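import Mathlib
import Cfsg.Agent.Lib.Helper98_AschDefs
import Cfsg.Agent.Lib.Helper98_AschCliff
import Cfsg.Agent.Lib.Helper23_FormDefs
import Cfsg.Agent.Lib.Helper98_Form_F2a

/-!
# FORM package F2 (helper23's form packages for S5662 / S5663; proved by helper98)

Clifford's theorem for a normalized adjoint-closed subalgebra, with a form: the isotypic components are paired
by the form, so they give a non-degenerate orthogonal decomposition or a pair of totally singular subspaces;
otherwise the module is isotypic and the algebra has a centre field or is a tensor algebra.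
-/

set_option autoImplicit false
set_option linter.unusedSectionVars false
set_option linter.unusedVariables false
set_option linter.style.haveILetI false

namespace Cfsg.Agent.Lib.Helper98_Form_F2

open Module Cfsg.Agent.Lib.Helper23_FormDefs Cfsg.Agent.Lib.Helper98_Form_F2a
open Cfsg.Agent.Lib.Helper98_AschCliffB

variable {F : Type*} [Field F] {V : Type*} [AddCommGroup V] [Module F V]

section kernels
variable {σ : F ≃+* F} {B : V → V → F} (hB : IsSesq σ B)

/-- `{v | B y v = 0}` as a subspace -/
def kerR (y : V) : Submodule F V where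
  carrier := {v | B y v = 0}
  add_mem' := by
    intro a b ha hb
    change B y (a + b) = 0
    rw [hB.add_right, ha, hb, add_zero]
  zero_mem' := zero_right hB y
  smul_mem' := by
    intro c v hv
    change B y (c • v) = 0
    rw [hB.smul_right, hv, mul_zero]

/-- `{u | B u w = 0}` as a subspace -/
def kerL (w : V) : Submodule F V := LinearMap.ker (BL hB w)

lemma mem_kerR {y v : V} : v ∈ kerR hB y ↔ B y v = 0 := Iff.rfl
lemma mem_kerL {w u : V} : u ∈ kerL hB w ↔ B u w = 0 := by
  unfold kerL
  rw [LinearMap.mem_ker]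
  rfl

include hB in
/-- pairwise orthogonal subspaces, each non-degenerate, are independent -/
theorem indep_of_orth {κ : Type*} (D : κ → Submodule F V)
    (orth : ∀ i j, i ≠ j → ∀ u ∈ D i, ∀ v ∈ D j, B u v = 0)
    (nd : ∀ i, ∀ w ∈ D i, w ≠ 0 → ∃ x ∈ D i, B x w ≠ 0) : iSupIndep D := by
  intro i
  rw [Submodule.disjoint_def]
  intro x hx hx2
  by_contra hx0
  obtain ⟨y, hy, hyx⟩ := nd i x hx hx0
  apply hyx
  have hle : (⨆ j, ⨆ (_ : j ≠ i), D j) ≤ kerR hB y := by
    apply iSup_le
    intro j
    apply iSup_le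
    intro hji v hv
    exact orth i j (Ne.symm hji) y hy v hv
  exact hle hx2

end kernels


section core
variable [FiniteDimensional F V] [Nontrivial V]
variable {H : Subgroup (V ≃ₗ[F] V)} {A : Subalgebra F (Module.End F V)}

/-- hypotheses bundle: Clifford setup plus an invariant form for which `A` is adjoint-closed -/
structure FSetup (H : Subgroup (V ≃ₗ[F] V)) (A : Subalgebra F (Module.End F V)) (σ : F ≃+* F)
    (B : V → V → F) : Prop where
  setup : Setup H A
  sesq : IsSesq σ B
  nondeg : IsNondeg B
  refl : IsRefl B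
  adj : ∀ a ∈ A, ∃ a' ∈ A, ∀ u v, B (a u) v = B u (a' v)
  fix : ∀ h ∈ H, ∀ u v, B (h u) (h v) = B u v

/-- two submodules pair non-trivially -/
def Pairs (B : V → V → F) (d e : Submodule A V) : Prop := ∃ u ∈ d, ∃ v ∈ e, B u v ≠ 0

lemma not_pairs {B : V → V → F} {d e : Submodule A V} (h : ¬ Pairs B d e) :
    ∀ u ∈ d, ∀ v ∈ e, B u v = 0 := by
  intro u hu v hv
  by_contra h0
  exact h ⟨u, hu, v, hv, h0⟩

variable {σ : F ≃+* F} {B : V → V → F} (T : FSetup H A σ B)
include T

lemma Pairs.symm' {d e : Submodule A V} (h : Pairs B d e) : Pairs B e d := by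
  obtain ⟨u, hu, v, hv, huv⟩ := h
  exact ⟨v, hv, u, hu, fun h0 => huv (T.refl _ _ h0)⟩

lemma Pairs.act' {h : V ≃ₗ[F] V} (hh : h ∈ H) {d e : Submodule A V} (hp : Pairs B d e) :
    Pairs B (T.setup.act h hh d) (T.setup.act h hh e) := by
  obtain ⟨u, hu, v, hv, huv⟩ := hp
  refine ⟨h u, (T.setup.mem_act hh).2 ⟨u, hu, rfl⟩, h v, (T.setup.mem_act hh).2 ⟨v, hv, rfl⟩, ?_⟩
  rwa [T.fix h hh]

open Classical in
/-- the partner of an isotypic component -/
noncomputable def partner (c : Submodule A V) : Submodule A V :=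
  if hc : c ∈ isotypicComponents A V then
    Classical.choose (F2a T.setup σ B T.sesq T.nondeg T.refl T.adj c hc) else c

lemma partner_spec {c : Submodule A V} (hc : c ∈ isotypicComponents A V) :
    partner T c ∈ isotypicComponents A V ∧ Pairs B c (partner T c) ∧
      ∀ c'' : Submodule A V, c'' ∈ isotypicComponents A V → Pairs B c c'' → c'' = partner T c := by
  unfold partner
  rw [dif_pos hc]
  exact Classical.choose_spec (F2a T.setup σ B T.sesq T.nondeg T.refl T.adj c hc)

lemma partner_mem {c : Submodule A V} (hc : c ∈ isotypicComponents A V) :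
    partner T c ∈ isotypicComponents A V := (partner_spec T hc).1

lemma partner_pairs {c : Submodule A V} (hc : c ∈ isotypicComponents A V) :
    Pairs B c (partner T c) := (partner_spec T hc).2.1

lemma partner_unique {c d : Submodule A V} (hc : c ∈ isotypicComponents A V)
    (hd : d ∈ isotypicComponents A V) (hp : Pairs B c d) : d = partner T c :=
  (partner_spec T hc).2.2 d hd hp

lemma partner_partner {c : Submodule A V} (hc : c ∈ isotypicComponents A V) :
    partner T (partner T c) = c :=
  (partner_unique T (partner_mem T hc) hc (Pairs.symm' T (partner_pairs T hc))).symm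

lemma partner_act {c : Submodule A V} (hc : c ∈ isotypicComponents A V) {h : V ≃ₗ[F] V} (hh : h ∈ H) :
    partner T (T.setup.act h hh c) = T.setup.act h hh (partner T c) :=
  (partner_unique T (T.setup.act_mem hh hc) (T.setup.act_mem hh (partner_mem T hc))
    (Pairs.act' T hh (partner_pairs T hc))).symm

lemma partner_injective {c d : Submodule A V} (hc : c ∈ isotypicComponents A V)
    (hd : d ∈ isotypicComponents A V) (h : partner T c = partner T d) : c = d := by
  rw [← partner_partner T hc, h, partner_partner T hd]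

/-- the block of a component: the component plus its partner -/
noncomputable def blk (c : Submodule A V) : Submodule F V :=
  c.restrictScalars F ⊔ (partner T c).restrictScalars F

lemma le_blk (c : Submodule A V) : c.restrictScalars F ≤ blk T c := le_sup_left

lemma blk_partner {c : Submodule A V} (hc : c ∈ isotypicComponents A V) :
    blk T (partner T c) = blk T c := by
  unfold blk
  rw [partner_partner T hc, sup_comm]

lemma blk_map {c : Submodule A V} (hc : c ∈ isotypicComponents A V) {h : V ≃ₗ[F] V} (hh : h ∈ H) :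
    (blk T c).map (h : V →ₗ[F] V) = blk T (T.setup.act h hh c) := by
  unfold blk
  rw [Submodule.map_sup, ← T.setup.act_restrictScalars hh, ← T.setup.act_restrictScalars hh,
    partner_act T hc hh]

lemma mem_blk {c : Submodule A V} {u : V} :
    u ∈ blk T c ↔ ∃ u₁ ∈ c, ∃ u₂ ∈ partner T c, u₁ + u₂ = u := by
  unfold blk
  rw [Submodule.mem_sup]
  rfl

lemma blk_orth {c d : Submodule A V} (hc : c ∈ isotypicComponents A V)
    (hd : d ∈ isotypicComponents A V) (hne : blk T c ≠ blk T d) :
    ∀ u ∈ blk T c, ∀ v ∈ blk T d, B u v = 0 := by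
  have hB := T.sesq
  have h1 : ¬ Pairs B c d := by
    intro hp
    apply hne
    rw [partner_unique T hc hd hp, blk_partner T hc]
  have h2 : ¬ Pairs B c (partner T d) := by
    intro hp
    apply hne
    have := partner_unique T hc (partner_mem T hd) hp
    rw [partner_injective T hc hd this.symm]
  have h3 : ¬ Pairs B (partner T c) d := by
    intro hp
    apply hne
    have := partner_unique T (partner_mem T hc) hd hp
    rw [partner_partner T hc] at this
    rw [this]
  have h4 : ¬ Pairs B (partner T c) (partner T d) := by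
    intro hp
    apply hne
    have := partner_unique T (partner_mem T hc) (partner_mem T hd) hp
    rw [partner_partner T hc] at this
    rw [← this, blk_partner T hd]
  intro u hu v hv
  obtain ⟨u₁, hu₁, u₂, hu₂, rfl⟩ := (mem_blk T).1 hu
  obtain ⟨v₁, hv₁, v₂, hv₂, rfl⟩ := (mem_blk T).1 hv
  rw [hB.add_left, hB.add_right, hB.add_right, not_pairs h1 u₁ hu₁ v₁ hv₁, not_pairs h2 u₁ hu₁ v₂ hv₂,
    not_pairs h3 u₂ hu₂ v₁ hv₁, not_pairs h4 u₂ hu₂ v₂ hv₂]
  simp

lemma blk_nondeg {c : Submodule A V} (hc : c ∈ isotypicComponents A V) :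
    ∀ w ∈ blk T c, w ≠ 0 → (∃ x ∈ blk T c, B x w ≠ 0) ∧ (∃ x ∈ blk T c, B w x ≠ 0) := by
  classical
  have hB := T.sesq
  haveI := T.setup.semisimple
  intro w hw hw0
  set R : Submodule A V := sSup (isotypicComponents A V \ {c, partner T c}) with hR
  have htop : (⊤ : Submodule A V) ≤ (c ⊔ partner T c) ⊔ R := by
    rw [← sSup_isotypicComponents A V]
    apply sSup_le
    intro d hd
    by_cases h1 : d = c
    · rw [h1]
      exact le_sup_of_le_left le_sup_left
    by_cases h2 : d = partner T c
    · rw [h2]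
      exact le_sup_of_le_left le_sup_right
    · apply le_sup_of_le_right
      apply le_sSup
      refine ⟨hd, ?_⟩
      simp only [Set.mem_insert_iff, Set.mem_singleton_iff, not_or]
      exact ⟨h1, h2⟩
  -- R is orthogonal to w
  obtain ⟨w₁, hw₁, w₂, hw₂, hw12⟩ := (mem_blk T).1 hw
  have hRw : ∀ y ∈ R, B y w = 0 := by
    have hle : R.restrictScalars F ≤ kerL hB w := by
      rw [hR, Submodule.restrictScalars_sSup]
      apply sSup_le
      rintro _ ⟨d, ⟨hd, hdn⟩, rfl⟩
      simp only [Set.mem_insert_iff, Set.mem_singleton_iff, not_or] at hdn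
      intro y hy
      rw [mem_kerL]
      have h1 : ¬ Pairs B d c := by
        intro hp
        have := partner_unique T hd hc hp
        apply hdn.2
        rw [this, partner_partner T hd]
      have h2 : ¬ Pairs B d (partner T c) := by
        intro hp
        have := partner_unique T hd (partner_mem T hc) hp
        exact hdn.1 (partner_injective T hd hc this.symm)
      rw [← hw12, hB.add_right, not_pairs h1 y hy w₁ hw₁, not_pairs h2 y hy w₂ hw₂, add_zero]
    intro y hy
    exact (mem_kerL hB).1 (hle hy)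
  have hsplit : ∀ x : V, ∃ x' ∈ blk T c, ∃ y ∈ R, x' + y = x := by
    intro x
    have hx : x ∈ (c ⊔ partner T c) ⊔ R := htop trivial
    obtain ⟨x', hx', y, hy, hxy⟩ := Submodule.mem_sup.1 hx
    refine ⟨x', ?_, y, hy, hxy⟩
    obtain ⟨a, ha, b, hb, hab⟩ := Submodule.mem_sup.1 hx'
    exact (mem_blk T).2 ⟨a, ha, b, hb, hab⟩
  obtain ⟨⟨x, hx⟩, ⟨z, hz⟩⟩ := T.nondeg w hw0
  constructor
  · obtain ⟨x', hx', y, hy, rfl⟩ := hsplit x
    refine ⟨x', hx', ?_⟩
    rw [hB.add_left, hRw y hy, add_zero] at hx
    exact hx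
  · obtain ⟨z', hz', y, hy, rfl⟩ := hsplit z
    refine ⟨z', hz', ?_⟩
    rw [hB.add_right, T.refl _ _ (hRw y hy), add_zero] at hz
    exact hz


lemma blk_ne_bot {c : Submodule A V} (hc : c ∈ isotypicComponents A V) : blk T c ≠ ⊥ := by
  intro h0
  have h1 : c.restrictScalars F ≤ ⊥ := h0 ▸ le_blk T c
  have h2 : c = ⊥ := by
    rw [← Submodule.restrictScalars_eq_bot_iff (S := F)]
    exact le_bot_iff.1 h1
  exact (bot_lt_isotypicComponents hc).ne' h2

lemma iSup_blk : (⨆ c ∈ isotypicComponents A V, blk T c) = ⊤ := by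
  haveI := T.setup.semisimple
  rw [eq_top_iff]
  have h1 : (⊤ : Submodule F V) = (sSup (isotypicComponents A V)).restrictScalars F := by
    rw [sSup_isotypicComponents, Submodule.restrictScalars_top]
  rw [h1, Submodule.restrictScalars_sSup]
  apply sSup_le
  rintro _ ⟨c, hc, rfl⟩
  exact (le_blk T c).trans (le_iSup₂ (f := fun c _ => blk T c) c hc)

/-- **Clifford's theorem with a form, abstract version.** -/
theorem form_decomp :
    (∃ (t m : ℕ) (D : Fin t → Submodule F V), 2 ≤ t ∧ 0 < m ∧ (∀ i, finrank F (D i) = m) ∧ iSupIndep D ∧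
      iSup D = ⊤ ∧ (∀ h ∈ H, ∃ π : Equiv.Perm (Fin t), ∀ i, (D i).map (h : V →ₗ[F] V) = D (π i)) ∧
      (∀ i, ∀ w ∈ D i, w ≠ 0 → (∃ x ∈ D i, B x w ≠ 0) ∧ (∃ x ∈ D i, B w x ≠ 0)) ∧
      (∀ i j, i ≠ j → ∀ u ∈ D i, ∀ v ∈ D j, B u v = 0)) ∨
    (∃ (m : ℕ) (D : Fin 2 → Submodule F V), 0 < m ∧ (∀ i, finrank F (D i) = m) ∧ iSupIndep D ∧
      iSup D = ⊤ ∧ (∀ h ∈ H, ∃ π : Equiv.Perm (Fin 2), ∀ i, (D i).map (h : V →ₗ[F] V) = D (π i)) ∧
      (∀ i, ∀ u ∈ D i, ∀ v ∈ D i, B u v = 0)) ∨
    IsIsotypic A V := by
  classical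
  have hB := T.sesq
  have S := T.setup
  haveI := S.semisimple
  set 𝒞 := isotypicComponents A V with h𝒞
  set 𝒬 : Set (Submodule F V) := blk T '' 𝒞 with h𝒬
  haveI : Finite 𝒬 := by
    rw [h𝒬]
    exact Set.Finite.image _ (Set.toFinite 𝒞)
  -- a component
  obtain ⟨S₀, hS₀⟩ := IsAtomic.exists_atom (Submodule A V)
  haveI : IsSimpleModule A S₀ := isSimpleModule_iff_isAtom.2 hS₀
  have hc₀ : isotypicComponent A V S₀ ∈ 𝒞 := ⟨S₀, inferInstance, rfl⟩
  set c₀ := isotypicComponent A V S₀ with hc₀def
  set t := Nat.card 𝒬 with ht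
  have e : 𝒬 ≃ Fin t := Finite.equivFin 𝒬
  set D : Fin t → Submodule F V := fun i => (e.symm i : Submodule F V) with hD
  have hDmem : ∀ i, ∃ c ∈ 𝒞, D i = blk T c := by
    intro i
    obtain ⟨c, hc, h⟩ := (e.symm i).2
    exact ⟨c, hc, h.symm⟩
  have hDinj : Function.Injective D := fun i j hij => e.symm.injective (Subtype.ext hij)
  have hDsurj : ∀ c ∈ 𝒞, ∃ i, D i = blk T c := by
    intro c hc
    refine ⟨e ⟨blk T c, c, hc, rfl⟩, ?_⟩
    simp [hD]
  by_cases ht2 : 2 ≤ t
  · left
    obtain ⟨i₀, hi₀⟩ := hDsurj c₀ hc₀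
    have hm : ∀ i, finrank F (D i) = finrank F (D i₀) := by
      intro i
      obtain ⟨c, hc, hi⟩ := hDmem i
      obtain ⟨h, hh, h1⟩ := S.transitive hc₀ hc
      rw [hi, hi₀, ← h1, ← blk_map T hc₀ hh]
      exact LinearEquiv.finrank_map_eq h (blk T c₀)
    have hnd : ∀ i, ∀ w ∈ D i, w ≠ 0 → (∃ x ∈ D i, B x w ≠ 0) ∧ (∃ x ∈ D i, B w x ≠ 0) := by
      intro i
      obtain ⟨c, hc, hi⟩ := hDmem i
      rw [hi]
      exact blk_nondeg T hc
    have horth : ∀ i j, i ≠ j → ∀ u ∈ D i, ∀ v ∈ D j, B u v = 0 := by
      intro i j hij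
      obtain ⟨c, hc, hi⟩ := hDmem i
      obtain ⟨d, hd, hj⟩ := hDmem j
      have hne : blk T c ≠ blk T d := by
        rw [← hi, ← hj]
        exact fun h => hij (hDinj h)
      rw [hi, hj]
      exact blk_orth T hc hd hne
    refine ⟨t, finrank F (D i₀), D, ht2, ?_, hm, ?_, ?_, ?_, hnd, horth⟩
    · rw [Nat.pos_iff_ne_zero]
      intro h0
      have h1 : D i₀ = ⊥ := Submodule.finrank_eq_zero.1 h0
      rw [hi₀] at h1
      exact blk_ne_bot T hc₀ h1
    · exact indep_of_orth hB D horth (fun i w hw hw0 => (hnd i w hw hw0).1)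
    · rw [eq_top_iff, ← iSup_blk T]
      apply iSup₂_le
      intro c hc
      obtain ⟨i, hi⟩ := hDsurj c hc
      rw [← hi]
      exact le_iSup D i
    · intro h hh
      have hf : ∀ i, ∃ j, D j = (D i).map (h : V →ₗ[F] V) := by
        intro i
        obtain ⟨c, hc, hi⟩ := hDmem i
        obtain ⟨j, hj⟩ := hDsurj _ (S.act_mem hh hc)
        exact ⟨j, by rw [hj, hi, blk_map T hc hh]⟩
      have hg : ∀ i, ∃ j, D j = (D i).map ((h⁻¹ : V ≃ₗ[F] V) : V →ₗ[F] V) := by
        intro i
        obtain ⟨c, hc, hi⟩ := hDmem i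
        obtain ⟨j, hj⟩ := hDsurj _ (S.act_mem (H.inv_mem hh) hc)
        exact ⟨j, by rw [hj, hi, blk_map T hc (H.inv_mem hh)]⟩
      choose f hf using hf
      choose g hg using hg
      have hcancel1 : ∀ W : Submodule F V,
          (W.map (h : V →ₗ[F] V)).map ((h⁻¹ : V ≃ₗ[F] V) : V →ₗ[F] V) = W := by
        intro W
        ext v
        simp only [Submodule.mem_map, LinearEquiv.coe_coe]
        constructor
        · rintro ⟨_, ⟨w, hw, rfl⟩, rfl⟩
          have : (h⁻¹ : V ≃ₗ[F] V) (h w) = w := by
            change (h⁻¹ * h) w = w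
            rw [inv_mul_cancel]
            rfl
          rwa [this]
        · intro hv
          refine ⟨h v, ⟨v, hv, rfl⟩, ?_⟩
          change (h⁻¹ * h) v = v
          rw [inv_mul_cancel]
          rfl
      have hcancel2 : ∀ W : Submodule F V,
          (W.map ((h⁻¹ : V ≃ₗ[F] V) : V →ₗ[F] V)).map (h : V →ₗ[F] V) = W := by
        intro W
        ext v
        simp only [Submodule.mem_map, LinearEquiv.coe_coe]
        constructor
        · rintro ⟨_, ⟨w, hw, rfl⟩, rfl⟩
          have : h ((h⁻¹ : V ≃ₗ[F] V) w) = w := by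
            change (h * h⁻¹) w = w
            rw [mul_inv_cancel]
            rfl
          rwa [this]
        · intro hv
          refine ⟨(h⁻¹ : V ≃ₗ[F] V) v, ⟨v, hv, rfl⟩, ?_⟩
          change (h * h⁻¹) v = v
          rw [mul_inv_cancel]
          rfl
      refine ⟨⟨f, g, ?_, ?_⟩, fun i => (hf i).symm⟩
      · intro i
        apply hDinj
        rw [hg, hf, hcancel1]
      · intro i
        apply hDinj
        rw [hf, hg, hcancel2]
  · right
    -- only one block
    have ht1 : t = 1 := by
      have : 0 < t := by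
        rw [ht]
        haveI : Nonempty 𝒬 := ⟨⟨blk T c₀, c₀, hc₀, rfl⟩⟩
        exact Nat.card_pos
      omega
    have hsub : Subsingleton 𝒬 := by
      rw [← Finite.card_le_one_iff_subsingleton, ← ht, ht1]
    have hall : ∀ c ∈ 𝒞, blk T c = blk T c₀ := by
      intro c hc
      have := Subsingleton.elim (⟨blk T c, c, hc, rfl⟩ : 𝒬) ⟨blk T c₀, c₀, hc₀, rfl⟩
      exact congrArg Subtype.val this
    have htop : blk T c₀ = ⊤ := by
      rw [eq_top_iff, ← iSup_blk T]
      apply iSup₂_le
      intro c hc
      rw [hall c hc]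
    have htopA : c₀ ⊔ partner T c₀ = ⊤ := by
      rw [← Submodule.restrictScalars_eq_top_iff (S := F), Submodule.restrictScalars_sup]
      exact htop
    by_cases hp : partner T c₀ = c₀
    · right
      rw [hp, sup_idem] at htopA
      exact (IsIsotypicOfType.of_isotypicComponent_eq_top htopA).isIsotypic
    · left
      have hpm := partner_mem T hc₀
      -- the only components are c₀ and its partner
      have honly : ∀ d ∈ 𝒞, d = c₀ ∨ d = partner T c₀ := by
        intro d hd
        by_contra hcon
        rw [not_or] at hcon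
        have hind := sSupIndep_isotypicComponents A V
        have h1 : Disjoint d (sSup {c₀, partner T c₀}) := by
          apply hind.disjoint_sSup hd
          · intro x hx
            rcases hx with rfl | rfl
            · exact hc₀
            · exact hpm
          · intro hx
            rcases hx with h | h
            · exact hcon.1 h
            · exact hcon.2 h
        rw [sSup_pair, htopA, disjoint_top] at h1
        exact (bot_lt_isotypicComponents hd).ne' h1
      set D2 : Fin 2 → Submodule F V :=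
        ![c₀.restrictScalars F, (partner T c₀).restrictScalars F] with hD2
      obtain ⟨h₁, hh₁, h₁c⟩ := S.transitive hc₀ hpm
      have hfr : finrank F ((partner T c₀).restrictScalars F) = finrank F (c₀.restrictScalars F) := by
        rw [← h₁c, S.act_restrictScalars hh₁]
        exact LinearEquiv.finrank_map_eq h₁ _
      refine ⟨finrank F (c₀.restrictScalars F), D2, ?_, ?_, ?_, ?_, ?_, ?_⟩
      · rw [Nat.pos_iff_ne_zero]
        intro h0
        have h1 : c₀.restrictScalars F = ⊥ := Submodule.finrank_eq_zero.1 h0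
        have h2 : c₀ = ⊥ := by
          rw [← Submodule.restrictScalars_eq_bot_iff (S := F)]
          exact h1
        exact (bot_lt_isotypicComponents hc₀).ne' h2
      · intro i
        fin_cases i
        · rfl
        · exact hfr
      · rw [iSupIndep_pair (i := (0 : Fin 2)) (j := 1) (by decide) (by
          intro k
          fin_cases k
          · left; rfl
          · right; rfl)]
        change Disjoint (c₀.restrictScalars F) ((partner T c₀).restrictScalars F)
        rw [Submodule.disjoint_restrictScalars_iff]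
        exact (sSupIndep_isotypicComponents A V).pairwiseDisjoint hc₀ hpm (fun h => hp h.symm)
      · rw [eq_top_iff, ← htop]
        unfold blk
        apply sup_le
        · exact le_iSup D2 0
        · exact le_iSup D2 1
      · intro h hh
        rcases honly _ (S.act_mem hh hc₀) with h1 | h1
        · refine ⟨1, fun i => ?_⟩
          fin_cases i
          · change (c₀.restrictScalars F).map (h : V →ₗ[F] V) = c₀.restrictScalars F
            rw [← S.act_restrictScalars hh, h1]
          · change ((partner T c₀).restrictScalars F).map (h : V →ₗ[F] V) =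
              (partner T c₀).restrictScalars F
            rw [← S.act_restrictScalars hh, ← partner_act T hc₀ hh, h1]
        · refine ⟨Equiv.swap 0 1, fun i => ?_⟩
          fin_cases i
          · change (c₀.restrictScalars F).map (h : V →ₗ[F] V) = (partner T c₀).restrictScalars F
            rw [← S.act_restrictScalars hh, h1]
          · change ((partner T c₀).restrictScalars F).map (h : V →ₗ[F] V) = c₀.restrictScalars F
            rw [← S.act_restrictScalars hh, ← partner_act T hc₀ hh, h1, partner_partner T hc₀]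
      · have hn1 : ¬ Pairs B c₀ c₀ := by
          intro hpair
          exact hp (partner_unique T hc₀ hc₀ hpair).symm
        have hn2 : ¬ Pairs B (partner T c₀) (partner T c₀) := by
          intro hpair
          have := partner_unique T hpm hpm hpair
          rw [partner_partner T hc₀] at this
          exact hp this
        intro i
        fin_cases i
        · exact not_pairs hn1
        · exact not_pairs hn2

end core


section concrete

open Cfsg Cfsg.Geo Matrix Cfsg.Agent.Lib.Helper98_AschDefs Cfsg.Agent.Lib.Helper98_AschCliff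
open Cfsg.Agent.Lib.Helper98_AschCliffC
open scoped Kronecker

variable {ι : Type} [Fintype ι] [DecidableEq ι]

/-- the form setup for a group of isometries normalizing an adjoint-closed matrix subalgebra -/
lemma fsetup [Nonempty ι] (σ : F ≃+* F) (f : (ι → F) → (ι → F) → F) (hf : IsSesq σ f)
    (hnd : IsNondegenerateForm f) (hrefl : IsRefl f) (H : Subgroup (GL ι F))
    (hH : FixesForm (matrixSet H) f) (hirr : ActsIrreducibly (matrixSet H))
    (A : Subalgebra F (Matrix ι ι F)) (hA : NormalizesAlg H A) (hadj : IsAdjointClosedFor f A) :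
    FSetup (H.map (glL ι F).toMonoidHom) (algL A) σ f where
  setup := setup H hirr A hA
  sesq := hf
  nondeg := hnd
  refl := hrefl
  adj := by
    intro a ha
    obtain ⟨m, hm, rfl⟩ := mem_algL.1 ha
    obtain ⟨m', hm', h⟩ := hadj m hm
    refine ⟨Matrix.toLin' m', toLin'_mem_algL.2 hm', fun u v => ?_⟩
    rw [Matrix.toLin'_apply, Matrix.toLin'_apply]
    exact h u v
  fix := by
    rintro h ⟨g, hg, rfl⟩ u v
    have h1 := hH (g : Matrix ι ι F) ⟨g, hg, rfl⟩ u v
    change f (glL ι F g u) (glL ι F g v) = f u v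
    rw [glL_apply, glL_apply]
    exact h1

/-- F2: Clifford's theorem for a normalized adjoint-closed subalgebra, with a form -/
theorem F2 [Finite F] [Nonempty ι] (σ : F ≃+* F) (f : (ι → F) → (ι → F) → F) (hf : IsSesq σ f)
    (hnd : IsNondegenerateForm f) (hrefl : IsRefl f) (H : Subgroup (GL ι F)) (hH : FixesForm (matrixSet H) f)
    (hirr : ActsIrreducibly (matrixSet H)) (A : Subalgebra F (Matrix ι ι F)) (hA : NormalizesAlg H A)
    (hadj : IsAdjointClosedFor f A) :
    (∃ (t k : ℕ) (D : Fin t → Submodule F (ι → F)), IsNondegenerateMDecomposition f k D ∧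
        H ≤ decompositionStabilizer D) ∨
    (∃ (k : ℕ) (D : Fin 2 → Submodule F (ι → F)), IsMDecomposition k D ∧ (∀ i, IsTotallySingularFor f (D i)) ∧
        H ≤ decompositionStabilizer D) ∨
    ((∃ z ∈ A, (∀ a ∈ A, z * a = a * z) ∧ ∀ c : F, z ≠ c • (1 : Matrix ι ι F)) ∧
        ∀ x ∈ A, (∀ a ∈ A, x * a = a * x) → x ≠ 0 → ∃ y ∈ A, (∀ a ∈ A, y * a = a * y) ∧ x * y = 1) ∨
    (∃ (d s : ℕ) (e : ι ≃ Fin d × Fin s) (P : GL ι F), IsTensorAlg A d s e P) := by
  have hT := fsetup σ f hf hnd hrefl H hH hirr A hA hadj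
  have hS := hT.setup
  rcases form_decomp hT with ⟨t, m, D, ht, hm, hfr, hind, hsup, hperm, hnd', horth⟩ |
    ⟨m, D, hm, hfr, hind, hsup, hperm, hts⟩ | hiso
  · left
    refine ⟨t, m, D, ⟨⟨ht, hm, hfr, hind, hsup⟩, hnd', horth⟩, ?_⟩
    intro g hg
    obtain ⟨π, hπ⟩ := hperm (glL ι F g) (Subgroup.mem_map_of_mem _ hg)
    refine ⟨π, fun i => ?_⟩
    rw [← hπ i, glL_coe]
  · right
    left
    refine ⟨m, D, ⟨le_refl 2, hm, hfr, hind, hsup⟩, hts, ?_⟩
    intro g hg
    obtain ⟨π, hπ⟩ := hperm (glL ι F g) (Subgroup.mem_map_of_mem _ hg)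
    refine ⟨π, fun i => ?_⟩
    rw [← hπ i, glL_coe]
  · right
    right
    rcases isotypic_structure hS.semisimple hiso with ⟨⟨z, hz, hzc, hzs⟩, hinv⟩ | ⟨d, s, b, hb⟩
    · left
      obtain ⟨z₀, hz₀, rfl⟩ := mem_algL.1 hz
      constructor
      · refine ⟨z₀, hz₀, ?_, ?_⟩
        · intro a ha
          apply Matrix.toLin'.injective
          rw [tl_mul, tl_mul]
          exact hzc _ (toLin'_mem_algL.2 ha)
        · intro c hc
          apply hzs c
          rw [hc, map_smul, tl_one]
      · intro x hx hxc hx0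
        have h1 : ∀ a ∈ algL A, Matrix.toLin' x * a = a * Matrix.toLin' x := by
          intro a ha
          obtain ⟨m', hm', rfl⟩ := mem_algL.1 ha
          rw [← tl_mul, ← tl_mul, hxc m' hm']
        have h2 : Matrix.toLin' x ≠ 0 := by
          intro h0
          apply hx0
          apply Matrix.toLin'.injective
          rw [h0, map_zero]
        obtain ⟨y, hy, hyc, hxy⟩ := hinv _ (toLin'_mem_algL.2 hx) h1 h2
        obtain ⟨y₀, hy₀, rfl⟩ := mem_algL.1 hy
        refine ⟨y₀, hy₀, ?_, ?_⟩
        · intro a ha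
          apply Matrix.toLin'.injective
          rw [tl_mul, tl_mul]
          exact hyc _ (toLin'_mem_algL.2 ha)
        · apply Matrix.toLin'.injective
          rw [tl_mul, hxy, tl_one]
    · right
      set e : ι ≃ Fin d × Fin s := (Pi.basisFun F ι).indexEquiv b with he
      set P₀ : Matrix ι ι F := (Pi.basisFun F ι).toMatrix (b.reindex e.symm) with hP₀
      set Q₀ : Matrix ι ι F := (b.reindex e.symm).toMatrix (Pi.basisFun F ι) with hQ₀
      have hPQ : P₀ * Q₀ = 1 := Basis.toMatrix_mul_toMatrix_flip _ _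
      have hQP : Q₀ * P₀ = 1 := Basis.toMatrix_mul_toMatrix_flip _ _
      let P : GL ι F := ⟨P₀, Q₀, hPQ, hQP⟩
      refine ⟨d, s, e, P, fun a => ?_⟩
      have hconj : ∀ a' : Module.End F (ι → F), LinearMap.toMatrix' a' =
          P₀ * Matrix.reindex e.symm e.symm (LinearMap.toMatrix b b a') * Q₀ :=
        fun a' => toMatrix'_eq_conj b e a'
      constructor
      · intro ha
        obtain ⟨M, hM⟩ := (hb _).1 (toLin'_mem_algL.2 ha)
        refine ⟨M, ?_⟩
        have := hconj (Matrix.toLin' a)
        rw [LinearMap.toMatrix'_toLin', hM] at this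
        exact this
      · rintro ⟨M, hM⟩
        rw [← toLin'_mem_algL, hb]
        refine ⟨M, ?_⟩
        have h1 := hconj (Matrix.toLin' a)
        rw [LinearMap.toMatrix'_toLin'] at h1
        have h2 : P₀ * Matrix.reindex e.symm e.symm (LinearMap.toMatrix b b (Matrix.toLin' a)) * Q₀ =
            P₀ * Matrix.reindex e.symm e.symm (M ⊗ₖ (1 : Matrix (Fin s) (Fin s) F)) * Q₀ := by
          rw [← h1]
          exact hM
        have hcancel : ∀ X : Matrix ι ι F, Q₀ * (P₀ * X * Q₀) * P₀ = X := by
          intro X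
          calc Q₀ * (P₀ * X * Q₀) * P₀ = (Q₀ * P₀) * X * (Q₀ * P₀) := by simp only [mul_assoc]
            _ = X := by rw [hQP, one_mul, mul_one]
        have h3 : Matrix.reindex e.symm e.symm (LinearMap.toMatrix b b (Matrix.toLin' a)) =
            Matrix.reindex e.symm e.symm (M ⊗ₖ (1 : Matrix (Fin s) (Fin s) F)) := by
          rw [← hcancel (Matrix.reindex e.symm e.symm (LinearMap.toMatrix b b (Matrix.toLin' a))), h2,
            hcancel]
        exact (Matrix.reindex e.symm e.symm).injective h3

end concrete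

end Cfsg.Agent.Lib.Helper98_Form_F2
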