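import Mathlib
import Cfsg.Agent.Lib.Helper98_AschDefs
import Cfsg.Agent.Lib.Helper98_AschCliff
import Cfsg.Agent.Lib.Helper23_FormDefs
import Cfsg.Agent.Lib.Helper29_Asch_PKG0
import Cfsg.Agent.Lib.Helper29_Asch_PKP1
import Cfsg.Agent.Lib.Helper29_OrthOdd_Glue
import Cfsg.Agent.Lib.Helper7_OrthOdd_OG2
import Cfsg.Agent.Lib.Helper30_AschMax
import Cfsg.Agent.Lib.Helper98_AschMain
import Cfsg.Agent.Lib.Helper98_Decomp
import Cfsg.Agent.Lib.Helper22_OrthEven_Basic
import Cfsg.Agent.Lib.Helper22_OrthEven_Core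
import Cfsg.Agent.Lib.Helper22_OrthEven_EV23
import Cfsg.Agent.Lib.Helper52_Asch_PK7
import Cfsg.Agent.Lib.Helper94_OrthEven_EV4
import Cfsg.Agent.Lib.Helper94_OrthEven_EV6
import Cfsg.Agent.Lib.Helper32_OrthEven_EV7
import Cfsg.Agent.Lib.Helper70_OrthEven_EV12
import Cfsg.Agent.Lib.Helper98_Form_F2
import Cfsg.Agent.Lib.Helper71_Form_F3

/-!
# The irreducible case of the even-dimensional orthogonal rows, keeping the totally singular pair (helper22)

`irreducible_cases_ts`: the same as `Helper22_OrthEven_Irr.irreducible_cases`, but the second heading keeps the pair of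
complementary totally singular subspaces permuted by `H`.
-/

set_option autoImplicit false

open Cfsg Cfsg.Geo Matrix Cfsg.Agent.Lib.Helper98_AschDefs Cfsg.Agent.Lib.Helper23_FormDefs
open scoped Kronecker MatrixGroups

namespace Cfsg.Agent.Lib.Helper22_OrthEven_IrrPlus

open Cfsg.Agent.Lib.Helper22_OrthEven_Basic Cfsg.Agent.Lib.Helper22_OrthEven_Core

variable {ι : Type} [Fintype ι] [DecidableEq ι] {F : Type*} [Field F]

/-- the irreducible case, generically, keeping the pair of totally singular subspaces -/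
theorem irreducible_cases_ts [Fintype F] (n : ℕ) (hn : 7 ≤ n) (Q : (Fin n → F) → F)
    (hQ : IsNondegenerateQuadraticForm Q) (H : Subgroup (GL (Fin n) F)) (hH : IsMaximalIn (omegaGL Q) H)
    (hirr : ActsIrreducibly (matrixSet H)) :
    (∃ (t k : ℕ) (D : Fin t → Submodule F (Fin n → F)), t * k = n ∧ 2 ≤ t ∧ 0 < k ∧
        IsNondegenerateMDecomposition (QuadraticMap.polar Q) k D ∧ IsOrthogonalMDecomposition Q k D ∧
        H ≤ decompositionStabilizer D) ∨
    (∃ (k : ℕ) (D : Fin 2 → Submodule F (Fin n → F)), IsMDecomposition k D ∧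
        (∀ i, IsTotallySingularQuad Q (D i)) ∧ IsPlusTypeOn Q ⊤ ∧ H ≤ decompositionStabilizer D) ∨
    (∃ (r : ℕ) (K : Subalgebra F (Matrix (Fin n) (Fin n) F)), r.Prime ∧ r ∣ n ∧ IsFieldSubalgebra r K ∧
        IsAdjointClosedFor (QuadraticMap.polar Q) K ∧ H = subalgebraNormalizer K ⊓ omegaGL Q) ∨
    (∃ (N : Subgroup (GL (Fin n) F)) (d s : ℕ) (e : Fin n ≃ Fin d × Fin s) (P : GL (Fin n) F),
        N ≤ H ∧ NormalizesGrp H N ∧ ¬ N ≤ scalars (Fin n) F ∧
        (∀ M : Subgroup (GL (Fin n) F), M ≤ N → NormalizesGrp H M → M = N ∨ M ≤ scalars (Fin n) F) ∧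
        NormalizesAlg H (spanAlg N) ∧ IsAdjointClosedFor (QuadraticMap.polar Q) (spanAlg N) ∧
        IsTensorAlg (spanAlg N) d s e P ∧ 2 ≤ d ∧ 2 ≤ s ∧ d * s = n) ∨
    ((∃ j : ℕ, n = 2 ^ j) ∧ (4 ∣ n → IsPlusTypeOn Q ⊤)) ∨
    (∃ (N : Subgroup (GL (Fin n) F)) (k : ℕ) (S : Fin k → Subgroup (GL (Fin n) F)),
        N ≤ isometryGroup F Q ∧ spanAlg N = ⊤ ∧ 2 ≤ k ∧ (∀ i, S i ≤ N) ∧ (∀ i, NormalizesGrp N (S i)) ∧
        (∀ i, ¬ S i ≤ scalars (Fin n) F) ∧ (∀ i j, i ≠ j → ∀ x ∈ S i, ∀ y ∈ S j, x * y = y * x) ∧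
        ⨆ i, S i = N ∧ ∃ d : ℕ, 2 ≤ d ∧ n = d ^ k) ∨
    (∃ (F₁ : Subfield F) (r : ℕ) (P : GL (Fin n) F) (ζ : F), r.Prime ∧ Fintype.card F = Nat.card F₁ ^ r ∧ ζ ≠ 0 ∧
      IsQuadFormRationalStructure (fun v : Fin n → F => ζ * Q v) F₁ P ∧
      H = subfieldSubgroup F₁ P ⊓ omegaGL Q) ∨
    InOrthogonalResidualClass H := by
  classical
  have : Nonempty (Fin n) := ⟨⟨0, by omega⟩⟩
  have hcard : Fintype.card (Fin n) = n := Fintype.card_fin n
  have hHΩ : H ≤ omegaGL Q := hH.1.le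
  have hHI : H ≤ isometryGroup F Q := hHΩ.trans (omegaGL_le Q)
  have hglue := fun (M : Subgroup (GL (Fin n) F)) (hHM : H ≤ M) (hΩM : ¬ omegaGL Q ≤ M) =>
    eq_of_maximal hH hHM hΩM
  have hf := isSesq_of_bilinear hQ.polar_bilinear
  have hHZ : ¬ H ≤ scalars (Fin n) F := Cfsg.Agent.Lib.Helper29_OrthOdd_Glue.OG1 H (by omega) hirr
  obtain ⟨N, hNH, hnorm, hNZ, hmin⟩ := Cfsg.Agent.Lib.Helper29_Asch_PKG0.PKG0 H hHZ
  have hNI : N ≤ isometryGroup F Q := hNH.trans hHI
  have hA : NormalizesAlg H (spanAlg N) := normalizesAlg_spanAlg hnorm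
  have hAadj := Cfsg.Agent.Lib.Helper7_OrthOdd_OG2.OG2 Q hQ N hNI
  rcases Cfsg.Agent.Lib.Helper98_Form_F2.F2 (RingEquiv.refl F) (QuadraticMap.polar Q) hf hQ.nondegenerate
      (isRefl_polar Q) H (fixesForm_polar Q H hHI) hirr (spanAlg N) hA hAadj with
    ⟨t, k, D, hD, hHD⟩ | ⟨k, D, hD, hts, hHD⟩ | ⟨hz, hinv⟩ | ⟨d, s, e, P, hT⟩
  · -- non-degenerate decomposition
    left
    have hOD := Cfsg.Agent.Lib.Helper94_OrthEven_EV4.EV4 Q hQ H hHI hirr t k D hD hHD
    have htk : t * k = n := Cfsg.Agent.Lib.Helper98_Decomp.card_eq hD.decomp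
    exact ⟨t, k, D, htk, hD.decomp.two_le, hD.decomp.pos, hD, hOD, hHD⟩
  · right; left
    have h6 := Cfsg.Agent.Lib.Helper94_OrthEven_EV6.EV6 Q hQ H hHI hirr (by rw [hcard]; omega) k D hD hts hHD
    exact ⟨k, D, hD, h6.1, h6.2, hHD⟩
  · -- extension field
    right; right; left
    obtain ⟨r, K, hr, hK, hHK, hKadj⟩ := Cfsg.Agent.Lib.Helper71_Form_F3.F3 (RingEquiv.refl F)
      (QuadraticMap.polar Q) hf hQ.nondegenerate H (spanAlg N) hA hAadj hz hinv
    have hrn : r ∣ n := Cfsg.Agent.Lib.Helper30_AschMax.dvd_of_isFieldSubalgebra (by omega) hK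
    exact ⟨r, K, hr, hrn, hK, hKadj, hglue _ hHK
      (Cfsg.Agent.Lib.Helper32_OrthEven_EV7.EV7 Q hQ (by rw [hcard]; omega) r hr.two_le K hK)⟩
  · -- tensor algebra
    right; right; right
    have hds : d * s = n := by
      have := Fintype.card_congr e
      rw [hcard, Fintype.card_prod, Fintype.card_fin, Fintype.card_fin] at this
      exact this.symm
    have hd0 : d ≠ 0 := by rintro rfl; omega
    have hs0 : s ≠ 0 := by rintro rfl; omega
    by_cases hd1 : d = 1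
    · exfalso
      apply hNZ
      intro g hg
      obtain ⟨c, hc⟩ := (Cfsg.Agent.Lib.Helper29_OrthOdd_Glue.OG4 (spanAlg N) d s e P hT).2 hd1 _
        (coe_mem_spanAlg hg)
      exact Cfsg.Agent.Lib.Helper98_AschMain.mem_scalars_of_coe_eq hc
    by_cases hs1 : s = 1
    swap
    · left
      exact ⟨N, d, s, e, P, hNH, hnorm, hNZ, hmin, hA, hAadj, hT, by omega, by omega, hds⟩
    right
    have hspan : spanAlg N = ⊤ := (Cfsg.Agent.Lib.Helper29_OrthOdd_Glue.OG4 (spanAlg N) d s e P hT).1 hs1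
    have hcn : NormalizesGrp H ⁅N, N⁆ := Cfsg.Agent.Lib.Helper98_AschMain.normalizesGrp_commutator hnorm
    have hcle : ⁅N, N⁆ ≤ N := by
      rw [Subgroup.commutator_le]
      intro x hx y hy
      rw [commutatorElement_def]
      exact N.mul_mem (N.mul_mem (N.mul_mem hx hy) (N.inv_mem hx)) (N.inv_mem hy)
    rcases hmin ⁅N, N⁆ hcle hcn with hperf | hnil
    · right
      obtain ⟨k, S, hk0, hSN, hSnorm, hSZ, hcomm, hsup, hperm, htrans, hSmin⟩ :=
        Cfsg.Agent.Lib.Helper29_Asch_PKP1.PKP1 H N hNH hnorm hNZ hmin hperf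
      by_cases hk : 2 ≤ k
      · left
        exact ⟨N, k, S, hNI, hspan, hk, hSN, hSnorm, hSZ, hcomm, hsup,
          Cfsg.Agent.Lib.Helper22_OrthEven_EV23.EV23 n (by omega) H N hspan k hk S hSN hSnorm hSZ hcomm hsup
            htrans⟩
      · right
        have hk1 : k = 1 := by omega
        subst hk1
        have hS0 : S 0 = N := by
          rw [← hsup]
          apply le_antisymm
          · exact le_iSup S 0
          · apply iSup_le
            intro i
            rw [Subsingleton.elim i 0]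
        have hsimple : ∀ T : Subgroup (GL (Fin n) F), T ≤ N → NormalizesGrp N T →
            T = N ∨ T ≤ scalars (Fin n) F := by
          intro T hT hTn
          have := hSmin 0 T (hS0 ▸ hT) hTn
          rwa [hS0] at this
        exact perfect_one_case (by rw [hcard]; exact hn) Q hQ H hH N hNH hnorm hNZ hperf hspan hsimple
    · left
      have h12 := Cfsg.Agent.Lib.Helper70_OrthEven_EV12.EV12 Q hQ (by rw [hcard]; omega) N hNI hspan hnil
      rw [hcard] at h12
      exact h12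

end Cfsg.Agent.Lib.Helper22_OrthEven_IrrPlus
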