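import Mathlib
import Cfsg.Prelude.Def_GeometricClasses
import Cfsg.Agent.Lib.Helper32_OrthEven_EV2

/-!
helper32: package EV16 of helper22's market (even-dimensional orthogonal rows, batch 2):
`Ω(Q)` stabilises no direct sum decomposition into `t ≥ 2` blocks (dimension at least 7, any characteristic).
Abstract core: `finrank_le_of_perm` (an automorphism permuting the blocks of a decomposition and fixing none of them,
with `g - 1` of rank at most `r`, lives in dimension at most `3 r`), `mem_of_sieg_invariant` (a nonzero subspace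
invariant under all Siegel elements `sieg u z` with fixed singular `u` contains `u`), `no_decomp` (the Siegel elements
do not all permute the blocks of a decomposition).
-/

set_option autoImplicit false

namespace Cfsg.Agent.Lib.Helper32_OrthEven_EV16

open Module Cfsg.Agent.Lib.Helper94_Symp Cfsg.Agent.Lib.Helper94_OrthSmall
  Cfsg.Agent.Lib.Helper94_OrthSiegel Cfsg.Agent.Lib.Helper94_OrthSiegel2

section Perm

variable {F V : Type*} [Field F] [AddCommGroup V] [Module F V]

/-- an automorphism permuting the blocks of a decomposition and fixing no block, with `g - 1` of rank at most `r`: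
the dimension is at most `3 r` -/
theorem finrank_le_of_perm [FiniteDimensional F V] {t : ℕ} (D : Fin t → Submodule F V)
    (hind : iSupIndep D) (htop : iSup D = ⊤) (g : V ≃ₗ[F] V) (π : Equiv.Perm (Fin t))
    (hg : ∀ i, (D i).map (g : V →ₗ[F] V) = D (π i)) (hπ : ∀ i, π i ≠ i)
    (L : Submodule F V) (hL : ∀ x, g x - x ∈ L) : finrank F V ≤ 3 * finrank F L := by
  classical
  obtain ⟨T, -, hT⟩ := Finite.exists_le_maximal
    (p := fun T : Finset (Fin t) => ∀ i ∈ T, π i ∉ T) (a := ∅) (by simp)
  set W : Submodule F V := ⨆ i ∈ T, D i with hW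
  have hmapW : W.map (g : V →ₗ[F] V) = ⨆ i ∈ T.image π, D i := by
    rw [hW, Submodule.map_iSup, Finset.iSup_finset_image]
    simp_rw [Submodule.map_iSup, hg]
  have hdisj : Disjoint W (W.map (g : V →ₗ[F] V)) := by
    rw [hmapW, hW]
    have h1 : Disjoint (T : Set (Fin t)) ((T.image π : Finset (Fin t)) : Set (Fin t)) := by
      rw [Set.disjoint_left]
      intro i hi hi'
      rw [Finset.mem_coe, Finset.mem_image] at hi'
      obtain ⟨j, hj, rfl⟩ := hi'
      exact hT.1 j hj hi
    have h2 := hind.disjoint_biSup_biSup' h1 T.finite_toSet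
    simpa only [Finset.mem_coe] using h2
  -- the injective map `W → L`
  have hfrW : finrank F W ≤ finrank F L := by
    let φ : W →ₗ[F] L :=
      (((g : V →ₗ[F] V) - LinearMap.id).domRestrict W).codRestrict L (fun w => by
        simpa using hL w)
    apply LinearMap.finrank_le_finrank_of_injective (f := φ)
    rw [← LinearMap.ker_eq_bot, LinearMap.ker_eq_bot']
    intro w hw
    have h1 : g (w : V) - (w : V) = 0 := by
      have := congrArg (fun x : L => (x : V)) hw
      simpa [φ] using this
    have h2 : g (w : V) = (w : V) := sub_eq_zero.mp h1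
    have h3 : (w : V) ∈ W.map (g : V →ₗ[F] V) := ⟨w, w.2, h2⟩
    have h4 := Submodule.disjoint_def.mp hdisj (w : V) w.2 h3
    exact Subtype.ext h4
  -- the three translates of `W` cover
  have hcover : (⊤ : Submodule F V) ≤ W ⊔ W.map (g : V →ₗ[F] V) ⊔ W.map (g.symm : V →ₗ[F] V) := by
    rw [← htop]
    apply iSup_le
    intro i
    by_cases hiT : i ∈ T
    · exact le_sup_of_le_left (le_sup_of_le_left (le_biSup D hiT))
    · have hnot : ¬ (∀ j ∈ insert i T, π j ∉ insert i T) := by
        intro hP
        have := hT.2 hP (Finset.subset_insert i T)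
        exact hiT (this (Finset.mem_insert_self i T))
      push Not at hnot
      obtain ⟨j, hj, hj'⟩ := hnot
      rw [Finset.mem_insert] at hj hj'
      rcases hj with rfl | hj
      · rcases hj' with h | h
        · exact absurd h (hπ j)
        · -- `π j ∈ T`
          apply le_sup_of_le_right
          intro x hx
          refine ⟨g x, ?_, by simp⟩
          have : g x ∈ (D j).map (g : V →ₗ[F] V) := ⟨x, hx, rfl⟩
          rw [hg] at this
          exact le_biSup D h this
      · rcases hj' with h | h
        · -- `π j = i`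
          apply le_sup_of_le_left
          apply le_sup_of_le_right
          rw [← h, ← hg j]
          exact Submodule.map_mono (le_biSup D hj)
        · exact absurd h (hT.1 j hj)
  have h1 : finrank F (W.map (g : V →ₗ[F] V)) = finrank F W := LinearEquiv.finrank_map_eq g W
  have h2 : finrank F (W.map (g.symm : V →ₗ[F] V)) = finrank F W := LinearEquiv.finrank_map_eq g.symm W
  have h3 := Submodule.finrank_mono hcover
  rw [finrank_top] at h3
  have h4 := Submodule.finrank_add_le_finrank_add_finrank (W ⊔ W.map (g : V →ₗ[F] V)) (W.map (g.symm : V →ₗ[F] V))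
  have h5 := Submodule.finrank_add_le_finrank_add_finrank W (W.map (g : V →ₗ[F] V))
  omega

end Perm

section Abstract

variable {F V : Type*} [Field F] [AddCommGroup V] [Module F V]

variable (Q : V → F) (B : LinearMap.BilinForm F V)
  (hQs : ∀ (c : F) (v : V), Q (c • v) = c * c * Q v)
  (hQp : ∀ u v : V, Q (u + v) = Q u + Q v + B u v)

include hQs hQp in
/-- a nonzero subspace invariant under all Siegel elements `sieg u z` (`u` fixed, singular) contains `u` -/
theorem mem_of_sieg_invariant [FiniteDimensional F V] (hN : B.Nondegenerate) (h3 : 3 ≤ finrank F V)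
    {u : V} (hu : Q u = 0) (W : Submodule F V) (hW0 : W ≠ ⊥)
    (hinv : ∀ z : V, B u z = 0 → ∀ w ∈ W, sieg Q B u z w ∈ W) : u ∈ W := by
  have hsymm := B_symm Q B hQp
  have hR := B_isRefl Q B hQp
  obtain ⟨w, hwW, hw0⟩ := (Submodule.ne_bot_iff W).mp hW0
  set P : Submodule F V := B.orthogonal (Submodule.span F {u}) with hP
  have hPu : ∀ z, z ∈ P ↔ B u z = 0 := by
    intro z
    rw [hP, mem_orth]
    constructor
    · intro h
      exact h u (Submodule.subset_span (by simp))
    · intro h n hn
      obtain ⟨c, rfl⟩ := Submodule.mem_span_singleton.mp hn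
      rw [map_smul, LinearMap.smul_apply, h, smul_zero]
  have hdiff : ∀ z, B u z = 0 → B w u • z - B w z • u - (Q z * B w u) • u ∈ W := by
    intro z hz
    have h := hinv z hz w hwW
    rw [sieg_apply Q B hQs hQp hu hz] at h
    have : B w u • z - B w z • u - (Q z * B w u) • u =
        (w + B w u • z - B w z • u - (Q z * B w u) • u) - w := by abel
    rw [this]
    exact W.sub_mem h hwW
  by_cases hwu : B w u = 0
  · by_cases hex : ∃ z, B u z = 0 ∧ B w z ≠ 0
    · obtain ⟨z, hz, hwz⟩ := hex
      have h := hdiff z hz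
      rw [hwu] at h
      simp only [zero_smul, zero_sub, mul_zero, sub_zero] at h
      have h2 := W.smul_mem (-(B w z)⁻¹) h
      have h3 : (-(B w z)⁻¹) • -(B w z • u) = u := by
        rw [smul_neg, neg_smul, neg_neg, smul_smul, inv_mul_cancel₀ hwz, one_smul]
      rwa [h3] at h2
    · push Not at hex
      have hwPP : w ∈ B.orthogonal P := by
        rw [mem_orth]
        intro z hz
        rw [hsymm]
        exact hex z ((hPu z).mp hz)
      rw [hP, LinearMap.BilinForm.orthogonal_orthogonal hN hR] at hwPP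
      obtain ⟨c, rfl⟩ := Submodule.mem_span_singleton.mp hwPP
      have hc : c ≠ 0 := by
        rintro rfl
        simp at hw0
      have := W.smul_mem c⁻¹ hwW
      rwa [smul_smul, inv_mul_cancel₀ hc, one_smul] at this
  · have h2 : ∃ z₁, B u z₁ = 0 ∧ ∃ z₂, B u z₂ = 0 ∧ B z₁ z₂ ≠ 0 := by
      by_contra hcon
      push Not at hcon
      have hle : P ≤ B.orthogonal P := by
        intro z₂ hz₂
        rw [mem_orth]
        intro z₁ hz₁
        exact hcon z₁ ((hPu z₁).mp hz₁) z₂ ((hPu z₂).mp hz₂)
      rw [hP, LinearMap.BilinForm.orthogonal_orthogonal hN hR] at hle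
      have hfrS : finrank F (Submodule.span F ({u} : Set V)) ≤ 1 := by
        simpa using finrank_span_le_card (R := F) ({u} : Set V)
      have hfrK := LinearMap.BilinForm.finrank_orthogonal hN (Submodule.span F {u})
      have := Submodule.finrank_mono hle
      omega
    obtain ⟨z₁, hz₁, z₂, hz₂, h12⟩ := h2
    have ha := hdiff z₁ hz₁
    have hb := hdiff z₂ hz₂
    have hc := hdiff (z₁ + z₂) (by rw [map_add, hz₁, hz₂, add_zero])
    have h4 : (B z₁ z₂ * B w u) • u ∈ W := by
      have : (B z₁ z₂ * B w u) • u =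
          (B w u • z₁ - B w z₁ • u - (Q z₁ * B w u) • u) +
          (B w u • z₂ - B w z₂ • u - (Q z₂ * B w u) • u) -
          (B w u • (z₁ + z₂) - B w (z₁ + z₂) • u - (Q (z₁ + z₂) * B w u) • u) := by
        rw [hQp z₁ z₂, map_add]
        module
      rw [this]
      exact W.sub_mem (W.add_mem ha hb) hc
    have := W.smul_mem (B z₁ z₂ * B w u)⁻¹ h4
    rwa [smul_smul, inv_mul_cancel₀ (mul_ne_zero h12 hwu), one_smul] at this

include hQs hQp in
/-- the Siegel elements do not all permute the blocks of a direct sum decomposition (dimension at least 7) -/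
theorem no_decomp [Finite F] [FiniteDimensional F V] (hN : B.Nondegenerate) (h7 : 7 ≤ finrank F V)
    {t : ℕ} (ht : 2 ≤ t) (D : Fin t → Submodule F V) (hD0 : ∀ i, D i ≠ ⊥) (hind : iSupIndep D)
    (htop : iSup D = ⊤)
    (hperm : ∀ u z : V, Q u = 0 → B u z = 0 →
      ∃ σ : Equiv.Perm (Fin t), ∀ i, (D i).map (sieg Q B u z : V →ₗ[F] V) = D (σ i)) : False := by
  classical
  obtain ⟨u, -, hu0, hu⟩ := exists_singular_in Q B hQs hQp (⊤ : Submodule F V)
    (by rw [finrank_top]; omega)
  have hDinj : Function.Injective D := hind.injective hD0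
  have hmul : ∀ z z', B u z = 0 → B u z' = 0 → ∀ S : Submodule F V,
      (S.map (sieg Q B u z' : V →ₗ[F] V)).map (sieg Q B u z : V →ₗ[F] V) =
        S.map (sieg Q B u (z + z') : V →ₗ[F] V) := by
    intro z z' hz hz' S
    rw [← sieg_mul Q B hQs hQp hu hz hz', ← Submodule.map_comp]
    rfl
  have hone : ∀ S : Submodule F V, S.map (sieg Q B u 0 : V →ₗ[F] V) = S := by
    intro S
    rw [sieg_zero_right Q B hQs hQp hu]
    exact Submodule.map_id S
  -- the orbit relation
  let R : Fin t → Fin t → Prop := fun i j =>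
    ∃ z, B u z = 0 ∧ (D i).map (sieg Q B u z : V →ₗ[F] V) = D j
  have hRsymm : ∀ i j, R i j → R j i := by
    rintro i j ⟨z, hz, h⟩
    have hz' : B u (-z) = 0 := by rw [map_neg, hz, neg_zero]
    refine ⟨-z, hz', ?_⟩
    rw [← h, hmul (-z) z hz' hz, neg_add_cancel, hone]
  have hRtrans : ∀ i j l, R i j → R j l → R i l := by
    rintro i j l ⟨z, hz, h⟩ ⟨z', hz', h'⟩
    refine ⟨z' + z, by rw [map_add, hz, hz', add_zero], ?_⟩
    rw [← hmul z' z hz' hz, h, h']
  let S : Fin t → Submodule F V := fun i => ⨆ j ∈ {j | R i j}, D j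
  have hSinv : ∀ i z, B u z = 0 → ∀ w ∈ S i, sieg Q B u z w ∈ S i := by
    intro i z hz w hw
    have h1 : (S i).map (sieg Q B u z : V →ₗ[F] V) ≤ S i := by
      simp only [S, Submodule.map_iSup]
      apply iSup₂_le
      intro j hj
      obtain ⟨σ, hσ⟩ := hperm u z hu hz
      rw [hσ j]
      exact le_biSup D (show σ j ∈ {j | R i j} from hRtrans i j (σ j) hj ⟨z, hz, hσ j⟩)
    exact h1 ⟨w, hw, rfl⟩
  have hRrefl : ∀ i, R i i := fun i => ⟨0, by simp, hone (D i)⟩
  have huS : ∀ i, u ∈ S i := by
    intro i
    apply mem_of_sieg_invariant Q B hQs hQp hN (by omega) hu (S i) _ (hSinv i)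
    intro h
    apply hD0 i
    rw [eq_bot_iff, ← h]
    exact le_biSup D (show i ∈ {j | R i j} from hRrefl i)
  have htrans : ∀ i j, R i j := by
    intro i j
    by_contra hij
    have hdisj : Disjoint {l | R i l} {l | R j l} := by
      rw [Set.disjoint_left]
      intro l hl hl'
      exact hij (hRtrans i l j hl (hRsymm j l hl'))
    have h1 := hind.disjoint_biSup_biSup' hdisj (Set.toFinite _)
    exact hu0 (Submodule.disjoint_def.mp h1 u (huS i) (huS j))
  -- an element moving every block
  let i0 : Fin t := ⟨0, by omega⟩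
  let i1 : Fin t := ⟨1, by omega⟩
  have h01 : i0 ≠ i1 := by
    intro h
    have := congrArg Fin.val h
    simp [i0, i1] at this
  obtain ⟨z₁, hz₁, hg01⟩ := htrans i0 i1
  obtain ⟨π, hπ⟩ := hperm u z₁ hu hz₁
  have hfree : ∀ l, π l ≠ l := by
    intro l hl
    obtain ⟨z', hz', hl0⟩ := htrans l i0
    have h1 : (D i0).map (sieg Q B u z₁ : V →ₗ[F] V) = D i0 := by
      rw [← hl0, hmul z₁ z' hz₁ hz', add_comm, ← hmul z' z₁ hz' hz₁, hπ l, hl]
    rw [hg01] at h1
    exact h01 (hDinj h1).symm
  -- the rank of `g - 1` is at most two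
  let L : Submodule F V := Submodule.span F {u, z₁}
  have hL : ∀ x, sieg Q B u z₁ x - x ∈ L := by
    intro x
    rw [sieg_apply Q B hQs hQp hu hz₁]
    refine Submodule.mem_span_pair.mpr ⟨-(B x z₁) - Q z₁ * B x u, B x u, ?_⟩
    module
  have hfrL : finrank F L ≤ 2 := by
    have h6 := finrank_span_finset_le_card (R := F) ({u, z₁} : Finset V)
    have h7' : (({u, z₁} : Finset V) : Set V) = {u, z₁} := by simp
    rw [h7', Set.finrank] at h6
    have := Finset.card_le_two (a := u) (b := z₁)
    change finrank F (Submodule.span F ({u, z₁} : Set V)) ≤ 2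
    omega
  have := finrank_le_of_perm D hind htop (sieg Q B u z₁) π hπ hfree L hL
  omega

end Abstract

section Concrete

open Matrix Cfsg.Agent.Lib.Helper94_Bridge Cfsg.Agent.Lib.Helper94_OrthBridge
  Cfsg.Agent.Lib.Helper94_OrthGenBridge Cfsg.Agent.Lib.Helper32_OrthEven_EV2

variable {ι : Type} [Fintype ι] [DecidableEq ι] {F : Type*} [Field F]

/-- EV16: `Ω` stabilises no direct sum decomposition into `t ≥ 2` blocks of equal dimension -/
theorem EV16 [Fintype F] (Q : (ι → F) → F) (hQ : Cfsg.Geo.IsNondegenerateQuadraticForm Q)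
    (hn : 7 ≤ Fintype.card ι)
    (t k : ℕ) (D : Fin t → Submodule F (ι → F)) (hD : Cfsg.Geo.IsMDecomposition k D) :
    ¬ Cfsg.Geo.omegaGL Q ≤ Cfsg.Geo.decompositionStabilizer D := by
  intro hle
  refine no_decomp Q (polarForm Q hQ) (gen_hQs Q hQ) (gen_hQp Q hQ) (gen_hN Q hQ)
    (by rw [Module.finrank_fintype_fun_eq_card]; exact hn) hD.two_le D ?_ hD.indep hD.iSup_eq_top ?_
  · intro i h
    have h1 := hD.finrank_eq i
    rw [h, finrank_bot] at h1
    have := hD.pos
    omega
  · intro u z hu huz
    obtain ⟨σ, hσ⟩ := hle (sieg_symm_mem_omegaGL Q hQ hn hu huz)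
    refine ⟨σ, fun i => ?_⟩
    have key : Matrix.toLin' (((glEquiv ι F).symm (sieg Q (polarForm Q hQ) u z) :
        Matrix.GeneralLinearGroup ι F) : Matrix ι ι F) =
        (sieg Q (polarForm Q hQ) u z : (ι → F) →ₗ[F] (ι → F)) := by
      refine LinearMap.ext fun x => ?_
      rw [Matrix.toLin'_apply, ← glEquiv_apply, MulEquiv.apply_symm_apply]
      rfl
    rw [← key]
    exact hσ i

end Concrete

end Cfsg.Agent.Lib.Helper32_OrthEven_EV16
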