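import Mathlib
import Cfsg.Prelude.Def_GeometricClasses
import Cfsg.Agent.Lib.Helper22_OrthEven_Basic
import Cfsg.Agent.Lib.Helper40_QuadStd
import Cfsg.Agent.S2616

/-!
Package EV10 (architect helper22): a nondegenerate quadratic form in even dimension which (up to a
scalar) is defined over the subfield of index 2 is of plus type (helper35).

Method: descend `ζ • Q ∘ P` to a quadratic form `Q0` over the subfield `F₁`, take the standard basis
of S2616 over `F₁`; in the hyperbolic case the `e_i` span a totally singular half-dimensional space,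
in the elliptic case the anisotropic plane `x² + xy + ζ₀ y²` acquires a singular vector over `F`
because `t² + t + ζ₀` has a root in the quadratic extension (`exists_root`).

Reusable: `exists_root`, `finrank_eq_two`, `exists_quadratic`, `up`, `Q0`, `coe_Q0`, `coe_polar_Q0`,
`Q0_nondeg`, `ts_span`, `li_up`, `li_w`.
-/

set_option autoImplicit false

namespace Cfsg.Agent.Lib.Helper35_OrthEven_EV10

open Module Cfsg Cfsg.Geo Matrix Cfsg.Agent.Lib.Helper22_OrthEven_Basic
open scoped MatrixGroups

section field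

variable {F : Type*} [Field F]

/-- the degree of `F` over a subfield of index 2 -/
theorem finrank_eq_two [Fintype F] (F₁ : Subfield F) (hc : Fintype.card F = Nat.card F₁ ^ 2) :
    finrank F₁ F = 2 := by
  classical
  have : Fintype F₁ := Fintype.ofFinite F₁
  have h1 : Fintype.card F = Fintype.card F₁ ^ finrank F₁ F := Module.card_eq_pow_finrank
  rw [hc, Nat.card_eq_fintype_card] at h1
  have hq : 1 < Fintype.card F₁ := Fintype.one_lt_card
  exact (Nat.pow_right_injective hq h1).symm

/-- every element of `F` satisfies a monic quadratic equation over a subfield of index 2 -/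
theorem exists_quadratic [Fintype F] (F₁ : Subfield F) (hc : Fintype.card F = Nat.card F₁ ^ 2)
    (α : F) (hα : α ∉ F₁) : ∃ a c : F₁, α ^ 2 + (a : F) * α + (c : F) = 0 := by
  classical
  have hfr := finrank_eq_two F₁ hc
  have hnli : ¬ LinearIndependent F₁ ![(1 : F), α, α ^ 2] := by
    intro hli
    have := hli.fintype_card_le_finrank
    rw [hfr, Fintype.card_fin] at this
    omega
  rw [Fintype.not_linearIndependent_iff] at hnli
  obtain ⟨g, hg, hne⟩ := hnli
  rw [Fin.sum_univ_three] at hg
  simp only [Matrix.cons_val_zero, Matrix.cons_val_one, Matrix.cons_val_two, Matrix.head_cons,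
    Matrix.tail_cons] at hg
  have hg' : (g 0 : F) * 1 + (g 1 : F) * α + (g 2 : F) * α ^ 2 = 0 := hg
  have hg2 : g 2 ≠ 0 := by
    intro h2
    rw [h2, ZeroMemClass.coe_zero, zero_mul, add_zero] at hg'
    have hg1 : g 1 = 0 := by
      by_contra h1
      apply hα
      have h1' : (g 1 : F) ≠ 0 := fun h => h1 (Subtype.ext h)
      have : α = ((-(g 0) / g 1 : F₁) : F) := by
        push_cast
        field_simp
        linear_combination hg'
      rw [this]
      exact SetLike.coe_mem _
    rw [hg1, ZeroMemClass.coe_zero, zero_mul, add_zero] at hg'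
    have hg0 : g 0 = 0 := by
      apply Subtype.ext
      push_cast at hg' ⊢
      linear_combination hg'
    obtain ⟨i, hi⟩ := hne
    fin_cases i
    · exact hi hg0
    · exact hi hg1
    · exact hi h2
  have hg2' : (g 2 : F) ≠ 0 := fun h => hg2 (Subtype.ext h)
  refine ⟨g 1 / g 2, g 0 / g 2, ?_⟩
  push_cast
  field_simp
  linear_combination hg'

/-- a quadratic `t² + t + ζ₀` over a subfield of index 2 has a root in the big field -/
theorem exists_root [Fintype F] (F₁ : Subfield F) (hc : Fintype.card F = Nat.card F₁ ^ 2)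
    (ζ₀ : F₁) (hζ₀ : ∀ t : F₁, t ^ 2 + t + ζ₀ ≠ 0) : ∃ t : F, t ^ 2 + t + (ζ₀ : F) = 0 := by
  classical
  have : Fintype F₁ := Fintype.ofFinite F₁
  obtain ⟨α, hα⟩ : ∃ α : F, α ∉ F₁ := by
    by_contra hcon
    push Not at hcon
    have h1 : Fintype.card F₁ = Fintype.card F := Fintype.card_congr (Equiv.subtypeUnivEquiv hcon)
    rw [hc, Nat.card_eq_fintype_card] at h1
    have hq : 1 < Fintype.card F₁ := Fintype.one_lt_card
    nlinarith
  obtain ⟨a, c, hac0⟩ := exists_quadratic F₁ hc α hα
  have hac : ∀ z₁ z₂ : F₁, z₁ ^ 2 + a * z₁ * z₂ + c * z₂ ^ 2 = 0 → z₁ = 0 ∧ z₂ = 0 := by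
    intro z₁ z₂ h
    by_cases hz2 : z₂ = 0
    · subst hz2
      refine ⟨?_, rfl⟩
      have : z₁ ^ 2 = 0 := by
        rw [← h]; ring
      exact pow_eq_zero_iff (two_ne_zero) |>.mp this
    · exfalso
      have hz2' : (z₂ : F) ≠ 0 := fun h => hz2 (Subtype.ext h)
      have h' : (z₁ : F) ^ 2 + (a : F) * z₁ * z₂ + (c : F) * (z₂ : F) ^ 2 = 0 := by
        have := congrArg (fun x : F₁ => (x : F)) h
        simpa using this
      have hprod : (α * z₂ - z₁) * (α * z₂ + z₁ + a * z₂) = 0 := by
        linear_combination (z₂ : F) ^ 2 * hac0 - h'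
      rcases mul_eq_zero.mp hprod with h1 | h1
      · apply hα
        have : α = ((z₁ / z₂ : F₁) : F) := by
          push_cast
          field_simp
          linear_combination h1
        rw [this]
        exact SetLike.coe_mem _
      · apply hα
        have : α = (((-z₁ - a * z₂) / z₂ : F₁) : F) := by
          push_cast
          field_simp
          linear_combination h1
        rw [this]
        exact SetLike.coe_mem _
  obtain ⟨s, t, hst1, hst2⟩ :=
    Cfsg.Agent.Lib.Helper40_QuadStd.exists_binary_match ζ₀ a c hζ₀ hac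
  have hst1' : (2 : F) * s + t = a := by
    have := congrArg (fun x : F₁ => (x : F)) hst1
    push_cast at this
    exact this
  have hst2' : (s : F) ^ 2 + s * t + ζ₀ * (t : F) ^ 2 = c := by
    have := congrArg (fun x : F₁ => (x : F)) hst2
    simpa using this
  have ht : (t : F) ≠ 0 := by
    intro ht0
    apply hα
    have hsq : (α + s) ^ 2 = 0 := by
      rw [ht0] at hst1' hst2'
      linear_combination hac0 + α * hst1' + hst2'
    have : α = ((-s : F₁) : F) := by
      push_cast
      have := pow_eq_zero_iff (two_ne_zero) |>.mp hsq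
      linear_combination this
    rw [this]
    exact SetLike.coe_mem _
  refine ⟨(α + s) / t, ?_⟩
  field_simp
  linear_combination hac0 + α * hst1' + hst2'


end field

variable {ι : Type} [Fintype ι] [DecidableEq ι] {F : Type*} [Field F]

/-- coercion of vectors with entries in a subfield -/
def up (F₁ : Subfield F) (u : ι → F₁) : ι → F := fun i => (u i : F)

omit [Fintype ι] [DecidableEq ι] in
theorem up_add (F₁ : Subfield F) (u v : ι → F₁) : up F₁ (u + v) = up F₁ u + up F₁ v := by
  funext i; simp [up]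

omit [Fintype ι] [DecidableEq ι] in
theorem up_smul (F₁ : Subfield F) (c : F₁) (u : ι → F₁) : up F₁ (c • u) = (c : F) • up F₁ u := by
  funext i; simp [up]

omit [Fintype ι] in
theorem up_single (F₁ : Subfield F) (i : ι) :
    up F₁ (Pi.single i (1 : F₁)) = (Pi.single i (1 : F) : ι → F) := by
  funext j
  by_cases hij : j = i
  · subst hij; simp [up]
  · simp [up, Pi.single_eq_of_ne hij]

omit [Fintype ι] [DecidableEq ι] in
theorem up_sum (F₁ : Subfield F) {K : Type*} (s : Finset K) (f : K → ι → F₁) :
    up F₁ (∑ k ∈ s, f k) = ∑ k ∈ s, up F₁ (f k) := by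
  funext i
  simp [up, Finset.sum_apply]

omit [Fintype ι] [DecidableEq ι] in
/-- a subspace spanned by pairwise orthogonal singular vectors is totally singular -/
theorem ts_span (Q : (ι → F) → F) (hQ : IsNondegenerateQuadraticForm Q) {J : Type*}
    (u : J → ι → F) (hu : ∀ j, Q (u j) = 0)
    (huu : ∀ i j, QuadraticMap.polar Q (u i) (u j) = 0) :
    IsTotallySingularQuad Q (Submodule.span F (Set.range u)) := by
  have hpz : ∀ x : ι → F, QuadraticMap.polar Q 0 x = 0 := by
    intro x
    have := hQ.polar_bilinear.smul_left 0 0 x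
    rw [zero_smul, zero_mul] at this
    exact this
  have hzp : ∀ x : ι → F, QuadraticMap.polar Q x 0 = 0 := by
    intro x
    rw [QuadraticMap.polar_comm]; exact hpz x
  -- orthogonal to the generators
  have h1 : ∀ v ∈ Submodule.span F (Set.range u), ∀ j, QuadraticMap.polar Q v (u j) = 0 := by
    intro v hv j
    induction hv using Submodule.span_induction with
    | mem x hx =>
      obtain ⟨i, rfl⟩ := hx
      exact huu i j
    | zero => exact hpz _
    | add x y _ _ hx hy => rw [hQ.polar_bilinear.add_left, hx, hy, add_zero]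
    | smul a x _ hx => rw [hQ.polar_bilinear.smul_left, hx, mul_zero]
  have h2 : ∀ v ∈ Submodule.span F (Set.range u), ∀ v' ∈ Submodule.span F (Set.range u),
      QuadraticMap.polar Q v v' = 0 := by
    intro v hv v' hv'
    induction hv' using Submodule.span_induction with
    | mem x hx =>
      obtain ⟨i, rfl⟩ := hx
      exact h1 v hv i
    | zero => exact hzp _
    | add x y _ _ hx hy => rw [hQ.polar_bilinear.add_right, hx, hy, add_zero]
    | smul a x _ hx => rw [hQ.polar_bilinear.smul_right, hx, mul_zero]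
  intro v hv
  induction hv using Submodule.span_induction with
  | mem x hx =>
    obtain ⟨i, rfl⟩ := hx
    exact hu i
  | zero => exact Q_zero Q hQ
  | add x y hx' hy' hx hy => rw [Q_add Q x y, hx, hy, h2 x hx' y hy', add_zero, add_zero]
  | smul a x _ hx => rw [hQ.smul, hx, mul_zero]

/-- a basis of the space of vectors over a subfield stays independent over the big field -/
theorem li_up (F₁ : Subfield F) {K : Type*} [Fintype K] (b : Basis K F₁ (ι → F₁)) :
    LinearIndependent F (fun k => up F₁ (b k)) := by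
  apply linearIndependent_of_top_le_span_of_card_eq_finrank
  · rw [← (Pi.basisFun F ι).span_eq, Submodule.span_le]
    rintro _ ⟨i, rfl⟩
    rw [Pi.basisFun_apply, ← up_single F₁ i, ← b.sum_repr (Pi.single i (1 : F₁)), up_sum]
    apply Submodule.sum_mem
    intro k _
    rw [up_smul]
    exact Submodule.smul_mem _ _ (Submodule.subset_span ⟨k, rfl⟩)
  · rw [← Module.finrank_eq_card_basis b, Module.finrank_fintype_fun_eq_card,
      Module.finrank_fintype_fun_eq_card]

/-- ... and stays independent after applying an invertible matrix -/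
theorem li_w (F₁ : Subfield F) (P : GL ι F) {K : Type*} [Fintype K] (b : Basis K F₁ (ι → F₁)) :
    LinearIndependent F (fun k => (P : Matrix ι ι F) *ᵥ up F₁ (b k)) := by
  have h := (li_up F₁ b).map' (Matrix.toLin' (P : Matrix ι ι F)) (by
    rw [LinearMap.ker_eq_bot]
    intro a c hac
    simp only [Matrix.toLin'_apply] at hac
    have := congrArg (fun x => ((P⁻¹ : GL ι F) : Matrix ι ι F) *ᵥ x) hac
    simp only [Matrix.mulVec_mulVec] at this
    rw [← Matrix.GeneralLinearGroup.coe_mul, inv_mul_cancel] at this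
    simpa using this)
  exact h

omit [Fintype ι] [DecidableEq ι] in
theorem up_eq_zero (F₁ : Subfield F) (u : ι → F₁) (h : up F₁ u = 0) : u = 0 := by
  funext i
  have := congrFun h i
  exact Subtype.ext this

section form

variable (Q : (ι → F) → F) (hQ : IsNondegenerateQuadraticForm Q) (F₁ : Subfield F) (P : GL ι F)
  (ζ : F) (hrat : IsQuadFormRationalStructure (fun v : ι → F => ζ * Q v) F₁ P)

/-- the value function of the descended form -/
def q0 (u : ι → F₁) : F₁ :=
  ⟨ζ * Q ((P : Matrix ι ι F) *ᵥ up F₁ u), hrat (up F₁ u) (fun i => (u i).2)⟩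

theorem coe_q0 (u : ι → F₁) :
    ((q0 Q F₁ P ζ hrat u : F₁) : F) = ζ * Q ((P : Matrix ι ι F) *ᵥ up F₁ u) := rfl

theorem coe_polar_q0 (u v : ι → F₁) :
    ((QuadraticMap.polar (q0 Q F₁ P ζ hrat) u v : F₁) : F) =
      ζ * QuadraticMap.polar Q ((P : Matrix ι ι F) *ᵥ up F₁ u) ((P : Matrix ι ι F) *ᵥ up F₁ v) := by
  unfold QuadraticMap.polar
  push_cast
  rw [coe_q0, coe_q0, coe_q0, up_add, Matrix.mulVec_add]
  ring

include hQ in
/-- the descended quadratic form over the subfield -/
noncomputable def Q0 : QuadraticForm F₁ (ι → F₁) :=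
  QuadraticMap.ofPolar (q0 Q F₁ P ζ hrat)
    (by
      intro a x
      apply Subtype.ext
      rw [coe_q0, up_smul, Matrix.mulVec_smul, hQ.smul]
      show _ = ((a * a : F₁) : F) * ((q0 Q F₁ P ζ hrat x : F₁) : F)
      rw [coe_q0]
      push_cast
      ring)
    (by
      intro x x' y
      apply Subtype.ext
      push_cast
      rw [coe_polar_q0, coe_polar_q0, coe_polar_q0, up_add, Matrix.mulVec_add,
        hQ.polar_bilinear.add_left]
      ring)
    (by
      intro a x y
      apply Subtype.ext
      show _ = ((a : F₁) : F) * ((QuadraticMap.polar (q0 Q F₁ P ζ hrat) x y : F₁) : F)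
      rw [coe_polar_q0, coe_polar_q0, up_smul, Matrix.mulVec_smul, hQ.polar_bilinear.smul_left]
      ring)

theorem coe_Q0 (u : ι → F₁) :
    ((Q0 Q hQ F₁ P ζ hrat u : F₁) : F) = ζ * Q ((P : Matrix ι ι F) *ᵥ up F₁ u) := rfl

theorem coe_polar_Q0 (u v : ι → F₁) :
    ((QuadraticMap.polar (⇑(Q0 Q hQ F₁ P ζ hrat)) u v : F₁) : F) =
      ζ * QuadraticMap.polar Q ((P : Matrix ι ι F) *ᵥ up F₁ u) ((P : Matrix ι ι F) *ᵥ up F₁ v) :=
  coe_polar_q0 Q F₁ P ζ hrat u v

include hQ in
theorem exists_single_polar_ne (hζ : ζ ≠ 0) (u : ι → F₁) (hu : u ≠ 0) :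
    ∃ i : ι, QuadraticMap.polar (⇑(Q0 Q hQ F₁ P ζ hrat)) u (Pi.single i 1) ≠ 0 := by
  have hup : up F₁ u ≠ 0 := fun h => hu (up_eq_zero F₁ u h)
  set w : ι → F := (P : Matrix ι ι F) *ᵥ up F₁ u with hw
  have hw0 : w ≠ 0 := by
    intro h0
    apply hup
    have := congrArg (fun x => ((P⁻¹ : GL ι F) : Matrix ι ι F) *ᵥ x) h0
    simp only [hw, Matrix.mulVec_mulVec, Matrix.mulVec_zero] at this
    rw [← Matrix.GeneralLinearGroup.coe_mul, inv_mul_cancel] at this
    simpa using this
  obtain ⟨x, hx⟩ := (hQ.nondegenerate w hw0).2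
  set L : (ι → F) →ₗ[F] F := (polarBil Q hQ w) ∘ₗ Matrix.toLin' (P : Matrix ι ι F) with hL
  by_contra hcon
  push Not at hcon
  have hL0 : L = 0 := by
    apply LinearMap.pi_ext
    intro i c
    have hsingle : (Pi.single i c : ι → F) = c • (Pi.single i (1 : F) : ι → F) := by
      funext j
      by_cases hij : j = i
      · subst hij; simp
      · simp [Pi.single_eq_of_ne hij]
    rw [hsingle, map_smul, LinearMap.zero_apply]
    have h1 := hcon i
    have h2 := coe_polar_Q0 Q hQ F₁ P ζ hrat u (Pi.single i 1)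
    rw [h1, up_single] at h2
    have h3 : QuadraticMap.polar Q w ((P : Matrix ι ι F) *ᵥ (Pi.single i (1 : F) : ι → F)) = 0 := by
      have : ζ * QuadraticMap.polar Q w ((P : Matrix ι ι F) *ᵥ (Pi.single i (1 : F) : ι → F)) = 0 := by
        rw [← h2]; rfl
      rcases mul_eq_zero.mp this with h | h
      · exact absurd h hζ
      · exact h
    rw [hL, LinearMap.comp_apply, Matrix.toLin'_apply, polarBil_apply, h3, smul_zero]
  apply hx
  have h4 := LinearMap.congr_fun hL0 (((P⁻¹ : GL ι F) : Matrix ι ι F) *ᵥ x)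
  rw [hL, LinearMap.comp_apply, Matrix.toLin'_apply, Matrix.mulVec_mulVec,
    ← Matrix.GeneralLinearGroup.coe_mul, mul_inv_cancel, polarBil_apply] at h4
  simpa using h4

include hQ in
theorem Q0_nondeg (hζ : ζ ≠ 0) :
    (QuadraticMap.polarBilin (Q0 Q hQ F₁ P ζ hrat)).Nondegenerate := by
  constructor
  · intro u hu
    by_contra hne
    obtain ⟨i, hi⟩ := exists_single_polar_ne Q hQ F₁ P ζ hrat hζ u hne
    exact hi (hu (Pi.single i 1))
  · intro u hu
    by_contra hne
    obtain ⟨i, hi⟩ := exists_single_polar_ne Q hQ F₁ P ζ hrat hζ u hne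
    apply hi
    rw [QuadraticMap.polar_comm]
    exact hu (Pi.single i 1)

end form


/-- EV10: a form defined over the subfield of index 2 is of plus type -/
theorem EV10 [Fintype F] (Q : (ι → F) → F) (hQ : IsNondegenerateQuadraticForm Q) (hev : Even (Fintype.card ι))
    (F₁ : Subfield F) (hc : Fintype.card F = Nat.card F₁ ^ 2) (P : GL ι F) (ζ : F) (hζ : ζ ≠ 0)
    (hrat : IsQuadFormRationalStructure (fun v : ι → F => ζ * Q v) F₁ P) : IsPlusTypeOn Q ⊤ := by
  classical
  obtain ⟨m, hm⟩ := hev
  rcases Nat.eq_zero_or_pos m with h0 | hpos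
  · refine ⟨⊥, bot_le, ?_, ?_⟩
    · intro w hw
      rw [(Submodule.mem_bot F).mp hw]
      exact Q_zero Q hQ
    · rw [finrank_bot, finrank_top, Module.finrank_fintype_fun_eq_card, hm, h0]
  have hV : finrank F₁ (ι → F₁) = 2 * m := by
    rw [Module.finrank_fintype_fun_eq_card, hm, two_mul]
  have hfin : Finite F₁ := Finite.of_injective (fun x : F₁ => (x : F)) Subtype.val_injective
  set q0 := Q0 Q hQ F₁ P ζ hrat with hq0
  have hkill : ∀ a : F, ζ * a = 0 → a = 0 := by
    intro a ha
    rcases mul_eq_zero.mp ha with h | h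
    · exact absurd h hζ
    · exact h
  have hQw : ∀ v : ι → F₁, q0 v = 0 → Q ((P : Matrix ι ι F) *ᵥ up F₁ v) = 0 := by
    intro v hv
    apply hkill
    rw [← coe_Q0 Q hQ F₁ P ζ hrat v, ← hq0, hv]
    rfl
  have hpw : ∀ v v' : ι → F₁, QuadraticMap.polar (⇑q0) v v' = 0 →
      QuadraticMap.polar Q ((P : Matrix ι ι F) *ᵥ up F₁ v) ((P : Matrix ι ι F) *ᵥ up F₁ v') = 0 := by
    intro v v' hv
    apply hkill
    rw [← coe_polar_Q0 Q hQ F₁ P ζ hrat v v', ← hq0, hv]
    rfl
  have htop : finrank F (⊤ : Submodule F (ι → F)) = 2 * m := by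
    rw [finrank_top, Module.finrank_fintype_fun_eq_card, hm, two_mul]
  rcases Cfsg.Agent.S2616.result hpos hV q0 (Q0_nondeg Q hQ F₁ P ζ hrat hζ) with
    ⟨b, hb0, hbef, hbee⟩ | ⟨b, ζ₀, hζ₀, hb0, hbef, hbee, hbx, hx, hxy, hy⟩
  · -- hyperbolic case
    have hli := li_w F₁ P b
    have hli' : LinearIndependent F
        (fun i : Fin m => (P : Matrix ι ι F) *ᵥ up F₁ (b (Sum.inl i))) :=
      hli.comp (fun i : Fin m => (Sum.inl i : Fin m ⊕ Fin m)) Sum.inl_injective
    refine ⟨Submodule.span F (Set.range
      (fun i : Fin m => (P : Matrix ι ι F) *ᵥ up F₁ (b (Sum.inl i)))), le_top, ?_, ?_⟩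
    · apply ts_span Q hQ
      · intro i
        exact hQw _ (hb0 i).1
      · intro i j
        exact hpw _ _ (hbee i j).1
    · rw [finrank_span_eq_card hli', Fintype.card_fin, htop]
  · -- elliptic case
    obtain ⟨t, ht⟩ := exists_root F₁ hc ζ₀ hζ₀
    have hli := li_w F₁ P b
    set w : (Fin (m - 1) ⊕ Fin (m - 1)) ⊕ Fin 2 → ι → F :=
      fun k => (P : Matrix ι ι F) *ᵥ up F₁ (b k) with hw
    set z : ι → F := t • w (Sum.inr 0) + w (Sum.inr 1) with hz
    -- values
    have hQx : ζ * Q (w (Sum.inr 0)) = 1 := by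
      rw [hw, ← coe_Q0 Q hQ F₁ P ζ hrat, ← hq0, hx]
      rfl
    have hQy : ζ * Q (w (Sum.inr 1)) = ζ₀ := by
      rw [hw, ← coe_Q0 Q hQ F₁ P ζ hrat, ← hq0, hy]
    have hBxy : ζ * QuadraticMap.polar Q (w (Sum.inr 0)) (w (Sum.inr 1)) = 1 := by
      rw [hw, ← coe_polar_Q0 Q hQ F₁ P ζ hrat, ← hq0, hxy]
      rfl
    have hQz : Q z = 0 := by
      apply hkill
      rw [hz, Q_add Q, hQ.smul, hQ.polar_bilinear.smul_left]
      linear_combination t ^ 2 * hQx + hQy + t * hBxy + ht
    have hez : ∀ i : Fin (m - 1), QuadraticMap.polar Q (w (Sum.inl (Sum.inl i))) z = 0 := by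
      intro i
      rw [hz, hQ.polar_bilinear.add_right, hQ.polar_bilinear.smul_right,
        hpw _ _ (hbx i 0).1, hpw _ _ (hbx i 1).1, mul_zero, add_zero]
    have hzz : QuadraticMap.polar Q z z = 0 := by
      rw [polar_self Q hQ, hQz, mul_zero]
    set u : Option (Fin (m - 1)) → ι → F :=
      fun o => o.casesOn' z (fun i => w (Sum.inl (Sum.inl i))) with hu
    have hli1 : LinearIndependent F (fun i : Fin (m - 1) => w (Sum.inl (Sum.inl i))) :=
      hli.comp (fun i : Fin (m - 1) => (Sum.inl (Sum.inl i) : (Fin (m - 1) ⊕ Fin (m - 1)) ⊕ Fin 2))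
        (fun a c hac => Sum.inl_injective (Sum.inl_injective hac))
    have hznot : z ∉ Submodule.span F (Set.range (fun i : Fin (m - 1) => w (Sum.inl (Sum.inl i)))) := by
      intro hzmem
      set S : Set ((Fin (m - 1) ⊕ Fin (m - 1)) ⊕ Fin 2) := {k | k ≠ Sum.inr 1} with hS
      have hsub : Submodule.span F (Set.range (fun i : Fin (m - 1) => w (Sum.inl (Sum.inl i))))
          ≤ Submodule.span F (w '' S) := by
        apply Submodule.span_mono
        rintro _ ⟨i, rfl⟩
        exact ⟨Sum.inl (Sum.inl i), by simp [hS], rfl⟩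
      have hxS : w (Sum.inr 0) ∈ Submodule.span F (w '' S) :=
        Submodule.subset_span ⟨Sum.inr 0, by simp [hS], rfl⟩
      have hyS : w (Sum.inr 1) ∈ Submodule.span F (w '' S) := by
        have : w (Sum.inr 1) = z - t • w (Sum.inr 0) := by rw [hz]; abel
        rw [this]
        exact Submodule.sub_mem _ (hsub hzmem) (Submodule.smul_mem _ _ hxS)
      exact hli.notMem_span_image (s := S) (x := Sum.inr 1) (by simp [hS]) hyS
    have hliu : LinearIndependent F u := hli1.option hznot
    refine ⟨Submodule.span F (Set.range u), le_top, ?_, ?_⟩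
    · apply ts_span Q hQ
      · intro o
        cases o with
        | none => exact hQz
        | some i => exact hQw _ (hb0 i).1
      · intro o o'
        cases o with
        | none =>
          cases o' with
          | none => exact hzz
          | some j =>
            show QuadraticMap.polar Q z (w (Sum.inl (Sum.inl j))) = 0
            rw [QuadraticMap.polar_comm]
            exact hez j
        | some i =>
          cases o' with
          | none => exact hez i
          | some j => exact hpw _ _ (hbee i j).1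
    · rw [finrank_span_eq_card hliu, Fintype.card_option, Fintype.card_fin, htop]
      omega

end Cfsg.Agent.Lib.Helper35_OrthEven_EV10
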