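import Mathlib
import Cfsg.Prelude.Def_GeometricClasses
import Cfsg.Prelude.Def_LieClassical
import Cfsg.Agent.Lib.Helper39_QSDefs

/-!
helper32: package SUG-G5 of helper39's market (unitary / symplectic / orthogonal glue rows):
a subgroup `N ≤ GL(ι, F)` containing a non-scalar element that fixes a hyperplane pointwise is contained in
no tensor product subgroup `tensorProductSubgroup n₁ n₂ e P` with `2 ≤ n₁, n₂`.
Key lemma `kron_scalar_of_hypFix`: a Kronecker product `a ⊗ₖ b` (both factors injective, both index types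
of size at least two) fixing a hyperplane pointwise is a scalar matrix.
-/

set_option autoImplicit false

namespace Cfsg.Agent.Lib.Helper32_SUG_G5

open Matrix Cfsg.Geo Cfsg.Agent.Lib.Helper39_QSDefs
open scoped Kronecker

variable {F : Type*} [Field F]

section Kron

variable {κ₁ κ₂ : Type} [Fintype κ₁] [Fintype κ₂]

/-- the pure tensor `x ⊗ y` as a vector indexed by pairs -/
def tens (x : κ₁ → F) (y : κ₂ → F) : κ₁ × κ₂ → F := fun p => x p.1 * y p.2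

omit [Fintype κ₁] [Fintype κ₂] in
lemma tens_apply (x : κ₁ → F) (y : κ₂ → F) (i : κ₁) (j : κ₂) : tens x y (i, j) = x i * y j := rfl

lemma kron_mulVec_tens (a : Matrix κ₁ κ₁ F) (b : Matrix κ₂ κ₂ F) (x : κ₁ → F) (y : κ₂ → F) :
    (a ⊗ₖ b) *ᵥ tens x y = tens (a *ᵥ x) (b *ᵥ y) := by
  funext p
  obtain ⟨i, j⟩ := p
  rw [tens_apply]
  simp only [Matrix.mulVec, dotProduct]
  rw [Fintype.sum_prod_type, Finset.sum_mul_sum]
  refine Finset.sum_congr rfl fun i' _ => Finset.sum_congr rfl fun j' _ => ?_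
  rw [Matrix.kroneckerMap_apply, tens_apply]
  ring

/-- `y ↦ ψ (x ⊗ y)` -/
def sliceR (ψ : (κ₁ × κ₂ → F) →ₗ[F] F) (x : κ₁ → F) : (κ₂ → F) →ₗ[F] F where
  toFun y := ψ (tens x y)
  map_add' y y' := by
    rw [← map_add]; congr 1; funext p; simp [tens, mul_add]
  map_smul' c y := by
    rw [RingHom.id_apply, ← map_smul]; congr 1; funext p; simp [tens, mul_left_comm]

/-- `x ↦ ψ (x ⊗ y)` -/
def sliceL (ψ : (κ₁ × κ₂ → F) →ₗ[F] F) (y : κ₂ → F) : (κ₁ → F) →ₗ[F] F where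
  toFun x := ψ (tens x y)
  map_add' x x' := by
    rw [← map_add]; congr 1; funext p; simp [tens, add_mul]
  map_smul' c x := by
    rw [RingHom.id_apply, ← map_smul]; congr 1; funext p; simp [tens, mul_assoc]

lemma exists_ne_zero_ker {κ : Type} [Fintype κ] (hκ : 2 ≤ Fintype.card κ) (L : (κ → F) →ₗ[F] F) :
    ∃ y : κ → F, y ≠ 0 ∧ L y = 0 := by
  have h : LinearMap.ker L ≠ ⊥ := by
    apply LinearMap.ker_ne_bot_of_finrank_lt
    rw [Module.finrank_self, Module.finrank_fintype_fun_eq_card]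
    omega
  obtain ⟨y, hy, hy0⟩ := (Submodule.ne_bot_iff _).mp h
  exact ⟨y, hy0, LinearMap.mem_ker.mp hy⟩

/-- left factor: `a x` is parallel to `x` for every `x` -/
lemma left_parallel (hκ₂ : 2 ≤ Fintype.card κ₂) (a : Matrix κ₁ κ₁ F) (b : Matrix κ₂ κ₂ F)
    (hb : ∀ y, b *ᵥ y = 0 → y = 0) (ψ : (κ₁ × κ₂ → F) →ₗ[F] F)
    (h : ∀ z, ψ z = 0 → (a ⊗ₖ b) *ᵥ z = z) (x : κ₁ → F) : ∃ c : F, a *ᵥ x = c • x := by
  obtain ⟨y, hy0, hy⟩ := exists_ne_zero_ker hκ₂ (sliceR ψ x)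
  have h1 := h (tens x y) hy
  rw [kron_mulVec_tens] at h1
  have hby : b *ᵥ y ≠ 0 := fun h0 => hy0 (hb y h0)
  obtain ⟨j, hj⟩ := Function.ne_iff.mp hby
  rw [Pi.zero_apply] at hj
  refine ⟨y j / (b *ᵥ y) j, ?_⟩
  funext i
  have h2 := congrFun h1 (i, j)
  rw [tens_apply, tens_apply] at h2
  rw [Pi.smul_apply, smul_eq_mul]
  field_simp
  rw [h2, mul_comm]

/-- right factor: `b y` is parallel to `y` for every `y` -/
lemma right_parallel (hκ₁ : 2 ≤ Fintype.card κ₁) (a : Matrix κ₁ κ₁ F) (b : Matrix κ₂ κ₂ F)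
    (ha : ∀ x, a *ᵥ x = 0 → x = 0) (ψ : (κ₁ × κ₂ → F) →ₗ[F] F)
    (h : ∀ z, ψ z = 0 → (a ⊗ₖ b) *ᵥ z = z) (y : κ₂ → F) : ∃ c : F, b *ᵥ y = c • y := by
  obtain ⟨x, hx0, hx⟩ := exists_ne_zero_ker hκ₁ (sliceL ψ y)
  have h1 := h (tens x y) hx
  rw [kron_mulVec_tens] at h1
  have hax : a *ᵥ x ≠ 0 := fun h0 => hx0 (ha x h0)
  obtain ⟨i, hi⟩ := Function.ne_iff.mp hax
  rw [Pi.zero_apply] at hi
  refine ⟨x i / (a *ᵥ x) i, ?_⟩
  funext j
  have h2 := congrFun h1 (i, j)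
  rw [tens_apply, tens_apply] at h2
  rw [Pi.smul_apply, smul_eq_mul]
  field_simp
  rw [← h2, mul_comm]

/-- a matrix mapping every vector to a multiple of itself is scalar -/
lemma scalar_of_parallel {κ : Type} [Fintype κ] [DecidableEq κ] (a : Matrix κ κ F)
    (h : ∀ x : κ → F, ∃ c : F, a *ᵥ x = c • x) : ∃ α : F, a = α • (1 : Matrix κ κ F) := by
  obtain ⟨α, hα⟩ := LinearMap.exists_eq_smul_id_of_forall_notLinearIndependent
    (f := Matrix.toLin' a) (fun v hli => by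
      obtain ⟨c, hc⟩ := h v
      rw [LinearIndependent.pair_iff] at hli
      have := hli c (-1) (by rw [Matrix.toLin'_apply, hc]; simp)
      exact one_ne_zero (neg_eq_zero.mp this.2))
  refine ⟨α, ?_⟩
  apply Matrix.toLin'.injective
  rw [hα, map_smul, Matrix.toLin'_one]
  rfl

/-- a Kronecker product of injective matrices fixing a hyperplane pointwise is scalar -/
theorem kron_scalar_of_hypFix [DecidableEq κ₁] [DecidableEq κ₂] (hκ₁ : 2 ≤ Fintype.card κ₁) (hκ₂ : 2 ≤ Fintype.card κ₂)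
    (a : Matrix κ₁ κ₁ F) (b : Matrix κ₂ κ₂ F)
    (ha : ∀ x, a *ᵥ x = 0 → x = 0) (hb : ∀ y, b *ᵥ y = 0 → y = 0) (ψ : (κ₁ × κ₂ → F) →ₗ[F] F)
    (h : ∀ z, ψ z = 0 → (a ⊗ₖ b) *ᵥ z = z) :
    ∃ γ : F, a ⊗ₖ b = γ • (1 : Matrix (κ₁ × κ₂) (κ₁ × κ₂) F) := by
  obtain ⟨α, hα⟩ := scalar_of_parallel a (left_parallel hκ₂ a b hb ψ h)
  obtain ⟨β, hβ⟩ := scalar_of_parallel b (right_parallel hκ₁ a b ha ψ h)
  refine ⟨α * β, ?_⟩
  rw [hα, hβ, Matrix.smul_kronecker, Matrix.kronecker_smul, Matrix.one_kronecker_one, smul_smul]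

end Kron

variable {ι : Type} [Fintype ι] [DecidableEq ι]

lemma unit_mulVec_injective (a : GL ι F) (x : ι → F) (h : (a : Matrix ι ι F) *ᵥ x = 0) : x = 0 := by
  have := congrArg (fun v => ((a⁻¹ : GL ι F) : Matrix ι ι F) *ᵥ v) h
  simpa [Matrix.mulVec_mulVec] using this

/-- G5 : tensor products -/
theorem G5 {N : Subgroup (GL ι F)} (hN : QS N) (n₁ n₂ : ℕ) (h1 : 2 ≤ n₁) (h2 : 2 ≤ n₂)
    (e : ι ≃ Fin n₁ × Fin n₂) (P : GL ι F) :
    ¬ N ≤ tensorProductSubgroup n₁ n₂ e P := by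
  intro hle
  obtain ⟨g, hgN, hgs, φ, hφ0, hφ⟩ := hN.tv
  obtain ⟨y, ⟨k, ⟨a, b, hk⟩, rfl⟩, hy⟩ := hle hgN
  -- the matrix of `g`
  set R : Matrix ι ι F := Matrix.reindex e.symm e.symm (k : Matrix (Fin n₁ × Fin n₂) (Fin n₁ × Fin n₂) F)
    with hR
  have hgval : (g : Matrix ι ι F) = (P : Matrix ι ι F) * R * ((P⁻¹ : GL ι F) : Matrix ι ι F) := by
    rw [← hy]
    simp only [MulEquiv.coe_toMonoidHom, MulAut.conj_apply, Units.val_mul]
    rfl
  -- the hyperplane fixed by `k`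
  let ψ : (Fin n₁ × Fin n₂ → F) →ₗ[F] F :=
    φ ∘ₗ Matrix.toLin' (P : Matrix ι ι F) ∘ₗ LinearMap.funLeft F F e
  have hψ : ∀ z, ψ z = φ ((P : Matrix ι ι F) *ᵥ (z ∘ e)) := fun z => rfl
  have hRz : ∀ z : Fin n₁ × Fin n₂ → F,
      R *ᵥ (z ∘ e) = ((k : Matrix (Fin n₁ × Fin n₂) (Fin n₁ × Fin n₂) F) *ᵥ z) ∘ e := by
    intro z
    rw [hR, Matrix.reindex_apply, Matrix.submatrix_mulVec_equiv]
    simp [Function.comp_assoc]
  have hfix : ∀ z, ψ z = 0 → ((a : Matrix (Fin n₁) (Fin n₁) F) ⊗ₖ (b : Matrix (Fin n₂) (Fin n₂) F)) *ᵥ z = z := by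
    intro z hz
    rw [hψ] at hz
    have h3 := hφ _ hz
    rw [hgval, ← Matrix.mulVec_mulVec, ← Matrix.mulVec_mulVec, Matrix.mulVec_mulVec _ _ (P : Matrix ι ι F),
      ← Units.val_mul, inv_mul_cancel, Units.val_one, Matrix.one_mulVec] at h3
    have h4 : R *ᵥ (z ∘ e) = z ∘ e := by
      have := congrArg (fun v => ((P⁻¹ : GL ι F) : Matrix ι ι F) *ᵥ v) h3
      simpa [Matrix.mulVec_mulVec] using this
    rw [hRz, hk] at h4
    funext p
    have := congrFun h4 (e.symm p)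
    simpa using this
  obtain ⟨γ, hγ⟩ := kron_scalar_of_hypFix (by simpa using h1) (by simpa using h2)
    (a : Matrix (Fin n₁) (Fin n₁) F) (b : Matrix (Fin n₂) (Fin n₂) F)
    (unit_mulVec_injective a) (unit_mulVec_injective b) ψ hfix
  -- so `g` is a scalar
  apply hgs
  have hRs : R = γ • (1 : Matrix ι ι F) := by
    rw [hR, hk, hγ, Matrix.reindex_apply]
    ext i j
    simp [Matrix.one_apply]
  have hg1 : (g : Matrix ι ι F) = γ • (1 : Matrix ι ι F) := by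
    rw [hgval, hRs, Matrix.mul_smul, Matrix.mul_one, Matrix.smul_mul, ← Units.val_mul, mul_inv_cancel,
      Units.val_one]
  have hγ0 : γ ≠ 0 := by
    rintro rfl
    rw [zero_smul] at hg1
    have h5 := hφ
    have : φ = 0 := by
      apply LinearMap.ext
      intro x
      have h6 : (g : Matrix ι ι F) *ᵥ x = 0 := by rw [hg1, Matrix.zero_mulVec]
      have h7 : x = 0 := unit_mulVec_injective g x h6
      rw [h7, map_zero, LinearMap.zero_apply]
    exact hφ0 this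
  rw [mem_scalars_iff]
  exact ⟨Units.mk0 γ hγ0, hg1⟩

end Cfsg.Agent.Lib.Helper32_SUG_G5
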