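import Mathlib
import Cfsg.Agent.Lib.Helper98_AschDefs
import Cfsg.Agent.Lib.Helper23_FormDefs
import Cfsg.Agent.Lib.Helper32_SUG_G5
import Cfsg.Agent.Lib.Helper32_OrthEven_EV2
import Cfsg.Agent.Lib.Helper94_TensorVec

set_option autoImplicit false
set_option linter.unusedSectionVars false
set_option linter.unusedVariables false

/-!
# Package EV20 (helper22, even-dimensional orthogonal rows): `Ω` preserves no tensor decomposition
(dimension at least 7): Siegel elements are not Kronecker products.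
-/

namespace Cfsg.Agent.Lib.Helper70_OrthEven_EV20

open Cfsg Cfsg.Geo Matrix Cfsg.Agent.Lib.Helper98_AschDefs Cfsg.Agent.Lib.Helper23_FormDefs
  Cfsg.Agent.Lib.Helper32_SUG_G5
open scoped Kronecker

variable {F : Type*} [Field F]

section abstract

variable {κ₁ κ₂ : Type} [Fintype κ₁] [Fintype κ₂] [DecidableEq κ₁] [DecidableEq κ₂]

/-- the `i`-th row of a vector indexed by pairs -/
def row (w : κ₁ × κ₂ → F) (i : κ₁) : κ₂ → F := fun j => w (i, j)

lemma row_tens (x : κ₁ → F) (y : κ₂ → F) (i : κ₁) : row (tens x y) i = x i • y := by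
  funext j; simp [row, tens]

lemma row_comb (a b : F) (w w' : κ₁ × κ₂ → F) (i : κ₁) :
    row (a • w - b • w') i = a • row w i - b • row w' i := by
  funext j; simp [row]

lemma tens_smul_left (l : F) (x : κ₁ → F) (y : κ₂ → F) : tens (l • x) y = l • tens x y := by
  funext p; simp [tens, mul_assoc]

lemma tens_add_left (x x' : κ₁ → F) (y : κ₂ → F) : tens (x + x') y = tens x y + tens x' y := by
  funext p; simp [tens, add_mul]

lemma one_kron_row (m : Matrix κ₂ κ₂ F) (x : κ₁ × κ₂ → F) (i : κ₁) :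
    row (((1 : Matrix κ₁ κ₁ F) ⊗ₖ m) *ᵥ x) i = m *ᵥ row x i := by
  funext j
  simp only [row, Matrix.mulVec, dotProduct, Fintype.sum_prod_type, Matrix.kroneckerMap_apply]
  rw [Finset.sum_eq_single i]
  · simp
  · intro i' _ hi'
    simp [Matrix.one_apply_ne hi'.symm]
  · intro h; exact absurd (Finset.mem_univ i) h

/-- two linear functionals on a space of dimension at least 3 have a common nonzero zero -/
lemma exists_common_ker {κ : Type} [Fintype κ] (hκ : 3 ≤ Fintype.card κ) (L₁ L₂ : (κ → F) →ₗ[F] F) :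
    ∃ y : κ → F, y ≠ 0 ∧ L₁ y = 0 ∧ L₂ y = 0 := by
  have h : LinearMap.ker (L₁.prod L₂) ≠ ⊥ := by
    apply LinearMap.ker_ne_bot_of_finrank_lt
    rw [Module.finrank_prod, Module.finrank_self, Module.finrank_fintype_fun_eq_card]
    omega
  obtain ⟨y, hy, hy0⟩ := (Submodule.ne_bot_iff _).mp h
  rw [LinearMap.mem_ker, LinearMap.prod_apply, Prod.mk_eq_zero] at hy
  exact ⟨y, hy0, hy.1, hy.2⟩

/-- left factor scalar -/
lemma left_scalar (a : Matrix κ₁ κ₁ F) (b : Matrix κ₂ κ₂ F) (hb : ∀ y, b *ᵥ y = 0 → y = 0)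
    (hfix : ∀ x : κ₁ → F, ∃ y : κ₂ → F, y ≠ 0 ∧ (a ⊗ₖ b) *ᵥ tens x y = tens x y) :
    ∃ α : F, a = α • (1 : Matrix κ₁ κ₁ F) := by
  apply scalar_of_parallel
  intro x
  obtain ⟨y, hy0, h1⟩ := hfix x
  rw [kron_mulVec_tens] at h1
  have hby : b *ᵥ y ≠ 0 := fun h0 => hy0 (hb y h0)
  obtain ⟨j, hj⟩ := Function.ne_iff.mp hby
  rw [Pi.zero_apply] at hj
  refine ⟨y j / (b *ᵥ y) j, ?_⟩
  funext i
  have h2 := congrFun h1 (i, j)
  rw [tens_apply, tens_apply] at h2
  rw [Pi.smul_apply, smul_eq_mul]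
  field_simp
  rw [h2, mul_comm]

/-- right factor scalar -/
lemma right_scalar (a : Matrix κ₁ κ₁ F) (b : Matrix κ₂ κ₂ F) (ha : ∀ x, a *ᵥ x = 0 → x = 0)
    (hfix : ∀ y : κ₂ → F, ∃ x : κ₁ → F, x ≠ 0 ∧ (a ⊗ₖ b) *ᵥ tens x y = tens x y) :
    ∃ β : F, b = β • (1 : Matrix κ₂ κ₂ F) := by
  apply scalar_of_parallel
  intro y
  obtain ⟨x, hx0, h1⟩ := hfix y
  rw [kron_mulVec_tens] at h1
  have hax : a *ᵥ x ≠ 0 := fun h0 => hx0 (ha x h0)
  obtain ⟨i, hi⟩ := Function.ne_iff.mp hax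
  rw [Pi.zero_apply] at hi
  refine ⟨x i / (a *ᵥ x) i, ?_⟩
  funext j
  have h2 := congrFun h1 (i, j)
  rw [tens_apply, tens_apply] at h2
  rw [Pi.smul_apply, smul_eq_mul]
  field_simp
  rw [← h2, mul_comm]

/-- if `1 ⊗ m` has the shape of a Siegel element minus one, then all rows of `u'` and `z'` are
multiples of one nonzero row of `u'` -/
lemma rows_in_span (m : Matrix κ₂ κ₂ F) (u' z' : κ₁ × κ₂ → F) (ψ₁ ψ₂ : (κ₁ × κ₂ → F) →ₗ[F] F)
    (hK : ∀ x, ((1 : Matrix κ₁ κ₁ F) ⊗ₖ m) *ᵥ x = ψ₁ x • z' - ψ₂ x • u')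
    (x₁ x₂ : κ₁ × κ₂ → F) (hx₁ : ((1 : Matrix κ₁ κ₁ F) ⊗ₖ m) *ᵥ x₁ = u')
    (hx₂ : ((1 : Matrix κ₁ κ₁ F) ⊗ₖ m) *ᵥ x₂ = z') (i₀ i₁ : κ₁) (hi : i₁ ≠ i₀)
    (hr : row u' i₀ ≠ 0) :
    ∀ i, (∃ l : F, row u' i = l • row u' i₀) ∧ (∃ l : F, row z' i = l • row u' i₀) := by
  set r := row u' i₀ with hrdef
  -- rows of the image of a pure tensor
  have hrow : ∀ (k i : κ₁) (t : κ₂ → F), m *ᵥ row (tens (Pi.single k (1 : F)) t) i =
      ψ₁ (tens (Pi.single k (1 : F)) t) • row z' i - ψ₂ (tens (Pi.single k (1 : F)) t) • row u' i := by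
    intro k i t
    rw [← one_kron_row, hK, row_comb]
  -- step (c)
  have hex : ∃ t : κ₂ → F, ψ₁ (tens (Pi.single i₁ (1 : F)) t) ≠ 0 ∨
      ψ₂ (tens (Pi.single i₁ (1 : F)) t) ≠ 0 := by
    by_contra hall
    simp only [not_exists, not_or, not_not] at hall
    apply hr
    have hm : ∀ t : κ₂ → F, m *ᵥ t = 0 := by
      intro t
      have h1 := hrow i₁ i₁ t
      rw [(hall t).1, (hall t).2, zero_smul, zero_smul, sub_zero, row_tens, Pi.single_eq_same,
        one_smul] at h1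
      exact h1
    rw [hrdef, ← hx₁, one_kron_row, hm]
  obtain ⟨t₀, ht₀⟩ := hex
  -- step (d)
  have h0 := hrow i₁ i₀ t₀
  rw [row_tens, Pi.single_eq_of_ne hi.symm, zero_smul, Matrix.mulVec_zero, ← hrdef] at h0
  set lam := ψ₁ (tens (Pi.single i₁ (1 : F)) t₀) with hlam
  set mu := ψ₂ (tens (Pi.single i₁ (1 : F)) t₀) with hmu
  have hlam0 : lam ≠ 0 := by
    intro hl
    rw [hl, zero_smul, zero_sub, eq_comm, neg_eq_zero] at h0
    rcases ht₀ with h | h
    · exact h hl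
    · rcases smul_eq_zero.1 h0 with h' | h'
      · exact h h'
      · exact hr h'
  have hz0 : row z' i₀ = (mu / lam) • r := by
    have h1 : lam • row z' i₀ = mu • r := (sub_eq_zero.1 h0.symm)
    rw [div_eq_inv_mul, ← smul_smul, ← h1, smul_smul, inv_mul_cancel₀ hlam0, one_smul]
  -- step (e)
  have hm : ∀ t : κ₂ → F, ∃ l : F, m *ᵥ t = l • r := by
    intro t
    have h1 := hrow i₀ i₀ t
    rw [row_tens, Pi.single_eq_same, one_smul, hz0, ← hrdef, smul_smul, ← sub_smul] at h1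
    exact ⟨_, h1⟩
  intro i
  constructor
  · obtain ⟨l, hl⟩ := hm (row x₁ i)
    exact ⟨l, by rw [← hx₁, one_kron_row, hl]⟩
  · obtain ⟨l, hl⟩ := hm (row x₂ i)
    exact ⟨l, by rw [← hx₂, one_kron_row, hl]⟩

/-- three vectors all of whose rows are multiples of `r` are dependent when there are two rows -/
lemma dependent_of_rows (hcard : Fintype.card κ₁ = 2) (r : κ₂ → F)
    (u' z₁' z₂' : κ₁ × κ₂ → F) (hu : ∀ i, ∃ l : F, row u' i = l • r)
    (hz₁ : ∀ i, ∃ l : F, row z₁' i = l • r) (hz₂ : ∀ i, ∃ l : F, row z₂' i = l • r)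
    (hu0 : u' ≠ 0) (hz₁u : ∀ l : F, z₁' ≠ l • u') :
    ∃ l₁ l₂ : F, z₂' = l₁ • u' + l₂ • z₁' := by
  choose p hp using hu
  choose p₁ hp₁ using hz₁
  choose p₂ hp₂ using hz₂
  have hten : ∀ (w : κ₁ × κ₂ → F) (q : κ₁ → F), (∀ i, row w i = q i • r) → w = tens q r := by
    intro w q hw
    funext ⟨i, j⟩
    have := congrFun (hw i) j
    simpa [row, tens] using this
  have hu' := hten u' p hp
  have hz₁' := hten z₁' p₁ hp₁
  have hz₂' := hten z₂' p₂ hp₂
  have hli : LinearIndependent F ![p, p₁] := by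
    rw [LinearIndependent.pair_iff]
    intro s t hst
    have ht : t = 0 := by
      by_contra ht
      apply hz₁u (-(s / t))
      have h1 : p₁ = (-(s / t)) • p := by
        have h2 : t • p₁ = -(s • p) := eq_neg_of_add_eq_zero_right hst
        calc p₁ = t⁻¹ • (t • p₁) := by rw [smul_smul, inv_mul_cancel₀ ht, one_smul]
          _ = (-(s / t)) • p := by rw [h2, smul_neg, smul_smul, neg_smul, div_eq_inv_mul]
      rw [hz₁', hu', h1, tens_smul_left]
    refine ⟨?_, ht⟩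
    rw [ht, zero_smul, add_zero] at hst
    rcases smul_eq_zero.1 hst with h | h
    · exact h
    · exfalso
      apply hu0
      rw [hu', h]
      funext q; simp [tens]
  have hspan : Submodule.span F (Set.range ![p, p₁]) = ⊤ :=
    hli.span_eq_top_of_card_eq_finrank' (by
      rw [Module.finrank_fintype_fun_eq_card, hcard, Fintype.card_fin])
  have hp₂mem : p₂ ∈ Submodule.span F (Set.range ![p, p₁]) := by rw [hspan]; trivial
  rw [Matrix.range_cons, Matrix.range_cons, Matrix.range_empty, Set.union_empty,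
    Set.singleton_union, Submodule.mem_span_pair] at hp₂mem
  obtain ⟨a, b, hab⟩ := hp₂mem
  refine ⟨a, b, ?_⟩
  rw [hz₂', hu', hz₁', ← hab, tens_add_left, tens_smul_left, tens_smul_left]

/-- the pure tensors with second factor `r`, as the range of a linear map -/
def tensL (r : κ₂ → F) : (κ₁ → F) →ₗ[F] (κ₁ × κ₂ → F) where
  toFun p := tens p r
  map_add' := fun x x' => tens_add_left x x' r
  map_smul' := fun l x => tens_smul_left l x r

lemma tensL_apply (r : κ₂ → F) (p : κ₁ → F) : tensL r p = tens p r := rfl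

end abstract

section concrete

open Module Cfsg.Agent.Lib.Helper94_Bridge Cfsg.Agent.Lib.Helper94_OrthBridge
  Cfsg.Agent.Lib.Helper94_OrthGenBridge Cfsg.Agent.Lib.Helper94_OrthSmall
  Cfsg.Agent.Lib.Helper94_OrthSiegel Cfsg.Agent.Lib.Helper94_OrthSiegel2
  Cfsg.Agent.Lib.Helper94_Symp Cfsg.Agent.Lib.Helper32_OrthEven_EV2

variable {ι : Type} [Fintype ι] [DecidableEq ι]

/-- `g` acts as a Kronecker product in the coordinates `(e, P)` -/
def TensorAct (d s : ℕ) (e : ι ≃ Fin d × Fin s) (P : GL ι F) (g : GL ι F) : Prop :=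
  ∃ (a : GL (Fin d) F) (c : GL (Fin s) F), ∀ x : Fin d × Fin s → F,
    (g : Matrix ι ι F) *ᵥ ((P : Matrix ι ι F) *ᵥ (x ∘ e)) =
      (P : Matrix ι ι F) *ᵥ ((((a : Matrix (Fin d) (Fin d) F) ⊗ₖ
        (c : Matrix (Fin s) (Fin s) F)) *ᵥ x) ∘ e)

lemma tensorAct_of_mem {d s : ℕ} (e : ι ≃ Fin d × Fin s) (P : GL ι F) {g : GL ι F}
    (hg : g ∈ tensorProductSubgroup d s e P) : TensorAct d s e P g := by
  obtain ⟨y, ⟨k, ⟨a, b, hk⟩, rfl⟩, hy⟩ := hg
  refine ⟨a, b, fun z => ?_⟩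
  set R : Matrix ι ι F := Matrix.reindex e.symm e.symm (k : Matrix (Fin d × Fin s) (Fin d × Fin s) F)
    with hR
  have hgval : (g : Matrix ι ι F) = (P : Matrix ι ι F) * R * ((P⁻¹ : GL ι F) : Matrix ι ι F) := by
    rw [← hy]
    simp only [MulEquiv.coe_toMonoidHom, MulAut.conj_apply, Units.val_mul]
    rfl
  have hRz : R *ᵥ (z ∘ e) = ((k : Matrix (Fin d × Fin s) (Fin d × Fin s) F) *ᵥ z) ∘ e := by
    rw [hR, Matrix.reindex_apply, Matrix.submatrix_mulVec_equiv]
    simp [Function.comp_assoc]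
  rw [hgval, Matrix.mulVec_mulVec, Matrix.mul_assoc, Matrix.mul_assoc, ← Units.val_mul,
    inv_mul_cancel, Units.val_one, Matrix.mul_one, ← Matrix.mulVec_mulVec, hRz, hk]

lemma TensorAct.swap {d s : ℕ} {e : ι ≃ Fin d × Fin s} {P g : GL ι F} (h : TensorAct d s e P g) :
    TensorAct s d (e.trans (Equiv.prodComm (Fin d) (Fin s))) P g := by
  obtain ⟨a, c, hac⟩ := h
  refine ⟨c, a, fun x' => ?_⟩
  have h1 := hac (x' ∘ Equiv.prodComm (Fin d) (Fin s))
  have h2 : ((a : Matrix (Fin d) (Fin d) F) ⊗ₖ (c : Matrix (Fin s) (Fin s) F)) *ᵥ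
      (x' ∘ Equiv.prodComm (Fin d) (Fin s)) =
      (((c : Matrix (Fin s) (Fin s) F) ⊗ₖ (a : Matrix (Fin d) (Fin d) F)) *ᵥ x') ∘
        Equiv.prodComm (Fin d) (Fin s) := by
    funext ⟨i, j⟩
    simp only [Matrix.mulVec, dotProduct, Fintype.sum_prod_type, Matrix.kroneckerMap_apply,
      Function.comp_apply, Equiv.prodComm_apply, Prod.swap_prod_mk]
    rw [Finset.sum_comm]
    refine Finset.sum_congr rfl fun j' _ => Finset.sum_congr rfl fun i' _ => ?_
    ring
  rw [h2] at h1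
  exact h1

end concrete

section core

open Module Cfsg.Agent.Lib.Helper94_Bridge Cfsg.Agent.Lib.Helper94_OrthBridge
  Cfsg.Agent.Lib.Helper94_OrthGenBridge Cfsg.Agent.Lib.Helper94_OrthSmall
  Cfsg.Agent.Lib.Helper94_OrthSiegel Cfsg.Agent.Lib.Helper94_OrthSiegel2
  Cfsg.Agent.Lib.Helper94_Symp Cfsg.Agent.Lib.Helper32_OrthEven_EV2
  Cfsg.Agent.Lib.Helper94_TensorVec

variable {ι : Type} [Fintype ι] [DecidableEq ι]

/-- a Siegel element acting as a Kronecker product with at least three columns: in coordinates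
`u` and `z` are pure tensors with the same second factor -/
lemma siegel_pure [Fintype F] (Q : (ι → F) → F) (hQ : IsNondegenerateQuadraticForm Q)
    (hn : 7 ≤ Fintype.card ι) (d s : ℕ) (hs : 3 ≤ s) (e : ι ≃ Fin d × Fin s) (P : GL ι F)
    (hall : ∀ g ∈ omegaGL Q, TensorAct d s e P g) (u z : ι → F) (hu : Q u = 0) (hu0 : u ≠ 0)
    (huz : polarForm Q hQ u z = 0) (hz : z ∉ Submodule.span F {u}) (i₀ i₁ : Fin d) (hi : i₁ ≠ i₀)
    (hr : row ((phi e P).symm u) i₀ ≠ 0) :
    (∃ p : Fin d → F, (phi e P).symm u = tens p (row ((phi e P).symm u) i₀)) ∧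
    (∃ p : Fin d → F, (phi e P).symm z = tens p (row ((phi e P).symm u) i₀)) := by
  classical
  set B := polarForm Q hQ with hB
  have hQs := gen_hQs Q hQ
  have hQp := gen_hQp Q hQ
  have hN := gen_hN Q hQ
  have hsymm := B_symm Q B hQp
  have hR := B_isRefl Q B hQp
  set Φ := phi e P with hΦ
  set u' := Φ.symm u with hu'
  set z' := Φ.symm z with hz'
  have hg := sieg_symm_mem_omegaGL Q hQ hn hu huz
  set g := (glEquiv ι F).symm (sieg Q B u z) with hgdef
  obtain ⟨a, c, hac⟩ := hall g hg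
  have hgv : ∀ v, (g : Matrix ι ι F) *ᵥ v = sieg Q B u z v := by
    intro v
    rw [← glEquiv_apply, hgdef, MulEquiv.apply_symm_apply]
  set K := (a : Matrix (Fin d) (Fin d) F) ⊗ₖ (c : Matrix (Fin s) (Fin s) F) with hKdef
  set ψ₁ : (Fin d × Fin s → F) →ₗ[F] F := (B.flip u) ∘ₗ (Φ : (Fin d × Fin s → F) →ₗ[F] (ι → F))
    with hψ₁
  set ψ₂ : (Fin d × Fin s → F) →ₗ[F] F := (B.flip z) ∘ₗ (Φ : (Fin d × Fin s → F) →ₗ[F] (ι → F))
    with hψ₂
  have hψ₁a : ∀ x, ψ₁ x = B (Φ x) u := fun x => rfl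
  have hψ₂a : ∀ x, ψ₂ x = B (Φ x) z := fun x => rfl
  have hK : ∀ x, K *ᵥ x = x + ψ₁ x • z' - ψ₂ x • u' - (Q z * ψ₁ x) • u' := by
    intro x
    have h1 := hac x
    rw [← phi_apply, ← phi_apply, hgv, sieg_apply Q B hQs hQp hu huz, ← hΦ] at h1
    have h2 := congrArg Φ.symm h1
    rw [LinearEquiv.symm_apply_apply] at h2
    rw [← h2]
    simp only [map_sub, map_add, map_smul, LinearEquiv.symm_apply_apply]
    rfl
  -- the left factor is scalar
  have hfix : ∀ x : Fin d → F, ∃ y : Fin s → F, y ≠ 0 ∧ K *ᵥ tens x y = tens x y := by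
    intro x
    obtain ⟨y, hy0, h1, h2⟩ := exists_common_ker (by simpa using hs) (sliceR ψ₁ x) (sliceR ψ₂ x)
    refine ⟨y, hy0, ?_⟩
    have h1' : ψ₁ (tens x y) = 0 := h1
    have h2' : ψ₂ (tens x y) = 0 := h2
    rw [hK, h1', h2', mul_zero, zero_smul, zero_smul, add_zero, sub_zero, sub_zero]
  obtain ⟨α, hα⟩ := left_scalar (a : Matrix (Fin d) (Fin d) F) (c : Matrix (Fin s) (Fin s) F)
    (unit_mulVec_injective c) hfix
  set m : Matrix (Fin s) (Fin s) F := α • (c : Matrix (Fin s) (Fin s) F) - 1 with hm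
  have hKm1 : (1 : Matrix (Fin d) (Fin d) F) ⊗ₖ m = K - 1 := by
    rw [hm, hKdef, hα]
    ext ⟨i, j⟩ ⟨i', j'⟩
    simp only [Matrix.kroneckerMap_apply, Matrix.sub_apply, Matrix.smul_apply, Matrix.one_apply,
      Prod.mk.injEq, smul_eq_mul]
    by_cases h1 : i = i' <;> by_cases h2 : j = j' <;> simp [h1, h2]
  set ψ₂' : (Fin d × Fin s → F) →ₗ[F] F := ψ₂ + Q z • ψ₁ with hψ₂'
  have hKm : ∀ x, ((1 : Matrix (Fin d) (Fin d) F) ⊗ₖ m) *ᵥ x = ψ₁ x • z' - ψ₂' x • u' := by
    intro x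
    rw [hKm1, Matrix.sub_mulVec, Matrix.one_mulVec, hK, hψ₂', LinearMap.add_apply,
      LinearMap.smul_apply, smul_eq_mul]
    module
  -- preimages of u' and z'
  have hzUp : ¬ ∀ n ∈ B.orthogonal (Submodule.span F {u}), B n z = 0 := by
    intro h
    apply hz
    rw [← LinearMap.BilinForm.orthogonal_orthogonal hN hR (Submodule.span F {u})]
    exact (mem_orth B).2 h
  simp only [not_forall] at hzUp
  obtain ⟨w, hw, hwz⟩ := hzUp
  have hwu : B w u = 0 := by
    rw [hsymm]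
    exact (mem_orth B).1 hw u (Submodule.mem_span_singleton_self u)
  have huz' : u ∉ Submodule.span F {z} := by
    intro h
    obtain ⟨l, hl⟩ := Submodule.mem_span_singleton.1 h
    have hl0 : l ≠ 0 := by
      rintro rfl
      rw [zero_smul] at hl
      exact hu0 hl.symm
    apply hz
    rw [Submodule.mem_span_singleton]
    exact ⟨l⁻¹, by rw [← hl, smul_smul, inv_mul_cancel₀ hl0, one_smul]⟩
  have huUp : ¬ ∀ n ∈ B.orthogonal (Submodule.span F {z}), B n u = 0 := by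
    intro h
    apply huz'
    rw [← LinearMap.BilinForm.orthogonal_orthogonal hN hR (Submodule.span F {z})]
    exact (mem_orth B).2 h
  simp only [not_forall] at huUp
  obtain ⟨w', hw', hw'u⟩ := huUp
  have hw'z : B w' z = 0 := by
    rw [hsymm]
    exact (mem_orth B).1 hw' z (Submodule.mem_span_singleton_self z)
  set v₁ : ι → F := (-(B w z)⁻¹) • w with hv₁
  have hv₁u : B v₁ u = 0 := by
    rw [hv₁, map_smul, LinearMap.smul_apply, hwu, smul_zero]
  have hv₁z : B v₁ z = -1 := by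
    rw [hv₁, map_smul, LinearMap.smul_apply, smul_eq_mul, neg_mul, inv_mul_cancel₀ hwz]
  set v₂ : ι → F := (B w' u)⁻¹ • w' + Q z • v₁ with hv₂
  have hv₂u : B v₂ u = 1 := by
    rw [hv₂, map_add, LinearMap.add_apply, map_smul, map_smul, LinearMap.smul_apply,
      LinearMap.smul_apply, hv₁u, smul_zero, add_zero, smul_eq_mul, inv_mul_cancel₀ hw'u]
  have hv₂z : B v₂ z = -Q z := by
    rw [hv₂, map_add, LinearMap.add_apply, map_smul, map_smul, LinearMap.smul_apply,
      LinearMap.smul_apply, hw'z, smul_zero, zero_add, hv₁z, smul_eq_mul, mul_neg, mul_one]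
  have hx₁ : ((1 : Matrix (Fin d) (Fin d) F) ⊗ₖ m) *ᵥ (Φ.symm v₁) = u' := by
    rw [hKm, hψ₂', LinearMap.add_apply, LinearMap.smul_apply, hψ₁a, hψ₂a,
      LinearEquiv.apply_symm_apply, hv₁u, hv₁z]
    simp
  have hx₂ : ((1 : Matrix (Fin d) (Fin d) F) ⊗ₖ m) *ᵥ (Φ.symm v₂) = z' := by
    rw [hKm, hψ₂', LinearMap.add_apply, LinearMap.smul_apply, hψ₁a, hψ₂a,
      LinearEquiv.apply_symm_apply, hv₂u, hv₂z]
    simp
  have hrows := rows_in_span m u' z' ψ₁ ψ₂' hKm _ _ hx₁ hx₂ i₀ i₁ hi hr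
  have hten : ∀ (w : Fin d × Fin s → F), (∀ i, ∃ l : F, row w i = l • row u' i₀) →
      ∃ q : Fin d → F, w = tens q (row u' i₀) := by
    intro w hw
    choose q hq using hw
    refine ⟨q, ?_⟩
    funext ⟨i, j⟩
    have := congrFun (hq i) j
    simpa [row, tens] using this
  exact ⟨hten u' (fun i => (hrows i).1), hten z' (fun i => (hrows i).2)⟩

/-- the core: no tensor decomposition with at least three columns -/
theorem core [Fintype F] (Q : (ι → F) → F) (hQ : IsNondegenerateQuadraticForm Q)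
    (hn : 7 ≤ Fintype.card ι) (d s : ℕ) (hd : 1 < d) (hs : 3 ≤ s) (e : ι ≃ Fin d × Fin s)
    (P : GL ι F) (hall : ∀ g ∈ omegaGL Q, TensorAct d s e P g) : False := by
  classical
  set B := polarForm Q hQ with hB
  have hQs := gen_hQs Q hQ
  have hQp := gen_hQp Q hQ
  have hN := gen_hN Q hQ
  have hfr : finrank F (ι → F) = Fintype.card ι := Module.finrank_fintype_fun_eq_card F
  have hcard : Fintype.card ι = d * s := by
    rw [Fintype.card_congr e, Fintype.card_prod, Fintype.card_fin, Fintype.card_fin]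
  obtain ⟨u, -, hu0, hu⟩ := exists_singular_in Q B hQs hQp (⊤ : Submodule F (ι → F))
    (by rw [finrank_top, hfr]; omega)
  set Φ := phi e P with hΦ
  set u' := Φ.symm u with hu'
  have hu'0 : u' ≠ 0 := by
    intro h
    apply hu0
    have := congrArg Φ h
    rwa [hu', LinearEquiv.apply_symm_apply, map_zero] at this
  obtain ⟨⟨i₀, j₀⟩, hij⟩ := Function.ne_iff.1 hu'0
  have hr : row u' i₀ ≠ 0 := fun h => hij (congrFun h j₀)
  have hi₁ : ∃ i₁ : Fin d, i₁ ≠ i₀ := by
    by_cases h : (i₀ : ℕ) = 0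
    · refine ⟨⟨1, hd⟩, fun h' => ?_⟩
      have := congrArg Fin.val h'
      simp only at this
      omega
    · refine ⟨⟨0, by omega⟩, fun h' => h ?_⟩
      have := congrArg Fin.val h'
      simp only at this
      omega
  obtain ⟨i₁, hi⟩ := hi₁
  set Up := B.orthogonal (Submodule.span F {u}) with hUp
  have hUpfr : finrank F Up = Fintype.card ι - 1 := by
    rw [hUp, LinearMap.BilinForm.finrank_orthogonal hN, finrank_span_singleton hu0, hfr]
  -- some `z₀` in `Up` outside `span {u}`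
  have hz₀ : ∃ z₀ ∈ Up, z₀ ∉ Submodule.span F {u} := by
    by_contra hcon
    simp only [not_exists, not_and, not_not] at hcon
    have hle : Up ≤ Submodule.span F {u} := hcon
    have := Submodule.finrank_mono hle
    rw [hUpfr, finrank_span_singleton hu0] at this
    omega
  obtain ⟨z₀, hz₀Up, hz₀s⟩ := hz₀
  have huz₀ : B u z₀ = 0 := (mem_orth B).1 hz₀Up u (Submodule.mem_span_singleton_self u)
  obtain ⟨⟨p, hp⟩, -⟩ := siegel_pure Q hQ hn d s hs e P hall u z₀ hu hu0 huz₀ hz₀s i₀ i₁ hi hr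
  -- all of `Up` consists of pure tensors with second factor `r`
  have hsub : Up ≤ (LinearMap.range (tensL (κ₁ := Fin d) (row u' i₀))).map
      (Φ : (Fin d × Fin s → F) →ₗ[F] (ι → F)) := by
    intro z hzUp
    have huz : B u z = 0 := (mem_orth B).1 hzUp u (Submodule.mem_span_singleton_self u)
    by_cases hzs : z ∈ Submodule.span F {u}
    · obtain ⟨l, rfl⟩ := Submodule.mem_span_singleton.1 hzs
      refine ⟨l • u', ⟨l • p, ?_⟩, ?_⟩
      · rw [map_smul, tensL_apply, ← hp]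
      · rw [LinearEquiv.coe_coe, map_smul, hu', LinearEquiv.apply_symm_apply]
    · obtain ⟨-, ⟨p', hp'⟩⟩ := siegel_pure Q hQ hn d s hs e P hall u z hu hu0 huz hzs i₀ i₁ hi hr
      refine ⟨Φ.symm z, ⟨p', ?_⟩, ?_⟩
      · rw [tensL_apply, ← hp']
      · rw [LinearEquiv.coe_coe, LinearEquiv.apply_symm_apply]
  have h1 := Submodule.finrank_mono hsub
  rw [LinearEquiv.finrank_map_eq, hUpfr] at h1
  have h2 := LinearMap.finrank_range_le (tensL (κ₁ := Fin d) (F := F) (row u' i₀))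
  rw [Module.finrank_fintype_fun_eq_card, Fintype.card_fin] at h2
  have h3 : d * 3 ≤ d * s := Nat.mul_le_mul_left d hs
  omega

end core

/-- EV20: `Ω` preserves no tensor decomposition -/
theorem EV20 {ι : Type} [Fintype ι] [DecidableEq ι] [Fintype F] (Q : (ι → F) → F)
    (hQ : IsNondegenerateQuadraticForm Q) (hn : 7 ≤ Fintype.card ι)
    (d s : ℕ) (hd : 1 < d) (hs : 1 < s) (e : ι ≃ Fin d × Fin s) (P : GL ι F) :
    ¬ omegaGL Q ≤ tensorProductSubgroup d s e P := by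
  intro hle
  have hall : ∀ g ∈ omegaGL Q, TensorAct d s e P g := fun g hg => tensorAct_of_mem e P (hle hg)
  have hcard : Fintype.card ι = d * s := by
    rw [Fintype.card_congr e, Fintype.card_prod, Fintype.card_fin, Fintype.card_fin]
  by_cases hs3 : 3 ≤ s
  · exact core Q hQ hn d s hd hs3 e P hall
  · have hs2 : s = 2 := by omega
    have hd3 : 3 ≤ d := by
      rw [hcard, hs2] at hn
      omega
    exact core Q hQ hn s d hs hd3 (e.trans (Equiv.prodComm (Fin d) (Fin s))) P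
      (fun g hg => (hall g hg).swap)

end Cfsg.Agent.Lib.Helper70_OrthEven_EV20
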