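import Mathlib
import Cfsg.Agent.Lib.Helper34_OrthOdd_OP4b

set_option autoImplicit false
set_option linter.unusedSectionVars false

namespace Cfsg.Agent.Lib.Helper34_OrthOdd_OP4c

open Cfsg Cfsg.Geo Matrix Cfsg.Agent.Lib.Helper98_AschDefs Cfsg.Agent.Lib.Helper29_OrthOddDefs
  Cfsg.Agent.Lib.Helper34_OrthOdd_OP4b Cfsg.Agent.Lib.Helper44_StdForms
open scoped Kronecker MatrixGroups

variable {F : Type*} [Field F]

theorem two_ne_zero_of_odd [Fintype F] (hodd : Odd (Fintype.card F)) : (2 : F) ≠ 0 := by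
  intro h
  have : CharP F 2 := CharTwo.of_one_ne_zero_of_two_eq_zero one_ne_zero h
  have h1 : ringChar F = 2 := ringChar.eq F 2
  have h2 := FiniteField.even_card_of_char_two h1
  rcases hodd with ⟨k, hk⟩
  omega

section std

variable (m : ℕ)

theorem polar_bilinear : IsBilinearForm (QuadraticMap.polar (quadFormOdd m F)) := by
  rw [← coe_qfOdd]
  exact
    { add_left := fun x y v => QuadraticMap.polar_add_left _ x y v
      smul_left := fun c x v => by rw [QuadraticMap.polar_smul_left, smul_eq_mul]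
      add_right := fun v x y => QuadraticMap.polar_add_right _ v x y
      smul_right := fun c v x => by rw [QuadraticMap.polar_smul_right, smul_eq_mul] }

theorem polar_symm (u v : OI m → F) :
    QuadraticMap.polar (quadFormOdd m F) u v = QuadraticMap.polar (quadFormOdd m F) v u :=
  QuadraticMap.polar_comm _ u v

theorem gram_det_isUnit (h2 : (2 : F) ≠ 0) :
    IsUnit (gramMatrix (QuadraticMap.polar (quadFormOdd m F))).det := by
  have h : (gramMatrix (QuadraticMap.polar (quadFormOdd m F))).det = 2 * (-1) ^ m :=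
    det_gram_quadFormOdd
  rw [h]
  exact (mul_ne_zero h2 (pow_ne_zero _ (neg_ne_zero.2 one_ne_zero))).isUnit

theorem quad_smul (c : F) (v : OI m → F) : quadFormOdd m F (c • v) = c ^ 2 * quadFormOdd m F v := by
  rw [← coe_qfOdd, QuadraticMap.map_smul, smul_eq_mul, sq]

theorem polar_self (v : OI m → F) :
    QuadraticMap.polar (quadFormOdd m F) v v = 2 * quadFormOdd m F v := by
  rw [← coe_qfOdd, QuadraticMap.polar_self, two_nsmul, two_mul]

end std

section cases

variable [Fintype F] {m : ℕ} {H : Subgroup (GL (OI m) F)}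

/-- class 4 from the normal form with `3 ≤ d < s` -/
theorem class4_of_tdata (hHI : H ≤ isometryGroup F (quadFormOdd m F)) {d s : ℕ}
    {e : OI m ≃ Fin d × Fin s} {P : GL (OI m) F}
    {G₁ : Matrix (Fin d) (Fin d) F} {G₂ : Matrix (Fin s) (Fin s) F}
    (hD : TData H (QuadraticMap.polar (quadFormOdd m F)) d s e P G₁ G₂)
    (hG₁ : G₁ᵀ = G₁) (hG₂ : G₂ᵀ = G₂) (hd₁ : IsUnit G₁.det) (hd₂ : IsUnit G₂.det)
    (h3 : 3 ≤ d) (hlt : d < s) : InOClass m H := by
  refine ⟨tensorProductSubgroup d s e P ⊓ isometryGroup F (quadFormOdd m F), ?_, le_inf ?_ hHI⟩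
  · right; right; right; right; right; left
    refine ⟨d, s, e, P, formOf G₁, formOf G₂, h3, hlt, isSymmetricForm_formOf G₁ hG₁ hd₁,
      isSymmetricForm_formOf G₂ hG₂ hd₂, ⟨1, one_ne_zero, fun x y => ?_⟩, rfl⟩
    rw [one_mul, gramMatrix_formOf, gramMatrix_formOf, formOfGram_id]
    exact hD.form x y
  · intro h hh
    obtain ⟨α, γ, hαγ⟩ := hD.grp h hh
    exact mem_conj_reindex' (kroneckerSubgroup d s F) e P h (kronGL α γ) (kronGL_mem α γ) hαγ

/-- class 7 from the normal form with `d = s` and Gram matrix `G₁ ⊗ lam G₁` -/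
theorem class7_of_tdata (hHI : H ≤ isometryGroup F (quadFormOdd m F)) {d : ℕ}
    {e : OI m ≃ Fin d × Fin d} {P : GL (OI m) F}
    {G₁ : Matrix (Fin d) (Fin d) F} {lam : F} (hlam : lam ≠ 0)
    (hD : TData H (QuadraticMap.polar (quadFormOdd m F)) d d e P G₁ (lam • G₁))
    (hG₁ : G₁ᵀ = G₁) (hd₁ : IsUnit G₁.det)
    (h3 : 3 ≤ d) (hne : ¬ (Fintype.card F = 3 ∧ d = 3)) : InOClass m H := by
  set e'' : OI m ≃ (Fin 2 → Fin d) := e.trans (finTwoArrowEquiv (Fin d)).symm with he''
  refine ⟨tensorWreathSubgroup d 2 e'' P ⊓ isometryGroup F (quadFormOdd m F), ?_, le_inf ?_ hHI⟩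
  · right; right; right; right; right; right; right
    refine ⟨d, 2, e'', P, formOf G₁, h3, le_refl 2, hne, isSymmetricForm_formOf G₁ hG₁ hd₁,
      ⟨lam, hlam, fun x y => ?_⟩, rfl⟩
    have hx : ∀ z : (Fin 2 → Fin d) → F, z ∘ e'' = (z ∘ (finTwoArrowEquiv (Fin d)).symm) ∘ e :=
      fun z => rfl
    rw [hx, hx, hD.form, gramMatrix_formOf]
    simp only [dotProduct, Matrix.mulVec, Function.comp_apply, id]
    rw [← Equiv.sum_comp (finTwoArrowEquiv (Fin d)).symm, Finset.mul_sum]
    apply Finset.sum_congr rfl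
    intro p _
    rw [← Equiv.sum_comp (finTwoArrowEquiv (Fin d)).symm, Finset.mul_sum, Finset.mul_sum]
    apply Finset.sum_congr rfl
    intro q _
    rw [Fin.prod_univ_two]
    simp [Matrix.kroneckerMap_apply, finTwoArrowEquiv]
    ring
  · intro h hh
    obtain ⟨α, γ, hαγ⟩ := hD.grp h hh
    set g'' : GL (Fin 2 → Fin d) F := glReindex (finTwoArrowEquiv (Fin d)).symm (kronGL α γ) with hg''
    have hpure : IsPureTensor d 2 g'' := by
      refine ⟨![α, γ], fun x y => ?_⟩
      rw [hg'', Cfsg.Agent.Lib.Helper52_Asch_PK2.glReindex_val, kronGL_val, Fin.prod_univ_two]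
      simp [Matrix.kroneckerMap_apply]
    have hmem : g'' ∈ tensorWreathStandard d 2 F := Subgroup.subset_closure (Or.inl hpure)
    apply mem_conj_reindex' (tensorWreathStandard d 2 F) e'' P h g'' hmem
    rw [hαγ, he'', hg'', Cfsg.Agent.Lib.Helper52_Asch_PK2.glReindex_trans]

end cases

section special

theorem kron_eq_one {d s : ℕ} (hd : 0 < d) (hs : 0 < s) (X : Matrix (Fin d) (Fin d) F)
    (Y : Matrix (Fin s) (Fin s) F) (h : X ⊗ₖ Y = 1) :
    ∃ μ ν : F, μ ≠ 0 ∧ ν ≠ 0 ∧ X = μ • (1 : Matrix (Fin d) (Fin d) F) ∧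
      Y = ν • (1 : Matrix (Fin s) (Fin s) F) := by
  have a0 : Fin d := ⟨0, hd⟩
  have i0 : Fin s := ⟨0, hs⟩
  have hent : ∀ a b i j, X a b * Y i j = if (a = b ∧ i = j) then 1 else 0 := by
    intro a b i j
    have := congrFun (congrFun h (a, i)) (b, j)
    simpa [Matrix.kroneckerMap_apply, Matrix.one_apply, Prod.ext_iff] using this
  have h00 : X a0 a0 * Y i0 i0 = 1 := by simpa using hent a0 a0 i0 i0
  have hX0 : X a0 a0 ≠ 0 := left_ne_zero_of_mul_eq_one h00
  have hY0 : Y i0 i0 ≠ 0 := right_ne_zero_of_mul_eq_one h00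
  refine ⟨(Y i0 i0)⁻¹, (X a0 a0)⁻¹, inv_ne_zero hY0, inv_ne_zero hX0, ?_, ?_⟩
  · ext a b
    have := hent a b i0 i0
    simp only [and_true] at this
    rw [Matrix.smul_apply, Matrix.one_apply, smul_eq_mul]
    by_cases hab : a = b
    · rw [if_pos hab] at this ⊢
      rw [mul_one]
      exact eq_inv_of_mul_eq_one_left this
    · rw [if_neg hab] at this ⊢
      rw [mul_zero]
      exact (mul_eq_zero.1 this).resolve_right hY0
  · ext i j
    have := hent a0 a0 i j
    simp only [true_and] at this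
    rw [Matrix.smul_apply, Matrix.one_apply, smul_eq_mul]
    by_cases hij : i = j
    · rw [if_pos hij] at this ⊢
      rw [mul_one]
      exact eq_inv_of_mul_eq_one_right this
    · rw [if_neg hij] at this ⊢
      rw [mul_zero]
      exact (mul_eq_zero.1 this).resolve_left hX0

variable [Fintype F]

theorem F3_cases (hcard : Fintype.card F = 3) (x : F) : x = 0 ∨ x = 1 ∨ x = -1 := by
  classical
  have h2 : (2 : F) ≠ 0 := two_ne_zero_of_odd (by rw [hcard]; decide)
  have h1m1 : (1 : F) ≠ -1 := by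
    intro h
    apply h2
    have : (2 : F) = 1 + 1 := by norm_num
    rw [this]
    nth_rewrite 2 [h]
    ring
  have hS : ({0, 1, -1} : Finset F).card = 3 :=
    Finset.card_eq_three.2 ⟨0, 1, -1, zero_ne_one, (neg_ne_zero.2 one_ne_zero).symm, h1m1, rfl⟩
  have huniv : ({0, 1, -1} : Finset F) = Finset.univ :=
    Finset.eq_univ_of_card _ (by rw [hS, hcard])
  have hx : x ∈ ({0, 1, -1} : Finset F) := by rw [huniv]; exact Finset.mem_univ x
  simpa using hx

theorem F3_three (hcard : Fintype.card F = 3) : (3 : F) = 0 := by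
  have := Nat.cast_card_eq_zero F
  rw [hcard] at this
  exact_mod_cast this

theorem F3_sq (hcard : Fintype.card F = 3) (x : F) (hx : x ≠ 0) : x * x = 1 := by
  rcases F3_cases hcard x with h | h | h
  · exact absurd h hx
  · rw [h, mul_one]
  · rw [h]; ring

/-- a similitude of the dot product on `F_3^3` is a monomial matrix -/
theorem monomial_of_orth3 (hcard : Fintype.card F = 3) (α : Matrix (Fin 3) (Fin 3) F) (μ : F)
    (hμ : μ ≠ 0) (h : αᵀ * α = μ • (1 : Matrix (Fin 3) (Fin 3) F)) :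
    ∃ (π : Equiv.Perm (Fin 3)) (ε : Fin 3 → F), (∀ a, ε a ≠ 0) ∧
      ∀ b a, α b a = if b = π a then ε a else 0 := by
  classical
  have h3 : (3 : F) = 0 := F3_three hcard
  have h2 : (2 : F) ≠ 0 := two_ne_zero_of_odd (by rw [hcard]; decide)
  -- μ = 1
  have hdet : α.det * α.det = μ ^ 3 := by
    have := congrArg Matrix.det h
    rw [Matrix.det_mul, Matrix.det_transpose, Matrix.det_smul, Matrix.det_one, mul_one,
      Fintype.card_fin] at this
    exact this
  have hdet0 : α.det ≠ 0 := by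
    intro h0
    rw [h0, mul_zero] at hdet
    exact pow_ne_zero 3 hμ hdet.symm
  have hμ1 : μ = 1 := by
    have h1 : μ ^ 3 = 1 := by rw [← hdet]; exact F3_sq hcard _ hdet0
    rcases F3_cases hcard μ with h' | h' | h'
    · exact absurd h' hμ
    · exact h'
    · exfalso
      rw [h'] at h1
      have : (2 : F) = 0 := by
        have e : ((-1 : F)) ^ 3 = -1 := by ring
        rw [e] at h1
        have : (1 : F) + 1 = 0 := by nth_rewrite 1 [← h1]; ring
        rw [← this]; norm_num
      exact h2 this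
  subst hμ1
  rw [one_smul] at h
  have hcol : ∀ a b, ∑ i, α i a * α i b = if a = b then 1 else 0 := by
    intro a b
    have := congrFun (congrFun h a) b
    rw [Matrix.mul_apply, Matrix.one_apply] at this
    simpa [Matrix.transpose_apply] using this
  have hcard1 : ∀ a, (Finset.univ.filter (fun i => α i a ≠ 0)).card = 1 := by
    intro a
    have h1 : ∑ i, α i a * α i a = ((Finset.univ.filter (fun i => α i a ≠ 0)).card : F) := by
      rw [Finset.card_filter, Nat.cast_sum]
      apply Finset.sum_congr rfl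
      intro i _
      by_cases hi : α i a = 0
      · simp [hi]
      · simp [hi, F3_sq hcard _ hi]
    have h4 := hcol a a
    rw [if_pos rfl, h1] at h4
    have hle : (Finset.univ.filter (fun i => α i a ≠ 0)).card ≤ 3 := by
      have := Finset.card_le_univ (Finset.univ.filter (fun i => α i a ≠ 0))
      simpa using this
    interval_cases hc : (Finset.univ.filter (fun i => α i a ≠ 0)).card
    · exfalso; simp at h4
    · rfl
    · exfalso
      have : (2 : F) = 1 := by exact_mod_cast h4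
      apply one_ne_zero (α := F)
      have e : (1 : F) = 2 - 1 := by norm_num
      rw [e, this, sub_self]
    · exfalso
      have : (3 : F) = 1 := by exact_mod_cast h4
      rw [h3] at this
      exact zero_ne_one this
  have hex : ∀ a, ∃ i, Finset.univ.filter (fun i => α i a ≠ 0) = {i} :=
    fun a => Finset.card_eq_one.1 (hcard1 a)
  choose π hπ using hex
  have hmem : ∀ i a, α i a ≠ 0 ↔ i = π a := by
    intro i a
    have : i ∈ Finset.univ.filter (fun i => α i a ≠ 0) ↔ i ∈ ({π a} : Finset (Fin 3)) := by rw [hπ a]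
    simpa using this
  have hε : ∀ a, α (π a) a ≠ 0 := fun a => (hmem (π a) a).2 rfl
  have hform : ∀ b a, α b a = if b = π a then α (π a) a else 0 := by
    intro b a
    by_cases hb : b = π a
    · rw [if_pos hb, hb]
    · rw [if_neg hb]
      by_contra hne
      exact hb ((hmem b a).1 hne)
  have hinj : Function.Injective π := by
    intro a b hab
    by_contra hne
    have h5 := hcol a b
    rw [if_neg hne] at h5
    have h6 : ∑ i, α i a * α i b = α (π a) a * α (π b) b := by
      rw [Finset.sum_eq_single (π a)]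
      · rw [hab]
      · intro i _ hi
        rw [hform i a, if_neg hi, zero_mul]
      · intro hni
        exact absurd (Finset.mem_univ _) hni
    rw [h6] at h5
    exact mul_ne_zero (hε a) (hε b) h5
  have hbij : Function.Bijective π := Finite.injective_iff_bijective.1 hinj
  exact ⟨Equiv.ofBijective π hbij, fun a => α (π a) a, hε, fun b a => by
    rw [Equiv.ofBijective_apply]; exact hform b a⟩

end special

section lines

variable [Fintype F] {m : ℕ} {H : Subgroup (GL (OI m) F)}

/-- an orthogonal frame of isometric points permuted (up to scalars) by `H` gives class 2 -/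
theorem lines_main (hHI : H ≤ isometryGroup F (quadFormOdd m F))
    (ht2 : 2 ≤ Fintype.card (OI m))
    (hprime : (Fintype.card F).Prime) (h2 : (2 : F) ≠ 0)
    (P : GL (OI m) F) (κ : F) (hκ : κ ≠ 0)
    (hform : ∀ i j : OI m, QuadraticMap.polar (quadFormOdd m F)
        ((P : Matrix (OI m) (OI m) F) *ᵥ Pi.single i 1) ((P : Matrix (OI m) (OI m) F) *ᵥ Pi.single j 1)
          = if i = j then κ else 0)
    (hgrp : ∀ h ∈ H, ∃ (σ : Equiv.Perm (OI m)) (ε : OI m → F), (∀ i, ε i ≠ 0) ∧
        ∀ i, (h : Matrix (OI m) (OI m) F) *ᵥ ((P : Matrix (OI m) (OI m) F) *ᵥ Pi.single i 1)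
          = ε i • ((P : Matrix (OI m) (OI m) F) *ᵥ Pi.single (σ i) 1)) :
    InOClass m H := by
  classical
  have hbil := polar_bilinear (F := F) m
  let ν : OI m ≃ Fin (Fintype.card (OI m)) := Fintype.equivFin (OI m)
  let v : OI m → (OI m → F) := fun i => (P : Matrix (OI m) (OI m) F) *ᵥ Pi.single i 1
  have hvv : ∀ i j, QuadraticMap.polar (quadFormOdd m F) (v i) (v j) = if i = j then κ else 0 := hform
  have hv0 : ∀ i, v i ≠ 0 := by
    intro i h0
    have := hvv i i
    rw [if_pos rfl, h0, ← coe_qfOdd, QuadraticMap.polar_zero_left] at this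
    exact hκ this.symm
  have hPinj : Function.Injective (Matrix.toLin' (P : Matrix (OI m) (OI m) F)) := by
    have : Function.Injective (P : Matrix (OI m) (OI m) F).mulVec :=
      Matrix.mulVec_injective_iff_isUnit.2 ⟨P, rfl⟩
    intro x y hxy
    apply this
    simpa [Matrix.toLin'_apply] using hxy
  have hvli : LinearIndependent F v := by
    have h1 : LinearIndependent F (fun i : OI m => (Pi.single i (1 : F) : OI m → F)) :=
      Pi.linearIndependent_single_one (OI m) F
    have := h1.map' (Matrix.toLin' (P : Matrix (OI m) (OI m) F)) (LinearMap.ker_eq_bot.2 hPinj)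
    exact this
  have hvspan : Submodule.span F (Set.range v) = ⊤ := by
    apply hvli.span_eq_top_of_card_eq_finrank'
    rw [Module.finrank_fintype_fun_eq_card]
  let D : Fin (Fintype.card (OI m)) → Submodule F (OI m → F) :=
    fun k => Submodule.span F {v (ν.symm k)}
  have hQv : ∀ i, quadFormOdd m F (v i) = κ / 2 := by
    intro i
    have := hvv i i
    rw [if_pos rfl, polar_self] at this
    field_simp
    rw [← this]; ring
  refine ⟨decompositionStabilizer D ⊓ isometryGroup F (quadFormOdd m F), ?_, le_inf ?_ hHI⟩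
  · right; right; right; left
    refine ⟨Fintype.card (OI m), D, hprime, ⟨⟨⟨?_, Nat.one_pos, ?_, ?_, ?_⟩, ?_, ?_⟩, ?_⟩, rfl⟩
    · exact ht2
    · intro k
      exact finrank_span_singleton (hv0 _)
    · exact (hvli.comp ν.symm ν.symm.injective).iSupIndep_span_singleton
    · have : (⨆ k, D k) = Submodule.span F (Set.range (v ∘ ν.symm)) :=
        (Submodule.span_range_eq_iSup (v := v ∘ ν.symm)).symm
      rw [this, ν.symm.surjective.range_comp v, hvspan]
    · intro k w hw hw0
      obtain ⟨c, rfl⟩ := Submodule.mem_span_singleton.1 hw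
      have hc : c ≠ 0 := by
        intro h0; apply hw0; rw [h0, zero_smul]
      refine ⟨⟨v (ν.symm k), Submodule.mem_span_singleton_self _, ?_⟩,
        ⟨v (ν.symm k), Submodule.mem_span_singleton_self _, ?_⟩⟩
      · rw [hbil.smul_right, hvv, if_pos rfl]
        exact mul_ne_zero hc hκ
      · rw [hbil.smul_left, hvv, if_pos rfl]
        exact mul_ne_zero hc hκ
    · intro k l hkl u hu w hw
      obtain ⟨a, rfl⟩ := Submodule.mem_span_singleton.1 hu
      obtain ⟨b, rfl⟩ := Submodule.mem_span_singleton.1 hw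
      rw [hbil.smul_left, hbil.smul_right, hvv, if_neg, mul_zero, mul_zero]
      intro h
      exact hkl (ν.symm.injective h)
    · intro k l
      let ek := LinearEquiv.toSpanNonzeroSingleton F (OI m → F) (v (ν.symm k)) (hv0 _)
      let el := LinearEquiv.toSpanNonzeroSingleton F (OI m → F) (v (ν.symm l)) (hv0 _)
      refine ⟨ek.symm.trans el, fun w => ?_⟩
      set c : F := ek.symm w with hc
      have hw : (w : OI m → F) = c • v (ν.symm k) := by
        have : w = ek c := by rw [hc, LinearEquiv.apply_symm_apply]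
        rw [this]
        rfl
      have hew : (((ek.symm.trans el) w : D l) : OI m → F) = c • v (ν.symm l) := by
        rw [LinearEquiv.trans_apply]
        rfl
      rw [hew, hw, quad_smul, quad_smul, hQv, hQv]
  · intro h hh
    obtain ⟨σ, ε, hε, hσ⟩ := hgrp h hh
    refine ⟨(ν.symm.trans σ).trans ν, fun k => ?_⟩
    show (Submodule.span F {v (ν.symm k)}).map (Matrix.toLin' (h : Matrix (OI m) (OI m) F))
      = Submodule.span F {v (ν.symm (((ν.symm.trans σ).trans ν) k))}
    rw [Submodule.map_span, Set.image_singleton, Matrix.toLin'_apply]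
    have h1 : (h : Matrix (OI m) (OI m) F) *ᵥ v (ν.symm k) = ε (ν.symm k) • v (σ (ν.symm k)) :=
      hσ (ν.symm k)
    rw [h1, Submodule.span_singleton_smul_eq (hε _).isUnit]
    simp

theorem single_comp {ι κ : Type} [DecidableEq ι] [DecidableEq κ] (e : ι ≃ κ) (i : ι) :
    (Pi.single i (1 : F) : ι → F) = (Pi.single (e i) (1 : F) : κ → F) ∘ e := by
  ext j
  simp only [Function.comp_apply, Pi.single_apply, EmbeddingLike.apply_eq_iff_eq]

theorem single_comp' {ι κ : Type} [DecidableEq ι] [DecidableEq κ] (e : ι ≃ κ) (q : κ) (c : F) :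
    (c • (Pi.single q (1 : F) : κ → F)) ∘ e = c • (Pi.single (e.symm q) (1 : F) : ι → F) := by
  ext j
  simp only [Function.comp_apply, Pi.smul_apply, Pi.single_apply, smul_eq_mul]
  by_cases h : e j = q
  · rw [if_pos h, if_pos (by rw [← h, Equiv.symm_apply_apply])]
  · rw [if_neg h, if_neg (fun h' => h (by rw [h', Equiv.apply_symm_apply]))]

/-- the special case `|F| = 3`, `d = s = 3` -/
theorem special_of_tdata (hHI : H ≤ isometryGroup F (quadFormOdd m F))
    (hcard : Fintype.card F = 3) {e : OI m ≃ Fin 3 × Fin 3} {P : GL (OI m) F} {κ₁ κ₂ : F}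
    (hκ₁ : κ₁ ≠ 0) (hκ₂ : κ₂ ≠ 0)
    (hD : TData H (QuadraticMap.polar (quadFormOdd m F)) 3 3 e P
      (κ₁ • (1 : Matrix (Fin 3) (Fin 3) F)) (κ₂ • (1 : Matrix (Fin 3) (Fin 3) F))) :
    InOClass m H := by
  classical
  have h2 : (2 : F) ≠ 0 := two_ne_zero_of_odd (by rw [hcard]; decide)
  have hprime : (Fintype.card F).Prime := by rw [hcard]; exact Nat.prime_three
  have hΓ : (κ₁ • (1 : Matrix (Fin 3) (Fin 3) F)) ⊗ₖ (κ₂ • (1 : Matrix (Fin 3) (Fin 3) F))
      = (κ₁ * κ₂) • (1 : Matrix (Fin 3 × Fin 3) (Fin 3 × Fin 3) F) := by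
    rw [Matrix.smul_kronecker, Matrix.kronecker_smul, Matrix.one_kronecker_one, smul_smul]
  have hκ : κ₁ * κ₂ ≠ 0 := mul_ne_zero hκ₁ hκ₂
  have hform' : ∀ x y : Fin 3 × Fin 3 → F,
      QuadraticMap.polar (quadFormOdd m F) ((P : Matrix (OI m) (OI m) F) *ᵥ (x ∘ e))
        ((P : Matrix (OI m) (OI m) F) *ᵥ (y ∘ e)) = (κ₁ * κ₂) * (x ⬝ᵥ y) := by
    intro x y
    rw [hD.form, hΓ, Matrix.smul_mulVec, Matrix.one_mulVec, dotProduct_smul, smul_eq_mul]
  have ht2 : 2 ≤ Fintype.card (OI m) := by
    rw [Fintype.card_congr e]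
    simp
  apply lines_main hHI ht2 hprime h2 P (κ₁ * κ₂) hκ
  · intro i j
    rw [single_comp e i, single_comp e j, hform', single_dotProduct, one_mul, Pi.single_apply]
    by_cases hij : i = j
    · rw [if_pos hij, if_pos (by rw [hij]), mul_one]
    · rw [if_neg hij, if_neg (fun h => hij (e.injective h)), mul_zero]
  · intro h hh
    obtain ⟨α, γ, hαγ⟩ := hD.grp h hh
    set K : Matrix (Fin 3 × Fin 3) (Fin 3 × Fin 3) F :=
      (α : Matrix (Fin 3) (Fin 3) F) ⊗ₖ (γ : Matrix (Fin 3) (Fin 3) F) with hK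
    have hhP : (h : Matrix (OI m) (OI m) F) * (P : Matrix (OI m) (OI m) F)
        = (P : Matrix (OI m) (OI m) F) * Matrix.reindex e.symm e.symm K := by
      have : h * P = P * glReindex e.symm (kronGL α γ) := by rw [hαγ]; group
      have := congrArg (fun g : GL (OI m) F => (g : Matrix (OI m) (OI m) F)) this
      simpa [Units.val_mul, glReindex_symm_val, kronGL_val] using this
    have hact : ∀ z : Fin 3 × Fin 3 → F,
        (h : Matrix (OI m) (OI m) F) *ᵥ ((P : Matrix (OI m) (OI m) F) *ᵥ (z ∘ e))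
          = (P : Matrix (OI m) (OI m) F) *ᵥ ((K *ᵥ z) ∘ e) := by
      intro z
      rw [Matrix.mulVec_mulVec, hhP, ← Matrix.mulVec_mulVec, reindex_mulVec]
    have hiso : ∀ x y : Fin 3 × Fin 3 → F, (K *ᵥ x) ⬝ᵥ (K *ᵥ y) = x ⬝ᵥ y := by
      intro x y
      have := polar_mulVec_of_mem (quadFormOdd m F) (hHI hh)
        ((P : Matrix (OI m) (OI m) F) *ᵥ (x ∘ e)) ((P : Matrix (OI m) (OI m) F) *ᵥ (y ∘ e))
      rw [hact, hact, hform', hform'] at this
      exact mul_left_cancel₀ hκ this
    have hKK : Kᵀ * K = 1 := by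
      apply eq_of_dot_eq
      intro u w
      have := hiso u w
      have e1 : (K *ᵥ u) ⬝ᵥ (K *ᵥ w) = u ⬝ᵥ (Kᵀ * K) *ᵥ w := by
        have := mulVec_dot_mulVec K (1 : Matrix (Fin 3 × Fin 3) (Fin 3 × Fin 3) F) u w
        rw [Matrix.one_mulVec, mul_one] at this
        exact this
      rw [← e1, this, Matrix.one_mulVec]
    have hKK' : ((α : Matrix (Fin 3) (Fin 3) F)ᵀ * (α : Matrix (Fin 3) (Fin 3) F)) ⊗ₖ
        ((γ : Matrix (Fin 3) (Fin 3) F)ᵀ * (γ : Matrix (Fin 3) (Fin 3) F)) = 1 := by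
      rw [Matrix.mul_kronecker_mul, Matrix.kroneckerMap_transpose]
      exact hKK
    obtain ⟨μ, ν, hμ, hν, hαα, hγγ⟩ := kron_eq_one (by norm_num) (by norm_num) _ _ hKK'
    obtain ⟨π, ε, hε, hα⟩ := monomial_of_orth3 hcard _ μ hμ hαα
    obtain ⟨ρ, ε', hε', hγ⟩ := monomial_of_orth3 hcard _ ν hν hγγ
    refine ⟨(e.trans (Equiv.prodCongr π ρ)).trans e.symm, fun i => ε (e i).1 * ε' (e i).2,
      fun i => mul_ne_zero (hε _) (hε' _), fun i => ?_⟩
    rw [single_comp e i, hact]
    have hKs : K *ᵥ (Pi.single (e i) (1 : F)) =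
        (ε (e i).1 * ε' (e i).2) • (Pi.single (π (e i).1, ρ (e i).2) (1 : F) : Fin 3 × Fin 3 → F) := by
      ext ⟨b, j⟩
      rw [Matrix.mulVec_single_one, Matrix.col_apply, hK, Matrix.kroneckerMap_apply, hα, hγ,
        Pi.smul_apply, Pi.single_apply, smul_eq_mul]
      by_cases hb : b = π (e i).1
      · by_cases hj : j = ρ (e i).2
        · rw [if_pos hb, if_pos hj, if_pos (by rw [hb, hj]), mul_one]
        · rw [if_neg hj, mul_zero, if_neg (fun h => hj (by rw [Prod.ext_iff] at h; exact h.2)),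
            mul_zero]
      · rw [if_neg hb, zero_mul, if_neg (fun h => hb (by rw [Prod.ext_iff] at h; exact h.1)),
          mul_zero]
    rw [hKs, single_comp', Matrix.mulVec_smul]
    rfl

end lines

section main

/-- OP4: a normalised adjoint-closed tensor algebra `M_d ⊗ 1` with `1 < d`, `1 < s` gives class 4, 7 or 2 -/
theorem OP4_aux [Fintype F] (hodd : Odd (Fintype.card F)) (m : ℕ) (H : Subgroup (GL (OI m) F))
    (hHI : H ≤ isometryGroup F (quadFormOdd m F))
    (A : Subalgebra F (Matrix (OI m) (OI m) F)) (hA : NormalizesAlg H A)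
    (hAadj : IsAdjointClosedFor (QuadraticMap.polar (quadFormOdd m F)) A)
    (d s : ℕ) (e : OI m ≃ Fin d × Fin s) (P : GL (OI m) F) (hT : IsTensorAlg A d s e P)
    (hd : 1 < d) (hs : 1 < s) :
    InOClass m H := by
  classical
  have h2 : (2 : F) ≠ 0 := two_ne_zero_of_odd hodd
  have hcard : d * s = 2 * m + 1 := by
    have := Fintype.card_congr e
    simp [Fintype.card_sum] at this
    omega
  have hdodd : Odd d := by
    rcases Nat.even_or_odd d with hev | ho
    · exfalso
      have : Even (d * s) := hev.mul_right s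
      rw [hcard] at this
      exact (Nat.not_even_iff_odd.2 ⟨m, rfl⟩) this
    · exact ho
  have hsodd : Odd s := by
    rcases Nat.even_or_odd s with hev | ho
    · exfalso
      have : Even (d * s) := hev.mul_left d
      rw [hcard] at this
      exact (Nat.not_even_iff_odd.2 ⟨m, rfl⟩) this
    · exact ho
  have h3d : 3 ≤ d := by
    rcases hdodd with ⟨k, hk⟩; omega
  have h3s : 3 ≤ s := by
    rcases hsodd with ⟨k, hk⟩; omega
  obtain ⟨G₁, G₂, hG₁, hG₂, hd₁, hd₂, hD⟩ :=
    tdata_of_hyp h2 (QuadraticMap.polar (quadFormOdd m F)) (polar_bilinear m) (polar_symm m)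
      (gram_det_isUnit m h2) H A hA hAadj d s e P hT (by omega) (by omega) hdodd
  rcases lt_trichotomy d s with hlt | heq | hgt
  · exact class4_of_tdata hHI hD hG₁ hG₂ hd₁ hd₂ h3d hlt
  · subst heq
    by_cases hsp : Fintype.card F = 3 ∧ d = 3
    · obtain ⟨hc3, hd3⟩ := hsp
      subst hd3
      obtain ⟨l₁, g₁, hl₁, hg₁⟩ := simil_of_odd h2 hdodd G₁ 1 hG₁ (Matrix.transpose_one) hd₁
        (by rw [Matrix.det_one]; exact isUnit_one)
      obtain ⟨l₂, g₂, hl₂, hg₂⟩ := simil_of_odd h2 hdodd G₂ 1 hG₂ (Matrix.transpose_one) hd₂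
        (by rw [Matrix.det_one]; exact isUnit_one)
      have hD' := hD.change g₁ g₂
      have e₁ : (g₁ : Matrix (Fin 3) (Fin 3) F)ᵀ * G₁ * (g₁ : Matrix (Fin 3) (Fin 3) F)
          = l₁⁻¹ • (1 : Matrix (Fin 3) (Fin 3) F) := by
        rw [hg₁, smul_smul, inv_mul_cancel₀ hl₁, one_smul]
      have e₂ : (g₂ : Matrix (Fin 3) (Fin 3) F)ᵀ * G₂ * (g₂ : Matrix (Fin 3) (Fin 3) F)
          = l₂⁻¹ • (1 : Matrix (Fin 3) (Fin 3) F) := by
        rw [hg₂, smul_smul, inv_mul_cancel₀ hl₂, one_smul]
      rw [e₁, e₂] at hD'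
      exact special_of_tdata hHI hc3 (inv_ne_zero hl₁) (inv_ne_zero hl₂) hD'
    · obtain ⟨lam, g, hlam, hg⟩ := simil_of_odd h2 hdodd G₁ G₂ hG₁ hG₂ hd₁ hd₂
      have hD' := hD.change 1 g⁻¹
      have e₁ : ((1 : GL (Fin d) F) : Matrix (Fin d) (Fin d) F)ᵀ * G₁ *
          ((1 : GL (Fin d) F) : Matrix (Fin d) (Fin d) F) = G₁ := by
        simp
      have hgi : (g : Matrix (Fin d) (Fin d) F) * ((g⁻¹ : GL (Fin d) F) : Matrix (Fin d) (Fin d) F) = 1 := by
        rw [← Units.val_mul, mul_inv_cancel, Units.val_one]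
      have e₂ : ((g⁻¹ : GL (Fin d) F) : Matrix (Fin d) (Fin d) F)ᵀ * G₂ *
          ((g⁻¹ : GL (Fin d) F) : Matrix (Fin d) (Fin d) F) = lam • G₁ := by
        rw [hg, Matrix.mul_smul, Matrix.smul_mul]
        congr 1
        have : ((g⁻¹ : GL (Fin d) F) : Matrix (Fin d) (Fin d) F)ᵀ *
            ((g : Matrix (Fin d) (Fin d) F)ᵀ * G₁ * (g : Matrix (Fin d) (Fin d) F)) *
            ((g⁻¹ : GL (Fin d) F) : Matrix (Fin d) (Fin d) F)
            = ((g : Matrix (Fin d) (Fin d) F) * ((g⁻¹ : GL (Fin d) F) : Matrix (Fin d) (Fin d) F))ᵀ * G₁ *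
              ((g : Matrix (Fin d) (Fin d) F) * ((g⁻¹ : GL (Fin d) F) : Matrix (Fin d) (Fin d) F)) := by
          rw [Matrix.transpose_mul]; simp only [mul_assoc]
        rw [this, hgi, Matrix.transpose_one, one_mul, mul_one]
      rw [e₁, e₂] at hD'
      exact class7_of_tdata hHI hlam hD' hG₁ hd₁ h3d hsp
  · exact class4_of_tdata hHI hD.swap hG₂ hG₁ hd₂ hd₁ h3s hgt

end main

end Cfsg.Agent.Lib.Helper34_OrthOdd_OP4c
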