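/-
EVEN-ORTHOGONAL package EV19 (helper22 architect; proved by helper71): over the field with 3 elements a tensor
decomposition with a 3-dimensional symmetric factor is refined by an isometric orthogonal decomposition into 3 blocks.
Route: normal form `TData` (helper34), `G₁` similar to the identity (`simil_of_odd`), every element of `H` acts on the
first factor by a monomial matrix (`monomial_of_orth3`), the blocks are `D i = P' ((e_i ⊗ F^n₂) ∘ e)`.
-/
import Mathlib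
import Cfsg.Agent.Lib.Helper98_AschDefs
import Cfsg.Agent.Lib.Helper23_FormDefs
import Cfsg.Agent.Lib.Helper34_OrthOdd_OP4c
import Cfsg.Agent.Lib.Helper34_OrthEven_TS

set_option autoImplicit false
set_option linter.unusedSectionVars false
set_option linter.unusedVariables false

namespace Cfsg.Agent.Lib.Helper71_OrthEven_EV19

open Cfsg Cfsg.Geo Matrix Cfsg.Agent.Lib.Helper98_AschDefs Cfsg.Agent.Lib.Helper23_FormDefs
  Cfsg.Agent.Lib.Helper29_OrthOddDefs Cfsg.Agent.Lib.Helper34_OrthOdd_OP4b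
open scoped Kronecker MatrixGroups

variable {F : Type*} [Field F]

section gram

variable {κ : Type} [Fintype κ] [DecidableEq κ]

/-- the Gram matrix of a nondegenerate bilinear form is invertible -/
theorem gram_isUnit (f : (κ → F) → (κ → F) → F) (hb : IsBilinearForm f) (hnd : IsNondegenerateForm f) :
    IsUnit (gramMatrix f).det := by
  classical
  rw [isUnit_iff_ne_zero]
  intro hdet
  obtain ⟨w, hw0, hw⟩ := (Matrix.exists_mulVec_eq_zero_iff (M := gramMatrix f)).2 hdet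
  obtain ⟨x, hx⟩ := (hnd _ hw0).1
  apply hx
  rw [form_eq_gram f hb, hw, dotProduct_zero]

theorem gram_symm (f : (κ → F) → (κ → F) → F) (hs : ∀ u v, f u v = f v u) :
    (gramMatrix f)ᵀ = gramMatrix f := by
  ext i j
  rw [Matrix.transpose_apply]
  exact hs _ _

end gram

section blocks

variable {κ₁ κ₂ : Type} [Fintype κ₁] [DecidableEq κ₁] [Fintype κ₂] [DecidableEq κ₂]

/-- the `i`-th block `e_i ⊗ y` -/
def blk (i : κ₁) : (κ₂ → F) →ₗ[F] (κ₁ × κ₂ → F) where
  toFun y := fun p => if p.1 = i then y p.2 else 0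
  map_add' y z := by
    ext p
    by_cases h : p.1 = i <;> simp [h]
  map_smul' c y := by
    ext p
    by_cases h : p.1 = i <;> simp [h]

theorem blk_apply (i : κ₁) (y : κ₂ → F) (p : κ₁ × κ₂) :
    blk i y p = if p.1 = i then y p.2 else 0 := rfl

theorem blk_eq_pureT (i : κ₁) (y : κ₂ → F) :
    blk i y = Cfsg.Agent.Lib.Helper34_OrthEven_TS.pureT (Pi.single i (1 : F)) y := by
  ext p
  rw [blk_apply, Cfsg.Agent.Lib.Helper34_OrthEven_TS.pureT_apply, Pi.single_apply]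
  by_cases h : p.1 = i <;> simp [h]

theorem blk_injective (i : κ₁) : Function.Injective (blk (F := F) (κ₂ := κ₂) i) := by
  intro y z h
  funext j
  have := congrFun h (i, j)
  simpa [blk_apply] using this

theorem sum_blk (x : κ₁ × κ₂ → F) : ∑ i, blk i (fun j => x (i, j)) = x := by
  ext ⟨a, j⟩
  rw [Finset.sum_apply]
  simp only [blk_apply]
  rw [Finset.sum_eq_single a]
  · rw [if_pos rfl]
  · intro b _ hb
    rw [if_neg (fun h => hb h.symm)]
  · intro h
    exact absurd (Finset.mem_univ _) h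

/-- the form `G₁ ⊗ G₂` on two blocks -/
theorem blk_form (G₁ : Matrix κ₁ κ₁ F) (G₂ : Matrix κ₂ κ₂ F) (i j : κ₁) (y z : κ₂ → F) :
    blk i y ⬝ᵥ (G₁ ⊗ₖ G₂) *ᵥ blk j z = G₁ i j * (y ⬝ᵥ G₂ *ᵥ z) := by
  rw [blk_eq_pureT, blk_eq_pureT, Cfsg.Agent.Lib.Helper34_OrthEven_TS.pureT_form]
  congr 1
  simp

/-- a Kronecker product with monomial first factor permutes the blocks -/
theorem kron_blk (α : Matrix κ₁ κ₁ F) (γ : Matrix κ₂ κ₂ F) (π : Equiv.Perm κ₁) (ε : κ₁ → F)
    (hα : ∀ b a, α b a = if b = π a then ε a else 0) (i : κ₁) (y : κ₂ → F) :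
    (α ⊗ₖ γ) *ᵥ blk i y = blk (π i) (ε i • γ *ᵥ y) := by
  ext ⟨b, j⟩
  simp only [Matrix.mulVec, dotProduct, Fintype.sum_prod_type, Matrix.kroneckerMap_apply, blk_apply,
    Pi.smul_apply, smul_eq_mul]
  rw [Finset.sum_eq_single i]
  · rw [hα b i]
    by_cases hb : b = π i
    · simp only [hb, if_true]
      rw [Finset.mul_sum]
      refine Finset.sum_congr rfl fun k _ => ?_
      ring
    · simp only [hb, if_false, zero_mul, Finset.sum_const_zero]
  · intro a _ ha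
    refine Finset.sum_eq_zero fun k _ => ?_
    rw [if_neg ha, mul_zero]
  · intro h
    exact absurd (Finset.mem_univ _) h

end blocks

section tdata

variable {ι : Type} [Fintype ι] [DecidableEq ι]

/-- the hypotheses of a form-compatible tensor decomposition give the normal form `TData` -/
theorem tdata_of_ten (H : Subgroup (GL ι F)) (f : (ι → F) → (ι → F) → F) (n₁ n₂ : ℕ)
    (e : ι ≃ Fin n₁ × Fin n₂) (P : GL ι F)
    (f₁ : (Fin n₁ → F) → (Fin n₁ → F) → F) (f₂ : (Fin n₂ → F) → (Fin n₂ → F) → F)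
    (hten : IsTensorFormStructure id f f₁ f₂ e P) (hH : H ≤ tensorProductSubgroup n₁ n₂ e P) :
    ∃ c : F, c ≠ 0 ∧ TData H f n₁ n₂ e P (c • gramMatrix f₁) (gramMatrix f₂) := by
  obtain ⟨c, hc, hform⟩ := hten
  refine ⟨c, hc, ⟨?_, ?_⟩⟩
  · intro x y
    rw [hform, formOfGram_id, Matrix.smul_kronecker, Matrix.smul_mulVec, dotProduct_smul, smul_eq_mul]
  · intro h hh
    obtain ⟨g', ⟨g, ⟨a, b, hab⟩, rfl⟩, rfl⟩ := hH hh
    refine ⟨a, b, ?_⟩
    have hg : g = kronGL a b := Units.ext (by rw [hab, kronGL_val])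
    rw [hg]
    simp [MulAut.conj_apply]

/-- the action of `P * reindex K * P⁻¹` in the coordinates `(e, P)` -/
theorem act_coord {d s : ℕ} (e : ι ≃ Fin d × Fin s) (P : GL ι F) (h : GL ι F)
    (α : GL (Fin d) F) (γ : GL (Fin s) F) (hαγ : h = P * glReindex e.symm (kronGL α γ) * P⁻¹)
    (z : Fin d × Fin s → F) :
    (h : Matrix ι ι F) *ᵥ ((P : Matrix ι ι F) *ᵥ (z ∘ e))
      = (P : Matrix ι ι F) *ᵥ ((((α : Matrix (Fin d) (Fin d) F) ⊗ₖ (γ : Matrix (Fin s) (Fin s) F)) *ᵥ z) ∘ e) := by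
  have hhP : (h : Matrix ι ι F) * (P : Matrix ι ι F)
      = (P : Matrix ι ι F) * Matrix.reindex e.symm e.symm
        ((α : Matrix (Fin d) (Fin d) F) ⊗ₖ (γ : Matrix (Fin s) (Fin s) F)) := by
    have : h * P = P * glReindex e.symm (kronGL α γ) := by rw [hαγ]; group
    have := congrArg (fun g : GL ι F => (g : Matrix ι ι F)) this
    simpa [Units.val_mul, glReindex_symm_val, kronGL_val] using this
  rw [Matrix.mulVec_mulVec, hhP, ← Matrix.mulVec_mulVec, reindex_mulVec]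

/-- an isometry which is a Kronecker product in the coordinates of a `TData` preserves `G₁ ⊗ G₂` -/
theorem kron_isom {H : Subgroup (GL ι F)} (Q : (ι → F) → F) {d s : ℕ} {e : ι ≃ Fin d × Fin s} {P : GL ι F}
    {G₁ : Matrix (Fin d) (Fin d) F} {G₂ : Matrix (Fin s) (Fin s) F}
    (hD : TData H (QuadraticMap.polar Q) d s e P G₁ G₂) (h : GL ι F) (hh : h ∈ isometryGroup F Q)
    (α : GL (Fin d) F) (γ : GL (Fin s) F) (hαγ : h = P * glReindex e.symm (kronGL α γ) * P⁻¹) :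
    ((α : Matrix (Fin d) (Fin d) F)ᵀ * G₁ * (α : Matrix (Fin d) (Fin d) F)) ⊗ₖ
      ((γ : Matrix (Fin s) (Fin s) F)ᵀ * G₂ * (γ : Matrix (Fin s) (Fin s) F)) = G₁ ⊗ₖ G₂ := by
  apply eq_of_dot_eq
  intro x y
  have := polar_mulVec_of_mem Q hh ((P : Matrix ι ι F) *ᵥ (x ∘ e)) ((P : Matrix ι ι F) *ᵥ (y ∘ e))
  rw [act_coord e P h α γ hαγ, act_coord e P h α γ hαγ, hD.form, hD.form, mulVec_dot_mulVec,
    ← Matrix.kroneckerMap_transpose, ← Matrix.mul_kronecker_mul, ← Matrix.mul_kronecker_mul] at this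
  exact this

/-- `X ⊗ Y = (lam • 1) ⊗ G` with `G ≠ 0`, `lam ≠ 0` forces `X` to be scalar -/
theorem kron_left_scalar {d s : ℕ} (hd : 0 < d) (X : Matrix (Fin d) (Fin d) F) (Y G : Matrix (Fin s) (Fin s) F)
    (lam : F) (hlam : lam ≠ 0) (hG : G ≠ 0)
    (h : X ⊗ₖ Y = (lam • (1 : Matrix (Fin d) (Fin d) F)) ⊗ₖ G) :
    ∃ μ : F, μ ≠ 0 ∧ X = μ • (1 : Matrix (Fin d) (Fin d) F) := by
  have a0 : Fin d := ⟨0, hd⟩
  have hex : ∃ j k, G j k ≠ 0 := by
    by_contra hcon
    apply hG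
    ext j k
    by_contra hjk
    exact hcon ⟨j, k, hjk⟩
  obtain ⟨j, k, hjk⟩ := hex
  have hent : ∀ a b, X a b * Y j k = (if a = b then lam else 0) * G j k := by
    intro a b
    have := congrFun (congrFun h (a, j)) (b, k)
    simpa [Matrix.kroneckerMap_apply, Matrix.one_apply] using this
  have h00 : X a0 a0 * Y j k = lam * G j k := by simpa using hent a0 a0
  have hY : Y j k ≠ 0 := by
    intro h0
    rw [h0, mul_zero] at h00
    exact mul_ne_zero hlam hjk h00.symm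
  refine ⟨lam * G j k / Y j k, div_ne_zero (mul_ne_zero hlam hjk) hY, ?_⟩
  ext a b
  rw [Matrix.smul_apply, Matrix.one_apply, smul_eq_mul]
  have := hent a b
  by_cases hab : a = b
  · rw [if_pos hab] at this ⊢
    rw [mul_one, eq_div_iff hY]
    exact this
  · rw [if_neg hab] at this ⊢
    rw [zero_mul] at this
    rw [mul_zero]
    exact (mul_eq_zero.1 this).resolve_right hY

end tdata

section main

variable {ι : Type} [Fintype ι] [DecidableEq ι]

/-- `polar Q v v = 2 Q v` -/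
theorem polar_self (Q : (ι → F) → F) (hQ : IsNondegenerateQuadraticForm Q) (v : ι → F) :
    QuadraticMap.polar Q v v = 2 * Q v := by
  unfold QuadraticMap.polar
  have h := hQ.smul 2 v
  rw [two_smul] at h
  rw [h]
  ring

open Cfsg.Agent.Lib.Helper34_OrthEven_TS in
/-- the decomposition attached to a `TData` whose first Gram matrix is scalar and whose group acts monomially on
the first factor -/
theorem decomp_of_tdata (h2 : (2 : F) ≠ 0) (Q : (ι → F) → F) (hQ : IsNondegenerateQuadraticForm Q)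
    (H : Subgroup (GL ι F)) (t n₂ : ℕ) (ht : 2 ≤ t) (hn₂ : 0 < n₂) (e : ι ≃ Fin t × Fin n₂) (P : GL ι F)
    (lam : F) (hlam : lam ≠ 0) (G₂ : Matrix (Fin n₂) (Fin n₂) F) (hG₂ : IsUnit G₂.det)
    (hD : TData H (QuadraticMap.polar Q) t n₂ e P (lam • (1 : Matrix (Fin t) (Fin t) F)) G₂)
    (hmon : ∀ h ∈ H, ∃ (α : GL (Fin t) F) (γ : GL (Fin n₂) F) (π : Equiv.Perm (Fin t)) (ε : Fin t → F),
      h = P * glReindex e.symm (kronGL α γ) * P⁻¹ ∧ (∀ a, ε a ≠ 0) ∧
      ∀ b a, (α : Matrix (Fin t) (Fin t) F) b a = if b = π a then ε a else 0) :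
    ∃ D : Fin t → Submodule F (ι → F), IsOrthogonalMDecomposition Q n₂ D ∧ H ≤ decompositionStabilizer D := by
  classical
  set Φ : Fin t → (Fin n₂ → F) →ₗ[F] (ι → F) := fun i => (lmap e P).comp (blk i) with hΦ
  have hΦa : ∀ i y, Φ i y = (P : Matrix ι ι F) *ᵥ ((blk i y) ∘ e) := fun i y => rfl
  have hΦinj : ∀ i, Function.Injective (Φ i) := fun i =>
    (lmap_injective e P).comp (blk_injective i)
  have hform : ∀ i j y z, QuadraticMap.polar Q (Φ i y) (Φ j z)
      = (if i = j then lam else 0) * (y ⬝ᵥ G₂ *ᵥ z) := by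
    intro i j y z
    rw [hΦa, hΦa, hD.form, blk_form, Matrix.smul_apply, Matrix.one_apply, smul_eq_mul]
    by_cases hij : i = j <;> simp [hij]
  have hQΦ : ∀ i y, Q (Φ i y) = lam * (y ⬝ᵥ G₂ *ᵥ y) / 2 := by
    intro i y
    have h1 := polar_self Q hQ (Φ i y)
    rw [hform, if_pos rfl] at h1
    rw [h1]
    field_simp
  refine ⟨fun i => LinearMap.range (Φ i), ⟨⟨⟨ht, hn₂, ?_, ?_, ?_⟩, ?_, ?_⟩, ?_⟩, ?_⟩
  · -- finrank
    intro i
    rw [LinearMap.finrank_range_of_inj (hΦinj i), Module.finrank_fin_fun]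
  · -- independence
    rw [iSupIndep_iff_finsetSum_eq_zero_imp_eq_zero]
    intro s v hv hsum i hi
    choose! y hy using hv
    have hsum' : lmap e P (∑ k ∈ s, blk k (y k)) = 0 := by
      rw [map_sum, ← hsum]
      exact Finset.sum_congr rfl fun k hk => hy k hk
    have h0 : ∑ k ∈ s, blk k (y k) = 0 := by
      apply lmap_injective e P
      rw [hsum', map_zero]
    have hy0 : y i = 0 := by
      funext j
      have := congrFun h0 (i, j)
      rw [Finset.sum_apply, Finset.sum_eq_single i] at this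
      · simpa [blk_apply] using this
      · intro b _ hb
        rw [blk_apply, if_neg (fun h => hb h.symm)]
      · intro h
        exact absurd hi h
    rw [← hy i hi, hy0, map_zero]
  · -- span
    rw [eq_top_iff]
    intro v _
    have hv : v = lmap e P ((((P⁻¹ : GL ι F) : Matrix ι ι F) *ᵥ v) ∘ e.symm) := by
      rw [lmap_apply]
      have : ((((P⁻¹ : GL ι F) : Matrix ι ι F) *ᵥ v) ∘ e.symm) ∘ e = ((P⁻¹ : GL ι F) : Matrix ι ι F) *ᵥ v := by
        ext k
        simp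
      rw [this, Matrix.mulVec_mulVec, ← Units.val_mul, mul_inv_cancel, Units.val_one, Matrix.one_mulVec]
    rw [hv, ← sum_blk ((((P⁻¹ : GL ι F) : Matrix ι ι F) *ᵥ v) ∘ e.symm), map_sum]
    refine Submodule.sum_mem _ fun i _ => ?_
    exact Submodule.mem_iSup_of_mem i ⟨_, rfl⟩
  · -- nondegenerate
    rintro i _ ⟨y, rfl⟩ hne
    have hy : y ≠ 0 := by
      intro h
      apply hne
      rw [h, map_zero]
    have hG₂' : G₂.det ≠ 0 := hG₂.ne_zero
    have h1 : G₂ *ᵥ y ≠ 0 := by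
      intro h
      exact hy (Matrix.eq_zero_of_mulVec_eq_zero hG₂' h)
    have h2' : Matrix.vecMul y G₂ ≠ 0 := by
      intro h
      exact hy (Matrix.eq_zero_of_vecMul_eq_zero hG₂' h)
    constructor
    · obtain ⟨j, hj⟩ := Function.ne_iff.1 h1
      refine ⟨Φ i (Pi.single j 1), ⟨_, rfl⟩, ?_⟩
      rw [hform, if_pos rfl, single_dotProduct, one_mul]
      exact mul_ne_zero hlam hj
    · obtain ⟨j, hj⟩ := Function.ne_iff.1 h2'
      refine ⟨Φ i (Pi.single j 1), ⟨_, rfl⟩, ?_⟩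
      rw [hform, if_pos rfl, Matrix.dotProduct_mulVec, dotProduct_single, mul_one]
      exact mul_ne_zero hlam hj
  · -- orthogonal
    rintro i j hij _ ⟨y, rfl⟩ _ ⟨z, rfl⟩
    rw [hform, if_neg hij, zero_mul]
  · -- isometric
    intro i j
    refine ⟨(LinearEquiv.ofInjective (Φ i) (hΦinj i)).symm.trans (LinearEquiv.ofInjective (Φ j) (hΦinj j)), ?_⟩
    intro w
    obtain ⟨y, hy⟩ := w.2
    have hw : w = LinearEquiv.ofInjective (Φ i) (hΦinj i) y := Subtype.ext hy.symm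
    rw [hw, LinearEquiv.trans_apply, LinearEquiv.symm_apply_apply, LinearEquiv.ofInjective_apply,
      LinearEquiv.ofInjective_apply, hQΦ, hQΦ]
  · -- stabilised
    intro h hh
    obtain ⟨α, γ, π, ε, hαγ, hε, hα⟩ := hmon h hh
    refine ⟨π, fun i => ?_⟩
    have hact : ∀ y, (h : Matrix ι ι F) *ᵥ Φ i y = Φ (π i) (ε i • (γ : Matrix (Fin n₂) (Fin n₂) F) *ᵥ y) := by
      intro y
      rw [hΦa, hΦa, act_coord e P h α γ hαγ, kron_blk _ _ π ε hα]
    apply le_antisymm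
    · rintro _ ⟨_, ⟨y, rfl⟩, rfl⟩
      rw [Matrix.toLin'_apply, hact]
      exact ⟨_, rfl⟩
    · rintro _ ⟨z, rfl⟩
      refine ⟨Φ i ((ε i)⁻¹ • ((γ⁻¹ : GL (Fin n₂) F) : Matrix (Fin n₂) (Fin n₂) F) *ᵥ z), ⟨_, rfl⟩, ?_⟩
      rw [Matrix.toLin'_apply, hact, Matrix.mulVec_smul, smul_smul, mul_inv_cancel₀ (hε i), one_smul,
        Matrix.mulVec_mulVec, ← Units.val_mul, mul_inv_cancel, Units.val_one, Matrix.one_mulVec]

open Cfsg.Agent.Lib.Helper34_OrthOdd_OP4c in
/-- EV19: over the field with 3 elements a tensor decomposition with a 3-dimensional symmetric factor is refined by an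
isometric orthogonal decomposition into 3 blocks -/
theorem EV19 [Fintype F] (hq : Fintype.card F = 3) (Q : (ι → F) → F) (hQ : IsNondegenerateQuadraticForm Q)
    (H : Subgroup (GL ι F)) (hHI : H ≤ isometryGroup F Q) (hirr : ActsIrreducibly (matrixSet H))
    (n₂ : ℕ) (e : ι ≃ Fin 3 × Fin n₂) (P : GL ι F)
    (f₁ : (Fin 3 → F) → (Fin 3 → F) → F) (f₂ : (Fin n₂ → F) → (Fin n₂ → F) → F)
    (hf₁ : IsSymmetricForm f₁) (hf₂ : IsSymmetricForm f₂)
    (hten : IsTensorFormStructure id (QuadraticMap.polar Q) f₁ f₂ e P)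
    (hH : H ≤ tensorProductSubgroup 3 n₂ e P) (hn₂ : 0 < n₂) :
    ∃ D : Fin 3 → Submodule F (ι → F), IsOrthogonalMDecomposition Q n₂ D ∧ H ≤ decompositionStabilizer D := by
  classical
  have h2 : (2 : F) ≠ 0 := two_ne_zero_of_odd (by rw [hq]; decide)
  obtain ⟨c, hc, hD₀⟩ := tdata_of_ten H (QuadraticMap.polar Q) 3 n₂ e P f₁ f₂ hten hH
  set G₁ : Matrix (Fin 3) (Fin 3) F := gramMatrix f₁ with hG₁def
  set G₂ : Matrix (Fin n₂) (Fin n₂) F := gramMatrix f₂ with hG₂def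
  have hG₁s : G₁ᵀ = G₁ := gram_symm f₁ hf₁.symm
  have hG₁u : IsUnit G₁.det := gram_isUnit f₁ hf₁.bilinear hf₁.nondegenerate
  have hG₂u : IsUnit G₂.det := gram_isUnit f₂ hf₂.bilinear hf₂.nondegenerate
  have hcG₁s : (c • G₁)ᵀ = c • G₁ := by rw [Matrix.transpose_smul, hG₁s]
  have hcG₁u : IsUnit (c • G₁).det := by
    rw [Matrix.det_smul]
    exact (IsUnit.mk0 _ (pow_ne_zero _ hc)).mul hG₁u
  -- `c • G₁` is similar to the identity
  obtain ⟨lam, g, hlam, hg⟩ := simil_of_odd h2 (d := 3) (by decide) (1 : Matrix (Fin 3) (Fin 3) F) (c • G₁)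
    Matrix.transpose_one hcG₁s (by rw [Matrix.det_one]; exact isUnit_one) hcG₁u
  have hD₁ := hD₀.change g⁻¹ 1
  have e1 : ((g⁻¹ : GL (Fin 3) F) : Matrix (Fin 3) (Fin 3) F)ᵀ * (c • G₁) * ((g⁻¹ : GL (Fin 3) F) : Matrix (Fin 3) (Fin 3) F)
      = lam • (1 : Matrix (Fin 3) (Fin 3) F) := by
    rw [hg, Matrix.mul_one, Matrix.mul_smul, Matrix.smul_mul]
    congr 1
    have h1 : (g : Matrix (Fin 3) (Fin 3) F) * ((g⁻¹ : GL (Fin 3) F) : Matrix (Fin 3) (Fin 3) F) = 1 := by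
      rw [← Units.val_mul, mul_inv_cancel, Units.val_one]
    rw [Matrix.mul_assoc, Matrix.mul_assoc, h1, Matrix.mul_one, ← Matrix.transpose_mul, h1, Matrix.transpose_one]
  have e2 : ((1 : GL (Fin n₂) F) : Matrix (Fin n₂) (Fin n₂) F)ᵀ * G₂ * ((1 : GL (Fin n₂) F) : Matrix (Fin n₂) (Fin n₂) F)
      = G₂ := by
    rw [Units.val_one, Matrix.transpose_one, Matrix.one_mul, Matrix.mul_one]
  rw [e1, e2] at hD₁
  set P' : GL ι F := P * glReindex e.symm (kronGL g⁻¹ 1) with hP'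
  have hG₂0 : G₂ ≠ 0 := by
    intro h0
    have j0 : Fin n₂ := ⟨0, hn₂⟩
    have : Nonempty (Fin n₂) := ⟨j0⟩
    rw [h0, Matrix.det_zero] at hG₂u
    exact not_isUnit_zero hG₂u
  apply decomp_of_tdata h2 Q hQ H 3 n₂ (by norm_num) hn₂ e P' lam hlam G₂ hG₂u hD₁
  intro h hh
  obtain ⟨α, γ, hαγ⟩ := hD₁.grp h hh
  have hK := kron_isom Q hD₁ h (hHI hh) α γ hαγ
  obtain ⟨μ, hμ, hαα⟩ := kron_left_scalar (by norm_num) _ _ G₂ lam hlam hG₂0 hK
  have hαα' : (α : Matrix (Fin 3) (Fin 3) F)ᵀ * (α : Matrix (Fin 3) (Fin 3) F)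
      = (μ / lam) • (1 : Matrix (Fin 3) (Fin 3) F) := by
    rw [Matrix.mul_smul, Matrix.mul_one, Matrix.smul_mul] at hαα
    have := congrArg (fun M => lam⁻¹ • M) hαα
    simp only [smul_smul, inv_mul_cancel₀ hlam, one_smul] at this
    rw [this, div_eq_inv_mul]
  obtain ⟨π, ε, hε, hα⟩ := monomial_of_orth3 hq _ (μ / lam) (div_ne_zero hμ hlam) hαα'
  exact ⟨α, γ, π, ε, hαγ, hε, hα⟩

end main

end Cfsg.Agent.Lib.Helper71_OrthEven_EV19
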