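/-
S5662 package SPQ (helper23's architecture; proved by helper7):
characteristic 2, a normal irreducible subgroup `N` of `H ≤ Sp` fixing a quadratic form `Q` whose polar form is the
symplectic form: then `H` fixes `Q` (class 8).
-/
import Mathlib
import Cfsg.Prelude.Def_ClassicalGeometry
import Cfsg.Prelude.Def_GeometricClasses
import Cfsg.Agent.Lib.Helper98_AschDefs
import Cfsg.Agent.Lib.Helper23_FormDefs

set_option autoImplicit false
set_option linter.unusedSectionVars false

namespace Cfsg.Agent.Lib.Helper7_AschSp_SPQ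

open Cfsg Cfsg.Geo Matrix Cfsg.Agent.Lib.Helper98_AschDefs Cfsg.Agent.Lib.Helper23_FormDefs

variable {F : Type*} [Field F]

theorem two_eq_zero_of_not_odd [Fintype F] (heven : ¬ Odd (Fintype.card F)) : (2 : F) = 0 := by
  have h1 : Fintype.card F % 2 = 0 := by
    rcases Nat.even_or_odd (Fintype.card F) with h | h
    · exact Nat.even_iff.1 h
    · exact absurd h heven
  have h2 : ringChar F = 2 := FiniteField.even_card_iff_char_two.2 h1
  have : CharP F 2 := ringChar.of_eq h2
  exact CharTwo.two_eq_zero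

theorem isSquare_of_not_odd [Fintype F] (heven : ¬ Odd (Fintype.card F)) (a : F) : IsSquare a := by
  have h1 : Fintype.card F % 2 = 0 := by
    rcases Nat.even_or_odd (Fintype.card F) with h | h
    · exact Nat.even_iff.1 h
    · exact absurd h heven
  exact FiniteField.isSquare_of_char_two (FiniteField.even_card_iff_char_two.2 h1) a

section

variable {ι : Type} [Fintype ι] [DecidableEq ι]

/-- a quadratic form is the sum of its values and its polar form -/
theorem quad_add (Q : (ι → F) → F) (x y : ι → F) : Q (x + y) = Q x + Q y + QuadraticMap.polar Q x y := by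
  unfold QuadraticMap.polar
  ring

/-- the general principle: if `h` preserves the polar form of `Q` and normalizes an irreducible group `N` fixing `Q`,
the characteristic is 2, every element is a square and there are vectors `u`, `v ≠ 0` with `u + c • v ≠ 0` for all `c`,
then `h` fixes `Q`. -/
theorem fixes_of_normalizes (h2 : (2 : F) = 0) (hsq : ∀ a : F, IsSquare a)
    (Q : (ι → F) → F) (hQ : IsNondegenerateQuadraticForm Q)
    (N : Subgroup (GL ι F)) (hirr : ActsIrreducibly (matrixSet N)) (hfix : FixesQuadForm (matrixSet N) Q)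
    (h : GL ι F) (hh : ∀ x ∈ N, h * x * h⁻¹ ∈ N)
    (hpol : ∀ u v, QuadraticMap.polar Q ((h : Matrix ι ι F) *ᵥ u) ((h : Matrix ι ι F) *ᵥ v) = QuadraticMap.polar Q u v)
    (u v : ι → F) (hv0 : v ≠ 0) (huv : ∀ c : F, u + c • v ≠ 0) :
    ∀ x, Q ((h : Matrix ι ι F) *ᵥ x) = Q x := by
  -- the difference `D x = Q (h x) - Q x` is additive and `D (c x) = c² D x`
  have hD_add : ∀ x y, Q ((h : Matrix ι ι F) *ᵥ (x + y)) - Q (x + y) =
      (Q ((h : Matrix ι ι F) *ᵥ x) - Q x) + (Q ((h : Matrix ι ι F) *ᵥ y) - Q y) := by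
    intro x y
    rw [Matrix.mulVec_add, quad_add Q ((h : Matrix ι ι F) *ᵥ x) ((h : Matrix ι ι F) *ᵥ y), quad_add Q x y, hpol]
    ring
  have hD_smul : ∀ (c : F) x, Q ((h : Matrix ι ι F) *ᵥ (c • x)) - Q (c • x) =
      c ^ 2 * (Q ((h : Matrix ι ι F) *ᵥ x) - Q x) := by
    intro c x
    rw [Matrix.mulVec_smul, hQ.smul, hQ.smul]
    ring
  -- the subspace where `h` preserves `Q`
  let W : Submodule F (ι → F) :=
    { carrier := {x | Q ((h : Matrix ι ι F) *ᵥ x) = Q x}
      zero_mem' := by
        show Q ((h : Matrix ι ι F) *ᵥ 0) = Q 0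
        rw [Matrix.mulVec_zero]
      add_mem' := by
        intro x y hx hy
        have hx' : Q ((h : Matrix ι ι F) *ᵥ x) = Q x := hx
        have hy' : Q ((h : Matrix ι ι F) *ᵥ y) = Q y := hy
        show Q ((h : Matrix ι ι F) *ᵥ (x + y)) = Q (x + y)
        have := hD_add x y
        rw [hx', hy'] at this
        simp only [sub_self, add_zero] at this
        exact sub_eq_zero.1 this
      smul_mem' := by
        intro c x hx
        have hx' : Q ((h : Matrix ι ι F) *ᵥ x) = Q x := hx
        show Q ((h : Matrix ι ι F) *ᵥ (c • x)) = Q (c • x)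
        have := hD_smul c x
        rw [hx'] at this
        simp only [sub_self, mul_zero] at this
        exact sub_eq_zero.1 this }
  have hWmem : ∀ x, x ∈ W ↔ Q ((h : Matrix ι ι F) *ᵥ x) = Q x := fun x => Iff.rfl
  -- `W` is `N`-invariant
  have hWinv : ∀ s ∈ matrixSet N, W.map (Matrix.toLin' s) ≤ W := by
    rintro s ⟨n, hn, rfl⟩ y hy
    obtain ⟨x, hx, rfl⟩ := Submodule.mem_map.1 hy
    rw [Matrix.toLin'_apply, hWmem]
    have hx' : Q ((h : Matrix ι ι F) *ᵥ x) = Q x := hx
    have h1 : (h : Matrix ι ι F) *ᵥ ((n : Matrix ι ι F) *ᵥ x) =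
        ((h * n * h⁻¹ : GL ι F) : Matrix ι ι F) *ᵥ ((h : Matrix ι ι F) *ᵥ x) := by
      rw [Matrix.mulVec_mulVec, Matrix.mulVec_mulVec, ← Units.val_mul, ← Units.val_mul]
      congr 2
      group
    rw [h1, hfix _ ⟨h * n * h⁻¹, hh n hn, rfl⟩, hx', hfix _ ⟨n, hn, rfl⟩]
  -- `W` is not zero
  have hW0 : W ≠ ⊥ := by
    intro hbot
    by_cases hv : Q ((h : Matrix ι ι F) *ᵥ v) - Q v = 0
    · have hvW : v ∈ W := (hWmem v).2 (sub_eq_zero.1 hv)
      rw [hbot, Submodule.mem_bot] at hvW
      exact hv0 hvW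
    · obtain ⟨c, hc⟩ := hsq ((Q ((h : Matrix ι ι F) *ᵥ u) - Q u) / (Q ((h : Matrix ι ι F) *ᵥ v) - Q v))
      have hwW : u + c • v ∈ W := by
        rw [hWmem, ← sub_eq_zero, hD_add, hD_smul, pow_two, ← hc, div_mul_cancel₀ _ hv]
        linear_combination (Q ((h : Matrix ι ι F) *ᵥ u) - Q u) * h2
      rw [hbot, Submodule.mem_bot] at hwW
      exact huv c hwW
  rcases hirr W hWinv with hW | hW
  · exact absurd hW hW0
  · intro x
    have : x ∈ W := by rw [hW]; trivial
    exact (hWmem x).1 this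

end

section Sp

variable [Fintype F]

/-- SPQ: characteristic 2, a normal irreducible subgroup fixing a quadratic form with polar form `f` -/
theorem SPQ (m : ℕ) (heven : ¬ Odd (Fintype.card F)) (H N : Subgroup (GL (Fin m ⊕ Fin m) F)) (hH : H ≤ spGL m F)
    (hnorm : NormalizesGrp H N) (hirr : ActsIrreducibly (matrixSet N))
    (Q : (Fin m ⊕ Fin m → F) → F) (hQ : IsNondegenerateQuadraticForm Q)
    (hpol : ∀ u v, QuadraticMap.polar Q u v = sympForm m F u v) (hfix : FixesQuadForm (matrixSet N) Q) :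
    InSpClass m H := by
  have key : ∀ h ∈ H, ∀ x, Q ((h : Matrix (Fin m ⊕ Fin m) (Fin m ⊕ Fin m) F) *ᵥ x) = Q x := by
    intro h hh
    rcases Nat.eq_zero_or_pos m with hm | hm
    · subst hm
      intro x
      exact congrArg Q (Subsingleton.elim _ _)
    · have hp : ∀ u v, QuadraticMap.polar Q ((h : Matrix (Fin m ⊕ Fin m) (Fin m ⊕ Fin m) F) *ᵥ u)
          ((h : Matrix (Fin m ⊕ Fin m) (Fin m ⊕ Fin m) F) *ᵥ v) = QuadraticMap.polar Q u v := by
        intro u v
        rw [hpol, hpol]
        exact (mem_spGL_iff h).1 (hH hh) u v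
      refine fixes_of_normalizes (two_eq_zero_of_not_odd heven) (isSquare_of_not_odd heven) Q hQ N hirr hfix h
        (hnorm h hh) hp (Pi.single (Sum.inl ⟨0, hm⟩) 1) (Pi.single (Sum.inr ⟨0, hm⟩) 1) ?_ ?_
      · intro h0
        have := congrFun h0 (Sum.inr ⟨0, hm⟩)
        simp at this
      · intro c h0
        have := congrFun h0 (Sum.inl ⟨0, hm⟩)
        simp at this
  refine ⟨quadSimilarityGroup Q ⊓ spGL m F, ?_, ?_⟩
  · exact Or.inl (Or.inr (Or.inr (Or.inr (Or.inr (Or.inr (Or.inr ⟨Q, heven, hQ, hpol, rfl⟩))))))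
  · intro h hh
    refine ⟨⟨1, fun v => ?_⟩, hH hh⟩
    rw [key h hh v, Units.val_one, one_mul]

end Sp

end Cfsg.Agent.Lib.Helper7_AschSp_SPQ
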