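/-
S5662 package SP4c (helper23's architecture; proved by helper7):
characteristic 2, an irreducible `X ≤ Sp` normalizing an adjoint-closed tensor algebra `M_d ⊗ 1` (`1 < d`, `1 < s`)
fixes a non-degenerate quadratic form whose polar form is the symplectic form.
-/
import Mathlib
import Cfsg.Prelude.Def_ClassicalGeometry
import Cfsg.Prelude.Def_GeometricClasses
import Cfsg.Agent.Lib.Helper98_AschDefs
import Cfsg.Agent.Lib.Helper23_FormDefs
import Cfsg.Agent.Lib.Helper52_Form_F4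
import Cfsg.Agent.Lib.Helper34_OrthOdd_OP4b
import Cfsg.Agent.Lib.Helper7_AschSp_SPQ

set_option autoImplicit false
set_option linter.unusedSectionVars false

namespace Cfsg.Agent.Lib.Helper7_AschSp_SP4c

open Cfsg Cfsg.Geo Matrix Cfsg.Agent.Lib.Helper98_AschDefs Cfsg.Agent.Lib.Helper23_FormDefs
open Cfsg.Agent.Lib.Helper34_OrthOdd_OP4b
open scoped Kronecker

variable {F : Type*} [Field F]

section char2

variable {κ : Type} [Fintype κ] [DecidableEq κ]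

theorem dot_symm (S : Matrix κ κ F) (hS : Sᵀ = S) (x y : κ → F) : x ⬝ᵥ S *ᵥ y = y ⬝ᵥ S *ᵥ x := by
  rw [Matrix.dotProduct_mulVec, ← Matrix.mulVec_transpose, hS, dotProduct_comm]

theorem quad_add_char2 (h2 : (2 : F) = 0) (S : Matrix κ κ F) (hS : Sᵀ = S) (x y : κ → F) :
    (x + y) ⬝ᵥ S *ᵥ (x + y) = x ⬝ᵥ S *ᵥ x + y ⬝ᵥ S *ᵥ y := by
  rw [Matrix.mulVec_add, add_dotProduct, dotProduct_add, dotProduct_add, dot_symm S hS y x]
  linear_combination (x ⬝ᵥ S *ᵥ y) * h2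

theorem quad_smul' (S : Matrix κ κ F) (c : F) (x : κ → F) :
    (c • x) ⬝ᵥ S *ᵥ (c • x) = c ^ 2 * (x ⬝ᵥ S *ᵥ x) := by
  rw [Matrix.mulVec_smul, smul_dotProduct, dotProduct_smul, smul_eq_mul, smul_eq_mul]
  ring

theorem quad_single (S : Matrix κ κ F) (p : κ) (c : F) :
    (Pi.single p c) ⬝ᵥ S *ᵥ (Pi.single p c) = S p p * c ^ 2 := by
  rw [single_dotProduct, Matrix.mulVec_single]
  simp
  ring

/-- in characteristic 2 the quadratic form of a symmetric matrix only sees the diagonal -/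
theorem quad_eq_sum_diag (h2 : (2 : F) = 0) (S : Matrix κ κ F) (hS : Sᵀ = S) (x : κ → F) :
    x ⬝ᵥ S *ᵥ x = ∑ p, S p p * x p ^ 2 := by
  let φ : (κ → F) →+ F :=
    { toFun := fun x => x ⬝ᵥ S *ᵥ x
      map_zero' := by simp
      map_add' := quad_add_char2 h2 S hS }
  have hx : x = ∑ p, Pi.single p (x p) := (Finset.univ_sum_single x).symm
  have h1 : φ x = ∑ p, φ (Pi.single p (x p)) := by
    conv_lhs => rw [hx]
    exact map_sum φ _ _
  have h3 : ∀ p, φ (Pi.single p (x p)) = S p p * x p ^ 2 := fun p => quad_single S p (x p)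
  simp only [h3] at h1
  exact h1

theorem quad_alt (h2 : (2 : F) = 0) (S : Matrix κ κ F) (hS : Sᵀ = S) (hdiag : ∀ p, S p p = 0) (x : κ → F) :
    x ⬝ᵥ S *ᵥ x = 0 := by
  rw [quad_eq_sum_diag h2 S hS]
  apply Finset.sum_eq_zero
  intro p _
  rw [hdiag, zero_mul]

theorem neg_eq_self_char2 (h2 : (2 : F) = 0) (a : F) : -a = a := by
  rw [neg_eq_iff_add_eq_zero]
  linear_combination a * h2

end char2

section kron

variable {d s : ℕ}

/-- two equal non-zero Kronecker products have proportional factors -/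
theorem kron_eq_kron (A G₁ : Matrix (Fin d) (Fin d) F) (B G₂ : Matrix (Fin s) (Fin s) F)
    (hG₁ : G₁ ≠ 0) (hG₂ : G₂ ≠ 0) (h : A ⊗ₖ B = G₁ ⊗ₖ G₂) :
    ∃ c : F, c ≠ 0 ∧ A = c • G₁ ∧ B = c⁻¹ • G₂ := by
  have hent : ∀ a a' b b', A a a' * B b b' = G₁ a a' * G₂ b b' := by
    intro a a' b b'
    have := congrFun (congrFun h (a, b)) (a', b')
    simpa [Matrix.kroneckerMap_apply] using this
  obtain ⟨a₀, a₀', ha₀⟩ : ∃ a a', G₁ a a' ≠ 0 := by
    by_contra hcon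
    push Not at hcon
    exact hG₁ (by ext a a'; exact hcon a a')
  obtain ⟨b₀, b₀', hb₀⟩ : ∃ b b', G₂ b b' ≠ 0 := by
    by_contra hcon
    push Not at hcon
    exact hG₂ (by ext b b'; exact hcon b b')
  have h00 := hent a₀ a₀' b₀ b₀'
  have hne : A a₀ a₀' * B b₀ b₀' ≠ 0 := by rw [h00]; exact mul_ne_zero ha₀ hb₀
  have hA0 : A a₀ a₀' ≠ 0 := left_ne_zero_of_mul hne
  have hB0 : B b₀ b₀' ≠ 0 := right_ne_zero_of_mul hne
  refine ⟨G₂ b₀ b₀' / B b₀ b₀', div_ne_zero hb₀ hB0, ?_, ?_⟩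
  · ext a a'
    rw [Matrix.smul_apply, smul_eq_mul, div_mul_eq_mul_div, eq_div_iff hB0, mul_comm (G₂ b₀ b₀')]
    exact hent a a' b₀ b₀'
  · ext b b'
    rw [Matrix.smul_apply, smul_eq_mul, inv_div, div_mul_eq_mul_div, eq_div_iff hb₀]
    have h1 := hent a₀ a₀' b b'
    have h2 := hent a₀ a₀' b₀ b₀'
    have h3 : A a₀ a₀' * (B b b' * G₂ b₀ b₀') = A a₀ a₀' * (B b₀ b₀' * G₂ b b') := by
      linear_combination G₂ b₀ b₀' * h1 - G₂ b b' * h2
    exact mul_left_cancel₀ hA0 h3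

/-- the factors of a symmetric Kronecker product are symmetric (characteristic 2) -/
theorem factor_symm (h2 : (2 : F) = 0) (G₁ : Matrix (Fin d) (Fin d) F) (G₂ : Matrix (Fin s) (Fin s) F)
    (hG₁ : G₁ ≠ 0) (hG₂ : G₂ ≠ 0) (hT : (G₁ ⊗ₖ G₂)ᵀ = G₁ ⊗ₖ G₂) : G₁ᵀ = G₁ ∧ G₂ᵀ = G₂ := by
  have hent : ∀ a a' b b', G₁ a' a * G₂ b' b = G₁ a a' * G₂ b b' := by
    intro a a' b b'
    have := congrFun (congrFun hT (a, b)) (a', b')
    simpa [Matrix.kroneckerMap_apply] using this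
  obtain ⟨a₀, a₀', ha₀⟩ : ∃ a a', G₁ a a' ≠ 0 := by
    by_contra hcon
    push Not at hcon
    exact hG₁ (by ext a a'; exact hcon a a')
  obtain ⟨b₀, b₀', hb₀⟩ : ∃ b b', G₂ b b' ≠ 0 := by
    by_contra hcon
    push Not at hcon
    exact hG₂ (by ext b b'; exact hcon b b')
  -- `G₁ a a' = ρ * G₁ a' a`
  set ρ : F := G₂ b₀' b₀ / G₂ b₀ b₀' with hρ
  have h1 : ∀ a a', G₁ a a' = ρ * G₁ a' a := by
    intro a a'
    rw [hρ, div_mul_eq_mul_div, eq_div_iff hb₀, mul_comm (G₂ b₀' b₀)]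
    exact (hent a a' b₀ b₀').symm
  have hρ2 : ρ * ρ = 1 := by
    have h3 := h1 a₀ a₀'
    rw [h1 a₀' a₀, ← mul_assoc] at h3
    have h4 : (ρ * ρ - 1) * G₁ a₀ a₀' = 0 := by linear_combination -h3
    rcases mul_eq_zero.1 h4 with h5 | h5
    · linear_combination h5
    · exact absurd h5 ha₀
  have hρ1 : ρ = 1 := by
    have h3 : (ρ + 1) * (ρ + 1) = 0 := by linear_combination hρ2 + (ρ + 1) * h2
    have h4 : ρ + 1 = 0 := by
      rcases mul_eq_zero.1 h3 with h5 | h5 <;> exact h5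
    rw [← neg_eq_self_char2 h2 1]
    exact eq_neg_of_add_eq_zero_left h4
  have hs1 : ∀ a a', G₁ a a' = G₁ a' a := by
    intro a a'
    rw [h1 a a', hρ1, one_mul]
  refine ⟨by ext a a'; rw [Matrix.transpose_apply]; exact hs1 a' a, ?_⟩
  ext b b'
  rw [Matrix.transpose_apply]
  have h3 := hent a₀ a₀' b b'
  rw [← hs1 a₀ a₀'] at h3
  exact mul_left_cancel₀ ha₀ h3

theorem ne_zero_of_isUnit_det {n : ℕ} (hn : 0 < n) (G : Matrix (Fin n) (Fin n) F) (hG : IsUnit G.det) : G ≠ 0 := by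
  intro h0
  have : Nonempty (Fin n) := ⟨⟨0, hn⟩⟩
  rw [h0, Matrix.det_zero] at hG
  exact not_isUnit_zero hG

end kron

section tensor

variable {ι : Type} [Fintype ι] [DecidableEq ι] {d s : ℕ}

/-- coordinates in the tensor basis -/
def Linv (e : ι ≃ Fin d × Fin s) (P : GL ι F) (v : ι → F) : Fin d × Fin s → F :=
  (((P⁻¹ : GL ι F) : Matrix ι ι F) *ᵥ v) ∘ e.symm

theorem Linv_add (e : ι ≃ Fin d × Fin s) (P : GL ι F) (u v : ι → F) :
    Linv e P (u + v) = Linv e P u + Linv e P v := by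
  unfold Linv
  rw [Matrix.mulVec_add]
  rfl

theorem Linv_smul (e : ι ≃ Fin d × Fin s) (P : GL ι F) (c : F) (v : ι → F) :
    Linv e P (c • v) = c • Linv e P v := by
  unfold Linv
  rw [Matrix.mulVec_smul]
  rfl

theorem L_Linv (e : ι ≃ Fin d × Fin s) (P : GL ι F) (v : ι → F) :
    (P : Matrix ι ι F) *ᵥ ((Linv e P v) ∘ e) = v := by
  have h1 : (Linv e P v) ∘ e = ((P⁻¹ : GL ι F) : Matrix ι ι F) *ᵥ v := by
    funext i
    simp [Linv]
  rw [h1, Matrix.mulVec_mulVec, ← Units.val_mul, mul_inv_cancel, Units.val_one, Matrix.one_mulVec]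

theorem Linv_L (e : ι ≃ Fin d × Fin s) (P : GL ι F) (x : Fin d × Fin s → F) :
    Linv e P ((P : Matrix ι ι F) *ᵥ (x ∘ e)) = x := by
  unfold Linv
  rw [Matrix.mulVec_mulVec, ← Units.val_mul, inv_mul_cancel, Units.val_one, Matrix.one_mulVec]
  funext q
  simp

/-- the action of a conjugated reindexed matrix in coordinates -/
theorem Linv_conj (e : ι ≃ Fin d × Fin s) (P : GL ι F) (K : GL (Fin d × Fin s) F) (v : ι → F) :
    Linv e P (((P * glReindex e.symm K * P⁻¹ : GL ι F) : Matrix ι ι F) *ᵥ v) =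
      (K : Matrix (Fin d × Fin s) (Fin d × Fin s) F) *ᵥ Linv e P v := by
  have h1 : ((P⁻¹ : GL ι F) : Matrix ι ι F) *ᵥ (((P * glReindex e.symm K * P⁻¹ : GL ι F) : Matrix ι ι F) *ᵥ v)
      = ((glReindex e.symm K : GL ι F) : Matrix ι ι F) *ᵥ (((P⁻¹ : GL ι F) : Matrix ι ι F) *ᵥ v) := by
    rw [Matrix.mulVec_mulVec, Matrix.mulVec_mulVec, ← Units.val_mul, ← Units.val_mul]
    congr 2
    group
  have h2 : ((P⁻¹ : GL ι F) : Matrix ι ι F) *ᵥ v = (Linv e P v) ∘ e := by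
    funext i
    simp [Linv]
  show (((P⁻¹ : GL ι F) : Matrix ι ι F) *ᵥ
    (((P * glReindex e.symm K * P⁻¹ : GL ι F) : Matrix ι ι F) *ᵥ v)) ∘ e.symm = _
  rw [h1, h2, glReindex_symm_val, reindex_mulVec]
  funext q
  simp only [Function.comp_apply, Equiv.apply_symm_apply]

variable {X : Subgroup (GL ι F)} {f : (ι → F) → (ι → F) → F} {e : ι ≃ Fin d × Fin s}
  {P : GL ι F} {G₁ : Matrix (Fin d) (Fin d) F} {G₂ : Matrix (Fin s) (Fin s) F}

theorem form_Linv (hD : TData X f d s e P G₁ G₂) (u v : ι → F) :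
    f u v = (Linv e P u) ⬝ᵥ (G₁ ⊗ₖ G₂) *ᵥ (Linv e P v) := by
  rw [← hD.form, L_Linv, L_Linv]

theorem T_symm (hD : TData X f d s e P G₁ G₂) (hsymm : ∀ u v, f u v = f v u) :
    (G₁ ⊗ₖ G₂)ᵀ = G₁ ⊗ₖ G₂ := by
  ext p q
  rw [Matrix.transpose_apply]
  have h1 := hD.form (Pi.single q 1) (Pi.single p 1)
  have h2 := hD.form (Pi.single p 1) (Pi.single q 1)
  rw [hsymm, h2] at h1
  simpa using h1.symm

theorem T_diag (hD : TData X f d s e P G₁ G₂) (halt : ∀ v, f v v = 0) (p : Fin d × Fin s) :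
    (G₁ ⊗ₖ G₂) p p = 0 := by
  have h1 := hD.form (Pi.single p 1) (Pi.single p 1)
  rw [halt] at h1
  simpa using h1.symm

/-- the elements of `X` are Kronecker products of similitudes of the two factors -/
theorem exists_simil (hD : TData X f d s e P G₁ G₂) (hG₁ : G₁ ≠ 0) (hG₂ : G₂ ≠ 0)
    (hfix : ∀ h ∈ X, ∀ u v, f ((h : Matrix ι ι F) *ᵥ u) ((h : Matrix ι ι F) *ᵥ v) = f u v)
    (h : GL ι F) (hh : h ∈ X) :
    ∃ (α : GL (Fin d) F) (γ : GL (Fin s) F) (c : F), c ≠ 0 ∧ h = P * glReindex e.symm (kronGL α γ) * P⁻¹ ∧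
      (α : Matrix (Fin d) (Fin d) F)ᵀ * G₁ * (α : Matrix (Fin d) (Fin d) F) = c • G₁ ∧
      (γ : Matrix (Fin s) (Fin s) F)ᵀ * G₂ * (γ : Matrix (Fin s) (Fin s) F) = c⁻¹ • G₂ := by
  obtain ⟨α, γ, hαγ⟩ := hD.grp h hh
  set K : Matrix (Fin d × Fin s) (Fin d × Fin s) F :=
    ((kronGL α γ : GL (Fin d × Fin s) F) : Matrix (Fin d × Fin s) (Fin d × Fin s) F) with hK
  have hKT : Kᵀ * (G₁ ⊗ₖ G₂) * K = G₁ ⊗ₖ G₂ := by
    apply eq_of_dot_eq
    intro x y
    rw [← mulVec_dot_mulVec]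
    have h1 := hfix h hh ((P : Matrix ι ι F) *ᵥ (x ∘ e)) ((P : Matrix ι ι F) *ᵥ (y ∘ e))
    rw [form_Linv hD, form_Linv hD ((P : Matrix ι ι F) *ᵥ (x ∘ e))] at h1
    conv_lhs at h1 => rw [hαγ, Linv_conj, Linv_conj]
    rw [Linv_L, Linv_L] at h1
    exact h1
  rw [hK, kronGL_val, ← Matrix.kroneckerMap_transpose, ← Matrix.mul_kronecker_mul,
    ← Matrix.mul_kronecker_mul] at hKT
  obtain ⟨c, hc, hA, hB⟩ := kron_eq_kron _ G₁ _ G₂ hG₁ hG₂ hKT
  exact ⟨α, γ, c, hc, hαγ, hA, hB⟩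

/-- the `b`-th slice of a vector of the tensor product -/
def slice (x : Fin d × Fin s → F) (b : Fin s) : Fin d → F := fun a => x (a, b)

theorem slice_kron (A : Matrix (Fin d) (Fin d) F) (B : Matrix (Fin s) (Fin s) F) (x : Fin d × Fin s → F)
    (b : Fin s) : slice ((A ⊗ₖ B) *ᵥ x) b = ∑ b', B b b' • (A *ᵥ slice x b') := by
  funext a
  simp only [slice, Matrix.mulVec, dotProduct, Matrix.kroneckerMap_apply, Fintype.sum_prod_type,
    Finset.sum_apply, Pi.smul_apply, smul_eq_mul, Finset.mul_sum]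
  rw [Finset.sum_comm]
  apply Finset.sum_congr rfl
  intro b' _
  apply Finset.sum_congr rfl
  intro a' _
  ring

/-- the quadratic form of a symmetric matrix in characteristic 2 as an additive map -/
def quadHom (h2 : (2 : F) = 0) (S : Matrix (Fin d) (Fin d) F) (hS : Sᵀ = S) : (Fin d → F) →+ F :=
  { toFun := fun x => x ⬝ᵥ S *ᵥ x
    map_zero' := by simp
    map_add' := quad_add_char2 h2 S hS }

theorem quadHom_apply (h2 : (2 : F) = 0) (S : Matrix (Fin d) (Fin d) F) (hS : Sᵀ = S) (x : Fin d → F) :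
    quadHom h2 S hS x = x ⬝ᵥ S *ᵥ x := rfl

/-- irreducibility forces the first tensor factor of the form to be alternating -/
theorem diag_zero_of_irr (h2 : (2 : F) = 0) (hsq : ∀ a : F, IsSquare a)
    (hD : TData X f d s e P G₁ G₂) (hG₁s : G₁ᵀ = G₁) (hG₁ : G₁ ≠ 0) (hG₂ : G₂ ≠ 0)
    (hfix : ∀ h ∈ X, ∀ u v, f ((h : Matrix ι ι F) *ᵥ u) ((h : Matrix ι ι F) *ᵥ v) = f u v)
    (hirr : ActsIrreducibly (matrixSet X)) (hd : 1 < d) (hs : 0 < s) :
    ∀ a, G₁ a a = 0 := by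
  by_contra hcon
  push Not at hcon
  obtain ⟨a₀, ha₀⟩ := hcon
  have hLinv0 : Linv e P (0 : ι → F) = 0 := by
    unfold Linv
    rw [Matrix.mulVec_zero]
    rfl
  let W : Submodule F (ι → F) :=
    { carrier := {v | ∀ b, (slice (Linv e P v) b) ⬝ᵥ G₁ *ᵥ (slice (Linv e P v) b) = 0}
      zero_mem' := by
        intro b
        rw [hLinv0]
        have : slice (0 : Fin d × Fin s → F) b = 0 := rfl
        rw [this]
        simp
      add_mem' := by
        intro u v hu hv b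
        have hu' := hu b
        have hv' := hv b
        rw [Linv_add]
        have : slice (Linv e P u + Linv e P v) b = slice (Linv e P u) b + slice (Linv e P v) b := rfl
        rw [this, quad_add_char2 h2 G₁ hG₁s, hu', hv', add_zero]
      smul_mem' := by
        intro c v hv b
        have hv' := hv b
        rw [Linv_smul]
        have : slice (c • Linv e P v) b = c • slice (Linv e P v) b := rfl
        rw [this, quad_smul', hv', mul_zero] }
  have hWmem : ∀ v, v ∈ W ↔ ∀ b, (slice (Linv e P v) b) ⬝ᵥ G₁ *ᵥ (slice (Linv e P v) b) = 0 :=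
    fun v => Iff.rfl
  -- invariance
  have hWinv : ∀ m ∈ matrixSet X, W.map (Matrix.toLin' m) ≤ W := by
    rintro m ⟨h, hh, rfl⟩ y hy
    obtain ⟨v, hv, rfl⟩ := Submodule.mem_map.1 hy
    rw [Matrix.toLin'_apply, hWmem]
    intro b
    obtain ⟨α, γ, c, -, hαγ, hA, -⟩ := exists_simil hD hG₁ hG₂ hfix h hh
    have hv' : ∀ b, (slice (Linv e P v) b) ⬝ᵥ G₁ *ᵥ (slice (Linv e P v) b) = 0 := hv
    conv_lhs => rw [hαγ, Linv_conj, kronGL_val, slice_kron]
    rw [← quadHom_apply h2 G₁ hG₁s, map_sum]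
    apply Finset.sum_eq_zero
    intro b' _
    rw [quadHom_apply, quad_smul', mulVec_dot_mulVec, hA, Matrix.smul_mulVec, dotProduct_smul, hv' b',
      smul_zero, mul_zero]
  -- a non-zero vector of `W`
  have hd0 : 0 < d := by omega
  obtain ⟨a₁, ha₁⟩ : ∃ a₁ : Fin d, a₁ ≠ a₀ := by
    by_cases h0 : a₀ = ⟨0, hd0⟩
    · exact ⟨⟨1, hd⟩, by rw [h0]; intro h; simpa using congrArg Fin.val h⟩
    · exact ⟨⟨0, hd0⟩, fun h => h0 h.symm⟩
  let b₀ : Fin s := ⟨0, hs⟩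
  obtain ⟨r₀, hr₀⟩ := hsq (G₁ a₀ a₀)
  obtain ⟨r₁, hr₁⟩ := hsq (G₁ a₁ a₁)
  have hr₀0 : r₀ ≠ 0 := by
    intro h0
    rw [h0, mul_zero] at hr₀
    exact ha₀ hr₀
  set u : Fin d → F := Pi.single a₀ r₁ + Pi.single a₁ r₀ with hu
  have hqu : u ⬝ᵥ G₁ *ᵥ u = 0 := by
    rw [hu, quad_add_char2 h2 G₁ hG₁s, quad_single, quad_single, hr₀, hr₁]
    linear_combination (r₀ * r₀ * (r₁ * r₁)) * h2
  set x : Fin d × Fin s → F := fun p => if p.2 = b₀ then u p.1 else 0 with hx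
  have hslice : ∀ b, slice x b = if b = b₀ then u else 0 := by
    intro b
    funext a
    simp only [slice, hx]
    split_ifs <;> rfl
  have hxW : (P : Matrix ι ι F) *ᵥ (x ∘ e) ∈ W := by
    rw [hWmem]
    intro b
    rw [Linv_L, hslice]
    split_ifs
    · exact hqu
    · simp
  have hx0 : (P : Matrix ι ι F) *ᵥ (x ∘ e) ≠ 0 := by
    intro h0
    have h1 : x = 0 := by
      rw [← Linv_L e P x, h0, hLinv0]
    have h3 := congrFun h1 (a₁, b₀)
    simp only [hx, hu, if_true, Pi.add_apply, Pi.zero_apply, Pi.single_eq_same,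
      Pi.single_eq_of_ne ha₁, zero_add] at h3
    exact hr₀0 h3
  -- a vector outside `W`
  have hnotW : (P : Matrix ι ι F) *ᵥ ((Pi.single (a₀, b₀) 1 : Fin d × Fin s → F) ∘ e) ∉ W := by
    rw [hWmem]
    intro hall
    have h1 := hall b₀
    rw [Linv_L] at h1
    have h3 : slice (Pi.single (a₀, b₀) 1 : Fin d × Fin s → F) b₀ = Pi.single a₀ 1 := by
      funext a
      simp only [slice, Pi.single_apply, Prod.mk.injEq, and_true]
    rw [h3, quad_single, one_pow, mul_one] at h1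
    exact ha₀ h1
  rcases hirr W hWinv with hW | hW
  · rw [hW, Submodule.mem_bot] at hxW
    exact hx0 hxW
  · apply hnotW
    rw [hW]
    trivial

/-- the strictly upper triangular part of a matrix -/
def upper (G : Matrix (Fin s) (Fin s) F) : Matrix (Fin s) (Fin s) F :=
  Matrix.of fun b b' => if b < b' then G b b' else 0

theorem upper_add_transpose (G : Matrix (Fin s) (Fin s) F) (hG : Gᵀ = G) (hdiag : ∀ b, G b b = 0) :
    upper G + (upper G)ᵀ = G := by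
  ext b b'
  simp only [Matrix.add_apply, Matrix.transpose_apply, upper, Matrix.of_apply]
  rcases lt_trichotomy b b' with h | h | h
  · rw [if_pos h, if_neg (not_lt.2 h.le), add_zero]
  · subst h
    rw [if_neg (lt_irrefl _), add_zero, hdiag]
  · rw [if_neg (not_lt.2 h.le), if_pos h, zero_add]
    have := congrFun (congrFun hG b) b'
    rwa [Matrix.transpose_apply] at this

theorem mat_neg_eq_self (h2 : (2 : F) = 0) {κ : Type} (M : Matrix κ κ F) : -M = M := by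
  rw [neg_eq_iff_add_eq_zero, ← two_smul F M, h2, zero_smul]

/-- the invariant quadratic form in coordinates: it is fixed by Kronecker products of similitudes -/
theorem quad_kron_fixed (h2 : (2 : F) = 0) (hG₁s : G₁ᵀ = G₁) (hG₂s : G₂ᵀ = G₂)
    (hdiag₁ : ∀ a, G₁ a a = 0) (hdiag₂ : ∀ b, G₂ b b = 0)
    (α : Matrix (Fin d) (Fin d) F) (γ : Matrix (Fin s) (Fin s) F) (c : F) (hc : c ≠ 0)
    (hA : αᵀ * G₁ * α = c • G₁) (hB : γᵀ * G₂ * γ = c⁻¹ • G₂) (x : Fin d × Fin s → F) :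
    ((α ⊗ₖ γ) *ᵥ x) ⬝ᵥ (G₁ ⊗ₖ upper G₂) *ᵥ ((α ⊗ₖ γ) *ᵥ x) = x ⬝ᵥ (G₁ ⊗ₖ upper G₂) *ᵥ x := by
  rw [mulVec_dot_mulVec, ← Matrix.kroneckerMap_transpose, ← Matrix.mul_kronecker_mul,
    ← Matrix.mul_kronecker_mul, hA, Matrix.smul_kronecker, ← Matrix.kronecker_smul]
  set B : Matrix (Fin s) (Fin s) F := upper G₂ with hBdef
  set B' : Matrix (Fin s) (Fin s) F := c • (γᵀ * B * γ) with hB'
  have hBB : B + Bᵀ = G₂ := upper_add_transpose G₂ hG₂s hdiag₂
  -- `D = B' - B` is symmetric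
  have hD : (B' - B)ᵀ = B' - B := by
    have h1 : (B' - B) + (B' - B)ᵀ = 0 := by
      have e1 : (B' - B) + (B' - B)ᵀ = c • (γᵀ * (B + Bᵀ) * γ) - (B + Bᵀ) := by
        rw [hB', Matrix.transpose_sub, Matrix.transpose_smul, Matrix.transpose_mul, Matrix.transpose_mul,
          Matrix.transpose_transpose, mul_add, add_mul, smul_add, ← mul_assoc]
        abel
      rw [e1, hBB, hB, smul_smul, mul_inv_cancel₀ hc, one_smul, sub_self]
    have h5 : (B' - B)ᵀ = -(B' - B) := eq_neg_of_add_eq_zero_right h1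
    rw [h5, mat_neg_eq_self h2]
  have hsymm : (G₁ ⊗ₖ (B' - B))ᵀ = G₁ ⊗ₖ (B' - B) := by
    rw [← Matrix.kroneckerMap_transpose, hG₁s, hD]
  have hdiag : ∀ p, (G₁ ⊗ₖ (B' - B)) p p = 0 := by
    intro p
    rw [Matrix.kroneckerMap_apply, hdiag₁, zero_mul]
  have h0 := quad_alt h2 _ hsymm hdiag x
  have e2 : G₁ ⊗ₖ B' = G₁ ⊗ₖ (B' - B) + G₁ ⊗ₖ B := by rw [← Matrix.kronecker_add, sub_add_cancel]
  rw [e2, Matrix.add_mulVec, dotProduct_add, h0, zero_add]

end tensor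

section Sp

variable [Fintype F]

/-- SP4c: a normalized adjoint-closed tensor algebra, characteristic 2: an invariant quadratic form -/
theorem SP4c (m : ℕ) (heven : ¬ Odd (Fintype.card F)) (X : Subgroup (GL (Fin m ⊕ Fin m) F)) (hX : X ≤ spGL m F)
    (hirr : ActsIrreducibly (matrixSet X))
    (A : Subalgebra F (Matrix (Fin m ⊕ Fin m) (Fin m ⊕ Fin m) F)) (hA : NormalizesAlg X A)
    (hadj : IsAdjointClosedFor (sympForm m F) A)
    (d s : ℕ) (e : (Fin m ⊕ Fin m) ≃ Fin d × Fin s) (P : GL (Fin m ⊕ Fin m) F) (hT : IsTensorAlg A d s e P)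
    (hd : 1 < d) (hs : 1 < s) :
    ∃ Q : (Fin m ⊕ Fin m → F) → F, IsNondegenerateQuadraticForm Q ∧
      (∀ u v, QuadraticMap.polar Q u v = sympForm m F u v) ∧ FixesQuadForm (matrixSet X) Q := by
  have h2 : (2 : F) = 0 := Helper7_AschSp_SPQ.two_eq_zero_of_not_odd heven
  have hsq : ∀ a : F, IsSquare a := Helper7_AschSp_SPQ.isSquare_of_not_odd heven
  have hS := isSymplecticForm_sympForm (F := F) m
  have hb := hS.bilinear
  have hnd := hS.nondegenerate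
  have halt := hS.alternating
  have hsymm : ∀ u v, sympForm m F u v = sympForm m F v u := by
    intro u v
    rw [hS.skew, neg_eq_self_char2 h2]
  have hd0 : 0 < d := by omega
  have hs0 : 0 < s := by omega
  obtain ⟨G₁, G₂, hdet₁, hdet₂, hform⟩ :=
    Helper52_Form_F4.F4 (RingEquiv.refl F) (sympForm m F) (isSesq_of_bilinear hb) hnd A hadj d s e P hT
  have hD : TData X (sympForm m F) d s e P G₁ G₂ := by
    refine ⟨fun x y => ?_, fun h hh => exists_kron' X A hA d s e P hT hd0 hs0 h hh⟩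
    rw [hform]
    exact formOfGram_id _ x y
  have hG₁ne : G₁ ≠ 0 := ne_zero_of_isUnit_det hd0 G₁ hdet₁
  have hG₂ne : G₂ ≠ 0 := ne_zero_of_isUnit_det hs0 G₂ hdet₂
  obtain ⟨hG₁s, hG₂s⟩ := factor_symm h2 G₁ G₂ hG₁ne hG₂ne (T_symm hD hsymm)
  have hfix : ∀ h ∈ X, ∀ u v, sympForm m F ((h : Matrix (Fin m ⊕ Fin m) (Fin m ⊕ Fin m) F) *ᵥ u)
      ((h : Matrix (Fin m ⊕ Fin m) (Fin m ⊕ Fin m) F) *ᵥ v) = sympForm m F u v :=
    fun h hh => (mem_spGL_iff h).1 (hX hh)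
  have hdiag₁ : ∀ a, G₁ a a = 0 := diag_zero_of_irr h2 hsq hD hG₁s hG₁ne hG₂ne hfix hirr hd hs0
  have hdiag₂ : ∀ b, G₂ b b = 0 := diag_zero_of_irr h2 hsq hD.swap hG₂s hG₂ne hG₁ne hfix hirr hs hd0
  -- the quadratic form
  set M : Matrix (Fin d × Fin s) (Fin d × Fin s) F := G₁ ⊗ₖ upper G₂ with hM
  have hMM : M + Mᵀ = G₁ ⊗ₖ G₂ := by
    rw [hM, ← Matrix.kroneckerMap_transpose, hG₁s, ← Matrix.kronecker_add,
      upper_add_transpose G₂ hG₂s hdiag₂]
  have hpol : ∀ u v, QuadraticMap.polar (fun w => (Linv e P w) ⬝ᵥ M *ᵥ (Linv e P w)) u v = sympForm m F u v := by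
    intro u v
    unfold QuadraticMap.polar
    show (Linv e P (u + v)) ⬝ᵥ M *ᵥ (Linv e P (u + v)) - (Linv e P u) ⬝ᵥ M *ᵥ (Linv e P u)
      - (Linv e P v) ⬝ᵥ M *ᵥ (Linv e P v) = sympForm m F u v
    rw [form_Linv hD, ← hMM, Linv_add, Matrix.mulVec_add, add_dotProduct, dotProduct_add, dotProduct_add,
      Matrix.add_mulVec, dotProduct_add]
    have h3 : (Linv e P v) ⬝ᵥ M *ᵥ (Linv e P u) = (Linv e P u) ⬝ᵥ Mᵀ *ᵥ (Linv e P v) := by
      rw [Matrix.dotProduct_mulVec, ← Matrix.mulVec_transpose, dotProduct_comm]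
    rw [h3]
    ring
  have hpol' : QuadraticMap.polar (fun w => (Linv e P w) ⬝ᵥ M *ᵥ (Linv e P w)) = sympForm m F := by
    funext u v
    exact hpol u v
  refine ⟨fun w => (Linv e P w) ⬝ᵥ M *ᵥ (Linv e P w), ⟨?_, by rw [hpol']; exact hb, by rw [hpol']; exact hnd⟩,
    hpol, ?_⟩
  · intro c v
    show (Linv e P (c • v)) ⬝ᵥ M *ᵥ (Linv e P (c • v)) = c ^ 2 * ((Linv e P v) ⬝ᵥ M *ᵥ (Linv e P v))
    rw [Linv_smul, quad_smul']
  · rintro _ ⟨h, hh, rfl⟩ v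
    obtain ⟨α, γ, c, hc, hαγ, hAα, hBγ⟩ := exists_simil hD hG₁ne hG₂ne hfix h hh
    show (Linv e P ((h : Matrix (Fin m ⊕ Fin m) (Fin m ⊕ Fin m) F) *ᵥ v)) ⬝ᵥ M *ᵥ
      (Linv e P ((h : Matrix (Fin m ⊕ Fin m) (Fin m ⊕ Fin m) F) *ᵥ v)) = (Linv e P v) ⬝ᵥ M *ᵥ (Linv e P v)
    conv_lhs => rw [hαγ, Linv_conj, kronGL_val]
    exact quad_kron_fixed h2 hG₁s hG₂s hdiag₁ hdiag₂ _ _ c hc hAα hBγ _

end Sp

end Cfsg.Agent.Lib.Helper7_AschSp_SP4c
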