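import Mathlib
import Cfsg.Agent.Lib.Helper98_AschDefs
import Cfsg.Agent.Lib.Helper23_FormDefs
import Cfsg.Agent.Lib.Helper29_OrthOddDefs
import Cfsg.Agent.Lib.Helper52_Form_F4
import Cfsg.Agent.Lib.Helper34_OrthOdd_OP4b
import Cfsg.Agent.Lib.Helper7_AschSp_SP4c
import Cfsg.Agent.Lib.Helper43_AltEven
import Cfsg.Agent.Lib.Helper82_AschSp_SP4a

set_option autoImplicit false

/-!
Package EV17 of helper22's even-dimensional orthogonal market: an irreducible group of isometries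
of a nondegenerate quadratic form normalising an adjoint-closed tensor algebra `M_d ⊗ 1` with `d` or
`s` odd: the characteristic is odd, both factor forms are symmetric, and the odd factor can be put
first.
-/

open Cfsg Cfsg.Geo Matrix Cfsg.Agent.Lib.Helper98_AschDefs Cfsg.Agent.Lib.Helper23_FormDefs
  Cfsg.Agent.Lib.Helper34_OrthOdd_OP4b Cfsg.Agent.Lib.Helper82_AschSp_SP4a
open scoped Kronecker MatrixGroups

namespace Cfsg.Agent.Lib.Helper82_OrthEven_EV17

section mat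

variable {F : Type*} [Field F]

/-- a nonsingular symmetric matrix with zero diagonal has even size (characteristic 2) -/
theorem even_of_alt_char_two (h2 : (2 : F) = 0) {n : ℕ} (G : Matrix (Fin n) (Fin n) F)
    (hG : Gᵀ = G) (hdiag : ∀ a, G a a = 0) (hdet : IsUnit G.det) : Even n := by
  have halt : (Matrix.toBilin' G).IsAlt := by
    intro x
    rw [Matrix.toBilin'_apply']
    exact Cfsg.Agent.Lib.Helper7_AschSp_SP4c.quad_alt h2 G hG hdiag x
  have hnd : (Matrix.toBilin' G).Nondegenerate :=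
    LinearMap.BilinForm.nondegenerate_toBilin'_of_det_ne_zero' G hdet.ne_zero
  exact Cfsg.Agent.Lib.Helper43_AltEven.even_finrank_of_alt n (Fin n → F) (Matrix.toBilin' G) halt hnd
    (by rw [Module.finrank_fintype_fun_eq_card, Fintype.card_fin])

/-- a nonsingular skew matrix has even size (characteristic not 2) -/
theorem not_odd_of_skew (h2 : (2 : F) ≠ 0) {n : ℕ} (G : Matrix (Fin n) (Fin n) F)
    (hG : Gᵀ = -G) (hdet : IsUnit G.det) : ¬ Odd n := by
  intro hodd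
  have h1 : G.det = -G.det := by
    have := congrArg Matrix.det hG
    rw [Matrix.det_transpose, Matrix.det_neg, Fintype.card_fin, hodd.neg_one_pow, neg_one_mul] at this
    exact this
  have h3 : 2 * G.det = 0 := by linear_combination h1
  exact hdet.ne_zero ((mul_eq_zero.1 h3).resolve_left h2)

/-- the sign structure of a symmetric Kronecker product -/
theorem kron_symm_cases {d s : ℕ} {G₁ : Matrix (Fin d) (Fin d) F} {G₂ : Matrix (Fin s) (Fin s) F}
    (hG₁ : G₁ ≠ 0) (hG₂ : G₂ ≠ 0) (hT : (G₁ ⊗ₖ G₂)ᵀ = G₁ ⊗ₖ G₂) :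
    (G₁ᵀ = G₁ ∧ G₂ᵀ = G₂) ∨ (G₁ᵀ = -G₁ ∧ G₂ᵀ = -G₂) := by
  have hT' : G₁ᵀ ⊗ₖ G₂ᵀ = G₁ ⊗ₖ G₂ := by
    rw [Matrix.kroneckerMap_transpose, hT]
  obtain ⟨c, hc0, hc⟩ := kron_prop hG₁ hG₂ hT'
  have hcc : c * c = 1 := by
    have h1 : G₂ = (c * c) • G₂ := by
      have := congrArg Matrix.transpose hc
      rw [Matrix.transpose_transpose, Matrix.transpose_smul, hc, smul_smul] at this
      exact this
    obtain ⟨k, l, hkl⟩ := exists_ne_zero_of_ne_zero hG₂
    have h3 := congrFun (congrFun h1 k) l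
    rw [Matrix.smul_apply, smul_eq_mul] at h3
    have h4 : (c * c - 1) * G₂ k l = 0 := by linear_combination -h3
    rcases mul_eq_zero.1 h4 with h5 | h5
    · linear_combination h5
    · exact absurd h5 hkl
  have hc1 : c = 1 ∨ c = -1 := by
    have : (c - 1) * (c + 1) = 0 := by linear_combination hcc
    rcases mul_eq_zero.1 this with h | h
    · left; linear_combination h
    · right; linear_combination h
  rcases hc1 with rfl | rfl
  · left
    rw [one_smul] at hc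
    refine ⟨?_, hc⟩
    rw [hc] at hT'
    exact kron_right_cancel hG₂ hT'
  · right
    rw [neg_smul, one_smul] at hc
    refine ⟨?_, hc⟩
    rw [hc] at hT'
    have e1 : G₁ᵀ ⊗ₖ (-G₂) = (-G₁ᵀ) ⊗ₖ G₂ := by
      ext p q
      simp [Matrix.kroneckerMap_apply]
    rw [e1] at hT'
    exact neg_eq_iff_eq_neg.1 (kron_right_cancel hG₂ hT')

end mat

section main

variable {ι : Type} [Fintype ι] [DecidableEq ι] {F : Type*} [Field F]

/-- EV17: an irreducible group of isometries normalising an adjoint-closed tensor algebra `M_d ⊗ 1` with `d` or `s` odd: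
the characteristic is odd, both factor forms are symmetric, and (after swapping the factors if necessary) the odd factor
comes first -/
theorem EV17 [Fintype F] (Q : (ι → F) → F) (hQ : IsNondegenerateQuadraticForm Q) (H : Subgroup (GL ι F))
    (hHI : H ≤ isometryGroup F Q) (hirr : ActsIrreducibly (matrixSet H))
    (A : Subalgebra F (Matrix ι ι F)) (hA : NormalizesAlg H A)
    (hAadj : IsAdjointClosedFor (QuadraticMap.polar Q) A)
    (d s : ℕ) (e : ι ≃ Fin d × Fin s) (P : GL ι F) (hT : IsTensorAlg A d s e P)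
    (hd : 1 < d) (hs : 1 < s) (hodd : Odd d ∨ Odd s) :
    (2 : F) ≠ 0 ∧ ∃ (n₁ n₂ : ℕ) (e' : ι ≃ Fin n₁ × Fin n₂) (P' : GL ι F)
      (f₁ : (Fin n₁ → F) → (Fin n₁ → F) → F) (f₂ : (Fin n₂ → F) → (Fin n₂ → F) → F),
      ((n₁ = d ∧ n₂ = s) ∨ (n₁ = s ∧ n₂ = d)) ∧ Odd n₁ ∧ IsSymmetricForm f₁ ∧ IsSymmetricForm f₂ ∧
      IsTensorFormStructure id (QuadraticMap.polar Q) f₁ f₂ e' P' ∧ H ≤ tensorProductSubgroup n₁ n₂ e' P' := by
  classical
  have hbil : IsBilinearForm (QuadraticMap.polar Q) := hQ.polar_bilinear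
  have hnd : IsNondegenerateForm (QuadraticMap.polar Q) := hQ.nondegenerate
  have hsymm : ∀ u v, QuadraticMap.polar Q u v = QuadraticMap.polar Q v u :=
    fun u v => QuadraticMap.polar_comm Q u v
  have hfix : ∀ h ∈ H, ∀ u v, QuadraticMap.polar Q ((h : Matrix ι ι F) *ᵥ u) ((h : Matrix ι ι F) *ᵥ v)
      = QuadraticMap.polar Q u v :=
    fun h hh u v => Cfsg.Agent.Lib.Helper29_OrthOddDefs.polar_mulVec_of_mem Q (hHI hh) u v
  obtain ⟨G₁, G₂, h₁, h₂, hform⟩ := Cfsg.Agent.Lib.Helper52_Form_F4.F4 (RingEquiv.refl F)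
    (QuadraticMap.polar Q) (isSesq_of_bilinear hbil) hnd A hAadj d s e P hT
  have hform' : ∀ x y : Fin d × Fin s → F,
      QuadraticMap.polar Q ((P : Matrix _ _ F) *ᵥ (x ∘ e)) ((P : Matrix _ _ F) *ᵥ (y ∘ e)) =
        x ⬝ᵥ (G₁ ⊗ₖ G₂) *ᵥ y := by
    intro x y
    rw [hform]
    have : (⇑(RingEquiv.refl F) : F → F) = id := rfl
    rw [this, formOfGram_id]
  have hD : TData H (QuadraticMap.polar Q) d s e P G₁ G₂ :=
    ⟨hform', fun h hh => exists_kron' H A hA d s e P hT (by omega) (by omega) h hh⟩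
  have hG₁0 : G₁ ≠ 0 := ne_zero_of_isUnit_det (by omega) h₁
  have hG₂0 : G₂ ≠ 0 := ne_zero_of_isUnit_det (by omega) h₂
  have hTsymm : (G₁ ⊗ₖ G₂)ᵀ = G₁ ⊗ₖ G₂ := Cfsg.Agent.Lib.Helper7_AschSp_SP4c.T_symm hD hsymm
  -- the characteristic is odd
  have h2 : (2 : F) ≠ 0 := by
    intro h2
    have hchar : CharP F 2 := CharTwo.of_one_ne_zero_of_two_eq_zero one_ne_zero h2
    have hsq : ∀ a : F, IsSquare a := fun a => FiniteField.isSquare_of_char_two (ringChar.eq F 2) a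
    obtain ⟨hs₁, hs₂⟩ := Cfsg.Agent.Lib.Helper7_AschSp_SP4c.factor_symm h2 G₁ G₂ hG₁0 hG₂0 hTsymm
    rcases hodd with hdo | hso
    · have hdiag := Cfsg.Agent.Lib.Helper7_AschSp_SP4c.diag_zero_of_irr h2 hsq hD hs₁ hG₁0 hG₂0 hfix
        hirr hd (by omega)
      exact (Nat.not_even_iff_odd.2 hdo) (even_of_alt_char_two h2 G₁ hs₁ hdiag h₁)
    · have hdiag := Cfsg.Agent.Lib.Helper7_AschSp_SP4c.diag_zero_of_irr h2 hsq hD.swap hs₂ hG₂0 hG₁0
        hfix hirr hs (by omega)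
      exact (Nat.not_even_iff_odd.2 hso) (even_of_alt_char_two h2 G₂ hs₂ hdiag h₂)
  refine ⟨h2, ?_⟩
  -- both factors are symmetric
  have hboth : G₁ᵀ = G₁ ∧ G₂ᵀ = G₂ := by
    rcases kron_symm_cases hG₁0 hG₂0 hTsymm with h | ⟨hk₁, hk₂⟩
    · exact h
    · exfalso
      rcases hodd with hdo | hso
      · exact not_odd_of_skew h2 G₁ hk₁ h₁ hdo
      · exact not_odd_of_skew h2 G₂ hk₂ h₂ hso
  obtain ⟨hs₁, hs₂⟩ := hboth
  -- the conclusion from a normal form with the odd factor first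
  have hout : ∀ {a b : ℕ} (e' : ι ≃ Fin a × Fin b) (Ga : Matrix (Fin a) (Fin a) F)
      (Gb : Matrix (Fin b) (Fin b) F), Gaᵀ = Ga → Gbᵀ = Gb → IsUnit Ga.det → IsUnit Gb.det →
      TData H (QuadraticMap.polar Q) a b e' P Ga Gb →
      IsSymmetricForm (gramForm Ga) ∧ IsSymmetricForm (gramForm Gb) ∧
        IsTensorFormStructure id (QuadraticMap.polar Q) (gramForm Ga) (gramForm Gb) e' P ∧
        H ≤ tensorProductSubgroup a b e' P := by
    intro a b e' Ga Gb hGa hGb hda hdb hD'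
    refine ⟨isSymmetricForm_gramForm Ga hGa hda, isSymmetricForm_gramForm Gb hGb hdb, ?_, ?_⟩
    · refine ⟨1, one_ne_zero, fun x y => ?_⟩
      rw [one_mul, gramMatrix_gramForm, gramMatrix_gramForm, formOfGram_id]
      exact hD'.form x y
    · intro h hh
      obtain ⟨α, γ, hαγ⟩ := hD'.grp h hh
      exact mem_conj_reindex' (kroneckerSubgroup a b F) e' P h (kronGL α γ) (kronGL_mem α γ) hαγ
  by_cases hdo : Odd d
  · obtain ⟨g1, g2, g3, g4⟩ := hout e G₁ G₂ hs₁ hs₂ h₁ h₂ hD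
    exact ⟨d, s, e, P, gramForm G₁, gramForm G₂, Or.inl ⟨rfl, rfl⟩, hdo, g1, g2, g3, g4⟩
  · have hso : Odd s := hodd.resolve_left hdo
    obtain ⟨g1, g2, g3, g4⟩ := hout (e.trans (Equiv.prodComm (Fin d) (Fin s))) G₂ G₁ hs₂ hs₁ h₂ h₁
      hD.swap
    exact ⟨s, d, e.trans (Equiv.prodComm (Fin d) (Fin s)), P, gramForm G₂, gramForm G₁,
      Or.inr ⟨rfl, rfl⟩, hso, g1, g2, g3, g4⟩

end main

end Cfsg.Agent.Lib.Helper82_OrthEven_EV17
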