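import Mathlib
import Cfsg.Agent.Lib.Helper98_AschDefs
import Cfsg.Agent.Lib.Helper23_FormDefs
import Cfsg.Agent.Lib.Helper34_OrthOdd_OP4b
import Cfsg.Agent.Lib.Helper82_AschSp_SP4b

set_option autoImplicit false

/-!
Package EV18 of helper22's even-dimensional orthogonal market: a tensor product of symmetric forms
whose second factor is of plus type is of plus type.
-/

open Cfsg Cfsg.Geo Matrix Cfsg.Agent.Lib.Helper98_AschDefs Cfsg.Agent.Lib.Helper23_FormDefs
  Cfsg.Agent.Lib.Helper34_OrthOdd_OP4b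
open scoped Kronecker MatrixGroups

namespace Cfsg.Agent.Lib.Helper82_OrthEven_EV18

variable {ι : Type} [Fintype ι] [DecidableEq ι] {F : Type*} [Field F]

/-- `Q v = 0` iff `polar Q v v = 0` when `2 ≠ 0` -/
theorem polar_self_eq (Q : (ι → F) → F) (hQ : IsNondegenerateQuadraticForm Q) (v : ι → F) :
    QuadraticMap.polar Q v v = 2 * Q v := by
  unfold QuadraticMap.polar
  have h1 : v + v = (2 : F) • v := (two_smul F v).symm
  rw [h1, hQ.smul]
  ring

/-- the Kronecker quadratic sum vanishes when the rows of `x` lie in a totally isotropic subspace -/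
theorem kron_form_eq_zero {n₁ n₂ : ℕ} (G₁ : Matrix (Fin n₁) (Fin n₁) F)
    (G₂ : Matrix (Fin n₂) (Fin n₂) F) (x : Fin n₁ × Fin n₂ → F)
    (h : ∀ a a', (fun b => x (a, b)) ⬝ᵥ G₂ *ᵥ (fun b => x (a', b)) = 0) :
    x ⬝ᵥ (G₁ ⊗ₖ G₂) *ᵥ x = 0 := by
  have key : ∀ a a', ∑ b, ∑ b', x (a, b) * (G₂ b b' * x (a', b')) = 0 := by
    intro a a'
    have := h a a'
    simp only [dotProduct, Matrix.mulVec, Finset.mul_sum] at this
    exact this
  simp only [dotProduct, Matrix.mulVec, Fintype.sum_prod_type, Matrix.kroneckerMap_apply]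
  have h1 : ∀ a, ∑ b, x (a, b) * ∑ a', ∑ b', G₁ a a' * G₂ b b' * x (a', b') =
      ∑ a', G₁ a a' * ∑ b, ∑ b', x (a, b) * (G₂ b b' * x (a', b')) := by
    intro a
    simp only [Finset.mul_sum]
    rw [Finset.sum_comm]
    refine Finset.sum_congr rfl (fun a' _ => Finset.sum_congr rfl (fun b _ =>
      Finset.sum_congr rfl (fun b' _ => by ring)))
  rw [Finset.sum_congr rfl (fun a _ => h1 a)]
  simp only [key, mul_zero, Finset.sum_const_zero]

/-- EV18: a tensor product of symmetric forms whose second factor (of even dimension) is of plus type is of plus type -/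
theorem EV18 [Fintype F] (Q : (ι → F) → F) (hQ : IsNondegenerateQuadraticForm Q) (h2 : (2 : F) ≠ 0)
    (n₁ n₂ : ℕ) (e : ι ≃ Fin n₁ × Fin n₂) (P : GL ι F)
    (f₁ : (Fin n₁ → F) → (Fin n₁ → F) → F) (f₂ : (Fin n₂ → F) → (Fin n₂ → F) → F)
    (hf₁ : IsSymmetricForm f₁) (hf₂ : IsSymmetricForm f₂)
    (hten : IsTensorFormStructure id (QuadraticMap.polar Q) f₁ f₂ e P)
    (hplus : IsPlusTypeOn (fun v : Fin n₂ → F => f₂ v v) ⊤) : IsPlusTypeOn Q ⊤ := by
  classical
  obtain ⟨U₂, -, hU₂ts, hU₂dim⟩ := hplus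
  obtain ⟨c, hc, hform⟩ := hten
  rw [finrank_top, Module.finrank_fintype_fun_eq_card, Fintype.card_fin] at hU₂dim
  -- polarisation
  have hiso : ∀ u ∈ U₂, ∀ u' ∈ U₂, f₂ u u' = 0 := by
    intro u hu u' hu'
    have h1 : f₂ (u + u') (u + u') = 0 := hU₂ts _ (U₂.add_mem hu hu')
    have hb := hf₂.bilinear
    have hu0 : f₂ u u = 0 := hU₂ts u hu
    have hu0' : f₂ u' u' = 0 := hU₂ts u' hu'
    rw [hb.add_left, hb.add_right, hb.add_right, hu0, hu0', hf₂.symm u' u] at h1
    have h3 : 2 * f₂ u u' = 0 := by linear_combination h1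
    exact (mul_eq_zero.1 h3).resolve_left h2
  -- the embedding
  let ψ₁ : (Fin n₁ → U₂) →ₗ[F] (Fin n₁ × Fin n₂ → F) :=
    { toFun := fun g p => (g p.1 : Fin n₂ → F) p.2
      map_add' := fun g g' => rfl
      map_smul' := fun r g => rfl }
  have hψ₁ : Function.Injective ψ₁ := by
    intro g g' h
    funext a
    apply Subtype.ext
    funext b
    exact congrFun h (a, b)
  let ψ₂ : (Fin n₁ × Fin n₂ → F) →ₗ[F] (ι → F) := LinearMap.funLeft F F e
  have hψ₂ : Function.Injective ψ₂ := LinearMap.funLeft_injective_of_surjective F F e e.surjective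
  let Ψ : (Fin n₁ → U₂) →ₗ[F] (ι → F) := (Matrix.toLin' (P : Matrix ι ι F)).comp (ψ₂.comp ψ₁)
  have hΨ : Function.Injective Ψ :=
    (Cfsg.Agent.Lib.Helper82_AschSp_SP4b.toLin'_injective P).comp (hψ₂.comp hψ₁)
  have hΨapply : ∀ g, Ψ g = (P : Matrix ι ι F) *ᵥ ((ψ₁ g) ∘ e) := fun g => rfl
  refine ⟨LinearMap.range Ψ, le_top, ?_, ?_⟩
  · rintro _ ⟨g, rfl⟩
    have h1 : QuadraticMap.polar Q (Ψ g) (Ψ g) = 0 := by
      rw [hΨapply, hform, formOfGram_id, kron_form_eq_zero, mul_zero]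
      intro a a'
      have := hiso (g a) (g a).2 (g a') (g a').2
      rw [form_eq_gram f₂ hf₂.bilinear] at this
      exact this
    rw [polar_self_eq Q hQ] at h1
    exact (mul_eq_zero.1 h1).resolve_left h2
  · rw [LinearMap.finrank_range_of_inj hΨ, Module.finrank_pi_fintype, Finset.sum_const,
      Finset.card_univ, Fintype.card_fin, smul_eq_mul, finrank_top,
      Module.finrank_fintype_fun_eq_card, Fintype.card_congr e, Fintype.card_prod, Fintype.card_fin,
      Fintype.card_fin]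
    calc 2 * (n₁ * Module.finrank F U₂) = n₁ * (2 * Module.finrank F U₂) := by ring
      _ = n₁ * n₂ := by rw [hU₂dim]

end Cfsg.Agent.Lib.Helper82_OrthEven_EV18
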