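import Mathlib
import Cfsg.Agent.Lib.Helper22_OrthEven_Irr
import Cfsg.Agent.Lib.Helper85_OrthEven_EV5
import Cfsg.Agent.Lib.Helper35_OrthEven_EV10
import Cfsg.Agent.Lib.Helper32_OrthEven_EV16
import Cfsg.Agent.Lib.Helper82_OrthEven_EV17
import Cfsg.Agent.Lib.Helper82_OrthEven_EV18
import Cfsg.Agent.Lib.Helper71_OrthEven_EV19
import Cfsg.Agent.Lib.Helper70_OrthEven_EV20

/-!
# The row `Ω₁₂⁻(q)` of the maximal subgroup tables (helper22)
-/

set_option autoImplicit false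

open Cfsg Cfsg.Geo Matrix Cfsg.Agent.Lib.Helper98_AschDefs Cfsg.Agent.Lib.Helper23_FormDefs
open scoped Kronecker MatrixGroups

namespace Cfsg.Agent.Lib.Helper22_OrthEven_Row12

open Cfsg.Agent.Lib.Helper22_OrthEven_Basic Cfsg.Agent.Lib.Helper22_OrthEven_Core
  Cfsg.Agent.Lib.Helper22_OrthEven_Irr

variable {ι : Type} [Fintype ι] [DecidableEq ι] {F : Type*} [Field F]

/-- plus type is transported by isometries -/
lemma plus_of_isometric (Q : (ι → F) → F) (W W' : Submodule F (ι → F)) (h : AreIsometricFor Q W W')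
    (hp : IsPlusTypeOn Q W) : IsPlusTypeOn Q W' := by
  obtain ⟨e, he⟩ := h
  obtain ⟨U, hUW, hUts, hdim⟩ := hp
  set φ : W →ₗ[F] (ι → F) := W'.subtype ∘ₗ e.toLinearMap with hφ
  have hinj : Function.Injective φ := W'.subtype_injective.comp e.injective
  refine ⟨(U.comap W.subtype).map φ, ?_, ?_, ?_⟩
  · rintro _ ⟨w, -, rfl⟩
    exact (e w).2
  · rintro _ ⟨w, hw, rfl⟩
    show Q ((e w : W') : ι → F) = 0
    rw [he]
    exact hUts _ hw
  · rw [← (Submodule.equivMapOfInjective φ hinj (U.comap W.subtype)).finrank_eq,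
      (Submodule.comapSubtypeEquivOfLe hUW).finrank_eq, hdim, e.finrank_eq]

/-- in an isometric orthogonal decomposition of a space of minus type with blocks of even dimension no block is of plus
type -/
lemma blocks_minus [Fintype F] (Q : (ι → F) → F) (hQ : IsNondegenerateQuadraticForm Q)
    (hminus : ¬ IsPlusTypeOn Q ⊤) (t k : ℕ) (hk : Even k) (D : Fin t → Submodule F (ι → F))
    (hOD : IsOrthogonalMDecomposition Q k D) (i : Fin t) : ¬ IsPlusTypeOn Q (D i) := by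
  intro hp
  apply hminus
  apply Cfsg.Agent.Lib.Helper85_OrthEven_EV5.EV5 Q hQ t k D hOD
  right; right
  exact ⟨hk, fun j => plus_of_isometric Q (D i) (D j) (hOD.isometric i j) hp⟩

/-- an isometric orthogonal decomposition of a 12-dimensional space of minus type has 3 blocks of dimension 4 -/
lemma decomp12 [Fintype F] (Q : (Fin 12 → F) → F) (hQ : IsNondegenerateQuadraticForm Q)
    (hminus : ¬ IsPlusTypeOn Q ⊤) (t k : ℕ)
    (D : Fin t → Submodule F (Fin 12 → F)) (htk : t * k = 12) (ht2 : 2 ≤ t)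
    (hOD : IsOrthogonalMDecomposition Q k D) : t = 3 ∧ k = 4 := by
  by_contra hne
  apply hminus
  apply Cfsg.Agent.Lib.Helper85_OrthEven_EV5.EV5 Q hQ t k D hOD
  have ht12 : t ≤ 12 := Nat.le_of_dvd (by norm_num) ⟨k, htk.symm⟩
  interval_cases t
  · left
    have : k = 6 := by omega
    subst this
    exact ⟨by decide, by decide⟩
  · exfalso; apply hne; omega
  · right; left; norm_num
  · omega
  · left
    have : k = 2 := by omega
    subst this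
    exact ⟨by decide, by decide⟩
  · omega
  · right; left; norm_num
  · omega
  · omega
  · omega
  · right; left; norm_num

/-- the row `Ω₁₂⁻(q)` -/
theorem S5874_main [Fintype F] (Q : (Fin 12 → F) → F)
    (hQ : Cfsg.Geo.IsNondegenerateQuadraticForm Q) (hminus : ¬ Cfsg.Geo.IsPlusTypeOn Q ⊤)
    (H : Subgroup (Matrix.GeneralLinearGroup (Fin 12) F))
    (hH : Cfsg.Geo.IsMaximalIn (Cfsg.Geo.omegaGL Q) H) :
    (∃ W : Submodule F (Fin 12 → F), W ≠ ⊥ ∧ Cfsg.Geo.IsTotallySingularQuad Q W ∧ H = Cfsg.Geo.subspaceStabilizer W ⊓ Cfsg.Geo.omegaGL Q) ∨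
    (Odd (Fintype.card F) ∧ ∃ W : Submodule F (Fin 12 → F), W ≠ ⊥ ∧ W ≠ ⊤ ∧ Odd (Module.finrank F W) ∧ 2 * Module.finrank F W ≠ 12 ∧ Cfsg.Geo.IsNondegenerateOn (QuadraticMap.polar Q) W ∧ H = Cfsg.Geo.subspaceStabilizer W ⊓ Cfsg.Geo.omegaGL Q) ∨
    (∃ W : Submodule F (Fin 12 → F), Module.finrank F W = 2 ∧ Cfsg.Geo.IsNondegenerateOn (QuadraticMap.polar Q) W ∧ ¬ Cfsg.Geo.IsPlusTypeOn Q W ∧ H = Cfsg.Geo.subspaceStabilizer W ⊓ Cfsg.Geo.omegaGL Q) ∨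
    (4 ≤ Fintype.card F ∧ ∃ W : Submodule F (Fin 12 → F), Module.finrank F W = 2 ∧ Cfsg.Geo.IsNondegenerateOn (QuadraticMap.polar Q) W ∧ Cfsg.Geo.IsPlusTypeOn Q W ∧ H = Cfsg.Geo.subspaceStabilizer W ⊓ Cfsg.Geo.omegaGL Q) ∨
    (∃ W : Submodule F (Fin 12 → F), Module.finrank F W = 4 ∧ Cfsg.Geo.IsNondegenerateOn (QuadraticMap.polar Q) W ∧ H = Cfsg.Geo.subspaceStabilizer W ⊓ Cfsg.Geo.omegaGL Q) ∨
    (∃ W : Submodule F (Fin 12 → F), Module.finrank F W = 6 ∧ Cfsg.Geo.IsNondegenerateOn (QuadraticMap.polar Q) W ∧ H = Cfsg.Geo.subspaceStabilizer W ⊓ Cfsg.Geo.omegaGL Q) ∨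
    (¬ Odd (Fintype.card F) ∧ ∃ v : (Fin 12 → F), Q v ≠ 0 ∧ H = Cfsg.Geo.subspaceStabilizer (Submodule.span F {v}) ⊓ Cfsg.Geo.omegaGL Q) ∨
    (∃ D : Fin 3 → Submodule F (Fin 12 → F), Cfsg.Geo.IsOrthogonalMDecomposition Q 4 D ∧ (∀ i, ¬ Cfsg.Geo.IsPlusTypeOn Q (D i)) ∧ H = Cfsg.Geo.decompositionStabilizer D ⊓ Cfsg.Geo.omegaGL Q) ∨
    (∃ K : Subalgebra F (Matrix (Fin 12) (Fin 12) F), Cfsg.Geo.IsFieldSubalgebra 2 K ∧ H = Cfsg.Geo.subalgebraNormalizer K ⊓ Cfsg.Geo.omegaGL Q) ∨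
    (∃ K : Subalgebra F (Matrix (Fin 12) (Fin 12) F), Cfsg.Geo.IsFieldSubalgebra 3 K ∧ H = Cfsg.Geo.subalgebraNormalizer K ⊓ Cfsg.Geo.omegaGL Q) ∨
    (Odd (Fintype.card F) ∧ 5 ≤ Fintype.card F ∧ ∃ (e : Fin 12 ≃ Fin 3 × Fin 4) (P : Matrix.GeneralLinearGroup (Fin 12) F) (f₁ : (Fin 3 → F) → (Fin 3 → F) → F) (f₂ : (Fin 4 → F) → (Fin 4 → F) → F), Cfsg.Geo.IsSymmetricForm f₁ ∧ Cfsg.Geo.IsSymmetricForm f₂ ∧ ¬ Cfsg.Geo.IsPlusTypeOn (fun v : Fin 4 → F => f₂ v v) ⊤ ∧ Cfsg.Geo.IsTensorFormStructure id (QuadraticMap.polar Q) f₁ f₂ e P ∧ H = Cfsg.Geo.tensorProductSubgroup 3 4 e P ⊓ Cfsg.Geo.omegaGL Q) ∨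
    (∃ (F₀ : Subfield F) (r : ℕ) (P : Matrix.GeneralLinearGroup (Fin 12) F) (ζ : F), r.Prime ∧ Odd r ∧ Fintype.card F = Nat.card F₀ ^ r ∧ ζ ≠ 0 ∧ Cfsg.Geo.IsQuadFormRationalStructure (fun v : Fin 12 → F => ζ * Q v) F₀ P ∧ H = Cfsg.Geo.subfieldSubgroup F₀ P ⊓ Cfsg.Geo.omegaGL Q) ∨
    Cfsg.Geo.InOrthogonalResidualClass H := by
  classical
  have hcard : Fintype.card (Fin 12) = 12 := Fintype.card_fin 12
  have hHI : H ≤ isometryGroup F Q := hH.1.le.trans (omegaGL_le Q)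
  have hglue := fun (M : Subgroup (GL (Fin 12) F)) (hHM : H ≤ M) (hΩM : ¬ omegaGL Q ≤ M) =>
    eq_of_maximal hH hHM hΩM
  -- the decomposition class
  have hdecomp : ∀ (t k : ℕ) (D : Fin t → Submodule F (Fin 12 → F)), t * k = 12 → 2 ≤ t →
      IsOrthogonalMDecomposition Q k D → H ≤ decompositionStabilizer D →
      ∃ D : Fin 3 → Submodule F (Fin 12 → F), Cfsg.Geo.IsOrthogonalMDecomposition Q 4 D ∧
        (∀ i, ¬ Cfsg.Geo.IsPlusTypeOn Q (D i)) ∧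
        H = Cfsg.Geo.decompositionStabilizer D ⊓ Cfsg.Geo.omegaGL Q := by
    intro t k D htk ht2 hOD hHD
    obtain ⟨rfl, rfl⟩ := decomp12 Q hQ hminus t k D htk ht2 hOD
    exact ⟨D, hOD, blocks_minus Q hQ hminus 3 4 (by decide) D hOD,
      hglue _ hHD (Cfsg.Agent.Lib.Helper32_OrthEven_EV16.EV16 Q hQ (by rw [hcard]; omega) 3 4 D
        hOD.decomp.decomp)⟩
  by_cases hirr : ActsIrreducibly (matrixSet H)
  swap
  · -- reducible
    rcases reducible_cases (by rw [hcard]; omega) Q hQ H hH hirr with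
      ⟨W, hW0, hWts, hHeq⟩ | ⟨hq, W, hW0, hW1, hodd, -, hWnd, hHeq, -⟩ | ⟨W, h2, hWnd, hp, hHeq⟩ |
      ⟨hq, W, h2, hWnd, hp, hHeq⟩ | ⟨W, hev, h4, hle, hWnd, hHeq⟩ | ⟨hq, v, hv, hHeq⟩
    · exact Or.inl ⟨W, hW0, hWts, hHeq⟩
    · refine Or.inr (Or.inl ⟨hq, W, hW0, hW1, hodd, ?_, hWnd, hHeq⟩)
      obtain ⟨j, hj⟩ := hodd
      omega
    · exact Or.inr (Or.inr (Or.inl ⟨W, h2, hWnd, hp, hHeq⟩))
    · exact Or.inr (Or.inr (Or.inr (Or.inl ⟨hq, W, h2, hWnd, hp, hHeq⟩)))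
    · rw [hcard] at hle
      have h46 : Module.finrank F W = 4 ∨ Module.finrank F W = 6 := by
        obtain ⟨j, hj⟩ := hev
        omega
      rcases h46 with h | h
      · exact Or.inr (Or.inr (Or.inr (Or.inr (Or.inl ⟨W, h, hWnd, hHeq⟩))))
      · exact Or.inr (Or.inr (Or.inr (Or.inr (Or.inr (Or.inl ⟨W, h, hWnd, hHeq⟩)))))
    · exact Or.inr (Or.inr (Or.inr (Or.inr (Or.inr (Or.inr (Or.inl ⟨hq, v, hv, hHeq⟩))))))
  -- irreducible
  rcases irreducible_cases 12 (by omega) Q hQ H hH hirr with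
    ⟨t, k, D, htk, ht2, hk0, hD, hOD, hHD⟩ | hplus | ⟨r, K, hr, hr12, hK, hKadj, hHeq⟩ |
    ⟨N, d, s, e, P, hNH, hnorm, hNZ, hmin, hA, hAadj, hT, hd2, hs2, hds⟩ | ⟨⟨j, hj⟩, -⟩ |
    ⟨N, k, S, hNI, hspan, hk, hSN, hSnorm, hSZ, hcomm, hsup, d, hd2, hdk⟩ |
    ⟨F₁, r, P', ζ, hrp, hcF, hζ, hrat, hHeq⟩ | hres
  · exact Or.inr (Or.inr (Or.inr (Or.inr (Or.inr (Or.inr (Or.inr (Or.inl
      (hdecomp t k D htk ht2 hOD hHD))))))))
  · exact absurd hplus hminus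
  · have hr23 : r = 2 ∨ r = 3 := by
      have h1 : r ∣ 2 ^ 2 * 3 := by simpa using hr12
      rcases (Nat.Prime.dvd_mul hr).mp h1 with h | h
      · left
        exact (Nat.prime_dvd_prime_iff_eq hr Nat.prime_two).mp (hr.dvd_of_dvd_pow h)
      · right
        exact (Nat.prime_dvd_prime_iff_eq hr Nat.prime_three).mp h
    rcases hr23 with rfl | rfl
    · exact Or.inr (Or.inr (Or.inr (Or.inr (Or.inr (Or.inr (Or.inr (Or.inr (Or.inl ⟨K, hK, hHeq⟩))))))))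
    · exact Or.inr (Or.inr (Or.inr (Or.inr (Or.inr (Or.inr (Or.inr (Or.inr (Or.inr (Or.inl
        ⟨K, hK, hHeq⟩)))))))))
  · -- tensor algebra
    by_cases hev : Even d ∧ Even s
    · exfalso
      exact hminus (EV8 Q hQ H hHI hirr (spanAlg N) hA hAadj d s e P hT hev.1 hev.2 (by omega) (by omega))
    have hodd : Odd d ∨ Odd s := by
      by_contra h
      push Not at h
      exact hev ⟨Nat.not_odd_iff_even.mp h.1, Nat.not_odd_iff_even.mp h.2⟩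
    obtain ⟨h2F, n₁, n₂, e', P', f₁, f₂, hns, hn₁, hf₁, hf₂, hten, hHT⟩ :=
      Cfsg.Agent.Lib.Helper82_OrthEven_EV17.EV17 Q hQ H hHI hirr (spanAlg N) hA hAadj d s e P hT
        (by omega) (by omega) hodd
    have hnn : n₁ * n₂ = 12 := by
      rcases hns with ⟨rfl, rfl⟩ | ⟨rfl, rfl⟩
      · exact hds
      · rw [mul_comm]; exact hds
    have hn₁2 : 2 ≤ n₁ ∧ 2 ≤ n₂ := by
      rcases hns with ⟨rfl, rfl⟩ | ⟨rfl, rfl⟩
      · exact ⟨hd2, hs2⟩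
      · exact ⟨hs2, hd2⟩
    have hn34 : n₁ = 3 ∧ n₂ = 4 := by
      have h12 : n₁ ≤ 12 := Nat.le_of_dvd (by norm_num) ⟨n₂, hnn.symm⟩
      obtain ⟨j, hj⟩ := hn₁
      have hj5 : j ≤ 5 := by omega
      subst hj
      interval_cases j <;> omega
    obtain ⟨rfl, rfl⟩ := hn34
    by_cases hp2 : IsPlusTypeOn (fun v : Fin 4 → F => f₂ v v) ⊤
    · exfalso
      exact hminus (Cfsg.Agent.Lib.Helper82_OrthEven_EV18.EV18 Q hQ h2F 3 4 e' P' f₁ f₂ hf₁ hf₂ hten hp2)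
    by_cases hq3 : Fintype.card F = 3
    · obtain ⟨D, hOD, hHD⟩ := Cfsg.Agent.Lib.Helper71_OrthEven_EV19.EV19 hq3 Q hQ H hHI hirr 4 e' P' f₁ f₂
        hf₁ hf₂ hten hHT (by norm_num)
      exact Or.inr (Or.inr (Or.inr (Or.inr (Or.inr (Or.inr (Or.inr (Or.inl
        (hdecomp 3 4 D (by norm_num) (by norm_num) hOD hHD))))))))
    · have hqodd : Odd (Fintype.card F) := odd_card_of_two_ne_zero h2F
      have hq5 : 5 ≤ Fintype.card F := by
        have h1 : 1 < Fintype.card F := Fintype.one_lt_card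
        obtain ⟨j, hj⟩ := hqodd
        omega
      exact Or.inr (Or.inr (Or.inr (Or.inr (Or.inr (Or.inr (Or.inr (Or.inr (Or.inr (Or.inr (Or.inl
        ⟨hqodd, hq5, e', P', f₁, f₂, hf₁, hf₂, hp2, hten,
          hglue _ hHT (Cfsg.Agent.Lib.Helper70_OrthEven_EV20.EV20 Q hQ (by rw [hcard]; omega) 3 4
            (by norm_num) (by norm_num) e' P')⟩))))))))))
  · exfalso
    have hj4 : j < 4 := by
      by_contra h
      push Not at h
      have : 2 ^ 4 ≤ 2 ^ j := Nat.pow_le_pow_right (by norm_num) h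
      omega
    interval_cases j <;> omega
  · exfalso
    have h2k : d ^ 2 ∣ d ^ k := pow_dvd_pow d hk
    rw [← hdk] at h2k
    have hle : d ^ 2 ≤ 12 := Nat.le_of_dvd (by norm_num) h2k
    have hd3 : d ≤ 3 := by nlinarith
    interval_cases d
    · have hk4 : k < 4 := by
        by_contra h
        push Not at h
        have : 2 ^ 4 ≤ 2 ^ k := Nat.pow_le_pow_right (by norm_num) h
        omega
      interval_cases k <;> omega
    · norm_num at h2k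
  · rcases hrp.eq_two_or_odd' with h2 | hodd
    · subst h2
      exfalso
      exact hminus (Cfsg.Agent.Lib.Helper35_OrthEven_EV10.EV10 Q hQ (by rw [hcard]; decide) F₁ hcF P' ζ hζ hrat)
    · exact Or.inr (Or.inr (Or.inr (Or.inr (Or.inr (Or.inr (Or.inr (Or.inr (Or.inr (Or.inr (Or.inr (Or.inl
        ⟨F₁, r, P', ζ, hrp, hodd, hcF, hζ, hrat, hHeq⟩)))))))))))
  · exact Or.inr (Or.inr (Or.inr (Or.inr (Or.inr (Or.inr (Or.inr (Or.inr (Or.inr (Or.inr (Or.inr (Or.inr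
      hres)))))))))))

end Cfsg.Agent.Lib.Helper22_OrthEven_Row12
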