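import Mathlib
import Cfsg.Agent.Lib.Helper98_AschDefs
import Cfsg.Agent.Lib.Helper98_AschCliff
import Cfsg.Agent.Lib.Helper23_FormDefs

/-!
# S5662 package SP4b (helper26)

A skew-adjoint matrix `J` with `J * J = c • 1`, `c ≠ 0`, normalized up to sign by `H ≤ Sp_{2m}(F)`, `|F|` odd:
* `c = μ²` a square: the eigenspaces `ker (J - μ)`, `ker (J + μ)` are complementary totally singular subspaces
  permuted by `H` (class 2, second type);
* `c` a non-square: `K = F 1 + F J` is a quadratic field subalgebra, adjoint-closed, not self-adjoint,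
  normalized by `H` (class 3, second type).
The degenerate case `m = 0` is put in class 7.
-/

set_option autoImplicit false
set_option linter.unusedSectionVars false

namespace Cfsg.Agent.Lib.Helper26_AschSp_SP4b

open Cfsg Cfsg.Geo Matrix Cfsg.Agent.Lib.Helper98_AschDefs Cfsg.Agent.Lib.Helper23_FormDefs
open scoped Kronecker

variable {ι : Type} [Fintype ι] [DecidableEq ι] {F : Type*} [Field F]

/-! ### generalities -/

theorem two_ne_zero_of_odd_card [Fintype F] (hodd : Odd (Fintype.card F)) : (2 : F) ≠ 0 := by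
  apply Ring.two_ne_zero
  intro h2
  have := FiniteField.even_card_of_char_two h2
  rw [Nat.odd_iff] at hodd
  omega

/-- the `a`-eigenspace of a matrix -/
def eig (J : Matrix ι ι F) (a : F) : Submodule F (ι → F) where
  carrier := {v | J *ᵥ v = a • v}
  add_mem' := by
    intro u v hu hv
    show J *ᵥ (u + v) = a • (u + v)
    have hu' : J *ᵥ u = a • u := hu
    have hv' : J *ᵥ v = a • v := hv
    rw [Matrix.mulVec_add, hu', hv', smul_add]
  zero_mem' := by
    show J *ᵥ (0 : ι → F) = a • (0 : ι → F)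
    simp
  smul_mem' := by
    intro r v hv
    show J *ᵥ (r • v) = a • (r • v)
    have hv' : J *ᵥ v = a • v := hv
    rw [Matrix.mulVec_smul, hv', smul_comm]

theorem mem_eig {J : Matrix ι ι F} {a : F} {v : ι → F} : v ∈ eig J a ↔ J *ᵥ v = a • v := Iff.rfl

theorem eig_isCompl (J : Matrix ι ι F) (μ : F) (hJ2 : J * J = (μ * μ) • 1) (h2μ : (2 : F) * μ ≠ 0) :
    IsCompl (eig J μ) (eig J (-μ)) := by
  constructor
  · rw [Submodule.disjoint_def]
    intro v h1 h2
    rw [mem_eig] at h1 h2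
    have h3 : ((2 : F) * μ) • v = 0 := by
      have : μ • v = (-μ) • v := by rw [← h1, h2]
      have h4 : ((2 : F) * μ) • v = μ • v - (-μ) • v := by module
      rw [h4, this, sub_self]
    exact (smul_eq_zero.1 h3).resolve_left h2μ
  · rw [codisjoint_iff_le_sup]
    intro v _
    rw [Submodule.mem_sup]
    have hJJ : J *ᵥ (J *ᵥ v) = (μ * μ) • v := by
      rw [Matrix.mulVec_mulVec, hJ2, Matrix.smul_mulVec, Matrix.one_mulVec]
    refine ⟨((2 * μ)⁻¹) • (J *ᵥ v + μ • v), ?_, ((2 * μ)⁻¹) • (μ • v - J *ᵥ v), ?_, ?_⟩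
    · apply Submodule.smul_mem
      rw [mem_eig, Matrix.mulVec_add, hJJ, Matrix.mulVec_smul]
      module
    · apply Submodule.smul_mem
      rw [mem_eig, Matrix.mulVec_sub, hJJ, Matrix.mulVec_smul]
      module
    · rw [← smul_add]
      have : J *ᵥ v + μ • v + (μ • v - J *ᵥ v) = (2 * μ) • v := by module
      rw [this, smul_smul, inv_mul_cancel₀ h2μ, one_smul]

theorem swap_rel {A J : Matrix ι ι F} (ε : F) (hε : ε * ε = 1) (h : A * J = ε • (J * A)) :
    J * A = ε • (A * J) := by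
  rw [h, smul_smul, hε, one_smul]

theorem inv_rel {g : GL ι F} {J : Matrix ι ι F} (ε : F) (hε : ε * ε = 1)
    (h : (g : Matrix ι ι F) * J = ε • (J * (g : Matrix ι ι F))) :
    ((g⁻¹ : GL ι F) : Matrix ι ι F) * J = ε • (J * ((g⁻¹ : GL ι F) : Matrix ι ι F)) := by
  have h1 : J * ((g⁻¹ : GL ι F) : Matrix ι ι F) =
      ((g⁻¹ : GL ι F) : Matrix ι ι F) * ((g : Matrix ι ι F) * J) * ((g⁻¹ : GL ι F) : Matrix ι ι F) := by
    rw [← mul_assoc, Units.inv_mul, one_mul]
  rw [h1, h, Matrix.mul_smul, Matrix.smul_mul, smul_smul, hε, one_smul, mul_assoc, mul_assoc, Units.mul_inv,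
    mul_one]

theorem map_eig (g : GL ι F) (J : Matrix ι ι F) (ε a : F) (hε : ε * ε = 1)
    (h : (g : Matrix ι ι F) * J = ε • (J * (g : Matrix ι ι F))) :
    (eig J a).map (Matrix.toLin' (g : Matrix ι ι F)) = eig J (ε * a) := by
  ext w
  constructor
  · rintro ⟨v, hv, rfl⟩
    have hv' : J *ᵥ v = a • v := hv
    rw [mem_eig, Matrix.toLin'_apply, Matrix.mulVec_mulVec, swap_rel ε hε h, Matrix.smul_mulVec,
      ← Matrix.mulVec_mulVec, hv', Matrix.mulVec_smul, smul_smul]
  · intro hw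
    rw [mem_eig] at hw
    refine ⟨((g⁻¹ : GL ι F) : Matrix ι ι F) *ᵥ w, ?_, ?_⟩
    · show J *ᵥ (((g⁻¹ : GL ι F) : Matrix ι ι F) *ᵥ w) = a • (((g⁻¹ : GL ι F) : Matrix ι ι F) *ᵥ w)
      rw [Matrix.mulVec_mulVec, swap_rel ε hε (inv_rel ε hε h), Matrix.smul_mulVec,
        ← Matrix.mulVec_mulVec, hw, Matrix.mulVec_smul, smul_smul, ← mul_assoc, hε, one_mul]
    · rw [Matrix.toLin'_apply, Matrix.mulVec_mulVec, Units.mul_inv, Matrix.one_mulVec]

/-! ### the symplectic form -/

section Symp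

variable (m : ℕ)

theorem finrank_le_of_ts (W : Submodule F (Fin m ⊕ Fin m → F))
    (hW : IsTotallySingularFor (sympForm m F) W) : Module.finrank F W ≤ m := by
  classical
  set B : LinearMap.BilinForm F (Fin m ⊕ Fin m → F) := Matrix.toBilin' (Matrix.J (Fin m) F) with hB
  have hBf : ∀ u v, B u v = sympForm m F u v := fun u v => Matrix.toBilin'_apply' _ _ _
  have hdet : (Matrix.J (Fin m) F).det ≠ 0 := by
    have h1 : Matrix.J (Fin m) F * (-Matrix.J (Fin m) F) = 1 := by simp [Matrix.J_squared]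
    exact (Matrix.isUnit_det_of_right_inverse h1).ne_zero
  have hnd : B.Nondegenerate := LinearMap.BilinForm.nondegenerate_toBilin'_of_det_ne_zero' _ hdet
  have hle : W ≤ B.orthogonal W := by
    intro v hv
    rw [LinearMap.BilinForm.mem_orthogonal_iff]
    intro n hn
    rw [hBf]
    exact hW n hn v hv
  have h1 := Submodule.finrank_mono hle
  rw [LinearMap.BilinForm.finrank_orthogonal hnd] at h1
  have h2 : Module.finrank F (Fin m ⊕ Fin m → F) = m + m := by
    rw [Module.finrank_fintype_fun_eq_card, Fintype.card_sum, Fintype.card_fin]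
  omega

theorem eig_ts (J : Matrix (Fin m ⊕ Fin m) (Fin m ⊕ Fin m) F) (a : F) (h2a : (2 : F) * a ≠ 0)
    (hskew : ∀ u v, sympForm m F (J *ᵥ u) v = - sympForm m F u (J *ᵥ v)) :
    IsTotallySingularFor (sympForm m F) (eig J a) := by
  have bil := (isSymplecticForm_sympForm (F := F) m).bilinear
  intro u hu v hv
  have h := hskew u v
  rw [mem_eig.1 hu, mem_eig.1 hv, bil.smul_left, bil.smul_right] at h
  have h3 : ((2 : F) * a) * sympForm m F u v = 0 := by linear_combination h
  exact (mul_eq_zero.1 h3).resolve_left h2a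

/-! ### the square case: class 2, second type -/

theorem square_case [Fintype F] (hodd : Odd (Fintype.card F)) (hm : 0 < m)
    (H : Subgroup (GL (Fin m ⊕ Fin m) F)) (hH : H ≤ spGL m F)
    (J : Matrix (Fin m ⊕ Fin m) (Fin m ⊕ Fin m) F) (μ : F) (hμ : μ ≠ 0) (hJ2 : J * J = (μ * μ) • 1)
    (hskew : ∀ u v, sympForm m F (J *ᵥ u) v = - sympForm m F u (J *ᵥ v))
    (hconj : ∀ h ∈ H, (h : Matrix (Fin m ⊕ Fin m) (Fin m ⊕ Fin m) F) * J = J * (h : Matrix _ _ F) ∨
      (h : Matrix (Fin m ⊕ Fin m) (Fin m ⊕ Fin m) F) * J = - (J * (h : Matrix _ _ F))) :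
    InSpClass m H := by
  have h2 : (2 : F) ≠ 0 := two_ne_zero_of_odd_card hodd
  have h2μ : (2 : F) * μ ≠ 0 := mul_ne_zero h2 hμ
  have h2μ' : (2 : F) * (-μ) ≠ 0 := mul_ne_zero h2 (neg_ne_zero.2 hμ)
  set D : Fin 2 → Submodule F (Fin m ⊕ Fin m → F) := ![eig J μ, eig J (-μ)] with hD
  have hD0 : D 0 = eig J μ := rfl
  have hD1 : D 1 = eig J (-μ) := rfl
  have hcompl : IsCompl (D 0) (D 1) := eig_isCompl J μ hJ2 h2μ
  have hts : ∀ i, IsTotallySingularFor (sympForm m F) (D i) := by
    intro i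
    fin_cases i
    · exact eig_ts m J μ h2μ hskew
    · exact eig_ts m J (-μ) h2μ' hskew
  have hsum := Submodule.finrank_add_eq_of_isCompl hcompl
  have hV : Module.finrank F (Fin m ⊕ Fin m → F) = m + m := by
    rw [Module.finrank_fintype_fun_eq_card, Fintype.card_sum, Fintype.card_fin]
  have hle0 := finrank_le_of_ts m (D 0) (hts 0)
  have hle1 := finrank_le_of_ts m (D 1) (hts 1)
  have hdec : IsMDecomposition m D := by
    refine ⟨le_refl 2, hm, ?_, ?_, ?_⟩
    · intro i
      fin_cases i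
      · show Module.finrank F (D 0) = m
        omega
      · show Module.finrank F (D 1) = m
        omega
    · rw [iSupIndep_pair (i := (0 : Fin 2)) (j := 1) (by decide) (by decide)]
      exact hcompl.disjoint
    · rw [eq_top_iff, ← hcompl.sup_eq_top]
      exact sup_le (le_iSup D 0) (le_iSup D 1)
  refine ⟨decompositionStabilizer D ⊓ spGL m F, ?_, ?_⟩
  · left
    right; right; right; left
    exact ⟨D, hodd, hdec, hts, rfl⟩
  · intro h hh
    refine Subgroup.mem_inf.2 ⟨?_, hH hh⟩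
    rcases hconj h hh with hc | hc
    · refine ⟨Equiv.refl _, ?_⟩
      have hc' : (h : Matrix (Fin m ⊕ Fin m) (Fin m ⊕ Fin m) F) * J = (1 : F) • (J * (h : Matrix _ _ F)) := by
        rw [one_smul]; exact hc
      intro i
      fin_cases i
      · show (D 0).map _ = D 0
        rw [hD0, map_eig h J 1 μ (by ring) hc', one_mul]
      · show (D 1).map _ = D 1
        rw [hD1, map_eig h J 1 (-μ) (by ring) hc', one_mul]
    · refine ⟨Equiv.swap 0 1, ?_⟩
      have hc' : (h : Matrix (Fin m ⊕ Fin m) (Fin m ⊕ Fin m) F) * J = (-1 : F) • (J * (h : Matrix _ _ F)) := by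
        rw [neg_one_smul]; exact hc
      intro i
      fin_cases i
      · show (D 0).map _ = D (Equiv.swap 0 1 0)
        rw [Equiv.swap_apply_left, hD0, hD1, map_eig h J (-1) μ (by ring) hc', neg_one_mul]
      · show (D 1).map _ = D (Equiv.swap 0 1 1)
        rw [Equiv.swap_apply_right, hD0, hD1, map_eig h J (-1) (-μ) (by ring) hc', neg_one_mul, neg_neg]

end Symp

/-! ### the non-square case: class 3, second type -/

/-- the subalgebra `F 1 + F J` for `J * J = c • 1` -/
def algJ (J : Matrix ι ι F) (c : F) (hJ2 : J * J = c • 1) : Subalgebra F (Matrix ι ι F) where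
  carrier := {x | ∃ a b : F, x = a • (1 : Matrix ι ι F) + b • J}
  mul_mem' := by
    rintro _ _ ⟨a, b, rfl⟩ ⟨a', b', rfl⟩
    refine ⟨a * a' + b * b' * c, a * b' + b * a', ?_⟩
    simp only [add_mul, mul_add, smul_mul_assoc, mul_smul_comm, one_mul, mul_one, hJ2]
    module
  add_mem' := by
    rintro _ _ ⟨a, b, rfl⟩ ⟨a', b', rfl⟩
    exact ⟨a + a', b + b', by module⟩
  algebraMap_mem' r := ⟨r, 0, by simp [Algebra.algebraMap_eq_smul_one]⟩

theorem mem_algJ {J : Matrix ι ι F} {c : F} {hJ2 : J * J = c • 1} {x : Matrix ι ι F} :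
    x ∈ algJ J c hJ2 ↔ ∃ a b : F, x = a • (1 : Matrix ι ι F) + b • J := Iff.rfl

theorem algJ_isField [Nonempty ι] (J : Matrix ι ι F) (c : F) (hJ2 : J * J = c • 1) (hns : ¬ IsSquare c) :
    IsFieldSubalgebra 2 (algJ J c hJ2) := by
  have h1ne : (1 : Matrix ι ι F) ≠ 0 := one_ne_zero
  -- `1, J` are independent
  have hind : ∀ a b : F, a • (1 : Matrix ι ι F) + b • J = 0 → a = 0 ∧ b = 0 := by
    intro a b hab
    by_cases hb : b = 0
    · subst hb
      rw [zero_smul, add_zero] at hab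
      exact ⟨(smul_eq_zero.1 hab).resolve_right h1ne, rfl⟩
    · exfalso
      apply hns
      have hJ : J = (-(a / b)) • (1 : Matrix ι ι F) := by
        have h3 : b • J = (-a) • (1 : Matrix ι ι F) := by
          rw [neg_smul]; exact eq_neg_of_add_eq_zero_right hab
        have h4 : J = b⁻¹ • (b • J) := by rw [smul_smul, inv_mul_cancel₀ hb, one_smul]
        rw [h4, h3, smul_smul]
        congr 1
        field_simp
      have h5 : (c - (a / b) * (a / b)) • (1 : Matrix ι ι F) = 0 := by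
        rw [sub_smul, ← hJ2]
        nth_rewrite 1 [hJ]
        nth_rewrite 1 [hJ]
        simp only [smul_mul_assoc, mul_smul_comm, one_mul, smul_smul]
        rw [sub_eq_zero]
        congr 1
        ring
      have h6 := (smul_eq_zero.1 h5).resolve_right h1ne
      exact ⟨a / b, (sub_eq_zero.1 h6)⟩
  refine ⟨?_, ?_, ?_⟩
  · rintro _ ⟨a, b, rfl⟩ _ ⟨a', b', rfl⟩
    simp only [add_mul, mul_add, smul_mul_assoc, mul_smul_comm, one_mul, mul_one]
    module
  · rintro _ ⟨a, b, rfl⟩ hx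
    have hd : a * a - b * b * c ≠ 0 := by
      intro hd
      by_cases hb : b = 0
      · subst hb
        have ha : a = 0 := by
          have : a * a = 0 := by linear_combination hd
          exact mul_self_eq_zero.1 this
        apply hx
        rw [ha, zero_smul, zero_smul, add_zero]
      · apply hns
        refine ⟨a / b, ?_⟩
        field_simp
        linear_combination -hd
    refine ⟨((a * a - b * b * c)⁻¹ * a) • (1 : Matrix ι ι F) + (-((a * a - b * b * c)⁻¹ * b)) • J,
      ⟨_, _, rfl⟩, ?_⟩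
    simp only [add_mul, mul_add, smul_mul_assoc, mul_smul_comm, one_mul, mul_one, hJ2]
    trans ((a * a - b * b * c)⁻¹ * (a * a - b * b * c)) • (1 : Matrix ι ι F)
    · module
    · rw [inv_mul_cancel₀ hd, one_smul]
  · -- dimension 2
    let φ : (F × F) →ₗ[F] (algJ J c hJ2) :=
      { toFun := fun p => ⟨p.1 • (1 : Matrix ι ι F) + p.2 • J, ⟨p.1, p.2, rfl⟩⟩
        map_add' := by
          intro p q
          apply Subtype.ext
          show (p + q).1 • (1 : Matrix ι ι F) + (p + q).2 • J =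
            (p.1 • (1 : Matrix ι ι F) + p.2 • J) + (q.1 • (1 : Matrix ι ι F) + q.2 • J)
          rw [Prod.fst_add, Prod.snd_add]
          module
        map_smul' := by
          intro r p
          apply Subtype.ext
          show (r • p).1 • (1 : Matrix ι ι F) + (r • p).2 • J = r • (p.1 • (1 : Matrix ι ι F) + p.2 • J)
          rw [Prod.smul_fst, Prod.smul_snd, smul_eq_mul, smul_eq_mul]
          module }
    have hinj : Function.Injective φ := by
      rw [← LinearMap.ker_eq_bot, LinearMap.ker_eq_bot']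
      intro p hp
      have hp' : p.1 • (1 : Matrix ι ι F) + p.2 • J = 0 := congrArg Subtype.val hp
      obtain ⟨h1, h2⟩ := hind _ _ hp'
      exact Prod.ext h1 h2
    have hsurj : Function.Surjective φ := by
      rintro ⟨x, a, b, rfl⟩
      exact ⟨(a, b), rfl⟩
    have e := LinearEquiv.ofBijective φ ⟨hinj, hsurj⟩
    rw [← e.finrank_eq, Module.finrank_prod, Module.finrank_self]

section Symp2

variable (m : ℕ)

theorem nonsquare_case [Fintype F] (hodd : Odd (Fintype.card F)) (hm : 0 < m)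
    (H : Subgroup (GL (Fin m ⊕ Fin m) F)) (hH : H ≤ spGL m F)
    (J : Matrix (Fin m ⊕ Fin m) (Fin m ⊕ Fin m) F) (c : F) (hc : c ≠ 0) (hns : ¬ IsSquare c)
    (hJ2 : J * J = c • 1)
    (hskew : ∀ u v, sympForm m F (J *ᵥ u) v = - sympForm m F u (J *ᵥ v))
    (hconj : ∀ h ∈ H, (h : Matrix (Fin m ⊕ Fin m) (Fin m ⊕ Fin m) F) * J = J * (h : Matrix _ _ F) ∨
      (h : Matrix (Fin m ⊕ Fin m) (Fin m ⊕ Fin m) F) * J = - (J * (h : Matrix _ _ F))) :
    InSpClass m H := by
  have h2 : (2 : F) ≠ 0 := two_ne_zero_of_odd_card hodd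
  have hsf := isSymplecticForm_sympForm (F := F) m
  have bil := hsf.bilinear
  have : Nonempty (Fin m ⊕ Fin m) := ⟨Sum.inl ⟨0, hm⟩⟩
  set K := algJ J c hJ2 with hK
  have hfield : IsFieldSubalgebra 2 K := algJ_isField J c hJ2 hns
  have hadj : IsAdjointClosedFor (sympForm m F) K := by
    rintro _ ⟨a, b, rfl⟩
    refine ⟨a • (1 : Matrix _ _ F) + (-b) • J, ⟨a, -b, rfl⟩, ?_⟩
    intro u v
    rw [Matrix.add_mulVec, Matrix.add_mulVec, Matrix.smul_mulVec, Matrix.smul_mulVec, Matrix.smul_mulVec,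
      Matrix.smul_mulVec, Matrix.one_mulVec, Matrix.one_mulVec, bil.add_left, bil.add_right, bil.smul_left,
      bil.smul_left, bil.smul_right, bil.smul_right, hskew]
    ring
  have hnsa : ¬ IsSelfAdjointFor (sympForm m F) K := by
    intro hsa
    have hJK : J ∈ K := ⟨0, 1, by simp⟩
    have hzero : ∀ u v, sympForm m F (J *ᵥ u) v = 0 := by
      intro u v
      have h3 := hsa J hJK u v
      have h4 := hskew u v
      have h5 : (2 : F) * sympForm m F (J *ᵥ u) v = 0 := by linear_combination h3 + h4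
      exact (mul_eq_zero.1 h5).resolve_left h2
    -- a non-zero vector
    set u : Fin m ⊕ Fin m → F := Pi.single (Sum.inl ⟨0, hm⟩) 1 with hu
    have hune : u ≠ 0 := by
      intro h0
      have := congrFun h0 (Sum.inl ⟨0, hm⟩)
      simp [hu] at this
    have hJu : J *ᵥ u ≠ 0 := by
      intro h0
      have h6 : J *ᵥ (J *ᵥ u) = c • u := by
        rw [Matrix.mulVec_mulVec, hJ2, Matrix.smul_mulVec, Matrix.one_mulVec]
      rw [h0, Matrix.mulVec_zero] at h6
      exact hune ((smul_eq_zero.1 h6.symm).resolve_left hc)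
    obtain ⟨-, x, hx⟩ := hsf.nondegenerate _ hJu
    exact hx (hzero u x)
  have key : ∀ (g : GL (Fin m ⊕ Fin m) F) (ε : F), ε * ε = 1 →
      (g : Matrix _ _ F) * J = ε • (J * (g : Matrix _ _ F)) → ∀ k ∈ K,
      (g : Matrix _ _ F) * k * ((g⁻¹ : GL _ F) : Matrix _ _ F) ∈ K := by
    rintro g ε hε hg _ ⟨a, b, rfl⟩
    refine ⟨a, b * ε, ?_⟩
    rw [mul_add, add_mul, mul_smul_comm, mul_smul_comm, mul_one, smul_mul_assoc, smul_mul_assoc, Units.mul_inv,
      hg, smul_mul_assoc, mul_assoc, Units.mul_inv, mul_one, smul_smul]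
  refine ⟨subalgebraNormalizer K ⊓ spGL m F, ?_, ?_⟩
  · right; right; left
    exact ⟨K, hodd, hfield, hadj, hnsa, rfl⟩
  · intro h hh
    refine Subgroup.mem_inf.2 ⟨?_, hH hh⟩
    obtain ⟨ε, hε, hc'⟩ : ∃ ε : F, ε * ε = 1 ∧
        (h : Matrix _ _ F) * J = ε • (J * (h : Matrix _ _ F)) := by
      rcases hconj h hh with hc' | hc'
      · exact ⟨1, by ring, by rw [one_smul]; exact hc'⟩
      · exact ⟨-1, by ring, by rw [neg_one_smul]; exact hc'⟩
    intro k
    constructor
    · exact key h ε hε hc' k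
    · intro hk
      have h7 := key h⁻¹ ε hε (inv_rel ε hε hc') _ hk
      rw [inv_inv] at h7
      have h8 : ((h⁻¹ : GL _ F) : Matrix _ _ F) * ((h : Matrix _ _ F) * k * ((h⁻¹ : GL _ F) : Matrix _ _ F)) *
          (h : Matrix _ _ F) = k := by
        rw [← mul_assoc, ← mul_assoc, Units.inv_mul, one_mul, mul_assoc, Units.inv_mul, mul_one]
      rwa [h8] at h7

end Symp2

/-! ### the degenerate case `m = 0`: class 7 -/

theorem zero_case [Fintype F] (hodd : Odd (Fintype.card F)) (H : Subgroup (GL (Fin 0 ⊕ Fin 0) F)) :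
    InSpClass 0 H := by
  let e : (Fin 0 ⊕ Fin 0) ≃ (Fin 3 → Fin 0) := Equiv.equivOfIsEmpty _ _
  let f₁ : (Fin 0 → F) → (Fin 0 → F) → F := fun _ _ => 0
  have hf₁ : IsSymplecticForm f₁ := by
    refine ⟨⟨?_, ?_, ?_, ?_⟩, ?_, ?_, ?_⟩
    · intro x y v; simp [f₁]
    · intro c x v; simp [f₁]
    · intro v x y; simp [f₁]
    · intro c v x; simp [f₁]
    · intro v w; simp [f₁]
    · intro v; rfl
    · intro v hv
      exact absurd (Subsingleton.elim v 0) hv
  refine ⟨tensorWreathSubgroup 0 3 e 1 ⊓ spGL 0 F, ?_, ?_⟩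
  · right; right; right; right
    refine ⟨0, 3, e, 1, f₁, hodd, by decide, le_refl 3, by simp, hf₁, ?_, rfl⟩
    refine ⟨1, one_ne_zero, ?_⟩
    intro x y
    have hx : ((1 : GL (Fin 0 ⊕ Fin 0) F) : Matrix (Fin 0 ⊕ Fin 0) (Fin 0 ⊕ Fin 0) F) *ᵥ (x ∘ e) = 0 :=
      Subsingleton.elim _ _
    rw [hx]
    have h0 : sympForm 0 F 0 (((1 : GL (Fin 0 ⊕ Fin 0) F) : Matrix (Fin 0 ⊕ Fin 0) (Fin 0 ⊕ Fin 0) F) *ᵥ
        (y ∘ e)) = 0 := by
      simp [sympForm]
    rw [h0]
    simp
  · intro h _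
    have h1 : h = 1 := by
      apply Units.ext
      exact Subsingleton.elim _ _
    rw [h1]
    exact Subgroup.one_mem _

/-! ### the package -/

section Sp

variable [Fintype F]

/-- SP4b: a skew-adjoint matrix with non-zero scalar square, normalized up to sign (odd characteristic) -/
theorem SP4b (m : ℕ) (hodd : Odd (Fintype.card F)) (H : Subgroup (GL (Fin m ⊕ Fin m) F)) (hH : H ≤ spGL m F)
    (J : Matrix (Fin m ⊕ Fin m) (Fin m ⊕ Fin m) F) (c : F) (hc : c ≠ 0) (hJ2 : J * J = c • 1)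
    (hskew : ∀ u v, sympForm m F (J *ᵥ u) v = - sympForm m F u (J *ᵥ v))
    (hconj : ∀ h ∈ H, (h : Matrix (Fin m ⊕ Fin m) (Fin m ⊕ Fin m) F) * J = J * (h : Matrix _ _ F) ∨
      (h : Matrix (Fin m ⊕ Fin m) (Fin m ⊕ Fin m) F) * J = - (J * (h : Matrix _ _ F))) :
    InSpClass m H := by
  rcases Nat.eq_zero_or_pos m with hm | hm
  · subst hm
    exact zero_case hodd H
  · by_cases hsq : IsSquare c
    · obtain ⟨μ, rfl⟩ := hsq
      have hμ : μ ≠ 0 := by
        intro h0
        apply hc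
        rw [h0, mul_zero]
      exact square_case m hodd hm H hH J μ hμ hJ2 hskew hconj
    · exact nonsquare_case m hodd hm H hH J c hc hsq hJ2 hskew hconj

end Sp

end Cfsg.Agent.Lib.Helper26_AschSp_SP4b
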