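import Mathlib
import Cfsg.Agent.Lib.Helper98_AschDefs
import Cfsg.Agent.Lib.Helper23_FormDefs
import Cfsg.Agent.Lib.Helper29_OrthOddDefs
import Cfsg.Agent.Lib.Helper34_OrthOdd_OP4b
import Cfsg.Agent.Lib.Helper82_AschSp_SP4a
import Cfsg.Agent.Lib.Helper26_AschSp_SP4b
import Cfsg.Agent.Lib.Helper22_OrthEven_Basic

/-!
Package EV26 of helper22's even-dimensional orthogonal market (batch 3): a tensor decomposition of the
polar form whose second factor is an anisotropic binary form: the group lies in the normaliser of a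
subfield of degree 2 of unitary type.

The generator is `J = P (1 ⊗ j0 G₂) P⁻¹` (`j0` of `Helper82_AschSp_SP4a`: `j0 G₂ = J₀ G₂`, skew for `G₂`,
`(j0 G₂)² = - det G₂`), the field is `algJ J (- det G₂)` of `Helper26_AschSp_SP4b`.
-/

set_option autoImplicit false

namespace Cfsg.Agent.Lib.Helper34_OrthEven_EV26

open Cfsg Cfsg.Geo Matrix Cfsg.Agent.Lib.Helper98_AschDefs Cfsg.Agent.Lib.Helper23_FormDefs
  Cfsg.Agent.Lib.Helper34_OrthOdd_OP4b Cfsg.Agent.Lib.Helper82_AschSp_SP4a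
open scoped Kronecker MatrixGroups

variable {ι : Type} [Fintype ι] [DecidableEq ι] {F : Type*} [Field F]

/-- an anisotropic binary symmetric form has non-square `- det` -/
theorem nonsquare_of_aniso (f₂ : (Fin 2 → F) → (Fin 2 → F) → F) (hf₂ : IsBilinearForm f₂)
    (hs : gramMatrix f₂ 1 0 = gramMatrix f₂ 0 1)
    (hminus : ¬ IsPlusTypeOn (fun v : Fin 2 → F => f₂ v v) ⊤) :
    ¬ IsSquare (-(gramMatrix f₂).det) := by
  rintro ⟨t, ht⟩
  apply hminus
  set G := gramMatrix f₂ with hG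
  have hval : ∀ v : Fin 2 → F,
      f₂ v v = G 0 0 * v 0 * v 0 + 2 * G 0 1 * v 0 * v 1 + G 1 1 * v 1 * v 1 := by
    intro v
    rw [form_eq_gram f₂ hf₂]
    simp only [dotProduct, Matrix.mulVec, Fin.sum_univ_two, ← hG, hs]
    ring
  have hdet : G.det = G 0 0 * G 1 1 - G 0 1 * G 0 1 := by
    rw [Matrix.det_fin_two, hs]
  obtain ⟨v, hv0, hv⟩ : ∃ v : Fin 2 → F, v ≠ 0 ∧ f₂ v v = 0 := by
    by_cases ha : G 0 0 = 0
    · refine ⟨![1, 0], ?_, ?_⟩
      · intro h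
        have := congrFun h 0
        simp at this
      · rw [hval]
        simp [ha]
    · refine ⟨![t - G 0 1, G 0 0], ?_, ?_⟩
      · intro h
        have := congrFun h 1
        simp at this
        exact ha this
      · rw [hval]
        simp only [Matrix.cons_val_zero, Matrix.cons_val_one]
        linear_combination (-(G 0 0)) * ht - (G 0 0) * hdet
  refine ⟨Submodule.span F {v}, le_top, ?_, ?_⟩
  · intro w hw
    obtain ⟨r, rfl⟩ := Submodule.mem_span_singleton.1 hw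
    show f₂ (r • v) (r • v) = 0
    rw [hf₂.smul_left, hf₂.smul_right, hv]
    ring
  · rw [finrank_span_singleton hv0, finrank_top, Module.finrank_fin_fun]

/-- EV26: a tensor decomposition of the polar form with an anisotropic binary second factor: the group lies in the
normaliser of a subfield of degree 2 of unitary type -/
theorem EV26 [Fintype F] (Q : (ι → F) → F) (hQ : IsNondegenerateQuadraticForm Q) (h2 : (2 : F) ≠ 0)
    (n₁ : ℕ) (hn₁ : 0 < n₁) (e : ι ≃ Fin n₁ × Fin 2) (P : GL ι F)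
    (f₁ : (Fin n₁ → F) → (Fin n₁ → F) → F) (f₂ : (Fin 2 → F) → (Fin 2 → F) → F)
    (hf₁ : IsSymmetricForm f₁) (hf₂ : IsSymmetricForm f₂)
    (hten : IsTensorFormStructure id (QuadraticMap.polar Q) f₁ f₂ e P)
    (hminus : ¬ IsPlusTypeOn (fun v : Fin 2 → F => f₂ v v) ⊤) :
    ∃ K : Subalgebra F (Matrix ι ι F), IsFieldSubalgebra 2 K ∧ IsAdjointClosedFor (QuadraticMap.polar Q) K ∧
      ¬ IsSelfAdjointFor (QuadraticMap.polar Q) K ∧ (∀ k ∈ K, ∃ c : F, ∀ v : ι → F, Q (k *ᵥ v) = c * Q v) ∧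
      tensorProductSubgroup n₁ 2 e P ⊓ isometryGroup F Q ≤ subalgebraNormalizer K := by
  classical
  obtain ⟨c₀, hc₀, hform⟩ := hten
  have bil : IsBilinearForm (QuadraticMap.polar Q) := hQ.polar_bilinear
  set G₁ := gramMatrix f₁ with hG₁
  set G₂ := gramMatrix f₂ with hG₂
  have hG₂s : G₂ᵀ = G₂ := by
    ext i j
    rw [Matrix.transpose_apply]
    exact hf₂.symm _ _
  have hG₂' : G₂ 1 0 = G₂ 0 1 := hf₂.symm _ _
  have hform' : ∀ x y : Fin n₁ × Fin 2 → F,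
      QuadraticMap.polar Q ((P : Matrix ι ι F) *ᵥ (x ∘ e)) ((P : Matrix ι ι F) *ᵥ (y ∘ e)) =
        c₀ * (x ⬝ᵥ (G₁ ⊗ₖ G₂) *ᵥ y) := by
    intro x y
    rw [hform, formOfGram_id]
  have hns : ¬ IsSquare (-G₂.det) := nonsquare_of_aniso f₂ hf₂.bilinear hG₂' hminus
  have hdet0 : G₂.det ≠ 0 := by
    intro h0
    apply hns
    rw [h0, neg_zero]
    exact ⟨0, by ring⟩
  have hdetU : IsUnit G₂.det := isUnit_iff_ne_zero.2 hdet0
  have hι : Nonempty ι := ⟨e.symm (⟨0, hn₁⟩, 0)⟩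
  set J : Matrix ι ι F := conjP e P ((1 : Matrix (Fin n₁) (Fin n₁) F) ⊗ₖ j0 G₂) with hJ
  have hkk : ∀ (X X' : Matrix (Fin n₁) (Fin n₁) F) (Y Y' : Matrix (Fin 2) (Fin 2) F),
      (X ⊗ₖ Y) * (X' ⊗ₖ Y') = (X * X') ⊗ₖ (Y * Y') := fun X X' Y Y' =>
    (Matrix.mul_kronecker_mul X X' Y Y').symm
  have hJ2 : J * J = (-G₂.det) • (1 : Matrix ι ι F) := by
    rw [hJ, ← conjP_mul, hkk, one_mul, j0_sq G₂ hG₂']
    have : (1 : Matrix (Fin n₁) (Fin n₁) F) ⊗ₖ ((-G₂.det) • (1 : Matrix (Fin 2) (Fin 2) F)) =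
        (-G₂.det) • (1 : Matrix (Fin n₁ × Fin 2) (Fin n₁ × Fin 2) F) := by
      rw [Matrix.kronecker_smul, Matrix.one_kronecker_one]
    rw [this, conjP_smul, conjP_one]
  -- skew-adjointness of `J`
  have hskew : ∀ u v, QuadraticMap.polar Q (J *ᵥ u) v = - QuadraticMap.polar Q u (J *ᵥ v) := by
    intro u v
    obtain ⟨x, rfl⟩ := exists_coord e P u
    obtain ⟨y, rfl⟩ := exists_coord e P v
    rw [hJ, conjP_mulVec, conjP_mulVec, hform', hform']
    have h1 : (((1 : Matrix (Fin n₁) (Fin n₁) F) ⊗ₖ j0 G₂) *ᵥ x) ⬝ᵥ (G₁ ⊗ₖ G₂) *ᵥ y =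
        x ⬝ᵥ (((1 : Matrix (Fin n₁) (Fin n₁) F) ⊗ₖ j0 G₂)ᵀ * (G₁ ⊗ₖ G₂)) *ᵥ y := by
      rw [← Matrix.mulVec_mulVec, Matrix.dotProduct_mulVec x, Matrix.vecMul_transpose]
    have h3 : ((1 : Matrix (Fin n₁) (Fin n₁) F) ⊗ₖ j0 G₂)ᵀ * (G₁ ⊗ₖ G₂) =
        -((G₁ ⊗ₖ G₂) * ((1 : Matrix (Fin n₁) (Fin n₁) F) ⊗ₖ j0 G₂)) := by
      rw [← Matrix.kroneckerMap_transpose, Matrix.transpose_one, hkk, hkk, one_mul, mul_one,
        j0_skew G₂ hG₂']
      ext p q
      simp [Matrix.kroneckerMap_apply]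
    rw [h1, h3, Matrix.neg_mulVec, dotProduct_neg, Matrix.mulVec_mulVec]
    ring
  have hJJ : ∀ v : ι → F, J *ᵥ (J *ᵥ v) = (-G₂.det) • v := by
    intro v
    rw [Matrix.mulVec_mulVec, hJ2, Matrix.smul_mulVec, Matrix.one_mulVec]
  set K := Cfsg.Agent.Lib.Helper26_AschSp_SP4b.algJ J (-G₂.det) hJ2 with hK
  have hfield : IsFieldSubalgebra 2 K :=
    Cfsg.Agent.Lib.Helper26_AschSp_SP4b.algJ_isField J (-G₂.det) hJ2 hns
  have hadj : IsAdjointClosedFor (QuadraticMap.polar Q) K := by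
    rintro _ ⟨a, b, rfl⟩
    refine ⟨a • (1 : Matrix _ _ F) + (-b) • J, ⟨a, -b, rfl⟩, ?_⟩
    intro u v
    rw [Matrix.add_mulVec, Matrix.add_mulVec, Matrix.smul_mulVec, Matrix.smul_mulVec, Matrix.smul_mulVec,
      Matrix.smul_mulVec, Matrix.one_mulVec, Matrix.one_mulVec, bil.add_left, bil.add_right, bil.smul_left,
      bil.smul_left, bil.smul_right, bil.smul_right, hskew]
    ring
  have hnsa : ¬ IsSelfAdjointFor (QuadraticMap.polar Q) K := by
    intro hsa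
    have hJK : J ∈ K := ⟨0, 1, by simp⟩
    have hzero : ∀ u v, QuadraticMap.polar Q (J *ᵥ u) v = 0 := by
      intro u v
      have h3 := hsa J hJK u v
      have h4 := hskew u v
      have h5 : (2 : F) * QuadraticMap.polar Q (J *ᵥ u) v = 0 := by linear_combination h3 + h4
      exact (mul_eq_zero.1 h5).resolve_left h2
    obtain ⟨i₀⟩ := hι
    set u : ι → F := Pi.single i₀ 1 with hu
    have hune : u ≠ 0 := by
      intro h0
      have := congrFun h0 i₀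
      simp [hu] at this
    have hJu : J *ᵥ u ≠ 0 := by
      intro h0
      have h6 := hJJ u
      rw [h0, Matrix.mulVec_zero] at h6
      exact hune ((smul_eq_zero.1 h6.symm).resolve_left (neg_ne_zero.2 hdet0))
    obtain ⟨-, x, hx⟩ := hQ.nondegenerate _ hJu
    exact hx (hzero u x)
  have hsim : ∀ k ∈ K, ∃ c : F, ∀ v : ι → F, Q (k *ᵥ v) = c * Q v := by
    rintro _ ⟨a, b, rfl⟩
    refine ⟨a * a + b * b * G₂.det, fun v => ?_⟩
    set w : ι → F := J *ᵥ v with hw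
    have hwv : QuadraticMap.polar Q w v = - QuadraticMap.polar Q v w := hskew v v
    have hww : QuadraticMap.polar Q w w = G₂.det * QuadraticMap.polar Q v v := by
      rw [hw, hskew v (J *ᵥ v), hJJ, bil.smul_right]
      ring
    have hkv : (a • (1 : Matrix ι ι F) + b • J) *ᵥ v = a • v + b • w := by
      rw [Matrix.add_mulVec, Matrix.smul_mulVec, Matrix.smul_mulVec, Matrix.one_mulVec]
    have h1 : QuadraticMap.polar Q (a • v + b • w) (a • v + b • w) =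
        (a * a + b * b * G₂.det) * QuadraticMap.polar Q v v := by
      simp only [bil.add_left, bil.add_right, bil.smul_left, bil.smul_right, hwv, hww]
      ring
    rw [hkv]
    have h3 := Cfsg.Agent.Lib.Helper22_OrthEven_Basic.polar_self Q hQ (a • v + b • w)
    have h4 := Cfsg.Agent.Lib.Helper22_OrthEven_Basic.polar_self Q hQ v
    rw [h3, h4] at h1
    have h5 : (2 : F) * (Q (a • v + b • w) - (a * a + b * b * G₂.det) * Q v) = 0 := by
      linear_combination h1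
    exact sub_eq_zero.1 ((mul_eq_zero.1 h5).resolve_left h2)
  have key : ∀ (g : GL ι F) (ε : F),
      (g : Matrix ι ι F) * J = ε • (J * (g : Matrix ι ι F)) → ∀ k ∈ K,
      (g : Matrix ι ι F) * k * ((g⁻¹ : GL ι F) : Matrix ι ι F) ∈ K := by
    rintro g ε hg _ ⟨a, b, rfl⟩
    refine ⟨a, b * ε, ?_⟩
    rw [mul_add, add_mul, mul_smul_comm, mul_smul_comm, mul_one, smul_mul_assoc, smul_mul_assoc, Units.mul_inv,
      hg, smul_mul_assoc, mul_assoc, Units.mul_inv, mul_one, smul_smul]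
  have hG₁0 : G₁ ≠ 0 := by
    intro h0
    set v : Fin n₁ → F := Pi.single ⟨0, hn₁⟩ 1 with hv
    have hvne : v ≠ 0 := by
      intro h
      have := congrFun h ⟨0, hn₁⟩
      simp [hv] at this
    obtain ⟨-, x, hx⟩ := hf₁.nondegenerate v hvne
    apply hx
    rw [form_eq_gram f₁ hf₁.bilinear, ← hG₁, h0, Matrix.zero_mulVec, dotProduct_zero]
  have hG₂0 : G₂ ≠ 0 := ne_zero_of_isUnit_det (by decide) hdetU
  refine ⟨K, hfield, hadj, hnsa, hsim, ?_⟩
  intro g hg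
  obtain ⟨hgT, hgI⟩ := Subgroup.mem_inf.1 hg
  -- `g` is a Kronecker product in the coordinates
  obtain ⟨y, ⟨k, ⟨α, γ, hk⟩, rfl⟩, hy⟩ := hgT
  set αm : Matrix (Fin n₁) (Fin n₁) F := (α : Matrix (Fin n₁) (Fin n₁) F) with hαm
  set γm : Matrix (Fin 2) (Fin 2) F := (γ : Matrix (Fin 2) (Fin 2) F) with hγm
  have hval : (g : Matrix ι ι F) = conjP e P (αm ⊗ₖ γm) := by
    rw [← hy, ← hk]
    simp only [MulEquiv.coe_toMonoidHom, MulAut.conj_apply, Units.val_mul]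
    rfl
  -- `γ` is a similitude of `G₂`
  have hT : (αm ⊗ₖ γm)ᵀ * (G₁ ⊗ₖ G₂) * (αm ⊗ₖ γm) = G₁ ⊗ₖ G₂ := by
    apply eq_of_dot_eq
    intro x y
    have := Cfsg.Agent.Lib.Helper29_OrthOddDefs.polar_mulVec_of_mem Q hgI
      ((P : Matrix _ _ F) *ᵥ (x ∘ e)) ((P : Matrix _ _ F) *ᵥ (y ∘ e))
    rw [hval, conjP_mulVec, conjP_mulVec, hform', hform', mulVec_dot_mulVec] at this
    exact mul_left_cancel₀ hc₀ this
  have hT' : (αmᵀ * G₁ * αm) ⊗ₖ (γmᵀ * G₂ * γm) = G₁ ⊗ₖ G₂ := by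
    rw [← hT, ← Matrix.kroneckerMap_transpose, hkk, hkk]
  obtain ⟨c, hc0, hc⟩ := kron_prop hG₁0 hG₂0 hT'
  have hcomm : (αm ⊗ₖ γm) * ((1 : Matrix (Fin n₁) (Fin n₁) F) ⊗ₖ j0 G₂) =
      αm ⊗ₖ (γm * j0 G₂) := by rw [hkk, mul_one]
  have hcomm' : ((1 : Matrix (Fin n₁) (Fin n₁) F) ⊗ₖ j0 G₂) * (αm ⊗ₖ γm) =
      αm ⊗ₖ (j0 G₂ * γm) := by rw [hkk, one_mul]
  obtain ⟨ε, hε, hrel⟩ : ∃ ε : F, ε * ε = 1 ∧
      (g : Matrix ι ι F) * J = ε • (J * (g : Matrix ι ι F)) := by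
    rcases j0_simil G₂ γm hG₂s hdetU c hc0 hc with h1 | h1
    · refine ⟨1, by ring, ?_⟩
      rw [one_smul, hval, hJ, ← conjP_mul, ← conjP_mul, hcomm, hcomm', h1]
    · refine ⟨-1, by ring, ?_⟩
      have hneg : αm ⊗ₖ (-(j0 G₂ * γm)) = -(αm ⊗ₖ (j0 G₂ * γm)) := by
        ext p q
        simp [Matrix.kroneckerMap_apply]
      rw [neg_one_smul, hval, hJ, ← conjP_mul, ← conjP_mul, ← conjP_neg, hcomm, hcomm', h1, hneg]
  intro k
  constructor
  · exact key g ε hrel k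
  · intro hk'
    have h7 := key g⁻¹ ε (Cfsg.Agent.Lib.Helper26_AschSp_SP4b.inv_rel ε hε hrel) _ hk'
    rw [inv_inv] at h7
    have h8 : ((g⁻¹ : GL ι F) : Matrix ι ι F) *
        ((g : Matrix ι ι F) * k * ((g⁻¹ : GL ι F) : Matrix ι ι F)) * (g : Matrix ι ι F) = k := by
      rw [← mul_assoc, ← mul_assoc, Units.inv_mul, one_mul, mul_assoc, Units.inv_mul, mul_one]
    rwa [h8] at h7

end Cfsg.Agent.Lib.Helper34_OrthEven_EV26
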