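import Mathlib
import Cfsg.Agent.Lib.Helper98_AschDefs
import Cfsg.Agent.Lib.Helper98_AschCliff
import Cfsg.Agent.Lib.Helper23_FormDefs
import Cfsg.Agent.Lib.Helper29_Asch_PKG0
import Cfsg.Agent.Lib.Helper29_Asch_PKP1
import Cfsg.Agent.Lib.Helper29_OrthOdd_Glue
import Cfsg.Agent.Lib.Helper7_OrthOdd_OG2
import Cfsg.Agent.Lib.Helper30_AschMax
import Cfsg.Agent.Lib.Helper40_OOdd
import Cfsg.Agent.Lib.Helper85_OrthEven_EV5
import Cfsg.Agent.Lib.Helper82_AschSp_SP2
import Cfsg.Agent.Lib.Helper22_OrthEven_Basic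

set_option autoImplicit false

/-!
# EV22 (package of helper22's even-dimensional orthogonal rows, batch 3)

An orthogonal sum of two non-isometric non-degenerate subspaces of the same odd dimension over a
finite field with `q ≡ 3 mod 4` is of plus type: the two summands are similar with a non-square
factor `λ`, `-λ = c²`, and the graph of `c⁻¹ ψ` is totally singular.
-/

open Cfsg Cfsg.Geo Matrix Cfsg.Agent.Lib.Helper98_AschDefs Cfsg.Agent.Lib.Helper23_FormDefs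
open scoped Kronecker MatrixGroups

namespace Cfsg.Agent.Lib.Helper43_OrthEven_EV22

open Module Cfsg.Agent.Lib.Helper40_SpBasic Cfsg.Agent.Lib.Helper40_OConj
  Cfsg.Agent.Lib.Helper94_OrthGenBridge

variable {ι : Type} [Fintype ι] [DecidableEq ι] {F : Type*} [Field F]

/-- In a finite field with `q ≡ 3 mod 4` the negative of a non-square is a square. -/
theorem isSquare_neg_of_not_isSquare [Fintype F] (hq : Fintype.card F % 4 = 3) (l : F)
    (hl : l ≠ 0) (hns : ¬ IsSquare l) : IsSquare (-l) := by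
  classical
  have hchar : ringChar F ≠ 2 := by
    intro h
    have := FiniteField.even_card_iff_char_two.1 h
    omega
  have h1 : quadraticChar F l = -1 := (quadraticChar_neg_one_iff_not_isSquare).2 hns
  have hm1 : ¬ IsSquare (-1 : F) := by
    rw [FiniteField.isSquare_neg_one_iff]
    omega
  have h2 : quadraticChar F (-1) = -1 := (quadraticChar_neg_one_iff_not_isSquare).2 hm1
  have h3 : quadraticChar F (-l) = 1 := by
    have : (-l) = (-1) * l := by ring
    rw [this, map_mul, h1, h2]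
    norm_num
  exact (quadraticChar_one_iff_isSquare (neg_ne_zero.2 hl)).1 h3

theorem EV22 [Fintype F] (Q : (ι → F) → F) (hQ : IsNondegenerateQuadraticForm Q)
    (hq : Fintype.card F % 4 = 3) (k : ℕ) (hk : Odd k)
    (D : Fin 2 → Submodule F (ι → F)) (hD : IsNondegenerateMDecomposition (QuadraticMap.polar Q) k D)
    (hniso : ¬ AreIsometricFor Q (D 0) (D 1)) : IsPlusTypeOn Q ⊤ := by
  classical
  obtain ⟨m, hm⟩ := hk
  have hnd : ∀ i, NDOn (pol (qfOf Q hQ)) (D i) := fun i =>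
    Cfsg.Agent.Lib.Helper85_OrthEven_EV5.ndOn_of_geo Q hQ (D i) (hD.nondegenerate i)
  have hfr : ∀ i, finrank F (D i) = 2 * m + 1 := fun i => by rw [hD.decomp.finrank_eq, hm]
  obtain ⟨φ0, μ0, hμ0, h0⟩ := Cfsg.Agent.Lib.Helper40_OOdd.exists_simil_qfOdd m (hfr 0)
    (Cfsg.Agent.Lib.Helper43_OrthTS_OQ2.resQ (qfOf Q hQ) (D 0))
    (Cfsg.Agent.Lib.Helper43_OrthTS_OQ2.nondegenerate_resQ (hnd 0))
  obtain ⟨φ1, μ1, hμ1, h1⟩ := Cfsg.Agent.Lib.Helper40_OOdd.exists_simil_qfOdd m (hfr 1)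
    (Cfsg.Agent.Lib.Helper43_OrthTS_OQ2.resQ (qfOf Q hQ) (D 1))
    (Cfsg.Agent.Lib.Helper43_OrthTS_OQ2.nondegenerate_resQ (hnd 1))
  have h0' : ∀ v : D 0, Q (v : ι → F) = μ0 * Cfsg.Agent.Lib.Helper44_StdForms.qfOdd m F (φ0 v) :=
    fun v => h0 v
  have h1' : ∀ v : D 1, Q (v : ι → F) = μ1 * Cfsg.Agent.Lib.Helper44_StdForms.qfOdd m F (φ1 v) :=
    fun v => h1 v
  let ψ : D 0 ≃ₗ[F] D 1 := φ0.trans φ1.symm
  have hψ : ∀ v : D 0, Q ((ψ v : D 1) : ι → F) = (μ1 / μ0) * Q (v : ι → F) := by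
    intro v
    have hφ : φ1 (ψ v) = φ0 v := by simp [ψ]
    rw [h1' (ψ v), hφ, h0' v]
    field_simp
  -- a scaled equivalence `e = c⁻¹ ψ` with `Q (e v) = ε Q v` whenever `μ1 / μ0 = ε c²`
  have hscale : ∀ (c ε : F), c ≠ 0 → μ1 / μ0 = ε * (c * c) →
      ∃ e : D 0 ≃ₗ[F] D 1, ∀ v : D 0, Q ((e v : D 1) : ι → F) = ε * Q (v : ι → F) := by
    intro c ε hc hcε
    refine ⟨ψ.trans (LinearEquiv.smulOfNeZero F (D 1) c⁻¹ (inv_ne_zero hc)), fun v => ?_⟩
    have : ((ψ.trans (LinearEquiv.smulOfNeZero F (D 1) c⁻¹ (inv_ne_zero hc)) v : D 1) : ι → F)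
        = c⁻¹ • ((ψ v : D 1) : ι → F) := rfl
    rw [this, hQ.smul, hψ, hcε]
    field_simp
  have hl0 : μ1 / μ0 ≠ 0 := div_ne_zero hμ1 hμ0
  have hns : ¬ IsSquare (μ1 / μ0) := by
    rintro ⟨c, hc⟩
    have hc0 : c ≠ 0 := by
      rintro rfl
      rw [mul_zero] at hc
      exact hl0 hc
    obtain ⟨e, he⟩ := hscale c 1 hc0 (by rw [one_mul]; exact hc)
    exact hniso ⟨e, fun w => by rw [he w, one_mul]⟩
  obtain ⟨c, hc⟩ := isSquare_neg_of_not_isSquare hq _ hl0 hns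
  have hc0 : c ≠ 0 := by
    rintro rfl
    rw [mul_zero] at hc
    exact hl0 (neg_eq_zero.1 hc)
  obtain ⟨e, he⟩ := hscale c (-1) hc0 (by rw [← hc]; ring)
  -- the graph of `e`
  let g : D 0 →ₗ[F] (ι → F) := (D 0).subtype + (D 1).subtype ∘ₗ e.toLinearMap
  have hg : ∀ v : D 0, g v = (v : ι → F) + ((e v : D 1) : ι → F) := fun v => rfl
  have hcompl := Cfsg.Agent.Lib.Helper82_AschSp_SP2.isCompl_of_decomp hD.decomp
  have hinj : Function.Injective g := by
    rw [injective_iff_map_eq_zero]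
    intro v hv
    rw [hg] at hv
    have hv1 : (v : ι → F) ∈ D 1 := by
      have : (v : ι → F) = - ((e v : D 1) : ι → F) := eq_neg_of_add_eq_zero_left hv
      rw [this]
      exact (D 1).neg_mem (e v).2
    have := (Submodule.disjoint_def.1 hcompl.disjoint) (v : ι → F) v.2 hv1
    exact Subtype.ext this
  refine ⟨LinearMap.range g, le_top, ?_, ?_⟩
  · rintro _ ⟨v, rfl⟩
    rw [hg, Cfsg.Agent.Lib.Helper22_OrthEven_Basic.Q_add Q, he,
      hD.orthogonal 0 1 (by decide) (v : ι → F) v.2 _ (e v).2]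
    ring
  · rw [LinearMap.finrank_range_of_inj hinj, hD.decomp.finrank_eq, finrank_top,
      Module.finrank_fintype_fun_eq_card]
    exact Cfsg.Agent.Lib.Helper82_AschSp_SP2.two_mul_eq_card hD.decomp

end Cfsg.Agent.Lib.Helper43_OrthEven_EV22
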