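/-
helper47: package EV24b of helper22's even-dimensional orthogonal rows (batch 3):
an adjoint-closed, not self-adjoint subfield of degree 2 normalised by an irreducible group of isometries acts by
similarities of `Q` (the content is characteristic 2).
-/
import Mathlib
import Cfsg.Prelude.Def_GeometricClasses
import Cfsg.Agent.Lib.Helper98_AschDefs
import Cfsg.Agent.Lib.Helper23_FormDefs
import Cfsg.Agent.Lib.Helper29_OrthOddDefs
import Cfsg.Agent.Lib.Helper22_OrthEven_Basic
import Cfsg.Agent.Lib.Helper7_AschSp_SP3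

set_option autoImplicit false

namespace Cfsg.Agent.Lib.Helper47_OrthEven_EV24b

open Cfsg Cfsg.Geo Matrix Cfsg.Agent.Lib.Helper98_AschDefs Cfsg.Agent.Lib.Helper23_FormDefs
  Cfsg.Agent.Lib.Helper29_OrthOddDefs Cfsg.Agent.Lib.Helper22_OrthEven_Basic
  Cfsg.Agent.Lib.Helper7_AschSp_SP3
open scoped MatrixGroups

variable {ι : Type} [Fintype ι] [DecidableEq ι] {F : Type*} [Field F]

omit [DecidableEq ι] in
/-- an adjoint for a symmetric form is an adjoint in the other direction too -/
theorem IsAdj.symm' {f : (ι → F) → (ι → F) → F} (hsymm : ∀ u v, f u v = f v u) {a b : Matrix ι ι F}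
    (h : IsAdj f a b) : IsAdj f b a := by
  intro u v
  rw [hsymm, ← h v u, hsymm]

/-- the structure of an adjoint-closed, not self-adjoint quadratic subfield: a generator with its trace and norm
relations for the polar form -/
theorem exists_generator [Nonempty ι] (Q : (ι → F) → F) (hQ : IsNondegenerateQuadraticForm Q)
    (K : Subalgebra F (Matrix ι ι F)) (hK : IsFieldSubalgebra 2 K)
    (hKadj : IsAdjointClosedFor (QuadraticMap.polar Q) K)
    (hnsa : ¬ IsSelfAdjointFor (QuadraticMap.polar Q) K) :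
    ∃ (θ : Matrix ι ι F) (a b : F), θ ∈ K ∧
      (∀ k ∈ K, ∃ α β : F, k = α • (1 : Matrix ι ι F) + β • θ) ∧
      (∀ u v, QuadraticMap.polar Q (θ *ᵥ u) v + QuadraticMap.polar Q u (θ *ᵥ v)
        = a * QuadraticMap.polar Q u v) ∧
      (∀ u v, QuadraticMap.polar Q (θ *ᵥ u) (θ *ᵥ v) = b * QuadraticMap.polar Q u v) := by
  classical
  have hb := hQ.polar_bilinear
  have hnd := hQ.nondegenerate
  have hsymm : ∀ u v, QuadraticMap.polar Q u v = QuadraticMap.polar Q v u :=
    fun u v => QuadraticMap.polar_comm Q u v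
  unfold IsSelfAdjointFor at hnsa
  push Not at hnsa
  obtain ⟨θ, hθ, u₀, v₀, hne0⟩ := hnsa
  obtain ⟨θ', hθ', hadj⟩ := hKadj θ hθ
  have hA : IsAdj (QuadraticMap.polar Q) θ θ' := hadj
  have hA' : IsAdj (QuadraticMap.polar Q) θ' θ := IsAdj.symm' hsymm hA
  -- `θ` is not a scalar
  have hns : ∀ c : F, θ ≠ c • (1 : Matrix ι ι F) := by
    intro c hc
    apply hne0
    rw [hc, Matrix.smul_mulVec, Matrix.smul_mulVec, Matrix.one_mulVec, Matrix.one_mulVec,
      hb.smul_left, hb.smul_right]
  have hne : θ' ≠ θ := by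
    intro h
    apply hne0
    rw [hadj, h]
  have hone : (1 : Matrix ι ι F) ≠ 0 := one_ne_zero
  -- the span of `1, θ`
  have hli : LinearIndependent F ![(1 : Matrix ι ι F), θ] := by
    rw [LinearIndependent.pair_iff]
    intro s t hst
    by_cases ht : t = 0
    · subst ht
      rw [zero_smul, add_zero] at hst
      rcases smul_eq_zero.1 hst with h | h
      · exact ⟨h, rfl⟩
      · exact absurd h hone
    · exfalso
      apply hns (-(s / t))
      have h1 : t • θ = -(s • (1 : Matrix ι ι F)) := eq_neg_of_add_eq_zero_right hst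
      have h2 : θ = t⁻¹ • (t • θ) := by rw [smul_smul, inv_mul_cancel₀ ht, one_smul]
      rw [h2, h1, smul_neg, smul_smul, neg_smul]
      congr 2
      field_simp
  have hspan : Submodule.span F (Set.range ![(1 : Matrix ι ι F), θ]) = Subalgebra.toSubmodule K := by
    apply Submodule.eq_of_le_of_finrank_eq
    · rw [Submodule.span_le]
      rintro _ ⟨i, rfl⟩
      fin_cases i
      · exact K.one_mem
      · exact hθ
    · rw [finrank_span_eq_card hli, Fintype.card_fin]
      exact hK.finrank_eq.symm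
  have hdecomp : ∀ k ∈ K, ∃ α β : F, k = α • (1 : Matrix ι ι F) + β • θ := by
    intro k hk
    have hk' : k ∈ Submodule.span F (Set.range ![(1 : Matrix ι ι F), θ]) := by
      rw [hspan]
      exact hk
    obtain ⟨c, hc⟩ := (Submodule.mem_span_range_iff_exists_fun F).1 hk'
    rw [Fin.sum_univ_two] at hc
    exact ⟨c 0, c 1, hc.symm⟩
  -- self-adjoint elements of `K` are scalars
  have hsc : ∀ x ∈ K, IsAdj (QuadraticMap.polar Q) x x → ∃ c : F, x = c • (1 : Matrix ι ι F) := by
    intro x hx hxx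
    obtain ⟨α, β, rfl⟩ := hdecomp x hx
    have h1 : IsAdj (QuadraticMap.polar Q) (α • (1 : Matrix ι ι F) + β • θ)
        (α • (1 : Matrix ι ι F) + β • θ') :=
      (IsAdj.one.smul hb α).add hb (hA.smul hb β)
    have h2 := hxx.unique hb hnd h1
    have h3 : β • (θ - θ') = 0 := by
      rw [smul_sub, sub_eq_zero]
      exact add_left_cancel h2
    rcases smul_eq_zero.1 h3 with h4 | h4
    · exact ⟨α, by rw [h4, zero_smul, add_zero]⟩
    · exact absurd (sub_eq_zero.1 h4).symm hne
  have hAA : IsAdj (QuadraticMap.polar Q) (θ + θ') (θ + θ') := by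
    have := hA.add hb hA'
    rwa [add_comm θ' θ] at this
  obtain ⟨a, ha⟩ := hsc (θ + θ') (K.add_mem hθ hθ') hAA
  obtain ⟨b, hbb⟩ := hsc (θ' * θ) (K.mul_mem hθ' hθ) (hA'.mul hA)
  refine ⟨θ, a, b, hθ, hdecomp, ?_, ?_⟩
  · intro u v
    rw [hadj, ← hb.add_right, ← Matrix.add_mulVec, add_comm θ' θ, ha, Matrix.smul_mulVec,
      Matrix.one_mulVec, hb.smul_right]
  · intro u v
    rw [hadj, Matrix.mulVec_mulVec, hbb, Matrix.smul_mulVec, Matrix.one_mulVec, hb.smul_right]

/-- EV24b -/
theorem EV24b [Fintype F] (Q : (ι → F) → F) (hQ : IsNondegenerateQuadraticForm Q) (hn : 3 ≤ Fintype.card ι)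
    (H : Subgroup (GL ι F)) (hHI : H ≤ isometryGroup F Q) (hirr : ActsIrreducibly (matrixSet H))
    (K : Subalgebra F (Matrix ι ι F)) (hK : IsFieldSubalgebra 2 K)
    (hKadj : IsAdjointClosedFor (QuadraticMap.polar Q) K) (hnsa : ¬ IsSelfAdjointFor (QuadraticMap.polar Q) K)
    (hHK : H ≤ subalgebraNormalizer K) :
    ∀ k ∈ K, ∃ c : F, ∀ v : ι → F, Q (k *ᵥ v) = c * Q v := by
  classical
  have hne : Nonempty ι := by
    rw [← Fintype.card_pos_iff]
    omega
  have hb := hQ.polar_bilinear
  have hnd := hQ.nondegenerate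
  have hsymm : ∀ u v, QuadraticMap.polar Q u v = QuadraticMap.polar Q v u :=
    fun u v => QuadraticMap.polar_comm Q u v
  obtain ⟨θ, a, b, hθ, hdecomp, htr, hnorm⟩ := exists_generator Q hQ K hK hKadj hnsa
  -- the action of `α + β θ`
  have hact : ∀ (α β : F) (v : ι → F),
      (α • (1 : Matrix ι ι F) + β • θ) *ᵥ v = α • v + β • (θ *ᵥ v) := by
    intro α β v
    rw [Matrix.add_mulVec, Matrix.smul_mulVec, Matrix.smul_mulVec, Matrix.one_mulVec]
  -- scaling of the polar form
  have hscal : ∀ (α β : F) (u v : ι → F),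
      QuadraticMap.polar Q ((α • (1 : Matrix ι ι F) + β • θ) *ᵥ u)
        ((α • (1 : Matrix ι ι F) + β • θ) *ᵥ v)
        = (α ^ 2 + α * β * a + β ^ 2 * b) * QuadraticMap.polar Q u v := by
    intro α β u v
    rw [hact, hact]
    simp only [hb.add_left, hb.add_right, hb.smul_left, hb.smul_right]
    rw [hnorm]
    linear_combination (α * β) * htr u v
  -- the value of `Q`
  have hQk : ∀ (α β : F) (v : ι → F),
      Q ((α • (1 : Matrix ι ι F) + β • θ) *ᵥ v)
        = α ^ 2 * Q v + β ^ 2 * Q (θ *ᵥ v) + α * β * QuadraticMap.polar Q v (θ *ᵥ v) := by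
    intro α β v
    rw [hact, Q_add Q, hQ.smul, hQ.smul, hb.smul_left, hb.smul_right]
    ring
  by_cases h2 : (2 : F) = 0
  swap
  · -- odd characteristic
    intro k hk
    obtain ⟨α, β, rfl⟩ := hdecomp k hk
    refine ⟨α ^ 2 + α * β * a + β ^ 2 * b, fun v => ?_⟩
    have h1 := hscal α β v v
    rw [polar_self Q hQ, polar_self Q hQ] at h1
    have h3 : (2 : F) * (Q ((α • (1 : Matrix ι ι F) + β • θ) *ᵥ v)
        - (α ^ 2 + α * β * a + β ^ 2 * b) * Q v) = 0 := by
      linear_combination h1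
    rcases mul_eq_zero.1 h3 with h4 | h4
    · exact absurd h4 h2
    · exact sub_eq_zero.1 h4
  · -- characteristic two
    -- the invariant subspace
    let W : Submodule F (ι → F) :=
      { carrier := {v | ∀ k ∈ K, ∀ c : F,
          (∀ u w, QuadraticMap.polar Q (k *ᵥ u) (k *ᵥ w) = c * QuadraticMap.polar Q u w) →
            Q (k *ᵥ v) = c * Q v}
        zero_mem' := by
          intro k _ c _
          rw [Matrix.mulVec_zero, Q_zero Q hQ, mul_zero]
        add_mem' := by
          intro x y hx hy k hk c hc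
          rw [Matrix.mulVec_add, Q_add Q, Q_add Q, hx k hk c hc, hy k hk c hc, hc]
          ring
        smul_mem' := by
          intro s x hx k hk c hc
          rw [Matrix.mulVec_smul, hQ.smul, hQ.smul, hx k hk c hc]
          ring }
    have hWmem : ∀ v, v ∈ W ↔ ∀ k ∈ K, ∀ c : F,
        (∀ u w, QuadraticMap.polar Q (k *ᵥ u) (k *ᵥ w) = c * QuadraticMap.polar Q u w) →
          Q (k *ᵥ v) = c * Q v := fun v => Iff.rfl
    -- a nonzero value of the polar form
    obtain ⟨u₁, w₁, huw⟩ : ∃ u w : ι → F, QuadraticMap.polar Q u w ≠ 0 := by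
      obtain ⟨i⟩ := hne
      have h1 : (Pi.single i 1 : ι → F) ≠ 0 := by
        intro h
        have := congrFun h i
        simp at this
      obtain ⟨x, hx⟩ := (hnd _ h1).1
      exact ⟨x, _, hx⟩
    -- invariance
    have hWinv : ∀ s ∈ matrixSet H, W.map (Matrix.toLin' s) ≤ W := by
      rintro _ ⟨h, hh, rfl⟩
      rintro _ ⟨v, hv, rfl⟩
      rw [Matrix.toLin'_apply]
      rw [hWmem]
      intro k hk c hc
      have hhI : h ∈ isometryGroup F Q := hHI hh
      have hhinvI : h⁻¹ ∈ isometryGroup F Q := (isometryGroup F Q).inv_mem hhI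
      have hhinvN : h⁻¹ ∈ subalgebraNormalizer K := hHK (H.inv_mem hh)
      have hk₁ : ((h⁻¹ : GL ι F) : Matrix ι ι F) * k * (h : Matrix ι ι F) ∈ K := by
        have := (hhinvN k).1 hk
        rwa [inv_inv] at this
      have hcancel : ∀ x : ι → F,
          (h : Matrix ι ι F) *ᵥ (((h⁻¹ : GL ι F) : Matrix ι ι F) *ᵥ x) = x := by
        intro x
        rw [Matrix.mulVec_mulVec, ← Units.val_mul, mul_inv_cancel, Units.val_one, Matrix.one_mulVec]
      have hc₁ : ∀ u w, QuadraticMap.polar Q
          ((((h⁻¹ : GL ι F) : Matrix ι ι F) * k * (h : Matrix ι ι F)) *ᵥ u)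
          ((((h⁻¹ : GL ι F) : Matrix ι ι F) * k * (h : Matrix ι ι F)) *ᵥ w)
          = c * QuadraticMap.polar Q u w := by
        intro u w
        rw [← Matrix.mulVec_mulVec, ← Matrix.mulVec_mulVec, ← Matrix.mulVec_mulVec,
          ← Matrix.mulVec_mulVec, polar_mulVec_of_mem Q hhinvI, hc, polar_mulVec_of_mem Q hhI]
      have h3 := (hWmem v).1 hv _ hk₁ c hc₁
      rw [← Matrix.mulVec_mulVec, ← Matrix.mulVec_mulVec] at h3
      have h4 : Q ((h : Matrix ι ι F) *ᵥ (((h⁻¹ : GL ι F) : Matrix ι ι F) *ᵥ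
          (k *ᵥ ((h : Matrix ι ι F) *ᵥ v)))) = Q (((h⁻¹ : GL ι F) : Matrix ι ι F) *ᵥ
          (k *ᵥ ((h : Matrix ι ι F) *ᵥ v))) := (mem_isometryGroup_iff Q h).1 hhI _
      rw [hcancel] at h4
      rw [h4, h3, (mem_isometryGroup_iff Q h).1 hhI v]
    -- a nonzero vector of `W`
    have hW0 : W ≠ ⊥ := by
      have hcard : Fintype.card (F × F) < Fintype.card (ι → F) := by
        rw [Fintype.card_prod, Fintype.card_fun, ← sq]
        exact Nat.pow_lt_pow_right Fintype.one_lt_card (by omega)
      obtain ⟨x, y, hxy, hg⟩ := Fintype.exists_ne_map_eq_of_card_lt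
        (fun v : ι → F => (Q (θ *ᵥ v) - b * Q v,
          QuadraticMap.polar Q v (θ *ᵥ v) - a * Q v)) hcard
      simp only [Prod.mk.injEq] at hg
      obtain ⟨hg1, hg2⟩ := hg
      have hv0 : x + y ≠ 0 := by
        intro h
        apply hxy
        have h1 : x = -y := eq_neg_of_add_eq_zero_left h
        have h3 : (-1 : F) = 1 := by linear_combination -h2
        rw [h1, ← neg_one_smul F y, h3, one_smul]
      have hδ : Q (θ *ᵥ (x + y)) = b * Q (x + y) := by
        rw [Matrix.mulVec_add, Q_add Q, Q_add Q, hnorm]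
        linear_combination hg1 + (Q (θ *ᵥ y) - b * Q y) * h2
      have hε : QuadraticMap.polar Q (x + y) (θ *ᵥ (x + y)) = a * Q (x + y) := by
        rw [Matrix.mulVec_add, hb.add_left, hb.add_right, hb.add_right, Q_add Q]
        have h5 := htr x y
        rw [hsymm (θ *ᵥ x) y] at h5
        linear_combination hg2 + h5 + (QuadraticMap.polar Q y (θ *ᵥ y) - a * Q y) * h2
      intro hbot
      apply hv0
      have hmem : x + y ∈ W := by
        rw [hWmem]
        intro k hk c hc
        obtain ⟨α, β, rfl⟩ := hdecomp k hk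
        have hcN : c = α ^ 2 + α * β * a + β ^ 2 * b := by
          have h6 := hc u₁ w₁
          rw [hscal] at h6
          exact (mul_right_cancel₀ huw h6).symm
        rw [hQk, hδ, hε, hcN]
        ring
      rw [hbot, Submodule.mem_bot] at hmem
      exact hmem
    have hWtop : W = ⊤ := (hirr W hWinv).resolve_left hW0
    intro k hk
    obtain ⟨α, β, rfl⟩ := hdecomp k hk
    refine ⟨α ^ 2 + α * β * a + β ^ 2 * b, fun v => ?_⟩
    have hv : v ∈ W := by
      rw [hWtop]
      trivial
    exact (hWmem v).1 hv _ hk _ (hscal α β)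

end Cfsg.Agent.Lib.Helper47_OrthEven_EV24b
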