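/-
S5673 package OG3 (helper29's architecture; proved by helper7):
the standard odd-dimensional quadratic form is non-degenerate when `2 ≠ 0`.
-/
import Mathlib
import Cfsg.Prelude.Def_Classical
import Cfsg.Prelude.Def_GeometricClasses
import Cfsg.Agent.Lib.Helper44_StdForms

set_option autoImplicit false

namespace Cfsg.Agent.Lib.Helper7_OrthOdd_OG3

open Cfsg Cfsg.Geo Matrix Cfsg.Agent.Lib.Helper44_StdForms

variable {F : Type*} [Field F]

/-- the value of the polar form against a basis vector on the left -/
theorem polar_single_left (m : ℕ) (j : Unit ⊕ (Fin m ⊕ Fin m)) (v : Unit ⊕ (Fin m ⊕ Fin m) → F) :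
    QuadraticMap.polar (quadFormOdd m F) (Pi.single j 1) v =
      match j with
      | Sum.inl _ => 2 * v (Sum.inl ())
      | Sum.inr (Sum.inl i) => v (Sum.inr (Sum.inr i))
      | Sum.inr (Sum.inr i) => v (Sum.inr (Sum.inl i)) := by
  rw [polar_quadFormOdd]
  rcases j with j | (j | j)
  · simp [Pi.single_apply]
  · simp [Pi.single_apply]
  · simp [Pi.single_apply]

theorem polar_symm (m : ℕ) (x y : Unit ⊕ (Fin m ⊕ Fin m) → F) :
    QuadraticMap.polar (quadFormOdd m F) x y = QuadraticMap.polar (quadFormOdd m F) y x :=
  QuadraticMap.polar_comm _ _ _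

theorem polar_bilinear (m : ℕ) : IsBilinearForm (QuadraticMap.polar (quadFormOdd m F)) := by
  have hl : ∀ (x y v : Unit ⊕ (Fin m ⊕ Fin m) → F),
      QuadraticMap.polar (quadFormOdd m F) (x + y) v =
        QuadraticMap.polar (quadFormOdd m F) x v + QuadraticMap.polar (quadFormOdd m F) y v := by
    intro x y v
    simp only [polar_quadFormOdd, Pi.add_apply]
    rw [add_add_add_comm, ← Finset.sum_add_distrib]
    congr 1
    · ring
    · apply Finset.sum_congr rfl
      intro i _
      ring
  have hs : ∀ (c : F) (x v : Unit ⊕ (Fin m ⊕ Fin m) → F),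
      QuadraticMap.polar (quadFormOdd m F) (c • x) v = c * QuadraticMap.polar (quadFormOdd m F) x v := by
    intro c x v
    simp only [polar_quadFormOdd, Pi.smul_apply, smul_eq_mul]
    rw [mul_add, Finset.mul_sum]
    congr 1
    · ring
    · apply Finset.sum_congr rfl
      intro i _
      ring
  refine ⟨hl, hs, ?_, ?_⟩
  · intro v x y
    rw [polar_symm, hl, polar_symm m x v, polar_symm m y v]
  · intro c v x
    rw [polar_symm, hs, polar_symm m x v]

/-- glue G3: the standard odd-dimensional form is non-degenerate in odd characteristic -/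
theorem OG3 (m : ℕ) (h2 : (2 : F) ≠ 0) : IsNondegenerateQuadraticForm (quadFormOdd m F) := by
  refine ⟨?_, polar_bilinear m, ?_⟩
  · intro c v
    simp only [quadFormOdd, Pi.smul_apply, smul_eq_mul]
    rw [mul_add, Finset.mul_sum]
    congr 1
    · ring
    · apply Finset.sum_congr rfl
      intro i _
      ring
  · intro v hv
    have key : ∃ x, QuadraticMap.polar (quadFormOdd m F) x v ≠ 0 := by
      by_contra hcon
      push Not at hcon
      apply hv
      funext j
      rcases j with j | (j | j)
      · have h := hcon (Pi.single (Sum.inl ()) 1)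
        rw [polar_single_left] at h
        simpa [h2] using h
      · have h := hcon (Pi.single (Sum.inr (Sum.inr j)) 1)
        rw [polar_single_left] at h
        simpa using h
      · have h := hcon (Pi.single (Sum.inr (Sum.inl j)) 1)
        rw [polar_single_left] at h
        simpa using h
    refine ⟨key, ?_⟩
    obtain ⟨x, hx⟩ := key
    exact ⟨x, by rwa [polar_symm]⟩

end Cfsg.Agent.Lib.Helper7_OrthOdd_OG3
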