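/-
S5673 package OP2b (helper29's architecture; proved by helper7):
a group of isometries of the standard odd-dimensional quadratic form permuting an orthogonal frame of
pairwise isometric non-degenerate points lies, over a non-prime field, in a subfield group carrying
the form (class 5).
-/
import Mathlib
import Cfsg.Prelude.Def_Classical
import Cfsg.Prelude.Def_GeometricClasses
import Cfsg.Agent.Lib.Helper98_AschDefs
import Cfsg.Agent.Lib.Helper29_OrthOddDefs
import Cfsg.Agent.Lib.Helper44_StdForms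
import Cfsg.Agent.Lib.Helper35_Asch_PK11
import Cfsg.Agent.Lib.Helper7_OrthOdd_OG3

set_option autoImplicit false
set_option linter.unusedSectionVars false

namespace Cfsg.Agent.Lib.Helper7_OrthOdd_OP2b

open Cfsg Cfsg.Geo Matrix Cfsg.Agent.Lib.Helper98_AschDefs Cfsg.Agent.Lib.Helper29_OrthOddDefs
open scoped MatrixGroups

variable {F : Type*} [Field F]

section general

variable {ι : Type} [Fintype ι] [DecidableEq ι]

/-- the Gram matrix of a two-argument form in the standard basis -/
def gram (f : (ι → F) → (ι → F) → F) : Matrix ι ι F :=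
  Matrix.of fun i j => f (Pi.single i 1) (Pi.single j 1)

theorem ite_eq_single (i : ι) : (fun j => if i = j then (1 : F) else 0) = Pi.single i 1 := by
  funext j
  simp [Pi.single_apply, eq_comm]

/-- a bilinear form is given by its Gram matrix -/
theorem bil_eq_gram {f : (ι → F) → (ι → F) → F} (hb : IsBilinearForm f) (u v : ι → F) :
    f u v = u ⬝ᵥ (gram f *ᵥ v) := by
  let L : (ι → F) →ₗ[F] F :=
    { toFun := fun x => f x v
      map_add' := fun x y => hb.add_left x y v
      map_smul' := fun c x => by simpa using hb.smul_left c x v }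
  have h1 : f u v = ∑ i, u i • L (fun j => if i = j then 1 else 0) := LinearMap.pi_apply_eq_sum_univ L u
  rw [h1]
  simp only [dotProduct, Matrix.mulVec, smul_eq_mul]
  refine Finset.sum_congr rfl fun i _ => ?_
  congr 1
  let L2 : (ι → F) →ₗ[F] F :=
    { toFun := fun x => f (Pi.single i 1) x
      map_add' := fun x y => hb.add_right _ x y
      map_smul' := fun c x => by simpa using hb.smul_right c _ x }
  have h2 : L2 v = ∑ j, v j • L2 (fun k => if j = k then 1 else 0) := LinearMap.pi_apply_eq_sum_univ L2 v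
  show f (fun j => if i = j then 1 else 0) v = _
  rw [ite_eq_single]
  change L2 v = _
  rw [h2]
  refine Finset.sum_congr rfl fun j _ => ?_
  rw [ite_eq_single]
  simp only [smul_eq_mul, gram, Matrix.of_apply]
  exact mul_comm _ _

/-- change of basis for the Gram matrix -/
theorem bil_mulVec {f : (ι → F) → (ι → F) → F} (hb : IsBilinearForm f) (P : Matrix ι ι F) (u v : ι → F) :
    f (P *ᵥ u) (P *ᵥ v) = u ⬝ᵥ ((Pᵀ * gram f * P) *ᵥ v) := by
  rw [bil_eq_gram hb, ← Matrix.vecMul_transpose, ← Matrix.dotProduct_mulVec, Matrix.mulVec_mulVec,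
    Matrix.mulVec_mulVec, Matrix.mul_assoc]

theorem dot_smul_one (a : F) (u v : ι → F) :
    u ⬝ᵥ ((a • (1 : Matrix ι ι F)) *ᵥ v) = a * (u ⬝ᵥ v) := by
  rw [Matrix.smul_mulVec, Matrix.one_mulVec, dotProduct_smul, smul_eq_mul]

theorem polar_self {Q : (ι → F) → F} (hQ : IsNondegenerateQuadraticForm Q) (v : ι → F) :
    QuadraticMap.polar Q v v = 2 * Q v := by
  unfold QuadraticMap.polar
  rw [← two_smul F v, hQ.smul]
  ring

theorem quad_zero {Q : (ι → F) → F} (hQ : IsNondegenerateQuadraticForm Q) : Q 0 = 0 := by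
  have := hQ.smul 0 0
  simpa using this

/-- an orthogonal decomposition into isometric points gives an orthogonal frame of vectors of equal norm -/
theorem exists_frame {Q : (ι → F) → F} (hQ : IsNondegenerateQuadraticForm Q) {t : ℕ}
    (D : Fin t → Submodule F (ι → F)) (hD : IsOrthogonalMDecomposition Q 1 D) :
    ∃ (w : Fin t → (ι → F)) (c : F), c ≠ 0 ∧ (∀ i, w i ∈ D i) ∧ (∀ i, Q (w i) = c) ∧
      (∀ i, ∀ x ∈ D i, ∃ a : F, x = a • w i) := by
  have ht : 0 < t := lt_of_lt_of_le (by norm_num) hD.decomp.decomp.two_le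
  set i0 : Fin t := ⟨0, ht⟩ with hi0
  have hfr : Module.finrank F (D i0) = 1 := hD.decomp.decomp.finrank_eq i0
  obtain ⟨v0, hv0, hgen⟩ := finrank_eq_one_iff'.1 hfr
  choose e he using fun i => hD.isometric i0 i
  refine ⟨fun i => ((e i v0 : D i) : ι → F), Q (v0 : ι → F), ?_, fun i => (e i v0).2, fun i => he i v0, ?_⟩
  · -- the common norm is non-zero
    have hv0' : (v0 : ι → F) ≠ 0 := fun h => hv0 (Subtype.ext h)
    obtain ⟨⟨x, hx, hfx⟩, -⟩ := hD.decomp.nondegenerate i0 (v0 : ι → F) v0.2 hv0'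
    obtain ⟨a, ha⟩ := hgen ⟨x, hx⟩
    have hxa : x = a • (v0 : ι → F) := by
      have := congrArg (Subtype.val) ha
      simpa using this.symm
    rw [hxa, hQ.polar_bilinear.smul_left, polar_self hQ] at hfx
    intro h0
    apply hfx
    rw [h0]
    ring
  · intro i x hx
    obtain ⟨a, ha⟩ := hgen ((e i).symm ⟨x, hx⟩)
    refine ⟨a, ?_⟩
    have h1 : e i (a • v0) = ⟨x, hx⟩ := by rw [ha]; simp
    rw [map_smul] at h1
    have := congrArg (Subtype.val) h1
    simpa using this.symm

/-- the number of points of the frame is the dimension -/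
theorem card_frame {t : ℕ} (D : Fin t → Submodule F (ι → F)) (hD : IsMDecomposition 1 D)
    (w : Fin t → (ι → F)) (hw : ∀ i, w i ∈ D i) (hw0 : ∀ i, w i ≠ 0)
    (hgen : ∀ i, ∀ x ∈ D i, ∃ a : F, x = a • w i) : Fintype.card ι = t := by
  have hli : LinearIndependent F w := hD.indep.linearIndependent D hw hw0
  have hsp : ⊤ ≤ Submodule.span F (Set.range w) := by
    rw [Submodule.span_range_eq_iSup, ← hD.iSup_eq_top]
    apply iSup_mono
    intro i x hx
    obtain ⟨a, rfl⟩ := hgen i x hx
    exact Submodule.smul_mem _ _ (Submodule.mem_span_singleton_self _)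
  have h1 := Module.finrank_eq_card_basis (Module.Basis.mk hli hsp)
  rw [Module.finrank_fintype_fun_eq_card, Fintype.card_fin] at h1
  exact h1

/-- the matrix whose columns are the vectors of the frame -/
def frameMat {t : ℕ} (w : Fin t → (ι → F)) (σ : ι ≃ Fin t) : Matrix ι ι F :=
  Matrix.of fun x j => w (σ j) x

theorem frameMat_mulVec_single {t : ℕ} (w : Fin t → (ι → F)) (σ : ι ≃ Fin t) (j : ι) :
    frameMat w σ *ᵥ Pi.single j 1 = w (σ j) := by
  rw [Matrix.mulVec_single_one]
  funext x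
  simp [frameMat, Matrix.col_apply]

/-- the Gram matrix in the basis of an orthogonal frame of vectors of norm `c` is `2c` -/
theorem frameMat_gram {Q : (ι → F) → F} (hQ : IsNondegenerateQuadraticForm Q) {t : ℕ}
    (w : Fin t → (ι → F)) (σ : ι ≃ Fin t) (c : F) (hc : ∀ i, Q (w i) = c)
    (horth : ∀ i j, i ≠ j → QuadraticMap.polar Q (w i) (w j) = 0) :
    (frameMat w σ)ᵀ * gram (QuadraticMap.polar Q) * frameMat w σ = (2 * c) • (1 : Matrix ι ι F) := by
  ext j k
  have h := bil_mulVec hQ.polar_bilinear (frameMat w σ) (Pi.single j 1) (Pi.single k 1)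
  rw [frameMat_mulVec_single, frameMat_mulVec_single, Matrix.mulVec_single_one,
    single_one_dotProduct, Matrix.col_apply] at h
  rw [← h]
  by_cases hjk : j = k
  · subst hjk
    rw [polar_self hQ, hc]
    simp
  · rw [horth _ _ (fun h' => hjk (σ.injective h'))]
    simp [Matrix.one_apply, hjk]

end general

theorem two_ne_zero_of_odd [Fintype F] (hodd : Odd (Fintype.card F)) : (2 : F) ≠ 0 := by
  intro h2
  have h : ringChar F = 2 := CharP.ringChar_of_prime_eq_zero Nat.prime_two (by exact_mod_cast h2)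
  have := FiniteField.even_card_of_char_two h
  rw [Nat.odd_iff] at hodd
  omega

theorem bot_ne_top_of_not_prime [Fintype F] (hnp : ¬ (Fintype.card F).Prime) : (⊥ : Subfield F) ≠ ⊤ := by
  intro h
  obtain ⟨p, hp⟩ := CharP.exists F
  have : Fact p.Prime := ⟨CharP.char_is_prime F p⟩
  have h1 := Subfield.card_bot F p
  rw [h] at h1
  have h2 : Nat.card (⊤ : Subfield F) = Nat.card F := Nat.card_congr Subfield.topEquiv.toEquiv
  rw [h2, Nat.card_eq_fintype_card] at h1
  apply hnp
  rw [h1]
  exact Fact.out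

theorem card_OI (m : ℕ) : Fintype.card (OI m) = 2 * m + 1 := by
  simp [OI]
  ring

/-- the scaling factor: the discriminant of the standard form lies in the prime field -/
theorem exists_scale (m : ℕ) (h2 : (2 : F) ≠ 0) (P₀ : Matrix (OI m) (OI m) F) (c : F) (hc : c ≠ 0)
    (hgram : P₀ᵀ * gram (QuadraticMap.polar (quadFormOdd m F)) * P₀ = (2 * c) • (1 : Matrix (OI m) (OI m) F)) :
    P₀.det ≠ 0 ∧ ∃ μ : F, μ ≠ 0 ∧ μ ^ 2 * c = (-1) ^ m := by
  have hdet := congrArg Matrix.det hgram
  have hG : (gram (QuadraticMap.polar (quadFormOdd m F))).det = 2 * (-1) ^ m :=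
    Helper44_StdForms.det_gram_quadFormOdd
  rw [Matrix.det_mul, Matrix.det_mul, Matrix.det_transpose, hG, Matrix.det_smul, Matrix.det_one, card_OI,
    mul_one] at hdet
  have h2c : (2 * c) ≠ 0 := mul_ne_zero h2 hc
  have hd : P₀.det ≠ 0 := by
    intro h0
    rw [h0] at hdet
    simp only [zero_mul] at hdet
    exact pow_ne_zero _ h2c hdet.symm
  refine ⟨hd, (2 * c) ^ m / P₀.det, div_ne_zero (pow_ne_zero _ h2c) hd, ?_⟩
  rw [div_pow, div_mul_eq_mul_div, div_eq_iff (pow_ne_zero 2 hd)]
  apply mul_left_cancel₀ h2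
  linear_combination (-1 : F) * hdet

/-- OP2b: an orthogonal frame of isometric points over a non-prime field lies in a subfield group (class 5) -/
theorem OP2b [Fintype F] (hodd : Odd (Fintype.card F)) (m : ℕ) (hm : 3 ≤ m) (H : Subgroup (GL (OI m) F))
    (hHI : H ≤ isometryGroup F (quadFormOdd m F))
    (t : ℕ) (D : Fin t → Submodule F (OI m → F)) (hD : IsOrthogonalMDecomposition (quadFormOdd m F) 1 D)
    (hHD : H ≤ decompositionStabilizer D) (hnp : ¬ (Fintype.card F).Prime) :
    InOClass m H := by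
  have h2 : (2 : F) ≠ 0 := two_ne_zero_of_odd hodd
  have hQ : IsNondegenerateQuadraticForm (quadFormOdd m F) := Helper7_OrthOdd_OG3.OG3 m h2
  obtain ⟨w, c, hc0, hwD, hwc, hgen⟩ := exists_frame hQ D hD
  have hw0 : ∀ i, w i ≠ 0 := fun i h => hc0 (by rw [← hwc i, h, quad_zero hQ])
  have hcard := card_frame D hD.decomp.decomp w hwD hw0 hgen
  have horth : ∀ i j, i ≠ j → QuadraticMap.polar (quadFormOdd m F) (w i) (w j) = 0 :=
    fun i j hij => hD.decomp.orthogonal i j hij _ (hwD i) _ (hwD j)
  let σ : OI m ≃ Fin t := Fintype.equivOfCardEq (by rw [hcard, Fintype.card_fin])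
  have hgram := frameMat_gram hQ w σ c hwc horth
  obtain ⟨hdet0, μ, hμ0, hμ⟩ := exists_scale m h2 (frameMat w σ) c hc0 hgram
  obtain ⟨F₁, r, hr, -, hcardF⟩ :=
    Helper35_Asch_PK11.exists_prime_index_subfield (⊥ : Subfield F) (bot_ne_top_of_not_prime hnp)
  -- the change of basis
  have hdetP : (μ • frameMat w σ).det ≠ 0 := by
    rw [Matrix.det_smul]
    exact mul_ne_zero (pow_ne_zero _ hμ0) hdet0
  set P : GL (OI m) F := Matrix.GeneralLinearGroup.mkOfDetNeZero (μ • frameMat w σ) hdetP with hP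
  have hPval : (P : Matrix (OI m) (OI m) F) = μ • frameMat w σ := rfl
  have hPcol : ∀ j, (P : Matrix (OI m) (OI m) F) *ᵥ Pi.single j 1 = μ • w (σ j) := by
    intro j
    rw [hPval, Matrix.smul_mulVec, frameMat_mulVec_single]
  have hPgram : (P : Matrix (OI m) (OI m) F)ᵀ * gram (QuadraticMap.polar (quadFormOdd m F)) *
      (P : Matrix (OI m) (OI m) F) = (2 * (-1) ^ m : F) • (1 : Matrix (OI m) (OI m) F) := by
    rw [hPval, Matrix.transpose_smul, Matrix.smul_mul, Matrix.smul_mul, Matrix.mul_smul, hgram, smul_smul,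
      smul_smul]
    have hs : μ * μ * (2 * c) = 2 * (-1) ^ m := by linear_combination (2 : F) * hμ
    rw [hs]
  -- the rational structure carries the form
  have hrat : IsQuadFormRationalStructure (quadFormOdd m F) F₁ P := by
    intro u hu
    have h1 := bil_mulVec hQ.polar_bilinear (P : Matrix (OI m) (OI m) F) u u
    rw [hPgram, polar_self hQ, dot_smul_one, mul_assoc] at h1
    have h3 := mul_left_cancel₀ h2 h1
    rw [h3]
    refine F₁.mul_mem (pow_mem (neg_mem (one_mem _)) m) ?_
    unfold dotProduct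
    exact sum_mem fun i _ => F₁.mul_mem (hu i) (hu i)
  -- elements of `H` are signed permutations of the frame
  have key : ∀ h ∈ H, ∃ (π : Equiv.Perm (Fin t)) (a : Fin t → F), (∀ i, a i = 1 ∨ a i = -1) ∧
      ∀ i, (h : Matrix (OI m) (OI m) F) *ᵥ w i = a i • w (π i) := by
    intro h hh
    obtain ⟨π, hπ⟩ := hHD hh
    have hex : ∀ i, ∃ a : F, (a = 1 ∨ a = -1) ∧ (h : Matrix (OI m) (OI m) F) *ᵥ w i = a • w (π i) := by
      intro i
      have hmem : (h : Matrix (OI m) (OI m) F) *ᵥ w i ∈ D (π i) := by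
        rw [← hπ i]
        exact Submodule.mem_map.2 ⟨w i, hwD i, Matrix.toLin'_apply _ _⟩
      obtain ⟨a, ha⟩ := hgen (π i) _ hmem
      refine ⟨a, ?_, ha⟩
      have hiso := (mem_isometryGroup_iff (quadFormOdd m F) h).1 (hHI hh) (w i)
      rw [ha, hQ.smul, hwc, hwc] at hiso
      have h1 : (a - 1) * (a + 1) = 0 := by
        have h4 : (a ^ 2 - 1) * c = 0 := by linear_combination hiso
        rcases mul_eq_zero.1 h4 with h5 | h5
        · linear_combination h5
        · exact absurd h5 hc0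
      rcases mul_eq_zero.1 h1 with h5 | h5
      · left; linear_combination h5
      · right; linear_combination h5
    choose a ha using hex
    exact ⟨π, a, fun i => (ha i).1, fun i => (ha i).2⟩
  -- the entries of `P⁻¹ h P` lie in the prime field
  have hent : ∀ h ∈ H, ∀ k j, ((P⁻¹ * h * P : GL (OI m) F) : Matrix (OI m) (OI m) F) k j ∈ F₁ := by
    intro h hh k j
    obtain ⟨π, a, ha1, ha⟩ := key h hh
    have hcolj : ((P⁻¹ * h * P : GL (OI m) F) : Matrix (OI m) (OI m) F) *ᵥ Pi.single j 1 =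
        a (σ j) • Pi.single (σ.symm (π (σ j))) 1 := by
      have h1 : (h : Matrix (OI m) (OI m) F) *ᵥ ((P : Matrix (OI m) (OI m) F) *ᵥ Pi.single j 1) =
          (P : Matrix (OI m) (OI m) F) *ᵥ (a (σ j) • Pi.single (σ.symm (π (σ j))) 1) := by
        rw [hPcol, Matrix.mulVec_smul, ha, Matrix.mulVec_smul, hPcol, Equiv.apply_symm_apply, smul_comm]
      rw [Units.val_mul, Units.val_mul, ← Matrix.mulVec_mulVec, ← Matrix.mulVec_mulVec, h1,
        Matrix.mulVec_mulVec, ← Units.val_mul, inv_mul_cancel, Units.val_one, Matrix.one_mulVec]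
    have hkj : ((P⁻¹ * h * P : GL (OI m) F) : Matrix (OI m) (OI m) F) k j =
        (((P⁻¹ * h * P : GL (OI m) F) : Matrix (OI m) (OI m) F) *ᵥ Pi.single j 1) k := by
      rw [Matrix.mulVec_single_one, Matrix.col_apply]
    rw [hkj, hcolj, Pi.smul_apply, smul_eq_mul]
    refine F₁.mul_mem ?_ ?_
    · rcases ha1 (σ j) with h5 | h5 <;> rw [h5]
      · exact one_mem _
      · exact neg_mem (one_mem _)
    · rw [Pi.single_apply]
      split_ifs
      · exact one_mem _
      · exact zero_mem _
  have hsub : H ≤ subfieldSubgroup F₁ P := by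
    intro h hh
    have hg : P⁻¹ * h * P ∈
        (Matrix.GeneralLinearGroup.map (F₁.subtype : F₁ →+* F)).range ⊔ scalars (OI m) F := by
      apply Helper35_Asch_PK11.mem_sup_of_entries
      intro i j k l
      have hinv : (P⁻¹ * h * P)⁻¹ = P⁻¹ * h⁻¹ * P := by group
      rw [hinv]
      exact F₁.mul_mem (hent h hh k i) (hent h⁻¹ (H.inv_mem hh) j l)
    refine Subgroup.mem_map.2 ⟨P⁻¹ * h * P, hg, ?_⟩
    simp only [MulEquiv.coe_toMonoidHom, MulAut.conj_apply]
    group
  refine ⟨subfieldSubgroup F₁ P ⊓ isometryGroup F (quadFormOdd m F), ?_, le_inf hsub hHI⟩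
  exact Or.inr (Or.inr (Or.inr (Or.inr (Or.inr (Or.inr (Or.inl ⟨F₁, r, P, hr, hcardF, hrat, rfl⟩))))))

end Cfsg.Agent.Lib.Helper7_OrthOdd_OP2b
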