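/-
EVEN batch 3, package EV29 (helper22's architecture; proved by helper55 on top of helper7's frame calculus
`Helper7_OrthOdd_OP2b`, which is stated for an arbitrary non-degenerate quadratic form):
over a field that is not a prime field the isometries preserving an isometric orthogonal decomposition into
lines lie in a subfield group whose rational structure carries a multiple of `Q`.
-/
import Mathlib
import Cfsg.Agent.Lib.Helper98_AschDefs
import Cfsg.Agent.Lib.Helper98_AschCliff
import Cfsg.Agent.Lib.Helper23_FormDefs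
import Cfsg.Agent.Lib.Helper29_Asch_PKG0
import Cfsg.Agent.Lib.Helper29_Asch_PKP1
import Cfsg.Agent.Lib.Helper29_OrthOdd_Glue
import Cfsg.Agent.Lib.Helper7_OrthOdd_OG2
import Cfsg.Agent.Lib.Helper30_AschMax
import Cfsg.Agent.Lib.Helper35_Asch_PK11
import Cfsg.Agent.Lib.Helper29_OrthOddDefs
import Cfsg.Agent.Lib.Helper7_OrthOdd_OP2b

set_option autoImplicit false

namespace Cfsg.Agent.Lib.Helper55_OrthEven_EV29

open Cfsg Cfsg.Geo Matrix Cfsg.Agent.Lib.Helper98_AschDefs Cfsg.Agent.Lib.Helper23_FormDefs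
open Cfsg.Agent.Lib.Helper7_OrthOdd_OP2b Cfsg.Agent.Lib.Helper29_OrthOddDefs
open scoped Kronecker MatrixGroups

variable {ι : Type} [Fintype ι] [DecidableEq ι] {F : Type*} [Field F]

/-- EV29: over a field that is not a prime field the isometries preserving an isometric orthogonal decomposition into
lines lie in a subfield group whose rational structure carries a multiple of `Q` -/
theorem EV29 [Fintype F] (Q : (ι → F) → F) (hQ : IsNondegenerateQuadraticForm Q)
    (hq : ¬ (Fintype.card F).Prime) (t : ℕ) (D : Fin t → Submodule F (ι → F))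
    (hD : IsOrthogonalMDecomposition Q 1 D) :
    ∃ (F₁ : Subfield F) (r : ℕ) (P : GL ι F) (ζ : F), r.Prime ∧ Fintype.card F = Nat.card F₁ ^ r ∧ ζ ≠ 0 ∧
      IsQuadFormRationalStructure (fun v : ι → F => ζ * Q v) F₁ P ∧
      decompositionStabilizer D ⊓ isometryGroup F Q ≤ subfieldSubgroup F₁ P := by
  classical
  obtain ⟨w, c, hc0, hwD, hwc, hgen⟩ := exists_frame hQ D hD
  have hw0 : ∀ i, w i ≠ 0 := fun i h => hc0 (by rw [← hwc i, h, quad_zero hQ])
  have hcard := card_frame D hD.decomp.decomp w hwD hw0 hgen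
  have horth : ∀ i j, i ≠ j → QuadraticMap.polar Q (w i) (w j) = 0 :=
    fun i j hij => hD.decomp.orthogonal i j hij _ (hwD i) _ (hwD j)
  let σ : ι ≃ Fin t := Fintype.equivOfCardEq (by rw [hcard, Fintype.card_fin])
  have hgram := frameMat_gram hQ w σ c hwc horth
  -- `2 ≠ 0`: a line is non-degenerate
  have ht : 0 < t := lt_of_lt_of_le (by norm_num) hD.decomp.decomp.two_le
  have h2 : (2 : F) ≠ 0 := by
    intro h2
    obtain ⟨⟨x, hx, hfx⟩, -⟩ := hD.decomp.nondegenerate ⟨0, ht⟩ (w ⟨0, ht⟩) (hwD _) (hw0 _)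
    obtain ⟨a, rfl⟩ := hgen ⟨0, ht⟩ x hx
    apply hfx
    rw [hQ.polar_bilinear.smul_left, polar_self hQ, h2, zero_mul, mul_zero]
  have h2c : (2 * c) ≠ 0 := mul_ne_zero h2 hc0
  have hdet0 : (frameMat w σ).det ≠ 0 := by
    intro h0
    have hdet := congrArg Matrix.det hgram
    rw [Matrix.det_mul, Matrix.det_mul, Matrix.det_transpose, h0, Matrix.det_smul, Matrix.det_one] at hdet
    simp only [zero_mul, mul_one] at hdet
    exact pow_ne_zero _ h2c hdet.symm
  obtain ⟨F₁, r, hr, -, hcardF⟩ :=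
    Helper35_Asch_PK11.exists_prime_index_subfield (⊥ : Subfield F) (bot_ne_top_of_not_prime hq)
  set P : GL ι F := Matrix.GeneralLinearGroup.mkOfDetNeZero (frameMat w σ) hdet0 with hP
  have hPval : (P : Matrix ι ι F) = frameMat w σ := rfl
  have hPcol : ∀ j, (P : Matrix ι ι F) *ᵥ Pi.single j 1 = w (σ j) := by
    intro j
    rw [hPval, frameMat_mulVec_single]
  -- the rational structure carries `c⁻¹ Q`
  have hrat : IsQuadFormRationalStructure (fun v : ι → F => c⁻¹ * Q v) F₁ P := by
    intro u hu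
    have h1 := bil_mulVec hQ.polar_bilinear (P : Matrix ι ι F) u u
    rw [hPval, hgram, polar_self hQ, dot_smul_one, mul_assoc] at h1
    have h3 : Q (frameMat w σ *ᵥ u) = c * (u ⬝ᵥ u) := mul_left_cancel₀ h2 h1
    show c⁻¹ * Q ((P : Matrix ι ι F) *ᵥ u) ∈ F₁
    rw [hPval, h3, ← mul_assoc, inv_mul_cancel₀ hc0, one_mul]
    unfold dotProduct
    exact sum_mem fun i _ => F₁.mul_mem (hu i) (hu i)
  -- elements of the group are signed permutations of the frame
  have key : ∀ h ∈ decompositionStabilizer D ⊓ isometryGroup F Q,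
      ∃ (π : Equiv.Perm (Fin t)) (a : Fin t → F), (∀ i, a i = 1 ∨ a i = -1) ∧
      ∀ i, (h : Matrix ι ι F) *ᵥ w i = a i • w (π i) := by
    intro h hh
    obtain ⟨π, hπ⟩ := hh.1
    have hex : ∀ i, ∃ a : F, (a = 1 ∨ a = -1) ∧ (h : Matrix ι ι F) *ᵥ w i = a • w (π i) := by
      intro i
      have hmem : (h : Matrix ι ι F) *ᵥ w i ∈ D (π i) := by
        rw [← hπ i]
        exact Submodule.mem_map.2 ⟨w i, hwD i, Matrix.toLin'_apply _ _⟩
      obtain ⟨a, ha⟩ := hgen (π i) _ hmem
      refine ⟨a, ?_, ha⟩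
      have hiso := (mem_isometryGroup_iff Q h).1 hh.2 (w i)
      rw [ha, hQ.smul, hwc, hwc] at hiso
      have h1 : (a - 1) * (a + 1) = 0 := by
        have h4 : (a ^ 2 - 1) * c = 0 := by linear_combination hiso
        rcases mul_eq_zero.1 h4 with h5 | h5
        · linear_combination h5
        · exact absurd h5 hc0
      rcases mul_eq_zero.1 h1 with h5 | h5
      · left; linear_combination h5
      · right; linear_combination h5
    choose a ha using hex
    exact ⟨π, a, fun i => (ha i).1, fun i => (ha i).2⟩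
  -- the entries of `P⁻¹ h P` lie in the prime field
  have hent : ∀ h ∈ decompositionStabilizer D ⊓ isometryGroup F Q, ∀ k j,
      ((P⁻¹ * h * P : GL ι F) : Matrix ι ι F) k j ∈ F₁ := by
    intro h hh k j
    obtain ⟨π, a, ha1, ha⟩ := key h hh
    have hcolj : ((P⁻¹ * h * P : GL ι F) : Matrix ι ι F) *ᵥ Pi.single j 1 =
        a (σ j) • Pi.single (σ.symm (π (σ j))) 1 := by
      have h1 : (h : Matrix ι ι F) *ᵥ ((P : Matrix ι ι F) *ᵥ Pi.single j 1) =
          (P : Matrix ι ι F) *ᵥ (a (σ j) • Pi.single (σ.symm (π (σ j))) 1) := by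
        rw [hPcol, ha, Matrix.mulVec_smul, hPcol, Equiv.apply_symm_apply]
      rw [Units.val_mul, Units.val_mul, ← Matrix.mulVec_mulVec, ← Matrix.mulVec_mulVec, h1,
        Matrix.mulVec_mulVec, ← Units.val_mul, inv_mul_cancel, Units.val_one, Matrix.one_mulVec]
    have hkj : ((P⁻¹ * h * P : GL ι F) : Matrix ι ι F) k j =
        (((P⁻¹ * h * P : GL ι F) : Matrix ι ι F) *ᵥ Pi.single j 1) k := by
      rw [Matrix.mulVec_single_one, Matrix.col_apply]
    rw [hkj, hcolj, Pi.smul_apply, smul_eq_mul]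
    refine F₁.mul_mem ?_ ?_
    · rcases ha1 (σ j) with h5 | h5 <;> rw [h5]
      · exact one_mem _
      · exact neg_mem (one_mem _)
    · rw [Pi.single_apply]
      split_ifs
      · exact one_mem _
      · exact zero_mem _
  have hsub : decompositionStabilizer D ⊓ isometryGroup F Q ≤ subfieldSubgroup F₁ P := by
    intro h hh
    have hg : P⁻¹ * h * P ∈
        (Matrix.GeneralLinearGroup.map (F₁.subtype : F₁ →+* F)).range ⊔ scalars ι F := by
      apply Helper35_Asch_PK11.mem_sup_of_entries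
      intro i j k l
      have hinv : (P⁻¹ * h * P)⁻¹ = P⁻¹ * h⁻¹ * P := by group
      rw [hinv]
      exact F₁.mul_mem (hent h hh k i) (hent h⁻¹ (Subgroup.inv_mem _ hh) j l)
    refine Subgroup.mem_map.2 ⟨P⁻¹ * h * P, hg, ?_⟩
    simp only [MulEquiv.coe_toMonoidHom, MulAut.conj_apply]
    group
  exact ⟨F₁, r, P, c⁻¹, hr, hcardF, inv_ne_zero hc0, hrat, hsub⟩

end Cfsg.Agent.Lib.Helper55_OrthEven_EV29
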