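import Mathlib
import Cfsg.Agent.Lib.Helper22_OrthEven_Irr
import Cfsg.Agent.Lib.Helper22_OrthEven_Row12
import Cfsg.Agent.Lib.Helper11_OrthEven_EV21
import Cfsg.Agent.Lib.Helper43_OrthEven_EV22
import Cfsg.Agent.Lib.Helper47_OrthEven_EV24b
import Cfsg.Agent.Lib.Helper34_OrthEven_EV26
import Cfsg.Agent.Lib.Helper43_OrthEven_EV27
import Cfsg.Agent.Lib.Helper55_OrthEven_EV29

/-!
# The row `Ω₁₀⁻(q)` of the maximal subgroup tables (helper22)

`S5850_of`: the row, with the two packages EV24a (characteristic 2: no self-adjoint subfield of degree 2 in dimension 10)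
and EV30 (subfields of degree 5) taken as hypotheses.
-/

set_option autoImplicit false

open Cfsg Cfsg.Geo Matrix Cfsg.Agent.Lib.Helper98_AschDefs Cfsg.Agent.Lib.Helper23_FormDefs
open scoped Kronecker MatrixGroups

namespace Cfsg.Agent.Lib.Helper22_OrthEven_Row10

open Cfsg.Agent.Lib.Helper22_OrthEven_Basic Cfsg.Agent.Lib.Helper22_OrthEven_Core
  Cfsg.Agent.Lib.Helper22_OrthEven_Irr Cfsg.Agent.Lib.Helper22_OrthEven_Row12

variable {ι : Type} [Fintype ι] [DecidableEq ι] {F : Type*} [Field F]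

omit [Fintype ι] [DecidableEq ι] in
lemma isometric_refl (Q : (ι → F) → F) (W : Submodule F (ι → F)) : AreIsometricFor Q W W :=
  ⟨LinearEquiv.refl F W, fun _ => rfl⟩

omit [Fintype ι] [DecidableEq ι] in
lemma isometric_symm (Q : (ι → F) → F) {W W' : Submodule F (ι → F)} (h : AreIsometricFor Q W W') :
    AreIsometricFor Q W' W := by
  obtain ⟨e, he⟩ := h
  refine ⟨e.symm, fun w => ?_⟩
  have := he (e.symm w)
  rw [LinearEquiv.apply_symm_apply] at this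
  exact this.symm

/-- two complementary, mutually orthogonal non-degenerate subspaces of the same dimension form a non-degenerate
decomposition, stabilised by whatever stabilises both -/
lemma two_decomp (f : (ι → F) → (ι → F) → F) (k : ℕ) (hk : 0 < k) (W W' : Submodule F (ι → F))
    (hinf : W ⊓ W' = ⊥) (hsup : W ⊔ W' = ⊤) (hW : IsNondegenerateOn f W) (hW' : IsNondegenerateOn f W')
    (ho : AreOrthogonalFor f W W') (ho' : AreOrthogonalFor f W' W)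
    (hd : Module.finrank F W = k) (hd' : Module.finrank F W' = k) :
    IsNondegenerateMDecomposition f k ![W, W'] ∧
      subspaceStabilizer W ⊓ subspaceStabilizer W' ≤ decompositionStabilizer ![W, W'] := by
  refine ⟨⟨⟨le_rfl, hk, ?_, ?_, ?_⟩, ?_, ?_⟩, ?_⟩
  · intro i
    fin_cases i
    · exact hd
    · exact hd'
  · rw [iSupIndep_pair (i := (0 : Fin 2)) (j := 1) (by decide) (by intro k; fin_cases k <;> simp)]
    exact disjoint_iff.mpr hinf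
  · rw [← hsup]
    apply le_antisymm
    · apply iSup_le
      intro i
      fin_cases i
      · exact le_sup_left
      · exact le_sup_right
    · exact sup_le (le_iSup (![W, W']) 0) (le_iSup (![W, W']) 1)
  · intro i
    fin_cases i
    · exact hW
    · exact hW'
  · intro i j hij
    fin_cases i <;> fin_cases j
    · exact absurd rfl hij
    · exact ho
    · exact ho'
    · exact absurd rfl hij
  · intro g hg
    refine ⟨1, fun i => ?_⟩
    have key : ∀ U : Submodule F (ι → F), g ∈ subspaceStabilizer U →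
        U.map (Matrix.toLin' (g : Matrix ι ι F)) = U := by
      intro U hU
      rw [mem_subspaceStabilizer_iff] at hU
      ext v
      constructor
      · rintro ⟨u, hu, rfl⟩
        rw [Matrix.toLin'_apply]
        exact (hU u).mp hu
      · intro hv
        refine ⟨((g⁻¹ : GL ι F) : Matrix ι ι F) *ᵥ v, ?_, ?_⟩
        · rw [SetLike.mem_coe, hU, Matrix.mulVec_mulVec, ← Units.val_mul, mul_inv_cancel, Units.val_one,
            Matrix.one_mulVec]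
          exact hv
        · rw [Matrix.toLin'_apply, Matrix.mulVec_mulVec, ← Units.val_mul, mul_inv_cancel, Units.val_one,
            Matrix.one_mulVec]
    fin_cases i
    · exact key W hg.1
    · exact key W' hg.2


/-- odd cardinality: `q ≡ 1` or `3 mod 4` -/
lemma mod_four_of_odd {q : ℕ} (h : Odd q) : q % 4 = 1 ∨ q % 4 = 3 := by
  obtain ⟨j, hj⟩ := h
  omega

/-- the conclusion of the row `Ω₁₀⁻(q)` -/
def Goal10 [Fintype F] (Q : (Fin 10 → F) → F) (H : Subgroup (Matrix.GeneralLinearGroup (Fin 10) F)) : Prop :=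
    (∃ W : Submodule F (Fin 10 → F), W ≠ ⊥ ∧ Cfsg.Geo.IsTotallySingularQuad Q W ∧ H = Cfsg.Geo.subspaceStabilizer W ⊓ Cfsg.Geo.omegaGL Q) ∨
    (Odd (Fintype.card F) ∧ ∃ W : Submodule F (Fin 10 → F), W ≠ ⊥ ∧ W ≠ ⊤ ∧ Odd (Module.finrank F W) ∧ 2 * Module.finrank F W ≠ 10 ∧ Cfsg.Geo.IsNondegenerateOn (QuadraticMap.polar Q) W ∧ H = Cfsg.Geo.subspaceStabilizer W ⊓ Cfsg.Geo.omegaGL Q) ∨
    (∃ W : Submodule F (Fin 10 → F), Module.finrank F W = 2 ∧ Cfsg.Geo.IsNondegenerateOn (QuadraticMap.polar Q) W ∧ ¬ Cfsg.Geo.IsPlusTypeOn Q W ∧ H = Cfsg.Geo.subspaceStabilizer W ⊓ Cfsg.Geo.omegaGL Q) ∨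
    (4 ≤ Fintype.card F ∧ ∃ W : Submodule F (Fin 10 → F), Module.finrank F W = 2 ∧ Cfsg.Geo.IsNondegenerateOn (QuadraticMap.polar Q) W ∧ Cfsg.Geo.IsPlusTypeOn Q W ∧ H = Cfsg.Geo.subspaceStabilizer W ⊓ Cfsg.Geo.omegaGL Q) ∨
    (∃ W : Submodule F (Fin 10 → F), Module.finrank F W = 4 ∧ Cfsg.Geo.IsNondegenerateOn (QuadraticMap.polar Q) W ∧ H = Cfsg.Geo.subspaceStabilizer W ⊓ Cfsg.Geo.omegaGL Q) ∨
    (¬ Odd (Fintype.card F) ∧ ∃ v : (Fin 10 → F), Q v ≠ 0 ∧ H = Cfsg.Geo.subspaceStabilizer (Submodule.span F {v}) ⊓ Cfsg.Geo.omegaGL Q) ∨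
    ((∃ p : ℕ, p.Prime ∧ Fintype.card F = p ∧ (p % 4 = 3)) ∧ ∃ D : Fin 10 → Submodule F (Fin 10 → F), Cfsg.Geo.IsOrthogonalMDecomposition Q 1 D ∧ H = Cfsg.Geo.decompositionStabilizer D ⊓ Cfsg.Geo.omegaGL Q) ∨
    (Fintype.card F ≠ 3 ∧ ∃ D : Fin 5 → Submodule F (Fin 10 → F), Cfsg.Geo.IsOrthogonalMDecomposition Q 2 D ∧ H = Cfsg.Geo.decompositionStabilizer D ⊓ Cfsg.Geo.omegaGL Q) ∨
    (Fintype.card F % 4 = 3 ∧ ∃ D : Fin 2 → Submodule F (Fin 10 → F), Cfsg.Geo.IsOrthogonalMDecomposition Q 5 D ∧ H = Cfsg.Geo.decompositionStabilizer D ⊓ Cfsg.Geo.omegaGL Q) ∨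
    (Fintype.card F % 4 = 1 ∧ ∃ D : Fin 2 → Submodule F (Fin 10 → F), Cfsg.Geo.IsNondegenerateMDecomposition (QuadraticMap.polar Q) 5 D ∧ ¬ Cfsg.Geo.AreIsometricFor Q (D 0) (D 1) ∧ H = Cfsg.Geo.decompositionStabilizer D ⊓ Cfsg.Geo.omegaGL Q) ∨
    (Odd (Fintype.card F) ∧ ∃ K : Subalgebra F (Matrix (Fin 10) (Fin 10) F), Cfsg.Geo.IsFieldSubalgebra 2 K ∧ Cfsg.Geo.IsSelfAdjointFor (QuadraticMap.polar Q) K ∧ H = Cfsg.Geo.subalgebraNormalizer K ⊓ Cfsg.Geo.omegaGL Q) ∨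
    (∃ K : Subalgebra F (Matrix (Fin 10) (Fin 10) F), Cfsg.Geo.IsFieldSubalgebra 2 K ∧ Cfsg.Geo.IsAdjointClosedFor (QuadraticMap.polar Q) K ∧ ¬ Cfsg.Geo.IsSelfAdjointFor (QuadraticMap.polar Q) K ∧ (∀ k ∈ K, ∃ c : F, ∀ v : (Fin 10 → F), Q (Matrix.mulVec k v) = c * Q v) ∧ H = Cfsg.Geo.subalgebraNormalizer K ⊓ Cfsg.Geo.omegaGL Q) ∨
    (∃ (F₀ : Subfield F) (r : ℕ) (P : Matrix.GeneralLinearGroup (Fin 10) F) (ζ : F), r.Prime ∧ Odd r ∧ Fintype.card F = Nat.card F₀ ^ r ∧ ζ ≠ 0 ∧ Cfsg.Geo.IsQuadFormRationalStructure (fun v : Fin 10 → F => ζ * Q v) F₀ P ∧ H = Cfsg.Geo.subfieldSubgroup F₀ P ⊓ Cfsg.Geo.omegaGL Q) ∨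
    Cfsg.Geo.InOrthogonalResidualClass H

/-- the row `Ω₁₀⁻(q)`, from the packages EV24a and EV30 -/
theorem S5850_of [Fintype F] (Q : (Fin 10 → F) → F)
    (hQ : Cfsg.Geo.IsNondegenerateQuadraticForm Q) (hminus : ¬ Cfsg.Geo.IsPlusTypeOn Q ⊤)
    (H : Subgroup (Matrix.GeneralLinearGroup (Fin 10) F))
    (hH : Cfsg.Geo.IsMaximalIn (Cfsg.Geo.omegaGL Q) H)
    (h24a : (2 : F) = 0 → ∀ K : Subalgebra F (Matrix (Fin 10) (Fin 10) F), IsFieldSubalgebra 2 K →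
      IsSelfAdjointFor (QuadraticMap.polar Q) K → 4 ∣ Fintype.card (Fin 10))
    (h30 : ∀ K : Subalgebra F (Matrix (Fin 10) (Fin 10) F), IsFieldSubalgebra 5 K →
      IsAdjointClosedFor (QuadraticMap.polar Q) K →
      ∃ K₂ : Subalgebra F (Matrix (Fin 10) (Fin 10) F), IsFieldSubalgebra 2 K₂ ∧
        IsAdjointClosedFor (QuadraticMap.polar Q) K₂ ∧ ¬ IsSelfAdjointFor (QuadraticMap.polar Q) K₂ ∧
        (∀ k ∈ K₂, ∃ c : F, ∀ v : Fin 10 → F, Q (k *ᵥ v) = c * Q v) ∧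
        subalgebraNormalizer K ⊓ isometryGroup F Q ≤ subalgebraNormalizer K₂) :
    (∃ W : Submodule F (Fin 10 → F), W ≠ ⊥ ∧ Cfsg.Geo.IsTotallySingularQuad Q W ∧ H = Cfsg.Geo.subspaceStabilizer W ⊓ Cfsg.Geo.omegaGL Q) ∨
    (Odd (Fintype.card F) ∧ ∃ W : Submodule F (Fin 10 → F), W ≠ ⊥ ∧ W ≠ ⊤ ∧ Odd (Module.finrank F W) ∧ 2 * Module.finrank F W ≠ 10 ∧ Cfsg.Geo.IsNondegenerateOn (QuadraticMap.polar Q) W ∧ H = Cfsg.Geo.subspaceStabilizer W ⊓ Cfsg.Geo.omegaGL Q) ∨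
    (∃ W : Submodule F (Fin 10 → F), Module.finrank F W = 2 ∧ Cfsg.Geo.IsNondegenerateOn (QuadraticMap.polar Q) W ∧ ¬ Cfsg.Geo.IsPlusTypeOn Q W ∧ H = Cfsg.Geo.subspaceStabilizer W ⊓ Cfsg.Geo.omegaGL Q) ∨
    (4 ≤ Fintype.card F ∧ ∃ W : Submodule F (Fin 10 → F), Module.finrank F W = 2 ∧ Cfsg.Geo.IsNondegenerateOn (QuadraticMap.polar Q) W ∧ Cfsg.Geo.IsPlusTypeOn Q W ∧ H = Cfsg.Geo.subspaceStabilizer W ⊓ Cfsg.Geo.omegaGL Q) ∨
    (∃ W : Submodule F (Fin 10 → F), Module.finrank F W = 4 ∧ Cfsg.Geo.IsNondegenerateOn (QuadraticMap.polar Q) W ∧ H = Cfsg.Geo.subspaceStabilizer W ⊓ Cfsg.Geo.omegaGL Q) ∨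
    (¬ Odd (Fintype.card F) ∧ ∃ v : (Fin 10 → F), Q v ≠ 0 ∧ H = Cfsg.Geo.subspaceStabilizer (Submodule.span F {v}) ⊓ Cfsg.Geo.omegaGL Q) ∨
    ((∃ p : ℕ, p.Prime ∧ Fintype.card F = p ∧ (p % 4 = 3)) ∧ ∃ D : Fin 10 → Submodule F (Fin 10 → F), Cfsg.Geo.IsOrthogonalMDecomposition Q 1 D ∧ H = Cfsg.Geo.decompositionStabilizer D ⊓ Cfsg.Geo.omegaGL Q) ∨
    (Fintype.card F ≠ 3 ∧ ∃ D : Fin 5 → Submodule F (Fin 10 → F), Cfsg.Geo.IsOrthogonalMDecomposition Q 2 D ∧ H = Cfsg.Geo.decompositionStabilizer D ⊓ Cfsg.Geo.omegaGL Q) ∨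
    (Fintype.card F % 4 = 3 ∧ ∃ D : Fin 2 → Submodule F (Fin 10 → F), Cfsg.Geo.IsOrthogonalMDecomposition Q 5 D ∧ H = Cfsg.Geo.decompositionStabilizer D ⊓ Cfsg.Geo.omegaGL Q) ∨
    (Fintype.card F % 4 = 1 ∧ ∃ D : Fin 2 → Submodule F (Fin 10 → F), Cfsg.Geo.IsNondegenerateMDecomposition (QuadraticMap.polar Q) 5 D ∧ ¬ Cfsg.Geo.AreIsometricFor Q (D 0) (D 1) ∧ H = Cfsg.Geo.decompositionStabilizer D ⊓ Cfsg.Geo.omegaGL Q) ∨
    (Odd (Fintype.card F) ∧ ∃ K : Subalgebra F (Matrix (Fin 10) (Fin 10) F), Cfsg.Geo.IsFieldSubalgebra 2 K ∧ Cfsg.Geo.IsSelfAdjointFor (QuadraticMap.polar Q) K ∧ H = Cfsg.Geo.subalgebraNormalizer K ⊓ Cfsg.Geo.omegaGL Q) ∨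
    (∃ K : Subalgebra F (Matrix (Fin 10) (Fin 10) F), Cfsg.Geo.IsFieldSubalgebra 2 K ∧ Cfsg.Geo.IsAdjointClosedFor (QuadraticMap.polar Q) K ∧ ¬ Cfsg.Geo.IsSelfAdjointFor (QuadraticMap.polar Q) K ∧ (∀ k ∈ K, ∃ c : F, ∀ v : (Fin 10 → F), Q (Matrix.mulVec k v) = c * Q v) ∧ H = Cfsg.Geo.subalgebraNormalizer K ⊓ Cfsg.Geo.omegaGL Q) ∨
    (∃ (F₀ : Subfield F) (r : ℕ) (P : Matrix.GeneralLinearGroup (Fin 10) F) (ζ : F), r.Prime ∧ Odd r ∧ Fintype.card F = Nat.card F₀ ^ r ∧ ζ ≠ 0 ∧ Cfsg.Geo.IsQuadFormRationalStructure (fun v : Fin 10 → F => ζ * Q v) F₀ P ∧ H = Cfsg.Geo.subfieldSubgroup F₀ P ⊓ Cfsg.Geo.omegaGL Q) ∨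
    Cfsg.Geo.InOrthogonalResidualClass H := by
  classical
  change Goal10 Q H
  have hcard : Fintype.card (Fin 10) = 10 := Fintype.card_fin 10
  have hHI : H ≤ isometryGroup F Q := hH.1.le.trans (omegaGL_le Q)
  have hglue := fun (M : Subgroup (GL (Fin 10) F)) (hHM : H ≤ M) (hΩM : ¬ omegaGL Q ≤ M) =>
    eq_of_maximal hH hHM hΩM
  have hEV16 := fun (t k : ℕ) (D : Fin t → Submodule F (Fin 10 → F)) (hD : IsMDecomposition k D) =>
    Cfsg.Agent.Lib.Helper32_OrthEven_EV16.EV16 Q hQ (by rw [hcard]; omega) t k D hD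
  have hEV7 := fun (r : ℕ) (hr : 2 ≤ r) (K : Subalgebra F (Matrix (Fin 10) (Fin 10) F))
      (hK : IsFieldSubalgebra r K) =>
    Cfsg.Agent.Lib.Helper32_OrthEven_EV7.EV7 Q hQ (by rw [hcard]; omega) r hr K hK
  -- a non-degenerate subspace of odd dimension forces odd characteristic
  have hodd_of : ∀ W : Submodule F (Fin 10 → F), IsNondegenerateOn (QuadraticMap.polar Q) W →
      Odd (Module.finrank F W) → (2 : F) ≠ 0 := by
    intro W hW hodd h2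
    exact (Nat.not_even_iff_odd.mpr hodd) (EV14 Q hQ h2 W hW)
  -- the subfield class
  have hsub : ∀ (F₁ : Subfield F) (r : ℕ) (P' : GL (Fin 10) F) (ζ : F), r.Prime →
      Fintype.card F = Nat.card F₁ ^ r → ζ ≠ 0 →
      IsQuadFormRationalStructure (fun v : Fin 10 → F => ζ * Q v) F₁ P' →
      H ≤ subfieldSubgroup F₁ P' →
      (∃ (F₀ : Subfield F) (r : ℕ) (P : Matrix.GeneralLinearGroup (Fin 10) F) (ζ : F), r.Prime ∧ Odd r ∧ Fintype.card F = Nat.card F₀ ^ r ∧ ζ ≠ 0 ∧ Cfsg.Geo.IsQuadFormRationalStructure (fun v : Fin 10 → F => ζ * Q v) F₀ P ∧ H = Cfsg.Geo.subfieldSubgroup F₀ P ⊓ Cfsg.Geo.omegaGL Q) := by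
    intro F₁ r P' ζ hrp hcF hζ hrat hHle
    rcases hrp.eq_two_or_odd' with h2 | hodd
    · subst h2
      exfalso
      exact hminus (Cfsg.Agent.Lib.Helper35_OrthEven_EV10.EV10 Q hQ (by rw [hcard]; decide) F₁ hcF P' ζ hζ hrat)
    · exact ⟨F₁, r, P', ζ, hrp, hodd, hcF, hζ, hrat,
        hglue _ hHle (Cfsg.Agent.Lib.Helper94_OrthEven_EV11.EV11 Q hQ (by rw [hcard]; omega) F₁
          (subfield_ne_top F₁ r hrp hcF) P')⟩
  -- the frame class
  have hframe : ∀ (D : Fin 10 → Submodule F (Fin 10 → F)), IsOrthogonalMDecomposition Q 1 D →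
      H ≤ decompositionStabilizer D →
      ((∃ p : ℕ, p.Prime ∧ Fintype.card F = p ∧ (p % 4 = 3)) ∧ ∃ D : Fin 10 → Submodule F (Fin 10 → F), Cfsg.Geo.IsOrthogonalMDecomposition Q 1 D ∧ H = Cfsg.Geo.decompositionStabilizer D ⊓ Cfsg.Geo.omegaGL Q) ∨
      (∃ (F₀ : Subfield F) (r : ℕ) (P : Matrix.GeneralLinearGroup (Fin 10) F) (ζ : F), r.Prime ∧ Odd r ∧ Fintype.card F = Nat.card F₀ ^ r ∧ ζ ≠ 0 ∧ Cfsg.Geo.IsQuadFormRationalStructure (fun v : Fin 10 → F => ζ * Q v) F₀ P ∧ H = Cfsg.Geo.subfieldSubgroup F₀ P ⊓ Cfsg.Geo.omegaGL Q) := by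
    intro D hOD hHD
    have h2F : (2 : F) ≠ 0 := hodd_of (D 0) (hOD.decomp.nondegenerate 0)
      (by rw [hOD.decomp.decomp.finrank_eq]; exact odd_one)
    rcases mod_four_of_odd (odd_card_of_two_ne_zero h2F) with h1 | h3
    · exact absurd (Cfsg.Agent.Lib.Helper11_OrthEven_EV21.EV21 Q hQ h1 10 1 (by decide) D hOD) hminus
    · by_cases hp : (Fintype.card F).Prime
      · left
        exact ⟨⟨Fintype.card F, hp, rfl, h3⟩, D, hOD, hglue _ hHD (hEV16 10 1 D hOD.decomp.decomp)⟩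
      · right
        obtain ⟨F₁, r, P', ζ, hrp, hcF, hζ, hrat, hle⟩ := Cfsg.Agent.Lib.Helper55_OrthEven_EV29.EV29 Q hQ hp 10 D hOD
        exact hsub F₁ r P' ζ hrp hcF hζ hrat ((le_inf hHD hHI).trans hle)
  -- the decomposition classes
  have hdecomp : ∀ (t k : ℕ) (D : Fin t → Submodule F (Fin 10 → F)), t * k = 10 → 2 ≤ t →
      IsOrthogonalMDecomposition Q k D → H ≤ decompositionStabilizer D →
      ((∃ p : ℕ, p.Prime ∧ Fintype.card F = p ∧ (p % 4 = 3)) ∧ ∃ D : Fin 10 → Submodule F (Fin 10 → F), Cfsg.Geo.IsOrthogonalMDecomposition Q 1 D ∧ H = Cfsg.Geo.decompositionStabilizer D ⊓ Cfsg.Geo.omegaGL Q) ∨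
      (Fintype.card F ≠ 3 ∧ ∃ D : Fin 5 → Submodule F (Fin 10 → F), Cfsg.Geo.IsOrthogonalMDecomposition Q 2 D ∧ H = Cfsg.Geo.decompositionStabilizer D ⊓ Cfsg.Geo.omegaGL Q) ∨
      (Fintype.card F % 4 = 3 ∧ ∃ D : Fin 2 → Submodule F (Fin 10 → F), Cfsg.Geo.IsOrthogonalMDecomposition Q 5 D ∧ H = Cfsg.Geo.decompositionStabilizer D ⊓ Cfsg.Geo.omegaGL Q) ∨
      (∃ (F₀ : Subfield F) (r : ℕ) (P : Matrix.GeneralLinearGroup (Fin 10) F) (ζ : F), r.Prime ∧ Odd r ∧ Fintype.card F = Nat.card F₀ ^ r ∧ ζ ≠ 0 ∧ Cfsg.Geo.IsQuadFormRationalStructure (fun v : Fin 10 → F => ζ * Q v) F₀ P ∧ H = Cfsg.Geo.subfieldSubgroup F₀ P ⊓ Cfsg.Geo.omegaGL Q) := by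
    intro t k D htk ht2 hOD hHD
    have ht10 : t ≤ 10 := Nat.le_of_dvd (by norm_num) ⟨k, htk.symm⟩
    have hcases : (t = 2 ∧ k = 5) ∨ (t = 5 ∧ k = 2) ∨ (t = 10 ∧ k = 1) := by
      interval_cases t <;> omega
    rcases hcases with ⟨rfl, rfl⟩ | ⟨rfl, rfl⟩ | ⟨rfl, rfl⟩
    · have h2F : (2 : F) ≠ 0 := hodd_of (D 0) (hOD.decomp.nondegenerate 0)
        (by rw [hOD.decomp.decomp.finrank_eq]; decide)
      rcases mod_four_of_odd (odd_card_of_two_ne_zero h2F) with h1 | h3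
      · exact absurd (Cfsg.Agent.Lib.Helper11_OrthEven_EV21.EV21 Q hQ h1 2 5 (by decide) D hOD) hminus
      · right; right; left
        exact ⟨h3, D, hOD, hglue _ hHD (hEV16 2 5 D hOD.decomp.decomp)⟩
    · by_cases hq3 : Fintype.card F = 3
      · obtain ⟨D', hOD', hle⟩ := Cfsg.Agent.Lib.Helper43_OrthEven_EV27.EV27 hq3 Q hQ 5 10 (by norm_num) D hOD
          (blocks_minus Q hQ hminus 5 2 (by decide) D hOD)
        rcases hframe D' hOD' ((le_inf hHD hHI).trans hle) with h | h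
        · exact Or.inl h
        · exact Or.inr (Or.inr (Or.inr h))
      · right; left
        exact ⟨hq3, D, hOD, hglue _ hHD (hEV16 5 2 D hOD.decomp.decomp)⟩
    · rcases hframe D hOD hHD with h | h
      · exact Or.inl h
      · exact Or.inr (Or.inr (Or.inr h))
  -- embedding of `hdecomp` into the goal
  have hdecomp' : ∀ (t k : ℕ) (D : Fin t → Submodule F (Fin 10 → F)), t * k = 10 → 2 ≤ t →
      IsOrthogonalMDecomposition Q k D → H ≤ decompositionStabilizer D → Goal10 Q H := fun t k D htk ht2 hOD hHD =>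
    (hdecomp t k D htk ht2 hOD hHD).elim
      (fun h => Or.inr (Or.inr (Or.inr (Or.inr (Or.inr (Or.inr (Or.inl h)))))))
      (fun h => h.elim (fun h => Or.inr (Or.inr (Or.inr (Or.inr (Or.inr (Or.inr (Or.inr (Or.inl h))))))))
        (fun h => h.elim
          (fun h => Or.inr (Or.inr (Or.inr (Or.inr (Or.inr (Or.inr (Or.inr (Or.inr (Or.inl h)))))))))
          (fun h => Or.inr (Or.inr (Or.inr (Or.inr (Or.inr (Or.inr (Or.inr (Or.inr (Or.inr (Or.inr (Or.inr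
            (Or.inr (Or.inl h)))))))))))))))
  -- the unitary class
  have hunit : ∀ K : Subalgebra F (Matrix (Fin 10) (Fin 10) F), IsFieldSubalgebra 2 K →
      IsAdjointClosedFor (QuadraticMap.polar Q) K → ¬ IsSelfAdjointFor (QuadraticMap.polar Q) K →
      (∀ k ∈ K, ∃ c : F, ∀ v : (Fin 10 → F), Q (Matrix.mulVec k v) = c * Q v) →
      H ≤ subalgebraNormalizer K → Goal10 Q H := fun K hK hKadj hnsa hsim hHK =>
    Or.inr (Or.inr (Or.inr (Or.inr (Or.inr (Or.inr (Or.inr (Or.inr (Or.inr (Or.inr (Or.inr (Or.inl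
      ⟨K, hK, hKadj, hnsa, hsim, hglue _ hHK (hEV7 2 le_rfl K hK)⟩)))))))))))
  by_cases hirr : ActsIrreducibly (matrixSet H)
  swap
  · -- reducible
    unfold Goal10
    rcases reducible_cases (by rw [hcard]; omega) Q hQ H hH hirr with
      ⟨W, hW0, hWts, hHeq⟩ | ⟨hq, W, hW0, hW1, hodd, -, hWnd, hHeq, hhalf⟩ | ⟨W, h2, hWnd, hp, hHeq⟩ |
      ⟨hq, W, h2, hWnd, hp, hHeq⟩ | ⟨W, hev, h4, hle, hWnd, hHeq⟩ | ⟨hq, v, hv, hHeq⟩
    · exact Or.inl ⟨W, hW0, hWts, hHeq⟩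
    · by_cases h5 : 2 * Module.finrank F W = 10
      · obtain ⟨W', hW'0, hinf, hsup, ho, ho', hW'nd, hdim', hHW'⟩ := hhalf (by rw [hcard]; exact h5)
        have hd5 : Module.finrank F W = 5 := by omega
        obtain ⟨hND, hstab⟩ := two_decomp (QuadraticMap.polar Q) 5 (by norm_num) W W' hinf hsup hWnd hW'nd
          ho ho' hd5 (by rw [hdim', hd5])
        have hHW : H ≤ subspaceStabilizer W := by rw [hHeq]; exact inf_le_left
        have hHD : H ≤ decompositionStabilizer ![W, W'] := (le_inf hHW hHW').trans hstab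
        by_cases hiso : AreIsometricFor Q W W'
        · refine hdecomp' 2 5 ![W, W'] (by norm_num) le_rfl ⟨hND, ?_⟩ hHD
          intro i j
          fin_cases i <;> fin_cases j
          · exact isometric_refl Q W
          · exact hiso
          · exact isometric_symm Q hiso
          · exact isometric_refl Q W'
        · rcases mod_four_of_odd hq with h1 | h3
          · exact Or.inr (Or.inr (Or.inr (Or.inr (Or.inr (Or.inr (Or.inr (Or.inr (Or.inr (Or.inl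
              ⟨h1, ![W, W'], hND, hiso, hglue _ hHD (hEV16 2 5 _ hND.decomp)⟩)))))))))
          · exact absurd (Cfsg.Agent.Lib.Helper43_OrthEven_EV22.EV22 Q hQ h3 5 (by decide) ![W, W'] hND hiso) hminus
      · exact Or.inr (Or.inl ⟨hq, W, hW0, hW1, hodd, h5, hWnd, hHeq⟩)
    · exact Or.inr (Or.inr (Or.inl ⟨W, h2, hWnd, hp, hHeq⟩))
    · exact Or.inr (Or.inr (Or.inr (Or.inl ⟨hq, W, h2, hWnd, hp, hHeq⟩)))
    · rw [hcard] at hle
      have h4' : Module.finrank F W = 4 := by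
        obtain ⟨j, hj⟩ := hev
        omega
      exact Or.inr (Or.inr (Or.inr (Or.inr (Or.inl ⟨W, h4', hWnd, hHeq⟩))))
    · exact Or.inr (Or.inr (Or.inr (Or.inr (Or.inr (Or.inl ⟨hq, v, hv, hHeq⟩)))))
  -- irreducible
  unfold Goal10
  rcases irreducible_cases 10 (by omega) Q hQ H hH hirr with
    ⟨t, k, D, htk, ht2, hk0, hD, hOD, hHD⟩ | hplus | ⟨r, K, hr, hr10, hK, hKadj, hHeq⟩ |
    ⟨N, d, s, e, P, hNH, hnorm, hNZ, hmin, hA, hAadj, hT, hd2, hs2, hds⟩ | ⟨⟨j, hj⟩, -⟩ |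
    ⟨N, k, S, hNI, hspan, hk, hSN, hSnorm, hSZ, hcomm, hsup, d, hd2, hdk⟩ |
    ⟨F₁, r, P', ζ, hrp, hcF, hζ, hrat, hHeq⟩ | hres
  · exact hdecomp' t k D htk ht2 hOD hHD
  · exact absurd hplus hminus
  · have hHK : H ≤ subalgebraNormalizer K := by rw [hHeq]; exact inf_le_left
    have hr25 : r = 2 ∨ r = 5 := by
      have h1 : r ∣ 2 * 5 := by simpa using hr10
      rcases (Nat.Prime.dvd_mul hr).mp h1 with h | h
      · left
        exact (Nat.prime_dvd_prime_iff_eq hr Nat.prime_two).mp h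
      · right
        exact (Nat.prime_dvd_prime_iff_eq hr Nat.prime_five).mp h
    rcases hr25 with rfl | rfl
    · by_cases hsa : IsSelfAdjointFor (QuadraticMap.polar Q) K
      · by_cases h2F : (2 : F) = 0
        · exfalso
          have := h24a h2F K hK hsa
          rw [hcard] at this
          omega
        · exact Or.inr (Or.inr (Or.inr (Or.inr (Or.inr (Or.inr (Or.inr (Or.inr (Or.inr (Or.inr (Or.inl
            ⟨odd_card_of_two_ne_zero h2F, K, hK, hsa, hHeq⟩))))))))))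
      · exact hunit K hK hKadj hsa
          (Cfsg.Agent.Lib.Helper47_OrthEven_EV24b.EV24b Q hQ (by rw [hcard]; omega) H hHI hirr K hK hKadj hsa hHK) hHK
    · obtain ⟨K₂, hK₂, hK₂adj, hK₂nsa, hsim, hle⟩ := h30 K hK hKadj
      exact hunit K₂ hK₂ hK₂adj hK₂nsa hsim ((le_inf hHK hHI).trans hle)
  · -- tensor algebra
    have hodd : Odd d ∨ Odd s := by
      have hd10 : d ≤ 10 := Nat.le_of_dvd (by norm_num) ⟨s, hds.symm⟩
      have : (d = 2 ∧ s = 5) ∨ (d = 5 ∧ s = 2) := by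
        interval_cases d <;> omega
      rcases this with ⟨rfl, rfl⟩ | ⟨rfl, rfl⟩
      · right; decide
      · left; decide
    obtain ⟨h2F, n₁, n₂, e', P', f₁, f₂, hns, hn₁, hf₁, hf₂, hten, hHT⟩ :=
      Cfsg.Agent.Lib.Helper82_OrthEven_EV17.EV17 Q hQ H hHI hirr (spanAlg N) hA hAadj d s e P hT
        (by omega) (by omega) hodd
    have hnn : n₁ * n₂ = 10 := by
      rcases hns with ⟨rfl, rfl⟩ | ⟨rfl, rfl⟩
      · exact hds
      · rw [mul_comm]; exact hds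
    have hn₁2 : 2 ≤ n₁ ∧ 2 ≤ n₂ := by
      rcases hns with ⟨rfl, rfl⟩ | ⟨rfl, rfl⟩
      · exact ⟨hd2, hs2⟩
      · exact ⟨hs2, hd2⟩
    have hn52 : n₁ = 5 ∧ n₂ = 2 := by
      have h10 : n₁ ≤ 10 := Nat.le_of_dvd (by norm_num) ⟨n₂, hnn.symm⟩
      obtain ⟨j, hj⟩ := hn₁
      have hj5 : j ≤ 5 := by omega
      subst hj
      interval_cases j <;> omega
    obtain ⟨rfl, rfl⟩ := hn52
    by_cases hp2 : IsPlusTypeOn (fun v : Fin 2 → F => f₂ v v) ⊤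
    · exfalso
      exact hminus (Cfsg.Agent.Lib.Helper82_OrthEven_EV18.EV18 Q hQ h2F 5 2 e' P' f₁ f₂ hf₁ hf₂ hten hp2)
    · obtain ⟨K, hK, hKadj, hnsa, hsim, hle⟩ := Cfsg.Agent.Lib.Helper34_OrthEven_EV26.EV26 Q hQ h2F 5 (by norm_num) e' P' f₁ f₂ hf₁ hf₂ hten hp2
      exact hunit K hK hKadj hnsa hsim ((le_inf hHT hHI).trans hle)
  · exfalso
    have hj4 : j < 4 := by
      by_contra h
      push Not at h
      have : 2 ^ 4 ≤ 2 ^ j := Nat.pow_le_pow_right (by norm_num) h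
      omega
    interval_cases j <;> omega
  · exfalso
    have h2k : d ^ 2 ∣ d ^ k := pow_dvd_pow d hk
    rw [← hdk] at h2k
    have hle : d ^ 2 ≤ 10 := Nat.le_of_dvd (by norm_num) h2k
    have hd3 : d ≤ 3 := by nlinarith
    interval_cases d
    · have hk4 : k < 4 := by
        by_contra h
        push Not at h
        have : 2 ^ 4 ≤ 2 ^ k := Nat.pow_le_pow_right (by norm_num) h
        omega
      interval_cases k <;> omega
    · norm_num at h2k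
  · have hHle : H ≤ subfieldSubgroup F₁ P' := by rw [hHeq]; exact inf_le_left
    exact Or.inr (Or.inr (Or.inr (Or.inr (Or.inr (Or.inr (Or.inr (Or.inr (Or.inr (Or.inr (Or.inr (Or.inr (Or.inl
      (hsub F₁ r P' ζ hrp hcF hζ hrat hHle)))))))))))))
  · exact Or.inr (Or.inr (Or.inr (Or.inr (Or.inr (Or.inr (Or.inr (Or.inr (Or.inr (Or.inr (Or.inr (Or.inr (Or.inr
      hres))))))))))))

end Cfsg.Agent.Lib.Helper22_OrthEven_Row10
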