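import Mathlib
import Cfsg.Prelude.Def_GeometricClasses

set_option autoImplicit false

namespace Cfsg.Agent.Lib.Helper34_SpExt_QC1

open Matrix

/-- abstract core: an automorphism of a finite field extension of prime degree `k` whose `r`-th
power is trivial, `r ≠ k` prime, is trivial -/
theorem algEquiv_eq_one {F E : Type*} [Field F] [Field E] [Algebra F E] [Finite E]
    {k r : ℕ} (hk : k.Prime) (hr : r.Prime) (hrk : r ≠ k) (hfr : Module.finrank F E = k)
    (α : E ≃ₐ[F] E) (hα : α ^ r = 1) : α = 1 := by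
  have hcard : Nat.card (E ≃ₐ[F] E) = k := by
    rw [← hfr]
    exact IsGalois.card_aut_eq_finrank F E
  have hαk : α ^ k = 1 := by
    rw [← hcard]
    exact pow_card_eq_one'
  have hcop : Nat.Coprime r k := (Nat.coprime_primes hr hk).mpr hrk
  have := pow_gcd_eq_one.mpr ⟨hα, hαk⟩
  rwa [hcop, pow_one] at this

variable {F : Type*} [Field F] {ι : Type} [Fintype ι] [DecidableEq ι]

theorem isField [Nonempty ι] (K : Subalgebra F (Matrix ι ι F)) {r : ℕ}
    (hK : Cfsg.Geo.IsFieldSubalgebra r K) : IsField K := by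
  refine ⟨⟨0, 1, ?_⟩, ?_, ?_⟩
  · intro h
    have := congrArg Subtype.val h
    simp at this
  · intro x y
    exact Subtype.ext (hK.comm x.1 x.2 y.1 y.2)
  · intro a ha
    have ha' : (a : Matrix ι ι F) ≠ 0 := fun h => ha (Subtype.ext h)
    obtain ⟨y, hy, hxy⟩ := hK.inv a.1 a.2 ha'
    exact ⟨⟨y, hy⟩, Subtype.ext hxy⟩

theorem val_inv_mul (g : GL ι F) : ((g⁻¹ : GL ι F) : Matrix ι ι F) * (g : Matrix ι ι F) = 1 := by
  rw [← Units.val_mul, inv_mul_cancel, Units.val_one]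

theorem val_mul_inv (g : GL ι F) : (g : Matrix ι ι F) * ((g⁻¹ : GL ι F) : Matrix ι ι F) = 1 := by
  rw [← Units.val_mul, mul_inv_cancel, Units.val_one]

/-- conjugation by an element of the normaliser, as an algebra automorphism of `K` -/
def conjEquiv (K : Subalgebra F (Matrix ι ι F)) (g : GL ι F)
    (hg : g ∈ Cfsg.Geo.subalgebraNormalizer K) : K ≃ₐ[F] K where
  toFun a := ⟨(g : Matrix ι ι F) * a.1 * ((g⁻¹ : GL ι F) : Matrix ι ι F), (hg a.1).mp a.2⟩
  invFun a := ⟨((g⁻¹ : GL ι F) : Matrix ι ι F) * a.1 * (g : Matrix ι ι F), by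
    have := (hg (((g⁻¹ : GL ι F) : Matrix ι ι F) * a.1 * (g : Matrix ι ι F)))
    rw [this]
    have h : (g : Matrix ι ι F) * (((g⁻¹ : GL ι F) : Matrix ι ι F) * a.1 * (g : Matrix ι ι F)) *
        ((g⁻¹ : GL ι F) : Matrix ι ι F) = a.1 := by
      rw [← mul_assoc, ← mul_assoc, val_mul_inv, one_mul, mul_assoc, val_mul_inv, mul_one]
    rw [h]
    exact a.2⟩
  left_inv a := by
    apply Subtype.ext
    show ((g⁻¹ : GL ι F) : Matrix ι ι F) * ((g : Matrix ι ι F) * a.1 * ((g⁻¹ : GL ι F) : Matrix ι ι F)) *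
      (g : Matrix ι ι F) = a.1
    rw [← mul_assoc, ← mul_assoc, val_inv_mul, one_mul, mul_assoc, val_inv_mul, mul_one]
  right_inv a := by
    apply Subtype.ext
    show (g : Matrix ι ι F) * (((g⁻¹ : GL ι F) : Matrix ι ι F) * a.1 * (g : Matrix ι ι F)) *
        ((g⁻¹ : GL ι F) : Matrix ι ι F) = a.1
    rw [← mul_assoc, ← mul_assoc, val_mul_inv, one_mul, mul_assoc, val_mul_inv, mul_one]
  map_mul' a b := by
    apply Subtype.ext
    show (g : Matrix ι ι F) * (a.1 * b.1) * ((g⁻¹ : GL ι F) : Matrix ι ι F) =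
      ((g : Matrix ι ι F) * a.1 * ((g⁻¹ : GL ι F) : Matrix ι ι F)) *
      ((g : Matrix ι ι F) * b.1 * ((g⁻¹ : GL ι F) : Matrix ι ι F))
    have := val_inv_mul g
    calc (g : Matrix ι ι F) * (a.1 * b.1) * ((g⁻¹ : GL ι F) : Matrix ι ι F)
        = (g : Matrix ι ι F) * a.1 * (((g⁻¹ : GL ι F) : Matrix ι ι F) * (g : Matrix ι ι F)) * b.1 *
            ((g⁻¹ : GL ι F) : Matrix ι ι F) := by rw [this, mul_one]; simp only [mul_assoc]
      _ = _ := by simp only [mul_assoc]
  map_add' a b := by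
    apply Subtype.ext
    show (g : Matrix ι ι F) * (a.1 + b.1) * ((g⁻¹ : GL ι F) : Matrix ι ι F) =
      ((g : Matrix ι ι F) * a.1 * ((g⁻¹ : GL ι F) : Matrix ι ι F)) +
      ((g : Matrix ι ι F) * b.1 * ((g⁻¹ : GL ι F) : Matrix ι ι F))
    rw [mul_add, add_mul]
  commutes' c := by
    apply Subtype.ext
    show (g : Matrix ι ι F) * (algebraMap F (Matrix ι ι F) c) * ((g⁻¹ : GL ι F) : Matrix ι ι F) =
      algebraMap F (Matrix ι ι F) c
    rw [← Algebra.commutes, mul_assoc, val_mul_inv, mul_one]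

theorem conjEquiv_apply (K : Subalgebra F (Matrix ι ι F)) (g : GL ι F)
    (hg : g ∈ Cfsg.Geo.subalgebraNormalizer K) (a : K) :
    ((conjEquiv K g hg a : K) : Matrix ι ι F) =
      (g : Matrix ι ι F) * a.1 * ((g⁻¹ : GL ι F) : Matrix ι ι F) := rfl

theorem conjEquiv_pow_apply (K : Subalgebra F (Matrix ι ι F)) (g : GL ι F)
    (hg : g ∈ Cfsg.Geo.subalgebraNormalizer K) (m : ℕ) (a : K) :
    (((conjEquiv K g hg ^ m) a : K) : Matrix ι ι F) =
      (g : Matrix ι ι F) ^ m * a.1 * ((g⁻¹ : GL ι F) : Matrix ι ι F) ^ m := by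
  induction m generalizing a with
  | zero => simp
  | succ m ih =>
    rw [pow_succ, AlgEquiv.mul_apply, ih, conjEquiv_apply, pow_succ, pow_succ']
    simp only [mul_assoc]

/-- QC1: an element of the normaliser whose `r`-th power is scalar, `r ≠ k`, centralises `K` -/
theorem QC1 {F : Type*} [Field F] [Fintype F] {ι : Type} [Fintype ι] [DecidableEq ι] [Nonempty ι]
    (k : ℕ) (hk : k.Prime) (K : Subalgebra F (Matrix ι ι F)) (hK : Cfsg.Geo.IsFieldSubalgebra k K)
    (g : GL ι F) (hg : g ∈ Cfsg.Geo.subalgebraNormalizer K) (r : ℕ) (hr : r.Prime) (hrk : r ≠ k)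
    (z : F) (hz : (g : Matrix ι ι F) ^ r = z • (1 : Matrix ι ι F)) :
    ∀ a ∈ K, (g : Matrix ι ι F) * a = a * (g : Matrix ι ι F) := by
  classical
  let _ : Field K := (isField K hK).toField
  have _ : Finite K := inferInstance
  have h1 : (g : Matrix ι ι F) ^ r * ((g⁻¹ : GL ι F) : Matrix ι ι F) ^ r = 1 := by
    rw [← Units.val_pow_eq_pow_val, ← Units.val_pow_eq_pow_val, ← Units.val_mul, inv_pow,
      mul_inv_cancel, Units.val_one]
  have hαr : (conjEquiv K g hg) ^ r = 1 := by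
    apply AlgEquiv.ext
    intro a
    apply Subtype.ext
    rw [conjEquiv_pow_apply, AlgEquiv.one_apply, hz, smul_mul_assoc, one_mul]
    have h3 : z • (a : Matrix ι ι F) = (a : Matrix ι ι F) * (g : Matrix ι ι F) ^ r := by
      rw [hz, mul_smul_comm, mul_one]
    rw [h3, mul_assoc, h1, mul_one]
  have hα1 := algEquiv_eq_one hk hr hrk hK.finrank_eq (conjEquiv K g hg) hαr
  intro a ha
  have h2 : ((conjEquiv K g hg ⟨a, ha⟩ : K) : Matrix ι ι F) = a := by
    rw [hα1]; rfl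
  rw [conjEquiv_apply] at h2
  calc (g : Matrix ι ι F) * a
      = (g : Matrix ι ι F) * a * (((g⁻¹ : GL ι F) : Matrix ι ι F) * (g : Matrix ι ι F)) := by
        rw [val_inv_mul, mul_one]
    _ = ((g : Matrix ι ι F) * a * ((g⁻¹ : GL ι F) : Matrix ι ι F)) * (g : Matrix ι ι F) := by
        simp only [mul_assoc]
    _ = a * (g : Matrix ι ι F) := by rw [h2]

end Cfsg.Agent.Lib.Helper34_SpExt_QC1
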