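import Mathlib
import Cfsg.Prelude.Def_GeometricClasses
import Cfsg.Agent.Lib.Helper34_SpExt_QC1

set_option autoImplicit false

open Cfsg Cfsg.Geo Matrix

namespace Cfsg.Agent.Lib.Helper59_OrthEven_EV30E

variable {ι : Type} [Fintype ι] [DecidableEq ι] {F : Type*} [Field F]

/-- a matrix all of whose images are right-orthogonal to everything is zero -/
theorem eq_zero_of_forall_right (f : (ι → F) → (ι → F) → F) (hnd : IsNondegenerateForm f)
    (m : Matrix ι ι F) (h : ∀ u v : ι → F, f u (m *ᵥ v) = 0) : m = 0 := by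
  have h0 : ∀ v : ι → F, m *ᵥ v = 0 := by
    intro v
    by_contra hne
    obtain ⟨⟨x, hx⟩, _⟩ := hnd (m *ᵥ v) hne
    exact hx (h x v)
  ext i j
  have := congrFun (h0 (Pi.single j 1)) i
  simpa using this

/-- uniqueness of adjoints -/
theorem adj_unique (f : (ι → F) → (ι → F) → F) (hf : IsBilinearForm f) (hnd : IsNondegenerateForm f)
    (k a b : Matrix ι ι F) (ha : ∀ u v : ι → F, f (k *ᵥ u) v = f u (a *ᵥ v))
    (hb : ∀ u v : ι → F, f (k *ᵥ u) v = f u (b *ᵥ v)) : a = b := by
  have h : a - b = 0 := by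
    apply eq_zero_of_forall_right f hnd
    intro u v
    have h1 : f u (a *ᵥ v) = f u (b *ᵥ v) := by rw [← ha, ← hb]
    have h2 : (a - b) *ᵥ v = a *ᵥ v + (-1 : F) • (b *ᵥ v) := by
      rw [Matrix.sub_mulVec]; simp [sub_eq_add_neg]
    rw [h2, hf.add_right, hf.smul_right, h1]; ring
  exact sub_eq_zero.mp h

/-- **EV30E**: an adjoint-closed field subalgebra of degree 5 is self-adjoint. -/
theorem EV30E {ι : Type} [Fintype ι] [DecidableEq ι] [Nonempty ι] {F : Type*} [Field F] [Fintype F]
    (f : (ι → F) → (ι → F) → F) (hf : IsBilinearForm f) (hnd : IsNondegenerateForm f)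
    (hsymm : ∀ u v, f u v = f v u) (K : Subalgebra F (Matrix ι ι F)) (hK : IsFieldSubalgebra 5 K)
    (hKadj : IsAdjointClosedFor f K) : IsSelfAdjointFor f K := by
  classical
  let _ : Field K := (Helper34_SpExt_QC1.isField K hK).toField
  have _ : Finite K := inferInstance
  -- the adjoint map
  let adj : K → K := fun k => ⟨Classical.choose (hKadj k.1 k.2), (Classical.choose_spec (hKadj k.1 k.2)).1⟩
  have hadj : ∀ (k : K) (u v : ι → F), f (k.1 *ᵥ u) v = f u ((adj k).1 *ᵥ v) :=
    fun k => (Classical.choose_spec (hKadj k.1 k.2)).2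
  have huniq : ∀ (k : K) (b : K), (∀ u v : ι → F, f (k.1 *ᵥ u) v = f u (b.1 *ᵥ v)) → adj k = b := by
    intro k b hb
    apply Subtype.ext
    exact adj_unique f hf hnd k.1 _ _ (hadj k) hb
  have hinv : ∀ k : K, adj (adj k) = k := by
    intro k
    apply huniq
    intro u v
    rw [hsymm, ← hadj k, hsymm]
  have hmul : ∀ a b : K, adj (a * b) = adj a * adj b := by
    intro a b
    apply huniq
    intro u v
    have h1 : ((a * b : K) : Matrix ι ι F) = b.1 * a.1 := by
      show a.1 * b.1 = b.1 * a.1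
      exact hK.comm a.1 a.2 b.1 b.2
    have h2 : ((adj a * adj b : K) : Matrix ι ι F) = (adj a).1 * (adj b).1 := rfl
    rw [h1, h2, ← Matrix.mulVec_mulVec, hadj b, hadj a, Matrix.mulVec_mulVec]
  have hadd : ∀ a b : K, adj (a + b) = adj a + adj b := by
    intro a b
    apply huniq
    intro u v
    have h1 : ((a + b : K) : Matrix ι ι F) = a.1 + b.1 := rfl
    have h2 : ((adj a + adj b : K) : Matrix ι ι F) = (adj a).1 + (adj b).1 := rfl
    rw [h1, h2, Matrix.add_mulVec, Matrix.add_mulVec, hf.add_left, hf.add_right, hadj a, hadj b]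
  have hcomm : ∀ c : F, adj (algebraMap F K c) = algebraMap F K c := by
    intro c
    apply huniq
    intro u v
    have h1 : ((algebraMap F K c : K) : Matrix ι ι F) = c • (1 : Matrix ι ι F) := by
      rw [Subalgebra.coe_algebraMap, Algebra.algebraMap_eq_smul_one]
    rw [h1, Matrix.smul_mulVec, Matrix.smul_mulVec, Matrix.one_mulVec, Matrix.one_mulVec,
      hf.smul_left, hf.smul_right]
  let α : K ≃ₐ[F] K :=
    { toFun := adj
      invFun := adj
      left_inv := hinv
      right_inv := hinv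
      map_mul' := hmul
      map_add' := hadd
      commutes' := hcomm }
  have hα2 : α ^ 2 = 1 := by
    apply AlgEquiv.ext
    intro a
    rw [pow_two, AlgEquiv.mul_apply, AlgEquiv.one_apply]
    exact hinv a
  have hα1 : α = 1 :=
    Helper34_SpExt_QC1.algEquiv_eq_one (k := 5) (r := 2) (by norm_num) Nat.prime_two (by norm_num)
      hK.finrank_eq α hα2
  intro k hk u v
  have h3 : adj ⟨k, hk⟩ = ⟨k, hk⟩ := by
    have : α ⟨k, hk⟩ = ⟨k, hk⟩ := by rw [hα1]; rfl
    exact this
  have := hadj ⟨k, hk⟩ u v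
  rw [h3] at this
  exact this

end Cfsg.Agent.Lib.Helper59_OrthEven_EV30E
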