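import Mathlib
import Cfsg.Prelude.Def_GeometricClasses

set_option autoImplicit false

namespace Cfsg.Agent.Lib.Helper97_AschBurn

open Cfsg Cfsg.Geo Matrix

variable {ι : Type} [Fintype ι] [DecidableEq ι] {F : Type*} [Field F]

/-- the action of a subalgebra of the matrix algebra on column vectors -/
@[reducible] def vecModule (A : Subalgebra F (Matrix ι ι F)) : Module A (ι → F) :=
  Module.compHom (ι → F)
    (((Matrix.toLinAlgEquiv' : Matrix ι ι F ≃ₐ[F] _).toAlgHom.comp A.val).toRingHom)

attribute [local instance] vecModule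

lemma algebraMap_mulVec (c : F) (v : ι → F) :
    (algebraMap F (Matrix ι ι F) c) *ᵥ v = c • v := by
  rw [Algebra.algebraMap_eq_smul_one, Matrix.smul_mulVec, Matrix.one_mulVec]

lemma submodule_mulVec_mem {A : Subalgebra F (Matrix ι ι F)} (N : Submodule A (ι → F)) (a : A) {v : ι → F}
    (hv : v ∈ N) : (a : Matrix ι ι F) *ᵥ v ∈ N := N.smul_mem a hv

lemma submodule_smul_mem {A : Subalgebra F (Matrix ι ι F)} (N : Submodule A (ι → F)) (c : F) {v : ι → F}
    (hv : v ∈ N) : c • v ∈ N := by
  have h := submodule_mulVec_mem N (algebraMap F A c) hv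
  have e : ((algebraMap F A c : A) : Matrix ι ι F) = algebraMap F (Matrix ι ι F) c := rfl
  rwa [e, algebraMap_mulVec] at h

lemma end_mulVec {A : Subalgebra F (Matrix ι ι F)} (φ : Module.End A (ι → F)) (a : A) (v : ι → F) :
    φ ((a : Matrix ι ι F) *ᵥ v) = (a : Matrix ι ι F) *ᵥ φ v := φ.map_smul a v

lemma end_smul {A : Subalgebra F (Matrix ι ι F)} (φ : Module.End A (ι → F)) (c : F) (v : ι → F) :
    φ (c • v) = c • φ v := by
  have h := end_mulVec φ (algebraMap F A c) v
  have e : ((algebraMap F A c : A) : Matrix ι ι F) = algebraMap F (Matrix ι ι F) c := rfl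
  rwa [e, algebraMap_mulVec, algebraMap_mulVec] at h

/-- **Burnside's theorem**: a set of matrices acting absolutely irreducibly generates the full matrix algebra. -/
theorem adjoin_eq_top_of_absIrred [Nonempty ι] (S : Set (Matrix ι ι F))
    (h : ActsAbsolutelyIrreducibly S) : Algebra.adjoin F S = ⊤ := by
  classical
  set A : Subalgebra F (Matrix ι ι F) := Algebra.adjoin F S with hA
  -- simplicity
  have hsimple : IsSimpleModule A (ι → F) := by
    rw [isSimpleModule_iff]
    have key : ∀ N : Submodule A (ι → F), N = ⊥ ∨ N = ⊤ := by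
      intro N
      let W : Submodule F (ι → F) :=
        { carrier := N
          add_mem' := fun ha hb => N.add_mem ha hb
          zero_mem' := N.zero_mem
          smul_mem' := fun c v hv => submodule_smul_mem N c hv }
      have hW : ∀ s ∈ S, W.map (Matrix.toLin' s) ≤ W := by
        rintro s hs _ ⟨v, hv, rfl⟩
        rw [Matrix.toLin'_apply]
        exact submodule_mulVec_mem N (⟨s, Algebra.subset_adjoin hs⟩ : A) hv
      rcases h.1 W hW with h0 | h0
      · left
        ext v
        have : v ∈ W ↔ v ∈ (⊥ : Submodule F (ι → F)) := by rw [h0]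
        simpa [W] using this
      · right
        ext v
        have : v ∈ W ↔ v ∈ (⊤ : Submodule F (ι → F)) := by rw [h0]
        simpa [W] using this
    have hnt : Nontrivial (Submodule A (ι → F)) := by
      refine ⟨⊥, ⊤, fun hbt => ?_⟩
      obtain ⟨i⟩ := ‹Nonempty ι›
      have h1 : (Pi.single i (1 : F) : ι → F) ∈ (⊤ : Submodule A (ι → F)) := Submodule.mem_top
      rw [← hbt, Submodule.mem_bot] at h1
      have := congrFun h1 i
      simp at this
    exact { exists_pair_ne := hnt.exists_pair_ne, eq_bot_or_eq_top := key }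
  -- endomorphisms are scalars
  have hend : ∀ φ : Module.End A (ι → F), ∃ c : F, ∀ v, φ v = c • v := by
    intro φ
    let φF : (ι → F) →ₗ[F] (ι → F) :=
      { toFun := φ
        map_add' := φ.map_add
        map_smul' := fun c v => end_smul φ c v }
    obtain ⟨c, hc⟩ := h.2 (LinearMap.toMatrix' φF) (by
      intro s hs
      apply Matrix.toLin'.injective
      rw [Matrix.toLin'_mul, Matrix.toLin'_mul, Matrix.toLin'_toMatrix']
      apply LinearMap.ext
      intro v
      show φ (s *ᵥ v) = s *ᵥ φ v
      exact end_mulVec φ (⟨s, Algebra.subset_adjoin hs⟩ : A) v)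
    refine ⟨c, fun v => ?_⟩
    have : φF = Matrix.toLin' (c • (1 : Matrix ι ι F)) := by
      rw [← hc, Matrix.toLin'_toMatrix']
    have h2 := congrArg (fun f : (ι → F) →ₗ[F] (ι → F) => f v) this
    have h3 : φ v = Matrix.toLin' (c • (1 : Matrix ι ι F)) v := h2
    rw [h3, Matrix.toLin'_apply, Matrix.smul_mulVec, Matrix.one_mulVec]
  -- density
  rw [eq_top_iff]
  intro M _
  let f : Module.End (Module.End A (ι → F)) (ι → F) :=
    { toFun := fun v => M *ᵥ v
      map_add' := fun v w => Matrix.mulVec_add _ _ _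
      map_smul' := fun φ v => by
        obtain ⟨c, hc⟩ := hend φ
        show M *ᵥ (φ v) = φ (M *ᵥ v)
        rw [hc, hc, Matrix.mulVec_smul] }
  obtain ⟨a, ha⟩ := jacobson_density f (Finset.univ.image (fun i : ι => (Pi.single i (1 : F) : ι → F)))
  have : M = (a : Matrix ι ι F) := by
    ext i j
    have := ha (Pi.single j 1) (Finset.mem_image_of_mem _ (Finset.mem_univ j))
    have h2 : M *ᵥ (Pi.single j 1) = (a : Matrix ι ι F) *ᵥ (Pi.single j 1) := this
    have h3 := congrFun h2 i
    simpa using h3
  rw [this]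
  exact a.2

end Cfsg.Agent.Lib.Helper97_AschBurn
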