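import Mathlib
import Cfsg.Prelude.Def_GeometricClasses
import Cfsg.Agent.Lib.Helper34_SpExt_QC1
import Cfsg.Agent.Lib.Helper10_OrthEven_EV30D
import Cfsg.Agent.Lib.Helper59_OrthEven_EV30E
import Cfsg.Agent.Lib.Helper97_AschBurn
import Cfsg.Agent.Lib.Helper29_OrthOddDefs

/-!
Package EV30iso of helper22's even-dimensional orthogonal market (batch 4b, S5847): an adjoint-closed subfield
`K` of degree 5 in dimension 10 with a non-zero vector `v` such that `Q` vanishes on `K v`: the isometries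
normalising `K` permute two complementary totally singular subspaces `K v`, `K w'`.

Route: `K` is self-adjoint (helper59's EV30E), `V` is a `K`-plane, trace descent (helper10's EV30D) gives
`Q (x v + y w) = lam (a x² + b x y + c y²)`; `a = 0`, `b ≠ 0`, so the `K`-singular vectors are exactly
`K v ∪ K w'`, `w' = w - (c/b) v`.
-/

set_option autoImplicit false

namespace Cfsg.Agent.Lib.Helper34_OrthEven_EV30iso

open Cfsg Cfsg.Geo Matrix

section abstract

variable {F E V : Type*} [Field F] [Fintype F] [Field E] [Fintype E] [Algebra F E]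
  [AddCommGroup V] [Module F V] [Module E V] [IsScalarTower F E V]

omit [Fintype F] [Fintype E] in
theorem exists_functional : ∃ lam : E →ₗ[F] F, lam ≠ 0 := by
  by_contra h
  push Not at h
  have h1 : (1 : E) = 0 :=
    (Module.forall_dual_apply_eq_zero_iff F (1 : E)).1 (fun f => by rw [h f]; rfl)
  exact one_ne_zero h1

omit [Fintype F] in
/-- a functional killing all `z k²` forces `z = 0` -/
theorem eq_zero_of_forall_sq (lam : E →ₗ[F] F) (hlam : lam ≠ 0) (z : E)
    (h : ∀ k : E, lam (z * k ^ 2) = 0) : z = 0 := by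
  by_contra hz
  apply hlam
  ext y
  rw [LinearMap.zero_apply]
  set t : E := z⁻¹ * y with ht
  have hzt : z * t = y := by rw [ht, ← mul_assoc, mul_inv_cancel₀ hz, one_mul]
  rw [← hzt]
  by_cases h2 : (2 : F) = 0
  · have h2E : (2 : E) = 0 := by
      have := congrArg (algebraMap F E) h2
      rw [map_ofNat, map_zero] at this
      exact this
    obtain ⟨s, hs⟩ := Cfsg.Agent.Lib.Helper10_OrthEven_EV30D.sq_surjective h2E t
    have hs' : s ^ 2 = t := hs
    rw [← hs']
    exact h s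
  · have h4 : (4 : F) ≠ 0 := by
      have : (4 : F) = 2 * 2 := by norm_num
      rw [this]
      exact mul_ne_zero h2 h2
    have key : (4 : F) • (z * t) = z * (t + 1) ^ 2 - z * (t - 1) ^ 2 := by
      rw [Algebra.smul_def, map_ofNat]
      ring
    have := congrArg lam key
    rw [map_smul, map_sub, h, h, sub_zero, smul_eq_mul] at this
    exact (mul_eq_zero.1 this).resolve_left h4

omit [Fintype F] [Fintype E] [Algebra F E] [Module F V] [IsScalarTower F E V] in
/-- two `E`-independent vectors span an `E`-plane -/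
theorem span_of_finrank_two (hfr : Module.finrank E V = 2) (v w : V) (hv0 : v ≠ 0)
    (hw : ∀ x : E, w ≠ x • v) : ∀ u : V, ∃ x y : E, u = x • v + y • w := by
  have hli : LinearIndependent E ![v, w] := by
    rw [LinearIndependent.pair_iff]
    intro s t hst
    have ht : t = 0 := by
      by_contra ht
      apply hw (-(t⁻¹ * s))
      have h1 : t • w = -(s • v) := eq_neg_of_add_eq_zero_right hst
      calc w = t⁻¹ • (t • w) := by rw [smul_smul, inv_mul_cancel₀ ht, one_smul]
        _ = (-(t⁻¹ * s)) • v := by rw [h1, smul_neg, smul_smul, neg_smul]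
    subst ht
    rw [zero_smul, add_zero] at hst
    exact ⟨(smul_eq_zero.1 hst).resolve_right hv0, rfl⟩
  have : Module.Finite E V := Module.finite_of_finrank_pos (by rw [hfr]; norm_num)
  have hspan : Submodule.span E (Set.range ![v, w]) = ⊤ :=
    hli.span_eq_top_of_card_eq_finrank' (by simp [hfr])
  intro u
  have hu : u ∈ Submodule.span E (Set.range ![v, w]) := by rw [hspan]; trivial
  rw [Submodule.mem_span_range_iff_exists_fun] at hu
  obtain ⟨c, hc⟩ := hu
  refine ⟨c 0, c 1, ?_⟩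
  rw [← hc, Fin.sum_univ_two]
  rfl

/-- the abstract core: the `E`-singular vectors of an `E`-plane with one `E`-singular line -/
theorem core (Q : V → F) (hQsmul : ∀ (c : F) (v : V), Q (c • v) = c ^ 2 * Q v)
    (hadd : ∀ u u' v : V,
      QuadraticMap.polar Q (u + u') v = QuadraticMap.polar Q u v + QuadraticMap.polar Q u' v)
    (hsmul : ∀ (c : F) (u v : V), QuadraticMap.polar Q (c • u) v = c * QuadraticMap.polar Q u v)
    (hsa : ∀ (k : E) (u v : V), QuadraticMap.polar Q (k • u) v = QuadraticMap.polar Q u (k • v))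
    (hnd : ∀ u : V, (∀ u' : V, QuadraticMap.polar Q u u' = 0) → u = 0)
    (v w : V) (hv0 : v ≠ 0) (hw : ∀ x : E, w ≠ x • v)
    (hspan : ∀ u : V, ∃ x y : E, u = x • v + y • w)
    (hiso : ∀ x : E, Q (x • v) = 0) :
    ∃ w' : V, (∀ x : E, Q (x • w') = 0) ∧ (∀ x : E, w' ≠ x • v) ∧
      ∀ u : V, (∀ x : E, Q (x • u) = 0) → (∃ x : E, u = x • v) ∨ (∃ y : E, u = y • w') := by
  obtain ⟨lam, hlam⟩ := exists_functional (F := F) (E := E)
  obtain ⟨a, b, c, habc⟩ :=
    Cfsg.Agent.Lib.Helper10_OrthEven_EV30D.EV30D Q hQsmul hadd hsmul hsa lam hlam v w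
  have ha : a = 0 := by
    apply eq_zero_of_forall_sq lam hlam
    intro k
    have h1 := habc k 0
    rw [zero_smul, add_zero, hiso] at h1
    rw [h1]
    congr 1
    ring
  subst ha
  have hQ' : ∀ x y : E, Q (x • v + y • w) = lam (y * (b * x + c * y)) := by
    intro x y
    rw [habc]
    congr 1
    ring
  have hb : b ≠ 0 := by
    rintro rfl
    apply hv0
    apply hnd
    intro u
    obtain ⟨x, y, rfl⟩ := hspan u
    unfold QuadraticMap.polar
    have e1 : v + (x • v + y • w) = (1 + x) • v + y • w := by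
      rw [add_smul, one_smul, add_assoc]
    have e2 : Q v = 0 := by
      have := hiso 1
      rwa [one_smul] at this
    rw [e1, hQ', hQ', e2]
    simp
  set w' : V := (-(c * b⁻¹)) • v + (1 : E) • w with hw'
  have hxw' : ∀ x : E, x • w' = (x * (-(c * b⁻¹))) • v + x • w := by
    intro x
    rw [hw', smul_add, smul_smul, smul_smul, mul_one]
  refine ⟨w', ?_, ?_, ?_⟩
  · intro x
    rw [hxw', hQ']
    have h0 : x * (b * (x * (-(c * b⁻¹))) + c * x) = 0 := by
      field_simp
      ring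
    rw [h0, map_zero]
  · intro x hx
    apply hw (x + c * b⁻¹)
    have h1 : w = w' - (-(c * b⁻¹)) • v := by
      rw [hw', one_smul]
      abel
    rw [h1, hx, ← sub_smul]
    congr 1
    ring
  · intro u hu
    obtain ⟨x, y, rfl⟩ := hspan u
    have hz : y * (b * x + c * y) = 0 := by
      apply eq_zero_of_forall_sq lam hlam
      intro k
      have h1 := hu k
      rw [smul_add, smul_smul, smul_smul, hQ'] at h1
      rw [← h1]
      congr 1
      ring
    rcases mul_eq_zero.1 hz with hy | hy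
    · left
      exact ⟨x, by rw [hy, zero_smul, add_zero]⟩
    · right
      refine ⟨y, ?_⟩
      rw [hxw']
      have hx : x = y * (-(c * b⁻¹)) := by
        field_simp
        linear_combination hy
      rw [← hx]

end abstract

section concrete

variable {ι : Type} [Fintype ι] [DecidableEq ι] {F : Type*} [Field F]

/-- the `K`-line `K u` as an `F`-subspace -/
def Lk (K : Subalgebra F (Matrix ι ι F)) (u : ι → F) : Submodule F (ι → F) where
  carrier := {w | ∃ k ∈ K, k *ᵥ u = w}
  add_mem' := by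
    rintro _ _ ⟨k, hk, rfl⟩ ⟨k', hk', rfl⟩
    exact ⟨k + k', K.add_mem hk hk', Matrix.add_mulVec _ _ _⟩
  zero_mem' := ⟨0, K.zero_mem, Matrix.zero_mulVec _⟩
  smul_mem' := by
    rintro c _ ⟨k, hk, rfl⟩
    exact ⟨c • k, K.smul_mem hk c, Matrix.smul_mulVec _ _ _⟩

theorem mem_Lk {K : Subalgebra F (Matrix ι ι F)} {u w : ι → F} :
    w ∈ Lk K u ↔ ∃ k ∈ K, k *ᵥ u = w := Iff.rfl

theorem self_mem_Lk (K : Subalgebra F (Matrix ι ι F)) (u : ι → F) : u ∈ Lk K u :=
  ⟨1, K.one_mem, Matrix.one_mulVec u⟩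

theorem finrank_Lk {r : ℕ} (K : Subalgebra F (Matrix ι ι F)) (hK : IsFieldSubalgebra r K)
    (u : ι → F) (hu : u ≠ 0) : Module.finrank F (Lk K u) = r := by
  let φ : K →ₗ[F] Lk K u :=
    { toFun := fun k => ⟨k.1 *ᵥ u, k.1, k.2, rfl⟩
      map_add' := fun k k' => Subtype.ext (Matrix.add_mulVec _ _ _)
      map_smul' := fun c k => Subtype.ext (Matrix.smul_mulVec _ _ _) }
  have hinj : Function.Injective φ := by
    rw [← LinearMap.ker_eq_bot, LinearMap.ker_eq_bot']
    intro k hk
    have hk' : k.1 *ᵥ u = 0 := congrArg Subtype.val hk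
    by_contra hne
    have hne' : k.1 ≠ 0 := fun h => hne (Subtype.ext h)
    obtain ⟨y, hy, hky⟩ := hK.inv k.1 k.2 hne'
    apply hu
    have h1 : (y * k.1) *ᵥ u = u := by
      rw [← hK.comm k.1 k.2 y hy, hky, Matrix.one_mulVec]
    rw [← h1, ← Matrix.mulVec_mulVec, hk', Matrix.mulVec_zero]
  have hsurj : Function.Surjective φ := by
    rintro ⟨_, k, hk, rfl⟩
    exact ⟨⟨k, hk⟩, rfl⟩
  rw [← (LinearEquiv.ofBijective φ ⟨hinj, hsurj⟩).finrank_eq, hK.finrank_eq]

/-- `K (x u) = K u` for `0 ≠ x ∈ K` -/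
theorem Lk_mulVec {r : ℕ} (K : Subalgebra F (Matrix ι ι F)) (hK : IsFieldSubalgebra r K)
    (x : Matrix ι ι F) (hx : x ∈ K) (hx0 : x ≠ 0) (u : ι → F) : Lk K (x *ᵥ u) = Lk K u := by
  obtain ⟨y, hy, hxy⟩ := hK.inv x hx hx0
  ext w
  constructor
  · rintro ⟨k, hk, rfl⟩
    exact ⟨k * x, K.mul_mem hk hx, by rw [Matrix.mulVec_mulVec]⟩
  · rintro ⟨k, hk, rfl⟩
    refine ⟨k * y, K.mul_mem hk hy, ?_⟩
    rw [Matrix.mulVec_mulVec, mul_assoc, ← hK.comm x hx y hy, hxy, mul_one]

theorem inv_conj_mem (K : Subalgebra F (Matrix ι ι F)) (g : GL ι F)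
    (hg : g ∈ subalgebraNormalizer K) (k : Matrix ι ι F) (hk : k ∈ K) :
    ((g⁻¹ : GL ι F) : Matrix ι ι F) * k * (g : Matrix ι ι F) ∈ K := by
  rw [hg (((g⁻¹ : GL ι F) : Matrix ι ι F) * k * (g : Matrix ι ι F))]
  have h : (g : Matrix ι ι F) * (((g⁻¹ : GL ι F) : Matrix ι ι F) * k * (g : Matrix ι ι F)) *
      ((g⁻¹ : GL ι F) : Matrix ι ι F) = k := by
    rw [← mul_assoc, ← mul_assoc, Cfsg.Agent.Lib.Helper34_SpExt_QC1.val_mul_inv, one_mul, mul_assoc,
      Cfsg.Agent.Lib.Helper34_SpExt_QC1.val_mul_inv, mul_one]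
  rw [h]
  exact hk

/-- `g (K u) = K (g u)` for `g` in the normaliser -/
theorem map_Lk (K : Subalgebra F (Matrix ι ι F)) (g : GL ι F)
    (hg : g ∈ subalgebraNormalizer K) (u : ι → F) :
    (Lk K u).map (Matrix.toLin' (g : Matrix ι ι F)) = Lk K ((g : Matrix ι ι F) *ᵥ u) := by
  ext w
  constructor
  · rintro ⟨_, ⟨k, hk, rfl⟩, rfl⟩
    refine ⟨(g : Matrix ι ι F) * k * ((g⁻¹ : GL ι F) : Matrix ι ι F), (hg k).1 hk, ?_⟩
    rw [Matrix.toLin'_apply, Matrix.mulVec_mulVec, Matrix.mulVec_mulVec, mul_assoc, mul_assoc,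
      Cfsg.Agent.Lib.Helper34_SpExt_QC1.val_inv_mul, mul_one]
  · rintro ⟨k, hk, rfl⟩
    refine ⟨(((g⁻¹ : GL ι F) : Matrix ι ι F) * k * (g : Matrix ι ι F)) *ᵥ u,
      ⟨_, inv_conj_mem K g hg k hk, rfl⟩, ?_⟩
    rw [Matrix.toLin'_apply, Matrix.mulVec_mulVec, Matrix.mulVec_mulVec, ← mul_assoc, ← mul_assoc,
      Cfsg.Agent.Lib.Helper34_SpExt_QC1.val_mul_inv, one_mul]

/-- the `K`-singular vectors are permuted by the isometries normalising `K` -/
theorem sing_map (Q : (ι → F) → F) (K : Subalgebra F (Matrix ι ι F)) (g : GL ι F)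
    (hg : g ∈ subalgebraNormalizer K) (hgI : g ∈ isometryGroup F Q) (u : ι → F)
    (hu : ∀ k ∈ K, Q (k *ᵥ u) = 0) : ∀ k ∈ K, Q (k *ᵥ ((g : Matrix ι ι F) *ᵥ u)) = 0 := by
  intro k hk
  have h1 : k *ᵥ ((g : Matrix ι ι F) *ᵥ u) =
      (g : Matrix ι ι F) *ᵥ ((((g⁻¹ : GL ι F) : Matrix ι ι F) * k * (g : Matrix ι ι F)) *ᵥ u) := by
    rw [Matrix.mulVec_mulVec, Matrix.mulVec_mulVec, ← mul_assoc, ← mul_assoc,
      Cfsg.Agent.Lib.Helper34_SpExt_QC1.val_mul_inv, one_mul]
  rw [h1, (Cfsg.Agent.Lib.Helper29_OrthOddDefs.mem_isometryGroup_iff Q g).1 hgI]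
  exact hu _ (inv_conj_mem K g hg k hk)

theorem toLin'_inj (g : GL ι F) : Function.Injective (Matrix.toLin' (g : Matrix ι ι F)) := by
  apply Function.LeftInverse.injective (g := Matrix.toLin' ((g⁻¹ : GL ι F) : Matrix ι ι F))
  intro v
  rw [← LinearMap.comp_apply, ← Matrix.toLin'_mul, Cfsg.Agent.Lib.Helper34_SpExt_QC1.val_inv_mul,
    Matrix.toLin'_one, LinearMap.id_apply]

/-- EV30iso: an adjoint-closed subfield `K` of degree 5 in dimension 10 with a non-zero vector `v` such that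
`Q` vanishes on `K v`: the isometries normalising `K` permute two complementary totally singular subspaces -/
theorem EV30iso [Fintype F] (Q : (ι → F) → F) (hQ : IsNondegenerateQuadraticForm Q)
    (hcard : Fintype.card ι = 10)
    (K : Subalgebra F (Matrix ι ι F)) (hK : IsFieldSubalgebra 5 K)
    (hKadj : IsAdjointClosedFor (QuadraticMap.polar Q) K)
    (hiso : ∃ v : ι → F, v ≠ 0 ∧ ∀ k ∈ K, Q (k *ᵥ v) = 0) :
    ∃ D : Fin 2 → Submodule F (ι → F), IsMDecomposition 5 D ∧ (∀ i, IsTotallySingularQuad Q (D i)) ∧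
      subalgebraNormalizer K ⊓ isometryGroup F Q ≤ decompositionStabilizer D := by
  classical
  have : Nonempty ι := by
    rw [← Fintype.card_pos_iff, hcard]; norm_num
  have hsaK := Cfsg.Agent.Lib.Helper59_OrthEven_EV30E.EV30E (QuadraticMap.polar Q) hQ.polar_bilinear
    hQ.nondegenerate (fun u v => QuadraticMap.polar_comm Q u v) K hK hKadj
  obtain ⟨v, hv0, hv⟩ := hiso
  let _ : Field K := (Cfsg.Agent.Lib.Helper34_SpExt_QC1.isField K hK).toField
  have _ : Fintype K := Fintype.ofFinite K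
  let _ : Module K (ι → F) :=
    { smul := fun a v => a.1 *ᵥ v
      one_smul := fun v => Matrix.one_mulVec v
      mul_smul := fun a b v => (Matrix.mulVec_mulVec v a.1 b.1).symm
      smul_zero := fun a => Matrix.mulVec_zero a.1
      smul_add := fun a v w => Matrix.mulVec_add a.1 v w
      add_smul := fun a b v => Matrix.add_mulVec a.1 b.1 v
      zero_smul := fun v => Matrix.zero_mulVec v }
  have hsmul : ∀ (a : K) (u : ι → F), a • u = a.1 *ᵥ u := fun _ _ => rfl
  have _ : IsScalarTower F K (ι → F) := ⟨fun c a v => Matrix.smul_mulVec c a.1 v⟩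
  have hfr : Module.finrank K (ι → F) = 2 := by
    have h := Module.finrank_mul_finrank F K (ι → F)
    rw [hK.finrank_eq, Module.finrank_fintype_fun_eq_card, hcard] at h
    omega
  -- a vector outside `K v`
  have hexw : ∃ w : ι → F, ∀ x : K, w ≠ x • v := by
    by_contra hcon
    push Not at hcon
    have htop : Submodule.span K {v} = ⊤ := by
      rw [eq_top_iff]
      intro w _
      obtain ⟨x, hx⟩ := hcon w
      rw [hx]
      exact Submodule.smul_mem _ _ (Submodule.subset_span rfl)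
    have h1 : Module.finrank K (Submodule.span K {v}) = 1 := finrank_span_singleton hv0
    rw [htop, finrank_top, hfr] at h1
    omega
  obtain ⟨w, hw⟩ := hexw
  have hspan := span_of_finrank_two hfr v w hv0 hw
  have hnd : ∀ u : ι → F, (∀ u' : ι → F, QuadraticMap.polar Q u u' = 0) → u = 0 := by
    intro u hu
    by_contra hne
    obtain ⟨x, hx⟩ := (hQ.nondegenerate u hne).2
    exact hx (hu x)
  obtain ⟨w', hw'Q, hw'v, hclass⟩ := core Q hQ.smul hQ.polar_bilinear.add_left
    hQ.polar_bilinear.smul_left (fun k u x => hsaK k.1 k.2 u x) hnd v w hv0 hw hspan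
    (fun x => hv x.1 x.2)
  have hw'0 : w' ≠ 0 := by
    intro h
    apply hw'v 0
    rw [h, zero_smul]
  have hw'Q' : ∀ k ∈ K, Q (k *ᵥ w') = 0 := fun k hk => hw'Q ⟨k, hk⟩
  have hclass' : ∀ u : ι → F, u ≠ 0 → (∀ k ∈ K, Q (k *ᵥ u) = 0) → Lk K u = Lk K v ∨ Lk K u = Lk K w' := by
    intro u hu0 hu
    rcases hclass u (fun x => hu x.1 x.2) with ⟨x, hx⟩ | ⟨y, hy⟩
    · left
      have hx0 : x.1 ≠ 0 := by
        intro h
        apply hu0
        rw [hx, hsmul, h, Matrix.zero_mulVec]
      rw [hx, hsmul]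
      exact Lk_mulVec K hK x.1 x.2 hx0 v
    · right
      have hy0 : y.1 ≠ 0 := by
        intro h
        apply hu0
        rw [hy, hsmul, h, Matrix.zero_mulVec]
      rw [hy, hsmul]
      exact Lk_mulVec K hK y.1 y.2 hy0 w'
  have hdisj : Disjoint (Lk K v) (Lk K w') := by
    rw [Submodule.disjoint_def]
    rintro u ⟨k, hk, rfl⟩ ⟨k', hk', hkk'⟩
    by_contra hne
    have hk'0 : k' ≠ 0 := by
      intro h
      apply hne
      rw [← hkk', h, Matrix.zero_mulVec]
    obtain ⟨y, hy, hk'y⟩ := hK.inv k' hk' hk'0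
    apply hw'v ⟨y * k, K.mul_mem hy hk⟩
    rw [hsmul]
    show w' = (y * k) *ᵥ v
    rw [← Matrix.mulVec_mulVec, ← hkk', Matrix.mulVec_mulVec, ← hK.comm k' hk' y hy, hk'y,
      Matrix.one_mulVec]
  have hne12 : Lk K v ≠ Lk K w' := by
    intro h
    have h1 : v ∈ Lk K v ⊓ Lk K w' := ⟨self_mem_Lk K v, h ▸ self_mem_Lk K v⟩
    rw [hdisj.eq_bot] at h1
    exact hv0 ((Submodule.mem_bot F).1 h1)
  have hf1 : Module.finrank F (Lk K v) = 5 := finrank_Lk K hK v hv0
  have hf2 : Module.finrank F (Lk K w') = 5 := finrank_Lk K hK w' hw'0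
  have hsup : Lk K v ⊔ Lk K w' = ⊤ := by
    apply Submodule.eq_top_of_finrank_eq
    have h := Submodule.finrank_sup_add_finrank_inf_eq (Lk K v) (Lk K w')
    rw [hdisj.eq_bot, finrank_bot, hf1, hf2] at h
    rw [Module.finrank_fintype_fun_eq_card, hcard]
    omega
  refine ⟨![Lk K v, Lk K w'], ⟨le_refl 2, by norm_num, ?_, ?_, ?_⟩, ?_, ?_⟩
  · intro i
    fin_cases i
    · exact hf1
    · exact hf2
  · rw [iSupIndep_pair (i := (0 : Fin 2)) (j := 1) (by decide) (by decide)]
    exact hdisj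
  · rw [eq_top_iff, ← hsup]
    exact sup_le (le_iSup (![Lk K v, Lk K w'] : Fin 2 → Submodule F (ι → F)) 0)
      (le_iSup (![Lk K v, Lk K w'] : Fin 2 → Submodule F (ι → F)) 1)
  · intro i
    fin_cases i
    · rintro _ ⟨k, hk, rfl⟩
      exact hv k hk
    · rintro _ ⟨k, hk, rfl⟩
      exact hw'Q' k hk
  · rintro g ⟨hgN, hgI⟩
    have hgv0 : (g : Matrix ι ι F) *ᵥ v ≠ 0 := by
      intro h
      apply hv0
      apply toLin'_inj g
      rw [Matrix.toLin'_apply, h, map_zero]
    have hgw0 : (g : Matrix ι ι F) *ᵥ w' ≠ 0 := by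
      intro h
      apply hw'0
      apply toLin'_inj g
      rw [Matrix.toLin'_apply, h, map_zero]
    have h1 := hclass' _ hgv0 (sing_map Q K g hgN hgI v hv)
    have h2 := hclass' _ hgw0 (sing_map Q K g hgN hgI w' hw'Q')
    rw [← map_Lk K g hgN] at h1 h2
    have hne : (Lk K v).map (Matrix.toLin' (g : Matrix ι ι F)) ≠
        (Lk K w').map (Matrix.toLin' (g : Matrix ι ι F)) := fun h =>
      hne12 (Submodule.map_injective_of_injective (toLin'_inj g) h)
    rcases h1 with h1 | h1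
    · rcases h2 with h2 | h2
      · exact absurd (h1.trans h2.symm) hne
      · refine ⟨Equiv.refl _, ?_⟩
        intro i
        fin_cases i
        · exact h1
        · exact h2
    · rcases h2 with h2 | h2
      · refine ⟨Equiv.swap 0 1, ?_⟩
        intro i
        fin_cases i
        · exact h1
        · exact h2
      · exact absurd (h1.trans h2.symm) hne

end concrete

end Cfsg.Agent.Lib.Helper34_OrthEven_EV30iso
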