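import Mathlib
import Cfsg.Agent.Lib.Helper98_AschDefs
import Cfsg.Agent.Lib.Helper23_FormDefs
import Cfsg.Agent.Lib.Helper14_Classes
import Cfsg.Agent.Lib.Helper82_AschSp_SP2

/-!
Packages EV40, EV41, EV42 of helper22's even-dimensional orthogonal market (batch 4):
`Ω` preserves the two families of maximal totally singular subspaces (glue on helper14's
`Helper14_Classes.even_codim_of_mem_omega` and `Helper14_MaxTS`).
-/

set_option autoImplicit false

namespace Cfsg.Agent.Lib.Helper34_OrthEven_EV40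

open Cfsg Cfsg.Geo Matrix Module Cfsg.Agent.Lib.Helper98_AschDefs Cfsg.Agent.Lib.Helper23_FormDefs
  Cfsg.Agent.Lib.Helper14_Classes Cfsg.Agent.Helper14_MaxTS
open scoped Kronecker MatrixGroups

variable {ι : Type} [Fintype ι] [DecidableEq ι] {F : Type*} [Field F]

/-- EV40: `Ω` preserves the two families of maximal totally singular subspaces -/
theorem EV40 [Fintype F] (Q : (ι → F) → F) (hQ : IsNondegenerateQuadraticForm Q) (m : ℕ)
    (hcard : Fintype.card ι = 2 * m) (U : Submodule F (ι → F)) (hU : IsTotallySingularQuad Q U)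
    (hUm : Module.finrank F U = m) (g : GL ι F) (hg : g ∈ omegaGL Q) :
    Even (m + Module.finrank F ↥(U ⊓ U.map (Matrix.toLin' (g : Matrix ι ι F)))) := by
  obtain ⟨g', hg', rfl⟩ := hg
  have h := even_codim_of_mem_omega (toQF Q hQ) (nondegenerate_toQF Q hQ) hcard (U := U)
    (fun u hu => hU u hu) hUm (g := g') hg'
  have hle : finrank F ↥(U ⊓ U.map (Matrix.toLin' ((g' : GL ι F) : Matrix ι ι F))) ≤ m :=
    hUm ▸ Submodule.finrank_mono inf_le_left
  have h' : Even (m - finrank F ↥(U ⊓ U.map (Matrix.toLin' ((g' : GL ι F) : Matrix ι ι F)))) := h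
  rw [Nat.even_sub hle] at h'
  show Even (m + finrank F ↥(U ⊓ U.map (Matrix.toLin' ((g' : GL ι F) : Matrix ι ι F))))
  rw [Nat.even_add]
  exact h'

/-- EV41: in plus type the stabiliser in `Ω` of a totally singular subspace of dimension `m - 1` fixes a totally singular
subspace of dimension `m` containing it -/
theorem EV41 [Fintype F] (Q : (ι → F) → F) (hQ : IsNondegenerateQuadraticForm Q) (m : ℕ)
    (hcard : Fintype.card ι = 2 * m) (hplus : IsPlusTypeOn Q ⊤)
    (W : Submodule F (ι → F)) (hW : IsTotallySingularQuad Q W) (hWm : Module.finrank F W + 1 = m) :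
    ∃ U : Submodule F (ι → F), W ≤ U ∧ IsTotallySingularQuad Q U ∧ Module.finrank F U = m ∧
      subspaceStabilizer W ⊓ omegaGL Q ≤ subspaceStabilizer U := by
  classical
  have hnd := nondegenerate_toQF Q hQ
  have hV : finrank F (ι → F) = 2 * m := by rw [Module.finrank_fintype_fun_eq_card]; exact hcard
  obtain ⟨X, -, hX, hXd⟩ := hplus
  have hXm : finrank F X = m := by
    rw [finrank_top, hV] at hXd
    omega
  have hX' : ∀ u ∈ X, toQF Q hQ u = 0 := fun u hu => hX u hu
  have hW' : ∀ u ∈ W, toQF Q hQ u = 0 := fun u hu => hW u hu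
  obtain ⟨x, hxX, hxo, hxn⟩ := exists_ext (toQF Q hQ) hnd hV hX' hXm hW' hWm
  have hx : toQF Q hQ x = 0 := hX' x hxX
  obtain ⟨z, hz, hzo, hxz⟩ := exists_pair (toQF Q hQ) hnd hV hW' hWm hx hxo hxn
  have hzn : z ∉ W := not_mem_of_pol_ne (toQF Q hQ) hnd hV hxo (by rwa [pol_comm (toQF Q hQ) z x])
  obtain ⟨hU1, hU1m⟩ := mts_sup_span (toQF Q hQ) hnd hV hW' hWm hx hxo hxn
  obtain ⟨hU2, hU2m⟩ := mts_sup_span (toQF Q hQ) hnd hV hW' hWm hz hzo hzn
  have hne : W ⊔ Submodule.span F {x} ≠ W ⊔ Submodule.span F {z} :=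
    pair_distinct (toQF Q hQ) hnd hV hx hxo hxz
  refine ⟨W ⊔ Submodule.span F {x}, le_sup_left, fun u hu => hU1 u hu, hU1m, ?_⟩
  intro g hg
  obtain ⟨hgW, hgΩ⟩ := Subgroup.mem_inf.1 hg
  rw [Cfsg.Agent.Lib.Helper14_Classes.mem_subspaceStabilizer_iff] at hgW ⊢
  have hev := EV40 Q hQ m hcard (W ⊔ Submodule.span F {x}) (fun u hu => hU1 u hu) hU1m g hgΩ
  obtain ⟨g', hg', hgg'⟩ := hgΩ
  have hgval : ((g' : GL ι F) : Matrix ι ι F) = (g : Matrix ι ι F) := by rw [← hgg']; rfl
  have hgU1 : ∀ u ∈ gmap (g : Matrix ι ι F) (W ⊔ Submodule.span F {x}), toQF Q hQ u = 0 := by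
    rw [← hgval]
    exact ts_gmap (toQF Q hQ) g' hU1
  have hgU1m : finrank F ↥(gmap (g : Matrix ι ι F) (W ⊔ Submodule.span F {x})) = m := by
    rw [finrank_gmap, hU1m]
  have hWle : W ≤ gmap (g : Matrix ι ι F) (W ⊔ Submodule.span F {x}) := by
    conv_lhs => rw [← hgW]
    exact Submodule.map_mono le_sup_left
  rcases pair_unique (toQF Q hQ) hnd hV hW' hWm hx hz hxo hzo hxz hgU1 hgU1m hWle with h | h
  · exact h
  · exfalso
    have hev' : Even (m + finrank F
        ↥((W ⊔ Submodule.span F {x}) ⊓ gmap (g : Matrix ι ι F) (W ⊔ Submodule.span F {x}))) := hev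
    rw [h] at hev'
    have h1 : finrank F W ≤
        finrank F ↥((W ⊔ Submodule.span F {x}) ⊓ (W ⊔ Submodule.span F {z})) :=
      Submodule.finrank_mono (le_inf le_sup_left le_sup_left)
    have h2 : finrank F ↥((W ⊔ Submodule.span F {x}) ⊓ (W ⊔ Submodule.span F {z})) < m := by
      by_contra hge
      push Not at hge
      have e1 : (W ⊔ Submodule.span F {x}) ⊓ (W ⊔ Submodule.span F {z}) =
          W ⊔ Submodule.span F {x} :=
        Submodule.eq_of_le_of_finrank_le inf_le_left (by rw [hU1m]; exact hge)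
      have e2 : W ⊔ Submodule.span F {x} ≤ W ⊔ Submodule.span F {z} := by
        rw [← e1]; exact inf_le_right
      exact hne (Submodule.eq_of_le_of_finrank_eq e2 (by rw [hU1m, hU2m]))
    obtain ⟨k, hk⟩ := hev'
    omega

/-- EV42: `Ω` does not interchange two complementary totally singular subspaces of odd dimension -/
theorem EV42 [Fintype F] (Q : (ι → F) → F) (hQ : IsNondegenerateQuadraticForm Q) (m : ℕ) (hm : Odd m)
    (D : Fin 2 → Submodule F (ι → F)) (hD : IsMDecomposition m D)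
    (hts : ∀ i, IsTotallySingularQuad Q (D i)) :
    decompositionStabilizer D ⊓ omegaGL Q ≤ subspaceStabilizer (D 0) := by
  intro g hg
  obtain ⟨hgD, hgΩ⟩ := Subgroup.mem_inf.1 hg
  obtain ⟨σ, hσ⟩ := hgD
  have hcard : Fintype.card ι = 2 * m :=
    (Cfsg.Agent.Lib.Helper82_AschSp_SP2.two_mul_eq_card hD).symm
  rw [Cfsg.Agent.Lib.Helper14_Classes.mem_subspaceStabilizer_iff]
  have h0 := hσ 0
  by_cases hs : σ 0 = 0
  · rw [hs] at h0
    exact h0
  · exfalso
    have hs1 : σ 0 = 1 := by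
      rcases Fin.exists_fin_two.1 ⟨σ 0, rfl⟩ with h | h
      · exact absurd h hs
      · exact h
    rw [hs1] at h0
    have hev := EV40 Q hQ m hcard (D 0) (hts 0) (hD.finrank_eq 0) g hgΩ
    rw [h0, (Cfsg.Agent.Lib.Helper82_AschSp_SP2.isCompl_of_decomp hD).inf_eq_bot, finrank_bot,
      add_zero] at hev
    exact (Nat.not_even_iff_odd.2 hm) hev

end Cfsg.Agent.Lib.Helper34_OrthEven_EV40
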