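import Mathlib
import Cfsg.Agent.Lib.Helper98_AschDefs
import Cfsg.Agent.Lib.Helper23_FormDefs
import Cfsg.Agent.Lib.Helper29_OrthOddDefs
import Cfsg.Agent.Lib.Helper34_OrthOdd_OP4b
import Cfsg.Agent.Lib.Helper82_AschSp_SP4a
import Cfsg.Agent.Lib.Helper26_AschSp_SP4b
import Cfsg.Agent.Lib.Helper22_OrthEven_Basic
import Cfsg.Agent.Lib.Helper14_Classes

/-!
Package EV49 of helper22's even-dimensional orthogonal market (batch 4): a tensor decomposition of the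
polar form whose second factor is a hyperbolic binary form: the group permutes two complementary totally
singular subspaces.

Twin of `Helper34_OrthEven_EV26`: `J = P (1 ⊗ j0 G₂) P⁻¹` is skew-adjoint with `J² = - det G₂ = μ²`
(hyperbolic), the two subspaces are the eigenspaces `ker (J ∓ μ)` (helper26's `eig`).
-/

set_option autoImplicit false

namespace Cfsg.Agent.Lib.Helper34_OrthEven_EV49

open Cfsg Cfsg.Geo Matrix Cfsg.Agent.Lib.Helper98_AschDefs Cfsg.Agent.Lib.Helper23_FormDefs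
  Cfsg.Agent.Lib.Helper34_OrthOdd_OP4b Cfsg.Agent.Lib.Helper82_AschSp_SP4a
open scoped Kronecker MatrixGroups

variable {ι : Type} [Fintype ι] [DecidableEq ι] {F : Type*} [Field F]

/-- a totally singular subspace has at most half the dimension -/
theorem two_mul_finrank_le (Q : (ι → F) → F) (hQ : IsNondegenerateQuadraticForm Q)
    (U : Submodule F (ι → F)) (hU : ∀ u ∈ U, Q u = 0) :
    2 * Module.finrank F U ≤ Fintype.card ι := by
  have hle := Cfsg.Agent.Helper14_MaxTS.ts_le_orth (Cfsg.Agent.Lib.Helper14_Classes.toQF Q hQ)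
    (U := U) (fun u hu => hU u hu)
  have h1 := Submodule.finrank_mono hle
  rw [LinearMap.BilinForm.finrank_orthogonal
    (Cfsg.Agent.Lib.Helper14_Classes.nondegenerate_toQF Q hQ),
    Module.finrank_fintype_fun_eq_card] at h1
  omega

/-- a hyperbolic binary symmetric form has square `- det` -/
theorem square_of_hyp (f₂ : (Fin 2 → F) → (Fin 2 → F) → F) (hf₂ : IsBilinearForm f₂)
    (hs : gramMatrix f₂ 1 0 = gramMatrix f₂ 0 1)
    (hplus : IsPlusTypeOn (fun v : Fin 2 → F => f₂ v v) ⊤) :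
    ∃ μ : F, -(gramMatrix f₂).det = μ * μ := by
  obtain ⟨U, -, hU, hd⟩ := hplus
  set G := gramMatrix f₂ with hG
  have hval : ∀ v : Fin 2 → F,
      f₂ v v = G 0 0 * v 0 * v 0 + 2 * G 0 1 * v 0 * v 1 + G 1 1 * v 1 * v 1 := by
    intro v
    rw [form_eq_gram f₂ hf₂]
    simp only [dotProduct, Matrix.mulVec, Fin.sum_univ_two, ← hG, hs]
    ring
  have hdet : G.det = G 0 0 * G 1 1 - G 0 1 * G 0 1 := by
    rw [Matrix.det_fin_two, hs]
  have hUne : U ≠ ⊥ := by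
    intro h
    rw [h, finrank_bot, finrank_top, Module.finrank_fin_fun] at hd
    omega
  obtain ⟨y, hyU, hy0⟩ := Submodule.exists_mem_ne_zero_of_ne_bot hUne
  have hyy : f₂ y y = 0 := hU y hyU
  rw [hval] at hyy
  by_cases h1 : y 1 = 0
  · have h0 : y 0 ≠ 0 := by
      intro h0
      apply hy0
      funext i
      fin_cases i
      · exact h0
      · exact h1
    rw [h1] at hyy
    have ha : G 0 0 = 0 := by
      have h3 : G 0 0 * (y 0 * y 0) = 0 := by linear_combination hyy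
      rcases mul_eq_zero.1 h3 with h | h
      · exact h
      · exact absurd (mul_self_eq_zero.1 h) h0
    refine ⟨G 0 1, ?_⟩
    rw [hdet, ha]
    ring
  · refine ⟨(G 0 0 * y 0 + G 0 1 * y 1) / y 1, ?_⟩
    rw [hdet]
    field_simp
    linear_combination (-(G 0 0)) * hyy

/-- EV49: a tensor decomposition of the polar form with a hyperbolic binary second factor: the group permutes two
complementary totally singular subspaces -/
theorem EV49 [Fintype F] (Q : (ι → F) → F) (hQ : IsNondegenerateQuadraticForm Q) (h2 : (2 : F) ≠ 0)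
    (n₁ : ℕ) (hn₁ : 0 < n₁) (e : ι ≃ Fin n₁ × Fin 2) (P : GL ι F)
    (f₁ : (Fin n₁ → F) → (Fin n₁ → F) → F) (f₂ : (Fin 2 → F) → (Fin 2 → F) → F)
    (hf₁ : IsSymmetricForm f₁) (hf₂ : IsSymmetricForm f₂)
    (hten : IsTensorFormStructure id (QuadraticMap.polar Q) f₁ f₂ e P)
    (hplus : IsPlusTypeOn (fun v : Fin 2 → F => f₂ v v) ⊤) :
    ∃ D : Fin 2 → Submodule F (ι → F), IsMDecomposition n₁ D ∧ (∀ i, IsTotallySingularQuad Q (D i)) ∧
      tensorProductSubgroup n₁ 2 e P ⊓ isometryGroup F Q ≤ decompositionStabilizer D := by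
  classical
  obtain ⟨c₀, hc₀, hform⟩ := hten
  have bil : IsBilinearForm (QuadraticMap.polar Q) := hQ.polar_bilinear
  set G₁ := gramMatrix f₁ with hG₁
  set G₂ := gramMatrix f₂ with hG₂
  have hG₂s : G₂ᵀ = G₂ := by
    ext i j
    rw [Matrix.transpose_apply]
    exact hf₂.symm _ _
  have hG₂' : G₂ 1 0 = G₂ 0 1 := hf₂.symm _ _
  have hform' : ∀ x y : Fin n₁ × Fin 2 → F,
      QuadraticMap.polar Q ((P : Matrix ι ι F) *ᵥ (x ∘ e)) ((P : Matrix ι ι F) *ᵥ (y ∘ e)) =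
        c₀ * (x ⬝ᵥ (G₁ ⊗ₖ G₂) *ᵥ y) := by
    intro x y
    rw [hform, formOfGram_id]
  obtain ⟨μ, hμ⟩ := square_of_hyp f₂ hf₂.bilinear hG₂' hplus
  have hdet0 : G₂.det ≠ 0 := by
    intro h0
    obtain ⟨v, hv, hGv⟩ := Matrix.exists_mulVec_eq_zero_iff.2 h0
    obtain ⟨⟨x, hx⟩, -⟩ := hf₂.nondegenerate v hv
    apply hx
    rw [form_eq_gram f₂ hf₂.bilinear, ← hG₂, hGv, dotProduct_zero]
  have hdetU : IsUnit G₂.det := isUnit_iff_ne_zero.2 hdet0
  have hμ0 : μ ≠ 0 := by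
    rintro rfl
    apply hdet0
    have : -G₂.det = 0 := by rw [hμ]; ring
    exact neg_eq_zero.1 this
  have h2μ : (2 : F) * μ ≠ 0 := mul_ne_zero h2 hμ0
  have h2μ' : (2 : F) * (-μ) ≠ 0 := mul_ne_zero h2 (neg_ne_zero.2 hμ0)
  set J : Matrix ι ι F := conjP e P ((1 : Matrix (Fin n₁) (Fin n₁) F) ⊗ₖ j0 G₂) with hJ
  have hkk : ∀ (X X' : Matrix (Fin n₁) (Fin n₁) F) (Y Y' : Matrix (Fin 2) (Fin 2) F),
      (X ⊗ₖ Y) * (X' ⊗ₖ Y') = (X * X') ⊗ₖ (Y * Y') := fun X X' Y Y' =>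
    (Matrix.mul_kronecker_mul X X' Y Y').symm
  have hJ2 : J * J = (μ * μ) • (1 : Matrix ι ι F) := by
    rw [hJ, ← conjP_mul, hkk, one_mul, j0_sq G₂ hG₂', hμ]
    have : (1 : Matrix (Fin n₁) (Fin n₁) F) ⊗ₖ ((μ * μ) • (1 : Matrix (Fin 2) (Fin 2) F)) =
        (μ * μ) • (1 : Matrix (Fin n₁ × Fin 2) (Fin n₁ × Fin 2) F) := by
      rw [Matrix.kronecker_smul, Matrix.one_kronecker_one]
    rw [this, conjP_smul, conjP_one]
  -- skew-adjointness of `J`
  have hskew : ∀ u v, QuadraticMap.polar Q (J *ᵥ u) v = - QuadraticMap.polar Q u (J *ᵥ v) := by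
    intro u v
    obtain ⟨x, rfl⟩ := exists_coord e P u
    obtain ⟨y, rfl⟩ := exists_coord e P v
    rw [hJ, conjP_mulVec, conjP_mulVec, hform', hform']
    have h1 : (((1 : Matrix (Fin n₁) (Fin n₁) F) ⊗ₖ j0 G₂) *ᵥ x) ⬝ᵥ (G₁ ⊗ₖ G₂) *ᵥ y =
        x ⬝ᵥ (((1 : Matrix (Fin n₁) (Fin n₁) F) ⊗ₖ j0 G₂)ᵀ * (G₁ ⊗ₖ G₂)) *ᵥ y := by
      rw [← Matrix.mulVec_mulVec, Matrix.dotProduct_mulVec x, Matrix.vecMul_transpose]
    have h3 : ((1 : Matrix (Fin n₁) (Fin n₁) F) ⊗ₖ j0 G₂)ᵀ * (G₁ ⊗ₖ G₂) =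
        -((G₁ ⊗ₖ G₂) * ((1 : Matrix (Fin n₁) (Fin n₁) F) ⊗ₖ j0 G₂)) := by
      rw [← Matrix.kroneckerMap_transpose, Matrix.transpose_one, hkk, hkk, one_mul, mul_one,
        j0_skew G₂ hG₂']
      ext p q
      simp [Matrix.kroneckerMap_apply]
    rw [h1, h3, Matrix.neg_mulVec, dotProduct_neg, Matrix.mulVec_mulVec]
    ring
  -- the eigenspaces
  set D : Fin 2 → Submodule F (ι → F) :=
    ![Cfsg.Agent.Lib.Helper26_AschSp_SP4b.eig J μ, Cfsg.Agent.Lib.Helper26_AschSp_SP4b.eig J (-μ)]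
    with hD
  have hD0 : D 0 = Cfsg.Agent.Lib.Helper26_AschSp_SP4b.eig J μ := rfl
  have hD1 : D 1 = Cfsg.Agent.Lib.Helper26_AschSp_SP4b.eig J (-μ) := rfl
  have hcompl : IsCompl (D 0) (D 1) :=
    Cfsg.Agent.Lib.Helper26_AschSp_SP4b.eig_isCompl J μ hJ2 h2μ
  have hts' : ∀ a : F, (2 : F) * a ≠ 0 →
      ∀ u ∈ Cfsg.Agent.Lib.Helper26_AschSp_SP4b.eig J a, Q u = 0 := by
    intro a h2a u hu
    have h := hskew u u
    rw [Cfsg.Agent.Lib.Helper26_AschSp_SP4b.mem_eig.1 hu, bil.smul_left, bil.smul_right,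
      Cfsg.Agent.Lib.Helper22_OrthEven_Basic.polar_self Q hQ u] at h
    have h3 : ((2 : F) * a) * ((2 : F) * Q u) = 0 := by linear_combination h
    rcases mul_eq_zero.1 h3 with h4 | h4
    · exact absurd h4 h2a
    · exact (mul_eq_zero.1 h4).resolve_left h2
  have hts : ∀ i, IsTotallySingularQuad Q (D i) := by
    intro i
    fin_cases i
    · exact hts' μ h2μ
    · exact hts' (-μ) h2μ'
  have hcardι : Fintype.card ι = n₁ * 2 := by
    rw [Fintype.card_congr e, Fintype.card_prod, Fintype.card_fin, Fintype.card_fin]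
  have hsum := Submodule.finrank_add_eq_of_isCompl hcompl
  rw [Module.finrank_fintype_fun_eq_card, hcardι] at hsum
  have hle0 := two_mul_finrank_le Q hQ (D 0) (hts 0)
  have hle1 := two_mul_finrank_le Q hQ (D 1) (hts 1)
  rw [hcardι] at hle0 hle1
  have hdec : IsMDecomposition n₁ D := by
    refine ⟨le_refl 2, hn₁, ?_, ?_, ?_⟩
    · intro i
      fin_cases i
      · show Module.finrank F (D 0) = n₁
        omega
      · show Module.finrank F (D 1) = n₁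
        omega
    · rw [iSupIndep_pair (i := (0 : Fin 2)) (j := 1) (by decide) (by decide)]
      exact hcompl.disjoint
    · rw [eq_top_iff, ← hcompl.sup_eq_top]
      exact sup_le (le_iSup D 0) (le_iSup D 1)
  have hG₁0 : G₁ ≠ 0 := by
    intro h0
    set v : Fin n₁ → F := Pi.single ⟨0, hn₁⟩ 1 with hv
    have hvne : v ≠ 0 := by
      intro h
      have := congrFun h ⟨0, hn₁⟩
      simp [hv] at this
    obtain ⟨-, x, hx⟩ := hf₁.nondegenerate v hvne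
    apply hx
    rw [form_eq_gram f₁ hf₁.bilinear, ← hG₁, h0, Matrix.zero_mulVec, dotProduct_zero]
  have hG₂0 : G₂ ≠ 0 := ne_zero_of_isUnit_det (by decide) hdetU
  refine ⟨D, hdec, hts, ?_⟩
  intro g hg
  obtain ⟨hgT, hgI⟩ := Subgroup.mem_inf.1 hg
  -- `g` is a Kronecker product in the coordinates
  obtain ⟨y, ⟨k, ⟨α, γ, hk⟩, rfl⟩, hy⟩ := hgT
  set αm : Matrix (Fin n₁) (Fin n₁) F := (α : Matrix (Fin n₁) (Fin n₁) F) with hαm
  set γm : Matrix (Fin 2) (Fin 2) F := (γ : Matrix (Fin 2) (Fin 2) F) with hγm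
  have hval : (g : Matrix ι ι F) = conjP e P (αm ⊗ₖ γm) := by
    rw [← hy, ← hk]
    simp only [MulEquiv.coe_toMonoidHom, MulAut.conj_apply, Units.val_mul]
    rfl
  -- `γ` is a similitude of `G₂`
  have hT : (αm ⊗ₖ γm)ᵀ * (G₁ ⊗ₖ G₂) * (αm ⊗ₖ γm) = G₁ ⊗ₖ G₂ := by
    apply eq_of_dot_eq
    intro x y
    have := Cfsg.Agent.Lib.Helper29_OrthOddDefs.polar_mulVec_of_mem Q hgI
      ((P : Matrix _ _ F) *ᵥ (x ∘ e)) ((P : Matrix _ _ F) *ᵥ (y ∘ e))
    rw [hval, conjP_mulVec, conjP_mulVec, hform', hform', mulVec_dot_mulVec] at this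
    exact mul_left_cancel₀ hc₀ this
  have hT' : (αmᵀ * G₁ * αm) ⊗ₖ (γmᵀ * G₂ * γm) = G₁ ⊗ₖ G₂ := by
    rw [← hT, ← Matrix.kroneckerMap_transpose, hkk, hkk]
  obtain ⟨c, hc0, hc⟩ := kron_prop hG₁0 hG₂0 hT'
  have hcomm : (αm ⊗ₖ γm) * ((1 : Matrix (Fin n₁) (Fin n₁) F) ⊗ₖ j0 G₂) =
      αm ⊗ₖ (γm * j0 G₂) := by rw [hkk, mul_one]
  have hcomm' : ((1 : Matrix (Fin n₁) (Fin n₁) F) ⊗ₖ j0 G₂) * (αm ⊗ₖ γm) =
      αm ⊗ₖ (j0 G₂ * γm) := by rw [hkk, one_mul]
  rcases j0_simil G₂ γm hG₂s hdetU c hc0 hc with h1 | h1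
  · have hrel : (g : Matrix ι ι F) * J = (1 : F) • (J * (g : Matrix ι ι F)) := by
      rw [one_smul, hval, hJ, ← conjP_mul, ← conjP_mul, hcomm, hcomm', h1]
    refine ⟨Equiv.refl _, ?_⟩
    intro i
    fin_cases i
    · show (D 0).map _ = D 0
      rw [hD0, Cfsg.Agent.Lib.Helper26_AschSp_SP4b.map_eig g J 1 μ (by ring) hrel, one_mul]
    · show (D 1).map _ = D 1
      rw [hD1, Cfsg.Agent.Lib.Helper26_AschSp_SP4b.map_eig g J 1 (-μ) (by ring) hrel, one_mul]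
  · have hneg : αm ⊗ₖ (-(j0 G₂ * γm)) = -(αm ⊗ₖ (j0 G₂ * γm)) := by
      ext p q
      simp [Matrix.kroneckerMap_apply]
    have hrel : (g : Matrix ι ι F) * J = (-1 : F) • (J * (g : Matrix ι ι F)) := by
      rw [neg_one_smul, hval, hJ, ← conjP_mul, ← conjP_mul, ← conjP_neg, hcomm, hcomm', h1, hneg]
    refine ⟨Equiv.swap 0 1, ?_⟩
    intro i
    fin_cases i
    · show (D 0).map _ = D (Equiv.swap 0 1 0)
      rw [Equiv.swap_apply_left, hD0, hD1,
        Cfsg.Agent.Lib.Helper26_AschSp_SP4b.map_eig g J (-1) μ (by ring) hrel, neg_one_mul]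
    · show (D 1).map _ = D (Equiv.swap 0 1 1)
      rw [Equiv.swap_apply_right, hD0, hD1,
        Cfsg.Agent.Lib.Helper26_AschSp_SP4b.map_eig g J (-1) (-μ) (by ring) hrel, neg_one_mul,
        neg_neg]

end Cfsg.Agent.Lib.Helper34_OrthEven_EV49
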