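/-
helper42: package EV47 of helper22's even-dimensional orthogonal rows (batch 4):
a subfield of degree 2 of unitary type in dimension `2 m`, `m` odd, forces minus type.

Proof.  Let `U` be totally singular of dimension `m`; then `U = U^⊥`.  For the generator `θ` of `K` the form
`a (u, u') = f (θ u, u')` is alternating on `U` (because `θ` and `1 + θ` are similarities of `Q`), its radical is
`R = U ∩ θ⁻¹ U`, which is `θ`-stable, hence of even dimension (`θ` has a quadratic minimal polynomial and no
eigenvector); the rank `m - dim R` of an alternating form is even too: `m` is even.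
-/
import Mathlib
import Cfsg.Prelude.Def_GeometricClasses
import Cfsg.Agent.Lib.Helper22_OrthEven_Basic
import Cfsg.Agent.Lib.Helper43_AltEven
import Cfsg.Agent.Lib.Helper47_OrthEven_EV24b

set_option autoImplicit false

namespace Cfsg.Agent.Lib.Helper42_OrthEven_EV47

open Cfsg Cfsg.Geo Matrix Module Cfsg.Agent.Lib.Helper22_OrthEven_Basic

section parity

variable {F : Type*} [Field F] {V : Type*} [AddCommGroup V] [Module F V] [FiniteDimensional F V]

/-- a subspace stable under an operator with a quadratic relation and no eigenvector has even dimension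
(induction step packaged as an induction on the codimension of a stable even-dimensional subspace) -/
theorem even_finrank_aux (T : V →ₗ[F] V) (α β : F)
    (hT : ∀ v, T (T v) = α • v + β • T v)
    (hne : ∀ (c : F) (v : V), T v = c • v → v = 0) (R : Submodule F V) (hR : ∀ w ∈ R, T w ∈ R) :
    ∀ (k : ℕ) (W : Submodule F V), W ≤ R → (∀ w ∈ W, T w ∈ W) → Even (finrank F W) →
      finrank F R - finrank F W = k → Even (finrank F R) := by
  intro k
  induction k using Nat.strong_induction_on with
  | _ k ih =>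
  intro W hWR hW hev hk
  by_cases hEq : W = R
  · rw [← hEq]; exact hev
  have hlt : W < R := lt_of_le_of_ne hWR hEq
  obtain ⟨v, hvR, hvW⟩ := SetLike.exists_of_lt hlt
  have hv0 : v ≠ 0 := fun h => hvW (h ▸ W.zero_mem)
  -- the plane `P = ⟨v, T v⟩`
  have hli : LinearIndependent F ![v, T v] := by
    rw [LinearIndependent.pair_iff]
    intro s t hst
    by_cases ht : t = 0
    · subst ht
      rw [zero_smul, add_zero] at hst
      rcases smul_eq_zero.1 hst with h | h
      · exact ⟨h, rfl⟩
      · exact absurd h hv0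
    · exfalso
      apply hv0
      apply hne (-(s / t)) v
      have h1 : t • T v = -(s • v) := eq_neg_of_add_eq_zero_right hst
      have h2 : T v = t⁻¹ • (t • T v) := by rw [smul_smul, inv_mul_cancel₀ ht, one_smul]
      rw [h2, h1, smul_neg, smul_smul, neg_smul]
      congr 2
      field_simp
  obtain ⟨P, hP⟩ : ∃ P : Submodule F V, P = Submodule.span F {v, T v} := ⟨_, rfl⟩
  have hP2 : finrank F P = 2 := by
    have h2 : finrank F (Submodule.span F (Set.range ![v, T v])) = 2 := by
      rw [finrank_span_eq_card hli, Fintype.card_fin]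
    have hset : Set.range ![v, T v] = {v, T v} := by
      simp [Matrix.range_cons, Set.pair_comm]
    rw [hset] at h2
    rw [hP]; exact h2
  have hPmem : ∀ x, x ∈ P ↔ ∃ s t : F, s • v + t • T v = x := by
    intro x; rw [hP, Submodule.mem_span_pair]
  have hPR : P ≤ R := by
    rw [hP, Submodule.span_le]
    rintro x (rfl | rfl)
    · exact hvR
    · exact hR _ hvR
  have hPT : ∀ x ∈ P, T x ∈ P := by
    intro x hx
    obtain ⟨s, t, rfl⟩ := (hPmem x).1 hx
    rw [hPmem]
    refine ⟨t * α, s + t * β, ?_⟩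
    rw [map_add, map_smul, map_smul, hT v, smul_add, smul_smul, smul_smul, add_smul]
    abel
  -- `W ∩ P = 0`
  have hinf : W ⊓ P = ⊥ := by
    rw [eq_bot_iff]
    rintro x ⟨hxW, hxP⟩
    rw [Submodule.mem_bot]
    obtain ⟨s, t, hx⟩ := (hPmem x).1 hxP
    have hTx : T x = (t * α) • v + (s + t * β) • T v := by
      rw [← hx, map_add, map_smul, map_smul, hT v, smul_add, smul_smul, smul_smul, add_smul]
      abel
    have hz : (s + t * β) • x - t • T x = (s * s + β * s * t - α * t * t) • v := by
      rw [hTx, ← hx]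
      module
    have hzW : (s + t * β) • x - t • T x ∈ W :=
      W.sub_mem (W.smul_mem _ hxW) (W.smul_mem _ (hW x hxW))
    have hd : s * s + β * s * t - α * t * t = 0 := by
      by_contra hd
      apply hvW
      have : v = (s * s + β * s * t - α * t * t)⁻¹ • ((s + t * β) • x - t • T x) := by
        rw [hz, smul_smul, inv_mul_cancel₀ hd, one_smul]
      rw [this]
      exact W.smul_mem _ hzW
    rw [hd, zero_smul, sub_eq_zero] at hz
    by_cases ht : t = 0
    · subst ht
      have hs : s = 0 := by
        have : s * s = 0 := by simpa using hd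
        exact mul_self_eq_zero.1 this
      rw [← hx, hs, zero_smul, zero_smul, add_zero]
    · apply hne ((s + t * β) / t) x
      have h2 : T x = t⁻¹ • (t • T x) := by rw [smul_smul, inv_mul_cancel₀ ht, one_smul]
      rw [h2, ← hz, smul_smul]
      congr 1
      field_simp
  have hsum : finrank F ↥(W ⊔ P) = finrank F W + 2 := by
    have h := Submodule.finrank_sup_add_finrank_inf_eq W P
    rw [hinf, finrank_bot, add_zero, hP2] at h
    exact h
  have hle : finrank F ↥(W ⊔ P) ≤ finrank F R := Submodule.finrank_mono (sup_le hWR hPR)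
  have hWle : finrank F W ≤ finrank F R := Submodule.finrank_mono hWR
  refine ih (finrank F R - finrank F ↥(W ⊔ P)) (by omega) (W ⊔ P) (sup_le hWR hPR) ?_ ?_ rfl
  · intro w hw
    obtain ⟨a, ha, p, hp, rfl⟩ := Submodule.mem_sup.1 hw
    rw [map_add]
    exact Submodule.add_mem _ (Submodule.mem_sup_left (hW a ha)) (Submodule.mem_sup_right (hPT p hp))
  · rw [hsum]
    exact hev.add (even_two)

/-- a subspace stable under an operator with a quadratic relation and no eigenvector has even dimension -/
theorem even_finrank_of_stable (T : V →ₗ[F] V) (α β : F)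
    (hT : ∀ v, T (T v) = α • v + β • T v)
    (hne : ∀ (c : F) (v : V), T v = c • v → v = 0) (R : Submodule F V) (hR : ∀ w ∈ R, T w ∈ R) :
    Even (finrank F R) := by
  refine even_finrank_aux T α β hT hne R hR _ ⊥ bot_le ?_ ?_ rfl
  · intro w hw
    rw [Submodule.mem_bot] at hw
    rw [hw, map_zero]
    exact Submodule.zero_mem _
  · rw [finrank_bot]; exact ⟨0, rfl⟩

end parity

variable {ι : Type} [Fintype ι] [DecidableEq ι] {F : Type*} [Field F]

/-- EV47: a subfield of degree 2 of unitary type in dimension `2 m`, `m` odd: minus type -/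
theorem EV47 [Fintype F] (Q : (ι → F) → F) (hQ : IsNondegenerateQuadraticForm Q) (m : ℕ) (hm : Odd m)
    (hcard : Fintype.card ι = 2 * m) (K : Subalgebra F (Matrix ι ι F)) (hK : IsFieldSubalgebra 2 K)
    (hKadj : IsAdjointClosedFor (QuadraticMap.polar Q) K) (hnsa : ¬ IsSelfAdjointFor (QuadraticMap.polar Q) K)
    (hsim : ∀ k ∈ K, ∃ c : F, ∀ v : ι → F, Q (k *ᵥ v) = c * Q v) : ¬ IsPlusTypeOn Q ⊤ := by
  classical
  have hb := hQ.polar_bilinear
  have hsymm : ∀ u v, QuadraticMap.polar Q u v = QuadraticMap.polar Q v u :=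
    fun u v => QuadraticMap.polar_comm Q u v
  have hne : Nonempty ι := by
    rw [← Fintype.card_pos_iff, hcard]
    obtain ⟨j, rfl⟩ := hm
    omega
  obtain ⟨θ, a, b, hθK, hdecomp, _, _⟩ :=
    Cfsg.Agent.Lib.Helper47_OrthEven_EV24b.exists_generator Q hQ K hK hKadj hnsa
  -- the quadratic relation
  obtain ⟨α, β, hθθ⟩ := hdecomp (θ * θ) (K.mul_mem hθK hθK)
  -- `θ` is not a scalar
  have hns : ∀ c : F, θ ≠ c • (1 : Matrix ι ι F) := by
    intro c hc
    apply hnsa
    intro k hk u v
    obtain ⟨s, t, rfl⟩ := hdecomp k hk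
    rw [hc, smul_smul, ← add_smul, Matrix.smul_mulVec, Matrix.smul_mulVec, Matrix.one_mulVec,
      Matrix.one_mulVec, hb.smul_left, hb.smul_right]
  -- no eigenvector
  have hnoeig : ∀ (c : F) (v : ι → F), θ *ᵥ v = c • v → v = 0 := by
    intro c v hv
    have hmem : θ - c • (1 : Matrix ι ι F) ∈ K := K.sub_mem hθK (K.smul_mem K.one_mem c)
    have hne0 : θ - c • (1 : Matrix ι ι F) ≠ 0 := fun h => hns c (sub_eq_zero.1 h)
    obtain ⟨y, hyK, hy⟩ := hK.inv _ hmem hne0
    have hy' : y * (θ - c • (1 : Matrix ι ι F)) = 1 := by rw [← hK.comm _ hmem _ hyK]; exact hy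
    have h0 : (θ - c • (1 : Matrix ι ι F)) *ᵥ v = 0 := by
      rw [Matrix.sub_mulVec, Matrix.smul_mulVec, Matrix.one_mulVec, hv, sub_self]
    calc v = (1 : Matrix ι ι F) *ᵥ v := (Matrix.one_mulVec v).symm
      _ = y *ᵥ ((θ - c • (1 : Matrix ι ι F)) *ᵥ v) := by rw [Matrix.mulVec_mulVec, hy']
      _ = 0 := by rw [h0, Matrix.mulVec_zero]
  obtain ⟨T, hTdef⟩ : ∃ T : (ι → F) →ₗ[F] (ι → F), T = Matrix.toLin' θ := ⟨_, rfl⟩
  have hTa : ∀ v, T v = θ *ᵥ v := fun v => by rw [hTdef, Matrix.toLin'_apply]
  have hTT : ∀ v, T (T v) = α • v + β • T v := by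
    intro v
    rw [hTa, hTa, Matrix.mulVec_mulVec, hθθ, Matrix.add_mulVec, Matrix.smul_mulVec, Matrix.smul_mulVec,
      Matrix.one_mulVec]
  have hTne : ∀ (c : F) (v : ι → F), T v = c • v → v = 0 := fun c v h => hnoeig c v (by rw [← hTa]; exact h)
  -- a totally singular subspace of half the dimension
  rintro ⟨U, -, hUts, hUdim⟩
  have hUm : finrank F U = m := by
    rw [finrank_top, Module.finrank_fintype_fun_eq_card, hcard] at hUdim
    omega
  have hUiso : ∀ u ∈ U, ∀ u' ∈ U, QuadraticMap.polar Q u u' = 0 := by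
    intro u hu u' hu'
    unfold QuadraticMap.polar
    rw [hUts _ (U.add_mem hu hu'), hUts u hu, hUts u' hu']
    ring
  obtain ⟨B, hBdef⟩ : ∃ B : LinearMap.BilinForm F (ι → F), B = polarBil Q hQ := ⟨_, rfl⟩
  have hBa : ∀ u v, B u v = QuadraticMap.polar Q u v := fun u v => by rw [hBdef]; rfl
  have hBnd : B.Nondegenerate := by
    refine ⟨?_, ?_⟩
    · intro x hx
      by_contra hx0
      obtain ⟨y, hy⟩ := (hQ.nondegenerate x hx0).2
      exact hy (by rw [← hBa]; exact hx y)
    · intro x hx
      by_contra hx0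
      obtain ⟨y, hy⟩ := (hQ.nondegenerate x hx0).1
      exact hy (by rw [← hBa]; exact hx y)
  have hUorth : B.orthogonal U = U := by
    symm
    apply Submodule.eq_of_le_of_finrank_eq
    · intro u hu
      rw [LinearMap.BilinForm.mem_orthogonal_iff]
      intro n hn
      change B n u = 0
      rw [hBa]
      exact hUiso n hn u hu
    · rw [LinearMap.BilinForm.finrank_orthogonal hBnd, Module.finrank_fintype_fun_eq_card, hcard, hUm]
      omega
  have hmemU : ∀ x : ι → F, (∀ u ∈ U, QuadraticMap.polar Q x u = 0) → x ∈ U := by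
    intro x hx
    rw [← hUorth, LinearMap.BilinForm.mem_orthogonal_iff]
    intro n hn
    change B n x = 0
    rw [hBa, hsymm]
    exact hx n hn
  -- the alternating form
  have halt0 : ∀ u ∈ U, QuadraticMap.polar Q (T u) u = 0 := by
    intro u hu
    obtain ⟨c, hc⟩ := hsim θ hθK
    obtain ⟨c', hc'⟩ := hsim (θ + 1) (K.add_mem hθK K.one_mem)
    have h1 := hc' u
    rw [Matrix.add_mulVec, Matrix.one_mulVec, Q_add Q, hc u, hUts u hu, ← hTa] at h1
    simpa using h1
  obtain ⟨A, hAdef⟩ : ∃ A : LinearMap.BilinForm F U,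
      A = LinearMap.BilinForm.restrict (B.compl₁₂ T LinearMap.id : LinearMap.BilinForm F (ι → F)) U := ⟨_, rfl⟩
  have hAa : ∀ x y : U, A x y = QuadraticMap.polar Q (T (x : ι → F)) (y : ι → F) := by
    intro x y
    rw [hAdef]
    change B (T (x : ι → F)) (y : ι → F) = _
    rw [hBa]
  have hAalt : A.IsAlt := by
    intro x
    rw [hAa]
    exact halt0 x x.2
  -- the radical
  obtain ⟨N, hNdef⟩ : ∃ N : Submodule F U, N = LinearMap.ker A := ⟨_, rfl⟩
  have hNmem : ∀ x : U, x ∈ N ↔ ∀ y : U, QuadraticMap.polar Q (T (x : ι → F)) (y : ι → F) = 0 := by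
    intro x
    rw [hNdef, LinearMap.mem_ker]
    constructor
    · intro h y
      rw [← hAa, h, LinearMap.zero_apply]
    · intro h
      apply LinearMap.ext
      intro y
      rw [hAa, h y, LinearMap.zero_apply]
  have hNU : ∀ x : U, x ∈ N → T (x : ι → F) ∈ U := by
    intro x hx
    apply hmemU
    intro u hu
    exact (hNmem x).1 hx ⟨u, hu⟩
  obtain ⟨R, hRdef⟩ : ∃ R : Submodule F (ι → F), R = N.map U.subtype := ⟨_, rfl⟩
  have hRfin : finrank F R = finrank F N := by
    rw [hRdef]; exact Submodule.finrank_map_subtype_eq U N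
  have hRT : ∀ w ∈ R, T w ∈ R := by
    intro w hw
    rw [hRdef, Submodule.mem_map] at hw
    obtain ⟨x, hxN, rfl⟩ := hw
    have hxU : T (x : ι → F) ∈ U := hNU x hxN
    rw [hRdef, Submodule.mem_map]
    refine ⟨⟨T (x : ι → F), hxU⟩, ?_, rfl⟩
    rw [hNmem]
    intro y
    change QuadraticMap.polar Q (T (T (x : ι → F))) (y : ι → F) = 0
    rw [hTT, hb.add_left, hb.smul_left, hb.smul_left, hUiso _ x.2 _ y.2, (hNmem x).1 hxN y]
    simp
  have hReven : Even (finrank F R) := even_finrank_of_stable T α β hTT hTne R hRT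
  -- a complement of the radical carries a nondegenerate alternating form
  obtain ⟨C, hC⟩ := N.exists_isCompl
  have hCalt : (A.restrict C).IsAlt := fun c => hAalt c.1
  have hsl : ∀ c : C, (∀ c' : C, A (c : U) (c' : U) = 0) → c = 0 := by
    intro c hc
    have hcN : (c : U) ∈ N := by
      rw [hNdef, LinearMap.mem_ker]
      apply LinearMap.ext
      intro y
      rw [LinearMap.zero_apply]
      have hy : y ∈ N ⊔ C := by rw [hC.sup_eq_top]; exact Submodule.mem_top
      obtain ⟨n, hn, c', hc', rfl⟩ := Submodule.mem_sup.1 hy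
      rw [map_add]
      have h1 : A (c : U) n = 0 := by
        have h2 : A n (c : U) = 0 := by
          have : A n = 0 := by rw [hNdef, LinearMap.mem_ker] at hn; exact hn
          rw [this, LinearMap.zero_apply]
        exact (LinearMap.IsAlt.eq_iff hAalt).1 h2
      have h3 : A (c : U) c' = 0 := hc ⟨c', hc'⟩
      rw [h1, h3, add_zero]
    have hcC : (c : U) ∈ C := c.2
    have : (c : U) ∈ N ⊓ C := ⟨hcN, hcC⟩
    rw [hC.inf_eq_bot, Submodule.mem_bot] at this
    exact Subtype.ext this
  have hCnd : (A.restrict C).Nondegenerate := by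
    refine ⟨fun c hc => hsl c hc, fun c hc => hsl c (fun c' => ?_)⟩
    exact (LinearMap.IsAlt.eq_iff hAalt).1 (hc c')
  have hCeven : Even (finrank F C) :=
    Cfsg.Agent.Lib.Helper43_AltEven.even_finrank_of_alt _ C (A.restrict C) hCalt hCnd rfl
  have hsum : finrank F N + finrank F C = finrank F U := Submodule.finrank_add_eq_of_isCompl hC
  rw [← hRfin, hUm] at hsum
  have hmeven : Even m := by rw [← hsum]; exact hReven.add hCeven
  exact (Nat.not_even_iff_odd.2 hm) hmeven

end Cfsg.Agent.Lib.Helper42_OrthEven_EV47
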