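import Mathlib
import Cfsg.Agent.Lib.Helper14_WittType

set_option autoImplicit false

/-!
# Discriminants of bilinear forms up to squares (helper43)

`SqRel x y`: `x = y * d ^ 2` for some `d ≠ 0`.  `disc B`: the Gram determinant of `B` in a chosen
basis.  Gram determinants in arbitrary bases are `SqRel` to `disc B`; `disc` is multiplicative on
orthogonal sums, invariant under isometries, and is `(-1)^m` times a square when there is a totally
isotropic subspace of half the dimension `2 m`.
-/

namespace Cfsg.Agent.Lib.Helper43_SqDisc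

open Module Matrix

variable {F : Type*} [Field F]

/-- equality up to a nonzero square factor -/
def SqRel (x y : F) : Prop := ∃ d : F, d ≠ 0 ∧ x = y * d ^ 2

theorem SqRel.refl (x : F) : SqRel x x := ⟨1, one_ne_zero, by ring⟩

theorem SqRel.symm {x y : F} (h : SqRel x y) : SqRel y x := by
  obtain ⟨d, hd, rfl⟩ := h
  refine ⟨d⁻¹, inv_ne_zero hd, ?_⟩
  field_simp

theorem SqRel.trans {x y z : F} (h : SqRel x y) (h' : SqRel y z) : SqRel x z := by
  obtain ⟨d, hd, rfl⟩ := h
  obtain ⟨e, he, rfl⟩ := h'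
  exact ⟨e * d, mul_ne_zero he hd, by ring⟩

theorem SqRel.mul {x y x' y' : F} (h : SqRel x y) (h' : SqRel x' y') :
    SqRel (x * x') (y * y') := by
  obtain ⟨d, hd, rfl⟩ := h
  obtain ⟨e, he, rfl⟩ := h'
  exact ⟨d * e, mul_ne_zero hd he, by ring⟩

theorem SqRel.mul_left {x y : F} (z : F) (h : SqRel x y) : SqRel (z * x) (z * y) :=
  (SqRel.refl z).mul h

theorem SqRel.mul_right {x y : F} (z : F) (h : SqRel x y) : SqRel (x * z) (y * z) :=
  h.mul (SqRel.refl z)

theorem SqRel.isSquare {x y : F} (h : SqRel x y) (hy : IsSquare y) : IsSquare x := by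
  obtain ⟨d, hd, rfl⟩ := h
  obtain ⟨e, rfl⟩ := hy
  exact ⟨e * d, by ring⟩

theorem SqRel.isSquare_iff {x y : F} (h : SqRel x y) : IsSquare x ↔ IsSquare y :=
  ⟨h.symm.isSquare, h.isSquare⟩

theorem SqRel.ne_zero {x y : F} (h : SqRel x y) (hy : y ≠ 0) : x ≠ 0 := by
  obtain ⟨d, hd, rfl⟩ := h
  exact mul_ne_zero hy (pow_ne_zero 2 hd)

theorem sqRel_mul_sq (x : F) {d : F} (hd : d ≠ 0) : SqRel (x * d ^ 2) x := ⟨d, hd, rfl⟩

theorem sqRel_sq_mul (x : F) {d : F} (hd : d ≠ 0) : SqRel (d ^ 2 * x) x := ⟨d, hd, by ring⟩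

theorem sqRel_one_of_isSquare {x : F} (h : IsSquare x) (hx : x ≠ 0) : SqRel x 1 := by
  obtain ⟨e, rfl⟩ := h
  refine ⟨e, ?_, by ring⟩
  rintro rfl
  exact hx (by ring)

theorem sqRel_self_mul_self {x : F} (hx : x ≠ 0) : SqRel (x * x) 1 := ⟨x, hx, by ring⟩

variable {E : Type*} [AddCommGroup E] [Module F E] [FiniteDimensional F E]

/-- the Gram determinant in a chosen basis -/
noncomputable def disc (B : LinearMap.BilinForm F E) : F :=
  (LinearMap.BilinForm.toMatrix (Module.finBasis F E) B).det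

theorem sqRel_det_disc {ι : Type*} [Fintype ι] [DecidableEq ι] (B : LinearMap.BilinForm F E)
    (b : Basis ι F E) : SqRel (LinearMap.BilinForm.toMatrix b B).det (disc B) := by
  obtain ⟨d, hd, h⟩ := Cfsg.Agent.Lib.Helper14_WittType.gram_det_change B b (Module.finBasis F E)
  refine ⟨d, hd, ?_⟩
  rw [h, disc]
  ring

theorem disc_ne_zero {B : LinearMap.BilinForm F E} (hB : B.Nondegenerate) : disc B ≠ 0 :=
  (LinearMap.BilinForm.nondegenerate_iff_det_ne_zero (Module.finBasis F E)).1 hB

/-- isometric forms have the same discriminant -/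
theorem disc_congr {E' : Type*} [AddCommGroup E'] [Module F E'] [FiniteDimensional F E']
    (B : LinearMap.BilinForm F E) (B' : LinearMap.BilinForm F E') (e : E ≃ₗ[F] E')
    (h : ∀ x y, B' (e x) (e y) = B x y) : SqRel (disc B) (disc B') := by
  classical
  have h1 := sqRel_det_disc B' ((Module.finBasis F E).map e)
  have h2 : LinearMap.BilinForm.toMatrix ((Module.finBasis F E).map e) B' =
      LinearMap.BilinForm.toMatrix (Module.finBasis F E) B := by
    ext i j
    rw [LinearMap.BilinForm.toMatrix_apply, LinearMap.BilinForm.toMatrix_apply, Basis.map_apply,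
      Basis.map_apply, h]
  rw [h2] at h1
  exact h1

/-- the discriminant is multiplicative on orthogonal sums -/
theorem disc_orth_sum (B : LinearMap.BilinForm F E) (E₁ E₂ : Submodule F E) (hc : IsCompl E₁ E₂)
    (h12 : ∀ x ∈ E₁, ∀ y ∈ E₂, B x y = 0) (h21 : ∀ x ∈ E₁, ∀ y ∈ E₂, B y x = 0) :
    SqRel (disc B) (disc (B.restrict E₁) * disc (B.restrict E₂)) := by
  classical
  set b₁ := Module.finBasis F E₁ with hb₁
  set b₂ := Module.finBasis F E₂ with hb₂
  set c : Basis (Fin (finrank F E₁) ⊕ Fin (finrank F E₂)) F E :=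
    (b₁.prod b₂).map (Submodule.prodEquivOfIsCompl E₁ E₂ hc) with hcdef
  have hcl : ∀ i, c (Sum.inl i) = (b₁ i : E) := by
    intro i
    simp [hcdef, Submodule.coe_prodEquivOfIsCompl']
  have hcr : ∀ i, c (Sum.inr i) = (b₂ i : E) := by
    intro i
    simp [hcdef, Submodule.coe_prodEquivOfIsCompl']
  have hgram : LinearMap.BilinForm.toMatrix c B =
      Matrix.fromBlocks (LinearMap.BilinForm.toMatrix b₁ (B.restrict E₁)) 0 0
        (LinearMap.BilinForm.toMatrix b₂ (B.restrict E₂)) := by
    ext k l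
    rcases k with k | k <;> rcases l with l | l
    · simp [LinearMap.BilinForm.toMatrix_apply, hcl]
    · simp [LinearMap.BilinForm.toMatrix_apply, hcl, hcr, h12 _ (b₁ k).2 _ (b₂ l).2]
    · simp [LinearMap.BilinForm.toMatrix_apply, hcl, hcr, h21 _ (b₁ l).2 _ (b₂ k).2]
    · simp [LinearMap.BilinForm.toMatrix_apply, hcr]
  have hdet : (LinearMap.BilinForm.toMatrix c B).det =
      disc (B.restrict E₁) * disc (B.restrict E₂) := by
    rw [hgram, Matrix.det_fromBlocks_zero₂₁]
    rfl
  have := (sqRel_det_disc B c).symm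
  rw [hdet] at this
  exact this

omit [FiniteDimensional F E] in
/-- the discriminant of a line -/
theorem disc_span_singleton (B : LinearMap.BilinForm F E) (k : E) (hk : k ≠ 0) :
    SqRel (disc (B.restrict (F ∙ k))) (B k k) := by
  classical
  set b : Basis Unit F (F ∙ k) :=
    (Basis.singleton Unit F).map (LinearEquiv.toSpanNonzeroSingleton F E k hk) with hb
  have hb1 : ((b ()) : E) = k := by
    rw [hb, Basis.map_apply, Basis.singleton_apply]
    simp
  have hdet : (LinearMap.BilinForm.toMatrix b (B.restrict (F ∙ k))).det = B k k := by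
    rw [Matrix.det_unique, LinearMap.BilinForm.toMatrix_apply]
    show B ((b default : F ∙ k) : E) ((b default : F ∙ k) : E) = B k k
    rw [show (default : Unit) = () from rfl, hb1]
  have := (sqRel_det_disc (B.restrict (F ∙ k)) b).symm
  rw [hdet] at this
  exact this

/-- a totally isotropic subspace of half the dimension -/
theorem isSquare_disc_of_isotropic (B : LinearMap.BilinForm F E) (hS : B.IsSymm) {m : ℕ}
    (hE : finrank F E = 2 * m) (X : Submodule F E) (hX : finrank F X = m)
    (hiso : ∀ x ∈ X, ∀ y ∈ X, B x y = 0) : IsSquare ((-1) ^ m * disc B) :=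
  Cfsg.Agent.Lib.Helper14_WittType.isSquare_of_isotropic B hS hE X hX hiso (Module.finBasis F E)

/-- a unipotent isometry `1 + N` with `N² = 0` of rank `b` on a space of dimension `2 b + 1`, with
a fixed vector `k` with `B(k, k) ≠ 0`: the discriminant is `(-1)^b B(k, k)` up to squares -/
theorem isSquare_disc_of_sq_zero (B : LinearMap.BilinForm F E) (hS : B.IsSymm) (N : End F E)
    (hiso : ∀ x y, B (N x) y + B x (N y) + B (N x) (N y) = 0) (hsq : ∀ x, N (N x) = 0)
    (k : E) (hNk : N k = 0) (hk : B k k ≠ 0) (b : ℕ) (hE : finrank F E = 2 * b + 1)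
    (hr : finrank F (LinearMap.range N) = b) : IsSquare ((-1) ^ b * B k k * disc B) := by
  classical
  have hk0 : k ≠ 0 := by
    rintro rfl
    exact hk (by simp)
  have hsymm : ∀ x y, B x y = B y x := fun x y => hS.eq x y
  have hc : IsCompl (F ∙ k) (B.orthogonal (F ∙ k)) :=
    LinearMap.BilinForm.isCompl_span_singleton_orthogonal hk
  have h12 : ∀ x ∈ (F ∙ k), ∀ y ∈ B.orthogonal (F ∙ k), B x y = 0 := by
    intro x hx y hy
    exact (LinearMap.BilinForm.mem_orthogonal_iff.1 hy) x hx
  have h21 : ∀ x ∈ (F ∙ k), ∀ y ∈ B.orthogonal (F ∙ k), B y x = 0 := by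
    intro x hx y hy
    rw [hsymm]
    exact h12 x hx y hy
  have hd1 : finrank F (F ∙ k) = 1 := finrank_span_singleton hk0
  have hd2 : finrank F (B.orthogonal (F ∙ k)) = 2 * b := by
    have := Submodule.finrank_add_eq_of_isCompl hc
    omega
  have hkN : ∀ v, B k (N v) = 0 := by
    intro v
    have := hiso k v
    rw [hNk] at this
    simpa using this
  have hNN : ∀ u v, B (N u) (N v) = 0 := by
    intro u v
    have := hiso u (N v)
    rw [hsq] at this
    simpa using this
  have hle : LinearMap.range N ≤ B.orthogonal (F ∙ k) := by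
    rintro _ ⟨v, rfl⟩
    rw [LinearMap.BilinForm.mem_orthogonal_iff]
    intro x hx
    obtain ⟨a, rfl⟩ := Submodule.mem_span_singleton.1 hx
    rw [map_smul, LinearMap.smul_apply, hkN, smul_zero]
  have hX : finrank F ((LinearMap.range N).comap (B.orthogonal (F ∙ k)).subtype) = b := by
    rw [← hr]
    exact (Submodule.comapSubtypeEquivOfLe hle).finrank_eq
  have hXiso : ∀ x ∈ (LinearMap.range N).comap (B.orthogonal (F ∙ k)).subtype,
      ∀ y ∈ (LinearMap.range N).comap (B.orthogonal (F ∙ k)).subtype,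
      (B.restrict (B.orthogonal (F ∙ k))) x y = 0 := by
    intro x hx y hy
    obtain ⟨u, hu⟩ := hx
    obtain ⟨v, hv⟩ := hy
    rw [LinearMap.BilinForm.restrict_apply, LinearMap.domRestrict_apply]
    have hu' : (x : E) = N u := hu.symm
    have hv' : (y : E) = N v := hv.symm
    rw [hu', hv']
    exact hNN u v
  have h2 := isSquare_disc_of_isotropic (B.restrict (B.orthogonal (F ∙ k)))
    (hS.restrict _) hd2 _ hX hXiso
  have h1 := disc_orth_sum B (F ∙ k) (B.orthogonal (F ∙ k)) hc h12 h21
  have h3 := disc_span_singleton B k hk0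
  have h4 : SqRel (disc B) (B k k * disc (B.restrict (B.orthogonal (F ∙ k)))) :=
    h1.trans (h3.mul_right _)
  obtain ⟨e, he, h5⟩ := h4
  obtain ⟨f, hf⟩ := h2
  refine ⟨B k k * e * f, ?_⟩
  rw [h5]
  linear_combination (B k k) ^ 2 * e ^ 2 * hf

end Cfsg.Agent.Lib.Helper43_SqDisc
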