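import Mathlib
import Cfsg.Agent.Lib.Helper98_AschDefs
import Cfsg.Agent.Lib.Helper98_AschCliff
import Cfsg.Agent.Lib.Helper23_FormDefs
import Cfsg.Agent.Lib.Helper29_Asch_PKG0
import Cfsg.Agent.Lib.Helper29_Asch_PKP1
import Cfsg.Agent.Lib.Helper29_OrthOdd_Glue
import Cfsg.Agent.Lib.Helper7_OrthOdd_OG2
import Cfsg.Agent.Lib.Helper30_AschMax
import Cfsg.Agent.Lib.Helper94_OrthGenBridge
import Cfsg.Agent.Lib.Helper82_AschSp_SP2
import Cfsg.Agent.Lib.Helper43_SqDisc

set_option autoImplicit false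

/-!
# EV43 (package of helper22's even-dimensional orthogonal rows, batch 4)

An orthogonal sum of two isometric subspaces of odd dimension `k` over a finite field with
`q ≡ 3 mod 4` is of minus type: the discriminant is a square, while plus type needs
`(-1)^k disc = - disc` to be a square.
-/

open Cfsg Cfsg.Geo Matrix Cfsg.Agent.Lib.Helper98_AschDefs Cfsg.Agent.Lib.Helper23_FormDefs
open scoped Kronecker MatrixGroups

namespace Cfsg.Agent.Lib.Helper43_OrthEven_EV43

open Module Cfsg.Agent.Lib.Helper94_OrthGenBridge Cfsg.Agent.Lib.Helper43_SqDisc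

variable {ι : Type} [Fintype ι] [DecidableEq ι] {F : Type*} [Field F]

/-- the polar form of `Q` as a bilinear form -/
noncomputable abbrev pb (Q : (ι → F) → F) (hQ : IsNondegenerateQuadraticForm Q) :
    LinearMap.BilinForm F (ι → F) := QuadraticMap.polarBilin (qfOf Q hQ)

theorem pb_apply (Q : (ι → F) → F) (hQ : IsNondegenerateQuadraticForm Q) (u v : ι → F) :
    pb Q hQ u v = QuadraticMap.polar Q u v := rfl

theorem pb_symm (Q : (ι → F) → F) (hQ : IsNondegenerateQuadraticForm Q) : (pb Q hQ).IsSymm := by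
  rw [LinearMap.BilinForm.isSymm_def]
  intro x y
  rw [pb_apply, pb_apply, QuadraticMap.polar_comm]

/-- plus type forces `(-1)^k disc` to be a square -/
theorem isSquare_of_plus (Q : (ι → F) → F) (hQ : IsNondegenerateQuadraticForm Q) (k : ℕ)
    (hcard : 2 * k = Fintype.card ι) (hplus : IsPlusTypeOn Q ⊤) :
    IsSquare ((-1 : F) ^ k * disc (pb Q hQ)) := by
  obtain ⟨U, -, hU, hdim⟩ := hplus
  have hE : finrank F (ι → F) = 2 * k := by
    rw [Module.finrank_fintype_fun_eq_card, hcard]
  rw [finrank_top, hE] at hdim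
  refine isSquare_disc_of_isotropic (pb Q hQ) (pb_symm Q hQ) hE U (by omega) ?_
  intro x hx y hy
  rw [pb_apply, QuadraticMap.polar, hU _ (U.add_mem hx hy), hU _ hx, hU _ hy]
  ring

/-- the discriminant of an orthogonal sum of two subspaces -/
theorem sqRel_disc_decomp (Q : (ι → F) → F) (hQ : IsNondegenerateQuadraticForm Q) (k : ℕ)
    (D : Fin 2 → Submodule F (ι → F))
    (hD : IsNondegenerateMDecomposition (QuadraticMap.polar Q) k D) :
    SqRel (disc (pb Q hQ))
      (disc ((pb Q hQ).restrict (D 0)) * disc ((pb Q hQ).restrict (D 1))) := by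
  apply disc_orth_sum (pb Q hQ) (D 0) (D 1)
    (Cfsg.Agent.Lib.Helper82_AschSp_SP2.isCompl_of_decomp hD.decomp)
  · intro x hx y hy
    exact hD.orthogonal 0 1 (by decide) x hx y hy
  · intro x hx y hy
    exact hD.orthogonal 1 0 (by decide) y hy x hx

theorem disc_pb_ne_zero (Q : (ι → F) → F) (hQ : IsNondegenerateQuadraticForm Q) :
    disc (pb Q hQ) ≠ 0 :=
  disc_ne_zero (polarBilin_qfOf_nondeg Q hQ)

omit [Fintype ι] [DecidableEq ι] in
/-- a similitude between two subspaces scales the polar form -/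
theorem polar_simil (Q : (ι → F) → F) {W W' : Submodule F (ι → F)} (e : W ≃ₗ[F] W') (c : F)
    (he : ∀ w : W, Q ((e w : W') : ι → F) = c * Q (w : ι → F)) (x y : W) :
    QuadraticMap.polar Q ((e x : W') : ι → F) ((e y : W') : ι → F)
      = c * QuadraticMap.polar Q (x : ι → F) (y : ι → F) := by
  have h1 : ((e x : W') : ι → F) + ((e y : W') : ι → F) = ((e (x + y) : W') : ι → F) := by
    rw [map_add]
    rfl
  have h2 : (x : ι → F) + (y : ι → F) = ((x + y : W) : ι → F) := rfl
  rw [QuadraticMap.polar, QuadraticMap.polar, h1, h2, he, he, he]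
  ring

theorem EV43 [Fintype F] (Q : (ι → F) → F) (hQ : IsNondegenerateQuadraticForm Q)
    (hq : Fintype.card F % 4 = 3) (k : ℕ) (hk : Odd k)
    (D : Fin 2 → Submodule F (ι → F)) (hD : IsOrthogonalMDecomposition Q k D) : ¬ IsPlusTypeOn Q ⊤ := by
  classical
  intro hplus
  have hcard := Cfsg.Agent.Lib.Helper82_AschSp_SP2.two_mul_eq_card hD.decomp.decomp
  have hsq := isSquare_of_plus Q hQ k hcard hplus
  rw [hk.neg_one_pow] at hsq
  have hdec := sqRel_disc_decomp Q hQ k D hD.decomp
  obtain ⟨e, he⟩ := hD.isometric 0 1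
  have hcong : SqRel (disc ((pb Q hQ).restrict (D 0))) (disc ((pb Q hQ).restrict (D 1))) := by
    apply disc_congr _ _ e
    intro x y
    show QuadraticMap.polar Q ((e x : D 1) : ι → F) ((e y : D 1) : ι → F)
      = QuadraticMap.polar Q (x : ι → F) (y : ι → F)
    rw [polar_simil Q e 1 (fun w => by rw [he w, one_mul]), one_mul]
  have hne : disc ((pb Q hQ).restrict (D 0)) * disc ((pb Q hQ).restrict (D 1)) ≠ 0 :=
    hdec.symm.ne_zero (disc_pb_ne_zero Q hQ)
  have hd1 : disc ((pb Q hQ).restrict (D 1)) ≠ 0 := right_ne_zero_of_mul hne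
  have h1 : SqRel (disc (pb Q hQ)) 1 :=
    hdec.trans ((hcong.mul_right _).trans (sqRel_self_mul_self hd1))
  have h2 : SqRel (-1 * disc (pb Q hQ)) (-1 * 1) := h1.mul_left (-1)
  have h3 : IsSquare (-1 * 1 : F) := h2.isSquare_iff.1 hsq
  rw [mul_one, FiniteField.isSquare_neg_one_iff] at h3
  exact h3 hq

end Cfsg.Agent.Lib.Helper43_OrthEven_EV43
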