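import Mathlib
import Cfsg.Agent.Lib.Helper98_AschDefs
import Cfsg.Agent.Lib.Helper98_AschCliff
import Cfsg.Agent.Lib.Helper23_FormDefs
import Cfsg.Agent.Lib.Helper29_Asch_PKG0
import Cfsg.Agent.Lib.Helper29_Asch_PKP1
import Cfsg.Agent.Lib.Helper29_OrthOdd_Glue
import Cfsg.Agent.Lib.Helper7_OrthOdd_OG2
import Cfsg.Agent.Lib.Helper30_AschMax
import Cfsg.Agent.Lib.Helper40_OOdd
import Cfsg.Agent.Lib.Helper85_OrthEven_EV5
import Cfsg.Agent.Lib.Helper43_OrthEven_EV43

set_option autoImplicit false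

/-!
# EV50 (package of helper22's even-dimensional orthogonal rows, batch 4)

An orthogonal sum of two non-isometric non-degenerate subspaces of the same odd dimension `k` over
a finite field with `q ≡ 1 mod 4` is of minus type: the two summands are similar with a non-square
factor `λ`, the discriminant is `λ` up to squares, and `-1` is a square.
-/

open Cfsg Cfsg.Geo Matrix Cfsg.Agent.Lib.Helper98_AschDefs Cfsg.Agent.Lib.Helper23_FormDefs
open scoped Kronecker MatrixGroups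

namespace Cfsg.Agent.Lib.Helper43_OrthEven_EV50

open Module Cfsg.Agent.Lib.Helper40_SpBasic Cfsg.Agent.Lib.Helper40_OConj
  Cfsg.Agent.Lib.Helper94_OrthGenBridge Cfsg.Agent.Lib.Helper43_SqDisc
  Cfsg.Agent.Lib.Helper43_OrthEven_EV43

variable {ι : Type} [Fintype ι] [DecidableEq ι] {F : Type*} [Field F]

/-- the discriminant of a scaled form -/
theorem disc_smul {E : Type*} [AddCommGroup E] [Module F E] [FiniteDimensional F E]
    (B : LinearMap.BilinForm F E) (c : F) : disc (c • B) = c ^ finrank F E * disc B := by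
  classical
  unfold disc
  rw [map_smul, Matrix.det_smul, Fintype.card_fin]

/-- two non-degenerate subspaces of the same odd dimension over a finite field are similar; if the
factor is a square they are isometric -/
theorem exists_similitude [Finite F] (Q : (ι → F) → F) (hQ : IsNondegenerateQuadraticForm Q)
    (m : ℕ) (W W' : Submodule F (ι → F)) (hW : finrank F W = 2 * m + 1)
    (hW' : finrank F W' = 2 * m + 1)
    (hnd : IsNondegenerateOn (QuadraticMap.polar Q) W)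
    (hnd' : IsNondegenerateOn (QuadraticMap.polar Q) W') :
    ∃ (ψ : W ≃ₗ[F] W') (l : F), l ≠ 0 ∧
      (∀ v : W, Q ((ψ v : W') : ι → F) = l * Q (v : ι → F)) ∧
      (IsSquare l → AreIsometricFor Q W W') := by
  classical
  have hn : NDOn (pol (qfOf Q hQ)) W :=
    Cfsg.Agent.Lib.Helper85_OrthEven_EV5.ndOn_of_geo Q hQ W hnd
  have hn' : NDOn (pol (qfOf Q hQ)) W' :=
    Cfsg.Agent.Lib.Helper85_OrthEven_EV5.ndOn_of_geo Q hQ W' hnd'
  obtain ⟨φ0, μ0, hμ0, h0⟩ := Cfsg.Agent.Lib.Helper40_OOdd.exists_simil_qfOdd m hW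
    (Cfsg.Agent.Lib.Helper43_OrthTS_OQ2.resQ (qfOf Q hQ) W)
    (Cfsg.Agent.Lib.Helper43_OrthTS_OQ2.nondegenerate_resQ hn)
  obtain ⟨φ1, μ1, hμ1, h1⟩ := Cfsg.Agent.Lib.Helper40_OOdd.exists_simil_qfOdd m hW'
    (Cfsg.Agent.Lib.Helper43_OrthTS_OQ2.resQ (qfOf Q hQ) W')
    (Cfsg.Agent.Lib.Helper43_OrthTS_OQ2.nondegenerate_resQ hn')
  have h0' : ∀ v : W, Q (v : ι → F) = μ0 * Cfsg.Agent.Lib.Helper44_StdForms.qfOdd m F (φ0 v) :=
    fun v => h0 v
  have h1' : ∀ v : W', Q (v : ι → F) = μ1 * Cfsg.Agent.Lib.Helper44_StdForms.qfOdd m F (φ1 v) :=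
    fun v => h1 v
  let ψ : W ≃ₗ[F] W' := φ0.trans φ1.symm
  have hψ : ∀ v : W, Q ((ψ v : W') : ι → F) = (μ1 / μ0) * Q (v : ι → F) := by
    intro v
    have hφ : φ1 (ψ v) = φ0 v := by simp [ψ]
    rw [h1' (ψ v), hφ, h0' v]
    field_simp
  have hl0 : μ1 / μ0 ≠ 0 := div_ne_zero hμ1 hμ0
  refine ⟨ψ, μ1 / μ0, hl0, hψ, ?_⟩
  rintro ⟨c, hc⟩
  have hc0 : c ≠ 0 := by
    rintro rfl
    rw [mul_zero] at hc
    exact hl0 hc
  refine ⟨ψ.trans (LinearEquiv.smulOfNeZero F W' c⁻¹ (inv_ne_zero hc0)), fun v => ?_⟩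
  have : ((ψ.trans (LinearEquiv.smulOfNeZero F W' c⁻¹ (inv_ne_zero hc0)) v : W') : ι → F)
      = c⁻¹ • ((ψ v : W') : ι → F) := rfl
  rw [this, hQ.smul, hψ, hc]
  field_simp

theorem EV50 [Fintype F] (Q : (ι → F) → F) (hQ : IsNondegenerateQuadraticForm Q)
    (hq : Fintype.card F % 4 = 1) (k : ℕ) (hk : Odd k)
    (D : Fin 2 → Submodule F (ι → F)) (hD : IsNondegenerateMDecomposition (QuadraticMap.polar Q) k D)
    (hniso : ¬ AreIsometricFor Q (D 0) (D 1)) : ¬ IsPlusTypeOn Q ⊤ := by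
  classical
  intro hplus
  have hcard := Cfsg.Agent.Lib.Helper82_AschSp_SP2.two_mul_eq_card hD.decomp
  have hsq := isSquare_of_plus Q hQ k hcard hplus
  rw [hk.neg_one_pow] at hsq
  obtain ⟨m, hm⟩ := hk
  have hdec := sqRel_disc_decomp Q hQ k D hD
  obtain ⟨ψ, l, hl0, hψ, hiso⟩ := exists_similitude Q hQ m (D 0) (D 1)
    (by rw [hD.decomp.finrank_eq, hm]) (by rw [hD.decomp.finrank_eq, hm])
    (hD.nondegenerate 0) (hD.nondegenerate 1)
  have hns : ¬ IsSquare l := fun h => hniso (hiso h)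
  set d0 := disc ((pb Q hQ).restrict (D 0)) with hd0
  set d1 := disc ((pb Q hQ).restrict (D 1)) with hd1
  have hcong : SqRel (l ^ k * d0) d1 := by
    have h1 : SqRel (disc (l • (pb Q hQ).restrict (D 0))) d1 := by
      apply disc_congr _ _ ψ
      intro x y
      show QuadraticMap.polar Q ((ψ x : D 1) : ι → F) ((ψ y : D 1) : ι → F)
        = l * QuadraticMap.polar Q (x : ι → F) (y : ι → F)
      exact polar_simil Q ψ l hψ x y
    rw [disc_smul, hD.decomp.finrank_eq] at h1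
    exact h1
  have hne : d0 * d1 ≠ 0 := hdec.symm.ne_zero (disc_pb_ne_zero Q hQ)
  have hd0ne : d0 ≠ 0 := left_ne_zero_of_mul hne
  have hlm : l ^ m ≠ 0 := pow_ne_zero m hl0
  -- `disc ~ l`
  have h1 : SqRel (d0 * d1) (d0 * (l ^ k * d0)) := hcong.symm.mul_left d0
  have h2 : SqRel (d0 * (l ^ k * d0)) (l ^ k * 1) := by
    have : d0 * (l ^ k * d0) = l ^ k * (d0 * d0) := by ring
    rw [this]
    exact (sqRel_self_mul_self hd0ne).mul_left (l ^ k)
  have h3 : SqRel (l ^ k * 1) l := by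
    have : l ^ k * 1 = l * (l ^ m) ^ 2 := by rw [hm]; ring
    rw [this]
    exact sqRel_mul_sq l hlm
  have h4 : SqRel (disc (pb Q hQ)) l := hdec.trans (h1.trans (h2.trans h3))
  -- `-1` is a square
  obtain ⟨i, hi⟩ : IsSquare (-1 : F) := by
    rw [FiniteField.isSquare_neg_one_iff]
    omega
  have hi0 : i ≠ 0 := by
    rintro rfl
    rw [mul_zero] at hi
    exact absurd hi (neg_ne_zero.2 one_ne_zero)
  have h5 : SqRel (-1 * disc (pb Q hQ)) (-1 * l) := h4.mul_left (-1)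
  have h6 : SqRel (-1 * l) l := by
    have : -1 * l = l * i ^ 2 := by rw [hi]; ring
    rw [this]
    exact sqRel_mul_sq l hi0
  exact hns ((h5.trans h6).isSquare_iff.1 hsq)

end Cfsg.Agent.Lib.Helper43_OrthEven_EV50
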