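/-
S5662 package SP3 (helper23's architecture; proved by helper7):
a subfield `K` of the matrix algebra of prime degree, closed under adjoints for the symplectic form and normalized by
`H ≤ Sp`: then `H` lies in a member of class 3 (self-adjoint or unitary type) or, in characteristic 2, of class 8.
-/
import Mathlib
import Cfsg.Prelude.Def_ClassicalGeometry
import Cfsg.Prelude.Def_GeometricClasses
import Cfsg.Agent.Lib.Helper98_AschDefs
import Cfsg.Agent.Lib.Helper23_FormDefs
import Cfsg.Agent.Lib.Helper7_AschSp_SPQ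

set_option autoImplicit false
set_option linter.unusedSectionVars false

namespace Cfsg.Agent.Lib.Helper7_AschSp_SP3

open Cfsg Cfsg.Geo Matrix Cfsg.Agent.Lib.Helper98_AschDefs Cfsg.Agent.Lib.Helper23_FormDefs

variable {ι : Type} [Fintype ι] [DecidableEq ι] {F : Type*} [Field F]

/-- `b` is an adjoint of `a` for the form `f` -/
def IsAdj (f : (ι → F) → (ι → F) → F) (a b : Matrix ι ι F) : Prop :=
  ∀ u v, f (a *ᵥ u) v = f u (b *ᵥ v)

section adj

variable {f : (ι → F) → (ι → F) → F}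

theorem bil_sub_right (hb : IsBilinearForm f) (u x y : ι → F) : f u (x - y) = f u x - f u y := by
  have : x - y = x + (-1 : F) • y := by simp [sub_eq_add_neg]
  rw [this, hb.add_right, hb.smul_right]
  ring

theorem IsAdj.unique (hb : IsBilinearForm f) (hnd : IsNondegenerateForm f) {a b b' : Matrix ι ι F}
    (h1 : IsAdj f a b) (h2 : IsAdj f a b') : b = b' := by
  apply Matrix.toLin'.injective
  apply LinearMap.ext
  intro v
  rw [Matrix.toLin'_apply, Matrix.toLin'_apply]
  by_contra hne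
  have hne' : b *ᵥ v - b' *ᵥ v ≠ 0 := sub_ne_zero.2 hne
  obtain ⟨⟨x, hx⟩, -⟩ := hnd _ hne'
  apply hx
  rw [bil_sub_right hb, ← h1 x v, ← h2 x v, sub_self]

theorem IsAdj.one : IsAdj f (1 : Matrix ι ι F) 1 := by
  intro u v
  rw [Matrix.one_mulVec, Matrix.one_mulVec]

theorem IsAdj.add (hb : IsBilinearForm f) {a b a' b' : Matrix ι ι F} (h1 : IsAdj f a b) (h2 : IsAdj f a' b') :
    IsAdj f (a + a') (b + b') := by
  intro u v
  rw [Matrix.add_mulVec, Matrix.add_mulVec, hb.add_left, hb.add_right, h1, h2]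

theorem IsAdj.smul (hb : IsBilinearForm f) (c : F) {a b : Matrix ι ι F} (h1 : IsAdj f a b) :
    IsAdj f (c • a) (c • b) := by
  intro u v
  rw [Matrix.smul_mulVec, Matrix.smul_mulVec, hb.smul_left, hb.smul_right, h1]

theorem IsAdj.mul {a b a' b' : Matrix ι ι F} (h1 : IsAdj f a b) (h2 : IsAdj f a' b') :
    IsAdj f (a * a') (b' * b) := by
  intro u v
  rw [← Matrix.mulVec_mulVec, ← Matrix.mulVec_mulVec, h1, h2]

theorem IsAdj.symm (hskew : ∀ u v, f u v = - f v u) {a b : Matrix ι ι F} (h1 : IsAdj f a b) : IsAdj f b a := by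
  intro u v
  rw [hskew, ← h1, hskew, neg_neg]

/-- conjugation by an isometry commutes with adjoints -/
theorem IsAdj.conj {h : GL ι F} (hh : ∀ u v, f ((h : Matrix ι ι F) *ᵥ u) ((h : Matrix ι ι F) *ᵥ v) = f u v)
    {a b : Matrix ι ι F} (h1 : IsAdj f a b) :
    IsAdj f (((h⁻¹ : GL ι F) : Matrix ι ι F) * a * (h : Matrix ι ι F))
      (((h⁻¹ : GL ι F) : Matrix ι ι F) * b * (h : Matrix ι ι F)) := by
  have hinv : ∀ x : ι → F, (h : Matrix ι ι F) *ᵥ (((h⁻¹ : GL ι F) : Matrix ι ι F) *ᵥ x) = x := by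
    intro x
    rw [Matrix.mulVec_mulVec, ← Units.val_mul, mul_inv_cancel, Units.val_one, Matrix.one_mulVec]
  intro u v
  rw [← hh, ← Matrix.mulVec_mulVec, ← Matrix.mulVec_mulVec, hinv, h1, ← hh u,
    ← Matrix.mulVec_mulVec, ← Matrix.mulVec_mulVec, hinv]

end adj

section field

variable {r : ℕ} {K : Subalgebra F (Matrix ι ι F)}

theorem sq_eq_zero_imp (hK : IsFieldSubalgebra r K) {z : Matrix ι ι F} (hz : z ∈ K) (hzz : z * z = 0) : z = 0 := by
  by_contra hne
  obtain ⟨w, -, hw⟩ := hK.inv z hz hne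
  apply hne
  calc z = z * (z * w) := by rw [hw, mul_one]
    _ = (z * z) * w := by rw [mul_assoc]
    _ = 0 := by rw [hzz, zero_mul]

theorem add_self_eq_zero_of_two (h2 : (2 : F) = 0) (M : Matrix ι ι F) : M + M = 0 := by
  rw [← two_smul F M, h2, zero_smul]

theorem neg_eq_self_of_two (h2 : (2 : F) = 0) (M : Matrix ι ι F) : -M = M := by
  rw [neg_eq_iff_add_eq_zero, add_self_eq_zero_of_two h2]

/-- in characteristic 2 every element of a finite field of matrices is a square -/
theorem exists_sq [Finite F] (hK : IsFieldSubalgebra r K) (h2 : (2 : F) = 0) (k : Matrix ι ι F) (hk : k ∈ K) :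
    ∃ l ∈ K, l * l = k := by
  have hinj : Function.Injective (fun x : K => x * x) := by
    intro x y hxy
    have hxy' : (x : Matrix ι ι F) * x = y * y := congrArg Subtype.val hxy
    have hz : ((x : Matrix ι ι F) - y) * (x - y) = 0 := by
      have hc := hK.comm x x.2 y y.2
      have : ((x : Matrix ι ι F) - y) * (x - y) = x * x + y * y - (x * y + x * y) := by
        rw [sub_mul, mul_sub, mul_sub, ← hc]
        abel
      rw [this, add_self_eq_zero_of_two h2, sub_zero, hxy', add_self_eq_zero_of_two h2]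
    have := sq_eq_zero_imp hK (K.sub_mem x.2 y.2) hz
    exact Subtype.ext (sub_eq_zero.1 this)
  have hsurj := Finite.injective_iff_surjective.1 hinj
  obtain ⟨l, hl⟩ := hsurj ⟨k, hk⟩
  exact ⟨l, l.2, congrArg Subtype.val hl⟩

end field

section star

variable {f : (ι → F) → (ι → F) → F} {r : ℕ} {K : Subalgebra F (Matrix ι ι F)}

/-- the adjoint of an element of an adjoint-closed subalgebra -/
noncomputable def adjK (hadj : IsAdjointClosedFor f K) (k : K) : K :=
  ⟨Classical.choose (hadj k k.2), (Classical.choose_spec (hadj k k.2)).1⟩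

theorem adjK_spec (hadj : IsAdjointClosedFor f K) (k : K) :
    IsAdj f (k : Matrix ι ι F) (adjK hadj k : Matrix ι ι F) :=
  (Classical.choose_spec (hadj k k.2)).2

theorem adjK_eq (hb : IsBilinearForm f) (hnd : IsNondegenerateForm f) (hadj : IsAdjointClosedFor f K) (k : K)
    {b : Matrix ι ι F} (h : IsAdj f (k : Matrix ι ι F) b) : (adjK hadj k : Matrix ι ι F) = b :=
  (adjK_spec hadj k).unique hb hnd h

theorem adjK_adjK (hb : IsBilinearForm f) (hnd : IsNondegenerateForm f) (hskew : ∀ u v, f u v = - f v u)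
    (hadj : IsAdjointClosedFor f K) (k : K) : adjK hadj (adjK hadj k) = k :=
  Subtype.ext (adjK_eq hb hnd hadj _ ((adjK_spec hadj k).symm hskew))

theorem adjK_add (hb : IsBilinearForm f) (hnd : IsNondegenerateForm f) (hadj : IsAdjointClosedFor f K) (k l : K) :
    adjK hadj (k + l) = adjK hadj k + adjK hadj l :=
  Subtype.ext (adjK_eq hb hnd hadj _ ((adjK_spec hadj k).add hb (adjK_spec hadj l)))

theorem adjK_smul (hb : IsBilinearForm f) (hnd : IsNondegenerateForm f) (hadj : IsAdjointClosedFor f K) (c : F)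
    (k : K) : adjK hadj (c • k) = c • adjK hadj k :=
  Subtype.ext (adjK_eq hb hnd hadj _ ((adjK_spec hadj k).smul hb c))

theorem adjK_one (hb : IsBilinearForm f) (hnd : IsNondegenerateForm f) (hadj : IsAdjointClosedFor f K) :
    adjK hadj (1 : K) = 1 :=
  Subtype.ext (adjK_eq hb hnd hadj _ IsAdj.one)

theorem adjK_mul (hb : IsBilinearForm f) (hnd : IsNondegenerateForm f) (hK : IsFieldSubalgebra r K)
    (hadj : IsAdjointClosedFor f K) (k l : K) : adjK hadj (k * l) = adjK hadj k * adjK hadj l := by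
  apply Subtype.ext
  have h1 := adjK_eq hb hnd hadj (k * l) ((adjK_spec hadj k).mul (adjK_spec hadj l))
  rw [h1]
  exact hK.comm _ (adjK hadj l).2 _ (adjK hadj k).2

/-- self-adjoint elements of an adjoint-closed field of matrices give `f (δ v) v = 0` for a skew alternating form -/
theorem alt_of_selfadj [Finite F] (hb : IsBilinearForm f) (hnd : IsNondegenerateForm f)
    (hskew : ∀ u v, f u v = - f v u) (halt : ∀ v, f v v = 0) (hK : IsFieldSubalgebra r K)
    (hadj : IsAdjointClosedFor f K) (δ : Matrix ι ι F) (hδ : δ ∈ K) (hsa : IsAdj f δ δ) (v : ι → F) :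
    f (δ *ᵥ v) v = 0 := by
  by_cases h2 : (2 : F) = 0
  · obtain ⟨l, hl, rfl⟩ := exists_sq hK h2 δ hδ
    -- `l` is self-adjoint as well
    set l' : Matrix ι ι F := (adjK hadj ⟨l, hl⟩ : Matrix ι ι F) with hl'
    have hspec : IsAdj f l l' := adjK_spec hadj ⟨l, hl⟩
    have hl'K : l' ∈ K := (adjK hadj ⟨l, hl⟩).2
    have h1 : l' * l' = l * l := (hspec.mul hspec).unique hb hnd hsa
    have hz : (l' + l) * (l' + l) = 0 := by
      have hc := hK.comm l hl l' hl'K
      have : (l' + l) * (l' + l) = l' * l' + l * l + (l * l' + l * l') := by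
        rw [add_mul, mul_add, mul_add, ← hc]
        abel
      rw [this, add_self_eq_zero_of_two h2, add_zero, h1, add_self_eq_zero_of_two h2]
    have hzero := sq_eq_zero_imp hK (K.add_mem hl'K hl) hz
    have hll : l' = l := by
      rw [← neg_eq_self_of_two h2 l]
      exact eq_neg_of_add_eq_zero_left hzero
    rw [← Matrix.mulVec_mulVec, hspec, hll]
    exact halt _
  · have h1 : f (δ *ᵥ v) v = - f (δ *ᵥ v) v := by
      conv_lhs => rw [hsa, hskew]
    have h3 : (2 : F) * f (δ *ᵥ v) v = 0 := by linear_combination h1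
    rcases mul_eq_zero.1 h3 with h4 | h4
    · exact absurd h4 h2
    · exact h4

/-- a non-trivial involutive algebra automorphism of a finite field extension of prime degree forces degree 2 -/
theorem prime_eq_two [Finite F] (hr : r.Prime) (hK : IsFieldSubalgebra r K) (σ : K → K)
    (hadd : ∀ k l, σ (k + l) = σ k + σ l) (hmul : ∀ k l, σ (k * l) = σ k * σ l)
    (hsmul : ∀ (c : F) k, σ (c • k) = c • σ k) (hone : σ 1 = 1) (hinv : ∀ k, σ (σ k) = k)
    (hne : ∃ k, σ k ≠ k) : r = 2 := by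
  classical
  let e : K ≃ₐ[F] K :=
    { toFun := σ
      invFun := σ
      left_inv := hinv
      right_inv := hinv
      map_mul' := hmul
      map_add' := hadd
      commutes' := fun c => by
        rw [Algebra.algebraMap_eq_smul_one, hsmul, hone] }
  have hntK : Nontrivial K := by
    apply Module.nontrivial_of_finrank_pos (R := F)
    rw [hK.finrank_eq]
    exact hr.pos
  have hfield : IsField K :=
    { exists_pair_ne := ⟨0, 1, zero_ne_one⟩
      mul_comm := fun x y => Subtype.ext (hK.comm x x.2 y y.2)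
      mul_inv_cancel := fun {a} ha => by
        obtain ⟨y, hy, hxy⟩ := hK.inv a a.2 (fun h => ha (Subtype.ext h))
        exact ⟨⟨y, hy⟩, Subtype.ext hxy⟩ }
  let _ : Field K := hfield.toField
  have hgal : Nat.card (K ≃ₐ[F] K) = Module.finrank F K := IsGalois.card_aut_eq_finrank F K
  have he1 : e ≠ 1 := by
    intro h1
    obtain ⟨k, hk⟩ := hne
    apply hk
    have := congrArg (fun g : K ≃ₐ[F] K => g k) h1
    exact this
  have he2 : e ^ 2 = 1 := by
    apply AlgEquiv.ext
    intro k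
    rw [pow_two]
    exact hinv k
  have hord : orderOf e = 2 := orderOf_eq_prime he2 he1
  have hdvd : orderOf e ∣ Nat.card (K ≃ₐ[F] K) := orderOf_dvd_natCard e
  rw [hord, hgal, hK.finrank_eq] at hdvd
  exact ((Nat.prime_dvd_prime_iff_eq Nat.prime_two hr).1 hdvd).symm

/-- characteristic 2, the adjoint is not the identity on `K`: an element `θ` of trace one -/
theorem exists_theta (hb : IsBilinearForm f) (hnd : IsNondegenerateForm f)
    (hskew : ∀ u v, f u v = - f v u) (hK : IsFieldSubalgebra r K)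
    (hadj : IsAdjointClosedFor f K) (h2 : (2 : F) = 0) (hne : ∃ k : K, adjK hadj k ≠ k) :
    ∃ θ ∈ K, ∃ θ' ∈ K, IsAdj f θ θ' ∧ θ + θ' = 1 := by
  obtain ⟨k, hk⟩ := hne
  set k' : Matrix ι ι F := (adjK hadj k : Matrix ι ι F) with hk'
  have hk'K : k' ∈ K := (adjK hadj k).2
  have hspec : IsAdj f (k : Matrix ι ι F) k' := adjK_spec hadj k
  set t : Matrix ι ι F := (k : Matrix ι ι F) + k' with ht
  have htK : t ∈ K := K.add_mem k.2 hk'K
  have ht0 : t ≠ 0 := by
    intro h0
    apply hk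
    apply Subtype.ext
    show k' = (k : Matrix ι ι F)
    rw [← neg_eq_self_of_two h2 (k : Matrix ι ι F)]
    exact eq_neg_of_add_eq_zero_right h0
  have htt : IsAdj f t t := by
    have := hspec.add hb (hspec.symm hskew)
    rwa [add_comm k' (k : Matrix ι ι F)] at this
  obtain ⟨s, hsK, hts⟩ := hK.inv t htK ht0
  have hst : s * t = 1 := by rw [hK.comm s hsK t htK, hts]
  -- `s` is self-adjoint
  set s' : Matrix ι ι F := (adjK hadj ⟨s, hsK⟩ : Matrix ι ι F) with hs'
  have hs'K : s' ∈ K := (adjK hadj ⟨s, hsK⟩).2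
  have hspec_s : IsAdj f s s' := adjK_spec hadj ⟨s, hsK⟩
  have h1 : s' * t = 1 := by
    have h3 : IsAdj f (t * s) (s' * t) := htt.mul hspec_s
    rw [hts] at h3
    exact (h3.unique hb hnd IsAdj.one)
  have hss : s' = s := by
    calc s' = s' * (t * s) := by rw [hts, mul_one]
      _ = (s' * t) * s := by rw [mul_assoc]
      _ = s := by rw [h1, one_mul]
  rw [hss] at hspec_s
  refine ⟨s * k, K.mul_mem hsK k.2, k' * s, K.mul_mem hk'K hsK, hspec_s.mul hspec, ?_⟩
  rw [hK.comm k' hk'K s hsK, ← mul_add, hst]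

/-- the quadratic form `v ↦ f (θ v) v` -/
theorem quad_smul (hb : IsBilinearForm f) (θ : Matrix ι ι F) (c : F) (v : ι → F) :
    f (θ *ᵥ (c • v)) (c • v) = c ^ 2 * f (θ *ᵥ v) v := by
  rw [Matrix.mulVec_smul, hb.smul_left, hb.smul_right]
  ring

theorem quad_polar (hb : IsBilinearForm f) (hskew : ∀ u v, f u v = - f v u) (h2 : (2 : F) = 0)
    {θ θ' : Matrix ι ι F} (hθ : IsAdj f θ θ') (hsum : θ + θ' = 1) (u v : ι → F) :
    QuadraticMap.polar (fun x => f (θ *ᵥ x) x) u v = f u v := by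
  unfold QuadraticMap.polar
  have h3 : f (θ *ᵥ v) u = f (θ' *ᵥ u) v := by
    rw [hθ, hskew]
    have hneg : ∀ a : F, -a = a := by
      intro a
      rw [neg_eq_iff_add_eq_zero]
      linear_combination a * h2
    exact hneg _
  have h4 : f u v = f (θ *ᵥ u) v + f (θ' *ᵥ u) v := by
    rw [← hb.add_left, ← Matrix.add_mulVec, hsum, Matrix.one_mulVec]
  show f (θ *ᵥ (u + v)) (u + v) - f (θ *ᵥ u) u - f (θ *ᵥ v) v = f u v
  rw [Matrix.mulVec_add, hb.add_left, hb.add_right, hb.add_right, h3, h4]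
  ring

/-- an isometry normalizing `K` fixes the quadratic form `v ↦ f (θ v) v` -/
theorem quad_fixed [Finite F] (hb : IsBilinearForm f) (hnd : IsNondegenerateForm f)
    (hskew : ∀ u v, f u v = - f v u) (halt : ∀ v, f v v = 0) (hK : IsFieldSubalgebra r K)
    (hadj : IsAdjointClosedFor f K) (h2 : (2 : F) = 0)
    {θ θ' : Matrix ι ι F} (hθK : θ ∈ K) (hθ'K : θ' ∈ K) (hθ : IsAdj f θ θ') (hsum : θ + θ' = 1)
    (h : GL ι F) (hh : ∀ u v, f ((h : Matrix ι ι F) *ᵥ u) ((h : Matrix ι ι F) *ᵥ v) = f u v)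
    (hnorm : h ∈ subalgebraNormalizer K) (v : ι → F) :
    f (θ *ᵥ ((h : Matrix ι ι F) *ᵥ v)) ((h : Matrix ι ι F) *ᵥ v) = f (θ *ᵥ v) v := by
  have hconjK : ∀ a ∈ K, ((h⁻¹ : GL ι F) : Matrix ι ι F) * a * (h : Matrix ι ι F) ∈ K := by
    intro a ha
    rw [hnorm]
    have : (h : Matrix ι ι F) * (((h⁻¹ : GL ι F) : Matrix ι ι F) * a * (h : Matrix ι ι F)) *
        ((h⁻¹ : GL ι F) : Matrix ι ι F) = a := by
      rw [← mul_assoc, ← mul_assoc, ← Units.val_mul, mul_inv_cancel, Units.val_one, one_mul, mul_assoc,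
        ← Units.val_mul, mul_inv_cancel, Units.val_one, mul_one]
    rw [this]
    exact ha
  set θ₁ : Matrix ι ι F := ((h⁻¹ : GL ι F) : Matrix ι ι F) * θ * (h : Matrix ι ι F) with hθ₁
  set θ₁' : Matrix ι ι F := ((h⁻¹ : GL ι F) : Matrix ι ι F) * θ' * (h : Matrix ι ι F) with hθ₁'
  have h1 : IsAdj f θ₁ θ₁' := hθ.conj hh
  have hsum1 : θ₁ + θ₁' = 1 := by
    rw [hθ₁, hθ₁', ← add_mul, ← mul_add, hsum, mul_one, ← Units.val_mul, inv_mul_cancel, Units.val_one]
  -- `δ = θ₁ + θ` is self-adjoint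
  have hδ : IsAdj f (θ₁ + θ) (θ₁ + θ) := by
    have h3 := h1.add hb hθ
    have h4 : θ₁' + θ' = θ₁ + θ := by
      have e1 : θ₁' = 1 - θ₁ := by rw [← hsum1]; abel
      have e2 : θ' = 1 - θ := by rw [← hsum]; abel
      rw [e1, e2]
      have : (1 : Matrix ι ι F) - θ₁ + (1 - θ) = (1 + 1) - (θ₁ + θ) := by abel
      rw [this, add_self_eq_zero_of_two h2, zero_sub, neg_eq_self_of_two h2]
    rwa [h4] at h3
  have h5 := alt_of_selfadj hb hnd hskew halt hK hadj (θ₁ + θ) (K.add_mem (hconjK θ hθK) hθK) hδ v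
  rw [Matrix.add_mulVec, hb.add_left] at h5
  have hneg : ∀ a : F, -a = a := by
    intro a
    rw [neg_eq_iff_add_eq_zero]
    linear_combination a * h2
  have h6 : f (θ₁ *ᵥ v) v = f (θ *ᵥ v) v := by
    rw [← hneg (f (θ *ᵥ v) v)]
    exact eq_neg_of_add_eq_zero_left h5
  rw [← h6]
  have h7 : θ *ᵥ ((h : Matrix ι ι F) *ᵥ v) = (h : Matrix ι ι F) *ᵥ (θ₁ *ᵥ v) := by
    rw [hθ₁, Matrix.mulVec_mulVec, Matrix.mulVec_mulVec, ← mul_assoc, ← mul_assoc, ← Units.val_mul,
      mul_inv_cancel, Units.val_one, one_mul]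
  rw [h7, hh]

end star

section Sp

variable [Fintype F]

/-- SP3: a normalized adjoint-closed field of prime degree -/
theorem SP3 (m : ℕ) (H : Subgroup (GL (Fin m ⊕ Fin m) F)) (hH : H ≤ spGL m F)
    (r : ℕ) (K : Subalgebra F (Matrix (Fin m ⊕ Fin m) (Fin m ⊕ Fin m) F)) (hr : r.Prime)
    (hK : IsFieldSubalgebra r K) (hle : H ≤ subalgebraNormalizer K)
    (hadj : IsAdjointClosedFor (sympForm m F) K) : InSpClass m H := by
  have hS := isSymplecticForm_sympForm (F := F) m
  have hb := hS.bilinear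
  have hnd := hS.nondegenerate
  have hskew := hS.skew
  have halt := hS.alternating
  by_cases hsa : ∀ k : K, adjK hadj k = k
  · -- the self-adjoint case
    have hself : IsSelfAdjointFor (sympForm m F) K := by
      intro k hk u v
      have := adjK_spec hadj ⟨k, hk⟩
      rw [hsa] at this
      exact this u v
    refine ⟨subalgebraNormalizer K ⊓ spGL m F, Or.inr (Or.inl ⟨r, K, hr, hK, hself, ?_, rfl⟩), le_inf hle hH⟩
    intro k hk v
    exact alt_of_selfadj hb hnd hskew halt hK hadj k hk (fun u v => hself k hk u v) v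
  · push Not at hsa
    by_cases hodd : Odd (Fintype.card F)
    · have hr2 : r = 2 := prime_eq_two hr hK (adjK hadj) (adjK_add hb hnd hadj) (adjK_mul hb hnd hK hadj)
        (adjK_smul hb hnd hadj) (adjK_one hb hnd hadj) (adjK_adjK hb hnd hskew hadj) hsa
      subst hr2
      refine ⟨subalgebraNormalizer K ⊓ spGL m F,
        Or.inr (Or.inr (Or.inl ⟨K, hodd, hK, hadj, ?_, rfl⟩)), le_inf hle hH⟩
      intro hself
      obtain ⟨k, hk⟩ := hsa
      exact hk (Subtype.ext (adjK_eq hb hnd hadj k (hself k k.2)))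
    · -- characteristic 2: an invariant quadratic form
      have h2 : (2 : F) = 0 := Helper7_AschSp_SPQ.two_eq_zero_of_not_odd hodd
      obtain ⟨θ, hθK, θ', hθ'K, hθ, hsum⟩ := exists_theta hb hnd hskew hK hadj h2 hsa
      have hpol : ∀ u v, QuadraticMap.polar (fun x => sympForm m F (θ *ᵥ x) x) u v = sympForm m F u v :=
        quad_polar hb hskew h2 hθ hsum
      have hpol' : QuadraticMap.polar (fun x => sympForm m F (θ *ᵥ x) x) = sympForm m F := by
        funext u v
        exact hpol u v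
      have hQ : IsNondegenerateQuadraticForm (fun x => sympForm m F (θ *ᵥ x) x) :=
        ⟨fun c v => quad_smul hb θ c v, by rw [hpol']; exact hb, by rw [hpol']; exact hnd⟩
      refine ⟨quadSimilarityGroup (fun x => sympForm m F (θ *ᵥ x) x) ⊓ spGL m F,
        Or.inl (Or.inr (Or.inr (Or.inr (Or.inr (Or.inr (Or.inr ⟨_, hodd, hQ, hpol, rfl⟩)))))), ?_⟩
      intro h hh
      refine ⟨⟨1, fun v => ?_⟩, hH hh⟩
      rw [Units.val_one, one_mul]
      exact quad_fixed hb hnd hskew halt hK hadj h2 hθK hθ'K hθ hsum h ((mem_spGL_iff h).1 (hH hh)) (hle hh) v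

end Sp

end Cfsg.Agent.Lib.Helper7_AschSp_SP3
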