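/-
helper47: package EV24a of helper22's even-dimensional orthogonal rows (batch 3):
in characteristic 2 a self-adjoint subfield of degree 2 exists only in dimensions divisible by 4.
-/
import Mathlib
import Cfsg.Prelude.Def_GeometricClasses
import Cfsg.Agent.Lib.Helper98_AschDefs
import Cfsg.Agent.Lib.Helper23_FormDefs
import Cfsg.Agent.Lib.Helper22_OrthEven_Basic
import Cfsg.Agent.Lib.Helper7_AschSp_SP3
import Cfsg.Agent.Lib.Helper63_SpExt_QB1

set_option autoImplicit false

namespace Cfsg.Agent.Lib.Helper47_OrthEven_EV24a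

open Cfsg Cfsg.Geo Matrix Cfsg.Agent.Lib.Helper98_AschDefs Cfsg.Agent.Lib.Helper23_FormDefs
  Cfsg.Agent.Lib.Helper22_OrthEven_Basic
open scoped MatrixGroups

variable {ι : Type} [Fintype ι] [DecidableEq ι] {F : Type*} [Field F]

omit [Fintype ι] [DecidableEq ι] in
/-- the polar form of a non-degenerate quadratic form is a non-degenerate bilinear form -/
theorem polarBil_nondegenerate (Q : (ι → F) → F) (hQ : IsNondegenerateQuadraticForm Q) :
    (polarBil Q hQ).Nondegenerate := by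
  constructor
  · intro x hx
    by_contra hne
    obtain ⟨y, hy⟩ := (hQ.nondegenerate x hne).2
    exact hy (hx y)
  · intro y hy
    by_contra hne
    obtain ⟨x, hx⟩ := (hQ.nondegenerate y hne).1
    exact hx (hy x)

/-- evaluation of matrices at a vector, as a linear map -/
def evalAt (v : ι → F) : Matrix ι ι F →ₗ[F] (ι → F) where
  toFun M := M *ᵥ v
  map_add' a b := Matrix.add_mulVec a b v
  map_smul' c a := Matrix.smul_mulVec c a v

/-- a self-dual subspace stable under a subfield of degree 2 -/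
theorem exists_lagrangian [Fintype F] (Q : (ι → F) → F) (hQ : IsNondegenerateQuadraticForm Q)
    (h2 : (2 : F) = 0) (K : Subalgebra F (Matrix ι ι F)) (hK : IsFieldSubalgebra 2 K)
    (hsa : IsSelfAdjointFor (QuadraticMap.polar Q) K) :
    ∃ U : Submodule F (ι → F), (∀ a ∈ K, ∀ w ∈ U, a *ᵥ w ∈ U) ∧
      (polarBil Q hQ).orthogonal U = U := by
  classical
  have hb := hQ.polar_bilinear
  have hsymm : ∀ u v : ι → F, QuadraticMap.polar Q u v = QuadraticMap.polar Q v u :=
    fun u v => QuadraticMap.polar_comm Q u v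
  have halt : ∀ v : ι → F, QuadraticMap.polar Q v v = 0 := by
    intro v
    rw [polar_self Q hQ, h2, zero_mul]
  -- `f (k v, v) = 0`
  have hkv : ∀ k ∈ K, ∀ v : ι → F, QuadraticMap.polar Q (k *ᵥ v) v = 0 := by
    intro k hk v
    obtain ⟨l, hl, rfl⟩ := Cfsg.Agent.Lib.Helper7_AschSp_SP3.exists_sq hK h2 k hk
    rw [← Matrix.mulVec_mulVec, hsa l hl]
    exact halt _
  have hkk : ∀ k₁ ∈ K, ∀ k₂ ∈ K, ∀ v : ι → F,
      QuadraticMap.polar Q (k₁ *ᵥ v) (k₂ *ᵥ v) = 0 := by
    intro k₁ hk₁ k₂ hk₂ v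
    rw [hsa k₁ hk₁, Matrix.mulVec_mulVec, hsymm]
    exact hkv _ (K.mul_mem hk₁ hk₂) v
  -- the family of `K`-stable totally isotropic subspaces
  let S : Set (Submodule F (ι → F)) := {U | (∀ a ∈ K, ∀ w ∈ U, a *ᵥ w ∈ U) ∧
    ∀ u ∈ U, ∀ w ∈ U, QuadraticMap.polar Q u w = 0}
  have hSne : S.Nonempty := by
    refine ⟨⊥, ?_, ?_⟩
    · intro a _ w hw
      rw [Submodule.mem_bot] at hw
      rw [hw, Matrix.mulVec_zero]
      exact Submodule.zero_mem _
    · intro u hu w _
      rw [Submodule.mem_bot] at hu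
      rw [hu]
      have h := hb.smul_left 0 0 w
      rw [zero_smul, zero_mul] at h
      exact h
  have hwf : WellFounded ((· > ·) : Submodule F (ι → F) → Submodule F (ι → F) → Prop) :=
    wellFounded_gt
  obtain ⟨U, ⟨hUK, hUti⟩, hUmax⟩ := hwf.has_min S hSne
  refine ⟨U, hUK, ?_⟩
  apply le_antisymm
  · -- `U^⊥ ≤ U` by maximality
    intro v hv
    rw [LinearMap.BilinForm.mem_orthogonal_iff] at hv
    have hv' : ∀ u ∈ U, QuadraticMap.polar Q u v = 0 := fun u hu => hv u hu
    let U' : Submodule F (ι → F) := U ⊔ K.toSubmodule.map (evalAt v)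
    have hmemKv : ∀ w, w ∈ K.toSubmodule.map (evalAt v) ↔ ∃ k ∈ K, k *ᵥ v = w := by
      intro w
      rw [Submodule.mem_map]
      constructor
      · rintro ⟨k, hk, rfl⟩
        exact ⟨k, hk, rfl⟩
      · rintro ⟨k, hk, rfl⟩
        exact ⟨k, hk, rfl⟩
    have hU'S : U' ∈ S := by
      constructor
      · intro a ha w hw
        obtain ⟨u, hu, z, hz, rfl⟩ := Submodule.mem_sup.1 hw
        obtain ⟨k, hk, rfl⟩ := (hmemKv z).1 hz
        rw [Matrix.mulVec_add, Matrix.mulVec_mulVec]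
        exact Submodule.add_mem _ (Submodule.mem_sup_left (hUK a ha u hu))
          (Submodule.mem_sup_right ((hmemKv _).2 ⟨a * k, K.mul_mem ha hk, rfl⟩))
      · intro x hx y hy
        obtain ⟨u₁, hu₁, z₁, hz₁, rfl⟩ := Submodule.mem_sup.1 hx
        obtain ⟨u₂, hu₂, z₂, hz₂, rfl⟩ := Submodule.mem_sup.1 hy
        obtain ⟨k₁, hk₁, rfl⟩ := (hmemKv z₁).1 hz₁
        obtain ⟨k₂, hk₂, rfl⟩ := (hmemKv z₂).1 hz₂
        rw [hb.add_left, hb.add_right, hb.add_right, hUti u₁ hu₁ u₂ hu₂, hkk k₁ hk₁ k₂ hk₂ v]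
        have h1 : QuadraticMap.polar Q u₁ (k₂ *ᵥ v) = 0 := by
          rw [← hsa k₂ hk₂]
          exact hv' _ (hUK k₂ hk₂ u₁ hu₁)
        have h2' : QuadraticMap.polar Q (k₁ *ᵥ v) u₂ = 0 := by
          rw [hsa k₁ hk₁, hsymm]
          exact hv' _ (hUK k₁ hk₁ u₂ hu₂)
        rw [h1, h2']
        ring
    have hle : U ≤ U' := le_sup_left
    have heq : U = U' := by
      by_contra hne
      exact hUmax U' hU'S (lt_of_le_of_ne hle hne)
    rw [heq]
    apply Submodule.mem_sup_right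
    exact (hmemKv v).2 ⟨1, K.one_mem, Matrix.one_mulVec v⟩
  · intro v hv
    rw [LinearMap.BilinForm.mem_orthogonal_iff]
    intro u hu
    exact hUti u hu v hv

/-- EV24a: in characteristic 2 a self-adjoint subfield of degree 2 exists only in dimensions divisible by 4 -/
theorem EV24a [Fintype F] (Q : (ι → F) → F) (hQ : IsNondegenerateQuadraticForm Q) (h2 : (2 : F) = 0)
    (K : Subalgebra F (Matrix ι ι F)) (hK : IsFieldSubalgebra 2 K)
    (hsa : IsSelfAdjointFor (QuadraticMap.polar Q) K) : 4 ∣ Fintype.card ι := by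
  rcases isEmpty_or_nonempty ι with hι | hι
  · rw [Fintype.card_eq_zero]
    exact dvd_zero 4
  obtain ⟨U, hUK, hUperp⟩ := exists_lagrangian Q hQ h2 K hK hsa
  have h1 := LinearMap.BilinForm.finrank_orthogonal (polarBil_nondegenerate Q hQ) U
  rw [hUperp, Module.finrank_fintype_fun_eq_card] at h1
  have h3 : Module.finrank F U ≤ Fintype.card ι := by
    have := Submodule.finrank_le U
    rwa [Module.finrank_fintype_fun_eq_card] at this
  obtain ⟨m, hm⟩ := Cfsg.Agent.Lib.Helper63_SpExt_QB1.QB1 2 K hK U hUK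
  exact ⟨m, by omega⟩

end Cfsg.Agent.Lib.Helper47_OrthEven_EV24a
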