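import Mathlib
import Cfsg.Agent.Lib.Helper98_AschDefs
import Cfsg.Agent.Lib.Helper98_AschCliff
import Cfsg.Agent.Lib.Helper23_FormDefs
import Cfsg.Agent.Lib.Helper29_Asch_PKG0
import Cfsg.Agent.Lib.Helper29_Asch_PKP1
import Cfsg.Agent.Lib.Helper29_OrthOdd_Glue
import Cfsg.Agent.Lib.Helper7_OrthOdd_OG2
import Cfsg.Agent.Lib.Helper30_AschMax
import Cfsg.Agent.Lib.Helper85_OrthEven_EV5

set_option autoImplicit false

/-!
EV44 (helper51, for helper22's even-dimensional orthogonal rows, batch 4): an orthogonal sum of an odd number of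
planes of minus type is of minus type.
-/

namespace Cfsg.Agent.Lib.Helper51_OrthEven_EV44

open Cfsg Cfsg.Geo Matrix Cfsg.Agent.Lib.Helper98_AschDefs Cfsg.Agent.Lib.Helper23_FormDefs
open scoped Kronecker MatrixGroups
open Cfsg.Agent.Lib.Helper85_OrthEven_EV5 Cfsg.Agent.Lib.Helper40_SpBasic Cfsg.Agent.Lib.Helper40_OConj
  Cfsg.Agent.Lib.Helper40_QuadIso Cfsg.Agent.Lib.Helper99_OrthTSDefs Cfsg.Agent.Lib.Helper43_OrthTS_OQ2
  Cfsg.Agent.Lib.Helper94_OrthGenBridge

variable {ι : Type} [Fintype ι] [DecidableEq ι] {F : Type*} [Field F]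

/-- EV44: an orthogonal sum of an odd number of planes of minus type: minus type -/
theorem EV44 [Fintype F] (Q : (ι → F) → F) (hQ : IsNondegenerateQuadraticForm Q) (t : ℕ) (ht : Odd t)
    (D : Fin t → Submodule F (ι → F)) (hD : IsNondegenerateMDecomposition (QuadraticMap.polar Q) 2 D)
    (hb : ∀ i, ¬ IsPlusTypeOn Q (D i)) : ¬ IsPlusTypeOn Q ⊤ := by
  classical
  intro hplus
  have hnd : ∀ i, NDOn (pol (qfOf Q hQ)) (D i) :=
    fun i => ndOn_of_geo Q hQ _ (hD.nondegenerate i)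
  have horth : ∀ i j, i ≠ j → ∀ u ∈ D i, ∀ v ∈ D j, pol (qfOf Q hQ) u v = 0 :=
    fun i j hij u hu v hv => hD.orthogonal i j hij u hu v hv
  have hfr : ∀ i, Module.finrank F (D i) = 2 := hD.decomp.finrank_eq
  have hev : ∀ i, Even (Module.finrank F (D i)) := fun i => by rw [hfr i]; exact even_two
  have htype : ∀ i, OHypOn (qfOf Q hQ) (D i) ↔ False :=
    fun i => ⟨fun h => hb i (isPlusTypeOn_of_oHypOn Q hQ (hev i) h), False.elim⟩
  obtain ⟨-, -, h3⟩ := type_biSup D False hnd horth hev htype Finset.univ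
  have hu : (⨆ i ∈ (Finset.univ : Finset (Fin t)), D i) = ⊤ := by
    rw [← hD.decomp.iSup_eq_top]
    simp
  rw [hu, Finset.card_univ, Fintype.card_fin] at h3
  rcases h3.1 (oHypOn_of_isPlusTypeOn Q hQ hplus) with h | h
  · exact (Nat.not_even_iff_odd.mpr ht) h
  · exact h

end Cfsg.Agent.Lib.Helper51_OrthEven_EV44
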