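import Mathlib
import Cfsg.Agent.Lib.Helper98_AschDefs
import Cfsg.Agent.Lib.Helper98_AschCliff
import Cfsg.Agent.Lib.Helper23_FormDefs
import Cfsg.Agent.Lib.Helper29_Asch_PKG0
import Cfsg.Agent.Lib.Helper29_Asch_PKP1
import Cfsg.Agent.Lib.Helper29_OrthOdd_Glue
import Cfsg.Agent.Lib.Helper7_OrthOdd_OG2
import Cfsg.Agent.Lib.Helper30_AschMax
import Cfsg.Agent.Lib.Helper85_OrthEven_EV5

set_option autoImplicit false

/-!
EV46 (helper51, for helper22's even-dimensional orthogonal rows, batch 4): an isometric orthogonal decomposition into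
`t ≡ 2 mod 4` lines over a field with `q ≡ 3 mod 4` elements is of minus type (pair the lines into `t / 2`
anisotropic planes `a (x² + y²)`).
-/

namespace Cfsg.Agent.Lib.Helper51_OrthEven_EV46

open Cfsg Cfsg.Geo Matrix Cfsg.Agent.Lib.Helper98_AschDefs Cfsg.Agent.Lib.Helper23_FormDefs
open scoped Kronecker MatrixGroups
open Module Cfsg.Agent.Lib.Helper85_OrthEven_EV5 Cfsg.Agent.Lib.Helper40_SpBasic Cfsg.Agent.Lib.Helper40_OConj
  Cfsg.Agent.Lib.Helper40_QuadIso Cfsg.Agent.Lib.Helper99_OrthTSDefs Cfsg.Agent.Lib.Helper43_OrthTS_OQ2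
  Cfsg.Agent.Lib.Helper94_OrthGenBridge

variable {ι : Type} [Fintype ι] [DecidableEq ι] {F : Type*} [Field F]

/-- EV46: an isometric orthogonal decomposition into `t ≡ 2 mod 4` lines, `q ≡ 3 mod 4`: minus type -/
theorem EV46 [Fintype F] (Q : (ι → F) → F) (hQ : IsNondegenerateQuadraticForm Q)
    (hq : Fintype.card F % 4 = 3) (t : ℕ) (ht : t % 4 = 2)
    (D : Fin t → Submodule F (ι → F)) (hD : IsOrthogonalMDecomposition Q 1 D) : ¬ IsPlusTypeOn Q ⊤ := by
  classical
  intro hplus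
  obtain ⟨c, hc⟩ : ∃ c, t = 4 * c + 2 := ⟨t / 4, by omega⟩
  have e : Fin (2 * c + 1) × Fin 2 ≃ Fin t := finProdFinEquiv.trans (finCongr (by omega))
  have hneg : ¬ IsSquare (-1 : F) := by
    rw [FiniteField.isSquare_neg_one_iff]
    omega
  have h2 : (2 : F) ≠ 0 := by
    intro h
    apply hneg
    refine ⟨1, ?_⟩
    linear_combination (-1 : F) * h
  set Qf := qfOf Q hQ with hQf
  have hQcoe : ∀ v, Qf v = Q v := fun v => rfl
  have hnd : ∀ i, NDOn (pol Qf) (D i) :=
    fun i => ndOn_of_geo Q hQ _ (hD.decomp.nondegenerate i)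
  have horth : ∀ i j, i ≠ j → ∀ u ∈ D i, ∀ v ∈ D j, pol Qf u v = 0 :=
    fun i j hij u hu v hv => hD.decomp.orthogonal i j hij u hu v hv
  have hfr : ∀ i, Module.finrank F (D i) = 1 := hD.decomp.decomp.finrank_eq
  -- a generator of the first line
  have ht0 : 0 < t := by omega
  set i₀ : Fin t := ⟨0, ht0⟩ with hi₀
  obtain ⟨v₀, hv₀⟩ := finrank_eq_one_iff'.mp (hfr i₀)
  obtain ⟨hv₀0, hv₀gen⟩ := hv₀
  have hv₀0' : (v₀ : ι → F) ≠ 0 := fun h => hv₀0 (Subtype.ext h)
  -- its value is non-zero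
  have ha : Q (v₀ : ι → F) ≠ 0 := by
    intro h0
    apply hv₀0'
    apply hnd i₀ _ v₀.2
    intro y hy
    obtain ⟨b, hb⟩ := hv₀gen ⟨y, hy⟩
    have hy' : y = b • (v₀ : ι → F) := by
      have := congrArg Subtype.val hb
      simpa using this.symm
    rw [hy', pol_apply]
    have h1 : (v₀ : ι → F) + b • (v₀ : ι → F) = (1 + b) • (v₀ : ι → F) := by
      rw [add_smul, one_smul]
    rw [h1, QuadraticMap.map_smul, QuadraticMap.map_smul, hQcoe, h0]
    simp
  -- generators of all lines with the same value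
  have hgen : ∀ i : Fin t, ∃ u ∈ D i, Q u = Q (v₀ : ι → F) ∧ ∀ w ∈ D i, ∃ b : F, w = b • u := by
    intro i
    obtain ⟨φ, hφ⟩ := hD.isometric i₀ i
    refine ⟨(φ v₀ : ι → F), (φ v₀).2, hφ v₀, ?_⟩
    have hne : φ v₀ ≠ 0 := by
      intro h
      apply hv₀0
      exact φ.injective (h.trans (map_zero φ).symm)
    have h1 := (finrank_eq_one_iff_of_nonzero' (φ v₀) hne).mp (hfr i)
    intro w hw
    obtain ⟨b, hb⟩ := h1 ⟨w, hw⟩
    refine ⟨b, ?_⟩
    have := congrArg Subtype.val hb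
    simpa using this.symm
  choose u hu huQ hugen using hgen
  -- the planes
  set E : Fin (2 * c + 1) → Submodule F (ι → F) := fun j => D (e (j, 0)) ⊔ D (e (j, 1)) with hE
  have hne : ∀ i j : Fin (2 * c + 1), ∀ a b : Fin 2, (i, a) ≠ (j, b) → e (i, a) ≠ e (j, b) :=
    fun i j a b hab hh => hab (e.injective hh)
  have h01 : ∀ i : Fin (2 * c + 1), ∀ x ∈ D (e (i, 0)), ∀ y ∈ D (e (i, 1)), pol Qf x y = 0 := by
    intro i
    apply horth
    apply hne
    intro hh
    have h2 : (0 : Fin 2) = 1 := congrArg Prod.snd hh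
    exact absurd h2 (by decide)
  have hpair : ∀ i j : Fin (2 * c + 1), i ≠ j → ∀ a b : Fin 2,
      ∀ x ∈ D (e (i, a)), ∀ y ∈ D (e (j, b)), pol Qf x y = 0 := by
    intro i j hij a b
    apply horth
    apply hne
    intro hh
    exact hij (congrArg Prod.fst hh)
  have hEnd : ∀ j, NDOn (pol Qf) (E j) := fun j => ndOn_sup (hnd _) (hnd _) (h01 j)
  have hEorth : ∀ i j, i ≠ j → ∀ x ∈ E i, ∀ y ∈ E j, pol Qf x y = 0 := by
    intro i j hij
    exact orth_sup_left (orth_sup_right (hpair i j hij 0 0) (hpair i j hij 0 1))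
      (orth_sup_right (hpair i j hij 1 0) (hpair i j hij 1 1))
  have hEfr : ∀ j, Module.finrank F (E j) = 2 := by
    intro j
    rw [hE]
    simp only
    rw [finrank_sup_of_orth (hnd _) (h01 j), hfr, hfr]
  have hEev : ∀ j, Even (Module.finrank F (E j)) := fun j => by rw [hEfr j]; exact even_two
  -- the planes are anisotropic
  have haniso : ∀ j, ∀ w ∈ E j, Q w = 0 → w = 0 := by
    intro j w hw hQw
    obtain ⟨x, hx, y, hy, rfl⟩ := Submodule.mem_sup.mp hw
    obtain ⟨α, rfl⟩ := hugen _ x hx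
    obtain ⟨β, rfl⟩ := hugen _ y hy
    have hpol : pol Qf (α • u (e (j, 0))) (β • u (e (j, 1))) = 0 :=
      h01 j _ ((D _).smul_mem α (hu _)) _ ((D _).smul_mem β (hu _))
    have hsum : Q (α • u (e (j, 0)) + β • u (e (j, 1))) =
        (α * α + β * β) * Q (v₀ : ι → F) := by
      have h5 : Qf (α • u (e (j, 0)) + β • u (e (j, 1))) =
          Qf (α • u (e (j, 0))) + Qf (β • u (e (j, 1))) + pol Qf (α • u (e (j, 0))) (β • u (e (j, 1))) := by
        rw [pol_apply]; ring
      have e1 : Qf (α • u (e (j, 0))) = (α * α) * Q (v₀ : ι → F) := by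
        rw [QuadraticMap.map_smul, hQcoe, huQ, smul_eq_mul]
      have e2 : Qf (β • u (e (j, 1))) = (β * β) * Q (v₀ : ι → F) := by
        rw [QuadraticMap.map_smul, hQcoe, huQ, smul_eq_mul]
      rw [hpol, e1, e2] at h5
      rw [← hQcoe, h5]
      ring
    rw [hsum] at hQw
    have h6 : α * α + β * β = 0 := (mul_eq_zero.mp hQw).resolve_right ha
    have hβ : β = 0 := by
      by_contra hβ
      apply hneg
      refine ⟨α / β, ?_⟩
      field_simp
      linear_combination -h6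
    rw [hβ, mul_zero, add_zero] at h6
    have hα : α = 0 := by
      rcases mul_eq_zero.mp h6 with h | h <;> exact h
    rw [hα, hβ, zero_smul, zero_smul, add_zero]
  have htype : ∀ j, OHypOn Qf (E j) ↔ False := by
    intro j
    refine ⟨?_, False.elim⟩
    rintro ⟨U, hUE, hU, hdim⟩
    rw [hEfr j] at hdim
    have hU0 : U ≠ ⊥ := by
      rintro rfl
      rw [finrank_bot] at hdim
      omega
    obtain ⟨w, hwU, hw0⟩ := Submodule.exists_mem_ne_zero_of_ne_bot hU0
    exact hw0 (haniso j w (hUE hwU) (hU w hwU))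
  obtain ⟨-, -, h3⟩ := type_biSup E False hEnd hEorth hEev htype Finset.univ
  have hu' : (⨆ j ∈ (Finset.univ : Finset (Fin (2 * c + 1))), E j) = ⊤ := by
    rw [eq_top_iff, ← hD.decomp.decomp.iSup_eq_top]
    refine iSup_le fun x => ?_
    obtain ⟨⟨i, b⟩, rfl⟩ := e.surjective x
    refine le_trans ?_ (le_iSup₂ (f := fun j (_ : j ∈ (Finset.univ : Finset (Fin (2 * c + 1)))) => E j) i (Finset.mem_univ i))
    rcases Fin.exists_fin_two.1 ⟨b, rfl⟩ with rfl | rfl
    · exact le_sup_left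
    · exact le_sup_right
  rw [hu', Finset.card_univ, Fintype.card_fin] at h3
  rcases h3.1 (oHypOn_of_isPlusTypeOn Q hQ hplus) with h | h
  · exact (Nat.not_even_iff_odd.mpr ⟨c, rfl⟩) h
  · exact h

end Cfsg.Agent.Lib.Helper51_OrthEven_EV46
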