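import Mathlib
import Cfsg.Agent.Lib.Helper98_AschDefs
import Cfsg.Agent.Lib.Helper98_AschCliff
import Cfsg.Agent.Lib.Helper23_FormDefs
import Cfsg.Agent.Lib.Helper29_Asch_PKG0
import Cfsg.Agent.Lib.Helper29_Asch_PKP1
import Cfsg.Agent.Lib.Helper29_OrthOdd_Glue
import Cfsg.Agent.Lib.Helper7_OrthOdd_OG2
import Cfsg.Agent.Lib.Helper30_AschMax
import Cfsg.Agent.Lib.Helper85_OrthEven_EV5
import Cfsg.Agent.Lib.Helper35_Asch_PK11

/-!
# EVEN batch 4, package EV45c (architect helper22; S5847)

Over the field with four elements, the isometries preserving an orthogonal decomposition into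
hyperbolic planes lie in a subfield group over the prime field: in a hyperbolic plane the three vectors
with `Q v = 1` together with `0` form an `F₂`-structure, which every isometry between two such planes
must respect.
-/

set_option autoImplicit false
set_option linter.unusedSectionVars false

namespace Cfsg.Agent.Lib.Helper64_OrthEven_EV45c

open Module

section F4

variable {F : Type*} [Field F] [Fintype F]

theorem two_eq_zero_of_card_four (hq : Fintype.card F = 4) : (2 : F) = 0 := by
  have h4 : ((Fintype.card F : ℕ) : F) = 0 := Nat.cast_card_eq_zero F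
  rw [hq] at h4
  have : (2 : F) * 2 = 0 := by
    have : ((4 : ℕ) : F) = 2 * 2 := by norm_num
    rw [← this]; exact h4
  exact mul_self_eq_zero.1 this

theorem exists_omega (hq : Fintype.card F = 4) :
    ∃ ω : F, ω ≠ 0 ∧ ω ≠ 1 ∧ ω ^ 2 + ω + 1 = 0 := by
  classical
  have hlt : ({0, 1} : Finset F).card < (Finset.univ : Finset F).card := by
    rw [Finset.card_univ, hq]
    exact lt_of_le_of_lt (Finset.card_insert_le _ _) (by simp)
  obtain ⟨ω, -, hω⟩ := Finset.exists_mem_notMem_of_card_lt_card hlt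
  have hω0 : ω ≠ 0 := fun h => hω (by rw [h]; simp)
  have hω1 : ω ≠ 1 := fun h => hω (by rw [h]; simp)
  refine ⟨ω, hω0, hω1, ?_⟩
  have h3 : ω ^ 3 = 1 := by
    have := FiniteField.pow_card_sub_one_eq_one ω hω0
    rwa [hq] at this
  have : (ω - 1) * (ω ^ 2 + ω + 1) = 0 := by linear_combination h3
  rcases mul_eq_zero.1 this with h | h
  · exact absurd (sub_eq_zero.1 h) hω1
  · exact h

theorem eq_one_or_omega (hq : Fintype.card F = 4) (ω : F) (hω : ω ^ 2 + ω + 1 = 0) (x : F)
    (hx : x ≠ 0) : x = 1 ∨ x = ω ∨ x = ω + 1 := by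
  have h2 := two_eq_zero_of_card_four hq
  have hx3 : x ^ 3 = 1 := by
    have := FiniteField.pow_card_sub_one_eq_one x hx
    rwa [hq] at this
  have : (x - 1) * ((x - ω) * (x - (ω + 1))) = 0 := by
    linear_combination hx3 - (x - 1) * (x + 1 + ω * x) * h2 + (x - 1) * hω
  rcases mul_eq_zero.1 this with h | h
  · left; exact sub_eq_zero.1 h
  · rcases mul_eq_zero.1 h with h | h
    · right; left; exact sub_eq_zero.1 h
    · right; right; exact sub_eq_zero.1 h

end F4

section plane

variable {F : Type*} [Field F] {V : Type*} [AddCommGroup V] [Module F V]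

open QuadraticMap

/-- a hyperbolic pair in a non-degenerate plane containing a singular vector -/
theorem exists_hyp_pair (Qb : QuadraticForm F V) (W : Submodule F V) (hdim : finrank F W = 2)
    (hnd : ∀ w ∈ W, w ≠ 0 → ∃ x ∈ W, polar Qb w x ≠ 0)
    (e : V) (heW : e ∈ W) (he0 : e ≠ 0) (hQe : Qb e = 0) :
    ∃ f ∈ W, Qb f = 0 ∧ polar Qb e f = 1 ∧ ∀ v ∈ W, ∃ x y : F, v = x • e + y • f := by
  obtain ⟨z, hzW, hz⟩ := hnd e heW he0
  have hee : polar Qb e e = 0 := by
    rw [polar_self, hQe, smul_zero]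
  obtain ⟨f₀, hf₀W, hef₀⟩ : ∃ f₀ ∈ W, polar Qb e f₀ = 1 := by
    refine ⟨(polar Qb e z)⁻¹ • z, W.smul_mem _ hzW, ?_⟩
    rw [polar_smul_right, smul_eq_mul, inv_mul_cancel₀ hz]
  obtain ⟨f, hf⟩ : ∃ f : V, f = f₀ + (-(Qb f₀)) • e := ⟨_, rfl⟩
  have hfW : f ∈ W := by
    rw [hf]; exact W.add_mem hf₀W (W.smul_mem _ heW)
  have hef : polar Qb e f = 1 := by
    rw [hf, polar_add_right, polar_smul_right, hee, smul_zero, add_zero, hef₀]
  have hQf : Qb f = 0 := by
    rw [hf, QuadraticMap.map_add Qb, QuadraticMap.map_smul, hQe, polar_smul_right,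
      polar_comm, hef₀]
    simp
  refine ⟨f, hfW, hQf, hef, ?_⟩
  have hff : polar Qb f f = 0 := by rw [polar_self, hQf, smul_zero]
  have hfe : polar Qb f e = 1 := by rw [polar_comm, hef]
  -- linear independence
  have hli : LinearIndependent F ![(⟨e, heW⟩ : W), ⟨f, hfW⟩] := by
    rw [LinearIndependent.pair_iff]
    intro s r hsr
    have h0 : s • e + r • f = 0 := by
      have := congrArg Subtype.val hsr
      simpa using this
    constructor
    · have : polar Qb (s • e + r • f) f = 0 := by rw [h0]; simp [polar]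
      rw [polar_add_left, polar_smul_left, polar_smul_left, hef, hff] at this
      simpa using this
    · have : polar Qb (s • e + r • f) e = 0 := by rw [h0]; simp [polar]
      rw [polar_add_left, polar_smul_left, polar_smul_left, hee, hfe] at this
      simpa using this
  let B : Basis (Fin 2) F W := basisOfLinearIndependentOfCardEqFinrank hli (by simp [hdim])
  have hB : ⇑B = ![(⟨e, heW⟩ : W), ⟨f, hfW⟩] := coe_basisOfLinearIndependentOfCardEqFinrank hli _
  intro v hv
  refine ⟨B.repr ⟨v, hv⟩ 0, B.repr ⟨v, hv⟩ 1, ?_⟩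
  have := B.sum_repr ⟨v, hv⟩
  rw [Fin.sum_univ_two, hB] at this
  have h2 := congrArg Subtype.val this
  simpa using h2.symm

theorem Q_hyp (Qb : QuadraticForm F V) (e f : V) (hQe : Qb e = 0) (hQf : Qb f = 0)
    (hef : polar Qb e f = 1) (x y : F) : Qb (x • e + y • f) = x * y := by
  rw [QuadraticMap.map_add Qb, QuadraticMap.map_smul, QuadraticMap.map_smul, hQe, hQf,
    polar_smul_left, polar_smul_right, hef]
  simp

variable [Fintype F]

/-- the `F₂`-structure of a hyperbolic plane over the field with four elements -/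
theorem block (hq : Fintype.card F = 4) (ω : F) (hω : ω ^ 2 + ω + 1 = 0)
    (Qb : QuadraticForm F V) (W : Submodule F V) (hdim : finrank F W = 2)
    (hnd : ∀ w ∈ W, w ≠ 0 → ∃ x ∈ W, polar Qb w x ≠ 0)
    (e : V) (heW : e ∈ W) (he0 : e ≠ 0) (hQe : Qb e = 0) :
    ∃ u w : V, u ∈ W ∧ w ∈ W ∧ (∀ x y : F, Qb (x • u + y • w) = x ^ 2 + x * y + y ^ 2) ∧
      (∀ v ∈ W, ∃ x y : F, v = x • u + y • w) ∧
      (∀ v ∈ W, Qb v = 1 → v = u ∨ v = w ∨ v = u + w) := by
  have h2 := two_eq_zero_of_card_four hq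
  obtain ⟨f, hfW, hQf, hef, hsp⟩ := exists_hyp_pair Qb W hdim hnd e heW he0 hQe
  have hQ := Q_hyp Qb e f hQe hQf hef
  refine ⟨e + f, ω • e + (ω + 1) • f, W.add_mem heW hfW,
    W.add_mem (W.smul_mem _ heW) (W.smul_mem _ hfW), ?_, ?_, ?_⟩
  · intro x y
    have : x • (e + f) + y • (ω • e + (ω + 1) • f) = (x + y * ω) • e + (x + y * (ω + 1)) • f := by
      module
    rw [this, hQ]
    linear_combination (x * y * ω - y ^ 2) * h2 + y ^ 2 * hω
  · intro v hv
    obtain ⟨x, y, rfl⟩ := hsp v hv
    refine ⟨x + (x + y) * ω, x + y, ?_⟩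
    have : (x + (x + y) * ω) • (e + f) + (x + y) • (ω • e + (ω + 1) • f) =
        (x + (x + y) * ω * 2) • e + (y + (x + (x + y) * ω) * 2) • f := by
      module
    rw [this, h2]
    simp
  · intro v hv hv1
    obtain ⟨x, y, rfl⟩ := hsp v hv
    rw [hQ] at hv1
    have hx0 : x ≠ 0 := by
      rintro rfl
      rw [zero_mul] at hv1
      exact zero_ne_one hv1
    rcases eq_one_or_omega hq ω hω x hx0 with hx | hx | hx
    · left
      rw [hx] at hv1 ⊢
      have : y = 1 := by rw [one_mul] at hv1; exact hv1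
      rw [this, one_smul, one_smul]
    · right; left
      rw [hx] at hv1 ⊢
      have : y = ω + 1 := by
        have hωω : ω * (ω + 1) = 1 := by linear_combination hω - h2
        have hω0 : ω ≠ 0 := by
          intro h0
          rw [h0, zero_mul] at hv1
          exact zero_ne_one hv1
        exact mul_left_cancel₀ hω0 (hv1.trans hωω.symm)
      rw [this]
    · right; right
      rw [hx] at hv1 ⊢
      have : y = ω := by
        have hωω : (ω + 1) * ω = 1 := by linear_combination hω - h2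
        have hω0 : ω + 1 ≠ 0 := by
          intro h0
          rw [h0, zero_mul] at hv1
          exact zero_ne_one hv1
        exact mul_left_cancel₀ hω0 (hv1.trans hωω.symm)
      rw [this]
      have : e + f + (ω • e + (ω + 1) • f) = (ω + 1) • e + (ω + 2) • f := by
        module
      rw [this, h2, add_zero]

end plane


section general

open Cfsg Cfsg.Geo Matrix

variable {ι : Type} [Fintype ι] [DecidableEq ι] {F : Type*} [Field F]

/-- the invertible matrix of a linear automorphism of `ι → F` -/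
def glOfEquiv (L : (ι → F) ≃ₗ[F] (ι → F)) : GL ι F :=
  ⟨LinearMap.toMatrix' L.toLinearMap, LinearMap.toMatrix' L.symm.toLinearMap,
    by rw [← LinearMap.toMatrix'_comp]; simp, by rw [← LinearMap.toMatrix'_comp]; simp⟩

theorem glOfEquiv_mulVec (L : (ι → F) ≃ₗ[F] (ι → F)) (v : ι → F) :
    ((glOfEquiv L : GL ι F) : Matrix ι ι F) *ᵥ v = L v :=
  LinearMap.toMatrix'_mulVec _ _

/-- a group mapping every column of `P` to the `P`-image of a vector over `F₁` lies in the subfield
group of `F₁` and `P` -/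
theorem le_subfieldSubgroup_of_rational (P : GL ι F) (F₁ : Subfield F) (H : Subgroup (GL ι F))
    (hrat : ∀ h ∈ H, ∀ j, ∃ a : ι → F, (∀ k, a k ∈ F₁) ∧
      (h : Matrix ι ι F) *ᵥ ((P : Matrix ι ι F) *ᵥ Pi.single j 1) = (P : Matrix ι ι F) *ᵥ a) :
    H ≤ subfieldSubgroup F₁ P := by
  have hPP : ((P⁻¹ : GL ι F) : Matrix ι ι F) * (P : Matrix ι ι F) = 1 := by
    rw [← Units.val_mul, inv_mul_cancel, Units.val_one]
  have hent : ∀ g ∈ H, ∀ k i, ((P⁻¹ * g * P : GL ι F) : Matrix ι ι F) k i ∈ F₁ := by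
    intro g hg k i
    obtain ⟨a, ha, hga⟩ := hrat g hg i
    have hcol : ((P⁻¹ * g * P : GL ι F) : Matrix ι ι F) *ᵥ Pi.single i 1 = a := by
      rw [Units.val_mul, Units.val_mul, ← Matrix.mulVec_mulVec, ← Matrix.mulVec_mulVec, hga,
        Matrix.mulVec_mulVec, hPP, Matrix.one_mulVec]
    have := congrFun hcol k
    rw [Matrix.mulVec_single_one] at this
    have h2 : ((P⁻¹ * g * P : GL ι F) : Matrix ι ι F) k i = a k := by simpa using this
    rw [h2]; exact ha k
  intro h hh
  have hmem : P⁻¹ * h * P ∈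
      (Matrix.GeneralLinearGroup.map (F₁.subtype : F₁ →+* F)).range ⊔ scalars ι F := by
    apply Cfsg.Agent.Lib.Helper35_Asch_PK11.mem_sup_of_entries
    intro i j k l
    have hinv : (P⁻¹ * h * P)⁻¹ = P⁻¹ * h⁻¹ * P := by group
    rw [hinv]
    exact mul_mem (hent h hh k i) (hent h⁻¹ (inv_mem hh) j l)
  unfold subfieldSubgroup
  refine ⟨P⁻¹ * h * P, hmem, ?_⟩
  simp only [MulEquiv.coe_toMonoidHom, MulAut.conj_apply]
  group

end general

section main

open Cfsg Cfsg.Geo Matrix Cfsg.Agent.Lib.Helper94_OrthGenBridge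

variable {ι : Type} [Fintype ι] [DecidableEq ι] {F : Type*} [Field F]

/-- additivity of a quadratic form on pairwise orthogonal summands -/
theorem map_sum_of_orth {κ : Type*} [DecidableEq κ] (Qb : QuadraticForm F (ι → F))
    (d : κ → (ι → F)) (s : Finset κ)
    (horth : ∀ i ∈ s, ∀ j ∈ s, i ≠ j → QuadraticMap.polar Qb (d i) (d j) = 0) :
    Qb (∑ i ∈ s, d i) = ∑ i ∈ s, Qb (d i) := by
  induction s using Finset.induction_on with
  | empty => simp
  | insert a s ha ih =>
    rw [Finset.sum_insert ha, Finset.sum_insert ha, QuadraticMap.map_add Qb, ih, add_eq_left]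
    · have : QuadraticMap.polar Qb (d a) (∑ i ∈ s, d i) = ∑ i ∈ s, QuadraticMap.polar Qb (d a) (d i) := by
        have := map_sum (QuadraticMap.polarBilin Qb (d a)) d s
        simp only [QuadraticMap.polarBilin_apply_apply] at this
        exact this
      rw [this]
      apply Finset.sum_eq_zero
      intro i hi
      exact horth a (Finset.mem_insert_self a s) i (Finset.mem_insert_of_mem hi)
        (fun h => ha (h ▸ hi))
    · intro i hi j hj hij
      exact horth i (Finset.mem_insert_of_mem hi) j (Finset.mem_insert_of_mem hj) hij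

/-- EV45c: over the field with 4 elements the isometries preserving an orthogonal decomposition into hyperbolic planes
lie in a subfield group over the field with 2 elements -/
theorem EV45c [Fintype F] (hq : Fintype.card F = 4) (Q : (ι → F) → F) (hQ : IsNondegenerateQuadraticForm Q)
    (t : ℕ) (D : Fin t → Submodule F (ι → F)) (hD : IsOrthogonalMDecomposition Q 2 D)
    (hb : ∀ i, IsPlusTypeOn Q (D i)) :
    ∃ (F₁ : Subfield F) (r : ℕ) (P : GL ι F) (ζ : F), r.Prime ∧ Fintype.card F = Nat.card F₁ ^ r ∧ ζ ≠ 0 ∧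
      IsQuadFormRationalStructure (fun v : ι → F => ζ * Q v) F₁ P ∧
      decompositionStabilizer D ⊓ isometryGroup F Q ≤ subfieldSubgroup F₁ P := by
  classical
  obtain ⟨Qb, hcoe⟩ : ∃ Qb : QuadraticForm F (ι → F), ⇑Qb = Q := ⟨qfOf Q hQ, rfl⟩
  have hdec := hD.decomp.decomp
  have h2 := two_eq_zero_of_card_four hq
  obtain ⟨ω, hω0, hω1, hω⟩ := exists_omega hq
  -- the blocks
  have hblock : ∀ i, ∃ u w : ι → F, u ∈ D i ∧ w ∈ D i ∧
      (∀ x y : F, Qb (x • u + y • w) = x ^ 2 + x * y + y ^ 2) ∧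
      (∀ v ∈ D i, ∃ x y : F, v = x • u + y • w) ∧
      (∀ v ∈ D i, Qb v = 1 → v = u ∨ v = w ∨ v = u + w) := by
    intro i
    obtain ⟨U, hUD, hU, hdim⟩ := hb i
    rw [hdec.finrank_eq] at hdim
    have hU1 : 0 < Module.finrank F U := by omega
    obtain ⟨e, he⟩ := Module.finrank_pos_iff_exists_ne_zero.1 hU1
    refine block hq ω hω Qb (D i) (hdec.finrank_eq i) ?_ (e : ι → F) (hUD e.2)
      (fun h => he (Subtype.ext h)) (by rw [hcoe]; exact hU e e.2)
    intro w hw hw0
    rw [hcoe]
    exact (hD.decomp.nondegenerate i w hw hw0).2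
  choose u w hu hw hQuw hspan hone using hblock
  -- the family of all `u i`, `w i`
  set bb : Fin t × Fin 2 → (ι → F) := fun p => ![u p.1, w p.1] p.2 with hbb
  have hbb0 : ∀ i, bb (i, 0) = u i := fun i => rfl
  have hbb1 : ∀ i, bb (i, 1) = w i := fun i => rfl
  have hbbmem : ∀ p, bb p ∈ D p.1 := by
    rintro ⟨i, k⟩
    fin_cases k
    · exact hu i
    · exact hw i
  have hbbQ : ∀ p, Qb (bb p) = 1 := by
    rintro ⟨i, k⟩
    fin_cases k
    · show Qb (u i) = 1
      have := hQuw i 1 0
      simpa using this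
    · show Qb (w i) = 1
      have := hQuw i 0 1
      simpa using this
  have hsp : ⊤ ≤ Submodule.span F (Set.range bb) := by
    rw [← hdec.iSup_eq_top]
    apply iSup_le
    intro i x hx
    obtain ⟨a, c, rfl⟩ := hspan i x hx
    exact Submodule.add_mem _
      (Submodule.smul_mem _ _ (Submodule.subset_span ⟨(i, 0), rfl⟩))
      (Submodule.smul_mem _ _ (Submodule.subset_span ⟨(i, 1), rfl⟩))
  -- dimension count
  have hint : DirectSum.IsInternal D :=
    DirectSum.isInternal_submodule_of_iSupIndep_of_iSup_eq_top hdec.indep hdec.iSup_eq_top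
  have hfr : Module.finrank F (ι → F) = Fintype.card (Fin t × Fin 2) := by
    have := Module.finrank_eq_card_basis
      (hint.collectedBasis (fun i => Module.finBasisOfFinrankEq F (D i) (hdec.finrank_eq i)))
    rw [this]
    simp
  set b₀ : Module.Basis (Fin t × Fin 2) F (ι → F) :=
    basisOfTopLeSpanOfCardEqFinrank bb hsp hfr.symm with hb₀
  have hb₀bb : ∀ p, b₀ p = bb p := by
    intro p
    rw [hb₀, coe_basisOfTopLeSpanOfCardEqFinrank]
  have hcard : Fintype.card ι = Fintype.card (Fin t × Fin 2) := by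
    rw [← hfr, Module.finrank_fintype_fun_eq_card]
  set ε : ι ≃ Fin t × Fin 2 := Fintype.equivOfCardEq hcard with hε
  set b : Module.Basis ι F (ι → F) := b₀.reindex ε.symm with hb
  have hbε : ∀ j, b j = bb (ε j) := by
    intro j
    rw [hb, Module.Basis.reindex_apply, Equiv.symm_symm, hb₀bb]
  set P : GL ι F := glOfEquiv b.equivFun.symm with hP
  have hPv : ∀ x : ι → F, (P : Matrix ι ι F) *ᵥ x = ∑ j, x j • b j := by
    intro x
    rw [hP, glOfEquiv_mulVec, Module.Basis.equivFun_symm_apply]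
  have hPs : ∀ j, (P : Matrix ι ι F) *ᵥ Pi.single j 1 = b j := by
    intro j
    rw [hPv, Finset.sum_eq_single j]
    · simp
    · intro k _ hk
      rw [Pi.single_apply, if_neg hk, zero_smul]
    · intro hj; exact absurd (Finset.mem_univ j) hj
  -- the prime field
  have hchar : CharP F 2 := CharTwo.of_one_ne_zero_of_two_eq_zero one_ne_zero h2
  have : Fact (Nat.Prime 2) := ⟨Nat.prime_two⟩
  have hbot : Nat.card (⊥ : Subfield F) = 2 := Subfield.card_bot F 2
  refine ⟨⊥, 2, P, 1, Nat.prime_two, by rw [hbot, hq]; norm_num, one_ne_zero, ?_, ?_⟩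
  · -- rational structure
    intro x hx
    show (1 : F) * Q ((P : Matrix ι ι F) *ᵥ x) ∈ (⊥ : Subfield F)
    rw [one_mul, ← hcoe, hPv]
    have hsum : ∑ j, x j • b j = ∑ i : Fin t, (x (ε.symm (i, 0)) • u i + x (ε.symm (i, 1)) • w i) := by
      rw [← Equiv.sum_comp ε.symm (fun j => x j • b j), Fintype.sum_prod_type]
      apply Finset.sum_congr rfl
      intro i _
      rw [Fin.sum_univ_two, hbε, hbε, Equiv.apply_symm_apply, Equiv.apply_symm_apply, hbb0, hbb1]
    rw [hsum, map_sum_of_orth Qb _ Finset.univ]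
    · apply Subfield.sum_mem
      intro i _
      rw [hQuw]
      have h0 := hx (ε.symm (i, 0))
      have h1 := hx (ε.symm (i, 1))
      exact add_mem (add_mem (pow_mem h0 2) (mul_mem h0 h1)) (pow_mem h1 2)
    · intro i _ j _ hij
      rw [hcoe]
      exact hD.decomp.orthogonal i j hij _
        ((D i).add_mem ((D i).smul_mem _ (hu i)) ((D i).smul_mem _ (hw i))) _
        ((D j).add_mem ((D j).smul_mem _ (hu j)) ((D j).smul_mem _ (hw j)))
  · -- the stabiliser
    apply le_subfieldSubgroup_of_rational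
    intro g hg j
    obtain ⟨σ, hσ⟩ := hg.1
    have hiso := (Cfsg.Agent.Lib.Helper29_OrthOddDefs.mem_isometryGroup_iff Q g).1 hg.2
    rw [hPs, hbε]
    set i' : Fin t := σ (ε j).1 with hi'
    have hmem : (g : Matrix ι ι F) *ᵥ bb (ε j) ∈ D i' := by
      rw [hi', ← hσ (ε j).1]
      exact ⟨bb (ε j), hbbmem _, Matrix.toLin'_apply _ _⟩
    have hQ1 : Qb ((g : Matrix ι ι F) *ᵥ bb (ε j)) = 1 := by
      rw [hcoe, hiso, ← hcoe, hbbQ]
    have hu' : (P : Matrix ι ι F) *ᵥ Pi.single (ε.symm (i', 0)) 1 = u i' := by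
      rw [hPs, hbε, Equiv.apply_symm_apply, hbb0]
    have hw' : (P : Matrix ι ι F) *ᵥ Pi.single (ε.symm (i', 1)) 1 = w i' := by
      rw [hPs, hbε, Equiv.apply_symm_apply, hbb1]
    have hsingle : ∀ j' : ι, ∀ k, (Pi.single j' (1 : F) : ι → F) k ∈ (⊥ : Subfield F) := by
      intro j' k
      rw [Pi.single_apply]
      split_ifs
      · exact one_mem _
      · exact zero_mem _
    rcases hone i' _ hmem hQ1 with h | h | h
    · exact ⟨Pi.single (ε.symm (i', 0)) 1, hsingle _, by rw [h, hu']⟩
    · exact ⟨Pi.single (ε.symm (i', 1)) 1, hsingle _, by rw [h, hw']⟩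
    · refine ⟨Pi.single (ε.symm (i', 0)) 1 + Pi.single (ε.symm (i', 1)) 1, ?_, ?_⟩
      · intro k
        exact add_mem (hsingle _ k) (hsingle _ k)
      · rw [h, Matrix.mulVec_add, hu', hw']

end main

end Cfsg.Agent.Lib.Helper64_OrthEven_EV45c
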