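import Mathlib
import Cfsg.Agent.Lib.Helper99_SingerEmb

/-!
EV30C: in the quadratic extension `𝕃 = QuadraticAlgebra E a' b'` of a degree-5 extension `E/F`
of finite fields there is an element `ρ` of norm one over `E`, with `ρ² ≠ 1`, whose minimal
polynomial over `E` has the form `X² - tX + 1` with `t ∈ F`, irreducible over `F`
(an element of order `q + 1` of `𝕃ˣ`).
-/

set_option autoImplicit false

namespace Cfsg.Agent.Lib.Helper59_OrthEven_EV30C

/-- arithmetic: `q + 1 ∣ q ^ 5 + 1` -/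
theorem add_one_dvd_pow_five_add_one (q : ℕ) : q + 1 ∣ q ^ 5 + 1 := by
  have h := Odd.nat_add_dvd_pow_add_pow q 1 (by decide : Odd 5)
  simpa using h

theorem sq_sub_one_eq (N : ℕ) (h : 1 ≤ N) : N ^ 2 - 1 = (N - 1) * (N + 1) := by
  obtain ⟨n, rfl⟩ : ∃ n, N = n + 1 := ⟨N - 1, by omega⟩
  simp only [Nat.add_sub_cancel]
  have : (n + 1) ^ 2 = n * (n + 1 + 1) + 1 := by ring
  rw [this, Nat.add_sub_cancel]

theorem mul_self_eq_succ (q : ℕ) (h : 1 ≤ q) : q * q = (q + 1) * (q - 1) + 1 := by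
  obtain ⟨n, rfl⟩ : ∃ n, q = n + 1 := ⟨q - 1, by omega⟩
  simp only [Nat.add_sub_cancel]
  ring

theorem EV30C {F E : Type*} [Field F] [Fintype F] [Field E] [Fintype E] [Algebra F E]
    (hE : Module.finrank F E = 5) (a' b' : E) [Fact (∀ r : E, r ^ 2 ≠ a' + b' * r)] :
    ∃ (ρ : QuadraticAlgebra E a' b') (t : F),
      QuadraticAlgebra.norm ρ = 1 ∧ ρ * ρ ≠ 1 ∧ ρ * ρ = t • ρ - 1 ∧ ∀ r : F, r * r ≠ t * r - 1 := by
  classical
  have : Finite (QuadraticAlgebra E a' b') := Module.finite_of_finite E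
  have : Fintype (QuadraticAlgebra E a' b') := Fintype.ofFinite _
  set q := Fintype.card F with hq
  set N := Fintype.card E with hN
  have hNq : N = q ^ 5 := by
    rw [hN, hq, Module.card_eq_pow_finrank (K := F) (V := E), hE]
  have hLN : Fintype.card (QuadraticAlgebra E a' b') = N ^ 2 := by
    rw [Module.card_eq_pow_finrank (K := E) (V := QuadraticAlgebra E a' b'),
      QuadraticAlgebra.finrank_eq_two]
  have hq2 : 2 ≤ q := Fintype.one_lt_card
  have hN2 : 2 ≤ N := Fintype.one_lt_card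
  obtain ⟨k, hk⟩ : (q + 1) ∣ N + 1 := by
    rw [hNq]; exact add_one_dvd_pow_five_add_one q
  have hk0 : k ≠ 0 := by
    rintro rfl
    simp at hk
  set m := (N - 1) * k with hm
  have hm0 : m ≠ 0 := by
    rw [hm]
    exact Nat.mul_ne_zero (by omega) hk0
  have hmq : m * (q + 1) = N ^ 2 - 1 := by
    rw [hm, mul_assoc, mul_comm k, ← hk]
    rw [sq_sub_one_eq N (by omega)]
  -- a generator of the multiplicative group
  obtain ⟨w, hw⟩ := IsCyclic.exists_generator (α := (QuadraticAlgebra E a' b')ˣ)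
  have hwL : ((w : QuadraticAlgebra E a' b') ^ (N ^ 2 - 1)) = 1 := by
    rw [← hLN]
    exact FiniteField.pow_card_sub_one_eq_one _ w.ne_zero
  have how : orderOf w = N ^ 2 - 1 := by
    rw [orderOf_eq_card_of_forall_mem_zpowers hw, Nat.card_eq_fintype_card, Fintype.card_units,
      hLN]
  set ρ : QuadraticAlgebra E a' b' := (w : QuadraticAlgebra E a' b') ^ m with hρ
  have hρq : ρ ^ (q + 1) = 1 := by
    rw [hρ, ← pow_mul, hmq, hwL]
  have hρ0 : ρ ≠ 0 := pow_ne_zero _ w.ne_zero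
  -- the norm of `ρ` is one
  have hnorm : QuadraticAlgebra.norm ρ = 1 := by
    rw [hρ, map_pow, hm, pow_mul]
    have hw0 : QuadraticAlgebra.norm (w : QuadraticAlgebra E a' b') ≠ 0 := by
      rw [Ne, QuadraticAlgebra.norm_eq_zero_iff_eq_zero]
      exact w.ne_zero
    rw [FiniteField.pow_card_sub_one_eq_one _ hw0, one_pow]
  -- `ρ * ρ ≠ 1`
  have hρ2 : ρ * ρ ≠ 1 := by
    intro h
    have h1 : (w ^ (m * 2) : (QuadraticAlgebra E a' b')ˣ) = 1 := by
      apply Units.ext
      rw [Units.val_pow_eq_pow_val, pow_mul, ← hρ, pow_two, h, Units.val_one]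
    have h2 : orderOf w ∣ m * 2 := orderOf_dvd_of_pow_eq_one h1
    rw [how, ← hmq] at h2
    have h3 : q + 1 ∣ 2 := Nat.dvd_of_mul_dvd_mul_left (Nat.pos_of_ne_zero hm0) h2
    have := Nat.le_of_dvd (by norm_num) h3
    omega
  -- the conjugate of `ρ` is `ρ ^ q`
  have hstar : star ρ = ρ ^ q := by
    have h1 : ρ * star ρ = 1 := by
      rw [← QuadraticAlgebra.algebraMap_norm_eq_mul_star, hnorm, map_one]
    have h2 : ρ * ρ ^ q = 1 := by
      rw [← pow_succ', hρq]
    exact mul_left_cancel₀ hρ0 (h1.trans h2.symm)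
  have hρqq : (ρ ^ q) ^ q = ρ := by
    have h1 : ρ ^ (q * q) = ρ ^ ((q + 1) * (q - 1)) * ρ := by
      rw [← pow_succ, mul_self_eq_succ q (by omega)]
    rw [← pow_mul, h1, pow_mul, hρq, one_pow, one_mul]
  -- the trace of `ρ` lies in `F`
  have htr : (QuadraticAlgebra.trace ρ) ^ q = QuadraticAlgebra.trace ρ := by
    apply QuadraticAlgebra.algebraMap_injective (a := a') (b := b')
    rw [map_pow, QuadraticAlgebra.algebraMap_trace_eq_add_star, hstar]
    have h1 := map_add (FiniteField.frobeniusAlgHom F (QuadraticAlgebra E a' b')) ρ (ρ ^ q)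
    simp only [FiniteField.coe_frobeniusAlgHom] at h1
    rw [← hq] at h1
    rw [h1, hρqq, add_comm]
  obtain ⟨t, ht⟩ := (Helper99_SingerEmb.mem_range_iff_pow_card (F := F) (E := E)
    (QuadraticAlgebra.trace ρ)).2 htr
  have hsq : ρ * ρ = t • ρ - 1 := by
    have h1 := QuadraticAlgebra.sq_eq_trace_smul_sub_norm ρ
    rw [hnorm, map_one, ← ht, algebraMap_smul, pow_two] at h1
    exact h1
  refine ⟨ρ, t, hnorm, hρ2, hsq, ?_⟩
  intro r hr
  -- a root `r ∈ F` forces `ρ ∈ F`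
  set r' : QuadraticAlgebra E a' b' := algebraMap F _ r with hr'
  set t' : QuadraticAlgebra E a' b' := algebraMap F _ t with ht'
  have hr2 : r' * r' = t' * r' - 1 := by
    rw [hr', ht', ← map_mul, ← map_mul, hr, map_sub, map_one]
  have hsq' : ρ * ρ = t' * ρ - 1 := by
    rw [hsq, ht', Algebra.smul_def]
  have hprod : (ρ - r') * (ρ - (t' - r')) = 0 := by
    have : (ρ - r') * (ρ - (t' - r')) = ρ * ρ - t' * ρ + (t' * r' - r' * r') := by ring
    rw [this, hsq', hr2]; ring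
  have hmem : ∃ c : F, ρ = algebraMap F _ c := by
    rcases mul_eq_zero.1 hprod with h | h
    · exact ⟨r, sub_eq_zero.1 h⟩
    · refine ⟨t - r, ?_⟩
      rw [map_sub]
      exact sub_eq_zero.1 h
  obtain ⟨c, hc⟩ := hmem
  have hfix : ρ ^ q = ρ := by
    rw [hc, ← map_pow, hq, FiniteField.pow_card]
  apply hρ2
  calc ρ * ρ = ρ * ρ ^ q := by rw [hfix]
    _ = ρ ^ (q + 1) := by rw [← pow_succ']
    _ = 1 := hρq

end Cfsg.Agent.Lib.Helper59_OrthEven_EV30C
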