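import Mathlib
import Cfsg.Prelude.Def_GeometricClasses
import Cfsg.Agent.Lib.Helper34_SpExt_QC1

/-!
# EV30A (helper84, for helper99 / helper22, S5850)

An isometry `R` of a non-degenerate quadratic form with an irreducible quadratic relation
`R² = t R - 1` spans a field `F + F R` of degree 2: adjoint-closed, not self-adjoint, acting by
similarities.
-/

set_option autoImplicit false

open Cfsg Cfsg.Geo Matrix

namespace Cfsg.Agent.Lib.Helper84_OrthEven_EV30A

section

variable {ι : Type} [Fintype ι] [DecidableEq ι] {F : Type*} [Field F]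

/-- the product formula in `F + F R` -/
theorem mul_formula (R : Matrix ι ι F) (t : F) (hR : R * R = t • R - 1) (α β γ δ : F) :
    (α • (1 : Matrix ι ι F) + β • R) * (γ • (1 : Matrix ι ι F) + δ • R) =
      (α * γ - β * δ) • (1 : Matrix ι ι F) + (α * δ + β * γ + β * δ * t) • R := by
  rw [add_mul, mul_add, mul_add, smul_mul_smul_comm, smul_mul_smul_comm, smul_mul_smul_comm,
    smul_mul_smul_comm, one_mul, one_mul, mul_one, hR]
  module

/-- the subalgebra `F + F R` -/
def K2 (R : Matrix ι ι F) (t : F) (hR : R * R = t • R - 1) : Subalgebra F (Matrix ι ι F) where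
  carrier := {k | ∃ α β : F, k = α • (1 : Matrix ι ι F) + β • R}
  mul_mem' := by
    rintro _ _ ⟨α, β, rfl⟩ ⟨γ, δ, rfl⟩
    exact ⟨_, _, mul_formula R t hR α β γ δ⟩
  one_mem' := ⟨1, 0, by simp⟩
  add_mem' := by
    rintro _ _ ⟨α, β, rfl⟩ ⟨γ, δ, rfl⟩
    exact ⟨α + γ, β + δ, by module⟩
  zero_mem' := ⟨0, 0, by simp⟩
  algebraMap_mem' := fun r => ⟨r, 0, by simp [Algebra.algebraMap_eq_smul_one]⟩

theorem mem_K2 (R : Matrix ι ι F) (t : F) (hR : R * R = t • R - 1) (k : Matrix ι ι F) :
    k ∈ K2 R t hR ↔ ∃ α β : F, k = α • (1 : Matrix ι ι F) + β • R := Iff.rfl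

omit [Fintype ι] in
/-- a scalar matrix identity gives the scalar identity -/
theorem smul_one_inj [Nonempty ι] {a b : F} (h : a • (1 : Matrix ι ι F) = b • (1 : Matrix ι ι F)) :
    a = b := by
  obtain ⟨i⟩ := ‹Nonempty ι›
  have := congrFun (congrFun h i) i
  simpa using this

theorem mulVec_comb (R : Matrix ι ι F) (α β : F) (v : ι → F) :
    (α • (1 : Matrix ι ι F) + β • R) *ᵥ v = α • v + β • (R *ᵥ v) := by
  rw [Matrix.add_mulVec, Matrix.smul_mulVec, Matrix.smul_mulVec, Matrix.one_mulVec]

theorem EV30A [Nonempty ι]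
    (Q : (ι → F) → F) (hQ : IsNondegenerateQuadraticForm Q)
    (R : Matrix ι ι F) (t : F) (hR : R * R = t • R - 1) (hirr : ∀ r : F, r * r ≠ t * r - 1)
    (hRQ : ∀ v, Q (R *ᵥ v) = Q v) :
    ∃ K₂ : Subalgebra F (Matrix ι ι F), IsFieldSubalgebra 2 K₂ ∧
      IsAdjointClosedFor (QuadraticMap.polar Q) K₂ ∧ ¬ IsSelfAdjointFor (QuadraticMap.polar Q) K₂ ∧
      (∀ k ∈ K₂, ∃ c : F, ∀ v : ι → F, Q (k *ᵥ v) = c * Q v) ∧
      (∀ k : Matrix ι ι F, k ∈ K₂ ↔ ∃ α β : F, k = α • (1 : Matrix ι ι F) + β • R) := by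
  classical
  have hbil := hQ.polar_bilinear
  have hnd := hQ.nondegenerate
  -- the inverse `R' = t - R`
  obtain ⟨R', hR'⟩ : ∃ R' : Matrix ι ι F, R' = t • (1 : Matrix ι ι F) - R := ⟨_, rfl⟩
  have hRR' : R * R' = 1 := by
    rw [hR', mul_sub, mul_smul_comm, mul_one, hR]; abel
  have hR'R : R' * R = 1 := by
    rw [hR', sub_mul, smul_mul_assoc, one_mul, hR]; abel
  have hR'v : ∀ v, R' *ᵥ v = t • v - R *ᵥ v := by
    intro v
    rw [hR', Matrix.sub_mulVec, Matrix.smul_mulVec, Matrix.one_mulVec]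
  have hfRR : ∀ u v, QuadraticMap.polar Q (R *ᵥ u) (R *ᵥ v) = QuadraticMap.polar Q u v := by
    intro u v
    simp only [QuadraticMap.polar]
    rw [← Matrix.mulVec_add, hRQ, hRQ, hRQ]
  have hadjR : ∀ u v, QuadraticMap.polar Q (R *ᵥ u) v = QuadraticMap.polar Q u (R' *ᵥ v) := by
    intro u v
    have := hfRR u (R' *ᵥ v)
    rw [Matrix.mulVec_mulVec, hRR', Matrix.one_mulVec] at this
    exact this
  -- `R` is not a scalar
  have hnotscalar : ∀ r : F, R ≠ r • (1 : Matrix ι ι F) := by
    intro r hr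
    apply hirr r
    have h1 := hR
    rw [hr, smul_mul_smul_comm, one_mul, smul_smul] at h1
    have h2 : (r * r) • (1 : Matrix ι ι F) = (t * r - 1) • (1 : Matrix ι ι F) := by
      rw [h1]; module
    exact smul_one_inj h2
  -- `2 = 0` and `t = 0` are incompatible
  have h2t : (2 : F) = 0 → t ≠ 0 := by
    intro h2 ht
    apply hirr 1
    rw [ht]
    have : (-1 : F) = 1 := by linear_combination -h2
    rw [zero_mul, zero_sub, this, one_mul]
  -- the diagonal value of the polar form
  have hdiag : ∀ v, QuadraticMap.polar Q v v = 2 * Q v := by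
    intro v
    simp only [QuadraticMap.polar]
    have : v + v = (2 : F) • v := by rw [two_smul]
    rw [this, hQ.smul]; ring
  -- `f v (R v) = t Q v`
  have hkey : ∀ v, QuadraticMap.polar Q v (R *ᵥ v) = t * Q v := by
    intro v
    by_cases ht : t = 0
    · have h2 : (2 : F) ≠ 0 := fun h2 => h2t h2 ht
      have h1 := hadjR v v
      rw [hR'v, ht, zero_smul, zero_sub, QuadraticMap.polar_comm] at h1
      have h3 : QuadraticMap.polar Q v (-(R *ᵥ v)) = - QuadraticMap.polar Q v (R *ᵥ v) := by
        have := hbil.smul_right (-1) v (R *ᵥ v)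
        rwa [neg_one_smul, neg_one_mul] at this
      rw [h3] at h1
      have h4 : (2 : F) * QuadraticMap.polar Q v (R *ᵥ v) = 0 := by linear_combination h1
      rcases mul_eq_zero.1 h4 with h | h
      · exact absurd h h2
      · rw [h, ht, zero_mul]
    · -- `t v = R v + R' v`
      have hQR' : Q (R' *ᵥ v) = Q v := by
        have := hRQ (R' *ᵥ v)
        rw [Matrix.mulVec_mulVec, hRR', Matrix.one_mulVec] at this
        exact this.symm
      have h1 : Q (t • v) = Q (R *ᵥ v) + Q (R' *ᵥ v) +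
          QuadraticMap.polar Q (R *ᵥ v) (R' *ᵥ v) := by
        have : t • v = R *ᵥ v + R' *ᵥ v := by rw [hR'v]; abel
        rw [this]; simp only [QuadraticMap.polar]; ring
      have h2 : QuadraticMap.polar Q (R *ᵥ v) (R' *ᵥ v) =
          QuadraticMap.polar Q (R *ᵥ (R *ᵥ v)) v := by
        have := hfRR (R *ᵥ v) (R' *ᵥ v)
        have e : R *ᵥ (R' *ᵥ v) = v := by rw [Matrix.mulVec_mulVec, hRR', Matrix.one_mulVec]
        rw [e] at this
        exact this.symm
      have h3 : R *ᵥ (R *ᵥ v) = t • (R *ᵥ v) - v := by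
        rw [Matrix.mulVec_mulVec, hR, Matrix.sub_mulVec, Matrix.smul_mulVec, Matrix.one_mulVec]
      have h4 : QuadraticMap.polar Q (t • (R *ᵥ v) - v) v =
          t * QuadraticMap.polar Q (R *ᵥ v) v - QuadraticMap.polar Q v v := by
        have e1 : t • (R *ᵥ v) - v = t • (R *ᵥ v) + (-1 : F) • v := by
          rw [neg_one_smul, sub_eq_add_neg]
        rw [e1, hbil.add_left, hbil.smul_left, hbil.smul_left]; ring
      rw [hQ.smul, hRQ, hQR', h2, h3, h4, hdiag, QuadraticMap.polar_comm] at h1
      have h5 : t * (QuadraticMap.polar Q v (R *ᵥ v) - t * Q v) = 0 := by linear_combination -h1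
      rcases mul_eq_zero.1 h5 with h | h
      · exact absurd h ht
      · linear_combination h
  -- the norm
  have hnorm : ∀ α β : F, α * α + α * β * t + β * β = 0 → α = 0 ∧ β = 0 := by
    intro α β h
    by_cases hβ : β = 0
    · rw [hβ] at h
      have : α * α = 0 := by linear_combination h
      exact ⟨mul_self_eq_zero.1 this, hβ⟩
    · exfalso
      apply hirr (-α / β)
      field_simp
      linear_combination h
  refine ⟨K2 R t hR, ⟨?_, ?_, ?_⟩, ?_, ?_, ?_, fun k => mem_K2 R t hR k⟩
  · -- commutative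
    rintro _ ⟨α, β, rfl⟩ _ ⟨γ, δ, rfl⟩
    rw [mul_formula R t hR, mul_formula R t hR]
    congr 1 <;> ring_nf
  · -- inverses
    rintro _ ⟨α, β, rfl⟩ hne
    have hN : α * α + α * β * t + β * β ≠ 0 := by
      intro h
      obtain ⟨h1, h2⟩ := hnorm α β h
      apply hne
      rw [h1, h2]; simp
    refine ⟨(α * α + α * β * t + β * β)⁻¹ • ((α + β * t) • (1 : Matrix ι ι F) + (-β) • R),
      ⟨(α * α + α * β * t + β * β)⁻¹ * (α + β * t), (α * α + α * β * t + β * β)⁻¹ * (-β), by
        module⟩, ?_⟩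
    rw [mul_smul_comm, mul_formula R t hR]
    have e1 : α * (α + β * t) - β * -β = α * α + α * β * t + β * β := by ring
    have e2 : α * -β + β * (α + β * t) + β * -β * t = 0 := by ring
    rw [e1, e2, zero_smul, add_zero, smul_smul, inv_mul_cancel₀ hN, one_smul]
  · -- dimension
    let φ : (Fin 2 → F) →ₗ[F] Matrix ι ι F :=
      { toFun := fun w => w 0 • (1 : Matrix ι ι F) + w 1 • R
        map_add' := fun w w' => by simp only [Pi.add_apply]; module
        map_smul' := fun c w => by
          simp only [Pi.smul_apply, smul_eq_mul, RingHom.id_apply]; module }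
    have hφ : ∀ w, φ w = w 0 • (1 : Matrix ι ι F) + w 1 • R := fun w => rfl
    have hinj : Function.Injective φ := by
      rw [injective_iff_map_eq_zero]
      intro w hw
      rw [hφ] at hw
      have h1 : w 1 = 0 := by
        by_contra h1
        apply hnotscalar (-(w 0) / w 1)
        have : R = (w 1)⁻¹ • (w 1 • R) := by rw [smul_smul, inv_mul_cancel₀ h1, one_smul]
        rw [this, show w 1 • R = -(w 0) • (1 : Matrix ι ι F) from by
          rw [neg_smul]; exact eq_neg_of_add_eq_zero_right hw, smul_smul]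
        congr 1; field_simp
      rw [h1, zero_smul, add_zero] at hw
      have h0 : w 0 = 0 := smul_one_inj (ι := ι) (by rw [hw, zero_smul])
      ext i
      fin_cases i
      · exact h0
      · exact h1
    have hrange : Subalgebra.toSubmodule (K2 R t hR) = LinearMap.range φ := by
      ext k
      rw [Subalgebra.mem_toSubmodule, mem_K2, LinearMap.mem_range]
      constructor
      · rintro ⟨α, β, rfl⟩
        exact ⟨![α, β], by rw [hφ]; simp⟩
      · rintro ⟨w, rfl⟩
        exact ⟨w 0, w 1, hφ w⟩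
    rw [← Subalgebra.finrank_toSubmodule, hrange, LinearMap.finrank_range_of_inj hinj,
      Module.finrank_fin_fun]
  · -- adjoint closed
    rintro _ ⟨α, β, rfl⟩
    refine ⟨(α + β * t) • (1 : Matrix ι ι F) + (-β) • R, ⟨_, _, rfl⟩, ?_⟩
    intro u v
    rw [mulVec_comb, mulVec_comb, hbil.add_left, hbil.smul_left, hbil.smul_left, hadjR, hR'v,
      hbil.add_right, hbil.smul_right, hbil.smul_right]
    have e1 : t • v - R *ᵥ v = t • v + (-1 : F) • (R *ᵥ v) := by
      rw [neg_one_smul, sub_eq_add_neg]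
    rw [e1, hbil.add_right, hbil.smul_right, hbil.smul_right]
    ring
  · -- not self-adjoint
    intro hsa
    have h1 : ∀ u v, QuadraticMap.polar Q u ((R - R') *ᵥ v) = 0 := by
      intro u v
      have h2 := hsa R ⟨0, 1, by simp⟩ u v
      rw [hadjR] at h2
      have e1 : (R - R') *ᵥ v = R *ᵥ v + (-1 : F) • (R' *ᵥ v) := by
        rw [Matrix.sub_mulVec, neg_one_smul, sub_eq_add_neg]
      rw [e1, hbil.add_right, hbil.smul_right, ← h2]; ring
    have h3 : R - R' = 0 := by
      have h4 : ∀ v, (R - R') *ᵥ v = 0 := by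
        intro v
        by_contra hv
        obtain ⟨⟨x, hx⟩, -⟩ := hnd _ hv
        exact hx (h1 x v)
      ext i j
      have := congrFun (h4 (Pi.single j 1)) i
      simpa using this
    -- `2 R = t`
    have h5 : (2 : F) • R = t • (1 : Matrix ι ι F) := by
      have : R = R' := sub_eq_zero.1 h3
      rw [hR'] at this
      rw [two_smul]
      nth_rewrite 1 [this]
      abel
    by_cases h2 : (2 : F) = 0
    · rw [h2, zero_smul] at h5
      have : t = 0 := smul_one_inj (ι := ι) (by rw [← h5, zero_smul])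
      exact h2t h2 this
    · apply hnotscalar (t / 2)
      have : R = (2 : F)⁻¹ • ((2 : F) • R) := by rw [smul_smul, inv_mul_cancel₀ h2, one_smul]
      rw [this, h5, smul_smul]; congr 1; field_simp
  · -- similarities
    rintro _ ⟨α, β, rfl⟩
    refine ⟨α * α + α * β * t + β * β, fun v => ?_⟩
    rw [mulVec_comb]
    have h1 : Q (α • v + β • (R *ᵥ v)) = Q (α • v) + Q (β • (R *ᵥ v)) +
        QuadraticMap.polar Q (α • v) (β • (R *ᵥ v)) := by
      simp only [QuadraticMap.polar]; ring
    rw [h1, hQ.smul, hQ.smul, hRQ, hbil.smul_left, hbil.smul_right, hkey]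
    ring

end

end Cfsg.Agent.Lib.Helper84_OrthEven_EV30A
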