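import Mathlib
import Cfsg.Prelude.Def_Classical
import Cfsg.Prelude.Def_GeometricClasses
import Cfsg.Agent.Lib.Helper34_SpExt_QC1
import Cfsg.Agent.Lib.Helper84_OrthEven_EV30A
import Cfsg.Agent.Lib.Helper10_OrthEven_EV30B
import Cfsg.Agent.Lib.Helper59_OrthEven_EV30C
import Cfsg.Agent.Lib.Helper10_OrthEven_EV30D
import Cfsg.Agent.Lib.Helper59_OrthEven_EV30E

/-!
# EV30 of helper22's EVEN batch 3 (S5850, `Ω10^-(q)`), by helper99

In dimension 10 the isometries of a non-degenerate quadratic form `Q` normalising an adjoint-closed subfield `K` of degree 5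
normalise a subfield `K₂` of degree 2 of unitary type, as soon as the `K`-form `Q_K` is anisotropic (`EV30aniso`); in minus type
it always is (`EV30`).

Route: `K` is self-adjoint (EV30E); `V = F^10` is a `K`-plane; trace descent (EV30D) writes `Q = lam ∘ q`, `q` a binary form over `K`,
anisotropic; `QuadraticAlgebra K (-(a c)) b` (a field) acts on `V` through the matrix `Z = !![b, c; -a, 0]`; an element `ρ` of order `q + 1`
of it (EV30C) gives a `K`-linear isometry `R` with `R² = t R - 1`, `t ∈ F`, irreducible over `F`; the `K`-linear isometries of `q` are in the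
quadratic algebra or involutions (EV30B), so the `K`-linear isometries with this relation are `R` and `t - R`; `K₂ := F + F R` (EV30A).
A `g` normalising `K` and preserving `Q` conjugates `R` to a `K`-linear isometry with the same relation, hence normalises `K₂`.
-/

set_option autoImplicit false

set_option linter.unusedSectionVars false
set_option linter.unusedVariables false
set_option linter.style.haveILetI false

namespace Cfsg.Agent.Lib.Helper99_OrthEven_EV30

open Cfsg Cfsg.Geo Matrix

section core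

variable {F E V : Type*} [Field F] [Fintype F] [Field E] [Fintype E] [Algebra F E]
  [AddCommGroup V] [Module F V] [Module E V] [IsScalarTower F E V]

/-- the pairing `(k, d) ↦ lam (k * d)` is non-degenerate -/
theorem lam_mul_eq_zero (lam : E →ₗ[F] F) (hlam : lam ≠ 0) (d : E)
    (h : ∀ k : E, lam (k * d) = 0) : d = 0 := by
  by_contra hd
  apply hlam
  ext e
  have := h (e * d⁻¹)
  rw [mul_assoc, inv_mul_cancel₀ hd, mul_one] at this
  rw [this, LinearMap.zero_apply]

/-- squares span a finite field over any subfield -/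
theorem lam_sq_eq_zero (lam : E →ₗ[F] F) (hlam : lam ≠ 0) (d : E)
    (h : ∀ k : E, lam (k ^ 2 * d) = 0) : d = 0 := by
  apply lam_mul_eq_zero lam hlam d
  intro e
  by_cases h2 : (2 : E) = 0
  · have hchar : ringChar E = 2 := by
      have : CharP E 2 := by
        apply CharTwo.of_one_ne_zero_of_two_eq_zero one_ne_zero h2
      exact ringChar.eq E 2
    obtain ⟨s, hs⟩ := FiniteField.isSquare_of_char_two hchar e
    rw [hs, ← pow_two]
    exact h s
  · have he : e = ((e + 1) / 2) ^ 2 - ((e - 1) / 2) ^ 2 := by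
      field_simp
      ring
    rw [he, sub_mul, map_sub, h, h, sub_zero]

/-- the binary form -/
def qf (a b c : E) (u : Fin 2 → E) : E := a * u 0 ^ 2 + b * u 0 * u 1 + c * u 1 ^ 2

theorem qf_smul (a b c k : E) (u : Fin 2 → E) : qf a b c (k • u) = k ^ 2 * qf a b c u := by
  simp only [qf, Pi.smul_apply, smul_eq_mul]
  ring

/-- the matrix of multiplication by `ω` -/
def Zm (a b c : E) : Matrix (Fin 2) (Fin 2) E := !![b, c; -a, 0]

theorem Zm_mul_self (a b c : E) :
    Zm a b c * Zm a b c = (-(a * c)) • (1 : Matrix (Fin 2) (Fin 2) E) + b • Zm a b c := by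
  ext i j
  fin_cases i <;> fin_cases j <;> simp [Zm, Matrix.mul_apply, Fin.sum_univ_two] <;> ring

theorem qf_mulVec (a b c k₁ k₂ : E) (u : Fin 2 → E) :
    qf a b c ((k₁ • (1 : Matrix (Fin 2) (Fin 2) E) + k₂ • Zm a b c) *ᵥ u) =
      (k₁ * k₁ + b * k₁ * k₂ - (-(a * c)) * k₂ * k₂) * qf a b c u := by
  simp only [qf, Zm, Matrix.mulVec, dotProduct, Fin.sum_univ_two, Matrix.add_apply,
    Matrix.smul_apply, Matrix.one_apply, smul_eq_mul]
  simp
  ring

/-- **core**: an `E`-plane (`|E| = q^5`) with an `E`-self-adjoint, `E`-anisotropic `F`-quadratic form carries an `E`-linear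
isometry `ρ` with an irreducible quadratic relation over `F`, unique up to `ρ ↦ t - ρ` among the `E`-linear isometries with
that relation. -/
theorem core (hE : Module.finrank F E = 5) (hV : Module.finrank E V = 2)
    (Q : V → F) (hQsmul : ∀ (c : F) (v : V), Q (c • v) = c ^ 2 * Q v)
    (hadd : ∀ u u' v : V, QuadraticMap.polar Q (u + u') v =
      QuadraticMap.polar Q u v + QuadraticMap.polar Q u' v)
    (hsmul : ∀ (c : F) (u v : V), QuadraticMap.polar Q (c • u) v = c * QuadraticMap.polar Q u v)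
    (hnd : ∀ v : V, v ≠ 0 → ∃ u, QuadraticMap.polar Q u v ≠ 0)
    (hsa : ∀ (k : E) (u v : V), QuadraticMap.polar Q (k • u) v = QuadraticMap.polar Q u (k • v))
    (haniso : ∀ v : V, (∀ k : E, Q (k • v) = 0) → v = 0) :
    ∃ (ρ : V →ₗ[F] V) (t : F), (∀ (k : E) (v : V), ρ (k • v) = k • ρ v) ∧
      (∀ r : F, r * r ≠ t * r - 1) ∧ (∀ v, ρ (ρ v) = t • ρ v - v) ∧ (∀ v, Q (ρ v) = Q v) ∧
      ∀ ρ' : V →ₗ[F] V, (∀ (k : E) (v : V), ρ' (k • v) = k • ρ' v) → (∀ v, Q (ρ' v) = Q v) →
        (∀ v, ρ' (ρ' v) = t • ρ' v - v) → (∀ v, ρ' v = ρ v) ∨ (∀ v, ρ' v = t • v - ρ v) := by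
  classical
  -- a non-zero functional
  obtain ⟨lam, hlam1⟩ : ∃ lam : E →ₗ[F] F, lam 1 ≠ 0 := by
    by_contra hcon
    push Not at hcon
    exact one_ne_zero ((Module.forall_dual_apply_eq_zero_iff F (1 : E)).1 hcon)
  have hlam : lam ≠ 0 := by
    intro h
    apply hlam1
    rw [h, LinearMap.zero_apply]
  -- an `E`-basis
  have hfin : Module.Finite E V := Module.finite_of_finrank_pos (by rw [hV]; norm_num)
  let bb : Module.Basis (Fin 2) E V := Module.finBasisOfFinrankEq E V hV
  set v₀ := bb 0 with hv₀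
  set w₀ := bb 1 with hw₀
  have hdecomp : ∀ v : V, v = bb.repr v 0 • v₀ + bb.repr v 1 • w₀ := by
    intro v
    have := bb.sum_repr v
    rw [Fin.sum_univ_two] at this
    exact this.symm
  have hrepr : ∀ x y : E, ⇑(bb.repr (x • v₀ + y • w₀)) = ![x, y] := by
    intro x y
    ext i
    rw [map_add, map_smul, map_smul, hv₀, hw₀, Module.Basis.repr_self, Module.Basis.repr_self]
    fin_cases i <;> simp
  -- descent
  obtain ⟨a, b, c, habc⟩ := Cfsg.Agent.Lib.Helper10_OrthEven_EV30D.EV30D Q hQsmul hadd hsmul hsa lam hlam v₀ w₀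
  have hQco : ∀ v : V, Q v = lam (qf a b c ⇑(bb.repr v)) := by
    intro v
    conv_lhs => rw [hdecomp v]
    rw [habc]
    rfl
  have hv₀0 : v₀ ≠ 0 := bb.ne_zero 0
  -- anisotropy
  have hqaniso : ∀ x y : E, a * x ^ 2 + b * x * y + c * y ^ 2 = 0 → x = 0 ∧ y = 0 := by
    intro x y hxy
    have h0 : x • v₀ + y • w₀ = 0 := by
      apply haniso
      intro k
      rw [smul_add, smul_smul, smul_smul, habc]
      have : a * (k * x) ^ 2 + b * (k * x) * (k * y) + c * (k * y) ^ 2 =
          k ^ 2 * (a * x ^ 2 + b * x * y + c * y ^ 2) := by ring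
      rw [this, hxy, mul_zero, map_zero]
    have h1 := hrepr x y
    rw [h0, map_zero] at h1
    have hx := congrFun h1 0
    have hy := congrFun h1 1
    simp at hx hy
    exact ⟨hx.symm, hy.symm⟩
  have ha0 : a ≠ 0 := by
    intro ha
    have := hqaniso 1 0 (by rw [ha]; ring)
    exact one_ne_zero this.1
  have hb2 : (2 : E) = 0 → b ≠ 0 := by
    intro h2 hb
    obtain ⟨u, hu⟩ := hnd v₀ hv₀0
    apply hu
    have hu' := hdecomp u
    set x := bb.repr u 0
    set y := bb.repr u 1
    have e1 : u + v₀ = (x + 1) • v₀ + y • w₀ := by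
      rw [add_smul, one_smul]
      conv_lhs => rw [hu']
      abel
    have e2 : v₀ = (1 : E) • v₀ + (0 : E) • w₀ := by rw [one_smul, zero_smul, add_zero]
    unfold QuadraticMap.polar
    rw [e1, habc]
    conv_lhs => rw [hu', habc]
    conv_lhs => rw [e2, habc]
    rw [← map_sub, ← map_sub]
    have : a * (x + 1) ^ 2 + b * (x + 1) * y + c * y ^ 2 - (a * x ^ 2 + b * x * y + c * y ^ 2) -
        (a * 1 ^ 2 + b * 1 * 0 + c * 0 ^ 2) = 2 * (a * x) + b * y := by ring
    rw [this, h2, hb, zero_mul, zero_mul, add_zero, map_zero]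
  -- the quadratic extension
  have hfact : Fact (∀ r : E, r ^ 2 ≠ -(a * c) + b * r) := by
    refine ⟨fun r hr => ?_⟩
    have := hqaniso (r - b) a (by
      have : a * (r - b) ^ 2 + b * (r - b) * a + c * a ^ 2 = a * (r ^ 2 - (-(a * c) + b * r)) := by
        ring
      rw [this, hr, sub_self, mul_zero])
    exact ha0 this.2
  let Θ := Matrix.toLinAlgEquiv bb
  set z : Module.End E V := Θ (Zm a b c) with hz
  have hzz : z * z = (-(a * c)) • (1 : Module.End E V) + b • z := by
    rw [hz, ← map_mul, Zm_mul_self, map_add, map_smul, map_smul, map_one]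
  let Φ : QuadraticAlgebra E (-(a * c)) b →ₐ[E] Module.End E V := QuadraticAlgebra.lift ⟨z, hzz⟩
  have hΦ : ∀ x : QuadraticAlgebra E (-(a * c)) b,
      Φ x = Θ (x.re • (1 : Matrix (Fin 2) (Fin 2) E) + x.im • Zm a b c) := by
    intro x
    show (QuadraticAlgebra.lift ⟨z, hzz⟩) x = _
    rw [QuadraticAlgebra.lift_apply_apply, map_add, map_smul, map_smul, map_one]
  haveI : Nontrivial V := ⟨⟨bb 0, 0, bb.ne_zero 0⟩⟩
  have hΦinj : Function.Injective Φ := (Φ : QuadraticAlgebra E (-(a * c)) b →+* Module.End E V).injective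
  -- coordinates of `Θ M v`
  have hΘrepr : ∀ (M : Matrix (Fin 2) (Fin 2) E) (v : V), ⇑(bb.repr (Θ M v)) = M *ᵥ ⇑(bb.repr v) := by
    intro M v
    have := LinearMap.toMatrix_mulVec_repr bb bb (Θ M) v
    rw [← this]
    congr 1
    show LinearMap.toMatrix bb bb (Matrix.toLin bb bb M) = M
    rw [LinearMap.toMatrix_toLin]
  -- the element `ρ`
  obtain ⟨ρ₀, t, hnorm, hρ1, hρrel, hirr⟩ :=
    Cfsg.Agent.Lib.Helper59_OrthEven_EV30C.EV30C (F := F) (E := E) hE (-(a * c)) b
  set te : E := algebraMap F E t with hte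
  have hte_smul : ∀ v : V, te • v = t • v := fun v => algebraMap_smul E t v
  have hρrel' : ρ₀ * ρ₀ = te • ρ₀ - 1 := by rw [hρrel, hte, algebraMap_smul]
  set ρE : Module.End E V := Φ ρ₀ with hρE
  have hρEρE : ρE * ρE = te • ρE - 1 := by
    rw [hρE, ← map_mul, hρrel', map_sub, map_smul, map_one]
  refine ⟨ρE.restrictScalars F, t, ?_, hirr, ?_, ?_, ?_⟩
  · intro k v
    exact map_smul ρE k v
  · intro v
    have := congrArg (fun f : Module.End E V => f v) hρEρE
    simp only [Module.End.mul_apply, LinearMap.sub_apply, LinearMap.smul_apply,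
      Module.End.one_apply] at this
    rw [hte_smul] at this
    exact this
  · intro v
    show Q (ρE v) = Q v
    rw [hQco, hQco, hρE, hΦ, hΘrepr, qf_mulVec]
    have : ρ₀.re * ρ₀.re + b * ρ₀.re * ρ₀.im - -(a * c) * ρ₀.im * ρ₀.im = 1 := by
      rw [← QuadraticAlgebra.norm_def]; exact hnorm
    rw [this, one_mul]
  · intro ρ' hρ'E hρ'Q hρ'rel
    -- `ρ'` as an `E`-linear map
    let ρ'E : Module.End E V :=
      { toFun := ρ'
        map_add' := map_add ρ'
        map_smul' := fun k v => hρ'E k v }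
    have hρ'E_apply : ∀ v, ρ'E v = ρ' v := fun v => rfl
    set S := LinearMap.toMatrixAlgEquiv bb ρ'E with hS
    have hΘS : Θ S = ρ'E := Matrix.toLinAlgEquiv_toMatrixAlgEquiv bb ρ'E
    -- `S` is an isometry of `qf`
    have hSq : ∀ u : Fin 2 → E, qf a b c (S *ᵥ u) = qf a b c u := by
      intro u
      have hd : qf a b c (S *ᵥ u) - qf a b c u = 0 := by
        apply lam_sq_eq_zero lam hlam
        intro k
        set v : V := bb.equivFun.symm (k • u) with hv
        have hvrepr : ⇑(bb.repr v) = k • u := by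
          have := bb.equivFun.apply_symm_apply (k • u)
          rw [← hv] at this
          exact this
        have h1 := hρ'Q v
        rw [hQco, hQco, ← hρ'E_apply, ← hΘS, hΘrepr, hvrepr, Matrix.mulVec_smul, qf_smul, qf_smul]
          at h1
        rw [mul_sub, map_sub, h1, sub_self]
      exact sub_eq_zero.1 hd
    rcases Cfsg.Agent.Lib.Helper10_OrthEven_EV30B.EV30B a b c hqaniso hb2 S hSq with ⟨k₁, k₂, hk⟩ | hSS
    · -- `ρ'` comes from the quadratic extension
      set x' : QuadraticAlgebra E (-(a * c)) b := ⟨k₁, k₂⟩ with hx'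
      have hΦx' : Φ x' = ρ'E := by
        rw [hΦ, ← hΘS, hk]
        rfl
      have hx'rel : x' * x' = te • x' - 1 := by
        apply hΦinj
        rw [map_mul, map_sub, map_smul, map_one, hΦx']
        ext v
        simp only [Module.End.mul_apply, LinearMap.sub_apply, LinearMap.smul_apply,
          Module.End.one_apply, hρ'E_apply]
        rw [hρ'rel, hte_smul]
      have hprod : (x' - ρ₀) * (x' - (te • 1 - ρ₀)) = 0 := by
        have : (x' - ρ₀) * (x' - (te • 1 - ρ₀)) =
            x' * x' - te • x' + (te • ρ₀ - ρ₀ * ρ₀) := by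
          simp only [Algebra.smul_def, mul_one]
          ring
        rw [this, hx'rel, hρrel']
        ring
      rcases mul_eq_zero.1 hprod with h | h
      · left
        intro v
        rw [← hρ'E_apply, ← hΦx', sub_eq_zero.1 h]
        rfl
      · right
        intro v
        rw [← hρ'E_apply, ← hΦx', sub_eq_zero.1 h, map_sub, map_smul, map_one]
        simp only [LinearMap.sub_apply, LinearMap.smul_apply, Module.End.one_apply]
        rw [hte_smul]
        rfl
    · -- an involution cannot satisfy the relation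
      exfalso
      have hinv : ∀ v, ρ' (ρ' v) = v := by
        intro v
        have h1 : ρ'E * ρ'E = 1 := by
          rw [← hΘS, ← map_mul, hSS, map_one]
        have h3 := congrArg (fun f : Module.End E V => f v) h1
        simp only [Module.End.mul_apply, Module.End.one_apply] at h3
        exact h3
      have h2 : ∀ v : V, t • ρ' v = (2 : F) • v := by
        intro v
        have h5 := hρ'rel v
        rw [hinv] at h5
        rw [two_smul]
        have h3 : t • ρ' v = (t • ρ' v - v) + v := by abel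
        rw [h3, ← h5]
      by_cases ht : t = 0
      · have h20 : (2 : F) = 0 := by
          have := h2 v₀
          rw [ht, zero_smul] at this
          by_contra h
          exact hv₀0 ((smul_eq_zero.1 this.symm).resolve_left h)
        apply hirr 1
        rw [ht]
        have h6 : (-1 : F) = 1 := by
          have h7 : (1 : F) + 1 = 0 := by rw [one_add_one_eq_two]; exact h20
          exact neg_eq_of_add_eq_zero_left h7
        rw [zero_mul, zero_sub, h6, mul_one]
      · set r : F := 2 / t with hr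
        have hρ'r : ∀ v, ρ' v = r • v := by
          intro v
          have := h2 v
          rw [hr, div_eq_inv_mul, mul_smul, ← this, smul_smul, inv_mul_cancel₀ ht, one_smul]
        apply hirr r
        have h8 := hρ'rel v₀
        rw [hρ'r (ρ' v₀), hρ'r v₀, smul_smul, smul_smul] at h8
        have h4 : (r * r - (t * r - 1)) • v₀ = 0 := by
          rw [sub_smul, sub_smul, one_smul, h8]
          abel
        have h9 := (smul_eq_zero.1 h4).resolve_right hv₀0
        exact sub_eq_zero.1 h9

end core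

end Cfsg.Agent.Lib.Helper99_OrthEven_EV30

namespace Cfsg.Agent.Lib.Helper99_OrthEven_EV30

open Cfsg Cfsg.Geo Matrix

section bridge

variable {ι : Type} [Fintype ι] [DecidableEq ι] {F : Type*} [Field F]

/-- the `K`-module structure on the column space -/
@[reducible] def colModule (K : Subalgebra F (Matrix ι ι F)) : Module K (ι → F) where
  smul a w := a.1 *ᵥ w
  one_smul w := by
    change (1 : Matrix ι ι F) *ᵥ w = w
    rw [Matrix.one_mulVec]
  mul_smul a b w := by
    change (a.1 * b.1) *ᵥ w = a.1 *ᵥ (b.1 *ᵥ w)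
    rw [Matrix.mulVec_mulVec]
  smul_zero a := by
    change a.1 *ᵥ (0 : ι → F) = 0
    rw [Matrix.mulVec_zero]
  smul_add a v w := by
    change a.1 *ᵥ (v + w) = a.1 *ᵥ v + a.1 *ᵥ w
    rw [Matrix.mulVec_add]
  add_smul a b w := by
    change (a.1 + b.1) *ᵥ w = a.1 *ᵥ w + b.1 *ᵥ w
    rw [Matrix.add_mulVec]
  zero_smul w := by
    change (0 : Matrix ι ι F) *ᵥ w = 0
    rw [Matrix.zero_mulVec]

theorem mat_ext_mulVec {A B : Matrix ι ι F} (h : ∀ v : ι → F, A *ᵥ v = B *ᵥ v) : A = B := by
  apply Matrix.toLin'.injective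
  apply LinearMap.ext
  intro v
  rw [Matrix.toLin'_apply, Matrix.toLin'_apply, h]

/-- **EV30aniso**: the anisotropic half, without any hypothesis on the type of `Q` -/
theorem EV30aniso [Fintype F] (Q : (ι → F) → F) (hQ : IsNondegenerateQuadraticForm Q)
    (hcard : Fintype.card ι = 10) (K : Subalgebra F (Matrix ι ι F)) (hK : IsFieldSubalgebra 5 K)
    (hKadj : IsAdjointClosedFor (QuadraticMap.polar Q) K)
    (haniso : ∀ v : ι → F, v ≠ 0 → ∃ k ∈ K, Q (k *ᵥ v) ≠ 0) :
    ∃ K₂ : Subalgebra F (Matrix ι ι F), IsFieldSubalgebra 2 K₂ ∧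
      IsAdjointClosedFor (QuadraticMap.polar Q) K₂ ∧
      ¬ IsSelfAdjointFor (QuadraticMap.polar Q) K₂ ∧
      (∀ k ∈ K₂, ∃ c : F, ∀ v : ι → F, Q (k *ᵥ v) = c * Q v) ∧
      subalgebraNormalizer K ⊓ isometryGroup F Q ≤ subalgebraNormalizer K₂ := by
  classical
  haveI : Nonempty ι := by
    rw [← Fintype.card_pos_iff, hcard]
    norm_num
  have hself : IsSelfAdjointFor (QuadraticMap.polar Q) K :=
    Cfsg.Agent.Lib.Helper59_OrthEven_EV30E.EV30E (QuadraticMap.polar Q) hQ.polar_bilinear hQ.nondegenerate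
      (fun u v => QuadraticMap.polar_comm Q u v) K hK hKadj
  letI : Field K := (Cfsg.Agent.Lib.Helper34_SpExt_QC1.isField K hK).toField
  letI : Module K (ι → F) := colModule K
  have hsm : ∀ (a : K) (w : ι → F), a • w = a.1 *ᵥ w := fun a w => rfl
  haveI : IsScalarTower F K (ι → F) := ⟨fun c a w => by
    rw [hsm, hsm]
    change (c • a.1) *ᵥ w = c • (a.1 *ᵥ w)
    rw [Matrix.smul_mulVec]⟩
  letI : Fintype K := Fintype.ofFinite K
  have hE : Module.finrank F K = 5 := hK.finrank_eq
  have hV : Module.finrank K (ι → F) = 2 := by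
    have h1 := Module.finrank_mul_finrank F K (ι → F)
    rw [hE, Module.finrank_fintype_fun_eq_card, hcard] at h1
    omega
  obtain ⟨ρ, t, hρK, hirr, hρrel, hρQ, huniq⟩ := core (F := F) (E := K) (V := ι → F) hE hV Q hQ.smul
    hQ.polar_bilinear.add_left hQ.polar_bilinear.smul_left
    (fun v hv => (hQ.nondegenerate v hv).1)
    (fun k u v => hself k.1 k.2 u v)
    (fun v hv => by
      by_contra hv0
      obtain ⟨k, hk, hkv⟩ := haniso v hv0
      exact hkv (hv ⟨k, hk⟩))
  set R : Matrix ι ι F := LinearMap.toMatrix' ρ with hR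
  have hRv : ∀ v, R *ᵥ v = ρ v := fun v => by
    rw [hR, ← Matrix.toLin'_apply, Matrix.toLin'_toMatrix']
  have hRR : R * R = t • R - 1 := by
    apply mat_ext_mulVec
    intro v
    rw [← Matrix.mulVec_mulVec, Matrix.sub_mulVec, Matrix.smul_mulVec, Matrix.one_mulVec, hRv, hRv,
      hρrel]
  have hRK : ∀ k ∈ K, R * k = k * R := by
    intro k hk
    apply mat_ext_mulVec
    intro v
    rw [← Matrix.mulVec_mulVec, ← Matrix.mulVec_mulVec, hRv, hRv]
    exact hρK ⟨k, hk⟩ v
  have hRQ : ∀ v, Q (R *ᵥ v) = Q v := fun v => by rw [hRv, hρQ]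
  obtain ⟨K₂, hK₂f, hK₂adj, hK₂nsa, hK₂sim, hK₂mem⟩ :=
    Cfsg.Agent.Lib.Helper84_OrthEven_EV30A.EV30A Q hQ R t hRR hirr hRQ
  refine ⟨K₂, hK₂f, hK₂adj, hK₂nsa, hK₂sim, ?_⟩
  -- conjugates of `R`
  have hconj : ∀ g : GL ι F, g ∈ subalgebraNormalizer K ⊓ isometryGroup F Q →
      (g : Matrix ι ι F) * R * ((g⁻¹ : GL ι F) : Matrix ι ι F) = R ∨
      (g : Matrix ι ι F) * R * ((g⁻¹ : GL ι F) : Matrix ι ι F) = t • (1 : Matrix ι ι F) - R := by
    intro g hg
    set G : Matrix ι ι F := (g : Matrix ι ι F) with hG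
    set G' : Matrix ι ι F := ((g⁻¹ : GL ι F) : Matrix ι ι F) with hG'
    have hGG' : G * G' = 1 := Cfsg.Agent.Lib.Helper34_SpExt_QC1.val_mul_inv g
    have hG'G : G' * G = 1 := Cfsg.Agent.Lib.Helper34_SpExt_QC1.val_inv_mul g
    have hgI : g ∈ isometryGroup F Q := (Subgroup.mem_inf.1 hg).2
    have hgN : g ∈ subalgebraNormalizer K := (Subgroup.mem_inf.1 hg).1
    have hgQ : ∀ v, Q (G *ᵥ v) = Q v := fun v => hgI v v
    have hg'Q : ∀ v, Q (G' *ᵥ v) = Q v := fun v => ((isometryGroup F Q).inv_mem hgI) v v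
    have hcomm : ∀ k ∈ K, (G * R * G') * k = k * (G * R * G') := by
      intro k hk
      set k₁ : Matrix ι ι F := G' * k * G with hk₁
      have hk₁K : k₁ ∈ K := by
        rw [hgN k₁]
        have : G * k₁ * G' = k := by
          rw [hk₁, ← mul_assoc, ← mul_assoc, hGG', one_mul, mul_assoc, hGG', mul_one]
        rw [← hG, ← hG', this]
        exact hk
      have e1 : G' * k = k₁ * G' := by rw [hk₁, mul_assoc, hGG', mul_one]
      have e2 : G * k₁ = k * G := by rw [hk₁, ← mul_assoc, ← mul_assoc, hGG', one_mul]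
      calc G * R * G' * k = G * R * (G' * k) := by rw [mul_assoc]
        _ = G * R * (k₁ * G') := by rw [e1]
        _ = G * (R * k₁) * G' := by simp only [mul_assoc]
        _ = G * (k₁ * R) * G' := by rw [hRK k₁ hk₁K]
        _ = (G * k₁) * R * G' := by simp only [mul_assoc]
        _ = k * (G * R * G') := by rw [e2]; simp only [mul_assoc]
    have hrel : (G * R * G') * (G * R * G') = t • (G * R * G') - 1 := by
      calc (G * R * G') * (G * R * G') = G * R * (G' * G) * R * G' := by simp only [mul_assoc]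
        _ = G * (R * R) * G' := by rw [hG'G, mul_one]; simp only [mul_assoc]
        _ = t • (G * R * G') - 1 := by
            rw [hRR, mul_sub, sub_mul, mul_one, hGG', Matrix.mul_smul, Matrix.smul_mul]
    rcases huniq (Matrix.toLin' (G * R * G'))
        (fun k v => by
          rw [Matrix.toLin'_apply, Matrix.toLin'_apply, hsm, hsm, Matrix.mulVec_mulVec,
            Matrix.mulVec_mulVec, hcomm k.1 k.2])
        (fun v => by
          rw [Matrix.toLin'_apply, ← Matrix.mulVec_mulVec, ← Matrix.mulVec_mulVec, hgQ, hRQ, hg'Q])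
        (fun v => by
          rw [Matrix.toLin'_apply, Matrix.toLin'_apply, Matrix.mulVec_mulVec, hrel,
            Matrix.sub_mulVec, Matrix.smul_mulVec, Matrix.one_mulVec]) with h | h
    · left
      apply mat_ext_mulVec
      intro v
      rw [hRv, ← h v, Matrix.toLin'_apply]
    · right
      apply mat_ext_mulVec
      intro v
      rw [Matrix.sub_mulVec, Matrix.smul_mulVec, Matrix.one_mulVec, hRv, ← h v, Matrix.toLin'_apply]
  have hstab : ∀ g : GL ι F, g ∈ subalgebraNormalizer K ⊓ isometryGroup F Q →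
      ∀ m ∈ K₂, (g : Matrix ι ι F) * m * ((g⁻¹ : GL ι F) : Matrix ι ι F) ∈ K₂ := by
    intro g hg m hm
    obtain ⟨α, β, rfl⟩ := (hK₂mem m).1 hm
    have hGG' : (g : Matrix ι ι F) * ((g⁻¹ : GL ι F) : Matrix ι ι F) = 1 :=
      Cfsg.Agent.Lib.Helper34_SpExt_QC1.val_mul_inv g
    have e : (g : Matrix ι ι F) * (α • (1 : Matrix ι ι F) + β • R) * ((g⁻¹ : GL ι F) : Matrix ι ι F) =
        α • (1 : Matrix ι ι F) + β • ((g : Matrix ι ι F) * R * ((g⁻¹ : GL ι F) : Matrix ι ι F)) := by
      rw [mul_add, add_mul, Matrix.mul_smul, Matrix.smul_mul, mul_one, hGG', Matrix.mul_smul,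
        Matrix.smul_mul]
    rw [e, hK₂mem]
    rcases hconj g hg with h | h
    · exact ⟨α, β, by rw [h]⟩
    · refine ⟨α + β * t, -β, ?_⟩
      rw [h, smul_sub, smul_smul, add_smul, neg_smul]
      abel
  intro g hg k
  constructor
  · exact hstab g hg k
  · intro h
    have h1 := hstab g⁻¹ (inv_mem hg) _ h
    rw [inv_inv] at h1
    have hG'G := Cfsg.Agent.Lib.Helper34_SpExt_QC1.val_inv_mul g
    have e : ((g⁻¹ : GL ι F) : Matrix ι ι F) * ((g : Matrix ι ι F) * k * ((g⁻¹ : GL ι F) : Matrix ι ι F)) *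
        (g : Matrix ι ι F) = k := by
      rw [← mul_assoc, ← mul_assoc, hG'G, one_mul, mul_assoc, hG'G, mul_one]
    rw [e] at h1
    exact h1

/-- **EV30**: in dimension 10 and minus type the isometries normalising an adjoint-closed subfield of degree 5
normalise a subfield of degree 2 of unitary type -/
theorem EV30 [Fintype F] (Q : (ι → F) → F) (hQ : IsNondegenerateQuadraticForm Q)
    (hcard : Fintype.card ι = 10) (hminus : ¬ IsPlusTypeOn Q ⊤)
    (K : Subalgebra F (Matrix ι ι F)) (hK : IsFieldSubalgebra 5 K)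
    (hKadj : IsAdjointClosedFor (QuadraticMap.polar Q) K) :
    ∃ K₂ : Subalgebra F (Matrix ι ι F), IsFieldSubalgebra 2 K₂ ∧
      IsAdjointClosedFor (QuadraticMap.polar Q) K₂ ∧
      ¬ IsSelfAdjointFor (QuadraticMap.polar Q) K₂ ∧
      (∀ k ∈ K₂, ∃ c : F, ∀ v : ι → F, Q (k *ᵥ v) = c * Q v) ∧
      subalgebraNormalizer K ⊓ isometryGroup F Q ≤ subalgebraNormalizer K₂ := by
  classical
  apply EV30aniso Q hQ hcard K hK hKadj
  intro v hv
  by_contra hcon
  push Not at hcon
  apply hminus
  haveI : Nonempty ι := by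
    rw [← Fintype.card_pos_iff, hcard]
    norm_num
  let φ : K →ₗ[F] (ι → F) :=
    { toFun := fun k => k.1 *ᵥ v
      map_add' := fun a b => by
        change (a.1 + b.1) *ᵥ v = a.1 *ᵥ v + b.1 *ᵥ v
        rw [Matrix.add_mulVec]
      map_smul' := fun c a => by
        change (c • a.1) *ᵥ v = c • (a.1 *ᵥ v)
        rw [Matrix.smul_mulVec] }
  have hφinj : Function.Injective φ := by
    rw [← LinearMap.ker_eq_bot, LinearMap.ker_eq_bot']
    intro k hk
    by_contra hk0
    have hk0' : (k : Matrix ι ι F) ≠ 0 := fun h => hk0 (Subtype.ext h)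
    obtain ⟨y, hy, hxy⟩ := hK.inv k.1 k.2 hk0'
    apply hv
    have h1 : k.1 *ᵥ v = 0 := hk
    have h2 : y * k.1 = 1 := by rw [hK.comm y hy k.1 k.2, hxy]
    rw [← Matrix.one_mulVec v, ← h2, ← Matrix.mulVec_mulVec, h1, Matrix.mulVec_zero]
  refine ⟨LinearMap.range φ, le_top, ?_, ?_⟩
  · rintro w ⟨k, rfl⟩
    exact hcon k.1 k.2
  · rw [LinearMap.finrank_range_of_inj hφinj, hK.finrank_eq, finrank_top,
      Module.finrank_fintype_fun_eq_card, hcard]

end bridge

end Cfsg.Agent.Lib.Helper99_OrthEven_EV30
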