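import Mathlib
import Cfsg.Agent.Lib.Helper22_OrthEven_IrrPlus
import Cfsg.Agent.Lib.Helper22_OrthEven_Row12
import Cfsg.Agent.Lib.Helper22_OrthEven_Row10
import Cfsg.Agent.Lib.Helper47_OrthEven_EV24a
import Cfsg.Agent.Lib.Helper99_OrthEven_EV30
import Cfsg.Agent.Lib.Helper34_OrthEven_EV30iso
import Cfsg.Agent.Lib.Helper34_OrthEven_EV40
import Cfsg.Agent.Lib.Helper43_OrthEven_EV43
import Cfsg.Agent.Lib.Helper51_OrthEven_EV44
import Cfsg.Agent.Lib.Helper50_OrthEven_EV45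
import Cfsg.Agent.Lib.Helper64_OrthEven_EV45c
import Cfsg.Agent.Lib.Helper11_OrthEven_EV45d
import Cfsg.Agent.Lib.Helper51_OrthEven_EV46
import Cfsg.Agent.Lib.Helper42_OrthEven_EV47
import Cfsg.Agent.Lib.Helper34_OrthEven_EV49
import Cfsg.Agent.Lib.Helper43_OrthEven_EV50

/-!
# The row `Ω₁₀⁺(q)` of the maximal subgroup tables (helper22)
-/

set_option autoImplicit false

open Cfsg Cfsg.Geo Matrix Cfsg.Agent.Lib.Helper98_AschDefs Cfsg.Agent.Lib.Helper23_FormDefs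
open scoped Kronecker MatrixGroups

namespace Cfsg.Agent.Lib.Helper22_OrthEven_Row10P

open Cfsg.Agent.Lib.Helper22_OrthEven_Basic Cfsg.Agent.Lib.Helper22_OrthEven_Core
  Cfsg.Agent.Lib.Helper22_OrthEven_IrrPlus Cfsg.Agent.Lib.Helper22_OrthEven_Row12
  Cfsg.Agent.Lib.Helper22_OrthEven_Row10

variable {F : Type*} [Field F]

variable {ι : Type} [Fintype ι] [DecidableEq ι] in
/-- EV30g: the isometries normalising an adjoint-closed subfield of degree 5 in dimension 10 normalise a subfield of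
degree 2 of unitary type, or permute two complementary totally singular subspaces -/
theorem EV30g [Fintype F] (Q : (ι → F) → F) (hQ : IsNondegenerateQuadraticForm Q) (hcard : Fintype.card ι = 10)
    (K : Subalgebra F (Matrix ι ι F)) (hK : IsFieldSubalgebra 5 K)
    (hKadj : IsAdjointClosedFor (QuadraticMap.polar Q) K) :
    (∃ K₂ : Subalgebra F (Matrix ι ι F), IsFieldSubalgebra 2 K₂ ∧ IsAdjointClosedFor (QuadraticMap.polar Q) K₂ ∧
      ¬ IsSelfAdjointFor (QuadraticMap.polar Q) K₂ ∧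
      (∀ k ∈ K₂, ∃ c : F, ∀ v : ι → F, Q (k *ᵥ v) = c * Q v) ∧
      subalgebraNormalizer K ⊓ isometryGroup F Q ≤ subalgebraNormalizer K₂) ∨
    (∃ D : Fin 2 → Submodule F (ι → F), IsMDecomposition 5 D ∧ (∀ i, IsTotallySingularQuad Q (D i)) ∧
      subalgebraNormalizer K ⊓ isometryGroup F Q ≤ decompositionStabilizer D) := by
  by_cases haniso : ∀ v : ι → F, v ≠ 0 → ∃ k ∈ K, Q (k *ᵥ v) ≠ 0
  · left
    exact Cfsg.Agent.Lib.Helper99_OrthEven_EV30.EV30aniso Q hQ hcard K hK hKadj haniso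
  · right
    push Not at haniso
    exact Cfsg.Agent.Lib.Helper34_OrthEven_EV30iso.EV30iso Q hQ hcard K hK hKadj haniso

lemma not_isPrimePow_six : ¬ IsPrimePow (6 : ℕ) := by
  rw [isPrimePow_nat_iff]
  rintro ⟨p, k, hp, hk, h⟩
  have hp6 : p ∣ 6 := by rw [← h]; exact dvd_pow_self p (by omega)
  have h2 : p = 2 ∨ p = 3 := by
    have h6 : p ∣ 2 * 3 := by simpa using hp6
    rcases (Nat.Prime.dvd_mul hp).mp h6 with h' | h'
    · left; exact (Nat.prime_dvd_prime_iff_eq hp Nat.prime_two).mp h'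
    · right; exact (Nat.prime_dvd_prime_iff_eq hp Nat.prime_three).mp h'
  rcases h2 with rfl | rfl
  · have hk3 : k < 3 := by
      by_contra hk3
      push Not at hk3
      have : 2 ^ 3 ≤ 2 ^ k := Nat.pow_le_pow_right (by norm_num) hk3
      omega
    interval_cases k <;> omega
  · have hk2 : k < 2 := by
      by_contra hk2
      push Not at hk2
      have : 3 ^ 2 ≤ 3 ^ k := Nat.pow_le_pow_right (by norm_num) hk2
      omega
    interval_cases k <;> omega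

/-- the conclusion of the row `Ω₁₀⁺(q)` -/
def Goal10P [Fintype F] (Q : (Fin 10 → F) → F) (H : Subgroup (Matrix.GeneralLinearGroup (Fin 10) F)) : Prop :=
    (∃ W : Submodule F (Fin 10 → F), W ≠ ⊥ ∧ Cfsg.Geo.IsTotallySingularQuad Q W ∧ Module.finrank F W ≠ 4 ∧ H = Cfsg.Geo.subspaceStabilizer W ⊓ Cfsg.Geo.omegaGL Q) ∨
    (Odd (Fintype.card F) ∧ ∃ W : Submodule F (Fin 10 → F), W ≠ ⊥ ∧ W ≠ ⊤ ∧ Odd (Module.finrank F W) ∧ 2 * Module.finrank F W ≠ 10 ∧ Cfsg.Geo.IsNondegenerateOn (QuadraticMap.polar Q) W ∧ H = Cfsg.Geo.subspaceStabilizer W ⊓ Cfsg.Geo.omegaGL Q) ∨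
    (∃ W : Submodule F (Fin 10 → F), Module.finrank F W = 2 ∧ Cfsg.Geo.IsNondegenerateOn (QuadraticMap.polar Q) W ∧ ¬ Cfsg.Geo.IsPlusTypeOn Q W ∧ H = Cfsg.Geo.subspaceStabilizer W ⊓ Cfsg.Geo.omegaGL Q) ∨
    (4 ≤ Fintype.card F ∧ ∃ W : Submodule F (Fin 10 → F), Module.finrank F W = 2 ∧ Cfsg.Geo.IsNondegenerateOn (QuadraticMap.polar Q) W ∧ Cfsg.Geo.IsPlusTypeOn Q W ∧ H = Cfsg.Geo.subspaceStabilizer W ⊓ Cfsg.Geo.omegaGL Q) ∨
    (∃ W : Submodule F (Fin 10 → F), Module.finrank F W = 4 ∧ Cfsg.Geo.IsNondegenerateOn (QuadraticMap.polar Q) W ∧ H = Cfsg.Geo.subspaceStabilizer W ⊓ Cfsg.Geo.omegaGL Q) ∨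
    (¬ Odd (Fintype.card F) ∧ ∃ v : (Fin 10 → F), Q v ≠ 0 ∧ H = Cfsg.Geo.subspaceStabilizer (Submodule.span F {v}) ⊓ Cfsg.Geo.omegaGL Q) ∨
    ((∃ p : ℕ, p.Prime ∧ Fintype.card F = p ∧ (p % 4 = 1)) ∧ ∃ D : Fin 10 → Submodule F (Fin 10 → F), Cfsg.Geo.IsOrthogonalMDecomposition Q 1 D ∧ H = Cfsg.Geo.decompositionStabilizer D ⊓ Cfsg.Geo.omegaGL Q) ∨
    (7 ≤ Fintype.card F ∧ ∃ D : Fin 5 → Submodule F (Fin 10 → F), Cfsg.Geo.IsOrthogonalMDecomposition Q 2 D ∧ H = Cfsg.Geo.decompositionStabilizer D ⊓ Cfsg.Geo.omegaGL Q) ∨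
    (Fintype.card F % 4 = 1 ∧ ∃ D : Fin 2 → Submodule F (Fin 10 → F), Cfsg.Geo.IsOrthogonalMDecomposition Q 5 D ∧ H = Cfsg.Geo.decompositionStabilizer D ⊓ Cfsg.Geo.omegaGL Q) ∨
    (Fintype.card F % 4 = 3 ∧ ∃ D : Fin 2 → Submodule F (Fin 10 → F), Cfsg.Geo.IsNondegenerateMDecomposition (QuadraticMap.polar Q) 5 D ∧ ¬ Cfsg.Geo.AreIsometricFor Q (D 0) (D 1) ∧ H = Cfsg.Geo.decompositionStabilizer D ⊓ Cfsg.Geo.omegaGL Q) ∨
    (Odd (Fintype.card F) ∧ ∃ K : Subalgebra F (Matrix (Fin 10) (Fin 10) F), Cfsg.Geo.IsFieldSubalgebra 2 K ∧ Cfsg.Geo.IsSelfAdjointFor (QuadraticMap.polar Q) K ∧ H = Cfsg.Geo.subalgebraNormalizer K ⊓ Cfsg.Geo.omegaGL Q) ∨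
    (∃ (F₀ : Subfield F) (r : ℕ) (P : Matrix.GeneralLinearGroup (Fin 10) F) (ζ : F), r.Prime ∧ Fintype.card F = Nat.card F₀ ^ r ∧ ζ ≠ 0 ∧ Cfsg.Geo.IsQuadFormRationalStructure (fun v : Fin 10 → F => ζ * Q v) F₀ P ∧ H = Cfsg.Geo.subfieldSubgroup F₀ P ⊓ Cfsg.Geo.omegaGL Q) ∨
    Cfsg.Geo.InOrthogonalResidualClass H

/-- the row `Ω₁₀⁺(q)` -/
theorem S5847_main [Fintype F] (Q : (Fin 10 → F) → F)
    (hQ : Cfsg.Geo.IsNondegenerateQuadraticForm Q) (hplus : Cfsg.Geo.IsPlusTypeOn Q ⊤)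
    (H : Subgroup (Matrix.GeneralLinearGroup (Fin 10) F))
    (hH : Cfsg.Geo.IsMaximalIn (Cfsg.Geo.omegaGL Q) H) :
    (∃ W : Submodule F (Fin 10 → F), W ≠ ⊥ ∧ Cfsg.Geo.IsTotallySingularQuad Q W ∧ Module.finrank F W ≠ 4 ∧ H = Cfsg.Geo.subspaceStabilizer W ⊓ Cfsg.Geo.omegaGL Q) ∨
    (Odd (Fintype.card F) ∧ ∃ W : Submodule F (Fin 10 → F), W ≠ ⊥ ∧ W ≠ ⊤ ∧ Odd (Module.finrank F W) ∧ 2 * Module.finrank F W ≠ 10 ∧ Cfsg.Geo.IsNondegenerateOn (QuadraticMap.polar Q) W ∧ H = Cfsg.Geo.subspaceStabilizer W ⊓ Cfsg.Geo.omegaGL Q) ∨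
    (∃ W : Submodule F (Fin 10 → F), Module.finrank F W = 2 ∧ Cfsg.Geo.IsNondegenerateOn (QuadraticMap.polar Q) W ∧ ¬ Cfsg.Geo.IsPlusTypeOn Q W ∧ H = Cfsg.Geo.subspaceStabilizer W ⊓ Cfsg.Geo.omegaGL Q) ∨
    (4 ≤ Fintype.card F ∧ ∃ W : Submodule F (Fin 10 → F), Module.finrank F W = 2 ∧ Cfsg.Geo.IsNondegenerateOn (QuadraticMap.polar Q) W ∧ Cfsg.Geo.IsPlusTypeOn Q W ∧ H = Cfsg.Geo.subspaceStabilizer W ⊓ Cfsg.Geo.omegaGL Q) ∨
    (∃ W : Submodule F (Fin 10 → F), Module.finrank F W = 4 ∧ Cfsg.Geo.IsNondegenerateOn (QuadraticMap.polar Q) W ∧ H = Cfsg.Geo.subspaceStabilizer W ⊓ Cfsg.Geo.omegaGL Q) ∨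
    (¬ Odd (Fintype.card F) ∧ ∃ v : (Fin 10 → F), Q v ≠ 0 ∧ H = Cfsg.Geo.subspaceStabilizer (Submodule.span F {v}) ⊓ Cfsg.Geo.omegaGL Q) ∨
    ((∃ p : ℕ, p.Prime ∧ Fintype.card F = p ∧ (p % 4 = 1)) ∧ ∃ D : Fin 10 → Submodule F (Fin 10 → F), Cfsg.Geo.IsOrthogonalMDecomposition Q 1 D ∧ H = Cfsg.Geo.decompositionStabilizer D ⊓ Cfsg.Geo.omegaGL Q) ∨
    (7 ≤ Fintype.card F ∧ ∃ D : Fin 5 → Submodule F (Fin 10 → F), Cfsg.Geo.IsOrthogonalMDecomposition Q 2 D ∧ H = Cfsg.Geo.decompositionStabilizer D ⊓ Cfsg.Geo.omegaGL Q) ∨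
    (Fintype.card F % 4 = 1 ∧ ∃ D : Fin 2 → Submodule F (Fin 10 → F), Cfsg.Geo.IsOrthogonalMDecomposition Q 5 D ∧ H = Cfsg.Geo.decompositionStabilizer D ⊓ Cfsg.Geo.omegaGL Q) ∨
    (Fintype.card F % 4 = 3 ∧ ∃ D : Fin 2 → Submodule F (Fin 10 → F), Cfsg.Geo.IsNondegenerateMDecomposition (QuadraticMap.polar Q) 5 D ∧ ¬ Cfsg.Geo.AreIsometricFor Q (D 0) (D 1) ∧ H = Cfsg.Geo.decompositionStabilizer D ⊓ Cfsg.Geo.omegaGL Q) ∨
    (Odd (Fintype.card F) ∧ ∃ K : Subalgebra F (Matrix (Fin 10) (Fin 10) F), Cfsg.Geo.IsFieldSubalgebra 2 K ∧ Cfsg.Geo.IsSelfAdjointFor (QuadraticMap.polar Q) K ∧ H = Cfsg.Geo.subalgebraNormalizer K ⊓ Cfsg.Geo.omegaGL Q) ∨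
    (∃ (F₀ : Subfield F) (r : ℕ) (P : Matrix.GeneralLinearGroup (Fin 10) F) (ζ : F), r.Prime ∧ Fintype.card F = Nat.card F₀ ^ r ∧ ζ ≠ 0 ∧ Cfsg.Geo.IsQuadFormRationalStructure (fun v : Fin 10 → F => ζ * Q v) F₀ P ∧ H = Cfsg.Geo.subfieldSubgroup F₀ P ⊓ Cfsg.Geo.omegaGL Q) ∨
    Cfsg.Geo.InOrthogonalResidualClass H := by
  classical
  change Goal10P Q H
  have hcard : Fintype.card (Fin 10) = 10 := Fintype.card_fin 10
  have hHΩ : H ≤ omegaGL Q := hH.1.le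
  have hHI : H ≤ isometryGroup F Q := hHΩ.trans (omegaGL_le Q)
  have hglue := fun (M : Subgroup (GL (Fin 10) F)) (hHM : H ≤ M) (hΩM : ¬ omegaGL Q ≤ M) =>
    eq_of_maximal hH hHM hΩM
  have hEV2 := Cfsg.Agent.Lib.Helper32_OrthEven_EV2.EV2 Q hQ (by rw [hcard]; omega)
  have hEV16 := fun (t k : ℕ) (D : Fin t → Submodule F (Fin 10 → F)) (hD : IsMDecomposition k D) =>
    Cfsg.Agent.Lib.Helper32_OrthEven_EV16.EV16 Q hQ (by rw [hcard]; omega) t k D hD
  have hodd_of : ∀ W : Submodule F (Fin 10 → F), IsNondegenerateOn (QuadraticMap.polar Q) W →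
      Odd (Module.finrank F W) → (2 : F) ≠ 0 := by
    intro W hW hodd h2
    exact (Nat.not_even_iff_odd.mpr hodd) (EV14 Q hQ h2 W hW)
  -- the subfield class
  have hsub : ∀ (F₁ : Subfield F) (r : ℕ) (P' : GL (Fin 10) F) (ζ : F), r.Prime →
      Fintype.card F = Nat.card F₁ ^ r → ζ ≠ 0 →
      IsQuadFormRationalStructure (fun v : Fin 10 → F => ζ * Q v) F₁ P' →
      H ≤ subfieldSubgroup F₁ P' → Goal10P Q H := fun F₁ r P' ζ hrp hcF hζ hrat hHle =>
    Or.inr (Or.inr (Or.inr (Or.inr (Or.inr (Or.inr (Or.inr (Or.inr (Or.inr (Or.inr (Or.inr (Or.inl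
      ⟨F₁, r, P', ζ, hrp, hcF, hζ, hrat,
        hglue _ hHle (Cfsg.Agent.Lib.Helper94_OrthEven_EV11.EV11 Q hQ (by rw [hcard]; omega) F₁
          (subfield_ne_top F₁ r hrp hcF) P')⟩)))))))))))
  -- reducibility contradicts irreducibility
  have hredu : ActsIrreducibly (matrixSet H) → ∀ W : Submodule F (Fin 10 → F), W ≠ ⊥ → W ≠ ⊤ →
      H ≤ subspaceStabilizer W → False := by
    intro hirr W hW0 hW1 hHW
    rcases hirr W (by
      intro a ha
      obtain ⟨g, hg, rfl⟩ := ha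
      rintro _ ⟨v, hv, rfl⟩
      rw [Matrix.toLin'_apply]
      exact ((mem_subspaceStabilizer_iff W g).mp (hHW hg) v).mp hv) with h | h
    · exact hW0 h
    · exact hW1 h
  -- a pair of complementary totally singular subspaces
  have hpair : ActsIrreducibly (matrixSet H) → ∀ D : Fin 2 → Submodule F (Fin 10 → F), IsMDecomposition 5 D →
      (∀ i, IsTotallySingularQuad Q (D i)) → H ≤ decompositionStabilizer D → False := by
    intro hirr D hD hts hHD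
    have hle := Cfsg.Agent.Lib.Helper34_OrthEven_EV40.EV42 Q hQ 5 (by decide) D hD hts
    have hD0 : D 0 ≠ ⊥ := by
      intro h
      have := hD.finrank_eq 0
      rw [h, finrank_bot] at this
      omega
    exact hredu hirr (D 0) hD0 (ts_ne_top Q hQ (D 0) (hts 0)) ((le_inf hHD hHΩ).trans hle)
  -- the frame class
  have hframe : ∀ (D : Fin 10 → Submodule F (Fin 10 → F)), IsOrthogonalMDecomposition Q 1 D →
      H ≤ decompositionStabilizer D → Goal10P Q H := by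
    intro D hOD hHD
    have h2F : (2 : F) ≠ 0 := hodd_of (D 0) (hOD.decomp.nondegenerate 0)
      (by rw [hOD.decomp.decomp.finrank_eq]; exact odd_one)
    rcases mod_four_of_odd (odd_card_of_two_ne_zero h2F) with h1 | h3
    · by_cases hp : (Fintype.card F).Prime
      · exact Or.inr (Or.inr (Or.inr (Or.inr (Or.inr (Or.inr (Or.inl
          ⟨⟨Fintype.card F, hp, rfl, h1⟩, D, hOD, hglue _ hHD (hEV16 10 1 D hOD.decomp.decomp)⟩))))))
      · obtain ⟨F₁, r, P', ζ, hrp, hcF, hζ, hrat, hle⟩ := Cfsg.Agent.Lib.Helper55_OrthEven_EV29.EV29 Q hQ hp 10 D hOD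
        exact hsub F₁ r P' ζ hrp hcF hζ hrat ((le_inf hHD hHI).trans hle)
    · exact absurd hplus (Cfsg.Agent.Lib.Helper51_OrthEven_EV46.EV46 Q hQ h3 10 (by norm_num) D hOD)
  -- the decomposition classes
  have hdecomp : ActsIrreducibly (matrixSet H) ∨ True → ∀ (t k : ℕ) (D : Fin t → Submodule F (Fin 10 → F)),
      t * k = 10 → 2 ≤ t →
      IsOrthogonalMDecomposition Q k D → H ≤ decompositionStabilizer D →
      (ActsIrreducibly (matrixSet H) ∨ t = 2) → Goal10P Q H := by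
    intro _ t k D htk ht2 hOD hHD hirr2
    have ht10 : t ≤ 10 := Nat.le_of_dvd (by norm_num) ⟨k, htk.symm⟩
    have hcases : (t = 2 ∧ k = 5) ∨ (t = 5 ∧ k = 2) ∨ (t = 10 ∧ k = 1) := by
      interval_cases t <;> omega
    rcases hcases with ⟨rfl, rfl⟩ | ⟨rfl, rfl⟩ | ⟨rfl, rfl⟩
    · have h2F : (2 : F) ≠ 0 := hodd_of (D 0) (hOD.decomp.nondegenerate 0)
        (by rw [hOD.decomp.decomp.finrank_eq]; decide)
      rcases mod_four_of_odd (odd_card_of_two_ne_zero h2F) with h1 | h3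
      · exact Or.inr (Or.inr (Or.inr (Or.inr (Or.inr (Or.inr (Or.inr (Or.inr (Or.inl
          ⟨h1, D, hOD, hglue _ hHD (hEV16 2 5 D hOD.decomp.decomp)⟩))))))))
      · exact absurd hplus (Cfsg.Agent.Lib.Helper43_OrthEven_EV43.EV43 Q hQ h3 5 (by decide) D hOD)
    · have hirr : ActsIrreducibly (matrixSet H) := by
        rcases hirr2 with h | h
        · exact h
        · omega
      by_cases hb : ∀ i, IsPlusTypeOn Q (D i)
      · by_cases hq7 : 7 ≤ Fintype.card F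
        · exact Or.inr (Or.inr (Or.inr (Or.inr (Or.inr (Or.inr (Or.inr (Or.inl
            ⟨hq7, D, hOD, hglue _ hHD (hEV16 5 2 D hOD.decomp.decomp)⟩)))))))
        · have hq1 : 1 < Fintype.card F := Fintype.one_lt_card
          have hq6 : Fintype.card F ≠ 6 := by
            intro h6
            have := FiniteField.isPrimePow_card F
            rw [h6] at this
            exact not_isPrimePow_six this
          by_cases hq3 : Fintype.card F ≤ 3
          · exfalso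
            obtain ⟨W, hW0, hW1, hle⟩ := Cfsg.Agent.Lib.Helper50_OrthEven_EV45.EV45 hq3 Q hQ 5 D hOD hb
            exact hredu hirr W hW0 hW1 ((le_inf hHD hHI).trans hle)
          · by_cases hq4 : Fintype.card F = 4
            · obtain ⟨F₁, r, P', ζ, hrp, hcF, hζ, hrat, hle⟩ := Cfsg.Agent.Lib.Helper64_OrthEven_EV45c.EV45c hq4 Q hQ 5 D hOD hb
              exact hsub F₁ r P' ζ hrp hcF hζ hrat ((le_inf hHD hHI).trans hle)
            · have hq5 : Fintype.card F = 5 := by omega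
              obtain ⟨D', hOD', hle⟩ := Cfsg.Agent.Lib.Helper11_OrthEven_EV45d.EV45d hq5 Q hQ 5 10 (by norm_num) D hOD hb
              exact hframe D' hOD' ((le_inf hHD hHI).trans hle)
      · exfalso
        have hall : ∀ i, ¬ IsPlusTypeOn Q (D i) := by
          intro i hi
          apply hb
          intro j
          exact plus_of_isometric Q (D i) (D j) (hOD.isometric i j) hi
        exact Cfsg.Agent.Lib.Helper51_OrthEven_EV44.EV44 Q hQ 5 (by decide) D hOD.decomp hall hplus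
    · exact hframe D hOD hHD
  -- the unitary class is of minus type
  have hunit : ∀ K : Subalgebra F (Matrix (Fin 10) (Fin 10) F), IsFieldSubalgebra 2 K →
      IsAdjointClosedFor (QuadraticMap.polar Q) K → ¬ IsSelfAdjointFor (QuadraticMap.polar Q) K →
      (∀ k ∈ K, ∃ c : F, ∀ v : (Fin 10 → F), Q (Matrix.mulVec k v) = c * Q v) → False :=
    fun K hK hKadj hnsa hsim => Cfsg.Agent.Lib.Helper42_OrthEven_EV47.EV47 Q hQ 5 (by decide) (by rw [hcard]) K hK hKadj hnsa hsim hplus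
  by_cases hirr : ActsIrreducibly (matrixSet H)
  swap
  · -- reducible
    rcases reducible_cases (by rw [hcard]; omega) Q hQ H hH hirr with
      ⟨W, hW0, hWts, hHeq⟩ | ⟨hq, W, hW0, hW1, hodd, -, hWnd, hHeq, hhalf⟩ | ⟨W, h2, hWnd, hp, hHeq⟩ |
      ⟨hq, W, h2, hWnd, hp, hHeq⟩ | ⟨W, hev, h4, hle, hWnd, hHeq⟩ | ⟨hq, v, hv, hHeq⟩
    · by_cases h4 : Module.finrank F W = 4
      · obtain ⟨U, hWU, hUts, hUm, hle⟩ := Cfsg.Agent.Lib.Helper34_OrthEven_EV40.EV41 Q hQ 5 (by rw [hcard]) hplus W hWts (by omega)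
        have hHU : H ≤ subspaceStabilizer U := by
          refine le_trans ?_ hle
          rw [hHeq]
        have hU0 : U ≠ ⊥ := by
          intro h
          rw [h, finrank_bot] at hUm
          omega
        exact Or.inl ⟨U, hU0, hUts, by omega, hglue _ hHU (hEV2 U hU0 (ts_ne_top Q hQ U hUts))⟩
      · exact Or.inl ⟨W, hW0, hWts, h4, hHeq⟩
    · by_cases h5 : 2 * Module.finrank F W = 10
      · obtain ⟨W', hW'0, hinf, hsup, ho, ho', hW'nd, hdim', hHW'⟩ := hhalf (by rw [hcard]; exact h5)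
        have hd5 : Module.finrank F W = 5 := by omega
        obtain ⟨hND, hstab⟩ := two_decomp (QuadraticMap.polar Q) 5 (by norm_num) W W' hinf hsup hWnd hW'nd
          ho ho' hd5 (by rw [hdim', hd5])
        have hHW : H ≤ subspaceStabilizer W := by rw [hHeq]; exact inf_le_left
        have hHD : H ≤ decompositionStabilizer ![W, W'] := (le_inf hHW hHW').trans hstab
        by_cases hiso : AreIsometricFor Q W W'
        · refine hdecomp (Or.inr trivial) 2 5 ![W, W'] (by norm_num) le_rfl ⟨hND, ?_⟩ hHD (Or.inr rfl)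
          intro i j
          fin_cases i <;> fin_cases j
          · exact isometric_refl Q W
          · exact hiso
          · exact isometric_symm Q hiso
          · exact isometric_refl Q W'
        · rcases mod_four_of_odd hq with h1 | h3
          · exact absurd hplus (Cfsg.Agent.Lib.Helper43_OrthEven_EV50.EV50 Q hQ h1 5 (by decide) ![W, W'] hND hiso)
          · exact Or.inr (Or.inr (Or.inr (Or.inr (Or.inr (Or.inr (Or.inr (Or.inr (Or.inr (Or.inl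
              ⟨h3, ![W, W'], hND, hiso, hglue _ hHD (hEV16 2 5 _ hND.decomp)⟩)))))))))
      · exact Or.inr (Or.inl ⟨hq, W, hW0, hW1, hodd, h5, hWnd, hHeq⟩)
    · exact Or.inr (Or.inr (Or.inl ⟨W, h2, hWnd, hp, hHeq⟩))
    · exact Or.inr (Or.inr (Or.inr (Or.inl ⟨hq, W, h2, hWnd, hp, hHeq⟩)))
    · rw [hcard] at hle
      have h4' : Module.finrank F W = 4 := by
        obtain ⟨j, hj⟩ := hev
        omega
      exact Or.inr (Or.inr (Or.inr (Or.inr (Or.inl ⟨W, h4', hWnd, hHeq⟩))))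
    · exact Or.inr (Or.inr (Or.inr (Or.inr (Or.inr (Or.inl ⟨hq, v, hv, hHeq⟩)))))
  -- irreducible
  rcases irreducible_cases_ts 10 (by omega) Q hQ H hH hirr with
    ⟨t, k, D, htk, ht2, hk0, hD, hOD, hHD⟩ | ⟨k, D, hD, hts, -, hHD⟩ | ⟨r, K, hr, hr10, hK, hKadj, hHeq⟩ |
    ⟨N, d, s, e, P, hNH, hnorm, hNZ, hmin, hA, hAadj, hT, hd2, hs2, hds⟩ | ⟨⟨j, hj⟩, -⟩ |
    ⟨N, k, S, hNI, hspan, hk, hSN, hSnorm, hSZ, hcomm, hsup, d, hd2, hdk⟩ |
    ⟨F₁, r, P', ζ, hrp, hcF, hζ, hrat, hHeq⟩ | hres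
  · exact hdecomp (Or.inl hirr) t k D htk ht2 hOD hHD (Or.inl hirr)
  · exfalso
    have hk5 : k = 5 := by
      have := Cfsg.Agent.Lib.Helper98_Decomp.card_eq hD
      omega
    subst hk5
    exact hpair hirr D hD hts hHD
  · have hHK : H ≤ subalgebraNormalizer K := by rw [hHeq]; exact inf_le_left
    have hr25 : r = 2 ∨ r = 5 := by
      have h1 : r ∣ 2 * 5 := by simpa using hr10
      rcases (Nat.Prime.dvd_mul hr).mp h1 with h | h
      · left
        exact (Nat.prime_dvd_prime_iff_eq hr Nat.prime_two).mp h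
      · right
        exact (Nat.prime_dvd_prime_iff_eq hr Nat.prime_five).mp h
    rcases hr25 with rfl | rfl
    · by_cases hsa : IsSelfAdjointFor (QuadraticMap.polar Q) K
      · by_cases h2F : (2 : F) = 0
        · exfalso
          have := Cfsg.Agent.Lib.Helper47_OrthEven_EV24a.EV24a Q hQ h2F K hK hsa
          rw [hcard] at this
          omega
        · exact Or.inr (Or.inr (Or.inr (Or.inr (Or.inr (Or.inr (Or.inr (Or.inr (Or.inr (Or.inr (Or.inl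
            ⟨odd_card_of_two_ne_zero h2F, K, hK, hsa, hHeq⟩))))))))))
      · exact (hunit K hK hKadj hsa
          (Cfsg.Agent.Lib.Helper47_OrthEven_EV24b.EV24b Q hQ (by rw [hcard]; omega) H hHI hirr K hK hKadj hsa hHK)).elim
    · rcases EV30g Q hQ hcard K hK hKadj with ⟨K₂, hK₂, hK₂adj, hK₂nsa, hsim, -⟩ | ⟨D, hD, hts, hle⟩
      · exact (hunit K₂ hK₂ hK₂adj hK₂nsa hsim).elim
      · exact (hpair hirr D hD hts ((le_inf hHK hHI).trans hle)).elim
  · -- tensor algebra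
    exfalso
    have hodd : Odd d ∨ Odd s := by
      have hd10 : d ≤ 10 := Nat.le_of_dvd (by norm_num) ⟨s, hds.symm⟩
      have : (d = 2 ∧ s = 5) ∨ (d = 5 ∧ s = 2) := by
        interval_cases d <;> omega
      rcases this with ⟨rfl, rfl⟩ | ⟨rfl, rfl⟩
      · right; decide
      · left; decide
    obtain ⟨h2F, n₁, n₂, e', P', f₁, f₂, hns, hn₁, hf₁, hf₂, hten, hHT⟩ :=
      Cfsg.Agent.Lib.Helper82_OrthEven_EV17.EV17 Q hQ H hHI hirr (spanAlg N) hA hAadj d s e P hT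
        (by omega) (by omega) hodd
    have hnn : n₁ * n₂ = 10 := by
      rcases hns with ⟨rfl, rfl⟩ | ⟨rfl, rfl⟩
      · exact hds
      · rw [mul_comm]; exact hds
    have hn₁2 : 2 ≤ n₁ ∧ 2 ≤ n₂ := by
      rcases hns with ⟨rfl, rfl⟩ | ⟨rfl, rfl⟩
      · exact ⟨hd2, hs2⟩
      · exact ⟨hs2, hd2⟩
    have hn52 : n₁ = 5 ∧ n₂ = 2 := by
      have h10 : n₁ ≤ 10 := Nat.le_of_dvd (by norm_num) ⟨n₂, hnn.symm⟩
      obtain ⟨j, hj⟩ := hn₁
      have hj5 : j ≤ 5 := by omega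
      subst hj
      interval_cases j <;> omega
    obtain ⟨rfl, rfl⟩ := hn52
    by_cases hp2 : IsPlusTypeOn (fun v : Fin 2 → F => f₂ v v) ⊤
    · obtain ⟨D, hD, hts, hle⟩ := Cfsg.Agent.Lib.Helper34_OrthEven_EV49.EV49 Q hQ h2F 5 (by norm_num) e' P' f₁ f₂ hf₁ hf₂ hten hp2
      exact hpair hirr D hD hts ((le_inf hHT hHI).trans hle)
    · obtain ⟨K, hK, hKadj, hnsa, hsim, hle⟩ := Cfsg.Agent.Lib.Helper34_OrthEven_EV26.EV26 Q hQ h2F 5 (by norm_num) e' P' f₁ f₂ hf₁ hf₂ hten hp2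
      exact hunit K hK hKadj hnsa hsim
  · exfalso
    have hj4 : j < 4 := by
      by_contra h
      push Not at h
      have : 2 ^ 4 ≤ 2 ^ j := Nat.pow_le_pow_right (by norm_num) h
      omega
    interval_cases j <;> omega
  · exfalso
    have h2k : d ^ 2 ∣ d ^ k := pow_dvd_pow d hk
    rw [← hdk] at h2k
    have hle : d ^ 2 ≤ 10 := Nat.le_of_dvd (by norm_num) h2k
    have hd3 : d ≤ 3 := by nlinarith
    interval_cases d
    · have hk4 : k < 4 := by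
        by_contra h
        push Not at h
        have : 2 ^ 4 ≤ 2 ^ k := Nat.pow_le_pow_right (by norm_num) h
        omega
      interval_cases k <;> omega
    · norm_num at h2k
  · have hHle : H ≤ subfieldSubgroup F₁ P' := by rw [hHeq]; exact inf_le_left
    exact hsub F₁ r P' ζ hrp hcF hζ hrat hHle
  · exact Or.inr (Or.inr (Or.inr (Or.inr (Or.inr (Or.inr (Or.inr (Or.inr (Or.inr (Or.inr (Or.inr (Or.inr
      hres)))))))))))

end Cfsg.Agent.Lib.Helper22_OrthEven_Row10P
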