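import Mathlib
import Cfsg.Agent.Lib.Helper22_OrthEven_Irr
import Cfsg.Agent.Lib.Helper85_OrthEven_EV5
import Cfsg.Agent.Lib.Helper35_OrthEven_EV10

/-!
# The row `Ω₈⁻(q)` of the maximal subgroup tables (helper22)
-/

set_option autoImplicit false

open Cfsg Cfsg.Geo Matrix Cfsg.Agent.Lib.Helper98_AschDefs Cfsg.Agent.Lib.Helper23_FormDefs
open scoped Kronecker MatrixGroups

namespace Cfsg.Agent.Lib.Helper22_OrthEven_Row8

open Cfsg.Agent.Lib.Helper22_OrthEven_Basic Cfsg.Agent.Lib.Helper22_OrthEven_Core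
  Cfsg.Agent.Lib.Helper22_OrthEven_Irr

variable {F : Type*} [Field F]

/-- an isometric orthogonal decomposition of an 8-dimensional space forces plus type -/
lemma plus_of_decomp8 [Fintype F] (Q : (Fin 8 → F) → F) (hQ : IsNondegenerateQuadraticForm Q) (t k : ℕ)
    (D : Fin t → Submodule F (Fin 8 → F)) (htk : t * k = 8) (ht2 : 2 ≤ t)
    (hOD : IsOrthogonalMDecomposition Q k D) : IsPlusTypeOn Q ⊤ := by
  apply Cfsg.Agent.Lib.Helper85_OrthEven_EV5.EV5 Q hQ t k D hOD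
  have hdvd : t ∣ 2 ^ 3 := ⟨k, by omega⟩
  obtain ⟨a, ha, rfl⟩ := (Nat.dvd_prime_pow Nat.prime_two).mp hdvd
  interval_cases a
  · omega
  · left
    have : k = 4 := by omega
    subst this
    exact ⟨by decide, by decide⟩
  · right; left; norm_num
  · right; left; norm_num

/-- the tensor power case in dimension 8 -/
lemma tensor_power_plus [Fintype F] (Q : (Fin 8 → F) → F) (hQ : IsNondegenerateQuadraticForm Q)
    (N : Subgroup (GL (Fin 8) F)) (hNI : N ≤ isometryGroup F Q) (hspan : spanAlg N = ⊤)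
    (k : ℕ) (hk : 2 ≤ k) (S : Fin k → Subgroup (GL (Fin 8) F)) (hSN : ∀ i, S i ≤ N)
    (hSnorm : ∀ i, NormalizesGrp N (S i)) (hSZ : ∀ i, ¬ S i ≤ scalars (Fin 8) F)
    (hcomm : ∀ i j, i ≠ j → ∀ x ∈ S i, ∀ y ∈ S j, x * y = y * x) (hsup : ⨆ i, S i = N) :
    IsPlusTypeOn Q ⊤ := by
  classical
  have hcard : Fintype.card (Fin 8) = 8 := Fintype.card_fin 8
  set i0 : Fin k := ⟨0, by omega⟩ with hi0
  set i1 : Fin k := ⟨1, by omega⟩ with hi1
  have h01 : i1 ≠ i0 := by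
    intro h
    have := congrArg Fin.val h
    simp [hi0, hi1] at this
  have hirr := Cfsg.Agent.Lib.Helper98_AschMain.irr_of_span hspan
  have hA : NormalizesAlg N (spanAlg (S i0)) := normalizesAlg_spanAlg (hSnorm i0)
  have hAadj := Cfsg.Agent.Lib.Helper7_OrthOdd_OG2.OG2 Q hQ (S i0) ((hSN i0).trans hNI)
  have hf := isSesq_of_bilinear hQ.polar_bilinear
  -- elements of the other factors commute with the span of `S i0`
  have hcomm' : ∀ j, j ≠ i0 → ∀ y ∈ S j, ∀ a ∈ spanAlg (S i0),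
      (y : Matrix (Fin 8) (Fin 8) F) * a = a * (y : Matrix (Fin 8) (Fin 8) F) := by
    intro j hj y hy a ha
    rw [mem_spanAlg_iff] at ha
    induction ha using Submodule.span_induction with
    | mem x hx =>
      obtain ⟨g, hg, rfl⟩ := hx
      rw [← Units.val_mul, ← Units.val_mul, hcomm j i0 hj y hy g hg]
    | zero => simp
    | add x y' _ _ hx hy' => rw [mul_add, add_mul, hx, hy']
    | smul c x _ hx => rw [Matrix.mul_smul, Matrix.smul_mul, hx]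
  rcases Cfsg.Agent.Lib.Helper98_Form_F2.F2 (RingEquiv.refl F) (QuadraticMap.polar Q) hf hQ.nondegenerate
      (isRefl_polar Q) N (fixesForm_polar Q N hNI) hirr (spanAlg (S i0)) hA hAadj with
    ⟨t, m, D, hD, hHD⟩ | ⟨m, D, hD, hts, hHD⟩ | ⟨⟨z, hzA, hzc, hzs⟩, -⟩ | ⟨d, s, e, P, hT⟩
  · have hOD := Cfsg.Agent.Lib.Helper94_OrthEven_EV4.EV4 Q hQ N hNI hirr t m D hD hHD
    have htk : t * m = 8 := Cfsg.Agent.Lib.Helper98_Decomp.card_eq hD.decomp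
    exact plus_of_decomp8 Q hQ t m D htk hD.decomp.two_le hOD
  · exact (Cfsg.Agent.Lib.Helper94_OrthEven_EV6.EV6 Q hQ N hNI hirr (by omega) m D hD hts hHD).2
  · exfalso
    have hzN : ∀ x ∈ N, (x : Matrix (Fin 8) (Fin 8) F) * z = z * (x : Matrix (Fin 8) (Fin 8) F) := by
      intro x hx
      rw [← hsup] at hx
      refine Subgroup.iSup_induction S (C := fun x : GL (Fin 8) F =>
        (x : Matrix (Fin 8) (Fin 8) F) * z = z * (x : Matrix (Fin 8) (Fin 8) F)) hx ?_ ?_ ?_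
      · intro j y hy
        by_cases hj : j = i0
        · rw [hj] at hy
          exact (hzc _ (coe_mem_spanAlg hy)).symm
        · exact hcomm' j hj y hy z hzA
      · simp
      · intro x y hx hy
        rw [Units.val_mul, mul_assoc, hy, ← mul_assoc, hx, mul_assoc]
    obtain ⟨c, hc⟩ := Cfsg.Agent.Lib.Helper52_Asch_PK7.exists_smul_one_of_commute N hspan z hzN
    exact hzs c hc
  · have hds : d * s = 8 := by
      have := Fintype.card_congr e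
      rw [hcard, Fintype.card_prod, Fintype.card_fin, Fintype.card_fin] at this
      exact this.symm
    by_cases hd1 : d = 1
    · exfalso
      apply hSZ i0
      intro g hg
      obtain ⟨c, hc⟩ := (Cfsg.Agent.Lib.Helper29_OrthOdd_Glue.OG4 (spanAlg (S i0)) d s e P hT).2 hd1 _
        (coe_mem_spanAlg hg)
      exact Cfsg.Agent.Lib.Helper98_AschMain.mem_scalars_of_coe_eq hc
    by_cases hs1 : s = 1
    · exfalso
      have htop : spanAlg (S i0) = ⊤ :=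
        (Cfsg.Agent.Lib.Helper29_OrthOdd_Glue.OG4 (spanAlg (S i0)) d s e P hT).1 hs1
      apply hSZ i1
      intro y hy
      apply Cfsg.Agent.Lib.Helper52_Asch_PK7.mem_scalars_of_commute (S i0) htop
      intro x hx
      exact (hcomm' i1 h01 y hy _ (coe_mem_spanAlg hx)).symm
    have hdvd : d ∣ 2 ^ 3 := ⟨s, by omega⟩
    obtain ⟨a, ha, rfl⟩ := (Nat.dvd_prime_pow Nat.prime_two).mp hdvd
    have hdvd' : s ∣ 2 ^ 3 := ⟨2 ^ a, by rw [mul_comm]; omega⟩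
    obtain ⟨b, hb, rfl⟩ := (Nat.dvd_prime_pow Nat.prime_two).mp hdvd'
    have ha0 : a ≠ 0 := by rintro rfl; exact hd1 rfl
    have hb0 : b ≠ 0 := by rintro rfl; exact hs1 rfl
    exact EV8 Q hQ N hNI hirr (spanAlg (S i0)) hA hAadj _ _ e P hT
      (Nat.even_pow.mpr ⟨even_two, ha0⟩) (Nat.even_pow.mpr ⟨even_two, hb0⟩) (by positivity) (by positivity)

/-- the row `Ω₈⁻(q)` -/
theorem S5826_main [Fintype F] (Q : (Fin 8 → F) → F)
    (hQ : Cfsg.Geo.IsNondegenerateQuadraticForm Q) (hminus : ¬ Cfsg.Geo.IsPlusTypeOn Q ⊤)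
    (H : Subgroup (Matrix.GeneralLinearGroup (Fin 8) F))
    (hH : Cfsg.Geo.IsMaximalIn (Cfsg.Geo.omegaGL Q) H) :
    (∃ W : Submodule F (Fin 8 → F), W ≠ ⊥ ∧ Cfsg.Geo.IsTotallySingularQuad Q W ∧ H = Cfsg.Geo.subspaceStabilizer W ⊓ Cfsg.Geo.omegaGL Q) ∨
    (Odd (Fintype.card F) ∧ ∃ W : Submodule F (Fin 8 → F), W ≠ ⊥ ∧ W ≠ ⊤ ∧ Odd (Module.finrank F W) ∧ Cfsg.Geo.IsNondegenerateOn (QuadraticMap.polar Q) W ∧ H = Cfsg.Geo.subspaceStabilizer W ⊓ Cfsg.Geo.omegaGL Q) ∨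
    (∃ W : Submodule F (Fin 8 → F), Module.finrank F W = 2 ∧ Cfsg.Geo.IsNondegenerateOn (QuadraticMap.polar Q) W ∧ ¬ Cfsg.Geo.IsPlusTypeOn Q W ∧ H = Cfsg.Geo.subspaceStabilizer W ⊓ Cfsg.Geo.omegaGL Q) ∨
    (4 ≤ Fintype.card F ∧ ∃ W : Submodule F (Fin 8 → F), Module.finrank F W = 2 ∧ Cfsg.Geo.IsNondegenerateOn (QuadraticMap.polar Q) W ∧ Cfsg.Geo.IsPlusTypeOn Q W ∧ H = Cfsg.Geo.subspaceStabilizer W ⊓ Cfsg.Geo.omegaGL Q) ∨
    (∃ W : Submodule F (Fin 8 → F), Module.finrank F W = 4 ∧ Cfsg.Geo.IsNondegenerateOn (QuadraticMap.polar Q) W ∧ H = Cfsg.Geo.subspaceStabilizer W ⊓ Cfsg.Geo.omegaGL Q) ∨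
    (¬ Odd (Fintype.card F) ∧ ∃ v : (Fin 8 → F), Q v ≠ 0 ∧ H = Cfsg.Geo.subspaceStabilizer (Submodule.span F {v}) ⊓ Cfsg.Geo.omegaGL Q) ∨
    (∃ K : Subalgebra F (Matrix (Fin 8) (Fin 8) F), Cfsg.Geo.IsFieldSubalgebra 2 K ∧ H = Cfsg.Geo.subalgebraNormalizer K ⊓ Cfsg.Geo.omegaGL Q) ∨
    (∃ (F₀ : Subfield F) (r : ℕ) (P : Matrix.GeneralLinearGroup (Fin 8) F) (ζ : F), r.Prime ∧ Odd r ∧ Fintype.card F = Nat.card F₀ ^ r ∧ ζ ≠ 0 ∧ Cfsg.Geo.IsQuadFormRationalStructure (fun v : Fin 8 → F => ζ * Q v) F₀ P ∧ H = Cfsg.Geo.subfieldSubgroup F₀ P ⊓ Cfsg.Geo.omegaGL Q) ∨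
    Cfsg.Geo.InOrthogonalResidualClass H := by
  classical
  have hcard : Fintype.card (Fin 8) = 8 := Fintype.card_fin 8
  by_cases hirr : ActsIrreducibly (matrixSet H)
  swap
  · -- reducible
    rcases reducible_cases (by rw [hcard]; omega) Q hQ H hH hirr with
      ⟨W, hW0, hWts, hHeq⟩ | ⟨hq, W, hW0, hW1, hodd, -, hWnd, hHeq, -⟩ | ⟨W, h2, hWnd, hp, hHeq⟩ |
      ⟨hq, W, h2, hWnd, hp, hHeq⟩ | ⟨W, hev, h4, hle, hWnd, hHeq⟩ | ⟨hq, v, hv, hHeq⟩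
    · exact Or.inl ⟨W, hW0, hWts, hHeq⟩
    · exact Or.inr (Or.inl ⟨hq, W, hW0, hW1, hodd, hWnd, hHeq⟩)
    · exact Or.inr (Or.inr (Or.inl ⟨W, h2, hWnd, hp, hHeq⟩))
    · exact Or.inr (Or.inr (Or.inr (Or.inl ⟨hq, W, h2, hWnd, hp, hHeq⟩)))
    · rw [hcard] at hle
      exact Or.inr (Or.inr (Or.inr (Or.inr (Or.inl ⟨W, by omega, hWnd, hHeq⟩))))
    · exact Or.inr (Or.inr (Or.inr (Or.inr (Or.inr (Or.inl ⟨hq, v, hv, hHeq⟩)))))
  -- irreducible
  rcases irreducible_cases 8 (by omega) Q hQ H hH hirr with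
    ⟨t, k, D, htk, ht2, hk0, hD, hOD, hHD⟩ | hplus | ⟨r, K, hr, hr8, hK, hKadj, hHeq⟩ |
    ⟨N, d, s, e, P, hNH, hnorm, hNZ, hmin, hA, hAadj, hT, hd2, hs2, hds⟩ | ⟨-, hplus⟩ |
    ⟨N, k, S, hNI, hspan, hk, hSN, hSnorm, hSZ, hcomm, hsup, -⟩ | ⟨F₁, r, P', ζ, hrp, hcF, hζ, hrat, hHeq⟩ |
    hres
  · exact absurd (plus_of_decomp8 Q hQ t k D htk ht2 hOD) hminus
  · exact absurd hplus hminus
  · have hr2 : r = 2 := by
      have : r ∣ 2 ^ 3 := by simpa using hr8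
      exact (Nat.prime_dvd_prime_iff_eq hr Nat.prime_two).mp (hr.dvd_of_dvd_pow this)
    subst hr2
    exact Or.inr (Or.inr (Or.inr (Or.inr (Or.inr (Or.inr (Or.inl ⟨K, hK, hHeq⟩))))))
  · exfalso
    have hHI : H ≤ isometryGroup F Q := hH.1.le.trans (omegaGL_le Q)
    have hdvd : d ∣ 2 ^ 3 := ⟨s, by omega⟩
    obtain ⟨a, ha, rfl⟩ := (Nat.dvd_prime_pow Nat.prime_two).mp hdvd
    have hdvd' : s ∣ 2 ^ 3 := ⟨2 ^ a, by rw [mul_comm]; omega⟩
    obtain ⟨b, hb, rfl⟩ := (Nat.dvd_prime_pow Nat.prime_two).mp hdvd'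
    have ha0 : a ≠ 0 := by rintro rfl; omega
    have hb0 : b ≠ 0 := by rintro rfl; omega
    exact hminus (EV8 Q hQ H hHI hirr (spanAlg N) hA hAadj _ _ e P hT
      (Nat.even_pow.mpr ⟨even_two, ha0⟩) (Nat.even_pow.mpr ⟨even_two, hb0⟩) (by positivity) (by positivity))
  · exact absurd (hplus (by decide)) hminus
  · exact absurd (tensor_power_plus Q hQ N hNI hspan k hk S hSN hSnorm hSZ hcomm hsup) hminus
  · rcases hrp.eq_two_or_odd' with h2 | hodd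
    · subst h2
      exfalso
      exact hminus (Cfsg.Agent.Lib.Helper35_OrthEven_EV10.EV10 Q hQ (by rw [hcard]; decide) F₁ hcF P' ζ hζ hrat)
    · exact Or.inr (Or.inr (Or.inr (Or.inr (Or.inr (Or.inr (Or.inr (Or.inl
        ⟨F₁, r, P', ζ, hrp, hodd, hcF, hζ, hrat, hHeq⟩)))))))
  · exact Or.inr (Or.inr (Or.inr (Or.inr (Or.inr (Or.inr (Or.inr (Or.inr hres)))))))

end Cfsg.Agent.Lib.Helper22_OrthEven_Row8
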