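import Mathlib
import Cfsg.Agent.Lib.Helper40_OModel
import Cfsg.Agent.Lib.Helper40_OTransport
import Cfsg.Agent.Lib.Helper40_SpPrimeOrder
import Cfsg.Agent.Lib.Helper44_StdForms
import Cfsg.Agent.Lib.Helper14_POmegaSimple

set_option autoImplicit false

/-!
Even-dimensional orthogonal models for palindromic polynomials with factors dividing `X ^ r - 1`,
and the count of such polynomials (helper40).
-/

namespace Cfsg.Agent.Lib.Helper40_OEvenModel

open Polynomial Module Cfsg.Agent.Lib.Helper40_Palindromic Cfsg.Agent.Lib.Helper40_SpPrimeOrder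
  Cfsg.Agent.Lib.Helper40_PrimeOrderClasses Cfsg.Agent.Lib.Helper44_StdForms
  Cfsg.Agent.Lib.Helper40_OModel Cfsg.Agent.Lib.Helper40_OTransport

universe v

variable {F : Type v} [Field F]

/-- monic palindromic polynomials of degree `2 k` whose irreducible factors divide `X ^ r - 1` -/
def Pal (r k : ℕ) (c : F[X]) : Prop :=
  c.Monic ∧ c.natDegree = 2 * k ∧ c.reverse = c ∧ ∀ f, Irreducible f → f ∣ c → f ∣ X ^ r - 1

theorem pal_mul (r k : ℕ) (hr : r.Prime) (c : F[X]) (h : Pal r k c) :
    Pal r (k + 1) ((X - 1) ^ 2 * c) := by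
  obtain ⟨hm, hd, hrev, hf⟩ := h
  have hm2 : (((X : F[X]) - 1) ^ 2).Monic := X_sub_one_props.1.pow 2
  refine ⟨hm2.mul hm, ?_, ?_, ?_⟩
  · rw [hm2.natDegree_mul hm, X_sub_one_props.1.natDegree_pow, natDegree_X_sub_one, hd]
    ring
  · rw [reverse_mul_of_domain, reverse_X_sub_one_pow 2 even_two, hrev]
  · intro f hfi hfd
    rcases hfi.prime.dvd_or_dvd hfd with h1 | h1
    · exact (hfi.prime.dvd_of_dvd_pow h1).trans (X_sub_one_dvd r hr)
    · exact hf f hfi h1

theorem pal_div (r k : ℕ) (c : F[X]) (h : Pal r k c) (hdvd : ((X : F[X]) - 1) ∣ c) :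
    ∃ c' : F[X], c = (X - 1) ^ 2 * c' ∧ Pal r (k - 1) c' ∧ 1 ≤ k := by
  obtain ⟨hm, hd, hrev, hf⟩ := h
  have hm2 : (((X : F[X]) - 1) ^ 2).Monic := X_sub_one_props.1.pow 2
  have hX1 : ((X : F[X]) - 1) = X - C 1 := by rw [map_one]
  have h2 : ((X : F[X]) - 1) ^ 2 ∣ c := by
    rw [hX1] at hdvd ⊢
    exact sq_dvd_of_reverse_eq c hrev k hd 1 (one_mul 1) hdvd
  obtain ⟨c', hc'⟩ := h2
  have hc'm : c'.Monic := by
    rw [hc'] at hm
    exact hm2.of_mul_monic_left hm
  have hdeg : c.natDegree = 2 + c'.natDegree := by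
    rw [hc', hm2.natDegree_mul hc'm, X_sub_one_props.1.natDegree_pow, natDegree_X_sub_one]
  refine ⟨c', hc', ⟨hc'm, by omega, ?_, ?_⟩, by omega⟩
  · rw [hc', reverse_mul_of_domain, reverse_X_sub_one_pow 2 even_two] at hrev
    exact mul_left_cancel₀ hm2.ne_zero hrev
  · intro f hfi hfd
    exact hf f hfi (hfd.trans ⟨(X - 1) ^ 2, by rw [hc', mul_comm]⟩)

/-- an even-dimensional nondegenerate quadratic space with an isometry `a`, `a ^ r = 1`, of
characteristic polynomial `c` -/
def HasOModel (r k : ℕ) (c : F[X]) : Prop :=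
  ∃ (V : Type v) (_ : AddCommGroup V) (_ : Module F V) (_ : Module.Finite F V)
    (Q : QuadraticForm F V) (a : Module.End F V),
    (QuadraticMap.polarBilin Q).Nondegenerate ∧ (∀ x, Q (a x) = Q x) ∧ a ^ r = 1 ∧
      a.charpoly = c ∧ finrank F V = 2 * k

/-- adding a hyperbolic plane on which the isometry is trivial -/
theorem HasOModel.add_plane {r k : ℕ} {c : F[X]} (h : HasOModel r k c)
    (P : QuadraticForm F (Fin 1 ⊕ Fin 1 → F)) (hP : (QuadraticMap.polarBilin P).Nondegenerate) :
    HasOModel r (k + 1) ((X - 1) ^ 2 * c) := by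
  obtain ⟨V, _, _, _, Q, a, hQ, hiso, hpow, hch, hdim⟩ := h
  refine ⟨V × (Fin 1 ⊕ Fin 1 → F), inferInstance, inferInstance, inferInstance, Q.prod P,
    LinearMap.prodMap a 1, nondegenerate_prod Q P hQ hP, ?_, ?_, ?_, ?_⟩
  · intro x
    show (Q.prod P) (a x.1, x.2) = (Q.prod P) x
    rw [QuadraticMap.prod_apply, QuadraticMap.prod_apply, hiso]
  · rw [prodMap_pow, hpow, one_pow]
    exact LinearMap.prodMap_one
  · rw [LinearMap.charpoly_prodMap, LinearMap.charpoly_one, hch,
      Module.finrank_fintype_fun_eq_card, Fintype.card_sum, Fintype.card_fin]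
    ring
  · rw [Module.finrank_prod, hdim, Module.finrank_fintype_fun_eq_card, Fintype.card_sum,
      Fintype.card_fin]
    ring

/-- every palindromic polynomial with factors dividing `X ^ r - 1` has an orthogonal model -/
theorem exists_even_model (r : ℕ) (hodd : Odd r) (hne : (r : F) ≠ 0) (k : ℕ) :
    ∀ c : F[X], Pal r k c → HasOModel r k c := by
  induction k using Nat.strong_induction_on with
  | _ k ih =>
  intro c hc
  by_cases hdvd : ((X : F[X]) - 1) ∣ c
  · obtain ⟨c', hc', hpal', hk⟩ := pal_div r k c hc hdvd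
    have h1 := ih (k - 1) (by omega) c' hpal'
    have h2 := h1.add_plane (qfPlus 1 F)
      (Cfsg.Agent.Lib.Helper14_POmegaSimple.nondegenerate_qfPlus 1)
    rw [Nat.sub_add_cancel hk, ← hc'] at h2
    exact h2
  · obtain ⟨hm, hd, hrev, hf⟩ := hc
    obtain ⟨W, _, _, _, Q, a, j, hQ, hiso, hpow, hch, hdim⟩ :=
      exists_o_model r hodd hne k c hm hd hrev hf
    have hj : j = 0 := by
      by_contra hj0
      apply hdvd
      rw [hch]
      exact dvd_mul_of_dvd_left (dvd_pow_self _ hj0) _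
    subst hj
    rw [pow_zero, one_mul] at hch
    exact ⟨W, inferInstance, inferInstance, inferInstance, Q, a, hQ, hiso, hpow, hch.symm,
      by omega⟩

/-- product with a plane on which the isometry acts trivially -/
theorem prod_model {V U : Type v} [AddCommGroup V] [Module F V] [Module.Finite F V]
    [AddCommGroup U] [Module F U] [Module.Finite F U] (hU : finrank F U = 2)
    (Q : QuadraticForm F V) (P : QuadraticForm F U) (a : Module.End F V) (r : ℕ)
    (hiso : ∀ x, Q (a x) = Q x) (hpow : a ^ r = 1) :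
    (∀ x, (Q.prod P) ((LinearMap.prodMap a (1 : Module.End F U)) x) = (Q.prod P) x) ∧
      (LinearMap.prodMap a (1 : Module.End F U) : Module.End F (V × U)) ^ r = 1 ∧
      (LinearMap.prodMap a (1 : Module.End F U)).charpoly = (X - 1) ^ 2 * a.charpoly := by
  refine ⟨?_, ?_, ?_⟩
  · intro x
    show (Q.prod P) (a x.1, x.2) = (Q.prod P) x
    rw [QuadraticMap.prod_apply, QuadraticMap.prod_apply, hiso]
  · rw [prodMap_pow, hpow, one_pow]
    exact LinearMap.prodMap_one
  · rw [LinearMap.charpoly_prodMap, LinearMap.charpoly_one, hU]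
    ring

/-- no fixed vectors when `X - 1` does not divide the characteristic polynomial -/
theorem eq_zero_of_fixed_of_not_dvd {V : Type*} [AddCommGroup V] [Module F V] [Module.Finite F V]
    (a : Module.End F V) (hnd : ¬ ((X : F[X]) - 1) ∣ a.charpoly) (v : V) (hv : a v = v) : v = 0 := by
  by_contra hv0
  apply hnd
  have h1 : a.HasEigenvalue 1 := by
    apply Module.End.hasEigenvalue_of_hasEigenvector (x := v)
    refine ⟨?_, hv0⟩
    rw [Module.End.mem_eigenspace_iff, hv, one_smul]
  have h2 := (Module.End.hasEigenvalue_iff_isRoot_charpoly a 1).1 h1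
  have h3 := dvd_iff_isRoot.2 h2
  rwa [C_1] at h3

/-- the number of palindromic polynomials other than `(X - 1) ^ (2 m)`, divisible by `X - 1` in the
exceptional case -/
theorem card_pal_excl [Fintype F] (p : ℕ) [Fact p.Prime] [CharP F p] (m r i t : ℕ) (hm : 1 ≤ m)
    (hr : r.Prime) (hr2 : r ≠ 2) (hrp : r ≠ p)
    (hi : i = orderOf ((Fintype.card F : ℕ) : ZMod r)) (ht : t * i = r - 1) (excl : Prop) [Decidable excl] :
    Set.ncard {c : F[X] | Pal r m c ∧ c ≠ (X - 1) ^ (2 * m) ∧ (excl → ((X : F[X]) - 1) ∣ c)} =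
      (if excl then
        (if Odd i then ((m - 1) / i + t / 2).choose (t / 2) else (2 * (m - 1) / i + t).choose t)
      else
        (if Odd i then (m / i + t / 2).choose (t / 2) else (2 * m / i + t).choose t)) - 1 := by
  classical
  have hX1 : ((X : F[X]) - 1) ≠ 0 := X_sub_one_props.1.ne_zero
  have hX2 : (((X : F[X]) - 1) ^ 2) ≠ 0 := pow_ne_zero 2 hX1
  have hcard : ∀ k : ℕ, Set.ncard {c : F[X] | Pal r k c} =
      if Odd i then (k / i + t / 2).choose (t / 2) else (2 * k / i + t).choose t := by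
    intro k
    rw [← _root_.Nat.card_coe_set_eq]
    exact card_pal_polys p k r i t hr hr2 hrp hi ht
  have hmem : ∀ k : ℕ, ((X : F[X]) - 1) ^ (2 * k) ∈ {c : F[X] | Pal r k c} := by
    intro k
    refine ⟨X_sub_one_props.1.pow _, ?_, reverse_X_sub_one_pow _ ⟨k, two_mul k⟩, ?_⟩
    · rw [X_sub_one_props.1.natDegree_pow, natDegree_X_sub_one, mul_one]
    · intro f hf hfd
      exact (hf.prime.dvd_of_dvd_pow hfd).trans (X_sub_one_dvd r hr)
  by_cases hex : excl
  · rw [if_pos hex, ← hcard (m - 1), ← Set.ncard_sdiff_singleton_of_mem (hmem (m - 1)),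
      ← Set.ncard_image_of_injective ({c : F[X] | Pal r (m - 1) c} \ {(X - 1) ^ (2 * (m - 1))})
        (mul_right_injective₀ hX2)]
    congr 1
    ext c
    constructor
    · rintro ⟨hpal, hne, hd⟩
      obtain ⟨c', hc', hpal', _⟩ := pal_div r m c hpal (hd hex)
      refine ⟨c', ⟨hpal', ?_⟩, hc'.symm⟩
      rw [Set.mem_singleton_iff]
      intro h
      apply hne
      rw [hc', h, ← pow_add]
      congr 1
      omega
    · rintro ⟨c', ⟨hpal', hne'⟩, rfl⟩
      rw [Set.mem_singleton_iff] at hne'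
      have h1 := pal_mul r (m - 1) hr c' hpal'
      rw [Nat.sub_add_cancel hm] at h1
      refine ⟨h1, ?_, fun _ => dvd_mul_of_dvd_left (dvd_pow_self _ two_ne_zero) _⟩
      intro h
      apply hne'
      have h2 : ((X : F[X]) - 1) ^ (2 * m) = (X - 1) ^ 2 * (X - 1) ^ (2 * (m - 1)) := by
        rw [← pow_add]
        congr 1
        omega
      rw [h2] at h
      exact mul_left_cancel₀ hX2 h
  · rw [if_neg hex, ← hcard m, ← Set.ncard_sdiff_singleton_of_mem (hmem m)]
    congr 1
    ext c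
    constructor
    · rintro ⟨hpal, hne, _⟩
      exact ⟨hpal, hne⟩
    · rintro ⟨hpal, hne⟩
      exact ⟨hpal, hne, fun h => absurd h hex⟩

end Cfsg.Agent.Lib.Helper40_OEvenModel
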