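import Mathlib
import Cfsg.Agent.Lib.Helper40_QuadIso
import Cfsg.Agent.Lib.Helper40_OConj
import Cfsg.Agent.Lib.Helper40_SpPrimeOrder

set_option autoImplicit false

/-!
Fixed-point-free isometries of odd prime order `r` when `q` has odd order mod `r`: the space is the
sum of two totally singular invariant subspaces (helper40).
-/

namespace Cfsg.Agent.Lib.Helper40_OHypOdd

open Polynomial Module Cfsg.Agent.Lib.Helper40_QuadIso Cfsg.Agent.Lib.Helper40_Palindromic
  Cfsg.Agent.Lib.Helper40_SpExist Cfsg.Agent.Lib.Helper40_PolyFactors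
  Cfsg.Agent.Lib.Helper40_PrimeOrderClasses Cfsg.Agent.Lib.Helper40_SpPrimeOrder
  Cfsg.Agent.Lib.Helper40_OConj

universe v

variable {F : Type v} [Field F]

/-- if `f` divides `w (X ^ (r - 1))` and `X ^ r - 1` then `f` is the reciprocal of `w` -/
theorem eq_recip_of_dvd_expand (r : ℕ) (hr : 0 < r) (f w : F[X]) (hfm : f.Monic)
    (hfi : Irreducible f) (hwm : w.Monic) (hwi : Irreducible w) (hfd : f ∣ X ^ r - 1)
    (hfw : f ∣ expand F (r - 1) w) : f = recip w := by
  have : Fact (Irreducible f) := ⟨hfi⟩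
  have hf0 : f.coeff 0 ≠ 0 := coeff_zero_ne_zero_of_dvd r hr f hfd
  set ρ := AdjoinRoot.root f with hρdef
  have hρ0 : ρ ≠ 0 := root_ne_zero f hf0
  have hρr : ρ ^ r = 1 := by
    obtain ⟨k, hk⟩ := hfd
    have h1 : aeval ρ (X ^ r - 1 : F[X]) = 0 := by
      rw [hk, map_mul, AdjoinRoot.aeval_eq, AdjoinRoot.mk_self, zero_mul]
    rw [map_sub, map_pow, aeval_X, map_one] at h1
    exact sub_eq_zero.1 h1
  have hρinv : ρ ^ (r - 1) = ρ⁻¹ := by
    have h1 : ρ ^ (r - 1) * ρ = 1 := by rw [← pow_succ, Nat.sub_add_cancel hr, hρr]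
    exact eq_inv_of_mul_eq_one_left h1
  have hroot : aeval ρ⁻¹ w = 0 := by
    obtain ⟨k, hk⟩ := hfw
    have h1 : aeval ρ (expand F (r - 1) w) = 0 := by
      rw [hk, map_mul, AdjoinRoot.aeval_eq, AdjoinRoot.mk_self, zero_mul]
    rwa [expand_aeval, hρinv] at h1
  have hroot' : aeval ρ⁻¹ (recip f) = 0 := aeval_inv_root_recip f hf0
  have h1 : w = recip f :=
    (minpoly.eq_of_irreducible_of_monic hwi hroot hwm).trans
      (minpoly.eq_of_irreducible_of_monic (irreducible_recip f hfi hf0) hroot'
        (recip_monic f hf0)).symm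
  rw [h1, recip_recip f hfm hf0]

/-- for `q` of odd order mod `r` the polynomial `X ^ r - 1` is `(X - 1) ^ k * P * P'` with `P`, `P'`
coprime and each coprime to its own "adjoint" -/
theorem exists_half_polys [Fintype F] (p : ℕ) [Fact p.Prime] [CharP F p] (r : ℕ) (hr : r.Prime)
    (hr2 : r ≠ 2) (hrp : r ≠ p) (hodd : Odd (orderOf ((Fintype.card F : ℕ) : ZMod r))) :
    ∃ (P P' : F[X]) (k : ℕ), (X - 1) ^ k * (P * P') = X ^ r - 1 ∧ IsCoprime P P' ∧
      IsCoprime P (expand F (r - 1) P) ∧ IsCoprime P' (expand F (r - 1) P') := by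
  classical
  obtain ⟨hipos, W, hWcard, hW, hWall⟩ := exists_cyclotomic_factors (F := F) p r hr hrp
  have hl := X_sub_one_props (F := F)
  have hW' : ∀ w ∈ W, w.Monic ∧ Irreducible w ∧ w ≠ X - 1 :=
    fun w hw => ⟨(hW w hw).1, (hW w hw).2.1, (hW w hw).2.2.1⟩
  have hrodd : Odd r := hr.odd_of_ne_two hr2
  have hw0 : ∀ w ∈ W, w.coeff 0 ≠ 0 :=
    fun w hw => coeff_zero_ne_zero_of_dvd r hr.pos w (hW w hw).2.2.2.1
  have hmemσ : ∀ w ∈ W, recip w ∈ W := by
    intro w hw
    obtain ⟨hwm, hwi, hw1, hwd, _⟩ := hW w hw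
    have h0 := hw0 w hw
    have hd : recip w ∣ X ^ r - 1 := by
      have := recip_dvd hwd
      rwa [recip_X_pow_sub_one r hr.pos] at this
    rcases hWall (recip w) (recip_monic w h0) (irreducible_recip w hwi h0) hd with h | h
    · exfalso
      apply hw1
      rw [← recip_recip w hwm h0, h, recip_X_sub_one]
    · exact h
  have hinvσ : ∀ w ∈ W, recip (recip w) = w :=
    fun w hw => recip_recip w (hW w hw).1 (hw0 w hw)
  have hfixσ : ∀ w ∈ W, recip w ≠ w := fun w hw =>
    recip_ne_of_odd r hrodd w (hW w hw).1 (hW w hw).2.1 (hw0 w hw) (hW w hw).2.2.1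
      (hW w hw).2.2.2.1 (by rw [(hW w hw).2.2.2.2]; exact hodd)
  obtain ⟨W₀, hsub, hdisj, hunion⟩ := exists_transversal recip W.card W rfl hmemσ hinvσ hfixσ
  have hXm : ((X : F[X]) ^ r - 1).Monic := by
    have := monic_X_pow_sub_C (1 : F) hr.ne_zero
    rwa [C_1] at this
  have hXd : ((X : F[X]) ^ r - 1).natDegree = r := by
    have := natDegree_X_pow_sub_C (R := F) (n := r) (r := 1)
    rwa [C_1] at this
  obtain ⟨k, b, hkb⟩ := psi_surj W (X - 1) hl hW' r (X ^ r - 1) hXm hXd
    (fun f hfm hfi hfd => hWall f hfm hfi hfd)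
  let tP : ↥W → F[X] := fun w => if (w : F[X]) ∈ W₀ then (w : F[X]) ^ b w else 1
  let tP' : ↥W → F[X] := fun w => if (w : F[X]) ∈ W₀ then 1 else (w : F[X]) ^ b w
  have htP_pos : ∀ w : ↥W, (w : F[X]) ∈ W₀ → tP w = (w : F[X]) ^ b w := fun w h => if_pos h
  have htP_neg : ∀ w : ↥W, (w : F[X]) ∉ W₀ → tP w = 1 := fun w h => if_neg h
  have htP'_pos : ∀ w : ↥W, (w : F[X]) ∈ W₀ → tP' w = 1 := fun w h => if_pos h
  have htP'_neg : ∀ w : ↥W, (w : F[X]) ∉ W₀ → tP' w = (w : F[X]) ^ b w := fun w h => if_neg h
  -- the key non-divisibility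
  have hkey : ∀ w w' : ↥W, (w : F[X]) ≠ recip (w' : F[X]) →
      IsCoprime (w : F[X]) (expand F (r - 1) (w' : F[X])) := by
    intro w w' hne
    rw [Irreducible.coprime_iff_not_dvd (hW w w.2).2.1]
    intro hd
    obtain ⟨hwm, hwi, _, hwd, _⟩ := hW (w : F[X]) w.2
    obtain ⟨hwm', hwi', _, _, _⟩ := hW (w' : F[X]) w'.2
    exact hne (eq_recip_of_dvd_expand r hr.pos (w : F[X]) (w' : F[X]) hwm hwi hwm' hwi' hwd hd)
  have hnot : ∀ w : ↥W, (w : F[X]) ∉ W₀ → recip (w : F[X]) ∈ W₀ := by
    intro w hw
    have h1 : (w : F[X]) ∈ W₀ ∪ W₀.image recip := by rw [hunion]; exact w.2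
    rcases Finset.mem_union.1 h1 with h | h
    · exact absurd h hw
    · obtain ⟨v, hv, hvw⟩ := Finset.mem_image.1 h
      rw [← hvw, hinvσ v (hsub hv)]
      exact hv
  refine ⟨∏ w : ↥W, tP w, ∏ w : ↥W, tP' w, k, ?_, ?_, ?_, ?_⟩
  · rw [hkb]
    unfold psi
    congr 1
    rw [← Finset.prod_mul_distrib]
    apply Finset.prod_congr rfl
    intro w _
    by_cases h : (w : F[X]) ∈ W₀
    · rw [htP_pos w h, htP'_pos w h, mul_one]
    · rw [htP_neg w h, htP'_neg w h, one_mul]
  · apply IsCoprime.prod_left
    intro w _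
    apply IsCoprime.prod_right
    intro w' _
    by_cases h : (w : F[X]) ∈ W₀
    · by_cases h' : (w' : F[X]) ∈ W₀
      · rw [htP'_pos w' h']
        exact isCoprime_one_right
      · rw [htP_pos w h, htP'_neg w' h']
        apply IsCoprime.pow
        apply isCoprime_of_monic_irreducible_ne (hW w w.2).2.1 (hW w w.2).1 (hW w' w'.2).2.1
          (hW w' w'.2).1
        intro heq
        rw [heq] at h
        exact h' h
    · rw [htP_neg w h]
      exact isCoprime_one_left
  · rw [map_prod]
    apply IsCoprime.prod_left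
    intro w _
    apply IsCoprime.prod_right
    intro w' _
    by_cases h : (w : F[X]) ∈ W₀
    · by_cases h' : (w' : F[X]) ∈ W₀
      · rw [htP_pos w h, htP_pos w' h', map_pow]
        apply IsCoprime.pow
        apply hkey
        intro heq
        exact (Finset.disjoint_left.1 hdisj) h (by rw [heq]; exact Finset.mem_image_of_mem recip h')
      · rw [htP_neg w' h', map_one]
        exact isCoprime_one_right
    · rw [htP_neg w h]
      exact isCoprime_one_left
  · rw [map_prod]
    apply IsCoprime.prod_left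
    intro w _
    apply IsCoprime.prod_right
    intro w' _
    by_cases h : (w : F[X]) ∈ W₀
    · rw [htP'_pos w h]
      exact isCoprime_one_left
    · by_cases h' : (w' : F[X]) ∈ W₀
      · rw [htP'_pos w' h', map_one]
        exact isCoprime_one_right
      · rw [htP'_neg w h, htP'_neg w' h', map_pow]
        apply IsCoprime.pow
        apply hkey
        intro heq
        apply h
        rw [heq]
        exact hnot w' h'

section linalg

variable {V : Type v} [AddCommGroup V] [Module F V] {Q : QuadraticForm F V}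
  {a : Module.End F V} {N : ℕ}

theorem odata_adj_pow (h : OData Q a N) (k : ℕ) (x y : V) :
    pol Q ((a ^ k) x) y = pol Q x (((a ^ (N - 1)) ^ k) y) := by
  induction k generalizing x y with
  | zero => simp
  | succ k ih =>
    rw [pow_succ, Module.End.mul_apply, ih, h.adj, pow_succ', Module.End.mul_apply]

/-- the adjoint of a polynomial in `a` with respect to the polar form -/
theorem odata_adj (h : OData Q a N) (p : F[X]) (x y : V) :
    pol Q (aeval a p x) y = pol Q x (aeval (a ^ (N - 1)) p y) := by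
  induction p using Polynomial.induction_on' with
  | add p q hp hq =>
    rw [map_add, map_add, LinearMap.add_apply, LinearMap.add_apply, map_add,
      LinearMap.add_apply, map_add, hp, hq]
  | monomial n c =>
    rw [← C_mul_X_pow_eq_monomial, map_mul, map_mul, aeval_C, aeval_C, map_pow, map_pow,
      aeval_X, aeval_X, Module.End.mul_apply, Module.End.mul_apply, Module.algebraMap_end_apply,
      Module.algebraMap_end_apply, map_smul, LinearMap.smul_apply, map_smul, odata_adj_pow h]

/-- the kernel of `P(a)` is totally singular when `P` is coprime to its adjoint and `a` has no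
fixed vectors -/
theorem ts_ker [FiniteDimensional F V] (h : OData Q a N) (hfix : ∀ v, a v = v → v = 0) (P : F[X])
    (hP : IsCoprime P (expand F (N - 1) P)) :
    ∀ x ∈ LinearMap.ker (aeval a P), Q x = 0 := by
  set U : Submodule F V := LinearMap.ker (aeval a P) with hU
  have horth : ∀ x ∈ U, ∀ y ∈ U, pol Q x y = 0 := by
    intro x hx y hy
    rw [hU, LinearMap.mem_ker] at hx hy
    obtain ⟨u, v, huv⟩ := hP
    have h1 : y = aeval (a ^ (N - 1)) P (aeval a v y) := by
      have h2 : aeval a (u * P + v * expand F (N - 1) P) y = y := by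
        rw [huv, map_one, Module.End.one_apply]
      rw [map_add, LinearMap.add_apply, map_mul, Module.End.mul_apply, hy, map_zero, zero_add,
        mul_comm, map_mul, Module.End.mul_apply, expand_aeval] at h2
      exact h2.symm
    rw [h1, ← odata_adj h, hx, map_zero, LinearMap.zero_apply]
  have hcomm : ∀ x, aeval a P (a x) = a (aeval a P x) := by
    intro x
    have h1 : aeval a P * a = a * aeval a P := by
      calc aeval a P * a = aeval a P * aeval a (X : F[X]) := by rw [aeval_X]
        _ = aeval a (P * X) := (map_mul _ _ _).symm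
        _ = aeval a (X * P) := by rw [mul_comm]
        _ = aeval a (X : F[X]) * aeval a P := map_mul _ _ _
        _ = a * aeval a P := by rw [aeval_X]
    rw [← Module.End.mul_apply, h1, Module.End.mul_apply]
  have hinv : ∀ x ∈ U, (a - 1) x ∈ U := by
    intro x hx
    rw [hU, LinearMap.mem_ker] at hx ⊢
    rw [LinearMap.sub_apply, Module.End.one_apply, map_sub, hcomm, hx, map_zero, sub_zero]
  have hinj : Function.Injective ((a - 1).restrict hinv) := by
    rw [← LinearMap.ker_eq_bot, LinearMap.ker_eq_bot']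
    intro x hx
    apply Subtype.ext
    have h1 : (a - 1) (x : V) = 0 := congrArg Subtype.val hx
    rw [LinearMap.sub_apply, Module.End.one_apply, sub_eq_zero] at h1
    exact hfix _ h1
  intro x hx
  obtain ⟨u, hu⟩ := LinearMap.surjective_of_injective hinj ⟨x, hx⟩
  have hu' : (a - 1) (u : V) = x := congrArg Subtype.val hu
  rw [← hu', h.Q_comm, hu', horth x hx u u.2, neg_zero]

/-- a fixed-point-free isometry killed by `P * P'` with `P`, `P'` coprime and each coprime to its
adjoint: the space has a totally singular subspace of half the dimension -/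
theorem isHyp_of_polys [FiniteDimensional F V] (h : OData Q a N) (hfix : ∀ v, a v = v → v = 0)
    (P P' : F[X]) (k : ℕ) (hPP' : (X - 1) ^ k * (P * P') = X ^ N - 1) (hcop : IsCoprime P P')
    (h1 : IsCoprime P (expand F (N - 1) P)) (h2 : IsCoprime P' (expand F (N - 1) P')) :
    IsHyp Q := by
  have hinj : Function.Injective ⇑(a - 1 : Module.End F V) := by
    rw [← LinearMap.ker_eq_bot, LinearMap.ker_eq_bot']
    intro x hx
    rw [LinearMap.sub_apply, Module.End.one_apply, sub_eq_zero] at hx
    exact hfix _ hx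
  have hinjk : Function.Injective ⇑((a - 1 : Module.End F V) ^ k) := by
    rw [Module.End.coe_pow]
    exact hinj.iterate k
  have hzero : aeval a (P * P') = 0 := by
    have h3 : aeval a ((X - 1) ^ k * (P * P')) = 0 := by
      rw [hPP', map_sub, map_pow, aeval_X, map_one, h.pow, sub_self]
    rw [map_mul, map_pow, map_sub, aeval_X, map_one] at h3
    apply LinearMap.ext
    intro v
    apply hinjk
    rw [← Module.End.mul_apply, h3, LinearMap.zero_apply]
    exact (map_zero _).symm
  have hsup : LinearMap.ker (aeval a P) ⊔ LinearMap.ker (aeval a P') = ⊤ := by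
    rw [Polynomial.sup_ker_aeval_eq_ker_aeval_mul_of_coprime a hcop, hzero, LinearMap.ker_zero]
  have hfr := Submodule.finrank_sup_add_finrank_inf_eq (LinearMap.ker (aeval a P))
    (LinearMap.ker (aeval a P'))
  rw [hsup, finrank_top] at hfr
  by_cases hc : finrank F V ≤ 2 * finrank F (LinearMap.ker (aeval a P))
  · exact ⟨_, ts_ker h hfix P h1, hc⟩
  · refine ⟨_, ts_ker h hfix P' h2, ?_⟩
    omega

end linalg

end Cfsg.Agent.Lib.Helper40_OHypOdd
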