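import Mathlib
import Cfsg.Agent.Lib.Helper40_OClasses
import Cfsg.Agent.Lib.Helper40_OEvenModel
import Cfsg.Agent.Lib.Helper40_QuadStd
import Cfsg.Agent.Lib.Helper40_OFixedFree
import Cfsg.Agent.Lib.Helper40_OHypOdd

set_option autoImplicit false

/-!
Classes of elements of odd prime order `r ≠ p` in the even-dimensional orthogonal groups
`O⁺_{2m}(q)` and `O⁻_{2m}(q)` (helper40).
-/

namespace Cfsg.Agent.Lib.Helper40_OEven

open Polynomial Module Matrix Cfsg.Agent.Lib.Helper44_WittMat Cfsg.Agent.Lib.Helper40_OClasses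
  Cfsg.Agent.Lib.Helper44_StdForms Cfsg.Agent.Lib.Helper40_OTransport
  Cfsg.Agent.Lib.Helper40_OEvenModel Cfsg.Agent.Lib.Helper40_SpPrimeOrder
  Cfsg.Agent.Lib.Helper40_PrimeOrderClasses Cfsg.Agent.Lib.Helper40_QuadIso
  Cfsg.Agent.Lib.Helper40_QuadStd Cfsg.Agent.Lib.Helper40_OFixedFree
  Cfsg.Agent.Lib.Helper40_OHypOdd Cfsg.Agent.Lib.Helper40_OConj

universe v

variable {F : Type v} [Field F]

/-- the generic count: classes of elements of odd prime order are counted by the palindromic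
polynomials that are realized -/
theorem card_classes_of [Fintype F] (p : ℕ) [Fact p.Prime] [CharP F p] {ι : Type} [Fintype ι]
    [DecidableEq ι] (Q₀ : QuadraticForm F (ι → F))
    (hQ₀ : (QuadraticMap.polarBilin Q₀).Nondegenerate) (m : ℕ) (hι : Fintype.card ι = 2 * m)
    (r : ℕ) (hr : r.Prime) (hr2 : r ≠ 2) (hrp : r ≠ p) (excl : Prop)
    (hreal : ∀ c : F[X], Pal r m c → (excl → ((X : F[X]) - 1) ∣ c) →
      ∃ g : ↥(Cfsg.isometryGroup F ⇑Q₀), g ^ r = 1 ∧ (mat Q₀ g).charpoly = c)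
    (hexcl : excl → ∀ g : ↥(Cfsg.isometryGroup F ⇑Q₀), orderOf g = r →
      ((X : F[X]) - 1) ∣ (mat Q₀ g).charpoly) :
    Nat.card {C : ConjClasses ↥(Cfsg.isometryGroup F ⇑Q₀) //
      ∃ g : ↥(Cfsg.isometryGroup F ⇑Q₀), ConjClasses.mk g = C ∧ orderOf g = r} =
      Set.ncard {c : F[X] | Pal r m c ∧ c ≠ (X - 1) ^ (2 * m) ∧ (excl → ((X : F[X]) - 1) ∣ c)} := by
  classical
  have hp : p.Prime := Fact.out
  have hrodd : Odd r := hr.odd_of_ne_two hr2
  have hrF : (r : F) ≠ 0 := by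
    rw [Ne, CharP.cast_eq_zero_iff F p]
    intro hdvd
    exact hrp ((Nat.prime_dvd_prime_iff_eq hp hr).1 hdvd).symm
  have hone : (mat Q₀ 1).charpoly = ((X : F[X]) - 1) ^ (2 * m) := by
    rw [mat_one, Matrix.charpoly_one, hι]
  rw [card_classes p Q₀ hQ₀ r hr hr2 hrp, _root_.Nat.card_coe_set_eq]
  congr 1
  ext c
  constructor
  · rintro ⟨g, hg, rfl⟩
    have hgr : g ^ r = 1 := by
      rw [← hg]
      exact pow_orderOf_eq_one g
    have hMr : mat Q₀ g ^ r = 1 := (mat_pow_eq_one_iff Q₀ g r).2 hgr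
    have hrev := charpoly_reverse Q₀ hQ₀ g r hgr hrodd
    rw [hι, Even.neg_one_pow ⟨m, two_mul m⟩, one_mul] at hrev
    refine ⟨⟨Matrix.charpoly_monic _, ?_, hrev, ?_⟩, ?_, fun hex => hexcl hex g hg⟩
    · rw [Matrix.charpoly_natDegree_eq_dim, hι]
    · intro f hf hfd
      apply dvd_of_irreducible_of_dvd_charpoly' (mat Q₀ g) (X ^ r - 1) _ f hf hfd
      rw [map_sub, map_pow, aeval_X, map_one, hMr, sub_self]
    · intro hc1
      have hconj : IsConj g 1 := by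
        apply isConj_of_charpoly_eq Q₀ hQ₀ g 1 r hgr (one_pow r) hrodd hrF
        rw [hone, hc1]
      have hg1 : g = 1 := by
        obtain ⟨d, hd⟩ := isConj_iff.1 hconj.symm
        rw [← hd, mul_one, mul_inv_cancel]
      rw [hg1, orderOf_one] at hg
      exact hr.one_lt.ne hg
  · rintro ⟨hpal, hne, hex⟩
    obtain ⟨g, hgr, hgc⟩ := hreal c hpal hex
    refine ⟨g, ?_, hgc⟩
    rcases (Nat.dvd_prime hr).1 (orderOf_dvd_of_pow_eq_one hgr) with h1 | h1
    · exfalso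
      apply hne
      have hg1 : g = 1 := orderOf_eq_one_iff.1 h1
      rw [← hgc, hg1, hone]
    · exact h1

section transport

variable {ι : Type} [Fintype ι] [DecidableEq ι]

/-- transport along an isometry to a standard form -/
theorem exists_of_iso {V : Type v} [AddCommGroup V] [Module F V] [Module.Finite F V]
    (Q₀ : QuadraticForm F (ι → F)) (Q : QuadraticForm F V) (h : Iso Q Q₀) (a : Module.End F V)
    (hiso : ∀ x, Q (a x) = Q x) (r : ℕ) (hr : 0 < r) (hpow : a ^ r = 1) :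
    ∃ g : ↥(Cfsg.isometryGroup F ⇑Q₀), g ^ r = 1 ∧ (mat Q₀ g).charpoly = a.charpoly := by
  obtain ⟨φ, hφ⟩ := h
  exact exists_of_simil Q₀ Q φ 1 one_ne_zero (fun v => by rw [hφ, one_mul]) a hiso r hr hpow

end transport

/-- realization in both types when `X - 1` divides `c` -/
theorem real_of_dvd [Fintype F] (m : ℕ) (hm : 1 ≤ m) (r : ℕ) (hodd : Odd r)
    (hne : (r : F) ≠ 0) (c : F[X]) (hpal : Pal r m c) (hdvd : ((X : F[X]) - 1) ∣ c) (a₀ c₀ : F)
    (hac : ∀ z₁ z₂ : F, z₁ ^ 2 + a₀ * z₁ * z₂ + c₀ * z₂ ^ 2 = 0 → z₁ = 0 ∧ z₂ = 0) :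
    (∃ g : ↥(Cfsg.isometryGroup F ⇑(qfPlus m F)),
        g ^ r = 1 ∧ (mat (qfPlus m F) g).charpoly = c) ∧
      (∃ g : ↥(Cfsg.isometryGroup F ⇑(qfMinus (m - 1) F a₀ c₀)),
        g ^ r = 1 ∧ (mat (qfMinus (m - 1) F a₀ c₀) g).charpoly = c) := by
  obtain ⟨c', hc', hpal', _⟩ := pal_div r m c hpal hdvd
  obtain ⟨V₀, _, _, _, Q₀, a, hQ₀, hiso, hpow, hch, hdim⟩ :=
    exists_even_model r hodd hne (m - 1) c' hpal'
  have hUP : finrank F (Fin 1 ⊕ Fin 1 → F) = 2 := by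
    rw [Module.finrank_fintype_fun_eq_card, Fintype.card_sum, Fintype.card_fin]
  have hUM : finrank F ((Fin 0 ⊕ Fin 0) ⊕ Fin 2 → F) = 2 := by
    rw [Module.finrank_fintype_fun_eq_card, Fintype.card_sum, Fintype.card_sum, Fintype.card_fin,
      Fintype.card_fin]
  obtain ⟨hP1, hP2, hP3⟩ := prod_model hUP Q₀ (qfPlus 1 F) a r hiso hpow
  obtain ⟨hM1, hM2, hM3⟩ := prod_model hUM Q₀ (qfMinus 0 F a₀ c₀) a r hiso hpow
  rw [hch, ← hc'] at hP3 hM3
  rcases two_types m hm hdim Q₀ hQ₀ a₀ c₀ hac with ⟨h1, h2⟩ | ⟨h1, h2⟩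
  · constructor
    · obtain ⟨g, hg1, hg2⟩ := exists_of_iso (qfPlus m F) _ h1 _ hP1 r hodd.pos hP2
      exact ⟨g, hg1, by rw [hg2, hP3]⟩
    · obtain ⟨g, hg1, hg2⟩ := exists_of_iso (qfMinus (m - 1) F a₀ c₀) _ h2 _ hM1 r hodd.pos hM2
      exact ⟨g, hg1, by rw [hg2, hM3]⟩
  · constructor
    · obtain ⟨g, hg1, hg2⟩ := exists_of_iso (qfPlus m F) _ h2 _ hM1 r hodd.pos hM2
      exact ⟨g, hg1, by rw [hg2, hM3]⟩
    · obtain ⟨g, hg1, hg2⟩ := exists_of_iso (qfMinus (m - 1) F a₀ c₀) _ h1 _ hP1 r hodd.pos hP2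
      exact ⟨g, hg1, by rw [hg2, hP3]⟩

/-- realization in one of the types when `X - 1` does not divide `c` -/
theorem real_of_not_dvd [Fintype F] (m : ℕ) (hm : 1 ≤ m) (r : ℕ) (hodd : Odd r)
    (hne : (r : F) ≠ 0) (c : F[X]) (hpal : Pal r m c) (a₀ c₀ : F)
    (hac : ∀ z₁ z₂ : F, z₁ ^ 2 + a₀ * z₁ * z₂ + c₀ * z₂ ^ 2 = 0 → z₁ = 0 ∧ z₂ = 0) :
    (∃ g : ↥(Cfsg.isometryGroup F ⇑(qfPlus m F)),
        g ^ r = 1 ∧ (mat (qfPlus m F) g).charpoly = c) ∨
      (∃ g : ↥(Cfsg.isometryGroup F ⇑(qfMinus (m - 1) F a₀ c₀)),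
        g ^ r = 1 ∧ (mat (qfMinus (m - 1) F a₀ c₀) g).charpoly = c) := by
  obtain ⟨V, _, _, _, Q, a, hQ, hiso, hpow, hch, hdim⟩ := exists_even_model r hodd hne m c hpal
  rcases iso_plus_or_minus m hm hdim Q hQ a₀ c₀ hac with h | h
  · left
    obtain ⟨g, hg1, hg2⟩ := exists_of_iso (qfPlus m F) Q h a hiso r hodd.pos hpow
    exact ⟨g, hg1, by rw [hg2, hch]⟩
  · right
    obtain ⟨g, hg1, hg2⟩ := exists_of_iso (qfMinus (m - 1) F a₀ c₀) Q h a hiso r hodd.pos hpow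
    exact ⟨g, hg1, by rw [hg2, hch]⟩

/-- exclusion in the plus type: a fixed-point-free element of order `r` forces `i ∣ m` -/
theorem plus_excl [Fintype F] (p : ℕ) [Fact p.Prime] [CharP F p] (m : ℕ) (hm : 1 ≤ m) (r : ℕ)
    (hr : r.Prime) (hr2 : r ≠ 2) (hrp : r ≠ p)
    (g : ↥(Cfsg.isometryGroup F ⇑(qfPlus m F))) (hg : g ^ r = 1)
    (hnd : ¬ ((X : F[X]) - 1) ∣ (mat (qfPlus m F) g).charpoly) :
    orderOf ((Fintype.card F : ℕ) : ZMod r) ∣ 2 * m ∧
      (orderOf ((Fintype.card F : ℕ) : ZMod r) ≠ 1 →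
        orderOf ((Fintype.card F : ℕ) : ZMod r) ∣ m) := by
  have hp : p.Prime := Fact.out
  have hrF : (r : F) ≠ 0 := by
    rw [Ne, CharP.cast_eq_zero_iff F p]
    intro hdvd
    exact hrp ((Nat.prime_dvd_prime_iff_eq hp hr).1 hdvd).symm
  have hd := oData_of_mem (qfPlus m F) g r hg (hr.odd_of_ne_two hr2) hrF
  have hfix : ∀ v, Matrix.toLin' (mat (qfPlus m F) g) v = v → v = 0 :=
    eq_zero_of_fixed_of_not_dvd _ (by rwa [Matrix.charpoly_toLin'])
  constructor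
  · have := dvd_of_fixedFree r hr _ hd.pow hfix
    rwa [Fintype.card_sum, Fintype.card_fin, ← two_mul] at this
  · intro hi1
    exact plus_fixedFree m hm r hr _ hd.iso hd.pow hfix hi1

/-- exclusion in the minus type: a fixed-point-free element of order `r` forces `i` even,
`i ∣ 2 m` and `i ∤ m` -/
theorem minus_excl [Fintype F] (p : ℕ) [Fact p.Prime] [CharP F p] (m : ℕ) (hm : 1 ≤ m) (r : ℕ)
    (hr : r.Prime) (hr2 : r ≠ 2) (hrp : r ≠ p) (a₀ c₀ : F)
    (hac : ∀ z₁ z₂ : F, z₁ ^ 2 + a₀ * z₁ * z₂ + c₀ * z₂ ^ 2 = 0 → z₁ = 0 ∧ z₂ = 0)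
    (g : ↥(Cfsg.isometryGroup F ⇑(qfMinus (m - 1) F a₀ c₀))) (hg : g ^ r = 1)
    (hnd : ¬ ((X : F[X]) - 1) ∣ (mat (qfMinus (m - 1) F a₀ c₀) g).charpoly) :
    ¬ Odd (orderOf ((Fintype.card F : ℕ) : ZMod r)) ∧
      orderOf ((Fintype.card F : ℕ) : ZMod r) ∣ 2 * m ∧
      ¬ orderOf ((Fintype.card F : ℕ) : ZMod r) ∣ m := by
  have hp : p.Prime := Fact.out
  have hrF : (r : F) ≠ 0 := by
    rw [Ne, CharP.cast_eq_zero_iff F p]
    intro hdvd
    exact hrp ((Nat.prime_dvd_prime_iff_eq hp hr).1 hdvd).symm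
  have hd := oData_of_mem (qfMinus (m - 1) F a₀ c₀) g r hg (hr.odd_of_ne_two hr2) hrF
  have hfix : ∀ v, Matrix.toLin' (mat (qfMinus (m - 1) F a₀ c₀) g) v = v → v = 0 :=
    eq_zero_of_fixed_of_not_dvd _ (by rwa [Matrix.charpoly_toLin'])
  have hnodd : ¬ Odd (orderOf ((Fintype.card F : ℕ) : ZMod r)) := by
    intro hio
    obtain ⟨P, P', k, hPP', hcop, h1, h2⟩ := exists_half_polys (F := F) p r hr hr2 hrp hio
    exact not_isHyp_qfMinus (m - 1) a₀ c₀ hac (isHyp_of_polys hd hfix P P' k hPP' hcop h1 h2)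
  refine ⟨hnodd, ?_, ?_⟩
  · have := dvd_of_fixedFree r hr _ hd.pow hfix
    rw [Fintype.card_sum, Fintype.card_sum, Fintype.card_fin, Fintype.card_fin] at this
    have h2 : m - 1 + (m - 1) + 2 = 2 * m := by omega
    rwa [h2] at this
  · apply minus_fixedFree m hm r hr hr2 a₀ c₀ hac _ hd.iso hd.pow hfix
    intro h1
    apply hnodd
    rw [h1]
    exact odd_one

theorem dvd_of_even_div (i m : ℕ) (h : i ∣ 2 * m) (he : Even (2 * m / i)) : i ∣ m := by
  obtain ⟨k, hk⟩ := he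
  have h1 : 2 * m = i * (k + k) := by rw [← hk, Nat.mul_div_cancel' h]
  have h2 : 2 * m = 2 * (i * k) := by rw [h1]; ring
  exact ⟨k, Nat.eq_of_mul_eq_mul_left two_pos h2⟩

/-- classes of elements of odd prime order `r ≠ p` in `O⁺_{2m}(q)` -/
theorem card_plus_classes [Fintype F] (p : ℕ) [Fact p.Prime] [CharP F p] (m r i t : ℕ)
    (hm : 1 ≤ m) (hr : r.Prime) (hr2 : r ≠ 2) (hrp : r ≠ p)
    (hi : i = orderOf ((Fintype.card F : ℕ) : ZMod r)) (ht : t * i = r - 1) :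
    Nat.card {C : ConjClasses ↥(Cfsg.isometryGroup F ⇑(qfPlus m F)) //
      ∃ g : ↥(Cfsg.isometryGroup F ⇑(qfPlus m F)), ConjClasses.mk g = C ∧ orderOf g = r} =
      (if (¬ Odd i ∧ i ∣ 2 * m ∧ Odd (2 * m / i)) then
        (if Odd i then ((m - 1) / i + t / 2).choose (t / 2) else (2 * (m - 1) / i + t).choose t)
      else
        (if Odd i then (m / i + t / 2).choose (t / 2) else (2 * m / i + t).choose t)) - 1 := by
  classical
  have hp : p.Prime := Fact.out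
  have hrodd : Odd r := hr.odd_of_ne_two hr2
  have hrF : (r : F) ≠ 0 := by
    rw [Ne, CharP.cast_eq_zero_iff F p]
    intro hdvd
    exact hrp ((Nat.prime_dvd_prime_iff_eq hp hr).1 hdvd).symm
  obtain ⟨ζ, hζ⟩ := exists_aniso (F := F)
  have hcard : Fintype.card (Fin m ⊕ Fin m) = 2 * m := by
    rw [Fintype.card_sum, Fintype.card_fin, two_mul]
  rw [← card_pal_excl p m r i t hm hr hr2 hrp hi ht (¬ Odd i ∧ i ∣ 2 * m ∧ Odd (2 * m / i))]
  subst hi
  apply card_classes_of p (qfPlus m F)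
    (Cfsg.Agent.Lib.Helper14_POmegaSimple.nondegenerate_qfPlus m) m hcard r hr hr2 hrp
  · intro c hpal hex
    by_cases hdvd : ((X : F[X]) - 1) ∣ c
    · exact (real_of_dvd m hm r hrodd hrF c hpal hdvd 1 ζ hζ).1
    · rcases real_of_not_dvd m hm r hrodd hrF c hpal 1 ζ hζ with h | ⟨g, hg1, hg2⟩
      · exact h
      · exfalso
        apply hdvd
        apply hex
        obtain ⟨hnodd, h2m, hnm⟩ := minus_excl p m hm r hr hr2 hrp 1 ζ hζ g hg1
          (by rw [hg2]; exact hdvd)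
        refine ⟨hnodd, h2m, ?_⟩
        rw [← Nat.not_even_iff_odd]
        intro he
        exact hnm (dvd_of_even_div _ m h2m he)
  · rintro ⟨hnodd, h2m, hoddq⟩ g hg
    by_contra hnd
    have hgr : g ^ r = 1 := by
      rw [← hg]
      exact pow_orderOf_eq_one g
    obtain ⟨_, h1⟩ := plus_excl p m hm r hr hr2 hrp g hgr hnd
    have hi1 : orderOf ((Fintype.card F : ℕ) : ZMod r) ≠ 1 := by
      intro h
      apply hnodd
      rw [h]
      exact odd_one
    have hdm := h1 hi1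
    rw [Nat.mul_div_assoc 2 hdm] at hoddq
    exact (Nat.not_odd_iff_even.2 (even_two_mul _)) hoddq

/-- classes of elements of odd prime order `r ≠ p` in `O⁻_{2m}(q)` -/
theorem card_minus_classes [Fintype F] (p : ℕ) [Fact p.Prime] [CharP F p] (m r i t : ℕ)
    (hm : 1 ≤ m) (a₀ c₀ : F)
    (hac : ∀ z₁ z₂ : F, z₁ ^ 2 + a₀ * z₁ * z₂ + c₀ * z₂ ^ 2 = 0 → z₁ = 0 ∧ z₂ = 0)
    (hr : r.Prime) (hr2 : r ≠ 2) (hrp : r ≠ p)
    (hi : i = orderOf ((Fintype.card F : ℕ) : ZMod r)) (ht : t * i = r - 1) :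
    Nat.card {C : ConjClasses ↥(Cfsg.isometryGroup F ⇑(qfMinus (m - 1) F a₀ c₀)) //
      ∃ g : ↥(Cfsg.isometryGroup F ⇑(qfMinus (m - 1) F a₀ c₀)),
        ConjClasses.mk g = C ∧ orderOf g = r} =
      (if ((Odd i ∧ i ∣ m) ∨ (¬ Odd i ∧ i ∣ 2 * m ∧ Even (2 * m / i))) then
        (if Odd i then ((m - 1) / i + t / 2).choose (t / 2) else (2 * (m - 1) / i + t).choose t)
      else
        (if Odd i then (m / i + t / 2).choose (t / 2) else (2 * m / i + t).choose t)) - 1 := by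
  classical
  have hp : p.Prime := Fact.out
  have hrodd : Odd r := hr.odd_of_ne_two hr2
  have hrF : (r : F) ≠ 0 := by
    rw [Ne, CharP.cast_eq_zero_iff F p]
    intro hdvd
    exact hrp ((Nat.prime_dvd_prime_iff_eq hp hr).1 hdvd).symm
  have hcard : Fintype.card ((Fin (m - 1) ⊕ Fin (m - 1)) ⊕ Fin 2) = 2 * m := by
    rw [Fintype.card_sum, Fintype.card_sum, Fintype.card_fin, Fintype.card_fin]
    omega
  rw [← card_pal_excl p m r i t hm hr hr2 hrp hi ht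
    ((Odd i ∧ i ∣ m) ∨ (¬ Odd i ∧ i ∣ 2 * m ∧ Even (2 * m / i)))]
  subst hi
  apply card_classes_of p (qfMinus (m - 1) F a₀ c₀)
    (Cfsg.Agent.Lib.Helper14_POmegaSimple.nondegenerate_qfMinus (m - 1) a₀ c₀ hac) m hcard r hr
    hr2 hrp
  · intro c hpal hex
    by_cases hdvd : ((X : F[X]) - 1) ∣ c
    · exact (real_of_dvd m hm r hrodd hrF c hpal hdvd a₀ c₀ hac).2
    · rcases real_of_not_dvd m hm r hrodd hrF c hpal a₀ c₀ hac with ⟨g, hg1, hg2⟩ | h
      · exfalso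
        apply hdvd
        apply hex
        obtain ⟨h2m, h1⟩ := plus_excl p m hm r hr hr2 hrp g hg1 (by rw [hg2]; exact hdvd)
        by_cases hio : Odd (orderOf ((Fintype.card F : ℕ) : ZMod r))
        · left
          refine ⟨hio, ?_⟩
          have hcop : Nat.Coprime (orderOf ((Fintype.card F : ℕ) : ZMod r)) 2 :=
            hio.coprime_two_right
          exact hcop.dvd_of_dvd_mul_left h2m
        · right
          have hi1 : orderOf ((Fintype.card F : ℕ) : ZMod r) ≠ 1 := by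
            intro h
            apply hio
            rw [h]
            exact odd_one
          have hdm := h1 hi1
          refine ⟨hio, h2m, ?_⟩
          rw [Nat.mul_div_assoc 2 hdm]
          exact even_two_mul _
      · exact h
  · intro hex g hg
    by_contra hnd
    have hgr : g ^ r = 1 := by
      rw [← hg]
      exact pow_orderOf_eq_one g
    obtain ⟨hnodd, h2m, hnm⟩ := minus_excl p m hm r hr hr2 hrp a₀ c₀ hac g hgr hnd
    rcases hex with ⟨hio, _⟩ | ⟨_, _, he⟩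
    · exact hnodd hio
    · exact hnm (dvd_of_even_div _ m h2m he)

end Cfsg.Agent.Lib.Helper40_OEven
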