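import Mathlib
import Cfsg.Agent.Lib.Helper40_UBasic
import Cfsg.Agent.Lib.Helper40_SpCyclic

set_option autoImplicit false

/-!
Cyclic subspaces `K[a] v` with `f(a) v = 0`, `f` irreducible, in a hermitian space:
nondegeneracy and the isometry criterion via moments `p ↦ B (p(a) v) v`.
-/

namespace Cfsg.Agent.Lib.Helper40_UCyclic

open Polynomial Module Cfsg.Agent.Lib.Helper40_Semisimple Cfsg.Agent.Lib.Helper40_SpBasic
  Cfsg.Agent.Lib.Helper40_SpCyclic Cfsg.Agent.Lib.Helper40_UBasic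

variable {K : Type*} [Field K] {σ : K →+* K} {V : Type*} [AddCommGroup V] [Module K V]

section Forms

variable {B : V →ₗ[K] V →ₛₗ[σ] K} {a : Module.End K V} {N : ℕ}

/-- A cyclic vector with a nonzero moment generates a nondegenerate subspace. -/
theorem undOn_cyc (h : UData B a N) (v : V) (f : K[X]) (hf : Irreducible f)
    (hfv : aeval a f v = 0) (p : K[X]) (hp : B (aeval a p v) v ≠ 0) : UNDOn B (cyc a v) := by
  have hv0 : v ≠ 0 := by
    rintro rfl
    apply hp
    simp
  intro x hx hxy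
  by_contra hx0
  have hxo : x ∈ orth B (cyc a v) := by
    rw [mem_orth]
    intro y hy
    exact h.eq_zero (hxy y hy)
  have hle := cyc_le_of_inv a v hv0 f hf hfv (h.inv_orth (inv_range_orbitMap a v)) hxo hx hx0
  have hvo := hle (self_mem_range_orbitMap a v)
  rw [mem_orth] at hvo
  exact hp (hvo (aeval a p v) ⟨p, rfl⟩)

theorem uIsoOn_cyc (h : UData B a N) (v : V) (hm : ∀ p : K[X], B (aeval a p v) v = 0) :
    UIsoOn B (cyc a v) := by
  rintro _ ⟨p, rfl⟩ _ ⟨r, rfl⟩
  rw [orbitMap_apply, orbitMap_apply, h.adj', UData.aeval_ad, ← Module.End.mul_apply, ← map_mul]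
  exact hm _

end Forms

section Equiv

variable {W : Type*} [AddCommGroup W] [Module K W]
variable {B : V →ₗ[K] V →ₛₗ[σ] K} {B' : W →ₗ[K] W →ₛₗ[σ] K}
  {a : Module.End K V} {b : Module.End K W} {N : ℕ}

/-- Cyclic vectors with the same moments generate isometric subspaces. -/
theorem exists_cyc_isometry (h : UData B a N) (h' : UData B' b N) (u : V) (w : W)
    (hu0 : u ≠ 0) (hw0 : w ≠ 0) (f : K[X]) (hf : Irreducible f) (hfu : aeval a f u = 0)
    (hfw : aeval b f w = 0) (hτ : ∀ p : K[X], B (aeval a p u) u = B' (aeval b p w) w) :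
    ∃ e : cyc a u ≃ₗ[K] cyc b w,
      (∀ z : cyc a u, e ((a.restrict (inv_range_orbitMap a u)) z) =
        (b.restrict (inv_range_orbitMap b w)) (e z)) ∧
      ∀ x y : cyc a u, B' (e x : W) (e y : W) = B (x : V) (y : V) := by
  obtain ⟨e, he⟩ := exists_cyc_equiv a b u w hu0 hw0 f hf hfu hfw
  refine ⟨e, ?_, ?_⟩
  · rintro ⟨_, ⟨p, rfl⟩⟩
    have h1 : (a.restrict (inv_range_orbitMap a u))
        ⟨orbitMap a u p, LinearMap.mem_range_self (orbitMap a u) p⟩ =
        ⟨orbitMap a u (X * p), LinearMap.mem_range_self (orbitMap a u) (X * p)⟩ := by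
      apply Subtype.ext
      rw [LinearMap.coe_restrict_apply]
      exact (orbitMap_X_mul a u p).symm
    rw [h1, he, he]
    apply Subtype.ext
    rw [LinearMap.coe_restrict_apply]
    exact orbitMap_X_mul b w p
  · rintro ⟨_, ⟨p, rfl⟩⟩ ⟨_, ⟨r, rfl⟩⟩
    rw [he, he]
    show B' (orbitMap b w p) (orbitMap b w r) = B (orbitMap a u p) (orbitMap a u r)
    rw [orbitMap_apply, orbitMap_apply, orbitMap_apply, orbitMap_apply]
    rw [h.adj', h'.adj', UData.aeval_ad, UData.aeval_ad, ← Module.End.mul_apply,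
      ← Module.End.mul_apply, ← map_mul, ← map_mul, hτ]

end Equiv

end Cfsg.Agent.Lib.Helper40_UCyclic
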