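import Mathlib
import Cfsg.Agent.Lib.Helper40_UCyclic
import Cfsg.Agent.Lib.Helper40_SpMatch
import Cfsg.Agent.Lib.Helper40_FieldInvolution

set_option autoImplicit false

/-!
Matching the moments of two cyclic vectors generating nondegenerate irreducible subspaces of
hermitian spaces.
-/

namespace Cfsg.Agent.Lib.Helper40_UMatch

open Polynomial Module Cfsg.Agent.Lib.Helper40_Semisimple Cfsg.Agent.Lib.Helper40_SpBasic
  Cfsg.Agent.Lib.Helper40_SpCyclic Cfsg.Agent.Lib.Helper40_SpMatch Cfsg.Agent.Lib.Helper40_UBasic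
  Cfsg.Agent.Lib.Helper40_UCyclic

variable {K : Type*} [Field K] {σ : K →+* K} {V : Type*} [AddCommGroup V] [Module K V]

/-- the adjoint polynomial -/
noncomputable abbrev pstar (σ : K →+* K) (N : ℕ) (p : K[X]) : K[X] := expand K (N - 1) (conj σ p)

section SelfDual

variable {B : V →ₗ[K] V →ₛₗ[σ] K} {a : Module.End K V} {N : ℕ}

theorem aeval_pstar (a : Module.End K V) (N : ℕ) (p : K[X]) :
    aeval a (pstar σ N p) = aeval (a ^ (N - 1)) (conj σ p) := by
  rw [pstar, expand_aeval]

theorem adjS (h : UData B a N) (p : K[X]) (x y : V) :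
    B (aeval a p x) y = B x (aeval a (pstar σ N p) y) := by
  rw [aeval_pstar, h.adj]

theorem adjS' (h : UData B a N) (p : K[X]) (x y : V) :
    B x (aeval a p y) = B (aeval a (pstar σ N p) x) y := by
  rw [aeval_pstar, h.adj']

/-- A cyclic vector with a nonzero moment forces `f` to be self-dual. -/
theorem dvd_pstar_of_moment (h : UData B a N) (v : V) (f : K[X]) (hf : Irreducible f)
    (hfv : aeval a f v = 0) (p₁ : K[X]) (hp₁ : B (aeval a p₁ v) v ≠ 0) :
    f ∣ pstar σ N f := by
  have hv0 : v ≠ 0 := by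
    rintro rfl
    apply hp₁
    simp
  have hnd : UNDOn B (cyc a v) := undOn_cyc h v f hf hfv p₁ hp₁
  have hmem : aeval a (pstar σ N f) v ∈ cyc a v :=
    (inv_range_orbitMap a v).aeval_mem _ (self_mem_range_orbitMap a v)
  have hdual : aeval a (pstar σ N f) v = 0 := by
    apply hnd _ hmem
    intro y hy
    apply h.eq_zero
    rw [← adjS h, aeval_eq_zero_of_mem_cyc a v f hfv hy, map_zero, LinearMap.zero_apply]
  rw [← orbitMap_eq_zero_iff a v hv0 f hf hfv, orbitMap_apply]
  exact hdual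

end SelfDual

section Match

variable {W : Type*} [AddCommGroup W] [Module K W]
variable {B : V →ₗ[K] V →ₛₗ[σ] K} {B' : W →ₗ[K] W →ₛₗ[σ] K}
  {a : Module.End K V} {b : Module.End K W} {N : ℕ}

theorem exists_matching [Finite K] (hσne : ∃ θ, σ θ ≠ θ) (h : UData B a N) (h' : UData B' b N)
    (v : V) (w : W) (f : K[X]) (hfm : f.Monic) (hf : Irreducible f) (hfv : aeval a f v = 0)
    (hfw : aeval b f w = 0) (p₁ : K[X]) (hp₁ : B (aeval a p₁ v) v ≠ 0) (p₂ : K[X])
    (hp₂ : B' (aeval b p₂ w) w ≠ 0) :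
    ∃ u : V, u ≠ 0 ∧ aeval a f u = 0 ∧ ∀ p : K[X], B (aeval a p u) u = B' (aeval b p w) w := by
  classical
  have hv0 : v ≠ 0 := by
    rintro rfl
    apply hp₁
    simp
  have hw0 : w ≠ 0 := by
    rintro rfl
    apply hp₂
    simp
  have : Fact (Irreducible f) := ⟨hf⟩
  have : Module.Finite K (AdjoinRoot f) := hfm.finite_adjoinRoot
  have : Finite (AdjoinRoot f) := Module.finite_of_finite K
  obtain ⟨θ, hθ⟩ := exists_adjoinRoot_equiv a v hv0 f hf hfv
  obtain ⟨θ', hθ'⟩ := exists_adjoinRoot_equiv b w hw0 f hf hfw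
  -- the moment functionals
  let τ : AdjoinRoot f →ₗ[K] K :=
    (B.flip v) ∘ₗ (cyc a v).subtype ∘ₗ (θ : AdjoinRoot f →ₗ[K] cyc a v)
  let τ' : AdjoinRoot f →ₗ[K] K :=
    (B'.flip w) ∘ₗ (cyc b w).subtype ∘ₗ (θ' : AdjoinRoot f →ₗ[K] cyc b w)
  have hτ : ∀ p : K[X], τ (AdjoinRoot.mk f p) = B (aeval a p v) v := by
    intro p
    simp only [τ, LinearMap.comp_apply, LinearEquiv.coe_coe, Submodule.subtype_apply, hθ,
      LinearMap.flip_apply]
  have hτ' : ∀ p : K[X], τ' (AdjoinRoot.mk f p) = B' (aeval b p w) w := by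
    intro p
    simp only [τ', LinearMap.comp_apply, LinearEquiv.coe_coe, Submodule.subtype_apply, hθ',
      LinearMap.flip_apply]
  -- self-duality of f
  have hdvd : f ∣ pstar σ N f := dvd_pstar_of_moment h v f hf hfv p₁ hp₁
  have hdvdN : f ∣ X ^ N - 1 := by
    rw [← orbitMap_eq_zero_iff a v hv0 f hf hfv, orbitMap_apply, map_sub, map_pow, aeval_X,
      map_one, h.pow, sub_self, LinearMap.zero_apply]
  set ρ : AdjoinRoot f := AdjoinRoot.root f with hρ
  have hρN : ρ ^ N = 1 := by
    have := AdjoinRoot.mk_eq_zero.2 hdvdN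
    rw [map_sub, map_pow, AdjoinRoot.mk_X, map_one] at this
    exact sub_eq_zero.1 this
  have hρ0 : ρ ≠ 0 := by
    intro h0
    rw [h0, zero_pow h.pos.ne'] at hρN
    exact zero_ne_one hρN
  have hρinv : ρ ^ (N - 1) = ρ⁻¹ := by
    apply eq_inv_of_mul_eq_one_left
    rw [← pow_succ, Nat.sub_add_cancel h.pos, hρN]
  -- the involution
  have hev : ∀ p : K[X], eval₂ ((algebraMap K (AdjoinRoot f)).comp σ) (ρ ^ (N - 1)) p =
      AdjoinRoot.mk f (pstar σ N p) := by
    intro p
    rw [← Polynomial.eval₂_map, ← aeval_def, pstar, ← AdjoinRoot.aeval_eq, expand_aeval]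
  have hσ0 : eval₂ ((algebraMap K (AdjoinRoot f)).comp σ) (ρ ^ (N - 1)) f = 0 := by
    rw [hev]
    exact AdjoinRoot.mk_eq_zero.2 hdvd
  let σL : AdjoinRoot f →+* AdjoinRoot f :=
    AdjoinRoot.lift ((algebraMap K (AdjoinRoot f)).comp σ) (ρ ^ (N - 1)) hσ0
  have hσmk : ∀ p : K[X], σL (AdjoinRoot.mk f p) = AdjoinRoot.mk f (pstar σ N p) := by
    intro p
    rw [← hev]
    exact AdjoinRoot.lift_mk hσ0 p
  have hσρ : σL ρ = ρ⁻¹ := by
    rw [← hρinv]
    exact AdjoinRoot.lift_root hσ0
  have hσof : ∀ c : K, σL (AdjoinRoot.of f c) = AdjoinRoot.of f (σ c) := by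
    intro c
    exact AdjoinRoot.lift_of hσ0
  have hσσ : ∀ x, σL (σL x) = x := by
    intro x
    induction x using AdjoinRoot.induction_on with
    | ih p =>
      induction p using Polynomial.induction_on' with
      | add p q hp hq => rw [map_add, map_add, map_add, hp, hq]
      | monomial n c =>
        rw [← C_mul_X_pow_eq_monomial, map_mul, map_pow, AdjoinRoot.mk_X, AdjoinRoot.mk_C,
          map_mul, map_mul, map_pow, map_pow, hσof, hσof, h.invol, hσρ, map_inv₀, hσρ, inv_inv]
  -- the moments are hermitian for the involution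
  have hτσ : ∀ x, τ (σL x) = σ (τ x) := by
    intro x
    induction x using AdjoinRoot.induction_on with
    | ih p =>
      rw [hσmk, hτ, hτ, ← adjS' h, h.herm]
  have hτ'σ : ∀ x, τ' (σL x) = σ (τ' x) := by
    intro x
    induction x using AdjoinRoot.induction_on with
    | ih p =>
      rw [hσmk, hτ', hτ', ← adjS' h', h'.herm]
  -- the trace-form type pairing
  let Φ : AdjoinRoot f →ₗ[K] Module.Dual K (AdjoinRoot f) :=
    (LinearMap.mul K (AdjoinRoot f)).compr₂ τ
  have hΦ : ∀ s x, Φ s x = τ (s * x) := fun s x => rfl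
  have hΦinj : Function.Injective Φ := by
    rw [← LinearMap.ker_eq_bot, LinearMap.ker_eq_bot']
    intro s hs
    by_contra hs0
    apply hp₁
    rw [← hτ]
    have := LinearMap.congr_fun hs (s⁻¹ * AdjoinRoot.mk f p₁)
    rwa [hΦ, ← mul_assoc, mul_inv_cancel₀ hs0, one_mul, LinearMap.zero_apply] at this
  have hΦsurj : Function.Surjective Φ := by
    have hfin : finrank K (AdjoinRoot f) = finrank K (Module.Dual K (AdjoinRoot f)) :=
      Subspace.dual_finrank_eq.symm
    exact (LinearMap.linearEquivOfInjective Φ hΦinj hfin).surjective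
  obtain ⟨s, hs⟩ := hΦsurj τ'
  have hsx : ∀ x, τ (s * x) = τ' x := fun x => by rw [← hΦ, hs]
  -- s is fixed by the involution
  have hsσ : σL s = s := by
    have h1 : Φ (s - σL s) = 0 := by
      apply LinearMap.ext
      intro y
      rw [hΦ, LinearMap.zero_apply, sub_mul, map_sub]
      have h2 : τ (σL s * y) = τ (s * y) := by
        have h3 : σL s * y = σL (s * σL y) := by rw [map_mul, hσσ]
        rw [h3, hτσ, hsx, hτ'σ, h.invol, hsx]
      rw [h2, sub_self]
    have := hΦinj (h1.trans (map_zero Φ).symm)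
    exact (sub_eq_zero.1 this).symm
  have hs0 : s ≠ 0 := by
    rintro rfl
    apply hp₂
    rw [← hτ', ← hsx, zero_mul, map_zero]
  -- the involution is not the identity
  have hσLne : ∃ x, σL x ≠ x := by
    obtain ⟨t, ht⟩ := hσne
    refine ⟨AdjoinRoot.of f t, fun hfix => ht ?_⟩
    rw [hσof] at hfix
    exact (AdjoinRoot.of f).injective hfix
  -- the norm equation
  obtain ⟨lam, hlam0, hlam⟩ := Helper40_FieldInvolution.exists_norm_eq σL hσσ hσLne s hsσ hs0
  obtain ⟨l, hl⟩ := AdjoinRoot.mk_surjective lam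
  refine ⟨aeval a l v, ?_, ?_, ?_⟩
  · intro h0
    apply hlam0
    have h1 : θ lam = 0 := by
      apply Subtype.ext
      rw [← hl, hθ, h0]
      rfl
    exact (map_eq_zero_iff θ θ.injective).1 h1
  · exact aeval_eq_zero_of_mem_cyc a v f hfv ⟨l, rfl⟩
  · intro p
    have hL : B (aeval a p (aeval a l v)) (aeval a l v) =
        B (aeval a (pstar σ N l * p * l) v) v := by
      rw [adjS' h, map_mul, map_mul, Module.End.mul_apply, Module.End.mul_apply]
    have hR : B' (aeval b p w) w = B (aeval a (l * pstar σ N l * p) v) v := by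
      rw [← hτ', ← hsx, ← hlam, ← hl, hσmk, ← map_mul, ← map_mul, hτ]
    rw [hL, hR]
    have hpoly : pstar σ N l * p * l = l * pstar σ N l * p := by ring
    rw [hpoly]

end Match

end Cfsg.Agent.Lib.Helper40_UMatch
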