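import Mathlib
import Cfsg.Agent.Lib.Helper40_UCyclic
import Cfsg.Agent.Lib.Helper40_UMatch

set_option autoImplicit false

namespace Cfsg.Agent.Lib.Helper40_UHyperbolic

open Polynomial Module Cfsg.Agent.Lib.Helper40_Semisimple Cfsg.Agent.Lib.Helper40_SpBasic
  Cfsg.Agent.Lib.Helper40_SpCyclic Cfsg.Agent.Lib.Helper40_UBasic Cfsg.Agent.Lib.Helper40_UCyclic Cfsg.Agent.Lib.Helper40_UMatch

variable {K : Type*} [Field K] {σ : K →+* K} {V : Type*} [AddCommGroup V] [Module K V]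
variable {B : V →ₗ[K] V →ₛₗ[σ] K} {a : Module.End K V} {N : ℕ}

section FD

variable [Finite K] [FiniteDimensional K V]

/-- Every linear functional is represented by the form (finite fields: counting). -/
theorem exists_rep (h : UData B a N) (hB : UND B) (φ : Dual K V) : ∃ v : V, ∀ x, B x v = φ x := by
  have : Finite V := Module.finite_of_finite K
  have : Finite (Dual K V) := Module.finite_of_finite K
  have hcard : Nat.card (Dual K V) = Nat.card V := by
    rw [Module.natCard_eq_pow_finrank (K := K), Module.natCard_eq_pow_finrank (K := K) (V := V),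
      Subspace.dual_finrank_eq]
  have hinj : Function.Injective (fun v : V => B.flip v) := by
    intro v v' hvv
    have h1 : ∀ x, B x (v - v') = 0 := by
      intro x
      have := congrArg (fun ψ : Dual K V => ψ x) hvv
      simp only [LinearMap.flip_apply] at this
      rw [map_sub, this, sub_self]
    have h2 : v - v' = 0 := hB _ (fun y => h.eq_zero (h1 y))
    exact sub_eq_zero.1 h2
  have hbij := hinj.bijective_of_nat_card_le (le_of_eq hcard)
  obtain ⟨v, hv⟩ := hbij.2 φ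
  refine ⟨v, fun x => ?_⟩
  have := congrArg (fun ψ : Dual K V => ψ x) hv
  simpa using this

/-- the dimension of the orthogonal -/
theorem finrank_orth (h : UData B a N) (hB : UND B) (Y : Submodule K V) :
    finrank K Y + finrank K (orth B Y) = finrank K V := by
  have : Finite V := Module.finite_of_finite K
  let ρ : V →+ Dual K Y := AddMonoidHom.mk' (fun v => (B.flip v).comp Y.subtype) (by
    intro x y
    ext z
    simp)
  have hker : ∀ v, v ∈ ρ.ker ↔ v ∈ orth B Y := by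
    intro v
    rw [AddMonoidHom.mem_ker, mem_orth]
    constructor
    · intro h0 x hx
      have := congrArg (fun ψ : Dual K Y => ψ ⟨x, hx⟩) h0
      simpa [ρ] using this
    · intro h0
      ext x
      simpa [ρ] using h0 x x.2
  have hsurj : Function.Surjective ρ := by
    intro φ
    obtain ⟨ψ, hψ⟩ := LinearMap.exists_extend φ
    obtain ⟨v, hv⟩ := exists_rep h hB ψ
    refine ⟨v, ?_⟩
    ext x
    have := hv x
    simp only [ρ, AddMonoidHom.mk'_apply, LinearMap.comp_apply, Submodule.subtype_apply,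
      LinearMap.flip_apply]
    rw [this, ← hψ]
    rfl
  have hrange : ρ.range = ⊤ := AddMonoidHom.range_eq_top.mpr hsurj
  have c1 := AddSubgroup.card_mul_index ρ.ker
  rw [AddSubgroup.index_ker, hrange] at c1
  have c2 : Nat.card ρ.ker = Nat.card (orth B Y) :=
    Nat.card_congr (Equiv.subtypeEquivRight hker)
  have c3 : Nat.card (⊤ : AddSubgroup (Dual K Y)) = Nat.card (Dual K Y) :=
    Nat.card_congr (Equiv.Set.univ _)
  rw [c2, c3, Module.natCard_eq_pow_finrank (K := K) (V := V),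
    Module.natCard_eq_pow_finrank (K := K) (V := orth B Y),
    Module.natCard_eq_pow_finrank (K := K) (V := Dual K Y), Subspace.dual_finrank_eq,
    ← pow_add] at c1
  have hq : 1 < Nat.card K := Finite.one_lt_card
  have := Nat.pow_right_injective hq c1
  omega

/-- the invariant complement of the orthogonal of an isotropic cyclic subspace is
irreducible -/
theorem compl_irreducible (h : UData B a N) (hB : UND B) (v : V) (hv0 : v ≠ 0)
    (f : K[X]) (hf : Irreducible f) (hfv : aeval a f v = 0) (Z₁ : Submodule K V)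
    (hc : IsCompl (orth B (cyc a v)) Z₁) (Y : Submodule K V) (hY : Inv a Y)
    (hYZ : Y ≤ Z₁) (hY0 : Y ≠ ⊥) : Y = Z₁ := by
  have hdis : orth B Y ⊓ cyc a v = ⊥ := by
    rw [eq_bot_iff]
    intro x hx
    rw [Submodule.mem_bot]
    by_contra hx0
    have hinv : Inv a (orth B Y ⊓ cyc a v) := by
      intro z hz
      rw [Submodule.mem_inf] at hz ⊢
      exact ⟨h.inv_orth hY z hz.1, inv_range_orbitMap a v z hz.2⟩
    have hle := cyc_le_of_inv a v hv0 f hf hfv hinv hx (Submodule.mem_inf.1 hx).2 hx0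
    apply hY0
    rw [eq_bot_iff]
    intro y hy
    rw [Submodule.mem_bot]
    have hy' : y ∈ orth B (cyc a v) ⊓ Z₁ := by
      rw [Submodule.mem_inf]
      refine ⟨?_, hYZ hy⟩
      rw [mem_orth]
      intro z hz
      have := (Submodule.mem_inf.1 (hle hz)).1
      rw [mem_orth] at this
      exact h.eq_zero (this y hy)
    rw [hc.inf_eq_bot] at hy'
    exact hy'
  have h1 := Submodule.finrank_sup_add_finrank_inf_eq (orth B Y) (cyc a v)
  rw [hdis, finrank_bot, add_zero] at h1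
  have h2 := finrank_orth h hB Y
  have h3 := finrank_orth h hB (cyc a v)
  have h4 := Submodule.finrank_add_eq_of_isCompl hc
  have h5 := Submodule.finrank_le (orth B Y ⊔ cyc a v)
  have h6 := Submodule.finrank_le Y
  have h7 := Submodule.finrank_le (cyc a v)
  apply Submodule.eq_of_le_of_finrank_le hYZ
  omega

/-- In the isotropic case there is an isotropic invariant partner. -/
theorem exists_hyperbolic (h : UData B a N) (hB : UND B) (ha : a.IsSemisimple)
    (v : V) (hv0 : v ≠ 0) (f : K[X]) (hf : Irreducible f) (hfv : aeval a f v = 0)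
    (hcase : ∀ u : V, aeval a f u = 0 → ∀ p : K[X], B (aeval a p u) u = 0) :
    ∃ Z₁ : Submodule K V, Inv a Z₁ ∧ IsCompl (orth B (cyc a v)) Z₁ ∧ UIsoOn B Z₁ := by
  have hinv0 : Inv a (orth B (cyc a v)) := h.inv_orth (inv_range_orbitMap a v)
  obtain ⟨Z₁, hZ₁', hc⟩ := (Module.End.isSemisimple_iff.1 ha) (orth B (cyc a v))
    (by rw [Module.End.mem_invtSubmodule]; exact hinv0)
  have hZ₁ : Inv a Z₁ := by
    rw [Module.End.mem_invtSubmodule] at hZ₁'; exact hZ₁'
  refine ⟨Z₁, hZ₁, hc, ?_⟩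
  -- the radical of the form on Z₁
  have hRinv : Inv a (Z₁ ⊓ orth B Z₁) := by
    intro z hz
    rw [Submodule.mem_inf] at hz ⊢
    exact ⟨hZ₁ z hz.1, h.inv_orth hZ₁ z hz.2⟩
  by_cases hR : Z₁ ⊓ orth B Z₁ = ⊥
  · exfalso
    -- Z₁ is nondegenerate, hence killed by f(a)
    have hnd : UNDOn B Z₁ := by
      intro x hx hxy
      have : x ∈ Z₁ ⊓ orth B Z₁ := by
        rw [Submodule.mem_inf]
        refine ⟨hx, ?_⟩
        rw [mem_orth]
        intro y hy
        exact h.eq_zero (hxy y hy)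
      rw [hR] at this
      exact this
    have hkill : ∀ y ∈ Z₁, aeval a (pstar σ N f) y = 0 := by
      intro y hy
      have hmem : aeval a (pstar σ N f) y ∈ orth B (cyc a v) ⊓ Z₁ := by
        rw [Submodule.mem_inf]
        refine ⟨?_, hZ₁.aeval_mem _ hy⟩
        rw [mem_orth]
        intro z hz
        rw [← adjS h, aeval_eq_zero_of_mem_cyc a v f hfv hz, map_zero, LinearMap.zero_apply]
      rw [hc.inf_eq_bot] at hmem
      exact hmem
    have hkill' : ∀ z ∈ Z₁, aeval a f z = 0 := by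
      intro z hz
      apply hnd _ (hZ₁.aeval_mem f hz)
      intro y hy
      rw [adjS h, hkill y hy, map_zero]
    -- Z₁ is nonzero
    have hZ₁0 : Z₁ ≠ ⊥ := by
      intro h0
      have h3 := finrank_orth h hB (cyc a v)
      have h4 := Submodule.finrank_add_eq_of_isCompl hc
      rw [h0, finrank_bot, add_zero] at h4
      have h7 := Submodule.finrank_le (cyc a v)
      have h8 : 0 < finrank K (cyc a v) := by
        rw [Module.finrank_pos_iff_exists_ne_zero]
        refine ⟨⟨v, self_mem_range_orbitMap a v⟩, ?_⟩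
        intro h9
        exact hv0 (congrArg Subtype.val h9)
      omega
    obtain ⟨z, hz, hz0⟩ := Submodule.exists_mem_ne_zero_of_ne_bot hZ₁0
    have hcz : cyc a z = Z₁ := by
      apply compl_irreducible h hB v hv0 f hf hfv Z₁ hc (cyc a z) (inv_range_orbitMap a z)
      · rintro _ ⟨p, rfl⟩
        rw [orbitMap_apply]
        exact hZ₁.aeval_mem p hz
      · intro h0
        have : z ∈ cyc a z := self_mem_range_orbitMap a z
        rw [h0] at this
        exact hz0 this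
    apply hz0
    apply hnd z hz
    intro y hy
    rw [← hcz] at hy
    obtain ⟨p, rfl⟩ := hy
    rw [orbitMap_apply]
    exact h.eq_zero (hcase z (hkill' z hz) p)
  · -- the radical is everything
    have hReq : Z₁ ⊓ orth B Z₁ = Z₁ :=
      compl_irreducible h hB v hv0 f hf hfv Z₁ hc _ hRinv inf_le_left hR
    intro x hx y hy
    have hy' : y ∈ Z₁ ⊓ orth B Z₁ := by rw [hReq]; exact hy
    have hy'' := (Submodule.mem_inf.1 hy').2
    rw [mem_orth] at hy''
    exact hy'' x hx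

end FD

/-- a pair of isotropic invariant subspaces in perfect duality -/
structure UHypPair (B : V →ₗ[K] V →ₛₗ[σ] K) (a : Module.End K V) (Z₀ Z₁ : Submodule K V) :
    Prop where
  inv0 : Inv a Z₀
  inv1 : Inv a Z₁
  iso0 : UIsoOn B Z₀
  iso1 : UIsoOn B Z₁
  compl : IsCompl (orth B Z₀) Z₁

namespace UHypPair

variable {Z₀ Z₁ : Submodule K V}

theorem pairing_injective (hp : UHypPair B a Z₀ Z₁) {z1 : V} (hz1 : z1 ∈ Z₁)
    (hz : ∀ z0 ∈ Z₀, B z0 z1 = 0) : z1 = 0 := by
  have : z1 ∈ orth B Z₀ ⊓ Z₁ := by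
    rw [Submodule.mem_inf]
    exact ⟨hz, hz1⟩
  rw [hp.compl.inf_eq_bot] at this
  exact this

theorem disjoint (hp : UHypPair B a Z₀ Z₁) : Disjoint Z₀ Z₁ := by
  rw [Submodule.disjoint_def]
  intro x hx0 hx1
  apply hp.pairing_injective hx1
  intro z0 hz0
  exact hp.iso0 z0 hz0 x hx0

theorem inv_sup (hp : UHypPair B a Z₀ Z₁) : Inv a (Z₀ ⊔ Z₁) := by
  intro x hx
  obtain ⟨z0, hz0, z1, hz1, rfl⟩ := Submodule.mem_sup.1 hx
  rw [map_add]
  exact Submodule.add_mem_sup (hp.inv0 z0 hz0) (hp.inv1 z1 hz1)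

theorem undOn_sup (hp : UHypPair B a Z₀ Z₁) (h : UData B a N) (hB : UND B) :
    UNDOn B (Z₀ ⊔ Z₁) := by
  intro x hx hxy
  obtain ⟨z0, hz0, z1, hz1, rfl⟩ := Submodule.mem_sup.1 hx
  have hz1' : z1 = 0 := by
    apply hp.pairing_injective hz1
    intro y0 hy0
    have := hxy y0 (Submodule.mem_sup_left hy0)
    rw [map_add, LinearMap.add_apply, hp.iso0 z0 hz0 y0 hy0, zero_add] at this
    exact h.eq_zero this
  subst hz1'
  rw [add_zero] at hxy ⊢
  apply hB z0
  intro y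
  have htop : y ∈ orth B Z₀ ⊔ Z₁ := by
    rw [hp.compl.sup_eq_top]
    trivial
  obtain ⟨c, hc, y1, hy1, rfl⟩ := Submodule.mem_sup.1 htop
  rw [mem_orth] at hc
  rw [map_add, hc z0 hz0, zero_add]
  exact hxy y1 (Submodule.mem_sup_right hy1)

theorem finrank_eq [Finite K] [FiniteDimensional K V] (hp : UHypPair B a Z₀ Z₁)
    (h : UData B a N) (hB : UND B) : finrank K Z₁ = finrank K Z₀ := by
  have h3 := finrank_orth h hB Z₀
  have h4 := Submodule.finrank_add_eq_of_isCompl hp.compl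
  have h7 := Submodule.finrank_le Z₀
  omega

/-- the perfect pairing represents every functional on `Z₀` -/
theorem exists_pairing_rep [Finite K] [FiniteDimensional K V] (hp : UHypPair B a Z₀ Z₁)
    (h : UData B a N) (hB : UND B) (ψ : Dual K Z₀) :
    ∃ z1 : Z₁, ∀ z0 : Z₀, B (z0 : V) (z1 : V) = ψ z0 := by
  have : Finite Z₁ := Module.finite_of_finite K
  have : Finite (Dual K Z₀) := Module.finite_of_finite K
  have hcard : Nat.card (Dual K Z₀) = Nat.card Z₁ := by
    rw [Module.natCard_eq_pow_finrank (K := K), Module.natCard_eq_pow_finrank (K := K) (V := Z₁),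
      Subspace.dual_finrank_eq, hp.finrank_eq h hB]
  let ρ : Z₁ → Dual K Z₀ := fun z1 => (B.flip (z1 : V)).comp Z₀.subtype
  have hρ : ∀ z1 z0, ρ z1 z0 = B (z0 : V) (z1 : V) := fun z1 z0 => rfl
  have hinj : Function.Injective ρ := by
    intro z1 z2 h12
    have h1 : (z1 : V) - (z2 : V) = 0 := by
      apply hp.pairing_injective (Z₁.sub_mem z1.2 z2.2)
      intro z0 hz0
      have := congrArg (fun φ : Dual K Z₀ => φ ⟨z0, hz0⟩) h12
      simp only [hρ] at this
      rw [map_sub, this, sub_self]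
    exact Subtype.ext (sub_eq_zero.1 h1)
  have hbij := hinj.bijective_of_nat_card_le (le_of_eq hcard)
  obtain ⟨z1, hz1⟩ := hbij.2 ψ
  refine ⟨z1, fun z0 => ?_⟩
  have := congrArg (fun φ : Dual K Z₀ => φ z0) hz1
  simpa [hρ] using this

/-- the internal direct sum decomposition of `Z₀ ⊔ Z₁` -/
theorem exists_sumEquiv (hp : UHypPair B a Z₀ Z₁) :
    ∃ ψ : (Z₀ × Z₁) ≃ₗ[K] ↥(Z₀ ⊔ Z₁), ∀ s : Z₀ × Z₁, ((ψ s : ↥(Z₀ ⊔ Z₁)) : V) = s.1 + s.2 := by
  let g : (Z₀ × Z₁) →ₗ[K] ↥(Z₀ ⊔ Z₁) :=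
    (LinearMap.coprod Z₀.subtype Z₁.subtype).codRestrict (Z₀ ⊔ Z₁) (by
      rintro ⟨z0, z1⟩
      rw [LinearMap.coprod_apply]
      exact Submodule.add_mem_sup z0.2 z1.2)
  have hg : ∀ s : Z₀ × Z₁, ((g s : ↥(Z₀ ⊔ Z₁)) : V) = s.1 + s.2 := by
    rintro ⟨z0, z1⟩
    rfl
  have hinj : Function.Injective g := by
    rw [← LinearMap.ker_eq_bot, LinearMap.ker_eq_bot']
    rintro ⟨z0, z1⟩ hs
    have h1 : (z0 : V) + (z1 : V) = 0 := by
      have := congrArg Subtype.val hs
      rwa [hg] at this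
    have h2 : (z0 : V) = -(z1 : V) := eq_neg_of_add_eq_zero_left h1
    have h3 : (z0 : V) ∈ Z₁ := by
      rw [h2]
      exact Z₁.neg_mem z1.2
    have h4 : (z0 : V) = 0 := by
      have := Submodule.disjoint_def.1 hp.disjoint (z0 : V) z0.2 h3
      exact this
    have h5 : (z1 : V) = 0 := by
      rw [h4, zero_add] at h1
      exact h1
    apply Prod.ext
    · exact Subtype.ext h4
    · exact Subtype.ext h5
  have hsurj : Function.Surjective g := by
    rintro ⟨x, hx⟩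
    obtain ⟨z0, hz0, z1, hz1, rfl⟩ := Submodule.mem_sup.1 hx
    refine ⟨(⟨z0, hz0⟩, ⟨z1, hz1⟩), ?_⟩
    apply Subtype.ext
    rw [hg]
  exact ⟨LinearEquiv.ofBijective g ⟨hinj, hsurj⟩, hg⟩

end UHypPair

section TwoSided

variable {W : Type*} [AddCommGroup W] [Module K W] {B' : W →ₗ[K] W →ₛₗ[σ] K}
  {b : Module.End K W} [Finite K] [FiniteDimensional K V] [FiniteDimensional K W]

/-- Two hyperbolic pairs over the same irreducible polynomial are isometric, compatibly with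
the isometries. -/
theorem exists_hyp_isometry (h : UData B a N) (h' : UData B' b N) (hB : UND B)
    (hB' : UND B') (v : V) (w : W) (hv0 : v ≠ 0) (hw0 : w ≠ 0) (f : K[X])
    (hf : Irreducible f) (hfv : aeval a f v = 0) (hfw : aeval b f w = 0)
    (Z₁ : Submodule K V) (Z₁' : Submodule K W) (hp : UHypPair B a (cyc a v) Z₁)
    (hp' : UHypPair B' b (cyc b w) Z₁') :
    ∃ (hZ : Inv a (cyc a v ⊔ Z₁)) (hZ' : Inv b (cyc b w ⊔ Z₁'))
      (e : ↥(cyc a v ⊔ Z₁) ≃ₗ[K] ↥(cyc b w ⊔ Z₁')),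
      (∀ z, e ((a.restrict hZ) z) = (b.restrict hZ') (e z)) ∧
      ∀ x y : ↥(cyc a v ⊔ Z₁), B' (e x : W) (e y : W) = B (x : V) (y : V) := by
  obtain ⟨φ₀, hφ₀⟩ := exists_cyc_equiv' a b v w hv0 hw0 f hf hfv hfw
  -- equivariance of φ₀ for powers
  have hφ₀pow : ∀ (k : ℕ) (z0 : cyc a v) (hz : (a ^ k) (z0 : V) ∈ cyc a v),
      ((φ₀ ⟨(a ^ k) (z0 : V), hz⟩ : cyc b w) : W) = (b ^ k) ((φ₀ z0 : cyc b w) : W) := by
    intro k z0 hz
    have hz' : aeval a ((X : K[X]) ^ k) (z0 : V) ∈ cyc a v := by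
      rw [map_pow, aeval_X]; exact hz
    have h1 : (⟨(a ^ k) (z0 : V), hz⟩ : cyc a v) = ⟨aeval a ((X : K[X]) ^ k) (z0 : V), hz'⟩ := by
      apply Subtype.ext
      show (a ^ k) (z0 : V) = aeval a ((X : K[X]) ^ k) (z0 : V)
      rw [map_pow, aeval_X]
    rw [h1, hφ₀, map_pow, aeval_X]
  -- the graph of the dual isomorphism
  let G : Submodule K (Z₁ × Z₁') :=
    { carrier := {s | ∀ z0 : cyc a v,
        B' ((φ₀ z0 : cyc b w) : W) ((s.2 : Z₁') : W) = B (z0 : V) ((s.1 : Z₁) : V)}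
      zero_mem' := by
        intro z0
        simp
      add_mem' := by
        intro s t hs ht z0
        simp only [Prod.snd_add, Prod.fst_add, Submodule.coe_add, map_add]
        rw [hs z0, ht z0]
      smul_mem' := by
        intro c s hs z0
        simp only [Prod.smul_snd, Prod.smul_fst, Submodule.coe_smul, map_smulₛₗ]
        rw [hs z0] }
  have hG : ∀ s : Z₁ × Z₁', s ∈ G ↔ ∀ z0 : cyc a v,
      B' ((φ₀ z0 : cyc b w) : W) ((s.2 : Z₁') : W) = B (z0 : V) ((s.1 : Z₁) : V) :=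
    fun s => Iff.rfl
  let pr₁ : G →ₗ[K] Z₁ := (LinearMap.fst K Z₁ Z₁').comp G.subtype
  let pr₂ : G →ₗ[K] Z₁' := (LinearMap.snd K Z₁ Z₁').comp G.subtype
  have hpr₁ : Function.Bijective pr₁ := by
    constructor
    · rw [← LinearMap.ker_eq_bot, LinearMap.ker_eq_bot']
      rintro ⟨⟨z1, z1'⟩, hs⟩ h0
      have h1 : z1 = 0 := h0
      subst h1
      have h2 : (z1' : W) = 0 := by
        apply hp'.pairing_injective z1'.2
        intro z0' hz0'
        have := (hG _).1 hs (φ₀.symm ⟨z0', hz0'⟩)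
        rw [LinearEquiv.apply_symm_apply] at this
        simpa using this
      have h3 : z1' = 0 := Subtype.ext h2
      subst h3
      rfl
    · intro z1
      let ψ : Dual K (cyc b w) :=
        ((B.flip (z1 : V)).comp (cyc a v).subtype).comp (φ₀.symm : cyc b w →ₗ[K] cyc a v)
      obtain ⟨z1', hz1'⟩ := hp'.exists_pairing_rep h' hB' ψ
      refine ⟨⟨(z1, z1'), ?_⟩, rfl⟩
      rw [hG]
      intro z0
      rw [hz1' (φ₀ z0)]
      simp [ψ]
  have hpr₂ : Function.Bijective pr₂ := by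
    constructor
    · rw [← LinearMap.ker_eq_bot, LinearMap.ker_eq_bot']
      rintro ⟨⟨z1, z1'⟩, hs⟩ h0
      have h1 : z1' = 0 := h0
      subst h1
      have h2 : (z1 : V) = 0 := by
        apply hp.pairing_injective z1.2
        intro z0 hz0
        have := (hG _).1 hs ⟨z0, hz0⟩
        simpa using this.symm
      have h3 : z1 = 0 := Subtype.ext h2
      subst h3
      rfl
    · intro z1'
      let ψ : Dual K (cyc a v) :=
        ((B'.flip (z1' : W)).comp (cyc b w).subtype).comp (φ₀ : cyc a v →ₗ[K] cyc b w)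
      obtain ⟨z1, hz1⟩ := hp.exists_pairing_rep h hB ψ
      refine ⟨⟨(z1, z1'), ?_⟩, rfl⟩
      rw [hG]
      intro z0
      rw [hz1 z0]
      simp [ψ]
  let φ₁ : Z₁ ≃ₗ[K] Z₁' :=
    (LinearEquiv.ofBijective pr₁ hpr₁).symm.trans (LinearEquiv.ofBijective pr₂ hpr₂)
  have key : ∀ (z0 : cyc a v) (z1 : Z₁),
      B' ((φ₀ z0 : cyc b w) : W) ((φ₁ z1 : Z₁') : W) = B (z0 : V) (z1 : V) := by
    intro z0 z1
    obtain ⟨g, rfl⟩ := hpr₁.2 z1
    have h1 : φ₁ (pr₁ g) = pr₂ g := by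
      simp only [φ₁, LinearEquiv.trans_apply]
      have : (LinearEquiv.ofBijective pr₁ hpr₁).symm (pr₁ g) = g :=
        (LinearEquiv.ofBijective pr₁ hpr₁).symm_apply_apply g
      rw [this]
      rfl
    rw [h1]
    exact (hG _).1 g.2 z0
  -- equivariance of φ₁
  have hφ₁a : ∀ (z1 : Z₁) (hz : a (z1 : V) ∈ Z₁),
      ((φ₁ ⟨a (z1 : V), hz⟩ : Z₁') : W) = b ((φ₁ z1 : Z₁') : W) := by
    intro z1 hz
    have hmem : ((φ₁ ⟨a (z1 : V), hz⟩ : Z₁') : W) - b ((φ₁ z1 : Z₁') : W) ∈ Z₁' :=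
      Z₁'.sub_mem (φ₁ _).2 (hp'.inv1 _ (φ₁ z1).2)
    have hzero := hp'.pairing_injective hmem (fun z0' hz0' => by
      obtain ⟨z0, rfl⟩ : ∃ z0 : cyc a v, ((φ₀ z0 : cyc b w) : W) = z0' :=
        ⟨φ₀.symm ⟨z0', hz0'⟩, by rw [LinearEquiv.apply_symm_apply]⟩
      rw [map_sub, key z0 ⟨a (z1 : V), hz⟩, h'.adj1']
      have hz0mem : (a ^ (N - 1)) (z0 : V) ∈ cyc a v :=
        (inv_range_orbitMap a v).pow_mem (N - 1) z0.2
      rw [← hφ₀pow (N - 1) z0 hz0mem, key ⟨(a ^ (N - 1)) (z0 : V), hz0mem⟩ z1]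
      show B (z0 : V) (a (z1 : V)) - B ((a ^ (N - 1)) (z0 : V)) (z1 : V) = 0
      rw [h.adj1', sub_self])
    exact sub_eq_zero.1 hzero
  have hφ₀a : ∀ (z0 : cyc a v) (hz : a (z0 : V) ∈ cyc a v),
      ((φ₀ ⟨a (z0 : V), hz⟩ : cyc b w) : W) = b ((φ₀ z0 : cyc b w) : W) := by
    intro z0 hz
    have := hφ₀pow 1 z0 (by rw [pow_one]; exact hz)
    simp only [pow_one] at this
    exact this
  -- the sum decompositions
  obtain ⟨ψ, hψ⟩ := hp.exists_sumEquiv
  obtain ⟨ψ', hψ'⟩ := hp'.exists_sumEquiv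
  let e : ↥(cyc a v ⊔ Z₁) ≃ₗ[K] ↥(cyc b w ⊔ Z₁') :=
    (ψ.symm.trans (φ₀.prodCongr φ₁)).trans ψ'
  have he : ∀ s : cyc a v × Z₁, ((e (ψ s) : ↥(cyc b w ⊔ Z₁')) : W) =
      ((φ₀ s.1 : cyc b w) : W) + ((φ₁ s.2 : Z₁') : W) := by
    intro s
    simp only [e, LinearEquiv.trans_apply, LinearEquiv.symm_apply_apply, hψ',
      LinearEquiv.prodCongr_apply]
  refine ⟨hp.inv_sup, hp'.inv_sup, e, ?_, ?_⟩
  · intro z
    obtain ⟨s, rfl⟩ := ψ.surjective z
    have h1 : (a.restrict hp.inv_sup) (ψ s) =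
        ψ (⟨a (s.1 : V), hp.inv0 _ s.1.2⟩, ⟨a (s.2 : V), hp.inv1 _ s.2.2⟩) := by
      apply Subtype.ext
      rw [LinearMap.coe_restrict_apply, hψ, hψ, map_add]
    apply Subtype.ext
    rw [h1, he, LinearMap.coe_restrict_apply, he, map_add, hφ₀a, hφ₁a]
  · intro x y
    obtain ⟨s, rfl⟩ := ψ.surjective x
    obtain ⟨t, rfl⟩ := ψ.surjective y
    rw [he, he, hψ, hψ]
    simp only [map_add, LinearMap.add_apply]
    rw [hp'.iso0 _ (φ₀ s.1).2 _ (φ₀ t.1).2, hp'.iso1 _ (φ₁ s.2).2 _ (φ₁ t.2).2,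
      hp.iso0 _ s.1.2 _ t.1.2, hp.iso1 _ s.2.2 _ t.2.2, key,
      h'.herm ((φ₀ t.1 : cyc b w) : W) ((φ₁ s.2 : Z₁') : W), key, ← h.herm]

end TwoSided

end Cfsg.Agent.Lib.Helper40_UHyperbolic
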