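import Mathlib
import Cfsg.Agent.Lib.Helper40_UMatch
import Cfsg.Agent.Lib.Helper40_UHyperbolic

set_option autoImplicit false

/-!
Splitting off isometric nondegenerate pieces from two semisimple isometries of hermitian spaces
with the same characteristic polynomial.
-/

namespace Cfsg.Agent.Lib.Helper40_UCases

open Polynomial Module Cfsg.Agent.Lib.Helper40_Semisimple Cfsg.Agent.Lib.Helper40_SpBasic
  Cfsg.Agent.Lib.Helper40_SpCyclic Cfsg.Agent.Lib.Helper40_UBasic Cfsg.Agent.Lib.Helper40_UCyclic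
  Cfsg.Agent.Lib.Helper40_UMatch Cfsg.Agent.Lib.Helper40_UHyperbolic

variable {K : Type*} [Field K] {σ : K →+* K} {V : Type*} [AddCommGroup V] [Module K V]
variable {B : V →ₗ[K] V →ₛₗ[σ] K} {a : Module.End K V} {N : ℕ}

/-- The isotropic case is impossible for a self-dual `f`. -/
theorem caseB_false [Finite K] [FiniteDimensional K V] (hσne : ∃ θ, σ θ ≠ θ) (h : UData B a N)
    (hB : UND B) (ha : a.IsSemisimple) (v : V) (hv0 : v ≠ 0) (f : K[X]) (hf : Irreducible f)
    (hfv : aeval a f v = 0)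
    (hcase : ∀ u : V, aeval a f u = 0 → ∀ p : K[X], B (aeval a p u) u = 0)
    (hdvd : f ∣ pstar σ N f) : False := by
  obtain ⟨Z₁, hZ₁, hc, hiso1⟩ := exists_hyperbolic h hB ha v hv0 f hf hfv hcase
  have hiso0 : UIsoOn B (cyc a v) := uIsoOn_cyc h v (hcase v hfv)
  have hp : UHypPair B a (cyc a v) Z₁ := ⟨inv_range_orbitMap a v, hZ₁, hiso0, hiso1, hc⟩
  -- f(a) kills Z₁
  have hkill : ∀ z1 ∈ Z₁, aeval a f z1 = 0 := by
    intro z1 hz1
    apply hp.pairing_injective (hZ₁.aeval_mem f hz1)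
    intro z0 hz0
    rw [adjS' h]
    obtain ⟨k, hk⟩ := hdvd
    rw [hk, mul_comm, map_mul, Module.End.mul_apply, aeval_eq_zero_of_mem_cyc a v f hfv hz0,
      map_zero, map_zero, LinearMap.zero_apply]
  -- the pairing vanishes
  have hsum : ∀ z0 ∈ cyc a v, ∀ z1 ∈ Z₁, B z0 z1 + σ (B z0 z1) = 0 := by
    intro z0 hz0 z1 hz1
    have hu : aeval a f (z0 + z1) = 0 := by
      rw [map_add, aeval_eq_zero_of_mem_cyc a v f hfv hz0, hkill z1 hz1, add_zero]
    have h2 := hcase (z0 + z1) hu 1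
    rw [map_one, Module.End.one_apply] at h2
    simp only [map_add, LinearMap.add_apply] at h2
    rw [hiso0 z0 hz0 z0 hz0, hiso1 z1 hz1 z1 hz1, zero_add, add_zero, h.herm z0 z1] at h2
    rw [add_comm]
    exact h2
  have hzero : ∀ z0 ∈ cyc a v, ∀ z1 ∈ Z₁, B z0 z1 = 0 := by
    intro z0 hz0 z1 hz1
    obtain ⟨t, ht⟩ := hσne
    have h1 := hsum z0 hz0 z1 hz1
    have h2 := hsum (t • z0) ((cyc a v).smul_mem t hz0) z1 hz1
    rw [map_smul, LinearMap.smul_apply, smul_eq_mul, map_mul] at h2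
    have h3 : σ (B z0 z1) = - B z0 z1 := by
      rw [eq_neg_iff_add_eq_zero, add_comm]
      exact h1
    rw [h3] at h2
    have h4 : (t - σ t) * B z0 z1 = 0 := by
      rw [sub_mul, sub_eq_add_neg, ← mul_neg]
      exact h2
    rcases mul_eq_zero.1 h4 with h5 | h5
    · exact absurd (sub_eq_zero.1 h5).symm ht
    · exact h5
  have hZ₁0 : Z₁ = ⊥ := by
    rw [eq_bot_iff]
    intro z1 hz1
    rw [Submodule.mem_bot]
    exact hp.pairing_injective hz1 (fun z0 hz0 => hzero z0 hz0 z1 hz1)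
  have h3 := hp.finrank_eq h hB
  rw [hZ₁0, finrank_bot] at h3
  have h8 : 0 < finrank K (cyc a v) := by
    rw [Module.finrank_pos_iff_exists_ne_zero]
    refine ⟨⟨v, self_mem_range_orbitMap a v⟩, ?_⟩
    intro h9
    exact hv0 (congrArg Subtype.val h9)
  omega

section Piece

variable {W : Type*} [AddCommGroup W] [Module K W] {B' : W →ₗ[K] W →ₛₗ[σ] K}
  {b : Module.End K W}

/-- Two semisimple isometries with the same characteristic polynomial have nonzero
nondegenerate invariant subspaces which are compatibly isometric. -/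
theorem exists_piece [Finite K] [FiniteDimensional K V] [FiniteDimensional K W]
    (hσne : ∃ θ, σ θ ≠ θ)
    (h : UData B a N) (h' : UData B' b N) (hB : UND B) (hB' : UND B')
    (ha : a.IsSemisimple) (hb : b.IsSemisimple) (hc : a.charpoly = b.charpoly)
    (hpos : 0 < finrank K V) :
    ∃ (Z : Submodule K V) (Z' : Submodule K W) (hZ : Inv a Z) (hZ' : Inv b Z')
      (e : Z ≃ₗ[K] Z'), Z ≠ ⊥ ∧ UNDOn B Z ∧ UNDOn B' Z' ∧
      (∀ z, e ((a.restrict hZ) z) = (b.restrict hZ') (e z)) ∧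
      ∀ x y : Z, B' (e x : W) (e y : W) = B (x : V) (y : V) := by
  classical
  have hnotunit : ¬ IsUnit a.charpoly := by
    intro hu
    have := natDegree_eq_zero_of_isUnit hu
    rw [LinearMap.charpoly_natDegree] at this
    omega
  obtain ⟨f, hfm, hf, hfa⟩ := exists_monic_irreducible_factor a.charpoly hnotunit
  have hfb : f ∣ b.charpoly := hc ▸ hfa
  obtain ⟨v, hv0, hfv⟩ := exists_ne_zero_aeval_eq_zero a f hf hfa
  obtain ⟨w, hw0, hfw⟩ := exists_ne_zero_aeval_eq_zero b f hf hfb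
  by_cases hA : ∃ u, aeval a f u = 0 ∧ ∃ p : K[X], B (aeval a p u) u ≠ 0
  · obtain ⟨v₁, hfv₁, p₁, hp₁⟩ := hA
    by_cases hA' : ∃ u, aeval b f u = 0 ∧ ∃ p : K[X], B' (aeval b p u) u ≠ 0
    · obtain ⟨w₁, hfw₁, p₂, hp₂⟩ := hA'
      have hw₁0 : w₁ ≠ 0 := by
        rintro rfl
        apply hp₂
        simp
      obtain ⟨u, hu0, hfu, hmom⟩ :=
        exists_matching hσne h h' v₁ w₁ f hfm hf hfv₁ hfw₁ p₁ hp₁ p₂ hp₂
      obtain ⟨e, he1, he2⟩ := exists_cyc_isometry h h' u w₁ hu0 hw₁0 f hf hfu hfw₁ hmom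
      refine ⟨cyc a u, cyc b w₁, inv_range_orbitMap a u, inv_range_orbitMap b w₁, e, ?_, ?_, ?_,
        he1, he2⟩
      · intro h0
        have : u ∈ cyc a u := self_mem_range_orbitMap a u
        rw [h0] at this
        exact hu0 this
      · exact undOn_cyc h u f hf hfu p₂ (by rw [hmom]; exact hp₂)
      · exact undOn_cyc h' w₁ f hf hfw₁ p₂ hp₂
    · exfalso
      have hcase' : ∀ u : W, aeval b f u = 0 → ∀ p : K[X], B' (aeval b p u) u = 0 := by
        intro u hu p
        by_contra hne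
        exact hA' ⟨u, hu, p, hne⟩
      have hd := dvd_pstar_of_moment h v₁ f hf hfv₁ p₁ hp₁
      exact caseB_false hσne h' hB' hb w hw0 f hf hfw hcase' hd
  · have hcase : ∀ u : V, aeval a f u = 0 → ∀ p : K[X], B (aeval a p u) u = 0 := by
      intro u hu p
      by_contra hne
      exact hA ⟨u, hu, p, hne⟩
    by_cases hA' : ∃ u, aeval b f u = 0 ∧ ∃ p : K[X], B' (aeval b p u) u ≠ 0
    · exfalso
      obtain ⟨w₁, hfw₁, p₂, hp₂⟩ := hA'
      have hd := dvd_pstar_of_moment h' w₁ f hf hfw₁ p₂ hp₂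
      exact caseB_false hσne h hB ha v hv0 f hf hfv hcase hd
    · have hcase' : ∀ u : W, aeval b f u = 0 → ∀ p : K[X], B' (aeval b p u) u = 0 := by
        intro u hu p
        by_contra hne
        exact hA' ⟨u, hu, p, hne⟩
      obtain ⟨Z₁, hZ₁, hc1, hiso1⟩ := exists_hyperbolic h hB ha v hv0 f hf hfv hcase
      obtain ⟨Z₁', hZ₁', hc1', hiso1'⟩ := exists_hyperbolic h' hB' hb w hw0 f hf hfw hcase'
      have hp : UHypPair B a (cyc a v) Z₁ :=
        ⟨inv_range_orbitMap a v, hZ₁, uIsoOn_cyc h v (hcase v hfv), hiso1, hc1⟩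
      have hp' : UHypPair B' b (cyc b w) Z₁' :=
        ⟨inv_range_orbitMap b w, hZ₁', uIsoOn_cyc h' w (hcase' w hfw), hiso1', hc1'⟩
      obtain ⟨hZ, hZ', e, he1, he2⟩ :=
        exists_hyp_isometry h h' hB hB' v w hv0 hw0 f hf hfv hfw Z₁ Z₁' hp hp'
      refine ⟨cyc a v ⊔ Z₁, cyc b w ⊔ Z₁', hZ, hZ', e, ?_, hp.undOn_sup h hB,
        hp'.undOn_sup h' hB', he1, he2⟩
      intro h0
      have : v ∈ cyc a v ⊔ Z₁ := Submodule.mem_sup_left (self_mem_range_orbitMap a v)
      rw [h0] at this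
      exact hv0 this

end Piece

end Cfsg.Agent.Lib.Helper40_UCases
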