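import Mathlib
import Cfsg.Agent.Lib.Helper40_UConj
import Cfsg.Agent.Lib.Helper94_HermBridge

set_option autoImplicit false

/-!
Semisimple elements of the finite unitary group `GU_n(q)` with the same characteristic polynomial
are conjugate in `GU_n(q)`.
-/

namespace Cfsg.Agent.Lib.Helper40_UMatrix

open Polynomial Module Matrix Cfsg.Agent.Lib.Helper40_UBasic Cfsg.Agent.Lib.Helper94_Herm
  Cfsg.Agent.Lib.Helper94_HermBridge Cfsg.Agent.Lib.Helper94_Bridge

variable {K : Type*} [Field K] [Fintype K] {n q : ℕ}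

omit [Fintype K] in
theorem mem_GU_iff (g : GL (Fin n) K) :
    g ∈ Cfsg.GU n K q ↔ ∀ u v, Cfsg.hermForm n K q ((g : Matrix (Fin n) (Fin n) K) *ᵥ u)
      ((g : Matrix (Fin n) (Fin n) K) *ᵥ v) = Cfsg.hermForm n K q u v := Iff.rfl

variable (σ : K →+* K) (hσq : ∀ x, σ x = x ^ q)

theorem und_hermB : UND (hermB n σ hσq) := by
  intro x hx
  by_contra hx0
  obtain ⟨y, -, hy⟩ := hermB_nondeg σ hσq x trivial hx0
  exact hy (hx y)

theorem uData_of_mem (hσ : Invol σ) (A : Matrix (Fin n) (Fin n) K)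
    (hA : ∀ u v, Cfsg.hermForm n K q (A *ᵥ u) (A *ᵥ v) = Cfsg.hermForm n K q u v)
    (N : ℕ) (hN : 0 < N) (hAN : A ^ N = 1) :
    UData (hermB n σ hσq) (Matrix.toLin' A) N where
  invol := hσ.invol
  herm := hermB_isHerm σ hσq hσ
  iso := by
    intro x y
    rw [hermB_apply, hermB_apply, Matrix.toLin'_apply, Matrix.toLin'_apply]
    exact hA x y
  pow := by
    rw [← Matrix.toLin'_pow, hAN, Matrix.toLin'_one]
    rfl
  pos := hN

omit [Fintype K] in
theorem isSemisimple_of_pow_eq_one {m : Type*} [Fintype m] [DecidableEq m]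
    (A : Matrix m m K) (N : ℕ) (hN : (N : K) ≠ 0) (hA : A ^ N = 1) :
    Module.End.IsSemisimple (Matrix.toLin' A : Module.End K (m → K)) := by
  apply Module.End.isSemisimple_of_squarefree_aeval_eq_zero
    ((X_pow_sub_one_separable_iff.2 hN).squarefree)
  rw [map_sub, map_pow, aeval_X, map_one, ← Matrix.toLin'_pow, hA, Matrix.toLin'_one]
  exact sub_self _

/-- Elements of `GU_n(q)` of order prime to `p` with the same characteristic polynomial are
conjugate by an element of `GU_n(q)`. -/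
theorem exists_GU_conj (hK : Fintype.card K = q ^ 2) (p : ℕ) [Fact p.Prime] [CharP K p]
    (g h : GL (Fin n) K) (hg : g ∈ Cfsg.GU n K q) (hh : h ∈ Cfsg.GU n K q)
    (hgo : (orderOf g).Coprime p) (hho : (orderOf h).Coprime p)
    (hc : (g : Matrix (Fin n) (Fin n) K).charpoly = (h : Matrix (Fin n) (Fin n) K).charpoly) :
    ∃ u : GL (Fin n) K, u ∈ Cfsg.GU n K q ∧ u * g = h * u := by
  classical
  obtain ⟨σ, hσq, hσ⟩ := exists_frob hK
  have hp : p.Prime := Fact.out
  set N := orderOf g * orderOf h with hNdef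
  have hgpos : 0 < orderOf g := orderOf_pos g
  have hhpos : 0 < orderOf h := orderOf_pos h
  have hN : 0 < N := Nat.mul_pos hgpos hhpos
  have hNK : (N : K) ≠ 0 := by
    intro h0
    rw [CharP.cast_eq_zero_iff K p] at h0
    rcases (Nat.Prime.dvd_mul hp).1 h0 with h1 | h1
    · exact (Nat.Prime.coprime_iff_not_dvd hp).1 hgo.symm h1
    · exact (Nat.Prime.coprime_iff_not_dvd hp).1 hho.symm h1
  have hgN : (g : Matrix (Fin n) (Fin n) K) ^ N = 1 := by
    have : g ^ N = 1 := by rw [hNdef, pow_mul, pow_orderOf_eq_one, one_pow]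
    have := congrArg (fun x : GL (Fin n) K => (x : Matrix (Fin n) (Fin n) K)) this
    simpa using this
  have hhN : (h : Matrix (Fin n) (Fin n) K) ^ N = 1 := by
    have : h ^ N = 1 := by rw [hNdef, mul_comm, pow_mul, pow_orderOf_eq_one, one_pow]
    have := congrArg (fun x : GL (Fin n) K => (x : Matrix (Fin n) (Fin n) K)) this
    simpa using this
  have hd1 := uData_of_mem σ hσq hσ (g : Matrix (Fin n) (Fin n) K) hg N hN hgN
  have hd2 := uData_of_mem σ hσq hσ (h : Matrix (Fin n) (Fin n) K) hh N hN hhN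
  obtain ⟨e, he1, he2⟩ := Helper40_UConj.exists_isometry_conj (σ := σ) hσ.ne_id
    (finrank K (Fin n → K)) (hermB n σ hσq) (hermB n σ hσq)
    (Matrix.toLin' (g : Matrix (Fin n) (Fin n) K)) (Matrix.toLin' (h : Matrix (Fin n) (Fin n) K))
    N rfl hd1 hd2 (und_hermB σ hσq) (und_hermB σ hσq)
    (isSemisimple_of_pow_eq_one _ N hNK hgN) (isSemisimple_of_pow_eq_one _ N hNK hhN)
    (by rw [Matrix.charpoly_toLin', Matrix.charpoly_toLin', hc])
  refine ⟨(glEquiv (Fin n) K).symm e, ?_, ?_⟩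
  · rw [mem_GU_iff]
    intro u v
    have h1 : ∀ x, (((glEquiv (Fin n) K).symm e : GL (Fin n) K) : Matrix (Fin n) (Fin n) K) *ᵥ x
        = e x := by
      intro x
      rw [← glEquiv_apply, MulEquiv.apply_symm_apply]
    rw [h1, h1, ← hermB_apply σ hσq, he2, hermB_apply]
  · apply (glEquiv (Fin n) K).injective
    rw [map_mul, map_mul, MulEquiv.apply_symm_apply]
    apply LinearEquiv.ext
    intro x
    rw [LinearEquiv.mul_apply, LinearEquiv.mul_apply, glEquiv_apply, glEquiv_apply,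
      ← Matrix.toLin'_apply, ← Matrix.toLin'_apply, he1]

end Cfsg.Agent.Lib.Helper40_UMatrix
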