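import Cfsg.Agent.Lib.Helper43_OrthReal

set_option autoImplicit false

/-!
Unipotent elements of prescribed Jordan type in `Ω(Q)` for an arbitrary nondegenerate quadratic
form `Q` on `κ → F` over a finite field of odd characteristic (general version of
`Helper43_OrthReal.exists_unipotent_omega`), and the standard forms `quadFormOdd`,
`quadFormMinus`.
-/

namespace Cfsg.Agent.Lib.Helper43_OrthGen

open Module Matrix
open Cfsg.Agent.Lib.Helper43_Jordan Cfsg.Agent.Lib.Helper43_SympJordan
open Cfsg.Agent.Lib.Helper43_OrthJordan Cfsg.Agent.Lib.Helper43_OrthDisc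
open Cfsg.Agent.Lib.Helper43_OrthReal

universe u

section disc

variable {F : Type u} [Field F]

/-- admissible multisets are realised with any prescribed discriminant class, except that in the
absence of odd parts the discriminant is that of a hyperbolic space -/
theorem exists_realD_class (h2 : (2 : F) ≠ 0) (M : Multiset ℕ) (hpos : ∀ a ∈ M, 0 < a)
    (hcnt : ∀ j, Even j → 0 < j → Even (M.count j)) (t : F) (ht : t ≠ 0)
    (h : (∀ a ∈ M, Even a) → IsSquare (t * (-1) ^ (M.sum / 2))) :
    ∃ δ : F, δ ≠ 0 ∧ RealD F M δ ∧ IsSquare (δ * t) := by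
  by_cases hall : ∀ a ∈ M, Even a
  · obtain ⟨δ, hδ, hreal, hev⟩ := realD_of_counts_aux h2 _ M rfl hpos hcnt
    refine ⟨δ, hδ, hreal, ?_⟩
    rw [hev hall, mul_comm]
    exact h hall
  · push Not at hall
    obtain ⟨e, he, hodd'⟩ := hall
    have hodd : Odd e := Nat.not_even_iff_odd.1 hodd'
    have hM : M = {e} + M.erase e := by
      rw [Multiset.singleton_add, Multiset.cons_erase he]
    obtain ⟨δ', hδ', hreal', -⟩ := realD_of_counts_aux h2 _ (M.erase e) rfl
      (fun b hb => hpos b (Multiset.mem_of_mem_erase hb))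
      (by
        intro j hj hj0
        have hja : j ≠ e := by
          rintro rfl
          exact hodd' hj
        rw [Multiset.count_erase_of_ne hja]
        exact hcnt j hj hj0)
    set c : F := (antiG e F).det * δ' * t with hc
    have hc0 : c ≠ 0 := mul_ne_zero (mul_ne_zero (antiG_det_ne_zero e hodd) hδ') ht
    refine ⟨c ^ e * (antiG e F).det * δ',
      mul_ne_zero (mul_ne_zero (pow_ne_zero _ hc0) (antiG_det_ne_zero e hodd)) hδ', ?_, ?_⟩
    · rw [hM]
      exact realD_add (realD_single h2 e hodd c) hreal'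
    · obtain ⟨s, hs⟩ := hodd
      refine ⟨c ^ (s + 1), ?_⟩
      have : c ^ e * (antiG e F).det * δ' * t = c ^ e * c := by
        rw [hc]; ring
      rw [this, hs, ← pow_succ, ← pow_add]
      congr 1
      omega

end disc

section gram

variable {F : Type u} [Field F] {κ : Type} [Fintype κ] [DecidableEq κ]

/-- the Gram matrix of the polar form in the standard basis -/
noncomputable def gramOf (Q : QuadraticForm F (κ → F)) : Matrix κ κ F :=
  LinearMap.BilinForm.toMatrix' (QuadraticMap.polarBilin Q)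

theorem polar_eq_gramOf (Q : QuadraticForm F (κ → F)) (x y : κ → F) :
    QuadraticMap.polar (⇑Q) x y = x ⬝ᵥ gramOf Q *ᵥ y := by
  rw [← Matrix.toBilin'_apply', gramOf, Matrix.toBilin'_toMatrix',
    QuadraticMap.polarBilin_apply_apply]

theorem gramOf_transpose (Q : QuadraticForm F (κ → F)) : (gramOf Q)ᵀ = gramOf Q := by
  ext i j
  rw [Matrix.transpose_apply, gramOf, LinearMap.BilinForm.toMatrix'_apply,
    LinearMap.BilinForm.toMatrix'_apply, QuadraticMap.polarBilin_apply_apply,
    QuadraticMap.polarBilin_apply_apply, QuadraticMap.polar_comm]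

theorem gramOf_det_ne_zero (Q : QuadraticForm F (κ → F))
    (hQ : (QuadraticMap.polarBilin Q).Nondegenerate) : (gramOf Q).det ≠ 0 := by
  rw [← Matrix.nondegenerate_iff_det_ne_zero, gramOf,
    LinearMap.BilinForm.nondegenerate_toMatrix'_iff]
  exact hQ

theorem two_mul_eq_gramOf (Q : QuadraticForm F (κ → F)) (v : κ → F) :
    2 * Q v = v ⬝ᵥ gramOf Q *ᵥ v := by
  rw [← polar_eq_gramOf, QuadraticMap.polar_self, two_smul, two_mul]

/-- matrices preserving the Gram matrix preserve the quadratic form (characteristic not two) -/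
theorem map_mulVec_of_gram (h2 : (2 : F) ≠ 0) (Q : QuadraticForm F (κ → F)) (X : Matrix κ κ F)
    (hX : Xᵀ * gramOf Q * X = gramOf Q) (v : κ → F) : Q (X *ᵥ v) = Q v := by
  apply mul_left_cancel₀ h2
  rw [two_mul_eq_gramOf, two_mul_eq_gramOf, Matrix.mulVec_mulVec,
    ← Matrix.vecMul_transpose X v, ← Matrix.dotProduct_mulVec, Matrix.mulVec_mulVec,
    ← Matrix.mul_assoc, hX]

/-- every admissible Jordan type of degree `|κ|` with parts at most `p` (with an odd part, or with
the right discriminant) is realised by an element of order dividing `p` of `Ω(Q)` -/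
theorem exists_unipotent_omega_of_form [Fintype F] (p : ℕ) [Fact p.Prime] [CharP F p]
    (hp : Odd p) (Q : QuadraticForm F (κ → F)) (hQ : (QuadraticMap.polarBilin Q).Nondegenerate)
    (M : Multiset ℕ) (hM : ∀ a ∈ M, 0 < a ∧ a ≤ p)
    (hcnt : ∀ e, Even e → Even (M.count e)) (hsum : M.sum = Fintype.card κ)
    (hdisc : (∀ a ∈ M, Even a) → IsSquare ((gramOf Q).det * (-1) ^ (M.sum / 2))) :
    ∃ x : Matrix.GeneralLinearGroup κ F,
      x ∈ Cfsg.Geo.omegaGL (⇑Q) ∧ x ^ p = 1 ∧
      (∀ v, Q ((x : Matrix κ κ F) *ᵥ v) = Q v) ∧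
      IsNilpotent ((x : Matrix κ κ F) - 1) ∧
      jtype (Matrix.toLin' ((x : Matrix κ κ F) - 1)) = M := by
  have hp2 : p ≠ 2 := by
    rintro rfl
    exact absurd hp (by decide)
  have h2 : (2 : F) ≠ 0 := by
    intro h
    have h1 : ((2 : ℕ) : F) = 0 := by
      rw [Nat.cast_ofNat]
      exact h
    rw [CharP.cast_eq_zero_iff F p] at h1
    have hpp : p.Prime := Fact.out
    exact hp2 ((Nat.prime_dvd_prime_iff_eq hpp Nat.prime_two).1 h1)
  have hJdet := gramOf_det_ne_zero Q hQ
  obtain ⟨δ, hδ, ⟨ι, _, _, G, U, hG, hdet, hU, hnil, hj⟩, hsq⟩ :=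
    exists_realD_class h2 M (fun a ha => (hM a ha).1) (fun j hj _ => hcnt j hj)
      (gramOf Q).det hJdet hdisc
  have hcard : Fintype.card ι = Fintype.card κ := by
    have := jtype_sum _ (isNilpotent_toLin' hnil)
    rw [hj, hsum, Module.finrank_fintype_fun_eq_card] at this
    exact this.symm
  let ε : ι ≃ κ := Fintype.equivOfCardEq hcard
  set G' : Matrix κ κ F := Matrix.reindex ε ε G with hG'def
  set U' : Matrix κ κ F := Matrix.reindex ε ε U with hU'def
  have hG' : G'ᵀ = G' := by rw [hG'def, transpose_reindex, hG]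
  have hdet' : G'.det = δ := by rw [hG'def, det_reindex_self, hdet]
  have hU' : U'ᵀ * G' * U' = G' := by
    rw [hG'def, hU'def]
    simp only [reindex_apply, transpose_submatrix, submatrix_mul_equiv, hU]
  have hU'1 : U' - 1 = Matrix.reindex ε ε (U - 1) := by
    rw [hU'def]
    ext i j
    simp [Matrix.sub_apply, Matrix.one_apply]
  -- step 1: reindex
  obtain ⟨hnil1, hj1⟩ := jtype_eq_of_equiv (U - 1) (U' - 1) hnil
    (LinearEquiv.funCongrLeft F F ε.symm) (by
      intro w
      rw [hU'1, reindex_apply, LinearEquiv.funCongrLeft_apply, LinearEquiv.funCongrLeft_apply,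
        submatrix_mulVec_equiv]
      funext i
      simp [LinearMap.funLeft_apply, Function.comp_def])
  -- step 2: congruence
  obtain ⟨c, hc, hcJ⟩ := Cfsg.Agent.Lib.Helper43_SpCent.exists_congr_sym h2 (gramOf Q) G'
    (gramOf_transpose Q) hG' hJdet (by rw [hdet']; exact hδ)
    (by rw [hdet', mul_comm]; exact hsq)
  have hcu : IsUnit c.det := isUnit_iff_ne_zero.2 hc
  have hcc : c * c⁻¹ = 1 := Matrix.mul_nonsing_inv c hcu
  have hcc' : c⁻¹ * c = 1 := Matrix.nonsing_inv_mul c hcu
  set X : Matrix κ κ F := c * U' * c⁻¹ with hXdef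
  have hXJ : Xᵀ * gramOf Q * X = gramOf Q := by
    have h1 : Xᵀ * gramOf Q * X =
        (c⁻¹)ᵀ * (U'ᵀ * (cᵀ * gramOf Q * c) * U') * c⁻¹ := by
      rw [hXdef]
      simp only [transpose_mul, Matrix.mul_assoc]
    rw [h1, hcJ, hU', ← hcJ]
    rw [← Matrix.mul_assoc, ← Matrix.mul_assoc, ← transpose_mul, hcc,
      transpose_one, Matrix.one_mul, Matrix.mul_assoc, hcc, Matrix.mul_one]
  have hX1 : X - 1 = c * (U' - 1) * c⁻¹ := by
    rw [hXdef, Matrix.mul_sub, Matrix.sub_mul, Matrix.mul_one, hcc]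
  obtain ⟨hnil2, hj2⟩ := jtype_eq_of_equiv (U' - 1) (X - 1) hnil1
    (Matrix.toLin'OfInv (M := c⁻¹) (M' := c) hcc' hcc) (by
      intro w
      have e1 : ∀ y, (Matrix.toLin'OfInv (M := c⁻¹) (M' := c) hcc' hcc) y = c *ᵥ y := by
        intro y
        funext i
        rw [Matrix.toLin'OfInv_apply, Matrix.toLin'_apply]
      rw [e1, e1, hX1, Matrix.mulVec_mulVec, Matrix.mulVec_mulVec, Matrix.mul_assoc,
        Matrix.mul_assoc, hcc', Matrix.mul_one])
  -- the group element
  obtain ⟨x, hx⟩ := hnil2.isUnit_add_one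
  have hxX : (x : Matrix κ κ F) = X := by
    rw [hx, sub_add_cancel]
  have hXp : X ^ p = 1 := by
    have h0 : (X - 1) ^ p = 0 := by
      apply Matrix.toLin'.injective
      rw [Matrix.toLin'_pow, map_zero, pow_eq_zero_iff_jtype _ (isNilpotent_toLin' hnil2), hj2,
        hj1, hj]
      exact fun a ha => (hM a ha).2
    have h1 := Cfsg.Agent.Lib.Helper43_SpCent.sub_one_pow_char_pow' p X 1
    rw [pow_one, h0] at h1
    exact (sub_eq_zero.1 h1.symm)
  have hxp : x ^ p = 1 := by
    apply Units.ext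
    rw [Units.val_pow_eq_pow_val, hxX, hXp, Units.val_one]
  have hiso : ∀ v, Q ((x : Matrix κ κ F) *ᵥ v) = Q v := by
    intro v
    rw [hxX]
    exact map_mulVec_of_gram h2 Q X hXJ v
  refine ⟨x, mem_omegaGL_of_pow h2 Q hQ x hiso p hp hxp, hxp, hiso, ?_, ?_⟩
  · rw [hxX]
    exact hnil2
  · rw [hxX, hj2, hj1, hj]

end gram

section stdforms

variable {F : Type u} [Field F] {κ : Type} [Fintype κ] [DecidableEq κ]

open Cfsg.Agent.Lib.Helper44_StdForms

/-- non-degeneracy from a non-zero Gram determinant in the standard basis -/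
theorem nondegenerate_of_gram_det (Q : QuadraticForm F (κ → F))
    (h : (Matrix.of (fun i j : κ =>
      QuadraticMap.polar (⇑Q) (Pi.single i 1) (Pi.single j 1))).det ≠ 0) :
    (QuadraticMap.polarBilin Q).Nondegenerate := by
  have hJ : gramOf Q = Matrix.of (fun i j : κ =>
      QuadraticMap.polar (⇑Q) (Pi.single i 1) (Pi.single j 1)) := by
    ext i j
    rw [gramOf, LinearMap.BilinForm.toMatrix'_apply, QuadraticMap.polarBilin_apply_apply,
      Matrix.of_apply]
  rw [← hJ, ← Matrix.nondegenerate_iff_det_ne_zero, gramOf,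
    LinearMap.BilinForm.nondegenerate_toMatrix'_iff] at h
  exact h

theorem nondegenerate_qfOdd' (h2 : (2 : F) ≠ 0) (m : ℕ) :
    (QuadraticMap.polarBilin (qfOdd m F)).Nondegenerate := by
  apply nondegenerate_of_gram_det
  rw [coe_qfOdd, det_gram_quadFormOdd]
  exact mul_ne_zero h2 (pow_ne_zero _ (neg_ne_zero.2 one_ne_zero))

theorem nondegenerate_qfMinus' (h2 : (2 : F) ≠ 0) (m : ℕ) (a b : F)
    (hab : ∀ z₁ z₂ : F, z₁ ^ 2 + a * z₁ * z₂ + b * z₂ ^ 2 = 0 → z₁ = 0 ∧ z₂ = 0) :
    (QuadraticMap.polarBilin (qfMinus m F a b)).Nondegenerate := by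
  apply nondegenerate_of_gram_det
  rw [coe_qfMinus, det_gram_quadFormMinus]
  refine mul_ne_zero (pow_ne_zero _ (neg_ne_zero.2 one_ne_zero)) ?_
  intro h0
  have := hab (-a) 2 (by linear_combination h0)
  exact h2 this.2

end stdforms

end Cfsg.Agent.Lib.Helper43_OrthGen
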