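import Cfsg.Agent.Lib.Helper43_GUCent1

set_option autoImplicit false

/-!
The Cayley transform of a `τ`-fixed nilpotent matrix: a `τ`-unitary unipotent matrix with the same
commutant and the same ranks of powers of its nilpotent part.
-/

namespace Cfsg.Agent.Lib.Helper43_GUCent

open Matrix

section cayley

variable {K : Type*} [Field K] {n : Type*} [Fintype n] [DecidableEq n]

theorem isUnit_det_one_add_smul (N : Matrix n n K) (hN : IsNilpotent N) (c : K) :
    IsUnit (1 + c • N).det := by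
  rw [← Matrix.isUnit_iff_isUnit_det]
  exact (hN.smul c).isUnit_one_add

theorem comm_inv {X Y : Matrix n n K} (h : X * Y = Y * X) (hY : IsUnit Y.det) :
    X * Y⁻¹ = Y⁻¹ * X := by
  calc X * Y⁻¹ = (Y⁻¹ * Y) * X * Y⁻¹ := by rw [Matrix.nonsing_inv_mul _ hY, Matrix.one_mul]
    _ = Y⁻¹ * (Y * X) * Y⁻¹ := by simp only [Matrix.mul_assoc]
    _ = Y⁻¹ * X * (Y * Y⁻¹) := by rw [← h]; simp only [Matrix.mul_assoc]
    _ = Y⁻¹ * X := by rw [Matrix.mul_nonsing_inv _ hY, Matrix.mul_one]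

theorem comm_one_add_smul (X N : Matrix n n K) (h : X * N = N * X) (c : K) :
    X * (1 + c • N) = (1 + c • N) * X := by
  rw [Matrix.mul_add, Matrix.add_mul, Matrix.mul_one, Matrix.one_mul, Matrix.mul_smul,
    Matrix.smul_mul, h]

theorem cancel_left_of_isUnit (M X Y : Matrix n n K) (hM : IsUnit M.det) (h : M * X = M * Y) :
    X = Y := by
  have : M⁻¹ * (M * X) = M⁻¹ * (M * Y) := by rw [h]
  rwa [← Matrix.mul_assoc, ← Matrix.mul_assoc, Matrix.nonsing_inv_mul _ hM, Matrix.one_mul,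
    Matrix.one_mul] at this

/-- the Cayley transform of a `τ`-fixed nilpotent matrix -/
theorem exists_cayley (σ : K →+* K) (hσ : ∀ x, σ (σ x) = x) (l : K) (hl : σ l ≠ l)
    (τ : Matrix n n K → Matrix n n K)
    (hadd : ∀ X Y, τ (X + Y) = τ X + τ Y) (hmul : ∀ X Y, τ (X * Y) = τ Y * τ X)
    (hsmul : ∀ (c : K) X, τ (c • X) = σ c • τ X) (h1 : τ 1 = 1)
    (N : Matrix n n K) (hN : IsNilpotent N) (hτN : τ N = N) :
    ∃ u0 : Matrix n n K, τ u0 * u0 = 1 ∧ (∀ c, c * u0 = u0 * c ↔ c * N = N * c) ∧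
      (∀ k, ((u0 - 1) ^ k).rank = (N ^ k).rank) ∧ ∀ k, N ^ k = 0 → (u0 - 1) ^ k = 0 := by
  set M1 : Matrix n n K := 1 + l • N with hM1
  set M2 : Matrix n n K := 1 + σ l • N with hM2
  have hu1 : IsUnit M1.det := isUnit_det_one_add_smul N hN l
  have hu2 : IsUnit M2.det := isUnit_det_one_add_smul N hN (σ l)
  have hne : l - σ l ≠ 0 := fun h => hl (sub_eq_zero.1 h).symm
  have hNM2 : N * M2 = M2 * N := comm_one_add_smul N N rfl (σ l)
  have hNM2i : N * M2⁻¹ = M2⁻¹ * N := comm_inv hNM2 hu2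
  have hM12 : M1 * M2 = M2 * M1 := by
    have : M2 * N = N * M2 := hNM2.symm
    exact (comm_one_add_smul M2 N this l).symm
  have hτM1 : τ M1 = M2 := by
    rw [hM1, hadd, hsmul, h1, hτN]
  have hτM2 : τ M2 = M1 := by
    rw [hM2, hadd, hsmul, h1, hτN, hσ]
  have hτM2i : τ (M2⁻¹) = M1⁻¹ := by
    symm
    apply Matrix.inv_eq_left_inv
    rw [← hτM2, ← hmul, Matrix.mul_nonsing_inv _ hu2, h1]
  set u0 : Matrix n n K := M1 * M2⁻¹ with hu0
  set w : Matrix n n K := (l - σ l) • M2⁻¹ with hw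
  have hw1 : u0 - 1 = w * N := by
    have e1 : (1 : Matrix n n K) = M2 * M2⁻¹ := (Matrix.mul_nonsing_inv _ hu2).symm
    have e2 : M1 - M2 = (l - σ l) • N := by
      rw [hM1, hM2, sub_smul]
      abel
    calc u0 - 1 = M1 * M2⁻¹ - M2 * M2⁻¹ := by rw [← e1]
      _ = (M1 - M2) * M2⁻¹ := by rw [Matrix.sub_mul]
      _ = w * N := by rw [e2, hw, Matrix.smul_mul, Matrix.smul_mul, hNM2i]
  have hw2 : w = l • (1 : Matrix n n K) - σ l • u0 := by
    have e1 : (1 : Matrix n n K) = M2 * M2⁻¹ := (Matrix.mul_nonsing_inv _ hu2).symm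
    have e2 : l • M2 - σ l • M1 = (l - σ l) • (1 : Matrix n n K) := by
      rw [hM1, hM2, smul_add, smul_add, smul_smul, smul_smul, mul_comm l (σ l), sub_smul]
      abel
    calc w = ((l - σ l) • (1 : Matrix n n K)) * M2⁻¹ := by
          rw [hw, Matrix.smul_mul, Matrix.one_mul]
      _ = (l • M2 - σ l • M1) * M2⁻¹ := by rw [e2]
      _ = l • (M2 * M2⁻¹) - σ l • (M1 * M2⁻¹) := by
          rw [Matrix.sub_mul, Matrix.smul_mul, Matrix.smul_mul]
      _ = l • (1 : Matrix n n K) - σ l • u0 := by rw [← e1]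
  have hwdet : IsUnit w.det := by
    apply Matrix.isUnit_det_of_right_inverse (B := (l - σ l)⁻¹ • M2)
    rw [hw, Matrix.smul_mul, Matrix.mul_smul, Matrix.nonsing_inv_mul _ hu2, smul_smul,
      mul_inv_cancel₀ hne, one_smul]
  have hwN : w * N = N * w := by
    rw [hw, Matrix.smul_mul, Matrix.mul_smul, hNM2i]
  refine ⟨u0, ?_, ?_, ?_, ?_⟩
  · have e1 : τ u0 = M1⁻¹ * M2 := by
      rw [hu0, hmul, hτM2i, hτM1]
    calc τ u0 * u0 = M1⁻¹ * (M2 * M1) * M2⁻¹ := by
          rw [e1, hu0]; simp only [Matrix.mul_assoc]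
      _ = (M1⁻¹ * M1) * (M2 * M2⁻¹) := by rw [← hM12]; simp only [Matrix.mul_assoc]
      _ = 1 := by
          rw [Matrix.nonsing_inv_mul _ hu1, Matrix.mul_nonsing_inv _ hu2, Matrix.one_mul]
  · intro c
    constructor
    · intro hc
      have hcw : c * w = w * c := by
        rw [hw2, Matrix.mul_sub, Matrix.sub_mul, Matrix.mul_smul, Matrix.mul_smul,
          Matrix.smul_mul, Matrix.smul_mul, Matrix.mul_one, Matrix.one_mul, hc]
      have h2 : c * (u0 - 1) = (u0 - 1) * c := by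
        rw [Matrix.mul_sub, Matrix.sub_mul, Matrix.mul_one, Matrix.one_mul, hc]
      rw [hw1] at h2
      apply cancel_left_of_isUnit w _ _ hwdet
      calc w * (c * N) = (c * w) * N := by rw [hcw, Matrix.mul_assoc]
        _ = c * (w * N) := by rw [Matrix.mul_assoc]
        _ = w * N * c := h2
        _ = w * (N * c) := by rw [Matrix.mul_assoc]
    · intro hc
      have h2 : c * M1 = M1 * c := comm_one_add_smul c N hc l
      have h3 : c * M2 = M2 * c := comm_one_add_smul c N hc (σ l)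
      have h4 : c * M2⁻¹ = M2⁻¹ * c := comm_inv h3 hu2
      calc c * u0 = (c * M1) * M2⁻¹ := by rw [hu0, Matrix.mul_assoc]
        _ = M1 * (c * M2⁻¹) := by rw [h2, Matrix.mul_assoc]
        _ = u0 * c := by rw [h4, hu0, Matrix.mul_assoc]
  · intro k
    have hc : Commute w N := hwN
    rw [hw1, hc.mul_pow]
    apply Matrix.rank_mul_eq_right_of_isUnit_det
    rw [Matrix.det_pow]
    exact hwdet.pow k
  · intro k hk
    have hc : Commute w N := hwN
    rw [hw1, hc.mul_pow, hk, Matrix.mul_zero]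

end cayley

section model

open Cfsg.Agent.Lib.Helper43_JordanMatrix

variable {K : Type*} [Field K] {t : ℕ} (d : Fin t → ℕ)

theorem isNilpotent_N0 : IsNilpotent (N0 d K) := by
  obtain ⟨m, hm⟩ := isNilpotent_jordanType (F := K) d
  refine ⟨m, ?_⟩
  rw [← Matrix.toLin'_pow] at hm
  apply Matrix.toLin'.injective
  rw [map_zero]
  exact hm

/-- a `tau`-unitary unipotent matrix of the model with the commutant of `N0` -/
theorem exists_model_unitary (σ : K →+* K) (hσ : ∀ x, σ (σ x) = x) (hne : ∃ l, σ l ≠ l) :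
    ∃ u0 : Matrix (Idx d) (Idx d) K, tau d σ u0 * u0 = 1 ∧
      (∀ c, c * u0 = u0 * c ↔ c * N0 d K = N0 d K * c) ∧
      (∀ k, ((u0 - 1) ^ k).rank = (N0 d K ^ k).rank) ∧
      ∀ k, N0 d K ^ k = 0 → (u0 - 1) ^ k = 0 := by
  obtain ⟨l, hl⟩ := hne
  exact exists_cayley σ hσ l hl (tau d σ) (tau_add d σ) (tau_mul d σ) (tau_smul d σ) (tau_one d σ)
    (N0 d K) (isNilpotent_N0 d) (tau_N0 d σ)

end model

end Cfsg.Agent.Lib.Helper43_GUCent
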