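import Cfsg.Agent.Lib.Helper43_SpCent2
import Cfsg.Agent.Lib.Helper43_GUCent5

set_option autoImplicit false

/-!
The Cayley transform of a skew-adjoint nilpotent matrix, nilpotency of the elements of the
commutant of `N0` with vanishing head blocks, and the lifting of an equality of head blocks to an
equivalence of self-adjoint elements of the commutant.
-/

namespace Cfsg.Agent.Lib.Helper43_SpCent

open Matrix Module
open Cfsg.Agent.Lib.Helper43_Jordan Cfsg.Agent.Lib.Helper43_UnipCent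
open Cfsg.Agent.Lib.Helper43_GUCent

section cayley

variable {K : Type*} [Field K] {n : Type*} [Fintype n] [DecidableEq n]

/-- the Cayley transform of a nilpotent matrix for an anti-automorphism exchanging
`1 + l1 N` and `1 + l2 N` -/
theorem exists_cayley_gen (l1 l2 : K) (hl : l1 ≠ l2)
    (τ : Matrix n n K → Matrix n n K)
    (hmul : ∀ X Y, τ (X * Y) = τ Y * τ X) (h1 : τ 1 = 1)
    (N : Matrix n n K) (hN : IsNilpotent N)
    (hτ1 : τ (1 + l1 • N) = 1 + l2 • N) (hτ2 : τ (1 + l2 • N) = 1 + l1 • N) :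
    ∃ u0 : Matrix n n K, τ u0 * u0 = 1 ∧ (∀ c, c * u0 = u0 * c ↔ c * N = N * c) ∧
      (∀ k, ((u0 - 1) ^ k).rank = (N ^ k).rank) ∧ ∀ k, N ^ k = 0 → (u0 - 1) ^ k = 0 := by
  set M1 : Matrix n n K := 1 + l1 • N with hM1
  set M2 : Matrix n n K := 1 + l2 • N with hM2
  have hu1 : IsUnit M1.det := isUnit_det_one_add_smul N hN l1
  have hu2 : IsUnit M2.det := isUnit_det_one_add_smul N hN l2
  have hne : l1 - l2 ≠ 0 := fun h => hl (sub_eq_zero.1 h)
  have hNM2 : N * M2 = M2 * N := comm_one_add_smul N N rfl l2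
  have hNM2i : N * M2⁻¹ = M2⁻¹ * N := comm_inv hNM2 hu2
  have hM12 : M1 * M2 = M2 * M1 := by
    have : M2 * N = N * M2 := hNM2.symm
    exact (comm_one_add_smul M2 N this l1).symm
  have hτM1 : τ M1 = M2 := hτ1
  have hτM2 : τ M2 = M1 := hτ2
  have hτM2i : τ (M2⁻¹) = M1⁻¹ := by
    symm
    apply Matrix.inv_eq_left_inv
    rw [← hτM2, ← hmul, Matrix.mul_nonsing_inv _ hu2, h1]
  set u0 : Matrix n n K := M1 * M2⁻¹ with hu0
  set w : Matrix n n K := (l1 - l2) • M2⁻¹ with hw
  have hw1 : u0 - 1 = w * N := by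
    have e1 : (1 : Matrix n n K) = M2 * M2⁻¹ := (Matrix.mul_nonsing_inv _ hu2).symm
    have e2 : M1 - M2 = (l1 - l2) • N := by
      rw [hM1, hM2, sub_smul]
      abel
    calc u0 - 1 = M1 * M2⁻¹ - M2 * M2⁻¹ := by rw [← e1]
      _ = (M1 - M2) * M2⁻¹ := by rw [Matrix.sub_mul]
      _ = w * N := by rw [e2, hw, Matrix.smul_mul, Matrix.smul_mul, hNM2i]
  have hw2 : w = l1 • (1 : Matrix n n K) - l2 • u0 := by
    have e1 : (1 : Matrix n n K) = M2 * M2⁻¹ := (Matrix.mul_nonsing_inv _ hu2).symm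
    have e2 : l1 • M2 - l2 • M1 = (l1 - l2) • (1 : Matrix n n K) := by
      rw [hM1, hM2, smul_add, smul_add, smul_smul, smul_smul, mul_comm l1 l2, sub_smul]
      abel
    calc w = ((l1 - l2) • (1 : Matrix n n K)) * M2⁻¹ := by
          rw [hw, Matrix.smul_mul, Matrix.one_mul]
      _ = (l1 • M2 - l2 • M1) * M2⁻¹ := by rw [e2]
      _ = l1 • (M2 * M2⁻¹) - l2 • (M1 * M2⁻¹) := by
          rw [Matrix.sub_mul, Matrix.smul_mul, Matrix.smul_mul]
      _ = l1 • (1 : Matrix n n K) - l2 • u0 := by rw [← e1]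
  have hwdet : IsUnit w.det := by
    apply Matrix.isUnit_det_of_right_inverse (B := (l1 - l2)⁻¹ • M2)
    rw [hw, Matrix.smul_mul, Matrix.mul_smul, Matrix.nonsing_inv_mul _ hu2, smul_smul,
      mul_inv_cancel₀ hne, one_smul]
  have hwN : w * N = N * w := by
    rw [hw, Matrix.smul_mul, Matrix.mul_smul, hNM2i]
  refine ⟨u0, ?_, ?_, ?_, ?_⟩
  · have e1 : τ u0 = M1⁻¹ * M2 := by
      rw [hu0, hmul, hτM2i, hτM1]
    calc τ u0 * u0 = M1⁻¹ * (M2 * M1) * M2⁻¹ := by
          rw [e1, hu0]; simp only [Matrix.mul_assoc]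
      _ = (M1⁻¹ * M1) * (M2 * M2⁻¹) := by rw [← hM12]; simp only [Matrix.mul_assoc]
      _ = 1 := by
          rw [Matrix.nonsing_inv_mul _ hu1, Matrix.mul_nonsing_inv _ hu2, Matrix.one_mul]
  · intro c
    constructor
    · intro hc
      have hcw : c * w = w * c := by
        rw [hw2, Matrix.mul_sub, Matrix.sub_mul, Matrix.mul_smul, Matrix.mul_smul,
          Matrix.smul_mul, Matrix.smul_mul, Matrix.mul_one, Matrix.one_mul, hc]
      have h2 : c * (u0 - 1) = (u0 - 1) * c := by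
        rw [Matrix.mul_sub, Matrix.sub_mul, Matrix.mul_one, Matrix.one_mul, hc]
      rw [hw1] at h2
      apply cancel_left_of_isUnit w _ _ hwdet
      calc w * (c * N) = (c * w) * N := by rw [hcw, Matrix.mul_assoc]
        _ = c * (w * N) := by rw [Matrix.mul_assoc]
        _ = w * N * c := h2
        _ = w * (N * c) := by rw [Matrix.mul_assoc]
    · intro hc
      have h2 : c * M1 = M1 * c := comm_one_add_smul c N hc l1
      have h3 : c * M2 = M2 * c := comm_one_add_smul c N hc l2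
      have h4 : c * M2⁻¹ = M2⁻¹ * c := comm_inv h3 hu2
      calc c * u0 = (c * M1) * M2⁻¹ := by rw [hu0, Matrix.mul_assoc]
        _ = M1 * (c * M2⁻¹) := by rw [h2, Matrix.mul_assoc]
        _ = u0 * c := by rw [h4, hu0, Matrix.mul_assoc]
  · intro k
    have hc : Commute w N := hwN
    rw [hw1, hc.mul_pow]
    apply Matrix.rank_mul_eq_right_of_isUnit_det
    rw [Matrix.det_pow]
    exact hwdet.pow k
  · intro k hk
    have hc : Commute w N := hwN
    rw [hw1, hc.mul_pow, hk, Matrix.mul_zero]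

end cayley

section model

variable {F : Type*} [Field F] {t : ℕ} {d : Fin t → ℕ} (P : Pairing d F)

/-- a `tauS`-unitary unipotent matrix of the model with the commutant of `N0` -/
theorem exists_model_symp (h2 : (2 : F) ≠ 0) :
    ∃ u0 : Matrix (Idx d) (Idx d) F, tauS P u0 * u0 = 1 ∧
      (∀ c, c * u0 = u0 * c ↔ c * N0 d F = N0 d F * c) ∧
      (∀ k, ((u0 - 1) ^ k).rank = (N0 d F ^ k).rank) ∧
      ∀ k, N0 d F ^ k = 0 → (u0 - 1) ^ k = 0 := by
  have hne : (1 : F) ≠ -1 := by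
    intro h
    apply h2
    have : (2 : F) = 1 + 1 := by norm_num
    rw [this]
    nth_rewrite 2 [h]
    exact add_neg_cancel 1
  apply exists_cayley_gen (1 : F) (-1) hne (tauS P) (tauS_mul P) (tauS_one P) (N0 d F)
    (isNilpotent_N0 d)
  · rw [tauS_add, tauS_one, tauS_smul, tauS_N0, one_smul, neg_smul, one_smul]
  · rw [tauS_add, tauS_one, tauS_smul, tauS_N0, one_smul, neg_smul, one_smul, neg_neg]

end model

section nilp

variable {F : Type*} [Field F] {t : ℕ} (d : Fin t → ℕ)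

theorem pow_comm_N0 (c : Matrix (Idx d) (Idx d) F) (hc : c * N0 d F = N0 d F * c) (k : ℕ) :
    c ^ k * N0 d F = N0 d F * c ^ k := by
  have h : Commute c (N0 d F) := hc
  exact h.pow_left k

theorem mul_comm_N0 (c c' : Matrix (Idx d) (Idx d) F) (hc : c * N0 d F = N0 d F * c)
    (hc' : c' * N0 d F = N0 d F * c') : (c * c') * N0 d F = N0 d F * (c * c') := by
  rw [Matrix.mul_assoc, hc', ← Matrix.mul_assoc, hc, Matrix.mul_assoc]

theorem one_comm_N0 : (1 : Matrix (Idx d) (Idx d) F) * N0 d F = N0 d F * 1 := by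
  rw [Matrix.one_mul, Matrix.mul_one]

theorem sub_comm_N0 (c c' : Matrix (Idx d) (Idx d) F) (hc : c * N0 d F = N0 d F * c)
    (hc' : c' * N0 d F = N0 d F * c') : (c - c') * N0 d F = N0 d F * (c - c') := by
  rw [Matrix.sub_mul, Matrix.mul_sub, hc, hc']

theorem hpi_pow (hd : ∀ k, 1 ≤ d k) (c : Matrix (Idx d) (Idx d) F)
    (hc : c * N0 d F = N0 d F * c) (k : ℕ) (a : BlockIdx d) :
    hpi d hd (c ^ k) a = (hpi d hd c a) ^ k := by
  induction k with
  | zero => rw [pow_zero, pow_zero, hpi_one]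
  | succ k ih =>
    rw [pow_succ, pow_succ, hpi_mul d hd _ _ (pow_comm_N0 d c hc k) hc, ih]

theorem hpi_sub (hd : ∀ k, 1 ≤ d k) (c c' : Matrix (Idx d) (Idx d) F) (a : BlockIdx d) :
    hpi d hd (c - c') a = hpi d hd c a - hpi d hd c' a := by
  rw [map_sub]
  rfl

theorem hpi_add (hd : ∀ k, 1 ≤ d k) (c c' : Matrix (Idx d) (Idx d) F) (a : BlockIdx d) :
    hpi d hd (c + c') a = hpi d hd c a + hpi d hd c' a := by
  rw [map_add]
  rfl

/-- an element of the commutant with vanishing head blocks is nilpotent -/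
theorem isNilpotent_of_hpi_eq_zero [Finite F] (hd : ∀ k, 1 ≤ d k)
    (c : Matrix (Idx d) (Idx d) F) (hc : c * N0 d F = N0 d F * c)
    (h0 : ∀ a, hpi d hd c a = 0) : IsNilpotent c := by
  classical
  obtain ⟨x, y, hxy, he⟩ := Finite.exists_ne_map_eq_of_infinite (fun i : ℕ => c ^ i)
  have key : ∀ i k : ℕ, 0 < k → c ^ i = c ^ (i + k) → c ^ i = 0 := by
    intro i k hk h
    have hck : (1 - c ^ k) * N0 d F = N0 d F * (1 - c ^ k) :=
      sub_comm_N0 d _ _ (one_comm_N0 d) (pow_comm_N0 d c hc k)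
    have hdet : (1 - c ^ k).det ≠ 0 := by
      rw [det_ne_zero_iff d hd _ hck]
      intro a
      rw [hpi_sub, hpi_one, hpi_pow d hd c hc, h0 a, zero_pow hk.ne', sub_zero, Matrix.det_one]
      exact one_ne_zero
    have h3 : c ^ i * (1 - c ^ k) = 0 := by
      rw [Matrix.mul_sub, Matrix.mul_one, ← pow_add, ← h, sub_self]
    have hu : IsUnit (1 - c ^ k).det := isUnit_iff_ne_zero.2 hdet
    calc c ^ i = c ^ i * ((1 - c ^ k) * (1 - c ^ k)⁻¹) := by
          rw [Matrix.mul_nonsing_inv _ hu, Matrix.mul_one]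
      _ = 0 := by rw [← Matrix.mul_assoc, h3, Matrix.zero_mul]
  rcases Nat.lt_or_gt_of_ne hxy with hlt | hgt
  · refine ⟨x, key x (y - x) (by omega) ?_⟩
    have : x + (y - x) = y := by omega
    rw [this]
    exact he
  · refine ⟨y, key y (x - y) (by omega) ?_⟩
    have : y + (x - y) = x := by omega
    rw [this]
    exact he.symm

end nilp


section lift

variable {F : Type*} [Field F] {t : ℕ} {d : Fin t → ℕ} (P : Pairing d F)

theorem tauS_pow (X : Matrix (Idx d) (Idx d) F) (k : ℕ) : tauS P (X ^ k) = tauS P X ^ k := by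
  induction k with
  | zero => rw [pow_zero, pow_zero, tauS_one]
  | succ k ih => rw [pow_succ, tauS_mul, ih, ← pow_succ']

theorem tauS_inv (X : Matrix (Idx d) (Idx d) F) (hX : X.det ≠ 0) :
    tauS P X⁻¹ = (tauS P X)⁻¹ := by
  symm
  apply Matrix.inv_eq_left_inv
  rw [← tauS_mul, Matrix.mul_nonsing_inv _ (isUnit_iff_ne_zero.2 hX), tauS_one]

theorem sub_one_pow_char_pow' {n : Type*} [Fintype n] [DecidableEq n] (p : ℕ) [Fact p.Prime]
    [CharP F p] (g : Matrix n n F) (k : ℕ) : (g - 1) ^ (p ^ k) = g ^ (p ^ k) - 1 := by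
  rcases isEmpty_or_nonempty n with hn | hn
  · exact Subsingleton.elim _ _
  · have := Matrix.charP (n := n) (R := F) p
    rw [sub_pow_char_pow_of_commute p k (Commute.one_right g), one_pow]

/-- two invertible self-adjoint elements of the commutant with the same head blocks are
equivalent -/
theorem lift_orbit [Finite F] (p : ℕ) [Fact p.Prime] [CharP F p] (hp : p ≠ 2)
    (hd : ∀ k, 1 ≤ d k) (h' h'' : Matrix (Idx d) (Idx d) F)
    (hc' : h' * N0 d F = N0 d F * h') (hc'' : h'' * N0 d F = N0 d F * h'')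
    (hs' : tauS P h' = h') (hs'' : tauS P h'' = h'') (hdet : h''.det ≠ 0)
    (heq : ∀ a, hpi d hd h' a = hpi d hd h'' a) :
    ∃ c : Matrix (Idx d) (Idx d) F, c * N0 d F = N0 d F * c ∧ c.det ≠ 0 ∧
      tauS P c * h'' * c = h' := by
  classical
  have hpp : p.Prime := Fact.out
  have hu : IsUnit h''.det := isUnit_iff_ne_zero.2 hdet
  have hci : h''⁻¹ * N0 d F = N0 d F * h''⁻¹ := inv_comm_N0 d h'' hc'' hdet
  set y : Matrix (Idx d) (Idx d) F := h''⁻¹ * h' with hy
  have hyc : y * N0 d F = N0 d F * y := mul_comm_N0 d _ _ hci hc'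
  have hy1 : ∀ a, hpi d hd y a = 1 := by
    intro a
    rw [hy, hpi_mul d hd _ _ hci hc', heq a, ← hpi_mul d hd _ _ hci hc'',
      Matrix.nonsing_inv_mul _ hu, hpi_one]
  have hn : IsNilpotent (y - 1) :=
    isNilpotent_of_hpi_eq_zero d hd _ (sub_comm_N0 d _ _ hyc (one_comm_N0 d))
      (fun a => by rw [hpi_sub, hy1, hpi_one, sub_self])
  obtain ⟨k, hk⟩ := hn
  have hpow : y ^ (p ^ k) = 1 := by
    have h1 : (y - 1) ^ (p ^ k) = 0 := pow_eq_zero_of_le (Nat.lt_pow_self hpp.one_lt).le hk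
    rw [sub_one_pow_char_pow' p] at h1
    exact sub_eq_zero.1 h1
  have hodd : Odd (p ^ k) := (hpp.odd_of_ne_two hp).pow
  obtain ⟨j, hj⟩ := hodd
  have hh''y : h'' * y = h' := by
    rw [hy, ← Matrix.mul_assoc, Matrix.mul_nonsing_inv _ hu, Matrix.one_mul]
  have hτy : tauS P y * h'' = h'' * y := by
    rw [hh''y, hy, tauS_mul, hs', tauS_inv P _ hdet, hs'', Matrix.mul_assoc,
      Matrix.nonsing_inv_mul _ hu, Matrix.mul_one]
  have hτpow : ∀ i : ℕ, tauS P (y ^ i) * h'' = h'' * y ^ i := by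
    intro i
    induction i with
    | zero => rw [pow_zero, tauS_one, Matrix.one_mul, Matrix.mul_one]
    | succ i ih =>
      rw [pow_succ', tauS_mul, Matrix.mul_assoc, hτy, ← Matrix.mul_assoc, ih, Matrix.mul_assoc,
        ← pow_succ, ← pow_succ']
  have hsq : y ^ (j + 1) * y ^ (j + 1) = y := by
    rw [← pow_add]
    have : j + 1 + (j + 1) = p ^ k + 1 := by omega
    rw [this, pow_succ, hpow, Matrix.one_mul]
  have hydet : y.det ≠ 0 := by
    intro h0
    have := congrArg Matrix.det hpow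
    rw [Matrix.det_pow, h0, zero_pow (pow_pos hpp.pos k).ne', Matrix.det_one] at this
    exact zero_ne_one this
  refine ⟨y ^ (j + 1), pow_comm_N0 d y hyc _, ?_, ?_⟩
  · rw [Matrix.det_pow]
    exact pow_ne_zero _ hydet
  · rw [hτpow, Matrix.mul_assoc, hsq, hh''y]

end lift

end Cfsg.Agent.Lib.Helper43_SpCent
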