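import Cfsg.Agent.Lib.Helper43_SpCent3
import Cfsg.Agent.Lib.Helper40_SpConj
import Cfsg.Agent.S2623

set_option autoImplicit false

/-!
Congruence of invertible antisymmetric matrices, and of invertible symmetric matrices with the
same discriminant class, over a finite field of odd characteristic.
-/

namespace Cfsg.Agent.Lib.Helper43_SpCent

open Matrix Module

section alt

universe v

variable {F : Type v} [Field F]

theorem toBilin'_self_eq_zero (h2 : (2 : F) ≠ 0) {n : Type*} [Fintype n] [DecidableEq n]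
    (M : Matrix n n F) (hM : Mᵀ = -M) (x : n → F) : Matrix.toBilin' M x x = 0 := by
  rw [Matrix.toBilin'_apply']
  have h1 : x ⬝ᵥ M *ᵥ x = -(x ⬝ᵥ M *ᵥ x) := by
    nth_rewrite 1 [Matrix.dotProduct_mulVec, ← Matrix.mulVec_transpose, hM, Matrix.neg_mulVec,
      neg_dotProduct, dotProduct_comm]
    rfl
  have h3 : (2 : F) * (x ⬝ᵥ M *ᵥ x) = 0 := by
    rw [two_mul]
    nth_rewrite 1 [h1]
    exact neg_add_cancel _
  rcases mul_eq_zero.1 h3 with h4 | h4
  · exact absurd h4 h2
  · exact h4

/-- invertible antisymmetric matrices of the same size are congruent -/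
theorem exists_congr_alt [Finite F] (h2 : (2 : F) ≠ 0) {I I' : Type} [Fintype I] [DecidableEq I]
    [Fintype I'] [DecidableEq I'] (hcard : Fintype.card I = Fintype.card I')
    (B : Matrix I I F) (B' : Matrix I' I' F) (hB : Bᵀ = -B) (hBdet : B.det ≠ 0)
    (hB' : B'ᵀ = -B') (hBdet' : B'.det ≠ 0) :
    ∃ (R : Matrix I' I F) (Ri : Matrix I I' F), R * Ri = 1 ∧ Ri * R = 1 ∧ Rᵀ * B' * R = B := by
  have hdimV : finrank F (I → F) = Fintype.card I := Module.finrank_fintype_fun_eq_card F
  have hdimW : finrank F (I' → F) = Fintype.card I' := Module.finrank_fintype_fun_eq_card F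
  obtain ⟨e, -, he⟩ := Cfsg.Agent.Lib.Helper40_SpConj.exists_isometry_conj (F := F)
    (Fintype.card I) (Matrix.toBilin' B) (Matrix.toBilin' B') (1 : End F (I → F))
    (1 : End F (I' → F)) 1 hdimV
    ⟨toBilin'_self_eq_zero h2 B hB, fun _ _ => rfl, pow_one 1, one_pos⟩
    ⟨toBilin'_self_eq_zero h2 B' hB', fun _ _ => rfl, pow_one 1, one_pos⟩
    (LinearMap.BilinForm.nondegenerate_toBilin'_of_det_ne_zero' B hBdet)
    (LinearMap.BilinForm.nondegenerate_toBilin'_of_det_ne_zero' B' hBdet')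
    Module.End.isSemisimple_id Module.End.isSemisimple_id
    (by rw [LinearMap.charpoly_one, LinearMap.charpoly_one, hdimV, hdimW, hcard])
  refine ⟨LinearMap.toMatrix' (e : (I → F) →ₗ[F] (I' → F)),
    LinearMap.toMatrix' (e.symm : (I' → F) →ₗ[F] (I → F)), ?_, ?_, ?_⟩
  · rw [← LinearMap.toMatrix'_comp]
    simp
  · rw [← LinearMap.toMatrix'_comp]
    simp
  · apply Matrix.toBilin'.injective
    rw [← Matrix.toBilin'_comp]
    apply LinearMap.ext
    intro x
    apply LinearMap.ext
    intro y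
    rw [LinearMap.BilinForm.comp_apply, Matrix.toLin'_toMatrix']
    exact he x y

end alt

section sym

variable {F : Type*} [Field F]

/-- the quadratic form with polar form given by a symmetric matrix -/
noncomputable def qf {n : Type*} [Fintype n] [DecidableEq n] (M : Matrix n n F) :
    QuadraticForm F (n → F) :=
  (Matrix.toBilin' ((2 : F)⁻¹ • M)).toQuadraticMap

theorem polar_qf (h2 : (2 : F) ≠ 0) {n : Type*} [Fintype n] [DecidableEq n] (M : Matrix n n F)
    (hM : Mᵀ = M) (x y : n → F) :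
    QuadraticMap.polar (⇑(qf M)) x y = Matrix.toBilin' M x y := by
  unfold qf
  rw [LinearMap.BilinMap.polar_toQuadraticMap, Matrix.toBilin'_apply', Matrix.toBilin'_apply',
    Matrix.toBilin'_apply']
  have h1 : y ⬝ᵥ ((2 : F)⁻¹ • M) *ᵥ x = x ⬝ᵥ ((2 : F)⁻¹ • M) *ᵥ y := by
    rw [Matrix.dotProduct_mulVec, ← Matrix.mulVec_transpose, Matrix.transpose_smul, hM,
      dotProduct_comm]
  rw [h1, Matrix.smul_mulVec, dotProduct_smul, smul_eq_mul]
  field_simp
  ring

theorem polarBilin_qf (h2 : (2 : F) ≠ 0) {n : Type*} [Fintype n] [DecidableEq n]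
    (M : Matrix n n F) (hM : Mᵀ = M) :
    QuadraticMap.polarBilin (qf M) = Matrix.toBilin' M := by
  apply LinearMap.ext
  intro x
  apply LinearMap.ext
  intro y
  rw [QuadraticMap.polarBilin_apply_apply, polar_qf h2 M hM]

theorem gram_qf (h2 : (2 : F) ≠ 0) {n : ℕ} (M : Matrix (Fin n) (Fin n) F) (hM : Mᵀ = M) :
    Matrix.of (fun i j : Fin n =>
      QuadraticMap.polar (⇑(qf M)) (Pi.single i 1) (Pi.single j 1)) = M := by
  ext i j
  rw [Matrix.of_apply, polar_qf h2 M hM, Matrix.toBilin'_single]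

/-- invertible symmetric matrices with the same discriminant class are congruent (`Fin n`) -/
theorem exists_congr_sym_fin [Fintype F] (h2 : (2 : F) ≠ 0) {n : ℕ}
    (Y Y' : Matrix (Fin n) (Fin n) F) (hY : Yᵀ = Y) (hY' : Y'ᵀ = Y') (hdet : Y.det ≠ 0)
    (hdet' : Y'.det ≠ 0) (hsq : IsSquare (Y.det * Y'.det)) :
    ∃ c : Matrix (Fin n) (Fin n) F, c.det ≠ 0 ∧ cᵀ * Y * c = Y' := by
  have hnd : (QuadraticMap.polarBilin (qf Y)).Nondegenerate := by
    rw [polarBilin_qf h2 Y hY]
    exact LinearMap.BilinForm.nondegenerate_toBilin'_of_det_ne_zero' Y hdet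
  have hnd' : (QuadraticMap.polarBilin (qf Y')).Nondegenerate := by
    rw [polarBilin_qf h2 Y' hY']
    exact LinearMap.BilinForm.nondegenerate_toBilin'_of_det_ne_zero' Y' hdet'
  have key := Cfsg.Agent.S2623.result h2 (qf Y') (qf Y) hnd' hnd
  rw [gram_qf h2 Y hY, gram_qf h2 Y' hY', mul_comm] at key
  obtain ⟨g, hg⟩ := key.2 hsq
  have hpol : ∀ v w, QuadraticMap.polar (⇑(qf Y)) (g v) (g w) =
      QuadraticMap.polar (⇑(qf Y')) v w := by
    intro v w
    simp only [QuadraticMap.polar]
    rw [← map_add, hg, hg, hg]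
  refine ⟨LinearMap.toMatrix' (g : (Fin n → F) →ₗ[F] (Fin n → F)), ?_, ?_⟩
  · rw [LinearMap.det_toMatrix']
    exact (LinearEquiv.isUnit_det' g).ne_zero
  · apply Matrix.toBilin'.injective
    rw [← Matrix.toBilin'_comp]
    apply LinearMap.ext
    intro x
    apply LinearMap.ext
    intro y
    rw [LinearMap.BilinForm.comp_apply, Matrix.toLin'_toMatrix', ← polar_qf h2 Y hY,
      ← polar_qf h2 Y' hY']
    exact hpol x y

/-- invertible symmetric matrices with the same discriminant class are congruent -/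
theorem exists_congr_sym [Fintype F] (h2 : (2 : F) ≠ 0) {I : Type*} [Fintype I] [DecidableEq I]
    (Y Y' : Matrix I I F) (hY : Yᵀ = Y) (hY' : Y'ᵀ = Y') (hdet : Y.det ≠ 0)
    (hdet' : Y'.det ≠ 0) (hsq : IsSquare (Y.det * Y'.det)) :
    ∃ c : Matrix I I F, c.det ≠ 0 ∧ cᵀ * Y * c = Y' := by
  let e : Fin (Fintype.card I) ≃ I := (Fintype.equivFin I).symm
  obtain ⟨c, hc, hcY⟩ := exists_congr_sym_fin h2 (Y.submatrix e e) (Y'.submatrix e e)
    (by rw [Matrix.transpose_submatrix, hY]) (by rw [Matrix.transpose_submatrix, hY'])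
    (by rw [Matrix.det_submatrix_equiv_self]; exact hdet)
    (by rw [Matrix.det_submatrix_equiv_self]; exact hdet')
    (by rw [Matrix.det_submatrix_equiv_self, Matrix.det_submatrix_equiv_self]; exact hsq)
  refine ⟨c.submatrix e.symm e.symm, ?_, ?_⟩
  · rw [Matrix.det_submatrix_equiv_self]
    exact hc
  · have h1 : Y = (Y.submatrix e e).submatrix e.symm e.symm := by
      rw [Matrix.submatrix_submatrix]
      simp
    have h2' : Y' = (Y'.submatrix e e).submatrix e.symm e.symm := by
      rw [Matrix.submatrix_submatrix]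
      simp
    rw [h2', ← hcY, Matrix.transpose_submatrix]
    nth_rewrite 1 [h1]
    rw [Matrix.submatrix_mul_equiv, Matrix.submatrix_mul_equiv]

end sym

end Cfsg.Agent.Lib.Helper43_SpCent
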