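import Cfsg.Agent.Lib.Helper43_UnipIsom

set_option autoImplicit false

/-!
Unipotent isometries of symmetric bilinear forms in characteristic not two: the Jordan blocks of
each even size come in pairs.
-/

namespace Cfsg.Agent.Lib.Helper43_UnipIsom

open Module
open Cfsg.Agent.Lib.Helper43_Jordan

section sym

variable {F : Type*} [Field F] {V : Type*} [AddCommGroup V] [Module F V]
variable {ω : LinearMap.BilinForm F V} {u v : End F V}

theorem IsomData.v_fix (h : IsomData ω u v) {p : V} (hp : (u - 1) p = 0) : v p = p := by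
  have hu : u p = p := by
    rw [LinearMap.sub_apply, Module.End.one_apply, sub_eq_zero] at hp
    exact hp
  conv_lhs => rw [← hu]
  exact h.vu_apply p

theorem IsomData.v_pow_fix (h : IsomData ω u v) {p : V} (hp : (u - 1) p = 0) (k : ℕ) :
    (v ^ k) p = p := by
  induction k with
  | zero => simp
  | succ k ih => rw [pow_succ, Module.End.mul_apply, h.v_fix hp, ih]

/-- for a symmetric form in characteristic not two the form `ω (x, N ^ (2 a + 1) x)` vanishes
on the kernel of `N ^ (2 a + 2)` -/
theorem IsomData.alt_of_even (h : IsomData ω u v) (hsymm : ∀ x y, ω x y = ω y x)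
    (h2 : (2 : F) ≠ 0) (a : ℕ) (x : V) (hx : ((u - 1) ^ (2 * a + 2)) x = 0) :
    ω x (((u - 1) ^ (2 * a + 1)) x) = 0 := by
  set p := ((u - 1) ^ (2 * a + 1)) x with hp
  have hNp : (u - 1) p = 0 := by
    rw [hp, ← Module.End.mul_apply, ← pow_succ']
    exact hx
  have h1 : ω x p = ω (((v - 1) ^ (2 * a + 1)) x) x := by
    rw [hp, h.adj_right_pow]
  have h3 : ((v - 1) ^ (2 * a + 1)) x = -p := by
    rw [h.adj_pow_eq, Module.End.mul_apply, Module.End.mul_apply, ← hp, h.v_pow_fix hNp,
      Odd.neg_one_pow ⟨a, rfl⟩, LinearMap.neg_apply, Module.End.one_apply]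
  rw [h3, map_neg, LinearMap.neg_apply, hsymm p x] at h1
  have h4 : (2 : F) * ω x p = 0 := by
    rw [two_mul]
    nth_rewrite 1 [h1]
    rw [neg_add_cancel]
  exact (mul_eq_zero.1 h4).resolve_left h2

end sym

section jtype

universe uu

variable {F V : Type uu} [Field F] [AddCommGroup V] [Module F V] [FiniteDimensional F V]
variable {ω : LinearMap.BilinForm F V} {u v : End F V}

/-- for a unipotent isometry of a nondegenerate symmetric form in characteristic not two the
Jordan blocks of each even size come in pairs -/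
theorem even_count_jtype_of_symm (h : IsomData ω u v) (hnd : ω.Nondegenerate)
    (hsymm : ∀ x y, ω x y = ω y x) (h2 : (2 : F) ≠ 0)
    (hnil : IsNilpotent (u - 1)) (j : ℕ) (hj : Even j) (hj0 : 0 < j) :
    Even (Multiset.count j (jtype (u - 1))) := by
  obtain ⟨a, ha⟩ := hj
  have hja : j = 2 * (a - 1) + 2 := by omega
  rw [hja]
  apply even_count_jtype h hnd hnil (2 * (a - 1) + 2) (by omega)
  intro x hx
  have : 2 * (a - 1) + 2 - 1 = 2 * (a - 1) + 1 := by omega
  rw [this]
  exact h.alt_of_even hsymm h2 (a - 1) x hx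

end jtype

end Cfsg.Agent.Lib.Helper43_UnipIsom
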