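import Cfsg.Agent.Lib.Helper43_OrthDisc
import Cfsg.Agent.Lib.Helper43_SpCent4
import Cfsg.Agent.Lib.Helper43_SpCent3
import Cfsg.Agent.Lib.Helper43_UnipIsomSym
import Cfsg.Agent.Lib.Helper14_CartanDieudonne
import Cfsg.Prelude.Def_GeometricClasses

set_option autoImplicit false

/-!
Unipotent elements of prescribed Jordan type in `Ω⁺_{2d}(q)` (`q` odd), and the Jordan type of a
unipotent isometry on an invariant nondegenerate subspace.
-/

namespace Cfsg.Agent.Lib.Helper43_OrthReal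

open Module Matrix
open Cfsg.Agent.Lib.Helper43_Jordan Cfsg.Agent.Lib.Helper43_SympJordan
open Cfsg.Agent.Lib.Helper43_OrthDisc

universe u

section transfer

variable {F : Type u} [Field F]

/-- intertwined nilpotent matrices have the same Jordan type -/
theorem jtype_eq_of_equiv {ι κ : Type} [Fintype ι] [Fintype κ] [DecidableEq ι] [DecidableEq κ]
    (N : Matrix ι ι F) (N' : Matrix κ κ F) (hN : IsNilpotent N) (e : (ι → F) ≃ₗ[F] (κ → F))
    (h : ∀ w, e (N *ᵥ w) = N' *ᵥ e w) :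
    IsNilpotent N' ∧ jtype (Matrix.toLin' N') = jtype (Matrix.toLin' N) := by
  have hpow : ∀ (k : ℕ) (w : ι → F), e ((N ^ k) *ᵥ w) = (N' ^ k) *ᵥ e w := by
    intro k
    induction k with
    | zero => intro w; simp
    | succ k ih =>
      intro w
      rw [pow_succ, ← Matrix.mulVec_mulVec, ih, h, Matrix.mulVec_mulVec, ← pow_succ]
  have hN' : IsNilpotent N' := by
    obtain ⟨k, hk⟩ := hN
    refine ⟨k, ?_⟩
    apply Matrix.toLin'.injective
    apply LinearMap.ext
    intro y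
    obtain ⟨w, rfl⟩ := e.surjective y
    rw [Matrix.toLin'_apply, ← hpow, hk, Matrix.zero_mulVec, map_zero, map_zero,
      LinearMap.zero_apply]
  refine ⟨hN', ?_⟩
  rw [eq_comm, jtype_eq_iff _ (isNilpotent_toLin' hN) _ (isNilpotent_toLin' hN')]
  exact ⟨e, fun w => by rw [Matrix.toLin'_apply, Matrix.toLin'_apply, h]⟩

/-- the Gram matrix of the polar form of `Σ xᵢ yᵢ` -/
def gramPlus (d : ℕ) (F : Type u) [Field F] : Matrix (Fin d ⊕ Fin d) (Fin d ⊕ Fin d) F :=
  fromBlocks 0 1 1 0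

theorem gramPlus_transpose (d : ℕ) : (gramPlus d F)ᵀ = gramPlus d F := by
  rw [gramPlus, fromBlocks_transpose]
  simp

theorem gramPlus_det (d : ℕ) : (gramPlus d F).det = (-1) ^ d :=
  Cfsg.Agent.Lib.Helper44_StdForms.det_antidiag d F

theorem two_mul_quadFormPlus (d : ℕ) (v : Fin d ⊕ Fin d → F) :
    2 * Cfsg.quadFormPlus d F v = v ⬝ᵥ (gramPlus d F *ᵥ v) := by
  rw [gramPlus, dotProduct, Fintype.sum_sum_type]
  simp only [Cfsg.quadFormPlus]
  have h1 : ∀ i : Fin d, (fromBlocks (0 : Matrix (Fin d) (Fin d) F) (1 : Matrix (Fin d) (Fin d) F)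
      (1 : Matrix (Fin d) (Fin d) F) (0 : Matrix (Fin d) (Fin d) F) *ᵥ v) (Sum.inl i) =
      v (Sum.inr i) := by
    intro i
    have := congrFun (fromBlocks_mulVec (0 : Matrix (Fin d) (Fin d) F)
      (1 : Matrix (Fin d) (Fin d) F) (1 : Matrix (Fin d) (Fin d) F)
      (0 : Matrix (Fin d) (Fin d) F) v) (Sum.inl i)
    rw [this]
    simp
  have h2 : ∀ i : Fin d, (fromBlocks (0 : Matrix (Fin d) (Fin d) F) (1 : Matrix (Fin d) (Fin d) F)
      (1 : Matrix (Fin d) (Fin d) F) (0 : Matrix (Fin d) (Fin d) F) *ᵥ v) (Sum.inr i) =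
      v (Sum.inl i) := by
    intro i
    have := congrFun (fromBlocks_mulVec (0 : Matrix (Fin d) (Fin d) F)
      (1 : Matrix (Fin d) (Fin d) F) (1 : Matrix (Fin d) (Fin d) F)
      (0 : Matrix (Fin d) (Fin d) F) v) (Sum.inr i)
    rw [this]
    simp
  simp only [h1, h2]
  rw [two_mul, ← Finset.sum_add_distrib, ← Finset.sum_add_distrib]
  apply Finset.sum_congr rfl
  intro i _
  ring

/-- matrices preserving the Gram matrix preserve the quadratic form (characteristic not two) -/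
theorem quadFormPlus_mulVec (h2 : (2 : F) ≠ 0) (d : ℕ) (X : Matrix (Fin d ⊕ Fin d) (Fin d ⊕ Fin d) F)
    (hX : Xᵀ * gramPlus d F * X = gramPlus d F) (v : Fin d ⊕ Fin d → F) :
    Cfsg.quadFormPlus d F (X *ᵥ v) = Cfsg.quadFormPlus d F v := by
  apply mul_left_cancel₀ h2
  rw [two_mul_quadFormPlus, two_mul_quadFormPlus, Matrix.mulVec_mulVec,
    ← Matrix.vecMul_transpose X v, ← Matrix.dotProduct_mulVec, Matrix.mulVec_mulVec,
    ← Matrix.mul_assoc, hX]

end transfer

section omega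

variable {ι : Type} [Fintype ι] [DecidableEq ι] {F : Type u} [Field F]

open Cfsg.Agent.Lib.Helper44_Orth Cfsg.Agent.Lib.Helper44_Refl
open Cfsg.Agent.Lib.Helper14_CartanDieudonne

/-- squares of isometries lie in the commutator subgroup of the isometry group -/
theorem sq_mem_commutator (h2 : (2 : F) ≠ 0) (Q : QuadraticForm F (ι → F))
    (hQ : (QuadraticMap.polarBilin Q).Nondegenerate) (g : ↥(Cfsg.isometryGroup F (⇑Q))) :
    g * g ∈ commutator ↥(Cfsg.isometryGroup F (⇑Q)) := by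
  rw [← Abelianization.ker_of, MonoidHom.mem_ker]
  have hg : g ∈ Subgroup.closure {g : ↥(Cfsg.isometryGroup F (⇑Q)) |
      ∃ (v : ι → F) (hv : Q v ≠ 0), g = refl Q v hv} := by
    rw [closure_refl_eq_top h2 Q hQ]
    trivial
  rw [map_mul]
  induction hg using Subgroup.closure_induction with
  | mem x hx =>
    obtain ⟨v, hv, rfl⟩ := hx
    rw [← map_mul, refl_mul_self, map_one]
  | one => simp
  | mul x y _ _ hx hy => rw [map_mul, mul_mul_mul_comm, hx, hy, one_mul]
  | inv x _ hx => rw [map_inv, ← mul_inv, hx, inv_one]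

/-- isometries of odd order lie in `Ω` -/
theorem mem_omegaGL_of_pow (h2 : (2 : F) ≠ 0) (Q : QuadraticForm F (ι → F))
    (hQ : (QuadraticMap.polarBilin Q).Nondegenerate) (x : Matrix.GeneralLinearGroup ι F)
    (hx : ∀ v : ι → F, Q ((x : Matrix ι ι F) *ᵥ v) = Q v) (p : ℕ) (hp : Odd p)
    (hxp : x ^ p = 1) : x ∈ Cfsg.Geo.omegaGL (⇑Q) := by
  have hmem : x ∈ Cfsg.isometryGroup F (⇑Q) := (mem_isometryGroup_iff _ x).2 hx
  set g : ↥(Cfsg.isometryGroup F (⇑Q)) := ⟨x, hmem⟩ with hgdef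
  have hgp : g ^ p = 1 := by
    apply Subtype.ext
    rw [Subgroup.coe_pow, Subgroup.coe_one]
    exact hxp
  obtain ⟨t, ht⟩ := hp
  have hg : g = g ^ (t + 1) * g ^ (t + 1) := by
    rw [← pow_add, show t + 1 + (t + 1) = p + 1 by omega, pow_succ, hgp, one_mul]
  refine ⟨g, ?_, rfl⟩
  show g ∈ commutator ↥(Cfsg.isometryGroup F (⇑Q))
  rw [hg]
  exact sq_mem_commutator h2 Q hQ _

end omega

section realize

variable {F : Type u} [Field F]

open Cfsg.Agent.Lib.Helper44_StdForms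

theorem nondegenerate_qfPlus (d : ℕ) :
    (QuadraticMap.polarBilin (qfPlus d F)).Nondegenerate := by
  have key : ∀ x : Fin d ⊕ Fin d → F,
      (∀ y, QuadraticMap.polar (Cfsg.quadFormPlus d F) x y = 0) → x = 0 := by
    intro x hx
    funext j
    rcases j with i | i
    · have := hx (Pi.single (Sum.inr i) 1)
      rw [polar_quadFormPlus] at this
      simpa [Pi.single_apply, Finset.sum_ite_eq', Finset.sum_ite_eq] using this
    · have := hx (Pi.single (Sum.inl i) 1)
      rw [polar_quadFormPlus] at this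
      simpa [Pi.single_apply, Finset.sum_ite_eq', Finset.sum_ite_eq] using this
  constructor
  · intro x hx
    apply key
    intro y
    have := hx y
    rwa [QuadraticMap.polarBilin_apply_apply, coe_qfPlus] at this
  · intro y hy
    apply key
    intro x
    rw [QuadraticMap.polar_comm]
    have := hy x
    rwa [QuadraticMap.polarBilin_apply_apply, coe_qfPlus] at this

/-- every admissible Jordan type of degree `2d` with parts at most `p` is realised by an element
of order dividing `p` of `Ω⁺_{2d}(F)`, `F` finite of odd characteristic `p` -/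
theorem exists_unipotent_omega [Fintype F] (p : ℕ) [Fact p.Prime] [CharP F p] (hp : Odd p)
    (d : ℕ) (M : Multiset ℕ) (hM : ∀ a ∈ M, 0 < a ∧ a ≤ p)
    (hcnt : ∀ e, Even e → Even (M.count e)) (hsum : M.sum = 2 * d) :
    ∃ x : Matrix.GeneralLinearGroup (Fin d ⊕ Fin d) F,
      x ∈ Cfsg.Geo.omegaGL (Cfsg.quadFormPlus d F) ∧ x ^ p = 1 ∧
      (∀ v, Cfsg.quadFormPlus d F ((x : Matrix (Fin d ⊕ Fin d) (Fin d ⊕ Fin d) F) *ᵥ v) =
        Cfsg.quadFormPlus d F v) ∧
      IsNilpotent ((x : Matrix (Fin d ⊕ Fin d) (Fin d ⊕ Fin d) F) - 1) ∧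
      jtype (Matrix.toLin' ((x : Matrix (Fin d ⊕ Fin d) (Fin d ⊕ Fin d) F) - 1)) = M := by
  have hp2 : p ≠ 2 := by
    rintro rfl
    exact absurd hp (by decide)
  have h2 : (2 : F) ≠ 0 := by
    intro h
    have h1 : ((2 : ℕ) : F) = 0 := by
      rw [Nat.cast_ofNat]
      exact h
    rw [CharP.cast_eq_zero_iff F p] at h1
    have hpp : p.Prime := Fact.out
    exact hp2 ((Nat.prime_dvd_prime_iff_eq hpp Nat.prime_two).1 h1)
  obtain ⟨δ, hδ, ⟨ι, _, _, G, U, hG, hdet, hU, hnil, hj⟩, hsq⟩ :=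
    exists_realD_sq h2 M (fun a ha => (hM a ha).1) (fun j hj _ => hcnt j hj) d hsum
  have hcard : Fintype.card ι = Fintype.card (Fin d ⊕ Fin d) := by
    have := jtype_sum _ (isNilpotent_toLin' hnil)
    rw [hj, hsum, Module.finrank_fintype_fun_eq_card] at this
    rw [← this, Fintype.card_sum, Fintype.card_fin]
    ring
  let ε : ι ≃ Fin d ⊕ Fin d := Fintype.equivOfCardEq hcard
  set G' : Matrix (Fin d ⊕ Fin d) (Fin d ⊕ Fin d) F := Matrix.reindex ε ε G with hG'def
  set U' : Matrix (Fin d ⊕ Fin d) (Fin d ⊕ Fin d) F := Matrix.reindex ε ε U with hU'def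
  have hG' : G'ᵀ = G' := by rw [hG'def, transpose_reindex, hG]
  have hdet' : G'.det = δ := by rw [hG'def, det_reindex_self, hdet]
  have hU' : U'ᵀ * G' * U' = G' := by
    rw [hG'def, hU'def]
    simp only [reindex_apply, transpose_submatrix, submatrix_mul_equiv, hU]
  have hU'1 : U' - 1 = Matrix.reindex ε ε (U - 1) := by
    rw [hU'def]
    ext i j
    simp [Matrix.sub_apply, Matrix.one_apply]
  -- step 1: reindex
  obtain ⟨hnil1, hj1⟩ := jtype_eq_of_equiv (U - 1) (U' - 1) hnil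
    (LinearEquiv.funCongrLeft F F ε.symm) (by
      intro w
      rw [hU'1, reindex_apply, LinearEquiv.funCongrLeft_apply, LinearEquiv.funCongrLeft_apply,
        submatrix_mulVec_equiv]
      funext i
      simp [LinearMap.funLeft_apply, Function.comp_def])
  -- step 2: congruence
  obtain ⟨c, hc, hcJ⟩ := Cfsg.Agent.Lib.Helper43_SpCent.exists_congr_sym h2 (gramPlus d F) G'
    (gramPlus_transpose d) hG'
    (by rw [gramPlus_det]; exact pow_ne_zero _ (neg_ne_zero.2 one_ne_zero))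
    (by rw [hdet']; exact hδ) (by rw [gramPlus_det, hdet', mul_comm]; exact hsq)
  have hcu : IsUnit c.det := isUnit_iff_ne_zero.2 hc
  have hcc : c * c⁻¹ = 1 := Matrix.mul_nonsing_inv c hcu
  have hcc' : c⁻¹ * c = 1 := Matrix.nonsing_inv_mul c hcu
  set X : Matrix (Fin d ⊕ Fin d) (Fin d ⊕ Fin d) F := c * U' * c⁻¹ with hXdef
  have hXJ : Xᵀ * gramPlus d F * X = gramPlus d F := by
    have h1 : Xᵀ * gramPlus d F * X =
        (c⁻¹)ᵀ * (U'ᵀ * (cᵀ * gramPlus d F * c) * U') * c⁻¹ := by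
      rw [hXdef]
      simp only [transpose_mul, Matrix.mul_assoc]
    rw [h1, hcJ, hU', ← hcJ]
    rw [← Matrix.mul_assoc, ← Matrix.mul_assoc, ← transpose_mul, hcc,
      transpose_one, Matrix.one_mul, Matrix.mul_assoc, hcc, Matrix.mul_one]
  have hX1 : X - 1 = c * (U' - 1) * c⁻¹ := by
    rw [hXdef, Matrix.mul_sub, Matrix.sub_mul, Matrix.mul_one, hcc]
  obtain ⟨hnil2, hj2⟩ := jtype_eq_of_equiv (U' - 1) (X - 1) hnil1
    (Matrix.toLin'OfInv (M := c⁻¹) (M' := c) hcc' hcc) (by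
      intro w
      have e1 : ∀ y, (Matrix.toLin'OfInv (M := c⁻¹) (M' := c) hcc' hcc) y = c *ᵥ y := by
        intro y
        funext i
        rw [Matrix.toLin'OfInv_apply, Matrix.toLin'_apply]
      rw [e1, e1, hX1, Matrix.mulVec_mulVec, Matrix.mulVec_mulVec, Matrix.mul_assoc,
        Matrix.mul_assoc, hcc', Matrix.mul_one])
  -- the group element
  obtain ⟨x, hx⟩ := hnil2.isUnit_add_one
  have hxX : (x : Matrix (Fin d ⊕ Fin d) (Fin d ⊕ Fin d) F) = X := by
    rw [hx, sub_add_cancel]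
  have hXp : X ^ p = 1 := by
    have h0 : (X - 1) ^ p = 0 := by
      apply Matrix.toLin'.injective
      rw [Matrix.toLin'_pow, map_zero, pow_eq_zero_iff_jtype _ (isNilpotent_toLin' hnil2), hj2,
        hj1, hj]
      exact fun a ha => (hM a ha).2
    have h1 := Cfsg.Agent.Lib.Helper43_SpCent.sub_one_pow_char_pow' p X 1
    rw [pow_one, h0] at h1
    exact (sub_eq_zero.1 h1.symm)
  have hxp : x ^ p = 1 := by
    apply Units.ext
    rw [Units.val_pow_eq_pow_val, hxX, hXp, Units.val_one]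
  have hiso : ∀ v, Cfsg.quadFormPlus d F ((x : Matrix (Fin d ⊕ Fin d) (Fin d ⊕ Fin d) F) *ᵥ v) =
      Cfsg.quadFormPlus d F v := by
    intro v
    rw [hxX]
    exact quadFormPlus_mulVec h2 d X hXJ v
  refine ⟨x, ?_, hxp, hiso, ?_, ?_⟩
  · rw [← coe_qfPlus]
    apply mem_omegaGL_of_pow h2 (qfPlus d F) (nondegenerate_qfPlus d) x _ p hp hxp
    intro v
    rw [coe_qfPlus]
    exact hiso v
  · rw [hxX]
    exact hnil2
  · rw [hxX, hj2, hj1, hj]

end realize

end Cfsg.Agent.Lib.Helper43_OrthReal
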