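import Mathlib
import Cfsg.Prelude.Def_ClassicalGeometry
import Cfsg.Agent.Lib.Helper40_SpPrimeOrder
import Cfsg.Agent.Lib.Helper99_PrimeGraphL

set_option autoImplicit false

/-!
An element of odd prime order `r` of `Sp_{2d}(q)` (`ord_r(q)` even, at most `2d`) acting irreducibly on
its commutator space fixes no pair of complementary totally isotropic subspaces.
-/

namespace Cfsg.Agent.Lib.Helper99_SpDerange

open Polynomial Matrix Module
open Cfsg.Agent.Lib.Helper40_Palindromic Cfsg.Agent.Lib.Helper40_SpPrimeOrder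
  Cfsg.Agent.Lib.Helper40_PolyFactors Cfsg.Agent.Lib.Helper40_PrimeOrderClasses
  Cfsg.Agent.Lib.Helper40_SpExistMatrix Cfsg.Agent.Lib.Helper40_SpMatrix
  Cfsg.Agent.Lib.Helper99_Singer Cfsg.Agent.Lib.Helper99_PrimeGraphL Cfsg.Agent.Lib.Helper40_SpExist

variable {F : Type*} [Field F]

theorem map_pow_eq {V : Type*} [AddCommGroup V] [Module F V] (g : Module.End F V)
    (S : Submodule F V) (h : S.map g = S) (n : ℕ) : S.map (g ^ n) = S := by
  induction n with
  | zero => rw [pow_zero]; exact Submodule.map_id S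
  | succ n ih => rw [pow_succ, Module.End.mul_eq_comp, Submodule.map_comp, h, ih]

/-- `sympForm` is the standard alternating form `Jform` -/
theorem sympForm_eq_Jform (d : ℕ) (u v : Fin d ⊕ Fin d → F) :
    Cfsg.sympForm d F u v = Jform d F u v := by
  unfold Cfsg.sympForm Jform
  rw [Matrix.toBilin'_apply']


section abstract

variable {V : Type*} [AddCommGroup V] [Module F V]

theorem aeval_apply_mem (T : Module.End F V) (U : Submodule F V) (hU : ∀ u ∈ U, T u ∈ U)
    (g : F[X]) : ∀ u ∈ U, aeval T g u ∈ U := by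
  intro u hu
  induction g using Polynomial.induction_on' with
  | add g₁ g₂ h₁ h₂ =>
    rw [map_add, LinearMap.add_apply]
    exact U.add_mem h₁ h₂
  | monomial n c =>
    rw [aeval_monomial, Module.End.mul_apply, Module.algebraMap_end_apply]
    exact U.smul_mem c (pow_apply_mem T U hU n u hu)

theorem no_pair_aux [Fintype F] [Module.Finite F V] (B : LinearMap.BilinForm F V)
    (hB : B.Nondegenerate) (T : Module.End F V) (hiso : ∀ x y, B (T x) (T y) = B x y)
    {r : ℕ} (hr : r.Prime) (hrq : ¬ r ∣ Fintype.card F) (hT : T ^ r = 1)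
    (w a b : F[X]) (hab : a * w + b * (X - 1) = 1) (hk : aeval T (w * (X - 1)) = 0)
    (e : ℕ) (he : e = orderOf ((Fintype.card F : ℕ) : ZMod r)) (he0 : 0 < e)
    (hfix : finrank F (fixSpace T) + e = finrank F V)
    (U W : Submodule F V) (hUW : IsCompl U W)
    (hU : ∀ u ∈ U, ∀ v ∈ U, B u v = 0) (hW : ∀ u ∈ W, ∀ v ∈ W, B u v = 0)
    (hTU : ∀ u ∈ U, T u ∈ U) (hTW : ∀ u ∈ W, T u ∈ W) : False := by
  classical
  set P : Module.End F V := aeval T (b * (X - 1)) with hP
  set Q : Module.End F V := aeval T (a * w) with hQ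
  have hPQ : ∀ v, P v + Q v = v := by
    intro v
    have : P + Q = 1 := by
      rw [hP, hQ, ← map_add, add_comm, hab, map_one]
    rw [← LinearMap.add_apply, this, Module.End.one_apply]
  have hT1 : aeval T (X - 1 : F[X]) = T - 1 := by
    rw [map_sub, aeval_X, map_one]
  set V1 : Submodule F V := LinearMap.ker (aeval T w) with hV1
  -- P maps into V1
  have hPV1 : ∀ v, P v ∈ V1 := by
    intro v
    rw [hV1, LinearMap.mem_ker, hP, ← Module.End.mul_apply, ← map_mul]
    have : w * (b * (X - 1)) = b * (w * (X - 1)) := by ring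
    rw [this, map_mul, hk, mul_zero, LinearMap.zero_apply]
  have hQfix : ∀ v, Q v ∈ fixSpace T := by
    intro v
    rw [fixSpace, LinearMap.mem_ker, ← hT1, hQ, ← Module.End.mul_apply, ← map_mul]
    have : (X - 1) * (a * w) = a * (w * (X - 1)) := by ring
    rw [this, map_mul, hk, mul_zero, LinearMap.zero_apply]
  have hPid : ∀ v ∈ V1, P v = v := by
    intro v hv
    have h1 := hPQ v
    have h2 : Q v = 0 := by
      rw [hQ, map_mul, Module.End.mul_apply]
      rw [hV1, LinearMap.mem_ker] at hv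
      rw [hv, map_zero]
    rw [h2, add_zero] at h1
    exact h1
  have hPfix : ∀ v ∈ fixSpace T, P v = 0 := by
    intro v hv
    rw [fixSpace, LinearMap.mem_ker, ← hT1] at hv
    rw [hP, map_mul, Module.End.mul_apply, hv, map_zero]
  -- P v = (T - 1) (b(T) v)
  have hPim : ∀ v, P v = T (aeval T b v) - aeval T b v := by
    intro v
    have : b * (X - 1) = (X - 1) * b := by ring
    rw [hP, this, map_mul, hT1, Module.End.mul_apply, LinearMap.sub_apply, Module.End.one_apply]
  have hV1inv : ∀ v ∈ V1, T v ∈ V1 := by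
    intro v hv
    rw [hV1, LinearMap.mem_ker] at hv ⊢
    have : aeval T w (T v) = T (aeval T w v) := by
      have h1 : aeval T w * T = T * aeval T w := by
        have h2 : aeval T (w * X) = aeval T (X * w) := by rw [mul_comm]
        rwa [map_mul, map_mul, aeval_X] at h2
      have h3 := congrArg (fun f => f v) h1
      simpa [Module.End.mul_apply] using h3
    rw [this, hv, map_zero]
  have hV1fix : V1 ⊓ fixSpace T = ⊥ := by
    rw [eq_bot_iff]
    intro v hv
    rw [Submodule.mem_inf] at hv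
    rw [Submodule.mem_bot, ← hPid v hv.1, hPfix v hv.2]
  have hV1sup : V1 ⊔ fixSpace T = ⊤ := by
    rw [eq_top_iff]
    intro v _
    rw [← hPQ v]
    exact Submodule.add_mem_sup (hPV1 v) (hQfix v)
  have hfinV1 : finrank F V1 = e := by
    have h1 := Submodule.finrank_sup_add_finrank_inf_eq V1 (fixSpace T)
    rw [hV1sup, hV1fix, finrank_top, finrank_bot] at h1
    omega
  -- key: V1 is not inside a totally isotropic subspace
  have hkey : ∀ X : Submodule F V, (∀ u ∈ X, ∀ v ∈ X, B u v = 0) → V1 ≤ X → False := by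
    intro X hX hle
    have hz : ∀ v ∈ V1, v = 0 := by
      intro v hv
      apply hB.1 v  
      intro y
      rw [← hPQ y, map_add, hX v (hle hv) (P y) (hle (hPV1 y)), zero_add]
      rw [← hPid v hv, hPim v, map_sub, LinearMap.sub_apply]
      have hfixQ : T (Q y) = Q y := (mem_fixSpace T _).1 (hQfix y)
      nth_rewrite 1 [← hfixQ]
      rw [hiso, sub_self]
    have : V1 = ⊥ := by
      rw [eq_bot_iff]
      intro v hv
      rw [Submodule.mem_bot]
      exact hz v hv
    rw [this, finrank_bot] at hfinV1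
    omega
  -- invariant pieces
  have hPU : ∀ u ∈ U, P u ∈ U := aeval_apply_mem T U hTU _
  have hPW : ∀ u ∈ W, P u ∈ W := aeval_apply_mem T W hTW _
  have hcover : V1 ≤ (U ⊓ V1) ⊔ (W ⊓ V1) := by
    intro v hv
    have hvtop : v ∈ U ⊔ W := by rw [hUW.sup_eq_top]; trivial
    obtain ⟨u, hu, w', hw', huw⟩ := Submodule.mem_sup.1 hvtop
    rw [← hPid v hv, ← huw, map_add]
    exact Submodule.add_mem_sup (Submodule.mem_inf.2 ⟨hPU u hu, hPV1 u⟩)
      (Submodule.mem_inf.2 ⟨hPW w' hw', hPV1 w'⟩)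
  have hU1inv : ∀ v ∈ U ⊓ V1, T v ∈ U ⊓ V1 := by
    intro v hv
    rw [Submodule.mem_inf] at hv ⊢
    exact ⟨hTU v hv.1, hV1inv v hv.2⟩
  have hU1fix : (U ⊓ V1) ⊓ fixSpace T = ⊥ := by
    rw [eq_bot_iff, ← hV1fix]
    exact inf_le_inf_right _ inf_le_right
  have hdvd : e ∣ finrank F ↥(U ⊓ V1) := by
    have h1 := orderOf_dvd_finrank_sub T hr hrq hT (U ⊓ V1) hU1inv
    rw [hU1fix, finrank_bot, Nat.sub_zero, ← he] at h1
    exact h1
  have hle : finrank F ↥(U ⊓ V1) ≤ e := by
    rw [← hfinV1]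
    exact Submodule.finrank_mono inf_le_right
  obtain ⟨c, hc⟩ := hdvd
  have hc01 : c = 0 ∨ c = 1 := by
    rcases Nat.lt_or_ge c 2 with h | h
    · omega
    · exfalso
      have : e * 2 ≤ e * c := Nat.mul_le_mul_left e h
      omega
  rcases hc01 with h0 | h1
  · -- U ⊓ V1 = ⊥
    rw [h0, mul_zero] at hc
    have hbot : U ⊓ V1 = ⊥ := Submodule.finrank_eq_zero.1 hc
    rw [hbot, bot_sup_eq] at hcover
    exact hkey W hW (hcover.trans inf_le_left)
  · rw [h1, mul_one, ← hfinV1] at hc
    have heq : U ⊓ V1 = V1 := Submodule.eq_of_le_of_finrank_eq inf_le_right hc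
    exact hkey U hU (heq ▸ inf_le_left)

end abstract

section concrete

variable [Fintype F]

theorem not_dvd_card (p : ℕ) [Fact p.Prime] [CharP F p] {r : ℕ} (hr : r.Prime) (hrp : r ≠ p) :
    ¬ r ∣ Fintype.card F := by
  obtain ⟨n, hp, hn⟩ := FiniteField.card F p
  rw [hn]
  intro h
  exact hrp ((Nat.prime_dvd_prime_iff_eq hr hp).1 (hr.dvd_of_dvd_pow h))

theorem exists_derangement (p : ℕ) [Fact p.Prime] [CharP F p] (d : ℕ) (hd : 1 ≤ d)
    (r : ℕ) (hr : r.Prime) (hr2 : r ≠ 2) (hrp : r ≠ p)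
    (hee : Even (orderOf ((Fintype.card F : ℕ) : ZMod r)))
    (he2d : orderOf ((Fintype.card F : ℕ) : ZMod r) ≤ 2 * d) :
    ∃ x : ↥(Matrix.symplecticGroup (Fin d) F),
      ((x ^ r : ↥(Matrix.symplecticGroup (Fin d) F)) : Matrix (Fin d ⊕ Fin d) (Fin d ⊕ Fin d) F) = 1 ∧
      (∀ z : F, (x : Matrix (Fin d ⊕ Fin d) (Fin d ⊕ Fin d) F) ≠ z • (1 : Matrix (Fin d ⊕ Fin d) (Fin d ⊕ Fin d) F)) ∧
      ¬ (∃ U W : Submodule F (Fin d ⊕ Fin d → F), IsCompl U W ∧
        (∀ u ∈ U, ∀ v ∈ U, Cfsg.sympForm d F u v = 0) ∧ (∀ u ∈ W, ∀ v ∈ W, Cfsg.sympForm d F u v = 0) ∧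
        ((U.map (Matrix.toLin' (x : Matrix (Fin d ⊕ Fin d) (Fin d ⊕ Fin d) F)) = U ∧
            W.map (Matrix.toLin' (x : Matrix (Fin d ⊕ Fin d) (Fin d ⊕ Fin d) F)) = W) ∨
         (U.map (Matrix.toLin' (x : Matrix (Fin d ⊕ Fin d) (Fin d ⊕ Fin d) F)) = W ∧
            W.map (Matrix.toLin' (x : Matrix (Fin d ⊕ Fin d) (Fin d ⊕ Fin d) F)) = U))) := by
  classical
  have hrF : Fact r.Prime := ⟨hr⟩
  have hrq : ¬ r ∣ Fintype.card F := not_dvd_card p hr hrp
  set e := orderOf ((Fintype.card F : ℕ) : ZMod r) with he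
  obtain ⟨hepos, Ws, hWcard, hWs, -⟩ := exists_cyclotomic_factors (F := F) p r hr hrp
  have he2 : 2 ≤ e := by
    obtain ⟨j, hj⟩ := hee
    omega
  have hq0 : ((Fintype.card F : ℕ) : ZMod r) ≠ 0 := by
    rwa [Ne, ZMod.natCast_eq_zero_iff]
  have hedvd : e ∣ r - 1 := ZMod.orderOf_dvd_card_sub_one hq0
  have hWne : Ws.Nonempty := by
    rw [← Finset.card_pos, hWcard]
    exact Nat.div_pos (Nat.le_of_dvd (by have := hr.two_le; omega) hedvd) hepos
  obtain ⟨w, hw⟩ := hWne
  obtain ⟨hwm, hwi, hw1, hwd, hwdeg⟩ := hWs w hw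
  have hw0 : w.coeff 0 ≠ 0 := coeff_zero_ne_zero_of_dvd r hr.pos w hwd
  have hrec : recip w = w := recip_eq_of_even p r e hr he hepos hee w hwm hwi hw1 hwd
  have hev1 : w.eval 1 ≠ 0 := eval_one_ne_zero w hwm hwi hw1
  have hc0 : w.coeff 0 = 1 := coeff_zero_eq_one_of_recip_eq w hw0 hrec hev1
  have hwrev : w.reverse = w := reverse_eq_of_recip_eq w hc0 hrec
  set k := 2 * d - e with hk
  have hkev : Even k := by
    obtain ⟨j, hj⟩ := hee
    exact ⟨d - j, by omega⟩
  have hX1 : ((X : F[X]) - 1) = X - C 1 := by rw [map_one]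
  have hX1m : ((X : F[X]) - 1).Monic := X_sub_one_props.1
  have hX1i : Irreducible ((X : F[X]) - 1) := X_sub_one_props.2
  set c : F[X] := w * (X - 1) ^ k with hc
  have hcm : c.Monic := hwm.mul (hX1m.pow k)
  have hcdeg : c.natDegree = 2 * d := by
    rw [hc, (hwm.natDegree_mul (hX1m.pow k)), (hX1m.natDegree_pow k), natDegree_X_sub_one, hwdeg]
    omega
  have hcrev : c.reverse = c := by
    rw [hc, reverse_mul_of_domain, hwrev, reverse_X_sub_one_pow k hkev]
  obtain ⟨A, hA, hAc, hAk⟩ := exists_sp_matrix d c hcm hcdeg hcrev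
  have hcop : IsCoprime w ((X : F[X]) - 1) :=
    isCoprime_of_monic_irreducible_ne hwi hwm hX1i hX1m hw1
  -- A is killed by w * (X - 1)
  have hAw : aeval A (w * (X - 1)) = 0 := by
    apply hAk
    intro g hg hgc
    rw [hc] at hgc
    rcases hg.prime.dvd_or_dvd hgc with h | h
    · exact h.trans (dvd_mul_right _ _)
    · exact (hg.prime.dvd_of_dvd_pow h).trans (dvd_mul_left _ _)
  have hdvdr : w * (X - 1) ∣ (X : F[X]) ^ r - 1 :=
    hcop.mul_dvd hwd (X_sub_one_dvd r hr)
  have hAr : A ^ r = 1 := by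
    obtain ⟨g, hg⟩ := hdvdr
    have h1 : aeval A ((X : F[X]) ^ r - 1) = 0 := by rw [hg, map_mul, hAw, zero_mul]
    rw [map_sub, map_pow, aeval_X, map_one] at h1
    exact sub_eq_zero.1 h1
  refine ⟨⟨A, hA⟩, ?_, ?_, ?_⟩
  · rw [SubmonoidClass.coe_pow]
    exact hAr
  · intro z hz
    change A = z • (1 : Matrix (Fin d ⊕ Fin d) (Fin d ⊕ Fin d) F) at hz
    have : Nonempty (Fin d ⊕ Fin d) := ⟨Sum.inl ⟨0, hd⟩⟩
    have hz' : A = algebraMap F (Matrix (Fin d ⊕ Fin d) (Fin d ⊕ Fin d) F) z := by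
      rw [hz, Algebra.algebraMap_eq_smul_one]
    have h1 := hAw
    rw [hz', Polynomial.aeval_algebraMap_apply_eq_algebraMap_eval] at h1
    have h2 : (w * (X - 1)).eval z = 0 := by
      have hinj := (algebraMap F (Matrix (Fin d ⊕ Fin d) (Fin d ⊕ Fin d) F)).injective
      exact hinj (h1.trans (map_zero _).symm)
    rw [eval_mul, eval_sub, eval_X, eval_one] at h2
    rcases mul_eq_zero.1 h2 with h | h
    · have h3 : (X - C z) ∣ w := dvd_iff_isRoot.2 h
      have h4 : Associated (X - C z) w := (irreducible_X_sub_C z).associated_of_dvd hwi h3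
      have h5 : w = X - C z := eq_X_sub_C_of_dvd w hwm hwi z h4.symm.dvd
      rw [h5, natDegree_X_sub_C] at hwdeg
      omega
    · have hz1 : z = 1 := sub_eq_zero.1 h
      rw [hz1, one_smul] at hz
      have h3 : w ∣ A.charpoly := by rw [hAc, hc]; exact dvd_mul_right _ _
      rw [hz, Matrix.charpoly_one] at h3
      have h4 : w ∣ X - 1 := hwi.prime.dvd_of_dvd_pow h3
      rw [hX1] at h4
      exact hw1 (hX1 ▸ eq_X_sub_C_of_dvd w hwm hwi 1 h4)
  · rintro ⟨U, W, hUW, hU, hW, hcases⟩
    set T : Module.End F (Fin d ⊕ Fin d → F) := Matrix.toLin' A with hTdef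
    change (U.map T = U ∧ W.map T = W) ∨ (U.map T = W ∧ W.map T = U) at hcases
    have hT : T ^ r = 1 := by
      rw [hTdef, ← Matrix.toLin'_pow, hAr, Matrix.toLin'_one]
      rfl
    -- reduce to the fixing case
    have hfixcase : U.map T = U ∧ W.map T = W := by
      rcases hcases with h | ⟨hUW', hWU'⟩
      · exact h
      · exfalso
        have h2 : U.map (T * T) = U := by
          rw [Module.End.mul_eq_comp, Submodule.map_comp, hUW', hWU']
        obtain ⟨m, hm⟩ : ∃ m, r + 1 = 2 * m := by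
          rcases Nat.Prime.eq_two_or_odd' hr with h | ⟨j, hj⟩
          · exact absurd h hr2
          · exact ⟨j + 1, by omega⟩
        have h3 : (T * T) ^ m = T := by
          rw [← pow_two, ← pow_mul, ← hm, pow_succ, hT, one_mul]
        have h4 : U.map T = U := by
          have := map_pow_eq (T * T) U h2 m
          rwa [h3] at this
        have h5 : U = W := h4.symm.trans hUW'
        rw [← h5] at hUW
        have hbot : U = ⊥ := by
          have := hUW.inf_eq_bot
          rwa [inf_idem] at this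
        have htop : U = ⊤ := by
          have := hUW.sup_eq_top
          rwa [sup_idem] at this
        have hne : (Pi.single (Sum.inl ⟨0, hd⟩) 1 : Fin d ⊕ Fin d → F) ≠ 0 := by
          intro h
          have := congrFun h (Sum.inl ⟨0, hd⟩)
          simp at this
        apply hne
        have : (Pi.single (Sum.inl ⟨0, hd⟩) 1 : Fin d ⊕ Fin d → F) ∈ U := by rw [htop]; trivial
        rwa [hbot, Submodule.mem_bot] at this
    obtain ⟨hTU, hTW⟩ := hfixcase
    have hrne : ((r : ℕ) : F) ≠ 0 := by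
      rw [Ne, CharP.cast_eq_zero_iff F p]
      intro h
      exact hrp ((Nat.prime_dvd_prime_iff_eq Fact.out hr).1 h).symm
    have hss : T.IsSemisimple := isSemisimple_of_pow_eq_one A r hrne hAr
    have hfixdim : finrank F (fixSpace T) = k := by
      have h1 : fixSpace T = T.maxGenEigenspace 1 := by
        rw [hss.isFinitelySemisimple.maxGenEigenspace_eq_eigenspace 1, Module.End.eigenspace_def,
          one_smul]
        rfl
      rw [h1, LinearMap.finrank_maxGenEigenspace_eq, hTdef, Matrix.charpoly_toLin', hAc, hc,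
        rootMultiplicity_mul (hcm.ne_zero), rootMultiplicity_eq_zero (by rwa [IsRoot.def]), zero_add,
        hX1, rootMultiplicity_X_sub_C_pow]
    obtain ⟨a, b, hab⟩ := hcop
    refine no_pair_aux (Jform d F) Jform_nondeg T ?_ hr hrq hT w a b hab ?_ e he hepos ?_ U W hUW
      ?_ ?_ ?_ ?_
    · intro x y
      rw [hTdef, Jform_comp, SymplecticGroup.mem_iff'.1 hA]
      rfl
    · rw [hTdef, aeval_toLin'', hAw, map_zero]
    · rw [hfixdim, Module.finrank_pi, Fintype.card_sum, Fintype.card_fin]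
      omega
    · intro u hu v hv
      rw [← sympForm_eq_Jform]
      exact hU u hu v hv
    · intro u hu v hv
      rw [← sympForm_eq_Jform]
      exact hW u hu v hv
    · intro u hu
      rw [← hTU]
      exact Submodule.mem_map_of_mem hu
    · intro u hu
      rw [← hTW]
      exact Submodule.mem_map_of_mem hu

end concrete

end Cfsg.Agent.Lib.Helper99_SpDerange
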