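import Mathlib
import Cfsg.Prelude.Def_ClassicalGeometry
import Cfsg.Agent.Lib.Helper13_GUSpDefs
import Cfsg.Agent.Lib.Helper99_SpDerange
import Cfsg.Agent.Lib.Helper99_SpAtoms

set_option autoImplicit false

/-!
Package PD3 for S5976: an element of odd prime order `r` of `Sp_{2d}(q)` (`q` odd, `4 ∣ ord_r(q) ≤ 2d`)
acting irreducibly on its commutator space commutes with no skew-adjoint `θ` with `θ² = Δ`.
-/

namespace Cfsg.Agent.Lib.Helper99_GUSp_PD3

open Polynomial Matrix Module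
open Cfsg.Agent.Lib.Helper40_Palindromic Cfsg.Agent.Lib.Helper40_SpPrimeOrder
  Cfsg.Agent.Lib.Helper40_PolyFactors Cfsg.Agent.Lib.Helper40_PrimeOrderClasses
  Cfsg.Agent.Lib.Helper40_SpExistMatrix Cfsg.Agent.Lib.Helper40_SpMatrix
  Cfsg.Agent.Lib.Helper99_Singer Cfsg.Agent.Lib.Helper99_PrimeGraphL Cfsg.Agent.Lib.Helper40_SpExist
  Cfsg.Agent.Lib.Helper99_SpDerange Cfsg.Agent.Lib.Helper13_GUSpDefs
  Cfsg.Agent.Lib.Helper40_Semisimple Cfsg.Agent.Lib.Helper40_SpCyclic

variable {F : Type*} [Field F]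

section abstract

variable {V : Type*} [AddCommGroup V] [Module F V]

theorem commute_aeval (T Θ : Module.End F V) (h : T * Θ = Θ * T) (g : F[X]) :
    aeval T g * Θ = Θ * aeval T g := by
  induction g using Polynomial.induction_on' with
  | add g₁ g₂ h₁ h₂ => rw [map_add, add_mul, mul_add, h₁, h₂]
  | monomial n c =>
    rw [aeval_monomial]
    have h1 : Commute (T ^ n) Θ := (show Commute T Θ from h).pow_left n
    have h2 : Commute (algebraMap F (Module.End F V) c) Θ := Algebra.commutes c Θ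
    exact h2.mul_left h1

theorem adj_pow (B : LinearMap.BilinForm F V) (T Ti : Module.End F V)
    (hiso : ∀ x y, B (T x) (T y) = B x y) (hinv : T * Ti = 1) (n : ℕ) (x y : V) :
    B ((T ^ n) x) y = B x ((Ti ^ n) y) := by
  induction n generalizing x y with
  | zero => simp
  | succ n ih =>
    have hy : T (Ti y) = y := by
      rw [← Module.End.mul_apply, hinv, Module.End.one_apply]
    rw [pow_succ', Module.End.mul_apply, pow_succ, Module.End.mul_apply]
    nth_rewrite 1 [← hy]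
    rw [hiso, ih]

theorem adj_aeval (B : LinearMap.BilinForm F V) (T Ti : Module.End F V)
    (hiso : ∀ x y, B (T x) (T y) = B x y) (hinv : T * Ti = 1) (g : F[X]) (x y : V) :
    B (aeval T g x) y = B x (aeval Ti g y) := by
  induction g using Polynomial.induction_on' with
  | add g₁ g₂ h₁ h₂ =>
    rw [map_add, map_add, LinearMap.add_apply, LinearMap.add_apply, map_add, LinearMap.add_apply,
      map_add, h₁, h₂]
  | monomial n c =>
    rw [aeval_monomial, aeval_monomial, Module.End.mul_apply, Module.End.mul_apply,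
      Module.algebraMap_end_apply, Module.algebraMap_end_apply, map_smul, LinearMap.smul_apply,
      map_smul, adj_pow B T Ti hiso hinv]

theorem aeval_pow_card_pow [Fintype F] {A : Type*} [Ring A] [Algebra F A] (T : A) (g : F[X])
    (n : ℕ) :
    aeval (T ^ (Fintype.card F ^ n)) g = (aeval T g) ^ (Fintype.card F ^ n) := by
  induction n with
  | zero => rw [pow_zero, pow_one, pow_one]
  | succ n ih =>
    rw [pow_succ, pow_mul, ← expand_aeval, FiniteField.expand_card, map_pow, ih, ← pow_mul]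

theorem odd_card [Fintype F] (h2 : (2 : F) ≠ 0) : Fintype.card F % 2 = 1 := by
  apply FiniteField.odd_card_of_char_ne_two
  intro h
  have hc := ringChar.charP F
  rw [h] at hc
  apply h2
  have := CharP.cast_eq_zero F 2
  simpa using this

theorem pow_eq_self_of_sq [Fintype F] (h2 : (2 : F) ≠ 0) (Θ : Module.End F V) (Δ : F)
    (hΔ0 : Δ ≠ 0) (hΘ : Θ * Θ = Δ • (1 : Module.End F V)) (n : ℕ) :
    Θ ^ ((Fintype.card F ^ 2) ^ n) = Θ := by
  set q := Fintype.card F with hq
  have hodd : q % 2 = 1 := odd_card h2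
  obtain ⟨s, hs⟩ : q ^ 2 - 1 ∣ (q ^ 2) ^ n - 1 := Nat.sub_one_dvd_pow_sub_one (q ^ 2) n
  have hq1 : 1 ≤ q := by omega
  obtain ⟨t, ht⟩ : ∃ t, q + 1 = 2 * t := ⟨(q + 1) / 2, by omega⟩
  have hfac : q ^ 2 - 1 = (q - 1) * (q + 1) := by
    obtain ⟨k, hk⟩ : ∃ k, q = k + 1 := ⟨q - 1, by omega⟩
    rw [hk]
    simp only [Nat.add_sub_cancel]
    have : (k + 1) ^ 2 = k * (k + 1 + 1) + 1 := by ring
    rw [this, Nat.add_sub_cancel]
  have hpos : 1 ≤ (q ^ 2) ^ n := Nat.one_le_pow _ _ (by positivity)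
  have hQ : (q ^ 2) ^ n = 2 * ((q - 1) * (t * s)) + 1 := by
    have : (q ^ 2) ^ n - 1 = 2 * ((q - 1) * (t * s)) := by
      rw [hs, hfac, ht]; ring
    omega
  have hΔpow : Δ ^ ((q - 1) * (t * s)) = 1 := by
    rw [pow_mul, hq, FiniteField.pow_card_sub_one_eq_one Δ hΔ0, one_pow]
  rw [hQ, pow_succ, pow_mul, pow_two, hΘ, _root_.smul_pow, one_pow, hΔpow, one_smul, one_mul]

theorem dvd_pow_half_add_one {q r f : ℕ} (hr : r.Prime) (hf : 0 < f)
    (he : orderOf ((q : ℕ) : ZMod r) = 2 * f) : r ∣ q ^ f + 1 := by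
  have : Fact r.Prime := ⟨hr⟩
  have h1 : (((q : ℕ) : ZMod r) ^ f) ^ 2 = 1 := by
    rw [← pow_mul, mul_comm, ← he]
    exact pow_orderOf_eq_one _
  rcases sq_eq_one_iff.mp h1 with h2 | h2
  · exfalso
    have h3 : orderOf ((q : ℕ) : ZMod r) ∣ f := orderOf_dvd_of_pow_eq_one h2
    rw [he] at h3
    have := Nat.le_of_dvd hf h3
    omega
  · rw [← ZMod.natCast_eq_zero_iff]
    push_cast
    rw [h2]
    exact neg_add_cancel 1

/-- the kernel of `w(T)` has dimension `e` and is not totally isotropic -/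
theorem ker_facts [Module.Finite F V] (B : LinearMap.BilinForm F V)
    (hB : B.Nondegenerate) (T : Module.End F V) (hiso : ∀ x y, B (T x) (T y) = B x y)
    (w a b : F[X]) (hab : a * w + b * (X - 1) = 1) (hk : aeval T (w * (X - 1)) = 0)
    (e : ℕ) (he0 : 0 < e)
    (hfix : finrank F (fixSpace T) + e = finrank F V) :
    finrank F (LinearMap.ker (aeval T w)) = e ∧
      ¬ (∀ u ∈ LinearMap.ker (aeval T w), ∀ v ∈ LinearMap.ker (aeval T w), B u v = 0) := by
  classical
  set P : Module.End F V := aeval T (b * (X - 1)) with hP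
  set Q : Module.End F V := aeval T (a * w) with hQ
  have hPQ : ∀ v, P v + Q v = v := by
    intro v
    have : P + Q = 1 := by
      rw [hP, hQ, ← map_add, add_comm, hab, map_one]
    rw [← LinearMap.add_apply, this, Module.End.one_apply]
  have hT1 : aeval T (X - 1 : F[X]) = T - 1 := by
    rw [map_sub, aeval_X, map_one]
  set V1 : Submodule F V := LinearMap.ker (aeval T w) with hV1
  have hPV1 : ∀ v, P v ∈ V1 := by
    intro v
    rw [hV1, LinearMap.mem_ker, hP, ← Module.End.mul_apply, ← map_mul]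
    have : w * (b * (X - 1)) = b * (w * (X - 1)) := by ring
    rw [this, map_mul, hk, mul_zero, LinearMap.zero_apply]
  have hQfix : ∀ v, Q v ∈ fixSpace T := by
    intro v
    rw [fixSpace, LinearMap.mem_ker, ← hT1, hQ, ← Module.End.mul_apply, ← map_mul]
    have : (X - 1) * (a * w) = a * (w * (X - 1)) := by ring
    rw [this, map_mul, hk, mul_zero, LinearMap.zero_apply]
  have hPid : ∀ v ∈ V1, P v = v := by
    intro v hv
    have h1 := hPQ v
    have h2 : Q v = 0 := by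
      rw [hQ, map_mul, Module.End.mul_apply]
      rw [hV1, LinearMap.mem_ker] at hv
      rw [hv, map_zero]
    rw [h2, add_zero] at h1
    exact h1
  have hPfix : ∀ v ∈ fixSpace T, P v = 0 := by
    intro v hv
    rw [fixSpace, LinearMap.mem_ker, ← hT1] at hv
    rw [hP, map_mul, Module.End.mul_apply, hv, map_zero]
  have hPim : ∀ v, P v = T (aeval T b v) - aeval T b v := by
    intro v
    have : b * (X - 1) = (X - 1) * b := by ring
    rw [hP, this, map_mul, hT1, Module.End.mul_apply, LinearMap.sub_apply, Module.End.one_apply]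
  have hV1fix : V1 ⊓ fixSpace T = ⊥ := by
    rw [eq_bot_iff]
    intro v hv
    rw [Submodule.mem_inf] at hv
    rw [Submodule.mem_bot, ← hPid v hv.1, hPfix v hv.2]
  have hV1sup : V1 ⊔ fixSpace T = ⊤ := by
    rw [eq_top_iff]
    intro v _
    rw [← hPQ v]
    exact Submodule.add_mem_sup (hPV1 v) (hQfix v)
  have hfinV1 : finrank F V1 = e := by
    have h1 := Submodule.finrank_sup_add_finrank_inf_eq V1 (fixSpace T)
    rw [hV1sup, hV1fix, finrank_top, finrank_bot] at h1
    omega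
  refine ⟨hfinV1, ?_⟩
  intro hX
  have hz : ∀ v ∈ V1, v = 0 := by
    intro v hv
    apply hB.1 v
    intro y
    rw [← hPQ y, map_add, hX v hv (P y) (hPV1 y), zero_add]
    rw [← hPid v hv, hPim v, map_sub, LinearMap.sub_apply]
    have hfixQ : T (Q y) = Q y := (mem_fixSpace T _).1 (hQfix y)
    nth_rewrite 1 [← hfixQ]
    rw [hiso, sub_self]
  have : V1 = ⊥ := by
    rw [eq_bot_iff]
    intro v hv
    rw [Submodule.mem_bot]
    exact hz v hv
  rw [this, finrank_bot] at hfinV1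
  omega

theorem no_skew_aux [Fintype F] [Module.Finite F V] (h2 : (2 : F) ≠ 0)
    (B : LinearMap.BilinForm F V)
    (hB : B.Nondegenerate) (T : Module.End F V) (hiso : ∀ x y, B (T x) (T y) = B x y)
    {r : ℕ} (hr : r.Prime) (hT : T ^ r = 1)
    (w a b : F[X]) (hwi : Irreducible w) (hab : a * w + b * (X - 1) = 1)
    (hk : aeval T (w * (X - 1)) = 0)
    (e : ℕ) (he : e = orderOf ((Fintype.card F : ℕ) : ZMod r)) (he0 : 0 < e) (h4 : 4 ∣ e)
    (hwdeg : w.natDegree = e)
    (hfix : finrank F (fixSpace T) + e = finrank F V)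
    (Θ : Module.End F V) (Δ : F) (hΔ0 : Δ ≠ 0) (hΘ : Θ * Θ = Δ • (1 : Module.End F V))
    (hskew : ∀ u v, B (Θ u) v = - B u (Θ v)) (hcomm : T * Θ = Θ * T) : False := by
  classical
  obtain ⟨hfin, hniso⟩ := ker_facts B hB T hiso w a b hab hk e he0 hfix
  set V1 := LinearMap.ker (aeval T w) with hV1
  apply hniso
  -- a nonzero vector
  have hne : V1 ≠ ⊥ := by
    intro h
    rw [h, finrank_bot] at hfin
    omega
  obtain ⟨v, hv, hv0⟩ := Submodule.exists_mem_ne_zero_of_ne_bot hne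
  have hwv : aeval T w v = 0 := LinearMap.mem_ker.1 hv
  -- V1 = cyc T v
  have hcycle : cyc T v ≤ V1 := by
    rintro _ ⟨g, rfl⟩
    rw [orbitMap_apply, hV1, LinearMap.mem_ker, ← Module.End.mul_apply, ← map_mul, mul_comm,
      map_mul, Module.End.mul_apply, hwv, map_zero]
  have hcyc : cyc T v = V1 := by
    apply Submodule.eq_of_le_of_finrank_eq hcycle
    rw [Cfsg.Agent.Lib.Helper99_SpAtoms.finrank_cyc T v hv0 w hwi hwv, hwdeg, hfin]
  -- Θ preserves V1
  have hΘV1 : ∀ u ∈ V1, Θ u ∈ V1 := by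
    intro u hu
    rw [hV1, LinearMap.mem_ker] at hu ⊢
    have h1 : aeval T w (Θ u) = Θ (aeval T w u) := by
      rw [← Module.End.mul_apply, commute_aeval T Θ hcomm w, Module.End.mul_apply]
    rw [h1, hu, map_zero]
  -- Θ = g(T) on V1
  obtain ⟨g, hg⟩ : ∃ g : F[X], aeval T g v = Θ v := by
    have : Θ v ∈ cyc T v := by rw [hcyc]; exact hΘV1 v hv
    obtain ⟨g, hg⟩ := this
    exact ⟨g, hg⟩
  have hgΘ : ∀ u ∈ V1, aeval T g u = Θ u := by
    intro u hu
    rw [← hcyc] at hu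
    obtain ⟨h, rfl⟩ := hu
    rw [orbitMap_apply, ← Module.End.mul_apply, ← map_mul, mul_comm, map_mul,
      Module.End.mul_apply, hg, ← Module.End.mul_apply, commute_aeval T Θ hcomm h,
      Module.End.mul_apply]
  -- inverse
  obtain ⟨f, hf⟩ : ∃ f, e = 4 * f := h4
  have hf0 : 0 < f := by omega
  set q := Fintype.card F with hq
  have hdvd : r ∣ q ^ (2 * f) + 1 :=
    dvd_pow_half_add_one hr (by omega) (by rw [← he, hf]; ring)
  set Q := q ^ (2 * f) with hQ
  have hTQ : T * T ^ Q = 1 := by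
    obtain ⟨c, hc⟩ := hdvd
    rw [← pow_succ', hc, pow_mul, hT, one_pow]
  have hFrob : aeval (T ^ Q) g = (aeval T g) ^ Q := aeval_pow_card_pow T g (2 * f)
  have hΘQ : Θ ^ Q = Θ := by
    have := pow_eq_self_of_sq h2 Θ Δ hΔ0 hΘ f
    rwa [← pow_mul] at this
  have hgpow : ∀ n : ℕ, ∀ u ∈ V1, ((aeval T g) ^ n) u = (Θ ^ n) u ∧ (Θ ^ n) u ∈ V1 := by
    intro n
    induction n with
    | zero => intro u hu; simp [hu]
    | succ n ih =>
      intro u hu
      obtain ⟨h1, h2'⟩ := ih u hu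
      rw [pow_succ', pow_succ', Module.End.mul_apply, Module.End.mul_apply, h1]
      exact ⟨hgΘ _ h2', hΘV1 _ h2'⟩
  have hsym : ∀ u ∈ V1, ∀ v' ∈ V1, B (Θ u) v' = B u (Θ v') := by
    intro u hu v' hv'
    rw [← hgΘ u hu, adj_aeval B T (T ^ Q) hiso hTQ g u v', hFrob, (hgpow Q v' hv').1, hΘQ]
  have hzero : ∀ u ∈ V1, ∀ v' ∈ V1, B u (Θ v') = 0 := by
    intro u hu v' hv'
    have h1 := hsym u hu v' hv'
    rw [hskew] at h1
    have h3 : (2 : F) * B u (Θ v') = 0 := by
      rw [two_mul]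
      nth_rewrite 1 [← h1]
      exact neg_add_cancel _
    rcases mul_eq_zero.1 h3 with h | h
    · exact absurd h h2
    · exact h
  intro u hu v' hv'
  have hv'' : v' = Θ (Δ⁻¹ • Θ v') := by
    rw [map_smul, ← Module.End.mul_apply, hΘ, LinearMap.smul_apply, Module.End.one_apply,
      smul_smul, inv_mul_cancel₀ hΔ0, one_smul]
  rw [hv'']
  exact hzero u hu _ (V1.smul_mem _ (hΘV1 v' hv'))

end abstract

section concrete

variable [Fintype F]

/-- PD3: `4 ∣ ord_r(q)` -/
theorem PD3 (p : ℕ) [Fact p.Prime] [CharP F p] (h2 : (2 : F) ≠ 0) (d : ℕ)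
    (r : ℕ) (hr : r.Prime) (hr2 : r ≠ 2) (hrp : r ≠ p)
    (he : 4 ∣ orderOf ((Fintype.card F : ℕ) : ZMod r))
    (hed : orderOf ((Fintype.card F : ℕ) : ZMod r) ≤ 2 * d)
    (Δ : F) (hΔ : ¬ IsSquare Δ) :
    ∃ A : Matrix (Fin d ⊕ Fin d) (Fin d ⊕ Fin d) F, A ∈ symplecticGroup (Fin d) F ∧ A ^ r = 1 ∧
      ∀ θ : Matrix (Fin d ⊕ Fin d) (Fin d ⊕ Fin d) F,
        θ * θ = Δ • (1 : Matrix (Fin d ⊕ Fin d) (Fin d ⊕ Fin d) F) → IsSkew d θ → A * θ ≠ θ * A := by
  classical
  have hrF : Fact r.Prime := ⟨hr⟩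
  have hrq : ¬ r ∣ Fintype.card F := not_dvd_card p hr hrp
  set e := orderOf ((Fintype.card F : ℕ) : ZMod r) with he'
  obtain ⟨hepos, Ws, hWcard, hWs, -⟩ := exists_cyclotomic_factors (F := F) p r hr hrp
  have hee : Even e := by
    obtain ⟨j, hj⟩ := he
    exact ⟨2 * j, by omega⟩
  have hΔ0 : Δ ≠ 0 := by
    rintro rfl
    exact hΔ ⟨0, by simp⟩
  have hq0 : ((Fintype.card F : ℕ) : ZMod r) ≠ 0 := by
    rwa [Ne, ZMod.natCast_eq_zero_iff]
  have hedvd : e ∣ r - 1 := ZMod.orderOf_dvd_card_sub_one hq0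
  have hWne : Ws.Nonempty := by
    rw [← Finset.card_pos, hWcard]
    exact Nat.div_pos (Nat.le_of_dvd (by have := hr.two_le; omega) hedvd) hepos
  obtain ⟨w, hw⟩ := hWne
  obtain ⟨hwm, hwi, hw1, hwd, hwdeg⟩ := hWs w hw
  have hw0 : w.coeff 0 ≠ 0 := coeff_zero_ne_zero_of_dvd r hr.pos w hwd
  have hrec : recip w = w := recip_eq_of_even p r e hr he' hepos hee w hwm hwi hw1 hwd
  have hev1 : w.eval 1 ≠ 0 := eval_one_ne_zero w hwm hwi hw1
  have hc0 : w.coeff 0 = 1 := coeff_zero_eq_one_of_recip_eq w hw0 hrec hev1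
  have hwrev : w.reverse = w := reverse_eq_of_recip_eq w hc0 hrec
  set k := 2 * d - e with hk
  have hkev : Even k := by
    obtain ⟨j, hj⟩ := hee
    exact ⟨d - j, by omega⟩
  have hX1 : ((X : F[X]) - 1) = X - C 1 := by rw [map_one]
  have hX1m : ((X : F[X]) - 1).Monic := X_sub_one_props.1
  have hX1i : Irreducible ((X : F[X]) - 1) := X_sub_one_props.2
  set c : F[X] := w * (X - 1) ^ k with hc
  have hcm : c.Monic := hwm.mul (hX1m.pow k)
  have hcdeg : c.natDegree = 2 * d := by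
    rw [hc, (hwm.natDegree_mul (hX1m.pow k)), (hX1m.natDegree_pow k), natDegree_X_sub_one, hwdeg]
    omega
  have hcrev : c.reverse = c := by
    rw [hc, reverse_mul_of_domain, hwrev, reverse_X_sub_one_pow k hkev]
  obtain ⟨A, hA, hAc, hAk⟩ := exists_sp_matrix d c hcm hcdeg hcrev
  have hcop : IsCoprime w ((X : F[X]) - 1) :=
    isCoprime_of_monic_irreducible_ne hwi hwm hX1i hX1m hw1
  have hAw : aeval A (w * (X - 1)) = 0 := by
    apply hAk
    intro g hg hgc
    rw [hc] at hgc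
    rcases hg.prime.dvd_or_dvd hgc with h | h
    · exact h.trans (dvd_mul_right _ _)
    · exact (hg.prime.dvd_of_dvd_pow h).trans (dvd_mul_left _ _)
  have hdvdr : w * (X - 1) ∣ (X : F[X]) ^ r - 1 :=
    hcop.mul_dvd hwd (X_sub_one_dvd r hr)
  have hAr : A ^ r = 1 := by
    obtain ⟨g, hg⟩ := hdvdr
    have h1 : aeval A ((X : F[X]) ^ r - 1) = 0 := by rw [hg, map_mul, hAw, zero_mul]
    rw [map_sub, map_pow, aeval_X, map_one] at h1
    exact sub_eq_zero.1 h1
  refine ⟨A, hA, hAr, ?_⟩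
  intro θ hθ hskew hcomm
  set T : Module.End F (Fin d ⊕ Fin d → F) := Matrix.toLin' A with hTdef
  set Θ : Module.End F (Fin d ⊕ Fin d → F) := Matrix.toLin' θ with hΘdef
  have hT : T ^ r = 1 := by
    rw [hTdef, ← Matrix.toLin'_pow, hAr, Matrix.toLin'_one]
    rfl
  have hrne : ((r : ℕ) : F) ≠ 0 := by
    rw [Ne, CharP.cast_eq_zero_iff F p]
    intro h
    exact hrp ((Nat.prime_dvd_prime_iff_eq Fact.out hr).1 h).symm
  have hss : T.IsSemisimple := isSemisimple_of_pow_eq_one A r hrne hAr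
  have hfixdim : finrank F (fixSpace T) = k := by
    have h1 : fixSpace T = T.maxGenEigenspace 1 := by
      rw [hss.isFinitelySemisimple.maxGenEigenspace_eq_eigenspace 1, Module.End.eigenspace_def,
        one_smul]
      rfl
    rw [h1, LinearMap.finrank_maxGenEigenspace_eq, hTdef, Matrix.charpoly_toLin', hAc, hc,
      rootMultiplicity_mul (hcm.ne_zero), rootMultiplicity_eq_zero (by rwa [IsRoot.def]), zero_add,
      hX1, rootMultiplicity_X_sub_C_pow]
  obtain ⟨a, b, hab⟩ := hcop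
  refine no_skew_aux h2 (Jform d F) Jform_nondeg T ?_ hr hT w a b hwi hab ?_ e he' hepos he hwdeg
    ?_ Θ Δ hΔ0 ?_ ?_ ?_
  · intro x y
    rw [hTdef, Jform_comp, SymplecticGroup.mem_iff'.1 hA]
    rfl
  · rw [hTdef, aeval_toLin'', hAw, map_zero]
  · rw [hfixdim, Module.finrank_pi, Fintype.card_sum, Fintype.card_fin]
    omega
  · rw [hΘdef, Module.End.mul_eq_comp, ← Matrix.toLin'_mul, hθ, map_smul, Matrix.toLin'_one]
    rfl
  · intro u v
    rw [← sympForm_eq_Jform, ← sympForm_eq_Jform, hΘdef, Matrix.toLin'_apply, Matrix.toLin'_apply]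
    exact hskew u v
  · rw [hTdef, hΘdef, Module.End.mul_eq_comp, Module.End.mul_eq_comp, ← Matrix.toLin'_mul,
      ← Matrix.toLin'_mul, hcomm]

end concrete

end Cfsg.Agent.Lib.Helper99_GUSp_PD3
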