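import Mathlib
import Cfsg.Prelude.Def_GeometricClasses
import Cfsg.Agent.Lib.Helper43_OrthExtDefs
import Cfsg.Agent.Lib.Helper99_GUSp_PD3
import Cfsg.Agent.Lib.Helper40_OEven
import Cfsg.Agent.Lib.Helper40_UMatrix
import Cfsg.Agent.Lib.Helper43_OrthReal
import Cfsg.Agent.Lib.Helper43_OrthGen

set_option autoImplicit false

/-!
# S5977 package OD3 (helper22): derangements of odd prime order `r`, `ord_r(q) = 2f`, `f` odd

An element of `Ω±_{2d}(q)` of order `r` with characteristic polynomial `w (X-1)^(2d-2f)`, `w`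
irreducible of degree `2f`, commutes with no self-adjoint `θ` with `θ² = Δ`, `Δ` a non-square.
-/

namespace Cfsg.Agent.Lib.Helper22_OrthExt_OD3

open Polynomial Matrix Module
open Cfsg.Agent.Lib.Helper40_Palindromic Cfsg.Agent.Lib.Helper40_SpPrimeOrder
  Cfsg.Agent.Lib.Helper40_PolyFactors Cfsg.Agent.Lib.Helper40_PrimeOrderClasses
  Cfsg.Agent.Lib.Helper40_SpExistMatrix Cfsg.Agent.Lib.Helper40_SpMatrix
  Cfsg.Agent.Lib.Helper99_Singer Cfsg.Agent.Lib.Helper99_PrimeGraphL Cfsg.Agent.Lib.Helper40_SpExist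
  Cfsg.Agent.Lib.Helper99_SpDerange
  Cfsg.Agent.Lib.Helper40_Semisimple Cfsg.Agent.Lib.Helper40_SpCyclic
  Cfsg.Agent.Lib.Helper99_GUSp_PD3 Cfsg.Agent.Lib.Helper43_OrthExtDefs
  Cfsg.Agent.Lib.Helper40_OEvenModel Cfsg.Agent.Lib.Helper40_OEven Cfsg.Agent.Lib.Helper40_OClasses
  Cfsg.Agent.Lib.Helper44_StdForms Cfsg.Agent.Lib.Helper44_WittMat

variable {F : Type*} [Field F]

section abstract

variable {V : Type*} [AddCommGroup V] [Module F V]

theorem pow_card_eq_neg [Fintype F] (h2 : (2 : F) ≠ 0) (Θ : Module.End F V) (Δ : F)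
    (hΔ : ¬ IsSquare Δ) (hΘ : Θ * Θ = Δ • (1 : Module.End F V)) :
    Θ ^ Fintype.card F = - Θ := by
  set q := Fintype.card F with hq
  have hodd : q % 2 = 1 := odd_card h2
  have hc : ringChar F ≠ 2 := by
    intro h
    have hc := ringChar.charP F
    rw [h] at hc
    apply h2
    have := CharP.cast_eq_zero F 2
    simpa using this
  have hΔ0 : Δ ≠ 0 := fun h => hΔ (h ▸ ⟨0, by simp⟩)
  have hpow : Δ ^ (q / 2) = -1 := by
    rcases FiniteField.pow_dichotomy hc hΔ0 with h | h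
    · exact absurd ((FiniteField.isSquare_iff hc hΔ0).mpr h) hΔ
    · exact h
  have hq2 : q = 2 * (q / 2) + 1 := by omega
  rw [hq2, pow_succ, pow_mul, pow_two, hΘ, _root_.smul_pow, one_pow, hpow, neg_smul, one_smul,
    neg_mul, one_mul]

theorem pow_card_pow_eq [Fintype F] (h2 : (2 : F) ≠ 0) (Θ : Module.End F V) (Δ : F)
    (hΔ : ¬ IsSquare Δ) (hΘ : Θ * Θ = Δ • (1 : Module.End F V)) (n : ℕ) (hn : Odd n) :
    Θ ^ (Fintype.card F ^ n) = - Θ := by
  have hodd : Odd (Fintype.card F) := Nat.odd_iff.2 (odd_card h2)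
  have h1 := pow_card_eq_neg h2 Θ Δ hΔ hΘ
  have h2' : Θ ^ (Fintype.card F ^ 2) = Θ := by
    rw [pow_two, pow_mul, h1, hodd.neg_pow, h1, neg_neg]
  have h3 : ∀ j : ℕ, Θ ^ ((Fintype.card F ^ 2) ^ j) = Θ := by
    intro j
    induction j with
    | zero => simp
    | succ j ih => rw [pow_succ, pow_mul, ih, h2']
  obtain ⟨j, rfl⟩ := hn
  rw [pow_succ, pow_mul, pow_mul, h3, h1]

theorem no_sa_aux [Fintype F] [Module.Finite F V] (h2 : (2 : F) ≠ 0)
    (B : LinearMap.BilinForm F V)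
    (hB : B.Nondegenerate) (T : Module.End F V) (hiso : ∀ x y, B (T x) (T y) = B x y)
    {r : ℕ} (hr : r.Prime) (hT : T ^ r = 1)
    (w a b : F[X]) (hwi : Irreducible w) (hab : a * w + b * (X - 1) = 1)
    (hk : aeval T (w * (X - 1)) = 0)
    (f : ℕ) (hf : Odd f) (he : orderOf ((Fintype.card F : ℕ) : ZMod r) = 2 * f)
    (hwdeg : w.natDegree = 2 * f)
    (hfix : finrank F (fixSpace T) + 2 * f = finrank F V)
    (Θ : Module.End F V) (Δ : F) (hΔ : ¬ IsSquare Δ) (hΘ : Θ * Θ = Δ • (1 : Module.End F V))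
    (hsa : ∀ u v, B (Θ u) v = B u (Θ v)) (hcomm : T * Θ = Θ * T) : False := by
  classical
  have hf0 : 0 < f := hf.pos
  have hΔ0 : Δ ≠ 0 := fun h => hΔ (h ▸ ⟨0, by simp⟩)
  obtain ⟨hfin, hniso⟩ := ker_facts B hB T hiso w a b hab hk (2 * f) (by omega) hfix
  set V1 := LinearMap.ker (aeval T w) with hV1
  apply hniso
  -- a nonzero vector
  have hne : V1 ≠ ⊥ := by
    intro h
    rw [h, finrank_bot] at hfin
    omega
  obtain ⟨v, hv, hv0⟩ := Submodule.exists_mem_ne_zero_of_ne_bot hne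
  have hwv : aeval T w v = 0 := LinearMap.mem_ker.1 hv
  -- V1 = cyc T v
  have hcycle : cyc T v ≤ V1 := by
    rintro _ ⟨g, rfl⟩
    rw [orbitMap_apply, hV1, LinearMap.mem_ker, ← Module.End.mul_apply, ← map_mul, mul_comm,
      map_mul, Module.End.mul_apply, hwv, map_zero]
  have hcyc : cyc T v = V1 := by
    apply Submodule.eq_of_le_of_finrank_eq hcycle
    rw [Cfsg.Agent.Lib.Helper99_SpAtoms.finrank_cyc T v hv0 w hwi hwv, hwdeg, hfin]
  -- Θ preserves V1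
  have hΘV1 : ∀ u ∈ V1, Θ u ∈ V1 := by
    intro u hu
    rw [hV1, LinearMap.mem_ker] at hu ⊢
    have h1 : aeval T w (Θ u) = Θ (aeval T w u) := by
      rw [← Module.End.mul_apply, commute_aeval T Θ hcomm w, Module.End.mul_apply]
    rw [h1, hu, map_zero]
  -- Θ = g(T) on V1
  obtain ⟨g, hg⟩ : ∃ g : F[X], aeval T g v = Θ v := by
    have : Θ v ∈ cyc T v := by rw [hcyc]; exact hΘV1 v hv
    obtain ⟨g, hg⟩ := this
    exact ⟨g, hg⟩
  have hgΘ : ∀ u ∈ V1, aeval T g u = Θ u := by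
    intro u hu
    rw [← hcyc] at hu
    obtain ⟨h, rfl⟩ := hu
    rw [orbitMap_apply, ← Module.End.mul_apply, ← map_mul, mul_comm, map_mul,
      Module.End.mul_apply, hg, ← Module.End.mul_apply, commute_aeval T Θ hcomm h,
      Module.End.mul_apply]
  -- inverse
  set q := Fintype.card F with hq
  have hdvd : r ∣ q ^ f + 1 := dvd_pow_half_add_one hr hf0 he
  set Q := q ^ f with hQ
  have hTQ : T * T ^ Q = 1 := by
    obtain ⟨c, hc⟩ := hdvd
    rw [← pow_succ', hc, pow_mul, hT, one_pow]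
  have hFrob : aeval (T ^ Q) g = (aeval T g) ^ Q := aeval_pow_card_pow T g f
  have hΘQ : Θ ^ Q = - Θ := pow_card_pow_eq h2 Θ Δ hΔ hΘ f hf
  have hgpow : ∀ n : ℕ, ∀ u ∈ V1, ((aeval T g) ^ n) u = (Θ ^ n) u ∧ (Θ ^ n) u ∈ V1 := by
    intro n
    induction n with
    | zero => intro u hu; simp [hu]
    | succ n ih =>
      intro u hu
      obtain ⟨h1, h2'⟩ := ih u hu
      rw [pow_succ', pow_succ', Module.End.mul_apply, Module.End.mul_apply, h1]
      exact ⟨hgΘ _ h2', hΘV1 _ h2'⟩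
  have hskew : ∀ u ∈ V1, ∀ v' ∈ V1, B (Θ u) v' = - B u (Θ v') := by
    intro u hu v' hv'
    rw [← hgΘ u hu, adj_aeval B T (T ^ Q) hiso hTQ g u v', hFrob, (hgpow Q v' hv').1, hΘQ,
      LinearMap.neg_apply, map_neg]
  have hzero : ∀ u ∈ V1, ∀ v' ∈ V1, B u (Θ v') = 0 := by
    intro u hu v' hv'
    have h1 := hskew u hu v' hv'
    rw [hsa] at h1
    have h3 : (2 : F) * B u (Θ v') = 0 := by
      rw [two_mul]
      nth_rewrite 1 [h1]
      exact neg_add_cancel _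
    rcases mul_eq_zero.1 h3 with h | h
    · exact absurd h h2
    · exact h
  intro u hu v' hv'
  have hv'' : v' = Θ (Δ⁻¹ • Θ v') := by
    rw [map_smul, ← Module.End.mul_apply, hΘ, LinearMap.smul_apply, Module.End.one_apply,
      smul_smul, inv_mul_cancel₀ hΔ0, one_smul]
  rw [hv'']
  exact hzero u hu _ (V1.smul_mem _ (hΘV1 v' hv'))

end abstract

section concrete

variable [Fintype F]

/-- the generic derangement statement -/
theorem no_comm_of_charpoly (p : ℕ) [Fact p.Prime] [CharP F p] (h2 : (2 : F) ≠ 0)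
    {ι : Type} [Fintype ι] [DecidableEq ι] (Q : QuadraticForm F (ι → F))
    (hQ : (QuadraticMap.polarBilin Q).Nondegenerate)
    (r : ℕ) (hr : r.Prime) (hrp : r ≠ p) (f : ℕ) (hf : Odd f)
    (hef : orderOf ((Fintype.card F : ℕ) : ZMod r) = 2 * f)
    (w : F[X]) (hwm : w.Monic) (hwi : Irreducible w) (hw1 : w ≠ X - 1)
    (hwdeg : w.natDegree = 2 * f)
    (k : ℕ) (hcard : Fintype.card ι = 2 * f + k)
    (A : Matrix ι ι F) (hAQ : ∀ v, Q (A *ᵥ v) = Q v) (hAr : A ^ r = 1)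
    (hAc : A.charpoly = w * (X - 1) ^ k)
    (Δ : F) (hΔ : ¬ IsSquare Δ) (θ : Matrix ι ι F) (hθ : θ * θ = Δ • (1 : Matrix ι ι F))
    (hsa : IsSA (⇑Q) θ) : A * θ ≠ θ * A := by
  classical
  intro hcomm
  have hX1 : ((X : F[X]) - 1) = X - C 1 := by rw [map_one]
  have hX1m : ((X : F[X]) - 1).Monic := X_sub_one_props.1
  have hX1i : Irreducible ((X : F[X]) - 1) := X_sub_one_props.2
  have hev1 : w.eval 1 ≠ 0 := eval_one_ne_zero w hwm hwi hw1
  have hcm : (w * (X - 1) ^ k).Monic := hwm.mul (hX1m.pow k)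
  set T : Module.End F (ι → F) := Matrix.toLin' A with hTdef
  set Θ : Module.End F (ι → F) := Matrix.toLin' θ with hΘdef
  have hT : T ^ r = 1 := by
    rw [hTdef, ← Matrix.toLin'_pow, hAr, Matrix.toLin'_one]
    rfl
  have hrne : ((r : ℕ) : F) ≠ 0 := by
    rw [Ne, CharP.cast_eq_zero_iff F p]
    intro h
    exact hrp ((Nat.prime_dvd_prime_iff_eq Fact.out hr).1 h).symm
  have hss : T.IsSemisimple :=
    Cfsg.Agent.Lib.Helper40_UMatrix.isSemisimple_of_pow_eq_one A r hrne hAr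
  have hTw : aeval T (w * (X - 1)) = 0 := by
    apply Module.End.eq_zero_of_isNilpotent_isSemisimple _ (hss.aeval _)
    refine ⟨k + 1, ?_⟩
    rw [← map_pow]
    have h1 : (w * (X - 1)) ^ (k + 1) = (w * (X - 1) ^ k) * (w ^ k * (X - 1)) := by
      rw [mul_pow, pow_succ, pow_succ]; ring
    have h3 : aeval T (w * (X - 1) ^ k) = 0 := by
      have := LinearMap.aeval_self_charpoly T
      rwa [hTdef, Matrix.charpoly_toLin', hAc] at this
    rw [h1, map_mul, h3, zero_mul]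
  have hfixdim : finrank F (fixSpace T) = k := by
    have h1 : fixSpace T = T.maxGenEigenspace 1 := by
      rw [hss.isFinitelySemisimple.maxGenEigenspace_eq_eigenspace 1, Module.End.eigenspace_def,
        one_smul]
      rfl
    rw [h1, LinearMap.finrank_maxGenEigenspace_eq, hTdef, Matrix.charpoly_toLin', hAc,
      rootMultiplicity_mul (hcm.ne_zero), rootMultiplicity_eq_zero (by rwa [IsRoot.def]), zero_add,
      hX1, rootMultiplicity_X_sub_C_pow]
  have hcop : IsCoprime w ((X : F[X]) - 1) :=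
    isCoprime_of_monic_irreducible_ne hwi hwm hX1i hX1m hw1
  obtain ⟨a, b, hab⟩ := hcop
  have hpolar : ∀ x y, QuadraticMap.polarBilin Q (T x) (T y) = QuadraticMap.polarBilin Q x y := by
    intro x y
    simp only [QuadraticMap.polarBilin_apply_apply, QuadraticMap.polar, hTdef,
      Matrix.toLin'_apply]
    rw [← Matrix.mulVec_add, hAQ, hAQ, hAQ]
  refine no_sa_aux h2 (QuadraticMap.polarBilin Q) hQ T hpolar hr hT w a b hwi hab hTw f hf hef
    hwdeg ?_ Θ Δ hΔ ?_ ?_ ?_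
  · rw [hfixdim, Module.finrank_pi, hcard]
    omega
  · rw [hΘdef, Module.End.mul_eq_comp, ← Matrix.toLin'_mul, hθ, map_smul, Matrix.toLin'_one]
    rfl
  · intro u v
    simp only [QuadraticMap.polarBilin_apply_apply, hΘdef, Matrix.toLin'_apply]
    exact hsa u v
  · rw [hTdef, hΘdef, Module.End.mul_eq_comp, Module.End.mul_eq_comp, ← Matrix.toLin'_mul,
      ← Matrix.toLin'_mul, hcomm]

/-- the irreducible factor and its palindromic multiples -/
theorem exists_w (p : ℕ) [Fact p.Prime] [CharP F p] (r : ℕ) (hr : r.Prime) (hrp : r ≠ p)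
    (f : ℕ) (hef : orderOf ((Fintype.card F : ℕ) : ZMod r) = 2 * f) :
    ∃ w : F[X], w.Monic ∧ Irreducible w ∧ w ≠ X - 1 ∧ w.natDegree = 2 * f ∧
      ∀ d : ℕ, f ≤ d → Pal r d (w * (X - 1) ^ (2 * (d - f))) := by
  classical
  have hrF : Fact r.Prime := ⟨hr⟩
  have hrq : ¬ r ∣ Fintype.card F := not_dvd_card p hr hrp
  set e := orderOf ((Fintype.card F : ℕ) : ZMod r) with he'
  obtain ⟨hepos, Ws, hWcard, hWs, -⟩ := exists_cyclotomic_factors (F := F) p r hr hrp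
  have hee : Even e := ⟨f, by omega⟩
  have hq0 : ((Fintype.card F : ℕ) : ZMod r) ≠ 0 := by
    rwa [Ne, ZMod.natCast_eq_zero_iff]
  have hedvd : e ∣ r - 1 := ZMod.orderOf_dvd_card_sub_one hq0
  have hWne : Ws.Nonempty := by
    rw [← Finset.card_pos, hWcard]
    exact Nat.div_pos (Nat.le_of_dvd (by have := hr.two_le; omega) hedvd) hepos
  obtain ⟨w, hw⟩ := hWne
  obtain ⟨hwm, hwi, hw1, hwd, hwdeg⟩ := hWs w hw
  have hw0 : w.coeff 0 ≠ 0 := coeff_zero_ne_zero_of_dvd r hr.pos w hwd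
  have hrec : recip w = w := recip_eq_of_even p r e hr he' hepos hee w hwm hwi hw1 hwd
  have hev1 : w.eval 1 ≠ 0 := eval_one_ne_zero w hwm hwi hw1
  have hc0 : w.coeff 0 = 1 := coeff_zero_eq_one_of_recip_eq w hw0 hrec hev1
  have hwrev : w.reverse = w := reverse_eq_of_recip_eq w hc0 hrec
  have hX1m : ((X : F[X]) - 1).Monic := X_sub_one_props.1
  have hwdeg' : w.natDegree = 2 * f := by rw [hwdeg, ← he', hef]
  refine ⟨w, hwm, hwi, hw1, hwdeg', ?_⟩
  intro d hfd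
  refine ⟨hwm.mul (hX1m.pow _), ?_, ?_, ?_⟩
  · rw [(hwm.natDegree_mul (hX1m.pow _)), (hX1m.natDegree_pow _), natDegree_X_sub_one, hwdeg']
    omega
  · rw [reverse_mul_of_domain, hwrev, reverse_X_sub_one_pow _ ⟨d - f, two_mul _⟩]
  · intro g hg hgc
    rcases hg.prime.dvd_or_dvd hgc with h | h
    · exact h.trans hwd
    · exact (hg.prime.dvd_of_dvd_pow h).trans (X_sub_one_dvd r hr)

omit [Fintype F] in
theorem aniso_of_not_isSquare (Δ : F) (hΔ : ¬ IsSquare Δ) :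
    ∀ z₁ z₂ : F, z₁ ^ 2 + 0 * z₁ * z₂ + (-Δ) * z₂ ^ 2 = 0 → z₁ = 0 ∧ z₂ = 0 := by
  intro z₁ z₂ h
  have hz2 : z₂ = 0 := by
    by_contra hz
    apply hΔ
    refine ⟨z₁ / z₂, ?_⟩
    field_simp
    linear_combination -h
  subst hz2
  refine ⟨?_, rfl⟩
  have : z₁ ^ 2 = 0 := by linear_combination h
  exact pow_eq_zero_iff (two_ne_zero) |>.1 this

/-- the common final step -/
theorem final_step (p : ℕ) [Fact p.Prime] [CharP F p] (h2 : (2 : F) ≠ 0)
    {ι : Type} [Fintype ι] [DecidableEq ι] (Q : QuadraticForm F (ι → F))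
    (hQ : (QuadraticMap.polarBilin Q).Nondegenerate)
    (r : ℕ) (hr : r.Prime) (hr2 : r ≠ 2) (hrp : r ≠ p) (f : ℕ) (hf : Odd f)
    (hef : orderOf ((Fintype.card F : ℕ) : ZMod r) = 2 * f)
    (w : F[X]) (hwm : w.Monic) (hwi : Irreducible w) (hw1 : w ≠ X - 1)
    (hwdeg : w.natDegree = 2 * f)
    (k : ℕ) (hcard : Fintype.card ι = 2 * f + k)
    (g : ↥(Cfsg.isometryGroup F ⇑Q)) (hg : g ^ r = 1)
    (hgc : (mat Q g).charpoly = w * (X - 1) ^ k) (Δ : F) (hΔ : ¬ IsSquare Δ) :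
    ∃ x : GL ι F, x ∈ Cfsg.Geo.omegaGL (⇑Q) ∧ x ^ r = 1 ∧
      ∀ θ : Matrix ι ι F, θ * θ = Δ • (1 : Matrix ι ι F) → IsSA (⇑Q) θ →
        (x : Matrix ι ι F) * θ ≠ θ * (x : Matrix ι ι F) := by
  have hodd : Odd r := hr.odd_of_ne_two hr2
  have hxQ : ∀ v : ι → F, Q (((g : GL ι F) : Matrix ι ι F) *ᵥ v) = Q v := fun v =>
    (Cfsg.Agent.Lib.Helper44_Orth.mem_isometryGroup_iff (⇑Q) (g : GL ι F)).1 g.2 v
  have hxr : (g : GL ι F) ^ r = 1 := by
    rw [← Subgroup.coe_pow, hg, Subgroup.coe_one]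
  refine ⟨(g : GL ι F), Cfsg.Agent.Lib.Helper43_OrthReal.mem_omegaGL_of_pow h2 Q hQ _ hxQ r hodd hxr,
    hxr, ?_⟩
  intro θ hθ hsa
  exact no_comm_of_charpoly p h2 Q hQ r hr hrp f hf hef w hwm hwi hw1 hwdeg k hcard
    (mat Q g) hxQ ((mat_pow_eq_one_iff Q g r).2 hg) hgc Δ hΔ θ hθ hsa

end concrete

/-- OD3 (plus): `ord_r(q) = 2f`, `f` odd, `f + 1 ≤ d` -/
theorem OD3_plus {F : Type*} [Field F] [Fintype F] (p : ℕ) [Fact p.Prime] [CharP F p]
    (h2 : (2 : F) ≠ 0) (d : ℕ) (r : ℕ) (hr : r.Prime) (hr2 : r ≠ 2) (hrp : r ≠ p)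
    (f : ℕ) (hf : Odd f) (hef : orderOf ((Fintype.card F : ℕ) : ZMod r) = 2 * f)
    (hfd : f + 1 ≤ d) (Δ : F) (hΔ : ¬ IsSquare Δ) :
    ∃ x : GL (Fin d ⊕ Fin d) F, x ∈ Cfsg.Geo.omegaGL (Cfsg.quadFormPlus d F) ∧ x ^ r = 1 ∧
      ∀ θ : Matrix (Fin d ⊕ Fin d) (Fin d ⊕ Fin d) F,
        θ * θ = Δ • (1 : Matrix (Fin d ⊕ Fin d) (Fin d ⊕ Fin d) F) →
        IsSA (Cfsg.quadFormPlus d F) θ →
        (x : Matrix (Fin d ⊕ Fin d) (Fin d ⊕ Fin d) F) * θ ≠
          θ * (x : Matrix (Fin d ⊕ Fin d) (Fin d ⊕ Fin d) F) := by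
  classical
  have hodd : Odd r := hr.odd_of_ne_two hr2
  have hrne : ((r : ℕ) : F) ≠ 0 := by
    rw [Ne, CharP.cast_eq_zero_iff F p]
    intro h
    exact hrp ((Nat.prime_dvd_prime_iff_eq Fact.out hr).1 h).symm
  obtain ⟨w, hwm, hwi, hw1, hwdeg, hpal⟩ := exists_w (F := F) p r hr hrp f hef
  have hdvd : ((X : F[X]) - 1) ∣ w * (X - 1) ^ (2 * (d - f)) := by
    apply Dvd.dvd.mul_left
    exact dvd_pow_self _ (by omega)
  obtain ⟨⟨g, hg, hgc⟩, -⟩ := real_of_dvd d (by omega) r hodd hrne _ (hpal d (by omega)) hdvd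
    0 (-Δ) (aniso_of_not_isSquare Δ hΔ)
  have hcard : Fintype.card (Fin d ⊕ Fin d) = 2 * f + 2 * (d - f) := by
    rw [Fintype.card_sum, Fintype.card_fin]
    omega
  have := final_step p h2 (qfPlus d F) (Cfsg.Agent.Lib.Helper43_OrthReal.nondegenerate_qfPlus d)
    r hr hr2 hrp f hf hef w hwm hwi hw1 hwdeg _ hcard g hg hgc Δ hΔ
  rwa [coe_qfPlus] at this

/-- OD3 (minus): `ord_r(q) = 2f`, `f` odd, `f ≤ d` -/
theorem OD3_minus {F : Type*} [Field F] [Fintype F] (p : ℕ) [Fact p.Prime] [CharP F p]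
    (h2 : (2 : F) ≠ 0) (d : ℕ) (hd : 1 ≤ d) (a b : F)
    (hab : ∀ x y : F, x ^ 2 + a * x * y + b * y ^ 2 = 0 → x = 0 ∧ y = 0)
    (r : ℕ) (hr : r.Prime) (hr2 : r ≠ 2) (hrp : r ≠ p)
    (f : ℕ) (hf : Odd f) (hef : orderOf ((Fintype.card F : ℕ) : ZMod r) = 2 * f)
    (hfd : f ≤ d) (Δ : F) (hΔ : ¬ IsSquare Δ) :
    ∃ x : GL ((Fin (d - 1) ⊕ Fin (d - 1)) ⊕ Fin 2) F,
      x ∈ Cfsg.Geo.omegaGL (Cfsg.quadFormMinus (d - 1) F a b) ∧ x ^ r = 1 ∧
      ∀ θ : Matrix ((Fin (d - 1) ⊕ Fin (d - 1)) ⊕ Fin 2) ((Fin (d - 1) ⊕ Fin (d - 1)) ⊕ Fin 2) F,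
        θ * θ = Δ • (1 : Matrix ((Fin (d - 1) ⊕ Fin (d - 1)) ⊕ Fin 2)
          ((Fin (d - 1) ⊕ Fin (d - 1)) ⊕ Fin 2) F) →
        IsSA (Cfsg.quadFormMinus (d - 1) F a b) θ →
        (x : Matrix ((Fin (d - 1) ⊕ Fin (d - 1)) ⊕ Fin 2) ((Fin (d - 1) ⊕ Fin (d - 1)) ⊕ Fin 2) F) * θ ≠
          θ * (x : Matrix ((Fin (d - 1) ⊕ Fin (d - 1)) ⊕ Fin 2)
            ((Fin (d - 1) ⊕ Fin (d - 1)) ⊕ Fin 2) F) := by
  classical
  have hodd : Odd r := hr.odd_of_ne_two hr2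
  have hf0 : 0 < f := hf.pos
  have hrne : ((r : ℕ) : F) ≠ 0 := by
    rw [Ne, CharP.cast_eq_zero_iff F p]
    intro h
    exact hrp ((Nat.prime_dvd_prime_iff_eq Fact.out hr).1 h).symm
  obtain ⟨w, hwm, hwi, hw1, hwdeg, hpal⟩ := exists_w (F := F) p r hr hrp f hef
  have hcard : Fintype.card ((Fin (d - 1) ⊕ Fin (d - 1)) ⊕ Fin 2) = 2 * f + 2 * (d - f) := by
    rw [Fintype.card_sum, Fintype.card_sum, Fintype.card_fin, Fintype.card_fin]
    omega
  have hex : ∃ g : ↥(Cfsg.isometryGroup F ⇑(qfMinus (d - 1) F a b)),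
      g ^ r = 1 ∧ (mat (qfMinus (d - 1) F a b) g).charpoly = w * (X - 1) ^ (2 * (d - f)) := by
    rcases Nat.lt_or_ge f d with hlt | hge
    · have hdvd : ((X : F[X]) - 1) ∣ w * (X - 1) ^ (2 * (d - f)) := by
        apply Dvd.dvd.mul_left
        exact dvd_pow_self _ (by omega)
      exact (real_of_dvd d hd r hodd hrne _ (hpal d hfd) hdvd a b hab).2
    · have hfd' : f = d := le_antisymm hfd hge
      rcases real_of_not_dvd d hd r hodd hrne _ (hpal d hfd) a b hab with h | h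
      · exfalso
        obtain ⟨g, hg, hgc⟩ := h
        have hnd : ¬ ((X : F[X]) - 1) ∣ (mat (qfPlus d F) g).charpoly := by
          rw [hgc, hfd', Nat.sub_self, mul_zero, pow_zero, mul_one]
          intro hdvd
          have hX1i : Irreducible ((X : F[X]) - 1) := X_sub_one_props.2
          have hX1m : ((X : F[X]) - 1).Monic := X_sub_one_props.1
          exact hw1 (eq_of_monic_of_associated hwm hX1m
            ((hX1i.associated_of_dvd hwi hdvd).symm))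
        obtain ⟨-, h1⟩ := plus_excl p d hd r hr hr2 hrp g hg hnd
        have h3 : orderOf ((Fintype.card F : ℕ) : ZMod r) ∣ d := by
          apply h1
          rw [hef]
          omega
        rw [hef, hfd'] at h3
        have := Nat.le_of_dvd (by omega) h3
        omega
      · exact h
  obtain ⟨g, hg, hgc⟩ := hex
  have := final_step p h2 (qfMinus (d - 1) F a b)
    (Cfsg.Agent.Lib.Helper43_OrthGen.nondegenerate_qfMinus' h2 (d - 1) a b hab)
    r hr hr2 hrp f hf hef w hwm hwi hw1 hwdeg _ hcard g hg hgc Δ hΔ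
  rwa [coe_qfMinus] at this

end Cfsg.Agent.Lib.Helper22_OrthExt_OD3
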