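import Mathlib
import Cfsg.Prelude.Def_GeometricClasses
import Cfsg.Agent.Lib.Helper43_OrthExtDefs

/-!
# S5977 package PNsq (helper22): squares of `L = F(√Δ)` are detected by the norm
-/

set_option autoImplicit false

namespace Cfsg.Agent.Lib.Helper22_OrthExt_PNsq

open Matrix Cfsg.Agent.Lib.Helper3_GUSp_PC1 Cfsg.Agent.Lib.Helper43_OrthExtDefs

/-- PNsq: squares of `L` are detected by the norm -/
theorem PNsq {F : Type*} [Field F] [Fintype F] (h2 : (2 : F) ≠ 0) (Δ : F) (hΔ : ¬ IsSquare Δ)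
    (z : QE F Δ) (hz : z ≠ 0) : IsSquare z ↔ IsSquare (QuadraticAlgebra.norm z) := by
  have := fact_of_not_isSquare hΔ
  constructor
  · rintro ⟨w, rfl⟩
    exact ⟨QuadraticAlgebra.norm w, map_mul _ _ _⟩
  · rintro ⟨a, ha⟩
    have hc : ringChar F ≠ 2 := ringChar_ne_two h2
    have hodd : Fintype.card F % 2 = 1 := FiniteField.odd_card_of_char_ne_two hc
    have hcardL : Fintype.card (QE F Δ) = Fintype.card F ^ 2 := card_QE rfl
    have h2L : (2 : QE F Δ) ≠ 0 := by
      intro h
      apply h2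
      have := congrArg QuadraticAlgebra.re h
      rwa [QuadraticAlgebra.re_ofNat, QuadraticAlgebra.re_zero] at this
    have hcL : ringChar (QE F Δ) ≠ 2 := ringChar_ne_two h2L
    rw [FiniteField.isSquare_iff hcL hz, hcardL]
    have hzq : z ^ (Fintype.card F + 1) = QuadraticAlgebra.C (QuadraticAlgebra.norm z) := by
      rw [pow_succ, pow_card_eq rfl h2 hΔ]
      ext <;> simp [QuadraticAlgebra.norm_def] <;> ring
    have ha0 : a ≠ 0 := by
      rintro rfl
      rw [mul_zero] at ha
      have h0 : z ^ (Fintype.card F + 1) = 0 := by rw [hzq, ha]; simp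
      exact hz (pow_eq_zero_iff (Nat.succ_ne_zero _) |>.mp h0)
    have hexp : Fintype.card F ^ 2 / 2 = (Fintype.card F + 1) * ((Fintype.card F - 1) / 2) := by
      obtain ⟨k, hk⟩ : ∃ k, Fintype.card F = 2 * k + 1 := ⟨Fintype.card F / 2, by omega⟩
      rw [hk]
      have h1 : (2 * k + 1) ^ 2 = 2 * ((2 * k + 1 + 1) * k) + 1 := by ring
      have h2' : (2 * k + 1 - 1) / 2 = k := by omega
      rw [h1, h2']
      generalize (2 * k + 1 + 1) * k = t
      omega
    have hpow : a ^ (Fintype.card F - 1) = 1 := FiniteField.pow_card_sub_one_eq_one a ha0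
    have hq1 : 2 * ((Fintype.card F - 1) / 2) = Fintype.card F - 1 := by omega
    rw [hexp, pow_mul, hzq, ← QuadraticAlgebra.C_pow, ha, ← sq, ← pow_mul, hq1, hpow]
    simp

end Cfsg.Agent.Lib.Helper22_OrthExt_PNsq
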