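import Mathlib
import Cfsg.Prelude.Def_GeometricClasses
import Cfsg.Agent.Lib.Helper43_OrthExtDefs

/-!
# S5977 package Pdet (helper22): the Gram determinant of the realification

`det_Psi`: for a matrix `M` over `L = QE F Δ`, `det (Psi M) = norm (det M)` (via `Matrix.det_det`
applied to the regular representation `rho`).  `Pdet`: the `F`-Gram matrix of `re ∘ q'` in the basis
`e_k, ω e_k` has determinant `Δ ^ d * norm (det Gram_L)`.
-/

set_option autoImplicit false

namespace Cfsg.Agent.Lib.Helper22_OrthExt_Pdet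

open Matrix Cfsg.Agent.Lib.Helper3_GUSp_PC1 Cfsg.Agent.Lib.Helper43_OrthExtDefs

variable {F : Type*} [Field F] {Δ : F} {d : ℕ}

/-- the regular representation of `QE F Δ` on `F²` -/
def rho (F : Type*) [Field F] (Δ : F) : QE F Δ →+* Matrix (Fin 2) (Fin 2) F where
  toFun z := !![z.re, Δ * z.im; z.im, z.re]
  map_one' := by
    ext i j; fin_cases i <;> fin_cases j <;>
      simp [QuadraticAlgebra.re_one, QuadraticAlgebra.im_one]
  map_mul' z w := by
    ext i j; fin_cases i <;> fin_cases j <;> simp [Matrix.mul_apply, Fin.sum_univ_two] <;> ring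
  map_zero' := by
    ext i j; fin_cases i <;> fin_cases j <;> simp
  map_add' z w := by
    ext i j; fin_cases i <;> fin_cases j <;> simp [mul_add]

theorem rho_apply (z : QE F Δ) : rho F Δ z = !![z.re, Δ * z.im; z.im, z.re] := rfl

theorem det_rho (z : QE F Δ) : (rho F Δ z).det = QuadraticAlgebra.norm z := by
  rw [QuadraticAlgebra.norm_def, rho_apply, Matrix.det_fin_two_of]
  ring

/-- the reindexing `Fin d × Fin 2 ≃ Fin d ⊕ Fin d` -/
def eqv (d : ℕ) : Fin d × Fin 2 ≃ Fin d ⊕ Fin d where
  toFun x := if x.2 = 0 then Sum.inl x.1 else Sum.inr x.1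
  invFun := Sum.elim (fun i => (i, 0)) (fun i => (i, 1))
  left_inv := by
    rintro ⟨i, j⟩
    fin_cases j <;> simp
  right_inv := by
    rintro (i | i) <;> simp

theorem Psi_eq (M : Matrix (Fin d) (Fin d) (QE F Δ)) :
    Psi M = Matrix.reindex (eqv d) (eqv d)
      (Matrix.comp (Fin d) (Fin d) (Fin 2) (Fin 2) F (M.map (rho F Δ))) := by
  ext (i | i) (j | j) <;>
    simp [Psi, reM, imM, eqv, rho_apply, Matrix.comp_apply]

/-- restriction of scalars turns the determinant into the norm of the determinant -/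
theorem det_Psi (M : Matrix (Fin d) (Fin d) (QE F Δ)) :
    (Psi M).det = QuadraticAlgebra.norm M.det := by
  rw [Psi_eq, Matrix.det_reindex_self, ← Matrix.det_det, det_rho]

theorem single_om (k : Fin d) :
    (Pi.single k (om F Δ) : Fin d → QE F Δ) = om F Δ • Pi.single k (1 : QE F Δ) := by
  rw [← Pi.single_smul, smul_eq_mul, mul_one]

theorem re_om_mul (z : QE F Δ) : (om F Δ * z).re = Δ * z.im := by
  simp [om]

theorem im_om_mul (z : QE F Δ) : (om F Δ * z).im = z.re := by
  simp [om]

/-- Pdet: the Gram determinant of the realification -/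
theorem Pdet {F : Type*} [Field F] (Δ : F) (d : ℕ)
    (q' : QuadraticForm (QE F Δ) (Fin d → QE F Δ)) :
    (Matrix.of fun a b : Fin d ⊕ Fin d =>
        (QuadraticMap.polar (⇑q') (rbasis F Δ d a) (rbasis F Δ d b)).re).det =
      Δ ^ d * QuadraticAlgebra.norm
        (Matrix.of fun i j : Fin d =>
          QuadraticMap.polar (⇑q') (Pi.single i 1) (Pi.single j 1)).det := by
  set G : Matrix (Fin d) (Fin d) (QE F Δ) := Matrix.of fun i j : Fin d =>
    QuadraticMap.polar (⇑q') (Pi.single i 1) (Pi.single j 1) with hG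
  have hmat : (Matrix.of fun a b : Fin d ⊕ Fin d =>
      (QuadraticMap.polar (⇑q') (rbasis F Δ d a) (rbasis F Δ d b)).re) =
      fromBlocks (1 : Matrix (Fin d) (Fin d) F) 0 0 (Δ • (1 : Matrix (Fin d) (Fin d) F)) *
        Psi G := by
    rw [Psi, fromBlocks_multiply]
    simp only [one_mul, zero_mul, add_zero, zero_add, Matrix.smul_mul]
    ext (i | i) (j | j)
    · simp [rbasis, reM, hG]
    · simp only [rbasis, Sum.elim_inl, Sum.elim_inr, of_apply, fromBlocks_apply₁₂,
        Matrix.smul_apply, imM, Matrix.map_apply, hG, smul_eq_mul]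
      rw [single_om, QuadraticMap.polar_smul_right, smul_eq_mul, re_om_mul]
    · simp only [rbasis, Sum.elim_inl, Sum.elim_inr, of_apply, fromBlocks_apply₂₁,
        Matrix.smul_apply, imM, Matrix.map_apply, hG, smul_eq_mul]
      rw [single_om, QuadraticMap.polar_smul_left, smul_eq_mul, re_om_mul]
    · simp only [rbasis, Sum.elim_inr, of_apply, fromBlocks_apply₂₂,
        Matrix.smul_apply, reM, Matrix.map_apply, hG, smul_eq_mul]
      rw [single_om, single_om, QuadraticMap.polar_smul_left, QuadraticMap.polar_smul_right,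
        smul_eq_mul, smul_eq_mul, re_om_mul, im_om_mul]
  rw [hmat, Matrix.det_mul, Matrix.det_fromBlocks_zero₁₂, Matrix.det_one, one_mul,
    Matrix.det_smul, Matrix.det_one, mul_one, Fintype.card_fin, det_Psi]

end Cfsg.Agent.Lib.Helper22_OrthExt_Pdet
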