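import Mathlib

namespace Cfsg.Agent.Lib.Helper22_OrthInvol

open Matrix

/-- abstract matrix core: if `Qᵀ G Q` is diagonal and `Q` is invertible, the conjugate of a sign
diagonal by `Q` is an isometry of `G`, an involution, and `B - 1` has the rank of `D - 1`. -/
theorem core {F : Type*} [Field F] {b : ℕ}
    (G Q Q' : Matrix (Fin b) (Fin b) F) (hQ : Q * Q' = 1) (hQ' : Q' * Q = 1)
    (m : Fin b → F) (hm : Q.transpose * G * Q = diagonal m)
    (ε : Fin b → F) (hε : ∀ j, ε j * ε j = 1) :
    (Q * diagonal ε * Q').transpose * G * (Q * diagonal ε * Q') = G ∧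
      (Q * diagonal ε * Q') * (Q * diagonal ε * Q') = 1 ∧
      (Q * diagonal ε * Q' - 1).rank = (diagonal (fun j => ε j - 1)).rank := by
  have hdd : diagonal ε * diagonal ε = (1 : Matrix (Fin b) (Fin b) F) := by
    rw [diagonal_mul_diagonal]
    simp [hε, ← diagonal_one]
  have hdmd : diagonal ε * diagonal m * diagonal ε = diagonal m := by
    rw [diagonal_mul_diagonal, diagonal_mul_diagonal]
    congr 1
    funext j
    rw [mul_comm (ε j) (m j), mul_assoc, hε, mul_one]
  have hQt : Q'.transpose * Q.transpose = 1 := by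
    rw [← transpose_mul, hQ, transpose_one]
  refine ⟨?_, ?_, ?_⟩
  · have hG : G = Q'.transpose * diagonal m * Q' := by
      rw [← hm]
      calc G = (Q'.transpose * Q.transpose) * G * (Q * Q') := by rw [hQt, hQ, one_mul, mul_one]
        _ = _ := by simp only [Matrix.mul_assoc]
    calc (Q * diagonal ε * Q').transpose * G * (Q * diagonal ε * Q')
        = Q'.transpose * (diagonal ε * (Q.transpose * G * Q) * diagonal ε) * Q' := by
          simp only [transpose_mul, diagonal_transpose, Matrix.mul_assoc]
      _ = Q'.transpose * diagonal m * Q' := by rw [hm, hdmd]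
      _ = G := hG.symm
  · calc (Q * diagonal ε * Q') * (Q * diagonal ε * Q')
        = Q * (diagonal ε * (Q' * Q) * diagonal ε) * Q' := by
          simp only [Matrix.mul_assoc]
      _ = 1 := by rw [hQ', mul_one, hdd, mul_one, hQ]
  · have hdetQ : IsUnit Q.det := by
      have h := congrArg Matrix.det hQ
      rw [det_mul, det_one] at h
      exact IsUnit.of_mul_eq_one _ h
    have hdetQ' : IsUnit Q'.det := by
      have h := congrArg Matrix.det hQ'
      rw [det_mul, det_one] at h
      exact IsUnit.of_mul_eq_one _ h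
    have hsub : Q * diagonal ε * Q' - 1 = Q * (diagonal (fun j => ε j - 1) * Q') := by
      have : diagonal (fun j => ε j - 1) = diagonal ε - (1 : Matrix (Fin b) (Fin b) F) := by
        rw [← diagonal_one, diagonal_sub]
      rw [this, Matrix.sub_mul, Matrix.mul_sub, one_mul, hQ, Matrix.mul_assoc]
    rw [hsub, rank_mul_eq_right_of_isUnit_det Q _ hdetQ, rank_mul_eq_left_of_isUnit_det Q' _ hdetQ']

theorem exists_orth_involution {F : Type*} [Field F] (h2 : (2 : F) ≠ 0) {b : ℕ}
    (G : Matrix (Fin b) (Fin b) F) (hG : G.IsSymm) (k : ℕ) (hk : k ≤ b) :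
    ∃ B : Matrix (Fin b) (Fin b) F, B.transpose * G * B = G ∧ B * B = 1 ∧ (B - 1).rank = k := by
  classical
  have : Invertible (2 : F) := invertibleOfNonzero h2
  have hsymm : LinearMap.IsSymm (Matrix.toBilin' G) :=
    LinearMap.BilinForm.isSymm_iff.mp (Matrix.isSymm_toBilin'_iff_isSymm.mpr hG)
  obtain ⟨v0, hv0⟩ := LinearMap.BilinForm.exists_orthogonal_basis hsymm
  have hfr : Module.finrank F (Fin b → F) = b := by simp
  set v : Module.Basis (Fin b) F (Fin b → F) := v0.reindex (finCongr hfr) with hv
  have hortho : ∀ i j, i ≠ j → Matrix.toBilin' G (v i) (v j) = 0 := by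
    intro i j hij
    rw [hv, Module.Basis.reindex_apply, Module.Basis.reindex_apply]
    exact hv0 (fun h => hij ((finCongr hfr).symm.injective h))
  set e := Pi.basisFun F (Fin b) with he
  set Q : Matrix (Fin b) (Fin b) F := e.toMatrix v with hQdef
  set Q' : Matrix (Fin b) (Fin b) F := v.toMatrix e with hQ'def
  have hQ : Q * Q' = 1 := Module.Basis.toMatrix_mul_toMatrix_flip _ _
  have hQ' : Q' * Q = 1 := Module.Basis.toMatrix_mul_toMatrix_flip _ _
  have hQapp : ∀ a j, Q a j = v j a := by
    intro a j
    rw [hQdef, Module.Basis.toMatrix_apply, he, Pi.basisFun_repr]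
  have hm : Q.transpose * G * Q = diagonal (fun j => Matrix.toBilin' G (v j) (v j)) := by
    ext i j
    have hij : (Q.transpose * G * Q) i j = Matrix.toBilin' G (v i) (v j) := by
      rw [Matrix.toBilin'_apply']
      simp only [Matrix.mul_apply, transpose_apply, hQapp, dotProduct, mulVec, Finset.sum_mul,
        Finset.mul_sum, mul_assoc]
      rw [Finset.sum_comm]
    rw [hij]
    by_cases h : i = j
    · subst h; simp
    · rw [diagonal_apply_ne _ h]; exact hortho i j h
  set ε : Fin b → F := fun j => if (j : ℕ) < k then -1 else 1 with hεdef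
  have hε : ∀ j, ε j * ε j = 1 := by
    intro j
    simp only [hεdef]
    split_ifs <;> simp
  obtain ⟨h1, h2', h3⟩ := core G Q Q' hQ hQ' _ hm ε hε
  refine ⟨Q * diagonal ε * Q', h1, h2', ?_⟩
  rw [h3, rank_diagonal]
  have hiff : ∀ j : Fin b, (ε j - 1 ≠ 0) ↔ (j : ℕ) < k := by
    intro j
    simp only [hεdef]
    split_ifs with hj
    · simp only [hj, iff_true]
      intro h
      apply h2
      have : (2 : F) = -((-1 : F) - 1) := by ring
      rw [this, h, neg_zero]
    · simp [hj]
  rw [Fintype.card_congr (Equiv.subtypeEquivRight hiff)]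
  rw [Fintype.card_subtype]
  have : (Finset.univ.filter fun j : Fin b => (j : ℕ) < k) = (Finset.range k).attachFin
      (fun i hi => lt_of_lt_of_le (Finset.mem_range.mp hi) hk) := by
    ext j
    simp
  rw [this, Finset.card_attachFin, Finset.card_range]

end Cfsg.Agent.Lib.Helper22_OrthInvol
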