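import Cfsg.Agent.Lib.Helper22_BaerAction
import Cfsg.Agent.Lib.Helper23_PConstrained
import Cfsg.Agent.Lib.Helper1_Cores

/-!
Invariant `p'`-subgroups of `p`-constrained groups (helper22).

`le_pPrimeCore_of_invariant`: `X` `p`-constrained, `p` odd, `A` an abelian `p`-subgroup containing every element of
order `p` of `C_X(A)`; then every `A`-invariant `p'`-subgroup of `X` lies in `O_{p'}(X)`.
-/

set_option autoImplicit false

namespace Cfsg.Agent.Lib.Helper22_PConstrainedInv

open Subgroup Cfsg Cfsg.Agent.Lib.Helper22_BaerAction Cfsg.Agent.Lib.Helper23_PConstrained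
  Cfsg.Agent.Lib.Helper1_Cores

open scoped commutatorElement

variable {X : Type*} [Group X] [Finite X]

omit [Finite X] in
/-- Lifting an element of order dividing `p` of `C_{X/N}(AN/N)`, `N` a normal `p'`-subgroup, `A` a `p`-subgroup. -/
theorem exists_lift_centralizing (p : ℕ) [Fact p.Prime] (N : Subgroup X) [N.Normal]
    (hN : (Nat.card N).Coprime p) (A : Subgroup X) (hA : IsPGroup p A) (xb : X ⧸ N) (hxp : xb ^ p = 1)
    (hcomm : ∀ a ∈ A, QuotientGroup.mk' N a * xb = xb * QuotientGroup.mk' N a) :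
    ∃ y : X, QuotientGroup.mk' N y = xb ∧ y ^ p = 1 ∧ ∀ a ∈ A, a * y = y * a := by
  have hp : p.Prime := Fact.out
  set π := QuotientGroup.mk' N with hπ
  obtain ⟨x, hx⟩ := QuotientGroup.mk'_surjective N xb
  -- `A` acts on the fibre of `xb`
  let α := {y : X // π y = xb}
  letI : MulAction A α :=
    { smul := fun a y => ⟨(a : X) * y * (a : X)⁻¹, by
        rw [map_mul, map_mul, y.2, hcomm a a.2, map_inv, mul_inv_cancel_right]⟩
      one_smul := fun y => by
        apply Subtype.ext
        show ((1 : A) : X) * y * ((1 : A) : X)⁻¹ = y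
        simp
      mul_smul := fun a b y => by
        apply Subtype.ext
        show ((a * b : A) : X) * y * ((a * b : A) : X)⁻¹ = (a : X) * ((b : X) * y * (b : X)⁻¹) * (a : X)⁻¹
        simp [mul_assoc] }
  have hcard : Nat.card α = Nat.card N := by
    apply Nat.card_congr
    exact
      { toFun := fun y => ⟨x⁻¹ * y, by
          rw [← QuotientGroup.eq_one_iff, ← QuotientGroup.mk'_apply, ← hπ, map_mul, map_inv, hx, y.2,
            inv_mul_cancel]⟩
        invFun := fun n => ⟨x * n, by
          rw [map_mul, hx]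
          have : π (n : X) = 1 := by
            rw [hπ, QuotientGroup.mk'_apply, QuotientGroup.eq_one_iff]; exact n.2
          rw [this, mul_one]⟩
        left_inv := fun y => by apply Subtype.ext; simp
        right_inv := fun n => by apply Subtype.ext; simp }
  have hnd : ¬ p ∣ Nat.card α := by
    rw [hcard]
    intro h
    exact hp.one_lt.ne' (Nat.eq_one_of_dvd_coprimes hN h dvd_rfl)
  obtain ⟨y, hy⟩ := hA.nonempty_fixed_point_of_prime_not_dvd_card α hnd
  rw [MulAction.mem_fixedPoints] at hy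
  have hyA : ∀ a ∈ A, a * (y : X) = y * a := by
    intro a ha
    have := congrArg Subtype.val (hy ⟨a, ha⟩)
    have h4 : a * (y : X) * a⁻¹ = y := this
    calc a * (y : X) = a * y * a⁻¹ * a := by group
      _ = y * a := by rw [h4]
  -- adjust the order
  have hord : orderOf xb ∣ p := orderOf_dvd_of_pow_eq_one hxp
  have hcop : (Nat.card N).Coprime (orderOf xb) := Nat.Coprime.coprime_dvd_right hord hN
  obtain ⟨m, hm⟩ := exists_pow_eq_self_of_coprime hcop
  refine ⟨((y : X) ^ Nat.card N) ^ m, ?_, ?_, ?_⟩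
  · rw [map_pow, map_pow, y.2, hm]
  · have hyN : (y : X) ^ p ∈ N := by
      rw [← QuotientGroup.eq_one_iff, ← QuotientGroup.mk'_apply, ← hπ, map_pow, y.2, hxp]
    have h1 : ((y : X) ^ p) ^ Nat.card N = 1 := by
      have h2 : (⟨(y : X) ^ p, hyN⟩ : N) ^ Nat.card N = 1 := pow_card_eq_one'
      have h3 := congrArg Subtype.val h2
      rwa [Subgroup.coe_pow] at h3
    calc (((y : X) ^ Nat.card N) ^ m) ^ p = (((y : X) ^ p) ^ Nat.card N) ^ m := by
          rw [← pow_mul, ← pow_mul, ← pow_mul, ← pow_mul]; congr 1; ring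
      _ = 1 := by rw [h1, one_pow]
  · intro a ha
    have hc : Commute a (y : X) := hyA a ha
    exact ((hc.pow_right _).pow_right _).eq

/-- **Invariant `p'`-subgroups of `p`-constrained groups, `p` odd.** -/
theorem le_pPrimeCore_of_invariant (p : ℕ) [Fact p.Prime] (hp : p ≠ 2) (hX : IsPConstrained p X)
    (A : Subgroup X) (hAp : IsPGroup p ↥A)
    (hΩ : ∀ x ∈ centralizer (A : Set X), orderOf x = p → x ∈ A) (Q : Subgroup X)
    (hQ : ¬ p ∣ Nat.card ↥Q) (hAQ : A ≤ normalizer (Q : Set X)) : Q ≤ pPrimeCore p X := by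
  have hpp : p.Prime := Fact.out
  set N := pPrimeCore p X with hN
  have hNcop : (Nat.card N).Coprime p := pPrimeCore_card_coprime p
  set π := QuotientGroup.mk' N with hπ
  set Rb := pCore p (X ⧸ N) with hRb
  have hRbp : IsPGroup p Rb := pCore_isPGroup p
  have hRbn : Rb.Normal := inferInstance
  set Qb := Q.map π with hQb
  set Ab := A.map π with hAb
  have hQcop : (Nat.card Q).Coprime p := ((Nat.Prime.coprime_iff_not_dvd hpp).mpr hQ).symm
  have hQbcop : (Nat.card Qb).Coprime p :=
    Nat.Coprime.coprime_dvd_left (Subgroup.card_map_dvd Q π) hQcop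
  have hAbp : IsPGroup p Ab := hAp.map π
  have hAbQb : Ab ≤ normalizer (Qb : Set (X ⧸ N)) :=
    (Subgroup.map_mono hAQ).trans (Subgroup.le_normalizer_map π)
  have htop : normalizer (Rb : Set (X ⧸ N)) = ⊤ := normalizer_eq_top_iff.mpr hRbn
  have hdisj : ∀ z : X ⧸ N, z ∈ Qb → z ∈ Rb → z = 1 := by
    intro z hzQ hzR
    obtain ⟨k, hk⟩ := hRbp ⟨z, hzR⟩
    have hk' : z ^ (p ^ k) = 1 := by
      have := congrArg Subtype.val hk
      rwa [Subgroup.coe_pow] at this
    have h1 : orderOf z ∣ p ^ k := orderOf_dvd_of_pow_eq_one hk'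
    have h2 : orderOf z ∣ Nat.card Qb := Subgroup.orderOf_dvd_natCard Qb hzQ
    have h3 : orderOf z = 1 := Nat.eq_one_of_dvd_coprimes (Nat.Coprime.pow_right k hQbcop) h2 h1
    exact orderOf_eq_one_iff.mp h3
  -- the hypothesis of the main theorem
  have Hbar : ∀ xb ∈ Rb, xb ^ p = 1 → (∀ ab ∈ Ab, ab * xb = xb * ab) → ∀ sb ∈ Qb, sb * xb = xb * sb := by
    intro xb hxR hxp hxA
    obtain ⟨y, hy, hyp, hyA⟩ := exists_lift_centralizing p N hNcop A hAp xb hxp
      (fun a ha => hxA _ (Subgroup.mem_map_of_mem π ha))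
    by_cases hy1 : y = 1
    · intro sb _
      rw [← hy, hy1, map_one, mul_one, one_mul]
    have hyord : orderOf y = p := orderOf_eq_prime hyp hy1
    have hyC : y ∈ centralizer (A : Set X) := by
      rw [mem_centralizer_iff]
      intro a ha
      exact hyA a ha
    have hyAm : y ∈ A := hΩ y hyC hyord
    rintro _ ⟨s, hs, rfl⟩
    have h1 : ⁅y, s⁆ ∈ Q := by
      rw [commutatorElement_def]
      exact Q.mul_mem ((mem_normalizer_iff.mp (hAQ hyAm) s).mp hs) (Q.inv_mem hs)
    have h2 : π ⁅y, s⁆ ∈ Qb := Subgroup.mem_map_of_mem π h1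
    have h3 : π ⁅y, s⁆ ∈ Rb := by
      rw [map_commutatorElement, hy, commutatorElement_def]
      have : xb * π s * xb⁻¹ * (π s)⁻¹ = xb * (π s * xb⁻¹ * (π s)⁻¹) := by group
      rw [this]
      exact Rb.mul_mem hxR (hRbn.conj_mem _ (Rb.inv_mem hxR) _)
    have h4 := hdisj _ h2 h3
    rw [map_commutatorElement, hy, commutatorElement_eq_one_iff_commute] at h4
    exact h4.eq.symm
  have hmain : Rb ≤ centralizer (Qb : Set (X ⧸ N)) :=
    centralizes_of_fixed p hp Qb Ab hAbQb hQbcop hAbp (Nat.card Rb) Rb rfl hRbp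
      (by rw [htop]; exact le_top) (by rw [htop]; exact le_top) Hbar
  -- `p`-constraint
  have hc := (isPConstrained_iff_centralizer_pCore_le p).mp hX
  have hQR : Qb ≤ Rb := by
    refine le_trans ?_ hc
    intro s hs
    rw [mem_centralizer_iff]
    intro r hr
    exact ((mem_centralizer_iff.mp (hmain hr)) s hs).symm
  intro s hs
  have h1 : π s ∈ Qb := Subgroup.mem_map_of_mem π hs
  have h2 := hdisj _ h1 (hQR h1)
  rw [hπ, QuotientGroup.mk'_apply, QuotientGroup.eq_one_iff] at h2
  exact h2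

end Cfsg.Agent.Lib.Helper22_PConstrainedInv
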