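import Cfsg.Prelude.Def_Local
import Cfsg.Agent.Lib.Helper21_Components

/-!
Quasisimple groups and central quotients; images of components (helper22).
-/

set_option autoImplicit false

namespace Cfsg.Agent.Lib.Helper22_Quasisimple

open Subgroup Cfsg
open Cfsg.Agent.Lib.Helper21_Components Cfsg.Agent.Lib.Helper29_Local
open scoped commutatorElement

/-- In a perfect group, the preimage of the centre of a central quotient is the centre. -/
theorem comap_center_quotient_eq {H : Type*} [Group H] (hperf : Group.IsPerfect H)
    (O : Subgroup H) [O.Normal] (hO : O ≤ Subgroup.center H) :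
    (Subgroup.center (H ⧸ O)).comap (QuotientGroup.mk' O) = Subgroup.center H := by
  apply le_antisymm
  · intro x hx
    rw [Subgroup.mem_comap] at hx
    have h2 : x ∈ Subgroup.upperCentralSeries H 2 := by
      rw [Subgroup.mem_upperCentralSeries_succ_iff]
      intro y
      rw [Subgroup.upperCentralSeries_one]
      apply hO
      rw [← QuotientGroup.eq_one_iff, ← QuotientGroup.mk'_apply, map_commutatorElement,
        commutatorElement_eq_one_iff_commute]
      exact (Subgroup.mem_center_iff.mp hx _).symm
    rwa [Group.IsPerfect.upperCentralSeries_eq_center H (by norm_num)] at h2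
  · intro x hx
    rw [Subgroup.mem_comap, Subgroup.mem_center_iff]
    intro y
    obtain ⟨y, rfl⟩ := QuotientGroup.mk'_surjective O y
    rw [← map_mul, ← map_mul, Subgroup.mem_center_iff.mp hx y]

/-- the canonical isomorphism `H / Z(H) ≃ (H / O) / Z(H / O)` for `H` perfect and `O` central -/
noncomputable def quotientCenterEquiv {H : Type*} [Group H] (hperf : Group.IsPerfect H)
    (O : Subgroup H) [O.Normal] (hO : O ≤ Subgroup.center H) :
    H ⧸ Subgroup.center H ≃* (H ⧸ O) ⧸ Subgroup.center (H ⧸ O) :=
  let ψ : H →* (H ⧸ O) ⧸ Subgroup.center (H ⧸ O) :=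
    (QuotientGroup.mk' (Subgroup.center (H ⧸ O))).comp (QuotientGroup.mk' O)
  have hψ : Function.Surjective ψ :=
    (QuotientGroup.mk'_surjective _).comp (QuotientGroup.mk'_surjective _)
  have hker : ψ.ker = Subgroup.center H := by
    rw [← comap_center_quotient_eq hperf O hO]
    ext x
    simp only [ψ, MonoidHom.mem_ker, MonoidHom.coe_comp, Function.comp_apply, Subgroup.mem_comap]
    rw [QuotientGroup.mk'_apply (Subgroup.center (H ⧸ O)), QuotientGroup.eq_one_iff]
  (QuotientGroup.quotientMulEquivOfEq hker.symm).trans (QuotientGroup.quotientKerEquivOfSurjective ψ hψ)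

/-- A perfect group which is a central extension of a quasisimple group is quasisimple. -/
theorem isQuasisimple_of_central_quotient {H : Type*} [Group H] (hperf : Group.IsPerfect H)
    (O : Subgroup H) [O.Normal] (hO : O ≤ Subgroup.center H) (hQ : IsQuasisimple (H ⧸ O)) :
    IsQuasisimple H := by
  refine ⟨hperf, ?_⟩
  have := hQ.2
  exact (quotientCenterEquiv hperf O hO).isSimpleGroup

/-- A central quotient of a quasisimple group is quasisimple. -/
theorem isQuasisimple_quotient {H : Type*} [Group H] (hQ : IsQuasisimple H)
    (O : Subgroup H) [O.Normal] (hO : O ≤ Subgroup.center H) : IsQuasisimple (H ⧸ O) := by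
  have hperf : Group.IsPerfect H := hQ.1
  refine ⟨inferInstance, ?_⟩
  have := hQ.2
  exact (quotientCenterEquiv hperf O hO).symm.isSimpleGroup

/-- The image of a quasisimple subgroup under a homomorphism is trivial or quasisimple. -/
theorem map_eq_bot_or_isQuasisimple {X Y : Type*} [Group X] [Group Y] (f : X →* Y) {L : Subgroup X}
    (hL : IsQuasisimple ↥L) : L.map f = ⊥ ∨ IsQuasisimple ↥(L.map f) := by
  have hn : (f.ker.subgroupOf L).Normal := inferInstance
  rcases IsQuasisimple.normal_eq_top_or_le_center hL (f.ker.subgroupOf L) with h | h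
  · left
    rw [Subgroup.subgroupOf_eq_top] at h
    rw [Subgroup.map_eq_bot_iff]
    exact h
  · right
    have hq := isQuasisimple_quotient hL (f.ker.subgroupOf L) h
    have e : ↥L ⧸ (f.subgroupMap L).ker ≃* ↥(L.map f) :=
      QuotientGroup.quotientKerEquivOfSurjective (f.subgroupMap L) (f.subgroupMap_surjective L)
    have e' : ↥L ⧸ f.ker.subgroupOf L ≃* ↥L ⧸ (f.subgroupMap L).ker :=
      QuotientGroup.quotientMulEquivOfEq (Subgroup.ker_subgroupMap (f := f) (H := L)).symm
    exact isQuasisimple_of_mulEquiv (e'.trans e) hq

/-- The image of a component under a surjective homomorphism is trivial or a component. -/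
theorem IsComponent.map_eq_bot_or {X Y : Type*} [Group X] [Group Y] {f : X →* Y}
    (hf : Function.Surjective f) {L : Subgroup X} (hL : IsComponent L) :
    L.map f = ⊥ ∨ IsComponent (L.map f) := by
  rcases map_eq_bot_or_isQuasisimple f hL.2 with h | h
  · exact Or.inl h
  · exact Or.inr ⟨hL.1.map hf, h⟩

/-- The image of the layer under a surjective homomorphism lies in the layer. -/
theorem map_layer_le_of_surjective {X Y : Type*} [Group X] [Group Y] {f : X →* Y}
    (hf : Function.Surjective f) : (layer X).map f ≤ layer Y := by
  unfold layer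
  rw [(Subgroup.gc_map_comap f).l_sSup]
  apply iSup₂_le
  intro L hL
  rcases IsComponent.map_eq_bot_or hf hL with h | h
  · rw [h]; exact bot_le
  · exact le_sSup h

end Cfsg.Agent.Lib.Helper22_Quasisimple
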