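import Mathlib
import Cfsg.Agent.Lib.Helper74_S94Defs
import Cfsg.Agent.Lib.Helper22_S94GenDefs

/-!
# s94g market (architect helper22), package LONG1

`xactD_anti`, `xactD_diag`, `xactD_add` for the long root maps of the model space (pure identities of
functions).
-/

set_option autoImplicit false
set_option linter.unusedSectionVars false
set_option linter.unusedVariables false
set_option linter.unusedSimpArgs false

namespace Cfsg.Agent.Lib.Helper2_S94G_LONG1

open Cfsg.Agent.Lib.Helper5_SteinbergA Cfsg.Agent.Lib.Helper66_S92 Cfsg.Agent.Lib.Helper66_S96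
  Cfsg.Agent.Lib.Helper74_S94 Cfsg.Agent.Lib.Helper22_S94Gen

variable {ι : Type*} [DecidableEq ι] {K : Type*} [Field K]

/-! ### LONG1 (M): `anti`, `diag`, `add` for the long root maps -/
theorem xactD_anti (a c : ι ⊕ ι) (t : K) (x : ι ⊕ ι → K) : xactD c a t x = xactD a c (-t) x := by
  by_cases hc : c = ng a
  · have ha : a = ng c := by rw [hc, ng_ng]
    simp only [xactD, if_pos hc, if_pos ha]
  · have ha : ¬ a = ng c := fun h => hc (by rw [h, ng_ng])
    simp only [xactD, if_neg hc, if_neg ha]
    funext i
    simp only [Pi.add_apply, Pi.sub_apply, Pi.single_apply]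
    split_ifs <;> ring

theorem xactD_diag (a : ι ⊕ ι) (t : K) (x : ι ⊕ ι → K) : xactD a a t x = x := by
  simp only [xactD, if_neg (ne_ng a)]
  funext i
  simp

theorem xactD_add (a c : ι ⊕ ι) (t u : K) (x : ι ⊕ ι → K) :
    xactD a c t (xactD a c u x) = xactD a c (t + u) x := by
  by_cases hc : c = ng a
  · simp only [xactD, if_pos hc]
  · have ha : ¬ a = ng c := fun h => hc (by rw [h, ng_ng])
    have h1 : ng c ≠ a := fun h => ha h.symm
    have h2 : ng c ≠ c := ng_ne c
    have h3 : ng a ≠ a := ng_ne a
    have h4 : ng a ≠ c := fun h => hc h.symm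
    simp only [xactD, if_neg hc]
    funext i
    simp only [Pi.add_apply, Pi.sub_apply, Pi.single_apply, if_neg h1, if_neg h2, if_neg h3,
      if_neg h4, add_zero, sub_zero]
    split_ifs <;> ring

end Cfsg.Agent.Lib.Helper2_S94G_LONG1
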