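import Mathlib
import Cfsg.Agent.Lib.Helper74_S94Defs
import Cfsg.Agent.Lib.Helper22_S94GenDefs

/-!
# s94g market (architect helper22), package LONG2

`xactD_comm`, `xactD_comm2`: commuting long root maps of the model space (pure identities of
functions).
-/

set_option autoImplicit false
set_option linter.unusedSectionVars false
set_option linter.unusedVariables false
set_option linter.unusedSimpArgs false

namespace Cfsg.Agent.Lib.Helper2_S94G_LONG2

open Cfsg.Agent.Lib.Helper5_SteinbergA Cfsg.Agent.Lib.Helper66_S92 Cfsg.Agent.Lib.Helper66_S96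
  Cfsg.Agent.Lib.Helper74_S94 Cfsg.Agent.Lib.Helper22_S94Gen

variable {ι : Type*} [DecidableEq ι] {K : Type*} [Field K]

/-! ### LONG2 (M): `comm`, `comm2` -/
theorem xactD_comm (a c d e : ι ⊕ ι) (t u : K) (h1 : d ≠ ng a) (h2 : d ≠ ng c) (h3 : e ≠ ng a)
    (h4 : e ≠ ng c) (x : ι ⊕ ι → K) :
    xactD a c t (xactD d e u x) = xactD d e u (xactD a c t x) := by
  by_cases hc : c = ng a
  · simp only [xactD, if_pos hc]
  by_cases he : e = ng d
  · simp only [xactD, if_pos he]
  have k1 : ng c ≠ d := fun h => h2 h.symm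
  have k2 : ng c ≠ e := fun h => h4 h.symm
  have k3 : ng a ≠ d := fun h => h1 h.symm
  have k4 : ng a ≠ e := fun h => h3 h.symm
  have k5 : ng e ≠ a := fun h => h3 (by rw [← h, ng_ng])
  have k6 : ng e ≠ c := fun h => h4 (by rw [← h, ng_ng])
  have k7 : ng d ≠ a := fun h => h1 (by rw [← h, ng_ng])
  have k8 : ng d ≠ c := fun h => h2 (by rw [← h, ng_ng])
  simp only [xactD, if_neg hc, if_neg he]
  funext i
  simp only [Pi.add_apply, Pi.sub_apply, Pi.single_apply, if_neg k1, if_neg k2, if_neg k3,
    if_neg k4, if_neg k5, if_neg k6, if_neg k7, if_neg k8, add_zero, sub_zero]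
  split_ifs <;> ring

theorem xactD_comm2 (a c : ι ⊕ ι) (t u : K) (x : ι ⊕ ι → K) :
    xactD a c t (xactD (ng a) c u x) = xactD (ng a) c u (xactD a c t x) := by
  by_cases hc : c = ng a
  · simp only [xactD, if_pos hc]
  by_cases hca : c = a
  · have : c = ng (ng a) := by rw [ng_ng]; exact hca
    simp only [xactD, if_pos this]
  have hca' : ¬ c = ng (ng a) := by rw [ng_ng]; exact hca
  have k1 : ng c ≠ ng a := fun h => hca (ng_injective h)
  have k2 : ng c ≠ c := ng_ne c
  have k3 : ng a ≠ c := fun h => hc h.symm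
  have k4 : ng c ≠ a := fun h => hc (by rw [← h, ng_ng])
  have k5 : a ≠ c := fun h => hca h.symm
  have k6 : ng a ≠ a := ng_ne a
  have k7 : a ≠ ng a := ne_ng a
  simp only [xactD, if_neg hc, if_neg hca']
  funext i
  simp only [Pi.add_apply, Pi.sub_apply, Pi.single_apply, ng_ng, if_neg k1, if_neg k2, if_neg k3,
    if_neg k4, if_neg k5, if_neg k6, if_neg k7, if_true, add_zero, sub_zero]
  split_ifs <;> ring

end Cfsg.Agent.Lib.Helper2_S94G_LONG2
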