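import Mathlib
import Cfsg.Agent.Lib.Helper74_S94Defs
import Cfsg.Agent.Lib.Helper22_S94GenDefs

/-!
# s94g market (architect helper22), package LONG3

`xactD_a2`: `[X a c t, X (ng c) e u] = X a e (t u)` for the long root maps of the model space, in
the form `g h = r h g` (a pure identity of functions).
-/

set_option autoImplicit false
set_option linter.unusedSectionVars false
set_option linter.unusedVariables false
set_option linter.unusedSimpArgs false

namespace Cfsg.Agent.Lib.Helper41_S94G_LONG3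

open Cfsg.Agent.Lib.Helper5_SteinbergA Cfsg.Agent.Lib.Helper66_S92 Cfsg.Agent.Lib.Helper66_S96
  Cfsg.Agent.Lib.Helper74_S94 Cfsg.Agent.Lib.Helper22_S94Gen

variable {ι : Type*} [DecidableEq ι] {K : Type*} [Field K]

/-! ### LONG3 (M): `a2`: `[X a c t, X (ng c) e u] = X a e (t u)` in the form `g h = r h g` -/
theorem xactD_a2 (a c e : ι ⊕ ι) (t u : K) (h1 : a ≠ c) (h2 : a ≠ ng c) (h3 : a ≠ e) (h4 : a ≠ ng e)
    (h5 : c ≠ e) (h6 : c ≠ ng e) (x : ι ⊕ ι → K) :
    xactD a c t (xactD (ng c) e u x) = xactD a e (t * u) (xactD (ng c) e u (xactD a c t x)) := by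
  have hc1 : ¬ c = ng a := fun h => h2 (by rw [h, ng_ng])
  have hc2 : ¬ e = ng (ng c) := by
    rw [ng_ng]
    exact fun h => h5 h.symm
  have hc3 : ¬ e = ng a := fun h => h4 (by rw [h, ng_ng])
  -- the six indices are pairwise distinct
  have k1 : c ≠ a := fun h => h1 h.symm
  have k3 : e ≠ a := fun h => h3 h.symm
  have k5 : e ≠ c := fun h => h5 h.symm
  have n1 : ng a ≠ ng c := fun h => h1 (ng_injective h)
  have n1' : ng c ≠ ng a := fun h => n1 h.symm
  have n3 : ng a ≠ ng e := fun h => h3 (ng_injective h)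
  have n3' : ng e ≠ ng a := fun h => n3 h.symm
  have n5 : ng c ≠ ng e := fun h => h5 (ng_injective h)
  have n5' : ng e ≠ ng c := fun h => n5 h.symm
  have m2 : ng c ≠ a := fun h => h2 h.symm
  have m2' : ng a ≠ c := fun h => h2 (by rw [← h, ng_ng])
  have m2'' : c ≠ ng a := fun h => m2' h.symm
  have m4 : ng e ≠ a := fun h => h4 h.symm
  have m4' : ng a ≠ e := fun h => h4 (by rw [← h, ng_ng])
  have m4'' : e ≠ ng a := fun h => m4' h.symm
  have m6 : ng e ≠ c := fun h => h6 h.symm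
  have m6' : ng c ≠ e := fun h => h6 (by rw [← h, ng_ng])
  have m6'' : e ≠ ng c := fun h => m6' h.symm
  have s1 : ng a ≠ a := ng_ne a
  have s1' : a ≠ ng a := ne_ng a
  have s2 : ng c ≠ c := ng_ne c
  have s2' : c ≠ ng c := ne_ng c
  have s3 : ng e ≠ e := ng_ne e
  have s3' : e ≠ ng e := ne_ng e
  funext i
  simp only [xactD, if_neg hc1, if_neg hc2, if_neg hc3, Pi.add_apply, Pi.sub_apply,
    Pi.single_apply, ng_ng]
  by_cases hia : i = a
  · subst hia
    simp [h1, h2, h3, h4, h5, h6, k1, k3, k5, n1, n1', n3, n3', n5, n5', m2, m2', m2'', m4, m4',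
      m4'', m6, m6', m6'', s1, s1', s2, s2', s3, s3']
    ring
  by_cases hic : i = c
  · subst hic
    simp [h1, h2, h3, h4, h5, h6, k1, k3, k5, n1, n1', n3, n3', n5, n5', m2, m2', m2'', m4, m4',
      m4'', m6, m6', m6'', s1, s1', s2, s2', s3, s3']
  by_cases hie : i = e
  · subst hie
    simp [h1, h2, h3, h4, h5, h6, k1, k3, k5, n1, n1', n3, n3', n5, n5', m2, m2', m2'', m4, m4',
      m4'', m6, m6', m6'', s1, s1', s2, s2', s3, s3']
    ring
  by_cases hinc : i = ng c
  · subst hinc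
    simp [h1, h2, h3, h4, h5, h6, k1, k3, k5, n1, n1', n3, n3', n5, n5', m2, m2', m2'', m4, m4',
      m4'', m6, m6', m6'', s1, s1', s2, s2', s3, s3']
  simp [hia, hic, hie, hinc, h1, h2, h3, h4, h5, h6, k1, k3, k5, n1, n1', n3, n3', n5, n5', m2, m2',
    m2'', m4, m4', m4'', m6, m6', m6'', s1, s1', s2, s2', s3, s3']

end Cfsg.Agent.Lib.Helper41_S94G_LONG3
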