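import Mathlib
import Cfsg.Agent.Lib.Helper74_S94Defs
import Cfsg.Agent.Lib.Helper22_S94GenDefs

/-!
S2094 / S2099 (helper66 coordinator), MODEL block (helper22), package RANK1A (helper47):
the product `XS a w * XS (ng a) (-σ (-w⁻¹)) * XS a w` of three short root maps acts on the model space
`(ι ⊕ ι → K) × L` as the monomial map `MS a w`.
-/

set_option autoImplicit false
set_option linter.unusedSectionVars false
set_option linter.unusedVariables false

namespace Cfsg.Agent.Lib.Helper47_S94G_RANK1A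

open Cfsg.Agent.Lib.Helper5_SteinbergA Cfsg.Agent.Lib.Helper66_S92 Cfsg.Agent.Lib.Helper66_S96
  Cfsg.Agent.Lib.Helper74_S94 Cfsg.Agent.Lib.Helper22_S94Gen

variable {ι : Type*} [DecidableEq ι] {K : Type*} [Field K]

variable {V0 : Type*} [AddCommGroup V0] [Module K V0] (Q0 : QuadraticForm K V0)

/-- coordinates of `xactS` -/
theorem xactS_fst (b : ι ⊕ ι) (v : V0) (y : (ι ⊕ ι → K) × V0) (i : ι ⊕ ι) :
    (xactS Q0 b v y).1 i =
      if i = b then y.1 b + (QuadraticMap.polar Q0 y.2 v - Q0 v * y.1 (ng b)) else y.1 i := by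
  unfold xactS
  by_cases h : i = b
  · subst h
    simp
  · simp [h]

theorem xactS_snd (b : ι ⊕ ι) (v : V0) (y : (ι ⊕ ι → K) × V0) :
    (xactS Q0 b v y).2 = y.2 - y.1 (ng b) • v := rfl

variable {L : Type*} [Field L] [Algebra K L] (Q1 : QuadraticForm K L) (σ : L → L)

section nrm
variable {Q1 σ}

theorem s_zero (hσ : IsNrm Q1 σ) : σ 0 = 0 := by
  have := hσ.map_add 0 0
  rw [add_zero] at this
  exact left_eq_add.mp this

theorem s_neg (hσ : IsNrm Q1 σ) (v : L) : σ (-v) = -σ v := by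
  have := hσ.map_add v (-v)
  rw [add_neg_cancel, s_zero hσ] at this
  exact eq_neg_of_add_eq_zero_right this.symm

theorem s_sub (hσ : IsNrm Q1 σ) (u v : L) : σ (u - v) = σ u - σ v := by
  rw [sub_eq_add_neg, hσ.map_add, s_neg hσ, ← sub_eq_add_neg]

theorem s_one (hσ : IsNrm Q1 σ) : σ 1 = 1 := by
  have := hσ.fix 1
  rwa [map_one] at this

theorem s_ne_zero (hσ : IsNrm Q1 σ) {w : L} (hw : w ≠ 0) : σ w ≠ 0 := by
  intro h
  apply hw
  rw [← hσ.invol w, h, s_zero hσ]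

theorem s_inv (hσ : IsNrm Q1 σ) (w : L) : σ w⁻¹ = (σ w)⁻¹ := by
  by_cases hw : w = 0
  · rw [hw, inv_zero, s_zero hσ, inv_zero]
  · apply eq_inv_of_mul_eq_one_left
    rw [← hσ.map_mul, inv_mul_cancel₀ hw, s_one hσ]

theorem polar_alg (hσ : IsNrm Q1 σ) (u v : L) :
    algebraMap K L (QuadraticMap.polar Q1 u v) = u * σ v + v * σ u := by
  unfold QuadraticMap.polar
  rw [map_sub, map_sub, hσ.nrm, hσ.nrm, hσ.nrm, hσ.map_add]
  ring

theorem Q_ne_zero (hσ : IsNrm Q1 σ) {w : L} (hw : w ≠ 0) : Q1 w ≠ 0 := by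
  intro h
  have := hσ.nrm w
  rw [h, map_zero] at this
  exact mul_ne_zero hw (s_ne_zero hσ hw) this.symm

end nrm

/-! ### RANK1A (L): the product `XS a w * XS (ng a) (-σ (-w⁻¹)) * XS a w` acts as the monomial map `MS a w` -/
theorem xactS_WS (hσ : IsNrm Q1 σ) (a : ι ⊕ ι) (w : L) (hw : w ≠ 0) (x : (ι ⊕ ι → K) × L) :
    xactS Q1 a w (xactS Q1 (ng a) (-σ (-w⁻¹)) (xactS Q1 a w x)) = MS Q1 σ a w x := by
  have hsw : σ w ≠ 0 := s_ne_zero hσ hw
  have hn : Q1 w ≠ 0 := Q_ne_zero hσ hw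
  have hnL : algebraMap K L (Q1 w) ≠ 0 := by rw [hσ.nrm]; exact mul_ne_zero hw hsw
  have hv' : -σ (-w⁻¹) = (σ w)⁻¹ := by rw [s_neg hσ, neg_neg, s_inv hσ]
  have hna : ng a ≠ a := ng_ne a
  have han : a ≠ ng a := ne_ng a
  rw [hv']
  obtain ⟨f, z⟩ := x
  -- names
  obtain ⟨α, hα⟩ : ∃ α : K, α = f a := ⟨_, rfl⟩
  obtain ⟨β, hβ⟩ : ∃ β : K, β = f (ng a) := ⟨_, rfl⟩
  obtain ⟨x₁, hx₁⟩ : ∃ x₁, x₁ = xactS Q1 a w (f, z) := ⟨_, rfl⟩
  obtain ⟨x₂, hx₂⟩ : ∃ x₂, x₂ = xactS Q1 (ng a) (σ w)⁻¹ x₁ := ⟨_, rfl⟩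
  rw [← hx₁, ← hx₂]
  -- step 1
  have h1a : x₁.1 a = α + (QuadraticMap.polar Q1 z w - Q1 w * β) := by
    rw [hx₁, xactS_fst, if_pos rfl, hα, hβ]
  have h1n : x₁.1 (ng a) = β := by
    rw [hx₁, xactS_fst, if_neg hna, hβ]
  have h1o : ∀ i, i ≠ a → x₁.1 i = f i := by
    intro i hi
    rw [hx₁, xactS_fst, if_neg hi]
  have h1z : x₁.2 = z - β • w := by
    rw [hx₁, xactS_snd, hβ]
  -- step 2
  have h2n : x₂.1 (ng a) = -(Q1 w)⁻¹ * α := by
    rw [hx₂, xactS_fst, if_pos rfl, ng_ng, h1n, h1a, h1z]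
    apply (algebraMap K L).injective
    simp only [map_add, map_sub, map_mul, map_neg, map_inv₀, polar_alg hσ, hσ.nrm, s_sub hσ,
      Algebra.smul_def, hσ.map_mul, hσ.fix, s_inv hσ, hσ.invol]
    field_simp
    ring
  have h2a : x₂.1 a = α + (QuadraticMap.polar Q1 z w - Q1 w * β) := by
    rw [hx₂, xactS_fst, if_neg han, h1a]
  have h2o : ∀ i, i ≠ a → i ≠ ng a → x₂.1 i = f i := by
    intro i hi hi'
    rw [hx₂, xactS_fst, if_neg hi', h1o i hi]
  have h2z : x₂.2 = z - β • w - (α + (QuadraticMap.polar Q1 z w - Q1 w * β)) • (σ w)⁻¹ := by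
    rw [hx₂, xactS_snd, ng_ng, h1a, h1z]
  -- step 3 and comparison
  apply Prod.ext
  · funext i
    rw [xactS_fst]
    unfold MS
    simp only
    by_cases hi : i = a
    · subst hi
      rw [if_pos rfl, Function.update_self, h2a, h2n, h2z, ← hβ]
      apply (algebraMap K L).injective
      simp only [map_add, map_sub, map_mul, map_neg, map_inv₀, polar_alg hσ, hσ.nrm, s_sub hσ,
        Algebra.smul_def, hσ.map_mul, hσ.fix, s_inv hσ, hσ.invol, hσ.map_add]
      field_simp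
      ring
    · rw [if_neg hi, Function.update_of_ne hi]
      by_cases hi' : i = ng a
      · subst hi'
        rw [Function.update_self, h2n, hα]
      · rw [Function.update_of_ne hi', h2o i hi hi']
  · rw [xactS_snd, h2n, h2z]
    unfold MS
    simp only
    have hb := polar_alg hσ z w
    simp only [Algebra.smul_def, map_add, map_sub, map_mul, map_neg, map_inv₀, hb, hσ.nrm]
    field_simp
    ring

end Cfsg.Agent.Lib.Helper47_S94G_RANK1A
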