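import Mathlib
import Cfsg.Agent.Lib.Helper74_S94Defs
import Cfsg.Agent.Lib.Helper22_S94GenDefs

/-!
# S2094 / S2099 market `s94g_packages` (architect helper22), package SHORT1 (helper90)
`xactS_add`, `xactS_comm`: the short root maps of the model space are additive in the vector, and commute
with the long root maps not involving `ng a`.
-/

set_option autoImplicit false
set_option linter.unusedSectionVars false
set_option linter.unusedVariables false

namespace Cfsg.Agent.Lib.Helper90_S94G_SHORT1

open Cfsg.Agent.Lib.Helper5_SteinbergA Cfsg.Agent.Lib.Helper66_S92 Cfsg.Agent.Lib.Helper66_S96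
  Cfsg.Agent.Lib.Helper74_S94 Cfsg.Agent.Lib.Helper22_S94Gen

variable {ι : Type*} [DecidableEq ι] {K : Type*} [Field K]

variable {V0 : Type*} [AddCommGroup V0] [Module K V0] (Q0 : QuadraticForm K V0)

theorem xactS_add (a : ι ⊕ ι) (v w : V0) (x : (ι ⊕ ι → K) × V0) :
    xactS Q0 a v (xactS Q0 a w x) = xactS Q0 a (v + w) x := by
  have hna : ng a ≠ a := ng_ne a
  have hpol : QuadraticMap.polar Q0 (x.2 - x.1 (ng a) • w) v =
      QuadraticMap.polar Q0 x.2 v - x.1 (ng a) * QuadraticMap.polar Q0 w v := by
    rw [QuadraticMap.polar_sub_left, QuadraticMap.polar_smul_left, smul_eq_mul]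
  have hadd : Q0 (v + w) = Q0 v + Q0 w + QuadraticMap.polar Q0 v w := by
    unfold QuadraticMap.polar
    ring
  have hcomm : QuadraticMap.polar Q0 w v = QuadraticMap.polar Q0 v w := QuadraticMap.polar_comm _ _ _
  apply Prod.ext
  · funext i
    simp only [xactS, Pi.add_apply, Pi.single_apply, hna, if_false, add_zero]
    by_cases hi : i = a
    · simp only [hi, if_true]
      rw [hpol, hadd, hcomm, QuadraticMap.polar_add_right]
      ring
    · simp only [hi, if_false, add_zero]
  · simp only [xactS, Pi.add_apply, Pi.single_apply, hna, if_false, add_zero]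
    rw [smul_add]
    abel

theorem xactS_comm (a d e : ι ⊕ ι) (v : V0) (t : K) (hd : d ≠ ng a) (he : e ≠ ng a)
    (x : (ι ⊕ ι → K) × V0) :
    xactS Q0 a v (xD d e t x) = xD d e t (xactS Q0 a v x) := by
  have hna : ng a ≠ a := ng_ne a
  have hd' : ng a ≠ d := fun h => hd h.symm
  have he' : ng a ≠ e := fun h => he h.symm
  have hd2 : ng d ≠ a := fun h => hd ((ng_eq_iff d a).mp h)
  have he2 : ng e ≠ a := fun h => he ((ng_eq_iff e a).mp h)
  by_cases hed : e = ng d
  · simp only [xD, xactD, hed, if_true, xactS]
  · apply Prod.ext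
    · funext i
      simp only [xD, xactD, hed, if_false, xactS, Pi.add_apply, Pi.sub_apply, Pi.single_apply, hd',
        he', hd2, he2, add_zero, sub_zero]
      ring
    · simp only [xD, xactD, hed, if_false, xactS, Pi.add_apply, Pi.sub_apply, Pi.single_apply, hd',
        he', hd2, he2, add_zero, sub_zero]

end Cfsg.Agent.Lib.Helper90_S94G_SHORT1
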