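import Mathlib
import Cfsg.Agent.Lib.Helper74_S94Defs
import Cfsg.Agent.Lib.Helper22_S94GenDefs

/-!
S2094 / S2099 (helper66 coordinator), MODEL block (helper22 market `s94g_packages`), package RANK1B:
the monomial map `MS a w` of the short Weyl element conjugates the short root map `XS a u` to
`XS (ng a) (σ (w⁻² u))`.
-/

set_option autoImplicit false
set_option linter.unusedSectionVars false
set_option linter.unusedVariables false
set_option linter.unusedSimpArgs false

namespace Cfsg.Agent.Lib.Helper92_S94G_RANK1B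

open Cfsg.Agent.Lib.Helper5_SteinbergA Cfsg.Agent.Lib.Helper66_S92 Cfsg.Agent.Lib.Helper66_S96
  Cfsg.Agent.Lib.Helper74_S94 Cfsg.Agent.Lib.Helper22_S94Gen

variable {ι : Type*} [DecidableEq ι] {K : Type*} [Field K]

variable {L : Type*} [Field L] [Algebra K L] (Q1 : QuadraticForm K L) (σ : L → L)

theorem h01_zero (hσ : IsNrm Q1 σ) : σ 0 = 0 := by
  have h := hσ.map_add 0 0
  rw [add_zero] at h
  exact left_eq_add.mp h

theorem h02_neg (hσ : IsNrm Q1 σ) (v : L) : σ (-v) = -σ v := by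
  have h := hσ.map_add v (-v)
  rw [add_neg_cancel, h01_zero Q1 σ hσ] at h
  exact (neg_eq_of_add_eq_zero_right h.symm).symm

theorem h03_one (hσ : IsNrm Q1 σ) : σ 1 = 1 := by
  have h := hσ.fix 1
  rwa [map_one] at h

theorem h04_ne (hσ : IsNrm Q1 σ) {w : L} (hw : w ≠ 0) : σ w ≠ 0 := by
  intro h
  apply hw
  rw [← hσ.invol w, h, h01_zero Q1 σ hσ]

theorem h05_inv (hσ : IsNrm Q1 σ) {w : L} (hw : w ≠ 0) : σ w⁻¹ = (σ w)⁻¹ := by
  have h := hσ.map_mul w w⁻¹
  rw [mul_inv_cancel₀ hw, h03_one Q1 σ hσ] at h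
  exact eq_inv_of_mul_eq_one_right h.symm

theorem h06_polar (hσ : IsNrm Q1 σ) (p q : L) :
    algebraMap K L (QuadraticMap.polar Q1 p q) = p * σ q + q * σ p := by
  unfold QuadraticMap.polar
  rw [map_sub, map_sub, hσ.nrm, hσ.nrm, hσ.nrm, hσ.map_add]
  ring

theorem h07_Qne (hσ : IsNrm Q1 σ) {w : L} (hw : w ≠ 0) : Q1 w ≠ 0 := by
  intro h
  have h1 := hσ.nrm w
  rw [h, map_zero] at h1
  exact mul_ne_zero hw (h04_ne Q1 σ hσ hw) h1.symm

/-- **RANK1B**: `MS a w` conjugates `XS a u` to `XS (ng a) (σ (w⁻² u))` -/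
theorem MS_conj (hσ : IsNrm Q1 σ) (a : ι ⊕ ι) (w : L) (hw : w ≠ 0) (u : L) (x : (ι ⊕ ι → K) × L) :
    MS Q1 σ a w (xactS Q1 a u x) = xactS Q1 (ng a) (σ (w⁻¹ ^ 2 * u)) (MS Q1 σ a w x) := by
  obtain ⟨f, z⟩ := x
  have hsw : σ w ≠ 0 := h04_ne Q1 σ hσ hw
  have hna : ng a ≠ a := ng_ne a
  have hv : σ (w⁻¹ ^ 2 * u) = (σ w)⁻¹ ^ 2 * σ u := by
    rw [hσ.map_mul, pow_two, hσ.map_mul, h05_inv Q1 σ hσ hw, ← pow_two]
  have hsv : σ (σ (w⁻¹ ^ 2 * u)) = w⁻¹ ^ 2 * u := hσ.invol _
  have hy : σ (-(w / σ w) * σ z) = -(σ w / w) * z := by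
    rw [hσ.map_mul, h02_neg Q1 σ hσ, hσ.invol, div_eq_mul_inv, hσ.map_mul,
      h05_inv Q1 σ hσ hsw, hσ.invol, div_eq_mul_inv]
  apply Prod.ext
  · funext i
    simp only [MS, xactS, ng_ng, Pi.add_apply]
    by_cases hi : i = a
    · subst hi
      simp [hna.symm, hna]
    · by_cases hi' : i = ng a
      · subst hi'
        simp only [Function.update_of_ne hna, Function.update_self, Pi.single_apply,
          if_neg hna, add_zero, if_true, ite_true, ↓reduceIte]
        apply (algebraMap K L).injective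
        simp only [map_mul, map_add, map_neg, map_sub, map_inv₀]
        simp only [hσ.nrm, h06_polar Q1 σ hσ, hy, hsv]
        rw [hv]
        field_simp
        ring
      · simp [Function.update_of_ne hi, Function.update_of_ne hi', Pi.single_apply, hi, hi']
  · simp only [MS, xactS, ng_ng]
    simp only [Function.update_self, Function.update_of_ne hna, Pi.add_apply, Pi.single_apply,
      if_neg hna, add_zero, Algebra.smul_def, map_mul, map_neg, hσ.nrm, hv]
    have e : σ (z - algebraMap K L (f (ng a)) * u) = σ z - algebraMap K L (f (ng a)) * σ u := by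
      rw [sub_eq_add_neg, hσ.map_add, h02_neg Q1 σ hσ, hσ.map_mul, hσ.fix, ← sub_eq_add_neg]
    rw [e]
    field_simp
    ring

end Cfsg.Agent.Lib.Helper92_S94G_RANK1B
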