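import Mathlib
import Cfsg.Agent.Lib.Helper22_S94GenDefs
import Cfsg.Agent.Lib.Helper2_S94G_LONG1
import Cfsg.Agent.Lib.Helper2_S94G_LONG2
import Cfsg.Agent.Lib.Helper41_S94G_LONG3
import Cfsg.Agent.Lib.Helper90_S94G_SHORT1
import Cfsg.Agent.Lib.Helper10_S94G_SHORT2
import Cfsg.Agent.Lib.Helper10_S94G_SHORT3
import Cfsg.Agent.Lib.Helper47_S94G_RANK1A
import Cfsg.Agent.Lib.Helper92_S94G_RANK1B
import Cfsg.Agent.Lib.Helper66_S96Asm

/-!
Helper22_S94Gen: S2094 / S2099 (helper66 coordinator), MODEL block (helper22), generic part: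
a group acting faithfully on the model space `(ι ⊕ ι → K) × V0` through the root maps `xactD`, `xactS` satisfies the
Steinberg relations `BStAB` (and the rank one relations of the short roots when `V0 = L` is a field with norm form `Q0`).
helper22.
-/

set_option autoImplicit false
set_option linter.unusedSectionVars false
set_option linter.unusedVariables false

namespace Cfsg.Agent.Lib.Helper22_S94Gen

open Cfsg.Agent.Lib.Helper5_SteinbergA Cfsg.Agent.Lib.Helper66_S92 Cfsg.Agent.Lib.Helper66_S96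
  Cfsg.Agent.Lib.Helper74_S94
open Cfsg.Agent.Lib.Helper2_S94G_LONG1 (xactD_anti xactD_diag xactD_add)
open Cfsg.Agent.Lib.Helper2_S94G_LONG2 (xactD_comm xactD_comm2)
open Cfsg.Agent.Lib.Helper41_S94G_LONG3 (xactD_a2)
open Cfsg.Agent.Lib.Helper90_S94G_SHORT1 (xactS_add xactS_comm)
open Cfsg.Agent.Lib.Helper10_S94G_SHORT2 (xactS_ss)
open Cfsg.Agent.Lib.Helper10_S94G_SHORT3 (xact_ls)
open Cfsg.Agent.Lib.Helper47_S94G_RANK1A (xactS_WS)
open Cfsg.Agent.Lib.Helper92_S94G_RANK1B (MS_conj)

variable {ι : Type*} [DecidableEq ι] {K : Type*} [Field K]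
  {V0 : Type*} [AddCommGroup V0] [Module K V0] {G : Type*} [Group G]

theorem comm_form {g h r : G} (e : g * h = r * h * g) : g * h * g⁻¹ * h⁻¹ = r := by
  rw [e]; group

section act

variable {Q0 : QuadraticForm K V0} {X : ι ⊕ ι → ι ⊕ ι → K → G} {XS : ι ⊕ ι → V0 → G}
  {ρ : G →* Module.End K ((ι ⊕ ι → K) × V0)}

theorem act_long (h : IsActB Q0 X XS ρ) (a c : ι ⊕ ι) (t : K) (x : (ι ⊕ ι → K) × V0) :
    ρ (X a c t) x = xD a c t x := h.long a c t x

theorem eq_of_act (hinj : Function.Injective ρ) {g g' : G} (e : ∀ x, ρ g x = ρ g' x) : g = g' :=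
  hinj (LinearMap.ext e)

theorem xD_xD (a c d e : ι ⊕ ι) (t u : K) (x : (ι ⊕ ι → K) × V0) :
    xD a c t (xD d e u x) = (xactD a c t (xactD d e u x.1), x.2) := rfl

/-- the long root elements of a faithful model satisfy the relations of type `D` -/
theorem dStAB_of_isActB (hinj : Function.Injective ρ) (h : IsActB Q0 X XS ρ) : DStAB X where
  anti a c t := by
    apply eq_of_act hinj; intro x
    rw [act_long h, act_long h, xD, xD, xactD_anti]
  opp a t := by
    apply eq_of_act hinj; intro x
    rw [act_long h, map_one, Module.End.one_apply, xD, xactD, if_pos rfl]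
  diag a t := by
    apply eq_of_act hinj; intro x
    rw [act_long h, map_one, Module.End.one_apply, xD, xactD_diag]
  add a c t u := by
    apply eq_of_act hinj; intro x
    rw [map_mul, Module.End.mul_apply, act_long h, act_long h, act_long h, xD_xD, xactD_add]; rfl
  comm a c d e t u h1 h2 h3 h4 := by
    apply eq_of_act hinj; intro x
    rw [map_mul, map_mul, Module.End.mul_apply, Module.End.mul_apply, act_long h, act_long h,
      act_long h, act_long h, xD_xD, xD_xD, xactD_comm a c d e t u h1 h2 h3 h4]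
  comm2 a c t u := by
    apply eq_of_act hinj; intro x
    rw [map_mul, map_mul, Module.End.mul_apply, Module.End.mul_apply, act_long h, act_long h,
      act_long h, act_long h, xD_xD, xD_xD, xactD_comm2]
  a2 a c e t u h1 h2 h3 h4 h5 h6 := by
    apply comm_form
    apply eq_of_act hinj; intro x
    simp only [map_mul, Module.End.mul_apply, act_long h]
    simp only [xD]
    rw [xactD_a2 a c e t u h1 h2 h3 h4 h5 h6]

/-- **(G1)** a group acting faithfully on the model space through the root maps satisfies the Steinberg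
relations of type `B` / `²D` (without the rank one relations) -/
theorem bStAB_of_isActB (hinj : Function.Injective ρ) (h : IsActB Q0 X XS ρ) : BStAB Q0 X XS where
  long := dStAB_of_isActB hinj h
  sadd a v w := by
    apply eq_of_act hinj; intro x
    rw [map_mul, Module.End.mul_apply, h.short, h.short, h.short, xactS_add]
  scomm a d e v t hd he := by
    apply eq_of_act hinj; intro x
    rw [map_mul, map_mul, Module.End.mul_apply, Module.End.mul_apply, h.short, h.short,
      act_long h, act_long h, xactS_comm Q0 a d e v t hd he]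
  ss a c v w h1 h2 := by
    apply comm_form
    apply eq_of_act hinj; intro x
    simp only [map_mul, Module.End.mul_apply, act_long h, h.short]
    exact xactS_ss Q0 a c v w h1 h2 x
  ls a c t v h1 h2 := by
    apply comm_form
    apply eq_of_act hinj; intro x
    simp only [map_mul, Module.End.mul_apply, act_long h, h.short]
    exact xact_ls Q0 a c t v h1 h2 x

end act

/-! ### rank one relations of the short roots -/

section rank1

variable {L : Type*} [Field L] [Algebra K L] {Q1 : QuadraticForm K L} {σ : L → L}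
  {X : ι ⊕ ι → ι ⊕ ι → K → G} {XS : ι ⊕ ι → L → G}
  {ρ : G →* Module.End K ((ι ⊕ ι → K) × L)}

theorem IsNrm.map_zero' (hσ : IsNrm Q1 σ) : σ 0 = 0 := by
  have := hσ.map_add 0 0
  rw [add_zero] at this
  exact left_eq_add.mp this

theorem IsNrm.map_neg' (hσ : IsNrm Q1 σ) (v : L) : σ (-v) = -σ v := by
  have := hσ.map_add v (-v)
  rw [add_neg_cancel, IsNrm.map_zero' hσ] at this
  exact eq_neg_of_add_eq_zero_right this.symm

theorem IsNrm.map_one' (hσ : IsNrm Q1 σ) : σ 1 = 1 := by
  have := hσ.fix 1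
  rwa [map_one] at this

theorem IsNrm.map_inv' (hσ : IsNrm Q1 σ) (v : L) : σ v⁻¹ = (σ v)⁻¹ := by
  by_cases hv : v = 0
  · rw [hv, inv_zero, IsNrm.map_zero' hσ, inv_zero]
  · have := hσ.map_mul v v⁻¹
    rw [mul_inv_cancel₀ hv, IsNrm.map_one' hσ] at this
    exact eq_inv_of_mul_eq_one_right this.symm

theorem IsNrm.ne_zero' (hσ : IsNrm Q1 σ) {v : L} (hv : v ≠ 0) : σ v ≠ 0 := by
  intro h
  apply hv
  rw [← hσ.invol v, h, IsNrm.map_zero' hσ]

theorem act_WS (hσ : IsNrm Q1 σ) (h : IsActB Q1 X XS ρ) (a : ι ⊕ ι) (w : L) (hw : w ≠ 0)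
    (x : (ι ⊕ ι → K) × L) :
    ρ (XS a w * XS (ng a) (-σ (-w⁻¹)) * XS a w) x = MS Q1 σ a w x := by
  simp only [map_mul, Module.End.mul_apply, h.short]
  exact xactS_WS Q1 σ hσ a w hw x

theorem conj_form {g h r : G} (e : g * h = r * g) : g * h * g⁻¹ = r := by
  rw [e]; group

theorem rel_conj_true (hinj : Function.Injective ρ) (hσ : IsNrm Q1 σ) (h : IsActB Q1 X XS ρ)
    (a : ι ⊕ ι) (w : L) (hw : w ≠ 0) (u : L) :
    (XS a w * XS (ng a) (-σ (-w⁻¹)) * XS a w) * XS a u * (XS a w * XS (ng a) (-σ (-w⁻¹)) * XS a w)⁻¹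
      = XS (ng a) (σ (w⁻¹ ^ 2 * u)) := by
  apply conj_form
  apply eq_of_act hinj; intro x
  rw [map_mul, Module.End.mul_apply, act_WS hσ h a w hw, h.short, map_mul, Module.End.mul_apply,
    act_WS hσ h a w hw, h.short]
  exact MS_conj Q1 σ hσ a w hw u x

/-- **(G2)** the rank one relations of the short root subgroups over `L` -/
theorem rel_pairS_of_isActB (hinj : Function.Injective ρ) (hσ : IsNrm Q1 σ)
    (h : IsActB Q1 X XS ρ) (a : ι ⊕ ι) : Rel (pairS σ XS a) where
  add b t u := by
    have hs := (bStAB_of_isActB hinj h).sadd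
    cases b
    · rw [pairS_false, pairS_false, pairS_false, hs, hσ.map_add, neg_add]
    · rw [pairS_true, pairS_true, pairS_true, hs]
  conj b t u ht := by
    cases b
    · simp only [Bool.not_false, pairS_false, pairS_true]
      have hw : -σ t ≠ 0 := neg_ne_zero.mpr (IsNrm.ne_zero' hσ ht)
      have key := rel_conj_true hinj hσ h (ng a) (-σ t) hw (-σ u)
      rw [ng_ng] at key
      have e1 : -σ (-(-σ t)⁻¹) = -t⁻¹ := by
        rw [inv_neg, neg_neg, IsNrm.map_inv' hσ, hσ.invol]
      have e2 : σ ((-σ t)⁻¹ ^ 2 * -σ u) = -(t⁻¹ ^ 2 * u) := by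
        rw [inv_neg, neg_sq, mul_neg, IsNrm.map_neg' hσ, hσ.map_mul, hσ.invol, pow_two,
          hσ.map_mul, IsNrm.map_inv' hσ, hσ.invol, pow_two]
      rw [e1, e2] at key
      exact key
    · simp only [Bool.not_true, pairS_false, pairS_true]
      have key := rel_conj_true hinj hσ h a t ht u
      rw [key, IsNrm.map_neg' hσ, neg_neg]

/-- the Steinberg relations with the rank one relations -/
theorem bSt_of_isActB [Fintype ι] (h3 : 3 ≤ Fintype.card ι) (hinj : Function.Injective ρ)
    (hσ : IsNrm Q1 σ) (h : IsActB Q1 X XS ρ) : BSt Q1 σ X XS where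
  toBStAB := bStAB_of_isActB hinj h
  rank1 a c h1 h2 := (dSt_of_dStAB (dStAB_of_isActB hinj h) h3).rank1 a c h1 h2
  rank1S a := rel_pairS_of_isActB hinj hσ h a

end rank1

end Cfsg.Agent.Lib.Helper22_S94Gen
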