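import Mathlib
import Cfsg.Agent.Lib.Helper74_S94Defs
import Cfsg.Agent.Lib.Helper22_StOmDefs

/-!
Helper22_S94MDefs: S2099 (helper66 coordinator), MODEL block (helper22), the concrete model `Ω⁻_{2m+2}(F)`:
`L = F[ω]/(ω² - Aω + B)` (Mathlib's `QuadraticAlgebra F (-B) A`) with its norm form `x² + Axy + By²` and `σ = star`;
the model space `(Fin m ⊕ Fin m → F) × L ≃ (I m → F)`; the action of `Ω⁻_{2m+2}(F)` on it; the root elements
`XLM a c t` (long) and `XSM a v` (short).
helper22.
-/

set_option autoImplicit false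
set_option linter.unusedSectionVars false

namespace Cfsg.Agent.Lib.Helper22_S94M

open Matrix Cfsg.Agent.Lib.Helper22_StOmDefs Cfsg.Agent.Lib.Helper66_S92 Cfsg.Agent.Lib.Helper66_S96
  Cfsg.Agent.Lib.Helper74_S94

variable {m : ℕ} {F : Type*} [Field F]

/-- the quadratic extension `L = F[ω]`, `ω² = -B + A ω` -/
abbrev LM (F : Type*) [Field F] (A B : F) : Type _ := QuadraticAlgebra F (-B) A

instance factLM {A B : F} [hAB : Fact (Aniso A B)] : Fact (∀ r : F, r ^ 2 ≠ -B + A * r) := by
  refine ⟨fun r h => ?_⟩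
  have := (hAB.out r (-1) (by linear_combination h)).2
  exact one_ne_zero (neg_eq_zero.mp this)

/-- the norm form of `L`: `x + yω ↦ x² + Axy + By²` -/
noncomputable def Q0M (A B : F) : QuadraticForm F (LM F A B) :=
  QuadraticMap.linMulLin (QuadraticAlgebra.reₗ (-B) A) (QuadraticAlgebra.reₗ (-B) A) +
    A • QuadraticMap.linMulLin (QuadraticAlgebra.reₗ (-B) A) (QuadraticAlgebra.imₗ (-B) A) +
    B • QuadraticMap.linMulLin (QuadraticAlgebra.imₗ (-B) A) (QuadraticAlgebra.imₗ (-B) A)

theorem Q0M_apply (A B : F) (v : LM F A B) : Q0M A B v = nrm A B v.re v.im := by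
  unfold Q0M nrm
  simp only [_root_.add_apply, _root_.smul_apply, QuadraticMap.linMulLin_apply,
    smul_eq_mul]
  show v.re * v.re + A * (v.re * v.im) + B * (v.im * v.im) = _
  ring

theorem Q0M_eq_norm (A B : F) (v : LM F A B) : Q0M A B v = QuadraticAlgebra.norm v := by
  rw [Q0M_apply, QuadraticAlgebra.norm_def]
  unfold nrm
  ring

theorem polar_Q0M (A B : F) (v w : LM F A B) :
    QuadraticMap.polar (Q0M A B) v w =
      2 * v.re * w.re + A * (v.re * w.im + w.re * v.im) + 2 * B * v.im * w.im := by
  unfold QuadraticMap.polar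
  rw [Q0M_apply, Q0M_apply, Q0M_apply]
  unfold nrm
  simp only [QuadraticAlgebra.re_add, QuadraticAlgebra.im_add]
  ring

/-- `star` is the involution of `L` over `F` and `Q0M` is its norm form -/
theorem isNrm_M (A B : F) [Fact (Aniso A B)] :
    IsNrm (Q0M A B) (star : LM F A B → LM F A B) where
  map_add := star_add
  map_mul v w := by rw [star_mul, mul_comm]
  invol := star_star
  fix c := by
    ext
    · simp
    · simp
  nrm w := by rw [Q0M_eq_norm, QuadraticAlgebra.algebraMap_norm_eq_mul_star]

/-- the embedding of the index set of the hyperbolic part -/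
def emb (a : Fin m ⊕ Fin m) : I m := Sum.inl a

theorem emb_injective : Function.Injective (emb : Fin m ⊕ Fin m → I m) := Sum.inl_injective

theorem op_emb (a : Fin m ⊕ Fin m) : op (emb a) = emb (ng a) := rfl

theorem not_isPl_emb (a : Fin m ⊕ Fin m) : ¬ IsPl (emb a) := by
  rintro (h | h)
  · exact Sum.inl_ne_inr h
  · exact Sum.inl_ne_inr h

/-- the model space is the standard space -/
def ΘM (m : ℕ) (F : Type*) [Field F] (A B : F) :
    ((Fin m ⊕ Fin m → F) × LM F A B) ≃ₗ[F] (I m → F) where
  toFun x := Sum.elim x.1 ![x.2.re, x.2.im]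
  invFun y := (fun a => y (emb a), ⟨y d0, y d1⟩)
  map_add' x y := by
    funext i
    rcases i with i | i
    · rfl
    · fin_cases i <;> rfl
  map_smul' c x := by
    funext i
    rcases i with i | i
    · rfl
    · fin_cases i <;> rfl
  left_inv x := by
    apply Prod.ext
    · rfl
    · rfl
  right_inv y := by
    funext i
    rcases i with i | i
    · rfl
    · fin_cases i <;> rfl

variable {A B : F}

theorem ΘM_emb (x : (Fin m ⊕ Fin m → F) × LM F A B) (a : Fin m ⊕ Fin m) :
    ΘM m F A B x (emb a) = x.1 a := rfl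

theorem ΘM_d0 (x : (Fin m ⊕ Fin m → F) × LM F A B) : ΘM m F A B x d0 = x.2.re := rfl

theorem ΘM_d1 (x : (Fin m ⊕ Fin m → F) × LM F A B) : ΘM m F A B x d1 = x.2.im := rfl

theorem ΘM_symm_fst (y : I m → F) (a : Fin m ⊕ Fin m) :
    ((ΘM m F A B).symm y).1 a = y (emb a) := rfl

theorem ΘM_symm_re (y : I m → F) : ((ΘM m F A B).symm y).2.re = y d0 := rfl

theorem ΘM_symm_im (y : I m → F) : ((ΘM m F A B).symm y).2.im = y d1 := rfl

/-- the action of `Ω⁻_{2m+2}(F)` on the model space -/
noncomputable def actM (m : ℕ) (F : Type*) [Field F] (A B : F) :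
    GO m F A B →* Module.End F ((Fin m ⊕ Fin m → F) × LM F A B) where
  toFun g := (ΘM m F A B).symm.toLinearMap ∘ₗ Matrix.toLin' (φ m F A B g) ∘ₗ (ΘM m F A B).toLinearMap
  map_one' := by
    apply LinearMap.ext
    intro x
    simp
  map_mul' g h := by
    apply LinearMap.ext
    intro x
    simp [Matrix.toLin'_mul]

theorem actM_apply (g : GO m F A B) (x : (Fin m ⊕ Fin m → F) × LM F A B) :
    actM m F A B g x = (ΘM m F A B).symm (φ m F A B g *ᵥ ΘM m F A B x) := rfl

theorem actM_injective : Function.Injective (actM m F A B) := by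
  intro g h e
  apply φ_injective
  apply Matrix.toLin'.injective
  apply LinearMap.ext
  intro y
  have := LinearMap.congr_fun e ((ΘM m F A B).symm y)
  rw [actM_apply, actM_apply, LinearEquiv.apply_symm_apply] at this
  rw [Matrix.toLin'_apply, Matrix.toLin'_apply]
  exact (ΘM m F A B).symm.injective this

variable [Fintype F] [Fact (Aniso A B)]

/-- the long root elements of the model -/
noncomputable def XLM (a c : Fin m ⊕ Fin m) (t : F) : GO m F A B := lx A B (emb a) (emb (ng c)) t

/-- the short root elements of the model -/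
noncomputable def XSM (a : Fin m ⊕ Fin m) (v : LM F A B) : GO m F A B := sx A B (emb a) (-v.re) (-v.im)

end Cfsg.Agent.Lib.Helper22_S94M
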