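import Mathlib
import Cfsg.Agent.Lib.Helper22_S94MDefs

/-!
Helper22_S94MAct: S2099 (helper66 coordinator), MODEL block (helper22): the root elements `XLM`, `XSM` of `Ω⁻_{2m+2}(F)` act on
the model space `(Fin m ⊕ Fin m → F) × L` through the root maps `xactD`, `xactS`: `isActB_M`.
helper22.
-/

set_option autoImplicit false
set_option linter.unusedSectionVars false

namespace Cfsg.Agent.Lib.Helper22_S94MAct

open Matrix Cfsg.Agent.Lib.Helper22_StOmDefs Cfsg.Agent.Lib.Helper66_S92 Cfsg.Agent.Lib.Helper66_S96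
  Cfsg.Agent.Lib.Helper74_S94 Cfsg.Agent.Lib.Helper22_S94M

variable {m : ℕ} {F : Type*} [Field F] [Fintype F] {A B : F} [Fact (Aniso A B)]

theorem lxOK_emb {a c : Fin m ⊕ Fin m} (h1 : c ≠ a) (h2 : c ≠ ng a) : LxOK (emb a) (emb (ng c)) := by
  refine ⟨not_isPl_emb a, not_isPl_emb _, ?_, ?_⟩
  · intro e
    have := emb_injective e
    apply h2
    rw [← this, ng_ng]
  · intro e
    rw [op_emb] at e
    exact h1 (ng_injective (emb_injective e))

theorem single_emb (a i : Fin m ⊕ Fin m) (t : F) :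
    (Pi.single (emb a) t : I m → F) (emb i) = (Pi.single a t : Fin m ⊕ Fin m → F) i := by
  rw [Pi.single_apply, Pi.single_apply]
  congr 1
  exact propext ⟨fun h => emb_injective h, fun h => by rw [h]⟩

theorem d0_ne_emb (a : Fin m ⊕ Fin m) : (d0 : I m) ≠ emb a := fun e =>
  not_isPl_emb a (e ▸ (isPl_d0 : IsPl (d0 : I m)))

theorem d1_ne_emb (a : Fin m ⊕ Fin m) : (d1 : I m) ≠ emb a := fun e =>
  not_isPl_emb a (e ▸ (isPl_d1 : IsPl (d1 : I m)))

theorem single_emb_d0 (a : Fin m ⊕ Fin m) (t : F) : (Pi.single (emb a) t : I m → F) d0 = 0 :=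
  Pi.single_eq_of_ne (d0_ne_emb a) t

theorem single_emb_d1 (a : Fin m ⊕ Fin m) (t : F) : (Pi.single (emb a) t : I m → F) d1 = 0 :=
  Pi.single_eq_of_ne (d1_ne_emb a) t

theorem single_d0_emb (i : Fin m ⊕ Fin m) (t : F) : (Pi.single d0 t : I m → F) (emb i) = 0 :=
  Pi.single_eq_of_ne (d0_ne_emb i).symm t

theorem single_d1_emb (i : Fin m ⊕ Fin m) (t : F) : (Pi.single d1 t : I m → F) (emb i) = 0 :=
  Pi.single_eq_of_ne (d1_ne_emb i).symm t

theorem xactD_self (a : Fin m ⊕ Fin m) (t : F) (x : Fin m ⊕ Fin m → F) : xactD a a t x = x := by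
  unfold xactD
  rw [if_neg (ne_ng a)]
  abel

theorem lx_of_not {a c : I m} (h : ¬ LxOK a c) (t : F) : lx A B a c t = 1 := by
  apply Subtype.ext
  show lxO A B a c t = 1
  unfold lxO
  rw [dif_neg h]

theorem act_XLM (a c : Fin m ⊕ Fin m) (t : F) (x : (Fin m ⊕ Fin m → F) × LM F A B) :
    actM m F A B (XLM a c t) x = (xactD a c t x.1, x.2) := by
  by_cases h2 : c = ng a
  · subst h2
    have e : (XLM a (ng a) t : GO m F A B) = 1 :=
      lx_of_not (fun h => h.2.2.1 (by rw [ng_ng])) t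
    rw [e, map_one, Module.End.one_apply, xactD, if_pos rfl]
  by_cases h1 : c = a
  · subst h1
    have e : (XLM c c t : GO m F A B) = 1 :=
      lx_of_not (fun h => h.2.2.2 (by rw [op_emb])) t
    rw [e, map_one, Module.End.one_apply, xactD_self]
  rw [actM_apply]
  unfold XLM
  rw [lx_val (lxOK_emb h1 h2), lxM_mulVec, op_emb, op_emb, ng_ng, xactD, if_neg h2]
  apply Prod.ext
  · funext i
    simp only [ΘM_symm_fst, Pi.add_apply, Pi.sub_apply, single_emb, ΘM_emb]
  · apply QuadraticAlgebra.ext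
    · simp only [ΘM_symm_re, Pi.add_apply, Pi.sub_apply, single_emb_d0, ΘM_d0, add_zero, sub_zero]
    · simp only [ΘM_symm_im, Pi.add_apply, Pi.sub_apply, single_emb_d1, ΘM_d1, add_zero, sub_zero]

theorem act_XSM (a : Fin m ⊕ Fin m) (v : LM F A B) (x : (Fin m ⊕ Fin m → F) × LM F A B) :
    actM m F A B (XSM a v) x = xactS (Q0M A B) a v x := by
  rw [actM_apply]
  unfold XSM
  rw [sx_val (not_isPl_emb a), sxM_mulVec, op_emb, xactS]
  apply Prod.ext
  · funext i
    simp only [ΘM_symm_fst, Pi.add_apply, Pi.sub_apply, single_emb, ΘM_emb, single_d0_emb,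
      single_d1_emb, add_zero, ΘM_d0, ΘM_d1, polar_Q0M, Q0M_apply]
    simp only [Pi.single_apply]
    split_ifs with h
    · unfold nrm; ring
    · ring
  · apply QuadraticAlgebra.ext
    · simp only [ΘM_symm_re, Pi.add_apply, Pi.sub_apply, single_emb_d0, ΘM_d0, ΘM_emb, sub_zero,
        Pi.single_eq_same, Pi.single_eq_of_ne (d0_ne_d1 (m := m)), add_zero,
        QuadraticAlgebra.re_sub, QuadraticAlgebra.re_smul, smul_eq_mul]
      ring
    · simp only [ΘM_symm_im, Pi.add_apply, Pi.sub_apply, single_emb_d1, ΘM_d1, ΘM_emb, sub_zero,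
        Pi.single_eq_same, Pi.single_eq_of_ne (d0_ne_d1 (m := m)).symm, add_zero,
        QuadraticAlgebra.im_sub, QuadraticAlgebra.im_smul, smul_eq_mul]
      ring

/-- the action of the root elements of `Ω⁻_{2m+2}(F)` is the one of the model -/
theorem isActB_M : IsActB (Q0M A B) (XLM (m := m) (A := A) (B := B)) XSM (actM m F A B) where
  long := act_XLM
  short := act_XSM

end Cfsg.Agent.Lib.Helper22_S94MAct
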