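import Mathlib
import Cfsg.Agent.Lib.Helper22_S94MDefs
import Cfsg.Agent.Lib.Helper5_OmegaCenter
import Cfsg.Agent.Lib.Helper14_NegOneStd

/-!
Helper22_S94MCenter: S2099 (helper66 coordinator), MODEL block (helper22): the centre of `Ω⁻_{2m+2}(F)`, `m ≥ 2`, consists of
the elements acting as `±1` on the model space (`center_iff_actM`, from helper5's `center_omega_pm`); `-1 ∈ Ω⁻_{2m+2}(q)` iff
`m` even and `q ≡ 3 mod 4` (`exists_neg_one_iff`, from the landed row S0791).
helper22.
-/

set_option autoImplicit false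
set_option linter.unusedSectionVars false
set_option linter.unusedVariables false

namespace Cfsg.Agent.Lib.Helper22_S94MCenter

open Matrix Cfsg.Agent.Lib.Helper22_StOmDefs Cfsg.Agent.Lib.Helper66_S92 Cfsg.Agent.Lib.Helper66_S96
  Cfsg.Agent.Lib.Helper74_S94 Cfsg.Agent.Lib.Helper22_S94M Cfsg.Agent.Lib.Helper5_OmegaCenter

variable {m : ℕ} {F : Type*} [Field F] [Fintype F] {A B : F} [Fact (Aniso A B)]

theorem polar_np_np {a c : I m} (ha : ¬ IsPl a) (hc : ¬ IsPl c) :
    QuadraticMap.polar (⇑(Qm m F A B)) (Pi.single a 1) (Pi.single c 1) = if a = op c then 1 else 0 := by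
  rw [polar_single_single_np A B hc]
  split_ifs
  · rw [mul_one]
  · rfl

theorem polar_np_d0 {a : I m} (ha : ¬ IsPl a) :
    QuadraticMap.polar (⇑(Qm m F A B)) (Pi.single a 1) (Pi.single d0 1) = 0 := by
  rw [single_d0]
  exact sx_orth A B ha 1 0

theorem Qm_d0 : Qm m F A B (Pi.single d0 1) = 1 := by
  rw [single_d0, Qm_pv]
  unfold nrm
  ring

theorem star_Qm (hm : 2 ≤ m) :
    Star (Qm m F A B) (Pi.single (ie ⟨0, by omega⟩) 1) (Pi.single (jf ⟨0, by omega⟩) 1) := by
  have h01 : (⟨0, by omega⟩ : Fin m) ≠ ⟨1, by omega⟩ := by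
    intro h
    have := congrArg Fin.val h
    simp at this
  refine star_of_second_pair (Qm m F A B) Qm_hnd (e₂ := Pi.single (ie ⟨1, by omega⟩) 1)
    (f₂ := Pi.single (jf ⟨1, by omega⟩) 1) (s₀ := Pi.single d0 1)
    (Qm_single_np A B (not_isPl_ie _) 1) (Qm_single_np A B (not_isPl_jf _) 1) ?_
    (Qm_single_np A B (not_isPl_ie _) 1) (Qm_single_np A B (not_isPl_jf _) 1) ?_ ?_ ?_ ?_ ?_
    (polar_np_d0 (not_isPl_ie _)) (polar_np_d0 (not_isPl_jf _)) (polar_np_d0 (not_isPl_ie _))
    (polar_np_d0 (not_isPl_jf _)) ?_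
  · rw [polar_np_np (not_isPl_ie _) (not_isPl_jf _), op_jf, if_pos rfl]
  · rw [polar_np_np (not_isPl_ie _) (not_isPl_jf _), op_jf, if_pos rfl]
  · rw [polar_np_np (not_isPl_ie _) (not_isPl_ie _), op_ie, if_neg (ie_ne_jf _ _)]
  · rw [polar_np_np (not_isPl_ie _) (not_isPl_jf _), op_jf,
      if_neg (fun e => h01 (ie_injective e))]
  · rw [polar_np_np (not_isPl_jf _) (not_isPl_ie _), op_ie,
      if_neg (fun e => h01 (jf_injective e))]
  · rw [polar_np_np (not_isPl_jf _) (not_isPl_jf _), op_jf, if_neg (ie_ne_jf _ _).symm]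
  · rw [Qm_d0]
    exact one_ne_zero

/-- the centre of `Ω⁻_{2m+2}(F)`, `m ≥ 2`, consists of the elements with matrix `±1` -/
theorem center_GO (hm : 2 ≤ m) (g : GO m F A B) (hg : g ∈ Subgroup.center (GO m F A B)) :
    φ m F A B g = 1 ∨ φ m F A B g = -1 := by
  have hef : QuadraticMap.polar (⇑(Qm m F A B)) (Pi.single (ie ⟨0, by omega⟩) 1)
      (Pi.single (jf ⟨0, by omega⟩) 1) = 1 := by
    rw [polar_np_np (not_isPl_ie _) (not_isPl_jf _), op_jf, if_pos rfl]
  have hw₀ : NS (Qm m F A B) (Pi.single (ie ⟨0, by omega⟩) 1) (Pi.single (jf ⟨0, by omega⟩) 1)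
      (Pi.single d0 1) :=
    ⟨polar_np_d0 (not_isPl_ie _), polar_np_d0 (not_isPl_jf _), by rw [Qm_d0]; exact one_ne_zero⟩
  exact center_omega_pm (Qm m F A B) Qm_hnd (Qm_single_np A B (not_isPl_ie _) 1)
    (Qm_single_np A B (not_isPl_jf _) 1) hef (star_Qm hm) hw₀ g hg

theorem mem_center_GO (g : GO m F A B) (hg : φ m F A B g = 1 ∨ φ m F A B g = -1) :
    g ∈ Subgroup.center (GO m F A B) := by
  rw [Subgroup.mem_center_iff]
  intro h
  apply φ_injective
  rw [map_mul, map_mul]
  rcases hg with hg | hg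
  · rw [hg, mul_one, one_mul]
  · rw [hg, mul_neg, neg_mul, mul_one, one_mul]

/-! ### the action on the model space -/

theorem actM_eq_one_iff (g : GO m F A B) : actM m F A B g = 1 ↔ φ m F A B g = 1 := by
  constructor
  · intro h
    have h1 : actM m F A B g = actM m F A B 1 := by rw [h, map_one]
    rw [actM_injective h1, map_one]
  · intro h
    have h1 : φ m F A B g = φ m F A B 1 := by rw [h, map_one]
    rw [φ_injective h1, map_one]

theorem actM_eq_neg_one_iff (g : GO m F A B) : actM m F A B g = -1 ↔ φ m F A B g = -1 := by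
  constructor
  · intro h
    apply Matrix.toLin'.injective
    apply LinearMap.ext
    intro y
    have := LinearMap.congr_fun h ((ΘM m F A B).symm y)
    rw [actM_apply, LinearEquiv.apply_symm_apply, LinearMap.neg_apply, Module.End.one_apply,
      ← map_neg] at this
    rw [Matrix.toLin'_apply, (ΘM m F A B).symm.injective this, map_neg, Matrix.toLin'_one]
    rfl
  · intro h
    apply LinearMap.ext
    intro x
    rw [actM_apply, h, Matrix.neg_mulVec, Matrix.one_mulVec, map_neg,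
      LinearEquiv.symm_apply_apply]
    rfl

/-- the centre in terms of the action -/
theorem center_iff_actM (hm : 2 ≤ m) (g : GO m F A B) :
    g ∈ Subgroup.center (GO m F A B) ↔ (actM m F A B g = 1 ∨ actM m F A B g = -1) := by
  rw [actM_eq_one_iff, actM_eq_neg_one_iff]
  exact ⟨center_GO hm g, mem_center_GO g⟩

/-- `-1 ∈ Ω⁻_{2m+2}(q)` iff `m` is even and `q ≡ 3 mod 4` (i.e. `q^{m+1} ≡ 3 mod 4`; `q` odd; landed row S0791) -/
theorem exists_neg_one_iff (hodd : Odd (Fintype.card F)) :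
    (∃ g : GO m F A B, actM m F A B g = -1) ↔ (Even m ∧ Fintype.card F % 4 = 3) := by
  have key := Cfsg.Agent.Lib.Helper14_NegOneStd.negOne_mem_minus_iff hodd m A B
    (Fact.out : Aniso A B)
  rw [← key]
  constructor
  · rintro ⟨g, hg⟩
    rw [actM_eq_neg_one_iff] at hg
    have : g.1 = Cfsg.Agent.Lib.Helper44_Spinor.negOne (Qm m F A B) := by
      apply Subtype.ext
      apply Units.ext
      rw [Cfsg.Agent.Lib.Helper44_Spinor.negOne_coe]
      exact hg
    rw [← this]
    exact g.2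
  · intro h
    refine ⟨⟨Cfsg.Agent.Lib.Helper44_Spinor.negOne (Qm m F A B), h⟩, ?_⟩
    rw [actM_eq_neg_one_iff]
    exact Cfsg.Agent.Lib.Helper44_Spinor.negOne_coe (Qm m F A B)

end Cfsg.Agent.Lib.Helper22_S94MCenter
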