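import Mathlib
import Cfsg.Agent.Lib.Helper22_S94MDefs
import Cfsg.Agent.Lib.Helper22_EA2_POM
import Cfsg.Agent.Lib.Helper63_StOm_GENA
import Cfsg.Agent.Lib.Helper20_StOm_GENB
import Cfsg.Agent.Lib.Helper20_StOm_GEN
import Cfsg.Agent.Lib.Helper85_StOm_SIEGB

/-!
Helper22_S94MGen: S2099 (helper66 coordinator), MODEL block (helper22): `Ω⁻_{2m+2}(F)`, `m ≥ 2`, is generated by the root
elements `XLM a c t`, `XSM a v` of the model: `genM`.  (Siegel generation of helper14, `genA`/`genB` of the StOm market,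
`Uom = closure posSet` of `Helper22_EA2_POM`.)
helper22.
-/

set_option autoImplicit false
set_option linter.unusedSectionVars false
set_option linter.unusedVariables false

namespace Cfsg.Agent.Lib.Helper22_S94MGen

open Matrix Cfsg.Agent.Lib.Helper68_MatGrp Cfsg.Agent.Lib.Helper22_BlkGrp
  Cfsg.Agent.Lib.Helper22_StOmDefs Cfsg.Agent.Lib.Helper66_S92 Cfsg.Agent.Lib.Helper66_S96
  Cfsg.Agent.Lib.Helper74_S94 Cfsg.Agent.Lib.Helper22_S94M Cfsg.Agent.Lib.Helper22_EA2OmDefs
  Cfsg.Agent.Lib.Helper22_EA2_POM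

section general

variable {ι : Type} [Fintype ι] [DecidableEq ι] {F : Type*} [Field F] [Fintype F]

/-- A subgroup of `Ω` containing every element of `Ω` whose matrix is a Siegel matrix (of a singular orthogonal
pair) is everything. -/
theorem eq_top_of_siegel' (Q : QuadraticForm F (ι → F))
    (hQ : (QuadraticMap.polarBilin Q).Nondegenerate) (hn : 5 ≤ Fintype.card ι)
    (K : Subgroup ↥(Cfsg.Omega F (⇑Q)))
    (hK : ∀ g : ↥(Cfsg.Omega F (⇑Q)), (∃ (u v : ι → F) (c : F), Q u = 0 ∧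
      QuadraticMap.polar (⇑Q) u v = 0 ∧
      ((g.1 : Matrix.GeneralLinearGroup ι F) : Matrix ι ι F) = Cfsg.siegelMatrix (⇑Q) u v c) → g ∈ K) :
    K = ⊤ := by
  have hΩ := Cfsg.Agent.Lib.Helper14_SiegelOmega2.omega_eq_siegelGroup Q hQ hn
  have h1 : Cfsg.Agent.Lib.Helper14_Siegel.siegelGroup Q ≤ K.map (Subgroup.subtype _) := by
    rw [Cfsg.Agent.Lib.Helper14_Siegel.siegelGroup, Subgroup.closure_le]
    intro x hx
    have hxΩ : x ∈ Cfsg.Omega F (⇑Q) := by
      rw [hΩ]
      exact Subgroup.subset_closure hx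
    obtain ⟨u, v, c, hu, -, huv, hxm⟩ := hx
    exact ⟨⟨x, hxΩ⟩, hK ⟨x, hxΩ⟩ ⟨u, v, c, hu, huv, hxm⟩, rfl⟩
  have hle : Cfsg.Omega F (⇑Q) ≤ K.map (Subgroup.subtype _) := by
    intro x hx
    apply h1
    rw [← hΩ]
    exact hx
  rw [eq_top_iff]
  intro g _
  obtain ⟨k, hk, hkg⟩ := hle g.2
  have : k = g := Subtype.ext hkg
  rw [← this]
  exact hk

end general

variable {m : ℕ} {F : Type*} [Field F] [Fintype F] {A B : F} [Fact (Aniso A B)]

/-- generation criterion: a subgroup `H` of `Ω⁻_{2m+2}(F)`, `m ≥ 2`, which moves `e_0` to a multiple of every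
basis vector outside the plane and every nonzero singular vector to a multiple of such a basis vector, and contains the
Siegel transformations centred at `e_0`, is everything -/
theorem eq_top_of_gen (hm : 2 ≤ m) (H : Subgroup (GO m F A B))
    (hA : ∀ a : I m, ¬ IsPl a → ∃ n ∈ H, ∃ ε : F,
      φ m F A B n *ᵥ (Pi.single (ie ⟨0, by omega⟩) 1) = Pi.single a ε)
    (hB : ∀ w : I m → F, w ≠ 0 → Qm m F A B w = 0 →
      ∃ b ∈ H, ∃ a : I m, ¬ IsPl a ∧ ∃ α : F, φ m F A B b *ᵥ (Pi.single a α) = w)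
    (hX : ∀ g : GO m F A B, (∃ (v : I m → F) (β c : F),
      QuadraticMap.polar (⇑(Qm m F A B)) (Pi.single (ie ⟨0, by omega⟩) β) v = 0 ∧ φ m F A B g =
      Cfsg.siegelMatrix (⇑(Qm m F A B)) (Pi.single (ie ⟨0, by omega⟩) β) v c) → g ∈ H) :
    H = ⊤ := by
  have hQ := Qm_nondeg (m := m) (F := F) A B
  have hcard : 5 ≤ Fintype.card (I m) := by
    rw [Cfsg.Agent.Lib.Helper20_StOm_GEN.card_I]; omega
  apply eq_top_of_siegel' (Qm m F A B) hQ hcard _
  rintro g ⟨u, v, c, hu, huv, hg⟩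
  have hg' : φ m F A B g = Cfsg.siegelMatrix (⇑(Qm m F A B)) u v c := hg
  by_cases hu0 : u = 0
  · subst hu0
    rw [Cfsg.Agent.Lib.Helper20_StOm_GEN.siegelMatrix_zero_left] at hg'
    have : g = 1 := by
      apply φ_injective
      rw [hg', map_one]
    rw [this]
    exact one_mem _
  · obtain ⟨b, hbH, a, ha, α, hbα⟩ := hB u hu0 hu
    obtain ⟨n, hnH, ε, hnε⟩ := hA a ha
    have hinv : ∀ x : GO m F A B, φ m F A B x⁻¹ * φ m F A B x = 1 := by
      intro x
      rw [← map_mul, inv_mul_cancel, map_one]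
    have hε : ε ≠ 0 := by
      rintro rfl
      have h1 : φ m F A B n *ᵥ (Pi.single (ie ⟨0, by omega⟩) (1 : F)) = 0 := by
        rw [hnε]; simp
      have h3 := congrArg (fun w => φ m F A B n⁻¹ *ᵥ w) h1
      simp only [Matrix.mulVec_mulVec, Matrix.mulVec_zero] at h3
      rw [hinv, Matrix.one_mulVec] at h3
      have := congrFun h3 (ie ⟨0, by omega⟩)
      simp at this
    set hh : GO m F A B := b * n with hhdef
    have hhH : hh ∈ H := Subgroup.mul_mem _ hbH hnH
    have hu' : u = φ m F A B hh *ᵥ (Pi.single (ie ⟨0, by omega⟩) (α / ε)) := by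
      have e1 : (Pi.single (ie ⟨0, by omega⟩) (α / ε) : I m → F) =
          (α / ε) • (Pi.single (ie ⟨0, by omega⟩) (1 : F)) := by
        ext x
        simp only [Pi.smul_apply, Pi.single_apply, smul_eq_mul]
        split_ifs <;> simp
      rw [hhdef, map_mul, ← Matrix.mulVec_mulVec, e1, Matrix.mulVec_smul, hnε, ← hbα]
      congr 1
      ext x
      simp only [Pi.smul_apply, Pi.single_apply, smul_eq_mul]
      split_ifs
      · field_simp
      · simp
    have e2 : φ m F A B hh⁻¹ *ᵥ u = Pi.single (ie ⟨0, by omega⟩) (α / ε) := by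
      rw [hu', Matrix.mulVec_mulVec, hinv, Matrix.one_mulVec]
    -- the conjugate `hh⁻¹ * g * hh` is a Siegel transformation centred at `e_0`
    have hconj : φ m F A B (hh⁻¹ * g * hh) = Cfsg.siegelMatrix (⇑(Qm m F A B))
        (Pi.single (ie ⟨0, by omega⟩) (α / ε)) (φ m F A B hh⁻¹ *ᵥ v) c := by
      have key := Cfsg.Agent.Lib.Helper14_Siegel.conj_siegelMatrix (Qm m F A B)
        (hh⁻¹ : GO m F A B).1 u v c
      have e0 : ((hh⁻¹ : GO m F A B).1)⁻¹ = hh.1 := by
        rw [InvMemClass.coe_inv, inv_inv]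
      rw [e0] at key
      rw [map_mul, map_mul, hg', ← e2]
      exact key
    have hpol : QuadraticMap.polar (⇑(Qm m F A B)) (Pi.single (ie ⟨0, by omega⟩) (α / ε))
        (φ m F A B hh⁻¹ *ᵥ v) = 0 := by
      rw [← e2, φ_polar, huv]
    have hmem : hh⁻¹ * g * hh ∈ H := hX _ ⟨_, _, _, hpol, hconj⟩
    have : g = hh * (hh⁻¹ * g * hh) * hh⁻¹ := by group
    rw [this]
    exact Subgroup.mul_mem _ (Subgroup.mul_mem _ hhH hmem) (Subgroup.inv_mem _ hhH)

/-! ### Siegel transformations centred at `e_0` are block unitriangular -/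

theorem siegel_mem_Uom (hm : 0 < m) (g : GO m F A B) (v : I m → F) (β c : F)
    (hpol : QuadraticMap.polar (⇑(Qm m F A B)) (Pi.single (ie ⟨0, hm⟩) β) v = 0)
    (hg : φ m F A B g = Cfsg.siegelMatrix (⇑(Qm m F A B)) (Pi.single (ie ⟨0, hm⟩) β) v c) :
    g ∈ Uom m F A B := by
  rw [mem_Uom, mem_UO]
  refine ⟨Cfsg.Agent.Lib.Helper85_StOm_SIEGB.siegel_mem_Boo hm g v β c hg, ?_⟩
  intro x y hxy
  have hβ : β * v (jf ⟨0, hm⟩) = 0 := by
    rw [QuadraticMap.polar_comm, polar_single_np A B _ (not_isPl_ie _), op_ie] at hpol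
    exact hpol
  have e : φO m F A B g.1 x y = φ m F A B g x y := rfl
  rw [e, hg, Cfsg.siegelMatrix]
  simp only [Matrix.add_apply, Matrix.smul_apply, Matrix.sub_apply, Matrix.vecMulVec_apply,
    smul_eq_mul]
  rw [Cfsg.Agent.Lib.Helper85_StOm_SIEGB.polarVec_single_smul (not_isPl_ie _), op_ie]
  by_cases hy : y = jf ⟨0, hm⟩
  · have hx : x = jf ⟨0, hm⟩ := by
      rw [hy] at hxy
      exact (eq_of_ht_eq hxy.symm (not_isPl_jf _)).symm
    rw [if_pos hy, hx, Pi.single_eq_of_ne (ie_ne_jf _ _).symm, zero_mul, sub_zero, mul_comm _ β, hβ,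
      mul_zero, add_zero]
  · rw [if_neg hy, mul_zero, zero_sub]
    by_cases hx : x = ie ⟨0, hm⟩
    · have hy' : y = ie ⟨0, hm⟩ := by
        rw [hx] at hxy
        exact (eq_of_ht_eq hxy (not_isPl_ie _)).symm
      rw [hx, hy', Pi.single_eq_same]
      unfold Cfsg.polarVec
      rw [polar_single_np A B _ (not_isPl_ie _), op_ie, one_mul, hβ, neg_zero, mul_zero, add_zero]
    · rw [Pi.single_eq_of_ne hx, zero_mul, neg_zero, mul_zero, add_zero]

/-! ### singular vectors are moved to the basis vectors by block unitriangular elements -/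

theorem mulVec_single_of_bdiag {M : Matrix (I m) (I m) F}
    (hM : ∀ a b, ht m a ≠ ht m b → M a b = 0) {a : I m} (ha : ¬ IsPl a) (α : F) :
    M *ᵥ Pi.single a α = Pi.single a (M a a * α) := by
  funext x
  rw [Matrix.mulVec_single, Pi.single_apply]
  by_cases hx : x = a
  · rw [if_pos hx, hx]
    simp
  · rw [if_neg hx]
    have : ht m x ≠ ht m a := fun e => hx (eq_of_ht_eq e.symm ha).symm
    simp [hM x a this]

theorem genB_Uom (w : I m → F) (hw : w ≠ 0) (hQ : Qm m F A B w = 0) :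
    ∃ b ∈ Uom m F A B, ∃ a : I m, ¬ IsPl a ∧ ∃ α : F, φ m F A B b *ᵥ (Pi.single a α) = w := by
  obtain ⟨b, hb, a, ha, α, hbα⟩ := Cfsg.Agent.Lib.Helper20_StOm_GENB.genB w hw hQ
  -- `b⁻¹ = d * u`
  have hb' : (b⁻¹ : GO m F A B).1 ∈ BO m F A B := (Boo m F A B).inv_mem hb
  set bb : ↥(BO m F A B) := ⟨(b⁻¹ : GO m F A B).1, hb'⟩ with hbb
  have hu := unip_mem_UO bb
  set u : OO m F A B := (δO m F A B bb)⁻¹ * bb.1 with hudef
  have huΩ : u ∈ Cfsg.Omega F (⇑(Qm m F A B)) := UO_le_omega hu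
  have hd : ∀ x y, ht m x ≠ ht m y → φO m F A B (δO m F A B bb)⁻¹ x y = 0 := by
    have h1 : δO m F A B bb ∈ DO m F A B := by
      rw [mem_DO]
      intro x y hxy
      rw [δO_apply, if_neg hxy]
    exact mem_DO.1 ((DO m F A B).inv_mem h1)
  refine ⟨⟨u, huΩ⟩⁻¹, (Uom m F A B).inv_mem (mem_Uom.2 hu), a, ha,
    φO m F A B (δO m F A B bb)⁻¹ a a * α, ?_⟩
  have e1 : φ m F A B (⟨u, huΩ⟩⁻¹ : GO m F A B) = φ m F A B b * φO m F A B (δO m F A B bb) := by
    have : (⟨u, huΩ⟩⁻¹ : GO m F A B).1 = b.1 * δO m F A B bb := by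
      rw [InvMemClass.coe_inv]
      show u⁻¹ = _
      rw [hudef, _root_.mul_inv_rev, inv_inv]
      show ((b⁻¹ : GO m F A B).1)⁻¹ * _ = _
      rw [InvMemClass.coe_inv, inv_inv]
    rw [φ_apply, this, map_mul]
    rfl
  rw [e1, ← mulVec_single_of_bdiag hd ha α, Matrix.mulVec_mulVec, mul_assoc, ← map_mul,
    mul_inv_cancel, map_one, mul_one]
  exact hbα

/-! ### generation by the root elements -/

/-- the root elements of the model -/
def rootSetM (m : ℕ) (F : Type*) [Field F] [Fintype F] (A B : F) [Fact (Aniso A B)] :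
    Set (GO m F A B) :=
  {g | ∃ (a c : Fin m ⊕ Fin m) (t : F), g = XLM a c t} ∪
    {g | ∃ (a : Fin m ⊕ Fin m) (v : LM F A B), g = XSM a v}

theorem exists_emb {a : I m} (ha : ¬ IsPl a) : ∃ a' : Fin m ⊕ Fin m, a = emb a' := by
  rcases a with a | a
  · exact ⟨a, rfl⟩
  · exfalso
    apply ha
    fin_cases a
    · exact Or.inl rfl
    · exact Or.inr rfl

theorem lx_mem_closure (a c : I m) (t : F) :
    lx A B a c t ∈ Subgroup.closure (rootSetM m F A B) := by
  by_cases h : LxOK a c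
  · obtain ⟨a', rfl⟩ := exists_emb h.1
    obtain ⟨c', rfl⟩ := exists_emb h.2.1
    apply Subgroup.subset_closure
    left
    refine ⟨a', ng c', t, ?_⟩
    unfold XLM
    rw [ng_ng]
  · have : lx A B a c t = 1 := by
      apply Subtype.ext
      show lxO A B a c t = 1
      unfold lxO
      rw [dif_neg h]
    rw [this]
    exact one_mem _

theorem sx_mem_closure (c : I m) (s t : F) :
    sx A B c s t ∈ Subgroup.closure (rootSetM m F A B) := by
  by_cases h : IsPl c
  · have : sx A B c s t = 1 := by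
      apply Subtype.ext
      show sxO A B c s t = 1
      unfold sxO
      rw [dif_neg (not_not.mpr h)]
    rw [this]
    exact one_mem _
  · obtain ⟨c', rfl⟩ := exists_emb h
    apply Subgroup.subset_closure
    right
    refine ⟨c', ⟨-s, -t⟩, ?_⟩
    unfold XSM
    simp only [neg_neg]

theorem Uom_le_closure : Uom m F A B ≤ Subgroup.closure (rootSetM m F A B) := by
  rw [← closure_posSet, Subgroup.closure_le]
  rintro g (⟨a, c, t, -, -, rfl⟩ | ⟨i, s, t, rfl⟩)
  · exact lx_mem_closure a c t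
  · exact sx_mem_closure _ s t

theorem ss_mem_closure (j : Fin m) : ss A B j ∈ Subgroup.closure (rootSetM m F A B) := by
  unfold ss
  split_ifs with h
  · unfold wl
    exact mul_mem (mul_mem (lx_mem_closure _ _ _) (lx_mem_closure _ _ _)) (lx_mem_closure _ _ _)
  · unfold ws
    exact mul_mem (mul_mem (sx_mem_closure _ _ _) (sx_mem_closure _ _ _)) (sx_mem_closure _ _ _)

/-- **generation**: `Ω⁻_{2m+2}(F)`, `m ≥ 2`, is generated by the root elements of the model -/
theorem genM (hm : 2 ≤ m) : Subgroup.closure (rootSetM m F A B) = ⊤ := by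
  apply eq_top_of_gen hm
  · intro a ha
    obtain ⟨n, hn, ε, e⟩ := Cfsg.Agent.Lib.Helper63_StOm_GENA.genA (F := F) (A := A) (B := B)
      (by omega : 0 < m) a ha
    refine ⟨n, ?_, ε, e⟩
    have hle : Subgroup.closure (Set.range (ss (m := m) (F := F) A B)) ≤
        Subgroup.closure (rootSetM m F A B) := by
      rw [Subgroup.closure_le]
      rintro _ ⟨j, rfl⟩
      exact ss_mem_closure j
    exact hle hn
  · intro w hw hQ
    obtain ⟨b, hb, a, ha, α, e⟩ := genB_Uom w hw hQ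
    exact ⟨b, Uom_le_closure hb, a, ha, α, e⟩
  · rintro g ⟨v, β, c, hpol, hg⟩
    exact Uom_le_closure (siegel_mem_Uom (by omega) g v β c hpol hg)

end Cfsg.Agent.Lib.Helper22_S94MGen
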