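import Mathlib
import Cfsg.Agent.Lib.Helper22_S94ODefs

/-!
Helper22_S94O_ROOT: mini-market s94o_packages, package O-ROOT (hedge copy by the architect helper22): the matrices `lxM y f_0 s`,
`sxM e_0 s` have the shape `Shp`.
-/

set_option autoImplicit false
set_option linter.unusedSectionVars false
set_option linter.unusedVariables false

namespace Cfsg.Agent.Lib.Helper22_S94O_ROOT

open Matrix Cfsg.Agent.Lib.Helper68_MatGrp Cfsg.Agent.Lib.Helper68_StOoDefs Cfsg.Agent.Lib.Helper22_S94O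

variable {m : ℕ} {F : Type*} [Field F] [Fintype F] [NeZero (2 : F)]

theorem shp_lxM (hm : 0 < m) {y : I m} (hy : y ≠ jf ⟨0, hm⟩) (s : F) :
    Shp hm (lxM y (jf ⟨0, hm⟩) s) (Pi.single y s) where
  row x hx z := by
    unfold lxM
    rw [op_jf]
    simp only [Matrix.sub_apply, Matrix.add_apply, Matrix.single_apply, Pi.single_apply]
    rw [if_neg (fun h : ie ⟨0, hm⟩ = x ∧ op y = z => hx h.1.symm), sub_zero]
    congr 1
    by_cases h2 : z = jf ⟨0, hm⟩
    · rw [if_pos h2]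
      by_cases h1 : x = y
      · rw [if_pos h1, if_pos ⟨h1.symm, h2.symm⟩]
      · rw [if_neg h1, if_neg (fun h => h1 h.1.symm)]
    · rw [if_neg h2, if_neg (fun h => h2 h.2.symm)]
  col x := by
    unfold lxM
    rw [op_jf]
    simp only [Matrix.sub_apply, Matrix.add_apply, Matrix.single_apply]
    rw [if_neg (fun h : y = x ∧ jf ⟨0, hm⟩ = ie ⟨0, hm⟩ => ie_ne_jf _ _ h.2.symm),
      if_neg (fun h : ie ⟨0, hm⟩ = x ∧ op y = ie ⟨0, hm⟩ => hy (by
        have := h.2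
        rw [op_eq_iff, op_ie] at this
        exact this)), add_zero, sub_zero]
  cf := by
    rw [Pi.single_apply, if_neg (fun h => hy h.symm)]

theorem shp_sxM (hm : 0 < m) (s : F) :
    Shp hm (sxM (ie ⟨0, hm⟩) s : Matrix (I m) (I m) F) (Pi.single z0 s) where
  row x hx z := by
    unfold sxM
    rw [op_ie]
    simp only [Matrix.sub_apply, Matrix.add_apply, Matrix.single_apply, Pi.single_apply]
    rw [if_neg (fun h : ie ⟨0, hm⟩ = x ∧ z0 = z => hx h.1.symm),
      if_neg (fun h : ie ⟨0, hm⟩ = x ∧ jf ⟨0, hm⟩ = z => hx h.1.symm), sub_zero, sub_zero]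
    congr 1
    by_cases h2 : z = jf ⟨0, hm⟩
    · rw [if_pos h2]
      by_cases h1 : x = z0
      · rw [if_pos h1, if_pos ⟨h1.symm, h2.symm⟩]
      · rw [if_neg h1, if_neg (fun h => h1 h.1.symm)]
    · rw [if_neg h2, if_neg (fun h => h2 h.2.symm)]
  col x := by
    unfold sxM
    rw [op_ie]
    simp only [Matrix.sub_apply, Matrix.add_apply, Matrix.single_apply]
    rw [if_neg (fun h : z0 = x ∧ jf ⟨0, hm⟩ = ie ⟨0, hm⟩ => ie_ne_jf _ _ h.2.symm),
      if_neg (fun h : ie ⟨0, hm⟩ = x ∧ z0 = ie ⟨0, hm⟩ => ie_ne_z0 _ h.2.symm),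
      if_neg (fun h : ie ⟨0, hm⟩ = x ∧ jf ⟨0, hm⟩ = ie ⟨0, hm⟩ => ie_ne_jf _ _ h.2.symm),
      add_zero, sub_zero, sub_zero]
  cf := Pi.single_eq_of_ne (jf_ne_z0 _) s

end Cfsg.Agent.Lib.Helper22_S94O_ROOT
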