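import Mathlib
import Cfsg.Agent.Lib.Helper68_StOoDefs
import Cfsg.Agent.Lib.Helper88_StOo_GENB

/-!
# S2094 mini-market `s94o_packages` (architect helper22), package O-GENB

Port of `Helper88_StOo_GENB.genB` with an arbitrary subgroup `H` of `Ω_{2m+1}(F)` containing the root elements
`lx a c t`, `sx a t` in place of the Borel subgroup `Boo`: every non-zero singular vector is `b (α e_a)` with `b ∈ H`,
`a ≠ z0`.
-/

set_option autoImplicit false
set_option linter.unusedSectionVars false
set_option linter.unusedVariables false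
set_option linter.unusedSimpArgs false

namespace Cfsg.Agent.Lib.Helper34_S94O_GENB

open Matrix Cfsg.Agent.Lib.Helper68_MatGrp Cfsg.Agent.Lib.Helper68_StOoDefs Cfsg.Agent.Lib.Helper88_StOo_GENB

variable {m : ℕ} {F : Type*} [Field F] [Fintype F] [NeZero (2 : F)]

/-- the target property -/
def PH (H : Subgroup (GO m F)) (w : I m → F) : Prop :=
  ∃ b ∈ H, ∃ a : I m, a ≠ z0 ∧ ∃ α : F, φ m F b *ᵥ (Pi.single a α) = w

theorem PH_of_step {H : Subgroup (GO m F)} (x : GO m F) (hx : x ∈ H) (w : I m → F) (h : PH H (φ m F x *ᵥ w)) : PH H w := by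
  obtain ⟨b, hb, a, ha, α, e⟩ := h
  refine ⟨x⁻¹ * b, mul_mem (inv_mem hx) hb, a, ha, α, ?_⟩
  rw [map_mul, ← Matrix.mulVec_mulVec, e, Matrix.mulVec_mulVec, ← map_mul, inv_mul_cancel, map_one,
    Matrix.one_mulVec]

/-- base case: support in `{a, op a}` -/
theorem h34_base0 (H : Subgroup (GO m F)) {a : I m} (ha : a ≠ z0) (w : I m → F) (hwa : w a ≠ 0)
    (hQ : Cfsg.quadFormOdd m F w = 0) (hs : ∀ c, w c ≠ 0 → c = a ∨ c = op a) : PH H w := by
  rw [Q_of_supp ha w hs] at hQ
  have h0 : w (op a) = 0 := by
    rcases mul_eq_zero.mp hQ with h | h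
    · exact absurd h hwa
    · exact h
  refine ⟨1, one_mem _, a, ha, w a, ?_⟩
  rw [map_one, Matrix.one_mulVec]
  ext c
  rw [Pi.single_apply]
  split_ifs with h
  · rw [h]
  · by_contra hc
    rcases hs c (Ne.symm hc) with e | e
    · exact h e
    · rw [e] at hc; exact hc h0.symm

/-- base case: support in `{a, op a, z0}` -/
theorem h34_base1 (H : Subgroup (GO m F)) (hsx : ∀ (a : I m) (t : F), sx a t ∈ H) {a : I m} (ha : a ≠ z0) (w : I m → F) (hwa : w a ≠ 0)
    (htop : ∀ x, ht m a < ht m x → w x = 0)
    (hQ : Cfsg.quadFormOdd m F w = 0) (hs : ∀ c, w c ≠ 0 → c = a ∨ c = op a ∨ c = z0) : PH H w := by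
  by_cases hz : w z0 = 0
  · refine h34_base0 H ha w hwa hQ fun c hc => ?_
    rcases hs c hc with e | e | e
    · exact Or.inl e
    · exact Or.inr e
    · rw [e] at hc; exact absurd hz hc
  · -- `m < ht a`
    have h1 : ¬ ht m a < ht m (z0 : I m) := fun h => hz (htop z0 h)
    have h2 : ht m a ≠ ht m (z0 : I m) := fun h => ha (ht_injective m h)
    rw [ht_z0] at h1 h2
    have hop : op a ≠ z0 := fun e => ha (op_eq_z0_iff.mp e)
    have hopa : op a ≠ a := op_ne_self ha
    have hlt : ht m (op a) < m := by rw [ht_op]; have := ht_le a; omega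
    set t : F := -(w z0 / w a) with htdef
    have hx : sx (op a) t ∈ H := hsx (op a) t
    apply PH_of_step _ hx
    have hw' : φ m F (sx (op a) t) *ᵥ w =
        w + Pi.single z0 (t * w a) - Pi.single (op a) (2 * t * w z0) -
          Pi.single (op a) (t ^ 2 * w a) := by
      rw [sx_val hop, sxM_mulVec, op_op]
    have hQ' := Q_step (sx (op a) t) w
    rw [hQ] at hQ'
    rw [hw'] at hQ' ⊢
    have hval : ∀ c, c ≠ op a →
        (w + Pi.single z0 (t * w a) - Pi.single (op a) (2 * t * w z0) -
          Pi.single (op a) (t ^ 2 * w a) : I m → F) c = if c = z0 then 0 else w c := by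
      intro c hc
      simp only [Pi.add_apply, Pi.sub_apply, Pi.single_apply, if_neg hc, sub_zero]
      split_ifs with h
      · rw [h, htdef]; field_simp; ring
      · rw [add_zero]
    refine h34_base0 H ha _ ?_ hQ' ?_
    · rw [hval a hopa.symm, if_neg ha]; exact hwa
    · intro c hc
      by_cases hca : c = op a
      · exact Or.inr hca
      · rw [hval c hca] at hc
        split_ifs at hc with h
        · exact absurd rfl hc
        · rcases hs c hc with e | e | e
          · exact Or.inl e
          · exact Or.inr e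
          · exact absurd e h

/-- the induction: kill the coordinates outside `{a, op a, z0}` one at a time -/
theorem h34_main (H : Subgroup (GO m F)) (hlx : ∀ (a c : I m) (t : F), lx a c t ∈ H)
    (hsx : ∀ (a : I m) (t : F), sx a t ∈ H) {a : I m} (ha : a ≠ z0) (s : Finset (I m)) :
    ∀ w : I m → F, w a ≠ 0 → (∀ x, ht m a < ht m x → w x = 0) →
      Cfsg.quadFormOdd m F w = 0 →
      (∀ c, w c ≠ 0 → c = a ∨ c = op a ∨ c = z0 ∨ c ∈ s) → PH H w := by
  classical
  induction s using Finset.induction_on with
  | empty =>
    intro w hwa htop hQ hs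
    refine h34_base1 H hsx ha w hwa htop hQ fun c hc => ?_
    rcases hs c hc with e | e | e | e
    · exact Or.inl e
    · exact Or.inr (Or.inl e)
    · exact Or.inr (Or.inr e)
    · exact absurd e (Finset.notMem_empty c)
  | insert c s hcs ih =>
    intro w hwa htop hQ hs
    by_cases hc : c = a ∨ c = op a ∨ c = z0 ∨ w c = 0
    · refine ih w hwa htop hQ fun c' hc' => ?_
      rcases hs c' hc' with e | e | e | e
      · exact Or.inl e
      · exact Or.inr (Or.inl e)
      · exact Or.inr (Or.inr (Or.inl e))
      · rcases Finset.mem_insert.mp e with e | e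
        · rw [e] at hc'
          rcases hc with h | h | h | h
          · exact Or.inl (e.trans h)
          · exact Or.inr (Or.inl (e.trans h))
          · exact Or.inr (Or.inr (Or.inl (e.trans h)))
          · exact absurd h hc'
        · exact Or.inr (Or.inr (Or.inr e))
    · push Not at hc
      obtain ⟨hca, hcoa, hcz, hwc⟩ := hc
      have hopa : op a ≠ a := op_ne_self ha
      -- `ht c < ht a`
      have h1 : ¬ ht m a < ht m c := fun h => hwc (htop c h)
      have h2 : ht m c ≠ ht m a := fun h => hca (ht_injective m h)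
      have hlt : ht m c < ht m a := by omega
      have hok : LxOK c a := ⟨hcz, ha, fun e => hca e.symm, fun e => hcoa (by rw [e, op_op])⟩
      set t : F := -(w c / w a) with htdef
      have hx : lx c a t ∈ H := hlx c a t
      apply PH_of_step _ hx
      have hw' : φ m F (lx c a t) *ᵥ w =
          w + Pi.single c (t * w a) - Pi.single (op a) (t * w (op c)) := by
        rw [lx_val hok, lxM_mulVec]
      have hQ' := Q_step (lx c a t) w
      rw [hQ] at hQ'
      rw [hw'] at hQ' ⊢
      have hval : ∀ y, y ≠ op a →
          (w + Pi.single c (t * w a) - Pi.single (op a) (t * w (op c)) : I m → F) y =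
            if y = c then 0 else w y := by
        intro y hy
        simp only [Pi.add_apply, Pi.sub_apply, Pi.single_apply, if_neg hy, sub_zero]
        split_ifs with h
        · rw [h, htdef]; field_simp; ring
        · rw [add_zero]
      refine ih _ ?_ ?_ hQ' ?_
      · rw [hval a hopa.symm, if_neg (fun e => hca e.symm)]; exact hwa
      · intro y hy
        by_cases hyo : y = op a
        · -- then `w (op c) = 0`
          have h3 : w (op c) = 0 := by
            apply htop
            rw [hyo, ht_op] at hy
            rw [ht_op]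
            have := ht_le a
            omega
          simp only [Pi.add_apply, Pi.sub_apply, Pi.single_apply, h3, mul_zero]
          rw [if_neg (fun e => hcoa (e.symm.trans hyo))]
          simp [htop y hy]
        · rw [hval y hyo]
          split_ifs
          · rfl
          · exact htop y hy
      · intro y hy
        by_cases hyo : y = op a
        · exact Or.inr (Or.inl hyo)
        · rw [hval y hyo] at hy
          split_ifs at hy with h
          · exact absurd rfl hy
          · rcases hs y hy with e | e | e | e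
            · exact Or.inl e
            · exact Or.inr (Or.inl e)
            · exact Or.inr (Or.inr (Or.inl e))
            · rcases Finset.mem_insert.mp e with e | e
              · exact absurd e h
              · exact Or.inr (Or.inr (Or.inr e))

theorem genB_of_root (H : Subgroup (GO m F)) (hl : ∀ (a c : I m) (t : F), lx a c t ∈ H)
    (hs : ∀ (a : I m) (t : F), sx a t ∈ H) (w : I m → F) (hw : w ≠ 0)
    (hQ : Cfsg.quadFormOdd m F w = 0) :
    ∃ b ∈ H, ∃ a : I m, a ≠ z0 ∧ ∃ α : F, φ m F b *ᵥ (Pi.single a α) = w := by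
  classical
  have hex : ∃ c, w c ≠ 0 := by
    by_contra h
    push Not at h
    exact hw (funext h)
  obtain ⟨a, hwa, htop⟩ : ∃ a, w a ≠ 0 ∧ ∀ x, ht m a < ht m x → w x = 0 := by
    obtain ⟨c0, hc0⟩ := hex
    have hne : (Finset.univ.filter (fun c : I m => w c ≠ 0)).Nonempty :=
      ⟨c0, Finset.mem_filter.mpr ⟨Finset.mem_univ _, hc0⟩⟩
    obtain ⟨a, ha, hmx⟩ := Finset.exists_max_image _ (fun c : I m => ht m c) hne
    refine ⟨a, (Finset.mem_filter.mp ha).2, fun x hx => ?_⟩
    by_contra hx0
    have := hmx x (Finset.mem_filter.mpr ⟨Finset.mem_univ _, hx0⟩)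
    omega
  have ha : a ≠ z0 := by
    intro e
    subst e
    have hf : ∀ i : Fin m, w (Sum.inr (Sum.inr i)) = 0 := by
      intro i
      apply htop (jf i)
      rw [ht_z0, ht_jf]
      have := i.2
      omega
    unfold Cfsg.quadFormOdd at hQ
    rw [Finset.sum_eq_zero (fun i _ => by rw [hf i, mul_zero]), add_zero] at hQ
    exact hwa ((pow_eq_zero_iff (two_ne_zero)).mp hQ)
  exact h34_main H hl hs ha Finset.univ w hwa htop hQ
    fun c _ => Or.inr (Or.inr (Or.inr (Finset.mem_univ c)))

end Cfsg.Agent.Lib.Helper34_S94O_GENB
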