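import Mathlib
import Cfsg.Agent.Lib.Helper22_S94ODefs

/-!
# s94o_packages O-PROD (helper53 for helper22): the shape `Shp` is closed under products, and the
parameter `c` adds.
-/

set_option autoImplicit false
set_option linter.unusedSectionVars false
set_option linter.unusedVariables false

namespace Cfsg.Agent.Lib.Helper53_S94O_PROD

open Matrix Cfsg.Agent.Lib.Helper68_MatGrp Cfsg.Agent.Lib.Helper68_StOoDefs Cfsg.Agent.Lib.Helper22_S94O

variable {m : ℕ} {F : Type*} [Field F] [Fintype F] [NeZero (2 : F)]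

theorem shp_mul (hm : 0 < m) {M M' : Matrix (I m) (I m) F} {c c' : I m → F}
    (h : Shp hm M c) (h' : Shp hm M' c') : Shp hm (M * M') (c + c') := by
  have hfe : (jf ⟨0, hm⟩ : I m) ≠ ie ⟨0, hm⟩ := (ie_ne_jf _ _).symm
  refine ⟨?_, ?_, ?_⟩
  · intro x hx y
    rw [Matrix.mul_apply]
    have e1 : ∀ z, M x z * M' z y
        = (1 : Matrix (I m) (I m) F) x z * M' z y
          + (if z = jf ⟨0, hm⟩ then c x * M' z y else 0) := by
      intro z
      rw [h.row x hx z, add_mul]
      congr 1
      split_ifs <;> simp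
    rw [Finset.sum_congr rfl (fun z _ => e1 z), Finset.sum_add_distrib,
      Finset.sum_ite_eq' Finset.univ (jf ⟨0, hm⟩) (fun z => c x * M' z y), if_pos (Finset.mem_univ _)]
    have e2 : ∑ z, (1 : Matrix (I m) (I m) F) x z * M' z y = M' x y := by
      rw [← Matrix.mul_apply, Matrix.one_mul]
    rw [e2, h'.row x hx y, h'.row _ hfe y, h'.cf]
    by_cases hy : y = jf ⟨0, hm⟩
    · subst hy
      simp only [if_true, Matrix.one_apply_eq, Pi.add_apply, add_zero, mul_one]
      ring
    · simp only [if_neg hy, add_zero, Pi.add_apply]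
      rw [Matrix.one_apply_ne (Ne.symm hy), mul_zero, add_zero]
  · intro x
    rw [Matrix.mul_apply]
    have e1 : ∀ z, M x z * M' z (ie ⟨0, hm⟩)
        = M x z * (1 : Matrix (I m) (I m) F) z (ie ⟨0, hm⟩) := by
      intro z
      rw [h'.col z]
    rw [Finset.sum_congr rfl (fun z _ => e1 z), ← Matrix.mul_apply, Matrix.mul_one, h.col x]
  · rw [Pi.add_apply, h.cf, h'.cf, add_zero]

end Cfsg.Agent.Lib.Helper53_S94O_PROD
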