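import Mathlib
import Cfsg.Agent.Lib.Helper22_S94ODefs
import Cfsg.Agent.Lib.Helper38_StOo_SIEGB

/-!
# s94o package O-SIEG (helper69, for helper22's S2094 odd-case model block)

`shp_siegel`: a Siegel matrix centred at `e_0` (with `polar (β e_0) v = 0`) has the shape `Shp`
with `c x = c * β * v x`.
-/

set_option autoImplicit false
set_option linter.unusedSectionVars false
set_option linter.unusedVariables false

namespace Cfsg.Agent.Lib.Helper69_S94O_SIEG

open Matrix Cfsg.Agent.Lib.Helper68_MatGrp Cfsg.Agent.Lib.Helper68_StOoDefs Cfsg.Agent.Lib.Helper22_S94O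

variable {m : ℕ} {F : Type*} [Field F] [Fintype F] [NeZero (2 : F)]

/-- the polar form of `β e_i` with `v` is `β * v (f_i)` -/
theorem h69_polar_single_ie (i : Fin m) (β : F) (v : I m → F) :
    QuadraticMap.polar (Cfsg.quadFormOdd m F) (Pi.single (ie i) β) v = β * v (jf i) := by
  rw [Cfsg.Agent.Lib.Helper44_StdForms.polar_quadFormOdd]
  have h0 : (Pi.single (ie i) β : I m → F) (Sum.inl ()) = 0 := by
    rw [Pi.single_apply, if_neg]
    simp [ie]
  have h1 : ∀ k : Fin m, (Pi.single (ie i) β : I m → F) (Sum.inr (Sum.inr k)) = 0 := by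
    intro k
    rw [Pi.single_apply, if_neg]
    simp [ie]
  have h2 : ∀ k : Fin m, (Pi.single (ie i) β : I m → F) (Sum.inr (Sum.inl k)) =
      if k = i then β else 0 := by
    intro k
    rw [Pi.single_apply]
    simp [ie]
  simp only [h0, h1, h2, mul_zero, zero_mul, add_zero]
  rw [Finset.sum_eq_single i]
  · rw [if_pos rfl, zero_add]
    rfl
  · intro k _ hk
    rw [if_neg hk, zero_mul]
  · intro h
    exact absurd (Finset.mem_univ _) h

/-- the `e_i`-entry of the polar vector of `v` is `v (f_i)` -/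
theorem h69_polarVec_ie (i : Fin m) (v : I m → F) :
    Cfsg.polarVec (Cfsg.quadFormOdd m F) v (ie i) = v (jf i) := by
  unfold Cfsg.polarVec
  rw [QuadraticMap.polar_comm, h69_polar_single_ie, one_mul]

/-! ### O-SIEG (M).  A Siegel matrix centred at `e_0` has the shape, with `c = (c β) • v`. -/
theorem shp_siegel (hm : 0 < m) (v : I m → F) (β c : F)
    (hpol : QuadraticMap.polar (Cfsg.quadFormOdd m F) (Pi.single (ie ⟨0, hm⟩) β) v = 0) :
    Shp hm (Cfsg.siegelMatrix (Cfsg.quadFormOdd m F) (Pi.single (ie ⟨0, hm⟩) β) v c)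
      (fun x => c * β * v x) := by
  rw [h69_polar_single_ie] at hpol
  refine ⟨?_, ?_, ?_⟩
  · intro x hx y
    rw [Cfsg.siegelMatrix]
    simp only [Matrix.add_apply, Matrix.smul_apply, Matrix.sub_apply, Matrix.vecMulVec_apply,
      smul_eq_mul]
    rw [Cfsg.Agent.Lib.Helper38_StOo_SIEGB.polarVec_single_ie, Pi.single_apply, if_neg hx]
    by_cases hy : y = jf ⟨0, hm⟩
    · rw [if_pos hy, if_pos hy]
      ring
    · rw [if_neg hy, if_neg hy]
      ring
  · intro x
    rw [Cfsg.siegelMatrix]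
    simp only [Matrix.add_apply, Matrix.smul_apply, Matrix.sub_apply, Matrix.vecMulVec_apply,
      smul_eq_mul]
    rw [Cfsg.Agent.Lib.Helper38_StOo_SIEGB.polarVec_single_ie, if_neg (ie_ne_jf _ _),
      h69_polarVec_ie, Pi.single_apply]
    by_cases hx : x = ie ⟨0, hm⟩
    · rw [if_pos hx, hpol]
      ring
    · rw [if_neg hx]
      ring
  · show c * β * v (jf ⟨0, hm⟩) = 0
    rw [mul_assoc, hpol, mul_zero]

end Cfsg.Agent.Lib.Helper69_S94O_SIEG
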