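import Mathlib
import Cfsg.Agent.Lib.Helper22_S94ODefs
import Cfsg.Agent.Lib.Helper88_StOo_GENA
import Cfsg.Agent.Lib.Helper53_S94O_PROD
import Cfsg.Agent.Lib.Helper22_S94O_ROOT
import Cfsg.Agent.Lib.Helper69_S94O_SIEG
import Cfsg.Agent.Lib.Helper20_S94O_UNIQ
import Cfsg.Agent.Lib.Helper34_S94O_GENB
import Cfsg.Agent.Lib.Helper21_S94O_GEN

/-!
Helper22_S94OGen: S2094 (helper66 coordinator), MODEL block, ODD case (helper22): `Ω_{2m+1}(F)`, `q` odd, `m ≥ 2`, is generated by the
root elements: a subgroup containing all `lx a c t` and all `sx a t` is everything (`genO`).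
Packages of the mini-market `s94o_packages`: O-PROD (helper53), O-ROOT (helper22 hedge copy), O-SIEG (helper69), O-UNIQ (helper20), O-GENB (helper34), O-GEN (helper21).
helper22.
-/

set_option autoImplicit false
set_option linter.unusedSectionVars false
set_option linter.unusedVariables false

namespace Cfsg.Agent.Lib.Helper22_S94OGen

open Matrix Cfsg.Agent.Lib.Helper68_MatGrp Cfsg.Agent.Lib.Helper68_StOoDefs Cfsg.Agent.Lib.Helper22_S94O
open Cfsg.Agent.Lib.Helper53_S94O_PROD (shp_mul)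
open Cfsg.Agent.Lib.Helper22_S94O_ROOT (shp_lxM shp_sxM)
open Cfsg.Agent.Lib.Helper69_S94O_SIEG (shp_siegel)
open Cfsg.Agent.Lib.Helper20_S94O_UNIQ (shp_unique)
open Cfsg.Agent.Lib.Helper34_S94O_GENB (genB_of_root)
open Cfsg.Agent.Lib.Helper21_S94O_GEN (eq_top_of_gen_odd)

variable {m : ℕ} {F : Type*} [Field F] [Fintype F] [NeZero (2 : F)]

theorem shp_one (hm : 0 < m) : Shp hm (1 : Matrix (I m) (I m) F) (fun _ => 0) where
  row x hx y := by rw [ite_self, add_zero]
  col x := rfl
  cf := rfl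

theorem shp_congr (hm : 0 < m) {M : Matrix (I m) (I m) F} {c c' : I m → F} (h : Shp hm M c)
    (hc : ∀ x, x ≠ ie ⟨0, hm⟩ → c x = c' x) : Shp hm M c' where
  row x hx y := by rw [h.row x hx y, hc x hx]
  col := h.col
  cf := by rw [← hc _ (ie_ne_jf _ _).symm]; exact h.cf

/-- products of root elements realise every shape supported outside `e_0`, `f_0` -/
theorem exists_shape (hm : 0 < m) (H : Subgroup (GO m F))
    (hl : ∀ (a c : I m) (t : F), lx a c t ∈ H) (hs : ∀ (a : I m) (t : F), sx a t ∈ H)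
    (t : I m → F) (s : Finset (I m)) :
    (∀ x ∈ s, x ≠ ie ⟨0, hm⟩ ∧ x ≠ jf ⟨0, hm⟩) →
      ∃ P ∈ H, Shp hm (φ m F P) (fun x => if x ∈ s then t x else 0) := by
  classical
  induction s using Finset.induction_on with
  | empty =>
    intro _
    refine ⟨1, one_mem _, ?_⟩
    rw [map_one]
    exact shp_congr hm (shp_one hm) (fun x _ => by simp)
  | insert y s hys ih =>
    intro hall
    obtain ⟨P, hP, hshp⟩ := ih (fun x hx => hall x (Finset.mem_insert_of_mem hx))
    obtain ⟨hy0, hy1⟩ := hall y (Finset.mem_insert_self y s)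
    have hc : ∀ x, ((fun x => if x ∈ s then t x else 0) + (Pi.single y (t y) : I m → F)) x =
        (if x ∈ insert y s then t x else 0) := by
      intro x
      rw [Pi.add_apply, Pi.single_apply]
      by_cases hxy : x = y
      · rw [hxy, if_neg hys, if_pos rfl, if_pos (Finset.mem_insert_self y s), zero_add]
      · rw [if_neg hxy, add_zero]
        by_cases hxs : x ∈ s
        · rw [if_pos hxs, if_pos (Finset.mem_insert_of_mem hxs)]
        · rw [if_neg hxs, if_neg]
          intro h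
          rcases Finset.mem_insert.mp h with h | h
          · exact hxy h
          · exact hxs h
    by_cases hz : y = z0
    · refine ⟨P * sx (ie ⟨0, hm⟩) (t y), mul_mem hP (hs _ _), ?_⟩
      rw [map_mul, sx_val (ie_ne_z0 _)]
      have h2 := shp_mul hm hshp (shp_sxM (F := F) hm (t y))
      rw [← hz] at h2
      exact shp_congr hm h2 (fun x _ => hc x)
    · refine ⟨P * lx y (jf ⟨0, hm⟩) (t y), mul_mem hP (hl _ _ _), ?_⟩
      have hok : LxOK y (jf ⟨0, hm⟩) := by
        refine ⟨hz, jf_ne_z0 _, fun e => hy1 e.symm, fun e => hy0 ?_⟩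
        rw [← op_op y, ← e, op_jf]
      rw [map_mul, lx_val hok]
      have h2 := shp_mul hm hshp (shp_lxM (F := F) hm hy1 (t y))
      exact shp_congr hm h2 (fun x _ => hc x)

/-- a Siegel transformation centred at `e_0` is a product of root elements -/
theorem siegel_mem (hm : 0 < m) (H : Subgroup (GO m F))
    (hl : ∀ (a c : I m) (t : F), lx a c t ∈ H) (hs : ∀ (a : I m) (t : F), sx a t ∈ H)
    (g : GO m F) (v : I m → F) (β c : F)
    (hpol : QuadraticMap.polar (Cfsg.quadFormOdd m F) (Pi.single (ie ⟨0, hm⟩) β) v = 0)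
    (hg : φ m F g = Cfsg.siegelMatrix (Cfsg.quadFormOdd m F) (Pi.single (ie ⟨0, hm⟩) β) v c) :
    g ∈ H := by
  classical
  have h1 := shp_siegel hm v β c hpol
  rw [← hg] at h1
  obtain ⟨P, hP, h2⟩ := exists_shape hm H hl hs (fun x => c * β * v x)
    (Finset.univ.filter (fun x : I m => x ≠ ie ⟨0, hm⟩ ∧ x ≠ jf ⟨0, hm⟩))
    (fun x hx => (Finset.mem_filter.mp hx).2)
  have h3 : Shp hm (φ m F P) (fun x => c * β * v x) := by
    apply shp_congr hm h2
    intro x hx
    by_cases hx1 : x = jf ⟨0, hm⟩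
    · rw [if_neg (fun h => (Finset.mem_filter.mp h).2.2 hx1), hx1]
      exact h1.cf.symm
    · rw [if_pos (Finset.mem_filter.mpr ⟨Finset.mem_univ _, hx, hx1⟩)]
  have e : g.1 = P.1 := shp_unique hm g.1 P.1 _ h1 h3
  have : g = P := Subtype.ext e
  rw [this]
  exact hP

theorem ss_mem (H : Subgroup (GO m F))
    (hl : ∀ (a c : I m) (t : F), lx a c t ∈ H) (hs : ∀ (a : I m) (t : F), sx a t ∈ H)
    (j : Fin m) : (ss j : GO m F) ∈ H := by
  by_cases h : j.val + 1 < m
  · rw [ss_of_lt j h]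
    unfold wl
    exact mul_mem (mul_mem (hl _ _ _) (hl _ _ _)) (hl _ _ _)
  · rw [ss_of_not_lt j h]
    unfold ws
    exact mul_mem (mul_mem (hs _ _) (hs _ _)) (hs _ _)

/-- **generation**: a subgroup of `Ω_{2m+1}(F)`, `m ≥ 2`, containing all root elements is everything -/
theorem genO (hm : 2 ≤ m) (H : Subgroup (GO m F))
    (hl : ∀ (a c : I m) (t : F), lx a c t ∈ H) (hs : ∀ (a : I m) (t : F), sx a t ∈ H) : H = ⊤ := by
  apply eq_top_of_gen_odd hm H
  · intro a ha
    obtain ⟨n, hn, ε, e⟩ := Cfsg.Agent.Lib.Helper88_StOo_GENA.genA (F := F) (by omega : 0 < m) a ha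
    refine ⟨n, ?_, ε, e⟩
    have hle : Subgroup.closure (Set.range (ss (m := m) (F := F))) ≤ H := by
      rw [Subgroup.closure_le]
      rintro _ ⟨j, rfl⟩
      exact ss_mem H hl hs j
    exact hle hn
  · intro w hw hQ
    exact genB_of_root H hl hs w hw hQ
  · rintro g ⟨v, β, c, hpol, hg⟩
    exact siegel_mem (by omega) H hl hs g v β c hpol hg

end Cfsg.Agent.Lib.Helper22_S94OGen
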