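import Mathlib
import Cfsg.Agent.Lib.Helper66_S94ModelDefs
import Cfsg.Agent.Lib.Helper22_S94Gen

set_option autoImplicit false
set_option linter.unusedVariables false

/-!
MODEL block of S2094 / S2099 (architect helper22), package MOD_G1 of `pending/helper66/S94ModelStubs.lean`, VERBATIM:
the Steinberg relations of type `B` / `²D` hold in any faithful model (from `Helper22_S94Gen.bStAB_of_isActB`, which
holds for any index type).
helper22.
-/

namespace Cfsg.Agent.Lib.Helper66_S94

open Cfsg.Agent.Lib.Helper5_SteinbergA Cfsg.Agent.Lib.Helper66_S92 Cfsg.Agent.Lib.Helper66_S96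
  Cfsg.Agent.Lib.Helper74_S94

universe u

/-! ## MOD_G1 : the relations hold in any faithful model -/

theorem bStAB_of_isActB {n : ℕ} (hn : 3 ≤ n) {K : Type*} [Field K] {V0 : Type*} [AddCommGroup V0]
    [Module K V0] (Q0 : QuadraticForm K V0) {G : Type*} [Group G]
    (X : Fin n ⊕ Fin n → Fin n ⊕ Fin n → K → G) (XS : Fin n ⊕ Fin n → V0 → G)
    (ρ : G →* Module.End K ((Fin n ⊕ Fin n → K) × V0)) (hρ : IsActB Q0 X XS ρ)
    (hinj : Function.Injective ρ) : BStAB Q0 X XS :=
  Cfsg.Agent.Lib.Helper22_S94Gen.bStAB_of_isActB hinj hρ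

end Cfsg.Agent.Lib.Helper66_S94
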