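import Mathlib
import Cfsg.Agent.Lib.Helper66_S94ModelDefs
import Cfsg.Agent.Lib.Helper22_S94MAct
import Cfsg.Agent.Lib.Helper22_S94MGen
import Cfsg.Agent.Lib.Helper22_S94MCenter

set_option autoImplicit false
set_option linter.unusedVariables false
set_option linter.unusedSectionVars false

/-!
MODEL block of S2094 / S2099 (architect helper22), package MOD_MINUS of `pending/helper66/S94ModelStubs.lean`, VERBATIM:
the model of the Steinberg relations of type `²D_{n+1}` inside `Ω⁻_{2n+2}(F)`: `L = QuadraticAlgebra F (-b) a`, `Q0` its norm form,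
`σ = star`, root elements `XLM`, `XSM` (`Helper22_S94MDefs`), action `actM`; generation `genM`, centre `center_iff_actM`,
`-1 ∈ Ω⁻` criterion (landed row S0791).
helper22.
-/

namespace Cfsg.Agent.Lib.Helper22_S94MM

open Matrix Cfsg.Agent.Lib.Helper22_StOmDefs Cfsg.Agent.Lib.Helper66_S92 Cfsg.Agent.Lib.Helper66_S96
  Cfsg.Agent.Lib.Helper74_S94 Cfsg.Agent.Lib.Helper22_S94M Cfsg.Agent.Lib.Helper66_S94

variable {n : ℕ} {F : Type*} [Field F] [Fintype F] {A B : F} [Fact (Aniso A B)]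

/-- the model of type `²D_{n+1}` inside `Ω⁻_{2n+2}(F)` (bundled form) -/
theorem isModelB_M (hn : 2 ≤ n) :
    IsModelB (⇑(Qm n F A B)) (Q0M A B) (actM n F A B) (XLM (m := n) (A := A) (B := B)) XSM where
  inj := actM_injective
  isAct := Cfsg.Agent.Lib.Helper22_S94MAct.isActB_M
  gen := Cfsg.Agent.Lib.Helper22_S94MGen.genM hn
  center := Cfsg.Agent.Lib.Helper22_S94MCenter.center_iff_actM hn

instance finite_LM : Finite (LM F A B) :=
  Finite.of_equiv _ (QuadraticAlgebra.equivProd (-B) A).symm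

theorem card_LM : Nat.card (LM F A B) = Fintype.card F * Fintype.card F := by
  rw [Nat.card_congr (QuadraticAlgebra.equivProd (-B) A), Nat.card_prod, Nat.card_eq_fintype_card]

theorem three_lt_card_LM : 3 < Nat.card (LM F A B) := by
  rw [card_LM]
  have h : 2 ≤ Fintype.card F := by
    have := Fintype.one_lt_card (α := F)
    omega
  nlinarith

theorem exists_polar_one : ∃ v w : LM F A B, QuadraticMap.polar (Q0M A B) v w = 1 := by
  by_cases hA : A = 0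
  · have h4 : (4 : F) * B - A ^ 2 ≠ 0 := disc_ne_zero (A := A) (B := B)
    have h2 : (2 : F) ≠ 0 := by
      intro h
      apply h4
      rw [hA]
      have : (4 : F) = 2 * 2 := by norm_num
      rw [this, h]
      ring
    refine ⟨⟨1, 0⟩, ⟨2⁻¹, 0⟩, ?_⟩
    rw [polar_Q0M]
    simp only [mul_zero, zero_mul, add_zero, mul_one]
    rw [mul_inv_cancel₀ h2]
  · refine ⟨⟨1, 0⟩, ⟨0, A⁻¹⟩, ?_⟩
    rw [polar_Q0M]
    simp only [mul_zero, zero_mul, add_zero, mul_one, zero_add, one_mul]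
    rw [mul_inv_cancel₀ hA]

theorem exists_skew (h2 : (2 : F) ≠ 0) : ∃ lam : LM F A B, lam ≠ 0 ∧ star lam = -lam := by
  refine ⟨⟨-A, 2⟩, ?_, ?_⟩
  · intro h
    have := congrArg QuadraticAlgebra.im h
    exact h2 this
  · apply QuadraticAlgebra.ext
    · simp only [QuadraticAlgebra.re_star, QuadraticAlgebra.re_neg]
      ring
    · simp only [QuadraticAlgebra.im_star, QuadraticAlgebra.im_neg]

end Cfsg.Agent.Lib.Helper22_S94MM

namespace Cfsg.Agent.Lib.Helper66_S94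

open Cfsg.Agent.Lib.Helper5_SteinbergA Cfsg.Agent.Lib.Helper66_S92 Cfsg.Agent.Lib.Helper66_S96
  Cfsg.Agent.Lib.Helper74_S94

universe u

/-! ## MOD_MINUS : `Ω⁻_{2n+2}(F)`; `V0 = L = QuadraticAlgebra F (-b) a`, `Q0` its norm, `σ = star` -/

theorem exists_model_minus (n : ℕ) (hn : 3 ≤ n) (F : Type u) [Field F] [Fintype F] (a b : F)
    (hab : ∀ z₁ z₂ : F, z₁ ^ 2 + a * z₁ * z₂ + b * z₂ ^ 2 = 0 → z₁ = 0 ∧ z₂ = 0) :
    ∃ (L : Type u) (_ : Field L) (_ : Algebra F L) (_ : Finite L) (Q0 : QuadraticForm F L)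
      (σ : L → L)
      (act : ↥(Cfsg.Omega F (Cfsg.quadFormMinus n F a b)) →*
        Module.End F ((Fin n ⊕ Fin n → F) × L))
      (XO : Fin n ⊕ Fin n → Fin n ⊕ Fin n → F → ↥(Cfsg.Omega F (Cfsg.quadFormMinus n F a b)))
      (XSO : Fin n ⊕ Fin n → L → ↥(Cfsg.Omega F (Cfsg.quadFormMinus n F a b))),
      IsNrm Q0 σ ∧ IsModelB (Cfsg.quadFormMinus n F a b) Q0 act XO XSO ∧
      (∃ v w : L, QuadraticMap.polar Q0 v w = 1) ∧ 3 < Nat.card L ∧
      ((2 : F) ≠ 0 → ∃ lam : L, lam ≠ 0 ∧ σ lam = -lam) ∧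
      (Odd (Fintype.card F) → ¬ (Even n ∧ Fintype.card F % 4 = 3) → ∀ g, act g ≠ -1) ∧
      (Even n → Fintype.card F % 4 = 3 → ∃ g, act g = -1) := by
  haveI : Fact (Cfsg.Agent.Lib.Helper22_StOmDefs.Aniso a b) := ⟨hab⟩
  have key : ∃ (L : Type u) (_ : Field L) (_ : Algebra F L) (_ : Finite L) (Q0 : QuadraticForm F L)
      (σ : L → L)
      (act : ↥(Cfsg.Omega F (⇑(Cfsg.Agent.Lib.Helper22_StOmDefs.Qm n F a b))) →*
        Module.End F ((Fin n ⊕ Fin n → F) × L))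
      (XO : Fin n ⊕ Fin n → Fin n ⊕ Fin n → F →
        ↥(Cfsg.Omega F (⇑(Cfsg.Agent.Lib.Helper22_StOmDefs.Qm n F a b))))
      (XSO : Fin n ⊕ Fin n → L → ↥(Cfsg.Omega F (⇑(Cfsg.Agent.Lib.Helper22_StOmDefs.Qm n F a b)))),
      IsNrm Q0 σ ∧ IsModelB (⇑(Cfsg.Agent.Lib.Helper22_StOmDefs.Qm n F a b)) Q0 act XO XSO ∧
      (∃ v w : L, QuadraticMap.polar Q0 v w = 1) ∧ 3 < Nat.card L ∧
      ((2 : F) ≠ 0 → ∃ lam : L, lam ≠ 0 ∧ σ lam = -lam) ∧
      (Odd (Fintype.card F) → ¬ (Even n ∧ Fintype.card F % 4 = 3) → ∀ g, act g ≠ -1) ∧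
      (Even n → Fintype.card F % 4 = 3 → ∃ g, act g = -1) := by
    refine ⟨Cfsg.Agent.Lib.Helper22_S94M.LM F a b, inferInstance, inferInstance,
      Cfsg.Agent.Lib.Helper22_S94MM.finite_LM, Cfsg.Agent.Lib.Helper22_S94M.Q0M a b, star,
      Cfsg.Agent.Lib.Helper22_S94M.actM n F a b, Cfsg.Agent.Lib.Helper22_S94M.XLM,
      Cfsg.Agent.Lib.Helper22_S94M.XSM, Cfsg.Agent.Lib.Helper22_S94M.isNrm_M a b,
      Cfsg.Agent.Lib.Helper22_S94MM.isModelB_M (by omega),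
      Cfsg.Agent.Lib.Helper22_S94MM.exists_polar_one,
      Cfsg.Agent.Lib.Helper22_S94MM.three_lt_card_LM,
      Cfsg.Agent.Lib.Helper22_S94MM.exists_skew, ?_, ?_⟩
    · intro hodd hne g hg
      exact hne ((Cfsg.Agent.Lib.Helper22_S94MCenter.exists_neg_one_iff hodd).mp ⟨g, hg⟩)
    · intro hev h3
      have hodd : Odd (Fintype.card F) := by
        rw [Nat.odd_iff]; omega
      exact (Cfsg.Agent.Lib.Helper22_S94MCenter.exists_neg_one_iff hodd).mpr ⟨hev, h3⟩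
  rw [Cfsg.Agent.Lib.Helper22_StOmDefs.Qm_coe] at key
  exact key

end Cfsg.Agent.Lib.Helper66_S94
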