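import Mathlib
import Cfsg.Agent.Lib.Helper66_S94OddDefs
import Cfsg.Agent.Lib.Helper22_S94OGen

set_option autoImplicit false
set_option linter.unusedVariables false

/-!
ODD MODEL of S2094 (helper66), package ODD_GEN of `pending/helper66/S94OddStubs.lean`, VERBATIM: the root elements `XOo a c t`,
`XSOo a v` generate `Ω_{2m+1}(F)` (`q` odd, `m ≥ 2`); from `Helper22_S94OGen.genO` (mini-market `s94o_packages`).
helper22.
-/

namespace Cfsg.Agent.Lib.Helper66_S94

open Matrix Cfsg.Agent.Lib.Helper66_S92 Cfsg.Agent.Lib.Helper66_S96 Cfsg.Agent.Lib.Helper74_S94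
  Cfsg.Agent.Lib.Helper68_StOoDefs

variable {m : ℕ} {F : Type*} [Field F] [Fintype F] [NeZero (2 : F)]

theorem h22_exists_inr {a : I m} (ha : a ≠ z0) : ∃ a' : Fin m ⊕ Fin m, a = Sum.inr a' := by
  rcases a with a | a
  · exact absurd rfl ha
  · exact ⟨a, rfl⟩

theorem h22_lx_mem (a c : I m) (t : F) :
    lx a c t ∈ Subgroup.closure ({g : GO m F | ∃ a c t, g = XOo a c t} ∪ {g | ∃ a v, g = XSOo a v}) := by
  by_cases h : LxOK a c
  · obtain ⟨a', rfl⟩ := h22_exists_inr h.1
    obtain ⟨c', rfl⟩ := h22_exists_inr h.2.1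
    apply Subgroup.subset_closure
    left
    refine ⟨a', ng c', t, ?_⟩
    unfold XOo
    have h1 : ¬ (ng c' = a' ∨ ng c' = ng a') := by
      rintro (e | e)
      · apply h.2.2.2
        show Sum.inr c' = Sum.inr (Sum.swap a')
        rw [← e]
        show Sum.inr c' = Sum.inr (ng (ng c'))
        rw [ng_ng]
      · exact h.2.2.1 (by rw [ng_injective e])
    rw [if_neg h1, ng_ng]
  · have : lx a c t = 1 := by
      apply Subtype.ext
      show lxO a c t = 1
      unfold lxO
      rw [dif_neg h]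
    rw [this]
    exact one_mem _

theorem h22_sx_mem (a : I m) (t : F) :
    sx a t ∈ Subgroup.closure ({g : GO m F | ∃ a c t, g = XOo a c t} ∪ {g | ∃ a v, g = XSOo a v}) := by
  by_cases h : a = z0
  · have : sx a t = 1 := by
      apply Subtype.ext
      show sxO a t = 1
      unfold sxO
      rw [dif_neg (not_not.mpr h)]
    rw [this]
    exact one_mem _
  · obtain ⟨a', rfl⟩ := h22_exists_inr h
    apply Subgroup.subset_closure
    right
    refine ⟨a', -t, ?_⟩
    unfold XSOo
    rw [neg_neg]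

/-- ODD_GEN (L): the root elements generate `Ω_{2m+1}(F)` (port of `Helper22_S94MGen.genM`) -/
theorem gen_odd (hm : 2 ≤ m) :
    Subgroup.closure ({g : GO m F | ∃ a c t, g = XOo a c t} ∪ {g | ∃ a v, g = XSOo a v}) = ⊤ :=
  Cfsg.Agent.Lib.Helper22_S94OGen.genO hm _ h22_lx_mem h22_sx_mem

end Cfsg.Agent.Lib.Helper66_S94
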