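import Mathlib
import Cfsg.Agent.Lib.Helper68_StOoDefs

/-!
# S2547 (Steinberg character of `PΩ_{2m+1}(q)`), package R1S (architect helper68)

`r1S` : (R1) for the short simple root.  By-products: `conj_inv_mem_Boo` (conjugation `n g n⁻¹` by a monomial
element), `ws_mono` (local copy of MONOW), `sx_mem` (local copy of XB), `mul_sxM_apply`.
-/

set_option autoImplicit false
set_option linter.unusedSectionVars false
set_option linter.unusedSimpArgs false

namespace Cfsg.Agent.Lib.Helper22_StOo_R1S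

open Matrix Cfsg.Agent.Lib.Helper68_MatGrp Cfsg.Agent.Lib.Helper68_StOoDefs

variable {m : ℕ} {F : Type*} [Field F] [Fintype F] [NeZero (2 : F)]

/-- conjugation `n g n⁻¹` by a monomial element into `B` -/
theorem conj_inv_mem_Boo {n : GO m F} {σ : Equiv.Perm (I m)}
    (hn : IsMono (φ m F) n σ) (g : GO m F)
    (h : ∀ a b, ht m b < ht m a → φ m F g (σ⁻¹ a) (σ⁻¹ b) = 0) : n * g * n⁻¹ ∈ Boo m F := by
  rw [mem_Boo]
  intro a b hab
  have e : n * g * n⁻¹ = (n⁻¹)⁻¹ * g * n⁻¹ := by rw [inv_inv]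
  rw [e, hn.inv.conj_apply g a b, h a b hab, mul_zero, zero_mul]

/-- the short Weyl representative is monomial (local copy of MONOW) -/
theorem ws_mono {a : I m} (ha : a ≠ z0) : IsMono (φ m F) (ws a) (Equiv.swap a (op a)) := by
  have h1 : a ≠ op a := fun e => ha (op_eq_self_iff.mp e.symm)
  have h3 : op a ≠ z0 := fun e => ha (op_eq_z0_iff.mp e)
  intro x y hxy
  rw [ws_val ha]
  unfold wsM
  simp only [Matrix.sub_apply, Matrix.one_apply, Matrix.single_apply]
  by_cases hy1 : y = a
  · subst hy1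
    rw [Equiv.swap_apply_left] at hxy
    by_cases hx : x = y
    · subst hx
      simp [h1, h1.symm, ha, ha.symm]
    · simp [hx, Ne.symm hx, hxy, Ne.symm hxy, h1, h1.symm, ha, ha.symm]
  · by_cases hy2 : y = op a
    · subst hy2
      rw [Equiv.swap_apply_right] at hxy
      by_cases hx : x = op a
      · rw [hx]
        simp [h1, h1.symm, h3, h3.symm]
      · simp [hx, Ne.symm hx, hxy, Ne.symm hxy, h1, h1.symm, h3, h3.symm]
    · rw [Equiv.swap_apply_of_ne_of_ne hy1 hy2] at hxy
      have e1 : ¬ (a = x ∧ a = y) := fun e => hy1 e.2.symm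
      have e2 : ¬ (op a = x ∧ op a = y) := fun e => hy2 e.2.symm
      have e3 : ¬ (z0 = x ∧ z0 = y) := fun e => hxy (e.1.symm.trans e.2)
      have e4 : ¬ (a = x ∧ op a = y) := fun e => hy2 e.2.symm
      have e5 : ¬ (op a = x ∧ a = y) := fun e => hy1 e.2.symm
      rw [if_neg hxy, if_neg e1, if_neg e2, if_neg e3, if_neg e4, if_neg e5]
      simp


/-- the values of the transposition `(e_i f_i)` and the heights (`i = m - 1`) -/
theorem swapS_cases (i : Fin m) (hi : i.val + 1 = m) (x : I m) :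
    (Equiv.swap (ie i) (jf i) x = jf i ∧ ht m x + 1 = m) ∨
    (Equiv.swap (ie i) (jf i) x = ie i ∧ ht m x = m + 1) ∨
    (Equiv.swap (ie i) (jf i) x = z0 ∧ ht m x = m ∧ x = z0) ∨
    (Equiv.swap (ie i) (jf i) x = x ∧ ht m x + 1 ≠ m ∧ ht m x ≠ m ∧ ht m x ≠ m + 1) := by
  have hi' := i.2
  by_cases h1 : x = ie i
  · left
    refine ⟨by rw [h1, Equiv.swap_apply_left], ?_⟩
    rw [h1, ht_ie]; exact hi
  · by_cases h2 : x = jf i
    · right; left
      refine ⟨by rw [h2, Equiv.swap_apply_right], ?_⟩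
      rw [h2, ht_jf]; omega
    · by_cases h3 : x = z0
      · right; right; left
        refine ⟨by rw [Equiv.swap_apply_of_ne_of_ne h1 h2, h3], by rw [h3, ht_z0], h3⟩
      · right; right; right
        refine ⟨Equiv.swap_apply_of_ne_of_ne h1 h2, ?_, ?_, ?_⟩
        · intro h
          apply h1
          apply ht_injective m
          rw [ht_ie]; omega
        · intro h
          apply h3
          apply ht_injective m
          rw [ht_z0]; exact h
        · intro h
          apply h2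
          apply ht_injective m
          rw [ht_jf]; omega

/-- the height combinatorics for the short simple root -/
theorem short_heights (i : Fin m) (hi : i.val + 1 = m) {c : GO m F}
    (hc : c ∈ Boo m F) (h1 : φ m F c (ie i) z0 = 0) (h2 : φ m F c z0 (jf i) = 0)
    (h3 : φ m F c (ie i) (jf i) = 0)
    (a b : I m) (hab : ht m b < ht m a) :
    φ m F c (Equiv.swap (ie i) (jf i) a) (Equiv.swap (ie i) (jf i) b) = 0 := by
  have hc' := mem_Boo.mp hc
  have hi' := i.2
  rcases swapS_cases i hi a with ⟨ha1, ha2⟩ | ⟨ha1, ha2⟩ | ⟨ha1, ha2, ha3⟩ | ⟨ha1, ha2, ha3, ha4⟩ <;>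
    rcases swapS_cases i hi b with ⟨hb1, hb2⟩ | ⟨hb1, hb2⟩ | ⟨hb1, hb2, hb3⟩ | ⟨hb1, hb2, hb3, hb4⟩ <;>
    rw [ha1, hb1] <;>
    first
      | exact h1
      | exact h2
      | exact h3
      | (exfalso; omega)
      | (apply hc'; (try simp only [ht_ie, ht_jf, ht_z0]); omega)


/-- the entries of a product with a short root matrix -/
theorem mul_sxM_apply (M : Matrix (I m) (I m) F) (a : I m) (s : F) (x y : I m) :
    (M * sxM a s) x y = M x y + (if y = op a then M x z0 * s else 0)
      - (if y = z0 then M x a * (2 * s) else 0) - (if y = op a then M x a * s ^ 2 else 0) := by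
  unfold sxM
  simp only [Matrix.mul_add, Matrix.mul_sub, Matrix.mul_one, Matrix.add_apply, Matrix.sub_apply]
  congr 1
  · congr 1
    · congr 1
      by_cases h : y = op a
      · rw [if_pos h, h, Matrix.mul_single_apply_same]
      · rw [if_neg h, Matrix.mul_single_apply_of_ne _ _ _ _ _ h]
    · by_cases h : y = z0
      · rw [if_pos h, h, Matrix.mul_single_apply_same]
      · rw [if_neg h, Matrix.mul_single_apply_of_ne _ _ _ _ _ h]
  · by_cases h : y = op a
    · rw [if_pos h, h, Matrix.mul_single_apply_same]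
    · rw [if_neg h, Matrix.mul_single_apply_of_ne _ _ _ _ _ h]

/-- positive short root elements are upper triangular (local copy of XB) -/
theorem sx_mem (i : Fin m) (t : F) : sx (ie i) t ∈ Boo m F := by
  rw [mem_Boo]
  intro x y hxy
  rw [sx_val (ie_ne_z0 i)]
  have h := mul_sxM_apply (1 : Matrix (I m) (I m) F) (ie i) t x y
  rw [Matrix.one_mul] at h
  rw [h]
  have hi := i.2
  have hxy' : x ≠ y := fun e => by rw [e] at hxy; exact lt_irrefl _ hxy
  rw [Matrix.one_apply_ne hxy']
  have e1 : (if y = op (ie i) then (1 : Matrix (I m) (I m) F) x z0 * t else 0) = 0 := by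
    split_ifs with h1
    · have hx : x ≠ z0 := by
        intro e
        rw [e, h1, op_ie, ht_jf, ht_z0] at hxy
        omega
      rw [Matrix.one_apply_ne hx, zero_mul]
    · rfl
  have e2 : (if y = z0 then (1 : Matrix (I m) (I m) F) x (ie i) * (2 * t) else 0) = 0 := by
    split_ifs with h1
    · have hx : x ≠ ie i := by
        intro e
        rw [e, h1, ht_ie, ht_z0] at hxy
        omega
      rw [Matrix.one_apply_ne hx, zero_mul]
    · rfl
  have e3 : (if y = op (ie i) then (1 : Matrix (I m) (I m) F) x (ie i) * t ^ 2 else 0) = 0 := by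
    split_ifs with h1
    · have hx : x ≠ ie i := by
        intro e
        rw [e, h1, op_ie, ht_jf, ht_ie] at hxy
        omega
      rw [Matrix.one_apply_ne hx, zero_mul]
    · rfl
  rw [e1, e2, e3]
  simp

/-- **R1S** -/
theorem r1S (i : Fin m) (hi : i.val + 1 = m) (b : GO m F) (hb : b ∈ Boo m F) :
    ∃ t : F, ws (ie i) * (b * (sx (ie i) t)⁻¹) * (ws (ie i))⁻¹ ∈ Boo m F := by
  have h2 : (2 : F) ≠ 0 := two_ne_zero
  have hi' := i.2
  have hii : φ m F b (ie i) (ie i) ≠ 0 := UT_diag_ne_zero (φ m F) (ht m) (ht_injective m) hb _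
  set t : F := -(φ m F b (ie i) z0 / (2 * φ m F b (ie i) (ie i))) with ht'
  refine ⟨t, ?_⟩
  rw [sx_inv]
  set c : GO m F := b * sx (ie i) (-t) with hcdef
  have hc : c ∈ Boo m F := (Boo m F).mul_mem hb (sx_mem i (-t))
  have hc' := mem_Boo.mp hc
  have hcinv : c⁻¹ ∈ Boo m F := (Boo m F).inv_mem hc
  have hcinv' := mem_Boo.mp hcinv
  -- the entry `(e_i, w₀)` of `c` vanishes
  have h1 : φ m F c (ie i) z0 = 0 := by
    rw [hcdef, map_mul, sx_val (ie_ne_z0 i), mul_sxM_apply]
    have e1 : ¬ ((z0 : I m) = op (ie i)) := by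
      rw [op_ie]; exact (jf_ne_z0 i).symm
    rw [if_neg e1, if_pos rfl, if_neg e1, ht']
    field_simp
    ring
  -- the entry `(w₀, f_i)` of `c` vanishes
  have hne1 : (z0 : I m) ≠ jf i := (jf_ne_z0 i).symm
  have hne2 : (ie i : I m) ≠ jf i := ie_ne_jf i i
  have hne3 : (ie i : I m) ≠ z0 := ie_ne_z0 i
  have hsum : ∀ x y : I m, ht m x + 1 = m ∨ ht m x = m → ht m y = m ∨ ht m y = m + 1 →
      (φ m F c * φ m F c⁻¹) x y = φ m F c x (ie i) * φ m F c⁻¹ (ie i) y +
        φ m F c x z0 * φ m F c⁻¹ z0 y + φ m F c x (jf i) * φ m F c⁻¹ (jf i) y := by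
    intro x y hx hy
    rw [Matrix.mul_apply]
    have hd : ∀ d : I m, d ≠ ie i → d ≠ z0 → d ≠ jf i → φ m F c x d * φ m F c⁻¹ d y = 0 := by
      intro d hd1 hd2 hd3
      have g1 : ht m d ≠ i.val := fun e => hd1 (ht_injective m (by rw [ht_ie]; exact e))
      have g2 : ht m d ≠ m := fun e => hd2 (ht_injective m (by rw [ht_z0]; exact e))
      have g3 : ht m d ≠ 2 * m - i.val := fun e => hd3 (ht_injective m (by rw [ht_jf]; exact e))
      by_cases hlt : ht m d < ht m x
      · rw [hc' _ _ hlt, zero_mul]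
      · have hlt' : ht m y < ht m d := by omega
        rw [hcinv' _ _ hlt', mul_zero]
    rw [← Finset.add_sum_erase _ _ (Finset.mem_univ (ie i)),
      ← Finset.add_sum_erase _ _ (Finset.mem_erase.mpr ⟨hne3.symm, Finset.mem_univ z0⟩),
      ← Finset.add_sum_erase _ _ (Finset.mem_erase.mpr ⟨hne1.symm,
        Finset.mem_erase.mpr ⟨hne2.symm, Finset.mem_univ (jf i)⟩⟩),
      Finset.sum_eq_zero, add_zero, add_assoc]
    intro d hd'
    simp only [Finset.mem_erase, Finset.mem_univ, and_true] at hd'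
    exact hd d hd'.2.2 hd'.2.1 hd'.1
  have hone : φ m F c * φ m F c⁻¹ = 1 := map_mul_inv (φ m F) c
  have hjj : φ m F c⁻¹ (jf i) (jf i) ≠ 0 :=
    UT_diag_ne_zero (φ m F) (ht m) (ht_injective m) hcinv _
  have hk2 : φ m F c z0 (jf i) = 0 := by
    have e1 := hsum z0 (jf i) (Or.inr ht_z0) (Or.inr (by rw [ht_jf]; omega))
    rw [hone, Matrix.one_apply_ne hne1] at e1
    have e2 : φ m F c⁻¹ z0 (jf i) = 0 := by
      rw [φ_inv_apply, op_jf, op_z0, h1, mul_zero, zero_mul]
    have e3 : φ m F c z0 (ie i) = 0 := hc' _ _ (by rw [ht_ie, ht_z0]; omega)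
    rw [e2, e3, zero_mul, mul_zero, zero_add, zero_add] at e1
    exact (mul_eq_zero.mp e1.symm).resolve_right hjj
  -- the entry `(e_i, f_i)` of `c` vanishes
  have hk3 : φ m F c (ie i) (jf i) = 0 := by
    have e1 := hsum (ie i) (jf i) (Or.inl (by rw [ht_ie]; exact hi)) (Or.inr (by rw [ht_jf]; omega))
    rw [hone, Matrix.one_apply_ne hne2] at e1
    have e2 : φ m F c⁻¹ (ie i) (jf i) = φ m F c (ie i) (jf i) := by
      rw [φ_inv_apply, op_jf, op_ie, wt_ie, wt_jf, inv_one, one_mul, mul_one]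
    have e3 : φ m F c⁻¹ (jf i) (jf i) = φ m F c (ie i) (ie i) := by
      rw [φ_inv_apply, op_jf, wt_jf, inv_one, one_mul, mul_one]
    rw [e2, e3, h1, zero_mul, add_zero] at e1
    have hcii : φ m F c (ie i) (ie i) ≠ 0 :=
      UT_diag_ne_zero (φ m F) (ht m) (ht_injective m) hc _
    have e4 : 2 * (φ m F c (ie i) (ie i) * φ m F c (ie i) (jf i)) = 0 := by
      rw [e1]; ring
    exact (mul_eq_zero.mp ((mul_eq_zero.mp e4).resolve_left h2)).resolve_left hcii
  -- conjugation by `ws (ie i)`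
  have hmono := ws_mono (F := F) (ie_ne_z0 i)
  rw [op_ie] at hmono
  apply conj_inv_mem_Boo hmono c
  intro a b' hab
  have hσ : (Equiv.swap (ie i) (jf i) : Equiv.Perm (I m))⁻¹ = Equiv.swap (ie i) (jf i) :=
    Equiv.swap_inv _ _
  rw [hσ]
  exact short_heights i hi hc h1 hk2 hk3 a b' hab

end Cfsg.Agent.Lib.Helper22_StOo_R1S
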