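import Mathlib
import Cfsg.Agent.Lib.Helper68_StOoDefs
import Cfsg.Agent.Lib.Helper22_StOo_R1S

/-!
# S2547 (Steinberg character of `PΩ_{2m+1}(q)`), package R1L (architect helper68)

`r1L` : (R1) for a long simple root.  By-products: `wl_mono` (local copy of MONOW), `lx_mem` (local copy of XB),
`mul_lxM_apply`.
-/

set_option autoImplicit false
set_option linter.unusedSectionVars false
set_option linter.unusedSimpArgs false

namespace Cfsg.Agent.Lib.Helper22_StOo_R1L

open Matrix Cfsg.Agent.Lib.Helper68_MatGrp Cfsg.Agent.Lib.Helper68_StOoDefs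

variable {m : ℕ} {F : Type*} [Field F] [Fintype F] [NeZero (2 : F)]

/-- the long Weyl representative is monomial (local copy of MONOW) -/
theorem wl_mono {a c : I m} (h : LxOK a c) :
    IsMono (φ m F) (wl a c) (Equiv.swap a c * Equiv.swap (op a) (op c)) := by
  obtain ⟨ha, hc, hca, hca'⟩ := h
  have h1 : a ≠ op a := fun e => ha (op_eq_self_iff.mp e.symm)
  have h2 : c ≠ op c := fun e => hc (op_eq_self_iff.mp e.symm)
  have h3 : op a ≠ c := fun e => hca' e.symm
  have h4 : a ≠ c := fun e => hca e.symm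
  have h5 : op c ≠ op a := fun e => hca (op_injective e)
  have h6 : op c ≠ a := fun e => hca' (by rw [← e, op_op])
  intro x y hxy
  rw [wl_val ⟨ha, hc, hca, hca'⟩]
  unfold wlM
  simp only [Matrix.sub_apply, Matrix.add_apply, Matrix.one_apply, Matrix.single_apply]
  rw [Equiv.Perm.mul_apply] at hxy
  by_cases hy1 : y = a
  · subst hy1
    rw [Equiv.swap_apply_of_ne_of_ne h1 h6.symm, Equiv.swap_apply_left] at hxy
    by_cases hx : x = y
    · subst hx
      simp [h1, h1.symm, h4, h4.symm, h6, h6.symm, h3, h3.symm, h5, h5.symm, h2, h2.symm]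
    · simp [hx, Ne.symm hx, hxy, Ne.symm hxy, h1, h1.symm, h4, h4.symm, h6, h6.symm, h3, h3.symm,
        h5, h5.symm, h2, h2.symm]
  by_cases hy2 : y = c
  · subst hy2
    rw [Equiv.swap_apply_of_ne_of_ne h3.symm h2, Equiv.swap_apply_right] at hxy
    by_cases hx : x = y
    · subst hx
      simp [h1, h1.symm, h4, h4.symm, h6, h6.symm, h3, h3.symm, h5, h5.symm, h2, h2.symm]
    · simp [hx, Ne.symm hx, hxy, Ne.symm hxy, h1, h1.symm, h4, h4.symm, h6, h6.symm, h3, h3.symm,
        h5, h5.symm, h2, h2.symm]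
  by_cases hy3 : y = op a
  · subst hy3
    rw [Equiv.swap_apply_left, Equiv.swap_apply_of_ne_of_ne h6 h2.symm] at hxy
    by_cases hx : x = op a
    · subst hx
      simp [h1, h1.symm, h4, h4.symm, h6, h6.symm, h3, h3.symm, h5, h5.symm, h2, h2.symm]
    · simp [hx, Ne.symm hx, hxy, Ne.symm hxy, h1, h1.symm, h4, h4.symm, h6, h6.symm, h3, h3.symm,
        h5, h5.symm, h2, h2.symm]
  by_cases hy4 : y = op c
  · subst hy4
    rw [Equiv.swap_apply_right, Equiv.swap_apply_of_ne_of_ne h1.symm h3] at hxy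
    by_cases hx : x = op c
    · subst hx
      simp [h1, h1.symm, h4, h4.symm, h6, h6.symm, h3, h3.symm, h5, h5.symm, h2, h2.symm]
    · simp [hx, Ne.symm hx, hxy, Ne.symm hxy, h1, h1.symm, h4, h4.symm, h6, h6.symm, h3, h3.symm,
        h5, h5.symm, h2, h2.symm]
  rw [Equiv.swap_apply_of_ne_of_ne hy3 hy4, Equiv.swap_apply_of_ne_of_ne hy1 hy2] at hxy
  simp [hxy, Ne.symm hy1, Ne.symm hy2, Ne.symm hy3, Ne.symm hy4]


/-- the entries of a product with a long root matrix -/
theorem mul_lxM_apply (M : Matrix (I m) (I m) F) (a c : I m) (s : F) (x y : I m) :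
    (M * lxM a c s) x y = M x y + (if y = c then M x a * s else 0)
      - (if y = op a then M x (op c) * s else 0) := by
  unfold lxM
  simp only [Matrix.mul_add, Matrix.mul_sub, Matrix.mul_one, Matrix.add_apply, Matrix.sub_apply]
  congr 1
  · congr 1
    by_cases h : y = c
    · rw [if_pos h, h, Matrix.mul_single_apply_same]
    · rw [if_neg h, Matrix.mul_single_apply_of_ne _ _ _ _ _ h]
  · by_cases h : y = op a
    · rw [if_pos h, h, Matrix.mul_single_apply_same]
    · rw [if_neg h, Matrix.mul_single_apply_of_ne _ _ _ _ _ h]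

/-- positive long root elements are upper triangular (local copy of XB) -/
theorem lx_mem (i k : Fin m) (hlt : i < k) (t : F) : lx (ie i) (ie k) t ∈ Boo m F := by
  have hik : i ≠ k := ne_of_lt hlt
  have hlt' : i.val < k.val := hlt
  have hi := i.2
  have hk := k.2
  rw [mem_Boo]
  intro x y hxy
  rw [lx_val (lxOK_ie hik)]
  have h := mul_lxM_apply (1 : Matrix (I m) (I m) F) (ie i) (ie k) t x y
  rw [Matrix.one_mul] at h
  rw [h]
  have hxy' : x ≠ y := fun e => by rw [e] at hxy; exact lt_irrefl _ hxy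
  rw [Matrix.one_apply_ne hxy']
  have e1 : (if y = ie k then (1 : Matrix (I m) (I m) F) x (ie i) * t else 0) = 0 := by
    split_ifs with h1
    · have hx : x ≠ ie i := by
        intro e
        rw [e, h1, ht_ie, ht_ie] at hxy
        omega
      rw [Matrix.one_apply_ne hx, zero_mul]
    · rfl
  have e2 : (if y = op (ie i) then (1 : Matrix (I m) (I m) F) x (op (ie k)) * t else 0) = 0 := by
    split_ifs with h1
    · have hx : x ≠ op (ie k) := by
        intro e
        rw [e, h1, op_ie, op_ie, ht_jf, ht_jf] at hxy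
        omega
      rw [Matrix.one_apply_ne hx, zero_mul]
    · rfl
  rw [e1, e2]
  simp

/-- the values of the permutation `(f_i f_k)(e_i e_k)` and the heights (`k = i + 1`) -/
theorem tauL_cases (i k : Fin m) (hk : i.val + 1 = k.val) (x : I m) :
    ((Equiv.swap (jf i) (jf k) * Equiv.swap (ie i) (ie k)) x = ie k ∧ ht m x = i.val) ∨
    ((Equiv.swap (jf i) (jf k) * Equiv.swap (ie i) (ie k)) x = ie i ∧ ht m x = i.val + 1) ∨
    ((Equiv.swap (jf i) (jf k) * Equiv.swap (ie i) (ie k)) x = jf k ∧ ht m x = 2 * m - i.val) ∨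
    ((Equiv.swap (jf i) (jf k) * Equiv.swap (ie i) (ie k)) x = jf i ∧ ht m x = 2 * m - i.val - 1) ∨
    ((Equiv.swap (jf i) (jf k) * Equiv.swap (ie i) (ie k)) x = x ∧ ht m x ≠ i.val ∧
      ht m x ≠ i.val + 1 ∧ ht m x ≠ 2 * m - i.val ∧ ht m x ≠ 2 * m - i.val - 1) := by
  have hi' := i.2
  have hk' := k.2
  rw [Equiv.Perm.mul_apply]
  by_cases h1 : x = ie i
  · left
    refine ⟨?_, by rw [h1, ht_ie]⟩
    rw [h1, Equiv.swap_apply_left, Equiv.swap_apply_of_ne_of_ne (ie_ne_jf k i) (ie_ne_jf k k)]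
  by_cases h2 : x = ie k
  · right; left
    refine ⟨?_, by rw [h2, ht_ie]; exact hk.symm⟩
    rw [h2, Equiv.swap_apply_right, Equiv.swap_apply_of_ne_of_ne (ie_ne_jf i i) (ie_ne_jf i k)]
  by_cases h3 : x = jf i
  · right; right; left
    refine ⟨?_, by rw [h3, ht_jf]⟩
    rw [h3, Equiv.swap_apply_of_ne_of_ne (ie_ne_jf i i).symm (ie_ne_jf k i).symm,
      Equiv.swap_apply_left]
  by_cases h4 : x = jf k
  · right; right; right; left
    refine ⟨?_, by rw [h4, ht_jf]; omega⟩
    rw [h4, Equiv.swap_apply_of_ne_of_ne (ie_ne_jf i k).symm (ie_ne_jf k k).symm,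
      Equiv.swap_apply_right]
  right; right; right; right
  refine ⟨?_, ?_, ?_, ?_, ?_⟩
  · rw [Equiv.swap_apply_of_ne_of_ne h1 h2, Equiv.swap_apply_of_ne_of_ne h3 h4]
  · intro h
    apply h1
    apply ht_injective m
    rw [ht_ie]; exact h
  · intro h
    apply h2
    apply ht_injective m
    rw [ht_ie]; omega
  · intro h
    apply h3
    apply ht_injective m
    rw [ht_jf]; exact h
  · intro h
    apply h4
    apply ht_injective m
    rw [ht_jf]; omega

/-- the height combinatorics for a long simple root -/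
theorem long_heights (i k : Fin m) (hk : i.val + 1 = k.val) {c : GO m F}
    (hc : c ∈ Boo m F) (h1 : φ m F c (ie i) (ie k) = 0) (h2 : φ m F c (jf k) (jf i) = 0)
    (a b : I m) (hab : ht m b < ht m a) :
    φ m F c ((Equiv.swap (jf i) (jf k) * Equiv.swap (ie i) (ie k)) a)
      ((Equiv.swap (jf i) (jf k) * Equiv.swap (ie i) (ie k)) b) = 0 := by
  have hc' := mem_Boo.mp hc
  have hi' := i.2
  have hk' := k.2
  rcases tauL_cases i k hk a with ⟨ha1, ha2⟩ | ⟨ha1, ha2⟩ | ⟨ha1, ha2⟩ | ⟨ha1, ha2⟩ |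
      ⟨ha1, ha2, ha3, ha4, ha5⟩ <;>
    rcases tauL_cases i k hk b with ⟨hb1, hb2⟩ | ⟨hb1, hb2⟩ | ⟨hb1, hb2⟩ | ⟨hb1, hb2⟩ |
      ⟨hb1, hb2, hb3, hb4, hb5⟩ <;>
    rw [ha1, hb1] <;>
    first
      | exact h1
      | exact h2
      | (exfalso; omega)
      | (apply hc'; (try simp only [ht_ie, ht_jf]); omega)

/-- **R1L** -/
theorem r1L (i k : Fin m) (hk : i.val + 1 = k.val) (b : GO m F) (hb : b ∈ Boo m F) :
    ∃ t : F, wl (ie i) (ie k) * (b * (lx (ie i) (ie k) t)⁻¹) * (wl (ie i) (ie k))⁻¹ ∈ Boo m F := by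
  have hi' := i.2
  have hk' := k.2
  have hlt : i < k := by
    rw [Fin.lt_def]; omega
  have hik : i ≠ k := ne_of_lt hlt
  have hOK : LxOK (ie i) (ie k) := lxOK_ie hik
  have hii : φ m F b (ie i) (ie i) ≠ 0 := UT_diag_ne_zero (φ m F) (ht m) (ht_injective m) hb _
  set t : F := φ m F b (ie i) (ie k) / φ m F b (ie i) (ie i) with ht'
  refine ⟨t, ?_⟩
  rw [lx_inv]
  set c : GO m F := b * lx (ie i) (ie k) (-t) with hcdef
  have hc : c ∈ Boo m F := (Boo m F).mul_mem hb (lx_mem i k hlt (-t))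
  have hc' := mem_Boo.mp hc
  have hcinv : c⁻¹ ∈ Boo m F := (Boo m F).inv_mem hc
  have hcinv' := mem_Boo.mp hcinv
  have hne : (ie i : I m) ≠ ie k := fun e => hik (ie_injective e)
  -- the entry `(e_i, e_k)` of `c` vanishes
  have h1 : φ m F c (ie i) (ie k) = 0 := by
    rw [hcdef, map_mul, lx_val hOK, mul_lxM_apply]
    have e1 : ¬ ((ie k : I m) = op (ie i)) := by
      rw [op_ie]; exact ie_ne_jf k i
    rw [if_pos rfl, if_neg e1, ht']
    field_simp
    ring
  -- the entry `(f_k, f_i)` of `c` vanishes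
  have hcii : φ m F c (ie i) (ie i) ≠ 0 := UT_diag_ne_zero (φ m F) (ht m) (ht_injective m) hc _
  have h3 : φ m F c⁻¹ (ie i) (ie k) = 0 := by
    have e1 : (φ m F c * φ m F c⁻¹) (ie i) (ie k) = 0 := by
      rw [map_mul_inv (φ m F) c]
      exact Matrix.one_apply_ne hne
    have e2 : (φ m F c * φ m F c⁻¹) (ie i) (ie k) =
        φ m F c (ie i) (ie i) * φ m F c⁻¹ (ie i) (ie k) +
          φ m F c (ie i) (ie k) * φ m F c⁻¹ (ie k) (ie k) := by
      rw [Matrix.mul_apply, Fintype.sum_eq_add (ie i) (ie k) hne]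
      rintro d ⟨hd1, hd2⟩
      by_cases hd : ht m d < ht m (ie i)
      · rw [hc' _ _ hd, zero_mul]
      · have hd' : ht m (ie k) < ht m d := by
          have hne1 : ht m d ≠ ht m (ie i) := fun h => hd1 (ht_injective m h)
          have hne2 : ht m d ≠ ht m (ie k) := fun h => hd2 (ht_injective m h)
          simp only [ht_ie] at hd hne1 hne2 ⊢
          omega
        rw [hcinv' _ _ hd', mul_zero]
    rw [e2, h1, zero_mul, add_zero] at e1
    exact (mul_eq_zero.mp e1).resolve_left hcii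
  have h2 : φ m F c (jf k) (jf i) = 0 := by
    have e : φ m F c⁻¹ (ie i) (ie k) = φ m F c (jf k) (jf i) := by
      rw [φ_inv_apply, op_ie, op_ie, wt_ie, wt_ie, inv_one, one_mul, mul_one]
    rw [← e, h3]
  -- conjugation by `wl (ie i) (ie k)`
  have hmono := wl_mono (F := F) hOK
  rw [op_ie, op_ie] at hmono
  apply Cfsg.Agent.Lib.Helper22_StOo_R1S.conj_inv_mem_Boo hmono c
  intro a b' hab
  have hσ : (Equiv.swap (ie i) (ie k) * Equiv.swap (jf i) (jf k) : Equiv.Perm (I m))⁻¹ =
      Equiv.swap (jf i) (jf k) * Equiv.swap (ie i) (ie k) := by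
    rw [_root_.mul_inv_rev, Equiv.swap_inv, Equiv.swap_inv]
  rw [hσ]
  exact long_heights i k hk hc h1 h2 a b' hab

end Cfsg.Agent.Lib.Helper22_StOo_R1L
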