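import Cfsg.Agent.Lib.Helper22_BGTrans
import Cfsg.Agent.Lib.Helper22_Hyperplane
import Cfsg.Agent.Lib.Helper84_RelSylow
import Cfsg.Agent.Lib.Helper1_Cores
import Cfsg.Agent.Lib.Helper24_CoprimeAction

/-!
General lemmas for the uniqueness theorems of Bender--Glauberman, section 9 (helper22).

* `opp p X`: `O_{p'}(X)` for a subgroup `X` of `G`, inside `G`;
* `le_of_centralizers_le`: a noncyclic elementary abelian `p`-group `B` normalizing a `p'`-group `Y`
  with `C_G(b) ≤ M` for all `b ∈ B#` has `Y ≤ M`;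
* `le_of_forall_sylow`: a subgroup containing a Sylow `q`-subgroup of `Y` for every prime `q` contains `Y`;
* `le_of_invariant_sylows`: coprime action, generation by invariant Sylow subgroups;
* `normalizer_le_normalizer_of_forall`: `N_G(T)` normalizes the largest `T`-invariant `p'`-subgroup;
* `exists_sylow_eq_of_normalizer_le`: a Sylow subgroup of `M` whose normalizer lies in `M` is a Sylow subgroup of `G`.
-/

set_option autoImplicit false

namespace Cfsg.Agent.Lib.Helper22_Uniq

open Subgroup Cfsg Cfsg.Agent.Lib.Helper22_Radical Cfsg.Agent.Lib.Helper22_BGTrans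
  Cfsg.Agent.Lib.Helper84_RelSylow Cfsg.Agent.Lib.Helper24_CoprimeAction

universe u

variable {G : Type u} [Group G]

/-- `O_{p'}(X)` for a subgroup `X` of `G`, inside `G` -/
def opp (p : ℕ) (X : Subgroup G) : Subgroup G := (pPrimeCore p ↥X).map X.subtype

theorem opp_le (p : ℕ) (X : Subgroup G) : opp p X ≤ X := Subgroup.map_subtype_le _

theorem le_normalizer_opp (p : ℕ) (X : Subgroup G) : X ≤ normalizer ((opp p X : Subgroup G) : Set G) := by
  have h1 := Subgroup.le_normalizer_map (H := pPrimeCore p ↥X) X.subtype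
  rw [Subgroup.normalizer_eq_top, ← MonoidHom.range_eq_map, Subgroup.range_subtype] at h1
  exact h1

theorem opp_coprime [Finite G] (p : ℕ) (X : Subgroup G) : (Nat.card (opp p X)).Coprime p := by
  unfold opp
  rw [Subgroup.card_map_of_injective X.subtype_injective]
  exact Cfsg.Agent.Lib.Helper1_Cores.pPrimeCore_card_coprime p

theorem not_dvd_card_opp [Finite G] (p : ℕ) [Fact p.Prime] (X : Subgroup G) : ¬ p ∣ Nat.card (opp p X) := by
  intro h
  have hp : p.Prime := Fact.out
  exact hp.one_lt.ne' (Nat.eq_one_of_dvd_coprimes (opp_coprime p X) h dvd_rfl)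

theorem opp_eq_bot_iff (p : ℕ) (X : Subgroup G) : opp p X = ⊥ ↔ pPrimeCore p ↥X = ⊥ := by
  unfold opp
  exact Subgroup.map_eq_bot_iff_of_injective _ X.subtype_injective

/-- a normal `p'`-subgroup of `X` lies in `O_{p'}(X)` -/
theorem le_opp {p : ℕ} {X Y : Subgroup G} (hYX : Y ≤ X) (hXY : X ≤ normalizer (Y : Set G))
    (hY : (Nat.card Y).Coprime p) : Y ≤ opp p X := by
  have hn : (Y.subgroupOf X).Normal := (normal_subgroupOf_iff_le_normalizer hYX).mpr hXY
  have hc : Nat.card (Y.subgroupOf X) = Nat.card Y := card_subgroupOf_of_le hYX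
  have h1 : Y.subgroupOf X ≤ pPrimeCore p ↥X :=
    Cfsg.Agent.Lib.Helper1_Cores.le_pPrimeCore hn (by rw [hc]; exact hY)
  have h2 := Subgroup.map_mono (f := X.subtype) h1
  rwa [Subgroup.map_subgroupOf_eq_of_le hYX] at h2

/-! ### elementary abelian groups -/

theorem isPGroup_of_isElementaryAbelian {p : ℕ} {B : Subgroup G} (h : IsElementaryAbelian p B) :
    IsPGroup p B := by
  intro b
  refine ⟨1, ?_⟩
  apply Subtype.ext
  rw [pow_one, Subgroup.coe_pow]
  exact h.2 b.1 b.2

theorem isCyclic_of_card_le [Finite G] {p : ℕ} [Fact p.Prime] {B : Subgroup G} (hB : IsPGroup p B)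
    (hc : Nat.card B ≤ p) : IsCyclic B := by
  have hp : p.Prime := Fact.out
  obtain ⟨k, hk⟩ := IsPGroup.iff_card.mp hB
  have hk1 : k ≤ 1 := by
    by_contra hlt
    push Not at hlt
    have h2 : p ^ 2 ≤ p ^ k := Nat.pow_le_pow_right hp.pos hlt
    have h3 : p < p ^ 2 := by
      have := hp.one_lt
      nlinarith
    omega
  interval_cases k
  · rw [pow_zero] at hk
    have : Subsingleton B := (Nat.card_eq_one_iff_unique.mp hk).1
    exact isCyclic_of_subsingleton
  · rw [pow_one] at hk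
    exact isCyclic_of_prime_card hk

/-- **Generation.** A noncyclic elementary abelian `p`-group `B` normalizing a `p'`-group `Y`, with `C_G(b) ≤ M`
for all `b ∈ B#`: then `Y ≤ M`. -/
theorem le_of_centralizers_le [Finite G] (p : ℕ) [Fact p.Prime] {B Y M : Subgroup G}
    (hBe : IsElementaryAbelian p B) (hBnc : ¬ IsCyclic B) (hY : ¬ p ∣ Nat.card Y)
    (hBY : B ≤ normalizer (Y : Set G))
    (h : ∀ b ∈ B, b ≠ 1 → centralizer ({b} : Set G) ≤ M) : Y ≤ M := by
  have hcomm : ∀ a ∈ B, ∀ b ∈ B, a * b = b * a := by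
    intro a ha b hb
    have := hBe.1
    have h1 : (⟨a, ha⟩ : B) * ⟨b, hb⟩ = ⟨b, hb⟩ * ⟨a, ha⟩ := isMulCommutative_iff.mp hBe.1 _ _
    exact congrArg Subtype.val h1
  have hgen := Cfsg.Agent.Lib.Helper22_Hyperplane.le_iSup_centralizer_hyperplanes p B Y hcomm hBe.2 hY hBY
  refine hgen.trans (iSup_le ?_)
  rintro ⟨D, hDB, hDi⟩
  have hDne : D ≠ ⊥ := by
    rintro rfl
    apply hBnc
    apply isCyclic_of_card_le (isPGroup_of_isElementaryAbelian hBe)
    rw [Subgroup.relIndex_bot_left] at hDi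
    exact hDi
  obtain ⟨⟨b, hbD⟩, hb1⟩ := (Subgroup.ne_bot_iff_exists_ne_one).mp hDne
  have hb1' : b ≠ 1 := fun hb => hb1 (Subtype.ext hb)
  refine inf_le_right.trans (le_trans ?_ (h b (hDB hbD) hb1'))
  exact Subgroup.centralizer_le (Set.singleton_subset_iff.mpr hbD)

/-! ### generation by Sylow subgroups -/

/-- a subgroup containing a Sylow `q`-subgroup of `Y` for every prime `q` contains `Y` -/
theorem le_of_forall_sylow [Finite G] {Y T : Subgroup G}
    (h : ∀ q : ℕ, q.Prime → ∃ P : Sylow q ↥Y, sylowImage P ≤ T) : Y ≤ T := by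
  set H : Subgroup ↥Y := T.subgroupOf Y with hH
  have hH1 : H = ⊤ := by
    rw [← index_eq_one]
    by_contra hne
    obtain ⟨q, hq, hdvd⟩ := Nat.exists_prime_and_dvd hne
    have : Fact q.Prime := ⟨hq⟩
    obtain ⟨P, hP⟩ := h q hq
    have hle : (P : Subgroup ↥Y) ≤ H := by
      intro x hx
      rw [hH, Subgroup.mem_subgroupOf]
      exact hP ⟨x, hx, rfl⟩
    exact P.not_dvd_index (dvd_trans hdvd (index_dvd_of_le hle))
  rw [hH, Subgroup.subgroupOf_eq_top] at hH1
  exact hH1

/-- **Coprime action.** If every `A`-invariant Sylow subgroup of the `A`-invariant subgroup `Y` lies in `T`, then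
`Y ≤ T`. -/
theorem le_of_invariant_sylows [Finite G] {A Y T : Subgroup G} (hAY : A ≤ normalizer (Y : Set G))
    (hcop : (Nat.card A).Coprime (Nat.card Y)) (hsolv : Group.IsSolvable A ∨ Group.IsSolvable Y)
    (h : ∀ q : ℕ, q.Prime → ∀ Q : Subgroup G, Q ≤ Y → IsPGroup q Q → A ≤ normalizer (Q : Set G) → Q ≤ T) :
    Y ≤ T := by
  apply le_of_forall_sylow
  intro q hq
  have : Fact q.Prime := ⟨hq⟩
  obtain ⟨P, hP⟩ := exists_invariant_sylow A Y hAY hcop hsolv q
  exact ⟨P, h q hq _ (Subgroup.map_subtype_le _) (P.isPGroup'.map _) hP⟩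

/-! ### the largest invariant `p'`-subgroup -/

/-- conjugating an invariant subgroup by an element of the normalizer -/
theorem le_normalizer_cj {T Y : Subgroup G} {g : G} (hg : g ∈ normalizer (T : Set G))
    (hTY : T ≤ normalizer (Y : Set G)) : T ≤ normalizer ((cj g Y : Subgroup G) : Set G) := by
  rw [normalizer_cj]
  have h1 : cj g T = T := cj_eq_of_mem_normalizer hg
  rw [← h1]
  exact cj_mono hTY

/-- `N_G(T)` normalizes the largest `T`-invariant `p'`-subgroup -/
theorem normalizer_le_normalizer_of_forall [Finite G] (p : ℕ) {T K : Subgroup G}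
    (hTK : T ≤ normalizer (K : Set G)) (hKp : ¬ p ∣ Nat.card K)
    (hK : ∀ Y : Subgroup G, T ≤ normalizer (Y : Set G) → ¬ p ∣ Nat.card Y → Y ≤ K) :
    normalizer (T : Set G) ≤ normalizer (K : Set G) := by
  intro g hg
  have h1 : cj g K ≤ K := hK _ (le_normalizer_cj hg hTK) (by rw [card_cj]; exact hKp)
  have h2 : cj g K = K := Subgroup.eq_of_le_of_card_ge h1 (by rw [card_cj])
  rw [Subgroup.mem_normalizer_iff]
  intro x
  constructor
  · intro hx
    rw [← h2]
    exact ⟨x, hx, rfl⟩
  · intro hx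
    rw [← h2] at hx
    obtain ⟨y, hy, hyx⟩ := hx
    have : y = x := by
      have h3 : g * y * g⁻¹ = g * x * g⁻¹ := hyx
      exact mul_left_cancel (mul_right_cancel h3)
    rwa [← this]

/-! ### relative Sylow subgroups -/

theorem card_eq_of_isSylowIn [Finite G] {p : ℕ} [Fact p.Prime] {T H : Subgroup G} (h : IsSylowIn p T H) :
    Nat.card T = p ^ (Nat.card H).factorization p := by
  have h1 := h.toSylow.card_eq_multiplicity
  rw [h.coe_toSylow, card_subgroupOf_of_le h.le] at h1
  exact h1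

theorem card_le_of_isPGroup [Finite G] {p : ℕ} [Fact p.Prime] {Q H : Subgroup G} (hQH : Q ≤ H)
    (hQ : IsPGroup p Q) : Nat.card Q ≤ p ^ (Nat.card H).factorization p := by
  have hp : p.Prime := Fact.out
  obtain ⟨k, hk⟩ := IsPGroup.iff_card.mp hQ
  have hdvd : p ^ k ∣ Nat.card H := hk ▸ Subgroup.card_dvd_of_le hQH
  have hk' : k ≤ (Nat.card H).factorization p :=
    (hp.pow_dvd_iff_le_factorization Nat.card_pos.ne').mp hdvd
  rw [hk]
  exact Nat.pow_le_pow_right hp.pos hk'

/-- a Sylow subgroup of `M` whose normalizer lies in `M` is a Sylow subgroup of `G` -/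
theorem exists_sylow_eq_of_normalizer_le [Finite G] {p : ℕ} [Fact p.Prime] {P M : Subgroup G}
    (hP : IsSylowIn p P M) (hN : normalizer (P : Set G) ≤ M) : ∃ S : Sylow p G, (S : Subgroup G) = P := by
  have hp : p.Prime := Fact.out
  obtain ⟨S, hS⟩ := hP.isPGroup.exists_le_sylow
  refine ⟨S, ?_⟩
  by_contra hne
  have hne' : ¬ (S : Subgroup G) ≤ P := fun hle => hne (le_antisymm hle hS)
  apply normalizer_growth hp S.isPGroup' hS hne'
  have h1 : normalizer (P : Set G) ⊓ (S : Subgroup G) ≤ M := inf_le_left.trans hN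
  have h2 : IsPGroup p ↥(normalizer (P : Set G) ⊓ (S : Subgroup G)) := S.isPGroup'.to_le inf_le_right
  have h3 : P ≤ normalizer (P : Set G) ⊓ (S : Subgroup G) := le_inf le_normalizer hS
  exact (hP.eq_of_le h3 h1 h2).le

end Cfsg.Agent.Lib.Helper22_Uniq
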