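import Cfsg.Agent.Lib.Helper22_Uniq
import Cfsg.Agent.Lib.Helper49_Puig
import Cfsg.Agent.Lib.Helper49_Puig2
import Cfsg.Agent.S1466
import Cfsg.Agent.S1469

/-!
Relative form of Puig's factorisation (helper22): for a solvable subgroup `X` of odd order of `G` and a Sylow
`p`-subgroup `R` of `X`, `p` odd, `X = O_{p'}(X) N_X(Z(L(R)))`, with `Z(L(R))` computed inside `G`.
-/

set_option autoImplicit false

namespace Cfsg.Agent.Lib.Helper22_Uniq

open Subgroup Cfsg Cfsg.Agent.Lib.Helper22_Radical Cfsg.Agent.Lib.Helper22_BGTrans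
  Cfsg.Agent.Lib.Helper84_RelSylow Cfsg.Agent.Lib.Helper24_CoprimeAction Cfsg.Agent.Lib.Helper49_Puig

universe u

variable {G : Type u} [Group G]

/-- `Z(L(R))` inside `G` -/
def zl (R : Subgroup G) : Subgroup G := up R ⊓ centralizer ((up R : Subgroup G) : Set G)

theorem zl_le (R : Subgroup G) : zl R ≤ R := inf_le_left.trans (up_le R)

theorem normalizer_le_normalizer_zl [Finite G] (R : Subgroup G) :
    normalizer (R : Set G) ≤ normalizer ((zl R : Subgroup G) : Set G) :=
  (normalizer_le_normalizer_up R).trans (normalizer_le_normalizer_inf_centralizer _)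

theorem zl_ne_bot [Finite G] {p : ℕ} [Fact p.Prime] {R : Subgroup G} (hR : IsPGroup p R) (hR1 : R ≠ ⊥) :
    zl R ≠ ⊥ := by
  have hnt : Nontrivial ↥R := (Subgroup.nontrivial_iff_ne_bot R).mpr hR1
  have h66 := (Cfsg.Agent.S1466.result (R := ↥R) p hR).2.2.1
  have hcn : Nontrivial ↥(Subgroup.center ↥R) := IsPGroup.center_nontrivial hR
  obtain ⟨⟨z, hz⟩, hz1⟩ := exists_ne (1 : ↥(Subgroup.center ↥R))
  have hz1' : (z : G) ≠ 1 := by
    intro h
    apply hz1
    apply Subtype.ext
    apply Subtype.ext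
    exact h
  have hzL : z ∈ Cfsg.puigSubgroup ↥R := h66.2 (h66.1 hz)
  have hzup : (z : G) ∈ up R := ⟨z, hzL, rfl⟩
  have hzc : (z : G) ∈ centralizer ((up R : Subgroup G) : Set G) := by
    rw [Subgroup.mem_centralizer_iff]
    rintro _ ⟨y, _, rfl⟩
    have := Subgroup.mem_center_iff.mp hz y
    exact congrArg Subtype.val this
  intro hbot
  have : (z : G) ∈ zl R := Subgroup.mem_inf.mpr ⟨hzup, hzc⟩
  rw [hbot, Subgroup.mem_bot] at this
  exact hz1' this

/-- the image of `Z(L(S))` for a Sylow subgroup `S` of the subgroup `X` -/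
theorem map_zl_sylow [Finite G] {p : ℕ} (X : Subgroup G) (S : Sylow p ↥X) :
    (up (S : Subgroup ↥X) ⊓ centralizer ((up (S : Subgroup ↥X) : Subgroup ↥X) : Set ↥X)).map X.subtype =
      zl (sylowImage S) := by
  have hinj : ∀ x ∈ (S : Subgroup ↥X), X.subtype x = 1 → x = 1 := by
    intro x _ hx
    exact Subtype.ext hx
  rw [map_inf_centralizer_of_injOn X.subtype (S : Subgroup ↥X) _ (up_le _) hinj,
    map_up_of_injOn X.subtype _ hinj]
  rfl

/-- **Puig's factorisation, relative form.** -/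
theorem le_opp_sup_normalizer_zl [Finite G] {p : ℕ} [Fact p.Prime] (hp : p ≠ 2) (X : Subgroup G)
    (hXs : Group.IsSolvable ↥X) (hodd : Odd (Nat.card ↥X)) (S : Sylow p ↥X) :
    X ≤ opp p X ⊔ (X ⊓ normalizer ((zl (sylowImage S) : Subgroup G) : Set G)) := by
  have h := Cfsg.Agent.S1469.sup_normalizer_eq_top hodd p hp S
  have h1 : (⊤ : Subgroup ↥X).map X.subtype = X := by
    rw [← MonoidHom.range_eq_map, Subgroup.range_subtype]
  rw [← h, Subgroup.map_sup] at h1
  refine h1.ge.trans ?_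
  refine sup_le_sup le_rfl ?_
  refine le_inf (Subgroup.map_subtype_le _) ?_
  have h2 := Subgroup.le_normalizer_map (H := up (S : Subgroup ↥X) ⊓
    centralizer ((up (S : Subgroup ↥X) : Subgroup ↥X) : Set ↥X)) X.subtype
  rw [map_zl_sylow] at h2
  exact h2

theorem le_normalizer_zl_of_core_bot [Finite G] {p : ℕ} [Fact p.Prime] (hp : p ≠ 2) (X : Subgroup G)
    (hXs : Group.IsSolvable ↥X) (hodd : Odd (Nat.card ↥X)) (S : Sylow p ↥X) (hO : opp p X = ⊥) :
    X ≤ normalizer ((zl (sylowImage S) : Subgroup G) : Set G) := by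
  have h := le_opp_sup_normalizer_zl hp X hXs hodd S
  rw [hO, bot_sup_eq] at h
  exact h.trans inf_le_right

end Cfsg.Agent.Lib.Helper22_Uniq
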