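import Cfsg.Agent.Lib.Helper22_Uniq2
import Cfsg.Agent.Lib.Helper22_InvariantCore
import Cfsg.Agent.Lib.Helper31_AG
import Cfsg.Agent.S0608
import Cfsg.Agent.S1450
import Cfsg.Agent.S1457

/-!
More lemmas for the uniqueness theorems (helper22): relative Sylow forms of Puig's factorisation,
Sylow-invariant `p'`-subgroups, the Frattini argument for `P ∩ O_{p',p}(X)`.
-/

set_option autoImplicit false

namespace Cfsg.Agent.Lib.Helper22_Uniq

open Subgroup Cfsg Cfsg.Agent.Lib.Helper22_Radical Cfsg.Agent.Lib.Helper22_BGTrans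
  Cfsg.Agent.Lib.Helper84_RelSylow Cfsg.Agent.Lib.Helper24_CoprimeAction Cfsg.Agent.Lib.Helper49_Puig

universe u

variable {G : Type u} [Group G]

theorem sylowImage_toSylow {p : ℕ} [Fact p.Prime] {R X : Subgroup G} (h : IsSylowIn p R X) :
    sylowImage h.toSylow = R := by
  show (h.toSylow : Subgroup ↥X).map X.subtype = R
  rw [h.coe_toSylow, Subgroup.map_subgroupOf_eq_of_le h.le]

/-- **Puig's factorisation** for a relative Sylow subgroup. -/
theorem puig_rel [Finite G] {p : ℕ} [Fact p.Prime] (hp : p ≠ 2) {R X : Subgroup G}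
    (hXs : Group.IsSolvable ↥X) (hodd : Odd (Nat.card ↥X)) (hR : IsSylowIn p R X) :
    X ≤ opp p X ⊔ (X ⊓ normalizer ((zl R : Subgroup G) : Set G)) := by
  have h := le_opp_sup_normalizer_zl hp X hXs hodd hR.toSylow
  rwa [sylowImage_toSylow] at h

theorem puig_rel_bot [Finite G] {p : ℕ} [Fact p.Prime] (hp : p ≠ 2) {R X : Subgroup G}
    (hXs : Group.IsSolvable ↥X) (hodd : Odd (Nat.card ↥X)) (hR : IsSylowIn p R X) (hO : opp p X = ⊥) :
    X ≤ normalizer ((zl R : Subgroup G) : Set G) := by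
  have h := le_normalizer_zl_of_core_bot hp X hXs hodd hR.toSylow hO
  rwa [sylowImage_toSylow] at h

/-- a `p'`-subgroup of a solvable group `M` normalized by a Sylow `p`-subgroup of `M` lies in `O_{p'}(M)` -/
theorem le_opp_of_sylow_invariant [Finite G] {p : ℕ} [Fact p.Prime] (hp : p ≠ 2) {P M Y : Subgroup G}
    (hMs : Group.IsSolvable ↥M) (hP : IsSylowIn p P M) (hYM : Y ≤ M) (hY : ¬ p ∣ Nat.card Y)
    (hPY : P ≤ normalizer (Y : Set G)) : Y ≤ opp p M := by
  have hpp : p.Prime := Fact.out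
  have hcon : IsPConstrained p ↥M := by
    rw [Cfsg.Agent.Lib.Helper23_PConstrained.isPConstrained_iff_pLayer_eq_bot]
    exact Cfsg.Agent.Lib.Helper22_CoreCentralizer.pLayer_eq_bot_of_isSolvable p
  have hA'p : IsPGroup p (P.subgroupOf M) := hP.isPGroup.comap_subtype
  have hΩ' : ∀ x ∈ centralizer ((P.subgroupOf M : Subgroup ↥M) : Set ↥M), orderOf x = p →
      x ∈ P.subgroupOf M := by
    intro x hx hxo
    rw [mem_subgroupOf]
    have hxo' : orderOf (x : G) = p := by rw [Subgroup.orderOf_coe]; exact hxo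
    have hxpg : IsPGroup p (zpowers (x : G)) := by
      apply IsPGroup.of_card (n := 1)
      rw [Nat.card_zpowers, hxo', pow_one]
    have hxN : (x : G) ∈ normalizer (P : Set G) := by
      apply centralizer_le_normalizer
      rw [mem_centralizer_iff] at hx ⊢
      intro b hb
      have := hx ⟨b, hP.le hb⟩ (by rw [SetLike.mem_coe, mem_subgroupOf]; exact hb)
      exact congrArg Subtype.val this
    have hzN : zpowers (x : G) ≤ normalizer (P : Set G) := by rw [zpowers_le]; exact hxN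
    have hT : IsPGroup p (zpowers (x : G) ⊔ P : Subgroup G) :=
      hxpg.to_sup_of_normal_right' hP.isPGroup hzN
    have hTM : zpowers (x : G) ⊔ P ≤ M := sup_le (by rw [zpowers_le]; exact x.2) hP.le
    have := hP.eq_of_le le_sup_right hTM hT
    rw [← this]
    exact mem_sup_left (mem_zpowers _)
  have hQ' : ¬ p ∣ Nat.card (Y.subgroupOf M) := by
    rw [card_subgroupOf_of_le hYM]; exact hY
  have hAQ' : P.subgroupOf M ≤ normalizer ((Y.subgroupOf M : Subgroup ↥M) : Set ↥M) := by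
    intro b hb
    rw [mem_subgroupOf] at hb
    exact Cfsg.Agent.Lib.Helper22_CoreCentralizer.mem_normalizer_subgroupOf b (hPY hb)
  have key := Cfsg.Agent.Lib.Helper22_PConstrainedInv.le_pPrimeCore_of_invariant p hp hcon
    (P.subgroupOf M) hA'p hΩ' (Y.subgroupOf M) hQ' hAQ'
  have := Subgroup.map_mono (f := M.subtype) key
  rwa [Subgroup.map_subgroupOf_eq_of_le hYM] at this

/-! ### `O_{p',p}(X)` and the Frattini argument -/

/-- `O_{p',p}(X)` for a subgroup `X` of `G`, inside `G` -/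
def oppp (p : ℕ) (X : Subgroup G) : Subgroup G := (pPrimePCore p ↥X).map X.subtype

theorem oppp_le (p : ℕ) (X : Subgroup G) : oppp p X ≤ X := Subgroup.map_subtype_le _

theorem map_sylow_inf_oppp {p : ℕ} [Fact p.Prime] {P X : Subgroup G} (hP : IsSylowIn p P X) :
    ((hP.toSylow : Subgroup ↥X) ⊓ pPrimePCore p ↥X).map X.subtype = P ⊓ oppp p X := by
  rw [Subgroup.map_inf _ _ X.subtype X.subtype_injective]
  have h := sylowImage_toSylow hP
  unfold sylowImage at h
  rw [h]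
  rfl

/-- **Frattini argument**: `X = O_{p'}(X) N_X(P ∩ O_{p',p}(X))`. -/
theorem frattini_oppp [Finite G] {p : ℕ} [Fact p.Prime] {P X : Subgroup G} (hP : IsSylowIn p P X) :
    X ≤ opp p X ⊔ (X ⊓ normalizer ((P ⊓ oppp p X : Subgroup G) : Set G)) := by
  intro g hg
  obtain ⟨c, hc, n, hn, hgcn⟩ := Cfsg.Agent.S0608.frattini_inf hP.toSylow (pPrimePCore p ↥X) (⟨g, hg⟩ : ↥X)
  obtain ⟨w, hw, q, hq, hcwq⟩ := Cfsg.Agent.Lib.Helper31_AG.exists_mul_of_mem_pPrimePCore hP.toSylow hc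
  have hqn : q * n ∈ normalizer ((((hP.toSylow : Subgroup ↥X) ⊓ pPrimePCore p ↥X : Subgroup ↥X)) : Set ↥X) :=
    mul_mem (le_normalizer hq) hn
  have h2 := Subgroup.le_normalizer_map (H := (hP.toSylow : Subgroup ↥X) ⊓ pPrimePCore p ↥X) X.subtype
  rw [map_sylow_inf_oppp hP] at h2
  have h3 : ((q * n : ↥X) : G) ∈ normalizer ((P ⊓ oppp p X : Subgroup G) : Set G) :=
    h2 ⟨q * n, hqn, rfl⟩
  have e : g = (w : G) * ((q * n : ↥X) : G) := by
    have h4 : (⟨g, hg⟩ : ↥X) = w * (q * n) := by rw [hgcn, hcwq, mul_assoc]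
    exact congrArg Subtype.val h4
  rw [e]
  refine mul_mem (mem_sup_left ⟨w, hw, rfl⟩) (mem_sup_right (mem_inf.mpr ⟨(q * n).2, h3⟩))

/-- a normal abelian subgroup of a Sylow `p`-subgroup of a solvable group `X` of odd order lies in `O_{p',p}(X)` -/
theorem le_oppp_of_abelian_normal [Finite G] {p : ℕ} [Fact p.Prime] {P X A : Subgroup G}
    (hXs : Group.IsSolvable ↥X) (hodd : Odd (Nat.card ↥X)) (hP : IsSylowIn p P X) (hAP : A ≤ P)
    (hAc : IsMulCommutative A) (hPA : P ≤ normalizer (A : Set G)) : A ≤ oppp p X := by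
  have hAX : A ≤ X := hAP.trans hP.le
  have h1 : A.subgroupOf X ≤ (hP.toSylow : Subgroup ↥X) := by
    intro x hx
    rw [mem_subgroupOf] at hx
    exact (hP.mem_toSylow x).mpr (hAP hx)
  have h2 : IsMulCommutative ↥(A.subgroupOf X) := by
    refine ⟨⟨fun a b => ?_⟩⟩
    apply Subtype.ext
    apply Subtype.ext
    have ha : ((a : ↥X) : G) ∈ A := mem_subgroupOf.mp a.2
    have hb : ((b : ↥X) : G) ∈ A := mem_subgroupOf.mp b.2
    have h3 : (⟨_, ha⟩ : A) * ⟨_, hb⟩ = ⟨_, hb⟩ * ⟨_, ha⟩ := isMulCommutative_iff.mp hAc _ _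
    have h4 : ((a : ↥X) : G) * ((b : ↥X) : G) = ((b : ↥X) : G) * ((a : ↥X) : G) := congrArg Subtype.val h3
    simpa using h4
  have h3 : (hP.toSylow : Subgroup ↥X) ≤ normalizer ((A.subgroupOf X : Subgroup ↥X) : Set ↥X) := by
    intro b hb
    have hb' := (hP.mem_toSylow b).mp hb
    exact Cfsg.Agent.Lib.Helper22_CoreCentralizer.mem_normalizer_subgroupOf b (hPA hb')
  have key := Cfsg.Agent.S1457.result hodd p hP.toSylow (A.subgroupOf X) h1 h2 h3
  have := Subgroup.map_mono (f := X.subtype) key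
  rwa [Subgroup.map_subgroupOf_eq_of_le hAX] at this

/-- `p`-rank at most two forces `p`-length one: `X = O_{p'}(X) N_X(P)`. -/
theorem le_opp_sup_normalizer_of_pRankLE [Finite G] {p : ℕ} [Fact p.Prime] {P X : Subgroup G}
    (hXs : Group.IsSolvable ↥X) (hodd : Odd (Nat.card ↥X)) (hP : IsSylowIn p P X) (hP1 : P ≠ ⊥)
    (hr : PRankLE p 2 ↥X) : X ≤ opp p X ⊔ (X ⊓ normalizer (P : Set G)) := by
  have hpp : p.Prime := Fact.out
  have hpX : p ∣ Nat.card ↥X := by
    obtain ⟨k, hk⟩ := IsPGroup.iff_card.mp hP.isPGroup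
    have hk0 : k ≠ 0 := by
      rintro rfl
      rw [pow_zero] at hk
      exact hP1 ((Subgroup.card_eq_one).mp hk)
    have h1 : p ∣ Nat.card P := by rw [hk]; exact dvd_pow_self p hk0
    exact h1.trans (Subgroup.card_dvd_of_le hP.le)
  have hidx := (Cfsg.Agent.S1450.result hodd p hpX hr).2.2.2.2.2
  have hPle : P ≤ oppp p X := by
    intro x hx
    have hxX : x ∈ X := hP.le hx
    refine ⟨⟨x, hxX⟩, ?_, rfl⟩
    have : (pPrimePCore p ↥X).Normal := by
      unfold pPrimePCore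
      exact Subgroup.Normal.comap inferInstance _
    rw [SetLike.mem_coe, ← QuotientGroup.eq_one_iff]
    obtain ⟨k, hk⟩ := hP.isPGroup ⟨x, hx⟩
    have hk' : x ^ (p ^ k) = 1 := by
      have := congrArg Subtype.val hk
      simpa using this
    have h1 : ((⟨x, hxX⟩ : ↥X) : ↥X ⧸ pPrimePCore p ↥X) ^ (p ^ k) = 1 := by
      rw [← QuotientGroup.mk_pow]
      have : (⟨x, hxX⟩ : ↥X) ^ (p ^ k) = 1 := by
        apply Subtype.ext
        rw [Subgroup.coe_pow]
        exact hk'
      rw [this]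
      rfl
    have h2 : orderOf ((⟨x, hxX⟩ : ↥X) : ↥X ⧸ pPrimePCore p ↥X) ∣ p ^ k := orderOf_dvd_of_pow_eq_one h1
    have h3 : orderOf ((⟨x, hxX⟩ : ↥X) : ↥X ⧸ pPrimePCore p ↥X) ∣ (pPrimePCore p ↥X).index := by
      rw [Subgroup.index_eq_card]
      exact orderOf_dvd_natCard _
    have h4 : orderOf ((⟨x, hxX⟩ : ↥X) : ↥X ⧸ pPrimePCore p ↥X) = 1 :=
      Nat.eq_one_of_dvd_coprimes (Nat.Coprime.pow_right k hidx) h3 h2
    exact orderOf_eq_one_iff.mp h4
  have h := frattini_oppp hP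
  rwa [inf_eq_left.mpr hPle] at h

end Cfsg.Agent.Lib.Helper22_Uniq
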