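import Cfsg.Agent.Lib.Helper22_Uniq3
import Cfsg.Agent.Lib.Helper22_BGTransRank
import Cfsg.Agent.Lib.Helper22_BGTransUp
import Cfsg.Agent.Lib.Helper20_PGroupOdd
import Cfsg.Agent.Lib.Helper2_PRank
import Cfsg.Agent.S1396
import Cfsg.Agent.S1452

/-!
Rank lemmas and the transitivity argument for the uniqueness theorems (helper22).

* `pRankLE_of_sylow`: the `p`-rank of `X` is that of a Sylow `p`-subgroup;
* `exists_scn3`: a `p`-group of rank at least three, `p` odd, has a normal self-centralizing subgroup of rank at least three;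
* `le_of_scn3_invariant`: if `A ∈ SCN_3(S)`, `S` a Sylow `p`-subgroup of `G`, and `K` contains every `S`-invariant
  `p'`-subgroup of `G`, then `K` contains every `A`-invariant `p'`-subgroup of `G`.
-/

set_option autoImplicit false

namespace Cfsg.Agent.Lib.Helper22_Uniq

open Subgroup Cfsg Cfsg.Agent.Lib.Helper22_Radical Cfsg.Agent.Lib.Helper22_BGTrans
  Cfsg.Agent.Lib.Helper84_RelSylow Cfsg.Agent.Lib.Helper24_CoprimeAction

universe u

variable {G : Type u} [Group G]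

/-- the `p`-rank of `X` is bounded by that of a Sylow `p`-subgroup -/
theorem pRankLE_of_sylow [Finite G] {p : ℕ} [Fact p.Prime] {k : ℕ} {P X : Subgroup G}
    (hP : IsSylowIn p P X) (hr : PRankLE p k ↥P) : PRankLE p k ↥X := by
  intro E hEc hEe
  have hE'p : IsPGroup p ↥(E.map X.subtype) := by
    have : IsPGroup p ↥E := by
      intro b
      refine ⟨1, ?_⟩
      apply Subtype.ext
      rw [pow_one, Subgroup.coe_pow]
      exact hEe b.1 b.2
    exact this.map _
  obtain ⟨g, hgX, hg⟩ := hP.exists_conj_le (K := E.map X.subtype) (Subgroup.map_subtype_le _) hE'p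
  let ψ : ↥E →* G := (MulAut.conj g).toMonoidHom.comp (X.subtype.comp E.subtype)
  have hψP : ∀ x : ↥E, ψ x ∈ P := by
    intro x
    exact hg _ ⟨x.1, x.2, rfl⟩
  let φ : ↥E →* ↥P := ψ.codRestrict P hψP
  have hφinj : Function.Injective φ := by
    intro a b hab
    have h1 : ψ a = ψ b := congrArg Subtype.val hab
    have h2 : g * ((a : ↥X) : G) * g⁻¹ = g * ((b : ↥X) : G) * g⁻¹ := h1
    have h3 : ((a : ↥X) : G) = ((b : ↥X) : G) := mul_left_cancel (mul_right_cancel h2)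
    exact Subtype.ext (Subtype.ext h3)
  have hcard : Nat.card ↥φ.range = Nat.card ↥E :=
    (Nat.card_congr (MonoidHom.ofInjective hφinj).toEquiv).symm
  have hcomm : IsMulCommutative ↥φ.range := by
    refine ⟨⟨?_⟩⟩
    rintro ⟨_, a, rfl⟩ ⟨_, b, rfl⟩
    apply Subtype.ext
    show φ a * φ b = φ b * φ a
    rw [← map_mul, ← map_mul, isMulCommutative_iff.mp hEc a b]
  have hexp : ∀ x ∈ φ.range, x ^ p = 1 := by
    rintro _ ⟨a, rfl⟩
    rw [← map_pow]
    have : a ^ p = 1 := by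
      apply Subtype.ext
      rw [Subgroup.coe_pow]
      exact hEe a.1 a.2
    rw [this, map_one]
  have := hr φ.range hcomm hexp
  rwa [hcard] at this

/-- an elementary abelian cyclic group has order at most `p` -/
theorem card_le_of_isCyclic {H : Type*} [Group H] [Finite H] {p : ℕ} [Fact p.Prime] (hc : IsCyclic H)
    (he : ∀ x : H, x ^ p = 1) : Nat.card H ≤ p := by
  have hp : p.Prime := Fact.out
  obtain ⟨g, hg⟩ := hc.exists_generator
  have h1 : orderOf g = Nat.card H := orderOf_eq_card_of_forall_mem_zpowers hg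
  rw [← h1]
  exact Nat.le_of_dvd hp.pos (orderOf_dvd_of_pow_eq_one (he g))

/-- **Existence of `SCN_3`.** -/
theorem exists_scn3 [Finite G] {p : ℕ} [Fact p.Prime] (hp : p ≠ 2) {P : Subgroup G} (hP : IsPGroup p P)
    (hr : ¬ PRankLE p 2 ↥P) : ∃ A : Subgroup G, IsSCN P A ∧ ¬ PRankLE p 2 ↥A := by
  have hpp : p.Prime := Fact.out
  have hnc : ¬ IsCyclic ↥(⊤ : Subgroup ↥P) := by
    intro hc
    apply hr
    have hcP : IsCyclic ↥P := by
      have e : ↥(⊤ : Subgroup ↥P) ≃* ↥P := Subgroup.topEquiv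
      exact isCyclic_of_surjective e e.surjective
    intro E _ hEe
    have hcE : IsCyclic ↥E := inferInstance
    have h1 : Nat.card ↥E ≤ p := card_le_of_isCyclic hcE (fun x => by
      apply Subtype.ext
      rw [Subgroup.coe_pow]
      exact hEe x.1 x.2)
    have h2 : p ≤ p ^ 2 := by nlinarith [hpp.one_lt]
    omega
  obtain ⟨E₀, -, hE₀n, hE₀c, hE₀e, hE₀2⟩ :=
    Cfsg.Agent.Lib.Helper20_PGroupOdd.exists_normal_rank_two hp hP (⊤ : Subgroup ↥P) hnc
  have hE₀ : IsElementaryAbelian p E₀ := by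
    refine ⟨⟨⟨fun a b => ?_⟩⟩, hE₀e⟩
    apply Subtype.ext
    exact hE₀c a.1 a.2 b.1 b.2
  obtain ⟨A', -, hA'n, hA'c, hA'r⟩ := Cfsg.Agent.S1452.result p hp hP hr E₀ hE₀ hE₀2
  refine ⟨A'.map P.subtype, ⟨Subgroup.map_subtype_le _, ?_, ?_⟩, ?_⟩
  · have h1 := Subgroup.le_normalizer_map (H := A') P.subtype
    rw [Subgroup.normalizer_eq_top, ← MonoidHom.range_eq_map, Subgroup.range_subtype] at h1
    exact h1
  · apply le_antisymm
    · intro x hx
      obtain ⟨hxP, hxC⟩ := Subgroup.mem_inf.mp hx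
      have hmem : (⟨x, hxP⟩ : ↥P) ∈ centralizer (A' : Set ↥P) := by
        rw [Subgroup.mem_centralizer_iff]
        intro y hy
        apply Subtype.ext
        exact Subgroup.mem_centralizer_iff.mp hxC (y : G) ⟨y, hy, rfl⟩
      rw [hA'c] at hmem
      exact ⟨⟨x, hxP⟩, hmem, rfl⟩
    · refine le_inf (Subgroup.map_subtype_le _) ?_
      rintro _ ⟨x, hx, rfl⟩
      rw [Subgroup.mem_centralizer_iff]
      rintro _ ⟨y, hy, rfl⟩
      have hx' : x ∈ centralizer (A' : Set ↥P) := by rw [hA'c]; exact hx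
      have := Subgroup.mem_centralizer_iff.mp hx' y hy
      exact congrArg Subtype.val this
  · intro h
    apply hA'r
    exact Cfsg.Agent.Lib.Helper2_PRank.pRankLE_of_injective' p 2
      (A'.equivMapOfInjective P.subtype P.subtype_injective).toMonoidHom
      (A'.equivMapOfInjective P.subtype P.subtype_injective).injective h

/-! ### the transitivity argument -/

theorem pRankLE_mono {H : Type*} [Group H] {p k l : ℕ} (hp : p.Prime) (hkl : k ≤ l) (h : PRankLE p k H) :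
    PRankLE p l H := by
  intro E hEc hEe
  exact (h E hEc hEe).trans (Nat.pow_le_pow_right hp.pos hkl)

theorem ne_bot_of_not_pRankLE {p k : ℕ} (hp : p.Prime) {A : Subgroup G} (h : ¬ PRankLE p k ↥A) : A ≠ ⊥ := by
  rintro rfl
  apply h
  intro E _ _
  have : Nat.card E = 1 := by
    have hsub : Subsingleton ↥(⊥ : Subgroup G) := inferInstance
    have : Subsingleton E := ⟨fun a b => Subtype.ext (Subsingleton.elim _ _)⟩
    exact Nat.card_eq_one_iff_unique.mpr ⟨this, ⟨1⟩⟩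
  rw [this]
  exact Nat.one_le_pow _ _ hp.pos

theorem isMulCommutative_of_isSCN {P A : Subgroup G} (h : IsSCN P A) : IsMulCommutative ↥A := by
  refine ⟨⟨fun a b => ?_⟩⟩
  apply Subtype.ext
  have hb : (b : G) ∈ P ⊓ centralizer (A : Set G) := by rw [h.2.2]; exact b.2
  exact (Subgroup.mem_centralizer_iff.mp hb.2 (a : G) a.2)

/-- **Transitivity argument.** If `A ∈ SCN_3(S)` for a Sylow `p`-subgroup `S` of `G`, and `K` contains every
`S`-invariant `p'`-subgroup of `G`, then `K` contains every `A`-invariant `q`-subgroup of `G`, `q ≠ p`. -/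
theorem le_of_scn3_invariant [Finite G] (hG : IsMinSimpleOddOrder G) {p : ℕ} [Fact p.Prime] (S : Sylow p G)
    {A K : Subgroup G} (hA : IsSCN (S : Subgroup G) A) (hA3 : ¬ PRankLE p 2 ↥A)
    (hK : ∀ Y : Subgroup G, (S : Subgroup G) ≤ normalizer (Y : Set G) → ¬ p ∣ Nat.card Y → Y ≤ K) :
    ∀ q : ℕ, q.Prime → q ≠ p → ∀ Y : Subgroup G, IsPGroup q Y → A ≤ normalizer (Y : Set G) → Y ≤ K := by
  have hpp : p.Prime := Fact.out
  have hAc : IsMulCommutative ↥A := isMulCommutative_of_isSCN hA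
  have hAp : IsPGroup p ↥A := S.isPGroup'.to_le hA.1
  have hAbot : A ≠ ⊥ := ne_bot_of_not_pRankLE hpp hA3
  obtain ⟨k, hk⟩ := IsPGroup.iff_card.mp hAp
  have hk0 : k ≠ 0 := by
    rintro rfl
    rw [pow_zero] at hk
    exact hAbot ((Subgroup.card_eq_one).mp hk)
  have hpA : p ∣ Nat.card A := by rw [hk]; exact dvd_pow_self p hk0
  have hpG : p ∣ Nat.card G := hpA.trans (Subgroup.card_subgroup_dvd_card A)
  have hr1 : ¬ PRankLE p 1 ↥A := fun h => hA3 (pRankLE_mono hpp (by norm_num) h)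
  have hTH : TransitivityHypothesis A := Cfsg.Agent.S1396.result hG p hpG A hAp hAc (Or.inr ⟨S, hA, hr1⟩)
  have hAle : A ≤ centralizer (A : Set G) := by
    intro a ha
    rw [Subgroup.mem_centralizer_iff]
    intro b hb
    have := isMulCommutative_iff.mp hAc ⟨b, hb⟩ ⟨a, ha⟩
    exact congrArg Subtype.val this
  have hZ : ¬ RankLE 2 ↥(A ⊓ centralizer (A : Set G)) := by
    intro h
    have h1 := h p hpp
    rw [inf_eq_left.mpr hAle] at h1
    exact hA3 h1
  have hSne : (S : Subgroup G) ≠ ⊤ := ne_top_of_isPGroup hG hpp S.isPGroup'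
  have hSπ : ∀ r : ℕ, r.Prime → r ∣ Nat.card (S : Subgroup G) → r ∣ Nat.card A := by
    intro r hr hrd
    obtain ⟨n, hn⟩ := IsPGroup.iff_card.mp S.isPGroup'
    rw [hn] at hrd
    have : r = p := (Nat.prime_dvd_prime_iff_eq hr hpp).mp (hr.dvd_of_dvd_pow hrd)
    rw [this]
    exact hpA
  have hsn : (A.subgroupOf (S : Subgroup G)).IsSubnormal :=
    ((normal_subgroupOf_iff_le_normalizer hA.1).mpr hA.2.1).isSubnormal
  have hkOf : kOf A ≤ K := by
    apply hK
    · exact hA.2.1.trans (Cfsg.Agent.Lib.Helper22_BGTransUp.normalizer_le_normalizer_piCoreOf_centralizer _ A)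
    · intro hd
      exact (piCoreOf_primes _ _ p hpp hd).2 hpA
  intro q hq hqp Y hYq hAY
  have : Fact q.Prime := ⟨hq⟩
  have hqA : ¬ q ∣ Nat.card A := by
    rw [hk]
    intro hd
    exact hqp ((Nat.prime_dvd_prime_iff_eq hq hpp).mp (hq.dvd_of_dvd_pow hd))
  have htr : ∀ Q₁ ∈ maxInvSubgroups ⊤ A {q}, ∀ Q₂ ∈ maxInvSubgroups ⊤ A {q}, KConj (kOf A) Q₁ Q₂ :=
    fun Q₁ h₁ Q₂ h₂ => Cfsg.Agent.Lib.Helper22_BGTransRank.conj_of_rank_three hG hTH hZ hq hqA h₁ h₂
  have hup := Cfsg.Agent.Lib.Helper22_BGTransUp.transitivity_up hG hTH hq hqA hSπ hA.1 hsn htr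
  have hbotq : IsPGroup q ↥(⊥ : Subgroup G) := IsPGroup.of_bot
  have hSbot : (S : Subgroup G) ≤ normalizer (((⊥ : Subgroup G) : Subgroup G) : Set G) := by
    rw [Subgroup.normalizer_eq_top_iff.mpr inferInstance]
    exact le_top
  obtain ⟨Q₂, hQ₂, -⟩ := exists_max_ge (A := (S : Subgroup G)) hq hbotq hSbot
  obtain ⟨Q₁, hQ₁, hYQ₁⟩ := exists_max_ge (A := A) hq hYq hAY
  have hQ₂A : Q₂ ∈ maxInvSubgroups ⊤ A {q} := hup.2.2.1 hQ₂
  obtain ⟨hQ₂q, hSQ₂⟩ := (mem_invSubgroups_top hq).mp hQ₂.1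
  have hQ₂K : Q₂ ≤ K := by
    apply hK _ hSQ₂
    intro hd
    obtain ⟨n, hn⟩ := IsPGroup.iff_card.mp hQ₂q
    rw [hn] at hd
    exact hqp ((Nat.prime_dvd_prime_iff_eq hpp hq).mp (hpp.dvd_of_dvd_pow hd)).symm
  obtain ⟨c, hc, hcQ⟩ := htr Q₂ hQ₂A Q₁ hQ₁
  refine hYQ₁.trans ?_
  rw [hcQ]
  intro x hx
  rw [mem_cj] at hx
  have hcK : c ∈ K := hkOf hc
  have e : x = c * (c⁻¹ * x * c) * c⁻¹ := by group
  rw [e]
  exact K.mul_mem (K.mul_mem hcK (hQ₂K hx)) (K.inv_mem hcK)

end Cfsg.Agent.Lib.Helper22_Uniq
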