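import Mathlib
import Cfsg.Agent.Lib.Helper98_AschDefs
import Cfsg.Agent.Lib.Helper23_FormDefs
import Cfsg.Agent.Lib.Helper4_Asch_PK10
import Cfsg.Agent.Lib.Helper52_Asch_PK7
import Cfsg.Agent.Lib.Helper60_Asch_PK13

/-!
# S5663 package F7u (helper31 for helper97)

A nondegenerate `σ`-sesquilinear form fixed by a spanning group that is written over a subfield `F₁`
is, up to a scalar, rational over `F₁` (sesquilinear copy of `Helper71_AschSp_F7.F7`).
-/

set_option autoImplicit false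
set_option linter.unusedSectionVars false

open Cfsg Cfsg.Geo Matrix Cfsg.Agent.Lib.Helper98_AschDefs Cfsg.Agent.Lib.Helper23_FormDefs
open Cfsg.Agent.Lib.Helper4_Asch_PK10
open scoped Kronecker

namespace Cfsg.Agent.Lib.Helper31_AschSU_F7u

variable {ι : Type} [Fintype ι] [DecidableEq ι] {F : Type*} [Field F]

/-- a sesquilinear form is the twisted Gram pairing of its Gram matrix -/
theorem rep_of_sesq (σ : F ≃+* F) (f : (ι → F) → (ι → F) → F) (hf : IsSesq σ f) :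
    ∀ u v, f u v = rep σ (gram f) u v := by
  apply rep_of σ f hf.add_left hf.smul_left
  intro i v
  have hzero : f (bv i) 0 = 0 := by
    have := hf.smul_right 0 (bv i) 0
    rw [zero_smul, map_zero, zero_mul] at this
    exact this
  let A : (ι → F) →+ F :=
    { toFun := fun x => f (bv i) x
      map_zero' := hzero
      map_add' := fun x y => hf.add_right (bv i) x y }
  have hv : v = ∑ j, v j • (bv j : ι → F) := by
    funext k
    rw [Finset.sum_apply]
    simp [bv]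
  have h1 : f (bv i) v = A (∑ j, v j • (bv j : ι → F)) := by rw [← hv]; rfl
  rw [h1, map_sum]
  refine Finset.sum_congr rfl fun j _ => ?_
  show f (bv i) (v j • bv j) = _
  rw [hf.smul_right, mul_comm]

/-- the Gram matrix of a nondegenerate twisted Gram pairing is invertible -/
theorem isUnit_det_of_nondeg (σ : F ≃+* F) (G : Matrix ι ι F) (f : (ι → F) → (ι → F) → F)
    (hf : ∀ u v, f u v = rep σ G u v) (hnd : IsNondegenerateForm f) :
    IsUnit G.det := by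
  classical
  rw [isUnit_iff_ne_zero]
  intro hdet
  obtain ⟨w, hw0, hw⟩ := (Matrix.exists_mulVec_eq_zero_iff (M := G)).2 hdet
  have hv0 : (fun j => σ.symm (w j)) ≠ 0 := by
    intro h0
    apply hw0
    funext j
    have := congrFun h0 j
    simp only [Pi.zero_apply] at this ⊢
    rw [← σ.apply_symm_apply (w j), this, map_zero]
  obtain ⟨x, hx⟩ := (hnd _ hv0).1
  apply hx
  rw [hf]
  unfold rep
  simp only [RingEquiv.apply_symm_apply]
  rw [hw, dotProduct_zero]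

/-- two twisted Gram matrices invariant under a spanning group are proportional -/
theorem exists_smul_of_invariant (σ : F ≃+* F) (N : Subgroup (GL ι F)) (hspan : spanAlg N = ⊤)
    (G G₂ : Matrix ι ι F) (hG : IsUnit G.det)
    (h1 : ∀ x ∈ N, ((x : GL ι F) : Matrix ι ι F)ᵀ * G * ((x : GL ι F) : Matrix ι ι F).map σ = G)
    (h2 : ∀ x ∈ N, ((x : GL ι F) : Matrix ι ι F)ᵀ * G₂ * ((x : GL ι F) : Matrix ι ι F).map σ = G₂) :
    ∃ c : F, G₂ = c • G := by
  have hGG : G * G⁻¹ = 1 := Matrix.mul_nonsing_inv G hG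
  have hGG' : G⁻¹ * G = 1 := Matrix.nonsing_inv_mul G hG
  -- `A := G₂ * G⁻¹` commutes with all `xᵀ`
  obtain ⟨A, hA⟩ : ∃ A : Matrix ι ι F, A = G₂ * G⁻¹ := ⟨_, rfl⟩
  have hAcomm : ∀ y ∈ N, ((y : GL ι F) : Matrix ι ι F) * Aᵀ = Aᵀ * ((y : GL ι F) : Matrix ι ι F) := by
    intro y hy
    obtain ⟨Y, hY⟩ : ∃ Y : Matrix ι ι F, Y = ((y : GL ι F) : Matrix ι ι F) := ⟨_, rfl⟩
    obtain ⟨Y', hY'⟩ : ∃ Y' : Matrix ι ι F, Y' = ((y⁻¹ : GL ι F) : Matrix ι ι F) := ⟨_, rfl⟩
    have hYY : Y * Y' = 1 := by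
      rw [hY, hY', ← Units.val_mul, mul_inv_cancel, Units.val_one]
    have hYY' : Y' * Y = 1 := by
      rw [hY, hY', ← Units.val_mul, inv_mul_cancel, Units.val_one]
    have hS : Y.map σ * Y'.map σ = 1 := by
      rw [← Matrix.map_mul, hYY, Matrix.map_one _ (map_zero σ) (map_one σ)]
    have e1 : Yᵀ * G * Y.map σ = G := by rw [hY]; exact h1 y hy
    have e2 : Yᵀ * G₂ * Y.map σ = G₂ := by rw [hY]; exact h2 y hy
    have hT : Yᵀ * Y'ᵀ = 1 := by rw [← Matrix.transpose_mul, hYY', Matrix.transpose_one]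
    -- `Yᵀ * G = G * Y'^σ` and `Yᵀ * G₂ = G₂ * Y'^σ`
    have e3 : Yᵀ * G = G * Y'.map σ := by
      calc Yᵀ * G = Yᵀ * G * (Y.map σ * Y'.map σ) := by rw [hS, Matrix.mul_one]
        _ = (Yᵀ * G * Y.map σ) * Y'.map σ := by simp only [Matrix.mul_assoc]
        _ = G * Y'.map σ := by rw [e1]
    have e4 : Yᵀ * G₂ = G₂ * Y'.map σ := by
      calc Yᵀ * G₂ = Yᵀ * G₂ * (Y.map σ * Y'.map σ) := by rw [hS, Matrix.mul_one]
        _ = (Yᵀ * G₂ * Y.map σ) * Y'.map σ := by simp only [Matrix.mul_assoc]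
        _ = G₂ * Y'.map σ := by rw [e2]
    -- `Y'^σ * G⁻¹ = G⁻¹ * Yᵀ`
    have e5 : Y'.map σ * G⁻¹ = G⁻¹ * Yᵀ := by
      calc Y'.map σ * G⁻¹ = G⁻¹ * (G * Y'.map σ) * G⁻¹ := by
            rw [← Matrix.mul_assoc, hGG', Matrix.one_mul]
        _ = G⁻¹ * (Yᵀ * G) * G⁻¹ := by rw [e3]
        _ = G⁻¹ * Yᵀ := by
            rw [Matrix.mul_assoc, Matrix.mul_assoc, hGG, Matrix.mul_one]
    have hc : Yᵀ * A = A * Yᵀ := by
      calc Yᵀ * A = (Yᵀ * G₂) * G⁻¹ := by rw [hA, Matrix.mul_assoc]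
        _ = G₂ * (Y'.map σ * G⁻¹) := by rw [e4, Matrix.mul_assoc]
        _ = G₂ * (G⁻¹ * Yᵀ) := by rw [e5]
        _ = A * Yᵀ := by rw [hA, Matrix.mul_assoc]
    rw [← hY]
    have := congrArg Matrix.transpose hc
    rw [Matrix.transpose_mul, Matrix.transpose_mul, Matrix.transpose_transpose] at this
    exact this.symm
  obtain ⟨c, hc⟩ := Cfsg.Agent.Lib.Helper52_Asch_PK7.exists_smul_one_of_commute N hspan Aᵀ hAcomm
  refine ⟨c, ?_⟩
  have hA' : A = c • (1 : Matrix ι ι F) := by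
    have := congrArg Matrix.transpose hc
    rw [Matrix.transpose_transpose, Matrix.transpose_smul, Matrix.transpose_one] at this
    exact this
  have : G₂ = A * G := by rw [hA, Matrix.mul_assoc, hGG', Matrix.mul_one]
  rw [this, hA', Matrix.smul_mul, Matrix.one_mul]

/-- F7u: a sesquilinear form fixed by a spanning group that is written over a subfield is, up to a scalar, rational -/
theorem F7u {ι : Type} [Fintype ι] [DecidableEq ι] [Fintype F] (σ : F ≃+* F)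
    (f : (ι → F) → (ι → F) → F) (hf : IsSesq σ f) (hnd : IsNondegenerateForm f)
    (N : Subgroup (GL ι F)) (hspan : spanAlg N = ⊤) (hfix : FixesForm (matrixSet N) f)
    (F₁ : Subfield F) (B : GL ι F)
    (hB : ∀ s ∈ matrixSet N, ∀ i j, ((B : Matrix ι ι F) * s * ((B⁻¹ : GL ι F) : Matrix ι ι F)) i j ∈ F₁) :
    ∃ ζ : F, ζ ≠ 0 ∧ IsFormRationalStructure f F₁ ζ B⁻¹ := by
  classical
  obtain ⟨Bm, hBm⟩ : ∃ Bm : Matrix ι ι F, Bm = ((B : GL ι F) : Matrix ι ι F) := ⟨_, rfl⟩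
  obtain ⟨Bi, hBi⟩ : ∃ Bi : Matrix ι ι F, Bi = ((B⁻¹ : GL ι F) : Matrix ι ι F) := ⟨_, rfl⟩
  have hBB : Bm * Bi = 1 := by rw [hBm, hBi, ← Units.val_mul, mul_inv_cancel, Units.val_one]
  have hBB' : Bi * Bm = 1 := by rw [hBm, hBi, ← Units.val_mul, inv_mul_cancel, Units.val_one]
  have hBBσ : Bm.map σ * Bi.map σ = 1 := by
    rw [← Matrix.map_mul, hBB, Matrix.map_one _ (map_zero σ) (map_one σ)]
  have hBBσ' : Bi.map σ * Bm.map σ = 1 := by
    rw [← Matrix.map_mul, hBB', Matrix.map_one _ (map_zero σ) (map_one σ)]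
  rw [← hBm, ← hBi] at hB
  -- Gram matrix of `f`
  set Gf : Matrix ι ι F := gram f with hGf
  have hrep : ∀ u v, f u v = rep σ Gf u v := rep_of_sesq σ f hf
  have hGfdet : IsUnit Gf.det := isUnit_det_of_nondeg σ Gf f hrep hnd
  have hGfinv : ∀ x ∈ N, ((x : GL ι F) : Matrix ι ι F)ᵀ * Gf *
      ((x : GL ι F) : Matrix ι ι F).map σ = Gf := by
    intro x hx
    apply rep_inj σ
    intro u v
    have := rep_mulVec σ Gf ((x : GL ι F) : Matrix ι ι F) u v
    rw [← this, ← hrep, ← hrep]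
    exact hfix _ (coe_mem_matrixSet hx) u v
  -- Gram matrix of the transported form
  set G' : Matrix ι ι F := Biᵀ * Gf * Bi.map σ with hG'
  have hrep' : ∀ u v, f (Bi *ᵥ u) (Bi *ᵥ v) = rep σ G' u v := by
    intro u v
    rw [hrep, rep_mulVec]
  -- the Frobenius of `F₁`
  have : Fintype F₁ := Fintype.ofFinite F₁
  set φ : F →+* F := (FiniteField.frobeniusAlgHom F₁ F : F →+* F) with hφ
  have hφapp : ∀ a : F, φ a = a ^ Fintype.card F₁ := fun a => rfl
  have hφfix : ∀ a : F, a ∈ F₁ → φ a = a := by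
    intro a ha
    have := (FiniteField.frobeniusAlgHom F₁ F).commutes ⟨a, ha⟩
    exact this
  have hφσ : ∀ a : F, φ (σ a) = σ (φ a) := by
    intro a
    rw [hφapp, hφapp, map_pow]
  have hmapφσ : ∀ M : Matrix ι ι F, (M.map σ).map φ = (M.map φ).map σ := by
    intro M
    ext i j
    simp only [Matrix.map_apply]
    exact hφσ _
  -- `F₁` is stable under `σ`
  have hσF₁ : ∀ a : F, a ∈ F₁ → σ a ∈ F₁ := by
    intro a ha
    apply Cfsg.Agent.Lib.Helper60_Asch_PK13.mem_of_pow_card_eq_self F₁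
    rw [← Fintype.card_eq_nat_card, ← map_pow, ← hφapp, hφfix a ha]
  -- reduce to the goal in terms of `Bi`
  suffices h : ∃ ζ : F, ζ ≠ 0 ∧ ∀ u v : ι → F, (∀ i, u i ∈ F₁) → (∀ i, v i ∈ F₁) →
      ζ * f (Bi *ᵥ u) (Bi *ᵥ v) ∈ F₁ by
    obtain ⟨ζ, hζ, h⟩ := h
    refine ⟨ζ, hζ, ?_⟩
    intro u v hu hv
    rw [← hBi]
    exact h u v hu hv
  by_cases hex : ∃ i j, G' i j ≠ 0
  swap
  · refine ⟨1, one_ne_zero, ?_⟩
    intro u v _ _
    have h0 : G' = 0 := by
      ext i j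
      by_contra h
      exact hex ⟨i, j, h⟩
    rw [hrep', h0]
    unfold rep
    rw [Matrix.zero_mulVec, dotProduct_zero, mul_zero]
    exact F₁.zero_mem
  obtain ⟨i₀, j₀, hij⟩ := hex
  set ζ : F := (G' i₀ j₀)⁻¹ with hζ
  have hζ0 : ζ ≠ 0 := inv_ne_zero hij
  set G0 : Matrix ι ι F := ζ • G' with hG0
  have hG0ij : G0 i₀ j₀ = 1 := by
    rw [hG0, Matrix.smul_apply, smul_eq_mul, hζ, inv_mul_cancel₀ hij]
  -- invariance of `G0` under the conjugated group
  have hinv0 : ∀ x ∈ N, (Bm * ((x : GL ι F) : Matrix ι ι F) * Bi)ᵀ * G0 *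
      (Bm * ((x : GL ι F) : Matrix ι ι F) * Bi).map σ = G0 := by
    intro x hx
    obtain ⟨X, hX⟩ : ∃ X : Matrix ι ι F, X = ((x : GL ι F) : Matrix ι ι F) := ⟨_, rfl⟩
    have e1 : Xᵀ * Gf * X.map σ = Gf := by rw [hX]; exact hGfinv x hx
    rw [← hX, hG0, hG', Matrix.mul_smul, Matrix.smul_mul]
    congr 1
    have hT : Bmᵀ * Biᵀ = 1 := by rw [← Matrix.transpose_mul, hBB', Matrix.transpose_one]
    calc (Bm * X * Bi)ᵀ * (Biᵀ * Gf * Bi.map σ) * (Bm * X * Bi).map σ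
        = Biᵀ * Xᵀ * (Bmᵀ * Biᵀ) * Gf * (Bi.map σ * Bm.map σ) * X.map σ * Bi.map σ := by
          rw [Matrix.transpose_mul, Matrix.transpose_mul, Matrix.map_mul, Matrix.map_mul]
          simp only [Matrix.mul_assoc]
      _ = Biᵀ * (Xᵀ * Gf * X.map σ) * Bi.map σ := by
          rw [hT, hBBσ', Matrix.mul_one, Matrix.mul_one]
          simp only [Matrix.mul_assoc]
      _ = Biᵀ * Gf * Bi.map σ := by rw [e1]
  have hφinv : ∀ x ∈ N, (Bm * ((x : GL ι F) : Matrix ι ι F) * Bi)ᵀ * G0.map φ *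
      (Bm * ((x : GL ι F) : Matrix ι ι F) * Bi).map σ = G0.map φ := by
    intro x hx
    have hs : (Bm * ((x : GL ι F) : Matrix ι ι F) * Bi).map φ =
        Bm * ((x : GL ι F) : Matrix ι ι F) * Bi := by
      ext i j
      rw [Matrix.map_apply]
      exact hφfix _ (hB _ (coe_mem_matrixSet hx) i j)
    have := congrArg (fun M : Matrix ι ι F => M.map φ) (hinv0 x hx)
    simp only [Matrix.map_mul, Matrix.transpose_map, hmapφσ] at this
    simp only [← Matrix.map_mul, hs] at this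
    exact this
  -- pull back to an `N`-invariant matrix
  set G₂ : Matrix ι ι F := Bmᵀ * G0.map φ * Bm.map σ with hG₂
  have hG₂inv : ∀ x ∈ N, ((x : GL ι F) : Matrix ι ι F)ᵀ * G₂ *
      ((x : GL ι F) : Matrix ι ι F).map σ = G₂ := by
    intro x hx
    obtain ⟨X, hX⟩ : ∃ X : Matrix ι ι F, X = ((x : GL ι F) : Matrix ι ι F) := ⟨_, rfl⟩
    have e1 := hφinv x hx
    rw [← hX] at e1 ⊢
    have hT' : Bmᵀ * Biᵀ = 1 := by rw [← Matrix.transpose_mul, hBB', Matrix.transpose_one]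
    have e2 : (Bm * X * Bi)ᵀ = Biᵀ * Xᵀ * Bmᵀ := by
      rw [Matrix.transpose_mul, Matrix.transpose_mul, Matrix.mul_assoc]
    have e3 : (Bm * X * Bi).map σ = Bm.map σ * X.map σ * Bi.map σ := by
      rw [Matrix.map_mul, Matrix.map_mul]
    calc Xᵀ * G₂ * X.map σ
        = (Bmᵀ * Biᵀ) * Xᵀ * Bmᵀ * G0.map φ * Bm.map σ * X.map σ * (Bi.map σ * Bm.map σ) := by
          rw [hT', hBBσ', Matrix.one_mul, Matrix.mul_one, hG₂]
          simp only [Matrix.mul_assoc]
      _ = Bmᵀ * ((Bm * X * Bi)ᵀ * G0.map φ * (Bm * X * Bi).map σ) * Bm.map σ := by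
          rw [e2, e3]
          simp only [Matrix.mul_assoc]
      _ = Bmᵀ * G0.map φ * Bm.map σ := by rw [e1]
  obtain ⟨c, hc⟩ := exists_smul_of_invariant σ N hspan Gf G₂ hGfdet hGfinv hG₂inv
  -- so `G0.map φ = c • G'`
  have hmap : G0.map φ = c • G' := by
    have hT : Biᵀ * Bmᵀ = 1 := by rw [← Matrix.transpose_mul, hBB, Matrix.transpose_one]
    calc G0.map φ = (Biᵀ * Bmᵀ) * G0.map φ * (Bm.map σ * Bi.map σ) := by
          rw [hT, hBBσ, Matrix.one_mul, Matrix.mul_one]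
      _ = Biᵀ * G₂ * Bi.map σ := by rw [hG₂]; simp only [Matrix.mul_assoc]
      _ = c • G' := by rw [hc, hG', Matrix.mul_smul, Matrix.smul_mul]
  have hcζ : c = ζ := by
    have := congrFun (congrFun hmap i₀) j₀
    rw [Matrix.map_apply, hG0ij, map_one, Matrix.smul_apply, smul_eq_mul] at this
    rw [hζ]
    exact eq_inv_of_mul_eq_one_left this.symm
  have hfixG0 : G0.map φ = G0 := by rw [hmap, hcζ]
  have hG0F₁ : ∀ i j, G0 i j ∈ F₁ := by
    intro i j
    apply Cfsg.Agent.Lib.Helper60_Asch_PK13.mem_of_pow_card_eq_self F₁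
    have := congrFun (congrFun hfixG0 i) j
    rw [Matrix.map_apply, hφapp, Fintype.card_eq_nat_card] at this
    exact this
  refine ⟨ζ, hζ0, ?_⟩
  intro u v hu hv
  rw [hrep', ← rep_smul, ← hG0]
  unfold rep
  simp only [dotProduct, Matrix.mulVec]
  refine F₁.sum_mem fun i _ => F₁.mul_mem (hu i)
    (F₁.sum_mem fun j _ => F₁.mul_mem (hG0F₁ i j) (hσF₁ _ (hv j)))

end Cfsg.Agent.Lib.Helper31_AschSU_F7u
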