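import Mathlib
import Cfsg.Agent.Lib.Helper98_AschDefs
import Cfsg.Agent.Lib.Helper29_OrthOddDefs
import Cfsg.Agent.Lib.Helper94_Herm
import Cfsg.Agent.Lib.Helper3_Asch_PKP3

/-!
# S5673 package OP7b (helper32 for helper29)

An absolutely irreducible (spanning) group fixing a non-degenerate quadratic form and a
non-degenerate unitary form is realisable over the fixed field of the involution: semilinear
(Galois) descent.
-/

set_option autoImplicit false
set_option linter.unusedVariables false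
set_option linter.unusedSectionVars false

namespace Cfsg.Agent.Lib.Helper32_OrthOdd_OP7b

open Cfsg Cfsg.Geo Matrix Cfsg.Agent.Lib.Helper98_AschDefs

variable {F : Type*} [Field F]

section aux

variable {ι : Type} [Fintype ι] [DecidableEq ι]

section gram

/-- a form that is linear in the first and `τ`-semilinear in the second argument is given by its
Gram matrix -/
theorem form_eq_sum (τ : F →+* F) (f : (ι → F) → (ι → F) → F)
    (hal : ∀ x y v, f (x + y) v = f x v + f y v) (hsl : ∀ (c : F) (x v : ι → F), f (c • x) v = c * f x v)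
    (har : ∀ v x y, f v (x + y) = f v x + f v y)
    (hsr : ∀ (c : F) (v x : ι → F), f v (c • x) = τ c * f v x) (u v : ι → F) :
    f u v = ∑ i, ∑ j, u i * gramMatrix f i j * τ (v j) := by
  have h0l : ∀ v, f 0 v = 0 := by
    intro v
    have := hsl 0 0 v
    rwa [zero_smul, zero_mul] at this
  have h0r : ∀ v, f v 0 = 0 := by
    intro v
    have := hsr 0 v 0
    rwa [zero_smul, map_zero, zero_mul] at this
  have hsuml : ∀ (s : Finset ι) (g : ι → (ι → F)) (v : ι → F),
      f (∑ i ∈ s, g i) v = ∑ i ∈ s, f (g i) v := by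
    intro s g v
    induction s using Finset.induction_on with
    | empty => simp [h0l]
    | insert a s ha ih => rw [Finset.sum_insert ha, Finset.sum_insert ha, hal, ih]
  have hsumr : ∀ (s : Finset ι) (g : ι → (ι → F)) (v : ι → F),
      f v (∑ i ∈ s, g i) = ∑ i ∈ s, f v (g i) := by
    intro s g v
    induction s using Finset.induction_on with
    | empty => simp [h0r]
    | insert a s ha ih => rw [Finset.sum_insert ha, Finset.sum_insert ha, har, ih]
  have hu : u = ∑ i, u i • (Pi.single i (1 : F) : ι → F) := by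
    conv_lhs => rw [← Finset.univ_sum_single u]
    refine Finset.sum_congr rfl (fun i _ => ?_)
    rw [← Pi.single_smul', smul_eq_mul, mul_one]
  have hv : v = ∑ j, v j • (Pi.single j (1 : F) : ι → F) := by
    conv_lhs => rw [← Finset.univ_sum_single v]
    refine Finset.sum_congr rfl (fun i _ => ?_)
    rw [← Pi.single_smul', smul_eq_mul, mul_one]
  conv_lhs => rw [hu, hsuml]
  refine Finset.sum_congr rfl (fun i _ => ?_)
  rw [hsl]
  conv_lhs => rw [hv, hsumr, Finset.mul_sum]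
  refine Finset.sum_congr rfl (fun j _ => ?_)
  rw [hsr]
  unfold gramMatrix
  ring

theorem form_eq_dot (τ : F →+* F) (f : (ι → F) → (ι → F) → F)
    (hal : ∀ x y v, f (x + y) v = f x v + f y v) (hsl : ∀ (c : F) (x v : ι → F), f (c • x) v = c * f x v)
    (har : ∀ v x y, f v (x + y) = f v x + f v y)
    (hsr : ∀ (c : F) (v x : ι → F), f v (c • x) = τ c * f v x) (u v : ι → F) :
    f u v = u ⬝ᵥ (gramMatrix f *ᵥ (fun j => τ (v j))) := by
  rw [form_eq_sum τ f hal hsl har hsr u v]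
  simp only [dotProduct, Matrix.mulVec, Finset.mul_sum]
  refine Finset.sum_congr rfl (fun i _ => Finset.sum_congr rfl (fun j _ => ?_))
  ring

/-- isometries in Gram form -/
theorem gram_isometry (τ : F →+* F) (f : (ι → F) → (ι → F) → F)
    (hal : ∀ x y v, f (x + y) v = f x v + f y v) (hsl : ∀ (c : F) (x v : ι → F), f (c • x) v = c * f x v)
    (har : ∀ v x y, f v (x + y) = f v x + f v y)
    (hsr : ∀ (c : F) (v x : ι → F), f v (c • x) = τ c * f v x) (x : Matrix ι ι F)
    (hx : ∀ u v, f (x *ᵥ u) (x *ᵥ v) = f u v) :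
    xᵀ * gramMatrix f * x.map τ = gramMatrix f := by
  ext i j
  have h1 := hx (Pi.single i 1) (Pi.single j 1)
  rw [form_eq_sum τ f hal hsl har hsr] at h1
  have h2 : gramMatrix f i j = f (Pi.single i 1) (Pi.single j 1) := rfl
  rw [h2, ← h1]
  simp only [Matrix.mul_apply, Matrix.transpose_apply, Matrix.map_apply, Matrix.mulVec_single_one,
    Matrix.col_apply, Finset.sum_mul]
  rw [Finset.sum_comm]

/-- the Gram matrix of a non-degenerate form is invertible -/
theorem gram_det_ne_zero (τ : F ≃+* F) (f : (ι → F) → (ι → F) → F)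
    (hal : ∀ x y v, f (x + y) v = f x v + f y v) (hsl : ∀ (c : F) (x v : ι → F), f (c • x) v = c * f x v)
    (har : ∀ v x y, f v (x + y) = f v x + f v y)
    (hsr : ∀ (c : F) (v x : ι → F), f v (c • x) = τ c * f v x)
    (hnd : IsNondegenerateForm f) : (gramMatrix f).det ≠ 0 := by
  intro hdet
  obtain ⟨w, hw0, hw⟩ := Matrix.exists_mulVec_eq_zero_iff.2 hdet
  have hv0 : (fun j => τ.symm (w j)) ≠ 0 := by
    intro h0
    apply hw0
    funext j
    have := congrFun h0 j
    simp only [Pi.zero_apply] at this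
    have h3 := congrArg τ this
    rwa [RingEquiv.apply_symm_apply, map_zero] at h3
  obtain ⟨⟨x, hx⟩, -⟩ := hnd _ hv0
  apply hx
  rw [form_eq_dot (τ : F →+* F) f hal hsl har hsr]
  have : (fun j => (τ : F →+* F) (τ.symm (w j))) = w := by
    funext j
    simp
  rw [this, hw, dotProduct_zero]

end gram

section descent

/-- `σ` applied to the coordinates of a vector -/
def sv (σ : F ≃+* F) (v : ι → F) : ι → F := fun i => σ (v i)

theorem sv_mulVec (σ : F ≃+* F) (A : Matrix ι ι F) (v : ι → F) :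
    sv σ (A *ᵥ v) = A.map σ *ᵥ sv σ v := by
  funext i
  simp [sv, Matrix.mulVec, dotProduct, map_sum, map_mul]

theorem sv_add (σ : F ≃+* F) (v w : ι → F) : sv σ (v + w) = sv σ v + sv σ w := by
  funext i
  simp [sv]

theorem sv_sub (σ : F ≃+* F) (v w : ι → F) : sv σ (v - w) = sv σ v - sv σ w := by
  funext i
  simp [sv]

theorem sv_smul (σ : F ≃+* F) (c : F) (v : ι → F) : sv σ (c • v) = σ c • sv σ v := by
  funext i
  simp [sv]

theorem sv_sv (σ : F ≃+* F) (hinv : ∀ a, σ (σ a) = a) (v : ι → F) : sv σ (sv σ v) = v := by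
  funext i
  simp [sv, hinv]

theorem map_map_self (σ : F ≃+* F) (hinv : ∀ a, σ (σ a) = a) (A : Matrix ι ι F) :
    (A.map σ).map σ = A := by
  ext i j
  simp [hinv]

theorem map_mul' (σ : F ≃+* F) (A B : Matrix ι ι F) : (A * B).map σ = A.map σ * B.map σ := by
  ext i j
  simp [Matrix.mul_apply, map_sum, map_mul]

/-- Hilbert 90 for `GL_n` and an involution: a cocycle `B₁` (`σ(B₁) B₁ = 1`) is a coboundary -/
theorem descent (σ : F ≃+* F) (hinv : ∀ a, σ (σ a) = a) (hne : σ ≠ RingEquiv.refl F)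
    (h2 : (2 : F) ≠ 0) (B₁ : Matrix ι ι F) (hB : B₁.map σ * B₁ = 1) :
    ∃ P P' : Matrix ι ι F, P' * P = 1 ∧ P * P' = 1 ∧ P.map σ = B₁ * P := by
  classical
  have hB' : B₁ * B₁.map σ = 1 := mul_eq_one_comm.1 hB
  obtain ⟨θ, hθ0, hθ⟩ : ∃ θ : F, θ ≠ 0 ∧ σ θ = -θ := by
    have : ∃ a, σ a ≠ a := by
      by_contra hcon
      push Not at hcon
      exact hne (RingEquiv.ext hcon)
    obtain ⟨a, ha⟩ := this
    refine ⟨a - σ a, fun h => ha (sub_eq_zero.1 h).symm, ?_⟩
    rw [map_sub, hinv]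
    ring
  obtain ⟨V₀, hV₀⟩ : ∃ V₀ : Set (ι → F), V₀ = {v | sv σ v = B₁ *ᵥ v} := ⟨_, rfl⟩
  have hspan : Submodule.span F V₀ = ⊤ := by
    rw [eq_top_iff]
    intro v _
    obtain ⟨Tv, hTv⟩ : ∃ Tv : ι → F, Tv = B₁.map σ *ᵥ sv σ v := ⟨_, rfl⟩
    have hσT : sv σ Tv = B₁ *ᵥ v := by
      rw [hTv, sv_mulVec, map_map_self σ hinv, sv_sv σ hinv]
    have hBT : B₁ *ᵥ Tv = sv σ v := by
      rw [hTv, Matrix.mulVec_mulVec, hB', Matrix.one_mulVec]
    have hw1 : v + Tv ∈ V₀ := by
      rw [hV₀]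
      show sv σ (v + Tv) = B₁ *ᵥ (v + Tv)
      rw [sv_add, hσT, Matrix.mulVec_add, hBT, add_comm]
    have hw2 : θ • (v - Tv) ∈ V₀ := by
      rw [hV₀]
      show sv σ (θ • (v - Tv)) = B₁ *ᵥ (θ • (v - Tv))
      rw [sv_smul, sv_sub, hσT, hθ, Matrix.mulVec_smul, Matrix.mulVec_sub, hBT]
      funext i
      simp only [Pi.smul_apply, Pi.sub_apply, smul_eq_mul]
      ring
    have hv : v = (2 : F)⁻¹ • ((v + Tv) + θ⁻¹ • (θ • (v - Tv))) := by
      rw [smul_smul, inv_mul_cancel₀ hθ0, one_smul]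
      funext i
      simp only [Pi.smul_apply, Pi.add_apply, Pi.sub_apply, smul_eq_mul]
      field_simp
      ring
    rw [hv]
    apply Submodule.smul_mem
    apply Submodule.add_mem
    · exact Submodule.subset_span hw1
    · exact Submodule.smul_mem _ _ (Submodule.subset_span hw2)
  obtain ⟨b, hbV, hbspan, hbli⟩ := exists_linearIndependent F V₀
  have hbtop : ⊤ ≤ Submodule.span F (Set.range (Subtype.val : b → (ι → F))) := by
    rw [Subtype.range_coe, hbspan, hspan]
  obtain ⟨bas, hbas⟩ : ∃ bas : Module.Basis b F (ι → F), ∀ x : b, bas x = (x : ι → F) :=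
    ⟨Module.Basis.mk hbli hbtop, fun x => Module.Basis.mk_apply hbli hbtop x⟩
  obtain ⟨e⟩ : Nonempty (ι ≃ b) := ⟨(Pi.basisFun F ι).indexEquiv bas⟩
  obtain ⟨bb, hbb⟩ : ∃ bb : Module.Basis ι F (ι → F), ∀ j, bb j = ((e j : b) : ι → F) :=
    ⟨bas.reindex e.symm, fun j => by rw [Module.Basis.reindex_apply, Equiv.symm_symm, hbas]⟩
  refine ⟨(Pi.basisFun F ι).toMatrix bb, bb.toMatrix (Pi.basisFun F ι),
    Module.Basis.toMatrix_mul_toMatrix_flip bb (Pi.basisFun F ι),
    Module.Basis.toMatrix_mul_toMatrix_flip (Pi.basisFun F ι) bb, ?_⟩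
  ext i j
  have hmem : ((e j : b) : ι → F) ∈ V₀ := hbV (e j).2
  rw [hV₀] at hmem
  have h1 := congrFun hmem i
  rw [Matrix.map_apply, Matrix.mul_apply]
  simp only [Module.Basis.toMatrix_apply, Pi.basisFun_repr, hbb]
  exact h1

/-- the fixed field of a field automorphism -/
def fixF (σ : F ≃+* F) : Subfield F where
  carrier := {a | σ a = a}
  mul_mem' := by
    intro a b ha hb
    show σ (a * b) = a * b
    rw [map_mul, ha, hb]
  one_mem' := map_one σ
  add_mem' := by
    intro a b ha hb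
    show σ (a + b) = a + b
    rw [map_add, ha, hb]
  zero_mem' := map_zero σ
  neg_mem' := by
    intro a ha
    show σ (-a) = -a
    rw [map_neg, ha]
  inv_mem' := by
    intro a ha
    show σ a⁻¹ = a⁻¹
    rw [map_inv₀, ha]

theorem mem_fixF (σ : F ≃+* F) (a : F) : a ∈ fixF σ ↔ σ a = a := Iff.rfl

theorem fixF_ne_top (σ : F ≃+* F) (hne : σ ≠ RingEquiv.refl F) : fixF σ ≠ ⊤ := by
  intro htop
  apply hne
  apply RingEquiv.ext
  intro a
  have : a ∈ fixF σ := by rw [htop]; trivial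
  exact this

end descent

theorem map_smul'' (σ : F ≃+* F) (c : F) (A : Matrix ι ι F) : (c • A).map σ = σ c • A.map σ := by
  ext i j
  simp

theorem map_one' (σ : F ≃+* F) : (1 : Matrix ι ι F).map σ = 1 := by
  ext i j
  by_cases h : i = j
  · subst h; simp
  · simp [h]

end aux

/-- OP7b: an absolutely irreducible group fixing a symmetric and a unitary form is realisable over the fixed field -/
theorem OP7b {ι : Type} [Fintype ι] [DecidableEq ι] [Fintype F] (h2 : (2 : F) ≠ 0)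
    (N : Subgroup (GL ι F)) (hspan : spanAlg N = ⊤)
    (Q : (ι → F) → F) (hQ : IsNondegenerateQuadraticForm Q) (hNQ : FixesQuadForm (matrixSet N) Q)
    (σ : F ≃+* F) (f : (ι → F) → (ι → F) → F) (hf : IsUnitaryForm σ f) (hNf : FixesForm (matrixSet N) f) :
    ∃ F₀ : Subfield F, F₀ ≠ ⊤ ∧ RealisableOver F₀ (matrixSet N) := by
  classical
  have hinv := hf.involutive
  have hne := hf.ne_refl
  rcases isEmpty_or_nonempty ι with hι | hι
  · exact ⟨fixF σ, fixF_ne_top σ hne, ⟨1, fun s _ i _ => isEmptyElim i⟩⟩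
  obtain ⟨i₀⟩ := hι
  -- the two forms
  obtain ⟨b, hbdef⟩ : ∃ b : (ι → F) → (ι → F) → F, b = QuadraticMap.polar Q := ⟨_, rfl⟩
  have hb : IsBilinearForm b := by rw [hbdef]; exact hQ.polar_bilinear
  have hbnd : IsNondegenerateForm b := by rw [hbdef]; exact hQ.nondegenerate
  have hbfix : ∀ s ∈ matrixSet N, ∀ u v, b (s *ᵥ u) (s *ᵥ v) = b u v := by
    intro s hs u v
    rw [hbdef]
    unfold QuadraticMap.polar
    rw [← Matrix.mulVec_add, hNQ s hs, hNQ s hs, hNQ s hs]
  have hfar : ∀ v x y, f v (x + y) = f v x + f v y := by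
    intro v x y
    rw [hf.herm, hf.add_left, map_add, ← hf.herm, ← hf.herm]
  have hfsr : ∀ (c : F) (v x : ι → F), f v (c • x) = (σ : F →+* F) c * f v x := by
    intro c v x
    rw [hf.herm, hf.smul_left, map_mul, ← hf.herm]
    rfl
  have hbsr : ∀ (c : F) (v x : ι → F), b v (c • x) = (RingHom.id F) c * b v x := hb.smul_right
  obtain ⟨G, hGdef⟩ : ∃ G : Matrix ι ι F, G = gramMatrix b := ⟨_, rfl⟩
  obtain ⟨J, hJdef⟩ : ∃ J : Matrix ι ι F, J = gramMatrix f := ⟨_, rfl⟩
  have hGdet : G.det ≠ 0 := by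
    rw [hGdef]
    exact gram_det_ne_zero (RingEquiv.refl F) b hb.add_left hb.smul_left hb.add_right
      hb.smul_right hbnd
  have hJdet : J.det ≠ 0 := by
    rw [hJdef]
    exact gram_det_ne_zero σ f hf.add_left hf.smul_left hfar hfsr hf.nondegenerate
  have hGiso : ∀ s ∈ matrixSet N, sᵀ * G * s = G := by
    intro s hs
    have := gram_isometry (RingHom.id F) b hb.add_left hb.smul_left hb.add_right hbsr s
      (hbfix s hs)
    rw [← hGdef] at this
    have hid : s.map (RingHom.id F) = s := by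
      ext i j
      simp
    rwa [hid] at this
  have hJiso : ∀ s ∈ matrixSet N, sᵀ * J * s.map σ = J := by
    intro s hs
    have := gram_isometry (σ : F →+* F) f hf.add_left hf.smul_left hfar hfsr s (hNf s hs)
    rw [← hJdef] at this
    exact this
  have hJu : IsUnit J.det := isUnit_iff_ne_zero.2 hJdet
  have hGu : IsUnit G.det := isUnit_iff_ne_zero.2 hGdet
  obtain ⟨B₀, hB₀def⟩ : ∃ B₀ : Matrix ι ι F, B₀ = J⁻¹ * G := ⟨_, rfl⟩
  have hB₀det : B₀.det ≠ 0 := by
    rw [hB₀def, Matrix.det_mul, Matrix.det_nonsing_inv]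
    exact mul_ne_zero (by rw [Ring.inverse_eq_inv']; exact inv_ne_zero hJdet) hGdet
  -- the key relation
  have hR : ∀ g ∈ N, ((g : GL ι F) : Matrix ι ι F).map σ * B₀ = B₀ * (g : Matrix ι ι F) := by
    intro g hg
    obtain ⟨x, hx⟩ : ∃ x : Matrix ι ι F, x = (g : Matrix ι ι F) := ⟨_, rfl⟩
    obtain ⟨x', hx'⟩ : ∃ x' : Matrix ι ι F, x' = ((g⁻¹ : GL ι F) : Matrix ι ι F) := ⟨_, rfl⟩
    have hxx' : x * x' = 1 := by
      rw [hx, hx', ← Units.val_mul, mul_inv_cancel, Units.val_one]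
    have hx'x : x' * x = 1 := by
      rw [hx, hx', ← Units.val_mul, inv_mul_cancel, Units.val_one]
    have hxs : x ∈ matrixSet N := by rw [hx]; exact coe_mem_matrixSet hg
    have hx's : x' ∈ matrixSet N := by rw [hx']; exact coe_mem_matrixSet (N.inv_mem hg)
    have e1 : x'ᵀ * G = G * x := by
      have h1 := hGiso x' hx's
      calc x'ᵀ * G = x'ᵀ * G * (x' * x) := by rw [hx'x, Matrix.mul_one]
        _ = (x'ᵀ * G * x') * x := by simp only [Matrix.mul_assoc]
        _ = G * x := by rw [h1]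
    have e2 : J * x.map σ = x'ᵀ * J := by
      have h1 := hJiso x hxs
      have h3 : x'ᵀ * xᵀ = 1 := by
        rw [← Matrix.transpose_mul, hxx', Matrix.transpose_one]
      calc J * x.map σ = (x'ᵀ * xᵀ) * (J * x.map σ) := by rw [h3, Matrix.one_mul]
        _ = x'ᵀ * (xᵀ * J * x.map σ) := by simp only [Matrix.mul_assoc]
        _ = x'ᵀ * J := by rw [h1]
    rw [← hx, hB₀def]
    calc x.map σ * (J⁻¹ * G) = (J⁻¹ * J) * x.map σ * (J⁻¹ * G) := by
          rw [Matrix.nonsing_inv_mul J hJu, Matrix.one_mul]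
      _ = J⁻¹ * (J * x.map σ) * (J⁻¹ * G) := by simp only [Matrix.mul_assoc]
      _ = J⁻¹ * (x'ᵀ * J) * (J⁻¹ * G) := by rw [e2]
      _ = J⁻¹ * x'ᵀ * (J * J⁻¹) * G := by simp only [Matrix.mul_assoc]
      _ = J⁻¹ * (x'ᵀ * G) := by
          rw [Matrix.mul_nonsing_inv J hJu, Matrix.mul_one, Matrix.mul_assoc]
      _ = J⁻¹ * G * x := by rw [e1, Matrix.mul_assoc]
  -- the commutant
  obtain ⟨C, hCdef⟩ : ∃ C : Matrix ι ι F, C = B₀.map σ * B₀ := ⟨_, rfl⟩
  have hCcomm : ∀ s ∈ matrixSet N, C * s = s * C := by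
    intro s hs
    obtain ⟨g, hg, rfl⟩ := hs
    have h1 := hR g hg
    have h3 : (g : Matrix ι ι F) * B₀.map σ = B₀.map σ * (g : Matrix ι ι F).map σ := by
      have := congrArg (fun M : Matrix ι ι F => M.map σ) h1
      simp only [map_mul', map_map_self σ hinv] at this
      exact this
    show C * (g : Matrix ι ι F) = (g : Matrix ι ι F) * C
    rw [hCdef]
    calc B₀.map σ * B₀ * (g : Matrix ι ι F) = B₀.map σ * (B₀ * (g : Matrix ι ι F)) := by
          rw [Matrix.mul_assoc]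
      _ = B₀.map σ * ((g : Matrix ι ι F).map σ * B₀) := by rw [h1]
      _ = (B₀.map σ * (g : Matrix ι ι F).map σ) * B₀ := by rw [Matrix.mul_assoc]
      _ = ((g : Matrix ι ι F) * B₀.map σ) * B₀ := by rw [h3]
      _ = (g : Matrix ι ι F) * (B₀.map σ * B₀) := by rw [Matrix.mul_assoc]
  obtain ⟨ν, hν⟩ :=
    (Cfsg.Agent.Lib.Helper3_Asch_PKP3.absIrred_of_span N hspan).2 C hCcomm
  have hCdet : C.det ≠ 0 := by
    rw [hCdef, Matrix.det_mul]
    refine mul_ne_zero ?_ hB₀det
    have : (B₀.map σ).det = σ B₀.det := by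
      have := RingHom.map_det (σ : F →+* F) B₀
      exact this.symm
    rw [this]
    exact (map_ne_zero σ).2 hB₀det
  have hν0 : ν ≠ 0 := by
    rintro rfl
    rw [zero_smul] at hν
    have hne' : Nonempty ι := ⟨i₀⟩
    rw [hν, Matrix.det_zero] at hCdet
    exact hCdet rfl
  have hC' : B₀ * B₀.map σ = ν • (1 : Matrix ι ι F) := by
    have h1 : (ν⁻¹ • B₀.map σ) * B₀ = 1 := by
      rw [Matrix.smul_mul, ← hCdef, hν, smul_smul, inv_mul_cancel₀ hν0, one_smul]
    have h3 := mul_eq_one_comm.1 h1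
    rw [Matrix.mul_smul] at h3
    have := congrArg (fun M : Matrix ι ι F => ν • M) h3
    simp only [smul_smul, mul_inv_cancel₀ hν0, one_smul] at this
    exact this
  have hσν : σ ν = ν := by
    have h1 : C.map σ = B₀ * B₀.map σ := by
      rw [hCdef, map_mul', map_map_self σ hinv]
    rw [hν, map_smul'', map_one', hC'] at h1
    have := congrFun (congrFun h1 i₀) i₀
    simpa using this
  -- rescale
  have hσ : Cfsg.Agent.Lib.Helper94_Herm.Invol (σ : F →+* F) :=
    ⟨hinv, by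
      by_contra hcon
      push Not at hcon
      exact hne (RingEquiv.ext hcon)⟩
  obtain ⟨μ, hμ⟩ := Cfsg.Agent.Lib.Helper94_Herm.norm_surj hσ ν⁻¹ (by
    show σ ν⁻¹ = ν⁻¹
    rw [map_inv₀, hσν])
  have hμ' : μ * σ μ = ν⁻¹ := hμ
  obtain ⟨B₁, hB₁def⟩ : ∃ B₁ : Matrix ι ι F, B₁ = μ • B₀ := ⟨_, rfl⟩
  have hB1 : B₁.map σ * B₁ = 1 := by
    rw [hB₁def, map_smul'', Matrix.smul_mul, Matrix.mul_smul, ← hCdef, hν, smul_smul, smul_smul,
      mul_comm (σ μ) μ, hμ', inv_mul_cancel₀ hν0, one_smul]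
  have hR1 : ∀ g ∈ N, ((g : GL ι F) : Matrix ι ι F).map σ * B₁ = B₁ * (g : Matrix ι ι F) := by
    intro g hg
    rw [hB₁def, Matrix.mul_smul, hR g hg, Matrix.smul_mul]
  obtain ⟨P, P', hP'P, hPP', hσP⟩ := descent σ hinv hne h2 B₁ hB1
  have hσP' : P'.map σ * B₁ = P' := by
    have h1 : P'.map σ * P.map σ = 1 := by
      rw [← map_mul', hP'P, map_one']
    rw [hσP, ← Matrix.mul_assoc] at h1
    calc P'.map σ * B₁ = P'.map σ * B₁ * (P * P') := by rw [hPP', Matrix.mul_one]
      _ = (P'.map σ * B₁ * P) * P' := by rw [Matrix.mul_assoc, Matrix.mul_assoc, Matrix.mul_assoc]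
      _ = P' := by rw [h1, Matrix.one_mul]
  refine ⟨fixF σ, fixF_ne_top σ hne, ⟨⟨P', P, hP'P, hPP'⟩, ?_⟩⟩
  rintro s ⟨g, hg, rfl⟩ i j
  show (P' * (g : Matrix ι ι F) * P) i j ∈ fixF σ
  rw [mem_fixF]
  have hfix : (P' * (g : Matrix ι ι F) * P).map σ = P' * (g : Matrix ι ι F) * P := by
    rw [map_mul', map_mul', hσP]
    calc P'.map σ * (g : Matrix ι ι F).map σ * (B₁ * P)
        = P'.map σ * ((g : Matrix ι ι F).map σ * B₁) * P := by simp only [Matrix.mul_assoc]
      _ = P'.map σ * (B₁ * (g : Matrix ι ι F)) * P := by rw [hR1 g hg]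
      _ = (P'.map σ * B₁) * (g : Matrix ι ι F) * P := by simp only [Matrix.mul_assoc]
      _ = P' * (g : Matrix ι ι F) * P := by rw [hσP']
  have := congrFun (congrFun hfix i) j
  rwa [Matrix.map_apply] at this

end Cfsg.Agent.Lib.Helper32_OrthOdd_OP7b
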