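import Mathlib
import Cfsg.Agent.Lib.Helper98_AschDefs
import Cfsg.Agent.Lib.Helper23_FormDefs
import Cfsg.Agent.Lib.Helper10_Asch_PK4
import Cfsg.Agent.Lib.Helper52_Asch_SNAnti

/-!
# Package F6c of S5662 (helper23's cut): in a tensor-power basis whose factor algebras are the
conjugates, under isometries, of one adjoint-closed copy of `M_d(F)`, a non-degenerate sesquilinear
form is a non-zero multiple of the tensor power of one invertible Gram matrix.
-/

set_option autoImplicit false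
set_option linter.unusedVariables false
set_option linter.unusedSectionVars false
set_option linter.style.haveILetI false

namespace Cfsg.Agent.Lib.Helper54_AschSp_F6c

open Cfsg Cfsg.Geo Matrix Cfsg.Agent.Lib.Helper98_AschDefs Cfsg.Agent.Lib.Helper23_FormDefs
  Cfsg.Agent.Lib.Helper10_Asch_PK4
open scoped Kronecker

variable {F : Type*} [Field F]

section sesq

variable {κ : Type*} [Fintype κ] [DecidableEq κ] {σ : F ≃+* F} {f : (κ → F) → (κ → F) → F}

lemma sesq_zero_left (hf : IsSesq σ f) (v : κ → F) : f 0 v = 0 := by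
  have := hf.smul_left 0 0 v
  simpa using this

lemma sesq_zero_right (hf : IsSesq σ f) (u : κ → F) : f u 0 = 0 := by
  have := hf.smul_right 0 u 0
  simpa using this

lemma sesq_sum_left (hf : IsSesq σ f) {α : Type*} (s : Finset α) (w : α → κ → F) (v : κ → F) :
    f (∑ a ∈ s, w a) v = ∑ a ∈ s, f (w a) v := by
  classical
  induction s using Finset.induction_on with
  | empty => simp [sesq_zero_left hf]
  | insert a s ha ih => rw [Finset.sum_insert ha, Finset.sum_insert ha, hf.add_left, ih]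

lemma sesq_sum_right (hf : IsSesq σ f) {α : Type*} (s : Finset α) (u : κ → F) (w : α → κ → F) :
    f u (∑ a ∈ s, w a) = ∑ a ∈ s, f u (w a) := by
  classical
  induction s using Finset.induction_on with
  | empty => simp [sesq_zero_right hf]
  | insert a s ha ih => rw [Finset.sum_insert ha, Finset.sum_insert ha, hf.add_right, ih]

lemma sesq_sub_right (hf : IsSesq σ f) (u x y : κ → F) : f u (x - y) = f u x - f u y := by
  have := hf.add_right u (x - y) y
  rw [sub_add_cancel] at this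
  rw [this]
  ring

/-- expansion of a sesquilinear form in the standard basis -/
lemma sesq_expand (hf : IsSesq σ f) (x y : κ → F) :
    f x y = ∑ a, ∑ b, x a * f (Pi.single a 1) (Pi.single b 1) * σ (y b) := by
  have hx : x = ∑ a, x a • (Pi.single a 1 : κ → F) := by
    ext i
    simp [Finset.sum_apply, Pi.single_apply]
  have hy : y = ∑ b, y b • (Pi.single b 1 : κ → F) := by
    ext i
    simp [Finset.sum_apply, Pi.single_apply]
  conv_lhs => rw [hx]
  rw [sesq_sum_left hf]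
  apply Finset.sum_congr rfl
  intro a _
  rw [hf.smul_left]
  conv_lhs => rw [hy]
  rw [sesq_sum_right hf, Finset.mul_sum]
  apply Finset.sum_congr rfl
  intro b _
  rw [hf.smul_right]
  ring

/-- the matrix form of an adjoint relation -/
lemma adj_matrix (hf : IsSesq σ f) (A A' : Matrix κ κ F)
    (h : ∀ x y, f (A *ᵥ x) y = f x (A' *ᵥ y)) :
    Aᵀ * Matrix.of (fun a b => f (Pi.single a 1) (Pi.single b 1)) =
      Matrix.of (fun a b => f (Pi.single a 1) (Pi.single b 1)) * A'.map σ := by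
  ext a b
  have h1 := h (Pi.single a 1) (Pi.single b 1)
  rw [sesq_expand hf, sesq_expand hf (Pi.single a 1)] at h1
  simp only [Matrix.mulVec_single_one, Pi.single_apply] at h1
  rw [Matrix.mul_apply, Matrix.mul_apply]
  simp only [Matrix.transpose_apply, Matrix.of_apply, Matrix.map_apply]
  have e1 : ∑ c, ∑ b', A.col a c * f (Pi.single c 1) (Pi.single b' 1) * σ (if b' = b then 1 else 0) =
      ∑ c, A c a * f (Pi.single c 1) (Pi.single b 1) := by
    apply Finset.sum_congr rfl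
    intro c _
    rw [Finset.sum_eq_single b]
    · simp [Matrix.col]
    · intro b' _ hb'
      simp [hb']
    · intro hb
      exact absurd (Finset.mem_univ _) hb
  have e2 : ∑ c, ∑ b', (if c = a then (1 : F) else 0) * f (Pi.single c 1) (Pi.single b' 1) *
        σ (A'.col b b') = ∑ c, f (Pi.single a 1) (Pi.single c 1) * σ (A' c b) := by
    rw [Finset.sum_eq_single a]
    · simp [Matrix.col]
    · intro c _ hc
      simp [hc]
    · intro ha
      exact absurd (Finset.mem_univ _) ha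
  rw [e1, e2] at h1
  exact h1

end sesq

variable {ι : Type} [Fintype ι] [DecidableEq ι]

/-- two matrices with the same right adjoint action are equal -/
lemma eq_of_forall_right {σ : F ≃+* F} {f : (ι → F) → (ι → F) → F} (hf : IsSesq σ f)
    (hnd : IsNondegenerateForm f) (A A' : Matrix ι ι F)
    (h : ∀ u v, f u (A *ᵥ v) = f u (A' *ᵥ v)) : A = A' := by
  have h1 : ∀ v, A *ᵥ v = A' *ᵥ v := by
    intro v
    by_contra hne
    have hw : A *ᵥ v - A' *ᵥ v ≠ 0 := sub_ne_zero.2 hne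
    obtain ⟨⟨x, hx⟩, _⟩ := hnd _ hw
    apply hx
    rw [sesq_sub_right hf, h, sub_self]
  ext i j
  have := congrFun (h1 (Pi.single j 1)) i
  simpa using this

/-- a matrix `Γ'` with `factorMat j M * Γ' = Γ' * factorMat j (B M B⁻¹)` for all `j`, `M` is a scalar
multiple of the pure tensor of `B⁻¹` -/
lemma smul_pt_of_rel {k d : ℕ} (hd : 0 < d) (Γ' : Matrix (Fin k → Fin d) (Fin k → Fin d) F)
    (B : GL (Fin d) F)
    (h2 : ∀ j M, factorMat k d j M * Γ' =
      Γ' * factorMat k d j ((B : Matrix (Fin d) (Fin d) F) * M *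
        ((B⁻¹ : GL (Fin d) F) : Matrix (Fin d) (Fin d) F))) :
    ∃ c : F, Γ' = c • pt k d (fun _ => ((B⁻¹ : GL (Fin d) F) : Matrix (Fin d) (Fin d) F)) := by
  classical
  obtain ⟨T, hT⟩ : ∃ T : GL (Fin k → Fin d) F, T = ptGL k d (fun _ => B) := ⟨_, rfl⟩
  have hTT : (T : Matrix (Fin k → Fin d) (Fin k → Fin d) F) *
      ((T⁻¹ : GL (Fin k → Fin d) F) : Matrix (Fin k → Fin d) (Fin k → Fin d) F) = 1 := by
    rw [← Units.val_mul, mul_inv_cancel, Units.val_one]
  have hTT' : ((T⁻¹ : GL (Fin k → Fin d) F) : Matrix (Fin k → Fin d) (Fin k → Fin d) F) *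
      (T : Matrix (Fin k → Fin d) (Fin k → Fin d) F) = 1 := by
    rw [← Units.val_mul, inv_mul_cancel, Units.val_one]
  have h3 : ∀ j M, (Γ' * (T : Matrix (Fin k → Fin d) (Fin k → Fin d) F)) * factorMat k d j M =
      factorMat k d j M * (Γ' * (T : Matrix (Fin k → Fin d) (Fin k → Fin d) F)) := by
    intro j M
    have h4 := ptGL_conj (fun _ => B) j M
    rw [← mul_assoc, h2 j M, ← h4, ← hT]
    simp only [mul_assoc]
    rw [hTT', mul_one]
  obtain ⟨c, hc⟩ := scalar_of_commute hd _ h3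
  refine ⟨c, ?_⟩
  have h5 : Γ' = c • ((T⁻¹ : GL (Fin k → Fin d) F) : Matrix (Fin k → Fin d) (Fin k → Fin d) F) := by
    calc Γ' = Γ' * ((T : Matrix (Fin k → Fin d) (Fin k → Fin d) F) *
          ((T⁻¹ : GL (Fin k → Fin d) F) : Matrix (Fin k → Fin d) (Fin k → Fin d) F)) := by
            rw [hTT, mul_one]
      _ = (Γ' * (T : Matrix (Fin k → Fin d) (Fin k → Fin d) F)) *
          ((T⁻¹ : GL (Fin k → Fin d) F) : Matrix (Fin k → Fin d) (Fin k → Fin d) F) := by
            rw [mul_assoc]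
      _ = _ := by rw [hc, smul_mul_assoc, one_mul]
  rw [h5, hT]
  rfl

lemma factorMat_transpose {k m : ℕ} (i : Fin k) (M : Matrix (Fin m) (Fin m) F) :
    (factorMat k m i M)ᵀ = factorMat k m i Mᵀ := by
  ext x y
  simp only [Matrix.transpose_apply, factorMat]
  by_cases h : ∀ j, j ≠ i → x j = y j
  · rw [if_pos h, if_pos (fun j hj => (h j hj).symm)]
  · rw [if_neg h, if_neg (fun h' => h (fun j hj => (h' j hj).symm))]

lemma factorMat_map {k m : ℕ} (σ : F ≃+* F) (i : Fin k) (M : Matrix (Fin m) (Fin m) F) :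
    (factorMat k m i M).map σ = factorMat k m i (M.map σ) := by
  ext x y
  simp only [Matrix.map_apply, factorMat]
  split_ifs <;> simp

lemma map_mul' {κ : Type*} [Fintype κ] (σ : F ≃+* F) (X Y : Matrix κ κ F) :
    (X * Y).map σ = X.map σ * Y.map σ := by
  ext i j
  simp [Matrix.mul_apply, map_sum]

/-- F6c: if the factor algebras of a tensor-power basis are the conjugates, under isometries `g i`, of one
adjoint-closed copy `ψ` of `M_d(F)`, then the form is, in that basis, a non-zero multiple of the `k`-th tensor power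
of ONE invertible `d × d` Gram matrix -/
theorem F6c (σ : F ≃+* F) (f : (ι → F) → (ι → F) → F) (hf : IsSesq σ f) (hnd : IsNondegenerateForm f)
    (k d : ℕ) (hk : 0 < k) (hd : 0 < d) (e : ι ≃ (Fin k → Fin d)) (P : GL ι F)
    (ψ : Matrix (Fin d) (Fin d) F →ₐ[F] Matrix ι ι F) (g : Fin k → GL ι F)
    (hg : ∀ i (u v : ι → F), f ((g i : Matrix ι ι F) *ᵥ u) ((g i : Matrix ι ι F) *ᵥ v) = f u v)
    (hψadj : ∀ M : Matrix (Fin d) (Fin d) F, ∃ M' : Matrix (Fin d) (Fin d) F, ∀ u v : ι → F,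
      f (ψ M *ᵥ u) v = f u (ψ M' *ᵥ v))
    (hφ : ∀ i (M : Matrix (Fin d) (Fin d) F),
        (P : Matrix ι ι F) * Matrix.reindex e.symm e.symm (factorMat k d i M) * ((P⁻¹ : GL ι F) : Matrix ι ι F) =
          (g i : Matrix ι ι F) * ψ M * (((g i)⁻¹ : GL ι F) : Matrix ι ι F)) :
    ∃ (G₀ : Matrix (Fin d) (Fin d) F) (c : F), IsUnit G₀.det ∧ c ≠ 0 ∧
      ∀ x y : (Fin k → Fin d) → F,
        f ((P : Matrix ι ι F) *ᵥ (x ∘ e)) ((P : Matrix ι ι F) *ᵥ (y ∘ e)) =
          c * ∑ a, ∑ b, x a * (∏ i, G₀ (a i) (b i)) * σ (y b) := by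
  classical
  haveI : Nonempty (Fin d) := ⟨⟨0, hd⟩⟩
  haveI : Nonempty ι := ⟨e.symm (fun _ => ⟨0, hd⟩)⟩
  have hinj : Function.Injective ψ := (ψ : Matrix (Fin d) (Fin d) F →+* Matrix ι ι F).injective
  choose τ hτ using hψadj
  have huniq : ∀ M M', (∀ u v, f (ψ M *ᵥ u) v = f u (ψ M' *ᵥ v)) → M' = τ M := by
    intro M M' h
    apply hinj
    apply eq_of_forall_right hf hnd
    intro u v
    rw [← h, hτ]
  have hτadd : ∀ M N, τ (M + N) = τ M + τ N := by
    intro M N
    symm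
    apply huniq
    intro u v
    rw [map_add, Matrix.add_mulVec, hf.add_left, hτ, hτ, map_add, Matrix.add_mulVec, hf.add_right]
  have hτsmul : ∀ (c : F) M, τ (c • M) = σ.symm c • τ M := by
    intro c M
    symm
    apply huniq
    intro u v
    rw [map_smul, Matrix.smul_mulVec, hf.smul_left, hτ, map_smul, Matrix.smul_mulVec,
      hf.smul_right, RingEquiv.apply_symm_apply]
  have hτ1 : τ 1 = 1 := by
    symm
    apply huniq
    intro u v
    simp
  have hτmul : ∀ M N, τ (M * N) = τ N * τ M := by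
    intro M N
    symm
    apply huniq
    intro u v
    rw [map_mul, ← Matrix.mulVec_mulVec, hτ, hτ, Matrix.mulVec_mulVec, ← map_mul]
  obtain ⟨B, hB⟩ := Cfsg.Agent.Lib.Helper52_Asch_SNAnti.skolem_noether_anti_semilinear σ.symm τ
    hτadd hτsmul hτ1 hτmul
  -- the `σ`-twist of `B`
  have hBB : (B : Matrix (Fin d) (Fin d) F) * ((B⁻¹ : GL (Fin d) F) : Matrix (Fin d) (Fin d) F) = 1 := by
    rw [← Units.val_mul, mul_inv_cancel, Units.val_one]
  have hBB' : ((B⁻¹ : GL (Fin d) F) : Matrix (Fin d) (Fin d) F) * (B : Matrix (Fin d) (Fin d) F) = 1 := by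
    rw [← Units.val_mul, inv_mul_cancel, Units.val_one]
  have hone : (1 : Matrix (Fin d) (Fin d) F).map σ = 1 := Matrix.map_one _ (map_zero σ) (map_one σ)
  let B'u : GL (Fin d) F :=
    ⟨(B : Matrix (Fin d) (Fin d) F).map σ, ((B⁻¹ : GL (Fin d) F) : Matrix (Fin d) (Fin d) F).map σ,
      by rw [← map_mul', hBB, hone], by rw [← map_mul', hBB', hone]⟩
  have hτσ : ∀ M, (τ M).map σ = (B'u : Matrix (Fin d) (Fin d) F) * Mᵀ *
      ((B'u⁻¹ : GL (Fin d) F) : Matrix (Fin d) (Fin d) F) := by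
    intro M
    rw [hB, map_mul', map_mul']
    have h1 : ((M.map σ.symm)ᵀ).map σ = Mᵀ := by
      ext i j
      simp
    rw [h1]
    rfl
  -- isometries
  have hgg : ∀ i (v : ι → F), (g i : Matrix ι ι F) *ᵥ ((((g i)⁻¹ : GL ι F) : Matrix ι ι F) *ᵥ v) = v := by
    intro i v
    rw [Matrix.mulVec_mulVec, ← Units.val_mul, mul_inv_cancel, Units.val_one, Matrix.one_mulVec]
  have hgl : ∀ i (a v : ι → F), f ((g i : Matrix ι ι F) *ᵥ a) v =
      f a ((((g i)⁻¹ : GL ι F) : Matrix ι ι F) *ᵥ v) := by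
    intro i a v
    conv_lhs => rw [← hgg i v]
    exact hg i _ _
  have hgr : ∀ i (u b : ι → F), f u ((g i : Matrix ι ι F) *ᵥ b) =
      f ((((g i)⁻¹ : GL ι F) : Matrix ι ι F) *ᵥ u) b := by
    intro i u b
    conv_lhs => rw [← hgg i u]
    exact hg i _ _
  have hfac : ∀ i M (u v : ι → F),
      f (((g i : Matrix ι ι F) * ψ M * (((g i)⁻¹ : GL ι F) : Matrix ι ι F)) *ᵥ u) v =
        f u (((g i : Matrix ι ι F) * ψ (τ M) * (((g i)⁻¹ : GL ι F) : Matrix ι ι F)) *ᵥ v) := by
    intro i M u v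
    simp only [← Matrix.mulVec_mulVec]
    rw [hgl, hτ, hgr]
  -- the form in the tensor basis
  obtain ⟨f', hf'def⟩ : ∃ f' : ((Fin k → Fin d) → F) → ((Fin k → Fin d) → F) → F,
      f' = fun x y => f ((P : Matrix ι ι F) *ᵥ (x ∘ e)) ((P : Matrix ι ι F) *ᵥ (y ∘ e)) := ⟨_, rfl⟩
  have hf'app : ∀ x y, f' x y = f ((P : Matrix ι ι F) *ᵥ (x ∘ e)) ((P : Matrix ι ι F) *ᵥ (y ∘ e)) := by
    intro x y
    rw [hf'def]
  have hf' : IsSesq σ f' := by
    refine ⟨?_, ?_, ?_, ?_⟩
    · intro x y v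
      rw [hf'app, hf'app, hf'app]
      have : (x + y) ∘ e = x ∘ e + y ∘ e := rfl
      rw [this, Matrix.mulVec_add, hf.add_left]
    · intro c x v
      rw [hf'app, hf'app]
      have : (c • x) ∘ e = c • (x ∘ e) := rfl
      rw [this, Matrix.mulVec_smul, hf.smul_left]
    · intro v x y
      rw [hf'app, hf'app, hf'app]
      have : (x + y) ∘ e = x ∘ e + y ∘ e := rfl
      rw [this, Matrix.mulVec_add, hf.add_right]
    · intro c v x
      rw [hf'app, hf'app]
      have : (c • x) ∘ e = c • (x ∘ e) := rfl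
      rw [this, Matrix.mulVec_smul, hf.smul_right]
  have hPP' : ((P⁻¹ : GL ι F) : Matrix ι ι F) * (P : Matrix ι ι F) = 1 := by
    rw [← Units.val_mul, inv_mul_cancel, Units.val_one]
  have hPP : (P : Matrix ι ι F) * ((P⁻¹ : GL ι F) : Matrix ι ι F) = 1 := by
    rw [← Units.val_mul, mul_inv_cancel, Units.val_one]
  have key : ∀ (A : Matrix (Fin k → Fin d) (Fin k → Fin d) F) (x : (Fin k → Fin d) → F),
      (P : Matrix ι ι F) *ᵥ ((A *ᵥ x) ∘ e) =
        ((P : Matrix ι ι F) * Matrix.reindex e.symm e.symm A * ((P⁻¹ : GL ι F) : Matrix ι ι F)) *ᵥ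
          ((P : Matrix ι ι F) *ᵥ (x ∘ e)) := by
    intro A x
    rw [Matrix.mulVec_mulVec, mul_assoc, mul_assoc, hPP', mul_one, ← Matrix.mulVec_mulVec]
    congr 1
    rw [Matrix.reindex_apply, Matrix.submatrix_mulVec_equiv]
    simp only [Equiv.symm_symm]
    congr 2
    funext a
    simp
  have hrel : ∀ i M x y, f' (factorMat k d i M *ᵥ x) y = f' x (factorMat k d i (τ M) *ᵥ y) := by
    intro i M x y
    rw [hf'app, hf'app, key, key, hφ, hφ, hfac]
  -- the Gram matrix
  obtain ⟨Γ', hΓ'⟩ : ∃ Γ' : Matrix (Fin k → Fin d) (Fin k → Fin d) F,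
      Γ' = Matrix.of (fun a b => f' (Pi.single a 1) (Pi.single b 1)) := ⟨_, rfl⟩
  have hadj : ∀ i M, (factorMat k d i M)ᵀ * Γ' = Γ' * (factorMat k d i (τ M)).map σ := by
    intro i M
    rw [hΓ']
    exact adj_matrix hf' _ _ (hrel i M)
  have h2 : ∀ j M, factorMat k d j M * Γ' =
      Γ' * factorMat k d j ((B'u : Matrix (Fin d) (Fin d) F) * M *
        ((B'u⁻¹ : GL (Fin d) F) : Matrix (Fin d) (Fin d) F)) := by
    intro j M
    have h3 := hadj j Mᵀ
    rw [factorMat_transpose, Matrix.transpose_transpose, factorMat_map, hτσ,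
      Matrix.transpose_transpose] at h3
    exact h3
  obtain ⟨c, hc⟩ := smul_pt_of_rel hd Γ' B'u h2
  obtain ⟨G₀, hG₀⟩ : ∃ G₀ : Matrix (Fin d) (Fin d) F,
      G₀ = ((B'u⁻¹ : GL (Fin d) F) : Matrix (Fin d) (Fin d) F) := ⟨_, rfl⟩
  rw [← hG₀] at hc
  have hG₀u : IsUnit G₀.det := by
    have h1 : G₀ * (B'u : Matrix (Fin d) (Fin d) F) = 1 := by
      rw [hG₀, ← Units.val_mul, inv_mul_cancel, Units.val_one]
    have h3 := congrArg Matrix.det h1
    rw [Matrix.det_mul, Matrix.det_one] at h3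
    exact IsUnit.of_mul_eq_one _ h3
  have hformula : ∀ x y, f' x y = c * ∑ a, ∑ b, x a * (∏ i, G₀ (a i) (b i)) * σ (y b) := by
    intro x y
    rw [sesq_expand hf', Finset.mul_sum]
    apply Finset.sum_congr rfl
    intro a _
    rw [Finset.mul_sum]
    apply Finset.sum_congr rfl
    intro b _
    have h1 : f' (Pi.single a 1) (Pi.single b 1) = Γ' a b := by rw [hΓ']; rfl
    rw [h1, hc, Matrix.smul_apply, pt_apply, smul_eq_mul]
    ring
  refine ⟨G₀, c, hG₀u, ?_, fun x y => by rw [← hf'app, hformula]⟩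
  -- `c ≠ 0`
  rintro rfl
  obtain ⟨i0⟩ := ‹Nonempty ι›
  have hv : (Pi.single i0 1 : ι → F) ≠ 0 := by
    intro h
    have := congrFun h i0
    simp at this
  obtain ⟨⟨x, hx⟩, _⟩ := hnd _ hv
  apply hx
  have hrep : ∀ w : ι → F, (P : Matrix ι ι F) *ᵥ
      (((((P⁻¹ : GL ι F) : Matrix ι ι F) *ᵥ w) ∘ e.symm) ∘ e) = w := by
    intro w
    have : ((((P⁻¹ : GL ι F) : Matrix ι ι F) *ᵥ w) ∘ e.symm) ∘ e =
        ((P⁻¹ : GL ι F) : Matrix ι ι F) *ᵥ w := by
      funext a
      simp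
    rw [this, Matrix.mulVec_mulVec, hPP, Matrix.one_mulVec]
  rw [← hrep x, ← hrep (Pi.single i0 1), ← hf'app, hformula, zero_mul]

end Cfsg.Agent.Lib.Helper54_AschSp_F6c
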