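import Mathlib
import Cfsg.Agent.Lib.Helper98_AschDefs
import Cfsg.Agent.Lib.Helper98_AschMain
import Cfsg.Agent.Lib.Helper23_FormDefs
import Cfsg.Agent.Lib.Helper97_SUDefs
import Cfsg.Agent.Lib.Helper54_AschSp_F6c
import Cfsg.Agent.Lib.Helper94_HermBridge
import Cfsg.Agent.Lib.Helper55_Asch_PK6
import Cfsg.Agent.Lib.Helper4_Asch_PK10
import Cfsg.Agent.Lib.Helper35_Asch_PK11
import Cfsg.Agent.Lib.Helper60_Asch_PK13
import Cfsg.Agent.Lib.Helper32_OrthOdd_OP7b
import Cfsg.Agent.Lib.Helper13_Herm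
import Cfsg.Agent.Lib.Helper31_AschSU_F7u

set_option autoImplicit false

namespace Cfsg.Agent.Lib.Helper23_AschSU_UP7a

open Cfsg Cfsg.Geo Matrix Cfsg.Agent.Lib.Helper98_AschDefs Cfsg.Agent.Lib.Helper23_FormDefs
open Cfsg.Agent.Lib.Helper97_SUDefs

variable {F : Type*} [Field F]

section general

variable {ι : Type} [Fintype ι] [DecidableEq ι]

/-- the normalizer of a spanning group written over a subfield lies in the subfield group -/
lemma le_subfieldSubgroup (N H : Subgroup (GL ι F)) (hspan : spanAlg N = ⊤) (hnorm : NormalizesGrp H N)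
    (F₁ : Subfield F) (B : GL ι F)
    (hB : ∀ s ∈ matrixSet N, ∀ i j, ((B : Matrix ι ι F) * s * ((B⁻¹ : GL ι F) : Matrix ι ι F)) i j ∈ F₁) :
    H ≤ subfieldSubgroup F₁ B⁻¹ := by
  intro h hh
  have hmem : B * h * B⁻¹ ∈ (Matrix.GeneralLinearGroup.map (F₁.subtype : F₁ →+* F)).range ⊔ scalars ι F :=
    Helper35_Asch_PK11.mem_sup_of_entries F₁ _
      (fun i j k l => Helper35_Asch_PK11.entries_mem N hspan F₁ B hB h (hnorm h hh) i j k l)
  refine ⟨B * h * B⁻¹, hmem, ?_⟩
  simp only [MulEquiv.coe_toMonoidHom, MulAut.conj_apply, inv_inv]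
  group

/-- the scalar matrix `c • 1` as an element of `GL` -/
def scalarGL (c : F) (hc : c ≠ 0) : GL ι F :=
  ⟨c • 1, c⁻¹ • 1, by rw [smul_mul_smul_comm, mul_one, mul_inv_cancel₀ hc, one_smul],
    by rw [smul_mul_smul_comm, mul_one, inv_mul_cancel₀ hc, one_smul]⟩

lemma scalarGL_coe (c : F) (hc : c ≠ 0) : ((scalarGL c hc : GL ι F) : Matrix ι ι F) = c • 1 := rfl

lemma scalarGL_comm (c : F) (hc : c ≠ 0) (x : GL ι F) : scalarGL c hc * x = x * scalarGL c hc := by
  apply Units.ext
  rw [Units.val_mul, Units.val_mul, scalarGL_coe, smul_mul_assoc, one_mul, mul_smul_comm, mul_one]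

lemma conj_scalar_mul (P x : GL ι F) (c : F) (hc : c ≠ 0) :
    (scalarGL c hc * P) * x * (scalarGL c hc * P)⁻¹ = P * x * P⁻¹ := by
  have h : scalarGL c hc * (P * x * P⁻¹) = (P * x * P⁻¹) * scalarGL c hc := scalarGL_comm c hc _
  calc (scalarGL c hc * P) * x * (scalarGL c hc * P)⁻¹
      = (scalarGL c hc * (P * x * P⁻¹)) * (scalarGL c hc)⁻¹ := by group
    _ = P * x * P⁻¹ := by rw [h]; group

/-- multiplying the change of basis by a scalar does not change the subfield group -/
lemma subfieldSubgroup_scalar_mul (F₁ : Subfield F) (P : GL ι F) (c : F) (hc : c ≠ 0) :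
    subfieldSubgroup F₁ (scalarGL c hc * P) = subfieldSubgroup F₁ P := by
  unfold subfieldSubgroup
  ext h
  simp only [Subgroup.mem_map, MulEquiv.coe_toMonoidHom, MulAut.conj_apply]
  constructor
  · rintro ⟨x, hx, rfl⟩
    exact ⟨x, hx, (conj_scalar_mul P x c hc).symm⟩
  · rintro ⟨x, hx, rfl⟩
    exact ⟨x, hx, conj_scalar_mul P x c hc⟩

end general


section fieldfacts

variable [Fintype F]

/-- if `|F| = |F₁|^r` with `r` an odd prime, an involutive automorphism of `F` is non-trivial on `F₁` -/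
lemma exists_not_fixed (σ : F ≃+* F) (hσ2 : ∀ a, σ (σ a) = a) (hne : σ ≠ RingEquiv.refl F)
    (F₁ : Subfield F) (r : ℕ) (hodd : Odd r) (hcard : Fintype.card F = Nat.card F₁ ^ r) :
    ∃ θ ∈ F₁, σ θ ≠ θ := by
  classical
  by_contra hcon
  push Not at hcon
  haveI : Fintype F₁ := Fintype.ofFinite _
  -- σ as an `F₁`-algebra automorphism
  let σ' : F ≃ₐ[F₁] F := { σ with commutes' := fun c => hcon c c.2 }
  have hσ'2 : σ' ^ 2 = 1 := by
    ext a
    rw [pow_two]
    exact hσ2 a
  have hσ'1 : σ' ≠ 1 := by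
    intro h
    apply hne
    ext a
    have := congrArg (fun e : F ≃ₐ[F₁] F => e a) h
    exact this
  have hord : orderOf σ' = 2 := orderOf_eq_prime hσ'2 hσ'1
  have hdvd : 2 ∣ Fintype.card (F ≃ₐ[F₁] F) := by
    rw [← hord]
    exact orderOf_dvd_card
  have hgal : Fintype.card (F ≃ₐ[F₁] F) = Module.finrank F₁ F := by
    rw [← Nat.card_eq_fintype_card]
    exact IsGalois.card_aut_eq_finrank F₁ F
  have hfin : Fintype.card F = Fintype.card F₁ ^ Module.finrank F₁ F := Module.card_eq_pow_finrank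
  have h1 : 1 < Fintype.card F₁ := Fintype.one_lt_card
  rw [Nat.card_eq_fintype_card] at hcard
  have hr : Module.finrank F₁ F = r := Nat.pow_right_injective h1 (by
    show Fintype.card F₁ ^ Module.finrank F₁ F = Fintype.card F₁ ^ r
    rw [← hfin, hcard])
  rw [hgal, hr] at hdvd
  exact (Nat.not_even_iff_odd.2 hodd) (even_iff_two_dvd.2 hdvd)

end fieldfacts


section forms

open Cfsg.Agent.Lib.Helper55_Asch_PK6

variable {n : ℕ}

/-- an invertible alternating matrix lives in even dimension -/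
lemma even_of_alternating (G : Matrix (Fin n) (Fin n) F) (hdet : G.det ≠ 0) (hT : Gᵀ = -G)
    (hd : ∀ a, G a a = 0) : Even n := by
  have hsymp : IsSymplecticForm (gramForm G) := by
    refine ⟨gramForm_bilinear G, ?_, ?_, gramForm_nondeg (isUnit_iff_ne_zero.2 hdet)⟩
    · intro v w
      rw [gramForm_swap, hT]
      simp [gramForm, Matrix.neg_mulVec]
    · intro v
      exact bf_alt G hT hd v
  have := Cfsg.Agent.Lib.Helper4_Asch_PK10.PK10e _ hsymp
  rwa [Fintype.card_fin] at this

/-- in characteristic 2 the value `u G u` of a symmetric matrix only sees the diagonal -/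
lemma bf_self_char_two (h2 : (2 : F) = 0) (G : Matrix (Fin n) (Fin n) F) (hsym : ∀ a b, G b a = G a b)
    (u : Fin n → F) : bf G u u = ∑ a, G a a * (u a * u a) := by
  have hneg : ∀ x : F, -x = x := by
    intro x
    have : x + x = 0 := by rw [← two_mul, h2, zero_mul]
    exact neg_eq_of_add_eq_zero_left this
  set D : Matrix (Fin n) (Fin n) F := Matrix.diagonal (fun a => G a a) with hD
  set A : Matrix (Fin n) (Fin n) F := G - D with hA
  have hGA : G = A + D := by rw [hA]; abel
  have hA0 : bf A u u = 0 := by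
    apply bf_alt
    · ext a b
      rw [Matrix.transpose_apply, Matrix.neg_apply, hneg, hA, Matrix.sub_apply, Matrix.sub_apply, hsym b a, hD]
      by_cases hab : a = b
      · subst hab; rfl
      · rw [Matrix.diagonal_apply_ne _ hab, Matrix.diagonal_apply_ne _ (Ne.symm hab)]
    · intro a
      rw [hA, Matrix.sub_apply, hD, Matrix.diagonal_apply_eq, sub_self]
  have hsplit : bf G u u = bf A u u + bf D u u := by
    unfold bf
    rw [hGA, Matrix.add_mulVec, dotProduct_add]
  rw [hsplit, hA0, zero_add]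
  unfold bf dotProduct
  apply Finset.sum_congr rfl
  intro a _
  rw [hD, Matrix.mulVec_diagonal]
  ring

end forms


section chartwo

open Cfsg.Agent.Lib.Helper55_Asch_PK6

variable {n : ℕ} [Fintype F]

lemma sum_sq_char_two (h2 : (2 : F) = 0) {κ : Type*} (t : Finset κ) (x : κ → F) :
    (∑ a ∈ t, x a) * (∑ a ∈ t, x a) = ∑ a ∈ t, x a * x a := by
  classical
  induction t using Finset.induction_on with
  | empty => simp
  | insert a t ha ih =>
    rw [Finset.sum_insert ha, Finset.sum_insert ha, ← ih]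
    have : x a * (∑ b ∈ t, x b) + (∑ b ∈ t, x b) * x a = 0 := by
      rw [mul_comm (∑ b ∈ t, x b), ← two_mul, h2, zero_mul]
    linear_combination this

/-- characteristic 2: a symmetric matrix whose quadratic values on rational vectors are invariant under a
spanning group written over the subfield has zero diagonal -/
lemma diag_zero_char_two (hn : 2 ≤ n) (h2 : (2 : F) = 0) (F₁ : Subfield F)
    (N : Subgroup (GL (Fin n) F)) (hspan : spanAlg N = ⊤) (B : GL (Fin n) F)
    (G : Matrix (Fin n) (Fin n) F) (hsym : ∀ a b, G b a = G a b)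
    (hinv : ∀ x ∈ N, ∀ u : Fin n → F, (∀ i, u i ∈ F₁) →
        bf G (((B : Matrix (Fin n) (Fin n) F) * (x : Matrix (Fin n) (Fin n) F) *
          ((B⁻¹ : GL (Fin n) F) : Matrix (Fin n) (Fin n) F)) *ᵥ u)
          (((B : Matrix (Fin n) (Fin n) F) * (x : Matrix (Fin n) (Fin n) F) *
          ((B⁻¹ : GL (Fin n) F) : Matrix (Fin n) (Fin n) F)) *ᵥ u) = bf G u u) :
    ∀ a, G a a = 0 := by
  classical
  have hchar : ringChar F = 2 := by
    have : (ringChar F) ∣ 2 := by
      apply ringChar.dvd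
      exact_mod_cast h2
    rcases (Nat.dvd_prime Nat.prime_two).1 this with h | h
    · exact absurd h (CharP.ringChar_ne_one)
    · exact h
  have heven : Fintype.card F % 2 = 0 := FiniteField.even_card_of_char_two hchar
  obtain ⟨m, hm⟩ : ∃ m, Fintype.card F = 2 * m := ⟨Fintype.card F / 2, by omega⟩
  set s : Fin n → F := fun a => (G a a) ^ m with hs
  have hss : ∀ a, s a * s a = G a a := by
    intro a
    rw [hs]
    show (G a a) ^ m * (G a a) ^ m = G a a
    rw [← pow_add, ← two_mul, ← hm, FiniteField.pow_card]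
  -- the values of the quadratic map
  have hval : ∀ u : Fin n → F, bf G u u = (s ⬝ᵥ u) * (s ⬝ᵥ u) := by
    intro u
    rw [bf_self_char_two h2 G hsym u]
    unfold dotProduct
    rw [sum_sq_char_two h2]
    apply Finset.sum_congr rfl
    intro a _
    rw [← hss a]
    ring
  have hsq : ∀ a b : F, a * a = b * b → a = b := by
    intro a b hab
    have h1 : (a - b) * (a - b) = 0 := by
      have h3 : a * b + a * b = 0 := by rw [← two_mul, h2, zero_mul]
      have h5 : b * b + b * b = 0 := by rw [← two_mul, h2, zero_mul]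
      linear_combination hab - h3 + h5
    have h4 : a - b = 0 := by
      rcases mul_eq_zero.1 h1 with h | h <;> exact h
    exact sub_eq_zero.1 h4
  set Bi : Matrix (Fin n) (Fin n) F := ((B⁻¹ : GL (Fin n) F) : Matrix (Fin n) (Fin n) F) with hBi
  have hBB : Bi * (B : Matrix (Fin n) (Fin n) F) = 1 := by
    rw [hBi, ← Units.val_mul, inv_mul_cancel, Units.val_one]
  have hBB' : (B : Matrix (Fin n) (Fin n) F) * Bi = 1 := by
    rw [hBi, ← Units.val_mul, mul_inv_cancel, Units.val_one]
  -- `s` is fixed by the transposes of the conjugated group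
  have hfixs : ∀ x ∈ N, s ᵥ* ((B : Matrix (Fin n) (Fin n) F) * (x : Matrix (Fin n) (Fin n) F) * Bi) = s := by
    intro x hx
    funext b
    have hrat : ∀ i, (Pi.single b (1 : F) : Fin n → F) i ∈ F₁ := by
      intro i
      by_cases hib : i = b
      · subst hib; rw [Pi.single_eq_same]; exact one_mem _
      · rw [Pi.single_eq_of_ne hib]; exact zero_mem _
    have h1 := hinv x hx (Pi.single b 1) hrat
    rw [hval, hval] at h1
    have h3 := hsq _ _ h1
    rw [Matrix.dotProduct_mulVec] at h3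
    simpa using h3
  -- the invariant hyperplane
  let φ : (Fin n → F) →ₗ[F] F :=
    { toFun := fun u => s ⬝ᵥ ((B : Matrix (Fin n) (Fin n) F) *ᵥ u)
      map_add' := fun u v => by rw [Matrix.mulVec_add, dotProduct_add]
      map_smul' := fun c u => by rw [Matrix.mulVec_smul, dotProduct_smul]; rfl }
  have hφinv : ∀ x ∈ N, ∀ u, φ ((x : Matrix (Fin n) (Fin n) F) *ᵥ u) = φ u := by
    intro x hx u
    show s ⬝ᵥ ((B : Matrix (Fin n) (Fin n) F) *ᵥ ((x : Matrix (Fin n) (Fin n) F) *ᵥ u)) =
      s ⬝ᵥ ((B : Matrix (Fin n) (Fin n) F) *ᵥ u)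
    have h1 : (B : Matrix (Fin n) (Fin n) F) *ᵥ ((x : Matrix (Fin n) (Fin n) F) *ᵥ u) =
        ((B : Matrix (Fin n) (Fin n) F) * (x : Matrix (Fin n) (Fin n) F) * Bi) *ᵥ
          ((B : Matrix (Fin n) (Fin n) F) *ᵥ u) := by
      rw [Matrix.mulVec_mulVec, Matrix.mulVec_mulVec, mul_assoc, mul_assoc, hBB, mul_one]
    rw [h1, Matrix.dotProduct_mulVec, hfixs x hx]
  have hirr := Helper98_AschMain.irr_of_span hspan
  rcases hirr (LinearMap.ker φ) (by
    rintro _ ⟨x, hx, rfl⟩
    rintro _ ⟨u, hu, rfl⟩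
    rw [Matrix.toLin'_apply]
    change φ _ = 0
    rw [hφinv x hx u]
    exact hu) with hbot | htop
  · exfalso
    have h1 := LinearMap.finrank_range_add_finrank_ker φ
    rw [hbot, finrank_bot, add_zero, Module.finrank_fintype_fun_eq_card, Fintype.card_fin] at h1
    have h2' : Module.finrank F (LinearMap.range φ) ≤ 1 := by
      have := Submodule.finrank_le (LinearMap.range φ)
      rwa [Module.finrank_self] at this
    omega
  · intro a
    have h1 : ∀ u, φ u = 0 := by
      intro u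
      have : u ∈ LinearMap.ker φ := by rw [htop]; trivial
      exact this
    have h3 := h1 (Bi *ᵥ Pi.single a 1)
    change s ⬝ᵥ ((B : Matrix (Fin n) (Fin n) F) *ᵥ (Bi *ᵥ Pi.single a 1)) = 0 at h3
    rw [Matrix.mulVec_mulVec, hBB', Matrix.one_mulVec] at h3
    have h4 : s a = 0 := by simpa using h3
    rw [← hss a, h4, zero_mul]

end chartwo


section main

open Cfsg.Agent.Lib.Helper55_Asch_PK6 Cfsg.Agent.Lib.Helper13_Herm

variable [Fintype F]

/-- UP7a: a spanning normalized group of isometries realisable over a proper subfield: class 5 -/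
theorem UP7a (n q : ℕ) (hF : Fintype.card F = q ^ 2) (hn : 3 ≤ n)
    (H N : Subgroup (GL (Fin n) F)) (hH : H ≤ GU n F q) (hN : N ≤ GU n F q) (hnorm : NormalizesGrp H N)
    (hspan : spanAlg N = ⊤) (F₀ : Subfield F) (hF₀ : F₀ ≠ ⊤) (hreal : RealisableOver F₀ (matrixSet N)) :
    InSUClass n q H := by
  classical
  have hq2 := two_le_q hF
  have hS := isSesq_hermForm n hF
  obtain ⟨F₁, r, hr, hle, hcard⟩ := Helper35_Asch_PK11.exists_prime_index_subfield F₀ hF₀
  obtain ⟨B, hB⟩ := hreal
  have hB₁ : ∀ s ∈ matrixSet N, ∀ i j, ((B : Matrix (Fin n) (Fin n) F) * s *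
      ((B⁻¹ : GL (Fin n) F) : Matrix (Fin n) (Fin n) F)) i j ∈ F₁ := fun s hs i j => hle (hB s hs i j)
  have hHle := le_subfieldSubgroup N H hspan hnorm F₁ B hB₁
  obtain ⟨ζ, hζ, hrat⟩ := Cfsg.Agent.Lib.Helper31_AschSU_F7u.F7u (sigmaQ hF) (hermForm n F q) hS (hermForm_nondegenerate n hF) N hspan
    (fixesForm_of_le_GU hN) F₁ B hB₁
  obtain ⟨Bi, hBi⟩ : ∃ Bi : Matrix (Fin n) (Fin n) F, Bi = ((B⁻¹ : GL (Fin n) F) : Matrix (Fin n) (Fin n) F) :=
    ⟨_, rfl⟩
  have hBB : Bi * (B : Matrix (Fin n) (Fin n) F) = 1 := by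
    rw [hBi, ← Units.val_mul, inv_mul_cancel, Units.val_one]
  have hBB' : (B : Matrix (Fin n) (Fin n) F) * Bi = 1 := by
    rw [hBi, ← Units.val_mul, mul_inv_cancel, Units.val_one]
  rw [← hBi] at hB₁
  have hrat' : ∀ u v : Fin n → F, (∀ i, u i ∈ F₁) → (∀ i, v i ∈ F₁) →
      ζ * hermForm n F q (Bi *ᵥ u) (Bi *ᵥ v) ∈ F₁ := by
    intro u v hu hv
    have := hrat u v hu hv
    rwa [← hBi] at this
  -- the form `g`
  obtain ⟨g, hg⟩ : ∃ g : (Fin n → F) → (Fin n → F) → F,
      g = fun u v => ζ * hermForm n F q (Bi *ᵥ u) (Bi *ᵥ v) := ⟨_, rfl⟩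
  have hgapp : ∀ u v, g u v = ζ * hermForm n F q (Bi *ᵥ u) (Bi *ᵥ v) := fun u v => by rw [hg]
  have hgrat : ∀ u v : Fin n → F, (∀ i, u i ∈ F₁) → (∀ i, v i ∈ F₁) → g u v ∈ F₁ := by
    intro u v hu hv
    rw [hgapp]
    exact hrat' u v hu hv
  have hgS : IsSesq (sigmaQ hF) g := by
    refine ⟨?_, ?_, ?_, ?_⟩
    · intro x y v
      rw [hgapp, hgapp, hgapp, Matrix.mulVec_add, hS.add_left, mul_add]
    · intro c x v
      rw [hgapp, hgapp, Matrix.mulVec_smul, hS.smul_left]
      ring
    · intro v x y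
      rw [hgapp, hgapp, hgapp, Matrix.mulVec_add, hS.add_right, mul_add]
    · intro c v x
      rw [hgapp, hgapp, Matrix.mulVec_smul, hS.smul_right]
      ring
  have hζq : ζ ^ q ≠ 0 := pow_ne_zero _ hζ
  obtain ⟨ε, hε⟩ : ∃ ε : F, ε = ζ / ζ ^ q := ⟨_, rfl⟩
  have hherm : ∀ u v, g v u = ε * (g u v) ^ q := by
    intro u v
    rw [hgapp, hgapp, hermForm_herm n hF (Bi *ᵥ v) (Bi *ᵥ u), mul_pow, hε]
    field_simp
  have hεε : ε * ε ^ q = 1 := by
    rw [hε, div_pow, pow_q_pow_q hF]
    field_simp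
  -- invariance under the conjugated group
  have hginv : ∀ x ∈ N, ∀ u v, g (((B : Matrix (Fin n) (Fin n) F) * (x : Matrix (Fin n) (Fin n) F) * Bi) *ᵥ u)
      (((B : Matrix (Fin n) (Fin n) F) * (x : Matrix (Fin n) (Fin n) F) * Bi) *ᵥ v) = g u v := by
    intro x hx u v
    rw [hgapp, hgapp]
    have h1 : ∀ w : Fin n → F, Bi *ᵥ (((B : Matrix (Fin n) (Fin n) F) * (x : Matrix (Fin n) (Fin n) F) * Bi) *ᵥ w) =
        (x : Matrix (Fin n) (Fin n) F) *ᵥ (Bi *ᵥ w) := by
      intro w
      rw [Matrix.mulVec_mulVec, Matrix.mulVec_mulVec, ← mul_assoc, ← mul_assoc, hBB, one_mul]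
    rw [h1, h1, fixesForm_of_le_GU hN _ (coe_mem_matrixSet hx)]
  -- the Gram matrix
  obtain ⟨G, hG⟩ : ∃ G : Matrix (Fin n) (Fin n) F, G = fun a b => g (Pi.single a 1) (Pi.single b 1) := ⟨_, rfl⟩
  have hGapp : ∀ a b, G a b = g (Pi.single a 1) (Pi.single b 1) := fun a b => by rw [hG]
  have hsingle : ∀ (b : Fin n) (i : Fin n), (Pi.single b (1 : F) : Fin n → F) i ∈ F₁ := by
    intro b i
    by_cases hib : i = b
    · subst hib; rw [Pi.single_eq_same]; exact one_mem _
    · rw [Pi.single_eq_of_ne hib]; exact zero_mem _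
  have hGrat : ∀ a b, G a b ∈ F₁ := fun a b => by
    rw [hGapp]; exact hgrat _ _ (hsingle a) (hsingle b)
  have hexp : ∀ u v, g u v = ∑ a, ∑ b, u a * G a b * (v b) ^ q := by
    intro u v
    rw [Helper54_AschSp_F6c.sesq_expand hgS u v]
    apply Finset.sum_congr rfl
    intro a _
    apply Finset.sum_congr rfl
    intro b _
    rw [hGapp, sigmaQ_apply]
  have hGherm : ∀ a b, G b a = ε * (G a b) ^ q := fun a b => by
    rw [hGapp, hGapp]; exact hherm _ _
  -- `g` is non-degenerate
  have hgnd : IsNondegenerateForm g := by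
    intro v hv
    have hBv : Bi *ᵥ v ≠ 0 := by
      intro h0
      apply hv
      have := congrArg (fun w => (B : Matrix (Fin n) (Fin n) F) *ᵥ w) h0
      simpa [Matrix.mulVec_mulVec, hBB'] using this
    obtain ⟨⟨x, hx⟩, ⟨y, hy⟩⟩ := hermForm_nondegenerate n hF (Bi *ᵥ v) hBv
    constructor
    · refine ⟨(B : Matrix (Fin n) (Fin n) F) *ᵥ x, ?_⟩
      rw [hgapp, Matrix.mulVec_mulVec, hBB, Matrix.one_mulVec]
      exact mul_ne_zero hζ hx
    · refine ⟨(B : Matrix (Fin n) (Fin n) F) *ᵥ y, ?_⟩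
      rw [hgapp, Matrix.mulVec_mulVec, hBB, Matrix.one_mulVec]
      exact mul_ne_zero hζ hy
  have hGdet : G.det ≠ 0 := by
    have := Helper32_OrthOdd_OP7b.gram_det_ne_zero (sigmaQ hF) g hgS.add_left hgS.smul_left hgS.add_right
      hgS.smul_right hgnd
    have hGG : gramMatrix g = G := by
      ext a b
      rw [hGapp]; rfl
    rwa [hGG] at this
  -- a non-zero entry
  obtain ⟨a₀, b₀, hab₀⟩ : ∃ a b, G a b ≠ 0 := by
    by_contra hcon
    push Not at hcon
    apply hGdet
    have : G = 0 := by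
      ext a b
      exact hcon a b
    rw [this]
    haveI : Nonempty (Fin n) := ⟨⟨0, by omega⟩⟩
    exact Matrix.det_zero
  have hε₁ : ε ∈ F₁ := by
    have h1 := hGherm a₀ b₀
    have h2 : ε = G b₀ a₀ / (G a₀ b₀) ^ q := by
      rw [h1]
      field_simp
    rw [h2]
    exact div_mem (hGrat _ _) (pow_mem (hGrat _ _) _)
  rcases Nat.Prime.eq_two_or_odd' hr with h2 | hodd
  · -- `r = 2`: `F₁` is the fixed field of `σ`
    subst h2
    have hq₁ : Nat.card F₁ = q := by
      have h1 : Nat.card F₁ ^ 2 = q ^ 2 := by rw [← hcard, hF]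
      exact Nat.pow_left_injective (by norm_num : (2 : ℕ) ≠ 0) h1
    have hfix₁ : ∀ x ∈ F₁, x ^ q = x := by
      intro x hx
      haveI : Fintype F₁ := Fintype.ofFinite _
      have h := FiniteField.pow_card (⟨x, hx⟩ : F₁)
      rw [← Nat.card_eq_fintype_card, hq₁] at h
      have h' := congrArg Subtype.val h
      simpa using h'
    have hεq : ε ^ q = ε := hfix₁ ε hε₁
    have hε2 : ε * ε = 1 := by rw [hεq] at hεε; exact hεε
    have hGsym : ∀ a b, G b a = ε * G a b := fun a b => by rw [hGherm, hfix₁ _ (hGrat a b)]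
    have hgbf : ∀ u : Fin n → F, (∀ i, u i ∈ F₁) → g u u = bf G u u := by
      intro u hu
      rw [hexp]
      unfold bf dotProduct Matrix.mulVec dotProduct
      apply Finset.sum_congr rfl
      intro a _
      rw [Finset.mul_sum]
      apply Finset.sum_congr rfl
      intro b _
      rw [hfix₁ _ (hu b)]
      ring
    have hcard2 : Fintype.card F = Nat.card F₁ ^ 2 := hcard
    -- the third type, from an alternating `G`
    have third : (Gᵀ = -G) → (∀ a, G a a = 0) → ζ + ζ ^ q = 0 → InSUClass n q H := by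
      intro hT hdiag hζsum
      have hevn : Even n := even_of_alternating G hGdet hT hdiag
      have hiso : ∀ u : Fin n → F, (∀ i, u i ∈ F₁) →
          hermForm n F q (((B⁻¹ : GL (Fin n) F) : Matrix (Fin n) (Fin n) F) *ᵥ u)
            (((B⁻¹ : GL (Fin n) F) : Matrix (Fin n) (Fin n) F) *ᵥ u) = 0 := by
        intro u hu
        have h1 : g u u = 0 := by rw [hgbf u hu]; exact bf_alt G hT hdiag u
        rw [hgapp, hBi] at h1
        rcases mul_eq_zero.1 h1 with h | h
        · exact absurd h hζ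
        · exact h
      refine ⟨subfieldSubgroup F₁ B⁻¹ ⊓ GU n F q, ?_, le_inf hHle hH⟩
      exact Or.inl (Or.inr (Or.inr (Or.inr (Or.inr (Or.inr (Or.inr (Or.inl
        ⟨F₁, B⁻¹, ζ, hevn, hcard2, hζ, hζsum, hrat, hiso, rfl⟩)))))))
    by_cases hε1 : ε = 1
    · have hζq' : ζ ^ q = ζ := by
        have h1 : ζ = ε * ζ ^ q := by rw [hε]; field_simp
        rw [hε1, one_mul] at h1
        exact h1.symm
      by_cases hqodd : Odd q
      · -- second type
        have hζ₁ : ζ ∈ F₁ :=
          Helper60_Asch_PK13.mem_of_pow_card_eq_self F₁ ζ (by rw [hq₁]; exact hζq')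
        have hrat1 : IsFormRationalStructure (hermForm n F q) F₁ 1 B⁻¹ := by
          intro u v hu hv
          have h1 := hrat u v hu hv
          rw [one_mul]
          have h2 : hermForm n F q (((B⁻¹ : GL (Fin n) F) : Matrix (Fin n) (Fin n) F) *ᵥ u)
              (((B⁻¹ : GL (Fin n) F) : Matrix (Fin n) (Fin n) F) *ᵥ v) =
              ζ⁻¹ * (ζ * hermForm n F q (((B⁻¹ : GL (Fin n) F) : Matrix (Fin n) (Fin n) F) *ᵥ u)
              (((B⁻¹ : GL (Fin n) F) : Matrix (Fin n) (Fin n) F) *ᵥ v)) := by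
            rw [← mul_assoc, inv_mul_cancel₀ hζ, one_mul]
          rw [h2]
          exact mul_mem (inv_mem hζ₁) h1
        refine ⟨subfieldSubgroup F₁ B⁻¹ ⊓ GU n F q, ?_, le_inf hHle hH⟩
        exact Or.inl (Or.inr (Or.inr (Or.inr (Or.inr (Or.inr (Or.inl
          ⟨F₁, B⁻¹, hqodd, hcard2, hrat1, rfl⟩))))))
      · -- characteristic 2
        have hqeven : Even q := Nat.not_odd_iff_even.1 hqodd
        have hchar : ringChar F = 2 := by
          rw [FiniteField.even_card_iff_char_two, hF]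
          obtain ⟨k, hk⟩ := hqeven
          rw [hk]
          ring_nf
          omega
        have h2F : (2 : F) = 0 := by
          have := ringChar.Nat.cast_ringChar (R := F)
          rw [hchar] at this
          exact_mod_cast this
        have hneg : ∀ x : F, -x = x := by
          intro x
          have : x + x = 0 := by rw [← two_mul, h2F, zero_mul]
          exact neg_eq_of_add_eq_zero_left this
        have hsym : ∀ a b, G b a = G a b := fun a b => by rw [hGsym, hε1, one_mul]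
        have hdiag : ∀ a, G a a = 0 := by
          apply diag_zero_char_two (by omega) h2F F₁ N hspan B G hsym
          intro x hx u hu
          rw [← hBi]
          have hXrat : ∀ i, ((((B : Matrix (Fin n) (Fin n) F) * (x : Matrix (Fin n) (Fin n) F) * Bi)) *ᵥ u) i ∈ F₁ := by
            intro i
            unfold Matrix.mulVec dotProduct
            exact sum_mem (fun j _ => mul_mem (hB₁ _ (coe_mem_matrixSet hx) i j) (hu j))
          rw [← hgbf _ hXrat, ← hgbf u hu, hginv x hx]
        have hT : Gᵀ = -G := by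
          ext a b
          rw [Matrix.transpose_apply, Matrix.neg_apply, hneg, hsym]
        apply third hT hdiag
        rw [hζq', ← two_mul, h2F, zero_mul]
    · -- `ε = -1`
      have hεm : ε = -1 := by
        rcases mul_self_eq_one_iff.1 hε2 with h | h
        · exact absurd h hε1
        · exact h
      have h2F : (2 : F) ≠ 0 := by
        intro h
        apply hε1
        rw [hεm]
        have : (1 : F) + 1 = 0 := by rw [one_add_one_eq_two, h]
        exact neg_eq_of_add_eq_zero_left this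
      have hskew : ∀ a b, G b a = - G a b := fun a b => by rw [hGsym, hεm]; ring
      have hdiag : ∀ a, G a a = 0 := by
        intro a
        have h1 := hskew a a
        have h3 : (2 : F) * G a a = 0 := by linear_combination h1
        rcases mul_eq_zero.1 h3 with h | h
        · exact absurd h h2F
        · exact h
      have hT : Gᵀ = -G := by
        ext a b
        rw [Matrix.transpose_apply, Matrix.neg_apply, hskew]
      apply third hT hdiag
      have h1 : ζ = ε * ζ ^ q := by rw [hε]; field_simp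
      rw [hεm] at h1
      linear_combination h1
  · -- `r` odd
    obtain ⟨θ, hθ₁, hθ⟩ := exists_not_fixed (sigmaQ hF) (sigmaQ_sigmaQ hF) (sigmaQ_ne_refl hF) F₁ r hodd hcard
    rw [sigmaQ_apply] at hθ
    have hνgen : ∀ t : F, (t + ε ^ q * t ^ q) ^ q = ε * (t + ε ^ q * t ^ q) := by
      intro t
      rw [add_pow_q hF, mul_pow, pow_q_pow_q hF, pow_q_pow_q hF, mul_add, ← mul_assoc, hεε, one_mul]
      ring
    obtain ⟨ν, hν₁, hν0, hνq⟩ : ∃ ν ∈ F₁, ν ≠ 0 ∧ ν ^ q = ε * ν := by
      by_cases h1 : (1 : F) + ε ^ q * 1 ^ q = 0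
      · refine ⟨θ + ε ^ q * θ ^ q, add_mem hθ₁ (mul_mem (pow_mem hε₁ _) (pow_mem hθ₁ _)), ?_, hνgen θ⟩
        have h2 : ε ^ q = -1 := by
          rw [one_pow, mul_one] at h1
          exact eq_neg_of_add_eq_zero_right h1
        rw [h2]
        intro h3
        apply hθ
        linear_combination -h3
      · exact ⟨1 + ε ^ q * 1 ^ q, add_mem (one_mem _) (mul_mem (pow_mem hε₁ _) (pow_mem (one_mem _) _)),
          h1, hνgen 1⟩
    obtain ⟨κ, hκ⟩ : ∃ κ : F, κ = ζ * ν := ⟨_, rfl⟩
    have hκ0 : κ ≠ 0 := by rw [hκ]; exact mul_ne_zero hζ hν0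
    have hκq : κ ^ q = κ := by
      rw [hκ, mul_pow, hνq, hε]
      field_simp
    obtain ⟨σ', hσ', hInv⟩ := Helper94_HermBridge.exists_frob hF
    obtain ⟨c, hc⟩ := Helper94_Herm.norm_surj hInv κ (by rw [hσ', hκq])
    rw [hσ'] at hc
    have hc0 : c ≠ 0 := by
      rintro rfl
      rw [zero_mul] at hc
      exact hκ0 hc.symm
    obtain ⟨P, hP⟩ : ∃ P : GL (Fin n) F, P = scalarGL c hc0 * B⁻¹ := ⟨_, rfl⟩
    have hPle : H ≤ subfieldSubgroup F₁ P := by
      rw [hP, subfieldSubgroup_scalar_mul]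
      exact hHle
    have hPrat : IsFormRationalStructure (hermForm n F q) F₁ 1 P := by
      intro u v hu hv
      have hPw : ∀ w : Fin n → F, (P : Matrix (Fin n) (Fin n) F) *ᵥ w = c • (Bi *ᵥ w) := by
        intro w
        rw [hP, Units.val_mul, scalarGL_coe, ← hBi, Matrix.smul_mul, Matrix.one_mul, Matrix.smul_mulVec]
      rw [hPw, hPw, hS.smul_left, hS.smul_right, sigmaQ_apply, one_mul]
      have h1 : c * (c ^ q * hermForm n F q (Bi *ᵥ u) (Bi *ᵥ v)) = ν * g u v := by
        rw [hgapp, ← mul_assoc, hc, hκ]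
        ring
      rw [h1]
      exact mul_mem hν₁ (hgrat u v hu hv)
    refine ⟨subfieldSubgroup F₁ P ⊓ GU n F q, ?_, le_inf hPle hH⟩
    exact Or.inl (Or.inr (Or.inr (Or.inr (Or.inr (Or.inl ⟨F₁, r, P, hr, hodd, hcard, hPrat, rfl⟩)))))

end main

end Cfsg.Agent.Lib.Helper23_AschSU_UP7a
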