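import Mathlib
import Cfsg.Agent.Lib.Helper98_AschDefs
import Cfsg.Agent.Lib.Helper23_FormDefs
import Cfsg.Agent.Lib.Helper70_Form_F1

/-!
# Glue for S5662 (Aschbacher's theorem for the symplectic groups): the reducible case (helper23)
-/

set_option autoImplicit false

namespace Cfsg.Agent.Lib.Helper23_AschSp_Glue

open Cfsg Cfsg.Geo Matrix Cfsg.Agent.Lib.Helper98_AschDefs Cfsg.Agent.Lib.Helper23_FormDefs

variable {ι : Type} [Fintype ι] [DecidableEq ι] {F : Type*} [Field F]

lemma map_eq_of_mem_stab (U : Submodule F (ι → F)) (g : GL ι F) (hg : g ∈ subspaceStabilizer U) :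
    U.map (Matrix.toLin' (g : Matrix ι ι F)) = U := by
  have hg' : ∀ v, v ∈ U ↔ (g : Matrix ι ι F) *ᵥ v ∈ U := hg
  apply le_antisymm
  · rintro _ ⟨v, hv, rfl⟩
    rw [Matrix.toLin'_apply]
    exact (hg' v).1 hv
  · intro w hw
    refine ⟨((g⁻¹ : GL ι F) : Matrix ι ι F) *ᵥ w, ?_, ?_⟩
    · apply (hg' _).2
      rw [Matrix.mulVec_mulVec, ← Units.val_mul, mul_inv_cancel, Units.val_one, Matrix.one_mulVec]
      exact hw
    · rw [Matrix.toLin'_apply, Matrix.mulVec_mulVec, ← Units.val_mul, mul_inv_cancel, Units.val_one,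
        Matrix.one_mulVec]

/-- F1b: an orthogonal splitting either has a small member or is a nondegenerate 2-decomposition -/
theorem F1b (f : (ι → F) → (ι → F) → F) (H : Subgroup (GL ι F))
    (U U' : Submodule F (ι → F)) (hU : U ≠ ⊥) (hU' : U' ≠ ⊥) (hinf : U ⊓ U' = ⊥) (hsup : U ⊔ U' = ⊤)
    (h1 : AreOrthogonalFor f U U') (h2 : AreOrthogonalFor f U' U) (hn : IsNondegenerateOn f U)
    (hn' : IsNondegenerateOn f U') (hle : Module.finrank F U ≤ Module.finrank F U')
    (hs : H ≤ subspaceStabilizer U) (hs' : H ≤ subspaceStabilizer U') :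
    2 * Module.finrank F U < Fintype.card ι ∨
    ∃ (k : ℕ) (D : Fin 2 → Submodule F (ι → F)), IsNondegenerateMDecomposition f k D ∧
      H ≤ decompositionStabilizer D := by
  have hfin : Module.finrank F U + Module.finrank F U' = Fintype.card ι := by
    have h := Submodule.finrank_sup_add_finrank_inf_eq U U'
    rw [hsup, hinf, finrank_bot, finrank_top, Module.finrank_fintype_fun_eq_card, add_zero] at h
    exact h.symm
  by_cases hlt : 2 * Module.finrank F U < Fintype.card ι
  · exact Or.inl hlt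
  right
  have heq : Module.finrank F U' = Module.finrank F U := by omega
  have hpos : 0 < Module.finrank F U := by
    rw [Module.finrank_pos_iff]
    exact Submodule.nontrivial_iff_ne_bot.2 hU
  refine ⟨Module.finrank F U, ![U, U'], ⟨⟨le_refl 2, hpos, ?_, ?_, ?_⟩, ?_, ?_⟩, ?_⟩
  · intro i
    fin_cases i
    · rfl
    · exact heq
  · rw [iSupIndep_pair (i := (0 : Fin 2)) (j := 1) (by decide) (by intro k; fin_cases k <;> simp)]
    exact disjoint_iff.2 hinf
  · rw [eq_top_iff, ← hsup]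
    exact sup_le (le_iSup ![U, U'] 0) (le_iSup ![U, U'] 1)
  · intro i
    fin_cases i
    · exact hn
    · exact hn'
  · intro i j hij
    fin_cases i <;> fin_cases j
    · exact absurd rfl hij
    · exact h1
    · exact h2
    · exact absurd rfl hij
  · intro g hg
    refine ⟨1, fun i => ?_⟩
    fin_cases i
    · exact map_eq_of_mem_stab U g (hs hg)
    · exact map_eq_of_mem_stab U' g (hs' hg)

variable [Fintype F]

/-- SP1: the reducible case of the symplectic theorem -/
theorem SP1 (m : ℕ) (H : Subgroup (GL (Fin m ⊕ Fin m) F)) (hH : H ≤ spGL m F)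
    (W : Submodule F (Fin m ⊕ Fin m → F)) (hW0 : W ≠ ⊥) (hWtop : W ≠ ⊤)
    (hinv : ∀ h ∈ H, W.map (Matrix.toLin' (h : Matrix (Fin m ⊕ Fin m) (Fin m ⊕ Fin m) F)) ≤ W) :
    InSpClass m H := by
  have hf := isSymplecticForm_sympForm (F := F) m
  rcases Cfsg.Agent.Lib.Helper70_Form_F1.F1 (RingEquiv.refl F) (sympForm m F) (isSesq_of_bilinear hf.bilinear)
    hf.nondegenerate (isRefl_of_symplectic hf) H (fixesForm_of_le_spGL hH) W hW0 hWtop hinv with
    ⟨U, hU0, hUts, hle⟩ | ⟨U, U', hU, hU', hinf, hsup, h1, h2, hn, hn', hfr, hs, hs'⟩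
  · exact ⟨subspaceStabilizer U ⊓ spGL m F, Or.inl (Or.inl ⟨U, hU0, hUts, rfl⟩), le_inf hle hH⟩
  · rcases F1b (sympForm m F) H U U' hU hU' hinf hsup h1 h2 hn hn' hfr hs hs' with hlt | ⟨k, D, hD, hDle⟩
    · refine ⟨subspaceStabilizer U ⊓ spGL m F, Or.inl (Or.inr (Or.inl ⟨U, hU, hn, ?_, rfl⟩)), le_inf hs hH⟩
      rw [Fintype.card_sum, Fintype.card_fin] at hlt
      omega
    · exact ⟨decompositionStabilizer D ⊓ spGL m F, Or.inl (Or.inr (Or.inr (Or.inl ⟨2, k, D, hD, rfl⟩))),
        le_inf hDle hH⟩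

end Cfsg.Agent.Lib.Helper23_AschSp_Glue
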