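import Mathlib
import Cfsg.Agent.Lib.Helper98_AschDefs
import Cfsg.Agent.Lib.Helper98_AschCliff
import Cfsg.Agent.Lib.Helper23_FormDefs
import Cfsg.Agent.Lib.Helper52_Asch_PK7
import Cfsg.Agent.Lib.Helper50_Asch_PKN2

set_option autoImplicit false

/-!
# Package S5662-SP5b (helper23): an extraspecial 2-group spanning the matrix algebra and fixing the
alternating form is of minus type.
-/

namespace Cfsg.Agent.Lib.Helper70_AschSp_SP5b

open Cfsg Cfsg.Geo Matrix Cfsg.Agent.Lib.Helper98_AschDefs Cfsg.Agent.Lib.Helper23_FormDefs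
open scoped Kronecker

section core

variable {F : Type*} [Field F] {V : Type*} [AddCommGroup V] [Module F V] [FiniteDimensional F V]

/-- a linearly independent commuting family of involutions (characteristic not 2) stays linearly
independent when evaluated at a suitable vector -/
theorem exists_vector {κ : Type*} [Fintype κ] (h2 : (2 : F) ≠ 0) (T : κ → Module.End F V)
    (hsq : ∀ q, T q * T q = 1) (hcomm : ∀ q q', T q * T q' = T q' * T q)
    (hli : LinearIndependent F T) :
    ∃ v : V, LinearIndependent F (fun q => T q v) := by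
  classical
  have hss : ∀ q, (T q).IsSemisimple := by
    intro q
    apply Module.End.isSemisimple_of_squarefree_aeval_eq_zero
      ((Polynomial.X_pow_sub_one_separable_iff.2 (by exact_mod_cast h2 : ((2 : ℕ) : F) ≠ 0)).squarefree)
    rw [map_sub, map_pow, Polynomial.aeval_X, map_one, pow_two, hsq, sub_self]
  have hgen : ∀ q μ, (T q).maxGenEigenspace μ = (T q).eigenspace μ := fun q μ =>
    (hss q).isFinitelySemisimple.maxGenEigenspace_eq_eigenspace μ
  have hTT : ∀ q v, T q (T q v) = v := by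
    intro q v
    have := congrArg (fun S : Module.End F V => S v) (hsq q)
    simpa using this
  have htop : ∀ q, ⨆ μ, (T q).maxGenEigenspace μ = ⊤ := by
    intro q
    rw [eq_top_iff]
    intro v _
    have hv : v = (2⁻¹ : F) • (v + T q v) + (2⁻¹ : F) • (v - T q v) := by
      rw [← smul_add, add_add_sub_cancel, ← two_smul F v, smul_smul, inv_mul_cancel₀ h2, one_smul]
    rw [hv]
    apply Submodule.add_mem
    · apply Submodule.mem_iSup_of_mem (1 : F)
      rw [hgen, Module.End.mem_eigenspace_iff, map_smul, map_add, hTT, one_smul, add_comm]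
    · apply Submodule.mem_iSup_of_mem (-1 : F)
      rw [hgen, Module.End.mem_eigenspace_iff, map_smul, map_sub, hTT, neg_one_smul, ← smul_neg,
        neg_sub]
  have hjoint : ⨆ χ : κ → F, ⨅ q, (T q).maxGenEigenspace (χ q) = ⊤ :=
    Module.End.iSup_iInf_maxGenEigenspace_eq_top_of_iSup_maxGenEigenspace_eq_top_of_commute T
      (fun q q' _ => hcomm q q') htop
  have hind : iSupIndep (fun χ : κ → F => ⨅ q, (T q).maxGenEigenspace (χ q)) :=
    Module.End.independent_iInf_maxGenEigenspace_of_forall_mapsTo T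
      (fun i j φ => Module.End.mapsTo_maxGenEigenspace_of_comm (hcomm j i) φ)
  set W : (κ → F) → Submodule F V := fun χ => ⨅ q, (T q).maxGenEigenspace (χ q) with hWdef
  have hW : ∀ χ v, v ∈ W χ → ∀ q, T q v = χ q • v := by
    intro χ v hv q
    have h1 : v ∈ (T q).maxGenEigenspace (χ q) := (Submodule.mem_iInf _).1 hv q
    rw [hgen, Module.End.mem_eigenspace_iff] at h1
    exact h1
  have hex : ∀ s : {χ : κ → F // W χ ≠ ⊥}, ∃ v ∈ W s.1, v ≠ 0 := fun s =>
    Submodule.exists_mem_ne_zero_of_ne_bot s.2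
  choose w hwmem hwne using hex
  have hfinS : Finite {χ : κ → F // W χ ≠ ⊥} := by
    have hli0 : LinearIndependent F w :=
      (hind.comp Subtype.val_injective).linearIndependent _ hwmem hwne
    exact hli0.finite
  have : Fintype {χ : κ → F // W χ ≠ ⊥} := Fintype.ofFinite _
  have hwli : LinearIndependent F w :=
    (hind.comp Subtype.val_injective).linearIndependent _ hwmem hwne
  refine ⟨∑ s, w s, ?_⟩
  rw [Fintype.linearIndependent_iff]
  intro c hc
  set Bc : Module.End F V := ∑ q, c q • T q with hBc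
  have hBw : ∀ s, Bc (w s) = (∑ q, c q * s.1 q) • w s := by
    intro s
    rw [hBc, LinearMap.sum_apply, Finset.sum_smul]
    apply Finset.sum_congr rfl
    intro q _
    rw [LinearMap.smul_apply, hW s.1 (w s) (hwmem s) q, smul_smul]
  have hBv : Bc (∑ s, w s) = 0 := by
    rw [hBc, LinearMap.sum_apply]
    rw [← hc]
    apply Finset.sum_congr rfl
    intro q _
    rw [LinearMap.smul_apply]
  have hlam : ∀ s : {χ : κ → F // W χ ≠ ⊥}, (∑ q, c q * s.1 q) = 0 := by
    rw [map_sum] at hBv
    have h3 : ∑ s, (∑ q, c q * s.1 q) • w s = 0 := by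
      rw [← hBv]
      apply Finset.sum_congr rfl
      intro s _
      rw [hBw]
    exact Fintype.linearIndependent_iff.1 hwli _ h3
  have hB0 : Bc = 0 := by
    apply LinearMap.ext
    intro u
    have hu : u ∈ ⨆ χ : κ → F, W χ := by rw [hjoint]; trivial
    rw [LinearMap.zero_apply]
    induction hu using Submodule.iSup_induction' with
    | mem χ x hx =>
      by_cases hχ : W χ = ⊥
      · rw [hχ, Submodule.mem_bot] at hx
        rw [hx, map_zero]
      · have h4 : Bc x = (∑ q, c q * χ q) • x := by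
          rw [hBc, LinearMap.sum_apply, Finset.sum_smul]
          apply Finset.sum_congr rfl
          intro q _
          rw [LinearMap.smul_apply, hW χ x hx q, smul_smul]
        rw [h4, hlam ⟨χ, hχ⟩, zero_smul]
    | zero => exact map_zero _
    | add x y _ _ hx hy => rw [map_add, hx, hy, add_zero]
  exact Fintype.linearIndependent_iff.1 hli c hB0

end core

section form

variable {ι : Type} [Fintype ι] [DecidableEq ι] {F : Type*} [Field F]

/-- a linearly independent family of commuting involutory isometries of a symplectic form has fewer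
members than the dimension -/
theorem card_lt [Nonempty ι] (h2 : (2 : F) ≠ 0) (f : (ι → F) → (ι → F) → F)
    (hf : IsSymplecticForm f) {κ : Type*} [Fintype κ] (b : κ → Matrix ι ι F)
    (hsq : ∀ q, b q * b q = 1) (hcomm : ∀ q q', b q * b q' = b q' * b q)
    (hiso : ∀ q u w, f (b q *ᵥ u) (b q *ᵥ w) = f u w) (hli : LinearIndependent F b) :
    Fintype.card κ < Fintype.card ι := by
  classical
  by_contra hge
  rw [not_lt] at hge
  set T : κ → Module.End F (ι → F) := fun q => Matrix.toLin' (b q) with hT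
  have hTsq : ∀ q, T q * T q = 1 := by
    intro q
    rw [hT]
    show Matrix.toLin' (b q) * Matrix.toLin' (b q) = 1
    rw [Module.End.mul_eq_comp, ← Matrix.toLin'_mul, hsq, Matrix.toLin'_one]
    rfl
  have hTcomm : ∀ q q', T q * T q' = T q' * T q := by
    intro q q'
    show Matrix.toLin' (b q) * Matrix.toLin' (b q') = Matrix.toLin' (b q') * Matrix.toLin' (b q)
    rw [Module.End.mul_eq_comp, Module.End.mul_eq_comp, ← Matrix.toLin'_mul, ← Matrix.toLin'_mul,
      hcomm]
  have hTli : LinearIndependent F T :=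
    hli.map' (Matrix.toLin' : Matrix ι ι F ≃ₗ[F] _).toLinearMap (LinearEquiv.ker _)
  obtain ⟨v, hv⟩ := exists_vector h2 T hTsq hTcomm hTli
  have hcard : Fintype.card κ = Module.finrank F (ι → F) := by
    have h1 := hv.fintype_card_le_finrank
    rw [Module.finrank_fintype_fun_eq_card] at h1 ⊢
    omega
  have hspan : Submodule.span F (Set.range (fun q => T q v)) = ⊤ :=
    hv.span_eq_top_of_card_eq_finrank' hcard
  have hTv : ∀ q u, T q u = b q *ᵥ u := fun q u => Matrix.toLin'_apply _ _
  -- self-adjointness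
  have hadj : ∀ q u w, f (b q *ᵥ u) w = f u (b q *ᵥ w) := by
    intro q u w
    have h1 := hiso q u (b q *ᵥ w)
    rw [Matrix.mulVec_mulVec, hsq, Matrix.one_mulVec] at h1
    exact h1
  have hzero : ∀ q q', f (T q v) (T q' v) = 0 := by
    intro q q'
    rw [hTv, hTv]
    have h1 : f (b q *ᵥ v) (b q' *ᵥ v) = f v (b q *ᵥ (b q' *ᵥ v)) := hadj q v _
    have h5 : b q' *ᵥ (b q *ᵥ v) = b q *ᵥ (b q' *ᵥ v) := by
      rw [Matrix.mulVec_mulVec, Matrix.mulVec_mulVec, hcomm]
    have h3 : f (b q *ᵥ v) (b q' *ᵥ v) = - f v (b q *ᵥ (b q' *ᵥ v)) := by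
      calc f (b q *ᵥ v) (b q' *ᵥ v) = f (b q' *ᵥ (b q *ᵥ v)) v := (hadj q' _ v).symm
        _ = f (b q *ᵥ (b q' *ᵥ v)) v := by rw [h5]
        _ = - f v (b q *ᵥ (b q' *ᵥ v)) := hf.skew _ _
    rw [h1] at h3 ⊢
    have h4 : (2 : F) * f v (b q *ᵥ b q' *ᵥ v) = 0 := by
      rw [two_mul]
      nth_rewrite 1 [h3]
      rw [neg_add_cancel]
    rcases mul_eq_zero.1 h4 with h | h
    · exact absurd h h2
    · exact h
  have hf0r : ∀ x, f x 0 = 0 := by
    intro x
    have := hf.bilinear.smul_right 0 x 0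
    rwa [zero_smul, zero_mul] at this
  have hf0l : ∀ x, f 0 x = 0 := by
    intro x
    have := hf.bilinear.smul_left 0 0 x
    rwa [zero_smul, zero_mul] at this
  have hz1 : ∀ q w, f (T q v) w = 0 := by
    intro q w
    have hw : w ∈ Submodule.span F (Set.range (fun q => T q v)) := by rw [hspan]; trivial
    induction hw using Submodule.span_induction with
    | mem x hx =>
      obtain ⟨q', rfl⟩ := hx
      exact hzero q q'
    | zero => exact hf0r _
    | add x y _ _ hx hy => rw [hf.bilinear.add_right, hx, hy, add_zero]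
    | smul c x _ hx => rw [hf.bilinear.smul_right, hx, mul_zero]
  have hz2 : ∀ u w, f u w = 0 := by
    intro u w
    have hu : u ∈ Submodule.span F (Set.range (fun q => T q v)) := by rw [hspan]; trivial
    induction hu using Submodule.span_induction with
    | mem x hx =>
      obtain ⟨q, rfl⟩ := hx
      exact hz1 q w
    | zero => exact hf0l _
    | add x y _ _ hx hy => rw [hf.bilinear.add_left, hx, hy, add_zero]
    | smul c x _ hx => rw [hf.bilinear.smul_left, hx, mul_zero]
  obtain ⟨i⟩ := ‹Nonempty ι›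
  have hne : (Pi.single i 1 : ι → F) ≠ 0 := by
    intro h
    have := congrFun h i
    simp at this
  obtain ⟨⟨x, hx⟩, -⟩ := hf.nondegenerate _ hne
  exact hx (hz2 _ _)

end form

section Sp

variable {F : Type*} [Field F] [Fintype F]

/-- SP5b: an extraspecial 2-group spanning the matrix algebra and fixing an alternating form is of minus type -/
theorem SP5b (m : ℕ) (hodd : Odd (Fintype.card F)) (N : Subgroup (GL (Fin m ⊕ Fin m) F)) (hN : N ≤ spGL m F)
    (hspan : spanAlg N = ⊤) (hcomm : ⁅N, N⁆ ≤ scalars (Fin m ⊕ Fin m) F)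
    (k : ℕ) (hcard : Nat.card N = 2 ^ (1 + 2 * k)) (hcen : Nat.card (Subgroup.center N) = 2) :
    IsOfMinusType k N := by
  classical
  intro A hA hA2
  by_contra hge
  rw [not_lt] at hge
  have h2 : (2 : F) ≠ 0 := by
    apply Ring.two_ne_zero
    intro h
    have h1 := FiniteField.even_card_iff_char_two.1 h
    have h3 := Nat.odd_iff.1 hodd
    omega
  have hne : Nonempty (Fin m ⊕ Fin m) := by
    by_contra hemp
    rw [not_nonempty_iff] at hemp
    have hsub : Subsingleton (GL (Fin m ⊕ Fin m) F) := ⟨fun a b => Units.ext (Subsingleton.elim _ _)⟩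
    have : Nat.card N = 1 := Nat.card_unique
    rw [this] at hcard
    have : 2 ∣ 2 ^ (1 + 2 * k) := dvd_pow_self 2 (by omega)
    omega
  have hPK7 := Cfsg.Agent.Lib.Helper52_Asch_PK7.PK7 N hspan hcomm
  have hcc := Cfsg.Agent.Lib.Helper50_Asch_PKN2.card_center_eq N hspan
  rw [← hcc, hcen, hcard] at hPK7
  have hn : Fintype.card (Fin m ⊕ Fin m) = 2 ^ k := by
    have h3 : Fintype.card (Fin m ⊕ Fin m) ^ 2 = (2 ^ k) ^ 2 := by
      have h4 : (2 : ℕ) ^ (1 + 2 * k) = 2 * (2 ^ k) ^ 2 := by
        rw [pow_add, pow_one, ← pow_mul, mul_comm k 2]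
      rw [h4] at hPK7
      omega
    exact Nat.pow_left_injective (by norm_num : (2 : ℕ) ≠ 0) h3
  -- the scalar elements of `A`
  set ZA : Subgroup ↥A := (Subgroup.center ↥N).subgroupOf A with hZA
  have hZAcard : Nat.card ZA ≤ 2 := by
    rw [← hcen]
    apply Nat.card_le_card_of_injective
      (fun z : ZA => (⟨((z : ↥A) : ↥N), Subgroup.mem_subgroupOf.1 z.2⟩ : Subgroup.center ↥N))
    intro z z' hzz'
    have h1 := congrArg (fun w : Subgroup.center ↥N => (w : ↥N)) hzz'
    exact Subtype.ext (Subtype.ext h1)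
  have hZApos : 0 < Nat.card ZA := Nat.card_pos
  have hidx := Subgroup.card_eq_card_quotient_mul_card_subgroup ZA
  have : Fintype (↥A ⧸ ZA) := Fintype.ofFinite _
  have hκ : Fintype.card (Fin m ⊕ Fin m) ≤ Fintype.card (↥A ⧸ ZA) := by
    rw [hn, ← Nat.card_eq_fintype_card]
    rw [hidx, pow_succ] at hge
    by_contra hlt
    rw [not_le] at hlt
    have h5 : Nat.card (↥A ⧸ ZA) * Nat.card ZA < 2 ^ k * 2 :=
      lt_of_le_of_lt (Nat.mul_le_mul_left _ hZAcard) (Nat.mul_lt_mul_of_pos_right hlt (by norm_num))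
    omega
  -- representatives
  set x : (↥A ⧸ ZA) → GL (Fin m ⊕ Fin m) F := fun q => (((Quotient.out q : ↥A) : ↥N) : GL _ F) with hx
  have hxN : ∀ q, x q ∈ N := fun q => ((Quotient.out q : ↥A) : ↥N).2
  have hxne : ∀ q q', q ≠ q' → (x q)⁻¹ * x q' ∉ scalars (Fin m ⊕ Fin m) F := by
    intro q q' hqq' hmem
    apply hqq'
    have h1 : ((Quotient.out q : ↥A)⁻¹ * (Quotient.out q' : ↥A)) ∈ ZA := by
      change _ ∈ (Subgroup.center ↥N).subgroupOf A
      rw [Subgroup.mem_subgroupOf, Cfsg.Agent.Lib.Helper50_Asch_PKN2.center_eq N hspan,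
        Subgroup.mem_subgroupOf]
      simpa using hmem
    have h2' : (QuotientGroup.mk (Quotient.out q : ↥A) : ↥A ⧸ ZA) =
        QuotientGroup.mk (Quotient.out q' : ↥A) := QuotientGroup.eq.mpr h1
    have h3 : (QuotientGroup.mk (Quotient.out q : ↥A) : ↥A ⧸ ZA) = q := Quotient.out_eq' q
    have h4 : (QuotientGroup.mk (Quotient.out q' : ↥A) : ↥A ⧸ ZA) = q' := Quotient.out_eq' q'
    rw [← h3, ← h4, h2']
  have hli := Cfsg.Agent.Lib.Helper52_Asch_PK7.PK7a N hspan hcomm x hxN hxne
  have hsq : ∀ q, (x q : Matrix (Fin m ⊕ Fin m) (Fin m ⊕ Fin m) F) * (x q : Matrix _ _ F) = 1 := by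
    intro q
    have h1 := hA2 (Quotient.out q : ↥A) (Quotient.out q : ↥A).2
    have h3 : x q * x q = 1 := by
      have := congrArg (fun w : ↥N => (w : GL (Fin m ⊕ Fin m) F)) h1
      simpa using this
    have := congrArg (fun w : GL (Fin m ⊕ Fin m) F => Units.val w) h3
    simpa using this
  have hcm : ∀ q q', (x q : Matrix (Fin m ⊕ Fin m) (Fin m ⊕ Fin m) F) * (x q' : Matrix _ _ F) =
      (x q' : Matrix _ _ F) * (x q : Matrix _ _ F) := by
    intro q q'
    have h1 : (Quotient.out q : ↥A) * (Quotient.out q' : ↥A) =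
        (Quotient.out q' : ↥A) * (Quotient.out q : ↥A) := (isMulCommutative_iff.1 hA) _ _
    have h3 : x q * x q' = x q' * x q := by
      have := congrArg (fun w : ↥A => (((w : ↥N)) : GL (Fin m ⊕ Fin m) F)) h1
      simpa using this
    have := congrArg (fun w : GL (Fin m ⊕ Fin m) F => Units.val w) h3
    simpa using this
  have hiso : ∀ q u w, sympForm m F ((x q : Matrix _ _ F) *ᵥ u) ((x q : Matrix _ _ F) *ᵥ w) =
      sympForm m F u w := fun q => (mem_spGL_iff (x q)).1 (hN (hxN q))
  have hlt := card_lt h2 (sympForm m F) (isSymplecticForm_sympForm m)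
    (fun q => (x q : Matrix (Fin m ⊕ Fin m) (Fin m ⊕ Fin m) F)) hsq hcm hiso hli
  omega

end Sp

end Cfsg.Agent.Lib.Helper70_AschSp_SP5b
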