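import Mathlib
import Cfsg.Agent.Lib.Helper98_AschDefs
import Cfsg.Agent.Lib.Helper98_AschCliff
import Cfsg.Agent.Lib.Helper23_FormDefs
import Cfsg.Agent.Lib.Helper4_Asch_PK10
import Cfsg.Agent.Lib.Helper52_Asch_PK7
import Cfsg.Agent.Lib.Helper60_Asch_PK13

/-!
# S5662 package F7 (helper71 for helper23)

A nondegenerate bilinear form fixed by a spanning group that is written over a subfield `F₁` is, up
to a scalar, rational over `F₁`.
-/

set_option autoImplicit false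
set_option linter.unusedSectionVars false

open Cfsg Cfsg.Geo Matrix Cfsg.Agent.Lib.Helper98_AschDefs Cfsg.Agent.Lib.Helper23_FormDefs
open Cfsg.Agent.Lib.Helper4_Asch_PK10
open scoped Kronecker

namespace Cfsg.Agent.Lib.Helper71_AschSp_F7

variable {ι : Type} [Fintype ι] [DecidableEq ι] {F : Type*} [Field F]

/-- the Gram matrix of a nondegenerate Gram pairing is invertible -/
theorem isUnit_det_of_nondeg (G : Matrix ι ι F) (f : (ι → F) → (ι → F) → F)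
    (hf : ∀ u v, f u v = rep (RingEquiv.refl F) G u v) (hnd : IsNondegenerateForm f) :
    IsUnit G.det := by
  classical
  rw [isUnit_iff_ne_zero]
  intro hdet
  obtain ⟨w, hw0, hw⟩ := (Matrix.exists_mulVec_eq_zero_iff (M := G)).2 hdet
  obtain ⟨x, hx⟩ := (hnd _ hw0).1
  apply hx
  rw [hf]
  unfold rep
  simp only [RingEquiv.refl_apply]
  rw [hw, dotProduct_zero]

/-- two bilinear Gram matrices invariant under a spanning group are proportional -/
theorem exists_smul_of_invariant (N : Subgroup (GL ι F)) (hspan : spanAlg N = ⊤)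
    (G G₂ : Matrix ι ι F) (hG : IsUnit G.det)
    (h1 : ∀ x ∈ N, ((x : GL ι F) : Matrix ι ι F)ᵀ * G * ((x : GL ι F) : Matrix ι ι F) = G)
    (h2 : ∀ x ∈ N, ((x : GL ι F) : Matrix ι ι F)ᵀ * G₂ * ((x : GL ι F) : Matrix ι ι F) = G₂) :
    ∃ c : F, G₂ = c • G := by
  have hGG : G * G⁻¹ = 1 := Matrix.mul_nonsing_inv G hG
  have hGG' : G⁻¹ * G = 1 := Matrix.nonsing_inv_mul G hG
  -- `A := G⁻¹ * G₂` commutes with `N`
  obtain ⟨A, hA⟩ : ∃ A : Matrix ι ι F, A = G⁻¹ * G₂ := ⟨_, rfl⟩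
  have hAcomm : ∀ y ∈ N, ((y : GL ι F) : Matrix ι ι F) * A = A * ((y : GL ι F) : Matrix ι ι F) := by
    intro y hy
    obtain ⟨Y, hY⟩ : ∃ Y : Matrix ι ι F, Y = ((y : GL ι F) : Matrix ι ι F) := ⟨_, rfl⟩
    obtain ⟨Y', hY'⟩ : ∃ Y' : Matrix ι ι F, Y' = ((y⁻¹ : GL ι F) : Matrix ι ι F) := ⟨_, rfl⟩
    have hYY : Y * Y' = 1 := by
      rw [hY, hY', ← Units.val_mul, mul_inv_cancel, Units.val_one]
    have hYY' : Y' * Y = 1 := by
      rw [hY, hY', ← Units.val_mul, inv_mul_cancel, Units.val_one]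
    have e1 : Yᵀ * G * Y = G := by rw [hY]; exact h1 y hy
    have e2 : Yᵀ * G₂ * Y = G₂ := by rw [hY]; exact h2 y hy
    have e1' : Y'ᵀ * G * Y' = G := by rw [hY']; exact h1 y⁻¹ (N.inv_mem hy)
    -- `G * Y = Y'ᵀ * G`
    have hT : Y'ᵀ * Yᵀ = 1 := by rw [← Matrix.transpose_mul, hYY, Matrix.transpose_one]
    have e3 : G * Y = Y'ᵀ * G := by
      calc G * Y = (Y'ᵀ * Yᵀ) * (G * Y) := by rw [hT, Matrix.one_mul]
        _ = Y'ᵀ * (Yᵀ * G * Y) := by simp only [Matrix.mul_assoc]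
        _ = Y'ᵀ * G := by rw [e1]
    have e4 : G₂ * Y = Y'ᵀ * G₂ := by
      calc G₂ * Y = (Y'ᵀ * Yᵀ) * (G₂ * Y) := by rw [hT, Matrix.one_mul]
        _ = Y'ᵀ * (Yᵀ * G₂ * Y) := by simp only [Matrix.mul_assoc]
        _ = Y'ᵀ * G₂ := by rw [e2]
    -- `Y * G⁻¹ = G⁻¹ * Y'ᵀ`
    have e5 : Y * G⁻¹ = G⁻¹ * Y'ᵀ := by
      calc Y * G⁻¹ = G⁻¹ * (G * Y) * G⁻¹ := by
            rw [← Matrix.mul_assoc, hGG', Matrix.one_mul]
        _ = G⁻¹ * (Y'ᵀ * G) * G⁻¹ := by rw [e3]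
        _ = G⁻¹ * Y'ᵀ := by
            rw [Matrix.mul_assoc, Matrix.mul_assoc, hGG, Matrix.mul_one]
    rw [← hY]
    calc Y * A = (Y * G⁻¹) * G₂ := by rw [hA, Matrix.mul_assoc]
      _ = G⁻¹ * (Y'ᵀ * G₂) := by rw [e5, Matrix.mul_assoc]
      _ = G⁻¹ * (G₂ * Y) := by rw [e4]
      _ = A * Y := by rw [hA, Matrix.mul_assoc]
  obtain ⟨c, hc⟩ := Cfsg.Agent.Lib.Helper52_Asch_PK7.exists_smul_one_of_commute N hspan A hAcomm
  refine ⟨c, ?_⟩
  have : G₂ = G * A := by rw [hA, ← Matrix.mul_assoc, hGG, Matrix.one_mul]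
  rw [this, hc, Matrix.mul_smul, Matrix.mul_one]

/-- F7: a form fixed by a spanning group that is written over a subfield is, up to a scalar, rational -/
theorem F7 [Fintype F] (f : (ι → F) → (ι → F) → F) (hf : IsBilinearForm f) (hnd : IsNondegenerateForm f)
    (N : Subgroup (GL ι F)) (hspan : spanAlg N = ⊤) (hfix : FixesForm (matrixSet N) f)
    (F₁ : Subfield F) (B : GL ι F)
    (hB : ∀ s ∈ matrixSet N, ∀ i j, ((B : Matrix ι ι F) * s * ((B⁻¹ : GL ι F) : Matrix ι ι F)) i j ∈ F₁) :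
    ∃ ζ : F, ζ ≠ 0 ∧ IsFormRationalStructure f F₁ ζ B⁻¹ := by
  classical
  obtain ⟨Bm, hBm⟩ : ∃ Bm : Matrix ι ι F, Bm = ((B : GL ι F) : Matrix ι ι F) := ⟨_, rfl⟩
  obtain ⟨Bi, hBi⟩ : ∃ Bi : Matrix ι ι F, Bi = ((B⁻¹ : GL ι F) : Matrix ι ι F) := ⟨_, rfl⟩
  have hBB : Bm * Bi = 1 := by rw [hBm, hBi, ← Units.val_mul, mul_inv_cancel, Units.val_one]
  have hBB' : Bi * Bm = 1 := by rw [hBm, hBi, ← Units.val_mul, inv_mul_cancel, Units.val_one]
  rw [← hBm, ← hBi] at hB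
  -- Gram matrix of `f`
  set Gf : Matrix ι ι F := gram f with hGf
  have hrep : ∀ u v, f u v = rep (RingEquiv.refl F) Gf u v := rep_of_bilinear f hf
  have hmapid : ∀ M : Matrix ι ι F, M.map (RingEquiv.refl F) = M := fun M => by
    ext i j; rfl
  have hGfdet : IsUnit Gf.det := isUnit_det_of_nondeg Gf f hrep hnd
  have hGfinv : ∀ x ∈ N, ((x : GL ι F) : Matrix ι ι F)ᵀ * Gf * ((x : GL ι F) : Matrix ι ι F) = Gf := by
    intro x hx
    apply rep_inj (RingEquiv.refl F)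
    intro u v
    have := rep_mulVec (RingEquiv.refl F) Gf ((x : GL ι F) : Matrix ι ι F) u v
    rw [hmapid] at this
    rw [← this, ← hrep, ← hrep]
    exact hfix _ (coe_mem_matrixSet hx) u v
  -- Gram matrix of the transported form
  set G' : Matrix ι ι F := Biᵀ * Gf * Bi with hG'
  have hrep' : ∀ u v, f (Bi *ᵥ u) (Bi *ᵥ v) = rep (RingEquiv.refl F) G' u v := by
    intro u v
    rw [hrep, rep_mulVec, hmapid]
  -- reduce to the goal in terms of `Bi`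
  suffices h : ∃ ζ : F, ζ ≠ 0 ∧ ∀ u v : ι → F, (∀ i, u i ∈ F₁) → (∀ i, v i ∈ F₁) →
      ζ * f (Bi *ᵥ u) (Bi *ᵥ v) ∈ F₁ by
    obtain ⟨ζ, hζ, h⟩ := h
    refine ⟨ζ, hζ, ?_⟩
    intro u v hu hv
    rw [← hBi]
    exact h u v hu hv
  by_cases hex : ∃ i j, G' i j ≠ 0
  swap
  · refine ⟨1, one_ne_zero, ?_⟩
    intro u v _ _
    have h0 : G' = 0 := by
      ext i j
      by_contra h
      exact hex ⟨i, j, h⟩
    rw [hrep', h0]
    unfold rep
    rw [Matrix.zero_mulVec, dotProduct_zero, mul_zero]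
    exact F₁.zero_mem
  obtain ⟨i₀, j₀, hij⟩ := hex
  set ζ : F := (G' i₀ j₀)⁻¹ with hζ
  have hζ0 : ζ ≠ 0 := inv_ne_zero hij
  set G0 : Matrix ι ι F := ζ • G' with hG0
  have hG0ij : G0 i₀ j₀ = 1 := by
    rw [hG0, Matrix.smul_apply, smul_eq_mul, hζ, inv_mul_cancel₀ hij]
  -- invariance of `G0` under the conjugated group
  have hinv0 : ∀ x ∈ N, (Bm * ((x : GL ι F) : Matrix ι ι F) * Bi)ᵀ * G0 *
      (Bm * ((x : GL ι F) : Matrix ι ι F) * Bi) = G0 := by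
    intro x hx
    obtain ⟨X, hX⟩ : ∃ X : Matrix ι ι F, X = ((x : GL ι F) : Matrix ι ι F) := ⟨_, rfl⟩
    have e1 : Xᵀ * Gf * X = Gf := by rw [hX]; exact hGfinv x hx
    rw [← hX, hG0, hG', Matrix.mul_smul, Matrix.smul_mul]
    congr 1
    have hT : Bmᵀ * Biᵀ = 1 := by rw [← Matrix.transpose_mul, hBB', Matrix.transpose_one]
    calc (Bm * X * Bi)ᵀ * (Biᵀ * Gf * Bi) * (Bm * X * Bi)
        = Biᵀ * Xᵀ * (Bmᵀ * Biᵀ) * Gf * (Bi * Bm) * X * Bi := by
          rw [Matrix.transpose_mul, Matrix.transpose_mul]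
          simp only [Matrix.mul_assoc]
      _ = Biᵀ * (Xᵀ * Gf * X) * Bi := by
          rw [hT, hBB', Matrix.mul_one, Matrix.mul_one]
          simp only [Matrix.mul_assoc]
      _ = Biᵀ * Gf * Bi := by rw [e1]
  -- the Frobenius of `F₁`
  have : Fintype F₁ := Fintype.ofFinite F₁
  set φ : F →+* F := (FiniteField.frobeniusAlgHom F₁ F : F →+* F) with hφ
  have hφapp : ∀ a : F, φ a = a ^ Fintype.card F₁ := fun a => rfl
  have hφfix : ∀ a : F, a ∈ F₁ → φ a = a := by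
    intro a ha
    have := (FiniteField.frobeniusAlgHom F₁ F).commutes ⟨a, ha⟩
    exact this
  have hφinv : ∀ x ∈ N, (Bm * ((x : GL ι F) : Matrix ι ι F) * Bi)ᵀ * G0.map φ *
      (Bm * ((x : GL ι F) : Matrix ι ι F) * Bi) = G0.map φ := by
    intro x hx
    have hs : (Bm * ((x : GL ι F) : Matrix ι ι F) * Bi).map φ =
        Bm * ((x : GL ι F) : Matrix ι ι F) * Bi := by
      ext i j
      rw [Matrix.map_apply]
      exact hφfix _ (hB _ (coe_mem_matrixSet hx) i j)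
    have := congrArg (fun M : Matrix ι ι F => M.map φ) (hinv0 x hx)
    simp only [Matrix.map_mul, Matrix.transpose_map, hs] at this
    exact this
  -- pull back to an `N`-invariant matrix
  set G₂ : Matrix ι ι F := Bmᵀ * G0.map φ * Bm with hG₂
  have hG₂inv : ∀ x ∈ N, ((x : GL ι F) : Matrix ι ι F)ᵀ * G₂ * ((x : GL ι F) : Matrix ι ι F) = G₂ := by
    intro x hx
    obtain ⟨X, hX⟩ : ∃ X : Matrix ι ι F, X = ((x : GL ι F) : Matrix ι ι F) := ⟨_, rfl⟩
    have e1 := hφinv x hx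
    rw [← hX] at e1 ⊢
    have hT : Biᵀ * Bmᵀ = 1 := by rw [← Matrix.transpose_mul, hBB, Matrix.transpose_one]
    have hT' : Bmᵀ * Biᵀ = 1 := by rw [← Matrix.transpose_mul, hBB', Matrix.transpose_one]
    have e2 : (Bm * X * Bi)ᵀ = Biᵀ * Xᵀ * Bmᵀ := by
      rw [Matrix.transpose_mul, Matrix.transpose_mul, Matrix.mul_assoc]
    calc Xᵀ * G₂ * X = (Bmᵀ * Biᵀ) * Xᵀ * Bmᵀ * G0.map φ * Bm * X * (Bi * Bm) := by
          rw [hT', hBB', Matrix.one_mul, Matrix.mul_one, hG₂]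
          simp only [Matrix.mul_assoc]
      _ = Bmᵀ * ((Bm * X * Bi)ᵀ * G0.map φ * (Bm * X * Bi)) * Bm := by
          rw [e2]
          simp only [Matrix.mul_assoc]
      _ = Bmᵀ * G0.map φ * Bm := by rw [e1]
  obtain ⟨c, hc⟩ := exists_smul_of_invariant N hspan Gf G₂ hGfdet hGfinv hG₂inv
  -- so `G0.map φ = c • G'`
  have hmap : G0.map φ = c • G' := by
    have hT : Biᵀ * Bmᵀ = 1 := by rw [← Matrix.transpose_mul, hBB, Matrix.transpose_one]
    calc G0.map φ = (Biᵀ * Bmᵀ) * G0.map φ * (Bm * Bi) := by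
          rw [hT, hBB, Matrix.one_mul, Matrix.mul_one]
      _ = Biᵀ * G₂ * Bi := by rw [hG₂]; simp only [Matrix.mul_assoc]
      _ = c • G' := by rw [hc, hG', Matrix.mul_smul, Matrix.smul_mul]
  have hcζ : c = ζ := by
    have := congrFun (congrFun hmap i₀) j₀
    rw [Matrix.map_apply, hG0ij, map_one, Matrix.smul_apply, smul_eq_mul] at this
    rw [hζ]
    exact eq_inv_of_mul_eq_one_left this.symm
  have hfixG0 : G0.map φ = G0 := by rw [hmap, hcζ]
  have hG0F₁ : ∀ i j, G0 i j ∈ F₁ := by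
    intro i j
    apply Cfsg.Agent.Lib.Helper60_Asch_PK13.mem_of_pow_card_eq_self F₁
    have := congrFun (congrFun hfixG0 i) j
    rw [Matrix.map_apply, hφapp, Fintype.card_eq_nat_card] at this
    exact this
  refine ⟨ζ, hζ0, ?_⟩
  intro u v hu hv
  rw [hrep', ← rep_smul, ← hG0]
  unfold rep
  simp only [RingEquiv.refl_apply, dotProduct, Matrix.mulVec]
  refine F₁.sum_mem fun i _ => F₁.mul_mem (hu i) (F₁.sum_mem fun j _ => F₁.mul_mem (hG0F₁ i j) (hv j))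

end Cfsg.Agent.Lib.Helper71_AschSp_F7
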