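import Mathlib
import Cfsg.Agent.Lib.Helper98_AschDefs
import Cfsg.Agent.Lib.Helper98_AschCliff
import Cfsg.Agent.Lib.Helper23_FormDefs
import Cfsg.Agent.Lib.Helper4_Asch_PK10
import Cfsg.Agent.Lib.Helper52_Asch_PK7
import Cfsg.Agent.Lib.Helper94_Herm

/-!
# S5662 package FU (helper71 for helper23)

An absolutely irreducible (spanning) group fixing a nondegenerate bilinear form and a nondegenerate
unitary form is realisable over the fixed field of the field automorphism.
-/

set_option autoImplicit false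
set_option linter.unusedSectionVars false

open Cfsg Cfsg.Geo Matrix Cfsg.Agent.Lib.Helper98_AschDefs Cfsg.Agent.Lib.Helper23_FormDefs
open Cfsg.Agent.Lib.Helper4_Asch_PK10
open scoped Kronecker

namespace Cfsg.Agent.Lib.Helper71_AschSp_FU

variable {ι : Type} [Fintype ι] [DecidableEq ι] {F : Type*} [Field F]

/-- the Gram matrix of a nondegenerate twisted Gram pairing is invertible -/
theorem isUnit_det_of_nondeg (τ : F ≃+* F) (G : Matrix ι ι F) (f : (ι → F) → (ι → F) → F)
    (hf : ∀ u v, f u v = rep τ G u v) (hnd : IsNondegenerateForm f) :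
    IsUnit G.det := by
  classical
  rw [isUnit_iff_ne_zero]
  intro hdet
  obtain ⟨w, hw0, hw⟩ := (Matrix.exists_mulVec_eq_zero_iff (M := G)).2 hdet
  have hv0 : (fun j => τ.symm (w j)) ≠ 0 := by
    intro h
    apply hw0
    funext j
    have := congrFun h j
    simpa using this
  obtain ⟨x, hx⟩ := (hnd _ hv0).1
  apply hx
  rw [hf]
  unfold rep
  simp only [RingEquiv.apply_symm_apply]
  rw [hw, dotProduct_zero]

/-- entrywise application of an involutive automorphism is involutive -/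
theorem map_map_invol (σ : F ≃+* F) (hσ : ∀ a, σ (σ a) = a) (M : Matrix ι ι F) :
    (M.map σ).map σ = M := by
  ext i j
  simp only [Matrix.map_apply]
  exact hσ _

theorem map_mul' (σ : F ≃+* F) (M M' : Matrix ι ι F) :
    (M * M').map σ = M.map σ * M'.map σ :=
  Matrix.map_mul (f := (σ : F →+* F))

theorem map_one' (σ : F ≃+* F) : (1 : Matrix ι ι F).map σ = 1 :=
  Matrix.map_one _ (map_zero _) (map_one _)

theorem map_smul' (σ : F ≃+* F) (c : F) (M : Matrix ι ι F) :
    (c • M).map σ = σ c • M.map σ := by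
  ext i j
  simp only [Matrix.map_apply, Matrix.smul_apply, smul_eq_mul, map_mul]

/-- a spanning group fixing a bilinear and a unitary form is conjugate to its `σ`-twist by a
matrix `C` with `σ(C) C = 1` -/
theorem exists_twist [Finite F] [Nonempty ι] (N : Subgroup (GL ι F)) (hspan : spanAlg N = ⊤)
    (f : (ι → F) → (ι → F) → F) (hf : IsBilinearForm f) (hnd : IsNondegenerateForm f)
    (hfix : FixesForm (matrixSet N) f)
    (σ : F ≃+* F) (u : (ι → F) → (ι → F) → F) (hu : IsUnitaryForm σ u)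
    (hufix : FixesForm (matrixSet N) u) :
    ∃ C : Matrix ι ι F, C.map σ * C = 1 ∧ C * C.map σ = 1 ∧
      ∀ x ∈ N, ((x : GL ι F) : Matrix ι ι F).map σ * C = C * ((x : GL ι F) : Matrix ι ι F) := by
  classical
  have hσ2 : ∀ a, σ (σ a) = a := hu.involutive
  set Gf : Matrix ι ι F := gram f with hGf
  set Gu : Matrix ι ι F := gram u with hGu
  have hrepf : ∀ a b, f a b = rep (RingEquiv.refl F) Gf a b := rep_of_bilinear f hf
  have hrepu : ∀ a b, u a b = rep σ Gu a b := rep_of_unitary σ u hu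
  have hmapid : ∀ M : Matrix ι ι F, M.map (RingEquiv.refl F) = M := fun M => by
    ext i j; rfl
  have hGfdet : IsUnit Gf.det := isUnit_det_of_nondeg _ Gf f hrepf hnd
  have hGudet : IsUnit Gu.det := isUnit_det_of_nondeg σ Gu u hrepu hu.nondegenerate
  have hGG : Gu * Gu⁻¹ = 1 := Matrix.mul_nonsing_inv Gu hGudet
  have hGG' : Gu⁻¹ * Gu = 1 := Matrix.nonsing_inv_mul Gu hGudet
  have hfinv : ∀ x ∈ N, ((x : GL ι F) : Matrix ι ι F)ᵀ * Gf * ((x : GL ι F) : Matrix ι ι F) = Gf := by
    intro x hx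
    apply rep_inj (RingEquiv.refl F)
    intro a b
    have := rep_mulVec (RingEquiv.refl F) Gf ((x : GL ι F) : Matrix ι ι F) a b
    rw [hmapid] at this
    rw [← this, ← hrepf, ← hrepf]
    exact hfix _ (coe_mem_matrixSet hx) a b
  have huinv : ∀ x ∈ N, ((x : GL ι F) : Matrix ι ι F)ᵀ * Gu *
      ((x : GL ι F) : Matrix ι ι F).map σ = Gu := by
    intro x hx
    apply rep_inj σ
    intro a b
    rw [← rep_mulVec, ← hrepu, ← hrepu]
    exact hufix _ (coe_mem_matrixSet hx) a b
  -- the twisting matrix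
  obtain ⟨C, hC⟩ : ∃ C : Matrix ι ι F, C = Gu⁻¹ * Gf := ⟨_, rfl⟩
  have hCtw : ∀ x ∈ N, ((x : GL ι F) : Matrix ι ι F).map σ * C = C * ((x : GL ι F) : Matrix ι ι F) := by
    intro x hx
    obtain ⟨X, hX⟩ : ∃ X : Matrix ι ι F, X = ((x : GL ι F) : Matrix ι ι F) := ⟨_, rfl⟩
    obtain ⟨X', hX'⟩ : ∃ X' : Matrix ι ι F, X' = ((x⁻¹ : GL ι F) : Matrix ι ι F) := ⟨_, rfl⟩
    have hXX : X * X' = 1 := by rw [hX, hX', ← Units.val_mul, mul_inv_cancel, Units.val_one]
    have hT : X'ᵀ * Xᵀ = 1 := by rw [← Matrix.transpose_mul, hXX, Matrix.transpose_one]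
    have e1 : Xᵀ * Gf * X = Gf := by rw [hX]; exact hfinv x hx
    have e2 : Xᵀ * Gu * X.map σ = Gu := by rw [hX]; exact huinv x hx
    have e3 : Gf * X = X'ᵀ * Gf := by
      calc Gf * X = (X'ᵀ * Xᵀ) * (Gf * X) := by rw [hT, Matrix.one_mul]
        _ = X'ᵀ * (Xᵀ * Gf * X) := by simp only [Matrix.mul_assoc]
        _ = X'ᵀ * Gf := by rw [e1]
    have e4 : Gu * X.map σ = X'ᵀ * Gu := by
      calc Gu * X.map σ = (X'ᵀ * Xᵀ) * (Gu * X.map σ) := by rw [hT, Matrix.one_mul]
        _ = X'ᵀ * (Xᵀ * Gu * X.map σ) := by simp only [Matrix.mul_assoc]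
        _ = X'ᵀ * Gu := by rw [e2]
    rw [← hX]
    calc X.map σ * C = Gu⁻¹ * (Gu * X.map σ) * Gu⁻¹ * Gf := by
          rw [hC, ← Matrix.mul_assoc Gu⁻¹ Gu, hGG', Matrix.one_mul, Matrix.mul_assoc]
      _ = Gu⁻¹ * X'ᵀ * (Gu * Gu⁻¹) * Gf := by rw [e4]; simp only [Matrix.mul_assoc]
      _ = Gu⁻¹ * (X'ᵀ * Gf) := by rw [hGG, Matrix.mul_one, Matrix.mul_assoc]
      _ = C * X := by rw [← e3, hC, Matrix.mul_assoc]
  -- `σ(C) C` is central
  obtain ⟨D, hD⟩ : ∃ D : Matrix ι ι F, D = C.map σ := ⟨_, rfl⟩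
  have hDσ : D.map σ = C := by rw [hD, map_map_invol σ hσ2]
  have hDtw : ∀ x ∈ N, ((x : GL ι F) : Matrix ι ι F) * D = D * ((x : GL ι F) : Matrix ι ι F).map σ := by
    intro x hx
    have := congrArg (fun M : Matrix ι ι F => M.map σ) (hCtw x hx)
    simp only [map_mul', map_map_invol σ hσ2] at this
    rw [hD]
    exact this
  have hZ : ∀ y ∈ N, ((y : GL ι F) : Matrix ι ι F) * (D * C) = (D * C) * ((y : GL ι F) : Matrix ι ι F) := by
    intro y hy
    rw [← Matrix.mul_assoc, hDtw y hy, Matrix.mul_assoc, hCtw y hy, Matrix.mul_assoc]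
  obtain ⟨c, hc⟩ := Cfsg.Agent.Lib.Helper52_Asch_PK7.exists_smul_one_of_commute N hspan (D * C) hZ
  have hCdet : IsUnit C.det := by
    rw [hC, Matrix.det_mul]
    exact (Matrix.isUnit_nonsing_inv_det Gu hGudet).mul hGfdet
  have hDdet : IsUnit D.det := by
    rw [isUnit_iff_ne_zero] at hCdet ⊢
    have : D.det = σ C.det := by
      rw [hD]
      exact ((σ : F →+* F).map_det C).symm
    rw [this]
    exact (map_ne_zero σ).2 hCdet
  have i₀ : ι := Classical.arbitrary ι
  have hc0 : c ≠ 0 := by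
    intro h0
    have h1 : (D * C).det = 0 := by
      rw [hc, h0, zero_smul]
      exact Matrix.det_zero
    rw [Matrix.det_mul] at h1
    rcases mul_eq_zero.1 h1 with h | h
    · exact hDdet.ne_zero h
    · exact hCdet.ne_zero h
  have hCD : C * D = c • 1 := by
    have h1 : (c⁻¹ • D) * C = 1 := by
      rw [Matrix.smul_mul, hc, smul_smul, inv_mul_cancel₀ hc0, one_smul]
    have h2 : C * (c⁻¹ • D) = 1 := mul_eq_one_comm.1 h1
    rw [Matrix.mul_smul] at h2
    have := congrArg (fun M : Matrix ι ι F => c • M) h2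
    simp only [smul_smul, mul_inv_cancel₀ hc0, one_smul] at this
    exact this
  have hσc : σ c = c := by
    have := congrArg (fun M : Matrix ι ι F => M.map σ) hc
    simp only [map_mul', map_smul', map_one'] at this
    rw [hDσ, ← hD, hCD] at this
    have h3 := congrFun (congrFun this i₀) i₀
    simp only [Matrix.smul_apply, Matrix.one_apply_eq, smul_eq_mul, mul_one] at h3
    exact h3.symm
  -- normalize
  have hinvol : Cfsg.Agent.Lib.Helper94_Herm.Invol (σ : F →+* F) := by
    refine ⟨hσ2, ?_⟩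
    by_contra hcon
    apply hu.ne_refl
    ext a
    by_contra h
    exact hcon ⟨a, h⟩
  obtain ⟨μ, hμ⟩ := Cfsg.Agent.Lib.Helper94_Herm.norm_surj hinvol c⁻¹ (by
    show σ c⁻¹ = c⁻¹
    rw [map_inv₀, hσc])
  have hμ' : μ * σ μ = c⁻¹ := hμ
  refine ⟨μ • C, ?_, ?_, ?_⟩
  · rw [map_smul', ← hD, Matrix.smul_mul, Matrix.mul_smul, hc, smul_smul, smul_smul,
      mul_comm (σ μ) μ, hμ', inv_mul_cancel₀ hc0, one_smul]
  · rw [map_smul', ← hD, Matrix.smul_mul, Matrix.mul_smul, hCD, smul_smul, smul_smul, hμ',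
      inv_mul_cancel₀ hc0, one_smul]
  · intro x hx
    rw [Matrix.mul_smul, Matrix.smul_mul, hCtw x hx]

/-- Hilbert 90 for `GL_n` and an involutive field automorphism: a matrix `C` with `σ(C) C = 1` is
of the form `σ(P) P⁻¹` -/
theorem exists_descent (σ : F ≃+* F) (hσ2 : ∀ a, σ (σ a) = a) (hne : ∃ α, σ α ≠ α)
    (C : Matrix ι ι F) (h1 : C.map σ * C = 1) (h2 : C * C.map σ = 1) :
    ∃ P P' : Matrix ι ι F, P * P' = 1 ∧ P' * P = 1 ∧ P.map σ = C * P := by
  classical
  obtain ⟨D, hD⟩ : ∃ D : Matrix ι ι F, D = C.map σ := ⟨_, rfl⟩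
  have hDσ : D.map σ = C := by rw [hD, map_map_invol σ hσ2]
  rw [← hD] at h1 h2
  -- the semilinear involution
  set θ : (ι → F) → (ι → F) := fun v => D *ᵥ (fun j => σ (v j)) with hθ
  have hθadd : ∀ v w, θ (v + w) = θ v + θ w := by
    intro v w
    simp only [hθ]
    rw [← Matrix.mulVec_add]
    congr 1
    funext j
    simp
  have hθsmul : ∀ (a : F) v, θ (a • v) = σ a • θ v := by
    intro a v
    simp only [hθ]
    rw [← Matrix.mulVec_smul]
    congr 1
    funext j
    simp
  have hσmul : ∀ (M : Matrix ι ι F) (w : ι → F),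
      (fun j => σ ((M *ᵥ w) j)) = M.map σ *ᵥ (fun j => σ (w j)) := by
    intro M w
    funext j
    exact RingHom.map_mulVec (σ : F →+* F) M w j
  have hθθ : ∀ v, θ (θ v) = v := by
    intro v
    simp only [hθ]
    rw [hσmul, hDσ, Matrix.mulVec_mulVec]
    have : (fun j => σ (σ (v j))) = v := by
      funext j
      exact hσ2 _
    rw [this, h1, Matrix.one_mulVec]
  -- the fixed vectors span
  set Wset : Set (ι → F) := {v | θ v = v} with hWset
  have hπ : ∀ v, v + θ v ∈ Wset := by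
    intro v
    show θ (v + θ v) = v + θ v
    rw [hθadd, hθθ, add_comm]
  obtain ⟨α, hα⟩ := hne
  have hα0 : α - σ α ≠ 0 := fun h => hα (sub_eq_zero.1 h).symm
  have hspan : Submodule.span F Wset = ⊤ := by
    rw [eq_top_iff]
    intro v _
    have hv : v = (α - σ α)⁻¹ • ((α • v + θ (α • v)) - σ α • (v + θ v)) := by
      rw [hθsmul, smul_add, add_sub_add_right_eq_sub, ← sub_smul, smul_smul, inv_mul_cancel₀ hα0,
        one_smul]
    rw [hv]
    exact Submodule.smul_mem _ _ (Submodule.sub_mem _ (Submodule.subset_span (hπ _))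
      (Submodule.smul_mem _ _ (Submodule.subset_span (hπ _))))
  -- extract a basis
  obtain ⟨b, hbW, hbspan, hbli⟩ := exists_linearIndependent F Wset
  have hbtop : ⊤ ≤ Submodule.span F (Set.range (fun x : b => (x : ι → F))) := by
    rw [Subtype.range_coe, hbspan, hspan]
  let bb : Module.Basis b F (ι → F) := Module.Basis.mk hbli hbtop
  have hbb : ∀ x : b, bb x = (x : ι → F) := fun x => Module.Basis.mk_apply hbli hbtop x
  let e : ι ≃ b := (Pi.basisFun F ι).indexEquiv bb
  let bb' : Module.Basis ι F (ι → F) := bb.reindex e.symm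
  have hbb' : ∀ i, θ (bb' i) = bb' i := by
    intro i
    have : bb' i = ((e i : b) : ι → F) := by
      show bb.reindex e.symm i = _
      rw [Module.Basis.reindex_apply, Equiv.symm_symm, hbb]
    rw [this]
    exact hbW (e i).2
  set P : Matrix ι ι F := (Pi.basisFun F ι).toMatrix bb' with hP
  set P' : Matrix ι ι F := bb'.toMatrix (Pi.basisFun F ι) with hP'
  have hPP' : P * P' = 1 := Module.Basis.toMatrix_mul_toMatrix_flip _ _
  have hP'P : P' * P = 1 := Module.Basis.toMatrix_mul_toMatrix_flip _ _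
  have hPij : ∀ i j, P i j = bb' j i := by
    intro i j
    rw [hP, Module.Basis.toMatrix_apply, Pi.basisFun_repr]
  -- `D * σ(P) = P`
  have hDP : D * P.map σ = P := by
    ext i j
    have := congrFun (hbb' j) i
    rw [hPij, ← this]
    simp only [hθ, Matrix.mul_apply, Matrix.mulVec, dotProduct, Matrix.map_apply, hPij]
  refine ⟨P, P', hPP', hP'P, ?_⟩
  calc P.map σ = (C * D) * P.map σ := by rw [h2, Matrix.one_mul]
    _ = C * (D * P.map σ) := by rw [Matrix.mul_assoc]
    _ = C * P := by rw [hDP]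

/-- FU: an absolutely irreducible group fixing a nondegenerate bilinear and a nondegenerate unitary form is
realisable over the fixed field of the automorphism -/
theorem FU [Fintype F] (N : Subgroup (GL ι F)) (hspan : spanAlg N = ⊤)
    (f : (ι → F) → (ι → F) → F) (hf : IsBilinearForm f) (hnd : IsNondegenerateForm f)
    (hfix : FixesForm (matrixSet N) f)
    (σ : F ≃+* F) (u : (ι → F) → (ι → F) → F) (hu : IsUnitaryForm σ u) (hufix : FixesForm (matrixSet N) u) :
    ∃ F₀ : Subfield F, F₀ ≠ ⊤ ∧ RealisableOver F₀ (matrixSet N) := by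
  classical
  have hσ2 : ∀ a, σ (σ a) = a := hu.involutive
  have hne : ∃ α, σ α ≠ α := by
    by_contra hcon
    apply hu.ne_refl
    ext a
    by_contra h
    exact hcon ⟨a, h⟩
  refine ⟨RingHom.eqLocusField (σ : F →+* F) (RingHom.id F), ?_, ?_⟩
  · intro htop
    obtain ⟨α, hα⟩ := hne
    have : α ∈ RingHom.eqLocusField (σ : F →+* F) (RingHom.id F) := by rw [htop]; trivial
    exact hα this
  rcases isEmpty_or_nonempty ι with hι | hι
  · exact ⟨1, fun s _ i => isEmptyElim i⟩
  obtain ⟨C, hC1, hC2, hCtw⟩ := exists_twist N hspan f hf hnd hfix σ u hu hufix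
  obtain ⟨P, P', hPP', hP'P, hPσ⟩ := exists_descent σ hσ2 hne C hC1 hC2
  obtain ⟨D, hD⟩ : ∃ D : Matrix ι ι F, D = C.map σ := ⟨_, rfl⟩
  rw [← hD] at hC1 hC2
  -- `σ(P') = P' * D`
  have hP'σ : P'.map σ = P' * D := by
    have h1 : P'.map σ * P.map σ = 1 := by rw [← map_mul', hP'P, map_one']
    have h2 : (C * P) * (P' * D) = 1 := by
      rw [Matrix.mul_assoc C P, ← Matrix.mul_assoc P P' D, hPP', Matrix.one_mul, hC2]
    calc P'.map σ = P'.map σ * ((C * P) * (P' * D)) := by rw [h2, Matrix.mul_one]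
      _ = (P'.map σ * P.map σ) * (P' * D) := by rw [hPσ]; simp only [Matrix.mul_assoc]
      _ = P' * D := by rw [h1, Matrix.one_mul]
  refine ⟨⟨P', P, hP'P, hPP'⟩, ?_⟩
  rintro s ⟨x, hx, rfl⟩ i j
  show (σ : F →+* F) _ = (RingHom.id F) _
  rw [RingHom.id_apply]
  have hinv : ((⟨P', P, hP'P, hPP'⟩ : GL ι F)⁻¹ : GL ι F).val = P := rfl
  have hval : (⟨P', P, hP'P, hPP'⟩ : GL ι F).val = P' := rfl
  rw [hinv, hval]
  clear hinv hval
  have hgoal : ∀ X : Matrix ι ι F, X.map σ * C = C * X →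
      σ ((P' * X * P) i j) = (P' * X * P) i j := by
    intro X hXtw
    have key : (P' * X * P).map σ = P' * X * P := by
      calc (P' * X * P).map σ = P'.map σ * X.map σ * P.map σ := by rw [map_mul', map_mul']
        _ = P' * D * X.map σ * (C * P) := by rw [hP'σ, hPσ]
        _ = P' * D * (X.map σ * C) * P := by simp only [Matrix.mul_assoc]
        _ = P' * (D * C) * X * P := by rw [hXtw]; simp only [Matrix.mul_assoc]
        _ = P' * X * P := by rw [hC1, Matrix.mul_one]
    have := congrFun (congrFun key i) j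
    rw [Matrix.map_apply] at this
    exact this
  exact hgoal _ (hCtw x hx)

end Cfsg.Agent.Lib.Helper71_AschSp_FU
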