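/-
S5662 package SP5a (helper23's architecture; proved by helper7):
structure of a minimal normal subgroup of class 2 of a subgroup of `Sp_{2m}(F)`: `|F|` is odd, `N` is a 2-group of
symplectic type with centre `{±1}` and order `2^(1+2k)`.
-/
import Mathlib
import Cfsg.Prelude.Def_ClassicalGeometry
import Cfsg.Prelude.Def_GeometricClasses
import Cfsg.Agent.Lib.Helper98_AschDefs
import Cfsg.Agent.Lib.Helper23_FormDefs
import Cfsg.Agent.Lib.Helper27_Asch_PKN1
import Cfsg.Agent.Lib.Helper50_Asch_PKN2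
import Cfsg.Agent.Lib.Helper52_Asch_PK7
import Cfsg.Agent.Lib.Helper7_AschSp_SPQ

set_option autoImplicit false
set_option linter.unusedSectionVars false

namespace Cfsg.Agent.Lib.Helper7_AschSp_SP5a

open Cfsg Cfsg.Geo Matrix Cfsg.Agent.Lib.Helper98_AschDefs Cfsg.Agent.Lib.Helper23_FormDefs
open scoped commutatorElement

variable {F : Type*} [Field F]

/-- a scalar isometry of the symplectic form is `±1` -/
theorem scalar_of_mem_spGL {m : ℕ} (hm : 0 < m) {g : GL (Fin m ⊕ Fin m) F} (hg : g ∈ spGL m F) (c : F)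
    (hc : (g : Matrix (Fin m ⊕ Fin m) (Fin m ⊕ Fin m) F) = c • 1) : c = 1 ∨ c = -1 := by
  have hS := isSymplecticForm_sympForm (F := F) m
  have hv : (Pi.single (Sum.inl ⟨0, hm⟩) 1 : Fin m ⊕ Fin m → F) ≠ 0 := by
    intro h0
    have := congrFun h0 (Sum.inl ⟨0, hm⟩)
    simp at this
  obtain ⟨⟨x, hx⟩, -⟩ := hS.nondegenerate _ hv
  have h1 := (mem_spGL_iff g).1 hg x (Pi.single (Sum.inl ⟨0, hm⟩) 1)
  rw [hc, Matrix.smul_mulVec, Matrix.smul_mulVec, Matrix.one_mulVec, Matrix.one_mulVec,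
    hS.bilinear.smul_left, hS.bilinear.smul_right] at h1
  have h2 : (c - 1) * (c + 1) = 0 := by
    have h3 : ((c - 1) * (c + 1)) * sympForm m F x (Pi.single (Sum.inl ⟨0, hm⟩) 1) = 0 := by
      linear_combination h1
    rcases mul_eq_zero.1 h3 with h4 | h4
    · exact h4
    · exact absurd h4 hx
  rcases mul_eq_zero.1 h2 with h4 | h4
  · left; linear_combination h4
  · right; linear_combination h4

section Sp

variable [Fintype F]

/-- SP5a: structure of a minimal normal subgroup of class 2 -/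
theorem SP5a (m : ℕ) (hm : 2 ≤ m) (H N : Subgroup (GL (Fin m ⊕ Fin m) F)) (hH : H ≤ spGL m F) (hNH : N ≤ H)
    (hnorm : NormalizesGrp H N) (hNZ : ¬ N ≤ scalars (Fin m ⊕ Fin m) F)
    (hmin : ∀ N' : Subgroup (GL (Fin m ⊕ Fin m) F), N' ≤ N → NormalizesGrp H N' →
      N' = N ∨ N' ≤ scalars (Fin m ⊕ Fin m) F)
    (hspan : spanAlg N = ⊤) (hcomm : ⁅N, N⁆ ≤ scalars (Fin m ⊕ Fin m) F) :
    Odd (Fintype.card F) ∧ IsSymplecticTypeGroup 2 N ∧ Nat.card (Subgroup.center N) = 2 ∧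
      (∃ k : ℕ, Nat.card N = 2 ^ (1 + 2 * k)) ∧
      ∀ z ∈ N, ∀ c : F, (z : Matrix (Fin m ⊕ Fin m) (Fin m ⊕ Fin m) F) = c • 1 → c = 1 ∨ c = -1 := by
  classical
  have hm0 : 0 < m := by omega
  have hne : Nonempty (Fin m ⊕ Fin m) := ⟨Sum.inl ⟨0, hm0⟩⟩
  have hcardι : Fintype.card (Fin m ⊕ Fin m) = 2 * m := by
    rw [Fintype.card_sum, Fintype.card_fin]; ring
  have hNI : N ≤ spGL m F := hNH.trans hH
  -- scalars of `N` are `±1`
  have hscal : ∀ z ∈ N, ∀ c : F, (z : Matrix (Fin m ⊕ Fin m) (Fin m ⊕ Fin m) F) = c • 1 → c = 1 ∨ c = -1 :=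
    fun z hz c hc => scalar_of_mem_spGL hm0 (hNI hz) c hc
  -- `N` is not abelian
  have hnab : ∃ x ∈ N, ∃ y ∈ N, x * y ≠ y * x := by
    by_contra hcon
    push Not at hcon
    exact hNZ (Helper50_Asch_PKN2.le_scalars_of_comm N hspan hcon)
  obtain ⟨x, hx, y, hy, hxy⟩ := hnab
  -- the commutator is `-1`
  set z₀ : GL (Fin m ⊕ Fin m) F := ⁅x, y⁆ with hz₀
  have hz₀N : z₀ ∈ N := by
    rw [hz₀, commutatorElement_def]
    exact N.mul_mem (N.mul_mem (N.mul_mem hx hy) (N.inv_mem hx)) (N.inv_mem hy)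
  have hz₀S : z₀ ∈ scalars (Fin m ⊕ Fin m) F := hcomm (Subgroup.commutator_mem_commutator hx hy)
  have hz₀1 : z₀ ≠ 1 := by
    intro h1
    apply hxy
    rw [hz₀, commutatorElement_eq_one_iff_mul_comm] at h1
    exact h1
  obtain ⟨c₀, hc₀⟩ := (mem_scalars_iff z₀).1 hz₀S
  have hc₀' : (c₀ : F) = -1 := by
    rcases hscal z₀ hz₀N c₀ hc₀ with h | h
    · exfalso
      apply hz₀1
      apply Units.ext
      rw [hc₀, h, one_smul, Units.val_one]
    · exact h
  have hz₀val : (z₀ : Matrix (Fin m ⊕ Fin m) (Fin m ⊕ Fin m) F) = -1 := by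
    rw [hc₀, hc₀', neg_smul, one_smul]
  have h2 : (2 : F) ≠ 0 := by
    intro h2
    apply hz₀1
    apply Units.ext
    rw [hz₀val, Units.val_one, neg_eq_iff_add_eq_zero, ← two_smul F (1 : Matrix (Fin m ⊕ Fin m) (Fin m ⊕ Fin m) F),
      h2, zero_smul]
  have hodd : Odd (Fintype.card F) := by
    by_contra hno
    exact h2 (Helper7_AschSp_SPQ.two_eq_zero_of_not_odd hno)
  have hz₀sq : z₀ * z₀ = 1 := by
    apply Units.ext
    rw [Units.val_mul, hz₀val, Units.val_one, neg_mul_neg, one_mul]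
  -- `N ⊓ scalars = {1, z₀}`
  have hmemZ : ∀ z : GL (Fin m ⊕ Fin m) F, z ∈ N ⊓ scalars (Fin m ⊕ Fin m) F → z = 1 ∨ z = z₀ := by
    intro z hz
    obtain ⟨c, hc⟩ := (mem_scalars_iff z).1 hz.2
    rcases hscal z hz.1 c hc with h | h
    · left
      apply Units.ext
      rw [hc, h, one_smul, Units.val_one]
    · right
      apply Units.ext
      rw [hc, h, hz₀val, neg_smul, one_smul]
  have hcardZ : Nat.card (N ⊓ scalars (Fin m ⊕ Fin m) F : Subgroup (GL (Fin m ⊕ Fin m) F)) = 2 := by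
    rw [Nat.card_eq_two_iff]
    refine ⟨1, ⟨z₀, hz₀N, hz₀S⟩, ?_, ?_⟩
    · intro h
      apply hz₀1
      exact (congrArg Subtype.val h).symm
    · ext w
      simp only [Set.mem_insert_iff, Set.mem_singleton_iff, Set.mem_univ, iff_true]
      rcases hmemZ w.1 w.2 with h | h
      · left; exact Subtype.ext h
      · right; exact Subtype.ext h
  have hcen : Nat.card (Subgroup.center N) = 2 := by
    rw [Helper50_Asch_PKN2.card_center_eq N hspan, hcardZ]
  -- `N` is a 2-group with `x ^ 4 = 1`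
  obtain ⟨r, hr, hpg, hcase⟩ := Helper27_Asch_PKN1.PKN1 H N hnorm hNZ hmin hspan hcomm (by rw [hcardι]; omega)
  have hr2 : r = 2 := by
    obtain ⟨k, hk⟩ := hpg ⟨z₀, hz₀N⟩
    have hord : orderOf (⟨z₀, hz₀N⟩ : N) = 2 := by
      apply orderOf_eq_prime
      · apply Subtype.ext
        rw [pow_two]
        exact hz₀sq
      · intro h
        exact hz₀1 (congrArg Subtype.val h)
    have hdvd : 2 ∣ r ^ k := by
      rw [← hord]
      exact orderOf_dvd_of_pow_eq_one hk
    have := Nat.Prime.dvd_of_dvd_pow Nat.prime_two hdvd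
    exact ((Nat.prime_dvd_prime_iff_eq Nat.prime_two hr).1 this).symm
  subst hr2
  have hexp4 : ∀ x ∈ N, x ^ 4 = 1 := by
    rcases hcase with ⟨h, -⟩ | ⟨-, h⟩
    · exact absurd rfl h
    · exact h
  -- the order
  have hPK7 := Helper52_Asch_PK7.PK7 N hspan hcomm
  rw [hcardZ, hcardι] at hPK7
  have hord : ∃ k : ℕ, Nat.card N = 2 ^ (1 + 2 * k) := by
    obtain ⟨j, hj⟩ := hpg.exists_card_eq
    have h1 : (2 * m) ^ 2 ∣ 2 ^ j := by
      rw [← hj, hPK7]
      exact Dvd.intro_left _ rfl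
    have h3 : 2 * m ∣ 2 ^ j := Dvd.dvd.trans (Dvd.intro _ (pow_two (2 * m)).symm) h1
    obtain ⟨a, -, ha⟩ := (Nat.dvd_prime_pow Nat.prime_two).1 h3
    refine ⟨a, ?_⟩
    rw [hPK7, ha]
    ring
  -- non-commutativity in terms of `N`
  have hNnc : ¬ ∀ a b : N, a * b = b * a := by
    intro hc
    apply hxy
    exact congrArg Subtype.val (hc ⟨x, hx⟩ ⟨y, hy⟩)
  refine ⟨hodd, ⟨Nat.prime_two, hpg, ?_, ?_⟩, hcen, hord, hscal⟩
  · -- characteristic commutative subgroups are cyclic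
    intro A hAchar hAcomm
    let A' : Subgroup (GL (Fin m ⊕ Fin m) F) := A.map N.subtype
    have hA'N : A' ≤ N := by
      rintro _ ⟨a, _, rfl⟩
      exact a.2
    have hA'n : NormalizesGrp H A' := by
      rintro h hh _ ⟨a, ha, rfl⟩
      have h1 : ∀ x ∈ N, h * x * h⁻¹ ∈ N := hnorm h hh
      have h2 : ∀ x ∈ N, h⁻¹ * x * h⁻¹⁻¹ ∈ N := hnorm h⁻¹ (H.inv_mem hh)
      have h3 := Subgroup.characteristic_iff_map_le.mp hAchar (Helper50_Asch_PKN2.conjAut N h h1 h2)
      have h4 : Helper50_Asch_PKN2.conjAut N h h1 h2 a ∈ A := h3 (Subgroup.mem_map_of_mem _ ha)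
      exact ⟨_, h4, rfl⟩
    rcases hmin A' hA'N hA'n with h | h
    · exfalso
      apply hNZ
      apply Helper50_Asch_PKN2.le_scalars_of_comm N hspan
      intro x hx y hy
      rw [← h] at hx hy
      obtain ⟨a, ha, rfl⟩ := hx
      obtain ⟨b, hb, rfl⟩ := hy
      have hab : (⟨a, ha⟩ : A) * ⟨b, hb⟩ = ⟨b, hb⟩ * ⟨a, ha⟩ := mul_comm' _ _
      have := congrArg (fun t : A => ((t : N) : GL (Fin m ⊕ Fin m) F)) hab
      simpa using this
    · have hcyc : IsCyclic (scalars (Fin m ⊕ Fin m) F) := Helper50_Asch_PKN2.scalars_isCyclic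
      let f : A →* scalars (Fin m ⊕ Fin m) F :=
        { toFun := fun a => ⟨((a : N) : GL (Fin m ⊕ Fin m) F), h (Subgroup.mem_map_of_mem _ a.2)⟩
          map_one' := rfl
          map_mul' := fun a b => rfl }
      apply isCyclic_of_injective f
      intro a b hab
      have := congrArg Subtype.val hab
      exact Subtype.ext (Subtype.ext this)
  · -- the exponent is 4
    have hg : Nat.gcd 2 2 = 2 := rfl
    rw [hg]
    have h1 : Monoid.exponent N ∣ 2 ^ 2 := by
      apply Monoid.exponent_dvd_of_forall_pow_eq_one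
      intro g
      apply Subtype.ext
      simpa using hexp4 g g.2
    obtain ⟨i, hi, hie⟩ := (Nat.dvd_prime_pow Nat.prime_two).1 h1
    interval_cases i
    · exfalso
      rw [pow_zero, Monoid.exp_eq_one_iff] at hie
      apply hNnc
      intro a b
      rw [Subsingleton.elim a 1, Subsingleton.elim b 1]
    · exfalso
      rw [pow_one] at hie
      exact hNnc (mul_comm_of_exponent_two hie)
    · rw [hie]
      norm_num

end Sp

end Cfsg.Agent.Lib.Helper7_AschSp_SP5a
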