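import Mathlib
import Cfsg.Agent.S0144

/-!
# Helper61_AffineSpec

Tools to produce explicit solvable groups with a prescribed set of element orders
(spectrum), as Frobenius groups `R² ⋊ C` with `C` a finite group of `2 × 2` matrices over a finite
commutative ring `R`, acting fixed-point-freely.

* `range_orderOf_eq` : a group all of whose elements satisfy `g ^ a = 1 ∨ g ^ b = 1 ∨ g ^ c = 1`
  and having elements of orders `a`, `b`, `c` has spectrum `{n | n ∣ a ∨ n ∣ b ∨ n ∣ c}`;
* `isSolvable_of_forall_pow_eq_one` : a finite group of exponent dividing a `{2,3}`-number is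
  solvable (Burnside);
* `pow_eq_one_of_fpf` : in `N ⋊ C` with `N` abelian and `C` acting fixed-point-freely, elements
  outside `N` have the order of their image in `C`;
* `exists_solvable_twin` : the final existence statement.
-/

set_option autoImplicit false

namespace Cfsg.Agent.Lib.Helper61_AffineSpec

theorem range_orderOf_eq {G : Type*} [Group G] (a b c : ℕ) (ha : a ≠ 0) (hb : b ≠ 0)
    (hc : c ≠ 0) (hall : ∀ g : G, g ^ a = 1 ∨ g ^ b = 1 ∨ g ^ c = 1)
    (hea : ∃ g : G, orderOf g = a) (heb : ∃ g : G, orderOf g = b)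
    (hec : ∃ g : G, orderOf g = c) :
    Set.range (orderOf : G → ℕ) = {n | n ∣ a ∨ n ∣ b ∨ n ∣ c} := by
  have key : ∀ d : ℕ, d ≠ 0 → (∃ g : G, orderOf g = d) → ∀ n, n ∣ d → ∃ g : G, orderOf g = n := by
    intro d hd ⟨g, hg⟩ n hn
    refine ⟨g ^ (orderOf g / n), ?_⟩
    exact orderOf_pow_orderOf_div (by rw [hg]; exact hd) (by rw [hg]; exact hn)
  ext n
  simp only [Set.mem_range, Set.mem_ofPred_eq]
  constructor
  · rintro ⟨g, rfl⟩
    rcases hall g with h | h | h
    · exact Or.inl (orderOf_dvd_of_pow_eq_one h)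
    · exact Or.inr (Or.inl (orderOf_dvd_of_pow_eq_one h))
    · exact Or.inr (Or.inr (orderOf_dvd_of_pow_eq_one h))
  · rintro (h | h | h)
    · exact key a ha hea n h
    · exact key b hb heb n h
    · exact key c hc hec n h

theorem primeFactors_subset (i j : ℕ) : (2 ^ i * 3 ^ j).primeFactors ⊆ {2, 3} := by
  intro r hr
  have hrp : r.Prime := Nat.prime_of_mem_primeFactors hr
  have hrd : r ∣ 2 ^ i * 3 ^ j := Nat.dvd_of_mem_primeFactors hr
  simp only [Finset.mem_insert, Finset.mem_singleton]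
  rcases (Nat.Prime.dvd_mul hrp).1 hrd with h | h
  · left
    exact (Nat.prime_dvd_prime_iff_eq hrp Nat.prime_two).1 (hrp.dvd_of_dvd_pow h)
  · right
    exact (Nat.prime_dvd_prime_iff_eq hrp Nat.prime_three).1 (hrp.dvd_of_dvd_pow h)

theorem isSolvable_of_forall_pow_eq_one {G : Type*} [Group G] [Finite G] (n : ℕ) (hn0 : n ≠ 0)
    (hn : n.primeFactors ⊆ {2, 3}) (h : ∀ g : G, g ^ n = 1) : Group.IsSolvable G := by
  have hm0 : Nat.card G ≠ 0 := Nat.card_pos.ne'
  have hsub : (Nat.card G).primeFactors ⊆ {2, 3} := by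
    intro r hr
    have hrp : r.Prime := Nat.prime_of_mem_primeFactors hr
    have hrd : r ∣ Nat.card G := Nat.dvd_of_mem_primeFactors hr
    have : Fact r.Prime := ⟨hrp⟩
    obtain ⟨g, hg⟩ := exists_prime_orderOf_dvd_card' r hrd
    apply hn
    rw [Nat.mem_primeFactors]
    exact ⟨hrp, hg ▸ orderOf_dvd_of_pow_eq_one (h g), hn0⟩
  have hcard : Nat.card G = 2 ^ (Nat.card G).factorization 2 * 3 ^ (Nat.card G).factorization 3 := by
    conv_lhs => rw [← Nat.prod_factorization_pow_eq_self hm0]
    rw [Finsupp.prod_of_support_subset _ (s := {2, 3}) (by simpa using hsub) _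
      (fun i _ => pow_zero i)]
    rw [Finset.prod_pair (by norm_num)]
  exact Cfsg.Agent.S0144.result 2 3 _ _ Nat.prime_two Nat.prime_three hcard

section Semidirect

open SemidirectProduct

variable {N C : Type*} [CommGroup N] [Group C] (φ : C →* MulAut N)

theorem pow_eq_one_of_fpf (hfpf : ∀ c : C, c ≠ 1 → ∀ n : N, φ c n = n → n = 1)
    (x : N ⋊[φ] C) (hx : x.right ≠ 1) (k : ℕ) (hk : x.right ^ k = 1) : x ^ k = 1 := by
  have hr : (x ^ k).right = 1 := by
    have : rightHom (x ^ k) = (rightHom x) ^ k := map_pow _ _ _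
    simpa [rightHom_eq_right, hk] using this
  have hcomm : x * x ^ k = x ^ k * x := (pow_mul_comm' x k).symm
  have hl := congrArg SemidirectProduct.left hcomm
  rw [mul_left, mul_left, hr, map_one, MulAut.one_apply, mul_comm] at hl
  have hfix : φ x.right (x ^ k).left = (x ^ k).left := mul_right_cancel hl
  have hl1 : (x ^ k).left = 1 := hfpf _ hx _ hfix
  exact SemidirectProduct.ext hl1 hr

theorem semidirect_spectrum (p a b : ℕ) (hp : p.Prime) (ha : a ≠ 0) (hb : b ≠ 0)
    (hfpf : ∀ c : C, c ≠ 1 → ∀ n : N, φ c n = n → n = 1)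
    (hN : ∀ n : N, n ^ p = 1) (hN' : ∃ n : N, n ≠ 1)
    (hC : ∀ c : C, c ^ a = 1 ∨ c ^ b = 1) (hCa : ∃ c : C, orderOf c = a)
    (hCb : ∃ c : C, orderOf c = b) :
    Set.range (orderOf : N ⋊[φ] C → ℕ) = {n | n ∣ a ∨ n ∣ b ∨ n ∣ p} := by
  apply range_orderOf_eq a b p ha hb hp.ne_zero
  · intro x
    by_cases hx : x.right = 1
    · right; right
      have : x = inl x.left := by
        ext
        · simp
        · simp [hx]
      rw [this, ← map_pow, hN, map_one]
    · rcases hC x.right with h | h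
      · exact Or.inl (pow_eq_one_of_fpf φ hfpf x hx a h)
      · exact Or.inr (Or.inl (pow_eq_one_of_fpf φ hfpf x hx b h))
  · obtain ⟨c, hc⟩ := hCa
    exact ⟨inr c, by rw [orderOf_injective (inr : C →* N ⋊[φ] C) inr_injective, hc]⟩
  · obtain ⟨c, hc⟩ := hCb
    exact ⟨inr c, by rw [orderOf_injective (inr : C →* N ⋊[φ] C) inr_injective, hc]⟩
  · obtain ⟨n, hn⟩ := hN'
    refine ⟨inl n, ?_⟩
    rw [orderOf_injective (inl : N →* N ⋊[φ] C) inl_injective]
    have : Fact p.Prime := ⟨hp⟩
    exact orderOf_eq_prime (hN n) hn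

theorem semidirect_isSolvable [Group.IsSolvable C] : Group.IsSolvable (N ⋊[φ] C) :=
  Group.isSolvable_of_ker_le_range (inl : N →* N ⋊[φ] C) rightHom
    (range_inl_eq_ker_rightHom (φ := φ)).ge

end Semidirect

section MatrixAction

open Matrix SemidirectProduct

variable {R : Type*} [CommRing R] {n : Type*} [Fintype n] [DecidableEq n]

/-- The action of `GL_n(R)` on the additive group `Rⁿ` (written multiplicatively). -/
def glAct : (Matrix n n R)ˣ →* MulAut (Multiplicative (n → R)) where
  toFun g :=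
    { toFun := fun v => Multiplicative.ofAdd (g.val *ᵥ Multiplicative.toAdd v)
      invFun := fun v => Multiplicative.ofAdd (g⁻¹.val *ᵥ Multiplicative.toAdd v)
      left_inv := fun v => by
        simp only [toAdd_ofAdd, mulVec_mulVec, Units.inv_mul, one_mulVec, ofAdd_toAdd]
      right_inv := fun v => by
        simp only [toAdd_ofAdd, mulVec_mulVec, Units.mul_inv, one_mulVec, ofAdd_toAdd]
      map_mul' := fun v w => by
        simp only [toAdd_mul, mulVec_add, ofAdd_add] }
  map_one' := by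
    ext v
    simp
  map_mul' g h := by
    ext v
    simp [mulVec_mulVec]

theorem glAct_apply (g : (Matrix n n R)ˣ) (v : Multiplicative (n → R)) :
    glAct g v = Multiplicative.ofAdd (g.val *ᵥ Multiplicative.toAdd v) := rfl

/-- The subgroup of `GL_n(R)` carried by a list of matrices closed under multiplication. -/
def listSubgroup [Finite R] (L : List (Matrix n n R)) (h1 : (1 : Matrix n n R) ∈ L)
    (hmul : ∀ A ∈ L, ∀ B ∈ L, A * B ∈ L) : Subgroup (Matrix n n R)ˣ where
  carrier := {g | g.val ∈ L}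
  mul_mem' := fun {g h} hg hh => by
    simp only [Set.mem_ofPred_eq, Units.val_mul] at hg hh ⊢
    exact hmul _ hg _ hh
  one_mem' := by
    simp only [Set.mem_ofPred_eq, Units.val_one]
    exact h1
  inv_mem' := fun {g} hg => by
    simp only [Set.mem_ofPred_eq] at hg ⊢
    have hpow : ∀ m : ℕ, (g ^ m).val ∈ L := by
      intro m
      induction m with
      | zero => simpa using h1
      | succ m ih =>
        rw [pow_succ, Units.val_mul]
        exact hmul _ ih _ hg
    obtain ⟨k, hk0, hk⟩ := (isOfFinOrder_of_finite g).exists_pow_eq_one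
    have : g⁻¹ = g ^ (k - 1) := by
      apply inv_eq_of_mul_eq_one_left
      rw [← pow_succ, Nat.sub_add_cancel hk0, hk]
    rw [this]
    exact hpow _

theorem mem_listSubgroup [Finite R] (L : List (Matrix n n R)) (h1 : (1 : Matrix n n R) ∈ L)
    (hmul : ∀ A ∈ L, ∀ B ∈ L, A * B ∈ L) (g : (Matrix n n R)ˣ) :
    g ∈ listSubgroup L h1 hmul ↔ g.val ∈ L := Iff.rfl

/-- The final existence statement: a Frobenius group `Rⁿ ⋊ C` with the spectrum
`{d | d ∣ a ∨ d ∣ b ∨ d ∣ p}`. -/
theorem exists_solvable_twin {R : Type} [CommRing R] [Finite R] [Nontrivial R] {n : Type}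
    [Fintype n] [DecidableEq n] [Nonempty n] (p a b : ℕ) (hp : p.Prime) (ha : a ≠ 0)
    (hb : b ≠ 0) (hab : (a * b).primeFactors ⊆ {2, 3}) (hR : ∀ r : R, p • r = 0)
    (L : List (Matrix n n R)) (h1 : (1 : Matrix n n R) ∈ L)
    (hmul : ∀ A ∈ L, ∀ B ∈ L, A * B ∈ L) (hord : ∀ A ∈ L, A ^ a = 1 ∨ A ^ b = 1)
    (hfpf : ∀ A ∈ L, A ≠ 1 → IsUnit (A - 1).det)
    (Aa Ab : Matrix n n R) (hAa : Aa ∈ L) (hAb : Ab ∈ L) (hoa : orderOf Aa = a)
    (hob : orderOf Ab = b) :
    ∃ (H : Type) (_ : Group H) (_ : Fintype H), Group.IsSolvable H ∧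
      Set.range (orderOf : H → ℕ) = {d | d ∣ a ∨ d ∣ b ∨ d ∣ p} := by
  classical
  let C : Subgroup (Matrix n n R)ˣ := listSubgroup L h1 hmul
  let φ : C →* MulAut (Multiplicative (n → R)) := glAct.comp C.subtype
  have hC : ∀ c : C, c ^ a = 1 ∨ c ^ b = 1 := by
    intro c
    rcases hord c.1.val c.2 with h | h
    · left
      apply Subtype.ext
      apply Units.ext
      simpa using h
    · right
      apply Subtype.ext
      apply Units.ext
      simpa using h
  have hsolvC : Group.IsSolvable C := by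
    apply isSolvable_of_forall_pow_eq_one (a * b) (Nat.mul_ne_zero ha hb) hab
    intro c
    rcases hC c with h | h
    · rw [pow_mul, h, one_pow]
    · rw [mul_comm, pow_mul, h, one_pow]
  have hex : ∀ (A : Matrix n n R) (d : ℕ), d ≠ 0 → A ∈ L → orderOf A = d →
      ∃ c : C, orderOf c = d := by
    intro A d hd hA hoA
    have hAd : A ^ d = 1 := hoA ▸ pow_orderOf_eq_one A
    let u : (Matrix n n R)ˣ := Units.ofPowEqOne A d hAd hd
    have hu : u.val = A := rfl
    refine ⟨⟨u, hA⟩, ?_⟩
    rw [← Subgroup.orderOf_coe, ← orderOf_units]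
    exact hoA
  have hfpf' : ∀ c : C, c ≠ 1 → ∀ v : Multiplicative (n → R), φ c v = v → v = 1 := by
    intro c hc v hv
    have hc1 : c.1.val ≠ 1 := by
      intro h
      apply hc
      apply Subtype.ext
      apply Units.ext
      simpa using h
    have hunit : IsUnit (c.1.val - 1) :=
      (Matrix.isUnit_iff_isUnit_det _).2 (hfpf _ c.2 hc1)
    have hv' : c.1.val *ᵥ Multiplicative.toAdd v = Multiplicative.toAdd v := by
      have : φ c v = Multiplicative.ofAdd (c.1.val *ᵥ Multiplicative.toAdd v) := rfl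
      rw [this] at hv
      exact congrArg Multiplicative.toAdd hv
    have h0 : (c.1.val - 1) *ᵥ Multiplicative.toAdd v = (c.1.val - 1) *ᵥ 0 := by
      rw [sub_mulVec, one_mulVec, hv', sub_self, mulVec_zero]
    have := Matrix.mulVec_injective_of_isUnit hunit h0
    exact congrArg Multiplicative.ofAdd this
  have hN : ∀ v : Multiplicative (n → R), v ^ p = 1 := by
    intro v
    apply Multiplicative.toAdd.injective
    rw [toAdd_pow, toAdd_one]
    funext i
    simpa using hR (Multiplicative.toAdd v i)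
  have hN' : ∃ v : Multiplicative (n → R), v ≠ 1 := by
    refine ⟨Multiplicative.ofAdd (fun _ => 1), ?_⟩
    intro h
    have h2 := congrArg Multiplicative.toAdd h
    obtain ⟨i⟩ := ‹Nonempty n›
    have h3 := congrFun h2 i
    simp at h3
  have hfin : Finite (Multiplicative (n → R) ⋊[φ] C) :=
    Finite.of_equiv _ (SemidirectProduct.equivProd (φ := φ)).symm
  refine ⟨Multiplicative (n → R) ⋊[φ] C, inferInstance, Fintype.ofFinite _, ?_, ?_⟩
  · exact semidirect_isSolvable φ
  · exact semidirect_spectrum φ p a b hp ha hb hfpf' hN hN' hC (hex Aa a ha hAa hoa)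
      (hex Ab b hb hAb hob)

end MatrixAction

end Cfsg.Agent.Lib.Helper61_AffineSpec
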