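import Mathlib
import Cfsg.Agent.Lib.Helper98_AschDefs
import Cfsg.Agent.Lib.Helper98_AschCliff
import Cfsg.Agent.Lib.Helper23_FormDefs
import Cfsg.Agent.Lib.Helper61_AffineSpec

/-!
# S5662 package SP6c (helper26): `GL_2(3)` has no non-trivial perfect subgroup

`|GL_2(3)| = 48` is a `{2,3}`-number, so the group is solvable (Burnside, through
`Helper61_AffineSpec.isSolvable_of_forall_pow_eq_one`); a perfect subgroup of a solvable group is trivial.
-/

set_option autoImplicit false

namespace Cfsg.Agent.Lib.Helper26_AschSp_SP6c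

open Cfsg Cfsg.Geo Matrix Cfsg.Agent.Lib.Helper98_AschDefs Cfsg.Agent.Lib.Helper23_FormDefs
open scoped Kronecker

variable {F : Type*} [Field F]

/-- a perfect subgroup of a solvable group is trivial -/
theorem eq_bot_of_perfect_of_isSolvable {G : Type*} [Group G] [Group.IsSolvable G] (S : Subgroup G)
    (hperf : ⁅S, S⁆ = S) : S = ⊥ := by
  by_contra hne
  have : Nontrivial S := (Subgroup.nontrivial_iff_ne_bot S).2 hne
  have hlt : commutator S < ⊤ := Group.IsSolvable.commutator_lt_top_of_nontrivial S
  have hmap : (commutator S).map S.subtype = ⁅S, S⁆ := Subgroup.map_subtype_commutator S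
  have htop : commutator S = ⊤ := by
    rw [eq_top_iff]
    intro x _
    have hx : (x : G) ∈ ⁅S, S⁆ := by rw [hperf]; exact x.2
    rw [← hmap] at hx
    obtain ⟨y, hy, hyx⟩ := hx
    have : y = x := Subtype.ext hyx
    rwa [← this]
  exact absurd htop hlt.ne

theorem card_GL2_of_card_three [Fintype F] (hF : Fintype.card F = 3) :
    Nat.card (GL (Fin 2) F) = 48 := by
  rw [Matrix.card_GL_field, hF, Fin.prod_univ_two]
  norm_num

theorem isSolvable_GL2_of_card_three [Fintype F] (hF : Fintype.card F = 3) :
    Group.IsSolvable (GL (Fin 2) F) := by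
  have hcard := card_GL2_of_card_three hF
  have : Finite (GL (Fin 2) F) := Nat.finite_of_card_ne_zero (by omega)
  apply Cfsg.Agent.Lib.Helper61_AffineSpec.isSolvable_of_forall_pow_eq_one 48 (by norm_num)
  · have h48 : (48 : ℕ) = 2 ^ 4 * 3 := by norm_num
    intro r hr
    have hrp : r.Prime := Nat.prime_of_mem_primeFactors hr
    have hrd : r ∣ 48 := Nat.dvd_of_mem_primeFactors hr
    rw [h48] at hrd
    rcases (Nat.Prime.dvd_mul hrp).1 hrd with h | h
    · have := (Nat.prime_dvd_prime_iff_eq hrp Nat.prime_two).1 (hrp.dvd_of_dvd_pow h)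
      simp [this]
    · have := (Nat.prime_dvd_prime_iff_eq hrp Nat.prime_three).1 h
      simp [this]
  · intro g
    rw [← hcard]
    exact pow_card_eq_one'

/-- SP6c: over the field with three elements the group `GL_2` has no non-trivial perfect subgroup -/
theorem SP6c [Fintype F] (hF : Fintype.card F = 3) (S : Subgroup (GL (Fin 2) F)) (hperf : ⁅S, S⁆ = S) :
    S = ⊥ := by
  have := isSolvable_GL2_of_card_three hF
  exact eq_bot_of_perfect_of_isSolvable S hperf

end Cfsg.Agent.Lib.Helper26_AschSp_SP6c
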