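import Mathlib
import Cfsg.Agent.Lib.Helper98_AschDefs
import Cfsg.Agent.Lib.Helper10_Asch_PK4
import Cfsg.Agent.Lib.Helper52_Asch_SN

/-!
# Package OP6 of S5673 (helper29's cut), part (b): adjoints with respect to a Gram matrix, the
Skolem-Noether description of an adjoint-closed factor algebra, and the Gram matrix in a tensor
basis (it is a scalar multiple of a pure tensor of one symmetric matrix).
-/

set_option autoImplicit false
set_option linter.unusedVariables false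
set_option linter.unusedSectionVars false
set_option linter.style.haveILetI false

namespace Cfsg.Agent.Lib.Helper54_OrthOdd_OP6b

open Cfsg Cfsg.Geo Matrix Cfsg.Agent.Lib.Helper98_AschDefs Cfsg.Agent.Lib.Helper10_Asch_PK4

variable {ι : Type} [Fintype ι] [DecidableEq ι] {F : Type*} [Field F]

/-- the adjoint of `a` with respect to the Gram matrix `G` (with inverse `Gi`) -/
def adj (G Gi : Matrix ι ι F) (a : Matrix ι ι F) : Matrix ι ι F := Gi * aᵀ * G

section adj

variable (G Gi : Matrix ι ι F)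

lemma adj_add (a b : Matrix ι ι F) : adj G Gi (a + b) = adj G Gi a + adj G Gi b := by
  simp only [adj, Matrix.transpose_add, mul_add, add_mul]

lemma adj_smul (c : F) (a : Matrix ι ι F) : adj G Gi (c • a) = c • adj G Gi a := by
  simp only [adj, Matrix.transpose_smul, mul_smul_comm, smul_mul_assoc]

lemma adj_zero : adj G Gi (0 : Matrix ι ι F) = 0 := by
  simp [adj]

lemma adj_mul (hGi : G * Gi = 1) (a b : Matrix ι ι F) :
    adj G Gi (a * b) = adj G Gi b * adj G Gi a := by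
  simp only [adj, Matrix.transpose_mul]
  calc Gi * (bᵀ * aᵀ) * G = Gi * bᵀ * (1 : Matrix ι ι F) * aᵀ * G := by simp [mul_assoc]
    _ = Gi * bᵀ * G * (Gi * aᵀ * G) := by rw [← hGi]; simp only [mul_assoc]

lemma adj_one (hiG : Gi * G = 1) : adj G Gi (1 : Matrix ι ι F) = 1 := by
  simp [adj, hiG]

/-- the adjoint as a linear map -/
def adjL : Matrix ι ι F →ₗ[F] Matrix ι ι F where
  toFun := adj G Gi
  map_add' := adj_add G Gi
  map_smul' := adj_smul G Gi

lemma adjL_apply (a : Matrix ι ι F) : adjL G Gi a = adj G Gi a := rfl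

/-- the adjoint of an isometry is its inverse -/
lemma adj_isom (hiG : Gi * G = 1) (x : GL ι F)
    (hx : (x : Matrix ι ι F)ᵀ * G * (x : Matrix ι ι F) = G) :
    adj G Gi (x : Matrix ι ι F) = ((x⁻¹ : GL ι F) : Matrix ι ι F) := by
  have h1 : (x : Matrix ι ι F)ᵀ * G = G * ((x⁻¹ : GL ι F) : Matrix ι ι F) := by
    have hxx : (x : Matrix ι ι F) * ((x⁻¹ : GL ι F) : Matrix ι ι F) = 1 := by
      rw [← Units.val_mul, mul_inv_cancel, Units.val_one]
    calc (x : Matrix ι ι F)ᵀ * G = (x : Matrix ι ι F)ᵀ * G * ((x : Matrix ι ι F) *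
          ((x⁻¹ : GL ι F) : Matrix ι ι F)) := by rw [hxx, mul_one]
      _ = ((x : Matrix ι ι F)ᵀ * G * (x : Matrix ι ι F)) * ((x⁻¹ : GL ι F) : Matrix ι ι F) := by
          simp only [mul_assoc]
      _ = G * ((x⁻¹ : GL ι F) : Matrix ι ι F) := by rw [hx]
  show Gi * (x : Matrix ι ι F)ᵀ * G = _
  rw [mul_assoc, h1, ← mul_assoc, hiG, one_mul]

/-- the inverse of an isometry is an isometry -/
lemma isom_inv (x : GL ι F) (hx : (x : Matrix ι ι F)ᵀ * G * (x : Matrix ι ι F) = G) :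
    ((x⁻¹ : GL ι F) : Matrix ι ι F)ᵀ * G * ((x⁻¹ : GL ι F) : Matrix ι ι F) = G := by
  have hxx : (x : Matrix ι ι F) * ((x⁻¹ : GL ι F) : Matrix ι ι F) = 1 := by
    rw [← Units.val_mul, mul_inv_cancel, Units.val_one]
  have hxt : ((x⁻¹ : GL ι F) : Matrix ι ι F)ᵀ * (x : Matrix ι ι F)ᵀ = 1 := by
    rw [← Matrix.transpose_mul, hxx, Matrix.transpose_one]
  calc ((x⁻¹ : GL ι F) : Matrix ι ι F)ᵀ * G * ((x⁻¹ : GL ι F) : Matrix ι ι F)
      = ((x⁻¹ : GL ι F) : Matrix ι ι F)ᵀ * ((x : Matrix ι ι F)ᵀ * G * (x : Matrix ι ι F)) *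
          ((x⁻¹ : GL ι F) : Matrix ι ι F) := by rw [hx]
    _ = (((x⁻¹ : GL ι F) : Matrix ι ι F)ᵀ * (x : Matrix ι ι F)ᵀ) * G * ((x : Matrix ι ι F) *
          ((x⁻¹ : GL ι F) : Matrix ι ι F)) := by simp only [mul_assoc]
    _ = G := by rw [hxt, hxx, one_mul, mul_one]

/-- conjugation by an isometry commutes with the adjoint -/
lemma adj_conj (hGi : G * Gi = 1) (hiG : Gi * G = 1) (g : GL ι F)
    (hg : (g : Matrix ι ι F)ᵀ * G * (g : Matrix ι ι F) = G) (a : Matrix ι ι F) :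
    adj G Gi ((g : Matrix ι ι F) * a * ((g⁻¹ : GL ι F) : Matrix ι ι F)) =
      (g : Matrix ι ι F) * adj G Gi a * ((g⁻¹ : GL ι F) : Matrix ι ι F) := by
  rw [adj_mul G Gi hGi, adj_mul G Gi hGi, adj_isom G Gi hiG g hg,
    adj_isom G Gi hiG g⁻¹ (isom_inv G g hg), inv_inv, mul_assoc]

/-- the span of a group of isometries is closed under adjoints -/
lemma adj_mem_spanAlg (hiG : Gi * G = 1) (S : Subgroup (GL ι F))
    (hS : ∀ x ∈ S, (x : Matrix ι ι F)ᵀ * G * (x : Matrix ι ι F) = G) {a : Matrix ι ι F}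
    (ha : a ∈ spanAlg S) : adj G Gi a ∈ spanAlg S := by
  rw [mem_spanAlg_iff] at ha ⊢
  induction ha using Submodule.span_induction with
  | mem x hx =>
    obtain ⟨y, hy, rfl⟩ := hx
    apply Submodule.subset_span
    exact ⟨y⁻¹, S.inv_mem hy, (adj_isom G Gi hiG y (hS y hy)).symm⟩
  | zero => rw [adj_zero]; exact Submodule.zero_mem _
  | add x y _ _ hx hy => rw [adj_add]; exact Submodule.add_mem _ hx hy
  | smul c x _ hx => rw [adj_smul]; exact Submodule.smul_mem _ c hx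

end adj

/-- Skolem-Noether for an adjoint-closed image of a full matrix algebra: the adjoint is
`M ↦ B Mᵀ B⁻¹` on the matrix algebra -/
theorem exists_B [Nonempty ι] {d : ℕ} (hd : 0 < d) (G Gi : Matrix ι ι F) (hGi : G * Gi = 1)
    (hiG : Gi * G = 1) (φ₀ : Matrix (Fin d) (Fin d) F →ₐ[F] Matrix ι ι F)
    (hcl : ∀ M, ∃ M', adj G Gi (φ₀ M) = φ₀ M') :
    ∃ B : GL (Fin d) F, ∀ M, adj G Gi (φ₀ M) =
      φ₀ ((B : Matrix (Fin d) (Fin d) F) * Mᵀ * ((B⁻¹ : GL (Fin d) F) : Matrix (Fin d) (Fin d) F)) := by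
  haveI : Nonempty (Fin d) := ⟨⟨0, hd⟩⟩
  have hinj : Function.Injective φ₀ := (φ₀ : Matrix (Fin d) (Fin d) F →+* Matrix ι ι F).injective
  have hker : LinearMap.ker φ₀.toLinearMap = ⊥ := LinearMap.ker_eq_bot.2 hinj
  obtain ⟨ρ, hρ⟩ := LinearMap.exists_leftInverse_of_injective φ₀.toLinearMap hker
  have hρ' : ∀ M, ρ (φ₀ M) = M := fun M => LinearMap.congr_fun hρ M
  let Φ : Matrix (Fin d) (Fin d) F →ₗ[F] Matrix (Fin d) (Fin d) F :=
    ρ ∘ₗ adjL G Gi ∘ₗ φ₀.toLinearMap ∘ₗ (Matrix.transposeLinearEquiv (Fin d) (Fin d) F F).toLinearMap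
  have hΦ : ∀ M, φ₀ (Φ M) = adj G Gi (φ₀ Mᵀ) := by
    intro M
    obtain ⟨M', hM'⟩ := hcl Mᵀ
    show φ₀ (ρ (adj G Gi (φ₀ Mᵀ))) = _
    rw [hM', hρ']
  have h1 : Φ 1 = 1 := by
    apply hinj
    rw [hΦ, Matrix.transpose_one, map_one, adj_one G Gi hiG]
  have hmul : ∀ M N, Φ (M * N) = Φ M * Φ N := by
    intro M N
    apply hinj
    rw [hΦ, map_mul, hΦ, hΦ, Matrix.transpose_mul, map_mul, adj_mul G Gi hGi]
  obtain ⟨B, hB⟩ := Cfsg.Agent.Lib.Helper52_Asch_SN.skolem_noether_linear Φ h1 hmul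
  refine ⟨B, fun M => ?_⟩
  rw [← hB, hΦ, Matrix.transpose_transpose]

/-- transposition of `factorMat` -/
lemma factorMat_transpose {k m : ℕ} (i : Fin k) (M : Matrix (Fin m) (Fin m) F) :
    (factorMat k m i M)ᵀ = factorMat k m i Mᵀ := by
  ext x y
  simp only [Matrix.transpose_apply, factorMat]
  by_cases h : ∀ j, j ≠ i → x j = y j
  · rw [if_pos h, if_pos (fun j hj => (h j hj).symm)]
  · rw [if_neg h, if_neg (fun h' => h (fun j hj => (h' j hj).symm))]

/-- transposition of pure tensors -/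
lemma pt_transpose (k m : ℕ) (A : Fin k → Matrix (Fin m) (Fin m) F) :
    (pt k m A)ᵀ = pt k m (fun i => (A i)ᵀ) := by
  ext x y
  simp [pt_apply]

/-- the Gram matrix in a tensor basis in which the adjoint is `M ↦ B Mᵀ B⁻¹` on every factor is a
scalar multiple of the pure tensor of `B⁻¹` -/
theorem gram_eq_smul_pt {k d : ℕ} (hd : 0 < d) (G Gi : Matrix ι ι F) (hGi : G * Gi = 1)
    (hiG : Gi * G = 1) (e : ι ≃ (Fin k → Fin d)) (P : GL ι F) (B : GL (Fin d) F)
    (h : ∀ j M, adj G Gi ((P : Matrix ι ι F) * (factorMat k d j M).submatrix e e *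
        ((P⁻¹ : GL ι F) : Matrix ι ι F)) =
      (P : Matrix ι ι F) * (factorMat k d j ((B : Matrix (Fin d) (Fin d) F) * Mᵀ *
        ((B⁻¹ : GL (Fin d) F) : Matrix (Fin d) (Fin d) F))).submatrix e e *
        ((P⁻¹ : GL ι F) : Matrix ι ι F)) :
    ∃ c : F, ((P : Matrix ι ι F)ᵀ * G * (P : Matrix ι ι F)).submatrix e.symm e.symm =
      c • pt k d (fun _ => ((B⁻¹ : GL (Fin d) F) : Matrix (Fin d) (Fin d) F)) := by
  classical
  have hPP : (P : Matrix ι ι F) * ((P⁻¹ : GL ι F) : Matrix ι ι F) = 1 := by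
    rw [← Units.val_mul, mul_inv_cancel, Units.val_one]
  have hPP' : ((P⁻¹ : GL ι F) : Matrix ι ι F) * (P : Matrix ι ι F) = 1 := by
    rw [← Units.val_mul, inv_mul_cancel, Units.val_one]
  have hPt : (P : Matrix ι ι F)ᵀ * ((P⁻¹ : GL ι F) : Matrix ι ι F)ᵀ = 1 := by
    rw [← Matrix.transpose_mul, hPP', Matrix.transpose_one]
  obtain ⟨Γ, hΓ⟩ : ∃ Γ : Matrix ι ι F, Γ = (P : Matrix ι ι F)ᵀ * G * (P : Matrix ι ι F) := ⟨_, rfl⟩
  rw [← hΓ]
  obtain ⟨G', hG'⟩ : ∃ G' : Matrix (Fin k → Fin d) (Fin k → Fin d) F,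
      G' = Γ.submatrix e.symm e.symm := ⟨_, rfl⟩
  rw [← hG']
  -- step 1: `r(Aᵀ) Γ = Γ r(A*)`
  have h1 : ∀ j M, ((factorMat k d j M)ᵀ).submatrix e e * Γ =
      Γ * (factorMat k d j ((B : Matrix (Fin d) (Fin d) F) * Mᵀ *
        ((B⁻¹ : GL (Fin d) F) : Matrix (Fin d) (Fin d) F))).submatrix e e := by
    intro j M
    have h0 := h j M
    set A := (factorMat k d j M).submatrix e e with hA
    set A' := (factorMat k d j ((B : Matrix (Fin d) (Fin d) F) * Mᵀ *
        ((B⁻¹ : GL (Fin d) F) : Matrix (Fin d) (Fin d) F))).submatrix e e with hA'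
    have hAt : ((factorMat k d j M)ᵀ).submatrix e e = Aᵀ := by
      rw [hA, Matrix.transpose_submatrix]
    rw [hAt]
    unfold adj at h0
    rw [Matrix.transpose_mul, Matrix.transpose_mul] at h0
    -- h0 : Gi * (P⁻¹ᵀ * (Aᵀ * Pᵀ)) * G = P * A' * P⁻¹
    have h2 : (P : Matrix ι ι F)ᵀ * G * (Gi * (((P⁻¹ : GL ι F) : Matrix ι ι F)ᵀ * (Aᵀ *
          (P : Matrix ι ι F)ᵀ)) * G) * (P : Matrix ι ι F) =
        (P : Matrix ι ι F)ᵀ * G * ((P : Matrix ι ι F) * A' * ((P⁻¹ : GL ι F) : Matrix ι ι F)) *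
          (P : Matrix ι ι F) := by rw [h0]
    rw [hΓ]
    calc Aᵀ * ((P : Matrix ι ι F)ᵀ * G * (P : Matrix ι ι F))
        = (P : Matrix ι ι F)ᵀ * (G * Gi) * ((P⁻¹ : GL ι F) : Matrix ι ι F)ᵀ * Aᵀ *
          ((P : Matrix ι ι F)ᵀ * G * (P : Matrix ι ι F)) := by
            rw [hGi, mul_one, hPt, one_mul]
      _ = (P : Matrix ι ι F)ᵀ * G * (Gi * (((P⁻¹ : GL ι F) : Matrix ι ι F)ᵀ * (Aᵀ *
          (P : Matrix ι ι F)ᵀ)) * G) * (P : Matrix ι ι F) := by simp only [mul_assoc]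
      _ = (P : Matrix ι ι F)ᵀ * G * ((P : Matrix ι ι F) * A' * ((P⁻¹ : GL ι F) : Matrix ι ι F)) *
          (P : Matrix ι ι F) := h2
      _ = (P : Matrix ι ι F)ᵀ * G * (P : Matrix ι ι F) * A' * (((P⁻¹ : GL ι F) : Matrix ι ι F) *
          (P : Matrix ι ι F)) := by simp only [mul_assoc]
      _ = (P : Matrix ι ι F)ᵀ * G * (P : Matrix ι ι F) * A' := by rw [hPP', mul_one]
  -- step 2: transport to the tensor index type
  have h2 : ∀ j M, factorMat k d j M * G' =
      G' * factorMat k d j ((B : Matrix (Fin d) (Fin d) F) * M *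
        ((B⁻¹ : GL (Fin d) F) : Matrix (Fin d) (Fin d) F)) := by
    intro j M
    have h3 := h1 j Mᵀ
    rw [factorMat_transpose, Matrix.transpose_transpose] at h3
    have hsub : ∀ X Y : Matrix ι ι F, (X * Y).submatrix e.symm e.symm =
        X.submatrix e.symm e.symm * Y.submatrix e.symm e.symm :=
      fun X Y => (Matrix.submatrix_mul_equiv X Y _ e.symm _).symm
    have hid : ∀ X : Matrix (Fin k → Fin d) (Fin k → Fin d) F,
        (X.submatrix e e).submatrix e.symm e.symm = X := by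
      intro X
      ext a b
      simp
    calc factorMat k d j M * G'
        = ((factorMat k d j M).submatrix e e * Γ).submatrix e.symm e.symm := by
          rw [hsub, hid, hG']
      _ = (Γ * (factorMat k d j ((B : Matrix (Fin d) (Fin d) F) * M *
          ((B⁻¹ : GL (Fin d) F) : Matrix (Fin d) (Fin d) F))).submatrix e e).submatrix
            e.symm e.symm := by rw [h3]
      _ = _ := by rw [hsub, hid, hG']
  -- step 3: `G' * pt B` commutes with all factor matrices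
  set T : GL (Fin k → Fin d) F := ptGL k d (fun _ => B) with hT
  have hTT : (T : Matrix (Fin k → Fin d) (Fin k → Fin d) F) *
      ((T⁻¹ : GL (Fin k → Fin d) F) : Matrix (Fin k → Fin d) (Fin k → Fin d) F) = 1 := by
    rw [← Units.val_mul, mul_inv_cancel, Units.val_one]
  have hTT' : ((T⁻¹ : GL (Fin k → Fin d) F) : Matrix (Fin k → Fin d) (Fin k → Fin d) F) *
      (T : Matrix (Fin k → Fin d) (Fin k → Fin d) F) = 1 := by
    rw [← Units.val_mul, inv_mul_cancel, Units.val_one]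
  have h3 : ∀ j M, (G' * (T : Matrix (Fin k → Fin d) (Fin k → Fin d) F)) * factorMat k d j M =
      factorMat k d j M * (G' * (T : Matrix (Fin k → Fin d) (Fin k → Fin d) F)) := by
    intro j M
    have h4 := ptGL_conj (fun _ => B) j M
    rw [← mul_assoc, h2 j M, ← h4, ← hT]
    simp only [mul_assoc]
    rw [hTT', mul_one]
  obtain ⟨c, hc⟩ := scalar_of_commute hd _ h3
  refine ⟨c, ?_⟩
  have h5 : G' = c • ((T⁻¹ : GL (Fin k → Fin d) F) : Matrix (Fin k → Fin d) (Fin k → Fin d) F) := by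
    calc G' = G' * ((T : Matrix (Fin k → Fin d) (Fin k → Fin d) F) *
          ((T⁻¹ : GL (Fin k → Fin d) F) : Matrix (Fin k → Fin d) (Fin k → Fin d) F)) := by
            rw [hTT, mul_one]
      _ = (G' * (T : Matrix (Fin k → Fin d) (Fin k → Fin d) F)) *
          ((T⁻¹ : GL (Fin k → Fin d) F) : Matrix (Fin k → Fin d) (Fin k → Fin d) F) := by
            rw [mul_assoc]
      _ = _ := by rw [hc, smul_mul_assoc, one_mul]
  rw [h5]
  rfl

/-- a symmetric pure tensor power has a factor that is symmetric up to a scalar -/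
lemma transpose_eq_smul_of_pt {k d : ℕ} (hk : 0 < k) (C : Matrix (Fin d) (Fin d) F) (hC : C ≠ 0)
    (h : (pt k d (fun _ => C))ᵀ = pt k d (fun _ => C)) : ∃ l : F, Cᵀ = l • C := by
  obtain ⟨k', rfl⟩ : ∃ k', k = k' + 1 := ⟨k - 1, by omega⟩
  obtain ⟨a0, b0, h0⟩ : ∃ a0 b0, C a0 b0 ≠ 0 := by
    by_contra hcon
    push Not at hcon
    apply hC
    ext a b
    exact hcon a b
  have key : ∀ a b, C b a * (C b0 a0) ^ k' = C a b * (C a0 b0) ^ k' := by
    intro a b
    have h1 := congrFun (congrFun h (Fin.cons a (fun _ => a0))) (Fin.cons b (fun _ => b0))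
    rw [Matrix.transpose_apply, pt_apply, pt_apply, Fin.prod_univ_succ, Fin.prod_univ_succ] at h1
    simpa using h1
  have hb : C b0 a0 ≠ 0 := by
    intro hb
    have h1 := key a0 b0
    rw [hb, zero_mul, ← pow_succ'] at h1
    exact (pow_ne_zero _ h0) h1.symm
  refine ⟨(C a0 b0) ^ k' / (C b0 a0) ^ k', ?_⟩
  ext a b
  rw [Matrix.transpose_apply, Matrix.smul_apply, smul_eq_mul]
  have h2 := key a b
  field_simp
  linear_combination h2

/-- a matrix of odd size that is symmetric up to a scalar and invertible is symmetric -/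
lemma transpose_eq_of_smul {d : ℕ} (hd : Odd d) (h2 : (2 : F) ≠ 0) (C : Matrix (Fin d) (Fin d) F)
    (hdet : C.det ≠ 0) (l : F) (hl : Cᵀ = l • C) : Cᵀ = C := by
  have hC0 : C ≠ 0 := by
    rintro rfl
    apply hdet
    haveI : Nonempty (Fin d) := ⟨⟨0, hd.pos⟩⟩
    simp
  have hll : l * l = 1 := by
    have h1 : C = (l * l) • C := by
      calc C = (Cᵀ)ᵀ := (Matrix.transpose_transpose C).symm
        _ = (l • C)ᵀ := by rw [hl]
        _ = l • Cᵀ := Matrix.transpose_smul _ _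
        _ = (l * l) • C := by rw [hl, smul_smul]
    obtain ⟨a, b, hab⟩ : ∃ a b, C a b ≠ 0 := by
      by_contra hcon
      push Not at hcon
      apply hC0
      ext a b
      exact hcon a b
    have h3 := congrFun (congrFun h1 a) b
    rw [Matrix.smul_apply, smul_eq_mul] at h3
    have h4 : (l * l - 1) * C a b = 0 := by linear_combination -h3
    rcases mul_eq_zero.1 h4 with h5 | h5
    · linear_combination h5
    · exact absurd h5 hab
  have hl1 : l = 1 ∨ l = -1 := by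
    have : (l - 1) * (l + 1) = 0 := by linear_combination hll
    rcases mul_eq_zero.1 this with h | h
    · left; linear_combination h
    · right; linear_combination h
  rcases hl1 with rfl | rfl
  · rw [hl, one_smul]
  · exfalso
    have h1 : C.det = (-1 : F) ^ d * C.det := by
      calc C.det = (Cᵀ).det := (Matrix.det_transpose C).symm
        _ = ((-1 : F) • C).det := by rw [hl]
        _ = (-1 : F) ^ (Fintype.card (Fin d)) * C.det := Matrix.det_smul _ _
        _ = (-1 : F) ^ d * C.det := by rw [Fintype.card_fin]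
    rw [hd.neg_one_pow] at h1
    have h3 : (2 : F) * C.det = 0 := by linear_combination h1
    rcases mul_eq_zero.1 h3 with h | h
    · exact h2 h
    · exact hdet h

end Cfsg.Agent.Lib.Helper54_OrthOdd_OP6b
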