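import Mathlib
import Cfsg.Agent.Lib.Helper98_AschDefs
import Cfsg.Agent.Lib.Helper98_AschCliff
import Cfsg.Agent.Lib.Helper23_FormDefs
import Cfsg.Agent.Lib.Helper10_Asch_PK4
import Cfsg.Agent.Lib.Helper29_Asch_PKP1
import Cfsg.Agent.Lib.Helper54_Asch_PKP2
import Cfsg.Agent.Lib.Helper54_OrthOdd_OP6a
import Cfsg.Agent.Lib.Helper54_OrthOdd_OP6b
import Cfsg.Agent.Lib.Helper26_AschSp_SP6c
import Cfsg.Agent.Lib.Helper7_AschSp_SPQ

/-!
# Package SP6 of S5662 (helper23's cut): a perfect minimal normal subgroup with at least two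
components of a subgroup of `Sp_{2m}(F)` gives a tensor power structure of the symplectic form
(class 7, odd characteristic) or an invariant quadratic form (class 8, characteristic 2).

Built on helper54's `Helper54_OrthOdd_OP6a.tensor_data` and `Helper54_OrthOdd_OP6b`
(the orthogonal twin), helper26's `SP6c` and helper7's `SPQ`.
-/

set_option autoImplicit false
set_option linter.unusedVariables false
set_option linter.unusedSectionVars false
set_option linter.style.haveILetI false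

namespace Cfsg.Agent.Lib.Helper98_AschSp_SP6

open Cfsg Cfsg.Geo Matrix Cfsg.Agent.Lib.Helper98_AschDefs Cfsg.Agent.Lib.Helper23_FormDefs
  Cfsg.Agent.Lib.Helper10_Asch_PK4 Cfsg.Agent.Lib.Helper54_OrthOdd_OP6a
  Cfsg.Agent.Lib.Helper54_OrthOdd_OP6b
open scoped Kronecker commutatorElement

variable {F : Type*} [Field F]

/-! ### small matrix lemmas -/

/-- two matrices inducing the same bilinear form are equal -/
lemma eq_of_forall_dot {ι : Type} [Fintype ι] [DecidableEq ι] (A B : Matrix ι ι F)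
    (h : ∀ u v : ι → F, u ⬝ᵥ A *ᵥ v = u ⬝ᵥ B *ᵥ v) : A = B := by
  ext i j
  have := h (Pi.single i 1) (Pi.single j 1)
  simpa using this

lemma dot_mulVec_mulVec {ι : Type} [Fintype ι] [DecidableEq ι] (G h : Matrix ι ι F) (u v : ι → F) :
    (h *ᵥ u) ⬝ᵥ G *ᵥ (h *ᵥ v) = u ⬝ᵥ (hᵀ * G * h) *ᵥ v := by
  rw [← Matrix.mulVec_mulVec, ← Matrix.mulVec_mulVec, dotProduct_comm (h *ᵥ u),
    Matrix.dotProduct_mulVec, ← Matrix.mulVec_transpose, dotProduct_comm]

lemma reindex_symm_eq {ι κ : Type} [Fintype ι] [DecidableEq ι] [Fintype κ] [DecidableEq κ]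
    (e : ι ≃ κ) (X : Matrix κ κ F) : Matrix.reindex e.symm e.symm X = X.submatrix e e := by
  ext i j
  simp

/-- the bilinear form of a Gram matrix in a tensor basis -/
lemma dot_comp_equiv {ι κ : Type} [Fintype ι] [DecidableEq ι] [Fintype κ] [DecidableEq κ]
    (e : ι ≃ κ) (Γ : Matrix ι ι F) (x y : κ → F) :
    (x ∘ e) ⬝ᵥ Γ *ᵥ (y ∘ e) = ∑ a, ∑ b, x a * (Γ.submatrix e.symm e.symm) a b * y b := by
  simp only [dotProduct, Matrix.mulVec, Function.comp_apply, Matrix.submatrix_apply]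
  rw [← Fintype.sum_equiv e.symm (fun a => ∑ b, x a * Γ (e.symm a) (e.symm b) * y b)
    (fun i => x (e i) * ∑ j, Γ i j * y (e j))]
  intro a
  rw [Equiv.apply_symm_apply, Finset.mul_sum]
  rw [← Fintype.sum_equiv e.symm (fun b => x a * Γ (e.symm a) (e.symm b) * y b)
    (fun j => x a * (Γ (e.symm a) j * y (e j)))]
  intro b
  rw [Equiv.apply_symm_apply, mul_assoc]

lemma gramMatrix_of_matrix {d : ℕ} (C : Matrix (Fin d) (Fin d) F) :
    gramMatrix (fun u v : Fin d → F => u ⬝ᵥ C *ᵥ v) = C := by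
  ext a b
  simp [gramMatrix]

/-! ### the quadratic form on a tensor power in characteristic 2 -/

section Quad

variable {k d : ℕ}

/-- sums of products over pairs of multi-indices factor -/
lemma sum_sum_prod (h : Fin k → Fin d → Fin d → F) :
    ∑ a : Fin k → Fin d, ∑ b : Fin k → Fin d, ∏ i, h i (a i) (b i) = ∏ i, ∑ s, ∑ t, h i s t := by
  rw [Finset.prod_univ_sum, Fintype.piFinset_univ]
  apply Finset.sum_congr rfl
  intro a _
  rw [Finset.prod_univ_sum, Fintype.piFinset_univ]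

/-- the pure tensor with factors `u i` -/
def pure (u : Fin k → Fin d → F) : (Fin k → Fin d) → F := fun a => ∏ i, u i (a i)

/-- pure tensor matrices map pure tensors to pure tensors -/
lemma pt_mulVec_pure (A : Fin k → Matrix (Fin d) (Fin d) F) (u : Fin k → Fin d → F) :
    pt k d A *ᵥ pure u = pure (fun i => A i *ᵥ u i) := by
  ext a
  simp only [Matrix.mulVec, dotProduct, pure, pt_apply]
  rw [Finset.prod_univ_sum, Fintype.piFinset_univ]
  apply Finset.sum_congr rfl
  intro b _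
  rw [Finset.prod_mul_distrib]

/-- the bilinear form with Gram matrix `c • C ⊗ ⋯ ⊗ C` -/
def bk (c : F) (C : Matrix (Fin d) (Fin d) F) (x y : (Fin k → Fin d) → F) : F :=
  c * ∑ a, ∑ b, x a * (∏ i, C (a i) (b i)) * y b

/-- the quadratic form with matrix `c • C ⊗ ⋯ ⊗ B₀ ⊗ ⋯ ⊗ C` (`B₀` in position `i₀`) -/
def qk (c : F) (C B₀ : Matrix (Fin d) (Fin d) F) (i₀ : Fin k) (x : (Fin k → Fin d) → F) : F :=
  c * ∑ a, ∑ b, x a * (B₀ (a i₀) (b i₀) * ∏ i ∈ Finset.univ.erase i₀, C (a i) (b i)) * x b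

lemma qk_smul (c : F) (C B₀ : Matrix (Fin d) (Fin d) F) (i₀ : Fin k) (t : F)
    (x : (Fin k → Fin d) → F) : qk c C B₀ i₀ (t • x) = t ^ 2 * qk c C B₀ i₀ x := by
  unfold qk
  simp only [Pi.smul_apply, smul_eq_mul, Finset.mul_sum]
  apply Finset.sum_congr rfl
  intro a _
  apply Finset.sum_congr rfl
  intro b _
  ring

lemma qk_add (c : F) (C B₀ : Matrix (Fin d) (Fin d) F) (i₀ : Fin k)
    (hB : ∀ s t, B₀ s t + B₀ t s = C s t) (x y : (Fin k → Fin d) → F) :
    qk c C B₀ i₀ (x + y) = qk c C B₀ i₀ x + qk c C B₀ i₀ y + bk c C x y := by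
  have hCs : ∀ s t, C s t = C t s := by
    intro s t
    rw [← hB s t, ← hB t s, add_comm]
  set T : (Fin k → Fin d) → (Fin k → Fin d) → F :=
    fun a b => B₀ (a i₀) (b i₀) * ∏ i ∈ Finset.univ.erase i₀, C (a i) (b i) with hT
  have hTT : ∀ a b, T a b + T b a = ∏ i, C (a i) (b i) := by
    intro a b
    have h1 : ∏ i ∈ Finset.univ.erase i₀, C (b i) (a i) = ∏ i ∈ Finset.univ.erase i₀, C (a i) (b i) :=
      Finset.prod_congr rfl (fun i _ => hCs _ _)
    simp only [hT]
    rw [h1, ← add_mul, hB, Finset.mul_prod_erase Finset.univ (fun i => C (a i) (b i))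
      (Finset.mem_univ i₀)]
  have hswap : ∑ a, ∑ b, y a * T a b * x b = ∑ a, ∑ b, x a * T b a * y b := by
    rw [Finset.sum_comm]
    apply Finset.sum_congr rfl
    intro a _
    apply Finset.sum_congr rfl
    intro b _
    ring
  have hbk : bk c C x y = c * (∑ a, ∑ b, x a * T a b * y b + ∑ a, ∑ b, y a * T a b * x b) := by
    unfold bk
    rw [hswap, ← Finset.sum_add_distrib]
    congr 1
    apply Finset.sum_congr rfl
    intro a _
    rw [← Finset.sum_add_distrib]
    apply Finset.sum_congr rfl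
    intro b _
    rw [← hTT a b]
    ring
  rw [hbk]
  show c * ∑ a, ∑ b, (x + y) a * T a b * (x + y) b = c * ∑ a, ∑ b, x a * T a b * x b +
    c * ∑ a, ∑ b, y a * T a b * y b + _
  rw [← mul_add, ← mul_add]
  congr 1
  simp only [← Finset.sum_add_distrib]
  apply Finset.sum_congr rfl
  intro a _
  apply Finset.sum_congr rfl
  intro b _
  simp only [Pi.add_apply]
  ring

/-- in characteristic 2 a matrix of the shape `B₀ + B₀ᵀ` is alternating -/
lemma alt_of_sum (h2 : (2 : F) = 0) (C B₀ : Matrix (Fin d) (Fin d) F)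
    (hB : ∀ s t, B₀ s t + B₀ t s = C s t) (u : Fin d → F) :
    ∑ s, ∑ t, u s * C s t * u t = 0 := by
  have h1 : ∑ s, ∑ t, u s * C s t * u t =
      ∑ s, ∑ t, u s * B₀ s t * u t + ∑ s, ∑ t, u s * B₀ t s * u t := by
    rw [← Finset.sum_add_distrib]
    apply Finset.sum_congr rfl
    intro s _
    rw [← Finset.sum_add_distrib]
    apply Finset.sum_congr rfl
    intro t _
    rw [← hB s t]
    ring
  have h3 : ∑ s, ∑ t, u s * B₀ t s * u t = ∑ s, ∑ t, u s * B₀ s t * u t := by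
    rw [Finset.sum_comm]
    apply Finset.sum_congr rfl
    intro s _
    apply Finset.sum_congr rfl
    intro t _
    ring
  rw [h1, h3, ← two_mul, h2, zero_mul]

/-- the quadratic form vanishes on pure tensors -/
lemma qk_pure (h2 : (2 : F) = 0) (c : F) (C B₀ : Matrix (Fin d) (Fin d) F) (i₀ i₁ : Fin k)
    (hi : i₁ ≠ i₀) (hB : ∀ s t, B₀ s t + B₀ t s = C s t) (u : Fin k → Fin d → F) :
    qk c C B₀ i₀ (pure u) = 0 := by
  classical
  unfold qk
  set X : Fin k → Matrix (Fin d) (Fin d) F := fun i => if i = i₀ then B₀ else C with hX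
  have hT : ∀ a b : Fin k → Fin d, B₀ (a i₀) (b i₀) * ∏ i ∈ Finset.univ.erase i₀, C (a i) (b i) =
      ∏ i, X i (a i) (b i) := by
    intro a b
    rw [← Finset.mul_prod_erase Finset.univ (fun i => X i (a i) (b i)) (Finset.mem_univ i₀)]
    congr 1
    · simp [hX]
    · apply Finset.prod_congr rfl
      intro i hi'
      simp [hX, Finset.ne_of_mem_erase hi']
  have h1 : ∑ a : Fin k → Fin d, ∑ b : Fin k → Fin d, pure u a *
      (B₀ (a i₀) (b i₀) * ∏ i ∈ Finset.univ.erase i₀, C (a i) (b i)) * pure u b =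
      ∑ a : Fin k → Fin d, ∑ b : Fin k → Fin d, ∏ i, (u i (a i) * X i (a i) (b i) * u i (b i)) := by
    apply Finset.sum_congr rfl
    intro a _
    apply Finset.sum_congr rfl
    intro b _
    rw [hT, Finset.prod_mul_distrib, Finset.prod_mul_distrib]
    rfl
  rw [h1, sum_sum_prod (fun i s t => u i s * X i s t * u i t)]
  have h0 : ∑ s, ∑ t, u i₁ s * X i₁ s t * u i₁ t = 0 := by
    have : X i₁ = C := by simp [hX, hi]
    rw [this]
    exact alt_of_sum h2 C B₀ hB (u i₁)
  rw [Finset.prod_eq_zero (Finset.mem_univ i₁) h0, mul_zero]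

/-- a scalar multiple of a standard basis vector is a pure tensor -/
lemma single_eq_pure (j₀ : Fin k) (a : Fin k → Fin d) (t : F) :
    (Pi.single a t : (Fin k → Fin d) → F) =
      pure (fun j => Pi.single (a j) (if j = j₀ then t else 1)) := by
  classical
  ext b
  simp only [pure, Pi.single_apply]
  by_cases hab : b = a
  · subst hab
    simp
  · rw [if_neg hab]
    obtain ⟨j, hj⟩ : ∃ j, b j ≠ a j := by
      by_contra hcon
      push Not at hcon
      exact hab (funext hcon)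
    symm
    apply Finset.prod_eq_zero (Finset.mem_univ j)
    rw [if_neg hj]

/-- a quadratic form with polar form `bk` vanishing on pure tensors is invariant under every
isometry of `bk` mapping pure tensors to pure tensors -/
lemma quad_invariant (hk : 0 < k) (q : ((Fin k → Fin d) → F) → F) (b : ((Fin k → Fin d) → F) →
    ((Fin k → Fin d) → F) → F) (hadd : ∀ x y, q (x + y) = q x + q y + b x y)
    (hpure : ∀ u, q (pure u) = 0) (M : Matrix (Fin k → Fin d) (Fin k → Fin d) F)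
    (hM : ∀ u, ∃ u', M *ᵥ pure u = pure u') (hb : ∀ x y, b (M *ᵥ x) (M *ᵥ y) = b x y)
    (x : (Fin k → Fin d) → F) : q (M *ᵥ x) = q x := by
  classical
  set D : ((Fin k → Fin d) → F) → F := fun x => q (M *ᵥ x) - q x with hD
  have hDadd : ∀ x y, D (x + y) = D x + D y := by
    intro x y
    simp only [hD]
    rw [Matrix.mulVec_add, hadd, hadd, hb]
    ring
  have hD0 : D 0 = 0 := by
    have := hDadd 0 0
    rw [add_zero] at this
    linear_combination -this
  have hDsum : ∀ (s : Finset (Fin k → Fin d)) (w : (Fin k → Fin d) → ((Fin k → Fin d) → F)),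
      D (∑ a ∈ s, w a) = ∑ a ∈ s, D (w a) := by
    intro s w
    induction s using Finset.induction_on with
    | empty => simpa using hD0
    | insert a s ha ih => rw [Finset.sum_insert ha, Finset.sum_insert ha, hDadd, ih]
  have hDpure : ∀ u, D (pure u) = 0 := by
    intro u
    obtain ⟨u', hu'⟩ := hM u
    simp only [hD]
    rw [hu', hpure, hpure, sub_zero]
  have hx : x = ∑ a, (Pi.single a (x a) : (Fin k → Fin d) → F) := (Finset.univ_sum_single x).symm
  have h1 : D x = 0 := by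
    rw [hx, hDsum]
    apply Finset.sum_eq_zero
    intro a _
    rw [single_eq_pure ⟨0, hk⟩ a (x a)]
    exact hDpure _
  have h2 : q (M *ᵥ x) - q x = 0 := h1
  linear_combination h2

end Quad

/-! ### skew pure tensor powers -/

/-- a skew-symmetric pure tensor power: the factor is symmetric up to a scalar `l` with
`l ^ k = -1` and `l * l = 1` -/
lemma transpose_eq_smul_of_pt_skew {k d : ℕ} (hk : 0 < k) (C : Matrix (Fin d) (Fin d) F) (hC : C ≠ 0)
    (h : (pt k d (fun _ => C))ᵀ = - pt k d (fun _ => C)) :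
    ∃ l : F, Cᵀ = l • C ∧ l ^ k = -1 ∧ l * l = 1 := by
  obtain ⟨k', rfl⟩ : ∃ k', k = k' + 1 := ⟨k - 1, by omega⟩
  obtain ⟨a0, b0, h0⟩ : ∃ a0 b0, C a0 b0 ≠ 0 := by
    by_contra hcon
    push Not at hcon
    apply hC
    ext a b
    exact hcon a b
  have key : ∀ a b, C b a * (C b0 a0) ^ k' = - (C a b * (C a0 b0) ^ k') := by
    intro a b
    have h1 := congrFun (congrFun h (Fin.cons a (fun _ => a0))) (Fin.cons b (fun _ => b0))
    rw [Matrix.transpose_apply, Matrix.neg_apply, pt_apply, pt_apply, Fin.prod_univ_succ,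
      Fin.prod_univ_succ] at h1
    simpa using h1
  have hb : C b0 a0 ≠ 0 := by
    intro hb
    have h1 := key a0 b0
    rw [hb, zero_mul] at h1
    have h2 : C a0 b0 * C a0 b0 ^ k' = 0 := by linear_combination h1
    exact (mul_ne_zero h0 (pow_ne_zero _ h0)) h2
  have hbk : (C b0 a0) ^ k' ≠ 0 := pow_ne_zero _ hb
  refine ⟨- ((C a0 b0) ^ k' / (C b0 a0) ^ k'), ?_, ?_, ?_⟩
  · ext a b
    rw [Matrix.transpose_apply, Matrix.smul_apply, smul_eq_mul]
    have h2 := key a b
    field_simp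
    linear_combination h2
  · have h1 := key a0 b0
    have h3 : (- ((C a0 b0) ^ k' / (C b0 a0) ^ k')) * C a0 b0 = C b0 a0 := by
      have h2 := key a0 b0
      field_simp
      linear_combination -h2
    have h4 : (- ((C a0 b0) ^ k' / (C b0 a0) ^ k')) ^ (k' + 1) * (C a0 b0) ^ (k' + 1) =
        - (C a0 b0) ^ (k' + 1) := by
      rw [← mul_pow, h3, pow_succ', pow_succ']
      linear_combination h1
    have h5 : (C a0 b0) ^ (k' + 1) ≠ 0 := pow_ne_zero _ h0
    have h6 : ((- ((C a0 b0) ^ k' / (C b0 a0) ^ k')) ^ (k' + 1) + 1) * (C a0 b0) ^ (k' + 1) = 0 := by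
      linear_combination h4
    rcases mul_eq_zero.1 h6 with h7 | h7
    · linear_combination h7
    · exact absurd h7 h5
  · have h1 := key a0 b0
    have h2 := key b0 a0
    have h3 : (C a0 b0) ^ k' * (C a0 b0) ^ k' = (C b0 a0) ^ k' * (C b0 a0) ^ k' := by
      have e1 : C b0 a0 * (C b0 a0 ^ k' * C b0 a0 ^ k') * C a0 b0 =
          C b0 a0 * (C a0 b0 ^ k' * C a0 b0 ^ k') * C a0 b0 := by
        linear_combination (C a0 b0 * C b0 a0 ^ k') * h1 - (C a0 b0 * C a0 b0 ^ k') * h2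
      have e2 := mul_right_cancel₀ h0 e1
      exact (mul_left_cancel₀ hb e2).symm
    field_simp
    linear_combination h3

lemma two_ne_zero_of_odd [Fintype F] (hodd : Odd (Fintype.card F)) : (2 : F) ≠ 0 := by
  intro h
  have h1 : ringChar F = 2 := CharP.ringChar_of_prime_eq_zero Nat.prime_two (by exact_mod_cast h)
  have h2 := FiniteField.even_card_of_char_two h1
  rcases hodd with ⟨r, hr⟩
  omega

/-- the symplectic form with an invertible skew-symmetric Gram matrix (odd characteristic) -/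
lemma isSymplecticForm_of_matrix {d : ℕ} (h2 : (2 : F) ≠ 0) (C : Matrix (Fin d) (Fin d) F)
    (hC : Cᵀ = -C) (hdet : IsUnit C.det) :
    IsSymplecticForm (fun u v : Fin d → F => u ⬝ᵥ C *ᵥ v) := by
  have hskew : ∀ u v : Fin d → F, u ⬝ᵥ C *ᵥ v = - (v ⬝ᵥ C *ᵥ u) := by
    intro u v
    rw [Matrix.dotProduct_mulVec, ← Matrix.mulVec_transpose, hC, Matrix.neg_mulVec, neg_dotProduct,
      dotProduct_comm]
  refine ⟨gramForm_bilinear C, hskew, ?_, gramForm_nondeg hdet⟩
  intro v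
  have h1 := hskew v v
  have h3 : (2 : F) * (v ⬝ᵥ C *ᵥ v) = 0 := by linear_combination h1
  rcases mul_eq_zero.1 h3 with h | h
  · exact absurd h h2
  · exact h

/-! ### group theory -/

section Grp

variable {ι : Type} [Fintype ι] [DecidableEq ι]

lemma normalizesGrp_comm {A T : Subgroup (GL ι F)} (hnorm : NormalizesGrp A T) :
    NormalizesGrp A ⁅T, T⁆ := by
  intro h hh x hx
  have h1 : (⁅T, T⁆).map (MulAut.conj h).toMonoidHom ≤ ⁅T, T⁆ := by
    rw [Subgroup.map_commutator]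
    have h2 : T.map (MulAut.conj h).toMonoidHom ≤ T := by
      rintro _ ⟨y, hy, rfl⟩
      exact hnorm h hh y hy
    exact Subgroup.commutator_mono h2 h2
  exact h1 ⟨x, hx, rfl⟩

/-- some component is perfect -/
lemma exists_perfect_factor (N : Subgroup (GL ι F))
    (hperf : ⁅N, N⁆ = N) (k : ℕ) (hk : 0 < k) (S : Fin k → Subgroup (GL ι F)) (hSN : ∀ i, S i ≤ N)
    (hSnorm : ∀ i, NormalizesGrp N (S i)) (hSZ : ∀ i, ¬ S i ≤ scalars ι F)
    (hcomm : ∀ i j, i ≠ j → ∀ x ∈ S i, ∀ y ∈ S j, x * y = y * x) (hsup : ⨆ i, S i = N)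
    (hSmin : ∀ i, ∀ T : Subgroup (GL ι F), T ≤ S i → NormalizesGrp N T →
      T = S i ∨ T ≤ scalars ι F) :
    ∃ i, ⁅S i, S i⁆ = S i := by
  by_contra hcon
  push Not at hcon
  have h1 : ∀ i, ⁅S i, S i⁆ ≤ scalars ι F := by
    intro i
    rcases hSmin i ⁅S i, S i⁆ (Subgroup.commutator_le_self (S i))
      (normalizesGrp_comm (hSnorm i)) with h | h
    · exact absurd h (hcon i)
    · exact h
  have h2 : ⁅N, N⁆ ≤ scalars ι F := by
    rw [← hsup]
    apply Cfsg.Agent.Lib.Helper29_Asch_PKP1.iSup_commutator_iSup_le scalars_normal S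
    intro i j
    by_cases hij : i = j
    · subst hij
      exact h1 i
    · rw [Subgroup.commutator_le]
      intro x hx y hy
      have h3 : ⁅x, y⁆ = 1 := by
        rw [commutatorElement_eq_one_iff_mul_comm]
        exact hcomm i j hij x hx y hy
      rw [h3]
      exact Subgroup.one_mem _
  rw [hperf] at h2
  exact hSZ ⟨0, hk⟩ ((hSN _).trans h2)

/-- over the field with three elements a perfect group spanning a copy of `M_2(F)` is trivial -/
lemma eq_bot_of_perfect_M2 [Fintype F] [Nonempty ι] (hF : Fintype.card F = 3)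
    (φ₀ : Matrix (Fin 2) (Fin 2) F →ₐ[F] Matrix ι ι F) (S₀ : Subgroup (GL ι F))
    (hperf : ⁅S₀, S₀⁆ = S₀) (hsurj : ∀ a ∈ spanAlg S₀, ∃ M, a = φ₀ M) : S₀ = ⊥ := by
  have hinj : Function.Injective φ₀ := (φ₀ : Matrix (Fin 2) (Fin 2) F →+* Matrix ι ι F).injective
  obtain ⟨ρ, hρ⟩ : ∃ ρ : GL (Fin 2) F →* GL ι F,
      ρ = Units.map (φ₀ : Matrix (Fin 2) (Fin 2) F →* Matrix ι ι F) := ⟨_, rfl⟩
  have hρinj : Function.Injective ρ := by
    rw [hρ]
    exact Units.map_injective hinj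
  have hle : S₀ ≤ ρ.range := by
    intro x hx
    obtain ⟨M, hM⟩ := hsurj _ (coe_mem_spanAlg hx)
    obtain ⟨M', hM'⟩ := hsurj _ (coe_mem_spanAlg (S₀.inv_mem hx))
    have hMM' : M * M' = 1 := by
      apply hinj
      rw [map_mul, ← hM, ← hM', ← Units.val_mul, mul_inv_cancel, Units.val_one, map_one]
    have hM'M : M' * M = 1 := by
      apply hinj
      rw [map_mul, ← hM, ← hM', ← Units.val_mul, inv_mul_cancel, Units.val_one, map_one]
    refine ⟨⟨M, M', hMM', hM'M⟩, ?_⟩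
    apply Units.ext
    rw [hρ]
    show φ₀ M = (x : Matrix ι ι F)
    exact hM.symm
  have hT : (S₀.comap ρ).map ρ = S₀ := by
    rw [Subgroup.map_comap_eq, inf_eq_right.2 hle]
  have hTperf : ⁅S₀.comap ρ, S₀.comap ρ⁆ = S₀.comap ρ := by
    apply Subgroup.map_injective hρinj
    rw [Subgroup.map_commutator, hT, hperf]
  have h1 := Cfsg.Agent.Lib.Helper26_AschSp_SP6c.SP6c hF (S₀.comap ρ) hTperf
  rw [← hT, h1, Subgroup.map_bot]

end Grp

/-! ### the package -/

section Sp

variable [Fintype F]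

/-- SP6: a perfect minimal normal subgroup with at least two components -/
theorem SP6 (m : ℕ) (hm : 2 ≤ m) (H N : Subgroup (GL (Fin m ⊕ Fin m) F)) (hH : H ≤ spGL m F) (hNH : N ≤ H)
    (hspan : spanAlg N = ⊤) (hperf : ⁅N, N⁆ = N)
    (k : ℕ) (hk : 2 ≤ k) (S : Fin k → Subgroup (GL (Fin m ⊕ Fin m) F)) (hSN : ∀ i, S i ≤ N)
    (hSnorm : ∀ i, NormalizesGrp N (S i)) (hSZ : ∀ i, ¬ S i ≤ scalars (Fin m ⊕ Fin m) F)
    (hcomm : ∀ i j, i ≠ j → ∀ x ∈ S i, ∀ y ∈ S j, x * y = y * x) (hsup : ⨆ i, S i = N)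
    (hperm : ∀ h ∈ H, ∃ π : Equiv.Perm (Fin k), ∀ i, ∀ x, x ∈ S i ↔ h * x * h⁻¹ ∈ S (π i))
    (htrans : ∀ i j, ∃ h ∈ H, ∀ x, x ∈ S i ↔ h * x * h⁻¹ ∈ S j)
    (hSmin : ∀ i, ∀ T : Subgroup (GL (Fin m ⊕ Fin m) F), T ≤ S i → NormalizesGrp N T →
      T = S i ∨ T ≤ scalars (Fin m ⊕ Fin m) F) :
    InSpClass m H := by
  classical
  haveI : Nonempty (Fin m ⊕ Fin m) := ⟨Sum.inl ⟨0, by omega⟩⟩
  obtain ⟨i0, hperf0⟩ := exists_perfect_factor N hperf k (by omega) S hSN hSnorm hSZ hcomm hsup hSmin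
  obtain ⟨d, φ₀, g, e, P, hd2, hgH, hg, hφ0, hφ0', hφ, hle⟩ :=
    tensor_data H N hspan k hk S hSN hSnorm hSZ hcomm hsup hperm htrans i0
  -- induction principle over `N = ⨆ S i`
  have hind : ∀ (C : GL (Fin m ⊕ Fin m) F → Prop), (∀ i, ∀ x ∈ S i, C x) → C 1 →
      (∀ x y, C x → C y → C (x * y)) → ∀ x ∈ N, C x := by
    intro C hmem hone hmul x hx
    have hx' : x ∈ ⨆ i, S i := by rw [hsup]; exact hx
    exact Subgroup.iSup_induction S (C := C) hx' hmem hone hmul
  -- the Gram matrix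
  obtain ⟨G, hGdef⟩ : ∃ G : Matrix (Fin m ⊕ Fin m) (Fin m ⊕ Fin m) F, G = Matrix.J (Fin m) F :=
    ⟨_, rfl⟩
  have hGt : Gᵀ = -G := by rw [hGdef]; exact Matrix.J_transpose (Fin m) F
  obtain ⟨Gi, hGidef⟩ : ∃ Gi : Matrix (Fin m ⊕ Fin m) (Fin m ⊕ Fin m) F, Gi = -G := ⟨_, rfl⟩
  have hGi : G * Gi = 1 := by
    rw [hGidef, hGdef, Matrix.mul_neg, Matrix.J_squared, neg_neg]
  have hiG : Gi * G = 1 := by
    rw [hGidef, hGdef, Matrix.neg_mul, Matrix.J_squared, neg_neg]
  have hf : ∀ u v, sympForm m F u v = u ⬝ᵥ G *ᵥ v := by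
    intro u v
    rw [hGdef]
    rfl
  have hsymp := isSymplecticForm_sympForm (F := F) m
  have hisoH : ∀ h ∈ H, (h : Matrix (Fin m ⊕ Fin m) (Fin m ⊕ Fin m) F)ᵀ * G *
      (h : Matrix (Fin m ⊕ Fin m) (Fin m ⊕ Fin m) F) = G := by
    intro h hh
    apply eq_of_forall_dot
    intro u v
    rw [← dot_mulVec_mulVec, ← hf, ← hf]
    exact (mem_spGL_iff h).1 (hH hh) u v
  have hSH : ∀ i, S i ≤ H := fun i => (hSN i).trans hNH
  -- the base factor algebra is closed under adjoints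
  have hcl : ∀ M, ∃ M', adj G Gi (φ₀ M) = φ₀ M' := by
    intro M
    have h1 := adj_mem_spanAlg G Gi hiG (S i0) (fun x hx => hisoH x (hSH i0 hx)) (hφ0 M)
    obtain ⟨M', hM'⟩ := hφ0' _ h1
    exact ⟨M', hM'⟩
  have hd0 : 0 < d := by omega
  obtain ⟨B, hB⟩ := exists_B hd0 G Gi hGi hiG φ₀ hcl
  -- the adjoint on every factor
  have hfac : ∀ j M, adj G Gi ((P : Matrix (Fin m ⊕ Fin m) (Fin m ⊕ Fin m) F) *
        (factorMat k d j M).submatrix e e *
        ((P⁻¹ : GL (Fin m ⊕ Fin m) F) : Matrix (Fin m ⊕ Fin m) (Fin m ⊕ Fin m) F)) =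
      (P : Matrix (Fin m ⊕ Fin m) (Fin m ⊕ Fin m) F) *
        (factorMat k d j ((B : Matrix (Fin d) (Fin d) F) * Mᵀ *
        ((B⁻¹ : GL (Fin d) F) : Matrix (Fin d) (Fin d) F))).submatrix e e *
        ((P⁻¹ : GL (Fin m ⊕ Fin m) F) : Matrix (Fin m ⊕ Fin m) (Fin m ⊕ Fin m) F) := by
    intro j M
    have h1 := hφ j M
    have h1' := hφ j ((B : Matrix (Fin d) (Fin d) F) * Mᵀ *
        ((B⁻¹ : GL (Fin d) F) : Matrix (Fin d) (Fin d) F))
    rw [reindex_symm_eq] at h1 h1'
    rw [← h1, adj_conj G Gi hGi hiG (g j) (hisoH _ (hgH j)), hB, h1']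
  obtain ⟨c, hc⟩ := gram_eq_smul_pt hd0 G Gi hGi hiG e P B hfac
  obtain ⟨C, hCdef⟩ : ∃ C : Matrix (Fin d) (Fin d) F,
      C = ((B⁻¹ : GL (Fin d) F) : Matrix (Fin d) (Fin d) F) := ⟨_, rfl⟩
  rw [← hCdef] at hc
  obtain ⟨Γ, hΓ⟩ : ∃ Γ : Matrix (Fin m ⊕ Fin m) (Fin m ⊕ Fin m) F,
      Γ = (P : Matrix (Fin m ⊕ Fin m) (Fin m ⊕ Fin m) F)ᵀ * G *
        (P : Matrix (Fin m ⊕ Fin m) (Fin m ⊕ Fin m) F) := ⟨_, rfl⟩
  rw [← hΓ] at hc
  have hΓs : Γᵀ = -Γ := by
    rw [hΓ, Matrix.transpose_mul, Matrix.transpose_mul, Matrix.transpose_transpose, hGt,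
      Matrix.neg_mul, Matrix.mul_neg, mul_assoc]
  have hPdet : (P : Matrix (Fin m ⊕ Fin m) (Fin m ⊕ Fin m) F).det ≠ 0 := by
    have h1 : (P : Matrix (Fin m ⊕ Fin m) (Fin m ⊕ Fin m) F).det *
        ((P⁻¹ : GL (Fin m ⊕ Fin m) F) : Matrix (Fin m ⊕ Fin m) (Fin m ⊕ Fin m) F).det = 1 := by
      rw [← Matrix.det_mul, ← Units.val_mul, mul_inv_cancel, Units.val_one, Matrix.det_one]
    intro h0
    rw [h0, zero_mul] at h1
    exact zero_ne_one h1
  have hGdet : G.det ≠ 0 := by
    intro h0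
    have h1 := congrArg Matrix.det hGi
    rw [Matrix.det_mul, h0, zero_mul, Matrix.det_one] at h1
    exact zero_ne_one h1
  have hΓdet : Γ.det ≠ 0 := by
    rw [hΓ, Matrix.det_mul, Matrix.det_mul, Matrix.det_transpose]
    exact mul_ne_zero (mul_ne_zero hPdet hGdet) hPdet
  have hc0 : c ≠ 0 := by
    rintro rfl
    rw [zero_smul] at hc
    apply hΓdet
    have h1 : Γ = 0 := by
      ext i j
      have := congrFun (congrFun hc (e i)) (e j)
      simpa using this
    rw [h1]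
    simp
  -- the pure tensor is skew-symmetric
  have hpts : (pt k d (fun _ => C))ᵀ = - pt k d (fun _ => C) := by
    have h1 : (Γ.submatrix e.symm e.symm)ᵀ = - Γ.submatrix e.symm e.symm := by
      rw [Matrix.transpose_submatrix, hΓs]
      rfl
    rw [hc, Matrix.transpose_smul] at h1
    ext a b
    have h3 := congrFun (congrFun h1 a) b
    rw [Matrix.smul_apply, Matrix.neg_apply, Matrix.smul_apply, smul_eq_mul, smul_eq_mul] at h3
    rw [Matrix.neg_apply]
    have h4 : c * ((pt k d fun _ => C)ᵀ a b) = c * (- (pt k d fun _ => C) a b) := by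
      rw [h3]; ring
    exact mul_left_cancel₀ hc0 h4
  have hCB : C * (B : Matrix (Fin d) (Fin d) F) = 1 := by
    rw [hCdef, ← Units.val_mul, inv_mul_cancel, Units.val_one]
  have hCdet : C.det ≠ 0 := by
    intro h0
    have h1 := congrArg Matrix.det hCB
    rw [Matrix.det_mul, h0, zero_mul, Matrix.det_one] at h1
    exact zero_ne_one h1
  have hC0 : C ≠ 0 := by
    rintro rfl
    apply hCdet
    haveI : Nonempty (Fin d) := ⟨⟨0, hd0⟩⟩
    simp
  -- the form in the tensor basis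
  have hform : ∀ x y : (Fin k → Fin d) → F,
      sympForm m F ((P : Matrix (Fin m ⊕ Fin m) (Fin m ⊕ Fin m) F) *ᵥ (x ∘ e))
        ((P : Matrix (Fin m ⊕ Fin m) (Fin m ⊕ Fin m) F) *ᵥ (y ∘ e)) = bk c C x y := by
    intro x y
    rw [hf, dot_mulVec_mulVec, ← hΓ, dot_comp_equiv, hc]
    unfold bk
    rw [Finset.mul_sum]
    apply Finset.sum_congr rfl
    intro a _
    rw [Finset.mul_sum]
    apply Finset.sum_congr rfl
    intro b _
    rw [Matrix.smul_apply, pt_apply, smul_eq_mul]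
    ring
  obtain ⟨l, hl, hlk, hll⟩ := transpose_eq_smul_of_pt_skew (by omega) C hC0 hpts
  have hl1 : l = 1 ∨ l = -1 := by
    have : (l - 1) * (l + 1) = 0 := by linear_combination hll
    rcases mul_eq_zero.1 this with h | h
    · left; linear_combination h
    · right; linear_combination h
  by_cases hodd : Odd (Fintype.card F)
  · -- odd characteristic: class 7
    have h2 : (2 : F) ≠ 0 := two_ne_zero_of_odd hodd
    have hlm : l = -1 := by
      rcases hl1 with h | h
      · exfalso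
        rw [h, one_pow] at hlk
        apply h2
        linear_combination hlk
      · exact h
    rw [hlm] at hl hlk
    have hCs : Cᵀ = -C := by rw [hl, neg_smul, one_smul]
    have hkodd : Odd k := by
      by_contra hne
      rw [Nat.not_odd_iff_even] at hne
      rw [hne.neg_one_pow] at hlk
      apply h2
      linear_combination hlk
    have h3k : 3 ≤ k := by
      rcases hkodd with ⟨r, hr⟩
      omega
    have hexc : ¬ (Fintype.card F = 3 ∧ d = 2) := by
      rintro ⟨hF, rfl⟩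
      have h1 := eq_bot_of_perfect_M2 hF φ₀ (S i0) hperf0 hφ0'
      apply hSZ i0
      rw [h1]
      exact bot_le
    refine ⟨tensorWreathSubgroup d k e P ⊓ spGL m F, ?_, le_inf hle hH⟩
    refine Or.inr (Or.inr (Or.inr (Or.inr
      ⟨d, k, e, P, fun u v => u ⬝ᵥ C *ᵥ v, hodd, hkodd, h3k, hexc,
        isSymplecticForm_of_matrix h2 C hCs (isUnit_iff_ne_zero.2 hCdet), ⟨c, hc0, ?_⟩, rfl⟩)))
    intro x y
    rw [gramMatrix_of_matrix]
    exact hform x y
  · -- characteristic 2: class 8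
    have h2 : (2 : F) = 0 := Cfsg.Agent.Lib.Helper7_AschSp_SPQ.two_eq_zero_of_not_odd hodd
    have hl1' : l = 1 := by
      rcases hl1 with h | h
      · exact h
      · rw [h]
        linear_combination -h2
    rw [hl1', one_smul] at hl
    have hCs : ∀ s t, C s t = C t s := by
      intro s t
      have := congrFun (congrFun hl t) s
      rw [Matrix.transpose_apply] at this
      exact this
    -- the diagonal of the Gram matrix vanishes
    have hΓd : ∀ j, Γ j j = 0 := by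
      intro j
      have h1 := hsymp.alternating
        ((P : Matrix (Fin m ⊕ Fin m) (Fin m ⊕ Fin m) F) *ᵥ Pi.single j 1)
      rw [hf, dot_mulVec_mulVec, ← hΓ] at h1
      simpa using h1
    have hCd : ∀ s, C s s = 0 := by
      intro s
      have h1 := congrFun (congrFun hc (fun _ => s)) (fun _ => s)
      rw [Matrix.submatrix_apply, hΓd, Matrix.smul_apply, pt_apply, Finset.prod_const,
        smul_eq_mul] at h1
      rcases mul_eq_zero.1 h1.symm with h | h
      · exact absurd h hc0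
      · exact pow_eq_zero_iff (by simp; omega) |>.1 h
    obtain ⟨B₀, hB₀⟩ : ∃ B₀ : Matrix (Fin d) (Fin d) F,
        B₀ = Matrix.of (fun s t => if s < t then C s t else 0) := ⟨_, rfl⟩
    have hBC : ∀ s t, B₀ s t + B₀ t s = C s t := by
      intro s t
      rw [hB₀]
      simp only [Matrix.of_apply]
      rcases lt_trichotomy s t with h | h | h
      · rw [if_pos h, if_neg (not_lt.2 h.le), add_zero]
      · subst h
        rw [if_neg (lt_irrefl _), add_zero, hCd]
      · rw [if_neg (not_lt.2 h.le), if_pos h, zero_add, hCs]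
    obtain ⟨i1, hi1⟩ : ∃ i1 : Fin k, i1 ≠ i0 := by
      by_cases h0 : (i0 : ℕ) = 0
      · refine ⟨⟨1, by omega⟩, ?_⟩
        intro h
        have := congrArg Fin.val h
        simp at this
        omega
      · refine ⟨⟨0, by omega⟩, ?_⟩
        intro h
        have := congrArg Fin.val h
        simp at this
        omega
    -- coordinates
    have hPP : (P : Matrix (Fin m ⊕ Fin m) (Fin m ⊕ Fin m) F) *
        ((P⁻¹ : GL (Fin m ⊕ Fin m) F) : Matrix (Fin m ⊕ Fin m) (Fin m ⊕ Fin m) F) = 1 := by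
      rw [← Units.val_mul, mul_inv_cancel, Units.val_one]
    have hPP' : ((P⁻¹ : GL (Fin m ⊕ Fin m) F) : Matrix (Fin m ⊕ Fin m) (Fin m ⊕ Fin m) F) *
        (P : Matrix (Fin m ⊕ Fin m) (Fin m ⊕ Fin m) F) = 1 := by
      rw [← Units.val_mul, inv_mul_cancel, Units.val_one]
    obtain ⟨X, hX⟩ : ∃ X : (Fin m ⊕ Fin m → F) → ((Fin k → Fin d) → F),
        X = fun v => (((P⁻¹ : GL (Fin m ⊕ Fin m) F) : Matrix (Fin m ⊕ Fin m) (Fin m ⊕ Fin m) F) *ᵥ v) ∘
          e.symm := ⟨_, rfl⟩
    have hX1 : ∀ v, (P : Matrix (Fin m ⊕ Fin m) (Fin m ⊕ Fin m) F) *ᵥ (X v ∘ e) = v := by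
      intro v
      have h1 : X v ∘ e =
          ((P⁻¹ : GL (Fin m ⊕ Fin m) F) : Matrix (Fin m ⊕ Fin m) (Fin m ⊕ Fin m) F) *ᵥ v := by
        rw [hX]
        funext i
        simp
      rw [h1, Matrix.mulVec_mulVec, hPP, Matrix.one_mulVec]
    have hXadd : ∀ u v, X (u + v) = X u + X v := by
      intro u v
      rw [hX]
      funext a
      simp [Matrix.mulVec_add]
    have hXsmul : ∀ (t : F) v, X (t • v) = t • X v := by
      intro t v
      rw [hX]
      funext a
      simp [Matrix.mulVec_smul]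
    obtain ⟨Q, hQdef⟩ : ∃ Q : (Fin m ⊕ Fin m → F) → F, Q = fun v => qk c C B₀ i0 (X v) := ⟨_, rfl⟩
    have hpol : ∀ u v, QuadraticMap.polar Q u v = sympForm m F u v := by
      intro u v
      unfold QuadraticMap.polar
      rw [hQdef]
      show qk c C B₀ i0 (X (u + v)) - qk c C B₀ i0 (X u) - qk c C B₀ i0 (X v) = _
      rw [hXadd, qk_add c C B₀ i0 hBC, ← hform, hX1, hX1]
      ring
    have hpolfun : QuadraticMap.polar Q = sympForm m F := by
      funext u v
      exact hpol u v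
    have hQ : IsNondegenerateQuadraticForm Q := by
      refine ⟨?_, ?_, ?_⟩
      · intro t v
        rw [hQdef]
        show qk c C B₀ i0 (X (t • v)) = t ^ 2 * qk c C B₀ i0 (X v)
        rw [hXsmul, qk_smul]
      · rw [hpolfun]
        exact hsymp.bilinear
      · rw [hpolfun]
        exact hsymp.nondegenerate
    -- `N` fixes `Q`
    have hfixS : ∀ j, ∀ x ∈ S j, ∀ v,
        Q ((x : Matrix (Fin m ⊕ Fin m) (Fin m ⊕ Fin m) F) *ᵥ v) = Q v := by
      intro j x hx v
      have hy : (g j)⁻¹ * x * g j ∈ S i0 := by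
        apply (hg j _).2
        have h1 : g j * ((g j)⁻¹ * x * g j) * (g j)⁻¹ = x := by group
        rw [h1]
        exact hx
      obtain ⟨M, hM⟩ := hφ0' _ (coe_mem_spanAlg hy)
      obtain ⟨Fm, hFm⟩ : ∃ Fm : Matrix (Fin k → Fin d) (Fin k → Fin d) F, Fm = factorMat k d j M :=
        ⟨_, rfl⟩
      have hxF : (x : Matrix (Fin m ⊕ Fin m) (Fin m ⊕ Fin m) F) =
          (P : Matrix (Fin m ⊕ Fin m) (Fin m ⊕ Fin m) F) * Fm.submatrix e e *
            ((P⁻¹ : GL (Fin m ⊕ Fin m) F) : Matrix (Fin m ⊕ Fin m) (Fin m ⊕ Fin m) F) := by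
        have h1 := hφ j M
        rw [reindex_symm_eq, ← hFm] at h1
        rw [← h1, ← hM]
        have h2 : x = g j * ((g j)⁻¹ * x * g j) * (g j)⁻¹ := by group
        conv_lhs => rw [h2]
        simp only [Units.val_mul]
      have hsub : ∀ w : (Fin k → Fin d) → F, Fm.submatrix e e *ᵥ (w ∘ e) = (Fm *ᵥ w) ∘ e := by
        intro w
        rw [Matrix.submatrix_mulVec_equiv]
        congr 2
        funext a
        simp
      have hxP : ∀ w : (Fin k → Fin d) → F, (x : Matrix (Fin m ⊕ Fin m) (Fin m ⊕ Fin m) F) *ᵥ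
          ((P : Matrix (Fin m ⊕ Fin m) (Fin m ⊕ Fin m) F) *ᵥ (w ∘ e)) =
          (P : Matrix (Fin m ⊕ Fin m) (Fin m ⊕ Fin m) F) *ᵥ ((Fm *ᵥ w) ∘ e) := by
        intro w
        rw [hxF, Matrix.mulVec_mulVec, mul_assoc, mul_assoc, hPP', mul_one, ← Matrix.mulVec_mulVec,
          hsub]
      have hXx : X ((x : Matrix (Fin m ⊕ Fin m) (Fin m ⊕ Fin m) F) *ᵥ v) = Fm *ᵥ X v := by
        have h1 := hxP (X v)
        rw [hX1] at h1
        have h3 := (hX1 ((x : Matrix (Fin m ⊕ Fin m) (Fin m ⊕ Fin m) F) *ᵥ v)).trans h1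
        have h4 : X ((x : Matrix (Fin m ⊕ Fin m) (Fin m ⊕ Fin m) F) *ᵥ v) ∘ e = (Fm *ᵥ X v) ∘ e := by
          have h5 := congrArg (fun w => ((P⁻¹ : GL (Fin m ⊕ Fin m) F) :
            Matrix (Fin m ⊕ Fin m) (Fin m ⊕ Fin m) F) *ᵥ w) h3
          simp only [Matrix.mulVec_mulVec, hPP', Matrix.one_mulVec] at h5
          exact h5
        funext a
        have := congrFun h4 (e.symm a)
        simpa using this
      rw [hQdef]
      show qk c C B₀ i0 (X ((x : Matrix (Fin m ⊕ Fin m) (Fin m ⊕ Fin m) F) *ᵥ v)) =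
        qk c C B₀ i0 (X v)
      rw [hXx]
      apply quad_invariant (by omega) (qk c C B₀ i0) (bk c C) (qk_add c C B₀ i0 hBC)
        (qk_pure h2 c C B₀ i0 i1 hi1 hBC) Fm
      · intro u
        rw [hFm, factorMat_eq_pt, pt_mulVec_pure]
        exact ⟨_, rfl⟩
      · intro a b
        rw [← hform, ← hform, ← hxP, ← hxP]
        exact (mem_spGL_iff x).1 (hH (hSH j hx)) _ _
    have hfixN : ∀ x ∈ N, ∀ v, Q ((x : Matrix (Fin m ⊕ Fin m) (Fin m ⊕ Fin m) F) *ᵥ v) = Q v := by
      apply hind (fun x => ∀ v, Q ((x : Matrix (Fin m ⊕ Fin m) (Fin m ⊕ Fin m) F) *ᵥ v) = Q v)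
      · exact hfixS
      · intro v
        simp
      · intro x y hx hy v
        rw [Units.val_mul, ← Matrix.mulVec_mulVec, hx, hy]
    have hfix : FixesQuadForm (matrixSet N) Q := by
      rintro s ⟨x, hx, rfl⟩
      exact hfixN x hx
    have hnorm : NormalizesGrp H N := by
      intro h hh
      apply hind
      · intro i x hx
        obtain ⟨π, hπ⟩ := hperm h hh
        exact hSN (π i) ((hπ i x).1 hx)
      · have : h * 1 * h⁻¹ = 1 := by group
        rw [this]
        exact N.one_mem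
      · intro x y hx hy
        have : h * (x * y) * h⁻¹ = (h * x * h⁻¹) * (h * y * h⁻¹) := by group
        rw [this]
        exact N.mul_mem hx hy
    have hirr := Cfsg.Agent.Lib.Helper54_Asch_PKP2.actsIrreducibly_of_span N hspan
    exact Cfsg.Agent.Lib.Helper7_AschSp_SPQ.SPQ m hodd H N hH hnorm hirr Q hQ hpol hfix

end Sp

end Cfsg.Agent.Lib.Helper98_AschSp_SP6
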