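import Mathlib
import Cfsg.Agent.Lib.Helper98_AschDefs
import Cfsg.Agent.Lib.Helper98_AschCliff
import Cfsg.Agent.Lib.Helper98_AschMain
import Cfsg.Agent.Lib.Helper23_FormDefs
import Cfsg.Agent.Lib.Helper23_AschSp_Glue
import Cfsg.Agent.Lib.Helper32_OrthOdd_OP7b
import Cfsg.Agent.Lib.Helper71_Form_F3
import Cfsg.Agent.Lib.Helper7_AschSp_SPQ
import Cfsg.Agent.Lib.Helper3_Asch_PKP3
import Cfsg.Agent.Lib.Helper71_AschSp_F7
import Cfsg.Agent.Lib.Helper82_AschSp_SP2
import Cfsg.Agent.Lib.Helper98_Form_F2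
import Cfsg.Agent.Lib.Helper7_AschSp_SP3
import Cfsg.Agent.Lib.Helper71_AschSp_FU
import Cfsg.Agent.Lib.Helper70_AschSp_SP5b
import Cfsg.Agent.Lib.Helper7_AschSp_SP5a
import Cfsg.Agent.Lib.Helper82_AschSp_SP4a
import Cfsg.Agent.Lib.Helper7_AschSp_SP4c
import Cfsg.Agent.Lib.Helper98_AschSp_SP6

set_option autoImplicit false

namespace Cfsg.Agent.Lib.Helper23_AschSp_Main

open Cfsg Cfsg.Geo Matrix Cfsg.Agent.Lib.Helper98_AschDefs Cfsg.Agent.Lib.Helper23_FormDefs
open scoped Kronecker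

variable {ι : Type} [Fintype ι] [DecidableEq ι] {F : Type*} [Field F]

/-- the span of a group of isometries of a sesquilinear form is closed under adjoints -/
lemma adjointClosed_spanAlg {σ : F ≃+* F} {f : (ι → F) → (ι → F) → F} (hf : IsSesq σ f)
    {N : Subgroup (GL ι F)} (hfix : FixesForm (matrixSet N) f) : IsAdjointClosedFor f (spanAlg N) := by
  intro a ha
  rw [mem_spanAlg_iff] at ha
  induction ha using Submodule.span_induction with
  | mem x hx =>
    obtain ⟨g, hg, rfl⟩ := hx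
    refine ⟨((g⁻¹ : GL ι F) : Matrix ι ι F), coe_mem_spanAlg (N.inv_mem hg), fun u v => ?_⟩
    have h := hfix _ (coe_mem_matrixSet hg) u (((g⁻¹ : GL ι F) : Matrix ι ι F) *ᵥ v)
    rw [Matrix.mulVec_mulVec, ← Units.val_mul, mul_inv_cancel, Units.val_one, Matrix.one_mulVec] at h
    exact h
  | zero =>
    refine ⟨0, Subalgebra.zero_mem _, fun u v => ?_⟩
    rw [Matrix.zero_mulVec, Matrix.zero_mulVec]
    have h1 := hf.smul_left 0 0 v
    have h2 := hf.smul_right 0 u 0
    simp only [zero_smul, zero_mul, map_zero] at h1 h2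
    rw [h1, h2]
  | add x y _ _ hx hy =>
    obtain ⟨x', hx', hxx⟩ := hx
    obtain ⟨y', hy', hyy⟩ := hy
    refine ⟨x' + y', Subalgebra.add_mem _ hx' hy', fun u v => ?_⟩
    rw [Matrix.add_mulVec, Matrix.add_mulVec, hf.add_left, hf.add_right, hxx, hyy]
  | smul c x _ hx =>
    obtain ⟨x', hx', hxx⟩ := hx
    refine ⟨σ.symm c • x', Subalgebra.smul_mem _ hx' _, fun u v => ?_⟩
    rw [Matrix.smul_mulVec, Matrix.smul_mulVec, hf.smul_left, hf.smul_right, hxx,
      RingEquiv.apply_symm_apply]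

/-- an irreducible group in dimension at least 2 is not scalar (general index type) -/
lemma not_le_scalars_of_irr' (hcard : 2 ≤ Fintype.card ι) (H : Subgroup (GL ι F))
    (hirr : ActsIrreducibly (matrixSet H)) : ¬ H ≤ scalars ι F := by
  intro hle
  have hne : Nonempty ι := by
    rw [← Fintype.card_pos_iff]; omega
  obtain ⟨i₀⟩ := hne
  set v : ι → F := Pi.single i₀ 1 with hv
  have hv0 : v ≠ 0 := by
    intro h
    have := congrFun h i₀
    simp [hv] at this
  rcases hirr (Submodule.span F {v}) (by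
    rintro s ⟨g, hg, rfl⟩
    obtain ⟨c, hc⟩ := (mem_scalars_iff g).1 (hle hg)
    rintro _ ⟨w, hw, rfl⟩
    rw [Matrix.toLin'_apply]
    change (g : Matrix ι ι F) *ᵥ w ∈ _
    rw [hc, Matrix.smul_mulVec, Matrix.one_mulVec]
    exact Submodule.smul_mem _ _ hw) with h0 | h1
  · apply hv0
    have : v ∈ Submodule.span F {v} := Submodule.mem_span_singleton_self v
    rw [h0] at this
    exact (Submodule.mem_bot F).1 this
  · have h2 : Module.finrank F (Submodule.span F {v}) = 1 := finrank_span_singleton hv0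
    rw [h1, finrank_top, Module.finrank_fintype_fun_eq_card] at h2
    omega

/-- the normalizer of a spanning group written over a subfield lies in the subfield group -/
lemma le_subfieldSubgroup (N H : Subgroup (GL ι F)) (hspan : spanAlg N = ⊤) (hnorm : NormalizesGrp H N)
    (F₁ : Subfield F) (B : GL ι F)
    (hB : ∀ s ∈ matrixSet N, ∀ i j, ((B : Matrix ι ι F) * s * ((B⁻¹ : GL ι F) : Matrix ι ι F)) i j ∈ F₁) :
    H ≤ subfieldSubgroup F₁ B⁻¹ := by
  intro h hh
  have hmem : B * h * B⁻¹ ∈ (Matrix.GeneralLinearGroup.map (F₁.subtype : F₁ →+* F)).range ⊔ scalars ι F :=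
    Helper35_Asch_PK11.mem_sup_of_entries F₁ _
      (fun i j k l => Helper35_Asch_PK11.entries_mem N hspan F₁ B hB h (hnorm h hh) i j k l)
  refine ⟨B * h * B⁻¹, hmem, ?_⟩
  simp only [MulEquiv.coe_toMonoidHom, MulAut.conj_apply, inv_inv]
  group

/-- two bilinear forms fixed by a spanning group, the first nondegenerate, are proportional -/
lemma invariant_bilinear_unique (N : Subgroup (GL ι F)) (hspan : spanAlg N = ⊤)
    (f b : (ι → F) → (ι → F) → F) (hf : IsBilinearForm f) (hnd : IsNondegenerateForm f)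
    (hb : IsBilinearForm b) (hffix : FixesForm (matrixSet N) f) (hbfix : FixesForm (matrixSet N) b) :
    ∃ c : F, ∀ u v, b u v = c * f u v := by
  classical
  have hsrf : ∀ (c : F) (v x : ι → F), f v (c • x) = (RingHom.id F) c * f v x := fun c v x => hf.smul_right c v x
  have hsrb : ∀ (c : F) (v x : ι → F), b v (c • x) = (RingHom.id F) c * b v x := fun c v x => hb.smul_right c v x
  set Gf := gramMatrix f with hGf
  set Gb := gramMatrix b with hGb
  have hdet : Gf.det ≠ 0 := by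
    have := Cfsg.Agent.Lib.Helper32_OrthOdd_OP7b.gram_det_ne_zero (RingEquiv.refl F) f hf.add_left hf.smul_left
      hf.add_right (fun c v x => by simpa using hf.smul_right c v x) hnd
    exact this
  have hunit : IsUnit Gf.det := isUnit_iff_ne_zero.2 hdet
  have hinvf : ∀ x ∈ N, ((x : GL ι F) : Matrix ι ι F)ᵀ * Gf * ((x : GL ι F) : Matrix ι ι F) = Gf := by
    intro x hx
    have := Cfsg.Agent.Lib.Helper32_OrthOdd_OP7b.gram_isometry (RingHom.id F) f hf.add_left hf.smul_left
      hf.add_right hsrf (x : Matrix ι ι F) (hffix _ (coe_mem_matrixSet hx))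
    simpa using this
  have hinvb : ∀ x ∈ N, ((x : GL ι F) : Matrix ι ι F)ᵀ * Gb * ((x : GL ι F) : Matrix ι ι F) = Gb := by
    intro x hx
    have := Cfsg.Agent.Lib.Helper32_OrthOdd_OP7b.gram_isometry (RingHom.id F) b hb.add_left hb.smul_left
      hb.add_right hsrb (x : Matrix ι ι F) (hbfix _ (coe_mem_matrixSet hx))
    simpa using this
  -- `Gf⁻¹ * Gb` commutes with `N`
  have hcomm : ∀ y ∈ N, ((y : GL ι F) : Matrix ι ι F) * (Gf⁻¹ * Gb) = (Gf⁻¹ * Gb) * ((y : GL ι F) : Matrix ι ι F) := by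
    intro y hy
    have h1 := hinvf y hy
    have h2 := hinvb y hy
    have hyy : ((y⁻¹ : GL ι F) : Matrix ι ι F) * ((y : GL ι F) : Matrix ι ι F) = 1 := by
      rw [← Units.val_mul, inv_mul_cancel, Units.val_one]
    have hyy' : ((y : GL ι F) : Matrix ι ι F) * ((y⁻¹ : GL ι F) : Matrix ι ι F) = 1 := by
      rw [← Units.val_mul, mul_inv_cancel, Units.val_one]
    -- Gf⁻¹ = y * Gf⁻¹ * yᵀ
    have h3 : Gf⁻¹ = ((y : GL ι F) : Matrix ι ι F) * Gf⁻¹ * ((y : GL ι F) : Matrix ι ι F)ᵀ := by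
      have hL : (((y : GL ι F) : Matrix ι ι F) * Gf⁻¹ * ((y : GL ι F) : Matrix ι ι F)ᵀ) * Gf = 1 := by
        calc (((y : GL ι F) : Matrix ι ι F) * Gf⁻¹ * ((y : GL ι F) : Matrix ι ι F)ᵀ) * Gf
            = ((y : GL ι F) : Matrix ι ι F) * Gf⁻¹ * (((y : GL ι F) : Matrix ι ι F)ᵀ * Gf *
                ((y : GL ι F) : Matrix ι ι F)) * ((y⁻¹ : GL ι F) : Matrix ι ι F) := by
              simp only [mul_assoc]
              rw [hyy', mul_one]
          _ = 1 := by
              rw [h1, mul_assoc ((y : GL ι F) : Matrix ι ι F), Matrix.nonsing_inv_mul _ hunit, mul_one, hyy']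
      exact (Matrix.inv_eq_left_inv hL)
    calc ((y : GL ι F) : Matrix ι ι F) * (Gf⁻¹ * Gb)
        = ((y : GL ι F) : Matrix ι ι F) * Gf⁻¹ * (((y : GL ι F) : Matrix ι ι F)ᵀ * Gb *
            ((y : GL ι F) : Matrix ι ι F)) := by rw [h2, mul_assoc]
      _ = (((y : GL ι F) : Matrix ι ι F) * Gf⁻¹ * ((y : GL ι F) : Matrix ι ι F)ᵀ) * Gb *
            ((y : GL ι F) : Matrix ι ι F) := by simp only [mul_assoc]
      _ = (Gf⁻¹ * Gb) * ((y : GL ι F) : Matrix ι ι F) := by rw [← h3]
  obtain ⟨c, hc⟩ := Cfsg.Agent.Lib.Helper52_Asch_PK7.exists_smul_one_of_commute N hspan (Gf⁻¹ * Gb) hcomm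
  have hGbc : Gb = c • Gf := by
    have := congrArg (fun M => Gf * M) hc
    simp only [← mul_assoc, Matrix.mul_nonsing_inv _ hunit, one_mul, Matrix.mul_smul, mul_one] at this
    exact this
  refine ⟨c, fun u v => ?_⟩
  rw [Cfsg.Agent.Lib.Helper32_OrthOdd_OP7b.form_eq_dot (RingHom.id F) b hb.add_left hb.smul_left hb.add_right hsrb,
    Cfsg.Agent.Lib.Helper32_OrthOdd_OP7b.form_eq_dot (RingHom.id F) f hf.add_left hf.smul_left hf.add_right hsrf,
    ← hGb, ← hGf, hGbc, Matrix.smul_mulVec, dotProduct_smul, smul_eq_mul]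

section Sp

variable [Fintype F]

open Cfsg.Agent.Lib

/-- SPsub: a spanning normal subgroup realisable over a proper subfield -/
theorem SPsub (m : ℕ) (H N : Subgroup (GL (Fin m ⊕ Fin m) F)) (hH : H ≤ spGL m F) (hNH : N ≤ H)
    (hnorm : NormalizesGrp H N) (hspan : spanAlg N = ⊤)
    (F₀ : Subfield F) (hF₀ : F₀ ≠ ⊤) (hreal : RealisableOver F₀ (matrixSet N)) : InSpClass m H := by
  obtain ⟨F₁, r, hr, hle, hcard⟩ := Helper35_Asch_PK11.exists_prime_index_subfield F₀ hF₀
  obtain ⟨B, hB⟩ := hreal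
  have hB₁ : ∀ s ∈ matrixSet N, ∀ i j, ((B : Matrix (Fin m ⊕ Fin m) (Fin m ⊕ Fin m) F) * s *
      ((B⁻¹ : GL (Fin m ⊕ Fin m) F) : Matrix (Fin m ⊕ Fin m) (Fin m ⊕ Fin m) F)) i j ∈ F₁ :=
    fun s hs i j => hle (hB s hs i j)
  have hf := isSymplecticForm_sympForm (F := F) m
  obtain ⟨ζ, hζ, hrat⟩ := Helper71_AschSp_F7.F7 (sympForm m F) hf.bilinear hf.nondegenerate N hspan
    (fixesForm_of_le_spGL (hNH.trans hH)) F₁ B hB₁
  refine ⟨subfieldSubgroup F₁ B⁻¹ ⊓ spGL m F, ?_, le_inf (le_subfieldSubgroup N H hspan hnorm F₁ B hB₁) hH⟩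
  exact Or.inl (Or.inr (Or.inr (Or.inr (Or.inr (Or.inl ⟨F₁, r, B⁻¹, ζ, hr, hcard, hζ, hrat, rfl⟩)))))

/-- the dichotomy for `Sp` -/
theorem dichotomy_sp (m : ℕ) (hm : 2 ≤ m) (H : Subgroup (GL (Fin m ⊕ Fin m) F)) (hH : H ≤ spGL m F)
    (hirr : ActsIrreducibly (matrixSet H)) (hcl : ¬ InSpClass m H)
    (N : Subgroup (GL (Fin m ⊕ Fin m) F)) (hNsp : N ≤ spGL m F) (hN : NormalizesGrp H N) :
    N ≤ scalars (Fin m ⊕ Fin m) F ∨ spanAlg N = ⊤ := by
  haveI : Nonempty (Fin m ⊕ Fin m) := ⟨Sum.inl ⟨0, by omega⟩⟩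
  have hf := isSymplecticForm_sympForm (F := F) m
  have hsesq := isSesq_of_bilinear hf.bilinear
  have hA := normalizesAlg_spanAlg hN
  have hadj : IsAdjointClosedFor (sympForm m F) (spanAlg N) :=
    adjointClosed_spanAlg hsesq (fixesForm_of_le_spGL hNsp)
  rcases Helper98_Form_F2.F2 (RingEquiv.refl F) (sympForm m F) hsesq hf.nondegenerate (isRefl_of_symplectic hf) H
    (fixesForm_of_le_spGL hH) hirr (spanAlg N) hA hadj with
    ⟨t, k, D, hD, hle⟩ | ⟨k, D, hD, hts, hle⟩ | ⟨hz, hinv⟩ | ⟨d, s, e, P, hT⟩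
  · exfalso
    exact hcl ⟨decompositionStabilizer D ⊓ spGL m F, Or.inl (Or.inr (Or.inr (Or.inl ⟨t, k, D, hD, rfl⟩))),
      le_inf hle hH⟩
  · exfalso
    exact hcl (Helper82_AschSp_SP2.SP2 m H hH k D hD hts hle)
  · exfalso
    obtain ⟨r, K, hr, hK, hle, hadjK⟩ := Helper71_Form_F3.F3 (RingEquiv.refl F) (sympForm m F) hsesq
      hf.nondegenerate H (spanAlg N) hA hadj hz hinv
    exact hcl (Helper7_AschSp_SP3.SP3 m H hH r K hr hK hle hadjK)
  · have hcard : 2 * m = d * s := by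
      have := Fintype.card_congr e
      simpa [two_mul] using this
    by_cases hd : d ≤ 1
    · left
      have hd1 : d = 1 := by
        rcases Nat.le_one_iff_eq_zero_or_eq_one.1 hd with h0 | h1
        · subst h0; omega
        · exact h1
      subst hd1
      intro g hg
      obtain ⟨M, hM⟩ := (hT _).1 (coe_mem_spanAlg hg)
      have h1 : Matrix.reindex e.symm e.symm
          ((M 0 0) • (1 : Matrix (Fin 1 × Fin s) (Fin 1 × Fin s) F)) = (M 0 0) • 1 := by
        ext i j
        simp [Matrix.one_apply, Matrix.smul_apply]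
      rw [Helper98_AschMain.kron_one_of_d_one, h1, Matrix.mul_smul, Matrix.smul_mul, mul_one, ← Units.val_mul,
        mul_inv_cancel, Units.val_one] at hM
      have hc : M 0 0 ≠ 0 := by
        intro h0
        rw [h0, zero_smul] at hM
        have h2 : (g : Matrix (Fin m ⊕ Fin m) (Fin m ⊕ Fin m) F) *
            ((g⁻¹ : GL (Fin m ⊕ Fin m) F) : Matrix (Fin m ⊕ Fin m) (Fin m ⊕ Fin m) F) = 1 := by
          rw [← Units.val_mul, mul_inv_cancel, Units.val_one]
        rw [hM, zero_mul] at h2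
        exact zero_ne_one h2
      rw [mem_scalars_iff]
      exact ⟨Units.mk0 _ hc, hM⟩
    by_cases hs : s ≤ 1
    · right
      have hs1 : s = 1 := by
        rcases Nat.le_one_iff_eq_zero_or_eq_one.1 hs with h0 | h1
        · subst h0; omega
        · exact h1
      subst hs1
      rw [eq_top_iff]
      intro a _
      rw [hT]
      obtain ⟨M, hM⟩ := Helper98_AschMain.exists_kron_of_s_one
        (Matrix.reindex e e (((P⁻¹ : GL (Fin m ⊕ Fin m) F) : Matrix (Fin m ⊕ Fin m) (Fin m ⊕ Fin m) F) * a *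
          (P : Matrix (Fin m ⊕ Fin m) (Fin m ⊕ Fin m) F)))
      refine ⟨M, ?_⟩
      rw [← hM, ← Matrix.reindex_symm, Equiv.symm_apply_apply]
      have e1 : (P : Matrix (Fin m ⊕ Fin m) (Fin m ⊕ Fin m) F) *
          ((P⁻¹ : GL (Fin m ⊕ Fin m) F) : Matrix (Fin m ⊕ Fin m) (Fin m ⊕ Fin m) F) = 1 := by
        rw [← Units.val_mul, mul_inv_cancel, Units.val_one]
      calc a = ((P : Matrix (Fin m ⊕ Fin m) (Fin m ⊕ Fin m) F) *
              ((P⁻¹ : GL (Fin m ⊕ Fin m) F) : Matrix (Fin m ⊕ Fin m) (Fin m ⊕ Fin m) F)) * a *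
            ((P : Matrix (Fin m ⊕ Fin m) (Fin m ⊕ Fin m) F) *
              ((P⁻¹ : GL (Fin m ⊕ Fin m) F) : Matrix (Fin m ⊕ Fin m) (Fin m ⊕ Fin m) F)) := by
            rw [e1, one_mul, mul_one]
        _ = _ := by simp only [mul_assoc]
    · exfalso
      by_cases hodd : Odd (Fintype.card F)
      · exact hcl (Helper82_AschSp_SP4a.SP4a m hodd H hH (spanAlg N) hA hadj d s e P hT (by omega) (by omega))
      · obtain ⟨Q, hQ, hpol, hfix⟩ := Helper7_AschSp_SP4c.SP4c m hodd H hH hirr (spanAlg N) hA hadj d s e P hT (by omega) (by omega)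
        apply hcl
        refine ⟨quadSimilarityGroup Q ⊓ spGL m F, ?_, le_inf ?_ hH⟩
        · exact Or.inl (Or.inr (Or.inr (Or.inr (Or.inr (Or.inr (Or.inr ⟨Q, hodd, hQ, hpol, rfl⟩))))))
        · intro h hh
          exact ⟨1, fun v => by rw [hfix _ (coe_mem_matrixSet hh) v, Units.val_one, one_mul]⟩

/-- the nilpotent case -/
theorem nilpotent_sp (m : ℕ) (hm : 2 ≤ m) (H N : Subgroup (GL (Fin m ⊕ Fin m) F)) (hH : H ≤ spGL m F)
    (hNH : N ≤ H) (hnorm : NormalizesGrp H N) (hNZ : ¬ N ≤ scalars (Fin m ⊕ Fin m) F)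
    (hmin : ∀ N' : Subgroup (GL (Fin m ⊕ Fin m) F), N' ≤ N → NormalizesGrp H N' →
      N' = N ∨ N' ≤ scalars (Fin m ⊕ Fin m) F)
    (hspan : spanAlg N = ⊤) (hcomm : ⁅N, N⁆ ≤ scalars (Fin m ⊕ Fin m) F) : InSpClass m H := by
  haveI : Nonempty (Fin m ⊕ Fin m) := ⟨Sum.inl ⟨0, by omega⟩⟩
  obtain ⟨hodd, hsymp, hcen, ⟨k, hk⟩, hpm⟩ := Helper7_AschSp_SP5a.SP5a m hm H N hH hNH hnorm hNZ hmin hspan hcomm
  by_cases hp : (Fintype.card F).Prime
  · refine ⟨subgroupNormalizer N ⊓ spGL m F, ?_, le_inf (Helper98_AschMain.le_subgroupNormalizer hnorm) hH⟩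
    have hsim : N ≤ similarityGroup (sympForm m F) := by
      intro g hg
      refine ⟨1, fun u v => ?_⟩
      rw [Units.val_one, one_mul]
      exact (mem_spGL_iff g).1 (hH (hNH hg)) u v
    exact Or.inl (Or.inr (Or.inr (Or.inr (Or.inr (Or.inr (Or.inl ⟨N, Fintype.card F, k, hsymp,
      Helper3_Asch_PKP3.absIrred_of_span N hspan, hsim, hp, hodd, rfl, hk, hcen,
      Helper70_AschSp_SP5b.SP5b m hodd N (hNH.trans hH) hspan hcomm k hk hcen, rfl⟩))))))
  · obtain ⟨p, hchar⟩ := CharP.exists F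
    obtain ⟨n, hpp, hcard⟩ := FiniteField.card F p
    obtain ⟨F₀, hF₀⟩ := Helper60_Asch_PK13.exists_subfield_card p n 1 hpp hcard one_pos (one_dvd _)
    have hne : F₀ ≠ ⊤ := by
      intro htop
      apply hp
      have h1 : Nat.card F₀ = Nat.card F := by
        rw [htop]
        exact Nat.card_congr (Subfield.topEquiv (K := F)).toEquiv
      rw [hF₀, pow_one, Nat.card_eq_fintype_card] at h1
      rw [← h1]
      exact hpp
    have hreal := Helper49_Asch_PK12.PK12 N hspan hcomm F₀ (fun z hz c hc => by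
      rcases hpm z hz c hc with rfl | rfl
      · exact one_mem _
      · exact neg_mem (one_mem _))
    exact SPsub m H N hH hNH hnorm hspan F₀ hne hreal

/-- the case of a single component -/
theorem k1_sp (m : ℕ) (hm : 2 ≤ m) (H N : Subgroup (GL (Fin m ⊕ Fin m) F)) (hH : H ≤ spGL m F)
    (hNH : N ≤ H) (hnorm : NormalizesGrp H N) (hNZ : ¬ N ≤ scalars (Fin m ⊕ Fin m) F)
    (hperf : ⁅N, N⁆ = N) (hspan : spanAlg N = ⊤)
    (hsimple : ∀ T : Subgroup (GL (Fin m ⊕ Fin m) F), T ≤ N → NormalizesGrp N T →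
      T = N ∨ T ≤ scalars (Fin m ⊕ Fin m) F) :
    InSpClass m H ∨ InSymplecticResidualClass H := by
  have hf := isSymplecticForm_sympForm (F := F) m
  have hNfix := fixesForm_of_le_spGL (hNH.trans hH)
  by_cases hreal : ∃ F₀ : Subfield F, F₀ ≠ ⊤ ∧ RealisableOver F₀ (matrixSet N)
  · obtain ⟨F₀, hF₀, hr⟩ := hreal
    exact Or.inl (SPsub m H N hH hNH hnorm hspan F₀ hF₀ hr)
  by_cases hquad : ∃ Q : ((Fin m ⊕ Fin m) → F) → F, IsNondegenerateQuadraticForm Q ∧
      FixesQuadForm (matrixSet N) Q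
  · obtain ⟨Q, hQ, hfix⟩ := hquad
    left
    obtain ⟨c, hc⟩ := invariant_bilinear_unique N hspan (sympForm m F) (QuadraticMap.polar Q) hf.bilinear
      hf.nondegenerate hQ.polar_bilinear hNfix (Helper4_Asch_PK10.fixesForm_polar hfix)
    set v₀ : (Fin m ⊕ Fin m) → F := Pi.single (Sum.inl ⟨0, by omega⟩) 1 with hv₀
    have hv0 : v₀ ≠ 0 := by
      intro h
      have := congrFun h (Sum.inl ⟨0, by omega⟩)
      simp [hv₀] at this
    have hc0 : c ≠ 0 := by
      rintro rfl
      obtain ⟨x, hx⟩ := (hQ.nondegenerate v₀ hv0).1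
      apply hx
      rw [hc, zero_mul]
    by_cases hodd : Odd (Fintype.card F)
    · exfalso
      have h2 : (2 : F) ≠ 0 := by
        intro h2
        have hchar : ringChar F = 2 := by
          have : (ringChar F) ∣ 2 := by
            apply ringChar.dvd
            exact_mod_cast h2
          rcases (Nat.dvd_prime Nat.prime_two).1 this with h | h
          · exact absurd h (CharP.ringChar_ne_one)
          · exact h
        have := FiniteField.even_card_of_char_two hchar
        rw [Nat.odd_iff] at hodd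
        omega
      obtain ⟨x, hx⟩ := (hf.nondegenerate v₀ hv0).1
      apply hx
      have h3 : c * sympForm m F x v₀ = c * sympForm m F v₀ x := by
        rw [← hc, ← hc, QuadraticMap.polar_comm]
      have h4 : sympForm m F x v₀ = sympForm m F v₀ x := mul_left_cancel₀ hc0 h3
      have h5 := hf.skew x v₀
      rw [← h4] at h5
      have h6 : (2 : F) * sympForm m F x v₀ = 0 := by
        rw [two_mul]
        nth_rewrite 1 [h5]
        exact neg_add_cancel _
      rcases mul_eq_zero.1 h6 with h | h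
      · exact absurd h h2
      · exact h
    · -- characteristic 2
      have hpol : ∀ u v, QuadraticMap.polar (fun w => c⁻¹ * Q w) u v = sympForm m F u v := by
        intro u v
        unfold QuadraticMap.polar
        have := hc u v
        unfold QuadraticMap.polar at this
        rw [← mul_sub, ← mul_sub, this, ← mul_assoc, inv_mul_cancel₀ hc0, one_mul]
      have hQ' : IsNondegenerateQuadraticForm (fun w => c⁻¹ * Q w) := by
        have hfun : QuadraticMap.polar (fun w => c⁻¹ * Q w) = sympForm m F := by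
          funext u v
          exact hpol u v
        refine ⟨fun a v => ?_, ?_, ?_⟩
        · show c⁻¹ * Q (a • v) = a ^ 2 * (c⁻¹ * Q v)
          rw [hQ.smul]
          ring
        · rw [hfun]; exact hf.bilinear
        · rw [hfun]; exact hf.nondegenerate
      have hfix' : FixesQuadForm (matrixSet N) (fun w => c⁻¹ * Q w) := by
        intro s hs v
        show c⁻¹ * Q (s *ᵥ v) = c⁻¹ * Q v
        rw [hfix s hs v]
      exact Helper7_AschSp_SPQ.SPQ m hodd H N hH hnorm (Helper3_Asch_PKP3.absIrred_of_span N hspan).1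
        _ hQ' hpol hfix'
  by_cases hunit : ∃ (σ : F ≃+* F) (u : ((Fin m ⊕ Fin m) → F) → ((Fin m ⊕ Fin m) → F) → F),
      IsUnitaryForm σ u ∧ FixesForm (matrixSet N) u
  · obtain ⟨σ, u, hu, hufix⟩ := hunit
    exfalso
    apply hreal
    exact Helper71_AschSp_FU.FU N hspan (sympForm m F) hf.bilinear hf.nondegenerate hNfix σ u hu hufix
  · right
    refine ⟨N, ?_, hquad, hunit⟩
    exact
      { le := hNH
        normal := hnorm
        perfect := hperf
        simple := Helper3_Asch_PKP3.simple_quot N hNZ hsimple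
        nonabelian := Helper3_Asch_PKP3.nonabelian_quot N hNZ hperf
        centralizer_scalar := fun h _ hh => Helper3_Asch_PKP3.centralizer_scalar N hperf hspan h hh
        absIrred := Helper3_Asch_PKP3.absIrred_of_span N hspan
        no_subfield := fun F₀ hF₀ hr => hreal ⟨F₀, hF₀, hr⟩ }

/-- **Aschbacher's theorem for subgroups of `Sp_{2m}(F)`, `F` finite, `m ≥ 2`.** -/
theorem main_sp (m : ℕ) (hm : 2 ≤ m) (H : Subgroup (GL (Fin m ⊕ Fin m) F)) (hH : H ≤ spGL m F) :
    InSpClass m H ∨ InSymplecticResidualClass H := by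
  by_cases hcl : InSpClass m H
  · exact Or.inl hcl
  have hirr : ActsIrreducibly (matrixSet H) := by
    by_contra h
    unfold ActsIrreducibly at h
    push Not at h
    obtain ⟨W, hW, hW0, hWtop⟩ := h
    apply hcl
    refine Helper23_AschSp_Glue.SP1 m H hH W hW0 hWtop ?_
    intro h hh
    exact hW _ ⟨h, hh, rfl⟩
  have hdich := dichotomy_sp m hm H hH hirr hcl
  have hHZ : ¬ H ≤ scalars (Fin m ⊕ Fin m) F :=
    not_le_scalars_of_irr' (by rw [Fintype.card_sum, Fintype.card_fin]; omega) H hirr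
  obtain ⟨N, hNH, hnorm, hNZ, hmin⟩ := Helper29_Asch_PKG0.PKG0 H hHZ
  have hspan : spanAlg N = ⊤ := (hdich N (hNH.trans hH) hnorm).resolve_left hNZ
  have hcle : ⁅N, N⁆ ≤ N := by
    rw [Subgroup.commutator_le]
    intro x hx y hy
    rw [commutatorElement_def]
    exact N.mul_mem (N.mul_mem (N.mul_mem hx hy) (N.inv_mem hx)) (N.inv_mem hy)
  rcases hmin ⁅N, N⁆ hcle (Helper98_AschMain.normalizesGrp_commutator hnorm) with hperf | hcomm
  · obtain ⟨k, S, hk, hSN, hSnorm, hSZ, hScomm, hsup, hperm, htrans, hSmin⟩ :=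
      Helper29_Asch_PKP1.PKP1 H N hNH hnorm hNZ hmin hperf
    by_cases hk2 : 2 ≤ k
    · exact Or.inl (Helper98_AschSp_SP6.SP6 m hm H N hH hNH hspan hperf k hk2 S hSN hSnorm hSZ hScomm hsup hperm htrans hSmin)
    · have hk1 : k = 1 := by omega
      subst hk1
      have hS0 : S 0 = N := by
        rw [← hsup]
        apply le_antisymm
        · exact le_iSup S 0
        · apply iSup_le
          intro i
          rw [Subsingleton.elim i 0]
      have hsimple := hSmin 0
      rw [hS0] at hsimple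
      exact k1_sp m hm H N hH hNH hnorm hNZ hperf hspan hsimple
  · exact Or.inl (nilpotent_sp m hm H N hH hNH hnorm hNZ hmin hspan hcomm)

end Sp
end Cfsg.Agent.Lib.Helper23_AschSp_Main
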