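import Cfsg.Agent.Lib.Helper23_BG13Hyp

/-!
`CaseB M E` : the complement `E` of `M_σ` in the maximal subgroup `M` contains a subgroup of prime order
`r ∈ τ₃(M)` with a nontrivial fixed point on `M_σ` (the "non-regular τ₃" case of Bender-Glauberman
13.10/13.11 and of Theorem 14.2).
-/

set_option autoImplicit false

namespace Cfsg.Agent.Lib.Helper23_BG13Hyp

open Subgroup

universe u

/-- "Case B" for `(M, E)`: some subgroup of `E` of prime order in `τ₃(M)` is nonregular on `M_σ`. -/
def CaseB {G : Type u} [Group G] (M E : Subgroup G) : Prop :=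
  ∃ r ∈ Cfsg.tau3 M, ∃ R : Subgroup G, R ≤ E ∧ Nat.card R = r ∧
    Cfsg.sigmaCore M ⊓ Subgroup.centralizer (R : Set G) ≠ ⊥

end Cfsg.Agent.Lib.Helper23_BG13Hyp
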