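import Cfsg.Agent.Lib.Helper48_Generation

/-!
# Generation by centralizers, with a commutator acting trivially (helper73)

A variant of `Helper48_Generation.le_of_centralizers_le`: the elements `a, b` of order dividing `p`
normalizing the `p'`-subgroup `K` need only induce commuting automorphisms of `K`.
-/

set_option autoImplicit false

namespace Cfsg.Agent.Lib.Helper73_Gen

open Cfsg.Agent.Lib.Helper48_Generation

variable {G : Type*} [Group G] {p : ℕ} [Fact p.Prime]

/-- **Generation, ambient nilpotent form**, for automorphisms commuting on `Q`. -/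
theorem le_of_centralizers_le_of_nilpotent' (Q : Subgroup G) [Finite Q] [Group.IsNilpotent Q]
    (hcop : ¬ p ∣ Nat.card Q) (a b : G)
    (ha : a ∈ Subgroup.normalizer (Q : Set G)) (hb : b ∈ Subgroup.normalizer (Q : Set G))
    (hap : a ^ p = 1) (hbp : b ^ p = 1)
    (hab : ∀ x ∈ Q, a * (b * x * b⁻¹) * a⁻¹ = b * (a * x * a⁻¹) * b⁻¹) (T : Subgroup G)
    (hTb : Q ⊓ Subgroup.centralizer ({b} : Set G) ≤ T)
    (hTa : ∀ i : ℕ, Q ⊓ Subgroup.centralizer ({a * b ^ i} : Set G) ≤ T) : Q ≤ T := by
  let a' : Subgroup.normalizer (Q : Set G) := ⟨a, ha⟩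
  let b' : Subgroup.normalizer (Q : Set G) := ⟨b, hb⟩
  have ha' : a' ^ p = 1 := Subtype.ext (by simpa using hap)
  have hb' : b' ^ p = 1 := Subtype.ext (by simpa using hbp)
  have hab' : normAut Q a' * normAut Q b' = normAut Q b' * normAut Q a' := by
    ext x
    exact hab x x.2
  have hfix : ∀ (g : Subgroup.normalizer (Q : Set G)) (x : Q), normAut Q g x = x →
      (x : G) ∈ Q ⊓ Subgroup.centralizer ({(g : G)} : Set G) := by
    intro g x hx
    refine Subgroup.mem_inf.mpr ⟨x.2, ?_⟩
    rw [Subgroup.mem_centralizer_singleton_iff]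
    have h1 : (g : G) * x * (g : G)⁻¹ = x := congrArg Subtype.val hx
    calc (x : G) * g = ((g : G) * x * (g : G)⁻¹) * g := by rw [h1]
      _ = g * x := by group
  have key := eq_top_of_fixed_le (p := p) Q hcop (normAut Q a') (normAut Q b')
    (by rw [← map_pow, ha', map_one]) (by rw [← map_pow, hb', map_one])
    hab' (T.subgroupOf Q)
    (by
      intro x hx
      rw [Subgroup.mem_subgroupOf]
      exact hTb (hfix b' x hx))
    (by
      intro i x hx
      rw [Subgroup.mem_subgroupOf]
      rw [← map_pow, ← map_mul] at hx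
      have := hfix (a' * b' ^ i) x hx
      exact hTa i (by simpa using this))
  intro x hx
  have : (⟨x, hx⟩ : Q) ∈ T.subgroupOf Q := by rw [key]; trivial
  rwa [Subgroup.mem_subgroupOf] at this

/-- **Generation by centralizers**, for a `p`-group `D ∋ a, b` normalizing the `p'`-subgroup `K`, with
`a, b` inducing commuting automorphisms of `K`. -/
theorem le_of_centralizers_le' [Finite G] (K : Subgroup G) (hcop : ¬ p ∣ Nat.card K)
    (D : Subgroup G) (hD : IsPGroup p D) (hDK : D ≤ Subgroup.normalizer (K : Set G)) (a b : G)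
    (haD : a ∈ D) (hbD : b ∈ D) (hap : a ^ p = 1) (hbp : b ^ p = 1)
    (hab : ∀ x ∈ K, a * (b * x * b⁻¹) * a⁻¹ = b * (a * x * a⁻¹) * b⁻¹) (T : Subgroup G)
    (hTb : K ⊓ Subgroup.centralizer ({b} : Set G) ≤ T)
    (hTa : ∀ i : ℕ, K ⊓ Subgroup.centralizer ({a * b ^ i} : Set G) ≤ T) : K ≤ T := by
  -- every prime `q`: an invariant Sylow `q`-subgroup inside `T`
  have hq : ∀ q : ℕ, q.Prime → q ^ (Nat.card K).factorization q ∣ Nat.card (K ⊓ T : Subgroup G) := by
    intro q hqp
    have : Fact q.Prime := ⟨hqp⟩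
    obtain ⟨P, hP⟩ := exists_sylow_normalized K hcop D hD hDK q
    set Q := (P : Subgroup K).map K.subtype with hQdef
    have hQK : Q ≤ K := Subgroup.map_subtype_le _
    have hnorm : ∀ d ∈ D, d ∈ Subgroup.normalizer (Q : Set G) := by
      intro d hd
      rw [Subgroup.mem_normalizer_iff]
      intro y
      refine ⟨hP d hd y, fun h => ?_⟩
      have := hP d⁻¹ (D.inv_mem hd) _ h
      have e : d⁻¹ * (d * y * d⁻¹) * d⁻¹⁻¹ = y := by group
      rwa [e] at this
    have hQq : IsPGroup q Q := P.2.map _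
    have : Group.IsNilpotent Q := hQq.isNilpotent
    have hQcop : ¬ p ∣ Nat.card Q := fun h => hcop (h.trans (Subgroup.card_dvd_of_le hQK))
    have hQT : Q ≤ T := le_of_centralizers_le_of_nilpotent' Q hQcop a b (hnorm a haD) (hnorm b hbD)
      hap hbp (fun x hx => hab x (hQK hx)) T ((inf_le_inf_right _ hQK).trans hTb)
      (fun i => (inf_le_inf_right _ hQK).trans (hTa i))
    have hcardQ : Nat.card Q = q ^ (Nat.card K).factorization q := by
      rw [hQdef, Subgroup.card_map_of_injective K.subtype_injective]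
      exact P.card_eq_multiplicity
    rw [← hcardQ]
    exact Subgroup.card_dvd_of_le (le_inf hQK hQT)
  have hdvd : Nat.card K ∣ Nat.card (K ⊓ T : Subgroup G) := by
    rw [← Nat.factorization_prime_le_iff_dvd Nat.card_pos.ne' Nat.card_pos.ne']
    intro q hqp
    exact (hqp.pow_dvd_iff_le_factorization Nat.card_pos.ne').mp (hq q hqp)
  have hEq : K ⊓ T = K :=
    Subgroup.eq_of_le_of_card_ge inf_le_left (Nat.le_of_dvd Nat.card_pos hdvd)
  rw [← hEq]
  exact inf_le_right

end Cfsg.Agent.Lib.Helper73_Gen
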