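import Mathlib.GroupTheory.Sylow
import Mathlib.GroupTheory.Index
import Mathlib.GroupTheory.Subgroup.Centralizer
import Mathlib.Algebra.Group.Subgroup.Pointwise

set_option autoImplicit false
open scoped Pointwise

namespace Cfsg.Agent.Lib.Helper50_CD

variable {G : Type*} [Group G]

/-! ### Product formula inequalities -/

theorem card_eq_card_mul_relIndex [Finite G] {H K : Subgroup G} (h : H ≤ K) :
    Nat.card K = Nat.card H * H.relIndex K := by
  have := Subgroup.relIndex_mul_relIndex (H := ⊥) (K := H) (L := K) bot_le h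
  rw [Subgroup.relIndex_bot_left, Subgroup.relIndex_bot_left] at this
  exact this.symm

theorem relIndex_pos [Finite G] (H K : Subgroup G) : 0 < H.relIndex K := by
  rw [Subgroup.relIndex]
  exact Nat.pos_of_ne_zero Subgroup.index_ne_zero_of_finite

theorem card_mul_card_le [Finite G] (H K : Subgroup G) :
    Nat.card H * Nat.card K ≤ Nat.card (H ⊔ K : Subgroup G) * Nat.card (H ⊓ K : Subgroup G) := by
  have e1 : Nat.card (H ⊔ K : Subgroup G) = Nat.card H * H.relIndex (H ⊔ K) :=
    card_eq_card_mul_relIndex le_sup_left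
  have e2 : Nat.card K = Nat.card (H ⊓ K : Subgroup G) * H.relIndex K := by
    rw [card_eq_card_mul_relIndex (inf_le_right : H ⊓ K ≤ K), Subgroup.inf_relIndex_right]
  have h3 : H.relIndex K ≤ H.relIndex (H ⊔ K) :=
    Subgroup.relIndex_le_of_le_right le_sup_right (relIndex_pos _ _).ne'
  rw [e1, e2]
  calc Nat.card H * (Nat.card (H ⊓ K : Subgroup G) * H.relIndex K)
      = Nat.card H * H.relIndex K * Nat.card (H ⊓ K : Subgroup G) := by ring
    _ ≤ Nat.card H * H.relIndex (H ⊔ K) * Nat.card (H ⊓ K : Subgroup G) := by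
        gcongr

/-- Equality in the product inequality forces `H ⊔ K = K * H` as sets. -/
theorem coe_sup_subset_mul_of_card_eq [Finite G] (H K : Subgroup G)
    (h : Nat.card H * Nat.card K = Nat.card (H ⊔ K : Subgroup G) * Nat.card (H ⊓ K : Subgroup G)) :
    ((H ⊔ K : Subgroup G) : Set G) ⊆ (K : Set G) * (H : Set G) := by
  have e1 : Nat.card (H ⊔ K : Subgroup G) = Nat.card H * H.relIndex (H ⊔ K) :=
    card_eq_card_mul_relIndex le_sup_left
  have e2 : Nat.card K = Nat.card (H ⊓ K : Subgroup G) * H.relIndex K := by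
    rw [card_eq_card_mul_relIndex (inf_le_right : H ⊓ K ≤ K), Subgroup.inf_relIndex_right]
  have hrel : H.relIndex K = H.relIndex (H ⊔ K) := by
    rw [e1, e2] at h
    have hH : 0 < Nat.card H := Nat.card_pos
    have hI : 0 < Nat.card (H ⊓ K : Subgroup G) := Nat.card_pos
    have : Nat.card H * Nat.card (H ⊓ K : Subgroup G) * H.relIndex K
        = Nat.card H * Nat.card (H ⊓ K : Subgroup G) * H.relIndex (H ⊔ K) := by
      calc Nat.card H * Nat.card (H ⊓ K : Subgroup G) * H.relIndex K
          = Nat.card H * (Nat.card (H ⊓ K : Subgroup G) * H.relIndex K) := by ring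
        _ = Nat.card H * H.relIndex (H ⊔ K) * Nat.card (H ⊓ K : Subgroup G) := h
        _ = Nat.card H * Nat.card (H ⊓ K : Subgroup G) * H.relIndex (H ⊔ K) := by ring
    exact Nat.eq_of_mul_eq_mul_left (Nat.mul_pos hH hI) this
  -- the embedding of coset spaces is a bijection
  let emb := Subgroup.quotientSubgroupOfEmbeddingOfLE H (le_sup_right : K ≤ H ⊔ K)
  have hcard : Nat.card (K ⧸ H.subgroupOf K) = Nat.card ((H ⊔ K : Subgroup G) ⧸ H.subgroupOf (H ⊔ K)) := by
    have a1 : Nat.card (K ⧸ H.subgroupOf K) = H.relIndex K := rfl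
    have a2 : Nat.card ((H ⊔ K : Subgroup G) ⧸ H.subgroupOf (H ⊔ K)) = H.relIndex (H ⊔ K) := rfl
    rw [a1, a2, hrel]
  have hbij : Function.Bijective emb :=
    (Nat.bijective_iff_injective_and_card emb).mpr ⟨emb.injective, hcard⟩
  intro g hg
  obtain ⟨q, hq⟩ := hbij.2 (QuotientGroup.mk (⟨g, hg⟩ : (H ⊔ K : Subgroup G)))
  obtain ⟨k, rfl⟩ := QuotientGroup.mk_surjective q
  rw [Subgroup.quotientSubgroupOfEmbeddingOfLE_apply_mk, QuotientGroup.eq] at hq
  rw [Subgroup.mem_subgroupOf] at hq
  refine ⟨(k : G), k.2, (k : G)⁻¹ * g, ?_, by group⟩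
  simpa using hq

theorem coe_sup_eq_mul_of_card_eq [Finite G] (H K : Subgroup G)
    (h : Nat.card H * Nat.card K = Nat.card (H ⊔ K : Subgroup G) * Nat.card (H ⊓ K : Subgroup G)) :
    ((H ⊔ K : Subgroup G) : Set G) = (H : Set G) * (K : Set G) := by
  apply Set.Subset.antisymm
  · intro g hg
    have hg' : g⁻¹ ∈ ((H ⊔ K : Subgroup G) : Set G) := (H ⊔ K).inv_mem hg
    obtain ⟨k, hk, h', hh', e⟩ := coe_sup_subset_mul_of_card_eq H K h hg'
    refine ⟨h'⁻¹, H.inv_mem hh', k⁻¹, K.inv_mem hk, ?_⟩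
    have e' : k * h' = g⁻¹ := e
    have : g = (k * h')⁻¹ := by rw [e']; simp
    rw [this]; simp
  · rintro _ ⟨a, ha, b, hb, rfl⟩
    exact (H ⊔ K).mul_mem (Subgroup.mem_sup_left ha) (Subgroup.mem_sup_right hb)

/-- Converse: if `H ⊔ K = H * K` as sets then the product formula holds. We only need the
inequality direction `≥`, which follows from counting the image of `H × K`. -/
theorem card_sup_mul_card_inf_le_of_coe_sup_eq_mul [Finite G] (H K : Subgroup G)
    (h : ((H ⊔ K : Subgroup G) : Set G) = (H : Set G) * (K : Set G)) :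
    Nat.card (H ⊔ K : Subgroup G) * Nat.card (H ⊓ K : Subgroup G) = Nat.card H * Nat.card K := by
  -- `H.relIndex (H ⊔ K) ≤ H.relIndex K`: the embedding of coset spaces is surjective
  have e1 : Nat.card (H ⊔ K : Subgroup G) = Nat.card H * H.relIndex (H ⊔ K) :=
    card_eq_card_mul_relIndex le_sup_left
  have e2 : Nat.card K = Nat.card (H ⊓ K : Subgroup G) * H.relIndex K := by
    rw [card_eq_card_mul_relIndex (inf_le_right : H ⊓ K ≤ K), Subgroup.inf_relIndex_right]
  let emb := Subgroup.quotientSubgroupOfEmbeddingOfLE H (le_sup_right : K ≤ H ⊔ K)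
  have hsurj : Function.Surjective emb := by
    intro q
    obtain ⟨g, rfl⟩ := QuotientGroup.mk_surjective q
    have hg : (g : G)⁻¹ ∈ ((H ⊔ K : Subgroup G) : Set G) := (H ⊔ K).inv_mem g.2
    rw [h] at hg
    obtain ⟨a, ha, b, hb, e⟩ := hg
    refine ⟨QuotientGroup.mk (⟨b⁻¹, K.inv_mem hb⟩ : K), ?_⟩
    rw [Subgroup.quotientSubgroupOfEmbeddingOfLE_apply_mk, QuotientGroup.eq, Subgroup.mem_subgroupOf]
    have : (g : G) = b⁻¹ * a⁻¹ := by
      have e' : a * b = (g : G)⁻¹ := e
      have : (g : G)⁻¹ = a * b := e'.symm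
      calc (g : G) = ((g : G)⁻¹)⁻¹ := by simp
        _ = b⁻¹ * a⁻¹ := by rw [this]; simp
    simp only [Subgroup.coe_mul, Subgroup.coe_inv, Subgroup.coe_inclusion, inv_inv]
    rw [this]
    have : b * (b⁻¹ * a⁻¹) = a⁻¹ := by group
    rw [this]; exact H.inv_mem ha
  have hcard : Nat.card (K ⧸ H.subgroupOf K) = Nat.card ((H ⊔ K : Subgroup G) ⧸ H.subgroupOf (H ⊔ K)) :=
    Nat.card_eq_of_bijective emb ⟨emb.injective, hsurj⟩
  have hrel : H.relIndex K = H.relIndex (H ⊔ K) := hcard
  rw [e1, e2, hrel]; ring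

/-! ### The Chermak–Delgado measure -/

/-- The Chermak–Delgado measure `|H| * |C_G(H)|`. -/
noncomputable def meas (H : Subgroup G) : ℕ :=
  Nat.card H * Nat.card (Subgroup.centralizer (H : Set G))

theorem centralizer_sup (H K : Subgroup G) :
    Subgroup.centralizer ((H ⊔ K : Subgroup G) : Set G) =
      Subgroup.centralizer (H : Set G) ⊓ Subgroup.centralizer (K : Set G) := by
  apply le_antisymm
  · exact le_inf (Subgroup.centralizer_le (by exact_mod_cast (le_sup_left : H ≤ H ⊔ K)))
      (Subgroup.centralizer_le (by exact_mod_cast (le_sup_right : K ≤ H ⊔ K)))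
  · intro g hg
    rw [Subgroup.mem_inf] at hg
    have : H ⊔ K ≤ Subgroup.centralizer ({g} : Set G) := by
      apply sup_le
      · intro x hx
        rw [Subgroup.mem_centralizer_singleton_iff]
        exact (hg.1 x hx)
      · intro x hx
        rw [Subgroup.mem_centralizer_singleton_iff]
        exact (hg.2 x hx)
    intro x hx
    have := this hx
    rw [Subgroup.mem_centralizer_singleton_iff] at this
    exact this

theorem centralizer_sup_le_centralizer_inf (H K : Subgroup G) :
    Subgroup.centralizer (H : Set G) ⊔ Subgroup.centralizer (K : Set G) ≤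
      Subgroup.centralizer ((H ⊓ K : Subgroup G) : Set G) :=
  sup_le (Subgroup.centralizer_le (by exact_mod_cast (inf_le_left : H ⊓ K ≤ H)))
    (Subgroup.centralizer_le (by exact_mod_cast (inf_le_right : H ⊓ K ≤ K)))

theorem le_centralizer_centralizer (H : Subgroup G) :
    H ≤ Subgroup.centralizer ((Subgroup.centralizer (H : Set G) : Subgroup G) : Set G) := by
  intro h hh c hc
  exact (hc h hh).symm

theorem meas_pos [Finite G] (H : Subgroup G) : 0 < meas H :=
  Nat.mul_pos Nat.card_pos Nat.card_pos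

theorem nat_eq_of_mul_eq {x x₀ y y₀ : ℕ} (hx : x₀ ≤ x) (hy : y₀ ≤ y) (hx₀ : 0 < x₀) (hy₀ : 0 < y₀)
    (h : x * y = x₀ * y₀) : x = x₀ ∧ y = y₀ := by
  constructor
  · by_contra hne
    have hlt : x₀ < x := lt_of_le_of_ne hx (Ne.symm hne)
    have : x₀ * y₀ < x * y := by
      calc x₀ * y₀ < x * y₀ := Nat.mul_lt_mul_of_pos_right hlt hy₀
        _ ≤ x * y := Nat.mul_le_mul_left x hy
    omega
  · by_contra hne
    have hlt : y₀ < y := lt_of_le_of_ne hy (Ne.symm hne)
    have : x₀ * y₀ < x * y := by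
      calc x₀ * y₀ < x₀ * y := Nat.mul_lt_mul_of_pos_left hlt hx₀
        _ ≤ x * y := Nat.mul_le_mul_right y hx
    omega

/-- The main package of the Chermak–Delgado lattice. -/
theorem cd_package [Finite G] {f : ℕ} (hmax : ∀ X : Subgroup G, meas X ≤ f) {H K : Subgroup G}
    (hH : meas H = f) (hK : meas K = f) :
    meas (H ⊔ K) = f ∧ meas (H ⊓ K) = f ∧
    ((H ⊔ K : Subgroup G) : Set G) = (H : Set G) * (K : Set G) ∧
    Subgroup.centralizer ((H ⊓ K : Subgroup G) : Set G) =
      Subgroup.centralizer (H : Set G) ⊔ Subgroup.centralizer (K : Set G) ∧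
    ((Subgroup.centralizer (H : Set G) ⊔ Subgroup.centralizer (K : Set G) : Subgroup G) : Set G) =
      (Subgroup.centralizer (H : Set G) : Set G) * (Subgroup.centralizer (K : Set G) : Set G) := by
  set CH := Subgroup.centralizer (H : Set G) with hCH
  set CK := Subgroup.centralizer (K : Set G) with hCK
  have hfpos : 0 < f := hH ▸ meas_pos H
  have i1 := card_mul_card_le H K
  have i2 := card_mul_card_le CH CK
  have i3 : Nat.card (CH ⊔ CK : Subgroup G) ≤ Nat.card (Subgroup.centralizer ((H ⊓ K : Subgroup G) : Set G)) :=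
    Subgroup.card_le_of_le (centralizer_sup_le_centralizer_inf H K)
  have m1 : meas (H ⊔ K) = Nat.card (H ⊔ K : Subgroup G) * Nat.card (CH ⊓ CK : Subgroup G) := by
    rw [meas, centralizer_sup]
  have m2 : meas (H ⊓ K) = Nat.card (H ⊓ K : Subgroup G) *
      Nat.card (Subgroup.centralizer ((H ⊓ K : Subgroup G) : Set G)) := rfl
  have hHm : Nat.card H * Nat.card CH = f := hH
  have hKm : Nat.card K * Nat.card CK = f := hK
  have l1 := hmax (H ⊔ K)
  have l2 := hmax (H ⊓ K)
  have ff : f * f = (Nat.card H * Nat.card K) * (Nat.card CH * Nat.card CK) := by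
    have : f * f = (Nat.card H * Nat.card CH) * (Nat.card K * Nat.card CK) := by rw [hHm, hKm]
    rw [this]; ring
  -- chain of inequalities
  have chain : f * f ≤ meas (H ⊔ K) * meas (H ⊓ K) := by
    rw [m1, m2]
    calc f * f = (Nat.card H * Nat.card K) * (Nat.card CH * Nat.card CK) := ff
      _ ≤ (Nat.card (H ⊔ K : Subgroup G) * Nat.card (H ⊓ K : Subgroup G)) *
            (Nat.card (CH ⊔ CK : Subgroup G) * Nat.card (CH ⊓ CK : Subgroup G)) :=
          Nat.mul_le_mul i1 i2
      _ ≤ (Nat.card (H ⊔ K : Subgroup G) * Nat.card (H ⊓ K : Subgroup G)) *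
            (Nat.card (Subgroup.centralizer ((H ⊓ K : Subgroup G) : Set G)) *
              Nat.card (CH ⊓ CK : Subgroup G)) := by gcongr
      _ = Nat.card (H ⊔ K : Subgroup G) * Nat.card (CH ⊓ CK : Subgroup G) *
            (Nat.card (H ⊓ K : Subgroup G) *
              Nat.card (Subgroup.centralizer ((H ⊓ K : Subgroup G) : Set G))) := by ring
  have hboth : meas (H ⊔ K) = f ∧ meas (H ⊓ K) = f := by
    have hprod : meas (H ⊔ K) * meas (H ⊓ K) = f * f :=
      le_antisymm (Nat.mul_le_mul l1 l2) chain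
    have := nat_eq_of_mul_eq (x := f) (x₀ := meas (H ⊔ K)) (y := f) (y₀ := meas (H ⊓ K)) l1 l2
      (meas_pos _) (meas_pos _) hprod.symm
    exact ⟨this.1.symm, this.2.symm⟩
  refine ⟨hboth.1, hboth.2, ?_⟩
  -- now all the inequalities are equalities
  have hprod : (Nat.card (H ⊔ K : Subgroup G) * Nat.card (H ⊓ K : Subgroup G)) *
      (Nat.card (Subgroup.centralizer ((H ⊓ K : Subgroup G) : Set G)) * Nat.card (CH ⊓ CK : Subgroup G))
      = (Nat.card H * Nat.card K) * (Nat.card CH * Nat.card CK) := by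
    have e1 : meas (H ⊔ K) * meas (H ⊓ K) = f * f := by rw [hboth.1, hboth.2]
    rw [m1, m2] at e1
    calc _ = Nat.card (H ⊔ K : Subgroup G) * Nat.card (CH ⊓ CK : Subgroup G) *
            (Nat.card (H ⊓ K : Subgroup G) *
              Nat.card (Subgroup.centralizer ((H ⊓ K : Subgroup G) : Set G))) := by ring
      _ = f * f := e1
      _ = (Nat.card H * Nat.card K) * (Nat.card CH * Nat.card CK) := ff
  have i2' : Nat.card CH * Nat.card CK ≤
      Nat.card (Subgroup.centralizer ((H ⊓ K : Subgroup G) : Set G)) * Nat.card (CH ⊓ CK : Subgroup G) :=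
    le_trans i2 (Nat.mul_le_mul_right _ i3)
  obtain ⟨q1, q2⟩ := nat_eq_of_mul_eq i1 i2' (Nat.mul_pos Nat.card_pos Nat.card_pos)
    (Nat.mul_pos Nat.card_pos Nat.card_pos) hprod
  -- from q2 and i2, i3
  have q3 : Nat.card (CH ⊔ CK : Subgroup G) * Nat.card (CH ⊓ CK : Subgroup G) = Nat.card CH * Nat.card CK := by
    apply le_antisymm _ i2
    calc Nat.card (CH ⊔ CK : Subgroup G) * Nat.card (CH ⊓ CK : Subgroup G)
        ≤ Nat.card (Subgroup.centralizer ((H ⊓ K : Subgroup G) : Set G)) * Nat.card (CH ⊓ CK : Subgroup G) :=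
          Nat.mul_le_mul_right _ i3
      _ = Nat.card CH * Nat.card CK := q2
  have q4 : Nat.card (CH ⊔ CK : Subgroup G) = Nat.card (Subgroup.centralizer ((H ⊓ K : Subgroup G) : Set G)) := by
    have : Nat.card (CH ⊔ CK : Subgroup G) * Nat.card (CH ⊓ CK : Subgroup G) =
        Nat.card (Subgroup.centralizer ((H ⊓ K : Subgroup G) : Set G)) * Nat.card (CH ⊓ CK : Subgroup G) := by
      rw [q3, q2]
    exact Nat.eq_of_mul_eq_mul_right Nat.card_pos this
  refine ⟨coe_sup_eq_mul_of_card_eq H K q1.symm, ?_, coe_sup_eq_mul_of_card_eq CH CK q3.symm⟩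
  exact (Subgroup.eq_of_le_of_card_ge (centralizer_sup_le_centralizer_inf H K) (le_of_eq q4.symm)).symm

/-- Duality in the Chermak–Delgado lattice. -/
theorem cd_dual [Finite G] {f : ℕ} (hmax : ∀ X : Subgroup G, meas X ≤ f) {H : Subgroup G}
    (hH : meas H = f) :
    meas (Subgroup.centralizer (H : Set G)) = f ∧
    H = Subgroup.centralizer ((Subgroup.centralizer (H : Set G) : Subgroup G) : Set G) := by
  set CH := Subgroup.centralizer (H : Set G) with hCH
  set CCH := Subgroup.centralizer (CH : Set G) with hCCH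
  have hle : H ≤ CCH := le_centralizer_centralizer H
  have hc : Nat.card H ≤ Nat.card CCH := Subgroup.card_le_of_le hle
  have h1 : meas CH ≤ f := hmax CH
  have h2 : meas CH = Nat.card CH * Nat.card CCH := rfl
  have h3 : Nat.card H * Nat.card CH = f := hH
  have h4 : f ≤ meas CH := by
    rw [h2, ← h3, mul_comm]
    exact Nat.mul_le_mul_left _ hc
  have h5 : meas CH = f := le_antisymm h1 h4
  refine ⟨h5, ?_⟩
  have h6 : Nat.card CCH = Nat.card H := by
    have : Nat.card CH * Nat.card CCH = Nat.card CH * Nat.card H := by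
      rw [← h2, h5, ← h3, mul_comm]
    exact Nat.eq_of_mul_eq_mul_left Nat.card_pos this
  exact Subgroup.eq_of_le_of_card_ge hle (le_of_eq h6)

end Cfsg.Agent.Lib.Helper50_CD
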