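import Cfsg.Prelude.Def_BaumannBlocks
import Cfsg.Agent.Lib.Helper50_CD

set_option autoImplicit false
open scoped Pointwise

namespace Cfsg.Agent.Lib.Helper50_CL

open Cfsg.Agent.Lib.Helper50_CD

variable {G : Type*} [Group G]

/-- The "central" measure `|R| * |Z(R)|`, with `Z(R)` computed inside `G`. -/
noncomputable def zmeas (R : Subgroup G) : ℕ :=
  Nat.card R * Nat.card (R ⊓ Subgroup.centralizer (R : Set G) : Subgroup G)

theorem map_center_eq (R : Subgroup G) :
    (Subgroup.center R).map R.subtype = R ⊓ Subgroup.centralizer (R : Set G) := by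
  ext x
  constructor
  · rintro ⟨z, hz, rfl⟩
    refine ⟨z.2, ?_⟩
    intro y hy
    have := Subgroup.mem_center_iff.mp hz ⟨y, hy⟩
    exact congrArg Subtype.val this
  · rintro ⟨hxR, hxC⟩
    refine ⟨⟨x, hxR⟩, ?_, rfl⟩
    show (⟨x, hxR⟩ : R) ∈ Subgroup.center R
    rw [Subgroup.mem_center_iff]
    intro y
    apply Subtype.ext
    exact hxC y y.2

theorem card_center_eq (R : Subgroup G) :
    Nat.card (Subgroup.center R) = Nat.card (R ⊓ Subgroup.centralizer (R : Set G) : Subgroup G) := by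
  rw [← map_center_eq, Subgroup.card_map_of_injective R.subtype_injective]

theorem isCentrallyLarge_iff (R : Subgroup G) :
    Cfsg.IsCentrallyLarge R ↔ zmeas R = Cfsg.maxCentralProduct G := by
  rw [Cfsg.IsCentrallyLarge, zmeas, card_center_eq]

theorem isCentralizerLarge_iff (R : Subgroup G) :
    Cfsg.IsCentralizerLarge R ↔ meas R = Cfsg.maxCentralizerProduct G := Iff.rfl

variable [Finite G]

theorem bddAbove_meas :
    BddAbove {k : ℕ | ∃ R : Subgroup G, Nat.card R * Nat.card (Subgroup.centralizer (R : Set G)) = k} := by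
  refine ⟨Nat.card G * Nat.card G, ?_⟩
  rintro k ⟨R, rfl⟩
  exact Nat.mul_le_mul (Subgroup.card_le_card_group _) (Subgroup.card_le_card_group _)

theorem bddAbove_zmeas :
    BddAbove {k : ℕ | ∃ R : Subgroup G, Nat.card R * Nat.card (Subgroup.center R) = k} := by
  refine ⟨Nat.card G * Nat.card G, ?_⟩
  rintro k ⟨R, rfl⟩
  refine Nat.mul_le_mul (Subgroup.card_le_card_group _) ?_
  rw [card_center_eq]
  exact Subgroup.card_le_card_group _

theorem meas_le_max (X : Subgroup G) : meas X ≤ Cfsg.maxCentralizerProduct G :=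
  le_csSup bddAbove_meas ⟨X, rfl⟩

theorem zmeas_le_max (X : Subgroup G) : zmeas X ≤ Cfsg.maxCentralProduct G := by
  apply le_csSup bddAbove_zmeas
  exact ⟨X, by rw [zmeas, card_center_eq]⟩

theorem exists_meas_eq_max : ∃ X : Subgroup G, meas X = Cfsg.maxCentralizerProduct G := by
  have hne : {k : ℕ | ∃ R : Subgroup G, Nat.card R * Nat.card (Subgroup.centralizer (R : Set G)) = k}.Nonempty :=
    ⟨_, ⟨⊥, rfl⟩⟩
  obtain ⟨R, hR⟩ := Nat.sSup_mem hne bddAbove_meas
  exact ⟨R, hR⟩

theorem exists_zmeas_eq_max : ∃ X : Subgroup G, zmeas X = Cfsg.maxCentralProduct G := by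
  have hne : {k : ℕ | ∃ R : Subgroup G, Nat.card R * Nat.card (Subgroup.center R) = k}.Nonempty :=
    ⟨_, ⟨⊥, rfl⟩⟩
  obtain ⟨R, hR⟩ := Nat.sSup_mem hne bddAbove_zmeas
  exact ⟨R, by rw [zmeas, ← card_center_eq]; exact hR⟩

theorem zmeas_le_meas (X : Subgroup G) : zmeas X ≤ meas X :=
  Nat.mul_le_mul_left _ (Subgroup.card_le_of_le inf_le_right)

theorem maxCentralProduct_le : Cfsg.maxCentralProduct G ≤ Cfsg.maxCentralizerProduct G := by
  obtain ⟨X, hX⟩ := exists_zmeas_eq_max (G := G)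
  rw [← hX]
  exact (zmeas_le_meas X).trans (meas_le_max X)

/-- For a centralizer-large `X`, the subgroup `X ⊔ C(X)` is centralizer-large and contains its
centralizer. -/
theorem sup_centralizer_spec {X : Subgroup G} (hX : meas X = Cfsg.maxCentralizerProduct G) :
    meas (X ⊔ Subgroup.centralizer (X : Set G)) = Cfsg.maxCentralizerProduct G ∧
    Subgroup.centralizer ((X ⊔ Subgroup.centralizer (X : Set G) : Subgroup G) : Set G) ≤
      X ⊔ Subgroup.centralizer (X : Set G) := by
  obtain ⟨h1, h2⟩ := cd_dual meas_le_max hX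
  obtain ⟨h3, -⟩ := cd_package meas_le_max hX h1
  refine ⟨h3, ?_⟩
  rw [centralizer_sup, ← h2]
  exact inf_le_right.trans le_sup_left

omit [Finite G] in
theorem zmeas_eq_meas_of_centralizer_le {T : Subgroup G}
    (h : Subgroup.centralizer (T : Set G) ≤ T) : zmeas T = meas T := by
  rw [zmeas, meas, inf_eq_right.mpr h]

theorem maxCentralProduct_eq : Cfsg.maxCentralProduct G = Cfsg.maxCentralizerProduct G := by
  apply le_antisymm maxCentralProduct_le
  obtain ⟨X, hX⟩ := exists_meas_eq_max (G := G)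
  obtain ⟨h1, h2⟩ := sup_centralizer_spec hX
  rw [← h1, ← zmeas_eq_meas_of_centralizer_le h2]
  exact zmeas_le_max _

/-- A centrally large subgroup is centralizer-large and `C(Q) = Z(Q)`. -/
theorem centralizerLarge_of_centrallyLarge {Q : Subgroup G} (hQ : Cfsg.IsCentrallyLarge Q) :
    Cfsg.IsCentralizerLarge Q ∧
      Subgroup.centralizer (Q : Set G) = Q ⊓ Subgroup.centralizer (Q : Set G) := by
  rw [isCentrallyLarge_iff, maxCentralProduct_eq] at hQ
  have h1 : meas Q = Cfsg.maxCentralizerProduct G :=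
    le_antisymm (meas_le_max Q) (hQ ▸ zmeas_le_meas Q)
  refine ⟨h1, ?_⟩
  have h2 : zmeas Q = meas Q := by rw [hQ, h1]
  have h3 : Nat.card (Q ⊓ Subgroup.centralizer (Q : Set G) : Subgroup G) =
      Nat.card (Subgroup.centralizer (Q : Set G)) :=
    Nat.eq_of_mul_eq_mul_left Nat.card_pos h2
  exact (Subgroup.eq_of_le_of_card_ge inf_le_right (le_of_eq h3.symm)).symm

theorem centralizer_le_of_centrallyLarge {Q : Subgroup G} (hQ : Cfsg.IsCentrallyLarge Q) :
    Subgroup.centralizer (Q : Set G) ≤ Q := by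
  have := (centralizerLarge_of_centrallyLarge hQ).2
  rw [this]; exact inf_le_left

theorem centrallyLarge_iff_of_centralizerLarge {Q : Subgroup G} (hQ : Cfsg.IsCentralizerLarge Q) :
    Cfsg.IsCentrallyLarge Q ↔ Subgroup.centralizer (Q : Set G) ≤ Q := by
  constructor
  · exact centralizer_le_of_centrallyLarge
  · intro h
    rw [isCentrallyLarge_iff, maxCentralProduct_eq, zmeas_eq_meas_of_centralizer_le h]
    exact hQ

/-- Characterization: centrally large iff centralizer-large and self-centralizing-ish. -/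
theorem centrallyLarge_iff {Q : Subgroup G} :
    Cfsg.IsCentrallyLarge Q ↔
      Cfsg.IsCentralizerLarge Q ∧ Subgroup.centralizer (Q : Set G) ≤ Q :=
  ⟨fun h => ⟨(centralizerLarge_of_centrallyLarge h).1, centralizer_le_of_centrallyLarge h⟩,
    fun h => (centrallyLarge_iff_of_centralizerLarge h.1).mpr h.2⟩

theorem centrallyLarge_sup {Q R : Subgroup G} (hQ : Cfsg.IsCentrallyLarge Q)
    (hR : Cfsg.IsCentrallyLarge R) :
    ((Q ⊔ R : Subgroup G) : Set G) = (Q : Set G) * (R : Set G) ∧ Cfsg.IsCentrallyLarge (Q ⊔ R) := by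
  obtain ⟨hQ1, hQ2⟩ := centrallyLarge_iff.mp hQ
  obtain ⟨hR1, -⟩ := centrallyLarge_iff.mp hR
  obtain ⟨h1, -, h3, -, -⟩ := cd_package meas_le_max hQ1 hR1
  refine ⟨h3, centrallyLarge_iff.mpr ⟨h1, ?_⟩⟩
  rw [centralizer_sup]
  exact inf_le_left.trans (hQ2.trans le_sup_left)

/-- A nonempty family of subgroups of a finite group closed under binary joins contains its join. -/
theorem sSup_mem_of_sup_closed (S : Set (Subgroup G)) (hne : S.Nonempty)
    (hcl : ∀ a ∈ S, ∀ b ∈ S, a ⊔ b ∈ S) : sSup S ∈ S := by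
  classical
  have hfin : S.Finite := Set.toFinite S
  have hne' : hfin.toFinset.Nonempty := by
    obtain ⟨a, ha⟩ := hne
    exact ⟨a, hfin.mem_toFinset.mpr ha⟩
  have h1 : hfin.toFinset.sup' hne' id ∈ S :=
    Finset.sup'_mem S hcl hfin.toFinset hne' id (fun i hi => hfin.mem_toFinset.mp hi)
  have h2 : hfin.toFinset.sup' hne' id = sSup S := by
    rw [Finset.sup'_eq_sup, Finset.sup_id_eq_sSup, Set.Finite.coe_toFinset]
  rwa [h2] at h1

theorem centrallyLarge_sSup (S : Set (Subgroup G)) (hne : S.Nonempty)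
    (hS : ∀ a ∈ S, Cfsg.IsCentrallyLarge a) : Cfsg.IsCentrallyLarge (sSup S) := by
  -- close `S` under joins
  let S' : Set (Subgroup G) := {R | Cfsg.IsCentrallyLarge R ∧ R ≤ sSup S}
  have hne' : S'.Nonempty := by
    obtain ⟨a, ha⟩ := hne
    exact ⟨a, hS a ha, le_sSup ha⟩
  have hcl : ∀ a ∈ S', ∀ b ∈ S', a ⊔ b ∈ S' := by
    rintro a ⟨ha1, ha2⟩ b ⟨hb1, hb2⟩
    exact ⟨(centrallyLarge_sup ha1 hb1).2, sup_le ha2 hb2⟩
  have h := sSup_mem_of_sup_closed S' hne' hcl
  have h2 : sSup S' = sSup S := by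
    apply le_antisymm
    · exact sSup_le (fun a ha => ha.2)
    · exact sSup_le (fun a ha => le_sSup ⟨hS a ha, le_sSup ha⟩)
  rw [h2] at h
  exact h.1

theorem exists_centrallyLarge : ∃ Q : Subgroup G, Cfsg.IsCentrallyLarge Q := by
  obtain ⟨X, hX⟩ := exists_zmeas_eq_max (G := G)
  exact ⟨X, (isCentrallyLarge_iff X).mpr hX⟩

/-- Every centrally large subgroup contains a minimal one. -/
theorem exists_minimal_le {Q : Subgroup G} (hQ : Cfsg.IsCentrallyLarge Q) :
    ∃ R : Subgroup G, Cfsg.IsMinimalCentrallyLarge R ∧ R ≤ Q := by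
  classical
  let S : Set (Subgroup G) := {R | Cfsg.IsCentrallyLarge R ∧ R ≤ Q}
  have hfin : S.Finite := Set.toFinite S
  have hne : S.Nonempty := ⟨Q, hQ, le_rfl⟩
  obtain ⟨R, hR, hmin⟩ := Set.exists_min_image S (fun R : Subgroup G => Nat.card R) hfin hne
  refine ⟨R, ⟨hR.1, ?_⟩, hR.2⟩
  intro R' hR'R hR'
  have h1 : Nat.card R ≤ Nat.card R' := hmin R' ⟨hR', hR'R.trans hR.2⟩
  exact Subgroup.eq_of_le_of_card_ge hR'R h1

theorem exists_minimalCentrallyLarge : ∃ Q : Subgroup G, Cfsg.IsMinimalCentrallyLarge Q := by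
  obtain ⟨Q, hQ⟩ := exists_centrallyLarge (G := G)
  obtain ⟨R, hR, -⟩ := exists_minimal_le hQ
  exact ⟨R, hR⟩

theorem centrallyLargeJoin_isCentrallyLarge :
    Cfsg.IsCentrallyLarge (Cfsg.centrallyLargeJoin G) := by
  apply centrallyLarge_sSup
  · exact exists_centrallyLarge
  · intro a ha; exact ha

theorem minimalCentrallyLargeJoin_isCentrallyLarge :
    Cfsg.IsCentrallyLarge (Cfsg.minimalCentrallyLargeJoin G) := by
  apply centrallyLarge_sSup
  · exact exists_minimalCentrallyLarge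
  · intro a ha; exact ha.1

end Cfsg.Agent.Lib.Helper50_CL
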