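import Cfsg.Agent.Lib.Helper88_SmallEssential
import Cfsg.Agent.Lib.Helper50_CL
import Cfsg.Agent.Lib.Helper22_BGTrans

/-!
# Nonabelian subgroups of order `p ^ 3` and exponent `p` inside a group (helper73)

`IsX3 p Pa`: the subgroup `Pa` of `G` is nonabelian of order `p ^ 3` and exponent `p`.
`zOf Pa = Pa ⊓ C_G(Pa)` is its centre. We prove: `|Z(Pa)| = p`, commutators lie in `Z(Pa)`, every
noncentral element `f` lies in an elementary abelian subgroup `Z(Pa) ⊔ ⟨f⟩` of order `p ^ 2`, and two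
noncentral subgroups of order `p` of such a subgroup are conjugate under `Pa`.
-/

set_option autoImplicit false

namespace Cfsg.Agent.Lib.Helper73_X3

open Subgroup Cfsg Cfsg.Agent.Lib.Helper22_BGTrans Cfsg.Agent.Lib.Helper22_Radical
open scoped commutatorElement

variable {G : Type*} [Group G]

/-- the centre of a subgroup, inside `G` -/
abbrev zOf (R : Subgroup G) : Subgroup G := R ⊓ centralizer (R : Set G)

/-- `Pa` is nonabelian of order `p ^ 3` and exponent `p` -/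
structure IsX3 (p : ℕ) (Pa : Subgroup G) : Prop where
  card : Nat.card Pa = p ^ 3
  exp : ∀ x ∈ Pa, x ^ p = 1
  nc : ∃ a ∈ Pa, ∃ b ∈ Pa, a * b ≠ b * a

variable {p : ℕ} [hp : Fact p.Prime] {Pa : Subgroup G}

theorem IsX3.finite (h : IsX3 p Pa) : Finite ↥Pa := by
  apply Nat.finite_of_card_ne_zero
  rw [h.card]
  exact pow_ne_zero _ hp.out.ne_zero

omit hp in
theorem IsX3.not_comm (h : IsX3 p Pa) : ¬ ∀ x y : ↥Pa, x * y = y * x := by
  obtain ⟨a, ha, b, hb, hab⟩ := h.nc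
  intro hc
  exact hab (congrArg Subtype.val (hc ⟨a, ha⟩ ⟨b, hb⟩))

theorem IsX3.card_zOf (h : IsX3 p Pa) : Nat.card (zOf Pa) = p := by
  have := h.finite
  have h1 := (Cfsg.Agent.Lib.Helper88_SmallEssential.nonabelian_cube h.card h.not_comm).1
  rw [Cfsg.Agent.Lib.Helper50_CL.card_center_eq] at h1
  exact h1

theorem IsX3.comm_mem (h : IsX3 p Pa) {x y : G} (hx : x ∈ Pa) (hy : y ∈ Pa) :
    x * y * x⁻¹ * y⁻¹ ∈ zOf Pa := by
  have := h.finite
  have h1 := (Cfsg.Agent.Lib.Helper88_SmallEssential.nonabelian_cube h.card h.not_comm).2.1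
    ⟨x, hx⟩ ⟨y, hy⟩
  have h2 : ((⁅(⟨x, hx⟩ : ↥Pa), ⟨y, hy⟩⁆ : ↥Pa) : G) ∈ (Subgroup.center ↥Pa).map Pa.subtype :=
    ⟨_, h1, rfl⟩
  rw [Cfsg.Agent.Lib.Helper50_CL.map_center_eq] at h2
  simpa [commutatorElement_def] using h2

theorem mem_zOf_comm {R : Subgroup G} {z x : G} (hz : z ∈ zOf R) (hx : x ∈ R) : x * z = z * x :=
  (Subgroup.mem_inf.mp hz).2 x hx

omit hp in
theorem IsX3.isPGroup (h : IsX3 p Pa) : IsPGroup p ↥Pa := IsPGroup.of_card h.card

omit hp in
theorem le_centralizer_sup {A B C : Subgroup G} (hA : C ≤ centralizer (A : Set G))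
    (hB : C ≤ centralizer (B : Set G)) : C ≤ centralizer ((A ⊔ B : Subgroup G) : Set G) := by
  rw [Subgroup.le_centralizer_iff]
  exact sup_le (Subgroup.le_centralizer_iff.mp hA) (Subgroup.le_centralizer_iff.mp hB)

omit hp in
theorem le_centralizer_zOf (R : Subgroup G) : R ≤ centralizer ((zOf R : Subgroup G) : Set G) :=
  Subgroup.le_centralizer_iff.mp inf_le_right

omit hp in
theorem zpowers_le_centralizer_zpowers (f : G) :
    zpowers f ≤ centralizer ((zpowers f : Subgroup G) : Set G) := by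
  rw [Subgroup.zpowers_le, Subgroup.mem_centralizer_iff]
  intro x hx
  obtain ⟨k, rfl⟩ := Subgroup.mem_zpowers_iff.mp hx
  exact ((Commute.refl f).zpow_left k).eq

/-- for a noncentral `f ∈ Pa`, the subgroup `⟨f⟩ Z(Pa)` is elementary abelian of order `p ^ 2` -/
theorem IsX3.exists_elemAb [Finite G] (h : IsX3 p Pa) {f : G} (hf : f ∈ Pa) (hfZ : f ∉ zOf Pa) :
    ∃ F : Subgroup G, F ≤ Pa ∧ zOf Pa ≤ F ∧ f ∈ F ∧ IsElementaryAbelian p F ∧ Nat.card F = p ^ 2 ∧
      ∀ x : G, (∀ z ∈ zOf Pa, z * x = x * z) → f * x = x * f → x ∈ centralizer (F : Set G) := by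
  have hpp := hp.out
  set F : Subgroup G := zpowers f ⊔ zOf Pa with hF
  have hfF : f ∈ F := (le_sup_left : zpowers f ≤ F) (Subgroup.mem_zpowers f)
  have hZF : zOf Pa ≤ F := le_sup_right
  have hFP : F ≤ Pa := sup_le (Subgroup.zpowers_le.mpr hf) inf_le_left
  have hzf : zpowers f ≤ centralizer ((zOf Pa : Subgroup G) : Set G) :=
    (Subgroup.zpowers_le.mpr hf).trans (le_centralizer_zOf Pa)
  have hFc : F ≤ centralizer (F : Set G) := by
    apply le_centralizer_sup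
    · rw [Subgroup.le_centralizer_iff]
      exact le_centralizer_sup (zpowers_le_centralizer_zpowers f) hzf
    · exact hFP.trans (le_centralizer_zOf Pa)
  have hFcomm : ∀ a ∈ F, ∀ b ∈ F, a * b = b * a := fun a ha b hb => (hFc hb a ha)
  have hFe : IsElementaryAbelian p F :=
    ⟨⟨⟨fun a b => Subtype.ext (hFcomm a.1 a.2 b.1 b.2)⟩⟩, fun a ha => h.exp a (hFP ha)⟩
  refine ⟨F, hFP, hZF, hfF, hFe, ?_, ?_⟩
  · have hd : Nat.card F ∣ p ^ 3 := by
      rw [← h.card]
      exact Subgroup.card_dvd_of_le hFP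
    obtain ⟨k, hk3, hk⟩ := (Nat.dvd_prime_pow hpp).mp hd
    have h1 : p < Nat.card F := by
      rw [← h.card_zOf]
      exact card_lt_card_of_lt hZF (fun hle => hfZ (hle hfF))
    have h2 : Nat.card F < p ^ 3 := by
      rw [← h.card]
      apply card_lt_card_of_lt hFP
      intro hle
      obtain ⟨a, ha, b, hb, hab⟩ := h.nc
      exact hab (hFcomm a (hle ha) b (hle hb))
    rw [hk] at h1 h2 ⊢
    have hk2 : k < 3 := (Nat.pow_lt_pow_iff_right hpp.one_lt).mp h2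
    have hk1 : 1 < k := by
      have : p ^ 1 < p ^ k := by rwa [pow_one]
      exact (Nat.pow_lt_pow_iff_right hpp.one_lt).mp this
    have : k = 2 := by omega
    rw [this]
  · intro x hxZ hxf
    have h1 : F ≤ centralizer ({x} : Set G) := by
      apply sup_le
      · rw [Subgroup.zpowers_le, Subgroup.mem_centralizer_singleton_iff]
        exact hxf
      · intro z hz
        rw [Subgroup.mem_centralizer_singleton_iff]
        exact hxZ z hz
    rw [Subgroup.mem_centralizer_iff]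
    intro y hy
    have := h1 hy
    rw [Subgroup.mem_centralizer_singleton_iff] at this
    exact this

/-- distinct subgroups of the same prime order meet trivially -/
theorem inf_eq_bot_of_card_prime [Finite G] {X Y : Subgroup G} (hX : Nat.card X = p)
    (hY : Nat.card Y = p) (hne : X ≠ Y) : X ⊓ Y = ⊥ := by
  by_contra hbot
  obtain ⟨x', hx'⟩ := (Subgroup.ne_bot_iff_exists_ne_one).mp hbot
  obtain ⟨x, hx, hx1⟩ : ∃ x ∈ X ⊓ Y, x ≠ 1 := ⟨(x' : G), x'.2, fun h => hx' (Subtype.ext h)⟩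
  obtain ⟨hxX, hxY⟩ := Subgroup.mem_inf.mp hx
  have e1 := Cfsg.Agent.Lib.Helper88_SmallEssential.zpowers_eq_of_card_prime hp.out hX hxX hx1
  have e2 := Cfsg.Agent.Lib.Helper88_SmallEssential.zpowers_eq_of_card_prime hp.out hY hxY hx1
  exact hne (e1.symm.trans e2)

/-- a subgroup of prime order is not trivial -/
theorem exists_ne_one_of_card_prime {X : Subgroup G} (hX : Nat.card X = p) :
    ∃ x ∈ X, x ≠ 1 := by
  have hne : X ≠ ⊥ := by
    rintro rfl
    rw [Subgroup.card_bot] at hX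
    exact hp.out.one_lt.ne hX
  obtain ⟨x, hx⟩ := (Subgroup.ne_bot_iff_exists_ne_one).mp hne
  exact ⟨(x : G), x.2, fun h => hx (Subtype.ext h)⟩

/-- the subgroup of `Z(Pa)` of the `w` with `b w` conjugate to `b` under `Pa` -/
def conjSub (Pa : Subgroup G) (b : G) : Subgroup G where
  carrier := {w | w ∈ zOf Pa ∧ ∃ y ∈ Pa, y * b * y⁻¹ = b * w}
  one_mem' := ⟨one_mem _, 1, one_mem _, by simp⟩
  mul_mem' := by
    rintro w₁ w₂ ⟨hw₁, y₁, hy₁, h₁⟩ ⟨hw₂, y₂, hy₂, h₂⟩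
    refine ⟨mul_mem hw₁ hw₂, y₁ * y₂, mul_mem hy₁ hy₂, ?_⟩
    have hc : y₁ * w₂ * y₁⁻¹ = w₂ := by
      rw [mem_zOf_comm hw₂ hy₁]
      group
    calc (y₁ * y₂) * b * (y₁ * y₂)⁻¹ = y₁ * (y₂ * b * y₂⁻¹) * y₁⁻¹ := by group
      _ = y₁ * (b * w₂) * y₁⁻¹ := by rw [h₂]
      _ = (y₁ * b * y₁⁻¹) * (y₁ * w₂ * y₁⁻¹) := by group
      _ = (b * w₁) * w₂ := by rw [h₁, hc]
      _ = b * (w₁ * w₂) := mul_assoc _ _ _
  inv_mem' := by
    rintro w ⟨hw, y, hy, h⟩
    refine ⟨inv_mem hw, y⁻¹, inv_mem hy, ?_⟩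
    have hc : y⁻¹ * w * y = w := by
      have := mem_zOf_comm hw hy
      calc y⁻¹ * w * y = y⁻¹ * (w * y) := by group
        _ = y⁻¹ * (y * w) := by rw [this]
        _ = w := by group
    have h3 : y⁻¹ * (b * w) * y = b := by
      rw [← h]
      group
    have h4 : (y⁻¹ * b * y) * w = b := by
      calc (y⁻¹ * b * y) * w = (y⁻¹ * b * y) * (y⁻¹ * w * y) := by rw [hc]
        _ = y⁻¹ * (b * w) * y := by group
        _ = b := h3
    rw [inv_inv]
    exact eq_mul_inv_of_mul_eq h4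

/-- conjugates of a noncentral `b ∈ Pa` fill the coset `b Z(Pa)` -/
theorem IsX3.exists_conj_eq_mul [Finite G] (h : IsX3 p Pa) {b z : G} (hb : b ∈ Pa)
    (hbZ : b ∉ zOf Pa) (hz : z ∈ zOf Pa) : ∃ y ∈ Pa, y * b * y⁻¹ = b * z := by
  have hpp := hp.out
  have hle : conjSub Pa b ≤ zOf Pa := fun w hw => hw.1
  have hne : conjSub Pa b ≠ ⊥ := by
    have hbC : b ∉ centralizer (Pa : Set G) := fun hc => hbZ (Subgroup.mem_inf.mpr ⟨hb, hc⟩)
    rw [Subgroup.mem_centralizer_iff] at hbC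
    push Not at hbC
    obtain ⟨y, hy, hyb⟩ := hbC
    intro hbot
    have hw : b⁻¹ * y * b * y⁻¹ ∈ conjSub Pa b := by
      refine ⟨?_, y, hy, by group⟩
      have := h.comm_mem (inv_mem hb) hy
      rwa [inv_inv] at this
    rw [hbot, Subgroup.mem_bot] at hw
    apply hyb
    calc y * b = b * (b⁻¹ * y * b * y⁻¹) * y := by group
      _ = b * y := by rw [hw]; group
  have hcard : Nat.card (conjSub Pa b) = p := by
    have hd : Nat.card (conjSub Pa b) ∣ p := by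
      rw [← h.card_zOf]
      exact Subgroup.card_dvd_of_le hle
    rcases (Nat.dvd_prime hpp).mp hd with h1 | h1
    · exact absurd (Subgroup.card_eq_one.mp h1) hne
    · exact h1
  have heq : conjSub Pa b = zOf Pa :=
    Subgroup.eq_of_le_of_card_ge hle (by rw [hcard, h.card_zOf])
  have hzW : z ∈ conjSub Pa b := by rw [heq]; exact hz
  exact hzW.2

/-- two noncentral subgroups of order `p` of a subgroup `A ⊇ Z(Pa)` of order `p ^ 2` of `Pa` are
conjugate under `Pa` -/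
theorem IsX3.exists_conj_line [Finite G] (h : IsX3 p Pa) {A A₀ A₁ : Subgroup G} (hAP : A ≤ Pa)
    (hZA : zOf Pa ≤ A) (hA2 : Nat.card A = p ^ 2) (h0A : A₀ ≤ A) (h1A : A₁ ≤ A)
    (h0 : Nat.card A₀ = p) (h1 : Nat.card A₁ = p) (h0Z : A₀ ≠ zOf Pa) (h1Z : A₁ ≠ zOf Pa) :
    ∃ y ∈ Pa, cj y A₀ = A₁ := by
  have hpp := hp.out
  have hZ := h.card_zOf
  have hd0 : A₀ ⊓ zOf Pa = ⊥ := inf_eq_bot_of_card_prime h0 hZ h0Z
  have hd1 : A₁ ⊓ zOf Pa = ⊥ := inf_eq_bot_of_card_prime h1 hZ h1Z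
  -- `A = A₀ Z`
  have hsup : A₀ ⊔ zOf Pa = A := by
    apply Subgroup.eq_of_le_of_card_ge (sup_le h0A hZA)
    have hlt : Nat.card A₀ < Nat.card ↥(A₀ ⊔ zOf Pa) := by
      apply card_lt_card_of_lt le_sup_left
      intro hle
      have hZle : zOf Pa ≤ A₀ := le_sup_right.trans hle
      exact h0Z (Subgroup.eq_of_le_of_card_ge hZle (by rw [h0, hZ])).symm
    have hd : Nat.card ↥(A₀ ⊔ zOf Pa) ∣ p ^ 2 := by
      rw [← hA2]
      exact Subgroup.card_dvd_of_le (sup_le h0A hZA)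
    obtain ⟨k, hk2, hk⟩ := (Nat.dvd_prime_pow hpp).mp hd
    rw [h0, hk] at hlt
    have hk1 : 1 < k := by
      have : p ^ 1 < p ^ k := by rwa [pow_one]
      exact (Nat.pow_lt_pow_iff_right hpp.one_lt).mp this
    have : k = 2 := by omega
    rw [hA2, hk, this]
  obtain ⟨a', ha', ha'1⟩ := exists_ne_one_of_card_prime h1
  have hnorm : A₀ ≤ normalizer ((zOf Pa : Subgroup G) : Set G) :=
    ((h0A.trans hAP).trans (le_centralizer_zOf Pa)).trans (Subgroup.centralizer_le_normalizer _)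
  have hmem : a' ∈ ((A₀ ⊔ zOf Pa : Subgroup G) : Set G) := by
    rw [hsup]
    exact h1A ha'
  rw [Subgroup.coe_mul_of_left_le_normalizer_right A₀ (zOf Pa) hnorm] at hmem
  obtain ⟨b, hb, z, hz, hbz⟩ := hmem
  replace hbz : b * z = a' := hbz
  replace hb : b ∈ A₀ := hb
  replace hz : z ∈ zOf Pa := hz
  have hb1 : b ≠ 1 := by
    rintro rfl
    rw [one_mul] at hbz
    have : a' ∈ A₁ ⊓ zOf Pa := Subgroup.mem_inf.mpr ⟨ha', by rw [← hbz]; exact hz⟩
    rw [hd1, Subgroup.mem_bot] at this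
    exact ha'1 this
  have hbZ : b ∉ zOf Pa := by
    intro hbZ
    have : b ∈ A₀ ⊓ zOf Pa := Subgroup.mem_inf.mpr ⟨hb, hbZ⟩
    rw [hd0, Subgroup.mem_bot] at this
    exact hb1 this
  obtain ⟨y, hy, hyb⟩ := h.exists_conj_eq_mul (hAP (h0A hb)) hbZ hz
  refine ⟨y, hy, ?_⟩
  have hmem' : a' ∈ cj y A₀ := by
    rw [mem_cj, ← hbz, ← hyb]
    have : y⁻¹ * (y * b * y⁻¹) * y = b := by group
    rw [this]
    exact hb
  have e1 := Cfsg.Agent.Lib.Helper88_SmallEssential.zpowers_eq_of_card_prime hpp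
    (K := cj y A₀) (by rw [card_cj, h0]) hmem' ha'1
  have e2 := Cfsg.Agent.Lib.Helper88_SmallEssential.zpowers_eq_of_card_prime hpp h1 ha' ha'1
  exact e1.symm.trans e2

end Cfsg.Agent.Lib.Helper73_X3
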