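import Cfsg.Agent.Lib.Helper73_BG12
import Cfsg.Agent.Lib.Helper73_X3
import Cfsg.Agent.Lib.Helper73_Gen
import Cfsg.Agent.Lib.Helper73_PLen
import Cfsg.Agent.Lib.Helper70_BG1212

/-!
# Bender–Glauberman, section 12: nonabelian `p`-subgroups are uniqueness subgroups (helper73)

Statement S1422, from the earlier statements S1403 (`UniqHyp`), S1444 (`H1444`), S1412, S1416, S1417 taken as
explicit hypotheses.
-/

set_option autoImplicit false

namespace Cfsg.Agent.Lib.Helper73_BG12b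

open Subgroup Cfsg Cfsg.Agent.Lib.Helper22_BGTrans Cfsg.Agent.Lib.Helper22_Radical
  Cfsg.Agent.Lib.Helper84_RelSylow Cfsg.Agent.Lib.Helper49_Sigma Cfsg.Agent.Lib.Helper73_BG12
  Cfsg.Agent.Lib.Helper73_X3 Cfsg.Agent.Lib.Helper70_BG106

universe u

variable {G : Type u} [Group G] [Finite G] {p : ℕ} [hp : Fact p.Prime]

omit [Finite G] hp in
theorem not_isCyclic_of_isX3 {S Pa : Subgroup G} (hPaS : Pa ≤ S) (hX : IsX3 p Pa) : ¬ IsCyclic S := by
  intro hcyc
  obtain ⟨a, ha, b, hb, hab⟩ := hX.nc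
  have hc : IsMulCommutative ↥S := IsCyclic.isMulCommutative
  have := hc.is_comm.comm (⟨a, hPaS ha⟩ : ↥S) ⟨b, hPaS hb⟩
  exact hab (congrArg Subtype.val this)

/-- `C_G(Z(Pa)) ≤ M` for a maximal subgroup `M` with `p ∈ σ(M)` containing a Sylow `p`-subgroup `S` of `G`
with `Pa ≤ S` nonabelian of order `p ^ 3` and exponent `p`, `Z(Pa) ≤ Z(S)`. -/
theorem centralizer_zOf_le (hG : IsMinSimpleOddOrder G) (hU : UniqHyp G) (h44 : H1444.{u})
    (hC : CentHyp G) {M : Subgroup G} (hM : IsCoatom M) (hpσ : p ∈ sigma M) {S Pa : Subgroup G}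
    (hS : IsSylowIn p S ⊤) (hSM : S ≤ M) (hPaS : Pa ≤ S) (hX : IsX3 p Pa)
    (hZS : zOf Pa ≤ centralizer (S : Set G)) :
    centralizer ((zOf Pa : Subgroup G) : Set G) ≤ M := by
  have hpp := hp.out
  set Z := zOf Pa with hZdef
  set C := centralizer ((Z : Subgroup G) : Set G) with hCdef
  have hZ1 : Z ≠ ⊥ := by
    intro h
    have := hX.card_zOf
    rw [← hZdef, h, Subgroup.card_bot] at this
    exact hpp.one_lt.ne this
  have hCtop : C ≠ ⊤ := Cfsg.Agent.Lib.Helper22_BGTransUp.centralizer_ne_top hG hZ1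
  have hSC : S ≤ C := Subgroup.le_centralizer_iff.mp hZS
  have hSp := hS.isPGroup
  have hpl : PLengthLE p 1 ↥C := plen_one hG hU h44 p C hCtop
  obtain ⟨K', hK'n, hK'p, hdec⟩ := Cfsg.Agent.Lib.Helper73_PLen.exists_decomp' hpl
  have hSylC : IsSylowIn p S C := hS.mono hSC le_top
  set K : Subgroup G := K'.map C.subtype with hKdef
  have hKC : K ≤ C := Subgroup.map_subtype_le _
  have hCK : C ≤ normalizer (K : Set G) := by
    have h2 := Subgroup.le_normalizer_map (H := K') C.subtype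
    rw [Subgroup.normalizer_eq_top] at h2
    intro c hc
    exact h2 ⟨⟨c, hc⟩, Subgroup.mem_top _, rfl⟩
  have hcop : ¬ p ∣ Nat.card K := by
    rw [hKdef, Subgroup.card_map_of_injective C.subtype_injective]
    intro hd
    exact hpp.one_lt.ne' (Nat.Coprime.eq_one_of_dvd hK'p.symm hd)
  have hnc : ¬ IsCyclic S := not_isCyclic_of_isX3 hPaS hX
  have hNS : normalizer (S : Set G) ≤ M := normalizer_le_of_not_isCyclic hG hU hC hM hpσ hSp hSM hnc
  -- `K ≤ M`
  have hKM : K ≤ M := by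
    obtain ⟨a, ha, b, hb, hab⟩ := hX.nc
    have hPaK : Pa ≤ normalizer (K : Set G) := (hPaS.trans hSC).trans hCK
    have hKZ : ∀ x ∈ K, ∀ z ∈ Z, z * x = x * z := by
      intro x hx z hz
      exact (Subgroup.mem_centralizer_iff.mp (hKC hx) z hz)
    -- noncentral elements
    have hkey : ∀ f ∈ Pa, f ∉ Z → K ⊓ centralizer ({f} : Set G) ≤ M := by
      intro f hf hfZ x hx
      obtain ⟨hxK, hxf⟩ := Subgroup.mem_inf.mp hx
      rw [Subgroup.mem_centralizer_singleton_iff] at hxf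
      obtain ⟨F, hFP, -, -, hFe, hF2, hFc⟩ := hX.exists_elemAb hf hfZ
      exact hC M hM p F ((hFP.trans hPaS).trans hSM) hFe hF2 (hFc x (hKZ x hxK) hxf.symm)
    refine Cfsg.Agent.Lib.Helper73_Gen.le_of_centralizers_le' K hcop Pa hX.isPGroup hPaK a b ha hb
      (hX.exp a ha) (hX.exp b hb) ?_ M ?_ ?_
    · intro x hx
      have hw : a * b * a⁻¹ * b⁻¹ ∈ Z := hX.comm_mem ha hb
      have hx' : b * (a * x * a⁻¹) * b⁻¹ ∈ K := by
        have h1 : a * x * a⁻¹ ∈ K := (Subgroup.mem_normalizer_iff.mp (hPaK ha) x).mp hx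
        exact (Subgroup.mem_normalizer_iff.mp (hPaK hb) _).mp h1
      have hcomm := hKZ _ hx' _ hw
      calc a * (b * x * b⁻¹) * a⁻¹
          = (a * b * a⁻¹ * b⁻¹) * (b * (a * x * a⁻¹) * b⁻¹) * (a * b * a⁻¹ * b⁻¹)⁻¹ := by group
        _ = (b * (a * x * a⁻¹) * b⁻¹) * (a * b * a⁻¹ * b⁻¹) * (a * b * a⁻¹ * b⁻¹)⁻¹ := by rw [hcomm]
        _ = b * (a * x * a⁻¹) * b⁻¹ := by group
    · apply hkey b hb
      intro hbZ
      exact hab (mem_zOf_comm hbZ ha)
    · intro i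
      apply hkey (a * b ^ i) (mul_mem ha (pow_mem hb i))
      intro hfZ
      have h1 := mem_zOf_comm hfZ hb
      apply hab
      have h2 : b * (a * b ^ i) = (b * a) * b ^ i := by group
      have h3 : a * b ^ i * b = (a * b) * b ^ i := by
        rw [mul_assoc, mul_assoc, ← pow_succ, ← pow_succ']
      rw [h2, h3] at h1
      exact (mul_right_cancel h1).symm
  -- assemble
  intro m hm
  obtain ⟨n, hn, k, hk, hmnk⟩ := hdec hSylC.toSylow ⟨m, hm⟩
  have hnG : (n : G) ∈ normalizer (S : Set G) := by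
    have h2 := Subgroup.le_normalizer_map (H := (hSylC.toSylow : Subgroup ↥C)) C.subtype
    rw [hSylC.coe_toSylow, Subgroup.map_subgroupOf_eq_of_le hSC] at h2
    exact h2 ⟨n, hn, rfl⟩
  have hkG : (k : G) ∈ K := ⟨k, hk, rfl⟩
  have : m = (n : G) * (k : G) := by
    have := congrArg Subtype.val hmnk
    simpa using this
  rw [this]
  exact mul_mem (hNS hnG) (hKM hkG)

/-- `N_G(Z(Pa)) ≤ M` in the same situation -/
theorem normalizer_zOf_le (hG : IsMinSimpleOddOrder G) (hU : UniqHyp G) (h44 : H1444.{u})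
    (hC : CentHyp G) {M : Subgroup G} (hM : IsCoatom M) (hpσ : p ∈ sigma M) {S Pa : Subgroup G}
    (hS : IsSylowIn p S ⊤) (hSM : S ≤ M) (hPaS : Pa ≤ S) (hX : IsX3 p Pa)
    (hZS : zOf Pa ≤ centralizer (S : Set G)) :
    normalizer ((zOf Pa : Subgroup G) : Set G) ≤ M := by
  have hpp := hp.out
  have hCM := centralizer_zOf_le hG hU h44 hC hM hpσ hS hSM hPaS hX hZS
  have hZ1 : zOf Pa ≠ ⊥ := by
    intro h
    have := hX.card_zOf
    rw [h, Subgroup.card_bot] at this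
    exact hpp.one_lt.ne this
  have hZM : zOf Pa ≤ M := (inf_le_left.trans hPaS).trans hSM
  have hZp : IsPGroup p ↥(zOf Pa) := hS.isPGroup.to_le (inf_le_left.trans hPaS)
  obtain ⟨P₀, hP₀⟩ := exists_sylM_of_mem_sigma hpσ
  obtain ⟨-, hB⟩ := fusion hG hU hM hP₀ hZp hZ1 hZM
  intro n hn
  obtain ⟨m, hm, c, hc, rfl⟩ := hB n hn
  exact mul_mem (Subgroup.mem_inf.mp hm).1 (hCM hc)

/-- the part of S1417 that is used, as a hypothesis -/
def Hyp1417 (G : Type*) [Group G] : Prop :=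
  ∀ (M : Subgroup G), IsCoatom M → ∀ (p : ℕ) [Fact p.Prime], p ∈ tau2 M → ∀ A : Subgroup G, A ≤ M →
    IsElementaryAbelian p A → Nat.card A = p ^ 2 → ∀ P : Sylow p M, IsMulCommutative (P : Subgroup M)

/-- S1416, as a hypothesis -/
def Hyp1416 (G : Type*) [Group G] : Prop :=
  ∀ (M : Subgroup G), IsCoatom M → ∀ (p : ℕ) [Fact p.Prime] (A : Subgroup G), A ≤ M →
    IsElementaryAbelian p A → Nat.card A = p ^ 2 →
    centralizer (A : Set G) ≤ M ∧
      ((∀ A₀ : Subgroup G, A₀ ≤ A → Nat.card A₀ = p →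
          ¬ (normalizer (A₀ : Set G) ≤ M ∧ ∀ L : Subgroup G, IsCoatom L → normalizer (A₀ : Set G) ≤ L → L = M)) →
        p ∈ sigma M ∧ alphaCore M = ⊥ ∧ Group.IsNilpotent (sigmaCore M))

/-- S1412, as a hypothesis -/
def Hyp1412 (G : Type*) [Group G] : Prop :=
  ∀ (p : ℕ) [Fact p.Prime] (P : Sylow p G), PRankLE p 2 (P : Subgroup G) →
    IsMulCommutative (P : Subgroup G) ∨ ∃ P₁ P₂ : Subgroup G, P₁ ⊔ P₂ = (P : Subgroup G) ∧
      (∀ a ∈ P₁, ∀ b ∈ P₂, a * b = b * a) ∧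
        ¬ IsMulCommutative P₁ ∧ Nat.card P₁ = p ^ 3 ∧ Monoid.exponent P₁ = p ∧ IsCyclic P₂ ∧
        Subgroup.closure {x : G | x ∈ P₂ ∧ x ^ p = 1} = P₁ ⊓ Subgroup.centralizer (P₁ : Set G)

omit [Finite G] hp in
theorem centHyp_of_hyp1416 (h : Hyp1416 G) : CentHyp G :=
  fun M hM p _ A hAM hAe hA2 => (h M hM p A hAM hAe hA2).1

omit hp in
theorem ne_two_of_isPGroup (hG : IsMinSimpleOddOrder G) {P : Subgroup G} (hP : IsPGroup p P)
    (hP1 : P ≠ ⊥) : p ≠ 2 := by
  rintro rfl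
  have : Fact (Nat.Prime 2) := ⟨Nat.prime_two⟩
  obtain ⟨n, hn⟩ := IsPGroup.iff_card.mp hP
  have hn0 : n ≠ 0 := by
    rintro rfl
    rw [pow_zero] at hn
    exact hP1 (Subgroup.card_eq_one.mp hn)
  have h1 : 2 ∣ Nat.card P := by
    rw [hn]
    exact dvd_pow_self 2 hn0
  have h2 : 2 ∣ Nat.card G := h1.trans (Subgroup.card_subgroup_dvd_card P)
  have h3 := hG.1
  rw [Nat.odd_iff] at h3
  omega

omit [Finite G] hp in
theorem not_isCyclic_of_not_comm {P : Subgroup G} (hPna : ¬ IsMulCommutative P) : ¬ IsCyclic P :=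
  fun _ => hPna IsCyclic.isMulCommutative

omit [Finite G] hp in
theorem ne_bot_of_not_comm {P : Subgroup G} (hPna : ¬ IsMulCommutative P) : P ≠ ⊥ := by
  rintro rfl
  exact not_isCyclic_of_not_comm hPna inferInstance

/-- a maximal subgroup `H` containing a nonabelian `p`-subgroup has `p ∈ σ(H)` -/
theorem mem_sigma_of_not_comm (hG : IsMinSimpleOddOrder G) (hU : UniqHyp G) (h17 : Hyp1417 G)
    {H : Subgroup G} (hH : IsCoatom H) {P : Subgroup G} (hP : IsPGroup p P) (hPH : P ≤ H)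
    (hPna : ¬ IsMulCommutative P) : p ∈ sigma H := by
  have hpp := hp.out
  by_contra hσ
  have hr2 : PRankLE p 2 ↥H := by
    by_contra h
    exact hσ (Cfsg.Agent.Lib.Helper49_Alpha.mem_sigma_of_mem_alpha hG hU hH ⟨hpp, h⟩)
  have hnc := not_isCyclic_of_not_comm hPna
  have hp2 := ne_two_of_isPGroup hG hP (ne_bot_of_not_comm hPna)
  obtain ⟨A, hAP, hAe, hA2⟩ := exists_elemAb_sq_of_not_isCyclic hp2 hP hnc
  have hAc : ∀ a ∈ A, ∀ b ∈ A, a * b = b * a := fun a ha b hb =>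
    congrArg Subtype.val (hAe.1.is_comm.comm (⟨a, ha⟩ : ↥A) ⟨b, hb⟩)
  have hr1 : ¬ PRankLE p 1 ↥H := by
    apply Cfsg.Agent.Lib.Helper22_Uniq.not_pRankLE_of_elemAb (hAP.trans hPH) hAc hAe.2
    rw [hA2, pow_one]
    nlinarith [hpp.one_lt]
  have hτ : p ∈ tau2 H := ⟨hpp, hσ, hr2, hr1⟩
  have h1 := h17 H hH p hτ A (hAP.trans hPH) hAe hA2
  have hP' : IsPGroup p (P.subgroupOf H) := hP.comap_of_injective H.subtype H.subtype_injective
  obtain ⟨Q, hQ⟩ := hP'.exists_le_sylow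
  apply hPna
  refine ⟨⟨fun a b => ?_⟩⟩
  have ha : (⟨a.1, hPH a.2⟩ : ↥H) ∈ (Q : Subgroup ↥H) := hQ (Subgroup.mem_subgroupOf.mpr a.2)
  have hb : (⟨b.1, hPH b.2⟩ : ↥H) ∈ (Q : Subgroup ↥H) := hQ (Subgroup.mem_subgroupOf.mpr b.2)
  have := (h1 Q).is_comm.comm ⟨_, ha⟩ ⟨_, hb⟩
  apply Subtype.ext
  have h2 := congrArg (fun z : ↥(Q : Subgroup ↥H) => ((z : ↥H) : G)) this
  simpa using h2

/-- a noncyclic `p`-subgroup of `M ⊓ H`, `p ∈ σ(M) ∩ σ(H)`, lies in a Sylow `p`-subgroup of `G` inside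
`M ⊓ H` -/
theorem exists_sylow_le_inf (hG : IsMinSimpleOddOrder G) (hU : UniqHyp G) (hC : CentHyp G)
    {M H : Subgroup G} (hM : IsCoatom M) (hH : IsCoatom H) (hpM : p ∈ sigma M) (hpH : p ∈ sigma H)
    {P : Subgroup G} (hP : IsPGroup p P) (hPM : P ≤ M) (hPH : P ≤ H) (hnc : ¬ IsCyclic P) :
    ∃ S, IsSylowIn p S ⊤ ∧ P ≤ S ∧ S ≤ M ⊓ H := by
  have hpp := hp.out
  obtain ⟨T, hPT, hT⟩ := exists_isSylowIn_ge (H := M ⊓ H) (le_inf hPM hPH) hP
  have hTnc : ¬ IsCyclic T := by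
    intro hc
    apply hnc
    have e : ↥(P.subgroupOf T) ≃* ↥P := Subgroup.subgroupOfEquivOfLe hPT
    exact isCyclic_of_surjective e e.surjective
  have hNM : normalizer (T : Set G) ≤ M :=
    normalizer_le_of_not_isCyclic hG hU hC hM hpM hT.isPGroup (hT.le.trans inf_le_left) hTnc
  have hNH : normalizer (T : Set G) ≤ H :=
    normalizer_le_of_not_isCyclic hG hU hC hH hpH hT.isPGroup (hT.le.trans inf_le_right) hTnc
  obtain ⟨S, hTS, hS⟩ := exists_isSylowIn_ge (H := (⊤ : Subgroup G)) le_top hT.isPGroup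
  have h2 : S ≤ T := by
    by_contra hST
    apply normalizer_growth hpp hS.isPGroup hTS hST
    have h3 : normalizer (T : Set G) ⊓ S = T :=
      hT.eq_of_le (le_inf le_normalizer hTS) (le_inf (inf_le_left.trans hNM) (inf_le_left.trans hNH))
        (hS.isPGroup.to_le inf_le_right)
    exact h3.le
  have h4 : S = T := le_antisymm h2 hTS
  exact ⟨S, hS, hPT.trans hTS, h4 ▸ hT.le⟩

omit [Finite G] hp in
theorem coatom_eq_of_le {M H : Subgroup G} (hM : IsCoatom M) (hH : IsCoatom H) (h : M ≤ H) : M = H := by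
  by_contra hne
  exact hH.1 (hM.2 H (lt_of_le_of_ne h hne))

/-- if `M_σ` is nilpotent and `p ∈ σ(M)`, a Sylow `p`-subgroup of `M` is normal in `M` -/
theorem le_normalizer_of_nilpotent_sigmaCore (hG : IsMinSimpleOddOrder G) (hU : UniqHyp G)
    (h44 : H1444.{u}) {M : Subgroup G} (hM : IsCoatom M) (hpσ : p ∈ sigma M)
    (hnil : Group.IsNilpotent ↥(sigmaCore M)) {S : Subgroup G} (hS : IsSylowIn p S M) :
    M ≤ normalizer (S : Set G) := by
  have hpp := hp.out
  set K : Subgroup ↥M := piCore (sigma M) ↥M with hKdef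
  have hKnil : Group.IsNilpotent ↥K := by
    have e : ↥K ≃* ↥(sigmaCore M) := K.equivMapOfInjective M.subtype M.subtype_injective
    exact Group.nilpotent_of_mulEquiv e.symm
  have hidx : ¬ p ∣ K.index :=
    Cfsg.Agent.Lib.Helper70_BG1212.not_dvd_index_piCore_sigma hG hU h44 M hM hpσ
  set S' : Sylow p ↥M := hS.toSylow with hS'def
  have hS'K : (S' : Subgroup ↥M) ≤ K := by
    apply le_of_coprime_index
    obtain ⟨n, hn⟩ := IsPGroup.iff_card.mp S'.isPGroup'
    rw [hn]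
    apply Nat.Coprime.pow_left
    exact (Nat.Prime.coprime_iff_not_dvd hpp).mpr hidx
  set S'' : Sylow p ↥K := S'.subtype hS'K with hS''def
  have hnorm : (S'' : Subgroup ↥K).Normal :=
    Sylow.normal_of_normalizerCondition Group.normalizerCondition_of_isNilpotent S''
  have hchar : (S'' : Subgroup ↥K).Characteristic := Sylow.characteristic_of_normal S'' hnorm
  have hn2 : ((S'' : Subgroup ↥K).map K.subtype).Normal := ConjAct.normal_of_characteristic_of_normal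
  have hmap : (S'' : Subgroup ↥K).map K.subtype = (S' : Subgroup ↥M) := by
    rw [hS''def, Sylow.coe_subtype, Subgroup.map_subgroupOf_eq_of_le hS'K]
  rw [hmap] at hn2
  have h2 := Subgroup.le_normalizer_map (H := (S' : Subgroup ↥M)) M.subtype
  rw [Subgroup.normalizer_eq_top, hS'def, hS.coe_toSylow, Subgroup.map_subgroupOf_eq_of_le hS.le] at h2
  intro m hm
  exact h2 ⟨⟨m, hm⟩, Subgroup.mem_top _, rfl⟩

/-- the rank two case: two maximal subgroups containing the same Sylow `p`-subgroup `S = Pa ∘ Pb` coincide -/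
theorem eq_of_isX3 (hG : IsMinSimpleOddOrder G) (hU : UniqHyp G) (h44 : H1444.{u})
    (h16 : Hyp1416 G) {M H : Subgroup G} (hM : IsCoatom M) (hH : IsCoatom H) (hpM : p ∈ sigma M)
    (hpH : p ∈ sigma H) {S Pa : Subgroup G} (hS : IsSylowIn p S ⊤) (hSM : S ≤ M) (hSH : S ≤ H)
    (hPaS : Pa ≤ S) (hX : IsX3 p Pa) (hZS : zOf Pa ≤ centralizer (S : Set G)) : M = H := by
  have hpp := hp.out
  have hC := centHyp_of_hyp1416 h16
  have hNZM := normalizer_zOf_le hG hU h44 hC hM hpM hS hSM hPaS hX hZS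
  have hNZH := normalizer_zOf_le hG hU h44 hC hH hpH hS hSH hPaS hX hZS
  have hSp := hS.isPGroup
  have hnc : ¬ IsCyclic S := not_isCyclic_of_isX3 hPaS hX
  have hNSM : normalizer (S : Set G) ≤ M := normalizer_le_of_not_isCyclic hG hU hC hM hpM hSp hSM hnc
  have hNSH : normalizer (S : Set G) ≤ H := normalizer_le_of_not_isCyclic hG hU hC hH hpH hSp hSH hnc
  -- the elementary abelian subgroup `A`
  obtain ⟨a, ha, b, hb, hab⟩ := hX.nc
  have haZ : a ∉ zOf Pa := fun h => hab (mem_zOf_comm h hb).symm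
  obtain ⟨A, hAP, hZA, -, hAe, hA2, -⟩ := hX.exists_elemAb ha haZ
  have hAM : A ≤ M := (hAP.trans hPaS).trans hSM
  have hAH : A ≤ H := (hAP.trans hPaS).trans hSH
  have keyM := (h16 M hM p A hAM hAe hA2).2
  have keyH := (h16 H hH p A hAH hAe hA2).2
  by_cases hM' : ∃ A₀ : Subgroup G, A₀ ≤ A ∧ Nat.card A₀ = p ∧ normalizer (A₀ : Set G) ≤ M ∧
      ∀ L : Subgroup G, IsCoatom L → normalizer (A₀ : Set G) ≤ L → L = M
  · by_cases hH' : ∃ A₁ : Subgroup G, A₁ ≤ A ∧ Nat.card A₁ = p ∧ normalizer (A₁ : Set G) ≤ H ∧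
        ∀ L : Subgroup G, IsCoatom L → normalizer (A₁ : Set G) ≤ L → L = H
    · obtain ⟨A₀, h0A, h0, h0N, h0U⟩ := hM'
      obtain ⟨A₁, h1A, h1, h1N, h1U⟩ := hH'
      by_cases h0Z : A₀ = zOf Pa
      · rw [h0Z] at h0U
        exact (h0U H hH hNZH).symm
      by_cases h1Z : A₁ = zOf Pa
      · rw [h1Z] at h1U
        exact h1U M hM hNZM
      obtain ⟨y, hy, hyA⟩ := hX.exists_conj_line hAP hZA hA2 h0A h1A h0 h1 h0Z h1Z
      have hyM : y ∈ M := hSM (hPaS hy)
      apply h1U M hM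
      rw [← hyA, normalizer_cj]
      have := cj_mono (k := y) h0N
      rwa [cj_self_of_mem hyM] at this
    · have h1 := keyH (fun A₀ h1 h2 h3 => hH' ⟨A₀, h1, h2, h3.1, h3.2⟩)
      have h2 : H ≤ normalizer (S : Set G) :=
        le_normalizer_of_nilpotent_sigmaCore hG hU h44 hH hpH h1.2.2 (hS.mono hSH le_top)
      exact (coatom_eq_of_le hH hM (h2.trans hNSM)).symm
  · have h1 := keyM (fun A₀ h1 h2 h3 => hM' ⟨A₀, h1, h2, h3.1, h3.2⟩)
    have h2 : M ≤ normalizer (S : Set G) :=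
      le_normalizer_of_nilpotent_sigmaCore hG hU h44 hM hpM h1.2.2 (hS.mono hSM le_top)
    exact coatom_eq_of_le hM hH (h2.trans hNSH)

omit [Finite G] hp in
theorem pRankLE_mono {q k l : ℕ} (hq : q.Prime) (hkl : k ≤ l) {X : Type*} [Group X] (h : PRankLE q k X) :
    PRankLE q l X := by
  intro B hBc hBe
  exact (h B hBc hBe).trans (Nat.pow_le_pow_right hq.pos hkl)

/-- two maximal subgroups containing the same nonabelian `p`-subgroup coincide -/
theorem eq_of_not_comm_le (hG : IsMinSimpleOddOrder G) (hU : UniqHyp G) (h44 : H1444.{u})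
    (h12 : Hyp1412 G) (h16 : Hyp1416 G) (h17 : Hyp1417 G) {M H : Subgroup G} (hM : IsCoatom M)
    (hH : IsCoatom H) {P : Subgroup G} (hP : IsPGroup p P) (hPna : ¬ IsMulCommutative P)
    (hPM : P ≤ M) (hPH : P ≤ H) : M = H := by
  have hpp := hp.out
  have hC := centHyp_of_hyp1416 h16
  have hpM := mem_sigma_of_not_comm hG hU h17 hM hP hPM hPna
  have hpH := mem_sigma_of_not_comm hG hU h17 hH hP hPH hPna
  have hnc := not_isCyclic_of_not_comm hPna
  obtain ⟨S, hS, hPS, hSMH⟩ := exists_sylow_le_inf hG hU hC hM hH hpM hpH hP hPM hPH hnc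
  have hSM : S ≤ M := hSMH.trans inf_le_left
  have hSH : S ≤ H := hSMH.trans inf_le_right
  have hSna : ¬ IsMulCommutative S := by
    intro hc
    apply hPna
    refine ⟨⟨fun a b => Subtype.ext ?_⟩⟩
    have h1 := congrArg Subtype.val (hc.is_comm.comm (⟨a.1, hPS a.2⟩ : ↥S) ⟨b.1, hPS b.2⟩)
    exact h1
  by_cases hr : PRankLE p 2 ↥S
  · obtain ⟨S₀, hS₀⟩ := Cfsg.Agent.Lib.Helper49_Alpha.exists_sylow_eq_of_isSylowIn_top hS
    have hr' : PRankLE p 2 ↥(S₀ : Subgroup G) := by rw [hS₀]; exact hr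
    rcases h12 p S₀ hr' with hc | ⟨P₁, P₂, hsup, hcomm, hna, hcard, hexp, hcyc, hcl⟩
    · rw [hS₀] at hc
      exact absurd hc hSna
    · rw [hS₀] at hsup
      have hP₁S : P₁ ≤ S := hsup ▸ le_sup_left
      have hP₂S : P₂ ≤ S := hsup ▸ le_sup_right
      have hX : IsX3 p P₁ := by
        refine ⟨hcard, ?_, ?_⟩
        · intro x hx
          have h1 : (⟨x, hx⟩ : ↥P₁) ^ p = 1 := by
            rw [← hexp]
            exact Monoid.pow_exponent_eq_one _
          exact congrArg Subtype.val h1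
        · by_contra hcon
          push Not at hcon
          apply hna
          exact ⟨⟨fun a b => Subtype.ext (hcon a.1 a.2 b.1 b.2)⟩⟩
      have hZS : zOf P₁ ≤ centralizer (S : Set G) := by
        rw [Subgroup.le_centralizer_iff, ← hsup]
        apply sup_le
        · exact le_centralizer_zOf P₁
        · -- `P₂` is abelian and `Z(P₁) ≤ P₂`
          have hZP₂ : zOf P₁ ≤ P₂ := by
            show P₁ ⊓ centralizer (P₁ : Set G) ≤ P₂
            rw [← hcl, Subgroup.closure_le]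
            intro x hx
            exact hx.1
          have hc2 : IsMulCommutative ↥P₂ := IsCyclic.isMulCommutative
          intro x hx
          rw [Subgroup.mem_centralizer_iff]
          intro z hz
          exact congrArg Subtype.val (hc2.is_comm.comm (⟨z, hZP₂ hz⟩ : ↥P₂) ⟨x, hx⟩)
      exact eq_of_isX3 hG hU h44 h16 hM hH hpM hpH hS hSM hSH hP₁S hX hZS
  · have hStop : S ≠ ⊤ := ne_top_of_isPGroup hG hpp hS.isPGroup
    have h1 : ¬ RankLE 1 ↥S := fun h => hr (pRankLE_mono hpp (by norm_num) (h p hpp))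
    have h2 : ¬ RankLE 2 ↥S := fun h => hr (h p hpp)
    have hu := hU S hStop h1 (Or.inl h2)
    exact hu.unique ⟨hM, hSM⟩ ⟨hH, hSH⟩

/-- **Bender–Glauberman** (statement S1422): a nonabelian `p`-subgroup lies in a unique maximal subgroup. -/
theorem inUniqueMaximal_of_not_comm (hG : IsMinSimpleOddOrder G) (hU : UniqHyp G) (h44 : H1444.{u})
    (h12 : Hyp1412 G) (h16 : Hyp1416 G) (h17 : Hyp1417 G) (P : Subgroup G) (hP : IsPGroup p P)
    (hPna : ¬ IsMulCommutative P) : InUniqueMaximal P := by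
  have hpp := hp.out
  have hPtop : P ≠ ⊤ := ne_top_of_isPGroup hG hpp hP
  obtain ⟨M, hM, hPM⟩ := (eq_top_or_exists_le_coatom P).resolve_left hPtop
  refine ⟨M, ⟨hM, hPM⟩, ?_⟩
  rintro H ⟨hH, hPH⟩
  exact eq_of_not_comm_le hG hU h44 h12 h16 h17 hH hM hP hPna hPH hPM

end Cfsg.Agent.Lib.Helper73_BG12b
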