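import Cfsg.Agent.Lib.Helper31_BG13b
import Cfsg.Agent.Lib.Helper2_Coprime
import Cfsg.Agent.Lib.Helper22_Uniq
import Cfsg.Agent.S1422
import Cfsg.Agent.S1424

/-!
# Bender–Glauberman Theorem 13.11, part (F2a) (helper72)

`M` a maximal subgroup, `E` a complement of `M_σ`, `X ≤ E` of prime order `r ∈ τ₃(M)`, `P ≤ E` of prime
order `p ∈ τ₁(M)`.  Then `P` centralizes `C_{M_σ}(X)` (`tau1_centralizes`).

Hypotheses (as Props, to be discharged by their owners):
* `Tau13Reg G` : B-G 13.10(b) at every maximal subgroup (helper73's `tau13_regular`);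
* `SigmaPart G` : B-G 13.9, the second conjunct of the frozen row S1378.

Proof (helper79, msg 1665): let `D = C_{M_σ}(X)` and suppose `[D, P] ≠ 1`.  Take `H` maximal over `N_G(X)`.
If `r ∈ τ₂(H)`, replace `H` by a maximal subgroup `L` over `N_G(A)`, `A` the normal `E_{r²}` of a complement
of `H_σ` containing `D X P`; then `r ∈ σ(L)`.  So we have a maximal subgroup `L ≥ D X P` with `r ∈ σ(L)`
(`core`).  By 13.1(a) `M_σ ∩ L = D` and `p ∈ τ₁(L)`.  Choose a `P`-invariant `q`-subgroup `Q ≤ D` not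
centralized by `P`; it is abelian (S1422), `Q₀ = [Q, P] ≠ 1` has `C_{Q₀}(P) = 1`, and `q ∉ σ(L)` (13.9),
`q ∉ τ₁(L)`.  `q ∈ τ₃(L)` contradicts 13.10(b) for `L` (`X ≤ L_σ` centralizes `Q₀`); `q ∈ τ₂(L)` contradicts
S1417(d) through S1418(c) and S1424.
-/

set_option autoImplicit false

namespace Cfsg.Agent.Lib.Helper72_BG1311a

open Subgroup Cfsg Cfsg.Agent.Lib.Helper22_Radical Cfsg.Agent.Lib.Helper22_BGTrans
  Cfsg.Agent.Lib.Helper84_RelSylow Cfsg.Agent.Lib.Helper49_Sigma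
  Cfsg.Agent.Lib.Helper24_CoprimeHall Cfsg.Agent.Lib.Helper24_CoprimeAction
  Cfsg.Agent.Lib.Helper76_BG13a Cfsg.Agent.Lib.Helper76_BG13b Cfsg.Agent.Lib.Helper76_BG13c
  Cfsg.Agent.Lib.Helper31_BG131 Cfsg.Agent.Lib.Helper31_BG13b

universe u

/-- B-G 13.10(b) at every maximal subgroup, as a hypothesis. -/
def Tau13Reg (G : Type u) [Group G] : Prop :=
  ∀ (M E : Subgroup G), IsCoatom M → IsComplIn E (sigmaCore M) M →
  ∀ (p r : ℕ), p ∈ tau1 M → ∀ (P R1 : Subgroup G), P ≤ E → Nat.card P = p → r ∈ tau3 M →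
    R1 ≤ E → Nat.card R1 = r → ¬ P ≤ centralizer (R1 : Set G) →
    sigmaCore M ⊓ centralizer (R1 : Set G) = ⊥

/-- B-G 13.9 (second conjunct of the frozen row S1378), as a hypothesis. -/
def SigmaPart (G : Type u) [Group G] : Prop :=
  ∀ M N : Subgroup G, IsCoatom M → IsCoatom N → (sigma M ∩ sigma N).Nonempty →
    ∃ g : G, N = M.map (MulAut.conj g).toMonoidHom

variable {G : Type u} [Group G] [Finite G]

omit [Finite G] in
/-- a subgroup of prime order is not trivial -/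
theorem ne_bot_of_card_prime {X : Subgroup G} {r : ℕ} (hr : r.Prime) (hX : Nat.card X = r) : X ≠ ⊥ := by
  intro h
  rw [h, Subgroup.card_bot] at hX
  exact hr.one_lt.ne hX

/-- Cauchy inside a subgroup -/
theorem exists_le_card_eq_prime {Q : Subgroup G} {q : ℕ} [Fact q.Prime] (hd : q ∣ Nat.card Q) :
    ∃ R : Subgroup G, R ≤ Q ∧ Nat.card R = q := by
  obtain ⟨x, hx⟩ := exists_prime_orderOf_dvd_card' (G := ↥Q) q hd
  refine ⟨zpowers (x : G), zpowers_le.mpr x.2, ?_⟩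
  rw [Nat.card_zpowers, Subgroup.orderOf_coe, hx]

/-- **Core of (F2a)**: there is no maximal subgroup `L` containing `C_{M_σ}(X) X P` with `r ∈ σ(L)` when `P`
does not centralize `C_{M_σ}(X)`. -/
theorem core (hG : IsMinSimpleOddOrder G) (hReg : Tau13Reg G) (hPart : SigmaPart G)
    {M E : Subgroup G} (hM : IsCoatom M) (hE : IsComplIn E (sigmaCore M) M)
    {r : ℕ} (hr : r ∈ tau3 M) {X : Subgroup G} (hXE : X ≤ E) (hX : Nat.card X = r)
    {p : ℕ} (hp : p ∈ tau1 M) {P : Subgroup G} (hPE : P ≤ E) (hP : Nat.card P = p)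
    (hnot : ¬ sigmaCore M ⊓ centralizer (X : Set G) ≤ centralizer (P : Set G))
    {L : Subgroup G} (hL : IsCoatom L) (hXL : X ≤ L) (hPL : P ≤ L)
    (hDL : sigmaCore M ⊓ centralizer (X : Set G) ≤ L) (hrL : r ∈ sigma L) : False := by
  have hrp : r.Prime := hr.1
  have hpp : p.Prime := hp.1
  have : Fact r.Prime := ⟨hrp⟩
  have : Fact p.Prime := ⟨hpp⟩
  have hU := Cfsg.Agent.Lib.Helper49_SigmaDisjoint.uniqHyp hG
  have hXr : IsPGroup r X := IsPGroup.of_card (n := 1) (by rw [hX, pow_one])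
  have hPp : IsPGroup p P := IsPGroup.of_card (n := 1) (by rw [hP, pow_one])
  have hX1 : X ≠ ⊥ := ne_bot_of_card_prime hrp hX
  have hXM : X ≤ M := hXE.trans hE.1
  have hPM : P ≤ M := hPE.trans hE.1
  have hsolvL := isSolvable_of_isCoatom hG hL
  -- `L` is not conjugate to `M`
  have hnc : ∀ g : G, M ≠ cj g L := fun g hg => hr.2.1 (hg ▸ mem_sigma_cj hrL g)
  have hLM : L ≠ M := by
    rintro rfl
    exact hr.2.1 hrL
  -- `M_σ ∩ L = D`
  have hDeq : sigmaCore M ⊓ L = sigmaCore M ⊓ centralizer (X : Set G) := by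
    apply le_antisymm
    · refine le_inf inf_le_left ?_
      rw [Subgroup.le_centralizer_iff]
      exact le_centralizer_of_not_tau1 hG hM hL hnc hr.2.1 (fun h => h.2.1 hrL) hXM hXL hXr
    · exact le_inf inf_le_left hDL
  -- `p ∈ τ₁(L)`
  have hpL : p ∈ tau1 L := by
    by_contra h
    have h1 := le_centralizer_of_not_tau1 hG hM hL hnc hp.2.1 h hPM hPL hPp
    rw [hDeq] at h1
    exact hnot (Subgroup.le_centralizer_iff.mp h1)
  -- `P` acts coprimely on `D`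
  have hPN : P ≤ normalizer ((sigmaCore M ⊓ centralizer (X : Set G) : Subgroup G) : Set G) := by
    rw [← hDeq]
    intro s hs
    exact inf_normalizer_le_normalizer_inf ⟨le_normalizer_sigmaCore' M (hPM hs), le_normalizer (hPL hs)⟩
  have hpD : ¬ p ∣ Nat.card ↥(sigmaCore M ⊓ centralizer (X : Set G)) :=
    fun hd => hp.2.1 (mem_sigma_of_dvd_card_le_sigmaCore inf_le_left hpp hd)
  have hcop : (Nat.card P).Coprime (Nat.card ↥(sigmaCore M ⊓ centralizer (X : Set G))) := by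
    rw [hP, Nat.Prime.coprime_iff_not_dvd hpp]
    exact hpD
  have hDM : sigmaCore M ⊓ centralizer (X : Set G) ≤ M :=
    inf_le_left.trans (Subgroup.map_subtype_le _)
  -- a `P`-invariant `q`-subgroup `Q` of `D` not centralized by `P`
  obtain ⟨q, hq, Q, hQD, hQq, hPQ, hQc⟩ : ∃ q : ℕ, q.Prime ∧ ∃ Q : Subgroup G,
      Q ≤ sigmaCore M ⊓ centralizer (X : Set G) ∧ IsPGroup q Q ∧ P ≤ normalizer (Q : Set G) ∧
      ¬ Q ≤ centralizer (P : Set G) := by
    by_contra hcon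
    apply hnot
    apply Cfsg.Agent.Lib.Helper22_Uniq.le_of_forall_sylow
    intro q hq
    have : Fact q.Prime := ⟨hq⟩
    obtain ⟨Q, hQ⟩ := exists_invariant_sylow P _ hPN hcop (Or.inr (isSolvable_of_le hG hM hDM)) q
    refine ⟨Q, ?_⟩
    by_contra hQc
    exact hcon ⟨q, hq, sylowImage Q, Subgroup.map_subtype_le _, Q.isPGroup'.map _, hQ, hQc⟩
  have : Fact q.Prime := ⟨hq⟩
  have hQM : Q ≤ M := hQD.trans hDM
  have hQL : Q ≤ L := hQD.trans hDL
  have hQX : Q ≤ centralizer (X : Set G) := hQD.trans inf_le_right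
  -- `Q` is abelian (S1422)
  have hQab : IsMulCommutative ↥Q := by
    by_contra hna
    obtain ⟨T, -, hT⟩ := Cfsg.Agent.S1422.result hG q Q hQq hna
    exact hLM ((hT L ⟨hL, hQL⟩).trans (hT M ⟨hM, hQM⟩).symm)
  have hcopQ : (Nat.card P).Coprime (Nat.card Q) :=
    Nat.Coprime.coprime_dvd_right (Subgroup.card_dvd_of_le hQD) hcop
  -- `Q₀ = [Q, P]`
  have hQ0Q : ⁅Q, P⁆ ≤ Q := commutator_le_of_le_normalizer Q P hPQ
  have hQ0ne : ⁅Q, P⁆ ≠ ⊥ := fun h => hQc (Subgroup.commutator_eq_bot_iff_le_centralizer.mp h)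
  have hQ0fix : ⁅Q, P⁆ ⊓ centralizer (P : Set G) = ⊥ := by
    have h1 := Cfsg.Agent.Lib.Helper2_Coprime.commutator_inf_centralizer_eq_bot Q P hPQ hcopQ
    rw [eq_bot_iff, ← h1]
    exact le_inf inf_le_left (le_inf (inf_le_left.trans hQ0Q) inf_le_right)
  have hQ0q : IsPGroup q ↥⁅Q, P⁆ := hQq.to_le hQ0Q
  have hQ0d : q ∣ Nat.card ↥⁅Q, P⁆ := dvd_card_of_isPGroup hQ0q hQ0ne
  have hQne : Q ≠ ⊥ := fun h => hQ0ne (eq_bot_iff.mpr (h ▸ hQ0Q))
  -- `q ∈ σ(M)`, `q ∉ σ(L)`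
  have hqM : q ∈ sigma M :=
    mem_sigma_of_dvd_card_le_sigmaCore (hQD.trans inf_le_left) hq (dvd_card_of_isPGroup hQq hQne)
  have hqL : q ∉ sigma L := by
    intro hqL
    obtain ⟨g, hg⟩ := hPart M L hM hL ⟨q, hqM, hqL⟩
    apply hnc g⁻¹
    rw [hg]
    exact (cj_inv_cj g M).symm
  -- `q` divides `|L'|`
  have hqd : q ∣ Nat.card ↥⁅L, L⁆ :=
    hQ0d.trans (Subgroup.card_dvd_of_le (Subgroup.commutator_mono hQL hPL))
  have hr2 := Cfsg.Agent.Lib.Helper23_SigmaHall.pRankLE_of_not_mem_sigma hG hU hL hq hqL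
  -- a subgroup `R1` of order `q` of `Q₀`, not centralized by `P`, centralized by `X`
  obtain ⟨R1, hR1Q0, hR1c⟩ := exists_le_card_eq_prime hQ0d
  have hR1ne : R1 ≠ ⊥ := ne_bot_of_card_prime hq hR1c
  have hR1q : IsPGroup q R1 := IsPGroup.of_card (n := 1) (by rw [hR1c, pow_one])
  have hR1Q : R1 ≤ Q := hR1Q0.trans hQ0Q
  have hR1P : ¬ P ≤ centralizer (R1 : Set G) := by
    intro h
    apply hR1ne
    rw [eq_bot_iff, ← hQ0fix]
    exact le_inf hR1Q0 (Subgroup.le_centralizer_iff.mp h)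
  have hXR1 : X ≤ centralizer (R1 : Set G) := Subgroup.le_centralizer_iff.mp (hR1Q.trans hQX)
  have hXσ : X ≤ sigmaCore L := le_sigmaCore_of_isPGroup' hG hL hrL hXr hXL
  by_cases hr1 : PRankLE q 1 ↥L
  · -- `q ∈ τ₃(L)`: 13.10(b) for `L`
    have hq3 : q ∈ tau3 L := ⟨hq, hqL, hqd, hr1⟩
    have hdisj : Q ⊓ P = ⊥ := (Subgroup.disjoint_of_coprime_natCard hcopQ.symm).eq_bot
    have hKL : Q ⊔ P ≤ L := sup_le hQL hPL
    have hKσ : ∀ t : ℕ, t.Prime → t ∣ Nat.card ↥(Q ⊔ P) → t ∉ sigma L := by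
      intro t ht hd
      rcases prime_dvd_card_sup hPQ hdisj ht hd with h1 | h1
      · have := primes_of_isPGroup hq hQq t ht h1
        rw [Set.mem_singleton_iff] at this
        rw [this]; exact hqL
      · have := primes_of_isPGroup hpp hPp t ht h1
        rw [Set.mem_singleton_iff] at this
        rw [this]; exact hpL.2.1
    obtain ⟨E', hE', hKE'⟩ := exists_compl_ge hsolvL (sigma_hall hG hL) hKL hKσ
    have h0 := hReg L E' hL hE' p q hpL P R1 (le_sup_right.trans hKE') hP hq3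
      (hR1Q.trans (le_sup_left.trans hKE')) hR1c hR1P
    apply hX1
    rw [eq_bot_iff, ← h0]
    exact le_inf hXσ hXR1
  · -- `q ∈ τ₂(L)`
    have hq2 : q ∈ tau2 L := ⟨hq, hqL, hr2, hr1⟩
    have hR1L : R1 ≤ L := hR1Q.trans hQL
    have hR1M : R1 ≤ M := hR1Q.trans hQM
    obtain ⟨E', hE', hR1E'⟩ := exists_compl_ge hsolvL (sigma_hall hG hL) hR1L (by
      intro t ht hd
      have := primes_of_isPGroup hq hR1q t ht hd
      rw [Set.mem_singleton_iff] at this
      rw [this]; exact hqL)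
    obtain ⟨A, hAE', hAe, hA2⟩ := exists_elemAb_le_compl hG hL hE' hq2
    obtain ⟨⟨-, hall⟩, -, hc⟩ := Cfsg.Agent.S1418.result hG L hL E' hE' q hq2 A ⟨hAE', hAe, hA2⟩
    have hR1A : R1 ≤ A := hall R1 hR1E' hR1c
    have hne : sigmaCore L ⊓ centralizer (R1 : Set G) ≠ ⊥ := by
      intro h
      apply hX1
      rw [eq_bot_iff, ← h]
      exact le_inf hXσ hXR1
    obtain ⟨-, huniq⟩ := hc R1 hR1A hR1c hne
    -- `N_G(R1) ≤ L`
    have hR1top : R1 ≠ ⊤ := by
      intro h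
      apply hL.1
      rw [eq_top_iff, ← h]
      exact hR1L
    obtain ⟨L', hL', hNL'⟩ :=
      (eq_top_or_exists_le_coatom _).resolve_left (normalizer_ne_top hG hR1ne hR1top)
    have hL'L : L' = L := huniq L' hL' ((Subgroup.centralizer_le_normalizer (s := (R1 : Set G))).trans hNL')
    rw [hL'L] at hNL'
    -- a Sylow `q`-subgroup of `M ∩ L` over `R1` is Sylow in `L` (S1424)
    have hR1ML : R1 ≤ M ⊓ L := le_inf hR1M hR1L
    have hR1q' : IsPGroup q (R1.subgroupOf (M ⊓ L)) :=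
      hR1q.comap_of_injective (M ⊓ L).subtype (M ⊓ L).subtype_injective
    obtain ⟨S, hS⟩ := hR1q'.exists_le_sylow
    have hR1S : R1 ≤ (S : Subgroup ↥(M ⊓ L)).map (M ⊓ L).subtype := by
      intro x hx
      exact ⟨⟨x, hR1ML hx⟩, hS (by rw [Subgroup.mem_subgroupOf]; exact hx), rfl⟩
    obtain ⟨-, -, hrel⟩ := Cfsg.Agent.S1424.result hG M hM q hqM R1 hR1q hR1ne hR1M L hL hLM hNL' S hR1S
    have hTML : (S : Subgroup ↥(M ⊓ L)).map (M ⊓ L).subtype ≤ M ⊓ L := Subgroup.map_subtype_le _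
    have hTq : IsPGroup q ↥((S : Subgroup ↥(M ⊓ L)).map (M ⊓ L).subtype) := S.isPGroup'.map _
    have hTsyl : IsSylowIn q ((S : Subgroup ↥(M ⊓ L)).map (M ⊓ L).subtype) L :=
      ⟨hTML.trans inf_le_right, hTq, hrel⟩
    have hTD : (S : Subgroup ↥(M ⊓ L)).map (M ⊓ L).subtype ≤ centralizer (X : Set G) := by
      have h1 : (S : Subgroup ↥(M ⊓ L)).map (M ⊓ L).subtype ≤ sigmaCore M ⊓ L :=
        le_inf (le_sigmaCore_of_isPGroup' hG hM hqM hTq (hTML.trans inf_le_left))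
          (hTML.trans inf_le_right)
      rw [hDeq] at h1
      exact h1.trans inf_le_right
    -- a conjugate of `A` inside it
    obtain ⟨g, -, hg⟩ := hTsyl.exists_conj_le (hAE'.trans hE'.1) (isPGroup_of_elemAb hAe)
    have hA'T : cj g A ≤ (S : Subgroup ↥(M ⊓ L)).map (M ⊓ L).subtype := by
      intro y hy
      rw [mem_cj] at hy
      have := hg _ hy
      simpa [mul_assoc] using this
    have h17 := (Cfsg.Agent.S1417.result hG L hL q hq2 (cj g A)
      ⟨hA'T.trans (hTML.trans inf_le_right), isElementaryAbelian_cj hAe g,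
        by rw [card_cj]; exact hA2⟩).2.2.2.1
    apply hX1
    rw [eq_bot_iff, ← h17]
    exact le_inf hXσ (Subgroup.le_centralizer_iff.mp (hA'T.trans hTD))

/-- **Bender–Glauberman 13.11, (F2a)**: a subgroup `P ≤ E` of prime order `p ∈ τ₁(M)` centralizes
`C_{M_σ}(X)` for every subgroup `X ≤ E` of prime order `r ∈ τ₃(M)`. -/
theorem tau1_centralizes (hG : IsMinSimpleOddOrder G) (hReg : Tau13Reg G) (hPart : SigmaPart G)
    {M E : Subgroup G} (hM : IsCoatom M) (hE : IsComplIn E (sigmaCore M) M)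
    {r : ℕ} (hr : r ∈ tau3 M) {X : Subgroup G} (hXE : X ≤ E) (hX : Nat.card X = r)
    {p : ℕ} (hp : p ∈ tau1 M) {P : Subgroup G} (hPE : P ≤ E) (hP : Nat.card P = p) :
    sigmaCore M ⊓ centralizer (X : Set G) ≤ centralizer (P : Set G) := by
  by_contra hnot
  have hrp : r.Prime := hr.1
  have hpp : p.Prime := hp.1
  have : Fact r.Prime := ⟨hrp⟩
  have : Fact p.Prime := ⟨hpp⟩
  have hU := Cfsg.Agent.Lib.Helper49_SigmaDisjoint.uniqHyp hG
  have hXr : IsPGroup r X := IsPGroup.of_card (n := 1) (by rw [hX, pow_one])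
  have hPp : IsPGroup p P := IsPGroup.of_card (n := 1) (by rw [hP, pow_one])
  have hX1 : X ≠ ⊥ := ne_bot_of_card_prime hrp hX
  have hXM : X ≤ M := hXE.trans hE.1
  have hPM : P ≤ M := hPE.trans hE.1
  obtain ⟨H, hH, hNH, hEH, hne⟩ := exists_coatom_normalizer_of_tau3 hG hM hE hr hXE hX
  have hXH : X ≤ H := hXE.trans hEH
  have hPH : P ≤ H := hPE.trans hEH
  have hDH : sigmaCore M ⊓ centralizer (X : Set G) ≤ H :=
    inf_le_right.trans ((Subgroup.centralizer_le_normalizer (s := (X : Set G))).trans hNH)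
  rcases mem_sigma_or_tau2 hG hH hXr hX1 hNH with hσ | hτ
  · exact core hG hReg hPart hM hE hr hXE hX hp hPE hP hnot hH hXH hPH hDH hσ
  -- `r ∈ τ₂(H)`
  have hsolv := isSolvable_of_isCoatom hG hH
  have hnc := not_conj_of_normalizer_le hG hH hr.2.1 hr.2.2.2 hXr hX1 hNH
  obtain ⟨A₀, hA₀H, hA₀e, hA₀2⟩ :=
    Cfsg.Agent.Lib.Helper49_Alpha3.exists_elemAb_sq hτ.2.2.1 hτ.2.2.2
  have hnil := (Cfsg.Agent.S1417.result hG H hH r hτ A₀ ⟨hA₀H, hA₀e, hA₀2⟩).1
  have hDeq := sigmaCore_inf_eq_of_tau3 hG hM hE hH hr hXE hX hNH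
  -- `p ∈ τ₁(H)`
  have hpH : p ∈ tau1 H := by
    by_contra h
    have h1 := le_centralizer_of_not_tau1 hG hM hH hnc hp.2.1 h hPM hPH hPp
    rw [hDeq] at h1
    exact hnot (Subgroup.le_centralizer_iff.mp h1)
  -- `T = X P` and `K = D T` are `σ(H)'`-groups
  have hEX : E ≤ normalizer (X : Set G) := normal_of_tau3 hG hM hE hr hXE hX
  have hpr : p ≠ r := by
    rintro rfl
    exact hp.2.2.2.1 hr.2.2.1
  have hcopXP : (Nat.card X).Coprime (Nat.card P) := by
    rw [hX, hP]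
    exact (Nat.coprime_primes hrp hpp).mpr (Ne.symm hpr)
  have hXP : X ⊓ P = ⊥ := (Subgroup.disjoint_of_coprime_natCard hcopXP).eq_bot
  have hTE : X ⊔ P ≤ E := sup_le hXE hPE
  have hTprimes : ∀ t : ℕ, t.Prime → t ∣ Nat.card ↥(X ⊔ P) → t = r ∨ t = p := by
    intro t ht hd
    rcases prime_dvd_card_sup (hPE.trans hEX) hXP ht hd with h1 | h1
    · left
      rw [hX] at h1
      exact (Nat.prime_dvd_prime_iff_eq ht hrp).mp h1
    · right
      rw [hP] at h1
      exact (Nat.prime_dvd_prime_iff_eq ht hpp).mp h1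
  have hTN : X ⊔ P ≤ normalizer ((sigmaCore M ⊓ centralizer (X : Set G) : Subgroup G) : Set G) := by
    rw [← hDeq]
    intro s hs
    exact inf_normalizer_le_normalizer_inf
      ⟨le_normalizer_sigmaCore' M (hE.1 (hTE hs)), le_normalizer (hEH (hTE hs))⟩
  have hDT : (sigmaCore M ⊓ centralizer (X : Set G)) ⊓ (X ⊔ P) = ⊥ := by
    rw [eq_bot_iff, ← hE.2.2.1]
    exact le_inf (inf_le_right.trans hTE) (inf_le_left.trans inf_le_left)
  have hKH : (sigmaCore M ⊓ centralizer (X : Set G)) ⊔ (X ⊔ P) ≤ H :=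
    sup_le hDH (sup_le hXH hPH)
  have hKσ : ∀ t : ℕ, t.Prime →
      t ∣ Nat.card ↥((sigmaCore M ⊓ centralizer (X : Set G)) ⊔ (X ⊔ P)) → t ∉ sigma H := by
    intro t ht hd htH
    rcases prime_dvd_card_sup hTN hDT ht hd with h1 | h1
    · have htM : t ∈ sigma M := mem_sigma_of_dvd_card_le_sigmaCore inf_le_left ht h1
      exact Cfsg.Agent.Lib.Helper49_SigmaDisjoint.sigma_inter_sigma hG hH hM hnc hnil
        (sigma_hall hG hH) htH htM
    · rcases hTprimes t ht h1 with rfl | rfl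
      · exact hτ.2.1 htH
      · exact hpH.2.1 htH
  obtain ⟨EH, hEH', hKEH⟩ := exists_compl_ge hsolv (sigma_hall hG hH) hKH hKσ
  obtain ⟨A, hAE, hAe, hA2⟩ := exists_elemAb_le_compl hG hH hEH' hτ
  obtain ⟨⟨hEN, -⟩, ⟨-, -, hNH'⟩, -⟩ :=
    Cfsg.Agent.S1418.result hG H hH EH hEH' r hτ A ⟨hAE, hAe, hA2⟩
  have hA1 : A ≠ ⊥ := by
    intro h
    rw [h, Subgroup.card_bot] at hA2
    have := hrp.one_lt
    nlinarith
  have hAH : A ≤ H := hAE.trans hEH'.1
  have hAtop : A ≠ ⊤ := by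
    intro h
    apply hH.1
    rw [eq_top_iff, ← h]
    exact hAH
  obtain ⟨L, hL, hNL⟩ := (eq_top_or_exists_le_coatom _).resolve_left (normalizer_ne_top hG hA1 hAtop)
  have hAL : A ≤ L := le_normalizer.trans hNL
  -- `r ∈ σ(L)`
  have hrL : r ∈ sigma L := by
    by_contra hrL
    have hτL : r ∈ tau2 L :=
      ⟨hrp, hrL, Cfsg.Agent.Lib.Helper23_SigmaHall.pRankLE_of_not_mem_sigma hG hU hL hrp hrL,
        not_pRankLE_one_of_elemAb hrp hAL hAe hA2⟩
    have hsolvL := isSolvable_of_isCoatom hG hL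
    obtain ⟨E', hE', hAE'⟩ := exists_compl_ge hsolvL (sigma_hall hG hL) hAL (by
      intro q hq hd
      rw [prime_eq_of_dvd_card_sq hrp hA2 hq hd]
      exact hrL)
    obtain ⟨-, ⟨-, -, hNL'⟩, -⟩ :=
      Cfsg.Agent.S1418.result hG L hL E' hE' r hτL A ⟨hAE', hAe, hA2⟩
    exact hNL' hNL
  have hKL : (sigmaCore M ⊓ centralizer (X : Set G)) ⊔ (X ⊔ P) ≤ L := hKEH.trans (hEN.trans hNL)
  exact core hG hReg hPart hM hE hr hXE hX hp hPE hP hnot hL
    ((le_sup_left.trans le_sup_right).trans hKL) ((le_sup_right.trans le_sup_right).trans hKL)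
    (le_sup_left.trans hKL) hrL

end Cfsg.Agent.Lib.Helper72_BG1311a
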