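import Cfsg.Agent.Lib.Helper31_BG1311
import Cfsg.Agent.Lib.Helper72_BG1311a

/-!
# `F2` (B-G 13.11) from 13.4, 13.10(b) and the σ-partition 13.9 (helper31)

Glue of `Helper31_BG1311.f2_of` with helper72's `tau1_centralizes` ((F2a)).
-/

set_option autoImplicit false

namespace Cfsg.Agent.Lib.Helper31_BG1311b

open Cfsg

universe u

/-- **Bender–Glauberman 13.11**: `F2 G` from `H1428 G` (13.4), `Tau13Reg G` (13.10(b)) and `SigmaPart G`
(13.9 = second conjunct of the frozen row S1378). -/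
theorem f2_of_reg_part {G : Type u} [Group G] [Finite G] (hG : IsMinSimpleOddOrder G)
    (h28 : Cfsg.Agent.Lib.Helper23_BG13Hyp.H1428 G)
    (hReg : Cfsg.Agent.Lib.Helper72_BG1311a.Tau13Reg G)
    (hPart : Cfsg.Agent.Lib.Helper72_BG1311a.SigmaPart G) :
    Cfsg.Agent.Lib.Helper23_BG13Hyp.F2 G :=
  Cfsg.Agent.Lib.Helper31_BG1311.f2_of hG h28 hReg
    (fun _ _ hM hE _ hr _ hXE hX _ hp _ hPE hP =>
      Cfsg.Agent.Lib.Helper72_BG1311a.tau1_centralizes hG hReg hPart hM hE hr hXE hX hp hPE hP)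

end Cfsg.Agent.Lib.Helper31_BG1311b
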