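import Cfsg.Agent.Lib.Helper30_SigmaPartA

/-!
# A complement of `M_σ` inside the normalizer of a Sylow subgroup of `M_σ` (helper30)
-/

set_option autoImplicit false

namespace Cfsg.Agent.Lib.Helper30_SigmaPartB

open Subgroup Cfsg Cfsg.Agent.Lib.Helper22_Radical Cfsg.Agent.Lib.Helper84_RelSylow
  Cfsg.Agent.Lib.Helper30_SigmaPartA

variable {G : Type*} [Group G] [Finite G]

/-- Frattini argument at the level of `G` -/
theorem frattini {M P : Subgroup G} {p : ℕ} [Fact p.Prime] (hP : IsSylowIn p P (sigmaCore M)) {m : G}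
    (hm : m ∈ M) : ∃ s ∈ sigmaCore M, s * m ∈ normalizer (P : Set G) := by
  have hK : cj m P ≤ sigmaCore M := by
    intro x hx
    rw [mem_cj] at hx
    have h1 := conj_mem_sigmaCore hm (hP.le hx)
    have e : m * (m⁻¹ * x * m) * m⁻¹ = x := by group
    rwa [e] at h1
  have hKp : IsPGroup p ↥(cj m P) := hP.isPGroup.map _
  obtain ⟨g, hg, hgK⟩ := hP.exists_conj_le hK hKp
  refine ⟨g, hg, ?_⟩
  apply mem_normalizer_fintype
  intro n hn
  have h1 : m * n * m⁻¹ ∈ cj m P := by
    rw [mem_cj]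
    have e : m⁻¹ * (m * n * m⁻¹) * m = n := by group
    rw [e]
    exact hn
  have h2 := hgK _ h1
  have e : g * m * n * (g * m)⁻¹ = g * (m * n * m⁻¹) * g⁻¹ := by group
  rw [e]
  exact h2

omit [Finite G] in
theorem mem_normalizer_inf {A B : Subgroup G} {x : G} (hA : x ∈ normalizer (A : Set G))
    (hB : x ∈ normalizer (B : Set G)) : x ∈ normalizer ((A ⊓ B : Subgroup G) : Set G) := by
  rw [mem_normalizer_iff] at hA hB ⊢
  intro y
  rw [Subgroup.mem_inf, Subgroup.mem_inf, hA y, hB y]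

/-- a complement of `M_σ` in `M` normalizing a given Sylow subgroup of `M_σ` -/
theorem exists_compl_le_normalizer {M P : Subgroup G} {p : ℕ} [Fact p.Prime]
    (hHall : IsPiHallOf (sigma M) (sigmaCore M) M) (hP : IsSylowIn p P (sigmaCore M)) :
    ∃ E : Subgroup G, IsComplIn E (sigmaCore M) M ∧ E ≤ normalizer (P : Set G) := by
  set S := sigmaCore M with hS
  set Nn : Subgroup G := M ⊓ normalizer (P : Set G) with hNn
  have hNnM : Nn ≤ M := inf_le_left
  have hSM : S ≤ M := sigmaCore_le M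
  -- `S ∩ Nn` is a normal Hall subgroup of `Nn`
  have hDn : (S.subgroupOf Nn).Normal := by
    rw [Subgroup.normal_subgroupOf_iff_le_normalizer_inf]
    intro x hx
    exact mem_normalizer_inf (le_normalizer_sigmaCore M (hNnM hx)) (le_normalizer hx)
  -- index computation
  have hidx : (S.subgroupOf Nn).index ∣ S.relIndex M := by
    have h1 : S.relIndex Nn = (piCore (sigma M) ↥M).relIndex (Nn.subgroupOf M) := by
      have := Subgroup.relIndex_map_map_of_injective (piCore (sigma M) ↥M) (Nn.subgroupOf M)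
        M.subtype_injective
      rw [Subgroup.map_subgroupOf_eq_of_le hNnM] at this
      exact this
    show S.relIndex Nn ∣ _
    rw [h1, relIndex_sigmaCore]
    exact Subgroup.relIndex_dvd_index_of_normal _ _
  have hcard : Nat.card ↥(S.subgroupOf Nn) ∣ Nat.card ↥S := by
    rw [← Subgroup.inf_subgroupOf_right, Nat.card_congr (Subgroup.subgroupOfEquivOfLe (inf_le_right : S ⊓ Nn ≤ Nn)).toEquiv]
    exact Subgroup.card_dvd_of_le inf_le_left
  have hcop : (Nat.card ↥(S.subgroupOf Nn)).Coprime (S.subgroupOf Nn).index :=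
    Nat.Coprime.coprime_dvd_left hcard
      (Nat.Coprime.coprime_dvd_right hidx (coprime_card_sigmaCore_relIndex hHall))
  obtain ⟨E', hE'⟩ := Subgroup.exists_right_complement'_of_coprime hcop
  refine ⟨E'.map Nn.subtype, ⟨?_, hSM, ?_, ?_⟩, ?_⟩
  · exact (Subgroup.map_subtype_le _).trans hNnM
  · rw [eq_bot_iff]
    intro x hx
    rw [Subgroup.mem_inf] at hx
    obtain ⟨⟨y, hy, rfl⟩, hxS⟩ := hx
    have h1 : y ∈ S.subgroupOf Nn ⊓ E' :=
      Subgroup.mem_inf.mpr ⟨Subgroup.mem_subgroupOf.mpr hxS, hy⟩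
    rw [hE'.disjoint.eq_bot, Subgroup.mem_bot] at h1
    rw [h1]
    exact one_mem _
  · intro m hm
    obtain ⟨s, hs, hsm⟩ := frattini hP hm
    have hn : s * m ∈ Nn := ⟨mul_mem (hSM hs) hm, hsm⟩
    obtain ⟨⟨⟨d, hd⟩, ⟨e, he⟩⟩, hde, -⟩ := (Subgroup.isComplement_iff_existsUnique.mp hE') ⟨s * m, hn⟩
    simp only at hde
    have hdS : (d : G) ∈ S := Subgroup.mem_subgroupOf.mp (SetLike.mem_coe.mp hd)
    have heM : (e : G) ∈ M := hNnM e.2
    refine ⟨(e : G), ⟨e, he, rfl⟩, (e : G)⁻¹ * (s⁻¹ * d) * e, ?_, ?_⟩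
    · have := conj_mem_sigmaCore (inv_mem heM) (mul_mem (inv_mem hs) hdS)
      simpa using this
    · have h1 : (d : G) * (e : G) = s * m := by
        have := congrArg Subtype.val hde
        simpa using this
      have h2 : m = s⁻¹ * (d * e) := by rw [h1]; group
      rw [h2]
      group
  · rintro x ⟨y, -, rfl⟩
    exact y.2.2

end Cfsg.Agent.Lib.Helper30_SigmaPartB
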