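import Mathlib
import Cfsg.Prelude.Def_OddOrderLocal
import Cfsg.Agent.Lib.Helper72_BG16
import Cfsg.Agent.Lib.Helper49_SigmaDisjoint
import Cfsg.Agent.Lib.Helper24_CoprimeHall
import Cfsg.Agent.Lib.Helper49_MaxSubC
import Cfsg.Agent.S1350

/-!
# Bender-Glauberman Theorem 14.7(a): uniqueness of the maximal subgroup over `C_G(X)` (helper2)

For a maximal subgroup `M` of a minimal simple group of odd order with a nontrivial Hall `κ(M)`-subgroup `K`
and `K* = C_{M_σ}(K)`: every subgroup `X ≤ K*` of prime order has `C_G(X) ≤ M`, and `M` is the only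
maximal subgroup containing `C_G(X)` (`claimA`).  This needs no partner subgroup `M*`.
The frozen statements S1355, S1417, S1419, S1431 are explicit hypotheses.
-/

set_option autoImplicit false
set_option linter.unusedVariables false

namespace Cfsg.Agent.Lib.Helper2_BG147

open Subgroup Cfsg Cfsg.Agent.Lib.Helper72_BG16 Cfsg.Agent.Lib.Helper22_Radical

/-- the frozen statement S1355, as a hypothesis -/
def H1355 (G : Type*) [Group G] [Finite G] : Prop :=
  ∀ (M : Subgroup G) (hM : IsCoatom M),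
    Cfsg.fittingHallOf M ≠ ⊥ ∧ Cfsg.fittingHallOf M ≤ Cfsg.sigmaCore M ∧ Cfsg.sigmaCore M ≤ ⁅M, M⁆ ∧ ⁅M, M⁆ < M ∧
      Group.IsNilpotent ↥((commutator ↥M).map (QuotientGroup.mk' (Cfsg.fittingHall ↥M)))

/-- the frozen statement S1417, as a hypothesis -/
def H1417 (G : Type*) [Group G] [Finite G] : Prop :=
  ∀ (M : Subgroup G) (hM : IsCoatom M) (p : ℕ) [Fact p.Prime] (hp : p ∈ Cfsg.tau2 M) (A : Subgroup G)
    (hA : (A ≤ M ∧ Cfsg.IsElementaryAbelian p A ∧ Nat.card A = p ^ 2)),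
    Group.IsNilpotent (Cfsg.sigmaCore M) ∧
      (∀ P : Sylow p M, IsMulCommutative (P : Subgroup M) ∧
        (A ≤ (P : Subgroup M).map M.subtype →
          (∀ x ∈ (P : Subgroup M).map M.subtype, x ^ p = 1 ↔ x ∈ A) ∧
          ¬ Subgroup.normalizer ((((P : Subgroup M).map M.subtype : Subgroup G)) : Set G) ≤ M)) ∧
      M ≤ Subgroup.normalizer ((Cfsg.sigmaCore M ⊔ A : Subgroup G) : Set G) ∧
      Cfsg.sigmaCore M ⊓ Subgroup.centralizer (A : Set G) = ⊥ ∧
      (∀ Mstar : Subgroup G, IsCoatom Mstar → Mstar ≠ M → A ≤ Mstar → Cfsg.sigmaCore M ⊓ Mstar = ⊥) ∧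
      ∃ A₁ : Subgroup G, A₁ ≤ A ∧ Nat.card A₁ = p ∧ Cfsg.sigmaCore M ⊓ Subgroup.centralizer (A₁ : Set G) = ⊥

/-- the frozen statement S1419, as a hypothesis -/
def H1419 (G : Type*) [Group G] [Finite G] : Prop :=
  ∀ (M : Subgroup G) (hM : IsCoatom M) (E : Subgroup G) (hE : Cfsg.IsComplIn E (Cfsg.sigmaCore M) M) (p : ℕ)
    [Fact p.Prime] (hp : p ∈ Cfsg.tau2 M) (hS : ∀ S : Sylow p G, ¬ IsMulCommutative (S : Subgroup G))
    (A : Subgroup G) (hA : (A ≤ E ∧ Cfsg.IsElementaryAbelian p A ∧ Nat.card A = p ^ 2)),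
    Cfsg.tau2 M = {p} ∧
      (Nat.card ↥(A ⊓ Subgroup.centralizer (Cfsg.sigmaCore M : Set G)) = p ∧
        Cfsg.fittingOf M = Cfsg.sigmaCore M ⊔ (A ⊓ Subgroup.centralizer (Cfsg.sigmaCore M : Set G))) ∧
      ∀ X : Subgroup G, X ≤ E → Nat.card X = p → X ≠ A ⊓ Subgroup.centralizer (Cfsg.sigmaCore M : Set G) →
        Cfsg.sigmaCore M ⊓ Subgroup.centralizer (X : Set G) = ⊥ ∧ ¬ Subgroup.centralizer (X : Set G) ≤ M

variable {G : Type*} [Group G] [Finite G]

/-! ### small group-theoretic tools -/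

omit [Finite G] in
/-- a subgroup of prime order is generated by any of its non-identity elements -/
theorem eq_zpowers_of_card_prime {X : Subgroup G} {q : ℕ} (hq : q.Prime) (hX : Nat.card X = q) {x : G}
    (hx : x ∈ X) (hx1 : x ≠ 1) : X = zpowers x := by
  have : Fact q.Prime := ⟨hq⟩
  have h1 : zpowers x ≤ X := (zpowers_le).mpr hx
  have h2 : Nat.card (zpowers x) ∣ q := hX ▸ Subgroup.card_dvd_of_le h1
  have h3 : Nat.card (zpowers x) ≠ 1 := by
    rw [Nat.card_zpowers]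
    intro h
    exact hx1 (orderOf_eq_one_iff.mp h)
  have h4 : Nat.card (zpowers x) = q := ((Nat.dvd_prime hq).mp h2).resolve_left h3
  have : Finite X := Nat.finite_of_card_ne_zero (by rw [hX]; exact hq.ne_zero)
  exact (Subgroup.eq_of_le_of_card_ge h1 (by rw [hX, h4])).symm

omit [Finite G] in
theorem exists_ne_one_of_card_prime {X : Subgroup G} (hX : (Nat.card X).Prime) : ∃ x ∈ X, x ≠ 1 := by
  apply exists_ne_one_of_ne_bot
  rintro rfl
  rw [Subgroup.card_bot] at hX
  exact Nat.not_prime_one hX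

omit [Finite G] in
/-- elements of the join of two elementwise commuting subgroups are products -/
theorem mem_sup_of_comm {A B : Subgroup G} (hcomm : ∀ a ∈ A, ∀ b ∈ B, a * b = b * a) {z : G} :
    z ∈ A ⊔ B ↔ ∃ a ∈ A, ∃ b ∈ B, z = a * b := by
  rw [← SetLike.mem_coe, coe_mul_of_left_le_normalizer_right A B (comm_centralizer_normalizes hcomm),
    Set.mem_mul]
  constructor
  · rintro ⟨x, hx, y, hy, rfl⟩; exact ⟨x, hx, y, hy, rfl⟩
  · rintro ⟨x, hx, y, hy, rfl⟩; exact ⟨x, hx, y, hy, rfl⟩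

omit [Finite G] in
/-- the join of two elementwise commuting elementary abelian subgroups is elementary abelian -/
theorem isElementaryAbelian_sup {A B : Subgroup G} {q : ℕ} (hA : IsElementaryAbelian q A)
    (hB : IsElementaryAbelian q B) (hcomm : ∀ a ∈ A, ∀ b ∈ B, a * b = b * a) :
    IsElementaryAbelian q (A ⊔ B : Subgroup G) := by
  have hAc : ∀ a ∈ A, ∀ a' ∈ A, a * a' = a' * a := fun a ha a' ha' =>
    congrArg Subtype.val (hA.1.is_comm.comm ⟨a, ha⟩ ⟨a', ha'⟩)
  have hBc : ∀ b ∈ B, ∀ b' ∈ B, b * b' = b' * b := fun b hb b' hb' =>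
    congrArg Subtype.val (hB.1.is_comm.comm ⟨b, hb⟩ ⟨b', hb'⟩)
  refine ⟨⟨⟨?_⟩⟩, ?_⟩
  · rintro ⟨u, hu⟩ ⟨v, hv⟩
    obtain ⟨a, ha, b, hb, rfl⟩ := (mem_sup_of_comm hcomm).mp hu
    obtain ⟨a', ha', b', hb', rfl⟩ := (mem_sup_of_comm hcomm).mp hv
    apply Subtype.ext
    show a * b * (a' * b') = a' * b' * (a * b)
    calc a * b * (a' * b') = a * (b * a') * b' := by group
      _ = a * (a' * b) * b' := by rw [hcomm a' ha' b hb]
      _ = (a * a') * (b * b') := by group
      _ = (a' * a) * (b' * b) := by rw [hAc a ha a' ha', hBc b hb b' hb']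
      _ = a' * (a * b') * b := by group
      _ = a' * (b' * a) * b := by rw [hcomm a ha b' hb']
      _ = a' * b' * (a * b) := by group
  · intro u hu
    obtain ⟨a, ha, b, hb, rfl⟩ := (mem_sup_of_comm hcomm).mp hu
    have hc : Commute a b := hcomm a ha b hb
    rw [hc.mul_pow, hA.2 a ha, hB.2 b hb, one_mul]

omit [Finite G] in
/-- a subgroup of prime order `q` is elementary abelian -/
theorem isElementaryAbelian_of_card {X : Subgroup G} {q : ℕ} (hq : q.Prime) (hX : Nat.card X = q) :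
    IsElementaryAbelian q X := by
  have : Fact q.Prime := ⟨hq⟩
  have hc : IsCyclic X := isCyclic_of_prime_card hX
  refine ⟨⟨⟨fun a b => ?_⟩⟩, fun a ha => ?_⟩
  · obtain ⟨g, hg⟩ := hc.exists_generator
    obtain ⟨i, rfl⟩ := Subgroup.mem_zpowers_iff.mp (hg a)
    obtain ⟨j, rfl⟩ := Subgroup.mem_zpowers_iff.mp (hg b)
    rw [← zpow_add, ← zpow_add, add_comm]
  · have h := pow_card_eq_one' (G := X) (x := ⟨a, ha⟩)
    rw [hX] at h
    exact congrArg Subtype.val h

/-- a nontrivial `q`-subgroup has a central element of order `q` -/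
theorem exists_central_of_order {Q : Subgroup G} {q : ℕ} [Fact q.Prime] (hQ : IsPGroup q Q)
    (hQ1 : Q ≠ ⊥) : ∃ z ∈ Q, orderOf z = q ∧ ∀ y ∈ Q, z * y = y * z := by
  have hnt : Nontrivial Q := (Subgroup.nontrivial_iff_ne_bot Q).mpr hQ1
  have hc : Nontrivial (center Q) := hQ.center_nontrivial
  have hcp : IsPGroup q (center Q) := hQ.to_subgroup _
  obtain ⟨n, hn⟩ := IsPGroup.iff_card.mp hcp
  have hn0 : n ≠ 0 := by
    rintro rfl
    rw [pow_zero] at hn
    have : Subsingleton (center Q) := (Nat.card_eq_one_iff_unique.mp hn).1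
    exact not_subsingleton _ this
  have hdvd : q ∣ Nat.card (center Q) := by rw [hn]; exact dvd_pow_self q hn0
  obtain ⟨z, hz⟩ := exists_prime_orderOf_dvd_card' q hdvd
  refine ⟨((z : Q) : G), (z : Q).2, ?_, ?_⟩
  · rw [Subgroup.orderOf_coe, Subgroup.orderOf_coe, hz]
  · intro y hy
    have := Subgroup.mem_center_iff.mp z.2 ⟨y, hy⟩
    exact (congrArg Subtype.val this).symm

/-- a number all of whose prime divisors are both in `π` and outside `π` is `1` -/
theorem eq_one_of_primes {k : ℕ} {π : Set ℕ} (h1 : ∀ p : ℕ, p.Prime → p ∣ k → p ∈ π)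
    (h2 : ∀ p : ℕ, p.Prime → p ∣ k → p ∉ π) : k = 1 := by
  by_contra hk
  obtain ⟨p, hp, hd⟩ := Nat.exists_prime_and_dvd hk
  exact h2 p hp hd (h1 p hp hd)

/-- a complement of `M_σ` in `M` containing a given `σ(M)'`-subgroup -/
theorem exists_compl_ge (hG : IsMinSimpleOddOrder G) {L A : Subgroup G} (hL : IsCoatom L) (hAL : A ≤ L)
    (hA : ∀ p : ℕ, p.Prime → p ∣ Nat.card A → p ∉ sigma L) :
    ∃ E : Subgroup G, IsComplIn E (sigmaCore L) L ∧ A ≤ E := by
  have hsolv : Group.IsSolvable ↥L := hG.2.2.2 L hL.1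
  obtain ⟨E, hE, hAE⟩ := Cfsg.Agent.Lib.Helper24_CoprimeHall.exists_piHall_ge
    (π := {q | q.Prime ∧ q ∉ sigma L}) hsolv hAL (fun p hp hd => ⟨hp, hA p hp hd⟩)
  have h50 := (Cfsg.Agent.S1350.result hG L hL).1
  have h50' := (Cfsg.Agent.Lib.Helper24_CoprimeHall.isPiHallOf_iff _ _ _).mp h50
  refine ⟨E, ⟨hE.1, h50.1, ?_, ?_⟩, hAE⟩
  · apply Cfsg.Agent.Lib.Helper49_SigmaDisjoint.inf_eq_bot_of_disjoint_primes
    intro q hq h1 h2
    exact (hE.2.1 q hq h1).2 (h50.2.1 q hq h2)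
  · -- cardinalities
    have hdisj : sigmaCore L ⊓ E = ⊥ := by
      apply Cfsg.Agent.Lib.Helper49_SigmaDisjoint.inf_eq_bot_of_disjoint_primes
      intro q hq h1 h2
      exact (hE.2.1 q hq h2).2 (h50.2.1 q hq h1)
    have hEn : E ≤ normalizer (sigmaCore L : Set G) := hE.1.trans (le_normalizer_sigmaCore L)
    have hcard := Cfsg.Agent.Lib.Helper24_CoprimeHall.card_sup_of_disjoint' E (sigmaCore L) hEn hdisj
    have hle : sigmaCore L ⊔ E ≤ L := sup_le h50.1 hE.1
    set e := Nat.card E with he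
    set s := Nat.card (sigmaCore L) with hs
    set n := Nat.card L with hn
    have hen : e * (n / e) = n := hE.card_mul
    have hsn : s * (n / s) = n := h50'.card_mul
    have hcop : s.Coprime e := by
      apply Nat.coprime_of_dvd
      intro p hp h1 h2
      exact (hE.2.1 p hp h2).2 (h50.2.1 p hp h1)
    have hdvd : s * e ∣ n := hcop.mul_dvd_of_dvd_of_dvd (Subgroup.card_dvd_of_le h50.1)
      (Subgroup.card_dvd_of_le hE.1)
    obtain ⟨k, hk⟩ := hdvd
    have hn0 : 0 < n := Nat.card_pos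
    have he0 : 0 < e := Nat.card_pos
    have hs0 : 0 < s := Nat.card_pos
    have hk1 : k = 1 := by
      apply eq_one_of_primes (π := sigma L)
      · intro p hp hpk
        by_contra hps
        apply hE.2.2 p hp ⟨hp, hps⟩
        have : n / e = s * k := by
          apply Nat.div_eq_of_eq_mul_right he0
          rw [hk]; ring
        rw [this]
        exact Dvd.dvd.mul_left hpk s
      · intro p hp hpk hps
        apply h50'.2.2 p hp hps
        have : n / s = e * k := by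
          apply Nat.div_eq_of_eq_mul_right hs0
          rw [hk]; ring
        rw [this]
        exact Dvd.dvd.mul_left hpk e
    have hcardL : Nat.card ↥(sigmaCore L ⊔ E) = Nat.card L := by
      rw [hcard, ← hn, hk, hk1, mul_one]
    have heq : sigmaCore L ⊔ E = L := Subgroup.eq_of_le_of_card_ge hle (by rw [hcardL])
    intro m hm
    rw [← heq, sup_comm] at hm
    have hcoe := coe_mul_of_left_le_normalizer_right E (sigmaCore L) hEn
    have hm' : m ∈ ((E ⊔ sigmaCore L : Subgroup G) : Set G) := hm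
    rw [hcoe, Set.mem_mul] at hm'
    obtain ⟨a, ha, b, hb, rfl⟩ := hm'
    exact ⟨a, ha, b, hb, rfl⟩

omit [Finite G] in
/-- a Sylow `q`-subgroup of `M_σ` containing a given subgroup -/
theorem exists_sylow_ge {M X : Subgroup G} {q : ℕ} [Fact q.Prime] (hXM : X ≤ sigmaCore M)
    (hX : Nat.card X = q) :
    ∃ S : Sylow q ↥(sigmaCore M), X ≤ (S : Subgroup ↥(sigmaCore M)).map (sigmaCore M).subtype := by
  have hXp : IsPGroup q X := IsPGroup.of_card (n := 1) (by rw [hX, pow_one])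
  have hp : IsPGroup q ↥(X.subgroupOf (sigmaCore M)) :=
    hXp.comap_of_injective (sigmaCore M).subtype (sigmaCore M).subtype_injective
  obtain ⟨S, hS⟩ := hp.exists_le_sylow
  refine ⟨S, ?_⟩
  intro x hx
  exact ⟨⟨x, hXM hx⟩, hS (Subgroup.mem_subgroupOf.mpr hx), rfl⟩

/-- **B-G Theorem 14.7(a)** (one half): for `X ≤ K* = C_{M_σ}(K)` of prime order, `M` is the unique maximal subgroup
containing `C_G(X)`. -/
theorem claimA_of (hG : IsMinSimpleOddOrder G) (h31 : H1431 G) (h17 : H1417 G) (h19 : H1419 G)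
    (hσne : ∀ L : Subgroup G, IsCoatom L → sigmaCore L ≠ ⊥) {M : Subgroup G} (hM : IsCoatom M) {K : Subgroup G}
    (hK : IsPiHallOf (kappa M) K M) (hK1 : K ≠ ⊥) {X : Subgroup G} (hX : X ≤ kst M K)
    (hXp : (Nat.card X).Prime) :
    centralizer (X : Set G) ≤ M ∧
      ∀ L : Subgroup G, IsCoatom L → centralizer (X : Set G) ≤ L → L = M := by
  obtain ⟨h31a, -, h31c, -⟩ := h31 M hM K hK hK1
  obtain ⟨x, hx, hx1⟩ := exists_ne_one_of_card_prime hXp
  -- an element of `K*` lying in a conjugate `gMg⁻¹` forces `g ∈ M`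
  have hkey : ∀ g : G, x ∈ cj g M → g ∈ M := by
    intro g hxg
    by_contra hgM
    have h := h31a g hgM
    have hxm : x ∈ kst M K ⊓ M.map (MulAut.conj g).toMonoidHom := ⟨hX hx, hxg⟩
    rw [h] at hxm
    exact hx1 (mem_bot.mp hxm)
  have hCM : centralizer (X : Set G) ≤ M := by
    intro g hg
    apply hkey g
    rw [mem_cj]
    have hgx : x * g = g * x := mem_centralizer_iff.mp hg x hx
    have : g⁻¹ * x * g = x := by rw [mul_assoc, hgx]; group
    rw [this]; exact kst_le (hX hx)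
  refine ⟨hCM, fun L hL hCL => ?_⟩
  by_contra hne
  set q := Nat.card X with hq
  have hqf : Fact q.Prime := ⟨hXp⟩
  have hqdvd : q ∣ Nat.card ↥(kst M K) := Subgroup.card_dvd_of_le hX
  obtain ⟨S, hXS⟩ := exists_sylow_ge (hX.trans kst_le_sigmaCore) hq.symm
  set Q : Subgroup G := (S : Subgroup ↥(sigmaCore M)).map (sigmaCore M).subtype with hQdef
  obtain ⟨hQU, hQM, hQK⟩ := h31c q hXp hqdvd S
  have hQp : IsPGroup q Q := S.isPGroup'.map _
  have hQ1 : Q ≠ ⊥ := by
    intro h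
    rw [h] at hXS
    exact hx1 (mem_bot.mp (hXS hx))
  -- every maximal subgroup containing `Q` is `M`
  have hQuniq : ∀ L' : Subgroup G, IsCoatom L' → Q ≤ L' → L' = M := by
    intro L' hL' hQL'
    obtain ⟨M', hM', huniq⟩ := hQU
    exact (huniq L' ⟨hL', hQL'⟩).trans (huniq M ⟨hM, hQM⟩).symm
  have hQC : ¬ Q ≤ centralizer (X : Set G) := fun h => hne (hQuniq L hL (h.trans hCL))
  -- a central subgroup `Z₁` of `Q` of order `q`
  obtain ⟨z, hzQ, hzo, hzc⟩ := exists_central_of_order hQp hQ1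
  set Z1 : Subgroup G := zpowers z with hZ1
  have hZ1card : Nat.card Z1 = q := by rw [hZ1, Nat.card_zpowers, hzo]
  have hzcomm : ∀ y ∈ Q, ∀ b ∈ Z1, b * y = y * b := by
    intro y hy b hb
    obtain ⟨i, rfl⟩ := mem_zpowers_iff.mp hb
    have : Commute z y := hzc y hy
    exact (this.zpow_left i).eq
  have hcomm : ∀ a ∈ X, ∀ b ∈ Z1, a * b = b * a := fun a ha b hb => (hzcomm a (hXS ha) b hb).symm
  have hdisj : X ⊓ Z1 = ⊥ := by
    by_contra h
    obtain ⟨w, hw, hw1⟩ := exists_ne_one_of_ne_bot h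
    have hXw : X = zpowers w := eq_zpowers_of_card_prime hXp rfl hw.1 hw1
    have hZw : Z1 = zpowers w := eq_zpowers_of_card_prime hXp hZ1card hw.2 hw1
    apply hQC
    intro y hy
    rw [mem_centralizer_iff]
    intro b hb
    have hb' : b ∈ Z1 := by rw [hZw, ← hXw]; exact hb
    exact hzcomm y hy b hb'
  set A : Subgroup G := X ⊔ Z1 with hA
  have hAel : IsElementaryAbelian q A :=
    isElementaryAbelian_sup (isElementaryAbelian_of_card hXp rfl)
      (isElementaryAbelian_of_card hXp hZ1card) hcomm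
  have hAcard : Nat.card A = q ^ 2 := by
    have h := Cfsg.Agent.Lib.Helper24_CoprimeHall.card_sup_of_disjoint' Z1 X
      (comm_centralizer_normalizes (fun b hb a ha => (hcomm a ha b hb).symm)) hdisj
    rw [hA, h, hZ1card, ← hq, sq]
  have hXA : X ≤ A := le_sup_left
  have hAQ : A ≤ Q := sup_le hXS (zpowers_le.mpr hzQ)
  have hAM : A ≤ M := hAQ.trans hQM
  have hAC : A ≤ centralizer (X : Set G) := by
    intro a ha
    rw [mem_centralizer_iff]
    intro b hb
    exact congrArg Subtype.val (hAel.1.is_comm.comm ⟨b, hXA hb⟩ ⟨a, ha⟩)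
  have hAL : A ≤ L := hAC.trans hCL
  -- `q ∉ σ(L)`
  have hqL : q ∉ sigma L := by
    intro hqs
    obtain ⟨P, hP⟩ := Cfsg.Agent.Lib.Helper49_SigmaDisjoint.exists_sylM hqs
    have : Finite (⊤ : Subgroup G) := inferInstance
    obtain ⟨g, -, hg⟩ := Cfsg.Agent.Lib.Helper84_RelSylow.IsSylowIn.exists_conj_le hP.1 (K := Q) le_top hQp
    have hQL : Q ≤ cj g⁻¹ L := by
      intro y hy
      rw [mem_cj, inv_inv]
      exact hP.2.1 (hg y hy)
    have h1 : cj g⁻¹ L = M :=
      hQuniq _ (Cfsg.Agent.Lib.Helper22_Uniq.isCoatom_cj hL g⁻¹) hQL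
    have h2 : L = cj g M := by
      have := Cfsg.Agent.Lib.Helper22_BGTrans.cj_inv_cj g⁻¹ L
      rw [inv_inv, h1] at this
      exact this.symm
    have hgM : g ∈ M := hkey g (h2 ▸ hCL (by
      rw [mem_centralizer_iff]
      intro b hb
      exact congrArg Subtype.val ((isElementaryAbelian_of_card hXp rfl).1.is_comm.comm ⟨b, hb⟩ ⟨x, hx⟩)))
    apply hne
    rw [h2]
    exact cj_eq_of_mem_normalizer (le_normalizer hgM)
  -- `q ∈ τ₂(L)`
  have hU := Cfsg.Agent.Lib.Helper49_SigmaDisjoint.uniqHyp hG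
  have hq2 : q ∈ tau2 L := by
    refine ⟨hXp, hqL, ?_, ?_⟩
    · by_contra h
      exact hqL (Cfsg.Agent.Lib.Helper49_Alpha.mem_sigma_of_mem_alpha hG hU hL ⟨hXp, h⟩)
    · intro h
      have h1 := h (A.subgroupOf L)
        ⟨⟨fun a b => Subtype.ext (Subtype.ext (by
          have := congrArg Subtype.val (hAel.1.is_comm.comm ⟨a.1.1, a.2⟩ ⟨b.1.1, b.2⟩)
          simpa using this))⟩⟩
        (fun a ha => Subtype.ext (by
          rw [Subgroup.coe_pow]
          exact hAel.2 a.1 ha))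
      rw [Nat.card_congr (Subgroup.subgroupOfEquivOfLe hAL).toEquiv, hAcard, pow_one] at h1
      have : q < q ^ 2 := by
        rw [sq]
        exact lt_mul_of_one_lt_left hXp.pos hXp.one_lt
      omega
  -- a complement `E` of `L_σ` in `L` containing `A`
  obtain ⟨E, hE, hAE⟩ := exists_compl_ge hG hL hAL (by
    intro p hp hd
    rw [hAcard] at hd
    have := (Nat.prime_dvd_prime_iff_eq hp hXp).mp (hp.dvd_of_dvd_pow hd)
    rw [this]; exact hqL)
  -- the Sylow `q`-subgroups of `G` are nonabelian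
  have hS : ∀ S' : Sylow q G, ¬ IsMulCommutative (S' : Subgroup G) := by
    intro S' hc
    obtain ⟨g, hg⟩ := Cfsg.Agent.Lib.Helper84_RelSylow.exists_conj_le_sylow S' hQp
    apply hQC
    intro y hy
    rw [mem_centralizer_iff]
    intro b hb
    have h1 := congrArg Subtype.val (hc.is_comm.comm ⟨_, hg b (hXS hb)⟩ ⟨_, hg y hy⟩)
    simp only [Subgroup.coe_mul] at h1
    have h2 : g * (b * y) * g⁻¹ = g * (y * b) * g⁻¹ := by
      calc g * (b * y) * g⁻¹ = g * b * g⁻¹ * (g * y * g⁻¹) := by group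
        _ = g * y * g⁻¹ * (g * b * g⁻¹) := h1
        _ = g * (y * b) * g⁻¹ := by group
    exact mul_left_cancel (mul_right_cancel h2)
  have h19' := (h19 L hL E hE q hq2 hS A ⟨hAE, hAel, hAcard⟩).2.2 X (hXA.trans hAE) rfl
  by_cases hXeq : X = A ⊓ centralizer (sigmaCore L : Set G)
  · have h1 : sigmaCore L ≤ centralizer (X : Set G) := by
      intro y hy
      rw [mem_centralizer_iff]
      intro b hb
      have hb' : b ∈ A ⊓ centralizer (sigmaCore L : Set G) := hXeq ▸ hb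
      exact (mem_centralizer_iff.mp hb'.2 y hy).symm
    have h2 : sigmaCore L ⊓ M = ⊥ :=
      (h17 L hL q hq2 A ⟨hAL, hAel, hAcard⟩).2.2.2.2.1 M hM (Ne.symm hne) hAM
    have h3 : sigmaCore L = ⊥ := by
      rw [eq_bot_iff, ← h2]
      exact le_inf le_rfl (h1.trans hCM)
    exact hσne L hL h3
  · exact (h19' hXeq).2 hCL

/-- `claimA_of` with `M_σ ≠ 1` taken from the frozen statement S1355 -/
theorem claimA (hG : IsMinSimpleOddOrder G) (h31 : H1431 G) (h17 : H1417 G) (h19 : H1419 G)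
    (h55 : H1355 G) {M : Subgroup G} (hM : IsCoatom M) {K : Subgroup G}
    (hK : IsPiHallOf (kappa M) K M) (hK1 : K ≠ ⊥) {X : Subgroup G} (hX : X ≤ kst M K)
    (hXp : (Nat.card X).Prime) :
    centralizer (X : Set G) ≤ M ∧
      ∀ L : Subgroup G, IsCoatom L → centralizer (X : Set G) ≤ L → L = M :=
  claimA_of hG h31 h17 h19 (fun L hL h3 => by
    obtain ⟨hF1, hF2, -⟩ := h55 L hL
    exact hF1 (eq_bot_iff.mpr (h3 ▸ hF2))) hM hK hK1 hX hXp

/-- the statement of S1367, from the frozen statements S1354, S1355, S1417, S1419, S1431 -/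
theorem s1367 (hG : IsMinSimpleOddOrder G) (h54 : H1354 G) (h31 : H1431 G) (h17 : H1417 G)
    (h19 : H1419 G) (h55 : H1355 G)
    (M : Subgroup G) (hM : IsCoatom M) (K U : Subgroup G) (hKU : Cfsg.IsSigmaDecomposition M K U) (hK1 : K ≠ ⊥) (Mstar : Subgroup G) (hMstar : IsCoatom Mstar)
    (hKst : K = Cfsg.sigmaCore Mstar ⊓ Subgroup.centralizer ((Cfsg.sigmaCore M ⊓ Subgroup.centralizer (K : Set G)) : Set G))
    (hKstH : Cfsg.IsPiHallOf (Cfsg.kappa Mstar) (Cfsg.sigmaCore M ⊓ Subgroup.centralizer (K : Set G)) Mstar) :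
    (∀ X : Subgroup G, X ≤ (Cfsg.sigmaCore M ⊓ Subgroup.centralizer (K : Set G)) → (Nat.card X).Prime →
        Subgroup.centralizer (X : Set G) ≤ M ∧ ∀ L : Subgroup G, IsCoatom L → Subgroup.centralizer (X : Set G) ≤ L → L = M) ∧
      (∀ Y : Subgroup G, Y ≤ K → (Nat.card Y).Prime →
        Subgroup.centralizer (Y : Set G) ≤ Mstar ∧ ∀ L : Subgroup G, IsCoatom L → Subgroup.centralizer (Y : Set G) ≤ L → L = Mstar) := by
  refine ⟨fun X hX hXp => claimA hG h31 h17 h19 h55 hM hKU.hall hK1 hX hXp, fun Y hY hYp => ?_⟩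
  have hne : Cfsg.sigmaCore M ⊓ Subgroup.centralizer (K : Set G) ≠ ⊥ := (h54 M hM K hKU.cyclic hKU.hall).1
  have hY' : Y ≤ kst Mstar (Cfsg.sigmaCore M ⊓ Subgroup.centralizer (K : Set G)) := by
    intro y hy
    have := hY hy
    rw [hKst] at this
    exact this
  exact claimA hG h31 h17 h19 h55 hMstar hKstH hne hY' hYp

end Cfsg.Agent.Lib.Helper2_BG147
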