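import Cfsg.Agent.Lib.Helper76_BG13c
import Cfsg.Agent.Lib.Helper62_BG117
import Cfsg.Agent.Lib.Helper23_BG13Hyp
import Cfsg.Agent.Lib.Helper52_BG12d
import Cfsg.Agent.Lib.Helper2_BG147
import Cfsg.Agent.S1414
import Cfsg.Agent.S1415
import Cfsg.Agent.S1423
import Cfsg.Agent.S1426
import Cfsg.Agent.S1427

/-!
# Bender–Glauberman Theorem 13.7 (`tau12_regular`), core step (helper62)

`core`: let `H` be maximal, `p ∈ σ(H) ∖ β(H)`, `q ∈ τ₁(H)`, `Y ≤ H` of order `q` centralizing a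
subgroup `X` of order `p`.  If `X` is the only subgroup of order `p` of `C_H(X) ∩ C(Y)` and
`N_H(X)` has no elementary abelian subgroup of order `s ^ 2`, `s ≠ p`, then `X ≤ (H_σ)'`.

The idea: a complement `E₀ ∋ Y` of `H_σ` normalizing a `Y`-invariant Sylow `p`-subgroup `S₁ ∋ X` of
`H_σ` acts on `S₁` through an abelian group (normal `p`-complement of `H'`), so it normalizes
`C_{S₁}(Y)`, whose only subgroup of order `p` is `X`; the structure of `E₀` together with S1427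
and S1428 shows that `E₀` centralizes `X`, and S1426 puts `X` into `(H_σ)'`.
-/

set_option autoImplicit false

namespace Cfsg.Agent.Lib.Helper62_BG137

open Subgroup Cfsg Cfsg.Agent.Lib.Helper22_Radical Cfsg.Agent.Lib.Helper22_BGTrans
  Cfsg.Agent.Lib.Helper84_RelSylow Cfsg.Agent.Lib.Helper49_Sigma
  Cfsg.Agent.Lib.Helper24_CoprimeHall Cfsg.Agent.Lib.Helper24_CoprimeAction
  Cfsg.Agent.Lib.Helper76_BG13a Cfsg.Agent.Lib.Helper76_BG13b Cfsg.Agent.Lib.Helper76_BG13c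
  Cfsg.Agent.Lib.Helper23_BG13Hyp

universe u

open scoped commutatorElement

variable {G : Type u} [Group G] [Finite G]

/-- the normal `p`-complement of a subgroup `D`, as a subgroup of `G` normalized by every
subgroup normalizing `D` -/
theorem exists_pcompl {p : ℕ} [Fact p.Prime] {D H : Subgroup G}
    (hDH : H ≤ normalizer (D : Set G)) (h : HasNormalPComplement p ↥D) :
    ∃ N : Subgroup G, N ≤ D ∧ H ≤ normalizer (N : Set G) ∧ ¬ p ∣ Nat.card N ∧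
      ∀ g ∈ D, (orderOf g).Coprime p → g ∈ N := by
  have hpp : p.Prime := Fact.out
  obtain ⟨P, N₀, hN₀, hc⟩ := h
  have hcardN : Nat.card (N₀.map D.subtype) = Nat.card N₀ :=
    Subgroup.card_map_of_injective D.subtype_injective
  have hpN₀ : ¬ p ∣ Nat.card N₀ := by
    rw [← hc.index_eq_card]
    exact P.not_dvd_index
  have hmem : ∀ g ∈ D, (orderOf g).Coprime p → g ∈ N₀.map D.subtype := by
    intro g hg hcop
    have hq : IsPGroup p (↥D ⧸ N₀) := by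
      obtain ⟨k, hk⟩ := IsPGroup.iff_card.mp P.isPGroup'
      apply IsPGroup.of_card (n := k)
      rw [← Subgroup.index_eq_card, hc.symm.index_eq_card]
      exact hk
    obtain ⟨k, hk⟩ := hq (QuotientGroup.mk (⟨g, hg⟩ : D))
    have h1 : orderOf (QuotientGroup.mk (⟨g, hg⟩ : D) : ↥D ⧸ N₀) ∣ p ^ k :=
      orderOf_dvd_of_pow_eq_one hk
    have h2 : orderOf (QuotientGroup.mk (⟨g, hg⟩ : D) : ↥D ⧸ N₀) ∣ orderOf g := by
      have := orderOf_map_dvd (QuotientGroup.mk' N₀) (⟨g, hg⟩ : D)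
      rw [Subgroup.orderOf_mk] at this
      exact this
    have h3 : orderOf (QuotientGroup.mk (⟨g, hg⟩ : D) : ↥D ⧸ N₀) = 1 :=
      Nat.eq_one_of_dvd_coprimes (hcop.pow_right k) h2 h1
    rw [orderOf_eq_one_iff, QuotientGroup.eq_one_iff] at h3
    exact ⟨⟨g, hg⟩, h3, rfl⟩
  refine ⟨N₀.map D.subtype, Subgroup.map_subtype_le _, ?_, by rw [hcardN]; exact hpN₀, hmem⟩
  intro h hh
  apply Subgroup.mem_normalizer_fintype
  intro n hn
  have hnD : n ∈ D := Subgroup.map_subtype_le _ hn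
  have hcD : h * n * h⁻¹ ∈ D := (mem_normalizer_iff.mp (hDH hh) n).mp hnD
  apply hmem _ hcD
  have hconj : orderOf (h * n * h⁻¹) = orderOf n := MulEquiv.orderOf_eq (MulAut.conj h) n
  rw [hconj]
  have h1 : orderOf n ∣ Nat.card (N₀.map D.subtype) := by
    have := orderOf_dvd_natCard (⟨n, hn⟩ : (N₀.map D.subtype : Subgroup G))
    rwa [Subgroup.orderOf_mk] at this
  rw [hcardN] at h1
  exact Nat.Coprime.coprime_dvd_left h1 ((Nat.Prime.coprime_iff_not_dvd hpp).2 hpN₀).symm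

/-- the order of a complement of `H_σ` is prime to every `p ∈ σ(H)` -/
theorem not_dvd_card_compl (hG : IsMinSimpleOddOrder G) {H E₀ : Subgroup G} (hH : IsCoatom H)
    (hE₀ : IsComplIn E₀ (sigmaCore H) H) {p : ℕ} (hpp : p.Prime) (hpσ : p ∈ sigma H) :
    ¬ p ∣ Nat.card E₀ := fun hd =>
  (piHall_of_isComplIn (sigma_hall hG hH) hE₀).2.1 p hpp hd hpσ

/-- **Key step.** For `p ∈ σ(H) ∖ β(H)`, the derived subgroup of a complement `E₀` of `H_σ`
centralizes every `p`-subgroup of `H` normalized by `E₀` (because `H'` has a normal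
`p`-complement). -/
theorem commutator_le_centralizer (hG : IsMinSimpleOddOrder G) {H E₀ S₁ : Subgroup G}
    (hH : IsCoatom H) {p : ℕ} [Fact p.Prime] (hpσ : p ∈ sigma H) (hpβ : p ∉ beta H)
    (hE₀ : IsComplIn E₀ (sigmaCore H) H) (hS₁ : IsPGroup p S₁) (hS₁H : S₁ ≤ H)
    (hES : E₀ ≤ normalizer (S₁ : Set G)) : ⁅E₀, E₀⁆ ≤ centralizer (S₁ : Set G) := by
  have hpp : p.Prime := Fact.out
  obtain ⟨hD, -, -⟩ := (Cfsg.Agent.S1414.result hG H hH).2.2.2.2 p hpp hpσ.2.1 hpβ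
  obtain ⟨N, hND, hHN, hpN, hmem⟩ :=
    exists_pcompl (Cfsg.Agent.Lib.Helper22_Basic.le_normalizer_commutator_left H H) hD
  have hpE : ¬ p ∣ Nat.card E₀ := not_dvd_card_compl hG hH hE₀ hpp hpσ
  have hcomm : ⁅E₀, E₀⁆ ≤ ⁅H, H⁆ := Subgroup.commutator_mono hE₀.1 hE₀.1
  have hcE : ⁅E₀, E₀⁆ ≤ E₀ := Subgroup.commutator_le_self E₀
  intro e he
  have heN : e ∈ N := by
    apply hmem e (hcomm he)
    have h1 : orderOf e ∣ Nat.card E₀ := by
      have := orderOf_dvd_natCard (⟨e, hcE he⟩ : E₀)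
      rwa [Subgroup.orderOf_mk] at this
    exact Nat.Coprime.coprime_dvd_left h1 ((Nat.Prime.coprime_iff_not_dvd hpp).2 hpE).symm
  rw [mem_centralizer_iff]
  intro s hs
  have hsN : s * e * s⁻¹ ∈ N := (mem_normalizer_iff.mp (hHN (hS₁H hs)) e).mp heN
  have h1 : s * e * s⁻¹ * e⁻¹ ∈ N := N.mul_mem hsN (N.inv_mem heN)
  have h2 : e * s⁻¹ * e⁻¹ ∈ S₁ := (mem_normalizer_iff.mp (hES (hcE he)) s⁻¹).mp (S₁.inv_mem hs)
  have h3 : s * e * s⁻¹ * e⁻¹ ∈ S₁ := by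
    have e1 : s * e * s⁻¹ * e⁻¹ = s * (e * s⁻¹ * e⁻¹) := by group
    rw [e1]
    exact S₁.mul_mem hs h2
  have hdisj : N ⊓ S₁ = ⊥ := by
    apply (Subgroup.disjoint_of_coprime_natCard ?_).eq_bot
    obtain ⟨k, hk⟩ := IsPGroup.iff_card.mp hS₁
    rw [hk]
    exact ((Nat.Prime.coprime_iff_not_dvd hpp).2 hpN).symm.pow_right k
  have h4 : s * e * s⁻¹ * e⁻¹ ∈ N ⊓ S₁ := ⟨h1, h3⟩
  rw [hdisj, Subgroup.mem_bot] at h4
  have e2 : s * e = (s * e * s⁻¹ * e⁻¹) * (e * s) := by group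
  rw [e2, h4, one_mul]

/-- **Setup.** For `p ∈ σ(H)`, `q ∉ σ(H)`, `Y` of order `q` centralizing `X` of order `p`: there are a
Sylow `p`-subgroup `S₁ ≥ X` of `H_σ` and a complement `E₀ ≥ Y` of `H_σ` in `H` normalizing `S₁`. -/
theorem exists_setup (hG : IsMinSimpleOddOrder G) {H : Subgroup G} (hH : IsCoatom H)
    {p q : ℕ} [Fact p.Prime] [Fact q.Prime] (hpσ : p ∈ sigma H) (hqσ : q ∉ sigma H)
    {X Y : Subgroup G} (hYH : Y ≤ H) (hYq : Nat.card Y = q) (hXH : X ≤ H) (hXp : Nat.card X = p)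
    (hXY : Y ≤ centralizer (X : Set G)) :
    ∃ S₁ E₀ : Subgroup G, IsSylowIn p S₁ (sigmaCore H) ∧ X ≤ S₁ ∧ IsComplIn E₀ (sigmaCore H) H ∧
      Y ≤ E₀ ∧ E₀ ≤ normalizer (S₁ : Set G) := by
  have hpp : p.Prime := Fact.out
  have hqq : q.Prime := Fact.out
  have hKH : sigmaCore H ≤ H := Cfsg.Agent.Lib.Helper23_SigmaHall.sigmaCore_le H
  have hsolvH := isSolvable_of_isCoatom hG hH
  have hsolvK : Group.IsSolvable ↥(sigmaCore H) := isSolvable_of_le hG hH hKH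
  have hXpg : IsPGroup p X := IsPGroup.of_card (n := 1) (by rw [hXp, pow_one])
  have hXK : X ≤ sigmaCore H := le_sigmaCore_of_isPGroup' hG hH hpσ hXpg hXH
  have hHK : H ≤ normalizer ((sigmaCore H : Subgroup G) : Set G) := le_normalizer_sigmaCore' H
  have hYK : Y ≤ normalizer ((sigmaCore H : Subgroup G) : Set G) := hYH.trans hHK
  have hcop : (Nat.card Y).Coprime (Nat.card (sigmaCore H)) := by
    rw [hYq]
    exact (Nat.Prime.coprime_iff_not_dvd hqq).2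
      (fun hd => hqσ (mem_sigma_of_dvd_card_le_sigmaCore le_rfl hqq hd))
  have hYX : Y ≤ normalizer (X : Set G) := hXY.trans (Subgroup.centralizer_le_normalizer _)
  have hXπ : ∀ r : ℕ, r.Prime → r ∣ Nat.card X → r ∈ ({p} : Set ℕ) := by
    intro r hr hd
    rw [hXp] at hd
    exact (Nat.prime_dvd_prime_iff_eq hr hpp).1 hd
  obtain ⟨S₁, hS₁hall, hYS₁, hXS₁⟩ :=
    exists_invariant_piHall_ge ({p} : Set ℕ) Y (sigmaCore H) X hYK hcop hsolvK hXK hYX hXπ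
  have hYσ : ∀ r : ℕ, r.Prime → r ∣ Nat.card Y → r ∉ sigma H := by
    intro r hr hd
    rw [hYq] at hd
    rw [(Nat.prime_dvd_prime_iff_eq hr hqq).1 hd]
    exact hqσ
  obtain ⟨E₁, hE₁, hYE₁⟩ := exists_compl_ge hsolvH (sigma_hall hG hH) hYH hYσ
  have hE₁K : E₁ ≤ normalizer ((sigmaCore H : Subgroup G) : Set G) := hE₁.1.trans hHK
  have hcopE : (Nat.card E₁).Coprime (Nat.card (sigmaCore H)) :=
    Nat.coprime_of_dvd fun r hr h1 h2 =>
      (piHall_of_isComplIn (sigma_hall hG hH) hE₁).2.1 r hr h1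
        (mem_sigma_of_dvd_card_le_sigmaCore le_rfl hr h2)
  obtain ⟨S₁', hS₁'hall, hE₁S₁'⟩ :=
    exists_invariant_piHall E₁ (sigmaCore H) hE₁K hcopE hsolvK ({p} : Set ℕ)
  obtain ⟨c, hc, hcS⟩ := invariant_piHall_conj Y (sigmaCore H) hYK hcop hsolvK ({p} : Set ℕ) S₁' S₁
    hS₁'hall hS₁hall (hYE₁.trans hE₁S₁') hYS₁
  have hcH : c ∈ H := hKH hc.1
  refine ⟨S₁, cj c E₁, Cfsg.Agent.Lib.Helper62_BG117.isSylowIn_of_piHall hpp hS₁hall, hXS₁,
    Cfsg.Agent.Lib.Helper52_BG12d.isComplIn_cj hE₁ hcH hHK, ?_, ?_⟩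
  · intro y hy
    rw [mem_cj]
    have h1 : y * c = c * y := (mem_centralizer_iff.mp hc.2) y hy
    have e1 : c⁻¹ * y * c = y := by rw [mul_assoc, h1, ← mul_assoc, inv_mul_cancel, one_mul]
    rw [e1]
    exact hYE₁ hy
  · have h1 : cj c E₁ ≤ cj c (normalizer (S₁' : Set G)) := cj_mono hE₁S₁'
    rw [← normalizer_cj] at h1
    have h2 : cj c S₁' = S₁ := hcS
    rwa [h2] at h1

/-- a complement acting on `S₁` through an abelian group normalizes `C_{S₁}(Y)` -/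
theorem le_normalizer_inf_centralizer {E₀ S₁ Y : Subgroup G} (hYE₀ : Y ≤ E₀)
    (hES : E₀ ≤ normalizer (S₁ : Set G)) (hcomm : ⁅E₀, E₀⁆ ≤ centralizer (S₁ : Set G)) :
    E₀ ≤ normalizer ((S₁ ⊓ centralizer (Y : Set G) : Subgroup G) : Set G) := by
  intro e he
  apply Subgroup.mem_normalizer_fintype
  intro n hn
  obtain ⟨hnS, hnY⟩ := Subgroup.mem_inf.mp (SetLike.mem_coe.mp hn)
  rw [SetLike.mem_coe, Subgroup.mem_inf]
  refine ⟨(mem_normalizer_iff.mp (hES he) n).mp hnS, ?_⟩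
  rw [mem_centralizer_iff]
  intro y hy
  have hc' : ⁅y⁻¹, e⁻¹⁆ ∈ centralizer (S₁ : Set G) :=
    hcomm (Subgroup.commutator_mem_commutator (E₀.inv_mem (hYE₀ hy)) (E₀.inv_mem he))
  have h1 : e⁻¹ * y * e = y * ⁅y⁻¹, e⁻¹⁆ := by
    rw [commutatorElement_def]; group
  have h2 : n * ⁅y⁻¹, e⁻¹⁆ = ⁅y⁻¹, e⁻¹⁆ * n := (mem_centralizer_iff.mp hc') n hnS
  have h3 : y * n = n * y := (mem_centralizer_iff.mp hnY) y hy
  have h4 : (e⁻¹ * y * e) * n = n * (e⁻¹ * y * e) := by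
    rw [h1, mul_assoc, ← h2, ← mul_assoc, h3, mul_assoc]
  calc y * (e * n * e⁻¹) = e * ((e⁻¹ * y * e) * n) * e⁻¹ := by group
    _ = e * (n * (e⁻¹ * y * e)) * e⁻¹ := by rw [h4]
    _ = e * n * e⁻¹ * y := by group

/-- **`E₀` normalizes `X`.** -/
theorem le_normalizer_of_setup {H E₀ S₁ X Y : Subgroup G} {p : ℕ} [Fact p.Prime]
    (hS₁p : IsPGroup p S₁) (hS₁H : S₁ ≤ H) (hXS₁ : X ≤ S₁) (hXp : Nat.card X = p)
    (hYE₀ : Y ≤ E₀) (hES : E₀ ≤ normalizer (S₁ : Set G))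
    (hcomm : ⁅E₀, E₀⁆ ≤ centralizer (S₁ : Set G)) (hXY : Y ≤ centralizer (X : Set G))
    (u1 : ∀ X' : Subgroup G, X' ≤ H → Nat.card X' = p → X' ≤ centralizer (X : Set G) →
      X' ≤ centralizer (Y : Set G) → X' = X) :
    E₀ ≤ normalizer (X : Set G) := by
  have hpp : p.Prime := Fact.out
  have hEPY := le_normalizer_inf_centralizer hYE₀ hES hcomm
  have hXcY : X ≤ centralizer (Y : Set G) := by
    rw [Subgroup.le_centralizer_iff]; exact hXY
  have hXPY : X ≤ S₁ ⊓ centralizer (Y : Set G) := le_inf hXS₁ hXcY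
  have hPYp : IsPGroup p ↥(S₁ ⊓ centralizer (Y : Set G) : Subgroup G) :=
    hS₁p.to_le inf_le_left
  have hX1 : X ≠ ⊥ := by
    rintro rfl
    rw [Subgroup.card_bot] at hXp
    exact hpp.one_lt.ne hXp
  have hPY1 : (S₁ ⊓ centralizer (Y : Set G) : Subgroup G) ≠ ⊥ := fun h => hX1 (le_bot_iff.mp (h ▸ hXPY))
  obtain ⟨z, hz, hzo, hzc⟩ := Cfsg.Agent.Lib.Helper2_BG147.exists_central_of_order hPYp hPY1
  have hZX : zpowers z = X := by
    apply u1
    · rw [zpowers_le]; exact hS₁H hz.1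
    · rw [Nat.card_zpowers, hzo]
    · rw [zpowers_le, mem_centralizer_iff]
      intro x hx
      exact (hzc x (hXPY hx)).symm
    · rw [zpowers_le]; exact hz.2
  have hPYX : S₁ ⊓ centralizer (Y : Set G) ≤ centralizer (X : Set G) := by
    intro y hy
    rw [← hZX, mem_centralizer_iff]
    intro w hw
    obtain ⟨k, rfl⟩ := mem_zpowers_iff.mp hw
    have hcy : Commute z y := hzc y hy
    exact (hcy.zpow_left k).eq
  intro e he
  have h1 : cj e X = X := by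
    apply u1
    · intro x hx
      rw [mem_cj] at hx
      have h2 := (mem_normalizer_iff.mp (hEPY he) _).mp (hXPY hx)
      have e1 : e * (e⁻¹ * x * e) * e⁻¹ = x := by group
      rw [e1] at h2
      exact hS₁H h2.1
    · rw [card_cj]; exact hXp
    · intro x hx
      rw [mem_cj] at hx
      have h2 := (mem_normalizer_iff.mp (hEPY he) _).mp (hXPY hx)
      have e1 : e * (e⁻¹ * x * e) * e⁻¹ = x := by group
      rw [e1] at h2
      exact hPYX h2
    · intro x hx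
      rw [mem_cj] at hx
      have h2 := (mem_normalizer_iff.mp (hEPY he) _).mp (hXPY hx)
      have e1 : e * (e⁻¹ * x * e) * e⁻¹ = x := by group
      rw [e1] at h2
      exact h2.2
  apply Subgroup.mem_normalizer_fintype
  intro n hn
  have h2 : e * n * e⁻¹ ∈ cj e X := by
    rw [mem_cj]
    have e1 : e⁻¹ * (e * n * e⁻¹) * e = n := by group
    rw [e1]; exact hn
  rwa [h1] at h2

/-- a Hall `τ₁(H)`-subgroup `C₁ ∋ Y` of a complement `E₀` centralizes every fixed point `X` of `Y` on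
`H_σ` (S1428 for the subgroups of prime order, S1427 for the cyclic Sylow subgroups) -/
theorem hall_tau1_le_centralizer (hG : IsMinSimpleOddOrder G) (h28 : H1428 G)
    {H E₀ C₁ X Y : Subgroup G} (hH : IsCoatom H) (hE₀ : IsComplIn E₀ (sigmaCore H) H)
    {q : ℕ} [Fact q.Prime] (hq : q ∈ tau1 H) (hYq : Nat.card Y = q)
    (hC₁ : PiHall (tau1 H) C₁ E₀) (hYC₁ : Y ≤ C₁)
    (hXK : X ≤ sigmaCore H) (hXY : X ≤ centralizer (Y : Set G)) :
    C₁ ≤ centralizer (X : Set G) := by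
  have hC₁iff := (isPiHallOf_iff (tau1 H) C₁ E₀).mpr hC₁
  have hcyc : IsCyclic ↥C₁ := (Cfsg.Agent.S1415.result hG H hH E₀ hE₀).2.1 C₁ hC₁iff
  have hcommC : ∀ a ∈ C₁, ∀ b ∈ C₁, a * b = b * a := by
    intro a ha b hb
    have hc : IsMulCommutative ↥C₁ := IsCyclic.isMulCommutative
    have := hc.is_comm.comm (⟨a, ha⟩ : C₁) ⟨b, hb⟩
    exact congrArg Subtype.val this
  apply Cfsg.Agent.Lib.Helper62_BG117.le_of_forall_sylow_le
  intro s hs
  have : Fact s.Prime := ⟨hs⟩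
  obtain ⟨R, -, hR⟩ := Cfsg.Agent.Lib.Helper84_RelSylow.exists_isSylowIn_ge (p := s) (H := C₁)
    (K := ⊥) bot_le IsPGroup.of_bot
  refine ⟨R, ?_, hR.le, hR.2.2⟩
  by_cases hR1 : R = ⊥
  · rw [hR1]; exact bot_le
  have hsd : s ∣ Nat.card R := Cfsg.Agent.Lib.Helper62_BG117.dvd_card_self_of_ne_bot hR.isPGroup hR1
  have hsτ : s ∈ tau1 H := hC₁.2.1 s hs (hsd.trans (Subgroup.card_dvd_of_le hR.le))
  have hRE : R ≤ E₀ := hR.le.trans hC₁.1
  have hRsyl : IsSylowIn s R E₀ := by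
    refine ⟨hRE, hR.isPGroup, ?_⟩
    rw [← Subgroup.relIndex_mul_relIndex R C₁ E₀ hR.le hC₁.1]
    intro hd
    rcases (Nat.Prime.dvd_mul hs).mp hd with h | h
    · exact hR.2.2 h
    · rw [relIndex_eq_div hC₁.1] at h
      exact hC₁.2.2 s hs hsτ h
  have hRcyc : IsCyclic ↥R :=
    isCyclic_of_injective (Subgroup.inclusion hR.le) (Subgroup.inclusion_injective hR.le)
  have hScyc : IsCyclic ↥(hRsyl.toSylow : Subgroup ↥E₀) := by
    rw [IsSylowIn.coe_toSylow]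
    exact isCyclic_of_injective (Subgroup.subgroupOfEquivOfLe hRE).toMonoidHom
      (Subgroup.subgroupOfEquivOfLe hRE).injective
  have hmap : (hRsyl.toSylow : Subgroup ↥E₀).map E₀.subtype = R := by
    rw [IsSylowIn.coe_toSylow]
    exact Subgroup.map_subgroupOf_eq_of_le hRE
  have hS1 : (hRsyl.toSylow : Subgroup ↥E₀) ≠ ⊥ := by
    intro h
    rw [h, Subgroup.map_bot] at hmap
    exact hR1 hmap.symm
  have h27 := Cfsg.Agent.S1427.result hG H hH E₀ hE₀ s hRsyl.toSylow hS1 hScyc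
  rw [hmap] at h27
  obtain ⟨Ω, hΩR, hΩs⟩ := Cfsg.Agent.Lib.Helper62_BG117.exists_le_card_eq_prime hR.isPGroup hR1
  have hΩY : Ω ≤ centralizer (Y : Set G) := by
    intro w hw
    rw [mem_centralizer_iff]
    intro y hy
    exact hcommC y (hYC₁ hy) w (hR.le (hΩR hw))
  have h28' := h28 H hH E₀ hE₀ q hq Y (hYC₁.trans hC₁.1) hYq Ω
    (le_inf (hΩR.trans hRE) hΩY) (by rw [hΩs]; exact hs)
  have hXΩ : X ≤ centralizer (Ω : Set G) := fun x hx => (h28' ⟨hXK hx, hXY hx⟩).2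
  have hΩ1 : Ω ≠ ⊥ := by
    rintro rfl
    rw [Subgroup.card_bot] at hΩs
    exact hs.one_lt.ne hΩs
  obtain ⟨x₀, hx₀1⟩ := (Subgroup.ne_bot_iff_exists_ne_one).mp hΩ1
  have hx₀' : (x₀ : G) ≠ 1 := fun h => hx₀1 (Subtype.ext h)
  have h27' := h27 (x₀ : G) (hΩR x₀.2) hx₀'
  rw [Subgroup.le_centralizer_iff]
  intro x hx
  have h1 : x ∈ sigmaCore H ⊓ centralizer ({(x₀ : G)} : Set G) := by
    refine ⟨hXK hx, ?_⟩
    show x ∈ centralizer ({(x₀ : G)} : Set G)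
    rw [mem_centralizer_iff]
    intro w hw
    rw [Set.mem_singleton_iff] at hw
    rw [hw]
    exact (mem_centralizer_iff.mp (hXΩ hx)) x₀ x₀.2
  rw [h27'] at h1
  exact h1.2

/-- **Core of B–G 13.7 (a case of B–G 13.5).** Let `H` be maximal, `p ∈ σ(H) ∖ β(H)`, `q ∈ τ₁(H)`,
`Y ≤ H` of order `q` centralizing `X ≤ H` of order `p`.  Suppose `X` is the only subgroup of order `p`
of `C_H(X) ∩ C(Y)` and that `N_H(X)` has no elementary abelian subgroup of order `s ^ 2` for a prime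
`s ≠ p`.  Then `X ≤ (H_σ)'`. -/
theorem core (hG : IsMinSimpleOddOrder G) (h28 : H1428 G) {H : Subgroup G} (hH : IsCoatom H)
    {p q : ℕ} [Fact p.Prime] [Fact q.Prime] (hpσ : p ∈ sigma H) (hpβ : p ∉ beta H)
    (hq : q ∈ tau1 H) {X Y : Subgroup G} (hYH : Y ≤ H) (hYq : Nat.card Y = q)
    (hXH : X ≤ H) (hXp : Nat.card X = p) (hXY : Y ≤ centralizer (X : Set G))
    (u1 : ∀ X' : Subgroup G, X' ≤ H → Nat.card X' = p → X' ≤ centralizer (X : Set G) →
      X' ≤ centralizer (Y : Set G) → X' = X)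
    (u2 : ∀ (s : ℕ) (B : Subgroup G), s.Prime → B ≤ H ⊓ normalizer (X : Set G) →
      IsElementaryAbelian s B → Nat.card B = s ^ 2 → s = p) :
    X ≤ ⁅sigmaCore H, sigmaCore H⁆ := by
  have hpp : p.Prime := Fact.out
  have hqq : q.Prime := Fact.out
  have hU := Cfsg.Agent.Lib.Helper49_SigmaDisjoint.uniqHyp hG
  have hKH : sigmaCore H ≤ H := Cfsg.Agent.Lib.Helper23_SigmaHall.sigmaCore_le H
  obtain ⟨S₁, E₀, hS₁, hXS₁, hE₀, hYE₀, hES⟩ :=
    exists_setup hG hH hpσ hq.2.1 hYH hYq hXH hXp hXY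
  have hcomm : ⁅E₀, E₀⁆ ≤ centralizer (S₁ : Set G) :=
    commutator_le_centralizer hG hH hpσ hpβ hE₀ hS₁.isPGroup (hS₁.le.trans hKH) hES
  have hEX : E₀ ≤ normalizer (X : Set G) :=
    le_normalizer_of_setup hS₁.isPGroup (hS₁.le.trans hKH) hXS₁ hXp hYE₀ hES hcomm hXY u1
  have hXK : X ≤ sigmaCore H := hXS₁.trans hS₁.le
  have hXcY : X ≤ centralizer (Y : Set G) := by
    rw [Subgroup.le_centralizer_iff]; exact hXY
  have hsolvE : Group.IsSolvable ↥E₀ := isSolvable_of_le hG hH hE₀.1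
  -- no `τ₂(H)`-prime divides `|E₀|`
  have hτ₂ : ∀ s : ℕ, s ∉ tau2 H := by
    intro s hs
    have : Fact s.Prime := ⟨hs.1⟩
    obtain ⟨B, hBE, hBe, hB2⟩ := exists_elemAb_le_compl hG hH hE₀ hs
    have := u2 s B hs.1 (le_inf (hBE.trans hE₀.1) (hBE.trans hEX)) hBe hB2
    exact hs.2.1 (this ▸ hpσ)
  have hτ : ∀ s : ℕ, s.Prime → s ∣ Nat.card E₀ → s ∈ tau1 H ∨ s ∈ tau3 H := by
    intro s hs hd
    have hsσ : s ∉ sigma H := (piHall_of_isComplIn (sigma_hall hG hH) hE₀).2.1 s hs hd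
    have hsH : s ∣ Nat.card H := hd.trans (Subgroup.card_dvd_of_le hE₀.1)
    by_cases h1 : PRankLE s 1 ↥H
    · by_cases h2 : s ∣ Nat.card ↥⁅H, H⁆
      · exact Or.inr ⟨hs, hsσ, h2, h1⟩
      · exact Or.inl ⟨hs, hsσ, hsH, h2, h1⟩
    · exact absurd ⟨hs, hsσ,
        Cfsg.Agent.Lib.Helper23_SigmaHall.pRankLE_of_not_mem_sigma hG hU hH hs hsσ, h1⟩ (hτ₂ s)
  -- the two Hall subgroups
  have hYτ : ∀ r : ℕ, r.Prime → r ∣ Nat.card Y → r ∈ tau1 H := by
    intro r hr hd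
    rw [hYq] at hd
    rw [(Nat.prime_dvd_prime_iff_eq hr hqq).1 hd]
    exact hq
  obtain ⟨C₁, hC₁, hYC₁⟩ := exists_piHall_ge (π := tau1 H) hsolvE hYE₀ hYτ
  obtain ⟨E₃, hE₃⟩ := exists_piHall (tau3 H) E₀ hsolvE
  have hC₁X : C₁ ≤ centralizer (X : Set G) :=
    hall_tau1_le_centralizer hG h28 hH hE₀ hq hYq hC₁ hYC₁ hXK hXcY
  have hE₃X : E₃ ≤ centralizer (X : Set G) := by
    have h1 := ((Cfsg.Agent.S1415.result hG H hH E₀ hE₀).2.2 E₃
      ((isPiHallOf_iff (tau3 H) E₃ E₀).mpr hE₃)).2.1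
    exact (h1.trans hcomm).trans (Subgroup.centralizer_le hXS₁)
  have hE₀X : E₀ ≤ centralizer (X : Set G) := by
    apply Cfsg.Agent.Lib.Helper62_BG117.le_of_forall_sylow_le
    intro s hs
    by_cases hd : s ∣ Nat.card E₀
    · rcases hτ s hs hd with h | h
      · refine ⟨C₁, hC₁X, hC₁.1, ?_⟩
        rw [relIndex_eq_div hC₁.1]
        exact hC₁.2.2 s hs h
      · refine ⟨E₃, hE₃X, hE₃.1, ?_⟩
        rw [relIndex_eq_div hE₃.1]
        exact hE₃.2.2 s hs h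
    · refine ⟨⊥, bot_le, bot_le, ?_⟩
      rw [Subgroup.relIndex_bot_left]
      exact hd
  have h26 := (Cfsg.Agent.S1426.result hG H hH E₀ hE₀).1
  refine le_trans (le_inf hXK ?_) h26
  rw [Subgroup.le_centralizer_iff]
  exact hE₀X

end Cfsg.Agent.Lib.Helper62_BG137
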