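import Mathlib
import Cfsg.Agent.Lib.Helper62_BG137
import Cfsg.Agent.Lib.Helper30_SigmaPartB
import Cfsg.Agent.Lib.Helper49_SigmaDisjoint
import Cfsg.Agent.Lib.Helper48_SPE
import Cfsg.Agent.Lib.Helper29_BG12b
import Cfsg.Agent.Lib.Helper47_BG1211a
import Cfsg.Agent.S1417
import Cfsg.Agent.S1422

/-!
# Bender--Glauberman 13.9: the `σ`-partition from the asymmetry lemma 13.8 (helper52)

`sigma_conj` / `sigma_disjoint` / `sigma_part`: two maximal subgroups of a minimal simple group of odd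
order with a common prime in their `σ`-sets are conjugate, given `H1428 G` (the frozen statement
S1428 = B-G 13.4 as a Prop) and `Asym G` (helper79's statement of B-G 13.8, closed).

Route (helper79, with a shortcut of helper49): a common Sylow `s`-subgroup `S` of `G` with
`N_G(S) ≤ M ∩ N` is abelian (S1422); `M_σ`, `N_σ` are not nilpotent, so `τ₂ = ∅` on both sides
(S1417); `s ∉ β`; a complement `E ≤ N_M(S)` of `M_σ` has `C_S(E) ≤ S ∩ (M_σ)' = 1` (S1426 and the normal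
`s`-complement of `M_σ`, S1414), `E'` centralizes `S`, so a Hall `τ₁(M)`-subgroup `C₁` of `E` has
`C_S(C₁) = 1`, and by S1427 + H1428 so has every subgroup `P` of prime order of `C₁`.  The prime of `P`
lies in `τ₁(N)` as well (normal `s`-complements of `N_σ` and `N'`), and 13.8 applies with `Q = Q* = S`.
-/

set_option autoImplicit false

namespace Cfsg.Agent.Lib.Helper52_BG139

open Subgroup Cfsg Cfsg.Agent.Lib.Helper22_Radical Cfsg.Agent.Lib.Helper22_BGTrans
  Cfsg.Agent.Lib.Helper84_RelSylow Cfsg.Agent.Lib.Helper49_Sigma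
  Cfsg.Agent.Lib.Helper24_CoprimeHall Cfsg.Agent.Lib.Helper24_CoprimeAction
  Cfsg.Agent.Lib.Helper76_BG13a Cfsg.Agent.Lib.Helper76_BG13b Cfsg.Agent.Lib.Helper76_BG13c
  Cfsg.Agent.Lib.Helper23_BG13Hyp

universe u

open scoped commutatorElement

variable {G : Type u} [Group G] [Finite G]

/-- if `D` has a normal `s`-complement and an abelian Sylow `s`-subgroup `S`, then `D'` lies in a
subgroup of order prime to `s` -/
theorem commutator_le_of_hasNormalPComplement {s : ℕ} [Fact s.Prime] {D S : Subgroup G}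
    (hS : IsSylowIn s S D) (hab : ∀ a ∈ S, ∀ b ∈ S, a * b = b * a)
    (h : HasNormalPComplement s ↥D) : ∃ N : Subgroup G, ⁅D, D⁆ ≤ N ∧ ¬ s ∣ Nat.card N := by
  obtain ⟨P, N₀, hN₀n, hc⟩ := h
  have hpN₀ : ¬ s ∣ Nat.card N₀ := by
    rw [← hc.index_eq_card]
    exact P.not_dvd_index
  -- `P` is commutative
  have hPab : ∀ a ∈ (P : Subgroup D), ∀ b ∈ (P : Subgroup D), a * b = b * a := by
    obtain ⟨g, hg⟩ := MulAction.exists_smul_eq D hS.toSylow P
    have hmem : ∀ a : D, a ∈ (P : Subgroup D) → ((g⁻¹ * a * g : D) : G) ∈ S := by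
      intro a ha
      rw [← hg, Sylow.coe_subgroup_smul, Subgroup.mem_pointwise_smul_iff_inv_smul_mem] at ha
      have h1 : (MulAut.conj g)⁻¹ • a = g⁻¹ * a * g := by
        rw [MulAut.smul_def, MulAut.conj_inv_apply]
      rw [h1, IsSylowIn.coe_toSylow, Subgroup.mem_subgroupOf] at ha
      exact ha
    intro a ha b hb
    have h1 := hab _ (hmem a ha) _ (hmem b hb)
    have h2 : (g⁻¹ * a * g) * (g⁻¹ * b * g) = (g⁻¹ * b * g) * (g⁻¹ * a * g) := Subtype.ext h1
    have h3 : g⁻¹ * (a * b) * g = g⁻¹ * (b * a) * g := by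
      calc g⁻¹ * (a * b) * g = (g⁻¹ * a * g) * (g⁻¹ * b * g) := by group
        _ = (g⁻¹ * b * g) * (g⁻¹ * a * g) := h2
        _ = g⁻¹ * (b * a) * g := by group
    have h4 := mul_left_cancel (mul_right_cancel h3)
    exact h4
  have hcomm : IsMulCommutative (↥D ⧸ N₀) := by
    refine ⟨⟨?_⟩⟩
    intro x y
    obtain ⟨a, rfl⟩ := QuotientGroup.mk_surjective x
    obtain ⟨b, rfl⟩ := QuotientGroup.mk_surjective y
    obtain ⟨⟨⟨n₁, hn₁⟩, ⟨p₁, hp₁⟩⟩, h1, -⟩ := (Subgroup.isComplement_iff_existsUnique.mp hc) a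
    obtain ⟨⟨⟨n₂, hn₂⟩, ⟨p₂, hp₂⟩⟩, h2, -⟩ := (Subgroup.isComplement_iff_existsUnique.mp hc) b
    simp only at h1 h2
    have e1 : (QuotientGroup.mk a : ↥D ⧸ N₀) = QuotientGroup.mk p₁ := by
      rw [← h1, QuotientGroup.mk_mul, (QuotientGroup.eq_one_iff n₁).2 hn₁, one_mul]
    have e2 : (QuotientGroup.mk b : ↥D ⧸ N₀) = QuotientGroup.mk p₂ := by
      rw [← h2, QuotientGroup.mk_mul, (QuotientGroup.eq_one_iff n₂).2 hn₂, one_mul]
    rw [e1, e2, ← QuotientGroup.mk_mul, ← QuotientGroup.mk_mul, hPab p₁ hp₁ p₂ hp₂]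
  have hle : _root_.commutator ↥D ≤ N₀ :=
    Subgroup.Normal.quotient_commutative_iff_commutator_le.mp hcomm
  refine ⟨N₀.map D.subtype, ?_, ?_⟩
  · rw [← Subgroup.map_subtype_commutator]
    exact Subgroup.map_mono hle
  · rw [Subgroup.card_map_of_injective D.subtype_injective]
    exact hpN₀


/-- helper79's asymmetry statement (Bender--Glauberman 13.8), universally closed -/
def Asym (G : Type u) [Group G] [Finite G] : Prop :=
  ∀ (M Ms : Subgroup G), IsCoatom M → IsCoatom Ms →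
    (∀ g : G, Ms ≠ M.map (MulAut.conj g).toMonoidHom) →
    ∀ (p q qs : ℕ) [Fact p.Prime] [Fact q.Prime] [Fact qs.Prime], p ∈ tau1 M → p ∈ tau1 Ms →
    ∀ (P Q Qs : Subgroup G), Nat.card P = p → P ≤ M ⊓ Ms →
      Cfsg.Agent.Lib.Helper48_SPE.IsSylowIn q Q (M ⊓ Ms) →
      Cfsg.Agent.Lib.Helper48_SPE.IsSylowIn qs Qs (M ⊓ Ms) →
      P ≤ normalizer (Q : Set G) → P ≤ normalizer (Qs : Set G) →
      Q ⊓ centralizer (P : Set G) = ⊥ → Qs ⊓ centralizer (P : Set G) = ⊥ →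
      normalizer (Q : Set G) ≤ Ms → normalizer (Qs : Set G) ≤ M → False

omit [Finite G] in
/-- the index form of "Sylow in `K`" implies the maximality form -/
theorem isSylowIn_spe {p : ℕ} [Fact p.Prime] {P K : Subgroup G} [Finite K] (h : IsSylowIn p P K) :
    Cfsg.Agent.Lib.Helper48_SPE.IsSylowIn p P K := by
  refine ⟨h.le, h.isPGroup, ?_⟩
  intro R hR hPR hRK
  exact h.eq_of_le hPR hRK hR

/-- one side of the configuration: `S` a Sylow `s`-subgroup of `G` with `N_G(S) ≤ M ∩ N`, `M ≠ N`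
non-conjugate.  There is a subgroup `P ≤ N_M(S)` of prime order `p ∈ τ₁(M)` acting fixed-point-freely
on `S`. -/
theorem exists_tau1 (hG : IsMinSimpleOddOrder G) (h28 : H1428 G) {M N : Subgroup G}
    (hM : IsCoatom M) (hN : IsCoatom N) {s : ℕ} [Fact s.Prime] (hsM : s ∈ sigma M)
    (hsN : s ∈ sigma N) {S : Subgroup G} (hSM : SylM s M S)
    (hnc : ∀ g : G, N ≠ cj g M) (hSab : ∀ a ∈ S, ∀ b ∈ S, a * b = b * a) :
    ∃ (p : ℕ) (P : Subgroup G), p ∈ tau1 M ∧ Nat.card P = p ∧ P ≤ M ∧ P ≤ normalizer (S : Set G) ∧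
      S ⊓ centralizer (P : Set G) = ⊥ := by
  have hss : s.Prime := Fact.out
  have hU := Cfsg.Agent.Lib.Helper49_SigmaDisjoint.uniqHyp hG
  have hSp : IsPGroup s S := hSM.1.isPGroup
  have hHM := Cfsg.Agent.Lib.Helper76_BG13b.sigma_hall hG hM
  have hnilM : ¬ Group.IsNilpotent ↥(sigmaCore M) :=
    fun h => Cfsg.Agent.Lib.Helper49_SigmaDisjoint.sigma_inter_sigma hG hM hN hnc h hHM hsM hsN
  have hsβ : s ∉ beta M :=
    fun h => Cfsg.Agent.Lib.Helper49_SigmaDisjoint.alpha_inter_sigma hG hM hN hnc h.1 hsN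
  have hKM : sigmaCore M ≤ M := Cfsg.Agent.Lib.Helper23_SigmaHall.sigmaCore_le M
  have hSK : S ≤ sigmaCore M :=
    Cfsg.Agent.Lib.Helper76_BG13b.le_sigmaCore_of_isPGroup' hG hM hsM hSp hSM.2.1
  have hSsyl : IsSylowIn s S (sigmaCore M) := hSM.1.mono hSK le_top
  obtain ⟨E, hE, hES⟩ := Cfsg.Agent.Lib.Helper30_SigmaPartB.exists_compl_le_normalizer hHM hSsyl
  have hcomm : ⁅E, E⁆ ≤ centralizer (S : Set G) :=
    Cfsg.Agent.Lib.Helper62_BG137.commutator_le_centralizer hG hM hsM hsβ hE hSp hSM.2.1 hES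
  have h14 := (Cfsg.Agent.S1414.result hG M hM).2.2.2.2 s hss hsM.2.1 hsβ
  -- `C_S(E) = 1`
  have hSE : S ⊓ centralizer (E : Set G) = ⊥ := by
    obtain ⟨N₁, hN₁, hsN₁⟩ := commutator_le_of_hasNormalPComplement hSsyl hSab h14.2.1
    have h26 := (Cfsg.Agent.S1426.result hG M hM E hE).1
    rw [eq_bot_iff]
    intro x hx
    have hx1 : x ∈ N₁ := hN₁ (h26 ⟨hSK hx.1, hx.2⟩)
    have hdisj : N₁ ⊓ S = ⊥ := by
      apply (Subgroup.disjoint_of_coprime_natCard ?_).eq_bot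
      obtain ⟨k, hk⟩ := IsPGroup.iff_card.mp hSp
      rw [hk]
      exact ((Nat.Prime.coprime_iff_not_dvd hss).2 hsN₁).symm.pow_right k
    have : x ∈ N₁ ⊓ S := ⟨hx1, hx.1⟩
    rwa [hdisj] at this
  have hsolvE : Group.IsSolvable ↥E := isSolvable_of_le hG hM hE.1
  -- no `τ₂(M)`-prime
  have hτ₂ : ∀ t : ℕ, t ∉ tau2 M := by
    intro t ht
    have : Fact t.Prime := ⟨ht.1⟩
    obtain ⟨B, hBE, hBe, hB2⟩ := exists_elemAb_le_compl hG hM hE ht
    exact hnilM (Cfsg.Agent.S1417.result hG M hM t ht B ⟨hBE.trans hE.1, hBe, hB2⟩).1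
  have hτ : ∀ t : ℕ, t.Prime → t ∣ Nat.card E → t ∈ tau1 M ∨ t ∈ tau3 M := by
    intro t ht hd
    have htσ : t ∉ sigma M := (piHall_of_isComplIn hHM hE).2.1 t ht hd
    have htM : t ∣ Nat.card M := hd.trans (Subgroup.card_dvd_of_le hE.1)
    by_cases h1 : PRankLE t 1 ↥M
    · by_cases h2 : t ∣ Nat.card ↥⁅M, M⁆
      · exact Or.inr ⟨ht, htσ, h2, h1⟩
      · exact Or.inl ⟨ht, htσ, htM, h2, h1⟩
    · exact absurd ⟨ht, htσ,
        Cfsg.Agent.Lib.Helper23_SigmaHall.pRankLE_of_not_mem_sigma hG hU hM ht htσ, h1⟩ (hτ₂ t)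
  obtain ⟨C₁, hC₁⟩ := exists_piHall (tau1 M) E hsolvE
  obtain ⟨E₃, hE₃⟩ := exists_piHall (tau3 M) E hsolvE
  have hE₃S : E₃ ≤ centralizer (S : Set G) := by
    have h1 := ((Cfsg.Agent.S1415.result hG M hM E hE).2.2 E₃
      ((isPiHallOf_iff (tau3 M) E₃ E).mpr hE₃)).2.1
    exact h1.trans hcomm
  -- `C_S(C₁) = 1`
  have hSC₁ : S ⊓ centralizer (C₁ : Set G) = ⊥ := by
    rw [eq_bot_iff, ← hSE]
    intro x hx
    refine ⟨hx.1, ?_⟩
    have hEx : E ≤ centralizer ({x} : Set G) := by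
      apply Cfsg.Agent.Lib.Helper62_BG117.le_of_forall_sylow_le
      intro t ht
      by_cases hd : t ∣ Nat.card E
      · rcases hτ t ht hd with h | h
        · refine ⟨C₁, ?_, hC₁.1, ?_⟩
          · intro c hc
            rw [mem_centralizer_iff]
            intro y hy
            rw [Set.mem_singleton_iff] at hy
            rw [hy]
            exact ((mem_centralizer_iff.mp hx.2) c hc).symm
          · rw [relIndex_eq_div hC₁.1]
            exact hC₁.2.2 t ht h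
        · refine ⟨E₃, ?_, hE₃.1, ?_⟩
          · intro c hc
            rw [mem_centralizer_iff]
            intro y hy
            rw [Set.mem_singleton_iff] at hy
            rw [hy]
            exact (mem_centralizer_iff.mp (hE₃S hc)) x hx.1
          · rw [relIndex_eq_div hE₃.1]
            exact hE₃.2.2 t ht h
      · refine ⟨⊥, bot_le, bot_le, ?_⟩
        rw [Subgroup.relIndex_bot_left]
        exact hd
    show x ∈ centralizer (E : Set G)
    rw [mem_centralizer_iff]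
    intro e he
    exact ((mem_centralizer_iff.mp (hEx he)) x rfl).symm
  have hS1 : S ≠ ⊥ := by
    intro h
    have h1 := hSM.1.not_dvd
    rw [h, Subgroup.relIndex_bot_left] at h1
    apply h1
    rw [Subgroup.card_top]
    exact hsM.2.1.trans (Subgroup.card_subgroup_dvd_card M)
  have hC₁1 : C₁ ≠ ⊥ := by
    intro h
    apply hS1
    rw [eq_bot_iff, ← hSC₁, h]
    intro x hx
    refine ⟨hx, ?_⟩
    show x ∈ centralizer ((⊥ : Subgroup G) : Set G)
    rw [mem_centralizer_iff]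
    intro y hy
    rw [SetLike.mem_coe, Subgroup.mem_bot] at hy
    rw [hy, one_mul, mul_one]
  -- a subgroup of prime order of `C₁`
  have hcard : Nat.card C₁ ≠ 1 := fun h => hC₁1 ((Subgroup.card_eq_one).mp h)
  obtain ⟨p, hp, hpd⟩ := Nat.exists_prime_and_dvd hcard
  have : Fact p.Prime := ⟨hp⟩
  obtain ⟨y, hy⟩ := exists_prime_orderOf_dvd_card' p hpd
  set P : Subgroup G := zpowers (y : G) with hPdef
  have hPC₁ : P ≤ C₁ := by
    rw [hPdef, zpowers_le]; exact y.2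
  have hPcard : Nat.card P = p := by
    rw [hPdef, Nat.card_zpowers, Subgroup.orderOf_coe, hy]
  have hpτ : p ∈ tau1 M := hC₁.2.1 p hp hpd
  have hPE : P ≤ E := hPC₁.trans hC₁.1
  refine ⟨p, P, hpτ, hPcard, hPE.trans hE.1, hPE.trans hES, ?_⟩
  have hX : C₁ ≤ centralizer ((S ⊓ centralizer (P : Set G) : Subgroup G) : Set G) :=
    Cfsg.Agent.Lib.Helper62_BG137.hall_tau1_le_centralizer hG h28 hM hE hpτ hPcard hC₁ hPC₁
      (inf_le_left.trans hSK) inf_le_right
  rw [eq_bot_iff, ← hSC₁]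
  intro x hx
  refine ⟨hx.1, ?_⟩
  rw [← Subgroup.le_centralizer_iff] at hX
  exact hX hx

/-- `τ₂(M) = ∅` when `M_σ` is not nilpotent (S1417(a)) -/
theorem tau2_empty (hG : IsMinSimpleOddOrder G) {M : Subgroup G} (hM : IsCoatom M)
    (hnil : ¬ Group.IsNilpotent ↥(sigmaCore M)) : ∀ t : ℕ, t ∉ tau2 M := by
  intro t ht
  have : Fact t.Prime := ⟨ht.1⟩
  obtain ⟨B, hBM, hBe, hB2⟩ := Cfsg.Agent.Lib.Helper49_Alpha3.exists_elemAb_sq ht.2.2.1 ht.2.2.2
  exact hnil (Cfsg.Agent.S1417.result hG M hM t ht B ⟨hBM, hBe, hB2⟩).1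

/-- the other side: a subgroup `P ≤ N` of prime order `p ≠ s` acting fixed-point-freely on the Sylow
`s`-subgroup `S` of `G`, `N_G(S) ≤ N`, `s ∈ σ(N) ∖ β(N)`, `τ₂(N) = ∅`, has `p ∈ τ₁(N)` -/
theorem mem_tau1_other (hG : IsMinSimpleOddOrder G) {N : Subgroup G} (hN : IsCoatom N) {s : ℕ}
    [Fact s.Prime] (hsN : s ∈ sigma N) (hsβ : s ∉ beta N) {S : Subgroup G} (hSN : SylM s N S)
    (hτ₂ : ∀ t : ℕ, t ∉ tau2 N) {p : ℕ} [Fact p.Prime] (hps : p ≠ s) {P : Subgroup G}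
    (hPcard : Nat.card P = p) (hPN : P ≤ N) (hPS : P ≤ normalizer (S : Set G))
    (hfix : S ⊓ centralizer (P : Set G) = ⊥) (hS1 : S ≠ ⊥) : p ∈ tau1 N := by
  have hss : s.Prime := Fact.out
  have hpp : p.Prime := Fact.out
  have hU := Cfsg.Agent.Lib.Helper49_SigmaDisjoint.uniqHyp hG
  have hSp : IsPGroup s S := hSN.1.isPGroup
  have hPp : IsPGroup p P := IsPGroup.of_card (n := 1) (by rw [hPcard, pow_one])
  have h14 := (Cfsg.Agent.S1414.result hG N hN).2.2.2.2 s hss hsN.2.1 hsβ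
  have hcop : ∀ e ∈ P, (orderOf e).Coprime s := by
    intro e he
    have h1 : orderOf e ∣ p := by
      rw [← hPcard]; exact Subgroup.orderOf_dvd_natCard _ he
    exact Nat.Coprime.coprime_dvd_left h1 ((Nat.coprime_primes hpp hss).2 hps)
  have key : ∀ D : Subgroup G, HasNormalPComplement s ↥D → S ≤ D → P ≤ D → False := by
    intro D hD hSD hPD
    apply hS1
    rw [eq_bot_iff, ← hfix]
    intro x hx
    refine ⟨hx, ?_⟩
    show x ∈ centralizer (P : Set G)
    rw [mem_centralizer_iff]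
    intro e he
    exact Cfsg.Agent.Lib.Helper30_SigmaPartA.commute_of_hasNormalPComplement hD hSD hSp (hPD he)
      (hPS he) (hcop e he) hx
  have hSK : S ≤ sigmaCore N :=
    Cfsg.Agent.Lib.Helper76_BG13b.le_sigmaCore_of_isPGroup' hG hN hsN hSp hSN.2.1
  have hpσ : p ∉ sigma N := by
    intro h
    exact key _ h14.2.1 hSK
      (Cfsg.Agent.Lib.Helper76_BG13b.le_sigmaCore_of_isPGroup' hG hN h hPp hPN)
  have hpN : p ∣ Nat.card N := by
    rw [← hPcard]; exact Subgroup.card_dvd_of_le hPN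
  have hr2 : PRankLE p 2 ↥N :=
    Cfsg.Agent.Lib.Helper23_SigmaHall.pRankLE_of_not_mem_sigma hG hU hN hpp hpσ
  have hr1 : PRankLE p 1 ↥N := by
    by_contra h
    exact hτ₂ p ⟨hpp, hpσ, hr2, h⟩
  refine ⟨hpp, hpσ, hpN, ?_, hr1⟩
  intro hd
  -- `P ≤ N'`
  have hp2 : p ≠ 2 := Cfsg.Agent.Lib.Helper29_BG12b.ne_two_of_dvd hG.1 hpN
  let T : Sylow p ↥N := default
  have hT : IsCyclic ↥(T : Subgroup ↥N) :=
    Cfsg.Agent.Lib.Helper29_BG12b.isCyclic_of_rank_one (le_refl N) hp2 hr1 _ T.2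
  have hd' : p ∣ Nat.card ↥(_root_.commutator ↥N) := by
    rw [← Subgroup.map_subtype_commutator, Subgroup.card_map_of_injective N.subtype_injective] at hd
    exact hd
  have hidx : ¬ p ∣ (_root_.commutator ↥N).index := by
    rcases Sylow.not_dvd_card_commutator_or_not_dvd_index_commutator T with h | h
    · exact absurd hd' h
    · exact h
  have hPN' : P ≤ ⁅N, N⁆ := by
    have h1 : P.subgroupOf N ≤ _root_.commutator ↥N := by
      apply Cfsg.Agent.Lib.Helper70_BG106.le_of_coprime_index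
      rw [Cfsg.Agent.Lib.Helper1_Transport.card_subgroupOf hPN, hPcard]
      exact (Nat.Prime.coprime_iff_not_dvd hpp).2 hidx
    rw [← Subgroup.map_subtype_commutator, ← Subgroup.map_subgroupOf_eq_of_le hPN]
    exact Subgroup.map_mono h1
  have hSN' : S ≤ ⁅N, N⁆ :=
    (Cfsg.Agent.Lib.Helper47_BG1211a.sylow_le_commutator_normalizer hG hSN.1).trans
      (Subgroup.commutator_mono hSN.2.2 hSN.2.2)
  exact key _ h14.1 hSN' hPN'

/-- the core: non-conjugate maximal subgroups `M`, `N` with a common Sylow `s`-subgroup `S` of `G`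
whose normalizer lies in both -/
theorem core (hG : IsMinSimpleOddOrder G) (h28 : H1428 G) (hA : Asym G) {M N : Subgroup G}
    (hM : IsCoatom M) (hN : IsCoatom N) {s : ℕ} [Fact s.Prime] (hsM : s ∈ sigma M)
    (hsN : s ∈ sigma N) {S : Subgroup G} (hSM : SylM s M S) (hSN : SylM s N S)
    (hnc : ∀ g : G, N ≠ cj g M) : False := by
  have hnc' : ∀ g : G, M ≠ cj g N := by
    intro g h
    apply hnc g⁻¹
    rw [h, cj_inv_cj]
  have hMN : M ≠ N := by
    intro h
    apply hnc 1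
    rw [cj_one', h]
  have hSab : ∀ a ∈ S, ∀ b ∈ S, a * b = b * a := by
    by_contra h
    have hna : ¬ IsMulCommutative ↥S := fun hc =>
      h (fun a ha b hb => congrArg Subtype.val (hc.is_comm.comm ⟨a, ha⟩ ⟨b, hb⟩))
    obtain ⟨L, -, huniq⟩ := Cfsg.Agent.S1422.result hG s S hSM.1.isPGroup hna
    exact hMN ((huniq M ⟨hM, hSM.2.1⟩).trans (huniq N ⟨hN, hSN.2.1⟩).symm)
  obtain ⟨p, P, hpτ, hPcard, hPM, hPS, hfix⟩ := exists_tau1 hG h28 hM hN hsM hsN hSM hnc hSab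
  have : Fact p.Prime := ⟨hpτ.1⟩
  have hps : p ≠ s := fun h => hpτ.2.1 (h ▸ hsM)
  have hPN : P ≤ N := hPS.trans hSN.2.2
  have hHN := Cfsg.Agent.Lib.Helper76_BG13b.sigma_hall hG hN
  have hnilN : ¬ Group.IsNilpotent ↥(sigmaCore N) :=
    fun h => Cfsg.Agent.Lib.Helper49_SigmaDisjoint.sigma_inter_sigma hG hN hM hnc' h hHN hsN hsM
  have hsβN : s ∉ beta N :=
    fun h => Cfsg.Agent.Lib.Helper49_SigmaDisjoint.alpha_inter_sigma hG hN hM hnc' h.1 hsM
  have hS1 : S ≠ ⊥ := by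
    intro h
    have h1 := hSM.1.not_dvd
    rw [h, Subgroup.relIndex_bot_left] at h1
    apply h1
    rw [Subgroup.card_top]
    exact hsM.2.1.trans (Subgroup.card_subgroup_dvd_card M)
  have hpτN : p ∈ tau1 N :=
    mem_tau1_other hG hN hsN hsβN hSN (tau2_empty hG hN hnilN) hps hPcard hPN hPS hfix hS1
  have hSI : IsSylowIn s S (M ⊓ N) := hSM.1.mono (le_inf hSM.2.1 hSN.2.1) le_top
  exact hA M N hM hN hnc p s s hpτ hpτN P S S hPcard (le_inf hPM hPN) (isSylowIn_spe hSI)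
    (isSylowIn_spe hSI) hPS hPS hfix hfix hSN.2.2 hSM.2.2

/-- **Bender--Glauberman 13.9** (from 13.8 and 13.4): maximal subgroups with a common prime in
their `σ`-sets are conjugate. -/
theorem sigma_conj (hG : IsMinSimpleOddOrder G) (h28 : H1428 G) (hA : Asym G) {M N : Subgroup G}
    (hM : IsCoatom M) (hN : IsCoatom N) {s : ℕ} (hsM : s ∈ sigma M) (hsN : s ∈ sigma N) :
    ∃ g : G, N = cj g M := by
  by_contra hnc
  push Not at hnc
  have hss : s.Prime := hsM.1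
  have : Fact s.Prime := ⟨hss⟩
  obtain ⟨P, hP⟩ := exists_sylM_of_mem_sigma hsM
  obtain ⟨Q, hQ⟩ := exists_sylM_of_mem_sigma hsN
  obtain ⟨g, hg⟩ := Cfsg.Agent.Lib.Helper49_SigmaDisjoint.exists_cj_eq_of_isSylowIn_top hP.1 hQ.1
  have hN' : IsCoatom (cj g⁻¹ N) := Cfsg.Agent.Lib.Helper22_Uniq.isCoatom_cj hN g⁻¹
  have hPN' : SylM s (cj g⁻¹ N) P := by
    refine ⟨hP.1, ?_, ?_⟩
    · have := cj_mono (k := g⁻¹) hQ.2.1
      rwa [hg, cj_inv_cj] at this
    · have := cj_mono (k := g⁻¹) hQ.2.2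
      rwa [← normalizer_cj, hg, cj_inv_cj] at this
  have hP1 : P ≠ ⊥ := by
    intro h
    have h1 := hP.1.not_dvd
    rw [h, Subgroup.relIndex_bot_left] at h1
    apply h1
    rw [Subgroup.card_top]
    exact hsM.2.1.trans (Subgroup.card_subgroup_dvd_card M)
  have hsN' : s ∈ sigma (cj g⁻¹ N) :=
    Cfsg.Agent.Lib.Helper49_Alpha3.mem_sigma_of_normalizer_le (hP.1.mono hPN'.2.1 le_top) hP1 hPN'.2.2
  refine core hG h28 hA hM hN' hsM hsN' hP hPN' ?_
  intro h heq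
  apply hnc (g * h)
  rw [cj_mul, ← heq, cj_cj_inv]

/-- the `σ`-sets of non-conjugate maximal subgroups are disjoint -/
theorem sigma_disjoint (hG : IsMinSimpleOddOrder G) (h28 : H1428 G) (hA : Asym G)
    {M Ms : Subgroup G} (hM : IsCoatom M) (hMs : IsCoatom Ms)
    (hnc : ∀ g : G, Ms ≠ M.map (MulAut.conj g).toMonoidHom) {s : ℕ} (hs : s ∈ sigma M) :
    s ∉ sigma Ms := by
  intro hs'
  obtain ⟨g, hg⟩ := sigma_conj hG h28 hA hM hMs hs hs'
  exact hnc g hg

/-- the second conjunct of the frozen statement S1378, from `H1428 G` and `Asym G` -/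
theorem sigma_part (hG : IsMinSimpleOddOrder G) (h28 : H1428 G) (hA : Asym G) :
    ∀ M N : Subgroup G, IsCoatom M → IsCoatom N → (sigma M ∩ sigma N).Nonempty →
      ∃ g : G, N = M.map (MulAut.conj g).toMonoidHom := by
  rintro M N hM hN ⟨s, hsM, hsN⟩
  exact sigma_conj hG h28 hA hM hN hsM hsN

end Cfsg.Agent.Lib.Helper52_BG139
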