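import Cfsg.Agent.Lib.Helper62_BG137
import Cfsg.Agent.Lib.Helper70_KeySig
import Cfsg.Agent.S1408
import Cfsg.Agent.S1417
import Cfsg.Agent.S1418
import Cfsg.Agent.S1419

/-!
# Bender–Glauberman Theorem 13.7 (`tau12_regular`) from S1428 (helper62)

`f1_of_h1428 : H1428 G → F1 G`: a nonregular subgroup `Y` of order `q ∈ τ₁(M)` of a complement `E`
of `M_σ` acts fixed-point-freely on the normal elementary abelian subgroup `A` of order `p ^ 2` of
`E`, `p ∈ τ₂(M)`.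
-/

set_option autoImplicit false

namespace Cfsg.Agent.Lib.Helper62_BG137

open Subgroup Cfsg Cfsg.Agent.Lib.Helper22_Radical Cfsg.Agent.Lib.Helper22_BGTrans
  Cfsg.Agent.Lib.Helper84_RelSylow Cfsg.Agent.Lib.Helper49_Sigma
  Cfsg.Agent.Lib.Helper24_CoprimeHall Cfsg.Agent.Lib.Helper24_CoprimeAction
  Cfsg.Agent.Lib.Helper76_BG13a Cfsg.Agent.Lib.Helper76_BG13b Cfsg.Agent.Lib.Helper76_BG13c
  Cfsg.Agent.Lib.Helper23_BG13Hyp

universe u

open scoped commutatorElement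

variable {G : Type u} [Group G] [Finite G]

/-- an element all of whose `p`-power-order powers and `p'`-order powers lie in `K` lies in `K` -/
theorem mem_of_parts {K : Subgroup G} {c : G} (p : ℕ) [Fact p.Prime]
    (h1 : ∀ j : ℕ, (∃ k : ℕ, (c ^ j) ^ p ^ k = 1) → c ^ j ∈ K)
    (h2 : ∀ j : ℕ, (orderOf (c ^ j)).Coprime p → c ^ j ∈ K) : c ∈ K := by
  have hpp : p.Prime := Fact.out
  have hm0 : orderOf c ≠ 0 := (orderOf_pos c).ne'
  obtain ⟨a, m', hm', hm⟩ := Nat.exists_eq_pow_mul_and_not_dvd hm0 p hpp.ne_one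
  have hA : c ^ m' ∈ K := by
    apply h1
    refine ⟨a, ?_⟩
    rw [← pow_mul, mul_comm, ← hm, pow_orderOf_eq_one]
  have hB : c ^ p ^ a ∈ K := by
    apply h2
    have hd : orderOf (c ^ p ^ a) ∣ m' := by
      apply orderOf_dvd_of_pow_eq_one
      rw [← pow_mul, ← hm, pow_orderOf_eq_one]
    exact Nat.Coprime.coprime_dvd_left hd ((Nat.Prime.coprime_iff_not_dvd hpp).2 hm').symm
  have hcop : Nat.Coprime m' (p ^ a) :=
    (((Nat.Prime.coprime_iff_not_dvd hpp).2 hm').symm).pow_right a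
  have hbez := Nat.gcd_eq_gcd_ab m' (p ^ a)
  rw [hcop.gcd_eq_one] at hbez
  have hc : c = (c ^ m') ^ (Nat.gcdA m' (p ^ a)) * (c ^ p ^ a) ^ (Nat.gcdB m' (p ^ a)) := by
    rw [← zpow_natCast c m', ← zpow_natCast c (p ^ a), ← zpow_mul, ← zpow_mul, ← zpow_add, ← hbez]
    simp
  rw [hc]
  exact K.mul_mem (K.zpow_mem hA _) (K.zpow_mem hB _)

/-- if the normalizer of the narrow `p`-group `A` does not normalize `C_A(Y)`, `Y ≤ N_G(A)`, then some
`p`-element of `N_G(A)` does not centralize `A` -/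
theorem exists_pelement (hG : IsMinSimpleOddOrder G) {p : ℕ} [Fact p.Prime] (hp2 : p ≠ 2)
    {A Y : Subgroup G} (hAp : IsPGroup p A) (hAn : IsNarrow p ↥A)
    (hYN : Y ≤ normalizer (A : Set G))
    (hnot : ¬ normalizer (A : Set G) ≤ normalizer ((A ⊓ centralizer (Y : Set G) : Subgroup G) : Set G)) :
    ∃ t ∈ normalizer (A : Set G), (∃ k : ℕ, t ^ p ^ k = 1) ∧ t ∉ centralizer (A : Set G) := by
  by_contra hcon
  push Not at hcon
  apply hnot
  have hder : ∀ c ∈ ⁅normalizer (A : Set G), normalizer (A : Set G)⁆, c ∈ centralizer (A : Set G) := by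
    intro c hc
    apply mem_of_parts p
    · intro j hj
      exact hcon _ ((normalizer (A : Set G)).pow_mem (Subgroup.commutator_le_self _ hc) j) hj
    · intro j hj
      exact Cfsg.Agent.Lib.Helper70_KeySig.mem_centralizer_of_mem_commutator_normalizer hp2 hG.1 A hAp
        hAn _ (Subgroup.pow_mem _ hc j) hj
  intro n hn
  apply Subgroup.mem_normalizer_fintype
  intro x hx
  obtain ⟨hxA, hxY⟩ := Subgroup.mem_inf.mp (SetLike.mem_coe.mp hx)
  rw [SetLike.mem_coe, Subgroup.mem_inf]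
  refine ⟨(mem_normalizer_iff.mp hn x).mp hxA, ?_⟩
  rw [mem_centralizer_iff]
  intro y hy
  have hc' : ⁅n⁻¹, y⁆ ∈ centralizer (A : Set G) :=
    hder _ (Subgroup.commutator_mem_commutator ((normalizer (A : Set G)).inv_mem hn) (hYN hy))
  have h1 : n⁻¹ * y * n = ⁅n⁻¹, y⁆ * y := by
    rw [commutatorElement_def]; group
  have h2 : x * ⁅n⁻¹, y⁆ = ⁅n⁻¹, y⁆ * x := (mem_centralizer_iff.mp hc') x hxA
  have h3 : y * x = x * y := (mem_centralizer_iff.mp hxY) y hy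
  have h4 : (n⁻¹ * y * n) * x = x * (n⁻¹ * y * n) := by
    rw [h1, mul_assoc, h3, ← mul_assoc, ← h2, mul_assoc]
  calc y * (n * x * n⁻¹) = n * ((n⁻¹ * y * n) * x) * n⁻¹ := by group
    _ = n * (x * (n⁻¹ * y * n)) * n⁻¹ := by rw [h4]
    _ = n * x * n⁻¹ * y := by group

/-- **Step 1.** `C_A(Y)` has order `p`. -/
theorem card_fix (hG : IsMinSimpleOddOrder G) (h28 : H1428 G) {M E A Y : Subgroup G}
    (hM : IsCoatom M) (hE : IsComplIn E (sigmaCore M) M) {p q : ℕ} [Fact p.Prime]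
    (hq : q ∈ tau1 M) (hYE : Y ≤ E) (hYq : Nat.card Y = q)
    (hD : sigmaCore M ⊓ centralizer (Y : Set G) ≠ ⊥) (hp : p ∈ tau2 M) (hAE : A ≤ E)
    (hAe : IsElementaryAbelian p A) (hA2 : Nat.card A = p ^ 2)
    (hX : A ⊓ centralizer (Y : Set G) ≠ ⊥) :
    Nat.card ↥(A ⊓ centralizer (Y : Set G) : Subgroup G) = p := by
  have hpp : p.Prime := Fact.out
  have h17 := Cfsg.Agent.S1417.result hG M hM p hp A ⟨hAE.trans hE.1, hAe, hA2⟩
  have hdvd : Nat.card ↥(A ⊓ centralizer (Y : Set G) : Subgroup G) ∣ p ^ 2 := by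
    rw [← hA2]; exact Subgroup.card_dvd_of_le inf_le_left
  obtain ⟨k, hk, hcard⟩ := (Nat.dvd_prime_pow hpp).1 hdvd
  interval_cases k
  · exfalso
    rw [pow_zero] at hcard
    exact hX (Subgroup.card_eq_one.mp hcard)
  · rw [hcard, pow_one]
  · exfalso
    have hXA : A ⊓ centralizer (Y : Set G) = A :=
      Subgroup.eq_of_le_of_card_ge inf_le_left (by rw [hcard, hA2])
    have hAY : A ≤ centralizer (Y : Set G) := hXA ▸ inf_le_right
    apply hD
    rw [eq_bot_iff, ← h17.2.2.2.1]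
    intro d hd
    refine ⟨hd.1, ?_⟩
    show d ∈ centralizer (A : Set G)
    rw [mem_centralizer_iff]
    intro a ha
    by_cases ha1 : a = 1
    · rw [ha1, one_mul, mul_one]
    have hord : orderOf a = p := orderOf_eq_prime (hAe.2 a ha) ha1
    have hR := h28 M hM E hE q hq Y hYE hYq (zpowers a)
      (le_inf ((zpowers_le).2 (hAE ha)) ((zpowers_le).2 (hAY ha)))
      (by rw [Nat.card_zpowers, hord]; exact hpp)
    exact (mem_centralizer_iff.mp (hR hd).2) a (mem_zpowers a)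

omit [Finite G] in
/-- `Y` inside a subgroup `N` normalized by `A`, `Y` normalizing `A`, `N ∩ A = 1`: `A` centralizes `Y` -/
theorem le_centralizer_of_disjoint {N A Y : Subgroup G} (hYN : Y ≤ N)
    (hAN : A ≤ normalizer (N : Set G)) (hYA : Y ≤ normalizer (A : Set G)) (hdisj : N ⊓ A = ⊥) :
    A ≤ centralizer (Y : Set G) := by
  intro a ha
  rw [mem_centralizer_iff]
  intro y hy
  have h1 : a * y * a⁻¹ ∈ N := (mem_normalizer_iff.mp (hAN ha) y).mp (hYN hy)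
  have h2 : y * a⁻¹ * y⁻¹ ∈ A := (mem_normalizer_iff.mp (hYA hy) a⁻¹).mp (A.inv_mem ha)
  have h3 : a * y * a⁻¹ * y⁻¹ ∈ N ⊓ A := by
    refine ⟨N.mul_mem h1 (N.inv_mem (hYN hy)), ?_⟩
    have e1 : a * y * a⁻¹ * y⁻¹ = a * (y * a⁻¹ * y⁻¹) := by group
    rw [e1]
    exact A.mul_mem ha h2
  rw [hdisj, Subgroup.mem_bot] at h3
  have e2 : y * a = (a * y * a⁻¹ * y⁻¹)⁻¹ * (a * y) := by group
  rw [e2, h3, inv_one, one_mul]

/-- **`q ∈ τ₁(H)`**: `p ∈ σ(H) ∖ β(H)`, `A ≤ H` a `p`-subgroup, `Y ≤ H` of prime order `q ≠ p` normalizing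
but not centralizing `A`, and `q ∉ τ₂(H)`. -/
theorem mem_tau1_of (hG : IsMinSimpleOddOrder G) {H A Y : Subgroup G} (hH : IsCoatom H)
    {p q : ℕ} [Fact p.Prime] [Fact q.Prime] (hpq : p ≠ q) (hpσ : p ∈ sigma H) (hpβ : p ∉ beta H)
    (hAH : A ≤ H) (hAp : IsPGroup p A) (hYH : Y ≤ H) (hYq : Nat.card Y = q)
    (hYA : Y ≤ normalizer (A : Set G)) (hnc : ¬ A ≤ centralizer (Y : Set G))
    (hτ₂ : q ∉ tau2 H) : q ∈ tau1 H := by
  have hpp : p.Prime := Fact.out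
  have hqq : q.Prime := Fact.out
  have hU := Cfsg.Agent.Lib.Helper49_SigmaDisjoint.uniqHyp hG
  obtain ⟨hD, hK, -⟩ := (Cfsg.Agent.S1414.result hG H hH).2.2.2.2 p hpp hpσ.2.1 hpβ
  have hYqg : IsPGroup q Y := IsPGroup.of_card (n := 1) (by rw [hYq, pow_one])
  have hqH : q ∣ Nat.card H := by
    rw [← hYq]; exact Subgroup.card_dvd_of_le hYH
  have hYcop : ∀ y ∈ Y, (orderOf y).Coprime p := by
    intro y hy
    have h1 : orderOf y ∣ q := by
      have := orderOf_dvd_natCard (⟨y, hy⟩ : Y)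
      rwa [Subgroup.orderOf_mk, hYq] at this
    exact Nat.Coprime.coprime_dvd_left h1 ((Nat.coprime_primes hqq hpp).2 (Ne.symm hpq))
  have hkey : ∀ D : Subgroup G, H ≤ normalizer (D : Set G) → HasNormalPComplement p ↥D → Y ≤ D → False := by
    intro D hDH hDc hYD
    obtain ⟨N, -, hHN, hpN, hmem⟩ := exists_pcompl hDH hDc
    apply hnc
    apply le_centralizer_of_disjoint (N := N) (fun y hy => hmem y (hYD hy) (hYcop y hy))
      (hAH.trans hHN) hYA
    apply (Subgroup.disjoint_of_coprime_natCard ?_).eq_bot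
    obtain ⟨k, hk⟩ := IsPGroup.iff_card.mp hAp
    rw [hk]
    exact ((Nat.Prime.coprime_iff_not_dvd hpp).2 hpN).symm.pow_right k
  have hqσ : q ∉ sigma H := by
    intro hqσ
    exact hkey (sigmaCore H) (le_normalizer_sigmaCore' H) hK
      (le_sigmaCore_of_isPGroup' hG hH hqσ hYqg hYH)
  have hr2 : PRankLE q 2 ↥H := Cfsg.Agent.Lib.Helper23_SigmaHall.pRankLE_of_not_mem_sigma hG hU hH hqq hqσ
  have hr1 : PRankLE q 1 ↥H := by
    by_contra h
    exact hτ₂ ⟨hqq, hqσ, hr2, h⟩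
  refine ⟨hqq, hqσ, hqH, ?_, hr1⟩
  intro hq3
  have hq3' : q ∈ tau3 H := ⟨hqq, hqσ, hq3, hr1⟩
  have hsolvH := isSolvable_of_isCoatom hG hH
  have hYσ : ∀ r : ℕ, r.Prime → r ∣ Nat.card Y → r ∉ sigma H := by
    intro r hr hd
    rw [hYq] at hd
    rw [(Nat.prime_dvd_prime_iff_eq hr hqq).1 hd]
    exact hqσ
  obtain ⟨E', hE', hYE'⟩ := exists_compl_ge hsolvH (sigma_hall hG hH) hYH hYσ
  have hsolvE : Group.IsSolvable ↥E' := isSolvable_of_le hG hH hE'.1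
  have hYτ : ∀ r : ℕ, r.Prime → r ∣ Nat.card Y → r ∈ tau3 H := by
    intro r hr hd
    rw [hYq] at hd
    rw [(Nat.prime_dvd_prime_iff_eq hr hqq).1 hd]
    exact hq3'
  obtain ⟨E₃, hE₃, hYE₃⟩ := exists_piHall_ge (π := tau3 H) hsolvE hYE' hYτ
  have h1 := ((Cfsg.Agent.S1415.result hG H hH E' hE').2.2 E₃
    ((isPiHallOf_iff (tau3 H) E₃ E').mpr hE₃)).2.1
  exact hkey ⁅H, H⁆ (Cfsg.Agent.Lib.Helper22_Basic.le_normalizer_commutator_left H H) hD
    ((hYE₃.trans h1).trans (Subgroup.commutator_mono hE'.1 hE'.1))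

/-- **Bender–Glauberman 13.7** from S1428. -/
theorem f1_of_h1428 (hG : IsMinSimpleOddOrder G) (h28 : H1428 G) : F1 G := by
  intro M hM E hE q hq Y hYE hYq hD p hp A hAE hAe hA2
  by_contra hXne
  have hpp : p.Prime := hp.1
  have hqq : q.Prime := hq.1
  have : Fact p.Prime := ⟨hpp⟩
  have : Fact q.Prime := ⟨hqq⟩
  have hU := Cfsg.Agent.Lib.Helper49_SigmaDisjoint.uniqHyp hG
  have h17full : Cfsg.Agent.Lib.Helper79_BG141.Hyp1417 G :=
    fun M hM p _ hp A hA => Cfsg.Agent.S1417.result hG M hM p hp A hA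
  have hpq : p ≠ q := by
    rintro rfl
    exact hp.2.2.2 hq.2.2.2.2
  have hEM : E ≤ M := hE.1
  have hAM : A ≤ M := hAE.trans hEM
  have hAp : IsPGroup p A := isPGroup_of_elemAb hAe
  have hpM : p ∣ Nat.card M := by
    have h1 : p ∣ Nat.card A := by rw [hA2]; exact dvd_pow_self p two_ne_zero
    exact h1.trans (Subgroup.card_dvd_of_le hAM)
  have hp2 : p ≠ 2 := Cfsg.Agent.Lib.Helper79_BG141.odd_prime hG hpM
  have h17 := Cfsg.Agent.S1417.result hG M hM p hp A ⟨hAM, hAe, hA2⟩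
  obtain ⟨⟨hEA, hEsub⟩, ⟨hCA, hMNA, hNAM⟩, h18c⟩ :=
    Cfsg.Agent.S1418.result hG M hM E hE p hp A ⟨hAE, hAe, hA2⟩
  -- Step 1
  set X : Subgroup G := A ⊓ centralizer (Y : Set G) with hXdef
  have hXp : Nat.card X = p := card_fix hG h28 hM hE hq hYE hYq hD hp hAE hAe hA2 hXne
  have hXA : X ≤ A := inf_le_left
  have hXcY : X ≤ centralizer (Y : Set G) := inf_le_right
  have hYcX : Y ≤ centralizer (X : Set G) := by
    rw [Subgroup.le_centralizer_iff]; exact hXcY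
  -- Step 2
  have hDX : sigmaCore M ⊓ centralizer (X : Set G) ≠ ⊥ := by
    intro h
    apply hD
    rw [eq_bot_iff, ← h]
    exact h28 M hM E hE q hq Y hYE hYq X (le_inf (hXA.trans hAE) hXcY) (by rw [hXp]; exact hpp)
  obtain ⟨hCXM, hCXu⟩ := h18c X hXA hXp hDX
  have hX1 : X ≠ ⊥ := hXne
  have hXtop : X ≠ ⊤ := by
    intro h
    have : (⊤ : Subgroup G) ≤ M := h ▸ (hXA.trans hAM)
    exact hM.1 (top_le_iff.mp this)
  have hNXM : normalizer (X : Set G) ≤ M := by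
    obtain ⟨L, hL, hNL⟩ := Cfsg.Agent.Lib.Helper22_Uniq.exists_isCoatom_ge (normalizer_ne_top hG hX1 hXtop)
    have := hCXu L hL ((Subgroup.centralizer_le_normalizer _).trans hNL)
    exact this ▸ hNL
  -- Step 3: a nonabelian `p`-subgroup
  have hYNA : Y ≤ normalizer (A : Set G) := hYE.trans hEA
  have hAnar : IsNarrow p ↥A := by
    left
    intro B _ _
    calc Nat.card B ≤ Nat.card A := by
          rw [← Subgroup.card_map_of_injective A.subtype_injective]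
          exact Subgroup.card_le_of_le (Subgroup.map_subtype_le B)
      _ = p ^ 2 := hA2
  obtain ⟨t, htN, htp, htC⟩ := exists_pelement hG hp2 hAp hAnar hYNA
    (fun h => hNAM (h.trans hNXM))
  have hTp : IsPGroup p (zpowers t) := isPGroup_zpowers htp
  have hTN : zpowers t ≤ normalizer (A : Set G) := (zpowers_le).2 htN
  have hS : ∀ S : Sylow p G, ¬ IsMulCommutative (S : Subgroup G) := by
    intro S hcomm
    have hTA : IsPGroup p (zpowers t ⊔ A : Subgroup G) :=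
      IsPGroup.to_sup_of_normal_right' hTp hAp hTN
    obtain ⟨g, hg⟩ := Cfsg.Agent.Lib.Helper84_RelSylow.exists_conj_le_sylow S hTA
    apply htC
    rw [mem_centralizer_iff]
    intro a ha
    have h1 := hg t (mem_sup_left (mem_zpowers t))
    have h2 := hg a (mem_sup_right ha)
    have h3 := hcomm.is_comm.comm (⟨_, h2⟩ : (S : Subgroup G)) ⟨_, h1⟩
    have h4 : g * a * g⁻¹ * (g * t * g⁻¹) = g * t * g⁻¹ * (g * a * g⁻¹) := congrArg Subtype.val h3
    have h5 : g * (a * t) * g⁻¹ = g * (t * a) * g⁻¹ := by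
      calc g * (a * t) * g⁻¹ = g * a * g⁻¹ * (g * t * g⁻¹) := by group
        _ = g * t * g⁻¹ * (g * a * g⁻¹) := h4
        _ = g * (t * a) * g⁻¹ := by group
    exact mul_left_cancel (mul_right_cancel h5)
  -- Step 5: `τ₂(M) = {p}`
  have hτ₂M : tau2 M = {p} := (Cfsg.Agent.S1419.result hG M hM E hE p hp hS A ⟨hAE, hAe, hA2⟩).1
  -- Step 4: the maximal subgroup `H₀ ≥ N_G(A)`
  have hA1 : A ≠ ⊥ := fun h => hX1 (le_bot_iff.mp (h ▸ hXA))
  have hAtop : A ≠ ⊤ := by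
    intro h
    have : (⊤ : Subgroup G) ≤ M := h ▸ hAM
    exact hM.1 (top_le_iff.mp this)
  obtain ⟨H₀, hH₀, hNH₀⟩ := Cfsg.Agent.Lib.Helper22_Uniq.exists_isCoatom_ge (normalizer_ne_top hG hA1 hAtop)
  have hH₀M : H₀ ≠ M := fun h => hNAM (h ▸ hNH₀)
  have hAH₀ : A ≤ H₀ := le_normalizer.trans hNH₀
  have hEH₀ : E ≤ H₀ := hEA.trans hNH₀
  have hYH₀ : Y ≤ H₀ := hYE.trans hEH₀
  have hXH₀ : X ≤ H₀ := hXA.trans hAH₀
  have hpσ : p ∈ sigma H₀ := by
    by_contra hσ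
    have hτ : p ∈ tau2 H₀ := ⟨hpp, hσ,
      Cfsg.Agent.Lib.Helper23_SigmaHall.pRankLE_of_not_mem_sigma hG hU hH₀ hpp hσ,
      not_pRankLE_one_of_elemAb hpp hAH₀ hAe hA2⟩
    exact htC (le_centralizer_of_tau2 h17full hH₀ hτ hAH₀ hAe hA2 (hTN.trans hNH₀) hTp hTN
      (mem_zpowers t))
  have hpβ : p ∉ beta H₀ := fun h =>
    (Cfsg.Agent.S1408.result hG M hM p hp.2.1 hp.2.2.1 hp.2.2.2).1 h.2
  have hKH₀ : sigmaCore M ⊓ H₀ = ⊥ := h17.2.2.2.2.1 H₀ hH₀ hH₀M hAH₀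
  have hMH₀ : M ⊓ H₀ ≤ E := by
    rintro m ⟨hmM, hmH⟩
    obtain ⟨a, ha, b, hb, rfl⟩ := hE.2.2.2 m hmM
    have hbH : b ∈ H₀ := by
      have e1 : b = a⁻¹ * (a * b) := by group
      rw [e1]
      exact H₀.mul_mem (H₀.inv_mem (hEH₀ ha)) hmH
    have hb1 : b ∈ sigmaCore M ⊓ H₀ := ⟨hb, hbH⟩
    rw [hKH₀, Subgroup.mem_bot] at hb1
    rw [hb1, mul_one]
    exact ha
  have hnc : ¬ A ≤ centralizer (Y : Set G) := by
    intro h
    have h1 : X = A := inf_eq_left.mpr h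
    have h2 : Nat.card X = p ^ 2 := h1 ▸ hA2
    rw [hXp] at h2
    have h3 : p ^ 1 = p ^ 2 := by rw [pow_one]; exact h2
    exact absurd (Nat.pow_right_injective hpp.two_le h3) (by norm_num)
  have hXK₀ : X ≤ sigmaCore H₀ :=
    le_sigmaCore_of_isPGroup' hG hH₀ hpσ (hAp.to_le hXA) hXH₀
  have hqτ₂ : q ∉ tau2 H₀ := by
    intro hτ
    have hsolvH := isSolvable_of_isCoatom hG hH₀
    have hYσ : ∀ r : ℕ, r.Prime → r ∣ Nat.card Y → r ∉ sigma H₀ := by
      intro r hr hd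
      rw [hYq] at hd
      rw [(Nat.prime_dvd_prime_iff_eq hr hqq).1 hd]
      exact hτ.2.1
    obtain ⟨E', hE', hYE'⟩ := exists_compl_ge hsolvH (sigma_hall hG hH₀) hYH₀ hYσ
    obtain ⟨B, hBE, hBe, hB2⟩ := exists_elemAb_le_compl hG hH₀ hE' hτ
    obtain ⟨⟨-, hsub⟩, -, h3⟩ := Cfsg.Agent.S1418.result hG H₀ hH₀ E' hE' q hτ B ⟨hBE, hBe, hB2⟩
    have hYB : Y ≤ B := hsub Y hYE' hYq
    have hne : sigmaCore H₀ ⊓ centralizer (Y : Set G) ≠ ⊥ := by
      intro h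
      apply hX1
      rw [eq_bot_iff, ← h]
      exact le_inf hXK₀ hXcY
    have hCY := (h3 Y hYB hYq hne).1
    apply hD
    rw [eq_bot_iff, ← hKH₀]
    exact le_inf inf_le_left (inf_le_right.trans hCY)
  have hqτ₁ : q ∈ tau1 H₀ :=
    mem_tau1_of hG hH₀ hpq hpσ hpβ hAH₀ hAp hYH₀ hYq hYNA hnc hqτ₂
  -- the uniqueness hypotheses of `core`
  have u1 : ∀ X' : Subgroup G, X' ≤ H₀ → Nat.card X' = p → X' ≤ centralizer (X : Set G) →
      X' ≤ centralizer (Y : Set G) → X' = X := by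
    intro X' hX'H hX'p hX'X hX'Y
    have hX'E : X' ≤ E := (le_inf (hX'X.trans hCXM) hX'H).trans hMH₀
    have hle : X' ≤ X := le_inf (hEsub X' hX'E hX'p) hX'Y
    exact Subgroup.eq_of_le_of_card_ge hle (by rw [hXp, hX'p])
  have u2 : ∀ (s : ℕ) (B : Subgroup G), s.Prime → B ≤ H₀ ⊓ normalizer (X : Set G) →
      IsElementaryAbelian s B → Nat.card B = s ^ 2 → s = p := by
    intro s B hs hB hBe hB2
    have hBE : B ≤ E := (le_inf (hB.trans (inf_le_right.trans hNXM)) (hB.trans inf_le_left)).trans hMH₀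
    have hsB : s ∣ Nat.card B := by rw [hB2]; exact dvd_pow_self s two_ne_zero
    have hsσ : s ∉ sigma M :=
      (piHall_of_isComplIn (sigma_hall hG hM) hE).2.1 s hs (hsB.trans (Subgroup.card_dvd_of_le hBE))
    have hsτ : s ∈ tau2 M := ⟨hs, hsσ,
      Cfsg.Agent.Lib.Helper23_SigmaHall.pRankLE_of_not_mem_sigma hG hU hM hs hsσ,
      not_pRankLE_one_of_elemAb hs (hBE.trans hEM) hBe hB2⟩
    rw [hτ₂M] at hsτ
    exact hsτ
  have hXder : X ≤ ⁅sigmaCore H₀, sigmaCore H₀⁆ :=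
    core hG h28 hH₀ hpσ hpβ hqτ₁ hYH₀ hYq hXH₀ hXp hYcX u1 u2
  have h23 := (Cfsg.Agent.S1423.result hG H₀ hH₀ p hpσ X hXH₀ hXp default (Or.inr hXder)).1.2
  exact hH₀M (h23 M hM hCXM).symm

end Cfsg.Agent.Lib.Helper62_BG137
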