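import Mathlib
import Cfsg.Prelude.Def_OddOrderLocal
import Cfsg.Agent.Lib.Helper24_CoprimeAction
import Cfsg.Agent.Lib.Helper51_Offender
import Cfsg.Agent.Lib.Helper84_RelSylow
import Cfsg.Agent.Lib.Helper22_Uniq4
import Cfsg.Agent.Lib.Helper22_BGTrans
import Cfsg.Agent.Lib.Helper2_PRank

/-!
# Glue lemmas for Bender–Glauberman, Theorem 13.4 (helper39)

* `commutator_le_centralizer_of_normalizes` : if `Q` normalizes `Y`, `R` centralizes `Y`, then `⁅Q, R⁆`
  centralizes `Y`.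
* `le_centralizer_of_regular` : if moreover `R` normalizes `Q`, acts coprimely and without nontrivial fixed
  point on `Q`, then `Q` centralizes `Y`.
* `false_of_cent_eq` : the final contradiction of the proof of Theorem 13.4 (the "symmetry" step).
* `commutator_sup_le`, `mem_tau1_of_le_sup`, `mem_tau1_and_alphaCore_ne_bot` : if `M = M_β (H ∩ M)` then
  `τ₁(H) ∩ π(M) ∖ σ(M) ⊆ τ₁(M)` and `M_α ≠ 1`.
-/

set_option autoImplicit false

namespace Cfsg.Agent.Lib.Helper39_BG134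

open Subgroup Cfsg
open scoped commutatorElement

variable {G : Type*} [Group G]

/-- if `Q` normalizes `Y` and `R` centralizes `Y` then `⁅Q, R⁆` centralizes `Y` -/
theorem commutator_le_centralizer_of_normalizes (Q R Y : Subgroup G)
    (hQY : Q ≤ normalizer (Y : Set G)) (hRY : R ≤ centralizer (Y : Set G)) :
    ⁅Q, R⁆ ≤ centralizer (Y : Set G) := by
  rw [Subgroup.commutator_le]
  intro x hx t ht
  rw [Subgroup.mem_centralizer_iff]
  intro y hy
  -- `y' = x⁻¹ y x ∈ Y`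
  have hy' : x⁻¹ * y * x ∈ Y := by
    have := (Subgroup.mem_normalizer_iff.mp (Subgroup.inv_mem _ (hQY hx)) y).mp hy
    simpa using this
  have h1 : t * (x⁻¹ * y * x) = (x⁻¹ * y * x) * t :=
    ((Subgroup.mem_centralizer_iff.mp (hRY ht)) _ hy').symm
  have h2 : t * y = y * t := ((Subgroup.mem_centralizer_iff.mp (hRY ht)) _ hy).symm
  have h2' : t⁻¹ * y = y * t⁻¹ := by
    have : t⁻¹ * (t * y) * t⁻¹ = t⁻¹ * (y * t) * t⁻¹ := by rw [h2]
    have e1 : t⁻¹ * (t * y) * t⁻¹ = y * t⁻¹ := by group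
    have e2 : t⁻¹ * (y * t) * t⁻¹ = t⁻¹ * y := by group
    rw [e1, e2] at this
    exact this.symm
  rw [commutatorElement_def]
  -- y * (x t x⁻¹ t⁻¹) = (x t x⁻¹ t⁻¹) * y
  have e1 : x * t * x⁻¹ * t⁻¹ * y = x * (t * (x⁻¹ * y * x)) * x⁻¹ * t⁻¹ := by
    calc x * t * x⁻¹ * t⁻¹ * y = x * t * x⁻¹ * (t⁻¹ * y) := by group
      _ = x * t * x⁻¹ * (y * t⁻¹) := by rw [h2']
      _ = x * (t * (x⁻¹ * y * x)) * x⁻¹ * t⁻¹ := by group
  rw [e1, h1]
  group

/-- if `R` acts coprimely and regularly on `Q`, `Q` normalizes `Y` and `R` centralizes `Y`, then `Q`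
centralizes `Y` -/
theorem le_centralizer_of_regular [Finite G] (Q R Y : Subgroup G)
    (hRQ : R ≤ normalizer (Q : Set G)) (hcop : (Nat.card R).Coprime (Nat.card Q))
    (hsolv : Group.IsSolvable R ∨ Group.IsSolvable Q)
    (hreg : Q ⊓ centralizer (R : Set G) = ⊥)
    (hQY : Q ≤ normalizer (Y : Set G)) (hRY : R ≤ centralizer (Y : Set G)) :
    Q ≤ centralizer (Y : Set G) := by
  intro x hx
  obtain ⟨d, hd, c, hc, rfl⟩ :=
    Cfsg.Agent.Lib.Helper24_CoprimeAction.coprime_decomp R Q hRQ hcop hsolv hx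
  rw [hreg, Subgroup.mem_bot] at hc
  rw [hc, mul_one]
  exact commutator_le_centralizer_of_normalizes Q R Y hQY hRY hd

/-- **The symmetry step of Theorem 13.4.**  `A` plays the role of `M_α`; `P`, `R` are the two commuting
subgroups of prime order of the complement, `Q ≤ C(P)` a subgroup on which `R` acts regularly.  If
`C_A(P) = C_A(R) ≠ 1` (both inclusions are instances of the `α`-part of the theorem) and `C_A(QR) = 1`
(Lemma 12.14(a)), we have a contradiction. -/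
theorem false_of_cent_eq [Finite G] (A Q P R : Subgroup G)
    (hQA : Q ≤ normalizer (A : Set G)) (hQP : Q ≤ centralizer (P : Set G))
    (hRQ : R ≤ normalizer (Q : Set G)) (hcop : (Nat.card R).Coprime (Nat.card Q))
    (hsolv : Group.IsSolvable R ∨ Group.IsSolvable Q)
    (hreg : Q ⊓ centralizer (R : Set G) = ⊥)
    (h1 : A ⊓ centralizer (P : Set G) ≤ centralizer (R : Set G))
    (h2 : A ⊓ centralizer (R : Set G) ≤ centralizer (P : Set G))
    (h3 : A ⊓ centralizer (R : Set G) ≠ ⊥)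
    (h4 : A ⊓ centralizer (Q : Set G) ⊓ centralizer (R : Set G) = ⊥) : False := by
  apply h3
  rw [eq_bot_iff]
  -- `Y = C_A(P)`
  set Y : Subgroup G := A ⊓ centralizer (P : Set G) with hY
  have hQY : Q ≤ normalizer (Y : Set G) := by
    intro x hx
    rw [Subgroup.mem_normalizer_iff]
    intro y
    have hxA := Subgroup.mem_normalizer_iff.mp (hQA hx) y
    have hxP : ∀ z : G, z ∈ centralizer (P : Set G) ↔ x * z * x⁻¹ ∈ centralizer (P : Set G) := by
      intro z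
      have hxc : x ∈ centralizer (P : Set G) := hQP hx
      constructor
      · intro hz
        exact Subgroup.mul_mem _ (Subgroup.mul_mem _ hxc hz) (Subgroup.inv_mem _ hxc)
      · intro hz
        have : x⁻¹ * (x * z * x⁻¹) * x ∈ centralizer (P : Set G) :=
          Subgroup.mul_mem _ (Subgroup.mul_mem _ (Subgroup.inv_mem _ hxc) hz) hxc
        simpa [mul_assoc] using this
    rw [hY, Subgroup.mem_inf, Subgroup.mem_inf, hxA, hxP y]
  have hRY : R ≤ centralizer (Y : Set G) := by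
    intro t ht
    rw [Subgroup.mem_centralizer_iff]
    intro y hy
    exact (Subgroup.mem_centralizer_iff.mp (h1 hy) t ht).symm
  have hQc : Q ≤ centralizer (Y : Set G) :=
    le_centralizer_of_regular Q R Y hRQ hcop hsolv hreg hQY hRY
  intro y hy
  have hyY : y ∈ Y := ⟨hy.1, h2 hy⟩
  rw [← h4]
  refine ⟨⟨hy.1, ?_⟩, hy.2⟩
  refine Subgroup.mem_centralizer_iff.mpr ?_
  intro x hx
  exact (Subgroup.mem_centralizer_iff.mp (hQc hx) y hyY).symm

section Tau1

/-- the commutator of two elements of `B D` (with `D` normalizing `B`) lies in `B ⁅D, D⁆` -/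
theorem commutator_sup_le (B D : Subgroup G) (hDB : D ≤ normalizer (B : Set G)) :
    ⁅B ⊔ D, B ⊔ D⁆ ≤ B ⊔ ⁅D, D⁆ := by
  rw [Subgroup.commutator_le]
  intro x hx y hy
  obtain ⟨b₁, hb₁, d₁, hd₁, rfl⟩ :=
    Cfsg.Agent.Lib.Helper24_CoprimeAction.exists_mul_of_mem_sup D B hDB hx
  obtain ⟨b₂, hb₂, d₂, hd₂, rfl⟩ :=
    Cfsg.Agent.Lib.Helper24_CoprimeAction.exists_mul_of_mem_sup D B hDB hy
  have hconj : ∀ d ∈ D, ∀ b ∈ B, d * b * d⁻¹ ∈ B := fun d hd b hb =>
    (Subgroup.mem_normalizer_iff.mp (hDB hd) b).mp hb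
  have hc : ⁅d₁, d₂⁆ ∈ ⁅D, D⁆ := Subgroup.commutator_mem_commutator hd₁ hd₂
  have hcD : ⁅d₁, d₂⁆ ∈ D := by
    rw [commutatorElement_def]
    exact D.mul_mem (D.mul_mem (D.mul_mem hd₁ hd₂) (D.inv_mem hd₁)) (D.inv_mem hd₂)
  have e : ⁅b₁ * d₁, b₂ * d₂⁆ =
      (b₁ * (d₁ * b₂ * d₁⁻¹) * ((d₁ * d₂ * d₁⁻¹) * b₁⁻¹ * (d₁ * d₂ * d₁⁻¹)⁻¹) *
        (⁅d₁, d₂⁆ * b₂⁻¹ * ⁅d₁, d₂⁆⁻¹)) * ⁅d₁, d₂⁆ := by
    simp only [commutatorElement_def]
    group
  rw [e]
  refine Subgroup.mul_mem _ (Subgroup.mem_sup_left ?_) (Subgroup.mem_sup_right hc)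
  refine B.mul_mem (B.mul_mem (B.mul_mem hb₁ (hconj _ hd₁ _ hb₂)) ?_) (hconj _ hcD _ (B.inv_mem hb₂))
  exact hconj _ (D.mul_mem (D.mul_mem hd₁ hd₂) (D.inv_mem hd₁)) _ (B.inv_mem hb₁)

variable [Finite G]

/-- **Step (2a) of the proof of Theorem 13.4.**  If `M = B (H ∩ M)` with `B` a normal subgroup of `M` of
order prime to `r`, then a prime `r ∈ τ₁(H)` dividing `|M|` and outside `σ(M)` lies in `τ₁(M)`. -/
theorem mem_tau1_of_le_sup {M H B : Subgroup G} (hBM : B ≤ M) (hMB : M ≤ normalizer (B : Set G))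
    (hd1 : M ≤ B ⊔ (H ⊓ M)) {r : ℕ} (hrB : ¬ r ∣ Nat.card B) (hr : r ∈ tau1 H)
    (hrσ : r ∉ sigma M) (hrM : r ∣ Nat.card M) : r ∈ tau1 M := by
  obtain ⟨hrp, -, -, hrH', hrk⟩ := hr
  have : Fact r.Prime := ⟨hrp⟩
  set D : Subgroup G := H ⊓ M with hD
  have hDM : D ≤ M := inf_le_right
  have hDH : D ≤ H := inf_le_left
  have hDB : D ≤ normalizer (B : Set G) := hDM.trans hMB
  have hMeq : M = B ⊔ D := le_antisymm hd1 (sup_le hBM hDM)
  refine ⟨hrp, hrσ, hrM, ?_, ?_⟩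
  · -- `r ∤ |M'|`
    intro hdvd
    have h1 : ⁅M, M⁆ ≤ B ⊔ ⁅D, D⁆ := by
      have := commutator_sup_le B D hDB
      rwa [← hMeq] at this
    have hD'B : ⁅D, D⁆ ≤ normalizer (B : Set G) :=
      (Subgroup.commutator_le_self D).trans hDB |> fun h => h
    have h2 : r ∣ Nat.card ↥(B ⊔ ⁅D, D⁆) := hdvd.trans (Subgroup.card_dvd_of_le h1)
    have h3 := Cfsg.Agent.Lib.Helper51_Offender.card_sup_mul_card_inf B ⁅D, D⁆ hD'B
    have h4 : r ∣ Nat.card B * Nat.card ↥⁅D, D⁆ := by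
      rw [← h3]
      exact h2.mul_right _
    rcases (Nat.Prime.dvd_mul hrp).mp h4 with h5 | h5
    · exact hrB h5
    · apply hrH'
      exact h5.trans (Subgroup.card_dvd_of_le (Subgroup.commutator_mono hDH hDH))
  · -- rank
    obtain ⟨T, hT⟩ : ∃ T, Cfsg.Agent.Lib.Helper84_RelSylow.IsSylowIn r T D := by
      obtain ⟨T, -, hT⟩ := Cfsg.Agent.Lib.Helper84_RelSylow.exists_isSylowIn_ge (p := r)
        (K := (⊥ : Subgroup G)) (H := D) bot_le (IsPGroup.of_bot)
      exact ⟨T, hT⟩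
    have hTM : Cfsg.Agent.Lib.Helper84_RelSylow.IsSylowIn r T M := by
      refine ⟨hT.1.trans hDM, hT.2.1, ?_⟩
      rw [← Subgroup.relIndex_mul_relIndex T D M hT.1 hDM]
      intro h
      rcases (Nat.Prime.dvd_mul hrp).mp h with h5 | h5
      · exact hT.2.2 h5
      · -- `|M : D|` divides `|B|`
        apply hrB
        have h3 := Cfsg.Agent.Lib.Helper51_Offender.card_sup_mul_card_inf B D hDB
        rw [← hMeq] at h3
        have h6 : D.relIndex M * Nat.card D = Nat.card M := by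
          have := Subgroup.relIndex_mul_relIndex ⊥ D M bot_le hDM
          rw [Subgroup.relIndex_bot_left, Subgroup.relIndex_bot_left] at this
          rw [mul_comm]; exact this
        have h7 : D.relIndex M * Nat.card ↥(B ⊓ D) * Nat.card D = Nat.card B * Nat.card D := by
          rw [← h3, ← h6]; ring
        have h8 : D.relIndex M * Nat.card ↥(B ⊓ D) = Nat.card B :=
          Nat.eq_of_mul_eq_mul_right Nat.card_pos h7
        rw [← h8]
        exact h5.mul_right _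
    have hTH : T ≤ H := hT.1.trans hDH
    have hrT : PRankLE r 1 ↥T :=
      Cfsg.Agent.Lib.Helper2_PRank.pRankLE_of_injective' r 1 (Subgroup.inclusion hTH)
        (Subgroup.inclusion_injective hTH) hrk
    exact Cfsg.Agent.Lib.Helper22_Uniq.pRankLE_of_sylow hTM hrT


/-- **Step (2a), packaged.**  If `M = M_β (H ∩ M)` for two distinct maximal subgroups `M`, `H` (this is the
conclusion (d1) of the embedding lemma, with the roles of `M` and `H` exchanged), then a prime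
`r ∈ τ₁(H)` dividing `|M|` and outside `σ(M)` lies in `τ₁(M)`, and `M_α ≠ 1`. -/
theorem mem_tau1_and_alphaCore_ne_bot {M H : Subgroup G} (hM : IsCoatom M) (hH : IsCoatom H)
    (hMH : M ≠ H) (hβσ : ∀ q : ℕ, q ∈ beta M → q ∈ sigma M)
    (hd1 : M ≤ piCoreOf (beta M) M ⊔ (H ⊓ M)) {r : ℕ} (hr : r ∈ tau1 H)
    (hrσ : r ∉ sigma M) (hrM : r ∣ Nat.card M) : r ∈ tau1 M ∧ alphaCore M ≠ ⊥ := by
  have hrp : r.Prime := hr.1
  have hBM : piCoreOf (beta M) M ≤ M := Cfsg.Agent.Lib.Helper22_BGTrans.piCoreOf_le _ _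
  have hMB := Cfsg.Agent.Lib.Helper22_BGTrans.le_normalizer_piCoreOf (beta M) M
  have hrB : ¬ r ∣ Nat.card ↥(piCoreOf (beta M) M) := fun h =>
    hrσ (hβσ r (Cfsg.Agent.Lib.Helper22_BGTrans.piCoreOf_primes (beta M) M r hrp h))
  refine ⟨mem_tau1_of_le_sup hBM hMB hd1 hrB hr hrσ hrM, ?_⟩
  intro hα
  have hBα : piCoreOf (beta M) M ≤ alphaCore M := by
    show piCoreOf (beta M) M ≤ piCoreOf (alpha M) M
    exact Cfsg.Agent.Lib.Helper22_BGTrans.le_piCoreOf hBM hMB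
      (fun p hp hd => (Cfsg.Agent.Lib.Helper22_BGTrans.piCoreOf_primes (beta M) M p hp hd).1)
  have hB : piCoreOf (beta M) M = ⊥ := by
    rw [eq_bot_iff, ← hα]; exact hBα
  rw [hB, bot_sup_eq] at hd1
  have hle : M ≤ H := hd1.trans inf_le_left
  rcases eq_or_lt_of_le hle with h | h
  · exact hMH h
  · exact hH.1 (hM.2 H h)

end Tau1

end Cfsg.Agent.Lib.Helper39_BG134
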