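import Mathlib
import Cfsg.Agent.S1407
import Cfsg.Agent.S1422
import Cfsg.Agent.S1424
import Cfsg.Agent.S1405
import Cfsg.Agent.S1444
import Cfsg.Agent.Lib.Helper76_BG13c
import Cfsg.Agent.Lib.Helper47_BG1214a
import Cfsg.Agent.Lib.Helper49_SigmaDisjoint
import Cfsg.Agent.Lib.Helper2_Coprime
import Cfsg.Agent.Lib.Helper39_BG134

/-!
# Assembly of Bender–Glauberman, Theorem 13.4 (= S1428) from its pieces (helper39)

`statement_S1428` proves the conclusion of the frozen statement S1428 for admissible data `Adm M E P R p r`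
from three explicit hypotheses:

* `HClosed G` : the closed cases (in a counterexample, every maximal `H ≥ N_G(P)` is not conjugate to `M`,
  has `p ∈ σ(H)` and `r ∈ τ₁(H)`);
* `HRank G` : in that remaining case `H` has `p`-rank at least 3;
* `H1214 G` : Lemma 12.14(a) (`cent_alpha_reg`).

Inside: `exists_regular` (choice of the `R`-invariant `s`-subgroup `Q` on which `R` acts regularly),
`main_step` (`N_G(Q) ≤ H` and `s ∈ σ(H)`), `corB` (the `α`-part of the theorem, for all admissible data),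
and the symmetry step (`Helper39_BG134`).
-/

set_option autoImplicit false
set_option linter.unusedSectionVars false

namespace Cfsg.Agent.Lib.Helper39_BG134c

open Subgroup Cfsg
open Cfsg.Agent.Lib.Helper22_Radical (cj)
open Cfsg.Agent.Lib.Helper84_RelSylow (IsSylowIn)

universe u

variable {G : Type u} [Group G] [Finite G]

/-- the data of Theorem 13.4 -/
structure Adm (M E P R : Subgroup G) (p r : ℕ) : Prop where
  hM : IsCoatom M
  hE : IsComplIn E (sigmaCore M) M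
  hp : p ∈ tau1 M
  hPE : P ≤ E
  hP : Nat.card P = p
  hRE : R ≤ E
  hRP : R ≤ centralizer (P : Set G)
  hR : Nat.card R = r
  hr : r.Prime

/-- `R` does not centralize `C_{M_σ}(P)` -/
def NotCent (M P R : Subgroup G) : Prop :=
  ¬ sigmaCore M ⊓ centralizer (P : Set G) ≤ centralizer (R : Set G)

/-- the closed cases (helper76): in a counterexample, `p ∈ σ(H)`, `r ∈ τ₁(H)` and `H` is not conjugate
to `M`, for every maximal `H ≥ N_G(P)` -/
def HClosed (G : Type u) [Group G] : Prop :=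
  ∀ (M E P R : Subgroup G) (p r : ℕ), Adm M E P R p r → NotCent M P R →
    ∀ H : Subgroup G, IsCoatom H → normalizer (P : Set G) ≤ H →
      p ∈ sigma H ∧ r ∈ tau1 H ∧ ∀ g : G, H ≠ cj g M

/-- the rank claim (helper35): in the remaining case `H` has `p`-rank at least 3 -/
def HRank (G : Type u) [Group G] : Prop :=
  ∀ (M E P R : Subgroup G) (p r : ℕ), Adm M E P R p r → NotCent M P R →
    ∀ H : Subgroup G, IsCoatom H → normalizer (P : Set G) ≤ H → p ∈ sigma H → r ∈ tau1 H →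
      (∀ g : G, H ≠ cj g M) → ¬ PRankLE p 2 ↥H

/-- Lemma 12.14(a) (helper49's `cent_alpha_reg`), as a hypothesis -/
def H1214 (G : Type u) [Group G] : Prop :=
  ∀ (M : Subgroup G), IsCoatom M → ∀ (p : ℕ) [Fact p.Prime], p ∈ tau1 M → ∀ (P Q : Subgroup G),
    P ≤ M → Nat.card P = p → ∀ (q : ℕ) [Fact q.Prime], IsPGroup q Q → Q ≠ ⊥ → Q ≤ M →
      P ≤ normalizer (Q : Set G) → Q ⊓ centralizer (P : Set G) = ⊥ → q ∉ alpha M →
      alphaCore M ≠ ⊥ →
      ¬ (normalizer (Q : Set G) ≤ M ∧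
          ∀ L : Subgroup G, IsCoatom L → normalizer (Q : Set G) ≤ L → L = M) →
      alphaCore M ⊓ centralizer (P : Set G) ≠ ⊥ ∧
        alphaCore M ⊓ centralizer (Q : Set G) ⊓ centralizer (P : Set G) = ⊥


/-- a subgroup of `C` containing a Sylow `s`-subgroup of `C` for every prime `s` is `C` -/
theorem eq_of_forall_sylow {C K : Subgroup G} (hKC : K ≤ C)
    (h : ∀ s : ℕ, s.Prime → ∃ T, Cfsg.Agent.Lib.Helper84_RelSylow.IsSylowIn s T C ∧ T ≤ K) : K = C := by
  apply le_antisymm hKC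
  rw [← Subgroup.relIndex_eq_one]
  by_contra hne
  obtain ⟨s, hs, hsd⟩ := Nat.exists_prime_and_dvd hne
  obtain ⟨T, hT, hTK⟩ := h s hs
  apply hT.2.2
  rw [← Subgroup.relIndex_mul_relIndex T K C hTK hKC]
  exact hsd.mul_left _

/-- **Choice of `Q`.**  If `R` acts coprimely on `C`, all subgroups of prime power order of `C` are
abelian and `R` does not centralize `C`, then `R` normalizes some nontrivial subgroup `Q` of prime power
order of `C` on which it has no nontrivial fixed point. -/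
theorem exists_regular {C R : Subgroup G} (hRC : R ≤ normalizer (C : Set G))
    (hcop : (Nat.card R).Coprime (Nat.card C)) (hsolv : Group.IsSolvable R ∨ Group.IsSolvable C)
    (hab : ∀ T : Subgroup G, T ≤ C → ∀ s : ℕ, s.Prime → IsPGroup s T →
      ∀ a ∈ T, ∀ b ∈ T, a * b = b * a)
    (hnc : ¬ C ≤ centralizer (R : Set G)) :
    ∃ s : ℕ, s.Prime ∧ ∃ Q : Subgroup G, Q ≤ C ∧ IsPGroup s Q ∧ Q ≠ ⊥ ∧
      R ≤ normalizer (Q : Set G) ∧ Q ⊓ centralizer (R : Set G) = ⊥ := by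
  by_contra hcon
  apply hnc
  have hK : C ⊓ centralizer (R : Set G) = C := by
    apply eq_of_forall_sylow inf_le_left
    intro s hs
    have : Fact s.Prime := ⟨hs⟩
    obtain ⟨T, hT⟩ :=
      Cfsg.Agent.Lib.Helper24_CoprimeAction.exists_invariant_sylow R C hRC hcop hsolv s
    set T' : Subgroup G := Cfsg.Agent.Lib.Helper24_CoprimeAction.sylowImage T with hT'
    have hTC : T' ≤ C := Subgroup.map_subtype_le _
    have hTs : IsPGroup s T' := T.2.map _
    refine ⟨T', Cfsg.Agent.Lib.Helper84_RelSylow.isSylowIn_of_sylow T, le_inf hTC ?_⟩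
    by_contra hTc
    apply hcon
    have habT := hab T' hTC s hs hTs
    have : IsMulCommutative ↥T' := ⟨⟨fun a b => Subtype.ext (habT a.1 a.2 b.1 b.2)⟩⟩
    have hcopT : (Nat.card R).Coprime (Nat.card T') :=
      Nat.Coprime.coprime_dvd_right (Subgroup.card_dvd_of_le hTC) hcop
    have hQT : ⁅T', R⁆ ≤ T' :=
      Cfsg.Agent.Lib.Helper24_CoprimeAction.commutator_le_of_le_normalizer T' R hT
    refine ⟨s, hs, ⁅T', R⁆, hQT.trans hTC, hTs.to_le hQT, ?_, ?_, ?_⟩
    · intro hbot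
      apply hTc
      rw [Subgroup.commutator_eq_bot_iff_le_centralizer] at hbot
      exact hbot
    · intro x hx
      exact Cfsg.Agent.Lib.Helper24_CoprimeAction.mem_normalizer_commutator T' R (hT hx)
        (Subgroup.le_normalizer hx)
    · have h0 := Cfsg.Agent.Lib.Helper2_Coprime.commutator_inf_centralizer_eq_bot T' R hT hcopT
      rw [eq_bot_iff] at h0 ⊢
      intro x hx
      exact h0 ⟨hx.1, hQT hx.1, hx.2⟩
  rw [← hK]
  exact inf_le_right


namespace Adm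

variable {M E P R : Subgroup G} {p r : ℕ}

omit [Finite G] in
theorem pp (h : Adm M E P R p r) : p.Prime := h.hp.1

omit [Finite G] in
theorem hEM (h : Adm M E P R p r) : E ≤ M := h.hE.1

omit [Finite G] in
theorem hPM (h : Adm M E P R p r) : P ≤ M := h.hPE.trans h.hEM

omit [Finite G] in
theorem hRM (h : Adm M E P R p r) : R ≤ M := h.hRE.trans h.hEM

theorem hP1 (h : Adm M E P R p r) : P ≠ ⊥ := by
  intro hb
  have := h.hP
  rw [hb, Subgroup.card_bot] at this
  exact h.pp.one_lt.ne this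

theorem hPp (h : Adm M E P R p r) : IsPGroup p P := by
  have : Fact p.Prime := ⟨h.pp⟩
  exact IsPGroup.of_card (n := 1) (by rw [pow_one]; exact h.hP)

theorem hRr (h : Adm M E P R p r) : IsPGroup r R := by
  have : Fact r.Prime := ⟨h.hr⟩
  exact IsPGroup.of_card (n := 1) (by rw [pow_one]; exact h.hR)

/-- `r ∉ σ(M)` -/
theorem hrσ (hG : IsMinSimpleOddOrder G) (h : Adm M E P R p r) : r ∉ sigma M := by
  intro hσ
  have hHall := Cfsg.Agent.Lib.Helper76_BG13b.sigma_hall hG h.hM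
  have hE' := Cfsg.Agent.Lib.Helper76_BG13a.piHall_of_isComplIn hHall h.hE
  have hd : r ∣ Nat.card E := by
    rw [← h.hR]; exact Subgroup.card_dvd_of_le h.hRE
  exact hE'.2.1 r h.hr hd hσ

theorem hrM (h : Adm M E P R p r) : r ∣ Nat.card M := by
  rw [← h.hR]; exact Subgroup.card_dvd_of_le h.hRM

/-- the symmetric data, once `r ∈ τ₁(M)` is known -/
theorem symm (h : Adm M E P R p r) (hr1 : r ∈ tau1 M) : Adm M E R P r p where
  hM := h.hM
  hE := h.hE
  hp := hr1
  hPE := h.hRE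
  hP := h.hR
  hRE := h.hPE
  hRP := Subgroup.le_centralizer_iff.mp h.hRP
  hR := h.hP
  hr := h.pp

end Adm


/-- `cj 1 M = M` -/
theorem cj_one' (M : Subgroup G) : cj (1 : G) M = M := by
  ext x
  rw [Cfsg.Agent.Lib.Helper22_Radical.mem_cj]
  simp

/-- distinctness from non-conjugacy -/
theorem ne_of_nonconj {M H : Subgroup G} (hnc : ∀ g : G, H ≠ cj g M) : H ≠ M := by
  intro h
  exact hnc 1 (by rw [cj_one', h])

/-- subgroups of prime power order of `M ∩ H` are abelian when `M ≠ H` (S1422) -/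
theorem comm_of_le_inf (hG : IsMinSimpleOddOrder G) {M H T : Subgroup G} (hM : IsCoatom M)
    (hH : IsCoatom H) (hMH : H ≠ M) (hTM : T ≤ M) (hTH : T ≤ H) {s : ℕ} (hs : s.Prime)
    (hT : IsPGroup s T) : ∀ a ∈ T, ∀ b ∈ T, a * b = b * a := by
  have : Fact s.Prime := ⟨hs⟩
  by_contra hcon
  have hna : ¬ IsMulCommutative ↥T := by
    intro hc
    apply hcon
    intro a ha b hb
    exact congrArg Subtype.val (hc.is_comm.comm (⟨a, ha⟩ : ↥T) ⟨b, hb⟩)
  obtain ⟨L, -, hL⟩ := Cfsg.Agent.S1422.result hG s T hT hna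
  exact hMH ((hL H ⟨hH, hTH⟩).trans (hL M ⟨hM, hTM⟩).symm)

section Main

variable {M E P R : Subgroup G} {p r : ℕ}

/-- **The main step.**  In the remaining case of Theorem 13.4 (`p ∈ σ(H)` of rank at least 3,
`r ∈ τ₁(H)`), an `R`-invariant `s`-subgroup `Q ≠ 1` of `C_{M_σ}(P)` on which `R` acts regularly has
`N_G(Q) ≤ H` and `s ∈ σ(H)`. -/
theorem main_step (hG : IsMinSimpleOddOrder G) (hC : Cfsg.Agent.Lib.Helper73_BG12.CentHyp G)
    (h17 : Cfsg.Agent.Lib.Helper79_BG141.Hyp1417 G)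
    (h18 : Cfsg.Agent.Lib.Helper76_BG13c.Hyp1418a G) (h14 : H1214 G)
    (hA : Adm M E P R p r) {H : Subgroup G} (hH : IsCoatom H)
    (hNP : normalizer (P : Set G) ≤ H) (hpH : p ∈ sigma H) (hrH : r ∈ tau1 H)
    (hnc : ∀ g : G, H ≠ cj g M) (hrank : ¬ PRankLE p 2 ↥H)
    {s : ℕ} (hs : s.Prime) {Q : Subgroup G}
    (hQC : Q ≤ sigmaCore M ⊓ centralizer (P : Set G)) (hQs : IsPGroup s Q) (hQ1 : Q ≠ ⊥)
    (hRQ : R ≤ normalizer (Q : Set G)) (hreg : Q ⊓ centralizer (R : Set G) = ⊥) :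
    s ∈ sigma H ∧ normalizer (Q : Set G) ≤ H := by
  have : Fact s.Prime := ⟨hs⟩
  have : Fact r.Prime := ⟨hA.hr⟩
  have : Fact p.Prime := ⟨hA.pp⟩
  have hM := hA.hM
  have hHM : H ≠ M := ne_of_nonconj hnc
  have hnc' : ∀ g : G, M ≠ cj g H := Cfsg.Agent.Lib.Helper47_BG1214a.nonconj_symm hnc
  have hCH : centralizer (P : Set G) ≤ H := (Subgroup.centralizer_le_normalizer _).trans hNP
  have hQσ : Q ≤ sigmaCore M := hQC.trans inf_le_left
  have hQP : Q ≤ centralizer (P : Set G) := hQC.trans inf_le_right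
  have hQM : Q ≤ M := hQσ.trans (Cfsg.Agent.Lib.Helper47_BG1214a.sigmaCore_le M)
  have hQH : Q ≤ H := hQP.trans hCH
  have hPH : P ≤ H := Subgroup.le_normalizer.trans hNP
  have hRH : R ≤ H := hA.hRP.trans hCH
  have hPQ : P ≤ centralizer (Q : Set G) := Subgroup.le_centralizer_iff.mp hQP
  have hPR : P ≤ centralizer (R : Set G) := Subgroup.le_centralizer_iff.mp hA.hRP
  have hsd : s ∣ Nat.card Q := Cfsg.Agent.Lib.Helper76_BG13b.dvd_card_of_isPGroup hQs hQ1
  have hsM : s ∈ sigma M :=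
    Cfsg.Agent.Lib.Helper76_BG13b.mem_sigma_of_dvd_card_le_sigmaCore hQσ hs hsd
  have hsαH : s ∉ alpha H := fun h =>
    Cfsg.Agent.Lib.Helper49_SigmaDisjoint.alpha_inter_sigma hG hH hM hnc' h hsM
  have hpα : p ∈ alpha H := ⟨hA.pp, hrank⟩
  have hPα : P ≤ alphaCore H :=
    Cfsg.Agent.Lib.Helper76_BG13b.le_alphaCore_of_isPGroup hG hH hpα hA.hPp hPH
  have hαH : alphaCore H ≠ ⊥ := fun h => hA.hP1 (eq_bot_iff.mpr (h ▸ hPα))
  by_cases hcase : normalizer (Q : Set G) ≤ H ∧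
      ∀ L : Subgroup G, IsCoatom L → normalizer (Q : Set G) ≤ L → L = H
  · rcases Cfsg.Agent.Lib.Helper76_BG13b.mem_sigma_or_tau2 hG hH hQs hQ1 hcase.1 with hσ | hτ
    · exact ⟨hσ, hcase.1⟩
    · exfalso
      -- a Sylow `s`-subgroup of `M ∩ H` containing `Q`
      have hQMH : Q ≤ M ⊓ H := le_inf hQM hQH
      have hQ' : IsPGroup s (Q.subgroupOf (M ⊓ H)) :=
        hQs.comap_of_injective (M ⊓ H).subtype (M ⊓ H).subtype_injective
      obtain ⟨S, hS⟩ := hQ'.exists_le_sylow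
      have hQS : Q ≤ (S : Subgroup ↥(M ⊓ H)).map (M ⊓ H).subtype := by
        intro x hx
        exact ⟨⟨x, hQMH hx⟩, hS (by rw [Subgroup.mem_subgroupOf]; exact hx), rfl⟩
      obtain ⟨-, -, h3⟩ := Cfsg.Agent.S1424.result hG M hM s hsM Q hQs hQ1 hQM H hH hHM hcase.1 S hQS
      set S' : Subgroup G := (S : Subgroup ↥(M ⊓ H)).map (M ⊓ H).subtype with hS'
      have hS'le : S' ≤ M ⊓ H := Subgroup.map_subtype_le _
      have hSyl : IsSylowIn s S' H := ⟨hS'le.trans inf_le_right, S.2.map _, h3⟩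
      have h0 := (Cfsg.Agent.Lib.Helper76_BG13c.cj_le_of_tau2_other hG hC h17 h18 hM hH hHM hsM hτ hSyl
        (hS'le.trans inf_le_left)).1
      have hPσ : P ≤ sigmaCore H :=
        Cfsg.Agent.Lib.Helper76_BG13b.le_sigmaCore_of_isPGroup' hG hH hpH hA.hPp hPH
      apply hA.hP1
      rw [eq_bot_iff, ← h0]
      exact le_inf hPσ hA.hPM
  · exfalso
    have h := (h14 H hH r hrH R Q hRH hA.hR s hQs hQ1 hQH hRQ hreg hsαH hαH hcase).2
    apply hA.hP1
    rw [eq_bot_iff, ← h]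
    exact le_inf (le_inf hPα hPQ) hPR

end Main


section Final

variable {M E P R : Subgroup G} {p r : ℕ}

/-- there is a maximal subgroup containing `N_G(P)` -/
theorem exists_coatom_ge_normalizer (hG : IsMinSimpleOddOrder G) (hA : Adm M E P R p r) :
    ∃ H : Subgroup G, IsCoatom H ∧ normalizer (P : Set G) ≤ H := by
  have hPtop : P ≠ ⊤ := fun h => hA.hM.1 (top_le_iff.mp (h ▸ hA.hPM))
  have hN := Cfsg.Agent.Lib.Helper22_BGTrans.normalizer_ne_top hG hA.hP1 hPtop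
  rcases eq_top_or_exists_le_coatom (normalizer (P : Set G)) with h | ⟨H, hH, hle⟩
  · exact absurd h hN
  · exact ⟨H, hH, hle⟩

/-- `R` normalizes `A ∩ C(P)` for every subgroup `A` normalized by `M` -/
theorem le_normalizer_inf_centralizer (hA : Adm M E P R p r) {A : Subgroup G}
    (hMA : M ≤ normalizer (A : Set G)) :
    R ≤ normalizer ((A ⊓ centralizer (P : Set G) : Subgroup G) : Set G) := by
  refine (le_inf (hA.hRM.trans hMA) ?_).trans Subgroup.inf_normalizer_le_normalizer_inf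
  exact hA.hRP.trans Subgroup.le_normalizer

/-- the order of `R` is prime to the order of any subgroup of `M_σ` -/
theorem coprime_card (hG : IsMinSimpleOddOrder G) (hA : Adm M E P R p r) {C : Subgroup G}
    (hC : C ≤ sigmaCore M) : (Nat.card R).Coprime (Nat.card C) := by
  rw [hA.hR, Nat.Prime.coprime_iff_not_dvd hA.hr]
  intro hd
  exact hA.hrσ hG (Cfsg.Agent.Lib.Helper76_BG13b.mem_sigma_of_dvd_card_le_sigmaCore hC hA.hr hd)

/-- **Corollary B**: the `α`-part of Theorem 13.4 holds for all admissible data. -/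
theorem corB (hG : IsMinSimpleOddOrder G) (hC : Cfsg.Agent.Lib.Helper73_BG12.CentHyp G)
    (h17 : Cfsg.Agent.Lib.Helper79_BG141.Hyp1417 G)
    (h18 : Cfsg.Agent.Lib.Helper76_BG13c.Hyp1418a G) (h14 : H1214 G) (hcl : HClosed G)
    (hrk : HRank G) (hA : Adm M E P R p r) :
    alphaCore M ⊓ centralizer (P : Set G) ≤ centralizer (R : Set G) := by
  by_contra hnc0
  have hM := hA.hM
  have hασ : alphaCore M ≤ sigmaCore M := (Cfsg.Agent.S1405.result hG M hM).2.2.1
  have hNC : NotCent M P R := fun h => hnc0 ((inf_le_inf_right _ hασ).trans h)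
  obtain ⟨H, hH, hNP⟩ := exists_coatom_ge_normalizer hG hA
  obtain ⟨hpH, hrH, hnc⟩ := hcl M E P R p r hA hNC H hH hNP
  have hrank := hrk M E P R p r hA hNC H hH hNP hpH hrH hnc
  have hHM : H ≠ M := ne_of_nonconj hnc
  have hCH : centralizer (P : Set G) ≤ H := (Subgroup.centralizer_le_normalizer _).trans hNP
  have hCσ : alphaCore M ⊓ centralizer (P : Set G) ≤ sigmaCore M := inf_le_left.trans hασ
  have hCM : alphaCore M ⊓ centralizer (P : Set G) ≤ M :=
    hCσ.trans (Cfsg.Agent.Lib.Helper47_BG1214a.sigmaCore_le M)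
  have hRsolv : Group.IsSolvable ↥R := Cfsg.Agent.Lib.Helper76_BG13b.isSolvable_of_le hG hM hA.hRM
  obtain ⟨s, hs, Q, hQC, hQs, hQ1, hRQ, hreg⟩ := exists_regular
    (le_normalizer_inf_centralizer hA (Cfsg.Agent.Lib.Helper76_BG13b.le_normalizer_alphaCore M))
    (coprime_card hG hA hCσ) (Or.inl hRsolv)
    (fun T hT s hs hTs => comm_of_le_inf hG hM hH hHM (hT.trans hCM)
      ((hT.trans inf_le_right).trans hCH) hs hTs) hnc0
  have : Fact s.Prime := ⟨hs⟩
  have hQC' : Q ≤ sigmaCore M ⊓ centralizer (P : Set G) :=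
    le_inf (hQC.trans hCσ) (hQC.trans inf_le_right)
  obtain ⟨hsH, -⟩ := main_step hG hC h17 h18 h14 hA hH hNP hpH hrH hnc hrank hs hQC' hQs hQ1 hRQ hreg
  -- `s ∈ α(M)`
  have hsd : s ∣ Nat.card Q := Cfsg.Agent.Lib.Helper76_BG13b.dvd_card_of_isPGroup hQs hQ1
  have hsα : s ∈ alpha M :=
    Cfsg.Agent.Lib.Helper22_BGTrans.piCoreOf_primes (alpha M) M s hs
      (hsd.trans (Subgroup.card_dvd_of_le (hQC.trans inf_le_left)))
  exact Cfsg.Agent.Lib.Helper49_SigmaDisjoint.alpha_inter_sigma hG hM hH hnc hsα hsH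

/-- **Bender–Glauberman, Theorem 13.4** (the frozen statement S1428), from the closed cases, the rank
claim and Lemma 12.14(a). -/
theorem statement_S1428 (hG : IsMinSimpleOddOrder G) (hC : Cfsg.Agent.Lib.Helper73_BG12.CentHyp G)
    (h17 : Cfsg.Agent.Lib.Helper79_BG141.Hyp1417 G)
    (h18 : Cfsg.Agent.Lib.Helper76_BG13c.Hyp1418a G) (h14 : H1214 G) (hcl : HClosed G)
    (hrk : HRank G) (hA : Adm M E P R p r) :
    sigmaCore M ⊓ centralizer (P : Set G) ≤ sigmaCore M ⊓ centralizer (R : Set G) := by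
  refine le_inf inf_le_left ?_
  by_contra hNC
  have hM := hA.hM
  have hU := Cfsg.Agent.Lib.Helper49_SigmaDisjoint.uniqHyp hG
  have h44 : Cfsg.Agent.Lib.Helper70_BG106.H1444.{u} :=
    fun X _ _ _ hodd H R R₀ _ hHall hR hR₀ hR₀p hZ q _ =>
      Cfsg.Agent.S1444.result hodd H R R₀ hHall hR hR₀ hR₀p hZ q
  obtain ⟨H, hH, hNP⟩ := exists_coatom_ge_normalizer hG hA
  obtain ⟨hpH, hrH, hnc⟩ := hcl M E P R p r hA hNC H hH hNP
  have hrank := hrk M E P R p r hA hNC H hH hNP hpH hrH hnc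
  have hHM : H ≠ M := ne_of_nonconj hnc
  have hnc' : ∀ g : G, M ≠ cj g H := Cfsg.Agent.Lib.Helper47_BG1214a.nonconj_symm hnc
  have hCH : centralizer (P : Set G) ≤ H := (Subgroup.centralizer_le_normalizer _).trans hNP
  have hCM : sigmaCore M ⊓ centralizer (P : Set G) ≤ M :=
    inf_le_left.trans (Cfsg.Agent.Lib.Helper47_BG1214a.sigmaCore_le M)
  have hRsolv : Group.IsSolvable ↥R := Cfsg.Agent.Lib.Helper76_BG13b.isSolvable_of_le hG hM hA.hRM
  obtain ⟨s, hs, Q, hQC, hQs, hQ1, hRQ, hreg⟩ := exists_regular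
    (le_normalizer_inf_centralizer hA (Cfsg.Agent.Lib.Helper76_BG13b.le_normalizer_sigmaCore' M))
    (coprime_card hG hA inf_le_left) (Or.inl hRsolv)
    (fun T hT s hs hTs => comm_of_le_inf hG hM hH hHM (hT.trans hCM)
      ((hT.trans inf_le_right).trans hCH) hs hTs) hNC
  have : Fact s.Prime := ⟨hs⟩
  have : Fact r.Prime := ⟨hA.hr⟩
  obtain ⟨hsH, hNQ⟩ :=
    main_step hG hC h17 h18 h14 hA hH hNP hpH hrH hnc hrank hs hQC hQs hQ1 hRQ hreg
  have hQσ : Q ≤ sigmaCore M := hQC.trans inf_le_left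
  have hQP : Q ≤ centralizer (P : Set G) := hQC.trans inf_le_right
  have hQM : Q ≤ M := hQC.trans hCM
  have hQH : Q ≤ H := hQP.trans hCH
  have hsd : s ∣ Nat.card Q := Cfsg.Agent.Lib.Helper76_BG13b.dvd_card_of_isPGroup hQs hQ1
  have hsM : s ∈ sigma M :=
    Cfsg.Agent.Lib.Helper76_BG13b.mem_sigma_of_dvd_card_le_sigmaCore hQσ hs hsd
  -- the Sylow `s`-subgroup of `M ∩ H` over `Q`
  have hQMH : Q ≤ M ⊓ H := le_inf hQM hQH
  have hQ' : IsPGroup s (Q.subgroupOf (M ⊓ H)) :=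
    hQs.comap_of_injective (M ⊓ H).subtype (M ⊓ H).subtype_injective
  obtain ⟨S, hS⟩ := hQ'.exists_le_sylow
  have hQS : Q ≤ (S : Subgroup ↥(M ⊓ H)).map (M ⊓ H).subtype := by
    intro x hx
    exact ⟨⟨x, hQMH hx⟩, hS (by rw [Subgroup.mem_subgroupOf]; exact hx), rfl⟩
  obtain ⟨-, -, h3⟩ := Cfsg.Agent.S1424.result hG M hM s hsM Q hQs hQ1 hQM H hH hHM hNQ S hQS
  set S' : Subgroup G := (S : Subgroup ↥(M ⊓ H)).map (M ⊓ H).subtype with hS'
  have hS'le : S' ≤ M ⊓ H := Subgroup.map_subtype_le _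
  have hS's : IsPGroup s S' := S.2.map _
  have hSylH : IsSylowIn s S' H := ⟨hS'le.trans inf_le_right, hS's, h3⟩
  -- `S'` is one of the good Sylow subgroups of `H`
  obtain ⟨P₀, hP₀⟩ := Cfsg.Agent.Lib.Helper49_Sigma.exists_sylM_of_mem_sigma hsH
  obtain ⟨P₁, hP₁, hSP₁⟩ := Cfsg.Agent.Lib.Helper49_Sigma.exists_sylM_ge hP₀ hS's hSylH.1
  have hP₁eq : P₁ = S' := hSylH.eq_of_le hSP₁ hP₁.2.1 hP₁.1.isPGroup
  rw [hP₁eq] at hP₁
  have hSylM : IsSylowIn s S' M := hP₁.1.mono (hS'le.trans inf_le_left) le_top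
  have hd1 := Cfsg.Agent.Lib.Helper47_BG1214a.case_sigma hG hU h44 hH hM hnc' hsH hsM hSylM hP₁.2.2
  obtain ⟨hr1, hαM⟩ := Cfsg.Agent.Lib.Helper39_BG134.mem_tau1_and_alphaCore_ne_bot hM hH hHM.symm
    (fun q hq => Cfsg.Agent.Lib.Helper47_BG1214a.beta_subset_sigma hG hU hM hq) hd1 hrH
    (hA.hrσ hG) hA.hrM
  have hA' := hA.symm hr1
  have hB1 := corB hG hC h17 h18 h14 hcl hrk hA
  have hB2 := corB hG hC h17 h18 h14 hcl hrk hA'
  have hsαM : s ∉ alpha M := fun h =>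
    Cfsg.Agent.Lib.Helper49_SigmaDisjoint.alpha_inter_sigma hG hM hH hnc h hsH
  have h12 := h14 M hM r hr1 R Q hA.hRM hA.hR s hQs hQ1 hQM hRQ hreg hsαM hαM
    (fun h => hHM (h.2 H hH hNQ))
  have hcop : (Nat.card R).Coprime (Nat.card Q) := coprime_card hG hA hQσ
  exact Cfsg.Agent.Lib.Helper39_BG134.false_of_cent_eq (alphaCore M) Q P R
    (hQM.trans (Cfsg.Agent.Lib.Helper76_BG13b.le_normalizer_alphaCore M)) hQP hRQ hcop
    (Or.inl hRsolv) hreg hB1 hB2 h12.1 h12.2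

end Final

end Cfsg.Agent.Lib.Helper39_BG134c
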