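import Cfsg.Agent.Lib.Helper76_BG13a
import Cfsg.Agent.S1350
import Cfsg.Agent.S1405
import Cfsg.Agent.S1408
import Cfsg.Agent.S1414
import Cfsg.Agent.Lib.Helper49_SigmaDisjoint
import Cfsg.Agent.Lib.Helper29_BG12a
import Cfsg.Agent.Lib.Helper49_Alpha3
import Cfsg.Agent.Lib.Helper2_PRank
import Cfsg.Agent.Lib.Helper22_BGTrans
import Cfsg.Agent.Lib.Helper22_Uniq4
import Cfsg.Agent.Lib.Helper23_SigmaHall
import Cfsg.Agent.Lib.Helper73_BG12
import Cfsg.Agent.Lib.Helper79_BG141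

/-!
# Bender–Glauberman section 13, first steps (helper76)

* conjugation invariance of `σ(M)` and of `p`-ranks;
* `mem_sigma_or_tau2` (B–G 12.2(a)): if `N_G(X) ≤ H` for a nontrivial `p`-subgroup `X`, then
  `p ∈ σ(H) ∪ τ₂(H)`;
* `commute_of_mem_sigma` (a piece of B–G 13.1): for non-conjugate `M`, `H`, a `p`-element of `M ∩ H`
  with `p ∈ σ(H) ∖ σ(M)` centralizes `M_σ ∩ H`.
-/

set_option autoImplicit false

namespace Cfsg.Agent.Lib.Helper76_BG13b

open Subgroup Cfsg Cfsg.Agent.Lib.Helper22_Radical Cfsg.Agent.Lib.Helper22_BGTrans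
  Cfsg.Agent.Lib.Helper84_RelSylow Cfsg.Agent.Lib.Helper49_Sigma
  Cfsg.Agent.Lib.Helper24_CoprimeHall Cfsg.Agent.Lib.Helper24_CoprimeAction
  Cfsg.Agent.Lib.Helper76_BG13a

variable {G : Type*} [Group G] [Finite G]

omit [Finite G] in
theorem isSolvable_of_isCoatom (hG : IsMinSimpleOddOrder G) {M : Subgroup G} (hM : IsCoatom M) :
    Group.IsSolvable ↥M := hG.2.2.2 M hM.1

omit [Finite G] in
theorem isSolvable_of_le (hG : IsMinSimpleOddOrder G) {M N : Subgroup G} (hM : IsCoatom M)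
    (hNM : N ≤ M) : Group.IsSolvable ↥N :=
  have := isSolvable_of_isCoatom hG hM
  Group.isSolvable_of_isSolvable_injective (Subgroup.inclusion_injective hNM)

theorem sigma_hall (hG : IsMinSimpleOddOrder G) {M : Subgroup G} (hM : IsCoatom M) :
    IsPiHallOf (sigma M) (sigmaCore M) M := (Cfsg.Agent.S1350.result hG M hM).1

theorem alpha_hall (hG : IsMinSimpleOddOrder G) {M : Subgroup G} (hM : IsCoatom M) :
    IsPiHallOf (alpha M) (alphaCore M) M := (Cfsg.Agent.S1405.result hG M hM).1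

omit [Finite G] in
theorem le_normalizer_sigmaCore' (M : Subgroup G) :
    M ≤ normalizer ((sigmaCore M : Subgroup G) : Set G) := le_normalizer_piCoreOf (sigma M) M

omit [Finite G] in
theorem le_normalizer_alphaCore (M : Subgroup G) :
    M ≤ normalizer ((alphaCore M : Subgroup G) : Set G) := le_normalizer_piCoreOf (alpha M) M

/-- a `σ(M)`-subgroup of `M` lies in `M_σ` -/
theorem le_sigmaCore_of_primes (hG : IsMinSimpleOddOrder G) {M T : Subgroup G} (hM : IsCoatom M)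
    (hTM : T ≤ M) (hT : ∀ q : ℕ, q.Prime → q ∣ Nat.card T → q ∈ sigma M) : T ≤ sigmaCore M :=
  le_of_normal_hall (sigma_hall hG hM) (le_normalizer_sigmaCore' M) hTM hT

/-- a `p`-subgroup of `M`, `p ∈ σ(M)`, lies in `M_σ` -/
theorem le_sigmaCore_of_isPGroup' (hG : IsMinSimpleOddOrder G) {M T : Subgroup G} (hM : IsCoatom M)
    {p : ℕ} (hp : p ∈ sigma M) (hT : IsPGroup p T) (hTM : T ≤ M) : T ≤ sigmaCore M := by
  apply le_sigmaCore_of_primes hG hM hTM
  intro q hq hd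
  have := primes_of_isPGroup hp.1 hT q hq hd
  rw [Set.mem_singleton_iff] at this
  rw [this]; exact hp

/-- a `p`-subgroup of `M`, `p ∈ α(M)`, lies in `M_α` -/
theorem le_alphaCore_of_isPGroup (hG : IsMinSimpleOddOrder G) {M T : Subgroup G} (hM : IsCoatom M)
    {p : ℕ} (hp : p ∈ alpha M) (hT : IsPGroup p T) (hTM : T ≤ M) : T ≤ alphaCore M := by
  apply le_of_normal_hall (alpha_hall hG hM) (le_normalizer_alphaCore M) hTM
  intro q hq hd
  have := primes_of_isPGroup hp.1 hT q hq hd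
  rw [Set.mem_singleton_iff] at this
  rw [this]; exact hp

/-- the prime divisors of `|M_σ|` lie in `σ(M)` -/
theorem mem_sigma_of_dvd_card_le_sigmaCore {M T : Subgroup G} (hT : T ≤ sigmaCore M) {q : ℕ}
    (hq : q.Prime) (hd : q ∣ Nat.card T) : q ∈ sigma M :=
  Cfsg.Agent.Lib.Helper49_SigmaDisjoint.mem_sigma_of_dvd_card_sigmaCore M hq
    (hd.trans (Subgroup.card_dvd_of_le hT))

omit [Finite G] in
/-- a relative Sylow subgroup of `M` with normalizer in `M` witnesses `p ∈ σ(M)` -/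
theorem mem_sigma_of_isSylowIn {p : ℕ} [Fact p.Prime] {M P : Subgroup G} (hP : IsSylowIn p P M)
    (hpM : p ∣ Nat.card M) (hN : normalizer (P : Set G) ≤ M) : p ∈ sigma M := by
  refine ⟨Fact.out, hpM, hP.toSylow, ?_⟩
  rw [hP.coe_toSylow, Subgroup.map_subgroupOf_eq_of_le hP.le]
  exact hN

/-- `σ` is invariant under conjugation -/
theorem mem_sigma_cj {p : ℕ} {M : Subgroup G} (hp : p ∈ sigma M) (g : G) : p ∈ sigma (cj g M) := by
  have : Fact p.Prime := ⟨hp.1⟩
  obtain ⟨P, hSyl, hPM, hN⟩ := exists_sylM_of_mem_sigma hp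
  have h1 : IsSylowIn p (cj g P) (cj g M) := (hSyl.mono hPM le_top).conj g
  apply mem_sigma_of_isSylowIn h1
  · rw [card_cj]; exact hp.2.1
  · rw [normalizer_cj]
    exact cj_mono hN

omit [Finite G] in
/-- `p`-ranks are invariant under conjugation -/
theorem pRankLE_of_cj {p k : ℕ} {M : Subgroup G} (g : G) (h : PRankLE p k ↥(cj g M)) :
    PRankLE p k ↥M :=
  Cfsg.Agent.Lib.Helper2_PRank.pRankLE_of_injective' p k
    (M.equivMapOfInjective (MulAut.conj g).toMonoidHom (MulAut.conj g).injective).toMonoidHom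
    (M.equivMapOfInjective (MulAut.conj g).toMonoidHom (MulAut.conj g).injective).injective h

/-- a nontrivial `p`-subgroup has order divisible by `p` -/
theorem dvd_card_of_isPGroup {p : ℕ} [Fact p.Prime] {X : Subgroup G} (hX : IsPGroup p X) (hX1 : X ≠ ⊥) :
    p ∣ Nat.card X := by
  obtain ⟨k, hk⟩ := IsPGroup.iff_card.mp hX
  have hk0 : k ≠ 0 := by
    rintro rfl
    rw [pow_zero] at hk
    exact hX1 ((Subgroup.card_eq_one).mp hk)
  rw [hk]
  exact dvd_pow_self p hk0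

/-- **Bender–Glauberman 12.2(a)**: if a maximal subgroup `H` contains the normalizer of a nontrivial
`p`-subgroup, then `p ∈ σ(H) ∪ τ₂(H)`. -/
theorem mem_sigma_or_tau2 (hG : IsMinSimpleOddOrder G) {H : Subgroup G} (hH : IsCoatom H) {p : ℕ}
    [Fact p.Prime] {X : Subgroup G} (hXp : IsPGroup p X) (hX1 : X ≠ ⊥)
    (hNX : normalizer (X : Set G) ≤ H) : p ∈ sigma H ∨ p ∈ tau2 H := by
  have hpp : p.Prime := Fact.out
  have hU := Cfsg.Agent.Lib.Helper49_SigmaDisjoint.uniqHyp hG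
  by_cases hσ : p ∈ sigma H
  · exact Or.inl hσ
  right
  refine ⟨hpp, hσ, Cfsg.Agent.Lib.Helper23_SigmaHall.pRankLE_of_not_mem_sigma hG hU hH hpp hσ, ?_⟩
  intro hr1
  apply hσ
  have hXH : X ≤ H := le_normalizer.trans hNX
  obtain ⟨T, hXT, hT⟩ := exists_isSylowIn_ge (H := H) hXH hXp
  have hpH : p ∣ Nat.card H := (dvd_card_of_isPGroup hXp hX1).trans (Subgroup.card_dvd_of_le hXH)
  have hp2 : p ≠ 2 := Cfsg.Agent.Lib.Helper79_BG141.odd_prime hG hpH
  have hrT : PRankLE p 1 ↥T :=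
    Cfsg.Agent.Lib.Helper2_PRank.pRankLE_of_injective' p 1 (Subgroup.inclusion hT.le)
      (Subgroup.inclusion_injective hT.le) hr1
  have hcyc : IsCyclic ↥T := Cfsg.Agent.Lib.Helper29_BG12a.isCyclic_of_pRankLE_one hp2 hT.isPGroup hrT
  apply mem_sigma_of_isSylowIn hT hpH
  exact (Cfsg.Agent.Lib.Helper73_BG12.normalizer_le_normalizer_of_isCyclic hcyc hXT).trans hNX

omit [Finite G] in
/-- a `p`-element has order coprime to any number prime to `p` -/
theorem orderOf_coprime_of_pow {p : ℕ} [Fact p.Prime] {s : G} (hs : ∃ k : ℕ, s ^ p ^ k = 1) {n : ℕ}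
    (hn : ¬ p ∣ n) : (orderOf s).Coprime n := by
  have hpp : p.Prime := Fact.out
  obtain ⟨k, hk⟩ := hs
  obtain ⟨j, -, hj⟩ := (Nat.dvd_prime_pow hpp).1 (orderOf_dvd_of_pow_eq_one hk)
  rw [hj]
  apply Nat.Coprime.pow_left
  exact (Nat.Prime.coprime_iff_not_dvd hpp).2 hn

omit [Finite G] in
theorem conj_mem_of_mem_normalizer {N : Subgroup G} {g x : G} (hg : g ∈ normalizer (N : Set G))
    (hx : x ∈ N) : g * x * g⁻¹ ∈ N := (mem_normalizer_iff.mp hg x).mp hx

/-- **A piece of Bender–Glauberman 13.1.** Let `M`, `H` be maximal, `p ∈ σ(H) ∖ σ(M)`.  A `p`-element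
`s` of `M ∩ H` commutes with every element of `M_σ ∩ H`. -/
theorem commute_of_mem_sigma (hG : IsMinSimpleOddOrder G) {M H : Subgroup G} (hM : IsCoatom M)
    (hH : IsCoatom H) {p : ℕ} [Fact p.Prime] (hpH : p ∈ sigma H) (hpM : p ∉ sigma M) {s c : G}
    (hsM : s ∈ M) (hsH : s ∈ H) (hs : ∃ k : ℕ, s ^ p ^ k = 1) (hc : c ∈ sigmaCore M) (hcH : c ∈ H) :
    s * c = c * s := by
  have hpp : p.Prime := Fact.out
  have hnc : ∀ g : G, M ≠ cj g H := by
    intro g hg
    apply hpM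
    rw [hg]
    exact mem_sigma_cj hpH g
  have hPp : IsPGroup p (zpowers s) := isPGroup_zpowers hs
  have hPH : zpowers s ≤ H := (zpowers_le).mpr hsH
  have hsσ : s ∈ sigmaCore H := le_sigmaCore_of_isPGroup' hG hH hpH hPp hPH (mem_zpowers s)
  have hzM : s * c * s⁻¹ * c⁻¹ ∈ sigmaCore M :=
    mul_mem (conj_mem_of_mem_normalizer (le_normalizer_sigmaCore' M hsM) hc) (inv_mem hc)
  have hzeq : s * c * s⁻¹ * c⁻¹ = s * (c * s⁻¹ * c⁻¹) := by group
  have hzH : s * c * s⁻¹ * c⁻¹ ∈ sigmaCore H := by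
    rw [hzeq]
    exact mul_mem hsσ (conj_mem_of_mem_normalizer (le_normalizer_sigmaCore' H hcH) (inv_mem hsσ))
  have hpMσ : ¬ p ∣ Nat.card (sigmaCore M) :=
    fun hd => hpM (mem_sigma_of_dvd_card_le_sigmaCore le_rfl hpp hd)
  have key : s * (s * c * s⁻¹ * c⁻¹) = (s * c * s⁻¹ * c⁻¹) * s := by
    by_cases hα : p ∈ alpha H
    · have hsα : s ∈ alphaCore H := le_alphaCore_of_isPGroup hG hH hα hPp hPH (mem_zpowers s)
      have hzα : s * c * s⁻¹ * c⁻¹ ∈ alphaCore H := by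
        rw [hzeq]
        exact mul_mem hsα (conj_mem_of_mem_normalizer (le_normalizer_alphaCore H hcH) (inv_mem hsα))
      have h0 := Cfsg.Agent.Lib.Helper49_SigmaDisjoint.alphaCore_inf_sigmaCore hG hH hM hnc
      have h1 : s * c * s⁻¹ * c⁻¹ ∈ alphaCore H ⊓ sigmaCore M := ⟨hzα, hzM⟩
      rw [h0, mem_bot] at h1
      rw [h1, mul_one, one_mul]
    · have hPN : zpowers s ≤ normalizer ((sigmaCore M ⊓ sigmaCore H : Subgroup G) : Set G) := by
        rw [zpowers_le]
        exact inf_normalizer_le_normalizer_inf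
          ⟨le_normalizer_sigmaCore' M hsM, le_normalizer_sigmaCore' H hsH⟩
      have hcopNP : (Nat.card ↥(sigmaCore M ⊓ sigmaCore H)).Coprime (Nat.card (zpowers s)) := by
        obtain ⟨j, hj⟩ := IsPGroup.iff_card.mp hPp
        rw [hj]
        apply Nat.Coprime.pow_right
        rw [Nat.coprime_comm, Nat.Prime.coprime_iff_not_dvd hpp]
        exact fun hd => hpMσ (hd.trans (Subgroup.card_dvd_of_le inf_le_left))
      have hdisj : (sigmaCore M ⊓ sigmaCore H) ⊓ zpowers s = ⊥ :=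
        (Subgroup.disjoint_of_coprime_natCard hcopNP).eq_bot
      have hTσ : (sigmaCore M ⊓ sigmaCore H) ⊔ zpowers s ≤ sigmaCore H :=
        sup_le inf_le_right (by rw [zpowers_le]; exact hsσ)
      have hTprimes : ∀ q : ℕ, q.Prime →
          q ∣ Nat.card ↥((sigmaCore M ⊓ sigmaCore H) ⊔ zpowers s) →
          q ∈ {q | q.Prime ∧ q ∉ beta H} := by
        intro q hq hd
        refine ⟨hq, fun hβ => ?_⟩
        rcases prime_dvd_card_sup hPN hdisj hq hd with h1 | h1
        · have hqM : q ∈ sigma M := mem_sigma_of_dvd_card_le_sigmaCore inf_le_left hq h1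
          exact Cfsg.Agent.Lib.Helper49_SigmaDisjoint.alpha_inter_sigma hG hH hM hnc hβ.1 hqM
        · have := primes_of_isPGroup hpp hPp q hq h1
          rw [Set.mem_singleton_iff] at this
          rw [this] at hβ
          exact hα hβ.1
      obtain ⟨-, -, -, ⟨Y, hY, hYn⟩, -⟩ := Cfsg.Agent.S1414.result hG H hH
      have hsolv : Group.IsSolvable ↥(sigmaCore H) :=
        isSolvable_of_le hG hH (Cfsg.Agent.Lib.Helper23_SigmaHall.sigmaCore_le H)
      have hTn : Group.IsNilpotent ↥((sigmaCore M ⊓ sigmaCore H) ⊔ zpowers s) :=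
        isNilpotent_of_le_piHall hsolv ((isPiHallOf_iff _ _ _).mp hY) hYn hTσ hTprimes
      obtain ⟨k, hk⟩ := hs
      have hsT : s ∈ (sigmaCore M ⊓ sigmaCore H) ⊔ zpowers s :=
        (le_sup_right : zpowers s ≤ _) (mem_zpowers s)
      have hzT : s * c * s⁻¹ * c⁻¹ ∈ (sigmaCore M ⊓ sigmaCore H) ⊔ zpowers s :=
        (le_sup_left : sigmaCore M ⊓ sigmaCore H ≤ _) ⟨hzM, hzH⟩
      have hzN : (s * c * s⁻¹ * c⁻¹) ^ Nat.card ↥(sigmaCore M ⊓ sigmaCore H) = 1 := by
        have := pow_card_eq_one' (G := ↥(sigmaCore M ⊓ sigmaCore H))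
          (x := ⟨s * c * s⁻¹ * c⁻¹, ⟨hzM, hzH⟩⟩)
        exact congrArg Subtype.val this
      have hcop2 : (p ^ k).Coprime (Nat.card ↥(sigmaCore M ⊓ sigmaCore H)) := by
        apply Nat.Coprime.pow_left
        rw [Nat.Prime.coprime_iff_not_dvd hpp]
        exact fun hd => hpMσ (hd.trans (Subgroup.card_dvd_of_le inf_le_left))
      have hcomm := Cfsg.Agent.Lib.Helper32_Nilpotent.commute_of_coprime_pow_eq_one
        ↥((sigmaCore M ⊓ sigmaCore H) ⊔ zpowers s) ⟨s, hsT⟩ ⟨s * c * s⁻¹ * c⁻¹, hzT⟩ (p ^ k)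
        (Nat.card ↥(sigmaCore M ⊓ sigmaCore H)) (Subtype.ext (by simpa using hk))
        (Subtype.ext (by simpa using hzN)) hcop2
      exact congrArg Subtype.val hcomm.eq
  have hzk : (s * c * s⁻¹ * c⁻¹) ^ Nat.card ↥(sigmaCore M) = 1 := by
    have := pow_card_eq_one' (G := ↥(sigmaCore M)) (x := ⟨s * c * s⁻¹ * c⁻¹, hzM⟩)
    exact congrArg Subtype.val this
  exact Cfsg.Agent.Lib.Helper24_Coprime.commute_of_coprime_commutator s c key _ hzk
    (orderOf_coprime_of_pow hs hpMσ)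

end Cfsg.Agent.Lib.Helper76_BG13b
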