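import Cfsg.Agent.Lib.Helper49_FrobCyc
import Cfsg.Agent.Lib.Helper76_BG13b
import Cfsg.Agent.Lib.Helper24_CoprimeHall
import Cfsg.Agent.Lib.Helper49_Alpha2
import Cfsg.Agent.S1407

/-!
# Bender–Glauberman: a regular `τ₁`-subgroup acting on a `q`-subgroup, and `M_α` (helper49)

`M` maximal, `p ∈ τ₁(M)`, `P ≤ M` of order `p` normalizing a nontrivial `q`-subgroup `Q` of `M` with
`C_Q(P) = 1`, `q ∉ α(M)`, `M_α ≠ 1`, and `M` is not the unique maximal subgroup containing `N_G(Q)`.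
Then `C_{M_α}(P) ≠ 1` and `C_{M_α}(Q P) = 1`.  (The lemma `cent_Malpha_reg_tau1`, part (a), of the
Coq proof of the Odd Order Theorem, which sits between B–G 12.13 and 12.14.)
-/

set_option autoImplicit false
set_option linter.style.haveILetI false

namespace Cfsg.Agent.Lib.Helper49_BG1214

open Subgroup Cfsg Cfsg.Agent.Lib.Helper22_Radical Cfsg.Agent.Lib.Helper22_BGTrans
  Cfsg.Agent.Lib.Helper84_RelSylow Cfsg.Agent.Lib.Helper49_Sigma
  Cfsg.Agent.Lib.Helper24_CoprimeHall Cfsg.Agent.Lib.Helper24_CoprimeAction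
  Cfsg.Agent.Lib.Helper76_BG13a Cfsg.Agent.Lib.Helper76_BG13b Cfsg.Agent.Lib.Helper22_Uniq

universe u

variable {G : Type u} [Group G] [Finite G]

/-- the hypothesis "`M` is not the unique maximal subgroup containing `N_G(Q)`" is contradicted by a
uniqueness subgroup of `M` normalizing `Q` -/
theorem false_of_inUniqueMaximal (hG : IsMinSimpleOddOrder G) {M Q X : Subgroup G} (hM : IsCoatom M)
    (hQ1 : Q ≠ ⊥) (hQM : Q ≤ M) (hXM : X ≤ M) (hXQ : X ≤ normalizer (Q : Set G))
    (hXU : InUniqueMaximal X)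
    (hN : ¬ (normalizer (Q : Set G) ≤ M ∧
      ∀ L : Subgroup G, IsCoatom L → normalizer (Q : Set G) ≤ L → L = M)) : False := by
  have hQtop : Q ≠ ⊤ := ne_top_of_le_ne_top hM.1 hQM
  have hNtop := normalizer_ne_top hG hQ1 hQtop
  obtain ⟨M₀, -, huniq⟩ := hXU
  have hall : ∀ L : Subgroup G, IsCoatom L → normalizer (Q : Set G) ≤ L → L = M := by
    intro L hL hNL
    rw [huniq L ⟨hL, hXQ.trans hNL⟩, huniq M ⟨hM, hXM⟩]
  obtain ⟨L, hL, hNL⟩ := (eq_top_or_exists_le_coatom _).resolve_left hNtop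
  apply hN
  refine ⟨?_, hall⟩
  rw [← hall L hL hNL]
  exact hNL

/-- a subgroup of `M` containing an elementary abelian subgroup of rank three is a uniqueness
subgroup -/
theorem inUniqueMaximal_of_not_pRankLE (hG : IsMinSimpleOddOrder G) {M K : Subgroup G}
    (hM : IsCoatom M) (hKM : K ≤ M) {l : ℕ} [Fact l.Prime] (hK : ¬ PRankLE l 2 ↥K) :
    InUniqueMaximal K := by
  have hU := Cfsg.Agent.Lib.Helper49_SigmaDisjoint.uniqHyp hG
  obtain ⟨E, hEK, hEc, hEe, hE3⟩ := Cfsg.Agent.Lib.Helper22_Uniq.exists_elemAb_of_not_pRankLE hK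
  have hEU : InUniqueMaximal E :=
    Cfsg.Agent.Lib.Helper49_Alpha2.inUniqueMaximal_of_elemAb_three hG hU hEc hEe hE3
  exact Cfsg.Agent.Lib.Helper49_Alpha2.inUniqueMaximal_mono hEK (ne_top_of_le_ne_top hM.1 hKM) hEU


/-- `M_α` has `l`-rank at least three for `l ∈ α(M)` -/
theorem not_pRankLE_alphaCore (hG : IsMinSimpleOddOrder G) {M : Subgroup G} (hM : IsCoatom M)
    {l : ℕ} (hlα : l ∈ alpha M) : ¬ PRankLE l 2 ↥(alphaCore M) := by
  obtain ⟨E, hEM, hEc, hEe, hE3⟩ := Cfsg.Agent.Lib.Helper22_Uniq.exists_elemAb_of_not_pRankLE hlα.2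
  have hEp : IsPGroup l ↥E := Cfsg.Agent.Lib.Helper49_Alpha2.isPGroup_of_exp hEe
  have hEα : E ≤ alphaCore M := le_alphaCore_of_isPGroup hG hM hlα hEp hEM
  exact Cfsg.Agent.Lib.Helper22_Uniq.not_pRankLE_of_elemAb hEα hEc hEe hE3

omit [Finite G] in
/-- a subgroup of prime order acting without fixed points: the elementwise Frobenius condition -/
theorem fpf_of_inf_centralizer_eq_bot {p : ℕ} (hpp : p.Prime) {P Q : Subgroup G}
    (hP : Nat.card ↥P = p) (hfix : Q ⊓ centralizer (P : Set G) = ⊥) :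
    ∀ e ∈ P, e ≠ 1 → ∀ u ∈ Q, e * u = u * e → u = 1 := by
  intro e he he1 u hu heu
  have hz := Cfsg.Agent.Lib.Helper49_FrobCyc.zpowers_eq_of_card_prime hpp hP he he1
  have : u ∈ Q ⊓ centralizer (P : Set G) := by
    refine ⟨hu, ?_⟩
    show u ∈ centralizer (P : Set G)
    rw [mem_centralizer_iff]
    intro y hy
    rw [SetLike.mem_coe, ← hz] at hy
    obtain ⟨k, rfl⟩ := mem_zpowers_iff.mp hy
    exact ((Commute.zpow_left (show Commute e u from heu) k).eq)
  rw [hfix, mem_bot] at this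
  exact this

omit [Finite G] in
/-- an `l`-subgroup of a group all of whose Sylow subgroups are cyclic is cyclic -/
theorem isCyclic_of_le_isZGroup {l : ℕ} (hl : l.Prime) {T Y : Subgroup G} (hTY : T ≤ Y)
    (hT : IsPGroup l ↥T) (hZ : IsZGroup ↥Y) : IsCyclic ↥T := by
  have hT' : IsPGroup l ↥(T.subgroupOf Y) :=
    hT.comap_of_injective Y.subtype Y.subtype_injective
  obtain ⟨S, hS⟩ := hT'.exists_le_sylow
  haveI : IsCyclic ↥(S : Subgroup ↥Y) := hZ.isZGroup l hl S
  have h1 : IsCyclic ↥(T.subgroupOf Y) :=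
    isCyclic_of_injective (Subgroup.inclusion hS) (Subgroup.inclusion_injective hS)
  exact isCyclic_of_injective (Subgroup.subgroupOfEquivOfLe hTY).symm.toMonoidHom
    (Subgroup.subgroupOfEquivOfLe hTY).symm.injective

/-- **`cent_Malpha_reg_tau1`, part (a).** -/
theorem cent_alpha_reg (hG : IsMinSimpleOddOrder G) {M : Subgroup G} (hM : IsCoatom M) {p : ℕ}
    [hpF : Fact p.Prime] (hp : p ∈ tau1 M) {P Q : Subgroup G} (hPM : P ≤ M) (hP : Nat.card ↥P = p)
    {q : ℕ} [hqF : Fact q.Prime] (hQq : IsPGroup q ↥Q) (hQ1 : Q ≠ ⊥) (hQM : Q ≤ M)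
    (hPQ : P ≤ normalizer (Q : Set G)) (hfix : Q ⊓ centralizer (P : Set G) = ⊥)
    (hqα : q ∉ alpha M) (hα : alphaCore M ≠ ⊥)
    (hN : ¬ (normalizer (Q : Set G) ≤ M ∧
      ∀ L : Subgroup G, IsCoatom L → normalizer (Q : Set G) ≤ L → L = M)) :
    alphaCore M ⊓ centralizer (P : Set G) ≠ ⊥ ∧
      alphaCore M ⊓ centralizer (Q : Set G) ⊓ centralizer (P : Set G) = ⊥ := by
  have hpp : p.Prime := hpF.out
  have hqq : q.Prime := hqF.out
  obtain ⟨-, hpσ, hpM, -, hr1⟩ := hp
  have hpα : p ∉ alpha M := fun h =>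
    h.2 (Cfsg.Agent.Lib.Helper22_Uniq.pRankLE_mono hpp (by norm_num) hr1)
  have hhall := alpha_hall hG hM
  have hMαM : alphaCore M ≤ M := hhall.1
  have hMαn : M ≤ normalizer ((alphaCore M : Subgroup G) : Set G) := le_normalizer_alphaCore M
  have hsolvα : Group.IsSolvable ↥(alphaCore M) := isSolvable_of_le hG hM hMαM
  have hP1 : P ≠ ⊥ := by
    rintro rfl
    rw [Subgroup.card_bot] at hP
    exact hpp.one_lt.ne hP
  have hfpf := fpf_of_inf_centralizer_eq_bot hpp hP hfix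
  have hUn : ∀ e ∈ P, ∀ u ∈ Q, e * u * e⁻¹ ∈ Q := fun e he u hu =>
    (mem_normalizer_iff.mp (hPQ he) u).mp hu
  have hQP : Q ⊓ P = ⊥ := by
    by_contra h
    obtain ⟨e, he1⟩ := (Subgroup.ne_bot_iff_exists_ne_one.mp h)
    have he1' : (e : G) ≠ 1 := fun h' => he1 (Subtype.ext h')
    exact he1' (hfpf e e.2.2 he1' e e.2.1 rfl)
  have hcardΓ : Nat.card ↥(Q ⊔ P) = Nat.card ↥Q * Nat.card ↥P := card_sup_of_disjoint' P Q hPQ hQP
  have hΓM : Q ⊔ P ≤ M := sup_le hQM hPM
  have hcop : ∀ K : Subgroup G, K ≤ alphaCore M → (Nat.card ↥(Q ⊔ P)).Coprime (Nat.card ↥K) := by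
    intro K hK
    apply Nat.coprime_of_dvd
    intro k hk hkΓ hkK
    have hkα : k ∈ alpha M := hhall.2.1 k hk (hkK.trans (Subgroup.card_dvd_of_le hK))
    rw [hcardΓ, hP] at hkΓ
    rcases (Nat.Prime.dvd_mul hk).mp hkΓ with h | h
    · have := primes_of_isPGroup hqq hQq k hk h
      rw [Set.mem_singleton_iff] at this
      exact hqα (this ▸ hkα)
    · have := (Nat.prime_dvd_prime_iff_eq hk hpp).mp h
      exact hpα (this ▸ hkα)
  -- first assertion
  have hstep1 : alphaCore M ⊓ centralizer (P : Set G) ≠ ⊥ := by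
    intro h
    have hform := Cfsg.Agent.Lib.Helper52_FrobFormula.frobenius_formula Q P (alphaCore M) hP1 hUn
      hfpf (hΓM.trans hMαn) hsolvα (hcop _ le_rfl)
    have hb : Nat.card ↥(alphaCore M ⊓ centralizer (P : Set G)) = 1 := by
      rw [h]; exact Subgroup.card_bot
    have ha : Nat.card ↥(alphaCore M ⊓ centralizer ((Q ⊔ P : Subgroup G) : Set G)) = 1 := by
      have : alphaCore M ⊓ centralizer ((Q ⊔ P : Subgroup G) : Set G) ≤
          alphaCore M ⊓ centralizer (P : Set G) :=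
        inf_le_inf_left _ (Subgroup.centralizer_le (SetLike.coe_subset_coe.mpr le_sup_right))
      rw [h, le_bot_iff] at this
      rw [this]; exact Subgroup.card_bot
    rw [ha, hb, one_pow, one_mul, one_mul] at hform
    have heq : alphaCore M ⊓ centralizer (Q : Set G) = alphaCore M :=
      Subgroup.eq_of_le_of_card_ge inf_le_left (le_of_eq hform)
    have hle : alphaCore M ≤ centralizer (Q : Set G) := heq ▸ inf_le_right
    have hc1 : Nat.card ↥(alphaCore M) ≠ 1 := fun h' => hα (Subgroup.card_eq_one.mp h')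
    obtain ⟨l, hl, hld⟩ := Nat.exists_prime_and_dvd hc1
    have hlα : l ∈ alpha M := hhall.2.1 l hl hld
    haveI : Fact l.Prime := ⟨hl⟩
    have hU : InUniqueMaximal (alphaCore M) :=
      inUniqueMaximal_of_not_pRankLE hG hM hMαM (not_pRankLE_alphaCore hG hM hlα)
    exact false_of_inUniqueMaximal hG hM hQ1 hQM hMαM (hle.trans (centralizer_le_normalizer _)) hU hN
  refine ⟨hstep1, ?_⟩
  -- second assertion
  by_contra hY
  have hc1 : Nat.card ↥(alphaCore M ⊓ centralizer (Q : Set G) ⊓ centralizer (P : Set G)) ≠ 1 :=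
    fun h' => hY (Subgroup.card_eq_one.mp h')
  obtain ⟨l, hl, hld⟩ := Nat.exists_prime_and_dvd hc1
  haveI hlF : Fact l.Prime := ⟨hl⟩
  obtain ⟨c, hc⟩ := exists_prime_orderOf_dvd_card' l hld
  have hcα : (c : G) ∈ alphaCore M := c.2.1.1
  have hcQ : (c : G) ∈ centralizer (Q : Set G) := c.2.1.2
  have hcP : (c : G) ∈ centralizer (P : Set G) := c.2.2
  have hco : orderOf (c : G) = l := by rw [Subgroup.orderOf_coe, hc]
  have hcne : (c : G) ≠ 1 := by
    intro h
    rw [h, orderOf_one] at hco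
    exact hl.one_lt.ne hco
  have hlα : l ∈ alpha M :=
    hhall.2.1 l hl (hld.trans (Subgroup.card_dvd_of_le (inf_le_left.trans inf_le_left)))
  have hl2 : l ≠ 2 := by
    rintro rfl
    have h2 : 2 ∣ Nat.card G := hld.trans (Subgroup.card_subgroup_dvd_card _)
    have hodd : Odd (Nat.card G) := hG.1
    rw [Nat.odd_iff] at hodd
    omega
  have hUle : zpowers (c : G) ≤ alphaCore M := zpowers_le.mpr hcα
  have hΓc : ∀ g ∈ Q ⊔ P, g * (c : G) = (c : G) * g := by
    have : Q ⊔ P ≤ centralizer ({(c : G)} : Set G) := by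
      apply sup_le
      · intro g hg
        rw [mem_centralizer_iff]
        intro y hy
        rw [Set.mem_singleton_iff] at hy
        rw [hy]
        exact (mem_centralizer_iff.mp hcQ g hg).symm
      · intro g hg
        rw [mem_centralizer_iff]
        intro y hy
        rw [Set.mem_singleton_iff] at hy
        rw [hy]
        exact (mem_centralizer_iff.mp hcP g hg).symm
    intro g hg
    exact (mem_centralizer_iff.mp (this hg) _ (Set.mem_singleton _)).symm
  have hAU : Q ⊔ P ≤ normalizer ((zpowers (c : G) : Subgroup G) : Set G) := by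
    refine le_trans ?_ (centralizer_le_normalizer _)
    intro g hg
    rw [mem_centralizer_iff]
    intro y hy
    obtain ⟨k, rfl⟩ := mem_zpowers_iff.mp hy
    exact ((Commute.zpow_left (show Commute (c : G) g from (hΓc g hg).symm) k).eq)
  have hUπ : ∀ r : ℕ, r.Prime → r ∣ Nat.card ↥(zpowers (c : G)) → r ∈ ({l} : Set ℕ) := by
    intro r hr hrd
    rw [Nat.card_zpowers, hco] at hrd
    exact (Nat.prime_dvd_prime_iff_eq hr hl).mp hrd
  obtain ⟨H, hH, hAH, hUH⟩ := exists_invariant_piHall_ge ({l} : Set ℕ) (Q ⊔ P) (alphaCore M)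
    (zpowers (c : G)) (hΓM.trans hMαn) (hcop _ le_rfl) hsolvα hUle hAU hUπ
  obtain ⟨hHα, hHπ, hHidx⟩ := hH
  have hHl : IsPGroup l ↥H := isPGroup_of_primes hl hHπ
  have hHsyl : IsSylowIn l H M := by
    refine ⟨hHα.trans hMαM, hHl, ?_⟩
    rw [← Subgroup.relIndex_mul_relIndex H (alphaCore M) M hHα hMαM]
    intro hd
    rcases (Nat.Prime.dvd_mul hl).mp hd with h | h
    · rw [relIndex_eq_div hHα] at h
      exact hHidx l hl rfl h
    · exact hhall.2.2 l hl hlα h
  have hHrank : ¬ PRankLE l 2 ↥H := by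
    obtain ⟨E, hEM, hEc, hEe, hE3⟩ :=
      Cfsg.Agent.Lib.Helper22_Uniq.exists_elemAb_of_not_pRankLE hlα.2
    have hEp : IsPGroup l ↥E := Cfsg.Agent.Lib.Helper49_Alpha2.isPGroup_of_exp hEe
    obtain ⟨m, -, hmE⟩ := hHsyl.exists_conj_le hEM hEp
    apply Cfsg.Agent.Lib.Helper22_Uniq.not_pRankLE_of_elemAb (E := E.map (MulAut.conj m).toMonoidHom)
      (K := H) (by rintro _ ⟨a, ha, rfl⟩; simpa using hmE a ha)
    · rintro _ ⟨a, ha, rfl⟩ _ ⟨b, hb, rfl⟩
      rw [← map_mul, ← map_mul, hEc a ha b hb]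
    · rintro _ ⟨a, ha, rfl⟩
      rw [← map_pow, hEe a ha, map_one]
    · rw [Subgroup.card_map_of_injective (MulAut.conj m).injective]
      exact hE3
  have hHU : InUniqueMaximal H := inUniqueMaximal_of_not_pRankLE hG hM hHsyl.le hHrank
  have hHQ : ¬ H ≤ centralizer (Q : Set G) := fun h =>
    false_of_inUniqueMaximal hG hM hQ1 hQM hHsyl.le (h.trans (centralizer_le_normalizer _)) hHU hN
  -- `C_H(P)` is cyclic
  have hcyc : IsCyclic ↥(H ⊓ centralizer (P : Set G)) := by
    have hPp : IsPGroup p ↥(P.subgroupOf M) :=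
      (IsPGroup.of_card (n := 1) (by rw [hP, pow_one])).comap_of_injective M.subtype
        M.subtype_injective
    obtain ⟨P₀, hP₀⟩ := hPp.exists_le_sylow
    obtain ⟨x, hx, hxo, hZ, -⟩ := Cfsg.Agent.S1407.result hG M hM hα p hpM hpσ P₀
    obtain ⟨x', ⟨z, hz, hzx'⟩, hx'x⟩ := hx
    have hxz : x = (((z : ↥(P₀ : Subgroup ↥M)) : ↥M) : G) := by rw [← hx'x, ← hzx']; rfl
    -- `x` commutes with `P`
    have hxP : ∀ e ∈ P, x * e = e * x := by
      intro e he
      have he' : (⟨e, hPM he⟩ : ↥M) ∈ (P₀ : Subgroup ↥M) := hP₀ (Subgroup.mem_subgroupOf.mpr he)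
      have := Subgroup.mem_center_iff.mp hz ⟨⟨e, hPM he⟩, he'⟩
      have h2 := congrArg (fun t : ↥(P₀ : Subgroup ↥M) => ((t : ↥M) : G)) this
      rw [hxz]
      simpa using h2.symm
    have hxM : x ∈ M := hxz ▸ (z : ↥M).2
    have hxp : x ^ p = 1 := by rw [← hxo]; exact pow_orderOf_eq_one x
    have hxne : x ≠ 1 := by
      intro h
      rw [h, orderOf_one] at hxo
      exact hpp.one_lt.ne hxo
    have hxinP : x ∈ P := by
      by_contra hxn
      obtain ⟨hzc, hze⟩ := Cfsg.Agent.Lib.Helper49_Alpha2.elemAb_zpowers hxp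
      have hPc : ∀ a ∈ P, ∀ b ∈ P, a * b = b * a := by
        intro a ha b hb
        by_cases ha1 : a = 1
        · rw [ha1, one_mul, mul_one]
        · have hzP := Cfsg.Agent.Lib.Helper49_FrobCyc.zpowers_eq_of_card_prime hpp hP ha ha1
          rw [← hzP] at hb
          obtain ⟨k, rfl⟩ := mem_zpowers_iff.mp hb
          exact ((Commute.refl a).zpow_right k).eq
      have hPe : ∀ a ∈ P, a ^ p = 1 := by
        intro a ha
        have := pow_card_eq_one' (G := ↥P) (x := ⟨a, ha⟩)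
        rw [hP] at this
        exact congrArg Subtype.val this
      have hcross : ∀ a ∈ zpowers x, ∀ b ∈ P, a * b = b * a := by
        intro a ha b hb
        obtain ⟨k, rfl⟩ := mem_zpowers_iff.mp ha
        exact ((Commute.zpow_left (show Commute x b from hxP b hb) k).eq)
      obtain ⟨hEc, hEe⟩ := Cfsg.Agent.Lib.Helper49_Alpha2.elemAb_sup hzc hze hPc hPe hcross
      have hEM : zpowers x ⊔ P ≤ M := sup_le (zpowers_le.mpr hxM) hPM
      have hlt : p ^ 1 < Nat.card ↥(zpowers x ⊔ P) := by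
        rw [pow_one, ← hP]
        by_contra hle
        push Not at hle
        have := Subgroup.eq_of_le_of_card_ge (le_sup_right : P ≤ zpowers x ⊔ P) hle
        apply hxn
        rw [this]
        exact le_sup_left (a := zpowers x) (mem_zpowers x)
      exact Cfsg.Agent.Lib.Helper22_Uniq.not_pRankLE_of_elemAb hEM hEc hEe hlt hr1
    have hle : H ⊓ centralizer (P : Set G) ≤ alphaCore M ⊓ centralizer ({x} : Set G) :=
      inf_le_inf hHα (Subgroup.centralizer_le (Set.singleton_subset_iff.mpr hxinP))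
    exact isCyclic_of_le_isZGroup hl hle (hHl.to_le inf_le_left) hZ
  have hfinal := Cfsg.Agent.Lib.Helper49_FrobCyc.inf_centralizer_eq_bot hl2 hP hPQ hfix hHl
    (le_sup_left.trans hAH) (le_sup_right.trans hAH) (hcop H hHα) hcyc hHQ
  have hc' : (c : G) ∈ H ⊓ centralizer (Q : Set G) ⊓ centralizer (P : Set G) :=
    ⟨⟨hUH (mem_zpowers _), hcQ⟩, hcP⟩
  rw [hfinal, mem_bot] at hc'
  exact hcne hc'

end Cfsg.Agent.Lib.Helper49_BG1214
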