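import Cfsg.Agent.Lib.Helper31_BG13b
import Cfsg.Agent.Lib.Helper49_BG1214
import Cfsg.Agent.Lib.Helper47_BG1214a
import Cfsg.Agent.Lib.Helper23_BG13Hyp
import Cfsg.Agent.Lib.Helper39_BG134c
import Cfsg.Agent.Lib.Helper62_BG137
import Cfsg.Agent.Lib.Helper73_BG1210
import Cfsg.Agent.S1420
import Cfsg.Agent.S1405
import Cfsg.Agent.S1406
import Cfsg.Agent.S1414
import Cfsg.Agent.S1415
import Cfsg.Agent.S1422
import Cfsg.Agent.S1423
import Cfsg.Agent.S1426
import Cfsg.Agent.S1427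

/-!
# Bender–Glauberman, Theorem 13.10(b) (helper73)

`M` maximal, `E` a complement of `M_σ`, `P ≤ E` of prime order `p ∈ τ₁(M)`, `R₁ ≤ E` of prime order
`r ∈ τ₃(M)`.  If `P` does not centralize `R₁`, then `R₁` acts regularly on `M_σ`:
`C_{M_σ}(R₁) = 1`.

The proof follows helper79's reconstruction (msg 1665): it uses the asymmetry lemma B-G 13.8 as a
hypothesis Prop `Asym G` and the frozen row S1428 as `H1428 G`.
-/

set_option autoImplicit false

namespace Cfsg.Agent.Lib.Helper73_BG1310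

open Subgroup Cfsg Cfsg.Agent.Lib.Helper22_Radical Cfsg.Agent.Lib.Helper22_BGTrans
  Cfsg.Agent.Lib.Helper24_CoprimeHall Cfsg.Agent.Lib.Helper24_CoprimeAction
  Cfsg.Agent.Lib.Helper76_BG13a Cfsg.Agent.Lib.Helper76_BG13b Cfsg.Agent.Lib.Helper76_BG13c
  Cfsg.Agent.Lib.Helper84_RelSylow Cfsg.Agent.Lib.Helper23_BG13Hyp

universe u

variable {G : Type u} [Group G] [Finite G]

/-- B-G Lemma 13.8 (asymmetry), in helper79's formulation, as a hypothesis. -/
def Asym (G : Type u) [Group G] [Finite G] : Prop :=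
  ∀ (M Ms : Subgroup G), IsCoatom M → IsCoatom Ms →
    (∀ g : G, Ms ≠ M.map (MulAut.conj g).toMonoidHom) →
  ∀ (p q qs : ℕ), p.Prime → q.Prime → qs.Prime → p ∈ tau1 M → p ∈ tau1 Ms →
  ∀ (P Q Qs : Subgroup G), Nat.card P = p → P ≤ M ⊓ Ms → IsSylowIn q Q (M ⊓ Ms) →
    IsSylowIn qs Qs (M ⊓ Ms) → P ≤ normalizer (Q : Set G) → P ≤ normalizer (Qs : Set G) →
    Q ⊓ centralizer (P : Set G) = ⊥ → Qs ⊓ centralizer (P : Set G) = ⊥ →
    normalizer (Q : Set G) ≤ Ms → normalizer (Qs : Set G) ≤ M → False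

/-- the Sylow `r`-subgroup of `E` over a subgroup `R` of prime order `r ∈ τ₃(M)` -/
theorem exists_sylow_of_tau3 (hG : IsMinSimpleOddOrder G) {M E : Subgroup G} (hM : IsCoatom M)
    (hE : IsComplIn E (sigmaCore M) M) {r : ℕ} (hr : r ∈ tau3 M) {R : Subgroup G} (hRE : R ≤ E)
    (hRc : Nat.card R = r) :
    ∃ Q : Subgroup G, R ≤ Q ∧ Q ≤ E ∧ IsSylowIn r Q M ∧ IsCyclic ↥Q ∧ E ≤ normalizer (Q : Set G) ∧
      Q ≤ ⁅E, E⁆ := by
  have hrp : r.Prime := hr.1
  have : Fact r.Prime := ⟨hrp⟩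
  have hRr : IsPGroup r R := IsPGroup.of_card (n := 1) (by rw [hRc, pow_one])
  have hsolvE : Group.IsSolvable ↥E := isSolvable_of_le hG hM hE.1
  obtain ⟨E₃, hE₃, hRE₃⟩ := exists_piHall_ge (π := tau3 M) hsolvE hRE (by
    intro q hq hd
    rw [hRc] at hd
    rw [(Nat.prime_dvd_prime_iff_eq hq hrp).mp hd]
    exact hr)
  obtain ⟨hcyc, hE₃', hnorm⟩ := (Cfsg.Agent.S1415.result hG M hM E hE).2.2 E₃
    ((isPiHallOf_iff _ _ _).2 hE₃)
  obtain ⟨Q, hRQ, hQ⟩ := exists_isSylowIn_ge (p := r) hRE₃ hRr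
  have hQE₃ : Q ≤ E₃ := hQ.le
  have hQE : Q ≤ E := hQE₃.trans hE₃.1
  have hQcyc : IsCyclic ↥Q := by
    have : IsCyclic ↥(Q.subgroupOf E₃) := inferInstance
    exact isCyclic_of_surjective (Subgroup.subgroupOfEquivOfLe hQE₃)
      (Subgroup.subgroupOfEquivOfLe hQE₃).surjective
  refine ⟨Q, hRQ, hQE, ?_, hQcyc, ?_, hQE₃.trans hE₃'⟩
  · refine ⟨hQE.trans hE.1, hQ.isPGroup, ?_⟩
    -- index computation
    have h1 : Q.relIndex M = Q.relIndex E₃ * (E₃.relIndex E * E.relIndex M) := by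
      rw [Subgroup.relIndex_mul_relIndex E₃ E M hE₃.1 hE.1,
        Subgroup.relIndex_mul_relIndex Q E₃ M hQE₃ (hE₃.1.trans hE.1)]
    rw [h1]
    intro hd
    rcases (Nat.Prime.dvd_mul hrp).1 hd with h | h
    · exact hQ.not_dvd h
    rcases (Nat.Prime.dvd_mul hrp).1 h with h | h
    · have := hE₃.2.2 r hrp hr
      rw [← relIndex_eq_div hE₃.1] at this
      exact this h
    · -- `|M : E| = |M_σ|`
      have hcardM : Nat.card E * Nat.card (sigmaCore M) = Nat.card M := card_mul_of_isComplIn hE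
      have h2 := relIndex_mul_card' hE.1
      have h3 : E.relIndex M = Nat.card (sigmaCore M) := by
        apply Nat.eq_of_mul_eq_mul_right (Nat.card_pos (α := E))
        rw [h2, ← hcardM, mul_comm]
      rw [h3] at h
      exact hr.2.1 (mem_sigma_of_dvd_card_le_sigmaCore le_rfl hrp h)
  · intro e he
    have heN := hnorm he
    rw [mem_normalizer_iff_map_conj] at heN ⊢
    have h1 : Q.map (MulAut.conj e).toMonoidHom ≤ E₃ := by
      have := Subgroup.map_mono (f := (MulAut.conj e).toMonoidHom) hQE₃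
      rwa [heN] at this
    exact Cfsg.Agent.Lib.Helper52_BG12a.eq_of_card_eq_of_isCyclic (P := E₃) h1 hQE₃
      (card_cj e Q)

/-- **Frattini argument with `M_β`**: if `Q` is a Sylow `r`-subgroup of `M`, `r ∉ β(M)`, lying in `M'`, then
`M = M_β N_M(Q)`. -/
theorem le_betaCore_sup_normalizer (hG : IsMinSimpleOddOrder G) {M : Subgroup G} (hM : IsCoatom M)
    {r : ℕ} [Fact r.Prime] (hrβ : r ∉ beta M) {Q : Subgroup G} (hQ : IsSylowIn r Q M)
    (hQM' : Q ≤ ⁅M, M⁆) (hβM' : piCoreOf (beta M) M ≤ ⁅M, M⁆) :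
    M ≤ piCoreOf (beta M) M ⊔ (M ⊓ normalizer (Q : Set G)) := by
  have hrp : r.Prime := Fact.out
  obtain ⟨hB, -, ⟨H, hH, hHnil⟩, -, -⟩ := Cfsg.Agent.S1414.result hG M hM
  have hKM : ⁅M, M⁆ ≤ M := commutator_le_of_le_normalizer M M le_normalizer
  have hMK : M ≤ normalizer ((⁅M, M⁆ : Subgroup G) : Set G) :=
    fun m hm => mem_normalizer_commutator M M (le_normalizer hm) (le_normalizer hm)
  have hsolvK : Group.IsSolvable ↥(⁅M, M⁆ : Subgroup G) :=
    hG.2.2.2 _ (ne_top_of_le_ne_top hM.1 hKM)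
  have hH' := (isPiHallOf_iff _ H ⁅M, M⁆).mp hH
  obtain ⟨H₁, hH₁, hQH₁⟩ := exists_piHall_ge hsolvK hQM' (π := {q | q.Prime ∧ q ∉ beta M}) (by
    intro q hq hd
    rw [Cfsg.Agent.Lib.Helper47_BG1214a.prime_eq_of_dvd_card_pgroup hQ.isPGroup hq hd]
    exact ⟨hrp, hrβ⟩)
  obtain ⟨g, -, hgH⟩ := piHall_conj hsolvK hH' hH₁
  have hH₁nil : Group.IsNilpotent ↥H₁ := by
    rw [← hgH]
    exact Cfsg.Agent.Lib.Helper47_BG1214a.isNilpotent_cj hHnil g
  have hQH : IsSylowIn r Q H₁ := hQ.mono hQH₁ (hH₁.1.trans hKM)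
  have hH₁N : H₁ ≤ normalizer (Q : Set G) :=
    Cfsg.Agent.Lib.Helper47_BG1214a.le_normalizer_of_isSylowIn_of_isNilpotent hQH hH₁nil
  have hBM : piCoreOf (beta M) M ≤ M := piCoreOf_le _ _
  have hH₁' := (isPiHallOf_iff _ H₁ ⁅M, M⁆).mpr hH₁
  have hKle : ⁅M, M⁆ ≤ piCoreOf (beta M) M ⊔ H₁ := by
    rw [← relIndex_eq_one]
    by_contra hne
    obtain ⟨t, ht, htd⟩ := Nat.exists_prime_and_dvd hne
    by_cases htβ : t ∈ beta M
    · apply hB.2.2 t ht htβ
      have h1 : (piCoreOf (beta M) M ⊔ H₁).relIndex ⁅M, M⁆ ∣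
          (piCoreOf (beta M) M).relIndex ⁅M, M⁆ := relIndex_dvd_of_le_left _ le_sup_left
      have h2 : (piCoreOf (beta M) M).relIndex ⁅M, M⁆ ∣ (piCoreOf (beta M) M).relIndex M :=
        Dvd.intro _ (relIndex_mul_relIndex _ _ _ hβM' hKM)
      exact htd.trans (h1.trans h2)
    · apply hH₁'.2.2 t ht ⟨ht, htβ⟩
      have h1 : (piCoreOf (beta M) M ⊔ H₁).relIndex ⁅M, M⁆ ∣ H₁.relIndex ⁅M, M⁆ :=
        relIndex_dvd_of_le_left _ le_sup_right
      exact htd.trans h1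
  intro m hm
  have hQK : IsSylowIn r Q ⁅M, M⁆ := hQ.mono hQM' hKM
  obtain ⟨k, hk, hkm⟩ := Cfsg.Agent.Lib.Helper47_BG1214a.frattini_isSylowIn hQK (hMK hm)
  have hH₁B : H₁ ≤ normalizer ((piCoreOf (beta M) M : Subgroup G) : Set G) :=
    (hH₁.1.trans hKM).trans (le_normalizer_piCoreOf _ _)
  obtain ⟨b, hb, h, hh, e⟩ := Cfsg.Agent.Lib.Helper24_CoprimeAction.exists_mul_of_mem_sup H₁
    (piCoreOf (beta M) M) hH₁B (hKle (inv_mem hk))
  have hbm : b⁻¹ * m ∈ normalizer (Q : Set G) := by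
    have e2 : b⁻¹ * m = h * (k * m) := by
      have e3 : k = h⁻¹ * b⁻¹ := by
        rw [← inv_inv k, e]
        group
      rw [e3]
      group
    rw [e2]
    exact mul_mem (hH₁N hh) hkm
  have e4 : m = b * (b⁻¹ * m) := by group
  rw [e4]
  exact mul_mem (mem_sup_left hb)
    (mem_sup_right (Subgroup.mem_inf.mpr ⟨mul_mem (inv_mem (hBM hb)) hm, hbm⟩))

/-! ### Small general lemmas -/

omit [Finite G] in
/-- `[K : B ∩ K]` divides `[M : B]` when `K ≤ M` and `M` normalizes `B` -/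
theorem relIndex_dvd_relIndex_of_le_normalizer {B K M : Subgroup G} (hKM : K ≤ M)
    (hMB : M ≤ normalizer (B : Set G)) : B.relIndex K ∣ B.relIndex M := by
  have hn : (B.subgroupOf M).Normal := Subgroup.normal_subgroupOf_of_le_normalizer hMB
  have h1 := Subgroup.relIndex_dvd_index_of_normal (B.subgroupOf M) (K.subgroupOf M)
  rwa [Subgroup.relIndex_subgroupOf hKM] at h1

omit [Finite G] in
/-- a Sylow `ℓ`-subgroup of `B ∩ K`, `B` a normal Hall `π`-subgroup of `M ≥ K`, `ℓ ∈ π`, is a Sylow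
`ℓ`-subgroup of `K` -/
theorem isSylowIn_of_inf_hall {π : Set ℕ} {B K M T : Subgroup G} {l : ℕ} (hl : l.Prime) (hlπ : l ∈ π)
    (hB : IsPiHallOf π B M) (hMB : M ≤ normalizer (B : Set G)) (hKM : K ≤ M)
    (hT : IsSylowIn l T (B ⊓ K)) : IsSylowIn l T K := by
  refine ⟨hT.le.trans inf_le_right, hT.isPGroup, ?_⟩
  rw [← Subgroup.relIndex_mul_relIndex T (B ⊓ K) K hT.le inf_le_right]
  intro hd
  rcases (Nat.Prime.dvd_mul hl).1 hd with h | h
  · exact hT.not_dvd h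
  · rw [Subgroup.inf_relIndex_right] at h
    exact hB.2.2 l hl hlπ (h.trans (relIndex_dvd_relIndex_of_le_normalizer hKM hMB))

/-- the subgroup of prime order of a cyclic group is normalized by the normalizer of the group -/
theorem normalizer_le_normalizer_of_isCyclic {Q R : Subgroup G} (hQc : IsCyclic ↥Q) (hRQ : R ≤ Q) :
    normalizer (Q : Set G) ≤ normalizer (R : Set G) := by
  intro g hg
  rw [mem_normalizer_iff_map_conj] at hg ⊢
  have h1 : R.map (MulAut.conj g).toMonoidHom ≤ Q := by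
    have := Subgroup.map_mono (f := (MulAut.conj g).toMonoidHom) hRQ
    rwa [hg] at this
  exact Cfsg.Agent.Lib.Helper52_BG12a.eq_of_card_eq_of_isCyclic (P := Q) h1 hRQ (card_cj g R)

/-- in a cyclic `r`-group `Q` whose subgroup `R` of order `r` is not centralized by `P`, no non-identity
element is centralized by `P` -/
theorem inf_centralizer_eq_bot_of_isCyclic {r : ℕ} [Fact r.Prime] {Q R P : Subgroup G}
    (hQc : IsCyclic ↥Q) (hQr : IsPGroup r Q) (hRQ : R ≤ Q) (hRc : Nat.card R = r)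
    (hnc : ¬ P ≤ centralizer (R : Set G)) : Q ⊓ centralizer (P : Set G) = ⊥ := by
  have hrp : r.Prime := Fact.out
  by_contra hne
  have hCr : IsPGroup r ↥(Q ⊓ centralizer (P : Set G) : Subgroup G) := hQr.to_le inf_le_left
  have hd : r ∣ Nat.card ↥(Q ⊓ centralizer (P : Set G) : Subgroup G) := dvd_card_of_isPGroup hCr hne
  obtain ⟨x, hx⟩ := exists_prime_orderOf_dvd_card' (G := ↥(Q ⊓ centralizer (P : Set G) : Subgroup G)) r hd
  have hxQ : (x : G) ∈ Q := x.2.1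
  have hxC : (x : G) ∈ centralizer (P : Set G) := x.2.2
  have hcard : Nat.card (zpowers (x : G)) = r := by
    rw [Nat.card_zpowers, Subgroup.orderOf_coe, hx]
  have heq : zpowers (x : G) = R :=
    Cfsg.Agent.Lib.Helper52_BG12a.eq_of_card_eq_of_isCyclic (P := Q) (zpowers_le.mpr hxQ) hRQ
      (hcard.trans hRc.symm)
  apply hnc
  rw [← heq, Subgroup.le_centralizer_iff, zpowers_le]
  exact hxC

/-! ### `M_β`, `M_α` and normalizers of `β(M)`-subgroups -/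

omit [Finite G] in
theorem betaCore_le_alphaCore (M : Subgroup G) : piCoreOf (beta M) M ≤ alphaCore M := by
  apply Subgroup.map_mono
  apply sSup_le_sSup
  rintro N ⟨hN, h⟩
  exact ⟨hN, fun q hq hd => (h q hq hd).1⟩

omit [Finite G] in
theorem inf_inf_eq_of_le {B M H : Subgroup G} (hBM : B ≤ M) : B ⊓ (M ⊓ H) = B ⊓ H := by
  rw [← inf_assoc, inf_eq_left.mpr hBM]

/-- the normalizer of a nontrivial `ℓ`-subgroup of `M`, `ℓ ∈ β(M)`, lies in `M` (S1423, S1420) -/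
theorem normalizer_le_of_beta (hG : IsMinSimpleOddOrder G) {M E : Subgroup G} (hM : IsCoatom M)
    (hE : IsComplIn E (sigmaCore M) M) {l : ℕ} [Fact l.Prime] (hl : l ∈ beta M) {Y : Subgroup G}
    (hYl : IsPGroup l Y) (hY1 : Y ≠ ⊥) (hYM : Y ≤ M) : normalizer (Y : Set G) ≤ M := by
  have hlp : l.Prime := Fact.out
  have hlσ : l ∈ sigma M := Cfsg.Agent.Lib.Helper47_BG1214a.beta_subset_sigma hG
    (Cfsg.Agent.Lib.Helper49_SigmaDisjoint.uniqHyp hG) hM hl
  by_cases hc : IsCyclic ↥Y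
  · obtain ⟨X0, hX0Y, hX0c⟩ := Cfsg.Agent.Lib.Helper62_BG117.exists_le_card_eq_prime hYl hY1
    have hNN := normalizer_le_normalizer_of_isCyclic hc hX0Y
    have hX01 : X0 ≠ ⊥ := by
      intro h
      rw [h, Subgroup.card_bot] at hX0c
      exact hlp.one_lt.ne hX0c
    have hX0top : X0 ≠ ⊤ := by
      intro h
      exact hM.1 (top_le_iff.mp (h ▸ hX0Y.trans hYM))
    obtain ⟨L, hL, hNL⟩ := (eq_top_or_exists_le_coatom _).resolve_left
      (normalizer_ne_top hG hX01 hX0top)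
    obtain ⟨S⟩ : Nonempty (Sylow l ↥(sigmaCore M)) := inferInstance
    have h23 := (Cfsg.Agent.S1423.result hG M hM l hlσ X0 (hX0Y.trans hYM) hX0c S (Or.inl hl)).1
    have hLM : L = M :=
      h23.2 L hL ((Subgroup.centralizer_le_normalizer (s := (X0 : Set G))).trans hNL)
    rw [hLM] at hNL
    exact hNN.trans hNL
  · exact (Cfsg.Agent.S1420.result hG M hM E hE).2.2.1 l Y hlσ hYl hYM hc

/-! ### Case A: `M_β ∩ H ≠ 1` -/

/-- **Case A**: if `M_β ∩ H ≠ 1`, a `P`-invariant Sylow subgroup of `M_β ∩ H` is the required `Q*`. -/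
theorem caseA (hG : IsMinSimpleOddOrder G) {M E H : Subgroup G} (hM : IsCoatom M)
    (hE : IsComplIn E (sigmaCore M) M) (hEH : E ≤ H)
    {p r : ℕ} (hp : p ∈ tau1 M) {P R1 : Subgroup G} (hPE : P ≤ E) (hP : Nat.card P = p)
    (hr : r ∈ tau3 M) (hRE : R1 ≤ E) (hR : Nat.card R1 = r)
    (hnc : ¬ P ≤ centralizer (R1 : Set G))
    (hDH : sigmaCore M ⊓ H = sigmaCore M ⊓ centralizer (R1 : Set G))
    (hJ : piCoreOf (beta M) M ⊓ (M ⊓ H) ≠ ⊥) :
    ∃ (l : ℕ) (Qs : Subgroup G), l.Prime ∧ Qs ≠ ⊥ ∧ IsSylowIn l Qs (M ⊓ H) ∧ Qs ≤ sigmaCore M ∧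
      P ≤ normalizer (Qs : Set G) ∧ Qs ⊓ centralizer (P : Set G) = ⊥ ∧
      normalizer (Qs : Set G) ≤ M := by
  have hpp : p.Prime := hp.1
  have hrp : r.Prime := hr.1
  have : Fact p.Prime := ⟨hpp⟩
  have : Fact r.Prime := ⟨hrp⟩
  have hU := Cfsg.Agent.Lib.Helper49_SigmaDisjoint.uniqHyp hG
  obtain ⟨hB, -, -, -, -⟩ := Cfsg.Agent.S1414.result hG M hM
  have hBM : piCoreOf (beta M) M ≤ M := piCoreOf_le _ _
  have hMB : M ≤ normalizer ((piCoreOf (beta M) M : Subgroup G) : Set G) := le_normalizer_piCoreOf _ _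
  have hBσ : piCoreOf (beta M) M ≤ sigmaCore M :=
    Cfsg.Agent.Lib.Helper47_BG1214a.betaCore_le_sigmaCore hG hU hM
  have hBα : piCoreOf (beta M) M ≤ alphaCore M := betaCore_le_alphaCore M
  have hPM : P ≤ M := hPE.trans hE.1
  have hPH : P ≤ H := hPE.trans hEH
  -- a prime divisor of `|J|`
  have hJ1 : Nat.card ↥(piCoreOf (beta M) M ⊓ (M ⊓ H) : Subgroup G) ≠ 1 :=
    fun h => hJ (Subgroup.card_eq_one.mp h)
  obtain ⟨l, hl, hld⟩ := Nat.exists_prime_and_dvd hJ1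
  have : Fact l.Prime := ⟨hl⟩
  have hlβ : l ∈ beta M := hB.2.1 l hl (hld.trans (Subgroup.card_dvd_of_le inf_le_left))
  -- `P` normalizes `J`
  have hPJ : P ≤ normalizer ((piCoreOf (beta M) M ⊓ (M ⊓ H) : Subgroup G) : Set G) := by
    refine (le_inf (hPM.trans hMB) ?_).trans Subgroup.inf_normalizer_le_normalizer_inf
    exact (le_inf (hPM.trans le_normalizer) (hPH.trans le_normalizer)).trans
      Subgroup.inf_normalizer_le_normalizer_inf
  have hcop : (Nat.card P).Coprime (Nat.card ↥(piCoreOf (beta M) M ⊓ (M ⊓ H) : Subgroup G)) := by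
    rw [hP, Nat.Prime.coprime_iff_not_dvd hpp]
    intro hd
    exact hp.2.1 (mem_sigma_of_dvd_card_le_sigmaCore (inf_le_left.trans hBσ) hpp hd)
  have hsolvJ : Group.IsSolvable ↥(piCoreOf (beta M) M ⊓ (M ⊓ H) : Subgroup G) :=
    isSolvable_of_le hG hM (inf_le_left.trans hBM)
  obtain ⟨S, hS⟩ := exists_invariant_sylow P _ hPJ hcop (Or.inr hsolvJ) l
  have hSJ : IsSylowIn l (sylowImage S) (piCoreOf (beta M) M ⊓ (M ⊓ H)) := isSylowIn_of_sylow S
  have hS1 : sylowImage S ≠ ⊥ := by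
    intro h
    have := hSJ.not_dvd
    rw [h, Subgroup.relIndex_bot_left] at this
    exact this hld
  refine ⟨l, sylowImage S, hl, hS1, ?_, ?_, hS, ?_, ?_⟩
  · exact isSylowIn_of_inf_hall hl hlβ hB hMB inf_le_left hSJ
  · exact hSJ.le.trans (inf_le_left.trans hBσ)
  · -- fixed points
    have hα : alphaCore M ≠ ⊥ := by
      intro h
      apply hJ
      rw [eq_bot_iff, ← h]
      exact inf_le_left.trans hBα
    have hR1r : IsPGroup r R1 := IsPGroup.of_card (n := 1) (by rw [hR, pow_one])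
    have hR11 : R1 ≠ ⊥ := by
      intro h
      rw [h, Subgroup.card_bot] at hR
      exact hrp.one_lt.ne hR
    have hENR : E ≤ normalizer (R1 : Set G) :=
      Cfsg.Agent.Lib.Helper31_BG13b.normal_of_tau3 hG hM hE hr hRE hR
    have hR1cyc : IsCyclic ↥R1 := isCyclic_of_prime_card hR
    have hfixR : R1 ⊓ centralizer (P : Set G) = ⊥ :=
      inf_centralizer_eq_bot_of_isCyclic hR1cyc hR1r le_rfl hR hnc
    have hrα : r ∉ alpha M := fun h =>
      h.2 (Cfsg.Agent.Lib.Helper22_Uniq.pRankLE_mono hrp (by norm_num) hr.2.2.2)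
    have hreg := (Cfsg.Agent.Lib.Helper49_BG1214.cent_alpha_reg hG hM hp hPM hP hR1r hR11
      (hRE.trans hE.1) (hPE.trans hENR) hfixR hrα hα
      (fun h => Cfsg.Agent.Lib.Helper31_BG13b.normalizer_not_le_of_tau3 hG hM hr hR h.1)).2
    rw [eq_bot_iff, ← hreg]
    intro x hx
    have hxJ := hSJ.le hx.1
    have hxD : x ∈ sigmaCore M ⊓ H := ⟨hBσ hxJ.1, hxJ.2.2⟩
    rw [hDH] at hxD
    exact ⟨⟨hBα hxJ.1, hxD.2⟩, hx.2⟩
  · exact normalizer_le_of_beta hG hM hE hlβ hSJ.isPGroup hS1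
      (hSJ.le.trans (inf_le_left.trans hBM))

/-! ### Case B: `M_β ∩ H = 1` -/

/-- **Case B**: if `M_β ∩ H = 1`, then `D = M_σ ∩ H` is an abelian Hall subgroup of `M_σ` on which `P`
acts without fixed points, and a `P`-invariant Sylow subgroup of `D` is the required `Q*`. -/
theorem caseB (hG : IsMinSimpleOddOrder G) (h28 : H1428 G) {M E H : Subgroup G} (hM : IsCoatom M)
    (hE : IsComplIn E (sigmaCore M) M) (hH : IsCoatom H) (hHM : H ≠ M) (hEH : E ≤ H)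
    (hncMH : ∀ g : G, M ≠ cj g H)
    {p r : ℕ} (hp : p ∈ tau1 M) {P R1 : Subgroup G} (hPE : P ≤ E) (hP : Nat.card P = p)
    (hr : r ∈ tau3 M) (hRE : R1 ≤ E) (hR : Nat.card R1 = r)
    (hD : sigmaCore M ⊓ centralizer (R1 : Set G) ≠ ⊥)
    (hDH : sigmaCore M ⊓ H = sigmaCore M ⊓ centralizer (R1 : Set G))
    (hcov : M ≤ piCoreOf (beta M) M ⊔ (M ⊓ H))
    (hJ : piCoreOf (beta M) M ⊓ (M ⊓ H) = ⊥) :
    ∃ (l : ℕ) (Qs : Subgroup G), l.Prime ∧ Qs ≠ ⊥ ∧ IsSylowIn l Qs (M ⊓ H) ∧ Qs ≤ sigmaCore M ∧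
      P ≤ normalizer (Qs : Set G) ∧ Qs ⊓ centralizer (P : Set G) = ⊥ ∧
      normalizer (Qs : Set G) ≤ M := by
  have hpp : p.Prime := hp.1
  have hrp : r.Prime := hr.1
  have : Fact p.Prime := ⟨hpp⟩
  have : Fact r.Prime := ⟨hrp⟩
  have hU := Cfsg.Agent.Lib.Helper49_SigmaDisjoint.uniqHyp hG
  obtain ⟨hB, -, -, ⟨H0, hH0, hH0nil⟩, -⟩ := Cfsg.Agent.S1414.result hG M hM
  have hσhall := sigma_hall hG hM
  have hσM : sigmaCore M ≤ M := hσhall.1
  have hMσn : M ≤ normalizer ((sigmaCore M : Subgroup G) : Set G) := le_normalizer_piCoreOf _ _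
  have hBM : piCoreOf (beta M) M ≤ M := piCoreOf_le _ _
  have hMB : M ≤ normalizer ((piCoreOf (beta M) M : Subgroup G) : Set G) := le_normalizer_piCoreOf _ _
  have hBσ : piCoreOf (beta M) M ≤ sigmaCore M :=
    Cfsg.Agent.Lib.Helper47_BG1214a.betaCore_le_sigmaCore hG hU hM
  have hPM : P ≤ M := hPE.trans hE.1
  have hPH : P ≤ H := hPE.trans hEH
  have hD' : sigmaCore M ⊓ H ≠ ⊥ := by rw [hDH]; exact hD
  have hsolvσ : Group.IsSolvable ↥(sigmaCore M) := isSolvable_of_le hG hM hσM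
  have hsolvE : Group.IsSolvable ↥E := isSolvable_of_le hG hM hE.1
  -- `D` is a complement of `M_β` in `M_σ`
  have hcomp : IsComplIn (sigmaCore M ⊓ H) (piCoreOf (beta M) M) (sigmaCore M) := by
    refine ⟨inf_le_left, hBσ, ?_, ?_⟩
    · rw [eq_bot_iff, ← hJ]
      intro x hx
      exact ⟨hx.2, hσM hx.1.1, hx.1.2⟩
    · intro m hm
      have hm' : m⁻¹ ∈ piCoreOf (beta M) M ⊔ (M ⊓ H) := hcov (hσM (inv_mem hm))
      obtain ⟨k, hk, a, ha, e⟩ := exists_mul_of_mem_sup (M ⊓ H) (piCoreOf (beta M) M)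
        (inf_le_left.trans hMB) hm'
      have haσ : a ∈ sigmaCore M := by
        have e2 : a = k⁻¹ * m⁻¹ := by rw [e]; group
        rw [e2]
        exact mul_mem (inv_mem (hBσ hk)) (inv_mem hm)
      refine ⟨a⁻¹, inv_mem ⟨haσ, ha.2⟩, k⁻¹, inv_mem hk, ?_⟩
      rw [← mul_inv_rev, ← e, inv_inv]
  have hBhall : IsPiHallOf (beta M) (piCoreOf (beta M) M) (sigmaCore M) := by
    refine ⟨hBσ, hB.2.1, fun q hq hqβ hd => hB.2.2 q hq hqβ ?_⟩
    exact hd.trans (Dvd.intro _ (Subgroup.relIndex_mul_relIndex _ _ _ hBσ hσM))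
  have hDhall : PiHall {q | q ∉ beta M} (sigmaCore M ⊓ H) (sigmaCore M) :=
    piHall_of_isComplIn hBhall hcomp
  -- `D` is nilpotent, hence abelian
  have hDnil : Group.IsNilpotent ↥(sigmaCore M ⊓ H : Subgroup G) :=
    isNilpotent_of_le_piHall hsolvσ ((isPiHallOf_iff _ _ _).mp hH0) hH0nil inf_le_left
      (fun q hq hd => ⟨hq, hDhall.2.1 q hq hd⟩)
  have hDcomm : ∀ a b : ↥(sigmaCore M ⊓ H : Subgroup G), a * b = b * a := by
    apply Cfsg.Agent.Lib.Helper73_BG1210.comm_of_nilpotent_of_sylow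
    intro q _ Q _ a ha b hb
    have hq : q.Prime := Fact.out
    have hT : IsPGroup q ↥((Q : Subgroup ↥(sigmaCore M ⊓ H : Subgroup G)).map
        (sigmaCore M ⊓ H : Subgroup G).subtype) := Q.2.map _
    have hTle : (Q : Subgroup ↥(sigmaCore M ⊓ H : Subgroup G)).map
        (sigmaCore M ⊓ H : Subgroup G).subtype ≤ sigmaCore M ⊓ H := Subgroup.map_subtype_le _
    have := Cfsg.Agent.Lib.Helper39_BG134c.comm_of_le_inf hG hM hH hHM
      (hTle.trans (inf_le_left.trans hσM)) (hTle.trans inf_le_right) hq hT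
      (a : G) ⟨a, ha, rfl⟩ (b : G) ⟨b, hb, rfl⟩
    exact Subtype.ext this
  have hDD : ⁅(sigmaCore M ⊓ H : Subgroup G), (sigmaCore M ⊓ H : Subgroup G)⁆ = ⊥ := by
    rw [eq_bot_iff, Subgroup.commutator_le]
    intro a ha b hb
    rw [Subgroup.mem_bot, commutatorElement_eq_one_iff_mul_comm]
    exact congrArg Subtype.val (hDcomm ⟨a, ha⟩ ⟨b, hb⟩)
  have hσ'B : ⁅sigmaCore M, sigmaCore M⁆ ≤ piCoreOf (beta M) M := by
    have hσle : sigmaCore M ≤ piCoreOf (beta M) M ⊔ (sigmaCore M ⊓ H) := by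
      intro m hm
      obtain ⟨a, ha, b, hb, rfl⟩ := hcomp.2.2.2 m hm
      exact mul_mem (mem_sup_right ha) (mem_sup_left hb)
    have h1 := Cfsg.Agent.Lib.Helper39_BG134.commutator_sup_le (piCoreOf (beta M) M)
      (sigmaCore M ⊓ H) ((inf_le_left.trans hσM).trans hMB)
    rw [hDD, sup_bot_eq] at h1
    exact (Subgroup.commutator_mono hσle hσle).trans h1
  -- `W₀ = C_D(P)` is centralized by `E`
  have htau2 : ∀ q, q ∉ tau2 M :=
    Cfsg.Agent.Lib.Helper31_BG13b.tau2_empty_of_caseB hG hM hE ⟨r, hr, R1, hRE, hR, hD⟩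
  have hEhall : PiHall {q | q ∉ sigma M} E M := piHall_of_isComplIn hσhall hE
  obtain ⟨E1, hE1, hPE1⟩ := exists_piHall_ge (π := tau1 M) hsolvE hPE (by
    intro q hq hd
    rw [hP] at hd
    rw [(Nat.prime_dvd_prime_iff_eq hq hpp).mp hd]
    exact hp)
  have hE1W : E1 ≤ centralizer (((sigmaCore M ⊓ H) ⊓ centralizer (P : Set G) : Subgroup G) : Set G) :=
    Cfsg.Agent.Lib.Helper62_BG137.hall_tau1_le_centralizer hG h28 hM hE hp hP hE1 hPE1
      (inf_le_left.trans inf_le_left) inf_le_right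
  have hEW : E ≤ centralizer (((sigmaCore M ⊓ H) ⊓ centralizer (P : Set G) : Subgroup G) : Set G) := by
    apply Cfsg.Agent.Lib.Helper62_BG117.le_of_forall_sylow_le
    intro s hs
    have : Fact s.Prime := ⟨hs⟩
    by_cases hsE : s ∣ Nat.card E
    · have hsσ : s ∉ sigma M := hEhall.2.1 s hs hsE
      have hsM : s ∣ Nat.card M := hsE.trans (Subgroup.card_dvd_of_le hE.1)
      have hr2 := Cfsg.Agent.Lib.Helper23_SigmaHall.pRankLE_of_not_mem_sigma hG hU hM hs hsσ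
      have hr1 : PRankLE s 1 ↥M := by
        by_contra h
        exact htau2 s ⟨hs, hsσ, hr2, h⟩
      by_cases hsd : s ∣ Nat.card ↥⁅M, M⁆
      · have hs3 : s ∈ tau3 M := ⟨hs, hsσ, hsd, hr1⟩
        obtain ⟨T, -, hT⟩ := exists_isSylowIn_ge (p := s) (H := E) (K := ⊥) bot_le IsPGroup.of_bot
        refine ⟨T, ?_, hT.le, hT.not_dvd⟩
        have hT1 : T ≠ ⊥ := by
          intro h
          have := hT.not_dvd
          rw [h, Subgroup.relIndex_bot_left] at this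
          exact this hsE
        have hn1 := Cfsg.Agent.Lib.Helper31_BG13b.not_mem_tau1_of_tau3 hG hM hE hEH hs3 hT.le
          hT.isPGroup hT1
        have hcen := Cfsg.Agent.Lib.Helper31_BG131.le_centralizer_of_not_tau1 hG hM hH hncMH hsσ hn1
          (hT.le.trans hE.1) (hT.le.trans hEH) hT.isPGroup
        exact hcen.trans (Subgroup.centralizer_le (fun x hx => hx.1))
      · have hs1 : s ∈ tau1 M := ⟨hs, hsσ, hsM, hsd, hr1⟩
        refine ⟨E1, hE1W, hE1.1, ?_⟩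
        rw [relIndex_eq_div hE1.1]
        exact hE1.2.2 s hs hs1
    · refine ⟨⊥, bot_le, bot_le, ?_⟩
      rw [Subgroup.relIndex_bot_left]
      exact hsE
  have h26 := Cfsg.Agent.S1426.result hG M hM E hE
  have hW0 : (sigmaCore M ⊓ H) ⊓ centralizer (P : Set G) = ⊥ := by
    rw [eq_bot_iff, ← hJ]
    intro x hx
    have hxC : x ∈ sigmaCore M ⊓ centralizer (E : Set G) :=
      ⟨hx.1.1, (Subgroup.le_centralizer_iff.mp hEW) hx⟩
    exact ⟨hσ'B (h26.1 hxC), hσM hx.1.1, hx.1.2⟩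
  -- the choice of `Q*`
  have hD1 : Nat.card ↥(sigmaCore M ⊓ H : Subgroup G) ≠ 1 :=
    fun h => hD' (Subgroup.card_eq_one.mp h)
  obtain ⟨l, hl, hld⟩ := Nat.exists_prime_and_dvd hD1
  have : Fact l.Prime := ⟨hl⟩
  have hlσ : l ∈ sigma M := mem_sigma_of_dvd_card_le_sigmaCore inf_le_left hl hld
  have hlβ : l ∉ beta M := hDhall.2.1 l hl hld
  have hPD : P ≤ normalizer ((sigmaCore M ⊓ H : Subgroup G) : Set G) :=
    (le_inf (hPM.trans hMσn) (hPH.trans le_normalizer)).trans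
      Subgroup.inf_normalizer_le_normalizer_inf
  have hcop : (Nat.card P).Coprime (Nat.card ↥(sigmaCore M ⊓ H : Subgroup G)) := by
    rw [hP, Nat.Prime.coprime_iff_not_dvd hpp]
    intro hd
    exact hp.2.1 (mem_sigma_of_dvd_card_le_sigmaCore inf_le_left hpp hd)
  have hsolvD : Group.IsSolvable ↥(sigmaCore M ⊓ H : Subgroup G) :=
    isSolvable_of_le hG hM (inf_le_left.trans hσM)
  obtain ⟨S, hS⟩ := exists_invariant_sylow P _ hPD hcop (Or.inr hsolvD) l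
  have hSD : IsSylowIn l (sylowImage S) (sigmaCore M ⊓ H) := isSylowIn_of_sylow S
  have hS1 : sylowImage S ≠ ⊥ := by
    intro h
    have := hSD.not_dvd
    rw [h, Subgroup.relIndex_bot_left] at this
    exact this hld
  have hSMH : IsSylowIn l (sylowImage S) (M ⊓ H) := by
    apply isSylowIn_of_inf_hall hl hlσ hσhall hMσn inf_le_left
    rw [inf_inf_eq_of_le hσM]
    exact hSD
  have hSM : IsSylowIn l (sylowImage S) M := by
    refine ⟨hSD.le.trans (inf_le_left.trans hσM), hSD.isPGroup, ?_⟩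
    rw [← Subgroup.relIndex_mul_relIndex _ (sigmaCore M ⊓ H) M hSD.le (inf_le_left.trans hσM),
      ← Subgroup.relIndex_mul_relIndex (sigmaCore M ⊓ H) (sigmaCore M) M inf_le_left hσM]
    intro hd
    rcases (Nat.Prime.dvd_mul hl).1 hd with h | h
    · exact hSD.not_dvd h
    rcases (Nat.Prime.dvd_mul hl).1 h with h | h
    · rw [relIndex_eq_div inf_le_left] at h
      exact hDhall.2.2 l hl hlβ h
    · exact hσhall.2.2 l hl hlσ h
  obtain ⟨P0, hP0⟩ := Cfsg.Agent.Lib.Helper49_Sigma.exists_sylM_of_mem_sigma hlσ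
  obtain ⟨P', hP', hSP'⟩ := Cfsg.Agent.Lib.Helper49_Sigma.exists_sylM_ge hP0 hSD.isPGroup hSM.le
  have hPeq : P' = sylowImage S := hSM.eq_of_le hSP' hP'.2.1 hP'.1.isPGroup
  refine ⟨l, sylowImage S, hl, hS1, hSMH, hSD.le.trans inf_le_left, hS, ?_, ?_⟩
  · rw [eq_bot_iff, ← hW0]
    exact fun x hx => ⟨hSD.le hx.1, hx.2⟩
  · rw [← hPeq]
    exact hP'.2.2

/-! ### The theorem -/

/-- **Bender–Glauberman, Theorem 13.10(b)** (modulo the asymmetry lemma 13.8 and S1428). -/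
theorem tau13_regular (hG : IsMinSimpleOddOrder G) (h28 : H1428 G) (hAsym : Asym G)
    {M E : Subgroup G} (hM : IsCoatom M) (hE : IsComplIn E (sigmaCore M) M)
    {p r : ℕ} (hp : p ∈ tau1 M) {P R1 : Subgroup G} (hPE : P ≤ E) (hP : Nat.card P = p)
    (hr : r ∈ tau3 M) (hRE : R1 ≤ E) (hR : Nat.card R1 = r)
    (hnc : ¬ P ≤ centralizer (R1 : Set G)) :
    sigmaCore M ⊓ centralizer (R1 : Set G) = ⊥ := by
  by_contra hD
  have hpp : p.Prime := hp.1
  have hrp : r.Prime := hr.1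
  have : Fact p.Prime := ⟨hpp⟩
  have : Fact r.Prime := ⟨hrp⟩
  have hU := Cfsg.Agent.Lib.Helper49_SigmaDisjoint.uniqHyp hG
  obtain ⟨Q, hRQ, hQE, hQS, hQc, hEQ, hQE'⟩ := exists_sylow_of_tau3 hG hM hE hr hRE hR
  obtain ⟨H, hH, hNH, hEH, hHM⟩ :=
    Cfsg.Agent.Lib.Helper31_BG13b.exists_coatom_normalizer_of_tau3 hG hM hE hr hRE hR
  have hR1r : IsPGroup r R1 := IsPGroup.of_card (n := 1) (by rw [hR, pow_one])
  have hPp : IsPGroup p P := IsPGroup.of_card (n := 1) (by rw [hP, pow_one])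
  have hR11 : R1 ≠ ⊥ := by
    intro h
    rw [h, Subgroup.card_bot] at hR
    exact hrp.one_lt.ne hR
  have hncMH := Cfsg.Agent.Lib.Helper31_BG13b.not_conj_of_normalizer_le hG hH hr.2.1 hr.2.2.2 hR1r
    hR11 hNH
  have hDH := Cfsg.Agent.Lib.Helper31_BG13b.sigmaCore_inf_eq_of_tau3 hG hM hE hH hr hRE hR hNH
  have hNQH : normalizer (Q : Set G) ≤ H :=
    (normalizer_le_normalizer_of_isCyclic hQc hRQ).trans hNH
  have hQfix : Q ⊓ centralizer (P : Set G) = ⊥ :=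
    inf_centralizer_eq_bot_of_isCyclic hQc hQS.isPGroup hRQ hR hnc
  have hrβ : r ∉ beta M := fun h =>
    h.1.2 (Cfsg.Agent.Lib.Helper22_Uniq.pRankLE_mono hrp (by norm_num) hr.2.2.2)
  have hσM : sigmaCore M ≤ M := (sigma_hall hG hM).1
  have hPM : P ≤ M := hPE.trans hE.1
  have hPH : P ≤ H := hPE.trans hEH
  have hEE : ⁅E, E⁆ ≤ ⁅M, M⁆ := Subgroup.commutator_mono hE.1 hE.1
  have hBσ : piCoreOf (beta M) M ≤ sigmaCore M :=
    Cfsg.Agent.Lib.Helper47_BG1214a.betaCore_le_sigmaCore hG hU hM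
  have h26 := Cfsg.Agent.S1426.result hG M hM E hE
  have hσM' : sigmaCore M ≤ ⁅M, M⁆ :=
    calc sigmaCore M = ⁅sigmaCore M, E⁆ := h26.2.1.symm
      _ ≤ ⁅M, M⁆ := Subgroup.commutator_mono hσM hE.1
  have hcov0 := le_betaCore_sup_normalizer hG hM hrβ hQS (hQE'.trans hEE) (hBσ.trans hσM')
  have hcov : M ≤ piCoreOf (beta M) M ⊔ (M ⊓ H) :=
    hcov0.trans (sup_le_sup_left (inf_le_inf_left _ hNQH) _)
  obtain ⟨l, Qs, hl, hQs1, hQsS, hQsσ, hPQs, hfix, hN⟩ :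
      ∃ (l : ℕ) (Qs : Subgroup G), l.Prime ∧ Qs ≠ ⊥ ∧ IsSylowIn l Qs (M ⊓ H) ∧ Qs ≤ sigmaCore M ∧
        P ≤ normalizer (Qs : Set G) ∧ Qs ⊓ centralizer (P : Set G) = ⊥ ∧
        normalizer (Qs : Set G) ≤ M := by
    by_cases hJ : piCoreOf (beta M) M ⊓ (M ⊓ H) = ⊥
    · exact caseB hG h28 hM hE hH hHM hEH hncMH hp hPE hP hr hRE hR hD hDH hcov hJ
    · exact caseA hG hM hE hEH hp hPE hP hr hRE hR hnc hDH hJ
  have hpH : p ∈ tau1 H := by
    by_contra hn
    have hcen := Cfsg.Agent.Lib.Helper31_BG131.le_centralizer_of_not_tau1 hG hM hH hncMH hp.2.1 hn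
      hPM hPH hPp
    apply hQs1
    rw [eq_bot_iff, ← hfix]
    intro x hx
    have hxD : x ∈ sigmaCore M ⊓ H := ⟨hQsσ hx, (hQsS.le hx).2⟩
    exact ⟨hx, (Subgroup.le_centralizer_iff.mp hcen) hxD⟩
  exact hAsym M H hM hH (Cfsg.Agent.Lib.Helper47_BG1214a.nonconj_symm hncMH) p r l hpp hrp hl hp hpH
    P Q Qs hP (le_inf hPM hPH) (hQS.mono (le_inf (hQE.trans hE.1) (hQE.trans hEH)) inf_le_left)
    hQsS (hPE.trans hEQ) hPQs hQfix hfix hNQH hN

/-- B-G Lemma 13.8 (asymmetry) with instance binders for the primes (the shape used by helper52/helper49) -/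
def AsymI (G : Type u) [Group G] [Finite G] : Prop :=
  ∀ (M Ms : Subgroup G), IsCoatom M → IsCoatom Ms →
    (∀ g : G, Ms ≠ M.map (MulAut.conj g).toMonoidHom) →
  ∀ (p q qs : ℕ) [Fact p.Prime] [Fact q.Prime] [Fact qs.Prime], p ∈ tau1 M → p ∈ tau1 Ms →
  ∀ (P Q Qs : Subgroup G), Nat.card P = p → P ≤ M ⊓ Ms → IsSylowIn q Q (M ⊓ Ms) →
    IsSylowIn qs Qs (M ⊓ Ms) → P ≤ normalizer (Q : Set G) → P ≤ normalizer (Qs : Set G) →
    Q ⊓ centralizer (P : Set G) = ⊥ → Qs ⊓ centralizer (P : Set G) = ⊥ →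
    normalizer (Q : Set G) ≤ Ms → normalizer (Qs : Set G) ≤ M → False

theorem asym_of_asymI (h : AsymI G) : Asym G :=
  fun M Ms hM hMs hnc p q qs hp hq hqs =>
    @h M Ms hM hMs hnc p q qs ⟨hp⟩ ⟨hq⟩ ⟨hqs⟩

theorem asymI_of_asym (h : Asym G) : AsymI G :=
  fun M Ms hM hMs hnc p q qs hp hq hqs =>
    h M Ms hM hMs hnc p q qs hp.out hq.out hqs.out

/-- **B-G 13.10(b)**, universally closed (the shape `Tau13Reg G` of helper72/helper31, unfolded). -/
theorem tau13_regular_closed (hG : IsMinSimpleOddOrder G) (h28 : H1428 G) (hAsym : Asym G) :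
    ∀ (M E : Subgroup G), IsCoatom M → IsComplIn E (sigmaCore M) M → ∀ (p r : ℕ), p ∈ tau1 M →
    ∀ (P R1 : Subgroup G), P ≤ E → Nat.card P = p → r ∈ tau3 M → R1 ≤ E → Nat.card R1 = r →
    ¬ (P ≤ centralizer (R1 : Set G)) → sigmaCore M ⊓ centralizer (R1 : Set G) = ⊥ :=
  fun _ _ hM hE _ _ hp _ _ hPE hP hr hRE hR hnc =>
    tau13_regular hG h28 hAsym hM hE hp hPE hP hr hRE hR hnc

end Cfsg.Agent.Lib.Helper73_BG1310
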