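import Cfsg.Agent.S1428
import Cfsg.Agent.Lib.Helper62_BG137b
import Cfsg.Agent.Lib.Helper31_BG1311b
import Cfsg.Agent.Lib.Helper73_BG1310
import Cfsg.Agent.Lib.Helper52_BG139

/-!
# F1 and F2 (Bender-Glauberman 13.7 and 13.11) from the asymmetry lemma 13.8 (helper23)

Glue: `H1428` is the landed S1428; `F1` is helper62's `f1_of_h1428`; `F2` is helper31's `f2_of_reg_part`
fed with helper73's 13.10(b) and helper52's 13.9, both of which rest on the asymmetry lemma
(`Helper52_BG139.Asym G`, the closed form of helper79's 13.8).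
-/

set_option autoImplicit false

namespace Cfsg.Agent.Lib.Helper23_BG13F2

open Subgroup Cfsg Cfsg.Agent.Lib.Helper23_BG13Hyp

universe u
variable {G : Type u} [Group G] [Finite G]

theorem h1428 (hG : IsMinSimpleOddOrder G) : H1428 G :=
  fun M hM E hE p hp P hPE hP R hRE hR => Cfsg.Agent.S1428.result hG M hM E hE p hp P hPE hP R hRE hR

theorem f1 (hG : IsMinSimpleOddOrder G) : F1 G :=
  Cfsg.Agent.Lib.Helper62_BG137.f1_of_h1428 hG (h1428 hG)

/-- helper73's form of the asymmetry hypothesis from helper52's form -/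
theorem asym73_of_asym52 (hA : Cfsg.Agent.Lib.Helper52_BG139.Asym G) :
    Cfsg.Agent.Lib.Helper73_BG1310.Asym G := by
  intro M Ms hM hMs hnc p q qs hp hq hqs hpM hpMs P Q Qs hP hPD hQ hQs hPQ hPQs hf hfs hN hNs
  have := Fact.mk hp
  have := Fact.mk hq
  have := Fact.mk hqs
  exact hA M Ms hM hMs hnc p q qs hpM hpMs P Q Qs hP hPD
    (Cfsg.Agent.Lib.Helper52_BG139.isSylowIn_spe hQ) (Cfsg.Agent.Lib.Helper52_BG139.isSylowIn_spe hQs)
    hPQ hPQs hf hfs hN hNs

theorem f2_of_asym (hG : IsMinSimpleOddOrder G) (hA : Cfsg.Agent.Lib.Helper52_BG139.Asym G) : F2 G :=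
  Cfsg.Agent.Lib.Helper31_BG1311b.f2_of_reg_part hG (h1428 hG)
    (Cfsg.Agent.Lib.Helper73_BG1310.tau13_regular_closed hG (h1428 hG) (asym73_of_asym52 hA))
    (Cfsg.Agent.Lib.Helper52_BG139.sigma_part hG (h1428 hG) hA)

end Cfsg.Agent.Lib.Helper23_BG13F2
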