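import Mathlib
import Cfsg.Prelude.Def_OddOrderLocal
import Cfsg.Agent.Lib.Helper53_BG16b

/-!
# Bender–Glauberman 14.2, piece PN: normalizers in `M` of subgroups of a complement

For a complement `E` of `M_σ` in `M` and `X ≤ E`: `N_M(X) = C_{M_σ}(X) N_E(X)`.
(Statement verbatim from `pending/helper23/BG142_skeleton.lean.txt`.)
-/

set_option autoImplicit false
set_option linter.unusedSectionVars false
set_option linter.unusedVariables false

namespace Cfsg.Agent.Lib.Helper53_BG142n

open Subgroup Cfsg Cfsg.Agent.Lib.Helper53_BG16b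

universe u
variable {G : Type u} [Group G] [Finite G]

/-- PIECE PN (normalizers in M): E-part to M.  Pure coprime-action bookkeeping. -/
theorem normalizer_in_M (hG : IsMinSimpleOddOrder G) {M E X : Subgroup G} (hM : IsCoatom M)
    (hE : IsComplIn E (sigmaCore M) M) (hXE : X ≤ E) :
    M ⊓ normalizer (X : Set G) = (sigmaCore M ⊓ centralizer (X : Set G)) ⊔ (E ⊓ normalizer (X : Set G)) := by
  have hNM : sigmaCore M ≤ M := sigmaCore_le M
  apply le_antisymm
  · rintro m ⟨hmM, hmN⟩
    obtain ⟨a, ha, b, hb, hab⟩ := hE.2.2.2 m hmM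
    have haM : a ∈ M := hE.1 ha
    -- `b` centralizes `X`
    have hbC : b ∈ centralizer (X : Set G) := by
      rw [mem_centralizer_iff]
      intro x hx
      have hx' : x ∈ X := hx
      have h1 : m * x * m⁻¹ ∈ X := (mem_normalizer_iff.mp hmN x).mp hx'
      -- `c = x⁻¹ b x b⁻¹ ∈ M_σ`
      have hxM : x ∈ M := hE.1 (hXE hx')
      have hc : x⁻¹ * b * x * b⁻¹ ∈ sigmaCore M := by
        have h2 : x⁻¹ * b * x⁻¹⁻¹ ∈ sigmaCore M :=
          (mem_normalizer_iff.mp (le_normalizer_sigmaCore M (M.inv_mem hxM)) b).mp hb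
        rw [inv_inv] at h2
        exact (sigmaCore M).mul_mem h2 ((sigmaCore M).inv_mem hb)
      have hac : a * (x⁻¹ * b * x * b⁻¹) * a⁻¹ ∈ sigmaCore M :=
        (mem_normalizer_iff.mp (le_normalizer_sigmaCore M haM) _).mp hc
      have hE' : a * (x⁻¹ * b * x * b⁻¹) * a⁻¹ ∈ E := by
        have h3 : a * (x⁻¹ * b * x * b⁻¹) * a⁻¹ = (a * x * a⁻¹)⁻¹ * (m * x * m⁻¹) := by
          rw [hab]; group
        rw [h3]
        exact E.mul_mem (E.inv_mem (E.mul_mem (E.mul_mem ha (hXE hx')) (E.inv_mem ha))) (hXE h1)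
      have h4 : a * (x⁻¹ * b * x * b⁻¹) * a⁻¹ ∈ E ⊓ sigmaCore M := ⟨hE', hac⟩
      rw [hE.2.2.1, mem_bot] at h4
      have h5 : x⁻¹ * b * x * b⁻¹ = 1 := by
        have := congrArg (fun t => a⁻¹ * t * a) h4
        simpa [mul_assoc] using this
      have h6 : x⁻¹ * b * x = b := by
        have := congrArg (fun t => t * b) h5
        simpa [mul_assoc] using this
      calc x * b = x * (x⁻¹ * b * x) := by rw [h6]
        _ = b * x := by group
    have hbN : b ∈ normalizer (X : Set G) := Subgroup.centralizer_le_normalizer _ hbC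
    have haN : a ∈ normalizer (X : Set G) := by
      have : a = m * b⁻¹ := by rw [hab]; group
      rw [this]
      exact (normalizer (X : Set G)).mul_mem hmN ((normalizer (X : Set G)).inv_mem hbN)
    rw [hab]
    exact Subgroup.mul_mem _ (le_sup_right (a := sigmaCore M ⊓ centralizer (X : Set G)) ⟨ha, haN⟩)
      (le_sup_left (b := E ⊓ normalizer (X : Set G)) ⟨hb, hbC⟩)
  · apply sup_le
    · exact le_inf (inf_le_left.trans hNM) (inf_le_right.trans (Subgroup.centralizer_le_normalizer _))
    · exact le_inf (inf_le_left.trans hE.1) inf_le_right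

end Cfsg.Agent.Lib.Helper53_BG142n
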