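import Mathlib
import Cfsg.Prelude.Def_OddOrderLocal
import Cfsg.Agent.Lib.Helper79_BGConj
import Cfsg.Agent.Lib.Helper24_CoprimeHall
import Cfsg.Agent.Lib.Helper32_Cores
import Cfsg.Agent.Lib.Helper22_BGTransUp

set_option autoImplicit false
set_option linter.unusedVariables false
open Cfsg

/-!
# The sets `M̃` and `Ẑ` cover `G ∖ {1}` (Bender–Glauberman, sec. 14/16; helper79)

Assembly of S1379 from the frozen statements S1351, S1354, S1366, S1367, S1369, S1374, S1375, S1378,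
S1425, S1432, S1433, S1434, taken as explicit hypotheses on `G`.
-/

namespace Cfsg.Agent.Lib.Helper79_BGTilde

open Subgroup Cfsg.Agent.Lib.Helper79_BGConj Cfsg.Agent.Lib.Helper24_CoprimeHall

universe u

variable {G : Type u} [Group G] [Finite G]

/-- the frozen statement S1350, as a hypothesis on `G` -/
def Hyp1350 (G : Type u) [Group G] [Finite G] : Prop :=
  ∀ (M : Subgroup G) (hM : IsCoatom M),
    Cfsg.IsPiHallOf (Cfsg.sigma M) (Cfsg.sigmaCore M) M ∧ Cfsg.IsPiHall (Cfsg.sigma M) (Cfsg.sigmaCore M) ∧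
      ∀ N : Subgroup G, M ≤ Subgroup.normalizer (N : Set G) → Cfsg.IsPiHallOf (Cfsg.sigma M) N M →
        N = Cfsg.sigmaCore M

/-- the frozen statement S1351, as a hypothesis on `G` -/
def Hyp1351 (G : Type u) [Group G] [Finite G] : Prop :=
  ∀ (M : Subgroup G) (hM : IsCoatom M),
    (∃ K : Subgroup G, Cfsg.IsPiHallOf (Cfsg.kappa M) K M) ∧
      ∀ K : Subgroup G, Cfsg.IsPiHallOf (Cfsg.kappa M) K M → IsCyclic K

/-- the frozen statement S1352, as a hypothesis on `G` -/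
def Hyp1352 (G : Type u) [Group G] [Finite G] : Prop :=
  ∀ (M : Subgroup G) (hM : IsCoatom M) (K : Subgroup G) (hKc : IsCyclic K) (hK : Cfsg.IsPiHallOf (Cfsg.kappa M) K M),
    (∃ U : Subgroup G, Cfsg.IsSigmaDecomposition M K U) ∧
      ∀ U : Subgroup G, Cfsg.IsSigmaDecomposition M K U → M ≤ Subgroup.normalizer ((U ⊔ Cfsg.sigmaCore M : Subgroup G) : Set G)

/-- the frozen statement S1354, as a hypothesis on `G` -/
def Hyp1354 (G : Type u) [Group G] [Finite G] : Prop :=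
  ∀ (M : Subgroup G) (hM : IsCoatom M) (K : Subgroup G) (hKc : IsCyclic K) (hK : Cfsg.IsPiHallOf (Cfsg.kappa M) K M),
    Cfsg.sigmaCore M ⊓ Subgroup.centralizer (K : Set G) ≠ ⊥ ∧
      (K ≠ ⊥ → ∀ k ∈ K, k ≠ 1 →
        M ⊓ Subgroup.centralizer ({k} : Set G) = K ⊔ (Cfsg.sigmaCore M ⊓ Subgroup.centralizer (K : Set G)))

/-- the frozen statement S1366, as a hypothesis on `G` -/
def Hyp1366 (G : Type u) [Group G] [Finite G] : Prop :=
  ∀ (M : Subgroup G) (hM : IsCoatom M) (K U : Subgroup G) (hKU : Cfsg.IsSigmaDecomposition M K U) (hK1 : K ≠ ⊥),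
    ∃! Mstar : Subgroup G, IsCoatom Mstar ∧ K = Cfsg.sigmaCore Mstar ⊓ Subgroup.centralizer ((Cfsg.sigmaCore M ⊓ Subgroup.centralizer (K : Set G)) : Set G) ∧
        Cfsg.IsPiHallOf (Cfsg.kappa Mstar) (Cfsg.sigmaCore M ⊓ Subgroup.centralizer (K : Set G)) Mstar

/-- the frozen statement S1367, as a hypothesis on `G` -/
def Hyp1367 (G : Type u) [Group G] [Finite G] : Prop :=
  ∀ (M : Subgroup G) (hM : IsCoatom M) (K U : Subgroup G) (hKU : Cfsg.IsSigmaDecomposition M K U) (hK1 : K ≠ ⊥) (Mstar : Subgroup G) (hMstar : IsCoatom Mstar) (hKst : K = Cfsg.sigmaCore Mstar ⊓ Subgroup.centralizer ((Cfsg.sigmaCore M ⊓ Subgroup.centralizer (K : Set G)) : Set G)) (hKstH : Cfsg.IsPiHallOf (Cfsg.kappa Mstar) (Cfsg.sigmaCore M ⊓ Subgroup.centralizer (K : Set G)) Mstar),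
    (∀ X : Subgroup G, X ≤ (Cfsg.sigmaCore M ⊓ Subgroup.centralizer (K : Set G)) → (Nat.card X).Prime →
        Subgroup.centralizer (X : Set G) ≤ M ∧ ∀ L : Subgroup G, IsCoatom L → Subgroup.centralizer (X : Set G) ≤ L → L = M) ∧
      (∀ Y : Subgroup G, Y ≤ K → (Nat.card Y).Prime →
        Subgroup.centralizer (Y : Set G) ≤ Mstar ∧ ∀ L : Subgroup G, IsCoatom L → Subgroup.centralizer (Y : Set G) ≤ L → L = Mstar)

/-- the frozen statement S1369, as a hypothesis on `G` -/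
def Hyp1369 (G : Type u) [Group G] [Finite G] : Prop :=
  ∀ (M : Subgroup G) (hM : IsCoatom M) (K U : Subgroup G) (hKU : Cfsg.IsSigmaDecomposition M K U) (hK1 : K ≠ ⊥) (Mstar : Subgroup G) (hMstar : IsCoatom Mstar) (hKst : K = Cfsg.sigmaCore Mstar ⊓ Subgroup.centralizer ((Cfsg.sigmaCore M ⊓ Subgroup.centralizer (K : Set G)) : Set G)) (hKstH : Cfsg.IsPiHallOf (Cfsg.kappa Mstar) (Cfsg.sigmaCore M ⊓ Subgroup.centralizer (K : Set G)) Mstar),
    (U ≠ ⊥ ∨ ∀ Ustar : Subgroup G, Cfsg.IsSigmaDecomposition Mstar (Cfsg.sigmaCore M ⊓ Subgroup.centralizer (K : Set G)) Ustar → Ustar ≠ ⊥) ∧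
      ∀ H : Subgroup G, IsCoatom H → (Cfsg.kappa H).Nonempty →
        ∃ g : G, H = M.map (MulAut.conj g).toMonoidHom ∨ H = Mstar.map (MulAut.conj g).toMonoidHom

/-- the frozen statement S1374, as a hypothesis on `G` -/
def Hyp1374 (G : Type u) [Group G] [Finite G] : Prop :=
  ∀ (M : Subgroup G) (hM : IsCoatom M) (x : G) (hx : x ∈ Cfsg.sigmaCore M) (hx1 : x ≠ 1),
    (Nat.card ↥(M ⊓ Subgroup.centralizer ({x} : Set G))).Coprime ((M ⊓ Subgroup.centralizer ({x} : Set G)).relIndex (Subgroup.centralizer ({x} : Set G))) ∧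
      ∃ R : Subgroup G, Subgroup.centralizer ({x} : Set G) ≤ Subgroup.normalizer (R : Set G) ∧ Cfsg.IsComplIn (M ⊓ Subgroup.centralizer ({x} : Set G)) R (Subgroup.centralizer ({x} : Set G)) ∧
        ∀ g : G, x ∈ M.map (MulAut.conj g).toMonoidHom → ∃! r : G, r ∈ R ∧ M.map (MulAut.conj r).toMonoidHom = M.map (MulAut.conj g).toMonoidHom

/-- the frozen statement S1375, as a hypothesis on `G` -/
def Hyp1375 (G : Type u) [Group G] [Finite G] : Prop :=
  ∀ (M : Subgroup G) (hM : IsCoatom M) (x : G) (hx : x ∈ Cfsg.sigmaCore M) (hx1 : x ≠ 1) (hxM : ¬ Subgroup.centralizer ({x} : Set G) ≤ M),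
    ∃ N : Subgroup G, (IsCoatom N ∧ Subgroup.centralizer ({x} : Set G) ≤ N) ∧ (∀ L : Subgroup G, IsCoatom L → Subgroup.centralizer ({x} : Set G) ≤ L → L = N) ∧
        Cfsg.sigmaCore N = Cfsg.fittingHallOf N ∧
        Subgroup.centralizer ({x} : Set G) ≤ Subgroup.normalizer ((Cfsg.sigmaCore N ⊓ Subgroup.centralizer ({x} : Set G) : Subgroup G) : Set G) ∧
        Cfsg.IsComplIn (M ⊓ Subgroup.centralizer ({x} : Set G)) (Cfsg.sigmaCore N ⊓ Subgroup.centralizer ({x} : Set G)) (Subgroup.centralizer ({x} : Set G)) ∧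
        Cfsg.IsComplIn (M ⊓ N) (Cfsg.sigmaCore N) N ∧
        ∀ K' U' : Subgroup G, Cfsg.IsSigmaDecomposition N K' U' → U' ≠ ⊥ ∧ x ∈ Cfsg.sigmaA N U' ∧ x ∉ Cfsg.sigmaCore N

/-- the frozen statement S1378, as a hypothesis on `G` -/
def Hyp1378 (G : Type u) [Group G] [Finite G] : Prop :=
    (∀ p : ℕ, p.Prime → p ∣ Nat.card G → ∃ M : Subgroup G, IsCoatom M ∧ p ∈ Cfsg.sigma M) ∧
      ∀ M N : Subgroup G, IsCoatom M → IsCoatom N → (Cfsg.sigma M ∩ Cfsg.sigma N).Nonempty → ∃ g : G, N = M.map (MulAut.conj g).toMonoidHom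

/-- the frozen statement S1425, as a hypothesis on `G` -/
def Hyp1425 (G : Type u) [Group G] [Finite G] : Prop :=
  ∀ (M : Subgroup G) (hM : IsCoatom M) (Y : Subgroup G) (hY1 : Y ≠ ⊥) (hY : ∀ p : ℕ, p.Prime → p ∣ Nat.card Y → p ∈ Cfsg.sigma M),
    ∃ g : G, Y.map (MulAut.conj g).toMonoidHom ≤ Cfsg.sigmaCore M

/-- the frozen statement S1432, as a hypothesis on `G` -/
def Hyp1432 (G : Type u) [Group G] [Finite G] : Prop :=
  ∀ (M : Subgroup G) (hM : IsCoatom M) (x : G) (hx : x ∈ Cfsg.sigmaCore M) (hx1 : x ≠ 1) (x' : G) (hx' : x' ∈ M ⊓ Subgroup.centralizer ({x} : Set G)) (hx'1 : x' ≠ 1) (hσ : ∀ p : ℕ, p.Prime → p ∣ orderOf x' → p ∉ Cfsg.sigma M),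
    ((∀ p : ℕ, p.Prime → p ∣ orderOf x' → p ∈ Cfsg.kappa M) ∧ Subgroup.centralizer ({x} : Set G) ≤ M) ∨
      ((∀ p : ℕ, p.Prime → p ∣ orderOf x' → p ∈ Cfsg.tau2 M) ∧
        (∃ L : Subgroup G, IsCoatom L ∧ ∀ p : ℕ, p.Prime → p ∣ orderOf x' → p ∈ Cfsg.sigma L) ∧
        (Subgroup.centralizer ({x'} : Set G) ≤ M ∧ ∀ L : Subgroup G, IsCoatom L → Subgroup.centralizer ({x'} : Set G) ≤ L → L = M))

/-- the frozen statement S1433, as a hypothesis on `G` -/
def Hyp1433 (G : Type u) [Group G] [Finite G] : Prop :=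
  ∀ (M N : Subgroup G) (hM : IsCoatom M) (hN : IsCoatom N) (x y : G) (hx : x ∈ Cfsg.sigmaCore M) (hy : y ∈ Cfsg.sigmaCore N) (hx1 : x ≠ 1) (hy1 : y ≠ 1) (hxy : x ≠ y),
    ∀ r ∈ Cfsg.supportR M x, ∀ s ∈ Cfsg.supportR N y, x * r ≠ y * s

/-- the frozen statement S1434, as a hypothesis on `G` -/
def Hyp1434 (G : Type u) [Group G] [Finite G] : Prop :=
  ∀ (M : Subgroup G) (hM : IsCoatom M) (K U : Subgroup G) (hKU : Cfsg.IsSigmaDecomposition M K U) (hK1 : K ≠ ⊥) (Mstar : Subgroup G) (hMstar : IsCoatom Mstar) (hKst : K = Cfsg.sigmaCore Mstar ⊓ Subgroup.centralizer ((Cfsg.sigmaCore M ⊓ Subgroup.centralizer (K : Set G)) : Set G)) (hKstH : Cfsg.IsPiHallOf (Cfsg.kappa Mstar) (Cfsg.sigmaCore M ⊓ Subgroup.centralizer (K : Set G)) Mstar),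
    Cfsg.kappa M = Cfsg.tau1 M ∧ Cfsg.IsPiHallOf (Cfsg.sigma M) (Cfsg.sigmaCore M ⊓ Subgroup.centralizer (K : Set G)) Mstar ∧
      (∀ x ∈ K, x ≠ 1 → ∀ y ∈ (Cfsg.sigmaCore M ⊓ Subgroup.centralizer (K : Set G)), y ≠ 1 →
        M ⊓ Subgroup.centralizer ({x} : Set G) = K ⊔ (Cfsg.sigmaCore M ⊓ Subgroup.centralizer (K : Set G)) ∧ Mstar ⊓ Subgroup.centralizer ({y} : Set G) = K ⊔ (Cfsg.sigmaCore M ⊓ Subgroup.centralizer (K : Set G)) ∧
        Subgroup.centralizer ({x * y} : Set G) = K ⊔ (Cfsg.sigmaCore M ⊓ Subgroup.centralizer (K : Set G))) ∧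
      (∀ g : G, g ∉ M → ∀ z ∈ ((↑(K ⊔ (Cfsg.sigmaCore M ⊓ Subgroup.centralizer (K : Set G))) : Set G) \ ((K : Set G) ∪ ↑(Cfsg.sigmaCore M ⊓ Subgroup.centralizer (K : Set G)))), z ∉ M.map (MulAut.conj g).toMonoidHom) ∧
      Nat.card K * Nat.card ↥(Cfsg.sigmaCore M ⊓ Subgroup.centralizer (K : Set G)) * Set.ncard {a : G | ∃ g : G, ∃ z ∈ ((↑(K ⊔ (Cfsg.sigmaCore M ⊓ Subgroup.centralizer (K : Set G))) : Set G) \ ((K : Set G) ∪ ↑(Cfsg.sigmaCore M ⊓ Subgroup.centralizer (K : Set G)))), a = g * z * g⁻¹} =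
        (Nat.card K * Nat.card ↥(Cfsg.sigmaCore M ⊓ Subgroup.centralizer (K : Set G)) - Nat.card K - Nat.card ↥(Cfsg.sigmaCore M ⊓ Subgroup.centralizer (K : Set G)) + 1) * Nat.card G ∧
      Nat.card G < 2 * Set.ncard {a : G | ∃ g : G, ∃ z ∈ ((↑(K ⊔ (Cfsg.sigmaCore M ⊓ Subgroup.centralizer (K : Set G))) : Set G) \ ((K : Set G) ∪ ↑(Cfsg.sigmaCore M ⊓ Subgroup.centralizer (K : Set G)))), a = g * z * g⁻¹}

/-! ### Utilities -/

/-- the prime divisors of the order of an element of `M_σ` lie in `σ(M)` -/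
theorem mem_sigma_of_mem_sigmaCore {M : Subgroup G} {x : G} (hx : x ∈ sigmaCore M) {p : ℕ}
    (hp : p.Prime) (hd : p ∣ orderOf x) : p ∈ sigma M := by
  have h1 : orderOf x ∣ Nat.card ↥(sigmaCore M) := by
    have := orderOf_dvd_natCard (⟨x, hx⟩ : ↥(sigmaCore M))
    rwa [Subgroup.orderOf_mk] at this
  have h2 : p ∣ Nat.card ↥(sigmaCore M) := hd.trans h1
  unfold sigmaCore at h2
  rw [Subgroup.card_map_of_injective M.subtype_injective] at h2
  exact Cfsg.Agent.Lib.Helper32_Cores.card_piCore (sigma M) p hp h2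

theorem sigmaCore_le (M : Subgroup G) : sigmaCore M ≤ M := Subgroup.map_subtype_le _

/-- a non-identity element has a prime dividing its order -/
theorem exists_prime_dvd_orderOf {x : G} (hx : x ≠ 1) : ∃ p : ℕ, p.Prime ∧ p ∣ orderOf x := by
  have h : orderOf x ≠ 1 := fun h => hx (orderOf_eq_one_iff.mp h)
  exact Nat.exists_prime_and_dvd h

/-- `π`-decomposition of an element -/
theorem exists_pi_decomp (π : Set ℕ) : ∀ (n : ℕ) (g : G), orderOf g = n →
    ∃ a b : G, a ∈ zpowers g ∧ b ∈ zpowers g ∧ g = a * b ∧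
      (∀ p : ℕ, p.Prime → p ∣ orderOf a → p ∈ π) ∧ (∀ p : ℕ, p.Prime → p ∣ orderOf b → p ∉ π) := by
  intro n
  induction n using Nat.strong_induction_on with
  | _ n ih =>
    intro g hg
    by_cases h1 : n = 1
    · have hg1 : g = 1 := orderOf_eq_one_iff.mp (hg.trans h1)
      refine ⟨1, 1, one_mem _, one_mem _, by simp [hg1], ?_, ?_⟩
      · intro p hp hd
        rw [orderOf_one] at hd
        exact absurd (Nat.dvd_one.mp hd) hp.one_lt.ne'
      · intro p hp hd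
        rw [orderOf_one] at hd
        exact absurd (Nat.dvd_one.mp hd) hp.one_lt.ne'
    · have hn0 : n ≠ 0 := by
        rw [← hg]
        exact (orderOf_pos g).ne'
      obtain ⟨p, hp, hpn⟩ := Nat.exists_prime_and_dvd h1
      obtain ⟨k, m, hm, hkm⟩ := Nat.exists_eq_pow_mul_and_not_dvd hn0 p hp.ne_one
      have hk : k ≠ 0 := by
        rintro rfl
        rw [pow_zero, one_mul] at hkm
        exact hm (hkm ▸ hpn)
      have hcop : IsCoprime ((p ^ k : ℕ) : ℤ) (m : ℤ) := by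
        rw [Nat.isCoprime_iff_coprime]
        exact Nat.Coprime.pow_left k ((Nat.Prime.coprime_iff_not_dvd hp).mpr hm)
      obtain ⟨u, v, huv⟩ := hcop
      -- `c` is the `p`-part, `d` the `p'`-part
      set c : G := g ^ (v * (m : ℤ)) with hc
      set d : G := g ^ (u * ((p ^ k : ℕ) : ℤ)) with hd
      have hcd : g = c * d := by
        rw [hc, hd, ← zpow_add, add_comm, huv, zpow_one]
      have hgn : g ^ (n : ℤ) = 1 := by
        rw [zpow_natCast, ← hg, pow_orderOf_eq_one]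
      have hcp : c ^ (p ^ k) = 1 := by
        rw [hc, ← zpow_natCast, ← zpow_mul]
        have : v * (m : ℤ) * ((p ^ k : ℕ) : ℤ) = (n : ℤ) * v := by
          rw [hkm]
          push_cast
          ring
        rw [this, zpow_mul, hgn, one_zpow]
      have hdm : d ^ m = 1 := by
        rw [hd, ← zpow_natCast, ← zpow_mul]
        have : u * ((p ^ k : ℕ) : ℤ) * (m : ℤ) = (n : ℤ) * u := by
          rw [hkm]
          push_cast
          ring
        rw [this, zpow_mul, hgn, one_zpow]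
      have hcz : c ∈ zpowers g := ⟨_, rfl⟩
      have hdz : d ∈ zpowers g := ⟨_, rfl⟩
      have hm0 : m ≠ 0 := by
        rintro rfl
        rw [mul_zero] at hkm
        exact hn0 hkm
      have hmn : m < n := by
        rw [hkm]
        have : 1 < p ^ k := Nat.one_lt_pow hk hp.one_lt
        nlinarith [Nat.pos_of_ne_zero hm0]
      have hod : orderOf d ≤ m := Nat.le_of_dvd (Nat.pos_of_ne_zero hm0) (orderOf_dvd_of_pow_eq_one hdm)
      obtain ⟨a', b', ha', hb', hab', hpa', hpb'⟩ := ih (orderOf d) (lt_of_le_of_lt hod hmn) d rfl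
      have hzle : zpowers d ≤ zpowers g := (zpowers_le).mpr hdz
      have hcomm : ∀ y ∈ zpowers g, ∀ z ∈ zpowers g, y * z = z * y := by
        rintro _ ⟨i, rfl⟩ _ ⟨j, rfl⟩
        rw [← zpow_add, ← zpow_add, add_comm]
      have hoc : ∀ q : ℕ, q.Prime → q ∣ orderOf c → q = p := by
        intro q hq hqd
        have h2 : q ∣ p ^ k := hqd.trans (orderOf_dvd_of_pow_eq_one hcp)
        exact (Nat.prime_dvd_prime_iff_eq hq hp).mp (hq.dvd_of_dvd_pow h2)
      by_cases hpπ : p ∈ π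
      · refine ⟨c * a', b', mul_mem hcz (hzle ha'), hzle hb', ?_, ?_, hpb'⟩
        · rw [hcd, hab', mul_assoc]
        · intro q hq hqd
          have hcomm' : Commute c a' := hcomm c hcz a' (hzle ha')
          have h3 : orderOf (c * a') ∣ orderOf c * orderOf a' := hcomm'.orderOf_mul_dvd_mul_orderOf
          rcases (Nat.Prime.dvd_mul hq).mp (hqd.trans h3) with h4 | h4
          · rw [hoc q hq h4]
            exact hpπ
          · exact hpa' q hq h4
      · refine ⟨a', c * b', hzle ha', mul_mem hcz (hzle hb'), ?_, hpa', ?_⟩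
        · rw [hcd, hab', ← mul_assoc, ← mul_assoc, hcomm c hcz a' (hzle ha')]
        · intro q hq hqd
          have hcomm' : Commute c b' := hcomm c hcz b' (hzle hb')
          have h3 : orderOf (c * b') ∣ orderOf c * orderOf b' := hcomm'.orderOf_mul_dvd_mul_orderOf
          rcases (Nat.Prime.dvd_mul hq).mp (hqd.trans h3) with h4 | h4
          · rw [hoc q hq h4]
            exact hpπ
          · exact hpb' q hq h4


/-! ### Conjugation bookkeeping -/

omit [Finite G] in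
theorem map_conj_map_conj (M : Subgroup G) (a b : G) :
    (M.map (MulAut.conj b).toMonoidHom).map (MulAut.conj a).toMonoidHom =
      M.map (MulAut.conj (a * b)).toMonoidHom := by
  rw [Subgroup.map_map]
  congr 1
  ext x
  simp [MulAut.conj_apply, mul_assoc]

omit [Finite G] in
theorem map_conj_one (M : Subgroup G) : M.map (MulAut.conj (1 : G)).toMonoidHom = M := by
  ext x
  simp

omit [Finite G] in
theorem eq_map_conj_of_map_conj_eq {M N : Subgroup G} {t g : G}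
    (h : N.map (MulAut.conj t).toMonoidHom = M.map (MulAut.conj g).toMonoidHom) :
    N = M.map (MulAut.conj (t⁻¹ * g)).toMonoidHom := by
  have h2 := congrArg (fun K : Subgroup G => K.map (MulAut.conj t⁻¹).toMonoidHom) h
  simp only [map_conj_map_conj] at h2
  rw [inv_mul_cancel, map_conj_one] at h2
  exact h2

/-! ### Part (1): `M̃ ∩ Ñ = ∅` for non-conjugate `M`, `N` -/

theorem tilde_disjoint (h33 : Hyp1433 G) (h78 : Hyp1378 G) {M N : Subgroup G} (hM : IsCoatom M)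
    (hN : IsCoatom N) (hnc : ∀ g : G, N ≠ M.map (MulAut.conj g).toMonoidHom) :
    tildeOf M ((sigmaCore M : Set G) \ {1}) ∩ tildeOf N ((sigmaCore N : Set G) \ {1}) = ∅ := by
  rw [Set.eq_empty_iff_forall_notMem]
  rintro g ⟨⟨a, ⟨ha, ha1⟩, r, hr, y1, e1⟩, ⟨b, ⟨hb, hb1⟩, s, hs, y2, e2⟩⟩
  have ha1' : a ≠ 1 := ha1
  have hb1' : b ≠ 1 := hb1
  set t : G := y1⁻¹ * y2 with ht
  set N' : Subgroup G := N.map (MulAut.conj t).toMonoidHom with hN'
  have hN'c : IsCoatom N' := isCoatom_map _ hN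
  have hb' : MulAut.conj t b ∈ sigmaCore N' := by
    rw [hN', sigmaCore_map]
    exact ⟨b, hb, rfl⟩
  have hb'1 : MulAut.conj t b ≠ 1 := by
    intro h
    apply hb1'
    have h2 : MulAut.conj t b = MulAut.conj t 1 := by rw [map_one]; exact h
    exact (MulAut.conj t).injective h2
  have hs' : MulAut.conj t s ∈ supportR N' (MulAut.conj t b) := by
    rw [hN', supportR_map]
    exact ⟨s, hs, rfl⟩
  have heq : a * r = MulAut.conj t b * MulAut.conj t s := by
    rw [← map_mul, MulAut.conj_apply, ht]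
    have h3 : y1 * (a * r) * y1⁻¹ = y2 * (b * s) * y2⁻¹ := e1.symm.trans e2
    calc a * r = y1⁻¹ * (y1 * (a * r) * y1⁻¹) * y1 := by group
      _ = y1⁻¹ * (y2 * (b * s) * y2⁻¹) * y1 := by rw [h3]
      _ = y1⁻¹ * y2 * (b * s) * (y1⁻¹ * y2)⁻¹ := by group
  have hab : a = MulAut.conj t b := by
    by_contra hne
    exact h33 M N' hM hN'c a (MulAut.conj t b) ha hb' ha1' hb'1 hne r hr _ hs' heq
  obtain ⟨p, hp, hpd⟩ := exists_prime_dvd_orderOf ha1'
  have hpM : p ∈ sigma M := mem_sigma_of_mem_sigmaCore ha hp hpd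
  have hpN : p ∈ sigma N' := mem_sigma_of_mem_sigmaCore (hab ▸ hb') hp (hab ▸ hpd)
  obtain ⟨g', hg'⟩ := h78.2 M N' hM hN'c ⟨p, hpM, hpN⟩
  exact hnc _ (eq_map_conj_of_map_conj_eq hg')


/-! ### The data `K`, `K* = C_{M_σ}(K)` -/

/-- `K* = M_σ ∩ C_G(K)` -/
abbrev Ks (M K : Subgroup G) : Subgroup G := sigmaCore M ⊓ centralizer (K : Set G)

omit [Finite G] in
theorem Ks_le_normalizer (M K : Subgroup G) : Ks M K ≤ normalizer (K : Set G) :=
  inf_le_right.trans (Subgroup.centralizer_le_normalizer _)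

/-- a Hall `κ(M)`-subgroup meets `M_σ` trivially -/
theorem hall_kappa_inf_sigmaCore {M K : Subgroup G} (hK : IsPiHallOf (kappa M) K M) :
    K ⊓ sigmaCore M = ⊥ := by
  rw [eq_bot_iff]
  intro x hx
  rw [mem_bot]
  by_contra hx1
  obtain ⟨q, hq, hqd⟩ := exists_prime_dvd_orderOf hx1
  have h1 : q ∈ sigma M := mem_sigma_of_mem_sigmaCore hx.2 hq hqd
  have h2 : q ∣ Nat.card ↥K := by
    have := orderOf_dvd_natCard (⟨x, hx.1⟩ : ↥K)
    rw [Subgroup.orderOf_mk] at this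
    exact hqd.trans this
  exact (hK.2.1 q hq h2).2.2.1 h1

/-- the prime divisors of the order of an element of a Hall `κ(M)`-subgroup are outside `σ(M)` -/
theorem not_mem_sigma_of_mem_hall_kappa {M K : Subgroup G} (hK : IsPiHallOf (kappa M) K M)
    {x : G} (hx : x ∈ K) {q : ℕ} (hq : q.Prime) (hqd : q ∣ orderOf x) : q ∈ kappa M := by
  have h2 : q ∣ Nat.card ↥K := by
    have := orderOf_dvd_natCard (⟨x, hx⟩ : ↥K)
    rw [Subgroup.orderOf_mk] at this
    exact hqd.trans this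
  exact hK.2.1 q hq h2

omit [Finite G] in
theorem centralizer_singleton_le_centralizer_zpowers_pow (c : G) (n : ℕ) :
    centralizer ({c} : Set G) ≤ centralizer ((zpowers (c ^ n) : Subgroup G) : Set G) := by
  intro g hg
  rw [mem_centralizer_iff] at hg ⊢
  rintro _ ⟨i, rfl⟩
  have h1 : Commute c g := hg c rfl
  exact ((h1.pow_left n).zpow_left i).eq

/-- a subgroup of prime order inside `⟨c⟩` whose centralizer contains `C_G(c)` -/
theorem exists_prime_subgroup {c : G} (hc1 : c ≠ 1) :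
    ∃ X : Subgroup G, X ≤ zpowers c ∧ (Nat.card X).Prime ∧
      centralizer ({c} : Set G) ≤ centralizer (X : Set G) := by
  obtain ⟨q, hq, hqd⟩ := exists_prime_dvd_orderOf hc1
  refine ⟨zpowers (c ^ (orderOf c / q)), ?_, ?_, centralizer_singleton_le_centralizer_zpowers_pow c _⟩
  · rw [zpowers_le]
    exact Subgroup.pow_mem _ (mem_zpowers c) _
  · rw [Nat.card_zpowers, orderOf_pow_orderOf_div (orderOf_pos c).ne' hqd]
    exact hq

/-- if `C_G(x) ≤ M` for `x ∈ M_σ^#`, then `M` is the only conjugate of `M` containing `x` -/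
theorem conj_eq_of_centralizer_le (h74 : Hyp1374 G) {M : Subgroup G} (hM : IsCoatom M) {x : G}
    (hx : x ∈ sigmaCore M) (hx1 : x ≠ 1) (hC : centralizer ({x} : Set G) ≤ M) {g : G}
    (hxg : x ∈ M.map (MulAut.conj g).toMonoidHom) : M.map (MulAut.conj g).toMonoidHom = M := by
  obtain ⟨-, R, -, hcompl, huniq⟩ := h74 M hM x hx hx1
  obtain ⟨-, hRC, hdisj, -⟩ := hcompl
  obtain ⟨r, ⟨hrR, hr⟩, -⟩ := huniq g hxg
  have hr1 : r = 1 := by
    have : r ∈ (M ⊓ centralizer ({x} : Set G)) ⊓ R := ⟨⟨hC (hRC hrR), hRC hrR⟩, hrR⟩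
    rw [hdisj, mem_bot] at this
    exact this
  rw [← hr, hr1, map_conj_one]


/-! ### Part (3b): no conjugate of an element of `Ẑ` lies in any `Ñ` -/

theorem zhat_not_mem_tilde (h34 : Hyp1434 G) (h67 : Hyp1367 G) (h74 : Hyp1374 G) (h78 : Hyp1378 G)
    {M K U Mstar : Subgroup G} (hM : IsCoatom M) (hKU : IsSigmaDecomposition M K U) (hK1 : K ≠ ⊥)
    (hMs : IsCoatom Mstar)
    (hKst : K = sigmaCore Mstar ⊓ centralizer ((Ks M K : Subgroup G) : Set G))
    (hKstH : IsPiHallOf (kappa Mstar) (Ks M K) Mstar)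
    (N : Subgroup G) (hN : IsCoatom N) (y z : G)
    (hz : z ∈ ((↑(K ⊔ Ks M K) : Set G) \ ((K : Set G) ∪ ↑(Ks M K)))) :
    y * z * y⁻¹ ∉ tildeOf N ((sigmaCore N : Set G) \ {1}) := by
  intro hmem
  obtain ⟨hzs, hznot⟩ := hz
  have hzK : z ∉ K := fun h => hznot (Or.inl h)
  have hzKs : z ∉ Ks M K := fun h => hznot (Or.inr h)
  have hKsC : Ks M K ≤ centralizer (K : Set G) := inf_le_right
  have hKsσ : Ks M K ≤ sigmaCore M := inf_le_left
  have hKMs : K ≤ sigmaCore Mstar := by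
    intro x hx
    rw [hKst] at hx
    exact hx.1
  obtain ⟨k, hk, c, hc, hzkc⟩ :=
    Cfsg.Agent.Lib.Helper24_CoprimeAction.exists_mul_of_mem_sup (Ks M K) K (Ks_le_normalizer M K) hzs
  have hk1 : k ≠ 1 := by
    rintro rfl
    apply hzKs
    rw [hzkc, one_mul]
    exact hc
  have hc1 : c ≠ 1 := by
    rintro rfl
    apply hzK
    rw [hzkc, mul_one]
    exact hk
  obtain ⟨-, -, h34c, -, -, -⟩ := h34 M hM K U hKU hK1 Mstar hMs hKst hKstH
  have hCz : centralizer ({z} : Set G) = K ⊔ Ks M K := by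
    rw [hzkc]
    exact (h34c k hk hk1 c hc hc1).2.2
  obtain ⟨a, ⟨ha, ha1⟩, r, hr, t, e⟩ := hmem
  have ha1' : a ≠ 1 := ha1
  -- transport to `N1 = N^u`, `u = y⁻¹ t`
  set u : G := y⁻¹ * t with hu
  set N1 : Subgroup G := N.map (MulAut.conj u).toMonoidHom with hN1
  have hN1c : IsCoatom N1 := isCoatom_map _ hN
  set a1 : G := MulAut.conj u a with ha1def
  set r1 : G := MulAut.conj u r with hr1def
  have ha1σ : a1 ∈ sigmaCore N1 := by
    rw [hN1, sigmaCore_map]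
    exact ⟨a, ha, rfl⟩
  have ha1ne : a1 ≠ 1 := by
    intro h
    apply ha1'
    have h2 : MulAut.conj u a = MulAut.conj u 1 := by rw [map_one]; exact h
    exact (MulAut.conj u).injective h2
  have hr1R : r1 ∈ supportR N1 a1 := by
    rw [hN1, ha1def, supportR_map]
    exact ⟨r, hr, rfl⟩
  have hzar : z = a1 * r1 := by
    rw [ha1def, hr1def, ← map_mul, MulAut.conj_apply, hu]
    calc z = y⁻¹ * (y * z * y⁻¹) * y := by group
      _ = y⁻¹ * (t * (a * r) * t⁻¹) * y := by rw [e]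
      _ = y⁻¹ * t * (a * r) * (y⁻¹ * t)⁻¹ := by group
  have hcomm : a1 * r1 = r1 * a1 := by
    have := supportR_le_centralizer N1 a1 hr1R
    rw [mem_centralizer_iff] at this
    exact this a1 rfl
  have ha1z : a1 ∈ K ⊔ Ks M K := by
    rw [← hCz, mem_centralizer_iff]
    intro h hh
    rw [Set.mem_singleton_iff] at hh
    rw [hh, hzar, mul_assoc, ← hcomm]
  obtain ⟨k1, hk1K, c1, hc1Ks, ha1kc⟩ :=
    Cfsg.Agent.Lib.Helper24_CoprimeAction.exists_mul_of_mem_sup (Ks M K) K (Ks_le_normalizer M K) ha1z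
  have hcomm1 : Commute k1 c1 := by
    have := hKsC hc1Ks
    rw [mem_centralizer_iff] at this
    exact this k1 hk1K
  have hcop : (orderOf k1).Coprime (orderOf c1) := by
    apply Nat.coprime_of_dvd
    intro q hq h1 h2
    have h3 := not_mem_sigma_of_mem_hall_kappa hKU.hall hk1K hq h1
    exact h3.2.2.1 (mem_sigma_of_mem_sigmaCore (hKsσ hc1Ks) hq h2)
  have hord : orderOf a1 = orderOf k1 * orderOf c1 := by
    rw [ha1kc]
    exact hcomm1.orderOf_mul_eq_mul_orderOf_of_coprime hcop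
  -- `c1 ≠ 1` forces `N1 ~ M`; `k1 ≠ 1` forces `N1 ~ M*`
  have hA : c1 ≠ 1 → ∃ g : G, N1 = M.map (MulAut.conj g).toMonoidHom := by
    intro hne
    obtain ⟨q, hq, hqd⟩ := exists_prime_dvd_orderOf hne
    have h1 : q ∈ sigma M := mem_sigma_of_mem_sigmaCore (hKsσ hc1Ks) hq hqd
    have h2 : q ∈ sigma N1 :=
      mem_sigma_of_mem_sigmaCore ha1σ hq (by rw [hord]; exact Dvd.dvd.mul_left hqd _)
    exact h78.2 M N1 hM hN1c ⟨q, h1, h2⟩
  have hB : k1 ≠ 1 → ∃ g : G, N1 = Mstar.map (MulAut.conj g).toMonoidHom := by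
    intro hne
    obtain ⟨q, hq, hqd⟩ := exists_prime_dvd_orderOf hne
    have h1 : q ∈ sigma Mstar := mem_sigma_of_mem_sigmaCore (hKMs hk1K) hq hqd
    have h2 : q ∈ sigma N1 :=
      mem_sigma_of_mem_sigmaCore ha1σ hq (by rw [hord]; exact Dvd.dvd.mul_right hqd _)
    exact h78.2 Mstar N1 hMs hN1c ⟨q, h1, h2⟩
  by_cases hc1e : c1 = 1
  · by_cases hk1e : k1 = 1
    · apply ha1ne
      rw [ha1kc, hc1e, hk1e, one_mul]
    · -- `a1 = k1 ∈ K`, `N1 ~ M*`
      have hak : a1 = k1 := by rw [ha1kc, hc1e, mul_one]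
      obtain ⟨g, hg⟩ := hB hk1e
      obtain ⟨X, hXle, hXp, hXc⟩ := exists_prime_subgroup hk1e
      have hXK : X ≤ K := hXle.trans ((zpowers_le).mpr hk1K)
      obtain ⟨-, h67b⟩ := h67 M hM K U hKU hK1 Mstar hMs hKst hKstH
      have hCk : centralizer ({k1} : Set G) ≤ Mstar := hXc.trans (h67b X hXK hXp).1
      have hN1eq : N1 = Mstar := by
        rw [hg]
        apply conj_eq_of_centralizer_le h74 hMs (hKMs hk1K) hk1e hCk
        rw [← hg, ← hak]
        exact sigmaCore_le N1 ha1σ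
      have hr1 : r1 = 1 := by
        rw [hN1eq, hak, supportR_eq_bot_of_le hCk, mem_bot] at hr1R
        exact hr1R
      apply hzK
      rw [hzar, hr1, mul_one, hak]
      exact hk1K
  · by_cases hk1e : k1 = 1
    · -- `a1 = c1 ∈ K*`, `N1 ~ M`
      have hac : a1 = c1 := by rw [ha1kc, hk1e, one_mul]
      obtain ⟨g, hg⟩ := hA hc1e
      obtain ⟨X, hXle, hXp, hXc⟩ := exists_prime_subgroup hc1e
      have hXKs : X ≤ Ks M K := hXle.trans ((zpowers_le).mpr hc1Ks)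
      obtain ⟨h67a, -⟩ := h67 M hM K U hKU hK1 Mstar hMs hKst hKstH
      have hCc : centralizer ({c1} : Set G) ≤ M := hXc.trans (h67a X hXKs hXp).1
      have hN1eq : N1 = M := by
        rw [hg]
        apply conj_eq_of_centralizer_le h74 hM (hKsσ hc1Ks) hc1e hCc
        rw [← hg, ← hac]
        exact sigmaCore_le N1 ha1σ
      have hr1 : r1 = 1 := by
        rw [hN1eq, hac, supportR_eq_bot_of_le hCc, mem_bot] at hr1R
        exact hr1R
      apply hzKs
      rw [hzar, hr1, mul_one, hac]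
      exact hc1Ks
    · -- both nontrivial: `M* ~ M`, impossible
      obtain ⟨g, hg⟩ := hA hc1e
      obtain ⟨g', hg'⟩ := hB hk1e
      have hMsM : Mstar = M.map (MulAut.conj (g'⁻¹ * g)).toMonoidHom :=
        eq_map_conj_of_map_conj_eq (hg'.symm.trans hg)
      have hσ : sigma Mstar = sigma M := by
        rw [hMsM]
        exact sigma_map _ M
      obtain ⟨q, hq, hqd⟩ := exists_prime_dvd_orderOf hk1e
      have h1 : q ∈ sigma Mstar := mem_sigma_of_mem_sigmaCore (hKMs hk1K) hq hqd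
      have h3 := not_mem_sigma_of_mem_hall_kappa hKU.hall hk1K hq hqd
      exact h3.2.2.1 (hσ ▸ h1)

/-! ### Hall-theoretic utilities -/

omit [Finite G] in
theorem le_normalizer_sigmaCore (M : Subgroup G) :
    M ≤ normalizer ((sigmaCore M : Subgroup G) : Set G) := by
  have h1 := Subgroup.le_normalizer_map (H := piCore (sigma M) ↥M) M.subtype
  rw [Subgroup.normalizer_eq_top_iff.mpr inferInstance, ← MonoidHom.range_eq_map,
    Subgroup.range_subtype] at h1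
  exact h1

/-- in a solvable subgroup, a `π`-element is conjugate into a given Hall `π`-subgroup -/
theorem exists_conj_mem_of_piHall {π : Set ℕ} {M H : Subgroup G} (hsolv : Group.IsSolvable M)
    (h : PiHall π H M) {w : G} (hw : w ∈ M) (hwπ : ∀ p : ℕ, p.Prime → p ∣ orderOf w → p ∈ π) :
    ∃ m ∈ M, m * w * m⁻¹ ∈ H := by
  have hU : zpowers w ≤ M := (zpowers_le).mpr hw
  obtain ⟨H', hH', hUH'⟩ := exists_piHall_ge hsolv hU (by rw [Nat.card_zpowers]; exact hwπ)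
  obtain ⟨g, hgM, hg⟩ := piHall_conj hsolv hH' h
  refine ⟨g, hgM, ?_⟩
  rw [← hg]
  exact ⟨w, hUH' (mem_zpowers w), by simp [MulAut.conj_apply]⟩

/-- an element of order coprime to the index of a normal subgroup lies in it -/
theorem mem_of_coprime_relIndex {R C : Subgroup G} (hRC : R ≤ C)
    (hN : C ≤ normalizer (R : Set G)) {ρ : G} (hρ : ρ ∈ C)
    (hcop : (orderOf ρ).Coprime (R.relIndex C)) : ρ ∈ R := by
  haveI : (R.subgroupOf C).Normal := (Subgroup.normal_subgroupOf_iff_le_normalizer hRC).mpr hN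
  have h1 : (⟨ρ, hρ⟩ : ↥C) ^ (R.subgroupOf C).index ∈ R.subgroupOf C :=
    Subgroup.pow_index_mem (R.subgroupOf C) _
  have h2 : ((R.subgroupOf C).index).Coprime (orderOf (⟨ρ, hρ⟩ : ↥C)) := by
    rw [Subgroup.orderOf_mk]
    exact hcop.symm
  obtain ⟨m, hm⟩ := exists_pow_eq_self_of_coprime h2
  have h3 : (⟨ρ, hρ⟩ : ↥C) ∈ R.subgroupOf C := by
    rw [← hm]
    exact Subgroup.pow_mem _ h1 m
  exact Subgroup.mem_subgroupOf.mp h3

/-- the centralizer of a non-identity element is solvable -/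
theorem isSolvable_centralizer (hG : IsMinSimpleOddOrder G) {x : G} (hx1 : x ≠ 1) :
    Group.IsSolvable ↥(centralizer ({x} : Set G)) := by
  apply hG.2.2.2
  intro h
  apply hx1
  have hxc : x ∈ Subgroup.center G := by
    rw [Subgroup.mem_center_iff]
    intro g
    have hg : g ∈ centralizer ({x} : Set G) := h ▸ Subgroup.mem_top g
    exact ((mem_centralizer_iff.mp hg) x rfl).symm
  rw [Cfsg.Agent.Lib.Helper22_BGTransUp.center_eq_bot hG, mem_bot] at hxc
  exact hxc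

/-! ### The covering lemma -/

/-- `g` is covered: it lies in some `Ñ`, or it is conjugate to `x * x'` with `x ∈ M'_σ^#` and `x' ≠ 1` a
`κ(M')`-element of `M'` commuting with `x`. -/
def Good (g : G) : Prop :=
  (∃ N : Subgroup G, IsCoatom N ∧ g ∈ tildeOf N ((sigmaCore N : Set G) \ {1})) ∨
  ∃ (M' : Subgroup G) (y x x' : G), IsCoatom M' ∧ y * g * y⁻¹ = x * x' ∧ x ∈ sigmaCore M' ∧ x ≠ 1 ∧
    x' ∈ M' ∧ x' ≠ 1 ∧ x * x' = x' * x ∧ ∀ p : ℕ, p.Prime → p ∣ orderOf x' → p ∈ kappa M'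

omit [Finite G] in
theorem good_of_conj {g : G} (t : G) (h : Good (t * g * t⁻¹)) : Good g := by
  rcases h with ⟨N, hN, hg⟩ | ⟨M', y, x, x', hM', e, h⟩
  · exact Or.inl ⟨N, hN, (conj_mem_tildeOf_iff t).mp hg⟩
  · refine Or.inr ⟨M', y * t, x, x', hM', ?_, h⟩
    rw [← e]
    group

/-- the `τ₂`-alternative of 14.3: `x * w` lies in `L̃₁` for a conjugate `L₁` of `L` -/
theorem tau_case (h25 : Hyp1425 G) (h75 : Hyp1375 G) {M L : Subgroup G} (hM : IsCoatom M)
    (hL : IsCoatom L) {x w : G} (hx : x ∈ sigmaCore M) (hw1 : w ≠ 1) (hxw : x * w = w * x)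
    (hwσ : ∀ p : ℕ, p.Prime → p ∣ orderOf w → p ∉ sigma M)
    (hwL : ∀ p : ℕ, p.Prime → p ∣ orderOf w → p ∈ sigma L)
    (hC : centralizer ({w} : Set G) ≤ M)
    (hCu : ∀ L' : Subgroup G, IsCoatom L' → centralizer ({w} : Set G) ≤ L' → L' = M) :
    ∃ N : Subgroup G, IsCoatom N ∧ x * w ∈ tildeOf N ((sigmaCore N : Set G) \ {1}) := by
  have hY1 : zpowers w ≠ ⊥ := by
    rw [Ne, zpowers_eq_bot]
    exact hw1
  obtain ⟨g1, hg1⟩ := h25 L hL (zpowers w) hY1 (by rw [Nat.card_zpowers]; exact hwL)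
  set L1 : Subgroup G := L.map (MulAut.conj g1⁻¹).toMonoidHom with hL1
  have hL1c : IsCoatom L1 := isCoatom_map _ hL
  have hwL1 : w ∈ sigmaCore L1 := by
    rw [hL1, sigmaCore_map]
    refine ⟨MulAut.conj g1 w, hg1 ⟨w, mem_zpowers w, rfl⟩, ?_⟩
    simp [MulAut.conj_apply, mul_assoc]
  obtain ⟨q, hq, hqd⟩ := exists_prime_dvd_orderOf hw1
  have hnot : ¬ centralizer ({w} : Set G) ≤ L1 := by
    intro hle
    have h1 : L1 = M := hCu L1 hL1c hle
    have h2 : q ∈ sigma L1 := by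
      rw [hL1, sigma_map]
      exact hwL q hq hqd
    rw [h1] at h2
    exact hwσ q hq hqd h2
  have hsupp : supportR L1 w = fittingHallOf M ⊓ centralizer ({w} : Set G) :=
    supportR_eq_of_unique hnot hM hC hCu
  obtain ⟨N, ⟨hN, hCN⟩, -, hNF, -⟩ := h75 L1 hL1c w hwL1 hw1 hnot
  have hNM : N = M := hCu N hN hCN
  rw [hNM] at hNF
  have hxR : x ∈ supportR L1 w := by
    rw [hsupp, ← hNF]
    refine Subgroup.mem_inf.mpr ⟨hx, ?_⟩
    rw [mem_centralizer_iff]
    intro h hh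
    rw [Set.mem_singleton_iff] at hh
    rw [hh, hxw]
  refine ⟨L1, hL1c, ?_⟩
  rw [hxw]
  exact mem_tildeOf_of hwL1 hw1 hxR

/-- the core of the covering argument -/
theorem good_core (hG : IsMinSimpleOddOrder G) (h25 : Hyp1425 G) (h32 : Hyp1432 G)
    (h74 : Hyp1374 G) (h75 : Hyp1375 G) {M : Subgroup G} (hM : IsCoatom M) {x x' : G}
    (hx : x ∈ sigmaCore M) (hx1 : x ≠ 1) (hcomm : x * x' = x' * x)
    (hσ : ∀ p : ℕ, p.Prime → p ∣ orderOf x' → p ∉ sigma M) : Good (x * x') := by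
  have hx'C : x' ∈ centralizer ({x} : Set G) := by
    rw [mem_centralizer_iff]
    intro h hh
    rw [Set.mem_singleton_iff] at hh
    rw [hh, hcomm]
  by_cases hC : centralizer ({x} : Set G) ≤ M
  · by_cases hx'1 : x' = 1
    · left
      refine ⟨M, hM, ?_⟩
      rw [hx'1, mul_one]
      exact mem_tildeOf_self hx hx1
    · rcases h32 M hM x hx hx1 x' ⟨hC hx'C, hx'C⟩ hx'1 hσ with
        ⟨hκ, -⟩ | ⟨-, ⟨L, hL, hLσ⟩, hCM, hCu⟩
      · right
        exact ⟨M, 1, x, x', hM, by simp, hx, hx1, hC hx'C, hx'1, hcomm, hκ⟩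
      · left
        exact tau_case h25 h75 hM hL hx hx'1 hcomm hσ hLσ hCM hCu
  · obtain ⟨N, ⟨hN, hCN⟩, hNu, hNF, hRn, hcompl, hcomplMN, -⟩ := h75 M hM x hx hx1 hC
    obtain ⟨hcop, -⟩ := h74 M hM x hx hx1
    set C : Subgroup G := centralizer ({x} : Set G) with hCdef
    set D : Subgroup G := M ⊓ C with hDdef
    set R : Subgroup G := sigmaCore N ⊓ C with hRdef
    have hsupp : supportR M x = R := by
      rw [supportR_eq_of_unique hC hN hCN hNu, ← hNF]
    have hCsolv : Group.IsSolvable ↥C := isSolvable_centralizer hG hx1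
    have hDC : D ≤ C := inf_le_right
    have hRC : R ≤ C := inf_le_right
    have hDhall : PiHall {p | p ∣ Nat.card D} D C := by
      refine ⟨hDC, fun p hp hd => hd, fun p hp hpD hpi => ?_⟩
      rw [← relIndex_eq_div hDC] at hpi
      have h1 := Nat.dvd_gcd hpD hpi
      rw [Nat.Coprime.gcd_eq_one hcop] at h1
      exact hp.one_lt.ne' (Nat.dvd_one.mp h1)
    -- `|C| = |D| |R|`
    obtain ⟨-, -, hdisj, hprod⟩ := hcompl
    have hsup : R ⊔ D = C := by
      apply le_antisymm (sup_le hRC hDC)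
      intro m hm
      obtain ⟨a, ha, b, hb, rfl⟩ := hprod m hm
      exact mul_mem (mem_sup_right ha) (mem_sup_left hb)
    have hcard : Nat.card ↥C = Nat.card ↥R * Nat.card ↥D := by
      rw [← hsup]
      exact card_sup_of_disjoint' D R (hDC.trans hRn) (by rw [inf_comm]; exact hdisj)
    have hrel : R.relIndex C = Nat.card ↥D := by
      rw [relIndex_eq_div hRC, hcard, Nat.mul_div_cancel_left _ Nat.card_pos]
    -- decompose `x'`
    obtain ⟨m2, ρ, hm2z, hρz, hx'eq, hm2π, hρπ⟩ :=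
      exists_pi_decomp {p | p ∣ Nat.card D} _ x' rfl
    have hzC : zpowers x' ≤ C := (zpowers_le).mpr hx'C
    have hm2C : m2 ∈ C := hzC hm2z
    have hρC : ρ ∈ C := hzC hρz
    have hρR : ρ ∈ R := by
      apply mem_of_coprime_relIndex hRC hRn hρC
      rw [hrel]
      exact Nat.coprime_of_dvd fun p hp hpo hpD => hρπ p hp hpo hpD
    obtain ⟨c, hcC, hcm2⟩ := exists_conj_mem_of_piHall hCsolv hDhall hm2C hm2π
    set m2' : G := c * m2 * c⁻¹ with hm2'
    set ρ' : G := c * ρ * c⁻¹ with hρ'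
    have hρ'R : ρ' ∈ R := ((mem_normalizer_iff.mp (hRn hcC)) ρ).mp hρR
    have hcx : x * c = c * x := (mem_centralizer_iff.mp hcC) x rfl
    have hconj : c * (x * x') * c⁻¹ = x * (m2' * ρ') := by
      rw [hm2', hρ', hx'eq]
      calc c * (x * (m2 * ρ)) * c⁻¹ = (c * x) * (m2 * ρ) * c⁻¹ := by group
        _ = (x * c) * (m2 * ρ) * c⁻¹ := by rw [hcx]
        _ = x * (c * m2 * c⁻¹ * (c * ρ * c⁻¹)) := by group
    apply good_of_conj c
    rw [hconj]
    by_cases hm : m2' = 1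
    · left
      refine ⟨M, hM, ?_⟩
      rw [hm, one_mul]
      exact mem_tildeOf_of hx hx1 (hsupp ▸ hρ'R)
    · have hord : orderOf m2' ∣ orderOf x' := by
        have h1 : m2' = MulAut.conj c m2 := by rw [MulAut.conj_apply]
        rw [h1, MulEquiv.orderOf_eq]
        exact orderOf_dvd_of_mem_zpowers hm2z
      have hσ' : ∀ p : ℕ, p.Prime → p ∣ orderOf m2' → p ∉ sigma M :=
        fun p hp hpd => hσ p hp (hpd.trans hord)
      have hm2'x : x * m2' = m2' * x := ((mem_centralizer_iff.mp (hDC hcm2)) x rfl)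
      rcases h32 M hM x hx hx1 m2' hcm2 hm hσ' with
        ⟨-, hCM⟩ | ⟨-, ⟨L, hL, hLσ⟩, hCm2, hCm2u⟩
      · exact absurd hCM hC
      · have hcomm2 : m2 * ρ = ρ * m2 := by
          obtain ⟨i, rfl⟩ := hm2z
          obtain ⟨j, rfl⟩ := hρz
          rw [← zpow_add, ← zpow_add, add_comm]
        have hρ'c : ρ' ∈ centralizer ({m2'} : Set G) := by
          rw [mem_centralizer_iff]
          intro h hh
          rw [Set.mem_singleton_iff] at hh
          rw [hh, hm2', hρ']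
          calc c * m2 * c⁻¹ * (c * ρ * c⁻¹) = c * (m2 * ρ) * c⁻¹ := by group
            _ = c * (ρ * m2) * c⁻¹ := by rw [hcomm2]
            _ = c * ρ * c⁻¹ * (c * m2 * c⁻¹) := by group
        have hρ'1 : ρ' = 1 := by
          obtain ⟨-, -, hdisjMN, -⟩ := hcomplMN
          have h1 : ρ' ∈ (M ⊓ N) ⊓ sigmaCore N :=
            ⟨⟨hCm2 hρ'c, sigmaCore_le N hρ'R.1⟩, hρ'R.1⟩
          rw [hdisjMN, mem_bot] at h1
          exact h1
        left
        rw [hρ'1, mul_one]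
        exact tau_case h25 h75 hM hL hx hm hm2'x hσ' hLσ hCm2 hCm2u

/-- every non-identity element is covered -/
theorem good_of_ne_one (hG : IsMinSimpleOddOrder G) (h25 : Hyp1425 G) (h32 : Hyp1432 G)
    (h74 : Hyp1374 G) (h75 : Hyp1375 G) (h78 : Hyp1378 G) {g : G} (hg : g ≠ 1) : Good g := by
  obtain ⟨p, hp, hpd⟩ := exists_prime_dvd_orderOf hg
  obtain ⟨M0, hM0, hpσ⟩ := h78.1 p hp (hpd.trans (orderOf_dvd_natCard g))
  obtain ⟨a, b, haz, hbz, hgab, haπ, hbπ⟩ := exists_pi_decomp (sigma M0) _ g rfl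
  have hab : a * b = b * a := by
    obtain ⟨i, rfl⟩ := haz
    obtain ⟨j, rfl⟩ := hbz
    rw [← zpow_add, ← zpow_add, add_comm]
  have ha1 : a ≠ 1 := by
    rintro rfl
    rw [one_mul] at hgab
    exact hbπ p hp (hgab ▸ hpd) hpσ
  have hY1 : zpowers a ≠ ⊥ := by
    rw [Ne, zpowers_eq_bot]
    exact ha1
  obtain ⟨g0, hg0⟩ := h25 M0 hM0 (zpowers a) hY1 (by rw [Nat.card_zpowers]; exact haπ)
  have hx : MulAut.conj g0 a ∈ sigmaCore M0 := hg0 ⟨a, mem_zpowers a, rfl⟩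
  have hx1 : MulAut.conj g0 a ≠ 1 := by
    intro h
    apply ha1
    have h2 : MulAut.conj g0 a = MulAut.conj g0 1 := by rw [map_one]; exact h
    exact (MulAut.conj g0).injective h2
  have hcomm : MulAut.conj g0 a * MulAut.conj g0 b = MulAut.conj g0 b * MulAut.conj g0 a := by
    rw [← map_mul, ← map_mul, hab]
  have hσ : ∀ q : ℕ, q.Prime → q ∣ orderOf (MulAut.conj g0 b) → q ∉ sigma M0 := by
    intro q hq hqd
    rw [MulEquiv.orderOf_eq] at hqd
    exact hbπ q hq hqd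
  apply good_of_conj g0
  have e : g0 * g * g0⁻¹ = MulAut.conj g0 a * MulAut.conj g0 b := by
    rw [← map_mul, ← hgab, MulAut.conj_apply]
  rw [e]
  exact good_core hG h25 h32 h74 h75 hM0 hx hx1 hcomm hσ

/-! ### Part (2): if every `κ` is empty, the sets `M̃` cover `G ∖ {1}` -/

theorem cover_of_kappa_empty (hG : IsMinSimpleOddOrder G) (h25 : Hyp1425 G) (h32 : Hyp1432 G)
    (h74 : Hyp1374 G) (h75 : Hyp1375 G) (h78 : Hyp1378 G)
    (hκ : ∀ M : Subgroup G, IsCoatom M → kappa M = ∅) {g : G} (hg : g ≠ 1) :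
    ∃ M : Subgroup G, IsCoatom M ∧ g ∈ tildeOf M ((sigmaCore M : Set G) \ {1}) := by
  rcases good_of_ne_one hG h25 h32 h74 h75 h78 hg with h | ⟨M', y, x, x', hM', -, -, -, -, hx'1, -, hk⟩
  · exact h
  · exfalso
    obtain ⟨q, hq, hqd⟩ := exists_prime_dvd_orderOf hx'1
    have := hk q hq hqd
    rw [hκ M' hM'] at this
    exact this

/-! ### Part (3a): if `K ≠ 1`, the sets `Ñ` and the conjugates of `Ẑ` cover `G ∖ {1}` -/

/-- products `a * b` with `a ∈ K^#`, `b ∈ K*^#` lie in `Ẑ` -/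
theorem mul_mem_zhat {M K : Subgroup G} (hK : IsPiHallOf (kappa M) K M) {a b : G} (ha : a ∈ K)
    (hb : b ∈ Ks M K) (ha1 : a ≠ 1) (hb1 : b ≠ 1) :
    a * b ∈ ((↑(K ⊔ Ks M K) : Set G) \ ((K : Set G) ∪ ↑(Ks M K))) := by
  have hdisj := hall_kappa_inf_sigmaCore hK
  refine ⟨mul_mem (mem_sup_left ha) (mem_sup_right hb), ?_⟩
  rintro (h | h)
  · apply hb1
    have h1 : b ∈ K ⊓ sigmaCore M := by
      refine Subgroup.mem_inf.mpr ⟨?_, (Subgroup.mem_inf.mp hb).1⟩
      have : b = a⁻¹ * (a * b) := by group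
      rw [this]
      exact mul_mem (inv_mem ha) h
    rw [hdisj, mem_bot] at h1
    exact h1
  · apply ha1
    have h1 : a ∈ K ⊓ sigmaCore M := by
      refine Subgroup.mem_inf.mpr ⟨ha, ?_⟩
      have : a = (a * b) * b⁻¹ := by group
      rw [this]
      exact mul_mem (Subgroup.mem_inf.mp h).1 (inv_mem (Subgroup.mem_inf.mp hb).1)
    rw [hdisj, mem_bot] at h1
    exact h1

/-- in a maximal subgroup `H` with Hall `κ(H)`-subgroup `A` and `C_H(k) = A ⊔ B` for `k ∈ A^#`, where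
`B ≤ H_σ`: a product `x * x'` of commuting `x ∈ H_σ^#` and a `κ(H)`-element `x' ≠ 1` of `H` is
`H`-conjugate to `a * b` with `a ∈ A^#`, `b ∈ B^#`. -/
theorem conj_eq_mul_of_kappa_elt (hG : IsMinSimpleOddOrder G) {H A B : Subgroup G}
    (hH : IsCoatom H) (hA : IsPiHallOf (kappa H) A H)
    (hBA : B ≤ normalizer (A : Set G)) (hBσ : B ≤ sigmaCore H)
    (hcent : ∀ k ∈ A, k ≠ 1 → H ⊓ centralizer ({k} : Set G) = A ⊔ B)
    {x x' : G} (hx : x ∈ sigmaCore H) (hx1 : x ≠ 1) (hx' : x' ∈ H) (hx'1 : x' ≠ 1)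
    (hcomm : x * x' = x' * x) (hκ : ∀ p : ℕ, p.Prime → p ∣ orderOf x' → p ∈ kappa H) :
    ∃ m : G, ∃ a ∈ A, ∃ b ∈ B, a ≠ 1 ∧ b ≠ 1 ∧ m * (x * x') * m⁻¹ = a * b := by
  have hsolv : Group.IsSolvable ↥H := hG.2.2.2 H hH.1
  have hA' : PiHall (kappa H) A H := (isPiHallOf_iff _ _ _).mp hA
  obtain ⟨m, hmH, hma⟩ := exists_conj_mem_of_piHall hsolv hA' hx' hκ
  set a : G := m * x' * m⁻¹ with ha
  set x2 : G := m * x * m⁻¹ with hx2
  have ha1 : a ≠ 1 := by
    intro h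
    apply hx'1
    have : x' = m⁻¹ * a * m := by rw [ha]; group
    rw [this, h]
    group
  have hx2σ : x2 ∈ sigmaCore H :=
    ((mem_normalizer_iff.mp (le_normalizer_sigmaCore H hmH)) x).mp hx
  have hx21 : x2 ≠ 1 := by
    intro h
    apply hx1
    have : x = m⁻¹ * x2 * m := by rw [hx2]; group
    rw [this, h]
    group
  have hcomm2 : x2 * a = a * x2 := by
    rw [hx2, ha]
    calc m * x * m⁻¹ * (m * x' * m⁻¹) = m * (x * x') * m⁻¹ := by group
      _ = m * (x' * x) * m⁻¹ := by rw [hcomm]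
      _ = m * x' * m⁻¹ * (m * x * m⁻¹) := by group
  have hx2C : x2 ∈ H ⊓ centralizer ({a} : Set G) := by
    refine Subgroup.mem_inf.mpr ⟨sigmaCore_le H hx2σ, ?_⟩
    rw [mem_centralizer_iff]
    intro h hh
    rw [Set.mem_singleton_iff] at hh
    rw [hh, hcomm2]
  rw [hcent a hma ha1] at hx2C
  obtain ⟨k2, hk2, b2, hb2, hx2kb⟩ :=
    Cfsg.Agent.Lib.Helper24_CoprimeAction.exists_mul_of_mem_sup B A hBA hx2C
  have hdisj := hall_kappa_inf_sigmaCore hA
  have hk21 : k2 = 1 := by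
    have h1 : k2 ∈ A ⊓ sigmaCore H := by
      refine Subgroup.mem_inf.mpr ⟨hk2, ?_⟩
      have : k2 = x2 * b2⁻¹ := by rw [hx2kb]; group
      rw [this]
      exact mul_mem hx2σ (inv_mem (hBσ hb2))
    rw [hdisj, mem_bot] at h1
    exact h1
  have hx2b : x2 = b2 := by rw [hx2kb, hk21, one_mul]
  refine ⟨m, a, hma, b2, hb2, ha1, hx2b ▸ hx21, ?_⟩
  rw [← hx2b, ← hcomm2, hx2, ha]
  group

theorem cover_of_K_ne_bot (hG : IsMinSimpleOddOrder G) (h25 : Hyp1425 G) (h32 : Hyp1432 G)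
    (h34 : Hyp1434 G) (h54 : Hyp1354 G) (h66 : Hyp1366 G) (h69 : Hyp1369 G)
    (h74 : Hyp1374 G) (h75 : Hyp1375 G) (h78 : Hyp1378 G)
    {M K U : Subgroup G} (hM : IsCoatom M) (hKU : IsSigmaDecomposition M K U) (hK1 : K ≠ ⊥)
    {g : G} (hg : g ≠ 1) :
    (∃ N : Subgroup G, IsCoatom N ∧ g ∈ tildeOf N ((sigmaCore N : Set G) \ {1})) ∨
      ∃ y : G, ∃ z ∈ ((↑(K ⊔ Ks M K) : Set G) \ ((K : Set G) ∪ ↑(Ks M K))), g = y * z * y⁻¹ := by
  rcases good_of_ne_one hG h25 h32 h74 h75 h78 hg with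
    h | ⟨M', y, x, x', hM', e, hx, hx1, hx'M, hx'1, hcomm, hk⟩
  · exact Or.inl h
  right
  obtain ⟨q, hq, hqd⟩ := exists_prime_dvd_orderOf hx'1
  obtain ⟨Mstar, ⟨hMs, hKst, hKstH⟩, -⟩ := h66 M hM K U hKU hK1
  obtain ⟨-, hconj⟩ := h69 M hM K U hKU hK1 Mstar hMs hKst hKstH
  obtain ⟨t, ht | ht⟩ := hconj M' hM' ⟨q, hk q hq hqd⟩
  · -- `M' = M^t`
    rw [ht, sigmaCore_map] at hx
    rw [ht] at hx'M
    rw [ht, kappa_map] at hk
    obtain ⟨x0, hx0, rfl⟩ := hx
    obtain ⟨x0', hx0', rfl⟩ := hx'M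
    simp only [MulEquiv.coe_toMonoidHom] at *
    have hx01 : x0 ≠ 1 := by
      rintro rfl
      exact hx1 (map_one _)
    have hx0'1 : x0' ≠ 1 := by
      rintro rfl
      exact hx'1 (map_one _)
    have hcomm0 : x0 * x0' = x0' * x0 := by
      apply (MulAut.conj t).injective
      rw [map_mul, map_mul]
      exact hcomm
    have hk0 : ∀ p : ℕ, p.Prime → p ∣ orderOf x0' → p ∈ kappa M := by
      intro p hp hpd
      apply hk p hp
      rw [MulEquiv.orderOf_eq]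
      exact hpd
    obtain ⟨m, a, ha, b, hb, ha1, hb1, hmab⟩ :=
      conj_eq_mul_of_kappa_elt hG hM hKU.hall (Ks_le_normalizer M K) inf_le_left
        (fun k hk hk1 => (h54 M hM K hKU.cyclic hKU.hall).2 hK1 k hk hk1)
        hx0 hx01 hx0' hx0'1 hcomm0 hk0
    refine ⟨y⁻¹ * t * m⁻¹, a * b, mul_mem_zhat hKU.hall ha hb ha1 hb1, ?_⟩
    rw [← hmab]
    have e2 : y * g * y⁻¹ = t * (x0 * x0') * t⁻¹ := by
      rw [e, ← map_mul, MulAut.conj_apply]
    calc g = y⁻¹ * (y * g * y⁻¹) * y := by group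
      _ = y⁻¹ * (t * (x0 * x0') * t⁻¹) * y := by rw [e2]
      _ = y⁻¹ * t * m⁻¹ * (m * (x0 * x0') * m⁻¹) * (y⁻¹ * t * m⁻¹)⁻¹ := by group
  · -- `M' = M*^t`
    rw [ht, sigmaCore_map] at hx
    rw [ht] at hx'M
    rw [ht, kappa_map] at hk
    obtain ⟨x0, hx0, rfl⟩ := hx
    obtain ⟨x0', hx0', rfl⟩ := hx'M
    simp only [MulEquiv.coe_toMonoidHom] at *
    have hx01 : x0 ≠ 1 := by
      rintro rfl
      exact hx1 (map_one _)
    have hx0'1 : x0' ≠ 1 := by
      rintro rfl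
      exact hx'1 (map_one _)
    have hcomm0 : x0 * x0' = x0' * x0 := by
      apply (MulAut.conj t).injective
      rw [map_mul, map_mul]
      exact hcomm
    have hk0 : ∀ p : ℕ, p.Prime → p ∣ orderOf x0' → p ∈ kappa Mstar := by
      intro p hp hpd
      apply hk p hp
      rw [MulEquiv.orderOf_eq]
      exact hpd
    obtain ⟨-, -, h34c, -⟩ := h34 M hM K U hKU hK1 Mstar hMs hKst hKstH
    obtain ⟨k0, hk0K, hk01⟩ : ∃ k0 ∈ K, k0 ≠ 1 := by
      by_contra hcon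
      push Not at hcon
      apply hK1
      rw [eq_bot_iff]
      intro z hz
      rw [mem_bot]
      exact hcon z hz
    have hKMs : K ≤ sigmaCore Mstar := by
      intro z hz
      rw [hKst] at hz
      exact hz.1
    have hKnorm : K ≤ normalizer ((Ks M K : Subgroup G) : Set G) := by
      refine le_trans ?_ (Subgroup.centralizer_le_normalizer _)
      rw [Subgroup.le_centralizer_iff]
      exact inf_le_right
    obtain ⟨m, a, ha, b, hb, ha1, hb1, hmab⟩ :=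
      conj_eq_mul_of_kappa_elt hG hMs hKstH hKnorm hKMs
        (fun k hk hk1 => by
          rw [sup_comm]
          exact (h34c k0 hk0K hk01 k hk hk1).2.1)
        hx0 hx01 hx0' hx0'1 hcomm0 hk0
    have hba : a * b = b * a := by
      have := (Subgroup.mem_inf.mp ha).2
      rw [mem_centralizer_iff] at this
      exact (this b hb).symm
    refine ⟨y⁻¹ * t * m⁻¹, b * a, mul_mem_zhat hKU.hall hb ha hb1 ha1, ?_⟩
    rw [← hba, ← hmab]
    have e2 : y * g * y⁻¹ = t * (x0 * x0') * t⁻¹ := by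
      rw [e, ← map_mul, MulAut.conj_apply]
    calc g = y⁻¹ * (y * g * y⁻¹) * y := by group
      _ = y⁻¹ * (t * (x0 * x0') * t⁻¹) * y := by rw [e2]
      _ = y⁻¹ * t * m⁻¹ * (m * (x0 * x0') * m⁻¹) * (y⁻¹ * t * m⁻¹)⁻¹ := by group

/-! ### The statement S1379 -/

/-- S1379 from the frozen statements S1354, S1366, S1367, S1369, S1374, S1375, S1378, S1425, S1432,
S1433, S1434 (as hypotheses on `G`). -/
theorem partition_of_nonidentity (hG : IsMinSimpleOddOrder G) (h25 : Hyp1425 G) (h32 : Hyp1432 G)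
    (h33 : Hyp1433 G) (h34 : Hyp1434 G) (h54 : Hyp1354 G) (h66 : Hyp1366 G) (h67 : Hyp1367 G)
    (h69 : Hyp1369 G) (h74 : Hyp1374 G) (h75 : Hyp1375 G) (h78 : Hyp1378 G) :
    (∀ M N : Subgroup G, IsCoatom M → IsCoatom N → (∀ g : G, N ≠ M.map (MulAut.conj g).toMonoidHom) → Cfsg.tildeOf M ((Cfsg.sigmaCore M : Set G) \ {1}) ∩ Cfsg.tildeOf N ((Cfsg.sigmaCore N : Set G) \ {1}) = ∅) ∧
      ((∀ M : Subgroup G, IsCoatom M → Cfsg.kappa M = ∅) →
        ∀ g : G, g ≠ 1 → ∃ M : Subgroup G, IsCoatom M ∧ g ∈ Cfsg.tildeOf M ((Cfsg.sigmaCore M : Set G) \ {1})) ∧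
      ∀ (M K U : Subgroup G), IsCoatom M → Cfsg.IsSigmaDecomposition M K U → K ≠ ⊥ →
        (∀ g : G, g ≠ 1 → (∃ N : Subgroup G, IsCoatom N ∧ g ∈ Cfsg.tildeOf N ((Cfsg.sigmaCore N : Set G) \ {1})) ∨
            ∃ y : G, ∃ z ∈ ((↑(K ⊔ (Cfsg.sigmaCore M ⊓ Subgroup.centralizer (K : Set G))) : Set G) \ ((K : Set G) ∪ ↑(Cfsg.sigmaCore M ⊓ Subgroup.centralizer (K : Set G)))), g = y * z * y⁻¹) ∧
        ∀ N : Subgroup G, IsCoatom N → ∀ y : G, ∀ z ∈ ((↑(K ⊔ (Cfsg.sigmaCore M ⊓ Subgroup.centralizer (K : Set G))) : Set G) \ ((K : Set G) ∪ ↑(Cfsg.sigmaCore M ⊓ Subgroup.centralizer (K : Set G)))), y * z * y⁻¹ ∉ Cfsg.tildeOf N ((Cfsg.sigmaCore N : Set G) \ {1}) := by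
  refine ⟨fun M N hM hN hnc => tilde_disjoint h33 h78 hM hN hnc,
    fun hκ g hg => cover_of_kappa_empty hG h25 h32 h74 h75 h78 hκ hg, ?_⟩
  intro M K U hM hKU hK1
  refine ⟨fun g hg => cover_of_K_ne_bot hG h25 h32 h34 h54 h66 h69 h74 h75 h78 hM hKU hK1 hg, ?_⟩
  intro N hN y z hz
  obtain ⟨Mstar, ⟨hMs, hKst, hKstH⟩, -⟩ := h66 M hM K U hKU hK1
  exact zhat_not_mem_tilde h34 h67 h74 h78 hM hKU hK1 hMs hKst hKstH N hN y z hz

end Cfsg.Agent.Lib.Helper79_BGTilde
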