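import Mathlib
import Cfsg.Prelude.Def_OddOrderLocal
import Cfsg.Agent.Lib.Helper79_BGTilde

set_option autoImplicit false
set_option linter.unusedVariables false
open Cfsg

/-!
# Pieces of Bender–Glauberman Theorem 14.2 (helper79)

* `eq_of_card_eq_of_isCyclic`: subgroups of the same order of a finite cyclic group coincide.
* `kappa_hall_inf_conj_eq_bot`: clause 2 of S1431 (`K ∩ K^g = 1` for `g ∈ M ∖ K K*`) from the first part of
  clause 3 of S1430 (`N_M(X) = K K*` for `X ≤ K` of prime order) alone; no cyclicity of `K` is used.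
-/

namespace Cfsg.Agent.Lib.Helper79_BG142

open Subgroup Cfsg.Agent.Lib.Helper79_BGConj Cfsg.Agent.Lib.Helper79_BGTilde

universe u

/-- a subgroup of a finite cyclic group is the set of solutions of `x ^ d = 1`, `d` its order -/
theorem coe_eq_setOf_pow_eq_one {J : Type*} [Group J] [Finite J] [IsCyclic J] (A : Subgroup J) :
    (A : Set J) = {x : J | x ^ Nat.card A = 1} := by
  classical
  haveI := Fintype.ofFinite J
  have hd : 0 < Nat.card A := Nat.card_pos
  have hsub : (A : Set J) ⊆ {x : J | x ^ Nat.card A = 1} := by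
    intro x hx
    have h1 : (⟨x, hx⟩ : A) ^ Nat.card A = 1 := pow_card_eq_one'
    have h2 := congrArg Subtype.val h1
    rw [Subgroup.coe_pow, Subgroup.coe_one] at h2
    exact h2
  apply Set.eq_of_subset_of_ncard_le hsub ?_ (Set.toFinite _)
  have h1 : ({x : J | x ^ Nat.card A = 1} : Set J).ncard ≤ Nat.card A := by
    have := IsCyclic.card_pow_eq_one_le (α := J) hd
    rw [Set.ncard_eq_toFinset_card']
    convert this using 2
    ext x
    simp
  have h2 : (A : Set J).ncard = Nat.card A := by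
    rw [← Nat.card_coe_set_eq]
    rfl
  rw [h2]
  exact h1

/-- subgroups of the same order of a finite cyclic group coincide -/
theorem eq_of_card_eq_of_isCyclic {J : Type*} [Group J] [Finite J] [IsCyclic J] (A B : Subgroup J)
    (h : Nat.card A = Nat.card B) : A = B := by
  apply SetLike.coe_injective
  rw [coe_eq_setOf_pow_eq_one A, coe_eq_setOf_pow_eq_one B, h]

variable {G : Type u} [Group G] [Finite G]

/-- two subgroups of the same order inside a cyclic subgroup coincide -/
theorem eq_of_le_isCyclic_of_card_eq {T X X' : Subgroup G} (hT : IsCyclic ↥T) (hX : X ≤ T)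
    (hX' : X' ≤ T) (h : Nat.card X = Nat.card X') : X = X' := by
  have h1 : X.subgroupOf T = X'.subgroupOf T := by
    apply eq_of_card_eq_of_isCyclic
    rw [Cfsg.Agent.Lib.Helper24_CoprimeAction.card_subgroupOf_of_le hX,
      Cfsg.Agent.Lib.Helper24_CoprimeAction.card_subgroupOf_of_le hX', h]
  have h2 := Subgroup.subgroupOf_inj.mp h1
  rw [inf_eq_left.mpr hX, inf_eq_left.mpr hX'] at h2
  exact h2

/-- **Clause 2 of S1431 from clause 3 of S1430.**  If `N_M(X) = K K*` for every subgroup `X ≤ K` of prime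
order, then `K ∩ K^g = 1` for every `g ∈ M` outside `K K*`. -/
theorem kappa_hall_inf_conj_eq_bot {M K : Subgroup G} (hK : IsPiHallOf (kappa M) K M)
    (h3 : ∀ X : Subgroup G, X ≤ K → (Nat.card X).Prime →
      M ⊓ normalizer (X : Set G) = K ⊔ (sigmaCore M ⊓ centralizer (K : Set G))) :
    ∀ g ∈ M, g ∉ K ⊔ (sigmaCore M ⊓ centralizer (K : Set G)) →
      K ⊓ K.map (MulAut.conj g).toMonoidHom = ⊥ := by
  intro g hgM hg
  rw [eq_bot_iff]
  intro x hx
  rw [mem_bot]
  by_contra hx1
  obtain ⟨p, hp, hpd⟩ := exists_prime_dvd_orderOf hx1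
  haveI : Fact p.Prime := ⟨hp⟩
  set y : G := x ^ (orderOf x / p) with hy
  have hyo : orderOf y = p := orderOf_pow_orderOf_div (orderOf_pos x).ne' hpd
  set X : Subgroup G := zpowers y with hXdef
  have hXcard : Nat.card X = p := by rw [hXdef, Nat.card_zpowers, hyo]
  have hyK : y ∈ K ⊓ K.map (MulAut.conj g).toMonoidHom := Subgroup.pow_mem _ hx _
  have hXle : X ≤ K ⊓ K.map (MulAut.conj g).toMonoidHom := (zpowers_le).mpr hyK
  have hXK : X ≤ K := hXle.trans inf_le_left
  set X' : Subgroup G := X.map (MulAut.conj g⁻¹).toMonoidHom with hX'def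
  have hX'card : Nat.card X' = p := by rw [hX'def, card_map, hXcard]
  have hX'K : X' ≤ K := by
    rintro _ ⟨z, hz, rfl⟩
    obtain ⟨k, hk, hkz⟩ := (hXle hz).2
    have : (MulAut.conj g⁻¹).toMonoidHom z = k := by
      rw [← hkz]
      simp [MulAut.conj_apply, mul_assoc]
    rw [this]
    exact hk
  -- `K` normalizes `X`
  have hKNX : K ≤ normalizer (X : Set G) := by
    have h := h3 X hXK (hXcard ▸ hp)
    exact (le_sup_left.trans h.ge).trans inf_le_right
  -- `J = X X'` is a `p`-subgroup of `M`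
  have hXp : IsPGroup p X := IsPGroup.of_card (n := 1) (by rw [hXcard, pow_one])
  have hX'p : IsPGroup p X' := IsPGroup.of_card (n := 1) (by rw [hX'card, pow_one])
  have hJp : IsPGroup p (X ⊔ X' : Subgroup G) :=
    IsPGroup.to_sup_of_normal_left' hXp hX'p (hX'K.trans hKNX)
  have hJM : X ⊔ X' ≤ M := (sup_le hXK hX'K).trans hK.1
  obtain ⟨T, hJT, hT⟩ := Cfsg.Agent.Lib.Helper84_RelSylow.exists_isSylowIn_ge hJM hJp
  have hpκ : p ∈ kappa M := by
    apply hK.2.1 p hp
    rw [← hXcard]
    exact Subgroup.card_dvd_of_le hXK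
  have hTc : IsCyclic ↥T := ((mem_kappa_iff.mp hpκ).2.2.2 T hT).1
  have hXX' : X = X' :=
    eq_of_le_isCyclic_of_card_eq hTc (le_sup_left.trans hJT) (le_sup_right.trans hJT)
      (hXcard.trans hX'card.symm)
  -- so `g` normalizes `X`
  have hgN : g ∈ normalizer (X : Set G) := by
    have h1 : g⁻¹ ∈ normalizer (X : Set G) := by
      rw [Cfsg.Agent.Lib.Helper24_CoprimeAction.mem_normalizer_iff_map_conj]
      exact hXX'.symm
    simpa using inv_mem h1
  apply hg
  rw [← h3 X hXK (hXcard ▸ hp)]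
  exact ⟨hgM, hgN⟩

end Cfsg.Agent.Lib.Helper79_BG142
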