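import Cfsg.Agent.Lib.Helper31_BG131
import Cfsg.Agent.Lib.Helper52_BG12a
import Cfsg.Agent.S1409

/-!
# Bender–Glauberman section 13, "Case B" preliminaries (helper31)

`M` a maximal subgroup, `E` a complement of `M_σ`.  "Case B": some subgroup `R ≤ E` of prime order
`r ∈ τ₃(M)` centralizes a non-identity element of `M_σ`.

* `normal_of_tau3` : a subgroup of prime order `r ∈ τ₃(M)` of `E` is normal in `E` (S1415);
* `normalizer_not_le_of_tau3` : `N_G(R) ≰ M` (S1409);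
* `tau2_empty_of_caseB` (piece R0 of helper23's skeleton for S1430): in Case B, `τ₂(M) = ∅` (S1417(e)).
-/

set_option autoImplicit false

namespace Cfsg.Agent.Lib.Helper31_BG13b

open Subgroup Cfsg Cfsg.Agent.Lib.Helper22_Radical Cfsg.Agent.Lib.Helper22_BGTrans
  Cfsg.Agent.Lib.Helper24_CoprimeHall Cfsg.Agent.Lib.Helper24_CoprimeAction
  Cfsg.Agent.Lib.Helper76_BG13a Cfsg.Agent.Lib.Helper76_BG13b Cfsg.Agent.Lib.Helper76_BG13c

universe u

variable {G : Type u} [Group G] [Finite G]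

/-- a subgroup of `E` of prime order `r ∈ τ₃(M)` is normal in `E` -/
theorem normal_of_tau3 (hG : IsMinSimpleOddOrder G) {M E : Subgroup G} (hM : IsCoatom M)
    (hE : IsComplIn E (sigmaCore M) M) {r : ℕ} (hr : r ∈ tau3 M) {R : Subgroup G} (hRE : R ≤ E)
    (hRc : Nat.card R = r) : E ≤ normalizer (R : Set G) := by
  have hrp : r.Prime := hr.1
  have hsolvE : Group.IsSolvable ↥E := isSolvable_of_le hG hM hE.1
  obtain ⟨E₃, hE₃, hRE₃⟩ := exists_piHall_ge (π := tau3 M) hsolvE hRE (by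
    intro q hq hd
    rw [hRc] at hd
    rw [(Nat.prime_dvd_prime_iff_eq hq hrp).mp hd]
    exact hr)
  obtain ⟨hcyc, -, hnorm⟩ := (Cfsg.Agent.S1415.result hG M hM E hE).2.2 E₃
    ((isPiHallOf_iff _ _ _).2 hE₃)
  intro e he
  have heN := hnorm he
  rw [mem_normalizer_iff_map_conj] at heN ⊢
  have h1 : R.map (MulAut.conj e).toMonoidHom ≤ E₃ := by
    have := Subgroup.map_mono (f := (MulAut.conj e).toMonoidHom) hRE₃
    rwa [heN] at this
  exact Cfsg.Agent.Lib.Helper52_BG12a.eq_of_card_eq_of_isCyclic (P := E₃) h1 hRE₃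
    (card_cj e R)

/-- for `R` of prime order `r ∈ τ₃(M)`, `N_G(R)` is not contained in `M` (S1409: otherwise `M` would have
`r`-rank 2) -/
theorem normalizer_not_le_of_tau3 (hG : IsMinSimpleOddOrder G) {M : Subgroup G} (hM : IsCoatom M)
    {r : ℕ} (hr : r ∈ tau3 M) {R : Subgroup G} (hRc : Nat.card R = r) :
    ¬ normalizer (R : Set G) ≤ M := by
  intro hN
  have : Fact r.Prime := ⟨hr.1⟩
  exact (Cfsg.Agent.S1409.result hG M hM r hr.2.1 R hRc hN).1.2 hr.2.2.2

/-- a maximal subgroup over `N_G(R)`, `R ≤ E` of prime order in `τ₃(M)`: it contains `E`, it is not `M` -/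
theorem exists_coatom_normalizer_of_tau3 (hG : IsMinSimpleOddOrder G) {M E : Subgroup G}
    (hM : IsCoatom M) (hE : IsComplIn E (sigmaCore M) M) {r : ℕ} (hr : r ∈ tau3 M) {R : Subgroup G}
    (hRE : R ≤ E) (hRc : Nat.card R = r) :
    ∃ H : Subgroup G, IsCoatom H ∧ normalizer (R : Set G) ≤ H ∧ E ≤ H ∧ H ≠ M := by
  have hrp : r.Prime := hr.1
  have hR1 : R ≠ ⊥ := by
    intro h
    rw [h, Subgroup.card_bot] at hRc
    exact hrp.one_lt.ne hRc
  have hRtop : R ≠ ⊤ := by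
    intro h
    exact hM.1 (top_le_iff.mp (h ▸ hRE.trans hE.1))
  obtain ⟨H, hH, hNH⟩ := (eq_top_or_exists_le_coatom _).resolve_left (normalizer_ne_top hG hR1 hRtop)
  refine ⟨H, hH, hNH, (normal_of_tau3 hG hM hE hr hRE hRc).trans hNH, ?_⟩
  rintro rfl
  exact normalizer_not_le_of_tau3 hG hM hr hRc hNH

/-- **Piece R0**: in Case B (some subgroup of prime order `r ∈ τ₃(M)` of the complement `E` centralizes a
non-identity element of `M_σ`), `τ₂(M)` is empty. -/
theorem tau2_empty_of_caseB (hG : IsMinSimpleOddOrder G) {M E : Subgroup G} (hM : IsCoatom M)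
    (hE : IsComplIn E (sigmaCore M) M)
    (hB : ∃ r ∈ tau3 M, ∃ R : Subgroup G, R ≤ E ∧ Nat.card R = r ∧
      sigmaCore M ⊓ centralizer (R : Set G) ≠ ⊥) : ∀ p, p ∉ tau2 M := by
  obtain ⟨r, hr, R, hRE, hRc, hRne⟩ := hB
  intro p hp
  have : Fact p.Prime := ⟨hp.1⟩
  obtain ⟨A, hAE, hAe, hA2⟩ := exists_elemAb_le_compl hG hM hE hp
  obtain ⟨H, hH, hNH, hEH, hne⟩ := exists_coatom_normalizer_of_tau3 hG hM hE hr hRE hRc
  have h17 := (Cfsg.Agent.S1417.result hG M hM p hp A ⟨hAE.trans hE.1, hAe, hA2⟩).2.2.2.2.1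
    H hH hne (hAE.trans hEH)
  apply hRne
  rw [eq_bot_iff, ← h17]
  exact inf_le_inf_left _ ((Subgroup.centralizer_le_normalizer (s := (R : Set G))).trans hNH)

/-! ### More on the maximal subgroup `H` over `N_G(R)` (helper31's (L2)) -/

/-- a subgroup of `E` of prime order `r ∈ τ₃(M)` lies in `E'` -/
theorem le_commutator_of_tau3 (hG : IsMinSimpleOddOrder G) {M E : Subgroup G} (hM : IsCoatom M)
    (hE : IsComplIn E (sigmaCore M) M) {r : ℕ} (hr : r ∈ tau3 M) {R : Subgroup G} (hRE : R ≤ E)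
    (hRr : IsPGroup r R) : R ≤ ⁅E, E⁆ := by
  have hrp : r.Prime := hr.1
  have : Fact r.Prime := ⟨hrp⟩
  have hsolvE : Group.IsSolvable ↥E := isSolvable_of_le hG hM hE.1
  obtain ⟨E₃, hE₃, hRE₃⟩ := exists_piHall_ge (π := tau3 M) hsolvE hRE (by
    intro q hq hd
    have := primes_of_isPGroup hrp hRr q hq hd
    rw [Set.mem_singleton_iff] at this
    rw [this]
    exact hr)
  exact hRE₃.trans ((Cfsg.Agent.S1415.result hG M hM E hE).2.2 E₃ ((isPiHallOf_iff _ _ _).2 hE₃)).2.1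

/-- if a maximal subgroup `H` contains `E`, then no prime of `τ₃(M)` dividing `|E|` lies in `τ₁(H)` -/
theorem not_mem_tau1_of_tau3 (hG : IsMinSimpleOddOrder G) {M E H : Subgroup G} (hM : IsCoatom M)
    (hE : IsComplIn E (sigmaCore M) M) (hEH : E ≤ H) {r : ℕ} (hr : r ∈ tau3 M) {R : Subgroup G}
    (hRE : R ≤ E) (hRr : IsPGroup r R) (hR1 : R ≠ ⊥) : r ∉ tau1 H := by
  have : Fact r.Prime := ⟨hr.1⟩
  intro h1
  apply h1.2.2.2.1
  have hle : R ≤ ⁅H, H⁆ :=
    (le_commutator_of_tau3 hG hM hE hr hRE hRr).trans (Subgroup.commutator_mono hEH hEH)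
  exact (dvd_card_of_isPGroup hRr hR1).trans (Subgroup.card_dvd_of_le hle)

/-- a maximal subgroup `H` containing the normalizer of a nontrivial `r`-subgroup, where `r ∉ σ(M)` and `M`
has `r`-rank at most 1, is not conjugate to `M` -/
theorem not_conj_of_normalizer_le (hG : IsMinSimpleOddOrder G) {M H : Subgroup G} (hH : IsCoatom H)
    {r : ℕ} [Fact r.Prime] (hrσ : r ∉ sigma M) (hr1 : PRankLE r 1 ↥M) {R : Subgroup G}
    (hRr : IsPGroup r R) (hR1 : R ≠ ⊥) (hNH : normalizer (R : Set G) ≤ H) :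
    ∀ g : G, M ≠ cj g H := by
  intro g hg
  rcases mem_sigma_or_tau2 hG hH hRr hR1 hNH with h | h
  · exact hrσ (hg ▸ mem_sigma_cj h g)
  · exact h.2.2.2 (pRankLE_of_cj g (hg ▸ hr1))

/-- **(L2)**: `R ≤ E` of prime order `r ∈ τ₃(M)`, `H` a maximal subgroup over `N_G(R)`.  Then
`M_σ ∩ H = C_{M_σ}(R)`. -/
theorem sigmaCore_inf_eq_of_tau3 (hG : IsMinSimpleOddOrder G) {M E H : Subgroup G} (hM : IsCoatom M)
    (hE : IsComplIn E (sigmaCore M) M) (hH : IsCoatom H) {r : ℕ} (hr : r ∈ tau3 M) {R : Subgroup G}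
    (hRE : R ≤ E) (hRc : Nat.card R = r) (hNH : normalizer (R : Set G) ≤ H) :
    sigmaCore M ⊓ H = sigmaCore M ⊓ centralizer (R : Set G) := by
  have hrp : r.Prime := hr.1
  have : Fact r.Prime := ⟨hrp⟩
  have hRr : IsPGroup r R := IsPGroup.of_card (n := 1) (by rw [hRc, pow_one])
  have hR1 : R ≠ ⊥ := by
    intro h
    rw [h, Subgroup.card_bot] at hRc
    exact hrp.one_lt.ne hRc
  have hEH : E ≤ H := (normal_of_tau3 hG hM hE hr hRE hRc).trans hNH
  have hnc := not_conj_of_normalizer_le hG hH hr.2.1 hr.2.2.2 hRr hR1 hNH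
  have hcen := Cfsg.Agent.Lib.Helper31_BG131.le_centralizer_of_not_tau1 hG hM hH hnc hr.2.1
    (not_mem_tau1_of_tau3 hG hM hE hEH hr hRE hRr hR1) (hRE.trans hE.1) (hRE.trans hEH) hRr
  apply le_antisymm
  · refine le_inf inf_le_left ?_
    rw [Subgroup.le_centralizer_iff]
    exact hcen
  · exact inf_le_inf_left _ ((Subgroup.centralizer_le_normalizer (s := (R : Set G))).trans hNH)

end Cfsg.Agent.Lib.Helper31_BG13b
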