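import Cfsg.Agent.Lib.Helper23_BG13Hyp
import Cfsg.Agent.Lib.Helper31_BG13b
import Cfsg.Agent.Lib.Helper23_SigmaHall
import Cfsg.Agent.Lib.Helper29_BG12a
import Cfsg.Agent.Lib.Helper53_BG16
import Cfsg.Agent.Lib.Helper2_PRank
import Cfsg.Agent.Lib.Helper97_BG127c
import Cfsg.Agent.S1403

/-!
# Bender–Glauberman Theorem 14.2, "Case B" core (helper97; piece PB of helper23's skeleton)

`M` a maximal subgroup, `E` a complement of `M_σ` in `M`, `K ≤ E` a Hall `κ(M)`-subgroup of `M`.
In Case B (some subgroup of `E` of prime order `r ∈ τ₃(M)` is nonregular on `M_σ`) and under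
`F2 G` (B-G 13.11/13.13 as a hypothesis Prop): `K = E`, `E` acts in a prime manner on `M_σ`,
`M = M_σ E` has trivial Hall `(κ(M) ∪ σ(M))'`-subgroups, every subgroup of prime order of `K` is normal in
`E` and is the only subgroup of its order in `K`.
-/

set_option autoImplicit false

namespace Cfsg.Agent.Lib.Helper97_BG142b

open Subgroup Cfsg Cfsg.Agent.Lib.Helper23_BG13Hyp Cfsg.Agent.Lib.Helper49_Sigma

universe u

variable {G : Type u} [Group G] [Finite G]

/-- `|M : M_σ| = |E|` -/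
theorem relIndex_sigmaCore_eq_card {M E : Subgroup G} (hE : IsComplIn E (sigmaCore M) M) :
    (sigmaCore M).relIndex M = Nat.card E := by
  have h1 := Subgroup.relIndex_mul_relIndex ⊥ (sigmaCore M) M bot_le hE.2.1
  rw [Subgroup.relIndex_bot_left, Subgroup.relIndex_bot_left,
    Cfsg.Agent.Lib.Helper53_BG16.card_of_isComplIn hE, mul_comm (Nat.card ↥E)] at h1
  exact Nat.eq_of_mul_eq_mul_left Nat.card_pos h1

/-- a prime dividing `|E|` is not in `σ(M)` -/
theorem not_mem_sigma_of_dvd_card_compl (hG : IsMinSimpleOddOrder G) {M E : Subgroup G}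
    (hM : IsCoatom M) (hE : IsComplIn E (sigmaCore M) M) {p : ℕ} (hp : p.Prime)
    (hpE : p ∣ Nat.card E) : p ∉ sigma M := by
  intro hσ
  have hU : UniqHyp G := fun K hK h1 h3 => Cfsg.Agent.S1403.result hG K hK h1 h3
  have h1 := Cfsg.Agent.Lib.Helper23_SigmaHall.not_dvd_index_sigma hG hU hM hp hσ
  rw [← Cfsg.Agent.Lib.Helper23_SigmaHall.relIndex_sigmaCore, relIndex_sigmaCore_eq_card hE] at h1
  exact h1 hpE

/-- a prime dividing `|M|` divides `|E|` or lies in `σ(M)` -/
theorem dvd_card_compl_or_mem_sigma {M E : Subgroup G}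
    (hE : IsComplIn E (sigmaCore M) M) {p : ℕ} (hp : p.Prime)
    (hpM : p ∣ Nat.card M) : p ∣ Nat.card E ∨ p ∈ sigma M := by
  rw [Cfsg.Agent.Lib.Helper53_BG16.card_of_isComplIn hE] at hpM
  rcases (Nat.Prime.dvd_mul hp).mp hpM with h | h
  · exact Or.inl h
  · exact Or.inr (Cfsg.Agent.Lib.Helper23_SigmaHall.prime_mem_sigma_of_dvd_card_sigmaCore M hp h)

theorem caseB_core (hG : IsMinSimpleOddOrder G) (hF2 : F2 G) {M E K : Subgroup G}
    (hM : IsCoatom M) (hE : IsComplIn E (sigmaCore M) M) (hK : IsPiHallOf (kappa M) K M)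
    (hKE : K ≤ E)
    (hB : ∃ r ∈ tau3 M, ∃ R : Subgroup G, R ≤ E ∧ Nat.card R = r ∧
      sigmaCore M ⊓ centralizer (R : Set G) ≠ ⊥) :
    K = E ∧
    (∀ k ∈ K, k ≠ 1 → sigmaCore M ⊓ centralizer ({k} : Set G) = sigmaCore M ⊓ centralizer (K : Set G)) ∧
    IsPiHallOf {q | q.Prime ∧ q ∉ kappa M ∧ q ∉ sigma M} (⊥ : Subgroup G) M ∧
    (∀ X : Subgroup G, X ≤ K → (Nat.card X).Prime → E ≤ normalizer (X : Set G)) ∧
    (∀ (t : ℕ) (X X' : Subgroup G), X ≤ K → X' ≤ K → Nat.card X = t → Nat.card X' = t → t.Prime →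
      X = X') := by
  have hU : UniqHyp G := fun K hK h1 h3 => Cfsg.Agent.S1403.result hG K hK h1 h3
  have h2 := Cfsg.Agent.Lib.Helper31_BG13b.tau2_empty_of_caseB hG hM hE hB
  obtain ⟨r, hr, R, hRE, hRc, hRne⟩ := hB
  obtain ⟨hF, hFn⟩ := hF2 M hM E hE r hr R hRE hRc hRne
  have hodd : Odd (Nat.card G) := hG.1
  -- `D = C_{M_σ}(E) ≠ 1`
  have hD : sigmaCore M ⊓ centralizer (E : Set G) ≠ ⊥ := by
    have hR1 : R ≠ ⊥ := by
      intro h
      rw [h, Subgroup.card_bot] at hRc
      exact hr.1.ne_one hRc.symm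
    obtain ⟨g, hg1⟩ := (Subgroup.ne_bot_iff_exists_ne_one).mp hR1
    have hgR' : (g : G) ∈ R := g.2
    have hg1' : (g : G) ≠ 1 := fun h => hg1 (Subtype.ext h)
    rw [← hF g (hRE hgR') hg1']
    intro h
    apply hRne
    rw [eq_bot_iff, ← h]
    refine inf_le_inf_left _ (Subgroup.centralizer_le ?_)
    intro z hz
    rw [Set.mem_singleton_iff] at hz
    rw [hz]
    exact hgR'
  obtain ⟨y, hy1⟩ := (Subgroup.ne_bot_iff_exists_ne_one).mp hD
  have hyD' : (y : G) ∈ sigmaCore M ⊓ centralizer (E : Set G) := y.2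
  have hy1' : (y : G) ≠ 1 := fun h => hy1 (Subtype.ext h)
  obtain ⟨hyσ, hyC⟩ := Subgroup.mem_inf.mp hyD'
  -- rank one
  have hrank : ∀ p : ℕ, p.Prime → p ∣ Nat.card E → PRankLE p 1 ↥M := by
    intro p hp hpE
    have hσ := not_mem_sigma_of_dvd_card_compl hG hM hE hp hpE
    have h22 := Cfsg.Agent.Lib.Helper23_SigmaHall.pRankLE_of_not_mem_sigma hG hU hM hp hσ
    by_contra h1
    exact h2 p ⟨hp, hσ, h22, h1⟩
  have hne2 : ∀ p : ℕ, p ∣ Nat.card G → p ≠ 2 := by
    intro p hp h
    rw [h] at hp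
    exact (Nat.not_even_iff_odd.mpr hodd) (even_iff_two_dvd.mpr hp)
  -- every prime of `E` is in `κ(M)`
  have hkappa : ∀ p : ℕ, p.Prime → p ∣ Nat.card E → p ∈ kappa M := by
    intro p hp hpE
    have : Fact p.Prime := ⟨hp⟩
    have hpM : p ∣ Nat.card M := hpE.trans (Subgroup.card_dvd_of_le hE.1)
    have hσ := not_mem_sigma_of_dvd_card_compl hG hM hE hp hpE
    refine ⟨hp, hpM, hσ, ?_⟩
    intro P
    constructor
    · have hPr : PRankLE p 1 ↥(P : Subgroup ↥M) :=
        Cfsg.Agent.Lib.Helper2_PRank.pRankLE_of_injective' p 1 (P : Subgroup ↥M).subtype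
          (Subgroup.subtype_injective _) (hrank p hp hpE)
      exact Cfsg.Agent.Lib.Helper29_BG12a.isCyclic_of_pRankLE_one
        (hne2 p (hpM.trans (Subgroup.card_subgroup_dvd_card M))) P.isPGroup' hPr
    · -- an element of order `p` of `E`
      obtain ⟨x0, hx0⟩ := exists_prime_orderOf_dvd_card' (G := ↥E) p hpE
      have hx0M : (x0 : G) ∈ M := hE.1 x0.2
      have hx01 : (x0 : G) ≠ 1 := by
        intro h
        have : x0 = 1 := Subtype.ext h
        rw [this, orderOf_one] at hx0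
        exact hp.ne_one hx0.symm
      have hx0p : (x0 : G) ^ p = 1 := by
        have := pow_orderOf_eq_one x0
        rw [hx0] at this
        have h3 := congrArg Subtype.val this
        simpa using h3
      let xM : ↥M := ⟨(x0 : G), hx0M⟩
      have hxMp : xM ^ p = 1 := Subtype.ext (by simpa [xM] using hx0p)
      have hZ : IsPGroup p ↥(Subgroup.zpowers xM) := by
        apply IsPGroup.of_card (n := 1)
        rw [Nat.card_zpowers, pow_one]
        apply orderOf_eq_prime hxMp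
        intro h
        exact hx01 (congrArg Subtype.val h)
      obtain ⟨Q, hQ⟩ := hZ.exists_le_sylow
      obtain ⟨m, hm⟩ := MulAction.exists_smul_eq ↥M Q P
      have hxQ : xM ∈ (Q : Subgroup ↥M) := hQ (Subgroup.mem_zpowers xM)
      have hxP : m * xM * m⁻¹ ∈ (P : Subgroup ↥M) := by
        rw [← hm, Sylow.smul_def, Sylow.pointwise_smul_def]
        have := Subgroup.smul_mem_pointwise_smul xM (MulAut.conj m) (Q : Subgroup ↥M) hxQ
        rwa [MulAut.smul_def, MulAut.conj_apply] at this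
      refine ⟨m * xM * m⁻¹, hxP, ?_, (m : G) * y * (m : G)⁻¹, ?_, ?_, ?_⟩
      · intro h
        apply hx01
        have h3 : xM = 1 := by
          have := congrArg (fun z => m⁻¹ * z * m) h
          simpa [mul_assoc] using this
        exact congrArg Subtype.val h3
      · have hn := Cfsg.Agent.Lib.Helper97_BG127c.le_normalizer_sigmaCore' M m.2
        exact (Subgroup.mem_normalizer_iff.mp hn (y : G)).mp hyσ
      · intro h
        apply hy1'
        have := congrArg (fun z => (m : G)⁻¹ * z * (m : G)) h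
        simpa [mul_assoc] using this
      · have hc : (x0 : G) * (y : G) = (y : G) * (x0 : G) :=
          Subgroup.mem_centralizer_iff.mp hyC (x0 : G) x0.2
        have : ((m * xM * m⁻¹ : ↥M) : G) = (m : G) * (x0 : G) * (m : G)⁻¹ := by
          simp [xM]
        rw [this]
        calc (m : G) * (x0 : G) * (m : G)⁻¹ * ((m : G) * (y : G) * (m : G)⁻¹)
            = (m : G) * ((x0 : G) * (y : G)) * (m : G)⁻¹ := by group
          _ = (m : G) * ((y : G) * (x0 : G)) * (m : G)⁻¹ := by rw [hc]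
          _ = (m : G) * (y : G) * (m : G)⁻¹ * ((m : G) * (x0 : G) * (m : G)⁻¹) := by group
  -- `K = E`
  have hKeq : K = E := by
    apply le_antisymm hKE
    rw [← Subgroup.relIndex_eq_one]
    by_contra hne
    obtain ⟨p, hp, hpd⟩ := Nat.exists_prime_and_dvd hne
    have hpE : p ∣ Nat.card E := hpd.trans (Subgroup.relIndex_dvd_card K E)
    have hpk := hkappa p hp hpE
    apply hK.2.2 p hp hpk
    rw [← Subgroup.relIndex_mul_relIndex K E M hKE hE.1]
    exact Dvd.dvd.mul_right hpd _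
  refine ⟨hKeq, ?_, ?_, ?_, ?_⟩
  · intro k hk hk1
    rw [hKeq] at hk ⊢
    exact hF k hk hk1
  · refine ⟨bot_le, ?_, ?_⟩
    · intro p hp hpd
      rw [Subgroup.card_bot] at hpd
      exact absurd (Nat.dvd_one.mp hpd) hp.ne_one
    · intro p hp hpi hpd
      rw [Subgroup.relIndex_bot_left] at hpd
      rcases dvd_card_compl_or_mem_sigma hE hp hpd with h | h
      · exact hpi.2.1 (hkappa p hp h)
      · exact hpi.2.2 h
  · intro X hXK hXp
    exact hFn X (hXK.trans hKE) hXp
  · intro t X X' hXK hXK' hX hX' ht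
    have : Fact t.Prime := ⟨ht⟩
    have hXE : X ≤ E := hXK.trans hKE
    have hXE' : X' ≤ E := hXK'.trans hKE
    have htE : t ∣ Nat.card E := by
      rw [← hX]
      exact Subgroup.card_dvd_of_le hXE
    have hXp : IsPGroup t ↥X := IsPGroup.of_card (n := 1) (by rw [hX, pow_one])
    have hXp' : IsPGroup t ↥X' := IsPGroup.of_card (n := 1) (by rw [hX', pow_one])
    have hn' : X ≤ normalizer (X' : Set G) := hXE.trans (hFn X' hXE' (by rw [hX']; exact ht))
    have hT : IsPGroup t ↥(X ⊔ X') := IsPGroup.to_sup_of_normal_right' hXp hXp' hn'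
    have hTM : X ⊔ X' ≤ M := sup_le (hXE.trans hE.1) (hXE'.trans hE.1)
    have hTr : PRankLE t 1 ↥(X ⊔ X') :=
      Cfsg.Agent.Lib.Helper2_PRank.pRankLE_of_injective' t 1 (Subgroup.inclusion hTM)
        (Subgroup.inclusion_injective hTM) (hrank t ht htE)
    have htG : t ∣ Nat.card G := htE.trans (Subgroup.card_subgroup_dvd_card E)
    have hcyc : IsCyclic ↥(X ⊔ X') :=
      Cfsg.Agent.Lib.Helper29_BG12a.isCyclic_of_pRankLE_one (hne2 t htG) hT hTr
    exact Cfsg.Agent.Lib.Helper52_BG12a.eq_of_card_eq_of_isCyclic (P := X ⊔ X') le_sup_left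
      le_sup_right (by rw [hX, hX'])

end Cfsg.Agent.Lib.Helper97_BG142b
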