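import Cfsg.Agent.Lib.Helper53_BG142a
import Cfsg.Agent.Lib.Helper97_BG142b
import Cfsg.Agent.Lib.Helper53_BG142n
import Cfsg.Agent.Lib.Helper76_BG13a
import Cfsg.Agent.Lib.Helper23_SigmaHall
import Cfsg.Agent.Lib.Helper23_BG13CaseB
import Cfsg.Agent.Lib.Helper79_BG142

/-!
# Bender-Glauberman Theorem 14.2: the structure part (helper23)

`Struct M K` collects the first two conjuncts of the frozen S1430 together with
`N_M(X) = N_M(K) = K K*` for the subgroups `X ≤ K` of prime order.  `struct_of_cores` proves it from the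
Case A core (helper53), the Case B core (helper97), the normalizer bookkeeping (helper53) and the
hypothesis Props `H1428`, `F1`, `F2`; it also returns the uniqueness of the subgroups of prime order of `K`
(needed for S1431).
-/

set_option autoImplicit false

namespace Cfsg.Agent.Lib.Helper23_BG142Struct

open Subgroup Cfsg Cfsg.Agent.Lib.Helper23_BG13Hyp

universe u
variable {G : Type u} [Group G] [Finite G]

/-- The first two conjuncts of S1430 plus `N_M(X) = N_M(K) = K K*`. -/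
def Struct (M K : Subgroup G) : Prop :=
  (∀ k ∈ K, k ≠ 1 → sigmaCore M ⊓ centralizer ({k} : Set G) = sigmaCore M ⊓ centralizer (K : Set G)) ∧
  (∃ U : Subgroup G, IsMulCommutative U ∧ IsPiHallOf {q | q.Prime ∧ q ∉ kappa M ∧ q ∉ sigma M} U M ∧
    K ≤ normalizer (U : Set G) ∧ ∀ k ∈ K, k ≠ 1 → U ⊓ centralizer ({k} : Set G) = ⊥) ∧
  ∀ X : Subgroup G, X ≤ K → (Nat.card X).Prime →
    M ⊓ normalizer (X : Set G) = K ⊔ (sigmaCore M ⊓ centralizer (K : Set G)) ∧
    M ⊓ normalizer (K : Set G) = K ⊔ (sigmaCore M ⊓ centralizer (K : Set G))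

omit [Finite G] in
/-- prime action gives `C_{M_σ}(X) = C_{M_σ}(K)` for every nontrivial `X ≤ K` -/
theorem cent_eq_of_prime_action {M K X : Subgroup G}
    (hpr : ∀ k ∈ K, k ≠ 1 → sigmaCore M ⊓ centralizer ({k} : Set G) = sigmaCore M ⊓ centralizer (K : Set G))
    (hXK : X ≤ K) (hX1 : X ≠ ⊥) :
    sigmaCore M ⊓ centralizer (X : Set G) = sigmaCore M ⊓ centralizer (K : Set G) := by
  obtain ⟨x, hx1⟩ := (Subgroup.ne_bot_iff_exists_ne_one).mp hX1
  have hxX : (x : G) ∈ X := x.2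
  have hx1' : (x : G) ≠ 1 := fun h => hx1 (Subtype.ext h)
  apply le_antisymm
  · rw [← hpr x (hXK hxX) hx1']
    refine inf_le_inf_left _ (Subgroup.centralizer_le ?_)
    intro y hy
    rw [Set.mem_singleton_iff] at hy
    rw [hy]; exact hxX
  · exact inf_le_inf_left _ (Subgroup.centralizer_le (by exact_mod_cast hXK))

omit [Finite G] in
theorem ne_bot_of_card_prime {X : Subgroup G} (h : (Nat.card X).Prime) : X ≠ ⊥ := by
  rintro rfl
  rw [Subgroup.card_bot] at h
  exact Nat.not_prime_one h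

omit [Finite G] in
theorem le_normalizer_bot' (K : Subgroup G) : K ≤ normalizer (((⊥ : Subgroup G) : Subgroup G) : Set G) := by
  intro g _
  rw [Subgroup.mem_normalizer_iff]
  intro n
  simp only [Subgroup.mem_bot]
  constructor
  · rintro rfl; simp
  · intro h
    have : n = g⁻¹ * (g * n * g⁻¹) * g := by group
    rw [this, h]; simp

/-- **Structure part of B-G 14.2** from the cores. -/
theorem struct_of_cores (hG : IsMinSimpleOddOrder G) (h28 : H1428 G) (hF1 : F1 G) (hF2 : F2 G)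
    {M K : Subgroup G} (hM : IsCoatom M) (hK : IsPiHallOf (kappa M) K M) (hK1 : K ≠ ⊥) :
    Struct M K ∧
    ∀ (t : ℕ) (X X' : Subgroup G), X ≤ K → X' ≤ K → Nat.card X = t → Nat.card X' = t → t.Prime →
      X = X' := by
  have hU : Cfsg.Agent.Lib.Helper49_Sigma.UniqHyp G :=
    fun K hK h1 h3 => Cfsg.Agent.S1403.result hG K hK h1 h3
  have hHall := (Cfsg.Agent.Lib.Helper23_SigmaHall.sigma_statement hG hU M hM).1
  have hsolv : Group.IsSolvable ↥M := hG.2.2.2 M hM.1
  obtain ⟨E, hE, hKE⟩ := Cfsg.Agent.Lib.Helper76_BG13a.exists_compl_ge hsolv hHall hK.1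
    (fun q hq hd => (hK.2.1 q hq hd).2.2.1)
  by_cases hB : ∃ r ∈ tau3 M, ∃ R : Subgroup G, R ≤ E ∧ Nat.card R = r ∧
      sigmaCore M ⊓ centralizer (R : Set G) ≠ ⊥
  · -- Case B
    obtain ⟨hKeq, hpr, hbot, hnorm, huniq⟩ :=
      Cfsg.Agent.Lib.Helper97_BG142b.caseB_core hG hF2 hM hE hK hKE hB
    refine ⟨⟨hpr, ⟨⊥, ⟨⟨fun a b => Subsingleton.elim _ _⟩⟩, hbot, le_normalizer_bot' K,
      fun k _ _ => bot_inf_eq _⟩, ?_⟩, huniq⟩
    intro X hXK hXp
    have hX1 := ne_bot_of_card_prime hXp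
    have h1 := Cfsg.Agent.Lib.Helper53_BG142n.normalizer_in_M hG hM hE (hXK.trans hKE) (X := X)
    have h2 := Cfsg.Agent.Lib.Helper53_BG142n.normalizer_in_M hG hM hE hKE (X := K)
    rw [cent_eq_of_prime_action hpr hXK hX1, inf_eq_left.mpr (hnorm X hXK hXp)] at h1
    have hEN : E ≤ normalizer (K : Set G) := by
      rw [hKeq]; exact Subgroup.le_normalizer
    rw [inf_eq_left.mpr hEN] at h2
    rw [h1, h2, hKeq, sup_comm]
    exact ⟨rfl, rfl⟩
  · -- Case A
    obtain ⟨hKτ, hpr, ⟨U, hUE, hUc, hEU, hUH, hcompl, hreg⟩, hNE⟩ :=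
      Cfsg.Agent.Lib.Helper53_BG142a.caseA_core hG h28 hF1 hM hE hK hK1 hKE hB
    have hcyc := (Cfsg.Agent.Lib.Helper53_BG142a.hall_tau1 hG h28 hM hE hK hK1 hKE hB).2
    refine ⟨⟨hpr, ⟨U, hUc, hUH, hKE.trans hEU, hreg⟩, ?_⟩, ?_⟩
    · intro X hXK hXp
      have hX1 := ne_bot_of_card_prime hXp
      have h1 := Cfsg.Agent.Lib.Helper53_BG142n.normalizer_in_M hG hM hE (hXK.trans hKE) (X := X)
      have h2 := Cfsg.Agent.Lib.Helper53_BG142n.normalizer_in_M hG hM hE hKE (X := K)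
      rw [cent_eq_of_prime_action hpr hXK hX1, hNE X hXK hX1] at h1
      rw [hNE K le_rfl hK1] at h2
      rw [h1, h2, sup_comm]
      exact ⟨rfl, rfl⟩
    · intro t X X' hX hX' hc hc' _
      exact Cfsg.Agent.Lib.Helper79_BG142.eq_of_le_isCyclic_of_card_eq hcyc hX hX' (hc.trans hc'.symm)

end Cfsg.Agent.Lib.Helper23_BG142Struct
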