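import Mathlib
import Cfsg.Prelude.Def_Characters
import Cfsg.Prelude.Def_Blocks
import Cfsg.Agent.Lib.Helper80_CharBasic
import Cfsg.Agent.Lib.Helper3_CharComplete
import Cfsg.Agent.Lib.Helper16_B43Defs
import Cfsg.Agent.Lib.Helper77_BRDefs

/-!
# Brauer-Tuan (S0997), tensor step: shared definitions (helper23)

`P` a self-centralizing Sylow `p`-subgroup of order `p = 2 e + 1` with `|N_G(P) : P| = e` even
(so `t = 2`), `D : PBData P` the principal block with `ε = -1` and the two exceptional characters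
`θ₁ θ₂` of degree `e + 1 = (p + 1)/2`; every nontrivial member of `X` has even degree.

* `TSet P D e θ₁ θ₂` : these standing hypotheses.
* `TData ι κ` : the abstract arithmetic data extracted from the three products `θ₁²`, `θ₁ θ₂`,
  `θ₂²` (multiplicities `M11 M12 M22`), the multiplicities `m1 ζ = ⟨ζ|_P, 1_P⟩` and the
  multiplicities `c i ζ` of the linear characters of `N_G(P)/P`.
-/

set_option autoImplicit false

namespace Cfsg.Agent.Lib.Helper23_BTDefs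

open Cfsg Cfsg.Agent.Lib.Helper80_CharBasic Cfsg.Agent.Lib.Helper77_BRDefs

universe u

/-- Standing hypotheses of the tensor step. -/
structure TSet {G : Type u} [Group G] [Fintype G] {p : ℕ} (P : Sylow p G) (D : PBData P) (e : ℕ)
    (θ₁ θ₂ : IrrCharacter G) : Prop where
  hP : Nat.card P = p
  hC : ∀ c ∈ Cen P, c ∈ (P : Subgroup G)
  he : qq P = e
  hpe : p = 2 * e + 1
  heven : Even e
  he2 : 2 ≤ e
  hε : D.ε = -1
  hY : D.Y = {θ₁, θ₂}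
  hne : θ₁ ≠ θ₂
  hdeg₁ : charDegree (θ₁ : G → ℂ) = e + 1
  hdeg₂ : charDegree (θ₂ : G → ℂ) = e + 1
  hpar : ∀ χ ∈ D.X, χ ≠ oneIrr G → Even (charDegree (χ : G → ℂ))
  hnolin : ∀ χ : IrrCharacter G, χ ≠ oneIrr G → 2 ≤ charDegree (χ : G → ℂ)

/-- The abstract arithmetic data of the tensor step (`ι` indexes the irreducible characters,
`κ` the linear characters of `N_G(P)/P`). -/
structure TData (ι : Type*) (κ : Type*) [Fintype ι] [Fintype κ] [DecidableEq ι] [DecidableEq κ]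
    (p e : ℕ) where
  X : Finset ι
  one : ι
  th1 : ι
  th2 : ι
  κone : κ
  εX : ι → ℤ
  deg : ι → ℕ
  m1 : ι → ℕ
  c : κ → ι → ℕ
  M11 : ι → ℕ
  M12 : ι → ℕ
  M22 : ι → ℕ
  hpe : p = 2 * e + 1
  heven : Even e
  he2 : 2 ≤ e
  hXcard : X.card = e
  hone : one ∈ X
  hth1 : th1 ∉ X
  hth2 : th2 ∉ X
  hne : th1 ≠ th2
  hε : ∀ χ ∈ X, εX χ = 1 ∨ εX χ = -1
  hεone : εX one = 1
  hdegone : deg one = 1
  hdegX : ∀ χ ∈ X, (deg χ : ℤ) = p * m1 χ - (p - 1) * εX χ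
  hpar : ∀ χ ∈ X, χ ≠ one → Even (deg χ)
  hnolin : ∀ χ, χ ≠ one → 2 ≤ deg χ
  hm1th1 : m1 th1 = 1
  hm1th2 : m1 th2 = 1
  hout : ∀ ζ, ζ ∉ X → ζ ≠ th1 → ζ ≠ th2 → deg ζ = p * m1 ζ
  -- the product `θ₁ θ₁`
  hA11 : ∑ ζ, M11 ζ * m1 ζ = e + 1
  hL11 : 2 * (∑ χ ∈ X, (M11 χ : ℤ) * εX χ + M11 th2) = e
  hS11 : M11 th1 = M11 th2 + 1
  h11one : M11 one = 1
  -- the product `θ₂ θ₂`
  hA22 : ∑ ζ, M22 ζ * m1 ζ = e + 1
  hL22 : 2 * (∑ χ ∈ X, (M22 χ : ℤ) * εX χ + M22 th1) = e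
  hS22 : M22 th2 = M22 th1 + 1
  h22one : M22 one = 1
  -- the product `θ₁ θ₂`
  hA12 : ∑ ζ, M12 ζ * m1 ζ = 1
  hL12 : 2 * (∑ χ ∈ X, (M12 χ : ℤ) * εX χ + M12 th2) = -(e : ℤ)
  hS12 : M12 th1 = M12 th2
  h12one : M12 one = 0
  -- reality
  hsym1 : M11 th2 = M12 th1
  hsym2 : M22 th1 = M12 th2
  hnorm : ∑ ζ, M11 ζ * M22 ζ = ∑ ζ, M12 ζ ^ 2
  -- the linear characters of `N_G(P)/P`
  hcsum : ∀ ζ, ∑ i, c i ζ = m1 ζ
  hcone : c κone one = 1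
  hc11 : ∀ i, ∑ ζ, M11 ζ * c i ζ = if i = κone then 2 else 1
  hc22 : ∀ i, ∑ ζ, M22 ζ * c i ζ = if i = κone then 2 else 1

end Cfsg.Agent.Lib.Helper23_BTDefs
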