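import Mathlib
import Cfsg.Prelude.Def_Characters
import Cfsg.Prelude.Def_Blocks
import Cfsg.Agent.Lib.Helper16_B43Defs
import Cfsg.Agent.Lib.Helper32_BF_OUT

/-!
# Brauer-Tuan (S0997), tensor step: utilities on `pavg` (helper23)
-/

set_option autoImplicit false

namespace Cfsg.Agent.Lib.Helper23_BT_Util

open Cfsg Cfsg.Agent.Lib.Helper16_B43Defs

universe u

variable {G : Type u} [Group G] [Fintype G] {p : ℕ}

open scoped Classical in
/-- The nonidentity elements of `P`, as a finset. -/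
noncomputable def Ps (P : Sylow p G) : Finset G :=
  Finset.univ.filter (fun x : G => x ∈ (P : Subgroup G) ∧ x ≠ 1)

theorem mem_Ps {P : Sylow p G} {x : G} : x ∈ Ps P ↔ x ∈ (P : Subgroup G) ∧ x ≠ 1 := by
  classical
  unfold Ps
  simp

/-- `|P| pavg P f = f 1 + ∑_{P#} f`. -/
theorem pavg_split [Fact p.Prime] (P : Sylow p G) (hP : Nat.card P = p) (f : G → ℂ) :
    (p : ℂ) * pavg P f = f 1 + ∑ x ∈ Ps P, f x := by
  classical
  have h1 := Cfsg.Agent.Lib.Helper32_BF_OUT.sum_eq_card_mul_pavg P f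
  have h2 := Cfsg.Agent.Lib.Helper32_BF_OUT.sum_split_one P f
  rw [hP] at h1
  rw [← h1]
  unfold Ps
  rw [Finset.sum_filter]
  convert h2 using 3

theorem pavg_add (P : Sylow p G) (f g : G → ℂ) :
    pavg P (fun x => f x + g x) = pavg P f + pavg P g := by
  classical
  unfold pavg
  rw [finsum_eq_sum_of_fintype, finsum_eq_sum_of_fintype, finsum_eq_sum_of_fintype,
    Finset.sum_add_distrib, mul_add]

theorem pavg_smul (P : Sylow p G) (c : ℂ) (f : G → ℂ) :
    pavg P (fun x => c * f x) = c * pavg P f := by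
  classical
  unfold pavg
  rw [finsum_eq_sum_of_fintype, finsum_eq_sum_of_fintype, ← Finset.mul_sum]
  ring

theorem pavg_sum {ι : Type*} (P : Sylow p G) (s : Finset ι) (c : ι → ℂ) (F : ι → G → ℂ) :
    pavg P (fun x => ∑ i ∈ s, c i * F i x) = ∑ i ∈ s, c i * pavg P (F i) := by
  classical
  unfold pavg
  rw [finsum_eq_sum_of_fintype, Finset.sum_comm, Finset.mul_sum]
  apply Finset.sum_congr rfl
  intro i _
  rw [finsum_eq_sum_of_fintype, ← Finset.mul_sum]
  ring

omit [Fintype G] in
theorem pavg_congr (P : Sylow p G) (f g : G → ℂ) (h : ∀ x ∈ (P : Subgroup G), f x = g x) :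
    pavg P f = pavg P g := by
  unfold pavg
  congr 1
  apply finsum_congr
  intro x
  exact h x x.2

theorem pavg_const_one (P : Sylow p G) : pavg P (fun _ => (1 : ℂ)) = 1 := by
  classical
  unfold pavg
  rw [finsum_eq_sum_of_fintype, Finset.sum_const, Finset.card_univ, Nat.card_eq_fintype_card]
  have : (Fintype.card ↥(P : Subgroup G) : ℂ) ≠ 0 := by
    have : 0 < Fintype.card ↥(P : Subgroup G) := Fintype.card_pos
    exact_mod_cast this.ne'
  simp only [nsmul_eq_mul, mul_one]
  exact inv_mul_cancel₀ this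

/-- `|P#| = p - 1`. -/
theorem sum_Ps_one [Fact p.Prime] (P : Sylow p G) (hP : Nat.card P = p) :
    ∑ _x ∈ Ps P, (1 : ℂ) = (p : ℂ) - 1 := by
  have h := pavg_split P hP (fun _ => (1 : ℂ))
  rw [pavg_const_one] at h
  linear_combination -h

end Cfsg.Agent.Lib.Helper23_BT_Util
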