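import Mathlib

set_option autoImplicit false

/-!
S0997R-2CENT (helper23's Brauer-Tuan market): a group of even order has a 2-central involution.
-/

namespace Cfsg.Agent.Lib.Helper42_BTR_2CENT

universe u

variable {G : Type u} [Group G] [Fintype G] {p : ℕ} [hp : Fact p.Prime]

theorem exists_two_central (h2 : 2 ∣ Nat.card G) :
    ∃ z : G, orderOf z = 2 ∧ ∃ S : Sylow 2 G, (S : Subgroup G) ≤ Subgroup.centralizer ({z} : Set G) := by
  have : Fact (Nat.Prime 2) := ⟨Nat.prime_two⟩
  obtain ⟨x, hx⟩ := exists_prime_orderOf_dvd_card' 2 h2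
  have hxp : IsPGroup 2 (Subgroup.zpowers x) := by
    rw [IsPGroup.iff_card]
    exact ⟨1, by rw [Nat.card_zpowers, hx, pow_one]⟩
  obtain ⟨S, hS⟩ := hxp.exists_le_sylow
  have hxS : x ∈ (S : Subgroup G) := hS (Subgroup.mem_zpowers x)
  have hx1 : x ≠ 1 := by
    intro h
    rw [h, orderOf_one] at hx
    omega
  have : Nontrivial (S : Subgroup G) := ⟨⟨⟨x, hxS⟩, 1, fun h => hx1 (by simpa using congrArg Subtype.val h)⟩⟩
  have : Nontrivial (Subgroup.center (S : Subgroup G)) := S.2.center_nontrivial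
  have hZp : IsPGroup 2 (Subgroup.center (S : Subgroup G)) := S.2.to_subgroup _
  obtain ⟨k, hk⟩ := (IsPGroup.iff_card.mp hZp)
  have hk0 : k ≠ 0 := by
    rintro rfl
    rw [pow_zero] at hk
    have := Finite.one_lt_card (α := Subgroup.center (S : Subgroup G))
    omega
  have hdvd : 2 ∣ Nat.card (Subgroup.center (S : Subgroup G)) := by
    rw [hk]; exact dvd_pow_self 2 hk0
  obtain ⟨z, hz⟩ := exists_prime_orderOf_dvd_card' 2 hdvd
  refine ⟨((z : (S : Subgroup G)) : G), ?_, S, ?_⟩
  · rw [Subgroup.orderOf_coe, Subgroup.orderOf_coe]; exact hz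
  · intro s hs
    rw [Subgroup.mem_centralizer_iff]
    intro y hy
    rw [Set.mem_singleton_iff] at hy
    subst hy
    have hzc := Subgroup.mem_center_iff.mp z.2 ⟨s, hs⟩
    have := congrArg Subtype.val hzc
    simpa using this.symm
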