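import Mathlib
import Cfsg.Prelude.Def_Characters
import Cfsg.Prelude.Def_Blocks
import Cfsg.Agent.Lib.Helper3_CharComplete
import Cfsg.Agent.Lib.Helper3_CharBurnside
import Cfsg.Agent.Lib.Helper80_CharBasic
import Cfsg.Agent.Lib.Helper16_B43Defs
import Cfsg.Agent.Lib.Helper77_BRDefs
import Cfsg.Agent.Lib.Helper62_InvCount_Defs

/-!
# S0997R package BURN (helper43 for helper23): Burnside vanishing.
A non-principal irreducible character of 2-power degree of a non-abelian simple group vanishes at every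
non-identity element with odd class size.
-/

set_option autoImplicit false

namespace Cfsg.Agent.Lib.Helper43_BTR_BURN

open Cfsg Cfsg.Agent.Lib.Helper80_CharBasic Cfsg.Agent.Lib.Helper3_CharComplete
  Cfsg.Agent.Lib.Helper16_B43Defs Cfsg.Agent.Lib.Helper77_BRDefs Cfsg.Agent.Lib.Helper62_InvCount_Defs
open scoped ComplexConjugate

universe u

variable {G : Type u} [Group G] [Fintype G] {p : ℕ} [hp : Fact p.Prime]

theorem burnside_vanish [IsSimpleGroup G] (hnc : ¬ IsCyclic G) (χ : IrrCharacter G)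
    (hχ : χ ≠ oneIrr G) (k : ℕ) (hdeg : charDegree (χ : G → ℂ) = 2 ^ k) (z : G) (hz : z ≠ 1)
    (hodd : Odd (Subgroup.centralizer ({z} : Set G)).index) : (χ : G → ℂ) z = 0 := by
  classical
  have hcomm : ¬ ∀ a b : G, a * b = b * a := by
    intro h
    apply hnc
    let _ : CommGroup G := { (inferInstance : Group G) with mul_comm := h }
    infer_instance
  obtain ⟨n, ρ, hirr, hρ⟩ := χ.2
  have := hirr
  have hd1 : (χ : G → ℂ) 1 = (Module.finrank ℂ (Fin n → ℂ) : ℂ) := by
    rw [← hρ, Representation.char_one]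
  have hfr : Module.finrank ℂ (Fin n → ℂ) = 2 ^ k := by
    have h1 : ((charDegree (χ : G → ℂ) : ℕ) : ℂ) = (χ : G → ℂ) 1 := by
      obtain ⟨m, -, hm⟩ := Cfsg.Agent.Lib.Helper80_CharBasic.irr_apply_one χ
      unfold charDegree
      rw [hm]
      simp
    rw [hdeg, hd1] at h1
    exact_mod_cast h1.symm
  have hcop : Nat.Coprime (Module.finrank ℂ (Fin n → ℂ))
      (Subgroup.centralizer ({z} : Set G)).index := by
    rw [hfr]
    apply Nat.Coprime.pow_left
    refine (Nat.Prime.coprime_iff_not_dvd Nat.prime_two).mpr (fun h2 => ?_)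
    rcases hodd with ⟨m, hm⟩
    omega
  rcases Cfsg.Agent.Lib.Helper3_CharBurnside.char_eq_zero_or_norm_eq_of_coprime ρ z hcop with h0 | h1
  · rw [← hρ, h0]
  · exfalso
    refine Cfsg.Agent.Lib.Helper3_CharBurnside.not_scalar_of_simple_nonabelian hcomm ρ ?_ z hz
      ((Cfsg.Agent.Lib.Helper3_CharEigen.norm_char_eq_iff ρ z).mp h1)
    intro h
    apply hχ
    apply Subtype.ext
    rw [← hρ, h]
    rfl

end Cfsg.Agent.Lib.Helper43_BTR_BURN
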