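import Mathlib

/-!
# S0997 (Brauer-Tuan), package ENDARITH: the final arithmetic
-/

set_option autoImplicit false

namespace Cfsg.Agent.Lib.Helper54_BTR_ENDARITH

/-- an odd divisor of a power of two is one -/
theorem eq_one_of_odd_dvd_two_pow {k β : ℕ} (hk : Odd k) (h : k ∣ 2 ^ β) : k = 1 := by
  obtain ⟨j, _, rfl⟩ := (Nat.dvd_prime_pow Nat.prime_two).1 h
  rcases Nat.eq_zero_or_pos j with rfl | hj
  · rfl
  · exfalso
    have : Even (2 ^ j) := (Nat.even_pow.2 ⟨even_two, by omega⟩)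
    exact (Nat.not_even_iff_odd.2 hk) this

theorem end_arith (p e b β c k' nplus : ℕ) (hp5 : 5 ≤ p) (hpβ : p - 1 = 2 ^ β) (he2 : 2 ≤ e)
    (heven : Even e) (hle : 2 * e ≤ p - 1) (hcase : e = 2 ∨ p = 2 * e + 1)
    (h2b : 2 ^ b ∣ c) (hc : c ∣ p * 2 ^ b * (p - e)) (hed : e ∣ 2 ^ b * (p - e))
    (hn : 2 * nplus + 2 = e) (hk' : k' ≤ nplus)
    (hmain : c ^ 2 * (p + 1) = 2 ^ b * ((p - e + 1) * (p + 1) + 4 * (p - e) * k')) :
    2 ^ b = p - 1 := by
  obtain ⟨k, rfl⟩ := h2b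
  have h2pos : 0 < 2 ^ b := by positivity
  -- cancel `2 ^ b` in the main identity
  have hm : 2 ^ b * k ^ 2 * (p + 1) = (p - e + 1) * (p + 1) + 4 * (p - e) * k' := by
    have : 2 ^ b * (2 ^ b * k ^ 2 * (p + 1)) =
        2 ^ b * ((p - e + 1) * (p + 1) + 4 * (p - e) * k') := by
      rw [← hmain]; ring
    exact Nat.eq_of_mul_eq_mul_left h2pos this
  -- `p` is odd
  have hβ2 : 2 ≤ β := by
    by_contra h
    have : β = 0 ∨ β = 1 := by omega
    rcases this with rfl | rfl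
    · simp at hpβ; omega
    · simp at hpβ; omega
  have hpodd : Odd p := by
    obtain ⟨β', rfl⟩ : ∃ β', β = β' + 1 := ⟨β - 1, by omega⟩
    rw [pow_succ] at hpβ
    exact ⟨2 ^ β', by omega⟩
  -- `p - e` is odd
  have hpe : Odd (p - e) := by
    obtain ⟨a, ha⟩ := hpodd
    obtain ⟨r, hr⟩ := heven
    exact ⟨a - r, by omega⟩
  -- `k` is odd
  have hkodd : Odd k := by
    have h1 : 2 ^ b * k ∣ 2 ^ b * (p * (p - e)) := by
      have : p * 2 ^ b * (p - e) = 2 ^ b * (p * (p - e)) := by ring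
      rw [← this]; exact hc
    have h2 : k ∣ p * (p - e) := Nat.dvd_of_mul_dvd_mul_left h2pos h1
    exact Odd.of_dvd_nat (hpodd.mul hpe) h2
  rcases hcase with rfl | rfl
  · -- `e = 2`
    have hn0 : nplus = 0 := by omega
    have hk0 : k' = 0 := by omega
    rw [hk0, mul_zero, add_zero] at hm
    have h1 : p - 2 + 1 = p - 1 := by omega
    rw [h1] at hm
    have h2 : 2 ^ b * k ^ 2 = p - 1 := Nat.eq_of_mul_eq_mul_right (by omega) hm
    have hk1 : k = 1 := by
      apply eq_one_of_odd_dvd_two_pow hkodd (β := β)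
      rw [← hpβ, ← h2]
      exact Dvd.dvd.mul_left (dvd_pow_self k two_ne_zero) _
    rw [hk1, one_pow, mul_one] at h2
    exact h2
  · -- `p = 2 e + 1`
    have h1 : 2 * e + 1 - e = e + 1 := by omega
    rw [h1] at hm hed
    have h3 : 2 ^ b * k ^ 2 = e + 2 + 2 * k' := by
      have : (2 ^ b * k ^ 2) * (2 * (e + 1)) = (e + 2 + 2 * k') * (2 * (e + 1)) := by
        have e1 : 2 ^ b * k ^ 2 * (2 * e + 1 + 1) = (2 ^ b * k ^ 2) * (2 * (e + 1)) := by ring
        have e2 : (e + 1 + 1) * (2 * e + 1 + 1) + 4 * (e + 1) * k' =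
            (e + 2 + 2 * k') * (2 * (e + 1)) := by ring
        rw [← e1, ← e2]
        exact hm
      exact Nat.eq_of_mul_eq_mul_right (by omega) this
    have h4 : e ∣ 2 ^ b := by
      have hcop : Nat.Coprime e (e + 1) := by
        rw [Nat.coprime_self_add_right]
        exact Nat.coprime_one_right e
      exact hcop.dvd_of_dvd_mul_right hed
    have h5 : e ∣ 2 ^ b * k ^ 2 := Dvd.dvd.mul_right h4 _
    obtain ⟨j, hj⟩ := h5
    have hj2 : j = 2 := by
      rw [hj] at h3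
      have hlo : e * 1 < e * j := by nlinarith
      have hhi : e * j < e * 3 := by nlinarith
      have h6 : 1 < j := Nat.lt_of_mul_lt_mul_left hlo
      have h7 : j < 3 := Nat.lt_of_mul_lt_mul_left hhi
      omega
    rw [hj2] at hj
    have h8 : 2 * e + 1 - 1 = 2 * e := by omega
    rw [h8] at hpβ ⊢
    have hk1 : k = 1 := by
      apply eq_one_of_odd_dvd_two_pow hkodd (β := β)
      rw [← hpβ, mul_comm 2 e, ← hj]
      exact Dvd.dvd.mul_left (dvd_pow_self k two_ne_zero) _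
    rw [hk1, one_pow, mul_one] at hj
    rw [hj, mul_comm]

end Cfsg.Agent.Lib.Helper54_BTR_ENDARITH
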