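import Cfsg.Agent.Lib.Helper77_BRDefs

/-!
# Brauer-Reynolds package FROBN (helper68): `N_G(P) = P ⋊ Q` is a Frobenius group with cyclic
complement, when `|P| = p` and `C_G(P) = P`.
-/

set_option autoImplicit false

namespace Cfsg.Agent.Lib.Helper68_BR_FROBN

open Cfsg Cfsg.Agent.Lib.Helper80_CharBasic Cfsg.Agent.Lib.Helper77_BRDefs
open scoped ComplexConjugate

universe u

variable {G : Type u} [Group G] [Fintype G] {p : ℕ} [hp : Fact p.Prime]

/-- Elements of a subgroup of prime order commute. -/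
theorem comm_of_card_prime (P : Sylow p G) (hP : Nat.card P = p) {x y : G}
    (hx : x ∈ (P : Subgroup G)) (hy : y ∈ (P : Subgroup G)) : x * y = y * x := by
  haveI : IsCyclic (P : Subgroup G) := isCyclic_of_prime_card hP
  have := IsCyclic.commGroup.mul_comm (⟨x, hx⟩ : (P : Subgroup G)) ⟨y, hy⟩
  exact congrArg Subtype.val this

/-- An element commuting with a nontrivial element of `P` centralizes `P`. -/
theorem mem_cen_of_comm (P : Sylow p G) (hP : Nat.card P = p) {w s : G}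
    (hw : w ∈ (P : Subgroup G)) (hw1 : w ≠ 1) (hc : s * w = w * s) : s ∈ Cen P := by
  rw [Subgroup.mem_centralizer_iff]
  intro y hy
  have hw1' : (⟨w, hw⟩ : (P : Subgroup G)) ≠ 1 := by
    intro h
    exact hw1 (congrArg Subtype.val h)
  have hmem : (⟨y, hy⟩ : (P : Subgroup G)) ∈ Subgroup.zpowers (⟨w, hw⟩ : (P : Subgroup G)) :=
    mem_zpowers_of_prime_card hP hw1'
  obtain ⟨k, hk⟩ := Subgroup.mem_zpowers_iff.mp hmem
  have hy' : y = w ^ k := by
    have := congrArg Subtype.val hk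
    simpa using this.symm
  rw [hy']
  have hcomm : Commute s w := hc
  exact ((hcomm.zpow_right k).eq).symm


theorem FROBN (P : Sylow p G) (hP : Nat.card P = p)
    (hC : ∀ c ∈ Cen P, c ∈ (P : Subgroup G)) (hq2 : 2 ≤ qq P) :
    ∃ Q : Subgroup G, Q ≤ Nrm P ∧ Q ⊓ (P : Subgroup G) = ⊥ ∧ Nat.card Q = qq P ∧ IsCyclic Q ∧
      Nat.card (Nrm P) = p * qq P ∧
      (∀ x ∈ Nrm P, ¬ p ∣ orderOf x → ∃ z ∈ (P : Subgroup G), z * x * z⁻¹ ∈ Q) ∧
      (∀ x ∈ Nrm P, x ∉ (P : Subgroup G) → ¬ p ∣ orderOf x) ∧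
      ∀ z ∈ (P : Subgroup G), ∀ σ ∈ Q, σ ≠ 1 → z * σ * z⁻¹ ∈ Q → z = 1 := by
  classical
  have hpp : p.Prime := hp.out
  have hPC : (P : Subgroup G) ≤ Cen P := by
    intro x hx
    rw [Subgroup.mem_centralizer_iff]
    intro y hy
    exact comm_of_card_prime P hP hy hx
  have hCP : Cen P = (P : Subgroup G) := le_antisymm (fun c hc => hC c hc) hPC
  have hPN : (P : Subgroup G) ≤ Nrm P := Subgroup.le_normalizer
  have hq : qq P = (P : Subgroup G).relIndex (Nrm P) := by
    unfold qq; rw [hCP]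
  -- the normal subgroup `P'` of `N`
  set P' : Subgroup ↥(Nrm P) := (P : Subgroup G).subgroupOf (Nrm P) with hP'
  haveI hnorm : P'.Normal := Subgroup.normal_in_normalizer
  have hidx : P'.index = qq P := by rw [hq]; rfl
  have hcardP' : Nat.card P' = p := by
    exact (Nat.card_congr (Subgroup.subgroupOfEquivOfLe hPN).toEquiv).trans hP
  have hNcard : Nat.card (Nrm P) = p * qq P := by
    have := Subgroup.card_mul_index P'
    rw [hcardP', hidx] at this
    exact this.symm
  -- p does not divide q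
  have hpq : ¬ p ∣ qq P := by
    intro h
    have h1 : qq P ∣ (P : Subgroup G).index := by
      rw [hq]; exact Subgroup.relIndex_dvd_index_of_le hPN
    exact P.not_dvd_index (h.trans h1)
  have hcop : Nat.Coprime (Nat.card P') P'.index := by
    rw [hcardP', hidx]
    exact (Nat.Prime.coprime_iff_not_dvd hpp).mpr hpq
  obtain ⟨H, hH⟩ := Subgroup.exists_right_complement'_of_coprime hcop
  have hdisj : ∀ x : ↥(Nrm P), x ∈ P' → x ∈ H → x = 1 := fun x hx1 hx2 =>
    Subgroup.disjoint_def.mp hH.disjoint hx1 hx2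
  have hHcard : Nat.card H = qq P := by
    rw [← hidx]; exact hH.symm.index_eq_card.symm
  -- H is cyclic
  have hHcyc : IsCyclic H := by
    haveI : IsCyclic (P : Subgroup G) := isCyclic_of_prime_card hP
    haveI : Fact (Nat.card (P : Subgroup G)).Prime := ⟨by rw [hP]; exact hpp⟩
    haveI : IsCyclic (MulAut (P : Subgroup G)) :=
      isCyclic_of_injective (IsCyclic.mulAutMulEquiv (G := (P : Subgroup G))).toMonoidHom
        (IsCyclic.mulAutMulEquiv (G := (P : Subgroup G))).injective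
    let f : H →* MulAut (P : Subgroup G) :=
      ((P : Subgroup G).normalizerMonoidHom).comp H.subtype
    apply isCyclic_of_injective f
    rw [injective_iff_map_eq_one]
    intro x hx
    have hx' : (x : ↥(Nrm P)) ∈ ((P : Subgroup G).normalizerMonoidHom).ker := hx
    rw [Subgroup.normalizerMonoidHom_ker] at hx'
    have hx'' : (x : ↥(Nrm P)) ∈ P' := by
      rw [hP', Subgroup.mem_subgroupOf]
      rw [Subgroup.mem_subgroupOf] at hx'
      exact hC _ hx'
    exact Subtype.ext (hdisj _ hx'' x.2)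
  -- the complement in `G`
  have hinj : Function.Injective (Nrm P).subtype := Subgroup.subtype_injective _
  have hQmem : ∀ x : G, x ∈ H.map (Nrm P).subtype ↔ ∃ h : x ∈ Nrm P, (⟨x, h⟩ : ↥(Nrm P)) ∈ H := by
    intro x
    constructor
    · rintro ⟨y, hy, rfl⟩
      exact ⟨y.2, hy⟩
    · rintro ⟨h, hx⟩
      exact ⟨⟨x, h⟩, hx, rfl⟩
  have hQP : ∀ x : G, x ∈ H.map (Nrm P).subtype → x ∈ (P : Subgroup G) → x = 1 := by
    intro x hxQ hxP
    obtain ⟨h, hx⟩ := (hQmem x).mp hxQ
    have h1 : (⟨x, h⟩ : ↥(Nrm P)) ∈ P' := by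
      rw [hP', Subgroup.mem_subgroupOf]; exact hxP
    exact congrArg Subtype.val (hdisj _ h1 hx)
  -- normalizing
  have hnormP : ∀ s ∈ Nrm P, ∀ z ∈ (P : Subgroup G), s * z * s⁻¹ ∈ (P : Subgroup G) := by
    intro s hs z hz
    exact (Subgroup.mem_normalizer_iff.mp hs z).mp hz
  -- an element of `Q` commuting with a nontrivial element of `P` is trivial
  have hfree : ∀ s ∈ H.map (Nrm P).subtype, ∀ w ∈ (P : Subgroup G), w ≠ 1 → s * w = w * s →
      s = 1 := by
    intro s hs w hw hw1 hc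
    exact hQP s hs (hC s (mem_cen_of_comm P hP hw hw1 hc))
  refine ⟨H.map (Nrm P).subtype, Subgroup.map_subtype_le H, ?_, ?_, ?_, hNcard, ?_, ?_, ?_⟩
  · rw [eq_bot_iff]
    intro x hx
    rw [Subgroup.mem_inf] at hx
    rw [Subgroup.mem_bot]
    exact hQP x hx.1 hx.2
  · rw [Subgroup.card_map_of_injective hinj]; exact hHcard
  · exact (Subgroup.equivMapOfInjective H _ hinj).isCyclic.mp hHcyc
  · -- conjugacy of `p'`-elements into `Q`
    intro x hx hxo
    obtain ⟨⟨a, b⟩, hab⟩ := hH.2 (⟨x, hx⟩ : ↥(Nrm P))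
    have hab' : ((a : ↥(Nrm P)) : G) * ((b : ↥(Nrm P)) : G) = x := congrArg Subtype.val hab
    have haP : ((a : ↥(Nrm P)) : G) ∈ (P : Subgroup G) := by
      have h0 : (a : ↥(Nrm P)) ∈ (P : Subgroup G).subgroupOf (Nrm P) := a.2
      exact Subgroup.mem_subgroupOf.mp h0
    have hbQ : ((b : ↥(Nrm P)) : G) ∈ H.map (Nrm P).subtype :=
      (hQmem _).mpr ⟨(b : ↥(Nrm P)).2, b.2⟩
    set z0 : G := ((a : ↥(Nrm P)) : G) with hz0
    set σ : G := ((b : ↥(Nrm P)) : G) with hσ
    have hσN : σ ∈ Nrm P := (b : ↥(Nrm P)).2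
    by_cases hσ1 : σ = 1
    · -- then `x ∈ P` has order prime to `p`, so `x = 1`
      have hxP : x ∈ (P : Subgroup G) := by rw [← hab', hσ1, mul_one]; exact haP
      have hdvd : orderOf x ∣ p := by
        have := Subgroup.orderOf_dvd_natCard (P : Subgroup G) hxP
        rwa [hP] at this
      have hx1 : x = 1 := by
        rcases (Nat.dvd_prime hpp).mp hdvd with h | h
        · exact orderOf_eq_one_iff.mp h
        · exact absurd (h ▸ dvd_rfl) hxo
      refine ⟨1, one_mem _, ?_⟩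
      rw [hx1]; simp
    · -- the map `z ↦ z⁻¹ σ z σ⁻¹` is a bijection of `P`
      let φ : ↥(P : Subgroup G) → ↥(P : Subgroup G) := fun z =>
        ⟨(z : G)⁻¹ * (σ * (z : G) * σ⁻¹), mul_mem (inv_mem z.2) (hnormP σ hσN _ z.2)⟩
      have hφinj : Function.Injective φ := by
        intro z z' hzz
        have h1 : (z : G)⁻¹ * (σ * (z : G) * σ⁻¹) = (z' : G)⁻¹ * (σ * (z' : G) * σ⁻¹) :=
          congrArg Subtype.val hzz
        by_contra hne
        have hw : (z' : G) * (z : G)⁻¹ ∈ (P : Subgroup G) := mul_mem z'.2 (inv_mem z.2)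
        have hw1 : (z' : G) * (z : G)⁻¹ ≠ 1 := by
          intro h
          apply hne
          apply Subtype.ext
          exact (mul_inv_eq_one.mp h).symm
        have hc : σ * ((z' : G) * (z : G)⁻¹) = ((z' : G) * (z : G)⁻¹) * σ := by
          have hcomm := comm_of_card_prime P hP z'.2 (hnormP σ hσN _ z.2)
          have hcomm2 := comm_of_card_prime P hP z'.2 (inv_mem z.2)
          -- from h1: z' z⁻¹ σ z σ⁻¹ = σ z' σ⁻¹
          have h2 : (z' : G) * (z : G)⁻¹ * (σ * (z : G) * σ⁻¹) = σ * (z' : G) * σ⁻¹ := by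
            rw [mul_assoc, h1]; group
          -- σ (z' z⁻¹) σ⁻¹ = (σ z' σ⁻¹)(σ z σ⁻¹)⁻¹ = z' z⁻¹
          have h3 : σ * ((z' : G) * (z : G)⁻¹) * σ⁻¹ = (z' : G) * (z : G)⁻¹ := by
            have : σ * ((z' : G) * (z : G)⁻¹) * σ⁻¹ =
                (σ * (z' : G) * σ⁻¹) * (σ * (z : G) * σ⁻¹)⁻¹ := by group
            rw [this, ← h2]; group
          calc σ * ((z' : G) * (z : G)⁻¹) = (σ * ((z' : G) * (z : G)⁻¹) * σ⁻¹) * σ := by group
            _ = ((z' : G) * (z : G)⁻¹) * σ := by rw [h3]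
        exact hσ1 (hfree σ hbQ _ hw hw1 hc)
      have hφsurj : Function.Surjective φ := Finite.injective_iff_surjective.mp hφinj
      obtain ⟨z, hz⟩ := hφsurj ⟨z0, haP⟩
      have hz' : (z : G)⁻¹ * (σ * (z : G) * σ⁻¹) = z0 := congrArg Subtype.val hz
      refine ⟨(z : G), z.2, ?_⟩
      have : (z : G) * x * (z : G)⁻¹ = σ := by
        rw [← hab', ← hz']; group
      rw [this]; exact hbQ
  · -- elements outside `P` are `p`-regular
    intro x hx hxP hdvd
    have h1 : (⟨x, hx⟩ : ↥(Nrm P)) ^ P'.index ∈ P' := Subgroup.pow_index_mem P' _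
    rw [hidx, hP', Subgroup.mem_subgroupOf] at h1
    have h2 : x ^ qq P ∈ (P : Subgroup G) := by simpa using h1
    by_cases h3 : x ^ qq P = 1
    · have : orderOf x ∣ qq P := orderOf_dvd_of_pow_eq_one h3
      exact hpq (hdvd.trans this)
    · have hc : x * x ^ qq P = x ^ qq P * x := by
        rw [← pow_succ', ← pow_succ]
      exact hxP (hC x (mem_cen_of_comm P hP h2 h3 hc))
  · -- the action is free
    intro z hz σ hσ hσ1 hzσ
    by_contra hz1
    have hσN : σ ∈ Nrm P := Subgroup.map_subtype_le H hσ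
    have hc1 : z * σ * z⁻¹ * σ⁻¹ ∈ H.map (Nrm P).subtype := mul_mem hzσ (inv_mem hσ)
    have hc2 : z * σ * z⁻¹ * σ⁻¹ ∈ (P : Subgroup G) := by
      have : z * σ * z⁻¹ * σ⁻¹ = z * (σ * z⁻¹ * σ⁻¹) := by group
      rw [this]
      exact mul_mem hz (hnormP σ hσN _ (inv_mem hz))
    have hc3 := hQP _ hc1 hc2
    have hc : σ * z = z * σ := by
      have : z * σ = (z * σ * z⁻¹ * σ⁻¹) * (σ * z) := by group
      rw [this, hc3, one_mul]
    exact hσ1 (hfree σ hσ z hz hz1 hc)

end Cfsg.Agent.Lib.Helper68_BR_FROBN
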