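import Mathlib
import Cfsg.Prelude.Def_Characters
import Cfsg.Prelude.Def_Blocks
import Cfsg.Agent.Lib.Helper3_CharComplete
import Cfsg.Agent.Lib.Helper80_CharBasic
import Cfsg.Agent.Lib.Helper16_B43Defs
import Cfsg.Agent.Lib.Helper16_BrauerSetup
import Cfsg.Agent.Lib.Helper16_BrauerFinal
import Cfsg.Agent.Lib.Helper64_BF_DATAA
import Cfsg.Agent.Lib.Helper77_BRDefs
import Cfsg.Agent.Lib.Helper23_BTDefs
import Cfsg.Agent.Lib.Helper23_BT_Util

/-!
# S0997 (Brauer-Tuan), tensor step, package FUN (`func_irr`), architect helper23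

The three functionals `ζ ↦ ⟨ζ|_P, 1_P⟩`, `ζ ↦ (e+1)⟨ζ|_P,1⟩ - ⟨(ζ θ_i)|_P, 1⟩` on the irreducible
characters.
-/

set_option autoImplicit false

namespace Cfsg.Agent.Lib.Helper77_BT_FUN

open Cfsg Cfsg.Agent.Lib.Helper80_CharBasic Cfsg.Agent.Lib.Helper3_CharComplete
  Cfsg.Agent.Lib.Helper16_B43Defs Cfsg.Agent.Lib.Helper77_BRDefs Cfsg.Agent.Lib.Helper23_BTDefs
  Cfsg.Agent.Lib.Helper23_BT_Util
open scoped ComplexConjugate

universe u

variable {G : Type u} [Group G] [Fintype G] {p : ℕ} [hp : Fact p.Prime]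

/-- the value at `1` is the degree -/
theorem apply_one (ζ : IrrCharacter G) :
    (ζ : G → ℂ) 1 = ((charDegree (ζ : G → ℂ) : ℕ) : ℂ) :=
  (Cfsg.Agent.Lib.Helper16_BrauerFinal.charDegree_cast ζ).symm

/-- `pavg` of an irreducible character is a natural number -/
theorem exists_pavg_nat (P : Sylow p G) (ζ : IrrCharacter G) :
    ∃ m : ℕ, pavg P (ζ : G → ℂ) = (m : ℂ) := by
  classical
  let _ : Fintype ↥(P : Subgroup G) := Fintype.ofFinite _
  exact ⟨Cfsg.Agent.Lib.Helper16_BrauerSetup.mult P ζ 1,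
    (Cfsg.Agent.Lib.Helper64_BF_DATAA.mult_one_eq_pavg P ζ).symm⟩

/-- sum over `P#` of a function constant on `P#` -/
theorem sum_Ps_const (P : Sylow p G) (hP : Nat.card P = p) (f : G → ℂ) (c : ℂ)
    (h : ∀ x ∈ (P : Subgroup G), x ≠ 1 → f x = c) :
    ∑ x ∈ Ps P, f x = ((p : ℂ) - 1) * c := by
  have h1 : ∑ x ∈ Ps P, f x = ∑ _x ∈ Ps P, c := by
    refine Finset.sum_congr rfl (fun x hx => ?_)
    obtain ⟨hxP, hx1⟩ := mem_Ps.mp hx
    exact h x hxP hx1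
  rw [h1, ← sum_Ps_one P hP, Finset.sum_mul]
  simp

/-- **PK-FUN** -/
theorem func_irr (P : Sylow p G) (D : PBData P) (e : ℕ) (θ₁ θ₂ : IrrCharacter G)
    (hT : TSet P D e θ₁ θ₂)
    (havg₁ : pavg P (θ₁ : G → ℂ) = 1) (havg₂ : pavg P (θ₂ : G → ℂ) = 1)
    (h11 : pavg P (fun g => (θ₁ : G → ℂ) g * (θ₁ : G → ℂ) g) = (e : ℂ) + 1)
    (h12 : pavg P (fun g => (θ₁ : G → ℂ) g * (θ₂ : G → ℂ) g) = 1)
    (h22 : pavg P (fun g => (θ₂ : G → ℂ) g * (θ₂ : G → ℂ) g) = (e : ℂ) + 1)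
    (ζ : IrrCharacter G) :
    ∃ m : ℕ, pavg P (ζ : G → ℂ) = (m : ℂ) ∧
      (ζ ∈ D.X → (charDegree (ζ : G → ℂ) : ℤ) = p * m - (p - 1) * D.εX ζ) ∧
      (ζ ∉ D.X → ζ ∉ D.Y → charDegree (ζ : G → ℂ) = p * m) ∧
      (ζ ∈ D.Y → m = 1) ∧
      ((e : ℂ) + 1) * pavg P (ζ : G → ℂ) - pavg P (fun g => (ζ : G → ℂ) g * (θ₁ : G → ℂ) g) =
        (e : ℂ) * (if ζ ∈ D.X then (D.εX ζ : ℂ) else if ζ = θ₂ then 1 else 0) ∧
      ((e : ℂ) + 1) * pavg P (ζ : G → ℂ) - pavg P (fun g => (ζ : G → ℂ) g * (θ₂ : G → ℂ) g) =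
        (e : ℂ) * (if ζ ∈ D.X then (D.εX ζ : ℂ) else if ζ = θ₁ then 1 else 0) := by
  classical
  obtain ⟨m, hm⟩ := exists_pavg_nat P ζ
  have hP := hT.hP
  have hpC : (p : ℂ) = 2 * (e : ℂ) + 1 := by
    have := hT.hpe
    exact_mod_cast this
  have hp0 : (p : ℂ) ≠ 0 := by
    have : p ≠ 0 := hp.out.ne_zero
    exact_mod_cast this
  have hθ₁1 : (θ₁ : G → ℂ) 1 = (e : ℂ) + 1 := by
    rw [apply_one, hT.hdeg₁]; push_cast; ring
  have hθ₂1 : (θ₂ : G → ℂ) 1 = (e : ℂ) + 1 := by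
    rw [apply_one, hT.hdeg₂]; push_cast; ring
  -- sums over `P#`
  have hsplit := pavg_split P hP (ζ : G → ℂ)
  rw [hm] at hsplit
  have hsplit₁ := pavg_split P hP (fun g => (ζ : G → ℂ) g * (θ₁ : G → ℂ) g)
  have hsplit₂ := pavg_split P hP (fun g => (ζ : G → ℂ) g * (θ₂ : G → ℂ) g)
  have hS₁ : ∑ x ∈ Ps P, (θ₁ : G → ℂ) x = (e : ℂ) := by
    have h := pavg_split P hP (θ₁ : G → ℂ)
    rw [havg₁, hθ₁1] at h
    linear_combination -h + hpC
  have hS₂ : ∑ x ∈ Ps P, (θ₂ : G → ℂ) x = (e : ℂ) := by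
    have h := pavg_split P hP (θ₂ : G → ℂ)
    rw [havg₂, hθ₂1] at h
    linear_combination -h + hpC
  have hYmem : ζ ∈ D.Y ↔ ζ = θ₁ ∨ ζ = θ₂ := by
    rw [hT.hY]; simp
  refine ⟨m, hm, ?_, ?_, ?_, ?_⟩
  · -- `ζ ∈ X`
    intro hX
    have hval : ∀ x ∈ (P : Subgroup G), x ≠ 1 → (ζ : G → ℂ) x = (D.εX ζ : ℂ) := by
      intro x hx hx1
      have := D.hXval ζ hX x hx hx1 1 (Subgroup.one_mem _) (by
        rw [orderOf_one]; exact hp.out.not_dvd_one)
      rwa [mul_one] at this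
    have hs := sum_Ps_const P hP (ζ : G → ℂ) (D.εX ζ : ℂ) hval
    rw [hs, apply_one] at hsplit
    have h1 : ((charDegree (ζ : G → ℂ) : ℕ) : ℂ) = (p : ℂ) * m - ((p : ℂ) - 1) * (D.εX ζ : ℂ) := by
      linear_combination -hsplit
    exact_mod_cast h1
  · -- `ζ ∉ X ∪ Y`
    intro hX hY
    have hval : ∀ x ∈ (P : Subgroup G), x ≠ 1 → (ζ : G → ℂ) x = 0 :=
      fun x hx hx1 => D.hout hT.hC ζ hX hY x hx hx1
    have hs := sum_Ps_const P hP (ζ : G → ℂ) 0 hval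
    rw [hs, apply_one, mul_zero, add_zero] at hsplit
    exact_mod_cast hsplit.symm
  · -- `ζ ∈ Y`
    intro hY
    rcases hYmem.mp hY with rfl | rfl
    · rw [havg₁] at hm
      exact_mod_cast hm.symm
    · rw [havg₂] at hm
      exact_mod_cast hm.symm
  · -- the two functionals
    by_cases hX : ζ ∈ D.X
    · have hval : ∀ x ∈ (P : Subgroup G), x ≠ 1 → (ζ : G → ℂ) x = (D.εX ζ : ℂ) := by
        intro x hx hx1
        have := D.hXval ζ hX x hx hx1 1 (Subgroup.one_mem _) (by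
          rw [orderOf_one]; exact hp.out.not_dvd_one)
        rwa [mul_one] at this
      have hs := sum_Ps_const P hP (ζ : G → ℂ) (D.εX ζ : ℂ) hval
      rw [hs] at hsplit
      have hs₁ : ∑ x ∈ Ps P, (ζ : G → ℂ) x * (θ₁ : G → ℂ) x = (D.εX ζ : ℂ) * (e : ℂ) := by
        rw [← hS₁, Finset.mul_sum]
        refine Finset.sum_congr rfl (fun x hx => ?_)
        obtain ⟨hxP, hx1⟩ := mem_Ps.mp hx
        rw [hval x hxP hx1]
      have hs₂ : ∑ x ∈ Ps P, (ζ : G → ℂ) x * (θ₂ : G → ℂ) x = (D.εX ζ : ℂ) * (e : ℂ) := by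
        rw [← hS₂, Finset.mul_sum]
        refine Finset.sum_congr rfl (fun x hx => ?_)
        obtain ⟨hxP, hx1⟩ := mem_Ps.mp hx
        rw [hval x hxP hx1]
      rw [hs₁, hθ₁1] at hsplit₁
      rw [hs₂, hθ₂1] at hsplit₂
      rw [if_pos hX, if_pos hX, hm]
      constructor
      · apply mul_left_cancel₀ hp0
        linear_combination ((e : ℂ) + 1) * hsplit - hsplit₁ + (D.εX ζ : ℂ) * hpC
      · apply mul_left_cancel₀ hp0
        linear_combination ((e : ℂ) + 1) * hsplit - hsplit₂ + (D.εX ζ : ℂ) * hpC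
    · rw [if_neg hX, if_neg hX]
      by_cases hY : ζ ∈ D.Y
      · rcases hYmem.mp hY with rfl | rfl
        · rw [if_neg hT.hne, if_pos rfl, havg₁, h11, h12]
          constructor <;> ring
        · rw [if_pos rfl, if_neg hT.hne.symm, havg₂, h22]
          have h21 : pavg P (fun g => (ζ : G → ℂ) g * (θ₁ : G → ℂ) g) = 1 := by
            rw [← h12]
            exact pavg_congr P _ _ (fun x _ => mul_comm _ _)
          rw [h21]
          constructor <;> ring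
      · have hne₁ : ζ ≠ θ₁ := fun h => hY (hYmem.mpr (Or.inl h))
        have hne₂ : ζ ≠ θ₂ := fun h => hY (hYmem.mpr (Or.inr h))
        rw [if_neg hne₂, if_neg hne₁, mul_zero]
        have hval : ∀ x ∈ (P : Subgroup G), x ≠ 1 → (ζ : G → ℂ) x = 0 :=
          fun x hx hx1 => D.hout hT.hC ζ hX hY x hx hx1
        have hs := sum_Ps_const P hP (ζ : G → ℂ) 0 hval
        rw [hs, mul_zero, add_zero] at hsplit
        have hs₁ : ∑ x ∈ Ps P, (ζ : G → ℂ) x * (θ₁ : G → ℂ) x = 0 := by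
          refine Finset.sum_eq_zero (fun x hx => ?_)
          obtain ⟨hxP, hx1⟩ := mem_Ps.mp hx
          rw [hval x hxP hx1, zero_mul]
        have hs₂ : ∑ x ∈ Ps P, (ζ : G → ℂ) x * (θ₂ : G → ℂ) x = 0 := by
          refine Finset.sum_eq_zero (fun x hx => ?_)
          obtain ⟨hxP, hx1⟩ := mem_Ps.mp hx
          rw [hval x hxP hx1, zero_mul]
        rw [hs₁, hθ₁1, add_zero] at hsplit₁
        rw [hs₂, hθ₂1, add_zero] at hsplit₂
        rw [hm]
        constructor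
        · apply mul_left_cancel₀ hp0
          linear_combination ((e : ℂ) + 1) * hsplit - hsplit₁
        · apply mul_left_cancel₀ hp0
          linear_combination ((e : ℂ) + 1) * hsplit - hsplit₂

end Cfsg.Agent.Lib.Helper77_BT_FUN
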