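import Cfsg.Agent.Lib.Helper77_BRDefs
import Cfsg.Agent.Lib.Helper69_S4707_A
import Cfsg.Agent.Lib.Helper3_CharColumn

/-!
# S0999 (Brauer-Reynolds) sub-package EXC (helper65, for helper77)

The exceptional characters of the principal block on `P` (`|P| = p`, `C_G(P) = P`):
`∑_{θ ∈ Y} θ(z) = -ε` on `P \ 1`, `∑_{x ∈ P \ 1} θ(x) = -ε q`, and the multiplicities `a_i(θ)` do not
depend on `θ ∈ Y`.  By-products: `mem_of_singular_normalizer` (`p`-singular elements of `N_G(P)` lie in
`P`), `sum_singular` (sum of a class function over the `p`-singular elements `= |Syl_p| ·` sum over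
`P \ 1`).
-/

set_option autoImplicit false
set_option linter.unusedSectionVars false
set_option linter.unusedVariables false

namespace Cfsg.Agent.Lib.Helper65_BR_EXC

open Cfsg Cfsg.Agent.Lib.Helper80_CharBasic Cfsg.Agent.Lib.Helper77_BRDefs
open Cfsg.Agent.Lib.Helper3_CharBridge Cfsg.Agent.Lib.Helper3_CharOrtho
open scoped ComplexConjugate Pointwise

universe u

variable {G : Type u} [Group G] [Fintype G] {p : ℕ} [hp : Fact p.Prime]

/-- `C_G(P) = P` as an equality of subgroups. -/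
theorem centralizer_eq (P : Sylow p G) (hP : Nat.card P = p)
    (hC : ∀ c ∈ Cen P, c ∈ (P : Subgroup G)) :
    Subgroup.centralizer ((P : Subgroup G) : Set G) = (P : Subgroup G) :=
  le_antisymm hC (Cfsg.Agent.Lib.Helper69_S4707_A.le_centralizer_of_card_prime _ hP)

/-- A `p`-singular element of `N_G(P)` lies in `P` (when `C_G(P) = P` has order `p`). -/
theorem mem_of_singular_normalizer (P : Sylow p G) (hP : Nat.card P = p)
    (hC : ∀ c ∈ Cen P, c ∈ (P : Subgroup G)) (x : G) (hx : x ∈ Nrm P)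
    (hpx : p ∣ orderOf x) : x ∈ (P : Subgroup G) := by
  have hp' : p.Prime := hp.out
  have ho : orderOf x ≠ 0 := (orderOf_pos x).ne'
  set z : G := x ^ (orderOf x / p) with hz
  have hoz : orderOf z = p := orderOf_pow_orderOf_div ho hpx
  have hzp : IsPGroup p (Subgroup.zpowers z) := by
    apply IsPGroup.of_card (n := 1)
    rw [Nat.card_zpowers, hoz, pow_one]
  have hzN : Subgroup.zpowers z ≤ Nrm P := by
    rw [Subgroup.zpowers_le]
    exact Subgroup.pow_mem _ hx _
  have hzP : z ∈ (P : Subgroup G) := by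
    have h1 := hzp.inf_normalizer_sylow P
    have h2 : z ∈ Subgroup.zpowers z ⊓ Subgroup.normalizer (P : Set G) :=
      ⟨Subgroup.mem_zpowers z, hzN (Subgroup.mem_zpowers z)⟩
    rw [h1] at h2
    exact h2.2
  have hz1 : z ≠ 1 := by
    intro h
    rw [h, orderOf_one] at hoz
    exact hp'.one_lt.ne hoz
  apply hC
  rw [Subgroup.mem_centralizer_iff]
  intro y hy
  have hyz : (⟨y, hy⟩ : (P : Subgroup G)) ∈
      Subgroup.zpowers (⟨z, hzP⟩ : (P : Subgroup G)) :=
    mem_zpowers_of_prime_card hP (fun h => hz1 (congrArg Subtype.val h))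
  obtain ⟨k, hk⟩ := Subgroup.mem_zpowers_iff.mp hyz
  have hyk : y = z ^ k := by
    have := congrArg Subtype.val hk
    simpa using this.symm
  have hxz : Commute x z := (Commute.refl x).pow_right _
  rw [hyk]
  exact ((hxz.zpow_right k).eq).symm

open scoped Classical in
/-- Sum of a class function over the `p`-singular elements. -/
theorem sum_singular (P : Sylow p G) (hP : Nat.card P = p)
    (hC : ∀ c ∈ Cen P, c ∈ (P : Subgroup G)) (f : G → ℂ) (hf : IsClassFunction G f) :
    ∑ g ∈ Finset.univ.filter (fun g : G => p ∣ orderOf g), f g =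
      (Nat.card (Sylow p G) : ℂ) *
        ∑ x ∈ Finset.univ.filter (fun x : G => x ∈ (P : Subgroup G) ∧ x ≠ 1), f x := by
  classical
  have : Fintype (Sylow p G) := Fintype.ofFinite _
  have hp' : p.Prime := hp.out
  have hconj := Cfsg.Agent.Lib.Helper69_S4707_A.exists_conj_mem P hP (centralizer_eq P hP hC)
  have hcQ : ∀ Q : Sylow p G, Nat.card Q = p := by
    intro Q
    rw [Sylow.card_eq_multiplicity, ← Sylow.card_eq_multiplicity P, hP]
  have hord : ∀ Q : Sylow p G, ∀ g ∈ (Q : Subgroup G), g ≠ 1 → orderOf g = p := by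
    intro Q g hg hg1
    have h1 : orderOf (⟨g, hg⟩ : (Q : Subgroup G)) ∣ p := by
      have := orderOf_dvd_natCard (⟨g, hg⟩ : (Q : Subgroup G))
      rwa [hcQ Q] at this
    rw [Subgroup.orderOf_mk] at h1
    rcases (Nat.dvd_prime hp').mp h1 with h | h
    · exact absurd (orderOf_eq_one_iff.mp h) hg1
    · exact h
  have huniq : ∀ Q₁ Q₂ : Sylow p G, ∀ g : G, g ≠ 1 → g ∈ (Q₁ : Subgroup G) →
      g ∈ (Q₂ : Subgroup G) → Q₁ = Q₂ := by
    intro Q₁ Q₂ g hg1 h1 h2
    have hz : ∀ Q : Sylow p G, g ∈ (Q : Subgroup G) →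
        Subgroup.zpowers g = (Q : Subgroup G) := by
      intro Q hQ
      apply Subgroup.eq_of_le_of_card_ge
      · exact (Subgroup.zpowers_le).mpr hQ
      · rw [Nat.card_zpowers, hord Q g hQ hg1, hcQ Q]
    apply Sylow.ext
    rw [← hz Q₁ h1, ← hz Q₂ h2]
  have hU : (Finset.univ.filter (fun g : G => p ∣ orderOf g)) =
      Finset.univ.biUnion (fun Q : Sylow p G =>
        Finset.univ.filter (fun g : G => g ∈ (Q : Subgroup G) ∧ g ≠ 1)) := by
    ext g
    simp only [Finset.mem_filter, Finset.mem_univ, true_and, Finset.mem_biUnion]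
    constructor
    · intro hg
      obtain ⟨y, hy⟩ := hconj g hg
      refine ⟨y⁻¹ • P, ?_, ?_⟩
      · rw [Sylow.coe_subgroup_smul]
        have := Subgroup.smul_mem_pointwise_smul _ (MulAut.conj y⁻¹) (P : Subgroup G) hy
        simpa [mul_assoc] using this
      · rintro rfl
        rw [orderOf_one] at hg
        exact hp'.one_lt.ne' (Nat.dvd_one.mp hg)
    · rintro ⟨Q, hgQ, hg1⟩
      rw [hord Q g hgQ hg1]
  rw [hU, Finset.sum_biUnion]
  · have hQ : ∀ Q : Sylow p G,
        ∑ g ∈ Finset.univ.filter (fun g : G => g ∈ (Q : Subgroup G) ∧ g ≠ 1), f g =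
        ∑ x ∈ Finset.univ.filter (fun x : G => x ∈ (P : Subgroup G) ∧ x ≠ 1), f x := by
      intro Q
      obtain ⟨y, hy⟩ := MulAction.exists_smul_eq G P Q
      symm
      refine Finset.sum_bij (fun x _ => y * x * y⁻¹) ?_ ?_ ?_ ?_
      · intro x hx
        simp only [Finset.mem_filter, Finset.mem_univ, true_and] at hx ⊢
        refine ⟨?_, ?_⟩
        · rw [← hy, Sylow.coe_subgroup_smul]
          have := Subgroup.smul_mem_pointwise_smul _ (MulAut.conj y) (P : Subgroup G) hx.1
          simpa using this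
        · intro h
          apply hx.2
          have := congrArg (fun t => y⁻¹ * t * y) h
          simpa [mul_assoc] using this
      · intro x₁ _ x₂ _ h
        have := congrArg (fun t => y⁻¹ * t * y) h
        simpa [mul_assoc] using this
      · intro g hg
        simp only [Finset.mem_filter, Finset.mem_univ, true_and] at hg
        refine ⟨y⁻¹ * g * y, ?_, by group⟩
        simp only [Finset.mem_filter, Finset.mem_univ, true_and]
        refine ⟨?_, ?_⟩
        · have h1 : g ∈ ((y • P : Sylow p G) : Subgroup G) := by rw [hy]; exact hg.1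
          rw [Sylow.coe_subgroup_smul] at h1
          have := Subgroup.smul_mem_pointwise_smul _ (MulAut.conj y⁻¹) _ h1
          rw [smul_smul] at this
          simpa [mul_assoc] using this
        · intro h
          apply hg.2
          have := congrArg (fun t => y * t * y⁻¹) h
          simpa [mul_assoc] using this
      · intro x _
        exact (hf x y).symm
    rw [Finset.sum_congr rfl (fun Q _ => hQ Q), Finset.sum_const, Finset.card_univ,
      nsmul_eq_mul, Nat.card_eq_fintype_card]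
  · intro Q₁ _ Q₂ _ hne
    show Disjoint _ _
    rw [Finset.disjoint_left]
    intro g h1 h2
    simp only [Finset.mem_filter, Finset.mem_univ, true_and] at h1 h2
    exact hne (huniq Q₁ Q₂ g h1.2 h1.1 h2.1)

open Cfsg.Agent.Lib.Helper3_CharColumn in
/-- **EXC** (M/L). The exceptional characters on `P`. -/
theorem EXC (P : Sylow p G) (hP : Nat.card P = p)
    (hC : ∀ c ∈ Cen P, c ∈ (P : Subgroup G)) (D : PBData P) (L : LinData P)
    (hq2 : 2 ≤ qq P) (hq : 2 * qq P ≤ p - 1) :
    (∀ z ∈ (P : Subgroup G), z ≠ 1 → ∑ θ ∈ D.Y, (θ : G → ℂ) z = -(D.ε : ℂ)) ∧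
    (∀ θ ∈ D.Y, ∑ᶠ x ∈ {x : G | x ∈ (P : Subgroup G) ∧ x ≠ 1}, (θ : G → ℂ) x =
      -(D.ε : ℂ) * (qq P : ℂ)) ∧
    ∀ θ ∈ D.Y, ∀ θ' ∈ D.Y, ∀ i : L.ι, L.a i θ = L.a i θ' := by
  classical
  have hp' : p.Prime := hp.out
  have hp1 : ¬ p ∣ orderOf (1 : G) := by
    rw [orderOf_one]; exact fun h => hp'.one_lt.ne' (Nat.dvd_one.mp h)
  have hYcard : 0 < D.Y.card := by
    have := D.hYcard
    by_contra h
    have h0 : D.Y.card = 0 := by omega
    rw [h0, zero_mul] at this
    omega
  obtain ⟨θ₀, hθ₀⟩ := Finset.card_pos.1 hYcard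
  have hconj1 : ∀ χ : IrrCharacter G, conj ((χ : G → ℂ) 1) = (χ : G → ℂ) 1 := by
    intro χ
    obtain ⟨n, _, hn⟩ := irr_apply_one χ
    rw [hn, Complex.conj_natCast]
  have hd : ∀ θ ∈ D.Y, (θ : G → ℂ) 1 = (θ₀ : G → ℂ) 1 := fun θ hθ =>
    D.hYreg θ hθ θ₀ hθ₀ 1 hp1
  have hd0 : (θ₀ : G → ℂ) 1 ≠ 0 := by
    obtain ⟨n, hn, h⟩ := irr_apply_one θ₀
    rw [h]
    exact_mod_cast hn.ne'
  have hrel1 := D.hrel θ₀ hθ₀ 1 hp1
  have hXz : ∀ χ ∈ D.X, ∀ z ∈ (P : Subgroup G), z ≠ 1 → (χ : G → ℂ) z = (D.εX χ : ℂ) := by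
    intro χ hχ z hz hz1
    have := D.hXval χ hχ z hz hz1 1 (one_mem _) hp1
    simpa using this
  -- part (a)
  have partA : ∀ z ∈ (P : Subgroup G), z ≠ 1 → ∑ θ ∈ D.Y, (θ : G → ℂ) z = -(D.ε : ℂ) := by
    intro z hz hz1
    have hcol := column_orthogonality z (1 : G)
    rw [if_neg (fun h => hz1 (isConj_one_left.mp h))] at hcol
    rw [← Finset.sum_add_sum_compl (D.X ∪ D.Y), Finset.sum_union D.hdisj] at hcol
    have h3 : ∑ χ ∈ (D.X ∪ D.Y)ᶜ, (χ : G → ℂ) z * conj ((χ : G → ℂ) 1) = 0 := by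
      apply Finset.sum_eq_zero
      intro χ hχ
      rw [Finset.mem_compl, Finset.mem_union, not_or] at hχ
      rw [D.hout hC χ hχ.1 hχ.2 z hz hz1, zero_mul]
    have h1 : ∑ χ ∈ D.X, (χ : G → ℂ) z * conj ((χ : G → ℂ) 1) =
        (D.ε : ℂ) * (θ₀ : G → ℂ) 1 := by
      rw [hrel1]
      refine Finset.sum_congr rfl fun χ hχ => ?_
      rw [hXz χ hχ z hz hz1, hconj1]
    have h2 : ∑ θ ∈ D.Y, (θ : G → ℂ) z * conj ((θ : G → ℂ) 1) =
        (∑ θ ∈ D.Y, (θ : G → ℂ) z) * (θ₀ : G → ℂ) 1 := by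
      rw [Finset.sum_mul]
      refine Finset.sum_congr rfl fun θ hθ => ?_
      rw [hconj1, hd θ hθ]
    rw [h1, h2, h3, add_zero, ← add_mul] at hcol
    have := (mul_eq_zero.1 hcol).resolve_right hd0
    linear_combination this
  -- the sums over P \ 1 agree
  set S : Finset G := Finset.univ.filter (fun x : G => x ∈ (P : Subgroup G) ∧ x ≠ 1) with hS
  have hScard : S.card = p - 1 := by
    have h1 : S = (Finset.univ.filter (fun g : G => g ∈ (P : Subgroup G))).erase 1 := by
      ext g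
      simp [hS, and_comm]
    rw [h1, Finset.card_erase_of_mem (by simp [one_mem])]
    have h3 := hP
    rw [Nat.card_eq_fintype_card, Fintype.card_subtype] at h3
    rw [h3]
  have hsum0 : ∀ θ ∈ D.Y, ∑ g : G, (θ : G → ℂ) g = 0 := by
    intro θ hθ
    have hne : θ ≠ oneIrr G := by
      rintro rfl
      exact Finset.disjoint_left.1 D.hdisj D.hone hθ
    have := irr_orthogonal θ (oneIrr G) hne
    simpa [oneIrr] using this
  have hnS : (Nat.card (Sylow p G) : ℂ) ≠ 0 := by
    have : Nonempty (Sylow p G) := ⟨P⟩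
    exact_mod_cast Nat.card_pos.ne'
  have hagree : ∀ θ ∈ D.Y, ∀ θ' ∈ D.Y,
      ∑ x ∈ S, (θ : G → ℂ) x = ∑ x ∈ S, (θ' : G → ℂ) x := by
    intro θ hθ θ' hθ'
    set f : G → ℂ := fun g => (θ : G → ℂ) g - (θ' : G → ℂ) g with hf
    have hfc : IsClassFunction G f := by
      intro g h
      simp only [hf]
      rw [isClassFunction_of_isIrrCharacter θ.2 g h, isClassFunction_of_isIrrCharacter θ'.2 g h]
    have hs := sum_singular P hP hC f hfc
    have htot : ∑ g : G, f g = 0 := by
      simp only [hf, Finset.sum_sub_distrib, hsum0 θ hθ, hsum0 θ' hθ', sub_zero]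
    rw [← Finset.sum_filter_add_sum_filter_not Finset.univ (fun g : G => p ∣ orderOf g)] at htot
    have hreg : ∑ g ∈ Finset.univ.filter (fun g : G => ¬ p ∣ orderOf g), f g = 0 := by
      apply Finset.sum_eq_zero
      intro g hg
      simp only [Finset.mem_filter, Finset.mem_univ, true_and] at hg
      simp only [hf]
      rw [D.hYreg θ hθ θ' hθ' g hg, sub_self]
    rw [hreg, add_zero, hs] at htot
    have := (mul_eq_zero.1 htot).resolve_left hnS
    simp only [hf, Finset.sum_sub_distrib] at this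
    exact sub_eq_zero.1 this
  have partB : ∀ θ ∈ D.Y, ∑ x ∈ S, (θ : G → ℂ) x = -(D.ε : ℂ) * (qq P : ℂ) := by
    intro θ hθ
    have h1 : ∑ θ' ∈ D.Y, ∑ x ∈ S, (θ' : G → ℂ) x = (D.Y.card : ℂ) * ∑ x ∈ S, (θ : G → ℂ) x := by
      rw [Finset.sum_congr rfl (fun θ' hθ' => hagree θ' hθ' θ hθ), Finset.sum_const, nsmul_eq_mul]
    have h2 : ∑ θ' ∈ D.Y, ∑ x ∈ S, (θ' : G → ℂ) x = (S.card : ℂ) * (-(D.ε : ℂ)) := by
      rw [Finset.sum_comm]
      rw [Finset.sum_congr rfl (fun x hx => partA x (Finset.mem_filter.1 hx).2.1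
        (Finset.mem_filter.1 hx).2.2), Finset.sum_const, nsmul_eq_mul]
    have h3 : (S.card : ℂ) = (D.Y.card : ℂ) * (qq P : ℂ) := by
      rw [hScard, ← D.hYcard]
      push_cast
      ring
    have hY0 : (D.Y.card : ℂ) ≠ 0 := by exact_mod_cast hYcard.ne'
    rw [h1, h3] at h2
    have : (D.Y.card : ℂ) * (∑ x ∈ S, (θ : G → ℂ) x - (-(D.ε : ℂ) * (qq P : ℂ))) = 0 := by
      linear_combination h2
    have := (mul_eq_zero.1 this).resolve_left hY0
    exact sub_eq_zero.1 this
  have hSset : {x : G | x ∈ (P : Subgroup G) ∧ x ≠ 1} = (S : Set G) := by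
    ext x
    simp [hS]
  refine ⟨partA, ?_, ?_⟩
  · intro θ hθ
    rw [hSset, finsum_mem_coe_finset]
    exact partB θ hθ
  · intro θ hθ θ' hθ' i
    have h1 := L.ha i θ
    have h2 := L.ha i θ'
    have hNset : ((Nrm P : Subgroup G) : Set G) =
        ((Finset.univ.filter (fun x : G => x ∈ Nrm P) : Finset G) : Set G) := by
      ext x
      simp
    rw [hNset, finsum_mem_coe_finset] at h1 h2
    have key : ∑ x ∈ Finset.univ.filter (fun x : G => x ∈ Nrm P),
        ((θ : G → ℂ) x - (θ' : G → ℂ) x) * conj (L.μ i x) = 0 := by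
      have hsub : ∑ x ∈ Finset.univ.filter (fun x : G => x ∈ Nrm P),
          ((θ : G → ℂ) x - (θ' : G → ℂ) x) * conj (L.μ i x) =
          ∑ x ∈ S, ((θ : G → ℂ) x - (θ' : G → ℂ) x) * conj (L.μ i x) := by
        symm
        apply Finset.sum_subset
        · intro x hx
          simp only [hS, Finset.mem_filter, Finset.mem_univ, true_and] at hx ⊢
          exact Subgroup.le_normalizer hx.1
        · intro x hxN hxS
          simp only [Finset.mem_filter, Finset.mem_univ, true_and] at hxN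
          by_cases hpx : p ∣ orderOf x
          · exfalso
            apply hxS
            simp only [hS, Finset.mem_filter, Finset.mem_univ, true_and]
            refine ⟨mem_of_singular_normalizer P hP hC x hxN hpx, ?_⟩
            rintro rfl
            exact hp1 hpx
          · rw [D.hYreg θ hθ θ' hθ' x hpx, sub_self, zero_mul]
      rw [hsub]
      have : ∑ x ∈ S, ((θ : G → ℂ) x - (θ' : G → ℂ) x) * conj (L.μ i x) =
          ∑ x ∈ S, ((θ : G → ℂ) x - (θ' : G → ℂ) x) := by
        refine Finset.sum_congr rfl fun x hx => ?_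
        simp only [hS, Finset.mem_filter, Finset.mem_univ, true_and] at hx
        rw [L.hμ_P i x hx.1, map_one, mul_one]
      rw [this, Finset.sum_sub_distrib, hagree θ hθ θ' hθ', sub_self]
    have hdiff : (L.a i θ : ℂ) - (L.a i θ' : ℂ) = 0 := by
      rw [h1, h2, ← mul_sub, ← Finset.sum_sub_distrib]
      have : ∑ x ∈ Finset.univ.filter (fun x : G => x ∈ Nrm P),
          ((θ : G → ℂ) x * conj (L.μ i x) - (θ' : G → ℂ) x * conj (L.μ i x)) =
          ∑ x ∈ Finset.univ.filter (fun x : G => x ∈ Nrm P),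
          ((θ : G → ℂ) x - (θ' : G → ℂ) x) * conj (L.μ i x) :=
        Finset.sum_congr rfl fun x _ => by ring
      rw [this, key, mul_zero]
    exact_mod_cast sub_eq_zero.1 hdiff

end Cfsg.Agent.Lib.Helper65_BR_EXC
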