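import Mathlib
import Cfsg.Prelude.Def_Characters
import Cfsg.Prelude.Def_Blocks
import Cfsg.Agent.Lib.Helper3_CharComplete
import Cfsg.Agent.Lib.Helper80_CharBasic
import Cfsg.Agent.Lib.Helper16_B43Defs
import Cfsg.Agent.Lib.Helper77_BRDefs
import Cfsg.Agent.Lib.Helper62_InvCount_Defs
import Cfsg.Agent.Lib.Helper65_BR_EXC
import Cfsg.Agent.Lib.Helper50_BR_LIN

/-!
# S0997R package INVSUM (helper78, for helper23): the class-multiplication sum in terms of the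
block data
-/

set_option autoImplicit false

namespace Cfsg.Agent.Lib.Helper78_BTR_INVSUM

open Cfsg Cfsg.Agent.Lib.Helper80_CharBasic Cfsg.Agent.Lib.Helper3_CharComplete
  Cfsg.Agent.Lib.Helper16_B43Defs Cfsg.Agent.Lib.Helper77_BRDefs Cfsg.Agent.Lib.Helper62_InvCount_Defs
open scoped ComplexConjugate

universe u

variable {G : Type u} [Group G] [Fintype G] {p : ℕ} [hp : Fact p.Prime]

theorem invsum_formula (P : Sylow p G) (D : PBData P) (hP : Nat.card P = p)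
    (hC : ∀ c ∈ Cen P, c ∈ (P : Subgroup G)) (hq2 : 2 ≤ qq P) (hq : 2 * qq P ≤ p - 1)
    (x : G) (hx : x ∈ (P : Subgroup G)) (hx1 : x ≠ 1) (u : G) (hu : ¬ p ∣ orderOf u)
    (θ : IrrCharacter G) (hθ : θ ∈ D.Y) :
    invSum G u x = ∑ χ ∈ D.X, (D.εX χ : ℂ) * ((χ : G → ℂ) u) ^ 2 / (χ : G → ℂ) 1
      - (D.ε : ℂ) * ((θ : G → ℂ) u) ^ 2 / (θ : G → ℂ) 1 := by
  classical
  have hp' : p.Prime := hp.out
  have hp1 : ¬ p ∣ orderOf (1 : G) := by
    rw [orderOf_one]; exact fun h => hp'.one_lt.ne' (Nat.dvd_one.mp h)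
  obtain ⟨L⟩ := Cfsg.Agent.Lib.Helper50_BR_LIN.LIN P hP hC
  obtain ⟨hexc, -, -⟩ := Cfsg.Agent.Lib.Helper65_BR_EXC.EXC P hP hC D L hq2 hq
  unfold invSum
  rw [finsum_eq_sum_of_fintype]
  -- split `univ`
  have hsplit : (Finset.univ : Finset (IrrCharacter G)) =
      (D.X ∪ D.Y) ∪ (Finset.univ \ (D.X ∪ D.Y)) := by
    rw [Finset.union_sdiff_of_subset (Finset.subset_univ _)]
  rw [hsplit, Finset.sum_union Finset.disjoint_sdiff, Finset.sum_union D.hdisj]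
  -- the rest
  have hrest : ∑ χ ∈ Finset.univ \ (D.X ∪ D.Y),
      (χ : G → ℂ) u * (χ : G → ℂ) u * conj ((χ : G → ℂ) x) / (χ : G → ℂ) 1 = 0 := by
    apply Finset.sum_eq_zero
    intro χ hχ
    rw [Finset.mem_sdiff, Finset.mem_union, not_or] at hχ
    rw [D.hout hC χ hχ.2.1 hχ.2.2 x hx hx1, map_zero, mul_zero, zero_div]
  -- the non-exceptional part
  have hX : ∑ χ ∈ D.X, (χ : G → ℂ) u * (χ : G → ℂ) u * conj ((χ : G → ℂ) x) / (χ : G → ℂ) 1 =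
      ∑ χ ∈ D.X, (D.εX χ : ℂ) * ((χ : G → ℂ) u) ^ 2 / (χ : G → ℂ) 1 := by
    apply Finset.sum_congr rfl
    intro χ hχ
    have h1 := D.hXval χ hχ x hx hx1 1 (Subgroup.one_mem _) hp1
    rw [mul_one] at h1
    rw [h1, map_intCast]
    ring
  -- the exceptional part
  have hY : ∑ θ' ∈ D.Y, (θ' : G → ℂ) u * (θ' : G → ℂ) u * conj ((θ' : G → ℂ) x) / (θ' : G → ℂ) 1 =
      -((D.ε : ℂ) * ((θ : G → ℂ) u) ^ 2 / (θ : G → ℂ) 1) := by
    have h1 : ∀ θ' ∈ D.Y,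
        (θ' : G → ℂ) u * (θ' : G → ℂ) u * conj ((θ' : G → ℂ) x) / (θ' : G → ℂ) 1 =
          (((θ : G → ℂ) u) ^ 2 / (θ : G → ℂ) 1) * conj ((θ' : G → ℂ) x) := by
      intro θ' hθ'
      rw [D.hYreg θ' hθ' θ hθ u hu, D.hYreg θ' hθ' θ hθ 1 hp1]
      ring
    rw [Finset.sum_congr rfl h1, ← Finset.mul_sum, ← map_sum, hexc x hx hx1, map_neg,
      map_intCast]
    ring
  rw [hrest, hX, hY]
  ring

end Cfsg.Agent.Lib.Helper78_BTR_INVSUM
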