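import Cfsg.Agent.Lib.Helper77_BRDefs

/-!
# S0999 / S4701 (helper77's Brauer-Reynolds market): shared core for LINSUM / LINVAL

`P` a Sylow `p`-subgroup of order `p` with `C_G(P) = P`, `N = N_G(P)`, `L : LinData P`.

* `commutator_mem`: `[a, b] ∈ P` for `a b ∈ N`;
* `exists_sep`: a hom `N →* ℂˣ` trivial on `P` separating a given `x ∈ N \ P` from `1`;
* `sum_mu`: second orthogonality `∑_i μ_i x = q [x ∈ P]` on `N`;
* `key`: `∑_i a_i(χ) μ_i(σ) = p⁻¹ ∑_{x ∈ σP} χ(x)` for `σ ∈ N`.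
-/

set_option autoImplicit false

namespace Cfsg.Agent.Lib.Helper75_BR_LinCore

open Cfsg Cfsg.Agent.Lib.Helper80_CharBasic Cfsg.Agent.Lib.Helper77_BRDefs
open scoped ComplexConjugate

universe u

variable {G : Type u} [Group G] [Fintype G] {p : ℕ} [hp : Fact p.Prime]

omit [Fintype G] hp in
theorem mem_nrm_iff (P : Sylow p G) (a : G) :
    a ∈ Nrm P ↔ ∀ w, w ∈ (P : Subgroup G) ↔ a * w * a⁻¹ ∈ (P : Subgroup G) :=
  Subgroup.mem_normalizer_iff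

omit [Fintype G] in
/-- conjugation by `a ∈ N_G(P)` is a power map on the cyclic group `P` -/
theorem conj_eq_pow (P : Sylow p G) (hP : Nat.card P = p) {a : G} (ha : a ∈ Nrm P) :
    ∃ m : ℤ, ∀ w ∈ (P : Subgroup G), a * w * a⁻¹ = w ^ m := by
  have hcyc : IsCyclic (↥(P : Subgroup G)) := isCyclic_of_prime_card (p := p) hP
  obtain ⟨g, hg⟩ := hcyc.exists_generator
  have hga : a * (g : G) * a⁻¹ ∈ (P : Subgroup G) := ((mem_nrm_iff P a).mp ha _).mp g.2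
  obtain ⟨m, hm⟩ := Subgroup.mem_zpowers_iff.mp (hg ⟨_, hga⟩)
  have hm' : (g : G) ^ m = a * (g : G) * a⁻¹ := by
    have := congrArg (fun x : ↥(P : Subgroup G) => (x : G)) hm
    simpa using this
  refine ⟨m, fun w hw => ?_⟩
  obtain ⟨k, hk⟩ := Subgroup.mem_zpowers_iff.mp (hg ⟨w, hw⟩)
  have hk' : (g : G) ^ k = w := by
    have := congrArg (fun x : ↥(P : Subgroup G) => (x : G)) hk
    simpa using this
  rw [← hk', ← conj_zpow, ← hm', ← zpow_mul, ← zpow_mul, mul_comm]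

omit [Fintype G] in
/-- `[a, b]` centralises `P` for `a, b ∈ N_G(P)` -/
theorem commutator_mem_cen (P : Sylow p G) (hP : Nat.card P = p) {a b : G} (ha : a ∈ Nrm P)
    (hb : b ∈ Nrm P) : a * b * a⁻¹ * b⁻¹ ∈ Cen P := by
  obtain ⟨m, hm⟩ := conj_eq_pow P hP ((Nrm P).inv_mem ha)
  obtain ⟨n, hn⟩ := conj_eq_pow P hP ((Nrm P).inv_mem hb)
  rw [Subgroup.mem_centralizer_iff]
  intro w hw
  have h1 : a⁻¹ * (b⁻¹ * w * b⁻¹⁻¹) * a⁻¹⁻¹ = w ^ (n * m) := by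
    rw [hn w hw, hm _ ((P : Subgroup G).zpow_mem hw n), zpow_mul]
  have h2 : b⁻¹ * (a⁻¹ * w * a⁻¹⁻¹) * b⁻¹⁻¹ = w ^ (n * m) := by
    rw [hm w hw, hn _ ((P : Subgroup G).zpow_mem hw m), ← zpow_mul, mul_comm]
  have h3 : a⁻¹ * (b⁻¹ * w * b⁻¹⁻¹) * a⁻¹⁻¹ = b⁻¹ * (a⁻¹ * w * a⁻¹⁻¹) * b⁻¹⁻¹ := h1.trans h2.symm
  simp only [inv_inv] at h3
  have h5 : (b * a) * (a⁻¹ * (b⁻¹ * w * b) * a) * (b * a)⁻¹ = w := by group
  rw [h3] at h5
  have h6 : (a * b * a⁻¹ * b⁻¹)⁻¹ * w * (a * b * a⁻¹ * b⁻¹)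
      = (b * a) * (b⁻¹ * (a⁻¹ * w * a) * b) * (b * a)⁻¹ := by group
  rw [h5] at h6
  calc w * (a * b * a⁻¹ * b⁻¹)
      = (a * b * a⁻¹ * b⁻¹) * ((a * b * a⁻¹ * b⁻¹)⁻¹ * w * (a * b * a⁻¹ * b⁻¹)) := by group
    _ = a * b * a⁻¹ * b⁻¹ * w := by rw [h6]

omit [Fintype G] in
/-- `[a, b] ∈ P` for `a, b ∈ N_G(P)` when `C_G(P) = P` -/
theorem commutator_le (P : Sylow p G) (hP : Nat.card P = p)
    (hC : ∀ c ∈ Cen P, c ∈ (P : Subgroup G)) :
    commutator ↥(Nrm P) ≤ (P : Subgroup G).subgroupOf (Nrm P) := by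
  rw [commutator_def, Subgroup.commutator_le]
  intro a _ b _
  rw [Subgroup.mem_subgroupOf]
  have h := commutator_mem_cen P hP a.2 b.2
  change (a : G) * b * (a : G)⁻¹ * (b : G)⁻¹ ∈ (P : Subgroup G)
  exact hC _ h

/-- a hom `N →* ℂˣ`, trivial on `P`, separating `x ∈ N \ P` from `1` -/
theorem exists_sep (P : Sylow p G) (hP : Nat.card P = p)
    (hC : ∀ c ∈ Cen P, c ∈ (P : Subgroup G)) {x : G} (hxN : x ∈ Nrm P)
    (hxP : x ∉ (P : Subgroup G)) :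
    ∃ f : ↥(Nrm P) →* ℂˣ, (∀ y : ↥(Nrm P), (y : G) ∈ (P : Subgroup G) → f y = 1) ∧
      f ⟨x, hxN⟩ ≠ 1 := by
  obtain ⟨PN, hPN⟩ : ∃ PN : Subgroup ↥(Nrm P), PN = (P : Subgroup G).subgroupOf (Nrm P) :=
    ⟨_, rfl⟩
  obtain ⟨B, hB⟩ : ∃ B : Subgroup (Abelianization ↥(Nrm P)), B = PN.map Abelianization.of :=
    ⟨_, rfl⟩
  obtain ⟨f₀, hf₀⟩ : ∃ f₀ : ↥(Nrm P) →* (Abelianization ↥(Nrm P)) ⧸ B,
      f₀ = (QuotientGroup.mk' B).comp Abelianization.of := ⟨_, rfl⟩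
  have hf₀app : ∀ y, f₀ y = QuotientGroup.mk' B (Abelianization.of y) := by
    intro y; rw [hf₀]; rfl
  have hker : ∀ y : ↥(Nrm P), f₀ y = 1 → (y : G) ∈ (P : Subgroup G) := by
    intro y hy
    rw [hf₀app, QuotientGroup.mk'_apply, QuotientGroup.eq_one_iff, hB] at hy
    obtain ⟨z, hz, hzy⟩ := Subgroup.mem_map.mp hy
    have h2 : z⁻¹ * y ∈ commutator ↥(Nrm P) := by
      rw [← Abelianization.ker_of, MonoidHom.mem_ker, map_mul, map_inv, hzy, inv_mul_cancel]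
    have h4 := commutator_le P hP hC h2
    rw [hPN] at hz
    have h5 := ((P : Subgroup G).subgroupOf (Nrm P)).mul_mem hz h4
    rw [mul_inv_cancel_left] at h5
    exact Subgroup.mem_subgroupOf.mp h5
  have hx1 : f₀ ⟨x, hxN⟩ ≠ 1 := fun h => hxP (hker _ h)
  have hne : NeZero (Monoid.exponent ((Abelianization ↥(Nrm P)) ⧸ B)) :=
    ⟨Monoid.exponent_ne_zero_of_finite⟩
  obtain ⟨φ, hφ⟩ := CommGroup.exists_apply_ne_one_of_hasEnoughRootsOfUnity
    ((Abelianization ↥(Nrm P)) ⧸ B) ℂ hx1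
  refine ⟨φ.comp f₀, fun y hy => ?_, hφ⟩
  have h1 : f₀ y = 1 := by
    rw [hf₀app, QuotientGroup.mk'_apply, QuotientGroup.eq_one_iff, hB]
    exact Subgroup.mem_map.mpr ⟨y, by rw [hPN]; exact Subgroup.mem_subgroupOf.mpr hy, rfl⟩
  rw [MonoidHom.comp_apply, h1, map_one]

/-- `μ i` as a homomorphism `N →* ℂˣ` -/
noncomputable def muHom {P : Sylow p G} (L : LinData P) (i : L.ι) : ↥(Nrm P) →* ℂˣ :=
  MonoidHom.toHomUnits
    { toFun := fun x => L.μ i (x : G)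
      map_one' := L.hμ_P i 1 (Subgroup.one_mem _)
      map_mul' := fun x y => L.hμ_mul i x x.2 y y.2 }

theorem muHom_apply {P : Sylow p G} (L : LinData P) (i : L.ι) (x : ↥(Nrm P)) :
    ((muHom L i x : ℂˣ) : ℂ) = L.μ i (x : G) := rfl

theorem mu_one {P : Sylow p G} (L : LinData P) (i : L.ι) : L.μ i 1 = 1 :=
  L.hμ_P i 1 (Subgroup.one_mem _)

theorem mu_mul_inv {P : Sylow p G} (L : LinData P) (i : L.ι) {x : G} (hx : x ∈ Nrm P) :
    L.μ i x * L.μ i x⁻¹ = 1 := by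
  rw [← L.hμ_mul i x hx x⁻¹ ((Nrm P).inv_mem hx), mul_inv_cancel, mu_one]

theorem mu_conj {P : Sylow p G} (L : LinData P) (i : L.ι) {x : G} (hx : x ∈ Nrm P) :
    conj (L.μ i x) = L.μ i x⁻¹ := by
  have h1 : (L.μ i x) ^ Nat.card ↥(Nrm P) = 1 := by
    have h2 : (muHom L i ⟨x, hx⟩) ^ Nat.card ↥(Nrm P) = 1 := by
      rw [← map_pow, pow_card_eq_one', map_one]
    have h3 := congrArg (fun u : ℂˣ => (u : ℂ)) h2
    simpa [muHom_apply] using h3
  have h4 : ‖L.μ i x‖ = 1 := Complex.norm_eq_one_of_pow_eq_one h1 Nat.card_pos.ne'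
  rw [← RCLike.inv_eq_conj h4]
  exact (eq_inv_of_mul_eq_one_right (mu_mul_inv L i hx)).symm ▸ rfl

/-- multiplying `μ i` by a hom trivial on `P` gives another `μ k` -/
theorem exists_mul_index {P : Sylow p G} (L : LinData P) (i : L.ι) (f : ↥(Nrm P) →* ℂˣ)
    (hf : ∀ y : ↥(Nrm P), (y : G) ∈ (P : Subgroup G) → f y = 1) :
    ∃ k : L.ι, ∀ y : ↥(Nrm P), L.μ k (y : G) = L.μ i (y : G) * ((f y : ℂˣ) : ℂ) := by
  obtain ⟨k, hk⟩ := L.hμ_surj (muHom L i * f) (fun y hy => by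
    rw [MonoidHom.mul_apply, hf y hy, mul_one]
    apply Units.ext
    rw [muHom_apply, L.hμ_P i _ hy]
    rfl)
  refine ⟨k, fun y => ?_⟩
  rw [hk y, MonoidHom.mul_apply, Units.val_mul, muHom_apply]

/-- second orthogonality on `N / P`, on `P` -/
theorem sum_mu_mem (P : Sylow p G) (L : LinData P) {x : G} (hxP : x ∈ (P : Subgroup G)) :
    ∑ i : L.ι, L.μ i x = (qq P : ℂ) := by
  rw [Finset.sum_congr rfl (fun i _ => L.hμ_P i x hxP), Finset.sum_const, Finset.card_univ,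
    L.hcard, nsmul_eq_mul, mul_one]

/-- second orthogonality on `N / P`, off `P` -/
theorem sum_mu_not_mem (P : Sylow p G) (hP : Nat.card P = p)
    (hC : ∀ c ∈ Cen P, c ∈ (P : Subgroup G)) (L : LinData P) {x : G} (hxN : x ∈ Nrm P)
    (hxP : x ∉ (P : Subgroup G)) : ∑ i : L.ι, L.μ i x = 0 := by
  classical
  obtain ⟨f, hf1, hfx⟩ := exists_sep P hP hC hxN hxP
  choose σ hσ using fun i => exists_mul_index L i f hf1
  have hσinj : Function.Injective σ := by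
    intro i j hij
    apply L.hμ_inj
    intro y hy
    have h1 := hσ i ⟨y, hy⟩
    have h2 := hσ j ⟨y, hy⟩
    rw [hij, h2] at h1
    exact (mul_right_cancel₀ (Units.ne_zero _) h1).symm
  have hσbij : Function.Bijective σ := Finite.injective_iff_bijective.mp hσinj
  have h1 : ∑ i : L.ι, L.μ (σ i) x = ∑ i : L.ι, L.μ i x :=
    hσbij.sum_comp (fun i => L.μ i x)
  have h2 : ∑ i : L.ι, L.μ (σ i) x = (∑ i : L.ι, L.μ i x) * ((f ⟨x, hxN⟩ : ℂˣ) : ℂ) := by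
    rw [Finset.sum_mul]
    exact Finset.sum_congr rfl (fun i _ => hσ i ⟨x, hxN⟩)
  rw [h1] at h2
  have h3 : (∑ i : L.ι, L.μ i x) * (((f ⟨x, hxN⟩ : ℂˣ) : ℂ) - 1) = 0 := by
    rw [mul_sub, mul_one, ← h2, sub_self]
  rcases mul_eq_zero.mp h3 with h4 | h4
  · exact h4
  · exfalso
    apply hfx
    apply Units.ext
    rw [Units.val_one]
    exact sub_eq_zero.mp h4

omit [Fintype G] in
/-- `|N_G(P)| = p q` when `C_G(P) = P` -/
theorem card_nrm (P : Sylow p G) (hP : Nat.card P = p)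
    (hC : ∀ c ∈ Cen P, c ∈ (P : Subgroup G)) : Nat.card (Nrm P) = p * qq P := by
  have hcyc : IsCyclic (↥(P : Subgroup G)) := isCyclic_of_prime_card (p := p) hP
  have hcomm : IsMulCommutative (↥(P : Subgroup G)) := ⟨⟨fun a b => by
    letI := IsCyclic.commGroup (α := ↥(P : Subgroup G))
    exact mul_comm a b⟩⟩
  have hle : (P : Subgroup G) ≤ Cen P := Subgroup.le_centralizer_iff_isMulCommutative.mpr hcomm
  have heq : Cen P = (P : Subgroup G) := le_antisymm hC hle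
  have h1 := Subgroup.relIndex_mul_relIndex (⊥ : Subgroup G) (Cen P) (Nrm P) bot_le
    (Subgroup.centralizer_le_normalizer _)
  rw [Subgroup.relIndex_bot_left, Subgroup.relIndex_bot_left, heq] at h1
  rw [← h1, hP]
  unfold qq
  rw [heq]

open scoped Classical in
theorem finsum_mem_eq_sum_ite (S : Set G) (f : G → ℂ) :
    ∑ᶠ x ∈ S, f x = ∑ x : G, if x ∈ S then f x else 0 := by
  rw [finsum_mem_eq_finite_toFinset_sum f (Set.toFinite S), ← Finset.sum_filter]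
  apply Finset.sum_congr _ (fun _ _ => rfl)
  ext x
  simp

open scoped Classical in
/-- the key formula: `∑_i a_i(χ) μ_i(σ) = p⁻¹ ∑_{x ∈ σP} χ(x)` for `σ ∈ N_G(P)` -/
theorem key (P : Sylow p G) (hP : Nat.card P = p)
    (hC : ∀ c ∈ Cen P, c ∈ (P : Subgroup G)) (L : LinData P) (χ : IrrCharacter G)
    {σ : G} (hσ : σ ∈ Nrm P) :
    ∑ i : L.ι, (L.a i χ : ℂ) * L.μ i σ =
      (p : ℂ)⁻¹ * ∑ x : G, if x⁻¹ * σ ∈ (P : Subgroup G) then (χ : G → ℂ) x else 0 := by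
  classical
  have hN := card_nrm P hP hC
  have hp0 : (p : ℂ) ≠ 0 := Nat.cast_ne_zero.mpr hp.out.ne_zero
  have hq0 : (qq P : ℂ) ≠ 0 := by
    rw [Nat.cast_ne_zero]
    intro h
    have : Nat.card (Nrm P) ≠ 0 := Nat.card_pos.ne'
    rw [hN, h, mul_zero] at this
    exact this rfl
  have hPN : (P : Subgroup G) ≤ Nrm P := Subgroup.le_normalizer
  -- expand a
  have h1 : ∀ i : L.ι, (L.a i χ : ℂ) * L.μ i σ = (Nat.card (Nrm P) : ℂ)⁻¹ *
      ∑ x : G, if x ∈ Nrm P then (χ : G → ℂ) x * L.μ i (x⁻¹ * σ) else 0 := by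
    intro i
    rw [L.ha i χ, finsum_mem_eq_sum_ite, mul_assoc, Finset.sum_mul]
    congr 1
    apply Finset.sum_congr rfl
    intro x _
    by_cases hx : x ∈ Nrm P
    · have hx' : x ∈ ((Nrm P : Subgroup G) : Set G) := hx
      rw [if_pos hx', if_pos hx, mu_conj L i hx, L.hμ_mul i _ ((Nrm P).inv_mem hx) _ hσ, mul_assoc]
    · have hx' : x ∉ ((Nrm P : Subgroup G) : Set G) := hx
      rw [if_neg hx', if_neg hx, zero_mul]
  rw [Finset.sum_congr rfl (fun i _ => h1 i), ← Finset.mul_sum, Finset.sum_comm]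
  have h2 : ∀ x : G, (∑ i : L.ι, if x ∈ Nrm P then (χ : G → ℂ) x * L.μ i (x⁻¹ * σ) else 0)
      = (qq P : ℂ) * (if x⁻¹ * σ ∈ (P : Subgroup G) then (χ : G → ℂ) x else 0) := by
    intro x
    by_cases hx : x ∈ Nrm P
    · simp only [if_pos hx]
      rw [← Finset.mul_sum]
      by_cases hxs : x⁻¹ * σ ∈ (P : Subgroup G)
      · rw [if_pos hxs, sum_mu_mem P L hxs, mul_comm]
      · rw [if_neg hxs, sum_mu_not_mem P hP hC L
          ((Nrm P).mul_mem ((Nrm P).inv_mem hx) hσ) hxs, mul_zero, mul_zero]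
    · simp only [if_neg hx, Finset.sum_const_zero]
      have : x⁻¹ * σ ∉ (P : Subgroup G) := by
        intro h
        apply hx
        have h3 := (Nrm P).mul_mem hσ ((Nrm P).inv_mem (hPN h))
        simpa using h3
      rw [if_neg this, mul_zero]
  rw [Finset.sum_congr rfl (fun x _ => h2 x), ← Finset.mul_sum, hN, ← mul_assoc]
  congr 1
  push_cast
  field_simp

end Cfsg.Agent.Lib.Helper75_BR_LinCore
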