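import Cfsg.Agent.Lib.Helper77_BRDefs
import Cfsg.Agent.Lib.Helper75_BR_LinCore

/-!
# S0999 / S4701 (helper77's market): package LINSUM

`(∑_i a_i(χ)) p = ∑_{x ∈ P} χ(x)`  (`key` of `Helper75_BR_LinCore` at `σ = 1`).
-/

set_option autoImplicit false

namespace Cfsg.Agent.Lib.Helper75_BR_LINSUM

open Cfsg Cfsg.Agent.Lib.Helper80_CharBasic Cfsg.Agent.Lib.Helper77_BRDefs
  Cfsg.Agent.Lib.Helper75_BR_LinCore
open scoped ComplexConjugate

universe u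

variable {G : Type u} [Group G] [Fintype G] {p : ℕ} [hp : Fact p.Prime]

/-- **LINSUM** (M). `∑_i a_i(χ) = ⟨χ|_P, 1_P⟩`. -/
theorem LINSUM (P : Sylow p G) (hP : Nat.card P = p)
    (hC : ∀ c ∈ Cen P, c ∈ (P : Subgroup G)) (L : LinData P) (χ : IrrCharacter G) :
    ((∑ i : L.ι, L.a i χ : ℕ) : ℂ) * (p : ℂ) =
      ∑ᶠ x ∈ ((P : Subgroup G) : Set G), (χ : G → ℂ) x := by
  classical
  have hp0 : (p : ℂ) ≠ 0 := Nat.cast_ne_zero.mpr hp.out.ne_zero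
  have h1 := key P hP hC L χ (Subgroup.one_mem (Nrm P))
  have h2 : ∑ i : L.ι, (L.a i χ : ℂ) * L.μ i 1 = ((∑ i : L.ι, L.a i χ : ℕ) : ℂ) := by
    rw [Nat.cast_sum]
    exact Finset.sum_congr rfl (fun i _ => by rw [mu_one, mul_one])
  rw [h2] at h1
  rw [h1, finsum_mem_eq_sum_ite, mul_comm, ← mul_assoc, mul_inv_cancel₀ hp0, one_mul]
  apply Finset.sum_congr rfl
  intro x _
  have : x⁻¹ * 1 ∈ (P : Subgroup G) ↔ x ∈ ((P : Subgroup G) : Set G) := by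
    rw [mul_one, inv_mem_iff]; rfl
  by_cases hx : x ∈ ((P : Subgroup G) : Set G)
  · rw [if_pos hx, if_pos (this.mpr hx)]
  · rw [if_neg hx, if_neg (fun h => hx (this.mp h))]

end Cfsg.Agent.Lib.Helper75_BR_LINSUM
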