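import Mathlib
import Cfsg.Prelude.Def_Characters
import Cfsg.Prelude.Def_Blocks
import Cfsg.Agent.Lib.Helper3_CharComplete
import Cfsg.Agent.Lib.Helper80_CharBasic
import Cfsg.Agent.Lib.Helper16_B43Defs
import Cfsg.Agent.Lib.Helper77_BRDefs
import Cfsg.Agent.Lib.Helper23_BTDefs
import Cfsg.Agent.Lib.Helper75_BR_LinCore
import Cfsg.Agent.Lib.Helper75_BR_LINSUM

/-!
# S0997 tensor step, package LIN0 (helper64, architect helper23): bookkeeping for `LinData`
-/

set_option autoImplicit false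

namespace Cfsg.Agent.Lib.Helper64_BT_LIN0

open Cfsg Cfsg.Agent.Lib.Helper80_CharBasic Cfsg.Agent.Lib.Helper3_CharComplete
  Cfsg.Agent.Lib.Helper16_B43Defs Cfsg.Agent.Lib.Helper77_BRDefs Cfsg.Agent.Lib.Helper23_BTDefs
open Cfsg.Agent.Lib.Helper75_BR_LinCore
open scoped ComplexConjugate

universe u

variable {G : Type u} [Group G] [Fintype G] {p : ℕ} [hp : Fact p.Prime]

theorem lin_basic (P : Sylow p G) (hP : Nat.card P = p)
    (hC : ∀ c ∈ Cen P, c ∈ (P : Subgroup G)) (L : LinData P) :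
    L.a L.one (oneIrr G) = 1 ∧
    ∀ ζ : IrrCharacter G, ((∑ i : L.ι, L.a i ζ : ℕ) : ℂ) = pavg P (ζ : G → ℂ) := by
  classical
  constructor
  · have h := L.ha L.one (oneIrr G)
    have h1 : ∑ᶠ x ∈ ((Nrm P : Subgroup G) : Set G),
        ((oneIrr G : IrrCharacter G) : G → ℂ) x * conj (L.μ L.one x) =
        (Nat.card (Nrm P) : ℂ) := by
      rw [finsum_mem_eq_sum_ite]
      have h2 : ∀ x : G, (if x ∈ ((Nrm P : Subgroup G) : Set G) then
          ((oneIrr G : IrrCharacter G) : G → ℂ) x * conj (L.μ L.one x) else 0) =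
          if x ∈ ((Nrm P : Subgroup G) : Set G) then (1 : ℂ) else 0 := by
        intro x
        by_cases hx : x ∈ ((Nrm P : Subgroup G) : Set G)
        · rw [if_pos hx, if_pos hx, L.hμ_one x hx, map_one, mul_one]
          rfl
        · rw [if_neg hx, if_neg hx]
      rw [Finset.sum_congr rfl (fun x _ => h2 x), ← Finset.sum_filter, Finset.sum_const,
        nsmul_eq_mul, mul_one]
      congr 1
      rw [Nat.card_eq_fintype_card, Fintype.card_subtype]
      rfl
    rw [h1, inv_mul_cancel₀] at h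
    · exact_mod_cast h
    · exact Nat.cast_ne_zero.mpr Nat.card_pos.ne'
  · intro ζ
    have hp0 : (p : ℂ) ≠ 0 := Nat.cast_ne_zero.mpr hp.out.ne_zero
    have h := Cfsg.Agent.Lib.Helper75_BR_LINSUM.LINSUM P hP hC L ζ
    have e : ∑ᶠ x : ↥(P : Subgroup G), (ζ : G → ℂ) x =
        ∑ᶠ x ∈ ((P : Subgroup G) : Set G), (ζ : G → ℂ) x :=
      finsum_set_coe_eq_finsum_mem (s := ((P : Subgroup G) : Set G))
        (f := fun x => (ζ : G → ℂ) x)
    rw [pavg, hP, e, ← h]
    field_simp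

end Cfsg.Agent.Lib.Helper64_BT_LIN0
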