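import Cfsg.Agent.Lib.Helper77_BRDefs
import Cfsg.Agent.Lib.Helper75_BR_LinCore
import Cfsg.Agent.Lib.Helper3_CharBridge

/-!
# S0999 / S4701 (helper77's market): package LINVAL

`χ(σ) = ∑_i a_i(χ) μ_i(σ)` for `σ ∈ N_G(P) \ P`: by `key` the right side is the average of `χ` over
the coset `σ P`, which is a single `P`-conjugacy class.
-/

set_option autoImplicit false

namespace Cfsg.Agent.Lib.Helper75_BR_LINVAL

open Cfsg Cfsg.Agent.Lib.Helper80_CharBasic Cfsg.Agent.Lib.Helper77_BRDefs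
  Cfsg.Agent.Lib.Helper75_BR_LinCore
open scoped ComplexConjugate

universe u

variable {G : Type u} [Group G] [Fintype G] {p : ℕ} [hp : Fact p.Prime]

omit [Fintype G] in
/-- an element of `P` commuting with `σ ∉ C_G(P)` is trivial -/
theorem eq_one_of_comm (P : Sylow p G) (hP : Nat.card P = p)
    (hC : ∀ c ∈ Cen P, c ∈ (P : Subgroup G)) {σ : G} (hσP : σ ∉ (P : Subgroup G)) {u : G}
    (hu : u ∈ (P : Subgroup G)) (hcomm : u * σ = σ * u) : u = 1 := by
  by_contra hu1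
  apply hσP
  apply hC
  rw [Subgroup.mem_centralizer_iff]
  intro w hw
  have hne : (⟨u, hu⟩ : ↥(P : Subgroup G)) ≠ 1 := fun h => hu1 (congrArg Subtype.val h)
  have htop := zpowers_eq_top_of_prime_card (p := p) hP hne
  have hmem : (⟨w, hw⟩ : ↥(P : Subgroup G)) ∈ Subgroup.zpowers (⟨u, hu⟩ : ↥(P : Subgroup G)) := by
    rw [htop]; exact Subgroup.mem_top _
  obtain ⟨k, hk⟩ := Subgroup.mem_zpowers_iff.mp hmem
  have hk' : u ^ k = w := by
    have := congrArg (fun x : ↥(P : Subgroup G) => (x : G)) hk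
    simpa using this
  rw [← hk']
  exact ((Commute.zpow_left (show Commute u σ from hcomm) k)).eq

/-- the coset `σ P` is a single `P`-class -/
theorem exists_conj (P : Sylow p G) (hP : Nat.card P = p)
    (hC : ∀ c ∈ Cen P, c ∈ (P : Subgroup G)) {σ : G} (hσN : σ ∈ Nrm P)
    (hσP : σ ∉ (P : Subgroup G)) {x : G} (hx : x⁻¹ * σ ∈ (P : Subgroup G)) :
    ∃ z : G, z * σ * z⁻¹ = x := by
  have hmem : ∀ z : ↥(P : Subgroup G), (z : G) * σ * (z : G)⁻¹ * σ⁻¹ ∈ (P : Subgroup G) := by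
    intro z
    have h1 : σ * (z : G)⁻¹ * σ⁻¹ ∈ (P : Subgroup G) :=
      ((mem_nrm_iff P σ).mp hσN _).mp ((P : Subgroup G).inv_mem z.2)
    have h2 := (P : Subgroup G).mul_mem z.2 h1
    have h3 : (z : G) * (σ * (z : G)⁻¹ * σ⁻¹) = (z : G) * σ * (z : G)⁻¹ * σ⁻¹ := by group
    rwa [h3] at h2
  have hinj : Function.Injective
      (fun z : ↥(P : Subgroup G) => (⟨_, hmem z⟩ : ↥(P : Subgroup G))) := by
    intro z z' h
    have h1 : (z : G) * σ * (z : G)⁻¹ * σ⁻¹ = (z' : G) * σ * (z' : G)⁻¹ * σ⁻¹ :=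
      congrArg Subtype.val h
    have h2 : ((z' : G)⁻¹ * z) * σ = σ * ((z' : G)⁻¹ * z) := by
      have h3 : (z : G) * σ * (z : G)⁻¹ = (z' : G) * σ * (z' : G)⁻¹ := mul_right_cancel h1
      calc ((z' : G)⁻¹ * z) * σ = (z' : G)⁻¹ * ((z : G) * σ * (z : G)⁻¹) * z := by group
        _ = (z' : G)⁻¹ * ((z' : G) * σ * (z' : G)⁻¹) * z := by rw [h3]
        _ = σ * ((z' : G)⁻¹ * z) := by group
    have h4 := eq_one_of_comm P hP hC hσP
      ((P : Subgroup G).mul_mem ((P : Subgroup G).inv_mem z'.2) z.2) h2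
    apply Subtype.ext
    exact (inv_mul_eq_one.mp h4).symm
  have hsurj := Finite.injective_iff_surjective.mp hinj
  have hx' : x * σ⁻¹ ∈ (P : Subgroup G) := by
    have h1 := (P : Subgroup G).inv_mem hx
    have h2 := ((mem_nrm_iff P σ).mp hσN _).mp h1
    have h3 : σ * (x⁻¹ * σ)⁻¹ * σ⁻¹ = x * σ⁻¹ := by group
    rwa [h3] at h2
  obtain ⟨z, hz⟩ := hsurj ⟨_, hx'⟩
  refine ⟨z, ?_⟩
  have h1 : (z : G) * σ * (z : G)⁻¹ * σ⁻¹ = x * σ⁻¹ := congrArg Subtype.val hz
  exact mul_right_cancel h1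

/-- **LINVAL** (M). On `N_G(P) \ P` a character is the combination of the linear characters:
`χ(σ) = ∑_i a_i(χ) μ_i(σ)` (the coset `Pσ` is a single `P`-conjugacy class). -/
theorem LINVAL (P : Sylow p G) (hP : Nat.card P = p)
    (hC : ∀ c ∈ Cen P, c ∈ (P : Subgroup G)) (L : LinData P) (χ : IrrCharacter G)
    (σ : G) (hσN : σ ∈ Nrm P) (hσP : σ ∉ (P : Subgroup G)) :
    (χ : G → ℂ) σ = ∑ i : L.ι, (L.a i χ : ℂ) * L.μ i σ := by
  classical
  have hp0 : (p : ℂ) ≠ 0 := Nat.cast_ne_zero.mpr hp.out.ne_zero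
  have hcf : IsClassFunction G (χ : G → ℂ) :=
    Cfsg.Agent.Lib.Helper3_CharBridge.isClassFunction_of_isIrrCharacter χ.2
  rw [key P hP hC L χ hσN]
  have h1 : ∀ x : G, (if x⁻¹ * σ ∈ (P : Subgroup G) then (χ : G → ℂ) x else 0)
      = if x⁻¹ * σ ∈ (P : Subgroup G) then (χ : G → ℂ) σ else 0 := by
    intro x
    by_cases hx : x⁻¹ * σ ∈ (P : Subgroup G)
    · rw [if_pos hx, if_pos hx]
      obtain ⟨z, rfl⟩ := exists_conj P hP hC hσN hσP hx
      exact hcf σ z
    · rw [if_neg hx, if_neg hx]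
  rw [Finset.sum_congr rfl (fun x _ => h1 x), ← Finset.sum_filter, Finset.sum_const,
    nsmul_eq_mul]
  have hcard : (Finset.univ.filter (fun x : G => x⁻¹ * σ ∈ (P : Subgroup G))).card = p := by
    have hP' : (Finset.univ : Finset ↥(P : Subgroup G)).card = p := by
      rw [Finset.card_univ, ← Nat.card_eq_fintype_card, hP]
    refine Eq.trans (Eq.symm ?_) hP'
    apply Finset.card_bij (fun (w : ↥(P : Subgroup G)) _ => σ * (w : G)⁻¹)
    · intro w _
      rw [Finset.mem_filter]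
      refine ⟨Finset.mem_univ _, ?_⟩
      have : (σ * (w : G)⁻¹)⁻¹ * σ = w := by group
      rw [this]
      exact w.2
    · intro w _ w' _ h
      apply Subtype.ext
      exact inv_injective (mul_left_cancel h)
    · intro x hx
      rw [Finset.mem_filter] at hx
      refine ⟨⟨_, hx.2⟩, Finset.mem_univ _, ?_⟩
      show σ * (x⁻¹ * σ)⁻¹ = x
      group
  rw [hcard, ← mul_assoc, inv_mul_cancel₀ hp0, one_mul]

end Cfsg.Agent.Lib.Helper75_BR_LINVAL
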