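/-
  S0997R package VALS (architect helper23): values of an irreducible character at an
  involution of `N_G(P) \ P` when `|P| = p` and `C_G(P) = P`.
-/
import Mathlib
import Cfsg.Prelude.Def_Characters
import Cfsg.Prelude.Def_Blocks
import Cfsg.Agent.Lib.Helper3_CharComplete
import Cfsg.Agent.Lib.Helper80_CharBasic
import Cfsg.Agent.Lib.Helper16_B43Defs
import Cfsg.Agent.Lib.Helper77_BRDefs
import Cfsg.Agent.Lib.Helper62_InvCount_Defs
import Cfsg.Agent.Lib.Helper50_BR_LIN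
import Cfsg.Agent.Lib.Helper75_BR_LINVAL
import Cfsg.Agent.Lib.Helper64_BT_LIN0

set_option autoImplicit false

namespace Cfsg.Agent.Lib.Helper78_BTR_VALS

open Cfsg Cfsg.Agent.Lib.Helper80_CharBasic Cfsg.Agent.Lib.Helper3_CharComplete
  Cfsg.Agent.Lib.Helper16_B43Defs Cfsg.Agent.Lib.Helper77_BRDefs Cfsg.Agent.Lib.Helper62_InvCount_Defs
open scoped ComplexConjugate

universe u

variable {G : Type u} [Group G] [Fintype G] {p : ℕ} [hp : Fact p.Prime]

/-- pure arithmetic: a sum `∑ a_i s_i` with `s_i = ±1` and `a_i ∈ ℕ`. -/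
theorem sign_sum {ι : Type*} (s : Finset ι) (a : ι → ℕ) (sg : ι → ℤ)
    (hsg : ∀ i ∈ s, sg i = 1 ∨ sg i = -1) :
    |∑ i ∈ s, (a i : ℤ) * sg i| ≤ ((∑ i ∈ s, a i : ℕ) : ℤ) ∧
      (2 : ℤ) ∣ (∑ i ∈ s, (a i : ℤ) * sg i) - ((∑ i ∈ s, a i : ℕ) : ℤ) := by
  constructor
  · calc |∑ i ∈ s, (a i : ℤ) * sg i| ≤ ∑ i ∈ s, |(a i : ℤ) * sg i| :=
          Finset.abs_sum_le_sum_abs _ _
      _ = ∑ i ∈ s, (a i : ℤ) := by
          refine Finset.sum_congr rfl (fun i hi => ?_)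
          rcases hsg i hi with h | h <;> rw [h] <;> simp
      _ = ((∑ i ∈ s, a i : ℕ) : ℤ) := by push_cast; rfl
  · have : (∑ i ∈ s, (a i : ℤ) * sg i) - ((∑ i ∈ s, a i : ℕ) : ℤ)
        = ∑ i ∈ s, (a i : ℤ) * (sg i - 1) := by
      push_cast
      rw [← Finset.sum_sub_distrib]
      refine Finset.sum_congr rfl (fun i _ => ?_)
      ring
    rw [this]
    refine Finset.dvd_sum (fun i hi => ?_)
    rcases hsg i hi with h | h <;> rw [h]
    · simp
    · exact Dvd.dvd.mul_left (by norm_num) _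

theorem value_on_N (P : Sylow p G) (hP : Nat.card P = p)
    (hC : ∀ c ∈ Cen P, c ∈ (P : Subgroup G)) (χ : IrrCharacter G) (t : G) (htN : t ∈ Nrm P)
    (htP : t ∉ (P : Subgroup G)) (ht : orderOf t = 2) (m : ℕ) (hm : pavg P (χ : G → ℂ) = (m : ℂ)) :
    ∃ k : ℤ, (χ : G → ℂ) t = (k : ℂ) ∧ |k| ≤ (m : ℤ) ∧ (2 : ℤ) ∣ k - m := by
  classical
  obtain ⟨L⟩ := Cfsg.Agent.Lib.Helper50_BR_LIN.LIN P hP hC
  have hval := Cfsg.Agent.Lib.Helper75_BR_LINVAL.LINVAL P hP hC L χ t htN htP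
  have hsum := (Cfsg.Agent.Lib.Helper64_BT_LIN0.lin_basic P hP hC L).2 χ
  rw [hm] at hsum
  have hsumN : (∑ i : L.ι, L.a i χ) = m := by exact_mod_cast hsum
  -- `t * t = 1`
  have htt : t * t = 1 := by
    have := pow_orderOf_eq_one t
    rw [ht, pow_two] at this
    exact this
  -- `μ_i(t) = ± 1`
  have hμ : ∀ i : L.ι, L.μ i t = 1 ∨ L.μ i t = -1 := by
    intro i
    have h1 : L.μ i (t * t) = L.μ i t * L.μ i t := L.hμ_mul i t htN t htN
    rw [htt, L.hμ_P i 1 (Subgroup.one_mem _)] at h1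
    have h2 : (L.μ i t - 1) * (L.μ i t + 1) = 0 := by
      have : L.μ i t * L.μ i t = 1 := h1.symm
      linear_combination this
    rcases mul_eq_zero.mp h2 with h | h
    · left; linear_combination h
    · right; linear_combination h
  -- integer signs
  have hex : ∀ i : L.ι, ∃ s : ℤ, (s = 1 ∨ s = -1) ∧ L.μ i t = (s : ℂ) := by
    intro i
    rcases hμ i with h | h
    · exact ⟨1, Or.inl rfl, by rw [h]; simp⟩
    · exact ⟨-1, Or.inr rfl, by rw [h]; simp⟩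
  choose sg hsg hsgv using hex
  obtain ⟨habs, hdvd⟩ := sign_sum (Finset.univ : Finset L.ι) (fun i => L.a i χ) sg
    (fun i _ => hsg i)
  refine ⟨∑ i : L.ι, (L.a i χ : ℤ) * sg i, ?_, ?_, ?_⟩
  · rw [hval]
    push_cast
    refine Finset.sum_congr rfl (fun i _ => ?_)
    rw [hsgv i]
  · rw [hsumN] at habs
    exact habs
  · rw [hsumN] at hdvd
    exact hdvd

end Cfsg.Agent.Lib.Helper78_BTR_VALS
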