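import Mathlib
import Cfsg.Prelude.Def_Characters
import Cfsg.Prelude.Def_Blocks
import Cfsg.Agent.S0944
import Cfsg.Agent.Lib.Helper3_CharComplete
import Cfsg.Agent.Lib.Helper3_CharColumn
import Cfsg.Agent.Lib.Helper80_CharBasic
import Cfsg.Agent.Lib.Helper16_B43Defs
import Cfsg.Agent.Lib.Helper77_BRDefs
import Cfsg.Agent.Lib.Helper62_InvCount_Defs
import Cfsg.Agent.Lib.Helper5_INV_CORE
import Cfsg.Agent.Lib.Helper50_BR_LIN
import Cfsg.Agent.Lib.Helper65_BR_EXC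
import Cfsg.Agent.Lib.Helper68_BR_FROBN
import Cfsg.Agent.Lib.Helper77_BT_FUN
import Cfsg.Agent.Lib.Helper23_BT_Util
import Cfsg.Agent.Lib.Helper78_BTR_INVSUM
import Cfsg.Agent.Lib.Helper43_BTR_BURN
import Cfsg.Agent.Lib.Helper42_BTR_2CENT
import Cfsg.Agent.Lib.Helper78_BTR_VALS
import Cfsg.Agent.Lib.Helper54_BTR_ENDARITH

/-!
# Brauer-Tuan (S0997): the endgame (helper23)
-/

set_option autoImplicit false
set_option linter.unusedSectionVars false

namespace Cfsg.Agent.Lib.Helper23_BTR_End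

open Cfsg Cfsg.Agent.Lib.Helper80_CharBasic Cfsg.Agent.Lib.Helper3_CharComplete
  Cfsg.Agent.Lib.Helper16_B43Defs Cfsg.Agent.Lib.Helper77_BRDefs Cfsg.Agent.Lib.Helper62_InvCount_Defs
  Cfsg.Agent.Lib.Helper23_BT_Util
open Cfsg.Agent.Lib.Helper78_BTR_INVSUM (invsum_formula)
open Cfsg.Agent.Lib.Helper43_BTR_BURN (burnside_vanish)
open Cfsg.Agent.Lib.Helper42_BTR_2CENT (exists_two_central)
open Cfsg.Agent.Lib.Helper78_BTR_VALS (value_on_N)
open Cfsg.Agent.Lib.Helper54_BTR_ENDARITH (end_arith)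
open scoped ComplexConjugate

universe u

variable {G : Type u} [Group G] [Fintype G] {p : ℕ} [hp : Fact p.Prime]


omit [Fintype G] hp in
/-- An involution inverting `P` normalizes `P`. -/
theorem mem_nrm_of_inverts (P : Sylow p G) {t : G} (htt : t * t = 1)
    (hinv : ∀ w ∈ (P : Subgroup G), t * w * t⁻¹ = w⁻¹) : t ∈ Nrm P := by
  rw [Subgroup.mem_normalizer_iff]
  intro h
  constructor
  · intro hh
    rw [hinv h hh]
    exact Subgroup.inv_mem _ hh
  · intro hh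
    have h1 := hinv _ hh
    have htinv : t⁻¹ = t := inv_eq_of_mul_eq_one_left htt
    have h2 : t * (t * h * t⁻¹) * t⁻¹ = h := by
      rw [htinv]
      calc t * (t * h * t) * t = (t * t) * h * (t * t) := by group
        _ = h := by rw [htt]; group
    rw [h2] at h1
    rw [h1]
    exact Subgroup.inv_mem _ hh

/-- The involution of `invol_core`, with all the properties used below. -/
theorem exists_t (P : Sylow p G) (hP : Nat.card P = p) (hC : ∀ c ∈ Cen P, c ∈ (P : Subgroup G))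
    (hq2 : 2 ≤ qq P) (heven : Even (qq P)) (hp2 : p ≠ 2)
    (x : G) (hx : x ∈ (P : Subgroup G)) (hx1 : x ≠ 1) :
    ∃ t : G, orderOf t = 2 ∧ t ∈ Nrm P ∧ t ∉ (P : Subgroup G) ∧
      (p : ℂ) * (Nat.card (Subgroup.centralizer ({t} : Set G)) : ℂ) ^ 2 =
        (Nat.card G : ℂ) * invSum G t x ∧
      ∀ z : G, orderOf z = 2 → ¬ IsConj t z → invSum G z x = 0 := by
  have hCeq := Cfsg.Agent.Lib.Helper65_BR_EXC.centralizer_eq P hP hC
  obtain ⟨Q, -, -, -, -, hNcard, -⟩ := Cfsg.Agent.Lib.Helper68_BR_FROBN.FROBN P hP hC hq2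
  have h2N : 2 ∣ Nat.card (Subgroup.normalizer ((P : Subgroup G) : Set G)) := by
    have : Nat.card (Nrm P) = p * qq P := hNcard
    rw [this]
    exact Dvd.dvd.mul_left heven.two_dvd p
  obtain ⟨t, ht2, hinv, hcount, hother⟩ :=
    Cfsg.Agent.Lib.Helper5_INV_CORE.invol_core hp2 P hP hCeq h2N x hx hx1
  have htt : t * t = 1 := Cfsg.Agent.Lib.Helper5_INV_CORE.mul_self_of_orderOf_two ht2
  have hPx : ∀ w ∈ (P : Subgroup G), w ∈ Subgroup.zpowers x := by
    intro w hw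
    have h1 : Subgroup.zpowers (⟨x, hx⟩ : (P : Subgroup G)) = ⊤ :=
      zpowers_eq_top_of_prime_card (G := (P : Subgroup G)) hP
        (fun h => hx1 (congrArg Subtype.val h))
    have h2 : (⟨w, hw⟩ : (P : Subgroup G)) ∈ Subgroup.zpowers (⟨x, hx⟩ : (P : Subgroup G)) := by
      rw [h1]; exact Subgroup.mem_top _
    obtain ⟨i, hi⟩ := h2
    exact ⟨i, by simpa using congrArg Subtype.val hi⟩
  have hinvP : ∀ w ∈ (P : Subgroup G), t * w * t⁻¹ = w⁻¹ :=
    fun w hw => Cfsg.Agent.Lib.Helper5_INV_CORE.inverts_zpowers' hinv (hPx w hw)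
  refine ⟨t, ht2, mem_nrm_of_inverts P htt hinvP, ?_, hcount, hother⟩
  intro htP
  -- an element of `P` has odd order
  have h1 : (⟨t, htP⟩ : (P : Subgroup G)) ^ Nat.card (P : Subgroup G) = 1 := pow_card_eq_one'
  rw [hP] at h1
  have h2 : t ^ p = 1 := by simpa using congrArg Subtype.val h1
  have h3 : orderOf t ∣ p := orderOf_dvd_of_pow_eq_one h2
  rw [ht2] at h3
  exact hp2 ((Nat.prime_dvd_prime_iff_eq Nat.prime_two hp.out).mp h3).symm

/-- Standing hypotheses of the endgame. -/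
structure ESet (P : Sylow p G) (D : PBData P) (e b : ℕ) : Prop where
  hP : Nat.card P = p
  hC : ∀ c ∈ Cen P, c ∈ (P : Subgroup G)
  he : qq P = e
  heven : Even e
  he2 : 2 ≤ e
  hle : 2 * e ≤ p - 1
  hcard : Nat.card G = p * 2 ^ b * (p - e)
  hε : D.ε = -1
  hYdeg : ∀ θ ∈ D.Y, charDegree (θ : G → ℂ) = p - e
  hX : ∀ χ ∈ D.X, χ ≠ oneIrr G →
    (D.εX χ = 1 ∧ charDegree (χ : G → ℂ) = p + 1) ∨
      (D.εX χ = -1 ∧ charDegree (χ : G → ℂ) = p - 1)
  hpβ : ∃ β : ℕ, p - 1 = 2 ^ β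
  hcase : e = 2 ∨ p = 2 * e + 1

variable {P : Sylow p G} {D : PBData P} {e b : ℕ}

theorem ESet.hp5 (hE : ESet P D e b) : 5 ≤ p := by
  have := hE.hle; have := hE.he2; omega

theorem charDegree_one : charDegree ((oneIrr G : IrrCharacter G) : G → ℂ) = 1 := by
  have h := Cfsg.Agent.Lib.Helper77_BT_FUN.apply_one (oneIrr G)
  have h1 : ((oneIrr G : IrrCharacter G) : G → ℂ) 1 = 1 := rfl
  rw [h1] at h
  exact_mod_cast h.symm

theorem ESet.eps_one (hE : ESet P D e b) : D.εX (oneIrr G) = 1 := by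
  have h := D.hXdeg (oneIrr G) D.hone
  rw [charDegree_one] at h
  rcases D.hεX (oneIrr G) D.hone with h' | h'
  · exact h'
  · exfalso
    rw [h'] at h
    have hd : (p : ℤ) ∣ 1 - (-1) := (Int.modEq_iff_dvd.mp h.symm)
    have : (p : ℤ) ∣ 2 := by simpa using hd
    have h2 : p ∣ 2 := by exact_mod_cast this
    have := Nat.le_of_dvd (by norm_num) h2
    have := hE.hp5
    omega

/-- nonnegative reals inside `ℂ` -/
def NNR (a : ℂ) : Prop := ∃ r : ℝ, 0 ≤ r ∧ a = (r : ℂ)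

theorem NNR.add {a b : ℂ} (ha : NNR a) (hb : NNR b) : NNR (a + b) := by
  obtain ⟨r, hr, rfl⟩ := ha
  obtain ⟨s, hs, rfl⟩ := hb
  exact ⟨r + s, add_nonneg hr hs, by push_cast; ring⟩

theorem NNR.zero : NNR 0 := ⟨0, le_refl _, by simp⟩

theorem NNR.sum {ι : Type*} (s : Finset ι) (f : ι → ℂ) (h : ∀ i ∈ s, NNR (f i)) :
    NNR (∑ i ∈ s, f i) :=
  Finset.sum_induction f NNR (fun _ _ => NNR.add) NNR.zero h

theorem NNR.int_sq_div (n : ℤ) (d : ℕ) : NNR ((n : ℂ) ^ 2 / (d : ℂ)) :=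
  ⟨(n : ℝ) ^ 2 / (d : ℝ), by positivity, by push_cast; ring⟩

theorem apply_one' (ζ : IrrCharacter G) :
    (ζ : G → ℂ) 1 = ((charDegree (ζ : G → ℂ) : ℕ) : ℂ) :=
  Cfsg.Agent.Lib.Helper77_BT_FUN.apply_one ζ

/-- For a 2-central involution the class multiplication sum does not vanish. -/
theorem invsum_ne_zero [IsSimpleGroup G] (hnc : ¬ IsCyclic G) (hE : ESet P D e b)
    (x : G) (hx : x ∈ (P : Subgroup G)) (hx1 : x ≠ 1) (z : G) (hz : orderOf z = 2)
    (hodd : Odd (Subgroup.centralizer ({z} : Set G)).index) : invSum G z x ≠ 0 := by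
  classical
  have hp5 := hE.hp5
  have hq2 : 2 ≤ qq P := by rw [hE.he]; exact hE.he2
  have hq : 2 * qq P ≤ p - 1 := by rw [hE.he]; exact hE.hle
  have hzreg : ¬ p ∣ orderOf z := by
    rw [hz]; intro h
    have := Nat.le_of_dvd (by norm_num) h
    omega
  have hz1 : z ≠ 1 := by
    intro h; rw [h, orderOf_one] at hz; omega
  obtain ⟨θ, hθ⟩ : D.Y.Nonempty := by
    rw [Finset.nonempty_iff_ne_empty]
    intro h0
    have := D.hYcard
    rw [h0, Finset.card_empty, zero_mul] at this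
    omega
  rw [invsum_formula P D hE.hP hE.hC hq2 hq x hx hx1 z hzreg θ hθ]
  rw [← Finset.add_sum_erase D.X _ D.hone, hE.eps_one, hE.hε]
  have h1 : ((oneIrr G : IrrCharacter G) : G → ℂ) z = 1 := rfl
  have h2 : ((oneIrr G : IrrCharacter G) : G → ℂ) 1 = 1 := rfl
  rw [h1, h2]
  -- the other terms are nonnegative reals
  have hX : NNR (∑ χ ∈ D.X.erase (oneIrr G),
      (D.εX χ : ℂ) * ((χ : G → ℂ) z) ^ 2 / (χ : G → ℂ) 1) := by
    apply NNR.sum
    intro χ hχ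
    rw [Finset.mem_erase] at hχ
    rcases hE.hX χ hχ.2 hχ.1 with ⟨hε, hdeg⟩ | ⟨hε, hdeg⟩
    · obtain ⟨n, hn, -⟩ := Cfsg.Agent.S0944.result χ z hz
      rw [hε, hn, apply_one']
      have := NNR.int_sq_div n (charDegree (χ : G → ℂ))
      simpa using this
    · obtain ⟨β, hβ⟩ := hE.hpβ
      have hv := burnside_vanish hnc χ hχ.1 β (by rw [hdeg, hβ]) z hz1 hodd
      rw [hv]
      simpa using NNR.zero
  have hY : NNR (((θ : G → ℂ) z) ^ 2 / (θ : G → ℂ) 1) := by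
    obtain ⟨n, hn, -⟩ := Cfsg.Agent.S0944.result θ z hz
    rw [hn, apply_one']
    exact NNR.int_sq_div n _
  obtain ⟨r, hr, hr'⟩ := hX
  obtain ⟨s, hs, hs'⟩ := hY
  rw [hr']
  have : (((-1 : ℤ) : ℂ)) * ((θ : G → ℂ) z) ^ 2 / (θ : G → ℂ) 1
      = -(((θ : G → ℂ) z) ^ 2 / (θ : G → ℂ) 1) := by push_cast; ring
  rw [this, hs']
  have h3 : ((1 : ℤ) : ℂ) * (1 : ℂ) ^ 2 / 1 + (r : ℂ) - -(s : ℂ) = ((1 + r + s : ℝ) : ℂ) := by
    push_cast; ring
  rw [h3]
  have : (0 : ℝ) < 1 + r + s := by linarith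
  exact_mod_cast this.ne'

theorem ESet.reg_one (_hE : ESet P D e b) : ¬ p ∣ orderOf (1 : G) := by
  rw [orderOf_one]
  exact fun h => hp.out.one_lt.ne' (Nat.dvd_one.mp h)

theorem ESet.pC (hE : ESet P D e b) : (p : ℂ) ≠ 0 := by
  have := hE.hp5
  have : p ≠ 0 := by omega
  exact_mod_cast this

/-- value of a member of `X` on `P#` -/
theorem ESet.Xval (hE : ESet P D e b) {χ : IrrCharacter G} (hχ : χ ∈ D.X) {x : G}
    (hx : x ∈ (P : Subgroup G)) (hx1 : x ≠ 1) : (χ : G → ℂ) x = (D.εX χ : ℂ) := by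
  have := D.hXval χ hχ x hx hx1 1 (Subgroup.one_mem _) hE.reg_one
  rwa [mul_one] at this

theorem ESet.pavg_plus (hE : ESet P D e b) {χ : IrrCharacter G} (hχ : χ ∈ D.X)
    (hε : D.εX χ = 1) (hdeg : charDegree (χ : G → ℂ) = p + 1) : pavg P (χ : G → ℂ) = ((2 : ℕ) : ℂ) := by
  have h := pavg_split P hE.hP (χ : G → ℂ)
  have h1 : ∑ x ∈ Ps P, (χ : G → ℂ) x = ∑ _x ∈ Ps P, (1 : ℂ) := by
    apply Finset.sum_congr rfl
    intro x hx
    rw [mem_Ps] at hx
    rw [hE.Xval hχ hx.1 hx.2, hε]; simp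
  rw [h1, sum_Ps_one P hE.hP, apply_one', hdeg] at h
  have : (p : ℂ) * pavg P (χ : G → ℂ) = (p : ℂ) * 2 := by rw [h]; push_cast; ring
  have := mul_left_cancel₀ hE.pC this
  rw [this]; norm_num

theorem ESet.pavg_Y (hE : ESet P D e b) {θ : IrrCharacter G} (hθ : θ ∈ D.Y) :
    pavg P (θ : G → ℂ) = ((1 : ℕ) : ℂ) := by
  classical
  have hq2 : 2 ≤ qq P := by rw [hE.he]; exact hE.he2
  have hq : 2 * qq P ≤ p - 1 := by rw [hE.he]; exact hE.hle
  obtain ⟨L⟩ := Cfsg.Agent.Lib.Helper50_BR_LIN.LIN P hE.hP hE.hC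
  obtain ⟨-, hE2, -⟩ := Cfsg.Agent.Lib.Helper65_BR_EXC.EXC P hE.hP hE.hC D L hq2 hq
  have h := hE2 θ hθ
  rw [hE.hε, hE.he] at h
  have hfs : ∑ᶠ x ∈ {x : G | x ∈ (P : Subgroup G) ∧ x ≠ 1}, (θ : G → ℂ) x
      = ∑ x ∈ Ps P, (θ : G → ℂ) x := by
    rw [finsum_mem_eq_finite_toFinset_sum _ (Set.toFinite _)]
    apply Finset.sum_congr _ (fun _ _ => rfl)
    ext x
    simp [mem_Ps]
  rw [hfs] at h
  have hsp := pavg_split P hE.hP (θ : G → ℂ)
  have hle : e ≤ p := by have := hE.hle; omega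
  rw [h, apply_one', hE.hYdeg θ hθ, Nat.cast_sub hle] at hsp
  have : (p : ℂ) * pavg P (θ : G → ℂ) = (p : ℂ) * 1 := by rw [hsp]; push_cast; ring
  have := mul_left_cancel₀ hE.pC this
  rw [this]; norm_num

/-- the positive non-trivial members of `X` -/
noncomputable def Xp (D : PBData P) : Finset (IrrCharacter G) := by
  classical exact (D.X.erase (oneIrr G)).filter (fun χ => D.εX χ = 1)

/-- the negative members of `X` -/
noncomputable def Xm (D : PBData P) : Finset (IrrCharacter G) := by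
  classical exact (D.X.erase (oneIrr G)).filter (fun χ => ¬ D.εX χ = 1)

theorem sum_split (D : PBData P) (f : IrrCharacter G → ℂ) :
    ∑ χ ∈ D.X, f χ = f (oneIrr G) + ∑ χ ∈ Xp D, f χ + ∑ χ ∈ Xm D, f χ := by
  classical
  unfold Xp Xm
  rw [← Finset.add_sum_erase D.X _ D.hone, add_assoc, Finset.sum_filter_add_sum_filter_not]

theorem ESet.mem_Xp (hE : ESet P D e b) {χ : IrrCharacter G} (hχ : χ ∈ Xp D) :
    χ ∈ D.X ∧ χ ≠ oneIrr G ∧ D.εX χ = 1 ∧ charDegree (χ : G → ℂ) = p + 1 := by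
  classical
  unfold Xp at hχ
  rw [Finset.mem_filter, Finset.mem_erase] at hχ
  refine ⟨hχ.1.2, hχ.1.1, hχ.2, ?_⟩
  rcases hE.hX χ hχ.1.2 hχ.1.1 with h | h
  · exact h.2
  · rw [hχ.2] at h; omega

theorem ESet.mem_Xm (hE : ESet P D e b) {χ : IrrCharacter G} (hχ : χ ∈ Xm D) :
    χ ∈ D.X ∧ χ ≠ oneIrr G ∧ D.εX χ = -1 ∧ charDegree (χ : G → ℂ) = p - 1 := by
  classical
  unfold Xm at hχ
  rw [Finset.mem_filter, Finset.mem_erase] at hχ
  refine ⟨hχ.1.2, hχ.1.1, ?_⟩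
  rcases hE.hX χ hχ.1.2 hχ.1.1 with h | h
  · exact absurd h.1 hχ.2
  · exact h

/-- the number of positive non-trivial members of `X` -/
theorem ESet.card_Xp (hE : ESet P D e b) : 2 * (Xp D).card + 2 = e := by
  classical
  have hp5 := hE.hp5
  obtain ⟨θ, hθ⟩ : D.Y.Nonempty := by
    rw [Finset.nonempty_iff_ne_empty]
    intro h0
    have := D.hYcard
    rw [h0, Finset.card_empty, zero_mul] at this
    omega
  have hrel := D.hrel θ hθ 1 hE.reg_one
  rw [sum_split D, hE.hε, hE.eps_one, apply_one', hE.hYdeg θ hθ] at hrel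
  have h2 : ((oneIrr G : IrrCharacter G) : G → ℂ) 1 = 1 := rfl
  rw [h2] at hrel
  have hsp : ∑ χ ∈ Xp D, (D.εX χ : ℂ) * (χ : G → ℂ) 1 = ((Xp D).card : ℂ) * ((p : ℂ) + 1) := by
    rw [Finset.sum_congr rfl (g := fun _ => (p : ℂ) + 1)]
    · rw [Finset.sum_const, nsmul_eq_mul]
    · intro χ hχ
      obtain ⟨-, -, hε, hdeg⟩ := hE.mem_Xp hχ
      rw [hε, apply_one', hdeg]; push_cast; ring
  have hsm : ∑ χ ∈ Xm D, (D.εX χ : ℂ) * (χ : G → ℂ) 1 = -((Xm D).card : ℂ) * ((p : ℂ) - 1) := by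
    rw [Finset.sum_congr rfl (g := fun _ => -((p : ℂ) - 1))]
    · rw [Finset.sum_const, nsmul_eq_mul]; ring
    · intro χ hχ
      obtain ⟨-, -, hε, hdeg⟩ := hE.mem_Xm hχ
      rw [hε, apply_one', hdeg, Nat.cast_sub (by omega)]; push_cast; ring
  rw [hsp, hsm] at hrel
  have hcard : (Xp D).card + (Xm D).card + 1 = e := by
    have h1 : (Xp D).card + (Xm D).card = (D.X.erase (oneIrr G)).card := by
      unfold Xp Xm
      exact Finset.card_filter_add_card_filter_not _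
    rw [h1, Finset.card_erase_of_mem D.hone, D.hXcard, hE.he]
    have := hE.he2
    omega
  have hle : e ≤ p := by have := hE.hle; omega
  rw [Nat.cast_sub hle] at hrel
  -- to integers
  have hZ : -((p : ℤ) - (e : ℤ)) = 1 + ((Xp D).card : ℤ) * ((p : ℤ) + 1)
      - ((Xm D).card : ℤ) * ((p : ℤ) - 1) := by
    have : ((-((p : ℤ) - (e : ℤ)) : ℤ) : ℂ) = ((1 + ((Xp D).card : ℤ) * ((p : ℤ) + 1)
      - ((Xm D).card : ℤ) * ((p : ℤ) - 1) : ℤ) : ℂ) := by
      push_cast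
      push_cast at hrel
      linear_combination hrel
    exact_mod_cast this
  have hcZ : ((Xp D).card : ℤ) + ((Xm D).card : ℤ) + 1 = (e : ℤ) := by exact_mod_cast hcard
  have hpZ : (5 : ℤ) ≤ (p : ℤ) := by exact_mod_cast hp5
  have key : (p : ℤ) * (2 * ((Xp D).card : ℤ) + 2 - (e : ℤ)) = 0 := by
    have : ((Xm D).card : ℤ) = (e : ℤ) - 1 - ((Xp D).card : ℤ) := by linarith
    rw [this] at hZ
    linear_combination -hZ
  have : 2 * ((Xp D).card : ℤ) + 2 - (e : ℤ) = 0 := by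
    rcases mul_eq_zero.mp key with h | h
    · omega
    · exact h
  omega

/-- the class multiplication sum at the involution `t` of `N_G(P)` -/
theorem ESet.invsum_t (hE : ESet P D e b) (x : G) (hx : x ∈ (P : Subgroup G)) (hx1 : x ≠ 1)
    (t : G) (ht : orderOf t = 2) (htN : t ∈ Nrm P) (htP : t ∉ (P : Subgroup G))
    (hvan : ∀ χ ∈ Xm D, (χ : G → ℂ) t = 0) :
    ∃ k' : ℕ, k' ≤ (Xp D).card ∧
      invSum G t x = 1 + 4 * (k' : ℂ) / ((p : ℂ) + 1) + 1 / ((p : ℂ) - (e : ℂ)) := by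
  classical
  have hp5 := hE.hp5
  have hq2 : 2 ≤ qq P := by rw [hE.he]; exact hE.he2
  have hq : 2 * qq P ≤ p - 1 := by rw [hE.he]; exact hE.hle
  have htreg : ¬ p ∣ orderOf t := by
    rw [ht]; intro h
    have := Nat.le_of_dvd (by norm_num) h
    omega
  obtain ⟨θ, hθ⟩ : D.Y.Nonempty := by
    rw [Finset.nonempty_iff_ne_empty]
    intro h0
    have := D.hYcard
    rw [h0, Finset.card_empty, zero_mul] at this
    omega
  refine ⟨((Xp D).filter (fun χ : IrrCharacter G => (χ : G → ℂ) t ≠ 0)).card, Finset.card_filter_le _ _, ?_⟩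
  rw [invsum_formula P D hE.hP hE.hC hq2 hq x hx hx1 t htreg θ hθ, sum_split D, hE.eps_one, hE.hε]
  have h1 : ((oneIrr G : IrrCharacter G) : G → ℂ) t = 1 := rfl
  have h2 : ((oneIrr G : IrrCharacter G) : G → ℂ) 1 = 1 := rfl
  rw [h1, h2]
  -- the negative members
  have hm : ∑ χ ∈ Xm D, (D.εX χ : ℂ) * ((χ : G → ℂ) t) ^ 2 / (χ : G → ℂ) 1 = 0 := by
    apply Finset.sum_eq_zero
    intro χ hχ
    rw [hvan χ hχ]; simp
  -- the positive members
  have hpl : ∑ χ ∈ Xp D, (D.εX χ : ℂ) * ((χ : G → ℂ) t) ^ 2 / (χ : G → ℂ) 1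
      = 4 * (((Xp D).filter (fun χ : IrrCharacter G => (χ : G → ℂ) t ≠ 0)).card : ℂ) / ((p : ℂ) + 1) := by
    rw [Finset.card_filter, Nat.cast_sum, Finset.mul_sum, Finset.sum_div]
    apply Finset.sum_congr rfl
    intro χ hχ
    obtain ⟨hχX, -, hε, hdeg⟩ := hE.mem_Xp hχ
    obtain ⟨k, hk, hk2, hkd⟩ := value_on_N P hE.hP hE.hC χ t htN htP ht 2
      (hE.pavg_plus hχX hε hdeg)
    rw [hε, apply_one', hdeg, hk]
    have hk' := abs_le.mp hk2
    obtain ⟨j, hj⟩ := hkd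
    have hcases : k = -2 ∨ k = 0 ∨ k = 2 := by
      push_cast at hk' hj
      omega
    rcases hcases with h | h | h
    · rw [h, if_pos (by norm_num)]; push_cast; ring
    · rw [h, if_neg (by norm_num)]; push_cast; ring
    · rw [h, if_pos (by norm_num)]; push_cast; ring
  -- the exceptional term
  have hex : ((θ : G → ℂ) t) ^ 2 / (θ : G → ℂ) 1 = 1 / ((p : ℂ) - (e : ℂ)) := by
    obtain ⟨k, hk, hk2, hkd⟩ := value_on_N P hE.hP hE.hC θ t htN htP ht 1 (hE.pavg_Y hθ)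
    have hle : e ≤ p := by have := hE.hle; omega
    rw [apply_one', hE.hYdeg θ hθ, Nat.cast_sub hle, hk]
    have hk' := abs_le.mp hk2
    obtain ⟨j, hj⟩ := hkd
    have hcases : k = -1 ∨ k = 1 := by
      push_cast at hk' hj
      omega
    rcases hcases with h | h <;> rw [h] <;> push_cast <;> ring
  rw [hm, hpl]
  have : (((-1 : ℤ)) : ℂ) * ((θ : G → ℂ) t) ^ 2 / (θ : G → ℂ) 1
      = -(((θ : G → ℂ) t) ^ 2 / (θ : G → ℂ) 1) := by push_cast; ring
  rw [this, hex]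
  push_cast
  ring

/-- **The endgame**: `2^b = p - 1`. -/
theorem endgame [IsSimpleGroup G] (hnc : ¬ IsCyclic G) (hE : ESet P D e b) : 2 ^ b = p - 1 := by
  classical
  have hp5 := hE.hp5
  have hp2 : p ≠ 2 := by omega
  have hq2 : 2 ≤ qq P := by rw [hE.he]; exact hE.he2
  have hle : e ≤ p := by have := hE.hle; omega
  -- a nonidentity element of `P`
  obtain ⟨x, hx, hx1⟩ : ∃ x ∈ (P : Subgroup G), x ≠ 1 := by
    have h1 : 1 < Nat.card (P : Subgroup G) := by rw [hE.hP]; omega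
    have : Nontrivial (P : Subgroup G) := (Finite.one_lt_card_iff_nontrivial).mp h1
    obtain ⟨y, hy⟩ := exists_ne (1 : (P : Subgroup G))
    exact ⟨(y : G), y.2, fun h => hy (Subtype.ext h)⟩
  obtain ⟨t, ht2, htN, htP, hcount, hother⟩ :=
    exists_t P hE.hP hE.hC hq2 (by rw [hE.he]; exact hE.heven) hp2 x hx hx1
  -- the order of the normalizer divides the group order
  obtain ⟨Q, -, -, -, -, hNcard, -⟩ := Cfsg.Agent.Lib.Helper68_BR_FROBN.FROBN P hE.hP hE.hC hq2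
  rw [hE.he] at hNcard
  have hNdvd : p * e ∣ Nat.card G := by
    rw [← hNcard]; exact Subgroup.card_subgroup_dvd_card _
  have h2G : 2 ∣ Nat.card G :=
    (hE.heven.two_dvd.trans (Dvd.intro_left p rfl)).trans hNdvd
  -- a 2-central involution
  obtain ⟨z, hz2, S, hS⟩ := exists_two_central (G := G) h2G
  have : Fact (Nat.Prime 2) := ⟨Nat.prime_two⟩
  have hodd : Odd (Subgroup.centralizer ({z} : Set G)).index := by
    rw [← Nat.not_even_iff_odd, even_iff_two_dvd]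
    intro h
    exact S.not_dvd_index (h.trans (Subgroup.index_dvd_of_le hS))
  have hconj : IsConj t z := by
    by_contra hnc'
    exact invsum_ne_zero hnc hE x hx hx1 z hz2 hodd (hother z hz2 hnc')
  -- the negative members vanish at `t`
  have hz1 : z ≠ 1 := by
    intro h; rw [h, orderOf_one] at hz2; omega
  have hvan : ∀ χ ∈ Xm D, (χ : G → ℂ) t = 0 := by
    intro χ hχ
    obtain ⟨-, hne, -, hdeg⟩ := hE.mem_Xm hχ
    obtain ⟨β, hβ⟩ := hE.hpβ
    rw [irr_isConj χ hconj]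
    exact burnside_vanish hnc χ hne β (by rw [hdeg, hβ]) z hz1 hodd
  obtain ⟨k', hk', hsum⟩ := hE.invsum_t x hx hx1 t ht2 htN htP hvan
  -- the order of the centralizer
  set c := Nat.card (Subgroup.centralizer ({t} : Set G)) with hc
  have hcz : c = Nat.card (Subgroup.centralizer ({z} : Set G)) :=
    Cfsg.Agent.Lib.Helper3_CharColumn.card_centralizer_eq_of_isConj hconj
  have h2b : 2 ^ b ∣ c := by
    have h1 : 2 ^ b ∣ Nat.card G := by rw [hE.hcard]; exact ⟨p * (p - e), by ring⟩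
    have h2 : 2 ^ b ∣ Nat.card S := S.pow_dvd_card_of_pow_dvd_card h1
    rw [hcz]
    exact h2.trans (Subgroup.card_dvd_of_le hS)
  have hcG : c ∣ p * 2 ^ b * (p - e) := by
    rw [← hE.hcard]; exact Subgroup.card_subgroup_dvd_card _
  have hed : e ∣ 2 ^ b * (p - e) := by
    rw [hE.hcard, mul_assoc] at hNdvd
    exact Nat.dvd_of_mul_dvd_mul_left (by omega) hNdvd
  -- the main equation
  have hmain : c ^ 2 * (p + 1) = 2 ^ b * ((p - e + 1) * (p + 1) + 4 * (p - e) * k') := by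
    rw [hsum, hE.hcard] at hcount
    have hpe : ((p : ℂ) - (e : ℂ)) ≠ 0 := by
      have : e < p := by have := hE.hle; omega
      have h : ((p - e : ℕ) : ℂ) ≠ 0 := by
        have : p - e ≠ 0 := by omega
        exact_mod_cast this
      rwa [Nat.cast_sub hle] at h
    have hp1 : ((p : ℂ) + 1) ≠ 0 := by
      have : ((p + 1 : ℕ) : ℂ) ≠ 0 := by exact_mod_cast (Nat.succ_ne_zero p)
      simpa using this
    have : ((c ^ 2 * (p + 1) : ℕ) : ℂ) = ((2 ^ b * ((p - e + 1) * (p + 1) + 4 * (p - e) * k') : ℕ) : ℂ) := by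
      push_cast
      rw [Nat.cast_sub hle]
      push_cast at hcount
      rw [Nat.cast_sub hle] at hcount
      field_simp at hcount
      have hpC := hE.pC
      have h3 : (p : ℂ) * ((c : ℂ) ^ 2 * ((p : ℂ) + 1)) = (p : ℂ) * (2 ^ b * (((p : ℂ) - e + 1) * ((p : ℂ) + 1) + 4 * ((p : ℂ) - e) * k')) := by
        linear_combination hcount
      exact mul_left_cancel₀ hpC h3
    exact_mod_cast this
  obtain ⟨β, hβ⟩ := hE.hpβ
  exact end_arith p e b β c k' (Xp D).card hp5 hβ hE.he2 hE.heven hE.hle hE.hcase h2b hcG hed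
    hE.card_Xp hk' hmain

end Cfsg.Agent.Lib.Helper23_BTR_End
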