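import Mathlib

set_option autoImplicit false

/-!
S0997R-A1 (helper23's Brauer-Tuan market): the first arithmetic step (pure arithmetic).
-/

namespace Cfsg.Agent.Lib.Helper42_BTR_A1

/-- a natural number `d ≥ 2` congruent to `±1` modulo a prime `p` is at least `p - 1` and prime to `p`. -/
theorem ge_of_modEq_sign (p d : ℕ) (hp : p.Prime) (s : ℤ) (hs : s = 1 ∨ s = -1) (hd : 2 ≤ d)
    (h : (d : ℤ) ≡ s [ZMOD p]) : p - 1 ≤ d ∧ ¬ p ∣ d := by
  have hp2 := hp.two_le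
  have hdvd : (p : ℤ) ∣ s - d := h.dvd
  constructor
  · rcases hs with rfl | rfl
    · have h1 : (p : ℤ) ∣ (d : ℤ) - 1 := by
        have := dvd_neg.mpr hdvd
        simpa using this
      have := Int.le_of_dvd (by omega) h1
      omega
    · have h1 : (p : ℤ) ∣ (d : ℤ) + 1 := by
        have := dvd_neg.mpr hdvd
        have e : -(-1 - (d : ℤ)) = (d : ℤ) + 1 := by ring
        rwa [e] at this
      have := Int.le_of_dvd (by omega) h1
      omega
  · intro hpd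
    have hpd' : (p : ℤ) ∣ (d : ℤ) := Int.natCast_dvd_natCast.mpr hpd
    have hps : (p : ℤ) ∣ s := by
      have := dvd_add hdvd hpd'
      simpa using this
    have hp1 : (p : ℤ) ∣ 1 := by
      rcases hs with rfl | rfl
      · exact hps
      · simpa using hps
    have := Int.le_of_dvd one_pos hp1
    omega

theorem front_arith {ι : Type*} [DecidableEq ι] (p q b g₀ e : ℕ) (hp : p.Prime) (hq : q.Prime)
    (hg0 : 0 < g₀) (hg : g₀ < p - 1) (he2 : 2 ≤ e) (hed : e ∣ p - 1)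
    (X : Finset ι) (one : ι) (hone : one ∈ X) (δ : ι → ℤ) (deg : ι → ℕ)
    (hδ : ∀ χ ∈ X, δ χ = 1 ∨ δ χ = -1) (hdegone : deg one = 1) (hδone : δ one = 1)
    (hnolin : ∀ χ ∈ X, χ ≠ one → 2 ≤ deg χ)
    (hXdeg : ∀ χ ∈ X, (deg χ : ℤ) ≡ δ χ [ZMOD p])
    (hXdvd : ∀ χ ∈ X, deg χ ∣ p * q ^ b * g₀)
    (ε : ℤ) (hε : ε = 1 ∨ ε = -1) (dθ : ℕ) (hθ2 : 2 ≤ dθ)
    (hYdeg : (dθ : ℤ) ≡ ε * (e : ℤ) [ZMOD p]) (hθdvd : dθ ∣ p * q ^ b * g₀)
    (hrel : ε * (dθ : ℤ) = ∑ χ ∈ X, δ χ * (deg χ : ℤ)) :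
    (∀ χ ∈ X, χ ≠ one → q ∣ deg χ) ∧ ¬ q ∣ dθ ∧ dθ ∣ g₀ ∧ 2 * e ≤ p - 1 ∧
      ((ε = 1 ∧ dθ = e) ∨ (ε = -1 ∧ dθ + e = p)) := by
  have hp2 := hp.two_le
  have hq2 := hq.two_le
  have hep : e ≤ p - 1 := Nat.le_of_dvd (by omega) hed
  -- (1)
  have h1 : ∀ χ ∈ X, χ ≠ one → q ∣ deg χ := by
    intro χ hχ hne
    obtain ⟨hge, hnd⟩ := ge_of_modEq_sign p (deg χ) hp (δ χ) (hδ χ hχ) (hnolin χ hχ hne) (hXdeg χ hχ)
    by_contra hqd
    have hcop : Nat.Coprime (deg χ) p := ((Nat.Prime.coprime_iff_not_dvd hp).mpr hnd).symm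
    have hd1 : deg χ ∣ q ^ b * g₀ := by
      have := hXdvd χ hχ
      rw [mul_assoc] at this
      exact hcop.dvd_of_dvd_mul_left this
    have hcopq : Nat.Coprime (deg χ) (q ^ b) :=
      (((Nat.Prime.coprime_iff_not_dvd hq).mpr hqd).symm).pow_right b
    have hd2 : deg χ ∣ g₀ := hcopq.dvd_of_dvd_mul_left hd1
    have := Nat.le_of_dvd hg0 hd2
    omega
  -- (2)
  have hsum : (q : ℤ) ∣ ∑ χ ∈ X.erase one, δ χ * (deg χ : ℤ) := by
    apply Finset.dvd_sum
    intro χ hχ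
    have hχX := Finset.mem_of_mem_erase hχ
    have hne := Finset.ne_of_mem_erase hχ
    exact Dvd.dvd.mul_left (Int.natCast_dvd_natCast.mpr (h1 χ hχX hne)) _
  have hrel' : ε * (dθ : ℤ) = 1 + ∑ χ ∈ X.erase one, δ χ * (deg χ : ℤ) := by
    rw [hrel, ← Finset.add_sum_erase X _ hone, hδone, hdegone]
    simp
  have h2 : ¬ q ∣ dθ := by
    intro hqd
    have hqd' : (q : ℤ) ∣ ε * (dθ : ℤ) := Dvd.dvd.mul_left (Int.natCast_dvd_natCast.mpr hqd) _
    rw [hrel'] at hqd'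
    have hq1 : (q : ℤ) ∣ 1 := (dvd_add_left hsum).mp hqd'
    have := Int.le_of_dvd one_pos hq1
    omega
  -- (3)
  have hdvdY : (p : ℤ) ∣ ε * (e : ℤ) - dθ := hYdeg.dvd
  have hnpd : ¬ p ∣ dθ := by
    intro hpd
    have hpd' : (p : ℤ) ∣ (dθ : ℤ) := Int.natCast_dvd_natCast.mpr hpd
    have hpe : (p : ℤ) ∣ ε * (e : ℤ) := by
      have := dvd_add hdvdY hpd'
      simpa using this
    have hpe' : (p : ℤ) ∣ (e : ℤ) := by
      rcases hε with rfl | rfl
      · simpa using hpe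
      · simpa using hpe
    have := Int.le_of_dvd (by omega) hpe'
    omega
  have hcop : Nat.Coprime dθ p := ((Nat.Prime.coprime_iff_not_dvd hp).mpr hnpd).symm
  have hd1 : dθ ∣ q ^ b * g₀ := by
    have := hθdvd
    rw [mul_assoc] at this
    exact hcop.dvd_of_dvd_mul_left this
  have hcopq : Nat.Coprime dθ (q ^ b) :=
    (((Nat.Prime.coprime_iff_not_dvd hq).mpr h2).symm).pow_right b
  have h3 : dθ ∣ g₀ := hcopq.dvd_of_dvd_mul_left hd1
  have hdle : dθ ≤ g₀ := Nat.le_of_dvd hg0 h3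
  -- (5)
  have h5 : (ε = 1 ∧ dθ = e) ∨ (ε = -1 ∧ dθ + e = p) := by
    rcases hε with rfl | rfl
    · left
      refine ⟨rfl, ?_⟩
      obtain ⟨k, hk⟩ := hdvdY
      have hk' : (e : ℤ) - dθ = p * k := by simpa using hk
      have hk0 : k = 0 := by
        by_contra hk0
        rcases lt_or_gt_of_ne hk0 with hneg | hpos
        · have : (p : ℤ) * k ≤ -p := by nlinarith
          omega
        · have : (p : ℤ) ≤ p * k := by nlinarith
          omega
      rw [hk0, mul_zero] at hk'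
      omega
    · right
      refine ⟨rfl, ?_⟩
      obtain ⟨k, hk⟩ := hdvdY
      have hk' : -(e : ℤ) - dθ = p * k := by
        rw [← hk]; ring
      have hk0 : k = -1 := by
        by_contra hk0
        rcases lt_or_gt_of_ne hk0 with hneg | hpos
        · have : (p : ℤ) * k ≤ -2 * p := by nlinarith
          omega
        · have : (0 : ℤ) ≤ p * k := by
            have : (0 : ℤ) ≤ k := by omega
            positivity
          omega
      rw [hk0] at hk'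
      omega
  -- (4)
  have h4 : 2 * e ≤ p - 1 := by
    obtain ⟨k, hk⟩ := hed
    have hkpos : k ≠ 0 := by
      rintro rfl
      omega
    have hk1 : k ≠ 1 := by
      rintro rfl
      rw [mul_one] at hk
      rcases h5 with ⟨_, h⟩ | ⟨_, h⟩
      · omega
      · omega
    have : 2 ≤ k := by omega
    calc 2 * e = e * 2 := by ring
      _ ≤ e * k := Nat.mul_le_mul_left e this
      _ = p - 1 := hk.symm
  exact ⟨h1, h2, h3, h4, h5⟩

end Cfsg.Agent.Lib.Helper42_BTR_A1
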