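import Mathlib
import Cfsg.Prelude.Def_Characters
import Cfsg.Prelude.Def_Blocks
import Cfsg.Agent.Lib.Helper3_CharComplete
import Cfsg.Agent.Lib.Helper80_CharBasic
import Cfsg.Agent.Lib.Helper16_B43Defs
import Cfsg.Agent.Lib.Helper77_BRDefs
import Cfsg.Agent.Lib.Helper62_InvCount_Defs
import Cfsg.Agent.Lib.Helper16_BrauerSetup
import Cfsg.Agent.Lib.Helper77_BlockBasics

set_option autoImplicit false

namespace Cfsg.Agent.Lib.Helper24_BTR_KER2

open Cfsg Cfsg.Agent.Lib.Helper80_CharBasic Cfsg.Agent.Lib.Helper3_CharComplete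
  Cfsg.Agent.Lib.Helper16_B43Defs Cfsg.Agent.Lib.Helper77_BRDefs Cfsg.Agent.Lib.Helper62_InvCount_Defs
open scoped ComplexConjugate

universe u

variable {G : Type u} [Group G] [Fintype G] {p : ℕ} [hp : Fact p.Prime]

theorem ker_small (P : Sylow p G) (hP : Nat.card P = p) (χ : IrrCharacter G)
    (hdeg : charDegree (χ : G → ℂ) < p)
    (hval : ∀ x ∈ (P : Subgroup G), x ≠ 1 → ∀ y ∈ Cen P, ¬ p ∣ orderOf y →
      (χ : G → ℂ) (x * y) = (χ : G → ℂ) x) :
    ∀ y ∈ Cen P, ¬ p ∣ orderOf y → (χ : G → ℂ) y = (χ : G → ℂ) 1 := by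
  classical
  obtain ⟨n, ρ, hirr, hρ⟩ := χ.2
  have hχ : ∀ g, (χ : G → ℂ) g = LinearMap.trace ℂ (Fin n → ℂ) (ρ g) := by
    intro g
    rw [← hρ]
    rfl
  have hp1 : 1 ≤ p := hp.out.one_lt.le
  have hpC : (p : ℂ) ≠ 0 := by exact_mod_cast (by omega : p ≠ 0)
  have hcomm := Cfsg.Agent.Lib.Helper16_BrauerSetup.comm_of_card P hP
  have : Fintype ↥(P : Subgroup G) := Fintype.ofFinite _
  have : Finite (↥(P : Subgroup G) →* ℂˣ) := Cfsg.Agent.Lib.Helper25_AbDual.finite_hom hcomm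
  have : Fintype (↥(P : Subgroup G) →* ℂˣ) := Fintype.ofFinite _
  -- some linear character of `P` does not occur in `χ|_P`
  have hcardhom : Fintype.card (↥(P : Subgroup G) →* ℂˣ) = p := by
    rw [← Nat.card_eq_fintype_card, Cfsg.Agent.Lib.Helper25_AbDual.card_hom hcomm]
    exact hP
  obtain ⟨φ₀, hφ₀⟩ : ∃ φ₀ : ↥(P : Subgroup G) →* ℂˣ,
      Cfsg.Agent.Lib.Helper16_BrauerSetup.mult P χ φ₀ = 0 := by
    by_contra hcon
    push Not at hcon
    have h1 := Cfsg.Agent.Lib.Helper16_BrauerSetup.value_eq P hP χ 1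
    simp only [map_one, Units.val_one, mul_one, OneMemClass.coe_one] at h1
    rw [Cfsg.Agent.Lib.Helper77_BlockBasics.apply_one_eq_charDegree χ] at h1
    have h2 : charDegree (χ : G → ℂ) =
        ∑ φ : ↥(P : Subgroup G) →* ℂˣ, Cfsg.Agent.Lib.Helper16_BrauerSetup.mult P χ φ := by
      exact_mod_cast h1
    have h3 : ∑ φ : ↥(P : Subgroup G) →* ℂˣ, 1 ≤
        ∑ φ : ↥(P : Subgroup G) →* ℂˣ, Cfsg.Agent.Lib.Helper16_BrauerSetup.mult P χ φ :=
      Finset.sum_le_sum fun φ _ => Nat.one_le_iff_ne_zero.2 (hcon φ)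
    rw [Finset.sum_const, Finset.card_univ, hcardhom, smul_eq_mul, mul_one] at h3
    omega
  have hinner := Cfsg.Agent.Lib.Helper16_BrauerSetup.mult_spec P χ φ₀
  rw [hφ₀] at hinner
  unfold classInner at hinner
  have hPC : (Nat.card ↥(P : Subgroup G) : ℂ) = p := by exact_mod_cast hP
  rw [hPC, Nat.cast_zero] at hinner
  have hsum0 : ∑ g : ↥(P : Subgroup G),
      Cfsg.Agent.Lib.Helper16_BrauerSetup.resP P χ g * conj (((φ₀ g : ℂˣ) : ℂ)) = 0 := by
    rcases mul_eq_zero.1 hinner with h | h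
    · exact absurd h (inv_ne_zero hpC)
    · exact h
  -- unit-modulus facts
  have hconj : ∀ g : ↥(P : Subgroup G), conj (((φ₀ g : ℂˣ) : ℂ)) = ((φ₀ g⁻¹ : ℂˣ) : ℂ) :=
    fun g => Cfsg.Agent.Lib.Helper25_AbDual.conj_hom φ₀ g
  have hnorm : ∀ g : ↥(P : Subgroup G), conj (((φ₀ g : ℂˣ) : ℂ)) * ((φ₀ g : ℂˣ) : ℂ) = 1 := by
    intro g
    rw [hconj, ← Units.val_mul, ← map_mul, inv_mul_cancel, map_one, Units.val_one]
  obtain ⟨E, hE⟩ : ∃ E : Module.End ℂ (Fin n → ℂ),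
      E = ∑ x : ↥(P : Subgroup G), conj (((φ₀ x : ℂˣ) : ℂ)) • ρ (x : G) := ⟨_, rfl⟩
  -- `ρ(x₀) E = φ₀(x₀) E`
  have ha : ∀ x₀ : ↥(P : Subgroup G), ρ (x₀ : G) * E = ((φ₀ x₀ : ℂˣ) : ℂ) • E := by
    intro x₀
    rw [hE, Finset.mul_sum, Finset.smul_sum]
    refine Fintype.sum_equiv (Equiv.mulLeft x₀) _ _ ?_
    intro x
    simp only [Equiv.coe_mulLeft]
    rw [mul_smul_comm, ← map_mul, smul_smul, Subgroup.coe_mul]
    congr 1
    rw [hconj, hconj, ← Units.val_mul, ← map_mul, mul_inv_rev]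
    congr 1
    rw [map_mul, map_mul, mul_comm (φ₀ x⁻¹), ← mul_assoc, ← map_mul, mul_inv_cancel, map_one,
      one_mul]
  have hb : E * E = (p : ℂ) • E := by
    have h1 : E * E = ∑ x : ↥(P : Subgroup G), conj (((φ₀ x : ℂˣ) : ℂ)) • (ρ (x : G) * E) := by
      conv_lhs => rw [hE]
      rw [Finset.sum_mul, ← hE]
      refine Finset.sum_congr rfl fun x _ => ?_
      rw [smul_mul_assoc]
    rw [h1]
    simp_rw [ha, smul_smul, hnorm, one_smul]
    rw [Finset.sum_const, Finset.card_univ, ← Nat.card_eq_fintype_card, hP,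
      Nat.cast_smul_eq_nsmul]
  have htr : LinearMap.trace ℂ (Fin n → ℂ) E = 0 := by
    rw [hE, map_sum]
    simp_rw [map_smul, ← hχ]
    rw [← hsum0]
    refine Finset.sum_congr rfl fun x _ => ?_
    rw [smul_eq_mul, mul_comm]
    rfl
  have hidem : IsIdempotentElem ((p : ℂ)⁻¹ • E) := by
    unfold IsIdempotentElem
    rw [smul_mul_smul_comm, hb, smul_smul, mul_assoc, inv_mul_cancel₀ hpC, mul_one]
  have he0 : (p : ℂ)⁻¹ • E = 0 :=
    LinearMap.IsIdempotentElem.eq_zero_of_trace_eq_zero hidem (by rw [map_smul, htr, smul_zero])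
  have he0' : E = 0 := by
    rcases smul_eq_zero.1 he0 with h | h
    · exact absurd h (inv_ne_zero hpC)
    · exact h
  intro y hy hyp
  have h1 : LinearMap.trace ℂ (Fin n → ℂ) (E * ρ y) = 0 := by
    rw [he0', zero_mul, map_zero]
  rw [hE, Finset.sum_mul, map_sum] at h1
  simp_rw [smul_mul_assoc, map_smul, ← map_mul, ← hχ] at h1
  have h2 : LinearMap.trace ℂ (Fin n → ℂ) E = 0 := htr
  rw [hE, map_sum] at h2
  simp_rw [map_smul, ← hχ] at h2
  rw [← Finset.add_sum_erase Finset.univ _ (Finset.mem_univ (1 : ↥(P : Subgroup G)))] at h1 h2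
  have h3 : ∑ x ∈ Finset.univ.erase (1 : ↥(P : Subgroup G)),
      conj (((φ₀ x : ℂˣ) : ℂ)) • (χ : G → ℂ) ((x : G) * y) =
      ∑ x ∈ Finset.univ.erase (1 : ↥(P : Subgroup G)),
      conj (((φ₀ x : ℂˣ) : ℂ)) • (χ : G → ℂ) (x : G) := by
    refine Finset.sum_congr rfl fun x hx => ?_
    have hx1 : (x : G) ≠ 1 := by
      intro h
      exact Finset.ne_of_mem_erase hx (Subtype.ext h)
    rw [hval (x : G) x.2 hx1 y hy hyp]
  rw [h3] at h1
  simp only [map_one, Units.val_one, OneMemClass.coe_one, one_mul, one_smul] at h1 h2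
  linear_combination h1 - h2

end Cfsg.Agent.Lib.Helper24_BTR_KER2
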