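import Mathlib
import Cfsg.Prelude.Def_Characters
import Cfsg.Prelude.Def_Blocks
import Cfsg.Agent.Lib.Helper3_CharComplete
import Cfsg.Agent.Lib.Helper80_CharBasic
import Cfsg.Agent.Lib.Helper16_B43Defs
import Cfsg.Agent.Lib.Helper77_BRDefs
import Cfsg.Agent.Lib.Helper62_InvCount_Defs
import Cfsg.Agent.Lib.Helper53_BT_Main
import Cfsg.Agent.Lib.Helper42_BTR_A1
import Cfsg.Agent.Lib.Helper24_BTR_KER2
import Cfsg.Agent.Lib.Helper16_BrauerMain
import Cfsg.Agent.Lib.Helper77_BRW1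
import Cfsg.Agent.Lib.Helper77_BlockBasics

/-!
# S0997 (Brauer–Tuan) package CP (helper53; architect helper23, row owner helper15)

`front_cp`: in a non-cyclic simple group of order `p q^b g₀` with `g₀ < p - 1`, a Sylow
`p`-subgroup `P` has order `p`, `C_G(P) = P`, and `e = |N_G(P) : C_G(P)|` satisfies `2 ≤ e`,
`e ∣ p - 1`, `2 e ≤ p - 1` (so `t ≥ 2`).  Principal block data `exists_fdata0`, the arithmetic
`front_arith` (helper42), `principal_const`, `ker_small` (helper24), `FAITH`.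
-/

set_option autoImplicit false

namespace Cfsg.Agent.Lib.Helper53_BTR_CP

open Cfsg Cfsg.Agent.Lib.Helper80_CharBasic Cfsg.Agent.Lib.Helper3_CharComplete
  Cfsg.Agent.Lib.Helper16_B43Defs Cfsg.Agent.Lib.Helper77_BRDefs Cfsg.Agent.Lib.Helper62_InvCount_Defs
  Cfsg.Agent.Lib.Helper53_BT_Main Cfsg.Agent.Lib.Helper3_BFDefs
open scoped ComplexConjugate

universe u

variable {G : Type u} [Group G] [Fintype G] {p : ℕ} [hp : Fact p.Prime]

theorem front_cp [IsSimpleGroup G] (hnc : ¬ IsCyclic G) (q b g₀ : ℕ) (hq : q.Prime) (hpq : p ≠ q)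
    (hcard : Nat.card G = p * q ^ b * g₀) (hg : g₀ < p - 1) (P : Sylow p G) :
    Nat.card P = p ∧ (∀ c ∈ Cen P, c ∈ (P : Subgroup G)) ∧ 2 ≤ qq P ∧ qq P ∣ p - 1 ∧
      2 * qq P ≤ p - 1 := by
  classical
  have hpp : p.Prime := hp.out
  have hna := exists_not_comm hnc
  have hg0 : 0 < g₀ := by
    rcases Nat.eq_zero_or_pos g₀ with h | h
    · rw [h, mul_zero] at hcard
      exact absurd hcard Nat.card_pos.ne'
    · exact h
  have hpm : ¬ p ∣ q ^ b * g₀ := by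
    intro h
    rcases (Nat.Prime.dvd_mul hpp).mp h with h1 | h1
    · exact hpq ((Nat.prime_dvd_prime_iff_eq hpp hq).mp (hpp.dvd_of_dvd_pow h1))
    · have := Nat.le_of_dvd hg0 h1
      omega
  have hcard' : Nat.card G = p * (q ^ b * g₀) := by rw [hcard]; ring
  have hP : Nat.card P = p := card_sylow_of_exact hcard' hpm P
  have hperf := Cfsg.Agent.Lib.Helper30_FourPQ.perfect hna
  obtain ⟨n, hn⟩ : ∃ n, Nat.card (Sylow p G) = 1 + n * p := by
    have h := card_sylow_modEq_one p G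
    have h1 : 1 ≤ Nat.card (Sylow p G) := Nat.card_pos
    obtain ⟨k, hk⟩ := (Nat.modEq_iff_dvd' h1).mp h.symm
    exact ⟨k, by rw [mul_comm k p, ← hk]; omega⟩
  obtain ⟨-, he2, ⟨t, ht⟩, hn1⟩ := Cfsg.Agent.Lib.Helper63_BF_SETUP.setup hperf P hP n hn
  set e := (Subgroup.centralizer ((P : Subgroup G) : Set G)).relIndex (NP P) with he
  have hqe : qq P = e := rfl
  obtain ⟨M, hM⟩ := Cfsg.Agent.Lib.Helper23_ZStarB.exists_pModular p hpp
  obtain ⟨D0, hD1, hDdeg, hDm, hDB, hDval⟩ :=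
    Cfsg.Agent.Lib.Helper64_BF_DATAA.exists_fdata0 hperf P hP n e t he.symm ht.symm he2 hn1 hM
  have ht1 : 1 ≤ t := by
    rcases Nat.eq_zero_or_pos t with h0 | h0
    · rw [h0, mul_zero] at ht
      have := hpp.two_le
      omega
    · exact h0
  obtain ⟨θ, hθ⟩ : D0.Y.Nonempty := by
    rw [← Finset.card_pos, D0.hYcard]; exact ht1
  have hdvdG : ∀ χ : IrrCharacter G, D0.deg χ ∣ p * q ^ b * g₀ := by
    intro χ
    rw [hDdeg, ← hcard]
    exact Cfsg.Agent.Lib.Helper77_BlockBasics.charDegree_dvd_card χ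
  have hθne1 : θ ≠ D0.one := by
    intro h
    have h1 : D0.one ∈ D0.Y := by rw [← h]; exact hθ
    exact (Finset.disjoint_left.mp D0.hdisj D0.hone) h1
  have hfa := Cfsg.Agent.Lib.Helper42_BTR_A1.front_arith p q b g₀ e hpp hq hg0 hg he2 ⟨t, ht⟩
    D0.X D0.one D0.hone D0.δ D0.deg D0.hδ D0.hdegone D0.hδone
    (fun χ _ hne => by
      have h1 := D0.hdegpos χ
      have h2 : D0.deg χ ≠ 1 := fun h => hne (D0.hdeg1 χ h)
      omega)
    (fun χ hχ => by
      rw [Int.modEq_iff_dvd, D0.hdegX χ hχ]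
      exact ⟨D0.δ χ - D0.m1 χ, by ring⟩)
    (fun χ _ => hdvdG χ) D0.ε D0.hε (D0.deg θ)
    (by
      have h1 := D0.hdegpos θ
      have h2 : D0.deg θ ≠ 1 := fun h => hθne1 (D0.hdeg1 θ h)
      omega)
    (by
      rw [Int.modEq_iff_dvd, D0.hdegY θ hθ]
      exact ⟨-(D0.m1 θ : ℤ), by ring⟩)
    (hdvdG θ) (D0.hrel θ hθ).symm
  obtain ⟨-, -, hθg, h2e, -⟩ := hfa
  have hdegθ : charDegree (θ : G → ℂ) < p := by
    rw [← hDdeg θ]
    have := Nat.le_of_dvd hg0 hθg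
    omega
  have hθB : θ ∈ principalBlock M G := (hDB θ).mpr (Or.inr hθ)
  have hconst := Cfsg.Agent.Lib.Helper16_BrauerMain.principal_const P hM hP θ hθB
  have hker := Cfsg.Agent.Lib.Helper24_BTR_KER2.ker_small P hP θ hdegθ hconst
  have hθne : θ ≠ oneIrr G := by rw [← hD1]; exact hθne1
  have hreg : ∀ y ∈ Cen P, ¬ p ∣ orderOf y → y = 1 := fun y hy hyp =>
    Cfsg.Agent.Lib.Helper84_BR_FAITH.FAITH θ hθne y (hker y hy hyp)
  refine ⟨hP, Cfsg.Agent.Lib.Helper77_BRW1.cen_le_of_regular_trivial P hreg, ?_, ?_, ?_⟩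
  · rw [hqe]; exact he2
  · rw [hqe]; exact ⟨t, ht⟩
  · rw [hqe]; exact h2e

end Cfsg.Agent.Lib.Helper53_BTR_CP
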