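import Mathlib
import Cfsg.Prelude.Def_Characters
import Cfsg.Prelude.Def_Blocks
import Cfsg.Agent.Lib.Helper3_CharComplete
import Cfsg.Agent.Lib.Helper80_CharBasic
import Cfsg.Agent.Lib.Helper16_B43Defs
import Cfsg.Agent.Lib.Helper77_BRDefs
import Cfsg.Agent.Lib.Helper62_InvCount_Defs
import Cfsg.Agent.Lib.Helper53_BT_Main

/-!
# S0997 (Brauer–Tuan) package EPS1 (helper53; architect helper23, row owner helper15)

`eps_plus`: the case `ε = +1`: a nontrivial irreducible character of degree `e ∣ g₀`,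
`2 e ≤ p - 1`, of a non-cyclic simple group of order `p q^b g₀` (`g₀ < p - 1`) forces
`p = 2 e + 1` (S4503), `G ≅ PSL(2,p)` (S4504) and `p = 2^m - 1`.
-/

set_option autoImplicit false

namespace Cfsg.Agent.Lib.Helper53_BTR_EPS1

open Cfsg Cfsg.Agent.Lib.Helper80_CharBasic Cfsg.Agent.Lib.Helper3_CharComplete
  Cfsg.Agent.Lib.Helper16_B43Defs Cfsg.Agent.Lib.Helper77_BRDefs Cfsg.Agent.Lib.Helper62_InvCount_Defs
  Cfsg.Agent.Lib.Helper53_BT_Main
open scoped ComplexConjugate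

universe u

variable {G : Type u} [Group G] [Fintype G] {p : ℕ} [hp : Fact p.Prime]

/-- the arithmetic of the case `ε = 1` -/
theorem eps_plus_arith {p q b g₀ e : ℕ} (hq : q.Prime) (hpe : p = 2 * e + 1) (hed : e ∣ g₀)
    (hg0 : 0 < g₀) (hg : g₀ < p - 1)
    (hc : p * q ^ b * g₀ * 2 = p * (p ^ 2 - 1)) : ∃ m : ℕ, p = 2 ^ m - 1 := by
  subst hpe
  obtain ⟨k, rfl⟩ := hed
  have he : 0 < e := Nat.pos_of_mul_pos_right hg0
  have hk : k = 1 := by
    have hk0 : 0 < k := Nat.pos_of_mul_pos_left hg0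
    have : e * k < e * 2 := by omega
    have := Nat.lt_of_mul_lt_mul_left this
    omega
  subst hk
  rw [mul_one] at hc
  -- `q ^ b = 2 * (e + 1)`
  have h1 : (2 * e + 1) ^ 2 - 1 = 2 * e * (2 * e + 2) := by
    have : (2 * e + 1) ^ 2 = 2 * e * (2 * e + 2) + 1 := by ring
    omega
  rw [h1] at hc
  have h2 : (2 * e + 1) * e * 2 * q ^ b = (2 * e + 1) * e * 2 * (2 * e + 2) := by
    calc (2 * e + 1) * e * 2 * q ^ b = (2 * e + 1) * q ^ b * e * 2 := by ring
      _ = (2 * e + 1) * (2 * e * (2 * e + 2)) := hc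
      _ = (2 * e + 1) * e * 2 * (2 * e + 2) := by ring
  have h3 : q ^ b = 2 * e + 2 :=
    Nat.eq_of_mul_eq_mul_left (by positivity) h2
  have h4 : 2 ∣ q ^ b := ⟨e + 1, by rw [h3]; ring⟩
  have h5 : 2 ∣ q := Nat.Prime.dvd_of_dvd_pow Nat.prime_two h4
  have hq2 : q = 2 := ((Nat.prime_dvd_prime_iff_eq Nat.prime_two hq).mp h5).symm
  subst hq2
  exact ⟨b, by omega⟩

theorem eps_plus [IsSimpleGroup G] (hnc : ¬ IsCyclic G) (q b g₀ : ℕ) (hq : q.Prime) (hpq : p ≠ q)
    (hcard : Nat.card G = p * q ^ b * g₀) (hg : g₀ < p - 1)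
    (θ : IrrCharacter G) (hθ : θ ≠ oneIrr G) (e : ℕ) (hdeg : charDegree (θ : G → ℂ) = e)
    (hed : e ∣ g₀) (hle : 2 * e ≤ p - 1) :
    ∃ m : ℕ, p = 2 ^ m - 1 ∧
      Nonempty (G ≃* Matrix.ProjectiveSpecialLinearGroup (Fin 2) (ZMod p)) := by
  classical
  have hpp : p.Prime := hp.out
  have hna := exists_not_comm hnc
  have hg0 : 0 < g₀ := by
    rcases Nat.eq_zero_or_pos g₀ with h | h
    · rw [h, mul_zero] at hcard
      exact absurd hcard Nat.card_pos.ne'
    · exact h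
  have hpm : ¬ p ∣ q ^ b * g₀ := by
    intro h
    rcases (Nat.Prime.dvd_mul hpp).mp h with h1 | h1
    · exact hpq ((Nat.prime_dvd_prime_iff_eq hpp hq).mp (hpp.dvd_of_dvd_pow h1))
    · have := Nat.le_of_dvd hg0 h1
      omega
  have hcard' : Nat.card G = p * (q ^ b * g₀) := by rw [hcard]; ring
  have hfaith : ∀ g : G, (θ : G → ℂ) g = (θ : G → ℂ) 1 → g = 1 :=
    fun g hg => Cfsg.Agent.Lib.Helper84_BR_FAITH.FAITH θ hθ g hg
  have hchar : IsCharacter G (θ : G → ℂ) := by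
    obtain ⟨m, ρ, -, hρ⟩ := θ.2
    exact ⟨m, ρ, hρ⟩
  have hdiv : p ∣ Nat.card G := ⟨q ^ b * g₀, hcard'⟩
  have hsq : ¬ p ^ 2 ∣ Nat.card G := by
    intro h
    rw [hcard', pow_two] at h
    exact hpm (Nat.dvd_of_mul_dvd_mul_left hpp.pos h)
  have hnn : ∀ H : Subgroup G, H.Normal → Nat.card H ≠ p := by
    intro H hH hc
    rcases hH.eq_bot_or_eq_top with h | h
    · rw [h, Subgroup.card_bot] at hc
      exact hpp.one_lt.ne hc
    · apply hnc
      have : Nat.card G = p := by rw [← Subgroup.card_top (G := G), ← h, hc]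
      exact isCyclic_of_prime_card this
  have h503 := Cfsg.Agent.S4503.result p hpp hdiv hsq hnn (θ : G → ℂ) hchar hfaith
  rw [hdeg] at h503
  have hp2 : 2 ≤ p := hpp.two_le
  have hpe : p = 2 * e + 1 := by omega
  obtain ⟨f⟩ := Cfsg.Agent.S4504.result p hpp hdiv hsq hnn (θ : G → ℂ) hchar hfaith
    (by rw [hdeg]; omega)
  have hp2' : p ≠ 2 := by
    intro h
    rw [h] at hg
    omega
  have hc1 : Nat.card G = Nat.card (Matrix.ProjectiveSpecialLinearGroup (Fin 2) (ZMod p)) := by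
    rw [← card_quot_center hna]
    exact Nat.card_congr f.toEquiv
  have hc2 := card_PSL2_zmod p hp2'
  rw [← hc1, hcard] at hc2
  obtain ⟨m, hm⟩ := eps_plus_arith hq hpe hed hg0 hg hc2
  refine ⟨m, hm, ?_⟩
  -- `G ≃* G ⧸ Z(G)`
  have hZ : Subgroup.center G = ⊥ := by
    rcases (inferInstance : (Subgroup.center G).Normal).eq_bot_or_eq_top with h | h
    · exact h
    · exfalso
      obtain ⟨x, y, hxy⟩ := hna
      apply hxy
      have hx : x ∈ Subgroup.center G := by rw [h]; exact Subgroup.mem_top x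
      exact (Subgroup.mem_center_iff.mp hx y).symm
  exact ⟨(QuotientGroup.quotientBot.symm.trans
    (QuotientGroup.quotientMulEquivOfEq hZ.symm)).trans f⟩

end Cfsg.Agent.Lib.Helper53_BTR_EPS1
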