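import Mathlib

/-!
# S0997 (Brauer-Tuan), package A2: the arithmetic of the case `ε = -1`
-/

set_option autoImplicit false

namespace Cfsg.Agent.Lib.Helper54_BTR_A2

theorem minus_arith {ι : Type*} [DecidableEq ι] (p q b e n : ℕ) (hp : p.Prime) (hq : q.Prime) (hpq : p ≠ q)
    (he2 : 2 ≤ e) (hed : e ∣ p - 1) (hle : 2 * e ≤ p - 1)
    (hord : e * (1 + n * p) = q ^ b * (p - e))
    (X : Finset ι) (one : ι) (hone : one ∈ X) (hXcard : X.card = e) (δ : ι → ℤ) (deg : ι → ℕ)
    (hδ : ∀ χ ∈ X, δ χ = 1 ∨ δ χ = -1) (hdegone : deg one = 1) (hδone : δ one = 1)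
    (hnolin : ∀ χ ∈ X, χ ≠ one → 2 ≤ deg χ)
    (hXdeg : ∀ χ ∈ X, (deg χ : ℤ) ≡ δ χ [ZMOD p])
    (hXdvd : ∀ χ ∈ X, deg χ ∣ q ^ b * (p - e))
    (hXq : ∀ χ ∈ X, χ ≠ one → q ∣ deg χ)
    (hrel : -((p : ℤ) - (e : ℤ)) = ∑ χ ∈ X, δ χ * (deg χ : ℤ)) :
    q = 2 ∧ (∃ c : ℕ, 1 ≤ c ∧ e = 2 ^ c) ∧ (∃ β : ℕ, p - 1 = 2 ^ β) ∧
      ((e = 2 ∧ ∀ χ ∈ X, χ ≠ one → δ χ = -1 ∧ deg χ = p - 1) ∨ (p = 2 * e + 1 ∧ 4 ∣ e)) := by
  have hp5 : 5 ≤ p := by omega
  have hep : e < p := by omega
  -- coprimality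
  have hcop_ep : Nat.Coprime e p := by
    apply Nat.Coprime.symm
    rw [Nat.Prime.coprime_iff_not_dvd hp]
    exact Nat.not_dvd_of_pos_of_lt (by omega) hep
  have hcop : Nat.Coprime e (p - e) := by
    rw [Nat.coprime_sub_self_right hep.le]
    exact hcop_ep
  have heq : e ∣ q ^ b := by
    apply hcop.dvd_of_dvd_mul_right
    rw [← hord]; exact dvd_mul_right _ _
  obtain ⟨c, hcb, hec⟩ := (Nat.dvd_prime_pow hq).1 heq
  have hc1 : 1 ≤ c := by
    by_contra h
    have : c = 0 := by omega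
    rw [this, pow_zero] at hec; omega
  have hqe : q ∣ e := by rw [hec]; exact dvd_pow_self q (by omega)
  -- split the sum
  have hsplit : ∑ χ ∈ X, δ χ * (deg χ : ℤ) = 1 + ∑ χ ∈ X.erase one, δ χ * (deg χ : ℤ) := by
    rw [← Finset.add_sum_erase X _ hone, hδone, hdegone]; simp
  have hqS : (q : ℤ) ∣ ∑ χ ∈ X.erase one, δ χ * (deg χ : ℤ) := by
    apply Finset.dvd_sum
    intro χ hχ
    rw [Finset.mem_erase] at hχ
    exact Dvd.dvd.mul_left (Int.natCast_dvd_natCast.2 (hXq χ hχ.2 hχ.1)) _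
  have hS : ∑ χ ∈ X.erase one, δ χ * (deg χ : ℤ) = (e : ℤ) - (p : ℤ) - 1 := by
    linarith [hrel, hsplit]
  have hpc : ((p - 1 : ℕ) : ℤ) = (p : ℤ) - 1 := by
    rw [Nat.cast_sub (by omega : 1 ≤ p)]; simp
  have hq2 : q = 2 := by
    have h1 : (q : ℤ) ∣ (e : ℤ) := Int.natCast_dvd_natCast.2 hqe
    have h2 : (q : ℤ) ∣ ((p - 1 : ℕ) : ℤ) := Int.natCast_dvd_natCast.2 (hqe.trans hed)
    have h4 : (q : ℤ) ∣ ((2 : ℕ) : ℤ) := by
      have : ((2 : ℕ) : ℤ) = (e : ℤ) - ((p - 1 : ℕ) : ℤ) -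
          ∑ χ ∈ X.erase one, δ χ * (deg χ : ℤ) := by
        rw [hpc, hS]; push_cast; ring
      rw [this]
      exact dvd_sub (dvd_sub h1 h2) hqS
    have h5 : q ∣ 2 := Int.natCast_dvd_natCast.1 h4
    exact (Nat.prime_dvd_prime_iff_eq hq Nat.prime_two).1 h5
  subst hq2
  refine ⟨rfl, ⟨c, hc1, hec⟩, ?_⟩
  rcases Nat.lt_or_ge c 2 with hc2 | hc2
  · -- `c = 1`, `e = 2`
    have hc : c = 1 := by omega
    rw [hc, pow_one] at hec
    have hcard : (X.erase one).card = 1 := by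
      rw [Finset.card_erase_of_mem hone, hXcard, hec]
    obtain ⟨χ₁, hχ₁⟩ := Finset.card_eq_one.1 hcard
    have hmem : χ₁ ∈ X.erase one := by rw [hχ₁]; exact Finset.mem_singleton_self _
    rw [Finset.mem_erase] at hmem
    rw [hχ₁, Finset.sum_singleton, hec] at hS
    have hdeg2 : (2 : ℤ) ≤ (deg χ₁ : ℤ) := by exact_mod_cast hnolin χ₁ hmem.2 hmem.1
    have hp5' : (5 : ℤ) ≤ (p : ℤ) := by exact_mod_cast hp5
    have hkey : δ χ₁ = -1 ∧ deg χ₁ = p - 1 := by
      rcases hδ χ₁ hmem.2 with h | h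
      · rw [h] at hS; push_cast at hS; exfalso; linarith
      · refine ⟨h, ?_⟩
        rw [h] at hS; push_cast at hS
        have : (deg χ₁ : ℤ) = (p : ℤ) - 1 := by linarith
        omega
    have hβ : ∃ β : ℕ, p - 1 = 2 ^ β := by
      have h1 : p - 1 ∣ 2 ^ b * (p - e) := by
        rw [← hkey.2]; exact hXdvd χ₁ hmem.2
      have h2 : Nat.Coprime (p - 1) (p - e) := by
        have e1 : p - 1 = (p - 2) + 1 := by omega
        have e2 : p - e = p - 2 := by omega
        rw [e2, e1]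
        exact (Nat.coprime_self_add_right.2 (Nat.coprime_one_right _)).symm
      have h3 : p - 1 ∣ 2 ^ b := h2.dvd_of_dvd_mul_right h1
      obtain ⟨β, _, hβ⟩ := (Nat.dvd_prime_pow Nat.prime_two).1 h3
      exact ⟨β, hβ⟩
    refine ⟨hβ, Or.inl ⟨hec, ?_⟩⟩
    intro χ hχ hne
    have : χ ∈ X.erase one := Finset.mem_erase.2 ⟨hne, hχ⟩
    rw [hχ₁, Finset.mem_singleton] at this
    rw [this]; exact hkey
  · -- `c ≥ 2`, `4 ∣ e`
    have h4e : 4 ∣ e := by
      rw [hec]
      have : (4 : ℕ) = 2 ^ 2 := by norm_num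
      rw [this]
      exact pow_dvd_pow 2 hc2
    have h4p : 4 ∣ p - 1 := h4e.trans hed
    obtain ⟨s, hs⟩ := h4e
    obtain ⟨r, hr⟩ := h4p
    -- a character of degree `≡ 2 (mod 4)`
    have hex : ∃ χ₀ ∈ X.erase one, ¬ 4 ∣ deg χ₀ := by
      by_contra hcon
      push Not at hcon
      have h4S : (4 : ℤ) ∣ ∑ χ ∈ X.erase one, δ χ * (deg χ : ℤ) := by
        apply Finset.dvd_sum
        intro χ hχ
        have : ((4 : ℕ) : ℤ) ∣ (deg χ : ℤ) := Int.natCast_dvd_natCast.2 (hcon χ hχ)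
        exact Dvd.dvd.mul_left (by exact_mod_cast this) _
      rw [hS] at h4S
      have he' : (e : ℤ) = 4 * (s : ℤ) := by exact_mod_cast hs
      have hp' : (p : ℤ) - 1 = 4 * (r : ℤ) := by rw [← hpc]; exact_mod_cast hr
      omega
    obtain ⟨χ₀, hχ₀, h4⟩ := hex
    rw [Finset.mem_erase] at hχ₀
    obtain ⟨k, hk⟩ := hXq χ₀ hχ₀.2 hχ₀.1
    have hkodd : Odd k := by
      rw [Nat.odd_iff]
      have : ¬ 2 ∣ k := by
        intro h2
        apply h4
        rw [hk]
        obtain ⟨j, rfl⟩ := h2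
        exact ⟨j, by ring⟩
      omega
    have hkdvd : k ∣ p - e := by
      have h1 : k ∣ 2 ^ b * (p - e) :=
        (Dvd.intro_left 2 hk.symm).trans (hXdvd χ₀ hχ₀.2)
      have h2 : Nat.Coprime k (2 ^ b) := Nat.Coprime.pow_right b (Nat.coprime_two_right.2 hkodd)
      exact h2.dvd_of_dvd_mul_left h1
    have hkle : k ≤ p - e := Nat.le_of_dvd (by omega) hkdvd
    have hdeg2 : 2 ≤ deg χ₀ := hnolin χ₀ hχ₀.2 hχ₀.1
    have hmod := (hXdeg χ₀ hχ₀.2).dvd
    have hpZ : (5 : ℤ) ≤ (p : ℤ) := by exact_mod_cast hp5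
    have hdegZ : (deg χ₀ : ℤ) = 2 * (k : ℤ) := by exact_mod_cast hk
    have hk1 : (1 : ℤ) ≤ (k : ℤ) := by
      have : 1 ≤ k := by omega
      exact_mod_cast this
    have hkp : (k : ℤ) ≤ (p : ℤ) - 2 := by
      have : k ≤ p - 2 := by omega
      have h2 : ((p - 2 : ℕ) : ℤ) = (p : ℤ) - 2 := by
        rw [Nat.cast_sub (by omega : 2 ≤ p)]; simp
      rw [← h2]; exact_mod_cast this
    have hpe : p = 2 * e + 1 := by
      rcases hδ χ₀ hχ₀.2 with h | h
      · -- `δ = 1`: `deg = p + 1`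
        rw [h, hdegZ] at hmod
        obtain ⟨m, hm⟩ := hmod
        have hm1 : m = -1 := by
          have h1 : m < 0 := by
            by_contra hh
            push Not at hh
            nlinarith
          have h2 : -2 < m := by
            by_contra hh
            push Not at hh
            nlinarith
          omega
        rw [hm1] at hm
        have hk2 : 2 * k = p + 1 := by
          have : 2 * (k : ℤ) = (p : ℤ) + 1 := by linarith
          exact_mod_cast this
        obtain ⟨j, hj⟩ := hkdvd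
        have hj1 : j = 1 := by
          have h1 : 0 < j := by
            rcases Nat.eq_zero_or_pos j with rfl | h
            · omega
            · exact h
          have h2 : j < 2 := by
            by_contra hh
            push Not at hh
            have : k * 2 ≤ k * j := Nat.mul_le_mul_left k hh
            omega
          omega
        rw [hj1, mul_one] at hj
        omega
      · -- `δ = -1`: impossible
        exfalso
        rw [h, hdegZ] at hmod
        obtain ⟨m, hm⟩ := hmod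
        have hm1 : m = -1 := by
          have h1 : m < 0 := by
            by_contra hh
            push Not at hh
            nlinarith
          have h2 : -2 < m := by
            by_contra hh
            push Not at hh
            nlinarith
          omega
        rw [hm1] at hm
        have hk2 : 2 * k = p - 1 := by
          have : 2 * (k : ℤ) = (p : ℤ) - 1 := by linarith
          omega
        apply h4
        rw [hk, hk2]
        exact ⟨r, hr⟩
    refine ⟨⟨c + 1, ?_⟩, Or.inr ⟨hpe, ⟨s, hs⟩⟩⟩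
    rw [pow_succ, ← hec, hpe]
    omega

end Cfsg.Agent.Lib.Helper54_BTR_A2
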