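import Cfsg.Agent.Lib.Helper77_BRDefs
import Cfsg.Agent.Lib.Helper23_ZStarB
import Cfsg.Agent.Lib.Helper84_BR_FAITH

/-!
# BR-NOLIN (helper84; sub-package of helper77's S0999 architecture)
A non-cyclic simple group has no nontrivial linear character.
-/

set_option autoImplicit false

namespace Cfsg.Agent.Lib.Helper84_BR_NOLIN

open Cfsg Cfsg.Agent.Lib.Helper80_CharBasic Cfsg.Agent.Lib.Helper77_BRDefs
open scoped ComplexConjugate

universe u

variable {G : Type u} [Group G] [Fintype G] {p : ℕ} [hp : Fact p.Prime]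

/-- endomorphisms of a one-dimensional space commute -/
theorem end_comm_of_fin_one (x y : Module.End ℂ (Fin 1 → ℂ)) : x * y = y * x := by
  have d1 : Module.finrank ℂ (Fin 1 → ℂ) = 1 := by simp
  obtain ⟨c, hc, -⟩ := LinearMap.existsUnique_eq_smul_id_of_finrank_eq_one d1 x
  obtain ⟨d, hd, -⟩ := LinearMap.existsUnique_eq_smul_id_of_finrank_eq_one d1 y
  rw [hc, hd]
  rw [smul_mul_smul_comm, smul_mul_smul_comm, mul_comm c d]

/-- **NOLIN** (S). A non-cyclic simple group has no nontrivial linear character. -/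
theorem NOLIN [IsSimpleGroup G] (hnc : ¬ IsCyclic G) (χ : IrrCharacter G) (hχ : χ ≠ oneIrr G) :
    2 ≤ charDegree (χ : G → ℂ) := by
  obtain ⟨n, ρ, hirr, hρ⟩ := χ.2
  have hn : 0 < n := irr_dim_pos ρ hirr
  have hdeg : charDegree (χ : G → ℂ) = n := by
    unfold charDegree
    rw [← hρ, Representation.char_one]
    simp
  rw [hdeg]
  by_contra hlt
  have hn1 : n = 1 := by omega
  subst hn1
  have hcomm : ∀ a b : G, a * b = b * a := by
    intro a b
    have h1 : ρ (a * b * a⁻¹ * b⁻¹) = 1 := by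
      rw [map_mul, map_mul, map_mul, end_comm_of_fin_one (ρ a) (ρ b), mul_assoc (ρ b),
        ← map_mul ρ a, mul_inv_cancel, map_one, mul_one, ← map_mul, mul_inv_cancel, map_one]
    have h2 : (χ : G → ℂ) (a * b * a⁻¹ * b⁻¹) = (χ : G → ℂ) 1 := by
      rw [← hρ]
      exact (Cfsg.Agent.Lib.Helper23_ZStarB.char_eq_char_one_iff ρ _).mpr h1
    have h3 := Cfsg.Agent.Lib.Helper84_BR_FAITH.FAITH χ hχ _ h2
    calc a * b = (a * b * a⁻¹ * b⁻¹) * (b * a) := by group
      _ = b * a := by rw [h3, one_mul]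
  apply hnc
  let _ : CommGroup G := { ‹Group G› with mul_comm := hcomm }
  exact IsSimpleGroup.isCyclic

end Cfsg.Agent.Lib.Helper84_BR_NOLIN
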