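import Mathlib
import Cfsg.Prelude.Def_Characters
import Cfsg.Prelude.Def_Blocks
import Cfsg.Agent.S0999
import Cfsg.Agent.Lib.Helper3_CharComplete
import Cfsg.Agent.Lib.Helper80_CharBasic
import Cfsg.Agent.Lib.Helper16_B43Defs
import Cfsg.Agent.Lib.Helper77_BRDefs
import Cfsg.Agent.Lib.Helper77_BlockBasics
import Cfsg.Agent.Lib.Helper82_BR_B0
import Cfsg.Agent.Lib.Helper84_BR_NOLIN
import Cfsg.Agent.Lib.Helper68_BR_FROBN
import Cfsg.Agent.Lib.Helper23_BTDefs
import Cfsg.Agent.Lib.Helper23_BT_Main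
import Cfsg.Agent.Lib.Helper23_BTR_End
import Cfsg.Agent.Lib.Helper42_BTR_A1
import Cfsg.Agent.Lib.Helper53_BTR_CP
import Cfsg.Agent.Lib.Helper53_BTR_EPS1
import Cfsg.Agent.Lib.Helper54_BTR_A2

/-!
# Brauer-Tuan (S0997): the main assembly (helper23)
-/

set_option autoImplicit false
set_option linter.unusedSectionVars false

namespace Cfsg.Agent.Lib.Helper23_BTR_Main

open Cfsg Cfsg.Agent.Lib.Helper80_CharBasic Cfsg.Agent.Lib.Helper3_CharComplete
  Cfsg.Agent.Lib.Helper16_B43Defs Cfsg.Agent.Lib.Helper77_BRDefs Cfsg.Agent.Lib.Helper23_BTDefs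
  Cfsg.Agent.Lib.Helper23_BTR_End
open Cfsg.Agent.Lib.Helper42_BTR_A1 (front_arith)
open Cfsg.Agent.Lib.Helper53_BTR_CP (front_cp)
open Cfsg.Agent.Lib.Helper53_BTR_EPS1 (eps_plus)
open Cfsg.Agent.Lib.Helper54_BTR_A2 (minus_arith)
open scoped ComplexConjugate

universe u

variable {G : Type u} [Group G] [Fintype G] {p : ℕ} [hp : Fact p.Prime]


/-- a number congruent to `±1` modulo `p` is prime to `p` -/
theorem coprime_of_modEq (hpp : p.Prime) {d : ℕ} {δ : ℤ} (hδ : δ = 1 ∨ δ = -1)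
    (h : (d : ℤ) ≡ δ [ZMOD p]) : Nat.Coprime d p := by
  rw [Nat.coprime_comm, Nat.Prime.coprime_iff_not_dvd hpp]
  intro hd
  have h1 : (p : ℤ) ∣ (d : ℤ) := by exact_mod_cast hd
  have h2 : (p : ℤ) ∣ δ - (d : ℤ) := Int.modEq_iff_dvd.mp h
  have h3 : (p : ℤ) ∣ δ := by
    have := dvd_add h2 h1
    simpa using this
  have h4 : (p : ℤ) ∣ 1 := by
    rcases hδ with rfl | rfl
    · exact h3
    · exact (dvd_neg.mp h3)
  have h5 : p ∣ 1 := by exact_mod_cast h4
  exact hpp.one_lt.ne' (Nat.dvd_one.mp h5)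

theorem main [IsSimpleGroup G] (hnc : ¬ IsCyclic G) (q b g₀ : ℕ) (hq : q.Prime) (hpq : p ≠ q)
    (hcard : Nat.card G = p * q ^ b * g₀) (hg : g₀ < p - 1) :
    (∃ (m : ℕ) (F : Type) (_ : Field F) (_ : Fintype F), Fintype.card F = p ∧
      (p = 2 ^ m + 1 ∨ p = 2 ^ m - 1) ∧
        Nonempty (G ≃* Matrix.ProjectiveSpecialLinearGroup (Fin 2) F)) ∨
    (∃ (m : ℕ) (F : Type) (_ : Field F) (_ : Fintype F), Fintype.card F = 2 ^ m ∧ p = 2 ^ m + 1 ∧
      3 < p ∧ Nonempty (G ≃* Matrix.ProjectiveSpecialLinearGroup (Fin 2) F)) := by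
  classical
  have hpp : p.Prime := hp.out
  have hg0 : 0 < g₀ := by
    rcases Nat.eq_zero_or_pos g₀ with h | h
    · rw [h, mul_zero] at hcard
      exact absurd hcard (Nat.card_pos (α := G)).ne'
    · exact h
  obtain ⟨P⟩ : Nonempty (Sylow p G) := inferInstance
  obtain ⟨hP, hC, hq2, hqd, hqle⟩ := front_cp hnc q b g₀ hq hpq hcard hg P
  obtain ⟨D⟩ := Cfsg.Agent.Lib.Helper82_BR_B0.B0 P hP hq2 hqd hqle
  obtain ⟨e, he⟩ : ∃ e, qq P = e := ⟨_, rfl⟩
  rw [he] at hq2 hqd hqle
  have hp5 : 5 ≤ p := by omega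
  have hle : e ≤ p := by omega
  have hreg1 : ¬ p ∣ orderOf (1 : G) := by
    rw [orderOf_one]
    exact fun h => hpp.one_lt.ne' (Nat.dvd_one.mp h)
  -- an exceptional character
  obtain ⟨θ, hθ⟩ : D.Y.Nonempty := by
    rw [Finset.nonempty_iff_ne_empty]
    intro h0
    have := D.hYcard
    rw [h0, Finset.card_empty, zero_mul] at this
    omega
  have hθne : θ ≠ oneIrr G := by
    intro h
    exact (Finset.disjoint_left.mp D.hdisj D.hone) (h ▸ hθ)
  have hεone : D.εX (oneIrr G) = 1 := by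
    have h := D.hXdeg (oneIrr G) D.hone
    rw [charDegree_one] at h
    rcases D.hεX (oneIrr G) D.hone with h' | h'
    · exact h'
    · exfalso
      rw [h'] at h
      have hd : (p : ℤ) ∣ 1 - (-1) := (Int.modEq_iff_dvd.mp h.symm)
      have : (p : ℤ) ∣ 2 := by simpa using hd
      have h2 : p ∣ 2 := by exact_mod_cast this
      have := Nat.le_of_dvd (by norm_num) h2
      omega
  -- the degree relation in `ℤ`
  have hrelZ : D.ε * (charDegree (θ : G → ℂ) : ℤ)
      = ∑ χ ∈ D.X, D.εX χ * (charDegree (χ : G → ℂ) : ℤ) := by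
    have h := D.hrel θ hθ 1 hreg1
    have : ((D.ε * (charDegree (θ : G → ℂ) : ℤ) : ℤ) : ℂ)
        = ((∑ χ ∈ D.X, D.εX χ * (charDegree (χ : G → ℂ) : ℤ) : ℤ) : ℂ) := by
      push_cast
      rw [apply_one'] at h
      rw [h]
      apply Finset.sum_congr rfl
      intro χ _
      rw [apply_one']
    exact_mod_cast this
  have hdvdG : ∀ χ : IrrCharacter G, charDegree (χ : G → ℂ) ∣ p * q ^ b * g₀ := by
    intro χ
    rw [← hcard]
    exact Cfsg.Agent.Lib.Helper77_BlockBasics.charDegree_dvd_card χ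
  obtain ⟨hXq, hqθ, hθg, -, hcases⟩ := front_arith p q b g₀ e hpp hq hg0 hg hq2 hqd D.X (oneIrr G)
    D.hone D.εX (fun χ => charDegree (χ : G → ℂ)) D.hεX charDegree_one hεone
    (fun χ _ hne => Cfsg.Agent.Lib.Helper84_BR_NOLIN.NOLIN hnc χ hne)
    D.hXdeg (fun χ _ => hdvdG χ) D.ε D.hε (charDegree (θ : G → ℂ))
    (Cfsg.Agent.Lib.Helper84_BR_NOLIN.NOLIN hnc θ hθne) (by rw [← he]; exact D.hYdeg θ hθ)
    (hdvdG θ) hrelZ
  rcases hcases with ⟨hε, hdθ⟩ | ⟨hε, hdθ⟩
  · -- the case `ε = 1`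
    obtain ⟨m, hm, hiso⟩ := eps_plus hnc q b g₀ hq hpq hcard hg θ hθne e hdθ (hdθ ▸ hθg) hqle
    left
    exact ⟨m, ZMod p, inferInstance, inferInstance, ZMod.card p, Or.inr hm, hiso⟩
  · -- the case `ε = -1`
    have hdθ' : charDegree (θ : G → ℂ) = p - e := by omega
    have hg₀ : g₀ = p - e := by
      obtain ⟨k, hk⟩ := hθg
      rw [hdθ'] at hk
      have hk1 : k = 1 := by
        rcases Nat.lt_or_ge k 2 with h | h
        · rcases Nat.eq_zero_or_pos k with h0 | h0
          · rw [h0, mul_zero] at hk; omega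
          · omega
        · exfalso
          have : (p - e) * 2 ≤ (p - e) * k := Nat.mul_le_mul_left _ h
          omega
      rw [hk, hk1, mul_one]
    have hYdeg : ∀ θ' ∈ D.Y, charDegree (θ' : G → ℂ) = p - e := by
      intro θ' hθ'
      have h := D.hYreg θ' hθ' θ hθ 1 hreg1
      rw [apply_one', apply_one'] at h
      rw [← hdθ']
      exact_mod_cast h
    -- the order
    obtain ⟨n, hn⟩ : ∃ n, Nat.card (Sylow p G) = 1 + n * p := by
      have h := card_sylow_modEq_one p G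
      have h1 : 1 ≤ Nat.card (Sylow p G) := Nat.card_pos
      obtain ⟨k, hk⟩ := (Nat.modEq_iff_dvd' h1).mp h.symm
      exact ⟨k, by rw [mul_comm k p, ← hk]; omega⟩
    obtain ⟨Q, -, -, -, -, hNcard, -⟩ :=
      Cfsg.Agent.Lib.Helper68_BR_FROBN.FROBN P hP hC (by rw [he]; exact hq2)
    rw [he] at hNcard
    have hord : e * (1 + n * p) = q ^ b * (p - e) := by
      have h3 : Nat.card (Sylow p G) * Nat.card (Nrm P) = Nat.card G := by
        rw [Sylow.card_eq_index_normalizer P, mul_comm]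
        exact Subgroup.card_mul_index _
      rw [hn, hNcard, hcard, hg₀] at h3
      have : p * (e * (1 + n * p)) = p * (q ^ b * (p - e)) := by
        linarith [h3]
      exact Nat.eq_of_mul_eq_mul_left hpp.pos this
    have hXdvd : ∀ χ ∈ D.X, charDegree (χ : G → ℂ) ∣ q ^ b * (p - e) := by
      intro χ hχ
      have h1 := hdvdG χ
      rw [hg₀, mul_assoc] at h1
      exact (coprime_of_modEq hpp (D.hεX χ hχ) (D.hXdeg χ hχ)).dvd_of_dvd_mul_left h1
    have hrel' : -((p : ℤ) - (e : ℤ)) = ∑ χ ∈ D.X, D.εX χ * (charDegree (χ : G → ℂ) : ℤ) := by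
      rw [← hrelZ, hε, hdθ', Nat.cast_sub hle]; ring
    obtain ⟨hq2', ⟨c, hc1, hec⟩, ⟨β, hβ⟩, hcase⟩ := minus_arith p q b e n hpp hq hpq hq2 hqd hqle hord
      D.X (oneIrr G) D.hone (by rw [D.hXcard, he]) D.εX (fun χ => charDegree (χ : G → ℂ)) D.hεX
      charDegree_one hεone (fun χ _ hne => Cfsg.Agent.Lib.Helper84_BR_NOLIN.NOLIN hnc χ hne)
      D.hXdeg hXdvd hXq hrel'
    subst hq2'
    have heven : Even e := by
      rw [hec]
      obtain ⟨c', rfl⟩ : ∃ c', c = c' + 1 := ⟨c - 1, by omega⟩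
      rw [pow_succ]
      exact even_two.mul_left _
    -- the shape of `X`
    have hshape : ∀ χ ∈ D.X, χ ≠ oneIrr G →
        (D.εX χ = 1 ∧ charDegree (χ : G → ℂ) = p + 1) ∨
          (D.εX χ = -1 ∧ charDegree (χ : G → ℂ) = p - 1) := by
      rcases hcase with ⟨-, hsh⟩ | ⟨hpe, h4⟩
      · intro χ hχ hne
        exact Or.inr (hsh χ hχ hne)
      · have hYc : D.Y.card = 2 := by
          have h := D.hYcard
          rw [he] at h
          have h2 : D.Y.card * e = 2 * e := by rw [h]; omega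
          exact Nat.eq_of_mul_eq_mul_right (by omega) h2
        obtain ⟨θ₁, θ₂, hne12, hY12⟩ := Finset.card_eq_two.mp hYc
        have hT : TSet P D e θ₁ θ₂ :=
          { hP := hP
            hC := hC
            he := he
            hpe := hpe
            heven := heven
            he2 := hq2
            hε := hε
            hY := hY12
            hne := hne12
            hdeg₁ := by rw [hYdeg θ₁ (by rw [hY12]; simp)]; omega
            hdeg₂ := by rw [hYdeg θ₂ (by rw [hY12]; simp)]; omega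
            hpar := fun χ hχ hne => even_iff_two_dvd.mpr (hXq χ hχ hne)
            hnolin := fun χ hne => Cfsg.Agent.Lib.Helper84_BR_NOLIN.NOLIN hnc χ hne }
        exact Cfsg.Agent.Lib.Helper23_BT_Main.tensor_main P D e θ₁ θ₂ hT
    have hE : ESet P D e b :=
      { hP := hP
        hC := hC
        he := he
        heven := heven
        he2 := hq2
        hle := hqle
        hcard := by rw [hcard, hg₀]
        hε := hε
        hYdeg := hYdeg
        hX := hshape
        hpβ := ⟨β, hβ⟩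
        hcase := by
          rcases hcase with ⟨h, -⟩ | ⟨h, -⟩
          · exact Or.inl h
          · exact Or.inr h }
    have h2b := endgame hnc hE
    have hbig : Nat.card G < p ^ 3 := by
      rw [hcard, hg₀, h2b]
      have h1 : p - 1 < p := by omega
      have h2 : p - e < p := by omega
      calc p * (p - 1) * (p - e) < p * p * p := by
            apply Nat.mul_lt_mul_of_lt_of_le _ h2.le (by omega)
            · exact Nat.mul_lt_mul_of_le_of_lt le_rfl h1 hpp.pos
        _ = p ^ 3 := by ring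
    have hdvd : p ∣ Nat.card G := by rw [hcard, mul_assoc]; exact Dvd.intro _ rfl
    rcases Cfsg.Agent.S0999.result hnc p hpp hdvd hbig with ⟨F, i1, i2, hF, -, hiso⟩ | h
    · left
      exact ⟨b, F, i1, i2, hF, Or.inl (by omega), hiso⟩
    · right
      exact h

end Cfsg.Agent.Lib.Helper23_BTR_Main
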