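import Mathlib
import Cfsg.Agent.Lib.Helper23_BTDefs

/-!
# Brauer-Tuan (S0997), tensor step: the arithmetic core PK-ARITH (helper23)
-/

set_option autoImplicit false

namespace Cfsg.Agent.Lib.Helper23_BT_ARITH

open Cfsg.Agent.Lib.Helper23_BTDefs

variable {ι κ : Type*} [Fintype ι] [Fintype κ] [DecidableEq ι] [DecidableEq κ] {p e : ℕ}

theorem m1_one (T : TData ι κ p e) : T.m1 T.one = 1 := by
  have h := T.hdegX T.one T.hone
  rw [T.hdegone, T.hεone] at h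
  have hp : 0 < p := by have := T.hpe; omega
  have h2 : (p : ℤ) * T.m1 T.one = p * 1 := by push_cast at h ⊢; linarith
  have hp' : (p : ℤ) ≠ 0 := by exact_mod_cast hp.ne'
  have := mul_left_cancel₀ hp' h2
  exact_mod_cast this

theorem one_ne_th1 (T : TData ι κ p e) : T.one ≠ T.th1 := fun h => T.hth1 (h ▸ T.hone)
theorem one_ne_th2 (T : TData ι κ p e) : T.one ≠ T.th2 := fun h => T.hth2 (h ▸ T.hone)

theorem m1_plus (T : TData ι κ p e) {χ : ι} (hχ : χ ∈ T.X) (hne : χ ≠ T.one)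
    (hε : T.εX χ = 1) : 2 ≤ T.m1 χ := by
  have h := T.hdegX χ hχ
  rw [hε] at h
  have h2 := T.hnolin χ hne
  have hp : 0 < p := by have := T.hpe; omega
  by_contra hlt
  have hle : T.m1 χ ≤ 1 := by omega
  have : (p : ℤ) * T.m1 χ ≤ p * 1 := by
    apply mul_le_mul_of_nonneg_left _ (by positivity)
    exact_mod_cast hle
  have h3 : (2 : ℤ) ≤ T.deg χ := by exact_mod_cast h2
  linarith

theorem m1_out (T : TData ι κ p e) {ζ : ι} (hζ : ζ ∉ T.X) (h1 : ζ ≠ T.th1) (h2 : ζ ≠ T.th2) :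
    1 ≤ T.m1 ζ := by
  have h := T.hout ζ hζ h1 h2
  have hne : ζ ≠ T.one := fun h => hζ (h ▸ T.hone)
  have h3 := T.hnolin ζ hne
  by_contra hlt
  have : T.m1 ζ = 0 := by omega
  rw [this] at h
  omega

/-! ### The mixed product -/

theorem M12_th (T : TData ι κ p e) : T.M12 T.th1 = 0 ∧ T.M12 T.th2 = 0 := by
  have hsub : ({T.th1, T.th2} : Finset ι) ⊆ Finset.univ := Finset.subset_univ _
  have h := Finset.sum_le_sum_of_subset (f := fun ζ => T.M12 ζ * T.m1 ζ) hsub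
  rw [T.hA12, Finset.sum_pair T.hne, T.hm1th1, T.hm1th2, T.hS12] at h
  have : T.M12 T.th2 = 0 := by omega
  exact ⟨by rw [T.hS12, this], this⟩

theorem M12_le (T : TData ι κ p e) (ζ : ι) : T.M12 ζ * T.m1 ζ ≤ 1 := by
  have := Finset.single_le_sum (f := fun ζ => T.M12 ζ * T.m1 ζ) (fun i _ => Nat.zero_le _)
    (Finset.mem_univ ζ)
  rw [T.hA12] at this
  exact this

theorem M12_plus (T : TData ι κ p e) {χ : ι} (hχ : χ ∈ T.X) (hε : T.εX χ = 1) :
    T.M12 χ = 0 := by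
  by_cases hne : χ = T.one
  · rw [hne]; exact T.h12one
  · have h2 := m1_plus T hχ hne hε
    have h1 := M12_le T χ
    by_contra h0
    have : 1 ≤ T.M12 χ := Nat.one_le_iff_ne_zero.mpr h0
    nlinarith

theorem M12_minus (T : TData ι κ p e) {χ : ι} (hχ : χ ∈ T.X) (hM : 1 ≤ T.M12 χ) :
    T.εX χ = -1 ∧ T.m1 χ = 0 ∧ T.deg χ = p - 1 := by
  have hε : T.εX χ = -1 := by
    rcases T.hε χ hχ with h | h
    · have := M12_plus T hχ h; omega
    · exact h
  have hne : χ ≠ T.one := by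
    intro h; rw [h, T.h12one] at hM; omega
  have hd := T.hdegX χ hχ
  rw [hε] at hd
  have hp : 5 ≤ p := by have := T.hpe; have := T.he2; omega
  have hm : T.m1 χ = 0 := by
    by_contra h0
    have h1 : 1 ≤ T.m1 χ := Nat.one_le_iff_ne_zero.mpr h0
    have h2 := M12_le T χ
    have hM1 : T.M12 χ = 1 := by nlinarith
    have hm1 : T.m1 χ = 1 := by nlinarith
    rw [hm1] at hd
    have hpar := T.hpar χ hχ hne
    have hd' : T.deg χ = 2 * p - 1 := by
      have : (T.deg χ : ℤ) = 2 * p - 1 := by push_cast at hd ⊢; linarith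
      omega
    rw [hd'] at hpar
    rcases hpar with ⟨k, hk⟩
    omega
  refine ⟨hε, hm, ?_⟩
  rw [hm] at hd
  have : (T.deg χ : ℤ) = p - 1 := by push_cast at hd ⊢; linarith
  omega

theorem M12_sumX (T : TData ι κ p e) : 2 * ∑ χ ∈ T.X, T.M12 χ = e := by
  have h := T.hL12
  rw [(M12_th T).2] at h
  have hterm : ∑ χ ∈ T.X, (T.M12 χ : ℤ) * T.εX χ = - ∑ χ ∈ T.X, (T.M12 χ : ℤ) := by
    rw [← Finset.sum_neg_distrib]
    apply Finset.sum_congr rfl
    intro χ hχ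
    by_cases h0 : T.M12 χ = 0
    · rw [h0]; simp
    · have := (M12_minus T hχ (Nat.one_le_iff_ne_zero.mpr h0)).1
      rw [this]; ring
  rw [hterm] at h
  have : (2 : ℤ) * ∑ χ ∈ T.X, (T.M12 χ : ℤ) = e := by push_cast at h ⊢; linarith
  exact_mod_cast this

/-! ### A square `θ²`: abstract version -/

/-- The hypotheses on the multiplicities `M` of a square `θ_a²` (`a` the character itself, `b` the
other exceptional character). -/
structure Sq (T : TData ι κ p e) (M : ι → ℕ) (a b : ι) : Prop where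
  ha : a ∉ T.X
  hb : b ∉ T.X
  hab : a ≠ b
  hab' : (a = T.th1 ∧ b = T.th2) ∨ (a = T.th2 ∧ b = T.th1)
  hA : ∑ ζ, M ζ * T.m1 ζ = e + 1
  hL : 2 * (∑ χ ∈ T.X, (M χ : ℤ) * T.εX χ + M b) = e
  hS : M a = M b + 1
  hone : M T.one = 1
  hMb : M b = 0
  hc : ∀ i, ∑ ζ, M ζ * T.c i ζ = if i = T.κone then 2 else 1

variable {T : TData ι κ p e} {M : ι → ℕ} {a b : ι}

theorem Sq.m1a (h : Sq T M a b) : T.m1 a = 1 := by
  rcases h.hab' with ⟨h1, _⟩ | ⟨h1, _⟩
  · rw [h1]; exact T.hm1th1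
  · rw [h1]; exact T.hm1th2

theorem Sq.one_ne_a (h : Sq T M a b) : T.one ≠ a := fun h' => h.ha (h' ▸ T.hone)

/-- the weight `v ζ = m1 ζ - 2 εX ζ [ζ ∈ X]`. -/
def vv (T : TData ι κ p e) (ζ : ι) : ℤ := (T.m1 ζ : ℤ) - 2 * (if ζ ∈ T.X then T.εX ζ else 0)

theorem Sq.gsum (h : Sq T M a b) : ∑ ζ, (M ζ : ℤ) * vv T ζ = 1 := by
  have hA : ∑ ζ, (M ζ : ℤ) * (T.m1 ζ : ℤ) = e + 1 := by
    have := h.hA
    exact_mod_cast this
  have hL := h.hL
  rw [h.hMb] at hL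
  have hX : ∑ χ ∈ T.X, (M χ : ℤ) * T.εX χ
      = ∑ ζ, (M ζ : ℤ) * (if ζ ∈ T.X then T.εX ζ else 0) := by
    rw [← Finset.sum_filter_add_sum_filter_not Finset.univ (fun ζ => ζ ∈ T.X)]
    have h2 : ∑ ζ ∈ Finset.univ.filter (fun ζ => ¬ ζ ∈ T.X),
        (M ζ : ℤ) * (if ζ ∈ T.X then T.εX ζ else 0) = 0 := by
      apply Finset.sum_eq_zero
      intro ζ hζ
      rw [Finset.mem_filter] at hζ
      rw [if_neg hζ.2, mul_zero]
    rw [h2, add_zero]
    have h3 : Finset.univ.filter (fun ζ => ζ ∈ T.X) = T.X := by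
      ext ζ; simp
    rw [h3]
    apply Finset.sum_congr rfl
    intro ζ hζ
    rw [if_pos hζ]
  unfold vv
  simp only [mul_sub]
  rw [Finset.sum_sub_distrib, hA]
  have : ∑ ζ, (M ζ : ℤ) * (2 * (if ζ ∈ T.X then T.εX ζ else 0))
      = 2 * ∑ ζ, (M ζ : ℤ) * (if ζ ∈ T.X then T.εX ζ else 0) := by
    rw [Finset.mul_sum]
    apply Finset.sum_congr rfl
    intro ζ _; ring
  rw [this, ← hX]
  push_cast at hL
  linarith

/-- The index set without `one` and `a`. -/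
def SS (T : TData ι κ p e) (a : ι) : Finset ι := (Finset.univ.erase T.one).erase a

theorem Sq.gsumS (h : Sq T M a b) : ∑ ζ ∈ SS T a, (M ζ : ℤ) * vv T ζ = 1 := by
  have h1 := h.gsum
  have ha : a ∈ Finset.univ.erase T.one := by
    rw [Finset.mem_erase]; exact ⟨fun h' => h.one_ne_a h'.symm, Finset.mem_univ _⟩
  rw [← Finset.add_sum_erase _ _ (Finset.mem_univ T.one),
    ← Finset.add_sum_erase _ _ ha] at h1
  have hv1 : vv T T.one = -1 := by
    unfold vv; rw [if_pos T.hone, m1_one, T.hεone]; norm_num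
  have hva : vv T a = 1 := by
    unfold vv; rw [if_neg h.ha, h.m1a]; norm_num
  rw [hv1, hva, h.hone, h.hS, h.hMb] at h1
  unfold SS
  push_cast at h1
  linarith

theorem vv_nonneg (T : TData ι κ p e) {ζ : ι} (hne : ζ ≠ T.one) : 0 ≤ vv T ζ := by
  unfold vv
  by_cases hζ : ζ ∈ T.X
  · rw [if_pos hζ]
    rcases T.hε ζ hζ with h | h
    · have := m1_plus T hζ hne h
      rw [h]
      have : (2 : ℤ) ≤ T.m1 ζ := by exact_mod_cast this
      linarith
    · rw [h]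
      have : (0 : ℤ) ≤ T.m1 ζ := by positivity
      linarith
  · rw [if_neg hζ]; simp

theorem mem_SS {T : TData ι κ p e} {a ζ : ι} : ζ ∈ SS T a ↔ ζ ≠ a ∧ ζ ≠ T.one := by
  unfold SS; simp

theorem Sq.g_nonneg (_h : Sq T M a b) {ζ : ι} (hζ : ζ ∈ SS T a) : 0 ≤ (M ζ : ℤ) * vv T ζ := by
  rw [mem_SS] at hζ
  exact mul_nonneg (by positivity) (vv_nonneg T hζ.2)

theorem Sq.g_le (h : Sq T M a b) {ζ : ι} (hζ : ζ ∈ SS T a) : (M ζ : ℤ) * vv T ζ ≤ 1 := by
  have := Finset.single_le_sum (f := fun ζ => (M ζ : ℤ) * vv T ζ) (s := SS T a)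
    (fun i hi => h.g_nonneg hi) hζ
  rw [h.gsumS] at this
  exact this

/-- (i): a nontrivial member of `X` occurring in the square has sign `+` and degree `p + 1`. -/
theorem Sq.plus (h : Sq T M a b) {χ : ι} (hχ : χ ∈ T.X) (hne : χ ≠ T.one) (hM : 1 ≤ M χ) :
    T.εX χ = 1 ∧ T.m1 χ = 2 ∧ T.deg χ = p + 1 := by
  have hmem : χ ∈ SS T a := by
    rw [mem_SS]; exact ⟨fun h' => h.ha (h' ▸ hχ), hne⟩
  have hle := h.g_le hmem
  have hM' : (1 : ℤ) ≤ M χ := by exact_mod_cast hM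
  have hv : vv T χ = (T.m1 χ : ℤ) - 2 * T.εX χ := by unfold vv; rw [if_pos hχ]
  have hd := T.hdegX χ hχ
  have hp : 5 ≤ p := by have := T.hpe; have := T.he2; omega
  rcases T.hε χ hχ with hε | hε
  · have h2 := m1_plus T hχ hne hε
    have h2' : (2 : ℤ) ≤ T.m1 χ := by exact_mod_cast h2
    rw [hv, hε] at hle
    have hm : T.m1 χ = 2 := by
      by_contra h3
      have h3' : (3 : ℤ) ≤ T.m1 χ := by
        have : 3 ≤ T.m1 χ := by omega
        exact_mod_cast this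
      have hM1 : (M χ : ℤ) = 1 := by nlinarith
      have hm1 : (T.m1 χ : ℤ) = 3 := by nlinarith
      rw [hε, hm1] at hd
      have hpar := T.hpar χ hχ hne
      have hd' : T.deg χ = 2 * p + 1 := by
        have : (T.deg χ : ℤ) = 2 * p + 1 := by linarith
        omega
      rw [hd'] at hpar
      rcases hpar with ⟨k, hk⟩
      omega
    refine ⟨hε, hm, ?_⟩
    rw [hε, hm] at hd
    have : (T.deg χ : ℤ) = p + 1 := by push_cast at hd ⊢; linarith
    omega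
  · exfalso
    rw [hv, hε] at hle
    have : (0 : ℤ) ≤ T.m1 χ := by positivity
    nlinarith

/-- (ii): multiplicities in the square are at most one on `X`. -/
theorem Sq.le_one (h : Sq T M a b) {χ : ι} (hχ : χ ∈ T.X) : M χ ≤ 1 := by
  by_cases hne : χ = T.one
  · rw [hne, h.hone]
  by_contra hgt
  have hM : 1 ≤ M χ := by omega
  obtain ⟨_, hm, _⟩ := h.plus hχ hne hM
  have hcs := T.hcsum χ
  rw [hm] at hcs
  obtain ⟨i, _, hi⟩ : ∃ i ∈ Finset.univ, 0 < T.c i χ := by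
    by_contra hno
    push Not at hno
    have : ∑ i, T.c i χ = 0 := Finset.sum_eq_zero (fun i hi => by have := hno i hi; omega)
    omega
  have hci := h.hc i
  have hsub : ({T.one, χ} : Finset ι) ⊆ Finset.univ := Finset.subset_univ _
  have hle := Finset.sum_le_sum_of_subset (f := fun ζ => M ζ * T.c i ζ) hsub
  rw [Finset.sum_pair (Ne.symm hne), hci, h.hone] at hle
  by_cases hik : i = T.κone
  · rw [if_pos hik, hik, T.hcone] at hle
    rw [hik] at hi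
    nlinarith
  · rw [if_neg hik] at hle
    nlinarith

/-- (iii) -/
theorem Sq.sumX (h : Sq T M a b) : 2 * ∑ χ ∈ T.X, M χ = e := by
  have hL := h.hL
  rw [h.hMb] at hL
  have hterm : ∑ χ ∈ T.X, (M χ : ℤ) * T.εX χ = ∑ χ ∈ T.X, (M χ : ℤ) := by
    apply Finset.sum_congr rfl
    intro χ hχ
    by_cases hne : χ = T.one
    · rw [hne, T.hεone, mul_one]
    by_cases h0 : M χ = 0
    · rw [h0]; simp
    · have := (h.plus hχ hne (Nat.one_le_iff_ne_zero.mpr h0)).1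
      rw [this, mul_one]
  rw [hterm] at hL
  have : (2 : ℤ) * ∑ χ ∈ T.X, (M χ : ℤ) = e := by push_cast at hL ⊢; linarith
  exact_mod_cast this

/-- (iv): outside `X` and `a`, the multiplicities are bounded by `g`. -/
theorem Sq.out_le_g (h : Sq T M a b) {ζ : ι} (hζ : ζ ∉ T.X) (hne : ζ ≠ a) :
    (M ζ : ℤ) ≤ (M ζ : ℤ) * vv T ζ := by
  by_cases hb : ζ = b
  · rw [hb, h.hMb]; simp
  have h12 : ζ ≠ T.th1 ∧ ζ ≠ T.th2 := by
    rcases h.hab' with ⟨h1, h2⟩ | ⟨h1, h2⟩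
    · exact ⟨h1 ▸ hne, h2 ▸ hb⟩
    · exact ⟨h2 ▸ hb, h1 ▸ hne⟩
  have hm := m1_out T hζ h12.1 h12.2
  have hv : vv T ζ = T.m1 ζ := by unfold vv; rw [if_neg hζ]; simp
  rw [hv]
  have : (1 : ℤ) ≤ T.m1 ζ := by exact_mod_cast hm
  have h0 : (0 : ℤ) ≤ M ζ := by positivity
  nlinarith

theorem Sq.out_le_one (h : Sq T M a b) {ζ : ι} (hζ : ζ ∉ T.X) (hne : ζ ≠ a) : M ζ ≤ 1 := by
  have hmem : ζ ∈ SS T a := by
    rw [mem_SS]; exact ⟨hne, fun h' => hζ (h' ▸ T.hone)⟩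
  have h1 := h.out_le_g hζ hne
  have h2 := h.g_le hmem
  have : (M ζ : ℤ) ≤ 1 := le_trans h1 h2
  exact_mod_cast this

/-- (v): the total multiplicity outside `X ∪ {a}` is at most one. -/
theorem Sq.out_sum (h : Sq T M a b) :
    ∑ ζ ∈ (SS T a).filter (fun ζ => ζ ∉ T.X), M ζ ≤ 1 := by
  have h1 : ∑ ζ ∈ (SS T a).filter (fun ζ => ζ ∉ T.X), (M ζ : ℤ)
      ≤ ∑ ζ ∈ (SS T a).filter (fun ζ => ζ ∉ T.X), (M ζ : ℤ) * vv T ζ := by
    apply Finset.sum_le_sum
    intro ζ hζ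
    rw [Finset.mem_filter, mem_SS] at hζ
    exact h.out_le_g hζ.2 hζ.1.1
  have h2 : ∑ ζ ∈ (SS T a).filter (fun ζ => ζ ∉ T.X), (M ζ : ℤ) * vv T ζ
      ≤ ∑ ζ ∈ SS T a, (M ζ : ℤ) * vv T ζ := by
    apply Finset.sum_le_sum_of_subset_of_nonneg (Finset.filter_subset _ _)
    intro ζ hζ _
    exact h.g_nonneg hζ
  rw [h.gsumS] at h2
  have : ((∑ ζ ∈ (SS T a).filter (fun ζ => ζ ∉ T.X), M ζ : ℕ) : ℤ) ≤ 1 := by
    push_cast; linarith
  exact_mod_cast this

/-! ### The two squares -/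

theorem sq11 (T : TData ι κ p e) : Sq T T.M11 T.th1 T.th2 where
  ha := T.hth1
  hb := T.hth2
  hab := T.hne
  hab' := Or.inl ⟨rfl, rfl⟩
  hA := T.hA11
  hL := T.hL11
  hS := T.hS11
  hone := T.h11one
  hMb := by rw [T.hsym1]; exact (M12_th T).1
  hc := T.hc11

theorem sq22 (T : TData ι κ p e) : Sq T T.M22 T.th2 T.th1 where
  ha := T.hth2
  hb := T.hth1
  hab := T.hne.symm
  hab' := Or.inr ⟨rfl, rfl⟩
  hA := T.hA22
  hL := T.hL22
  hS := T.hS22
  hone := T.h22one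
  hMb := by rw [T.hsym2]; exact (M12_th T).2
  hc := T.hc22

/-! ### The norm identity and the count -/

theorem X_split (T : TData ι κ p e) (f : ι → ℕ) :
    ∑ ζ, f ζ = ∑ χ ∈ T.X, f χ + ∑ ζ ∈ Finset.univ.filter (fun ζ => ζ ∉ T.X), f ζ := by
  rw [← Finset.sum_filter_add_sum_filter_not Finset.univ (fun ζ => ζ ∈ T.X)]
  congr 1
  apply Finset.sum_congr _ (fun _ _ => rfl)
  ext ζ; simp

theorem notX_eq (T : TData ι κ p e) :
    Finset.univ.filter (fun ζ => ζ ∉ T.X)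
      = insert T.th1 ((SS T T.th1).filter (fun ζ => ζ ∉ T.X)) := by
  ext ζ
  simp only [Finset.mem_filter, Finset.mem_univ, true_and, Finset.mem_insert, mem_SS]
  constructor
  · intro h
    by_cases h1 : ζ = T.th1
    · exact Or.inl h1
    · exact Or.inr ⟨⟨h1, fun h' => h (h' ▸ T.hone)⟩, h⟩
  · rintro (h | h)
    · rw [h]; exact T.hth1
    · exact h.2

theorem norm_lhs (T : TData ι κ p e) :
    ∑ ζ, T.M11 ζ * T.M22 ζ ≤ ∑ χ ∈ T.X, T.M11 χ + 1 := by
  rw [X_split T]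
  apply add_le_add
  · apply Finset.sum_le_sum
    intro χ hχ
    have := (sq22 T).le_one hχ
    nlinarith
  · rw [notX_eq, Finset.sum_insert (by simp [mem_SS])]
    have h0 : T.M22 T.th1 = 0 := (sq22 T).hMb
    rw [h0, mul_zero, zero_add]
    refine le_trans ?_ (sq11 T).out_sum
    apply Finset.sum_le_sum
    intro ζ hζ
    rw [Finset.mem_filter, mem_SS] at hζ
    by_cases h2 : ζ = T.th2
    · have : T.M11 ζ = 0 := by rw [h2]; exact (sq11 T).hMb
      rw [this]; simp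
    · have := (sq22 T).out_le_one hζ.2 h2
      nlinarith

theorem norm_rhs (T : TData ι κ p e) :
    ∑ χ ∈ T.X, T.M12 χ ^ 2 + 1 ≤ ∑ ζ, T.M12 ζ ^ 2 := by
  rw [X_split T (fun ζ => T.M12 ζ ^ 2)]
  apply add_le_add le_rfl
  have hA := T.hA12
  rw [X_split T] at hA
  have hX0 : ∑ χ ∈ T.X, T.M12 χ * T.m1 χ = 0 := by
    apply Finset.sum_eq_zero
    intro χ hχ
    by_cases h0 : T.M12 χ = 0
    · rw [h0, zero_mul]
    · rw [(M12_minus T hχ (Nat.one_le_iff_ne_zero.mpr h0)).2.1, mul_zero]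
  rw [hX0, zero_add] at hA
  obtain ⟨ζ0, hζ0, hne⟩ : ∃ ζ ∈ Finset.univ.filter (fun ζ => ζ ∉ T.X), T.M12 ζ * T.m1 ζ ≠ 0 := by
    by_contra hno
    push Not at hno
    rw [Finset.sum_eq_zero hno] at hA
    omega
  have hM : 1 ≤ T.M12 ζ0 := by
    rcases Nat.eq_zero_or_pos (T.M12 ζ0) with h | h
    · rw [h, zero_mul] at hne; exact absurd rfl hne
    · exact h
  have h1 : 1 ≤ T.M12 ζ0 ^ 2 := Nat.one_le_pow _ _ hM
  exact le_trans h1 (Finset.single_le_sum (f := fun ζ => T.M12 ζ ^ 2)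
    (fun i _ => Nat.zero_le _) hζ0)

theorem M12_le_one (T : TData ι κ p e) {χ : ι} (hχ : χ ∈ T.X) : T.M12 χ ≤ 1 := by
  have h1 := norm_lhs T
  have h2 := norm_rhs T
  rw [T.hnorm] at h1
  have h3 := (sq11 T).sumX
  have h4 := M12_sumX T
  have hle : ∑ χ ∈ T.X, T.M12 χ ^ 2 ≤ ∑ χ ∈ T.X, T.M12 χ := by omega
  by_contra hgt
  have hlt : ∑ χ ∈ T.X, T.M12 χ < ∑ χ ∈ T.X, T.M12 χ ^ 2 := by
    apply Finset.sum_lt_sum
    · intro i _
      rcases Nat.eq_zero_or_pos (T.M12 i) with h | h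
      · rw [h]; simp
      · nlinarith
    · refine ⟨χ, hχ, ?_⟩
      have : 2 ≤ T.M12 χ := by omega
      nlinarith
  omega

omit [Fintype ι] [DecidableEq ι] in
theorem card_filter_eq_sum (s : Finset ι) (f : ι → ℕ) (hf : ∀ χ ∈ s, f χ ≤ 1) :
    (s.filter (fun χ => 1 ≤ f χ)).card = ∑ χ ∈ s, f χ := by
  rw [Finset.card_filter]
  apply Finset.sum_congr rfl
  intro χ hχ
  have := hf χ hχ
  by_cases h : 1 ≤ f χ
  · rw [if_pos h]; omega
  · rw [if_neg h]; omega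

theorem tens_arith {p e : ℕ} (_hp : p.Prime) (T : TData ι κ p e) :
    ∀ χ ∈ T.X, χ ≠ T.one →
      (T.εX χ = 1 ∧ T.deg χ = p + 1) ∨ (T.εX χ = -1 ∧ T.deg χ = p - 1) := by
  intro χ hχ hne
  set A := T.X.filter (fun χ => 1 ≤ T.M11 χ) with hA
  set B := T.X.filter (fun χ => 1 ≤ T.M12 χ) with hB
  have hAc : A.card = ∑ χ ∈ T.X, T.M11 χ :=
    card_filter_eq_sum T.X T.M11 (fun χ hχ => (sq11 T).le_one hχ)
  have hBc : B.card = ∑ χ ∈ T.X, T.M12 χ :=
    card_filter_eq_sum T.X T.M12 (fun χ hχ => M12_le_one T hχ)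
  have hdisj : Disjoint A B := by
    rw [Finset.disjoint_left]
    intro ζ hζA hζB
    rw [hA, Finset.mem_filter] at hζA
    rw [hB, Finset.mem_filter] at hζB
    have h1 := (M12_minus T hζB.1 hζB.2).1
    by_cases h0 : ζ = T.one
    · rw [h0, T.hεone] at h1; omega
    · have h2 := ((sq11 T).plus hζA.1 h0 hζA.2).1
      rw [h2] at h1; omega
  have hsub : A ∪ B ⊆ T.X := by
    apply Finset.union_subset <;> exact Finset.filter_subset _ _
  have hcard : T.X.card ≤ (A ∪ B).card := by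
    rw [Finset.card_union_of_disjoint hdisj, hAc, hBc, T.hXcard]
    have h3 := (sq11 T).sumX
    have h4 := M12_sumX T
    omega
  have heq := Finset.eq_of_subset_of_card_le hsub hcard
  have hmem : χ ∈ A ∪ B := by rw [heq]; exact hχ
  rw [Finset.mem_union] at hmem
  rcases hmem with h | h
  · rw [hA, Finset.mem_filter] at h
    have := (sq11 T).plus h.1 hne h.2
    exact Or.inl ⟨this.1, this.2.2⟩
  · rw [hB, Finset.mem_filter] at h
    have := M12_minus T h.1 h.2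
    exact Or.inr ⟨this.1, this.2.2⟩

end Cfsg.Agent.Lib.Helper23_BT_ARITH
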