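import Mathlib
import Cfsg.Prelude.Def_Characters
import Cfsg.Prelude.Def_Blocks
import Cfsg.Agent.Lib.Helper3_CharComplete
import Cfsg.Agent.Lib.Helper3_CharColumn
import Cfsg.Agent.Lib.Helper80_CharBasic
import Cfsg.Agent.Lib.Helper16_B43Defs
import Cfsg.Agent.Lib.Helper77_BRDefs
import Cfsg.Agent.Lib.Helper50_BR_LIN
import Cfsg.Agent.Lib.Helper65_BR_EXC
import Cfsg.Agent.Lib.Helper68_BR_FROBN
import Cfsg.Agent.Lib.Helper23_BTDefs
import Cfsg.Agent.Lib.Helper23_BT_Util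

/-!
# Brauer-Tuan (S0997), tensor step: the exceptional characters on `P`, PK-EXC (helper23)
-/

set_option autoImplicit false

namespace Cfsg.Agent.Lib.Helper23_BT_EXC

open Cfsg Cfsg.Agent.Lib.Helper80_CharBasic Cfsg.Agent.Lib.Helper3_CharComplete
  Cfsg.Agent.Lib.Helper16_B43Defs Cfsg.Agent.Lib.Helper77_BRDefs Cfsg.Agent.Lib.Helper23_BTDefs
  Cfsg.Agent.Lib.Helper23_BT_Util
open scoped ComplexConjugate

universe u

variable {G : Type u} [Group G] [Fintype G] {p : ℕ} [hp : Fact p.Prime]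

/-- When `|N_G(P) : P|` is even, some element of `G` inverts `P`. -/
theorem exists_inverting (P : Sylow p G) (hP : Nat.card P = p)
    (hC : ∀ c ∈ Cen P, c ∈ (P : Subgroup G)) (hq2 : 2 ≤ qq P) (heven : Even (qq P)) :
    ∃ s : G, ∀ x ∈ (P : Subgroup G), s * x * s⁻¹ = x⁻¹ := by
  obtain ⟨Q, hQN, hQP, hQcard, _, _⟩ :=
    Cfsg.Agent.Lib.Helper68_BR_FROBN.FROBN P hP hC hq2
  have h2Q : 2 ∣ Nat.card Q := by rw [hQcard]; exact heven.two_dvd
  have : Fact (Nat.Prime 2) := ⟨Nat.prime_two⟩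
  obtain ⟨σ, hσ⟩ := exists_prime_orderOf_dvd_card' 2 h2Q
  have hs2 : orderOf (σ : G) = 2 := by rw [Subgroup.orderOf_coe]; exact hσ
  have hss : (σ : G) * (σ : G) = 1 := by
    have := pow_orderOf_eq_one (σ : G)
    rw [hs2, pow_two] at this
    exact this
  have hs1 : (σ : G) ≠ 1 := by
    intro h
    rw [h, orderOf_one] at hs2
    omega
  have hsinv : (σ : G)⁻¹ = (σ : G) := inv_eq_of_mul_eq_one_left hss
  have hsN : (σ : G) ∈ Nrm P := hQN σ.2
  refine ⟨(σ : G), ?_⟩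
  intro x hx
  set s : G := (σ : G) with hs
  have hx' : s * x * s⁻¹ ∈ (P : Subgroup G) := (Subgroup.mem_normalizer_iff.mp hsN x).mp hx
  set y : G := x * (s * x * s⁻¹) with hy
  have hyP : y ∈ (P : Subgroup G) := Subgroup.mul_mem _ hx hx'
  have hcomm : x * (s * x * s⁻¹) = (s * x * s⁻¹) * x :=
    Cfsg.Agent.Lib.Helper68_BR_FROBN.comm_of_card_prime P hP hx hx'
  have hsy : s * y = y * s := by
    rw [hy]
    have hc : x * (s * x * s) = (s * x * s) * x := by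
      have := hcomm
      rw [hsinv] at this
      exact this
    rw [hsinv]
    calc s * (x * (s * x * s)) = ((s * x * s) * x) * s := by simp only [mul_assoc]
      _ = (x * (s * x * s)) * s := by rw [← hc]
  by_cases hy1 : y = 1
  · have : s * x * s⁻¹ = x⁻¹ := by
      have h := hy1
      rw [hy] at h
      exact (eq_inv_of_mul_eq_one_right h)
    exact this
  · exfalso
    have hsC : s ∈ Cen P :=
      Cfsg.Agent.Lib.Helper68_BR_FROBN.mem_cen_of_comm P hP hyP hy1 hsy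
    have hsP : s ∈ (P : Subgroup G) := hC s hsC
    have : s ∈ Q ⊓ (P : Subgroup G) := ⟨σ.2, hsP⟩
    rw [hQP, Subgroup.mem_bot] at this
    exact hs1 this

/-- The centralizer of a nonidentity element of `P` has order `p`. -/
theorem card_centralizer_singleton (P : Sylow p G) (hP : Nat.card P = p)
    (hC : ∀ c ∈ Cen P, c ∈ (P : Subgroup G)) {x : G} (hx : x ∈ (P : Subgroup G)) (hx1 : x ≠ 1) :
    Nat.card (Subgroup.centralizer ({x} : Set G)) = p := by
  have : Subgroup.centralizer ({x} : Set G) = (P : Subgroup G) := by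
    ext c
    rw [Subgroup.mem_centralizer_iff]
    constructor
    · intro h
      have hc : c * x = x * c := (h x (Set.mem_singleton x)).symm
      exact hC c (Cfsg.Agent.Lib.Helper68_BR_FROBN.mem_cen_of_comm P hP hx hx1 hc)
    · intro hc y hy
      rw [Set.mem_singleton_iff] at hy
      rw [hy]
      exact Cfsg.Agent.Lib.Helper68_BR_FROBN.comm_of_card_prime P hP hx hc
  rw [this]
  exact hP

theorem exc_values (P : Sylow p G) (D : PBData P) (e : ℕ) (θ₁ θ₂ : IrrCharacter G)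
    (hT : TSet P D e θ₁ θ₂) :
    (∀ x ∈ (P : Subgroup G), x ≠ 1 →
      (θ₁ : G → ℂ) x + (θ₂ : G → ℂ) x = 1 ∧
      conj ((θ₁ : G → ℂ) x) = (θ₁ : G → ℂ) x ∧ conj ((θ₂ : G → ℂ) x) = (θ₂ : G → ℂ) x ∧
      (θ₁ : G → ℂ) x * (θ₂ : G → ℂ) x = -((e : ℂ) / 2)) ∧
    pavg P (θ₁ : G → ℂ) = 1 ∧ pavg P (θ₂ : G → ℂ) = 1 := by
  classical
  obtain ⟨L⟩ := Cfsg.Agent.Lib.Helper50_BR_LIN.LIN P hT.hP hT.hC
  have hq2 : 2 ≤ qq P := by rw [hT.he]; exact hT.he2
  have hq : 2 * qq P ≤ p - 1 := by rw [hT.he, hT.hpe]; omega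
  obtain ⟨hE1, hE2, -⟩ := Cfsg.Agent.Lib.Helper65_BR_EXC.EXC P hT.hP hT.hC D L hq2 hq
  have hpc : (p : ℂ) = 2 * (e : ℂ) + 1 := by rw [hT.hpe]; push_cast; ring
  have hp0 : (p : ℂ) ≠ 0 := by
    have : p ≠ 0 := by have := hT.hpe; omega
    exact_mod_cast this
  -- the sum
  have hsum : ∀ x ∈ (P : Subgroup G), x ≠ 1 → (θ₁ : G → ℂ) x + (θ₂ : G → ℂ) x = 1 := by
    intro x hx hx1
    have := hE1 x hx hx1
    rw [hT.hY, Finset.sum_pair hT.hne, hT.hε] at this
    rw [this]; push_cast; ring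
  -- reality
  obtain ⟨s, hs⟩ := exists_inverting P hT.hP hT.hC hq2 (by rw [hT.he]; exact hT.heven)
  have hreal : ∀ θ : IrrCharacter G, ∀ x ∈ (P : Subgroup G),
      conj ((θ : G → ℂ) x) = (θ : G → ℂ) x := by
    intro θ x hx
    rw [← irr_inv, ← hs x hx, irr_conj]
  -- the product
  have hprod : ∀ x ∈ (P : Subgroup G), x ≠ 1 →
      (θ₁ : G → ℂ) x * (θ₂ : G → ℂ) x = -((e : ℂ) / 2) := by
    intro x hx hx1
    have hcol := Cfsg.Agent.Lib.Helper3_CharColumn.column_orthogonality_self x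
    rw [card_centralizer_singleton P hT.hP hT.hC hx hx1] at hcol
    have hsplit : ∑ χ : IrrCharacter G, (χ : G → ℂ) x * conj ((χ : G → ℂ) x)
        = ∑ χ ∈ D.X, (χ : G → ℂ) x * conj ((χ : G → ℂ) x)
          + ∑ χ ∈ D.Y, (χ : G → ℂ) x * conj ((χ : G → ℂ) x) := by
      rw [← Finset.sum_union D.hdisj]
      symm
      apply Finset.sum_subset (Finset.subset_univ _)
      intro χ _ hχ
      rw [Finset.mem_union, not_or] at hχ
      rw [D.hout hT.hC χ hχ.1 hχ.2 x hx hx1, zero_mul]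
    have hXs : ∑ χ ∈ D.X, (χ : G → ℂ) x * conj ((χ : G → ℂ) x) = (e : ℂ) := by
      have : ∀ χ ∈ D.X, (χ : G → ℂ) x * conj ((χ : G → ℂ) x) = 1 := by
        intro χ hχ
        have hv := D.hXval χ hχ x hx hx1 1 (Subgroup.one_mem _) (by
          rw [orderOf_one]
          exact fun h => hp.out.one_lt.ne' (Nat.dvd_one.mp h))
        rw [mul_one] at hv
        rw [hv]
        rcases D.hεX χ hχ with h | h <;> rw [h] <;> simp
      rw [Finset.sum_congr rfl this, Finset.sum_const, D.hXcard, hT.he]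
      simp
    rw [hsplit, hXs, hT.hY, Finset.sum_pair hT.hne, hreal θ₁ x hx, hreal θ₂ x hx, hpc] at hcol
    have h1 := hsum x hx hx1
    have h2 : ((θ₁ : G → ℂ) x + (θ₂ : G → ℂ) x) ^ 2 = 1 := by rw [h1]; ring
    linear_combination (1 / 2 : ℂ) * h2 - (1 / 2 : ℂ) * hcol
  -- the averages
  have havg : ∀ θ ∈ D.Y, charDegree (θ : G → ℂ) = e + 1 → pavg P (θ : G → ℂ) = 1 := by
    intro θ hθ hdeg
    have h := hE2 θ hθ
    rw [hT.hε, hT.he] at h
    have hsp := pavg_split P hT.hP (θ : G → ℂ)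
    have hfs : ∑ᶠ x ∈ {x : G | x ∈ (P : Subgroup G) ∧ x ≠ 1}, (θ : G → ℂ) x
        = ∑ x ∈ Ps P, (θ : G → ℂ) x := by
      rw [finsum_mem_eq_finite_toFinset_sum _ (Set.toFinite _)]
      apply Finset.sum_congr _ (fun _ _ => rfl)
      ext x
      simp [mem_Ps]
    rw [hfs] at h
    have h1 : (θ : G → ℂ) 1 = (e : ℂ) + 1 := by
      obtain ⟨n, hn, hn1⟩ := irr_apply_one θ
      have : charDegree (θ : G → ℂ) = n := by
        unfold charDegree
        rw [hn1]
        simp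
      rw [hn1, ← this, hdeg]; push_cast; ring
    rw [h, h1] at hsp
    have : (p : ℂ) * pavg P (θ : G → ℂ) = (p : ℂ) * 1 := by
      rw [hsp, hpc]; push_cast; ring
    exact mul_left_cancel₀ hp0 this
  refine ⟨fun x hx hx1 => ⟨hsum x hx hx1, hreal θ₁ x hx, hreal θ₂ x hx, hprod x hx hx1⟩, ?_, ?_⟩
  · exact havg θ₁ (by rw [hT.hY]; simp) hT.hdeg₁
  · exact havg θ₂ (by rw [hT.hY]; simp) hT.hdeg₂

end Cfsg.Agent.Lib.Helper23_BT_EXC
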