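import Mathlib
import Cfsg.Prelude.Def_Characters
import Cfsg.Prelude.Def_Blocks
import Cfsg.Agent.Lib.Helper16_B43Defs
import Cfsg.Agent.Lib.Helper23_BT_Util

/-!
# Brauer-Tuan (S0997), tensor step: the moments PK-MOM (helper23)
-/

set_option autoImplicit false

namespace Cfsg.Agent.Lib.Helper23_BT_MOM

open Cfsg Cfsg.Agent.Lib.Helper16_B43Defs Cfsg.Agent.Lib.Helper23_BT_Util

universe u

variable {G : Type u} [Group G] [Fintype G] {p : ℕ} [hp : Fact p.Prime]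

theorem moments (P : Sylow p G) (e : ℕ) (hP : Nat.card P = p) (hpe : p = 2 * e + 1)
    (f₁ f₂ : G → ℂ) (h1 : f₁ 1 = (e : ℂ) + 1) (h2 : f₂ 1 = (e : ℂ) + 1)
    (hsum : ∀ x ∈ (P : Subgroup G), x ≠ 1 → f₁ x + f₂ x = 1)
    (hprod : ∀ x ∈ (P : Subgroup G), x ≠ 1 → f₁ x * f₂ x = -((e : ℂ) / 2))
    (havg : pavg P f₁ = 1) :
    pavg P f₂ = 1 ∧
    pavg P (fun g => f₁ g * f₁ g) = (e : ℂ) + 1 ∧
    pavg P (fun g => f₁ g * f₂ g) = 1 ∧
    pavg P (fun g => f₁ g * f₁ g * f₁ g) = (e : ℂ) ^ 2 / 2 + 2 * e + 1 ∧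
    pavg P (fun g => f₁ g * f₁ g * f₂ g) = (e : ℂ) ^ 2 / 2 + e + 1 := by
  have hpc : (p : ℂ) = 2 * (e : ℂ) + 1 := by rw [hpe]; push_cast; ring
  have hp0 : (p : ℂ) ≠ 0 := by
    have : p ≠ 0 := by omega
    exact_mod_cast this
  -- pointwise relations on `P#`
  have hf2 : ∀ x ∈ Ps P, f₂ x = 1 - f₁ x := by
    intro x hx
    rw [mem_Ps] at hx
    have := hsum x hx.1 hx.2
    linear_combination this
  have hsq : ∀ x ∈ Ps P, f₁ x * f₁ x = f₁ x + (e : ℂ) / 2 := by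
    intro x hx
    have h := hf2 x hx
    rw [mem_Ps] at hx
    have := hprod x hx.1 hx.2
    rw [h] at this
    linear_combination -this
  -- the power sums
  have hS0 : ∑ _x ∈ Ps P, (1 : ℂ) = 2 * (e : ℂ) := by
    rw [sum_Ps_one P hP, hpc]; ring
  have hS1 : ∑ x ∈ Ps P, f₁ x = (e : ℂ) := by
    have := pavg_split P hP f₁
    rw [havg, h1, hpc] at this
    linear_combination -this
  have hS2 : ∑ x ∈ Ps P, f₁ x * f₁ x = (e : ℂ) + (e : ℂ) ^ 2 := by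
    rw [Finset.sum_congr rfl hsq, Finset.sum_add_distrib, hS1]
    have : ∑ _x ∈ Ps P, (e : ℂ) / 2 = (e : ℂ) / 2 * ∑ _x ∈ Ps P, (1 : ℂ) := by
      rw [Finset.mul_sum]; simp
    rw [this, hS0]; ring
  have hS3 : ∑ x ∈ Ps P, f₁ x * f₁ x * f₁ x = (e : ℂ) + 3 * (e : ℂ) ^ 2 / 2 := by
    have hcube : ∀ x ∈ Ps P, f₁ x * f₁ x * f₁ x = f₁ x * f₁ x + (e : ℂ) / 2 * f₁ x := by
      intro x hx
      rw [hsq x hx]; ring_nf
      have := hsq x hx
      linear_combination this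
    rw [Finset.sum_congr rfl hcube, Finset.sum_add_distrib, ← Finset.mul_sum, hS1, hS2]; ring
  have key : ∀ f : G → ℂ, ∀ v : ℂ, f 1 + ∑ x ∈ Ps P, f x = (p : ℂ) * v → pavg P f = v := by
    intro f v h
    have := pavg_split P hP f
    rw [h] at this
    exact mul_left_cancel₀ hp0 this
  refine ⟨?_, ?_, ?_, ?_, ?_⟩
  · apply key
    rw [Finset.sum_congr rfl hf2, Finset.sum_sub_distrib, hS0, hS1, h2, hpc]; ring
  · apply key
    rw [hS2, h1, hpc]; ring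
  · apply key
    have : ∀ x ∈ Ps P, f₁ x * f₂ x = -((e : ℂ) / 2) * 1 := by
      intro x hx
      rw [mem_Ps] at hx
      rw [hprod x hx.1 hx.2]; ring
    rw [Finset.sum_congr rfl this, ← Finset.mul_sum, hS0, h1, h2, hpc]; ring
  · apply key
    rw [hS3, h1, hpc]; ring
  · apply key
    have : ∀ x ∈ Ps P, f₁ x * f₁ x * f₂ x = f₁ x * f₁ x - f₁ x * f₁ x * f₁ x := by
      intro x hx
      rw [hf2 x hx]; ring
    rw [Finset.sum_congr rfl this, Finset.sum_sub_distrib, hS2, hS3, h1, h2, hpc]; ring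

end Cfsg.Agent.Lib.Helper23_BT_MOM
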