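import Mathlib
import Cfsg.Prelude.Def_Characters
import Cfsg.Prelude.Def_Blocks
import Cfsg.Agent.Lib.Helper3_CharComplete
import Cfsg.Agent.Lib.Helper80_CharBasic
import Cfsg.Agent.Lib.Helper16_B43Defs
import Cfsg.Agent.Lib.Helper77_BRDefs
import Cfsg.Agent.Lib.Helper23_BTDefs
import Cfsg.Agent.Lib.Helper75_CharProd

/-!
# S0997 tensor step, package DEC (architect helper23): decomposition of the three products of
two distinct real irreducible characters.
-/

set_option autoImplicit false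

namespace Cfsg.Agent.Lib.Helper43_BT_DEC

open Cfsg Cfsg.Agent.Lib.Helper80_CharBasic Cfsg.Agent.Lib.Helper3_CharComplete
  Cfsg.Agent.Lib.Helper16_B43Defs Cfsg.Agent.Lib.Helper77_BRDefs Cfsg.Agent.Lib.Helper23_BTDefs
  Cfsg.Agent.Lib.Helper3_CharBridge Cfsg.Agent.Lib.Helper3_CharOrtho
  Cfsg.Agent.Lib.Helper75_CharArith Cfsg.Agent.Lib.Helper75_CharProd
open scoped ComplexConjugate

universe u

variable {G : Type u} [Group G] [Fintype G]

/-- Inner product against a real-valued function. -/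
theorem classInner_real (a c : G → ℂ) (hc : ∀ g, conj (c g) = c g) :
    classInner a c = (Nat.card G : ℂ)⁻¹ * ∑ g : G, a g * c g := by
  unfold classInner
  congr 1
  exact Finset.sum_congr rfl fun g _ => by rw [hc g]

omit [Group G] [Fintype G] in
theorem real_mul {a b : G → ℂ} (ha : ∀ g, conj (a g) = a g) (hb : ∀ g, conj (b g) = b g) :
    ∀ g, conj ((a * b) g) = (a * b) g := by
  intro g
  rw [Pi.mul_apply, map_mul, ha g, hb g]

/-- Multiplicities of a product of two characters. -/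
theorem mult_expand {φ : G → ℂ} (hφ : IsCharacter G φ) :
    ∃ m : IrrCharacter G → ℕ, (∀ χ : IrrCharacter G, classInner φ χ = m χ) ∧
      ∀ g, φ g = ∑ ζ : IrrCharacter G, (m ζ : ℂ) * (ζ : G → ℂ) g := by
  obtain ⟨m, hm, hs⟩ := exists_multiplicities hφ
  refine ⟨m, hm, fun g => ?_⟩
  have h := congrFun hs g
  rw [h, Finset.sum_apply]
  exact Finset.sum_congr rfl fun ζ _ => by rw [Pi.smul_apply, smul_eq_mul]

/-- `[φ, ψ] = ∑ m_φ ζ * m_ψ ζ` for two characters. -/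
theorem classInner_eq_sum_mult {φ ψ : G → ℂ} (hφ : IsCharacter G φ)
    (m m' : IrrCharacter G → ℕ) (hm : ∀ χ : IrrCharacter G, classInner φ χ = m χ)
    (hm' : ∀ χ : IrrCharacter G, classInner ψ χ = m' χ) :
    classInner φ ψ = ((∑ ζ : IrrCharacter G, m ζ * m' ζ : ℕ) : ℂ) := by
  rw [classInner_eq_sum_irr (isClassFunction_of_isCharacter hφ) ψ]
  push_cast
  refine Finset.sum_congr rfl fun ζ _ => ?_
  rw [hm ζ, ← classInner_conj_symm ψ ζ, hm' ζ, Complex.conj_natCast]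

/-- **PK-DEC**. -/
theorem decomp (θ₁ θ₂ : IrrCharacter G) (hne : θ₁ ≠ θ₂)
    (hr₁ : ∀ g : G, conj ((θ₁ : G → ℂ) g) = (θ₁ : G → ℂ) g)
    (hr₂ : ∀ g : G, conj ((θ₂ : G → ℂ) g) = (θ₂ : G → ℂ) g) :
    ∃ M11 M12 M22 : IrrCharacter G → ℕ,
      (∀ g, (θ₁ : G → ℂ) g * (θ₁ : G → ℂ) g = ∑ ζ : IrrCharacter G, (M11 ζ : ℂ) * (ζ : G → ℂ) g) ∧
      (∀ g, (θ₁ : G → ℂ) g * (θ₂ : G → ℂ) g = ∑ ζ : IrrCharacter G, (M12 ζ : ℂ) * (ζ : G → ℂ) g) ∧
      (∀ g, (θ₂ : G → ℂ) g * (θ₂ : G → ℂ) g = ∑ ζ : IrrCharacter G, (M22 ζ : ℂ) * (ζ : G → ℂ) g) ∧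
      M11 (oneIrr G) = 1 ∧ M22 (oneIrr G) = 1 ∧ M12 (oneIrr G) = 0 ∧
      M11 θ₂ = M12 θ₁ ∧ M22 θ₁ = M12 θ₂ ∧
      ∑ ζ : IrrCharacter G, M11 ζ * M22 ζ = ∑ ζ : IrrCharacter G, M12 ζ ^ 2 := by
  classical
  have hc1 := isCharacter_of_isIrrCharacter θ₁.2
  have hc2 := isCharacter_of_isIrrCharacter θ₂.2
  have hc11 := isCharacter_mul hc1 hc1
  have hc12 := isCharacter_mul hc1 hc2
  have hc22 := isCharacter_mul hc2 hc2
  obtain ⟨M11, hM11, hs11⟩ := mult_expand hc11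
  obtain ⟨M12, hM12, hs12⟩ := mult_expand hc12
  obtain ⟨M22, hM22, hs22⟩ := mult_expand hc22
  have hone : ∀ g, conj (((oneIrr G : IrrCharacter G) : G → ℂ) g) =
      ((oneIrr G : IrrCharacter G) : G → ℂ) g := by
    intro g
    show conj (1 : ℂ) = 1
    exact map_one _
  have hone' : ∀ g, ((oneIrr G : IrrCharacter G) : G → ℂ) g = 1 := fun g => rfl
  have hn1 : classInner (θ₁ : G → ℂ) (θ₁ : G → ℂ) = 1 := classInner_self_of_isIrrCharacter θ₁.2
  have hn2 : classInner (θ₂ : G → ℂ) (θ₂ : G → ℂ) = 1 := classInner_self_of_isIrrCharacter θ₂.2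
  have hn12 : classInner (θ₁ : G → ℂ) (θ₂ : G → ℂ) = 0 :=
    classInner_of_isIrrCharacter_of_ne θ₁.2 θ₂.2 (fun h => hne (Subtype.ext h))
  refine ⟨M11, M12, M22, fun g => hs11 g, fun g => hs12 g, fun g => hs22 g, ?_, ?_, ?_, ?_, ?_, ?_⟩
  · have h := hM11 (oneIrr G)
    rw [classInner_real _ _ hone] at h
    rw [classInner_real _ _ hr₁] at hn1
    have : ((M11 (oneIrr G) : ℕ) : ℂ) = 1 := by
      rw [← h, ← hn1]
      congr 1
      exact Finset.sum_congr rfl fun g _ => by rw [hone' g, mul_one, Pi.mul_apply]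
    exact_mod_cast this
  · have h := hM22 (oneIrr G)
    rw [classInner_real _ _ hone] at h
    rw [classInner_real _ _ hr₂] at hn2
    have : ((M22 (oneIrr G) : ℕ) : ℂ) = 1 := by
      rw [← h, ← hn2]
      congr 1
      exact Finset.sum_congr rfl fun g _ => by rw [hone' g, mul_one, Pi.mul_apply]
    exact_mod_cast this
  · have h := hM12 (oneIrr G)
    rw [classInner_real _ _ hone] at h
    rw [classInner_real _ _ hr₂] at hn12
    have : ((M12 (oneIrr G) : ℕ) : ℂ) = 0 := by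
      rw [← h, ← hn12]
      congr 1
      exact Finset.sum_congr rfl fun g _ => by rw [hone' g, mul_one, Pi.mul_apply]
    exact_mod_cast this
  · have h1 := hM11 θ₂
    have h2 := hM12 θ₁
    rw [classInner_real _ _ hr₂] at h1
    rw [classInner_real _ _ hr₁] at h2
    have : ((M11 θ₂ : ℕ) : ℂ) = (M12 θ₁ : ℕ) := by
      rw [← h1, ← h2]
      congr 1
      exact Finset.sum_congr rfl fun g _ => by rw [Pi.mul_apply, Pi.mul_apply]; ring
    exact_mod_cast this
  · have h1 := hM22 θ₁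
    have h2 := hM12 θ₂
    rw [classInner_real _ _ hr₁] at h1
    rw [classInner_real _ _ hr₂] at h2
    have : ((M22 θ₁ : ℕ) : ℂ) = (M12 θ₂ : ℕ) := by
      rw [← h1, ← h2]
      congr 1
      exact Finset.sum_congr rfl fun g _ => by rw [Pi.mul_apply, Pi.mul_apply]; ring
    exact_mod_cast this
  · have h1 := classInner_eq_sum_mult hc11 M11 M22 hM11 hM22
    have h2 := classInner_eq_sum_mult hc12 M12 M12 hM12 hM12
    rw [classInner_real _ _ (real_mul hr₂ hr₂)] at h1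
    rw [classInner_real _ _ (real_mul hr₁ hr₂)] at h2
    have : ((∑ ζ : IrrCharacter G, M11 ζ * M22 ζ : ℕ) : ℂ) =
        ((∑ ζ : IrrCharacter G, M12 ζ * M12 ζ : ℕ) : ℂ) := by
      rw [← h1, ← h2]
      congr 1
      exact Finset.sum_congr rfl fun g _ => by simp only [Pi.mul_apply]; ring
    have h3 : ∑ ζ : IrrCharacter G, M11 ζ * M22 ζ = ∑ ζ : IrrCharacter G, M12 ζ * M12 ζ := by
      exact_mod_cast this
    rw [h3]
    exact Finset.sum_congr rfl fun ζ _ => (sq _).symm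

end Cfsg.Agent.Lib.Helper43_BT_DEC
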