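import Mathlib
import Cfsg.Prelude.Def_Characters
import Cfsg.Prelude.Def_Blocks
import Cfsg.Agent.Lib.Helper3_CharComplete
import Cfsg.Agent.Lib.Helper80_CharBasic
import Cfsg.Agent.Lib.Helper16_B43Defs
import Cfsg.Agent.Lib.Helper77_BRDefs
import Cfsg.Agent.Lib.Helper23_BTDefs
import Cfsg.Agent.Lib.Helper3_RealClasses
import Cfsg.Agent.Lib.Helper16_BrauerFinal

/-!
# S0997 tensor step, package REAL (architect helper23): the exceptional characters are
real-valued.
-/

set_option autoImplicit false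

namespace Cfsg.Agent.Lib.Helper43_BT_REAL

open Cfsg Cfsg.Agent.Lib.Helper80_CharBasic Cfsg.Agent.Lib.Helper3_CharComplete
  Cfsg.Agent.Lib.Helper16_B43Defs Cfsg.Agent.Lib.Helper77_BRDefs Cfsg.Agent.Lib.Helper23_BTDefs
open scoped ComplexConjugate

universe u

variable {G : Type u} [Group G] [Fintype G] {p : ℕ} [hp : Fact p.Prime]

/-- If `f = -1` on `P \ 1` then `pavg P f = (f 1 + 1 - p) / p`. -/
theorem pavg_of_neg_one (P : Sylow p G) (hP : Nat.card P = p) (f : G → ℂ)
    (hf : ∀ x ∈ (P : Subgroup G), x ≠ 1 → f x = -1) :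
    (p : ℂ) * pavg P f = f 1 + 1 - p := by
  classical
  have hp0 : (p : ℂ) ≠ 0 := by exact_mod_cast hp.out.ne_zero
  let _ : Fintype ↥(P : Subgroup G) := Fintype.ofFinite _
  unfold pavg
  rw [hP, ← mul_assoc, mul_inv_cancel₀ hp0, one_mul, finsum_eq_sum_of_fintype]
  have h1 : ∀ x : ↥(P : Subgroup G), f x = (if x = 1 then f 1 + 1 else 0) - 1 := by
    intro x
    by_cases hx : x = 1
    · rw [if_pos hx, hx]; simp
    · rw [if_neg hx, hf x x.2 (fun h => hx (Subtype.ext h))]; ring
  rw [Finset.sum_congr rfl (fun x _ => h1 x), Finset.sum_sub_distrib, Finset.sum_ite_eq',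
    if_pos (Finset.mem_univ _), Finset.sum_const, Finset.card_univ, ← Nat.card_eq_fintype_card, hP]
  simp

/-- **PK-REAL**. -/
theorem real_valued (P : Sylow p G) (D : PBData P) (e : ℕ) (θ₁ θ₂ : IrrCharacter G)
    (hT : TSet P D e θ₁ θ₂)
    (hsum : ∀ x ∈ (P : Subgroup G), x ≠ 1 → (θ₁ : G → ℂ) x + (θ₂ : G → ℂ) x = 1)
    (hreal : ∀ x ∈ (P : Subgroup G), x ≠ 1 → conj ((θ₁ : G → ℂ) x) = (θ₁ : G → ℂ) x)
    (hprod : ∀ x ∈ (P : Subgroup G), x ≠ 1 → (θ₁ : G → ℂ) x * (θ₂ : G → ℂ) x = -((e : ℂ) / 2))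
    (havg : pavg P (θ₁ : G → ℂ) = 1) :
    ∀ g : G, conj ((θ₁ : G → ℂ) g) = (θ₁ : G → ℂ) g := by
  classical
  have he2 := hT.he2
  have he0 : (e : ℂ) ≠ 0 := by
    have : e ≠ 0 := by omega
    exact_mod_cast this
  -- a nontrivial element of `P`
  obtain ⟨x, hxP, hx1⟩ : ∃ x ∈ (P : Subgroup G), x ≠ 1 := by
    have h1 : 1 < Nat.card ↥(P : Subgroup G) := by
      have := hT.hP
      rw [this]
      exact hp.out.one_lt
    have : Nontrivial ↥(P : Subgroup G) := (Finite.one_lt_card_iff_nontrivial).1 h1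
    obtain ⟨y, hy⟩ := exists_ne (1 : ↥(P : Subgroup G))
    exact ⟨y, y.2, fun h => hy (Subtype.ext h)⟩
  set ψ := Cfsg.Agent.Lib.Helper3_RealClasses.conjIrr θ₁ with hψ
  have hψval : ∀ y ∈ (P : Subgroup G), y ≠ 1 → (ψ : G → ℂ) y = (θ₁ : G → ℂ) y := by
    intro y hy hy1
    rw [hψ, Cfsg.Agent.Lib.Helper3_RealClasses.conjIrr_apply, hreal y hy hy1]
  by_cases hX : ψ ∈ D.X
  · exfalso
    have hval : ∀ y ∈ (P : Subgroup G), y ≠ 1 → (θ₁ : G → ℂ) y = (D.εX ψ : ℂ) := by
      intro y hy hy1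
      have h := D.hXval ψ hX y hy hy1 1 (Subgroup.one_mem _)
        (by rw [orderOf_one]; exact fun h => hp.out.one_lt.ne' (Nat.dvd_one.1 h))
      rw [mul_one] at h
      rw [← hψval y hy hy1, h]
    rcases D.hεX ψ hX with h1 | h1
    · -- value `1`: product zero
      have hv := hval x hxP hx1
      rw [h1] at hv
      have hs := hsum x hxP hx1
      have hpr := hprod x hxP hx1
      have h2 : (θ₂ : G → ℂ) x = 0 := by
        have : (θ₂ : G → ℂ) x = 1 - (θ₁ : G → ℂ) x := by rw [← hs]; ring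
        rw [this, hv]; simp
      rw [h2, mul_zero] at hpr
      apply he0
      linear_combination (2 : ℂ) * hpr
    · -- value `-1` everywhere: the average is wrong
      have h3 := pavg_of_neg_one P hT.hP (θ₁ : G → ℂ) (by
        intro y hy hy1
        rw [hval y hy hy1, h1]; simp)
      rw [havg, mul_one] at h3
      have hdeg : (θ₁ : G → ℂ) 1 = (e : ℂ) + 1 := by
        rw [← Cfsg.Agent.Lib.Helper16_BrauerFinal.charDegree_cast, hT.hdeg₁]
        push_cast; ring
      have hpe : (p : ℂ) = 2 * (e : ℂ) + 1 := by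
        have := hT.hpe
        rw [this]; push_cast; ring
      rw [hdeg, hpe] at h3
      apply he0
      linear_combination (1 / 3 : ℂ) * h3
  · by_cases hY : ψ ∈ D.Y
    · rw [hT.hY, Finset.mem_insert, Finset.mem_singleton] at hY
      rcases hY with h | h
      · intro g
        have := congrArg (fun χ : IrrCharacter G => (χ : G → ℂ) g) h
        simpa [hψ] using this
      · exfalso
        have h1 : (θ₂ : G → ℂ) x = (θ₁ : G → ℂ) x := by
          rw [← hψval x hxP hx1, h]
        have hs := hsum x hxP hx1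
        have hpr := hprod x hxP hx1
        rw [h1] at hs hpr
        have h2 : (θ₁ : G → ℂ) x = 1 / 2 := by linear_combination (1 / 2 : ℂ) * hs
        rw [h2] at hpr
        have h3 : ((2 * e + 1 : ℕ) : ℂ) = 0 := by
          push_cast
          linear_combination (4 : ℂ) * hpr
        have : 2 * e + 1 = 0 := by exact_mod_cast h3
        omega
    · exfalso
      have h0 := D.hout hT.hC ψ hX hY x hxP hx1
      rw [hψval x hxP hx1] at h0
      have hpr := hprod x hxP hx1
      rw [h0, zero_mul] at hpr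
      apply he0
      linear_combination (2 : ℂ) * hpr

end Cfsg.Agent.Lib.Helper43_BT_REAL
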