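import Mathlib
import Cfsg.Prelude.Def_Characters
import Cfsg.Prelude.Def_Blocks
import Cfsg.Agent.Lib.Helper3_CharComplete
import Cfsg.Agent.Lib.Helper80_CharBasic
import Cfsg.Agent.Lib.Helper16_B43Defs
import Cfsg.Agent.Lib.Helper77_BRDefs
import Cfsg.Agent.Lib.Helper23_BTDefs
import Cfsg.Agent.Lib.Helper75_BR_LinCore
import Cfsg.Agent.Lib.Helper75_BR_LINSUM
import Cfsg.Agent.Lib.Helper75_BR_LINVAL
import Cfsg.Agent.Lib.Helper64_BT_LIN0

/-!
# S0997 tensor step, package LIN (helper64, architect helper23): the linear characters of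
`N_G(P)/P` in `θ²`
-/

set_option autoImplicit false
set_option maxHeartbeats 400000
set_option linter.unusedSectionVars false
set_option linter.unusedVariables false

namespace Cfsg.Agent.Lib.Helper64_BT_LIN

open Cfsg Cfsg.Agent.Lib.Helper80_CharBasic Cfsg.Agent.Lib.Helper3_CharComplete
  Cfsg.Agent.Lib.Helper16_B43Defs Cfsg.Agent.Lib.Helper77_BRDefs Cfsg.Agent.Lib.Helper23_BTDefs
open Cfsg.Agent.Lib.Helper75_BR_LinCore
open scoped ComplexConjugate

universe u

variable {G : Type u} [Group G] [Fintype G] {p : ℕ} [hp : Fact p.Prime]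

open scoped Classical in
/-- first orthogonality for the linear characters `μ i` of `N_G(P)/P` -/
theorem sum_conj_mu (P : Sylow p G) (L : LinData P) (i : L.ι) :
    (∑ x : G, if x ∈ Nrm P then conj (L.μ i x) else 0) =
      if i = L.one then (Nat.card (Nrm P) : ℂ) else 0 := by
  by_cases hi : i = L.one
  · rw [if_pos hi, hi]
    have h2 : ∀ x : G, (if x ∈ Nrm P then conj (L.μ L.one x) else 0) =
        if x ∈ Nrm P then (1 : ℂ) else 0 := by
      intro x
      by_cases hx : x ∈ Nrm P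
      · rw [if_pos hx, if_pos hx, L.hμ_one x hx, map_one]
      · rw [if_neg hx, if_neg hx]
    rw [Finset.sum_congr rfl (fun x _ => h2 x), ← Finset.sum_filter, Finset.sum_const,
      nsmul_eq_mul, mul_one]
    congr 1
    rw [Nat.card_eq_fintype_card, Fintype.card_subtype]
  · rw [if_neg hi]
    obtain ⟨x₀, hx₀N, hx₀⟩ : ∃ x₀ ∈ Nrm P, L.μ i x₀ ≠ 1 := by
      by_contra hcon
      push Not at hcon
      apply hi
      apply L.hμ_inj
      intro x hx
      rw [hcon x hx, L.hμ_one x hx]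
    obtain ⟨S, hS⟩ : ∃ S : ℂ, S = ∑ x : G, if x ∈ Nrm P then L.μ i x else 0 := ⟨_, rfl⟩
    have h1 : L.μ i x₀ * S = S := by
      rw [hS, Finset.mul_sum]
      refine (Fintype.sum_equiv (Equiv.mulLeft x₀)
        (fun x => L.μ i x₀ * (if x ∈ Nrm P then L.μ i x else 0))
        (fun y => if y ∈ Nrm P then L.μ i y else 0) ?_)
      intro x
      change L.μ i x₀ * (if x ∈ Nrm P then L.μ i x else 0) =
        if x₀ * x ∈ Nrm P then L.μ i (x₀ * x) else 0
      by_cases hx : x ∈ Nrm P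
      · rw [if_pos hx, if_pos ((Nrm P).mul_mem hx₀N hx), L.hμ_mul i x₀ hx₀N x hx]
      · have hnot : x₀ * x ∉ Nrm P := by
          intro h
          apply hx
          have := (Nrm P).mul_mem ((Nrm P).inv_mem hx₀N) h
          simpa using this
        rw [if_neg hx, if_neg hnot, mul_zero]
    have hS0 : S = 0 := by
      have h2 : (L.μ i x₀ - 1) * S = 0 := by rw [sub_mul, one_mul, h1, sub_self]
      rcases mul_eq_zero.mp h2 with h | h
      · exact absurd (sub_eq_zero.mp h) hx₀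
      · exact h
    have h3 : (∑ x : G, if x ∈ Nrm P then conj (L.μ i x) else 0) = conj S := by
      rw [hS, map_sum]
      apply Finset.sum_congr rfl
      intro x _
      by_cases hx : x ∈ Nrm P
      · rw [if_pos hx, if_pos hx]
      · rw [if_neg hx, if_neg hx, map_zero]
    rw [h3, hS0, map_zero]

theorem lin_sq (P : Sylow p G) (D : PBData P) (e : ℕ) (θ₁ θ₂ : IrrCharacter G)
    (hT : TSet P D e θ₁ θ₂) (L : LinData P) (θ : IrrCharacter G) (hθ : θ ∈ D.Y)
    (hr : ∀ g : G, conj ((θ : G → ℂ) g) = (θ : G → ℂ) g)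
    (havg : pavg P (θ : G → ℂ) = 1)
    (h11 : pavg P (fun g => (θ : G → ℂ) g * (θ : G → ℂ) g) = (e : ℂ) + 1)
    (M : IrrCharacter G → ℕ)
    (hM : ∀ g, (θ : G → ℂ) g * (θ : G → ℂ) g = ∑ ζ : IrrCharacter G, (M ζ : ℂ) * (ζ : G → ℂ) g) :
    ∀ i : L.ι, ∑ ζ : IrrCharacter G, M ζ * L.a i ζ = if i = L.one then 2 else 1 := by
  classical
  intro i
  have hP := hT.hP
  have hC := hT.hC
  have hp0 : (p : ℂ) ≠ 0 := Nat.cast_ne_zero.mpr hp.out.ne_zero
  have he0 : (e : ℂ) ≠ 0 := by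
    have := hT.he2
    have h : e ≠ 0 := by omega
    exact_mod_cast h
  have hNcard : (Nat.card (Nrm P) : ℂ) = (p : ℂ) * (e : ℂ) := by
    rw [card_nrm P hP hC, hT.he]; push_cast; ring
  have hPN : (P : Subgroup G) ≤ Nrm P := Subgroup.le_normalizer
  -- the multiplicities of the `μ j` in `θ` : exactly one of them is `1`
  have hsum1 : ∑ j : L.ι, L.a j θ = 1 := by
    have h := (Cfsg.Agent.Lib.Helper64_BT_LIN0.lin_basic P hP hC L).2 θ
    rw [havg] at h
    exact_mod_cast h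
  obtain ⟨j0, hj0, hj0'⟩ : ∃ j0 : L.ι, L.a j0 θ = 1 ∧ ∀ j, j ≠ j0 → L.a j θ = 0 := by
    have hex : ∃ j0 : L.ι, L.a j0 θ ≠ 0 := by
      by_contra hcon
      push Not at hcon
      rw [Finset.sum_eq_zero (fun j _ => hcon j)] at hsum1
      exact zero_ne_one hsum1
    obtain ⟨j0, hj0⟩ := hex
    have hsplit := Finset.add_sum_erase Finset.univ (fun j => L.a j θ) (Finset.mem_univ j0)
    rw [hsum1] at hsplit
    have h1 : L.a j0 θ = 1 := by omega
    have h2 : ∑ j ∈ Finset.univ.erase j0, L.a j θ = 0 := by omega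
    refine ⟨j0, h1, fun j hj => ?_⟩
    exact (Finset.sum_eq_zero_iff.mp h2) j (Finset.mem_erase.mpr ⟨hj, Finset.mem_univ j⟩)
  -- `θ(σ)² = 1` off `P`
  have hsq : ∀ σ ∈ Nrm P, σ ∉ (P : Subgroup G) → (θ : G → ℂ) σ * (θ : G → ℂ) σ = 1 := by
    intro σ hσN hσP
    have h1 := Cfsg.Agent.Lib.Helper75_BR_LINVAL.LINVAL P hP hC L θ σ hσN hσP
    rw [Finset.sum_eq_single j0 (fun j _ hj => by rw [hj0' j hj, Nat.cast_zero, zero_mul])
      (fun h => absurd (Finset.mem_univ _) h), hj0, Nat.cast_one, one_mul] at h1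
    calc (θ : G → ℂ) σ * (θ : G → ℂ) σ = (θ : G → ℂ) σ * conj ((θ : G → ℂ) σ) := by rw [hr σ]
      _ = L.μ j0 σ * conj (L.μ j0 σ) := by rw [h1]
      _ = 1 := by rw [mu_conj L j0 hσN, mu_mul_inv L j0 hσN]
  -- sums over `P`
  have hPsum : (∑ x : G, if x ∈ (P : Subgroup G) then (θ : G → ℂ) x * (θ : G → ℂ) x else 0) =
      (p : ℂ) * ((e : ℂ) + 1) := by
    have e1 : ∑ᶠ x : ↥(P : Subgroup G), (θ : G → ℂ) x * (θ : G → ℂ) x =
        ∑ᶠ x ∈ ((P : Subgroup G) : Set G), (θ : G → ℂ) x * (θ : G → ℂ) x :=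
      finsum_set_coe_eq_finsum_mem (s := ((P : Subgroup G) : Set G))
        (f := fun x => (θ : G → ℂ) x * (θ : G → ℂ) x)
    rw [pavg, hP, e1, finsum_mem_eq_sum_ite] at h11
    have h2 : (∑ x : G, if x ∈ ((P : Subgroup G) : Set G) then (θ : G → ℂ) x * (θ : G → ℂ) x else 0)
        = (p : ℂ) * ((e : ℂ) + 1) := by
      rw [← h11, ← mul_assoc, mul_inv_cancel₀ hp0, one_mul]
    exact h2
  have hPone : (∑ x : G, if x ∈ (P : Subgroup G) then (1 : ℂ) else 0) = (p : ℂ) := by
    rw [← Finset.sum_filter, Finset.sum_const, nsmul_eq_mul, mul_one]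
    congr 1
    have h1 : Fintype.card ↥(P : Subgroup G) =
        (Finset.univ.filter (fun x : G => x ∈ (P : Subgroup G))).card := Fintype.card_subtype _
    have h2 : Nat.card ↥(P : Subgroup G) = Fintype.card ↥(P : Subgroup G) :=
      Nat.card_eq_fintype_card
    exact h1.symm.trans (h2.symm.trans hP)
  -- the main computation
  have hcast : ((∑ ζ : IrrCharacter G, M ζ * L.a i ζ : ℕ) : ℂ) =
      (Nat.card (Nrm P) : ℂ)⁻¹ * ∑ x : G,
        if x ∈ Nrm P then (θ : G → ℂ) x * (θ : G → ℂ) x * conj (L.μ i x) else 0 := by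
    rw [Nat.cast_sum]
    have h1 : ∀ ζ : IrrCharacter G, ((M ζ * L.a i ζ : ℕ) : ℂ) = (Nat.card (Nrm P) : ℂ)⁻¹ *
        ∑ x : G, if x ∈ Nrm P then (M ζ : ℂ) * (ζ : G → ℂ) x * conj (L.μ i x) else 0 := by
      intro ζ
      rw [Nat.cast_mul, L.ha i ζ, finsum_mem_eq_sum_ite, mul_left_comm, Finset.mul_sum]
      congr 1
      apply Finset.sum_congr rfl
      intro x _
      by_cases hx : x ∈ Nrm P
      · have hx' : x ∈ ((Nrm P : Subgroup G) : Set G) := hx
        rw [if_pos hx, if_pos hx', mul_assoc]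
      · have hx' : x ∉ ((Nrm P : Subgroup G) : Set G) := hx
        rw [if_neg hx, if_neg hx', mul_zero]
    rw [Finset.sum_congr rfl (fun ζ _ => h1 ζ), ← Finset.mul_sum, Finset.sum_comm]
    congr 1
    apply Finset.sum_congr rfl
    intro x _
    by_cases hx : x ∈ Nrm P
    · simp only [if_pos hx]
      rw [← Finset.sum_mul, ← hM x]
    · simp only [if_neg hx, Finset.sum_const_zero]
  have hsplit : ∀ x : G,
      (if x ∈ Nrm P then (θ : G → ℂ) x * (θ : G → ℂ) x * conj (L.μ i x) else 0) =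
      (if x ∈ (P : Subgroup G) then (θ : G → ℂ) x * (θ : G → ℂ) x else 0) +
        (if x ∈ Nrm P then conj (L.μ i x) else 0) -
        (if x ∈ (P : Subgroup G) then (1 : ℂ) else 0) := by
    intro x
    by_cases hxP : x ∈ (P : Subgroup G)
    · have hxN : x ∈ Nrm P := hPN hxP
      simp only [if_pos hxN, if_pos hxP, L.hμ_P i x hxP, map_one]
      ring
    · by_cases hxN : x ∈ Nrm P
      · simp only [if_pos hxN, if_neg hxP, hsq x hxN hxP]
        ring
      · simp only [if_neg hxN, if_neg hxP]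
        ring
  rw [Finset.sum_congr rfl (fun x _ => hsplit x), Finset.sum_sub_distrib, Finset.sum_add_distrib,
    hPsum, sum_conj_mu P L i, hPone, hNcard] at hcast
  by_cases hi : i = L.one
  · rw [if_pos hi] at hcast ⊢
    have h2 : ((∑ ζ : IrrCharacter G, M ζ * L.a i ζ : ℕ) : ℂ) = ((2 : ℕ) : ℂ) := by
      rw [hcast]
      field_simp
      ring
    exact_mod_cast h2
  · rw [if_neg hi] at hcast ⊢
    have h2 : ((∑ ζ : IrrCharacter G, M ζ * L.a i ζ : ℕ) : ℂ) = ((1 : ℕ) : ℂ) := by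
      rw [hcast]
      field_simp
      ring
    exact_mod_cast h2

end Cfsg.Agent.Lib.Helper64_BT_LIN
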