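import Mathlib
import Cfsg.Prelude.Def_Characters
import Cfsg.Prelude.Def_Blocks
import Cfsg.Agent.Lib.Helper3_CharComplete
import Cfsg.Agent.Lib.Helper80_CharBasic
import Cfsg.Agent.Lib.Helper16_B43Defs
import Cfsg.Agent.Lib.Helper77_BRDefs
import Cfsg.Agent.Lib.Helper50_BR_LIN
import Cfsg.Agent.Lib.Helper23_BTDefs
import Cfsg.Agent.Lib.Helper23_BT_Util
import Cfsg.Agent.Lib.Helper23_BT_ARITH
import Cfsg.Agent.Lib.Helper23_BT_MOM
import Cfsg.Agent.Lib.Helper23_BT_EXC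
import Cfsg.Agent.Lib.Helper43_BT_DEC
import Cfsg.Agent.Lib.Helper43_BT_REAL
import Cfsg.Agent.Lib.Helper64_BT_LIN
import Cfsg.Agent.Lib.Helper64_BT_LIN0
import Cfsg.Agent.Lib.Helper77_BT_FUN

/-!
# Brauer-Tuan (S0997), tensor step: the assembly (helper23)
-/

set_option autoImplicit false

namespace Cfsg.Agent.Lib.Helper23_BT_Main

open Cfsg Cfsg.Agent.Lib.Helper80_CharBasic Cfsg.Agent.Lib.Helper3_CharComplete
  Cfsg.Agent.Lib.Helper16_B43Defs Cfsg.Agent.Lib.Helper77_BRDefs Cfsg.Agent.Lib.Helper23_BTDefs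
  Cfsg.Agent.Lib.Helper23_BT_Util
open scoped ComplexConjugate

universe u

variable {G : Type u} [Group G] [Fintype G] {p : ℕ} [hp : Fact p.Prime]

omit hp in
/-- The standing hypotheses are symmetric in the two exceptional characters. -/
theorem TSet.symm {P : Sylow p G} {D : PBData P} {e : ℕ} {θ₁ θ₂ : IrrCharacter G}
    (hT : TSet P D e θ₁ θ₂) : TSet P D e θ₂ θ₁ where
  hP := hT.hP
  hC := hT.hC
  he := hT.he
  hpe := hT.hpe
  heven := hT.heven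
  he2 := hT.he2
  hε := hT.hε
  hY := by rw [hT.hY, Finset.pair_comm]
  hne := hT.hne.symm
  hdeg₁ := hT.hdeg₂
  hdeg₂ := hT.hdeg₁
  hpar := hT.hpar
  hnolin := hT.hnolin

omit hp in
/-- Linearity of the functionals `L_θ = (e+1) pavg - pavg (· θ)`. -/
theorem Lfun (P : Sylow p G) (D : PBData P) (e : ℕ) (M : IrrCharacter G → ℕ) (F : G → ℂ)
    (hF : ∀ g, F g = ∑ ζ : IrrCharacter G, (M ζ : ℂ) * (ζ : G → ℂ) g)
    (θ θ' : IrrCharacter G) (hθ' : θ' ∉ D.X)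
    (hfun : ∀ ζ : IrrCharacter G, ((e : ℂ) + 1) * pavg P (ζ : G → ℂ)
        - pavg P (fun g => (ζ : G → ℂ) g * (θ : G → ℂ) g) =
        (e : ℂ) * (if ζ ∈ D.X then (D.εX ζ : ℂ) else if ζ = θ' then 1 else 0)) :
    ((e : ℂ) + 1) * pavg P F - pavg P (fun g => F g * (θ : G → ℂ) g) =
      (e : ℂ) * (((∑ χ ∈ D.X, (M χ : ℤ) * D.εX χ + (M θ' : ℤ) : ℤ)) : ℂ) := by
  classical
  have h1 : pavg P F = ∑ ζ : IrrCharacter G, (M ζ : ℂ) * pavg P (ζ : G → ℂ) := by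
    rw [← pavg_sum]
    exact pavg_congr P _ _ (fun x _ => hF x)
  have h2 : pavg P (fun g => F g * (θ : G → ℂ) g)
      = ∑ ζ : IrrCharacter G, (M ζ : ℂ) * pavg P (fun g => (ζ : G → ℂ) g * (θ : G → ℂ) g) := by
    rw [← pavg_sum]
    apply pavg_congr
    intro x _
    rw [hF x, Finset.sum_mul]
    apply Finset.sum_congr rfl
    intro ζ _
    ring
  rw [h1, h2, Finset.mul_sum, ← Finset.sum_sub_distrib]
  have h3 : ∀ ζ : IrrCharacter G, ((e : ℂ) + 1) * ((M ζ : ℂ) * pavg P (ζ : G → ℂ))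
      - (M ζ : ℂ) * pavg P (fun g => (ζ : G → ℂ) g * (θ : G → ℂ) g)
      = (e : ℂ) * ((if ζ ∈ D.X then (M ζ : ℂ) * (D.εX ζ : ℂ) else 0)
          + (if ζ = θ' then (M ζ : ℂ) else 0)) := by
    intro ζ
    have := hfun ζ
    have h4 : ((e : ℂ) + 1) * ((M ζ : ℂ) * pavg P (ζ : G → ℂ))
      - (M ζ : ℂ) * pavg P (fun g => (ζ : G → ℂ) g * (θ : G → ℂ) g)
      = (M ζ : ℂ) * (((e : ℂ) + 1) * pavg P (ζ : G → ℂ)
        - pavg P (fun g => (ζ : G → ℂ) g * (θ : G → ℂ) g)) := by ring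
    rw [h4, this]
    by_cases hX : ζ ∈ D.X
    · have hne : ζ ≠ θ' := fun h => hθ' (h ▸ hX)
      rw [if_pos hX, if_pos hX, if_neg hne]; ring
    · rw [if_neg hX, if_neg hX]
      by_cases hζ : ζ = θ'
      · rw [if_pos hζ, if_pos hζ]; ring
      · rw [if_neg hζ, if_neg hζ]; ring
  rw [Finset.sum_congr rfl (fun ζ _ => h3 ζ), ← Finset.mul_sum, Finset.sum_add_distrib,
    Finset.sum_ite_mem, Finset.univ_inter, Finset.sum_ite_eq' Finset.univ θ',
    if_pos (Finset.mem_univ _)]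
  push_cast
  rfl

theorem charDegree_oneIrr' : charDegree ((oneIrr G : IrrCharacter G) : G → ℂ) = 1 := by
  have h := Cfsg.Agent.Lib.Helper77_BT_FUN.apply_one (oneIrr G)
  have h1 : ((oneIrr G : IrrCharacter G) : G → ℂ) 1 = 1 := rfl
  rw [h1] at h
  exact_mod_cast h.symm

theorem tensor_main (P : Sylow p G) (D : PBData P) (e : ℕ) (θ₁ θ₂ : IrrCharacter G)
    (hT : TSet P D e θ₁ θ₂) :
    ∀ χ ∈ D.X, χ ≠ oneIrr G →
      (D.εX χ = 1 ∧ charDegree (χ : G → ℂ) = p + 1) ∨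
        (D.εX χ = -1 ∧ charDegree (χ : G → ℂ) = p - 1) := by
  classical
  have hT' := TSet.symm hT
  obtain ⟨hx, havg₁, havg₂⟩ := Cfsg.Agent.Lib.Helper23_BT_EXC.exc_values P D e θ₁ θ₂ hT
  have hsum : ∀ x ∈ (P : Subgroup G), x ≠ 1 → (θ₁ : G → ℂ) x + (θ₂ : G → ℂ) x = 1 :=
    fun x hx1 hx2 => (hx x hx1 hx2).1
  have hsum' : ∀ x ∈ (P : Subgroup G), x ≠ 1 → (θ₂ : G → ℂ) x + (θ₁ : G → ℂ) x = 1 :=
    fun x hx1 hx2 => by rw [add_comm]; exact (hx x hx1 hx2).1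
  have hprod : ∀ x ∈ (P : Subgroup G), x ≠ 1 →
      (θ₁ : G → ℂ) x * (θ₂ : G → ℂ) x = -((e : ℂ) / 2) :=
    fun x hx1 hx2 => (hx x hx1 hx2).2.2.2
  have hprod' : ∀ x ∈ (P : Subgroup G), x ≠ 1 →
      (θ₂ : G → ℂ) x * (θ₁ : G → ℂ) x = -((e : ℂ) / 2) :=
    fun x hx1 hx2 => by rw [mul_comm]; exact (hx x hx1 hx2).2.2.2
  have h1 : (θ₁ : G → ℂ) 1 = (e : ℂ) + 1 := by
    rw [Cfsg.Agent.Lib.Helper77_BT_FUN.apply_one, hT.hdeg₁]; push_cast; ring
  have h2 : (θ₂ : G → ℂ) 1 = (e : ℂ) + 1 := by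
    rw [Cfsg.Agent.Lib.Helper77_BT_FUN.apply_one, hT.hdeg₂]; push_cast; ring
  obtain ⟨-, m11, m12, m111, m112⟩ := Cfsg.Agent.Lib.Helper23_BT_MOM.moments P e hT.hP hT.hpe
    (θ₁ : G → ℂ) (θ₂ : G → ℂ) h1 h2 hsum hprod havg₁
  obtain ⟨-, m22, m21, m222, m221⟩ := Cfsg.Agent.Lib.Helper23_BT_MOM.moments P e hT.hP hT.hpe
    (θ₂ : G → ℂ) (θ₁ : G → ℂ) h2 h1 hsum' hprod' havg₂
  have m122 : pavg P (fun g => (θ₁ : G → ℂ) g * (θ₂ : G → ℂ) g * (θ₂ : G → ℂ) g)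
      = (e : ℂ) ^ 2 / 2 + e + 1 := by
    rw [← m221]
    apply pavg_congr
    intro x _
    ring
  have m121 : pavg P (fun g => (θ₁ : G → ℂ) g * (θ₂ : G → ℂ) g * (θ₁ : G → ℂ) g)
      = (e : ℂ) ^ 2 / 2 + e + 1 := by
    rw [← m112]
    apply pavg_congr
    intro x _
    ring
  -- reality
  have hr₁ := Cfsg.Agent.Lib.Helper43_BT_REAL.real_valued P D e θ₁ θ₂ hT hsum (fun x hx1 hx2 => (hx x hx1 hx2).2.1) hprod havg₁
  have hr₂ := Cfsg.Agent.Lib.Helper43_BT_REAL.real_valued P D e θ₂ θ₁ hT' hsum' (fun x hx1 hx2 => (hx x hx1 hx2).2.2.1) hprod'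
    havg₂
  -- the decompositions
  obtain ⟨M11, M12, M22, hd11, hd12, hd22, h11one, h22one, h12one, hsym1, hsym2, hnorm⟩ :=
    Cfsg.Agent.Lib.Helper43_BT_DEC.decomp θ₁ θ₂ hT.hne hr₁ hr₂
  -- the functionals
  choose m hm using Cfsg.Agent.Lib.Helper77_BT_FUN.func_irr P D e θ₁ θ₂ hT havg₁ havg₂ m11 m12 m22
  have hL1 := fun ζ => (hm ζ).2.2.2.2.1
  have hL2 := fun ζ => (hm ζ).2.2.2.2.2
  have hθ₁Y : θ₁ ∈ D.Y := by rw [hT.hY]; simp
  have hθ₂Y : θ₂ ∈ D.Y := by rw [hT.hY]; simp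
  have hθ₁X : θ₁ ∉ D.X := fun h => (Finset.disjoint_left.mp D.hdisj h) hθ₁Y
  have hθ₂X : θ₂ ∉ D.X := fun h => (Finset.disjoint_left.mp D.hdisj h) hθ₂Y
  -- the linear characters
  obtain ⟨L⟩ := Cfsg.Agent.Lib.Helper50_BR_LIN.LIN P hT.hP hT.hC
  have hlin11 := Cfsg.Agent.Lib.Helper64_BT_LIN.lin_sq P D e θ₁ θ₂ hT L θ₁ hθ₁Y hr₁ havg₁ m11 M11 hd11
  have hlin22 := Cfsg.Agent.Lib.Helper64_BT_LIN.lin_sq P D e θ₁ θ₂ hT L θ₂ hθ₂Y hr₂ havg₂ m22 M22 hd22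
  obtain ⟨hLb1, hLb2⟩ := Cfsg.Agent.Lib.Helper64_BT_LIN0.lin_basic P hT.hP hT.hC L
  -- the averages of the products
  have hA : ∀ (M : IrrCharacter G → ℕ) (F : G → ℂ),
      (∀ g, F g = ∑ ζ : IrrCharacter G, (M ζ : ℂ) * (ζ : G → ℂ) g) →
      pavg P F = ((∑ ζ : IrrCharacter G, M ζ * m ζ : ℕ) : ℂ) := by
    intro M F hF
    have : pavg P F = ∑ ζ : IrrCharacter G, (M ζ : ℂ) * pavg P (ζ : G → ℂ) := by
      rw [← pavg_sum]
      exact pavg_congr P _ _ (fun x _ => hF x)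
    rw [this]
    push_cast
    apply Finset.sum_congr rfl
    intro ζ _
    rw [(hm ζ).1]
  have he0 : (e : ℂ) ≠ 0 := by
    have : e ≠ 0 := by have := hT.he2; omega
    exact_mod_cast this
  -- the six functional values
  have f11a := Lfun P D e M11 _ hd11 θ₁ θ₂ hθ₂X hL1
  have f11b := Lfun P D e M11 _ hd11 θ₂ θ₁ hθ₁X hL2
  have f22a := Lfun P D e M22 _ hd22 θ₁ θ₂ hθ₂X hL1
  have f22b := Lfun P D e M22 _ hd22 θ₂ θ₁ hθ₁X hL2
  have f12a := Lfun P D e M12 _ hd12 θ₁ θ₂ hθ₂X hL1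
  have f12b := Lfun P D e M12 _ hd12 θ₂ θ₁ hθ₁X hL2
  rw [m11, m111] at f11a
  rw [m11, m112] at f11b
  rw [m22, m221] at f22a
  rw [m22, m222] at f22b
  rw [m12, m121] at f12a
  rw [m12, m122] at f12b
  have mz : ∀ v : ℂ, (e : ℂ) * v = 0 → v = 0 := by
    intro v hv
    rcases mul_eq_zero.mp hv with h | h
    · exact absurd h he0
    · exact h
  push_cast at f11a f11b f22a f22b f12a f12b
  let T : TData (IrrCharacter G) L.ι p e :=
  { X := D.X
    one := oneIrr G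
    th1 := θ₁
    th2 := θ₂
    κone := L.one
    εX := D.εX
    deg := fun ζ => charDegree (ζ : G → ℂ)
    m1 := m
    c := L.a
    M11 := M11
    M12 := M12
    M22 := M22
    hpe := hT.hpe
    heven := hT.heven
    he2 := hT.he2
    hXcard := by rw [D.hXcard, hT.he]
    hone := D.hone
    hth1 := hθ₁X
    hth2 := hθ₂X
    hne := hT.hne
    hε := D.hεX
    hεone := by
      have h := D.hXdeg (oneIrr G) D.hone
      rw [charDegree_oneIrr'] at h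
      rcases D.hεX (oneIrr G) D.hone with h' | h'
      · exact h'
      · exfalso
        rw [h'] at h
        have hd : (p : ℤ) ∣ 1 - (-1) := (Int.modEq_iff_dvd.mp h.symm)
        have : (p : ℤ) ∣ 2 := by simpa using hd
        have h2 : p ∣ 2 := by exact_mod_cast this
        have := Nat.le_of_dvd (by norm_num) h2
        have := hT.hpe
        have := hT.he2
        omega
    hdegone := charDegree_oneIrr'
    hdegX := fun χ hχ => (hm χ).2.1 hχ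
    hpar := hT.hpar
    hnolin := hT.hnolin
    hm1th1 := (hm θ₁).2.2.2.1 hθ₁Y
    hm1th2 := (hm θ₂).2.2.2.1 hθ₂Y
    hout := fun ζ hζ h1 h2 => (hm ζ).2.2.1 hζ (by rw [hT.hY]; simp [h1, h2])
    hA11 := by
      have := hA M11 _ hd11
      rw [m11] at this
      exact_mod_cast this.symm
    hL11 := by
      have : ((2 * (∑ χ ∈ D.X, (M11 χ : ℤ) * D.εX χ + (M11 θ₂ : ℤ)) : ℤ) : ℂ) = ((e : ℤ) : ℂ) := by
        push_cast
        have := mz (2 * (∑ χ ∈ D.X, (M11 χ : ℂ) * (D.εX χ : ℂ) + (M11 θ₂ : ℂ)) - (e : ℂ))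
          (by linear_combination (-2 : ℂ) * f11a)
        linear_combination this
      exact_mod_cast this
    hS11 := by
      have : (((M11 θ₁ : ℤ)) : ℂ) = ((M11 θ₂ + 1 : ℤ) : ℂ) := by
        push_cast
        have := mz ((M11 θ₁ : ℂ) - (M11 θ₂ : ℂ) - 1) (by linear_combination f11a - f11b)
        linear_combination this
      exact_mod_cast this
    h11one := h11one
    hA22 := by
      have := hA M22 _ hd22
      rw [m22] at this
      exact_mod_cast this.symm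
    hL22 := by
      have : ((2 * (∑ χ ∈ D.X, (M22 χ : ℤ) * D.εX χ + (M22 θ₁ : ℤ)) : ℤ) : ℂ) = ((e : ℤ) : ℂ) := by
        push_cast
        have := mz (2 * (∑ χ ∈ D.X, (M22 χ : ℂ) * (D.εX χ : ℂ) + (M22 θ₁ : ℂ)) - (e : ℂ))
          (by linear_combination (-2 : ℂ) * f22b)
        linear_combination this
      exact_mod_cast this
    hS22 := by
      have : (((M22 θ₂ : ℤ)) : ℂ) = ((M22 θ₁ + 1 : ℤ) : ℂ) := by
        push_cast
        have := mz ((M22 θ₂ : ℂ) - (M22 θ₁ : ℂ) - 1) (by linear_combination f22b - f22a)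
        linear_combination this
      exact_mod_cast this
    h22one := h22one
    hA12 := by
      have := hA M12 _ hd12
      rw [m12] at this
      exact_mod_cast this.symm
    hL12 := by
      have : ((2 * (∑ χ ∈ D.X, (M12 χ : ℤ) * D.εX χ + (M12 θ₂ : ℤ)) : ℤ) : ℂ)
          = ((-(e : ℤ) : ℤ) : ℂ) := by
        push_cast
        have := mz (2 * (∑ χ ∈ D.X, (M12 χ : ℂ) * (D.εX χ : ℂ) + (M12 θ₂ : ℂ)) + (e : ℂ))
          (by linear_combination (-2 : ℂ) * f12a)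
        linear_combination this
      exact_mod_cast this
    hS12 := by
      have : (((M12 θ₁ : ℤ)) : ℂ) = ((M12 θ₂ : ℤ) : ℂ) := by
        push_cast
        have := mz ((M12 θ₁ : ℂ) - (M12 θ₂ : ℂ)) (by linear_combination f12a - f12b)
        linear_combination this
      exact_mod_cast this
    h12one := h12one
    hsym1 := hsym1
    hsym2 := hsym2
    hnorm := hnorm
    hcsum := fun ζ => by
      have := hLb2 ζ
      rw [(hm ζ).1] at this
      exact_mod_cast this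
    hcone := hLb1
    hc11 := hlin11
    hc22 := hlin22 }
  exact Cfsg.Agent.Lib.Helper23_BT_ARITH.tens_arith hp.out T

end Cfsg.Agent.Lib.Helper23_BT_Main
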