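import Cfsg.Agent.Lib.Helper23_Locals
import Cfsg.Agent.Lib.Helper48_Generation

/-!
# Balance in groups with trivial `p`-layer (helper23)

* `pLayer_eq_bot_of_isSolvable`;
* `le_relCore_of_local`: a `p'`-subgroup `Y` of `H` (with `L_{p'}(H) = 1`) normalized by `N_H(P)` and
  normalizing the `p`-subgroup `P ≤ H` lies in `O_{p'}(H)`;
* `centralizerPPrimeCore_inf_le`: `O_{p'}(C_G(x)) ∩ C_G(y) ≤ O_{p'}(C_G(y))` when `C_G(y)` is solvable and
  `x` is a `p`-element commuting with `y`.
-/

set_option autoImplicit false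

namespace Cfsg.Agent.Lib.Helper23_Balance

open Cfsg Cfsg.Agent.Lib.Helper23_Layer Cfsg.Agent.Lib.Helper23_PComp
  Cfsg.Agent.Lib.Helper23_Locals

/-- A solvable finite group has trivial `p`-layer. -/
theorem pLayer_eq_bot_of_isSolvable (X : Type*) [Group X] [Finite X] (p : ℕ) [Fact p.Prime]
    [hX : Group.IsSolvable X] : pLayer p X = ⊥ := by
  rw [Cfsg.Agent.Lib.Helper23_PConstrained.pLayer_eq_bot_iff]
  unfold layer
  rw [sSup_eq_bot]
  intro C hC
  exfalso
  have hC' : IsComponent C := hC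
  have hsolv : Group.IsSolvable ↥(⊤ : Subgroup (X ⧸ pPrimeCore p X)) :=
    Group.isSolvable_of_isSolvable_injective (Subgroup.subtype_injective _)
  exact Cfsg.Agent.Lib.Helper21_Components.IsComponent.not_le_of_isSolvable hC' hsolv le_top

variable {G : Type*} [Group G]

/-- Let `H ≤ G` have trivial `p`-layer, `P ≤ H` a `p`-subgroup, and `Y ≤ H` a `p'`-subgroup normalizing
`P` and normalized by `N_H(P)`. Then `Y ≤ O_{p'}(H)`. -/
theorem le_relCore_of_local [Finite G] (p : ℕ) [Fact p.Prime] (H : Subgroup G)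
    (hH : pLayer p ↥H = ⊥) (P : Subgroup G) (hPH : P ≤ H) (hP : IsPGroup p ↥P)
    (Y : Subgroup G) (hYH : Y ≤ H) (hY : (Nat.card ↥Y).Coprime p)
    (hYP : Y ≤ Subgroup.normalizer (P : Set G))
    (hNY : Subgroup.normalizer (P : Set G) ⊓ H ≤ Subgroup.normalizer (Y : Set G)) :
    Y ≤ relCore p H := by
  have h := (local_of_pLayer_eq_bot p hH (P.subgroupOf H) hP.comap_subtype).2
  -- `Y` inside `N_H(P)`
  have hYN : Y.subgroupOf H ≤ Subgroup.normalizer ((P.subgroupOf H : Subgroup ↥H) : Set ↥H) := by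
    rw [← Subgroup.subgroupOf_normalizer_eq hPH]
    intro y hy
    rw [Subgroup.mem_subgroupOf] at hy ⊢
    exact hYP hy
  have hnormal : ((Y.subgroupOf H).subgroupOf
      (Subgroup.normalizer ((P.subgroupOf H : Subgroup ↥H) : Set ↥H))).Normal := by
    rw [Subgroup.normal_subgroupOf_iff_le_normalizer hYN]
    rw [← Subgroup.subgroupOf_normalizer_eq hPH]
    intro n hn
    rw [Subgroup.mem_subgroupOf] at hn
    have hn' : (n : G) ∈ Subgroup.normalizer (Y : Set G) := hNY (Subgroup.mem_inf.mpr ⟨hn, n.2⟩)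
    rw [Subgroup.mem_normalizer_iff] at hn' ⊢
    intro z
    rw [Subgroup.mem_subgroupOf, Subgroup.mem_subgroupOf]
    exact hn' (z : G)
  have hcard : (Nat.card ↥((Y.subgroupOf H).subgroupOf
      (Subgroup.normalizer ((P.subgroupOf H : Subgroup ↥H) : Set ↥H)))).Coprime p := by
    refine Nat.Coprime.coprime_dvd_left ?_ hY
    exact (Subgroup.card_comap_dvd_of_injective _ _ (Subgroup.subtype_injective _)).trans
      (Subgroup.card_comap_dvd_of_injective _ _ (Subgroup.subtype_injective _))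
  have hle := le_pPrimeCore hnormal hcard
  intro y hy
  have hyH : y ∈ H := hYH hy
  have hyN : (⟨y, hyH⟩ : ↥H) ∈ Subgroup.normalizer ((P.subgroupOf H : Subgroup ↥H) : Set ↥H) :=
    hYN (by rw [Subgroup.mem_subgroupOf]; exact hy)
  have h1 : (⟨⟨y, hyH⟩, hyN⟩ : ↥(Subgroup.normalizer ((P.subgroupOf H : Subgroup ↥H) : Set ↥H))) ∈
      pPrimeCore p ↥(Subgroup.normalizer ((P.subgroupOf H : Subgroup ↥H) : Set ↥H)) := by
    apply hle
    rw [Subgroup.mem_subgroupOf, Subgroup.mem_subgroupOf]
    exact hy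
  have h2 : (⟨y, hyH⟩ : ↥H) ∈ pPrimeCore p ↥H := h ⟨_, h1, rfl⟩
  exact ⟨_, h2, rfl⟩

theorem centralizer_singleton_eq (x : G) :
    Subgroup.centralizer ({x} : Set G) =
      Subgroup.centralizer ((Subgroup.zpowers x : Subgroup G) : Set G) := by
  rw [Subgroup.zpowers_eq_closure, Subgroup.centralizer_closure]

/-- `O_{p'}(C_G(x)) ∩ C_G(y) ≤ O_{p'}(C_G(y))` for a `p`-element `x` commuting with `y`, when `C_G(y)`
has trivial `p`-layer. -/
theorem centralizerPPrimeCore_inf_le [Finite G] (p : ℕ) [Fact p.Prime] (x y : G) (hx : x ^ p = 1)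
    (hxy : x * y = y * x) (hCy : pLayer p ↥(Subgroup.centralizer ({y} : Set G)) = ⊥) :
    centralizerPPrimeCore p x ⊓ Subgroup.centralizer {y} ≤ centralizerPPrimeCore p y := by
  have hxCy : x ∈ Subgroup.centralizer ({y} : Set G) := by
    rw [Subgroup.mem_centralizer_iff]
    intro z hz
    rw [Set.mem_singleton_iff] at hz
    rw [hz]; exact hxy.symm
  have hrel : centralizerPPrimeCore p x = relCore p (Subgroup.centralizer ({x} : Set G)) := rfl
  have hrely : centralizerPPrimeCore p y = relCore p (Subgroup.centralizer ({y} : Set G)) := rfl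
  rw [hrel, hrely]
  apply le_relCore_of_local p _ hCy (Subgroup.zpowers x) (Subgroup.zpowers_le.mpr hxCy)
    (Cfsg.Agent.Lib.Helper48_Generation.isPGroup_zpowers_of_pow_eq_one hx) _ inf_le_right
  · refine Nat.Coprime.coprime_dvd_left (Subgroup.card_dvd_of_le inf_le_left) ?_
    rw [card_relCore]
    exact pPrimeCore_coprime p
  · refine inf_le_left.trans ((relCore_le p _).trans ?_)
    rw [centralizer_singleton_eq]
    exact Subgroup.centralizer_le_normalizer _
  · intro n hn
    obtain ⟨hn1, hn2⟩ := Subgroup.mem_inf.mp hn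
    apply mem_normalizer_of_cj_eq
    have h1 : cj n (relCore p (Subgroup.centralizer ({x} : Set G)) ⊓ Subgroup.centralizer {y}) =
        cj n (relCore p (Subgroup.centralizer ({x} : Set G))) ⊓
          cj n (Subgroup.centralizer ({y} : Set G)) :=
      Subgroup.map_inf_eq _ _ _ (MulAut.conj n).injective
    have h2 : cj n (Subgroup.centralizer ({x} : Set G)) = Subgroup.centralizer ({x} : Set G) := by
      rw [centralizer_singleton_eq, cj_centralizer, cj_eq_of_mem_normalizer hn1]
    rw [h1, relCore_cj, h2, cj_eq_of_mem hn2]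

end Cfsg.Agent.Lib.Helper23_Balance
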