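import Cfsg.Agent.Lib.Helper23_CharP

/-!
# Groups of characteristic `p`, part 2 (helper23)

Subgroup-level forms of the inheritance of characteristic `p`:
* `isCharP_iff_isPGroup_generalizedFitting`;
* `IsCharP.of_le_of_normal`: normal subgroups;
* `IsCharP.normalizer_inf`: `N_X(P)`;
* `IsCharP.of_sup`: extensions by `p`-groups;
* `IsCharP.centralizer_of_le`: if `V ≤ U` are `p`-subgroups and `C_G(V)` has characteristic `p`, then so
  has `C_G(U)`.
-/

set_option autoImplicit false

namespace Cfsg.Agent.Lib.Helper23_CharP2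

open Cfsg Cfsg.Agent.Lib.Helper49_CharP Cfsg.Agent.Lib.Helper23_Layer Cfsg.Agent.Lib.Helper23_CharP

/-- Characteristic `p` means that `F*` is a `p`-group. -/
theorem isCharP_iff_isPGroup_generalizedFitting {C : Type*} [Group C] [Finite C] {p : ℕ}
    [Fact p.Prime] : IsCharP p C ↔ IsPGroup p ↥(generalizedFittingSubgroup C) := by
  constructor
  · intro h
    rw [isCharP_iff_generalizedFitting_eq.mp h]
    exact pCore_isPGroup p C
  · intro h
    have hle : generalizedFittingSubgroup C ≤ pCore p C :=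
      le_pCore (Cfsg.Agent.Lib.Helper29_Local.generalizedFittingSubgroup_normal C) h
    exact (Subgroup.centralizer_le hle).trans
      (Cfsg.Agent.Lib.Helper21_FStar.centralizer_generalizedFitting_le.trans hle)

variable {G : Type*} [Group G]

/-- A subgroup `Z` normal in a subgroup `Y` of characteristic `p` has characteristic `p`. -/
theorem IsCharP.of_le_of_normal [Finite G] {p : ℕ} [Fact p.Prime] {Z Y : Subgroup G}
    (hY : IsCharP p ↥Y) (hZY : Z ≤ Y) (hn : Y ≤ Subgroup.normalizer (Z : Set G)) :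
    IsCharP p ↥Z := by
  have : (Z.subgroupOf Y).Normal := (Subgroup.normal_subgroupOf_iff_le_normalizer hZY).mpr hn
  exact IsCharP.of_mulEquiv (Subgroup.subgroupOfEquivOfLe hZY) (hY.of_normal (Z.subgroupOf Y))

/-- `N_X(P)` has characteristic `p` when `X` has and `P ≤ X` is a `p`-subgroup. -/
theorem IsCharP.normalizer_inf [Finite G] {p : ℕ} [Fact p.Prime] {P X : Subgroup G}
    (hX : IsCharP p ↥X) (hPX : P ≤ X) (hP : IsPGroup p ↥P) :
    IsCharP p ↥(Subgroup.normalizer (P : Set G) ⊓ X : Subgroup G) := by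
  have h1 := IsCharP.normalizer hX (P.subgroupOf X) hP.comap_subtype
  rw [← Subgroup.subgroupOf_normalizer_eq hPX, ← Subgroup.inf_subgroupOf_right] at h1
  exact IsCharP.of_mulEquiv (Subgroup.subgroupOfEquivOfLe inf_le_right) h1

/-- If `C ⊴ X`, every `p'`-element of `X` lies in `C`, and `C` has characteristic `p`, then `X` has
characteristic `p`. -/
theorem IsCharP.of_overgroup_of_coprime_mem [Finite G] {p : ℕ} [Fact p.Prime] {C X : Subgroup G}
    (hC : IsCharP p ↥C) (hCX : C ≤ X) (hn : X ≤ Subgroup.normalizer (C : Set G))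
    (hmem : ∀ x ∈ X, (orderOf x).Coprime p → x ∈ C) : IsCharP p ↥X := by
  have hQn : (pCore p ↥X).Normal := pCoreNormal p ↥X
  have hLn : (Subgroup.centralizer (pCore p ↥X : Set ↥X)).Normal := Subgroup.normal_centralizer
  -- `O_p(C)` is a normal `p`-subgroup of `X`
  have hchar : (pCore p ↥C).Characteristic := pCore_characteristic p ↥C
  have hRn : X ≤ Subgroup.normalizer (((pCore p ↥C).map C.subtype : Subgroup G) : Set G) :=
    hn.trans
      (Cfsg.Agent.Lib.Helper24_CoprimeAction.normalizer_le_normalizer_map_of_characteristic C _)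
  have hRX : (pCore p ↥C).map C.subtype ≤ X := (Subgroup.map_subtype_le _).trans hCX
  have hRle : ((pCore p ↥C).map C.subtype).subgroupOf X ≤ pCore p ↥X :=
    le_pCore ((Subgroup.normal_subgroupOf_iff_le_normalizer hRX).mpr hRn)
      (((pCore_isPGroup p ↥C).map _).comap_subtype)
  have hLp : IsPGroup p ↥(Subgroup.centralizer (pCore p ↥X : Set ↥X)) := by
    apply isPGroup_of_forall_coprime_eq_one
    intro x hx hxo
    have hxo' : (orderOf (x : G)).Coprime p := by rwa [Subgroup.orderOf_coe]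
    have hxC : (x : G) ∈ C := hmem _ x.2 hxo'
    have hxo'' : (orderOf (⟨(x : G), hxC⟩ : ↥C)).Coprime p := by
      rw [← Subgroup.orderOf_coe]; exact hxo'
    have h1 : (⟨(x : G), hxC⟩ : ↥C) = 1 := by
      apply IsCharP.eq_one_of_coprime hC hxo''
      intro r hr
      have hrX : (⟨(r : G), hCX r.2⟩ : ↥X) ∈ pCore p ↥X := by
        apply hRle
        rw [Subgroup.mem_subgroupOf]
        exact ⟨r, hr, rfl⟩
      have := Subgroup.mem_centralizer_iff.mp hx _ hrX
      have h2 : (r : G) * (x : G) = (x : G) * (r : G) := congrArg Subtype.val this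
      exact Subtype.ext h2.symm
    have h3 : (x : G) = 1 := congrArg Subtype.val h1
    exact Subtype.ext h3
  exact le_pCore hLn hLp

/-- the normalizer of `V` normalizes its centralizer -/
theorem normalizer_le_normalizer_centralizer (V : Subgroup G) :
    Subgroup.normalizer (V : Set G) ≤
      Subgroup.normalizer ((Subgroup.centralizer (V : Set G) : Subgroup G) : Set G) := by
  intro g hg
  apply mem_normalizer_of_cj_eq
  rw [cj_centralizer, cj_eq_of_mem_normalizer hg]

/-- If `C` has characteristic `p` and the `p`-group `U` normalizes `C`, then `C ⊔ U` has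
characteristic `p`. -/
theorem IsCharP.sup_of_isPGroup [Finite G] {p : ℕ} [Fact p.Prime] {C U : Subgroup G}
    (hC : IsCharP p ↥C) (hU : IsPGroup p ↥U) (hUC : U ≤ Subgroup.normalizer (C : Set G)) :
    IsCharP p ↥(C ⊔ U : Subgroup G) := by
  have hn : C ⊔ U ≤ Subgroup.normalizer (C : Set G) := sup_le Subgroup.le_normalizer hUC
  apply IsCharP.of_overgroup_of_coprime_mem hC le_sup_left hn
  intro x hx hxo
  have hCn : (C.subgroupOf (C ⊔ U)).Normal :=
    (Subgroup.normal_subgroupOf_iff_le_normalizer le_sup_left).mpr hn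
  obtain ⟨c, hc, u, hu, rfl⟩ :=
    Cfsg.Agent.Lib.Helper24_CoprimeAction.exists_mul_of_mem_sup U C hUC hx
  -- the image of `x = c u` in `(C ⊔ U) / C` has `p`-power order
  obtain ⟨k, hk⟩ := hU ⟨u, hu⟩
  have hk' : u ^ p ^ k = 1 := congrArg Subtype.val hk
  have hcmem : (⟨c, (le_sup_left : C ≤ C ⊔ U) hc⟩ : ↥(C ⊔ U)) ∈ C.subgroupOf (C ⊔ U) := by
    rw [Subgroup.mem_subgroupOf]; exact hc
  have hmk : (QuotientGroup.mk' (C.subgroupOf (C ⊔ U)) ⟨c * u, hx⟩) ^ p ^ k = 1 := by
    have e : (⟨c * u, hx⟩ : ↥(C ⊔ U)) =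
        ⟨c, (le_sup_left : C ≤ C ⊔ U) hc⟩ * ⟨u, (le_sup_right : U ≤ C ⊔ U) hu⟩ := rfl
    rw [e, map_mul]
    have h1 : QuotientGroup.mk' (C.subgroupOf (C ⊔ U)) ⟨c, (le_sup_left : C ≤ C ⊔ U) hc⟩ = 1 := by
      rw [QuotientGroup.mk'_apply, QuotientGroup.eq_one_iff]; exact hcmem
    rw [h1, one_mul, ← map_pow]
    have h2 : (⟨u, (le_sup_right : U ≤ C ⊔ U) hu⟩ : ↥(C ⊔ U)) ^ p ^ k = 1 := Subtype.ext hk'
    rw [h2, map_one]
  have hdvd1 : orderOf (QuotientGroup.mk' (C.subgroupOf (C ⊔ U)) ⟨c * u, hx⟩) ∣ p ^ k :=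
    orderOf_dvd_of_pow_eq_one hmk
  have hdvd2 : orderOf (QuotientGroup.mk' (C.subgroupOf (C ⊔ U)) ⟨c * u, hx⟩) ∣ orderOf (c * u) := by
    have := orderOf_map_dvd (QuotientGroup.mk' (C.subgroupOf (C ⊔ U))) (⟨c * u, hx⟩ : ↥(C ⊔ U))
    rwa [← Subgroup.orderOf_coe] at this
  have hone : orderOf (QuotientGroup.mk' (C.subgroupOf (C ⊔ U)) ⟨c * u, hx⟩) = 1 :=
    Nat.eq_one_of_dvd_coprimes (Nat.Coprime.pow_right k hxo) hdvd2 hdvd1
  rw [orderOf_eq_one_iff, QuotientGroup.mk'_apply, QuotientGroup.eq_one_iff,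
    Subgroup.mem_subgroupOf] at hone
  exact hone

/-- If `V ⊴ U` are `p`-subgroups and `C_G(V)` has characteristic `p`, then so has `C_G(U)`. -/
theorem IsCharP.centralizer_of_le_of_le_normalizer [Finite G] {p : ℕ} [Fact p.Prime]
    {U V : Subgroup G} (hVU : V ≤ U) (hUV : U ≤ Subgroup.normalizer (V : Set G))
    (hU : IsPGroup p ↥U) (hV : IsCharP p ↥(Subgroup.centralizer (V : Set G))) :
    IsCharP p ↥(Subgroup.centralizer (U : Set G)) := by
  have hUC : U ≤ Subgroup.normalizer ((Subgroup.centralizer (V : Set G) : Subgroup G) : Set G) :=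
    hUV.trans (normalizer_le_normalizer_centralizer V)
  have hX := IsCharP.sup_of_isPGroup hV hU hUC
  have hN := IsCharP.normalizer_inf hX (le_sup_right : U ≤ Subgroup.centralizer (V : Set G) ⊔ U) hU
  apply IsCharP.of_le_of_normal hN
  · exact le_inf (Subgroup.centralizer_le_normalizer _)
      ((Subgroup.centralizer_le hVU).trans le_sup_left)
  · exact inf_le_left.trans (normalizer_le_normalizer_centralizer U)

/-- Normalizers grow in `q`-groups. -/
theorem normalizer_inf_not_le' [Finite G] {q : ℕ} [Fact q.Prime]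
    {Q D : Subgroup G} (hQ : IsPGroup q ↥Q) (hDQ : D ≤ Q) (hne : D ≠ Q) :
    ¬ (Subgroup.normalizer (D : Set G) ⊓ Q ≤ D) := by
  intro hle
  have hnil : Group.IsNilpotent ↥Q := hQ.isNilpotent
  have hlt : D.subgroupOf Q < ⊤ := by
    rw [lt_top_iff_ne_top, Ne, Subgroup.subgroupOf_eq_top]
    intro h
    exact hne (le_antisymm hDQ h)
  have hlt2 := Group.normalizerCondition_of_isNilpotent (D.subgroupOf Q) hlt
  rw [← Subgroup.subgroupOf_normalizer_eq hDQ] at hlt2
  have h2 : (Subgroup.normalizer (D : Set G)).subgroupOf Q ≤ D.subgroupOf Q := by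
    intro x hx
    rw [Subgroup.mem_subgroupOf] at hx ⊢
    exact hle (Subgroup.mem_inf.mpr ⟨hx, x.2⟩)
  exact absurd h2 (not_le_of_gt hlt2)

theorem IsCharP.centralizer_of_le_aux [Finite G] {p : ℕ} [Fact p.Prime] :
    ∀ (n : ℕ) (U V : Subgroup G), V ≤ U → IsPGroup p ↥U → Nat.card ↥U - Nat.card ↥V = n →
      IsCharP p ↥(Subgroup.centralizer (V : Set G)) →
      IsCharP p ↥(Subgroup.centralizer (U : Set G)) := by
  intro n
  induction n using Nat.strong_induction_on with
  | _ n ih =>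
    intro U V hVU hU hn hV
    by_cases hne : V = U
    · rw [← hne]; exact hV
    have hU₁ : IsPGroup p ↥(Subgroup.normalizer (V : Set G) ⊓ U : Subgroup G) := hU.to_le inf_le_right
    have hVU₁ : V ≤ Subgroup.normalizer (V : Set G) ⊓ U := le_inf Subgroup.le_normalizer hVU
    have hnot := normalizer_inf_not_le' hU hVU hne
    have h1 := IsCharP.centralizer_of_le_of_le_normalizer hVU₁ inf_le_left hU₁ hV
    have hlt : Nat.card ↥V < Nat.card ↥(Subgroup.normalizer (V : Set G) ⊓ U : Subgroup G) := by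
      by_contra hcon
      push Not at hcon
      have := Subgroup.eq_of_le_of_card_ge hVU₁ hcon
      exact hnot (le_of_eq this.symm)
    have hle : Nat.card ↥(Subgroup.normalizer (V : Set G) ⊓ U : Subgroup G) ≤ Nat.card ↥U :=
      Subgroup.card_le_of_le inf_le_right
    exact ih (Nat.card ↥U - Nat.card ↥(Subgroup.normalizer (V : Set G) ⊓ U : Subgroup G)) (by omega)
      U _ inf_le_right hU rfl h1

/-- If `V ≤ U` are `p`-subgroups and `C_G(V)` has characteristic `p`, then so has `C_G(U)`. -/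
theorem IsCharP.centralizer_of_le [Finite G] {p : ℕ} [Fact p.Prime] {U V : Subgroup G}
    (hVU : V ≤ U) (hU : IsPGroup p ↥U) (hV : IsCharP p ↥(Subgroup.centralizer (V : Set G))) :
    IsCharP p ↥(Subgroup.centralizer (U : Set G)) :=
  IsCharP.centralizer_of_le_aux _ U V hVU hU rfl hV

end Cfsg.Agent.Lib.Helper23_CharP2
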