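import Mathlib

set_option autoImplicit false
set_option linter.unusedSectionVars false

namespace Cfsg.Agent.Lib.Helper23_EInvAbs

/-- Combinatorics of the positive roots of a simply-laced root system, indexed by `Fin n` in an order compatible with
addition (for instance the lexicographic order of the coefficient vectors). -/
structure RootSys (n : ℕ) where
  ip : Fin n → Fin n → ℤ
  add : Fin n → Fin n → Option (Fin n)
  ip_self : ∀ r, ip r r = 2
  ip_symm : ∀ r s, ip r s = ip s r
  ip_le : ∀ r s, r ≠ s → ip r s ≤ 1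
  ip_ge : ∀ r s, -1 ≤ ip r s
  add_comm : ∀ r s, add r s = add s r
  add_some : ∀ r s, ip r s = -1 → ∃ t, add r s = some t
  ip_of_add : ∀ r s t, add r s = some t → ip r s = -1
  ip_add : ∀ r s t, add r s = some t → ∀ u, ip t u = ip r u + ip s u
  sub : ∀ r s, r < s → ip r s = 1 → ∃ t, add r t = some s
  lt_add : ∀ r s t, add r s = some t → r < t
  add_lt_add : ∀ r r' s t t', add r s = some t → add r' s = some t' → r < r' → t < t'

variable {n : ℕ}

/-- The product of the root elements `x r (t r)` over the list `L`. -/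
def word {F G : Type*} [Group G] (x : Fin n → F → G) (L : List (Fin n)) (t : Fin n → F) : G :=
  (L.map fun r => x r (t r)).prod

/-- Root subgroups `x r : F → G` over a field of characteristic 2 for the positive roots of `Φ`, generating `G`, with
the commutator formula (no signs), unique ordered products, and existence of ordered products for closed sets. -/
structure RootGroups (Φ : RootSys n) (F : Type*) [Field F] (G : Type*) [Group G] where
  x : Fin n → F → G
  x_add : ∀ r a b, x r (a + b) = x r a * x r b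
  comm : ∀ r s t, Φ.add r s = some t → ∀ a b, x s b * x r a = x r a * x s b * x t (a * b)
  comm0 : ∀ r s, Φ.add r s = none → ∀ a b, x s b * x r a = x r a * x s b
  uniq : ∀ t t' : Fin n → F, word x (List.finRange n) t = word x (List.finRange n) t' → t = t'
  exists_word : ∀ Ψ : Finset (Fin n), (∀ r ∈ Ψ, ∀ s ∈ Ψ, ∀ t, Φ.add r s = some t → t ∈ Ψ) →
    ∀ g ∈ Subgroup.closure {g : G | ∃ r ∈ Ψ, ∃ a, g = x r a},
      ∃ t : Fin n → F, (∀ r, r ∉ Ψ → t r = 0) ∧ g = word x (List.finRange n) t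
  gen : Subgroup.closure {g : G | ∃ r a, g = x r a} = ⊤

namespace RootSys

variable (Φ : RootSys n)

theorem add_ne_left {r s t : Fin n} (h : Φ.add r s = some t) : Φ.add r t = none := by
  by_contra hne
  obtain ⟨v, hv⟩ := Option.ne_none_iff_exists'.mp hne
  have h1 := Φ.ip_of_add r t v hv
  have h2 := Φ.ip_add r s t h r
  rw [Φ.ip_self, Φ.ip_symm s r, Φ.ip_of_add r s t h, Φ.ip_symm t r] at h2
  omega

theorem add_ne_right {r s t : Fin n} (h : Φ.add r s = some t) : Φ.add s t = none := by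
  rw [Φ.add_comm] at h
  exact Φ.add_ne_left h

theorem lt_add' {r s t : Fin n} (h : Φ.add r s = some t) : s < t := by
  rw [Φ.add_comm] at h
  exact Φ.lt_add s r t h

theorem add_self (r : Fin n) : Φ.add r r = none := by
  by_contra hne
  obtain ⟨v, hv⟩ := Option.ne_none_iff_exists'.mp hne
  have := Φ.ip_of_add r r v hv
  rw [Φ.ip_self] at this
  omega

end RootSys


/-! ### Sorted lists -/

section Lists

variable {α : Type*} [LinearOrder α]

theorem filter_lt_eq_nil_of_forall {L : List α} {τ : α} (h : ∀ b ∈ L, τ ≤ b) :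
    L.filter (fun b => decide (b < τ)) = [] := by
  rw [List.filter_eq_nil_iff]
  intro b hb
  have := h b hb
  simp only [decide_eq_true_eq, not_lt]
  exact this

theorem sorted_split3 (L : List α) (h : L.Pairwise (· < ·)) (τ : α) (hτ : τ ∈ L) :
    L = L.filter (fun b => decide (b < τ)) ++ τ :: L.filter (fun b => decide (τ < b)) := by
  induction L with
  | nil => simp at hτ
  | cons a L ih =>
    rw [List.pairwise_cons] at h
    rcases lt_trichotomy a τ with hlt | heq | hgt
    · have hτL : τ ∈ L := by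
        rcases List.mem_cons.mp hτ with h1 | h1
        · exact absurd h1.symm (ne_of_lt hlt)
        · exact h1
      rw [List.filter_cons_of_pos (by simpa using hlt), List.filter_cons_of_neg (by simpa using le_of_lt hlt),
        List.cons_append, ← ih h.2 hτL]
    · subst heq
      have h1 : L.filter (fun b => decide (b < a)) = [] := by
        apply filter_lt_eq_nil_of_forall
        intro b hb
        exact le_of_lt (h.1 b hb)
      have h2 : L.filter (fun b => decide (a < b)) = L := by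
        rw [List.filter_eq_self]
        intro b hb
        simpa using h.1 b hb
      rw [List.filter_cons_of_neg (by simp), List.filter_cons_of_neg (by simp), h1, h2, List.nil_append]
    · exfalso
      rcases List.mem_cons.mp hτ with h1 | h1
      · exact absurd h1 (ne_of_lt hgt)
      · exact absurd (h.1 τ h1) (not_lt.mpr (le_of_lt hgt))

end Lists

theorem finRange_split3 (τ : Fin n) :
    List.finRange n = (List.finRange n).filter (fun b => decide (b < τ)) ++
      τ :: (List.finRange n).filter (fun b => decide (τ < b)) :=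
  sorted_split3 _ (List.pairwise_lt_finRange n) τ (List.mem_finRange τ)


section Main

variable {Φ : RootSys n} {F : Type*} [Field F] [CharP F 2] {G : Type*} [Group G] (X : RootGroups Φ F G)

namespace RootGroups

theorem x_zero (r : Fin n) : X.x r 0 = 1 := by
  have h := X.x_add r 0 0
  rw [add_zero] at h
  exact (mul_eq_left (a := X.x r 0)).mp h.symm

theorem x_sq (r : Fin n) (a : F) : X.x r a * X.x r a = 1 := by
  rw [← X.x_add, CharTwo.add_self_eq_zero, X.x_zero]

theorem x_inv (r : Fin n) (a : F) : (X.x r a)⁻¹ = X.x r a :=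
  inv_eq_of_mul_eq_one_left (X.x_sq r a)

/-- The subgroup generated by the root subgroups of the roots in `Ψ`. -/
def U (Ψ : Finset (Fin n)) : Subgroup G := Subgroup.closure {g : G | ∃ r ∈ Ψ, ∃ a, g = X.x r a}

theorem x_mem_U {Ψ : Finset (Fin n)} {r : Fin n} (hr : r ∈ Ψ) (a : F) : X.x r a ∈ X.U Ψ :=
  Subgroup.subset_closure ⟨r, hr, a, rfl⟩

theorem U_mono {Ψ Ψ' : Finset (Fin n)} (h : Ψ ⊆ Ψ') : X.U Ψ ≤ X.U Ψ' := by
  apply Subgroup.closure_mono
  rintro g ⟨r, hr, a, rfl⟩
  exact ⟨r, h hr, a, rfl⟩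

theorem word_mem_U (Ψ : Finset (Fin n)) (L : List (Fin n)) (t : Fin n → F)
    (ht : ∀ r ∈ L, r ∉ Ψ → t r = 0) : word X.x L t ∈ X.U Ψ := by
  unfold word
  apply Subgroup.list_prod_mem
  intro g hg
  rw [List.mem_map] at hg
  obtain ⟨r, hr, rfl⟩ := hg
  by_cases h : r ∈ Ψ
  · exact X.x_mem_U h _
  · rw [ht r hr h, X.x_zero]
    exact Subgroup.one_mem _

theorem word_nil (t : Fin n → F) : word X.x [] t = 1 := by
  simp [word]

theorem word_cons (r : Fin n) (L : List (Fin n)) (t : Fin n → F) :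
    word X.x (r :: L) t = X.x r (t r) * word X.x L t := by
  simp [word]

theorem word_append (L L' : List (Fin n)) (t : Fin n → F) :
    word X.x (L ++ L') t = word X.x L t * word X.x L' t := by
  simp [word]

theorem word_congr (L : List (Fin n)) (t t' : Fin n → F) (h : ∀ r ∈ L, t r = t' r) :
    word X.x L t = word X.x L t' := by
  unfold word
  congr 1
  apply List.map_congr_left
  intro r hr
  rw [h r hr]

theorem word_eq_one (L : List (Fin n)) (t : Fin n → F) (h : ∀ r ∈ L, t r = 0) : word X.x L t = 1 := by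
  induction L with
  | nil => exact X.word_nil t
  | cons a L ih =>
    rw [X.word_cons, h a (by simp), X.x_zero, one_mul]
    exact ih (fun r hr => h r (List.mem_cons_of_mem _ hr))

/-- The ordered product over all roots. -/
def W (t : Fin n → F) : G := word X.x (List.finRange n) t

/-- `Ψ` is closed under sums. -/
def Closed (Φ : RootSys n) (Ψ : Finset (Fin n)) : Prop := ∀ r ∈ Ψ, ∀ s ∈ Ψ, ∀ t, Φ.add r s = some t → t ∈ Ψ

/-- `I` is an ideal: closed under adding any root. -/
def IsIdeal (Φ : RootSys n) (I : Finset (Fin n)) : Prop := ∀ r ∈ I, ∀ s t, Φ.add r s = some t → t ∈ I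

theorem IsIdeal.closed {I : Finset (Fin n)} (h : IsIdeal Φ I) : Closed Φ I :=
  fun r hr s _ t ht => h r hr s t ht

theorem mem_U_iff {Ψ : Finset (Fin n)} (hΨ : Closed Φ Ψ) (g : G) :
    g ∈ X.U Ψ ↔ ∃ t : Fin n → F, (∀ r, r ∉ Ψ → t r = 0) ∧ g = X.W t := by
  constructor
  · intro hg
    exact X.exists_word Ψ hΨ g hg
  · rintro ⟨t, ht, rfl⟩
    exact X.word_mem_U Ψ _ t (fun r _ hr => ht r hr)

theorem exists_W (g : G) : ∃ t : Fin n → F, g = X.W t := by
  have hg : g ∈ Subgroup.closure {g : G | ∃ r ∈ (Finset.univ : Finset (Fin n)), ∃ a, g = X.x r a} := by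
    have : {g : G | ∃ r ∈ (Finset.univ : Finset (Fin n)), ∃ a, g = X.x r a} = {g : G | ∃ r a, g = X.x r a} := by
      ext g
      simp
    rw [this, X.gen]
    exact Subgroup.mem_top g
  obtain ⟨t, -, ht⟩ := X.exists_word Finset.univ (fun _ _ _ _ _ _ => Finset.mem_univ _) g hg
  exact ⟨t, ht⟩

/-! ### Conjugation of root elements -/

theorem conj_x_of_add {r s t : Fin n} (h : Φ.add r s = some t) (a b : F) :
    X.x s b * X.x r a * (X.x s b)⁻¹ = X.x r a * X.x t (a * b) := by
  have h1 := X.comm r s t h a b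
  have h2 := X.comm0 s t (Φ.add_ne_right h) b (a * b)
  rw [mul_inv_eq_iff_eq_mul, h1, mul_assoc, mul_assoc, h2]

theorem conj_x_of_none {r s : Fin n} (h : Φ.add r s = none) (a b : F) :
    X.x s b * X.x r a * (X.x s b)⁻¹ = X.x r a := by
  rw [mul_inv_eq_iff_eq_mul, X.comm0 r s h a b]

/-! ### Ideals give normal subgroups -/

theorem conj_gen_mem_U {I : Finset (Fin n)} (hI : IsIdeal Φ I) (s : Fin n) (b : F) (m : G) (hm : m ∈ X.U I) :
    X.x s b * m * (X.x s b)⁻¹ ∈ X.U I := by
  unfold U at hm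
  induction hm using Subgroup.closure_induction with
  | mem g hg =>
    obtain ⟨r, hr, a, rfl⟩ := hg
    rcases h : Φ.add r s with _ | t
    · rw [X.conj_x_of_none h]
      exact X.x_mem_U hr a
    · rw [X.conj_x_of_add h]
      exact Subgroup.mul_mem _ (X.x_mem_U hr a) (X.x_mem_U (hI r hr s t h) _)
  | one => simp
  | mul g g' _ _ ih ih' =>
    have : X.x s b * (g * g') * (X.x s b)⁻¹ = (X.x s b * g * (X.x s b)⁻¹) * (X.x s b * g' * (X.x s b)⁻¹) := by
      group
    rw [this]
    exact Subgroup.mul_mem _ ih ih'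
  | inv g _ ih =>
    have : X.x s b * g⁻¹ * (X.x s b)⁻¹ = (X.x s b * g * (X.x s b)⁻¹)⁻¹ := by
      group
    rw [this]
    exact Subgroup.inv_mem _ ih

theorem U_normal {I : Finset (Fin n)} (hI : IsIdeal Φ I) : (X.U I).Normal := by
  rw [← Subgroup.normalizer_eq_top_iff, eq_top_iff, ← X.gen, Subgroup.closure_le]
  rintro g ⟨s, b, rfl⟩
  rw [SetLike.mem_coe, Subgroup.mem_normalizer_iff]
  intro m
  constructor
  · exact X.conj_gen_mem_U hI s b m
  · intro hm
    have := X.conj_gen_mem_U hI s b _ hm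
    rw [X.x_inv] at this
    have e : X.x s b * (X.x s b * m * X.x s b) * X.x s b = m := by
      rw [mul_assoc, mul_assoc, mul_assoc, X.x_sq, mul_one, ← mul_assoc, X.x_sq, one_mul]
    rw [e] at this
    exact this

end RootGroups

end Main


section Quot

variable {Φ : RootSys n} {F : Type*} [Field F] [CharP F 2] {G : Type*} [Group G] (X : RootGroups Φ F G)

namespace RootGroups

theorem Ioi_ideal (τ : Fin n) : IsIdeal Φ (Finset.Ioi τ) := by
  intro r hr s t h
  rw [Finset.mem_Ioi] at hr ⊢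
  exact lt_trans hr (Φ.lt_add r s t h)

/-- The normal subgroup generated by the root subgroups above `τ`. -/
def N (τ : Fin n) : Subgroup G := X.U (Finset.Ioi τ)

instance N_normal (τ : Fin n) : (X.N τ).Normal := X.U_normal (Ioi_ideal τ)

/-- The quotient map modulo `N τ`. -/
def π (τ : Fin n) : G →* G ⧸ X.N τ := QuotientGroup.mk' (X.N τ)

theorem π_eq_one_of_mem {τ : Fin n} {g : G} (hg : g ∈ X.N τ) : X.π τ g = 1 :=
  (QuotientGroup.eq_one_iff g).mpr hg

theorem π_x_of_lt {τ r : Fin n} (h : τ < r) (a : F) : X.π τ (X.x r a) = 1 :=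
  X.π_eq_one_of_mem (X.x_mem_U (Finset.mem_Ioi.mpr h) a)

/-- The roots below `τ` and above `τ`, in increasing order. -/
def lt (τ : Fin n) : List (Fin n) := (List.finRange n).filter (fun b => decide (b < τ))
def gt (τ : Fin n) : List (Fin n) := (List.finRange n).filter (fun b => decide (τ < b))

theorem mem_lt {τ r : Fin n} : r ∈ lt τ ↔ r < τ := by
  simp [lt]

theorem mem_gt {τ r : Fin n} : r ∈ gt τ ↔ τ < r := by
  simp [gt]

theorem W_split (τ : Fin n) (t : Fin n → F) :
    X.W t = word X.x (lt τ) t * X.x τ (t τ) * word X.x (gt τ) t := by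
  unfold W
  conv_lhs => rw [finRange_split3 τ]
  rw [X.word_append, X.word_cons, mul_assoc]
  rfl

theorem word_gt_mem (τ : Fin n) (t : Fin n → F) : word X.x (gt τ) t ∈ X.N τ := by
  apply X.word_mem_U
  intro r hr hr'
  exact absurd (Finset.mem_Ioi.mpr (mem_gt.mp hr)) hr'

theorem π_W (τ : Fin n) (t : Fin n → F) :
    X.π τ (X.W t) = X.π τ (word X.x (lt τ) t) * X.π τ (X.x τ (t τ)) := by
  rw [X.W_split τ, map_mul, map_mul, X.π_eq_one_of_mem (X.word_gt_mem τ t), mul_one]

/-- The coordinates up to `τ` are determined modulo `N τ`. -/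
theorem coord_of_π_eq (τ : Fin n) (t t' : Fin n → F) (h : X.π τ (X.W t) = X.π τ (X.W t')) :
    ∀ r, r ≤ τ → t' r = t r := by
  have h1 : (X.W t)⁻¹ * X.W t' ∈ X.N τ := QuotientGroup.eq.mp h
  have h2 : word X.x (gt τ) t * ((X.W t)⁻¹ * X.W t') ∈ X.U (Finset.Ioi τ) :=
    Subgroup.mul_mem _ (X.word_gt_mem τ t) h1
  obtain ⟨s, hs, hs'⟩ := (X.mem_U_iff (Ioi_ideal τ).closed _).mp h2
  have h3 : X.W s = word X.x (gt τ) s := by
    rw [X.W_split τ, X.word_eq_one (lt τ) s, hs τ (by simp), X.x_zero, one_mul, one_mul]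
    intro r hr
    apply hs
    rw [Finset.mem_Ioi, not_lt]
    exact le_of_lt (mem_lt.mp hr)
  let t'' : Fin n → F := fun r => if r ≤ τ then t r else s r
  have h4 : X.W t'' = X.W t' := by
    rw [X.W_split τ t'', X.word_congr (lt τ) t'' t, X.word_congr (gt τ) t'' s, ← h3, ← hs']
    · have : t'' τ = t τ := by simp [t'']
      rw [this, ← mul_assoc, ← X.W_split τ t, mul_inv_cancel_left]
    · intro r hr
      have : ¬ r ≤ τ := not_le.mpr (mem_gt.mp hr)
      simp [t'', this]
    · intro r hr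
      have : r ≤ τ := le_of_lt (mem_lt.mp hr)
      simp [t'', this]
  have h5 := X.uniq _ _ h4
  intro r hr
  rw [← h5]
  simp [t'', hr]

theorem π_W_mul_x (τ : Fin n) (t : Fin n → F) (b : F) :
    X.π τ (X.W t) * X.π τ (X.x τ b) = X.π τ (X.W (Function.update t τ (t τ + b))) := by
  rw [X.π_W, X.π_W, mul_assoc, ← map_mul, ← X.x_add, Function.update_self]
  congr 2
  apply X.word_congr
  intro r hr
  rw [Function.update_of_ne (ne_of_lt (mem_lt.mp hr))]

/-- `x τ a` is central modulo `N τ`. -/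
theorem π_x_comm (τ : Fin n) (a : F) (g : G) : Commute (X.π τ (X.x τ a)) (X.π τ g) := by
  have hg : g ∈ Subgroup.closure {g : G | ∃ r a, g = X.x r a} := by
    rw [X.gen]
    exact Subgroup.mem_top g
  induction hg using Subgroup.closure_induction with
  | mem g hg =>
    obtain ⟨s, b, rfl⟩ := hg
    show X.π τ (X.x τ a) * X.π τ (X.x s b) = X.π τ (X.x s b) * X.π τ (X.x τ a)
    rcases h : Φ.add τ s with _ | t2
    · rw [← map_mul, ← map_mul, X.comm0 τ s h a b]
    · have := congrArg (X.π τ) (X.comm τ s t2 h a b)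
      rw [map_mul, map_mul, map_mul, X.π_x_of_lt (Φ.lt_add τ s t2 h), mul_one] at this
      exact this.symm
  | one => rw [map_one]; exact Commute.one_right _
  | mul g g' _ _ ih ih' => rw [map_mul]; exact Commute.mul_right ih ih'
  | inv g _ ih => rw [map_inv]; exact Commute.inv_right ih

/-- Conjugation of a word modulo `N τ`, factor by factor. -/
theorem π_conj_word (τ : Fin n) (g : G) (L : List (Fin n)) (t : Fin n → F)
    (h : ∀ r ∈ L, X.π τ (g * X.x r (t r) * g⁻¹) = X.π τ (X.x r (t r))) :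
    X.π τ (g * word X.x L t * g⁻¹) = X.π τ (word X.x L t) := by
  induction L with
  | nil => simp [X.word_nil]
  | cons a L ih =>
    rw [X.word_cons]
    have : g * (X.x a (t a) * word X.x L t) * g⁻¹ = (g * X.x a (t a) * g⁻¹) * (g * word X.x L t * g⁻¹) := by
      group
    rw [this, map_mul, h a (by simp), ih (fun r hr => h r (List.mem_cons_of_mem _ hr)), ← map_mul]

/-- Lemma A: conjugating by `x s c`, where `r₀ + s = τ` and `r₀` is the lowest root of the support, changes the
coordinate at `τ` by `c * t r₀` and leaves the coordinates below `τ` unchanged. -/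
theorem clear_step (t : Fin n → F) (r₀ s τ : Fin n) (h0 : ∀ r, r < r₀ → t r = 0) (hadd : Φ.add r₀ s = some τ)
    (c : F) : ∃ t' : Fin n → F, X.x s c * X.W t * (X.x s c)⁻¹ = X.W t' ∧ (∀ r, r < τ → t' r = t r) ∧
      t' τ = t τ + c * t r₀ := by
  obtain ⟨t', ht'⟩ := X.exists_W (X.x s c * X.W t * (X.x s c)⁻¹)
  refine ⟨t', ht', ?_⟩
  have key : X.π τ (X.W (Function.update t τ (t τ + t r₀ * c))) = X.π τ (X.W t') := by
    rw [← ht', ← X.π_W_mul_x]
    have hW : X.W t = X.x r₀ (t r₀) * word X.x (gt r₀) t := by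
      rw [X.W_split r₀ t, X.word_eq_one (lt r₀) t (fun r hr => h0 r (mem_lt.mp hr)), one_mul]
    have e1 : X.x s c * X.W t * (X.x s c)⁻¹ =
        (X.x s c * X.x r₀ (t r₀) * (X.x s c)⁻¹) * (X.x s c * word X.x (gt r₀) t * (X.x s c)⁻¹) := by
      rw [hW]
      group
    rw [e1, X.conj_x_of_add hadd, map_mul, map_mul, X.π_conj_word, hW, map_mul]
    · rw [mul_assoc, mul_assoc, (X.π_x_comm τ _ _).eq]
    · intro r hr
      rcases h : Φ.add r s with _ | t2
      · rw [X.conj_x_of_none h]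
      · rw [X.conj_x_of_add h, map_mul, X.π_x_of_lt (Φ.add_lt_add r₀ r s τ t2 hadd h (mem_gt.mp hr)), mul_one]
  have hc := X.coord_of_π_eq τ _ _ key
  constructor
  · intro r hr
    rw [hc r (le_of_lt hr), Function.update_of_ne (ne_of_lt hr)]
  · rw [hc τ le_rfl, Function.update_self, mul_comm c]

end RootGroups

end Quot

section Induct

variable {Φ : RootSys n} {F : Type*} [Field F] [CharP F 2] {G : Type*} [Group G] (X : RootGroups Φ F G)

namespace RootGroups

/-- `Ψ` is closed under differences that are roots. -/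
def SubClosed (Φ : RootSys n) (Ψ : Finset (Fin n)) : Prop := ∀ r ∈ Ψ, ∀ s ∈ Ψ, ∀ v, Φ.add r v = some s → v ∈ Ψ

theorem W_zero : X.W (fun _ => (0 : F)) = 1 := X.word_eq_one _ _ (fun _ _ => rfl)

theorem W_mem_U {Ψ : Finset (Fin n)} (t : Fin n → F) (ht : ∀ r, r ∉ Ψ → t r = 0) : X.W t ∈ X.U Ψ :=
  X.word_mem_U Ψ _ t (fun r _ hr => ht r hr)

theorem supp_of_mem_U {Ψ : Finset (Fin n)} (hΨ : Closed Φ Ψ) (t : Fin n → F) (h : X.W t ∈ X.U Ψ) :
    ∀ r, r ∉ Ψ → t r = 0 := by
  obtain ⟨t', ht', e⟩ := (X.mem_U_iff hΨ _).mp h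
  rw [X.uniq _ _ e]
  exact ht'

/-- Iterated clearing. -/
theorem clear_all {Ψ : Finset (Fin n)} (hΨ : Closed Φ Ψ) (t : Fin n → F) (ht : ∀ r, r ∉ Ψ → t r = 0)
    (r₀ : Fin n) (h0 : ∀ r, r < r₀ → t r = 0) (ha : t r₀ ≠ 0) (m : ℕ) :
    ∃ g ∈ X.U Ψ, ∃ t' : Fin n → F, g * X.W t * g⁻¹ = X.W t' ∧ (∀ r, r ∉ Ψ → t' r = 0) ∧
      (∀ r, r ≤ r₀ → t' r = t r) ∧
      (∀ τ s : Fin n, s ∈ Ψ → Φ.add r₀ s = some τ → (τ : ℕ) < m → t' τ = 0) := by
  induction m with
  | zero =>
    exact ⟨1, Subgroup.one_mem _, t, by simp, ht, fun _ _ => rfl, fun _ _ _ _ h => absurd h (Nat.not_lt_zero _)⟩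
  | succ m ih =>
    obtain ⟨g, hg, t', e, ht', hle, hcl⟩ := ih
    by_cases hex : ∃ τ s : Fin n, s ∈ Ψ ∧ Φ.add r₀ s = some τ ∧ (τ : ℕ) = m
    · obtain ⟨τ, s, hs, hadd, hτm⟩ := hex
      have h0' : ∀ r, r < r₀ → t' r = 0 := fun r hr => by rw [hle r (le_of_lt hr)]; exact h0 r hr
      obtain ⟨t'', e2, hlt, hτ⟩ := X.clear_step t' r₀ s τ h0' hadd (t' τ / t' r₀)
      have ha' : t' r₀ ≠ 0 := by rw [hle r₀ le_rfl]; exact ha
      have hτ0 : t'' τ = 0 := by
        rw [hτ, div_mul_cancel₀ _ ha', CharTwo.add_self_eq_zero]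
      have hmem : X.x s (t' τ / t' r₀) * g ∈ X.U Ψ := Subgroup.mul_mem _ (X.x_mem_U hs _) hg
      have e3 : (X.x s (t' τ / t' r₀) * g) * X.W t * (X.x s (t' τ / t' r₀) * g)⁻¹ = X.W t'' := by
        rw [← e2, ← e]
        group
      refine ⟨_, hmem, t'', e3, ?_, ?_, ?_⟩
      · apply X.supp_of_mem_U hΨ
        rw [← e3]
        exact Subgroup.mul_mem _ (Subgroup.mul_mem _ hmem (X.W_mem_U t ht)) (Subgroup.inv_mem _ hmem)
      · intro r hr
        rw [hlt r (lt_of_le_of_lt hr (Φ.lt_add r₀ s τ hadd)), hle r hr]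
      · intro τ' s' hs' hadd' hlt'
        rcases Nat.lt_succ_iff_lt_or_eq.mp hlt' with h1 | h1
        · have : τ' < τ := by
            rw [Fin.lt_def, hτm]
            exact h1
          rw [hlt τ' this]
          exact hcl τ' s' hs' hadd' h1
        · have : τ' = τ := Fin.ext (by rw [h1, hτm])
          rw [this]
          exact hτ0
    · refine ⟨g, hg, t', e, ht', hle, ?_⟩
      intro τ s hs hadd hlt
      rcases Nat.lt_succ_iff_lt_or_eq.mp hlt with h1 | h1
      · exact hcl τ s hs hadd h1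
      · exact absurd ⟨τ, s, hs, hadd, h1⟩ hex

/-- Lemma B: in an involution whose support lies in `{r₀} ∪ {r > r₀ : (r₀, r) ≤ 0}` the roots of the support other
than `r₀` are orthogonal to `r₀`. -/
theorem orth_of_sq (t : Fin n → F) (r₀ : Fin n) (ha : t r₀ ≠ 0) (h0 : ∀ r, r < r₀ → t r = 0)
    (hsupp : ∀ r, t r ≠ 0 → r ≠ r₀ → Φ.ip r₀ r ≤ 0) (hsq : X.W t * X.W t = 1) :
    ∀ r, t r ≠ 0 → r ≠ r₀ → Φ.ip r₀ r = 0 := by
  classical
  by_contra hcon0
  have hcon : ∃ r, t r ≠ 0 ∧ r ≠ r₀ ∧ Φ.ip r₀ r ≠ 0 := by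
    by_contra h
    apply hcon0
    intro r h1 h2
    by_contra h3
    exact h ⟨r, h1, h2, h3⟩
  let B : Finset (Fin n) := Finset.univ.filter (fun r => t r ≠ 0 ∧ r ≠ r₀ ∧ Φ.ip r₀ r ≠ 0)
  have hB : B.Nonempty := by
    obtain ⟨r, h1, h2, h3⟩ := hcon
    exact ⟨r, by simp [B, h1, h2, h3]⟩
  obtain ⟨r₁, hr₁, hmin⟩ := B.exists_min_image id hB
  simp only [B, Finset.mem_filter, Finset.mem_univ, true_and, id] at hr₁ hmin
  obtain ⟨hb, hne, hip⟩ := hr₁
  have hip1 : Φ.ip r₀ r₁ = -1 := by
    have h1 := hsupp r₁ hb hne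
    have h2 := Φ.ip_ge r₀ r₁
    omega
  obtain ⟨τ, hτ⟩ := Φ.add_some r₀ r₁ hip1
  have hτ' : Φ.add r₁ r₀ = some τ := by rw [Φ.add_comm]; exact hτ
  set a := t r₀ with ha_def
  set x0 := X.x r₀ a with hx0
  let t0 : Fin n → F := Function.update t r₀ 0
  have hW : X.W t = x0 * X.W t0 := by
    rw [X.W_split r₀ t, X.W_split r₀ t0, X.word_eq_one (lt r₀) t (fun r hr => h0 r (mem_lt.mp hr)),
      X.word_eq_one (lt r₀) t0, one_mul, one_mul]
    · have : t0 r₀ = 0 := by simp [t0]
      rw [this, X.x_zero, one_mul]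
      congr 1
      apply X.word_congr
      intro r hr
      simp [t0, ne_of_gt (mem_gt.mp hr)]
    · intro r hr
      have : r ≠ r₀ := ne_of_lt (mem_lt.mp hr)
      simp [t0, this, h0 r (mem_lt.mp hr)]
  have ht0 : ∀ r, t0 r ≠ 0 → t r ≠ 0 ∧ r ≠ r₀ := by
    intro r hr
    by_cases h : r = r₀
    · subst h
      simp [t0] at hr
    · simp only [t0, Function.update_of_ne h] at hr
      exact ⟨hr, h⟩
  have hr0lt : ∀ r, t r ≠ 0 → r ≠ r₀ → r₀ < r := by
    intro r h1 h2
    rcases lt_trichotomy r r₀ with h | h | h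
    · exact absurd (h0 r h) h1
    · exact absurd h h2
    · exact h
  -- the closed set Γ
  let Γ : Finset (Fin n) := Finset.univ.filter (fun r => r₀ < r ∧ Φ.ip r₀ r ≤ 0)
  have hΓ : Closed Φ Γ := by
    intro r hr s hs v hv
    simp only [Γ, Finset.mem_filter, Finset.mem_univ, true_and] at hr hs ⊢
    refine ⟨lt_trans hr.1 (Φ.lt_add r s v hv), ?_⟩
    rw [Φ.ip_symm, Φ.ip_add r s v hv r₀, Φ.ip_symm r r₀, Φ.ip_symm s r₀]
    omega
  have hu'Γ : X.W t0 ∈ X.U Γ := by
    apply X.W_mem_U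
    intro r hr
    by_contra h
    obtain ⟨h1, h2⟩ := ht0 r h
    apply hr
    simp only [Γ, Finset.mem_filter, Finset.mem_univ, true_and]
    exact ⟨hr0lt r h1 h2, hsupp r h1 h2⟩
  obtain ⟨v, hv, hv'⟩ := (X.mem_U_iff hΓ _).mp (Subgroup.mul_mem _ hu'Γ hu'Γ)
  have hτΓ : τ ∉ Γ := by
    simp only [Γ, Finset.mem_filter, Finset.mem_univ, true_and, not_and, not_le]
    intro _
    rw [Φ.ip_symm, Φ.ip_add r₀ r₁ τ hτ r₀, Φ.ip_self, Φ.ip_symm r₁ r₀, hip1]
    norm_num
  have hvτ : v τ = 0 := hv τ hτΓ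
  -- conjugation of u' by x0 modulo N τ
  have hconj : X.π τ (x0 * X.W t0 * x0⁻¹) = X.π τ (X.W t0) * X.π τ (X.x τ (t r₁ * a)) := by
    have hsplit := X.W_split r₁ t0
    have e1 : x0 * X.W t0 * x0⁻¹ = (x0 * word X.x (lt r₁) t0 * x0⁻¹) * (x0 * X.x r₁ (t0 r₁) * x0⁻¹) *
        (x0 * word X.x (gt r₁) t0 * x0⁻¹) := by
      rw [hsplit]
      group
    have ht0r1 : t0 r₁ = t r₁ := by simp [t0, hne]
    rw [e1, map_mul, map_mul, X.π_conj_word, X.π_conj_word, hx0, X.conj_x_of_add hτ', map_mul, ht0r1]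
    · rw [hsplit, map_mul, map_mul, ht0r1]
      simp only [mul_assoc]
      rw [(X.π_x_comm τ (t r₁ * a) (word X.x (gt r₁) t0)).eq]
    · intro r hr
      rcases h : Φ.add r r₀ with _ | v2
      · rw [hx0, X.conj_x_of_none h]
      · rw [hx0, X.conj_x_of_add h, map_mul,
          X.π_x_of_lt (Φ.add_lt_add r₁ r r₀ τ v2 hτ' h (mem_gt.mp hr)), mul_one]
    · intro r hr
      by_cases hz : t0 r = 0
      · rw [hz, X.x_zero]
        simp
      · obtain ⟨h1, h2⟩ := ht0 r hz
        have hipr : Φ.ip r₀ r = 0 := by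
          by_contra h3
          have := hmin r ⟨h1, h2, h3⟩
          exact absurd (mem_lt.mp hr) (not_lt.mpr this)
        have hnone : Φ.add r r₀ = none := by
          by_contra h4
          obtain ⟨v2, hv2⟩ := Option.ne_none_iff_exists'.mp h4
          have := Φ.ip_of_add r r₀ v2 hv2
          rw [Φ.ip_symm] at this
          omega
        rw [hx0, X.conj_x_of_none hnone]
  -- the involution condition
  have hx0inv : x0⁻¹ = x0 := X.x_inv r₀ a
  have hsq' : (x0 * X.W t0 * x0⁻¹) * X.W t0 = 1 := by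
    rw [hx0inv, mul_assoc (x0 * X.W t0), ← hW]
    exact hsq
  have h5 := congrArg (X.π τ) hsq'
  rw [map_mul, hconj, map_one, mul_assoc, (X.π_x_comm τ _ _).eq, ← mul_assoc, ← map_mul, hv',
    X.π_W_mul_x] at h5
  have h5' : X.π τ (X.W (Function.update v τ (v τ + t r₁ * a))) = X.π τ (X.W (fun _ => (0 : F))) := by
    rw [h5, X.W_zero, map_one]
  have h6 := X.coord_of_π_eq τ _ _ h5' τ le_rfl
  rw [Function.update_self, hvτ, zero_add] at h6
  exact (mul_ne_zero hb ha) h6.symm

end RootGroups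

end Induct

section MainThm

variable {Φ : RootSys n} {F : Type*} [Field F] [CharP F 2] {G : Type*} [Group G] (X : RootGroups Φ F G)

namespace RootGroups

theorem add_none_of_ip_zero {r s : Fin n} (h : Φ.ip r s = 0) : Φ.add r s = none := by
  by_contra h4
  obtain ⟨v, hv⟩ := Option.ne_none_iff_exists'.mp h4
  have := Φ.ip_of_add r s v hv
  omega

/-- Elements of `U Ψ` commute with `x r₀ a` when all roots of `Ψ` are orthogonal to `r₀`. -/
theorem commute_of_orth {Ψ : Finset (Fin n)} (r₀ : Fin n) (a : F) (h : ∀ r ∈ Ψ, Φ.ip r₀ r = 0) (g : G)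
    (hg : g ∈ X.U Ψ) : Commute (X.x r₀ a) g := by
  unfold U at hg
  induction hg using Subgroup.closure_induction with
  | mem g hg =>
    obtain ⟨r, hr, b, rfl⟩ := hg
    exact (X.comm0 r₀ r (add_none_of_ip_zero (h r hr)) a b).symm
  | one => exact Commute.one_right _
  | mul g g' _ _ ih ih' => exact Commute.mul_right ih ih'
  | inv g _ ih => exact Commute.inv_right ih

/-- Main theorem, inductive form. -/
theorem invol_conj_aux : ∀ (k : ℕ) (Ψ : Finset (Fin n)), Ψ.card ≤ k → Closed Φ Ψ → SubClosed Φ Ψ →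
    ∀ u ∈ X.U Ψ, u * u = 1 → ∃ g ∈ X.U Ψ, ∃ (S : List (Fin n)) (c : Fin n → F),
      (∀ r ∈ S, r ∈ Ψ ∧ c r ≠ 0) ∧ S.Pairwise (fun r s => Φ.ip r s = 0) ∧ g * u * g⁻¹ = word X.x S c := by
  classical
  intro k
  induction k with
  | zero =>
    intro Ψ hk hΨ _ u hu _
    have hΨe : Ψ = ∅ := Finset.card_eq_zero.mp (Nat.le_zero.mp hk)
    obtain ⟨t, ht, rfl⟩ := (X.mem_U_iff hΨ u).mp hu
    have : X.W t = 1 := X.word_eq_one _ _ (fun r _ => ht r (by rw [hΨe]; exact Finset.notMem_empty r))
    refine ⟨1, Subgroup.one_mem _, [], fun _ => 0, by simp, List.Pairwise.nil, ?_⟩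
    rw [this, X.word_nil]
    simp
  | succ k ih =>
    intro Ψ hk hΨ hΨs u hu hsq
    obtain ⟨t, ht, rfl⟩ := (X.mem_U_iff hΨ u).mp hu
    by_cases hzero : ∀ r, t r = 0
    · have : X.W t = 1 := X.word_eq_one _ _ (fun r _ => hzero r)
      refine ⟨1, Subgroup.one_mem _, [], fun _ => 0, by simp, List.Pairwise.nil, ?_⟩
      rw [this, X.word_nil]
      simp
    · -- the lowest root of the support
      have hne : (Finset.univ.filter (fun r => t r ≠ 0)).Nonempty := by
        by_contra h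
        apply hzero
        intro r
        by_contra h2
        exact h ⟨r, by simp [h2]⟩
      obtain ⟨r₀, hr₀, hmin⟩ := (Finset.univ.filter (fun r => t r ≠ 0)).exists_min_image id hne
      simp only [Finset.mem_filter, Finset.mem_univ, true_and, id] at hr₀ hmin
      have h0 : ∀ r, r < r₀ → t r = 0 := by
        intro r hr
        by_contra h
        exact absurd (hmin r h) (not_le.mpr hr)
      have hr₀Ψ : r₀ ∈ Ψ := by
        by_contra h
        exact hr₀ (ht r₀ h)
      obtain ⟨g1, hg1, t1, e1, ht1, hle1, hcl1⟩ := X.clear_all hΨ t ht r₀ h0 hr₀ n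
      have ha1 : t1 r₀ ≠ 0 := by rw [hle1 r₀ le_rfl]; exact hr₀
      have h01 : ∀ r, r < r₀ → t1 r = 0 := fun r hr => by rw [hle1 r (le_of_lt hr)]; exact h0 r hr
      have hsq1 : X.W t1 * X.W t1 = 1 := by
        rw [← e1]
        have : g1 * X.W t * g1⁻¹ * (g1 * X.W t * g1⁻¹) = g1 * (X.W t * X.W t) * g1⁻¹ := by group
        rw [this, hsq]
        simp
      have hsupp1 : ∀ r, t1 r ≠ 0 → r ≠ r₀ → Φ.ip r₀ r ≤ 0 := by
        intro r hr hne
        by_contra hgt
        have hlt : r₀ < r := by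
          rcases lt_trichotomy r r₀ with h | h | h
          · exact absurd (h01 r h) hr
          · exact absurd h hne
          · exact h
        have hip : Φ.ip r₀ r = 1 := by
          have := Φ.ip_le r₀ r (Ne.symm hne)
          omega
        obtain ⟨s, hs⟩ := Φ.sub r₀ r hlt hip
        have hrΨ : r ∈ Ψ := by
          by_contra h
          exact hr (ht1 r h)
        have hsΨ : s ∈ Ψ := hΨs r₀ hr₀Ψ r hrΨ s hs
        exact hr (hcl1 r s hsΨ hs r.isLt)
      have horth := X.orth_of_sq t1 r₀ ha1 h01 hsupp1 hsq1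
      -- the smaller set
      let Ψ' : Finset (Fin n) := Ψ.filter (fun r => Φ.ip r₀ r = 0)
      have hΨ'sub : Ψ' ⊆ Ψ := Finset.filter_subset _ _
      have hcard : Ψ'.card ≤ k := by
        have h1 : Ψ'.card < Ψ.card := by
          apply Finset.card_lt_card
          refine ⟨hΨ'sub, fun h => ?_⟩
          have := h hr₀Ψ
          simp only [Ψ', Finset.mem_filter, Φ.ip_self] at this
          omega
        omega
      have hΨ' : Closed Φ Ψ' := by
        intro r hr s hs v hv
        simp only [Ψ', Finset.mem_filter] at hr hs ⊢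
        refine ⟨hΨ r hr.1 s hs.1 v hv, ?_⟩
        rw [Φ.ip_symm, Φ.ip_add r s v hv r₀, Φ.ip_symm r r₀, Φ.ip_symm s r₀, hr.2, hs.2]
        rfl
      have hΨ's : SubClosed Φ Ψ' := by
        intro r hr s hs v hv
        simp only [Ψ', Finset.mem_filter] at hr hs ⊢
        refine ⟨hΨs r hr.1 s hs.1 v hv, ?_⟩
        have := Φ.ip_add r v s hv r₀
        rw [Φ.ip_symm s r₀, Φ.ip_symm r r₀, hs.2, hr.2] at this
        rw [Φ.ip_symm]
        omega
      let t0 : Fin n → F := Function.update t1 r₀ 0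
      have hW : X.W t1 = X.x r₀ (t1 r₀) * X.W t0 := by
        rw [X.W_split r₀ t1, X.W_split r₀ t0, X.word_eq_one (lt r₀) t1 (fun r hr => h01 r (mem_lt.mp hr)),
          X.word_eq_one (lt r₀) t0, one_mul, one_mul]
        · have : t0 r₀ = 0 := by simp [t0]
          rw [this, X.x_zero, one_mul]
          congr 1
          apply X.word_congr
          intro r hr
          simp [t0, ne_of_gt (mem_gt.mp hr)]
        · intro r hr
          have : r ≠ r₀ := ne_of_lt (mem_lt.mp hr)
          simp [t0, this, h01 r (mem_lt.mp hr)]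
      have hu' : X.W t0 ∈ X.U Ψ' := by
        apply X.W_mem_U
        intro r hr
        by_contra h
        by_cases hrr : r = r₀
        · subst hrr
          simp [t0] at h
        · simp only [t0, Function.update_of_ne hrr] at h
          apply hr
          simp only [Ψ', Finset.mem_filter]
          refine ⟨?_, horth r h hrr⟩
          by_contra h2
          exact h (ht1 r h2)
      have hcomm : ∀ g ∈ X.U Ψ', Commute (X.x r₀ (t1 r₀)) g := by
        intro g hg
        apply X.commute_of_orth r₀ _ _ g hg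
        intro r hr
        simp only [Ψ', Finset.mem_filter] at hr
        exact hr.2
      have hsq0 : X.W t0 * X.W t0 = 1 := by
        have h1 := hsq1
        rw [hW, mul_assoc, ← mul_assoc (X.W t0), ← (hcomm _ hu').eq, mul_assoc, ← mul_assoc, X.x_sq, one_mul] at h1
        exact h1
      obtain ⟨g2, hg2, S, c, hS, hpair, e2⟩ := ih Ψ' hcard hΨ' hΨ's (X.W t0) hu' hsq0
      have hr₀S : r₀ ∉ S := by
        intro h
        have := (hS r₀ h).1
        simp only [Ψ', Finset.mem_filter, Φ.ip_self] at this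
        omega
      refine ⟨g2 * g1, Subgroup.mul_mem _ (X.U_mono hΨ'sub hg2) hg1, r₀ :: S, Function.update c r₀ (t1 r₀),
        ?_, ?_, ?_⟩
      · intro r hr
        rcases List.mem_cons.mp hr with h | h
        · subst h
          exact ⟨hr₀Ψ, by simpa using ha1⟩
        · have hne : r ≠ r₀ := fun h2 => hr₀S (h2 ▸ h)
          rw [Function.update_of_ne hne]
          exact ⟨hΨ'sub (hS r h).1, (hS r h).2⟩
      · rw [List.pairwise_cons]
        refine ⟨?_, hpair⟩
        intro s hs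
        have := (hS s hs).1
        simp only [Ψ', Finset.mem_filter] at this
        exact this.2
      · have e3 : g2 * g1 * X.W t * (g2 * g1)⁻¹ = g2 * (g1 * X.W t * g1⁻¹) * g2⁻¹ := by group
        rw [e3, e1, hW, X.word_cons, Function.update_self]
        have e4 : g2 * (X.x r₀ (t1 r₀) * X.W t0) * g2⁻¹ = (g2 * X.x r₀ (t1 r₀) * g2⁻¹) * (g2 * X.W t0 * g2⁻¹) := by
          group
        rw [e4, e2, ← (hcomm g2 hg2).eq, mul_inv_cancel_right]
        congr 1
        apply X.word_congr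
        intro r hr
        have hne : r ≠ r₀ := fun h2 => hr₀S (h2 ▸ hr)
        rw [Function.update_of_ne hne]

/-- **Main theorem.** Every involution of `G` is conjugate to a product of root elements over pairwise orthogonal
roots. -/
theorem invol_conj (u : G) (hu : u * u = 1) : ∃ (g : G) (S : List (Fin n)) (c : Fin n → F),
    (∀ r ∈ S, c r ≠ 0) ∧ S.Pairwise (fun r s => Φ.ip r s = 0) ∧ g * u * g⁻¹ = word X.x S c := by
  have hu' : u ∈ X.U Finset.univ := by
    obtain ⟨t, rfl⟩ := X.exists_W u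
    exact X.W_mem_U t (fun r hr => absurd (Finset.mem_univ r) hr)
  obtain ⟨g, -, S, c, hS, hp, e⟩ := X.invol_conj_aux n Finset.univ (by simp) (fun _ _ _ _ _ _ => Finset.mem_univ _)
    (fun _ _ _ _ _ _ => Finset.mem_univ _) u hu' hu
  exact ⟨g, S, c, fun r hr => (hS r hr).2, hp, e⟩

end RootGroups

end MainThm

end Cfsg.Agent.Lib.Helper23_EInvAbs
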