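import Cfsg.Agent.Lib.Helper23_EInvDefs

set_option autoImplicit false

/-!
# A checker for reduction scripts (`Red`), S2175 / S2181 / S2176
-/

namespace Cfsg.Agent.Lib.Helper23_EInvChk

open Cfsg Cfsg.Lie Cfsg.Agent.Lib.Helper23_EInvDefs

/-- One move of a reduction script: the fundamental reflection `i`; the swap of the entries at the positions `k` and
`k + 1`; the frame move. -/
inductive Move
  | weyl (i : ℕ)
  | swap (k : ℕ)
  | frame

/-- The side condition of `Red.swap`. -/
def swapOK (D : ChevalleyDatum) (a b : ℕ) : Bool :=
  decide (D.commTerms a b = []) && decide (a ≠ b) && decide (b ≠ D.neg a)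

/-- The side condition of `Red.frame`. -/
def frameOK (E : EData) (L : List ℕ) : Bool :=
  E.Gam.all fun γ => L.all fun e => swapOK E.D γ e && decide (e ≠ γ)

/-- The effect of one move on a list (`none` if the move is not allowed). -/
def step (E : EData) (S : List ℕ) : Move → Option (List ℕ)
  | .weyl i => if i < E.D.rank then some (S.map (E.D.reflectRoot i)) else none
  | .swap k =>
    match S.drop k with
    | a :: b :: B => if swapOK E.D a b then some (S.take k ++ b :: a :: B) else none
    | _ => none
  | .frame => if S.take E.F0.length = E.F0 ∧ frameOK E (S.drop E.F0.length) = true then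
      some (E.F0.take 3 ++ S.drop E.F0.length) else none

/-- The effect of a script. -/
def run (E : EData) : List Move → List ℕ → Option (List ℕ)
  | [], S => some S
  | m :: ms, S => (step E S m).bind (run E ms)

theorem swapOK_iff (D : ChevalleyDatum) (a b : ℕ) :
    swapOK D a b = true ↔ D.commTerms a b = [] ∧ a ≠ b ∧ b ≠ D.neg a := by
  unfold swapOK
  simp only [Bool.and_eq_true, decide_eq_true_eq, and_assoc]

theorem frameOK_iff (E : EData) (L : List ℕ) :
    frameOK E L = true ↔ ∀ γ ∈ E.Gam, ∀ e ∈ L, E.D.commTerms γ e = [] ∧ e ≠ γ ∧ e ≠ E.D.neg γ := by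
  unfold frameOK
  simp only [List.all_eq_true, Bool.and_eq_true, decide_eq_true_eq, swapOK_iff]
  constructor
  · intro h γ hγ e he
    obtain ⟨⟨h1, -, h3⟩, h4⟩ := h γ hγ e he
    exact ⟨h1, h4, h3⟩
  · intro h γ hγ e he
    obtain ⟨h1, h2, h3⟩ := h γ hγ e he
    exact ⟨⟨h1, fun h => h2 h.symm, h3⟩, h2⟩

theorem step_sound (E : EData) (S S' T : List ℕ) (m : Move) (h : step E S m = some S') (h' : Red E S' T) :
    Red E S T := by
  cases m with
  | weyl i =>
    simp only [step] at h
    by_cases hi : i < E.D.rank
    · rw [if_pos hi] at h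
      cases h
      exact Red.weyl i hi S T h'
    · rw [if_neg hi] at h
      cases h
  | swap k =>
    simp only [step] at h
    cases hd : S.drop k with
    | nil => rw [hd] at h; cases h
    | cons a L =>
      cases L with
      | nil => rw [hd] at h; cases h
      | cons b B =>
        rw [hd] at h
        simp only at h
        by_cases hab : swapOK E.D a b = true
        · rw [if_pos hab] at h
          cases h
          obtain ⟨h1, h2, h3⟩ := (swapOK_iff E.D a b).mp hab
          have hS : S = S.take k ++ a :: b :: B := by
            rw [← hd, List.take_append_drop]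
          rw [hS]
          exact Red.swap (S.take k) B a b T h1 h2 h3 h'
        · rw [if_neg hab] at h
          cases h
  | frame =>
    simp only [step] at h
    by_cases hf : S.take E.F0.length = E.F0 ∧ frameOK E (S.drop E.F0.length) = true
    · rw [if_pos hf] at h
      cases h
      have hS : S = E.F0 ++ S.drop E.F0.length := by
        conv_lhs => rw [← List.take_append_drop E.F0.length S, hf.1]
      rw [hS]
      exact Red.frame _ T ((frameOK_iff E _).mp hf.2) h'
    · rw [if_neg hf] at h
      cases h

theorem run_sound (E : EData) (ms : List Move) : ∀ (S T : List ℕ), run E ms S = some T → Red E S T := by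
  induction ms with
  | nil =>
    intro S T h
    simp only [run] at h
    cases h
    exact Red.refl S
  | cons m ms ih =>
    intro S T h
    simp only [run] at h
    cases hs : step E S m with
    | none => rw [hs] at h; cases h
    | some S' =>
      rw [hs] at h
      exact step_sound E S S' T m hs (ih S' T h)

/-! ### Further definitions used by the packages -/

/-- The roots orthogonal to `T0` that are dominant for the fundamental reflections fixing `T0`. -/
def dom (E : EData) (T0 : List ℕ) : List ℕ :=
  (List.range E.D.nroots).filter fun ρ =>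
    decide ((∀ t ∈ T0, ipD E.D t ρ = 0) ∧
      ∀ i ∈ List.range E.D.rank, (∀ t ∈ T0, E.D.cartan i t = 0) → 0 ≤ E.D.cartan i ρ)

/-- The abstract root system `Φ` matches the tables of `E.D`. -/
def Matches (E : EData) (Φ : Cfsg.Agent.Lib.Helper23_EInvAbs.RootSys E.N) : Prop :=
  (∀ r s : Fin E.N, Φ.ip r s = ipD E.D (E.N + r) (E.N + s)) ∧
  ∀ r s : Fin E.N, r ≠ s →
    (∃ (t : Fin E.N) (ε : ℤ), Φ.add r s = some t ∧ (ε = 1 ∨ ε = -1) ∧
      E.D.commTerms (E.N + r) (E.N + s) = [(E.N + t, ε, 1, 1)]) ∨
    (Φ.add r s = none ∧ E.D.commTerms (E.N + r) (E.N + s) = [])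

end Cfsg.Agent.Lib.Helper23_EInvChk
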