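import Cfsg.Agent.Lib.Helper18_ChevData5
import Cfsg.Agent.Lib.Helper23_EInvAbs

set_option autoImplicit false

/-!
# Involution classes of E₆(q), E₇(q), E₈(q), q even (S2175, S2181, S2176): shared definitions

All roots are indices `r < D.nroots` of the Chevalley datum `D`; `xGL c r t`, `wordGL c w`, `nGL c i`, `hGL c r a`
are helper18's root elements, words, Weyl elements and torus elements in `GL D.Idx F`.
-/

namespace Cfsg.Agent.Lib.Helper23_EInvDefs

open Cfsg Cfsg.Lie

/-- The Cartan integer `⟨s, r^∨⟩` of two roots given by their indices: `h_r = Σ_i c_i(r) h_{p_i}` and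
`D.cartan i s = ⟨s, p_i^∨⟩`. For the simply-laced types this is the (symmetric) inner product of `r` and `s`. -/
def ipD (D : ChevalleyDatum) (r s : ℕ) : ℤ :=
  ∑ i ∈ Finset.range D.rank, (D.coroot.getD r #[]).getD i 0 * D.cartan i s

/-- The word `∏_{r ∈ L} x_r(1)`. -/
def ones (F : Type*) [Field F] (L : List ℕ) : List (ℕ × F) := L.map fun r => (r, (1 : F))

/-- The image of a list of roots under a word of fundamental reflections (applied from left to right). -/
def reflWord (D : ChevalleyDatum) (w : List ℕ) (L : List ℕ) : List ℕ :=
  w.foldl (fun L i => L.map (D.reflectRoot i)) L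

/-- The data of one of the three types: the datum, the number `N` of positive roots (these are the indices
`N ≤ r < 2N`), the standard frame `F0` (four pairwise orthogonal roots with half-sum a root; the last one is dropped
by the frame move), the four roots `Gam` of the conjugator of the frame move, and the standard representatives
(chains of highest roots). -/
structure EData where
  D : ChevalleyDatum
  N : ℕ
  F0 : List ℕ
  Gam : List ℕ
  std : List (List ℕ)

def eE6 : EData := ⟨chevE6, 36, [43, 47, 40, 51], [37, 50, 42, 46], [[], [71], [71, 60], [71, 60, 44]]⟩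

def eE7 : EData :=
  ⟨chevE7, 63, [74, 79, 70, 84], [66, 83, 73, 78],
    [[], [125], [125, 92], [125, 92, 63], [125, 92, 87], [125, 92, 63, 87]]⟩

def eE8 : EData :=
  ⟨chevE8, 120, [136, 142, 131, 148], [126, 147, 135, 141],
    [[], [239], [239, 226], [239, 226, 159], [239, 226, 159, 152]]⟩

/-- The three types. -/
def IsE (E : EData) : Prop := E = eE6 ∨ E = eE7 ∨ E = eE8

/-- Reduction moves on lists of roots (all parameters `1`): a fundamental reflection applied to the whole list;
swapping two adjacent commuting roots; and the frame move, which drops the last root of the standard frame `F0`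
standing at the head of the list, provided the rest `E` of the list commutes with the four root subgroups of the
conjugator. `Red E S T`: the list `S` can be reduced to `T`. -/
inductive Red (E : EData) : List ℕ → List ℕ → Prop
  | refl (S : List ℕ) : Red E S S
  | weyl (i : ℕ) (hi : i < E.D.rank) (S T : List ℕ) : Red E (S.map (E.D.reflectRoot i)) T → Red E S T
  | swap (A B : List ℕ) (a b : ℕ) (T : List ℕ) : E.D.commTerms a b = [] → a ≠ b → b ≠ E.D.neg a →
      Red E (A ++ b :: a :: B) T → Red E (A ++ a :: b :: B) T
  | frame (L T : List ℕ) :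
      (∀ γ ∈ E.Gam, ∀ e ∈ L, E.D.commTerms γ e = [] ∧ e ≠ γ ∧ e ≠ E.D.neg γ) →
      Red E (E.F0.take 3 ++ L) T → Red E (E.F0 ++ L) T

/-- `r` is a root orthogonal to all roots of `S`. -/
def Orth (D : ChevalleyDatum) (r : ℕ) (S : List ℕ) : Prop := r < D.nroots ∧ ∀ s ∈ S, ipD D s r = 0

/-- A list of pairwise orthogonal roots. -/
def OrthList (D : ChevalleyDatum) (S : List ℕ) : Prop :=
  (∀ r ∈ S, r < D.nroots) ∧ S.Pairwise (fun r s => ipD D r s = 0)

end Cfsg.Agent.Lib.Helper23_EInvDefs
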