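import Cfsg.Agent.Lib.Helper23_EInvChk

set_option autoImplicit false
set_option maxRecDepth 100000

/-!
# The extension certificates for S2175 / S2181 / S2176 (generated by a script of helper23)
-/

namespace Cfsg.Agent.Lib.Helper23_EInvExt

open Cfsg Cfsg.Lie Cfsg.Agent.Lib.Helper23_EInvDefs Cfsg.Agent.Lib.Helper23_EInvChk

theorem dom_E6_0 : dom eE6 [] = [71] := by decide +kernel

theorem dom_E6_1 : dom eE6 [71] = [60] := by decide +kernel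

theorem dom_E6_2 : dom eE6 [71, 60] = [44] := by decide +kernel

theorem dom_E6_3 : dom eE6 [71, 60, 44] = [39] := by decide +kernel

theorem red_E6_0 : Red eE6 [71] [71] :=
  run_sound eE6 [] _ _ (by decide +kernel)

theorem red_E6_1 : Red eE6 [71, 60] [71, 60] :=
  run_sound eE6 [] _ _ (by decide +kernel)

theorem red_E6_2 : Red eE6 [71, 60, 44] [71, 60, 44] :=
  run_sound eE6 [] _ _ (by decide +kernel)

theorem red_E6_3 : Red eE6 [71, 60, 44, 39] [71, 60, 44] :=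
  run_sound eE6 [.weyl 2, .weyl 3, .weyl 0, .weyl 2, .weyl 3, .weyl 4, .weyl 1, .weyl 3, .weyl 4, .weyl 5, .weyl 2, .weyl 3, .weyl 4, .weyl 1, .weyl 0, .frame, .weyl 0, .weyl 1, .weyl 4, .weyl 3, .weyl 2, .weyl 5, .weyl 4, .weyl 3, .weyl 1, .weyl 4, .weyl 3, .weyl 2, .weyl 0, .weyl 3, .weyl 2] _ _ (by decide +kernel)

theorem extstd_E6 : ∀ T0 ∈ eE6.std, ∀ ρ ∈ dom eE6 T0, ∃ T ∈ eE6.std, Red eE6 (T0 ++ [ρ]) T := by
  intro T0 hT0 ρ hρ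
  have hstd : eE6.std = [[], [71], [71, 60], [71, 60, 44]] := rfl
  rw [hstd] at hT0 ⊢
  simp only [List.mem_cons, List.not_mem_nil, or_false] at hT0
  rcases hT0 with rfl | rfl | rfl | rfl
  · rw [dom_E6_0] at hρ
    simp only [List.mem_cons, List.not_mem_nil, or_false] at hρ
    subst hρ
    exact ⟨[71], by simp, red_E6_0⟩
  · rw [dom_E6_1] at hρ
    simp only [List.mem_cons, List.not_mem_nil, or_false] at hρ
    subst hρ
    exact ⟨[71, 60], by simp, red_E6_1⟩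
  · rw [dom_E6_2] at hρ
    simp only [List.mem_cons, List.not_mem_nil, or_false] at hρ
    subst hρ
    exact ⟨[71, 60, 44], by simp, red_E6_2⟩
  · rw [dom_E6_3] at hρ
    simp only [List.mem_cons, List.not_mem_nil, or_false] at hρ
    subst hρ
    exact ⟨[71, 60, 44], by simp, red_E6_3⟩

theorem dom_E7_0 : dom eE7 [] = [125] := by decide +kernel

theorem dom_E7_1 : dom eE7 [125] = [92] := by decide +kernel

theorem dom_E7_2 : dom eE7 [125, 92] = [63, 87] := by decide +kernel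

theorem dom_E7_3 : dom eE7 [125, 92, 63] = [87] := by decide +kernel

theorem dom_E7_4 : dom eE7 [125, 92, 87] = [63, 66, 73, 78] := by decide +kernel

theorem dom_E7_5 : dom eE7 [125, 92, 63, 87] = [66, 73, 78] := by decide +kernel

theorem red_E7_0 : Red eE7 [125] [125] :=
  run_sound eE7 [] _ _ (by decide +kernel)

theorem red_E7_1 : Red eE7 [125, 92] [125, 92] :=
  run_sound eE7 [] _ _ (by decide +kernel)

theorem red_E7_2 : Red eE7 [125, 92, 63] [125, 92, 63] :=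
  run_sound eE7 [] _ _ (by decide +kernel)

theorem red_E7_3 : Red eE7 [125, 92, 87] [125, 92, 87] :=
  run_sound eE7 [] _ _ (by decide +kernel)

theorem red_E7_4 : Red eE7 [125, 92, 63, 87] [125, 92, 63, 87] :=
  run_sound eE7 [] _ _ (by decide +kernel)

theorem red_E7_5 : Red eE7 [125, 92, 87, 63] [125, 92, 63, 87] :=
  run_sound eE7 [.swap 2] _ _ (by decide +kernel)

theorem red_E7_6 : Red eE7 [125, 92, 87, 66] [125, 92, 63, 87] :=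
  run_sound eE7 [.swap 1, .swap 2, .weyl 5, .weyl 4, .weyl 6, .weyl 5] _ _ (by decide +kernel)

theorem red_E7_7 : Red eE7 [125, 92, 87, 73] [125, 92, 87] :=
  run_sound eE7 [.weyl 3, .weyl 2, .weyl 1, .weyl 3, .weyl 5, .weyl 4, .weyl 3, .weyl 2, .weyl 1, .weyl 3, .weyl 4, .weyl 5, .weyl 0, .weyl 2, .weyl 3, .weyl 4, .weyl 5, .weyl 6, .weyl 1, .weyl 3, .weyl 4, .weyl 5, .weyl 2, .weyl 3, .weyl 4, .weyl 1, .weyl 0, .frame, .weyl 0, .weyl 1, .weyl 4, .weyl 3, .weyl 2, .weyl 5, .weyl 4, .weyl 3, .weyl 1, .weyl 6, .weyl 5, .weyl 4, .weyl 3, .weyl 2, .weyl 0, .weyl 5, .weyl 4, .weyl 3, .weyl 1, .weyl 2, .weyl 3, .weyl 4, .weyl 5, .weyl 3, .weyl 1, .weyl 2, .weyl 3] _ _ (by decide +kernel)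

theorem red_E7_8 : Red eE7 [125, 92, 87, 78] [125, 92, 63, 87] :=
  run_sound eE7 [.swap 0, .swap 1, .swap 2, .weyl 0, .weyl 2, .weyl 3, .weyl 1, .weyl 4, .weyl 3, .weyl 2, .weyl 0, .weyl 5, .weyl 4, .weyl 6, .weyl 5] _ _ (by decide +kernel)

theorem red_E7_9 : Red eE7 [125, 92, 63, 87, 66] [125, 92, 63, 87] :=
  run_sound eE7 [.swap 0, .swap 1, .swap 2, .swap 3, .weyl 0, .weyl 2, .weyl 3, .weyl 1, .weyl 4, .weyl 3, .weyl 2, .weyl 0, .weyl 5, .weyl 4, .weyl 3, .weyl 1, .weyl 2, .weyl 3, .weyl 4, .weyl 5, .weyl 3, .weyl 2, .weyl 1, .weyl 3, .weyl 5, .weyl 4, .weyl 3, .weyl 2, .weyl 1, .weyl 3, .weyl 4, .weyl 5, .weyl 0, .weyl 2, .weyl 3, .weyl 4, .weyl 5, .weyl 6, .weyl 1, .weyl 3, .weyl 4, .weyl 5, .weyl 2, .weyl 3, .weyl 4, .weyl 1, .weyl 0, .frame, .swap 2, .weyl 0, .weyl 1, .weyl 4, .weyl 3, .weyl 2, .weyl 5, .weyl 4, .weyl 3, .weyl 1, .weyl 6, .weyl 5,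 .weyl 4, .weyl 3, .weyl 2, .weyl 0, .weyl 5, .weyl 4, .weyl 3, .weyl 1, .weyl 2, .weyl 3, .weyl 4, .weyl 5, .weyl 3, .weyl 1, .weyl 2, .weyl 3] _ _ (by decide +kernel)

theorem red_E7_10 : Red eE7 [125, 92, 63, 87, 73] [125, 92, 63, 87] :=
  run_sound eE7 [.swap 2, .swap 3, .weyl 3, .weyl 2, .weyl 1, .weyl 3, .weyl 5, .weyl 4, .weyl 3, .weyl 2, .weyl 1, .weyl 3, .weyl 4, .weyl 5, .weyl 0, .weyl 2, .weyl 3, .weyl 4, .weyl 5, .weyl 6, .weyl 1, .weyl 3, .weyl 4, .weyl 5, .weyl 2, .weyl 3, .weyl 4, .weyl 1, .weyl 0, .frame, .swap 2, .weyl 0, .weyl 1, .weyl 4, .weyl 3, .weyl 2, .weyl 5, .weyl 4, .weyl 3, .weyl 1, .weyl 6, .weyl 5, .weyl 4, .weyl 3, .weyl 2, .weyl 0, .weyl 5, .weyl 4, .weyl 3, .weyl 1, .weyl 2, .weyl 3, .weyl 4, .weyl 5, .weyl 3, .weyl 1, .weyl 2, .weyl 3] _ _ (by decide +kernel)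

theorem red_E7_11 : Red eE7 [125, 92, 63, 87, 78] [125, 92, 63, 87] :=
  run_sound eE7 [.swap 1, .swap 2, .swap 3, .weyl 5, .weyl 4, .weyl 3, .weyl 1, .weyl 2, .weyl 3, .weyl 4, .weyl 5, .weyl 3, .weyl 2, .weyl 1, .weyl 3, .weyl 5, .weyl 4, .weyl 3, .weyl 2, .weyl 1, .weyl 3, .weyl 4, .weyl 5, .weyl 0, .weyl 2, .weyl 3, .weyl 4, .weyl 5, .weyl 6, .weyl 1, .weyl 3, .weyl 4, .weyl 5, .weyl 2, .weyl 3, .weyl 4, .weyl 1, .weyl 0, .frame, .swap 2, .weyl 0, .weyl 1, .weyl 4, .weyl 3, .weyl 2, .weyl 5, .weyl 4, .weyl 3, .weyl 1, .weyl 6, .weyl 5, .weyl 4, .weyl 3, .weyl 2, .weyl 0, .weyl 5, .weyl 4, .weyl 3, .weyl 1, .weyl 2, .weyl 3, .weyl 4, .weyl 5, .weyl 3, .weyl 1, .weyl 2, .weyl 3] _ _ (by decide +kernel)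

theorem extstd_E7 : ∀ T0 ∈ eE7.std, ∀ ρ ∈ dom eE7 T0, ∃ T ∈ eE7.std, Red eE7 (T0 ++ [ρ]) T := by
  intro T0 hT0 ρ hρ
  have hstd : eE7.std = [[], [125], [125, 92], [125, 92, 63], [125, 92, 87], [125, 92, 63, 87]] := rfl
  rw [hstd] at hT0 ⊢
  simp only [List.mem_cons, List.not_mem_nil, or_false] at hT0
  rcases hT0 with rfl | rfl | rfl | rfl | rfl | rfl
  · rw [dom_E7_0] at hρ
    simp only [List.mem_cons, List.not_mem_nil, or_false] at hρ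
    subst hρ
    exact ⟨[125], by simp, red_E7_0⟩
  · rw [dom_E7_1] at hρ
    simp only [List.mem_cons, List.not_mem_nil, or_false] at hρ
    subst hρ
    exact ⟨[125, 92], by simp, red_E7_1⟩
  · rw [dom_E7_2] at hρ
    simp only [List.mem_cons, List.not_mem_nil, or_false] at hρ
    rcases hρ with rfl | rfl
    · exact ⟨[125, 92, 63], by simp, red_E7_2⟩
    · exact ⟨[125, 92, 87], by simp, red_E7_3⟩
  · rw [dom_E7_3] at hρ
    simp only [List.mem_cons, List.not_mem_nil, or_false] at hρ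
    subst hρ
    exact ⟨[125, 92, 63, 87], by simp, red_E7_4⟩
  · rw [dom_E7_4] at hρ
    simp only [List.mem_cons, List.not_mem_nil, or_false] at hρ
    rcases hρ with rfl | rfl | rfl | rfl
    · exact ⟨[125, 92, 63, 87], by simp, red_E7_5⟩
    · exact ⟨[125, 92, 63, 87], by simp, red_E7_6⟩
    · exact ⟨[125, 92, 87], by simp, red_E7_7⟩
    · exact ⟨[125, 92, 63, 87], by simp, red_E7_8⟩
  · rw [dom_E7_5] at hρ
    simp only [List.mem_cons, List.not_mem_nil, or_false] at hρ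
    rcases hρ with rfl | rfl | rfl
    · exact ⟨[125, 92, 63, 87], by simp, red_E7_9⟩
    · exact ⟨[125, 92, 63, 87], by simp, red_E7_10⟩
    · exact ⟨[125, 92, 63, 87], by simp, red_E7_11⟩

theorem dom_E8_0 : dom eE8 [] = [239] := by decide +kernel

theorem dom_E8_1 : dom eE8 [239] = [226] := by decide +kernel

theorem dom_E8_2 : dom eE8 [239, 226] = [159] := by decide +kernel

theorem dom_E8_3 : dom eE8 [239, 226, 159] = [121, 152] := by decide +kernel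

theorem dom_E8_4 : dom eE8 [239, 226, 159, 152] = [121, 126, 135, 141] := by decide +kernel

theorem red_E8_0 : Red eE8 [239] [239] :=
  run_sound eE8 [] _ _ (by decide +kernel)

theorem red_E8_1 : Red eE8 [239, 226] [239, 226] :=
  run_sound eE8 [] _ _ (by decide +kernel)

theorem red_E8_2 : Red eE8 [239, 226, 159] [239, 226, 159] :=
  run_sound eE8 [] _ _ (by decide +kernel)

theorem red_E8_3 : Red eE8 [239, 226, 159, 121] [239, 226, 159] :=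
  run_sound eE8 [.weyl 5, .weyl 6, .weyl 4, .weyl 5, .weyl 3, .weyl 4, .weyl 2, .weyl 3, .weyl 0, .weyl 2, .weyl 3, .weyl 4, .weyl 5, .weyl 1, .weyl 3, .weyl 4, .weyl 2, .weyl 3, .weyl 0, .weyl 2, .weyl 1, .weyl 3, .weyl 4, .weyl 5, .weyl 7, .weyl 6, .weyl 5, .weyl 4, .weyl 3, .weyl 2, .weyl 1, .weyl 3, .weyl 4, .weyl 5, .weyl 6, .weyl 7, .weyl 0, .weyl 2, .weyl 3, .weyl 4, .weyl 5, .weyl 6, .weyl 1, .weyl 3, .weyl 4, .weyl 5, .weyl 2, .weyl 3, .weyl 4, .weyl 1, .weyl 0, .frame, .weyl 0, .weyl 1, .weyl 4, .weyl 3, .weyl 2, .weyl 5, .weyl 4, .weyl 3, .weyl 1, .weyl 6, .weyl 5, .weyl 4, .weyl 3, .weyl 2, .weyl 0, .weyl 7, .weyl 6, .weyl 5, .weyl 4, .weyl 3, .weyl 1, .weyl 2, .weyl 3, .weyl 4, .weyl 5, .weyl 6, .weyl 7, .weyl 5, .weyl 4, .weyl 3, .weyl 1, .weyl 2, .weyl 0, .weyl 3, .weyl 2, .weyl 4, .weyl 3, .weyl 1, .weyl 5, .weyl 4, .weyl 3, .weyl 2, .weyl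 0, .weyl 3, .weyl 2, .weyl 4, .weyl 3, .weyl 5, .weyl 4, .weyl 6, .weyl 5] _ _ (by decide +kernel)

theorem red_E8_4 : Red eE8 [239, 226, 159, 152] [239, 226, 159, 152] :=
  run_sound eE8 [] _ _ (by decide +kernel)

theorem red_E8_5 : Red eE8 [239, 226, 159, 152, 121] [239, 226, 159, 152] :=
  run_sound eE8 [.swap 3, .weyl 5, .weyl 6, .weyl 4, .weyl 5, .weyl 3, .weyl 4, .weyl 2, .weyl 3, .weyl 0, .weyl 2, .weyl 3, .weyl 4, .weyl 5, .weyl 1, .weyl 3, .weyl 4, .weyl 2, .weyl 3, .weyl 0, .weyl 2, .weyl 1, .weyl 3, .weyl 4, .weyl 5, .weyl 7, .weyl 6, .weyl 5, .weyl 4, .weyl 3, .weyl 2, .weyl 1, .weyl 3, .weyl 4, .weyl 5, .weyl 6, .weyl 7, .weyl 0, .weyl 2, .weyl 3, .weyl 4, .weyl 5, .weyl 6, .weyl 1, .weyl 3, .weyl 4, .weyl 5, .weyl 2, .weyl 3, .weyl 4, .weyl 1, .weyl 0, .frame, .weyl 0, .weyl 1, .weyl 4, .weyl 3, .weyl 2, .weyl 5, .weyl 4, .weyl 3, .weyl 1, .weyl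 6, .weyl 5, .weyl 4, .weyl 3, .weyl 2, .weyl 0, .weyl 7, .weyl 6, .weyl 5, .weyl 4, .weyl 3, .weyl 1, .weyl 2, .weyl 3, .weyl 4, .weyl 5, .weyl 6, .weyl 7, .weyl 5, .weyl 4, .weyl 3, .weyl 1, .weyl 2, .weyl 0, .weyl 3, .weyl 2, .weyl 4, .weyl 3, .weyl 1, .weyl 5, .weyl 4, .weyl 3, .weyl 2, .weyl 0, .weyl 3, .weyl 2, .weyl 4, .weyl 3, .weyl 5, .weyl 4, .weyl 6, .weyl 5] _ _ (by decide +kernel)

theorem red_E8_6 : Red eE8 [239, 226, 159, 152, 126] [239, 226, 159, 152] :=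
  run_sound eE8 [.swap 2, .swap 3, .weyl 5, .weyl 4, .weyl 6, .weyl 5, .weyl 5, .weyl 6, .weyl 4, .weyl 5, .weyl 3, .weyl 4, .weyl 2, .weyl 3, .weyl 0, .weyl 2, .weyl 3, .weyl 4, .weyl 5, .weyl 1, .weyl 3, .weyl 4, .weyl 2, .weyl 3, .weyl 0, .weyl 2, .weyl 1, .weyl 3, .weyl 4, .weyl 5, .weyl 7, .weyl 6, .weyl 5, .weyl 4, .weyl 3, .weyl 2, .weyl 1, .weyl 3, .weyl 4, .weyl 5, .weyl 6, .weyl 7, .weyl 0, .weyl 2, .weyl 3, .weyl 4, .weyl 5, .weyl 6, .weyl 1, .weyl 3, .weyl 4, .weyl 5, .weyl 2, .weyl 3, .weyl 4, .weyl 1, .weyl 0, .frame, .weyl 0, .weyl 1, .weyl 4, .weyl 3, .weyl 2, .weyl 5, .weyl 4, .weyl 3, .weyl 1, .weyl 6, .weyl 5, .weyl 4, .weyl 3, .weyl 2, .weyl 0, .weyl 7, .weyl 6, .weyl 5, .weyl 4, .weyl 3, .weyl 1, .weyl 2, .weyl 3, .weyl 4, .weyl 5, .weyl 6, .weyl 7, .weyl 5, .weyl 4, .weyl 3, .weyl 1, .weyl 2, .weyl 0, .weyl 3, .weyl 2, .weyl 4, .weyl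 3, .weyl 1, .weyl 5, .weyl 4, .weyl 3, .weyl 2, .weyl 0, .weyl 3, .weyl 2, .weyl 4, .weyl 3, .weyl 5, .weyl 4, .weyl 6, .weyl 5] _ _ (by decide +kernel)

theorem red_E8_7 : Red eE8 [239, 226, 159, 152, 135] [239, 226, 159, 152] :=
  run_sound eE8 [.swap 0, .swap 1, .swap 2, .swap 3, .weyl 7, .weyl 6, .weyl 5, .weyl 4, .weyl 3, .weyl 1, .weyl 2, .weyl 3, .weyl 4, .weyl 5, .weyl 6, .weyl 7, .weyl 0, .weyl 2, .weyl 3, .weyl 1, .weyl 4, .weyl 3, .weyl 2, .weyl 0, .weyl 5, .weyl 4, .weyl 6, .weyl 5, .weyl 5, .weyl 6, .weyl 4, .weyl 5, .weyl 3, .weyl 4, .weyl 2, .weyl 3, .weyl 0, .weyl 2, .weyl 3, .weyl 4, .weyl 5, .weyl 1, .weyl 3, .weyl 4, .weyl 2, .weyl 3, .weyl 0, .weyl 2, .weyl 1, .weyl 3, .weyl 4, .weyl 5, .weyl 7, .weyl 6, .weyl 5, .weyl 4, .weyl 3, .weyl 2, .weyl 1, .weyl 3, .weyl 4, .weyl 5, .weyl 6, .weyl 7, .weyl 0, .weyl 2, .weyl 3, .weyl 4, .weyl 5,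 .weyl 6, .weyl 1, .weyl 3, .weyl 4, .weyl 5, .weyl 2, .weyl 3, .weyl 4, .weyl 1, .weyl 0, .frame, .weyl 0, .weyl 1, .weyl 4, .weyl 3, .weyl 2, .weyl 5, .weyl 4, .weyl 3, .weyl 1, .weyl 6, .weyl 5, .weyl 4, .weyl 3, .weyl 2, .weyl 0, .weyl 7, .weyl 6, .weyl 5, .weyl 4, .weyl 3, .weyl 1, .weyl 2, .weyl 3, .weyl 4, .weyl 5, .weyl 6, .weyl 7, .weyl 5, .weyl 4, .weyl 3, .weyl 1, .weyl 2, .weyl 0, .weyl 3, .weyl 2, .weyl 4, .weyl 3, .weyl 1, .weyl 5, .weyl 4, .weyl 3, .weyl 2, .weyl 0, .weyl 3, .weyl 2, .weyl 4, .weyl 3, .weyl 5, .weyl 4, .weyl 6, .weyl 5] _ _ (by decide +kernel)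

theorem red_E8_8 : Red eE8 [239, 226, 159, 152, 141] [239, 226, 159, 152] :=
  run_sound eE8 [.swap 1, .swap 2, .swap 3, .weyl 0, .weyl 2, .weyl 3, .weyl 1, .weyl 4, .weyl 3, .weyl 2, .weyl 0, .weyl 5, .weyl 4, .weyl 6, .weyl 5, .weyl 5, .weyl 6, .weyl 4, .weyl 5, .weyl 3, .weyl 4, .weyl 2, .weyl 3, .weyl 0, .weyl 2, .weyl 3, .weyl 4, .weyl 5, .weyl 1, .weyl 3, .weyl 4, .weyl 2, .weyl 3, .weyl 0, .weyl 2, .weyl 1, .weyl 3, .weyl 4, .weyl 5, .weyl 7, .weyl 6, .weyl 5, .weyl 4, .weyl 3, .weyl 2, .weyl 1, .weyl 3, .weyl 4, .weyl 5, .weyl 6, .weyl 7, .weyl 0, .weyl 2, .weyl 3, .weyl 4, .weyl 5, .weyl 6, .weyl 1, .weyl 3, .weyl 4, .weyl 5, .weyl 2, .weyl 3, .weyl 4, .weyl 1, .weyl 0, .frame, .weyl 0, .weyl 1, .weyl 4, .weyl 3, .weyl 2, .weyl 5, .weyl 4, .weyl 3, .weyl 1, .weyl 6, .weyl 5, .weyl 4, .weyl 3, .weyl 2, .weyl 0, .weyl 7, .weyl 6, .weyl 5, .weyl 4,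 .weyl 3, .weyl 1, .weyl 2, .weyl 3, .weyl 4, .weyl 5, .weyl 6, .weyl 7, .weyl 5, .weyl 4, .weyl 3, .weyl 1, .weyl 2, .weyl 0, .weyl 3, .weyl 2, .weyl 4, .weyl 3, .weyl 1, .weyl 5, .weyl 4, .weyl 3, .weyl 2, .weyl 0, .weyl 3, .weyl 2, .weyl 4, .weyl 3, .weyl 5, .weyl 4, .weyl 6, .weyl 5] _ _ (by decide +kernel)

theorem extstd_E8 : ∀ T0 ∈ eE8.std, ∀ ρ ∈ dom eE8 T0, ∃ T ∈ eE8.std, Red eE8 (T0 ++ [ρ]) T := by
  intro T0 hT0 ρ hρ
  have hstd : eE8.std = [[], [239], [239, 226], [239, 226, 159], [239, 226, 159, 152]] := rfl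
  rw [hstd] at hT0 ⊢
  simp only [List.mem_cons, List.not_mem_nil, or_false] at hT0
  rcases hT0 with rfl | rfl | rfl | rfl | rfl
  · rw [dom_E8_0] at hρ
    simp only [List.mem_cons, List.not_mem_nil, or_false] at hρ
    subst hρ
    exact ⟨[239], by simp, red_E8_0⟩
  · rw [dom_E8_1] at hρ
    simp only [List.mem_cons, List.not_mem_nil, or_false] at hρ
    subst hρ
    exact ⟨[239, 226], by simp, red_E8_1⟩
  · rw [dom_E8_2] at hρ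
    simp only [List.mem_cons, List.not_mem_nil, or_false] at hρ
    subst hρ
    exact ⟨[239, 226, 159], by simp, red_E8_2⟩
  · rw [dom_E8_3] at hρ
    simp only [List.mem_cons, List.not_mem_nil, or_false] at hρ
    rcases hρ with rfl | rfl
    · exact ⟨[239, 226, 159], by simp, red_E8_3⟩
    · exact ⟨[239, 226, 159, 152], by simp, red_E8_4⟩
  · rw [dom_E8_4] at hρ
    simp only [List.mem_cons, List.not_mem_nil, or_false] at hρ
    rcases hρ with rfl | rfl | rfl | rfl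
    · exact ⟨[239, 226, 159, 152], by simp, red_E8_5⟩
    · exact ⟨[239, 226, 159, 152], by simp, red_E8_6⟩
    · exact ⟨[239, 226, 159, 152], by simp, red_E8_7⟩
    · exact ⟨[239, 226, 159, 152], by simp, red_E8_8⟩

end Cfsg.Agent.Lib.Helper23_EInvExt
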