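import Cfsg.Agent.Lib.Lead_Subnormal

/-!
# Flavell's generalisation of Wielandt's zipper lemma (toolkit and proof)

`NC C H` : normal closure of `C` under `H` (inside the ambient group).
`SC C H` : the largest `X ≤ H` with `C ≤ X` and `NC C X = X` (subnormal closure of `C` in `H`).
Main result: `flavell`.
-/

set_option autoImplicit false
set_option linter.unusedSectionVars false
set_option linter.unusedVariables false
open scoped Pointwise

namespace Cfsg.Agent.Lib.Helper23_Flavell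

open Cfsg.Agent.Lib.Lead_Subnormal

variable {G : Type*} [Group G]

/-! ### conjugation of subgroups -/

theorem cj_mul (g h : G) (C : Subgroup G) :
    MulAut.conj g • (MulAut.conj h • C) = MulAut.conj (g * h) • C := by
  rw [← mul_smul, ← map_mul]

theorem cj_one (C : Subgroup G) : MulAut.conj (1 : G) • C = C := by
  rw [map_one, one_smul]

theorem cj_inv_cj (g : G) (C : Subgroup G) : MulAut.conj g⁻¹ • (MulAut.conj g • C) = C := by
  rw [cj_mul, inv_mul_cancel, cj_one]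

theorem cj_cj_inv (g : G) (C : Subgroup G) : MulAut.conj g • (MulAut.conj g⁻¹ • C) = C := by
  rw [cj_mul, mul_inv_cancel, cj_one]

theorem cj_le_cj {g : G} {A B : Subgroup G} (h : A ≤ B) : MulAut.conj g • A ≤ MulAut.conj g • B :=
  Subgroup.pointwise_smul_le_pointwise_smul_iff.mpr h

theorem cj_le_iff {g : G} {A B : Subgroup G} : MulAut.conj g • A ≤ B ↔ A ≤ MulAut.conj g⁻¹ • B := by
  constructor
  · intro h
    have := cj_le_cj (g := g⁻¹) h
    rwa [cj_inv_cj] at this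
  · intro h
    have := cj_le_cj (g := g) h
    rwa [cj_cj_inv] at this

theorem cj_eq_self_of_mem {g : G} {H : Subgroup G} (hg : g ∈ H) : MulAut.conj g • H = H :=
  Subgroup.conj_smul_eq_self_of_mem hg

theorem cj_le_of_mem {g : G} {C H : Subgroup G} (hg : g ∈ H) (hC : C ≤ H) : MulAut.conj g • C ≤ H := by
  have := cj_le_cj (g := g) hC
  rwa [cj_eq_self_of_mem hg] at this

theorem cj_eq_self_iff {g : G} {C : Subgroup G} :
    MulAut.conj g • C = C ↔ g ∈ Subgroup.normalizer (C : Set G) := by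
  constructor
  · intro h
    rw [Subgroup.mem_normalizer_iff]
    intro y
    constructor
    · intro hy
      have : g * y * g⁻¹ ∈ MulAut.conj g • C := by
        rw [mem_conj_smul]
        have : g⁻¹ * (g * y * g⁻¹) * g = y := by group
        rwa [this]
      rwa [h] at this
    · intro hy
      rw [← h, mem_conj_smul] at hy
      have : g⁻¹ * (g * y * g⁻¹) * g = y := by group
      rwa [this] at hy
  · intro h
    rw [Subgroup.mem_normalizer_iff] at h
    ext x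
    rw [mem_conj_smul]
    have := h (g⁻¹ * x * g)
    have e : g * (g⁻¹ * x * g) * g⁻¹ = x := by group
    rw [e] at this
    exact this

theorem cj_eq_self_of_le_normalizer {g : G} {C H : Subgroup G}
    (hH : H ≤ Subgroup.normalizer (C : Set G)) (hg : g ∈ H) : MulAut.conj g • C = C :=
  cj_eq_self_iff.mpr (hH hg)

theorem le_normalizer_of_cj {C H : Subgroup G} (h : ∀ g ∈ H, MulAut.conj g • C = C) :
    H ≤ Subgroup.normalizer (C : Set G) := fun g hg => cj_eq_self_iff.mp (h g hg)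

theorem cj_ne_top {g : G} {C : Subgroup G} (h : C ≠ ⊤) : MulAut.conj g • C ≠ ⊤ := by
  intro h'
  apply h
  have := congrArg (fun X => MulAut.conj g⁻¹ • X) h'
  simp only [cj_inv_cj] at this
  rw [this]
  apply top_le_iff.mp
  intro x _
  rw [mem_conj_smul]
  trivial

theorem cj_isCoatom {g : G} {M : Subgroup G} (hM : IsCoatom M) : IsCoatom (MulAut.conj g • M) := by
  refine ⟨cj_ne_top hM.1, ?_⟩
  intro B hB
  have h1 : M < MulAut.conj g⁻¹ • B := by
    refine lt_of_le_of_ne (cj_le_iff.mp hB.le) ?_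
    intro h
    apply hB.ne
    rw [h, cj_cj_inv]
  have h2 := hM.2 _ h1
  have := congrArg (fun X => MulAut.conj g • X) h2
  simp only [cj_cj_inv] at this
  rw [this]
  apply top_le_iff.mp
  intro x _
  rw [mem_conj_smul]
  trivial

theorem cj_sSup_le {g : G} {S : Set (Subgroup G)} {T : Subgroup G}
    (h : ∀ X ∈ S, MulAut.conj g • X ≤ T) : MulAut.conj g • (sSup S : Subgroup G) ≤ T := by
  rw [cj_le_iff]
  refine sSup_le fun X hX => ?_
  rw [← cj_le_iff]
  exact h X hX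

theorem normalizer_inf_le_normalizer_sup (P Q : Subgroup G) :
    Subgroup.normalizer (P : Set G) ⊓ Subgroup.normalizer (Q : Set G) ≤
      Subgroup.normalizer ((P ⊔ Q : Subgroup G) : Set G) := by
  intro g hg
  rw [← cj_eq_self_iff, conj_smul_sup, cj_eq_self_iff.mpr hg.1, cj_eq_self_iff.mpr hg.2]

/-! ### normal closure of `C` under `H` -/

/-- normal closure of `C` under `H`, as a subgroup of `G`. -/
def NC (C H : Subgroup G) : Subgroup G := sSup {X | ∃ h ∈ H, X = MulAut.conj h • C}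

theorem le_NC (C H : Subgroup G) : C ≤ NC C H :=
  le_sSup ⟨1, H.one_mem, (cj_one C).symm⟩

theorem cj_le_NC {C H : Subgroup G} {h : G} (hh : h ∈ H) : MulAut.conj h • C ≤ NC C H :=
  le_sSup ⟨h, hh, rfl⟩

theorem NC_le {C H : Subgroup G} (hCH : C ≤ H) : NC C H ≤ H := by
  refine sSup_le ?_
  rintro _ ⟨h, hh, rfl⟩
  exact cj_le_of_mem hh hCH

theorem le_normalizer_NC (C H : Subgroup G) : H ≤ Subgroup.normalizer (NC C H : Set G) := by
  intro v hv
  apply mem_normalizer_sSup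
  · rintro _ ⟨w, hw, rfl⟩
    exact ⟨v * w, H.mul_mem hv hw, cj_mul v w C⟩
  · rintro _ ⟨w, hw, rfl⟩
    exact ⟨v⁻¹ * w, H.mul_mem (H.inv_mem hv) hw, cj_mul v⁻¹ w C⟩

theorem NC_mono_right (C : Subgroup G) {H H' : Subgroup G} (h : H ≤ H') : NC C H ≤ NC C H' := by
  refine sSup_le ?_
  rintro _ ⟨x, hx, rfl⟩
  exact cj_le_NC (h hx)

theorem NC_mono_left {C C' : Subgroup G} (H : Subgroup G) (h : C ≤ C') : NC C H ≤ NC C' H := by
  refine sSup_le ?_
  rintro _ ⟨x, hx, rfl⟩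
  exact (cj_le_cj h).trans (cj_le_NC hx)

theorem NC_le_of_le_normalizer {C H P : Subgroup G} (hCP : C ≤ P)
    (hH : H ≤ Subgroup.normalizer (P : Set G)) : NC C H ≤ P := by
  refine sSup_le ?_
  rintro _ ⟨x, hx, rfl⟩
  have := cj_le_cj (g := x) hCP
  rwa [cj_eq_self_of_le_normalizer hH hx] at this

theorem NC_self (C : Subgroup G) : NC C C = C :=
  le_antisymm (NC_le le_rfl) (le_NC C C)

theorem cj_NC_le (g : G) (C H : Subgroup G) :
    MulAut.conj g • NC C H ≤ NC (MulAut.conj g • C) (MulAut.conj g • H) := by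
  apply cj_sSup_le
  rintro _ ⟨h, hh, rfl⟩
  have h1 : g * h * g⁻¹ ∈ MulAut.conj g • H := by
    rw [mem_conj_smul]
    have : g⁻¹ * (g * h * g⁻¹) * g = h := by group
    rwa [this]
  have h2 := cj_le_NC (C := MulAut.conj g • C) h1
  rw [cj_mul] at h2 ⊢
  have : g * h * g⁻¹ * g = g * h := by group
  rwa [this] at h2

theorem NC_cj (g : G) (C H : Subgroup G) :
    NC (MulAut.conj g • C) (MulAut.conj g • H) = MulAut.conj g • NC C H := by
  refine le_antisymm ?_ (cj_NC_le g C H)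
  have := cj_NC_le g⁻¹ (MulAut.conj g • C) (MulAut.conj g • H)
  rw [cj_inv_cj, cj_inv_cj] at this
  rw [cj_le_iff] at this
  rwa [inv_inv] at this

/-- `NC C H = H` is inherited upwards in `C`. -/
theorem NC_eq_of_le {C S X : Subgroup G} (hS : NC C S = S) (hSX : S ≤ X) (hX : NC S X = X) :
    NC C X = X := by
  have hCX : C ≤ X := ((le_NC C S).trans hS.le).trans hSX
  refine le_antisymm (NC_le hCX) ?_
  have h1 : S ≤ NC C X := hS.ge.trans (NC_mono_right C hSX)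
  have h2 : NC S X ≤ NC C X := NC_le_of_le_normalizer h1 (le_normalizer_NC C X)
  exact hX.ge.trans h2

/-! ### the subnormal closure -/

/-- the largest `X ≤ H` containing `C` which is generated by its own conjugates of `C`. -/
def SC (C H : Subgroup G) : Subgroup G := sSup {X | C ≤ X ∧ X ≤ H ∧ NC C X = X}

theorem SC_le (C H : Subgroup G) : SC C H ≤ H := sSup_le fun _ hX => hX.2.1

theorem le_SC {C H : Subgroup G} (h : C ≤ H) : C ≤ SC C H := le_sSup ⟨le_rfl, h, NC_self C⟩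

theorem le_SC_of {C H X : Subgroup G} (h1 : C ≤ X) (h2 : X ≤ H) (h3 : NC C X = X) : X ≤ SC C H :=
  le_sSup ⟨h1, h2, h3⟩

theorem NC_SC {C H : Subgroup G} (h : C ≤ H) : NC C (SC C H) = SC C H := by
  refine le_antisymm (NC_le (le_SC h)) ?_
  refine sSup_le fun X hX => ?_
  calc X = NC C X := hX.2.2.symm
    _ ≤ NC C (SC C H) := NC_mono_right C (le_sSup hX)

theorem SC_subnIn_aux [Finite G] (C : Subgroup G) (n : ℕ) : ∀ H : Subgroup G, Nat.card H = n → C ≤ H →
    SubnIn (SC C H) H := by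
  induction n using Nat.strong_induction_on with
  | _ n ih =>
  intro H hn hCH
  by_cases hH : NC C H = H
  · have : SC C H = H := le_antisymm (SC_le C H) (le_SC_of hCH le_rfl hH)
    rw [this]; exact SubnIn.refl H
  · have hlt : NC C H < H := lt_of_le_of_ne (NC_le hCH) hH
    have heq : SC C H = SC C (NC C H) := by
      apply le_antisymm
      · refine sSup_le fun X hX => ?_
        refine le_SC_of hX.1 ?_ hX.2.2
        calc X = NC C X := hX.2.2.symm
          _ ≤ NC C H := NC_mono_right C hX.2.1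
      · refine sSup_le fun X hX => ?_
        exact le_SC_of hX.1 (hX.2.1.trans hlt.le) hX.2.2
    rw [heq]
    have h1 := ih (Nat.card (NC C H)) (hn ▸ card_lt_of_lt' hlt) (NC C H) rfl (le_NC C H)
    exact h1.trans (SubnIn.of_normal hlt.le (le_normalizer_NC C H))

theorem SC_subnIn [Finite G] {C H : Subgroup G} (h : C ≤ H) : SubnIn (SC C H) H :=
  SC_subnIn_aux C _ H rfl h

/-- a subnormal subgroup of `X` containing `C`, where `X` is generated by its conjugates of `C`, is `X`. -/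
theorem eq_of_subnIn_of_NC {C P X : Subgroup G} (h : SubnIn P X) (hCP : C ≤ P) (hX : NC C X = X) :
    P = X := by
  induction h with
  | refl K => rfl
  | step P K X hPK hn _ ih =>
    have hK : K = X := ih (hCP.trans hPK) hX
    subst hK
    exact le_antisymm hPK (hX.ge.trans (NC_le_of_le_normalizer hCP hn))

theorem SC_eq_of_subnIn {C H : Subgroup G} (h : SubnIn C H) : SC C H = C := by
  have h1 : SubnIn C (SC C H) := h.of_le_le (le_SC h.le) (SC_le C H)
  exact (eq_of_subnIn_of_NC h1 le_rfl (NC_SC h.le)).symm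

theorem subnIn_of_SC_eq [Finite G] {C H : Subgroup G} (hCH : C ≤ H) (h : SC C H = C) : SubnIn C H := by
  have := SC_subnIn hCH
  rwa [h] at this

/-- join decomposition -/
theorem eq_SC_sup_SC [Finite G] {C C' X : Subgroup G} (hC : C ≤ X) (hC' : C' ≤ X)
    (hX : NC (C ⊔ C') X = X) : SC C X ⊔ SC C' X = X :=
  eq_of_subnIn_of_NC ((SC_subnIn hC).sup (SC_subnIn hC'))
    (sup_le_sup (le_SC hC) (le_SC hC')) hX

/-- zipper step -/
theorem exists_cj_le_normalizer {H X : Subgroup G} (h : SubnIn H X)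
    (hn : ¬ X ≤ Subgroup.normalizer (H : Set G)) :
    ∃ x ∈ X, MulAut.conj x • H ≠ H ∧ MulAut.conj x • H ≤ Subgroup.normalizer (H : Set G) := by
  classical
  obtain ⟨n, f, hf0, hfn, hf⟩ := h.exists_chain
  have hmono : ∀ j, j ≤ n → ∀ i, i ≤ j → f i ≤ f j := by
    intro j
    induction j with
    | zero => intro _ i hi; obtain rfl : i = 0 := by omega
              exact le_rfl
    | succ j ih =>
      intro hj i hi
      rcases Nat.lt_or_ge i (j + 1) with h1 | h1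
      · exact (ih (by omega) i (by omega)).trans (hf j (by omega)).1
      · obtain rfl : i = j + 1 := by omega
        exact le_rfl
  have hex : ∃ j, j ≤ n ∧ ¬ f j ≤ Subgroup.normalizer (H : Set G) := ⟨n, le_rfl, by rwa [hfn]⟩
  obtain ⟨hjn, hj⟩ := Nat.find_spec hex
  rcases hj0 : Nat.find hex with _ | j
  · rw [hj0, hf0] at hj
    exact absurd Subgroup.le_normalizer hj
  · rw [hj0] at hj hjn
    have hprev : f j ≤ Subgroup.normalizer (H : Set G) := by
      by_contra hcon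
      have := Nat.find_min hex (m := j) (by omega)
      exact this ⟨by omega, hcon⟩
    obtain ⟨x, hx, hxn⟩ := SetLike.not_le_iff_exists.mp hj
    have hHj : H ≤ f j := by rw [← hf0]; exact hmono j (by omega) 0 (by omega)
    have hxj : MulAut.conj x • f j = f j :=
      cj_eq_self_of_le_normalizer (hf j (by omega)).2 hx
    refine ⟨x, ?_, ?_, ?_⟩
    · rw [← hfn]; exact hmono n le_rfl (j + 1) hjn hx
    · intro h'; exact hxn (cj_eq_self_iff.mp h')
    · calc MulAut.conj x • H ≤ MulAut.conj x • f j := cj_le_cj hHj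
        _ = f j := hxj
        _ ≤ _ := hprev


/-! ### the set-up of the induction -/

section Main
variable [Finite G]

/-- `X` is a proper subgroup containing `C` generated by its own conjugates of `C`. -/
def Mem (C X : Subgroup G) : Prop := C ≤ X ∧ X ≠ ⊤ ∧ NC C X = X

/-- the conclusion of the theorem, in a form stable under conjugation -/
def Good (B : Subgroup G) : Prop :=
  (∀ Z : Subgroup G, (∀ X, Mem B X → X ≤ Z) → Z = ⊤) ∨
  (∃ M, IsCoatom M ∧ B ≤ M ∧ ∀ M', IsCoatom M' → B ≤ M' → M' = M)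

/-- induction hypothesis: the theorem for all larger subgroups -/
def IHyp (G : Type*) [Group G] (k : ℕ) : Prop :=
  ∀ B : Subgroup G, k < Nat.card B → B ≠ ⊤ → NC B ⊤ = ⊤ → Good B

/-- a counterexample of order `k` -/
structure Vtx (k : ℕ) (C : Subgroup G) : Prop where
  card : Nat.card C = k
  ne_top : C ≠ ⊤
  nc : NC C ⊤ = ⊤
  bdd : ∃ Z : Subgroup G, Z ≠ ⊤ ∧ ∀ X, Mem C X → X ≤ Z
  two : ∃ V W : Subgroup G, IsCoatom V ∧ IsCoatom W ∧ V ≠ W ∧ C ≤ V ∧ C ≤ W

/-- the join of the proper members -/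
def YY (C : Subgroup G) : Subgroup G := sSup {X | Mem C X}

theorem exists_coatom_ge {H : Subgroup G} (h : H ≠ ⊤) : ∃ M, IsCoatom M ∧ H ≤ M := by
  rcases eq_top_or_exists_le_coatom H with h' | h'
  · exact absurd h' h
  · exact h'

theorem coatom_eq_of_le {V M : Subgroup G} (hV : IsCoatom V) (hM : M ≠ ⊤) (h : V ≤ M) : V = M := by
  by_contra hne
  exact hM (hV.2 M (lt_of_le_of_ne h hne))

theorem mem_self {C : Subgroup G} (h : C ≠ ⊤) : Mem C C := ⟨le_rfl, h, NC_self C⟩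

theorem mem_SC {C H : Subgroup G} (hCH : C ≤ H) (hH : H ≠ ⊤) : Mem C (SC C H) :=
  ⟨le_SC hCH, fun h => hH (top_le_iff.mp (h ▸ SC_le C H)), NC_SC hCH⟩

theorem Mem.cj {C X : Subgroup G} (h : Mem C X) (g : G) :
    Mem (MulAut.conj g • C) (MulAut.conj g • X) :=
  ⟨cj_le_cj h.1, cj_ne_top h.2.1, by rw [NC_cj, h.2.2]⟩

theorem NC_top_cj {C : Subgroup G} (h : NC C ⊤ = ⊤) (g : G) : NC (MulAut.conj g • C) ⊤ = ⊤ := by
  have h1 : MulAut.conj g • (⊤ : Subgroup G) = ⊤ := cj_eq_self_of_mem (Subgroup.mem_top g)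
  have := NC_cj g C ⊤
  rw [h1, h, h1] at this
  exact this

theorem Vtx.cj {k : ℕ} {C : Subgroup G} (h : Vtx k C) (g : G) : Vtx k (MulAut.conj g • C) := by
  refine ⟨by rw [card_conj_smul, h.card], cj_ne_top h.ne_top, NC_top_cj h.nc g, ?_, ?_⟩
  · obtain ⟨Z, hZ, hZb⟩ := h.bdd
    refine ⟨MulAut.conj g • Z, cj_ne_top hZ, ?_⟩
    intro X hX
    have h1 := hX.cj g⁻¹
    rw [cj_inv_cj] at h1
    have h2 := cj_le_iff.mp (hZb _ h1)
    rwa [inv_inv] at h2
  · obtain ⟨V, W, hV, hW, hne, hCV, hCW⟩ := h.two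
    refine ⟨MulAut.conj g • V, MulAut.conj g • W, cj_isCoatom hV, cj_isCoatom hW, ?_, cj_le_cj hCV,
      cj_le_cj hCW⟩
    intro h'
    apply hne
    have := congrArg (fun X => MulAut.conj g⁻¹ • X) h'
    simpa only [cj_inv_cj] using this

section vertex
variable {k : ℕ} {C : Subgroup G}

theorem Vtx.YY_ne_top (h : Vtx k C) : YY C ≠ ⊤ := by
  obtain ⟨Z, hZ, hZb⟩ := h.bdd
  intro h'
  apply hZ
  apply top_le_iff.mp
  rw [← h']
  exact sSup_le fun X hX => hZb X hX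

theorem Vtx.le_YY (h : Vtx k C) : C ≤ YY C := le_sSup (mem_self h.ne_top)

theorem le_YY_of_mem {X : Subgroup G} (hX : Mem C X) : X ≤ YY C := le_sSup hX

theorem Vtx.mem_YY (h : Vtx k C) : Mem C (YY C) := by
  refine ⟨h.le_YY, h.YY_ne_top, le_antisymm (NC_le h.le_YY) ?_⟩
  refine sSup_le fun X hX => ?_
  calc X = NC C X := hX.2.2.symm
    _ ≤ NC C (YY C) := NC_mono_right C (le_sSup hX)

theorem Vtx.SC_le_YY (h : Vtx k C) {H : Subgroup G} (hCH : C ≤ H) (hH : H ≠ ⊤) : SC C H ≤ YY C :=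
  le_YY_of_mem (mem_SC hCH hH)

theorem Vtx.not_subnIn_top (h : Vtx k C) : ¬ SubnIn C ⊤ := fun h' =>
  h.ne_top (eq_of_subnIn_of_NC h' le_rfl h.nc)

theorem Vtx.YY_ne_self (h : Vtx k C) : YY C ≠ C := by
  intro hY
  have hsub : ∀ H : Subgroup G, C ≤ H → H ≠ ⊤ → SubnIn C H := by
    intro H hCH hH
    apply subnIn_of_SC_eq hCH
    have h1 := h.SC_le_YY hCH hH
    rw [hY] at h1
    exact le_antisymm h1 (le_SC hCH)
  let Hyp : Subgroup G → Subgroup G → Prop := fun B _ => ∃ g : G, B = MulAut.conj g • C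
  have hmono : ∀ B V W : Subgroup G, Hyp B V → W ≤ V → Hyp B W := fun _ _ _ hB _ => hB
  have hconj : ∀ (B V : Subgroup G) (g : G), Hyp B V → g ∈ V → Hyp (MulAut.conj g • B) V := by
    rintro B V g ⟨g', rfl⟩ _
    exact ⟨g * g', cj_mul g g' C⟩
  have hIH : ∀ W : Subgroup G, W < ⊤ → ∀ C' : Subgroup G, C' ≤ W → Hyp C' W → SubnIn C' W := by
    rintro W hW _ hCW ⟨g, rfl⟩
    have h1 : C ≤ MulAut.conj g⁻¹ • W := cj_le_iff.mp hCW
    have h2 := (hsub _ h1 (cj_ne_top hW.ne)).conj g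
    rwa [cj_cj_inv] at h2
  obtain ⟨M, hCM, hM, hmax⟩ := zipper_max Hyp hmono hconj ⊤ C le_top ⟨1, (cj_one C).symm⟩
    h.not_subnIn_top hIH
  obtain ⟨V, W, hV, hW, hne, hCV, hCW⟩ := h.two
  have h1 := coatom_eq_of_le hV hM.ne (hmax V hCV (lt_top_iff_ne_top.mpr hV.1))
  have h2 := coatom_eq_of_le hW hM.ne (hmax W hCW (lt_top_iff_ne_top.mpr hW.1))
  exact hne (h1.trans h2.symm)

theorem Vtx.lt_YY (h : Vtx k C) : C < YY C := lt_of_le_of_ne h.le_YY (Ne.symm h.YY_ne_self)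

/-- a proper member `S` of `Σ(C)` bigger than `C` lies in a unique maximal subgroup -/
theorem Vtx.unique_coatom_of_mem (h : Vtx k C) (IH : IHyp G k) {S : Subgroup G} (hS : Mem C S)
    (hne : S ≠ C) :
    ∃ M, IsCoatom M ∧ S ≤ M ∧ ∀ M', IsCoatom M' → S ≤ M' → M' = M := by
  have hlt : C < S := lt_of_le_of_ne hS.1 (Ne.symm hne)
  have hk : k < Nat.card S := h.card ▸ card_lt_of_lt' hlt
  have hnc : NC S ⊤ = ⊤ := top_le_iff.mp (h.nc.ge.trans (NC_mono_left ⊤ hS.1))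
  rcases IH S hk hS.2.1 hnc with h1 | h1
  · exfalso
    apply h.YY_ne_top
    apply h1
    intro X hX
    exact le_YY_of_mem ⟨hS.1.trans hX.1, hX.2.1, NC_eq_of_le hS.2.2 hX.1 hX.2.2⟩
  · exact h1

end vertex

/-- the special maximal subgroup of a vertex -/
noncomputable def MM (C : Subgroup G) : Subgroup G := by
  classical
  exact if h : ∃ M, IsCoatom M ∧ YY C ≤ M then Classical.choose h else ⊤

section vertex2
variable {k : ℕ} {C : Subgroup G}

theorem Vtx.MM_spec (h : Vtx k C) : IsCoatom (MM C) ∧ YY C ≤ MM C := by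
  have hex : ∃ M, IsCoatom M ∧ YY C ≤ M := exists_coatom_ge h.YY_ne_top
  unfold MM
  rw [dif_pos hex]
  exact Classical.choose_spec hex

theorem Vtx.isCoatom_MM (h : Vtx k C) : IsCoatom (MM C) := h.MM_spec.1

theorem Vtx.YY_le_MM (h : Vtx k C) : YY C ≤ MM C := h.MM_spec.2

theorem Vtx.le_MM (h : Vtx k C) : C ≤ MM C := h.le_YY.trans h.YY_le_MM

theorem Vtx.MM_unique (h : Vtx k C) (IH : IHyp G k) {M' : Subgroup G} (hM' : IsCoatom M')
    (hY : YY C ≤ M') : M' = MM C := by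
  obtain ⟨M, -, -, hu⟩ := h.unique_coatom_of_mem IH h.mem_YY h.YY_ne_self
  rw [hu M' hM' hY, hu (MM C) h.isCoatom_MM h.YY_le_MM]

theorem Vtx.le_MM_of_YY_le (h : Vtx k C) (IH : IHyp G k) {H : Subgroup G} (hH : H ≠ ⊤)
    (hY : YY C ≤ H) : H ≤ MM C := by
  obtain ⟨M', hM', hHM'⟩ := exists_coatom_ge hH
  rw [← h.MM_unique IH hM' (hY.trans hHM')]
  exact hHM'

theorem Vtx.normalizer_YY_ne_top (h : Vtx k C) : Subgroup.normalizer (YY C : Set G) ≠ ⊤ := by
  intro h'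
  apply h.YY_ne_top
  apply top_le_iff.mp
  rw [← h.nc]
  exact NC_le_of_le_normalizer h.le_YY h'.ge

theorem Vtx.normalizer_le_MM (h : Vtx k C) (IH : IHyp G k) :
    Subgroup.normalizer (C : Set G) ≤ MM C := by
  have h1 : Subgroup.normalizer (C : Set G) ≤ Subgroup.normalizer (YY C : Set G) := by
    intro g hg
    have hgC : MulAut.conj g • C = C := cj_eq_self_iff.mpr hg
    have hgC' : MulAut.conj g⁻¹ • C = C := cj_eq_self_iff.mpr (Subgroup.inv_mem _ hg)
    apply mem_normalizer_sSup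
    · intro X hX
      have := Mem.cj hX g
      rwa [hgC] at this
    · intro X hX
      have := Mem.cj hX g⁻¹
      rwa [hgC'] at this
  exact h1.trans (h.le_MM_of_YY_le IH h.normalizer_YY_ne_top Subgroup.le_normalizer)

/-- (F3a) -/
theorem Vtx.subnIn_of_not_le (h : Vtx k C) (IH : IHyp G k) {H : Subgroup G} (hCH : C ≤ H)
    (hH : H ≠ ⊤) (hHM : ¬ H ≤ MM C) : SubnIn C H := by
  apply subnIn_of_SC_eq hCH
  by_contra hne
  obtain ⟨M, hM, hSM, hu⟩ := h.unique_coatom_of_mem IH (mem_SC hCH hH) hne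
  obtain ⟨L, hL, hHL⟩ := exists_coatom_ge hH
  have h1 : L = M := hu L hL ((SC_le C H).trans hHL)
  have h2 : MM C = M := hu _ h.isCoatom_MM ((h.SC_le_YY hCH hH).trans h.YY_le_MM)
  exact hHM (by rw [h2, ← h1]; exact hHL)

theorem Vtx.not_subnIn_MM (h : Vtx k C) : ¬ SubnIn C (MM C) := by
  intro h'
  have h1 : SubnIn C (YY C) := h'.of_le_le h.le_YY h.YY_le_MM
  exact h.YY_ne_self (eq_of_subnIn_of_NC h1 le_rfl h.mem_YY.2.2).symm

theorem Vtx.eq_MM (h : Vtx k C) (IH : IHyp G k) {M' : Subgroup G} (hM' : IsCoatom M') (hC : C ≤ M')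
    (hns : ¬ SubnIn C M') : M' = MM C := by
  by_contra hne
  apply hns
  apply h.subnIn_of_not_le IH hC hM'.1
  intro hle
  exact hne (coatom_eq_of_le hM' h.isCoatom_MM.1 hle)

theorem Vtx.MM_cj (h : Vtx k C) (IH : IHyp G k) (g : G) :
    MM (MulAut.conj g • C) = MulAut.conj g • MM C := by
  symm
  apply (h.cj g).eq_MM IH (cj_isCoatom h.isCoatom_MM) (cj_le_cj h.le_MM)
  intro h'
  apply h.not_subnIn_MM
  have := h'.conj g⁻¹
  rwa [cj_inv_cj, cj_inv_cj] at this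

theorem Vtx.MM_cj_of_mem (h : Vtx k C) (IH : IHyp G k) {g : G} (hg : g ∈ MM C) :
    MM (MulAut.conj g • C) = MM C := by
  rw [h.MM_cj IH, cj_eq_self_of_mem hg]

/-- bound for the proper members over a join of two vertices -/
theorem Vtx.mem_sup_le {C' : Subgroup G} (h : Vtx k C) (h' : Vtx k C') {X Z : Subgroup G}
    (hX : Mem (C ⊔ C') X) (hZ : (X ≤ MM C → YY C ≤ Z) ∧ (¬ X ≤ MM C → SubnIn C X → C ≤ Z))
    (hZ' : (X ≤ MM C' → YY C' ≤ Z) ∧ (¬ X ≤ MM C' → SubnIn C' X → C' ≤ Z))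
    (IH : IHyp G k) : X ≤ Z := by
  have hCX : C ≤ X := le_sup_left.trans hX.1
  have hC'X : C' ≤ X := le_sup_right.trans hX.1
  rw [← eq_SC_sup_SC hCX hC'X hX.2.2]
  refine sup_le ?_ ?_
  · by_cases hc : X ≤ MM C
    · exact (h.SC_le_YY hCX hX.2.1).trans (hZ.1 hc)
    · have hs := h.subnIn_of_not_le IH hCX hX.2.1 hc
      rw [SC_eq_of_subnIn hs]
      exact hZ.2 hc hs
  · by_cases hc : X ≤ MM C'
    · exact (h'.SC_le_YY hC'X hX.2.1).trans (hZ'.1 hc)
    · have hs := h'.subnIn_of_not_le IH hC'X hX.2.1 hc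
      rw [SC_eq_of_subnIn hs]
      exact hZ'.2 hc hs

/-- the join of two distinct vertices, if contained in two maximal subgroups, generates `G` with
its proper members -/
theorem Vtx.sup_bad {C' : Subgroup G} (h : Vtx k C) (h' : Vtx k C') (hne : C ≠ C')
    (IH : IHyp G k) {V W : Subgroup G} (hV : IsCoatom V) (hW : IsCoatom W) (hVW : V ≠ W)
    (hBV : C ⊔ C' ≤ V) (hBW : C ⊔ C' ≤ W) {Z : Subgroup G}
    (hZ : ∀ X, Mem (C ⊔ C') X → X ≤ Z) : Z = ⊤ := by
  have hlt : C < C ⊔ C' := by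
    refine lt_of_le_of_ne le_sup_left ?_
    intro he
    have hle : C' ≤ C := by rw [he]; exact le_sup_right
    have : C' = C := by
      apply SetLike.coe_injective
      apply Set.eq_of_subset_of_ncard_le (show (C' : Set G) ⊆ C from hle) ?_ (Set.toFinite _)
      rw [← Nat.card_coe_set_eq, ← Nat.card_coe_set_eq]
      exact (h.card.trans h'.card.symm).le
    exact hne this.symm
  have hk : k < Nat.card (C ⊔ C' : Subgroup G) := h.card ▸ card_lt_of_lt' hlt
  have hB : (C ⊔ C' : Subgroup G) ≠ ⊤ := fun hB => hV.1 (top_le_iff.mp (hB ▸ hBV))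
  have hnc : NC (C ⊔ C') ⊤ = ⊤ := top_le_iff.mp (h.nc.ge.trans (NC_mono_left ⊤ le_sup_left))
  rcases IH _ hk hB hnc with h1 | ⟨M, hM, hBM, hu⟩
  · exact h1 Z hZ
  · exact absurd ((hu V hV hBV).trans (hu W hW hBW).symm) hVW

/-- (F3b) -/
theorem Vtx.inf_MM_le_normalizer (h : Vtx k C) (IH : IHyp G k) {H : Subgroup G} (hCH : C ≤ H)
    (hH : H ≠ ⊤) (hHM : ¬ H ≤ MM C) : H ⊓ MM C ≤ Subgroup.normalizer (C : Set G) := by
  by_contra hcon
  obtain ⟨x, hx, hxn⟩ := SetLike.not_le_iff_exists.mp hcon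
  have hxC : MulAut.conj x • C ≠ C := fun h' => hxn (cj_eq_self_iff.mp h')
  obtain ⟨L, hL, hHL⟩ := exists_coatom_ge hH
  have hLM : L ≠ MM C := fun h' => hHM (h' ▸ hHL)
  have hM' : MM (MulAut.conj x • C) = MM C := h.MM_cj_of_mem IH hx.2
  have hBM : C ⊔ MulAut.conj x • C ≤ MM C := sup_le h.le_MM (cj_le_of_mem hx.2 h.le_MM)
  have hBL : C ⊔ MulAut.conj x • C ≤ L :=
    sup_le (hCH.trans hHL) (cj_le_of_mem (hHL hx.1) (hCH.trans hHL))
  have := h.sup_bad (h.cj x) (Ne.symm hxC) IH h.isCoatom_MM hL (Ne.symm hLM) hBM hBL (Z := MM C) (by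
    intro X hX
    refine h.mem_sup_le (h.cj x) hX ⟨fun _ => h.YY_le_MM, fun hc _ => ?_⟩
      ⟨fun _ => hM' ▸ (h.cj x).YY_le_MM, fun hc _ => ?_⟩ IH
    · exact h.le_MM
    · exact cj_le_of_mem hx.2 h.le_MM)
  exact h.isCoatom_MM.1 this

/-- first half of the pair lemma -/
theorem Vtx.sup_le_MM {C' : Subgroup G} (h : Vtx k C) (h' : Vtx k C') (hne : C ≠ C')
    (IH : IHyp G k) {V W : Subgroup G} (hV : IsCoatom V) (hW : IsCoatom W) (hVW : V ≠ W)
    (hBV : C ⊔ C' ≤ V) (hBW : C ⊔ C' ≤ W) : C ⊔ C' ≤ MM C := by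
  by_contra hcon
  have hB : (C ⊔ C' : Subgroup G) ≠ ⊤ := fun hB => hV.1 (top_le_iff.mp (hB ▸ hBV))
  have hX : ∀ X, Mem (C ⊔ C') X → ¬ X ≤ MM C := fun X hX hc => hcon (hX.1.trans hc)
  by_cases hc' : C ⊔ C' ≤ MM C'
  · apply h'.isCoatom_MM.1
    apply h.sup_bad h' hne IH hV hW hVW hBV hBW
    intro X hX'
    refine h.mem_sup_le h' hX' ⟨fun hc => absurd hc (hX X hX'), fun _ _ => le_sup_left.trans hc'⟩
      ⟨fun _ => h'.YY_le_MM, fun _ _ => h'.le_MM⟩ IH
  · apply hB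
    apply h.sup_bad h' hne IH hV hW hVW hBV hBW
    intro X hX'
    refine h.mem_sup_le h' hX' ⟨fun hc => absurd hc (hX X hX'), fun _ _ => le_sup_left⟩
      ⟨fun hc => absurd (hX'.1.trans hc) hc', fun _ _ => le_sup_right⟩ IH

/-- the pair lemma -/
theorem Vtx.pair {C' : Subgroup G} (h : Vtx k C) (h' : Vtx k C') (hne : C ≠ C')
    (IH : IHyp G k) {V W : Subgroup G} (hV : IsCoatom V) (hW : IsCoatom W) (hVW : V ≠ W)
    (hC : C ≤ V ⊓ W) (hC' : C' ≤ V ⊓ W) :
    MM C ≠ MM C' ∧ C' ≤ MM C ∧ C ≤ MM C' ∧ C' ≤ Subgroup.normalizer (C : Set G) ∧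
      C ≤ Subgroup.normalizer (C' : Set G) := by
  have hBV : C ⊔ C' ≤ V := sup_le (hC.trans inf_le_left) (hC'.trans inf_le_left)
  have hBW : C ⊔ C' ≤ W := sup_le (hC.trans inf_le_right) (hC'.trans inf_le_right)
  have h1 : C ⊔ C' ≤ MM C := h.sup_le_MM h' hne IH hV hW hVW hBV hBW
  have h2 : C ⊔ C' ≤ MM C' := by
    have := h'.sup_le_MM h (Ne.symm hne) IH hV hW hVW (sup_comm C C' ▸ hBV) (sup_comm C C' ▸ hBW)
    rwa [sup_comm] at this
  have h3 : MM C ≠ MM C' := by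
    intro he
    apply h.isCoatom_MM.1
    apply h.sup_bad h' hne IH hV hW hVW hBV hBW
    intro X hX'
    refine h.mem_sup_le h' hX' ⟨fun _ => h.YY_le_MM, fun _ _ => h.le_MM⟩
      ⟨fun _ => he ▸ h'.YY_le_MM, fun _ _ => he ▸ h'.le_MM⟩ IH
  have hC'M : C' ≤ MM C := le_sup_right.trans h1
  have hCM' : C ≤ MM C' := le_sup_left.trans h2
  have hn1 : ¬ MM C ≤ MM C' := fun hle => h3 (coatom_eq_of_le h.isCoatom_MM h'.isCoatom_MM.1 hle)
  have hn2 : ¬ MM C' ≤ MM C := fun hle => h3 (coatom_eq_of_le h'.isCoatom_MM h.isCoatom_MM.1 hle).symm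
  refine ⟨h3, hC'M, hCM', ?_, ?_⟩
  · exact (le_inf h'.le_MM hC'M).trans (h.inf_MM_le_normalizer IH hCM' h'.isCoatom_MM.1 hn2)
  · exact (le_inf h.le_MM hCM').trans (h'.inf_MM_le_normalizer IH hC'M h.isCoatom_MM.1 hn1)

theorem Vtx.le_MM_of_pair {C' : Subgroup G} (h : Vtx k C) (h' : Vtx k C')
    (IH : IHyp G k) {V W : Subgroup G} (hV : IsCoatom V) (hW : IsCoatom W) (hVW : V ≠ W)
    (hC : C ≤ V ⊓ W) (hC' : C' ≤ V ⊓ W) : C' ≤ MM C := by
  by_cases hne : C = C'
  · rw [← hne]; exact h.le_MM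
  · exact (h.pair h' hne IH hV hW hVW hC hC').2.1

end vertex2

theorem cj_eq_of_le {m : G} {P : Subgroup G} (h : MulAut.conj m • P ≤ P) : MulAut.conj m • P = P :=
  Subgroup.eq_of_le_of_card_ge h (card_conj_smul m P).ge

theorem exists_two_ne {α : Type*} {a b c : α} (hab : a ≠ b) (hac : a ≠ c) (hbc : b ≠ c) (x : α)
    (P : α → Prop) (ha : P a) (hb : P b) (hc : P c) :
    ∃ y z, y ≠ z ∧ y ≠ x ∧ z ≠ x ∧ P y ∧ P z := by
  by_cases h1 : a = x
  · exact ⟨b, c, hbc, fun h => hab (h1.trans h.symm), fun h => hac (h1.trans h.symm), hb, hc⟩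
  · by_cases h2 : b = x
    · exact ⟨a, c, hac, h1, fun h => hbc (h2.trans h.symm), ha, hc⟩
    · exact ⟨a, b, hab, h1, h2, ha, hb⟩

/-- there is no counterexample of order `k` -/
theorem no_vertex {k : ℕ} (IH : IHyp G k) {A : Subgroup G} (hA : Vtx k A) : False := by
  classical
  -- a second maximal subgroup `L`
  obtain ⟨L, hL, hLM, hAL⟩ : ∃ L, IsCoatom L ∧ L ≠ MM A ∧ A ≤ L := by
    obtain ⟨V, W, hV, hW, hVW, hAV, hAW⟩ := hA.two
    by_cases hV' : V = MM A
    · exact ⟨W, hW, fun h => hVW (hV'.trans h.symm), hAW⟩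
    · exact ⟨V, hV, hV', hAV⟩
  have hLnle : ¬ L ≤ MM A := fun hle => hLM (coatom_eq_of_le hL hA.isCoatom_MM.1 hle)
  have hAsL : SubnIn A L := hA.subnIn_of_not_le IH hAL hL.1 hLnle
  have hLN : ¬ L ≤ Subgroup.normalizer (A : Set G) := fun hle =>
    hLnle (hle.trans (hA.normalizer_le_MM IH))
  obtain ⟨x, hxL, hxA, hxN⟩ := exists_cj_le_normalizer hAsL hLN
  set D : Subgroup G := MulAut.conj x • A with hDdef
  have hD : Vtx k D := hA.cj x
  have hDL : D ≤ L := cj_le_of_mem hxL hAL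
  have hDM : D ≤ MM A := hxN.trans (hA.normalizer_le_MM IH)
  have hAD : A ≠ D := Ne.symm hxA
  obtain ⟨hMAD, -, hAMD, -, -⟩ := hA.pair hD hAD IH hL hA.isCoatom_MM hLM
    (le_inf hAL hA.le_MM) (le_inf hDL hDM)
  -- the maximal clique
  let K : Set (Subgroup G) := {C | Vtx k C ∧ C ≤ MM A ⊓ MM D}
  have hAK : A ∈ K := ⟨hA, le_inf hA.le_MM hAMD⟩
  have hDK : D ∈ K := ⟨hD, le_inf hDM hD.le_MM⟩
  have Kpair : ∀ C ∈ K, ∀ C' ∈ K, C' ≤ MM C := fun C hC C' hC' =>
    hC.1.le_MM_of_pair hC'.1 IH hA.isCoatom_MM hD.isCoatom_MM hMAD hC.2 hC'.2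
  have Kne : ∀ C ∈ K, ∀ C' ∈ K, C ≠ C' → MM C ≠ MM C' := fun C hC C' hC' hne =>
    (hC.1.pair hC'.1 hne IH hA.isCoatom_MM hD.isCoatom_MM hMAD hC.2 hC'.2).1
  have K3 : ∀ D₁ ∈ K, ∀ D₂ ∈ K, D₁ ≠ D₂ → ∀ C'' : Subgroup G, Vtx k C'' → C'' ≤ MM D₁ ⊓ MM D₂ →
      C'' ∈ K := by
    intro D₁ h1 D₂ h2 hne C'' hC'' hle
    have hne' := Kne D₁ h1 D₂ h2 hne
    have hA' : A ≤ MM D₁ ⊓ MM D₂ := le_inf (Kpair D₁ h1 A hAK) (Kpair D₂ h2 A hAK)
    have hD' : D ≤ MM D₁ ⊓ MM D₂ := le_inf (Kpair D₁ h1 D hDK) (Kpair D₂ h2 D hDK)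
    exact ⟨hC'', le_inf
      (hA.le_MM_of_pair hC'' IH h1.1.isCoatom_MM h2.1.isCoatom_MM hne' hA' hle)
      (hD.le_MM_of_pair hC'' IH h1.1.isCoatom_MM h2.1.isCoatom_MM hne' hD' hle)⟩
  -- a third member of the clique
  have hMDnle : ¬ MM A ≤ MM D := fun hle => hMAD (coatom_eq_of_le hA.isCoatom_MM hD.isCoatom_MM.1 hle)
  have hMAnle : ¬ MM D ≤ MM A := fun hle =>
    hMAD (coatom_eq_of_le hD.isCoatom_MM hA.isCoatom_MM.1 hle).symm
  have hDsM : SubnIn D (MM A) := hD.subnIn_of_not_le IH hDM hA.isCoatom_MM.1 hMDnle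
  have hH₀ : YY A ⊔ D ≤ MM A := sup_le hA.YY_le_MM hDM
  have hDsH : SubnIn D (YY A ⊔ D) := hDsM.of_le_le le_sup_right hH₀
  have hH₀N : ¬ YY A ⊔ D ≤ Subgroup.normalizer (D : Set G) := by
    intro hle
    have h1 : YY A ≤ MM D ⊓ MM A :=
      le_inf ((le_sup_left.trans hle).trans (hD.normalizer_le_MM IH)) hA.YY_le_MM
    have h2 : YY A ≤ Subgroup.normalizer (A : Set G) :=
      h1.trans (hA.inf_MM_le_normalizer IH hAMD hD.isCoatom_MM.1 hMAnle)
    have h3 : NC A (YY A) ≤ A := NC_le_of_le_normalizer le_rfl h2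
    rw [hA.mem_YY.2.2] at h3
    exact hA.YY_ne_self (le_antisymm h3 hA.le_YY)
  obtain ⟨u, huH, huD, huN⟩ := exists_cj_le_normalizer hDsH hH₀N
  have huM : u ∈ MM A := hH₀ huH
  set E : Subgroup G := MulAut.conj u • D with hEdef
  have hE : Vtx k E := hD.cj u
  have hEK : E ∈ K := ⟨hE, le_inf (cj_le_of_mem huM hDM) (huN.trans (hD.normalizer_le_MM IH))⟩
  have hED : E ≠ D := huD
  have hEA : E ≠ A := by
    intro he
    apply hA.not_subnIn_MM
    have := hDsM.conj u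
    rwa [cj_eq_self_of_mem huM, ← hEdef, he] at this
  -- the subgroup generated by the clique
  set T : Subgroup G := sSup K with hTdef
  have hTle : ∀ C ∈ K, T ≤ MM C := fun C hC => sSup_le fun C' hC' => Kpair C hC C' hC'
  have hAT : A ≤ T := le_sSup hAK
  have hTM : T ≤ MM A ⊓ MM D := le_inf (hTle A hAK) (hTle D hDK)
  have hNT : Subgroup.normalizer (T : Set G) ≠ ⊤ := by
    intro h'
    apply hA.isCoatom_MM.1
    apply top_le_iff.mp
    rw [← hA.nc]
    exact (NC_le_of_le_normalizer hAT h'.ge).trans (hTle A hAK)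
  -- choice of the member `C`
  obtain ⟨C, hCK, hK5⟩ : ∃ C ∈ K, ∀ C'' : Subgroup G, Vtx k C'' →
      C'' ≤ Subgroup.normalizer (T : Set G) ⊓ MM C → C'' ∈ K := by
    by_cases hcase : ∃ C ∈ K, ¬ Subgroup.normalizer (T : Set G) ≤ MM C
    · obtain ⟨C, hCK, hC⟩ := hcase
      refine ⟨C, hCK, ?_⟩
      intro C'' hC'' hle
      obtain ⟨X', hX', hNX'⟩ := exists_coatom_ge hNT
      have hX'C : X' ≠ MM C := fun h' => hC (h' ▸ hNX')
      have hTX' : T ≤ X' := Subgroup.le_normalizer.trans hNX'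
      have hle' : C'' ≤ X' ⊓ MM C := le_inf ((hle.trans inf_le_left).trans hNX') (hle.trans inf_le_right)
      have hA' : A ≤ X' ⊓ MM C := le_inf (hAT.trans hTX') (Kpair C hCK A hAK)
      have hD' : D ≤ X' ⊓ MM C := le_inf ((le_sSup hDK).trans hTX') (Kpair C hCK D hDK)
      apply K3 A hAK D hDK hAD C'' hC''
      exact le_inf (hA.le_MM_of_pair hC'' IH hX' hCK.1.isCoatom_MM hX'C hA' hle')
        (hD.le_MM_of_pair hC'' IH hX' hCK.1.isCoatom_MM hX'C hD' hle')
    · have hcase' : ∀ C ∈ K, Subgroup.normalizer (T : Set G) ≤ MM C := fun C hC =>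
        by_contra fun hn => hcase ⟨C, hC, hn⟩
      refine ⟨A, hAK, ?_⟩
      intro C'' hC'' hle
      exact ⟨hC'', le_inf (hle.trans inf_le_right) ((hle.trans inf_le_left).trans (hcase' D hDK))⟩
  have hCv : Vtx k C := hCK.1
  set TC : Subgroup G := sSup (K \ {C}) with hTCdef
  have hTCT : TC ≤ T := sSup_le_sSup Set.sdiff_subset
  have hT_eq : T = TC ⊔ C := by
    apply le_antisymm
    · refine sSup_le fun C' hC' => ?_
      by_cases he : C' = C
      · rw [he]; exact le_sup_right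
      · exact (le_sSup (show C' ∈ K \ {C} from ⟨hC', he⟩)).trans le_sup_left
    · exact sup_le hTCT (le_sSup hCK)
  have hsub : ∀ D' ∈ K \ {C}, SubnIn D' (MM C) := by
    intro D' hD'
    have hne : MM D' ≠ MM C := Kne D' hD'.1 C hCK hD'.2
    apply hD'.1.1.subnIn_of_not_le IH (Kpair C hCK D' hD'.1) hCv.isCoatom_MM.1
    intro hle
    exact hne (coatom_eq_of_le hCv.isCoatom_MM hD'.1.1.isCoatom_MM.1 hle).symm
  have hTCs : SubnIn TC (MM C) := SubnIn.sSup hsub
  -- (F7)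
  have hF7 : MM C ⊓ Subgroup.normalizer (TC : Set G) ≤ Subgroup.normalizer (C : Set G) := by
    intro m hm
    obtain ⟨D₁, D₂, h12, h1C, h2C, h1K, h2K⟩ :=
      exists_two_ne hAD (Ne.symm hEA) (Ne.symm hED) C (· ∈ K) hAK hDK hEK
    have hmi : MulAut.conj m⁻¹ • TC = TC := cj_eq_self_iff.mpr (Subgroup.inv_mem _ hm.2)
    have key : ∀ D' ∈ K, D' ≠ C → MulAut.conj m • C ≤ MM D' := by
      intro D' hD' hne
      have h1 : MulAut.conj m⁻¹ • D' ≤ TC := by
        have := cj_le_cj (g := m⁻¹) (le_sSup (show D' ∈ K \ {C} from ⟨hD', hne⟩))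
        rwa [hmi] at this
      have hv : Vtx k (MulAut.conj m⁻¹ • D') := hD'.1.cj m⁻¹
      have h2 : MulAut.conj m⁻¹ • D' ∈ K := ⟨hv, (h1.trans hTCT).trans hTM⟩
      have h3 : C ≤ MM (MulAut.conj m⁻¹ • D') := Kpair _ h2 C hCK
      have h4 := cj_le_cj (g := m) h3
      rwa [← hv.MM_cj IH, cj_cj_inv] at h4
    have hmC : MulAut.conj m • C ∈ K :=
      K3 D₁ h1K D₂ h2K h12 _ (hCv.cj m) (le_inf (key D₁ h1K h1C) (key D₂ h2K h2C))
    by_contra hcon
    have hne : MulAut.conj m • C ≠ C := fun h' => hcon (cj_eq_self_iff.mp h')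
    exact Kne _ hmC C hCK hne (hCv.MM_cj_of_mem IH hm.1)
  have h7c : MM C ⊓ Subgroup.normalizer (TC : Set G) ≤ Subgroup.normalizer (T : Set G) := by
    intro m hm
    rw [hT_eq]
    exact normalizer_inf_le_normalizer_sup TC C ⟨hm.2, hF7 hm⟩
  -- `TC` is normal in `MM C`
  have h7d : MM C ≤ Subgroup.normalizer (TC : Set G) := by
    by_contra hcon
    obtain ⟨m, hmM, hmT, hmN⟩ := exists_cj_le_normalizer hTCs hcon
    apply hmT
    apply cj_eq_of_le
    apply cj_sSup_le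
    intro D' hD'
    have h1 : MulAut.conj m • D' ≤ MM C := cj_le_of_mem hmM (Kpair C hCK D' hD'.1)
    have h2 : MulAut.conj m • D' ≤ Subgroup.normalizer (TC : Set G) :=
      (cj_le_cj (le_sSup hD')).trans hmN
    have h3 : MulAut.conj m • D' ∈ K :=
      hK5 _ (hD'.1.1.cj m) (le_inf ((le_inf h1 h2).trans h7c) h1)
    have h4 : MulAut.conj m • D' ≠ C := by
      intro he
      apply hCv.not_subnIn_MM
      have := (hsub D' hD').conj m
      rwa [cj_eq_self_of_mem hmM, he] at this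
    exact le_sSup (show MulAut.conj m • D' ∈ K \ {C} from ⟨h3, h4⟩)
  -- the final contradiction
  have h1 : YY C ≤ Subgroup.normalizer (C : Set G) :=
    (le_inf hCv.YY_le_MM (hCv.YY_le_MM.trans h7d)).trans hF7
  have h2 : NC C (YY C) ≤ C := NC_le_of_le_normalizer le_rfl h1
  rw [hCv.mem_YY.2.2] at h2
  exact hCv.YY_ne_self (le_antisymm h2 hCv.le_YY)

theorem good_aux : ∀ (n : ℕ) (A : Subgroup G), Nat.card G - Nat.card A = n → A ≠ ⊤ → NC A ⊤ = ⊤ →
    Good A := by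
  intro n
  induction n using Nat.strong_induction_on with
  | _ n ih =>
  intro A hn hA hnc
  by_contra hbad
  have IH : IHyp G (Nat.card A) := by
    intro B hk hB hncB
    have hle : Nat.card B ≤ Nat.card G := Subgroup.card_le_card_group B
    exact ih (Nat.card G - Nat.card B) (by omega) B rfl hB hncB
  have hb1 : ∃ Z : Subgroup G, (∀ X, Mem A X → X ≤ Z) ∧ Z ≠ ⊤ := by
    by_contra hcon
    apply hbad
    left
    intro Z hZ
    by_contra hZne
    exact hcon ⟨Z, hZ, hZne⟩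
  obtain ⟨Z, hZ, hZne⟩ := hb1
  obtain ⟨M₁, hM₁, hAM₁⟩ := exists_coatom_ge hA
  have hb2 : ∃ M₂ : Subgroup G, IsCoatom M₂ ∧ A ≤ M₂ ∧ M₂ ≠ M₁ := by
    by_contra hcon
    apply hbad
    right
    refine ⟨M₁, hM₁, hAM₁, ?_⟩
    intro M' hM' hAM'
    by_contra hne
    exact hcon ⟨M', hM', hAM', hne⟩
  obtain ⟨M₂, hM₂, hAM₂, hne⟩ := hb2
  exact no_vertex IH (A := A) ⟨rfl, hA, hnc, ⟨Z, hZne, hZ⟩, ⟨M₂, M₁, hM₂, hM₁, hne, hAM₂, hAM₁⟩⟩

/-- **Flavell's theorem** (generalised zipper lemma). -/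
theorem flavell (A : Subgroup G) (hnc : NC A ⊤ = ⊤) (hA : A ≠ ⊤) :
    sSup {H : Subgroup G | A ≤ H ∧ H ≠ ⊤ ∧ NC A H = H} = ⊤ ∨ ∃! M : Subgroup G, IsCoatom M ∧ A ≤ M := by
  rcases good_aux _ A rfl hA hnc with h | ⟨M, hM, hAM, hu⟩
  · left
    exact h _ fun X hX => le_sSup hX
  · right
    exact ⟨M, ⟨hM, hAM⟩, fun M' hM' => hu M' hM'.1 hM'.2⟩

end Main

end Cfsg.Agent.Lib.Helper23_Flavell
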