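import Mathlib

/-!
# Iterated commutators with an automorphism (reduction of S3927 to the generalised zipper lemma)

`Zipper` is the statement of S3947 at a fixed universe. From it we prove: if the conjugacy class
`C` of `a` generates the finite group `Γ`, then so does `φ^j(C)` for every `j`, where
`φ β = β a β⁻¹`.  Applied in the semidirect product `G ⋊ ⟨α⟩` this gives S3927.
-/

set_option autoImplicit false

namespace Cfsg.Agent.Lib.Helper73_IterComm

universe u

/-- The statement of the generalised zipper lemma (S3947) at universe `u`. -/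
def Zipper : Prop :=
  ∀ (G : Type u) [Group G] [Finite G] (A : Subgroup G),
    Subgroup.normalClosure (A : Set G) = ⊤ → A ≠ ⊤ →
    sSup {H : Subgroup G | A ≤ H ∧ H ≠ ⊤ ∧
        Subgroup.normalClosure ((A.subgroupOf H : Subgroup ↥H) : Set ↥H) = ⊤} = ⊤ ∨
      ∃! M : Subgroup G, IsCoatom M ∧ A ≤ M

section general

variable {Γ : Type u} [Group Γ]

/-- `phi a β = β a β⁻¹`. -/
def phi (a β : Γ) : Γ := β * a * β⁻¹

/-- The `j`-th iterate of `phi a` applied to the conjugacy class of `a`. -/
def Cset (a : Γ) (j : ℕ) : Set Γ := Set.range fun g : Γ => (phi a)^[j] (g * a * g⁻¹)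

theorem phi_self (a : Γ) : phi a a = a := by simp [phi]

theorem iter_phi_self (a : Γ) (j : ℕ) : (phi a)^[j] a = a :=
  Function.iterate_fixed (phi_self a) j

theorem mem_Cset_self (a : Γ) (j : ℕ) : a ∈ Cset a j :=
  ⟨1, by simp [iter_phi_self]⟩

theorem Cset_succ (a : Γ) (j : ℕ) : Cset a (j + 1) = phi a '' Cset a j := by
  ext x
  constructor
  · rintro ⟨g, rfl⟩
    exact ⟨_, ⟨g, rfl⟩, (Function.iterate_succ_apply' _ _ _).symm⟩
  · rintro ⟨_, ⟨g, rfl⟩, rfl⟩
    exact ⟨g, Function.iterate_succ_apply' _ _ _⟩

theorem closure_Cset_zero (a : Γ) :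
    Subgroup.closure (Cset a 0) = Subgroup.normalClosure ({a} : Set Γ) := by
  apply le_antisymm
  · rw [Subgroup.closure_le]
    rintro _ ⟨g, rfl⟩
    have ha : a ∈ Subgroup.normalClosure ({a} : Set Γ) :=
      Subgroup.subset_normalClosure (Set.mem_singleton a)
    exact Subgroup.normalClosure_normal.conj_mem a ha g
  · unfold Subgroup.normalClosure
    apply Subgroup.closure_mono
    intro x hx
    rw [Group.mem_conjugatesOfSet_iff] at hx
    obtain ⟨b, hb, hbx⟩ := hx
    rw [Set.mem_singleton_iff] at hb
    subst hb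
    rw [isConj_iff] at hbx
    obtain ⟨c, hc⟩ := hbx
    exact ⟨c, hc⟩

theorem coe_iter_phi {H : Subgroup Γ} (a' : H) (x : H) (k : ℕ) :
    (((phi a')^[k] x : H) : Γ) = (phi (a' : Γ))^[k] (x : Γ) := by
  induction k generalizing x with
  | zero => rfl
  | succ k ih =>
    simp only [Function.iterate_succ_apply]
    rw [ih]
    rfl

/-- Main general theorem: the iterated `phi`-images of the class of `a` still generate. -/
theorem closure_Cset (hz : Zipper.{u}) :
    ∀ (n : ℕ) (Γ : Type u) [Group Γ] [Finite Γ], Nat.card Γ = n → ∀ a : Γ,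
      Subgroup.normalClosure ({a} : Set Γ) = ⊤ → ∀ j, Subgroup.closure (Cset a j) = ⊤ := by
  intro n
  induction n using Nat.strong_induction_on with
  | _ n IH =>
  intro Γ _ _ hn a hnc j
  induction j with
  | zero => rw [closure_Cset_zero, hnc]
  | succ j ihj =>
    by_contra hY
    have haY : a ∈ Subgroup.closure (Cset a (j + 1)) :=
      Subgroup.subset_closure (mem_Cset_self a (j + 1))
    have hAY : Subgroup.zpowers a ≤ Subgroup.closure (Cset a (j + 1)) :=
      (Subgroup.zpowers_le).2 haY
    have hAtop : Subgroup.zpowers a ≠ ⊤ := fun h => hY (top_le_iff.1 (h ▸ hAY))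
    have hncA : Subgroup.normalClosure ((Subgroup.zpowers a : Subgroup Γ) : Set Γ) = ⊤ := by
      refine top_le_iff.1 (hnc ▸ Subgroup.normalClosure_mono ?_)
      intro x hx
      rw [Set.mem_singleton_iff] at hx
      subst hx
      exact Subgroup.mem_zpowers x
    rcases hz Γ (Subgroup.zpowers a) hncA hAtop with hsup | ⟨M, ⟨hMco, hAM⟩, hMuniq⟩
    · -- the proper self-generated overgroups of `a` generate `Γ`
      apply hY
      rw [← top_le_iff, ← hsup]
      apply sSup_le
      rintro H ⟨hAH, hHtop, hHnc⟩
      have haH : a ∈ H := hAH (Subgroup.mem_zpowers a)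
      have hcard : Nat.card H < n := by
        rw [← hn]
        exact lt_of_le_of_ne (Subgroup.card_le_card_group H)
          fun h => hHtop (Subgroup.eq_top_of_card_eq H h)
      have hnc' : Subgroup.normalClosure ({(⟨a, haH⟩ : H)} : Set H) = ⊤ := by
        rw [← top_le_iff, ← hHnc]
        apply Subgroup.normalClosure_le_normal
        intro x hx
        rw [SetLike.mem_coe, Subgroup.mem_subgroupOf, Subgroup.mem_zpowers_iff] at hx
        obtain ⟨m, hm⟩ := hx
        have hxe : x = (⟨a, haH⟩ : H) ^ m := Subtype.ext (by simp [← hm])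
        rw [hxe]
        exact Subgroup.zpow_mem _
          (Subgroup.subset_normalClosure (Set.mem_singleton (⟨a, haH⟩ : H))) m
      have hH := IH (Nat.card H) hcard H rfl ⟨a, haH⟩ hnc' (j + 1)
      have hHeq : H = (Subgroup.closure (Cset (⟨a, haH⟩ : H) (j + 1))).map H.subtype := by
        rw [hH, ← MonoidHom.range_eq_map, Subgroup.range_subtype]
      rw [hHeq, MonoidHom.map_closure]
      apply Subgroup.closure_mono
      rintro _ ⟨_, ⟨g, rfl⟩, rfl⟩
      refine ⟨(g : Γ), ?_⟩
      simp only [Subgroup.coe_subtype]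
      rw [coe_iter_phi]
      rfl
    · -- `a` lies in a unique maximal subgroup `M`
      obtain ⟨M', hM'co, hYM'⟩ : ∃ M', IsCoatom M' ∧ Subgroup.closure (Cset a (j + 1)) ≤ M' := by
        rcases eq_top_or_exists_le_coatom (Subgroup.closure (Cset a (j + 1))) with h | h
        · exact absurd h hY
        · exact h
      have hM'M : M' = M := hMuniq M' ⟨hM'co, hAY.trans hYM'⟩
      rw [hM'M] at hYM'
      have hsub : Cset a j ⊆ (M : Set Γ) := by
        intro β hβ
        have h1 : phi a β ∈ M :=
          hYM' (Subgroup.subset_closure (by rw [Cset_succ]; exact ⟨β, hβ, rfl⟩))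
        have hconj : M.map (MulAut.conj β⁻¹).toMonoidHom = M := by
          apply hMuniq
          refine ⟨?_, ?_⟩
          · exact ((MulEquiv.mapSubgroup (MulAut.conj β⁻¹)).isCoatom_iff M).2 hMco
          · rw [Subgroup.zpowers_le]
            refine ⟨phi a β, h1, ?_⟩
            simp [phi, mul_assoc]
        have hnorm : β⁻¹ ∈ Subgroup.normalizer (M : Set Γ) := by
          rw [Subgroup.mem_normalizer_iff]
          intro h
          constructor
          · intro hh
            have : β⁻¹ * h * β⁻¹⁻¹ ∈ M.map (MulAut.conj β⁻¹).toMonoidHom :=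
              ⟨h, hh, by simp⟩
            rwa [hconj] at this
          · intro hh
            rw [← hconj] at hh
            obtain ⟨m, hm, hmeq⟩ := hh
            have hmh : m = h := by
              have h2 : β⁻¹ * m * β⁻¹⁻¹ = β⁻¹ * h * β⁻¹⁻¹ := by
                simpa [MulAut.conj_apply] using hmeq
              exact mul_left_cancel (mul_right_cancel h2)
            exact hmh ▸ hm
        rcases hMco.le_iff.1 (Subgroup.le_normalizer (H := M)) with htop | heq
        · exfalso
          have hMn : M.Normal := Subgroup.normalizer_eq_top_iff.1 htop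
          have : (⊤ : Subgroup Γ) ≤ M := by
            rw [← hncA]
            exact Subgroup.normalClosure_le_normal hAM
          exact hMco.1 (top_le_iff.1 this)
        · rw [heq] at hnorm
          exact (Subgroup.inv_mem_iff M).1 hnorm
      have : (⊤ : Subgroup Γ) ≤ M := by
        rw [← ihj]
        exact (Subgroup.closure_le M).2 hsub
      exact hMco.1 (top_le_iff.1 this)

end general

section semidirect

open SemidirectProduct

variable {G : Type u} [Group G] (α : MulAut G)

/-- `f c = c α(c)⁻¹`, the commutator map of S3927. -/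
def comm (c : G) : G := c * (α c)⁻¹

/-- The semidirect product `G ⋊ ⟨α⟩`. -/
abbrev Gam : Type u := G ⋊[(Subgroup.zpowers α).subtype] (Subgroup.zpowers α)

/-- The generator of the complement. -/
def aEl : Gam α := inr ⟨α, Subgroup.mem_zpowers α⟩

/-- `psi c = c · a`. -/
def psi (c : G) : Gam α := inl c * aEl α

theorem aEl_conj (c : G) : aEl α * inl c * (aEl α)⁻¹ = inl (α c) := by
  have h := inl_aut (φ := (Subgroup.zpowers α).subtype) ⟨α, Subgroup.mem_zpowers α⟩ c
  simp only [Subgroup.coe_subtype] at h
  rw [h, aEl, map_inv]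

theorem inl_conj_aEl (c : G) : inl c * aEl α * (inl c : Gam α)⁻¹ = psi α (comm α c) := by
  have h1 : aEl α * (inl c : Gam α)⁻¹ * (aEl α)⁻¹ = inl (α c)⁻¹ := by
    rw [← map_inv, aEl_conj, map_inv]
  have h2 : aEl α * (inl c : Gam α)⁻¹ = inl (α c)⁻¹ * aEl α := by
    rw [← h1]; group
  rw [psi, comm, map_mul, mul_assoc, h2, mul_assoc]

theorem phi_psi (c : G) : phi (aEl α) (psi α c) = psi α (comm α c) := by
  rw [← inl_conj_aEl]
  simp only [phi, psi]
  group

theorem iter_phi_psi (c : G) (j : ℕ) :
    (phi (aEl α))^[j] (psi α c) = psi α ((comm α)^[j] c) := by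
  have hs : Function.Semiconj (psi α) (comm α) (phi (aEl α)) := fun c => (phi_psi α c).symm
  exact ((hs.iterate_right j) c).symm

theorem inr_commute_aEl (r : Subgroup.zpowers α) :
    (inr r : Gam α) * aEl α * (inr r)⁻¹ = aEl α := by
  have hc : r * ⟨α, Subgroup.mem_zpowers α⟩ = ⟨α, Subgroup.mem_zpowers α⟩ * r := by
    obtain ⟨r, m, rfl⟩ := r
    apply Subtype.ext
    simp only [Subgroup.coe_mul]
    exact (Commute.zpow_left (Commute.refl α) m).eq
  rw [aEl, ← map_mul, hc, map_mul]
  group

theorem conj_aEl (x : Gam α) : x * aEl α * x⁻¹ = psi α (comm α x.left) := by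
  rw [← inl_conj_aEl]
  conv_lhs => rw [← inl_left_mul_inr_right x]
  have h := inr_commute_aEl α x.right
  calc inl x.left * inr x.right * aEl α * (inl x.left * inr x.right)⁻¹
      = inl x.left * (inr x.right * aEl α * (inr x.right)⁻¹) * (inl x.left)⁻¹ := by group
    _ = inl x.left * aEl α * (inl x.left)⁻¹ := by rw [h]

theorem mem_Cset_iff (j : ℕ) (y : Gam α) :
    y ∈ Cset (aEl α) j ↔ ∃ c : G, y = psi α ((comm α)^[j + 1] c) := by
  constructor
  · rintro ⟨x, rfl⟩
    refine ⟨x.left, ?_⟩
    show (phi (aEl α))^[j] (x * aEl α * x⁻¹) = _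
    rw [conj_aEl, iter_phi_psi, Function.iterate_succ_apply]
  · rintro ⟨c, rfl⟩
    refine ⟨inl c, ?_⟩
    show (phi (aEl α))^[j] (inl c * aEl α * (inl c)⁻¹) = _
    rw [inl_conj_aEl, iter_phi_psi, Function.iterate_succ_apply]

theorem comm_semiconj (β : MulAut G) (hβ : Commute β α) (c : G) :
    comm α (β c) = β (comm α c) := by
  have h : α (β c) = β (α c) := by
    have := congrArg (fun e : MulAut G => e c) hβ.eq
    simpa [MulAut.mul_apply] using this.symm
  simp [comm, h]

theorem iter_comm_semiconj (β : MulAut G) (hβ : Commute β α) (k : ℕ) (c : G) :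
    (comm α)^[k] (β c) = β ((comm α)^[k] c) := by
  have hs : Function.Semiconj (⇑β) (comm α) (comm α) := fun c => (comm_semiconj α β hβ c).symm
  exact ((hs.iterate_right k) c).symm

/-- The closure of the `k`-fold commutators is invariant under the powers of `α`. -/
theorem closure_invariant (k : ℕ) (r : Subgroup.zpowers α) (x : G)
    (hx : x ∈ Subgroup.closure (Set.range ((comm α)^[k]))) :
    (r : MulAut G) x ∈ Subgroup.closure (Set.range ((comm α)^[k])) := by
  have hr : Commute (r : MulAut G) α := by
    obtain ⟨r, m, rfl⟩ := r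
    exact Commute.zpow_left (Commute.refl α) m
  have hmap : (Subgroup.closure (Set.range ((comm α)^[k]))).map (r : MulAut G).toMonoidHom
      ≤ Subgroup.closure (Set.range ((comm α)^[k])) := by
    rw [MonoidHom.map_closure]
    apply Subgroup.closure_mono
    rintro _ ⟨_, ⟨c, rfl⟩, rfl⟩
    exact ⟨(r : MulAut G) c, iter_comm_semiconj α r hr k c⟩
  exact hmap ⟨x, hx, rfl⟩

/-- The subgroup of `G ⋊ ⟨α⟩` of elements whose `G`-component lies in the closure of the
`k`-fold commutators. -/
def leftSub (k : ℕ) : Subgroup (Gam α) where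
  carrier := {z | z.left ∈ Subgroup.closure (Set.range ((comm α)^[k]))}
  one_mem' := by simp
  mul_mem' := by
    intro z w hz hw
    simp only [Set.mem_ofPred_eq, mul_left] at *
    exact Subgroup.mul_mem _ hz (closure_invariant α k z.right w.left hw)
  inv_mem' := by
    intro z hz
    simp only [Set.mem_ofPred_eq, inv_left] at *
    exact closure_invariant α k z.right⁻¹ z.left⁻¹ (Subgroup.inv_mem _ hz)

theorem normalClosure_aEl
    (hG : Subgroup.closure (Set.range (comm α)) = ⊤) :
    Subgroup.normalClosure ({aEl α} : Set (Gam α)) = ⊤ := by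
  rw [eq_top_iff]
  intro x _
  have ha : aEl α ∈ Subgroup.normalClosure ({aEl α} : Set (Gam α)) :=
    Subgroup.subset_normalClosure (Set.mem_singleton _)
  have hinl : ∀ g : G, (inl g : Gam α) ∈ Subgroup.normalClosure ({aEl α} : Set (Gam α)) := by
    have hle : Subgroup.closure (Set.range (comm α)) ≤
        (Subgroup.normalClosure ({aEl α} : Set (Gam α))).comap inl := by
      rw [Subgroup.closure_le]
      rintro _ ⟨g, rfl⟩
      show (inl (comm α g) : Gam α) ∈ Subgroup.normalClosure ({aEl α} : Set (Gam α))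
      have h1 : psi α (comm α g) ∈ Subgroup.normalClosure ({aEl α} : Set (Gam α)) := by
        rw [← inl_conj_aEl]
        exact Subgroup.normalClosure_normal.conj_mem _ ha _
      have h2 : (inl (comm α g) : Gam α) = psi α (comm α g) * (aEl α)⁻¹ := by
        simp [psi]
      rw [h2]
      exact Subgroup.mul_mem _ h1 (Subgroup.inv_mem _ ha)
    intro g
    have : g ∈ Subgroup.closure (Set.range (comm α)) := by rw [hG]; trivial
    exact hle this
  have hinr : ∀ r : Subgroup.zpowers α,
      (inr r : Gam α) ∈ Subgroup.normalClosure ({aEl α} : Set (Gam α)) := by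
    rintro ⟨r, m, rfl⟩
    have : (inr (⟨α ^ m, ⟨m, rfl⟩⟩ : Subgroup.zpowers α) : Gam α) = aEl α ^ m := by
      rw [aEl, ← map_zpow]
      congr 1
    rw [this]
    exact Subgroup.zpow_mem _ ha m
  rw [← inl_left_mul_inr_right x]
  exact Subgroup.mul_mem _ (hinl _) (hinr _)

/-- S3927 from the generalised zipper lemma. -/
theorem iterated_comm_generate [Finite G] (hz : Zipper.{u})
    (hG : Subgroup.closure (Set.range (comm α)) = ⊤) (k : ℕ) (hk : 1 ≤ k) :
    Subgroup.closure (Set.range ((comm α)^[k])) = ⊤ := by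
  obtain ⟨j, rfl⟩ : ∃ j, k = j + 1 := ⟨k - 1, by omega⟩
  have : Finite (Gam α) := Finite.of_equiv _ (equivProd (φ := (Subgroup.zpowers α).subtype)).symm
  have hT := closure_Cset hz (Nat.card (Gam α)) (Gam α) rfl (aEl α) (normalClosure_aEl α hG) j
  have hle : Subgroup.closure (Cset (aEl α) j) ≤ leftSub α (j + 1) := by
    rw [Subgroup.closure_le]
    intro y hy
    obtain ⟨c, rfl⟩ := (mem_Cset_iff α j y).1 hy
    show (psi α ((comm α)^[j + 1] c)).left ∈ Subgroup.closure (Set.range ((comm α)^[j + 1]))
    have : (psi α ((comm α)^[j + 1] c)).left = (comm α)^[j + 1] c := by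
      simp [psi, aEl]
    rw [this]
    exact Subgroup.subset_closure ⟨c, rfl⟩
  rw [hT] at hle
  rw [eq_top_iff]
  intro g _
  have : (inl g : Gam α) ∈ leftSub α (j + 1) := hle trivial
  exact this

end semidirect

end Cfsg.Agent.Lib.Helper73_IterComm
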