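import Mathlib
import Cfsg.Agent.S3947
import Cfsg.Agent.Lib.Helper73_IterComm

/-!
# Groups generated by a class of involutions: odd-order inverted elements (part A)

`Γ` is a finite group, `a : Γ` with `a * a = 1` and `normalClosure {a} = ⊤` (`Hyp a`).
`KS a` is the set of odd-order elements inverted by `a`.  From the generalised zipper lemma
(S3947, via helper73's `closure_Cset`) we get `Γ = ⟨x * a | x ∈ KS a⟩`.  This file contains the
basic consequences and the behaviour under quotients.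
-/

set_option autoImplicit false

namespace Cfsg.Agent.Lib.Helper23_InvBoundA

open Subgroup

universe u v

variable {Γ : Type u} [Group Γ]

/-- Odd-order elements inverted by `a`. -/
def KS (a : Γ) : Set Γ := {x | Odd (orderOf x) ∧ a * x * a⁻¹ = x⁻¹}

/-- Standing hypotheses: `a` squares to one and its conjugates generate. -/
structure Hyp (a : Γ) : Prop where
  sq : a * a = 1
  gen : Subgroup.normalClosure ({a} : Set Γ) = ⊤

theorem one_mem_KS (a : Γ) : (1 : Γ) ∈ KS a := by
  refine ⟨by simp, by simp⟩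

theorem inv_eq_self_of_sq {a : Γ} (h : a * a = 1) : a⁻¹ = a :=
  inv_eq_of_mul_eq_one_left h

theorem KS_pow {a x : Γ} (hx : x ∈ KS a) (k : ℕ) : x ^ k ∈ KS a := by
  refine ⟨Odd.of_dvd_nat hx.1 (orderOf_pow_dvd k), ?_⟩
  rw [← conj_pow, hx.2, inv_pow]

theorem KS_inv {a x : Γ} (hx : x ∈ KS a) : x⁻¹ ∈ KS a := by
  refine ⟨by rw [orderOf_inv]; exact hx.1, ?_⟩
  rw [inv_inv]
  have h := hx.2
  have : a * x⁻¹ * a⁻¹ = (a * x * a⁻¹)⁻¹ := by group
  rw [this, h, inv_inv]

/-- Conjugating by an element that commutes with `a` preserves `KS a`. -/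
theorem KS_conj {a x g : Γ} (hx : x ∈ KS a) (hg : g * a = a * g) : g * x * g⁻¹ ∈ KS a := by
  refine ⟨?_, ?_⟩
  · have : orderOf (g * x * g⁻¹) = orderOf x := by
      have := orderOf_injective (MulAut.conj g).toMonoidHom (MulAut.conj g).injective x
      simpa [MulAut.conj_apply] using this
    rw [this]; exact hx.1
  · have h1 : a * (g * x * g⁻¹) * a⁻¹ = g * (a * x * a⁻¹) * g⁻¹ := by
      have hg' : a * g = g * a := hg.symm
      have hg2 : g⁻¹ * a⁻¹ = a⁻¹ * g⁻¹ := by
        rw [← mul_inv_rev, ← mul_inv_rev, hg']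
      calc a * (g * x * g⁻¹) * a⁻¹ = (a * g) * x * (g⁻¹ * a⁻¹) := by group
        _ = (g * a) * x * (a⁻¹ * g⁻¹) := by rw [hg', hg2]
        _ = g * (a * x * a⁻¹) * g⁻¹ := by group
    rw [h1, hx.2]; group

/-- Raising to the power `2 ^ |Γ|` kills the `2`-part of the order. -/
theorem odd_orderOf_pow_two_pow_card [Finite Γ] (y : Γ) :
    Odd (orderOf (y ^ 2 ^ Nat.card Γ)) := by
  have ho : orderOf y ≠ 0 := (orderOf_pos y).ne'
  obtain ⟨v, r, hr, hvr⟩ := Nat.exists_eq_two_pow_mul_odd ho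
  have hv : v ≤ Nat.card Γ := by
    have h1 : 2 ^ v ≤ orderOf y := by
      rw [hvr]; exact Nat.le_mul_of_pos_right _ hr.pos
    have h2 : orderOf y ≤ Nat.card Γ := orderOf_le_card
    have h3 : Nat.card Γ < 2 ^ Nat.card Γ := Nat.lt_two_pow_self
    have h4 : 2 ^ v < 2 ^ Nat.card Γ := lt_of_le_of_lt (h1.trans h2) h3
    exact ((Nat.pow_lt_pow_iff_right (by norm_num : 1 < 2)).1 h4).le
  have h5 : (y ^ 2 ^ Nat.card Γ) ^ r = 1 := by
    rw [← pow_mul]
    have : 2 ^ Nat.card Γ * r = orderOf y * 2 ^ (Nat.card Γ - v) := by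
      rw [hvr]
      have : 2 ^ Nat.card Γ = 2 ^ v * 2 ^ (Nat.card Γ - v) := by
        rw [← pow_add]; congr 1; omega
      rw [this]; ring
    rw [this, pow_mul, pow_orderOf_eq_one, one_pow]
  exact Odd.of_dvd_nat hr (orderOf_dvd_of_pow_eq_one h5)

section P1

open Cfsg.Agent.Lib.Helper73_IterComm

theorem phi_sq {a e : Γ} (ha : a * a = 1) (he : e * e = 1) :
    phi a e * phi a e = 1 ∧ phi a e * a = (e * a) ^ 2 := by
  have hei : e⁻¹ = e := inv_eq_self_of_sq he
  refine ⟨?_, ?_⟩
  · simp only [phi]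
    calc e * a * e⁻¹ * (e * a * e⁻¹) = e * (a * a) * e⁻¹ := by group
      _ = 1 := by rw [ha]; group
  · simp only [phi]
    rw [hei, pow_two]; group

theorem iter_phi_sq {a d : Γ} (ha : a * a = 1) (hd : d * d = 1) (j : ℕ) :
    (phi a)^[j] d * (phi a)^[j] d = 1 ∧ (phi a)^[j] d * a = (d * a) ^ 2 ^ j := by
  induction j with
  | zero => simp [hd]
  | succ j ih =>
    rw [Function.iterate_succ_apply']
    obtain ⟨h1, h2⟩ := phi_sq ha ih.1
    refine ⟨h1, ?_⟩
    rw [h2, ih.2, ← pow_mul, pow_succ]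

/-- **Key generation statement** (from S3947/S3927): the group is generated by the
elements `x * a`, `x` of odd order inverted by `a`. -/
theorem closure_KS_mul [Finite Γ] {a : Γ} (h : Hyp a) :
    Subgroup.closure ((fun x => x * a) '' KS a) = ⊤ := by
  have hz : Zipper.{u} := fun G _ _ A hA hAG => Cfsg.Agent.S3947.result A hA hAG
  have hc := closure_Cset hz (Nat.card Γ) Γ rfl a h.gen (Nat.card Γ)
  rw [eq_top_iff, ← hc]
  apply Subgroup.closure_mono
  rintro _ ⟨g, rfl⟩
  have hai : a⁻¹ = a := inv_eq_self_of_sq h.sq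
  have hd : (g * a * g⁻¹) * (g * a * g⁻¹) = 1 := by
    calc (g * a * g⁻¹) * (g * a * g⁻¹) = g * (a * a) * g⁻¹ := by group
      _ = 1 := by rw [h.sq]; group
  obtain ⟨h1, h2⟩ := iter_phi_sq h.sq hd (Nat.card Γ)
  set e := (phi a)^[Nat.card Γ] (g * a * g⁻¹) with he
  have hei : e⁻¹ = e := inv_eq_self_of_sq h1
  refine ⟨e * a, ⟨?_, ?_⟩, ?_⟩
  · rw [h2]; exact odd_orderOf_pow_two_pow_card _
  · rw [mul_inv_rev, hai, hei]
    calc a * (e * a) * a = a * e * (a * a) := by group
      _ = a * e := by rw [h.sq, mul_one]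
  · show e * a * a = e
    rw [mul_assoc, h.sq, mul_one]

end P1

theorem closure_KS_union [Finite Γ] {a : Γ} (h : Hyp a) :
    Subgroup.closure (KS a ∪ {a}) = ⊤ := by
  rw [eq_top_iff, ← closure_KS_mul h, Subgroup.closure_le]
  rintro _ ⟨x, hx, rfl⟩
  exact Subgroup.mul_mem _ (Subgroup.subset_closure (Or.inl hx))
    (Subgroup.subset_closure (Or.inr rfl))

/-- An element commuting with `KS a` and with `a` is central. -/
theorem mem_center_of_comm [Finite Γ] {a : Γ} (h : Hyp a) {g : Γ}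
    (hK : ∀ x ∈ KS a, g * x = x * g) (ha : g * a = a * g) : g ∈ center Γ := by
  have hle : Subgroup.closure (KS a ∪ {a}) ≤ Subgroup.centralizer {g} := by
    rw [Subgroup.closure_le]
    rintro y (hy | hy)
    · rw [SetLike.mem_coe, Subgroup.mem_centralizer_iff]
      intro z hz
      rw [Set.mem_singleton_iff] at hz
      subst hz
      exact hK y hy
    · rw [Set.mem_singleton_iff] at hy
      subst hy
      rw [SetLike.mem_coe, Subgroup.mem_centralizer_iff]
      intro z hz
      rw [Set.mem_singleton_iff] at hz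
      subst hz
      exact ha
  rw [closure_KS_union h] at hle
  rw [Subgroup.mem_center_iff]
  intro y
  have := hle (Subgroup.mem_top y)
  rw [Subgroup.mem_centralizer_iff] at this
  exact (this g rfl).symm

/-- `a` normalises `closure (KS a)`. -/
theorem conj_mem_closure_KS {a : Γ} {n : Γ} (hn : n ∈ Subgroup.closure (KS a)) :
    a * n * a⁻¹ ∈ Subgroup.closure (KS a) := by
  have hle : Subgroup.closure (KS a) ≤
      (Subgroup.closure (KS a)).comap (MulAut.conj a).toMonoidHom := by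
    rw [Subgroup.closure_le]
    intro x hx
    show (MulAut.conj a) x ∈ Subgroup.closure (KS a)
    rw [MulAut.conj_apply, hx.2]
    exact Subgroup.inv_mem _ (Subgroup.subset_closure hx)
  have := hle hn
  simpa [MulAut.conj_apply] using this

theorem G0_normal [Finite Γ] {a : Γ} (h : Hyp a) : (Subgroup.closure (KS a)).Normal := by
  rw [← Subgroup.normalizer_eq_top_iff, eq_top_iff, ← closure_KS_union h, Subgroup.closure_le]
  have hai : a⁻¹ = a := inv_eq_self_of_sq h.sq
  rintro y (hy | hy)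
  · exact Subgroup.le_normalizer (Subgroup.subset_closure hy)
  · rw [Set.mem_singleton_iff] at hy
    subst hy
    rw [SetLike.mem_coe, Subgroup.mem_normalizer_iff]
    intro n
    constructor
    · exact conj_mem_closure_KS
    · intro hn
      have := conj_mem_closure_KS hn
      have h2 : y * (y * n * y⁻¹) * y⁻¹ = n := by
        rw [hai]
        calc y * (y * n * y) * y = (y * y) * n * (y * y) := by group
          _ = n := by rw [h.sq]; group
      rwa [h2] at this

theorem G0_index_le [Finite Γ] {a : Γ} (h : Hyp a) : (Subgroup.closure (KS a)).index ≤ 2 := by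
  have := G0_normal h
  set H := Subgroup.closure (KS a) with hH
  have htop : (⊤ : Subgroup (Γ ⧸ H)) ≤ Subgroup.zpowers (QuotientGroup.mk' H a) := by
    have h1 : (Subgroup.closure (KS a ∪ {a})).map (QuotientGroup.mk' H) = ⊤ := by
      rw [closure_KS_union h]
      exact Subgroup.map_top_of_surjective _ (QuotientGroup.mk'_surjective H)
    rw [← h1, MonoidHom.map_closure, Subgroup.closure_le]
    rintro _ ⟨y, (hy | hy), rfl⟩
    · have : QuotientGroup.mk' H y = 1 := by
        rw [QuotientGroup.mk'_apply, QuotientGroup.eq_one_iff]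
        exact Subgroup.subset_closure hy
      rw [this]; exact Subgroup.one_mem _
    · rw [Set.mem_singleton_iff] at hy
      subst hy
      exact Subgroup.mem_zpowers _
  have hcard : Nat.card (Γ ⧸ H) = Nat.card (Subgroup.zpowers (QuotientGroup.mk' H a)) := by
    rw [← Subgroup.card_top (G := Γ ⧸ H)]
    exact le_antisymm (Subgroup.card_le_of_le htop) (Subgroup.card_le_of_le le_top)
  rw [Subgroup.index_eq_card, hcard, Nat.card_zpowers]
  apply Nat.le_of_dvd (by norm_num)
  apply orderOf_dvd_of_pow_eq_one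
  rw [pow_two, ← map_mul, h.sq, map_one]

section quotient

variable {Γ' : Type v} [Group Γ']

theorem Hyp.map {a : Γ} (h : Hyp a) (φ : Γ →* Γ') (hφ : Function.Surjective φ) : Hyp (φ a) := by
  refine ⟨by rw [← map_mul, h.sq, map_one], ?_⟩
  have := Subgroup.map_normalClosure ({a} : Set Γ) φ hφ
  rw [Set.image_singleton] at this
  rw [← this, h.gen]
  exact Subgroup.map_top_of_surjective _ hφ

/-- Every odd-order element of the quotient inverted by the image of `a` lifts to such an
element. -/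
theorem KS_subset_image [Finite Γ] {a : Γ} (h : Hyp a) (φ : Γ →* Γ')
    (hφ : Function.Surjective φ) : KS (φ a) ⊆ φ '' KS a := by
  intro y hy
  have hai : a⁻¹ = a := inv_eq_self_of_sq h.sq
  obtain ⟨r, hr⟩ := hy.1
  -- a square root of `y`
  set s := y ^ (r + 1) with hs
  have hs2 : s * s = y := by
    rw [hs, ← pow_add]
    have : r + 1 + (r + 1) = orderOf y + 1 := by omega
    rw [this, pow_succ, pow_orderOf_eq_one, one_mul]
  have hsK : s ∈ KS (φ a) := KS_pow hy _
  obtain ⟨g₁, hg₁⟩ := hφ s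
  set x₀ := g₁ * a * g₁⁻¹ * a⁻¹ with hx₀
  have hφx₀ : φ x₀ = y := by
    rw [hx₀, map_mul, map_mul, map_mul, map_inv, map_inv, hg₁]
    have h1 : s * φ a * s⁻¹ * (φ a)⁻¹ = s * (φ a * s * (φ a)⁻¹)⁻¹ := by group
    rw [h1, hsK.2, inv_inv, hs2]
  have hx₀inv : a * x₀ * a⁻¹ = x₀⁻¹ := by
    rw [hx₀, hai]
    have : (g₁ * a * g₁⁻¹ * a)⁻¹ = a⁻¹ * g₁ * a⁻¹ * g₁⁻¹ := by group
    rw [this, hai]
    calc a * (g₁ * a * g₁⁻¹ * a) * a = a * g₁ * a * g₁⁻¹ * (a * a) := by group
      _ = a * g₁ * a * g₁⁻¹ := by rw [h.sq, mul_one]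
  -- kill the 2-part
  have hcop : (2 ^ Nat.card Γ).Coprime (orderOf y) :=
    Nat.Coprime.pow_left _ (Nat.coprime_two_left.2 hy.1)
  obtain ⟨u, hu⟩ := exists_pow_eq_self_of_coprime hcop
  refine ⟨(x₀ ^ 2 ^ Nat.card Γ) ^ u, ⟨?_, ?_⟩, ?_⟩
  · exact Odd.of_dvd_nat (odd_orderOf_pow_two_pow_card x₀) (orderOf_pow_dvd u)
  · rw [← pow_mul, ← conj_pow, hx₀inv, inv_pow]
  · rw [map_pow, map_pow, hφx₀, hu]

theorem ncard_KS_map_le [Finite Γ] {a : Γ} (h : Hyp a) (φ : Γ →* Γ')
    (hφ : Function.Surjective φ) : (KS (φ a)).ncard ≤ (KS a).ncard :=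
  (Set.ncard_le_ncard (KS_subset_image h φ hφ) (Set.toFinite _)).trans
    (Set.ncard_image_le (Set.toFinite _))

theorem ncard_KS_map_lt [Finite Γ] {a : Γ} (h : Hyp a) (φ : Γ →* Γ')
    (hφ : Function.Surjective φ) {x x' : Γ} (hx : x ∈ KS a) (hx' : x' ∈ KS a) (hne : x ≠ x')
    (heq : φ x = φ x') : (KS (φ a)).ncard < (KS a).ncard := by
  refine lt_of_le_of_lt (Set.ncard_le_ncard (KS_subset_image h φ hφ) (Set.toFinite _)) ?_
  refine lt_of_le_of_ne (Set.ncard_image_le (Set.toFinite _)) ?_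
  intro hcard
  have hinj := (Set.ncard_image_iff (Set.toFinite (KS a))).1 hcard
  exact hne (hinj hx hx' heq)

end quotient

end Cfsg.Agent.Lib.Helper23_InvBoundA
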