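import Mathlib
import Cfsg.Agent.Lib.Helper23_InvBoundA

/-!
# Groups generated by a class of involutions: odd-order inverted elements (part B)

Counting lemmas and the analysis of an abelian minimal normal subgroup.
-/

set_option autoImplicit false

namespace Cfsg.Agent.Lib.Helper23_InvBoundB

open Subgroup Cfsg.Agent.Lib.Helper23_InvBoundA

universe u

variable {Γ : Type u} [Group Γ]

/-- The commutator map `n ↦ [n, a]`. -/
def cm (a n : Γ) : Γ := n * a * n⁻¹ * a⁻¹

theorem cm_inv {a : Γ} (ha : a * a = 1) (n : Γ) : a * cm a n * a⁻¹ = (cm a n)⁻¹ := by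
  have hai : a⁻¹ = a := inv_eq_self_of_sq ha
  simp only [cm]
  have : (n * a * n⁻¹ * a⁻¹)⁻¹ = a * n * a⁻¹ * n⁻¹ := by group
  rw [this, hai]
  calc a * (n * a * n⁻¹ * a) * a = a * n * a * n⁻¹ * (a * a) := by group
    _ = a * n * a * n⁻¹ := by rw [ha, mul_one]

theorem cm_mem {a n : Γ} {N : Subgroup Γ} [hN : N.Normal] (hn : n ∈ N) : cm a n ∈ N := by
  have h1 : a * n⁻¹ * a⁻¹ ∈ N := hN.conj_mem _ (N.inv_mem hn) a
  have : cm a n = n * (a * n⁻¹ * a⁻¹) := by simp only [cm]; group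
  rw [this]
  exact N.mul_mem hn h1

theorem cm_eq_one_iff {a n : Γ} : cm a n = 1 ↔ n * a = a * n := by
  simp only [cm]
  constructor
  · intro h
    have : n * a = (n * a * n⁻¹ * a⁻¹) * (a * n) := by group
    rw [this, h, one_mul]
  · intro h
    calc n * a * n⁻¹ * a⁻¹ = (n * a) * n⁻¹ * a⁻¹ := by group
      _ = (a * n) * n⁻¹ * a⁻¹ := by rw [h]
      _ = 1 := by group

theorem cm_eq_cm_iff {a n n' : Γ} : cm a n = cm a n' ↔ (n⁻¹ * n') * a = a * (n⁻¹ * n') := by
  simp only [cm]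
  constructor
  · intro h
    have h1 : n * a * n⁻¹ = n' * a * n'⁻¹ := by
      have := congrArg (· * a) h
      simpa using this
    calc n⁻¹ * n' * a = n⁻¹ * (n' * a * n'⁻¹) * n' := by group
      _ = n⁻¹ * (n * a * n⁻¹) * n' := by rw [h1]
      _ = a * (n⁻¹ * n') := by group
  · intro h
    have h1 : n' * a * n'⁻¹ = n * a * n⁻¹ := by
      calc n' * a * n'⁻¹ = n * ((n⁻¹ * n') * a) * n'⁻¹ := by group
        _ = n * (a * (n⁻¹ * n')) * n'⁻¹ := by rw [h]
        _ = n * a * n⁻¹ := by group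
    rw [h1]

/-- A normal subgroup centralised by `a` is central. -/
theorem le_center_of_comm {a : Γ} (h : Hyp a) {N : Subgroup Γ} [hN : N.Normal]
    (hc : ∀ n ∈ N, n * a = a * n) : N ≤ center Γ := by
  have hnorm : (Subgroup.centralizer (N : Set Γ)).Normal := inferInstance
  have ha : ({a} : Set Γ) ⊆ Subgroup.centralizer (N : Set Γ) := by
    intro y hy
    rw [Set.mem_singleton_iff] at hy
    subst hy
    rw [SetLike.mem_coe, Subgroup.mem_centralizer_iff]
    intro n hn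
    exact hc n hn
  have hle := Subgroup.normalClosure_le_normal ha
  rw [h.gen] at hle
  intro n hn
  rw [Subgroup.mem_center_iff]
  intro g
  have := hle (Subgroup.mem_top g)
  rw [Subgroup.mem_centralizer_iff] at this
  exact (this n hn).symm

/-- The centraliser of `a` in a normal subgroup meeting the centre trivially acts faithfully
on `KS a`, hence has order at most `m ^ m`. -/
theorem card_fix_le [Finite Γ] {a : Γ} (h : Hyp a) (N : Subgroup Γ)
    (hZ : ∀ g ∈ N, g ∈ center Γ → g = 1) :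
    Nat.card (N ⊓ Subgroup.centralizer {a} : Subgroup Γ) ≤ (KS a).ncard ^ (KS a).ncard := by
  classical
  have hcomm : ∀ g : (N ⊓ Subgroup.centralizer {a} : Subgroup Γ), (g : Γ) * a = a * g := by
    intro g
    have := (Subgroup.mem_inf.1 g.2).2
    rw [Subgroup.mem_centralizer_iff] at this
    exact (this a rfl).symm
  let f : (N ⊓ Subgroup.centralizer {a} : Subgroup Γ) → (KS a → KS a) :=
    fun g x => ⟨(g : Γ) * x * (g : Γ)⁻¹, KS_conj x.2 (hcomm g)⟩
  have hf : Function.Injective f := by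
    intro g g' hgg
    have h1 : ∀ x ∈ KS a, ((g' : Γ)⁻¹ * g) * x = x * ((g' : Γ)⁻¹ * g) := by
      intro x hx
      have := congrArg (fun F => ((F ⟨x, hx⟩ : KS a) : Γ)) hgg
      simp only [f] at this
      calc ((g' : Γ)⁻¹ * g) * x = (g' : Γ)⁻¹ * ((g : Γ) * x * (g : Γ)⁻¹) * g := by group
        _ = (g' : Γ)⁻¹ * ((g' : Γ) * x * (g' : Γ)⁻¹) * g := by rw [this]
        _ = x * ((g' : Γ)⁻¹ * g) := by group
    have h2 : ((g' : Γ)⁻¹ * g) * a = a * ((g' : Γ)⁻¹ * g) := by
      have e1 := hcomm g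
      have e2 := hcomm g'
      have e3 : (g' : Γ)⁻¹ * a = a * (g' : Γ)⁻¹ := by
        calc (g' : Γ)⁻¹ * a = (g' : Γ)⁻¹ * (a * g') * (g' : Γ)⁻¹ := by group
          _ = (g' : Γ)⁻¹ * (g' * a) * (g' : Γ)⁻¹ := by rw [e2]
          _ = a * (g' : Γ)⁻¹ := by group
      calc ((g' : Γ)⁻¹ * g) * a = (g' : Γ)⁻¹ * (g * a) := by group
        _ = (g' : Γ)⁻¹ * (a * g) := by rw [e1]
        _ = ((g' : Γ)⁻¹ * a) * g := by group
        _ = (a * (g' : Γ)⁻¹) * g := by rw [e3]
        _ = a * ((g' : Γ)⁻¹ * g) := by group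
    have h3 : (g' : Γ)⁻¹ * g ∈ N :=
      N.mul_mem (N.inv_mem (Subgroup.mem_inf.1 g'.2).1) (Subgroup.mem_inf.1 g.2).1
    have h4 := hZ _ h3 (mem_center_of_comm h h1 h2)
    apply Subtype.ext
    have : (g : Γ) = g' * ((g' : Γ)⁻¹ * g) := by group
    rw [this, h4, mul_one]
  calc Nat.card (N ⊓ Subgroup.centralizer {a} : Subgroup Γ)
      ≤ Nat.card (KS a → KS a) := Nat.card_le_card_of_injective f hf
    _ = (KS a).ncard ^ (KS a).ncard := by
        rw [Nat.card_fun, Nat.card_coe_set_eq]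

/-- `|N| ≤ |C_N(a)| · |{[n, a] : n ∈ N}|`. -/
theorem card_le_mul_ncard_cm [Finite Γ] (a : Γ) (N : Subgroup Γ) :
    Nat.card N ≤ Nat.card (N ⊓ Subgroup.centralizer {a} : Subgroup Γ) *
      (cm a '' (N : Set Γ)).ncard := by
  classical
  let _ : Fintype Γ := Fintype.ofFinite Γ
  set S : Finset Γ := Finset.univ.filter (· ∈ N) with hS
  set T : Finset Γ := Finset.univ.filter (· ∈ (N ⊓ Subgroup.centralizer {a} : Subgroup Γ)) with hT
  have hSc : Nat.card N = S.card := by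
    rw [Nat.card_eq_fintype_card, Fintype.card_subtype]
  have hTc : Nat.card (N ⊓ Subgroup.centralizer {a} : Subgroup Γ) = T.card := by
    rw [Nat.card_eq_fintype_card, Fintype.card_subtype]
  have hIc : (cm a '' (N : Set Γ)).ncard = (S.image (cm a)).card := by
    rw [← Set.ncard_coe_finset]
    congr 1
    ext y
    simp [hS]
  rw [hSc, hTc, hIc]
  apply Finset.card_le_mul_card_image
  intro b hb
  rw [Finset.mem_image] at hb
  obtain ⟨n₀, hn₀, rfl⟩ := hb
  have hn₀N : n₀ ∈ N := by simpa [hS] using hn₀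
  apply Finset.card_le_card_of_injOn (fun x => n₀⁻¹ * x)
  · intro x hx
    rw [Finset.mem_coe, Finset.mem_filter] at hx
    have hxN : x ∈ N := by simpa [hS] using hx.1
    have hcomm := (cm_eq_cm_iff (a := a) (n := n₀) (n' := x)).1 hx.2.symm
    rw [Finset.mem_coe, hT, Finset.mem_filter]
    refine ⟨Finset.mem_univ _, Subgroup.mem_inf.2 ⟨N.mul_mem (N.inv_mem hn₀N) hxN, ?_⟩⟩
    rw [Subgroup.mem_centralizer_iff]
    intro z hz
    rw [Set.mem_singleton_iff] at hz
    subst hz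
    exact hcomm.symm
  · intro x _ y _ hxy
    exact mul_left_cancel hxy


/-- An abelian minimal normal subgroup has prime exponent. -/
theorem exists_prime_exponent [Finite Γ] {N : Subgroup Γ} [hN : N.Normal] (hN1 : N ≠ ⊥)
    (hmin : ∀ L : Subgroup Γ, L.Normal → L ≤ N → L = ⊥ ∨ L = N)
    (habel : ∀ x ∈ N, ∀ y ∈ N, x * y = y * x) :
    ∃ p : ℕ, p.Prime ∧ ∀ n ∈ N, n ^ p = 1 := by
  have hcard : Nat.card N ≠ 1 := fun hc => hN1 (Subgroup.card_eq_one.1 hc)
  obtain ⟨p, hp, hpd⟩ := Nat.exists_prime_and_dvd hcard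
  have : Fact p.Prime := ⟨hp⟩
  obtain ⟨g, hg⟩ := exists_prime_orderOf_dvd_card' (G := N) p hpd
  let L : Subgroup Γ :=
    { carrier := {n | n ∈ N ∧ n ^ p = 1}
      one_mem' := ⟨N.one_mem, one_pow _⟩
      mul_mem' := by
        rintro x y ⟨hx, hxp⟩ ⟨hy, hyp⟩
        refine ⟨N.mul_mem hx hy, ?_⟩
        have hc : Commute x y := habel x hx y hy
        rw [hc.mul_pow, hxp, hyp, one_mul]
      inv_mem' := by
        rintro x ⟨hx, hxp⟩
        exact ⟨N.inv_mem hx, by rw [inv_pow, hxp, inv_one]⟩ }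
  have hLn : L.Normal := by
    constructor
    rintro n ⟨hn, hnp⟩ g
    exact ⟨hN.conj_mem n hn g, by rw [conj_pow, hnp]; group⟩
  have hLN : L ≤ N := fun n hn => hn.1
  have hgL : (g : Γ) ∈ L := by
    refine ⟨g.2, ?_⟩
    rw [← hg, ← Subgroup.orderOf_coe, pow_orderOf_eq_one]
  have hg1 : (g : Γ) ≠ 1 := by
    intro h1
    have : g = 1 := Subtype.ext h1
    rw [this, orderOf_one] at hg
    exact hp.one_lt.ne hg
  rcases hmin L hLn hLN with hL | hL
  · exfalso
    rw [hL, Subgroup.mem_bot] at hgL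
    exact hg1 hgL
  · refine ⟨p, hp, fun n hn => ?_⟩
    rw [← hL] at hn
    exact hn.2

/-- If `[n₁, a]` commutes with `x ∈ KS a`, then the conjugate `n₁⁻¹ x n₁` is again in `KS a`. -/
theorem conj_mem_KS {a x n₁ : Γ} (hx : x ∈ KS a)
    (hu : cm a n₁ * x = x * cm a n₁) : n₁⁻¹ * x * n₁ ∈ KS a := by
  refine ⟨?_, ?_⟩
  · have : orderOf (n₁⁻¹ * x * n₁) = orderOf x := by
      have := orderOf_injective (MulAut.conj n₁⁻¹).toMonoidHom (MulAut.conj n₁⁻¹).injective x
      simpa [MulAut.conj_apply] using this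
    rw [this]; exact hx.1
  · have key : a * n₁ * a⁻¹ = (cm a n₁)⁻¹ * n₁ := by simp only [cm]; group
    have hu' : cm a n₁ * x⁻¹ * (cm a n₁)⁻¹ = x⁻¹ := by
      have : cm a n₁ * x⁻¹ = x⁻¹ * cm a n₁ := by
        calc cm a n₁ * x⁻¹ = x⁻¹ * (x * cm a n₁) * x⁻¹ := by group
          _ = x⁻¹ * (cm a n₁ * x) * x⁻¹ := by rw [hu]
          _ = x⁻¹ * cm a n₁ := by group
      rw [this]; group
    calc a * (n₁⁻¹ * x * n₁) * a⁻¹
        = (a * n₁ * a⁻¹)⁻¹ * (a * x * a⁻¹) * (a * n₁ * a⁻¹) := by group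
      _ = ((cm a n₁)⁻¹ * n₁)⁻¹ * x⁻¹ * ((cm a n₁)⁻¹ * n₁) := by rw [key, hx.2]
      _ = n₁⁻¹ * (cm a n₁ * x⁻¹ * (cm a n₁)⁻¹) * n₁ := by group
      _ = n₁⁻¹ * x⁻¹ * n₁ := by rw [hu']
      _ = (n₁⁻¹ * x * n₁)⁻¹ := by group

/-- **Abelian minimal normal subgroups.**  Two distinct elements of `KS a` are congruent modulo
`N`, and `|N|` is bounded. -/
theorem abelian_case [Finite Γ] {a : Γ} (h : Hyp a) {N : Subgroup Γ} [hN : N.Normal]
    (hN1 : N ≠ ⊥) (hmin : ∀ L : Subgroup Γ, L.Normal → L ≤ N → L = ⊥ ∨ L = N)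
    (hZ : ∀ g ∈ N, g ∈ center Γ → g = 1) (habel : ∀ x ∈ N, ∀ y ∈ N, x * y = y * x) :
    (∃ x ∈ KS a, ∃ x' ∈ KS a, x ≠ x' ∧ x⁻¹ * x' ∈ N) ∧
      Nat.card N ≤ Nat.card (N ⊓ Subgroup.centralizer {a} : Subgroup Γ) *
        ((KS a).ncard + Nat.card (N ⊓ Subgroup.centralizer {a} : Subgroup Γ)) := by
  have hai : a⁻¹ = a := inv_eq_self_of_sq h.sq
  obtain ⟨p, hp, hpN⟩ := exists_prime_exponent hN1 hmin habel
  obtain ⟨n₀, hn₀⟩ := (Subgroup.ne_bot_iff_exists_ne_one).1 hN1
  have hn₀1 : (n₀ : Γ) ≠ 1 := fun h1 => hn₀ (Subtype.ext h1)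
  constructor
  · by_cases hp2 : p = 2
    · subst hp2
      have hsq : ∀ n ∈ N, n * n = 1 := fun n hn => by
        have := hpN n hn; rwa [pow_two] at this
      have hinvN : ∀ n ∈ N, n⁻¹ = n := fun n hn => inv_eq_self_of_sq (hsq n hn)
      have haN : ∀ n ∈ N, a * n * a⁻¹ ∈ N := fun n hn => hN.conj_mem n hn a
      -- some element of `KS a` does not centralise `N`
      have hex : ∃ x ∈ KS a, ∃ n ∈ N, n * x ≠ x * n := by
        by_contra hcon
        have hall : ∀ x ∈ KS a, ∀ n ∈ N, n * x = x * n := by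
          intro x hx n hn
          by_contra hne
          exact hcon ⟨x, hx, n, hn, hne⟩
        by_cases hfix : a * n₀ * a⁻¹ = (n₀ : Γ)
        · have hca : (n₀ : Γ) * a = a * n₀ := by
            have := mul_inv_eq_iff_eq_mul.1 hfix
            exact this.symm
          exact hn₀1 (hZ _ n₀.2 (mem_center_of_comm h (fun x hx => hall x hx _ n₀.2) hca))
        · set n₂ : Γ := n₀ * (a * n₀ * a⁻¹) with hn₂
          have hn₂N : n₂ ∈ N := N.mul_mem n₀.2 (haN _ n₀.2)
          have hfix2 : a * n₂ * a⁻¹ = n₂ := by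
            have e1 : a * (a * (n₀ : Γ) * a⁻¹) * a⁻¹ = n₀ := by
              rw [hai]
              calc a * (a * (n₀ : Γ) * a) * a = (a * a) * n₀ * (a * a) := by group
                _ = n₀ := by rw [h.sq]; group
            calc a * n₂ * a⁻¹ = (a * n₀ * a⁻¹) * (a * (a * (n₀ : Γ) * a⁻¹) * a⁻¹) := by
                  rw [hn₂]; group
              _ = (a * n₀ * a⁻¹) * n₀ := by rw [e1]
              _ = n₂ := habel _ (haN _ n₀.2) _ n₀.2
          have hca : n₂ * a = a * n₂ := by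
            have := mul_inv_eq_iff_eq_mul.1 hfix2
            exact this.symm
          have h21 : n₂ = 1 :=
            hZ _ hn₂N (mem_center_of_comm h (fun x hx => hall x hx _ hn₂N) hca)
          apply hfix
          have : a * (n₀ : Γ) * a⁻¹ = (n₀ : Γ)⁻¹ := by
            rw [hn₂] at h21
            exact (inv_eq_of_mul_eq_one_right h21).symm
          rw [this, hinvN _ n₀.2]
      obtain ⟨x, hx, n, hn, hnx⟩ := hex
      -- choose `n₁` with `[n₁, a]` commuting with `x` but `n₁` not commuting with `x`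
      have hex2 : ∃ n₁ ∈ N, cm a n₁ * x = x * cm a n₁ ∧ n₁ * x ≠ x * n₁ := by
        by_cases hc : cm a n * x = x * cm a n
        · exact ⟨n, hn, hc, hnx⟩
        · refine ⟨cm a n, cm_mem hn, ?_, hc⟩
          have ht : cm a n ∈ N := cm_mem hn
          have : cm a (cm a n) = 1 := by
            have e1 : cm a (cm a n) = cm a n * (a * cm a n * a⁻¹)⁻¹ := by
              simp only [cm]; group
            rw [e1, cm_inv h.sq, inv_inv, hsq _ ht]
          rw [this, one_mul, mul_one]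
      obtain ⟨n₁, hn₁, hcomm, hne⟩ := hex2
      refine ⟨x, hx, n₁⁻¹ * x * n₁, conj_mem_KS hx hcomm, ?_, ?_⟩
      · intro heq
        apply hne
        calc n₁ * x = n₁ * (n₁⁻¹ * x * n₁) := by rw [← heq]
          _ = x * n₁ := by group
      · have h1 : x⁻¹ * n₁⁻¹ * x⁻¹⁻¹ ∈ N := hN.conj_mem _ (N.inv_mem hn₁) x⁻¹
        have : x⁻¹ * (n₁⁻¹ * x * n₁) = (x⁻¹ * n₁⁻¹ * x⁻¹⁻¹) * n₁ := by group
        rw [this]
        exact N.mul_mem h1 hn₁
    · -- odd exponent
      have hodd : Odd p := hp.odd_of_ne_two hp2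
      have hex : ∃ n ∈ N, cm a n ≠ 1 := by
        by_contra hcon
        have hall : ∀ n ∈ N, n * a = a * n := by
          intro n hn
          by_contra hne
          exact hcon ⟨n, hn, fun h1 => hne (cm_eq_one_iff.1 h1)⟩
        exact hn₀1 (hZ _ n₀.2 (le_center_of_comm h hall n₀.2))
      obtain ⟨n, hn, hcn⟩ := hex
      refine ⟨1, one_mem_KS a, cm a n, ⟨?_, cm_inv h.sq n⟩, fun h1 => hcn h1.symm, ?_⟩
      · exact Odd.of_dvd_nat hodd (orderOf_dvd_of_pow_eq_one (hpN _ (cm_mem hn)))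
      · rw [inv_one, one_mul]; exact cm_mem hn
  · -- the bound
    refine (card_le_mul_ncard_cm a N).trans (Nat.mul_le_mul_left _ ?_)
    have hsub : cm a '' (N : Set Γ) ⊆
        KS a ∪ ((N ⊓ Subgroup.centralizer {a} : Subgroup Γ) : Set Γ) := by
      rintro _ ⟨n, hn, rfl⟩
      have hyN : cm a n ∈ N := cm_mem hn
      by_cases hp2 : p = 2
      · right
        subst hp2
        have hsq : cm a n * cm a n = 1 := by
          have := hpN _ hyN; rwa [pow_two] at this
        have hfix : a * cm a n * a⁻¹ = cm a n := by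
          rw [cm_inv h.sq, inv_eq_self_of_sq hsq]
        rw [SetLike.mem_coe]
        refine Subgroup.mem_inf.2 ⟨hyN, ?_⟩
        rw [Subgroup.mem_centralizer_iff]
        intro z hz
        rw [Set.mem_singleton_iff] at hz
        subst hz
        exact mul_inv_eq_iff_eq_mul.1 hfix
      · left
        exact ⟨Odd.of_dvd_nat (hp.odd_of_ne_two hp2) (orderOf_dvd_of_pow_eq_one (hpN _ hyN)),
          cm_inv h.sq n⟩
    calc (cm a '' (N : Set Γ)).ncard
        ≤ (KS a ∪ ((N ⊓ Subgroup.centralizer {a} : Subgroup Γ) : Set Γ)).ncard :=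
          Set.ncard_le_ncard hsub (Set.toFinite _)
      _ ≤ (KS a).ncard + ((N ⊓ Subgroup.centralizer {a} : Subgroup Γ) : Set Γ).ncard :=
          Set.ncard_union_le _ _
      _ = (KS a).ncard + Nat.card (N ⊓ Subgroup.centralizer {a} : Subgroup Γ) := by
          rw [← Nat.card_coe_set_eq]; rfl

end Cfsg.Agent.Lib.Helper23_InvBoundB
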