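import Mathlib
import Cfsg.Agent.Lib.Helper23_InvBoundB
import Cfsg.Agent.S0199
import Cfsg.Agent.Lib.Helper1_Cores

/-!
# Groups generated by a class of involutions: odd-order inverted elements (part C)

The non-abelian minimal normal subgroups: via Baer–Suzuki (S0199) such a subgroup contains a
non-trivial odd-order element inverted by `a`; a Brauer–Fowler type count gives a proper subgroup of
bounded index, hence a bound on the order.
-/

set_option autoImplicit false

namespace Cfsg.Agent.Lib.Helper23_InvBoundC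

open Subgroup Cfsg.Agent.Lib.Helper23_InvBoundA Cfsg.Agent.Lib.Helper23_InvBoundB

universe u

variable {Γ : Type u} [Group Γ]

theorem isPGroup_zpowers_of_pow_eq_one {G : Type*} [Group G] {p k : ℕ} (t : G)
    (ht : t ^ p ^ k = 1) : IsPGroup p (Subgroup.zpowers t) := by
  intro g
  refine ⟨k, ?_⟩
  obtain ⟨z, hz⟩ := Subgroup.mem_zpowers_iff.1 g.2
  apply Subtype.ext
  rw [Subgroup.coe_pow, Subgroup.coe_one, ← hz, ← zpow_natCast, ← zpow_mul, mul_comm, zpow_mul,
    zpow_natCast, ht, one_zpow]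

/-- An inverted element of a normal subgroup `N` with `KS a ∩ N = 1` is a `2`-element. -/
theorem pow_two_pow_eq_one_of_inverted [Finite Γ] {a : Γ} {N : Subgroup Γ}
    (hKN : ∀ x ∈ N, x ∈ KS a → x = 1) {y : Γ} (hyN : y ∈ N) (hy : a * y * a⁻¹ = y⁻¹) :
    y ^ 2 ^ Nat.card Γ = 1 := by
  apply hKN _ (N.pow_mem hyN _)
  refine ⟨odd_orderOf_pow_two_pow_card y, ?_⟩
  rw [← conj_pow, hy, inv_pow]

/-- **Baer–Suzuki step.**  If no non-trivial odd-order element of the normal subgroup `N` is
inverted by `a`, then all commutators `[n, a]`, `n ∈ N`, lie in a `2`-subgroup of `N` normalised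
by `N`. -/
theorem exists_two_subgroup [Finite Γ] {a : Γ} (ha : a * a = 1) {N : Subgroup Γ} [hN : N.Normal]
    (hKN : ∀ x ∈ N, x ∈ KS a → x = 1) :
    ∃ R : Subgroup Γ, IsPGroup 2 R ∧ R ≤ N ∧ N ≤ Subgroup.normalizer (R : Set Γ) ∧ ∀ n ∈ N, cm a n ∈ R := by
  classical
  have : Fact (Nat.Prime 2) := ⟨Nat.prime_two⟩
  set Hs : Subgroup Γ := N ⊔ Subgroup.zpowers a with hHs
  have haH : a ∈ Hs := (le_sup_right : Subgroup.zpowers a ≤ Hs) (Subgroup.mem_zpowers a)
  have hNH : N ≤ Hs := le_sup_left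
  -- commutators of elements of `Hs` with `a` lie in `N`
  have hcmN : ∀ g ∈ Hs, cm a g ∈ N := by
    have hle : Hs ≤ (Subgroup.centralizer {(QuotientGroup.mk' N a)}).comap
        (QuotientGroup.mk' N) := by
      apply sup_le
      · intro n hn
        rw [Subgroup.mem_comap, Subgroup.mem_centralizer_iff]
        intro z hz
        rw [Set.mem_singleton_iff] at hz
        subst hz
        have : QuotientGroup.mk' N n = 1 := by
          rw [QuotientGroup.mk'_apply, QuotientGroup.eq_one_iff]; exact hn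
        rw [this, one_mul, mul_one]
      · rw [Subgroup.zpowers_le, Subgroup.mem_comap, Subgroup.mem_centralizer_iff]
        intro z hz
        rw [Set.mem_singleton_iff] at hz
        subst hz
        rfl
    intro g hg
    have h1 := hle hg
    rw [Subgroup.mem_comap, Subgroup.mem_centralizer_iff] at h1
    have h2 := h1 _ rfl
    rw [← QuotientGroup.eq_one_iff]
    have h3 : ((cm a g : Γ) : Γ ⧸ N) =
        QuotientGroup.mk' N g * QuotientGroup.mk' N a * (QuotientGroup.mk' N g)⁻¹ *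
          (QuotientGroup.mk' N a)⁻¹ := by
      simp only [cm, QuotientGroup.mk'_apply, QuotientGroup.mk_mul, QuotientGroup.mk_inv]
    rw [h3, ← h2]
    group
  -- work inside the group `Hs`
  set a' : Hs := ⟨a, haH⟩ with ha'
  have ha'2 : a' * a' = 1 := Subtype.ext ha
  have ha'i : a'⁻¹ = a' := inv_eq_self_of_sq ha'2
  set X : Subgroup Hs := Subgroup.zpowers a' with hXdef
  have hX : IsPGroup 2 X :=
    isPGroup_zpowers_of_pow_eq_one (p := 2) (k := 1) a' (by rw [pow_one, pow_two, ha'2])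
  have hmain : ∀ hh : Hs, IsPGroup 2 ↥(X ⊔ X.map (MulAut.conj hh).toMonoidHom) := by
    intro hh
    set t' : Hs := hh * a' * hh⁻¹ * a'⁻¹ with ht'
    have htcoe : (t' : Γ) = cm a hh := rfl
    have htN : (t' : Γ) ∈ N := htcoe ▸ hcmN _ hh.2
    have htinv : a' * t' * a'⁻¹ = t'⁻¹ := cm_inv (a := a') ha'2 hh
    have htinvΓ : a * (t' : Γ) * a⁻¹ = (t' : Γ)⁻¹ := by
      rw [htcoe]; exact cm_inv ha _
    have htpow : t' ^ 2 ^ Nat.card Γ = 1 := by
      apply Subtype.ext
      rw [Subgroup.coe_pow, Subgroup.coe_one]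
      exact pow_two_pow_eq_one_of_inverted hKN htN htinvΓ
    set T : Subgroup Hs := Subgroup.zpowers t' with hT
    have hT2 : IsPGroup 2 T := isPGroup_zpowers_of_pow_eq_one t' htpow
    -- `a'` normalises `T`
    have hfw : ∀ g ∈ T, a' * g * a'⁻¹ ∈ T := by
      intro g hg
      obtain ⟨z, rfl⟩ := Subgroup.mem_zpowers_iff.1 hg
      have : a' * t' ^ z * a'⁻¹ = (t'⁻¹) ^ z := by
        rw [← htinv, conj_zpow]
      rw [this]
      exact Subgroup.zpow_mem _ (Subgroup.inv_mem _ (Subgroup.mem_zpowers t')) z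
    have hXT : X ≤ Subgroup.normalizer (T : Set Hs) := by
      rw [hXdef, Subgroup.zpowers_le, Subgroup.mem_normalizer_iff]
      intro g
      refine ⟨hfw g, fun hg => ?_⟩
      have := hfw _ hg
      have e : a' * (a' * g * a'⁻¹) * a'⁻¹ = g := by
        rw [ha'i]
        calc a' * (a' * g * a') * a' = (a' * a') * g * (a' * a') := by group
          _ = g := by rw [ha'2]; group
      rwa [e] at this
    have hsup : IsPGroup 2 ↥(X ⊔ T) := hX.to_sup_of_normal_right' hT2 hXT
    refine hsup.to_le (sup_le le_sup_left ?_)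
    rw [hXdef, MonoidHom.map_zpowers, Subgroup.zpowers_le]
    have : (MulAut.conj hh).toMonoidHom a' = t' * a' := by
      show hh * a' * hh⁻¹ = hh * a' * hh⁻¹ * a'⁻¹ * a'
      group
    rw [this]
    exact Subgroup.mul_mem _ ((le_sup_right : T ≤ X ⊔ T) (Subgroup.mem_zpowers t'))
      ((le_sup_left : X ≤ X ⊔ T) (Subgroup.mem_zpowers a'))
  obtain ⟨O, hOn, hO2, hXO⟩ := Cfsg.Agent.S0199.result X hX hmain
  have haO : a' ∈ O := hXO (Subgroup.mem_zpowers a')
  refine ⟨O.map Hs.subtype ⊓ N, (hO2.map Hs.subtype).to_le inf_le_left, inf_le_right, ?_, ?_⟩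
  · -- `N` normalises
    have hfw : ∀ n ∈ N, ∀ r ∈ O.map Hs.subtype ⊓ N, n * r * n⁻¹ ∈ O.map Hs.subtype ⊓ N := by
      intro n hn r hr
      obtain ⟨hr1, hr2⟩ := Subgroup.mem_inf.1 hr
      refine Subgroup.mem_inf.2 ⟨?_, hN.conj_mem r hr2 n⟩
      obtain ⟨o, ho, rfl⟩ := hr1
      refine ⟨(⟨n, hNH hn⟩ : Hs) * o * (⟨n, hNH hn⟩ : Hs)⁻¹, hOn.conj_mem o ho _, rfl⟩
    intro n hn
    rw [Subgroup.mem_normalizer_iff]
    intro r
    refine ⟨hfw n hn r, fun hr => ?_⟩
    have := hfw n⁻¹ (N.inv_mem hn) _ hr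
    have e : n⁻¹ * (n * r * n⁻¹) * n⁻¹⁻¹ = r := by group
    rwa [e] at this
  · intro n hn
    refine Subgroup.mem_inf.2 ⟨?_, cm_mem hn⟩
    refine ⟨(⟨n, hNH hn⟩ : Hs) * a' * (⟨n, hNH hn⟩ : Hs)⁻¹ * a'⁻¹, ?_, rfl⟩
    exact O.mul_mem (hOn.conj_mem a' haO _) (O.inv_mem haO)

/-- A `2`-subgroup of a minimal normal subgroup `N` with trivial centre that is normalised by `N`
is trivial. -/
theorem eq_bot_of_two_subgroup [Finite Γ] {N : Subgroup Γ} [hN : N.Normal] (hN1 : N ≠ ⊥)
    (hmin : ∀ L : Subgroup Γ, L.Normal → L ≤ N → L = ⊥ ∨ L = N)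
    (hZN : ∀ g ∈ N, (∀ n ∈ N, g * n = n * g) → g = 1)
    {R : Subgroup Γ} (hR2 : IsPGroup 2 R) (hRN : R ≤ N) (hnorm : N ≤ Subgroup.normalizer (R : Set Γ)) : R = ⊥ := by
  have : Fact (Nat.Prime 2) := ⟨Nat.prime_two⟩
  set Q : Subgroup Γ := (Cfsg.pCore 2 N).map N.subtype with hQ
  have hQn : Q.Normal := inferInstance
  have hQN : Q ≤ N := Subgroup.map_subtype_le _
  have hRQ : R ≤ Q := by
    have h1 : (R.subgroupOf N).Normal := (Subgroup.normal_subgroupOf_iff_le_normalizer hRN).2 hnorm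
    have h2 : IsPGroup 2 (R.subgroupOf N) := hR2.comap_subtype
    have h3 : R.subgroupOf N ≤ Cfsg.pCore 2 N := Cfsg.Agent.Lib.Helper1_Cores.le_pCore h1 h2
    have h4 := Subgroup.map_mono (f := N.subtype) h3
    rwa [Subgroup.map_subgroupOf_eq_of_le hRN] at h4
  rcases hmin Q hQn hQN with hQb | hQtop
  · rw [hQb] at hRQ
    exact le_bot_iff.1 hRQ
  · exfalso
    -- `N` is a `2`-group, so it has non-trivial centre
    have hcore : Cfsg.pCore 2 N = ⊤ := by
      apply Subgroup.map_injective N.subtype_injective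
      rw [← hQ, hQtop, ← MonoidHom.range_eq_map, Subgroup.range_subtype]
    have hN2 : IsPGroup 2 N := by
      have := Cfsg.Agent.Lib.Helper1_Cores.pCore_isPGroup (G := N) 2
      rw [hcore] at this
      exact this.of_equiv Subgroup.topEquiv
    have hnt : Nontrivial N := by
      obtain ⟨n, hn⟩ := (Subgroup.ne_bot_iff_exists_ne_one).1 hN1
      exact ⟨⟨n, 1, hn⟩⟩
    have hcn : Nontrivial (Subgroup.center N) := hN2.center_nontrivial
    obtain ⟨⟨z, hz⟩, hz1⟩ := exists_ne (1 : Subgroup.center N)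
    apply hz1
    apply Subtype.ext
    apply Subtype.ext
    show (z : Γ) = 1
    apply hZN _ z.2
    intro n hn
    have := (Subgroup.mem_center_iff.1 hz) ⟨n, hn⟩
    exact (congrArg Subtype.val this).symm

/-- **Non-abelian minimal normal subgroups contain an element of `KS a`.** -/
theorem exists_mem_KS_of_nonabelian [Finite Γ] {a : Γ} (h : Hyp a) {N : Subgroup Γ}
    [hN : N.Normal] (hN1 : N ≠ ⊥)
    (hmin : ∀ L : Subgroup Γ, L.Normal → L ≤ N → L = ⊥ ∨ L = N)
    (hZ : ∀ g ∈ N, g ∈ center Γ → g = 1)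
    (hZN : ∀ g ∈ N, (∀ n ∈ N, g * n = n * g) → g = 1) :
    ∃ x ∈ N, x ∈ KS a ∧ x ≠ 1 := by
  by_contra hcon
  have hKN : ∀ x ∈ N, x ∈ KS a → x = 1 := by
    intro x hx hxK
    by_contra hne
    exact hcon ⟨x, hx, hxK, hne⟩
  obtain ⟨R, hR2, hRN, hnorm, hcm⟩ := exists_two_subgroup h.sq hKN
  have hRbot := eq_bot_of_two_subgroup hN1 hmin hZN hR2 hRN hnorm
  have hall : ∀ n ∈ N, n * a = a * n := by
    intro n hn
    have := hcm n hn
    rw [hRbot, Subgroup.mem_bot] at this
    exact cm_eq_one_iff.1 this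
  obtain ⟨n₀, hn₀⟩ := (Subgroup.ne_bot_iff_exists_ne_one).1 hN1
  exact hn₀ (Subtype.ext (hZ _ n₀.2 (le_center_of_comm h hall n₀.2)))


/-- **Brauer–Fowler type count.**  Either `N` is small or some non-trivial element of `N` has a
centraliser of bounded index in `N`. -/
theorem exists_large_centralizer [Finite Γ] {a : Γ} (h : Hyp a) {N : Subgroup Γ} [hN : N.Normal]
    (c : ℕ) (hc : Nat.card (N ⊓ Subgroup.centralizer {a} : Subgroup Γ) ≤ c) :
    Nat.card N ≤ 2 * c ∨ ∃ w ∈ N, w ≠ 1 ∧
      Nat.card N ≤ 2 * c * ((KS a).ncard + c) *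
        Nat.card (N ⊓ Subgroup.centralizer {w} : Subgroup Γ) := by
  classical
  by_contra hcon
  have h1 : 2 * c < Nat.card N := by
    by_contra hlt
    exact hcon (Or.inl (not_lt.1 hlt))
  set m := (KS a).ncard with hm
  set β := 2 * c * (m + c) with hβ
  have h2 : ∀ w ∈ N, w ≠ 1 →
      β * Nat.card (N ⊓ Subgroup.centralizer {w} : Subgroup Γ) < Nat.card N := by
    intro w hw hw1
    by_contra hlt
    exact hcon (Or.inr ⟨w, hw, hw1, not_lt.1 hlt⟩)
  have hcpos : 0 < c := lt_of_lt_of_le Nat.card_pos hc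
  have hβpos : 0 < β := by positivity
  set W : Set Γ := {w | w ∈ N ∧ w ≠ 1 ∧ (w ∈ KS a ∨ w ∈ Subgroup.centralizer {a})} with hW
  have hWfin : W.Finite := Set.toFinite _
  have hWcard : W.ncard ≤ m + c := by
    have hsub : W ⊆ KS a ∪ ((N ⊓ Subgroup.centralizer {a} : Subgroup Γ) : Set Γ) := by
      rintro w ⟨hwN, _, hw | hw⟩
      · exact Or.inl hw
      · exact Or.inr (Subgroup.mem_inf.2 ⟨hwN, hw⟩)
    calc W.ncard ≤ (KS a ∪ ((N ⊓ Subgroup.centralizer {a} : Subgroup Γ) : Set Γ)).ncard :=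
          Set.ncard_le_ncard hsub (Set.toFinite _)
      _ ≤ (KS a).ncard + ((N ⊓ Subgroup.centralizer {a} : Subgroup Γ) : Set Γ).ncard :=
          Set.ncard_union_le _ _
      _ ≤ m + c := by
          refine Nat.add_le_add_left ?_ _
          rw [← Nat.card_coe_set_eq]
          exact hc
  set q := (Nat.card N - 1) / β with hq
  have hqw : ∀ w ∈ W, ((N ⊓ Subgroup.centralizer {w} : Subgroup Γ) : Set Γ).ncard ≤ q := by
    intro w hw
    have h3 := h2 w hw.1 hw.2.1
    rw [← Nat.card_coe_set_eq]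
    show Nat.card (N ⊓ Subgroup.centralizer {w} : Subgroup Γ) ≤ q
    rw [hq, Nat.le_div_iff_mul_le hβpos, mul_comm]
    omega
  have hcover : cm a '' (N : Set Γ) ⊆
      {1} ∪ ⋃ w ∈ hWfin.toFinset, ((N ⊓ Subgroup.centralizer {w} : Subgroup Γ) : Set Γ) := by
    rintro _ ⟨n, hn, rfl⟩
    by_cases hy1 : cm a n = 1
    · left; exact hy1
    · right
      set y := cm a n with hy
      have hyN : y ∈ N := cm_mem hn
      have hyinv : a * y * a⁻¹ = y⁻¹ := cm_inv h.sq n
      have ho : orderOf y ≠ 0 := (orderOf_pos y).ne'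
      have ho1 : orderOf y ≠ 1 := fun h1 => hy1 (orderOf_eq_one_iff.1 h1)
      set p := (orderOf y).minFac with hp
      have hpp : p.Prime := Nat.minFac_prime ho1
      have hpd : p ∣ orderOf y := Nat.minFac_dvd _
      set w := y ^ (orderOf y / p) with hw
      have hwo : orderOf w = p := orderOf_pow_orderOf_div ho hpd
      have hwN : w ∈ N := N.pow_mem hyN _
      have hw1 : w ≠ 1 := by
        intro h1
        rw [h1, orderOf_one] at hwo
        exact hpp.one_lt.ne hwo
      have hwinv : a * w * a⁻¹ = w⁻¹ := by rw [hw, ← conj_pow, hyinv, inv_pow]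
      have hwW : w ∈ W := by
        refine ⟨hwN, hw1, ?_⟩
        by_cases hp2 : p = 2
        · right
          have hsq : w * w = 1 := by rw [← pow_two, ← hp2, ← hwo, pow_orderOf_eq_one]
          rw [inv_eq_self_of_sq hsq] at hwinv
          rw [Subgroup.mem_centralizer_iff]
          intro z hz
          rw [Set.mem_singleton_iff] at hz
          subst hz
          exact mul_inv_eq_iff_eq_mul.1 hwinv
        · left
          exact ⟨by rw [hwo]; exact hpp.odd_of_ne_two hp2, hwinv⟩
      rw [Set.mem_iUnion₂]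
      refine ⟨w, hWfin.mem_toFinset.2 hwW, ?_⟩
      rw [SetLike.mem_coe]
      refine Subgroup.mem_inf.2 ⟨hyN, ?_⟩
      rw [Subgroup.mem_centralizer_iff]
      intro z hz
      rw [Set.mem_singleton_iff] at hz
      subst hz
      exact ((Commute.refl y).pow_left _).eq
  have hcm : (cm a '' (N : Set Γ)).ncard ≤ 1 + (m + c) * q := by
    calc (cm a '' (N : Set Γ)).ncard
        ≤ ({1} ∪ ⋃ w ∈ hWfin.toFinset,
            ((N ⊓ Subgroup.centralizer {w} : Subgroup Γ) : Set Γ)).ncard :=
          Set.ncard_le_ncard hcover (Set.toFinite _)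
      _ ≤ ({1} : Set Γ).ncard + (⋃ w ∈ hWfin.toFinset,
            ((N ⊓ Subgroup.centralizer {w} : Subgroup Γ) : Set Γ)).ncard :=
          Set.ncard_union_le _ _
      _ ≤ 1 + ∑ w ∈ hWfin.toFinset,
            ((N ⊓ Subgroup.centralizer {w} : Subgroup Γ) : Set Γ).ncard := by
          rw [Set.ncard_singleton]
          exact Nat.add_le_add_left (Finset.set_ncard_biUnion_le _ _) _
      _ ≤ 1 + hWfin.toFinset.card * q := by
          refine Nat.add_le_add_left ?_ _
          have := Finset.sum_le_card_nsmul hWfin.toFinset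
            (fun w => ((N ⊓ Subgroup.centralizer {w} : Subgroup Γ) : Set Γ).ncard) q
            (fun w hw => hqw w (hWfin.mem_toFinset.1 hw))
          simpa using this
      _ ≤ 1 + (m + c) * q := by
          refine Nat.add_le_add_left (Nat.mul_le_mul_right _ ?_) _
          rw [← Set.ncard_eq_toFinset_card W hWfin]
          exact hWcard
  have hNle := card_le_mul_ncard_cm a N
  have h3 : Nat.card N ≤ c * (1 + (m + c) * q) := hNle.trans (Nat.mul_le_mul hc hcm)
  have h4 : β * q ≤ Nat.card N - 1 := Nat.mul_div_le _ _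
  set P := c * ((m + c) * q) with hP
  have h5 : 2 * P ≤ Nat.card N - 1 := by
    have : 2 * P = β * q := by rw [hP, hβ]; ring
    rw [this]; exact h4
  have h6 : Nat.card N ≤ c + P := by
    have : c + P = c * (1 + (m + c) * q) := by rw [hP]; ring
    rw [this]; exact h3
  omega

/-- A minimal normal subgroup with a proper subgroup `H` embeds into `Sym(Γ / H)`. -/
theorem card_le_factorial_index [Finite Γ] {N H : Subgroup Γ} [hN : N.Normal]
    (hmin : ∀ L : Subgroup Γ, L.Normal → L ≤ N → L = ⊥ ∨ L = N) (hHN : H ≤ N) (hne : H ≠ N) :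
    Nat.card N ≤ (H.index).factorial := by
  have hcore : H.normalCore ⊓ N = ⊥ := by
    have hn : (H.normalCore ⊓ N).Normal := inferInstance
    rcases hmin _ hn inf_le_right with hb | ht
    · exact hb
    · exfalso
      apply hne
      apply le_antisymm hHN
      calc N = H.normalCore ⊓ N := ht.symm
        _ ≤ H.normalCore := inf_le_left
        _ ≤ H := Subgroup.normalCore_le H
  let φ : N →* Equiv.Perm (Γ ⧸ H) := (MulAction.toPermHom Γ (Γ ⧸ H)).comp N.subtype
  have hinj : Function.Injective φ := by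
    rw [injective_iff_map_eq_one]
    intro n hn
    have h1 : (n : Γ) ∈ H.normalCore := by
      rw [Subgroup.normalCore_eq_ker, MonoidHom.mem_ker]
      exact hn
    have h2 : (n : Γ) ∈ H.normalCore ⊓ N := Subgroup.mem_inf.2 ⟨h1, n.2⟩
    rw [hcore, Subgroup.mem_bot] at h2
    exact Subtype.ext h2
  calc Nat.card N ≤ Nat.card (Equiv.Perm (Γ ⧸ H)) := Nat.card_le_card_of_injective φ hinj
    _ = (Nat.card (Γ ⧸ H)).factorial := Nat.card_perm
    _ = H.index.factorial := by rw [Subgroup.index_eq_card]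

/-- **Non-abelian minimal normal subgroups.** -/
theorem nonabelian_case [Finite Γ] {a : Γ} (h : Hyp a) {N : Subgroup Γ} [hN : N.Normal]
    (hN1 : N ≠ ⊥) (hmin : ∀ L : Subgroup Γ, L.Normal → L ≤ N → L = ⊥ ∨ L = N)
    (hZ : ∀ g ∈ N, g ∈ center Γ → g = 1)
    (hZN : ∀ g ∈ N, (∀ n ∈ N, g * n = n * g) → g = 1)
    (c : ℕ) (hc : Nat.card (N ⊓ Subgroup.centralizer {a} : Subgroup Γ) ≤ c) :
    (∃ x ∈ KS a, ∃ x' ∈ KS a, x ≠ x' ∧ x⁻¹ * x' ∈ N) ∧
      Nat.card N ≤ 2 * c + (N.index * (2 * c * ((KS a).ncard + c))).factorial := by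
  constructor
  · obtain ⟨x, hxN, hxK, hx1⟩ := exists_mem_KS_of_nonabelian h hN1 hmin hZ hZN
    exact ⟨1, one_mem_KS a, x, hxK, fun h1 => hx1 h1.symm, by rwa [inv_one, one_mul]⟩
  · rcases exists_large_centralizer h c hc with hs | ⟨w, hwN, hw1, hb⟩
    · exact hs.trans (Nat.le_add_right _ _)
    · set H : Subgroup Γ := N ⊓ Subgroup.centralizer {w} with hH
      have hHN : H ≤ N := inf_le_left
      have hne : H ≠ N := by
        intro heq
        apply hw1
        apply hZN w hwN
        intro n hn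
        have : n ∈ H := heq ▸ hn
        have := (Subgroup.mem_inf.1 this).2
        rw [Subgroup.mem_centralizer_iff] at this
        exact this w rfl
      have h1 := card_le_factorial_index hmin hHN hne
      have hidx : H.index ≤ N.index * (2 * c * ((KS a).ncard + c)) := by
        have e1 := Subgroup.card_mul_index H
        have e2 := Subgroup.card_mul_index N
        have hHpos : 0 < Nat.card H := Nat.card_pos
        apply Nat.le_of_mul_le_mul_left _ hHpos
        calc Nat.card H * H.index = Nat.card N * N.index := by rw [e1, e2]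
          _ ≤ (2 * c * ((KS a).ncard + c) * Nat.card H) * N.index :=
              Nat.mul_le_mul_right _ hb
          _ = Nat.card H * (N.index * (2 * c * ((KS a).ncard + c))) := by ring
      exact (h1.trans (Nat.factorial_le hidx)).trans (Nat.le_add_left _ _)

end Cfsg.Agent.Lib.Helper23_InvBoundC
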