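import Mathlib
import Cfsg.Agent.Lib.Helper23_InvBoundC
import Cfsg.Agent.Lib.Lead_Subnormal

/-!
# Groups generated by a class of involutions: odd-order inverted elements (part D)

The main induction: the order of `Γ` is bounded in terms of the number of odd-order elements
inverted by `a`.
-/

set_option autoImplicit false

namespace Cfsg.Agent.Lib.Helper23_InvBoundD

open Subgroup Cfsg.Agent.Lib.Helper23_InvBoundA Cfsg.Agent.Lib.Helper23_InvBoundB
  Cfsg.Agent.Lib.Helper23_InvBoundC

open scoped commutatorElement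

universe u

variable {Γ : Type u} [Group Γ]

/-- The bound for the order of a minimal normal subgroup. -/
def bdN (m b : ℕ) : ℕ :=
  m ^ m * (m + m ^ m) + (2 * m ^ m + (b * (2 * m ^ m * (m + m ^ m))).factorial)

theorem ncard_KS_pos [Finite Γ] (a : Γ) : 0 < (KS a).ncard :=
  (Set.ncard_pos (Set.toFinite _)).2 ⟨1, one_mem_KS a⟩

/-- **Main step.**  If `Z(Γ) ∩ ⟨KS a⟩ = 1` and groups with fewer inverted odd-order elements are
bounded by `b`, then `Γ` is bounded. -/
theorem main_step [Finite Γ] {a : Γ} (h : Hyp a) (m b : ℕ) (hm : (KS a).ncard ≤ m + 1)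
    (hZ : ∀ g ∈ Subgroup.closure (KS a), g ∈ center Γ → g = 1)
    (IH : ∀ (Δ : Type u) [Group Δ] [Finite Δ] (d : Δ), Hyp d → (KS d).ncard ≤ m →
      Nat.card Δ ≤ b) :
    Nat.card Γ ≤ 2 + b * bdN (m + 1) b := by
  have hG0n : (Subgroup.closure (KS a)).Normal := G0_normal h
  by_cases hG0 : Subgroup.closure (KS a) = ⊥
  · have h1 := Subgroup.card_mul_index (Subgroup.closure (KS a))
    rw [hG0, Subgroup.card_bot, one_mul] at h1
    have h2 := G0_index_le h
    rw [hG0] at h2
    omega
  · obtain ⟨N, ⟨hNn, hN1, hNmin⟩, hNG⟩ :=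
      Cfsg.Agent.Lib.Lead_Subnormal.exists_isMinNormal_le _ hG0n hG0
    have hZ' : ∀ g ∈ N, g ∈ center Γ → g = 1 := fun g hg => hZ g (hNG hg)
    set m' := (KS a).ncard with hm'
    have hm'pos : 0 < m' := ncard_KS_pos a
    set c := (m + 1) ^ (m + 1) with hc
    have hcfix : Nat.card (N ⊓ Subgroup.centralizer {a} : Subgroup Γ) ≤ c := by
      refine (card_fix_le h N hZ').trans ?_
      calc m' ^ m' ≤ m' ^ (m + 1) := Nat.pow_le_pow_right hm'pos hm
        _ ≤ (m + 1) ^ (m + 1) := Nat.pow_le_pow_left hm _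
    -- the two conclusions, uniformly
    have key : (∃ x ∈ KS a, ∃ x' ∈ KS a, x ≠ x' ∧ x⁻¹ * x' ∈ N) ∧
        (N.index ≤ b → Nat.card N ≤ bdN (m + 1) b) := by
      by_cases habel : ∀ x ∈ N, ∀ y ∈ N, x * y = y * x
      · obtain ⟨h1, h2⟩ := abelian_case h hN1 hNmin hZ' habel
        refine ⟨h1, fun _ => ?_⟩
        refine h2.trans ?_
        unfold bdN
        refine le_trans ?_ (Nat.le_add_right _ _)
        exact Nat.mul_le_mul hcfix (Nat.add_le_add hm hcfix)
      · have hZN : ∀ g ∈ N, (∀ n ∈ N, g * n = n * g) → g = 1 := by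
          intro g hg hgc
          have hLn : (N ⊓ Subgroup.centralizer (N : Set Γ)).Normal := inferInstance
          rcases hNmin _ hLn inf_le_left with hb | ht
          · have : g ∈ N ⊓ Subgroup.centralizer (N : Set Γ) := by
              refine Subgroup.mem_inf.2 ⟨hg, ?_⟩
              rw [Subgroup.mem_centralizer_iff]
              intro n hn
              exact (hgc n hn).symm
            rw [hb, Subgroup.mem_bot] at this
            exact this
          · exfalso
            apply habel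
            intro x hx y hy
            have : y ∈ N ⊓ Subgroup.centralizer (N : Set Γ) := by rw [ht]; exact hy
            have := (Subgroup.mem_inf.1 this).2
            rw [Subgroup.mem_centralizer_iff] at this
            exact this x hx
        obtain ⟨h1, h2⟩ := nonabelian_case h hN1 hNmin hZ' hZN c hcfix
        refine ⟨h1, fun hidx => ?_⟩
        refine h2.trans ?_
        unfold bdN
        refine le_trans ?_ (Nat.le_add_left _ _)
        refine Nat.add_le_add_left (Nat.factorial_le ?_) _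
        refine Nat.mul_le_mul hidx ?_
        exact Nat.mul_le_mul_left _ (Nat.add_le_add_right hm _)
    obtain ⟨⟨x, hx, x', hx', hne, hxx'⟩, hbound⟩ := key
    -- the quotient has fewer inverted elements
    have hφ : Function.Surjective (QuotientGroup.mk' N) := QuotientGroup.mk'_surjective N
    have hlt : (KS (QuotientGroup.mk' N a)).ncard < (KS a).ncard := by
      refine ncard_KS_map_lt h (QuotientGroup.mk' N) hφ hx hx' hne ?_
      rw [QuotientGroup.mk'_apply, QuotientGroup.mk'_apply, QuotientGroup.eq]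
      exact hxx'
    have hΔ : Nat.card (Γ ⧸ N) ≤ b :=
      IH (Γ ⧸ N) (QuotientGroup.mk' N a) (h.map _ hφ) (by omega)
    have hidx : N.index ≤ b := by rw [Subgroup.index_eq_card]; exact hΔ
    have hN := hbound hidx
    have h1 := Subgroup.card_mul_index N
    calc Nat.card Γ = Nat.card N * N.index := h1.symm
      _ ≤ bdN (m + 1) b * b := Nat.mul_le_mul hN hidx
      _ ≤ 2 + b * bdN (m + 1) b := by rw [mul_comm]; exact Nat.le_add_left _ _

/-- **Reduction to trivial centre.**  There is a normal subgroup `Y`, central in `⟨KS a⟩`, such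
that the quotient by `Y` has no central elements inside the image of `⟨KS a⟩`. -/
theorem exists_central_Y [Finite Γ] {a : Γ} (h : Hyp a) :
    ∃ Y : Subgroup Γ, Y.Normal ∧ Y ≤ Subgroup.centralizer (KS a) ∧
      Y ≤ Subgroup.closure (KS a) ∧
      ∀ n ∈ Subgroup.closure (KS a), (∀ g : Γ, n * g * n⁻¹ * g⁻¹ ∈ Y) → n ∈ Y := by
  classical
  have hG0n : (Subgroup.closure (KS a)).Normal := G0_normal h
  have hai : a⁻¹ = a := inv_eq_self_of_sq h.sq
  let S : Set (Subgroup Γ) := {Y | Y.Normal ∧ Y ≤ Subgroup.centralizer (KS a) ∧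
    Y ≤ Subgroup.closure (KS a) ∧ ∀ x ∈ Y, x ∈ KS a → x = 1}
  have hSne : S.Nonempty := by
    refine ⟨⊥, inferInstance, bot_le, bot_le, ?_⟩
    intro x hx _
    exact Subgroup.mem_bot.1 hx
  have hSfin : S.Finite := Set.toFinite _
  obtain ⟨Y, hYS, hYmax⟩ := hSfin.exists_maximal hSne
  obtain ⟨hYn, hYc, hYG, hYK⟩ := hYS
  refine ⟨Y, hYn, hYc, hYG, ?_⟩
  intro n hnG hncomm
  -- the preimage of the centre of `Γ ⧸ Y`, inside `⟨KS a⟩`
  set CY : Subgroup Γ := (Subgroup.center (Γ ⧸ Y)).comap (QuotientGroup.mk' Y) with hCY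
  have hCYmem : ∀ z : Γ, z ∈ CY ↔ ∀ g : Γ, z * g * z⁻¹ * g⁻¹ ∈ Y := by
    intro z
    rw [hCY, Subgroup.mem_comap, Subgroup.mem_center_iff]
    constructor
    · intro hz g
      have := hz (QuotientGroup.mk' Y g)
      rw [← QuotientGroup.eq_one_iff]
      have e : ((z * g * z⁻¹ * g⁻¹ : Γ) : Γ ⧸ Y) =
          QuotientGroup.mk' Y z * QuotientGroup.mk' Y g * (QuotientGroup.mk' Y z)⁻¹ *
            (QuotientGroup.mk' Y g)⁻¹ := by
        simp only [QuotientGroup.mk'_apply, QuotientGroup.mk_mul, QuotientGroup.mk_inv]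
      rw [e, ← this]
      group
    · intro hz q
      obtain ⟨g, rfl⟩ := QuotientGroup.mk'_surjective Y q
      have := hz g
      rw [← QuotientGroup.eq_one_iff] at this
      have e : ((z * g * z⁻¹ * g⁻¹ : Γ) : Γ ⧸ Y) =
          QuotientGroup.mk' Y z * QuotientGroup.mk' Y g * (QuotientGroup.mk' Y z)⁻¹ *
            (QuotientGroup.mk' Y g)⁻¹ := by
        simp only [QuotientGroup.mk'_apply, QuotientGroup.mk_mul, QuotientGroup.mk_inv]
      rw [e] at this
      have h2 : QuotientGroup.mk' Y z * QuotientGroup.mk' Y g =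
          QuotientGroup.mk' Y g * QuotientGroup.mk' Y z := by
        calc QuotientGroup.mk' Y z * QuotientGroup.mk' Y g
            = (QuotientGroup.mk' Y z * QuotientGroup.mk' Y g * (QuotientGroup.mk' Y z)⁻¹ *
                (QuotientGroup.mk' Y g)⁻¹) * (QuotientGroup.mk' Y g * QuotientGroup.mk' Y z) := by
              group
          _ = QuotientGroup.mk' Y g * QuotientGroup.mk' Y z := by rw [this, one_mul]
      exact h2.symm
  set N' : Subgroup Γ := CY ⊓ Subgroup.closure (KS a) with hN'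
  have hYN' : Y ≤ N' := by
    refine le_inf ?_ hYG
    intro y hy
    rw [hCYmem]
    intro g
    have h1 : g * y⁻¹ * g⁻¹ ∈ Y := hYn.conj_mem _ (Y.inv_mem hy) g
    have : y * g * y⁻¹ * g⁻¹ = y * (g * y⁻¹ * g⁻¹) := by group
    rw [this]
    exact Y.mul_mem hy h1
  have hnN' : n ∈ N' := Subgroup.mem_inf.2 ⟨(hCYmem n).2 hncomm, hnG⟩
  -- elements of `Y` commute with `⟨KS a⟩`
  have hYcomm : ∀ y ∈ Y, ∀ g ∈ Subgroup.closure (KS a), y * g = g * y := by
    intro y hy g hg
    have hle : Subgroup.closure (KS a) ≤ Subgroup.centralizer {y} := by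
      rw [Subgroup.closure_le]
      intro x hx
      rw [SetLike.mem_coe, Subgroup.mem_centralizer_iff]
      intro z hz
      rw [Set.mem_singleton_iff] at hz
      subst hz
      have := hYc hy
      rw [Subgroup.mem_centralizer_iff] at this
      exact (this x hx).symm
    have := hle hg
    rw [Subgroup.mem_centralizer_iff] at this
    exact this y rfl
  have hN'S : N' ∈ S := by
    refine ⟨inferInstance, ?_, inf_le_right, ?_⟩
    · -- `N'` centralises `KS a`
      intro n' hn'
      obtain ⟨hn'C, hn'G⟩ := Subgroup.mem_inf.1 hn'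
      rw [Subgroup.mem_centralizer_iff]
      intro x hx
      have hxG : x ∈ Subgroup.closure (KS a) := Subgroup.subset_closure hx
      set w := n' * x * n'⁻¹ * x⁻¹ with hw
      have hwY : w ∈ Y := (hCYmem n').1 hn'C x
      have hwx : w * x = x * w := hYcomm w hwY x hxG
      -- `w` has odd order
      have hpow : ∀ k : ℕ, n' * x ^ k * n'⁻¹ * (x ^ k)⁻¹ = w ^ k := by
        intro k
        induction k with
        | zero => simp
        | succ k ih =>
          have hwxk : w * (x ^ k)⁻¹ = (x ^ k)⁻¹ * w :=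
            hYcomm w hwY _ (Subgroup.inv_mem _ (Subgroup.pow_mem _ hxG k))
          calc n' * x ^ (k + 1) * n'⁻¹ * (x ^ (k + 1))⁻¹
              = (n' * x ^ k * n'⁻¹) * (n' * x * n'⁻¹ * x⁻¹) * (x ^ k)⁻¹ := by
                rw [pow_succ]; group
            _ = (n' * x ^ k * n'⁻¹) * (w * (x ^ k)⁻¹) := by rw [← hw]; group
            _ = (n' * x ^ k * n'⁻¹) * ((x ^ k)⁻¹ * w) := by rw [hwxk]
            _ = (n' * x ^ k * n'⁻¹ * (x ^ k)⁻¹) * w := by group
            _ = w ^ (k + 1) := by rw [ih, pow_succ]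
      have hwodd : Odd (orderOf w) := by
        have := hpow (orderOf x)
        rw [pow_orderOf_eq_one] at this
        have h1 : w ^ orderOf x = 1 := by rw [← this]; group
        exact Odd.of_dvd_nat hx.1 (orderOf_dvd_of_pow_eq_one h1)
      -- `w` is inverted by `a`
      have hwinv : a * w * a⁻¹ = w⁻¹ := by
        set u := a * n' * a⁻¹ * n'⁻¹ with hu
        have huY : u ∈ Y := by
          have h1 := (hCYmem n').1 hn'C a
          have : u = (n' * a * n'⁻¹ * a⁻¹)⁻¹ := by rw [hu]; group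
          rw [this]
          exact Y.inv_mem h1
        have hconj : n' * x⁻¹ * n'⁻¹ ∈ Subgroup.closure (KS a) :=
          hG0n.conj_mem _ (Subgroup.inv_mem _ hxG) n'
        have hu1 : u * (n' * x⁻¹ * n'⁻¹) = (n' * x⁻¹ * n'⁻¹) * u := hYcomm u huY _ hconj
        have hwi : w⁻¹ * x = x * w⁻¹ := by
          calc w⁻¹ * x = w⁻¹ * (x * w) * w⁻¹ := by group
            _ = w⁻¹ * (w * x) * w⁻¹ := by rw [hwx]
            _ = x * w⁻¹ := by group
        calc a * w * a⁻¹
            = (a * n' * a⁻¹) * (a * x * a⁻¹) * (a * n' * a⁻¹)⁻¹ * (a * x * a⁻¹)⁻¹ := by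
              rw [hw]; group
          _ = (u * n') * x⁻¹ * (u * n')⁻¹ * x := by
              have : a * n' * a⁻¹ = u * n' := by rw [hu]; group
              rw [this, hx.2, inv_inv]
          _ = (u * (n' * x⁻¹ * n'⁻¹)) * u⁻¹ * x := by group
          _ = ((n' * x⁻¹ * n'⁻¹) * u) * u⁻¹ * x := by rw [hu1]
          _ = x⁻¹ * (w⁻¹ * x) := by rw [hw]; group
          _ = x⁻¹ * (x * w⁻¹) := by rw [hwi]
          _ = w⁻¹ := by group
      have hw1 : w = 1 := hYK w hwY ⟨hwodd, hwinv⟩
      -- so `n'` commutes with `x`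
      have : n' * x = (n' * x * n'⁻¹ * x⁻¹) * (x * n') := by group
      rw [this, ← hw, hw1, one_mul]
    · -- `KS a ∩ N' = 1`
      intro x hxN' hxK
      obtain ⟨hxC, _⟩ := Subgroup.mem_inf.1 hxN'
      have h1 := (hCYmem x).1 hxC a
      have h2 : x * a * x⁻¹ * a⁻¹ = x ^ 2 := by
        have : a * x⁻¹ * a⁻¹ = x := by
          have e : a * x⁻¹ * a⁻¹ = (a * x * a⁻¹)⁻¹ := by group
          rw [e, hxK.2, inv_inv]
        calc x * a * x⁻¹ * a⁻¹ = x * (a * x⁻¹ * a⁻¹) := by group
          _ = x ^ 2 := by rw [this, pow_two]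
      rw [h2] at h1
      have h3 : x ^ 2 = 1 := hYK _ h1 (KS_pow hxK 2)
      have h4 : orderOf x ∣ 2 := orderOf_dvd_of_pow_eq_one h3
      have h5 : orderOf x = 1 := by
        rcases (Nat.dvd_prime Nat.prime_two).1 h4 with h | h
        · exact h
        · exfalso
          have := hxK.1
          rw [h] at this
          exact (by decide : ¬ Odd 2) this
      exact orderOf_eq_one_iff.1 h5
  exact (hYmax hN'S hYN') hnN'

/-- In a group all of whose `KS`-generated subgroup is abelian, that subgroup consists of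
elements of `KS`. -/
theorem closure_KS_subset_of_abelian {d : Γ}
    (hab : ∀ x ∈ Subgroup.closure (KS d), ∀ y ∈ Subgroup.closure (KS d), x * y = y * x) :
    ∀ g ∈ Subgroup.closure (KS d), g ∈ KS d := by
  intro g hg
  induction hg using Subgroup.closure_induction with
  | mem x hx => exact hx
  | one => exact one_mem_KS d
  | mul x y hx hy ihx ihy =>
    have hc : Commute x y := hab x hx y hy
    refine ⟨Odd.of_dvd_nat (ihx.1.mul ihy.1) hc.orderOf_mul_dvd_mul_orderOf, ?_⟩
    calc d * (x * y) * d⁻¹ = (d * x * d⁻¹) * (d * y * d⁻¹) := by group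
      _ = x⁻¹ * y⁻¹ := by rw [ihx.2, ihy.2]
      _ = (y * x)⁻¹ := by group
      _ = (x * y)⁻¹ := by rw [hc.eq]
  | inv x hx ihx => exact KS_inv ihx

/-- The number of commutators is at most the square of the index of the centre. -/
theorem card_commutatorSet_le (G : Type*) [Group G] [Finite G] :
    Nat.card (commutatorSet G) ≤ (Subgroup.center G).index * (Subgroup.center G).index := by
  let f : (G ⧸ Subgroup.center G) × (G ⧸ Subgroup.center G) → commutatorSet G :=
    fun q => ⟨⁅q.1.out, q.2.out⁆, commutator_mem_commutatorSet _ _⟩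
  have hf : Function.Surjective f := by
    rintro ⟨g, hg⟩
    rw [mem_commutatorSet_iff] at hg
    obtain ⟨g₁, g₂, rfl⟩ := hg
    refine ⟨(QuotientGroup.mk g₁, QuotientGroup.mk g₂), ?_⟩
    apply Subtype.ext
    show ⁅(QuotientGroup.mk g₁ : G ⧸ Subgroup.center G).out,
      (QuotientGroup.mk g₂ : G ⧸ Subgroup.center G).out⁆ = ⁅g₁, g₂⁆
    obtain ⟨z₁, hz₁⟩ := QuotientGroup.mk_out_eq_mul (Subgroup.center G) g₁
    obtain ⟨z₂, hz₂⟩ := QuotientGroup.mk_out_eq_mul (Subgroup.center G) g₂
    rw [hz₁, hz₂]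
    have c1 : ∀ g : G, g * (z₁ : G) = z₁ * g := fun g => Subgroup.mem_center_iff.1 z₁.2 g
    have c2 : ∀ g : G, g * (z₂ : G) = z₂ * g := fun g => Subgroup.mem_center_iff.1 z₂.2 g
    simp only [commutatorElement_def, mul_inv_rev]
    have e1 : (↑z₁ : G) * (g₂ * ↑z₂) = (g₂ * ↑z₂) * ↑z₁ := (c1 _).symm
    have e2 : (↑z₂ : G) * g₁⁻¹ = g₁⁻¹ * ↑z₂ := (c2 _).symm
    calc g₁ * ↑z₁ * (g₂ * ↑z₂) * ((↑z₁)⁻¹ * g₁⁻¹) * ((↑z₂)⁻¹ * g₂⁻¹)
        = g₁ * (↑z₁ * (g₂ * ↑z₂)) * (↑z₁)⁻¹ * g₁⁻¹ * (↑z₂)⁻¹ * g₂⁻¹ := by group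
      _ = g₁ * ((g₂ * ↑z₂) * ↑z₁) * (↑z₁)⁻¹ * g₁⁻¹ * (↑z₂)⁻¹ * g₂⁻¹ := by rw [e1]
      _ = g₁ * g₂ * (↑z₂ * g₁⁻¹) * (↑z₂)⁻¹ * g₂⁻¹ := by group
      _ = g₁ * g₂ * (g₁⁻¹ * ↑z₂) * (↑z₂)⁻¹ * g₂⁻¹ := by rw [e2]
      _ = g₁ * g₂ * g₁⁻¹ * g₂⁻¹ := by group
  calc Nat.card (commutatorSet G)
      ≤ Nat.card ((G ⧸ Subgroup.center G) × (G ⧸ Subgroup.center G)) :=
        Nat.card_le_card_of_surjective f hf
    _ = (Subgroup.center G).index * (Subgroup.center G).index := by
        rw [Nat.card_prod, Subgroup.index_eq_card]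

/-- Schur's bound for the order of the commutator subgroup in terms of the index of the centre. -/
def schurBd (B : ℕ) : ℕ := B ^ (B * (B * B) + 1)

theorem card_commutator_le_schurBd (G : Type*) [Group G] [Finite G] (B : ℕ)
    (hB : (Subgroup.center G).index ≤ B) : Nat.card (commutator G) ≤ schurBd B := by
  have hpos : 0 < (Subgroup.center G).index := Nat.pos_of_ne_zero (Subgroup.index_ne_zero_of_finite)
  have h1 := Subgroup.card_commutator_dvd_index_center_pow G
  have h2 := Nat.le_of_dvd (pow_pos hpos _) h1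
  refine h2.trans ?_
  unfold schurBd
  calc (Subgroup.center G).index ^ ((Subgroup.center G).index * Nat.card (commutatorSet G) + 1)
      ≤ B ^ ((Subgroup.center G).index * Nat.card (commutatorSet G) + 1) :=
        Nat.pow_le_pow_left hB _
    _ ≤ B ^ (B * (B * B) + 1) := by
        refine Nat.pow_le_pow_right (lt_of_lt_of_le hpos hB) ?_
        refine Nat.add_le_add_right ?_ _
        refine Nat.mul_le_mul hB ((card_commutatorSet_le G).trans (Nat.mul_le_mul hB hB))

end Cfsg.Agent.Lib.Helper23_InvBoundD
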