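import Mathlib
import Cfsg.Agent.Lib.Helper23_InvBoundD

/-!
# Groups generated by a class of involutions: odd-order inverted elements (part E)

The final bound, and its translation to a group with an involutory automorphism.
-/

set_option autoImplicit false

namespace Cfsg.Agent.Lib.Helper23_InvBoundE

open Subgroup Cfsg.Agent.Lib.Helper23_InvBoundA Cfsg.Agent.Lib.Helper23_InvBoundB
  Cfsg.Agent.Lib.Helper23_InvBoundC Cfsg.Agent.Lib.Helper23_InvBoundD

open scoped commutatorElement

universe u

variable {Γ : Type u} [Group Γ]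

/-- **Endgame** (Schur).  If `Γ / Y` is bounded with `Y` centralising `KS a`, then `Γ` is
bounded. -/
theorem card_le_of_central [Finite Γ] {a : Γ} (h : Hyp a) {Y : Subgroup Γ} [hY : Y.Normal]
    (hYc : Y ≤ Subgroup.centralizer (KS a)) (B : ℕ) (hB : Y.index ≤ B) :
    Nat.card Γ ≤ 2 * (KS a).ncard * schurBd B := by
  set H : Subgroup Γ := Subgroup.closure (KS a) with hH
  have hHn : H.Normal := G0_normal h
  set D : Subgroup Γ := ⁅H, H⁆ with hD
  have hDn : D.Normal := inferInstance
  -- (a) the order of `D`
  have hDcard : Nat.card D ≤ schurBd B := by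
    have e : Nat.card D = Nat.card (commutator H) := by
      rw [hD, ← Subgroup.map_subtype_commutator]
      exact Subgroup.card_map_of_injective H.subtype_injective
    rw [e]
    apply card_commutator_le_schurBd
    have hle : Y.subgroupOf H ≤ Subgroup.center H := by
      intro y hy
      rw [Subgroup.mem_subgroupOf] at hy
      rw [Subgroup.mem_center_iff]
      intro g
      apply Subtype.ext
      show (g : Γ) * y = y * g
      have hcl : Subgroup.closure (KS a) ≤ Subgroup.centralizer {(y : Γ)} := by
        rw [Subgroup.closure_le]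
        intro x hx
        rw [SetLike.mem_coe, Subgroup.mem_centralizer_iff]
        intro z hz
        rw [Set.mem_singleton_iff] at hz
        subst hz
        have := hYc hy
        rw [Subgroup.mem_centralizer_iff] at this
        exact (this x hx).symm
      have := hcl g.2
      rw [Subgroup.mem_centralizer_iff] at this
      exact (this _ rfl).symm
    have h1 : (Subgroup.center H).index ∣ (Y.subgroupOf H).index := Subgroup.index_dvd_of_le hle
    have h2 : (Y.subgroupOf H).index ∣ Y.index := Subgroup.relIndex_dvd_index_of_normal Y H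
    have hpos : 0 < Y.index := Nat.pos_of_ne_zero Subgroup.index_ne_zero_of_finite
    exact (Nat.le_of_dvd hpos (h1.trans h2)).trans hB
  -- (b) the quotient by `D`
  have hφ : Function.Surjective (QuotientGroup.mk' D) := QuotientGroup.mk'_surjective D
  have hyp' : Hyp (QuotientGroup.mk' D a) := h.map _ hφ
  have hm' : (KS (QuotientGroup.mk' D a)).ncard ≤ (KS a).ncard := ncard_KS_map_le h _ hφ
  have hclle : Subgroup.closure (KS (QuotientGroup.mk' D a)) ≤ H.map (QuotientGroup.mk' D) := by
    rw [Subgroup.closure_le]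
    intro y hy
    obtain ⟨x, hx, rfl⟩ := KS_subset_image h _ hφ hy
    exact ⟨x, Subgroup.subset_closure hx, rfl⟩
  have hab : ∀ x ∈ Subgroup.closure (KS (QuotientGroup.mk' D a)),
      ∀ y ∈ Subgroup.closure (KS (QuotientGroup.mk' D a)), x * y = y * x := by
    intro x hx y hy
    obtain ⟨x₀, hx₀, rfl⟩ := hclle hx
    obtain ⟨y₀, hy₀, rfl⟩ := hclle hy
    have hc : ⁅x₀, y₀⁆ ∈ D := Subgroup.commutator_mem_commutator hx₀ hy₀
    have h1 : QuotientGroup.mk' D ⁅x₀, y₀⁆ = 1 := by
      rw [QuotientGroup.mk'_apply, QuotientGroup.eq_one_iff]; exact hc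
    rw [commutatorElement_def, map_mul, map_mul, map_mul, map_inv, map_inv] at h1
    calc QuotientGroup.mk' D x₀ * QuotientGroup.mk' D y₀
        = (QuotientGroup.mk' D x₀ * QuotientGroup.mk' D y₀ * (QuotientGroup.mk' D x₀)⁻¹ *
            (QuotientGroup.mk' D y₀)⁻¹) * (QuotientGroup.mk' D y₀ * QuotientGroup.mk' D x₀) := by
          group
      _ = QuotientGroup.mk' D y₀ * QuotientGroup.mk' D x₀ := by rw [h1, one_mul]
  have hsub := closure_KS_subset_of_abelian hab
  have hcl_card : Nat.card (Subgroup.closure (KS (QuotientGroup.mk' D a))) ≤ (KS a).ncard := by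
    have : ((Subgroup.closure (KS (QuotientGroup.mk' D a)) : Subgroup (Γ ⧸ D)) : Set (Γ ⧸ D)) ⊆
        KS (QuotientGroup.mk' D a) := fun g hg => hsub g hg
    have h1 := Set.ncard_le_ncard this (Set.toFinite _)
    rw [← Nat.card_coe_set_eq] at h1
    exact h1.trans hm'
  have hquot : Nat.card (Γ ⧸ D) ≤ (KS a).ncard * 2 := by
    have h1 := Subgroup.card_mul_index (Subgroup.closure (KS (QuotientGroup.mk' D a)))
    rw [← h1]
    exact Nat.mul_le_mul hcl_card (G0_index_le hyp')
  -- (c) combine
  have h1 := Subgroup.card_mul_index D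
  rw [Subgroup.index_eq_card] at h1
  calc Nat.card Γ = Nat.card D * Nat.card (Γ ⧸ D) := h1.symm
    _ ≤ schurBd B * ((KS a).ncard * 2) := Nat.mul_le_mul hDcard hquot
    _ = 2 * (KS a).ncard * schurBd B := by ring

/-- **The bound.** -/
theorem exists_bound : ∀ m : ℕ, ∃ b : ℕ, ∀ (Γ : Type u) [Group Γ] [Finite Γ] (a : Γ), Hyp a →
    (KS a).ncard ≤ m → Nat.card Γ ≤ b := by
  intro m
  induction m with
  | zero =>
    refine ⟨0, ?_⟩
    intro Γ _ _ a _ hm
    have := ncard_KS_pos a
    omega
  | succ m ih =>
    obtain ⟨b, hb⟩ := ih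
    refine ⟨2 * (m + 1) * schurBd (2 + b * bdN (m + 1) b), ?_⟩
    intro Γ _ _ a h hm
    obtain ⟨Y, hYn, hYc, hYG, hYmax⟩ := exists_central_Y h
    have hφ : Function.Surjective (QuotientGroup.mk' Y) := QuotientGroup.mk'_surjective Y
    have hyp' : Hyp (QuotientGroup.mk' Y a) := h.map _ hφ
    have hm' : (KS (QuotientGroup.mk' Y a)).ncard ≤ m + 1 := (ncard_KS_map_le h _ hφ).trans hm
    have hZ : ∀ g ∈ Subgroup.closure (KS (QuotientGroup.mk' Y a)), g ∈ center (Γ ⧸ Y) → g = 1 := by
      intro g hg hgc
      have hclle : Subgroup.closure (KS (QuotientGroup.mk' Y a)) ≤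
          (Subgroup.closure (KS a)).map (QuotientGroup.mk' Y) := by
        rw [Subgroup.closure_le]
        intro y hy
        obtain ⟨x, hx, rfl⟩ := KS_subset_image h _ hφ hy
        exact ⟨x, Subgroup.subset_closure hx, rfl⟩
      obtain ⟨n, hn, rfl⟩ := hclle hg
      have hnY : n ∈ Y := by
        apply hYmax n hn
        intro g'
        rw [← QuotientGroup.eq_one_iff]
        have e : ((n * g' * n⁻¹ * g'⁻¹ : Γ) : Γ ⧸ Y) =
            QuotientGroup.mk' Y n * QuotientGroup.mk' Y g' * (QuotientGroup.mk' Y n)⁻¹ *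
              (QuotientGroup.mk' Y g')⁻¹ := by
          simp only [QuotientGroup.mk'_apply, QuotientGroup.mk_mul, QuotientGroup.mk_inv]
        rw [e, ← (Subgroup.mem_center_iff.1 hgc) (QuotientGroup.mk' Y g')]
        group
      rw [QuotientGroup.mk'_apply, QuotientGroup.eq_one_iff]
      exact hnY
    have hcard : Nat.card (Γ ⧸ Y) ≤ 2 + b * bdN (m + 1) b :=
      main_step hyp' m b hm' hZ hb
    have hidx : Y.index ≤ 2 + b * bdN (m + 1) b := by
      rw [Subgroup.index_eq_card]; exact hcard
    refine (card_le_of_central h hYc _ hidx).trans ?_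
    exact Nat.mul_le_mul_right _ (Nat.mul_le_mul_left _ hm)

section translate

open SemidirectProduct Cfsg.Agent.Lib.Helper73_IterComm

variable {G : Type u} [Group G]

/-- **S3928-type statement**: the order of a finite group `G` with an automorphism `α` of order
two and `[G, α] = G` is bounded in terms of the number of odd-order elements inverted by `α`. -/
theorem card_le_of_aut [Finite G] (α : MulAut G) (hα : α * α = 1)
    (hG : Subgroup.closure (Set.range (fun c : G => c * (α c)⁻¹)) = ⊤) (b : ℕ)
    (hb : ∀ (Γ : Type u) [Group Γ] [Finite Γ] (a : Γ), Hyp a →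
      (KS a).ncard ≤ Nat.card {g : G // Odd (orderOf g) ∧ α g = g⁻¹} → Nat.card Γ ≤ b) :
    Nat.card G ≤ b := by
  have hfin : Finite (Gam α) :=
    Finite.of_equiv _ (equivProd (φ := (Subgroup.zpowers α).subtype)).symm
  have hsq : aEl α * aEl α = 1 := by
    rw [aEl, ← map_mul]
    have : (⟨α, Subgroup.mem_zpowers α⟩ : Subgroup.zpowers α) * ⟨α, Subgroup.mem_zpowers α⟩ = 1 :=
      Subtype.ext hα
    rw [this, map_one]
  have hyp : Hyp (aEl α) := ⟨hsq, normalClosure_aEl α hG⟩
  -- elements of `zpowers α` square to one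
  have hzsq : ∀ r : Subgroup.zpowers α, r * r = 1 := by
    rintro ⟨r, z, rfl⟩
    apply Subtype.ext
    show α ^ z * α ^ z = 1
    rw [← zpow_add, ← two_mul, zpow_mul, zpow_two, hα, one_zpow]
  have hKS : KS (aEl α) ⊆ (inl : G →* Gam α) '' {g : G | Odd (orderOf g) ∧ α g = g⁻¹} := by
    intro x hx
    have hr : x.right = 1 := by
      have h1 : orderOf x.right ∣ orderOf x := by
        have : x.right = rightHom x := rfl
        rw [this]
        exact orderOf_map_dvd _ x
      have h2 : orderOf x.right ∣ 2 :=
        orderOf_dvd_of_pow_eq_one (by rw [pow_two]; exact hzsq _)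
      have h3 : Odd (orderOf x.right) := Odd.of_dvd_nat hx.1 h1
      have h4 : orderOf x.right = 1 := by
        rcases (Nat.dvd_prime Nat.prime_two).1 h2 with h | h
        · exact h
        · exfalso; rw [h] at h3; exact (by decide : ¬ Odd 2) h3
      exact orderOf_eq_one_iff.1 h4
    have hxl : (inl x.left : Gam α) = x := by
      have := inl_left_mul_inr_right x
      rw [hr, map_one, mul_one] at this
      exact this
    refine ⟨x.left, ⟨?_, ?_⟩, hxl⟩
    · have : orderOf (inl x.left : Gam α) = orderOf x.left :=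
        orderOf_injective (inl : G →* Gam α) inl_injective x.left
      rw [← this, hxl]
      exact hx.1
    · have h1 := hx.2
      rw [← hxl, aEl_conj, ← map_inv] at h1
      exact inl_injective h1
  have hncard : (KS (aEl α)).ncard ≤ Nat.card {g : G // Odd (orderOf g) ∧ α g = g⁻¹} := by
    calc (KS (aEl α)).ncard
        ≤ ((inl : G →* Gam α) '' {g : G | Odd (orderOf g) ∧ α g = g⁻¹}).ncard :=
          Set.ncard_le_ncard hKS (Set.toFinite _)
      _ ≤ ({g : G | Odd (orderOf g) ∧ α g = g⁻¹} : Set G).ncard :=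
          Set.ncard_image_le (Set.toFinite _)
      _ = Nat.card {g : G // Odd (orderOf g) ∧ α g = g⁻¹} := by
          rw [← Nat.card_coe_set_eq]; rfl
  have h1 : Nat.card G ≤ Nat.card (Gam α) :=
    Nat.card_le_card_of_injective (inl : G →* Gam α) inl_injective
  exact h1.trans (hb (Gam α) (aEl α) hyp hncard)

end translate

end Cfsg.Agent.Lib.Helper23_InvBoundE
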