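import Cfsg.Agent.Lib.Helper23_CharP

/-!
# `p`-local subgroups of `p`-constrained groups (helper23)

* `normalizer_map_mk_le`: modulo a normal `p'`-subgroup, normalizers of `p`-subgroups map onto
  normalizers;
* `IsCharP.pPrimeCore_eq_bot`;
* `pLayer_normalizer_eq_bot`, `pPrimeCore_normalizer_le`: if `L_{p'}(G) = 1` then `L_{p'}(N_G(P)) = 1`
  and `O_{p'}(N_G(P)) ≤ O_{p'}(G)` for every `p`-subgroup `P`.
-/

set_option autoImplicit false

namespace Cfsg.Agent.Lib.Helper23_Locals

open Cfsg Cfsg.Agent.Lib.Helper49_CharP Cfsg.Agent.Lib.Helper23_Layer Cfsg.Agent.Lib.Helper23_PComp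
  Cfsg.Agent.Lib.Helper23_CharP

theorem cj_mul {G : Type*} [Group G] (a b : G) (A : Subgroup G) :
    cj (a * b) A = cj a (cj b A) := by
  ext x
  rw [mem_cj, mem_cj, mem_cj]
  have : (a * b)⁻¹ * x * (a * b) = b⁻¹ * (a⁻¹ * x * a) * b := by group
  rw [this]

theorem cj_inv_cj {G : Type*} [Group G] (a : G) (A : Subgroup G) : cj a⁻¹ (cj a A) = A := by
  rw [← cj_mul, inv_mul_cancel]
  ext x
  rw [mem_cj]
  simp

/-- Modulo a normal `p'`-subgroup `O`, the normalizer of the image of a `p`-subgroup `P` is the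
image of the normalizer of `P`. -/
theorem normalizer_map_mk_le {G : Type*} [Group G] [Finite G] {p : ℕ} [Fact p.Prime]
    (O : Subgroup G) [O.Normal] (hO : (Nat.card O).Coprime p) (P : Subgroup G) (hP : IsPGroup p P) :
    Subgroup.normalizer ((P.map (QuotientGroup.mk' O) : Subgroup (G ⧸ O)) : Set (G ⧸ O)) ≤
      (Subgroup.normalizer (P : Set G)).map (QuotientGroup.mk' O) := by
  intro ybar hybar
  obtain ⟨y, rfl⟩ := QuotientGroup.mk'_surjective O ybar
  have h1 : (cj y P).map (QuotientGroup.mk' O) = P.map (QuotientGroup.mk' O) := by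
    rw [map_cj]
    exact cj_eq_of_mem_normalizer hybar
  have h2 : cj y P ≤ O ⊔ P := by
    have := Subgroup.le_comap_map (QuotientGroup.mk' O) (cj y P)
    rw [h1, Subgroup.comap_map_eq, QuotientGroup.ker_mk', sup_comm] at this
    exact this
  have hcop : (Nat.card P).Coprime (Nat.card O) := by
    obtain ⟨n, hn⟩ := IsPGroup.iff_card.mp hP
    rw [hn]
    exact (Nat.Coprime.pow_right n hO).symm
  have hsolv : Group.IsSolvable ↥P := by
    have : Group.IsNilpotent ↥P := hP.isNilpotent
    infer_instance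
  obtain ⟨k, hk, hkP⟩ := Cfsg.Agent.Lib.Helper24_CoprimeAction.sz_rel_conj P O (cj y P)
    (by rw [Subgroup.normalizer_eq_top]; exact le_top) hcop (Or.inl hsolv) h2 (card_cj y P)
  have hnorm : k⁻¹ * y ∈ Subgroup.normalizer (P : Set G) := by
    apply mem_normalizer_of_cj_eq
    rw [cj_mul, ← hkP]
    exact cj_inv_cj k P
  refine ⟨k⁻¹ * y, hnorm, ?_⟩
  have hk1 : QuotientGroup.mk' O k = 1 := by
    rw [QuotientGroup.mk'_apply, QuotientGroup.eq_one_iff]; exact hk
  rw [map_mul, map_inv, hk1, inv_one, one_mul]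

/-- A group of characteristic `p` has trivial `p'`-core. -/
theorem IsCharP.pPrimeCore_eq_bot {A : Type*} [Group A] [Finite A] {p : ℕ} [Fact p.Prime]
    (hA : IsCharP p A) : pPrimeCore p A = ⊥ := by
  have hQn : (pCore p A).Normal := pCoreNormal p A
  have hdisj : Disjoint (pPrimeCore p A) (pCore p A) := by
    apply Subgroup.disjoint_of_coprime_natCard
    obtain ⟨b, hb⟩ := IsPGroup.iff_card.mp (pCore_isPGroup p A)
    rw [hb]
    exact Nat.Coprime.pow_right b (pPrimeCore_coprime p)
  have hcomm : ⁅pPrimeCore p A, pCore p A⁆ = ⊥ := by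
    have := Subgroup.commutator_le_inf (pPrimeCore p A) (pCore p A)
    rwa [hdisj.eq_bot, le_bot_iff] at this
  rw [Subgroup.commutator_eq_bot_iff_le_centralizer] at hcomm
  have hle : pPrimeCore p A ≤ pCore p A := hcomm.trans hA
  have : pPrimeCore p A ≤ pPrimeCore p A ⊓ pCore p A := le_inf le_rfl hle
  rw [hdisj.eq_bot] at this
  exact le_bot_iff.mp this

/-- If `L_{p'}(G) = 1` and `P` is a `p`-subgroup, then `L_{p'}(N_G(P)) = 1` and
`O_{p'}(N_G(P)) ≤ O_{p'}(G)`. -/
theorem local_of_pLayer_eq_bot {G : Type*} [Group G] [Finite G] (p : ℕ) [Fact p.Prime]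
    (hL : pLayer p G = ⊥) (P : Subgroup G) (hP : IsPGroup p P) :
    pLayer p ↥(Subgroup.normalizer (P : Set G)) = ⊥ ∧
      (pPrimeCore p ↥(Subgroup.normalizer (P : Set G))).map
        (Subgroup.normalizer (P : Set G)).subtype ≤ pPrimeCore p G := by
  have hGbar : IsCharP p (G ⧸ pPrimeCore p G) := (pLayer_eq_bot_iff_isCharP G p).mp hL
  have hNbar : IsCharP p ↥((Subgroup.normalizer (P : Set G)).map
      (QuotientGroup.mk' (pPrimeCore p G))) :=
    IsCharP.of_local hGbar (P.map (QuotientGroup.mk' (pPrimeCore p G))) _ (hP.map _)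
      (Subgroup.map_mono Subgroup.le_normalizer) (Subgroup.le_normalizer_map _)
      (inf_le_right.trans ((Subgroup.centralizer_le_normalizer _).trans
        (normalizer_map_mk_le (pPrimeCore p G) (pPrimeCore_coprime p) P hP)))
  have hφ : Function.Surjective ((QuotientGroup.mk' (pPrimeCore p G)).subgroupMap
      (Subgroup.normalizer (P : Set G))) := MonoidHom.subgroupMap_surjective _ _
  have hker : ((QuotientGroup.mk' (pPrimeCore p G)).subgroupMap
      (Subgroup.normalizer (P : Set G))).ker =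
      (pPrimeCore p G).subgroupOf (Subgroup.normalizer (P : Set G)) := by
    rw [Subgroup.ker_subgroupMap, QuotientGroup.ker_mk']
  have h1 : pPrimeCore p ↥(Subgroup.normalizer (P : Set G)) ≤
      ((QuotientGroup.mk' (pPrimeCore p G)).subgroupMap (Subgroup.normalizer (P : Set G))).ker := by
    rw [← MonoidHom.comap_bot, ← Subgroup.map_le_iff_le_comap,
      ← IsCharP.pPrimeCore_eq_bot hNbar]
    apply le_pPrimeCore (Subgroup.Normal.map inferInstance _ hφ)
    exact Nat.Coprime.coprime_dvd_left (Subgroup.card_map_dvd _ _) (pPrimeCore_coprime p)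
  have h2 : ((QuotientGroup.mk' (pPrimeCore p G)).subgroupMap
      (Subgroup.normalizer (P : Set G))).ker ≤ pPrimeCore p ↥(Subgroup.normalizer (P : Set G)) := by
    apply le_pPrimeCore (MonoidHom.normal_ker _)
    rw [hker]
    exact Nat.Coprime.coprime_dvd_left
      (Subgroup.card_comap_dvd_of_injective _ _ (Subgroup.subtype_injective _))
      (pPrimeCore_coprime p)
  have heq := le_antisymm h1 h2
  constructor
  · rw [pLayer_eq_bot_iff_isCharP]
    exact IsCharP.of_mulEquiv ((QuotientGroup.quotientMulEquivOfEq heq).trans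
      (QuotientGroup.quotientKerEquivOfSurjective _ hφ)).symm hNbar
  · rintro _ ⟨x, hx, rfl⟩
    have := h1 hx
    rw [hker, Subgroup.mem_subgroupOf] at this
    exact this

end Cfsg.Agent.Lib.Helper23_Locals
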