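import Cfsg.Agent.Lib.Helper23_LocalLayer

/-!
# Inheritance of `L_{p'} = 1` (`p`-constraint) (helper23)

* `pLayer_eq_bot_of_mulEquiv`: transport along isomorphisms;
* `pLayer_eq_bot_of_surjective`: a group mapping onto a group of characteristic `p` with kernel of order
  prime to `p` has trivial `p`-layer;
* `pLayer_normalizer_inf_eq_bot`: `N_C(T)` for a `p`-subgroup `T ≤ C`;
* `pLayer_eq_bot_of_isSubnormal`: subnormal subgroups;
* `IsPComponent.pLayer_ne_bot`: a `p`-component does not have trivial `p`-layer.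
-/

set_option autoImplicit false

namespace Cfsg.Agent.Lib.Helper23_PCLocal

open Cfsg Cfsg.Agent.Lib.Helper49_CharP Cfsg.Agent.Lib.Helper23_Layer Cfsg.Agent.Lib.Helper23_PComp
  Cfsg.Agent.Lib.Helper23_CharP Cfsg.Agent.Lib.Helper23_Locals

theorem pLayer_eq_bot_of_mulEquiv {A B : Type*} [Group A] [Group B] [Finite A] (p : ℕ)
    [Fact p.Prime] (e : A ≃* B) (h : pLayer p A = ⊥) : pLayer p B = ⊥ := by
  rw [← pLayer_map_equiv p e, h, Subgroup.map_bot]

/-- A finite group mapping onto a group of characteristic `p` with kernel of order prime to `p` has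
trivial `p`-layer, and the kernel is its `p'`-core. -/
theorem pLayer_eq_bot_of_surjective {N B : Type*} [Group N] [Finite N] [Group B] (p : ℕ)
    [Fact p.Prime] (φ : N →* B) (hφ : Function.Surjective φ) (hker : (Nat.card ↥φ.ker).Coprime p)
    (hB : IsCharP p B) : pLayer p N = ⊥ ∧ pPrimeCore p N = φ.ker := by
  have : Finite B := Finite.of_surjective φ hφ
  have h1 : pPrimeCore p N ≤ φ.ker := by
    rw [← MonoidHom.comap_bot, ← Subgroup.map_le_iff_le_comap, ← IsCharP.pPrimeCore_eq_bot hB]
    apply le_pPrimeCore (Subgroup.Normal.map inferInstance _ hφ)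
    exact Nat.Coprime.coprime_dvd_left (Subgroup.card_map_dvd _ _) (pPrimeCore_coprime p)
  have h2 : φ.ker ≤ pPrimeCore p N := le_pPrimeCore (MonoidHom.normal_ker _) hker
  have heq := le_antisymm h1 h2
  refine ⟨?_, heq⟩
  rw [pLayer_eq_bot_iff_isCharP]
  exact IsCharP.of_mulEquiv ((QuotientGroup.quotientMulEquivOfEq heq).trans
    (QuotientGroup.quotientKerEquivOfSurjective _ hφ)).symm hB

variable {G : Type*} [Group G]

/-- `N_C(T)` has trivial `p`-layer when `C` has and `T ≤ C` is a `p`-subgroup. -/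
theorem pLayer_normalizer_inf_eq_bot [Finite G] (p : ℕ) [Fact p.Prime] {T C : Subgroup G}
    (hC : pLayer p ↥C = ⊥) (hTC : T ≤ C) (hT : IsPGroup p ↥T) :
    pLayer p ↥(Subgroup.normalizer (T : Set G) ⊓ C : Subgroup G) = ⊥ := by
  have h1 := (local_of_pLayer_eq_bot p hC (T.subgroupOf C) hT.comap_subtype).1
  rw [← Subgroup.subgroupOf_normalizer_eq hTC, ← Subgroup.inf_subgroupOf_right] at h1
  exact pLayer_eq_bot_of_mulEquiv p (Subgroup.subgroupOfEquivOfLe inf_le_right) h1

/-- Subnormal subgroups of a group with trivial `p`-layer have trivial `p`-layer. -/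
theorem pLayer_eq_bot_of_isSubnormal {H : Type*} [Group H] [Finite H] (p : ℕ) [Fact p.Prime]
    (hH : pLayer p H = ⊥) (J : Subgroup H) (hJ : J.IsSubnormal) : pLayer p ↥J = ⊥ := by
  have hHbar : IsCharP p (H ⧸ pPrimeCore p H) := (pLayer_eq_bot_iff_isCharP H p).mp hH
  have hJbar : (J.map (QuotientGroup.mk' (pPrimeCore p H))).IsSubnormal :=
    hJ.map (QuotientGroup.mk'_surjective _)
  have hchar := hHbar.of_isSubnormal _ hJbar
  have hφ : Function.Surjective ((QuotientGroup.mk' (pPrimeCore p H)).subgroupMap J) :=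
    MonoidHom.subgroupMap_surjective _ _
  have hker : (Nat.card ↥((QuotientGroup.mk' (pPrimeCore p H)).subgroupMap J).ker).Coprime p := by
    rw [Subgroup.ker_subgroupMap, QuotientGroup.ker_mk']
    exact Nat.Coprime.coprime_dvd_left
      (Subgroup.card_comap_dvd_of_injective _ _ (Subgroup.subtype_injective _))
      (pPrimeCore_coprime p)
  exact (pLayer_eq_bot_of_surjective p _ hφ hker hchar).1

/-- A `p`-component does not have trivial `p`-layer. -/
theorem IsPComponent.pLayer_ne_bot {N : Type*} [Group N] [Finite N] (p : ℕ) [Fact p.Prime]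
    {J : Subgroup N} (hJ : IsPComponent p J) : pLayer p ↥J ≠ ⊥ := by
  intro hbot
  have hchar : IsCharP p (↥J ⧸ pPrimeCore p ↥J) := (pLayer_eq_bot_iff_isCharP ↥J p).mp hbot
  have hφ : Function.Surjective ((QuotientGroup.mk' (pPrimeCore p N)).subgroupMap J) :=
    MonoidHom.subgroupMap_surjective _ _
  have hker : ((QuotientGroup.mk' (pPrimeCore p N)).subgroupMap J).ker =
      (pPrimeCore p N).subgroupOf J := by
    rw [Subgroup.ker_subgroupMap, QuotientGroup.ker_mk']
  have h1 : pPrimeCore p ↥J ≤ ((QuotientGroup.mk' (pPrimeCore p N)).subgroupMap J).ker := by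
    rw [hker]
    have hsn : ((pPrimeCore p ↥J).map J.subtype).IsSubnormal :=
      Subgroup.IsSubnormal.trans' (Subgroup.Normal.isSubnormal inferInstance) hJ.1
    have hc : (Nat.card ↥((pPrimeCore p ↥J).map J.subtype)).Coprime p := by
      rw [Subgroup.card_map_of_injective (Subgroup.subtype_injective _)]
      exact pPrimeCore_coprime p
    have hle := subnormal_coprime_le_pPrimeCore p hsn hc
    intro x hx
    rw [Subgroup.mem_subgroupOf]
    exact hle ⟨x, hx, rfl⟩
  have h2 : ((QuotientGroup.mk' (pPrimeCore p N)).subgroupMap J).ker ≤ pPrimeCore p ↥J := by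
    apply le_pPrimeCore (MonoidHom.normal_ker _)
    rw [hker]
    exact Nat.Coprime.coprime_dvd_left
      (Subgroup.card_comap_dvd_of_injective _ _ (Subgroup.subtype_injective _))
      (pPrimeCore_coprime p)
  have heq := le_antisymm h1 h2
  have hchar' : IsCharP p ↥(J.map (QuotientGroup.mk' (pPrimeCore p N))) :=
    IsCharP.of_mulEquiv ((QuotientGroup.quotientMulEquivOfEq heq).trans
      (QuotientGroup.quotientKerEquivOfSurjective _ hφ)) hchar
  have hlayer := IsCharP.layer_eq_bot hchar'
  have hcomp : IsComponent (⊤ : Subgroup ↥(J.map (QuotientGroup.mk' (pPrimeCore p N)))) :=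
    ⟨Subgroup.IsSubnormal.top,
      Cfsg.Agent.Lib.Helper29_Local.isQuasisimple_of_mulEquiv Subgroup.topEquiv.symm hJ.2.1.2⟩
  have hle := Cfsg.Agent.Lib.Helper29_Local.IsComponent.le_layer hcomp
  rw [hlayer] at hle
  exact Cfsg.Agent.Lib.Helper21_Components.IsComponent.not_le_of_isSolvable hcomp
    (H := ⊥) inferInstance hle

end Cfsg.Agent.Lib.Helper23_PCLocal
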