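import Mathlib
import Cfsg.Prelude.Def_Characters

/-!
# S4707 package PK-D (helper23 for helper15)

A short suborbit exists: if every point `b ≠ a₀` had a suborbit of length `(a+1)(2a+1)` then `(a+1)(2a+1)` would
divide `2p - 1 = (2a+1)^2`.
-/

set_option autoImplicit false
set_option linter.unusedSectionVars false
set_option linter.unusedVariables false

open Cfsg MulAction

namespace Cfsg.Agent.Lib.Helper23_S4707_D

/-- a group `H` fixing `a₀` all of whose other orbits have length `N`: `N` divides `|α| - 1` -/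
theorem dvd_card_sub_one {H : Type*} [Group H] {α : Type*} [Fintype α] [DecidableEq α] [MulAction H α]
    (a₀ : α) (hfix : ∀ h : H, h • a₀ = a₀) (N : ℕ)
    (horb : ∀ b : α, b ≠ a₀ → Nat.card (MulAction.orbit H b) = N) :
    N ∣ Fintype.card α - 1 := by
  classical
  have hcard : Fintype.card α = ∑ ω : MulAction.orbitRel.Quotient H α,
      Nat.card (MulAction.orbit H (Quotient.out ω)) := by
    rw [← Nat.card_eq_fintype_card, Nat.card_congr (MulAction.selfEquivSigmaOrbits H α), Nat.card_sigma]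
  obtain ⟨ω₀, hω₀⟩ : ∃ ω₀ : MulAction.orbitRel.Quotient H α, ω₀ = Quotient.mk'' a₀ := ⟨_, rfl⟩
  have horb0 : MulAction.orbit H a₀ = {a₀} := by
    ext x
    rw [MulAction.mem_orbit_iff, Set.mem_singleton_iff]
    constructor
    · rintro ⟨h, rfl⟩
      exact hfix h
    · rintro rfl
      exact ⟨1, one_smul _ _⟩
  have hout0 : Quotient.out ω₀ = a₀ := by
    have h1 : (Quotient.mk'' (Quotient.out ω₀) : MulAction.orbitRel.Quotient H α) = Quotient.mk'' a₀ := by
      rw [← hω₀]
      exact Quotient.out_eq' ω₀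
    have h2 := Quotient.exact' h1
    change Quotient.out ω₀ ∈ MulAction.orbit H a₀ at h2
    rw [horb0] at h2
    exact h2
  have hne : ∀ ω : MulAction.orbitRel.Quotient H α, ω ≠ ω₀ → Quotient.out ω ≠ a₀ := by
    intro ω hω h
    apply hω
    rw [hω₀, ← h]
    exact (Quotient.out_eq' ω).symm
  rw [← Finset.add_sum_erase _ _ (Finset.mem_univ ω₀), hout0, horb0] at hcard
  have h1 : Nat.card ({a₀} : Set α) = 1 := by
    rw [Nat.card_eq_fintype_card]
    simp
  rw [h1] at hcard
  have h2 : ∑ ω ∈ Finset.univ.erase ω₀, Nat.card (MulAction.orbit H (Quotient.out ω)) =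
      ∑ ω ∈ Finset.univ.erase ω₀, N := by
    apply Finset.sum_congr rfl
    intro ω hω
    exact horb _ (hne ω (Finset.ne_of_mem_erase hω))
  rw [h2, Finset.sum_const, smul_eq_mul] at hcard
  rw [hcard, Nat.add_sub_cancel_left]
  exact Dvd.intro_left _ rfl

theorem pkD {α : Type*} [Fintype α] [DecidableEq α] {p : ℕ} (hα : Fintype.card α = 2 * p)
    (G : Subgroup (Equiv.Perm α)) (a₀ : α) (a : ℕ) (ha : 0 < a) (hpa : p = 2 * a ^ 2 + 2 * a + 1)
    (hsub : ∀ b : α, b ≠ a₀ →
      Nat.card (MulAction.orbit (MulAction.stabilizer G a₀) b) = a * (2 * a + 1) ∨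
      Nat.card (MulAction.orbit (MulAction.stabilizer G a₀) b) = (a + 1) * (2 * a + 1)) :
    ∃ b : α, b ≠ a₀ ∧ Nat.card (MulAction.orbit (MulAction.stabilizer G a₀) b) = a * (2 * a + 1) := by
  classical
  by_contra hcon
  push Not at hcon
  have horb : ∀ b : α, b ≠ a₀ →
      Nat.card (MulAction.orbit (MulAction.stabilizer G a₀) b) = (a + 1) * (2 * a + 1) := by
    intro b hb
    rcases hsub b hb with h | h
    · exact absurd h (hcon b hb)
    · exact h
  have hfix : ∀ h : MulAction.stabilizer G a₀, h • a₀ = a₀ := fun h => h.2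
  have hdvd := dvd_card_sub_one (H := MulAction.stabilizer G a₀) a₀ hfix _ horb
  rw [hα, hpa] at hdvd
  have e : 2 * (2 * a ^ 2 + 2 * a + 1) - 1 = (2 * a + 1) * (2 * a + 1) := by
    have : 2 * (2 * a ^ 2 + 2 * a + 1) = (2 * a + 1) * (2 * a + 1) + 1 := by ring
    omega
  rw [e] at hdvd
  have h1 : (a + 1) ∣ (2 * a + 1) := Nat.dvd_of_mul_dvd_mul_right (by omega) hdvd
  have h2 : (a + 1) ∣ 1 := by
    have h3 : (a + 1) ∣ 2 * (a + 1) := Dvd.intro_left _ rfl
    have h4 := (Nat.dvd_sub h3 h1)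
    have e2 : 2 * (a + 1) - (2 * a + 1) = 1 := by omega
    rwa [e2] at h4
  have := Nat.le_of_dvd one_pos h2
  omega

end Cfsg.Agent.Lib.Helper23_S4707_D
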