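import Mathlib
import Cfsg.Prelude.Def_Characters
import Cfsg.Agent.S0494

/-!
# S4707 package PK-G (helper23 for helper15): the endgame

`|G| = p (p-1) (p-2)`, `p = 2a² + 2a + 1` and a suborbit of length divisible by `2a + 1` force `a = 1`, `p = 5`,
`|G| = 60`; a primitive group of degree `10` and order `60` whose Sylow `5`-normalisers have order `10` is simple
(a proper non-trivial normal subgroup `N` is transitive, has index `2` by the Frattini argument, a self-normalising
Sylow `5`-subgroup, hence by Burnside's transfer theorem a normal subgroup of order `6` which is normal in `G` and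
cannot be transitive); `S0494` gives `A₅`.
-/

set_option autoImplicit false
set_option linter.unusedSectionVars false
set_option linter.unusedVariables false

open Cfsg MulAction

namespace Cfsg.Agent.Lib.Helper23_S4707_G

/-- the arithmetic: `2a + 1` divides `(p - 1)(p - 2)` only for `a = 1` -/
theorem arith (a p : ℕ) (ha : 0 < a) (hpa : p = 2 * a ^ 2 + 2 * a + 1)
    (hdvd : (2 * a + 1) ∣ (p - 1) * (p - 2)) : a = 1 := by
  obtain ⟨c, hc⟩ : ∃ c : ℕ, c + 1 = 2 * a ^ 2 + 2 * a := by
    have : 1 ≤ 2 * a ^ 2 + 2 * a := by nlinarith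
    exact ⟨2 * a ^ 2 + 2 * a - 1, by omega⟩
  have hp1 : p - 1 = c + 1 := by omega
  have hp2 : p - 2 = c := by omega
  rw [hp1, hp2] at hdvd
  have hm2 : (2 * a + 1) ^ 2 = 2 * c + 3 := by
    have : (2 * a + 1) ^ 2 = 2 * (2 * a ^ 2 + 2 * a) + 1 := by ring
    rw [this, ← hc]; ring
  have h1 : (2 * a + 1) ∣ 4 * ((c + 1) * c) + 4 * (2 * a + 1) ^ 2 :=
    Dvd.dvd.add (Dvd.dvd.mul_left hdvd 4) (Dvd.dvd.mul_left (dvd_pow_self _ two_ne_zero) 4)
  have h2 : 4 * ((c + 1) * c) + 4 * (2 * a + 1) ^ 2 = ((2 * a + 1) ^ 2) ^ 2 + 3 := by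
    rw [hm2]; ring
  rw [h2] at h1
  have h3 : (2 * a + 1) ∣ ((2 * a + 1) ^ 2) ^ 2 := dvd_pow (dvd_pow_self _ two_ne_zero) two_ne_zero
  have h4 : (2 * a + 1) ∣ 3 := (Nat.dvd_add_right h3).1 h1
  have h5 := Nat.le_of_dvd (by norm_num) h4
  omega

section simple

variable {G : Type*} [Group G] [Finite G]

/-- Sylow `5`-subgroups of a group of order dividing `60` and divisible by `5` have order `5` -/
theorem card_sylow_five {H : Type*} [Group H] [Finite H] [Fact (Nat.Prime 5)] (hc : Nat.card H ∣ 60)
    (h5 : 5 ∣ Nat.card H) (S : Sylow 5 H) : Nat.card S = 5 := by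
  obtain ⟨n, hn⟩ := IsPGroup.exists_card_eq S.2
  have h1 : Nat.card (S : Subgroup H) ∣ Nat.card H := Subgroup.card_subgroup_dvd_card _
  have h2 : ¬ 5 ∣ (S : Subgroup H).index := S.not_dvd_index
  have h3 := Subgroup.card_mul_index (S : Subgroup H)
  have hn' : Nat.card (S : Subgroup H) = 5 ^ n := hn
  rcases Nat.eq_zero_or_pos n with h0 | h0
  · exfalso
    rw [hn', h0, pow_zero, one_mul] at h3
    apply h2
    rw [h3]
    exact h5
  · rcases Nat.lt_or_ge n 2 with h1' | h1'
    · have : n = 1 := by omega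
      rw [hn', this, pow_one]
    · exfalso
      have h25 : 25 ∣ Nat.card H := by
        have : (5 : ℕ) ^ 2 ∣ 5 ^ n := pow_dvd_pow 5 h1'
        rw [hn'] at h1
        exact Dvd.dvd.trans (by norm_num at this ⊢; exact this) h1
      have : 25 ∣ 60 := Dvd.dvd.trans h25 hc
      omega

/-- a group of order `60` whose Sylow `5`-normalisers have order `10` and all of whose non-trivial normal subgroups
have order divisible by `10` is simple -/
theorem simple_of_card_sixty (hcard : Nat.card G = 60) [Fact (Nat.Prime 5)] (P : Sylow 5 G)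
    (hN : Nat.card (Subgroup.normalizer ((P : Subgroup G) : Set G)) = 10)
    (hquasi : ∀ N : Subgroup G, N.Normal → N ≠ ⊥ → 10 ∣ Nat.card N) : IsSimpleGroup G := by
  classical
  have hnt : Nontrivial G := by
    rw [← Finite.one_lt_card_iff_nontrivial, hcard]
    norm_num
  refine { exists_pair_ne := exists_pair_ne G, eq_bot_or_eq_top_of_normal := ?_ }
  intro N hNn
  by_contra hcon
  push Not at hcon
  obtain ⟨hbot, htop⟩ := hcon
  have h10 := hquasi N hNn hbot
  have hdvd60 : Nat.card N ∣ 60 := hcard ▸ Subgroup.card_subgroup_dvd_card N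
  have hNpos : 0 < Nat.card N := Nat.card_pos
  -- the possible orders
  have hNcases : Nat.card N = 10 ∨ Nat.card N = 20 ∨ Nat.card N = 30 := by
    have hne60 : Nat.card N ≠ 60 := by
      intro h
      apply htop
      exact Subgroup.eq_top_of_card_eq N (by rw [h, hcard])
    have hle : Nat.card N ≤ 60 := Nat.le_of_dvd (by norm_num) hdvd60
    obtain ⟨k, hk⟩ := h10
    have hk6 : k ∣ 6 := by
      rw [hk] at hdvd60
      exact Nat.dvd_of_mul_dvd_mul_left (by norm_num : 0 < 10) hdvd60
    have hkle : k ≤ 6 := Nat.le_of_dvd (by norm_num) hk6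
    interval_cases k <;> omega
  -- a Sylow `5`-subgroup of `N`
  obtain ⟨PN⟩ : Nonempty (Sylow 5 N) := inferInstance
  have h5N : 5 ∣ Nat.card N := Dvd.dvd.trans (by norm_num) h10
  have hPNcard : Nat.card PN = 5 := card_sylow_five hdvd60 h5N PN
  have hPcard : Nat.card P = 5 := card_sylow_five (by rw [hcard]) (by rw [hcard]; norm_num) P
  -- its image in `G`
  obtain ⟨Q, hQ⟩ : ∃ Q : Subgroup G, Q = Subgroup.map N.subtype (PN : Subgroup N) := ⟨_, rfl⟩
  have hQN : Q ≤ N := by
    rw [hQ]
    rintro _ ⟨x, -, rfl⟩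
    exact x.2
  have hQcard : Nat.card Q = 5 := by
    rw [hQ, Subgroup.card_map_of_injective N.subtype_injective]
    exact hPNcard
  have hQp : IsPGroup 5 Q := by
    rw [hQ]
    exact PN.2.map N.subtype
  obtain ⟨P', hP'⟩ := hQp.exists_le_sylow
  have hP'card : Nat.card P' = 5 := card_sylow_five (by rw [hcard]) (by rw [hcard]; norm_num) P'
  have hQP' : Q = (P' : Subgroup G) :=
    Subgroup.eq_of_le_of_card_ge hP' (by rw [hQcard]; exact le_of_eq hP'card)
  have hNQ : Nat.card (Subgroup.normalizer (Q : Set G)) = 10 := by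
    have e1 : Nat.card (Sylow 5 G) = (Subgroup.normalizer ((P' : Subgroup G) : Set G)).index :=
      Sylow.card_eq_index_normalizer P'
    have e2 : Nat.card (Sylow 5 G) = (Subgroup.normalizer ((P : Subgroup G) : Set G)).index :=
      Sylow.card_eq_index_normalizer P
    have e3 := Subgroup.card_mul_index (Subgroup.normalizer ((P' : Subgroup G) : Set G))
    have e4 := Subgroup.card_mul_index (Subgroup.normalizer ((P : Subgroup G) : Set G))
    rw [← e1, e2, ← e4, hN] at e3
    rw [hQP']
    have hpos : 0 < (Subgroup.normalizer ((P : Subgroup G) : Set G)).index := by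
      rcases Nat.eq_zero_or_pos (Subgroup.normalizer ((P : Subgroup G) : Set G)).index with h | h
      · rw [h, mul_zero, hcard] at e4
        omega
      · exact h
    exact Nat.eq_of_mul_eq_mul_right hpos e3
  -- the Frattini argument
  obtain ⟨NQ, hNQdef⟩ : ∃ NQ : Subgroup G, NQ = Subgroup.normalizer (Q : Set G) := ⟨_, rfl⟩
  rw [← hNQdef] at hNQ
  have hfrat : NQ ⊔ N = ⊤ := by
    rw [hNQdef, hQ]
    exact Sylow.normalizer_sup_eq_top PN
  have hidx : N.index = (N.subgroupOf NQ).index := by
    have h := Subgroup.relIndex_sup_right NQ N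
    rw [hfrat, Subgroup.relIndex_top_right] at h
    exact h
  have hQNQ : Q ≤ NQ := by
    rw [hNQdef]
    exact Subgroup.le_normalizer
  obtain ⟨X, hX⟩ : ∃ X : Subgroup G, X = N ⊓ NQ := ⟨_, rfl⟩
  have hQX : Q ≤ X := by
    rw [hX]
    exact le_inf hQN hQNQ
  have hXNQ : X ≤ NQ := by
    rw [hX]
    exact inf_le_right
  have hXN : X ≤ N := by
    rw [hX]
    exact inf_le_left
  have hXcard' : Nat.card X = Nat.card (N.subgroupOf NQ) := by
    rw [← Subgroup.inf_subgroupOf_right N NQ, ← hX]
    exact (Nat.card_congr (Subgroup.subgroupOfEquivOfLe hXNQ).toEquiv).symm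
  have hXmul : Nat.card X * N.index = 10 := by
    rw [hXcard', hidx, Subgroup.card_mul_index, hNQ]
  have h5X : 5 ∣ Nat.card X := by
    rw [← hQcard]
    exact Subgroup.card_dvd_of_le hQX
  have hidx2 : N.index = 2 ∧ Nat.card X = 5 := by
    obtain ⟨k, hk⟩ := h5X
    rw [hk] at hXmul ⊢
    have hk2 : k * N.index = 2 := by
      have : 5 * (k * N.index) = 5 * 2 := by rw [← mul_assoc]; exact hXmul
      exact Nat.eq_of_mul_eq_mul_left (by norm_num) this
    have hkd : k ∣ 2 := Dvd.intro _ hk2
    have hkle : k ≤ 2 := Nat.le_of_dvd (by norm_num) hkd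
    interval_cases k
    · omega
    · constructor <;> omega
    · exfalso
      have h1 : N.index = 1 := by omega
      exact htop (Subgroup.index_eq_one.1 h1)
  obtain ⟨hidx2, hXcard⟩ := hidx2
  have hXQ : Q = X := Subgroup.eq_of_le_of_card_ge hQX (by rw [hXcard, hQcard])
  have hN30 : Nat.card N = 30 := by
    have h := Subgroup.card_mul_index N
    rw [hidx2, hcard] at h
    omega
  -- the Sylow subgroup of `N` is self-normalising
  have hPNQ : (PN : Subgroup N) = Q.subgroupOf N := by
    rw [hQ]
    ext x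
    rw [Subgroup.mem_subgroupOf]
    constructor
    · intro hx
      exact ⟨x, hx, rfl⟩
    · rintro ⟨y, hy, hyx⟩
      have : y = x := Subtype.ext hyx
      rw [← this]
      exact hy
  have hnorm : Subgroup.normalizer ((PN : Subgroup N) : Set N) = (PN : Subgroup N) := by
    rw [hPNQ, ← Subgroup.subgroupOf_normalizer_eq hQN, ← hNQdef, ← Subgroup.inf_subgroupOf_left NQ N,
      ← hX, hXQ]
  -- Burnside's transfer theorem
  have hcycl : IsCyclic (PN : Subgroup N) := isCyclic_of_prime_card hPNcard
  have hcomm : IsMulCommutative (PN : Subgroup N) := by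
    let _ := IsCyclic.commGroup (α := (PN : Subgroup N))
    infer_instance
  have hle : Subgroup.normalizer ((PN : Subgroup N) : Set N) ≤
      Subgroup.centralizer ((PN : Subgroup N) : Set N) := by
    rw [hnorm]
    exact Subgroup.le_centralizer_iff_isMulCommutative.2 hcomm
  have hcompl := MonoidHom.ker_transferSylow_isComplement' PN hle
  obtain ⟨K, hK⟩ : ∃ K : Subgroup N, K = (MonoidHom.transferSylow PN hle).ker := ⟨_, rfl⟩
  rw [← hK] at hcompl
  have hKn : K.Normal := by
    rw [hK]
    exact MonoidHom.normal_ker _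
  have hKcard : Nat.card K = 6 := by
    have h := hcompl.card_mul_card
    rw [hPNcard, hN30] at h
    omega
  have hKidx : K.index = 5 := by
    have h := Subgroup.card_mul_index K
    rw [hKcard, hN30] at h
    omega
  have hKchar : ∀ y : N, y ∈ K ↔ y ^ 6 = 1 := by
    intro y
    constructor
    · intro hy
      have h := pow_card_eq_one' (G := K) (x := ⟨y, hy⟩)
      rw [hKcard] at h
      have h2 := congrArg Subtype.val h
      simpa using h2
    · intro hy
      rw [← QuotientGroup.eq_one_iff (N := K)]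
      have h5 : ((y : N ⧸ K)) ^ 5 = 1 := by
        have h := pow_card_eq_one' (G := N ⧸ K) (x := (y : N ⧸ K))
        rw [← Subgroup.index_eq_card, hKidx] at h
        exact h
      have h6 : ((y : N ⧸ K)) ^ 6 = 1 := by
        rw [← QuotientGroup.mk_pow, hy]
        rfl
      calc (y : N ⧸ K) = (y : N ⧸ K) ^ 6 * ((y : N ⧸ K) ^ 5)⁻¹ := by group
        _ = 1 := by rw [h5, h6]; simp
  obtain ⟨K₀, hK₀⟩ : ∃ K₀ : Subgroup G, K₀ = Subgroup.map N.subtype K := ⟨_, rfl⟩
  have hK₀card : Nat.card K₀ = 6 := by
    rw [hK₀, Subgroup.card_map_of_injective N.subtype_injective]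
    exact hKcard
  have hK₀mem : ∀ x : G, x ∈ K₀ ↔ x ∈ N ∧ x ^ 6 = 1 := by
    intro x
    rw [hK₀]
    constructor
    · rintro ⟨y, hy, rfl⟩
      refine ⟨y.2, ?_⟩
      have h := (hKchar y).1 hy
      have h2 := congrArg Subtype.val h
      simpa using h2
    · rintro ⟨hxN, hx6⟩
      refine ⟨⟨x, hxN⟩, (hKchar _).2 ?_, rfl⟩
      apply Subtype.ext
      simpa using hx6
  have hK₀n : K₀.Normal := by
    refine ⟨fun x hx g => ?_⟩
    rw [hK₀mem] at hx ⊢
    refine ⟨hNn.conj_mem x hx.1 g, ?_⟩
    rw [conj_pow, hx.2]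
    group
  have hK₀bot : K₀ ≠ ⊥ := by
    intro h
    rw [h, Subgroup.card_bot] at hK₀card
    omega
  have := hquasi K₀ hK₀n hK₀bot
  rw [hK₀card] at this
  omega

end simple

theorem pkG {α : Type*} [Fintype α] [DecidableEq α] {p : ℕ} [Fact p.Prime] (hp : 3 < p)
    (hα : Fintype.card α = 2 * p) (G : Subgroup (Equiv.Perm α))
    (hprim : MulAction.IsPreprimitive G α) (P : Sylow p G)
    (hN : Nat.card (Subgroup.normalizer ((P : Subgroup G) : Set G)) = 2 * p)
    (hcard : Nat.card G = p * (p - 1) * (p - 2))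
    (a₀ : α) (a : ℕ) (ha : 0 < a) (hpa : p = 2 * a ^ 2 + 2 * a + 1) (b : α) (hb : b ≠ a₀)
    (hsub : Nat.card (MulAction.orbit (MulAction.stabilizer G a₀) b) = a * (2 * a + 1) ∨
      Nat.card (MulAction.orbit (MulAction.stabilizer G a₀) b) = (a + 1) * (2 * a + 1)) :
    p = 5 ∧ Nonempty (G ≃* alternatingGroup (Fin 5)) := by
  classical
  have hαn : Nat.card α = 2 * p := by rw [Nat.card_eq_fintype_card, hα]
  -- the order of the point stabiliser
  have hH : 2 * p * Nat.card (MulAction.stabilizer G a₀) = Nat.card G := by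
    have h1 := MulAction.index_stabilizer_of_transitive G a₀
    have h2 := Subgroup.card_mul_index (MulAction.stabilizer G a₀)
    rw [h1, hαn] at h2
    rw [← h2]
    ring
  have hH2 : 2 * Nat.card (MulAction.stabilizer G a₀) = (p - 1) * (p - 2) := by
    rw [hcard] at hH
    have hp0 : 0 < p := by omega
    have : p * (2 * Nat.card (MulAction.stabilizer G a₀)) = p * ((p - 1) * (p - 2)) := by
      rw [← mul_assoc, ← mul_assoc, mul_comm p 2]
      exact hH
    exact Nat.eq_of_mul_eq_mul_left hp0 this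
  -- the suborbit length divides it
  have horbdvd : Nat.card (MulAction.orbit (MulAction.stabilizer G a₀) b) ∣
      Nat.card (MulAction.stabilizer G a₀) := by
    have h1 := MulAction.index_stabilizer (MulAction.stabilizer G a₀) b
    rw [← Nat.card_coe_set_eq] at h1
    rw [← h1]
    exact Subgroup.index_dvd_card _
  have h2a : (2 * a + 1) ∣ (p - 1) * (p - 2) := by
    rw [← hH2]
    apply Dvd.dvd.mul_left
    refine Dvd.dvd.trans ?_ horbdvd
    rcases hsub with h | h
    · rw [h]; exact Dvd.intro_left _ rfl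
    · rw [h]; exact Dvd.intro_left _ rfl
  have ha1 : a = 1 := arith a p ha hpa h2a
  have hp5 : p = 5 := by rw [hpa, ha1]; norm_num
  subst hp5
  refine ⟨rfl, ?_⟩
  have hcard60 : Nat.card G = 60 := by rw [hcard]
  have hN10 : Nat.card (Subgroup.normalizer ((P : Subgroup G) : Set G)) = 10 := by rw [hN]
  have hquasi : ∀ N : Subgroup G, N.Normal → N ≠ ⊥ → 10 ∣ Nat.card N := by
    intro N hNn hbot
    have hq : MulAction.IsQuasiPreprimitive G α := MulAction.IsPreprimitive.isQuasiPreprimitive
    have hfp : MulAction.fixedPoints N α ≠ Set.univ := by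
      intro h
      apply hbot
      rw [Subgroup.eq_bot_iff_forall]
      intro n hn
      apply Subtype.ext
      apply Equiv.ext
      intro x
      have hx : x ∈ MulAction.fixedPoints N α := by rw [h]; exact Set.mem_univ x
      exact MulAction.mem_fixedPoints.1 hx ⟨n, hn⟩
    have htr : MulAction.IsPretransitive N α :=
      MulAction.IsQuasiPreprimitive.isPretransitive_of_normal hfp
    have h1 := MulAction.index_stabilizer_of_transitive N a₀
    rw [hαn] at h1
    have h2 := Subgroup.index_dvd_card (MulAction.stabilizer N a₀)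
    rw [h1] at h2
    exact h2
  have hs : IsSimpleGroup G := simple_of_card_sixty hcard60 P hN10 hquasi
  exact Cfsg.Agent.S0494.result hcard60

end Cfsg.Agent.Lib.Helper23_S4707_G
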