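import Mathlib

/-!
helper39: arithmetic in a field `L` with 64 elements over a field `F` with 4 elements
(for the exclusion "cubic extension field normaliser in `SU_6(2)`" of the row S5802).
-/

set_option autoImplicit false

namespace Cfsg.Agent.Lib.Helper39_SU6_Field

section Base

variable {F : Type*} [Field F] [Fintype F]

lemma F_charP (hF : Fintype.card F = 2 ^ 2) : CharP F 2 :=
  have : Fact (Nat.Prime 2) := ⟨Nat.prime_two⟩
  charP_of_card_eq_prime_pow hF

lemma F_two (hF : Fintype.card F = 2 ^ 2) : (2 : F) = 0 := by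
  have := F_charP hF
  exact CharTwo.two_eq_zero

lemma F_pow_four (hF : Fintype.card F = 2 ^ 2) (c : F) : c ^ 4 = c := by
  have h := FiniteField.pow_card c
  rw [hF] at h
  exact h

/-- a primitive cube root of unity in `F` -/
lemma exists_omega (hF : Fintype.card F = 2 ^ 2) : ∃ ω : F, ω ^ 2 + ω + 1 = 0 := by
  classical
  have hcard : 2 < Fintype.card F := by rw [hF]; norm_num
  obtain ⟨ω, h0, h1⟩ : ∃ ω : F, ω ≠ 0 ∧ ω ≠ 1 := by
    by_contra hcon
    push Not at hcon
    have hsub : (Finset.univ : Finset F) ⊆ {0, 1} := by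
      intro x _
      by_cases hx : x = 0
      · simp [hx]
      · simp [hcon x hx]
    have := Finset.card_le_card hsub
    rw [Finset.card_univ] at this
    have h2 : ({0, 1} : Finset F).card ≤ 2 := Finset.card_insert_le _ _
    omega
  refine ⟨ω, ?_⟩
  have h4 := F_pow_four hF ω
  have h3 : (ω - 1) * (ω ^ 2 + ω + 1) = 0 := by
    have : ω * ((ω - 1) * (ω ^ 2 + ω + 1)) = 0 := by linear_combination h4
    rcases mul_eq_zero.1 this with h | h
    · exact absurd h h0
    · exact h
  rcases mul_eq_zero.1 h3 with h | h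
  · exact absurd (sub_eq_zero.1 h) h1
  · exact h

end Base

section Ext

variable {L : Type*} [Field L] [Fintype L]

lemma L_charP (hL : Fintype.card L = 64) : CharP L 2 :=
  have : Fact (Nat.Prime 2) := ⟨Nat.prime_two⟩
  charP_of_card_eq_prime_pow (f := 6) (by rw [hL]; norm_num)

lemma L_two (hL : Fintype.card L = 64) : (2 : L) = 0 := by
  have := L_charP hL
  exact CharTwo.two_eq_zero

lemma L_pow (hL : Fintype.card L = 64) (a : L) : a ^ 64 = a := by
  have h := FiniteField.pow_card a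
  rw [hL] at h
  exact h

lemma L_pow63 (hL : Fintype.card L = 64) {a : L} (ha : a ≠ 0) : a ^ 63 = 1 := by
  have h := L_pow hL a
  have : a * (a ^ 63 - 1) = 0 := by linear_combination h
  rcases mul_eq_zero.1 this with h | h
  · exact absurd h ha
  · exact sub_eq_zero.1 h

lemma L_add_self (hL : Fintype.card L = 64) (a : L) : a + a = 0 := by
  have := L_two hL
  linear_combination a * this

lemma L_neg (hL : Fintype.card L = 64) (a : L) : -a = a := by
  have := L_add_self hL a
  linear_combination -this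

lemma L_sub (hL : Fintype.card L = 64) (a b : L) : a - b = a + b := by
  rw [sub_eq_add_neg, L_neg hL]

lemma add_pow2 (hL : Fintype.card L = 64) (a b : L) : (a + b) ^ 2 = a ^ 2 + b ^ 2 := by
  have := L_two hL
  linear_combination a * b * this

lemma add_pow4 (hL : Fintype.card L = 64) (a b : L) : (a + b) ^ 4 = a ^ 4 + b ^ 4 := by
  rw [show (4 : ℕ) = 2 * 2 by norm_num, pow_mul, add_pow2 hL, add_pow2 hL, ← pow_mul, ← pow_mul]

lemma add_pow8 (hL : Fintype.card L = 64) (a b : L) : (a + b) ^ 8 = a ^ 8 + b ^ 8 := by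
  rw [show (8 : ℕ) = 4 * 2 by norm_num, pow_mul, add_pow4 hL, add_pow2 hL, ← pow_mul, ← pow_mul]

lemma add_pow16 (hL : Fintype.card L = 64) (a b : L) : (a + b) ^ 16 = a ^ 16 + b ^ 16 := by
  rw [show (16 : ℕ) = 8 * 2 by norm_num, pow_mul, add_pow8 hL, add_pow2 hL, ← pow_mul, ← pow_mul]

lemma add_pow32 (hL : Fintype.card L = 64) (a b : L) : (a + b) ^ 32 = a ^ 32 + b ^ 32 := by
  rw [show (32 : ℕ) = 16 * 2 by norm_num, pow_mul, add_pow16 hL, add_pow2 hL, ← pow_mul, ← pow_mul]

lemma pow8_pow8 (hL : Fintype.card L = 64) (a : L) : (a ^ 8) ^ 8 = a := by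
  rw [← pow_mul]; exact L_pow hL a

lemma finrank_zmod (hL : Fintype.card L = 64) [Algebra (ZMod 2) L] :
    Module.finrank (ZMod 2) L = 6 := by
  have h := Module.card_eq_pow_finrank (K := ZMod 2) (V := L)
  rw [hL, ZMod.card] at h
  have h6 : (2 : ℕ) ^ 6 = 2 ^ Module.finrank (ZMod 2) L := by rw [← h]; norm_num
  exact (Nat.pow_right_injective (le_refl 2) h6).symm

/-- an involutory non-trivial automorphism of the field with 64 elements is `a ↦ a ^ 8` -/
theorem invol_eq_pow (hL : Fintype.card L = 64) (σ : L ≃+* L) (h2 : ∀ a, σ (σ a) = a)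
    (hne : ∃ a, σ a ≠ a) : ∀ a, σ a = a ^ 8 := by
  have := L_charP hL
  let _ : Algebra (ZMod 2) L := ZMod.algebra L 2
  have hcomm : ∀ r : ZMod 2, σ (algebraMap (ZMod 2) L r) = algebraMap (ZMod 2) L r := by
    intro r
    have : (σ : L →+* L).comp (algebraMap (ZMod 2) L) = algebraMap (ZMod 2) L :=
      Subsingleton.elim _ _
    exact RingHom.congr_fun this r
  let σ' : L ≃ₐ[ZMod 2] L := AlgEquiv.ofRingEquiv (f := σ) hcomm
  obtain ⟨⟨i, hi⟩, hσ⟩ := (FiniteField.bijective_frobeniusAlgEquivOfAlgebraic_pow (ZMod 2) L).2 σ'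
  rw [finrank_zmod hL] at hi
  simp only at hσ
  have hord := FiniteField.orderOf_frobeniusAlgEquivOfAlgebraic (ZMod 2) L
  rw [finrank_zmod hL] at hord
  have hsq : σ' ^ 2 = 1 := by
    ext a
    rw [pow_two, AlgEquiv.mul_apply]
    exact h2 a
  have h6 : 6 ∣ i * 2 := by
    rw [← hord]
    apply orderOf_dvd_of_pow_eq_one
    rw [pow_mul, hσ, hsq]
  have hval : ∀ a : L, σ a = a ^ (2 ^ i) := by
    intro a
    have h1 : σ' a = (FiniteField.frobeniusAlgEquivOfAlgebraic (ZMod 2) L ^ i) a := by rw [hσ]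
    rw [AlgEquiv.coe_pow, FiniteField.coe_frobeniusAlgEquivOfAlgebraic_iterate, ZMod.card] at h1
    exact h1
  have hi' : i = 0 ∨ i = 3 := by omega
  rcases hi' with rfl | rfl
  · exfalso
    obtain ⟨a, ha⟩ := hne
    apply ha
    rw [hval a]; simp
  · intro a
    rw [hval a]; norm_num

lemma finrank_FL {F : Type*} [Field F] [Fintype F] [Algebra F L]
    (hF : Fintype.card F = 2 ^ 2) (hL : Fintype.card L = 64) : Module.finrank F L = 3 := by
  have h := Module.card_eq_pow_finrank (K := F) (V := L)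
  rw [hL, hF] at h
  have h6 : (4 : ℕ) ^ 3 = 4 ^ Module.finrank F L := by
    have e : (2 ^ 2 : ℕ) = 4 := by norm_num
    rw [e] at h
    rw [← h]; norm_num
  exact (Nat.pow_right_injective (by norm_num : 2 ≤ 4) h6).symm

/-- automorphisms over the field with four elements are powers of `a ↦ a ^ 4` -/
theorem algEquiv_eq_pow {F : Type*} [Field F] [Fintype F] [Algebra F L]
    (hF : Fintype.card F = 2 ^ 2) (hL : Fintype.card L = 64) (α : L ≃ₐ[F] L) :
    ∃ i : ℕ, i < 3 ∧ ∀ a, α a = a ^ (4 ^ i) := by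
  have hfr : Module.finrank F L = 3 := finrank_FL hF hL
  obtain ⟨⟨i, hi⟩, hσ⟩ := (FiniteField.bijective_frobeniusAlgEquivOfAlgebraic_pow F L).2 α
  rw [hfr] at hi
  simp only at hσ
  refine ⟨i, hi, fun a => ?_⟩
  have h1 : α a = (FiniteField.frobeniusAlgEquivOfAlgebraic F L ^ i) a := by rw [hσ]
  rw [AlgEquiv.coe_pow, FiniteField.coe_frobeniusAlgEquivOfAlgebraic_iterate, hF] at h1
  rw [h1]; norm_num

/-- the trace to `F` is `a + a ^ 4 + a ^ 16` -/
theorem algebraMap_trace {F : Type*} [Field F] [Fintype F] [Algebra F L]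
    (hF : Fintype.card F = 2 ^ 2) (hL : Fintype.card L = 64) (a : L) :
    algebraMap F L (Algebra.trace F L a) = a + a ^ 4 + a ^ 16 := by
  rw [FiniteField.algebraMap_trace_eq_sum_pow, finrank_FL hF hL, Nat.card_eq_fintype_card, hF]
  simp [Finset.sum_range_succ]

/-- the norm to `F` is `a ^ 21` -/
theorem algebraMap_norm {F : Type*} [Field F] [Fintype F] [Algebra F L]
    (hF : Fintype.card F = 2 ^ 2) (hL : Fintype.card L = 64) (a : L) :
    algebraMap F L (Algebra.norm F a) = a ^ 21 := by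
  rw [FiniteField.algebraMap_norm_eq_pow_sum, finrank_FL hF hL, Nat.card_eq_fintype_card, hF]
  simp [Finset.sum_range_succ]

omit [Fintype L] in
/-- elements of `F` inside `L` are fixed by `a ↦ a ^ 4` -/
lemma algebraMap_pow4 {F : Type*} [Field F] [Fintype F] [Algebra F L]
    (hF : Fintype.card F = 2 ^ 2) (c : F) : (algebraMap F L c) ^ 4 = algebraMap F L c := by
  rw [← map_pow, F_pow_four hF]

/-- cube roots of unity of `L` lie in `F` -/
theorem cube_root_mem {F : Type*} [Field F] [Fintype F] [Algebra F L]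
    (hF : Fintype.card F = 2 ^ 2) (hL : Fintype.card L = 64) {z : L} (hz : z ^ 3 = 1) :
    ∃ c : F, c ≠ 0 ∧ algebraMap F L c = z := by
  obtain ⟨ω, hω⟩ := exists_omega hF
  have hω' : (algebraMap F L ω) ^ 2 + algebraMap F L ω + 1 = 0 := by
    rw [← map_pow, ← map_add, ← map_one (algebraMap F L), ← map_add, hω, map_zero]
  have h2 := L_two hL
  set w := algebraMap F L ω with hw
  have hfac : (z - 1) * (z - w) * (z - w ^ 2) = 0 := by
    have hw3 : w ^ 3 = 1 := by linear_combination (w - 1) * hω'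
    linear_combination hz - z ^ 2 * hω' + z * hω' + z * hw3 - hw3
  have hω0 : ω ≠ 0 := by
    rintro rfl
    simp at hω
  rcases mul_eq_zero.1 hfac with h | h
  · rcases mul_eq_zero.1 h with h | h
    · exact ⟨1, one_ne_zero, by rw [map_one]; exact (sub_eq_zero.1 h).symm⟩
    · exact ⟨ω, hω0, (sub_eq_zero.1 h).symm⟩
  · exact ⟨ω ^ 2, pow_ne_zero 2 hω0, by rw [map_pow]; exact (sub_eq_zero.1 h).symm⟩

end Ext

end Cfsg.Agent.Lib.Helper39_SU6_Field
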