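import Mathlib
import Cfsg.Prelude.Def_ClassicalGeometry
import Cfsg.Agent.Lib.Helper13_Herm
import Cfsg.Agent.Lib.Helper39_SU6_Field

/-!
helper39: the `L`-valued Hermitian form `Hf` with `trace ∘ Hf = hermForm` on `F^n`, for a field `L` with
64 elements acting on `F^n` (`|F| = 4`) with adjoint `a ↦ a ^ 8`.
-/

set_option autoImplicit false

namespace Cfsg.Agent.Lib.Helper39_SU6_HForm

open Cfsg.Agent.Lib.Helper13_Herm Cfsg.Agent.Lib.Helper39_SU6_Field

variable {F : Type*} [Field F] [Fintype F] {L : Type*} [Field L] [Fintype L] [Algebra F L]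
  {n : ℕ} [Module L (Fin n → F)] [IsScalarTower F L (Fin n → F)]

/-! ### the form `hermForm n F 2` -/

lemma hAddL (u u' v : Fin n → F) :
    Cfsg.hermForm n F 2 (u + u') v = Cfsg.hermForm n F 2 u v + Cfsg.hermForm n F 2 u' v :=
  hermForm_add_left n u u' v

lemma hSmulL (a : F) (u v : Fin n → F) :
    Cfsg.hermForm n F 2 (a • u) v = a * Cfsg.hermForm n F 2 u v :=
  hermForm_smul_left n a u v

lemma hAddR (hF : Fintype.card F = 2 ^ 2) (u v v' : Fin n → F) :
    Cfsg.hermForm n F 2 u (v + v') = Cfsg.hermForm n F 2 u v + Cfsg.hermForm n F 2 u v' :=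
  hermForm_add_right n hF u v v'

lemma hSmulR (a : F) (u v : Fin n → F) :
    Cfsg.hermForm n F 2 u (a • v) = a ^ 2 * Cfsg.hermForm n F 2 u v :=
  hermForm_smul_right n a u v

lemma hSymm (hF : Fintype.card F = 2 ^ 2) (u v : Fin n → F) :
    Cfsg.hermForm n F 2 v u = Cfsg.hermForm n F 2 u v ^ 2 :=
  (hermForm_pow_q n hF u v).symm

lemma herm_nondeg {x : Fin n → F} (h : ∀ y, Cfsg.hermForm n F 2 x y = 0) : x = 0 := by
  funext i
  have := h (Pi.single i 1)
  rw [hermForm_single_right n (by norm_num)] at this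
  exact this

/-- the functional `c ↦ h (c • x) y` on `L` -/
noncomputable def ell (x y : Fin n → F) : L →ₗ[F] F where
  toFun c := Cfsg.hermForm n F 2 (c • x) y
  map_add' c c' := by rw [add_smul, hAddL]
  map_smul' f c := by rw [smul_assoc, hSmulL]; rfl

lemma trace_nondeg : (Algebra.traceForm F L).Nondegenerate := traceForm_nondegenerate F L

/-- the `L`-valued form -/
noncomputable def Hf (x y : Fin n → F) : L :=
  ((Algebra.traceForm F L).toDual trace_nondeg).symm (ell x y)

lemma Hf_spec (x y : Fin n → F) (c : L) :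
    Algebra.trace F L (Hf x y * c) = Cfsg.hermForm n F 2 (c • x) y := by
  have h := LinearMap.BilinForm.apply_toDual_symm_apply (B := Algebra.traceForm F L)
    (hB := trace_nondeg) (ell x y) c
  rw [Algebra.traceForm_apply] at h
  exact h

lemma eq_of_trace_mul {η η' : L} (h : ∀ c : L, Algebra.trace F L (η * c) = Algebra.trace F L (η' * c)) :
    η = η' := by
  have hnd := (trace_nondeg (F := F) (L := L)).1
  rw [← sub_eq_zero]
  apply hnd
  intro c
  rw [Algebra.traceForm_apply, sub_mul, map_sub, h c, sub_self]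

lemma Hf_unique {x y : Fin n → F} {η : L}
    (h : ∀ c : L, Algebra.trace F L (η * c) = Cfsg.hermForm n F 2 (c • x) y) : η = Hf x y := by
  apply eq_of_trace_mul (F := F)
  intro c
  rw [h c, Hf_spec]

lemma Hf_add_left (x x' y : Fin n → F) : Hf (L := L) (x + x') y = Hf x y + Hf x' y := by
  symm
  apply Hf_unique
  intro c
  rw [add_mul, map_add, Hf_spec, Hf_spec, smul_add, hAddL]

lemma Hf_smul_left (a : L) (x y : Fin n → F) : Hf (a • x) y = a * Hf x y := by
  symm
  apply Hf_unique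
  intro c
  rw [mul_comm a, mul_assoc, Hf_spec, mul_smul, smul_comm]

lemma Hf_zero_left (y : Fin n → F) : Hf (L := L) 0 y = 0 := by
  have := Hf_smul_left (0 : L) (0 : Fin n → F) y
  rw [zero_smul, zero_mul] at this
  exact this

section withHyps

variable (hF : Fintype.card F = 2 ^ 2) (hL : Fintype.card L = 64)
  (hadj : ∀ (a : L) (x y : Fin n → F),
    Cfsg.hermForm n F 2 (a • x) y = Cfsg.hermForm n F 2 x (a ^ 8 • y))

include hF in
lemma Hf_add_right (x y y' : Fin n → F) : Hf (L := L) x (y + y') = Hf x y + Hf x y' := by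
  symm
  apply Hf_unique
  intro c
  rw [add_mul, map_add, Hf_spec, Hf_spec, hAddR hF]

omit [Fintype F] [Algebra F L] [IsScalarTower F L (Fin n → F)] in
include hL hadj in
lemma adj' (a : L) (x y : Fin n → F) :
    Cfsg.hermForm n F 2 x (a • y) = Cfsg.hermForm n F 2 (a ^ 8 • x) y := by
  rw [hadj, pow8_pow8 hL]

include hL hadj in
lemma Hf_smul_right (a : L) (x y : Fin n → F) : Hf x (a • y) = a ^ 8 * Hf x y := by
  symm
  apply Hf_unique
  intro c
  rw [adj' hL hadj, ← mul_smul, mul_comm (a ^ 8), mul_assoc, Hf_spec]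


include hF hL hadj in
lemma Hf_symm (x y : Fin n → F) : Hf (L := L) y x = Hf x y ^ 8 := by
  symm
  apply Hf_unique
  intro c
  have h1 : Cfsg.hermForm n F 2 (c • y) x = (Cfsg.hermForm n F 2 x (c • y)) ^ 2 :=
    hSymm hF x (c • y)
  rw [h1, adj' hL hadj, ← Hf_spec]
  apply (algebraMap F L).injective
  rw [map_pow, algebraMap_trace hF hL, algebraMap_trace hF hL]
  set t := Hf (L := L) x y with ht
  have e1 : (t * c ^ 8) ^ 2 = (t ^ 8 * c) ^ 16 := by
    rw [mul_pow, mul_pow, ← pow_mul, ← pow_mul]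
    have : t ^ (8 * 16) = t ^ 2 := by
      rw [show 8 * 16 = 64 * 2 by norm_num, pow_mul, L_pow hL]
    rw [this]
  have e2 : ((t * c ^ 8) ^ 4) ^ 2 = t ^ 8 * c := by
    rw [← pow_mul, mul_pow, ← pow_mul]
    have : c ^ (8 * (4 * 2)) = c := by
      rw [show 8 * (4 * 2) = 64 by norm_num, L_pow hL]
    rw [this]
  have e3 : ((t * c ^ 8) ^ 16) ^ 2 = (t ^ 8 * c) ^ 4 := by
    rw [← pow_mul, mul_pow, mul_pow, ← pow_mul, ← pow_mul]
    have : c ^ (8 * (16 * 2)) = c ^ 4 := by
      rw [show 8 * (16 * 2) = 64 * 4 by norm_num, pow_mul, L_pow hL]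
    rw [this]
  rw [add_pow2 hL, add_pow2 hL, e1, e2, e3]
  ring

lemma Hf_trace (x y : Fin n → F) :
    Algebra.trace F L (Hf (L := L) x y) = Cfsg.hermForm n F 2 x y := by
  have := Hf_spec (L := L) x y 1
  rw [mul_one, one_smul] at this
  exact this

lemma Hf_nondeg {x : Fin n → F} (h : ∀ y, Hf (L := L) x y = 0) : x = 0 := by
  apply herm_nondeg
  intro y
  rw [← Hf_trace (L := L), h y, map_zero]

include hL hadj in
lemma Hf_zero_right (x : Fin n → F) : Hf (L := L) x 0 = 0 := by
  have := Hf_smul_right hL hadj (0 : L) x (0 : Fin n → F)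
  rw [zero_smul, zero_pow (by norm_num), zero_mul] at this
  exact this

include hF hL hadj in
/-- `Hf x x` is fixed by `a ↦ a ^ 8` -/
lemma Hf_self_fix (x : Fin n → F) : Hf (L := L) x x ^ 8 = Hf x x := (Hf_symm hF hL hadj x x).symm

end withHyps

end Cfsg.Agent.Lib.Helper39_SU6_HForm
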