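import Mathlib
import Cfsg.Prelude.Def_GeometricClasses
import Cfsg.Prelude.Def_LieClassical
import Cfsg.Agent.Lib.Helper39_SU6_Field
import Cfsg.Agent.Lib.Helper39_SU6_HForm

/-!
# E6c-N (helper23 for helper39; su6 row S5802)

Abstract setting of `Helper39_SU6_HForm`: `F` with 4 elements, `L` with 64 elements acting on `F^6` with adjoint
`a ↦ a ^ 8` for `hermForm 6 F 2`, `(u₁, u₂)` a hyperbolic pair for the `L`-valued form `Hf`.  An element of
`GU_6(2)` of determinant one normalising the `L`-action maps `V₀ = L₀ u₁ + L₀ u₂` (`L₀ = {a | a ^ 8 = a}`)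
to a scalar multiple of itself.
-/

set_option autoImplicit false
set_option linter.unusedSectionVars false

namespace Cfsg.Agent.Lib.Helper23_SU6_E6cN

open Matrix Cfsg.Agent.Lib.Helper39_SU6_HForm Cfsg.Agent.Lib.Helper39_SU6_Field

/-- the algebra of a `2 × 2` unitary matrix over `L / L₀` in characteristic two -/
theorem entries {L : Type*} [Field L] [Fintype L] (hL : Fintype.card L = 64) (a b c d : L)
    (R1 : a * c ^ 8 + c * a ^ 8 = 0) (R2 : b * d ^ 8 + d * b ^ 8 = 0)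
    (R3 : a * d ^ 8 + c * b ^ 8 = 1) :
    (a * d + b * c) * a ^ 8 = a ∧ (a * d + b * c) * b ^ 8 = b ∧ (a * d + b * c) * c ^ 8 = c ∧
      (a * d + b * c) * d ^ 8 = d ∧ (a * d + b * c) ^ 9 = 1 := by
  have h2 := L_two hL
  have R3' : a ^ 8 * d + c ^ 8 * b = 1 := by
    have h : (a * d ^ 8 + c * b ^ 8) ^ 8 = 1 ^ 8 := by rw [R3]
    rw [add_pow8 hL, mul_pow, mul_pow, pow8_pow8 hL, pow8_pow8 hL, one_pow] at h
    exact h
  have hA : (a * d + b * c) * a ^ 8 = a := by
    linear_combination b * R1 + a * R3' - a * b * c ^ 8 * h2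
  have hB : (a * d + b * c) * b ^ 8 = b := by
    linear_combination a * R2 + b * R3 - a * b * d ^ 8 * h2
  have hC : (a * d + b * c) * c ^ 8 = c := by
    linear_combination d * R1 + c * R3' - c * d * a ^ 8 * h2
  have hD : (a * d + b * c) * d ^ 8 = d := by
    linear_combination c * R2 + d * R3 - c * d * b ^ 8 * h2
  refine ⟨hA, hB, hC, hD, ?_⟩
  have h8 : (a * d + b * c) ^ 8 = a ^ 8 * d ^ 8 + b ^ 8 * c ^ 8 := by
    rw [add_pow8 hL, mul_pow, mul_pow]
  calc (a * d + b * c) ^ 9 = (a * d + b * c) * (a * d + b * c) ^ 8 := by ring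
    _ = a ^ 8 * ((a * d + b * c) * d ^ 8) + c ^ 8 * ((a * d + b * c) * b ^ 8) := by rw [h8]; ring
    _ = 1 := by rw [hD, hB]; exact R3'

section semilinear

variable {F : Type*} [Field F] [Fintype F] {ι : Type*} [Fintype ι] [DecidableEq ι]

/-- the square of a Frobenius-semilinear additive map of `F^ι` (`|F| = 4`) is given by a matrix of
determinant `0` or `1` -/
theorem exists_matrix_sq (hF : Fintype.card F = 2 ^ 2) (kap : (ι → F) → (ι → F))
    (hadd : ∀ v w, kap (v + w) = kap v + kap w) (hsmul : ∀ (c : F) v, kap (c • v) = c ^ 2 • kap v) :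
    ∃ B : Matrix ι ι F, (∀ v, B *ᵥ v = kap (kap v)) ∧ (B.det = 0 ∨ B.det = 1) := by
  have h2 := F_two hF
  have hadd2 : ∀ x y : F, (x + y) ^ 2 = x ^ 2 + y ^ 2 := by
    intro x y
    linear_combination x * y * h2
  let kapHom : (ι → F) →+ (ι → F) :=
    { toFun := kap
      map_zero' := by
        have h := hadd 0 0
        rw [add_zero] at h
        exact left_eq_add.mp h
      map_add' := hadd }
  let A : Matrix ι ι F := Matrix.of fun i j => kap (Pi.single j 1) i
  have hA : ∀ v, kap v = A *ᵥ (fun j => v j ^ 2) := by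
    intro v
    have hv : v = ∑ j, v j • (Pi.single j (1 : F) : ι → F) := by
      ext i
      simp [Finset.sum_apply, Pi.single_apply]
    have h1 : kap v = ∑ j, kap (v j • (Pi.single j (1 : F) : ι → F)) := by
      conv_lhs => rw [hv]
      exact map_sum kapHom _ _
    rw [h1]
    ext i
    simp only [Finset.sum_apply, hsmul, Pi.smul_apply, smul_eq_mul, Matrix.mulVec, dotProduct, A,
      Matrix.of_apply]
    exact Finset.sum_congr rfl fun j _ => mul_comm _ _
  have hsumsq : ∀ (s : Finset ι) (w : ι → F), (∑ j ∈ s, w j) ^ 2 = ∑ j ∈ s, w j ^ 2 := by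
    intro s w
    induction s using Finset.induction_on with
    | empty => simp
    | insert a s ha ih => rw [Finset.sum_insert ha, Finset.sum_insert ha, hadd2, ih]
  let A2 : Matrix ι ι F := Matrix.of fun i j => A i j ^ 2
  have hA2 : ∀ w : ι → F, (fun i => (A *ᵥ w) i ^ 2) = A2 *ᵥ (fun j => w j ^ 2) := by
    intro w
    ext i
    simp only [Matrix.mulVec, dotProduct, A2, Matrix.of_apply]
    rw [hsumsq]
    exact Finset.sum_congr rfl fun j _ => mul_pow _ _ _
  refine ⟨A * A2, ?_, ?_⟩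
  · intro v
    rw [hA (kap v), hA v, hA2, ← Matrix.mulVec_mulVec]
    congr 2
    ext j
    rw [← pow_mul]
    exact (F_pow_four hF (v j)).symm
  · have hdetA2 : A2.det = A.det ^ 2 := by
      have hFr : Fact (Nat.Prime 2) := ⟨Nat.prime_two⟩
      have hcp := F_charP hF
      have hexp : ExpChar F 2 := ExpChar.prime Nat.prime_two
      have h := RingHom.map_det (frobenius F 2) A
      have e : (frobenius F 2).mapMatrix A = A2 := by
        ext i j
        simp [A2, frobenius_def]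
      rw [e, frobenius_def] at h
      exact h.symm
    rw [Matrix.det_mul, hdetA2]
    by_cases h0 : A.det = 0
    · left
      rw [h0]
      ring
    · right
      have h4 := F_pow_four hF A.det
      have : A.det * (A.det * A.det ^ 2 - 1) = 0 := by linear_combination h4
      rcases mul_eq_zero.1 this with h | h
      · exact absurd h h0
      · exact sub_eq_zero.1 h

end semilinear

section main

variable {F : Type*} [Field F] [Fintype F] {L : Type*} [Field L] [Fintype L] [Algebra F L]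
  [Module L (Fin 6 → F)] [IsScalarTower F L (Fin 6 → F)]

theorem E6cN
    (hF : Fintype.card F = 2 ^ 2) (hL : Fintype.card L = 64)
    (hadj : ∀ (a : L) (x y : Fin 6 → F),
      Cfsg.hermForm 6 F 2 (a • x) y = Cfsg.hermForm 6 F 2 x (a ^ 8 • y))
    (u₁ u₂ : Fin 6 → F) (h11 : Hf (L := L) u₁ u₁ = 0) (h22 : Hf (L := L) u₂ u₂ = 0)
    (h12 : Hf (L := L) u₁ u₂ = 1)
    (g : Matrix.GeneralLinearGroup (Fin 6) F) (hgU : g ∈ Cfsg.GU 6 F 2)
    (hdet : (g : Matrix (Fin 6) (Fin 6) F).det = 1)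
    (hnorm : ∀ a : L, ∃ b : L, ∀ x : Fin 6 → F,
      (g : Matrix (Fin 6) (Fin 6) F) *ᵥ (a • x) = b • ((g : Matrix (Fin 6) (Fin 6) F) *ᵥ x)) :
    ∃ c : F, c ≠ 0 ∧ ∀ s t : L, s ^ 8 = s → t ^ 8 = t → ∃ s' t' : L, s' ^ 8 = s' ∧ t' ^ 8 = t' ∧
      (g : Matrix (Fin 6) (Fin 6) F) *ᵥ (s • u₁ + t • u₂) = c • (s' • u₁ + t' • u₂) := by
  classical
  obtain ⟨G, hG⟩ : ∃ G : Matrix (Fin 6) (Fin 6) F, G = (g : Matrix (Fin 6) (Fin 6) F) := ⟨_, rfl⟩
  rw [← hG] at hdet hnorm ⊢
  have hpres : ∀ u v, Cfsg.hermForm 6 F 2 (G *ᵥ u) (G *ᵥ v) = Cfsg.hermForm 6 F 2 u v := by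
    intro u v
    rw [hG]
    exact hgU u v
  have h21 : Hf (L := L) u₂ u₁ = 1 := by rw [Hf_symm hF hL hadj u₁ u₂, h12, one_pow]
  have h2L := L_two hL
  -- `G` is invertible
  have hGinv : ((g⁻¹ : GL (Fin 6) F) : Matrix (Fin 6) (Fin 6) F) * G = 1 := by
    rw [hG, ← Units.val_mul, inv_mul_cancel, Units.val_one]
  have hGinv' : G * ((g⁻¹ : GL (Fin 6) F) : Matrix (Fin 6) (Fin 6) F) = 1 := by
    rw [hG, ← Units.val_mul, mul_inv_cancel, Units.val_one]
  have hGsurj : ∀ y, ∃ x, G *ᵥ x = y := fun y =>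
    ⟨((g⁻¹ : GL (Fin 6) F) : Matrix (Fin 6) (Fin 6) F) *ᵥ y, by
      rw [Matrix.mulVec_mulVec, hGinv', Matrix.one_mulVec]⟩
  have hu1 : u₁ ≠ 0 := by
    intro h
    rw [h, Hf_zero_left] at h12
    exact zero_ne_one h12
  -- the automorphism
  choose α hα using hnorm
  have huniq : ∀ b b' : L, (∀ x, b • (G *ᵥ x) = b' • (G *ᵥ x)) → b = b' := by
    intro b b' h
    obtain ⟨x, hx⟩ := hGsurj u₁
    have h1 := h x
    rw [hx] at h1
    have h0 : (b - b') • u₁ = 0 := by rw [sub_smul, h1, sub_self]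
    rcases smul_eq_zero.1 h0 with h | h
    · exact sub_eq_zero.1 h
    · exact absurd h hu1
  have hα_mul : ∀ a a', α (a * a') = α a * α a' := by
    intro a a'
    apply huniq
    intro x
    rw [← hα, mul_smul, hα, hα, mul_smul]
  have hα_add : ∀ a a', α (a + a') = α a + α a' := by
    intro a a'
    apply huniq
    intro x
    rw [← hα, add_smul, Matrix.mulVec_add, hα, hα, add_smul]
  have hα_one : α 1 = 1 := by
    apply huniq
    intro x
    rw [← hα, one_smul, one_smul]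
  have hα_zero : α 0 = 0 := by
    apply huniq
    intro x
    rw [← hα, zero_smul, zero_smul, Matrix.mulVec_zero]
  have hα_alg : ∀ c : F, α (algebraMap F L c) = algebraMap F L c := by
    intro c
    apply huniq
    intro x
    rw [← hα, algebraMap_smul, algebraMap_smul, Matrix.mulVec_smul]
  let αhom : L →ₐ[F] L :=
    { toFun := α
      map_one' := hα_one
      map_mul' := hα_mul
      map_zero' := hα_zero
      map_add' := hα_add
      commutes' := hα_alg }
  have hαbij : Function.Bijective αhom :=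
    ⟨αhom.toRingHom.injective, Finite.injective_iff_surjective.1 αhom.toRingHom.injective⟩
  let αe : L ≃ₐ[F] L := AlgEquiv.ofBijective αhom hαbij
  obtain ⟨i, hi, hαpow⟩ := algEquiv_eq_pow hF hL αe
  have hαp : ∀ a, α a = a ^ (4 ^ i) := fun a => hαpow a
  -- `Hf` is transformed by `α`
  have hHfG : ∀ x y, Hf (L := L) (G *ᵥ x) (G *ᵥ y) = (Hf (L := L) x y) ^ (4 ^ i) := by
    intro x y
    symm
    apply Hf_unique
    intro c
    obtain ⟨c', hc'⟩ := hαbij.2 c
    have hc'' : α c' = c := hc'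
    rw [← hc'', ← hα, hpres, ← Hf_spec, ← hαp, ← hα_mul]
    exact Algebra.trace_eq_of_algEquiv αe _
  -- expansion of `Hf` on combinations of `u₁, u₂`
  have hexp : ∀ s t s' t' : L, Hf (L := L) (s • u₁ + t • u₂) (s' • u₁ + t' • u₂) =
      s * t' ^ 8 + t * s' ^ 8 := by
    intro s t s' t'
    rw [Hf_add_left, Hf_add_right hF, Hf_add_right hF, Hf_smul_left, Hf_smul_left, Hf_smul_left,
      Hf_smul_left, Hf_smul_right hL hadj, Hf_smul_right hL hadj, Hf_smul_right hL hadj,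
      Hf_smul_right hL hadj, h11, h12, h21, h22]
    ring
  have hexp1 : ∀ s t : L, Hf (L := L) (s • u₁ + t • u₂) u₁ = t := by
    intro s t
    rw [Hf_add_left, Hf_smul_left, Hf_smul_left, h11, h21]
    ring
  have hexp2 : ∀ s t : L, Hf (L := L) (s • u₁ + t • u₂) u₂ = s := by
    intro s t
    rw [Hf_add_left, Hf_smul_left, Hf_smul_left, h12, h22]
    ring
  -- `(u₁, u₂)` is an `L`-basis
  have hfrV : Module.finrank L (Fin 6 → F) = 2 := by
    have h1 := Module.finrank_mul_finrank F L (Fin 6 → F)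
    rw [finrank_FL hF hL, Module.finrank_fin_fun] at h1
    omega
  have hfinV : Module.Finite L (Fin 6 → F) := Module.finite_of_finrank_pos (by rw [hfrV]; norm_num)
  let T : (Fin 6 → F) →ₗ[L] (Fin 2 → L) :=
    { toFun := fun v => ![Hf (L := L) v u₂, Hf (L := L) v u₁]
      map_add' := by
        intro v w
        ext j
        fin_cases j
        · simp [Hf_add_left]
        · simp [Hf_add_left]
      map_smul' := by
        intro a v
        ext j
        fin_cases j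
        · simp [Hf_smul_left]
        · simp [Hf_smul_left] }
  have hT0 : ∀ v, T v 0 = Hf (L := L) v u₂ := fun v => rfl
  have hT1 : ∀ v, T v 1 = Hf (L := L) v u₁ := fun v => rfl
  have hTsurj : Function.Surjective T := by
    intro w
    refine ⟨w 0 • u₁ + w 1 • u₂, ?_⟩
    ext j
    fin_cases j
    · exact (hT0 _).trans (hexp2 _ _)
    · exact (hT1 _).trans (hexp1 _ _)
  have hTinj : Function.Injective T := by
    have hfr : Module.finrank L (Fin 6 → F) = Module.finrank L (Fin 2 → L) := by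
      rw [hfrV, Module.finrank_fin_fun]
    exact (LinearMap.injective_iff_surjective_of_finrank_eq_finrank hfr).2 hTsurj
  have hdecomp : ∀ v : Fin 6 → F, v = Hf (L := L) v u₂ • u₁ + Hf (L := L) v u₁ • u₂ := by
    intro v
    apply hTinj
    ext j
    fin_cases j
    · exact (hT0 _).trans ((hexp2 _ _).symm.trans (hT0 _).symm)
    · exact (hT1 _).trans ((hexp1 _ _).symm.trans (hT1 _).symm)
  -- the entries
  obtain ⟨a, ha⟩ : ∃ a : L, a = Hf (L := L) (G *ᵥ u₁) u₂ := ⟨_, rfl⟩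
  obtain ⟨c, hc⟩ : ∃ c : L, c = Hf (L := L) (G *ᵥ u₁) u₁ := ⟨_, rfl⟩
  obtain ⟨b, hb⟩ : ∃ b : L, b = Hf (L := L) (G *ᵥ u₂) u₂ := ⟨_, rfl⟩
  obtain ⟨d, hd⟩ : ∃ d : L, d = Hf (L := L) (G *ᵥ u₂) u₁ := ⟨_, rfl⟩
  have hGu1 : G *ᵥ u₁ = a • u₁ + c • u₂ := by rw [ha, hc]; exact hdecomp _
  have hGu2 : G *ᵥ u₂ = b • u₁ + d • u₂ := by rw [hb, hd]; exact hdecomp _
  have R1 : a * c ^ 8 + c * a ^ 8 = 0 := by
    have h := hHfG u₁ u₁
    rw [hGu1, hexp, h11, zero_pow (by positivity)] at h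
    exact h
  have R2 : b * d ^ 8 + d * b ^ 8 = 0 := by
    have h := hHfG u₂ u₂
    rw [hGu2, hexp, h22, zero_pow (by positivity)] at h
    exact h
  have R3 : a * d ^ 8 + c * b ^ 8 = 1 := by
    have h := hHfG u₁ u₂
    rw [hGu1, hGu2, hexp, h12, one_pow] at h
    exact h
  obtain ⟨hA, hB, hC, hD, h9⟩ := entries hL a b c d R1 R2 R3
  obtain ⟨δ, hδ⟩ : ∃ δ : L, δ = a * d + b * c := ⟨_, rfl⟩
  rw [← hδ] at hA hB hC hD h9
  -- the action of `G` in coordinates
  have hGv : ∀ s t : L, G *ᵥ (s • u₁ + t • u₂) =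
      (s ^ (4 ^ i) * a + t ^ (4 ^ i) * b) • u₁ + (s ^ (4 ^ i) * c + t ^ (4 ^ i) * d) • u₂ := by
    intro s t
    rw [Matrix.mulVec_add, hα, hα, hGu1, hGu2, hαp, hαp, smul_add, smul_add, smul_smul, smul_smul,
      smul_smul, smul_smul, add_smul, add_smul]
    abel
  -- the coordinatewise Frobenius
  obtain ⟨kap, hkap⟩ : ∃ kap : (Fin 6 → F) → (Fin 6 → F), ∀ v, kap v =
      (Hf (L := L) v u₂) ^ 2 • u₁ + (Hf (L := L) v u₁) ^ 2 • u₂ := ⟨_, fun _ => rfl⟩
  have hkadd : ∀ v w, kap (v + w) = kap v + kap w := by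
    intro v w
    rw [hkap, hkap, hkap, Hf_add_left, Hf_add_left, add_pow2 hL, add_pow2 hL, add_smul, add_smul]
    abel
  have hksmul : ∀ (e : F) v, kap (e • v) = e ^ 2 • kap v := by
    intro e v
    rw [hkap, hkap, ← algebraMap_smul L e v, Hf_smul_left, Hf_smul_left, mul_pow, mul_pow,
      ← map_pow, smul_add, mul_smul, mul_smul, algebraMap_smul, algebraMap_smul]
  obtain ⟨B, hBk, hBdet⟩ := exists_matrix_sq hF kap hkadd hksmul
  have hkk : ∀ v, kap (kap v) = (Hf (L := L) v u₂) ^ 4 • u₁ + (Hf (L := L) v u₁) ^ 4 • u₂ := by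
    intro v
    rw [hkap (kap v), hkap v, hexp1, hexp2, ← pow_mul, ← pow_mul]
  have hBpow : ∀ (j : ℕ) (v : Fin 6 → F), (B ^ j) *ᵥ v =
      (Hf (L := L) v u₂) ^ (4 ^ j) • u₁ + (Hf (L := L) v u₁) ^ (4 ^ j) • u₂ := by
    intro j
    induction j with
    | zero =>
      intro v
      rw [pow_zero, Matrix.one_mulVec, pow_zero, pow_one, pow_one]
      exact hdecomp v
    | succ j ih =>
      intro v
      rw [pow_succ', ← Matrix.mulVec_mulVec, hBk, hkk, ih, hexp1, hexp2, ← pow_mul, ← pow_mul,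
        ← pow_succ]
  -- the `L`-linear part
  let g' : (Fin 6 → F) →ₗ[L] (Fin 6 → F) :=
    { toFun := fun v => Hf (L := L) v u₂ • (G *ᵥ u₁) + Hf (L := L) v u₁ • (G *ᵥ u₂)
      map_add' := by
        intro v w
        rw [Hf_add_left, Hf_add_left, add_smul, add_smul]
        abel
      map_smul' := by
        intro e v
        rw [Hf_smul_left, Hf_smul_left, RingHom.id_apply, smul_add, mul_smul, mul_smul] }
  have hg' : ∀ v, g' v = Hf (L := L) v u₂ • (G *ᵥ u₁) + Hf (L := L) v u₁ • (G *ᵥ u₂) := fun v => rfl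
  have hcomp : ∀ v, G *ᵥ v = g' ((B ^ i) *ᵥ v) := by
    intro v
    rw [hBpow, hg', hexp1, hexp2]
    conv_lhs => rw [hdecomp v, Matrix.mulVec_add, hα, hα, hαp, hαp]
  have hlin : Matrix.toLin' G = (g'.restrictScalars F) ∘ₗ Matrix.toLin' (B ^ i) := by
    apply LinearMap.ext
    intro v
    rw [LinearMap.comp_apply, Matrix.toLin'_apply, Matrix.toLin'_apply, LinearMap.restrictScalars_apply]
    exact hcomp v
  -- the determinant of the `L`-linear part
  let Te : (Fin 6 → F) ≃ₗ[L] (Fin 2 → L) := LinearEquiv.ofBijective T ⟨hTinj, hTsurj⟩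
  have hTe : ∀ v, Te v = T v := fun v => rfl
  let bas : Module.Basis (Fin 2) L (Fin 6 → F) := Module.Basis.ofEquivFun Te
  have hbas0 : bas 0 = u₁ := by
    rw [Module.Basis.coe_ofEquivFun, LinearEquiv.symm_apply_eq, hTe]
    ext j
    fin_cases j
    · exact ((hT0 _).trans h12).symm
    · exact ((hT1 _).trans h11).symm
  have hbas1 : bas 1 = u₂ := by
    rw [Module.Basis.coe_ofEquivFun, LinearEquiv.symm_apply_eq, hTe]
    ext j
    fin_cases j
    · exact ((hT0 _).trans h22).symm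
    · exact ((hT1 _).trans h21).symm
  have hg'1 : g' u₁ = G *ᵥ u₁ := by rw [hg', h12, h11, one_smul, zero_smul, add_zero]
  have hg'2 : g' u₂ = G *ᵥ u₂ := by rw [hg', h22, h21, one_smul, zero_smul, zero_add]
  have hrepr : ∀ v j, bas.repr v j = T v j := fun v j => Module.Basis.ofEquivFun_repr_apply Te v j
  have hdetg' : LinearMap.det g' = a * d - b * c := by
    rw [← LinearMap.det_toMatrix bas, Matrix.det_fin_two, LinearMap.toMatrix_apply,
      LinearMap.toMatrix_apply, LinearMap.toMatrix_apply, LinearMap.toMatrix_apply, hbas0, hbas1,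
      hg'1, hg'2, hrepr, hrepr, hrepr, hrepr, hT0, hT0, hT1, hT1, ← ha, ← hb, ← hc, ← hd]
  have hδ21 : δ ^ 21 = 1 := by
    have h1 : G.det = Algebra.norm F (LinearMap.det g') * (B ^ i).det := by
      rw [← LinearMap.det_toLin' G, hlin, LinearMap.det_comp, LinearMap.det_restrictScalars,
        LinearMap.det_toLin']
    rw [hdet, hdetg', Matrix.det_pow] at h1
    have h2 := congrArg (algebraMap F L) h1
    rw [map_one, map_mul, algebraMap_norm hF hL, L_sub hL, ← hδ, map_pow] at h2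
    rcases hBdet with h0 | h0
    · rw [h0, map_zero] at h2
      rcases Nat.eq_zero_or_pos i with hi0 | hi0
      · rw [hi0, pow_zero, mul_one] at h2
        exact h2.symm
      · rw [zero_pow (by omega), mul_zero] at h2
        exact absurd h2 one_ne_zero
    · rw [h0, map_one, one_pow, mul_one] at h2
      exact h2.symm
  have hδ3 : δ ^ 3 = 1 := by
    have h : δ ^ 21 = (δ ^ 9) ^ 2 * δ ^ 3 := by ring
    rw [h9, one_pow, one_mul] at h
    rw [← h]
    exact hδ21
  obtain ⟨c₀, hc₀, hc₀δ⟩ := cube_root_mem hF hL (z := δ ^ 2) (by rw [← pow_mul, pow_mul' , hδ3, one_pow])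
  refine ⟨c₀, hc₀, ?_⟩
  intro s t hs ht
  have hs' : (s ^ (4 ^ i)) ^ 8 = s ^ (4 ^ i) := by rw [← pow_mul, mul_comm, pow_mul, hs]
  have ht' : (t ^ (4 ^ i)) ^ 8 = t ^ (4 ^ i) := by rw [← pow_mul, mul_comm, pow_mul, ht]
  refine ⟨δ * (s ^ (4 ^ i) * a + t ^ (4 ^ i) * b), δ * (s ^ (4 ^ i) * c + t ^ (4 ^ i) * d), ?_, ?_, ?_⟩
  · rw [mul_pow, add_pow8 hL, mul_pow, mul_pow, hs', ht']
    linear_combination δ ^ 7 * s ^ (4 ^ i) * hA + δ ^ 7 * t ^ (4 ^ i) * hB +
      (s ^ (4 ^ i) * a + t ^ (4 ^ i) * b) * δ * (δ ^ 3 + 1) * hδ3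
  · rw [mul_pow, add_pow8 hL, mul_pow, mul_pow, hs', ht']
    linear_combination δ ^ 7 * s ^ (4 ^ i) * hC + δ ^ 7 * t ^ (4 ^ i) * hD +
      (s ^ (4 ^ i) * c + t ^ (4 ^ i) * d) * δ * (δ ^ 3 + 1) * hδ3
  · rw [hGv, ← algebraMap_smul L c₀, hc₀δ, smul_add, smul_smul, smul_smul]
    have e1 : δ ^ 2 * (δ * (s ^ (4 ^ i) * a + t ^ (4 ^ i) * b)) = s ^ (4 ^ i) * a + t ^ (4 ^ i) * b := by
      linear_combination (s ^ (4 ^ i) * a + t ^ (4 ^ i) * b) * hδ3
    have e2 : δ ^ 2 * (δ * (s ^ (4 ^ i) * c + t ^ (4 ^ i) * d)) = s ^ (4 ^ i) * c + t ^ (4 ^ i) * d := by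
      linear_combination (s ^ (4 ^ i) * c + t ^ (4 ^ i) * d) * hδ3
    rw [e1, e2]

end main

end Cfsg.Agent.Lib.Helper23_SU6_E6cN
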