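import Mathlib

set_option autoImplicit false

/-!
# S2342 (architect helper23): the abstract configuration of root elements of `³D₄(q)` used by the
Landazuri–Seitz type argument, and the weight spaces of the elementary abelian group `E = X_{3a+b} X_{3a+2b}`.

`F` is the field with `q` elements, `K` the field with `q ^ 3` elements.  In the labelling of the twisted root system of
type `G₂` (`a` short, `b` long): `z = x_{3a+2b}`, `e = x_{3a+b}`, `b = x_b`, `bm = x_{-b}` (parameters in `F`),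
`a = x_a`, `y1 = x_{a+b}`, `y2 = x_{2a+b}` (parameters in `K`), `hF c` a torus element with "norm" `c`, `h0` a torus element of
norm one acting non-trivially on `x_{a+b}`, `na` a representative of the reflection in `a`.
-/

namespace Cfsg.Agent.Lib.Helper23_TD4Defs

/-- The abstract configuration (see the module docstring and `pending/helper23/S2342_proof.md`). -/
structure TD4Config (F K : Type*) [Field F] [Field K] [Algebra F K] (G : Type*) [Group G] where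
  z : F → G
  e : F → G
  b : F → G
  bm : F → G
  a : K → G
  y1 : K → G
  y2 : K → G
  hF : Fˣ → G
  h0 : G
  na : G
  Tr : K →ₗ[F] F
  N : K → F
  k1 : K
  k2 : K
  c1 : F
  c2 : F
  c3 : F
  c4 : F
  c5 : F
  c6 : F
  c7 : F
  c1_ne : c1 ≠ 0
  c2_ne : c2 ≠ 0
  c3_ne : c3 ≠ 0
  c4_ne : c4 ≠ 0
  c5_ne : c5 ≠ 0
  c6_ne : c6 ≠ 0
  c7_ne : c7 ≠ 0
  k1_ne : k1 ≠ 1
  z_add : ∀ s t, z (s + t) = z s * z t
  e_add : ∀ s t, e (s + t) = e s * e t
  b_add : ∀ s t, b (s + t) = b s * b t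
  bm_add : ∀ s t, bm (s + t) = bm s * bm t
  a_add : ∀ s t, a (s + t) = a s * a t
  y1_add : ∀ s t, y1 (s + t) = y1 s * y1 t
  y2_add : ∀ s t, y2 (s + t) = y2 s * y2 t
  z_e : ∀ s t, Commute (z s) (e t)
  z_b : ∀ s t, Commute (z s) (b t)
  z_y1 : ∀ s u, Commute (z s) (y1 u)
  z_y2 : ∀ s u, Commute (z s) (y2 u)
  z_a : ∀ s u, Commute (z s) (a u)
  e_y1 : ∀ s u, Commute (e s) (y1 u)
  e_y2 : ∀ s u, Commute (e s) (y2 u)
  e_a : ∀ s u, Commute (e s) (a u)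
  e_bm : ∀ s t, Commute (e s) (bm t)
  b_y1 : ∀ s u, ∃ r, b s * y1 u = y1 u * b s * z r
  b_y2 : ∀ s u, ∃ r, b s * y2 u = y2 u * b s * z r
  y1_y2 : ∀ u v, ∃ r, y1 u * y2 v = y2 v * y1 u * z r
  b_e : ∀ s t, b s * e t * (b s)⁻¹ = e t * z (c1 * s * t)
  bm_z : ∀ s t, bm s * z t * (bm s)⁻¹ = z t * e (c2 * s * t)
  a_y2 : ∀ t u, (a t)⁻¹ * y2 u * a t = y2 u * e (c3 * Tr (t * u))
  a_b : ∀ t s, ∃ u v r, (a t)⁻¹ * b s * a t = b s * y1 u * y2 v * e (c4 * N t * s) * z r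
  hF_e : ∀ c s, hF c * e s * (hF c)⁻¹ = e ((c : F) * s)
  hF_z : ∀ c s, Commute (hF c) (z s)
  hF_b : ∀ c s, hF c * b s * (hF c)⁻¹ = b ((c : F)⁻¹ * s)
  h0_e : ∀ s, Commute h0 (e s)
  h0_z : ∀ s, Commute h0 (z s)
  h0_y1 : ∀ u, h0 * y1 u * h0⁻¹ = y1 (k1 * u)
  h0_y2 : ∀ u, h0 * y2 u * h0⁻¹ = y2 (k2 * u)
  na_b : ∀ s, na * b s * na⁻¹ = e (c5 * s)
  na_e : ∀ s, na * e s * na⁻¹ = b (c6 * s)
  na_z : ∀ s, na * z s * na⁻¹ = z (c7 * s)
  Tr_nondeg : ∀ t : K, t ≠ 0 → ∃ u : K, Tr (t * u) ≠ 0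
  N_zero : N 0 = 0
  N_surj : ∀ c : F, c ≠ 0 → ∃ t : K, N t = c

variable {F K : Type*} [Field F] [Field K] [Algebra F K] {G : Type*} [Group G]
  {V : Type*} [AddCommGroup V] [Module ℂ V]

/-- The weight space of `E = e(F) z(F)` for the pair of functions `(le, lz)`. -/
def wtE (cfg : TD4Config F K G) (ρ : Representation ℂ G V) (le lz : F → ℂ) : Submodule ℂ V where
  carrier := {v | (∀ s, ρ (cfg.e s) v = le s • v) ∧ (∀ s, ρ (cfg.z s) v = lz s • v)}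
  add_mem' := by
    rintro v w ⟨hv1, hv2⟩ ⟨hw1, hw2⟩
    exact ⟨fun s => by rw [map_add, hv1, hw1, smul_add], fun s => by rw [map_add, hv2, hw2, smul_add]⟩
  zero_mem' := ⟨fun s => by rw [map_zero, smul_zero], fun s => by rw [map_zero, smul_zero]⟩
  smul_mem' := by
    rintro c v ⟨hv1, hv2⟩
    exact ⟨fun s => by rw [map_smul, hv1, smul_comm], fun s => by rw [map_smul, hv2, smul_comm]⟩

theorem mem_wtE (cfg : TD4Config F K G) (ρ : Representation ℂ G V) (le lz : F → ℂ) (v : V) :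
    v ∈ wtE cfg ρ le lz ↔ (∀ s, ρ (cfg.e s) v = le s • v) ∧ (∀ s, ρ (cfg.z s) v = lz s • v) := Iff.rfl

end Cfsg.Agent.Lib.Helper23_TD4Defs
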