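import Mathlib
import Cfsg.Agent.Lib.Helper18_TD4Struct

set_option autoImplicit false

/-!
# S2183 (architect helper23): the unipotent group of `³D₄(q)`, `q` even, in coordinates

`K` a field of characteristic two, `f : K →+* K` with `f³ = id` (later the Frobenius `x ↦ x ^ q`).  An element of the
unipotent subgroup `U` of `³D₄(q)` is written `Phi f x = x_b(x.s) x_a(x.t) x_{a+b}(x.u) x_{2a+b}(x.v) x_{3a+b}(x.m) x_{3a+2b}(x.n)`
with `x : T6 K` (`x.s`, `x.m`, `x.n` fixed by `f`, see `Good`), in the notation of `Helper18_TD4Struct`: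
`x_b(s) = X 14 s`, `x_a(t) = yS dc pi eps f (18, 3) t`, `x_{a+b}(u) = yS dc pi eps f (15, 3) u`,
`x_{2a+b}(v) = yS dc pi eps f (17, 3) v`, `x_{3a+b}(m) = X 22 m`, `x_{3a+2b}(n) = X 23 n`.
`mulT f x y` is the product in these coordinates (characteristic two).
-/

namespace Cfsg.Agent.Lib.Helper23_TD4InvDefs

open Cfsg Cfsg.Lie Cfsg.Agent.Lib.Helper18_ChevGL Cfsg.Agent.Lib.Helper18_ChevUni
  Cfsg.Agent.Lib.Helper36_TwistU Cfsg.Agent.Lib.Helper36_TwistW
  Cfsg.Agent.Lib.Helper36_TwistTabD4 Cfsg.Agent.Lib.Helper36_TwistD4 Cfsg.Agent.Lib.Helper18_TD4Swap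

/-- Coordinates on the unipotent group: `s, m, n` (long roots `b`, `3a+b`, `3a+2b`), `t, u, v` (short roots `a`, `a+b`,
`2a+b`). -/
@[ext] structure T6 (K : Type*) where
  s : K
  t : K
  u : K
  v : K
  m : K
  n : K

variable {K : Type*} [Field K]

instance : Zero (T6 K) := ⟨⟨0, 0, 0, 0, 0, 0⟩⟩

@[simp] theorem zero_s : (0 : T6 K).s = 0 := rfl
@[simp] theorem zero_t : (0 : T6 K).t = 0 := rfl
@[simp] theorem zero_u : (0 : T6 K).u = 0 := rfl
@[simp] theorem zero_v : (0 : T6 K).v = 0 := rfl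
@[simp] theorem zero_m : (0 : T6 K).m = 0 := rfl
@[simp] theorem zero_n : (0 : T6 K).n = 0 := rfl

/-- The long root coordinates lie in the fixed field. -/
def Good (f : K →+* K) (x : T6 K) : Prop := f x.s = x.s ∧ f x.m = x.m ∧ f x.n = x.n

/-- The element of `U` with coordinates `x`. -/
noncomputable def Phi (f : K →+* K) (x : T6 K) : GL chevD4.Idx K :=
  X 14 x.s * yS dc pi eps f (18, 3) x.t * yS dc pi eps f (15, 3) x.u * yS dc pi eps f (17, 3) x.v * X 22 x.m * X 23 x.n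

/-- The product of `U` in coordinates (characteristic two). -/
def mulT (f : K →+* K) (x y : T6 K) : T6 K where
  s := x.s + y.s
  t := x.t + y.t
  u := x.u + y.u + f (f x.t) * y.s
  v := x.v + y.v + x.u * f y.t + f (f x.u) * f (f y.t) + f x.t * f (f x.t) * y.s + f x.t * y.s * f (f y.t) + f (f x.t) * y.s * f y.t
  m := x.m + y.m + x.v * y.t + f x.v * f y.t + f (f x.v) * f (f y.t) + x.u * y.t * f y.t + f x.u * f y.t * f (f y.t) + f (f x.u) * y.t * f (f y.t) + x.t * f x.t * f (f x.t) * y.s + x.t * f x.t * y.s * f (f y.t) + x.t * f (f x.t) * y.s * f y.t + x.t * y.s * f y.t * f (f y.t) + f x.t * f (f x.t) * y.s * y.t + f x.t * y.s * y.t * f (f y.t) + f (f x.t) * y.s * y.t * f y.t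
  n := x.n + y.n + x.m * y.s + x.v * f y.u + f x.v * f (f y.u) + f (f x.v) * y.u + x.u * f x.u * f y.t + x.u * f (f x.u) * y.t + x.u * y.t * f (f y.u) + x.u * f y.t * f y.u + f x.u * f (f x.u) * f (f y.t) + f x.u * f y.t * y.u + f x.u * f (f y.t) * f (f y.u) + f (f x.u) * y.t * y.u + f (f x.u) * f (f y.t) * f y.u + x.t * f x.t * x.u * y.s + x.t * f x.t * y.s * y.u + x.t * f (f x.t) * f (f x.u) * y.s + x.t * f (f x.t) * y.s * f (f y.u) + x.t * x.u * y.s * f y.t + x.t * f (f x.u) * y.s * f (f y.t) + x.t * y.s * f y.t * y.u + x.t * y.s * f (f y.t) * f (f y.u) + f x.t * f (f x.t) * f x.u * y.s + f x.t * f (f x.t) * y.s * f y.u + f x.t * x.u * y.s * y.t + f x.t * f x.u * y.s * f (f y.t) + f x.t * y.s * y.t * y.u + f x.t * y.s * f (f y.t) * f y.u + f (f x.t) * f x.u * y.s * f y.t + f (f x.t) * f (f x.u) * y.s * y.t + f (f x.t) * y.s * y.t * f (f y.u) + f (f x.t) * y.s * f y.t * f y.u + x.t * f x.t * y.s ^ 2 * f (f y.t) + x.t * f (f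 x.t) * y.s ^ 2 * f y.t + f x.t * f (f x.t) * y.s ^ 2 * y.t

end Cfsg.Agent.Lib.Helper23_TD4InvDefs
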