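import Mathlib
import Cfsg.Agent.Lib.Helper23_TD4InvDefs

set_option autoImplicit false
set_option linter.unusedSimpArgs false
set_option linter.unusedVariables false
set_option maxHeartbeats 4000000

/-!
# S2183 (architect helper23): the product of the unipotent group of `³D₄(q)`, `q` even, in coordinates

`Phi_mul : Phi f x * Phi f y = Phi f (mulT f x y)` (characteristic two, `f³ = id`, the long root coordinates fixed by
`f`), proved with the collection rules of `Helper18_TD4Swap`; the elements with one non-zero coordinate.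
-/

namespace Cfsg.Agent.Lib.Helper23_TD4InvMul

open Cfsg Cfsg.Lie Cfsg.Agent.Lib.Helper18_ChevGL Cfsg.Agent.Lib.Helper18_ChevUni
  Cfsg.Agent.Lib.Helper36_TwistU Cfsg.Agent.Lib.Helper36_TwistW
  Cfsg.Agent.Lib.Helper36_TwistTabD4 Cfsg.Agent.Lib.Helper36_TwistD4 Cfsg.Agent.Lib.Helper18_TD4Swap
  Cfsg.Agent.Lib.Helper18_TD4Struct Cfsg.Agent.Lib.Helper23_TD4InvDefs

variable {K : Type*} [Field K] [CharP K 2] (f : K →+* K)

/-- The product formula. -/
theorem Phi_mul (hf3 : ∀ x, f (f (f x)) = x) (x y : T6 K) (hx : Good f x) (hy : Good f y) :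
    Phi f x * Phi f y = Phi f (mulT f x y) := by
  obtain ⟨hxs, hxm, hxn⟩ := hx
  obtain ⟨hys, hym, hyn⟩ := hy
  unfold Phi mulT
  simp only [yS_a, yS_y1, yS_y2]
  simp only [map_mul, map_neg, map_add, map_pow, hf3, hxs, hxm, hxn, hys, hym, hyn]
  simp only [
    mul_inv_rev, X_inv, mul_assoc, X_add, X_add', sw_13_12, sw_13_12', sw_14_12, sw_14_12', sw_15_12, sw_15_12',
    sw_16_12, sw_16_12', sw_17_12, sw_17_12', sw_18_12, sw_18_12', sw_19_12, sw_19_12', sw_20_12, sw_20_12',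
    sw_21_12, sw_21_12', sw_22_12, sw_22_12', sw_23_12, sw_23_12', sw_14_13, sw_14_13', sw_15_13, sw_15_13',
    sw_16_13, sw_16_13', sw_17_13, sw_17_13', sw_18_13, sw_18_13', sw_19_13, sw_19_13', sw_20_13, sw_20_13',
    sw_21_13, sw_21_13', sw_22_13, sw_22_13', sw_23_13, sw_23_13', sw_15_14, sw_15_14', sw_16_14, sw_16_14',
    sw_17_14, sw_17_14', sw_18_14, sw_18_14', sw_19_14, sw_19_14', sw_20_14, sw_20_14', sw_21_14, sw_21_14',
    sw_22_14, sw_22_14', sw_23_14, sw_23_14', sw_16_15, sw_16_15', sw_17_15, sw_17_15', sw_18_15, sw_18_15',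
    sw_19_15, sw_19_15', sw_20_15, sw_20_15', sw_21_15, sw_21_15', sw_22_15, sw_22_15', sw_23_15, sw_23_15',
    sw_17_16, sw_17_16', sw_18_16, sw_18_16', sw_19_16, sw_19_16', sw_20_16, sw_20_16', sw_21_16, sw_21_16',
    sw_22_16, sw_22_16', sw_23_16, sw_23_16', sw_18_17, sw_18_17', sw_19_17, sw_19_17', sw_20_17, sw_20_17',
    sw_21_17, sw_21_17', sw_22_17, sw_22_17', sw_23_17, sw_23_17', sw_19_18, sw_19_18', sw_20_18, sw_20_18',
    sw_21_18, sw_21_18', sw_22_18, sw_22_18', sw_23_18, sw_23_18', sw_20_19, sw_20_19', sw_21_19, sw_21_19',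
    sw_22_19, sw_22_19', sw_23_19, sw_23_19', sw_21_20, sw_21_20', sw_22_20, sw_22_20', sw_23_20, sw_23_20',
    sw_22_21, sw_22_21', sw_23_21, sw_23_21', sw_23_22, sw_23_22']
  simp only [CharTwo.neg_eq]
  ring_nf
  have h2 : (2 : K) = 0 := CharTwo.two_eq_zero
  have h4 : (4 : K) = 0 := by
    have : (4 : K) = 2 * 2 := by norm_num
    rw [this, h2, mul_zero]
  simp only [h2, h4, mul_zero, add_zero, zero_add]

omit [CharP K 2] in
theorem yS_zero (p : ℕ × ℕ) (hp : p = (18, 3) ∨ p = (15, 3) ∨ p = (17, 3)) :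
    yS dc pi eps f p (0 : K) = 1 := by
  rcases hp with rfl | rfl | rfl
  · rw [yS_a]
    simp only [map_zero, X_zero, mul_one]
  · rw [yS_y1]
    simp only [map_zero, neg_zero, X_zero, mul_one]
  · rw [yS_y2]
    simp only [map_zero, neg_zero, X_zero, mul_one]

omit [CharP K 2] in
theorem Phi_zero : Phi f (0 : T6 K) = 1 := by
  unfold Phi
  simp only [zero_s, zero_t, zero_u, zero_v, zero_m, zero_n, X_zero, one_mul, mul_one,
    yS_zero f (18, 3) (Or.inl rfl), yS_zero f (15, 3) (Or.inr (Or.inl rfl)), yS_zero f (17, 3) (Or.inr (Or.inr rfl))]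

omit [CharP K 2] in
/-- The coordinates of a product are again good. -/
theorem good_mulT (hf3 : ∀ x, f (f (f x)) = x) (x y : T6 K) (hx : Good f x) (hy : Good f y) :
    Good f (mulT f x y) := by
  obtain ⟨hxs, hxm, hxn⟩ := hx
  obtain ⟨hys, hym, hyn⟩ := hy
  refine ⟨?_, ?_, ?_⟩
  · simp only [mulT, map_add, hxs, hys]
  · simp only [mulT, map_add, map_mul, map_pow, hf3, hxs, hxm, hxn, hys, hym, hyn]
    ring
  · simp only [mulT, map_add, map_mul, map_pow, hf3, hxs, hxm, hxn, hys, hym, hyn]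
    ring

/-! ### The elements with one non-zero coordinate -/

/-- `x_b(s)`. -/
def tb (s : K) : T6 K := ⟨s, 0, 0, 0, 0, 0⟩
/-- `x_a(t)`. -/
def ta (t : K) : T6 K := ⟨0, t, 0, 0, 0, 0⟩
/-- `x_{a+b}(u)`. -/
def ty1 (u : K) : T6 K := ⟨0, 0, u, 0, 0, 0⟩
/-- `x_{2a+b}(v)`. -/
def ty2 (v : K) : T6 K := ⟨0, 0, 0, v, 0, 0⟩
/-- `x_{3a+b}(m)`. -/
def te (m : K) : T6 K := ⟨0, 0, 0, 0, m, 0⟩
/-- `x_{3a+2b}(n)`. -/
def tz (n : K) : T6 K := ⟨0, 0, 0, 0, 0, n⟩

omit [CharP K 2] in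
theorem Phi_tb (s : K) : Phi f (tb s) = X 14 s := by
  unfold Phi tb
  simp only [X_zero, one_mul, mul_one,
    yS_zero f (18, 3) (Or.inl rfl), yS_zero f (15, 3) (Or.inr (Or.inl rfl)), yS_zero f (17, 3) (Or.inr (Or.inr rfl))]

omit [CharP K 2] in
theorem Phi_ta (t : K) : Phi f (ta t) = yS dc pi eps f (18, 3) t := by
  unfold Phi ta
  simp only [X_zero, one_mul, mul_one,
    yS_zero f (18, 3) (Or.inl rfl), yS_zero f (15, 3) (Or.inr (Or.inl rfl)), yS_zero f (17, 3) (Or.inr (Or.inr rfl))]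

omit [CharP K 2] in
theorem Phi_ty1 (u : K) : Phi f (ty1 u) = yS dc pi eps f (15, 3) u := by
  unfold Phi ty1
  simp only [X_zero, one_mul, mul_one,
    yS_zero f (18, 3) (Or.inl rfl), yS_zero f (15, 3) (Or.inr (Or.inl rfl)), yS_zero f (17, 3) (Or.inr (Or.inr rfl))]

omit [CharP K 2] in
theorem Phi_ty2 (v : K) : Phi f (ty2 v) = yS dc pi eps f (17, 3) v := by
  unfold Phi ty2
  simp only [X_zero, one_mul, mul_one,
    yS_zero f (18, 3) (Or.inl rfl), yS_zero f (15, 3) (Or.inr (Or.inl rfl)), yS_zero f (17, 3) (Or.inr (Or.inr rfl))]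

omit [CharP K 2] in
theorem Phi_te (m : K) : Phi f (te m) = X 22 m := by
  unfold Phi te
  simp only [X_zero, one_mul, mul_one,
    yS_zero f (18, 3) (Or.inl rfl), yS_zero f (15, 3) (Or.inr (Or.inl rfl)), yS_zero f (17, 3) (Or.inr (Or.inr rfl))]

omit [CharP K 2] in
theorem Phi_tz (n : K) : Phi f (tz n) = X 23 n := by
  unfold Phi tz
  simp only [X_zero, one_mul, mul_one,
    yS_zero f (18, 3) (Or.inl rfl), yS_zero f (15, 3) (Or.inr (Or.inl rfl)), yS_zero f (17, 3) (Or.inr (Or.inr rfl))]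

omit [CharP K 2] in
theorem good_tb (s : K) (hs : f s = s) : Good f (tb s) := ⟨hs, map_zero f, map_zero f⟩
omit [CharP K 2] in
theorem good_ta (t : K) : Good f (ta t) := ⟨map_zero f, map_zero f, map_zero f⟩
omit [CharP K 2] in
theorem good_ty1 (u : K) : Good f (ty1 u) := ⟨map_zero f, map_zero f, map_zero f⟩
omit [CharP K 2] in
theorem good_ty2 (v : K) : Good f (ty2 v) := ⟨map_zero f, map_zero f, map_zero f⟩
omit [CharP K 2] in
theorem good_te (m : K) (hm : f m = m) : Good f (te m) := ⟨map_zero f, hm, map_zero f⟩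
omit [CharP K 2] in
theorem good_tz (n : K) (hn : f n = n) : Good f (tz n) := ⟨map_zero f, map_zero f, hn⟩

end Cfsg.Agent.Lib.Helper23_TD4InvMul
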