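import Mathlib
import Cfsg.Agent.Lib.Helper23_TD4InvMul

set_option autoImplicit false
set_option linter.unusedSimpArgs false
set_option linter.unusedVariables false
set_option linter.unusedTactic false
set_option linter.unreachableTactic false
set_option linter.unnecessarySeqFocus false
set_option linter.unusedSectionVars false
set_option maxHeartbeats 1000000

/-!
# S2183 (architect helper23): conjugation by root elements in the coordinates of the unipotent group

For `c` one of `tb s0, ta t0, ty1 u0, ty2 v0, te m0` the coordinates `cjB s0 x, …` of `Phi c * Phi x * (Phi c)⁻¹`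
(characteristic two), as identities `mulT c x = mulT (cj x) c` of coordinates, and their group form.
-/

namespace Cfsg.Agent.Lib.Helper23_TD4InvConj

open Cfsg Cfsg.Lie Cfsg.Agent.Lib.Helper18_ChevGL Cfsg.Agent.Lib.Helper18_ChevUni
  Cfsg.Agent.Lib.Helper36_TwistU Cfsg.Agent.Lib.Helper36_TwistW
  Cfsg.Agent.Lib.Helper36_TwistTabD4 Cfsg.Agent.Lib.Helper36_TwistD4 Cfsg.Agent.Lib.Helper18_TD4Swap
  Cfsg.Agent.Lib.Helper18_TD4Struct Cfsg.Agent.Lib.Helper23_TD4InvDefs Cfsg.Agent.Lib.Helper23_TD4InvMul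

variable {K : Type*} [Field K] (f : K →+* K)

/-- Conjugation by `x_b(s0)`. -/
def cjB (s0 : K) (x : T6 K) : T6 K where
  s := x.s
  t := x.t
  u := x.u + s0 * f (f x.t)
  v := x.v + s0 * f x.t * f (f x.t)
  m := x.m + s0 * x.t * f x.t * f (f x.t)
  n := x.n + s0 * x.m + s0 * x.t * f x.t * x.u + s0 * x.t * f (f x.t) * f (f x.u) + s0 * f x.t * f (f x.t) * f x.u

/-- Conjugation by `x_a(t0)`. -/
def cjA (t0 : K) (x : T6 K) : T6 K where
  s := x.s
  t := x.t
  u := x.u + f (f t0) * x.s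
  v := x.v + f t0 * x.u + f (f t0) * f (f x.u) + f t0 * f (f t0) * x.s + f t0 * x.s * f (f x.t) + f (f t0) * x.s * f x.t
  m := x.m + t0 * x.v + f t0 * f x.v + f (f t0) * f (f x.v) + t0 * f t0 * x.u + t0 * f (f t0) * f (f x.u) + f t0 * f (f t0) * f x.u + t0 * f t0 * f (f t0) * x.s + t0 * f t0 * x.s * f (f x.t) + t0 * f (f t0) * x.s * f x.t + t0 * x.s * f x.t * f (f x.t) + f t0 * f (f t0) * x.s * x.t + f t0 * x.s * x.t * f (f x.t) + f (f t0) * x.s * x.t * f x.t
  n := x.n + t0 * x.u * f (f x.u) + f t0 * x.u * f x.u + f (f t0) * f x.u * f (f x.u) + t0 * f t0 * x.s * x.u + t0 * f (f t0) * x.s * f (f x.u) + t0 * x.s * f x.t * x.u + t0 * x.s * f (f x.t) * f (f x.u) + f t0 * f (f t0) * x.s * f x.u + f t0 * x.s * x.t * x.u + f t0 * x.s * f (f x.t) * f x.u + f (f t0) * x.s * x.t * f (f x.u) + f (f t0) * x.s * f x.t * f x.u + t0 * f t0 * f (f t0) * x.s ^ 2 + t0 * f t0 * x.s ^ 2 * f (f x.t) + t0 * f (f t0) * x.s ^ 2 * f x.t + f t0 * f (f t0)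 * x.s ^ 2 * x.t

/-- Conjugation by `x_{a+b}(u0)`. -/
def cjY1 (u0 : K) (x : T6 K) : T6 K where
  s := x.s
  t := x.t
  u := x.u
  v := x.v + u0 * f x.t + f (f u0) * f (f x.t)
  m := x.m + u0 * x.t * f x.t + f u0 * f x.t * f (f x.t) + f (f u0) * x.t * f (f x.t)
  n := x.n + u0 * f (f x.v) + f u0 * x.v + f (f u0) * f x.v + u0 * f u0 * f x.t + u0 * f (f u0) * x.t + u0 * x.t * f (f x.u) + u0 * f x.t * f x.u + f u0 * f (f u0) * f (f x.t) + f u0 * f x.t * x.u + f u0 * f (f x.t) * f (f x.u) + f (f u0) * x.t * x.u + f (f u0) * f (f x.t) * f x.u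

/-- Conjugation by `x_{2a+b}(v0)`. -/
def cjY2 (v0 : K) (x : T6 K) : T6 K where
  s := x.s
  t := x.t
  u := x.u
  v := x.v
  m := x.m + v0 * x.t + f v0 * f x.t + f (f v0) * f (f x.t)
  n := x.n + v0 * f x.u + f v0 * f (f x.u) + f (f v0) * x.u

/-- Conjugation by `x_{3a+b}(m0)`. -/
def cjE (m0 : K) (x : T6 K) : T6 K where
  s := x.s
  t := x.t
  u := x.u
  v := x.v
  m := x.m
  n := x.n + m0 * x.s

section char2

variable [CharP K 2]

/-! Numerals in characteristic two (to finish `ring_nf` normal forms: `simp only [c2, c3, c4, c5, c6, c7, c8, c9, mul_one,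
mul_zero, add_zero, zero_add]`). -/
theorem c2 : (2 : K) = 0 := CharTwo.two_eq_zero
theorem c3 : (3 : K) = 1 := by
  have : (3 : K) = 2 + 1 := by norm_num
  rw [this, c2, zero_add]
theorem c4 : (4 : K) = 0 := by
  have : (4 : K) = 2 * 2 := by norm_num
  rw [this, c2, mul_zero]
theorem c5 : (5 : K) = 1 := by
  have : (5 : K) = 4 + 1 := by norm_num
  rw [this, c4, zero_add]
theorem c6 : (6 : K) = 0 := by
  have : (6 : K) = 2 * 3 := by norm_num
  rw [this, c2, zero_mul]
theorem c7 : (7 : K) = 1 := by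
  have : (7 : K) = 6 + 1 := by norm_num
  rw [this, c6, zero_add]
theorem c8 : (8 : K) = 0 := by
  have : (8 : K) = 2 * 4 := by norm_num
  rw [this, c2, zero_mul]
theorem c9 : (9 : K) = 1 := by
  have : (9 : K) = 8 + 1 := by norm_num
  rw [this, c8, zero_add]

theorem mul_cjB (hf3 : ∀ x, f (f (f x)) = x) (s0 : K) (hs0 : f s0 = s0) (x : T6 K) (hx : Good f x) :
    mulT f (tb s0) x = mulT f (cjB f s0 x) (tb s0) := by
  obtain ⟨hxs, hxm, hxn⟩ := hx
  ext <;> simp only [mulT, cjB, tb, map_zero, map_add, map_mul, hf3, hs0, hxs, hxm, hxn, zero_mul, mul_zero, add_zero,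
    zero_add] <;> ring_nf <;> simp only [c2, c3, c4, c5, c6, c7, c8, c9, mul_one, mul_zero, add_zero, zero_add]

theorem mul_cjA (hf3 : ∀ x, f (f (f x)) = x) (t0 : K) (x : T6 K) (hx : Good f x) :
    mulT f (ta t0) x = mulT f (cjA f t0 x) (ta t0) := by
  obtain ⟨hxs, hxm, hxn⟩ := hx
  ext <;> simp only [mulT, cjA, ta, map_zero, map_add, map_mul, map_pow, hf3, hxs, hxm, hxn, zero_mul, mul_zero,
    add_zero, zero_add] <;> ring_nf <;> simp only [c2, c3, c4, c5, c6, c7, c8, c9, mul_one, mul_zero, add_zero, zero_add]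

theorem mul_cjY1 (hf3 : ∀ x, f (f (f x)) = x) (u0 : K) (x : T6 K) (hx : Good f x) :
    mulT f (ty1 u0) x = mulT f (cjY1 f u0 x) (ty1 u0) := by
  obtain ⟨hxs, hxm, hxn⟩ := hx
  ext <;> simp only [mulT, cjY1, ty1, map_zero, map_add, map_mul, map_pow, hf3, hxs, hxm, hxn, zero_mul, mul_zero,
    add_zero, zero_add] <;> ring_nf <;> simp only [c2, c3, c4, c5, c6, c7, c8, c9, mul_one, mul_zero, add_zero, zero_add]

theorem mul_cjY2 (hf3 : ∀ x, f (f (f x)) = x) (v0 : K) (x : T6 K) (hx : Good f x) :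
    mulT f (ty2 v0) x = mulT f (cjY2 f v0 x) (ty2 v0) := by
  obtain ⟨hxs, hxm, hxn⟩ := hx
  ext <;> simp only [mulT, cjY2, ty2, map_zero, map_add, map_mul, map_pow, hf3, hxs, hxm, hxn, zero_mul, mul_zero,
    add_zero, zero_add] <;> ring_nf <;> simp only [c2, c3, c4, c5, c6, c7, c8, c9, mul_one, mul_zero, add_zero, zero_add]

theorem mul_cjE (hf3 : ∀ x, f (f (f x)) = x) (m0 : K) (hm0 : f m0 = m0) (x : T6 K) (hx : Good f x) :
    mulT f (te m0) x = mulT f (cjE m0 x) (te m0) := by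
  obtain ⟨hxs, hxm, hxn⟩ := hx
  ext <;> simp only [mulT, cjE, te, map_zero, map_add, map_mul, map_pow, hf3, hxs, hxm, hxn, zero_mul, mul_zero,
    add_zero, zero_add] <;> ring_nf <;> simp only [c2, c3, c4, c5, c6, c7, c8, c9, mul_one, mul_zero, add_zero, zero_add]

end char2

end Cfsg.Agent.Lib.Helper23_TD4InvConj
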