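import Mathlib
import Cfsg.Agent.Lib.Helper36_TD4Struct
import Cfsg.Agent.Lib.Helper18_TD4Struct

set_option autoImplicit false
set_option maxRecDepth 100000
set_option linter.unusedSimpArgs false
set_option linter.unusedVariables false

/-!
# S2183 (architect helper23): the action of the representatives `n_b = nJ dc K [1]` and `n_a = nJ dc K [0, 2, 3]` of the
two reflections on the classes of root elements of `³D₄`.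
-/

namespace Cfsg.Agent.Lib.Helper23_TD4InvWeyl

open Cfsg Cfsg.Lie Cfsg.Agent.Lib.Helper18_ChevGL Cfsg.Agent.Lib.Helper18_ChevUni
  Cfsg.Agent.Lib.Helper18_ChevN Cfsg.Agent.Lib.Helper18_ChevWeyl
  Cfsg.Agent.Lib.Helper36_TwistU Cfsg.Agent.Lib.Helper36_TwistW
  Cfsg.Agent.Lib.Helper36_TwistTabD4 Cfsg.Agent.Lib.Helper36_TwistD4 Cfsg.Agent.Lib.Helper18_TD4Swap
  Cfsg.Agent.Lib.Helper18_TD4Struct Cfsg.Agent.Lib.Helper36_TD4Struct Cfsg.Agent.Lib.Helper36_ChevTables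

variable {K : Type*} [Field K] (f : K →+* K)

theorem reflTab1 :
    chevD4.reflectRoot 1 18 = 19 ∧ etaZ Ns 1 18 = 1 ∧ chevD4.reflectRoot 1 13 = 16 ∧ etaZ Ns 1 13 = -1 ∧
    chevD4.reflectRoot 1 12 = 15 ∧ etaZ Ns 1 12 = -1 ∧
    chevD4.reflectRoot 1 15 = 12 ∧ etaZ Ns 1 15 = 1 ∧ chevD4.reflectRoot 1 19 = 18 ∧ etaZ Ns 1 19 = -1 ∧
    chevD4.reflectRoot 1 16 = 13 ∧ etaZ Ns 1 16 = 1 ∧
    chevD4.reflectRoot 1 22 = 23 ∧ etaZ Ns 1 22 = 1 ∧ chevD4.reflectRoot 1 23 = 22 ∧ etaZ Ns 1 23 = -1 := by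
  decide +kernel

theorem ltTab1 : chevD4.rank = 4 ∧ 18 < chevD4.nroots ∧ 13 < chevD4.nroots ∧ 12 < chevD4.nroots ∧
    15 < chevD4.nroots ∧ 19 < chevD4.nroots ∧ 16 < chevD4.nroots ∧ 22 < chevD4.nroots ∧ 23 < chevD4.nroots ∧
    17 < chevD4.nroots ∧ 20 < chevD4.nroots ∧ 21 < chevD4.nroots ∧ 14 < chevD4.nroots := by
  decide +kernel

/-- Conjugation of a root element by `n_1`. -/
theorem nJ1_conj (s s1 : ℕ) (e1 : ℤ) (hs : s < chevD4.nroots)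
    (h1 : chevD4.reflectRoot 1 s = s1 ∧ etaZ Ns 1 s = e1) (t : K) :
    nJ dc K [1] * X s t * (nJ dc K [1])⁻¹ = X s1 (((e1 : ℤ) : K) * t) := by
  have hr : chevD4.rank = 4 := ltTab1.1
  have c1 := nGL_conj (F := K) dc 1 (by rw [hr]; norm_num) s hs t
  rw [h1.1, h1.2] at c1
  have e : nJ dc K [1] = nGL dc 1 := by
    rw [nJ_cons]
    unfold nJ
    rw [List.map_nil, List.prod_nil, mul_one]
  rw [e]
  exact c1

theorem nb_e (s : K) : nJ dc K [1] * X 22 s * (nJ dc K [1])⁻¹ = X 23 s := by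
  obtain ⟨-, -, -, -, -, -, -, -, -, -, -, -, a1, a2, -⟩ := reflTab1
  rw [nJ1_conj 22 23 1 ltTab1.2.2.2.2.2.2.2.1 ⟨a1, a2⟩]
  congr 1
  push_cast
  ring

theorem nb_z (s : K) : nJ dc K [1] * X 23 s * (nJ dc K [1])⁻¹ = X 22 (-s) := by
  obtain ⟨-, -, -, -, -, -, -, -, -, -, -, -, -, -, a1, a2⟩ := reflTab1
  rw [nJ1_conj 23 22 (-1) ltTab1.2.2.2.2.2.2.2.2.1 ⟨a1, a2⟩]
  congr 1
  push_cast
  ring

/-- Conjugation of a product of three elements. -/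
theorem conj_mul3 (n a b c : GL chevD4.Idx K) :
    n * (a * (b * c)) * n⁻¹ = (n * a * n⁻¹) * ((n * b * n⁻¹) * (n * c * n⁻¹)) := by
  group

theorem nb_a (hf3 : ∀ x, f (f (f x)) = x) (t : K) :
    nJ dc K [1] * yS dc pi eps f (18, 3) t * (nJ dc K [1])⁻¹ = yS dc pi eps f (15, 3) (-(f (f t))) := by
  obtain ⟨a1, a2, a3, a4, a5, a6, -⟩ := reflTab1
  obtain ⟨-, l18, l13, l12, -⟩ := ltTab1
  rw [yS_a, yS_y1, conj_mul3, nJ1_conj 18 19 1 l18 ⟨a1, a2⟩, nJ1_conj 13 16 (-1) l13 ⟨a3, a4⟩,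
    nJ1_conj 12 15 (-1) l12 ⟨a5, a6⟩]
  simp only [map_neg, hf3, neg_neg]
  have h1 : X 19 (((1 : ℤ) : K) * t) = X 19 t := by
    congr 1
    push_cast
    ring
  have h2 : X 16 (((-1 : ℤ) : K) * f t) = X 16 (-(f t)) := by
    congr 1
    push_cast
    ring
  have h3 : X 15 (((-1 : ℤ) : K) * f (f t)) = X 15 (-(f (f t))) := by
    congr 1
    push_cast
    ring
  rw [h1, h2, h3]
  simp only [mul_assoc, sw_16_15, sw_16_15', sw_19_15, sw_19_15', sw_19_16, sw_19_16']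

theorem nb_y1 (hf3 : ∀ x, f (f (f x)) = x) (u : K) :
    nJ dc K [1] * yS dc pi eps f (15, 3) u * (nJ dc K [1])⁻¹ = yS dc pi eps f (18, 3) (f u) := by
  obtain ⟨-, -, -, -, -, -, a1, a2, a3, a4, a5, a6, -⟩ := reflTab1
  obtain ⟨-, -, -, -, l15, l19, l16, -⟩ := ltTab1
  rw [yS_a, yS_y1, conj_mul3, nJ1_conj 15 12 1 l15 ⟨a1, a2⟩, nJ1_conj 19 18 (-1) l19 ⟨a3, a4⟩,
    nJ1_conj 16 13 1 l16 ⟨a5, a6⟩]
  simp only [hf3]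
  have h1 : X 12 (((1 : ℤ) : K) * u) = X 12 u := by
    congr 1
    push_cast
    ring
  have h2 : X 18 (((-1 : ℤ) : K) * -(f u)) = X 18 (f u) := by
    congr 1
    push_cast
    ring
  have h3 : X 13 (((1 : ℤ) : K) * f (f u)) = X 13 (f (f u)) := by
    congr 1
    push_cast
    ring
  rw [h1, h2, h3]
  simp only [mul_assoc, sw_13_12, sw_13_12', sw_18_12, sw_18_12', sw_18_13, sw_18_13']

theorem reflTab3 :
    chevD4.reflectRoot 3 15 = 14 ∧ etaZ Ns 3 15 = -1 ∧ chevD4.reflectRoot 2 14 = 16 ∧ etaZ Ns 2 14 = 1 ∧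
    chevD4.reflectRoot 0 16 = 21 ∧ etaZ Ns 0 16 = -1 ∧
    chevD4.reflectRoot 3 19 = 20 ∧ etaZ Ns 3 19 = 1 ∧ chevD4.reflectRoot 2 20 = 22 ∧ etaZ Ns 2 20 = 1 ∧
    chevD4.reflectRoot 0 22 = 17 ∧ etaZ Ns 0 22 = 1 ∧
    chevD4.reflectRoot 3 16 = 17 ∧ etaZ Ns 3 16 = 1 ∧ chevD4.reflectRoot 2 17 = 15 ∧ etaZ Ns 2 17 = -1 ∧
    chevD4.reflectRoot 0 15 = 20 ∧ etaZ Ns 0 15 = -1 ∧
    chevD4.reflectRoot 3 17 = 16 ∧ etaZ Ns 3 17 = -1 ∧ chevD4.reflectRoot 2 16 = 14 ∧ etaZ Ns 2 16 = -1 ∧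
    chevD4.reflectRoot 0 14 = 19 ∧ etaZ Ns 0 14 = -1 ∧
    chevD4.reflectRoot 3 20 = 19 ∧ etaZ Ns 3 20 = -1 ∧ chevD4.reflectRoot 2 19 = 21 ∧ etaZ Ns 2 19 = 1 ∧
    chevD4.reflectRoot 0 21 = 16 ∧ etaZ Ns 0 21 = 1 ∧
    chevD4.reflectRoot 3 21 = 22 ∧ etaZ Ns 3 21 = 1 ∧ chevD4.reflectRoot 2 22 = 20 ∧ etaZ Ns 2 22 = -1 ∧
    chevD4.reflectRoot 0 20 = 15 ∧ etaZ Ns 0 20 = 1 := by
  decide +kernel

theorem na_y1 (hf3 : ∀ x, f (f (f x)) = x) (u : K) :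
    nJ dc K [0, 2, 3] * yS dc pi eps f (15, 3) u * (nJ dc K [0, 2, 3])⁻¹ = yS dc pi eps f (17, 3) (-(f u)) := by
  obtain ⟨a1, a2, a3, a4, a5, a6, b1, b2, b3, b4, b5, b6, c1, c2, c3, c4, c5, c6, -⟩ := reflTab3
  obtain ⟨-, -, -, -, l15, l19, l16, l22, -, l17, l20, l21, l14⟩ := ltTab1
  rw [yS_y1, yS_y2, conj_mul3,
    nJ3_conj 15 14 16 21 (-1) 1 (-1) l15 l14 l16 ⟨a1, a2⟩ ⟨a3, a4⟩ ⟨a5, a6⟩,
    nJ3_conj 19 20 22 17 1 1 1 l19 l20 l22 ⟨b1, b2⟩ ⟨b3, b4⟩ ⟨b5, b6⟩,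
    nJ3_conj 16 17 15 20 1 (-1) (-1) l16 l17 l15 ⟨c1, c2⟩ ⟨c3, c4⟩ ⟨c5, c6⟩]
  simp only [map_neg, hf3, neg_neg]
  have h1 : X 21 (((-1 * 1 * -1 : ℤ) : K) * u) = X 21 u := by
    congr 1
    push_cast
    ring
  have h2 : X 17 (((1 * 1 * 1 : ℤ) : K) * -(f u)) = X 17 (-(f u)) := by
    congr 1
    push_cast
    ring
  have h3 : X 20 (((-1 * -1 * 1 : ℤ) : K) * f (f u)) = X 20 (f (f u)) := by
    congr 1
    push_cast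
    ring
  show X 21 (((-1 * 1 * -1 : ℤ) : K) * u) * (X 17 (((1 * 1 * 1 : ℤ) : K) * -(f u)) *
    X 20 (((-1 * -1 * 1 : ℤ) : K) * f (f u))) = _
  rw [h1, h2, h3]
  simp only [mul_assoc, sw_20_17, sw_20_17', sw_21_17, sw_21_17', sw_21_20, sw_21_20']

theorem na_y2 (hf3 : ∀ x, f (f (f x)) = x) (v : K) :
    nJ dc K [0, 2, 3] * yS dc pi eps f (17, 3) v * (nJ dc K [0, 2, 3])⁻¹ = yS dc pi eps f (15, 3) (f (f v)) := by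
  obtain ⟨-, -, -, -, -, -, -, -, -, -, -, -, -, -, -, -, -, -, a1, a2, a3, a4, a5, a6, b1, b2, b3, b4, b5, b6,
    c1, c2, c3, c4, c5, c6⟩ := reflTab3
  obtain ⟨-, -, -, -, l15, l19, l16, l22, -, l17, l20, l21, l14⟩ := ltTab1
  rw [yS_y1, yS_y2, conj_mul3,
    nJ3_conj 17 16 14 19 (-1) (-1) (-1) l17 l16 l14 ⟨a1, a2⟩ ⟨a3, a4⟩ ⟨a5, a6⟩,
    nJ3_conj 20 19 21 16 (-1) 1 1 l20 l19 l21 ⟨b1, b2⟩ ⟨b3, b4⟩ ⟨b5, b6⟩,
    nJ3_conj 21 22 20 15 1 (-1) 1 l21 l22 l20 ⟨c1, c2⟩ ⟨c3, c4⟩ ⟨c5, c6⟩]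
  simp only [hf3]
  have h1 : X 19 (((-1 * -1 * -1 : ℤ) : K) * v) = X 19 (-v) := by
    congr 1
    push_cast
    ring
  have h2 : X 16 (((1 * 1 * -1 : ℤ) : K) * -(f v)) = X 16 (f v) := by
    congr 1
    push_cast
    ring
  have h3 : X 15 (((1 * -1 * 1 : ℤ) : K) * -(f (f v))) = X 15 (f (f v)) := by
    congr 1
    push_cast
    ring
  show X 19 (((-1 * -1 * -1 : ℤ) : K) * v) * (X 16 (((1 * 1 * -1 : ℤ) : K) * -(f v)) *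
    X 15 (((1 * -1 * 1 : ℤ) : K) * -(f (f v)))) = _
  rw [h1, h2, h3]
  simp only [mul_assoc, sw_16_15, sw_16_15', sw_19_15, sw_19_15', sw_19_16, sw_19_16']

theorem na_b (s : K) : nJ dc K [0, 2, 3] * X 14 s * (nJ dc K [0, 2, 3])⁻¹ = X 22 (-s) := by
  obtain ⟨a1, a2, a3, a4, a5, a6, -⟩ := reflTab
  obtain ⟨-, l14, l15, l17, -⟩ := ltTab
  rw [nJ3_conj 14 15 17 22 1 1 (-1) l14 l15 l17 ⟨a1, a2⟩ ⟨a3, a4⟩ ⟨a5, a6⟩]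
  congr 1
  push_cast
  ring

theorem na_e (s : K) : nJ dc K [0, 2, 3] * X 22 s * (nJ dc K [0, 2, 3])⁻¹ = X 14 s := by
  obtain ⟨-, -, -, -, -, -, a1, a2, a3, a4, a5, a6, -⟩ := reflTab
  obtain ⟨-, -, -, -, l22, l21, l19, -⟩ := ltTab
  rw [nJ3_conj 22 21 19 14 (-1) (-1) 1 l22 l21 l19 ⟨a1, a2⟩ ⟨a3, a4⟩ ⟨a5, a6⟩]
  congr 1
  push_cast
  ring

end Cfsg.Agent.Lib.Helper23_TD4InvWeyl
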