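import Mathlib
import Cfsg.Agent.Lib.Helper36_TD4Struct
import Cfsg.Agent.Lib.Helper23_TD4InvRed

set_option autoImplicit false
set_option maxRecDepth 100000
set_option linter.unusedSimpArgs false
set_option linter.unusedVariables false

/-!
# S2183 (architect helper23): the hypotheses of `Helper23_TD4InvRed.Hyp` for `H = twistedD4 K q`
(except the uniqueness of the coordinates, package NF).
-/

namespace Cfsg.Agent.Lib.Helper23_TD4InvGrp

open Cfsg Cfsg.Lie Cfsg.Agent.Lib.Helper18_ChevGL Cfsg.Agent.Lib.Helper18_ChevUni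
  Cfsg.Agent.Lib.Helper36_TwistU Cfsg.Agent.Lib.Helper36_TwistW
  Cfsg.Agent.Lib.Helper36_TwistTabD4 Cfsg.Agent.Lib.Helper36_TwistD4 Cfsg.Agent.Lib.Helper18_TD4Swap
  Cfsg.Agent.Lib.Helper18_TD4Struct Cfsg.Agent.Lib.Helper23_TD4InvDefs Cfsg.Agent.Lib.Helper23_TD4InvMul
  Cfsg.Agent.Lib.Helper23_TD4InvRed Cfsg.Agent.Lib.Helper36_TD4Struct Cfsg.Agent.Lib.Helper36_TD4Torus
  Cfsg.Agent.Lib.Helper23_TD4Field Cfsg.Agent.Lib.Helper36_D4Out

variable {K : Type*} [Field K] [Fintype K] {q : ℕ} (hK : Fintype.card K = q ^ 3)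
  (f : K →+* K) (hf : ∀ x : K, f x = x ^ q)

include hK hf in
/-- The elements `Phi f x` lie in the twisted group. -/
theorem phi_mem (x : T6 K) (hx : Good f x) : Phi f x ∈ twistedD4 K q := by
  obtain ⟨hs, hm, hn⟩ := hx
  unfold Phi
  refine Subgroup.mul_mem _ (Subgroup.mul_mem _ (Subgroup.mul_mem _ (Subgroup.mul_mem _ (Subgroup.mul_mem _ ?_ ?_) ?_)
    ?_) ?_) ?_
  · exact x_mem hK f hf 14 (by simp) _ hs
  · exact class_mem hK f hf (18, 3) clsTab.2.1 _ (closesB hK f hf _)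
  · exact class_mem hK f hf (15, 3) clsTab.2.2.1 _ (closes15 hK f hf _)
  · exact class_mem hK f hf (17, 3) clsTab.2.2.2.1 _ (closes17 hK f hf _)
  · exact x_mem hK f hf 22 (by simp) _ hm
  · exact x_mem hK f hf 23 (by simp) _ hn

include hK hf in
/-- The torus is transitive on the non-trivial elements of the root group of `a`. -/
theorem torA [CharP K 2] (t : K) (ht : t ≠ 0) :
    CJ (twistedD4 K q) (yS dc pi eps f (18, 3) t) (yS dc pi eps f (18, 3) 1) := by
  obtain ⟨r, hr⟩ : ∃ r : K, r * r = t⁻¹ := by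
    have := FiniteField.isSquare_of_char_two (F := K) (ringChar.eq K 2) t⁻¹
    obtain ⟨r, hr⟩ := this
    exact ⟨r, hr.symm⟩
  have hr0 : r ≠ 0 := by
    rintro rfl
    rw [mul_zero] at hr
    exact inv_ne_zero ht hr.symm
  refine ⟨(hT hK f hf (Units.mk0 r hr0)).1, (hT hK f hf (Units.mk0 r hr0)).2, ?_⟩
  rw [hT_a]
  congr 1
  rw [Units.val_mk0, sq, hr, inv_mul_cancel₀ ht]

include hK hf in
/-- The torus is transitive on the non-trivial elements of the root group of `3a+b`. -/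
theorem torE (m : K) (hm : f m = m) (hm0 : m ≠ 0) : CJ (twistedD4 K q) (X 22 m) (X 22 1) := by
  have hm' : f m⁻¹ = m⁻¹ := by rw [map_inv₀, hm]
  obtain ⟨r, hr⟩ := exists_unit_norm hK f hf (Units.mk0 (⟨m⁻¹, hm'⟩ : FF f) (by
    intro h
    exact inv_ne_zero hm0 (congrArg Subtype.val h)))
  refine ⟨(hT hK f hf r).1, (hT hK f hf r).2, ?_⟩
  rw [hT_e, hr]
  congr 1
  simp only [Units.val_mk0]
  exact inv_mul_cancel₀ hm0

/-- Squares are onto in a finite field of characteristic two. -/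
theorem sq_surj [CharP K 2] (c : K) : ∃ μ : K, μ * μ = c := by
  obtain ⟨r, hr⟩ := FiniteField.isSquare_of_char_two (F := K) (ringChar.eq K 2) c
  exact ⟨r, hr.symm⟩

include hK hf in
/-- The hypotheses of the reduction, given the uniqueness of the coordinates. -/
theorem hyp_twisted [CharP K 2] (hinj : ∀ x, Good f x → Phi f x = 1 → x = 0) : Hyp f (twistedD4 K q) where
  hf3 := f_f_f hK f hf
  hPhi := phi_mem hK f hf
  hinj := hinj
  hnb := nJ_mem f hf [1] (by simp [Js])
  hna := nJ_mem f hf [0, 2, 3] (by simp [Js])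
  htorA := torA hK f hf
  htorE := torE hK f hf
  hsq := sq_surj

end Cfsg.Agent.Lib.Helper23_TD4InvGrp
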