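import Mathlib
import Cfsg.Agent.Lib.Helper36_TD4Torus
import Cfsg.Agent.Lib.Helper23_TD4InvMul

set_option autoImplicit false

/-!
# S2183 (architect helper23): uniqueness of the coordinates on the unipotent group of `³D₄(q)`

`phi_eq_one`: `Phi f x = 1` with `Good f x` forces `x = 0`, read off the `tOf` coordinates class by class
(`Helper36_TwistU.recomp`).
-/

namespace Cfsg.Agent.Lib.Helper23_TD4InvNF1

open Cfsg Cfsg.Lie Cfsg.Agent.Lib.Helper18_ChevGL Cfsg.Agent.Lib.Helper18_ChevUni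
  Cfsg.Agent.Lib.Helper36_TwistU Cfsg.Agent.Lib.Helper36_TwistW
  Cfsg.Agent.Lib.Helper36_TwistTabD4 Cfsg.Agent.Lib.Helper36_TwistD4 Cfsg.Agent.Lib.Helper18_TD4Swap
  Cfsg.Agent.Lib.Helper18_TD4Struct Cfsg.Agent.Lib.Helper23_TD4InvDefs Cfsg.Agent.Lib.Helper23_TD4InvMul
  Cfsg.Agent.Lib.Helper36_TD4Torus

section

set_option linter.unusedSectionVars false

variable {K : Type*} [Field K] [Fintype K] {q : ℕ} (hK : Fintype.card K = q ^ 3)
  (f : K →+* K) (hf : ∀ x : K, f x = x ^ q)

/-- A parameter fixed by `f` is admissible for a class with one root. -/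
theorem closes_one (p : ℕ × ℕ) (hp : p ∈ cls) (h1 : p.2 = 1) (s : K) (hs : f s = s) : Closes pi eps f p s := by
  rw [closes_iff p (classesOK p hp).2.2.2.2.2.1, h1, Function.iterate_one]
  exact hs

include hK hf in
/-- Every parameter is admissible for a class with three roots. -/
theorem closes_three (p : ℕ × ℕ) (hp : p ∈ cls) (h3 : p.2 = 3) (t : K) : Closes pi eps f p t := by
  rw [closes_iff p (classesOK p hp).2.2.2.2.2.1, h3, iterate_pow hf]
  exact Cfsg.Agent.Lib.Helper36_TwistF.pow_card' hK t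

/-- One step: the head coordinate of a trivial product vanishes. -/
theorem head_zero {pre post : List (ℕ × ℕ)} {p : ℕ × ℕ} (h : cls = pre ++ p :: post) (x : K)
    (hx : Closes pi eps f p x) (g : GL chevD4.Idx K) (hg : g ∈ Zset dc (sig f) (rootsOf pi (pre ++ [p])))
    (h1 : yS dc pi eps f p x * g = 1) : x = 0 := by
  have h2 := (recomp certs (twist f) clsOK h x hx g hg).2
  rw [h1, tOf_one certs] at h2
  exact h2.symm

theorem one_mem_Z : (1 : GL chevD4.Idx K) ∈ Zset dc (sig f) (rootsOf pi cls) :=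
  ⟨Subgroup.one_mem _, map_one _, fun r _ => tOf_one certs r⟩

include hK hf in
/-- The coordinates are unique. -/
theorem phi_eq_one (x : T6 K) (hx : Good f x) (h : Phi f x = 1) : x = 0 := by
  obtain ⟨hs, hm, hn⟩ := hx
  obtain ⟨c14, c18, c15, c17, c22, c23⟩ := clsTab
  have e : Phi f x = yS dc pi eps f (14, 1) x.s * (yS dc pi eps f (18, 3) x.t * (yS dc pi eps f (15, 3) x.u *
      (yS dc pi eps f (17, 3) x.v * (yS dc pi eps f (22, 1) x.m * (yS dc pi eps f (23, 1) x.n * 1))))) := by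
    unfold Phi
    simp only [yS1, mul_assoc, mul_one]
  rw [e] at h
  have k14 := closes_one f (14, 1) c14 rfl x.s hs
  have k18 := closes_three hK f hf (18, 3) c18 rfl x.t
  have k15 := closes_three hK f hf (15, 3) c15 rfl x.u
  have k17 := closes_three hK f hf (17, 3) c17 rfl x.v
  have k22 := closes_one f (22, 1) c22 rfl x.m hm
  have k23 := closes_one f (23, 1) c23 rfl x.n hn
  have l5 : cls = [(14, 1), (18, 3), (15, 3), (17, 3), (22, 1)] ++ (23, 1) :: [] := rfl
  have l4 : cls = [(14, 1), (18, 3), (15, 3), (17, 3)] ++ (22, 1) :: [(23, 1)] := rfl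
  have l3 : cls = [(14, 1), (18, 3), (15, 3)] ++ (17, 3) :: [(22, 1), (23, 1)] := rfl
  have l2 : cls = [(14, 1), (18, 3)] ++ (15, 3) :: [(17, 3), (22, 1), (23, 1)] := rfl
  have l1 : cls = [(14, 1)] ++ (18, 3) :: [(15, 3), (17, 3), (22, 1), (23, 1)] := rfl
  have l0 : cls = [] ++ (14, 1) :: [(18, 3), (15, 3), (17, 3), (22, 1), (23, 1)] := rfl
  have z6 : (1 : GL chevD4.Idx K) ∈
      Zset dc (sig f) (rootsOf pi ([(14, 1), (18, 3), (15, 3), (17, 3), (22, 1)] ++ [(23, 1)])) := one_mem_Z f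
  have z5 := (recomp certs (twist f) clsOK l5 x.n k23 _ z6).1
  have z4 := (recomp certs (twist f) clsOK l4 x.m k22 _ z5).1
  have z3 := (recomp certs (twist f) clsOK l3 x.v k17 _ z4).1
  have z2 := (recomp certs (twist f) clsOK l2 x.u k15 _ z3).1
  have z1 := (recomp certs (twist f) clsOK l1 x.t k18 _ z2).1
  have h14 := head_zero f l0 x.s k14 _ z1 h
  rw [h14, yS1, xGL_zero, one_mul] at h
  have h18 := head_zero f l1 x.t k18 _ z2 h
  rw [h18, yS_zero f (18, 3) (Or.inl rfl), one_mul] at h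
  have h15 := head_zero f l2 x.u k15 _ z3 h
  rw [h15, yS_zero f (15, 3) (Or.inr (Or.inl rfl)), one_mul] at h
  have h17 := head_zero f l3 x.v k17 _ z4 h
  rw [h17, yS_zero f (17, 3) (Or.inr (Or.inr rfl)), one_mul] at h
  have h22 := head_zero f l4 x.m k22 _ z5 h
  rw [h22, yS1, xGL_zero, one_mul] at h
  have h23 := head_zero f l5 x.n k23 _ z6 h
  ext
  · exact h14
  · exact h18
  · exact h15
  · exact h17
  · exact h22
  · exact h23

end

end Cfsg.Agent.Lib.Helper23_TD4InvNF1
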