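import Mathlib
import Cfsg.Agent.Lib.Helper23_TD4Defs

set_option autoImplicit false
set_option linter.unusedVariables false
set_option linter.unusedSectionVars false

/-!
S2342 (architect helper23, market `td4_packages`): auxiliary lemmas on additive characters of a finite field shared by
the packages M1 and C2.
-/

namespace Cfsg.Agent.Lib.Helper2_TD4_Aux

open Module

variable {F : Type*} [Field F] [Fintype F] {G : Type*} [Group G]
  {V : Type*} [AddCommGroup V] [Module ℂ V]

/-- every additive character of a finite field is a multiplicative shift of a non-trivial one -/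
theorem exists_mulShift_eq (ψ : AddChar F ℂ) (hψ : ψ ≠ 1) (χ : AddChar F ℂ) :
    ∃ d : F, χ = ψ.mulShift d := by
  have hinj : Function.Injective ψ.mulShift :=
    AddChar.to_mulShift_inj_of_isPrimitive (AddChar.IsPrimitive.of_ne_one hψ)
  have hcard : Nat.card (AddChar F ℂ) ≤ Nat.card F := by
    rw [Nat.card_eq_fintype_card, Nat.card_eq_fintype_card, AddChar.card_eq]
  obtain ⟨d, hd⟩ := (hinj.bijective_of_nat_card_le hcard).2 χ
  exact ⟨d, hd.symm⟩

/-- the eigenvalue function of a common eigenvector of a one-parameter subgroup `f : F → G` is `ψ (d * ·)` -/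
theorem exists_char_of_eigen (ρ : Representation ℂ G V) (f : F → G) (hf : ∀ s t, f (s + t) = f s * f t)
    (v : V) (hv : v ≠ 0) (l : F → ℂ) (hl : ∀ s, ρ (f s) v = l s • v) (ψ : AddChar F ℂ) (hψ : ψ ≠ 1) :
    ∃ d : F, ∀ s, l s = ψ (d * s) := by
  have hf0 : f 0 = 1 := by
    have h := hf 0 0
    rw [add_zero] at h
    exact (mul_eq_left.mp h.symm)
  have hl0 : l 0 = 1 := by
    have h := hl 0
    rw [hf0, map_one, Module.End.one_apply] at h
    have h2 : (1 : ℂ) • v = l 0 • v := by rw [one_smul]; exact h
    exact (smul_left_injective ℂ hv h2).symm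
  have hladd : ∀ s t, l (s + t) = l s * l t := by
    intro s t
    have h := hl (s + t)
    rw [hf, map_mul, Module.End.mul_apply, hl t, map_smul, hl s, smul_smul] at h
    have h2 : (l t * l s) • v = l (s + t) • v := h
    rw [mul_comm]
    exact (smul_left_injective ℂ hv h2).symm
  let χ : AddChar F ℂ :=
    { toFun := l
      map_zero_eq_one' := hl0
      map_add_eq_mul' := hladd }
  obtain ⟨d, hd⟩ := exists_mulShift_eq ψ hψ χ
  refine ⟨d, fun s => ?_⟩
  have := DFunLike.congr_fun hd s
  rw [AddChar.mulShift_apply] at this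
  exact this

end Cfsg.Agent.Lib.Helper2_TD4_Aux
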