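import Mathlib
import Cfsg.Agent.Lib.Helper23_TD4Defs
import Cfsg.Agent.Lib.Helper2_TD4_Aux

set_option autoImplicit false
set_option linter.unusedVariables false
set_option linter.unusedSectionVars false

/-!
S2342 package C2 (architect helper23, market `td4_packages`): from `w0` to a vector `v ≠ 0` of `W` fixed by all `b s`.
-/

namespace Cfsg.Agent.Lib.Helper2_TD4_C2

open Module Cfsg.Agent.Lib.Helper23_TD4Defs

variable {F K : Type*} [Field F] [Fintype F] [Field K] [Fintype K] [Algebra F K] {G : Type*} [Group G] [Finite G]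
  {V : Type*} [AddCommGroup V] [Module ℂ V] [FiniteDimensional ℂ V]

/-- PKG C2 (M).  Step C, second half: from `w0` to a vector `v ≠ 0` of `W` fixed by all `b s`. -/
theorem exists_v (cfg : TD4Config F K G) (ρ : Representation ℂ G V) (ψ : AddChar F ℂ) (hψ : ψ ≠ 1)
    (w0 : V) (h0 : w0 ≠ 0) (hw : w0 ∈ wtE cfg ρ (fun s => ψ s) (fun _ => 1)) (h1 : ∀ u, ρ (cfg.y1 u) w0 = w0)
    (h2 : ∀ u, ρ (cfg.y2 u) w0 = w0) (α : F → ℂ) (hα : ∀ s, ρ (cfg.b s) w0 = α s • w0) :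
    ∃ v : V, v ≠ 0 ∧ v ∈ wtE cfg ρ (fun s => ψ s) (fun _ => 1) ∧ ∀ s, ρ (cfg.b s) v = v := by
  obtain ⟨he, hz⟩ := (mem_wtE cfg ρ _ _ w0).mp hw
  obtain ⟨d, hd⟩ := Cfsg.Agent.Lib.Helper2_TD4_Aux.exists_char_of_eigen ρ cfg.b cfg.b_add w0 h0 α hα ψ hψ
  -- choose `t` with `c4 * N t = -d`
  obtain ⟨t, ht⟩ : ∃ t : K, cfg.c4 * cfg.N t = -d := by
    by_cases hd0 : d = 0
    · exact ⟨0, by rw [cfg.N_zero, mul_zero, hd0, neg_zero]⟩
    · obtain ⟨t, ht⟩ := cfg.N_surj (-d / cfg.c4) (div_ne_zero (neg_ne_zero.mpr hd0) cfg.c4_ne)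
      exact ⟨t, by rw [ht, mul_div_cancel₀ _ cfg.c4_ne]⟩
  refine ⟨ρ (cfg.a t) w0, ?_, ?_, ?_⟩
  · intro hzero
    apply h0
    have h3 : ρ (cfg.a t)⁻¹ (ρ (cfg.a t) w0) = w0 := by
      rw [← Module.End.mul_apply, ← map_mul, inv_mul_cancel, map_one, Module.End.one_apply]
    rw [hzero, map_zero] at h3
    exact h3.symm
  · rw [mem_wtE]
    constructor
    · intro s
      have hc : ρ (cfg.e s) (ρ (cfg.a t) w0) = ρ (cfg.a t) (ρ (cfg.e s) w0) := by
        rw [← Module.End.mul_apply, ← Module.End.mul_apply, ← map_mul, ← map_mul, (cfg.e_a s t).eq]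
      rw [hc, he s, map_smul]
    · intro s
      have hc : ρ (cfg.z s) (ρ (cfg.a t) w0) = ρ (cfg.a t) (ρ (cfg.z s) w0) := by
        rw [← Module.End.mul_apply, ← Module.End.mul_apply, ← map_mul, ← map_mul, (cfg.z_a s t).eq]
      rw [hc, hz s, map_smul]
  · intro s
    obtain ⟨u, v, r, hab⟩ := cfg.a_b t s
    have hab' : cfg.b s * cfg.a t =
        cfg.a t * (cfg.b s * cfg.y1 u * cfg.y2 v * cfg.e (cfg.c4 * cfg.N t * s) * cfg.z r) := by
      rw [← hab]; group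
    have hc : ρ (cfg.b s) (ρ (cfg.a t) w0) =
        ρ (cfg.a t) (ρ (cfg.b s) (ρ (cfg.y1 u) (ρ (cfg.y2 v)
          (ρ (cfg.e (cfg.c4 * cfg.N t * s)) (ρ (cfg.z r) w0))))) := by
      rw [← Module.End.mul_apply, ← map_mul, hab']
      simp only [map_mul, Module.End.mul_apply]
    rw [hc, hz r, one_smul, he, map_smul, map_smul, map_smul, h2, h1, hα, hd s, ht, smul_smul]
    have h5 : ψ (-d * s) * ψ (d * s) = 1 := by
      rw [← AddChar.map_add_eq_mul, neg_mul, neg_add_cancel, AddChar.map_zero_eq_one]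
    rw [h5, one_smul]

end Cfsg.Agent.Lib.Helper2_TD4_C2
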