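import Mathlib
import Cfsg.Agent.Lib.Helper23_TD4Defs

set_option autoImplicit false
set_option linter.unusedSectionVars false
set_option linter.unusedVariables false

/-!
# S2342 market (architect helper23), package A0: `finrank_wtE_conj`

The weight spaces of `E = e(F) z(F)` for the non-trivial characters `(ψ(d₁ ·), ψ(d₂ ·))` all have the
dimension of `W = wtE (ψ, 1)`: `ρ (b s)`, `ρ (bm s)`, `ρ (hF c)` move the weight `(p, r)` to
`(p - c1 s r, r)`, `(p, r - c2 s p)`, `(c⁻¹ p, r)`.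
-/

namespace Cfsg.Agent.Lib.Helper30_TD4_A0

open Module Cfsg.Agent.Lib.Helper23_TD4Defs

variable {F K : Type*} [Field F] [Fintype F] [Field K] [Fintype K] [Algebra F K] {G : Type*} [Group G] [Finite G]
  {V : Type*} [AddCommGroup V] [Module ℂ V] [FiniteDimensional ℂ V]

/-- an additive map into a group sends `0` to `1` -/
theorem map_zero_of_add {A : Type*} [AddGroup A] (f : A → G) (hf : ∀ s t, f (s + t) = f s * f t) :
    f 0 = 1 := by
  have h := hf 0 0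
  rw [add_zero] at h
  exact (mul_eq_left.mp h.symm)

/-- an additive map into a group sends `-s` to the inverse -/
theorem map_neg_of_add {A : Type*} [AddGroup A] (f : A → G) (hf : ∀ s t, f (s + t) = f s * f t)
    (s : A) : f (-s) = (f s)⁻¹ := by
  have h := hf s (-s)
  rw [add_neg_cancel, map_zero_of_add f hf] at h
  exact eq_inv_of_mul_eq_one_right h.symm

/-- the weight space of `(ψ(p ·), ψ(r ·))` -/
def Wt (cfg : TD4Config F K G) (ρ : Representation ℂ G V) (ψ : AddChar F ℂ) (p r : F) :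
    Submodule ℂ V :=
  wtE cfg ρ (fun s => ψ (p * s)) (fun s => ψ (r * s))

theorem rho_mul_apply (ρ : Representation ℂ G V) (g h : G) (v : V) : ρ (g * h) v = ρ g (ρ h v) := by
  rw [map_mul]; rfl

/-- `ρ (b s)` moves the weight `(p, r)` to `(p - c1 s r, r)` -/
theorem move_b (cfg : TD4Config F K G) (ρ : Representation ℂ G V) (ψ : AddChar F ℂ) (p r s : F)
    (v : V) (hv : v ∈ Wt cfg ρ ψ p r) : ρ (cfg.b s) v ∈ Wt cfg ρ ψ (p - cfg.c1 * s * r) r := by
  obtain ⟨he, hz⟩ := (mem_wtE cfg ρ _ _ v).mp hv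
  refine (mem_wtE cfg ρ _ _ _).mpr ⟨fun t => ?_, fun t => ?_⟩
  · -- `e t * b s = b s * (e t * z (c1 * (-s) * t))`
    have h1 : (cfg.b s)⁻¹ * cfg.e t * cfg.b s = cfg.e t * cfg.z (cfg.c1 * (-s) * t) := by
      have := cfg.b_e (-s) t
      rwa [map_neg_of_add cfg.b cfg.b_add, inv_inv] at this
    have h2 : cfg.e t * cfg.b s = cfg.b s * (cfg.e t * cfg.z (cfg.c1 * (-s) * t)) := by
      rw [← h1]; group
    rw [← rho_mul_apply, h2, rho_mul_apply, rho_mul_apply, hz, map_smul, he, map_smul, map_smul,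
      smul_smul]
    congr 1
    show ψ (r * (cfg.c1 * -s * t)) * ψ (p * t) = ψ ((p - cfg.c1 * s * r) * t)
    rw [← AddChar.map_add_eq_mul]
    congr 1
    ring
  · have h2 : cfg.z t * cfg.b s = cfg.b s * cfg.z t := (cfg.z_b t s).eq
    rw [← rho_mul_apply, h2, rho_mul_apply, hz, map_smul]

/-- `ρ (bm s)` moves the weight `(p, r)` to `(p, r - c2 s p)` -/
theorem move_bm (cfg : TD4Config F K G) (ρ : Representation ℂ G V) (ψ : AddChar F ℂ) (p r s : F)
    (v : V) (hv : v ∈ Wt cfg ρ ψ p r) : ρ (cfg.bm s) v ∈ Wt cfg ρ ψ p (r - cfg.c2 * s * p) := by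
  obtain ⟨he, hz⟩ := (mem_wtE cfg ρ _ _ v).mp hv
  refine (mem_wtE cfg ρ _ _ _).mpr ⟨fun t => ?_, fun t => ?_⟩
  · have h2 : cfg.e t * cfg.bm s = cfg.bm s * cfg.e t := (cfg.e_bm t s).eq
    rw [← rho_mul_apply, h2, rho_mul_apply, he, map_smul]
  · have h1 : (cfg.bm s)⁻¹ * cfg.z t * cfg.bm s = cfg.z t * cfg.e (cfg.c2 * (-s) * t) := by
      have := cfg.bm_z (-s) t
      rwa [map_neg_of_add cfg.bm cfg.bm_add, inv_inv] at this
    have h2 : cfg.z t * cfg.bm s = cfg.bm s * (cfg.z t * cfg.e (cfg.c2 * (-s) * t)) := by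
      rw [← h1]; group
    rw [← rho_mul_apply, h2, rho_mul_apply, rho_mul_apply, he, map_smul, hz, map_smul, map_smul,
      smul_smul]
    congr 1
    show ψ (p * (cfg.c2 * -s * t)) * ψ (r * t) = ψ ((r - cfg.c2 * s * p) * t)
    rw [← AddChar.map_add_eq_mul]
    congr 1
    ring

/-- `ρ (hF c)` moves the weight `(p, r)` to `(c⁻¹ p, r)` -/
theorem move_hF (cfg : TD4Config F K G) (ρ : Representation ℂ G V) (ψ : AddChar F ℂ) (p r : F)
    (c : Fˣ) (v : V) (hv : v ∈ Wt cfg ρ ψ p r) :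
    ρ (cfg.hF c) v ∈ Wt cfg ρ ψ ((c : F)⁻¹ * p) r := by
  obtain ⟨he, hz⟩ := (mem_wtE cfg ρ _ _ v).mp hv
  refine (mem_wtE cfg ρ _ _ _).mpr ⟨fun t => ?_, fun t => ?_⟩
  · have h1 : cfg.hF c * cfg.e ((c : F)⁻¹ * t) * (cfg.hF c)⁻¹ = cfg.e t := by
      rw [cfg.hF_e, ← mul_assoc, mul_inv_cancel₀ c.ne_zero, one_mul]
    have h2 : cfg.e t * cfg.hF c = cfg.hF c * cfg.e ((c : F)⁻¹ * t) := by
      rw [← h1]; group
    rw [← rho_mul_apply, h2, rho_mul_apply, he, map_smul]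
    congr 2
    ring
  · have h2 : cfg.z t * cfg.hF c = cfg.hF c * cfg.z t := (cfg.hF_z c t).eq.symm
    rw [← rho_mul_apply, h2, rho_mul_apply, hz, map_smul]

/-- an element mapping one weight space into another gives an inequality of dimensions -/
theorem finrank_le_of_move (cfg : TD4Config F K G) (ρ : Representation ℂ G V) (g : G)
    (le lz le' lz' : F → ℂ)
    (h : ∀ v ∈ wtE cfg ρ le lz, ρ g v ∈ wtE cfg ρ le' lz') :
    finrank ℂ (wtE cfg ρ le lz) ≤ finrank ℂ (wtE cfg ρ le' lz') := by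
  have hinj : Function.Injective (ρ g) := by
    intro x y hxy
    have h1 : ρ g⁻¹ (ρ g x) = ρ g⁻¹ (ρ g y) := by rw [hxy]
    rwa [← rho_mul_apply, ← rho_mul_apply, inv_mul_cancel, map_one] at h1
  apply LinearMap.finrank_le_finrank_of_injective (f := (ρ g).restrict h)
  intro x y hxy
  apply Subtype.ext
  apply hinj
  exact congrArg Subtype.val hxy

/-- the same for the spaces `Wt` -/
theorem finrank_le_of_move' (cfg : TD4Config F K G) (ρ : Representation ℂ G V) (ψ : AddChar F ℂ)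
    (g : G) (p r p' r' : F) (h : ∀ v ∈ Wt cfg ρ ψ p r, ρ g v ∈ Wt cfg ρ ψ p' r') :
    finrank ℂ (Wt cfg ρ ψ p r) ≤ finrank ℂ (Wt cfg ρ ψ p' r') :=
  finrank_le_of_move cfg ρ g _ _ _ _ h

theorem Wt_congr (cfg : TD4Config F K G) (ρ : Representation ℂ G V) (ψ : AddChar F ℂ)
    {p r p' r' : F} (hp : p = p') (hr : r = r') : Wt cfg ρ ψ p r = Wt cfg ρ ψ p' r' := by
  rw [hp, hr]

/-- the move by `b s` preserves the dimension -/
theorem finrank_b (cfg : TD4Config F K G) (ρ : Representation ℂ G V) (ψ : AddChar F ℂ) (p r s : F) :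
    finrank ℂ (Wt cfg ρ ψ p r) = finrank ℂ (Wt cfg ρ ψ (p - cfg.c1 * s * r) r) := by
  apply le_antisymm
  · exact finrank_le_of_move' cfg ρ ψ (cfg.b s) _ _ _ _ (move_b cfg ρ ψ p r s)
  · have h := finrank_le_of_move' cfg ρ ψ (cfg.b (-s)) _ _ _ _
      (move_b cfg ρ ψ (p - cfg.c1 * s * r) r (-s))
    rwa [Wt_congr cfg ρ ψ (show p - cfg.c1 * s * r - cfg.c1 * -s * r = p by ring) rfl] at h

/-- the move by `bm s` preserves the dimension -/
theorem finrank_bm (cfg : TD4Config F K G) (ρ : Representation ℂ G V) (ψ : AddChar F ℂ) (p r s : F) :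
    finrank ℂ (Wt cfg ρ ψ p r) = finrank ℂ (Wt cfg ρ ψ p (r - cfg.c2 * s * p)) := by
  apply le_antisymm
  · exact finrank_le_of_move' cfg ρ ψ (cfg.bm s) _ _ _ _ (move_bm cfg ρ ψ p r s)
  · have h := finrank_le_of_move' cfg ρ ψ (cfg.bm (-s)) _ _ _ _
      (move_bm cfg ρ ψ p (r - cfg.c2 * s * p) (-s))
    rwa [Wt_congr cfg ρ ψ rfl (show r - cfg.c2 * s * p - cfg.c2 * -s * p = r by ring)] at h

/-- the move by `hF c` preserves the dimension -/
theorem finrank_hF (cfg : TD4Config F K G) (ρ : Representation ℂ G V) (ψ : AddChar F ℂ) (p r : F)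
    (c : Fˣ) :
    finrank ℂ (Wt cfg ρ ψ p r) = finrank ℂ (Wt cfg ρ ψ ((c : F)⁻¹ * p) r) := by
  apply le_antisymm
  · exact finrank_le_of_move' cfg ρ ψ (cfg.hF c) _ _ _ _ (move_hF cfg ρ ψ p r c)
  · have h := finrank_le_of_move' cfg ρ ψ (cfg.hF c⁻¹) _ _ _ _
      (move_hF cfg ρ ψ ((c : F)⁻¹ * p) r c⁻¹)
    have e : ((c⁻¹ : Fˣ) : F)⁻¹ * ((c : F)⁻¹ * p) = p := by
      rw [Units.val_inv_eq_inv_val, inv_inv, ← mul_assoc, mul_inv_cancel₀ c.ne_zero, one_mul]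
    rwa [Wt_congr cfg ρ ψ e rfl] at h

/-- PKG A0 -/
theorem finrank_wtE_conj (cfg : TD4Config F K G) (ρ : Representation ℂ G V) (ψ : AddChar F ℂ) (d₁ d₂ : F)
    (hd : d₁ ≠ 0 ∨ d₂ ≠ 0) :
    finrank ℂ (wtE cfg ρ (fun s => ψ (d₁ * s)) (fun s => ψ (d₂ * s))) =
      finrank ℂ (wtE cfg ρ (fun s => ψ s) (fun _ => 1)) := by
  have hfinal : wtE cfg ρ (fun s => ψ s) (fun _ => 1) = Wt cfg ρ ψ 1 0 := by
    show wtE cfg ρ (fun s => ψ s) (fun _ => 1) =
      wtE cfg ρ (fun s => ψ (1 * s)) (fun s => ψ (0 * s))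
    congr 1
    · funext s; rw [one_mul]
    · funext s; rw [zero_mul, AddChar.map_zero_eq_one]
  rw [hfinal]
  show finrank ℂ (Wt cfg ρ ψ d₁ d₂) = finrank ℂ (Wt cfg ρ ψ 1 0)
  -- the case `p ≠ 0`
  have key : ∀ p r : F, p ≠ 0 → finrank ℂ (Wt cfg ρ ψ p r) = finrank ℂ (Wt cfg ρ ψ 1 0) := by
    intro p r hp
    have h1 := finrank_bm cfg ρ ψ p r (r / (cfg.c2 * p))
    have e1 : r - cfg.c2 * (r / (cfg.c2 * p)) * p = 0 := by
      have := cfg.c2_ne
      field_simp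
      ring
    rw [Wt_congr cfg ρ ψ rfl e1] at h1
    have h2 := finrank_hF cfg ρ ψ p 0 (Units.mk0 p hp)
    have e2 : ((Units.mk0 p hp : Fˣ) : F)⁻¹ * p = 1 := by
      rw [Units.val_mk0, inv_mul_cancel₀ hp]
    rw [Wt_congr cfg ρ ψ e2 rfl] at h2
    rw [h1, h2]
  by_cases h1 : d₁ = 0
  · have h2 : d₂ ≠ 0 := by
      rcases hd with h | h
      · exact absurd h1 h
      · exact h
    subst h1
    have h3 := finrank_b cfg ρ ψ 0 d₂ (-1 / (cfg.c1 * d₂))
    have e3 : (0 : F) - cfg.c1 * (-1 / (cfg.c1 * d₂)) * d₂ = 1 := by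
      have := cfg.c1_ne
      field_simp
      ring
    rw [Wt_congr cfg ρ ψ e3 rfl] at h3
    rw [h3]
    exact key 1 d₂ one_ne_zero
  · exact key d₁ d₂ h1

end Cfsg.Agent.Lib.Helper30_TD4_A0
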