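import Mathlib
import Cfsg.Agent.Lib.Helper23_TD4Defs
import Cfsg.Agent.Lib.Helper2_TD4_Aux
import Cfsg.Agent.Lib.Helper81_JointEigen
import Cfsg.Agent.Lib.Helper30_TD4_A0

set_option autoImplicit false
set_option linter.unusedVariables false
set_option linter.unusedSectionVars false

/-!
S2342 package M1 (architect helper23, market `td4_packages`): if `z 1` acts non-trivially then `W ≠ 0`.
-/

namespace Cfsg.Agent.Lib.Helper2_TD4_M1

open Module Cfsg.Agent.Lib.Helper23_TD4Defs Cfsg.Agent.Lib.Helper81_JointEigen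

variable {F K : Type*} [Field F] [Fintype F] [Field K] [Fintype K] [Algebra F K] {G : Type*} [Group G] [Finite G]
  {V : Type*} [AddCommGroup V] [Module ℂ V] [FiniteDimensional ℂ V]

/-- a joint eigenvector of `E` on which `z 1` acts non-trivially -/
theorem exists_joint (cfg : TD4Config F K G) (ρ : Representation ℂ G V) (hz : ρ (cfg.z 1) ≠ 1) :
    ∃ (v : V) (le lz : F → ℂ), v ≠ 0 ∧ (∀ s, ρ (cfg.e s) v = le s • v) ∧ (∀ s, ρ (cfg.z s) v = lz s • v) ∧
      lz 1 ≠ 1 := by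
  classical
  let A : F ⊕ F → Module.End ℂ V := Sum.elim (fun s => ρ (cfg.e s)) (fun s => ρ (cfg.z s))
  have hp : ((Nat.card G : ℕ) : ℂ) ≠ 0 := by
    exact_mod_cast (Nat.card_pos (α := G)).ne'
  have hpow : ∀ g : G, ρ g ^ Nat.card G = 1 := by
    intro g
    rw [← map_pow, pow_card_eq_one', map_one]
  have hA : ∀ i, A i ^ Nat.card G = 1 := by
    rintro (s | s)
    · exact hpow _
    · exact hpow _
  have hee : ∀ s t, Commute (cfg.e s) (cfg.e t) := by
    intro s t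
    show cfg.e s * cfg.e t = cfg.e t * cfg.e s
    rw [← cfg.e_add, ← cfg.e_add, add_comm]
  have hzz : ∀ s t, Commute (cfg.z s) (cfg.z t) := by
    intro s t
    show cfg.z s * cfg.z t = cfg.z t * cfg.z s
    rw [← cfg.z_add, ← cfg.z_add, add_comm]
  have hcomm : ∀ i j, Commute (A i) (A j) := by
    rintro (s | s) (t | t)
    · exact (hee s t).map ρ
    · exact ((cfg.z_e t s).symm).map ρ
    · exact (cfg.z_e s t).map ρ
    · exact (hzz s t).map ρ
  have htop := iSup_jointEigenspace hp A hA hcomm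
  by_contra hcon
  push Not at hcon
  apply hz
  -- every joint eigenspace lies in the fixed space of `z 1`
  have hle : ∀ χ : F ⊕ F → ℂ, jointEigenspace A χ ≤ Module.End.eigenspace (ρ (cfg.z 1)) 1 := by
    intro χ v hv
    rw [mem_jointEigenspace] at hv
    rw [Module.End.mem_eigenspace_iff, one_smul]
    by_cases hv0 : v = 0
    · rw [hv0, map_zero]
    · have h1 := hcon v (fun s => χ (Sum.inl s)) (fun s => χ (Sum.inr s)) hv0
        (fun s => hv (Sum.inl s)) (fun s => hv (Sum.inr s))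
      have h2 := hv (Sum.inr 1)
      rw [h1, one_smul] at h2
      exact h2
  have htop' : (⊤ : Submodule ℂ V) ≤ Module.End.eigenspace (ρ (cfg.z 1)) 1 := by
    rw [← htop]
    exact iSup_le hle
  ext v
  have := htop' (Submodule.mem_top : v ∈ ⊤)
  rw [Module.End.mem_eigenspace_iff, one_smul] at this
  rw [this, Module.End.one_apply]

/-- M1, with package A0 as a hypothesis -/
theorem W_ne_bot_of (cfg : TD4Config F K G) (ρ : Representation ℂ G V) (ψ : AddChar F ℂ) (hψ : ψ ≠ 1)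
    (hA0 : ∀ d₁ d₂ : F, (d₁ ≠ 0 ∨ d₂ ≠ 0) →
      finrank ℂ (wtE cfg ρ (fun s => ψ (d₁ * s)) (fun s => ψ (d₂ * s))) =
        finrank ℂ (wtE cfg ρ (fun s => ψ s) (fun _ => 1)))
    (hz : ρ (cfg.z 1) ≠ 1) : wtE cfg ρ (fun s => ψ s) (fun _ => 1) ≠ ⊥ := by
  obtain ⟨v, le, lz, hv0, he, hzv, hlz⟩ := exists_joint cfg ρ hz
  obtain ⟨d₁, hd₁⟩ := Cfsg.Agent.Lib.Helper2_TD4_Aux.exists_char_of_eigen ρ cfg.e cfg.e_add v hv0 le he ψ hψ
  obtain ⟨d₂, hd₂⟩ := Cfsg.Agent.Lib.Helper2_TD4_Aux.exists_char_of_eigen ρ cfg.z cfg.z_add v hv0 lz hzv ψ hψ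
  have hd₂0 : d₂ ≠ 0 := by
    intro h
    apply hlz
    rw [hd₂ 1, h, zero_mul, AddChar.map_zero_eq_one]
  have hmem : v ∈ wtE cfg ρ (fun s => ψ (d₁ * s)) (fun s => ψ (d₂ * s)) := by
    rw [mem_wtE]
    exact ⟨fun s => by rw [he s, hd₁ s], fun s => by rw [hzv s, hd₂ s]⟩
  have hne : wtE cfg ρ (fun s => ψ (d₁ * s)) (fun s => ψ (d₂ * s)) ≠ ⊥ := by
    intro h
    rw [h, Submodule.mem_bot] at hmem
    exact hv0 hmem
  intro hbot
  have h1 := hA0 d₁ d₂ (Or.inr hd₂0)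
  rw [hbot, finrank_bot] at h1
  exact hne (Submodule.finrank_eq_zero.mp h1)

/-- PKG M1 (M).  If `z 1` acts non-trivially then `W ≠ 0`. -/
theorem W_ne_bot (cfg : TD4Config F K G) (ρ : Representation ℂ G V) (ψ : AddChar F ℂ) (hψ : ψ ≠ 1)
    (hz : ρ (cfg.z 1) ≠ 1) : wtE cfg ρ (fun s => ψ s) (fun _ => 1) ≠ ⊥ :=
  W_ne_bot_of cfg ρ ψ hψ
    (fun d₁ d₂ hd => Cfsg.Agent.Lib.Helper30_TD4_A0.finrank_wtE_conj cfg ρ ψ d₁ d₂ hd) hz

end Cfsg.Agent.Lib.Helper2_TD4_M1
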