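import Mathlib
import Cfsg.Agent.Lib.Helper23_TD4Defs
import Cfsg.Agent.Lib.Helper37_RepBound

set_option autoImplicit false
set_option linter.unusedSectionVars false

/-!
# S2342 market (architect helper23), package C3: `dim V^E ≥ q - 1`

Statement `card_sub_one_le_finrank_fixed` verbatim from `pending/helper23/TD4_packages.lean.txt`.
-/

namespace Cfsg.Agent.Lib.Helper41_TD4_C3

open Module Cfsg.Agent.Lib.Helper23_TD4Defs

variable {F K : Type*} [Field F] [Fintype F] [Field K] [Fintype K] [Algebra F K] {G : Type*} [Group G] [Finite G]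
  {V : Type*} [AddCommGroup V] [Module ℂ V] [FiniteDimensional ℂ V]

/-- conjugation rule: `g x g⁻¹ = y` gives `ρ y (ρ g u) = ρ g (ρ x u)` -/
theorem rho_conj (ρ : Representation ℂ G V) {g x y : G} (h : g * x * g⁻¹ = y) (u : V) :
    ρ y (ρ g u) = ρ g (ρ x u) := by
  rw [← Module.End.mul_apply, ← Module.End.mul_apply, ← map_mul, ← map_mul, ← h]
  have : g * x * g⁻¹ * g = g * x := by group
  rw [this]

theorem rho_ne_zero (ρ : Representation ℂ G V) (g : G) {u : V} (hu : u ≠ 0) : ρ g u ≠ 0 := by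
  intro h
  apply hu
  have h1 : ρ g⁻¹ (ρ g u) = u := by
    rw [← Module.End.mul_apply, ← map_mul, inv_mul_cancel, map_one, Module.End.one_apply]
  rw [← h1, h, map_zero]

/-- a non-trivial additive character of a field separates the maps `s ↦ d * s` -/
theorem addChar_mul_inj (ψ : AddChar F ℂ) (hψ : ψ ≠ 1) {d d' : F}
    (h : ∀ s, ψ (d * s) = ψ (d' * s)) : d = d' := by
  by_contra hne
  have hd : d - d' ≠ 0 := sub_ne_zero.mpr hne
  apply hψ
  ext t
  have h1 := h ((d - d')⁻¹ * t)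
  have h2 : d * ((d - d')⁻¹ * t) = t + d' * ((d - d')⁻¹ * t) := by
    field_simp
    ring
  rw [h2, AddChar.map_add_eq_mul] at h1
  have h3 : ψ (d' * ((d - d')⁻¹ * t)) * ψ (-(d' * ((d - d')⁻¹ * t))) = 1 := by
    rw [← AddChar.map_add_eq_mul, add_neg_cancel, AddChar.map_zero_eq_one]
  have h4 : ψ (d' * ((d - d')⁻¹ * t)) ≠ 0 := by
    intro h0
    rw [h0, zero_mul] at h3
    exact zero_ne_one h3
  have h5 : ψ t = 1 := by
    have := mul_right_cancel₀ h4 (h1.trans (one_mul _).symm)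
    exact this
  simpa using h5

/-- PKG C3 (M).  Step C, end: `dim V^E ≥ q - 1`. -/
theorem card_sub_one_le_finrank_fixed (cfg : TD4Config F K G) (ρ : Representation ℂ G V) (ψ : AddChar F ℂ) (hψ : ψ ≠ 1)
    (v : V) (h0 : v ≠ 0) (hv : v ∈ wtE cfg ρ (fun s => ψ s) (fun _ => 1)) (hb : ∀ s, ρ (cfg.b s) v = v) :
    Fintype.card F - 1 ≤ finrank ℂ (wtE cfg ρ (fun _ => 1) (fun _ => 1)) := by
  classical
  obtain ⟨hve, hvz⟩ := (mem_wtE cfg ρ _ _ v).mp hv
  -- `v' = ρ na v`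
  have hv'e : ∀ s, ρ (cfg.e s) (ρ cfg.na v) = ρ cfg.na v := by
    intro s
    have h1 := rho_conj ρ (cfg.na_b (cfg.c5⁻¹ * s)) v
    rw [mul_inv_cancel_left₀ cfg.c5_ne, hb] at h1
    exact h1
  have hv'z : ∀ s, ρ (cfg.z s) (ρ cfg.na v) = ρ cfg.na v := by
    intro s
    have h1 := rho_conj ρ (cfg.na_z (cfg.c7⁻¹ * s)) v
    rw [mul_inv_cancel_left₀ cfg.c7_ne, hvz, one_smul] at h1
    exact h1
  have hv'b : ∀ s, ρ (cfg.b s) (ρ cfg.na v) = ψ (cfg.c6⁻¹ * s) • ρ cfg.na v := by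
    intro s
    have h1 := rho_conj ρ (cfg.na_e (cfg.c6⁻¹ * s)) v
    rw [mul_inv_cancel_left₀ cfg.c6_ne, hve, map_smul] at h1
    exact h1
  -- `w c = ρ (hF c) v'`
  set w : Fˣ → V := fun c => ρ (cfg.hF c) (ρ cfg.na v) with hw
  have hwe : ∀ c s, ρ (cfg.e s) (w c) = w c := by
    intro c s
    have h1 := rho_conj ρ (cfg.hF_e c ((c : F)⁻¹ * s)) (ρ cfg.na v)
    rw [mul_inv_cancel_left₀ c.ne_zero, hv'e] at h1
    exact h1
  have hwz : ∀ c s, ρ (cfg.z s) (w c) = w c := by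
    intro c s
    have h2 : cfg.hF c * cfg.z s * (cfg.hF c)⁻¹ = cfg.z s := by
      rw [(cfg.hF_z c s).eq]
      group
    have h1 := rho_conj ρ h2 (ρ cfg.na v)
    rw [hv'z] at h1
    exact h1
  have hwb : ∀ c s, ρ (cfg.b s) (w c) = ψ (cfg.c6⁻¹ * ((c : F) * s)) • w c := by
    intro c s
    have h1 := rho_conj ρ (cfg.hF_b c ((c : F) * s)) (ρ cfg.na v)
    rw [inv_mul_cancel_left₀ c.ne_zero, hv'b, map_smul] at h1
    exact h1
  have hwne : ∀ c, w c ≠ 0 := fun c => rho_ne_zero ρ _ (rho_ne_zero ρ _ h0)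
  have hwX : ∀ c, w c ∈ wtE cfg ρ (fun _ => 1) (fun _ => 1) := by
    intro c
    rw [mem_wtE]
    exact ⟨fun s => by rw [hwe, one_smul], fun s => by rw [hwz, one_smul]⟩
  -- the weights
  set A : F → Module.End ℂ V := fun s => ρ (cfg.b s) with hA
  set χ : Fˣ → F → ℂ := fun c s => ψ (cfg.c6⁻¹ * ((c : F) * s)) with hχ
  have hcomm : ∀ s t, Commute (A s) (A t) := by
    intro s t
    show ρ (cfg.b s) * ρ (cfg.b t) = ρ (cfg.b t) * ρ (cfg.b s)
    rw [← map_mul, ← map_mul, ← cfg.b_add, ← cfg.b_add, add_comm]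
  have hinj : Function.Injective χ := by
    intro c c' h
    have h1 : ∀ s, ψ ((cfg.c6⁻¹ * (c : F)) * s) = ψ ((cfg.c6⁻¹ * (c' : F)) * s) := by
      intro s
      have := congrFun h s
      simp only [hχ] at this
      rw [mul_assoc, mul_assoc]
      exact this
    have h2 := addChar_mul_inj ψ hψ h1
    have h3 : (c : F) = (c' : F) := mul_left_cancel₀ (inv_ne_zero cfg.c6_ne) h2
    exact Units.ext h3
  have hind : iSupIndep (fun c : Fˣ => Cfsg.Agent.Lib.Helper37_RepBound.wt A (χ c)) :=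
    (Cfsg.Agent.Lib.Helper37_RepBound.wt_indep A hcomm).comp hinj
  have hli : LinearIndependent ℂ w :=
    hind.linearIndependent _
      (fun c => Cfsg.Agent.Lib.Helper37_RepBound.mem_wt.mpr (fun s => hwb c s)) hwne
  have hli' : LinearIndependent ℂ
      (fun c : Fˣ => (⟨w c, hwX c⟩ : wtE cfg ρ (fun _ => 1) (fun _ => 1))) := by
    apply LinearIndependent.of_comp (wtE cfg ρ (fun _ => 1) (fun _ => 1)).subtype
    exact hli
  have := hli'.fintype_card_le_finrank
  rwa [Fintype.card_units] at this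

end Cfsg.Agent.Lib.Helper41_TD4_C3
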