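import Mathlib
import Cfsg.Agent.Lib.Helper23_TD4Defs
import Cfsg.Agent.Lib.Helper37_RepBound
import Cfsg.Agent.Lib.Helper41_TD4_C3
import Cfsg.Agent.Lib.Helper30_TD4_A0

set_option autoImplicit false
set_option linter.unusedSectionVars false

/-!
# S2342 market (architect helper23), package A: `dim V^E + (q² - 1) dim W ≤ dim V`.
-/

namespace Cfsg.Agent.Lib.Helper46_TD4_A

open Module Cfsg.Agent.Lib.Helper23_TD4Defs

variable {F K : Type*} [Field F] [Fintype F] [Field K] [Fintype K] [Algebra F K] {G : Type*} [Group G] [Finite G]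
  {V : Type*} [AddCommGroup V] [Module ℂ V] [FiniteDimensional ℂ V]

/-- the commuting family `e s`, `z s`. -/
noncomputable def opE (cfg : TD4Config F K G) (ρ : Representation ℂ G V) : F ⊕ F → Module.End ℂ V :=
  Sum.elim (fun s => ρ (cfg.e s)) (fun s => ρ (cfg.z s))

/-- the weight attached to `(d₁, d₂)`. -/
noncomputable def wtFun (ψ : AddChar F ℂ) (d : F × F) : F ⊕ F → ℂ :=
  Sum.elim (fun s => ψ (d.1 * s)) (fun s => ψ (d.2 * s))

theorem opE_comm (cfg : TD4Config F K G) (ρ : Representation ℂ G V) (i j : F ⊕ F) :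
    Commute (opE cfg ρ i) (opE cfg ρ j) := by
  rcases i with s | s <;> rcases j with t | t
  · show ρ (cfg.e s) * ρ (cfg.e t) = ρ (cfg.e t) * ρ (cfg.e s)
    rw [← map_mul, ← map_mul, ← cfg.e_add, ← cfg.e_add, add_comm]
  · show ρ (cfg.e s) * ρ (cfg.z t) = ρ (cfg.z t) * ρ (cfg.e s)
    rw [← map_mul, ← map_mul, (cfg.z_e t s).eq]
  · show ρ (cfg.z s) * ρ (cfg.e t) = ρ (cfg.e t) * ρ (cfg.z s)
    rw [← map_mul, ← map_mul, (cfg.z_e s t).eq]
  · show ρ (cfg.z s) * ρ (cfg.z t) = ρ (cfg.z t) * ρ (cfg.z s)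
    rw [← map_mul, ← map_mul, ← cfg.z_add, ← cfg.z_add, add_comm]

theorem wt_eq_wtE (cfg : TD4Config F K G) (ρ : Representation ℂ G V) (ψ : AddChar F ℂ) (d : F × F) :
    Cfsg.Agent.Lib.Helper37_RepBound.wt (opE cfg ρ) (wtFun ψ d) =
      wtE cfg ρ (fun s => ψ (d.1 * s)) (fun s => ψ (d.2 * s)) := by
  ext v
  rw [Cfsg.Agent.Lib.Helper37_RepBound.mem_wt, mem_wtE]
  constructor
  · intro h
    exact ⟨fun s => h (Sum.inl s), fun s => h (Sum.inr s)⟩
  · rintro ⟨h1, h2⟩ (s | s)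
    · exact h1 s
    · exact h2 s

theorem wtFun_injective (ψ : AddChar F ℂ) (hψ : ψ ≠ 1) : Function.Injective (wtFun ψ) := by
  intro d d' h
  have h1 : ∀ s, ψ (d.1 * s) = ψ (d'.1 * s) := fun s => congrFun h (Sum.inl s)
  have h2 : ∀ s, ψ (d.2 * s) = ψ (d'.2 * s) := fun s => congrFun h (Sum.inr s)
  exact Prod.ext (Cfsg.Agent.Lib.Helper41_TD4_C3.addChar_mul_inj ψ hψ h1)
    (Cfsg.Agent.Lib.Helper41_TD4_C3.addChar_mul_inj ψ hψ h2)

/-- the counting step, with PKG A0 as a hypothesis. -/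
theorem stepA_of (cfg : TD4Config F K G) (ρ : Representation ℂ G V) (ψ : AddChar F ℂ) (hψ : ψ ≠ 1)
    (hA0 : ∀ d₁ d₂ : F, (d₁ ≠ 0 ∨ d₂ ≠ 0) →
      finrank ℂ (wtE cfg ρ (fun s => ψ (d₁ * s)) (fun s => ψ (d₂ * s))) =
        finrank ℂ (wtE cfg ρ (fun s => ψ s) (fun _ => 1))) :
    finrank ℂ (wtE cfg ρ (fun _ => 1) (fun _ => 1)) +
      (Fintype.card F ^ 2 - 1) * finrank ℂ (wtE cfg ρ (fun s => ψ s) (fun _ => 1)) ≤ finrank ℂ V := by
  classical
  have hind : iSupIndep (fun d : F × F =>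
      Cfsg.Agent.Lib.Helper37_RepBound.wt (opE cfg ρ) (wtFun ψ d)) :=
    (Cfsg.Agent.Lib.Helper37_RepBound.wt_indep (opE cfg ρ) (opE_comm cfg ρ)).comp
      (wtFun_injective ψ hψ)
  have hsum := Cfsg.Agent.Lib.Helper37_RepBound.sum_finrank_le_of_iSupIndep hind Finset.univ
  refine le_trans (le_of_eq ?_) hsum
  have h0 : wtE cfg ρ (fun s => ψ ((0 : F × F).1 * s)) (fun s => ψ ((0 : F × F).2 * s)) =
      wtE cfg ρ (fun _ => 1) (fun _ => 1) := by
    simp only [Prod.fst_zero, Prod.snd_zero, zero_mul, AddChar.map_zero_eq_one]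
  rw [← Finset.add_sum_erase Finset.univ _ (Finset.mem_univ (0 : F × F)), wt_eq_wtE, h0]
  congr 1
  rw [Finset.sum_congr rfl (g := fun _ => finrank ℂ (wtE cfg ρ (fun s => ψ s) (fun _ => 1)))]
  · rw [Finset.sum_const, smul_eq_mul, Finset.card_erase_of_mem (Finset.mem_univ _),
      Finset.card_univ, Fintype.card_prod, sq]
  · intro d hd
    rw [wt_eq_wtE]
    have hd0 : d ≠ 0 := (Finset.mem_erase.1 hd).1
    apply hA0
    by_contra hcon
    push Not at hcon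
    exact hd0 (Prod.ext hcon.1 hcon.2)

/-- PKG A (M).  Step A, counting: the `q² - 1` weight spaces of PKG A0 and `V^E` are independent. -/
theorem stepA (cfg : TD4Config F K G) (ρ : Representation ℂ G V) (ψ : AddChar F ℂ) (hψ : ψ ≠ 1) :
    finrank ℂ (wtE cfg ρ (fun _ => 1) (fun _ => 1)) +
      (Fintype.card F ^ 2 - 1) * finrank ℂ (wtE cfg ρ (fun s => ψ s) (fun _ => 1)) ≤ finrank ℂ V :=
  stepA_of cfg ρ ψ hψ
    (fun d₁ d₂ hd => Cfsg.Agent.Lib.Helper30_TD4_A0.finrank_wtE_conj cfg ρ ψ d₁ d₂ hd)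

end Cfsg.Agent.Lib.Helper46_TD4_A
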