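import Mathlib
import Cfsg.Agent.Lib.Helper23_TD4Defs
import Cfsg.Agent.Lib.Helper37_RepBound

/-!
# S2342 market (architect helper23), package B: `W ≠ 0 ⟹ |K| ≤ dim W`

A joint eigenvector `v0 ∈ W` of the commuting operators `ρ (y2 u)`; the vectors `ρ (a t) v0 ∈ W` are `y2`-eigenvectors
with the pairwise distinct weights `u ↦ γ u * ψ (c3 * Tr (t * u))`, hence linearly independent.
Also: `exists_joint_eigenvector` (finite family of operators preserving a non-zero subspace and commuting on it).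
-/

set_option autoImplicit false
set_option linter.unusedSectionVars false

namespace Cfsg.Agent.Lib.Helper88_TD4_B

open Module Cfsg.Agent.Lib.Helper23_TD4Defs

section general

variable {ι : Type*} {V : Type*} [AddCommGroup V] [Module ℂ V] [FiniteDimensional ℂ V]

/-- a finite family of operators preserving a non-zero subspace `E` and commuting on `E` has a joint eigenvector in
`E` -/
theorem exists_joint_eigenvector_aux (A : ι → Module.End ℂ V) (E : Submodule ℂ V) (hne : E ≠ ⊥)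
    (hE : ∀ c, ∀ v ∈ E, A c v ∈ E) (hcomm : ∀ c d, ∀ v ∈ E, A c (A d v) = A d (A c v))
    (T : Finset ι) :
    ∃ E' : Submodule ℂ V, E' ≤ E ∧ E' ≠ ⊥ ∧ (∀ c, ∀ v ∈ E', A c v ∈ E') ∧
      ∀ c ∈ T, ∃ μ : ℂ, ∀ v ∈ E', A c v = μ • v := by
  classical
  induction T using Finset.induction_on with
  | empty => exact ⟨E, le_rfl, hne, hE, by simp⟩
  | insert s T hs ih =>
    obtain ⟨E', hle, hne', hinv, hT⟩ := ih
    have : Nontrivial ↥E' := Submodule.nontrivial_iff_ne_bot.2 hne'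
    obtain ⟨μ, hμ⟩ := Module.End.exists_eigenvalue ((A s).restrict (hinv s))
    obtain ⟨u, hu⟩ := hμ.exists_hasEigenvector
    have hu1 : A s (u : V) = μ • (u : V) := by
      have := congrArg Subtype.val hu.apply_eq_smul
      simpa using this
    have hu0 : (u : V) ≠ 0 := fun h0 => hu.2 (Subtype.ext h0)
    refine ⟨E' ⊓ Module.End.eigenspace (A s) μ, inf_le_left.trans hle, ?_, ?_, ?_⟩
    · intro hbot
      have : (u : V) ∈ E' ⊓ Module.End.eigenspace (A s) μ :=
        ⟨u.2, Module.End.mem_eigenspace_iff.2 hu1⟩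
      rw [hbot, Submodule.mem_bot] at this
      exact hu0 this
    · rintro c v ⟨hv1, hv2⟩
      refine ⟨hinv c v hv1, ?_⟩
      rw [SetLike.mem_coe, Module.End.mem_eigenspace_iff] at hv2 ⊢
      rw [hcomm s c v (hle hv1), hv2, map_smul]
    · intro c hc
      rcases Finset.mem_insert.mp hc with rfl | hc
      · refine ⟨μ, fun v hv => ?_⟩
        exact Module.End.mem_eigenspace_iff.1 hv.2
      · obtain ⟨ν, hν⟩ := hT c hc
        exact ⟨ν, fun v hv => hν v hv.1⟩

theorem exists_joint_eigenvector [Finite ι] (A : ι → Module.End ℂ V) (E : Submodule ℂ V)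
    (hne : E ≠ ⊥) (hE : ∀ c, ∀ v ∈ E, A c v ∈ E)
    (hcomm : ∀ c d, ∀ v ∈ E, A c (A d v) = A d (A c v)) :
    ∃ v ∈ E, v ≠ 0 ∧ ∃ lam : ι → ℂ, ∀ c, A c v = lam c • v := by
  classical
  have := Fintype.ofFinite ι
  obtain ⟨E', hle, hne', -, hT⟩ := exists_joint_eigenvector_aux A E hne hE hcomm Finset.univ
  obtain ⟨v, hvE, hv⟩ := Submodule.exists_mem_ne_zero_of_ne_bot hne'
  choose lam hlam using fun c => hT c (Finset.mem_univ c)
  exact ⟨v, hle hvE, hv, lam, fun c => hlam c v hvE⟩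

end general

variable {F K : Type*} [Field F] [Fintype F] [Field K] [Fintype K] [Algebra F K] {G : Type*} [Group G] [Finite G]
  {V : Type*} [AddCommGroup V] [Module ℂ V] [FiniteDimensional ℂ V]

omit [Fintype F] [Fintype K] [Finite G] [FiniteDimensional ℂ V] in
/-- an element commuting with `e s` and `z s` preserves every weight space of `E` -/
theorem rho_mem_wtE (cfg : TD4Config F K G) (ρ : Representation ℂ G V) (le lz : F → ℂ) (g : G)
    (hge : ∀ s, Commute g (cfg.e s)) (hgz : ∀ s, Commute g (cfg.z s)) (v : V)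
    (hv : v ∈ wtE cfg ρ le lz) : ρ g v ∈ wtE cfg ρ le lz := by
  rw [mem_wtE] at hv ⊢
  constructor
  · intro s
    rw [← Module.End.mul_apply, ← map_mul, ← (hge s).eq, map_mul, Module.End.mul_apply, hv.1 s,
      map_smul]
  · intro s
    rw [← Module.End.mul_apply, ← map_mul, ← (hgz s).eq, map_mul, Module.End.mul_apply, hv.2 s,
      map_smul]

omit [Fintype F] [Fintype K] [Finite G] [FiniteDimensional ℂ V] in
theorem y2_comm (cfg : TD4Config F K G) (u v : K) : Commute (cfg.y2 u) (cfg.y2 v) := by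
  show cfg.y2 u * cfg.y2 v = cfg.y2 v * cfg.y2 u
  rw [← cfg.y2_add, ← cfg.y2_add, add_comm]

omit [Fintype F] [Fintype K] [Finite G] [FiniteDimensional ℂ V] in
/-- the `y2`-weight of `ρ (a t) v0` for a `y2`-eigenvector `v0 ∈ W` -/
theorem y2_a_apply (cfg : TD4Config F K G) (ρ : Representation ℂ G V) (ψ : AddChar F ℂ) (lz : F → ℂ)
    (v0 : V) (hv0 : v0 ∈ wtE cfg ρ (fun s => ψ s) lz) (γ : K → ℂ)
    (hγ : ∀ u, ρ (cfg.y2 u) v0 = γ u • v0) (t u : K) :
    ρ (cfg.y2 u) (ρ (cfg.a t) v0) = (γ u * ψ (cfg.c3 * cfg.Tr (t * u))) • ρ (cfg.a t) v0 := by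
  have h1 : cfg.y2 u * cfg.a t = cfg.a t * (cfg.y2 u * cfg.e (cfg.c3 * cfg.Tr (t * u))) := by
    rw [← cfg.a_y2 t u]; group
  rw [← Module.End.mul_apply, ← map_mul, h1, map_mul, map_mul, Module.End.mul_apply,
    Module.End.mul_apply, hv0.1, map_smul, hγ, smul_smul, map_smul, mul_comm]

omit [Fintype K] [Finite G] in
/-- the characters `u ↦ ψ (c3 * Tr (t * u))` are pairwise distinct -/
theorem exists_ne_of_ne (cfg : TD4Config F K G) (ψ : AddChar F ℂ) (hψ : ψ ≠ 1) (t t' : K)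
    (htt : t ≠ t') :
    ∃ u : K, ψ (cfg.c3 * cfg.Tr (t * u)) ≠ ψ (cfg.c3 * cfg.Tr (t' * u)) := by
  obtain ⟨u0, hu0⟩ := cfg.Tr_nondeg (t - t') (sub_ne_zero.mpr htt)
  obtain ⟨s1, hs1⟩ : ∃ s1 : F, ψ s1 ≠ 1 := by
    by_contra hcon
    push Not at hcon
    apply hψ
    ext x
    rw [hcon x]
    rfl
  set s0 := cfg.Tr ((t - t') * u0) with hs0
  set r : F := s1 / (cfg.c3 * s0) with hr
  refine ⟨r • u0, fun heq => hs1 ?_⟩
  have h1 : cfg.Tr (t * (r • u0)) = cfg.Tr (t' * (r • u0)) + r * s0 := by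
    rw [hs0, sub_mul, map_sub, mul_smul_comm, mul_smul_comm, map_smul, map_smul, smul_eq_mul,
      smul_eq_mul]
    ring
  have h2 : cfg.c3 * (r * s0) = s1 := by
    rw [hr]
    field_simp [cfg.c3_ne, hu0]
  rw [h1, mul_add, AddChar.map_add_eq_mul, h2] at heq
  have hne : ψ (cfg.c3 * cfg.Tr (t' * (r • u0))) ≠ 0 := by
    intro h0
    have := AddChar.map_add_eq_mul ψ (cfg.c3 * cfg.Tr (t' * (r • u0)))
      (-(cfg.c3 * cfg.Tr (t' * (r • u0))))
    rw [add_neg_cancel, AddChar.map_zero_eq_one, h0, zero_mul] at this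
    exact one_ne_zero this
  have := mul_left_cancel₀ hne (heq.trans (mul_one _).symm)
  exact this

/-- PKG B (M/L).  Step B: `W ≠ 0 ⟹ dim W ≥ q³`. -/
theorem card_le_finrank_W (cfg : TD4Config F K G) (ρ : Representation ℂ G V) (ψ : AddChar F ℂ) (hψ : ψ ≠ 1)
    (hW : wtE cfg ρ (fun s => ψ s) (fun _ => 1) ≠ ⊥) :
    Fintype.card K ≤ finrank ℂ (wtE cfg ρ (fun s => ψ s) (fun _ => 1)) := by
  classical
  set W := wtE cfg ρ (fun s => ψ s) (fun _ => 1) with hWdef
  let A : K → Module.End ℂ V := fun u => ρ (cfg.y2 u)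
  have hAcomm : ∀ c d, Commute (A c) (A d) := by
    intro c d
    show ρ (cfg.y2 c) * ρ (cfg.y2 d) = ρ (cfg.y2 d) * ρ (cfg.y2 c)
    rw [← map_mul, ← map_mul, (y2_comm cfg c d).eq]
  have hAW : ∀ c, ∀ v ∈ W, A c v ∈ W := fun c v hv =>
    rho_mem_wtE cfg ρ _ _ (cfg.y2 c) (fun s => (cfg.e_y2 s c).symm) (fun s => (cfg.z_y2 s c).symm) v hv
  obtain ⟨v0, hv0W, hv0, γ, hγ⟩ := exists_joint_eigenvector A W hW hAW
    (fun c d v _ => by
      have := congrArg (fun f : Module.End ℂ V => f v) (hAcomm c d).eq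
      simpa using this)
  -- `γ u ≠ 0`
  have hγ0 : ∀ u, γ u ≠ 0 := by
    intro u h0
    have h1 := hγ u
    rw [h0, zero_smul] at h1
    have h2 : ρ (cfg.y2 u)⁻¹ (A u v0) = v0 := by
      show ρ (cfg.y2 u)⁻¹ (ρ (cfg.y2 u) v0) = v0
      rw [← Module.End.mul_apply, ← map_mul, inv_mul_cancel, map_one, Module.End.one_apply]
    rw [h1, map_zero] at h2
    exact hv0 h2.symm
  let vt : K → V := fun t => ρ (cfg.a t) v0
  let wgt : K → K → ℂ := fun t u => γ u * ψ (cfg.c3 * cfg.Tr (t * u))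
  have hvtW : ∀ t, vt t ∈ W := fun t =>
    rho_mem_wtE cfg ρ _ _ (cfg.a t) (fun s => (cfg.e_a s t).symm) (fun s => (cfg.z_a s t).symm) v0 hv0W
  have hvt0 : ∀ t, vt t ≠ 0 := by
    intro t h0
    have h2 : ρ (cfg.a t)⁻¹ (vt t) = v0 := by
      show ρ (cfg.a t)⁻¹ (ρ (cfg.a t) v0) = v0
      rw [← Module.End.mul_apply, ← map_mul, inv_mul_cancel, map_one, Module.End.one_apply]
    rw [h0, map_zero] at h2
    exact hv0 h2.symm
  have hvtwt : ∀ t, vt t ∈ Cfsg.Agent.Lib.Helper37_RepBound.wt A (wgt t) := by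
    intro t
    rw [Cfsg.Agent.Lib.Helper37_RepBound.mem_wt]
    intro u
    exact y2_a_apply cfg ρ ψ _ v0 hv0W γ hγ t u
  have hinj : Function.Injective wgt := by
    intro t t' htt
    by_contra hne
    obtain ⟨u, hu⟩ := exists_ne_of_ne cfg ψ hψ t t' hne
    have := congrFun htt u
    exact hu (mul_left_cancel₀ (hγ0 u) this)
  have hind : iSupIndep fun t : K => Cfsg.Agent.Lib.Helper37_RepBound.wt A (wgt t) :=
    (Cfsg.Agent.Lib.Helper37_RepBound.wt_indep A hAcomm).comp hinj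
  have hli : LinearIndependent ℂ vt := hind.linearIndependent _ hvtwt hvt0
  have hli' : LinearIndependent ℂ (fun t : K => (⟨vt t, hvtW t⟩ : ↥W)) := by
    apply LinearIndependent.of_comp W.subtype
    exact hli
  exact hli'.fintype_card_le_finrank

end Cfsg.Agent.Lib.Helper88_TD4_B
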