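import Mathlib
import Cfsg.Agent.Lib.Helper23_TD4Defs
import Cfsg.Agent.Lib.Helper37_RepBound
import Cfsg.Agent.Lib.Helper88_TD4_B

/-!
# S2342 market (architect helper23), package C1: if `dim W = |K|` there is `w0 ≠ 0` in `W` fixed by all `y1 u`, `y2 u`
and an eigenvector of all `b s`.

A joint eigenvector `v0 ∈ W` of `b`, `y1`, `y2` (they commute on `W`); `v_t = ρ (a t) v0` have pairwise distinct
`y2`-weights, which exhaust the characters of `K` (`AddChar.card_eq`): some `t0` has trivial weight;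
the `y2`-weight spaces inside `W` are lines (dimension count); `y1 u` and `ρ h0` preserve the line of `w0 = v_{t0}`, so
the `y1`-weight `β` of `w0` satisfies `β (k1 * u) = β u`, hence `β = 1`.  (Does not use the removed field `a_y1`.)
-/

set_option autoImplicit false
set_option linter.unusedSectionVars false

namespace Cfsg.Agent.Lib.Helper88_TD4_C1

open Module Cfsg.Agent.Lib.Helper23_TD4Defs Cfsg.Agent.Lib.Helper88_TD4_B

variable {F K : Type*} [Field F] [Fintype F] [Field K] [Fintype K] [Algebra F K] {G : Type*} [Group G] [Finite G]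
  {V : Type*} [AddCommGroup V] [Module ℂ V] [FiniteDimensional ℂ V]

theorem map_zero_of_add {A : Type*} [AddGroup A] (f : A → G) (h : ∀ s t, f (s + t) = f s * f t) :
    f 0 = 1 := by
  have := h 0 0
  rw [add_zero] at this
  exact (mul_eq_left.mp this.symm)

/-- elements commuting modulo `z` commute on `W` (where `z` acts trivially) -/
theorem comm_on_W (cfg : TD4Config F K G) (ρ : Representation ℂ G V) (le : F → ℂ) (g h : G)
    (hgh : ∃ r, g * h = h * g * cfg.z r) (v : V) (hv : v ∈ wtE cfg ρ le (fun _ => 1)) :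
    ρ g (ρ h v) = ρ h (ρ g v) := by
  obtain ⟨r, hr⟩ := hgh
  rw [← Module.End.mul_apply, ← map_mul, hr, map_mul, map_mul, Module.End.mul_apply,
    Module.End.mul_apply, hv.2 r, one_smul]

theorem comm_on_W' (cfg : TD4Config F K G) (ρ : Representation ℂ G V) (le : F → ℂ) (g h : G)
    (hgh : ∃ r, h * g = g * h * cfg.z r) (v : V) (hv : v ∈ wtE cfg ρ le (fun _ => 1)) :
    ρ g (ρ h v) = ρ h (ρ g v) :=
  (comm_on_W cfg ρ le h g hgh v hv).symm

theorem comm_on_W_of_comm (ρ : Representation ℂ G V) (g h : G)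
    (hgh : g * h = h * g) (v : V) : ρ g (ρ h v) = ρ h (ρ g v) := by
  rw [← Module.End.mul_apply, ← map_mul, hgh, map_mul, Module.End.mul_apply]

/-- `b s` preserves `W` -/
theorem b_mem_W (cfg : TD4Config F K G) (ρ : Representation ℂ G V) (le : F → ℂ) (s : F) (v : V)
    (hv : v ∈ wtE cfg ρ le (fun _ => 1)) : ρ (cfg.b s) v ∈ wtE cfg ρ le (fun _ => 1) := by
  have hz : ∀ t, ρ (cfg.z t) (ρ (cfg.b s) v) = ρ (cfg.b s) v := by
    intro t
    rw [← Module.End.mul_apply, ← map_mul, (cfg.z_b t s).eq, map_mul, Module.End.mul_apply, hv.2 t,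
      one_smul]
  rw [mem_wtE]
  refine ⟨fun t => ?_, fun t => by rw [hz t, one_smul]⟩
  have h1 : cfg.b s * cfg.e t = cfg.e t * cfg.z (cfg.c1 * s * t) * cfg.b s := by
    rw [← cfg.b_e s t]; group
  have h2 : ρ (cfg.e t * cfg.z (cfg.c1 * s * t) * cfg.b s) v = le t • ρ (cfg.b s) v := by
    rw [← h1, map_mul, Module.End.mul_apply, hv.1 t, map_smul]
  rw [map_mul, map_mul, Module.End.mul_apply, Module.End.mul_apply, hz] at h2
  exact h2

omit [Fintype F] [Fintype K] [Finite G] [FiniteDimensional ℂ V] in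
/-- the value of a product `b s * y1 u * y2 v * e r * z r'` on a joint eigenvector in `W` -/
theorem prod_apply (cfg : TD4Config F K G) (ρ : Representation ℂ G V) (ψ : AddChar F ℂ) (v0 : V)
    (hv0 : v0 ∈ wtE cfg ρ (fun s => ψ s) (fun _ => 1)) (α : F → ℂ) (β γ : K → ℂ)
    (hα : ∀ s, ρ (cfg.b s) v0 = α s • v0) (hβ : ∀ u, ρ (cfg.y1 u) v0 = β u • v0)
    (hγ : ∀ u, ρ (cfg.y2 u) v0 = γ u • v0) (s : F) (u v : K) (r r' : F) :
    ρ (cfg.b s * cfg.y1 u * cfg.y2 v * cfg.e r * cfg.z r') v0 = (ψ r * γ v * β u * α s) • v0 := by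
  have e1 : ρ (cfg.z r') v0 = v0 := by
    have := hv0.2 r'
    simpa using this
  have e2 : ρ (cfg.e r) v0 = ψ r • v0 := hv0.1 r
  simp only [map_mul, Module.End.mul_apply, e1, e2, map_smul, hγ, hβ, hα, smul_smul]
  congr 1
  ring

/-- PKG C1 (L). -/
theorem exists_w0 (cfg : TD4Config F K G) (ρ : Representation ℂ G V) (ψ : AddChar F ℂ) (hψ : ψ ≠ 1)
    (hW : finrank ℂ (wtE cfg ρ (fun s => ψ s) (fun _ => 1)) = Fintype.card K) :
    ∃ w0 : V, w0 ≠ 0 ∧ w0 ∈ wtE cfg ρ (fun s => ψ s) (fun _ => 1) ∧ (∀ u, ρ (cfg.y1 u) w0 = w0) ∧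
      (∀ u, ρ (cfg.y2 u) w0 = w0) ∧ ∃ α : F → ℂ, ∀ s, ρ (cfg.b s) w0 = α s • w0 := by
  classical
  set W := wtE cfg ρ (fun s => ψ s) (fun _ => 1) with hWdef
  have hWne : W ≠ ⊥ := by
    intro hbot
    rw [hbot, finrank_bot] at hW
    exact (Fintype.card_pos (α := K)).ne hW
  -- Step 1: a joint eigenvector of `b`, `y1`, `y2` in `W`
  let A : F ⊕ (K ⊕ K) → Module.End ℂ V := fun c =>
    Sum.elim (fun s => ρ (cfg.b s)) (Sum.elim (fun u => ρ (cfg.y1 u)) (fun u => ρ (cfg.y2 u))) c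
  have hb0 : cfg.z 0 = 1 := map_zero_of_add cfg.z cfg.z_add
  have hAW : ∀ c, ∀ v ∈ W, A c v ∈ W := by
    rintro (s | u | u) v hv
    · exact b_mem_W cfg ρ _ s v hv
    · exact rho_mem_wtE cfg ρ _ _ (cfg.y1 u) (fun s => (cfg.e_y1 s u).symm)
        (fun s => (cfg.z_y1 s u).symm) v hv
    · exact rho_mem_wtE cfg ρ _ _ (cfg.y2 u) (fun s => (cfg.e_y2 s u).symm)
        (fun s => (cfg.z_y2 s u).symm) v hv
  have hAcomm : ∀ c d, ∀ v ∈ W, A c (A d v) = A d (A c v) := by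
    rintro (s | u | u) (s' | u' | u') v hv
    · exact comm_on_W_of_comm ρ _ _ (by rw [← cfg.b_add, ← cfg.b_add, add_comm]) v
    · exact comm_on_W cfg ρ _ _ _ (cfg.b_y1 s u') v hv
    · exact comm_on_W cfg ρ _ _ _ (cfg.b_y2 s u') v hv
    · exact comm_on_W' cfg ρ _ _ _ (cfg.b_y1 s' u) v hv
    · exact comm_on_W_of_comm ρ _ _ (by rw [← cfg.y1_add, ← cfg.y1_add, add_comm]) v
    · exact comm_on_W cfg ρ _ _ _ (cfg.y1_y2 u u') v hv
    · exact comm_on_W' cfg ρ _ _ _ (cfg.b_y2 s' u) v hv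
    · exact comm_on_W' cfg ρ _ _ _ (cfg.y1_y2 u' u) v hv
    · exact comm_on_W_of_comm ρ _ _ (by rw [← cfg.y2_add, ← cfg.y2_add, add_comm]) v
  obtain ⟨v0, hv0W, hv0, lam, hlam⟩ := exists_joint_eigenvector A W hWne hAW hAcomm
  set α0 : F → ℂ := fun s => lam (Sum.inl s) with hα0
  set β0 : K → ℂ := fun u => lam (Sum.inr (Sum.inl u)) with hβ0
  set γ : K → ℂ := fun u => lam (Sum.inr (Sum.inr u)) with hγdef
  have hα : ∀ s, ρ (cfg.b s) v0 = α0 s • v0 := fun s => hlam (Sum.inl s)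
  have hβ : ∀ u, ρ (cfg.y1 u) v0 = β0 u • v0 := fun u => hlam (Sum.inr (Sum.inl u))
  have hγ : ∀ u, ρ (cfg.y2 u) v0 = γ u • v0 := fun u => hlam (Sum.inr (Sum.inr u))
  -- Step 2: the vectors `v_t`
  let vt : K → V := fun t => ρ (cfg.a t) v0
  let wgt : K → K → ℂ := fun t u => γ u * ψ (cfg.c3 * cfg.Tr (t * u))
  have hvtW : ∀ t, vt t ∈ W := fun t =>
    rho_mem_wtE cfg ρ _ _ (cfg.a t) (fun s => (cfg.e_a s t).symm) (fun s => (cfg.z_a s t).symm) v0 hv0W
  have hinv_ne : ∀ (g : G) (x : V), x ≠ 0 → ρ g x ≠ 0 := by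
    intro g x hx h0
    have h2 : ρ g⁻¹ (ρ g x) = x := by
      rw [← Module.End.mul_apply, ← map_mul, inv_mul_cancel, map_one, Module.End.one_apply]
    rw [h0, map_zero] at h2
    exact hx h2.symm
  have hvt0 : ∀ t, vt t ≠ 0 := fun t => hinv_ne _ _ hv0
  have hvty2 : ∀ t u, ρ (cfg.y2 u) (vt t) = wgt t u • vt t := fun t u =>
    y2_a_apply cfg ρ ψ _ v0 hv0W γ hγ t u
  have hvtb : ∀ t s, ∃ c : ℂ, ρ (cfg.b s) (vt t) = c • vt t := by
    intro t s
    obtain ⟨u, v, r, hvr⟩ := cfg.a_b t s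
    have h1 : cfg.b s * cfg.a t =
        cfg.a t * (cfg.b s * cfg.y1 u * cfg.y2 v * cfg.e (cfg.c4 * cfg.N t * s) * cfg.z r) := by
      rw [← hvr]; group
    refine ⟨ψ (cfg.c4 * cfg.N t * s) * γ v * β0 u * α0 s, ?_⟩
    show ρ (cfg.b s) (ρ (cfg.a t) v0) = _
    rw [← Module.End.mul_apply, ← map_mul, h1, map_mul, Module.End.mul_apply,
      prod_apply cfg ρ ψ v0 hv0W α0 β0 γ hα hβ hγ, map_smul]
  -- `γ` is multiplicative and non-zero
  have hγ0 : ∀ u, γ u ≠ 0 := by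
    intro u h0
    have h1 := hγ u
    rw [h0, zero_smul] at h1
    exact hinv_ne _ _ hv0 h1
  have hsmul_inj : ∀ (x : V) (c d : ℂ), x ≠ 0 → c • x = d • x → c = d := by
    intro x c d hx hcd
    by_contra hne
    have : (c - d) • x = 0 := by rw [sub_smul, hcd, sub_self]
    rcases smul_eq_zero.mp this with h | h
    · exact hne (sub_eq_zero.mp h)
    · exact hx h
  have hγadd : ∀ u u', γ (u + u') = γ u * γ u' := by
    intro u u'
    apply hsmul_inj v0 _ _ hv0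
    rw [← hγ, cfg.y2_add, map_mul, Module.End.mul_apply, hγ, map_smul, hγ, smul_smul, mul_comm]
  have hγzero : γ 0 = 1 := by
    apply hsmul_inj v0 _ _ hv0
    rw [← hγ, map_zero_of_add cfg.y2 cfg.y2_add, map_one, Module.End.one_apply, one_smul]
  -- Step 3: some `t0` has trivial weight
  let Φ : K → AddChar K ℂ := fun t =>
    { toFun := wgt t
      map_zero_eq_one' := by
        show γ 0 * ψ (cfg.c3 * cfg.Tr (t * 0)) = 1
        rw [hγzero, mul_zero, map_zero, mul_zero, AddChar.map_zero_eq_one, one_mul]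
      map_add_eq_mul' := by
        intro u u'
        show γ (u + u') * ψ (cfg.c3 * cfg.Tr (t * (u + u'))) =
          γ u * ψ (cfg.c3 * cfg.Tr (t * u)) * (γ u' * ψ (cfg.c3 * cfg.Tr (t * u')))
        rw [hγadd, mul_add, map_add, mul_add, AddChar.map_add_eq_mul]
        ring }
  have hwinj : Function.Injective wgt := by
    intro t t' htt
    by_contra hne
    obtain ⟨u, hu⟩ := exists_ne_of_ne cfg ψ hψ t t' hne
    have := congrFun htt u
    exact hu (mul_left_cancel₀ (hγ0 u) this)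
  have hΦinj : Function.Injective Φ := by
    intro t t' htt
    apply hwinj
    funext u
    exact congrArg (fun χ : AddChar K ℂ => χ u) htt
  have hΦbij : Function.Bijective Φ := by
    rw [Fintype.bijective_iff_injective_and_card]
    exact ⟨hΦinj, AddChar.card_eq.symm⟩
  obtain ⟨t0, ht0⟩ := hΦbij.2 1
  have hwt0 : ∀ u, wgt t0 u = 1 := by
    intro u
    have := congrArg (fun χ : AddChar K ℂ => χ u) ht0
    exact this
  -- Step 4: the weight spaces inside `W` are lines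
  let A2 : K → Module.End ℂ V := fun u => ρ (cfg.y2 u)
  have hA2comm : ∀ c d, Commute (A2 c) (A2 d) := by
    intro c d
    show ρ (cfg.y2 c) * ρ (cfg.y2 d) = ρ (cfg.y2 d) * ρ (cfg.y2 c)
    rw [← map_mul, ← map_mul, (y2_comm cfg c d).eq]
  let U : K → Submodule ℂ V := fun t => Cfsg.Agent.Lib.Helper37_RepBound.wt A2 (wgt t) ⊓ W
  have hvtU : ∀ t, vt t ∈ U t := by
    intro t
    refine ⟨?_, hvtW t⟩
    rw [SetLike.mem_coe, Cfsg.Agent.Lib.Helper37_RepBound.mem_wt]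
    exact hvty2 t
  have hUind : iSupIndep U :=
    ((Cfsg.Agent.Lib.Helper37_RepBound.wt_indep A2 hA2comm).comp hwinj).mono fun t => inf_le_left
  have hUpos : ∀ t, 1 ≤ finrank ℂ (U t) := by
    intro t
    have : Nontrivial ↥(U t) := ⟨⟨⟨vt t, hvtU t⟩, 0, fun h => hvt0 t (congrArg Subtype.val h)⟩⟩
    exact Module.finrank_pos
  have hUsum : ∑ t : K, finrank ℂ (U t) ≤ Fintype.card K := by
    rw [← Cfsg.Agent.Lib.Helper37_RepBound.finrank_biSup_of_iSupIndep hUind Finset.univ, ← hW]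
    apply Submodule.finrank_mono
    apply iSup₂_le
    intro t _
    exact inf_le_right
  have hU1 : finrank ℂ (U t0) = 1 := by
    by_contra hne
    have h2 : 2 ≤ finrank ℂ (U t0) := by have := hUpos t0; omega
    have h3 : ∑ t ∈ Finset.univ.erase t0, 1 ≤ ∑ t ∈ Finset.univ.erase t0, finrank ℂ (U t) :=
      Finset.sum_le_sum fun t _ => hUpos t
    rw [Finset.sum_const, smul_eq_mul, mul_one, Finset.card_erase_of_mem (Finset.mem_univ t0),
      Finset.card_univ] at h3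
    have h4 := Finset.add_sum_erase Finset.univ (fun t => finrank ℂ (U t)) (Finset.mem_univ t0)
    have h5 : 0 < Fintype.card K := Fintype.card_pos
    omega
  set w0 := vt t0 with hw0
  have hline : ∀ x ∈ U t0, ∃ c : ℂ, x = c • w0 := by
    intro x hx
    have h0 : (⟨w0, hvtU t0⟩ : ↥(U t0)) ≠ 0 := fun h => hvt0 t0 (congrArg Subtype.val h)
    obtain ⟨c, hc⟩ := (finrank_eq_one_iff_of_nonzero' _ h0).mp hU1 ⟨x, hx⟩
    refine ⟨c, ?_⟩
    have := congrArg Subtype.val hc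
    simpa using this.symm
  have hy2w0 : ∀ u, ρ (cfg.y2 u) w0 = w0 := by
    intro u
    rw [hw0, hvty2 t0 u, hwt0 u, one_smul]
  -- `ρ h0 w0` is a multiple of `w0`
  have hh0U : ρ cfg.h0 w0 ∈ U t0 := by
    refine ⟨?_, rho_mem_wtE cfg ρ _ _ cfg.h0 cfg.h0_e cfg.h0_z w0 (hvtW t0)⟩
    rw [SetLike.mem_coe, Cfsg.Agent.Lib.Helper37_RepBound.mem_wt]
    intro u
    show ρ (cfg.y2 u) (ρ cfg.h0 w0) = wgt t0 u • ρ cfg.h0 w0
    rw [hwt0 u, one_smul]
    by_cases hk2 : cfg.k2 = 0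
    · have h1 := cfg.h0_y2 u
      rw [hk2, zero_mul, map_zero_of_add cfg.y2 cfg.y2_add] at h1
      have h2 : cfg.y2 u = 1 := by
        have : cfg.y2 u = cfg.h0⁻¹ * (cfg.h0 * cfg.y2 u * cfg.h0⁻¹) * cfg.h0 := by group
        rw [this, h1]; group
      rw [h2, map_one, Module.End.one_apply]
    · have h1 := cfg.h0_y2 (cfg.k2⁻¹ * u)
      rw [← mul_assoc, mul_inv_cancel₀ hk2, one_mul] at h1
      have h2 : cfg.y2 u * cfg.h0 = cfg.h0 * cfg.y2 (cfg.k2⁻¹ * u) := by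
        rw [← h1]; group
      rw [← Module.End.mul_apply, ← map_mul, h2, map_mul, Module.End.mul_apply, hy2w0]
  obtain ⟨c, hc⟩ := hline _ hh0U
  have hc0 : c ≠ 0 := by
    intro h0
    rw [h0, zero_smul] at hc
    exact hinv_ne _ _ (hvt0 t0) hc
  -- the `y1`-weight of `w0` is trivial
  have hvty1 : ∀ u, ∃ c : ℂ, ρ (cfg.y1 u) (vt t0) = c • vt t0 := by
    intro u
    apply hline
    refine ⟨?_, rho_mem_wtE cfg ρ _ _ (cfg.y1 u) (fun s => (cfg.e_y1 s u).symm)
        (fun s => (cfg.z_y1 s u).symm) w0 (hvtW t0)⟩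
    rw [SetLike.mem_coe, Cfsg.Agent.Lib.Helper37_RepBound.mem_wt]
    intro u'
    show ρ (cfg.y2 u') (ρ (cfg.y1 u) w0) = wgt t0 u' • ρ (cfg.y1 u) w0
    rw [hwt0 u', one_smul, comm_on_W' cfg ρ _ _ _ (cfg.y1_y2 u u') w0 (hvtW t0), hy2w0]
  choose β hβw using hvty1
  have hβadd : ∀ u u', β (u + u') = β u * β u' := by
    intro u u'
    apply hsmul_inj w0 _ _ (hvt0 t0)
    rw [← hβw, cfg.y1_add, map_mul, Module.End.mul_apply, hβw, map_smul, hβw, smul_smul, mul_comm]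
  have hβzero : β 0 = 1 := by
    apply hsmul_inj w0 _ _ (hvt0 t0)
    rw [← hβw, map_zero_of_add cfg.y1 cfg.y1_add, map_one, Module.End.one_apply, one_smul]
  have hβk : ∀ u, β (cfg.k1 * u) = β u := by
    intro u
    have h1 : cfg.y1 (cfg.k1 * u) * cfg.h0 = cfg.h0 * cfg.y1 u := by
      rw [← cfg.h0_y1 u]; group
    have h2 : ρ (cfg.y1 (cfg.k1 * u)) (ρ cfg.h0 w0) = ρ cfg.h0 (ρ (cfg.y1 u) w0) := by
      rw [← Module.End.mul_apply, ← map_mul, h1, map_mul, Module.End.mul_apply]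
    rw [hc, map_smul, hβw, hβw, map_smul, hc, smul_smul, smul_smul] at h2
    have h3 := hsmul_inj w0 _ _ (hvt0 t0) h2
    exact mul_left_cancel₀ hc0 (h3.trans (mul_comm _ _))
  have hβ1 : ∀ u, β u = 1 := by
    intro u
    have hk : cfg.k1 - 1 ≠ 0 := sub_ne_zero.mpr cfg.k1_ne
    set u' := (cfg.k1 - 1)⁻¹ * u with hu'
    have hu : u = cfg.k1 * u' + -u' := by
      rw [hu']; field_simp; ring
    have h1 : β u' * β (-u') = 1 := by rw [← hβadd, add_neg_cancel, hβzero]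
    rw [hu, hβadd, hβk, h1]
  refine ⟨w0, hvt0 t0, hvtW t0, fun u => ?_, hy2w0, ?_⟩
  · rw [hβw, hβ1, one_smul]
  · choose α hα' using hvtb t0
    exact ⟨α, hα'⟩

end Cfsg.Agent.Lib.Helper88_TD4_C1
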