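import Mathlib
import Cfsg.Agent.Lib.Helper23_TD4Defs
import Cfsg.Agent.Lib.Helper30_TD4_A0
import Cfsg.Agent.Lib.Helper46_TD4_A
import Cfsg.Agent.Lib.Helper2_TD4_M1
import Cfsg.Agent.Lib.Helper88_TD4_B
import Cfsg.Agent.Lib.Helper88_TD4_C1
import Cfsg.Agent.Lib.Helper2_TD4_C2
import Cfsg.Agent.Lib.Helper41_TD4_C3

set_option autoImplicit false

/-!
# S2342 (architect helper23): the abstract bound.  For a configuration `TD4Config F K G` (`|F| = q`, `|K| = q ^ 3`) and a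
finite-dimensional complex representation of `G` on which `z 1` acts non-trivially, the dimension is at least
`q ^ 5 - q ^ 3 + q - 1`.  Assembly of the market packages A0, A, M1, B, C1, C2, C3
(paper proof: `pending/helper23/S2342_proof.md`, Steps A, B, C).
-/

namespace Cfsg.Agent.Lib.Helper23_TD4Main

open Module Cfsg.Agent.Lib.Helper23_TD4Defs

variable {F K : Type*} [Field F] [Fintype F] [Field K] [Fintype K] [Algebra F K] {G : Type*} [Group G] [Finite G]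
  {V : Type*} [AddCommGroup V] [Module ℂ V] [FiniteDimensional ℂ V]

theorem td4_bound (cfg : TD4Config F K G) (ρ : Representation ℂ G V) (q : ℕ) (hq : 2 ≤ q) (hF : Fintype.card F = q)
    (hK : Fintype.card K = q ^ 3) (hz : ρ (cfg.z 1) ≠ 1) :
    q ^ 5 - q ^ 3 + q - 1 ≤ finrank ℂ V := by
  obtain ⟨ψ, hψ1⟩ := (AddChar.exists_apply_ne_zero (α := F) (a := (1 : F))).mpr one_ne_zero
  have hψ : ψ ≠ 1 := by
    rintro rfl
    exact hψ1 rfl
  have hA0 := fun d₁ d₂ hd => Cfsg.Agent.Lib.Helper30_TD4_A0.finrank_wtE_conj cfg ρ ψ d₁ d₂ hd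
  have hA := Cfsg.Agent.Lib.Helper46_TD4_A.stepA_of cfg ρ ψ hψ hA0
  have hW := Cfsg.Agent.Lib.Helper2_TD4_M1.W_ne_bot_of cfg ρ ψ hψ hA0 hz
  have hB := Cfsg.Agent.Lib.Helper88_TD4_B.card_le_finrank_W cfg ρ ψ hψ hW
  rw [hF] at hA
  rw [hK] at hB
  set m := finrank ℂ (wtE cfg ρ (fun s => ψ s) (fun _ => 1)) with hm
  set e0 := finrank ℂ (wtE cfg ρ (fun _ => 1) (fun _ => 1)) with he0
  have hq2 : 1 ≤ q ^ 2 := Nat.one_le_pow _ _ (by omega)
  have hq53 : q ^ 3 ≤ q ^ 5 := Nat.pow_le_pow_right (by omega) (by norm_num)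
  rcases Nat.lt_or_ge (q ^ 3) m with hlt | hge
  · have h2 : (q ^ 2 - 1) * (q ^ 3 + 1) ≤ (q ^ 2 - 1) * m := Nat.mul_le_mul_left _ hlt
    have h3 : q ^ 5 - q ^ 3 + q - 1 ≤ (q ^ 2 - 1) * (q ^ 3 + 1) := by
      zify [hq2, hq53, (by omega : 1 ≤ q ^ 5 - q ^ 3 + q)]
      have : (2 : ℤ) ≤ q := by exact_mod_cast hq
      nlinarith [sq_nonneg ((q : ℤ) - 1)]
    omega
  · have hmeq : m = q ^ 3 := le_antisymm hge hB
    obtain ⟨w0, hw0, hwW, hy1, hy2, α, hα⟩ :=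
      Cfsg.Agent.Lib.Helper88_TD4_C1.exists_w0 cfg ρ ψ hψ (by rw [← hm, hmeq, hK])
    obtain ⟨v, hv0, hvW, hvb⟩ := Cfsg.Agent.Lib.Helper2_TD4_C2.exists_v cfg ρ ψ hψ w0 hw0 hwW hy1 hy2 α hα
    have hC := Cfsg.Agent.Lib.Helper41_TD4_C3.card_sub_one_le_finrank_fixed cfg ρ ψ hψ v hv0 hvW hvb
    rw [hF, ← he0] at hC
    have h3 : q ^ 5 - q ^ 3 + q - 1 = (q - 1) + (q ^ 2 - 1) * q ^ 3 := by
      zify [hq2, hq53, (by omega : 1 ≤ q ^ 5 - q ^ 3 + q), (by omega : 1 ≤ q)]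
      ring
    rw [hmeq] at hA
    omega

end Cfsg.Agent.Lib.Helper23_TD4Main
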