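import Cfsg.Agent.S1280
import Cfsg.Agent.S1282
import Cfsg.Agent.S0025
import Cfsg.Agent.Lib.Helper23_Locals

/-!
# The transitivity theorem for solvable signalizer functors (helper23)
-/

set_option autoImplicit false

namespace Cfsg.Agent.Lib.Helper23_Transitivity

open Cfsg Cfsg.Agent.Lib.Helper23_Layer Cfsg.Agent.Lib.Helper23_PComp
  Cfsg.Agent.Lib.Helper23_Locals Cfsg.Agent.Lib.Helper24_CoprimeAction

variable {G : Type*} [Group G]

/-! ### basic facts on the family -/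

/-- members of the family are normalized by `A` -/
theorem le_normalizer_of_mem {p : ℕ} {A : Subgroup G} {θ : G → Subgroup G} {U : Subgroup G}
    (hU : U ∈ signalizerFamily p A θ) : A ≤ Subgroup.normalizer (U : Set G) := by
  intro b hb
  rw [Subgroup.mem_normalizer_iff]
  intro u
  constructor
  · intro hu
    exact hU.2.2.1 b hb u hu
  · intro hu
    have := hU.2.2.1 b⁻¹ (inv_mem hb) _ hu
    have e : b⁻¹ * (b * u * b⁻¹) * b⁻¹⁻¹ = u := by group
    rwa [e] at this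

/-- `A`-invariant subgroups of members are members -/
theorem mem_of_le {p : ℕ} {A : Subgroup G} {θ : G → Subgroup G} {U V : Subgroup G}
    (hU : U ∈ signalizerFamily p A θ) (hVU : V ≤ U)
    (hAV : A ≤ Subgroup.normalizer (V : Set G)) : V ∈ signalizerFamily p A θ := by
  refine ⟨?_, ?_, ?_, ?_⟩
  · have := hU.1
    exact Group.isSolvable_of_isSolvable_injective (Subgroup.inclusion_injective hVU)
  · intro h
    exact hU.2.1 (h.trans (Subgroup.card_dvd_of_le hVU))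
  · intro b hb u hu
    exact (Subgroup.mem_normalizer_iff.mp (hAV hb) u).mp hu
  · intro a ha ha1
    exact (inf_le_inf_right _ hVU).trans (hU.2.2.2 a ha ha1)

/-- `θ a` is a member -/
theorem theta_mem {p : ℕ} {A : Subgroup G} {θ : G → Subgroup G}
    (hθ : IsSolvableSignalizerFunctor p A θ) {a : G} (ha : a ∈ A) (ha1 : a ≠ 1) :
    θ a ∈ signalizerFamily p A θ :=
  ⟨hθ.2 a ha ha1, hθ.1.2.1 a ha ha1, hθ.1.2.2.1 a ha ha1, fun b hb hb1 => hθ.1.2.2.2 a ha ha1 b hb hb1⟩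

/-- the elements of `θ(C_G(A))` centralize `A` -/
theorem signalizerInf_le_centralizer {p : ℕ} {A : Subgroup G} {θ : G → Subgroup G}
    (hθ : IsSolvableSignalizerFunctor p A θ) :
    signalizerInf A θ ≤ Subgroup.centralizer (A : Set G) := by
  intro c hc
  rw [Subgroup.mem_centralizer_iff]
  intro a ha
  by_cases ha1 : a = 1
  · rw [ha1]; simp
  · have h1 : c ∈ θ a := by
      have := (Subgroup.mem_iInf.mp hc) ⟨a, ha, ha1⟩
      exact this
    have h2 := hθ.1.1 a ha ha1 h1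
    rw [Subgroup.mem_centralizer_iff] at h2
    exact h2 a (Set.mem_singleton a)

theorem signalizerInf_le_theta {A : Subgroup G} {θ : G → Subgroup G} {a : G} (ha : a ∈ A)
    (ha1 : a ≠ 1) : signalizerInf A θ ≤ θ a := by
  intro c hc
  exact (Subgroup.mem_iInf.mp hc) ⟨a, ha, ha1⟩

/-- `C_{θ a}(A) ≤ θ(C_G(A))` -/
theorem theta_inf_centralizer_le {p : ℕ} {A : Subgroup G} {θ : G → Subgroup G}
    (hθ : IsSolvableSignalizerFunctor p A θ) {a : G} (ha : a ∈ A) (ha1 : a ≠ 1) :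
    θ a ⊓ Subgroup.centralizer (A : Set G) ≤ signalizerInf A θ := by
  intro c hc
  unfold signalizerInf
  rw [Subgroup.mem_iInf]
  rintro ⟨b, hb, hb1⟩
  apply hθ.1.2.2.2 a ha ha1 b hb hb1
  refine Subgroup.mem_inf.mpr ⟨hc.1, ?_⟩
  exact Subgroup.centralizer_le (by
    intro x hx
    rw [Set.mem_singleton_iff] at hx
    rw [hx]; exact hb) hc.2

/-- conjugation by an element of `θ(C_G(A))` preserves the family -/
theorem cj_mem {p : ℕ} {A : Subgroup G} {θ : G → Subgroup G}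
    (hθ : IsSolvableSignalizerFunctor p A θ) {c : G} (hc : c ∈ signalizerInf A θ)
    {U : Subgroup G} (hU : U ∈ signalizerFamily p A θ) : cj c U ∈ signalizerFamily p A θ := by
  have hcA := signalizerInf_le_centralizer hθ hc
  rw [Subgroup.mem_centralizer_iff] at hcA
  refine ⟨?_, ?_, ?_, ?_⟩
  · have := hU.1
    exact Group.isSolvable_of_surjective
      (f := (U.equivMapOfInjective (MulAut.conj c).toMonoidHom (MulAut.conj c).injective).toMonoidHom)
      (MulEquiv.surjective _)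
  · rw [card_cj]
    exact hU.2.1
  · intro b hb x hx
    rw [mem_cj] at hx ⊢
    have h1 := hU.2.2.1 b hb _ hx
    have hbc := hcA b hb
    have hbc' : c⁻¹ * b = b * c⁻¹ := by
      calc c⁻¹ * b = c⁻¹ * (b * c) * c⁻¹ := by group
        _ = c⁻¹ * (c * b) * c⁻¹ := by rw [hbc]
        _ = b * c⁻¹ := by group
    have e : c⁻¹ * (b * x * b⁻¹) * c = b * (c⁻¹ * x * c) * b⁻¹ := by
      calc c⁻¹ * (b * x * b⁻¹) * c = (c⁻¹ * b) * x * (b⁻¹ * c) := by group
        _ = (b * c⁻¹) * x * (b⁻¹ * c) := by rw [hbc']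
        _ = b * c⁻¹ * x * (c⁻¹ * b)⁻¹ := by group
        _ = b * c⁻¹ * x * (b * c⁻¹)⁻¹ := by rw [hbc']
        _ = b * (c⁻¹ * x * c) * b⁻¹ := by group
    rw [e]; exact h1
  · intro a ha ha1 x hx
    obtain ⟨hx1, hx2⟩ := Subgroup.mem_inf.mp hx
    rw [mem_cj] at hx1
    have hca : c ∈ θ a := signalizerInf_le_theta ha ha1 hc
    have hac := hcA a ha
    have hxa : a * x = x * a := by
      rw [Subgroup.mem_centralizer_iff] at hx2
      exact hx2 a (Set.mem_singleton a)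
    have h1 : c⁻¹ * x * c ∈ U ⊓ Subgroup.centralizer {a} := by
      refine Subgroup.mem_inf.mpr ⟨hx1, ?_⟩
      rw [Subgroup.mem_centralizer_iff]
      intro y hy
      rw [Set.mem_singleton_iff] at hy
      rw [hy]
      have hac' : c⁻¹ * a = a * c⁻¹ := by
        calc c⁻¹ * a = c⁻¹ * (a * c) * c⁻¹ := by group
          _ = c⁻¹ * (c * a) * c⁻¹ := by rw [hac]
          _ = a * c⁻¹ := by group
      calc a * (c⁻¹ * x * c) = (a * c⁻¹) * x * c := by group
        _ = (c⁻¹ * a) * x * c := by rw [hac']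
        _ = c⁻¹ * (a * x) * c := by group
        _ = c⁻¹ * (x * a) * c := by rw [hxa]
        _ = c⁻¹ * x * (a * c) := by group
        _ = c⁻¹ * x * (c * a) := by rw [hac]
        _ = c⁻¹ * x * c * a := by group
    have h2 := hU.2.2.2 a ha ha1 h1
    have h3 := mul_mem (mul_mem hca h2) (inv_mem hca)
    have e : c * (c⁻¹ * x * c) * c⁻¹ = x := by group
    rwa [e] at h3

/-! ### maximal `q`-members -/

/-- `Q` is maximal among the `q`-subgroups in the family -/
def IsMaxQ (p : ℕ) (A : Subgroup G) (θ : G → Subgroup G) (q : ℕ) (Q : Subgroup G) : Prop :=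
  Q ∈ signalizerFamily p A θ ∧ IsPGroup q ↥Q ∧
    ∀ R ∈ signalizerFamily p A θ, IsPGroup q ↥R → Q ≤ R → R = Q

/-- every `q`-member lies in a maximal one -/
theorem exists_isMaxQ [Finite G] {p : ℕ} {A : Subgroup G} {θ : G → Subgroup G} {q : ℕ}
    {R : Subgroup G} (hR : R ∈ signalizerFamily p A θ) (hRq : IsPGroup q ↥R) :
    ∃ Q, IsMaxQ p A θ q Q ∧ R ≤ Q := by
  have hfin : {Q : Subgroup G | Q ∈ signalizerFamily p A θ ∧ IsPGroup q ↥Q}.Finite :=
    Set.toFinite _
  obtain ⟨Q, hRQ, hQmax⟩ := hfin.exists_le_maximal (a := R) ⟨hR, hRq⟩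
  refine ⟨Q, ⟨hQmax.1.1, hQmax.1.2, ?_⟩, hRQ⟩
  intro S hS hSq hQS
  exact le_antisymm (hQmax.2 ⟨hS, hSq⟩ hQS) hQS

/-- conjugation by an element of `θ(C_G(A))` preserves maximal `q`-members -/
theorem cj_isMaxQ {p : ℕ} {A : Subgroup G} {θ : G → Subgroup G}
    (hθ : IsSolvableSignalizerFunctor p A θ) {q : ℕ} {c : G} (hc : c ∈ signalizerInf A θ)
    {Q : Subgroup G} (hQ : IsMaxQ p A θ q Q) : IsMaxQ p A θ q (cj c Q) := by
  refine ⟨cj_mem hθ hc hQ.1, hQ.2.1.map _, ?_⟩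
  intro R hR hRq hle
  have h1 : Q ≤ cj c⁻¹ R := by
    have : cj c⁻¹ (cj c Q) ≤ cj c⁻¹ R := Subgroup.map_mono hle
    rwa [cj_inv_cj] at this
  have h2 := hQ.2.2 _ (cj_mem hθ (inv_mem hc) hR) (hRq.map _) h1
  rw [← h2]
  have := cj_inv_cj c⁻¹ R
  rw [inv_inv] at this
  exact this.symm

/-! ### auxiliary -/

theorem le_normalizer_inf {A X Y : Subgroup G} (hX : A ≤ Subgroup.normalizer (X : Set G))
    (hY : A ≤ Subgroup.normalizer (Y : Set G)) :
    A ≤ Subgroup.normalizer ((X ⊓ Y : Subgroup G) : Set G) := by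
  intro a ha
  rw [Subgroup.mem_normalizer_iff]
  intro x
  rw [Subgroup.mem_inf, Subgroup.mem_inf,
    ← Subgroup.mem_normalizer_iff.mp (hX ha) x, ← Subgroup.mem_normalizer_iff.mp (hY ha) x]

theorem isPGroup_of_elementaryAbelian {p : ℕ} {A : Subgroup G} (hA : IsElementaryAbelian p A) :
    IsPGroup p ↥A := by
  intro g
  refine ⟨1, ?_⟩
  rw [pow_one]
  exact Subtype.ext (hA.2 g g.2)

theorem commute_of_elementaryAbelian {p : ℕ} {A : Subgroup G} (hA : IsElementaryAbelian p A)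
    {a b : G} (ha : a ∈ A) (hb : b ∈ A) : a * b = b * a := by
  have := hA.1
  have h := mul_comm' (⟨a, ha⟩ : A) ⟨b, hb⟩
  exact congrArg Subtype.val h

theorem cj_one (Q : Subgroup G) : cj 1 Q = Q := by
  ext x
  rw [mem_cj]
  simp

/-! ### the transitivity theorem -/

theorem transitivity_aux [Finite G] (p : ℕ) [Fact p.Prime] (A : Subgroup G)
    (hA : IsElementaryAbelian p A) (hA3 : p ^ 3 ≤ Nat.card ↥A) (θ : G → Subgroup G)
    (hθ : IsSolvableSignalizerFunctor p A θ) (q : ℕ) [Fact q.Prime] (hqp : q ≠ p) :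
    ∀ (n : ℕ) (Q₁ Q₂ : Subgroup G), IsMaxQ p A θ q Q₁ → IsMaxQ p A θ q Q₂ →
      Nat.card G - Nat.card ↥(Q₁ ⊓ Q₂ : Subgroup G) = n →
      ∃ c ∈ signalizerInf A θ, cj c Q₁ = Q₂ := by
  have hpp : p.Prime := Fact.out
  have hA2 : p ^ 2 ≤ Nat.card ↥A := le_trans (Nat.pow_le_pow_right hpp.pos (by norm_num)) hA3
  have hAp : IsPGroup p ↥A := isPGroup_of_elementaryAbelian hA
  have hsolvA : Group.IsSolvable ↥A := by
    have : Group.IsNilpotent ↥A := hAp.isNilpotent
    infer_instance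
  intro n
  induction n using Nat.strong_induction_on with
  | _ n ih =>
    intro Q₁ Q₂ h₁ h₂ hn
    by_cases heq : Q₁ = Q₂
    · exact ⟨1, one_mem _, by rw [heq]; exact cj_one Q₂⟩
    have hD₁ : Q₁ ⊓ Q₂ ≠ Q₁ := by
      intro h
      have hle : Q₁ ≤ Q₂ := by rw [← h]; exact inf_le_right
      exact heq (h₁.2.2 Q₂ h₂.1 h₂.2.1 hle).symm
    have hD₂ : Q₁ ⊓ Q₂ ≠ Q₂ := by
      intro h
      have hle : Q₂ ≤ Q₁ := by rw [← h]; exact inf_le_left
      exact heq (h₂.2.2 Q₁ h₁.1 h₁.2.1 hle)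
    have hAQ₁ := le_normalizer_of_mem h₁.1
    have hAQ₂ := le_normalizer_of_mem h₂.1
    obtain ⟨a, haA, ha1, hS₁, hS₂⟩ := Cfsg.Agent.S1282.result p A hA hA3 q hqp Q₁ Q₂ h₁.2.1 h₂.2.1
      hAQ₁ hAQ₂ hD₁ hD₂
    set D : Subgroup G := Q₁ ⊓ Q₂ with hDdef
    have hAD : A ≤ Subgroup.normalizer (D : Set G) := le_normalizer_inf hAQ₁ hAQ₂
    have hAND : A ≤ Subgroup.normalizer ((Subgroup.normalizer (D : Set G) : Subgroup G) : Set G) :=
      hAD.trans Subgroup.le_normalizer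
    have hθa := theta_mem hθ haA ha1
    have hAθ : A ≤ Subgroup.normalizer ((θ a : Subgroup G) : Set G) := le_normalizer_of_mem hθa
    have hACa : A ≤ Subgroup.normalizer ((Subgroup.centralizer ({a} : Set G) : Subgroup G) : Set G) := by
      refine le_trans ?_ Subgroup.le_normalizer
      intro b hb
      rw [Subgroup.mem_centralizer_iff]
      intro y hy
      rw [Set.mem_singleton_iff] at hy
      rw [hy]
      exact commute_of_elementaryAbelian hA haA hb
    have hAK : A ≤ Subgroup.normalizer ((θ a ⊓ Subgroup.normalizer (D : Set G) : Subgroup G) : Set G) :=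
      le_normalizer_inf hAθ hAND
    have hAS₁ : A ≤ Subgroup.normalizer ((Subgroup.normalizer (D : Set G) ⊓ Q₁ ⊓
        Subgroup.centralizer ({a} : Set G) : Subgroup G) : Set G) :=
      le_normalizer_inf (le_normalizer_inf hAND hAQ₁) hACa
    have hAS₂ : A ≤ Subgroup.normalizer ((Subgroup.normalizer (D : Set G) ⊓ Q₂ ⊓
        Subgroup.centralizer ({a} : Set G) : Subgroup G) : Set G) :=
      le_normalizer_inf (le_normalizer_inf hAND hAQ₂) hACa
    have hS₁K : Subgroup.normalizer (D : Set G) ⊓ Q₁ ⊓ Subgroup.centralizer ({a} : Set G) ≤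
        θ a ⊓ Subgroup.normalizer (D : Set G) := by
      apply le_inf
      · exact (inf_le_inf_right _ inf_le_right).trans (h₁.1.2.2.2 a haA ha1)
      · exact inf_le_left.trans inf_le_left
    have hS₂K : Subgroup.normalizer (D : Set G) ⊓ Q₂ ⊓ Subgroup.centralizer ({a} : Set G) ≤
        θ a ⊓ Subgroup.normalizer (D : Set G) := by
      apply le_inf
      · exact (inf_le_inf_right _ inf_le_right).trans (h₂.1.2.2.2 a haA ha1)
      · exact inf_le_left.trans inf_le_left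
    have hS₁q : IsPGroup q ↥(Subgroup.normalizer (D : Set G) ⊓ Q₁ ⊓
        Subgroup.centralizer ({a} : Set G) : Subgroup G) :=
      h₁.2.1.to_le (inf_le_left.trans inf_le_right)
    have hS₂q : IsPGroup q ↥(Subgroup.normalizer (D : Set G) ⊓ Q₂ ⊓
        Subgroup.centralizer ({a} : Set G) : Subgroup G) :=
      h₂.2.1.to_le (inf_le_left.trans inf_le_right)
    have hcop : (Nat.card ↥A).Coprime
        (Nat.card ↥(θ a ⊓ Subgroup.normalizer (D : Set G) : Subgroup G)) := by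
      obtain ⟨k, hk⟩ := IsPGroup.iff_card.mp hAp
      rw [hk]
      apply Nat.Coprime.pow_left
      rw [Nat.Prime.coprime_iff_not_dvd hpp]
      intro hdvd
      exact hθa.2.1 (hdvd.trans (Subgroup.card_dvd_of_le inf_le_left))
    obtain ⟨P₁, hSP₁, hAP₁⟩ := Cfsg.Agent.S0025.result A _ hAK hcop (Or.inl hsolvA) q _ hS₁K hS₁q hAS₁
    obtain ⟨P₂, hSP₂, hAP₂⟩ := Cfsg.Agent.S0025.result A _ hAK hcop (Or.inl hsolvA) q _ hS₂K hS₂q hAS₂
    obtain ⟨c, hcA, hcP⟩ := invariant_sylow_conj A _ hAK hcop (Or.inl hsolvA) q P₂ P₁ hAP₂ hAP₁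
    have hcT : cj (c : G) (sylowImage P₂) = sylowImage P₁ := by
      rw [← hcP, sylowImage_smul]
    have hcC : (c : G) ∈ signalizerInf A θ :=
      theta_inf_centralizer_le hθ haA ha1 (Subgroup.mem_inf.mpr ⟨c.2.1, hcA⟩)
    have hcD : (c : G) ∈ Subgroup.normalizer (D : Set G) := c.2.2
    have hTK : sylowImage P₁ ≤ θ a ⊓ Subgroup.normalizer (D : Set G) := Subgroup.map_subtype_le _
    have hT : sylowImage P₁ ∈ signalizerFamily p A θ := mem_of_le hθa (hTK.trans inf_le_left) hAP₁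
    have hD : D ∈ signalizerFamily p A θ := mem_of_le h₁.1 inf_le_left hAD
    have hTD : sylowImage P₁ ≤ Subgroup.normalizer (D : Set G) := hTK.trans inf_le_right
    have hDT : D ⊔ sylowImage P₁ ∈ signalizerFamily p A θ :=
      Cfsg.Agent.S1280.result p A hA hA2 θ hθ D _ hD hT hTD
    have hDq : IsPGroup q ↥D := h₁.2.1.to_le inf_le_left
    have hTq : IsPGroup q ↥(sylowImage P₁) := P₁.2.map _
    have hDTq : IsPGroup q ↥(D ⊔ sylowImage P₁ : Subgroup G) :=
      IsPGroup.to_sup_of_normal_left' hDq hTq hTD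
    obtain ⟨Q₃, hQ₃, hle₃⟩ := exists_isMaxQ hDT hDTq
    have hQ₂' := cj_isMaxQ hθ hcC h₂
    -- sizes
    have hlt₁ : Nat.card ↥D < Nat.card ↥(Q₁ ⊓ Q₃ : Subgroup G) := by
      by_contra hcon
      push Not at hcon
      have hle : D ≤ Q₁ ⊓ Q₃ := le_inf inf_le_left (le_sup_left.trans hle₃)
      have := Subgroup.eq_of_le_of_card_ge hle hcon
      apply hS₁
      have hSle : Subgroup.normalizer (D : Set G) ⊓ Q₁ ⊓ Subgroup.centralizer ({a} : Set G) ≤
          Q₁ ⊓ Q₃ :=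
        le_inf (inf_le_left.trans inf_le_right) (hSP₁.trans (le_sup_right.trans hle₃))
      exact hSle.trans (le_of_eq this.symm)
    have hlt₂ : Nat.card ↥D < Nat.card ↥(cj (c : G) Q₂ ⊓ Q₃ : Subgroup G) := by
      by_contra hcon
      push Not at hcon
      have hDc : cj (c : G) D = D := cj_eq_of_mem_normalizer hcD
      have hle : D ≤ cj (c : G) Q₂ ⊓ Q₃ := by
        apply le_inf
        · calc D = cj (c : G) D := hDc.symm
            _ ≤ cj (c : G) Q₂ := Subgroup.map_mono inf_le_right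
        · exact le_sup_left.trans hle₃
      have hDeq := Subgroup.eq_of_le_of_card_ge hle hcon
      apply hS₂
      have h1 : cj (c : G) (Subgroup.normalizer (D : Set G) ⊓ Q₂ ⊓ Subgroup.centralizer ({a} : Set G)) ≤
          cj (c : G) Q₂ ⊓ Q₃ := by
        apply le_inf
        · exact Subgroup.map_mono (inf_le_left.trans inf_le_right)
        · calc cj (c : G) (Subgroup.normalizer (D : Set G) ⊓ Q₂ ⊓ Subgroup.centralizer ({a} : Set G))
              ≤ cj (c : G) (sylowImage P₂) := Subgroup.map_mono hSP₂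
            _ = sylowImage P₁ := hcT
            _ ≤ Q₃ := le_sup_right.trans hle₃
      rw [← hDeq] at h1
      have h2 : cj (c : G)⁻¹ (cj (c : G) (Subgroup.normalizer (D : Set G) ⊓ Q₂ ⊓
          Subgroup.centralizer ({a} : Set G))) ≤ cj (c : G)⁻¹ D := Subgroup.map_mono h1
      rw [cj_inv_cj] at h2
      have h3 : cj (c : G)⁻¹ D = D := cj_eq_of_mem_normalizer (inv_mem hcD)
      rwa [h3] at h2
    have hcard₁ : Nat.card ↥(Q₁ ⊓ Q₃ : Subgroup G) ≤ Nat.card G := Subgroup.card_le_card_group _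
    have hcard₂ : Nat.card ↥(cj (c : G) Q₂ ⊓ Q₃ : Subgroup G) ≤ Nat.card G :=
      Subgroup.card_le_card_group _
    obtain ⟨c₁, hc₁, hc₁Q⟩ := ih (Nat.card G - Nat.card ↥(Q₁ ⊓ Q₃ : Subgroup G)) (by omega)
      Q₁ Q₃ h₁ hQ₃ rfl
    obtain ⟨c₃, hc₃, hc₃Q⟩ := ih (Nat.card G - Nat.card ↥(cj (c : G) Q₂ ⊓ Q₃ : Subgroup G)) (by omega)
      (cj (c : G) Q₂) Q₃ hQ₂' hQ₃ rfl
    refine ⟨(c₃ * (c : G))⁻¹ * c₁, mul_mem (inv_mem (mul_mem hc₃ hcC)) hc₁, ?_⟩
    calc cj ((c₃ * (c : G))⁻¹ * c₁) Q₁ = cj (c₃ * (c : G))⁻¹ (cj c₁ Q₁) := cj_mul _ _ _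
      _ = cj (c₃ * (c : G))⁻¹ Q₃ := by rw [hc₁Q]
      _ = cj (c₃ * (c : G))⁻¹ (cj (c₃ * (c : G)) Q₂) := by rw [cj_mul c₃ (c : G) Q₂, hc₃Q]
      _ = Q₂ := cj_inv_cj _ _

end Cfsg.Agent.Lib.Helper23_Transitivity
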