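import Cfsg.Agent.Lib.Helper23_Transitivity

/-!
# Consequences of the transitivity theorem (helper23)
-/

set_option autoImplicit false

namespace Cfsg.Agent.Lib.Helper23_Transitivity2

open Cfsg Cfsg.Agent.Lib.Helper23_Layer Cfsg.Agent.Lib.Helper23_PComp
  Cfsg.Agent.Lib.Helper23_Locals Cfsg.Agent.Lib.Helper24_CoprimeAction
  Cfsg.Agent.Lib.Helper23_Transitivity

variable {G : Type*} [Group G]

/-- (a): a maximal `q`-member `Q` has a `θ(C_G(A))`-conjugate meeting a given member `H` in a Sylow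
`q`-subgroup of `H`. -/
theorem exists_sylow_eq_cj_inf [Finite G] (p : ℕ) [Fact p.Prime] (A : Subgroup G)
    (hA : IsElementaryAbelian p A) (hA3 : p ^ 3 ≤ Nat.card ↥A) (θ : G → Subgroup G)
    (hθ : IsSolvableSignalizerFunctor p A θ) (q : ℕ) [Fact q.Prime] (hqp : q ≠ p)
    {Q : Subgroup G} (hQ : IsMaxQ p A θ q Q) {H : Subgroup G} (hH : H ∈ signalizerFamily p A θ) :
    ∃ c ∈ signalizerInf A θ, ∃ S : Sylow q ↥H,
      (S : Subgroup ↥H).map H.subtype = cj c Q ⊓ H := by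
  have hpp : p.Prime := Fact.out
  have hAp : IsPGroup p ↥A := isPGroup_of_elementaryAbelian hA
  have hsolvA : Group.IsSolvable ↥A := by
    have : Group.IsNilpotent ↥A := hAp.isNilpotent
    infer_instance
  have hAH := le_normalizer_of_mem hH
  have hcop : (Nat.card ↥A).Coprime (Nat.card ↥H) := by
    obtain ⟨k, hk⟩ := IsPGroup.iff_card.mp hAp
    rw [hk]
    apply Nat.Coprime.pow_left
    rw [Nat.Prime.coprime_iff_not_dvd hpp]
    exact hH.2.1
  obtain ⟨P, hAP⟩ := exists_invariant_sylow A H hAH hcop (Or.inl hsolvA) q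
  have hPH : sylowImage P ≤ H := Subgroup.map_subtype_le _
  have hPF : sylowImage P ∈ signalizerFamily p A θ := mem_of_le hH hPH hAP
  have hPq : IsPGroup q ↥(sylowImage P) := P.2.map _
  obtain ⟨Q', hQ', hPQ'⟩ := exists_isMaxQ hPF hPq
  obtain ⟨c, hc, hcQ⟩ := transitivity_aux p A hA hA3 θ hθ q hqp _ Q Q' hQ hQ' rfl
  refine ⟨c, hc, P, ?_⟩
  rw [hcQ]
  have hXq : IsPGroup q ↥((Q' ⊓ H : Subgroup G).subgroupOf H) :=
    (hQ'.2.1.to_le inf_le_left).comap_subtype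
  have hle : (P : Subgroup ↥H) ≤ (Q' ⊓ H : Subgroup G).subgroupOf H := by
    intro x hx
    rw [Subgroup.mem_subgroupOf]
    exact Subgroup.mem_inf.mpr ⟨hPQ' ⟨x, hx, rfl⟩, x.2⟩
  have := P.is_maximal' hXq hle
  rw [← this, Subgroup.map_subgroupOf_eq_of_le inf_le_right]

theorem signalizerInf_mono {A B : Subgroup G} (θ : G → Subgroup G) (hBA : B ≤ A) :
    signalizerInf A θ ≤ signalizerInf B θ := by
  intro c hc
  unfold signalizerInf
  rw [Subgroup.mem_iInf]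
  rintro ⟨b, hb, hb1⟩
  exact (Subgroup.mem_iInf.mp hc) ⟨b, hBA hb, hb1⟩

theorem signalizerInf_le_centralizer_of_le {p : ℕ} {A B : Subgroup G} {θ : G → Subgroup G}
    (hθ : IsSolvableSignalizerFunctor p A θ) (hBA : B ≤ A) :
    signalizerInf B θ ≤ Subgroup.centralizer (B : Set G) := by
  intro c hc
  rw [Subgroup.mem_centralizer_iff]
  intro b hb
  by_cases hb1 : b = 1
  · rw [hb1]; simp
  · have h1 : c ∈ θ b := (Subgroup.mem_iInf.mp hc) ⟨b, hb, hb1⟩
    have h2 := hθ.1.1 b (hBA hb) hb1 h1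
    rw [Subgroup.mem_centralizer_iff] at h2
    exact h2 b (Set.mem_singleton b)

theorem signalizerInf_mem_family {p : ℕ} {A B : Subgroup G} {θ : G → Subgroup G}
    (hθ : IsSolvableSignalizerFunctor p A θ) (hBA : B ≤ A) (hB : B ≠ ⊥) :
    signalizerInf B θ ∈ signalizerFamily p A θ := by
  obtain ⟨⟨b₀, hb₀⟩, hb₀1⟩ := (Subgroup.ne_bot_iff_exists_ne_one).mp hB
  have hb₀1' : b₀ ≠ 1 := fun h => hb₀1 (Subtype.ext h)
  have hle : signalizerInf B θ ≤ θ b₀ := fun c hc => (Subgroup.mem_iInf.mp hc) ⟨b₀, hb₀, hb₀1'⟩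
  apply mem_of_le (theta_mem hθ (hBA hb₀) hb₀1') hle
  intro a ha
  rw [Subgroup.mem_normalizer_iff]
  intro x
  unfold signalizerInf
  rw [Subgroup.mem_iInf, Subgroup.mem_iInf]
  constructor
  · rintro h ⟨b, hb, hb1⟩
    have hn := le_normalizer_of_mem (theta_mem hθ (hBA hb) hb1) ha
    exact (Subgroup.mem_normalizer_iff.mp hn x).mp (h ⟨b, hb, hb1⟩)
  · rintro h ⟨b, hb, hb1⟩
    have hn := le_normalizer_of_mem (theta_mem hθ (hBA hb) hb1) ha
    exact (Subgroup.mem_normalizer_iff.mp hn x).mpr (h ⟨b, hb, hb1⟩)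

theorem inf_signalizerInf_eq {p : ℕ} {A B : Subgroup G} {θ : G → Subgroup G}
    (hθ : IsSolvableSignalizerFunctor p A θ) {Q : Subgroup G} (hQ : Q ∈ signalizerFamily p A θ)
    (hBA : B ≤ A) : Q ⊓ signalizerInf B θ = Q ⊓ Subgroup.centralizer (B : Set G) := by
  apply le_antisymm
  · exact inf_le_inf_left _ (signalizerInf_le_centralizer_of_le hθ hBA)
  · intro x hx
    obtain ⟨hx1, hx2⟩ := Subgroup.mem_inf.mp hx
    refine Subgroup.mem_inf.mpr ⟨hx1, ?_⟩
    unfold signalizerInf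
    rw [Subgroup.mem_iInf]
    rintro ⟨b, hb, hb1⟩
    apply hQ.2.2.2 b (hBA hb) hb1
    refine Subgroup.mem_inf.mpr ⟨hx1, ?_⟩
    exact Subgroup.centralizer_le (by
      intro y hy
      rw [Set.mem_singleton_iff] at hy
      rw [hy]; exact hb) hx2

/-- (b): for a nontrivial `B ≤ A`, `C_Q(B)` is a Sylow `q`-subgroup of `θ(C_G(B))`. -/
theorem exists_sylow_eq_inf_centralizer [Finite G] (p : ℕ) [Fact p.Prime] (A : Subgroup G)
    (hA : IsElementaryAbelian p A) (hA3 : p ^ 3 ≤ Nat.card ↥A) (θ : G → Subgroup G)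
    (hθ : IsSolvableSignalizerFunctor p A θ) (q : ℕ) [Fact q.Prime] (hqp : q ≠ p)
    {Q : Subgroup G} (hQ : IsMaxQ p A θ q Q) {B : Subgroup G} (hBA : B ≤ A) (hB : B ≠ ⊥) :
    ∃ S : Sylow q ↥(signalizerInf B θ),
      (S : Subgroup ↥(signalizerInf B θ)).map (signalizerInf B θ).subtype =
        Q ⊓ Subgroup.centralizer (B : Set G) := by
  obtain ⟨c, hc, S, hS⟩ := exists_sylow_eq_cj_inf p A hA hA3 θ hθ q hqp hQ
    (signalizerInf_mem_family hθ hBA hB)
  have hcB : c ∈ signalizerInf B θ := signalizerInf_mono θ hBA hc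
  refine ⟨(⟨c⁻¹, inv_mem hcB⟩ : ↥(signalizerInf B θ)) • S, ?_⟩
  have h1 := sylowImage_smul S (⟨c⁻¹, inv_mem hcB⟩ : ↥(signalizerInf B θ))
  change sylowImage ((⟨c⁻¹, inv_mem hcB⟩ : ↥(signalizerInf B θ)) • S) = _
  rw [h1]
  change cj c⁻¹ (sylowImage S) = _
  have h2 : sylowImage S = cj c Q ⊓ signalizerInf B θ := hS
  rw [h2]
  have h3 : cj c⁻¹ (cj c Q ⊓ signalizerInf B θ) =
      cj c⁻¹ (cj c Q) ⊓ cj c⁻¹ (signalizerInf B θ) :=
    Subgroup.map_inf_eq _ _ _ (MulAut.conj c⁻¹).injective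
  rw [h3, cj_inv_cj, cj_eq_of_mem (inv_mem hcB)]
  exact inf_signalizerInf_eq hθ hQ.1 hBA

end Cfsg.Agent.Lib.Helper23_Transitivity2
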