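import Mathlib
import Cfsg.Agent.Lib.Helper23_TD4InvConj

set_option autoImplicit false
set_option linter.unusedSimpArgs false
set_option linter.unusedVariables false
set_option linter.unusedTactic false
set_option linter.unreachableTactic false
set_option linter.unnecessarySeqFocus false
set_option linter.unusedSectionVars false
set_option maxHeartbeats 1000000

/-!
# Abstract version of `Helper23_TD4InvRed` (architect helper23; for S2177 = `G₂(q)`, `q` even, and S2183)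

`G` any group, `P : T6 K → G` a map with `P x * P y = P (mulT f x y)` (the coordinates of the unipotent group of `³D₄(q)`
in characteristic two; for `f = RingHom.id K` these are the coordinates of the unipotent group of `G₂(K)`), `H ≤ G` a
subgroup containing the `P x`, two elements `na`, `nb` of `H` acting on the one-parameter subgroups as the two
reflections, the torus transitive on `P (ta t)` and `P (te m)`.  Then every involution `P x` is conjugate under `H` to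
`P (tz 1)` or to `P (ta 1)` (`involution_cj`).
-/

namespace Cfsg.Agent.Lib.Helper23_U6Abs

open Cfsg.Agent.Lib.Helper23_TD4InvDefs Cfsg.Agent.Lib.Helper23_TD4InvMul Cfsg.Agent.Lib.Helper23_TD4InvConj

variable {K : Type*} [Field K] {G : Type*} [Group G]

/-- Conjugacy under a subgroup. -/
def CJ (H : Subgroup G) (g h : G) : Prop := ∃ c ∈ H, c * g * c⁻¹ = h

theorem CJ.refl (H : Subgroup G) (g : G) : CJ H g g :=
  ⟨1, H.one_mem, by group⟩

theorem CJ.trans {H : Subgroup G} {g h k : G} (h1 : CJ H g h) (h2 : CJ H h k) :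
    CJ H g k := by
  obtain ⟨c, hc, rfl⟩ := h1
  obtain ⟨d, hd, rfl⟩ := h2
  exact ⟨d * c, H.mul_mem hd hc, by group⟩

/-- The hypotheses. -/
structure Hyp (f : K →+* K) (P : T6 K → G) (H : Subgroup G) : Prop where
  hf3 : ∀ x, f (f (f x)) = x
  hmul : ∀ x y, Good f x → Good f y → P x * P y = P (mulT f x y)
  hzero : P 0 = 1
  hP : ∀ x, Good f x → P x ∈ H
  hinj : ∀ x, Good f x → P x = 1 → x = 0
  hna : ∃ na ∈ H, (∀ s, f s = s → na * P (tb s) * na⁻¹ = P (te s)) ∧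
    (∀ v, na * P (ty2 v) * na⁻¹ = P (ty1 (f (f v))))
  hnb : ∃ nb ∈ H, (∀ t, nb * P (ta t) * nb⁻¹ = P (ty1 (f (f t)))) ∧ (∀ u, nb * P (ty1 u) * nb⁻¹ = P (ta (f u))) ∧
    (∀ m, f m = m → nb * P (te m) * nb⁻¹ = P (tz m)) ∧ (∀ n, f n = n → nb * P (tz n) * nb⁻¹ = P (te n))
  htorA : ∀ t : K, t ≠ 0 → CJ H (P (ta t)) (P (ta 1))
  htorE : ∀ m : K, f m = m → m ≠ 0 → CJ H (P (te m)) (P (te 1))
  hsq : ∀ c : K, ∃ μ : K, μ * μ = c

section good

variable (f : K →+* K) (hf3 : ∀ x, f (f (f x)) = x)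

include hf3 in
theorem good_cjB (s0 : K) (hs0 : f s0 = s0) (x : T6 K) (hx : Good f x) : Good f (cjB f s0 x) := by
  obtain ⟨hxs, hxm, hxn⟩ := hx
  refine ⟨hxs, ?_, ?_⟩
  · simp only [cjB, map_add, map_mul, hf3, hs0, hxs, hxm, hxn]
    ring
  · simp only [cjB, map_add, map_mul, hf3, hs0, hxs, hxm, hxn]
    ring

include hf3 in
theorem good_cjA (t0 : K) (x : T6 K) (hx : Good f x) : Good f (cjA f t0 x) := by
  obtain ⟨hxs, hxm, hxn⟩ := hx
  refine ⟨hxs, ?_, ?_⟩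
  · simp only [cjA, map_add, map_mul, map_pow, hf3, hxs, hxm, hxn]
    ring
  · simp only [cjA, map_add, map_mul, map_pow, hf3, hxs, hxm, hxn]
    ring

include hf3 in
theorem good_cjY1 (u0 : K) (x : T6 K) (hx : Good f x) : Good f (cjY1 f u0 x) := by
  obtain ⟨hxs, hxm, hxn⟩ := hx
  refine ⟨hxs, ?_, ?_⟩
  · simp only [cjY1, map_add, map_mul, map_pow, hf3, hxs, hxm, hxn]
    ring
  · simp only [cjY1, map_add, map_mul, map_pow, hf3, hxs, hxm, hxn]
    ring

include hf3 in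
theorem good_cjY2 (v0 : K) (x : T6 K) (hx : Good f x) : Good f (cjY2 f v0 x) := by
  obtain ⟨hxs, hxm, hxn⟩ := hx
  refine ⟨hxs, ?_, ?_⟩
  · simp only [cjY2, map_add, map_mul, map_pow, hf3, hxs, hxm, hxn]
    ring
  · simp only [cjY2, map_add, map_mul, map_pow, hf3, hxs, hxm, hxn]
    ring

theorem good_cjE (m0 : K) (hm0 : f m0 = m0) (x : T6 K) (hx : Good f x) : Good f (cjE m0 x) := by
  obtain ⟨hxs, hxm, hxn⟩ := hx
  refine ⟨hxs, hxm, ?_⟩
  simp only [cjE, map_add, map_mul, hm0, hxs, hxn]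

end good

section steps

variable [CharP K 2] {f : K →+* K} {P : T6 K → G} {H : Subgroup G} (hyp : Hyp f P H)

include hyp in
/-- A conjugation in coordinates gives a conjugation in the group. -/
theorem step_cj (c x x' : T6 K) (hc : Good f c) (hx : Good f x) (hx' : Good f x')
    (h : mulT f c x = mulT f x' c) : CJ H (P x) (P x') := by
  have e : P c * P x * (P c)⁻¹ = P x' := by
    rw [mul_inv_eq_iff_eq_mul, hyp.hmul c x hc hx, hyp.hmul x' c hx' hc, h]
  exact ⟨P c, hyp.hP c hc, e⟩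

include hyp in
/-- A conjugation in coordinates gives a conjugation in the group, and preserves involutions. -/
theorem step (c x x' : T6 K) (hc : Good f c) (hx : Good f x) (hx' : Good f x')
    (h : mulT f c x = mulT f x' c) (hinv : mulT f x x = 0) :
    CJ H (P x) (P x') ∧ mulT f x' x' = 0 := by
  have e : P c * P x * (P c)⁻¹ = P x' := by
    rw [mul_inv_eq_iff_eq_mul, hyp.hmul c x hc hx, hyp.hmul x' c hx' hc, h]
  refine ⟨⟨P c, hyp.hP c hc, e⟩, ?_⟩
  apply hyp.hinj _ (good_mulT f hyp.hf3 x' x' hx' hx')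
  rw [← hyp.hmul x' x' hx' hx', ← e]
  have h1 : P x * P x = 1 := by
    rw [hyp.hmul x x hx hx, hinv, hyp.hzero]
  calc P c * P x * (P c)⁻¹ * (P c * P x * (P c)⁻¹)
      = P c * (P x * P x) * (P c)⁻¹ := by group
    _ = 1 := by rw [h1]; group

include hyp in
theorem stepB (s0 : K) (hs0 : f s0 = s0) (x : T6 K) (hx : Good f x) (hinv : mulT f x x = 0) :
    CJ H (P x) (P (cjB f s0 x)) ∧ mulT f (cjB f s0 x) (cjB f s0 x) = 0 :=
  step hyp (tb s0) x _ (good_tb f s0 hs0) hx (good_cjB f hyp.hf3 s0 hs0 x hx) (mul_cjB f hyp.hf3 s0 hs0 x hx) hinv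

include hyp in
theorem stepA (t0 : K) (x : T6 K) (hx : Good f x) (hinv : mulT f x x = 0) :
    CJ H (P x) (P (cjA f t0 x)) ∧ mulT f (cjA f t0 x) (cjA f t0 x) = 0 :=
  step hyp (ta t0) x _ (good_ta f t0) hx (good_cjA f hyp.hf3 t0 x hx) (mul_cjA f hyp.hf3 t0 x hx) hinv

include hyp in
theorem stepY1 (u0 : K) (x : T6 K) (hx : Good f x) (hinv : mulT f x x = 0) :
    CJ H (P x) (P (cjY1 f u0 x)) ∧ mulT f (cjY1 f u0 x) (cjY1 f u0 x) = 0 :=
  step hyp (ty1 u0) x _ (good_ty1 f u0) hx (good_cjY1 f hyp.hf3 u0 x hx) (mul_cjY1 f hyp.hf3 u0 x hx) hinv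

include hyp in
theorem stepY2 (v0 : K) (x : T6 K) (hx : Good f x) (hinv : mulT f x x = 0) :
    CJ H (P x) (P (cjY2 f v0 x)) ∧ mulT f (cjY2 f v0 x) (cjY2 f v0 x) = 0 :=
  step hyp (ty2 v0) x _ (good_ty2 f v0) hx (good_cjY2 f hyp.hf3 v0 x hx) (mul_cjY2 f hyp.hf3 v0 x hx) hinv

include hyp in
theorem stepE (m0 : K) (hm0 : f m0 = m0) (x : T6 K) (hx : Good f x) (hinv : mulT f x x = 0) :
    CJ H (P x) (P (cjE m0 x)) ∧ mulT f (cjE m0 x) (cjE m0 x) = 0 :=
  step hyp (te m0) x _ (good_te f m0 hm0) hx (good_cjE f m0 hm0 x hx) (mul_cjE f hyp.hf3 m0 hm0 x hx) hinv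

end steps

section shapes

variable (f : K →+* K)

theorem cjA_00 (t0 u v m n : K) : cjA f t0 ⟨0, 0, u, v, m, n⟩ =
    ⟨0, 0, u, v + f t0 * u + f (f t0) * f (f u),
      m + (t0 * v + f t0 * f v + f (f t0) * f (f v)) +
        (t0 * f t0 * u + t0 * f (f t0) * f (f u) + f t0 * f (f t0) * f u),
      n + (t0 * u * f (f u) + f t0 * u * f u + f (f t0) * f u * f (f u))⟩ := by
  ext <;> simp [cjA] <;> ring

theorem cjY2_00 (v0 u v m n : K) : cjY2 f v0 ⟨0, 0, u, v, m, n⟩ =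
    ⟨0, 0, u, v, m, n + (v0 * f u + f v0 * f (f u) + f (f v0) * u)⟩ := by
  ext <;> simp [cjY2] <;> ring

theorem cjY1_000 (u0 v m n : K) : cjY1 f u0 ⟨0, 0, 0, v, m, n⟩ =
    ⟨0, 0, 0, v, m, n + (u0 * f (f v) + f u0 * v + f (f u0) * f v)⟩ := by
  ext <;> simp [cjY1] <;> ring

theorem cjB_0000 (s0 m n : K) : cjB f s0 ⟨0, 0, 0, 0, m, n⟩ = ⟨0, 0, 0, 0, m, n + s0 * m⟩ := by
  ext <;> simp [cjB]

end shapes

section reduce

variable [CharP K 2] {f : K →+* K} {P : T6 K → G} {H : Subgroup G} (hyp : Hyp f P H)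

include hyp in
/-- A fixed element has a fixed square root. -/
theorem sqrt_fixed (c : K) (hc : f c = c) : ∃ μ : K, f μ = μ ∧ μ * μ = c := by
  obtain ⟨μ, hμ⟩ := hyp.hsq c
  refine ⟨μ, ?_, hμ⟩
  have h1 : f μ * f μ = μ * μ := by rw [← map_mul, hμ, hc]
  have h2 : (f μ + μ) * (f μ + μ) = 0 := by
    have : (f μ + μ) * (f μ + μ) = f μ * f μ + μ * μ + 2 * (f μ * μ) := by ring
    rw [this, h1, CharTwo.two_eq_zero, zero_mul, add_zero, CharTwo.add_self_eq_zero]
  have h3 : f μ + μ = 0 := by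
    rcases mul_self_eq_zero.mp h2 with h
    exact h
  exact CharTwo.add_eq_zero.mp h3

include hyp in
/-- `y1(u) y2(v) e(m) z(n)`, `u ≠ 0`, an involution, is conjugate to `y1(u)`. -/
theorem R1 (u v m n : K) (hm : f m = m) (hn : f n = n) (hu : u ≠ 0)
    (hTr : v * f u + f v * f (f u) + f (f v) * u = 0) :
    CJ H (P ⟨0, 0, u, v, m, n⟩) (P (ty1 u)) := by
  have hf3 := hyp.hf3
  have hfu : f u ≠ 0 := (map_ne_zero f).mpr hu
  have hffu : f (f u) ≠ 0 := (map_ne_zero f).mpr hfu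
  have h2 : (2 : K) = 0 := CharTwo.two_eq_zero
  -- first step: kill `v`
  have hx : Good f (⟨0, 0, u, v, m, n⟩ : T6 K) := ⟨map_zero f, hm, hn⟩
  set t0 : K := f u * v / (u * f (f u)) with ht0
  have s1 := step_cj hyp (ta t0) _ _ (good_ta f t0) hx (good_cjA f hf3 t0 _ hx) (mul_cjA f hf3 t0 _ hx)
  have g1 := good_cjA f hf3 t0 _ hx
  have hv : v + f t0 * u + f (f t0) * f (f u) = 0 := by
    simp only [ht0, map_div₀, map_mul, hf3]
    field_simp
    linear_combination hTr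
  rw [cjA_00, hv] at s1 g1
  obtain ⟨-, hm1, hn1⟩ := g1
  simp only at hm1 hn1
  generalize m + (t0 * v + f t0 * f v + f (f t0) * f (f v)) +
    (t0 * f t0 * u + t0 * f (f t0) * f (f u) + f t0 * f (f t0) * f u) = m1 at s1 hm1
  generalize n + (t0 * u * f (f u) + f t0 * u * f u + f (f t0) * f u * f (f u)) = n1 at s1 hn1
  -- second step: kill `m1`
  have hN : f (u * f u * f (f u)) = u * f u * f (f u) := by
    simp only [map_mul, hf3]
    ring
  have hN0 : u * f u * f (f u) ≠ 0 := mul_ne_zero (mul_ne_zero hu hfu) hffu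
  obtain ⟨μ, hμ, hμ2⟩ := sqrt_fixed hyp (m1 / (u * f u * f (f u))) (by rw [map_div₀, hm1, hN])
  have hx1 : Good f (⟨0, 0, u, 0, m1, n1⟩ : T6 K) := ⟨map_zero f, hm1, hn1⟩
  have s2 := step_cj hyp (ta (μ * f u)) _ _ (good_ta f _) hx1 (good_cjA f hf3 _ _ hx1) (mul_cjA f hf3 _ _ hx1)
  have g2 := good_cjA f hf3 (μ * f u) _ hx1
  have hv2 : (0 : K) + f (μ * f u) * u + f (f (μ * f u)) * f (f u) = 0 := by
    simp only [map_mul, hf3, hμ]
    ring_nf
    simp only [c2, mul_zero]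
  have hm2 : m1 + ((μ * f u) * 0 + f (μ * f u) * f 0 + f (f (μ * f u)) * f (f 0)) +
      ((μ * f u) * f (μ * f u) * u + (μ * f u) * f (f (μ * f u)) * f (f u) +
        f (μ * f u) * f (f (μ * f u)) * f u) = 0 := by
    have e : m1 = μ * μ * (u * f u * f (f u)) := by
      rw [hμ2]
      field_simp
    simp only [map_mul, map_zero, hf3, hμ]
    rw [e]
    ring_nf
    simp only [c2, c3, c4, mul_zero, mul_one, add_zero]
  rw [cjA_00, hv2, hm2] at s2 g2
  obtain ⟨-, -, hn2⟩ := g2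
  simp only at hn2
  generalize n1 + (μ * f u * u * f (f u) + f (μ * f u) * u * f u + f (f (μ * f u)) * f u * f (f u)) = n2 at s2 hn2
  -- third step: kill `n2`
  have hx2 : Good f (⟨0, 0, u, 0, 0, n2⟩ : T6 K) := ⟨map_zero f, map_zero f, hn2⟩
  have s3 := step_cj hyp (ty2 (n2 / f u)) _ _ (good_ty2 f _) hx2 (good_cjY2 f hf3 _ _ hx2)
    (mul_cjY2 f hf3 _ _ hx2)
  have hn3 : n2 + (n2 / f u * f u + f (n2 / f u) * f (f u) + f (f (n2 / f u)) * u) = 0 := by
    simp only [map_div₀, hf3, hn2]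
    field_simp
    ring_nf
    simp only [c2, c3, c4, mul_zero, mul_one, add_zero]
  rw [cjY2_00, hn3] at s3
  exact (s1.trans s2).trans s3

include hyp in
/-- `y2(v) e(m) z(n)`, `v ≠ 0`, is conjugate to `y2(v)`. -/
theorem R2 (v m n : K) (hm : f m = m) (hn : f n = n) (hv : v ≠ 0) :
    CJ H (P ⟨0, 0, 0, v, m, n⟩) (P (ty2 v)) := by
  have hf3 := hyp.hf3
  have hfv : f v ≠ 0 := (map_ne_zero f).mpr hv
  have hffv : f (f v) ≠ 0 := (map_ne_zero f).mpr hfv
  have hx : Good f (⟨0, 0, 0, v, m, n⟩ : T6 K) := ⟨map_zero f, hm, hn⟩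
  have s1 := step_cj hyp (ta (m / v)) _ _ (good_ta f _) hx (good_cjA f hf3 _ _ hx) (mul_cjA f hf3 _ _ hx)
  have hv1 : v + f (m / v) * 0 + f (f (m / v)) * f (f 0) = v := by
    simp only [map_zero, mul_zero, add_zero]
  have hm1 : m + (m / v * v + f (m / v) * f v + f (f (m / v)) * f (f v)) +
      (m / v * f (m / v) * 0 + m / v * f (f (m / v)) * f (f 0) + f (m / v) * f (f (m / v)) * f 0) = 0 := by
    simp only [map_div₀, map_zero, hm, mul_zero, add_zero]
    field_simp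
    ring_nf
    simp only [c2, c3, c4, mul_zero, mul_one, add_zero]
  have hn1 : n + (m / v * 0 * f (f 0) + f (m / v) * 0 * f 0 + f (f (m / v)) * f 0 * f (f 0)) = n := by
    simp only [map_zero, mul_zero, zero_mul, add_zero]
  rw [cjA_00, hv1, hm1, hn1] at s1
  have hx1 : Good f (⟨0, 0, 0, v, 0, n⟩ : T6 K) := ⟨map_zero f, map_zero f, hn⟩
  have s2 := step_cj hyp (ty1 (f (f (n / v)))) _ _ (good_ty1 f _) hx1 (good_cjY1 f hf3 _ _ hx1)
    (mul_cjY1 f hf3 _ _ hx1)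
  have hn2 : n + (f (f (n / v)) * f (f v) + f (f (f (n / v))) * v + f (f (f (f (n / v)))) * f v) = 0 := by
    simp only [map_div₀, hf3, hn]
    field_simp
    ring_nf
    simp only [c2, c3, c4, mul_zero, mul_one, add_zero]
  rw [cjY1_000, hn2] at s2
  exact s1.trans s2

include hyp in
/-- `e(m) z(n)`, `m ≠ 0`, is conjugate to `e(m)`. -/
theorem R3 (m n : K) (hm : f m = m) (hn : f n = n) (hm0 : m ≠ 0) :
    CJ H (P ⟨0, 0, 0, 0, m, n⟩) (P (te m)) := by
  have hf3 := hyp.hf3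
  have hx : Good f (⟨0, 0, 0, 0, m, n⟩ : T6 K) := ⟨map_zero f, hm, hn⟩
  have hs0 : f (n / m) = n / m := by rw [map_div₀, hn, hm]
  have s1 := step_cj hyp (tb (n / m)) _ _ (good_tb f _ hs0) hx (good_cjB f hf3 _ hs0 _ hx)
    (mul_cjB f hf3 _ hs0 _ hx)
  have hn1 : n + n / m * m = 0 := by
    field_simp
    ring_nf
    simp only [c2, mul_zero]
  rw [cjB_0000, hn1] at s1
  exact s1

include hyp in
/-- An involution `b(s) y1(u) y2(v) e(m) z(n)`, `s ≠ 0`, is conjugate to some `b(s) y2(v1)`. -/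
theorem R4 (s u v m n : K) (hs : f s = s) (hm : f m = m) (hn : f n = n) (hs0 : s ≠ 0)
    (hinv : mulT f (⟨s, 0, u, v, m, n⟩ : T6 K) ⟨s, 0, u, v, m, n⟩ = 0) :
    ∃ v1 : K, CJ H (P ⟨s, 0, u, v, m, n⟩) (P ⟨s, 0, 0, v1, 0, 0⟩) := by
  have hf3 := hyp.hf3
  have hx : Good f (⟨s, 0, u, v, m, n⟩ : T6 K) := ⟨hs, hm, hn⟩
  obtain ⟨s1, i1⟩ := stepA hyp (f (u / s)) _ hx hinv
  have g1 := good_cjA f hf3 (f (u / s)) _ hx
  obtain ⟨v1, m1, n1, e1⟩ : ∃ v1 m1 n1 : K, cjA f (f (u / s)) ⟨s, 0, u, v, m, n⟩ = ⟨s, 0, 0, v1, m1, n1⟩ := by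
    refine ⟨_, _, _, T6.ext rfl rfl ?_ rfl rfl rfl⟩
    simp only [cjA, hf3]
    field_simp
    ring_nf
    simp only [c2, mul_zero]
  rw [e1] at s1 i1 g1
  obtain ⟨-, hm1, hn1⟩ := g1
  simp only at hm1 hn1
  have hm10 : m1 = 0 := by
    have h := congrArg T6.n i1
    simp only [mulT, map_zero, mul_zero, zero_mul, add_zero, zero_n] at h
    rw [CharTwo.add_self_eq_zero, zero_add] at h
    rcases mul_eq_zero.mp h with h | h
    · exact h
    · exact absurd h hs0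
  subst hm10
  have hx1 : Good f (⟨s, 0, 0, v1, 0, n1⟩ : T6 K) := ⟨hs, map_zero f, hn1⟩
  have hm0 : f (n1 / s) = n1 / s := by rw [map_div₀, hn1, hs]
  have s2 := step_cj hyp (te (n1 / s)) _ _ (good_te f _ hm0) hx1 (good_cjE f _ hm0 _ hx1)
    (mul_cjE f hf3 _ hm0 _ hx1)
  have e2 : cjE (n1 / s) (⟨s, 0, 0, v1, 0, n1⟩ : T6 K) = ⟨s, 0, 0, v1, 0, 0⟩ := by
    refine T6.ext rfl rfl rfl rfl rfl ?_
    simp only [cjE]
    field_simp
    ring_nf
    simp only [c2, mul_zero]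
  rw [e2] at s2
  exact ⟨v1, s1.trans s2⟩

include hyp in
/-- An involution `a(t) y1(u) y2(v) e(m) z(n)`, `t ≠ 0`, is conjugate to some `a(t) z(n3)`. -/
theorem R5 (t u v m n : K) (hm : f m = m) (hn : f n = n) (ht0 : t ≠ 0)
    (hinv : mulT f (⟨0, t, u, v, m, n⟩ : T6 K) ⟨0, t, u, v, m, n⟩ = 0) :
    ∃ n3 : K, f n3 = n3 ∧ CJ H (P ⟨0, t, u, v, m, n⟩) (P ⟨0, t, 0, 0, 0, n3⟩) := by
  have hf3 := hyp.hf3
  have hft : f t ≠ 0 := (map_ne_zero f).mpr ht0
  have hfft : f (f t) ≠ 0 := (map_ne_zero f).mpr hft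
  have hx : Good f (⟨0, t, u, v, m, n⟩ : T6 K) := ⟨map_zero f, hm, hn⟩
  -- the relation between `u` and `t`
  have hu : u * f t + f (f u) * f (f t) = 0 := by
    have h := congrArg T6.v hinv
    simp only [mulT, map_zero, mul_zero, zero_mul, add_zero, zero_v] at h
    rw [CharTwo.add_self_eq_zero, zero_add] at h
    exact h
  have hl : f (u / f (f t)) = u / f (f t) := by
    have h1 : f (f (u / f (f t))) = u / f (f t) := by
      rw [map_div₀, map_div₀, hf3]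
      field_simp
      have := CharTwo.add_eq_zero.mp hu
      linear_combination -this
    have h2 := congrArg f h1
    rw [hf3] at h2
    exact h2.symm
  -- first step: kill `u`
  obtain ⟨s1, i1⟩ := stepB hyp (u / f (f t)) hl _ hx hinv
  have g1 := good_cjB f hf3 (u / f (f t)) hl _ hx
  obtain ⟨v1, m1, n1, e1⟩ : ∃ v1 m1 n1 : K, cjB f (u / f (f t)) ⟨0, t, u, v, m, n⟩ = ⟨0, t, 0, v1, m1, n1⟩ := by
    refine ⟨_, _, _, T6.ext rfl rfl ?_ rfl rfl rfl⟩
    simp only [cjB]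
    field_simp
    ring_nf
    simp only [c2, mul_zero]
  rw [e1] at s1 i1 g1
  obtain ⟨-, hm1, hn1⟩ := g1
  simp only at hm1 hn1
  have hx1 : Good f (⟨0, t, 0, v1, m1, n1⟩ : T6 K) := ⟨map_zero f, hm1, hn1⟩
  have hTr : v1 * t + f v1 * f t + f (f v1) * f (f t) = 0 := by
    have h := congrArg T6.m i1
    simp only [mulT, map_zero, mul_zero, zero_mul, add_zero, zero_m] at h
    rw [CharTwo.add_self_eq_zero, zero_add] at h
    exact h
  -- second step: kill `v1`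
  obtain ⟨s2, i2⟩ := stepY1 hyp (f (f t) * f (f v1) / (t * f t)) _ hx1 i1
  have g2 := good_cjY1 f hf3 (f (f t) * f (f v1) / (t * f t)) _ hx1
  obtain ⟨m2, n2, e2⟩ : ∃ m2 n2 : K, cjY1 f (f (f t) * f (f v1) / (t * f t)) ⟨0, t, 0, v1, m1, n1⟩ =
      ⟨0, t, 0, 0, m2, n2⟩ := by
    refine ⟨_, _, T6.ext rfl rfl rfl ?_ rfl rfl⟩
    simp only [cjY1, map_div₀, map_mul, hf3]
    field_simp
    have h3 : f (f v1) * f (f t) = v1 * t + f v1 * f t := by
      have := CharTwo.add_eq_zero.mp (show (v1 * t + f v1 * f t) + f (f v1) * f (f t) = 0 from hTr)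
      exact this.symm
    linear_combination (exp := 1) h3 + (v1 * t) * (c2 (K := K)) + (f t * f v1) * (c2 (K := K))
  rw [e2] at s2 i2 g2
  obtain ⟨-, hm2, hn2⟩ := g2
  simp only at hm2 hn2
  have hx2 : Good f (⟨0, t, 0, 0, m2, n2⟩ : T6 K) := ⟨map_zero f, hm2, hn2⟩
  -- third step: kill `m2`
  have s3 := step_cj hyp (ty2 (m2 / t)) _ _ (good_ty2 f _) hx2 (good_cjY2 f hf3 _ _ hx2)
    (mul_cjY2 f hf3 _ _ hx2)
  have e3 : cjY2 f (m2 / t) (⟨0, t, 0, 0, m2, n2⟩ : T6 K) = ⟨0, t, 0, 0, 0, n2⟩ := by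
    refine T6.ext rfl rfl rfl rfl ?_ ?_
    · simp only [cjY2, map_div₀, hm2]
      field_simp
      ring_nf
      simp only [c2, c3, c4, mul_zero, mul_one, add_zero]
    · simp only [cjY2, map_zero, mul_zero, add_zero]
  rw [e3] at s3
  exact ⟨n2, hn2, (s1.trans s2).trans s3⟩

/-! ### The two reflections -/

omit [CharP K 2] in
theorem mulT_tb_ty2 (s v : K) : mulT f (tb s) (ty2 v) = ⟨s, 0, 0, v, 0, 0⟩ := by
  ext <;> simp [mulT, tb, ty2]

omit [CharP K 2] in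
theorem mulT_ty1_te (u m : K) : mulT f (ty1 u) (te m) = ⟨0, 0, u, 0, m, 0⟩ := by
  ext <;> simp [mulT, ty1, te]

omit [CharP K 2] in
theorem mulT_te_ty1 (u m : K) : mulT f (te m) (ty1 u) = ⟨0, 0, u, 0, m, 0⟩ := by
  ext <;> simp [mulT, ty1, te]

omit [CharP K 2] in
theorem mulT_ta_tz (t n : K) : mulT f (ta t) (tz n) = ⟨0, t, 0, 0, 0, n⟩ := by
  ext <;> simp [mulT, ta, tz]

/-- Conjugation of a product of two elements. -/
theorem conj_mul2 (n a b : G) : n * (a * b) * n⁻¹ = (n * a * n⁻¹) * (n * b * n⁻¹) := by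
  group

include hyp in
/-- `b(s) y2(v)` is conjugate (by `n_a`) to `y1(f²v) e(s)`. -/
theorem Wa (s v : K) (hs : f s = s) : CJ H (P ⟨s, 0, 0, v, 0, 0⟩) (P ⟨0, 0, f (f v), 0, s, 0⟩) := by
  obtain ⟨na, hna, h1, h2⟩ := hyp.hna
  refine ⟨na, hna, ?_⟩
  rw [← mulT_tb_ty2 (f := f), ← hyp.hmul _ _ (good_tb f s hs) (good_ty2 f v), conj_mul2, h1 s hs, h2,
    hyp.hmul _ _ (good_te f s hs) (good_ty1 f _), mulT_te_ty1]

include hyp in
/-- `a(t) z(n)` is conjugate (by `n_b`) to `y1(f²t) e(n)`. -/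
theorem Wb (t n : K) (hn : f n = n) : CJ H (P ⟨0, t, 0, 0, 0, n⟩) (P ⟨0, 0, f (f t), 0, n, 0⟩) := by
  obtain ⟨nb, hnb, h1, h2, h3, h4⟩ := hyp.hnb
  refine ⟨nb, hnb, ?_⟩
  rw [← mulT_ta_tz (f := f), ← hyp.hmul _ _ (good_ta f t) (good_tz f n hn), conj_mul2, h1, h4 n hn,
    hyp.hmul _ _ (good_ty1 f _) (good_te f n hn), mulT_ty1_te]

/-! ### Root elements -/

include hyp in
theorem Le (m : K) (hm : f m = m) (hm0 : m ≠ 0) : CJ H (P (te m)) (P (tz 1)) := by
  obtain ⟨nb, hnb, h1, h2, h3, h4⟩ := hyp.hnb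
  exact (hyp.htorE m hm hm0).trans ⟨nb, hnb, h3 1 (map_one f)⟩

include hyp in
theorem Lb (s : K) (hs : f s = s) (hs0 : s ≠ 0) : CJ H (P (tb s)) (P (tz 1)) := by
  obtain ⟨na, hna, h1, h2⟩ := hyp.hna
  have h : CJ H (P (tb s)) (P (te s)) := ⟨na, hna, h1 s hs⟩
  exact h.trans (Le hyp s hs hs0)

include hyp in
theorem Lz (n : K) (hn : f n = n) (hn0 : n ≠ 0) : CJ H (P (tz n)) (P (tz 1)) := by
  obtain ⟨nb, hnb, h1, h2, h3, h4⟩ := hyp.hnb
  have h : CJ H (P (tz n)) (P (te n)) := ⟨nb, hnb, h4 n hn⟩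
  exact h.trans (Le hyp n hn hn0)

include hyp in
theorem Sy1 (u : K) (hu : u ≠ 0) : CJ H (P (ty1 u)) (P (ta 1)) := by
  obtain ⟨nb, hnb, h1, h2, h3, h4⟩ := hyp.hnb
  have h : CJ H (P (ty1 u)) (P (ta (f u))) := ⟨nb, hnb, h2 u⟩
  exact h.trans (hyp.htorA (f u) ((map_ne_zero f).mpr hu))

include hyp in
theorem Sy2 (v : K) (hv : v ≠ 0) : CJ H (P (ty2 v)) (P (ta 1)) := by
  obtain ⟨na, hna, h1, h2⟩ := hyp.hna
  have h : CJ H (P (ty2 v)) (P (ty1 (f (f v)))) := ⟨na, hna, h2 v⟩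
  exact h.trans (Sy1 hyp (f (f v)) ((map_ne_zero f).mpr ((map_ne_zero f).mpr hv)))

/-! ### The main result -/

include hyp in
/-- Every involution of the unipotent group is conjugate to `x_{3a+2b}(1)` or to `x_a(1)`. -/
theorem involution_cj (x : T6 K) (hx : Good f x) (hx0 : x ≠ 0) (hinv : mulT f x x = 0) :
    CJ H (P x) (P (tz 1)) ∨ CJ H (P x) (P (ta 1)) := by
  have hf3 := hyp.hf3
  obtain ⟨s, t, u, v, m, n⟩ := x
  obtain ⟨hs, hm, hn⟩ := hx
  simp only at hs hm hn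
  have hst : f (f t) * s = 0 := by
    have h := congrArg T6.u hinv
    simp only [mulT, zero_u] at h
    rw [CharTwo.add_self_eq_zero, zero_add] at h
    exact h
  -- the case of a short root element times `e`
  have key : ∀ u' m' : K, f m' = m' → u' ≠ 0 → CJ H (P ⟨0, 0, u', 0, m', 0⟩) (P (ta 1)) := by
    intro u' m' hm' hu'
    have h := R1 hyp u' 0 m' 0 hm' (map_zero f) hu' (by simp only [map_zero, zero_mul, add_zero])
    exact h.trans (Sy1 hyp u' hu')
  -- the case `s = 0`, `t = 0`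
  have key0 : ∀ u v m n : K, f m = m → f n = n → (⟨0, 0, u, v, m, n⟩ : T6 K) ≠ 0 →
      mulT f (⟨0, 0, u, v, m, n⟩ : T6 K) ⟨0, 0, u, v, m, n⟩ = 0 →
      CJ H (P ⟨0, 0, u, v, m, n⟩) (P (tz 1)) ∨ CJ H (P ⟨0, 0, u, v, m, n⟩) (P (ta 1)) := by
    intro u v m n hm hn hx0 hinv
    by_cases hu : u = 0
    · subst hu
      by_cases hv : v = 0
      · subst hv
        by_cases hm0 : m = 0
        · subst hm0
          have hn0 : n ≠ 0 := by
            rintro rfl
            exact hx0 rfl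
          left
          exact Lz hyp n hn hn0
        · left
          exact (R3 hyp m n hm hn hm0).trans (Le hyp m hm hm0)
      · right
        exact (R2 hyp v m n hm hn hv).trans (Sy2 hyp v hv)
    · right
      have hTr : v * f u + f v * f (f u) + f (f v) * u = 0 := by
        have h := congrArg T6.n hinv
        simp only [mulT, map_zero, mul_zero, zero_mul, add_zero, zero_n] at h
        rw [CharTwo.add_self_eq_zero, zero_add] at h
        exact h
      exact (R1 hyp u v m n hm hn hu hTr).trans (Sy1 hyp u hu)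
  rcases mul_eq_zero.mp hst with ht | hs0
  · -- `t = 0`
    have ht : t = 0 := (map_eq_zero f).mp ((map_eq_zero f).mp ht)
    subst ht
    by_cases hs0 : s = 0
    · subst hs0
      exact key0 u v m n hm hn hx0 hinv
    · obtain ⟨v1, h⟩ := R4 hyp s u v m n hs hm hn hs0 hinv
      by_cases hv1 : v1 = 0
      · subst hv1
        left
        exact h.trans (Lb hyp s hs hs0)
      · right
        exact (h.trans (Wa hyp s v1 hs)).trans
          (key (f (f v1)) s hs ((map_ne_zero f).mpr ((map_ne_zero f).mpr hv1)))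
  · -- `s = 0`
    subst hs0
    by_cases ht : t = 0
    · subst ht
      exact key0 u v m n hm hn hx0 hinv
    · right
      obtain ⟨n3, hn3, h⟩ := R5 hyp t u v m n hm hn ht hinv
      by_cases hn30 : n3 = 0
      · subst hn30
        exact h.trans (hyp.htorA t ht)
      · exact (h.trans (Wb hyp t n3 hn3)).trans
          (key (f (f t)) n3 hn3 ((map_ne_zero f).mpr ((map_ne_zero f).mpr ht)))

end reduce

end Cfsg.Agent.Lib.Helper23_U6Abs
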