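import Mathlib
import Cfsg.Agent.Lib.Helper23_ZStarC
import Cfsg.Agent.Lib.Helper1_Coprime
import Cfsg.Agent.Lib.Helper48_SPE

/-!
# Consequences of the Z*-theorem: invariant Sylow subgroups (helper23)

For an isolated involution `z` of a finite group `G` and an odd prime `p`:
existence of `z`-invariant Sylow `p`-subgroups, their conjugacy under `C_G(z)`, every `z`-invariant
`p`-subgroup lies in one, and `C_P(z)` is a Sylow `p`-subgroup of `C_G(z)`.
All statements take the Brauer–Suzuki theorem as a hypothesis (`BrauerSuzukiHyp`).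
-/

set_option autoImplicit false
set_option linter.unusedSectionVars false

namespace Cfsg.Agent.Lib.Helper23_ZStarD

open Cfsg Cfsg.Agent.Lib.Helper4_InvPairs Cfsg.Agent.Lib.Helper23_ZStarA
  Cfsg.Agent.Lib.Helper23_ZStar Cfsg.Agent.Lib.Helper23_ZStarC

universe u

section

variable {G : Type u} [Group G] [Finite G]

/-- `zpowers z` for an involution has order `2`. -/
theorem card_zpowers_two {z : G} (hz : orderOf z = 2) : Nat.card (Subgroup.zpowers z) = 2 := by
  rw [Nat.card_zpowers, hz]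

theorem zpowers_le_normalizer {z : G} {H : Subgroup G}
    (hz : z ∈ Subgroup.normalizer (H : Set G)) :
    Subgroup.zpowers z ≤ Subgroup.normalizer (H : Set G) :=
  Subgroup.zpowers_le.mpr hz

/-- The image of `z` in `G / O(G)` is central. -/
theorem mk_comm_of_zstar {z : G} (hzs : ∀ g : G, z * g * z⁻¹ * g⁻¹ ∈ oddCore G) (g : G) :
    (QuotientGroup.mk z : G ⧸ oddCore G) * QuotientGroup.mk g =
      QuotientGroup.mk g * QuotientGroup.mk z := by
  have h := (QuotientGroup.eq_one_iff (N := oddCore G) _).mpr (hzs g)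
  have h2 : (QuotientGroup.mk z : G ⧸ oddCore G) * QuotientGroup.mk g *
      (QuotientGroup.mk z)⁻¹ * (QuotientGroup.mk g)⁻¹ = 1 := h
  have := congrArg (fun x => x * QuotientGroup.mk g * (QuotientGroup.mk z : G ⧸ oddCore G)) h2
  simpa [mul_assoc] using this

/-- **`G = O(G) C_G(z)`** for an involution `z` with the `Z*` property. -/
theorem exists_core_mul_centralizer {z : G} (hz : OddProd z)
    (hzs : ∀ g : G, z * g * z⁻¹ * g⁻¹ ∈ oddCore G) (g : G) :
    ∃ k ∈ oddCore G, k⁻¹ * g ∈ Subgroup.centralizer ({z} : Set G) := by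
  have hzi := inv_eq_self_of_orderOf_two hz.1
  have hy : orderOf (g * z * g⁻¹) = 2 := (hz.conj g).1
  obtain ⟨d, hd, hdz⟩ := Cfsg.Agent.S0208.result z (g * z * g⁻¹) hz.1 hy (hz.2 g)
  have hKn : (oddCore G).Normal := Cfsg.Agent.Lib.Helper1_Cores.pPrimeCore_normal 2
  -- `d ∈ K ⊔ ⟨z⟩`
  have hle : Subgroup.closure ({z, g * z * g⁻¹} : Set G) ≤ oddCore G ⊔ Subgroup.zpowers z := by
    rw [Subgroup.closure_le]
    intro x hx
    rcases hx with hx | hx
    · rw [hx]; exact Subgroup.mem_sup_right (Subgroup.mem_zpowers z)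
    · rw [Set.mem_singleton_iff] at hx
      rw [hx]
      have h1 : g * z * g⁻¹ = (z * g * z⁻¹ * g⁻¹)⁻¹ * z := by group
      rw [h1]
      exact Subgroup.mul_mem _ (Subgroup.mem_sup_left (Subgroup.inv_mem _ (hzs g)))
        (Subgroup.mem_sup_right (Subgroup.mem_zpowers z))
  have hd' := hle hd
  rw [Subgroup.mem_sup_of_normal_left] at hd'
  obtain ⟨k, hk, w, hw, rfl⟩ := hd'
  refine ⟨k, hk, ?_⟩
  obtain ⟨i, rfl⟩ := Subgroup.mem_zpowers_iff.mp hw
  have hwz : z ^ i * z * (z ^ i)⁻¹ = z := by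
    have : Commute (z ^ i) z := (Commute.refl z).zpow_left i
    rw [this.eq]; group
  have h2 : k * z * k⁻¹ = g * z * g⁻¹ := by
    rw [← hdz]
    calc k * z * k⁻¹ = k * (z ^ i * z * (z ^ i)⁻¹) * k⁻¹ := by rw [hwz]
      _ = k * z ^ i * z * (k * z ^ i)⁻¹ := by group
  rw [Subgroup.mem_centralizer_iff]
  intro x hx
  rw [Set.mem_singleton_iff] at hx
  rw [hx]
  have h3 : z = k⁻¹ * (g * z * g⁻¹) * k := by rw [← h2]; group
  calc z * (k⁻¹ * g) = k⁻¹ * (g * z * g⁻¹) * k * (k⁻¹ * g) := by rw [← h3]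
    _ = k⁻¹ * g * z := by group

/-- A subgroup whose image in `G / O(G)` is a `p`-group (`p` odd) has odd order. -/
theorem coprime_two_of_map_isPGroup {p : ℕ} [Fact p.Prime] (hp : p ≠ 2) (X : Subgroup G)
    (hX : IsPGroup p (X.map (QuotientGroup.mk' (oddCore G)))) : (Nat.card X).Coprime 2 := by
  rw [Nat.coprime_comm, Nat.Prime.coprime_iff_not_dvd Nat.prime_two]
  intro hdvd
  have : Fact (Nat.Prime 2) := ⟨Nat.prime_two⟩
  obtain ⟨x, hx⟩ := exists_prime_orderOf_dvd_card' 2 hdvd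
  have hx2 : orderOf (x : G) = 2 := by rw [Subgroup.orderOf_coe, hx]
  have hmem : QuotientGroup.mk' (oddCore G) (x : G) ∈ X.map (QuotientGroup.mk' (oddCore G)) :=
    ⟨x, x.2, rfl⟩
  obtain ⟨k, hk⟩ := hX ⟨_, hmem⟩
  have hk' : (QuotientGroup.mk' (oddCore G) (x : G)) ^ p ^ k = 1 := congrArg Subtype.val hk
  have h2 : (QuotientGroup.mk' (oddCore G) (x : G)) ^ 2 = 1 := by
    rw [← map_pow, pow_two, mul_self_of_orderOf_two hx2, map_one]
  have hcop : Nat.Coprime (p ^ k) 2 := by
    apply Nat.Coprime.pow_left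
    rw [Nat.coprime_primes Fact.out Nat.prime_two]
    exact hp
  have h1 : QuotientGroup.mk' (oddCore G) (x : G) = 1 := by
    have ho1 := orderOf_dvd_of_pow_eq_one hk'
    have ho2 := orderOf_dvd_of_pow_eq_one h2
    have := Nat.eq_one_of_dvd_coprimes hcop ho1 ho2
    exact orderOf_eq_one_iff.mp this
  have hxK : (x : G) ∈ oddCore G := (QuotientGroup.eq_one_iff _).mp h1
  have hd : orderOf (x : G) ∣ Nat.card (oddCore G) := Subgroup.orderOf_dvd_natCard _ hxK
  rw [hx2] at hd
  have hc := Cfsg.Agent.Lib.Helper1_Cores.pPrimeCore_card_coprime (G := G) 2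
  have := Nat.Coprime.eq_one_of_dvd hc.symm hd
  omega

theorem isSolvable_zpowers (z : G) : Group.IsSolvable (Subgroup.zpowers z) := by
  apply Group.isSolvable_of_comm
  intro a b
  obtain ⟨i, hi⟩ := Subgroup.mem_zpowers_iff.mp a.2
  obtain ⟨j, hj⟩ := Subgroup.mem_zpowers_iff.mp b.2
  apply Subtype.ext
  show (a : G) * b = b * a
  rw [← hi, ← hj, ← zpow_add, ← zpow_add, add_comm]

theorem coprime_zpowers {z : G} (hz : orderOf z = 2) {X : Subgroup G}
    (hX : (Nat.card X).Coprime 2) : (Nat.card (Subgroup.zpowers z)).Coprime (Nat.card X) := by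
  rw [card_zpowers_two hz]; exact hX.symm

/-- **Existence of a `z`-invariant Sylow `p`-subgroup** (`p` odd) when `z` is central modulo
`O(G)`. -/
theorem exists_invariant_sylow_of_zstar {z : G} (hz : OddProd z)
    (hzs : ∀ g : G, z * g * z⁻¹ * g⁻¹ ∈ oddCore G) {p : ℕ} [Fact p.Prime] (hp : p ≠ 2) :
    ∃ P : Sylow p G, z ∈ Subgroup.normalizer ((P : Subgroup G) : Set G) := by
  have hKn : (oddCore G).Normal := Cfsg.Agent.Lib.Helper1_Cores.pPrimeCore_normal 2
  set π := QuotientGroup.mk' (oddCore G) with hπ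
  have hπs : Function.Surjective π := QuotientGroup.mk'_surjective _
  let Pb : Sylow p (G ⧸ oddCore G) := default
  set X := (Pb : Subgroup (G ⧸ oddCore G)).comap π with hX
  have hXmap : X.map π = Pb := Subgroup.map_comap_eq_self_of_surjective hπs _
  have hXodd : (Nat.card X).Coprime 2 := by
    apply coprime_two_of_map_isPGroup hp
    rw [← hπ, hXmap]
    exact Pb.2
  have hzX : z ∈ Subgroup.normalizer (X : Set G) := by
    rw [Subgroup.mem_normalizer_iff]
    intro x
    rw [hX, Subgroup.mem_comap, Subgroup.mem_comap]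
    have e : π (z * x * z⁻¹) = π x := by
      rw [map_mul, map_mul, map_inv]
      have := mk_comm_of_zstar hzs x
      change π z * π x = π x * π z at this
      rw [this, mul_inv_cancel_right]
    rw [e]
  have hAX := zpowers_le_normalizer hzX
  obtain ⟨R, hR⟩ := Cfsg.Agent.Lib.Helper1_Coprime.exists_invariant_sylow (Subgroup.zpowers z) X
    hAX (coprime_zpowers hz.1 hXodd) (Or.inl (isSolvable_zpowers z)) p
  set T := (R : Subgroup X).map X.subtype with hT
  have hTp : IsPGroup p T := R.2.map _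
  have hidx : ¬ p ∣ T.index := by
    rw [hT, Subgroup.index_map_subtype]
    intro h
    rcases (Nat.Prime.dvd_mul Fact.out).mp h with h | h
    · exact R.not_dvd_index h
    · rw [hX, Subgroup.index_comap_of_surjective _ hπs] at h
      exact Pb.not_dvd_index h
  exact ⟨hTp.toSylow hidx, hR (Subgroup.mem_zpowers z)⟩

/-- Preimages of subgroups of `G / O(G)` are normalized by `z`. -/
theorem mem_normalizer_comap_of_zstar {z : G} (hzs : ∀ g : G, z * g * z⁻¹ * g⁻¹ ∈ oddCore G)
    (Y : Subgroup (G ⧸ oddCore G)) :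
    z ∈ Subgroup.normalizer ((Y.comap (QuotientGroup.mk' (oddCore G)) : Subgroup G) : Set G) := by
  rw [Subgroup.mem_normalizer_iff]
  intro x
  rw [Subgroup.mem_comap, Subgroup.mem_comap]
  have e : QuotientGroup.mk' (oddCore G) (z * x * z⁻¹) = QuotientGroup.mk' (oddCore G) x := by
    rw [map_mul, map_mul, map_inv]
    have := mk_comm_of_zstar hzs x
    change QuotientGroup.mk' (oddCore G) z * QuotientGroup.mk' (oddCore G) x =
      QuotientGroup.mk' (oddCore G) x * QuotientGroup.mk' (oddCore G) z at this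
    rw [this, mul_inv_cancel_right]
  rw [e]

/-- Conjugating a `z`-invariant subgroup by an element of `C_G(z)` gives a `z`-invariant
subgroup. -/
theorem mem_normalizer_map_conj {z c : G} (hc : c ∈ Subgroup.centralizer ({z} : Set G))
    {H : Subgroup G} (hz : z ∈ Subgroup.normalizer (H : Set G)) :
    z ∈ Subgroup.normalizer ((H.map (MulAut.conj c).toMonoidHom : Subgroup G) : Set G) := by
  have hcz : z * c = c * z := Subgroup.mem_centralizer_iff.mp hc z (Set.mem_singleton z)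
  have key : ∀ x : G, x ∈ H.map (MulAut.conj c).toMonoidHom ↔ c⁻¹ * x * c ∈ H := by
    intro x
    constructor
    · rintro ⟨y, hy, rfl⟩
      have : c⁻¹ * (MulAut.conj c).toMonoidHom y * c = y := by
        simp [MulAut.conj_apply, mul_assoc]
      rw [this]; exact hy
    · intro h
      exact ⟨c⁻¹ * x * c, h, by simp [MulAut.conj_apply, mul_assoc]⟩
  rw [Subgroup.mem_normalizer_iff]
  intro x
  rw [key, key]
  have e : c⁻¹ * (z * x * z⁻¹) * c = z * (c⁻¹ * x * c) * z⁻¹ := by
    have h1 : c⁻¹ * z = z * c⁻¹ := by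
      have := congrArg (fun w => c⁻¹ * w * c⁻¹) hcz
      simpa [mul_assoc] using this
    have h2 : z⁻¹ * c = c * z⁻¹ := by
      have := congrArg (fun w => z⁻¹ * w * z⁻¹) hcz
      simpa [mul_assoc] using this.symm
    calc c⁻¹ * (z * x * z⁻¹) * c = (c⁻¹ * z) * x * (z⁻¹ * c) := by group
      _ = (z * c⁻¹) * x * (c * z⁻¹) := by rw [h1, h2]
      _ = z * (c⁻¹ * x * c) * z⁻¹ := by group
  rw [e]
  exact Subgroup.mem_normalizer_iff.mp hz _

/-- Transport of a conjugation of Sylow subgroups of a subgroup `X` to the ambient group. -/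
theorem map_subtype_conj_smul {p : ℕ} {X : Subgroup G} (R : Sylow p X) (c : X) :
    ((MulAut.conj c • R : Sylow p X) : Subgroup X).map X.subtype =
      ((R : Subgroup X).map X.subtype).map (MulAut.conj (c : G)).toMonoidHom := by
  have h1 : ((MulAut.conj c • R : Sylow p X) : Subgroup X) =
      (R : Subgroup X).map (MulAut.conj c).toMonoidHom := rfl
  rw [h1, Subgroup.map_map, Subgroup.map_map]
  congr 1

/-- **Conjugacy of `z`-invariant Sylow `p`-subgroups under `C_G(z)`** (`p` odd). -/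
theorem invariant_sylow_conj_of_zstar {z : G} (hz : OddProd z)
    (hzs : ∀ g : G, z * g * z⁻¹ * g⁻¹ ∈ oddCore G) {p : ℕ} [Fact p.Prime] (hp : p ≠ 2)
    (P Q : Sylow p G) (hP : z ∈ Subgroup.normalizer ((P : Subgroup G) : Set G))
    (hQ : z ∈ Subgroup.normalizer ((Q : Subgroup G) : Set G)) :
    ∃ c ∈ Subgroup.centralizer ({z} : Set G),
      (Q : Subgroup G).map (MulAut.conj c).toMonoidHom = P := by
  have hKn : (oddCore G).Normal := Cfsg.Agent.Lib.Helper1_Cores.pPrimeCore_normal 2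
  set π := QuotientGroup.mk' (oddCore G) with hπ
  have hπs : Function.Surjective π := QuotientGroup.mk'_surjective _
  set X := ((P : Subgroup G).map π).comap π with hX
  have hPX : (P : Subgroup G) ≤ X := Subgroup.le_comap_map _ _
  have hKX : oddCore G ≤ X := by
    intro k hk
    rw [hX, Subgroup.mem_comap]
    have : π k = 1 := (QuotientGroup.eq_one_iff k).mpr hk
    rw [this]; exact Subgroup.one_mem _
  have hXmap : X.map π = (P : Subgroup G).map π := Subgroup.map_comap_eq_self_of_surjective hπs _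
  have hXodd : (Nat.card X).Coprime 2 := by
    apply coprime_two_of_map_isPGroup hp
    rw [← hπ, hXmap]
    exact P.2.map _
  have hzX : z ∈ Subgroup.normalizer (X : Set G) := mem_normalizer_comap_of_zstar hzs _
  have hAX := zpowers_le_normalizer hzX
  -- conjugate `Q` to `P`
  obtain ⟨g, hg⟩ := MulAction.exists_smul_eq G Q P
  have hg' : (Q : Subgroup G).map (MulAut.conj g).toMonoidHom = P := by
    have := congrArg (fun S : Sylow p G => (S : Subgroup G)) hg
    exact this
  obtain ⟨k, hk, hc'⟩ := exists_core_mul_centralizer hz hzs g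
  set c' := k⁻¹ * g with hc'def
  set Q' := (Q : Subgroup G).map (MulAut.conj c').toMonoidHom with hQ'
  have hzQ' : z ∈ Subgroup.normalizer (Q' : Set G) := mem_normalizer_map_conj hc' hQ
  have hQ'P : Q'.map (MulAut.conj k).toMonoidHom = P := by
    rw [hQ', Subgroup.map_map, ← hg']
    congr 1
    ext x
    simp only [MonoidHom.comp_apply, MulEquiv.coe_toMonoidHom, MulAut.conj_apply, hc'def]
    group
  have hQ'X : Q' ≤ X := by
    intro x hx
    have h1 : k * x * k⁻¹ ∈ (P : Subgroup G) := by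
      rw [← hQ'P]
      exact ⟨x, hx, by simp [MulAut.conj_apply]⟩
    have h2 : x = k⁻¹ * (k * x * k⁻¹) * k := by group
    rw [h2]
    exact X.mul_mem (X.mul_mem (X.inv_mem (hKX hk)) (hPX h1)) (hKX hk)
  -- `Q'` is a Sylow subgroup
  have hQ'syl : ∃ Q'' : Sylow p G, (Q'' : Subgroup G) = Q' := ⟨c' • Q, rfl⟩
  obtain ⟨Q'', hQ''⟩ := hQ'syl
  have hQ''X : (Q'' : Subgroup G) ≤ X := hQ''.symm ▸ hQ'X
  set R₁ := P.subtype hPX with hR₁
  set R₂ := Q''.subtype hQ''X with hR₂
  have hR₁map : (R₁ : Subgroup X).map X.subtype = P := by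
    rw [hR₁, Sylow.coe_subtype, Subgroup.map_subgroupOf_eq_of_le hPX]
  have hR₂map : (R₂ : Subgroup X).map X.subtype = Q' := by
    rw [hR₂, Sylow.coe_subtype, Subgroup.map_subgroupOf_eq_of_le hQ''X, hQ'']
  obtain ⟨c, hcA, hcR⟩ := Cfsg.Agent.Lib.Helper1_Coprime.invariant_sylow_conj (Subgroup.zpowers z) X
    hAX (coprime_zpowers hz.1 hXodd) (Or.inl (isSolvable_zpowers z)) p R₂ R₁
    (by rw [hR₂map]; exact zpowers_le_normalizer hzQ')
    (by rw [hR₁map]; exact zpowers_le_normalizer hP)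
  have hcz : (c : G) ∈ Subgroup.centralizer ({z} : Set G) := by
    rw [Subgroup.mem_centralizer_iff]
    intro x hx
    rw [Set.mem_singleton_iff] at hx
    rw [hx]
    exact Subgroup.mem_centralizer_iff.mp hcA z (Subgroup.mem_zpowers z)
  refine ⟨(c : G) * c', Subgroup.mul_mem _ hcz hc', ?_⟩
  have h3 := map_subtype_conj_smul R₂ c
  rw [hcR, hR₁map, hR₂map, hQ', Subgroup.map_map] at h3
  rw [h3]
  congr 1
  ext x
  simp only [MonoidHom.comp_apply, MulEquiv.coe_toMonoidHom, MulAut.conj_apply]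
  group

/-- `z`-invariance passes from a subgroup of `↥H` to its image in `G`. -/
theorem mem_normalizer_map_subtype {H : Subgroup G} {z : G} (hzH : z ∈ H) (T₀ : Subgroup H)
    (hz : (⟨z, hzH⟩ : H) ∈ Subgroup.normalizer (T₀ : Set H)) :
    z ∈ Subgroup.normalizer ((T₀.map H.subtype : Subgroup G) : Set G) := by
  rw [Subgroup.mem_normalizer_iff]
  intro x
  constructor
  · rintro ⟨y, hy, rfl⟩
    exact ⟨⟨z, hzH⟩ * y * ⟨z, hzH⟩⁻¹, (Subgroup.mem_normalizer_iff.mp hz y).mp hy, rfl⟩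
  · rintro ⟨y, hy, hyx⟩
    refine ⟨⟨z, hzH⟩⁻¹ * y * ⟨z, hzH⟩, ?_, ?_⟩
    · apply (Subgroup.mem_normalizer_iff.mp hz _).mpr
      have : (⟨z, hzH⟩ : H) * (⟨z, hzH⟩⁻¹ * y * ⟨z, hzH⟩) * ⟨z, hzH⟩⁻¹ = y := by group
      rw [this]; exact hy
    · show z⁻¹ * (y : G) * z = x
      have : (y : G) = z * x * z⁻¹ := hyx
      rw [this]; group

/-- **A maximal `z`-invariant `p`-subgroup is a Sylow `p`-subgroup** (`p` odd, `z` an isolated
involution). -/
theorem sylow_of_maximal_invariant (hBS : BrauerSuzukiHyp.{u}) {z : G} (hz : OddProd z)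
    {p : ℕ} [Fact p.Prime] (hp : p ≠ 2) (Q : Subgroup G) (hQ : IsPGroup p Q)
    (hzQ : z ∈ Subgroup.normalizer (Q : Set G))
    (hmax : ∀ R : Subgroup G, IsPGroup p R → z ∈ Subgroup.normalizer (R : Set G) → Q ≤ R → R = Q) :
    ∃ P : Sylow p G, (P : Subgroup G) = Q := by
  set H := Subgroup.normalizer (Q : Set G) with hH
  have hz' : OddProd (⟨z, hzQ⟩ : H) := hz.subgroup H hzQ
  have hzs' : ∀ g : H, (⟨z, hzQ⟩ : H) * g * (⟨z, hzQ⟩ : H)⁻¹ * g⁻¹ ∈ oddCore H :=
    fun g => zstar_of_brauerSuzuki hBS hz' g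
  obtain ⟨T₀, hT₀⟩ := exists_invariant_sylow_of_zstar hz' hzs' hp
  set T := (T₀ : Subgroup H).map H.subtype with hT
  have hTp : IsPGroup p T := T₀.2.map _
  have hzT : z ∈ Subgroup.normalizer (T : Set G) := mem_normalizer_map_subtype hzQ _ hT₀
  have hQn : (Q.comap H.subtype).Normal := Subgroup.normal_in_normalizer
  have hQle : Q.subgroupOf H ≤ T₀ :=
    IsPGroup.le_sylow_of_normal (hQ.comap_subtype (K := H)) T₀
  have hQT : Q ≤ T := by
    rw [← Subgroup.map_subgroupOf_eq_of_le (Subgroup.le_normalizer : Q ≤ H)]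
    exact Subgroup.map_mono hQle
  have hTQ : T = Q := hmax T hTp hzT hQT
  have hsyl := Cfsg.Agent.Lib.Helper48_SPE.isSylowIn_map_subtype T₀
  rw [← hT, hTQ] at hsyl
  exact Cfsg.Agent.Lib.Helper48_SPE.exists_sylow_eq_of_isSylowIn_normalizer hsyl

/-- **Every `z`-invariant `p`-subgroup lies in a `z`-invariant Sylow `p`-subgroup** (`p` odd). -/
theorem exists_invariant_sylow_ge (hBS : BrauerSuzukiHyp.{u}) {z : G} (hz : OddProd z)
    {p : ℕ} [Fact p.Prime] (hp : p ≠ 2) (U : Subgroup G) (hU : IsPGroup p U)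
    (hzU : z ∈ Subgroup.normalizer (U : Set G)) :
    ∃ P : Sylow p G, z ∈ Subgroup.normalizer ((P : Subgroup G) : Set G) ∧ U ≤ P := by
  let 𝒮 : Set (Subgroup G) := {R | IsPGroup p R ∧ z ∈ Subgroup.normalizer (R : Set G)}
  have hU𝒮 : U ∈ 𝒮 := ⟨hU, hzU⟩
  obtain ⟨Q, hUQ, hQmax⟩ := (Set.toFinite 𝒮).exists_le_maximal hU𝒮
  obtain ⟨P, hP⟩ := sylow_of_maximal_invariant hBS hz hp Q hQmax.prop.1 hQmax.prop.2
    (fun R hR hzR hQR => le_antisymm (hQmax.le_of_ge ⟨hR, hzR⟩ hQR) hQR)
  exact ⟨P, hP ▸ hQmax.prop.2, hP ▸ hUQ⟩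

/-- **`C_P(z)` is a Sylow `p`-subgroup of `C_G(z)`** for a `z`-invariant Sylow `p`-subgroup `P`
(`p` odd, `z` an isolated involution). -/
theorem not_dvd_relIndex_centralizer (hBS : BrauerSuzukiHyp.{u}) {z : G} (hz : OddProd z)
    {p : ℕ} [Fact p.Prime] (hp : p ≠ 2) (P : Sylow p G)
    (hzP : z ∈ Subgroup.normalizer ((P : Subgroup G) : Set G)) :
    ¬ p ∣ ((P : Subgroup G) ⊓ Subgroup.centralizer ({z} : Set G)).relIndex
      (Subgroup.centralizer ({z} : Set G)) := by
  set C := Subgroup.centralizer ({z} : Set G) with hC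
  have hzs : ∀ g : G, z * g * z⁻¹ * g⁻¹ ∈ oddCore G := fun g => zstar_of_brauerSuzuki hBS hz g
  have hPCp : IsPGroup p (((P : Subgroup G) ⊓ C).subgroupOf C) :=
    (P.2.to_le inf_le_left).comap_subtype (K := C)
  obtain ⟨T, hT⟩ := hPCp.exists_le_sylow
  set T' := (T : Subgroup C).map C.subtype with hT'
  have hT'C : T' ≤ C := Subgroup.map_subtype_le _
  have hT'p : IsPGroup p T' := T.2.map _
  have hPCT' : (P : Subgroup G) ⊓ C ≤ T' := by
    rw [← Subgroup.map_subgroupOf_eq_of_le (inf_le_right : (P : Subgroup G) ⊓ C ≤ C)]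
    exact Subgroup.map_mono hT
  have hzT' : z ∈ Subgroup.normalizer (T' : Set G) := by
    rw [Subgroup.mem_normalizer_iff]
    intro x
    have key : ∀ y ∈ T', z * y * z⁻¹ = y := by
      intro y hy
      have := Subgroup.mem_centralizer_iff.mp (hT'C hy) z (Set.mem_singleton z)
      rw [this]; group
    constructor
    · intro hx; rw [key x hx]; exact hx
    · intro hx
      have h1 := key _ hx
      have h3 : z * x * z⁻¹ = x := by
        have := congrArg (fun w => z⁻¹ * w * z) h1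
        simpa [mul_assoc] using this
      rw [← h3]; exact hx
  obtain ⟨Q, hzQ, hT'Q⟩ := exists_invariant_sylow_ge hBS hz hp T' hT'p hzT'
  obtain ⟨c, hc, hcQ⟩ := invariant_sylow_conj_of_zstar hz hzs hp P Q hzP hzQ
  have hle : T'.map (MulAut.conj c).toMonoidHom ≤ (P : Subgroup G) ⊓ C := by
    apply le_inf
    · rw [← hcQ]; exact Subgroup.map_mono hT'Q
    · rintro _ ⟨y, hy, rfl⟩
      exact C.mul_mem (C.mul_mem hc (hT'C hy)) (C.inv_mem hc)
  have hcard : Nat.card T' ≤ Nat.card ((P : Subgroup G) ⊓ C : Subgroup G) := by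
    have h1 : Nat.card (T'.map (MulAut.conj c).toMonoidHom) = Nat.card T' :=
      Subgroup.card_map_of_injective (MulAut.conj c).injective
    rw [← h1]
    exact Subgroup.card_le_of_le hle
  have heq : (P : Subgroup G) ⊓ C = T' := Subgroup.eq_of_le_of_card_ge hPCT' hcard
  have heq' : ((P : Subgroup G) ⊓ C).subgroupOf C = T := by
    apply Subgroup.map_injective C.subtype_injective
    rw [Subgroup.map_subgroupOf_eq_of_le (inf_le_right : (P : Subgroup G) ⊓ C ≤ C), heq]
  have : ((P : Subgroup G) ⊓ C).relIndex C = (T : Subgroup C).index := by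
    rw [Subgroup.relIndex, heq']
  rw [this]
  exact T.not_dvd_index

end

section Counting

variable {G : Type*} [Group G]

/-- The commutator `x z x⁻¹ z⁻¹`. -/
def wInv (z x : G) : G := x * z * x⁻¹ * z⁻¹

theorem wInv_conj {z : G} (hz : orderOf z = 2) (x : G) :
    z * wInv z x * z⁻¹ = (wInv z x)⁻¹ := by
  have hzi := inv_eq_self_of_orderOf_two hz
  have hzz := mul_self_of_orderOf_two hz
  unfold wInv
  have h1 : (x * z * x⁻¹ * z⁻¹)⁻¹ = z * x * z⁻¹ * x⁻¹ := by group
  rw [h1, hzi]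
  calc z * (x * z * x⁻¹ * z) * z = z * x * z * x⁻¹ * (z * z) := by group
    _ = z * x * z * x⁻¹ := by rw [hzz, mul_one]

theorem wInv_mem {z : G} (_hz : orderOf z = 2) {P : Subgroup G}
    (hzP : z ∈ Subgroup.normalizer (P : Set G)) {x : G} (hx : x ∈ P) : wInv z x ∈ P := by
  unfold wInv
  have h1 : z * x⁻¹ * z⁻¹ ∈ P := (Subgroup.mem_normalizer_iff.mp hzP _).mp (P.inv_mem hx)
  have : x * z * x⁻¹ * z⁻¹ = x * (z * x⁻¹ * z⁻¹) := by group
  rw [this]
  exact P.mul_mem hx h1

/-- If `k` is inverted by `z` and `c` commutes with `z` then `wInv z (k c) = k²`. -/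
theorem wInv_mul {z k c : G} (hk : z * k * z⁻¹ = k⁻¹) (hc : z * c = c * z) :
    wInv z (k * c) = k ^ 2 := by
  unfold wInv
  have h1 : c * z * c⁻¹ = z := by rw [← hc]; group
  have h2 : z * k⁻¹ * z⁻¹ = k := by
    have := congrArg (fun w => w⁻¹) hk
    simp only [mul_inv_rev, inv_inv] at this
    rw [mul_assoc]; exact this
  calc k * c * z * (k * c)⁻¹ * z⁻¹ = k * (c * z * c⁻¹) * k⁻¹ * z⁻¹ := by group
    _ = k * z * k⁻¹ * z⁻¹ := by rw [h1]
    _ = k * (z * k⁻¹ * z⁻¹) := by group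
    _ = k ^ 2 := by rw [h2, pow_two]

variable [Finite G]

/-- **An involution acting on a subgroup of odd order**: `|P| = |I| |C_P(z)|` where `I` is the
set of elements of `P` inverted by `z`. -/
theorem card_eq_card_inverted_mul_card_centralizer {z : G} (hz : orderOf z = 2) (P : Subgroup G)
    (hodd : Odd (Nat.card P)) (hzP : z ∈ Subgroup.normalizer (P : Set G)) :
    Nat.card P = Nat.card {x : G // x ∈ P ∧ z * x * z⁻¹ = x⁻¹} *
      Nat.card ((P ⊓ Subgroup.centralizer ({z} : Set G) : Subgroup G)) := by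
  obtain ⟨e', he'⟩ := hodd
  set e := e' + 1 with he
  have hN : ∀ y ∈ P, y ^ Nat.card P = 1 := by
    intro y hy
    have : (⟨y, hy⟩ : P) ^ Nat.card P = 1 := pow_card_eq_one'
    exact congrArg Subtype.val this
  have hsq : ∀ y ∈ P, (y ^ e) ^ 2 = y := by
    intro y hy
    rw [← pow_mul, show e * 2 = Nat.card P + 1 by omega, pow_succ, hN y hy, one_mul]
  have hsq' : ∀ y ∈ P, (y ^ 2) ^ e = y := by
    intro y hy
    rw [← pow_mul, show 2 * e = Nat.card P + 1 by omega, pow_succ, hN y hy, one_mul]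
  have hzi := inv_eq_self_of_orderOf_two hz
  -- the square root of the commutator
  let κ : G → G := fun x => (wInv z x) ^ e
  have hκmem : ∀ x ∈ P, κ x ∈ P := fun x hx => P.pow_mem (wInv_mem hz hzP hx) _
  have hκinv : ∀ x : G, z * κ x * z⁻¹ = (κ x)⁻¹ := by
    intro x
    show z * (wInv z x) ^ e * z⁻¹ = ((wInv z x) ^ e)⁻¹
    rw [← conj_pow, wInv_conj hz, inv_pow]
  have hκsq : ∀ x ∈ P, (κ x) ^ 2 = wInv z x := fun x hx => hsq _ (wInv_mem hz hzP hx)
  have hκC : ∀ x ∈ P, z * ((κ x)⁻¹ * x) = (κ x)⁻¹ * x * z := by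
    intro x hx
    have h1 : z * (κ x)⁻¹ * z⁻¹ = κ x := by
      have := congrArg (fun w => w⁻¹) (hκinv x)
      simp only [mul_inv_rev, inv_inv] at this
      rw [mul_assoc]; exact this
    have h2 : κ x * κ x = x * z * x⁻¹ * z⁻¹ := by
      have := hκsq x hx
      rw [pow_two] at this
      exact this
    -- z κ⁻¹ x = κ z x  and κ⁻¹ x z = κ⁻¹ (κ κ z x) ...
    have h3 : z * (κ x)⁻¹ = κ x * z := by
      have := congrArg (fun w => w * z) h1
      simpa [mul_assoc] using this
    have h4 : x * z = κ x * κ x * z * x := by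
      rw [h2]; group
    calc z * ((κ x)⁻¹ * x) = (z * (κ x)⁻¹) * x := by group
      _ = κ x * z * x := by rw [h3]
      _ = (κ x)⁻¹ * (κ x * κ x * z * x) := by group
      _ = (κ x)⁻¹ * (x * z) := by rw [← h4]
      _ = (κ x)⁻¹ * x * z := by group
  have hκC' : ∀ x ∈ P, (κ x)⁻¹ * x ∈ Subgroup.centralizer ({z} : Set G) := by
    intro x hx
    rw [Subgroup.mem_centralizer_iff]
    intro y hy
    rw [Set.mem_singleton_iff] at hy
    rw [hy]
    exact hκC x hx
  rw [← Nat.card_prod]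
  refine Nat.card_congr
    { toFun := fun x => (⟨κ x, hκmem x x.2, hκinv x⟩,
        ⟨(κ x)⁻¹ * x, Subgroup.mem_inf.mpr
          ⟨P.mul_mem (P.inv_mem (hκmem x x.2)) x.2, hκC' x x.2⟩⟩)
      invFun := fun kc => ⟨kc.1.1 * kc.2.1,
        P.mul_mem kc.1.2.1 (Subgroup.mem_inf.mp kc.2.2).1⟩
      left_inv := ?_
      right_inv := ?_ }
  · intro x
    apply Subtype.ext
    show κ x * ((κ x)⁻¹ * x) = x
    group
  · rintro ⟨⟨k, hkP, hkz⟩, ⟨c, hcPC⟩⟩
    have hcP : c ∈ P := (Subgroup.mem_inf.mp hcPC).1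
    have hcz : z * c = c * z :=
      Subgroup.mem_centralizer_iff.mp (Subgroup.mem_inf.mp hcPC).2 z (Set.mem_singleton z)
    have hκk : κ (k * c) = k := by
      show (wInv z (k * c)) ^ e = k
      rw [wInv_mul hkz hcz]
      exact hsq' k hkP
    apply Prod.ext
    · apply Subtype.ext
      exact hκk
    · apply Subtype.ext
      show (κ (k * c))⁻¹ * (k * c) = c
      rw [hκk]; group

end Counting

end Cfsg.Agent.Lib.Helper23_ZStarD
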