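import Cfsg.Agent.Lib.Helper23_BG13Hyp
import Cfsg.Agent.Lib.Helper31_BG13b
import Cfsg.Agent.Lib.Helper53_BG16b
import Cfsg.Agent.Lib.Helper97_BG1211f
import Cfsg.Agent.Lib.Helper49_SigmaDisjoint
import Cfsg.Agent.Lib.Helper52_BG12a
import Cfsg.Agent.S1350

/-!
# Bender–Glauberman Theorem 14.2, piece PB ("Case B core") of helper23's skeleton (helper24)

`M` a maximal subgroup of a minimal simple group of odd order, `E` a complement of `M_σ` in `M`,
`K ≤ E` a Hall `κ(M)`-subgroup of `M`.  In "Case B" (some subgroup of `E` of prime order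
`r ∈ τ₃(M)` centralizes a non-identity element of `M_σ`), assuming `F2 G` (B-G 13.11/13.13):
`K = E`, `E` acts in a prime manner on `M_σ`, no prime outside `κ(M) ∪ σ(M)` divides `|M|`,
subgroups of prime order of `K` are normal in `E` and unique of their order.
-/

set_option autoImplicit false

namespace Cfsg.Agent.Lib.Helper24_BG142b

open Subgroup Cfsg Cfsg.Agent.Lib.Helper23_BG13Hyp

universe u

variable {G : Type u} [Group G] [Finite G]

omit [Finite G] in
/-- in Case B, with `F2`: `C_{M_σ}(E) ≠ 1`. -/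
theorem cent_ne_bot {M E R : Subgroup G} (hRE : R ≤ E) (hR1 : R ≠ ⊥)
    (hcent : ∀ x ∈ E, x ≠ 1 → sigmaCore M ⊓ centralizer ({x} : Set G) =
      sigmaCore M ⊓ centralizer (E : Set G))
    (hRne : sigmaCore M ⊓ centralizer (R : Set G) ≠ ⊥) :
    sigmaCore M ⊓ centralizer (E : Set G) ≠ ⊥ := by
  obtain ⟨x, hx1⟩ := (Subgroup.ne_bot_iff_exists_ne_one).mp hR1
  have hx1' : (x : G) ≠ 1 := fun h => hx1 (Subtype.ext h)
  have h1 := hcent (x : G) (hRE x.2) hx1'
  intro hbot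
  apply hRne
  rw [eq_bot_iff, ← hbot, ← h1]
  apply inf_le_inf_left
  apply Subgroup.centralizer_le
  intro z hz
  rw [Set.mem_singleton_iff] at hz
  rw [hz]
  exact x.2

/-- in Case B, with `F2` and `τ₂(M) = ∅`: every prime dividing `|E|` lies in `κ(M)`. -/
theorem mem_kappa_of_dvd_card (hG : IsMinSimpleOddOrder G) {M E : Subgroup G} (hM : IsCoatom M)
    (hE : IsComplIn E (sigmaCore M) M) (hR0 : ∀ p, p ∉ tau2 M)
    (hC : sigmaCore M ⊓ centralizer (E : Set G) ≠ ⊥) {p : ℕ} (hp : p.Prime)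
    (hdvd : p ∣ Nat.card E) : p ∈ kappa M := by
  have : Fact p.Prime := ⟨hp⟩
  have hU := Cfsg.Agent.Lib.Helper49_SigmaDisjoint.uniqHyp hG
  have hmem : p ∉ sigma M ∧ PRankLE p 1 ↥M := by
    rcases Cfsg.Agent.Lib.Helper97_BG1211f.mem_tau_of_dvd_card hG hU hM hE hp hdvd with (h | h) | h
    · exact ⟨h.2.1, h.2.2.2.2⟩
    · exact ⟨h.2.1, h.2.2.2⟩
    · exact absurd h (hR0 p)
  obtain ⟨e, he⟩ := exists_prime_orderOf_dvd_card' p hdvd
  obtain ⟨y, hy1⟩ := (Subgroup.ne_bot_iff_exists_ne_one).mp hC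
  have hy1' : (y : G) ≠ 1 := fun h => hy1 (Subtype.ext h)
  have hyc : (e : G) * (y : G) = (y : G) * (e : G) :=
    (Subgroup.mem_centralizer_iff.mp y.2.2 (e : G) e.2)
  have hoe : orderOf (e : G) = p := by rw [Subgroup.orderOf_coe]; exact he
  exact Cfsg.Agent.Lib.Helper53_BG16b.mem_kappa_of_centralizing hG hmem.1 hmem.2
    (hE.1 e.2) (by rw [hoe]) y.2.1 hy1' hyc

/-- **Piece PB**, with the Case B hypothesis unfolded (it is definitionally `CaseB M E` of the skeleton). -/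
theorem caseB_core (hG : IsMinSimpleOddOrder G) (hF2 : F2 G) {M E K : Subgroup G}
    (hM : IsCoatom M) (hE : IsComplIn E (sigmaCore M) M) (hK : IsPiHallOf (kappa M) K M)
    (hKE : K ≤ E)
    (hB : ∃ r ∈ tau3 M, ∃ R : Subgroup G, R ≤ E ∧ Nat.card R = r ∧
      sigmaCore M ⊓ centralizer (R : Set G) ≠ ⊥) :
    K = E ∧
    (∀ k ∈ K, k ≠ 1 → sigmaCore M ⊓ centralizer ({k} : Set G) = sigmaCore M ⊓ centralizer (K : Set G)) ∧
    IsPiHallOf {q | q.Prime ∧ q ∉ kappa M ∧ q ∉ sigma M} (⊥ : Subgroup G) M ∧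
    (∀ X : Subgroup G, X ≤ K → (Nat.card X).Prime → E ≤ normalizer (X : Set G)) ∧
    (∀ (t : ℕ) (X X' : Subgroup G), X ≤ K → X' ≤ K → Nat.card X = t → Nat.card X' = t → t.Prime → X = X') := by
  have hR0 := Cfsg.Agent.Lib.Helper31_BG13b.tau2_empty_of_caseB hG hM hE hB
  obtain ⟨r, hr, R, hRE, hRc, hRne⟩ := hB
  obtain ⟨hcent, hnorm⟩ := hF2 M hM E hE r hr R hRE hRc hRne
  have hR1 : R ≠ ⊥ := by
    intro h
    rw [h, Subgroup.card_bot] at hRc
    exact hr.1.one_lt.ne hRc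
  have hC := cent_ne_bot hRE hR1 hcent hRne
  have hκ : ∀ p : ℕ, p.Prime → p ∣ Nat.card E → p ∈ kappa M :=
    fun p hp hd => mem_kappa_of_dvd_card hG hM hE hR0 hC hp hd
  -- K = E
  have hKeq : K = E := by
    apply le_antisymm hKE
    rw [← Subgroup.relIndex_eq_one]
    by_contra hne
    obtain ⟨p, hp, hpd⟩ := Nat.exists_prime_and_dvd hne
    have hpE : p ∣ Nat.card E := hpd.trans (Subgroup.relIndex_dvd_card K E)
    have h1 := hK.2.2 p hp (hκ p hp hpE)
    apply h1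
    rw [← Subgroup.relIndex_mul_relIndex K E M hKE hE.1]
    exact hpd.mul_right _
  subst hKeq
  refine ⟨rfl, hcent, ⟨bot_le, ?_, ?_⟩, fun X hXK hX => hnorm X hXK hX, ?_⟩
  · intro p hp hd
    rw [Subgroup.card_bot] at hd
    exact absurd (Nat.dvd_one.mp hd) hp.one_lt.ne'
  · intro q hq hqmem hd
    rw [Subgroup.relIndex_bot_left, Cfsg.Agent.Lib.Helper53_BG16.card_of_isComplIn hE] at hd
    rcases (Nat.Prime.dvd_mul hq).mp hd with h | h
    · exact hqmem.2.1 (hκ q hq h)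
    · exact hqmem.2.2 ((Cfsg.Agent.S1350.result hG M hM).1.2.1 q hq h)
  · intro t X X' hXK hX'K hXc hX'c ht
    have : Fact t.Prime := ⟨ht⟩
    have hXp : IsPGroup t ↥X := IsPGroup.of_card (n := 1) (by rw [hXc, pow_one])
    have hX'p : IsPGroup t ↥X' := IsPGroup.of_card (n := 1) (by rw [hX'c, pow_one])
    have hX1 : X ≠ ⊥ := by
      intro h
      rw [h, Subgroup.card_bot] at hXc
      exact ht.one_lt.ne hXc
    have ht2 : t ≠ 2 := Cfsg.Agent.Lib.Helper52_BG12a.ne_two_of_isPGroup hG hXp hX1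
    have hN : X ≤ normalizer (X' : Set G) := hXK.trans (hnorm X' hX'K (by rw [hX'c]; exact ht))
    have hAp : IsPGroup t ↥(X ⊔ X') := IsPGroup.to_sup_of_normal_right' hXp hX'p hN
    have hAM : X ⊔ X' ≤ M := sup_le (hXK.trans hE.1) (hX'K.trans hE.1)
    have htE : t ∣ Nat.card K := by
      rw [← hXc]
      exact Subgroup.card_dvd_of_le hXK
    have hU := Cfsg.Agent.Lib.Helper49_SigmaDisjoint.uniqHyp hG
    have hrk : PRankLE t 1 ↥M := by
      rcases Cfsg.Agent.Lib.Helper97_BG1211f.mem_tau_of_dvd_card hG hU hM hE ht htE with (h | h) | h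
      · exact h.2.2.2.2
      · exact h.2.2.2
      · exact absurd h (hR0 t)
    have hrkA : PRankLE t 1 ↥(X ⊔ X') :=
      Cfsg.Agent.Lib.Helper2_PRank.pRankLE_of_injective' t 1 (Subgroup.inclusion hAM)
        (Subgroup.inclusion_injective hAM) hrk
    have hcyc : IsCyclic ↥(X ⊔ X') :=
      Cfsg.Agent.Lib.Helper29_BG12a.isCyclic_of_pRankLE_one ht2 hAp hrkA
    exact Cfsg.Agent.Lib.Helper52_BG12a.eq_of_card_eq_of_isCyclic (P := X ⊔ X') le_sup_left le_sup_right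
      (by rw [hXc, hX'c])

end Cfsg.Agent.Lib.Helper24_BG142b
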