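import Cfsg.Agent.Lib.Helper77_BRDefs
import Cfsg.Agent.S0732
import Cfsg.Agent.Lib.Helper50_S4504_D
import Cfsg.Agent.Lib.Helper29_EqOrd_EOC

/-!
# Brauer-Reynolds (`|G| < p^3`), package N1 (for helper77, S0999 / S4701)

A non-cyclic simple group `G` of order `< p ^ 3` with a Sylow `p`-subgroup of order `p ≥ 5` and
exactly `p + 1` Sylow `p`-subgroups is `PSL(2,p)`: the conjugation action on the `p + 1` Sylow
subgroups is faithful and transitive, of order `(p+1) p d` with `d < p`, and the landed S0732 leaves
`PGL(2,p)` (not perfect), `PSL(2,p)` and subgroups of the semiaffine group of `GF(2^q)`, which is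
solvable (`isSolvable_semiaffine`: translations, scalars, field automorphisms).
-/

set_option autoImplicit false

namespace Cfsg.Agent.Lib.Helper24_BR_N1

open Cfsg Cfsg.Agent.Lib.Helper80_CharBasic Cfsg.Agent.Lib.Helper77_BRDefs
open scoped ComplexConjugate
open Equiv (Perm)
open scoped commutatorElement

section Semiaffine

variable {R : Type*} [CommRing R]

theorem semiaffine_data_unique {a a' : Rˣ} {b b' : R} {φ φ' : R ≃+* R}
    (h : ∀ x, (a : R) * φ x + b = (a' : R) * φ' x + b') : a = a' ∧ b = b' ∧ φ = φ' := by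
  have hb : b = b' := by simpa using h 0
  have ha : a = a' := by
    have h1 := h 1
    simp only [map_one, mul_one, hb, add_left_inj] at h1
    exact Units.ext h1
  refine ⟨ha, hb, ?_⟩
  subst ha hb
  ext x
  have h1 := h x
  simpa using h1

theorem exists_data (σ : Cfsg.semiaffineGroup R) : ∃ t : Rˣ × R × (R ≃+* R),
    ∀ x, (σ : Perm R) x = (t.1 : R) * t.2.2 x + t.2.1 := by
  obtain ⟨σ, a, b, φ, h⟩ := σ
  exact ⟨(a, b, φ), h⟩

/-- chosen data `(a, b, φ)` of a semiaffine map -/
noncomputable def dat (σ : Cfsg.semiaffineGroup R) : Rˣ × R × (R ≃+* R) :=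
  Classical.choose (exists_data σ)

theorem dat_spec (σ : Cfsg.semiaffineGroup R) (x : R) :
    (σ : Perm R) x = ((dat σ).1 : R) * (dat σ).2.2 x + (dat σ).2.1 :=
  Classical.choose_spec (exists_data σ) x

theorem dat_mul (σ τ : Cfsg.semiaffineGroup R) :
    (dat (σ * τ)).1 = (dat σ).1 * Units.map ((dat σ).2.2 : R →* R) (dat τ).1 ∧
    (dat (σ * τ)).2.2 = ((dat σ).2.2 : RingAut R) * ((dat τ).2.2 : RingAut R) := by
  have h : ∀ x, ((dat (σ * τ)).1 : R) * (dat (σ * τ)).2.2 x + (dat (σ * τ)).2.1 =
      (((dat σ).1 * Units.map ((dat σ).2.2 : R →* R) (dat τ).1 : Rˣ) : R) *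
        (((dat σ).2.2 : RingAut R) * ((dat τ).2.2 : RingAut R) : RingAut R) x +
        (((dat σ).1 : R) * (dat σ).2.2 (dat τ).2.1 + (dat σ).2.1) := by
    intro x
    rw [← dat_spec (σ * τ) x]
    show (σ : Perm R) ((τ : Perm R) x) = _
    rw [dat_spec τ x, dat_spec σ]
    simp only [map_add, map_mul, Units.val_mul, Units.coe_map, MonoidHom.coe_coe, RingAut.mul_apply]
    ring
  obtain ⟨h1, _, h3⟩ := semiaffine_data_unique h
  exact ⟨h1, h3⟩

/-- the automorphism part -/
noncomputable def autHom : Cfsg.semiaffineGroup R →* RingAut R :=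
  MonoidHom.mk' (fun σ => (dat σ).2.2) (fun σ τ => (dat_mul σ τ).2)

theorem autHom_apply (σ : Cfsg.semiaffineGroup R) : autHom σ = (dat σ).2.2 := rfl

/-- the unit part on the kernel of `autHom` -/
noncomputable def unitHom : (autHom (R := R)).ker →* Rˣ :=
  MonoidHom.mk' (fun σ => (dat (σ : Cfsg.semiaffineGroup R)).1) (by
    intro σ τ
    have h := (dat_mul (σ : Cfsg.semiaffineGroup R) (τ : Cfsg.semiaffineGroup R)).1
    have hσ : (dat (σ : Cfsg.semiaffineGroup R)).2.2 = (1 : RingAut R) := σ.2
    rw [Subgroup.coe_mul, h]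
    congr 1
    ext
    simp [hσ])

theorem isSolvable_semiaffine [Group.IsSolvable (RingAut R)] : Group.IsSolvable (Cfsg.semiaffineGroup R) := by
  have h2 : Group.IsSolvable (unitHom (R := R)).ker := by
    apply Group.isSolvable_of_comm
    intro σ τ
    apply Subtype.ext
    apply Subtype.ext
    apply Subtype.ext
    apply Equiv.ext
    intro x
    have key : ∀ ρ : (unitHom (R := R)).ker, ∀ y : R,
        (((ρ : (autHom (R := R)).ker) : Cfsg.semiaffineGroup R) : Perm R) y =
          y + (dat ((ρ : (autHom (R := R)).ker) : Cfsg.semiaffineGroup R)).2.1 := by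
      intro ρ y
      have h1 : (dat ((ρ : (autHom (R := R)).ker) : Cfsg.semiaffineGroup R)).2.2 = (1 : RingAut R) :=
        (ρ : (autHom (R := R)).ker).2
      have h2 : (dat ((ρ : (autHom (R := R)).ker) : Cfsg.semiaffineGroup R)).1 = 1 := ρ.2
      rw [dat_spec, h1, h2]
      simp
    show (((σ : (autHom (R := R)).ker) : Cfsg.semiaffineGroup R) : Perm R)
        ((((τ : (autHom (R := R)).ker) : Cfsg.semiaffineGroup R) : Perm R) x) =
      (((τ : (autHom (R := R)).ker) : Cfsg.semiaffineGroup R) : Perm R)
        ((((σ : (autHom (R := R)).ker) : Cfsg.semiaffineGroup R) : Perm R) x)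
    rw [key τ x, key σ, key σ x, key τ]
    ring
  have h1 : Group.IsSolvable (autHom (R := R)).ker :=
    Group.isSolvable_of_ker_le_range (unitHom (R := R)).ker.subtype (unitHom (R := R))
      (by rw [Subgroup.range_subtype])
  exact Group.isSolvable_of_ker_le_range (autHom (R := R)).ker.subtype (autHom (R := R))
    (by rw [Subgroup.range_subtype])

end Semiaffine

universe u

variable {G : Type u} [Group G] [Fintype G] {p : ℕ} [hp : Fact p.Prime]

omit [Fintype G] hp in
theorem isCyclic_of_comm [IsSimpleGroup G] (h : ∀ a b : G, a * b = b * a) : IsCyclic G := by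
  let _ : CommGroup G := { (inferInstance : Group G) with mul_comm := h }
  exact IsSimpleGroup.isCyclic

theorem N1 [IsSimpleGroup G] (hnc : ¬ IsCyclic G) (h5 : 5 ≤ p) (P : Sylow p G)
    (hP : Nat.card P = p) (hS : Nat.card (Sylow p G) = 1 + 1 * p) (hbig : Nat.card G < p ^ 3) :
    Nonempty (G ≃* Matrix.ProjectiveSpecialLinearGroup (Fin 2) (ZMod p)) := by
  classical
  have hpp : p.Prime := hp.out
  have hncomm : ¬ ∀ a b : G, a * b = b * a := fun h => hnc (isCyclic_of_comm h)
  have hperf : commutator G = ⊤ := by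
    have hn : (commutator G).Normal := inferInstance
    rcases hn.eq_bot_or_eq_top with h | h
    · exfalso
      apply hncomm
      intro a b
      have h1 : ⁅a, b⁆ ∈ commutator G :=
        Subgroup.commutator_mem_commutator (Subgroup.mem_top a) (Subgroup.mem_top b)
      rw [h, Subgroup.mem_bot] at h1
      exact commutatorElement_eq_one_iff_mul_comm.1 h1
    · exact h
  let φ : G →* Perm (Sylow p G) := MulAction.toPermHom G (Sylow p G)
  have hφ : ∀ (g : G) (Q : Sylow p G), φ g Q = g • Q := fun g Q => rfl
  have hφinj : Function.Injective φ := by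
    rw [← MonoidHom.ker_eq_bot_iff]
    rcases (inferInstance : φ.ker.Normal).eq_bot_or_eq_top with h | h
    · exact h
    · exfalso
      have htriv : ∀ g : G, ∀ Q : Sylow p G, g • Q = Q := by
        intro g Q
        have h0 : g ∈ φ.ker := h ▸ Subgroup.mem_top g
        have h1 : φ g = 1 := h0
        rw [← hφ, h1]; rfl
      have hsub : ∀ Q Q' : Sylow p G, Q = Q' := by
        intro Q Q'
        obtain ⟨g, hg⟩ := MulAction.exists_smul_eq G Q Q'
        rw [← hg, htriv]
      have h1 : Nat.card (Sylow p G) ≤ 1 := Finite.card_le_one_iff_subsingleton.2 ⟨hsub⟩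
      omega
  let eG : G ≃* φ.range := MonoidHom.ofInjective hφinj
  have htrans : MulAction.IsPretransitive φ.range (Sylow p G) := by
    constructor
    intro Q Q'
    obtain ⟨g, hg⟩ := MulAction.exists_smul_eq G Q Q'
    exact ⟨⟨φ g, g, rfl⟩, hg⟩
  -- cardinalities
  have hcardG : Nat.card φ.range = Nat.card G := Nat.card_congr eG.toEquiv.symm
  have hidx : Nat.card (Sylow p G) = (Subgroup.normalizer ((P : Subgroup G) : Set G)).index :=
    P.card_eq_index_normalizer
  have hmul := Subgroup.card_mul_index (Subgroup.normalizer ((P : Subgroup G) : Set G))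
  have hPN : (P : Subgroup G) ≤ Subgroup.normalizer ((P : Subgroup G) : Set G) :=
    Subgroup.le_normalizer
  obtain ⟨d, hd⟩ : p ∣ Nat.card (Subgroup.normalizer ((P : Subgroup G) : Set G)) := by
    have := Subgroup.card_dvd_of_le hPN
    rwa [hP] at this
  have hGcard : Nat.card G = (p + 1) * p * d := by
    rw [← hmul, ← hidx, hS, hd]; ring
  have hdlt : d < p := by
    by_contra hge
    push Not at hge
    have h1 : (p + 1) * p * p ≤ (p + 1) * p * d := Nat.mul_le_mul_left _ hge
    have h2 : p ^ 3 < (p + 1) * p * p := by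
      have : p ^ 3 = p * p * p := by ring
      nlinarith [hpp.pos]
    omega
  let _ : Fintype (Sylow p G) := Fintype.ofFinite _
  have hα : Fintype.card (Sylow p G) = p + 1 := by
    rw [← Nat.card_eq_fintype_card, hS]; ring
  have key := Cfsg.Agent.S0732.result hpp hα φ.range (hcardG.trans hGcard) hdlt
  rcases key with ⟨_, ⟨e⟩⟩ | ⟨_, ⟨e⟩⟩ | ⟨q, hq, hpq, _, e, he⟩
  · -- `PGL(2,p)` is not perfect
    exfalso
    have h2 : (2 : ZMod p) ≠ 0 := by
      intro h
      have h3 : ((2 : ℕ) : ZMod p) = 0 := by exact_mod_cast h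
      rw [ZMod.natCast_eq_zero_iff] at h3
      have := Nat.le_of_dvd (by norm_num) h3
      omega
    exact Cfsg.Agent.Lib.Helper50_S4504_D.not_perfect_of_equiv_pgl (K := ZMod p) h2
      (eG.trans e) hperf
  · exact ⟨eG.trans e⟩
  · -- the semiaffine group is solvable
    exfalso
    have h2p : Fact (Nat.Prime 2) := ⟨Nat.prime_two⟩
    let _ : Fintype (GaloisField 2 q) := Fintype.ofFinite _
    have hFcard : Fintype.card (GaloisField 2 q) = 2 ^ q := by
      rw [← Nat.card_eq_fintype_card]
      exact GaloisField.card 2 q hq.ne_zero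
    have hAut : Nat.card (GaloisField 2 q ≃+* GaloisField 2 q) = q :=
      Cfsg.Agent.Lib.Helper29_EqOrd_EOC.EOC1 hFcard
    have hqf : Fact q.Prime := ⟨hq⟩
    have hcyc : IsCyclic (RingAut (GaloisField 2 q)) := isCyclic_of_prime_card hAut
    have hsolA : Group.IsSolvable (RingAut (GaloisField 2 q)) :=
      Group.isSolvable_of_comm (fun a b =>
        (IsCyclic.commGroup (α := RingAut (GaloisField 2 q))).mul_comm a b)
    have hsolS : Group.IsSolvable (Cfsg.semiaffineGroup (GaloisField 2 q)) :=
      isSolvable_semiaffine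
    let ψ : φ.range →* Cfsg.semiaffineGroup (GaloisField 2 q) :=
      { toFun := fun g => ⟨e.symm.trans ((g : Perm (Sylow p G)).trans e), he g⟩
        map_one' := by
          apply Subtype.ext
          apply Equiv.ext
          intro x
          simp
        map_mul' := by
          intro g h
          apply Subtype.ext
          apply Equiv.ext
          intro x
          simp }
    have hψinj : Function.Injective ψ := by
      intro g h hgh
      apply Subtype.ext
      apply Equiv.ext
      intro Q
      have h1 := congrArg (fun σ : Cfsg.semiaffineGroup (GaloisField 2 q) =>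
        (σ : Perm (GaloisField 2 q)) (e Q)) hgh
      simpa [ψ] using h1
    have hsolG : Group.IsSolvable G :=
      Group.isSolvable_of_isSolvable_injective (f := ψ.comp eG.toMonoidHom)
        (hψinj.comp eG.injective)
    exact hncomm (IsSimpleGroup.comm_iff_isSolvable.2 hsolG)

end Cfsg.Agent.Lib.Helper24_BR_N1
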