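/-
Curtis–Tits (helper72), definitions: the generators of the Curtis–Tits group and of the Steinberg group, the visible
roots, the evident homomorphism `CT → St` and the rank two subgroups.
-/
import Mathlib
import Cfsg.Prelude.Def_CurtisTits
import Cfsg.Agent.Lib.Helper81_StMain

set_option autoImplicit false

namespace Cfsg.Agent.Lib.Helper72_CT

open Cfsg Cfsg.Lie Cfsg.Agent.Lib.Helper81_StAbs Cfsg.Agent.Lib.Helper81_StMain

variable (D : ChevalleyDatum) (K : Type*) [Field K]

/-- The generators `x̂_r(t)` of the Curtis–Tits group. -/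
abbrev xh (r : ℕ) (t : K) : D.CurtisTitsGroup K := pGen D (D.curtisTitsRels K) r t

/-- The generators `x̄_r(t)` of the Steinberg group. -/
abbrev xs (r : ℕ) (t : K) : D.SteinbergGroup K := pGen D (D.steinbergRels K) r t

theorem xs_eq (r : ℕ) (t : K) : xs D K r t = D.stGen K r t := rfl

instance (i j r : ℕ) : Decidable (D.InRankTwoSub i j r) := by
  unfold ChevalleyDatum.InRankTwoSub
  infer_instance

/-- The roots of the rank two subsystem `Φ_ij`, as a list. -/
def subL (i j : ℕ) : List ℕ := (List.range D.nroots).filter fun r => decide (D.InRankTwoSub i j r)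

theorem mem_subL {i j r : ℕ} : r ∈ subL D i j ↔ D.InRankTwoSub i j r := by
  unfold subL
  rw [List.mem_filter, List.mem_range, decide_eq_true_eq]
  exact ⟨fun h => h.2, fun h => ⟨h.1, h⟩⟩

/-- The root `r` is visible: it lies in some `Φ_ij`. -/
def Vis (r : ℕ) : Prop := ∃ i < D.rank, ∃ j < D.rank, D.InRankTwoSub i j r

instance (r : ℕ) : Decidable (Vis D r) := by
  unfold Vis
  infer_instance

theorem vis_iff {r : ℕ} : Vis D r ↔ ∃ i j, D.InRankTwoSub i j r :=
  ⟨fun ⟨i, _, j, _, h⟩ => ⟨i, j, h⟩, fun ⟨i, j, h⟩ => ⟨i, h.2.1, j, h.2.2.1, h⟩⟩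

theorem Vis.lt {r : ℕ} (h : Vis D r) : r < D.nroots := by
  obtain ⟨i, _, j, _, h⟩ := h
  exact h.1

/-- The check that `Φ_ij` is closed under negation and under the commutator formula. -/
def visOK (i j : ℕ) : Bool :=
  (subL D i j).all fun r => (subL D i j).contains (D.neg r) &&
    (subL D i j).all fun s => s == r || s == D.neg r ||
      (D.commTerms r s).all fun c => (subL D i j).contains c.1

/-- The certificate that the rank two subsystems are closed under negation and under the commutator formula. -/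
def VisCert : Prop := ∀ i < D.rank, ∀ j < D.rank, visOK D i j = true

instance : Decidable (VisCert D) := by
  unfold VisCert
  infer_instance

variable {D}

theorem VisCert.neg (h : VisCert D) {i j r : ℕ} (hr : D.InRankTwoSub i j r) : D.InRankTwoSub i j (D.neg r) := by
  have h1 := h i hr.2.1 j hr.2.2.1
  unfold visOK at h1
  rw [List.all_eq_true] at h1
  have h2 := h1 r ((mem_subL D).mpr hr)
  rw [Bool.and_eq_true, List.contains_iff_mem] at h2
  exact (mem_subL D).mp h2.1

theorem VisCert.comm (h : VisCert D) {i j r s : ℕ} (hr : D.InRankTwoSub i j r) (hs : D.InRankTwoSub i j s)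
    (h1 : s ≠ r) (h2 : s ≠ D.neg r) {c : ℕ × ℤ × ℕ × ℕ} (hc : c ∈ D.commTerms r s) :
    D.InRankTwoSub i j c.1 := by
  have h3 := h i hr.2.1 j hr.2.2.1
  unfold visOK at h3
  rw [List.all_eq_true] at h3
  have h4 := h3 r ((mem_subL D).mpr hr)
  rw [Bool.and_eq_true, List.all_eq_true] at h4
  have h5 := h4.2 s ((mem_subL D).mpr hs)
  simp only [Bool.or_eq_true, beq_iff_eq, List.all_eq_true, List.contains_iff_mem] at h5
  rcases h5 with (h5 | h5) | h5
  · exact absurd h5 h1
  · exact absurd h5 h2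
  · exact (mem_subL D).mp (h5 c hc)

/-! ### The homomorphism `CT → St` -/

variable (D)

/-- The images of the free generators in the Steinberg group. -/
def ctGen (p : Fin D.nroots × K) : D.SteinbergGroup K := if Vis D p.1 then xs D K p.1 p.2 else 1

theorem lift_ctGen_stX (r : ℕ) (t : K) :
    FreeGroup.lift (ctGen D K) (D.stX r t) = if Vis D r then xs D K r t else 1 := by
  unfold ChevalleyDatum.stX
  by_cases hr : r < D.nroots
  · rw [dif_pos hr, FreeGroup.lift_apply_of]
    rfl
  · rw [dif_neg hr, map_one]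
    have : ¬ Vis D r := fun h => hr h.lt
    rw [if_neg this]

theorem lift_ctGen_stX_vis {r : ℕ} (hr : Vis D r) (t : K) :
    FreeGroup.lift (ctGen D K) (D.stX r t) = xs D K r t := by
  rw [lift_ctGen_stX, if_pos hr]

theorem lift_ctGen_stWord (w : List (ℕ × K)) (hw : ∀ p ∈ w, Vis D p.1) :
    FreeGroup.lift (ctGen D K) (D.stWord w) = wordP (xs D K) w := by
  unfold ChevalleyDatum.stWord wordP
  rw [map_list_prod, List.map_map]
  congr 1
  apply List.map_congr_left
  intro p hp
  exact lift_ctGen_stX_vis D K (hw p hp) p.2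

variable {D K}

theorem stRel_R3 (r : ℕ) (hr : r < D.nroots) (t₁ t₂ : K) (h₁ : t₁ ≠ 0) (h₂ : t₂ ≠ 0) :
    wordP (xs D K) (D.hWord r t₁) * wordP (xs D K) (D.hWord r t₂) = wordP (xs D K) (D.hWord r (t₁ * t₂)) := by
  have h : D.stH r t₁ * D.stH r t₂ * (D.stH r (t₁ * t₂))⁻¹ ∈ D.steinbergRels K :=
    Or.inr ⟨r, t₁, t₂, hr, h₁, h₂, rfl⟩
  have := PresentedGroup.one_of_mem h
  rw [map_mul, map_mul, map_inv, mul_inv_eq_one] at this
  unfold ChevalleyDatum.stH at this
  rw [mk_stWord, mk_stWord, mk_stWord] at this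
  exact this

theorem ctRels_lift (h : VisCert D) : ∀ g ∈ D.curtisTitsRels K, FreeGroup.lift (ctGen D K) g = 1 := by
  have hX : StGrp D (xs D K) := stGrp_pGen relsAB_subset
  rintro g (((⟨r, t, hr, hnv, rfl⟩ | ⟨i, j, r, t₁, t₂, hr, rfl⟩) | ⟨i, j, r, s, t, u, hr, hs, h1, h2, rfl⟩) |
    ⟨i, j, r, t₁, t₂, hr, h₁, h₂, rfl⟩)
  · rw [lift_ctGen_stX, if_neg]
    rintro ⟨i, _, j, _, hv⟩
    exact hnv i j hv
  · have hv : Vis D r := (vis_iff D).mpr ⟨i, j, hr⟩
    rw [map_mul, map_mul, map_inv, lift_ctGen_stX_vis D K hv, lift_ctGen_stX_vis D K hv,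
      lift_ctGen_stX_vis D K hv, hX.add r hr.1, mul_inv_cancel]
  · have hvr : Vis D r := (vis_iff D).mpr ⟨i, j, hr⟩
    have hvs : Vis D s := (vis_iff D).mpr ⟨i, j, hs⟩
    rw [map_mul, map_mul, map_mul, map_mul, map_inv, map_inv, map_inv, lift_ctGen_stX_vis D K hvr,
      lift_ctGen_stX_vis D K hvs, lift_ctGen_stWord, hX.comm r s hr.1 hs.1 h1 h2, mul_inv_cancel]
    intro p hp
    unfold ChevalleyDatum.commWord at hp
    rw [List.mem_map] at hp
    obtain ⟨c, hc, rfl⟩ := hp
    exact (vis_iff D).mpr ⟨i, j, h.comm hr hs h1 h2 hc⟩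
  · have hvr : Vis D r := (vis_iff D).mpr ⟨i, j, hr⟩
    have hvn : Vis D (D.neg r) := (vis_iff D).mpr ⟨i, j, h.neg hr⟩
    have hw : ∀ a : K, ∀ p ∈ D.hWord r a, Vis D p.1 := by
      intro a p hp
      unfold ChevalleyDatum.hWord ChevalleyDatum.nWord at hp
      simp only [List.cons_append, List.nil_append, List.mem_cons, List.not_mem_nil, or_false] at hp
      rcases hp with rfl | rfl | rfl | rfl | rfl | rfl <;> assumption
    unfold ChevalleyDatum.stH
    rw [map_mul, map_mul, map_inv, lift_ctGen_stWord D K _ (hw t₁), lift_ctGen_stWord D K _ (hw t₂),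
      lift_ctGen_stWord D K _ (hw _), stRel_R3 r hr.1 t₁ t₂ h₁ h₂, mul_inv_cancel]

/-- The evident homomorphism from the Curtis–Tits group to the Steinberg group. -/
def ctToSt (h : VisCert D) : D.CurtisTitsGroup K →* D.SteinbergGroup K := PresentedGroup.toGroup (ctRels_lift h)

theorem ctToSt_mk (h : VisCert D) (x : FreeGroup (Fin D.nroots × K)) :
    ctToSt h (PresentedGroup.mk (D.curtisTitsRels K) x) = FreeGroup.lift (ctGen D K) x := by
  induction x using FreeGroup.induction_on with
  | C1 => rw [map_one, map_one, map_one]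
  | of x =>
    rw [FreeGroup.lift_apply_of]
    exact PresentedGroup.toGroup.of (ctRels_lift h)
  | inv_of x ih => rw [map_inv, map_inv, map_inv, ih]
  | mul x y ihx ihy => rw [map_mul, map_mul, map_mul, ihx, ihy]

theorem ctToSt_xh (h : VisCert D) {r : ℕ} (hr : Vis D r) (t : K) : ctToSt h (xh D K r t) = xs D K r t := by
  show ctToSt h (PresentedGroup.mk _ (D.stX r t)) = _
  rw [ctToSt_mk, lift_ctGen_stX_vis D K hr]

/-- The invisible generators are trivial in the Curtis–Tits group. -/
theorem xh_eq_one {r : ℕ} (hr : ¬ Vis D r) (t : K) : xh D K r t = 1 := by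
  by_cases hlt : r < D.nroots
  · have h : D.stX r t ∈ D.curtisTitsRels K := by
      refine Or.inl (Or.inl (Or.inl ⟨r, t, hlt, ?_, rfl⟩))
      intro i j hv
      exact hr ((vis_iff D).mpr ⟨i, j, hv⟩)
    exact PresentedGroup.one_of_mem h
  · show PresentedGroup.mk _ (D.stX r t) = 1
    unfold ChevalleyDatum.stX
    rw [dif_neg hlt, map_one]

/-! ### The rank two subgroups -/

variable (D K)

/-- The subgroup of the Curtis–Tits group generated by the root elements of the roots in `Φ_ij`. -/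
def G2 (i j : ℕ) : Subgroup (D.CurtisTitsGroup K) :=
  Subgroup.closure {y | ∃ (r : ℕ) (t : K), D.InRankTwoSub i j r ∧ y = xh D K r t}

variable {D K}

theorem xh_mem_G2 {i j r : ℕ} (hr : D.InRankTwoSub i j r) (t : K) : xh D K r t ∈ G2 D K i j :=
  Subgroup.subset_closure ⟨r, t, hr, rfl⟩

theorem inRankTwoSub_symm {i j r : ℕ} (h : D.InRankTwoSub i j r) : D.InRankTwoSub j i r :=
  ⟨h.1, h.2.2.1, h.2.1, fun k hk hkj hki => h.2.2.2 k hk hki hkj⟩

theorem G2_symm (i j : ℕ) : G2 D K i j = G2 D K j i := by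
  unfold G2
  congr 1
  ext y
  constructor
  · rintro ⟨r, t, hr, rfl⟩
    exact ⟨r, t, inRankTwoSub_symm hr, rfl⟩
  · rintro ⟨r, t, hr, rfl⟩
    exact ⟨r, t, inRankTwoSub_symm hr, rfl⟩

/-- The nodes `i ≠ j` are joined in the diagram. -/
def Joined (D : ChevalleyDatum) (i j : ℕ) : Prop :=
  i < D.rank ∧ j < D.rank ∧ i ≠ j ∧ D.cartan i (D.simple j) ≠ 0

instance (i j : ℕ) : Decidable (Joined D i j) := by
  unfold Joined
  infer_instance

/-- The evident homomorphism is injective on the rank two subgroup `Ĝ_ij`. -/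
def InjOn2 (h : VisCert D) (K : Type*) [Field K] (i j : ℕ) : Prop :=
  ∀ g ∈ G2 D K i j, ctToSt (K := K) h g = 1 → g = 1

end Cfsg.Agent.Lib.Helper72_CT
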