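/-
Curtis–Tits (helper72): the rank two subsystems of the data of type D4, F4, E6, E7, E8 are closed under negation and
under the commutator formula.
-/
import Cfsg.Agent.Lib.Helper72_CT_Defs
import Cfsg.Prelude.Def_LieTypes

set_option autoImplicit false

namespace Cfsg.Agent.Lib.Helper72_CT

open Cfsg Cfsg.Lie

set_option maxRecDepth 100000 in
theorem visCert_D4 : VisCert chevD4 := by decide +kernel

set_option maxRecDepth 100000 in
theorem visCert_F4 : VisCert chevF4 := by decide +kernel

set_option maxRecDepth 100000 in
theorem visCert_E6 : VisCert chevE6 := by decide +kernel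

set_option maxRecDepth 100000 in
theorem visCert_E7 : VisCert chevE7 := by decide +kernel

set_option maxRecDepth 100000 in
theorem visCert_E8 : VisCert chevE8 := by decide +kernel

theorem visCert_of_mem (D : ChevalleyDatum) (hD : D ∈ [chevD4, chevF4, chevE6, chevE7, chevE8]) : VisCert D := by
  simp only [List.mem_cons, List.not_mem_nil, or_false] at hD
  rcases hD with rfl | rfl | rfl | rfl | rfl
  · exact visCert_D4
  · exact visCert_F4
  · exact visCert_E6
  · exact visCert_E7
  · exact visCert_E8

end Cfsg.Agent.Lib.Helper72_CT
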