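/-
Curtis–Tits (helper72): the structure of the rank two subsystems of the data of type D4, F4, E6, E7, E8.
-/
import Cfsg.Agent.Lib.Helper72_CT_VisCerts

set_option autoImplicit false

namespace Cfsg.Agent.Lib.Helper72_CT

open Cfsg Cfsg.Lie

variable (D : ChevalleyDatum)

/-- The check that the positive roots of `Φ_ik` are the two fundamental roots and their images under the other
fundamental reflection. -/
def rank2OK (i k : ℕ) : Bool :=
  (subL D i k).all fun ρ => !(decide (D.IsPosRoot ρ)) || ρ == D.simple i || ρ == D.simple k ||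
    (ρ == D.reflectRoot i (D.simple k) && decide (D.cartan i (D.simple k) < 0)) ||
    (ρ == D.reflectRoot k (D.simple i) && decide (D.cartan k (D.simple i) < 0))

/-- The positive roots of the rank two subsystems: the two fundamental roots and their images under the other
fundamental reflection. -/
def Rank2Cert : Prop := ∀ i < D.rank, ∀ k < D.rank, rank2OK D i k = true

instance : Decidable (Rank2Cert D) := by
  unfold Rank2Cert
  infer_instance

variable {D}

theorem Rank2Cert.spec (h : Rank2Cert D) {i k ρ : ℕ} (hρ : D.InRankTwoSub i k ρ) (hpos : D.IsPosRoot ρ) :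
    ρ = D.simple i ∨ ρ = D.simple k ∨ (ρ = D.reflectRoot i (D.simple k) ∧ D.cartan i (D.simple k) < 0) ∨
      (ρ = D.reflectRoot k (D.simple i) ∧ D.cartan k (D.simple i) < 0) := by
  have h1 := h i hρ.2.1 k hρ.2.2.1
  unfold rank2OK at h1
  rw [List.all_eq_true] at h1
  have h2 := h1 ρ ((mem_subL D).mpr hρ)
  simp only [Bool.or_eq_true, Bool.not_eq_true', decide_eq_false_iff_not, beq_iff_eq, Bool.and_eq_true,
    decide_eq_true_eq] at h2
  rcases h2 with (((h2 | h2) | h2) | h2) | h2
  · exact absurd hpos h2
  · exact Or.inl h2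
  · exact Or.inr (Or.inl h2)
  · exact Or.inr (Or.inr (Or.inl h2))
  · exact Or.inr (Or.inr (Or.inr h2))

set_option maxRecDepth 100000 in
theorem rank2Cert_D4 : Rank2Cert chevD4 := by decide +kernel

set_option maxRecDepth 100000 in
theorem rank2Cert_F4 : Rank2Cert chevF4 := by decide +kernel

set_option maxRecDepth 100000 in
theorem rank2Cert_E6 : Rank2Cert chevE6 := by decide +kernel

set_option maxRecDepth 100000 in
theorem rank2Cert_E7 : Rank2Cert chevE7 := by decide +kernel

set_option maxRecDepth 100000 in
theorem rank2Cert_E8 : Rank2Cert chevE8 := by decide +kernel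

theorem rank2Cert_of_mem (D : ChevalleyDatum) (hD : D ∈ [chevD4, chevF4, chevE6, chevE7, chevE8]) :
    Rank2Cert D := by
  simp only [List.mem_cons, List.not_mem_nil, or_false] at hD
  rcases hD with rfl | rfl | rfl | rfl | rfl
  · exact rank2Cert_D4
  · exact rank2Cert_F4
  · exact rank2Cert_E6
  · exact rank2Cert_E7
  · exact rank2Cert_E8

/-! ### Pairs of fundamental roots that are not joined -/

variable (D : ChevalleyDatum)

/-- The check for a pair `i ≠ k` of fundamental roots with `A_ik = 0`: `A_ki = 0`, the roots of `Φ_ik` are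
`±p_i, ±p_k`, the reflection in `p_k` fixes `±p_i`, and the commutator words of `±p_k` with `±p_i` are empty. -/
def njOK (i k : ℕ) : Bool :=
  decide (D.cartan k (D.simple i) = 0) &&
  (subL D i k).all (fun r => r == D.simple i || r == D.neg (D.simple i) || r == D.simple k ||
    r == D.neg (D.simple k)) &&
  [D.simple i, D.neg (D.simple i)].all fun r =>
    decide (D.reflectRoot k r = r) &&
    [D.simple k, D.neg (D.simple k)].all fun s =>
      decide (s ≠ r) && decide (s ≠ D.neg r) && decide (D.commTerms s r = []) && decide (D.commTerms r s = [])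

/-- The certificate for the pairs of fundamental roots that are not joined. -/
def NJCert : Prop := ∀ i < D.rank, ∀ k < D.rank, i ≠ k → D.cartan i (D.simple k) = 0 → njOK D i k = true

instance : Decidable (NJCert D) := by
  unfold NJCert
  infer_instance

/-- Every fundamental root is joined to another one. -/
def PartnerCert : Prop := ∀ i < D.rank, ∃ j < D.rank, i ≠ j ∧ D.cartan i (D.simple j) ≠ 0

instance : Decidable (PartnerCert D) := by
  unfold PartnerCert
  infer_instance

variable {D}

theorem NJCert.spec (h : NJCert D) {i k : ℕ} (hi : i < D.rank) (hk : k < D.rank) (hik : i ≠ k)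
    (h0 : D.cartan i (D.simple k) = 0) :
    D.cartan k (D.simple i) = 0 ∧
    (∀ r, D.InRankTwoSub i k r → r = D.simple i ∨ r = D.neg (D.simple i) ∨ r = D.simple k ∨
      r = D.neg (D.simple k)) ∧
    ∀ r, r = D.simple i ∨ r = D.neg (D.simple i) → D.reflectRoot k r = r ∧
      ∀ s, s = D.simple k ∨ s = D.neg (D.simple k) →
        s ≠ r ∧ s ≠ D.neg r ∧ D.commTerms s r = [] ∧ D.commTerms r s = [] := by
  have h1 := h i hi k hk hik h0
  unfold njOK at h1
  simp only [Bool.and_eq_true, decide_eq_true_eq, List.all_eq_true, Bool.or_eq_true, beq_iff_eq,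
    List.mem_cons, List.not_mem_nil, or_false] at h1
  obtain ⟨⟨h2, h3⟩, h4⟩ := h1
  refine ⟨h2, ?_, ?_⟩
  · intro r hr
    rcases h3 r ((mem_subL D).mpr hr) with ((h | h) | h) | h
    · exact Or.inl h
    · exact Or.inr (Or.inl h)
    · exact Or.inr (Or.inr (Or.inl h))
    · exact Or.inr (Or.inr (Or.inr h))
  · intro r hr
    obtain ⟨h5, h6⟩ := h4 r hr
    refine ⟨h5, ?_⟩
    intro s hs
    obtain ⟨⟨⟨h7, h8⟩, h9⟩, h10⟩ := h6 s hs
    exact ⟨h7, h8, h9, h10⟩

set_option maxRecDepth 100000 in
theorem njCert_D4 : NJCert chevD4 := by decide +kernel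

set_option maxRecDepth 100000 in
theorem njCert_F4 : NJCert chevF4 := by decide +kernel

set_option maxRecDepth 100000 in
theorem njCert_E6 : NJCert chevE6 := by decide +kernel

set_option maxRecDepth 100000 in
theorem njCert_E7 : NJCert chevE7 := by decide +kernel

set_option maxRecDepth 100000 in
theorem njCert_E8 : NJCert chevE8 := by decide +kernel

theorem njCert_of_mem (D : ChevalleyDatum) (hD : D ∈ [chevD4, chevF4, chevE6, chevE7, chevE8]) : NJCert D := by
  simp only [List.mem_cons, List.not_mem_nil, or_false] at hD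
  rcases hD with rfl | rfl | rfl | rfl | rfl
  · exact njCert_D4
  · exact njCert_F4
  · exact njCert_E6
  · exact njCert_E7
  · exact njCert_E8

theorem partnerCert_of_mem (D : ChevalleyDatum) (hD : D ∈ [chevD4, chevF4, chevE6, chevE7, chevE8]) :
    PartnerCert D := by
  simp only [List.mem_cons, List.not_mem_nil, or_false] at hD
  rcases hD with rfl | rfl | rfl | rfl | rfl <;> decide +kernel

end Cfsg.Agent.Lib.Helper72_CT
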