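/-
Steinberg's presentation (helper81), abstract part 4: the subgroup `H̄` generated by the `h_p(a)`, `p` fundamental,
of a group `Γ` with Steinberg's relations (R1), (R2); `N̄` normalizes `H̄`, every element of `N̄` is an element of `H̄`
times a word in the `n_p(1)`, and the kernel of a homomorphism to the Chevalley group matching the generators lies
in `H̄`.
-/
import Mathlib
import Cfsg.Agent.Lib.Helper81_StBruhat

set_option autoImplicit false
set_option linter.unusedSectionVars false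
set_option linter.unusedVariables false

namespace Cfsg.Agent.Lib.Helper81_StTorus

open Cfsg Cfsg.Lie Cfsg.Agent.Lib.Helper18_ChevFast Cfsg.Agent.Lib.Helper18_ChevEngine
  Cfsg.Agent.Lib.Helper18_ChevR1 Cfsg.Agent.Lib.Helper18_ChevN Cfsg.Agent.Lib.Helper18_ChevR4
  Cfsg.Agent.Lib.Helper18_ChevSimple Cfsg.Agent.Lib.Helper18_ChevSimple2 Cfsg.Agent.Lib.Helper18_ChevFacts
  Cfsg.Agent.Lib.Helper18_ChevWeyl Cfsg.Agent.Lib.Helper18_ChevDiag Cfsg.Agent.Lib.Helper18_ChevCar
  Cfsg.Agent.Lib.Helper18_ChevTorus Cfsg.Agent.Lib.Helper18_ChevGL Cfsg.Agent.Lib.Helper18_ChevComm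
  Cfsg.Agent.Lib.Helper18_ChevComm2 Cfsg.Agent.Lib.Helper18_MatTri Cfsg.Agent.Lib.Helper18_ChevTri
  Cfsg.Agent.Lib.Helper18_ChevBorel Cfsg.Agent.Lib.Helper18_ChevAdd Cfsg.Agent.Lib.Helper18_ChevUni
  Cfsg.Agent.Lib.Helper18_ChevBN Cfsg.Agent.Lib.Helper18_ChevMono Cfsg.Agent.Lib.Helper18_ChevBNPair
  Cfsg.Agent.Lib.Helper18_ChevLevi Cfsg.Agent.Lib.Helper18_ChevSimp Cfsg.Agent.Lib.Helper18_ChevBruhat
  Cfsg.Agent.Lib.Helper81_StUniq Cfsg.Agent.Lib.Helper81_StAbs Cfsg.Agent.Lib.Helper81_StL37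
  Cfsg.Agent.Lib.Helper81_StBruhat

variable {D : ChevalleyDatum} {Ns : List NData} {F : Type*} [Field F] {Γ : Type*} [Group Γ]
variable {wl : List ℤ} {ws : List (List ℤ)} {sc : ℤ} {X : ℕ → F → Γ}

/-- The element `h_p(a)` of the group `Γ`. -/
def hBar (D : ChevalleyDatum) (X : ℕ → F → Γ) (i : ℕ) (a : F) : Γ := wordP X (D.hWord (D.simple i) a)

/-- The subgroup `H̄` generated by the `h_p(a)`, `p` fundamental. -/
def HB (D : ChevalleyDatum) (X : ℕ → F → Γ) : Subgroup Γ :=
  Subgroup.closure {y | ∃ i < D.rank, ∃ a : F, a ≠ 0 ∧ y = hBar D X i a}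

theorem hB_eq (X : ℕ → F → Γ) (i : ℕ) (a : F) : hBar D X i a = nB D X i a * nB D X i (-1) := by
  unfold hBar nB ChevalleyDatum.hWord
  rw [wordP_append]

theorem hB_mem_HB {i : ℕ} (hi : i < D.rank) {a : F} (ha : a ≠ 0) : hBar D X i a ∈ HB D X :=
  Subgroup.subset_closure ⟨i, hi, a, ha, rfl⟩

/-- `n_p(a) = h_p(a) n_p(1)`. -/
theorem nB_eq_hB_mul (c : DCert D Ns) (hX : StGrp D X) (i : ℕ) (hi : i < D.rank) (a : F) :
    nB D X i a = hBar D X i a * nB D X i 1 := by
  rw [hB_eq, ← nB_inv c hX i hi 1, inv_mul_cancel_right]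

theorem hB_mem_L1 (X : ℕ → F → Γ) (i : ℕ) (a : F) : hBar D X i a ∈ L1 D X i := by
  rw [hB_eq]
  exact Subgroup.mul_mem _ (nB_mem_L1 X i a) (nB_mem_L1 X i (-1))

theorem map_hB (c : DCert D Ns) {π : Γ →* GL D.Idx F} (hπ : IsLift c X π) (i : ℕ) (hi : i < D.rank) (a : F) :
    π (hBar D X i a) = hGL c (D.simple i) a := by
  unfold hBar hGL
  apply map_wordP_lift c hπ
  intro p hp
  have hs := (c.ncert i hi).simple_lt
  unfold ChevalleyDatum.hWord ChevalleyDatum.nWord at hp
  simp only [List.cons_append, List.nil_append, List.mem_cons, List.not_mem_nil, or_false] at hp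
  rcases hp with rfl | rfl | rfl | rfl | rfl | rfl
  · exact hs
  · exact DCert.neg_lt c _ hs
  · exact hs
  · exact hs
  · exact DCert.neg_lt c _ hs
  · exact hs

/-- `H̄ ≤ N̄`. -/
theorem HB_le_NB : HB D X ≤ NB D X := by
  unfold HB
  rw [Subgroup.closure_le]
  rintro y ⟨i, hi, a, ha, rfl⟩
  rw [hB_eq]
  exact Subgroup.mul_mem _ (nB_mem_NB hi ha) (nB_mem_NB hi (by simp))

theorem map_HB_le (c : DCert D Ns) {π : Γ →* GL D.Idx F} (hπ : IsLift c X π) :
    (HB D X).map π ≤ D.diagonalSubgroup F := by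
  unfold HB
  rw [MonoidHom.map_closure, Subgroup.closure_le]
  rintro g ⟨y, ⟨i, hi, a, ha, rfl⟩, rfl⟩
  rw [map_hB c hπ i hi]
  exact hGL_mem c _ (c.ncert i hi).simple_lt a ha

/-! ### The elements of `H̄` fix the roots -/

/-- The subgroup of the elements that act monomially, fixing the roots, together with their inverses. -/
def IdAct (D : ChevalleyDatum) (X : ℕ → F → Γ) : Subgroup Γ where
  carrier := {y | MonoAct D X y id ∧ MonoAct D X y⁻¹ id}
  one_mem' := ⟨monoAct_one X, by rw [inv_one]; exact monoAct_one X⟩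
  mul_mem' := by
    rintro a b ⟨h₁, h₁'⟩ ⟨h₂, h₂'⟩
    refine ⟨h₁.mul h₂, ?_⟩
    rw [mul_inv_rev]
    exact h₂'.mul h₁'
  inv_mem' := by
    rintro a ⟨h₁, h₂⟩
    refine ⟨h₂, ?_⟩
    rw [inv_inv]
    exact h₁

theorem HB_le_IdAct (c : DCert D Ns) (tc : TCert D) (ac : ACert D wl ws sc) (hA : CertA D) {bs : List BData}
    (hB : CertB D bs) (hX : StGrp D X) {π : Γ →* GL D.Idx F} (hπ : IsLift c X π) : HB D X ≤ IdAct D X := by
  unfold HB
  rw [Subgroup.closure_le]
  rintro y ⟨i, hi, a, ha, rfl⟩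
  have hs := (c.ncert i hi).simple_lt
  constructor
  · apply monoAct_lift c tc ac hA hB hX hπ i hi _ (hB_mem_L1 X i a) _ (Or.inl fun s _ => rfl)
    rw [map_hB c hπ i hi]
    exact monoAct_diagonal c tc _ (hGL_mem c _ hs a ha)
  · apply monoAct_lift c tc ac hA hB hX hπ i hi _ (Subgroup.inv_mem _ (hB_mem_L1 X i a)) _
      (Or.inl fun s _ => rfl)
    rw [map_inv, map_hB c hπ i hi]
    exact monoAct_diagonal c tc _ (Subgroup.inv_mem _ (hGL_mem c _ hs a ha))

/-! ### Conjugation of the `n_p(b)` -/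

/-- If `y` maps the root elements of `p_j` to those of `p_i`, it conjugates `n_{p_j}(b)` to `n_{p_i}(e b)`. -/
theorem conj_nB {y : Γ} {σ : ℕ → ℕ} (hy : MonoAct D X y σ) (c : DCert D Ns) (i j : ℕ) (hj : j < D.rank)
    (hσ : σ (D.simple j) = D.simple i) : ∃ e : F, e ≠ 0 ∧ ∀ b : F, y * nB D X j b * y⁻¹ = nB D X i (e * b) := by
  obtain ⟨-, -, e, he, h1, h2⟩ := hy (D.simple j) (c.ncert j hj).simple_lt
  rw [hσ] at h1 h2
  refine ⟨e, he, fun b => ?_⟩
  rw [nB_eq, nB_eq]
  have : y * (X (D.simple j) b * X (D.neg (D.simple j)) (-b⁻¹) * X (D.simple j) b) * y⁻¹ =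
      (y * X (D.simple j) b * y⁻¹) * (y * X (D.neg (D.simple j)) (-b⁻¹) * y⁻¹) * (y * X (D.simple j) b * y⁻¹) := by
    group
  rw [this, h1, h2]
  congr 3
  rw [mul_inv, mul_neg]

/-- `n_p(1) n_p(1) = h_p(-1)⁻¹`. -/
theorem nB_sq (c : DCert D Ns) (hX : StGrp D X) (j : ℕ) (hj : j < D.rank) :
    nB D X j 1 * nB D X j 1 = (hBar D X j (-1))⁻¹ := by
  rw [hB_eq, mul_inv_rev, nB_inv c hX j hj, neg_neg]

/-- `n_p(1)` normalizes `H̄`. -/
theorem nB_mem_normalizer_HB (c : DCert D Ns) (tc : TCert D) (ac : ACert D wl ws sc) (hA : CertA D)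
    {bs : List BData} (hB : CertB D bs) (hX : StGrp D X) {π : Γ →* GL D.Idx F} (hπ : IsLift c X π) (j : ℕ)
    (hj : j < D.rank) : nB D X j 1 ∈ Subgroup.normalizer (HB D X : Set Γ) := by
  unfold HB
  apply mem_normalizer_closure
  · rintro h ⟨i, hi, a, ha, rfl⟩
    show _ ∈ HB D X
    have hI := HB_le_IdAct c tc ac hA hB hX hπ (hB_mem_HB (X := X) hi ha)
    obtain ⟨e, he, hconj⟩ := conj_nB hI.2 c j j hj rfl
    -- `n h n⁻¹ = h (h⁻¹ n h) n⁻¹ = h h_j(e)`
    have e1 : nB D X j 1 * hBar D X i a * (nB D X j 1)⁻¹ =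
        hBar D X i a * ((hBar D X i a)⁻¹ * nB D X j 1 * (hBar D X i a)⁻¹⁻¹) * (nB D X j 1)⁻¹ := by group
    rw [e1, hconj, mul_one, mul_assoc, nB_inv c hX j hj, ← hB_eq]
    exact Subgroup.mul_mem _ (hB_mem_HB hi ha) (hB_mem_HB hj he)
  · rintro h ⟨i, hi, a, ha, rfl⟩
    show _ ∈ HB D X
    have hI := HB_le_IdAct c tc ac hA hB hX hπ (hB_mem_HB (X := X) hi ha)
    obtain ⟨e, he, hconj⟩ := conj_nB hI.2 c j j hj rfl
    -- `n⁻¹ h n = h (h⁻¹ n h)⁻¹ n = h n_j(-e) n_j(1) = h h_j(-e) h_j(-1)⁻¹`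
    have e1 : (nB D X j 1)⁻¹ * hBar D X i a * nB D X j 1 =
        hBar D X i a * ((hBar D X i a)⁻¹ * nB D X j 1 * (hBar D X i a)⁻¹⁻¹)⁻¹ * nB D X j 1 := by group
    rw [e1, hconj, mul_one, nB_inv c hX j hj]
    have e2 : nB D X j (-e) * nB D X j 1 = hBar D X j (-e) * (hBar D X j (-1))⁻¹ := by
      rw [← nB_sq c hX j hj, hB_eq, ← nB_inv c hX j hj 1]
      group
    rw [mul_assoc, e2]
    exact Subgroup.mul_mem _ (hB_mem_HB hi ha) (Subgroup.mul_mem _ (hB_mem_HB hj (neg_ne_zero.mpr he))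
      (Subgroup.inv_mem _ (hB_mem_HB hj (by simp))))

theorem NB_le_normalizer_HB (c : DCert D Ns) (tc : TCert D) (ac : ACert D wl ws sc) (hA : CertA D)
    {bs : List BData} (hB : CertB D bs) (hX : StGrp D X) {π : Γ →* GL D.Idx F} (hπ : IsLift c X π) :
    NB D X ≤ Subgroup.normalizer (HB D X : Set Γ) := by
  unfold NB
  rw [Subgroup.closure_le]
  rintro y ⟨i, hi, a, ha, rfl⟩
  rw [nB_eq_hB_mul c hX i hi]
  exact Subgroup.mul_mem _ (Subgroup.le_normalizer (hB_mem_HB hi ha))
    (nB_mem_normalizer_HB c tc ac hA hB hX hπ i hi)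

theorem NB_conj_HB (c : DCert D Ns) (tc : TCert D) (ac : ACert D wl ws sc) (hA : CertA D)
    {bs : List BData} (hB : CertB D bs) (hX : StGrp D X) {π : Γ →* GL D.Idx F} (hπ : IsLift c X π) {m h : Γ}
    (hm : m ∈ NB D X) (hh : h ∈ HB D X) : m * h * m⁻¹ ∈ HB D X :=
  (Subgroup.mem_normalizer_iff.mp (NB_le_normalizer_HB c tc ac hA hB hX hπ hm) h).mp hh

/-! ### Words in the `n_p(1)` -/

/-- The product of the `n_p(1)` of a word. -/
def nW (D : ChevalleyDatum) (X : ℕ → F → Γ) (word : List ℕ) : Γ := (word.map fun i => nB D X i (1 : F)).prod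

theorem nW_nil : nW D X [] = 1 := by simp [nW]

theorem nW_cons (i : ℕ) (w : List ℕ) : nW D X (i :: w) = nB D X i 1 * nW D X w := by simp [nW]

theorem nW_append (w w' : List ℕ) : nW D X (w ++ w') = nW D X w * nW D X w' := by
  unfold nW
  rw [List.map_append, List.prod_append]

theorem nW_mem_NB (word : List ℕ) (h : ∀ i ∈ word, i < D.rank) : nW D X word ∈ NB D X := by
  unfold nW
  apply Subgroup.list_prod_mem
  intro g hg
  rw [List.mem_map] at hg
  obtain ⟨i, hi, rfl⟩ := hg
  exact nB_mem_NB (h i hi) one_ne_zero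

theorem monoAct_nW (c : DCert D Ns) (tc : TCert D) (ac : ACert D wl ws sc) (hA : CertA D) {bs : List BData}
    (hB : CertB D bs) (hX : StGrp D X) {π : Γ →* GL D.Idx F} (hπ : IsLift c X π) :
    ∀ (word : List ℕ), (∀ i ∈ word, i < D.rank) → MonoAct D X (nW D X word) (wordRefl D word)
  | [], _ => by
    rw [nW_nil]
    exact monoAct_one X
  | i :: w, h => by
    have ih := monoAct_nW c tc ac hA hB hX hπ w (fun j hj => h j (List.mem_cons_of_mem _ hj))
    rw [nW_cons]
    exact (monoAct_nB c tc ac hA hB hX hπ i (h i (by simp)) 1 one_ne_zero).mul ih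

/-- Every element of `N̄` is an element of `H̄` times a word in the `n_p(1)`. -/
theorem NB_decomp (c : DCert D Ns) (tc : TCert D) (ac : ACert D wl ws sc) (hA : CertA D) {bs : List BData}
    (hB : CertB D bs) (hX : StGrp D X) {π : Γ →* GL D.Idx F} (hπ : IsLift c X π) (m : Γ) (hm : m ∈ NB D X) :
    ∃ h ∈ HB D X, ∃ word : List ℕ, (∀ i ∈ word, i < D.rank) ∧ m = h * nW D X word := by
  have hmul : ∀ a b : Γ,
      (∃ h ∈ HB D X, ∃ word : List ℕ, (∀ i ∈ word, i < D.rank) ∧ a = h * nW D X word) →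
      (∃ h ∈ HB D X, ∃ word : List ℕ, (∀ i ∈ word, i < D.rank) ∧ b = h * nW D X word) →
      ∃ h ∈ HB D X, ∃ word : List ℕ, (∀ i ∈ word, i < D.rank) ∧ a * b = h * nW D X word := by
    rintro a b ⟨h₁, hh₁, w₁, hw₁, rfl⟩ ⟨h₂, hh₂, w₂, hw₂, rfl⟩
    refine ⟨h₁ * (nW D X w₁ * h₂ * (nW D X w₁)⁻¹),
      Subgroup.mul_mem _ hh₁ (NB_conj_HB c tc ac hA hB hX hπ (nW_mem_NB w₁ hw₁) hh₂), w₁ ++ w₂, ?_, ?_⟩
    · intro i hi
      rcases List.mem_append.mp hi with h | h
      · exact hw₁ i h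
      · exact hw₂ i h
    · rw [nW_append]
      group
  have hgen : ∀ i < D.rank, ∀ a : F, a ≠ 0 →
      ∃ h ∈ HB D X, ∃ word : List ℕ, (∀ i ∈ word, i < D.rank) ∧ nB D X i a = h * nW D X word := by
    intro i hi a ha
    refine ⟨hBar D X i a, hB_mem_HB hi ha, [i], ?_, ?_⟩
    · intro j hj
      rw [List.mem_singleton] at hj
      rw [hj]
      exact hi
    · rw [nW_cons, nW_nil, mul_one]
      exact nB_eq_hB_mul c hX i hi a
  have hinvw : ∀ word : List ℕ, (∀ i ∈ word, i < D.rank) →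
      ∃ h ∈ HB D X, ∃ word' : List ℕ, (∀ i ∈ word', i < D.rank) ∧ (nW D X word)⁻¹ = h * nW D X word' := by
    intro word
    induction word with
    | nil =>
      intro _
      exact ⟨1, Subgroup.one_mem _, [], by simp, by rw [nW_nil, inv_one, one_mul]⟩
    | cons i w ih =>
      intro hw
      have h1 := ih (fun j hj => hw j (List.mem_cons_of_mem _ hj))
      have hi := hw i (by simp)
      have h2 := hgen i hi (-1) (by simp)
      rw [nW_cons, mul_inv_rev, nB_inv c hX i hi]
      exact hmul _ _ h1 h2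
  unfold NB at hm
  induction hm using Subgroup.closure_induction with
  | mem y hy =>
    obtain ⟨i, hi, a, ha, rfl⟩ := hy
    exact hgen i hi a ha
  | one => exact ⟨1, Subgroup.one_mem _, [], by simp, by rw [nW_nil, mul_one]⟩
  | mul a b _ _ iha ihb => exact hmul a b iha ihb
  | inv a _ iha =>
    obtain ⟨h, hh, w, hw, rfl⟩ := iha
    rw [mul_inv_rev]
    exact hmul _ _ (hinvw w hw) ⟨h⁻¹, Subgroup.inv_mem _ hh, [], by simp, by rw [nW_nil, mul_one]⟩

/-! ### The exchange argument -/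

theorem wordRefl_lt (c : DCert D Ns) : ∀ (word : List ℕ), (∀ i ∈ word, i < D.rank) → ∀ r < D.nroots,
    wordRefl D word r < D.nroots := fun word h r hr => (wordPi_eq c word h r hr).2

theorem wordRefl_neg (c : DCert D Ns) : ∀ (word : List ℕ), (∀ i ∈ word, i < D.rank) → ∀ r < D.nroots,
    wordRefl D word (D.neg r) = D.neg (wordRefl D word r)
  | [], _, r, hr => rfl
  | i :: w, h, r, hr => by
    have ih := wordRefl_neg c w (fun j hj => h j (List.mem_cons_of_mem _ hj)) r hr
    have hi := h i (by simp)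
    have hlt := wordRefl_lt c w (fun j hj => h j (List.mem_cons_of_mem _ hj)) r hr
    show D.reflectRoot i (wordRefl D w (D.neg r)) = D.neg (D.reflectRoot i (wordRefl D w r))
    rw [ih, (facts c.rows (c.ncert i hi) _ hlt).refl_neg]

theorem wordRefl_append (w w' : List ℕ) (r : ℕ) : wordRefl D (w ++ w') r = wordRefl D w (wordRefl D w' r) := by
  unfold wordRefl
  rw [List.foldr_append]

/-- If a word maps the fundamental root `p_j` to a negative root, it splits as `A ++ i :: B` with `B` mapping `p_j`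
to the fundamental root `p_i`. -/
theorem exists_split (c : DCert D Ns) (tc : TCert D) (ac : ACert D wl ws sc) (j : ℕ) (hj : j < D.rank) :
    ∀ (word : List ℕ), (∀ i ∈ word, i < D.rank) → D.IsNegRoot (wordRefl D word (D.simple j)) →
      ∃ (A : List ℕ) (i : ℕ) (B : List ℕ), word = A ++ i :: B ∧ wordRefl D B (D.simple j) = D.simple i
  | [], _, hneg => by
    exfalso
    exact ac.not_pos_and_neg _ (ac.simple j hj).2.1 hneg
  | i :: w, h, hneg => by
    have hw : ∀ k ∈ w, k < D.rank := fun k hk => h k (List.mem_cons_of_mem _ hk)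
    have hi := h i (by simp)
    have hlt := wordRefl_lt c w hw _ (ac.simple j hj).1
    rcases ac.posOrNeg _ hlt with hp | hn
    · by_cases heq : wordRefl D w (D.simple j) = D.simple i
      · exact ⟨[], i, w, rfl, heq⟩
      · exfalso
        have := (reflect_pos_of_ne c ac i hi _ hp heq).1
        exact ac.not_pos_and_neg _ this hneg
    · obtain ⟨A, i', B, hAB, hB⟩ := exists_split c tc ac j hj w hw hn
      exact ⟨i :: A, i', B, by rw [hAB]; rfl, hB⟩

/-- A word in the `n_p(1)` whose image lies in `H` lies in `H̄`. -/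
theorem nW_mem_HB (c : DCert D Ns) (tc : TCert D) (ac : ACert D wl ws sc) (hA : CertA D) {bs : List BData}
    (hB : CertB D bs) (hX : StGrp D X) {π : Γ →* GL D.Idx F} (hπ : IsLift c X π) :
    ∀ (k : ℕ) (word : List ℕ), word.length = k → (∀ i ∈ word, i < D.rank) →
      π (nW D X word) ∈ D.diagonalSubgroup F → nW D X word ∈ HB D X := by
  intro k
  induction k using Nat.strong_induction_on with
  | _ k ih =>
    intro word hlen hword hπw
    rcases List.eq_nil_or_concat word with rfl | ⟨w', j, rfl⟩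
    · rw [nW_nil]
      exact Subgroup.one_mem _
    · rw [List.concat_eq_append] at hlen hword hπw ⊢
      have hw' : ∀ i ∈ w', i < D.rank := fun i hi => hword i (List.mem_append_left _ hi)
      have hj : j < D.rank := hword j (by simp)
      have hsj := (ac.simple j hj).1
      -- the word fixes the roots
      have hfix : ∀ r < D.nroots, wordRefl D (w' ++ [j]) r = r := by
        intro r hr
        obtain ⟨h1, -, a, ha, hact, -⟩ := (monoAct_nW c tc ac hA hB hX hπ _ hword).map c hπ r hr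
        obtain ⟨-, -, a', ha', hact', -⟩ := monoAct_diagonal c tc _ hπw r hr
        have := (hact 1).symm.trans (hact' 1)
        have h2 := congrArg (fun g : GL D.Idx F => (g : Matrix D.Idx D.Idx F)) this
        simp only [xGL_coe, id] at h2
        exact (root_eq_of_x_eq c tc ac _ _ h1 hr _ _ (by rw [mul_one]; exact ha) h2).symm
      -- `w'` maps `p_j` to `-p_j`
      have hneg : D.IsNegRoot (wordRefl D w' (D.simple j)) := by
        have h1 := hfix (D.neg (D.simple j)) (DCert.neg_lt c _ hsj)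
        rw [wordRefl_append] at h1
        have h2 : wordRefl D [j] (D.neg (D.simple j)) = D.simple j := by
          show D.reflectRoot j (D.neg (D.simple j)) = D.simple j
          rw [(facts c.rows (c.ncert j hj) _ hsj).refl_neg, reflectRoot_simple, neg_neg_root c tc ac _ hsj]
        rw [h2] at h1
        rw [h1]
        exact neg_isNeg c tc ac _ (ac.simple j hj).2.1
      obtain ⟨A, i, B, hAB, hBj⟩ := exists_split c tc ac j hj w' hw' hneg
      have hA' : ∀ k ∈ A, k < D.rank := fun k hk => hw' k (by rw [hAB]; exact List.mem_append_left _ hk)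
      have hi : i < D.rank := hw' i (by rw [hAB]; simp)
      have hB' : ∀ k ∈ B, k < D.rank := fun k hk => hw' k (by
        rw [hAB]
        exact List.mem_append_right _ (List.mem_cons_of_mem _ hk))
      -- `n_B n_j n_B⁻¹ = n_i(e)`
      obtain ⟨e, he, hconj⟩ := conj_nB (monoAct_nW c tc ac hA hB hX hπ B hB') c i j hj hBj
      have e1 : nW D X (w' ++ [j]) =
          nW D X A * (nB D X i 1 * nB D X i e) * (nW D X A)⁻¹ * nW D X (A ++ B) := by
        have := hconj 1
        rw [mul_one] at this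
        rw [hAB, nW_append, nW_append, nW_cons, nW_cons, nW_nil, mul_one, nW_append, ← this]
        group
      -- `n_i(1) n_i(e) ∈ H̄`
      have h0 : nB D X i 1 * nB D X i e ∈ HB D X := by
        rw [nB_eq_hB_mul c hX i hi e]
        have h1 := (Subgroup.mem_normalizer_iff.mp (nB_mem_normalizer_HB c tc ac hA hB hX hπ i hi)
          (hBar D X i e)).mp (hB_mem_HB hi he)
        have e2 : nB D X i 1 * (hBar D X i e * nB D X i 1) =
            (nB D X i 1 * hBar D X i e * (nB D X i 1)⁻¹) * (nB D X i 1 * nB D X i 1) := by group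
        rw [e2, nB_sq c hX i hi]
        exact Subgroup.mul_mem _ h1 (Subgroup.inv_mem _ (hB_mem_HB hi (by simp)))
      have h1 : nW D X A * (nB D X i 1 * nB D X i e) * (nW D X A)⁻¹ ∈ HB D X :=
        NB_conj_HB c tc ac hA hB hX hπ (nW_mem_NB A hA') h0
      -- the shorter word
      have hAB' : ∀ k ∈ A ++ B, k < D.rank := by
        intro k hk
        rcases List.mem_append.mp hk with h | h
        · exact hA' k h
        · exact hB' k h
      have hlen' : (A ++ B).length < k := by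
        rw [← hlen, hAB]
        simp only [List.length_append, List.length_cons, List.length_nil]
        omega
      have hπAB : π (nW D X (A ++ B)) ∈ D.diagonalSubgroup F := by
        have : nW D X (A ++ B) =
            (nW D X A * (nB D X i 1 * nB D X i e) * (nW D X A)⁻¹)⁻¹ * nW D X (w' ++ [j]) := by
          rw [e1]
          group
        rw [this, map_mul, map_inv]
        exact Subgroup.mul_mem _ (Subgroup.inv_mem _ (map_HB_le c hπ (Subgroup.mem_map_of_mem π h1))) hπw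
      rw [e1]
      exact Subgroup.mul_mem _ h1 (ih _ hlen' (A ++ B) rfl hAB' hπAB)

/-- The kernel lies in `H̄`. -/
theorem ker_le_HB (c : DCert D Ns) (tc : TCert D) (ac : ACert D wl ws sc) {w : List ℤ} {d : ℕ}
    (gc : GCert D w d) (hA : CertA D) {bs : List BData}
    (hB : CertB D bs) (hX : StGrp D X) {π : Γ →* GL D.Idx F} (hπ : IsLift c X π) (hgen : Gen D X) (g : Γ)
    (hg : π g = 1) : g ∈ HB D X := by
  obtain ⟨hgN, -⟩ := ker_le_NB c tc ac gc hA hB hX hπ hgen g hg
  obtain ⟨h, hh, word, hword, rfl⟩ := NB_decomp c tc ac hA hB hX hπ g hgN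
  have hπw : π (nW D X word) ∈ D.diagonalSubgroup F := by
    have : π (nW D X word) = (π h)⁻¹ := by
      rw [map_mul] at hg
      exact eq_inv_of_mul_eq_one_right hg
    rw [this]
    exact Subgroup.inv_mem _ (map_HB_le c hπ (Subgroup.mem_map_of_mem π hh))
  exact Subgroup.mul_mem _ hh (nW_mem_HB c tc ac hA hB hX hπ _ word rfl hword hπw)

end Cfsg.Agent.Lib.Helper81_StTorus
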