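import Mathlib
import Cfsg.Agent.Lib.Helper72_CT_Certs
import Cfsg.Agent.Lib.Helper81_StTorus
import Cfsg.Agent.Lib.Helper18_ChevJCerts

set_option autoImplicit false

/-!
Curtis–Tits market (helper72, S1164), package TERM: a linear map `σ` of the roots with `σ p_i`, `σ p_k`
positive sends no root of `Φ_ik` other than `p_i`, `p_k` to a fundamental root.
-/

namespace Cfsg.Agent.Lib.Helper24_CT_TERM

open Cfsg Cfsg.Lie Cfsg.Agent.Lib.Helper72_CT
  Cfsg.Agent.Lib.Helper18_ChevFast Cfsg.Agent.Lib.Helper18_ChevEngine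
  Cfsg.Agent.Lib.Helper18_ChevR1 Cfsg.Agent.Lib.Helper18_ChevN Cfsg.Agent.Lib.Helper18_ChevR4
  Cfsg.Agent.Lib.Helper18_ChevSimple Cfsg.Agent.Lib.Helper18_ChevSimple2 Cfsg.Agent.Lib.Helper18_ChevFacts
  Cfsg.Agent.Lib.Helper18_ChevWeyl Cfsg.Agent.Lib.Helper18_ChevDiag Cfsg.Agent.Lib.Helper18_ChevCar
  Cfsg.Agent.Lib.Helper18_ChevTorus Cfsg.Agent.Lib.Helper18_ChevGL Cfsg.Agent.Lib.Helper18_ChevComm
  Cfsg.Agent.Lib.Helper18_ChevComm2 Cfsg.Agent.Lib.Helper18_MatTri Cfsg.Agent.Lib.Helper18_ChevTri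
  Cfsg.Agent.Lib.Helper18_ChevBorel Cfsg.Agent.Lib.Helper18_ChevAdd Cfsg.Agent.Lib.Helper18_ChevUni
  Cfsg.Agent.Lib.Helper18_ChevBN Cfsg.Agent.Lib.Helper18_ChevMono Cfsg.Agent.Lib.Helper18_ChevBNPair
  Cfsg.Agent.Lib.Helper18_ChevLevi Cfsg.Agent.Lib.Helper18_ChevSimp Cfsg.Agent.Lib.Helper18_ChevBruhat
  Cfsg.Agent.Lib.Helper18_ChevJCerts
  Cfsg.Agent.Lib.Helper81_StUniq Cfsg.Agent.Lib.Helper81_StAbs Cfsg.Agent.Lib.Helper81_StL37
  Cfsg.Agent.Lib.Helper81_StBruhat Cfsg.Agent.Lib.Helper81_StMain Cfsg.Agent.Lib.Helper81_StTorus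

variable {D : ChevalleyDatum} {Ns : List NData} {wl : List ℤ} {ws : List (List ℤ)} {sc : ℤ}

/-- the coefficients of `σ (s_j p_j')` in terms of those of `σ p_j'` and `σ p_j` -/
theorem cf_sigma_reflect (c : DCert D Ns) (ac : ACert D wl ws sc) {σ : ℕ → ℕ} (hσ : LinMap D σ)
    {j j' : ℕ} (hj : j < D.rank) (hj' : j' < D.rank) (m : ℕ) :
    cf D ws m (σ (D.reflectRoot j (D.simple j'))) =
      cf D ws m (σ (D.simple j')) - cf D ws m (σ (D.simple j)) * D.cartan j (D.simple j') := by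
  obtain ⟨w', hw'⟩ := hσ.2.2 (fun t => (ws.getD m []).getD t 0)
  have hsj : D.simple j < D.nroots := (ac.simple j hj).1
  have hsj' : D.simple j' < D.nroots := (ac.simple j' hj').1
  have hrl : D.reflectRoot j (D.simple j') < D.nroots := c.reflect_lt j hj _ hsj'
  have e : ∀ s, cf D ws m s = grF D (fun t => (ws.getD m []).getD t 0) s := fun s => rfl
  rw [e, e, e, hw' _ hrl, hw' _ hsj', hw' _ hsj, grF_reflect c j hj w' _ hsj']

/-- a positive root all of whose coefficients off `i'` vanish is `p_i'` -/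
theorem eq_simple_of_cf (ac : ACert D wl ws sc) {r i' : ℕ} (hi' : i' < D.rank) (hr : D.IsPosRoot r)
    (h0 : ∀ m < D.rank, m ≠ i' → cf D ws m r = 0) : r = D.simple i' := by
  by_contra hne
  obtain ⟨m, hm, hmi, hpos⟩ := ac.exists_other r hr i' hi' hne
  have := h0 m hm hmi
  omega

/-- the image of `s_j p_j'` (with `⟨p_j', p_j^∨⟩ < 0`) is not fundamental -/
theorem reflect_not_simple (c : DCert D Ns) (ac : ACert D wl ws sc) {σ : ℕ → ℕ} (hσ : LinMap D σ)
    {j j' i' : ℕ} (hj : j < D.rank) (hj' : j' < D.rank) (hi' : i' < D.rank)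
    (hpj : D.IsPosRoot (σ (D.simple j))) (hpj' : D.IsPosRoot (σ (D.simple j')))
    (hA : D.cartan j (D.simple j') < 0)
    (h : σ (D.reflectRoot j (D.simple j')) = D.simple i') : False := by
  have hE : ∀ m < D.rank, cf D ws m (σ (D.simple j')) -
      cf D ws m (σ (D.simple j)) * D.cartan j (D.simple j') = if m = i' then sc else 0 := by
    intro m hm
    rw [← cf_sigma_reflect c ac hσ hj hj' m, h, ac.cf_simple i' hi' m hm]
  have hnn : ∀ m < D.rank, 0 ≤ cf D ws m (σ (D.simple j')) ∧ 0 ≤ cf D ws m (σ (D.simple j)) :=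
    fun m hm => ⟨(ac.pos_iff _ hpj'.1).mp hpj' m hm, (ac.pos_iff _ hpj.1).mp hpj m hm⟩
  have hz : ∀ m < D.rank, m ≠ i' →
      cf D ws m (σ (D.simple j')) = 0 ∧ cf D ws m (σ (D.simple j)) = 0 := by
    intro m hm hmi
    have h1 := hE m hm
    rw [if_neg hmi] at h1
    obtain ⟨ha, hb⟩ := hnn m hm
    have hbA : cf D ws m (σ (D.simple j)) * D.cartan j (D.simple j') ≤ 0 :=
      mul_nonpos_of_nonneg_of_nonpos hb hA.le
    have ha0 : cf D ws m (σ (D.simple j')) = 0 := by omega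
    refine ⟨ha0, ?_⟩
    rw [ha0, zero_sub, neg_eq_zero] at h1
    rcases mul_eq_zero.mp h1 with h2 | h2
    · exact h2
    · omega
  have e1 : σ (D.simple j') = D.simple i' :=
    eq_simple_of_cf ac hi' hpj' (fun m hm hmi => (hz m hm hmi).1)
  have e2 : σ (D.simple j) = D.simple i' :=
    eq_simple_of_cf ac hi' hpj (fun m hm hmi => (hz m hm hmi).2)
  have h1 := hE i' hi'
  rw [if_pos rfl, e1, e2, ac.cf_simple i' hi' i' hi', if_pos rfl] at h1
  have hsc := ac.sc_pos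
  have : sc * D.cartan j (D.simple j') < 0 := mul_neg_of_pos_of_neg hsc hA
  omega

/-- the image of `s_j p_j'` (with `⟨p_j', p_j^∨⟩ < 0`) is positive -/
theorem reflect_pos (c : DCert D Ns) (ac : ACert D wl ws sc) {σ : ℕ → ℕ} (hσ : LinMap D σ)
    {j j' : ℕ} (hj : j < D.rank) (hj' : j' < D.rank)
    (hpj : D.IsPosRoot (σ (D.simple j))) (hpj' : D.IsPosRoot (σ (D.simple j')))
    (hA : D.cartan j (D.simple j') < 0) :
    D.IsPosRoot (σ (D.reflectRoot j (D.simple j'))) := by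
  have hsj' : D.simple j' < D.nroots := (ac.simple j' hj').1
  have hrl : D.reflectRoot j (D.simple j') < D.nroots := c.reflect_lt j hj _ hsj'
  rw [ac.pos_iff _ (hσ.1 _ hrl)]
  intro m hm
  rw [cf_sigma_reflect c ac hσ hj hj' m]
  have ha := (ac.pos_iff _ hpj'.1).mp hpj' m hm
  have hb := (ac.pos_iff _ hpj.1).mp hpj m hm
  have hbA : cf D ws m (σ (D.simple j)) * D.cartan j (D.simple j') ≤ 0 :=
    mul_nonpos_of_nonneg_of_nonpos hb hA.le
  omega

/-! PKG TERM -/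
theorem terminal {D : ChevalleyDatum} {Ns : List NData} {wl : List ℤ} {ws : List (List ℤ)} {sc : ℤ}
    (c : DCert D Ns) (tc : TCert D) (ac : ACert D wl ws sc) (hdesc : Descent D) (h2 : Rank2Cert D)
    {σ : ℕ → ℕ} (hσ : LinMap D σ) {i k i' : ℕ} (hi : i < D.rank) (hk : k < D.rank) (hik : i ≠ k) (hi' : i' < D.rank)
    (hpi : D.IsPosRoot (σ (D.simple i))) (hpk : D.IsPosRoot (σ (D.simple k)))
    {ρ : ℕ} (hρ : D.InRankTwoSub i k ρ) (h : σ ρ = D.simple i') : ρ = D.simple i ∨ ρ = D.simple k := by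
  rcases ac.posOrNeg ρ hρ.1 with hpos | hneg
  · rcases h2.spec hρ hpos with h1 | h1 | ⟨h1, hA⟩ | ⟨h1, hA⟩
    · exact Or.inl h1
    · exact Or.inr h1
    · exfalso
      rw [h1] at h
      exact reflect_not_simple c ac hσ hi hk hi' hpi hpk hA h
    · exfalso
      rw [h1] at h
      exact reflect_not_simple c ac hσ hk hi hi' hpk hpi hA h
  · exfalso
    have hnp : D.IsPosRoot (D.neg ρ) := neg_isPos c tc ac ρ hneg
    have hnin : D.InRankTwoSub i k (D.neg ρ) := by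
      refine ⟨hnp.1, hρ.2.1, hρ.2.2.1, ?_⟩
      intro m hm hmi hmk
      have h0 : cor D ρ m = 0 := hρ.2.2.2 m hm hmi hmk
      have h1 : cf D ws m ρ = 0 := (ac.cor_zero_iff ρ hρ.1 m hm).mp h0
      have h3 : cf D ws m (D.neg ρ) = 0 := by
        unfold cf at h1 ⊢
        rw [grRoot_neg c tc _ _ hρ.1, h1, neg_zero]
      exact (ac.cor_zero_iff _ hnp.1 m hm).mpr h3
    have hσn : D.IsPosRoot (σ (D.neg ρ)) := by
      rcases h2.spec hnin hnp with h1 | h1 | ⟨h1, hA⟩ | ⟨h1, hA⟩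
      · rw [h1]; exact hpi
      · rw [h1]; exact hpk
      · rw [h1]; exact reflect_pos c ac hσ hi hk hpi hpk hA
      · rw [h1]; exact reflect_pos c ac hσ hk hi hpk hpi hA
    rw [hσ.2.1 ρ hρ.1, h] at hσn
    exact ac.not_pos_and_neg _ hσn (neg_isNeg c tc ac _ (ac.simple i' hi').2.1)

end Cfsg.Agent.Lib.Helper24_CT_TERM
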