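import Mathlib

/-!
# Camina pairs (helper24)

Tools for S4140 (Camina's trichotomy): a trace argument for `C_t × C_t` acting on an abelian group,
the structure of a `t`-group with a unique subgroup of order `t` (self-centralizing elements of
maximal order), the Camina count `|C_G(g)| = |C_{G/N}(gN)|`, and the key lemma.
-/

set_option autoImplicit false

namespace Cfsg.Agent.Lib.Helper24_Camina

open Finset Subgroup
open scoped IsMulCommutative

/-- reindexing: for `0 < k < t`, `t` prime, `a ^ t = 1`: `∑_{i<t} (a^k)^i = ∑_{i<t} a^i`. -/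
theorem sum_pow_pow_eq {R : Type*} [Ring R] {t : ℕ} (ht : t.Prime) (a : R) (ha : a ^ t = 1)
    {k : ℕ} (hk0 : k ≠ 0) (hkt : k < t) :
    ∑ i ∈ range t, (a ^ k) ^ i = ∑ i ∈ range t, a ^ i := by
  have hcop : Nat.Coprime t k := by
    rw [Nat.Prime.coprime_iff_not_dvd ht]
    intro hd
    exact absurd (Nat.le_of_dvd (Nat.pos_of_ne_zero hk0) hd) (not_le.mpr hkt)
  have h1 : ∀ i, (a ^ k) ^ i = a ^ ((i * k) % t) := by
    intro i
    rw [← pow_mul, mul_comm k i, pow_eq_pow_mod (i * k) ha]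
  simp_rw [h1]
  have hmaps : ∀ i ∈ range t, (i * k) % t ∈ range t := by
    intro i _
    exact mem_range.mpr (Nat.mod_lt _ ht.pos)
  have hinj : Set.InjOn (fun i => (i * k) % t) (range t : Set ℕ) := by
    intro i hi j hj hij
    have hi' : i < t := by simpa using hi
    have hj' : j < t := by simpa using hj
    have h2 : i * k ≡ j * k [MOD t] := hij
    have h3 : i ≡ j [MOD t] := Nat.ModEq.cancel_right_of_coprime hcop h2
    exact Nat.ModEq.eq_of_lt_of_lt h3 hi' hj'
  have hsurj : Set.SurjOn (fun i => (i * k) % t) (range t : Set ℕ) (range t : Set ℕ) := by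
    apply Finset.surjOn_of_injOn_of_card_le _ hmaps hinj le_rfl
  exact Finset.sum_nbij (fun i => (i * k) % t) hmaps hinj hsurj (fun _ _ => rfl)

/-- The trace identity: commuting `α β` in a ring with `α^t = 1`, norm of `α` zero and norms of all
`α^i β` zero force `t = 0` in the ring. -/
theorem ring_core {R : Type*} [Ring R] {t : ℕ} (ht : t.Prime) (α β : R) (hc : Commute α β)
    (hα : α ^ t = 1) (h0 : ∑ k ∈ range t, α ^ k = 0)
    (h1 : ∀ i, i < t → ∑ k ∈ range t, (α ^ i * β) ^ k = 0) : (t : R) = 0 := by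
  have hsum : ∑ i ∈ range t, ∑ k ∈ range t, (α ^ i * β) ^ k = 0 :=
    Finset.sum_eq_zero (fun i hi => h1 i (mem_range.mp hi))
  rw [Finset.sum_comm] at hsum
  have hk : ∀ k ∈ range t, ∑ i ∈ range t, (α ^ i * β) ^ k = if k = 0 then (t : R) else 0 := by
    intro k hk
    have hkt : k < t := mem_range.mp hk
    by_cases hk0 : k = 0
    · subst hk0
      simp
    · rw [if_neg hk0]
      have : ∀ i, (α ^ i * β) ^ k = (α ^ k) ^ i * β ^ k := by
        intro i
        rw [(hc.pow_left i).mul_pow, ← pow_mul, ← pow_mul, mul_comm]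
      simp_rw [this]
      rw [← Finset.sum_mul, sum_pow_pow_eq ht α hα hk0 hkt, h0, zero_mul]
  rw [Finset.sum_congr rfl hk] at hsum
  rw [Finset.sum_ite_eq' (range t) 0 (fun _ => (t : R))] at hsum
  simpa [ht.pos] using hsum

/-- In the endomorphism ring of an abelian group: an endomorphism `γ` with `γ^t = 1` and no nonzero
fixed point has zero norm `∑_{k<t} γ^k`. -/
theorem norm_eq_zero {A : Type*} [AddCommGroup A] (t : ℕ) (γ : AddMonoid.End A) (hγ : γ ^ t = 1)
    (hfix : ∀ v, γ v = v → v = 0) : ∑ k ∈ range t, γ ^ k = 0 := by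
  have h := mul_geom_sum γ t
  rw [hγ, sub_self] at h
  ext v
  rw [AddMonoid.End.zero_apply]
  apply hfix
  have h2 : ((γ - 1) * ∑ k ∈ range t, γ ^ k) v = 0 := by rw [h]; rfl
  have h3 : ((γ - 1) * ∑ k ∈ range t, γ ^ k) v
      = γ ((∑ k ∈ range t, γ ^ k) v) - (∑ k ∈ range t, γ ^ k) v := rfl
  rw [h3] at h2
  exact sub_eq_zero.mp h2

variable {G : Type*} [Group G]

variable {G : Type*} [Group G]

/-- conjugation action of the normalizer of an abelian subgroup `V` on `Additive V`, as a monoid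
hom into the endomorphism ring. -/
noncomputable def normRho (V : Subgroup G) [IsMulCommutative V] :
    ↥(Subgroup.normalizer (V : Set G)) →* AddMonoid.End (Additive ↥V) where
  toFun g := AddMonoidHom.mk' (fun v => Additive.ofMul
      (⟨(g : G) * (v.toMul : G) * (g : G)⁻¹,
        (Subgroup.mem_normalizer_iff.mp g.2 _).mp v.toMul.2⟩ : ↥V))
    (by
      intro x y
      apply Additive.toMul.injective
      apply Subtype.ext
      simp [mul_assoc])
  map_one' := by
    refine AddMonoidHom.ext fun v => ?_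
    apply Additive.toMul.injective
    apply Subtype.ext
    show ((1 : ↥(Subgroup.normalizer (V : Set G))) : G) * (v.toMul : G)
      * ((1 : ↥(Subgroup.normalizer (V : Set G))) : G)⁻¹ = _
    simp
    rfl
  map_mul' g h := by
    refine AddMonoidHom.ext fun v => ?_
    apply Additive.toMul.injective
    apply Subtype.ext
    show ((g * h : ↥(Subgroup.normalizer (V : Set G))) : G) * (v.toMul : G)
      * ((g * h : ↥(Subgroup.normalizer (V : Set G))) : G)⁻¹
      = (g : G) * ((h : G) * (v.toMul : G) * (h : G)⁻¹) * (g : G)⁻¹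
    simp [mul_assoc]

theorem normRho_apply (V : Subgroup G) [IsMulCommutative V]
    (g : ↥(Subgroup.normalizer (V : Set G))) (v : Additive ↥V) :
    (((normRho V g) v).toMul : G) = (g : G) * (v.toMul : G) * (g : G)⁻¹ := rfl

theorem normRho_eq_one_iff (V : Subgroup G) [IsMulCommutative V]
    (g : ↥(Subgroup.normalizer (V : Set G))) :
    normRho V g = 1 ↔ ∀ v ∈ V, (g : G) * v * (g : G)⁻¹ = v := by
  constructor
  · intro h v hv
    have := congrArg (fun f : AddMonoid.End (Additive ↥V) =>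
      ((f (Additive.ofMul ⟨v, hv⟩)).toMul : G)) h
    simpa [normRho_apply] using this
  · intro h
    apply AddMonoid.End.ext; intro v
    apply Additive.toMul.injective
    apply Subtype.ext
    rw [normRho_apply]
    exact h _ v.toMul.2

theorem normRho_fix (V : Subgroup G) [IsMulCommutative V]
    (g : ↥(Subgroup.normalizer (V : Set G)))
    (hfix : ∀ v ∈ V, (g : G) * v * (g : G)⁻¹ = v → v = 1) :
    ∀ v : Additive ↥V, normRho V g v = v → v = 0 := by
  intro v hv
  have h1 : ((normRho V g v).toMul : G) = (v.toMul : G) := by rw [hv]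
  rw [normRho_apply] at h1
  have h2 := hfix _ v.toMul.2 h1
  apply Additive.toMul.injective
  apply Subtype.ext
  exact h2

/-- **Trace argument**: two elements `a, b` normalizing the abelian subgroup `V`, inducing commuting
automorphisms of `V` with `a^t`, `(a^i b)^t` trivial on `V` and `a`, `a^i b` fixed-point-free on `V`,
force `V` to have exponent dividing `t`. -/
theorem trace_group (V : Subgroup G) [IsMulCommutative V] {t : ℕ} (ht : t.Prime) (a b : G)
    (ha : a ∈ Subgroup.normalizer (V : Set G)) (hb : b ∈ Subgroup.normalizer (V : Set G))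
    (hcomm : ∀ v ∈ V, (a * b) * v * (a * b)⁻¹ = (b * a) * v * (b * a)⁻¹)
    (hat : ∀ v ∈ V, a ^ t * v * (a ^ t)⁻¹ = v)
    (habt : ∀ i < t, ∀ v ∈ V, (a ^ i * b) ^ t * v * ((a ^ i * b) ^ t)⁻¹ = v)
    (hfa : ∀ v ∈ V, a * v * a⁻¹ = v → v = 1)
    (hfab : ∀ i < t, ∀ v ∈ V, (a ^ i * b) * v * (a ^ i * b)⁻¹ = v → v = 1) :
    ∀ v ∈ V, v ^ t = 1 := by
  set A' : ↥(Subgroup.normalizer (V : Set G)) := ⟨a, ha⟩ with hA'
  set B' : ↥(Subgroup.normalizer (V : Set G)) := ⟨b, hb⟩ with hB'
  set α := normRho V A' with hαdef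
  set β := normRho V B' with hβdef
  have hc : Commute α β := by
    show α * β = β * α
    rw [hαdef, hβdef, ← map_mul, ← map_mul]
    apply AddMonoid.End.ext; intro v
    apply Additive.toMul.injective
    apply Subtype.ext
    rw [normRho_apply, normRho_apply]
    exact hcomm _ v.toMul.2
  have hα : α ^ t = 1 := by
    rw [hαdef, ← map_pow, normRho_eq_one_iff]
    intro v hv
    exact hat v hv
  have h0 : ∑ k ∈ range t, α ^ k = 0 :=
    norm_eq_zero t α hα (normRho_fix V A' (fun v hv h => hfa v hv h))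
  have h1 : ∀ i, i < t → ∑ k ∈ range t, (α ^ i * β) ^ k = 0 := by
    intro i hi
    have e : α ^ i * β = normRho V (A' ^ i * B') := by
      rw [map_mul, map_pow]
    rw [e]
    apply norm_eq_zero t
    · rw [← map_pow, normRho_eq_one_iff]
      intro v hv
      exact habt i hi v hv
    · exact normRho_fix V _ (fun v hv h => hfab i hi v hv h)
  have hz := ring_core ht α β hc hα h0 h1
  intro v hv
  have h2 : (t : AddMonoid.End (Additive ↥V)) (Additive.ofMul ⟨v, hv⟩) = 0 := by
    rw [hz]; rfl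
  rw [AddMonoid.End.natCast_apply] at h2
  have h3 : ((⟨v, hv⟩ : ↥V) ^ t) = 1 := by
    have := congrArg Additive.toMul h2
    simpa using this
  have := congrArg (Subtype.val) h3
  simpa using this

/-- In a `t`-group `T` (inside `Q`) in which two commuting elements of order `t` always generate
the same subgroup, every element of `T` commuting with an element `w ∈ T` of maximal order is a
power of `w`. -/
theorem mem_zpowers_of_max_order {Q : Type*} [Group Q] [Finite Q] {t : ℕ} [ht : Fact t.Prime]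
    (T : Subgroup Q) (hT : IsPGroup t T)
    (H : ∀ a ∈ T, ∀ b ∈ T, orderOf a = t → orderOf b = t → Commute a b → b ∈ zpowers a)
    (w : Q) (hw : w ∈ T) (hmax : ∀ x ∈ T, orderOf x ≤ orderOf w) :
    ∀ v ∈ T, Commute v w → v ∈ zpowers w := by
  have hp := ht.out
  -- orders are powers of t
  have hord : ∀ x ∈ T, ∃ k, orderOf x = t ^ k := by
    intro x hx
    obtain ⟨k, hk⟩ := (IsPGroup.iff_orderOf.mp hT) ⟨x, hx⟩
    exact ⟨k, by rw [← hk, Subgroup.orderOf_mk]⟩
  obtain ⟨e, he⟩ := hord w hw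
  -- strong induction on the order of v
  have key : ∀ n, ∀ v ∈ T, orderOf v = n → Commute v w → v ∈ zpowers w := by
    intro n
    induction n using Nat.strong_induction_on with
    | _ n ih =>
      intro v hv hn hc
      by_cases hv1 : v = 1
      · rw [hv1]; exact one_mem _
      obtain ⟨b, hb⟩ := hord v hv
      have hb1 : b ≠ 0 := by
        intro h0
        rw [h0, pow_zero, orderOf_eq_one_iff] at hb
        exact hv1 hb
      have hbe : b ≤ e := by
        have := hmax v hv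
        rw [hb, he] at this
        exact (Nat.pow_le_pow_iff_right hp.one_lt).mp this
      -- v^t has smaller order
      have hvt : orderOf (v ^ t) = t ^ (b - 1) := by
        rw [orderOf_pow' v hp.ne_zero, hb]
        have : Nat.gcd (t ^ b) t = t := by
          apply Nat.gcd_eq_right
          exact dvd_pow_self t hb1
        rw [this]
        obtain ⟨c, rfl⟩ := Nat.exists_eq_succ_of_ne_zero hb1
        rw [pow_succ, Nat.mul_div_cancel _ hp.pos]
        rfl
      have hlt : orderOf (v ^ t) < n := by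
        rw [hvt, ← hn, hb]
        exact Nat.pow_lt_pow_right hp.one_lt (by omega)
      have hmem := ih _ hlt (v ^ t) (T.pow_mem hv t) rfl (hc.pow_left t)
      have hfin : IsOfFinOrder w := isOfFinOrder_of_finite w
      rw [← mem_powers_iff_mem_zpowers, Submonoid.mem_powers_iff] at hmem
      obtain ⟨k, hk⟩ := hmem
      -- t ∣ k
      have htk : t ∣ k := by
        by_contra hnd
        have hcop : Nat.Coprime (orderOf w) k := by
          rw [he]
          exact Nat.Coprime.pow_left e ((Nat.Prime.coprime_iff_not_dvd hp).mpr hnd)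
        have h1 : orderOf (w ^ k) = orderOf w := hcop.orderOf_pow
        rw [hk, hvt, he] at h1
        have := Nat.pow_right_injective hp.two_le h1
        omega
      obtain ⟨k', rfl⟩ := htk
      set u := v * (w ^ k')⁻¹ with hu
      have hcu : Commute v ((w ^ k')⁻¹) := (hc.pow_right k').inv_right
      have hut : u ^ t = 1 := by
        rw [hu, hcu.mul_pow, inv_pow, ← pow_mul, mul_comm k' t, hk, mul_inv_cancel]
      have huT : u ∈ T := T.mul_mem hv (T.inv_mem (T.pow_mem hw k'))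
      have hvu : v = u * w ^ k' := by rw [hu, inv_mul_cancel_right]
      by_cases hu1 : u = 1
      · rw [hvu, hu1, one_mul]
        exact Subgroup.pow_mem _ (mem_zpowers w) k'
      have huo : orderOf u = t := orderOf_eq_prime hut hu1
      have he1 : e ≠ 0 := by omega
      set a0 := w ^ (t ^ (e - 1)) with ha0
      have ha0T : a0 ∈ T := T.pow_mem hw _
      have ha0t : a0 ^ t = 1 := by
        rw [ha0, ← pow_mul, ← pow_succ, Nat.sub_add_cancel (Nat.one_le_iff_ne_zero.mpr he1), ← he,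
          pow_orderOf_eq_one]
      have ha01 : a0 ≠ 1 := by
        apply pow_ne_one_of_lt_orderOf (pow_ne_zero _ hp.ne_zero)
        rw [he]
        exact Nat.pow_lt_pow_right hp.one_lt (by omega)
      have ha0o : orderOf a0 = t := orderOf_eq_prime ha0t ha01
      have hca : Commute a0 u := by
        have h1 : Commute w u := (hc.symm).mul_right ((Commute.refl w).pow_right k').inv_right
        exact h1.pow_left _
      have hmem2 := H a0 ha0T u huT ha0o huo hca
      have hle : zpowers a0 ≤ zpowers w := by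
        rw [zpowers_le]
        exact Subgroup.pow_mem _ (mem_zpowers w) _
      rw [hvu]
      exact (zpowers w).mul_mem (hle hmem2) (Subgroup.pow_mem _ (mem_zpowers w) k')
  intro v hv hc
  exact key _ v hv rfl hc

/-- If every non-identity element `w` of a Sylow `t`-subgroup `T` of `Q` has `t * orderOf w`
dividing the order of its centralizer, then `T` contains two commuting elements of order `t`
generating different subgroups. -/
theorem exists_pair_of_centralizer_bound {Q : Type*} [Group Q] [Finite Q] {t : ℕ}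
    [ht : Fact t.Prime] (T : Sylow t Q) (hT : (T : Subgroup Q) ≠ ⊥)
    (hbound : ∀ w ∈ (T : Subgroup Q), w ≠ 1 →
      t * orderOf w ∣ Nat.card (centralizer ({w} : Set Q))) :
    ∃ a ∈ (T : Subgroup Q), ∃ b ∈ (T : Subgroup Q),
      orderOf a = t ∧ orderOf b = t ∧ Commute a b ∧ b ∉ zpowers a := by
  have hp := ht.out
  by_contra hcon
  push Not at hcon
  have H : ∀ a ∈ (T : Subgroup Q), ∀ b ∈ (T : Subgroup Q),
      orderOf a = t → orderOf b = t → Commute a b → b ∈ zpowers a :=
    fun a ha b hb h1 h2 h3 => hcon a ha b hb h1 h2 h3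
  -- element of maximal order
  obtain ⟨w0, hw0⟩ := Finite.exists_max (fun x : ↥(T : Subgroup Q) => orderOf (x : Q))
  set w : Q := (w0 : Q) with hwdef
  have hwT : w ∈ (T : Subgroup Q) := w0.2
  have hmax : ∀ x ∈ (T : Subgroup Q), orderOf x ≤ orderOf w := fun x hx => hw0 ⟨x, hx⟩
  have hw1 : w ≠ 1 := by
    intro h1
    obtain ⟨x, hx1⟩ := (Subgroup.ne_bot_iff_exists_ne_one).mp hT
    have h2 := hmax x x.2
    rw [h1, orderOf_one] at h2
    have h3 : orderOf (x : Q) = 1 := le_antisymm h2 (orderOf_pos _)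
    rw [orderOf_eq_one_iff] at h3
    exact hx1 (Subtype.ext h3)
  obtain ⟨e, he⟩ : ∃ e, orderOf w = t ^ e := by
    obtain ⟨k, hk⟩ := (IsPGroup.iff_orderOf.mp T.2) ⟨w, hwT⟩
    exact ⟨k, by rw [← hk, Subgroup.orderOf_mk]⟩
  have hdvd := hbound w hwT hw1
  rw [he, ← pow_succ'] at hdvd
  -- a Sylow t-subgroup R of the centralizer containing w
  set C := centralizer ({w} : Set Q) with hC
  have hwC : w ∈ C := by
    rw [hC, mem_centralizer_singleton_iff]
  have hP0 : IsPGroup t (zpowers (⟨w, hwC⟩ : ↥C)) := by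
    apply IsPGroup.of_card (n := e)
    rw [Nat.card_zpowers, Subgroup.orderOf_mk, he]
  obtain ⟨R, hR⟩ := hP0.exists_le_sylow
  have hRcard : t ^ (e + 1) ∣ Nat.card R := R.pow_dvd_card_of_pow_dvd_card hdvd
  set R' : Subgroup Q := (R : Subgroup ↥C).map C.subtype with hR'
  have hR'card : Nat.card R' = Nat.card R :=
    Subgroup.card_map_of_injective C.subtype_injective
  have hR'p : IsPGroup t R' := R.2.map _
  obtain ⟨T', hT'⟩ := hR'p.exists_le_sylow
  obtain ⟨g, hg⟩ := MulAction.exists_smul_eq Q T' T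
  have hconjT : ∀ x ∈ R', g * x * g⁻¹ ∈ (T : Subgroup Q) := by
    intro x hx
    have h1 : x ∈ (T' : Subgroup Q) := hT' hx
    have h2 : g * x * g⁻¹ ∈ ((g • T' : Sylow t Q) : Subgroup Q) := by
      rw [Sylow.coe_subgroup_smul]
      exact Subgroup.smul_mem_pointwise_smul _ _ _ h1
    rw [hg] at h2
    exact h2
  have hwR' : w ∈ R' := by
    rw [hR', Subgroup.mem_map]
    exact ⟨⟨w, hwC⟩, hR (mem_zpowers _), rfl⟩
  set w' := g * w * g⁻¹ with hw'
  have hw'T : w' ∈ (T : Subgroup Q) := hconjT w hwR'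
  have hw'o : orderOf w' = orderOf w := by
    rw [hw']
    have hs : SemiconjBy g w (g * w * g⁻¹) := by
      show g * w = g * w * g⁻¹ * g
      rw [inv_mul_cancel_right]
    exact (SemiconjBy.orderOf_eq g hs).symm
  have hmax' : ∀ x ∈ (T : Subgroup Q), orderOf x ≤ orderOf w' := by
    intro x hx; rw [hw'o]; exact hmax x hx
  have hkey := mem_zpowers_of_max_order (T : Subgroup Q) T.2 H w' hw'T hmax'
  -- R' conjugated lies in zpowers w'
  have hle : R'.map (MulAut.conj g).toMonoidHom ≤ zpowers w' := by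
    rintro y ⟨x, hx, rfl⟩
    have hxC : x ∈ C := by
      rw [hR'] at hx
      obtain ⟨z, _, rfl⟩ := hx
      exact z.2
    have hcomm : x * w = w * x := by
      rw [hC, mem_centralizer_singleton_iff] at hxC
      exact hxC
    apply hkey _ (hconjT x hx)
    show g * x * g⁻¹ * (g * w * g⁻¹) = g * w * g⁻¹ * (g * x * g⁻¹)
    simp only [mul_assoc, inv_mul_cancel_left]
    rw [← mul_assoc x w, hcomm, mul_assoc]
  have hcard1 : Nat.card (R'.map (MulAut.conj g).toMonoidHom) = Nat.card R' :=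
    Subgroup.card_map_of_injective (MulAut.conj g).injective
  have hcard2 := Subgroup.card_le_of_le hle
  rw [hcard1, hR'card, Nat.card_zpowers, hw'o, he] at hcard2
  have hpos : 0 < Nat.card R := Nat.card_pos
  have := Nat.le_of_dvd hpos hRcard
  have hlt : t ^ e < t ^ (e + 1) := Nat.pow_lt_pow_right hp.one_lt (Nat.lt_succ_self e)
  omega

/-- The Camina-pair condition on a (normal) subgroup `N`. -/
def Cam (N : Subgroup G) : Prop :=
  ∀ g : G, g ∉ N → ∀ n ∈ N, ∃ x : G, x * g * x⁻¹ = g * n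

theorem Cam.orderOf_mul {N : Subgroup G} (h : Cam N) {g n : G} (hg : g ∉ N) (hn : n ∈ N) :
    orderOf (g * n) = orderOf g := by
  obtain ⟨x, hx⟩ := h g hg n hn
  rw [← hx]
  have hs : SemiconjBy x g (x * g * x⁻¹) := by
    show x * g = x * g * x⁻¹ * x
    rw [inv_mul_cancel_right]
  exact (SemiconjBy.orderOf_eq x hs).symm

theorem Cam.pow_order_eq_one {N : Subgroup G} (h : Cam N) {g z : G} (hg : g ∉ N) (hz : z ∈ N)
    (hc : g * z = z * g) : z ^ orderOf g = 1 := by
  have h1 := h.orderOf_mul hg hz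
  have h2 : (g * z) ^ orderOf g = 1 := by rw [← h1, pow_orderOf_eq_one]
  have hc' : Commute g z := hc
  rw [hc'.mul_pow, pow_orderOf_eq_one, one_mul] at h2
  exact h2

/-- An element outside `N` whose image in `G/N` is a `t`-element is itself a `t`-element. -/
theorem Cam.orderOf_eq_prime_pow [Finite G] {N : Subgroup G} (h : Cam N) {t : ℕ} (ht : t.Prime)
    {g : G} (hg : g ∉ N) {a : ℕ} (hga : g ^ (t ^ a) ∈ N) : ∃ c, orderOf g = t ^ c := by
  have hk0 : orderOf g ≠ 0 := (orderOf_pos g).ne'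
  obtain ⟨c, m, hm, hkm⟩ := Nat.exists_eq_pow_mul_and_not_dvd hk0 t ht.ne_one
  refine ⟨c, ?_⟩
  -- g^(t^c) ∈ N
  have hcop : Nat.Coprime (t ^ c) m := Nat.Coprime.pow_left c ((Nat.Prime.coprime_iff_not_dvd ht).mpr hm)
  have hgc : g ^ (t ^ c) ∈ N := by
    -- t^c = gcd-ish: g^(t^a) ∈ N and g^(orderOf g) = 1 ∈ N
    -- the set of exponents n with g^n ∈ N is closed under gcd
    have hgcd : g ^ (Nat.gcd (t ^ a) (orderOf g)) ∈ N := by
      have := Nat.gcd_eq_gcd_ab (t ^ a) (orderOf g)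
      have h2 : g ^ ((Nat.gcd (t ^ a) (orderOf g) : ℕ) : ℤ) ∈ N := by
        rw [this, zpow_add, zpow_mul, zpow_mul]
        apply N.mul_mem
        · apply N.zpow_mem
          rw [zpow_natCast]; exact hga
        · apply N.zpow_mem
          rw [zpow_natCast, pow_orderOf_eq_one]; exact N.one_mem
      rwa [zpow_natCast] at h2
    have hdvd : Nat.gcd (t ^ a) (orderOf g) ∣ t ^ c := by
      rw [hkm]
      have h1 : Nat.gcd (t ^ a) (t ^ c * m) ∣ t ^ a := Nat.gcd_dvd_left _ _
      have h2 : Nat.gcd (t ^ a) (t ^ c * m) ∣ t ^ c * m := Nat.gcd_dvd_right _ _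
      have h3 : Nat.Coprime (Nat.gcd (t ^ a) (t ^ c * m)) m := by
        apply Nat.Coprime.coprime_dvd_left h1
        exact Nat.Coprime.pow_left a ((Nat.Prime.coprime_iff_not_dvd ht).mpr hm)
      exact h3.dvd_of_dvd_mul_right h2
    obtain ⟨d, hd⟩ := hdvd
    rw [hd, pow_mul]
    exact N.pow_mem hgcd d
  -- Bezout: 1 = t^c * x + m * y
  have hbez := Nat.gcd_eq_gcd_ab (t ^ c) m
  rw [hcop.gcd_eq_one] at hbez
  set x := Nat.gcdA (t ^ c) m with hx
  set y := Nat.gcdB (t ^ c) m with hy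
  -- n = (g^(t^c))^(-x) ∈ N, g * n = g^(m*y)
  have hn : (g ^ (t ^ c)) ^ (-x) ∈ N := N.zpow_mem hgc _
  have hgn : g * (g ^ (t ^ c)) ^ (-x) = g ^ ((m : ℤ) * y) := by
    have e1 : (g ^ (t ^ c)) ^ (-x) = g ^ (-(((t ^ c : ℕ) : ℤ) * x)) := by
      rw [← zpow_natCast, ← zpow_mul, mul_neg]
    rw [e1]
    nth_rewrite 1 [← zpow_one g]
    rw [← zpow_add]
    congr 1
    have : ((1 : ℕ) : ℤ) = ((t ^ c : ℕ) : ℤ) * x + (m : ℤ) * y := hbez
    push_cast at this ⊢
    linarith
  have hord := h.orderOf_mul hg hn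
  rw [hgn] at hord
  -- (g^(m*y))^(t^c) = 1
  have hpow : (g ^ ((m : ℤ) * y)) ^ (t ^ c) = 1 := by
    rw [← zpow_natCast, ← zpow_mul]
    have : (m : ℤ) * y * ((t ^ c : ℕ) : ℤ) = ((orderOf g : ℕ) : ℤ) * y := by
      rw [hkm]; push_cast; ring
    rw [this, zpow_mul, zpow_natCast, pow_orderOf_eq_one, one_zpow]
  have hdvd2 : orderOf g ∣ t ^ c := by
    rw [← hord]
    exact orderOf_dvd_of_pow_eq_one hpow
  rw [hkm] at hdvd2 ⊢
  have hm1 : m = 1 := by
    have h1 : m ∣ t ^ c := Dvd.dvd.trans (Dvd.intro_left _ rfl) hdvd2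
    have h2 : Nat.Coprime m (t ^ c) := hcop.symm
    exact Nat.Coprime.eq_one_of_dvd h2 h1
  rw [hm1, mul_one]

/-- From an element outside `N`, a power outside `N` whose `q`-th power is in `N`, `q` prime. -/
theorem exists_prime_pow_mem [Finite G] {N : Subgroup G} [N.Normal] {g : G} (hg : g ∉ N) :
    ∃ q : ℕ, q.Prime ∧ q ∣ N.index ∧ ∃ k : ℕ, g ^ k ∉ N ∧ (g ^ k) ^ q ∈ N := by
  set gb : G ⧸ N := (g : G ⧸ N) with hgb
  have hgb1 : gb ≠ 1 := by
    intro h1
    exact hg ((QuotientGroup.eq_one_iff g).mp h1)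
  set o := orderOf gb with ho
  have ho1 : o ≠ 1 := by
    intro h1
    exact hgb1 (orderOf_eq_one_iff.mp h1)
  have hopos : 0 < o := orderOf_pos gb
  set q := Nat.minFac o with hq
  have hqp : q.Prime := Nat.minFac_prime ho1
  have hqo : q ∣ o := Nat.minFac_dvd o
  have hoidx : o ∣ N.index := by
    rw [Subgroup.index_eq_card]
    exact orderOf_dvd_natCard gb
  refine ⟨q, hqp, hqo.trans hoidx, o / q, ?_, ?_⟩
  · intro hmem
    have h1 : gb ^ (o / q) = 1 := by
      rw [hgb, ← QuotientGroup.mk_pow]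
      exact (QuotientGroup.eq_one_iff _).mpr hmem
    have h2 : o ∣ o / q := orderOf_dvd_of_pow_eq_one h1
    have h3 : o / q < o := Nat.div_lt_self hopos hqp.one_lt
    have h4 : 0 < o / q := Nat.div_pos (Nat.le_of_dvd hopos hqo) hqp.pos
    exact absurd (Nat.le_of_dvd h4 h2) (not_le.mpr h3)
  · rw [← pow_mul, Nat.div_mul_cancel hqo]
    apply (QuotientGroup.eq_one_iff _).mp
    rw [QuotientGroup.mk_pow]
    exact pow_orderOf_eq_one gb

theorem Cam.frobenius [Finite G] {N : Subgroup G} [N.Normal] (h : Cam N)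
    (hcop : Nat.Coprime (Nat.card N) N.index) :
    ∀ x ∈ N, x ≠ 1 → centralizer ({x} : Set G) ≤ N := by
  intro x hx hx1 g hg
  by_contra hgN
  obtain ⟨q, hqp, hqidx, k, hk1, hk2⟩ := exists_prime_pow_mem (N := N) hgN
  have hk2' : (g ^ k) ^ (q ^ 1) ∈ N := by rwa [pow_one]
  obtain ⟨c, hc⟩ := h.orderOf_eq_prime_pow hqp hk1 hk2'
  have hcomm : g ^ k * x = x * g ^ k := by
    rw [mem_centralizer_singleton_iff] at hg
    have : Commute g x := hg
    exact (this.pow_left k)
  have h1 := h.pow_order_eq_one hk1 hx hcomm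
  rw [hc] at h1
  have h2 : orderOf x ∣ q ^ c := orderOf_dvd_of_pow_eq_one h1
  obtain ⟨j, _, hj⟩ := (Nat.dvd_prime_pow hqp).mp h2
  have hj0 : j ≠ 0 := by
    intro h0
    rw [h0, pow_zero, orderOf_eq_one_iff] at hj
    exact hx1 hj
  have hqx : q ∣ orderOf x := by rw [hj]; exact dvd_pow_self q hj0
  have hqN : q ∣ Nat.card N := by
    apply hqx.trans
    have := orderOf_dvd_natCard (⟨x, hx⟩ : ↥N)
    rwa [Subgroup.orderOf_mk] at this
  have := Nat.dvd_gcd hqN hqidx
  rw [hcop.gcd_eq_one] at this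
  exact hqp.one_lt.ne' (Nat.dvd_one.mp this)

theorem card_centralizer_mul_ncard_orbit (g : G) :
    Nat.card (centralizer ({g} : Set G)) * (MulAction.orbit (ConjAct G) g).ncard = Nat.card G := by
  rw [nat_card_centralizer_nat_card_stabilizer, ← MulAction.index_stabilizer,
    Subgroup.card_mul_index]
  rfl

theorem mem_orbit_conjAct_iff (g y : G) :
    y ∈ MulAction.orbit (ConjAct G) g ↔ ∃ x : G, x * g * x⁻¹ = y := by
  rw [ConjAct.mem_orbit_conjAct, isConj_comm, isConj_iff]

/-- **Camina count**: for `g ∉ N` the centralizers of `g` in `G` and of its image in `G ⧸ N` have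
the same order. -/
theorem Cam.card_centralizer [Finite G] {N : Subgroup G} [N.Normal] (h : Cam N) {g : G}
    (hg : g ∉ N) :
    Nat.card (centralizer ({g} : Set G))
      = Nat.card (centralizer ({(g : G ⧸ N)} : Set (G ⧸ N))) := by
  have hpre : (QuotientGroup.mk : G → G ⧸ N) ⁻¹' (MulAction.orbit (ConjAct (G ⧸ N)) (g : G ⧸ N))
      = MulAction.orbit (ConjAct G) g := by
    ext y
    rw [Set.mem_preimage, mem_orbit_conjAct_iff, mem_orbit_conjAct_iff]
    constructor
    · rintro ⟨xb, hxb⟩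
      obtain ⟨x, rfl⟩ := QuotientGroup.mk_surjective xb
      -- y ≡ x g x⁻¹ mod N
      have h1 : ((x * g * x⁻¹ : G) : G ⧸ N) = (y : G ⧸ N) := by
        rw [← hxb]; simp
      have h2 : (x * g * x⁻¹)⁻¹ * y ∈ N := QuotientGroup.eq.mp h1
      -- y = x g x⁻¹ n = x (g n') x⁻¹ with n' = x⁻¹ n x
      set n := (x * g * x⁻¹)⁻¹ * y with hn
      have hn' : x⁻¹ * n * x ∈ N := by
        have := (inferInstance : N.Normal).conj_mem n h2 x⁻¹
        simpa using this
      obtain ⟨z, hz⟩ := h g hg _ hn'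
      refine ⟨x * z, ?_⟩
      have : (x * z) * g * (x * z)⁻¹ = x * (z * g * z⁻¹) * x⁻¹ := by
        simp [mul_assoc]
      rw [this, hz, hn]
      simp [mul_assoc]
    · rintro ⟨x, rfl⟩
      exact ⟨(x : G ⧸ N), by simp⟩
  have hcard := QuotientGroup.card_preimage_mk N
    (MulAction.orbit (ConjAct (G ⧸ N)) (g : G ⧸ N))
  rw [hpre, Nat.card_coe_set_eq, Nat.card_coe_set_eq] at hcard
  have h1 := card_centralizer_mul_ncard_orbit g
  have h2 := card_centralizer_mul_ncard_orbit (g : G ⧸ N)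
  have h3 := Subgroup.card_eq_card_quotient_mul_card_subgroup N
  rw [hcard] at h1
  have hpos1 : 0 < Nat.card N := Nat.card_pos
  have hpos2 : 0 < (MulAction.orbit (ConjAct (G ⧸ N)) (g : G ⧸ N)).ncard := by
    rw [Set.ncard_pos (Set.toFinite _)]
    exact ⟨_, MulAction.mem_orbit_self _⟩
  have : Nat.card (centralizer ({g} : Set G)) * (Nat.card N *
      (MulAction.orbit (ConjAct (G ⧸ N)) (g : G ⧸ N)).ncard)
      = Nat.card (centralizer ({(g : G ⧸ N)} : Set (G ⧸ N))) * (Nat.card N *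
      (MulAction.orbit (ConjAct (G ⧸ N)) (g : G ⧸ N)).ncard) := by
    rw [h1, h3, ← h2]; ring
  exact Nat.eq_of_mul_eq_mul_right (Nat.mul_pos hpos1 hpos2) this

/-- A `t`-element `w` centralizes a subgroup of order divisible by `t` in any normal subgroup `N`
of order divisible by `t`. -/
theorem dvd_card_centralizer_inf [Finite G] {N : Subgroup G} [N.Normal] {t : ℕ} [ht : Fact t.Prime]
    {w : G} {c : ℕ} (hw : orderOf w = t ^ c) (hN : t ∣ Nat.card N) :
    t ∣ Nat.card ↥(centralizer ({w} : Set G) ⊓ N) := by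
  set P := zpowers w with hP
  have hPp : IsPGroup t P := by
    apply IsPGroup.of_card (n := c)
    rw [Nat.card_zpowers, hw]
  let act : MulAction ↥P ↥N :=
    MulAction.compHom ↥N ((MulAut.conjNormal (H := N)).comp P.subtype)
  have hsmul : ∀ (p : ↥P) (n : ↥N), ((p • n : ↥N) : G) = (p : G) * n * (p : G)⁻¹ := by
    intro p n
    rfl
  have hmod := hPp.card_modEq_card_fixedPoints (α := ↥N)
  have hdvd : t ∣ Nat.card (MulAction.fixedPoints ↥P ↥N) := by
    have := (Nat.modEq_zero_iff_dvd.mpr hN)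
    exact Nat.modEq_zero_iff_dvd.mp (hmod.symm.trans this)
  -- the fixed points are C_N(w)
  have e : (MulAction.fixedPoints ↥P ↥N) ≃ ↥(centralizer ({w} : Set G) ⊓ N) :=
    { toFun := fun n => ⟨(n : ↥N), by
        refine Subgroup.mem_inf.mpr ⟨?_, (n : ↥N).2⟩
        rw [mem_centralizer_singleton_iff]
        have h1 := n.2 ⟨w, mem_zpowers w⟩
        have h2 := congrArg (Subtype.val) h1
        rw [hsmul] at h2
        show ((n : ↥N) : G) * w = w * ((n : ↥N) : G)
        have h3 : w * ((n : ↥N) : G) * w⁻¹ = ((n : ↥N) : G) := h2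
        calc ((n : ↥N) : G) * w = (w * ((n : ↥N) : G) * w⁻¹) * w := by rw [h3]
          _ = w * ((n : ↥N) : G) := by rw [inv_mul_cancel_right]⟩
      invFun := fun x => ⟨⟨(x : G), (Subgroup.mem_inf.mp x.2).2⟩, by
        intro p
        apply Subtype.ext
        rw [hsmul]
        obtain ⟨k, hk⟩ := mem_zpowers_iff.mp p.2
        have hx : (x : G) ∈ centralizer ({w} : Set G) := (Subgroup.mem_inf.mp x.2).1
        rw [mem_centralizer_singleton_iff] at hx
        have hc : Commute w (x : G) := hx.symm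
        have hc' : Commute (p : G) (x : G) := by
          rw [← hk]; exact hc.zpow_left k
        show (p : G) * (x : G) * (p : G)⁻¹ = (x : G)
        rw [hc'.eq, mul_inv_cancel_right]⟩
      left_inv := fun n => by apply Subtype.ext; rfl
      right_inv := fun x => by apply Subtype.ext; rfl }
  rw [← Nat.card_congr e]
  exact hdvd

theorem Cam.centralizer_bound [Finite G] {N : Subgroup G} [N.Normal] (h : Cam N) {t : ℕ}
    [ht : Fact t.Prime] (hN : t ∣ Nat.card N) {w : G} (hwN : w ∉ N) {c : ℕ}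
    (hw : orderOf w = t ^ c) :
    t * orderOf (w : G ⧸ N) ∣ Nat.card (centralizer ({(w : G ⧸ N)} : Set (G ⧸ N))) := by
  rw [← h.card_centralizer hwN]
  set C := centralizer ({w} : Set G) with hC
  set f : ↥C →* G ⧸ N := (QuotientGroup.mk' N).comp C.subtype with hf
  have hcard : Nat.card ↥C = Nat.card f.ker * Nat.card f.range := by
    rw [← Subgroup.index_ker, Subgroup.card_mul_index]
  rw [hcard]
  apply mul_dvd_mul
  · -- kernel ≃ C ⊓ N
    have e : ↥f.ker ≃ ↥(C ⊓ N) :=
      { toFun := fun x => ⟨((x : ↥C) : G), Subgroup.mem_inf.mpr ⟨(x : ↥C).2, by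
          have := x.2
          rw [MonoidHom.mem_ker] at this
          exact (QuotientGroup.eq_one_iff _).mp this⟩⟩
        invFun := fun y => ⟨⟨(y : G), (Subgroup.mem_inf.mp y.2).1⟩, by
          rw [MonoidHom.mem_ker]
          exact (QuotientGroup.eq_one_iff _).mpr (Subgroup.mem_inf.mp y.2).2⟩
        left_inv := fun x => by apply Subtype.ext; apply Subtype.ext; rfl
        right_inv := fun y => by apply Subtype.ext; rfl }
    rw [Nat.card_congr e]
    exact dvd_card_centralizer_inf hw hN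
  · have hwC : w ∈ C := by rw [hC, mem_centralizer_singleton_iff]
    have hmem : (w : G ⧸ N) ∈ f.range := ⟨⟨w, hwC⟩, rfl⟩
    have := orderOf_dvd_natCard (⟨(w : G ⧸ N), hmem⟩ : ↥f.range)
    rwa [Subgroup.orderOf_mk] at this

/-- **Key lemma**. Let `t` divide both `|N|` and `|G:N|`, let `M` cover `G/N` and normalize the
abelian `t'`-subgroup `V ≤ N`, and suppose every `t`-element of `M ∩ N` centralizes `V`. Then
`V = 1`. -/
theorem Cam.key [Finite G] {N : Subgroup G} [N.Normal] (h : Cam N) {t : ℕ} [ht : Fact t.Prime]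
    (hN : t ∣ Nat.card N) (hidx : t ∣ N.index) (M : Subgroup G) (hM : M ⊔ N = ⊤)
    (V : Subgroup G) (hVN : V ≤ N) [IsMulCommutative V] (hVcop : Nat.Coprime (Nat.card V) t)
    (hMV : M ≤ normalizer (V : Set G))
    (hcent : ∀ x ∈ M ⊓ N, (∃ k, x ^ (t ^ k) = 1) → x ∈ centralizer (V : Set G)) : V = ⊥ := by
  have hp := ht.out
  -- the surjection M → G/N
  set f : ↥M →* G ⧸ N := (QuotientGroup.mk' N).comp M.subtype with hf
  have hfsurj : Function.Surjective f := by
    intro q
    obtain ⟨g, rfl⟩ := QuotientGroup.mk_surjective q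
    have hg : g ∈ M ⊔ N := by rw [hM]; trivial
    obtain ⟨m, hm, n, hn, rfl⟩ := Subgroup.mem_sup_of_normal_right.mp hg
    refine ⟨⟨m, hm⟩, ?_⟩
    show ((m : G) : G ⧸ N) = ((m * n : G) : G ⧸ N)
    rw [QuotientGroup.eq]
    simpa using hn
  -- Sylow subgroups
  set S : Sylow t ↥M := default with hS
  set Tb : Sylow t (G ⧸ N) := S.mapSurjective hfsurj with hTb
  have hTbne : (Tb : Subgroup (G ⧸ N)) ≠ ⊥ := by
    apply Sylow.ne_bot_of_dvd_card
    rwa [← Subgroup.index_eq_card]
  have hTbmem : ∀ q ∈ (Tb : Subgroup (G ⧸ N)), ∃ s : G, s ∈ M ∧ (∃ c, orderOf s = t ^ c) ∧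
      (s : G ⧸ N) = q ∧ ∀ hs : s ∈ M, (⟨s, hs⟩ : ↥M) ∈ S := by
    intro q hq
    rw [hTb, Sylow.coe_mapSurjective, Subgroup.mem_map] at hq
    obtain ⟨s, hs, rfl⟩ := hq
    refine ⟨(s : G), s.2, ?_, rfl, fun _ => hs⟩
    obtain ⟨c, hc⟩ := (IsPGroup.iff_orderOf.mp S.2) ⟨s, hs⟩
    refine ⟨c, ?_⟩
    rw [← hc, Subgroup.orderOf_mk, Subgroup.orderOf_coe]
  -- the bound
  have hbound : ∀ w ∈ (Tb : Subgroup (G ⧸ N)), w ≠ 1 →
      t * orderOf w ∣ Nat.card (centralizer ({w} : Set (G ⧸ N))) := by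
    intro w hw hw1
    obtain ⟨s, _, ⟨c, hc⟩, rfl, _⟩ := hTbmem w hw
    have hsN : s ∉ N := fun hmem => hw1 ((QuotientGroup.eq_one_iff s).mpr hmem)
    exact h.centralizer_bound hN hsN hc
  obtain ⟨ab, hab, bb, hbb, hoa, hob, hcomm, hnot⟩ :=
    exists_pair_of_centralizer_bound Tb hTbne hbound
  obtain ⟨a, haM, ⟨ca, hca⟩, rfl, haS⟩ := hTbmem ab hab
  obtain ⟨b, hbM, ⟨cb, hcb⟩, rfl, hbS⟩ := hTbmem bb hbb
  -- S' : the Sylow subgroup inside G
  -- general facts on elements of S
  have hSelt : ∀ s : G, ∀ hs : s ∈ M, (⟨s, hs⟩ : ↥M) ∈ S → ∃ c, orderOf s = t ^ c := by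
    intro s hs hsS
    obtain ⟨c, hc⟩ := (IsPGroup.iff_orderOf.mp S.2) ⟨⟨s, hs⟩, hsS⟩
    refine ⟨c, ?_⟩
    rw [← hc, Subgroup.orderOf_mk]
    exact (Subgroup.orderOf_mk s hs).symm
  -- elements of S in N centralize V
  have hSN : ∀ s : G, ∀ hs : s ∈ M, (⟨s, hs⟩ : ↥M) ∈ S → s ∈ N → ∀ v ∈ V, s * v * s⁻¹ = v := by
    intro s hs hsS hsN v hv
    obtain ⟨c, hc⟩ := hSelt s hs hsS
    have h1 : s ∈ centralizer (V : Set G) :=
      hcent s (Subgroup.mem_inf.mpr ⟨hs, hsN⟩) ⟨c, by rw [← hc, pow_orderOf_eq_one]⟩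
    rw [Subgroup.mem_centralizer_iff] at h1
    rw [← h1 v hv, mul_inv_cancel_right]
  -- elements of S outside N are fixed-point-free on V
  have hfix : ∀ s : G, s ∈ M → (∃ c, orderOf s = t ^ c) → s ∉ N →
      ∀ v ∈ V, s * v * s⁻¹ = v → v = 1 := by
    intro s _ ⟨c, hc⟩ hsN v hv hsv
    have hcomm' : s * v = v * s := by
      calc s * v = (s * v * s⁻¹) * s := by rw [inv_mul_cancel_right]
        _ = v * s := by rw [hsv]
    have h1 := h.pow_order_eq_one hsN (hVN hv) hcomm'
    rw [hc] at h1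
    have h2 : orderOf v ∣ t ^ c := orderOf_dvd_of_pow_eq_one h1
    have h3 : orderOf v ∣ Nat.card V := by
      have := orderOf_dvd_natCard (⟨v, hv⟩ : ↥V)
      rwa [Subgroup.orderOf_mk] at this
    have h4 : Nat.Coprime (Nat.card V) (t ^ c) := Nat.Coprime.pow_right c hVcop
    have h5 : orderOf v = 1 := Nat.eq_one_of_dvd_coprimes h4 h3 h2
    exact orderOf_eq_one_iff.mp h5
  -- membership of products in S
  have hSmul : ∀ (x y : G) (hx : x ∈ M) (hy : y ∈ M), (⟨x, hx⟩ : ↥M) ∈ S → (⟨y, hy⟩ : ↥M) ∈ S →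
      (⟨x * y, M.mul_mem hx hy⟩ : ↥M) ∈ S := by
    intro x y hx hy h1 h2
    exact S.mul_mem h1 h2
  have hSpow : ∀ (x : G) (hx : x ∈ M) (k : ℕ), (⟨x, hx⟩ : ↥M) ∈ S →
      (⟨x ^ k, M.pow_mem hx k⟩ : ↥M) ∈ S := by
    intro x hx k h1
    exact S.pow_mem h1 k
  have hSinv : ∀ (x : G) (hx : x ∈ M), (⟨x, hx⟩ : ↥M) ∈ S →
      (⟨x⁻¹, M.inv_mem hx⟩ : ↥M) ∈ S := by
    intro x hx h1
    exact S.inv_mem h1
  have haS' := haS haM
  have hbS' := hbS hbM
  -- a, b ∉ N etc
  have hqa : ((a : G) : G ⧸ N) ^ t = 1 := by rw [← hoa, pow_orderOf_eq_one]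
  have hqb : ((b : G) : G ⧸ N) ^ t = 1 := by rw [← hob, pow_orderOf_eq_one]
  have haN : a ∉ N := by
    intro hmem
    have : ((a : G) : G ⧸ N) = 1 := (QuotientGroup.eq_one_iff a).mpr hmem
    rw [this, orderOf_one] at hoa
    exact hp.one_lt.ne hoa
  have habN : ∀ i : ℕ, a ^ i * b ∉ N := by
    intro i hmem
    have h1 : ((a ^ i * b : G) : G ⧸ N) = 1 := (QuotientGroup.eq_one_iff _).mpr hmem
    rw [QuotientGroup.mk_mul, QuotientGroup.mk_pow] at h1
    apply hnot
    have : ((b : G) : G ⧸ N) = (((a : G) : G ⧸ N) ^ i)⁻¹ := eq_inv_of_mul_eq_one_right h1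
    rw [this]
    exact Subgroup.inv_mem _ (Subgroup.pow_mem _ (mem_zpowers _) i)
  have hVt : ∀ v ∈ V, v ^ t = 1 := by
    apply trace_group V hp a b (hMV haM) (hMV hbM)
    · -- commutation
      intro v hv
      set x := (b * a)⁻¹ * (a * b) with hx
      have hxM : x ∈ M := M.mul_mem (M.inv_mem (M.mul_mem hbM haM)) (M.mul_mem haM hbM)
      have hxS : (⟨x, hxM⟩ : ↥M) ∈ S :=
        hSmul _ _ _ _ (hSinv _ _ (hSmul _ _ _ _ hbS' haS')) (hSmul _ _ _ _ haS' hbS')
      have hxN : x ∈ N := by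
        apply (QuotientGroup.eq_one_iff x).mp
        rw [hx, QuotientGroup.mk_mul, QuotientGroup.mk_inv, QuotientGroup.mk_mul,
          QuotientGroup.mk_mul, hcomm.eq, inv_mul_cancel]
      have h1 := hSN x hxM hxS hxN v hv
      have h2 : a * b = (b * a) * x := by rw [hx, mul_inv_cancel_left]
      rw [h2, mul_inv_rev, mul_assoc (b * a) x v, ← mul_assoc ((b * a) * (x * v)),
        mul_assoc (b * a) (x * v), h1]
    · intro v hv
      apply hSN (a ^ t) (M.pow_mem haM t) (hSpow a haM t haS') _ v hv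
      apply (QuotientGroup.eq_one_iff _).mp
      rw [QuotientGroup.mk_pow, hqa]
    · intro i _ v hv
      have hM1 : a ^ i * b ∈ M := M.mul_mem (M.pow_mem haM i) hbM
      have hS1 : (⟨a ^ i * b, hM1⟩ : ↥M) ∈ S := hSmul _ _ _ _ (hSpow a haM i haS') hbS'
      apply hSN ((a ^ i * b) ^ t) (M.pow_mem hM1 t) (hSpow _ hM1 t hS1) _ v hv
      apply (QuotientGroup.eq_one_iff _).mp
      rw [QuotientGroup.mk_pow, QuotientGroup.mk_mul, QuotientGroup.mk_pow,
        (hcomm.pow_left i).mul_pow, ← pow_mul, mul_comm i t, pow_mul, hqa, one_pow, hqb, mul_one]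
    · exact hfix a haM ⟨ca, hca⟩ haN
    · intro i _
      have hM1 : a ^ i * b ∈ M := M.mul_mem (M.pow_mem haM i) hbM
      have hS1 : (⟨a ^ i * b, hM1⟩ : ↥M) ∈ S := hSmul _ _ _ _ (hSpow a haM i haS') hbS'
      exact hfix _ hM1 (hSelt _ hM1 hS1) (habN i)
  -- V = ⊥
  rw [Subgroup.eq_bot_iff_forall]
  intro v hv
  have h1 := hVt v hv
  have h2 : orderOf v ∣ t := orderOf_dvd_of_pow_eq_one h1
  have h3 : orderOf v ∣ Nat.card V := by
    have := orderOf_dvd_natCard (⟨v, hv⟩ : ↥V)
    rwa [Subgroup.orderOf_mk] at this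
  have h5 : orderOf v = 1 := Nat.eq_one_of_dvd_coprimes hVcop h3 h2
  exact orderOf_eq_one_iff.mp h5

end Cfsg.Agent.Lib.Helper24_Camina
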