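import Mathlib
import Cfsg.Agent.Lib.Helper32_Sylow
import Cfsg.Agent.Lib.Helper1_FPFAut
import Cfsg.Agent.Lib.Helper1_Thompson
import Cfsg.Agent.Lib.Helper24_Camina

/-!
# Camina pairs, main argument (helper24)

Frattini arguments and the three applications of the key lemma `Cam.key`:
* `Cam.lemmaA`: if `p ∣ gcd(|N|, |G:N|)`, a Sylow `p`-subgroup of `N` is self-normalizing in `N`
  (up to `p`-power order);
* `Cam.lemmaC`: at most one prime divides `gcd(|N|, |G:N|)`;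
* `Cam.final`: (uses Thompson's theorem S0033) `p ∣ gcd`, `q ∣ |N|`, `r ∣ |G:N|`, `q, r ≠ p` is
  impossible.
-/

set_option autoImplicit false

namespace Cfsg.Agent.Lib.Helper24_Camina

open Subgroup

variable {G : Type*} [Group G]

/-- A `p`-element of `N` normalizing a Sylow `p`-subgroup `P0` of `N` lies in `P0`. -/
theorem mem_of_normalizes_sylow [Finite G] {p : ℕ} [hp : Fact p.Prime] {P0 N : Subgroup G}
    (hP0N : P0 ≤ N) (hP0 : IsPGroup p P0) (hidx : ¬ p ∣ P0.relIndex N) {x : G} (hxN : x ∈ N)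
    (hxn : x ∈ normalizer (P0 : Set G)) {k : ℕ} (hx : orderOf x = p ^ k) : x ∈ P0 := by
  set K := zpowers x ⊔ P0 with hK
  have hzp : IsPGroup p (zpowers x) := by
    apply IsPGroup.of_card (n := k)
    rw [Nat.card_zpowers, hx]
  have hzn : zpowers x ≤ normalizer (P0 : Set G) := by
    rw [zpowers_le]; exact hxn
  have hKp : IsPGroup p K := IsPGroup.to_sup_of_normal_right' hzp hP0 hzn
  have hKN : K ≤ N := sup_le (by rw [zpowers_le]; exact hxN) hP0N
  have hP0K : P0 ≤ K := le_sup_right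
  have h1 : P0.relIndex K * K.relIndex N = P0.relIndex N := relIndex_mul_relIndex _ _ _ hP0K hKN
  have h2 : ¬ p ∣ P0.relIndex K := fun hd => hidx (h1 ▸ Dvd.dvd.mul_right hd _)
  have h3 : Nat.card P0 * P0.relIndex K = Nat.card K :=
    Cfsg.Agent.Lib.Helper32_Sylow.card_mul_relIndex' hP0K
  obtain ⟨a, ha⟩ := IsPGroup.iff_card.mp hKp
  have h4 : P0.relIndex K ∣ p ^ a := by rw [← ha, ← h3]; exact Dvd.intro_left _ rfl
  obtain ⟨j, _, hj⟩ := (Nat.dvd_prime_pow hp.out).mp h4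
  have hj0 : j = 0 := by
    by_contra hne
    exact h2 (hj ▸ dvd_pow_self p hne)
  rw [hj0, pow_zero] at hj
  have h5 : K ≤ P0 := relIndex_eq_one.mp hj
  exact h5 (le_sup_left (a := zpowers x) (mem_zpowers x))

/-- Nested Frattini argument: inside a subgroup `M1`, a Sylow `q`-subgroup `Q1` of `N ⊓ M1`
such that `M1 = (N ⊓ M1) · N_{M1}(Q1)`. -/
theorem nested_frattini [Finite G] (q : ℕ) [hq : Fact q.Prime] (N : Subgroup G) [N.Normal]
    (M1 : Subgroup G) :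
    ∃ Q1 : Subgroup G, Q1 ≤ N ⊓ M1 ∧ IsPGroup q Q1 ∧ (q ∣ Nat.card ↥(N ⊓ M1) → Q1 ≠ ⊥) ∧
      ∀ m ∈ M1, ∃ c ∈ N ⊓ M1, ∃ n ∈ M1 ⊓ normalizer (Q1 : Set G), m = c * n := by
  set S' : Sylow q ↥M1 := default with hS'
  set C : Subgroup ↥M1 := N.subgroupOf M1 with hC
  set Q1' : Subgroup ↥M1 := (S' : Subgroup ↥M1) ⊓ C with hQ1'
  refine ⟨Q1'.map M1.subtype, ?_, ?_, ?_, ?_⟩
  · rintro x ⟨y, hy, rfl⟩
    exact Subgroup.mem_inf.mpr ⟨mem_subgroupOf.mp hy.2, y.2⟩
  · exact (S'.2.to_le inf_le_left).map _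
  · intro hdvd hbot
    rw [map_eq_bot_iff_of_injective _ M1.subtype_injective] at hbot
    have h1 := Cfsg.Agent.Lib.Helper32_Sylow.not_dvd_relIndex_inf_normal S' C
    rw [← hQ1', hbot, relIndex_bot_left] at h1
    apply h1
    have : Nat.card C = Nat.card ↥(N ⊓ M1) := by
      rw [← subgroupOf_map_subtype N M1]
      exact (Subgroup.card_map_of_injective M1.subtype_injective).symm
    rw [this]; exact hdvd
  · intro m hm
    obtain ⟨c, hc, n, hn, hcn⟩ := Cfsg.Agent.Lib.Helper32_Sylow.frattini_inf S' C ⟨m, hm⟩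
    refine ⟨(c : G), Subgroup.mem_inf.mpr ⟨mem_subgroupOf.mp hc, c.2⟩, (n : G),
      Subgroup.mem_inf.mpr ⟨n.2, ?_⟩, ?_⟩
    · apply le_normalizer_map M1.subtype
      exact ⟨n, hn, rfl⟩
    · have := congrArg Subtype.val hcn
      simpa using this

/-- Closure of a subgroup `M` under conjugation of `V` gives `M ≤ N(V)`. -/
theorem le_normalizer_of_conj_mem {M V : Subgroup G}
    (h : ∀ m ∈ M, ∀ v ∈ V, m * v * m⁻¹ ∈ V) : M ≤ normalizer (V : Set G) := by
  intro m hm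
  rw [mem_normalizer_iff]
  intro v
  constructor
  · exact h m hm v
  · intro hv
    have := h m⁻¹ (M.inv_mem hm) _ hv
    simpa [mul_assoc] using this

/-- The centre of a subgroup `Q`, as a subgroup of the ambient group. -/
def zOf (Q : Subgroup G) : Subgroup G := Q ⊓ centralizer (Q : Set G)

theorem mem_zOf {Q : Subgroup G} {v : G} : v ∈ zOf Q ↔ v ∈ Q ∧ ∀ u ∈ Q, u * v = v * u := by
  unfold zOf
  rw [Subgroup.mem_inf, mem_centralizer_iff]
  rfl

instance zOf_comm (Q : Subgroup G) : IsMulCommutative ↥(zOf Q) :=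
  ⟨⟨fun a b => Subtype.ext ((mem_zOf.mp b.2).2 a (mem_zOf.mp a.2).1)⟩⟩

theorem zOf_le (Q : Subgroup G) : zOf Q ≤ Q := inf_le_left

theorem normalizer_le_normalizer_zOf (Q : Subgroup G) :
    normalizer (Q : Set G) ≤ normalizer (zOf Q : Set G) := by
  apply le_normalizer_of_conj_mem
  intro m hm v hv
  rw [mem_zOf] at hv ⊢
  refine ⟨(mem_normalizer_iff.mp hm v).mp hv.1, ?_⟩
  intro u hu
  have hu' : m⁻¹ * u * m ∈ Q := (mem_normalizer_iff''.mp hm u).mp hu
  have := hv.2 _ hu'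
  calc u * (m * v * m⁻¹) = m * ((m⁻¹ * u * m) * v) * m⁻¹ := by simp [mul_assoc]
    _ = m * (v * (m⁻¹ * u * m)) * m⁻¹ := by rw [this]
    _ = m * v * m⁻¹ * u := by simp [mul_assoc]

theorem zOf_ne_bot [Finite G] {q : ℕ} [hq : Fact q.Prime] {Q : Subgroup G} (hQ : IsPGroup q Q)
    (hne : Q ≠ ⊥) : zOf Q ≠ ⊥ := by
  have : Nontrivial ↥Q := (Subgroup.nontrivial_iff_ne_bot Q).mpr hne
  have := hQ.center_nontrivial
  obtain ⟨z, hz⟩ := exists_ne (1 : ↥(center ↥Q))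
  intro hbot
  apply hz
  have hmem : ((z : ↥Q) : G) ∈ zOf Q := by
    rw [mem_zOf]
    refine ⟨(z : ↥Q).2, ?_⟩
    intro u hu
    have := Subgroup.mem_center_iff.mp z.2 ⟨u, hu⟩
    exact congrArg Subtype.val this
  rw [hbot, Subgroup.mem_bot] at hmem
  apply Subtype.ext
  apply Subtype.ext
  exact hmem

theorem coprime_card_of_isPGroup [Finite G] {q p : ℕ} [hq : Fact q.Prime] [hp : Fact p.Prime]
    (hqp : q ≠ p) {V : Subgroup G} (hV : IsPGroup q V) : Nat.Coprime (Nat.card V) p := by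
  obtain ⟨a, ha⟩ := IsPGroup.iff_card.mp hV
  rw [ha]
  exact Nat.Coprime.pow_left a ((Nat.coprime_primes hq.out hp.out).mpr hqp)

/-- order of an element killed by a prime power -/
theorem exists_orderOf_eq_of_pow {p : ℕ} (hp : p.Prime) {x : G} {k : ℕ} (hx : x ^ (p ^ k) = 1) :
    ∃ j, orderOf x = p ^ j := by
  obtain ⟨j, _, hj⟩ := (Nat.dvd_prime_pow hp).mp (orderOf_dvd_of_pow_eq_one hx)
  exact ⟨j, hj⟩

section main

variable [Finite G] {N : Subgroup G} [N.Normal]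

/-- basic facts on `P0 = Sg ⊓ N`. -/
theorem sylow_inf_facts {p : ℕ} [hp : Fact p.Prime] (Sg : Sylow p G) (hpN : p ∣ Nat.card N) :
    ((Sg : Subgroup G) ⊓ N) ≤ N ∧ IsPGroup p ↥((Sg : Subgroup G) ⊓ N) ∧
    ¬ p ∣ ((Sg : Subgroup G) ⊓ N).relIndex N ∧ ((Sg : Subgroup G) ⊓ N) ≠ ⊥ ∧
    ∀ g : G, ∃ c ∈ N, ∃ n ∈ normalizer ((((Sg : Subgroup G) ⊓ N : Subgroup G)) : Set G),
      g = c * n := by
  refine ⟨inf_le_right, Sg.2.to_le inf_le_left,
    Cfsg.Agent.Lib.Helper32_Sylow.not_dvd_relIndex_inf_normal Sg N, ?_,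
    fun g => Cfsg.Agent.Lib.Helper32_Sylow.frattini_inf Sg N g⟩
  intro hbot
  have h1 := Cfsg.Agent.Lib.Helper32_Sylow.not_dvd_relIndex_inf_normal Sg N
  rw [hbot, relIndex_bot_left] at h1
  exact h1 hpN

/-- **Lemma A**: the Sylow `p`-subgroup `P0` of `N` is self-normalizing in `N` (no other prime
divides `|N_N(P0)|`). -/
theorem Cam.lemmaA (h : Cam N) {p : ℕ} [hp : Fact p.Prime] (hpN : p ∣ Nat.card N)
    (hpI : p ∣ N.index) (Sg : Sylow p G) {q : ℕ} [hq : Fact q.Prime] (hqp : q ≠ p) :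
    ¬ q ∣ Nat.card ↥(N ⊓ normalizer ((((Sg : Subgroup G) ⊓ N : Subgroup G)) : Set G)) := by
  intro hqd
  obtain ⟨hP0N, hP0p, hP0idx, hP0ne, hfr1⟩ := sylow_inf_facts Sg hpN
  set P0 : Subgroup G := (Sg : Subgroup G) ⊓ N with hP0
  set M1 : Subgroup G := normalizer (P0 : Set G) with hM1
  obtain ⟨Q1, hQ1le, hQ1p, hQ1ne, hfr2⟩ := nested_frattini q N M1
  have hQ1ne' : Q1 ≠ ⊥ := hQ1ne hqd
  set M : Subgroup G := M1 ⊓ normalizer (Q1 : Set G) with hM
  have hMtop : M ⊔ N = ⊤ := by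
    rw [eq_top_iff]
    intro g _
    obtain ⟨c, hc, n, hn, rfl⟩ := hfr1 g
    obtain ⟨c', hc', n', hn', rfl⟩ := hfr2 n hn
    rw [← mul_assoc, sup_comm]
    exact Subgroup.mul_mem_sup (N.mul_mem hc (Subgroup.mem_inf.mp hc').1) hn'
  have hVne := zOf_ne_bot hQ1p hQ1ne'
  apply hVne
  apply h.key hpN hpI M hMtop (zOf Q1) ((zOf_le Q1).trans (hQ1le.trans inf_le_left))
    (coprime_card_of_isPGroup hqp (hQ1p.to_le (zOf_le Q1)))
    (inf_le_right.trans (normalizer_le_normalizer_zOf Q1))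
  rintro x hx ⟨k, hk⟩
  obtain ⟨hxM, hxN⟩ := Subgroup.mem_inf.mp hx
  obtain ⟨hxM1, hxQ1⟩ := Subgroup.mem_inf.mp hxM
  obtain ⟨j, hj⟩ := exists_orderOf_eq_of_pow hp.out hk
  have hxP0 : x ∈ P0 := mem_of_normalizes_sylow hP0N hP0p hP0idx hxN hxM1 hj
  have hdisj : Disjoint P0 Q1 := IsPGroup.disjoint_of_ne p q hqp.symm P0 Q1 hP0p hQ1p
  have hcomm : ∀ u ∈ Q1, x * u = u * x := by
    intro u hu
    have hc1 : x * u * x⁻¹ * u⁻¹ ∈ Q1 :=
      Q1.mul_mem ((mem_normalizer_iff.mp hxQ1 u).mp hu) (Q1.inv_mem hu)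
    have huM1 : u ∈ M1 := (Subgroup.mem_inf.mp (hQ1le hu)).2
    have hc2 : x * u * x⁻¹ * u⁻¹ ∈ P0 := by
      have h1 : u * x⁻¹ * u⁻¹ ∈ P0 := (mem_normalizer_iff.mp huM1 x⁻¹).mp (P0.inv_mem hxP0)
      have := P0.mul_mem hxP0 h1
      simpa [mul_assoc] using this
    have h1 : x * u * x⁻¹ * u⁻¹ = 1 := by
      have := (Subgroup.disjoint_def.mp hdisj) hc2 hc1
      exact this
    calc x * u = (x * u * x⁻¹ * u⁻¹) * u * x := by simp [mul_assoc]
      _ = u * x := by rw [h1, one_mul]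
  rw [mem_centralizer_iff]
  intro v hv
  exact (hcomm v ((zOf_le Q1) hv)).symm

/-- **Lemma C**: at most one prime divides both `|N|` and `|G:N|`. -/
theorem Cam.lemmaC (h : Cam N) {p : ℕ} [hp : Fact p.Prime] (hpN : p ∣ Nat.card N)
    (hpI : p ∣ N.index) {r : ℕ} [hr : Fact r.Prime] (hrp : r ≠ p) (hrN : r ∣ Nat.card N)
    (hrI : r ∣ N.index) : False := by
  set Sg : Sylow p G := default with hSg
  obtain ⟨hP0N, hP0p, hP0idx, hP0ne, hfr1⟩ := sylow_inf_facts Sg hpN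
  have hA := h.lemmaA hpN hpI Sg hrp
  set P0 : Subgroup G := (Sg : Subgroup G) ⊓ N with hP0
  set M1 : Subgroup G := normalizer (P0 : Set G) with hM1
  have hMtop : M1 ⊔ N = ⊤ := by
    rw [eq_top_iff]
    intro g _
    obtain ⟨c, hc, n, hn, rfl⟩ := hfr1 g
    rw [sup_comm]
    exact Subgroup.mul_mem_sup hc hn
  apply zOf_ne_bot hP0p hP0ne
  apply h.key hrN hrI M1 hMtop (zOf P0) ((zOf_le P0).trans hP0N)
    (coprime_card_of_isPGroup hrp.symm (hP0p.to_le (zOf_le P0)))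
    (normalizer_le_normalizer_zOf P0)
  rintro x hx ⟨k, hk⟩
  obtain ⟨hxM1, hxN⟩ := Subgroup.mem_inf.mp hx
  have hx' : x ∈ N ⊓ M1 := Subgroup.mem_inf.mpr ⟨hxN, hxM1⟩
  have h1 : orderOf x ∣ r ^ k := orderOf_dvd_of_pow_eq_one hk
  have h2 : orderOf x ∣ Nat.card ↥(N ⊓ M1) := by
    have := orderOf_dvd_natCard (⟨x, hx'⟩ : ↥(N ⊓ M1))
    rwa [Subgroup.orderOf_mk] at this
  have h3 : Nat.Coprime (Nat.card ↥(N ⊓ M1)) (r ^ k) :=
    Nat.Coprime.pow_right k ((Nat.Prime.coprime_iff_not_dvd hr.out).mpr hA).symm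
  have h4 : orderOf x = 1 := Nat.eq_one_of_dvd_coprimes h3 h2 h1
  rw [orderOf_eq_one_iff] at h4
  rw [h4]
  exact Subgroup.one_mem _

/-- **Final step**: `p ∣ gcd(|N|, |G:N|)`, another prime `q ∣ |N|` and another prime `r ∣ |G:N|`
are impossible. -/
theorem Cam.final (h : Cam N) {p : ℕ} [hp : Fact p.Prime] (hpN : p ∣ Nat.card N)
    (hpI : p ∣ N.index) {q : ℕ} [hq : Fact q.Prime] (hqp : q ≠ p) (hqN : q ∣ Nat.card N)
    {r : ℕ} [hr : Fact r.Prime] (hrp : r ≠ p) (hrI : r ∣ N.index) : False := by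
  have hrN : ¬ r ∣ Nat.card N := fun hd => h.lemmaC hpN hpI hrp hd hrI
  -- an element y of order r outside N acting fixed-point-freely
  obtain ⟨yb, hyb⟩ := exists_prime_orderOf_dvd_card' (G := G ⧸ N) r
    (by rwa [← Subgroup.index_eq_card])
  obtain ⟨y, rfl⟩ := QuotientGroup.mk_surjective yb
  have hyN : y ∉ N := by
    intro hmem
    rw [(QuotientGroup.eq_one_iff y).mpr hmem, orderOf_one] at hyb
    exact hr.out.one_lt.ne hyb
  have hyr : y ^ r ∈ N := by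
    apply (QuotientGroup.eq_one_iff _).mp
    rw [QuotientGroup.mk_pow, ← hyb, pow_orderOf_eq_one]
  obtain ⟨c, hc⟩ := h.orderOf_eq_prime_pow hr.out hyN (a := 1) (by rwa [pow_one])
  have hCN : ∀ z ∈ N, y * z = z * y → z = 1 := by
    intro z hz hzy
    have h1 := h.pow_order_eq_one hyN hz hzy
    rw [hc] at h1
    have h2 : orderOf z ∣ r ^ c := orderOf_dvd_of_pow_eq_one h1
    have h3 : orderOf z ∣ Nat.card N := by
      have := orderOf_dvd_natCard (⟨z, hz⟩ : ↥N)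
      rwa [Subgroup.orderOf_mk] at this
    have h4 : Nat.Coprime (Nat.card N) (r ^ c) :=
      Nat.Coprime.pow_right c ((Nat.Prime.coprime_iff_not_dvd hr.out).mpr hrN).symm
    exact orderOf_eq_one_iff.mp (Nat.eq_one_of_dvd_coprimes h4 h3 h2)
  have hyr1 : y ^ r = 1 := hCN _ hyr (by rw [← pow_succ', ← pow_succ])
  -- Thompson
  set φ : ↥N ≃* ↥N := MulAut.conjNormal y with hφ
  have hnil : Group.IsNilpotent ↥N := by
    apply Cfsg.Agent.Lib.Helper1_Thompson.thompson hr.out φ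
    refine ⟨?_, ?_⟩
    · intro n hn
      have h1 : ((φ n : ↥N) : G) = (n : G) := by rw [hn]
      rw [hφ, MulAut.conjNormal_apply] at h1
      have h2 : y * (n : G) = (n : G) * y := by
        calc y * (n : G) = (y * (n : G) * y⁻¹) * y := by rw [inv_mul_cancel_right]
          _ = (n : G) * y := by rw [h1]
      exact Subtype.ext (hCN _ n.2 h2)
    · intro n
      have hiter : ∀ (k : ℕ) (g : ↥N), (φ ^ k) g = (φ^[k]) g := by
        intro k
        induction k with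
        | zero => intro g; rfl
        | succ k ih =>
          intro g
          rw [pow_succ, MulAut.mul_apply, ih, Function.iterate_succ_apply]
      rw [← hiter, hφ, ← map_pow, hyr1, map_one]
      rfl
  -- the Sylow q-subgroup of N
  set Qs : Sylow q ↥N := default with hQs
  set Q : Subgroup G := (Qs : Subgroup ↥N).map N.subtype with hQ
  have hQp : IsPGroup q Q := Qs.2.map _
  have hQN : Q ≤ N := by
    rintro x ⟨y', _, rfl⟩
    exact y'.2
  have hQne : Q ≠ ⊥ := by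
    rw [hQ, Ne, map_eq_bot_iff_of_injective _ N.subtype_injective]
    exact Sylow.ne_bot_of_dvd_card Qs hqN
  have hMtop : normalizer (Q : Set G) ⊔ N = ⊤ := Sylow.normalizer_sup_eq_top Qs
  apply zOf_ne_bot hQp hQne
  apply h.key hpN hpI (normalizer (Q : Set G)) hMtop (zOf Q) ((zOf_le Q).trans hQN)
    (coprime_card_of_isPGroup hqp (hQp.to_le (zOf_le Q)))
    (normalizer_le_normalizer_zOf Q)
  rintro x hx ⟨k, hk⟩
  obtain ⟨_, hxN⟩ := Subgroup.mem_inf.mp hx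
  obtain ⟨j, hj⟩ := exists_orderOf_eq_of_pow hp.out hk
  rw [mem_centralizer_iff]
  intro v hv
  have hvQ : v ∈ Q := (zOf_le Q) hv
  have hvN : v ∈ N := hQN hvQ
  obtain ⟨i, hi⟩ : ∃ i, orderOf v = q ^ i := by
    obtain ⟨i, hi⟩ := (IsPGroup.iff_orderOf.mp hQp) ⟨v, hvQ⟩
    exact ⟨i, by rw [← hi, Subgroup.orderOf_mk]⟩
  have hxp : IsPGroup p (zpowers (⟨x, hxN⟩ : ↥N)) := by
    apply IsPGroup.of_card (n := j)
    rw [Nat.card_zpowers, Subgroup.orderOf_mk, hj]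
  have hvq : IsPGroup q (zpowers (⟨v, hvN⟩ : ↥N)) := by
    apply IsPGroup.of_card (n := i)
    rw [Nat.card_zpowers, Subgroup.orderOf_mk, hi]
  have := Cfsg.Agent.Lib.Helper1_Thompson.commute_of_isNilpotent (G := ↥N) hqp.symm hxp hvq
    (mem_zpowers _) (mem_zpowers _)
  have h2 := congrArg Subtype.val this
  exact h2.symm

end main

end Cfsg.Agent.Lib.Helper24_Camina
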