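import Mathlib.Tactic
import Mathlib.Algebra.Order.BigOperators.Group.Finset
import Mathlib.Algebra.BigOperators.Ring.Finset

set_option autoImplicit false

namespace Cfsg.Agent.Lib.Helper24_CliqueCount

open Finset

/-- Counting core of the clique-kill (B-G 14.7 / 16.1): `N ≥ 2` vertices `V_i` of type `P1`
with `a i = |A(V_i)|`, `m i = |V_i,σ| ≥ 2 a i`, `v i = |V_i| = (z / a i) * m i`,
`t i = |class support of V_i,σ minus 1|`, `zh = |Z-hat|`, `zc = |class support of Z-hat|`,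
all supports disjoint inside `G` minus the identity: impossible. -/
theorem clique_count_false {ι : Type*} (s : Finset ι) (hs : 2 ≤ s.card) (g z zh zc : ℕ)
    (a m v t : ι → ℕ) (hg : 0 < g) (hz : 0 < z)
    (ha : ∀ i ∈ s, 0 < a i) (hm : ∀ i ∈ s, 2 * a i ≤ m i)
    (hv : ∀ i ∈ s, v i * a i = z * m i)
    (ht : ∀ i ∈ s, t i * v i = (m i - 1) * g)
    (hzh : zh + ∑ i ∈ s, (a i - 1) + 1 = z)
    (hzc : zc * z = zh * g)
    (hsum : ∑ i ∈ s, t i + zc + 1 ≤ g) : False := by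
  -- pointwise inequality `(2 a_i - 1) g ≤ 2 z t_i` over the integers
  have key : ∀ i ∈ s, (2 * (a i : ℤ) - 1) * g ≤ 2 * z * t i := by
    intro i hi
    have hai := ha i hi
    have hmi := hm i hi
    have hm1 : 1 ≤ m i := by omega
    have e1 : (z : ℤ) * m i * t i = a i * ((m i : ℤ) - 1) * g := by
      have h1 : z * m i * t i = a i * ((m i - 1) * g) := by
        rw [← hv i hi, ← ht i hi]; ring
      have h2 : ((z * m i * t i : ℕ) : ℤ) = ((a i * ((m i - 1) * g) : ℕ) : ℤ) := by rw [h1]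
      push_cast [Nat.cast_sub hm1] at h2
      linarith
    have hmpos : (0 : ℤ) < m i := by exact_mod_cast hm1
    have hm2 : (2 : ℤ) * a i ≤ m i := by exact_mod_cast hmi
    have hgpos : (0 : ℤ) < g := by exact_mod_cast hg
    -- multiply by m_i
    have : (2 * (a i : ℤ) - 1) * g * m i ≤ 2 * z * t i * m i := by
      have : 2 * (z : ℤ) * t i * m i = 2 * (a i * ((m i : ℤ) - 1) * g) := by
        rw [← e1]; ring
      rw [this]
      have : (0 : ℤ) ≤ ((m i : ℤ) - 2 * a i) * g := mul_nonneg (by linarith) hgpos.le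
      nlinarith
    exact le_of_mul_le_mul_right this hmpos
  have hsumkey : (∑ i ∈ s, (2 * (a i : ℤ) - 1)) * g ≤ 2 * z * ∑ i ∈ s, (t i : ℤ) := by
    rw [Finset.sum_mul, Finset.mul_sum]
    exact Finset.sum_le_sum key
  -- the identity for `zh`
  have hzh' : (zh : ℤ) + (∑ i ∈ s, ((a i : ℤ) - 1)) + 1 = z := by
    have : ((zh + ∑ i ∈ s, (a i - 1) + 1 : ℕ) : ℤ) = z := by rw [hzh]
    push_cast at this
    rw [← this]
    congr 2
    apply Finset.sum_congr rfl
    intro i hi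
    have := ha i hi
    rw [Nat.cast_sub (by omega)]
    simp
  have hzc' : (zc : ℤ) * z = zh * g := by exact_mod_cast hzc
  have hsum' : (∑ i ∈ s, (t i : ℤ)) + zc + 1 ≤ g := by exact_mod_cast hsum
  have hcard : (2 : ℤ) ≤ s.card := by exact_mod_cast hs
  have hsplit : ∑ i ∈ s, (2 * (a i : ℤ) - 1) = 2 * (∑ i ∈ s, ((a i : ℤ) - 1)) + s.card := by
    rw [Finset.mul_sum, Finset.card_eq_sum_ones, Nat.cast_sum, ← Finset.sum_add_distrib]
    apply Finset.sum_congr rfl
    intro i _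
    push_cast
    ring
  have hgpos : (0 : ℤ) < g := by exact_mod_cast hg
  have hzpos : (0 : ℤ) < z := by exact_mod_cast hz
  -- 2 z (Σ t + zc + 1) ≥ g (2z - 2 + N) + 2 z > 2 z g
  have h1 : 2 * (z : ℤ) * ((∑ i ∈ s, (t i : ℤ)) + zc + 1) ≤ 2 * z * g :=
    mul_le_mul_of_nonneg_left hsum' (by positivity)
  have h2 : 2 * (z : ℤ) * ((∑ i ∈ s, (t i : ℤ)) + zc + 1)
      = 2 * z * (∑ i ∈ s, (t i : ℤ)) + 2 * (zh * g) + 2 * z := by
    rw [← hzc']; ring
  set S := ∑ i ∈ s, ((a i : ℤ) - 1) with hS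
  have h3 : (2 * S + s.card) * g ≤ 2 * z * ∑ i ∈ s, (t i : ℤ) := by
    rw [← hsplit]; exact hsumkey
  have hzhS : (zh : ℤ) = z - 1 - S := by linarith
  nlinarith [mul_le_mul_of_nonneg_right hcard hgpos.le]

end Cfsg.Agent.Lib.Helper24_CliqueCount
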