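import Mathlib
import Cfsg.Prelude.Def_Characters
import Cfsg.Agent.Lib.Helper80_CharBasic

/-!
# S3716 (a self-centralizing Sylow 3-subgroup `M ≅ 3²` with `N_G(M)/M ≅ D₈` and `C_G(t) ≤ N_G(M)`:
`G` is not simple): shared definitions for helper62's package market `d72_packages`.

`Hyp G M x y s w` : the configuration after the local analysis: `M = ⟨x⟩ × ⟨y⟩` of order 9,
                    `N_G(M) = M ⟨s, w⟩ ≅ S₃ ≀ 2` of order 72 (`s` centralizes `x` and inverts `y`, `w` swaps `x` and `y`;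
                    `(w s)²` inverts `M`), and `C_G(t) ≤ N_G(M)` for all `t ∈ M ∖ 1`.
`Vals G x y s w f a d b b'` : integer data of the character table: degrees `f`, and the values
                    `χ(x) = a`, `χ(x y) = d`, `χ(x s) = b`, `χ(x y w) = b'` (`x s`, `x y w` have order 6).
-/

set_option autoImplicit false

namespace Cfsg.Agent.Lib.Helper62_D72Defs

open Cfsg Cfsg.Agent.Lib.Helper80_CharBasic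

/-- standing hypotheses (`N_G(M) ≅ S₃ ≀ 2`, strongly 3-embedded type) -/
structure Hyp (G : Type*) [Group G] (M : Subgroup G) (x y s w : G) : Prop where
  card : Nat.card M = 9
  ox : orderOf x = 3
  oy : orderOf y = 3
  comm : x * y = y * x
  hne : y ≠ x
  hne' : y ≠ x⁻¹
  mem : ∀ t : G, t ∈ M ↔ (t = 1 ∨ t = x ∨ t = x⁻¹ ∨ t = y ∨ t = y⁻¹ ∨
    t = x * y ∨ t = x * y⁻¹ ∨ t = x⁻¹ * y ∨ t = x⁻¹ * y⁻¹)
  os : orderOf s = 2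
  ow : orderOf w = 2
  hs : s ∈ Subgroup.normalizer (M : Set G)
  hw : w ∈ Subgroup.normalizer (M : Set G)
  sx : s * x * s⁻¹ = x
  sy : s * y * s⁻¹ = y⁻¹
  wx : w * x * w⁻¹ = y
  wy : w * y * w⁻¹ = x
  act : ∀ n ∈ Subgroup.normalizer (M : Set G),
    ((n * x * n⁻¹ = x ∨ n * x * n⁻¹ = x⁻¹) ∧ (n * y * n⁻¹ = y ∨ n * y * n⁻¹ = y⁻¹)) ∨
    ((n * x * n⁻¹ = y ∨ n * x * n⁻¹ = y⁻¹) ∧ (n * y * n⁻¹ = x ∨ n * y * n⁻¹ = x⁻¹))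
  cardN : Nat.card (Subgroup.normalizer (M : Set G)) = 72
  cent : ∀ g : G, g * x = x * g → g * y = y * g → g ∈ M
  loc : ∀ t ∈ M, t ≠ 1 →
    Subgroup.centralizer ({t} : Set G) ≤ Subgroup.normalizer (M : Set G)

/-- integer data of the character table on the four classes of 3-singular elements of `N_G(M)` -/
structure Vals (G : Type*) [Group G] (x y s w : G) (f : IrrCharacter G → ℕ)
    (a d b b' : IrrCharacter G → ℤ) : Prop where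
  fpos : ∀ χ : IrrCharacter G, 0 < f χ
  f1 : ∀ χ : IrrCharacter G, (χ : G → ℂ) 1 = (f χ : ℂ)
  vx : ∀ χ : IrrCharacter G, (χ : G → ℂ) x = (a χ : ℂ)
  vxy : ∀ χ : IrrCharacter G, (χ : G → ℂ) (x * y) = (d χ : ℂ)
  vxs : ∀ χ : IrrCharacter G, (χ : G → ℂ) (x * s) = (b χ : ℂ)
  vxyw : ∀ χ : IrrCharacter G, (χ : G → ℂ) (x * y * w) = (b' χ : ℂ)

/-! ### the pure part -/

/-- local multiplicity data of one irreducible character of degree `f` of a PERFECT group: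
`n0p, n0m, n1p, n1m` = multiplicities of `1 ⊗ 1, 1 ⊗ sgn, ω ⊗ 1, ω ⊗ sgn` in the restriction to
`C_G(x) = ⟨x⟩ × ⟨y, s⟩ ≅ C₃ × S₃`, and `k..` the same for `C_G(xy) = ⟨xy⟩ × ⟨xy⁻¹, w⟩`;
`P = n0p - n1p`, `Q = n0m - n1m`, `P' = k0p - k1p`, `Q' = k0m - k1m`.
The two divisibilities say `χ(s) ≡ χ(1) ≡ χ(w) (mod 4)`. -/
def Loc (f : ℕ) (P Q P' Q' : ℤ) : Prop :=
  ∃ n0p n0m n1p n1m k0p k0m k1p k1m : ℕ,
    P = (n0p : ℤ) - n1p ∧ Q = (n0m : ℤ) - n1m ∧ P' = (k0p : ℤ) - k1p ∧ Q' = (k0m : ℤ) - k1m ∧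
    n0p + n0m = k0p + k0m ∧
    f = (n0p + n0m) + 4 * (n1p + n1m) + 4 * (k1p + k1m) ∧
    (4 : ℤ) ∣ (f : ℤ) - (((n0p : ℤ) - n0m) + 2 * ((n1p : ℤ) - n1m)) ∧
    (4 : ℤ) ∣ (f : ℤ) - (((k0p : ℤ) - k0m) + 2 * ((k1p : ℤ) - k1m))

/-- `χ(x)` from the column `(P, Q, P', Q')` -/
def aOf (P Q P' Q' : ℤ) : ℤ := 2 * (P' + Q') - (P + Q)
/-- `χ(xy)` from the column `(P, Q, P', Q')` -/
def dOf (P Q P' Q' : ℤ) : ℤ := 2 * (P + Q) - (P' + Q')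

/-- the pure data extracted from the character table of a perfect group with `Hyp` -/
structure Pure {ι : Type*} [Fintype ι] (o : ι) (f : ι → ℕ) (g : ℕ) (P Q P' Q' : ι → ℤ) : Prop where
  fpos : ∀ i, 0 < f i
  lin : ∀ i, f i = 1 → i = o
  loc : ∀ i, Loc (f i) (P i) (Q i) (P' i) (Q' i)
  Po : P o = 1
  Qo : Q o = 0
  P'o : P' o = 1
  Q'o : Q' o = 0
  fo : f o = 1
  PP : ∑ i, P i ^ 2 = 4
  QQ : ∑ i, Q i ^ 2 = 4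
  P'P' : ∑ i, P' i ^ 2 = 4
  Q'Q' : ∑ i, Q' i ^ 2 = 4
  PQ : ∑ i, P i * Q i = 1
  P'Q' : ∑ i, P' i * Q' i = 1
  PP' : ∑ i, P i * P' i = 2
  PQ' : ∑ i, P i * Q' i = 2
  QP' : ∑ i, Q i * P' i = 2
  QQ' : ∑ i, Q i * Q' i = 2
  fP : ∑ i, (f i : ℤ) * P i = 0
  fQ : ∑ i, (f i : ℤ) * Q i = 0
  fP' : ∑ i, (f i : ℤ) * P' i = 0
  fQ' : ∑ i, (f i : ℤ) * Q' i = 0
  sq : ∑ i, f i ^ 2 = g
  e1 : (g : ℚ) * ∑ i, ((aOf (P i) (Q i) (P' i) (Q' i) ^ 2 * dOf (P i) (Q i) (P' i) (Q' i) : ℤ) : ℚ)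
    / (f i : ℚ) = 648
  e2 : (g : ℚ) * ∑ i, ((aOf (P i) (Q i) (P' i) (Q' i) * dOf (P i) (Q i) (P' i) (Q' i) ^ 2 : ℤ) : ℚ)
    / (f i : ℚ) = 648
  e3 : ∃ k : ℕ, (g : ℚ) * ∑ i, ((aOf (P i) (Q i) (P' i) (Q' i) ^ 3 : ℤ) : ℚ) / (f i : ℚ)
    = 324 * (1 + 3 * (k : ℚ))
  e4 : ∃ k : ℕ, (g : ℚ) * ∑ i, ((dOf (P i) (Q i) (P' i) (Q' i) ^ 3 : ℤ) : ℚ) / (f i : ℚ)
    = 324 * (1 + 3 * (k : ℚ))

/-- the nonzero columns `(P i, Q i, P' i, Q' i)` are exactly the one at `o` and those at the pairwise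
distinct indices `idx j ≠ o`, where the column is `σ j • T j` with a sign `σ j = ± 1` -/
def IsShape {ι : Type*} {n : ℕ} (o : ι) (P Q P' Q' : ι → ℤ) (T : Fin n → ℤ × ℤ × ℤ × ℤ) : Prop :=
  ∃ (idx : Fin n → ι) (σ : Fin n → ℤ), Function.Injective idx ∧ (∀ j, idx j ≠ o) ∧
    (∀ j, σ j = 1 ∨ σ j = -1) ∧
    (∀ j, P (idx j) = σ j * (T j).1 ∧ Q (idx j) = σ j * (T j).2.1 ∧
      P' (idx j) = σ j * (T j).2.2.1 ∧ Q' (idx j) = σ j * (T j).2.2.2) ∧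
    ∀ i, i ≠ o → (∀ j, i ≠ idx j) → P i = 0 ∧ Q i = 0 ∧ P' i = 0 ∧ Q' i = 0

/-- the six possible shapes (columns `(P, Q, P', Q')` of the nontrivial characters, up to sign) -/
def T1 : Fin 7 → ℤ × ℤ × ℤ × ℤ :=
  ![(0,0,0,1), (0,0,0,1), (0,0,1,0), (0,1,1,0), (1,-1,0,0), (1,1,0,1), (1,1,1,1)]
def T2 : Fin 7 → ℤ × ℤ × ℤ × ℤ :=
  ![(0,0,0,1), (0,1,0,0), (0,1,1,0), (0,1,1,1), (1,0,0,1), (1,0,1,0), (1,1,0,1)]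
def T3 : Fin 7 → ℤ × ℤ × ℤ × ℤ :=
  ![(0,0,0,1), (0,1,0,1), (0,1,1,0), (0,1,1,0), (1,0,0,0), (1,0,1,1), (1,1,0,1)]
def T4 : Fin 7 → ℤ × ℤ × ℤ × ℤ :=
  ![(0,0,1,-1), (0,1,0,0), (0,1,0,0), (0,1,1,1), (1,0,0,0), (1,0,0,1), (1,1,1,1)]
def T5 : Fin 7 → ℤ × ℤ × ℤ × ℤ :=
  ![(0,0,1,0), (0,1,0,0), (0,1,0,1), (0,1,1,1), (1,0,0,1), (1,0,0,1), (1,1,1,0)]
def T6 : Fin 8 → ℤ × ℤ × ℤ × ℤ :=
  ![(0,0,0,1), (0,0,1,0), (0,1,0,0), (0,1,0,1), (0,1,1,0), (1,0,0,0), (1,0,0,1), (1,1,1,1)]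

/-- number of `i ≠ o` whose column is `± (p, q, p', q')` -/
noncomputable def cnt {ι : Type*} (o : ι) (P Q P' Q' : ι → ℤ) (p q p' q' : ℤ) : ℕ :=
  Nat.card {i : ι // i ≠ o ∧ ((P i = p ∧ Q i = q ∧ P' i = p' ∧ Q' i = q') ∨
    (P i = -p ∧ Q i = -q ∧ P' i = -p' ∧ Q' i = -q'))}

/-- `χ(x)`, `χ(xy)` of the `j`-th column of a shape table -/
def colA {n : ℕ} (T : Fin n → ℤ × ℤ × ℤ × ℤ) (j : Fin n) : ℤ :=
  aOf (T j).1 (T j).2.1 (T j).2.2.1 (T j).2.2.2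
def colD {n : ℕ} (T : Fin n → ℤ × ℤ × ℤ × ℤ) (j : Fin n) : ℤ :=
  dOf (T j).1 (T j).2.1 (T j).2.2.1 (T j).2.2.2

/-- `Pure` + `IsShape T`, written out on the `n` characters `idx j` of the shape: `φ j` = degree,
`σ j` = sign of the column, `σ j * φ j` = signed degree.  (`sq` is an inequality: characters with
zero column only contribute to `∑ f²`.) -/
structure Exp {n : ℕ} (T : Fin n → ℤ × ℤ × ℤ × ℤ) (g : ℕ) (σ : Fin n → ℤ) (φ : Fin n → ℕ) :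
    Prop where
  sgn : ∀ j, σ j = 1 ∨ σ j = -1
  two : ∀ j, 2 ≤ φ j
  loc : ∀ j, Loc (φ j) (σ j * (T j).1) (σ j * (T j).2.1) (σ j * (T j).2.2.1) (σ j * (T j).2.2.2)
  dP : 1 + ∑ j, (T j).1 * (σ j * (φ j : ℤ)) = 0
  dQ : ∑ j, (T j).2.1 * (σ j * (φ j : ℤ)) = 0
  dP' : 1 + ∑ j, (T j).2.2.1 * (σ j * (φ j : ℤ)) = 0
  dQ' : ∑ j, (T j).2.2.2 * (σ j * (φ j : ℤ)) = 0
  sq : 1 + ∑ j, (φ j : ℤ) ^ 2 ≤ (g : ℤ)
  e1 : (g : ℚ) * (1 + ∑ j, ((colA T j ^ 2 * colD T j : ℤ) : ℚ) / ((σ j * (φ j : ℤ) : ℤ) : ℚ)) = 648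
  e2 : (g : ℚ) * (1 + ∑ j, ((colA T j * colD T j ^ 2 : ℤ) : ℚ) / ((σ j * (φ j : ℤ) : ℤ) : ℚ)) = 648
  e3 : ∃ k : ℕ, (g : ℚ) * (1 + ∑ j, ((colA T j ^ 3 : ℤ) : ℚ) / ((σ j * (φ j : ℤ) : ℤ) : ℚ))
    = 324 * (1 + 3 * (k : ℚ))
  e4 : ∃ k : ℕ, (g : ℚ) * (1 + ∑ j, ((colD T j ^ 3 : ℤ) : ℚ) / ((σ j * (φ j : ℤ) : ℤ) : ℚ))
    = 324 * (1 + 3 * (k : ℚ))

end Cfsg.Agent.Lib.Helper62_D72Defs
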