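import Mathlib
import Cfsg.Prelude.Def_Characters
import Cfsg.Agent.Lib.Helper80_CharBasic
import Cfsg.Agent.Lib.Helper62_D72Defs

/-!
# S3716 package SHCNT (helper62's market `d72_packages`): the ten Gram equations in terms of the
40 type counts `cnt`.  `count_eqs_aux` takes the SHENT statement (all entries off `o` are `0, ±1`) and
the needed fields of `Pure` as hypotheses.
-/

set_option autoImplicit false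

namespace Cfsg.Agent.Lib.Helper24_D72_SHCNTaux

open Cfsg Cfsg.Agent.Lib.Helper80_CharBasic Cfsg.Agent.Lib.Helper62_D72Defs

/-- indicator of the column `(p, q, p', q')` being `± (a, b, c, d)` -/
def ind (p q p' q' a b c d : ℤ) : ℤ :=
  if (p = a ∧ q = b ∧ p' = c ∧ q' = d) ∨ (p = -a ∧ q = -b ∧ p' = -c ∧ q' = -d) then 1 else 0

theorem cnt_eq_sum {ι : Type*} [Fintype ι] [DecidableEq ι] (o : ι) (P Q P' Q' : ι → ℤ)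
    (a b c d : ℤ) :
    ((cnt o P Q P' Q' a b c d : ℕ) : ℤ)
      = ∑ i, if i = o then 0 else ind (P i) (Q i) (P' i) (Q' i) a b c d := by
  unfold cnt
  rw [Nat.card_eq_fintype_card, Fintype.card_subtype, Finset.card_filter, Nat.cast_sum]
  refine Finset.sum_congr rfl (fun i _ => ?_)
  unfold ind
  by_cases h : i = o
  · simp [h]
  · simp only [h, if_false, ne_eq, not_false_eq_true, true_and]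
    split_ifs <;> simp

theorem sum_off {ι : Type*} [Fintype ι] [DecidableEq ι] (o : ι) (F : ι → ℤ) :
    ∑ i, (if i = o then 0 else F i) = ∑ i, F i - F o := by
  have : ∀ i, F i = (if i = o then F o else 0) + (if i = o then 0 else F i) := by
    intro i; split_ifs with h <;> simp [h]
  conv_rhs => rw [Finset.sum_congr rfl (fun i _ => this i)]
  rw [Finset.sum_add_distrib, Finset.sum_ite_eq' Finset.univ o]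
  simp

theorem pt0 (p q p' q' : ℤ) (hp : p = 0 ∨ p = 1 ∨ p = -1) (hq : q = 0 ∨ q = 1 ∨ q = -1)
    (hp' : p' = 0 ∨ p' = 1 ∨ p' = -1) (hq' : q' = 0 ∨ q' = 1 ∨ q' = -1) :
    ind p q p' q' 1 (-1) (-1) (-1) + ind p q p' q' 1 (-1) (-1) 0 + ind p q p' q' 1 (-1) (-1) 1 + ind p q p' q' 1 (-1) 0 (-1) + ind p q p' q' 1 (-1) 0 0 + ind p q p' q' 1 (-1) 0 1 + ind p q p' q' 1 (-1) 1 (-1) + ind p q p' q' 1 (-1) 1 0 + ind p q p' q' 1 (-1) 1 1 + ind p q p' q' 1 0 (-1) (-1) + ind p q p' q' 1 0 (-1) 0 + ind p q p' q' 1 0 (-1) 1 + ind p q p' q' 1 0 0 (-1) + ind p q p' q' 1 0 0 0 + ind p q p' q' 1 0 0 1 + ind p q p' q' 1 0 1 (-1) + ind p q p' q' 1 0 1 0 + ind p q p' q' 1 0 1 1 + ind p q p' q' 1 1 (-1) (-1) + ind p q p' q' 1 1 (-1) 0 + ind p q p' q' 1 1 (-1) 1 + ind p q p' q' 1 1 0 (-1)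 + ind p q p' q' 1 1 0 0 + ind p q p' q' 1 1 0 1 + ind p q p' q' 1 1 1 (-1) + ind p q p' q' 1 1 1 0 + ind p q p' q' 1 1 1 1
      = p ^ 2 := by
  rcases hp with rfl | rfl | rfl <;> rcases hq with rfl | rfl | rfl <;>
    rcases hp' with rfl | rfl | rfl <;> rcases hq' with rfl | rfl | rfl <;> decide

theorem pt1 (p q p' q' : ℤ) (hp : p = 0 ∨ p = 1 ∨ p = -1) (hq : q = 0 ∨ q = 1 ∨ q = -1)
    (hp' : p' = 0 ∨ p' = 1 ∨ p' = -1) (hq' : q' = 0 ∨ q' = 1 ∨ q' = -1) :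
    ind p q p' q' 0 1 (-1) (-1) + ind p q p' q' 0 1 (-1) 0 + ind p q p' q' 0 1 (-1) 1 + ind p q p' q' 0 1 0 (-1) + ind p q p' q' 0 1 0 0 + ind p q p' q' 0 1 0 1 + ind p q p' q' 0 1 1 (-1) + ind p q p' q' 0 1 1 0 + ind p q p' q' 0 1 1 1 + ind p q p' q' 1 (-1) (-1) (-1) + ind p q p' q' 1 (-1) (-1) 0 + ind p q p' q' 1 (-1) (-1) 1 + ind p q p' q' 1 (-1) 0 (-1) + ind p q p' q' 1 (-1) 0 0 + ind p q p' q' 1 (-1) 0 1 + ind p q p' q' 1 (-1) 1 (-1) + ind p q p' q' 1 (-1) 1 0 + ind p q p' q' 1 (-1) 1 1 + ind p q p' q' 1 1 (-1) (-1) + ind p q p' q' 1 1 (-1) 0 + ind p q p' q' 1 1 (-1) 1 + ind p q p' q' 1 1 0 (-1) + ind p q p' q' 1 1 0 0 + ind p q p' q' 1 1 0 1 + ind p q p' q' 1 1 1 (-1) + ind p q p' q' 1 1 1 0 + ind p q p' q' 1 1 1 1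
      = q ^ 2 := by
  rcases hp with rfl | rfl | rfl <;> rcases hq with rfl | rfl | rfl <;>
    rcases hp' with rfl | rfl | rfl <;> rcases hq' with rfl | rfl | rfl <;> decide

theorem pt2 (p q p' q' : ℤ) (hp : p = 0 ∨ p = 1 ∨ p = -1) (hq : q = 0 ∨ q = 1 ∨ q = -1)
    (hp' : p' = 0 ∨ p' = 1 ∨ p' = -1) (hq' : q' = 0 ∨ q' = 1 ∨ q' = -1) :
    ind p q p' q' 0 0 1 (-1) + ind p q p' q' 0 0 1 0 + ind p q p' q' 0 0 1 1 + ind p q p' q' 0 1 (-1) (-1) + ind p q p' q' 0 1 (-1) 0 + ind p q p' q' 0 1 (-1) 1 + ind p q p' q' 0 1 1 (-1) + ind p q p' q' 0 1 1 0 + ind p q p' q' 0 1 1 1 + ind p q p' q' 1 (-1) (-1) (-1) + ind p q p' q' 1 (-1) (-1) 0 + ind p q p' q' 1 (-1) (-1) 1 + ind p q p' q' 1 (-1) 1 (-1) + ind p q p' q' 1 (-1) 1 0 + ind p q p' q' 1 (-1) 1 1 + ind p q p' q' 1 0 (-1) (-1)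 + ind p q p' q' 1 0 (-1) 0 + ind p q p' q' 1 0 (-1) 1 + ind p q p' q' 1 0 1 (-1) + ind p q p' q' 1 0 1 0 + ind p q p' q' 1 0 1 1 + ind p q p' q' 1 1 (-1) (-1) + ind p q p' q' 1 1 (-1) 0 + ind p q p' q' 1 1 (-1) 1 + ind p q p' q' 1 1 1 (-1) + ind p q p' q' 1 1 1 0 + ind p q p' q' 1 1 1 1
      = p' ^ 2 := by
  rcases hp with rfl | rfl | rfl <;> rcases hq with rfl | rfl | rfl <;>
    rcases hp' with rfl | rfl | rfl <;> rcases hq' with rfl | rfl | rfl <;> decide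

theorem pt3 (p q p' q' : ℤ) (hp : p = 0 ∨ p = 1 ∨ p = -1) (hq : q = 0 ∨ q = 1 ∨ q = -1)
    (hp' : p' = 0 ∨ p' = 1 ∨ p' = -1) (hq' : q' = 0 ∨ q' = 1 ∨ q' = -1) :
    ind p q p' q' 0 0 0 1 + ind p q p' q' 0 0 1 (-1) + ind p q p' q' 0 0 1 1 + ind p q p' q' 0 1 (-1) (-1) + ind p q p' q' 0 1 (-1) 1 + ind p q p' q' 0 1 0 (-1) + ind p q p' q' 0 1 0 1 + ind p q p' q' 0 1 1 (-1) + ind p q p' q' 0 1 1 1 + ind p q p' q' 1 (-1) (-1) (-1) + ind p q p' q' 1 (-1) (-1) 1 + ind p q p' q' 1 (-1) 0 (-1) + ind p q p' q' 1 (-1) 0 1 + ind p q p' q' 1 (-1) 1 (-1) + ind p q p' q' 1 (-1) 1 1 + ind p q p' q' 1 0 (-1) (-1) + ind p q p' q' 1 0 (-1) 1 + ind p q p' q' 1 0 0 (-1) + ind p q p' q' 1 0 0 1 + ind p q p' q' 1 0 1 (-1) + ind p q p' q' 1 0 1 1 + ind p q p' q' 1 1 (-1) (-1) + ind p q p'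 q' 1 1 (-1) 1 + ind p q p' q' 1 1 0 (-1) + ind p q p' q' 1 1 0 1 + ind p q p' q' 1 1 1 (-1) + ind p q p' q' 1 1 1 1
      = q' ^ 2 := by
  rcases hp with rfl | rfl | rfl <;> rcases hq with rfl | rfl | rfl <;>
    rcases hp' with rfl | rfl | rfl <;> rcases hq' with rfl | rfl | rfl <;> decide

theorem pt4 (p q p' q' : ℤ) (hp : p = 0 ∨ p = 1 ∨ p = -1) (hq : q = 0 ∨ q = 1 ∨ q = -1)
    (hp' : p' = 0 ∨ p' = 1 ∨ p' = -1) (hq' : q' = 0 ∨ q' = 1 ∨ q' = -1) :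
    ind p q p' q' 1 1 (-1) (-1) + ind p q p' q' 1 1 (-1) 0 + ind p q p' q' 1 1 (-1) 1 + ind p q p' q' 1 1 0 (-1) + ind p q p' q' 1 1 0 0 + ind p q p' q' 1 1 0 1 + ind p q p' q' 1 1 1 (-1) + ind p q p' q' 1 1 1 0 + ind p q p' q' 1 1 1 1
      - (ind p q p' q' 1 (-1) (-1) (-1) + ind p q p' q' 1 (-1) (-1) 0 + ind p q p' q' 1 (-1) (-1) 1 + ind p q p' q' 1 (-1) 0 (-1) + ind p q p' q' 1 (-1) 0 0 + ind p q p' q' 1 (-1) 0 1 + ind p q p' q' 1 (-1) 1 (-1) + ind p q p' q' 1 (-1) 1 0 + ind p q p' q' 1 (-1) 1 1) = p * q := by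
  rcases hp with rfl | rfl | rfl <;> rcases hq with rfl | rfl | rfl <;>
    rcases hp' with rfl | rfl | rfl <;> rcases hq' with rfl | rfl | rfl <;> decide

theorem pt5 (p q p' q' : ℤ) (hp : p = 0 ∨ p = 1 ∨ p = -1) (hq : q = 0 ∨ q = 1 ∨ q = -1)
    (hp' : p' = 0 ∨ p' = 1 ∨ p' = -1) (hq' : q' = 0 ∨ q' = 1 ∨ q' = -1) :
    ind p q p' q' 1 (-1) 1 (-1) + ind p q p' q' 1 (-1) 1 0 + ind p q p' q' 1 (-1) 1 1 + ind p q p' q' 1 0 1 (-1) + ind p q p' q' 1 0 1 0 + ind p q p' q' 1 0 1 1 + ind p q p' q' 1 1 1 (-1) + ind p q p' q' 1 1 1 0 + ind p q p' q' 1 1 1 1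
      - (ind p q p' q' 1 (-1) (-1) (-1) + ind p q p' q' 1 (-1) (-1) 0 + ind p q p' q' 1 (-1) (-1) 1 + ind p q p' q' 1 0 (-1) (-1) + ind p q p' q' 1 0 (-1) 0 + ind p q p' q' 1 0 (-1) 1 + ind p q p' q' 1 1 (-1) (-1) + ind p q p' q' 1 1 (-1) 0 + ind p q p' q' 1 1 (-1) 1) = p * p' := by
  rcases hp with rfl | rfl | rfl <;> rcases hq with rfl | rfl | rfl <;>
    rcases hp' with rfl | rfl | rfl <;> rcases hq' with rfl | rfl | rfl <;> decide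

theorem pt6 (p q p' q' : ℤ) (hp : p = 0 ∨ p = 1 ∨ p = -1) (hq : q = 0 ∨ q = 1 ∨ q = -1)
    (hp' : p' = 0 ∨ p' = 1 ∨ p' = -1) (hq' : q' = 0 ∨ q' = 1 ∨ q' = -1) :
    ind p q p' q' 1 (-1) (-1) 1 + ind p q p' q' 1 (-1) 0 1 + ind p q p' q' 1 (-1) 1 1 + ind p q p' q' 1 0 (-1) 1 + ind p q p' q' 1 0 0 1 + ind p q p' q' 1 0 1 1 + ind p q p' q' 1 1 (-1) 1 + ind p q p' q' 1 1 0 1 + ind p q p' q' 1 1 1 1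
      - (ind p q p' q' 1 (-1) (-1) (-1) + ind p q p' q' 1 (-1) 0 (-1) + ind p q p' q' 1 (-1) 1 (-1) + ind p q p' q' 1 0 (-1) (-1) + ind p q p' q' 1 0 0 (-1) + ind p q p' q' 1 0 1 (-1) + ind p q p' q' 1 1 (-1) (-1) + ind p q p' q' 1 1 0 (-1) + ind p q p' q' 1 1 1 (-1)) = p * q' := by
  rcases hp with rfl | rfl | rfl <;> rcases hq with rfl | rfl | rfl <;>
    rcases hp' with rfl | rfl | rfl <;> rcases hq' with rfl | rfl | rfl <;> decide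

theorem pt7 (p q p' q' : ℤ) (hp : p = 0 ∨ p = 1 ∨ p = -1) (hq : q = 0 ∨ q = 1 ∨ q = -1)
    (hp' : p' = 0 ∨ p' = 1 ∨ p' = -1) (hq' : q' = 0 ∨ q' = 1 ∨ q' = -1) :
    ind p q p' q' 0 1 1 (-1) + ind p q p' q' 0 1 1 0 + ind p q p' q' 0 1 1 1 + ind p q p' q' 1 (-1) (-1) (-1) + ind p q p' q' 1 (-1) (-1) 0 + ind p q p' q' 1 (-1) (-1) 1 + ind p q p' q' 1 1 1 (-1) + ind p q p' q' 1 1 1 0 + ind p q p' q' 1 1 1 1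
      - (ind p q p' q' 0 1 (-1) (-1) + ind p q p' q' 0 1 (-1) 0 + ind p q p' q' 0 1 (-1) 1 + ind p q p' q' 1 (-1) 1 (-1) + ind p q p' q' 1 (-1) 1 0 + ind p q p' q' 1 (-1) 1 1 + ind p q p' q' 1 1 (-1) (-1) + ind p q p' q' 1 1 (-1) 0 + ind p q p' q' 1 1 (-1) 1) = q * p' := by
  rcases hp with rfl | rfl | rfl <;> rcases hq with rfl | rfl | rfl <;>
    rcases hp' with rfl | rfl | rfl <;> rcases hq' with rfl | rfl | rfl <;> decide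

theorem pt8 (p q p' q' : ℤ) (hp : p = 0 ∨ p = 1 ∨ p = -1) (hq : q = 0 ∨ q = 1 ∨ q = -1)
    (hp' : p' = 0 ∨ p' = 1 ∨ p' = -1) (hq' : q' = 0 ∨ q' = 1 ∨ q' = -1) :
    ind p q p' q' 0 1 (-1) 1 + ind p q p' q' 0 1 0 1 + ind p q p' q' 0 1 1 1 + ind p q p' q' 1 (-1) (-1) (-1) + ind p q p' q' 1 (-1) 0 (-1) + ind p q p' q' 1 (-1) 1 (-1) + ind p q p' q' 1 1 (-1) 1 + ind p q p' q' 1 1 0 1 + ind p q p' q' 1 1 1 1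
      - (ind p q p' q' 0 1 (-1) (-1) + ind p q p' q' 0 1 0 (-1) + ind p q p' q' 0 1 1 (-1) + ind p q p' q' 1 (-1) (-1) 1 + ind p q p' q' 1 (-1) 0 1 + ind p q p' q' 1 (-1) 1 1 + ind p q p' q' 1 1 (-1) (-1) + ind p q p' q' 1 1 0 (-1) + ind p q p' q' 1 1 1 (-1)) = q * q' := by
  rcases hp with rfl | rfl | rfl <;> rcases hq with rfl | rfl | rfl <;>
    rcases hp' with rfl | rfl | rfl <;> rcases hq' with rfl | rfl | rfl <;> decide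

theorem pt9 (p q p' q' : ℤ) (hp : p = 0 ∨ p = 1 ∨ p = -1) (hq : q = 0 ∨ q = 1 ∨ q = -1)
    (hp' : p' = 0 ∨ p' = 1 ∨ p' = -1) (hq' : q' = 0 ∨ q' = 1 ∨ q' = -1) :
    ind p q p' q' 0 0 1 1 + ind p q p' q' 0 1 (-1) (-1) + ind p q p' q' 0 1 1 1 + ind p q p' q' 1 (-1) (-1) (-1) + ind p q p' q' 1 (-1) 1 1 + ind p q p' q' 1 0 (-1) (-1) + ind p q p' q' 1 0 1 1 + ind p q p' q' 1 1 (-1) (-1) + ind p q p' q' 1 1 1 1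
      - (ind p q p' q' 0 0 1 (-1) + ind p q p' q' 0 1 (-1) 1 + ind p q p' q' 0 1 1 (-1) + ind p q p' q' 1 (-1) (-1) 1 + ind p q p' q' 1 (-1) 1 (-1) + ind p q p' q' 1 0 (-1) 1 + ind p q p' q' 1 0 1 (-1) + ind p q p' q' 1 1 (-1) 1 + ind p q p' q' 1 1 1 (-1)) = p' * q' := by
  rcases hp with rfl | rfl | rfl <;> rcases hq with rfl | rfl | rfl <;>
    rcases hp' with rfl | rfl | rfl <;> rcases hq' with rfl | rfl | rfl <;> decide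

theorem eq0 {ι : Type*} [Fintype ι] {o : ι} {P Q P' Q' : ι → ℤ}
    (hent : ∀ i, i ≠ o → (P i = 0 ∨ P i = 1 ∨ P i = -1) ∧ (Q i = 0 ∨ Q i = 1 ∨ Q i = -1) ∧
      (P' i = 0 ∨ P' i = 1 ∨ P' i = -1) ∧ (Q' i = 0 ∨ Q' i = 1 ∨ Q' i = -1))
    (Po : P o = 1) (PP : ∑ i, P i ^ 2 = 4)
    (c : ℤ → ℤ → ℤ → ℤ → ℕ) (hc : c = cnt o P Q P' Q') :
    c 1 (-1) (-1) (-1) + c 1 (-1) (-1) 0 + c 1 (-1) (-1) 1 + c 1 (-1) 0 (-1) + c 1 (-1) 0 0 + c 1 (-1) 0 1 + c 1 (-1) 1 (-1) + c 1 (-1) 1 0 + c 1 (-1) 1 1 + c 1 0 (-1) (-1) + c 1 0 (-1) 0 + c 1 0 (-1) 1 + c 1 0 0 (-1) + c 1 0 0 0 + c 1 0 0 1 + c 1 0 1 (-1) + c 1 0 1 0 + c 1 0 1 1 + c 1 1 (-1) (-1) + c 1 1 (-1) 0 + c 1 1 (-1) 1 + c 1 1 0 (-1) + c 1 1 0 0 + c 1 1 0 1 + c 1 1 1 (-1) + c 1 1 1 0 + c 1 1 1 1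
      = 3 := by
  classical
  have h : ((c 1 (-1) (-1) (-1) + c 1 (-1) (-1) 0 + c 1 (-1) (-1) 1 + c 1 (-1) 0 (-1) + c 1 (-1) 0 0 + c 1 (-1) 0 1 + c 1 (-1) 1 (-1) + c 1 (-1) 1 0 + c 1 (-1) 1 1 + c 1 0 (-1) (-1) + c 1 0 (-1) 0 + c 1 0 (-1) 1 + c 1 0 0 (-1) + c 1 0 0 0 + c 1 0 0 1 + c 1 0 1 (-1) + c 1 0 1 0 + c 1 0 1 1 + c 1 1 (-1) (-1) + c 1 1 (-1) 0 + c 1 1 (-1) 1 + c 1 1 0 (-1) + c 1 1 0 0 + c 1 1 0 1 + c 1 1 1 (-1) + c 1 1 1 0 + c 1 1 1 1 : ℕ) : ℤ)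
      = ∑ i, if i = o then 0 else P i ^ 2 := by
    push_cast
    simp only [hc, cnt_eq_sum, ← Finset.sum_add_distrib]
    refine Finset.sum_congr rfl (fun i _ => ?_)
    by_cases h : i = o
    · simp [h]
    · simp only [if_neg h]
      obtain ⟨h1, h2, h3, h4⟩ := hent i h
      exact pt0 _ _ _ _ h1 h2 h3 h4
  rw [sum_off, PP, Po] at h
  clear hent hc PP Po
  omega

theorem eq1 {ι : Type*} [Fintype ι] {o : ι} {P Q P' Q' : ι → ℤ}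
    (hent : ∀ i, i ≠ o → (P i = 0 ∨ P i = 1 ∨ P i = -1) ∧ (Q i = 0 ∨ Q i = 1 ∨ Q i = -1) ∧
      (P' i = 0 ∨ P' i = 1 ∨ P' i = -1) ∧ (Q' i = 0 ∨ Q' i = 1 ∨ Q' i = -1))
    (Qo : Q o = 0) (QQ : ∑ i, Q i ^ 2 = 4)
    (c : ℤ → ℤ → ℤ → ℤ → ℕ) (hc : c = cnt o P Q P' Q') :
    c 0 1 (-1) (-1) + c 0 1 (-1) 0 + c 0 1 (-1) 1 + c 0 1 0 (-1) + c 0 1 0 0 + c 0 1 0 1 + c 0 1 1 (-1) + c 0 1 1 0 + c 0 1 1 1 + c 1 (-1) (-1) (-1) + c 1 (-1) (-1) 0 + c 1 (-1) (-1) 1 + c 1 (-1) 0 (-1) + c 1 (-1) 0 0 + c 1 (-1) 0 1 + c 1 (-1) 1 (-1) + c 1 (-1) 1 0 + c 1 (-1) 1 1 + c 1 1 (-1) (-1) + c 1 1 (-1) 0 + c 1 1 (-1) 1 + c 1 1 0 (-1) + c 1 1 0 0 + c 1 1 0 1 + c 1 1 1 (-1) + c 1 1 1 0 + c 1 1 1 1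
      = 4 := by
  classical
  have h : ((c 0 1 (-1) (-1) + c 0 1 (-1) 0 + c 0 1 (-1) 1 + c 0 1 0 (-1) + c 0 1 0 0 + c 0 1 0 1 + c 0 1 1 (-1) + c 0 1 1 0 + c 0 1 1 1 + c 1 (-1) (-1) (-1) + c 1 (-1) (-1) 0 + c 1 (-1) (-1) 1 + c 1 (-1) 0 (-1) + c 1 (-1) 0 0 + c 1 (-1) 0 1 + c 1 (-1) 1 (-1) + c 1 (-1) 1 0 + c 1 (-1) 1 1 + c 1 1 (-1) (-1) + c 1 1 (-1) 0 + c 1 1 (-1) 1 + c 1 1 0 (-1) + c 1 1 0 0 + c 1 1 0 1 + c 1 1 1 (-1) + c 1 1 1 0 + c 1 1 1 1 : ℕ) : ℤ)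
      = ∑ i, if i = o then 0 else Q i ^ 2 := by
    push_cast
    simp only [hc, cnt_eq_sum, ← Finset.sum_add_distrib]
    refine Finset.sum_congr rfl (fun i _ => ?_)
    by_cases h : i = o
    · simp [h]
    · simp only [if_neg h]
      obtain ⟨h1, h2, h3, h4⟩ := hent i h
      exact pt1 _ _ _ _ h1 h2 h3 h4
  rw [sum_off, QQ, Qo] at h
  clear hent hc QQ Qo
  omega

theorem eq2 {ι : Type*} [Fintype ι] {o : ι} {P Q P' Q' : ι → ℤ}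
    (hent : ∀ i, i ≠ o → (P i = 0 ∨ P i = 1 ∨ P i = -1) ∧ (Q i = 0 ∨ Q i = 1 ∨ Q i = -1) ∧
      (P' i = 0 ∨ P' i = 1 ∨ P' i = -1) ∧ (Q' i = 0 ∨ Q' i = 1 ∨ Q' i = -1))
    (P'o : P' o = 1) (P'P' : ∑ i, P' i ^ 2 = 4)
    (c : ℤ → ℤ → ℤ → ℤ → ℕ) (hc : c = cnt o P Q P' Q') :
    c 0 0 1 (-1) + c 0 0 1 0 + c 0 0 1 1 + c 0 1 (-1) (-1) + c 0 1 (-1) 0 + c 0 1 (-1) 1 + c 0 1 1 (-1) + c 0 1 1 0 + c 0 1 1 1 + c 1 (-1) (-1) (-1) + c 1 (-1) (-1) 0 + c 1 (-1) (-1) 1 + c 1 (-1) 1 (-1) + c 1 (-1) 1 0 + c 1 (-1) 1 1 + c 1 0 (-1) (-1) + c 1 0 (-1) 0 + c 1 0 (-1) 1 + c 1 0 1 (-1) + c 1 0 1 0 + c 1 0 1 1 + c 1 1 (-1) (-1) + c 1 1 (-1) 0 + c 1 1 (-1) 1 + c 1 1 1 (-1) + c 1 1 1 0 + c 1 1 1 1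
      = 3 := by
  classical
  have h : ((c 0 0 1 (-1) + c 0 0 1 0 + c 0 0 1 1 + c 0 1 (-1) (-1) + c 0 1 (-1) 0 + c 0 1 (-1) 1 + c 0 1 1 (-1) + c 0 1 1 0 + c 0 1 1 1 + c 1 (-1) (-1) (-1) + c 1 (-1) (-1) 0 + c 1 (-1) (-1) 1 + c 1 (-1) 1 (-1) + c 1 (-1) 1 0 + c 1 (-1) 1 1 + c 1 0 (-1) (-1) + c 1 0 (-1) 0 + c 1 0 (-1) 1 + c 1 0 1 (-1) + c 1 0 1 0 + c 1 0 1 1 + c 1 1 (-1) (-1) + c 1 1 (-1) 0 + c 1 1 (-1) 1 + c 1 1 1 (-1) + c 1 1 1 0 + c 1 1 1 1 : ℕ) : ℤ)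
      = ∑ i, if i = o then 0 else P' i ^ 2 := by
    push_cast
    simp only [hc, cnt_eq_sum, ← Finset.sum_add_distrib]
    refine Finset.sum_congr rfl (fun i _ => ?_)
    by_cases h : i = o
    · simp [h]
    · simp only [if_neg h]
      obtain ⟨h1, h2, h3, h4⟩ := hent i h
      exact pt2 _ _ _ _ h1 h2 h3 h4
  rw [sum_off, P'P', P'o] at h
  clear hent hc P'P' P'o
  omega

theorem eq3 {ι : Type*} [Fintype ι] {o : ι} {P Q P' Q' : ι → ℤ}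
    (hent : ∀ i, i ≠ o → (P i = 0 ∨ P i = 1 ∨ P i = -1) ∧ (Q i = 0 ∨ Q i = 1 ∨ Q i = -1) ∧
      (P' i = 0 ∨ P' i = 1 ∨ P' i = -1) ∧ (Q' i = 0 ∨ Q' i = 1 ∨ Q' i = -1))
    (Q'o : Q' o = 0) (Q'Q' : ∑ i, Q' i ^ 2 = 4)
    (c : ℤ → ℤ → ℤ → ℤ → ℕ) (hc : c = cnt o P Q P' Q') :
    c 0 0 0 1 + c 0 0 1 (-1) + c 0 0 1 1 + c 0 1 (-1) (-1) + c 0 1 (-1) 1 + c 0 1 0 (-1) + c 0 1 0 1 + c 0 1 1 (-1) + c 0 1 1 1 + c 1 (-1) (-1) (-1) + c 1 (-1) (-1) 1 + c 1 (-1) 0 (-1) + c 1 (-1) 0 1 + c 1 (-1) 1 (-1) + c 1 (-1) 1 1 + c 1 0 (-1) (-1) + c 1 0 (-1) 1 + c 1 0 0 (-1) + c 1 0 0 1 + c 1 0 1 (-1) + c 1 0 1 1 + c 1 1 (-1) (-1) + c 1 1 (-1) 1 + c 1 1 0 (-1) + c 1 1 0 1 + c 1 1 1 (-1) + c 1 1 1 1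
      = 4 := by
  classical
  have h : ((c 0 0 0 1 + c 0 0 1 (-1) + c 0 0 1 1 + c 0 1 (-1) (-1) + c 0 1 (-1) 1 + c 0 1 0 (-1) + c 0 1 0 1 + c 0 1 1 (-1) + c 0 1 1 1 + c 1 (-1) (-1) (-1) + c 1 (-1) (-1) 1 + c 1 (-1) 0 (-1) + c 1 (-1) 0 1 + c 1 (-1) 1 (-1) + c 1 (-1) 1 1 + c 1 0 (-1) (-1) + c 1 0 (-1) 1 + c 1 0 0 (-1) + c 1 0 0 1 + c 1 0 1 (-1) + c 1 0 1 1 + c 1 1 (-1) (-1) + c 1 1 (-1) 1 + c 1 1 0 (-1) + c 1 1 0 1 + c 1 1 1 (-1) + c 1 1 1 1 : ℕ) : ℤ)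
      = ∑ i, if i = o then 0 else Q' i ^ 2 := by
    push_cast
    simp only [hc, cnt_eq_sum, ← Finset.sum_add_distrib]
    refine Finset.sum_congr rfl (fun i _ => ?_)
    by_cases h : i = o
    · simp [h]
    · simp only [if_neg h]
      obtain ⟨h1, h2, h3, h4⟩ := hent i h
      exact pt3 _ _ _ _ h1 h2 h3 h4
  rw [sum_off, Q'Q', Q'o] at h
  clear hent hc Q'Q' Q'o
  omega

theorem eq4 {ι : Type*} [Fintype ι] {o : ι} {P Q P' Q' : ι → ℤ}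
    (hent : ∀ i, i ≠ o → (P i = 0 ∨ P i = 1 ∨ P i = -1) ∧ (Q i = 0 ∨ Q i = 1 ∨ Q i = -1) ∧
      (P' i = 0 ∨ P' i = 1 ∨ P' i = -1) ∧ (Q' i = 0 ∨ Q' i = 1 ∨ Q' i = -1))
    (Po : P o = 1) (Qo : Q o = 0) (PQ : ∑ i, P i * Q i = 1)
    (c : ℤ → ℤ → ℤ → ℤ → ℕ) (hc : c = cnt o P Q P' Q') :
    c 1 1 (-1) (-1) + c 1 1 (-1) 0 + c 1 1 (-1) 1 + c 1 1 0 (-1) + c 1 1 0 0 + c 1 1 0 1 + c 1 1 1 (-1) + c 1 1 1 0 + c 1 1 1 1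
      = 1 + (c 1 (-1) (-1) (-1) + c 1 (-1) (-1) 0 + c 1 (-1) (-1) 1 + c 1 (-1) 0 (-1) + c 1 (-1) 0 0 + c 1 (-1) 0 1 + c 1 (-1) 1 (-1) + c 1 (-1) 1 0 + c 1 (-1) 1 1) := by
  classical
  have h : (((c 1 1 (-1) (-1) + c 1 1 (-1) 0 + c 1 1 (-1) 1 + c 1 1 0 (-1) + c 1 1 0 0 + c 1 1 0 1 + c 1 1 1 (-1) + c 1 1 1 0 + c 1 1 1 1 : ℕ) : ℤ)
      - ((c 1 (-1) (-1) (-1) + c 1 (-1) (-1) 0 + c 1 (-1) (-1) 1 + c 1 (-1) 0 (-1) + c 1 (-1) 0 0 + c 1 (-1) 0 1 + c 1 (-1) 1 (-1) + c 1 (-1) 1 0 + c 1 (-1) 1 1 : ℕ) : ℤ))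
      = ∑ i, if i = o then 0 else P i * Q i := by
    push_cast
    simp only [hc, cnt_eq_sum, ← Finset.sum_add_distrib, ← Finset.sum_sub_distrib]
    refine Finset.sum_congr rfl (fun i _ => ?_)
    by_cases h : i = o
    · simp [h]
    · simp only [if_neg h]
      obtain ⟨h1, h2, h3, h4⟩ := hent i h
      exact pt4 _ _ _ _ h1 h2 h3 h4
  rw [sum_off, PQ, Po, Qo] at h
  clear hent hc PQ Po Qo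
  omega

theorem eq5 {ι : Type*} [Fintype ι] {o : ι} {P Q P' Q' : ι → ℤ}
    (hent : ∀ i, i ≠ o → (P i = 0 ∨ P i = 1 ∨ P i = -1) ∧ (Q i = 0 ∨ Q i = 1 ∨ Q i = -1) ∧
      (P' i = 0 ∨ P' i = 1 ∨ P' i = -1) ∧ (Q' i = 0 ∨ Q' i = 1 ∨ Q' i = -1))
    (Po : P o = 1) (P'o : P' o = 1) (PP' : ∑ i, P i * P' i = 2)
    (c : ℤ → ℤ → ℤ → ℤ → ℕ) (hc : c = cnt o P Q P' Q') :
    c 1 (-1) 1 (-1) + c 1 (-1) 1 0 + c 1 (-1) 1 1 + c 1 0 1 (-1) + c 1 0 1 0 + c 1 0 1 1 + c 1 1 1 (-1) + c 1 1 1 0 + c 1 1 1 1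
      = 1 + (c 1 (-1) (-1) (-1) + c 1 (-1) (-1) 0 + c 1 (-1) (-1) 1 + c 1 0 (-1) (-1) + c 1 0 (-1) 0 + c 1 0 (-1) 1 + c 1 1 (-1) (-1) + c 1 1 (-1) 0 + c 1 1 (-1) 1) := by
  classical
  have h : (((c 1 (-1) 1 (-1) + c 1 (-1) 1 0 + c 1 (-1) 1 1 + c 1 0 1 (-1) + c 1 0 1 0 + c 1 0 1 1 + c 1 1 1 (-1) + c 1 1 1 0 + c 1 1 1 1 : ℕ) : ℤ)
      - ((c 1 (-1) (-1) (-1) + c 1 (-1) (-1) 0 + c 1 (-1) (-1) 1 + c 1 0 (-1) (-1) + c 1 0 (-1) 0 + c 1 0 (-1) 1 + c 1 1 (-1) (-1) + c 1 1 (-1) 0 + c 1 1 (-1) 1 : ℕ) : ℤ))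
      = ∑ i, if i = o then 0 else P i * P' i := by
    push_cast
    simp only [hc, cnt_eq_sum, ← Finset.sum_add_distrib, ← Finset.sum_sub_distrib]
    refine Finset.sum_congr rfl (fun i _ => ?_)
    by_cases h : i = o
    · simp [h]
    · simp only [if_neg h]
      obtain ⟨h1, h2, h3, h4⟩ := hent i h
      exact pt5 _ _ _ _ h1 h2 h3 h4
  rw [sum_off, PP', Po, P'o] at h
  clear hent hc PP' Po P'o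
  omega

theorem eq6 {ι : Type*} [Fintype ι] {o : ι} {P Q P' Q' : ι → ℤ}
    (hent : ∀ i, i ≠ o → (P i = 0 ∨ P i = 1 ∨ P i = -1) ∧ (Q i = 0 ∨ Q i = 1 ∨ Q i = -1) ∧
      (P' i = 0 ∨ P' i = 1 ∨ P' i = -1) ∧ (Q' i = 0 ∨ Q' i = 1 ∨ Q' i = -1))
    (Po : P o = 1) (Q'o : Q' o = 0) (PQ' : ∑ i, P i * Q' i = 2)
    (c : ℤ → ℤ → ℤ → ℤ → ℕ) (hc : c = cnt o P Q P' Q') :
    c 1 (-1) (-1) 1 + c 1 (-1) 0 1 + c 1 (-1) 1 1 + c 1 0 (-1) 1 + c 1 0 0 1 + c 1 0 1 1 + c 1 1 (-1) 1 + c 1 1 0 1 + c 1 1 1 1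
      = 2 + (c 1 (-1) (-1) (-1) + c 1 (-1) 0 (-1) + c 1 (-1) 1 (-1) + c 1 0 (-1) (-1) + c 1 0 0 (-1) + c 1 0 1 (-1) + c 1 1 (-1) (-1) + c 1 1 0 (-1) + c 1 1 1 (-1)) := by
  classical
  have h : (((c 1 (-1) (-1) 1 + c 1 (-1) 0 1 + c 1 (-1) 1 1 + c 1 0 (-1) 1 + c 1 0 0 1 + c 1 0 1 1 + c 1 1 (-1) 1 + c 1 1 0 1 + c 1 1 1 1 : ℕ) : ℤ)
      - ((c 1 (-1) (-1) (-1) + c 1 (-1) 0 (-1) + c 1 (-1) 1 (-1) + c 1 0 (-1) (-1) + c 1 0 0 (-1) + c 1 0 1 (-1) + c 1 1 (-1) (-1) + c 1 1 0 (-1) + c 1 1 1 (-1) : ℕ) : ℤ))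
      = ∑ i, if i = o then 0 else P i * Q' i := by
    push_cast
    simp only [hc, cnt_eq_sum, ← Finset.sum_add_distrib, ← Finset.sum_sub_distrib]
    refine Finset.sum_congr rfl (fun i _ => ?_)
    by_cases h : i = o
    · simp [h]
    · simp only [if_neg h]
      obtain ⟨h1, h2, h3, h4⟩ := hent i h
      exact pt6 _ _ _ _ h1 h2 h3 h4
  rw [sum_off, PQ', Po, Q'o] at h
  clear hent hc PQ' Po Q'o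
  omega

theorem eq7 {ι : Type*} [Fintype ι] {o : ι} {P Q P' Q' : ι → ℤ}
    (hent : ∀ i, i ≠ o → (P i = 0 ∨ P i = 1 ∨ P i = -1) ∧ (Q i = 0 ∨ Q i = 1 ∨ Q i = -1) ∧
      (P' i = 0 ∨ P' i = 1 ∨ P' i = -1) ∧ (Q' i = 0 ∨ Q' i = 1 ∨ Q' i = -1))
    (Qo : Q o = 0) (P'o : P' o = 1) (QP' : ∑ i, Q i * P' i = 2)
    (c : ℤ → ℤ → ℤ → ℤ → ℕ) (hc : c = cnt o P Q P' Q') :
    c 0 1 1 (-1) + c 0 1 1 0 + c 0 1 1 1 + c 1 (-1) (-1) (-1) + c 1 (-1) (-1) 0 + c 1 (-1) (-1) 1 + c 1 1 1 (-1) + c 1 1 1 0 + c 1 1 1 1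
      = 2 + (c 0 1 (-1) (-1) + c 0 1 (-1) 0 + c 0 1 (-1) 1 + c 1 (-1) 1 (-1) + c 1 (-1) 1 0 + c 1 (-1) 1 1 + c 1 1 (-1) (-1) + c 1 1 (-1) 0 + c 1 1 (-1) 1) := by
  classical
  have h : (((c 0 1 1 (-1) + c 0 1 1 0 + c 0 1 1 1 + c 1 (-1) (-1) (-1) + c 1 (-1) (-1) 0 + c 1 (-1) (-1) 1 + c 1 1 1 (-1) + c 1 1 1 0 + c 1 1 1 1 : ℕ) : ℤ)
      - ((c 0 1 (-1) (-1) + c 0 1 (-1) 0 + c 0 1 (-1) 1 + c 1 (-1) 1 (-1) + c 1 (-1) 1 0 + c 1 (-1) 1 1 + c 1 1 (-1) (-1) + c 1 1 (-1) 0 + c 1 1 (-1) 1 : ℕ) : ℤ))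
      = ∑ i, if i = o then 0 else Q i * P' i := by
    push_cast
    simp only [hc, cnt_eq_sum, ← Finset.sum_add_distrib, ← Finset.sum_sub_distrib]
    refine Finset.sum_congr rfl (fun i _ => ?_)
    by_cases h : i = o
    · simp [h]
    · simp only [if_neg h]
      obtain ⟨h1, h2, h3, h4⟩ := hent i h
      exact pt7 _ _ _ _ h1 h2 h3 h4
  rw [sum_off, QP', Qo, P'o] at h
  clear hent hc QP' Qo P'o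
  omega

theorem eq8 {ι : Type*} [Fintype ι] {o : ι} {P Q P' Q' : ι → ℤ}
    (hent : ∀ i, i ≠ o → (P i = 0 ∨ P i = 1 ∨ P i = -1) ∧ (Q i = 0 ∨ Q i = 1 ∨ Q i = -1) ∧
      (P' i = 0 ∨ P' i = 1 ∨ P' i = -1) ∧ (Q' i = 0 ∨ Q' i = 1 ∨ Q' i = -1))
    (Qo : Q o = 0) (Q'o : Q' o = 0) (QQ' : ∑ i, Q i * Q' i = 2)
    (c : ℤ → ℤ → ℤ → ℤ → ℕ) (hc : c = cnt o P Q P' Q') :
    c 0 1 (-1) 1 + c 0 1 0 1 + c 0 1 1 1 + c 1 (-1) (-1) (-1) + c 1 (-1) 0 (-1) + c 1 (-1) 1 (-1) + c 1 1 (-1) 1 + c 1 1 0 1 + c 1 1 1 1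
      = 2 + (c 0 1 (-1) (-1) + c 0 1 0 (-1) + c 0 1 1 (-1) + c 1 (-1) (-1) 1 + c 1 (-1) 0 1 + c 1 (-1) 1 1 + c 1 1 (-1) (-1) + c 1 1 0 (-1) + c 1 1 1 (-1)) := by
  classical
  have h : (((c 0 1 (-1) 1 + c 0 1 0 1 + c 0 1 1 1 + c 1 (-1) (-1) (-1) + c 1 (-1) 0 (-1) + c 1 (-1) 1 (-1) + c 1 1 (-1) 1 + c 1 1 0 1 + c 1 1 1 1 : ℕ) : ℤ)
      - ((c 0 1 (-1) (-1) + c 0 1 0 (-1) + c 0 1 1 (-1) + c 1 (-1) (-1) 1 + c 1 (-1) 0 1 + c 1 (-1) 1 1 + c 1 1 (-1) (-1) + c 1 1 0 (-1) + c 1 1 1 (-1) : ℕ) : ℤ))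
      = ∑ i, if i = o then 0 else Q i * Q' i := by
    push_cast
    simp only [hc, cnt_eq_sum, ← Finset.sum_add_distrib, ← Finset.sum_sub_distrib]
    refine Finset.sum_congr rfl (fun i _ => ?_)
    by_cases h : i = o
    · simp [h]
    · simp only [if_neg h]
      obtain ⟨h1, h2, h3, h4⟩ := hent i h
      exact pt8 _ _ _ _ h1 h2 h3 h4
  rw [sum_off, QQ', Qo, Q'o] at h
  clear hent hc QQ' Qo Q'o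
  omega

theorem eq9 {ι : Type*} [Fintype ι] {o : ι} {P Q P' Q' : ι → ℤ}
    (hent : ∀ i, i ≠ o → (P i = 0 ∨ P i = 1 ∨ P i = -1) ∧ (Q i = 0 ∨ Q i = 1 ∨ Q i = -1) ∧
      (P' i = 0 ∨ P' i = 1 ∨ P' i = -1) ∧ (Q' i = 0 ∨ Q' i = 1 ∨ Q' i = -1))
    (P'o : P' o = 1) (Q'o : Q' o = 0) (P'Q' : ∑ i, P' i * Q' i = 1)
    (c : ℤ → ℤ → ℤ → ℤ → ℕ) (hc : c = cnt o P Q P' Q') :
    c 0 0 1 1 + c 0 1 (-1) (-1) + c 0 1 1 1 + c 1 (-1) (-1) (-1) + c 1 (-1) 1 1 + c 1 0 (-1) (-1) + c 1 0 1 1 + c 1 1 (-1) (-1) + c 1 1 1 1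
      = 1 + (c 0 0 1 (-1) + c 0 1 (-1) 1 + c 0 1 1 (-1) + c 1 (-1) (-1) 1 + c 1 (-1) 1 (-1) + c 1 0 (-1) 1 + c 1 0 1 (-1) + c 1 1 (-1) 1 + c 1 1 1 (-1)) := by
  classical
  have h : (((c 0 0 1 1 + c 0 1 (-1) (-1) + c 0 1 1 1 + c 1 (-1) (-1) (-1) + c 1 (-1) 1 1 + c 1 0 (-1) (-1) + c 1 0 1 1 + c 1 1 (-1) (-1) + c 1 1 1 1 : ℕ) : ℤ)
      - ((c 0 0 1 (-1) + c 0 1 (-1) 1 + c 0 1 1 (-1) + c 1 (-1) (-1) 1 + c 1 (-1) 1 (-1) + c 1 0 (-1) 1 + c 1 0 1 (-1) + c 1 1 (-1) 1 + c 1 1 1 (-1) : ℕ) : ℤ))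
      = ∑ i, if i = o then 0 else P' i * Q' i := by
    push_cast
    simp only [hc, cnt_eq_sum, ← Finset.sum_add_distrib, ← Finset.sum_sub_distrib]
    refine Finset.sum_congr rfl (fun i _ => ?_)
    by_cases h : i = o
    · simp [h]
    · simp only [if_neg h]
      obtain ⟨h1, h2, h3, h4⟩ := hent i h
      exact pt9 _ _ _ _ h1 h2 h3 h4
  rw [sum_off, P'Q', P'o, Q'o] at h
  clear hent hc P'Q' P'o Q'o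
  omega

theorem count_eqs_aux {ι : Type*} [Fintype ι] {o : ι} {P Q P' Q' : ι → ℤ}
    (hent : ∀ i, i ≠ o → (P i = 0 ∨ P i = 1 ∨ P i = -1) ∧ (Q i = 0 ∨ Q i = 1 ∨ Q i = -1) ∧
      (P' i = 0 ∨ P' i = 1 ∨ P' i = -1) ∧ (Q' i = 0 ∨ Q' i = 1 ∨ Q' i = -1))
    (Po : P o = 1) (Qo : Q o = 0) (P'o : P' o = 1) (Q'o : Q' o = 0)
    (PP : ∑ i, P i ^ 2 = 4) (QQ : ∑ i, Q i ^ 2 = 4) (P'P' : ∑ i, P' i ^ 2 = 4)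
    (Q'Q' : ∑ i, Q' i ^ 2 = 4) (PQ : ∑ i, P i * Q i = 1) (P'Q' : ∑ i, P' i * Q' i = 1)
    (PP' : ∑ i, P i * P' i = 2) (PQ' : ∑ i, P i * Q' i = 2) (QP' : ∑ i, Q i * P' i = 2)
    (QQ' : ∑ i, Q i * Q' i = 2)
    (c : ℤ → ℤ → ℤ → ℤ → ℕ) (hc : c = cnt o P Q P' Q') :
    (c 1 (-1) (-1) (-1) + c 1 (-1) (-1) 0 + c 1 (-1) (-1) 1 + c 1 (-1) 0 (-1) + c 1 (-1) 0 0 + c 1 (-1) 0 1 + c 1 (-1) 1 (-1) + c 1 (-1) 1 0 + c 1 (-1) 1 1 + c 1 0 (-1) (-1) + c 1 0 (-1) 0 + c 1 0 (-1) 1 + c 1 0 0 (-1) + c 1 0 0 0 + c 1 0 0 1 + c 1 0 1 (-1) + c 1 0 1 0 + c 1 0 1 1 + c 1 1 (-1) (-1) + c 1 1 (-1) 0 + c 1 1 (-1) 1 + c 1 1 0 (-1) + c 1 1 0 0 + c 1 1 0 1 + c 1 1 1 (-1) + c 1 1 1 0 + c 1 1 1 1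
      = 3) ∧
    (c 0 1 (-1) (-1) + c 0 1 (-1) 0 + c 0 1 (-1) 1 + c 0 1 0 (-1) + c 0 1 0 0 + c 0 1 0 1 + c 0 1 1 (-1) + c 0 1 1 0 + c 0 1 1 1 + c 1 (-1) (-1) (-1) + c 1 (-1) (-1) 0 + c 1 (-1) (-1) 1 + c 1 (-1) 0 (-1) + c 1 (-1) 0 0 + c 1 (-1) 0 1 + c 1 (-1) 1 (-1) + c 1 (-1) 1 0 + c 1 (-1) 1 1 + c 1 1 (-1) (-1) + c 1 1 (-1) 0 + c 1 1 (-1) 1 + c 1 1 0 (-1) + c 1 1 0 0 + c 1 1 0 1 + c 1 1 1 (-1) + c 1 1 1 0 + c 1 1 1 1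
      = 4) ∧
    (c 0 0 1 (-1) + c 0 0 1 0 + c 0 0 1 1 + c 0 1 (-1) (-1) + c 0 1 (-1) 0 + c 0 1 (-1) 1 + c 0 1 1 (-1) + c 0 1 1 0 + c 0 1 1 1 + c 1 (-1) (-1) (-1) + c 1 (-1) (-1) 0 + c 1 (-1) (-1) 1 + c 1 (-1) 1 (-1) + c 1 (-1) 1 0 + c 1 (-1) 1 1 + c 1 0 (-1) (-1) + c 1 0 (-1) 0 + c 1 0 (-1) 1 + c 1 0 1 (-1) + c 1 0 1 0 + c 1 0 1 1 + c 1 1 (-1) (-1) + c 1 1 (-1) 0 + c 1 1 (-1) 1 + c 1 1 1 (-1) + c 1 1 1 0 + c 1 1 1 1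
      = 3) ∧
    (c 0 0 0 1 + c 0 0 1 (-1) + c 0 0 1 1 + c 0 1 (-1) (-1) + c 0 1 (-1) 1 + c 0 1 0 (-1) + c 0 1 0 1 + c 0 1 1 (-1) + c 0 1 1 1 + c 1 (-1) (-1) (-1) + c 1 (-1) (-1) 1 + c 1 (-1) 0 (-1) + c 1 (-1) 0 1 + c 1 (-1) 1 (-1) + c 1 (-1) 1 1 + c 1 0 (-1) (-1) + c 1 0 (-1) 1 + c 1 0 0 (-1) + c 1 0 0 1 + c 1 0 1 (-1) + c 1 0 1 1 + c 1 1 (-1) (-1) + c 1 1 (-1) 1 + c 1 1 0 (-1) + c 1 1 0 1 + c 1 1 1 (-1) + c 1 1 1 1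
      = 4) ∧
    (c 1 1 (-1) (-1) + c 1 1 (-1) 0 + c 1 1 (-1) 1 + c 1 1 0 (-1) + c 1 1 0 0 + c 1 1 0 1 + c 1 1 1 (-1) + c 1 1 1 0 + c 1 1 1 1
      = 1 + (c 1 (-1) (-1) (-1) + c 1 (-1) (-1) 0 + c 1 (-1) (-1) 1 + c 1 (-1) 0 (-1) + c 1 (-1) 0 0 + c 1 (-1) 0 1 + c 1 (-1) 1 (-1) + c 1 (-1) 1 0 + c 1 (-1) 1 1)) ∧
    (c 1 (-1) 1 (-1) + c 1 (-1) 1 0 + c 1 (-1) 1 1 + c 1 0 1 (-1) + c 1 0 1 0 + c 1 0 1 1 + c 1 1 1 (-1) + c 1 1 1 0 + c 1 1 1 1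
      = 1 + (c 1 (-1) (-1) (-1) + c 1 (-1) (-1) 0 + c 1 (-1) (-1) 1 + c 1 0 (-1) (-1) + c 1 0 (-1) 0 + c 1 0 (-1) 1 + c 1 1 (-1) (-1) + c 1 1 (-1) 0 + c 1 1 (-1) 1)) ∧
    (c 1 (-1) (-1) 1 + c 1 (-1) 0 1 + c 1 (-1) 1 1 + c 1 0 (-1) 1 + c 1 0 0 1 + c 1 0 1 1 + c 1 1 (-1) 1 + c 1 1 0 1 + c 1 1 1 1
      = 2 + (c 1 (-1) (-1) (-1) + c 1 (-1) 0 (-1) + c 1 (-1) 1 (-1) + c 1 0 (-1) (-1) + c 1 0 0 (-1) + c 1 0 1 (-1) + c 1 1 (-1) (-1) + c 1 1 0 (-1) + c 1 1 1 (-1))) ∧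
    (c 0 1 1 (-1) + c 0 1 1 0 + c 0 1 1 1 + c 1 (-1) (-1) (-1) + c 1 (-1) (-1) 0 + c 1 (-1) (-1) 1 + c 1 1 1 (-1) + c 1 1 1 0 + c 1 1 1 1
      = 2 + (c 0 1 (-1) (-1) + c 0 1 (-1) 0 + c 0 1 (-1) 1 + c 1 (-1) 1 (-1) + c 1 (-1) 1 0 + c 1 (-1) 1 1 + c 1 1 (-1) (-1) + c 1 1 (-1) 0 + c 1 1 (-1) 1)) ∧
    (c 0 1 (-1) 1 + c 0 1 0 1 + c 0 1 1 1 + c 1 (-1) (-1) (-1) + c 1 (-1) 0 (-1) + c 1 (-1) 1 (-1) + c 1 1 (-1) 1 + c 1 1 0 1 + c 1 1 1 1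
      = 2 + (c 0 1 (-1) (-1) + c 0 1 0 (-1) + c 0 1 1 (-1) + c 1 (-1) (-1) 1 + c 1 (-1) 0 1 + c 1 (-1) 1 1 + c 1 1 (-1) (-1) + c 1 1 0 (-1) + c 1 1 1 (-1))) ∧
    (c 0 0 1 1 + c 0 1 (-1) (-1) + c 0 1 1 1 + c 1 (-1) (-1) (-1) + c 1 (-1) 1 1 + c 1 0 (-1) (-1) + c 1 0 1 1 + c 1 1 (-1) (-1) + c 1 1 1 1
      = 1 + (c 0 0 1 (-1) + c 0 1 (-1) 1 + c 0 1 1 (-1) + c 1 (-1) (-1) 1 + c 1 (-1) 1 (-1) + c 1 0 (-1) 1 + c 1 0 1 (-1) + c 1 1 (-1) 1 + c 1 1 1 (-1))) :=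
  ⟨eq0 hent Po PP c hc, eq1 hent Qo QQ c hc, eq2 hent P'o P'P' c hc, eq3 hent Q'o Q'Q' c hc,
    eq4 hent Po Qo PQ c hc, eq5 hent Po P'o PP' c hc, eq6 hent Po Q'o PQ' c hc,
    eq7 hent Qo P'o QP' c hc, eq8 hent Qo Q'o QQ' c hc, eq9 hent P'o Q'o P'Q' c hc⟩

end Cfsg.Agent.Lib.Helper24_D72_SHCNTaux
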