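import Mathlib
import Cfsg.Prelude.Def_Characters
import Cfsg.Agent.Lib.Helper80_CharBasic
import Cfsg.Agent.Lib.Helper62_D72Defs

/-!
# S3716 market (architect helper62), package SHENT: all entries of the four coordinate vectors are `0, ±1` (norm `4` and orthogonality to the degree vector).
-/

set_option autoImplicit false

namespace Cfsg.Agent.Lib.Helper58_D72_SHENT

open Cfsg Cfsg.Agent.Lib.Helper80_CharBasic Cfsg.Agent.Lib.Helper62_D72Defs

theorem h58_pair_le {ι : Type*} [Fintype ι] (X : ι → ℤ) {i j : ι} (hij : i ≠ j) :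
    X i ^ 2 + X j ^ 2 ≤ ∑ k, X k ^ 2 := by
  classical
  have h1 : ∑ k ∈ ({i, j} : Finset ι), X k ^ 2 ≤ ∑ k, X k ^ 2 :=
    Finset.sum_le_sum_of_subset_of_nonneg (Finset.subset_univ _) (fun k _ _ => sq_nonneg _)
  rwa [Finset.sum_pair hij] at h1

/-- an integer with square at most `3` is `0, ±1` -/
theorem h58_sq_le_three {z : ℤ} (h : z ^ 2 ≤ 3) : z = 0 ∨ z = 1 ∨ z = -1 := by
  have h1 : -2 < z := by nlinarith
  have h2 : z < 2 := by nlinarith
  omega

/-- entries of a vector of norm `4` orthogonal to a positive vector -/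
theorem h58_entry {ι : Type*} [Fintype ι] (X : ι → ℤ) (f : ι → ℕ) (hf : ∀ i, 0 < f i)
    (h4 : ∑ k, X k ^ 2 = 4) (hfX : ∑ k, (f k : ℤ) * X k = 0) (i : ι) :
    X i = 0 ∨ X i = 1 ∨ X i = -1 := by
  classical
  by_cases h3 : X i ^ 2 ≤ 3
  · exact h58_sq_le_three h3
  · exfalso
    push Not at h3
    have hz : ∀ j, j ≠ i → X j = 0 := by
      intro j hj
      have h1 := h58_pair_le X hj
      rw [h4] at h1
      have h2 : X j ^ 2 ≤ 0 := by linarith
      have h5 : X j ^ 2 = 0 := le_antisymm h2 (sq_nonneg _)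
      exact pow_eq_zero_iff (two_ne_zero) |>.mp h5
    have hs : ∑ k, (f k : ℤ) * X k = (f i : ℤ) * X i := by
      apply Finset.sum_eq_single i
      · intro j _ hj
        rw [hz j hj, mul_zero]
      · intro hi
        exact absurd (Finset.mem_univ i) hi
    rw [hs] at hfX
    have hfi : (0 : ℤ) < (f i : ℤ) := by exact_mod_cast hf i
    rcases mul_eq_zero.mp hfX with h0 | h0
    · omega
    · rw [h0] at h3
      norm_num at h3

set_option linter.unusedVariables false in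
/-- SHENT, verbatim. -/
theorem entries {ι : Type*} [Fintype ι] {o : ι} {f : ι → ℕ} {g : ℕ} {P Q P' Q' : ι → ℤ}
    (hp : Pure o f g P Q P' Q') (i : ι) (hi : i ≠ o) :
    (P i = 0 ∨ P i = 1 ∨ P i = -1) ∧ (Q i = 0 ∨ Q i = 1 ∨ Q i = -1) ∧
    (P' i = 0 ∨ P' i = 1 ∨ P' i = -1) ∧ (Q' i = 0 ∨ Q' i = 1 ∨ Q' i = -1) :=
  ⟨h58_entry P f hp.fpos hp.PP hp.fP i, h58_entry Q f hp.fpos hp.QQ hp.fQ i,
    h58_entry P' f hp.fpos hp.P'P' hp.fP' i, h58_entry Q' f hp.fpos hp.Q'Q' hp.fQ' i⟩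

end Cfsg.Agent.Lib.Helper58_D72_SHENT
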