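import Mathlib
import Cfsg.Prelude.Def_Characters
import Cfsg.Agent.Lib.Helper80_CharBasic
import Cfsg.Agent.Lib.Helper62_D72Defs
import Cfsg.Agent.Lib.Helper58_D72_SHENT
import Cfsg.Agent.Lib.Helper24_D72_SHCNTaux

/-!
# S3716 package SHCNT (helper62's market `d72_packages`): `count_eqs`, verbatim.
-/

set_option autoImplicit false

namespace Cfsg.Agent.Lib.Helper24_D72_SHCNT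

open Cfsg Cfsg.Agent.Lib.Helper80_CharBasic Cfsg.Agent.Lib.Helper62_D72Defs

theorem count_eqs {ι : Type*} [Fintype ι] {o : ι} {f : ι → ℕ} {g : ℕ} {P Q P' Q' : ι → ℤ}
    (hp : Pure o f g P Q P' Q') (c : ℤ → ℤ → ℤ → ℤ → ℕ) (hc : c = cnt o P Q P' Q') :
    (c 1 (-1) (-1) (-1) + c 1 (-1) (-1) 0 + c 1 (-1) (-1) 1 + c 1 (-1) 0 (-1) + c 1 (-1) 0 0 + c 1 (-1) 0 1 + c 1 (-1) 1 (-1) + c 1 (-1) 1 0 + c 1 (-1) 1 1 + c 1 0 (-1) (-1) + c 1 0 (-1) 0 + c 1 0 (-1) 1 + c 1 0 0 (-1) + c 1 0 0 0 + c 1 0 0 1 + c 1 0 1 (-1) + c 1 0 1 0 + c 1 0 1 1 + c 1 1 (-1) (-1) + c 1 1 (-1) 0 + c 1 1 (-1) 1 + c 1 1 0 (-1) + c 1 1 0 0 + c 1 1 0 1 + c 1 1 1 (-1) + c 1 1 1 0 + c 1 1 1 1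
      = 3) ∧
    (c 0 1 (-1) (-1) + c 0 1 (-1) 0 + c 0 1 (-1) 1 + c 0 1 0 (-1) + c 0 1 0 0 + c 0 1 0 1 + c 0 1 1 (-1) + c 0 1 1 0 + c 0 1 1 1 + c 1 (-1) (-1) (-1) + c 1 (-1) (-1) 0 + c 1 (-1) (-1) 1 + c 1 (-1) 0 (-1) + c 1 (-1) 0 0 + c 1 (-1) 0 1 + c 1 (-1) 1 (-1) + c 1 (-1) 1 0 + c 1 (-1) 1 1 + c 1 1 (-1) (-1) + c 1 1 (-1) 0 + c 1 1 (-1) 1 + c 1 1 0 (-1) + c 1 1 0 0 + c 1 1 0 1 + c 1 1 1 (-1) + c 1 1 1 0 + c 1 1 1 1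
      = 4) ∧
    (c 0 0 1 (-1) + c 0 0 1 0 + c 0 0 1 1 + c 0 1 (-1) (-1) + c 0 1 (-1) 0 + c 0 1 (-1) 1 + c 0 1 1 (-1) + c 0 1 1 0 + c 0 1 1 1 + c 1 (-1) (-1) (-1) + c 1 (-1) (-1) 0 + c 1 (-1) (-1) 1 + c 1 (-1) 1 (-1) + c 1 (-1) 1 0 + c 1 (-1) 1 1 + c 1 0 (-1) (-1) + c 1 0 (-1) 0 + c 1 0 (-1) 1 + c 1 0 1 (-1) + c 1 0 1 0 + c 1 0 1 1 + c 1 1 (-1) (-1) + c 1 1 (-1) 0 + c 1 1 (-1) 1 + c 1 1 1 (-1) + c 1 1 1 0 + c 1 1 1 1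
      = 3) ∧
    (c 0 0 0 1 + c 0 0 1 (-1) + c 0 0 1 1 + c 0 1 (-1) (-1) + c 0 1 (-1) 1 + c 0 1 0 (-1) + c 0 1 0 1 + c 0 1 1 (-1) + c 0 1 1 1 + c 1 (-1) (-1) (-1) + c 1 (-1) (-1) 1 + c 1 (-1) 0 (-1) + c 1 (-1) 0 1 + c 1 (-1) 1 (-1) + c 1 (-1) 1 1 + c 1 0 (-1) (-1) + c 1 0 (-1) 1 + c 1 0 0 (-1) + c 1 0 0 1 + c 1 0 1 (-1) + c 1 0 1 1 + c 1 1 (-1) (-1) + c 1 1 (-1) 1 + c 1 1 0 (-1) + c 1 1 0 1 + c 1 1 1 (-1) + c 1 1 1 1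
      = 4) ∧
    (c 1 1 (-1) (-1) + c 1 1 (-1) 0 + c 1 1 (-1) 1 + c 1 1 0 (-1) + c 1 1 0 0 + c 1 1 0 1 + c 1 1 1 (-1) + c 1 1 1 0 + c 1 1 1 1
      = 1 + (c 1 (-1) (-1) (-1) + c 1 (-1) (-1) 0 + c 1 (-1) (-1) 1 + c 1 (-1) 0 (-1) + c 1 (-1) 0 0 + c 1 (-1) 0 1 + c 1 (-1) 1 (-1) + c 1 (-1) 1 0 + c 1 (-1) 1 1)) ∧
    (c 1 (-1) 1 (-1) + c 1 (-1) 1 0 + c 1 (-1) 1 1 + c 1 0 1 (-1) + c 1 0 1 0 + c 1 0 1 1 + c 1 1 1 (-1) + c 1 1 1 0 + c 1 1 1 1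
      = 1 + (c 1 (-1) (-1) (-1) + c 1 (-1) (-1) 0 + c 1 (-1) (-1) 1 + c 1 0 (-1) (-1) + c 1 0 (-1) 0 + c 1 0 (-1) 1 + c 1 1 (-1) (-1) + c 1 1 (-1) 0 + c 1 1 (-1) 1)) ∧
    (c 1 (-1) (-1) 1 + c 1 (-1) 0 1 + c 1 (-1) 1 1 + c 1 0 (-1) 1 + c 1 0 0 1 + c 1 0 1 1 + c 1 1 (-1) 1 + c 1 1 0 1 + c 1 1 1 1
      = 2 + (c 1 (-1) (-1) (-1) + c 1 (-1) 0 (-1) + c 1 (-1) 1 (-1) + c 1 0 (-1) (-1) + c 1 0 0 (-1) + c 1 0 1 (-1) + c 1 1 (-1) (-1) + c 1 1 0 (-1) + c 1 1 1 (-1))) ∧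
    (c 0 1 1 (-1) + c 0 1 1 0 + c 0 1 1 1 + c 1 (-1) (-1) (-1) + c 1 (-1) (-1) 0 + c 1 (-1) (-1) 1 + c 1 1 1 (-1) + c 1 1 1 0 + c 1 1 1 1
      = 2 + (c 0 1 (-1) (-1) + c 0 1 (-1) 0 + c 0 1 (-1) 1 + c 1 (-1) 1 (-1) + c 1 (-1) 1 0 + c 1 (-1) 1 1 + c 1 1 (-1) (-1) + c 1 1 (-1) 0 + c 1 1 (-1) 1)) ∧
    (c 0 1 (-1) 1 + c 0 1 0 1 + c 0 1 1 1 + c 1 (-1) (-1) (-1) + c 1 (-1) 0 (-1) + c 1 (-1) 1 (-1) + c 1 1 (-1) 1 + c 1 1 0 1 + c 1 1 1 1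
      = 2 + (c 0 1 (-1) (-1) + c 0 1 0 (-1) + c 0 1 1 (-1) + c 1 (-1) (-1) 1 + c 1 (-1) 0 1 + c 1 (-1) 1 1 + c 1 1 (-1) (-1) + c 1 1 0 (-1) + c 1 1 1 (-1))) ∧
    (c 0 0 1 1 + c 0 1 (-1) (-1) + c 0 1 1 1 + c 1 (-1) (-1) (-1) + c 1 (-1) 1 1 + c 1 0 (-1) (-1) + c 1 0 1 1 + c 1 1 (-1) (-1) + c 1 1 1 1
      = 1 + (c 0 0 1 (-1) + c 0 1 (-1) 1 + c 0 1 1 (-1) + c 1 (-1) (-1) 1 + c 1 (-1) 1 (-1) + c 1 0 (-1) 1 + c 1 0 1 (-1) + c 1 1 (-1) 1 + c 1 1 1 (-1))) :=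
  Cfsg.Agent.Lib.Helper24_D72_SHCNTaux.count_eqs_aux
    (fun i hi => Cfsg.Agent.Lib.Helper58_D72_SHENT.entries hp i hi)
    hp.Po hp.Qo hp.P'o hp.Q'o hp.PP hp.QQ hp.P'P' hp.Q'Q' hp.PQ hp.P'Q' hp.PP' hp.PQ' hp.QP' hp.QQ'
    c hc

end Cfsg.Agent.Lib.Helper24_D72_SHCNT
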