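import Cfsg.Agent.Lib.Helper4_E8Defs
import Cfsg.Agent.Lib.Helper6_BNPairC

set_option autoImplicit false

/-!
# S5751 package GRAD-B (helper43 for helper4): table facts on the levels of the roots of `E₈`.

All eight facts are finite checks on the tables of `chevE8`, done by kernel evaluation of the decision
procedure (one bounded statement per fact).
-/

namespace Cfsg.Agent.Lib.Helper43_E8C_GRADB

open Cfsg Cfsg.Lie Cfsg.Agent.Lib.Helper18_MatTri Cfsg.Agent.Lib.Helper18_ChevTri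
  Cfsg.Agent.Lib.Helper4_E8Defs

set_option maxHeartbeats 0 in
theorem lv_simple : ∀ i < 8, lv (D8.simple i) = if i = 3 then 1 else 0 := by decide +kernel

set_option maxHeartbeats 0 in
theorem lv_reflect : ∀ i < 8, ∀ r < 240,
    lv (D8.reflectRoot i r) = lv r - if i = 3 then D8.cartan 3 r else 0 := by decide +kernel

set_option maxHeartbeats 0 in
theorem cartan_bound : ∀ r < 240, r ≠ D8.simple 3 → r ≠ D8.neg (D8.simple 3) →
    -1 ≤ D8.cartan 3 r ∧ D8.cartan 3 r ≤ 1 := by decide +kernel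

set_option maxHeartbeats 0 in
theorem pos_of_lv_pos : ∀ r < 240, 0 < lv r → D8.IsPosRoot r := by decide +kernel

set_option maxHeartbeats 0 in
theorem lv_nonneg_aux : ∀ r < 240, D8.IsPosRoot r → 0 ≤ lv r := by decide +kernel

set_option maxHeartbeats 0 in
theorem lv_le_six : ∀ r < 240, lv r ≤ 6 := by decide +kernel

set_option maxHeartbeats 0 in
theorem lv_neg : ∀ r < 240, lv (D8.neg r) = - lv r := by decide +kernel

theorem lv_def (r : ℕ) : lv r = (D8.coroot.getD r #[]).getD 3 0 := by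
  unfold lv
  exact Eq.refl _

theorem mem_J3 (i : ℕ) : i ∈ J3 ↔ i ≠ 3 := by
  unfold J3
  exact Iff.rfl

theorem rank8 : D8.rank = 8 := by
  exact Eq.refl _

theorem nroots240 : D8.nroots = 240 := by
  exact Eq.refl _

theorem inRootSub_def (J : Set ℕ) (r : ℕ) : D8.InRootSub J r ↔
    (r < D8.nroots ∧ ∀ i < D8.rank, i ∉ J → (D8.coroot.getD r #[]).getD i 0 = 0) := by
  unfold ChevalleyDatum.InRootSub
  exact Iff.rfl

theorem inRootSub_iff (r : ℕ) : D8.InRootSub J3 r ↔ r < 240 ∧ lv r = 0 := by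
  rw [inRootSub_def, rank8, nroots240, lv_def]
  constructor
  · rintro ⟨hr, h⟩
    refine ⟨hr, ?_⟩
    have h3 : (3 : ℕ) ∉ J3 := by
      rw [mem_J3]
      exact fun h => h rfl
    exact h 3 (by norm_num) h3
  · rintro ⟨hr, h⟩
    refine ⟨hr, ?_⟩
    intro i _ hi
    rw [mem_J3] at hi
    have hi3 : i = 3 := by
      by_contra hne
      exact hi hne
    rw [hi3]
    exact h

/-- GRAD-B.  Table facts on the levels. -/
theorem lv_facts :
    (∀ i < 8, lv (D8.simple i) = if i = 3 then 1 else 0) ∧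
    (∀ i < 8, ∀ r < 240, lv (D8.reflectRoot i r) = lv r - if i = 3 then D8.cartan 3 r else 0) ∧
    (∀ r < 240, r ≠ D8.simple 3 → r ≠ D8.neg (D8.simple 3) → -1 ≤ D8.cartan 3 r ∧ D8.cartan 3 r ≤ 1) ∧
    (∀ r < 240, 0 < lv r → D8.IsPosRoot r) ∧
    (∀ r, D8.IsPosRoot r → 0 ≤ lv r) ∧
    (∀ r < 240, lv r ≤ 6) ∧
    (∀ r, D8.InRootSub J3 r ↔ r < 240 ∧ lv r = 0) ∧
    (∀ r < 240, lv (D8.neg r) = - lv r) :=
  ⟨lv_simple, lv_reflect, cartan_bound, pos_of_lv_pos,
    fun r hr => lv_nonneg_aux r hr.1 hr, lv_le_six, inRootSub_iff, lv_neg⟩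

end Cfsg.Agent.Lib.Helper43_E8C_GRADB
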