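import Cfsg.Agent.Lib.Helper4_E8Defs
import Cfsg.Agent.Lib.Helper43_E8C_GRADB
import Cfsg.Agent.Lib.Helper18_ChevDatumE8
import Cfsg.Agent.Lib.Helper18_ChevTCertE8
import Cfsg.Agent.Lib.Helper18_ChevACerts

set_option autoImplicit false

/-!
# S5751 (architect helper4): package PTRI (helper58)

The maximal parabolic subgroup `P_J` of `E₈(2)` does not lower the level grading: `P_J ≤ T 0`.
Route: `P_J ≤ U_J ⊔ L_J` (`parabolic_le_sup`), `U_J` is generated by root elements of positive
roots (levels `≥ 0`), and `L_J ≤ T 0` by `levi_le_tri`.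
-/

namespace Cfsg.Agent.Lib.Helper58_E8C_PTRI

open Cfsg Cfsg.Lie Cfsg.Agent.Lib.Helper18_MatTri Cfsg.Agent.Lib.Helper18_ChevTri
  Cfsg.Agent.Lib.Helper4_E8Defs Cfsg.Agent.Lib.Helper18_ChevEngine Cfsg.Agent.Lib.Helper18_ChevFast
  Cfsg.Agent.Lib.Helper18_ChevAdd Cfsg.Agent.Lib.Helper18_ChevLevi Cfsg.Agent.Lib.Helper18_ChevTorus
  Cfsg.Agent.Lib.Helper18_ChevWeyl Cfsg.Agent.Lib.Helper18_ChevN

/-- `T 0` in terms of the integer `0` -/
theorem h58_T_zero : T 0 = triSubgroup (R := F2) (grIdx D8 lv) 0 (le_refl 0) := by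
  ext g
  unfold T
  rw [mem_triSubgroup, mem_triSubgroup, Nat.cast_zero]

set_option maxHeartbeats 0 in
set_option maxRecDepth 1000000 in
/-- the level is the grading of the fourth fundamental coweight -/
theorem h58_lv_eq_grRoot : ∀ r < 240, lv r = grRoot D8 [10, 15, 20, 30, 24, 18, 12, 6] r := by
  decide +kernel

/-- the level grading, from the weight vector of the fourth fundamental coweight -/
theorem h58_isGrading_lv {Ns : List NData} (c : DCert D8 Ns) (tc : TCert D8) : IsGrading D8 lv := by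
  have h := h58_lv_eq_grRoot
  have hw := isGrading_w c tc [10, 15, 20, 30, 24, 18, 12, 6]
  constructor
  · intro s hs
    have hs' : s < 240 := by
      rw [Cfsg.Agent.Lib.Helper43_E8C_GRADB.nroots240] at hs
      exact hs
    have h1 := Cfsg.Agent.Lib.Helper43_E8C_GRADB.lv_neg s hs'
    unfold ChevalleyDatum.neg at h1
    exact h1
  · intro r s u hr hs hu km hkm
    have hr' : r < 240 := by
      rw [Cfsg.Agent.Lib.Helper43_E8C_GRADB.nroots240] at hr
      exact hr
    have hs' : s < 240 := by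
      rw [Cfsg.Agent.Lib.Helper43_E8C_GRADB.nroots240] at hs
      exact hs
    have hu' : u < 240 := by
      rw [Cfsg.Agent.Lib.Helper43_E8C_GRADB.nroots240] at hu
      exact hu
    rw [h r hr', h s hs', h u hu']
    exact hw.chain r s u hr hs hu km hkm

/-- PTRI with the certificates of the datum as hypotheses -/
theorem h58_PJ_le_T_aux {Ns : List NData} {wl : List ℤ} {ws : List (List ℤ)} {sc : ℤ}
    (c : DCert D8 Ns) (tc : TCert D8) (ac : ACert D8 wl ws sc) : PJ ≤ T 0 := by
  have hgr := h58_isGrading_lv c tc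
  rw [h58_T_zero]
  unfold PJ
  refine le_trans (parabolic_le_sup J3 c tc ac) (sup_le ?_ ?_)
  · rw [unipotentRadical_eq, Subgroup.closure_le]
    rintro g ⟨r, t, hr, hJ, hg⟩
    show Raises _ _ _
    rw [hg]
    have h0 : 0 ≤ lv r := Cfsg.Agent.Lib.Helper43_E8C_GRADB.lv_facts.2.2.2.2.1 r hr
    exact (x_raises_zero hgr r hr.1 h0 t).sub (raises_one (le_refl 0))
  · refine levi_le_tri J3 c tc ac hgr ?_
    intro r hr
    rw [((Cfsg.Agent.Lib.Helper43_E8C_GRADB.inRootSub_iff r).mp hr).2]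

/-- the level function is a grading of the datum of type `E₈` -/
theorem h58_isGrading_lv' : IsGrading D8 lv :=
  h58_isGrading_lv Cfsg.Agent.Lib.Helper18_ChevDatumE8.dcert Cfsg.Agent.Lib.Helper18_ChevTCertE8.tcert

/-- PTRI. -/
theorem PJ_le_T : PJ ≤ T 0 :=
  h58_PJ_le_T_aux Cfsg.Agent.Lib.Helper18_ChevDatumE8.dcert Cfsg.Agent.Lib.Helper18_ChevTCertE8.tcert
    Cfsg.Agent.Lib.Helper18_ChevACerts.acertE8

end Cfsg.Agent.Lib.Helper58_E8C_PTRI
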