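import Cfsg.Agent.Lib.Helper4_E8Defs
import Cfsg.Agent.Lib.Helper18_ChevDatumE8
import Cfsg.Agent.Lib.Helper18_ChevTCertE8
import Cfsg.Agent.Lib.Helper18_ChevACerts
import Cfsg.Agent.Lib.Helper18_ChevPCertE8

set_option autoImplicit false
set_option maxRecDepth 100000

/-!
# S5751 market (architect helper4), package WORD

Every element of `Q j` (the subgroup generated by the root subgroups of the positive roots of level at least `j`) of
`E₈(2)` is a product of root elements over the list `lvRoots j`, in the order of the list.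
-/

namespace Cfsg.Agent.Lib.Helper78_E8C_WORD

open Cfsg Cfsg.Lie Cfsg.Agent.Lib.Helper18_MatTri Cfsg.Agent.Lib.Helper18_ChevTri
  Cfsg.Agent.Lib.Helper4_E8Defs

open Cfsg.Agent.Lib.Helper18_ChevFast Cfsg.Agent.Lib.Helper18_ChevEngine Cfsg.Agent.Lib.Helper18_ChevGL
  Cfsg.Agent.Lib.Helper18_ChevComm2 Cfsg.Agent.Lib.Helper18_ChevAdd Cfsg.Agent.Lib.Helper18_ChevUni
  Cfsg.Agent.Lib.Helper18_ChevACerts

/-! ### the level is a grading -/

/-- The weights of the level: the row of the node `3` of the inverse of the Cartan matrix. -/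
def wLv : List ℤ := [10, 15, 20, 30, 24, 18, 12, 6]

theorem lv_eq_tab : ∀ r < 240, lv r = grL D8 wLv r := by decide +kernel

theorem negIdx_lt_tab : ∀ r < 240, D8.negIdx.getD r 0 < 240 := by decide +kernel

theorem nroots_eq : D8.nroots = 240 := by decide +kernel

theorem lv_eq (r : ℕ) (hr : r < D8.nroots) : lv r = grRoot D8 wLv r := by
  rw [← grL_eq]
  exact lv_eq_tab r (nroots_eq ▸ hr)

/-- The level is additive along the chains (local version of the package GRAD-A). -/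
theorem isGrading_lv' : IsGrading D8 lv := by
  have hg := isGrading_w Cfsg.Agent.Lib.Helper18_ChevDatumE8.dcert Cfsg.Agent.Lib.Helper18_ChevTCertE8.tcert wLv
  constructor
  · intro s hs
    have hn : D8.negIdx.getD s 0 < D8.nroots := by
      rw [nroots_eq]
      exact negIdx_lt_tab s (nroots_eq ▸ hs)
    rw [lv_eq s hs, lv_eq _ hn]
    exact hg.neg s hs
  · intro r s u hr hs hu km hkm
    rw [lv_eq u hu, lv_eq s hs, lv_eq r hr]
    exact hg.chain r s u hr hs hu km hkm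

/-! ### the list of the roots of level at least `j` is closed -/

theorem mem_lvRoots (j r : ℕ) : r ∈ lvRoots j ↔ D8.IsPosRoot r ∧ (j : ℤ) ≤ lv r := by
  unfold lvRoots
  rw [List.mem_filter, mem_posRoots, decide_eq_true_eq]

theorem closedList_lvRoots (j : ℕ) : ClosedList D8 (lvRoots j) := by
  have hP := closedList_posRoots Cfsg.Agent.Lib.Helper18_ChevDatumE8.dcert
    Cfsg.Agent.Lib.Helper18_ChevTCertE8.tcert acertE8
  refine ⟨?_, ?_, ?_, ?_⟩
  · unfold lvRoots
    exact List.Pairwise.filter _ posRoots_sorted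
  · intro a ha
    exact ((mem_lvRoots j a).mp ha).1.1
  · intro a ha b hb
    exact hP.ne_neg a ((mem_posRoots a).mpr ((mem_lvRoots j a).mp ha).1) b
      ((mem_posRoots b).mpr ((mem_lvRoots j b).mp hb).1)
  · intro a ha b hb hab k hk
    obtain ⟨hap, haj⟩ := (mem_lvRoots j a).mp ha
    obtain ⟨hbp, hbj⟩ := (mem_lvRoots j b).mp hb
    obtain ⟨h1, h2, h3⟩ := commTerms_pos_lt Cfsg.Agent.Lib.Helper18_ChevDatumE8.dcert
      Cfsg.Agent.Lib.Helper18_ChevTCertE8.tcert acertE8 a b hap hbp k hk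
    obtain ⟨-, hk1, hk2, hval⟩ := commTerms_grading Cfsg.Agent.Lib.Helper18_ChevDatumE8.dcert.rows
      acertE8.in_range isGrading_lv' a b hap.1 hbp.1 k hk
    refine ⟨(mem_lvRoots j k.1).mpr ⟨h1, ?_⟩, h2, h3⟩
    rw [hval]
    have hj0 : (0 : ℤ) ≤ (j : ℤ) := Int.natCast_nonneg j
    have e1 : (1 : ℤ) ≤ (k.2.2.1 : ℤ) := by exact_mod_cast hk1
    have e2 : (1 : ℤ) ≤ (k.2.2.2 : ℤ) := by exact_mod_cast hk2
    nlinarith

/-! ### the words -/

theorem Q_eq_listGens (j : ℕ) : Q j = Subgroup.closure (listGens D8 F2 (lvRoots j)) := by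
  unfold Q qGens listGens
  congr 1
  ext g
  show (∃ (r : ℕ) (t : F2), D8.IsPosRoot r ∧ (j : ℤ) ≤ lv r ∧ (g : Matrix D8.Idx D8.Idx F2) = D8.x F2 r t) ↔
    ∃ s ∈ lvRoots j, ∃ t : F2, (g : Matrix D8.Idx D8.Idx F2) = D8.x F2 s t
  constructor
  · rintro ⟨r, t, hr, hj, hg⟩
    exact ⟨r, (mem_lvRoots j r).mpr ⟨hr, hj⟩, t, hg⟩
  · rintro ⟨r, hr, t, hg⟩
    obtain ⟨h1, h2⟩ := (mem_lvRoots j r).mp hr
    exact ⟨r, t, h1, h2, hg⟩

/-- WORD. -/
theorem exists_word (j : ℕ) (hj : 1 ≤ j) (u : GLE) (hu : u ∈ Q j) :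
    ∃ t : ℕ → F2, (u : Matrix D8.Idx D8.Idx F2) = D8.wordMat F2 ((lvRoots j).map fun r => (r, t r)) := by
  rw [Q_eq_listGens] at hu
  obtain ⟨t, ht⟩ := exists_word_of_closed Cfsg.Agent.Lib.Helper18_ChevDatumE8.dcert
    (r2_all Cfsg.Agent.Lib.Helper18_ChevDatumE8.dcert Cfsg.Agent.Lib.Helper18_ChevPCertE8.pcert)
    (lvRoots j) (closedList_lvRoots j) u hu
  exact ⟨t, by rw [ht, wordGL_coe]⟩

end Cfsg.Agent.Lib.Helper78_E8C_WORD
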