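import Cfsg.Agent.Lib.Helper4_E8Defs

set_option autoImplicit false

/-!
# S5751 (architect helper4): package TADD (helper58)

The coordinate `tco r` at a root of level `j ≥ 1` is additive on `T j` and vanishes on `T (j + 1)`.
-/

namespace Cfsg.Agent.Lib.Helper58_E8C_TADD

open Cfsg Cfsg.Lie Cfsg.Agent.Lib.Helper18_MatTri Cfsg.Agent.Lib.Helper18_ChevTri
  Cfsg.Agent.Lib.Helper4_E8Defs

open Matrix in
/-- the entry at `(i, l)` with `b i = b l + k` is additive on the matrices raising the grading by
`k ≥ 1` and vanishes on those raising it by more -/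
theorem h58_entry_mul {n : Type*} [Fintype n] [DecidableEq n] {R : Type*} [CommRing R] {b : n → ℤ}
    {k : ℤ} (hk : 1 ≤ k) (i l : n) (hil : b i = b l + k) :
    (∀ g g' : GL n R, Raises b k ((g : Matrix n n R) - 1) → Raises b k ((g' : Matrix n n R) - 1) →
      ((g * g' : GL n R) : Matrix n n R) i l = (g : Matrix n n R) i l + (g' : Matrix n n R) i l) ∧
    (∀ (k' : ℤ) (g : GL n R), k < k' → Raises b k' ((g : Matrix n n R) - 1) →
      (g : Matrix n n R) i l = 0) := by
  have hne : i ≠ l := by
    rintro rfl
    omega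
  constructor
  · intro g g' hg hg'
    have e : ((g * g' : GL n R) : Matrix n n R) - 1 =
        ((g : Matrix n n R) - 1) * ((g' : Matrix n n R) - 1) + ((g : Matrix n n R) - 1) +
          ((g' : Matrix n n R) - 1) := by
      rw [Units.val_mul]; noncomm_ring
    have h0 : (((g : Matrix n n R) - 1) * ((g' : Matrix n n R) - 1)) i l = 0 :=
      (Raises.mul hg hg') i l (by omega)
    have := congrFun (congrFun e i) l
    simp only [Matrix.sub_apply, Matrix.add_apply, Matrix.one_apply_ne hne, h0, sub_zero,
      zero_add] at this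
    exact this
  · intro k' g hk' hg
    have := hg i l (by omega)
    rw [Matrix.sub_apply, Matrix.one_apply_ne hne, sub_zero] at this
    exact this

/-- the level of the negative root -/
theorem h58_lv_neg : ∀ r < 240, lv (D8.neg r) = - lv r := by
  decide +kernel

/-- TADD.  The coordinate at a root of level `j ≥ 1` is additive on `T j` and vanishes on `T (j + 1)`. -/
theorem tco_mul (j : ℕ) (hj : 1 ≤ j) (r : ℕ) (hr : r < 240) (hlv : lv r = j) :
    (∀ g ∈ T j, ∀ g' ∈ T j, tco r (g * g') = tco r g + tco r g') ∧ (∀ g ∈ T (j + 1), tco r g = 0) := by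
  by_cases h : D8.neg r < D8.nroots
  · have hb : grIdx D8 lv (Sum.inl ⟨oddIx r % 8, Nat.mod_lt _ (by decide)⟩) =
        grIdx D8 lv (Sum.inr ⟨D8.neg r, h⟩) + (j : ℤ) := by
      simp only [grIdx]
      rw [h58_lv_neg r hr, hlv]
      ring
    have hj' : (1 : ℤ) ≤ (j : ℤ) := by exact_mod_cast hj
    obtain ⟨k1, k2⟩ := h58_entry_mul (R := F2) hj' _ _ hb
    constructor
    · intro g hg g' hg'
      unfold tco
      rw [dif_pos h, dif_pos h, dif_pos h]
      exact k1 g g' hg hg'
    · intro g hg
      unfold tco
      rw [dif_pos h]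
      exact k2 ((j + 1 : ℕ) : ℤ) g (by push_cast; omega) hg
  · constructor
    · intro g _ g' _
      unfold tco
      rw [dif_neg h, dif_neg h, dif_neg h, add_zero]
    · intro g _
      unfold tco
      rw [dif_neg h]

end Cfsg.Agent.Lib.Helper58_E8C_TADD
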