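import Cfsg.Agent.Lib.Helper4_E8Defs
import Cfsg.Agent.Lib.Helper6_BNPairC
import Cfsg.Agent.Lib.Helper18_ChevDatumE8
import Cfsg.Agent.Lib.Helper18_ChevTCertE8

set_option autoImplicit false

/-!
E8C market (architect helper4, statement S5751), package GRAD-A (by-product of NORM / WORDT, which both need it):
the level `lv` is a grading of `E₈`.

On the 240 roots `lv` agrees with `grRoot D8 w`, `w = [10, 15, 20, 30, 24, 18, 12, 6]` the fundamental coweight of
the node `3` written in the simple coroots (kernel evaluation of the decision procedure), and `grRoot D8 w` is a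
grading by `isGrading_w`; both conditions of `IsGrading` only involve roots below `240`.
-/

namespace Cfsg.Agent.Lib.Helper99_E8C_GRADA

open Cfsg Cfsg.Lie Cfsg.Agent.Lib.Helper18_MatTri Cfsg.Agent.Lib.Helper18_ChevTri
  Cfsg.Agent.Lib.Helper4_E8Defs

set_option maxHeartbeats 0 in
/-- The level is the grading with the weights of the fundamental coweight of the node `3`. -/
theorem aux_lv_eq_grRoot : ∀ r < 240, lv r = grRoot D8 [10, 15, 20, 30, 24, 18, 12, 6] r := by
  decide +kernel

theorem aux_nroots : D8.nroots = 240 := by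
  exact Eq.refl _

/-- GRAD-A.  `lv` is a grading. -/
theorem isGrading_lv : IsGrading D8 lv := by
  have hw := Cfsg.Agent.Lib.Helper18_ChevAdd.isGrading_w Cfsg.Agent.Lib.Helper18_ChevDatumE8.dcert
    Cfsg.Agent.Lib.Helper18_ChevTCertE8.tcert [10, 15, 20, 30, 24, 18, 12, 6]
  have hn : D8.nroots = 240 := aux_nroots
  constructor
  · intro s hs
    have hs' : s < 240 := by rw [← hn]; exact hs
    have hns : D8.negIdx.getD s 0 < 240 := by
      have h := Cfsg.Agent.Lib.Helper18_ChevTorus.DCert.neg_lt Cfsg.Agent.Lib.Helper18_ChevDatumE8.dcert s hs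
      unfold ChevalleyDatum.neg at h
      rw [← hn]
      exact h
    rw [aux_lv_eq_grRoot _ hns, aux_lv_eq_grRoot _ hs']
    exact hw.neg s hs
  · intro r s u hr hs hu km hkm
    have hr' : r < 240 := by rw [← hn]; exact hr
    have hs' : s < 240 := by rw [← hn]; exact hs
    have hu' : u < 240 := by rw [← hn]; exact hu
    rw [aux_lv_eq_grRoot _ hr', aux_lv_eq_grRoot _ hs', aux_lv_eq_grRoot _ hu']
    exact hw.chain r s u hr hs hu km hkm

end Cfsg.Agent.Lib.Helper99_E8C_GRADA
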