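import Cfsg.Agent.Lib.Helper4_E8Defs
import Cfsg.Agent.Lib.Helper6_BNPairC

set_option autoImplicit false

/-!
E8C market (architect helper4, statement S5751), package TX: the coordinate `tco r` of a root element `x_s(t)` is
`t` if `s = r` and `0` otherwise.

`aux_x_inl_inr` (any datum) reads the entries of `x_s(t)` in a row `h_i` and a column `e_u` off the definition;
four table facts on `E₈` (the negative of a root is in range, `neg` is an involution without fixed points, the coroot
of `s` has an odd coefficient at `oddIx s`) are kernel evaluations of the decision procedure.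
-/

namespace Cfsg.Agent.Lib.Helper99_E8C_TX

open Cfsg Cfsg.Lie Cfsg.Agent.Lib.Helper18_MatTri Cfsg.Agent.Lib.Helper18_ChevTri
  Cfsg.Agent.Lib.Helper4_E8Defs

/-- The entries of a root element in a row `h_i` and a column `e_u`. -/
theorem aux_x_inl_inr (D : ChevalleyDatum) (F : Type*) [Field F] (s : ℕ) (hs : s < D.nroots) (t : F)
    (i : Fin D.rank) (u : Fin D.nroots) :
    D.x F s t (Sum.inl i) (Sum.inr u) =
      if u.val = s then 0 else if u.val = D.neg s then
        (((D.coroot.getD s #[]).getD i.val 0 : ℤ) : F) * t else 0 := by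
  unfold ChevalleyDatum.x
  rw [dif_pos hs]
  unfold ChevalleyDatum.xMat ChevalleyDatum.neg
  simp only [Matrix.of_apply]
  by_cases h1 : u.val = s
  · have h1' : u = ⟨s, hs⟩ := Fin.ext h1
    rw [if_pos h1', if_pos h1]
  · have h1' : u ≠ ⟨s, hs⟩ := fun h => h1 (congrArg Fin.val h)
    rw [if_neg h1', if_neg h1]

set_option maxHeartbeats 0 in
theorem aux_neg_lt : ∀ r < 240, D8.neg r < 240 := by decide +kernel

set_option maxHeartbeats 0 in
theorem aux_neg_neg : ∀ r < 240, D8.neg (D8.neg r) = r := by decide +kernel

set_option maxHeartbeats 0 in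
theorem aux_neg_ne : ∀ r < 240, D8.neg r ≠ r := by decide +kernel

set_option maxHeartbeats 0 in
theorem aux_odd : ∀ s < 240, (((D8.coroot.getD s #[]).getD (oddIx s % 8) 0 : ℤ) : F2) = 1 := by
  decide +kernel

theorem aux_nroots : D8.nroots = 240 := by
  exact Eq.refl _

/-- TX.  The coordinates of the root elements. -/
theorem tco_x (r s : ℕ) (hr : r < 240) (hs : s < 240) (t : F2) (g : GLE)
    (hg : (g : Matrix D8.Idx D8.Idx F2) = D8.x F2 s t) : tco r g = if s = r then t else 0 := by
  have hnr : D8.neg r < D8.nroots := by rw [aux_nroots]; exact aux_neg_lt r hr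
  have hs' : s < D8.nroots := by rw [aux_nroots]; exact hs
  unfold tco
  rw [dif_pos hnr, hg, aux_x_inl_inr D8 F2 s hs' t]
  simp only
  by_cases h1 : D8.neg r = s
  · rw [if_pos h1]
    have h3 : s ≠ r := by
      rw [← h1]
      exact aux_neg_ne r hr
    rw [if_neg h3]
  · rw [if_neg h1]
    by_cases h2 : D8.neg r = D8.neg s
    · rw [if_pos h2]
      have h3 : s = r := by
        rw [← aux_neg_neg r hr, ← aux_neg_neg s hs, h2]
      rw [if_pos h3]
      subst h3
      rw [aux_odd s hs, one_mul]
    · rw [if_neg h2]
      have h3 : s ≠ r := by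
        rintro rfl
        exact h2 (Eq.refl _)
      rw [if_neg h3]

end Cfsg.Agent.Lib.Helper99_E8C_TX
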