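import Cfsg.Agent.Lib.Helper4_E8Defs
import Cfsg.Agent.Lib.Helper6_BNPairC
import Cfsg.Agent.Lib.Helper18_ChevDatumE8
import Cfsg.Agent.Lib.Helper58_E8C_TADD
import Cfsg.Agent.Lib.Helper99_E8C_TX
import Cfsg.Agent.Lib.Helper99_E8C_GRADA

set_option autoImplicit false

/-!
E8C market (architect helper4, statement S5751), package WORDT: the coordinates `tco s` (`s` of level exactly `j`)
of a word in root elements of level at least `j`, taken over a duplicate-free list of roots.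

`tco_word_aux` is the induction on the list, with GRAD-A, TX and TADD as hypotheses; the final statement plugs in
`isGrading_lv` (GRAD-A), `tco_x` (TX) and `tco_mul` (TADD, helper58).
-/

namespace Cfsg.Agent.Lib.Helper99_E8C_WORDT

open Cfsg Cfsg.Lie Cfsg.Agent.Lib.Helper18_ChevFast Cfsg.Agent.Lib.Helper18_ChevEngine
  Cfsg.Agent.Lib.Helper18_ChevR1 Cfsg.Agent.Lib.Helper18_ChevN Cfsg.Agent.Lib.Helper18_ChevR4
  Cfsg.Agent.Lib.Helper18_ChevSimple Cfsg.Agent.Lib.Helper18_ChevSimple2 Cfsg.Agent.Lib.Helper18_ChevFacts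
  Cfsg.Agent.Lib.Helper18_ChevWeyl Cfsg.Agent.Lib.Helper18_ChevDiag Cfsg.Agent.Lib.Helper18_ChevCar
  Cfsg.Agent.Lib.Helper18_ChevTorus Cfsg.Agent.Lib.Helper18_ChevGL Cfsg.Agent.Lib.Helper18_ChevComm
  Cfsg.Agent.Lib.Helper18_MatTri Cfsg.Agent.Lib.Helper18_ChevTri
  Cfsg.Agent.Lib.Helper4_E8Defs

theorem nroots_eq : D8.nroots = 240 := rfl

/-- WORDT, with the other packages as hypotheses. -/
theorem tco_word_aux {Ns : List NData} (c : DCert D8 Ns) (hgr : IsGrading D8 lv)
    (hTX : ∀ (r s : ℕ), r < 240 → s < 240 → ∀ (t : F2) (g : GLE),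
      (g : Matrix D8.Idx D8.Idx F2) = D8.x F2 s t → tco r g = if s = r then t else 0)
    (hTADD : ∀ (j : ℕ), 1 ≤ j → ∀ r, r < 240 → lv r = j →
      (∀ g ∈ T j, ∀ g' ∈ T j, tco r (g * g') = tco r g + tco r g') ∧ (∀ g ∈ T (j + 1), tco r g = 0))
    (j : ℕ) (hj : 1 ≤ j) (L : List ℕ) (hL : L.Nodup) (hLj : ∀ r ∈ L, r < 240 ∧ (j : ℤ) ≤ lv r)
    (t : ℕ → F2) (s : ℕ) (hs : s < 240) (hlv : lv s = j) :
    wordGL c (L.map fun r => (r, t r)) ∈ T j ∧
      tco s (wordGL c (L.map fun r => (r, t r))) = if s ∈ L then t s else 0 := by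
  induction L with
  | nil =>
    have h1 : wordGL c (([] : List ℕ).map fun r => (r, t r)) = 1 := rfl
    rw [h1]
    refine ⟨Subgroup.one_mem _, ?_⟩
    rw [if_neg (List.not_mem_nil)]
    exact (hTADD j hj s hs hlv).2 1 (Subgroup.one_mem _)
  | cons r L ih =>
    have hr := hLj r List.mem_cons_self
    obtain ⟨ih1, ih2⟩ := ih (List.nodup_cons.1 hL).2 (fun r' hr' => hLj r' (List.mem_cons_of_mem _ hr'))
    have hx : xGL c r (t r) ∈ T j := by
      show Raises _ _ _
      rw [xGL_coe]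
      exact x_sub_one_raises hgr r (by rw [nroots_eq]; exact hr.1) (j : ℤ) (by exact_mod_cast hj) hr.2 (t r)
    have hw : wordGL c ((r :: L).map fun r => (r, t r)) =
        xGL c r (t r) * wordGL c (L.map fun r => (r, t r)) := by
      unfold wordGL
      rw [List.map_cons, List.map_cons, List.prod_cons]
    rw [hw]
    refine ⟨Subgroup.mul_mem _ hx ih1, ?_⟩
    rw [(hTADD j hj s hs hlv).1 _ hx _ ih1, ih2, hTX s r hs hr.1 (t r) _ (xGL_coe c r (t r))]
    by_cases hrs : r = s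
    · subst hrs
      have hnot : r ∉ L := (List.nodup_cons.1 hL).1
      simp [hnot]
    · have hiff : s ∈ r :: L ↔ s ∈ L := by
        rw [List.mem_cons]
        constructor
        · rintro (h | h)
          · exact absurd h.symm hrs
          · exact h
        · exact Or.inr
      rw [if_neg hrs, zero_add]
      by_cases hsL : s ∈ L
      · rw [if_pos hsL, if_pos (hiff.2 hsL)]
      · rw [if_neg hsL, if_neg (fun h => hsL (hiff.1 h))]

/-- WORDT.  The coordinates of a word in root elements of level at least `j`, at a root of level exactly `j`. -/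
theorem tco_word (j : ℕ) (hj : 1 ≤ j) (L : List ℕ) (hL : L.Nodup)
    (hLj : ∀ r ∈ L, r < 240 ∧ (j : ℤ) ≤ lv r) (t : ℕ → F2) (u : GLE)
    (hu : (u : Matrix D8.Idx D8.Idx F2) = D8.wordMat F2 (L.map fun r => (r, t r)))
    (s : ℕ) (hs : s < 240) (hlv : lv s = j) : tco s u = if s ∈ L then t s else 0 := by
  rw [eq_wordGL Cfsg.Agent.Lib.Helper18_ChevDatumE8.dcert hu]
  exact (tco_word_aux Cfsg.Agent.Lib.Helper18_ChevDatumE8.dcert
    Cfsg.Agent.Lib.Helper99_E8C_GRADA.isGrading_lv Cfsg.Agent.Lib.Helper99_E8C_TX.tco_x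
    Cfsg.Agent.Lib.Helper58_E8C_TADD.tco_mul j hj L hL hLj t s hs hlv).2

end Cfsg.Agent.Lib.Helper99_E8C_WORDT
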