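import Cfsg.Agent.Lib.Helper24_E8C_BAD1aux
import Cfsg.Agent.Lib.Helper78_E8C_WORD
import Cfsg.Agent.Lib.Helper99_E8C_WORDT
import Cfsg.Agent.Lib.Helper58_E8C_PTRI

set_option autoImplicit false

/-!
# S5751 market (architect helper4), package BAD1 (verbatim)

`tco_bad_one`: if `u ∈ Q 1` and `n u n⁻¹ ∈ P_J` (`n = n_{p₄}(1)`), then the coordinate of `u` at `p₄` vanishes.
Assembled from `Helper24_E8C_BAD1aux.tco_bad_one_aux` and the landed packages WORD (helper78), WORDT (helper99),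
PTRI (helper58).
-/

namespace Cfsg.Agent.Lib.Helper24_E8C_BAD1

open Cfsg Cfsg.Lie Cfsg.Agent.Lib.Helper18_MatTri Cfsg.Agent.Lib.Helper18_ChevTri
  Cfsg.Agent.Lib.Helper4_E8Defs

/-- BAD1. -/
theorem tco_bad_one (n : GLE) (hn : IsNk n) (u : GLE) (hu : u ∈ Q 1) (hu' : n * u * n⁻¹ ∈ PJ) :
    tco (D8.simple 3) u = 0 :=
  Cfsg.Agent.Lib.Helper24_E8C_BAD1aux.tco_bad_one_aux
    (fun u hu => Cfsg.Agent.Lib.Helper78_E8C_WORD.exists_word 1 (le_refl 1) u hu)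
    (fun L hL hLj t u hu s hs hlv =>
      Cfsg.Agent.Lib.Helper99_E8C_WORDT.tco_word 1 (le_refl 1) L hL hLj t u hu s hs hlv)
    Cfsg.Agent.Lib.Helper58_E8C_PTRI.PJ_le_T n hn u hu hu'

end Cfsg.Agent.Lib.Helper24_E8C_BAD1
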