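import Cfsg.Agent.Lib.Helper4_E8Defs
import Cfsg.Agent.Lib.Helper18_ChevBruhat
import Cfsg.Agent.Lib.Helper18_ChevDatumE8
import Cfsg.Agent.Lib.Helper18_ChevACerts

set_option autoImplicit false

/-!
# S5751 market (architect helper4), package BAD1

If `u ∈ Q 1` and `n u n⁻¹ ∈ P_J` (`n = n_{p₄}(1)`), then the coordinate of `u` at `p₄` vanishes.

`tco_bad_one_aux` takes the statements of the packages WORD (`exists_word`, `j = 1`), WORDT (`tco_word`,
`j = 1`) and PTRI (`PJ_le_T`) as hypotheses.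
-/

namespace Cfsg.Agent.Lib.Helper24_E8C_BAD1aux

open Cfsg Cfsg.Lie Cfsg.Agent.Lib.Helper18_ChevFast Cfsg.Agent.Lib.Helper18_ChevEngine
  Cfsg.Agent.Lib.Helper18_ChevR1 Cfsg.Agent.Lib.Helper18_ChevN Cfsg.Agent.Lib.Helper18_ChevR4
  Cfsg.Agent.Lib.Helper18_ChevSimple Cfsg.Agent.Lib.Helper18_ChevSimple2 Cfsg.Agent.Lib.Helper18_ChevFacts
  Cfsg.Agent.Lib.Helper18_ChevWeyl Cfsg.Agent.Lib.Helper18_ChevDiag Cfsg.Agent.Lib.Helper18_ChevCar
  Cfsg.Agent.Lib.Helper18_ChevTorus Cfsg.Agent.Lib.Helper18_ChevGL Cfsg.Agent.Lib.Helper18_ChevComm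
  Cfsg.Agent.Lib.Helper18_ChevComm2 Cfsg.Agent.Lib.Helper18_MatTri Cfsg.Agent.Lib.Helper18_ChevTri
  Cfsg.Agent.Lib.Helper18_ChevBorel Cfsg.Agent.Lib.Helper18_ChevAdd Cfsg.Agent.Lib.Helper18_ChevUni
  Cfsg.Agent.Lib.Helper18_ChevBN Cfsg.Agent.Lib.Helper18_ChevMono Cfsg.Agent.Lib.Helper18_ChevBNPair
  Cfsg.Agent.Lib.Helper18_ChevJCerts Cfsg.Agent.Lib.Helper18_ChevLevi Cfsg.Agent.Lib.Helper18_ChevBruhat
  Cfsg.Agent.Lib.Helper4_E8Defs


variable {Ns : List NData}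

/-- conjugation of a word in positive root elements other than `x_{p₄}` by `n` stays in `U`. -/
theorem conj_word_mem {wl : List ℤ} {ws : List (List ℤ)} {sc : ℤ}
    (c : DCert D8 Ns) (ac : ACert D8 wl ws sc) (w : List (ℕ × F2))
    (hw : ∀ p ∈ w, D8.IsPosRoot p.1 ∧ p.1 ≠ D8.simple 3) :
    nGL c 3 * wordGL c w * (nGL c 3)⁻¹ ∈ D8.posUnipotent F2 := by
  induction w with
  | nil =>
    rw [wordGL_nil, mul_one, mul_inv_cancel]
    exact Subgroup.one_mem _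
  | cons p w ih =>
    have h3 : (3 : ℕ) < D8.rank := by decide +kernel
    have hp := hw p (List.mem_cons_self ..)
    have e : nGL c 3 * wordGL c (p :: w) * (nGL c 3)⁻¹ =
        (nGL c 3 * xGL c p.1 p.2 * (nGL c 3)⁻¹) * (nGL c 3 * wordGL c w * (nGL c 3)⁻¹) := by
      rw [wordGL_cons]; group
    rw [e]
    apply Subgroup.mul_mem
    · rw [nGL_conj c 3 h3 p.1 hp.1.1 p.2]
      apply Subgroup.subset_closure
      exact ⟨_, _, (reflect_pos_of_ne c ac 3 h3 p.1 hp.1 hp.2).1, rfl⟩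
    · exact ih (fun q hq => hw q (List.mem_cons_of_mem _ hq))

theorem wordGL_append (c : DCert D8 Ns) (w w' : List (ℕ × F2)) :
    wordGL c (w ++ w') = wordGL c w * wordGL c w' := by
  unfold wordGL
  rw [List.map_append, List.prod_append]

theorem neg_simple3_lt : D8.neg (D8.simple 3) < D8.nroots := by decide +kernel

theorem lv_neg_simple3 : lv (D8.neg (D8.simple 3)) = -1 := by decide +kernel

theorem cartan_two_neg_simple3 : (D8.cartanSR.getD 2 #[]).getD (D8.neg (D8.simple 3)) 0 = 1 := by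
  decide +kernel

theorem simple3_lt : D8.simple 3 < D8.nroots := by decide +kernel

theorem lv_simple3 : lv (D8.simple 3) = ((1 : ℕ) : ℤ) := by decide +kernel

/-- `x_{-p₄}(τ) ∈ T 0` forces `τ = 0`. -/
theorem tau_eq_zero (c : DCert D8 Ns) (τ : F2) (h : xGL c (D8.neg (D8.simple 3)) τ ∈ T 0) : τ = 0 := by
  have hlt : D8.neg (D8.simple 3) < D8.nroots := neg_simple3_lt
  have h2 : (2 : ℕ) < D8.rank := by decide +kernel
  have hR : Raises (grIdx D8 lv) ((0 : ℕ) : ℤ)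
      (((xGL c (D8.neg (D8.simple 3)) τ : GL D8.Idx F2) : Matrix D8.Idx D8.Idx F2) - 1) := h
  have h0 := hR (Sum.inr ⟨D8.neg (D8.simple 3), hlt⟩) (Sum.inl ⟨2, h2⟩) (by
    simp only [grIdx]
    rw [lv_neg_simple3]
    norm_num)
  rw [Matrix.sub_apply, xGL_coe, Matrix.one_apply, if_neg (by simp), sub_zero] at h0
  unfold ChevalleyDatum.x at h0
  rw [dif_pos hlt, Cfsg.Agent.Lib.Helper18_ChevEngine.xMat_inr_inl, if_pos rfl] at h0
  have hc := cartan_two_neg_simple3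
  simp only [hc] at h0
  simpa using h0

/-- BAD1 from WORD, WORDT, PTRI. -/
theorem tco_bad_one_aux
    (hword : ∀ (u : GLE), u ∈ Q 1 →
      ∃ t : ℕ → F2, (u : Matrix D8.Idx D8.Idx F2) = D8.wordMat F2 ((lvRoots 1).map fun r => (r, t r)))
    (hwordt : ∀ (L : List ℕ), L.Nodup → (∀ r ∈ L, r < 240 ∧ ((1 : ℕ) : ℤ) ≤ lv r) → ∀ (t : ℕ → F2) (u : GLE),
      (u : Matrix D8.Idx D8.Idx F2) = D8.wordMat F2 (L.map fun r => (r, t r)) →
      ∀ s, s < 240 → lv s = ((1 : ℕ) : ℤ) → tco s u = if s ∈ L then t s else 0)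
    (hPT : PJ ≤ T 0)
    (n : GLE) (hn : IsNk n) (u : GLE) (hu : u ∈ Q 1) (hu' : n * u * n⁻¹ ∈ PJ) :
    tco (D8.simple 3) u = 0 := by
  have c := Cfsg.Agent.Lib.Helper18_ChevDatumE8.dcert
  have ac := Cfsg.Agent.Lib.Helper18_ChevACerts.acertE8
  have h3 : (3 : ℕ) < D8.rank := by decide +kernel
  have hp3 : D8.simple 3 < D8.nroots := simple3_lt
  obtain ⟨t, ht⟩ := hword u hu
  have hnd : (lvRoots 1).Nodup := List.Nodup.filter _ posRoots_nodup
  have hL : ∀ r ∈ lvRoots 1, D8.IsPosRoot r ∧ ((1 : ℕ) : ℤ) ≤ lv r := by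
    intro r hr
    unfold lvRoots at hr
    rw [List.mem_filter] at hr
    exact ⟨(mem_posRoots r).mp hr.1, of_decide_eq_true hr.2⟩
  have htco := hwordt (lvRoots 1) hnd (fun r hr => ⟨(hL r hr).1.1, (hL r hr).2⟩) t u ht (D8.simple 3)
    hp3 lv_simple3
  rw [htco]
  by_cases hmem : D8.simple 3 ∈ lvRoots 1
  swap
  · rw [if_neg hmem]
  rw [if_pos hmem]
  obtain ⟨s, s', hss⟩ := List.append_of_mem hmem
  have hnd' := hnd
  rw [hss] at hnd'
  have hns : D8.simple 3 ∉ s := by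
    intro h
    have := (List.nodup_append.mp hnd').2.2 _ h _ (List.mem_cons_self ..)
    exact this rfl
  have hns' : D8.simple 3 ∉ s' := by
    have := (List.nodup_append.mp hnd').2.1
    exact (List.nodup_cons.mp this).1
  have hnE : n = nGL c 3 := Units.ext (by rw [nGL_coe]; exact hn)
  have huE : u = wordGL c ((lvRoots 1).map fun r => (r, t r)) := eq_wordGL c ht
  set f : ℕ → ℕ × F2 := fun r => (r, t r) with hf
  have hsplit : wordGL c ((lvRoots 1).map f) =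
      wordGL c (s.map f) * xGL c (D8.simple 3) (t (D8.simple 3)) * wordGL c (s'.map f) := by
    rw [hss, List.map_append, wordGL_append, List.map_cons, wordGL_cons, mul_assoc]
  have hA : ∀ (l : List ℕ), (∀ r ∈ l, r ∈ lvRoots 1) → D8.simple 3 ∉ l →
      nGL c 3 * wordGL c (l.map f) * (nGL c 3)⁻¹ ∈ D8.posUnipotent F2 := by
    intro l hl hnl
    apply conj_word_mem c ac
    intro p hp
    rw [List.mem_map] at hp
    obtain ⟨r, hr, rfl⟩ := hp
    refine ⟨(hL r (hl r hr)).1, ?_⟩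
    intro h
    exact hnl (h ▸ hr)
  have hA1 := hA s (fun r hr => by rw [hss]; exact List.mem_append_left _ hr) hns
  have hA2 := hA s' (fun r hr => by rw [hss]; exact List.mem_append_right _ (List.mem_cons_of_mem _ hr)) hns'
  have hUT : D8.posUnipotent F2 ≤ T 0 :=
    le_trans (le_trans le_sup_left (borel_le_parabolic (D := D8) (F := F2) J3)) hPT
  have hconj := nGL_conj c 3 h3 (D8.simple 3) hp3 (t (D8.simple 3))
  rw [reflectRoot_simple] at hconj
  have key : xGL c (D8.neg (D8.simple 3)) (((etaZ Cfsg.Agent.Lib.Helper18_ChevDatumE8.Ns 3 (D8.simple 3) : ℤ) : F2) * t (D8.simple 3)) =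
      (nGL c 3 * wordGL c (s.map f) * (nGL c 3)⁻¹)⁻¹ * (n * u * n⁻¹) *
        (nGL c 3 * wordGL c (s'.map f) * (nGL c 3)⁻¹)⁻¹ := by
    rw [← hconj, hnE, huE, hsplit]
    group
  have hmemT : xGL c (D8.neg (D8.simple 3)) (((etaZ Cfsg.Agent.Lib.Helper18_ChevDatumE8.Ns 3 (D8.simple 3) : ℤ) : F2) * t (D8.simple 3)) ∈ T 0 := by
    rw [key]
    exact Subgroup.mul_mem _ (Subgroup.mul_mem _ (Subgroup.inv_mem _ (hUT hA1)) (hPT hu'))
      (Subgroup.inv_mem _ (hUT hA2))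
  have h0 := tau_eq_zero c _ hmemT
  have hne : ((etaZ Cfsg.Agent.Lib.Helper18_ChevDatumE8.Ns 3 (D8.simple 3) : ℤ) : F2) ≠ 0 := eta_cast_ne_zero c 3 h3 _ hp3
  rcases mul_eq_zero.mp h0 with h | h
  · exact absurd h hne
  · exact h

end Cfsg.Agent.Lib.Helper24_E8C_BAD1aux
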