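import Cfsg.Agent.Lib.Helper4_E8Defs
import Cfsg.Agent.Lib.Helper6_BNPairC
import Cfsg.Agent.Lib.Helper18_ChevPar
import Cfsg.Agent.Lib.Helper18_ChevDatumE8
import Cfsg.Agent.Lib.Helper18_ChevTCertE8
import Cfsg.Agent.Lib.Helper18_ChevGCertE8
import Cfsg.Agent.Lib.Helper18_ChevACerts

set_option autoImplicit false

/-!
# S5751 market (architect helper4), package BRIDGE

The abstract parabolic subgroup `P.parabolic (P.S minus k)` of the (B,N)-pair of S1042 for `E₈(2)` is the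
concrete maximal parabolic subgroup `P_J` (as a subgroup of the Chevalley group).
-/

namespace Cfsg.Agent.Lib.Helper24_E8C_BRIDGE

open Cfsg Cfsg.Lie Cfsg.Agent.Lib.Helper18_MatTri Cfsg.Agent.Lib.Helper18_ChevTri
  Cfsg.Agent.Lib.Helper4_E8Defs Cfsg.Agent.Lib.Helper18_ChevGL Cfsg.Agent.Lib.Helper18_ChevBNPair
  Cfsg.Agent.Lib.Helper18_ChevPar

/-- distinct fundamental indices give distinct matrices `n_i(1)`. -/
theorem nMat_simple_inj (i j : ℕ) (hi : i < D8.rank) (hj : j < D8.rank)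
    (h : D8.nMat F2 (D8.simple i) 1 = D8.nMat F2 (D8.simple j) 1) : i = j := by
  have c := Cfsg.Agent.Lib.Helper18_ChevDatumE8.dcert
  have tc := Cfsg.Agent.Lib.Helper18_ChevTCertE8.tcert
  have gc := Cfsg.Agent.Lib.Helper18_ChevGCertE8.gcert
  have ac := Cfsg.Agent.Lib.Helper18_ChevACerts.acertE8
  have e : (nGL c i : GL D8.Idx F2) = nGL c j := Units.ext (by rw [nGL_coe, nGL_coe]; exact h)
  apply eq_of_nGL_inv_mul_mem (F := F2) c tc ac gc i j hi hj
  rw [e, inv_mul_cancel]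
  exact Subgroup.one_mem _

/-- BRIDGE.  The abstract parabolic subgroup of the (B,N)-pair of S1042 is `P_J`. -/
theorem parabolic_eq (P : Cfsg.BNPair ↥(D8.group F2))
    (hB : P.B = (D8.borelSubgroup F2).subgroupOf (D8.group F2))
    (hS : P.S = {n : ↥(D8.group F2) | ∃ i < D8.rank,
      ((n : GL D8.Idx F2) : Matrix D8.Idx D8.Idx F2) = D8.nMat F2 (D8.simple i) 1})
    (k : ↥(D8.group F2)) (hk : IsNk (k : GLE)) :
    k ∈ P.S ∧ P.parabolic (P.S \ {k}) = PJ.subgroupOf (D8.group F2) := by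
  have c := Cfsg.Agent.Lib.Helper18_ChevDatumE8.dcert
  have h3 : (3 : ℕ) < D8.rank := by decide
  have hkS : k ∈ P.S := by
    rw [hS]
    exact ⟨3, h3, hk⟩
  refine ⟨hkS, ?_⟩
  apply Subgroup.map_injective (Subgroup.subtype_injective (D8.group F2))
  rw [Subgroup.subgroupOf_map_subtype]
  unfold Cfsg.BNPair.parabolic
  rw [Subgroup.map_sup, hB, Subgroup.subgroupOf_map_subtype, MonoidHom.map_closure,
    inf_eq_left.mpr (borel_le_group c)]
  have hPJ : PJ ⊓ D8.group F2 = D8.parabolicSubgroup F2 J3 := inf_eq_left.mpr (parabolic_le_group c J3)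
  rw [hPJ]
  unfold ChevalleyDatum.parabolicSubgroup
  congr 2
  ext g
  constructor
  · rintro ⟨n, ⟨hnS, hnk⟩, rfl⟩
    rw [hS] at hnS
    obtain ⟨i, hi, hn⟩ := hnS
    refine ⟨i, ?_, hi, hn⟩
    intro hi3
    have hi3' : i = 3 := hi3
    apply hnk
    show n = k
    apply Subtype.ext
    apply Units.ext
    rw [hn, hi3']
    exact hk.symm
  · rintro ⟨j, hjJ, hj, hg⟩
    have hgG : g ∈ D8.group F2 := by
      have : g = nGL c j := Units.ext (by rw [nGL_coe]; exact hg)
      rw [this]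
      exact nGL_mem_group c j
    refine ⟨⟨g, hgG⟩, ⟨?_, ?_⟩, rfl⟩
    · rw [hS]
      exact ⟨j, hj, hg⟩
    · intro hgk
      have hgk' : (⟨g, hgG⟩ : ↥(D8.group F2)) = k := hgk
      have e : D8.nMat F2 (D8.simple j) 1 = D8.nMat F2 (D8.simple 3) 1 := by
        rw [← hg]
        have : (k : GLE) = g := by rw [← hgk']
        rw [← this]
        exact hk
      exact hjJ (nMat_simple_inj j 3 hj h3 e)

end Cfsg.Agent.Lib.Helper24_E8C_BRIDGE
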