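import Mathlib
import Cfsg.Prelude.Def_FusionSystem
import Cfsg.Agent.Lib.Helper87_F2L3Defs
import Cfsg.Agent.Lib.Helper32_PGroup

/-!
# F2L3-ASMA (package of helper87's S5318 market)

Part (A) of `SCB` for `S̃ = S₂.map iota`: a nontrivial strongly closed subgroup of `S̃` is `S̃`.
-/

set_option autoImplicit false

open Matrix Cfsg.Agent.Lib.Helper87_F2L3

namespace Cfsg.Agent.Lib.Helper46_F2L3_ASMA

/-- A nontrivial normal subgroup of a finite `2`-group contains a central involution. -/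
theorem exists_central_invol {H : Type*} [Group H] [Finite H] (hH : IsPGroup 2 H)
    (N : Subgroup H) [N.Normal] (hN : N ≠ ⊥) :
    ∃ z ∈ N, z ∈ Subgroup.center H ∧ z * z = 1 ∧ z ≠ 1 := by
  have : Fact (Nat.Prime 2) := ⟨Nat.prime_two⟩
  have hK := Cfsg.Agent.Lib.Helper32_PGroup.normal_inf_center_ne_bot hH N hN
  set K : Subgroup H := N ⊓ Subgroup.center H with hKdef
  have hKp : IsPGroup 2 K := hH.to_subgroup K
  have hnt : Nontrivial K := (Subgroup.nontrivial_iff_ne_bot K).mpr hK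
  obtain ⟨n, hn0, hn⟩ := hKp.nontrivial_iff_card.mp hnt
  have hdvd : 2 ∣ Nat.card K := hn.symm ▸ dvd_pow_self _ (ne_of_gt hn0)
  obtain ⟨x, hx⟩ := exists_prime_orderOf_dvd_card' 2 hdvd
  refine ⟨x.1, x.2.1, x.2.2, ?_, ?_⟩
  · have h1 : x ^ 2 = 1 := by rw [← hx]; exact pow_orderOf_eq_one x
    have h2 := congrArg Subtype.val h1
    rw [← pow_two]
    simpa using h2
  · intro h
    have : x = 1 := Subtype.ext h
    rw [this, orderOf_one] at hx
    omega

variable {F : Type*} [Field F]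

/-- **F2L3-ASMA**. -/
theorem asm_A [Fintype F] (S₂ : Subgroup (GL (Fin 2) F)) (hS : GL2Syl F S₂)
    (hinj : Function.Injective (iota (F := F))) (hneg : iota (-1 : GL (Fin 2) F) = t3)
    (hinv : ∀ u : SpecialLinearGroup (Fin 3) F, u * u = 1 → u ≠ 1 →
      ∃ g : SpecialLinearGroup (Fin 3) F, g * t3 * g⁻¹ = u)
    (hweyl : ∀ a b : Fˣ, ∃ g : SpecialLinearGroup (Fin 3) F,
      g * iota (dg a b) * g⁻¹ = iota (dg a (a * b)⁻¹))
    (T : Subgroup (SpecialLinearGroup (Fin 3) F)) (hT : T ≤ S₂.map iota) (hTne : T ≠ ⊥)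
    (hSC : ∀ t ∈ T, ∀ g : SpecialLinearGroup (Fin 3) F, g * t * g⁻¹ ∈ S₂.map iota → g * t * g⁻¹ ∈ T) :
    T = S₂.map iota := by
  classical
  -- `S̃` is a finite 2-group
  have hcard : Nat.card ↥(S₂.map iota) = 2 ^ (Nat.card (GL (Fin 2) F)).factorization 2 := by
    rw [Subgroup.card_map_of_injective hinj, hS.card]
  have hp : IsPGroup 2 ↥(S₂.map iota) := IsPGroup.of_card hcard
  -- `T` is normal in `S̃`
  have hnorm : (T.subgroupOf (S₂.map iota)).Normal := by
    constructor
    intro n hn g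
    rw [Subgroup.mem_subgroupOf] at hn ⊢
    have : ((g * n * g⁻¹ : ↥(S₂.map iota)) : SpecialLinearGroup (Fin 3) F)
        = (g : SpecialLinearGroup (Fin 3) F) * n * (g : SpecialLinearGroup (Fin 3) F)⁻¹ := by
      simp
    rw [this]
    apply hSC _ hn
    rw [← this]
    exact (g * n * g⁻¹).2
  have hne : T.subgroupOf (S₂.map iota) ≠ ⊥ := by
    intro h
    apply hTne
    rw [Subgroup.subgroupOf_eq_bot] at h
    rw [eq_bot_iff]
    intro x hx
    have : x ∈ T ⊓ S₂.map iota := ⟨hx, hT hx⟩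
    rw [disjoint_iff.mp h] at this
    exact this
  obtain ⟨zt, hztT, hztc, hzt2, hzt1⟩ := exists_central_invol hp _ hne
  rw [Subgroup.mem_subgroupOf] at hztT
  obtain ⟨z, hzS, hz⟩ := Subgroup.mem_map.mp zt.2
  -- `z` is a central involution of `S₂`
  have hzz : z * z = 1 := by
    apply hinj
    rw [map_mul, map_one, hz]
    have := congrArg Subtype.val hzt2
    simpa using this
  have hz1 : z ≠ 1 := by
    intro h
    apply hzt1
    apply Subtype.ext
    rw [← hz, h, map_one]
    rfl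
  have hzc : ∀ s ∈ S₂, z * s = s * z := by
    intro s hs
    apply hinj
    rw [map_mul, map_mul, hz]
    have h1 := Subgroup.mem_center_iff.mp hztc ⟨iota s, Subgroup.mem_map_of_mem _ hs⟩
    have h2 := congrArg Subtype.val h1
    simpa using h2.symm
  have hzneg : z = -1 := hS.cent z hzS hzz hz1 hzc
  have ht3T : (t3 : SpecialLinearGroup (Fin 3) F) ∈ T := by
    rw [← hneg, ← hzneg, hz]
    exact hztT
  -- every involution of `S̃` lies in `T`
  have hinvT : ∀ u ∈ S₂.map iota, u * u = 1 → u ∈ T := by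
    intro u huS huu
    by_cases hu1 : u = 1
    · rw [hu1]; exact T.one_mem
    · obtain ⟨g, hg⟩ := hinv u huu hu1
      rw [← hg]
      apply hSC _ ht3T
      rw [hg]
      exact huS
  -- the subgroup `T₂`
  have hgen : T.comap iota ⊓ S₂ = S₂ := by
    apply hS.gen
    · exact inf_le_right
    · intro u huS huu
      refine Subgroup.mem_inf.mpr ⟨Subgroup.mem_comap.mpr ?_, huS⟩
      apply hinvT _ (Subgroup.mem_map_of_mem _ huS)
      rw [← map_mul, huu, map_one]
    · intro u hu g hg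
      rw [Subgroup.mem_inf, Subgroup.mem_comap] at hu
      refine Subgroup.mem_inf.mpr ⟨Subgroup.mem_comap.mpr ?_, hg⟩
      rw [map_mul, map_mul, map_inv]
      apply hSC _ hu.1
      rw [← map_inv, ← map_mul, ← map_mul]
      exact Subgroup.mem_map_of_mem _ hg
    · intro a ha ha1
      rw [Subgroup.mem_inf, Subgroup.mem_comap] at ha
      refine Subgroup.mem_inf.mpr ⟨Subgroup.mem_comap.mpr ?_, ha1⟩
      obtain ⟨g, hg⟩ := hweyl a a⁻¹
      rw [mul_inv_cancel, inv_one] at hg
      rw [← hg]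
      apply hSC _ ha.1
      rw [hg]
      exact Subgroup.mem_map_of_mem _ ha1
  apply le_antisymm hT
  rw [Subgroup.map_le_iff_le_comap]
  intro x hx
  have : x ∈ T.comap iota ⊓ S₂ := by rw [hgen]; exact hx
  exact (Subgroup.mem_inf.mp this).1

end Cfsg.Agent.Lib.Helper46_F2L3_ASMA
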