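import Mathlib
import Cfsg.Prelude.Def_FusionSystem
import Cfsg.Prelude.Def_Classical
import Cfsg.Prelude.Def_LieClassical
import Cfsg.Agent.Lib.Helper87_F2L3Defs
import Cfsg.Agent.Lib.Helper87_F2U3Defs

set_option autoImplicit false

open Matrix Cfsg.Agent.Lib.Helper87_F2L3

namespace Cfsg.Agent.Lib.Helper24_F2U3_RELSUB

variable {F : Type*} [Field F]

theorem scb_of_rel {G : Type*} [Group G] (U S : Subgroup G) (hSU : S ≤ U) (h : SCBrel U S) :
    SCB (S.subgroupOf U) := by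
  obtain ⟨hA, hB⟩ := h
  refine ⟨?_, ?_⟩
  · intro T' hT'S hT'ne hcl
    have hT : T'.map U.subtype = S := by
      apply hA
      · rintro x ⟨t, ht, rfl⟩
        exact hT'S ht
      · intro h0
        exact hT'ne ((Subgroup.map_eq_bot_iff_of_injective _ U.subtype_injective).1 h0)
      · rintro x ⟨t, ht, rfl⟩ g hg hgS
        refine ⟨(⟨g, hg⟩ : ↥U) * t * (⟨g, hg⟩ : ↥U)⁻¹, ?_, rfl⟩
        exact hcl t ht ⟨g, hg⟩ hgS
    rw [← hT]
    ext x
    rw [Subgroup.mem_subgroupOf]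
    constructor
    · intro hx
      exact ⟨x, hx, rfl⟩
    · rintro ⟨t, ht, hxt⟩
      have : t = x := Subtype.ext hxt
      rwa [← this]
  · intro n hn
    have hn' : ∀ s ∈ S, (n : G) * s * (n : G)⁻¹ ∈ S := by
      intro s hs
      have := hn ⟨s, hSU hs⟩ hs
      exact this
    obtain ⟨s₀, hs₀, hconj⟩ := hB (n : G) n.2 hn'
    refine ⟨⟨s₀, hSU hs₀⟩, hs₀, ?_⟩
    intro x hx
    apply Subtype.ext
    exact hconj (x : G) hx

end Cfsg.Agent.Lib.Helper24_F2U3_RELSUB
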