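import Mathlib

/-!
# Linear `p`-groups: derived length bounds (helper24)

* `exists_fixed_vector`: a finite `p`-group acting on a nonzero vector space in
  characteristic `p` fixes a nonzero vector.
* `exists_invariant_finrank`: in characteristic `p` there are invariant subspaces of every dimension.
* `derivedSeries_le_ker_charp`: in characteristic `p`, dimension at most `2 ^ k` forces
  the `k`-th derived subgroup to act trivially.
* `derivedSeries_le_ker_of_ne`: over an algebraically closed field in which `p` is invertible,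
  a finite `p`-group acting on a space of dimension `n ≥ 1` has its
  `(Nat.log 2 n + 1)`-th derived subgroup acting trivially.
-/

open Subgroup Module
open scoped commutatorElement

namespace Cfsg.Agent.Lib.Helper24_LinearPGroup

universe u v w

section grp
variable {P : Type*} [Group P]

theorem derivedSeries_le_of_quotient (N : Subgroup P) [N.Normal] (d : ℕ)
    (h : derivedSeries (P ⧸ N) d = ⊥) : derivedSeries P d ≤ N := by
  have h1 := map_derivedSeries_le_derivedSeries (QuotientGroup.mk' N) d
  rw [h, le_bot_iff] at h1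
  intro x hx
  have h2 : (QuotientGroup.mk' N) x ∈ map (QuotientGroup.mk' N) (derivedSeries P d) :=
    Subgroup.mem_map_of_mem _ hx
  rw [h1, Subgroup.mem_bot] at h2
  exact (QuotientGroup.eq_one_iff x).mp h2

theorem derivedSeries_le_ker {M : Type*} [Monoid M] (f : P →* M) (d : ℕ)
    (h : derivedSeries (P ⧸ f.ker) d = ⊥) : derivedSeries P d ≤ f.ker :=
  derivedSeries_le_of_quotient f.ker d h

theorem derivedSeries_succ_le_map (P₁ : Subgroup P) (h : commutator P ≤ P₁) (k : ℕ) :
    derivedSeries P (k + 1) ≤ (derivedSeries P₁ k).map P₁.subtype := by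
  induction k with
  | zero =>
    rw [derivedSeries_succ, derivedSeries_zero, derivedSeries_zero]
    rw [← MonoidHom.range_eq_map, Subgroup.range_subtype]
    exact h
  | succ k ih =>
    rw [derivedSeries_succ, derivedSeries_succ (G := P₁), Subgroup.map_commutator]
    exact Subgroup.commutator_mono ih ih

theorem derivedSeries_succ_eq_bot (P₁ : Subgroup P) (h : commutator P ≤ P₁) (k : ℕ)
    (hk : derivedSeries P₁ k = ⊥) : derivedSeries P (k + 1) = ⊥ := by
  have := derivedSeries_succ_le_map P₁ h k
  rw [hk, Subgroup.map_bot] at this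
  exact le_bot_iff.mp this

end grp

section charp1
variable {K : Type w} [Field K] (p : ℕ) [hp : Fact p.Prime] [CharP K p]

/-- An endomorphism of `p`-power order in characteristic `p` is unipotent. -/
theorem sub_one_pow_eq_zero {V : Type v} [AddCommGroup V] [Module K V] (T : Module.End K V) (j : ℕ)
    (hT : T ^ (p ^ j) = 1) : (T - 1) ^ (p ^ j) = 0 := by
  have h1 : ((Polynomial.X : Polynomial K) - 1) ^ (p ^ j) = Polynomial.X ^ (p ^ j) - 1 := by
    rw [sub_pow_char_pow, one_pow]
  have h2 := congrArg (Polynomial.aeval T) h1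
  simp only [map_pow, map_sub, Polynomial.aeval_X, map_one] at h2
  rw [h2, hT, sub_self]

theorem exists_ne_zero_fixed_of_pow {V : Type v} [AddCommGroup V] [Module K V] [Nontrivial V]
    (T : Module.End K V) (j : ℕ) (hT : T ^ (p ^ j) = 1) : ∃ v : V, v ≠ 0 ∧ T v = v := by
  have h0 := sub_one_pow_eq_zero p T j hT
  by_contra hcon
  push Not at hcon
  have hinj : Function.Injective ⇑(T - 1 : Module.End K V) := by
    rw [← LinearMap.ker_eq_bot, LinearMap.ker_eq_bot']
    intro v hv
    by_contra hv0
    apply hcon v hv0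
    have : T v - v = 0 := by simpa using hv
    exact sub_eq_zero.mp this
  have hinj2 : Function.Injective ⇑((T - 1 : Module.End K V) ^ (p ^ j)) := by
    rw [Module.End.coe_pow]
    exact hinj.iterate _
  rw [h0] at hinj2
  obtain ⟨x, y, hxy⟩ := exists_pair_ne V
  exact hxy (hinj2 (by simp))

end charp1

theorem normal_of_le_center {P : Type*} [Group P] (Z : Subgroup P) (h : Z ≤ center P) : Z.Normal := by
  constructor
  intro n hn g
  have := mem_center_iff.mp (h hn) g
  have e : g * n * g⁻¹ = n := by
    rw [this]; group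
  rw [e]; exact hn

section charp2
variable {K : Type w} [Field K] (p : ℕ) [hp : Fact p.Prime] [CharP K p]

theorem exists_fixed_vector (n : ℕ) : ∀ (P : Type u) [Group P] [Finite P], IsPGroup p P → Nat.card P = n →
    ∀ (V : Type v) [AddCommGroup V] [Module K V] [Nontrivial V] (ρ : Representation K P V),
      ∃ v : V, v ≠ 0 ∧ ∀ g, ρ g v = v := by
  induction n using Nat.strong_induction_on with
  | _ n ih =>
    intro P _ _ hP hn V _ _ _ ρ
    by_cases htriv : Subsingleton P
    · obtain ⟨v, hv⟩ := exists_ne (0 : V)
      refine ⟨v, hv, fun g => ?_⟩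
      have : g = 1 := Subsingleton.elim _ _
      simp [this]
    · rw [not_subsingleton_iff_nontrivial] at htriv
      have := hP.center_nontrivial
      obtain ⟨⟨z, hz⟩, hz1⟩ := exists_ne (1 : center P)
      have hz1' : z ≠ 1 := fun h => hz1 (Subtype.ext h)
      let W : Submodule K V := LinearMap.ker (ρ z - 1)
      have hWmem : ∀ v : V, v ∈ W ↔ ρ z v = v := by
        intro v
        simp only [W, LinearMap.mem_ker, LinearMap.sub_apply, Module.End.one_apply, sub_eq_zero]
      have hWinv : ∀ g, W ≤ W.comap (ρ g) := by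
        intro g v hv
        rw [Submodule.mem_comap, hWmem]
        rw [hWmem] at hv
        have hc : ρ z * ρ g = ρ g * ρ z := by
          rw [← map_mul, ← map_mul, (mem_center_iff.mp hz g)]
        calc ρ z (ρ g v) = (ρ z * ρ g) v := rfl
          _ = (ρ g * ρ z) v := by rw [hc]
          _ = ρ g (ρ z v) := rfl
          _ = ρ g v := by rw [hv]
      obtain ⟨j, hj⟩ := hP z
      have hpow : (ρ z) ^ (p ^ j) = 1 := by rw [← map_pow, hj, map_one]
      obtain ⟨v0, hv0, hfix⟩ := exists_ne_zero_fixed_of_pow p (ρ z) j hpow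
      have : Nontrivial W := by
        refine ⟨⟨⟨v0, (hWmem v0).mpr hfix⟩, 0, ?_⟩⟩
        intro h
        exact hv0 (congrArg Subtype.val h)
      let Z : Subgroup P := zpowers z
      have hZc : Z ≤ center P := by
        rw [zpowers_le]; exact hz
      have : Z.Normal := normal_of_le_center Z hZc
      let ρW : Representation K P W := ρ.subrepresentation W hWinv
      have hker : Z ≤ ρW.ker := by
        rw [zpowers_le, MonoidHom.mem_ker]
        ext ⟨v, hv⟩
        simp only [ρW, Representation.subrepresentation_apply, Module.End.one_apply]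
        exact (hWmem v).mp hv
      let ρ' : Representation K (P ⧸ Z) W := QuotientGroup.lift Z ρW hker
      have hcard : Nat.card (P ⧸ Z) < n := by
        have h1 := card_eq_card_quotient_mul_card_subgroup Z
        have h2 : 1 < Nat.card Z := by
          rw [Nat.card_zpowers]
          have : orderOf z ≠ 1 := fun h => hz1' (orderOf_eq_one_iff.mp h)
          have : 0 < orderOf z := orderOf_pos z
          omega
        have h3 : 0 < Nat.card (P ⧸ Z) := Nat.card_pos
        rw [← hn, h1]
        nlinarith
      obtain ⟨w, hw, hwfix⟩ := ih _ hcard (P ⧸ Z) (hP.to_quotient Z) rfl W ρ'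
      refine ⟨(w : V), fun h => hw (Subtype.ext h), fun g => ?_⟩
      have := hwfix (g : P ⧸ Z)
      have h2 : ρ' (g : P ⧸ Z) = ρW g := rfl
      rw [h2] at this
      have h3 := congrArg Subtype.val this
      simpa [ρW] using h3

end charp2

section general1
variable {K : Type w} [Field K] {P : Type u} [Group P] {V : Type v} [AddCommGroup V] [Module K V]
  (ρ : Representation K P V) (W : Submodule K V) (hW : ∀ g, W ≤ W.comap (ρ g))

theorem apply_sub_mem_of_quotient_eq_one (g : P) (hg : ρ.quotient W hW g = 1) (x : V) :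
    ρ g x - x ∈ W := by
  have h1 := LinearMap.congr_fun hg (W.mkQ x)
  simp only [Representation.quotient_apply, Submodule.mkQ_apply, Submodule.mapQ_apply,
    Module.End.one_apply] at h1
  exact (Submodule.Quotient.eq W).mp h1

theorem apply_eq_of_sub_eq_one (g : P) (hg : ρ.subrepresentation W hW g = 1) (x : V) (hx : x ∈ W) :
    ρ g x = x := by
  have h1 := LinearMap.congr_fun hg ⟨x, hx⟩
  have h2 := congrArg Subtype.val h1
  simpa using h2

/-- Elements acting trivially on `W` and on `V ⧸ W` commute in the representation. -/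
theorem commute_of_trivial (g h : P) (hgW : ρ.subrepresentation W hW g = 1)
    (hgQ : ρ.quotient W hW g = 1) (hhW : ρ.subrepresentation W hW h = 1)
    (hhQ : ρ.quotient W hW h = 1) : ρ g * ρ h = ρ h * ρ g := by
  ext x
  simp only [Module.End.mul_apply]
  have a1 := apply_sub_mem_of_quotient_eq_one ρ W hW g hgQ x
  have a2 := apply_sub_mem_of_quotient_eq_one ρ W hW h hhQ x
  have b1 := apply_eq_of_sub_eq_one ρ W hW g hgW _ a2
  have b2 := apply_eq_of_sub_eq_one ρ W hW h hhW _ a1
  rw [map_sub] at b1 b2
  -- ρ g (ρ h x) - ρ g x = ρ h x - x ; ρ h (ρ g x) - ρ h x = ρ g x - x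
  have e1 : ρ g (ρ h x) = ρ h x - x + ρ g x := by rw [← b1]; abel
  have e2 : ρ h (ρ g x) = ρ g x - x + ρ h x := by rw [← b2]; abel
  rw [e1, e2]; abel

theorem commutatorElement_mem_ker_of_commute (g h : P) (hc : ρ g * ρ h = ρ h * ρ g) :
    ⁅g, h⁆ ∈ ρ.ker := by
  rw [MonoidHom.mem_ker, commutatorElement_def, map_mul, map_mul, map_mul, hc, mul_assoc (ρ h),
    ← map_mul, mul_inv_cancel, map_one, mul_one, ← map_mul, mul_inv_cancel, map_one]

end general1

section general2
variable {K : Type w} [Field K] {P : Type u} [Group P] {V : Type v} [AddCommGroup V] [Module K V]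
  (ρ : Representation K P V) (W : Submodule K V) (hW : ∀ g, W ≤ W.comap (ρ g))

/-- A `p`-element acting trivially on `W` and `V ⧸ W` acts trivially when `p` is invertible. -/
theorem eq_one_of_trivial (p : ℕ) (hpK : (p : K) ≠ 0) (g : P) (j : ℕ) (hj : g ^ (p ^ j) = 1)
    (hgW : ρ.subrepresentation W hW g = 1) (hgQ : ρ.quotient W hW g = 1) : ρ g = 1 := by
  ext x
  rw [Module.End.one_apply]
  have hN : ρ g (ρ g x - x) = ρ g x - x :=
    apply_eq_of_sub_eq_one ρ W hW g hgW _ (apply_sub_mem_of_quotient_eq_one ρ W hW g hgQ x)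
  have hpow : ∀ m : ℕ, (ρ g ^ m) x = x + (m : K) • (ρ g x - x) := by
    intro m
    induction m with
    | zero => simp
    | succ m ih =>
      rw [pow_succ', Module.End.mul_apply, ih, map_add, map_smul, hN]
      push_cast
      rw [add_smul, one_smul]
      abel
  have h1 := hpow (p ^ j)
  rw [← map_pow, hj, map_one, Module.End.one_apply] at h1
  have h2 : ((p ^ j : ℕ) : K) • (ρ g x - x) = 0 := by
    have := h1.symm
    rwa [add_eq_left] at this
  have h3 : ((p ^ j : ℕ) : K) ≠ 0 := by
    push_cast
    exact pow_ne_zero _ hpK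
  have h4 := (smul_eq_zero.mp h2).resolve_left h3
  exact sub_eq_zero.mp h4

end general2

section charp3
variable {K : Type w} [Field K] (p : ℕ) [hp : Fact p.Prime] [CharP K p]

variable {P : Type u} [Group P] [Finite P] (hP : IsPGroup p P)
  {V : Type v} [AddCommGroup V] [Module K V] [FiniteDimensional K V] (ρ : Representation K P V)

include hP in
theorem exists_invariant_succ (W : Submodule K V) (hW : ∀ g, W ≤ W.comap (ρ g)) (hWt : W ≠ ⊤) :
    ∃ W' : Submodule K V, (∀ g, W' ≤ W'.comap (ρ g)) ∧ finrank K W' = finrank K W + 1 := by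
  have : Nontrivial (V ⧸ W) := Submodule.Quotient.nontrivial_iff.mpr hWt
  obtain ⟨vb, hvb, hfix⟩ := exists_fixed_vector (K := K) p (Nat.card P) P hP rfl (V ⧸ W) (ρ.quotient W hW)
  obtain ⟨v, rfl⟩ := W.mkQ_surjective vb
  have hvW : v ∉ W := by
    intro h
    apply hvb
    simpa using (Submodule.Quotient.mk_eq_zero W).mpr h
  have hfix' : ∀ g, ρ g v - v ∈ W := by
    intro g
    have := hfix g
    simp only [Representation.quotient_apply, Submodule.mkQ_apply, Submodule.mapQ_apply] at this
    exact (Submodule.Quotient.eq W).mp this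
  refine ⟨W ⊔ K ∙ v, ?_, ?_⟩
  · intro g x hx
    rw [Submodule.mem_comap]
    obtain ⟨y, hy, z, hz, rfl⟩ := Submodule.mem_sup.mp hx
    obtain ⟨c, rfl⟩ := Submodule.mem_span_singleton.mp hz
    rw [map_add, map_smul]
    have e : ρ g y + c • ρ g v = (ρ g y + c • (ρ g v - v)) + c • v := by
      rw [smul_sub]; abel
    rw [e]
    refine Submodule.add_mem_sup (W.add_mem (hW g hy) (W.smul_mem c (hfix' g))) ?_
    exact Submodule.smul_mem _ c (Submodule.mem_span_singleton_self v)
  · have hlt : W < W ⊔ K ∙ v := by
      refine lt_of_le_of_ne le_sup_left ?_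
      intro h
      apply hvW
      rw [h]
      exact Submodule.mem_sup_right (Submodule.mem_span_singleton_self v)
    have h1 := Submodule.finrank_lt_finrank_of_lt hlt
    have h2 := Submodule.finrank_add_le_finrank_add_finrank W (K ∙ v)
    have hv0 : v ≠ 0 := fun h => hvW (h ▸ W.zero_mem)
    have h3 : finrank K (K ∙ v) = 1 := finrank_span_singleton hv0
    omega

include hP in
theorem exists_invariant_finrank (m : ℕ) (hm : m ≤ finrank K V) :
    ∃ W : Submodule K V, (∀ g, W ≤ W.comap (ρ g)) ∧ finrank K W = m := by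
  induction m with
  | zero => exact ⟨⊥, fun g => bot_le, by simp⟩
  | succ m ih =>
    obtain ⟨W, hW, hWm⟩ := ih (by omega)
    have hWt : W ≠ ⊤ := by
      intro h
      rw [h, finrank_top] at hWm
      omega
    obtain ⟨W', hW', hW'm⟩ := exists_invariant_succ p hP ρ W hW hWt
    exact ⟨W', hW', by omega⟩

end charp3

section charp4
variable {K : Type w} [Field K] (p : ℕ) [hp : Fact p.Prime] [CharP K p]

theorem derivedSeries_le_ker_charp (k : ℕ) : ∀ (P : Type u) [Group P] [Finite P], IsPGroup p P →
    ∀ (V : Type v) [AddCommGroup V] [Module K V] [FiniteDimensional K V] (ρ : Representation K P V),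
      finrank K V ≤ 2 ^ k → derivedSeries P k ≤ ρ.ker := by
  induction k with
  | zero =>
    intro P _ _ hP V _ _ _ ρ hfin g _
    rw [MonoidHom.mem_ker]
    rcases subsingleton_or_nontrivial V with hs | hn
    · ext x; exact Subsingleton.elim _ _
    · obtain ⟨v, hv, hfix⟩ := exists_fixed_vector (K := K) p (Nat.card P) P hP rfl V ρ
      have h1 : finrank K V = 1 := by
        have : 0 < finrank K V := Module.finrank_pos
        simp only [pow_zero] at hfin
        omega
      ext x
      obtain ⟨c, rfl⟩ := (finrank_eq_one_iff_of_nonzero' v hv).mp h1 x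
      rw [map_smul, hfix g, Module.End.one_apply]
  | succ k ih =>
    intro P _ _ hP V _ _ _ ρ hfin
    obtain ⟨W, hW, hWm⟩ := exists_invariant_finrank p hP ρ (min (finrank K V) (2 ^ k))
      (min_le_left _ _)
    have hq := Submodule.finrank_quotient_add_finrank W
    have h1 : finrank K W ≤ 2 ^ k := by rw [hWm]; exact min_le_right _ _
    have h2 : finrank K (V ⧸ W) ≤ 2 ^ k := by
      have : 2 ^ (k + 1) = 2 * 2 ^ k := by ring
      rcases le_total (finrank K V) (2 ^ k) with h | h
      · rw [min_eq_left h] at hWm; omega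
      · rw [min_eq_right h] at hWm; omega
    have a1 := ih P hP W (ρ.subrepresentation W hW) h1
    have a2 := ih P hP (V ⧸ W) (ρ.quotient W hW) h2
    rw [derivedSeries_succ, Subgroup.commutator_le]
    intro g hg h hh
    apply commutatorElement_mem_ker_of_commute
    exact commute_of_trivial ρ W hW g h (MonoidHom.mem_ker.mp (a1 hg)) (MonoidHom.mem_ker.mp (a2 hg))
      (MonoidHom.mem_ker.mp (a1 hh)) (MonoidHom.mem_ker.mp (a2 hh))

end charp4

section grp2
variable {P : Type u} [Group P]

theorem lift_ker_injective {M : Type*} [Monoid M] (f : P →* M) :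
    Function.Injective (QuotientGroup.lift f.ker f (fun _ h => MonoidHom.mem_ker.mp h)) := by
  intro a b
  refine Quotient.inductionOn₂' a b (fun a b h => ?_)
  apply Quotient.sound'
  rw [QuotientGroup.leftRel_apply, MonoidHom.mem_ker, map_mul]
  have h' : f a = f b := h
  rw [← h', ← map_mul, inv_mul_cancel, map_one]

end grp2

section second
variable {P : Type u} [Group P]

/-- The second centre, as the preimage of the centre of `P ⧸ Z(P)`. -/
def secondCenter (P : Type u) [Group P] : Subgroup P :=
  (center (P ⧸ center P)).comap (QuotientGroup.mk' (center P))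

theorem commutatorElement_mem_center_of_mem_secondCenter {x : P} (hx : x ∈ secondCenter P) (y : P) :
    ⁅x, y⁆ ∈ center P := by
  rw [← QuotientGroup.eq_one_iff]
  have h1 : (QuotientGroup.mk' (center P)) x ∈ center (P ⧸ center P) := hx
  have h2 : ((⁅x, y⁆ : P) : P ⧸ center P) = ⁅(QuotientGroup.mk' (center P)) x, (QuotientGroup.mk' (center P)) y⁆ :=
    map_commutatorElement (QuotientGroup.mk' (center P)) x y
  rw [h2, commutatorElement_eq_one_iff_mul_comm]
  exact (mem_center_iff.mp h1 _).symm

theorem commutator_le_centralizer_secondCenter :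
    commutator P ≤ centralizer (secondCenter P : Set P) := by
  have hA : ⁅secondCenter P, (⊤ : Subgroup P)⁆ ≤ center P := by
    rw [Subgroup.commutator_le]
    intro x hx y _
    exact commutatorElement_mem_center_of_mem_secondCenter hx y
  have h2 : ⁅⁅secondCenter P, (⊤ : Subgroup P)⁆, (⊤ : Subgroup P)⁆ = ⊥ := by
    rw [Subgroup.commutator_eq_bot_iff_le_centralizer]
    simpa [Subgroup.centralizer_univ] using hA
  have h1 : ⁅⁅(⊤ : Subgroup P), secondCenter P⁆, (⊤ : Subgroup P)⁆ = ⊥ := by
    rw [Subgroup.commutator_comm (⊤ : Subgroup P) (secondCenter P)]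
    exact h2
  have h3 := Subgroup.commutator_commutator_eq_bot_of_rotate h1 h2
  rw [Subgroup.commutator_eq_bot_iff_le_centralizer] at h3
  rw [commutator_def]
  exact h3

theorem exists_mem_secondCenter_not_mem_center [Finite P] (p : ℕ) [Fact p.Prime]
    (hP : IsPGroup p P) (hc : center P ≠ ⊤) : ∃ a ∈ secondCenter P, a ∉ center P := by
  have : Nontrivial (P ⧸ center P) := QuotientGroup.nontrivial_iff.mpr hc
  have := (hP.to_quotient (center P)).center_nontrivial
  obtain ⟨⟨q, hq⟩, hq1⟩ := exists_ne (1 : center (P ⧸ center P))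
  obtain ⟨a, rfl⟩ := QuotientGroup.mk_surjective q
  refine ⟨a, hq, ?_⟩
  intro ha
  apply hq1
  apply Subtype.ext
  exact (QuotientGroup.eq_one_iff a).mpr ha

end second

section irr
variable {K : Type w} [Field K] {P : Type u} [Group P] {V : Type v} [AddCommGroup V] [Module K V]
  (ρ : Representation K P V)

/-- In an irreducible representation over an algebraically closed field, central elements act by
scalars. -/
theorem exists_scalar_of_central [IsAlgClosed K] [FiniteDimensional K V] [Nontrivial V]
    (hirr : ∀ W : Submodule K V, (∀ g, W ≤ W.comap (ρ g)) → W ≠ ⊥ → W = ⊤)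
    (z : P) (hz : z ∈ center P) : ∃ c : K, ∀ v, ρ z v = c • v := by
  obtain ⟨c, hc⟩ := Module.End.exists_eigenvalue (ρ z)
  refine ⟨c, fun v => ?_⟩
  have hW : Module.End.eigenspace (ρ z) c = ⊤ := by
    apply hirr
    · intro g v hv
      rw [Submodule.mem_comap, Module.End.mem_eigenspace_iff]
      rw [Module.End.mem_eigenspace_iff] at hv
      have hcomm : ρ z * ρ g = ρ g * ρ z := by
        rw [← map_mul, ← map_mul, (mem_center_iff.mp hz g)]
      calc ρ z (ρ g v) = (ρ z * ρ g) v := rfl
        _ = (ρ g * ρ z) v := by rw [hcomm]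
        _ = ρ g (ρ z v) := rfl
        _ = c • ρ g v := by rw [hv, map_smul]
    · exact hc
  have : v ∈ Module.End.eigenspace (ρ z) c := by rw [hW]; exact Submodule.mem_top
  exact Module.End.mem_eigenspace_iff.mp this

/-- If `a * g = g * z * a` with `z` acting as the scalar `c`, then `ρ g` maps the `ζ`-eigenspace
of `ρ a` into the `c * ζ`-eigenspace. -/
theorem eigenspace_le_comap (a g z : P) (c : K) (hz : ∀ v, ρ z v = c • v)
    (h : a * g = g * z * a) (ζ : K) :
    Module.End.eigenspace (ρ a) ζ ≤ (Module.End.eigenspace (ρ a) (c * ζ)).comap (ρ g) := by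
  intro v hv
  rw [Submodule.mem_comap, Module.End.mem_eigenspace_iff]
  rw [Module.End.mem_eigenspace_iff] at hv
  calc ρ a (ρ g v) = (ρ (a * g)) v := by rw [map_mul]; rfl
    _ = (ρ (g * z * a)) v := by rw [h]
    _ = ρ g (ρ z (ρ a v)) := by rw [map_mul, map_mul]; rfl
    _ = (c * ζ) • ρ g v := by rw [hv, hz, smul_smul, map_smul]

theorem eigenspace_le_comap_of_commute (a g : P) (h : a * g = g * a) (ζ : K) :
    Module.End.eigenspace (ρ a) ζ ≤ (Module.End.eigenspace (ρ a) ζ).comap (ρ g) := by
  have := eigenspace_le_comap ρ a g 1 1 (by simp) (by simpa using h) ζ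
  simpa using this

theorem eigenvalue_ne_zero (a : P) (ζ : K) (h : Module.End.eigenspace (ρ a) ζ ≠ ⊥) : ζ ≠ 0 := by
  rintro rfl
  apply h
  rw [eq_bot_iff]
  intro v hv
  rw [Module.End.mem_eigenspace_iff, zero_smul] at hv
  have : ρ a⁻¹ (ρ a v) = v := by
    have : (ρ a⁻¹ * ρ a) v = v := by rw [← map_mul, inv_mul_cancel, map_one]; rfl
    exact this
  rw [hv, map_zero] at this
  rw [Submodule.mem_bot]; exact this.symm

/-- Dimension bound: a non-central-acting conjugation shifts eigenspaces, so they are small. -/
theorem two_mul_finrank_eigenspace_le [FiniteDimensional K V] (a g z : P) (c : K) (hc : c ≠ 1)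
    (hz : ∀ v, ρ z v = c • v) (h : a * g = g * z * a) (ζ : K)
    (hζ : Module.End.eigenspace (ρ a) ζ ≠ ⊥) :
    2 * finrank K (Module.End.eigenspace (ρ a) ζ) ≤ finrank K V := by
  have hζ0 := eigenvalue_ne_zero ρ a ζ hζ
  have hne : c * ζ ≠ ζ := by
    intro h
    apply hc
    have : (c - 1) * ζ = 0 := by rw [sub_mul, h, one_mul, sub_self]
    rcases mul_eq_zero.mp this with h | h
    · exact sub_eq_zero.mp h
    · exact absurd h hζ0
  have hdisj : Disjoint (Module.End.eigenspace (ρ a) ζ) (Module.End.eigenspace (ρ a) (c * ζ)) := by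
    rw [Submodule.disjoint_def]
    intro v h1 h2
    rw [Module.End.mem_eigenspace_iff] at h1 h2
    rw [h1] at h2
    have : (ζ - c * ζ) • v = 0 := by rw [sub_smul, h2, sub_self]
    rcases smul_eq_zero.mp this with h | h
    · exact absurd (sub_eq_zero.mp h).symm hne
    · exact h
  have hle := eigenspace_le_comap ρ a g z c hz h ζ
  let f : Module.End.eigenspace (ρ a) ζ →ₗ[K] Module.End.eigenspace (ρ a) (c * ζ) :=
    (ρ g).restrict (fun v hv => hle hv)
  have hf : Function.Injective f := by
    intro x y hxy
    have h1 := congrArg Subtype.val hxy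
    simp only [f, LinearMap.coe_restrict_apply] at h1
    have hinj : Function.Injective (ρ g) := by
      intro u w huw
      have : ρ g⁻¹ (ρ g u) = ρ g⁻¹ (ρ g w) := by rw [huw]
      have e : ∀ t, ρ g⁻¹ (ρ g t) = t := by
        intro t
        have : (ρ g⁻¹ * ρ g) t = t := by rw [← map_mul, inv_mul_cancel, map_one]; rfl
        exact this
      rwa [e, e] at this
    exact Subtype.ext (hinj h1)
  have h1 := LinearMap.finrank_le_finrank_of_injective hf
  have h2 := Submodule.finrank_add_finrank_le_of_disjoint hdisj
  omega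

end irr

section main
variable {K : Type w} [Field K] [IsAlgClosed K] (p : ℕ) [hp : Fact p.Prime] (hpK : (p : K) ≠ 0)

theorem log_succ_le_of_two_mul_le {m n : ℕ} (hm : 1 ≤ m) (h : 2 * m ≤ n) :
    Nat.log 2 m + 1 ≤ Nat.log 2 n := by
  rw [← Nat.log_mul_base (by norm_num) (by omega)]
  exact Nat.log_mono_right (by omega)

include hpK in
theorem faithful_step (n : ℕ)
    (ih : ∀ m < n, ∀ (P : Type u) [Group P] [Finite P], IsPGroup p P →
      ∀ (V : Type v) [AddCommGroup V] [Module K V] [FiniteDimensional K V]
        (ρ : Representation K P V), finrank K V = m → 1 ≤ m →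
        derivedSeries P (Nat.log 2 m + 1) ≤ ρ.ker)
    (P : Type u) [Group P] [Finite P] (hP : IsPGroup p P)
    (V : Type v) [AddCommGroup V] [Module K V] [FiniteDimensional K V]
    (ρ : Representation K P V) (hn : finrank K V = n) (h1 : 1 ≤ n)
    (hinj : Function.Injective ρ) : derivedSeries P (Nat.log 2 n + 1) = ⊥ := by
  by_cases hred : ∃ W : Submodule K V, (∀ g, W ≤ W.comap (ρ g)) ∧ W ≠ ⊥ ∧ W ≠ ⊤
  · obtain ⟨W, hW, hW0, hWt⟩ := hred
    have hq := Submodule.finrank_quotient_add_finrank W
    have hWpos : 1 ≤ finrank K W := Submodule.one_le_finrank_iff.mpr hW0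
    have hWlt : finrank K W < finrank K V := Submodule.finrank_lt hWt
    rw [eq_bot_iff]
    intro x hx
    rw [mem_bot]
    apply hinj
    rw [map_one]
    obtain ⟨j, hj⟩ := hP x
    have a1 := ih (finrank K W) (by omega) P hP W (ρ.subrepresentation W hW) rfl (by omega)
    have a2 := ih (finrank K (V ⧸ W)) (by omega) P hP (V ⧸ W) (ρ.quotient W hW) rfl (by omega)
    have m1 : derivedSeries P (Nat.log 2 n + 1) ≤ derivedSeries P (Nat.log 2 (finrank K W) + 1) :=
      derivedSeries_antitone P (by
        have := Nat.log_mono_right (b := 2) (show finrank K W ≤ n by omega)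
        omega)
    have m2 : derivedSeries P (Nat.log 2 n + 1) ≤
        derivedSeries P (Nat.log 2 (finrank K (V ⧸ W)) + 1) :=
      derivedSeries_antitone P (by
        have := Nat.log_mono_right (b := 2) (show finrank K (V ⧸ W) ≤ n by omega)
        omega)
    exact eq_one_of_trivial ρ W hW p hpK x j hj (MonoidHom.mem_ker.mp (a1 (m1 hx)))
      (MonoidHom.mem_ker.mp (a2 (m2 hx)))
  · push Not at hred
    have hirr : ∀ W : Submodule K V, (∀ g, W ≤ W.comap (ρ g)) → W ≠ ⊥ → W = ⊤ := hred
    have : Nontrivial V := by
      apply Module.nontrivial_of_finrank_pos (R := K)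
      omega
    by_cases hcomm : center P = ⊤
    · have h0 : derivedSeries P 1 = ⊥ := by
        rw [derivedSeries_one]
        exact (_root_.commutator_eq_bot_iff_center_eq_top P).mpr hcomm
      have := derivedSeries_antitone P (show 1 ≤ Nat.log 2 n + 1 by omega)
      rw [h0] at this
      exact le_bot_iff.mp this
    · obtain ⟨a, haA, haZ⟩ := exists_mem_secondCenter_not_mem_center p hP hcomm
      let P₁ : Subgroup P := centralizer (secondCenter P : Set P)
      have hcomm_le : commutator P ≤ P₁ := commutator_le_centralizer_secondCenter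
      have hscal : ∀ z ∈ center P, ∃ c : K, ∀ v, ρ z v = c • v :=
        fun z hz => exists_scalar_of_central ρ hirr z hz
      -- the central commutators
      have hzc : ∀ g : P, g⁻¹ * a * g * a⁻¹ ∈ center P := by
        intro g
        have h := commutatorElement_mem_center_of_mem_secondCenter haA g⁻¹
        have h' := (center P).inv_mem h
        have e : (⁅a, g⁻¹⁆)⁻¹ = g⁻¹ * a * g * a⁻¹ := by
          rw [commutatorElement_def]; group
        rwa [e] at h'
      have hag : ∀ g : P, a * g = g * (g⁻¹ * a * g * a⁻¹) * a := by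
        intro g; group
      obtain ⟨g, hg⟩ : ∃ g, g * a ≠ a * g := by
        by_contra hcon
        push Not at hcon
        exact haZ (mem_center_iff.mpr hcon)
      obtain ⟨c, hc⟩ := hscal _ (hzc g)
      have hc1 : c ≠ 1 := by
        rintro rfl
        apply hg
        have : ρ (g⁻¹ * a * g * a⁻¹) = ρ 1 := by
          rw [map_one]
          ext v
          rw [hc v, one_smul, Module.End.one_apply]
        have h2 := hinj this
        have : g * (g⁻¹ * a * g * a⁻¹) * a = g * 1 * a := by rw [h2]
        rw [← hag g, mul_one] at this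
        exact this.symm
      let E : K → Submodule K V := fun ζ => Module.End.eigenspace (ρ a) ζ
      have hsup : (⨆ ζ, E ζ) = ⊤ := by
        apply hirr
        · intro h
          apply iSup_le
          intro ζ
          obtain ⟨ch, hch⟩ := hscal _ (hzc h)
          have := eigenspace_le_comap ρ a h _ ch hch (hag h) ζ
          exact this.trans (Submodule.comap_mono (le_iSup E (ch * ζ)))
        · obtain ⟨μ, hμ⟩ := Module.End.exists_eigenvalue (ρ a)
          intro hbot
          apply hμ
          have := le_iSup E μ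
          rw [hbot] at this
          exact le_bot_iff.mp this
      have hdim : ∀ ζ, E ζ ≠ ⊥ → 2 * finrank K (E ζ) ≤ n := by
        intro ζ hζ
        rw [← hn]
        exact two_mul_finrank_eigenspace_le ρ a g _ c hc1 hc (hag g) ζ hζ
      let ρ₁ : Representation K P₁ V := ρ.comp P₁.subtype
      have hE : ∀ ζ, ∀ x : P₁, E ζ ≤ (E ζ).comap (ρ₁ x) := by
        intro ζ x
        have hx : a * (x : P) = (x : P) * a := (mem_centralizer_iff.mp x.2 a haA)
        exact eigenspace_le_comap_of_commute ρ a x hx ζ
      have hker : ∀ x ∈ derivedSeries P₁ (Nat.log 2 n), ρ₁ x = 1 := by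
        intro x hx
        have htop : (⊤ : Submodule K V) ≤ LinearMap.eqLocus (ρ₁ x) 1 := by
          rw [← hsup]
          apply iSup_le
          intro ζ
          by_cases hζ : E ζ = ⊥
          · rw [hζ]; exact bot_le
          · have hd := hdim ζ hζ
            have hpos : 1 ≤ finrank K (E ζ) := Submodule.one_le_finrank_iff.mpr hζ
            have a1 := ih (finrank K (E ζ)) (by omega) P₁ (hP.to_subgroup P₁) (E ζ)
              (ρ₁.subrepresentation (E ζ) (hE ζ)) rfl hpos
            have hlog := log_succ_le_of_two_mul_le hpos hd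
            have a2 := a1 (derivedSeries_antitone P₁ hlog hx)
            intro v hv
            rw [LinearMap.mem_eqLocus]
            exact apply_eq_of_sub_eq_one ρ₁ (E ζ) (hE ζ) x (MonoidHom.mem_ker.mp a2) v hv
        ext v
        exact htop (Submodule.mem_top)
      have hbot : derivedSeries P₁ (Nat.log 2 n) = ⊥ := by
        rw [eq_bot_iff]
        intro x hx
        rw [mem_bot]
        have := hker x hx
        apply Subtype.ext
        apply hinj
        rw [coe_one, map_one]
        exact this
      exact derivedSeries_succ_eq_bot P₁ hcomm_le _ hbot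

include hpK in
theorem derivedSeries_le_ker_of_ne (n : ℕ) : ∀ (P : Type u) [Group P] [Finite P], IsPGroup p P →
      ∀ (V : Type v) [AddCommGroup V] [Module K V] [FiniteDimensional K V]
        (ρ : Representation K P V), finrank K V = n → 1 ≤ n →
        derivedSeries P (Nat.log 2 n + 1) ≤ ρ.ker := by
  induction n using Nat.strong_induction_on with
  | _ n ih =>
    intro P _ _ hP V _ _ _ ρ hn h1
    let f : P →* Module.End K V := ρ
    have hQ : IsPGroup p (P ⧸ f.ker) := hP.to_quotient f.ker
    let ρ' : Representation K (P ⧸ f.ker) V :=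
      QuotientGroup.lift f.ker f (fun _ h => MonoidHom.mem_ker.mp h)
    have hinj : Function.Injective ρ' := lift_ker_injective f
    have := faithful_step p hpK n ih (P ⧸ f.ker) hQ V ρ' hn h1 hinj
    exact derivedSeries_le_ker f _ this

end main

section final

theorem derivedSeries_eq_bot_of_injective_matrix {P : Type u} [Group P] [Finite P] (p : ℕ)
    [Fact p.Prime] (hP : IsPGroup p P) (F : Type w) [Field F] (n : ℕ) (hn : 1 ≤ n)
    (f : P →* Matrix (Fin n) (Fin n) F) (hf : Function.Injective f) :
    derivedSeries P (Nat.log 2 n + 1) = ⊥ := by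
  let K := AlgebraicClosure F
  let φ : Matrix (Fin n) (Fin n) F →* Matrix (Fin n) (Fin n) K :=
    ((algebraMap F K).mapMatrix : Matrix (Fin n) (Fin n) F →+* Matrix (Fin n) (Fin n) K)
  have hφ : Function.Injective φ := by
    intro A B hAB
    have : A.map (algebraMap F K) = B.map (algebraMap F K) := hAB
    exact Matrix.map_injective (algebraMap F K).injective this
  let ψ : Matrix (Fin n) (Fin n) K →* Module.End K (Fin n → K) :=
    ((Matrix.toLinAlgEquiv' : Matrix (Fin n) (Fin n) K ≃ₐ[K] _) :
      Matrix (Fin n) (Fin n) K →ₐ[K] Module.End K (Fin n → K))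
  have hψ : Function.Injective ψ := by
    intro A B hAB
    exact (Matrix.toLinAlgEquiv' : Matrix (Fin n) (Fin n) K ≃ₐ[K] _).injective hAB
  let ρ' : Representation K P (Fin n → K) := ψ.comp (φ.comp f)
  have hinj : Function.Injective ρ' := hψ.comp (hφ.comp hf)
  have hfin : finrank K (Fin n → K) = n := by simp
  have hker : derivedSeries P (Nat.log 2 n + 1) ≤ ρ'.ker := by
    by_cases hpK : (p : K) = 0
    · have : CharP K p := (CharP.charP_iff_prime_eq_zero (Fact.out : p.Prime)).mpr hpK
      exact derivedSeries_le_ker_charp p (Nat.log 2 n + 1) P hP (Fin n → K) ρ'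
        (by rw [hfin]; exact (Nat.lt_pow_succ_log_self (by norm_num) n).le)
    · exact derivedSeries_le_ker_of_ne p hpK n P hP (Fin n → K) ρ' hfin hn
  rw [(MonoidHom.ker_eq_bot_iff ρ').mpr hinj] at hker
  exact le_bot_iff.mp hker

end final

end Cfsg.Agent.Lib.Helper24_LinearPGroup
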