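import Mathlib
import Cfsg.Agent.Lib.Helper24_LinearPGroup

/-!
# Linear `p`-groups over finite fields in cross characteristic (helper24)

Over an algebraically closed field `K` with a ring endomorphism `σ` and a `σ`-semilinear injective
map `φ` commuting with a representation of a finite `p`-group (`p` invertible in `K`), the derived
length is bounded by `Nat.log 2 (n / e) + 1`, where `e` is the order of `σ` on the nontrivial
`p`-th roots of unity (`frob_main`).  `derivedSeries_eq_bot_of_finite_field` is the resulting bound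
for `p`-groups of matrices over a finite field.
-/

open Subgroup Module
open scoped commutatorElement

namespace Cfsg.Agent.Lib.Helper24_FrobLinear

open Cfsg.Agent.Lib.Helper24_LinearPGroup

universe u v w

section fin
variable {K : Type w} [Field K] {V : Type v} [AddCommGroup V] [Module K V] [FiniteDimensional K V]

theorem sum_finrank_eq_of_supIndep {ι : Type*} [DecidableEq ι] (f : ι → Submodule K V)
    (s : Finset ι) (hs : s.SupIndep f) : ∑ i ∈ s, finrank K (f i) = finrank K ↥(s.sup f) := by
  induction s using Finset.induction_on with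
  | empty => rw [Finset.sum_empty, Finset.sup_empty, finrank_bot]
  | insert a s ha ih =>
    rw [Finset.sum_insert ha, Finset.sup_insert, ih (hs.subset (Finset.subset_insert a s))]
    have hd : Disjoint (f a) (s.sup f) :=
      hs (Finset.subset_insert a s) (Finset.mem_insert_self a s) ha
    have h := Submodule.finrank_sup_add_finrank_inf_eq (f a) (s.sup f)
    rw [hd.eq_bot, finrank_bot, add_zero] at h
    exact h.symm

theorem sum_finrank_eigenspace_le (T : Module.End K V) (s : Finset K) :
    ∑ μ ∈ s, finrank K (Module.End.eigenspace T μ) ≤ finrank K V := by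
  classical
  rw [sum_finrank_eq_of_supIndep _ s ((Module.End.eigenspaces_iSupIndep T).supIndep' s)]
  exact Submodule.finrank_le _

end fin

section grp
variable {P : Type u} [Group P] [Finite P] (p : ℕ) [hp : Fact p.Prime]

theorem exists_central_order_p (hP : IsPGroup p P) {M : Type*} [Monoid M] (f : P →* M)
    (hf : ∃ g, f g ≠ 1) :
    ∃ g₀, f g₀ ≠ 1 ∧ (f g₀) ^ p = 1 ∧ ∀ g, f g₀ * f g = f g * f g₀ := by
  have hQ : IsPGroup p (P ⧸ f.ker) := hP.to_quotient f.ker
  let f' : (P ⧸ f.ker) →* M := QuotientGroup.lift f.ker f (fun _ h => MonoidHom.mem_ker.mp h)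
  have hinj : Function.Injective f' := lift_ker_injective f
  have hnt : Nontrivial (P ⧸ f.ker) := by
    obtain ⟨g, hg⟩ := hf
    refine ⟨⟨(g : P ⧸ f.ker), 1, ?_⟩⟩
    intro h
    apply hg
    have : f' (g : P ⧸ f.ker) = f' 1 := by rw [h]
    rw [map_one] at this
    exact this
  have hcn := hQ.center_nontrivial
  have hZ : IsPGroup p (center (P ⧸ f.ker)) := hQ.to_subgroup _
  obtain ⟨k, hk, hcard⟩ := (hZ.nontrivial_iff_card).mp hcn
  have hdvd : p ∣ Nat.card (center (P ⧸ f.ker)) := by
    rw [hcard]; exact dvd_pow_self p (by omega)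
  obtain ⟨⟨z', hz'c⟩, hz'⟩ := exists_prime_orderOf_dvd_card' p hdvd
  have hz'o : orderOf z' = p := by
    rw [← hz']; exact (Subgroup.orderOf_mk z' hz'c).symm
  obtain ⟨g₀, rfl⟩ := QuotientGroup.mk_surjective z'
  have e1 : ∀ g : P, f' (g : P ⧸ f.ker) = f g := fun g => rfl
  refine ⟨g₀, ?_, ?_, ?_⟩
  · rw [← e1]
    intro h
    have : ((g₀ : P ⧸ f.ker)) = 1 := hinj (by rw [h, map_one])
    rw [this, orderOf_one] at hz'o
    exact hp.out.one_lt.ne hz'o
  · rw [← e1, ← map_pow, ← hz'o, pow_orderOf_eq_one, map_one]
  · intro g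
    rw [← e1, ← e1, ← map_mul, ← map_mul, (mem_center_iff.mp hz'c (g : P ⧸ f.ker))]

end grp

section frob1
variable {K : Type w} [Field K] [IsAlgClosed K] (p : ℕ) [hp : Fact p.Prime] (hpK : (p : K) ≠ 0)

omit hp in
include hpK in
theorem iSup_eigenspace_eq_top_of_pow_eq_one {V : Type v} [AddCommGroup V] [Module K V]
    [FiniteDimensional K V] (T : Module.End K V) (hT : T ^ p = 1) :
    ⨆ μ, Module.End.eigenspace T μ = ⊤ := by
  apply Module.End.IsSemisimple.iSup_eigenspace_eq_top
  apply Module.End.isSemisimple_of_squarefree_aeval_eq_zero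
    (p := (Polynomial.X ^ p - Polynomial.C (1 : K)))
  · exact (Polynomial.separable_X_pow_sub_C (1 : K) hpK one_ne_zero).squarefree
  · simp [hT]

omit [IsAlgClosed K] hp in
theorem pow_eq_one_of_eigenspace_ne_bot {V : Type v} [AddCommGroup V] [Module K V]
    (T : Module.End K V) (hT : T ^ p = 1) (μ : K) (h : Module.End.eigenspace T μ ≠ ⊥) :
    μ ^ p = 1 := by
  obtain ⟨v, hv, hv0⟩ := (Submodule.ne_bot_iff _).mp h
  rw [Module.End.mem_eigenspace_iff] at hv
  have h1 : ∀ k : ℕ, (T ^ k) v = μ ^ k • v := by
    intro k
    induction k with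
    | zero => simp
    | succ k ih => rw [pow_succ', Module.End.mul_apply, ih, map_smul, hv, smul_smul, pow_succ]
  have h2 := h1 p
  rw [hT, Module.End.one_apply] at h2
  have h3 : (μ ^ p - 1) • v = 0 := by rw [sub_smul, one_smul, ← h2, sub_self]
  rcases smul_eq_zero.mp h3 with h | h
  · exact sub_eq_zero.mp h
  · exact absurd h hv0

end frob1

section frob2
variable {K : Type w} [Field K] [IsAlgClosed K] (p : ℕ) [hp : Fact p.Prime] (hpK : (p : K) ≠ 0)
  (σ : K →+* K) (e : ℕ) (he : 1 ≤ e)
  (hσ : ∀ μ : K, μ ^ p = 1 → μ ≠ 1 → ∀ i : ℕ, (σ^[i] μ = μ ↔ e ∣ i))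

theorem exists_mul_le_of_sum_le (e n : ℕ) (he : 1 ≤ e) (f : ℕ → ℕ)
    (h : ∑ i ∈ Finset.range e, f i ≤ n) : ∃ i < e, e * f i ≤ n := by
  have hne : (Finset.range e).Nonempty := Finset.nonempty_range_iff.mpr (by omega)
  have h2 : ∑ i ∈ Finset.range e, e * f i ≤ ∑ _i ∈ Finset.range e, n := by
    rw [← Finset.mul_sum, Finset.sum_const, Finset.card_range, smul_eq_mul]
    exact Nat.mul_le_mul_left e h
  obtain ⟨i, hi, hle⟩ := Finset.exists_le_of_sum_le hne h2
  exact ⟨i, Finset.mem_range.mp hi, hle⟩

include hpK he hσ in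
theorem frob_main {P : Type u} [Group P] [Finite P] (hP : IsPGroup p P) (n : ℕ) :
    ∀ (V : Type v) [AddCommGroup V] [Module K V] [FiniteDimensional K V]
      (ρ : Representation K P V) (φ : V →ₛₗ[σ] V), Function.Injective φ →
      (∀ g v, φ (ρ g v) = ρ g (φ v)) → finrank K V = n →
      (n < e → ∀ g, ρ g = 1) ∧
        (e ≤ n → derivedSeries P (Nat.log 2 (n / e) + 1) ≤ ρ.ker) := by
  induction n using Nat.strong_induction_on with
  | _ n ih =>
    intro V _ _ _ ρ φ hφ hcomm hn
    by_cases htriv : ∀ g, ρ g = 1
    · exact ⟨fun _ => htriv, fun _ x _ => MonoidHom.mem_ker.mpr (htriv x)⟩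
    · push Not at htriv
      obtain ⟨g₀, hT1, hTp, hTc⟩ := exists_central_order_p p hP ρ htriv
      set T : Module.End K V := ρ g₀ with hTdef
      let E : K → Submodule K V := fun μ => Module.End.eigenspace T μ
      have hsup : (⨆ μ, E μ) = ⊤ := iSup_eigenspace_eq_top_of_pow_eq_one p hpK T hTp
      have hEφ : ∀ μ v, v ∈ E μ → φ v ∈ E (σ μ) := by
        intro μ v hv
        simp only [E, Module.End.mem_eigenspace_iff] at hv ⊢
        rw [hTdef, ← hcomm, ← hTdef, hv, map_smulₛₗ]
      have hEρ : ∀ μ g, E μ ≤ (E μ).comap (ρ g) := by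
        intro μ g v hv
        simp only [E, Submodule.mem_comap, Module.End.mem_eigenspace_iff] at hv ⊢
        calc T (ρ g v) = (T * ρ g) v := rfl
          _ = (ρ g * T) v := by rw [hTc g]
          _ = ρ g (T v) := rfl
          _ = μ • ρ g v := by rw [hv, map_smul]
      have hEp : ∀ μ, E μ ≠ ⊥ → μ ^ p = 1 := fun μ h =>
        pow_eq_one_of_eigenspace_ne_bot p T hTp μ h
      -- iterates of σ on p-th roots of unity
      have hσp : ∀ (i : ℕ) (μ : K), μ ^ p = 1 → μ ≠ 1 → (σ^[i] μ) ^ p = 1 ∧ σ^[i] μ ≠ 1 := by
        intro i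
        induction i with
        | zero => intro μ h1 h2; exact ⟨h1, h2⟩
        | succ i ihi =>
          intro μ h1 h2
          rw [Function.iterate_succ_apply]
          refine ihi (σ μ) (by rw [← map_pow, h1, map_one]) ?_
          intro h
          apply h2
          exact σ.injective (by rw [h, map_one])
      have hinjσ : ∀ (μ : K), μ ^ p = 1 → μ ≠ 1 →
          Set.InjOn (fun i : ℕ => σ^[i] μ) (Finset.range e : Set ℕ) := by
        intro μ h1 h2
        have key : ∀ i j : ℕ, i ≤ j → j < e → σ^[i] μ = σ^[j] μ → i = j := by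
          intro i j hij hj h
          obtain ⟨k, rfl⟩ := Nat.exists_eq_add_of_le hij
          rw [Function.iterate_add_apply] at h
          have h3 : σ^[k] μ = μ := ((σ.injective.iterate i) h).symm
          have := ((hσ μ h1 h2 k).mp h3)
          have hk : k = 0 := by
            by_contra hk0
            have := Nat.le_of_dvd (Nat.pos_of_ne_zero hk0) this
            omega
          omega
        intro i hi j hj h
        simp only [Finset.coe_range, Set.mem_Iio] at hi hj
        rcases le_total i j with hij | hij
        · exact key i j hij hj h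
        · exact (key j i hij hi h.symm).symm
      have hsum : ∀ (μ : K), μ ^ p = 1 → μ ≠ 1 →
          ∑ i ∈ Finset.range e, finrank K (E (σ^[i] μ)) ≤ n := by
        intro μ h1 h2
        classical
        have := sum_finrank_eigenspace_le T ((Finset.range e).image (fun i : ℕ => σ^[i] μ))
        rw [Finset.sum_image (hinjσ μ h1 h2), hn] at this
        exact this
      -- kernel transport
      have hdown : ∀ (i : ℕ) (ν : K) (g : P), (∀ w ∈ E (σ^[i] ν), ρ g w = w) →
          ∀ v ∈ E ν, ρ g v = v := by
        intro i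
        induction i with
        | zero => intro ν g h; exact h
        | succ i ihi =>
          intro ν g h v hv
          rw [Function.iterate_succ_apply] at h
          have h' := ihi (σ ν) g h (φ v) (hEφ ν v hv)
          apply hφ
          rw [hcomm, h']
      -- a nontrivial eigenvalue exists
      have hex : ∃ μ₀, μ₀ ≠ 1 ∧ E μ₀ ≠ ⊥ := by
        by_contra hcon
        push Not at hcon
        apply hT1
        have h1 : (⊤ : Submodule K V) ≤ E 1 := by
          rw [← hsup]
          apply iSup_le
          intro μ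
          by_cases hμ : μ = 1
          · rw [hμ]
          · rw [hcon μ hμ]; exact bot_le
        ext v
        have := h1 (Submodule.mem_top (x := v))
        simp only [E, Module.End.mem_eigenspace_iff, one_smul] at this
        rw [this, Module.End.one_apply]
      have hne : e ≤ n := by
        obtain ⟨μ₀, hμ1, hμE⟩ := hex
        have hμp := hEp μ₀ hμE
        have h1 := hsum μ₀ hμp hμ1
        have h2 : ∀ i ∈ Finset.range e, 1 ≤ finrank K (E (σ^[i] μ₀)) := by
          intro i _
          rw [Submodule.one_le_finrank_iff]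
          obtain ⟨v, hv, hv0⟩ := (Submodule.ne_bot_iff _).mp hμE
          have h3 : ∀ (j : ℕ) (ν : K) (w : V), w ∈ E ν → w ≠ 0 →
              ∃ w' ∈ E (σ^[j] ν), w' ≠ 0 := by
            intro j
            induction j with
            | zero => intro ν w hw hw0; exact ⟨w, hw, hw0⟩
            | succ j ihj =>
              intro ν w hw hw0
              rw [Function.iterate_succ_apply]
              refine ihj (σ ν) (φ w) (hEφ ν w hw) ?_
              intro h
              exact hw0 (hφ (by rw [h, map_zero]))
          obtain ⟨w', hw', hw'0⟩ := h3 i μ₀ v hv hv0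
          exact (Submodule.ne_bot_iff _).mpr ⟨w', hw', hw'0⟩
        have h4 : ∑ _i ∈ Finset.range e, 1 ≤ ∑ i ∈ Finset.range e, finrank K (E (σ^[i] μ₀)) :=
          Finset.sum_le_sum h2
        rw [Finset.sum_const, Finset.card_range, smul_eq_mul, mul_one] at h4
        omega
      refine ⟨fun h => absurd hne (by omega), fun _ => ?_⟩
      intro x hx
      rw [MonoidHom.mem_ker]
      have htop : (⊤ : Submodule K V) ≤ LinearMap.eqLocus (ρ x) 1 := by
        rw [← hsup]
        apply iSup_le
        intro μ
        by_cases hμE : E μ = ⊥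
        · rw [hμE]; exact bot_le
        have hμp := hEp μ hμE
        intro v hv
        rw [LinearMap.mem_eqLocus, Module.End.one_apply]
        by_cases hμ1 : μ = 1
        · -- induction on the fixed space of T
          subst hμ1
          have hlt : finrank K (E 1) < n := by
            rw [← hn]
            apply Submodule.finrank_lt
            intro htop
            apply hT1
            ext w
            have : w ∈ E 1 := by rw [htop]; exact Submodule.mem_top
            simp only [E, Module.End.mem_eigenspace_iff, one_smul] at this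
            rw [this, Module.End.one_apply]
          let φ₁ : E 1 →ₛₗ[σ] E 1 := (φ.domRestrict (E 1)).codRestrict (E 1) (fun w => by
            have := hEφ 1 w.1 w.2
            rwa [map_one] at this)
          have hφ₁ : Function.Injective φ₁ := by
            intro a b hab
            have := congrArg Subtype.val hab
            exact Subtype.ext (hφ this)
          have hc₁ : ∀ g (w : E 1), φ₁ (ρ.subrepresentation (E 1) (hEρ 1) g w) =
              ρ.subrepresentation (E 1) (hEρ 1) g (φ₁ w) := by
            intro g w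
            apply Subtype.ext
            exact hcomm g w.1
          obtain ⟨r1, r2⟩ := ih (finrank K (E 1)) hlt (E 1) (ρ.subrepresentation (E 1) (hEρ 1))
            φ₁ hφ₁ hc₁ rfl
          by_cases hm : finrank K (E 1) < e
          · exact apply_eq_of_sub_eq_one ρ (E 1) (hEρ 1) x (r1 hm x) v hv
          · have hm' : e ≤ finrank K (E 1) := by omega
            have hlog : Nat.log 2 (finrank K (E 1) / e) + 1 ≤ Nat.log 2 (n / e) + 1 := by
              have := Nat.log_mono_right (b := 2)
                (Nat.div_le_div_right (c := e) (show finrank K (E 1) ≤ n by omega))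
              omega
            have := r2 hm' (derivedSeries_antitone P hlog hx)
            exact apply_eq_of_sub_eq_one ρ (E 1) (hEρ 1) x (MonoidHom.mem_ker.mp this) v hv
        · -- nontrivial eigenvalue: use the orbit under σ
          obtain ⟨i, hi, hle⟩ := exists_mul_le_of_sum_le e n he _ (hsum μ hμp hμ1)
          apply hdown i μ x _ v hv
          intro w hw
          by_cases hd : E (σ^[i] μ) = ⊥
          · rw [hd, Submodule.mem_bot] at hw
            rw [hw, map_zero]
          · have hpos : 1 ≤ finrank K (E (σ^[i] μ)) := Submodule.one_le_finrank_iff.mpr hd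
            have a1 := derivedSeries_le_ker_of_ne p hpK (finrank K (E (σ^[i] μ))) P hP
              (E (σ^[i] μ)) (ρ.subrepresentation _ (hEρ _)) rfl hpos
            have hdle : finrank K (E (σ^[i] μ)) ≤ n / e := by
              rw [Nat.le_div_iff_mul_le (by omega)]
              rw [mul_comm]; exact hle
            have hlog : Nat.log 2 (finrank K (E (σ^[i] μ))) + 1 ≤ Nat.log 2 (n / e) + 1 := by
              have := Nat.log_mono_right (b := 2) hdle
              omega
            have := a1 (derivedSeries_antitone P hlog hx)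
            exact apply_eq_of_sub_eq_one ρ _ (hEρ _) x (MonoidHom.mem_ker.mp this) w hw
      ext v
      exact htop (Submodule.mem_top)

end frob2

section final

theorem derivedSeries_eq_bot_of_finite_field {F : Type w} [Field F] [Fintype F] (q : ℕ)
    (hF : Fintype.card F = q) (p : ℕ) [Fact p.Prime] (hpq : ¬ p ∣ q) (n e : ℕ)
    (he : e = orderOf (q : ZMod p)) (hen : e ≤ n) {P : Type u} [Group P] [Finite P]
    (hP : IsPGroup p P) (f : P →* Matrix (Fin n) (Fin n) F) (hf : Function.Injective f) :
    derivedSeries P (Nat.log 2 (n / e) + 1) = ⊥ := by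
  classical
  let K := AlgebraicClosure F
  obtain ⟨ℓ, hℓ⟩ := CharP.exists F
  obtain ⟨k, hℓp, hqk⟩ := FiniteField.card F ℓ
  rw [hF] at hqk
  have : Fact ℓ.Prime := ⟨hℓp⟩
  have : CharP K ℓ := charP_of_injective_algebraMap (algebraMap F K).injective ℓ
  let σ : K →+* K := iterateFrobenius K ℓ k
  have hσx : ∀ x : K, σ x = x ^ q := by
    intro x
    rw [hqk]
    exact iterateFrobenius_def ℓ k x
  have hpK : (p : K) ≠ 0 := by
    intro h
    have h1 := (CharP.cast_eq_zero_iff K ℓ p).mp h
    have h2 : ℓ = p := (Nat.prime_dvd_prime_iff_eq hℓp (Fact.out : p.Prime)).mp h1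
    apply hpq
    rw [hqk, h2]
    exact dvd_pow_self p k.ne_zero
  have hq0 : (q : ZMod p) ≠ 0 := by
    intro h
    exact hpq ((ZMod.natCast_eq_zero_iff q p).mp h)
  have he1 : 1 ≤ e := by
    rw [he]
    have : IsOfFinOrder (q : ZMod p) := by
      rw [isOfFinOrder_iff_pow_eq_one]
      exact ⟨p - 1, Nat.sub_pos_of_lt (Fact.out : p.Prime).one_lt, ZMod.pow_card_sub_one_eq_one hq0⟩
    exact orderOf_pos_iff.mpr this
  have hσi : ∀ (i : ℕ) (x : K), σ^[i] x = x ^ (q ^ i) := by
    intro i
    induction i with
    | zero => intro x; simp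
    | succ i ih =>
      intro x
      rw [Function.iterate_succ_apply', ih, hσx, ← pow_mul, ← pow_succ]
  have hσ : ∀ μ : K, μ ^ p = 1 → μ ≠ 1 → ∀ i : ℕ, (σ^[i] μ = μ ↔ e ∣ i) := by
    intro μ h1 h2 i
    have ho : orderOf μ = p := orderOf_eq_prime h1 h2
    rw [hσi]
    nth_rewrite 2 [← pow_one μ]
    have hfo : IsOfFinOrder μ :=
      isOfFinOrder_iff_pow_eq_one.mpr ⟨p, (Fact.out : p.Prime).pos, h1⟩
    rw [hfo.pow_eq_pow_iff_modEq, ho, he, orderOf_dvd_iff_pow_eq_one,
      ← ZMod.natCast_eq_natCast_iff]
    push_cast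
    rfl
  -- the representation
  let φm : Matrix (Fin n) (Fin n) F →* Matrix (Fin n) (Fin n) K :=
    ((algebraMap F K).mapMatrix : Matrix (Fin n) (Fin n) F →+* Matrix (Fin n) (Fin n) K)
  have hφm : Function.Injective φm := by
    intro A B hAB
    have : A.map (algebraMap F K) = B.map (algebraMap F K) := hAB
    exact Matrix.map_injective (algebraMap F K).injective this
  let ψ : Matrix (Fin n) (Fin n) K →* Module.End K (Fin n → K) :=
    ((Matrix.toLinAlgEquiv' : Matrix (Fin n) (Fin n) K ≃ₐ[K] _) :
      Matrix (Fin n) (Fin n) K →ₐ[K] Module.End K (Fin n → K))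
  have hψ : Function.Injective ψ := by
    intro A B hAB
    exact (Matrix.toLinAlgEquiv' : Matrix (Fin n) (Fin n) K ≃ₐ[K] _).injective hAB
  let ρ : Representation K P (Fin n → K) := ψ.comp (φm.comp f)
  have hinj : Function.Injective ρ := hψ.comp (hφm.comp hf)
  have hρ : ∀ g v, ρ g v = ((f g).map (algebraMap F K)).mulVec v := by
    intro g v
    rfl
  -- the Frobenius-semilinear map
  let φ : (Fin n → K) →ₛₗ[σ] (Fin n → K) :=
    { toFun := fun v i => σ (v i)
      map_add' := by intro v w; funext i; simp
      map_smul' := by intro c v; funext i; simp }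
  have hφ : Function.Injective φ := by
    intro v w h
    funext i
    exact σ.injective (congrFun h i)
  have hσF : ∀ a : F, σ (algebraMap F K a) = algebraMap F K a := by
    intro a
    rw [hσx, ← map_pow, ← hF, FiniteField.pow_card]
  have hcomm : ∀ g v, φ (ρ g v) = ρ g (φ v) := by
    intro g v
    rw [hρ, hρ]
    funext i
    show σ ((((f g).map (algebraMap F K)).mulVec v) i) = _
    simp only [Matrix.mulVec, dotProduct, Matrix.map_apply, map_sum, map_mul, hσF]
    rfl
  have hfin : finrank K (Fin n → K) = n := by simp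
  have hmain := (frob_main p hpK σ e he1 hσ hP n (Fin n → K) ρ φ hφ hcomm hfin).2 hen
  rw [(MonoidHom.ker_eq_bot_iff ρ).mpr hinj] at hmain
  exact le_bot_iff.mp hmain

end final

end Cfsg.Agent.Lib.Helper24_FrobLinear
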