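import Mathlib
import Cfsg.Agent.Lib.Helper34_G2InvDefs
import Cfsg.Agent.Lib.Helper34_G2InvBasic

/-!
# S2177 market (architect helper34): package L6 (second seat)

Right multiplication of a normal form `PW X s t c d e f` by `X 6 a`, via the derived relation
`r76 : X 7 t * X 6 a = X 6 a * X 7 t * X 8 (t a) * X 9 (t² a) * X 10 (t³ a)` (characteristic 2).
-/

set_option autoImplicit false
set_option linter.unusedSectionVars false
set_option linter.unusedVariables false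

namespace Cfsg.Agent.Lib.Helper85_G2I_L6

open Cfsg Cfsg.Lie Cfsg.Agent.Lib.Helper34_G2InvDefs Cfsg.Agent.Lib.Helper34_G2InvBasic

variable {F : Type*} [Field F] [CharP F 2] {Γ : Type*} [Group Γ] {X : ℕ → F → Γ}

/-- derived relation: `X 7 t * X 6 a = X 6 a * X 7 t * X 8 (t a) * X 9 (t² a) * X 10 (t³ a)` -/
theorem r76 (h : URel X) (t a : F) :
    X 7 t * X 6 a = X 6 a * X 7 t * X 8 (t * a) * X 9 (t ^ 2 * a) * X 10 (t ^ 3 * a) := by
  have e0 := h.r67 t a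
  -- X 6 a * X 7 t = X 7 t * X 6 a * W, W = X8 X9 X10 X11
  -- so X 7 t * X 6 a = X 6 a * X 7 t * W⁻¹, and W⁻¹ = X8 X9 X10 (char 2)
  have hW : X 8 (t * a) * X 9 (t ^ 2 * a) * X 10 (t ^ 3 * a) * X 11 (t ^ 3 * a ^ 2) *
      (X 8 (t * a) * X 9 (t ^ 2 * a) * X 10 (t ^ 3 * a)) = 1 := by
    have c1 : X 11 (t ^ 3 * a ^ 2) * X 8 (t * a) = X 8 (t * a) * X 11 (t ^ 3 * a ^ 2) :=
      (h.c811 _ _).symm
    have c2 : X 10 (t ^ 3 * a) * X 8 (t * a) = X 8 (t * a) * X 10 (t ^ 3 * a) :=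
      (h.c810 _ _).symm
    have c3 : X 9 (t ^ 2 * a) * X 8 (t * a) =
        X 8 (t * a) * X 9 (t ^ 2 * a) * X 11 (t * a * (t ^ 2 * a)) := h.r98 _ _
    have c4 : X 11 (t * a * (t ^ 2 * a)) * X 10 (t ^ 3 * a) =
        X 10 (t ^ 3 * a) * X 11 (t * a * (t ^ 2 * a)) := (h.c1011 _ _).symm
    have c5 : X 11 (t * a * (t ^ 2 * a)) * X 11 (t ^ 3 * a ^ 2) = 1 := by
      rw [X_add_mul h]
      have : t * a * (t ^ 2 * a) + t ^ 3 * a ^ 2 = 0 := by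
        have : t * a * (t ^ 2 * a) = t ^ 3 * a ^ 2 := by ring
        rw [this, CharTwo.add_self_eq_zero]
      rw [this, X_zero h]
    have c6 : X 11 (t * a * (t ^ 2 * a)) * X 9 (t ^ 2 * a) =
        X 9 (t ^ 2 * a) * X 11 (t * a * (t ^ 2 * a)) := (h.c911 _ _).symm
    have c7 : X 10 (t ^ 3 * a) * X 9 (t ^ 2 * a) = X 9 (t ^ 2 * a) * X 10 (t ^ 3 * a) :=
      (h.c910 _ _).symm
    calc X 8 (t * a) * X 9 (t ^ 2 * a) * X 10 (t ^ 3 * a) * X 11 (t ^ 3 * a ^ 2) *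
          (X 8 (t * a) * X 9 (t ^ 2 * a) * X 10 (t ^ 3 * a))
        = X 8 (t * a) * X 9 (t ^ 2 * a) * X 10 (t ^ 3 * a) * (X 11 (t ^ 3 * a ^ 2) *
          X 8 (t * a)) * X 9 (t ^ 2 * a) * X 10 (t ^ 3 * a) := by simp only [mul_assoc]
      _ = X 8 (t * a) * X 9 (t ^ 2 * a) * (X 10 (t ^ 3 * a) * X 8 (t * a)) *
          X 11 (t ^ 3 * a ^ 2) * X 9 (t ^ 2 * a) * X 10 (t ^ 3 * a) := by
          rw [c1]; simp only [mul_assoc]
      _ = X 8 (t * a) * (X 9 (t ^ 2 * a) * X 8 (t * a)) * X 10 (t ^ 3 * a) *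
          X 11 (t ^ 3 * a ^ 2) * X 9 (t ^ 2 * a) * X 10 (t ^ 3 * a) := by
          rw [c2]; simp only [mul_assoc]
      _ = (X 8 (t * a) * X 8 (t * a)) * X 9 (t ^ 2 * a) * (X 11 (t * a * (t ^ 2 * a)) *
          X 10 (t ^ 3 * a)) * X 11 (t ^ 3 * a ^ 2) * X 9 (t ^ 2 * a) * X 10 (t ^ 3 * a) := by
          rw [c3]; simp only [mul_assoc]
      _ = X 9 (t ^ 2 * a) * X 10 (t ^ 3 * a) * (X 11 (t * a * (t ^ 2 * a)) *
          X 11 (t ^ 3 * a ^ 2)) * X 9 (t ^ 2 * a) * X 10 (t ^ 3 * a) := by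
          rw [c4, X_mul_self h]; simp only [mul_assoc, one_mul]
      _ = X 9 (t ^ 2 * a) * (X 10 (t ^ 3 * a) * X 9 (t ^ 2 * a)) * X 10 (t ^ 3 * a) := by
          rw [c5]; simp only [mul_assoc, mul_one]
      _ = (X 9 (t ^ 2 * a) * X 9 (t ^ 2 * a)) * (X 10 (t ^ 3 * a) * X 10 (t ^ 3 * a)) := by
          rw [c7]; simp only [mul_assoc]
      _ = 1 := by rw [X_mul_self h, X_mul_self h, one_mul]
  -- from e0: X 6 a * X 7 t * (X8 X9 X10) = X 7 t * X 6 a * W * (X8 X9 X10) = X 7 t * X 6 a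
  calc X 7 t * X 6 a
      = X 7 t * X 6 a * (X 8 (t * a) * X 9 (t ^ 2 * a) * X 10 (t ^ 3 * a) * X 11 (t ^ 3 * a ^ 2) *
          (X 8 (t * a) * X 9 (t ^ 2 * a) * X 10 (t ^ 3 * a))) := by rw [hW, mul_one]
    _ = (X 7 t * X 6 a * X 8 (t * a) * X 9 (t ^ 2 * a) * X 10 (t ^ 3 * a) *
          X 11 (t ^ 3 * a ^ 2)) * (X 8 (t * a) * X 9 (t ^ 2 * a) * X 10 (t ^ 3 * a)) := by
        simp only [mul_assoc]
    _ = X 6 a * X 7 t * (X 8 (t * a) * X 9 (t ^ 2 * a) * X 10 (t ^ 3 * a)) := by rw [← e0]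
    _ = X 6 a * X 7 t * X 8 (t * a) * X 9 (t ^ 2 * a) * X 10 (t ^ 3 * a) := by
        simp only [mul_assoc]

/-- L6 (L).  Right multiplication of a normal form by `X 6 a`. -/
theorem L6 (h : URel X) (s t c d e f a : F) :
    PW X s t c d e f * X 6 a =
      PW X (s + a) t (c + t * a) (d + t ^ 2 * a) (e + t ^ 3 * a) (f + e * a + t ^ 2 * c * a) := by
  have e1 : X 11 f * X 6 a = X 6 a * X 11 f := (h.c611 a f).symm
  have e2 : X 10 e * X 6 a = X 6 a * X 10 e * X 11 (a * e) := h.r106 a e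
  have e3 : X 9 d * X 6 a = X 6 a * X 9 d := (h.c69 a d).symm
  have e4 : X 8 c * X 6 a = X 6 a * X 8 c := (h.c68 a c).symm
  have e5 : X 7 t * X 6 a = X 6 a * X 7 t * X 8 (t * a) * X 9 (t ^ 2 * a) * X 10 (t ^ 3 * a) :=
    r76 h t a
  have e6 : X 6 s * X 6 a = X 6 (s + a) := X_add_mul h 6 s a
  -- collect X8(ta) X9(t²a) X10(t³a) X8 c X9 d X10 e
  have e7 : X 10 (t ^ 3 * a) * X 8 c = X 8 c * X 10 (t ^ 3 * a) := (h.c810 _ _).symm
  have e8 : X 10 (t ^ 3 * a) * X 9 d = X 9 d * X 10 (t ^ 3 * a) := (h.c910 _ _).symm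
  have e9 : X 9 (t ^ 2 * a) * X 8 c = X 8 c * X 9 (t ^ 2 * a) * X 11 (c * (t ^ 2 * a)) :=
    h.r98 _ _
  have e10 : X 11 (c * (t ^ 2 * a)) * X 9 d = X 9 d * X 11 (c * (t ^ 2 * a)) := (h.c911 _ _).symm
  have e11 : X 11 (c * (t ^ 2 * a)) * X 10 (t ^ 3 * a) =
      X 10 (t ^ 3 * a) * X 11 (c * (t ^ 2 * a)) := (h.c1011 _ _).symm
  have e12 : X 11 (c * (t ^ 2 * a)) * X 10 e = X 10 e * X 11 (c * (t ^ 2 * a)) :=
    (h.c1011 _ _).symm
  unfold PW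
  calc X 6 s * X 7 t * X 8 c * X 9 d * X 10 e * X 11 f * X 6 a
      = X 6 s * X 7 t * X 8 c * X 9 d * X 10 e * (X 11 f * X 6 a) := by simp only [mul_assoc]
    _ = X 6 s * X 7 t * X 8 c * X 9 d * (X 10 e * X 6 a) * X 11 f := by
        rw [e1]; simp only [mul_assoc]
    _ = X 6 s * X 7 t * X 8 c * (X 9 d * X 6 a) * X 10 e * X 11 (a * e) * X 11 f := by
        rw [e2]; simp only [mul_assoc]
    _ = X 6 s * X 7 t * (X 8 c * X 6 a) * X 9 d * X 10 e * X 11 (a * e) * X 11 f := by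
        rw [e3]; simp only [mul_assoc]
    _ = X 6 s * (X 7 t * X 6 a) * X 8 c * X 9 d * X 10 e * X 11 (a * e) * X 11 f := by
        rw [e4]; simp only [mul_assoc]
    _ = (X 6 s * X 6 a) * X 7 t * X 8 (t * a) * X 9 (t ^ 2 * a) * (X 10 (t ^ 3 * a) * X 8 c) *
          X 9 d * X 10 e * X 11 (a * e) * X 11 f := by
        rw [e5]; simp only [mul_assoc]
    _ = X 6 (s + a) * X 7 t * X 8 (t * a) * (X 9 (t ^ 2 * a) * X 8 c) * (X 10 (t ^ 3 * a) *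
          X 9 d) * X 10 e * X 11 (a * e) * X 11 f := by
        rw [e6, e7]; simp only [mul_assoc]
    _ = X 6 (s + a) * X 7 t * (X 8 (t * a) * X 8 c) * X 9 (t ^ 2 * a) *
          (X 11 (c * (t ^ 2 * a)) * X 9 d) * X 10 (t ^ 3 * a) * X 10 e * X 11 (a * e) *
          X 11 f := by
        rw [e9, e8]; simp only [mul_assoc]
    _ = X 6 (s + a) * X 7 t * X 8 (t * a + c) * (X 9 (t ^ 2 * a) * X 9 d) *
          (X 11 (c * (t ^ 2 * a)) * X 10 (t ^ 3 * a)) * X 10 e * X 11 (a * e) * X 11 f := by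
        rw [X_add_mul h, e10]; simp only [mul_assoc]
    _ = X 6 (s + a) * X 7 t * X 8 (t * a + c) * X 9 (t ^ 2 * a + d) * X 10 (t ^ 3 * a) *
          (X 11 (c * (t ^ 2 * a)) * X 10 e) * X 11 (a * e) * X 11 f := by
        rw [X_add_mul h, e11]; simp only [mul_assoc]
    _ = X 6 (s + a) * X 7 t * X 8 (t * a + c) * X 9 (t ^ 2 * a + d) * (X 10 (t ^ 3 * a) *
          X 10 e) * (X 11 (c * (t ^ 2 * a)) * X 11 (a * e) * X 11 f) := by
        rw [e12]; simp only [mul_assoc]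
    _ = X 6 (s + a) * X 7 t * X 8 (c + t * a) * X 9 (d + t ^ 2 * a) * X 10 (e + t ^ 3 * a) *
          X 11 (f + e * a + t ^ 2 * c * a) := by
        rw [X_add_mul h, X_add_mul h, X_add_mul h]
        have h1 : t * a + c = c + t * a := by ring
        have h2 : t ^ 2 * a + d = d + t ^ 2 * a := by ring
        have h3 : t ^ 3 * a + e = e + t ^ 3 * a := by ring
        have h4 : c * (t ^ 2 * a) + a * e + f = f + e * a + t ^ 2 * c * a := by ring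
        rw [h1, h2, h3, h4]

end Cfsg.Agent.Lib.Helper85_G2I_L6
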