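import Mathlib
import Cfsg.Agent.Lib.Helper34_G2InvDefs
import Cfsg.Agent.Lib.Helper34_G2InvBasic

/-!
# S2177 market (architect helper34): package L8

Right multiplication of a normal form `PW X s t c d e f` by `X 8 a`.
-/

set_option autoImplicit false
set_option linter.unusedSectionVars false
set_option linter.unusedVariables false

namespace Cfsg.Agent.Lib.Helper85_G2I_L8

open Cfsg Cfsg.Lie Cfsg.Agent.Lib.Helper34_G2InvDefs Cfsg.Agent.Lib.Helper34_G2InvBasic

variable {F : Type*} [Field F] [CharP F 2] {Γ : Type*} [Group Γ] {X : ℕ → F → Γ}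

/-- L8 (S).  Right multiplication of a normal form by `X 8 a`. -/
theorem L8 (h : URel X) (s t c d e f a : F) :
    PW X s t c d e f * X 8 a = PW X s t (c + a) d e (f + d * a) := by
  have e1 : X 11 f * X 8 a = X 8 a * X 11 f := (h.c811 a f).symm
  have e2 : X 10 e * X 8 a = X 8 a * X 10 e := (h.c810 a e).symm
  have e3 : X 9 d * X 8 a = X 8 a * X 9 d * X 11 (a * d) := h.r98 a d
  have e4 : X 11 (a * d) * X 10 e = X 10 e * X 11 (a * d) := (h.c1011 e (a * d)).symm
  have e5 : X 8 c * X 8 a = X 8 (c + a) := X_add_mul h 8 c a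
  have e6 : X 11 (a * d) * X 11 f = X 11 (f + d * a) := by
    rw [X_add_mul h, add_comm, mul_comm]
  unfold PW
  calc X 6 s * X 7 t * X 8 c * X 9 d * X 10 e * X 11 f * X 8 a
      = X 6 s * X 7 t * X 8 c * X 9 d * X 10 e * (X 11 f * X 8 a) := by simp only [mul_assoc]
    _ = X 6 s * X 7 t * X 8 c * X 9 d * (X 10 e * X 8 a) * X 11 f := by
        rw [e1]; simp only [mul_assoc]
    _ = X 6 s * X 7 t * X 8 c * (X 9 d * X 8 a) * X 10 e * X 11 f := by
        rw [e2]; simp only [mul_assoc]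
    _ = X 6 s * X 7 t * (X 8 c * X 8 a) * X 9 d * (X 11 (a * d) * X 10 e) * X 11 f := by
        rw [e3]; simp only [mul_assoc]
    _ = X 6 s * X 7 t * X 8 (c + a) * X 9 d * X 10 e * (X 11 (a * d) * X 11 f) := by
        rw [e4, e5]; simp only [mul_assoc]
    _ = X 6 s * X 7 t * X 8 (c + a) * X 9 d * X 10 e * X 11 (f + d * a) := by
        rw [e6]

end Cfsg.Agent.Lib.Helper85_G2I_L8
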