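import Mathlib
import Cfsg.Agent.Lib.Helper34_G2InvDefs
import Cfsg.Agent.Lib.Helper34_G2InvBasic

/-!
# S2177 market (architect helper34), package L7 (helper95)

Right multiplication of a normal form by `X 7 a`.
-/

set_option autoImplicit false

namespace Cfsg.Agent.Lib.Helper95_G2I_L7

open Cfsg Cfsg.Lie Cfsg.Agent.Lib.Helper34_G2InvDefs Cfsg.Agent.Lib.Helper34_G2InvBasic

variable {F : Type*} [Field F] [CharP F 2] {Γ : Type*} [Group Γ] {X : ℕ → F → Γ}

/-- L7 (M).  Right multiplication of a normal form by `X 7 a`. -/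
theorem L7 (h : URel X) (s t c d e f a : F) :
    PW X s t c d e f * X 7 a =
      PW X s (t + a) c d (e + d * a + c * a ^ 2) (f + c ^ 2 * a) := by
  have e1 : X 11 f * X 7 a = X 7 a * X 11 f := (h.c711 a f).symm
  have e2 : X 10 e * X 7 a = X 7 a * X 10 e := (h.c710 a e).symm
  have e3 : X 9 d * X 7 a = X 7 a * X 9 d * X 10 (a * d) := h.r97 a d
  have e4 : X 8 c * X 7 a = X 7 a * X 8 c * X 10 (a ^ 2 * c) * X 11 (a * c ^ 2) := h.r87 a c
  have hp : PW X s (t + a) c 0 0 0 = X 6 s * (X 7 t * X 7 a) * X 8 c := by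
    unfold PW
    rw [X_zero h, X_zero h, X_zero h, mul_one, mul_one, mul_one, h.add 7 t a]
  calc PW X s t c d e f * X 7 a
      = X 6 s * X 7 t * X 8 c * X 9 d * X 10 e * (X 11 f * X 7 a) := by
        unfold PW; simp only [mul_assoc]
    _ = X 6 s * X 7 t * X 8 c * X 9 d * (X 10 e * X 7 a) * X 11 f := by
        rw [e1]; simp only [mul_assoc]
    _ = X 6 s * X 7 t * X 8 c * (X 9 d * X 7 a) * X 10 e * X 11 f := by
        rw [e2]; simp only [mul_assoc]
    _ = X 6 s * X 7 t * (X 8 c * X 7 a) * X 9 d * X 10 (a * d) * X 10 e * X 11 f := by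
        rw [e3]; simp only [mul_assoc]
    _ = X 6 s * (X 7 t * X 7 a) * X 8 c * X 10 (a ^ 2 * c) * X 11 (a * c ^ 2) * X 9 d *
          X 10 (a * d) * X 10 e * X 11 f := by
        rw [e4]; simp only [mul_assoc]
    _ = PW X s (t + a) c 0 0 0 * X 10 (a ^ 2 * c) * X 11 (a * c ^ 2) * X 9 d *
          X 10 (a * d) * X 10 e * X 11 f := by rw [hp]
    _ = PW X s (t + a) c d (e + d * a + c * a ^ 2) (f + c ^ 2 * a) := by
        rw [PW_mul_10 h, PW_mul_11 h, PW_mul_9 h, PW_mul_10 h, PW_mul_10 h, PW_mul_11 h]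
        congr 1 <;> ring

end Cfsg.Agent.Lib.Helper95_G2I_L7
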