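import Mathlib
import Cfsg.Agent.Lib.Helper34_G2InvDefs
import Cfsg.Agent.Lib.Helper34_G2InvBasic
import Cfsg.Agent.Lib.Helper85_G2I_L8
import Cfsg.Agent.Lib.Helper85_G2I_L6
import Cfsg.Agent.Lib.Helper95_G2I_L7

/-!
# S2177 market (architect helper34): package MUL

The multiplication formula for normal forms `PW X s t c d e f`, from the right-multiplication
formulas L6, L7, L8 and `PW_mul_9/10/11`.  `MUL_aux` takes the statements of L6 and L7 as hypotheses;
`MUL` is the verbatim package statement (L6 = Helper85_G2I_L6, L7 = Helper95_G2I_L7).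
-/

set_option autoImplicit false
set_option linter.unusedSectionVars false
set_option linter.unusedVariables false

namespace Cfsg.Agent.Lib.Helper85_G2I_MUL

open Cfsg Cfsg.Lie Cfsg.Agent.Lib.Helper34_G2InvDefs Cfsg.Agent.Lib.Helper34_G2InvBasic

variable {F : Type*} [Field F] [CharP F 2] {Γ : Type*} [Group Γ] {X : ℕ → F → Γ}

/-- The multiplication formula, with the statements of L6 and L7 as hypotheses. -/
theorem MUL_aux
    (hL6 : ∀ (s t c d e f a : F), PW X s t c d e f * X 6 a =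
      PW X (s + a) t (c + t * a) (d + t ^ 2 * a) (e + t ^ 3 * a) (f + e * a + t ^ 2 * c * a))
    (hL7 : ∀ (s t c d e f a : F), PW X s t c d e f * X 7 a =
      PW X s (t + a) c d (e + d * a + c * a ^ 2) (f + c ^ 2 * a))
    (h : URel X) (s t c d e f s' t' c' d' e' f' : F) :
    PW X s t c d e f * PW X s' t' c' d' e' f' =
      PW X (s + s') (t + t') (c + c' + t * s') (d + d' + t ^ 2 * s')
        (e + e' + d * t' + c * t' ^ 2 + t * s' * t' ^ 2 + t ^ 2 * s' * t' + t ^ 3 * s')
        (f + f' + e * s' + d * c' + c ^ 2 * t' + t ^ 2 * s' * c' + t ^ 2 * c * s'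
          + t ^ 2 * s' ^ 2 * t') := by
  have h2 : (2 : F) = 0 := CharTwo.two_eq_zero
  have key : PW X s t c d e f * PW X s' t' c' d' e' f' =
      PW X s t c d e f * X 6 s' * X 7 t' * X 8 c' * X 9 d' * X 10 e' * X 11 f' := by
    conv_lhs => rw [show PW X s' t' c' d' e' f' =
      X 6 s' * X 7 t' * X 8 c' * X 9 d' * X 10 e' * X 11 f' from rfl]
    simp only [mul_assoc]
  rw [key, hL6, hL7, Cfsg.Agent.Lib.Helper85_G2I_L8.L8 h, PW_mul_9 h, PW_mul_10 h, PW_mul_11 h]
  have ec : c + t * s' + c' = c + c' + t * s' := by ring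
  have ed : d + t ^ 2 * s' + d' = d + d' + t ^ 2 * s' := by ring
  have ee : e + t ^ 3 * s' + (d + t ^ 2 * s') * t' + (c + t * s') * t' ^ 2 + e' =
      e + e' + d * t' + c * t' ^ 2 + t * s' * t' ^ 2 + t ^ 2 * s' * t' + t ^ 3 * s' := by ring
  have ef : f + e * s' + t ^ 2 * c * s' + (c + t * s') ^ 2 * t' + (d + t ^ 2 * s') * c' + f' =
      f + f' + e * s' + d * c' + c ^ 2 * t' + t ^ 2 * s' * c' + t ^ 2 * c * s'
          + t ^ 2 * s' ^ 2 * t' := by
    linear_combination (c * t * s' * t') * h2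
  rw [ec, ed, ee, ef]

/-- MUL (S; deps L6 L7 L8 + Basic).  The multiplication formula. -/
theorem MUL (h : URel X) (s t c d e f s' t' c' d' e' f' : F) :
    PW X s t c d e f * PW X s' t' c' d' e' f' =
      PW X (s + s') (t + t') (c + c' + t * s') (d + d' + t ^ 2 * s')
        (e + e' + d * t' + c * t' ^ 2 + t * s' * t' ^ 2 + t ^ 2 * s' * t' + t ^ 3 * s')
        (f + f' + e * s' + d * c' + c ^ 2 * t' + t ^ 2 * s' * c' + t ^ 2 * c * s'
          + t ^ 2 * s' ^ 2 * t') :=
  MUL_aux (Cfsg.Agent.Lib.Helper85_G2I_L6.L6 h) (Cfsg.Agent.Lib.Helper95_G2I_L7.L7 h) h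
    s t c d e f s' t' c' d' e' f'

end Cfsg.Agent.Lib.Helper85_G2I_MUL
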