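import Mathlib
import Cfsg.Agent.Lib.Helper34_G2InvDefs
import Cfsg.Agent.Lib.Helper34_G2InvBasic
import Cfsg.Agent.Lib.Helper85_G2I_MUL

/-!
# S2177 market (helper34), package CJ: conjugation of a normal form by a root element (helper24).
`CJ_aux` = core with the multiplication formula MUL as a hypothesis; `CJ` = verbatim statement.
-/

set_option autoImplicit false

namespace Cfsg.Agent.Lib.Helper24_G2I_CJ

open Cfsg Cfsg.Lie Cfsg.Agent.Lib.Helper34_G2InvDefs Cfsg.Agent.Lib.Helper34_G2InvBasic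

variable {F : Type*} [Field F] [CharP F 2] {Γ : Type*} [Group Γ] {X : ℕ → F → Γ}

omit [CharP F 2] [Field F] in
theorem PW_congr {s t c d e f s' t' c' d' e' f' : F} (h1 : s = s') (h2 : t = t') (h3 : c = c')
    (h4 : d = d') (h5 : e = e') (h6 : f = f') :
    PW X s t c d e f = PW X s' t' c' d' e' f' := by
  subst h1 h2 h3 h4 h5 h6
  rfl

/-- CJ with the multiplication formula as a hypothesis. -/
theorem CJ_aux (h : URel X)
    (hMUL : ∀ s t c d e f s' t' c' d' e' f' : F,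
      PW X s t c d e f * PW X s' t' c' d' e' f' =
        PW X (s + s') (t + t') (c + c' + t * s') (d + d' + t ^ 2 * s')
          (e + e' + d * t' + c * t' ^ 2 + t * s' * t' ^ 2 + t ^ 2 * s' * t' + t ^ 3 * s')
          (f + f' + e * s' + d * c' + c ^ 2 * t' + t ^ 2 * s' * c' + t ^ 2 * c * s'
            + t ^ 2 * s' ^ 2 * t'))
    (s t c d e f y : F) :
    (X 6 y * PW X s t c d e f * (X 6 y)⁻¹ =
      PW X s t (c + t * y) (d + t ^ 2 * y) (e + t ^ 3 * y) (f + e * y + t ^ 2 * c * y)) ∧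
    (X 7 y * PW X s t c d e f * (X 7 y)⁻¹ =
      PW X s t (c + s * y) (d + s * y ^ 2)
        (e + d * y + c * y ^ 2 + s * y ^ 3 + s * t * y ^ 2 + s * t ^ 2 * y)
        (f + c ^ 2 * y + s * c * y ^ 2 + s ^ 2 * y ^ 3 + s ^ 2 * t * y ^ 2)) ∧
    (X 8 y * PW X s t c d e f * (X 8 y)⁻¹ =
      PW X s t c d (e + t ^ 2 * y) (f + d * y + t * y ^ 2)) ∧
    (X 9 y * PW X s t c d e f * (X 9 y)⁻¹ = PW X s t c d (e + t * y) (f + c * y)) ∧
    (X 10 y * PW X s t c d e f * (X 10 y)⁻¹ = PW X s t c d e (f + s * y)) := by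
  have h2 : (2 : F) = 0 := CharTwo.two_eq_zero
  refine ⟨?_, ?_, ?_, ?_, ?_⟩
  · rw [X_inv h, ← PW_6 h y, hMUL, hMUL]
    refine PW_congr ?_ ?_ ?_ ?_ ?_ ?_
    · linear_combination y * h2
    · ring
    · ring
    · ring
    · ring
    · ring
  · rw [X_inv h, ← PW_7 h y, hMUL, hMUL]
    refine PW_congr ?_ ?_ ?_ ?_ ?_ ?_
    · ring
    · linear_combination y * h2
    · ring
    · ring
    · linear_combination (s * y ^ 3) * h2
    · linear_combination (c * s * y ^ 2) * h2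
  · rw [X_inv h, ← PW_8 h y, hMUL, hMUL]
    refine PW_congr ?_ ?_ ?_ ?_ ?_ ?_
    · ring
    · ring
    · linear_combination y * h2
    · ring
    · ring
    · ring
  · rw [X_inv h, ← PW_9 h y, hMUL, hMUL]
    refine PW_congr ?_ ?_ ?_ ?_ ?_ ?_
    · ring
    · ring
    · ring
    · linear_combination y * h2
    · ring
    · ring
  · rw [X_inv h, ← PW_10 h y, hMUL, hMUL]
    refine PW_congr ?_ ?_ ?_ ?_ ?_ ?_
    · ring
    · ring
    · ring
    · ring
    · linear_combination y * h2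
    · ring

/-- CJ (M; dep MUL).  Conjugation of a normal form by a root element `X r y`, `r = 6, …, 10`. -/
theorem CJ (h : URel X) (s t c d e f y : F) :
    (X 6 y * PW X s t c d e f * (X 6 y)⁻¹ =
      PW X s t (c + t * y) (d + t ^ 2 * y) (e + t ^ 3 * y) (f + e * y + t ^ 2 * c * y)) ∧
    (X 7 y * PW X s t c d e f * (X 7 y)⁻¹ =
      PW X s t (c + s * y) (d + s * y ^ 2)
        (e + d * y + c * y ^ 2 + s * y ^ 3 + s * t * y ^ 2 + s * t ^ 2 * y)
        (f + c ^ 2 * y + s * c * y ^ 2 + s ^ 2 * y ^ 3 + s ^ 2 * t * y ^ 2)) ∧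
    (X 8 y * PW X s t c d e f * (X 8 y)⁻¹ =
      PW X s t c d (e + t ^ 2 * y) (f + d * y + t * y ^ 2)) ∧
    (X 9 y * PW X s t c d e f * (X 9 y)⁻¹ = PW X s t c d (e + t * y) (f + c * y)) ∧
    (X 10 y * PW X s t c d e f * (X 10 y)⁻¹ = PW X s t c d e (f + s * y)) :=
  CJ_aux h (Cfsg.Agent.Lib.Helper85_G2I_MUL.MUL h) s t c d e f y

end Cfsg.Agent.Lib.Helper24_G2I_CJ
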