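import Mathlib
import Cfsg.Agent.Lib.Helper34_G2InvDefs
import Cfsg.Agent.Lib.Helper34_G2InvBasic
import Cfsg.Agent.Lib.Helper24_G2I_CJ

/-!
# S2177 market (helper34), package REDB: the case `s = 0`, `t ≠ 0` of the reduction — (helper24).
`REDB_aux` = core with the conjugation formulas CJ as a hypothesis; `REDB` = verbatim statement.
-/

set_option autoImplicit false

namespace Cfsg.Agent.Lib.Helper24_G2I_REDB

open Cfsg Cfsg.Lie Cfsg.Agent.Lib.Helper34_G2InvDefs Cfsg.Agent.Lib.Helper34_G2InvBasic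

variable {F : Type*} [Field F] [CharP F 2] {Γ : Type*} [Group Γ] {X : ℕ → F → Γ}

omit [CharP F 2] [Field F] in
theorem PW_congr' {s t c d e f s' t' c' d' e' f' : F} (h1 : s = s') (h2 : t = t') (h3 : c = c')
    (h4 : d = d') (h5 : e = e') (h6 : f = f') :
    PW X s t c d e f = PW X s' t' c' d' e' f' := by
  subst h1 h2 h3 h4 h5 h6
  rfl

variable {na nb : Γ} {K : Subgroup Γ}

/-- REDB with the conjugation formulas CJ as a hypothesis. -/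
theorem REDB_aux
    (hCJ : ∀ s t c d e f y : F,
      (X 6 y * PW X s t c d e f * (X 6 y)⁻¹ =
        PW X s t (c + t * y) (d + t ^ 2 * y) (e + t ^ 3 * y) (f + e * y + t ^ 2 * c * y)) ∧
      (X 7 y * PW X s t c d e f * (X 7 y)⁻¹ =
        PW X s t (c + s * y) (d + s * y ^ 2)
          (e + d * y + c * y ^ 2 + s * y ^ 3 + s * t * y ^ 2 + s * t ^ 2 * y)
          (f + c ^ 2 * y + s * c * y ^ 2 + s ^ 2 * y ^ 3 + s ^ 2 * t * y ^ 2)) ∧
      (X 8 y * PW X s t c d e f * (X 8 y)⁻¹ =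
        PW X s t c d (e + t ^ 2 * y) (f + d * y + t * y ^ 2)) ∧
      (X 9 y * PW X s t c d e f * (X 9 y)⁻¹ = PW X s t c d (e + t * y) (f + c * y)) ∧
      (X 10 y * PW X s t c d e f * (X 10 y)⁻¹ = PW X s t c d e (f + s * y)))
    (hsq : ∀ x : F, ∃ y, y * y = x) (h : URel X) (hw : WRel X na nb)
    (hX : ∀ r t, X r t ∈ K) (hna : na ∈ K) (hnb : nb ∈ K)
    (hs9 : ∀ t : F, t ≠ 0 → ConjIn K (X 9 t) (X 9 1))
    (t c e f : F) (ht : t ≠ 0) :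
    ConjIn K (PW X 0 t c (c * t) e f) (X 9 1) := by
  have h2 : (2 : F) = 0 := CharTwo.two_eq_zero
  -- step 1: conjugation by `X 6 y1`, `t * y1 = c`
  obtain ⟨y1, hy1⟩ : ∃ y1 : F, t * y1 = c := ⟨c / t, by field_simp⟩
  have s1 : ConjIn K (PW X 0 t c (c * t) e f)
      (PW X 0 t 0 0 (e + t ^ 3 * y1) (f + e * y1 + t ^ 2 * c * y1)) := by
    refine ⟨X 6 y1, hX _ _, ?_⟩
    rw [(hCJ 0 t c (c * t) e f y1).1]
    refine PW_congr' rfl rfl ?_ ?_ rfl rfl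
    · linear_combination hy1 + c * h2
    · linear_combination t * hy1 + (c * t) * h2
  -- step 2: conjugation by `X 8 y2`, `t * (y2 * y2) = f1`
  obtain ⟨z, hz⟩ : ∃ z : F, t * z = f + e * y1 + t ^ 2 * c * y1 :=
    ⟨(f + e * y1 + t ^ 2 * c * y1) / t, by field_simp⟩
  obtain ⟨y2, hy2⟩ := hsq z
  have s2 : ConjIn K (PW X 0 t 0 0 (e + t ^ 3 * y1) (f + e * y1 + t ^ 2 * c * y1))
      (PW X 0 t 0 0 (e + t ^ 3 * y1 + t ^ 2 * y2) 0) := by
    refine ⟨X 8 y2, hX _ _, ?_⟩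
    rw [(hCJ 0 t 0 0 (e + t ^ 3 * y1) (f + e * y1 + t ^ 2 * c * y1) y2).2.2.1]
    refine PW_congr' rfl rfl rfl rfl rfl ?_
    linear_combination t * hy2 + hz + (f + e * y1 + t ^ 2 * c * y1) * h2
  -- step 3: conjugation by `X 9 y3`, `t * y3 = e2`
  obtain ⟨y3, hy3⟩ : ∃ y3 : F, t * y3 = e + t ^ 3 * y1 + t ^ 2 * y2 :=
    ⟨(e + t ^ 3 * y1 + t ^ 2 * y2) / t, by field_simp⟩
  have s3 : ConjIn K (PW X 0 t 0 0 (e + t ^ 3 * y1 + t ^ 2 * y2) 0) (X 7 t) := by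
    refine ⟨X 9 y3, hX _ _, ?_⟩
    rw [(hCJ 0 t 0 0 (e + t ^ 3 * y1 + t ^ 2 * y2) 0 y3).2.2.2.1, ← PW_7 h t]
    refine PW_congr' rfl rfl rfl rfl ?_ ?_
    · linear_combination hy3 + (e + t ^ 3 * y1 + t ^ 2 * y2) * h2
    · ring
  -- step 4: the Weyl elements
  have s4 : ConjIn K (X 7 t) (X 8 t) := ⟨nb, hnb, by rw [hw.b7, mul_inv_cancel_right]⟩
  have s5 : ConjIn K (X 8 t) (X 9 t) := ⟨na, hna, by rw [hw.a8, mul_inv_cancel_right]⟩
  exact s1.trans (s2.trans (s3.trans (s4.trans (s5.trans (hs9 t ht)))))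

/-- REDB (M; dep CJ).  Case `s = 0`, `t ≠ 0`. -/
theorem REDB (hsq : ∀ x : F, ∃ y, y * y = x) (h : URel X) (hw : WRel X na nb)
    (hX : ∀ r t, X r t ∈ K) (hna : na ∈ K) (hnb : nb ∈ K)
    (hs9 : ∀ t : F, t ≠ 0 → ConjIn K (X 9 t) (X 9 1))
    (t c e f : F) (ht : t ≠ 0) :
    ConjIn K (PW X 0 t c (c * t) e f) (X 9 1) :=
  REDB_aux (Cfsg.Agent.Lib.Helper24_G2I_CJ.CJ h) hsq h hw hX hna hnb hs9 t c e f ht

end Cfsg.Agent.Lib.Helper24_G2I_REDB
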