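import Mathlib
import Cfsg.Agent.Lib.Helper32_OFDefs
import Cfsg.Agent.Lib.Helper32_OFRoot
import Cfsg.Agent.Lib.Helper94_OrthNondeg

set_option autoImplicit false
set_option linter.unusedSimpArgs false
set_option linter.unusedVariables false
set_option linter.unusedSectionVars false

/-!
Vocabulary for GROW (rows S5679, S5696, case (A)): a group `L` of isometries of a space with an
orthogonal frame `e` over a field of prime order, containing the single sign changes and the
3-cycles of the frame and ONE nontrivial Siegel element, contains all Siegel elements.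

* `GCtx Q B c e L` : the standing hypotheses;
* `SgOn Q B L A`   : all Siegel elements `sieg Q B u z` with `u, z ∈ A` lie in `L`;
* `VS B e S`       : the coordinate subspace `{y | B y (e i) = 0 for all i ∉ S}`;
* `weyl Q B u u1 z t` : the product `x(t) y(s) x(t)` of three Siegel elements swapping the singular
  lines of `u` and `u1`.
-/

namespace Cfsg.Agent.Lib.Helper80_GrowDefs

open Module Cfsg.Agent.Lib.Helper94_Symp Cfsg.Agent.Lib.Helper94_OrthSmall
  Cfsg.Agent.Lib.Helper94_OrthSiegel Cfsg.Agent.Lib.Helper94_OrthNondeg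
  Cfsg.Agent.Lib.Helper32_OFDefs

variable {F V : Type*} [Field F] [AddCommGroup V] [Module F V]

/-- the standing hypotheses of GROW -/
structure GCtx (Q : V → F) (B : LinearMap.BilinForm F V) {ι : Type*} [Fintype ι] [DecidableEq ι]
    (c : F) (e : ι → V) (L : Subgroup (V ≃ₗ[F] V)) : Prop where
  fr : OFr Q B c e
  hLO : L ≤ oG Q
  hz : ∀ i, zJ B c e {i} ∈ L
  h3 : ∀ a b d : ι, a ≠ b → a ≠ d → b ≠ d → ∃ τ ∈ L, τ (e a) = e b ∧ τ (e b) = e d ∧
    τ (e d) = e a ∧ ∀ i, i ≠ a → i ≠ b → i ≠ d → τ (e i) = e i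
  hp : (Nat.card F).Prime

/-- all Siegel elements with both parameters in the submodule `A` lie in `L` -/
def SgOn (Q : V → F) (B : LinearMap.BilinForm F V) (L : Subgroup (V ≃ₗ[F] V))
    (A : Submodule F V) : Prop :=
  ∀ u ∈ A, ∀ z ∈ A, Q u = 0 → B u z = 0 → sieg Q B u z ∈ L

/-- the coordinate subspace of the index set `S` -/
def VS (B : LinearMap.BilinForm F V) {ι : Type*} (e : ι → V) (S : Finset ι) : Submodule F V where
  carrier := {y | ∀ i, i ∉ S → B y (e i) = 0}
  add_mem' := by
    intro a b ha hb i hi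
    rw [map_add, LinearMap.add_apply, ha i hi, hb i hi, add_zero]
  zero_mem' := by
    intro i _
    simp
  smul_mem' := by
    intro t a ha i hi
    rw [map_smul, LinearMap.smul_apply, ha i hi, smul_zero]

lemma mem_VS {B : LinearMap.BilinForm F V} {ι : Type*} {e : ι → V} {S : Finset ι} {y : V} :
    y ∈ VS B e S ↔ ∀ i, i ∉ S → B y (e i) = 0 := Iff.rfl

/-- the Weyl element `x(t) y(s) x(t)`, `s = (B u u1 * Q z * t)⁻¹` -/
noncomputable def weyl (Q : V → F) (B : LinearMap.BilinForm F V) (u u1 z : V) (t : F) :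
    V ≃ₗ[F] V :=
  sieg Q B u (t • z) * sieg Q B u1 ((B u u1 * Q z * t)⁻¹ • z) * sieg Q B u (t • z)

lemma weyl_mem {Q : V → F} {B : LinearMap.BilinForm F V} {L : Subgroup (V ≃ₗ[F] V)}
    {u u1 z : V} (h : InZ Q B L u z) (h1 : InZ Q B L u1 z) (t : F) : weyl Q B u u1 z t ∈ L :=
  L.mul_mem (L.mul_mem (h.2 t) (h1.2 _)) (h.2 t)

end Cfsg.Agent.Lib.Helper80_GrowDefs
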