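import Mathlib
import Cfsg.Agent.Lib.Helper32_OFDefs
import Cfsg.Agent.Lib.Helper32_OFRoot
import Cfsg.Agent.Lib.Helper31_OF_API
import Cfsg.Agent.Lib.Helper94_OrthVec
import Cfsg.Agent.Lib.Helper94_OrthNondeg
import Cfsg.Agent.Lib.Helper80_GrowDefs

set_option autoImplicit false
set_option linter.unusedSimpArgs false
set_option linter.unusedVariables false
set_option linter.unusedSectionVars false

/-!
# GROW market (architect helper80), package GROW-SGV, hypothesis-parametrised form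

`sgOn_of_full_aux`: the statement of `sgOn_of_full` with the statement of GROW-RAP (`rel_all_of_pair`, for the
group `L` and the submodule `VS B e S`) as a hypothesis.
-/

namespace Cfsg.Agent.Lib.Helper24_GROW_SGVaux

open Module Cfsg.Agent.Lib.Helper94_Symp Cfsg.Agent.Lib.Helper94_OrthSmall
  Cfsg.Agent.Lib.Helper94_OrthSiegel Cfsg.Agent.Lib.Helper94_OrthSiegel2
  Cfsg.Agent.Lib.Helper94_OrthNondeg Cfsg.Agent.Lib.Helper94_OrthVec
  Cfsg.Agent.Lib.Helper32_OFDefs Cfsg.Agent.Lib.Helper32_OFRoot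
  Cfsg.Agent.Lib.Helper80_GrowDefs

variable {F V : Type*} [Field F] [AddCommGroup V] [Module F V]
variable {Q : V → F} {B : LinearMap.BilinForm F V}
variable {ι : Type*} [Fintype ι] [DecidableEq ι] {c : F} {e : ι → V}
variable {L : Subgroup (V ≃ₗ[F] V)}

/-- the frame vectors of `S` lie in `VS B e S` -/
theorem e_mem_VS (fr : OFr Q B c e) {S : Finset ι} {i : ι} (hi : i ∈ S) : e i ∈ VS B e S := by
  intro j hj
  have hij : i ≠ j := fun h => hj (h ▸ hi)
  exact fr.orth i j hij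

/-- `VS B e S` is nondegenerate -/
theorem VS_nondeg (fr : OFr Q B c e) (S : Finset ι) :
    ∀ a ∈ VS B e S, a ≠ 0 → ∃ x ∈ VS B e S, B x a ≠ 0 := by
  intro a ha ha0
  by_contra hcon
  push Not at hcon
  apply ha0
  apply fr.ext
  intro i
  rw [map_zero, LinearMap.zero_apply]
  by_cases hi : i ∈ S
  · have := hcon (e i) (e_mem_VS fr hi)
    rw [fr.symm] at this
    exact this
  · exact ha i hi

/-- the sign change `ε_i` (`i ∈ S`) maps `VS B e S` to itself -/
theorem zJ_mem_VS (fr : OFr Q B c e) {S : Finset ι} (i : ι) {y : V} (hy : y ∈ VS B e S) :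
    zJ B c e {i} y ∈ VS B e S := by
  intro j hj
  rw [fr.B_zJ]
  split_ifs
  · rw [hy j hj, neg_zero]
  · exact hy j hj

/-- GROW-SGV from GROW-RAP. -/
theorem sgOn_of_full_aux
    (hRAP : ∀ (A : Submodule F V), (∀ a ∈ A, a ≠ 0 → ∃ x ∈ A, B x a ≠ 0) → ∀ {w1 w2 : V},
      w1 ∈ A → w2 ∈ A → (Q w1 = 0 ∧ ∀ z ∈ A, B w1 z = 0 → sieg Q B w1 z ∈ L) →
      (Q w2 = 0 ∧ ∀ z ∈ A, B w2 z = 0 → sieg Q B w2 z ∈ L) → B w1 w2 ≠ 0 → SgOn Q B L A)
    (hC : GCtx Q B c e L) {u : V} (hu : Q u = 0) (hu0 : u ≠ 0) (S : Finset ι)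
    (hJ : ∀ i, B u (e i) ≠ 0 → i ∈ S)
    (h : ∀ y ∈ VS B e S, B u y = 0 → sieg Q B u y ∈ L) : SgOn Q B L (VS B e S) := by
  have fr := hC.fr
  -- a coordinate of `u` which does not vanish
  have hex : ∃ i, B u (e i) ≠ 0 := by
    by_contra hcon
    push Not at hcon
    apply hu0
    apply fr.ext
    intro i
    rw [hcon i, map_zero, LinearMap.zero_apply]
  obtain ⟨i, hi⟩ := hex
  have hiS : i ∈ S := hJ i hi
  have huA : u ∈ VS B e S := by
    intro j hj
    by_contra hne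
    exact hj (hJ j hne)
  have hεO : zJ B c e {i} ∈ oG Q := fr.zJ_mem_oG {i}
  have hεL : zJ B c e {i} ∈ L := hC.hz i
  have hεu : zJ B c e {i} u = u - (c⁻¹ * B u (e i)) • e i := by
    rw [fr.zJ_apply, Finset.sum_singleton]
  have hw2A : zJ B c e {i} u ∈ VS B e S := zJ_mem_VS fr i huA
  have hQw2 : Q (zJ B c e {i} u) = 0 := by rw [hεO u, hu]
  have hBuu : B u u = 0 := by
    rw [B_self Q B fr.hQs fr.hQp, hu, mul_zero]
  have h12 : B u (zJ B c e {i} u) ≠ 0 := by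
    rw [hεu, map_sub, map_smul, hBuu, zero_sub, smul_eq_mul]
    exact neg_ne_zero.mpr (mul_ne_zero (mul_ne_zero (inv_ne_zero fr.c0) hi) hi)
  have hεε : ∀ y, zJ B c e {i} (zJ B c e {i} y) = y := by
    intro y
    have := congrArg (fun g : V ≃ₗ[F] V => g y) (fr.zJ_mul_self {i})
    simpa using this
  apply hRAP (VS B e S) (VS_nondeg fr S) huA hw2A ⟨hu, h⟩ ⟨hQw2, ?_⟩ h12
  intro z hz hBz
  -- `sieg (ε u) z = ε * sieg u (ε z) * ε⁻¹`
  have hz' : zJ B c e {i} z ∈ VS B e S := zJ_mem_VS fr i hz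
  have hBz' : B u (zJ B c e {i} z) = 0 := by
    rw [← oG_B Q B fr.hQp hεO u (zJ B c e {i} z), hεε]
    exact hBz
  have hconj := conj_sieg Q B fr.hQs fr.hQp hεO hu hBz'
  rw [hεε] at hconj
  rw [← hconj]
  exact L.mul_mem (L.mul_mem hεL (h _ hz' hBz')) (L.inv_mem hεL)

end Cfsg.Agent.Lib.Helper24_GROW_SGVaux
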