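import Mathlib
import Cfsg.Agent.Lib.Helper32_OFDefs
import Cfsg.Agent.Lib.Helper32_OFRoot
import Cfsg.Agent.Lib.Helper31_OF_API
import Cfsg.Agent.Lib.Helper94_OrthVec
import Cfsg.Agent.Lib.Helper94_OrthNondeg
import Cfsg.Agent.Lib.Helper80_GrowDefs

set_option autoImplicit false
set_option linter.unusedSimpArgs false
set_option linter.unusedVariables false
set_option linter.unusedSectionVars false

/-!
GROW market (architect helper80), package GROW-RAP (helper71): the relative form of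
`Helper94_OrthVec.all_of_pair` for a submodule `A` on which the form is nondegenerate.
-/

namespace Cfsg.Agent.Lib.Helper71_GROW_RAP

open Module Cfsg.Agent.Lib.Helper94_Symp Cfsg.Agent.Lib.Helper94_OrthSmall
  Cfsg.Agent.Lib.Helper94_OrthSiegel Cfsg.Agent.Lib.Helper94_OrthSiegel2
  Cfsg.Agent.Lib.Helper94_OrthNondeg Cfsg.Agent.Lib.Helper94_OrthVec
  Cfsg.Agent.Lib.Helper32_OFDefs Cfsg.Agent.Lib.Helper32_OFRoot
  Cfsg.Agent.Lib.Helper80_GrowDefs Cfsg.Agent.Lib.Helper94_OrthPara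

variable {F V : Type*} [Field F] [AddCommGroup V] [Module F V]
variable {Q : V → F} {B : LinearMap.BilinForm F V}
variable {ι : Type*} [Fintype ι] [DecidableEq ι] {c : F} {e : ι → V}
variable {L : Subgroup (V ≃ₗ[F] V)}

/-- a Siegel element with both parameters in `A` maps `A` into `A` -/
theorem sieg_mem_of_mem (hQs : ∀ (a : F) (v : V), Q (a • v) = a * a * Q v)
    (hQp : ∀ u v : V, Q (u + v) = Q u + Q v + B u v) (A : Submodule F V) {u z : V}
    (huA : u ∈ A) (hzA : z ∈ A) (hu : Q u = 0) (huz : B u z = 0) {x : V} (hx : x ∈ A) :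
    sieg Q B u z x ∈ A := by
  rw [sieg_apply Q B hQs hQp hu huz]
  exact A.sub_mem (A.sub_mem (A.add_mem hx (A.smul_mem _ hzA)) (A.smul_mem _ huA))
    (A.smul_mem _ huA)

/-- adjusting a vector by a multiple of a singular vector to make it singular -/
theorem sing_adjust' (hQs : ∀ (a : F) (v : V), Q (a • v) = a * a * Q v)
    (hQp : ∀ u v : V, Q (u + v) = Q u + Q v + B u v) {x w : V} (hw : Q w = 0)
    (hxw : B x w ≠ 0) : Q (x + (-(Q x / B x w)) • w) = 0 := by
  rw [Q_add_smul Q B hQs hQp, hw]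
  field_simp
  ring

/-- GROW-RAP -/
theorem rel_all_of_pair (hQs : ∀ (a : F) (v : V), Q (a • v) = a * a * Q v)
    (hQp : ∀ u v : V, Q (u + v) = Q u + Q v + B u v) (A : Submodule F V)
    (hA : ∀ a ∈ A, a ≠ 0 → ∃ x ∈ A, B x a ≠ 0) (M : Subgroup (V ≃ₗ[F] V)) (hM : M ≤ oG Q)
    {w1 w2 : V} (h1A : w1 ∈ A) (h2A : w2 ∈ A)
    (hw1 : Q w1 = 0 ∧ ∀ z ∈ A, B w1 z = 0 → sieg Q B w1 z ∈ M)
    (hw2 : Q w2 = 0 ∧ ∀ z ∈ A, B w2 z = 0 → sieg Q B w2 z ∈ M) (h12 : B w1 w2 ≠ 0) :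
    SgOn Q B M A := by
  have hsymm := B_symm Q B hQp
  have hself : ∀ a, Q a = 0 → B a a = 0 := by
    intro a ha
    rw [B_self Q B hQs hQp, ha, mul_zero]
  have hsapp := @sieg_apply F V _ _ _ Q B hQs hQp
  let P : V → Prop := fun w => w ∈ A ∧ Q w = 0 ∧ ∀ z ∈ A, B w z = 0 → sieg Q B w z ∈ M
  have hP0 : P 0 := by
    refine ⟨A.zero_mem, Q_zero Q hQs, fun z _ _ => ?_⟩
    rw [sieg_zero_left Q B hQs hQp]; exact M.one_mem
  have hP2 : ∀ u z, u ∈ A → z ∈ A → Q u = 0 → B u z = 0 → sieg Q B u z ∈ M →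
      ∀ w, P w → P (sieg Q B u z w) := by
    intro u z huA hzA hu huz hg w hw
    have hgO : sieg Q B u z ∈ oG Q := hM hg
    refine ⟨sieg_mem_of_mem hQs hQp A huA hzA hu huz hw.1, by rw [hgO, hw.2.1], fun z' hz'A hz' => ?_⟩
    have hinvA : (sieg Q B u z)⁻¹ z' ∈ A := by
      rw [sieg_inv Q B hQs hQp hu huz]
      exact sieg_mem_of_mem hQs hQp A huA (A.neg_mem hzA) hu (by rw [map_neg, huz, neg_zero]) hz'A
    have h1 : B w ((sieg Q B u z)⁻¹ z') = 0 := by
      rw [← oG_B Q B hQp hgO, apply_inv_apply']; exact hz'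
    have h2 := conj_sieg Q B hQs hQp hgO hw.2.1 h1
    rw [apply_inv_apply'] at h2
    rw [← h2]
    exact M.mul_mem (M.mul_mem hg (hw.2.2 _ hinvA h1)) (M.inv_mem hg)
  have hP3 : ∀ w, P w → ∀ c : F, P (c • w) := by
    intro w hw c
    by_cases hc : c = 0
    · rw [hc, zero_smul]; exact hP0
    refine ⟨A.smul_mem _ hw.1, by rw [hQs, hw.2.1, mul_zero], fun z hzA hz => ?_⟩
    have h1 : B w z = 0 := by
      rw [map_smul, LinearMap.smul_apply, smul_eq_mul] at hz
      exact (mul_eq_zero.mp hz).resolve_left hc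
    rw [sieg_smul_left Q B hQs hQp hw.2.1 h1]
    apply hw.2.2 _ (A.smul_mem _ hzA)
    rw [map_smul, h1, smul_zero]
  have hP5a : ∀ w, P w → ∀ p p', p' ∈ A → Q p = 0 → Q p' = 0 → B p w ≠ 0 → B p' w ≠ 0 →
      P p → P p' := by
    intro w hw p p' hp'A hp hp' hpw hp'w hPp
    obtain ⟨l, hl⟩ : ∃ l : F, l = B p w := ⟨_, rfl⟩
    have hl0 : l ≠ 0 := by rw [hl]; exact hpw
    obtain ⟨p'', hp''⟩ : ∃ p'' : V, p'' = (l / B p' w) • p' := ⟨_, rfl⟩
    have hp''A : p'' ∈ A := by rw [hp'']; exact A.smul_mem _ hp'A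
    have hQp'' : Q p'' = 0 := by rw [hp'', hQs, hp', mul_zero]
    have hp''w : B p'' w = l := by
      rw [hp'', map_smul, LinearMap.smul_apply, smul_eq_mul, div_mul_cancel₀ _ hp'w]
    obtain ⟨z, hz⟩ : ∃ z : V, z = l⁻¹ • (p'' - p) := ⟨_, rfl⟩
    have hzA : z ∈ A := by rw [hz]; exact A.smul_mem _ (A.sub_mem hp''A hPp.1)
    have hwz : B w z = 0 := by
      rw [hz, map_smul, map_sub, hsymm w p'', hsymm w p, hp''w, ← hl, sub_self, smul_zero]
    have hg : sieg Q B w z ∈ M := hw.2.2 z hzA hwz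
    have hlz : l • z = p'' - p := by rw [hz, smul_smul, mul_inv_cancel₀ hl0, one_smul]
    have hkey : B p z + l * Q z = 0 := by
      have e1 : p'' = p + l • z := by rw [hlz]; abel
      have e2 := hQp''
      rw [e1, Q_add_smul Q B hQs hQp, hp] at e2
      have e3 : l * (B p z + l * Q z) = 0 := by linear_combination e2
      exact (mul_eq_zero.mp e3).resolve_left hl0
    have h1 := hP2 w z hw.1 hzA hw.2.1 hwz hg p hPp
    rw [hsapp hw.2.1 hwz, ← hl, hlz] at h1
    have e4 : p + (p'' - p) - B p z • w - (Q z * l) • w = p'' - (B p z + l * Q z) • w := by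
      module
    rw [e4, hkey, zero_smul, sub_zero] at h1
    have h2 := hP3 p'' h1 (B p' w / l)
    rwa [hp'', smul_smul, div_mul_div_cancel₀ hl0, div_self hp'w, one_smul] at h2
  have h21 : B w2 w1 ≠ 0 := by rw [hsymm]; exact h12
  have hw10 : w1 ≠ 0 := by
    rintro rfl
    simp at h12
  have hPw1 : P w1 := ⟨h1A, hw1.1, hw1.2⟩
  have hPw2 : P w2 := ⟨h2A, hw2.1, hw2.2⟩
  have hall : ∀ p, p ∈ A → Q p = 0 → P p := by
    intro p hpA hp
    by_cases hpw1 : B p w1 = 0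
    · by_cases hp0 : p = 0
      · rw [hp0]; exact hP0
      obtain ⟨x, hxA, hx1, hx2⟩ : ∃ x ∈ A, B x w1 ≠ 0 ∧ B x p ≠ 0 := by
        obtain ⟨x1, hx1A, hx1⟩ := hA w1 h1A hw10
        obtain ⟨x2, hx2A, hx2⟩ := hA p hpA hp0
        by_cases h1 : B x1 p = 0
        · by_cases h2 : B x2 w1 = 0
          · refine ⟨x1 + x2, A.add_mem hx1A hx2A, ?_, ?_⟩
            · rw [map_add, LinearMap.add_apply, h2, add_zero]; exact hx1
            · rw [map_add, LinearMap.add_apply, h1, zero_add]; exact hx2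
          · exact ⟨x2, hx2A, h2, hx2⟩
        · exact ⟨x1, hx1A, hx1, h1⟩
      have hQr := sing_adjust' hQs hQp hw1.1 hx1
      obtain ⟨r, hr⟩ : ∃ r : V, r = x + (-(Q x / B x w1)) • w1 := ⟨_, rfl⟩
      rw [← hr] at hQr
      have hrA : r ∈ A := by rw [hr]; exact A.add_mem hxA (A.smul_mem _ h1A)
      have hrw1 : B r w1 ≠ 0 := by
        rw [hr, map_add, LinearMap.add_apply, map_smul, LinearMap.smul_apply,
          hself w1 hw1.1, smul_zero, add_zero]
        exact hx1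
      have hrp : B r p ≠ 0 := by
        rw [hr, map_add, LinearMap.add_apply, map_smul, LinearMap.smul_apply, hsymm w1 p,
          hpw1, smul_zero, add_zero]
        exact hx2
      have hPr : P r := hP5a w1 hPw1 w2 r hrA hw2.1 hQr h21 hrw1 hPw2
      exact hP5a r hPr w1 p hpA hw1.1 hp (by rw [hsymm]; exact hrw1) (by rw [hsymm]; exact hrp)
        hPw1
    · exact hP5a w1 hPw1 w2 p hpA hw2.1 hp h21 hpw1 hPw2
  intro u huA z hzA hu huz
  exact (hall u huA hu).2.2 z hzA huz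

end Cfsg.Agent.Lib.Helper71_GROW_RAP
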