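import Mathlib
import Cfsg.Agent.Lib.Helper32_OFDefs
import Cfsg.Agent.Lib.Helper32_OFRoot
import Cfsg.Agent.Lib.Helper31_OF_API
import Cfsg.Agent.Lib.Helper94_OrthVec
import Cfsg.Agent.Lib.Helper94_OrthNondeg
import Cfsg.Agent.Lib.Helper80_GrowDefs
import Cfsg.Agent.Lib.Helper24_GROW_SGVaux
import Cfsg.Agent.Lib.Helper71_GROW_RAP

set_option autoImplicit false
set_option linter.unusedSimpArgs false
set_option linter.unusedVariables false
set_option linter.unusedSectionVars false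

/-!
# GROW market (architect helper80), package GROW-SGV (verbatim)

Assembled from `Helper24_GROW_SGVaux.sgOn_of_full_aux` and the landed package GROW-RAP (helper71).
-/

namespace Cfsg.Agent.Lib.Helper24_GROW_SGV

open Module Cfsg.Agent.Lib.Helper94_Symp Cfsg.Agent.Lib.Helper94_OrthSmall
  Cfsg.Agent.Lib.Helper94_OrthSiegel Cfsg.Agent.Lib.Helper94_OrthSiegel2
  Cfsg.Agent.Lib.Helper94_OrthNondeg Cfsg.Agent.Lib.Helper94_OrthVec
  Cfsg.Agent.Lib.Helper32_OFDefs Cfsg.Agent.Lib.Helper32_OFRoot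
  Cfsg.Agent.Lib.Helper80_GrowDefs

variable {F V : Type*} [Field F] [AddCommGroup V] [Module F V]
variable {Q : V → F} {B : LinearMap.BilinForm F V}
variable {ι : Type*} [Fintype ι] [DecidableEq ι] {c : F} {e : ι → V}
variable {L : Subgroup (V ≃ₗ[F] V)}

/-- GROW-SGV -/
theorem sgOn_of_full (hC : GCtx Q B c e L) {u : V} (hu : Q u = 0) (hu0 : u ≠ 0) (S : Finset ι)
    (hJ : ∀ i, B u (e i) ≠ 0 → i ∈ S)
    (h : ∀ y ∈ VS B e S, B u y = 0 → sieg Q B u y ∈ L) : SgOn Q B L (VS B e S) :=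
  Cfsg.Agent.Lib.Helper24_GROW_SGVaux.sgOn_of_full_aux
    (fun A hA {_ _} h1A h2A hw1 hw2 h12 =>
      Cfsg.Agent.Lib.Helper71_GROW_RAP.rel_all_of_pair hC.fr.hQs hC.fr.hQp A hA L hC.hLO
        h1A h2A hw1 hw2 h12)
    hC hu hu0 S hJ h

end Cfsg.Agent.Lib.Helper24_GROW_SGV
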