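import Mathlib
import Cfsg.Agent.Lib.Helper24_LinearPGroup
import Cfsg.Agent.Lib.Helper24_FrobLinear

/-!
# Linear `p`-groups: derived length bounds with `Nat.log p` (helper24)

Base-`p` versions of `Helper24_LinearPGroup.derivedSeries_le_ker_of_ne` and
`Helper24_FrobLinear.frob_main` / `derivedSeries_eq_bot_of_finite_field`.
-/

open Subgroup Module
open scoped commutatorElement

namespace Cfsg.Agent.Lib.Helper24_LinearLogP

open Cfsg.Agent.Lib.Helper24_LinearPGroup Cfsg.Agent.Lib.Helper24_FrobLinear

universe u v w

section eig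
variable {K : Type w} [Field K] {P : Type u} [Group P] {V : Type v} [AddCommGroup V] [Module K V]
  (ρ : Representation K P V)

theorem iterate_eigenspace_le (a g z : P) (c : K) (hz : ∀ v, ρ z v = c • v)
    (h : a * g = g * z * a) (ζ : K) (i : ℕ) (v : V) (hv : v ∈ Module.End.eigenspace (ρ a) ζ) :
    ((ρ g) ^ i) v ∈ Module.End.eigenspace (ρ a) (c ^ i * ζ) := by
  induction i with
  | zero => simpa using hv
  | succ i ih =>
    have := eigenspace_le_comap ρ a g z c hz h (c ^ i * ζ) ih
    rw [Submodule.mem_comap] at this
    have e1 : (ρ g ^ (i + 1)) v = ρ g ((ρ g ^ i) v) := by rw [pow_succ']; rfl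
    have e2 : c ^ (i + 1) * ζ = c * (c ^ i * ζ) := by ring
    rw [e1, e2]
    exact this

theorem apply_injective (g : P) : Function.Injective (ρ g) := by
  intro u w huw
  have e : ∀ t, ρ g⁻¹ (ρ g t) = t := by
    intro t
    have : (ρ g⁻¹ * ρ g) t = t := by rw [← map_mul, inv_mul_cancel, map_one]; rfl
    exact this
  have : ρ g⁻¹ (ρ g u) = ρ g⁻¹ (ρ g w) := by rw [huw]
  rwa [e, e] at this

theorem finrank_eigenspace_le_iterate [FiniteDimensional K V] (a g z : P) (c : K)
    (hz : ∀ v, ρ z v = c • v) (h : a * g = g * z * a) (ζ : K) (i : ℕ) :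
    finrank K (Module.End.eigenspace (ρ a) ζ) ≤
      finrank K (Module.End.eigenspace (ρ a) (c ^ i * ζ)) := by
  let f : Module.End.eigenspace (ρ a) ζ →ₗ[K] Module.End.eigenspace (ρ a) (c ^ i * ζ) :=
    ((ρ g) ^ i).restrict (fun v hv => iterate_eigenspace_le ρ a g z c hz h ζ i v hv)
  have hf : Function.Injective f := by
    intro x y hxy
    have h1 := congrArg Subtype.val hxy
    simp only [f, LinearMap.coe_restrict_apply] at h1
    have hinj : Function.Injective ((ρ g) ^ i) := by
      rw [Module.End.coe_pow]
      exact (apply_injective ρ g).iterate i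
    exact Subtype.ext (hinj h1)
  exact LinearMap.finrank_le_finrank_of_injective hf

/-- Dimension bound: `p` distinct shifted eigenspaces. -/
theorem mul_finrank_eigenspace_le [FiniteDimensional K V] (p : ℕ) [hp : Fact p.Prime]
    (a g z : P) (c : K) (hc : c ≠ 1) (s : ℕ) (hcp : c ^ (p ^ s) = 1)
    (hz : ∀ v, ρ z v = c • v) (h : a * g = g * z * a) (ζ : K)
    (hζ : Module.End.eigenspace (ρ a) ζ ≠ ⊥) :
    p * finrank K (Module.End.eigenspace (ρ a) ζ) ≤ finrank K V := by
  classical
  have hζ0 := eigenvalue_ne_zero ρ a ζ hζ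
  -- the order of c is a power of p, at least p
  have hord : p ≤ orderOf c := by
    have hdvd : orderOf c ∣ p ^ s := orderOf_dvd_of_pow_eq_one hcp
    obtain ⟨t, ht, hot⟩ := (Nat.dvd_prime_pow hp.out).mp hdvd
    have ht0 : t ≠ 0 := by
      rintro rfl
      rw [pow_zero, orderOf_eq_one_iff] at hot
      exact hc hot
    rw [hot]
    calc p = p ^ 1 := (pow_one p).symm
      _ ≤ p ^ t := Nat.pow_le_pow_right hp.out.pos (Nat.one_le_iff_ne_zero.mpr ht0)
  have hinj : Set.InjOn (fun i : ℕ => c ^ i * ζ) (Finset.range p : Set ℕ) := by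
    intro i hi j hj hij
    simp only [Finset.coe_range, Set.mem_Iio] at hi hj
    have h1 : c ^ i = c ^ j := mul_right_cancel₀ hζ0 hij
    exact pow_injOn_Iio_orderOf (Set.mem_Iio.mpr (lt_of_lt_of_le hi hord))
      (Set.mem_Iio.mpr (lt_of_lt_of_le hj hord)) h1
  have hsum := sum_finrank_eigenspace_le (ρ a) ((Finset.range p).image (fun i : ℕ => c ^ i * ζ))
  rw [Finset.sum_image hinj] at hsum
  have hle : ∑ _i ∈ Finset.range p, finrank K (Module.End.eigenspace (ρ a) ζ) ≤
      ∑ i ∈ Finset.range p, finrank K (Module.End.eigenspace (ρ a) (c ^ i * ζ)) :=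
    Finset.sum_le_sum (fun i _ => finrank_eigenspace_le_iterate ρ a g z c hz h ζ i)
  rw [Finset.sum_const, Finset.card_range, smul_eq_mul] at hle
  omega

end eig

theorem log_succ_le_of_mul_le {b m n : ℕ} (hb : 1 < b) (hm : 1 ≤ m) (h : b * m ≤ n) :
    Nat.log b m + 1 ≤ Nat.log b n := by
  rw [← Nat.log_mul_base hb (by omega)]
  exact Nat.log_mono_right (by rw [mul_comm]; exact h)

section main
variable {K : Type w} [Field K] [IsAlgClosed K] (p : ℕ) [hp : Fact p.Prime] (hpK : (p : K) ≠ 0)

include hpK in
theorem faithful_step_p (n : ℕ)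
    (ih : ∀ m < n, ∀ (P : Type u) [Group P] [Finite P], IsPGroup p P →
      ∀ (V : Type v) [AddCommGroup V] [Module K V] [FiniteDimensional K V]
        (ρ : Representation K P V), finrank K V = m → 1 ≤ m →
        derivedSeries P (Nat.log p m + 1) ≤ ρ.ker)
    (P : Type u) [Group P] [Finite P] (hP : IsPGroup p P)
    (V : Type v) [AddCommGroup V] [Module K V] [FiniteDimensional K V]
    (ρ : Representation K P V) (hn : finrank K V = n) (h1 : 1 ≤ n)
    (hinj : Function.Injective ρ) : derivedSeries P (Nat.log p n + 1) = ⊥ := by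
  by_cases hred : ∃ W : Submodule K V, (∀ g, W ≤ W.comap (ρ g)) ∧ W ≠ ⊥ ∧ W ≠ ⊤
  · obtain ⟨W, hW, hW0, hWt⟩ := hred
    have hq := Submodule.finrank_quotient_add_finrank W
    have hWpos : 1 ≤ finrank K W := Submodule.one_le_finrank_iff.mpr hW0
    have hWlt : finrank K W < finrank K V := Submodule.finrank_lt hWt
    rw [eq_bot_iff]
    intro x hx
    rw [mem_bot]
    apply hinj
    rw [map_one]
    obtain ⟨j, hj⟩ := hP x
    have a1 := ih (finrank K W) (by omega) P hP W (ρ.subrepresentation W hW) rfl (by omega)
    have a2 := ih (finrank K (V ⧸ W)) (by omega) P hP (V ⧸ W) (ρ.quotient W hW) rfl (by omega)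
    have m1 : derivedSeries P (Nat.log p n + 1) ≤ derivedSeries P (Nat.log p (finrank K W) + 1) :=
      derivedSeries_antitone P (by
        have := Nat.log_mono_right (b := p) (show finrank K W ≤ n by omega)
        omega)
    have m2 : derivedSeries P (Nat.log p n + 1) ≤
        derivedSeries P (Nat.log p (finrank K (V ⧸ W)) + 1) :=
      derivedSeries_antitone P (by
        have := Nat.log_mono_right (b := p) (show finrank K (V ⧸ W) ≤ n by omega)
        omega)
    exact eq_one_of_trivial ρ W hW p hpK x j hj (MonoidHom.mem_ker.mp (a1 (m1 hx)))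
      (MonoidHom.mem_ker.mp (a2 (m2 hx)))
  · push Not at hred
    have hirr : ∀ W : Submodule K V, (∀ g, W ≤ W.comap (ρ g)) → W ≠ ⊥ → W = ⊤ := hred
    have : Nontrivial V := by
      apply Module.nontrivial_of_finrank_pos (R := K)
      omega
    by_cases hcomm : center P = ⊤
    · have h0 : derivedSeries P 1 = ⊥ := by
        rw [derivedSeries_one]
        exact (_root_.commutator_eq_bot_iff_center_eq_top P).mpr hcomm
      have := derivedSeries_antitone P (show 1 ≤ Nat.log p n + 1 by omega)
      rw [h0] at this
      exact le_bot_iff.mp this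
    · obtain ⟨a, haA, haZ⟩ := exists_mem_secondCenter_not_mem_center p hP hcomm
      let P₁ : Subgroup P := centralizer (secondCenter P : Set P)
      have hcomm_le : commutator P ≤ P₁ := commutator_le_centralizer_secondCenter
      have hscal : ∀ z ∈ center P, ∃ c : K, ∀ v, ρ z v = c • v :=
        fun z hz => exists_scalar_of_central ρ hirr z hz
      -- the central commutators
      have hzc : ∀ g : P, g⁻¹ * a * g * a⁻¹ ∈ center P := by
        intro g
        have h := commutatorElement_mem_center_of_mem_secondCenter haA g⁻¹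
        have h' := (center P).inv_mem h
        have e : (⁅a, g⁻¹⁆)⁻¹ = g⁻¹ * a * g * a⁻¹ := by
          rw [commutatorElement_def]; group
        rwa [e] at h'
      have hag : ∀ g : P, a * g = g * (g⁻¹ * a * g * a⁻¹) * a := by
        intro g; group
      obtain ⟨g, hg⟩ : ∃ g, g * a ≠ a * g := by
        by_contra hcon
        push Not at hcon
        exact haZ (mem_center_iff.mpr hcon)
      obtain ⟨c, hc⟩ := hscal _ (hzc g)
      have hc1 : c ≠ 1 := by
        rintro rfl
        apply hg
        have : ρ (g⁻¹ * a * g * a⁻¹) = ρ 1 := by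
          rw [map_one]
          ext v
          rw [hc v, one_smul, Module.End.one_apply]
        have h2 := hinj this
        have : g * (g⁻¹ * a * g * a⁻¹) * a = g * 1 * a := by rw [h2]
        rw [← hag g, mul_one] at this
        exact this.symm
      let E : K → Submodule K V := fun ζ => Module.End.eigenspace (ρ a) ζ
      have hsup : (⨆ ζ, E ζ) = ⊤ := by
        apply hirr
        · intro h
          apply iSup_le
          intro ζ
          obtain ⟨ch, hch⟩ := hscal _ (hzc h)
          have := eigenspace_le_comap ρ a h _ ch hch (hag h) ζ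
          exact this.trans (Submodule.comap_mono (le_iSup E (ch * ζ)))
        · obtain ⟨μ, hμ⟩ := Module.End.exists_eigenvalue (ρ a)
          intro hbot
          apply hμ
          have := le_iSup E μ
          rw [hbot] at this
          exact le_bot_iff.mp this
      obtain ⟨s, hs⟩ := hP (g⁻¹ * a * g * a⁻¹)
      have hcp : c ^ (p ^ s) = 1 := by
        obtain ⟨v0, hv0⟩ := exists_ne (0 : V)
        have h1 : ∀ k : ℕ, (ρ (g⁻¹ * a * g * a⁻¹) ^ k) v0 = c ^ k • v0 := by
          intro k
          induction k with
          | zero => simp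
          | succ k ihk =>
            rw [pow_succ', Module.End.mul_apply, ihk, map_smul, hc, smul_smul, pow_succ]
        have h2 := h1 (p ^ s)
        rw [← map_pow, hs, map_one, Module.End.one_apply] at h2
        have h3 : (c ^ (p ^ s) - 1) • v0 = 0 := by rw [sub_smul, one_smul, ← h2, sub_self]
        rcases smul_eq_zero.mp h3 with h | h
        · exact sub_eq_zero.mp h
        · exact absurd h hv0
      have hdim : ∀ ζ, E ζ ≠ ⊥ → p * finrank K (E ζ) ≤ n := by
        intro ζ hζ
        rw [← hn]
        exact mul_finrank_eigenspace_le ρ p a g _ c hc1 s hcp hc (hag g) ζ hζ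
      let ρ₁ : Representation K P₁ V := ρ.comp P₁.subtype
      have hE : ∀ ζ, ∀ x : P₁, E ζ ≤ (E ζ).comap (ρ₁ x) := by
        intro ζ x
        have hx : a * (x : P) = (x : P) * a := (mem_centralizer_iff.mp x.2 a haA)
        exact eigenspace_le_comap_of_commute ρ a x hx ζ
      have hker : ∀ x ∈ derivedSeries P₁ (Nat.log p n), ρ₁ x = 1 := by
        intro x hx
        have htop : (⊤ : Submodule K V) ≤ LinearMap.eqLocus (ρ₁ x) 1 := by
          rw [← hsup]
          apply iSup_le
          intro ζ
          by_cases hζ : E ζ = ⊥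
          · rw [hζ]; exact bot_le
          · have hd := hdim ζ hζ
            have hpos : 1 ≤ finrank K (E ζ) := Submodule.one_le_finrank_iff.mpr hζ
            have h2le : 2 * finrank K (E ζ) ≤ p * finrank K (E ζ) :=
              Nat.mul_le_mul_right _ hp.out.two_le
            have a1 := ih (finrank K (E ζ)) (by omega) P₁ (hP.to_subgroup P₁) (E ζ)
              (ρ₁.subrepresentation (E ζ) (hE ζ)) rfl hpos
            have hlog := log_succ_le_of_mul_le hp.out.one_lt hpos hd
            have a2 := a1 (derivedSeries_antitone P₁ hlog hx)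
            intro v hv
            rw [LinearMap.mem_eqLocus]
            exact apply_eq_of_sub_eq_one ρ₁ (E ζ) (hE ζ) x (MonoidHom.mem_ker.mp a2) v hv
        ext v
        exact htop (Submodule.mem_top)
      have hbot : derivedSeries P₁ (Nat.log p n) = ⊥ := by
        rw [eq_bot_iff]
        intro x hx
        rw [mem_bot]
        have := hker x hx
        apply Subtype.ext
        apply hinj
        rw [coe_one, map_one]
        exact this
      exact derivedSeries_succ_eq_bot P₁ hcomm_le _ hbot

include hpK in
theorem derivedSeries_le_ker_of_ne_p (n : ℕ) : ∀ (P : Type u) [Group P] [Finite P], IsPGroup p P →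
      ∀ (V : Type v) [AddCommGroup V] [Module K V] [FiniteDimensional K V]
        (ρ : Representation K P V), finrank K V = n → 1 ≤ n →
        derivedSeries P (Nat.log p n + 1) ≤ ρ.ker := by
  induction n using Nat.strong_induction_on with
  | _ n ih =>
    intro P _ _ hP V _ _ _ ρ hn h1
    let f : P →* Module.End K V := ρ
    have hQ : IsPGroup p (P ⧸ f.ker) := hP.to_quotient f.ker
    let ρ' : Representation K (P ⧸ f.ker) V :=
      QuotientGroup.lift f.ker f (fun _ h => MonoidHom.mem_ker.mp h)
    have hinj : Function.Injective ρ' := lift_ker_injective f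
    have := faithful_step_p p hpK n ih (P ⧸ f.ker) hQ V ρ' hn h1 hinj
    exact derivedSeries_le_ker f _ this

end main

section frob
variable {K : Type w} [Field K] [IsAlgClosed K] (p : ℕ) [hp : Fact p.Prime] (hpK : (p : K) ≠ 0)
  (σ : K →+* K) (e : ℕ) (he : 1 ≤ e)
  (hσ : ∀ μ : K, μ ^ p = 1 → μ ≠ 1 → ∀ i : ℕ, (σ^[i] μ = μ ↔ e ∣ i))

include hpK he hσ in
theorem frob_main_p {P : Type u} [Group P] [Finite P] (hP : IsPGroup p P) (n : ℕ) :
    ∀ (V : Type v) [AddCommGroup V] [Module K V] [FiniteDimensional K V]
      (ρ : Representation K P V) (φ : V →ₛₗ[σ] V), Function.Injective φ →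
      (∀ g v, φ (ρ g v) = ρ g (φ v)) → finrank K V = n →
      (n < e → ∀ g, ρ g = 1) ∧
        (e ≤ n → derivedSeries P (Nat.log p (n / e) + 1) ≤ ρ.ker) := by
  induction n using Nat.strong_induction_on with
  | _ n ih =>
    intro V _ _ _ ρ φ hφ hcomm hn
    by_cases htriv : ∀ g, ρ g = 1
    · exact ⟨fun _ => htriv, fun _ x _ => MonoidHom.mem_ker.mpr (htriv x)⟩
    · push Not at htriv
      obtain ⟨g₀, hT1, hTp, hTc⟩ := exists_central_order_p p hP ρ htriv
      set T : Module.End K V := ρ g₀ with hTdef
      let E : K → Submodule K V := fun μ => Module.End.eigenspace T μ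
      have hsup : (⨆ μ, E μ) = ⊤ := iSup_eigenspace_eq_top_of_pow_eq_one p hpK T hTp
      have hEφ : ∀ μ v, v ∈ E μ → φ v ∈ E (σ μ) := by
        intro μ v hv
        simp only [E, Module.End.mem_eigenspace_iff] at hv ⊢
        rw [hTdef, ← hcomm, ← hTdef, hv, map_smulₛₗ]
      have hEρ : ∀ μ g, E μ ≤ (E μ).comap (ρ g) := by
        intro μ g v hv
        simp only [E, Submodule.mem_comap, Module.End.mem_eigenspace_iff] at hv ⊢
        calc T (ρ g v) = (T * ρ g) v := rfl
          _ = (ρ g * T) v := by rw [hTc g]
          _ = ρ g (T v) := rfl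
          _ = μ • ρ g v := by rw [hv, map_smul]
      have hEp : ∀ μ, E μ ≠ ⊥ → μ ^ p = 1 := fun μ h =>
        pow_eq_one_of_eigenspace_ne_bot p T hTp μ h
      -- iterates of σ on p-th roots of unity
      have hσp : ∀ (i : ℕ) (μ : K), μ ^ p = 1 → μ ≠ 1 → (σ^[i] μ) ^ p = 1 ∧ σ^[i] μ ≠ 1 := by
        intro i
        induction i with
        | zero => intro μ h1 h2; exact ⟨h1, h2⟩
        | succ i ihi =>
          intro μ h1 h2
          rw [Function.iterate_succ_apply]
          refine ihi (σ μ) (by rw [← map_pow, h1, map_one]) ?_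
          intro h
          apply h2
          exact σ.injective (by rw [h, map_one])
      have hinjσ : ∀ (μ : K), μ ^ p = 1 → μ ≠ 1 →
          Set.InjOn (fun i : ℕ => σ^[i] μ) (Finset.range e : Set ℕ) := by
        intro μ h1 h2
        have key : ∀ i j : ℕ, i ≤ j → j < e → σ^[i] μ = σ^[j] μ → i = j := by
          intro i j hij hj h
          obtain ⟨k, rfl⟩ := Nat.exists_eq_add_of_le hij
          rw [Function.iterate_add_apply] at h
          have h3 : σ^[k] μ = μ := ((σ.injective.iterate i) h).symm
          have := ((hσ μ h1 h2 k).mp h3)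
          have hk : k = 0 := by
            by_contra hk0
            have := Nat.le_of_dvd (Nat.pos_of_ne_zero hk0) this
            omega
          omega
        intro i hi j hj h
        simp only [Finset.coe_range, Set.mem_Iio] at hi hj
        rcases le_total i j with hij | hij
        · exact key i j hij hj h
        · exact (key j i hij hi h.symm).symm
      have hsum : ∀ (μ : K), μ ^ p = 1 → μ ≠ 1 →
          ∑ i ∈ Finset.range e, finrank K (E (σ^[i] μ)) ≤ n := by
        intro μ h1 h2
        classical
        have := sum_finrank_eigenspace_le T ((Finset.range e).image (fun i : ℕ => σ^[i] μ))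
        rw [Finset.sum_image (hinjσ μ h1 h2), hn] at this
        exact this
      -- kernel transport
      have hdown : ∀ (i : ℕ) (ν : K) (g : P), (∀ w ∈ E (σ^[i] ν), ρ g w = w) →
          ∀ v ∈ E ν, ρ g v = v := by
        intro i
        induction i with
        | zero => intro ν g h; exact h
        | succ i ihi =>
          intro ν g h v hv
          rw [Function.iterate_succ_apply] at h
          have h' := ihi (σ ν) g h (φ v) (hEφ ν v hv)
          apply hφ
          rw [hcomm, h']
      -- a nontrivial eigenvalue exists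
      have hex : ∃ μ₀, μ₀ ≠ 1 ∧ E μ₀ ≠ ⊥ := by
        by_contra hcon
        push Not at hcon
        apply hT1
        have h1 : (⊤ : Submodule K V) ≤ E 1 := by
          rw [← hsup]
          apply iSup_le
          intro μ
          by_cases hμ : μ = 1
          · rw [hμ]
          · rw [hcon μ hμ]; exact bot_le
        ext v
        have := h1 (Submodule.mem_top (x := v))
        simp only [E, Module.End.mem_eigenspace_iff, one_smul] at this
        rw [this, Module.End.one_apply]
      have hne : e ≤ n := by
        obtain ⟨μ₀, hμ1, hμE⟩ := hex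
        have hμp := hEp μ₀ hμE
        have h1 := hsum μ₀ hμp hμ1
        have h2 : ∀ i ∈ Finset.range e, 1 ≤ finrank K (E (σ^[i] μ₀)) := by
          intro i _
          rw [Submodule.one_le_finrank_iff]
          obtain ⟨v, hv, hv0⟩ := (Submodule.ne_bot_iff _).mp hμE
          have h3 : ∀ (j : ℕ) (ν : K) (w : V), w ∈ E ν → w ≠ 0 →
              ∃ w' ∈ E (σ^[j] ν), w' ≠ 0 := by
            intro j
            induction j with
            | zero => intro ν w hw hw0; exact ⟨w, hw, hw0⟩
            | succ j ihj =>
              intro ν w hw hw0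
              rw [Function.iterate_succ_apply]
              refine ihj (σ ν) (φ w) (hEφ ν w hw) ?_
              intro h
              exact hw0 (hφ (by rw [h, map_zero]))
          obtain ⟨w', hw', hw'0⟩ := h3 i μ₀ v hv hv0
          exact (Submodule.ne_bot_iff _).mpr ⟨w', hw', hw'0⟩
        have h4 : ∑ _i ∈ Finset.range e, 1 ≤ ∑ i ∈ Finset.range e, finrank K (E (σ^[i] μ₀)) :=
          Finset.sum_le_sum h2
        rw [Finset.sum_const, Finset.card_range, smul_eq_mul, mul_one] at h4
        omega
      refine ⟨fun h => absurd hne (by omega), fun _ => ?_⟩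
      intro x hx
      rw [MonoidHom.mem_ker]
      have htop : (⊤ : Submodule K V) ≤ LinearMap.eqLocus (ρ x) 1 := by
        rw [← hsup]
        apply iSup_le
        intro μ
        by_cases hμE : E μ = ⊥
        · rw [hμE]; exact bot_le
        have hμp := hEp μ hμE
        intro v hv
        rw [LinearMap.mem_eqLocus, Module.End.one_apply]
        by_cases hμ1 : μ = 1
        · -- induction on the fixed space of T
          subst hμ1
          have hlt : finrank K (E 1) < n := by
            rw [← hn]
            apply Submodule.finrank_lt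
            intro htop
            apply hT1
            ext w
            have : w ∈ E 1 := by rw [htop]; exact Submodule.mem_top
            simp only [E, Module.End.mem_eigenspace_iff, one_smul] at this
            rw [this, Module.End.one_apply]
          let φ₁ : E 1 →ₛₗ[σ] E 1 := (φ.domRestrict (E 1)).codRestrict (E 1) (fun w => by
            have := hEφ 1 w.1 w.2
            rwa [map_one] at this)
          have hφ₁ : Function.Injective φ₁ := by
            intro a b hab
            have := congrArg Subtype.val hab
            exact Subtype.ext (hφ this)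
          have hc₁ : ∀ g (w : E 1), φ₁ (ρ.subrepresentation (E 1) (hEρ 1) g w) =
              ρ.subrepresentation (E 1) (hEρ 1) g (φ₁ w) := by
            intro g w
            apply Subtype.ext
            exact hcomm g w.1
          obtain ⟨r1, r2⟩ := ih (finrank K (E 1)) hlt (E 1) (ρ.subrepresentation (E 1) (hEρ 1))
            φ₁ hφ₁ hc₁ rfl
          by_cases hm : finrank K (E 1) < e
          · exact apply_eq_of_sub_eq_one ρ (E 1) (hEρ 1) x (r1 hm x) v hv
          · have hm' : e ≤ finrank K (E 1) := by omega
            have hlog : Nat.log p (finrank K (E 1) / e) + 1 ≤ Nat.log p (n / e) + 1 := by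
              have := Nat.log_mono_right (b := p)
                (Nat.div_le_div_right (c := e) (show finrank K (E 1) ≤ n by omega))
              omega
            have := r2 hm' (derivedSeries_antitone P hlog hx)
            exact apply_eq_of_sub_eq_one ρ (E 1) (hEρ 1) x (MonoidHom.mem_ker.mp this) v hv
        · -- nontrivial eigenvalue: use the orbit under σ
          obtain ⟨i, hi, hle⟩ := exists_mul_le_of_sum_le e n he _ (hsum μ hμp hμ1)
          apply hdown i μ x _ v hv
          intro w hw
          by_cases hd : E (σ^[i] μ) = ⊥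
          · rw [hd, Submodule.mem_bot] at hw
            rw [hw, map_zero]
          · have hpos : 1 ≤ finrank K (E (σ^[i] μ)) := Submodule.one_le_finrank_iff.mpr hd
            have a1 := derivedSeries_le_ker_of_ne_p p hpK (finrank K (E (σ^[i] μ))) P hP
              (E (σ^[i] μ)) (ρ.subrepresentation _ (hEρ _)) rfl hpos
            have hdle : finrank K (E (σ^[i] μ)) ≤ n / e := by
              rw [Nat.le_div_iff_mul_le (by omega)]
              rw [mul_comm]; exact hle
            have hlog : Nat.log p (finrank K (E (σ^[i] μ))) + 1 ≤ Nat.log p (n / e) + 1 := by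
              have := Nat.log_mono_right (b := p) hdle
              omega
            have := a1 (derivedSeries_antitone P hlog hx)
            exact apply_eq_of_sub_eq_one ρ _ (hEρ _) x (MonoidHom.mem_ker.mp this) w hw
      ext v
      exact htop (Submodule.mem_top)

end frob

section final

theorem derivedSeries_eq_bot_of_finite_field_p {F : Type w} [Field F] [Fintype F] (q : ℕ)
    (hF : Fintype.card F = q) (p : ℕ) [Fact p.Prime] (hpq : ¬ p ∣ q) (n e : ℕ)
    (he : e = orderOf (q : ZMod p)) (hen : e ≤ n) {P : Type u} [Group P] [Finite P]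
    (hP : IsPGroup p P) (f : P →* Matrix (Fin n) (Fin n) F) (hf : Function.Injective f) :
    derivedSeries P (Nat.log p (n / e) + 1) = ⊥ := by
  classical
  let K := AlgebraicClosure F
  obtain ⟨ℓ, hℓ⟩ := CharP.exists F
  obtain ⟨k, hℓp, hqk⟩ := FiniteField.card F ℓ
  rw [hF] at hqk
  have : Fact ℓ.Prime := ⟨hℓp⟩
  have : CharP K ℓ := charP_of_injective_algebraMap (algebraMap F K).injective ℓ
  let σ : K →+* K := iterateFrobenius K ℓ k
  have hσx : ∀ x : K, σ x = x ^ q := by
    intro x
    rw [hqk]
    exact iterateFrobenius_def ℓ k x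
  have hpK : (p : K) ≠ 0 := by
    intro h
    have h1 := (CharP.cast_eq_zero_iff K ℓ p).mp h
    have h2 : ℓ = p := (Nat.prime_dvd_prime_iff_eq hℓp (Fact.out : p.Prime)).mp h1
    apply hpq
    rw [hqk, h2]
    exact dvd_pow_self p k.ne_zero
  have hq0 : (q : ZMod p) ≠ 0 := by
    intro h
    exact hpq ((ZMod.natCast_eq_zero_iff q p).mp h)
  have he1 : 1 ≤ e := by
    rw [he]
    have : IsOfFinOrder (q : ZMod p) := by
      rw [isOfFinOrder_iff_pow_eq_one]
      exact ⟨p - 1, Nat.sub_pos_of_lt (Fact.out : p.Prime).one_lt, ZMod.pow_card_sub_one_eq_one hq0⟩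
    exact orderOf_pos_iff.mpr this
  have hσi : ∀ (i : ℕ) (x : K), σ^[i] x = x ^ (q ^ i) := by
    intro i
    induction i with
    | zero => intro x; simp
    | succ i ih =>
      intro x
      rw [Function.iterate_succ_apply', ih, hσx, ← pow_mul, ← pow_succ]
  have hσ : ∀ μ : K, μ ^ p = 1 → μ ≠ 1 → ∀ i : ℕ, (σ^[i] μ = μ ↔ e ∣ i) := by
    intro μ h1 h2 i
    have ho : orderOf μ = p := orderOf_eq_prime h1 h2
    rw [hσi]
    nth_rewrite 2 [← pow_one μ]
    have hfo : IsOfFinOrder μ :=
      isOfFinOrder_iff_pow_eq_one.mpr ⟨p, (Fact.out : p.Prime).pos, h1⟩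
    rw [hfo.pow_eq_pow_iff_modEq, ho, he, orderOf_dvd_iff_pow_eq_one,
      ← ZMod.natCast_eq_natCast_iff]
    push_cast
    rfl
  -- the representation
  let φm : Matrix (Fin n) (Fin n) F →* Matrix (Fin n) (Fin n) K :=
    ((algebraMap F K).mapMatrix : Matrix (Fin n) (Fin n) F →+* Matrix (Fin n) (Fin n) K)
  have hφm : Function.Injective φm := by
    intro A B hAB
    have : A.map (algebraMap F K) = B.map (algebraMap F K) := hAB
    exact Matrix.map_injective (algebraMap F K).injective this
  let ψ : Matrix (Fin n) (Fin n) K →* Module.End K (Fin n → K) :=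
    ((Matrix.toLinAlgEquiv' : Matrix (Fin n) (Fin n) K ≃ₐ[K] _) :
      Matrix (Fin n) (Fin n) K →ₐ[K] Module.End K (Fin n → K))
  have hψ : Function.Injective ψ := by
    intro A B hAB
    exact (Matrix.toLinAlgEquiv' : Matrix (Fin n) (Fin n) K ≃ₐ[K] _).injective hAB
  let ρ : Representation K P (Fin n → K) := ψ.comp (φm.comp f)
  have hinj : Function.Injective ρ := hψ.comp (hφm.comp hf)
  have hρ : ∀ g v, ρ g v = ((f g).map (algebraMap F K)).mulVec v := by
    intro g v
    rfl
  -- the Frobenius-semilinear map
  let φ : (Fin n → K) →ₛₗ[σ] (Fin n → K) :=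
    { toFun := fun v i => σ (v i)
      map_add' := by intro v w; funext i; simp
      map_smul' := by intro c v; funext i; simp }
  have hφ : Function.Injective φ := by
    intro v w h
    funext i
    exact σ.injective (congrFun h i)
  have hσF : ∀ a : F, σ (algebraMap F K a) = algebraMap F K a := by
    intro a
    rw [hσx, ← map_pow, ← hF, FiniteField.pow_card]
  have hcomm : ∀ g v, φ (ρ g v) = ρ g (φ v) := by
    intro g v
    rw [hρ, hρ]
    funext i
    show σ ((((f g).map (algebraMap F K)).mulVec v) i) = _
    simp only [Matrix.mulVec, dotProduct, Matrix.map_apply, map_sum, map_mul, hσF]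
    rfl
  have hfin : finrank K (Fin n → K) = n := by simp
  have hmain := (frob_main_p p hpK σ e he1 hσ hP n (Fin n → K) ρ φ hφ hcomm hfin).2 hen
  rw [(MonoidHom.ker_eq_bot_iff ρ).mpr hinj] at hmain
  exact le_bot_iff.mp hmain

end final

end Cfsg.Agent.Lib.Helper24_LinearLogP
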