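import Mathlib

set_option autoImplicit false
set_option linter.unusedSectionVars false
set_option linter.unusedVariables false

namespace Cfsg.Agent.Lib.Helper24_M11_L5_720

variable {G : Type*} [Group G] [Finite G]

/-- a simple group with more than two elements has only the trivial homomorphism to `ℤˣ` -/
theorem hom_units_trivial [IsSimpleGroup G] (hcard : 2 < Nat.card G) (φ : G →* ℤˣ) (g : G) :
    φ g = 1 := by
  rcases φ.normal_ker.eq_bot_or_eq_top with h | h
  · exfalso
    have hinj : Function.Injective φ := (MonoidHom.ker_eq_bot_iff φ).1 h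
    have h1 : Nat.card G ≤ Nat.card ℤˣ := Nat.card_le_card_of_injective φ hinj
    have h2 : Nat.card ℤˣ = 2 := by
      rw [Nat.card_eq_fintype_card]; rfl
    omega
  · have : g ∈ φ.ker := by rw [h]; trivial
    exact this

/-- a point of `G ⧸ H` fixed by a Sylow subgroup `P` with `N_G(P) ≤ H` is the base point -/
theorem mem_of_fixed {p : ℕ} [Fact p.Prime] (P : Sylow p G) (H : Subgroup G)
    (hNH : Subgroup.normalizer ((P : Subgroup G) : Set G) ≤ H) (g : G)
    (hfix : ∀ a ∈ (P : Subgroup G), a • (g : G ⧸ H) = (g : G ⧸ H)) : g ∈ H := by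
  have hPH : (P : Subgroup G) ≤ H := Subgroup.le_normalizer.trans hNH
  have hQH : ((g⁻¹ • P : Sylow p G) : Subgroup G) ≤ H := by
    intro y hy
    rw [Sylow.coe_subgroup_smul] at hy
    obtain ⟨a, ha, rfl⟩ := hy
    have h1 := hfix a ha
    have h2 : ((a * g : G) : G ⧸ H) = (g : G ⧸ H) := h1
    rw [eq_comm, QuotientGroup.eq] at h2
    simpa [MulAut.conj_apply, mul_assoc] using h2
  obtain ⟨h, hh⟩ := MulAction.exists_smul_eq (↥H) (P.subtype hPH) ((g⁻¹ • P).subtype hQH)
  rw [Sylow.smul_subtype hPH h] at hh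
  have h3 : h • P = g⁻¹ • P := Sylow.subtype_injective hh
  have h4 : (g * (h : G)) • P = P := by
    rw [mul_smul]
    have : (h : G) • P = g⁻¹ • P := h3
    rw [this, smul_inv_smul]
  have h5 : g * (h : G) ∈ H := hNH (Sylow.smul_eq_iff_mem_normalizer.1 h4)
  have : g = g * (h : G) * ((h : G))⁻¹ := by group
  rw [this]
  exact H.mul_mem h5 (H.inv_mem h.2)

/-- M11-L5_720 -/
theorem L5_720 [IsSimpleGroup G] (hG : Nat.card G = 7920) (P : Sylow 5 G)
    (hN : Nat.card (Subgroup.normalizer ((P : Subgroup G) : Set G)) = 20)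
    (t : G) (ht : orderOf t = 2)
    (htP : t ∈ Subgroup.centralizer ((P : Subgroup G) : Set G))
    (hNt : Subgroup.normalizer ((P : Subgroup G) : Set G) ≤ Subgroup.centralizer ({t} : Set G)) :
    Nat.card (Subgroup.centralizer ({t} : Set G)) ≠ 720 := by
  classical
  have hp5 : Fact (Nat.Prime 5) := ⟨by norm_num⟩
  intro h720
  set H := Subgroup.centralizer ({t} : Set G) with hH
  have : Fintype (G ⧸ H) := Fintype.ofFinite _
  have hidx : H.index = 11 := by
    have := H.card_mul_index
    rw [h720, hG] at this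
    omega
  have hcardΩ : Fintype.card (G ⧸ H) = 11 := by
    rw [← Nat.card_eq_fintype_card]; exact hidx
  have htH : t ∈ H := by
    rw [hH, Subgroup.mem_centralizer_iff]
    intro y hy
    rw [Set.mem_singleton_iff.1 hy]
  have ht1 : t ≠ 1 := by
    rintro rfl
    rw [orderOf_one] at ht
    omega
  have ht2 : t ^ 2 = 1 := by rw [← ht]; exact pow_orderOf_eq_one t
  set φ := MulAction.toPermHom G (G ⧸ H) with hφ
  have hker : φ.ker = ⊥ := by
    rcases φ.normal_ker.eq_bot_or_eq_top with h | h
    · exact h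
    · exfalso
      have hall : ∀ g : G, g ∈ H := by
        intro g
        have hg : g ∈ φ.ker := by rw [h]; trivial
        rw [MonoidHom.mem_ker] at hg
        have h1 := congrArg (fun τ : Equiv.Perm (G ⧸ H) => τ ((1 : G) : G ⧸ H)) hg
        simp only [hφ, MulAction.toPermHom_apply, MulAction.toPerm_apply, Equiv.Perm.coe_one, id_eq] at h1
        have h2 : ((g * 1 : G) : G ⧸ H) = ((1 : G) : G ⧸ H) := h1
        rw [eq_comm, QuotientGroup.eq] at h2
        simpa using h2
      have : H = ⊤ := (Subgroup.eq_top_iff' H).2 hall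
      rw [this, Subgroup.index_top] at hidx
      omega
  have hinj : Function.Injective φ := (MonoidHom.ker_eq_bot_iff φ).1 hker
  set σ := φ t with hσ
  have hσ1 : σ ≠ 1 := by
    intro h
    apply ht1
    apply hinj
    rw [map_one]; exact h
  have hσ2 : σ ^ 2 = 1 := by rw [hσ, ← map_pow, ht2, map_one]
  have hord : orderOf σ = 2 := orderOf_eq_prime hσ2 hσ1
  have hsign : Equiv.Perm.sign σ = 1 :=
    hom_units_trivial (by omega) (Equiv.Perm.sign.comp φ) t
  obtain ⟨n, hn⟩ := Equiv.Perm.cycleType_prime_order (σ := σ) (by rw [hord]; exact Nat.prime_two)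
  rw [hord] at hn
  have heven : Even (n + 1) := by
    rw [Equiv.Perm.sign_of_cycleType, hn] at hsign
    simp only [Multiset.sum_replicate, Multiset.card_replicate, smul_eq_mul] at hsign
    have h3 : (n + 1) * 2 + (n + 1) = 2 * (n + 1) + (n + 1) := by ring
    rw [h3, pow_add, pow_mul] at hsign
    simp only [neg_one_sq, one_pow, one_mul] at hsign
    by_contra hodd
    rw [Nat.not_even_iff_odd] at hodd
    rw [hodd.neg_one_pow] at hsign
    exact absurd hsign (by decide)
  have hfix := Equiv.Perm.card_fixedPoints σ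
  rw [hcardΩ, hn, Multiset.sum_replicate, smul_eq_mul] at hfix
  have hle := Equiv.Perm.sum_cycleType_le σ
  rw [hcardΩ, hn, Multiset.sum_replicate, smul_eq_mul] at hle
  -- the action of `P` on the fixed points of `t`
  have hcomm : ∀ a ∈ (P : Subgroup G), a * t = t * a := by
    intro a ha
    rw [Subgroup.mem_centralizer_iff] at htP
    exact htP a ha
  let S : SubMulAction (↥(P : Subgroup G)) (G ⧸ H) :=
    { carrier := Function.fixedPoints σ
      smul_mem' := by
        intro a x hx
        have hx' : t • x = x := hx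
        show t • ((a : G) • x) = (a : G) • x
        rw [smul_smul, ← hcomm a a.2, ← smul_smul, hx'] }
  have hmod := P.isPGroup'.card_modEq_card_fixedPoints (↥S)
  have hcardS : Nat.card (↥S) = Fintype.card (Function.fixedPoints σ) := by
    rw [← Nat.card_eq_fintype_card]; rfl
  have hbase : ((1 : G) : G ⧸ H) ∈ S := by
    show t • ((1 : G) : G ⧸ H) = ((1 : G) : G ⧸ H)
    have : ((t * 1 : G) : G ⧸ H) = ((1 : G) : G ⧸ H) := by
      rw [eq_comm, QuotientGroup.eq]; simpa using htH
    exact this
  have hone : Nat.card (MulAction.fixedPoints (↥(P : Subgroup G)) (↥S)) = 1 := by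
    rw [Nat.card_eq_one_iff_unique]
    refine ⟨⟨?_⟩, ⟨⟨⟨((1 : G) : G ⧸ H), hbase⟩, ?_⟩⟩⟩
    · rintro ⟨⟨x, hxS⟩, hx⟩ ⟨⟨y, hyS⟩, hy⟩
      have key : ∀ z : G ⧸ H, ∀ hz : z ∈ S,
          (⟨z, hz⟩ : ↥S) ∈ MulAction.fixedPoints (↥(P : Subgroup G)) (↥S) →
          z = ((1 : G) : G ⧸ H) := by
        intro z hz hzf
        induction z using QuotientGroup.induction_on with
        | H g =>
          have hg : g ∈ H := by
            apply mem_of_fixed P H hNt g
            intro a ha
            have := hzf ⟨a, ha⟩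
            exact congrArg Subtype.val this
          rw [QuotientGroup.eq]
          simpa using H.inv_mem hg
      have hx1 := key x hxS hx
      have hy1 := key y hyS hy
      subst hx1
      subst hy1
      rfl
    · intro a
      apply Subtype.ext
      show (a : G) • ((1 : G) : G ⧸ H) = ((1 : G) : G ⧸ H)
      have haH : (a : G) ∈ H := hNt (Subgroup.le_normalizer a.2)
      have : (((a : G) * 1 : G) : G ⧸ H) = ((1 : G) : G ⧸ H) := by
        rw [eq_comm, QuotientGroup.eq]; simpa using haH
      exact this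
  rw [hone, hcardS, hfix] at hmod
  obtain ⟨k, hk⟩ := heven
  have h5 : (11 - (n + 1) * 2) % 5 = 1 % 5 := hmod
  omega

end Cfsg.Agent.Lib.Helper24_M11_L5_720
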