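import Mathlib

set_option autoImplicit false
set_option linter.unusedSectionVars false
set_option linter.unusedVariables false

namespace Cfsg.Agent.Lib.Helper24_M11_L5a

open Subgroup

variable {G : Type*} [Group G] [Finite G]

theorem fact5 : Fact (Nat.Prime 5) := ⟨by norm_num⟩
theorem fact11 : Fact (Nat.Prime 11) := ⟨by norm_num⟩

theorem fac5 : (7920 : ℕ).factorization 5 = 1 := by
  have h : (7920 : ℕ) = 5 * 1584 := by norm_num
  rw [h, Nat.factorization_mul (by norm_num) (by norm_num)]
  simp only [Finsupp.coe_add, Pi.add_apply]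
  rw [Nat.Prime.factorization_self (by norm_num), Nat.factorization_eq_zero_of_not_dvd (by norm_num)]

theorem fac11 : (7920 : ℕ).factorization 11 = 1 := by
  have h : (7920 : ℕ) = 11 * 720 := by norm_num
  rw [h, Nat.factorization_mul (by norm_num) (by norm_num)]
  simp only [Finsupp.coe_add, Pi.add_apply]
  rw [Nat.Prime.factorization_self (by norm_num), Nat.factorization_eq_zero_of_not_dvd (by norm_num)]

theorem card_sylow5 (hG : Nat.card G = 7920) (A : Sylow 5 G) : Nat.card (A : Subgroup G) = 5 := by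
  have := fact5
  rw [Sylow.card_eq_multiplicity, hG, fac5, pow_one]

theorem card_sylow11 (hG : Nat.card G = 7920) (Q : Sylow 11 G) : Nat.card (Q : Subgroup G) = 11 := by
  have := fact11
  rw [Sylow.card_eq_multiplicity, hG, fac11, pow_one]

/-- a nontrivial element of a self-centralizing subgroup `Q` of prime order does not normalize a nontrivial
subgroup `A ≤ N(Q)` meeting `Q` trivially -/
theorem eq_one_of_mem_normalizer {p : ℕ} [Fact p.Prime] (Q A : Subgroup G) (hQ : Nat.card Q = p)
    (hC : centralizer (Q : Set G) = Q) (hAQ : A ≤ normalizer (Q : Set G)) (hinf : A ⊓ Q = ⊥)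
    (hA : A ≠ ⊥) (q : G) (hq : q ∈ Q) (hqA : q ∈ normalizer (A : Set G)) : q = 1 := by
  by_contra hq1
  apply hA
  rw [eq_bot_iff]
  intro a ha
  have hc : a * q * a⁻¹ * q⁻¹ ∈ A ⊓ Q := by
    constructor
    · have h1 : q * a⁻¹ * q⁻¹ ∈ A := (hqA a⁻¹).1 (A.inv_mem ha)
      have h2 : a * q * a⁻¹ * q⁻¹ = a * (q * a⁻¹ * q⁻¹) := by group
      rw [h2]
      exact A.mul_mem ha h1
    · have h1 : a * q * a⁻¹ ∈ Q := (hAQ ha q).1 hq
      exact Q.mul_mem h1 (Q.inv_mem hq)
  rw [hinf, mem_bot] at hc
  have hcomm : a * q = q * a := by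
    have h1 : a * q = (a * q * a⁻¹ * q⁻¹) * (q * a) := by group
    rw [h1, hc, one_mul]
  have hne : (⟨q, hq⟩ : Q) ≠ 1 := fun h => hq1 (congrArg Subtype.val h)
  have htop := zpowers_eq_top_of_prime_card hQ hne
  have haC : a ∈ centralizer (Q : Set G) := by
    rw [mem_centralizer_iff]
    intro x hx
    have hx' : (⟨x, hx⟩ : Q) ∈ zpowers (⟨q, hq⟩ : Q) := by rw [htop]; trivial
    obtain ⟨k, hk⟩ := mem_zpowers_iff.1 hx'
    have hxk : x = q ^ k := by
      have := congrArg Subtype.val hk
      simpa using this.symm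
    rw [hxk]
    exact ((Commute.zpow_left (show Commute q a from hcomm.symm) k)).eq
  rw [hC] at haC
  have : a ∈ A ⊓ Q := ⟨ha, haC⟩
  rw [hinf] at this
  exact this

/-- the relation "the Sylow 5-subgroup `A` normalizes the Sylow 11-subgroup `Q`" -/
def R (Q : Sylow 11 G) (A : Sylow 5 G) : Prop := (A : Subgroup G) ≤ normalizer ((Q : Subgroup G) : Set G)

theorem R_smul (g : G) (Q : Sylow 11 G) (A : Sylow 5 G) (h : R Q A) : R (g • Q) (g • A) := by
  intro y hy
  rw [Sylow.coe_subgroup_smul, Subgroup.mem_smul_pointwise_iff_exists] at hy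
  obtain ⟨a, ha, rfl⟩ := hy
  rw [MulAut.smul_def, MulAut.conj_apply]
  refine (Sylow.smul_eq_iff_mem_normalizer (P := g • Q)).1 ?_
  have haQ : a • Q = Q := Sylow.smul_eq_iff_mem_normalizer.2 (h ha)
  rw [← mul_smul]
  have h2 : g * a * g⁻¹ * g = g * a := by group
  rw [h2, mul_smul, haQ]

theorem R_smul_iff (g : G) (Q : Sylow 11 G) (A : Sylow 5 G) : R (g • Q) (g • A) ↔ R Q A := by
  constructor
  · intro h
    have := R_smul g⁻¹ _ _ h
    rwa [inv_smul_smul, inv_smul_smul] at this
  · exact R_smul g Q A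

/-- there is a Sylow 5-subgroup inside the normalizer of a Sylow 11-subgroup -/
theorem exists_R (hG : Nat.card G = 7920) (Q : Sylow 11 G)
    (hN : Nat.card (normalizer ((Q : Subgroup G) : Set G)) = 55) : ∃ A : Sylow 5 G, R Q A := by
  have := fact5
  obtain ⟨a, ha⟩ := exists_prime_orderOf_dvd_card' (G := ↥(normalizer ((Q : Subgroup G) : Set G))) 5
    (by rw [hN]; norm_num)
  have hord : orderOf (a : G) = 5 := by rw [Subgroup.orderOf_coe]; exact ha
  have hcard : Nat.card (zpowers (a : G)) = 5 ^ (Nat.card G).factorization 5 := by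
    rw [Nat.card_zpowers, hord, hG, fac5, pow_one]
  refine ⟨Sylow.ofCard (zpowers (a : G)) hcard, ?_⟩
  intro y hy
  have hy' : y ∈ zpowers (a : G) := hy
  exact (zpowers_le.2 a.2) hy'

/-- at least eleven Sylow 5-subgroups normalize a given Sylow 11-subgroup -/
theorem eleven_le (hG : Nat.card G = 7920) (Q : Sylow 11 G)
    (hN : Nat.card (normalizer ((Q : Subgroup G) : Set G)) = 55)
    (hC : centralizer ((Q : Subgroup G) : Set G) = (Q : Subgroup G))
    (s : Finset (Sylow 5 G)) (hs : ∀ A, A ∈ s ↔ R Q A) : 11 ≤ s.card := by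
  classical
  have := fact5
  have := fact11
  obtain ⟨A₀, hA₀⟩ := exists_R hG Q hN
  have hQ11 := card_sylow11 hG Q
  have hA5 := card_sylow5 hG A₀
  have : Fintype (Q : Subgroup G) := Fintype.ofFinite _
  have hcardQ : (Finset.univ : Finset (Q : Subgroup G)).card = 11 := by
    rw [Finset.card_univ, ← Nat.card_eq_fintype_card]; exact hQ11
  rw [← hcardQ]
  apply Finset.card_le_card_of_injOn (fun q : (Q : Subgroup G) => (q : G) • A₀)
  · intro q _
    rw [Finset.mem_coe, hs]
    have h1 := R_smul (q : G) Q A₀ hA₀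
    have h2 : (q : G) • Q = Q :=
      Sylow.smul_eq_iff_mem_normalizer.2 (Subgroup.le_normalizer q.2)
    rwa [h2] at h1
  · intro q₁ _ q₂ _ h
    have h1 : ((q₂ : G)⁻¹ * (q₁ : G)) • A₀ = A₀ := by
      rw [mul_smul]
      have h' : (q₁ : G) • A₀ = (q₂ : G) • A₀ := h
      rw [h', inv_smul_smul]
    have h2 : (q₂ : G)⁻¹ * (q₁ : G) ∈ normalizer ((A₀ : Subgroup G) : Set G) :=
      Sylow.smul_eq_iff_mem_normalizer.1 h1
    have hinf : (A₀ : Subgroup G) ⊓ (Q : Subgroup G) = ⊥ := by
      apply (Subgroup.disjoint_of_coprime_natCard ?_).eq_bot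
      rw [hA5, hQ11]; norm_num
    have hA₀ne : (A₀ : Subgroup G) ≠ ⊥ := by
      intro hb
      rw [hb, Subgroup.card_bot] at hA5
      omega
    have h3 := eq_one_of_mem_normalizer (p := 11) (Q : Subgroup G) (A₀ : Subgroup G) hQ11 hC hA₀ hinf hA₀ne
      ((q₂ : G)⁻¹ * (q₁ : G)) ((Q : Subgroup G).mul_mem ((Q : Subgroup G).inv_mem q₂.2) q₁.2) h2
    apply Subtype.ext
    have : (q₁ : G) = (q₂ : G) * ((q₂ : G)⁻¹ * (q₁ : G)) := by group
    rw [this, h3, mul_one]

/-- two distinct Sylow 5-subgroups in `N(Q₀)` normalize no other Sylow 11-subgroup in common -/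
theorem common_eq (hG : Nat.card G = 7920) (Q₀ Q' : Sylow 11 G)
    (hN : Nat.card (normalizer ((Q₀ : Subgroup G) : Set G)) = 55)
    (A₁ A₂ : Sylow 5 G) (hne : A₁ ≠ A₂) (h1 : R Q₀ A₁) (h2 : R Q₀ A₂) (h1' : R Q' A₁) (h2' : R Q' A₂) :
    Q' = Q₀ := by
  classical
  have := fact5
  have := fact11
  set K : Subgroup G := (A₁ : Subgroup G) ⊔ (A₂ : Subgroup G) with hK
  have hK0 : K ≤ normalizer ((Q₀ : Subgroup G) : Set G) := sup_le h1 h2
  have hK' : K ≤ normalizer ((Q' : Subgroup G) : Set G) := sup_le h1' h2'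
  have hd1 : Nat.card K ∣ 55 := by rw [← hN]; exact Subgroup.card_dvd_of_le hK0
  have hd2 : 5 ∣ Nat.card K := by
    rw [← card_sylow5 hG A₁]; exact Subgroup.card_dvd_of_le le_sup_left
  have hne5 : Nat.card K ≠ 5 := by
    intro h5
    have hA1K : (A₁ : Subgroup G) = K :=
      Subgroup.eq_of_le_of_card_ge le_sup_left (by rw [h5, card_sylow5 hG A₁])
    have hA2K : (A₂ : Subgroup G) = K :=
      Subgroup.eq_of_le_of_card_ge le_sup_right (by rw [h5, card_sylow5 hG A₂])
    exact hne (Sylow.ext (hA1K.trans hA2K.symm))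
  have hK55 : Nat.card K = 55 := by
    have hle : Nat.card K ≤ 55 := Nat.le_of_dvd (by norm_num) hd1
    obtain ⟨c, hc⟩ := hd2
    rw [hc] at hd1 hne5 hle ⊢
    have hc11 : c ≤ 11 := by omega
    interval_cases c <;> omega
  have hKN : K = normalizer ((Q₀ : Subgroup G) : Set G) :=
    Subgroup.eq_of_le_of_card_ge hK0 (by rw [hK55, hN])
  have hQ0N' : (Q₀ : Subgroup G) ≤ normalizer ((Q' : Subgroup G) : Set G) := by
    refine le_trans ?_ hK'
    rw [hKN]; exact Subgroup.le_normalizer
  have hp : IsPGroup 11 ((Q₀ : Subgroup G) ⊔ (Q' : Subgroup G) : Subgroup G) :=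
    IsPGroup.to_sup_of_normal_right' Q₀.isPGroup' Q'.isPGroup' hQ0N'
  have e1 := Q₀.is_maximal' hp le_sup_left
  have e2 := Q'.is_maximal' hp le_sup_right
  exact Sylow.ext (e2.symm.trans e1)

/-- M11-L5a -/
theorem L5a [IsSimpleGroup G] (hG : Nat.card G = 7920)
    (h11 : ∀ Q : Sylow 11 G,
      Nat.card (Subgroup.normalizer ((Q : Subgroup G) : Set G)) = 55 ∧
      Subgroup.centralizer ((Q : Subgroup G) : Set G) = (Q : Subgroup G))
    (P : Sylow 5 G) :
    Nat.card (Subgroup.normalizer ((P : Subgroup G) : Set G)) = 20 := by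
  classical
  have := fact5
  have := fact11
  have : Fintype (Sylow 5 G) := Fintype.ofFinite _
  have : Fintype (Sylow 11 G) := Fintype.ofFinite _
  -- the number of Sylow 11-subgroups
  obtain ⟨Q₀⟩ : Nonempty (Sylow 11 G) := inferInstance
  have hn11 : Fintype.card (Sylow 11 G) = 144 := by
    have e : Nat.card (Sylow 11 G) = (normalizer ((Q₀ : Subgroup G) : Set G)).index :=
      Sylow.card_eq_index_normalizer Q₀
    rw [← Nat.card_eq_fintype_card, e]
    have := (normalizer ((Q₀ : Subgroup G) : Set G)).card_mul_index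
    rw [(h11 Q₀).1, hG] at this
    omega
  -- the number of Sylow 5-subgroups
  set m := Nat.card (normalizer ((P : Subgroup G) : Set G)) with hm
  set n5 := Fintype.card (Sylow 5 G) with hn5
  have hn5m : m * n5 = 7920 := by
    have h1 : n5 = (normalizer ((P : Subgroup G) : Set G)).index := by
      rw [hn5, ← Nat.card_eq_fintype_card]
      exact Sylow.card_eq_index_normalizer P
    rw [h1, hm, Subgroup.card_mul_index, hG]
  have hn5mod : n5 % 5 = 1 := by
    have := card_sylow_modEq_one 5 G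
    rw [Nat.card_eq_fintype_card] at this
    exact this
  have h5m : 5 ∣ m := by
    rw [← card_sylow5 hG P, hm]
    exact Subgroup.card_dvd_of_le Subgroup.le_normalizer
  -- the incidence counts
  set f := (Finset.univ.filter (fun Q : Sylow 11 G => R Q P)).card with hf
  have hconst : ∀ A : Sylow 5 G, (Finset.univ.filter (fun Q : Sylow 11 G => R Q A)).card = f := by
    intro A
    obtain ⟨g, rfl⟩ := MulAction.exists_smul_eq G P A
    rw [hf]
    symm
    apply Finset.card_bij (fun Q _ => g • Q)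
    · intro Q hQ
      rw [Finset.mem_filter] at hQ ⊢
      exact ⟨Finset.mem_univ _, R_smul g Q P hQ.2⟩
    · intro Q₁ _ Q₂ _ h
      exact smul_left_cancel g h
    · intro Q hQ
      rw [Finset.mem_filter] at hQ
      refine ⟨g⁻¹ • Q, ?_, smul_inv_smul g Q⟩
      rw [Finset.mem_filter]
      refine ⟨Finset.mem_univ _, ?_⟩
      have := R_smul g⁻¹ _ _ hQ.2
      rwa [inv_smul_smul] at this
  -- double counting
  have hdc : ∑ Q : Sylow 11 G, (Finset.univ.filter (fun A : Sylow 5 G => R Q A)).card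
      = ∑ A : Sylow 5 G, (Finset.univ.filter (fun Q : Sylow 11 G => R Q A)).card :=
    Finset.sum_card_bipartiteAbove_eq_sum_card_bipartiteBelow (fun (Q : Sylow 11 G) (A : Sylow 5 G) => R Q A)
  have hlow : 144 * 11 ≤ n5 * f := by
    have h1 : ∑ A : Sylow 5 G, (Finset.univ.filter (fun Q : Sylow 11 G => R Q A)).card = n5 * f := by
      rw [Finset.sum_congr rfl (fun A _ => hconst A), Finset.sum_const, Finset.card_univ, smul_eq_mul]
    rw [← h1, ← hdc]
    have h2 : ∀ Q : Sylow 11 G, 11 ≤ (Finset.univ.filter (fun A : Sylow 5 G => R Q A)).card := by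
      intro Q
      apply eleven_le hG Q (h11 Q).1 (h11 Q).2
      intro A
      simp
    calc 144 * 11 = ∑ _Q : Sylow 11 G, 11 := by
          rw [Finset.sum_const, Finset.card_univ, hn11, smul_eq_mul]
      _ ≤ _ := Finset.sum_le_sum fun Q _ => h2 Q
  -- the bound on `f`
  have hf14 : f ≤ 14 := by
    set 𝒜 := Finset.univ.filter (fun A : Sylow 5 G => R Q₀ A) with h𝒜
    have h𝒜11 : 11 ≤ 𝒜.card := by
      apply eleven_le hG Q₀ (h11 Q₀).1 (h11 Q₀).2
      intro A
      simp [h𝒜]
    set T : Sylow 5 G → Finset (Sylow 11 G) :=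
      fun A => (Finset.univ.filter (fun Q : Sylow 11 G => R Q A)).erase Q₀ with hT
    have hTcard : ∀ A ∈ 𝒜, (T A).card = f - 1 := by
      intro A hA
      rw [h𝒜, Finset.mem_filter] at hA
      rw [hT]
      simp only
      rw [Finset.card_erase_of_mem (by rw [Finset.mem_filter]; exact ⟨Finset.mem_univ _, hA.2⟩), hconst A]
    have hdisj : (𝒜 : Set (Sylow 5 G)).PairwiseDisjoint T := by
      intro A₁ hA₁ A₂ hA₂ hne
      rw [Finset.mem_coe, h𝒜, Finset.mem_filter] at hA₁ hA₂
      rw [Function.onFun, Finset.disjoint_left]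
      intro Q' hQ1 hQ2
      rw [hT] at hQ1 hQ2
      simp only [Finset.mem_erase, Finset.mem_filter, Finset.mem_univ, true_and] at hQ1 hQ2
      exact hQ1.1 (common_eq hG Q₀ Q' (h11 Q₀).1 A₁ A₂ hne hA₁.2 hA₂.2 hQ1.2 hQ2.2)
    have hsub : 𝒜.biUnion T ⊆ Finset.univ.erase Q₀ := by
      intro Q' hQ'
      rw [Finset.mem_biUnion] at hQ'
      obtain ⟨A, _, hA⟩ := hQ'
      rw [hT] at hA
      simp only [Finset.mem_erase, Finset.mem_filter, Finset.mem_univ, true_and] at hA
      rw [Finset.mem_erase]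
      exact ⟨hA.1, Finset.mem_univ _⟩
    have hcard := Finset.card_le_card hsub
    rw [Finset.card_biUnion hdisj, Finset.sum_congr rfl hTcard, Finset.sum_const, smul_eq_mul,
      Finset.card_erase_of_mem (Finset.mem_univ _), Finset.card_univ, hn11] at hcard
    by_contra hcon
    push Not at hcon
    have : 11 * 14 ≤ 𝒜.card * (f - 1) := Nat.mul_le_mul h𝒜11 (by omega)
    omega
  -- arithmetic
  have hn5big : 114 ≤ n5 := by
    by_contra hcon
    push Not at hcon
    have : n5 * f ≤ 113 * 14 := Nat.mul_le_mul (by omega) hf14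
    omega
  have hm69 : m ≤ 69 := by
    by_contra hcon
    push Not at hcon
    have : 70 * 114 ≤ m * n5 := Nat.mul_le_mul (by omega) hn5big
    omega
  have hm2045 : m = 20 ∨ m = 45 := by
    obtain ⟨c, hc⟩ := h5m
    have hc13 : c ≤ 13 := by omega
    rw [hc] at hn5m ⊢
    interval_cases c <;> omega
  rcases hm2045 with h20 | h45
  · exact h20
  · exfalso
    -- Burnside
    have hNC : normalizer ((P : Subgroup G) : Set G) ≤ centralizer ((P : Subgroup G) : Set G) := by
      have hcyc : IsCyclic (P : Subgroup G) := isCyclic_of_prime_card (card_sylow5 hG P)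
      have key := Subgroup.card_dvd_of_injective _
        (QuotientGroup.kerLift_injective (P : Subgroup G).normalizerMonoidHom)
      rw [Subgroup.normalizerMonoidHom_ker, ← Subgroup.index, ← Subgroup.relIndex] at key
      rw [IsCyclic.card_mulAut, card_sylow5 hG P, Nat.totient_prime (by norm_num)] at key
      have h2 : (centralizer ((P : Subgroup G) : Set G)).relIndex
          (normalizer ((P : Subgroup G) : Set G)) ∣ 45 := by
        rw [← h45, hm]
        exact Subgroup.relIndex_dvd_card _ _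
      have h3 : (centralizer ((P : Subgroup G) : Set G)).relIndex
          (normalizer ((P : Subgroup G) : Set G)) = 1 :=
        Nat.eq_one_of_dvd_coprimes (by norm_num : Nat.Coprime 45 (5 - 1)) h2 key
      exact Subgroup.relIndex_eq_one.1 h3
    have hcompl := MonoidHom.ker_transferSylow_isComplement' P hNC
    set K := (MonoidHom.transferSylow P hNC).ker with hKdef
    have hKcard : Nat.card K * Nat.card (P : Subgroup G) = Nat.card G := hcompl.card_mul_card
    rw [card_sylow5 hG P, hG] at hKcard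
    rcases (MonoidHom.normal_ker (MonoidHom.transferSylow P hNC)).eq_bot_or_eq_top with hb | ht
    · rw [← hKdef] at hb
      rw [hb, Subgroup.card_bot] at hKcard
      omega
    · rw [← hKdef] at ht
      rw [ht, Subgroup.card_top, hG] at hKcard
      omega

end Cfsg.Agent.Lib.Helper24_M11_L5a
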