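import Mathlib
import Cfsg.Agent.Lib.Helper14_OmegaSimple
import Cfsg.Agent.Lib.Helper22_MI2Defs
import Cfsg.Agent.Lib.Helper44_MI3Defs

set_option autoImplicit false

/-!
Shared definitions for the `q = 3` slice of S2147 (minimal index of a proper subgroup of `Ω⁻_{2m}(3)`, `m ≥ 4`,
is `(3^m + 1)(3^(m-1) - 1) / 2`, the number of singular points), architect helper44 ("M3M" market).
Abstract setting of `Helper14_OmegaSimple` (`Q : QuadraticForm F V`, `E Q u z` the Eichler-Siegel
transformation, `T Q` the group generated by the long root elements), reusing helper22's `subOrbit`, `resQ`,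
`perp2`, `IsExt`, `Kstab`, `AllSmall`, `IsOrbit` (`Helper22_MI2Defs`) and `FixOrReg3` (`Helper44_MI3Defs`).
The spaces are indexed by their WITT INDEX `j`: dimension `2j + 2`.
-/

namespace Cfsg.Agent.Lib.Helper44_M3MDefs

open Module Cfsg.Agent.Lib.Helper14_OmegaSimple Cfsg.Agent.Lib.Helper22_MI2Defs

variable {F V : Type*} [Field F] [AddCommGroup V] [Module F V]

/-- `Npts j = (3^(j+1) + 1)(3^j - 1) / 2`: the number of singular points of the minus-type quadratic space
of Witt index `j` (dimension `2j + 2`) over the field with three elements. -/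
def Npts (j : ℕ) : ℕ := (3 ^ (j + 1) + 1) * (3 ^ j - 1) / 2

/-- A minus-type quadratic space of Witt index `j` (dimension `2j + 2`) over the field with three
elements, with non-degenerate polar form; the type is encoded by the numbers of vectors of each norm:
`(3^(j+1)+1)(3^j-1)` nonzero singular vectors, `3^j (3^(j+1)+1)` vectors of norm `1`, and of norm `-1`. -/
structure MinusSetting3 (Q : QuadraticForm F V) (j : ℕ) : Prop where
  f3 : ∀ c : F, c = 0 ∨ c = 1 ∨ c = -1
  two_ne : (2 : F) ≠ 0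
  nondeg : (QuadraticMap.polarBilin Q).Nondegenerate
  dim : finrank F V = 2 * j + 2
  nsing : Nat.card {x : V // Q x = 0} = (3 ^ (j + 1) + 1) * (3 ^ j - 1) + 1
  nplus : Nat.card {x : V // Q x = 1} = 3 ^ j * (3 ^ (j + 1) + 1)
  nminus : Nat.card {x : V // Q x = -1} = 3 ^ j * (3 ^ (j + 1) + 1)

/-- `2 * Npts j` is the number of nonzero singular vectors. -/
theorem two_mul_Npts (j : ℕ) : 2 * Npts j = (3 ^ (j + 1) + 1) * (3 ^ j - 1) := by
  unfold Npts
  apply Nat.mul_div_cancel'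
  have h1 : Odd (3 ^ (j + 1)) := Odd.pow (by decide)
  have h2 : Even (3 ^ (j + 1) + 1) := h1.add_one
  exact (h2.mul_right _).two_dvd

/-- `Npts (j+1) = 3^(2j+2) + 3 * Npts j + 1`: one regular orbit, the orbits of size three, one fixed point. -/
theorem Npts_succ (j : ℕ) : Npts (j + 1) = 3 ^ (2 * j + 2) + 3 * Npts j + 1 := by
  have h1 := two_mul_Npts (j + 1)
  have h0 := two_mul_Npts j
  obtain ⟨x, hx⟩ : ∃ x, x = 3 ^ j := ⟨_, rfl⟩
  have hx1 : 1 ≤ x := by rw [hx]; exact Nat.one_le_pow _ _ (by norm_num)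
  have e1 : 3 ^ (j + 1) = 3 * x := by rw [hx, pow_succ]; ring
  have e2 : 3 ^ (j + 1 + 1) = 9 * x := by rw [hx, pow_succ, pow_succ]; ring
  have e3 : 3 ^ (2 * j + 2) = 9 * (x * x) := by rw [hx, pow_add, pow_mul']; ring
  rw [e2, e1] at h1
  rw [e1, ← hx] at h0
  rw [e3]
  obtain ⟨y, rfl⟩ : ∃ y, x = y + 1 := ⟨x - 1, by omega⟩
  have e4 : 3 * (y + 1) - 1 = 3 * y + 2 := by omega
  rw [e4] at h1
  rw [Nat.add_sub_cancel] at h0
  nlinarith

/-- `Npts (j+1) < 2 * 3^(2j+2)`: there is room for only one regular orbit of a root group. -/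
theorem Npts_lt (j : ℕ) : Npts (j + 1) < 2 * 3 ^ (2 * j + 2) := by
  rw [Npts_succ]
  have h0 := two_mul_Npts j
  obtain ⟨x, hx⟩ : ∃ x, x = 3 ^ j := ⟨_, rfl⟩
  have hx1 : 1 ≤ x := by rw [hx]; exact Nat.one_le_pow _ _ (by norm_num)
  have e1 : 3 ^ (j + 1) = 3 * x := by rw [hx, pow_succ]; ring
  have e3 : 3 ^ (2 * j + 2) = 9 * (x * x) := by rw [hx, pow_add, pow_mul']; ring
  rw [e1, ← hx] at h0
  rw [e3]
  obtain ⟨y, rfl⟩ : ∃ y, x = y + 1 := ⟨x - 1, by omega⟩
  rw [Nat.add_sub_cancel] at h0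
  nlinarith

end Cfsg.Agent.Lib.Helper44_M3MDefs
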