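import Mathlib
import Cfsg.Agent.Lib.Helper44_M3MDefs

set_option autoImplicit false
set_option linter.unusedSectionVars false
set_option linter.unusedVariables false

namespace Cfsg.Agent.Lib.Helper24_M3M_CHOICE

open Module Cfsg.Agent.Lib.Helper14_OmegaSimple Cfsg.Agent.Lib.Helper22_MI2Defs
  Cfsg.Agent.Lib.Helper44_MI3Defs Cfsg.Agent.Lib.Helper44_M3MDefs

variable {F V : Type*} [Field F] [AddCommGroup V] [Module F V]

/-- A nondegenerate quadratic space of positive dimension has a nonsingular vector. -/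
theorem exists_nonsingular [FiniteDimensional F V] (Q : QuadraticForm F V)
    (hQ : (QuadraticMap.polarBilin Q).Nondegenerate) (hdim : 1 ≤ finrank F V) :
    ∃ q : V, Q q ≠ 0 := by
  by_contra hcon
  push Not at hcon
  have hnt : Nontrivial V := (Module.finrank_pos_iff (R := F)).1 (by omega)
  obtain ⟨w, hw⟩ := exists_ne (0 : V)
  apply hw
  apply hQ.1 w
  intro y
  rw [QuadraticMap.polarBilin_apply_apply, QuadraticMap.polar, hcon, hcon, hcon]
  ring

theorem exists_second_pair [Finite F] [FiniteDimensional F V] (Q : QuadraticForm F V)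
    (h2 : (2 : F) ≠ 0) (hQ : (QuadraticMap.polarBilin Q).Nondegenerate) (hdim : 7 ≤ finrank F V)
    {v v' : V} (hv : Q v = 0) (hv' : Q v' = 0) (hvv' : QuadraticMap.polar (⇑Q) v v' = 1) :
    ∃ p p' q : V, Q p = 0 ∧ Q p' = 0 ∧ QuadraticMap.polar (⇑Q) p p' = 1 ∧ Q q ≠ 0 ∧
      QuadraticMap.polar (⇑Q) v p = 0 ∧ QuadraticMap.polar (⇑Q) v' p = 0 ∧
      QuadraticMap.polar (⇑Q) v p' = 0 ∧ QuadraticMap.polar (⇑Q) v' p' = 0 ∧
      QuadraticMap.polar (⇑Q) v q = 0 ∧ QuadraticMap.polar (⇑Q) v' q = 0 ∧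
      QuadraticMap.polar (⇑Q) p q = 0 ∧ QuadraticMap.polar (⇑Q) p' q = 0 ∧
      IsCompl (Submodule.span F {v, v', p, p', q})
        (LinearMap.BilinForm.orthogonal (QuadraticMap.polarBilin Q)
          (Submodule.span F {v, v', p, p', q})) ∧
      finrank F (Submodule.span F ({v, v', p, p', q} : Set V)) ≤ 5 := by
  classical
  -- the complement `W` of `<v, v'>`
  have hWnd := Cfsg.Agent.Lib.Helper44_QuadClass.nondegenerate_perp hQ hv hv' hvv'
  have hWdim := Cfsg.Agent.Lib.Helper44_QuadClass.finrank_perp (Q := Q) hv hv' hvv'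
  obtain ⟨p₀, hp₀0, hp₀⟩ := Cfsg.Agent.Lib.Helper44_QuadClass.exists_singular
    (Q.comp (Cfsg.Agent.Lib.Helper44_QuadClass.perp Q v v').subtype) (by omega)
  obtain ⟨p₀', hp₀', hpp₀⟩ := Cfsg.Agent.Lib.Helper44_QuadClass.exists_hyperbolic_partner
    (Q.comp (Cfsg.Agent.Lib.Helper44_QuadClass.perp Q v v').subtype) hWnd hp₀0 hp₀
  -- the complement `W₂` of `<p, p'>` in `W`
  have hW2nd := Cfsg.Agent.Lib.Helper44_QuadClass.nondegenerate_perp hWnd hp₀ hp₀' hpp₀
  have hW2dim := Cfsg.Agent.Lib.Helper44_QuadClass.finrank_perp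
    (Q := Q.comp (Cfsg.Agent.Lib.Helper44_QuadClass.perp Q v v').subtype) hp₀ hp₀' hpp₀
  obtain ⟨q₀, hq₀⟩ := exists_nonsingular _ hW2nd (by omega)
  have hq₀mem := (Cfsg.Agent.Lib.Helper44_QuadClass.mem_perp _ _ _).1 q₀.2
  rw [Cfsg.Agent.Lib.Helper44_QuadClass.polar_comp_subtype,
    Cfsg.Agent.Lib.Helper44_QuadClass.polar_comp_subtype] at hq₀mem
  have hpmem := (Cfsg.Agent.Lib.Helper44_QuadClass.mem_perp _ _ _).1 p₀.2
  have hp'mem := (Cfsg.Agent.Lib.Helper44_QuadClass.mem_perp _ _ _).1 p₀'.2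
  have hqmem := (Cfsg.Agent.Lib.Helper44_QuadClass.mem_perp _ _ _).1 (q₀ : ↥(Cfsg.Agent.Lib.Helper44_QuadClass.perp Q v v')).2
  rw [Cfsg.Agent.Lib.Helper44_QuadClass.polar_comp_subtype] at hpp₀
  obtain ⟨p, hpdef⟩ : ∃ p : V, p = (p₀ : V) := ⟨_, rfl⟩
  obtain ⟨p', hp'def⟩ : ∃ p' : V, p' = (p₀' : V) := ⟨_, rfl⟩
  obtain ⟨q, hqdef⟩ : ∃ q : V, q = ((q₀ : ↥(Cfsg.Agent.Lib.Helper44_QuadClass.perp Q v v')) : V) :=
    ⟨_, rfl⟩
  rw [← hpdef] at hpmem hpp₀ hq₀mem
  rw [← hp'def] at hp'mem hpp₀ hq₀mem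
  rw [← hqdef] at hqmem hq₀mem
  have hQp : Q p = 0 := by rw [hpdef]; exact hp₀
  have hQp' : Q p' = 0 := by rw [hp'def]; exact hp₀'
  have hQq : Q q ≠ 0 := by rw [hqdef]; exact hq₀
  refine ⟨p, p', q, hQp, hQp', hpp₀, hQq, hpmem.1, hpmem.2, hp'mem.1, hp'mem.2, hqmem.1, hqmem.2,
    hq₀mem.1, hq₀mem.2, ?_, ?_⟩
  · -- `IsCompl`
    have hrefl : LinearMap.BilinForm.IsRefl (QuadraticMap.polarBilin Q) := fun x y h => by
      rw [QuadraticMap.polarBilin_apply_apply] at h ⊢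
      rw [QuadraticMap.polar_comm]; exact h
    rw [LinearMap.BilinForm.isCompl_orthogonal_iff_disjoint hrefl, Submodule.disjoint_def]
    intro z hzP hzO
    rw [LinearMap.BilinForm.mem_orthogonal_iff] at hzO
    have hB : ∀ n ∈ Submodule.span F ({v, v', p, p', q} : Set V),
        QuadraticMap.polar (⇑Q) n z = 0 := fun n hn => hzO n hn
    have hmem : ∀ n ∈ ({v, v', p, p', q} : Set V), QuadraticMap.polar (⇑Q) n z = 0 :=
      fun n hn => hB n (Submodule.subset_span hn)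
    have hzv := hmem v (by simp)
    have hzv' := hmem v' (by simp)
    have hzp := hmem p (by simp)
    have hzp' := hmem p' (by simp)
    have hzq := hmem q (by simp)
    obtain ⟨a, z1, hz1, rfl⟩ := Submodule.mem_span_insert.1 hzP
    obtain ⟨a', z2, hz2, rfl⟩ := Submodule.mem_span_insert.1 hz1
    obtain ⟨b, z3, hz3, rfl⟩ := Submodule.mem_span_insert.1 hz2
    obtain ⟨b', z4, hz4, rfl⟩ := Submodule.mem_span_insert.1 hz3
    obtain ⟨c, rfl⟩ := Submodule.mem_span_singleton.1 hz4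
    have hvv : QuadraticMap.polar (⇑Q) v v = 0 := by
      rw [Cfsg.Agent.Lib.Helper44_QuadClass.polar_self', hv, mul_zero]
    have hv'v'' : QuadraticMap.polar (⇑Q) v' v' = 0 := by
      rw [Cfsg.Agent.Lib.Helper44_QuadClass.polar_self', hv', mul_zero]
    have hppz : QuadraticMap.polar (⇑Q) p p = 0 := by
      rw [Cfsg.Agent.Lib.Helper44_QuadClass.polar_self', hQp, mul_zero]
    have hp'p'z : QuadraticMap.polar (⇑Q) p' p' = 0 := by
      rw [Cfsg.Agent.Lib.Helper44_QuadClass.polar_self', hQp', mul_zero]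
    have hqq : QuadraticMap.polar (⇑Q) q q = 2 * Q q :=
      Cfsg.Agent.Lib.Helper44_QuadClass.polar_self' Q q
    have hv'v : QuadraticMap.polar (⇑Q) v' v = 1 := by rw [QuadraticMap.polar_comm, hvv']
    have hp'p : QuadraticMap.polar (⇑Q) p' p = 1 := by rw [QuadraticMap.polar_comm, hpp₀]
    have c1 : QuadraticMap.polar (⇑Q) p v = 0 := by rw [QuadraticMap.polar_comm, hpmem.1]
    have c2 : QuadraticMap.polar (⇑Q) p v' = 0 := by rw [QuadraticMap.polar_comm, hpmem.2]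
    have c3 : QuadraticMap.polar (⇑Q) p' v = 0 := by rw [QuadraticMap.polar_comm, hp'mem.1]
    have c4 : QuadraticMap.polar (⇑Q) p' v' = 0 := by rw [QuadraticMap.polar_comm, hp'mem.2]
    have c5 : QuadraticMap.polar (⇑Q) q v = 0 := by rw [QuadraticMap.polar_comm, hqmem.1]
    have c6 : QuadraticMap.polar (⇑Q) q v' = 0 := by rw [QuadraticMap.polar_comm, hqmem.2]
    have c7 : QuadraticMap.polar (⇑Q) q p = 0 := by rw [QuadraticMap.polar_comm, hq₀mem.1]
    have c8 : QuadraticMap.polar (⇑Q) q p' = 0 := by rw [QuadraticMap.polar_comm, hq₀mem.2]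
    simp only [QuadraticMap.polar_add_right, QuadraticMap.polar_smul_right, hvv, hv'v'', hppz,
      hp'p'z, hqq, hvv', hv'v, hpp₀, hp'p, c1, c2, c3, c4, c5, c6, c7, c8, hpmem.1, hpmem.2,
      hp'mem.1, hp'mem.2, hqmem.1, hqmem.2, hq₀mem.1, hq₀mem.2, smul_eq_mul, mul_zero, mul_one,
      add_zero, zero_add] at hzv hzv' hzp hzp' hzq
    have hc0 : c = 0 := by
      rcases mul_eq_zero.1 hzq with h | h
      · exact h
      · exact absurd h (mul_ne_zero h2 hQq)
    rw [hzv', hzv, hzp', hzp, hc0]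
    simp
  · have h1 := finrank_span_le_card (R := F) ({v, v', p, p', q} : Set V)
    have h2' : ({v, v', p, p', q} : Set V).toFinset.card ≤ 5 := by
      have : ({v, v', p, p', q} : Set V).toFinset = ({v, v', p, p', q} : Finset V) := by
        ext x; simp
      rw [this]
      exact Finset.card_le_five
    exact le_trans h1 h2'

end Cfsg.Agent.Lib.Helper24_M3M_CHOICE
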