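import Mathlib
import Cfsg.Agent.Lib.Helper44_M3MDefs

set_option autoImplicit false
set_option linter.unusedSectionVars false
set_option linter.unusedVariables false

namespace Cfsg.Agent.Lib.Helper24_M3M_HALF

open Module Cfsg.Agent.Lib.Helper14_OmegaSimple Cfsg.Agent.Lib.Helper22_MI2Defs
  Cfsg.Agent.Lib.Helper44_MI3Defs Cfsg.Agent.Lib.Helper44_M3MDefs

variable {F V : Type*} [Field F] [AddCommGroup V] [Module F V]

/-- The abstract half-turn: `a, a'` a hyperbolic pair, `x ⟂ a, a'`, `Q x = ζ = ±1`. -/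
theorem half_core (Q : QuadraticForm F V) {x a a' : V} (ζ : F) (hζ : ζ = 1 ∨ ζ = -1)
    (hx : Q x = ζ) (ha : Q a = 0) (ha' : Q a' = 0) (haa' : QuadraticMap.polar (⇑Q) a a' = 1)
    (hax : QuadraticMap.polar (⇑Q) a x = 0) (ha'x : QuadraticMap.polar (⇑Q) a' x = 0) :
    (E Q a x * E Q a' (ζ • x) * E Q a x) x = -x ∧
    (E Q a x * E Q a' (ζ • x) * E Q a x) a = -(ζ • a') ∧
    (E Q a x * E Q a' (ζ • x) * E Q a x) a' = -(ζ • a) ∧
    ∀ t : V, QuadraticMap.polar (⇑Q) t x = 0 → QuadraticMap.polar (⇑Q) t a = 0 →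
      QuadraticMap.polar (⇑Q) t a' = 0 → (E Q a x * E Q a' (ζ • x) * E Q a x) t = t := by
  have ha'zx : QuadraticMap.polar (⇑Q) a' (ζ • x) = 0 := by
    rw [QuadraticMap.polar_smul_right, ha'x, smul_zero]
  have hE1 := E_apply Q ha hax
  have hE2 := E_apply Q ha' ha'zx
  have hxa : QuadraticMap.polar (⇑Q) x a = 0 := by rw [QuadraticMap.polar_comm, hax]
  have hxa' : QuadraticMap.polar (⇑Q) x a' = 0 := by rw [QuadraticMap.polar_comm, ha'x]
  have ha'a : QuadraticMap.polar (⇑Q) a' a = 1 := by rw [QuadraticMap.polar_comm, haa']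
  have hxx : QuadraticMap.polar (⇑Q) x x = 2 * ζ := by
    rw [Cfsg.Agent.Lib.Helper44_QuadClass.polar_self', hx]
  have haa : QuadraticMap.polar (⇑Q) a a = 0 := by
    rw [Cfsg.Agent.Lib.Helper44_QuadClass.polar_self', ha, mul_zero]
  have ha'a'' : QuadraticMap.polar (⇑Q) a' a' = 0 := by
    rw [Cfsg.Agent.Lib.Helper44_QuadClass.polar_self', ha', mul_zero]
  have hQzx : Q (ζ • x) = ζ * ζ * ζ := by rw [QuadraticMap.map_smul, hx, smul_eq_mul]
  have e1x : E Q a x x = x - (2 * ζ) • a := by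
    rw [hE1, hxa, hxx]; module
  have e1a : E Q a x a = a := by
    rw [hE1, haa, hax]; module
  have e1a' : E Q a x a' = a' + x - ζ • a := by
    rw [hE1, ha'a, ha'x, hx]; module
  have e2x : E Q a' (ζ • x) x = x - (2 * ζ * ζ) • a' := by
    rw [hE2, hxa', QuadraticMap.polar_smul_right, hxx]
    simp only [smul_eq_mul]; module
  have e2a : E Q a' (ζ • x) a = a + ζ • x - (ζ * ζ * ζ) • a' := by
    rw [hE2, haa', QuadraticMap.polar_smul_right, hax, hQzx]
    simp only [smul_eq_mul]; module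
  have e2a' : E Q a' (ζ • x) a' = a' := by
    rw [hE2, ha'a'', QuadraticMap.polar_smul_right, ha'x]
    simp only [smul_eq_mul]; module
  have hmul : ∀ w, (E Q a x * E Q a' (ζ • x) * E Q a x) w =
      E Q a x (E Q a' (ζ • x) (E Q a x w)) := fun w => rfl
  refine ⟨?_, ?_, ?_, ?_⟩
  · rw [hmul, e1x]
    simp only [map_sub, map_smul, map_add, e2x, e2a, e1x, e1a, e1a']
    rcases hζ with rfl | rfl <;> module
  · rw [hmul, e1a, e2a]
    simp only [map_sub, map_smul, map_add, e1x, e1a, e1a']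
    rcases hζ with rfl | rfl <;> module
  · rw [hmul, e1a']
    simp only [map_sub, map_smul, map_add, e2x, e2a, e2a', e1x, e1a, e1a']
    rcases hζ with rfl | rfl <;> module
  · intro t htx hta hta'
    have h1 : E Q a x t = t := by
      rw [hE1, hta, htx]; module
    have h2 : E Q a' (ζ • x) t = t := by
      rw [hE2, hta', QuadraticMap.polar_smul_right, htx]
      simp only [smul_eq_mul]; module
    rw [hmul, h1, h2, h1]

theorem halfturn_mem_T [Finite F] [FiniteDimensional F V] (Q : QuadraticForm F V)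
    (hf3 : ∀ c : F, c = 0 ∨ c = 1 ∨ c = -1) (h2 : (2 : F) ≠ 0)
    (hQ : (QuadraticMap.polarBilin Q).Nondegenerate) (hdim : 5 ≤ finrank F V)
    {x y f₁ : V} (hx : Q x ≠ 0) (hy : Q y = Q x) (hf : Q f₁ = -Q x)
    (hxy : QuadraticMap.polar (⇑Q) x y = 0) (hxf : QuadraticMap.polar (⇑Q) x f₁ = 0)
    (hyf : QuadraticMap.polar (⇑Q) y f₁ = 0) :
    ∃ h ∈ T Q, h x = -x ∧ h y = -y ∧
      ∀ t : V, QuadraticMap.polar (⇑Q) t x = 0 → QuadraticMap.polar (⇑Q) t y = 0 → h t = t := by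
  obtain ⟨ζ, hζdef⟩ : ∃ ζ : F, Q x = ζ := ⟨_, rfl⟩
  have hζ : ζ = 1 ∨ ζ = -1 := by
    rcases hf3 ζ with h | h | h
    · exact absurd (hζdef.trans h) hx
    · exact Or.inl h
    · exact Or.inr h
  have hζ2 : ζ * ζ = 1 := by
    rcases hζ with rfl | rfl <;> ring
  have hζ0 : ζ ≠ 0 := by
    rw [← hζdef]; exact hx
  have h3 : (3 : F) = 0 := by
    rcases hf3 2 with h | h | h
    · exact absurd h h2
    · exfalso
      have : (1 : F) = 0 := by linear_combination h
      exact one_ne_zero this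
    · linear_combination h
  rw [hζdef] at hy hf
  -- the hyperbolic pair
  obtain ⟨a, hadef⟩ : ∃ a : V, a = y + f₁ := ⟨_, rfl⟩
  obtain ⟨a', ha'def⟩ : ∃ a' : V, a' = ζ • (y - f₁) := ⟨_, rfl⟩
  have hfy : QuadraticMap.polar (⇑Q) f₁ y = 0 := by rw [QuadraticMap.polar_comm, hyf]
  have hyx : QuadraticMap.polar (⇑Q) y x = 0 := by rw [QuadraticMap.polar_comm, hxy]
  have hfx : QuadraticMap.polar (⇑Q) f₁ x = 0 := by rw [QuadraticMap.polar_comm, hxf]
  have hyy : QuadraticMap.polar (⇑Q) y y = 2 * ζ := by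
    rw [Cfsg.Agent.Lib.Helper44_QuadClass.polar_self', hy]
  have hff : QuadraticMap.polar (⇑Q) f₁ f₁ = -(2 * ζ) := by
    rw [Cfsg.Agent.Lib.Helper44_QuadClass.polar_self', hf]; ring
  have ha : Q a = 0 := by
    rw [hadef, QuadraticMap.map_add Q y f₁, hy, hf, hyf]; ring
  have ha' : Q a' = 0 := by
    rw [ha'def, QuadraticMap.map_smul, Cfsg.Agent.Lib.Helper14_OmegaSimple.map_sub' Q, hy, hf, hyf]
    simp
  have haa' : QuadraticMap.polar (⇑Q) a a' = 1 := by
    rw [hadef, ha'def, QuadraticMap.polar_smul_right, QuadraticMap.polar_sub_right,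
      QuadraticMap.polar_add_left, QuadraticMap.polar_add_left, hyy, hff, hyf, hfy, smul_eq_mul]
    linear_combination 4 * hζ2 + h3
  have hax : QuadraticMap.polar (⇑Q) a x = 0 := by
    rw [hadef, QuadraticMap.polar_add_left, hyx, hfx, add_zero]
  have ha'x : QuadraticMap.polar (⇑Q) a' x = 0 := by
    rw [ha'def, QuadraticMap.polar_smul_left, QuadraticMap.polar_sub_left, hyx, hfx, sub_zero,
      smul_zero]
  have ha'zx : QuadraticMap.polar (⇑Q) a' (ζ • x) = 0 := by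
    rw [QuadraticMap.polar_smul_right, ha'x, smul_zero]
  obtain ⟨hhx, hha, hha', hht⟩ := half_core Q ζ hζ hζdef ha ha' haa' hax ha'x
  obtain ⟨h, hhdef⟩ : ∃ h : V ≃ₗ[F] V, h = E Q a x * E Q a' (ζ • x) * E Q a x := ⟨_, rfl⟩
  rw [← hhdef] at hhx hha hha' hht
  have hmem : h ∈ T Q := by
    rw [hhdef]
    exact Subgroup.mul_mem _ (Subgroup.mul_mem _ (E_mem_T Q hQ hdim ha hax)
      (E_mem_T Q hQ hdim ha' ha'zx)) (E_mem_T Q hQ hdim ha hax)
  -- `2 y = a + ζ a'`, `2 f₁ = a - ζ a'`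
  have hy2 : (2 : F) • y = a + ζ • a' := by
    rw [hadef, ha'def, smul_smul, hζ2]; module
  have hf2 : (2 : F) • f₁ = a - ζ • a' := by
    rw [hadef, ha'def, smul_smul, hζ2]; module
  have hhy : h y = -y := by
    have h1 : (2 : F) • h y = (2 : F) • (-y) := by
      rw [← map_smul, hy2, map_add, map_smul, hha, hha', smul_neg, smul_neg, hy2, smul_smul, hζ2]
      module
    exact smul_right_injective V h2 h1
  have hhf : h f₁ = f₁ := by
    have h1 : (2 : F) • h f₁ = (2 : F) • f₁ := by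
      rw [← map_smul, hf2, map_sub, map_smul, hha, hha', smul_neg, smul_smul, hζ2]
      module
    exact smul_right_injective V h2 h1
  refine ⟨h, hmem, hhx, hhy, ?_⟩
  intro t htx hty
  -- decompose `t = t₀ + c f₁`
  obtain ⟨c, hc⟩ : ∃ c : F, c = QuadraticMap.polar (⇑Q) t f₁ * (-(2 * ζ))⁻¹ := ⟨_, rfl⟩
  have hne : -(2 * ζ) ≠ 0 := neg_ne_zero.2 (mul_ne_zero h2 hζ0)
  have ht0f : QuadraticMap.polar (⇑Q) (t - c • f₁) f₁ = 0 := by
    rw [QuadraticMap.polar_sub_left, QuadraticMap.polar_smul_left, hff, hc, smul_eq_mul,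
      mul_assoc, inv_mul_cancel₀ hne, mul_one, sub_self]
  have ht0x : QuadraticMap.polar (⇑Q) (t - c • f₁) x = 0 := by
    rw [QuadraticMap.polar_sub_left, QuadraticMap.polar_smul_left, hfx, htx, smul_zero, sub_zero]
  have ht0y : QuadraticMap.polar (⇑Q) (t - c • f₁) y = 0 := by
    rw [QuadraticMap.polar_sub_left, QuadraticMap.polar_smul_left, hfy, hty, smul_zero, sub_zero]
  have ht0a : QuadraticMap.polar (⇑Q) (t - c • f₁) a = 0 := by
    rw [hadef, QuadraticMap.polar_add_right, ht0y, ht0f, add_zero]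
  have ht0a' : QuadraticMap.polar (⇑Q) (t - c • f₁) a' = 0 := by
    rw [ha'def, QuadraticMap.polar_smul_right, QuadraticMap.polar_sub_right, ht0y, ht0f, sub_zero,
      smul_zero]
  have h1 := hht _ ht0x ht0a ht0a'
  have h2' : t = (t - c • f₁) + c • f₁ := by abel
  rw [h2', map_add, map_smul, h1, hhf]

end Cfsg.Agent.Lib.Helper24_M3M_HALF
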