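import Mathlib
import Cfsg.Agent.Lib.Helper38_MIODefs
import Cfsg.Agent.Lib.Helper17_MIO_TR

set_option autoImplicit false
set_option linter.unusedSectionVars false
set_option linter.unusedVariables false

namespace Cfsg.Agent.Lib.Helper24_MIO_BIG

open Module Cfsg.Agent.Lib.Helper94_OrthSmall Cfsg.Agent.Lib.Helper44_QuadClass
  Cfsg.Agent.Lib.Helper14_OmegaSimple Cfsg.Agent.Lib.Helper38_MIODefs

section part1

variable {F W : Type*} [Field F] [Fintype F] [AddCommGroup W] [Module F W] [FiniteDimensional F W]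

/-- The hyperplane `μ^⊥` has `q^(n-1)` elements. -/
theorem card_orth_le (Q : QuadraticForm F W) (hQ : (QuadraticMap.polarBilin Q).Nondegenerate)
    {μ : W} (hμ : μ ≠ 0) (S : AddSubgroup W)
    (hS : ∀ x : W, QuadraticMap.polar (⇑Q) μ x = 0 → x ∈ S) :
    Fintype.card F ^ (finrank F W - 1) ≤ Nat.card S := by
  classical
  have : Finite W := Module.finite_of_finite F
  have : Fintype W := Fintype.ofFinite W
  set B : LinearMap.BilinForm F W := QuadraticMap.polarBilin Q with hB
  have hBa : ∀ x y, B x y = QuadraticMap.polar (⇑Q) x y := fun x y => rfl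
  set U : Submodule F W := B.orthogonal (F ∙ μ) with hU
  have hUdim : finrank F U = finrank F W - 1 := by
    rw [hU, LinearMap.BilinForm.finrank_orthogonal hQ, finrank_span_singleton hμ]
  have hUS : U.toAddSubgroup ≤ S := by
    intro x hx
    apply hS
    have hx' : x ∈ B.orthogonal (F ∙ μ) := hx
    rw [LinearMap.BilinForm.mem_orthogonal_iff] at hx'
    exact hx' μ (Submodule.mem_span_singleton_self μ)
  have h1 := AddSubgroup.card_le_of_le hUS
  have h2 : Nat.card U.toAddSubgroup = Fintype.card F ^ (finrank F W - 1) := by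
    rw [← hUdim]
    have : Fintype U := Fintype.ofFinite U
    rw [← Module.card_eq_pow_finrank (K := F) (V := U), ← Nat.card_eq_fintype_card]
    rfl
  rw [h2] at h1
  exact h1

theorem big (Q : QuadraticForm F W) (hQ : (QuadraticMap.polarBilin Q).Nondegenerate)
    (hdim : 5 ≤ finrank F W) {𝒪 : Type*} [Fintype 𝒪] (C : 𝒪 → AddSubgroup W) (p : ℕ)
    (hS : SiegSym Q p C) (hnt : ∀ O, C O ≠ ⊤) {l : W} (hQl : Q l ≠ 0) {O₁ : 𝒪}
    (hbig : ∀ x : W, QuadraticMap.polar (⇑Q) l x = 0 → x ∈ C O₁) (ℓ : ℕ)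
    (hL : ℓ ≤ Nat.card {x : W // Q x = Q l}) :
    ℓ * Fintype.card F ^ (finrank F W - 1) ≤ 2 * ∑ O, Nat.card (C O) := by
  classical
  have : Finite W := Module.finite_of_finite F
  -- the invariant property
  obtain ⟨P, hP⟩ : ∃ P : W → Prop, P = fun μ =>
      ∃ O, ∀ x : W, QuadraticMap.polar (⇑Q) μ x = 0 → x ∈ C O := ⟨_, rfl⟩
  have hPinv : ∀ u z : W, Q u = 0 → QuadraticMap.polar (⇑Q) u z = 0 → ∀ μ, P μ →
      P (E Q u z μ) := by
    intro u z hu huz μ hμ
    rw [hP] at hμ ⊢
    obtain ⟨O, hO⟩ := hμ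
    obtain ⟨π, -, hπ⟩ := hS u z hu huz
    refine ⟨π O, ?_⟩
    intro x hx
    have hmem := E_mem_oG Q hu huz
    have h1 : E Q u z ((E Q u z).symm x) = x := LinearEquiv.apply_symm_apply _ _
    have h2 : QuadraticMap.polar (⇑Q) μ ((E Q u z).symm x) = 0 := by
      rw [← oG_polar Q hmem, h1]
      exact hx
    have h3 := (hπ O _).1 (hO _ h2)
    rwa [h1] at h3
  have hPiff : ∀ u z : W, Q u = 0 → QuadraticMap.polar (⇑Q) u z = 0 → ∀ μ,
      P (E Q u z μ) = P μ := by
    intro u z hu huz μ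
    refine propext ⟨fun h => ?_, hPinv u z hu huz μ⟩
    have huz' : QuadraticMap.polar (⇑Q) u (-z) = 0 := by
      rw [QuadraticMap.polar_neg_right, huz, neg_zero]
    have h1 := hPinv u (-z) hu huz' _ h
    have h2 : E Q u (-z) (E Q u z μ) = μ := by
      rw [← E_inv Q hu huz]
      show ((E Q u z)⁻¹ * E Q u z) μ = μ
      rw [inv_mul_cancel]
      rfl
    rwa [h2] at h1
  have hl0 : l ≠ 0 := by
    rintro rfl
    exact hQl (map_zero _)
  have hPl : P l := by
    rw [hP]
    exact ⟨O₁, hbig⟩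
  have hPall : ∀ μ : W, Q μ = Q l → P μ := by
    intro μ hμ
    have hμ0 : μ ≠ 0 := by
      rintro rfl
      exact hQl (by rw [← hμ, map_zero])
    have := Cfsg.Agent.Lib.Helper17_MIO_TR.tr_const Q hQ hdim P hPiff hl0 hμ0 hμ.symm
    rw [← this]
    exact hPl
  rw [hP] at hPall
  choose φ hφ using hPall
  -- fibres
  have hfib : ∀ μ μ' : W, ∀ (h : Q μ = Q l) (h' : Q μ' = Q l), φ μ h = φ μ' h' →
      μ' = μ ∨ μ' = -μ := by
    intro μ μ' h h' heq
    by_cases hsp : μ' ∈ Submodule.span F {μ}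
    · obtain ⟨a, rfl⟩ := Submodule.mem_span_singleton.1 hsp
      rw [QuadraticMap.map_smul, smul_eq_mul, h] at h'
      have h1 : (a - 1) * (a + 1) = 0 := by
        have h2 : (a * a - 1) * Q l = 0 := by linear_combination h'
        rcases mul_eq_zero.1 h2 with h3 | h3
        · linear_combination h3
        · exact absurd h3 hQl
      rcases mul_eq_zero.1 h1 with h2 | h2
      · left
        rw [sub_eq_zero.1 h2, one_smul]
      · right
        rw [eq_neg_of_add_eq_zero_left h2, neg_smul, one_smul]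
    · exfalso
      have hQμ : Q μ ≠ 0 := by rw [h]; exact hQl
      obtain ⟨s, hs, hsμ, hsμ'⟩ := exists_singular_orth_polar_ns Q hQ hdim hQμ hsp 1
      apply hnt (φ μ h)
      rw [eq_top_iff]
      intro w _
      have h1 : w = (w - QuadraticMap.polar (⇑Q) μ' w • s) + QuadraticMap.polar (⇑Q) μ' w • s := by
        abel
      rw [h1]
      refine AddSubgroup.add_mem _ ?_ ?_
      · rw [heq]
        apply hφ μ' h'
        rw [QuadraticMap.polar_sub_right, QuadraticMap.polar_smul_right,
          QuadraticMap.polar_comm (⇑Q) μ' s, hsμ', smul_eq_mul, mul_one, sub_self]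
      · apply hφ μ h
        rw [QuadraticMap.polar_smul_right, QuadraticMap.polar_comm (⇑Q) μ s, hsμ, smul_zero]
  -- counting
  have : Fintype {x : W // Q x = Q l} := Fintype.ofFinite _
  obtain ⟨Φ, hΦ⟩ : ∃ Φ : {x : W // Q x = Q l} → 𝒪, Φ = fun μ => φ μ.1 μ.2 := ⟨_, rfl⟩
  have hcard : (Finset.univ : Finset {x : W // Q x = Q l}).card ≤
      2 * (Finset.image Φ Finset.univ).card := by
    apply Finset.card_le_mul_card_image
    intro b hb
    obtain ⟨μ₀, -, rfl⟩ := Finset.mem_image.1 hb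
    have hneg : Q (-μ₀.1) = Q l := by rw [QuadraticMap.map_neg]; exact μ₀.2
    have hsub : (Finset.univ.filter fun a => Φ a = Φ μ₀) ⊆
        ({μ₀, ⟨-μ₀.1, hneg⟩} : Finset {x : W // Q x = Q l}) := by
      intro a ha
      rw [Finset.mem_filter] at ha
      have := hfib μ₀.1 a.1 μ₀.2 a.2 (by
        have h1 := ha.2
        rw [hΦ] at h1
        exact h1.symm)
      rw [Finset.mem_insert, Finset.mem_singleton]
      rcases this with h1 | h1
      · left; exact Subtype.ext h1
      · right; exact Subtype.ext h1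
    exact le_trans (Finset.card_le_card hsub) Finset.card_le_two
  have hmem : ∀ O ∈ Finset.image Φ Finset.univ,
      Fintype.card F ^ (finrank F W - 1) ≤ Nat.card (C O) := by
    intro O hO
    obtain ⟨μ, -, rfl⟩ := Finset.mem_image.1 hO
    have hμ0 : μ.1 ≠ 0 := by
      intro h0
      apply hQl
      rw [← μ.2, h0, map_zero]
    apply card_orth_le Q hQ hμ0
    rw [hΦ]
    exact hφ μ.1 μ.2
  have h1 : (Finset.image Φ Finset.univ).card • Fintype.card F ^ (finrank F W - 1) ≤
      ∑ O ∈ Finset.image Φ Finset.univ, Nat.card (C O) :=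
    Finset.card_nsmul_le_sum _ _ _ hmem
  have h2 : ∑ O ∈ Finset.image Φ Finset.univ, Nat.card (C O) ≤ ∑ O, Nat.card (C O) :=
    Finset.sum_le_sum_of_subset (Finset.subset_univ _)
  rw [smul_eq_mul] at h1
  rw [Nat.card_eq_fintype_card, ← Finset.card_univ] at hL
  calc ℓ * Fintype.card F ^ (finrank F W - 1)
      ≤ (2 * (Finset.image Φ Finset.univ).card) * Fintype.card F ^ (finrank F W - 1) :=
        Nat.mul_le_mul_right _ (le_trans hL hcard)
    _ = 2 * ((Finset.image Φ Finset.univ).card * Fintype.card F ^ (finrank F W - 1)) := by ring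
    _ ≤ 2 * ∑ O, Nat.card (C O) := Nat.mul_le_mul_left _ (le_trans h1 h2)

end part1

end Cfsg.Agent.Lib.Helper24_MIO_BIG
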