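import Mathlib
import Cfsg.Agent.Lib.Helper38_MIODefs

set_option autoImplicit false
set_option linter.unusedSectionVars false
set_option linter.unusedVariables false

namespace Cfsg.Agent.Lib.Helper24_MIO_INVTS

open Module Cfsg.Agent.Lib.Helper94_OrthSmall Cfsg.Agent.Lib.Helper44_QuadClass
  Cfsg.Agent.Lib.Helper14_OmegaSimple Cfsg.Agent.Lib.Helper38_MIODefs

section part1

variable {F W : Type*} [Field F] [Fintype F] [AddCommGroup W] [Module F W] [FiniteDimensional F W]

/-- In dimension `≥ 5`, the common orthogonal of two vectors contains a non-singular vector. -/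
theorem exists_nonsingular_orth (Q : QuadraticForm F W)
    (hQ : (QuadraticMap.polarBilin Q).Nondegenerate) (hdim : 5 ≤ finrank F W) (u l : W) :
    ∃ z : W, QuadraticMap.polar (⇑Q) u z = 0 ∧ QuadraticMap.polar (⇑Q) l z = 0 ∧ Q z ≠ 0 := by
  classical
  set B : LinearMap.BilinForm F W := QuadraticMap.polarBilin Q with hB
  have hBa : ∀ x y, B x y = QuadraticMap.polar (⇑Q) x y := fun x y => rfl
  have hrefl : LinearMap.BilinForm.IsRefl B := fun x y h => by
    rw [hBa] at h ⊢; rw [QuadraticMap.polar_comm]; exact h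
  set K : Submodule F W := Submodule.span F {u, l} with hK
  have hKdim : finrank F K ≤ 2 := by
    have h1 := finrank_span_le_card (R := F) ({u, l} : Set W)
    have h2 : ({u, l} : Set W).toFinset.card ≤ 2 := by
      have : ({u, l} : Set W).toFinset = ({u, l} : Finset W) := by
        ext x; simp
      rw [this]
      exact Finset.card_le_two
    exact le_trans h1 h2
  set U : Submodule F W := B.orthogonal K with hU
  have hUdim : finrank F U = finrank F W - finrank F K :=
    LinearMap.BilinForm.finrank_orthogonal hQ K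
  by_contra hcon
  push Not at hcon
  have hmemU : ∀ z, z ∈ U ↔ B u z = 0 ∧ B l z = 0 := by
    intro z
    rw [hU, LinearMap.BilinForm.mem_orthogonal_iff]
    constructor
    · intro h
      exact ⟨h u (Submodule.subset_span (by simp)), h l (Submodule.subset_span (by simp))⟩
    · rintro ⟨h1, h2⟩ n hn
      rw [hK] at hn
      obtain ⟨a, b, rfl⟩ := Submodule.mem_span_pair.1 hn
      show B (a • u + b • l) z = 0
      rw [map_add, LinearMap.add_apply, map_smul, map_smul, LinearMap.smul_apply,
        LinearMap.smul_apply, h1, h2]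
      simp
  have hts : ∀ z ∈ U, Q z = 0 := by
    intro z hz
    have := (hmemU z).1 hz
    exact hcon z this.1 this.2
  have hUU : U ≤ B.orthogonal U := by
    intro z hz
    rw [LinearMap.BilinForm.mem_orthogonal_iff]
    intro n hn
    show B n z = 0
    rw [hBa, QuadraticMap.polar, hts _ (U.add_mem hn hz), hts _ hn, hts _ hz]
    ring
  have h3 : finrank F (B.orthogonal U : Submodule F W) = finrank F W - finrank F U :=
    LinearMap.BilinForm.finrank_orthogonal hQ U
  have h4 := Submodule.finrank_mono hUU
  have h5 : finrank F U ≤ finrank F W := Submodule.finrank_le U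
  omega

theorem invts (Q : QuadraticForm F W) (hQ : (QuadraticMap.polarBilin Q).Nondegenerate)
    (hdim : 5 ≤ finrank F W) (S : AddSubgroup W) (hts : ∀ x ∈ S, Q x = 0) {l : W} (hl : l ∈ S)
    (h0 : l ≠ 0)
    (hinv : ∀ u z : W, Q u = 0 → QuadraticMap.polar (⇑Q) u z = 0 → E Q u z l = l →
      ∀ x ∈ S, E Q u z x ∈ S) :
    ∀ x ∈ S, ∃ a : F, x = a • l := by
  intro x hx
  by_contra hcon
  push Not at hcon
  have hxl : x ∉ Submodule.span F {l} := by
    intro h
    obtain ⟨a, ha⟩ := Submodule.mem_span_singleton.1 h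
    exact hcon a ha.symm
  have hQl : Q l = 0 := hts l hl
  have hQx : Q x = 0 := hts x hx
  have hBlx : QuadraticMap.polar (⇑Q) l x = 0 := by
    rw [QuadraticMap.polar, hts _ (S.add_mem hl hx), hQl, hQx]
    ring
  obtain ⟨u, hu, hlu, hux⟩ := Cfsg.Agent.Lib.Helper14_Siegel.exists_singular_orth_polar Q hQ hdim h0 hQl hBlx hxl 1
  obtain ⟨z, huz, hlz, hQz⟩ := exists_nonsingular_orth Q hQ hdim u l
  have hxu : QuadraticMap.polar (⇑Q) x u = 1 := by rw [QuadraticMap.polar_comm, hux]
  have hfix : E Q u z l = l := by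
    rw [E_apply Q hu huz, hlu, hlz]
    simp
  have hEx := hinv u z hu huz hfix x hx
  have hsum := hts _ (S.add_mem hx hEx)
  have hQE : Q (E Q u z x) = 0 := hts _ hEx
  have hpol : QuadraticMap.polar (⇑Q) x (E Q u z x) = 0 := by
    rw [QuadraticMap.polar, hsum, hQx, hQE]
    ring
  rw [E_apply Q hu huz, hxu] at hpol
  simp only [QuadraticMap.polar_sub_right, QuadraticMap.polar_add_right,
    QuadraticMap.polar_smul_right, polar_self', hQx, hxu, smul_eq_mul] at hpol
  apply hQz
  linear_combination -hpol

end part1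

end Cfsg.Agent.Lib.Helper24_MIO_INVTS
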