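import Mathlib

set_option autoImplicit false

/-!
Shared definitions for S2140 (minimal index of a proper subgroup of `PSL_n(q)`, `n ≥ 3`):
transvections `tv φ w` as elements of the abstract special linear group `SpecialLinearGroup F V`,
the group `axisGrp φ` of all transvections with axis `ker φ`, and the group `centerGrp v` of all
transvections with centre `v`.
-/

namespace Cfsg.Agent.Lib.Helper72_MinIdxDefs

open Module

variable {F : Type*} [Field F] {V : Type*} [AddCommGroup V] [Module F V]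

/-- the transvection `x ↦ x + φ x • w` (`φ w = 0`) as an element of `SL(V)`. -/
noncomputable def tv (φ : Dual F V) (w : V) (h : φ w = 0) : SpecialLinearGroup F V :=
  ⟨LinearEquiv.transvection h, LinearEquiv.transvection.det_eq_one h⟩

@[simp] theorem tv_apply (φ : Dual F V) (w : V) (h : φ w = 0) (x : V) :
    (tv φ w h) x = x + φ x • w := rfl

theorem tv_congr {φ φ' : Dual F V} {w w' : V} (h : φ w = 0) (hφ : φ = φ') (hw : w = w') :
    tv φ w h = tv φ' w' (by rw [← hφ, ← hw]; exact h) := by
  subst hφ; subst hw; rfl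

theorem tv_zero_right (φ : Dual F V) : tv φ 0 (map_zero φ) = 1 := by
  apply SpecialLinearGroup.ext; intro x; simp

theorem tv_zero_left (w : V) : tv (0 : Dual F V) w (LinearMap.zero_apply w) = 1 := by
  apply SpecialLinearGroup.ext; intro x; simp

theorem mul_apply' (g h : SpecialLinearGroup F V) (x : V) : (g * h) x = g (h x) := rfl

theorem one_apply' (x : V) : (1 : SpecialLinearGroup F V) x = x := rfl

theorem inv_apply_self' (g : SpecialLinearGroup F V) (x : V) : g⁻¹ (g x) = x := by
  rw [← mul_apply', inv_mul_cancel, one_apply']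

theorem apply_inv_self' (g : SpecialLinearGroup F V) (x : V) : g (g⁻¹ x) = x := by
  rw [← mul_apply', mul_inv_cancel, one_apply']

theorem map_add' (g : SpecialLinearGroup F V) (x y : V) : g (x + y) = g x + g y :=
  map_add g.1 x y

theorem map_smul' (g : SpecialLinearGroup F V) (c : F) (x : V) : g (c • x) = c • g x :=
  map_smul g.1 c x

theorem tv_mul_same_axis (φ : Dual F V) (w w' : V) (h : φ w = 0) (h' : φ w' = 0) :
    tv φ w h * tv φ w' h' = tv φ (w + w') (by rw [map_add, h, h', add_zero]) := by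
  apply SpecialLinearGroup.ext; intro x
  simp only [mul_apply', tv_apply, map_add, map_smul, h', zero_smul, smul_zero, add_zero, smul_add]
  abel

theorem tv_mul_same_center (φ φ' : Dual F V) (v : V) (h : φ v = 0) (h' : φ' v = 0) :
    tv φ v h * tv φ' v h' = tv (φ + φ') v (by rw [LinearMap.add_apply, h, h', add_zero]) := by
  apply SpecialLinearGroup.ext; intro x
  simp only [mul_apply', tv_apply, map_add, map_smul, h, zero_smul, smul_zero, add_zero,
    LinearMap.add_apply, add_smul]
  abel

theorem tv_inv (φ : Dual F V) (w : V) (h : φ w = 0) :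
    (tv φ w h)⁻¹ = tv φ (-w) (by rw [map_neg, h, neg_zero]) := by
  rw [inv_eq_iff_mul_eq_one, tv_mul_same_axis]
  rw [tv_congr (φ' := φ) (w' := 0) _ rfl (add_neg_cancel w), tv_zero_right]

/-- the conjugation formula: `g (1 + w ⊗ φ) g⁻¹ = 1 + g w ⊗ φ ∘ g⁻¹`. -/
theorem conj_tv (g : SpecialLinearGroup F V) (φ : Dual F V) (w : V) (h : φ w = 0) :
    g * tv φ w h * g⁻¹ =
      tv (φ.comp (g⁻¹).1.toLinearMap) (g w) (by
        show φ (g⁻¹ (g w)) = 0
        rw [inv_apply_self', h]) := by
  apply SpecialLinearGroup.ext; intro x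
  simp only [mul_apply', tv_apply, map_add', map_smul', apply_inv_self']
  rfl

/-- the group of all transvections with axis `ker φ` (for `φ ≠ 0`). -/
def axisGrp (φ : Dual F V) : Subgroup (SpecialLinearGroup F V) where
  carrier := {g | ∃ (w : V) (h : φ w = 0), g = tv φ w h}
  one_mem' := ⟨0, map_zero φ, (tv_zero_right φ).symm⟩
  mul_mem' := by
    rintro _ _ ⟨w, h, rfl⟩ ⟨w', h', rfl⟩
    exact ⟨w + w', _, tv_mul_same_axis φ w w' h h'⟩
  inv_mem' := by
    rintro _ ⟨w, h, rfl⟩
    exact ⟨-w, _, tv_inv φ w h⟩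

theorem mem_axisGrp {φ : Dual F V} {g : SpecialLinearGroup F V} :
    g ∈ axisGrp φ ↔ ∃ (w : V) (h : φ w = 0), g = tv φ w h := Iff.rfl

theorem tv_mem_axisGrp (φ : Dual F V) (w : V) (h : φ w = 0) : tv φ w h ∈ axisGrp φ :=
  ⟨w, h, rfl⟩

variable (F) in
/-- the group of all transvections with centre `v` (for `v ≠ 0`); the field `F` is explicit. -/
def centerGrp (v : V) : Subgroup (SpecialLinearGroup F V) where
  carrier := {g | ∃ (α : Dual F V) (h : α v = 0), g = tv α v h}
  one_mem' := ⟨0, LinearMap.zero_apply v, (tv_zero_left v).symm⟩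
  mul_mem' := by
    rintro _ _ ⟨α, h, rfl⟩ ⟨α', h', rfl⟩
    exact ⟨α + α', _, tv_mul_same_center α α' v h h'⟩
  inv_mem' := by
    rintro _ ⟨α, h, rfl⟩
    refine ⟨-α, by rw [LinearMap.neg_apply, h, neg_zero], ?_⟩
    rw [inv_eq_iff_mul_eq_one, tv_mul_same_center]
    rw [tv_congr (φ' := (0 : Dual F V)) (w' := v) _ (add_neg_cancel α) rfl, tv_zero_left]

theorem mem_centerGrp {v : V} {g : SpecialLinearGroup F V} :
    g ∈ centerGrp F v ↔ ∃ (α : Dual F V) (h : α v = 0), g = tv α v h := Iff.rfl

theorem tv_mem_centerGrp (α : Dual F V) (v : V) (h : α v = 0) : tv α v h ∈ centerGrp F v :=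
  ⟨α, h, rfl⟩

/-- `tv φ · ` is injective for `φ ≠ 0`. -/
theorem tv_injective {φ : Dual F V} (hφ : φ ≠ 0) {w w' : V} (h : φ w = 0) (h' : φ w' = 0)
    (heq : tv φ w h = tv φ w' h') : w = w' := by
  obtain ⟨x, hx⟩ : ∃ x, φ x ≠ 0 := by
    by_contra hcon
    exact hφ (LinearMap.ext fun x => by
      by_contra hx
      exact hcon ⟨x, hx⟩)
  have h1 : (tv φ w h) x = (tv φ w' h') x := by rw [heq]
  simp only [tv_apply, add_right_inj] at h1
  exact smul_right_injective V hx h1

/-- `w ↦ tv φ w` as a homomorphism from (the multiplicative copy of) `ker φ`. -/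
noncomputable def axisHom (φ : Dual F V) :
    Multiplicative (LinearMap.ker φ) →* SpecialLinearGroup F V where
  toFun w := tv φ (Multiplicative.toAdd w).1 (LinearMap.mem_ker.1 (Multiplicative.toAdd w).2)
  map_one' := tv_zero_right φ
  map_mul' a b := (tv_mul_same_axis φ _ _ _ _).symm

theorem axisHom_apply (φ : Dual F V) (w : Multiplicative (LinearMap.ker φ)) :
    axisHom φ w = tv φ (Multiplicative.toAdd w).1
      (LinearMap.mem_ker.1 (Multiplicative.toAdd w).2) := rfl

theorem axisHom_range (φ : Dual F V) : (axisHom φ).range = axisGrp φ := by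
  ext g
  constructor
  · rintro ⟨w, rfl⟩
    exact ⟨_, _, rfl⟩
  · rintro ⟨w, h, rfl⟩
    exact ⟨Multiplicative.ofAdd ⟨w, LinearMap.mem_ker.2 h⟩, rfl⟩

theorem axisHom_injective {φ : Dual F V} (hφ : φ ≠ 0) : Function.Injective (axisHom φ) := by
  intro a b hab
  have := tv_injective hφ _ _ hab
  exact Multiplicative.toAdd.injective (Subtype.ext this)

/-- `axisGrp φ` is commutative. -/
theorem axisGrp_comm (φ : Dual F V) {a b : SpecialLinearGroup F V} (ha : a ∈ axisGrp φ)
    (hb : b ∈ axisGrp φ) : a * b = b * a := by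
  obtain ⟨w, h, rfl⟩ := ha
  obtain ⟨w', h', rfl⟩ := hb
  rw [tv_mul_same_axis, tv_mul_same_axis]
  exact tv_congr _ rfl (add_comm w w')

instance instFiniteSLV [Finite F] [Module.Finite F V] : Finite (SpecialLinearGroup F V) := by
  have : Finite V := Module.finite_of_finite F
  exact Finite.of_injective (fun g : SpecialLinearGroup F V => (g : V → V))
    (fun g h hgh => SpecialLinearGroup.ext _ _ (fun x => congrFun hgh x))

/-- the number `1 + q + ⋯ + q^(n-1)` of points of `PG(n-1,q)`. -/
def Npts (q n : ℕ) : ℕ := ∑ i ∈ Finset.range n, q ^ i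

theorem Npts_eq (q n : ℕ) (hq : 2 ≤ q) : Npts q n = (q ^ n - 1) / (q - 1) :=
  Nat.geomSum_eq hq n

end Cfsg.Agent.Lib.Helper72_MinIdxDefs
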