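import Mathlib
import Cfsg.Agent.Lib.Helper72_MinIdxDefs

set_option autoImplicit false
set_option linter.unusedSimpArgs false
set_option linter.unusedVariables false

/-! MI-R1B-CORE: flag calculus identities in `SL(V)` for S2140. -/

namespace Cfsg.Agent.Lib.Helper72_MI_R1BCore

open Module Cfsg.Agent.Lib.Helper72_MinIdxDefs

variable {F : Type*} [Field F] {V : Type*} [AddCommGroup V] [Module F V]

/-- product of two elements of the same flag group. -/
theorem flag_mul (φ α α' : Dual F V) (v w w' : V) (hv : φ v = 0) (hα : α v = 0)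
    (hα' : α' v = 0) (hw : φ w = 0) (hw' : φ w' = 0) :
    (tv φ w hw * tv α v hα) * (tv φ w' hw' * tv α' v hα') =
      tv φ (w + w' + α w' • v) (by
        rw [map_add, map_add, map_smul, hw, hw', hv, smul_zero, add_zero, add_zero]) *
      tv (α + α') v (by rw [LinearMap.add_apply, hα, hα', add_zero]) := by
  apply SpecialLinearGroup.ext; intro x
  simp only [mul_apply', tv_apply, map_add, map_smul, hv, hα, hα', hw, hw', smul_eq_mul,
    mul_zero, add_zero, zero_smul, smul_add, LinearMap.add_apply, add_smul, smul_smul, zero_add]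
  module

/-- same `α`: the quotient is `tv φ (w - w')`. -/
theorem flag_div_same_alpha (φ α : Dual F V) (v w w' : V) (hv : φ v = 0) (hα : α v = 0)
    (hw : φ w = 0) (hw' : φ w' = 0) :
    (tv φ w hw * tv α v hα) * (tv φ w' hw' * tv α v hα)⁻¹ =
      tv φ (w - w') (by rw [map_sub, hw, hw', sub_zero]) := by
  rw [mul_inv_rev, mul_assoc, ← mul_assoc (tv α v hα), mul_inv_cancel, one_mul, tv_inv,
    tv_mul_same_axis]
  exact tv_congr _ rfl (sub_eq_add_neg w w').symm

/-- `w' = w + c v`: the quotient is a transvection with centre `v`. -/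
theorem flag_div_same_w (φ α α' : Dual F V) (v w : V) (c : F) (hv : φ v = 0) (hα : α v = 0)
    (hα' : α' v = 0) (hw : φ w = 0) :
    (tv φ w hw * tv α v hα)⁻¹ *
        (tv φ (w + c • v) (by rw [map_add, map_smul, hw, hv, smul_zero, add_zero]) * tv α' v hα') =
      tv (α' - α + c • φ) v (by
        simp [hα, hα', hv]) := by
  rw [inv_mul_eq_iff_eq_mul]
  apply SpecialLinearGroup.ext; intro x
  simp only [mul_apply', tv_apply, map_add, map_smul, map_sub, hv, hα, hα', hw, smul_eq_mul,
    mul_zero, add_zero, zero_smul, smul_add, LinearMap.add_apply, LinearMap.sub_apply, sub_zero,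
    LinearMap.smul_apply, add_smul, sub_smul, smul_smul, zero_add]
  module

/-- commutator of two elements of the same flag group. -/
theorem flag_comm (φ α α' : Dual F V) (v w w' : V) (hv : φ v = 0) (hα : α v = 0)
    (hα' : α' v = 0) (hw : φ w = 0) (hw' : φ w' = 0) :
    (tv φ w hw * tv α v hα) * (tv φ w' hw' * tv α' v hα') *
        (tv φ w hw * tv α v hα)⁻¹ * (tv φ w' hw' * tv α' v hα')⁻¹ =
      tv φ ((α w' - α' w) • v) (by rw [map_smul, hv, smul_zero]) := by
  rw [mul_inv_eq_iff_eq_mul, mul_inv_eq_iff_eq_mul]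
  apply SpecialLinearGroup.ext; intro x
  simp only [mul_apply', tv_apply, map_add, map_smul, hv, hα, hα', hw, hw', smul_eq_mul,
    mul_zero, add_zero, zero_smul, smul_add, LinearMap.add_apply, add_smul, smul_smul, zero_add,
    sub_smul]
  module

/-- commutator of elements of two flags `(v, φ)`, `(v', φ)` with `α v' = 0 = α' v`. -/
theorem two_flag_comm (φ α α' : Dual F V) (v v' w w' : V) (hv : φ v = 0) (hv' : φ v' = 0)
    (hα : α v = 0) (hα' : α' v' = 0) (hαv' : α v' = 0) (hα'v : α' v = 0)
    (hw : φ w = 0) (hw' : φ w' = 0) :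
    (tv φ w hw * tv α v hα) * (tv φ w' hw' * tv α' v' hα') *
        (tv φ w hw * tv α v hα)⁻¹ * (tv φ w' hw' * tv α' v' hα')⁻¹ =
      tv φ (α w' • v - α' w • v') (by
        rw [map_sub, map_smul, map_smul, hv, hv', smul_zero, smul_zero, sub_zero]) := by
  rw [mul_inv_eq_iff_eq_mul, mul_inv_eq_iff_eq_mul]
  apply SpecialLinearGroup.ext; intro x
  simp only [mul_apply', tv_apply, map_add, map_smul, map_sub, hv, hv', hα, hα', hαv', hα'v, hw,
    hw', smul_eq_mul,
    mul_zero, add_zero, zero_smul, smul_add, LinearMap.add_apply, add_smul, smul_smul, zero_add,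
    sub_smul, smul_sub, sub_zero]
  module

end Cfsg.Agent.Lib.Helper72_MI_R1BCore
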