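import Mathlib
import Cfsg.Agent.Lib.Helper72_MinIdxDefs
import Cfsg.Agent.Lib.Helper72_MI_R1BCore
import Cfsg.Agent.Lib.Helper99_SubspaceCount

set_option autoImplicit false

namespace Cfsg.Agent.Lib.Helper24_MI_IDX

open Module Cfsg.Agent.Lib.Helper72_MinIdxDefs Cfsg.Agent.Lib.Helper72_MI_R1BCore

variable {F : Type*} [Field F] {V : Type*} [AddCommGroup V] [Module F V]

/-- `SL(V)` is transitive on the proper subspaces of a given dimension. -/
theorem exists_sl_map_eq [Module.Finite F V] (U U' : Submodule F V)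
    (hfr : finrank F U = finrank F U') (hU' : U' ≠ ⊤) :
    ∃ g : SpecialLinearGroup F V, U.map (g.1 : V ≃ₗ[F] V).toLinearMap = U' := by
  obtain ⟨C, hC⟩ := U.exists_isCompl
  obtain ⟨C', hC'⟩ := U'.exists_isCompl
  have hfrC : finrank F C = finrank F C' := by
    have h1 := Submodule.finrank_add_eq_of_isCompl hC
    have h2 := Submodule.finrank_add_eq_of_isCompl hC'
    omega
  let e₁ := LinearEquiv.ofFinrankEq U U' hfr
  let e₂ := LinearEquiv.ofFinrankEq C C' hfrC
  let g₀ : V ≃ₗ[F] V := (Submodule.prodEquivOfIsCompl U C hC).symm ≪≫ₗ (e₁.prodCongr e₂) ≪≫ₗ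
    (Submodule.prodEquivOfIsCompl U' C' hC')
  have hg₀ : ∀ x ∈ U, g₀ x ∈ U' := by
    intro x hx
    have h1 : (Submodule.prodEquivOfIsCompl U C hC).symm x = (⟨x, hx⟩, 0) :=
      Submodule.prodEquivOfIsCompl_symm_apply_left U C hC ⟨x, hx⟩
    show (Submodule.prodEquivOfIsCompl U' C' hC')
      ((e₁.prodCongr e₂) ((Submodule.prodEquivOfIsCompl U C hC).symm x)) ∈ U'
    rw [h1]
    simp
  obtain ⟨v, hv⟩ : ∃ v, v ∉ U' := by
    by_contra hcon
    push Not at hcon
    exact hU' (eq_top_iff.mpr (fun x _ => hcon x))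
  obtain ⟨f, hfv, hf⟩ := Submodule.exists_le_ker_of_notMem hv
  set d : F := ((LinearEquiv.det g₀ : Fˣ) : F) with hd
  have hd0 : d ≠ 0 := Units.ne_zero _
  set v' : V := ((d⁻¹ - 1) / f v) • v with hv'
  have h1 : 1 + f v' = d⁻¹ := by
    rw [hv', map_smul, smul_eq_mul]
    field_simp
    ring
  have hunit : IsUnit (1 + f v') := by
    rw [h1]
    exact (inv_ne_zero hd0).isUnit
  set s : V ≃ₗ[F] V := LinearEquiv.dilatransvection hunit with hs
  have hsfix : ∀ x ∈ U', s x = x := by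
    intro x hx
    have hfx : f x = 0 := hf hx
    rw [hs, LinearEquiv.dilatransvection.apply, hfx, zero_smul, add_zero]
  have hdets : ((LinearEquiv.det s : Fˣ) : F) = d⁻¹ := by
    rw [LinearEquiv.coe_det, hs, LinearEquiv.dilatransvection.coe_toLinearMap,
      LinearMap.transvection.det, h1]
  have hdet : LinearEquiv.det (g₀ ≪≫ₗ s) = 1 := by
    have h2 : g₀ ≪≫ₗ s = s * g₀ := rfl
    rw [h2, map_mul]
    apply Units.ext
    rw [Units.val_mul, hdets, Units.val_one]
    exact inv_mul_cancel₀ hd0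
  refine ⟨⟨g₀ ≪≫ₗ s, hdet⟩, ?_⟩
  apply Submodule.eq_of_le_of_finrank_eq
  · rintro _ ⟨x, hx, rfl⟩
    show s (g₀ x) ∈ U'
    rw [hsfix _ (hg₀ x hx)]
    exact hg₀ x hx
  · rw [← hfr]
    exact LinearEquiv.finrank_map_eq (g₀ ≪≫ₗ s) U


theorem map_le_of_mem (H : Subgroup (SpecialLinearGroup F V)) (U : Submodule F V)
    (hH : ∀ g ∈ H, ∀ x ∈ U, g x ∈ U) (a b : SpecialLinearGroup F V) (hab : a⁻¹ * b ∈ H) :
    U.map (b.1 : V ≃ₗ[F] V).toLinearMap ≤ U.map (a.1 : V ≃ₗ[F] V).toLinearMap := by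
  rintro _ ⟨u, hu, rfl⟩
  refine ⟨(a⁻¹ * b) u, hH _ hab u hu, ?_⟩
  show a ((a⁻¹ * b) u) = b u
  rw [mul_apply', apply_inv_self']

theorem card_subspaces_le_index [Fintype F] [Module.Finite F V]
    (H : Subgroup (SpecialLinearGroup F V)) (U : Submodule F V) (hU1 : U ≠ ⊤)
    (hH : ∀ g ∈ H, ∀ x ∈ U, g x ∈ U) :
    Nat.card {W : Submodule F V // finrank F W = finrank F U} ≤ H.index := by
  classical
  rw [Subgroup.index_eq_card]
  have hex : ∀ W : {W : Submodule F V // finrank F W = finrank F U},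
      ∃ g : SpecialLinearGroup F V, U.map (g.1 : V ≃ₗ[F] V).toLinearMap = W.1 := by
    intro W
    apply exists_sl_map_eq U W.1 W.2.symm
    intro htop
    have h1 : finrank F U = finrank F V := by rw [← W.2, htop, finrank_top]
    exact hU1 (Submodule.eq_top_of_finrank_eq h1)
  choose gW hgW using hex
  apply Nat.card_le_card_of_injective
    (fun W => (QuotientGroup.mk (gW W) : SpecialLinearGroup F V ⧸ H))
  intro W W' hWW'
  have h1 : (gW W)⁻¹ * gW W' ∈ H := QuotientGroup.eq.mp hWW'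
  have h2 : (gW W')⁻¹ * gW W ∈ H := by
    have := H.inv_mem h1
    rwa [mul_inv_rev, inv_inv] at this
  apply Subtype.ext
  rw [← hgW W, ← hgW W']
  exact le_antisymm (map_le_of_mem H U hH _ _ h2) (map_le_of_mem H U hH _ _ h1)

open Cfsg.Agent.Lib.Helper99_SubspaceCount in
theorem Npts_mul_P_le (q n k : ℕ) (hq : 2 ≤ q) (hk0 : 0 < k) (hkn : k < n) :
    Npts q n * P q k k ≤ P q n k := by
  have h1 : P q k k = P q k (k - 1) * (q - 1) := by
    have := P_add q k (k - 1) 1
    rw [Nat.sub_add_cancel hk0] at this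
    rw [this]
    congr 1
    have : k - (k - 1) = 1 := by omega
    rw [this]
    simp [P]
  have h2 : P q n k = (q ^ n - 1) * P q (n - 1) (k - 1) := by
    have := P_add q n 1 (k - 1)
    rw [Nat.add_sub_cancel' hk0] at this
    rw [this]
    congr 1
    simp [P]
  have h3 : P q k (k - 1) ≤ P q (n - 1) (k - 1) := by
    unfold P
    apply Finset.prod_le_prod (fun i _ => Nat.zero_le _)
    intro i hi
    rw [Finset.mem_range] at hi
    exact Nat.sub_le_sub_right (Nat.pow_le_pow_right (by omega) (by omega)) 1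
  have h4 : Npts q n * (q - 1) = q ^ n - 1 := by
    rw [Npts_eq q n hq]
    exact Nat.div_mul_cancel (Nat.sub_one_dvd_pow_sub_one q n)
  calc Npts q n * P q k k = (Npts q n * (q - 1)) * P q k (k - 1) := by rw [h1]; ring
    _ = (q ^ n - 1) * P q k (k - 1) := by rw [h4]
    _ ≤ (q ^ n - 1) * P q (n - 1) (k - 1) := Nat.mul_le_mul_left _ h3
    _ = P q n k := h2.symm

/-- **MI-IDX**. -/
theorem Npts_le_index_of_invariant [Fintype F] [Module.Finite F V]
    (H : Subgroup (SpecialLinearGroup F V)) (U : Submodule F V) (hU0 : U ≠ ⊥) (hU1 : U ≠ ⊤)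
    (hH : ∀ g ∈ H, ∀ x ∈ U, g x ∈ U) :
    Npts (Fintype.card F) (finrank F V) ≤ H.index := by
  have hfinV : Finite V := Module.finite_of_finite F
  have hq : 2 ≤ Fintype.card F := Fintype.one_lt_card
  have hk0 : 0 < finrank F U := by
    rw [Nat.pos_iff_ne_zero]
    intro h0
    exact hU0 (Submodule.finrank_eq_zero.mp h0)
  have hkn : finrank F U < finrank F V := Submodule.finrank_lt hU1
  have h1 := Cfsg.Agent.Lib.Helper99_SubspaceCount.card_subspaces_mul (K := F) (V := V)
    (finrank F U) hkn.le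
  have h2 := Npts_mul_P_le (Fintype.card F) (finrank F V) (finrank F U) hq hk0 hkn
  have h3 := Cfsg.Agent.Lib.Helper99_SubspaceCount.P_pos (q := Fintype.card F)
    (n := finrank F U) (m := finrank F U) hq le_rfl
  rw [← h1] at h2
  have h4 := Nat.le_of_mul_le_mul_right h2 h3
  exact h4.trans (card_subspaces_le_index H U hU1 hH)

end Cfsg.Agent.Lib.Helper24_MI_IDX
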