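import Cfsg.Agent.Lib.Helper6_MXDefs

set_option autoImplicit false
set_option linter.unusedSectionVars false

/-!
# S4017 market (architect helper6), package MX-E4A

`cit_prod`: in the CIT case the product of two involutions either has order at most two (they commute) or is a
`p`-element.
-/

namespace Cfsg.Agent.Lib.Helper24_MX_E4A

open Cfsg.Agent.Lib.Helper6_MXDefs

variable {G : Type*} [Group G] [Finite G] {p a : ℕ}

theorem sq_of_order_two {t : G} (ht : orderOf t = 2) : t * t = 1 := by
  have := pow_orderOf_eq_one t
  rw [ht, pow_two] at this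
  exact this

theorem inv_of_order_two {t : G} (ht : orderOf t = 2) : t⁻¹ = t :=
  inv_eq_of_mul_eq_one_left (sq_of_order_two ht)

/-- MX-E4A. -/
theorem cit_prod (hF : UFacts G p a) : CitProdProp G p a := by
  intro Q x hctx hcit t u ht hu
  have F := hF Q x hctx
  have htt := sq_of_order_two ht
  have huu := sq_of_order_two hu
  have hti := inv_of_order_two ht
  have hui := inv_of_order_two hu
  set y := t * u with hy
  have hyinv : y⁻¹ = u * t := by rw [hy, mul_inv_rev, hti, hui]
  have hk0 : orderOf y ≠ 0 := (orderOf_pos y).ne'
  by_cases h2 : 2 ∣ orderOf y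
  · -- even order: `y` commutes with the involution `y ^ (k/2)`, hence `y * y = 1`
    left
    have hz : orderOf (y ^ (orderOf y / 2)) = 2 := orderOf_pow_orderOf_div hk0 h2
    have hcomm : y * y ^ (orderOf y / 2) = y ^ (orderOf y / 2) * y :=
      ((Commute.refl y).pow_right _).eq
    have hsq := hcit.sq _ hz y hcomm
    -- `y * y = 1` gives `y = y⁻¹ = u * t`
    have : y = y⁻¹ := eq_inv_of_mul_eq_one_left hsq
    rw [hyinv] at this
    exact this
  · right
    -- every prime divisor of `orderOf y` is `p`
    have hprime : ∀ {s : ℕ}, s.Prime → s ∣ orderOf y → s = p := by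
      intro s hs hsk
      by_contra hsp
      have hs2 : s ≠ 2 := by
        rintro rfl
        exact h2 hsk
      set w := y ^ (orderOf y / s) with hw
      have hwo : orderOf w = s := orderOf_pow_orderOf_div hk0 hsk
      have hw1 : w ≠ 1 := by
        intro h
        rw [h, orderOf_one] at hwo
        exact hs.one_lt.ne hwo
      -- `t` inverts `y`, hence `w`
      have hty : t * y * t⁻¹ = y⁻¹ := by
        rw [hyinv, hy, hti]
        calc t * (t * u) * t = (t * t) * u * t := by group
          _ = u * t := by rw [htt, one_mul]
      have htw : t * w * t⁻¹ = w⁻¹ := by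
        rw [hw, ← inv_pow, ← hty]
        exact (conj_pow (a := t) (b := y) (i := orderOf y / s)).symm
      -- the subgroup `K = ⟨w⟩` is normalized by `w` and `t`
      have hKbot : Subgroup.zpowers w ≠ ⊥ := by
        intro h
        exact hw1 (Subgroup.zpowers_eq_bot.mp h)
      have hKtop : Subgroup.zpowers w ≠ ⊤ := by
        intro h
        apply hw1
        apply F.ctr
        intro k
        have hkK : k ∈ Subgroup.zpowers w := by rw [h]; exact Subgroup.mem_top k
        obtain ⟨i, rfl⟩ := Subgroup.mem_zpowers_iff.mp hkK
        exact ((Commute.refl w).zpow_right i).eq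
      have hN := F.norm_ne _ hKbot hKtop
      have htN : t ∈ Subgroup.normalizer ((Subgroup.zpowers w : Subgroup G) : Set G) := by
        rw [Subgroup.mem_normalizer_iff]
        intro g
        constructor
        · intro hg
          obtain ⟨i, rfl⟩ := Subgroup.mem_zpowers_iff.mp hg
          rw [← conj_zpow, htw]
          exact Subgroup.zpow_mem _ (Subgroup.inv_mem _ (Subgroup.mem_zpowers w)) i
        · intro hg
          obtain ⟨i, hi⟩ := Subgroup.mem_zpowers_iff.mp hg
          have : g = t⁻¹ * (t * g * t⁻¹) * t := by group
          rw [this, ← hi]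
          have h1 : t⁻¹ * w ^ i * t = (t * w * t⁻¹) ^ i := by
            rw [conj_zpow, hti]
          rw [h1, htw]
          exact Subgroup.zpow_mem _ (Subgroup.inv_mem _ (Subgroup.mem_zpowers w)) i
      have hwN : w ∈ Subgroup.normalizer ((Subgroup.zpowers w : Subgroup G) : Set G) :=
        Subgroup.le_normalizer (Subgroup.mem_zpowers w)
      set D := Subgroup.closure ({w, t} : Set G) with hD
      have hDN : D ≤ Subgroup.normalizer ((Subgroup.zpowers w : Subgroup G) : Set G) := by
        rw [hD, Subgroup.closure_le]
        intro g hg
        rcases hg with rfl | hg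
        · exact hwN
        · rw [Set.mem_singleton_iff] at hg
          rw [hg]
          exact htN
      have hDtop : D ≠ ⊤ := by
        intro h
        apply hN
        rw [eq_top_iff, ← h]
        exact hDN
      have hwD : w ∈ D := Subgroup.subset_closure (by simp)
      have htD : t ∈ D := Subgroup.subset_closure (by simp)
      have h2D : 2 ∣ Nat.card D := by
        have := orderOf_dvd_natCard (⟨t, htD⟩ : D)
        rwa [Subgroup.orderOf_mk, ht] at this
      have hsD : s ∣ Nat.card D := by
        have := orderOf_dvd_natCard (⟨w, hwD⟩ : D)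
        rwa [Subgroup.orderOf_mk, hwo] at this
      rcases hctx.even D hDtop h2D s hs hsD with h | h
      · exact hs2 h
      · exact hsp h
    have hkp := Nat.eq_prime_pow_of_unique_prime_dvd hk0 (fun {d} hd hdk => hprime hd hdk)
    refine ⟨(orderOf y).primeFactorsList.length, ?_⟩
    rw [← hkp]
    exact pow_orderOf_eq_one y

end Cfsg.Agent.Lib.Helper24_MX_E4A
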