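import Cfsg.Agent.Lib.Helper6_MXDefs

set_option autoImplicit false

/-!
# S4017 market (architect helper6), package MX-F1

`mix_rs`: a nontrivial `q`-subgroup and a nontrivial `r`-subgroup (`r ≠ p, q`), one normalizing the other,
contradict the "mixed subgroups" hypothesis.
-/

namespace Cfsg.Agent.Lib.Helper24_MX_F1

open Cfsg.Agent.Lib.Helper6_MXDefs
open scoped Pointwise

/-- the order of the join of two subgroups of coprime orders, one normalizing the other -/
theorem card_sup_of_coprime {G : Type*} [Group G] [Finite G] (U R : Subgroup G)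
    (hcop : (Nat.card U).Coprime (Nat.card R))
    (hnorm : U ≤ Subgroup.normalizer (R : Set G) ∨ R ≤ Subgroup.normalizer (U : Set G)) :
    Nat.card ↥(U ⊔ R) = Nat.card U * Nat.card R := by
  have hset : ((U ⊔ R : Subgroup G) : Set G) = (U : Set G) * (R : Set G) := by
    rcases hnorm with h | h
    · exact Subgroup.coe_mul_of_left_le_normalizer_right U R h
    · exact Subgroup.coe_mul_of_right_le_normalizer_left U R h
  have hle : Nat.card ↥(U ⊔ R) ≤ Nat.card U * Nat.card R := by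
    have h1 : Nat.card ↥(U ⊔ R) = Nat.card ↥((U : Set G) * (R : Set G)) := by
      rw [← hset]
      rfl
    rw [h1]
    exact Set.natCard_mul_le
  have hdvd : Nat.card U * Nat.card R ∣ Nat.card ↥(U ⊔ R) :=
    Nat.Coprime.mul_dvd_of_dvd_of_dvd hcop (Subgroup.card_dvd_of_le le_sup_left)
      (Subgroup.card_dvd_of_le le_sup_right)
  exact le_antisymm hle (Nat.le_of_dvd Nat.card_pos hdvd)

/-- MX-F1. -/
theorem mix_rs {G : Type*} [Group G] [Finite G] {p q : ℕ} (hp : p.Prime) (hq : q.Prime)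
    (hpq : p ≠ q) (hpG : p ∣ Nat.card G)
    (hmix : ∀ H : Subgroup G, H ≠ ⊤ → ¬ IsPGroup q H → q ∣ Nat.card H → p ∣ Nat.card H)
    (U R : Subgroup G) (r : ℕ) (hr : r.Prime) (hrp : r ≠ p) (hrq : r ≠ q)
    (hU : IsPGroup q U) (hU1 : U ≠ ⊥) (hR : IsPGroup r R) (hR1 : R ≠ ⊥)
    (hnorm : U ≤ Subgroup.normalizer (R : Set G) ∨ R ≤ Subgroup.normalizer (U : Set G)) :
    False := by
  have : Fact q.Prime := ⟨hq⟩
  have : Fact r.Prime := ⟨hr⟩
  obtain ⟨k, hk⟩ := (IsPGroup.iff_card.mp hU)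
  obtain ⟨j, hj⟩ := (IsPGroup.iff_card.mp hR)
  have hk0 : k ≠ 0 := by
    rintro rfl
    rw [pow_zero] at hk
    exact hU1 (Subgroup.card_eq_one.mp hk)
  have hcop : (Nat.card U).Coprime (Nat.card R) := by
    rw [hk, hj]
    exact Nat.Coprime.pow _ _ ((Nat.coprime_primes hq hr).mpr (Ne.symm hrq))
  have hcard := card_sup_of_coprime U R hcop hnorm
  have hpn : ¬ p ∣ Nat.card ↥(U ⊔ R) := by
    rw [hcard, hk, hj]
    intro h
    rcases (Nat.Prime.dvd_mul hp).mp h with h | h
    · exact hpq ((Nat.prime_dvd_prime_iff_eq hp hq).mp (hp.dvd_of_dvd_pow h))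
    · exact hrp ((Nat.prime_dvd_prime_iff_eq hp hr).mp (hp.dvd_of_dvd_pow h)).symm
  have hne : U ⊔ R ≠ ⊤ := by
    intro h
    apply hpn
    rw [h, Subgroup.card_top]
    exact hpG
  have hnq : ¬ IsPGroup q ↥(U ⊔ R) := by
    intro h
    have hR' : IsPGroup q R := h.to_le le_sup_right
    have hd := IsPGroup.disjoint_of_ne r q hrq R R hR hR'
    exact hR1 (by simpa using hd)
  have hqd : q ∣ Nat.card ↥(U ⊔ R) := by
    rw [hcard, hk]
    exact Dvd.dvd.mul_right (dvd_pow_self q hk0) _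
  exact hpn (hmix (U ⊔ R) hne hnq hqd)

end Cfsg.Agent.Lib.Helper24_MX_F1
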