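import Mathlib

/-!
Groups in which the centralizer of every non-central element is a maximal subgroup (helper24).
Shared lemmas for S4262 / S3904.
-/

set_option autoImplicit false
namespace Cfsg.Agent.Lib.Helper24_MaxCent

open Subgroup

variable {G : Type*} [Group G]

/-- the hypothesis: centralizers of non-central elements are maximal -/
def Hyp (G : Type*) [Group G] : Prop :=
  ∀ g : G, g ∉ center G → IsCoatom (centralizer ({g} : Set G))

/-- order modulo the centre -/
noncomputable def ord (x : G) : ℕ := orderOf (QuotientGroup.mk x : G ⧸ center G)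

theorem pow_mem_center_iff (x : G) (n : ℕ) : x ^ n ∈ center G ↔ ord x ∣ n := by
  unfold ord
  rw [orderOf_dvd_iff_pow_eq_one, ← QuotientGroup.mk_pow, QuotientGroup.eq_one_iff]

theorem ord_eq_one_iff (x : G) : ord x = 1 ↔ x ∈ center G := by
  unfold ord
  rw [orderOf_eq_one_iff, QuotientGroup.eq_one_iff]

theorem ord_pos [Finite G] (x : G) : 0 < ord x := orderOf_pos _

theorem ord_dvd_card [Finite G] (x : G) : ord x ∣ Nat.card (G ⧸ center G) := orderOf_dvd_natCard _

theorem mem_cent {x g : G} : g ∈ centralizer ({x} : Set G) ↔ g * x = x * g :=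
  mem_centralizer_singleton_iff

theorem self_mem_cent (x : G) : x ∈ centralizer ({x} : Set G) := mem_cent.mpr rfl

theorem center_le_cent (x : G) : center G ≤ centralizer ({x} : Set G) :=
  center_le_centralizer _

theorem cent_ne_top {x : G} (hx : x ∉ center G) : centralizer ({x} : Set G) ≠ ⊤ := by
  intro h
  apply hx
  rw [mem_center_iff]
  intro g
  have : g ∈ centralizer ({x} : Set G) := h ▸ mem_top g
  exact mem_cent.mp this

theorem cent_eq_of_le (h : Hyp G) {x y : G} (hx : x ∉ center G) (hy : y ∉ center G)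
    (hle : centralizer ({x} : Set G) ≤ centralizer ({y} : Set G)) :
    centralizer ({x} : Set G) = centralizer ({y} : Set G) := by
  rcases eq_or_lt_of_le hle with h1 | h1
  · exact h1
  · exact absurd ((h x hx).2 _ h1) (cent_ne_top hy)

theorem cent_le_cent_pow (x : G) (n : ℕ) :
    centralizer ({x} : Set G) ≤ centralizer ({x ^ n} : Set G) := by
  intro g hg
  rw [mem_cent] at hg ⊢
  exact ((Commute.pow_right (show Commute g x from hg) n)).eq

theorem cent_pow (h : Hyp G) {x : G} {n : ℕ} (hxn : x ^ n ∉ center G) :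
    centralizer ({x ^ n} : Set G) = centralizer ({x} : Set G) := by
  have hx : x ∉ center G := fun hx => hxn (Subgroup.pow_mem _ hx n)
  exact (cent_eq_of_le h hx hxn (cent_le_cent_pow x n)).symm

theorem cent_mul_central {x z : G} (hz : z ∈ center G) :
    centralizer ({x * z} : Set G) = centralizer ({x} : Set G) := by
  ext g
  rw [mem_cent, mem_cent]
  have hz' : ∀ g : G, g * z = z * g := fun g => (mem_center_iff.mp hz g)
  constructor
  · intro h1
    have : g * x * z = x * g * z := by
      calc g * x * z = g * (x * z) := by group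
        _ = x * z * g := h1
        _ = x * (z * g) := by group
        _ = x * (g * z) := by rw [hz' g]
        _ = x * g * z := by group
    exact mul_right_cancel this
  · intro h1
    calc g * (x * z) = g * x * z := by group
      _ = x * g * z := by rw [h1]
      _ = x * (g * z) := by group
      _ = x * (z * g) := by rw [hz' g]
      _ = x * z * g := by group


/-- Key step of the partition lemma. -/
theorem pow_mem_center_of_pow_mem_center (h : Hyp G) {x y : G} (hx : x ∉ center G)
    (hy : y ∉ center G) (hxy : x * y = y * x)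
    (hne : centralizer ({x} : Set G) ≠ centralizer ({y} : Set G)) (n : ℕ)
    (hn : x ^ n ∈ center G) : y ^ n ∈ center G := by
  by_contra hyn
  have h1 : centralizer ({y ^ n} : Set G) = centralizer ({y} : Set G) := cent_pow h hyn
  have hcomm : Commute x y := hxy
  have hpow : (x * y) ^ n = y ^ n * x ^ n := by
    rw [hcomm.mul_pow]
    exact ((hcomm.pow_pow n n)).eq
  have hxyn : (x * y) ^ n ∉ center G := by
    intro hc
    apply hyn
    rw [hpow] at hc
    have := Subgroup.mul_mem _ hc (Subgroup.inv_mem _ hn)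
    simpa using this
  have h2 : centralizer ({(x * y) ^ n} : Set G) = centralizer ({x * y} : Set G) := cent_pow h hxyn
  have h3 : centralizer ({(x * y) ^ n} : Set G) = centralizer ({y ^ n} : Set G) := by
    rw [hpow]; exact cent_mul_central hn
  have h4 : centralizer ({x * y} : Set G) = centralizer ({y} : Set G) := by
    rw [← h2, h3, h1]
  apply hne
  refine (cent_eq_of_le h hy hx ?_).symm
  intro g hg
  have hg2 : g ∈ centralizer ({x * y} : Set G) := h4 ▸ hg
  rw [mem_cent] at hg hg2 ⊢
  have e : g * x * y = x * g * y := by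
    calc g * x * y = g * (x * y) := by group
      _ = x * y * g := hg2
      _ = x * (y * g) := by group
      _ = x * (g * y) := by rw [hg]
      _ = x * g * y := by group
  exact mul_right_cancel e

/-- **Partition lemma**: commuting non-central elements with different centralizers have the same
prime order modulo the centre. -/
theorem ord_eq_and_prime [Finite G] (h : Hyp G) {x y : G} (hx : x ∉ center G)
    (hy : y ∉ center G) (hxy : x * y = y * x)
    (hne : centralizer ({x} : Set G) ≠ centralizer ({y} : Set G)) :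
    ord x = ord y ∧ (ord x).Prime := by
  have hxy1 : ord y ∣ ord x := by
    rw [← pow_mem_center_iff]
    exact pow_mem_center_of_pow_mem_center h hx hy hxy hne _
      ((pow_mem_center_iff x _).mpr dvd_rfl)
  have hxy2 : ord x ∣ ord y := by
    rw [← pow_mem_center_iff]
    exact pow_mem_center_of_pow_mem_center h hy hx hxy.symm hne.symm _
      ((pow_mem_center_iff y _).mpr dvd_rfl)
  have heq : ord x = ord y := Nat.dvd_antisymm hxy2 hxy1
  refine ⟨heq, ?_⟩
  have hn1 : ord x ≠ 1 := fun h1 => hx ((ord_eq_one_iff x).mp h1)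
  have hq : (ord x).minFac.Prime := Nat.minFac_prime hn1
  have hqd : (ord x).minFac ∣ ord x := Nat.minFac_dvd _
  by_cases hqn : (ord x).minFac = ord x
  · rw [← hqn]; exact hq
  · exfalso
    set n := ord x with hn
    set q := n.minFac with hqdef
    have hnpos : 0 < n := ord_pos x
    have hqlt : q < n := lt_of_le_of_ne (Nat.le_of_dvd hnpos hqd) hqn
    have hxq : x ^ q ∉ center G := by
      rw [pow_mem_center_iff]
      intro hd
      exact absurd (Nat.le_of_dvd hq.pos hd) (not_le.mpr hqlt)
    have hcq : centralizer ({x ^ q} : Set G) = centralizer ({x} : Set G) := cent_pow h hxq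
    have hcomm : x ^ q * y = y * x ^ q := ((Commute.pow_left (show Commute x y from hxy) q)).eq
    have hne' : centralizer ({x ^ q} : Set G) ≠ centralizer ({y} : Set G) := by rw [hcq]; exact hne
    obtain ⟨m, hm⟩ := hqd
    have hxm : (x ^ q) ^ m ∈ center G := by
      rw [← pow_mul, ← hm, pow_mem_center_iff]
    have hym := pow_mem_center_of_pow_mem_center h hxq hy hcomm hne' m hxm
    rw [pow_mem_center_iff, ← heq] at hym
    have hmpos : 0 < m := by
      rcases Nat.eq_zero_or_pos m with h0 | h0
      · rw [h0, mul_zero] at hm; omega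
      · exact h0
    have hle : n ≤ m := Nat.le_of_dvd hmpos hym
    have : q * m ≤ 1 * m := by rw [one_mul, ← hm]; exact hle
    have hq2 := hq.two_le
    nlinarith

/-- If `C(x)` is non-abelian, all non-central elements of `C(x)` have the same prime order modulo
the centre. -/
theorem ord_eq_of_mem_cent [Finite G] (h : Hyp G) {x : G} (hx : x ∉ center G)
    (hna : ∃ a ∈ centralizer ({x} : Set G), ∃ b ∈ centralizer ({x} : Set G), a * b ≠ b * a) :
    (ord x).Prime ∧ ∀ m ∈ centralizer ({x} : Set G), m ∉ center G → ord m = ord x := by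
  obtain ⟨a, ha, b, hb, hab⟩ := hna
  have haZ : a ∉ center G := by
    intro hc
    exact hab ((mem_center_iff.mp hc b).symm)
  have hxa : x * a = a * x := (mem_cent.mp ha).symm
  have hne : centralizer ({x} : Set G) ≠ centralizer ({a} : Set G) := by
    intro he
    have : b ∈ centralizer ({a} : Set G) := he ▸ hb
    exact hab (mem_cent.mp this).symm
  obtain ⟨h1, h2⟩ := ord_eq_and_prime h hx haZ hxa hne
  refine ⟨h2, ?_⟩
  intro m hm hmZ
  by_cases hc : centralizer ({m} : Set G) = centralizer ({x} : Set G)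
  · have ham : a ∈ centralizer ({m} : Set G) := hc ▸ ha
    have hma : m * a = a * m := (mem_cent.mp ham).symm
    have hne' : centralizer ({m} : Set G) ≠ centralizer ({a} : Set G) := by rw [hc]; exact hne
    rw [(ord_eq_and_prime h hmZ haZ hma hne').1, h1]
  · have hxm : x * m = m * x := (mem_cent.mp hm).symm
    exact ((ord_eq_and_prime h hx hmZ hxm (Ne.symm hc)).1).symm


/-! ### Passing to `G ⧸ Z(G)` -/

/-- Images of maximal subgroups containing the kernel are maximal. -/
theorem isCoatom_map_mk {N : Subgroup G} [N.Normal] {M : Subgroup G} (hM : IsCoatom M)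
    (hNM : N ≤ M) : IsCoatom (M.map (QuotientGroup.mk' N)) := by
  have hker : (QuotientGroup.mk' N).ker ≤ M := by rw [QuotientGroup.ker_mk']; exact hNM
  have hcm : (M.map (QuotientGroup.mk' N)).comap (QuotientGroup.mk' N) = M :=
    comap_map_eq_self hker
  constructor
  · intro htop
    apply hM.1
    rw [← hcm, htop, comap_top]
  · intro K hK
    have h1 : M ≤ K.comap (QuotientGroup.mk' N) := by
      rw [← hcm]; exact comap_mono hK.le
    have h2 : M ≠ K.comap (QuotientGroup.mk' N) := by
      intro he
      have : K = M.map (QuotientGroup.mk' N) := by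
        rw [he, map_comap_eq_self_of_surjective (QuotientGroup.mk'_surjective N)]
      exact hK.ne' this
    have h3 := hM.2 _ (lt_of_le_of_ne h1 h2)
    rw [← map_comap_eq_self_of_surjective (QuotientGroup.mk'_surjective N) K, h3,
      ← MonoidHom.range_eq_map, MonoidHom.range_eq_top]
    exact QuotientGroup.mk'_surjective N

/-- `|M| = |N| * |M/N|` for `N ≤ M`. -/
theorem card_eq_card_mul_card_map [Finite G] {N : Subgroup G} [N.Normal] {M : Subgroup G}
    (hNM : N ≤ M) : Nat.card M = Nat.card N * Nat.card (M.map (QuotientGroup.mk' N)) := by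
  have hker : (QuotientGroup.mk' N).ker ≤ M := by rw [QuotientGroup.ker_mk']; exact hNM
  have h1 : (M.map (QuotientGroup.mk' N)).index = M.index :=
    index_map_eq M (QuotientGroup.mk'_surjective N) hker
  have h2 : Nat.card M * M.index = Nat.card G := M.card_mul_index
  have h3 : Nat.card (M.map (QuotientGroup.mk' N)) * (M.map (QuotientGroup.mk' N)).index =
      Nat.card (G ⧸ N) := (M.map (QuotientGroup.mk' N)).card_mul_index
  have h4 : Nat.card G = Nat.card (G ⧸ N) * Nat.card N := N.card_eq_card_quotient_mul_card_subgroup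
  have hpos : 0 < M.index := Nat.pos_of_ne_zero M.index_ne_zero_of_finite
  rw [h1] at h3
  have : Nat.card M * M.index = Nat.card N * Nat.card (M.map (QuotientGroup.mk' N)) * M.index := by
    rw [h2, h4, ← h3]; ring
  exact Nat.eq_of_mul_eq_mul_right hpos this

/-- In the non-abelian case the image of `C(x)` in `G/Z(G)` is a `p`-group. -/
theorem isPGroup_map_cent [Finite G] (h : Hyp G) {x : G} (hx : x ∉ center G)
    (hna : ∃ a ∈ centralizer ({x} : Set G), ∃ b ∈ centralizer ({x} : Set G), a * b ≠ b * a) :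
    IsPGroup (ord x) ((centralizer ({x} : Set G)).map (QuotientGroup.mk' (center G))) := by
  obtain ⟨_, h2⟩ := ord_eq_of_mem_cent h hx hna
  rintro ⟨_, m, hm, rfl⟩
  by_cases hmZ : m ∈ center G
  · refine ⟨0, ?_⟩
    apply Subtype.ext
    simp only [pow_zero, pow_one, QuotientGroup.mk'_apply, Subgroup.coe_one]
    exact (QuotientGroup.eq_one_iff m).mpr hmZ
  · refine ⟨1, ?_⟩
    apply Subtype.ext
    simp only [pow_one, QuotientGroup.mk'_apply, Subgroup.coe_pow, Subgroup.coe_one]
    rw [← QuotientGroup.mk_pow, QuotientGroup.eq_one_iff, pow_mem_center_iff, h2 m hm hmZ]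

/-- In the non-abelian case `|Z(C(x))| * p² ≤ |C(x)|`. -/
theorem card_center_cent_mul_sq_le [Finite G] (h : Hyp G) {x : G} (hx : x ∉ center G)
    (hna : ∃ a ∈ centralizer ({x} : Set G), ∃ b ∈ centralizer ({x} : Set G), a * b ≠ b * a) :
    Nat.card (center ↥(centralizer ({x} : Set G))) * ord x ^ 2 ≤
      Nat.card ↥(centralizer ({x} : Set G)) := by
  obtain ⟨hp, h2⟩ := ord_eq_of_mem_cent h hx hna
  set M := centralizer ({x} : Set G) with hM
  set p := ord x with hpdef
  have : Fact p.Prime := ⟨hp⟩
  -- the central quotient of `M` is a `p`-group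
  have hpg : IsPGroup p (↥M ⧸ center ↥M) := by
    intro g
    obtain ⟨m, rfl⟩ := QuotientGroup.mk_surjective g
    refine ⟨1, ?_⟩
    rw [pow_one, ← QuotientGroup.mk_pow, QuotientGroup.eq_one_iff, mem_center_iff]
    intro g'
    apply Subtype.ext
    have hmp : (m : G) ^ p ∈ center G := by
      by_cases hmZ : (m : G) ∈ center G
      · exact Subgroup.pow_mem _ hmZ p
      · rw [pow_mem_center_iff, h2 m m.2 hmZ]
    simpa using mem_center_iff.mp hmp (g' : G)
  obtain ⟨j, hj⟩ := (IsPGroup.iff_card).mp hpg
  have hidx : (center ↥M).index = p ^ j := by rw [Subgroup.index_eq_card]; exact hj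
  have hj2 : 2 ≤ j := by
    by_contra hlt
    have hcomm : ∀ a b : ↥M, a * b = b * a := by
      have hj01 : j = 0 ∨ j = 1 := by omega
      rcases hj01 with h0 | h1
      · rw [h0, pow_zero] at hidx
        have htop : center ↥M = ⊤ := Subgroup.index_eq_one.mp hidx
        intro a b
        have : b ∈ center ↥M := htop ▸ mem_top b
        exact (mem_center_iff.mp this a)
      · rw [h1, pow_one] at hj
        have hcyc : IsCyclic (↥M ⧸ center ↥M) := isCyclic_of_prime_card hj
        have hc : IsMulCommutative ↥M :=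
          MonoidHom.isMulCommutative_of_isCyclic_of_ker_le_center (QuotientGroup.mk' (center ↥M))
            (by rw [QuotientGroup.ker_mk'])
        exact fun a b => mul_comm' a b
    obtain ⟨a, ha, b, hb, hab⟩ := hna
    exact hab (congrArg Subtype.val (hcomm ⟨a, ha⟩ ⟨b, hb⟩))
  have hcard : Nat.card (center ↥M) * (center ↥M).index = Nat.card ↥M := (center ↥M).card_mul_index
  rw [← hcard, hidx]
  exact Nat.mul_le_mul_left _ (Nat.pow_le_pow_right hp.pos hj2)


/-- If `G/Z(G)` is not a `p`-group, the image of a non-abelian `C(x)` is a Sylow `p`-subgroup. -/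
theorem exists_sylow_eq_map_cent [Finite G] (h : Hyp G) {x : G} (hx : x ∉ center G)
    (hna : ∃ a ∈ centralizer ({x} : Set G), ∃ b ∈ centralizer ({x} : Set G), a * b ≠ b * a)
    (hB : ¬ IsPGroup (ord x) (G ⧸ center G)) :
    ∃ Q : Sylow (ord x) (G ⧸ center G),
      (Q : Subgroup (G ⧸ center G)) =
        (centralizer ({x} : Set G)).map (QuotientGroup.mk' (center G)) := by
  obtain ⟨Q, hQ⟩ := (isPGroup_map_cent h hx hna).exists_le_sylow
  have hco := isCoatom_map_mk (N := center G) (h x hx) (center_le_cent x)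
  rcases eq_or_lt_of_le hQ with he | hlt
  · exact ⟨Q, he.symm⟩
  · exfalso
    apply hB
    have htop := hco.2 _ hlt
    intro g
    have hg : g ∈ (Q : Subgroup (G ⧸ center G)) := htop ▸ mem_top g
    obtain ⟨k, hk⟩ := Q.isPGroup' ⟨g, hg⟩
    exact ⟨k, congrArg Subtype.val hk⟩

/-- **Counting**: the number of non-central elements of order `p` modulo the centre is at most
`|G| / p²` (non-abelian centralizers, `G/Z(G)` not a `p`-group). -/
theorem card_ord_eq_mul_sq_le [Finite G] (h : Hyp G)
    (hII : ∀ x : G, x ∉ center G →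
      ∃ a ∈ centralizer ({x} : Set G), ∃ b ∈ centralizer ({x} : Set G), a * b ≠ b * a)
    (hB : ∀ x : G, x ∉ center G → ¬ IsPGroup (ord x) (G ⧸ center G)) (p : ℕ) :
    Nat.card {x : G // x ∉ center G ∧ ord x = p} * p ^ 2 ≤ Nat.card G := by
  classical
  rcases isEmpty_or_nonempty {x : G // x ∉ center G ∧ ord x = p} with hemp | ⟨⟨x₀, hx₀, hx₀p⟩⟩
  · rw [Nat.card_of_isEmpty, zero_mul]; exact Nat.zero_le _
  have hp : p.Prime := hx₀p ▸ (ord_eq_of_mem_cent h hx₀ (hII x₀ hx₀)).1
  have : Fact p.Prime := ⟨hp⟩
  have : Fintype (Sylow p (G ⧸ center G)) := Fintype.ofFinite _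
  -- the Sylow subgroup attached to each element
  have hex : ∀ t : {x : G // x ∉ center G ∧ ord x = p}, ∃ Q : Sylow p (G ⧸ center G),
      (Q : Subgroup (G ⧸ center G)) =
        (centralizer ({(t : G)} : Set G)).map (QuotientGroup.mk' (center G)) := by
    rintro ⟨x, hx, hxp⟩
    subst hxp
    exact exists_sylow_eq_map_cent h hx (hII x hx) (hB x hx)
  choose φ hφ using hex
  set k := (Nat.card (G ⧸ center G)).factorization p with hk
  have hcardQ : ∀ Q : Sylow p (G ⧸ center G), Nat.card Q = p ^ k := fun Q => Q.card_eq_multiplicity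
  -- fibre bound
  have hfib : ∀ Q : Sylow p (G ⧸ center G),
      Nat.card {t : {x : G // x ∉ center G ∧ ord x = p} // φ t = Q} * p ^ 2 ≤
        Nat.card (center G) * p ^ k := by
    intro Q
    rcases isEmpty_or_nonempty {t : {x : G // x ∉ center G ∧ ord x = p} // φ t = Q} with
      he | ⟨⟨⟨x₁, hx₁, hx₁p⟩, ht₁⟩⟩
    · rw [Nat.card_of_isEmpty, zero_mul]; exact Nat.zero_le _
    set M := centralizer ({x₁} : Set G) with hM
    have hMQ : M.map (QuotientGroup.mk' (center G)) = (Q : Subgroup (G ⧸ center G)) := by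
      rw [← ht₁]; exact (hφ ⟨x₁, hx₁, hx₁p⟩).symm
    have hker : (QuotientGroup.mk' (center G)).ker ≤ M := by
      rw [QuotientGroup.ker_mk']; exact center_le_cent x₁
    -- every element of the fibre has centralizer `M`
    have hcent : ∀ t : {t : {x : G // x ∉ center G ∧ ord x = p} // φ t = Q},
        centralizer ({((t : {x : G // x ∉ center G ∧ ord x = p}) : G)} : Set G) = M := by
      rintro ⟨⟨x, hx, hxp⟩, ht⟩
      have h1 : (centralizer ({x} : Set G)).map (QuotientGroup.mk' (center G)) =
          M.map (QuotientGroup.mk' (center G)) := by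
        rw [hMQ, ← ht]; exact (hφ ⟨x, hx, hxp⟩).symm
      have hkx : (QuotientGroup.mk' (center G)).ker ≤ centralizer ({x} : Set G) := by
        rw [QuotientGroup.ker_mk']; exact center_le_cent x
      calc centralizer ({x} : Set G)
          = ((centralizer ({x} : Set G)).map (QuotientGroup.mk' (center G))).comap
              (QuotientGroup.mk' (center G)) := (comap_map_eq_self hkx).symm
        _ = (M.map (QuotientGroup.mk' (center G))).comap (QuotientGroup.mk' (center G)) := by
              rw [h1]
        _ = M := comap_map_eq_self hker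
    -- injection of the fibre into `Z(M)`
    let f : {t : {x : G // x ∉ center G ∧ ord x = p} // φ t = Q} → center ↥M := fun t =>
      ⟨⟨((t : {x : G // x ∉ center G ∧ ord x = p}) : G), by
          rw [← hcent t]; exact self_mem_cent _⟩, by
        rw [mem_center_iff]
        intro m
        apply Subtype.ext
        have hm : (m : G) ∈ centralizer
            ({((t : {x : G // x ∉ center G ∧ ord x = p}) : G)} : Set G) := by
          rw [hcent t]; exact m.2
        exact mem_cent.mp hm⟩
    have hf : Function.Injective f := by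
      intro t₁ t₂ he
      apply Subtype.ext
      apply Subtype.ext
      exact congrArg (fun z : center ↥M => ((z : ↥M) : G)) he
    have h1 : Nat.card {t : {x : G // x ∉ center G ∧ ord x = p} // φ t = Q} ≤
        Nat.card (center ↥M) := Nat.card_le_card_of_injective f hf
    have h2 := card_center_cent_mul_sq_le h hx₁ (hII x₁ hx₁)
    rw [hx₁p] at h2
    have h3 : Nat.card ↥M = Nat.card (center G) * p ^ k := by
      rw [card_eq_card_mul_card_map (N := center G) (center_le_cent x₁), hMQ]
      congr 1
      exact hcardQ Q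
    calc Nat.card {t : {x : G // x ∉ center G ∧ ord x = p} // φ t = Q} * p ^ 2
        ≤ Nat.card (center ↥M) * p ^ 2 := Nat.mul_le_mul_right _ h1
      _ ≤ Nat.card ↥M := h2
      _ = Nat.card (center G) * p ^ k := h3
  -- sum over the fibres
  have hsum : Nat.card {x : G // x ∉ center G ∧ ord x = p} =
      ∑ Q : Sylow p (G ⧸ center G),
        Nat.card {t : {x : G // x ∉ center G ∧ ord x = p} // φ t = Q} := by
    rw [← Nat.card_sigma]
    exact Nat.card_congr (Equiv.sigmaFiberEquiv φ).symm
  -- number of Sylow subgroups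
  obtain ⟨Q₀⟩ : Nonempty (Sylow p (G ⧸ center G)) := inferInstance
  have hs : Nat.card (Sylow p (G ⧸ center G)) * p ^ k ≤ Nat.card (G ⧸ center G) := by
    have h1 : Nat.card (Sylow p (G ⧸ center G)) ∣ (Q₀ : Subgroup (G ⧸ center G)).index :=
      Q₀.card_dvd_index
    have h2 : Nat.card Q₀ * (Q₀ : Subgroup (G ⧸ center G)).index = Nat.card (G ⧸ center G) :=
      (Q₀ : Subgroup (G ⧸ center G)).card_mul_index
    have hpos : 0 < (Q₀ : Subgroup (G ⧸ center G)).index :=
      Nat.pos_of_ne_zero (Q₀ : Subgroup (G ⧸ center G)).index_ne_zero_of_finite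
    have h3 := Nat.le_of_dvd hpos h1
    rw [← h2, hcardQ Q₀, mul_comm]
    exact Nat.mul_le_mul_left _ h3
  have hG : Nat.card G = Nat.card (G ⧸ center G) * Nat.card (center G) :=
    (center G).card_eq_card_quotient_mul_card_subgroup
  calc Nat.card {x : G // x ∉ center G ∧ ord x = p} * p ^ 2
      = ∑ Q : Sylow p (G ⧸ center G),
          Nat.card {t : {x : G // x ∉ center G ∧ ord x = p} // φ t = Q} * p ^ 2 := by
        rw [hsum, Finset.sum_mul]
    _ ≤ ∑ _Q : Sylow p (G ⧸ center G), Nat.card (center G) * p ^ k :=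
        Finset.sum_le_sum (fun Q _ => hfib Q)
    _ = Nat.card (Sylow p (G ⧸ center G)) * (Nat.card (center G) * p ^ k) := by
        rw [Finset.sum_const, Finset.card_univ, smul_eq_mul,
          Nat.card_eq_fintype_card (α := Sylow p (G ⧸ center G))]
    _ = (Nat.card (Sylow p (G ⧸ center G)) * p ^ k) * Nat.card (center G) := by ring
    _ ≤ Nat.card (G ⧸ center G) * Nat.card (center G) := Nat.mul_le_mul_right _ hs
    _ = Nat.card G := hG.symm


/-- `∑_{n=2}^{N} 1/n² ≤ 3/4 - 1/N`. -/
theorem sum_inv_sq_le (N : ℕ) (hN : 2 ≤ N) :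
    ∑ n ∈ Finset.Icc 2 N, (1 : ℚ) / (n : ℚ) ^ 2 ≤ 3 / 4 - 1 / (N : ℚ) := by
  induction N, hN using Nat.le_induction with
  | base => norm_num
  | succ N hN ih =>
    rw [Finset.sum_Icc_succ_top (by omega : 2 ≤ N + 1)]
    have hNpos : (0 : ℚ) < N := by exact_mod_cast (by omega : 0 < N)
    have h1 : (1 : ℚ) / ((N + 1 : ℕ) : ℚ) ^ 2 ≤ 1 / (N : ℚ) - 1 / ((N + 1 : ℕ) : ℚ) := by
      push_cast
      rw [div_sub_div _ _ (ne_of_gt hNpos) (by positivity), div_le_div_iff₀ (by positivity)
        (by positivity)]
      nlinarith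
    linarith

/-- **Case II, not a `p`-group: contradiction by counting.** -/
theorem false_of_nonabelian_cent [Finite G] (h : Hyp G)
    (hII : ∀ x : G, x ∉ center G →
      ∃ a ∈ centralizer ({x} : Set G), ∃ b ∈ centralizer ({x} : Set G), a * b ≠ b * a)
    (hB : ∀ x : G, x ∉ center G → ¬ IsPGroup (ord x) (G ⧸ center G))
    (hna : ∃ x : G, x ∉ center G) : False := by
  classical
  obtain ⟨x₀, hx₀⟩ := hna
  have hG : Nat.card G = Nat.card (G ⧸ center G) * Nat.card (center G) :=
    (center G).card_eq_card_quotient_mul_card_subgroup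
  have hzpos : 0 < Nat.card (center G) := Nat.card_pos
  -- `|G/Z| ≥ 5`
  have hq5 : 5 ≤ Nat.card (G ⧸ center G) := by
    have hp₀ := (ord_eq_of_mem_cent h hx₀ (hII x₀ hx₀)).1
    have hd := ord_dvd_card x₀
    have hb := hB x₀ hx₀
    by_contra hlt
    obtain ⟨q, hq⟩ : ∃ q, Nat.card (G ⧸ center G) = q := ⟨_, rfl⟩
    rw [hq] at hd hlt
    have hqpos : 0 < q := hq ▸ Nat.card_pos
    have hq4 : q ≤ 4 := by omega
    interval_cases q
    · exact hp₀.one_lt.ne' (Nat.dvd_one.mp hd)
    · have : ord x₀ = 2 := (Nat.prime_dvd_prime_iff_eq hp₀ Nat.prime_two).mp hd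
      exact hb (IsPGroup.of_card (n := 1) (by rw [hq, this]; norm_num))
    · have : ord x₀ = 3 := (Nat.prime_dvd_prime_iff_eq hp₀ Nat.prime_three).mp hd
      exact hb (IsPGroup.of_card (n := 1) (by rw [hq, this]; norm_num))
    · have : ord x₀ = 2 := by
        have h4 : ord x₀ ∣ 2 ^ 2 := by norm_num; exact hd
        exact (Nat.prime_dvd_prime_iff_eq hp₀ Nat.prime_two).mp (hp₀.dvd_of_dvd_pow h4)
      exact hb (IsPGroup.of_card (n := 2) (by rw [hq, this]; norm_num))
  set n := Nat.card G with hn
  have hn2 : 2 ≤ n := by rw [hG]; nlinarith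
  -- the order map
  have hrange : ∀ t : {x : G // x ∉ center G}, ord (t : G) ∈ Finset.Icc 2 n := by
    rintro ⟨x, hx⟩
    have hp := (ord_eq_of_mem_cent h hx (hII x hx)).1
    have hd := ord_dvd_card x
    have hle : ord x ≤ Nat.card (G ⧸ center G) := Nat.le_of_dvd Nat.card_pos hd
    rw [Finset.mem_Icc]
    refine ⟨hp.two_le, hle.trans ?_⟩
    rw [hG]; nlinarith
  let ψ : {x : G // x ∉ center G} → ↥(Finset.Icc 2 n) := fun t => ⟨ord (t : G), hrange t⟩
  have hsum : Nat.card {x : G // x ∉ center G} =
      ∑ i : ↥(Finset.Icc 2 n), Nat.card {t : {x : G // x ∉ center G} // ψ t = i} := by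
    rw [← Nat.card_sigma]
    exact Nat.card_congr (Equiv.sigmaFiberEquiv ψ).symm
  have hfib : ∀ i : ↥(Finset.Icc 2 n),
      (Nat.card {t : {x : G // x ∉ center G} // ψ t = i} : ℚ) ≤ (n : ℚ) * (1 / ((i : ℕ) : ℚ) ^ 2) := by
    intro i
    have h1 : Nat.card {t : {x : G // x ∉ center G} // ψ t = i} ≤
        Nat.card {x : G // x ∉ center G ∧ ord x = (i : ℕ)} := by
      refine Nat.card_le_card_of_injective
        (fun t => ⟨((t : {x : G // x ∉ center G}) : G), t.1.2, congrArg Subtype.val t.2⟩) ?_
      intro t₁ t₂ he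
      apply Subtype.ext
      apply Subtype.ext
      exact congrArg (fun z : {x : G // x ∉ center G ∧ ord x = (i : ℕ)} => (z : G)) he
    have h2 := card_ord_eq_mul_sq_le h hII hB (i : ℕ)
    have hi2 : 2 ≤ (i : ℕ) := (Finset.mem_Icc.mp i.2).1
    have hipos : (0 : ℚ) < ((i : ℕ) : ℚ) ^ 2 := by positivity
    have h3 : (Nat.card {t : {x : G // x ∉ center G} // ψ t = i} : ℚ) * ((i : ℕ) : ℚ) ^ 2 ≤ n := by
      have : Nat.card {t : {x : G // x ∉ center G} // ψ t = i} * (i : ℕ) ^ 2 ≤ n :=
        (Nat.mul_le_mul_right _ h1).trans h2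
      exact_mod_cast this
    rw [mul_one_div, le_div_iff₀ hipos]
    exact h3
  -- `|G ∖ Z| = n - z`
  have hcompl : Nat.card {x : G // x ∉ center G} + Nat.card (center G) = n := by
    have := Nat.card_congr (Equiv.sumCompl (fun x : G => x ∈ center G))
    rw [Nat.card_sum] at this
    rw [hn, ← this, add_comm]
  have hbound : (Nat.card {x : G // x ∉ center G} : ℚ) ≤ (n : ℚ) * (3 / 4 - 1 / (n : ℚ)) := by
    rw [hsum]
    push_cast
    calc ∑ i : ↥(Finset.Icc 2 n), (Nat.card {t : {x : G // x ∉ center G} // ψ t = i} : ℚ)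
        ≤ ∑ i : ↥(Finset.Icc 2 n), (n : ℚ) * (1 / ((i : ℕ) : ℚ) ^ 2) :=
          Finset.sum_le_sum (fun i _ => hfib i)
      _ = (n : ℚ) * ∑ i ∈ Finset.Icc 2 n, (1 : ℚ) / ((i : ℕ) : ℚ) ^ 2 := by
          rw [Finset.mul_sum]
          exact Finset.sum_coe_sort (Finset.Icc 2 n) (fun i => (n : ℚ) * (1 / ((i : ℕ) : ℚ) ^ 2))
      _ ≤ (n : ℚ) * (3 / 4 - 1 / (n : ℚ)) :=
          mul_le_mul_of_nonneg_left (sum_inv_sq_le n hn2) (by positivity)
  have hnpos : (0 : ℚ) < n := by exact_mod_cast (by omega : 0 < n)
  have hz5 : (5 : ℚ) * Nat.card (center G) ≤ n := by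
    have : 5 * Nat.card (center G) ≤ n := by rw [hG]; exact Nat.mul_le_mul_right _ hq5
    exact_mod_cast this
  have hc : (Nat.card {x : G // x ∉ center G} : ℚ) + Nat.card (center G) = n := by
    exact_mod_cast hcompl
  have hexp : (n : ℚ) * (3 / 4 - 1 / (n : ℚ)) = 3 / 4 * n - 1 := by
    field_simp
  rw [hexp] at hbound
  linarith

end Cfsg.Agent.Lib.Helper24_MaxCent
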