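import Mathlib
import Cfsg.Agent.Lib.Helper32_ND4Defs

set_option autoImplicit false
set_option linter.unusedSimpArgs false
set_option linter.unusedVariables false
set_option linter.unusedSectionVars false

/-!
Market ND4 (helper32), package STABFIX in `_aux` form: the statement of package SC (scaling) is a
hypothesis.  `stab_of_fix` without any bound on the dimension of `A'`.
-/

namespace Cfsg.Agent.Lib.Helper24_ND4_STABFIXaux

open Module Cfsg.Agent.Lib.Helper94_Symp Cfsg.Agent.Lib.Helper94_OrthSmall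
  Cfsg.Agent.Lib.Helper94_OrthSiegel Cfsg.Agent.Lib.Helper94_OrthSiegel2
  Cfsg.Agent.Lib.Helper94_OrthPara Cfsg.Agent.Lib.Helper94_OrthVec
  Cfsg.Agent.Lib.Helper94_OrthNondeg Cfsg.Agent.Lib.Helper94_OrthRefl
  Cfsg.Agent.Lib.Helper32_ND4Defs

variable {F V : Type*} [Field F] [AddCommGroup V] [Module F V]
variable [Finite F] [FiniteDimensional F V] {Q : V → F} {B : LinearMap.BilinForm F V}
  {G M : Subgroup (V ≃ₗ[F] V)} {A A' : Submodule F V}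

/-- (K): an element of `M` mapping a singular `v ∈ A'` into `A'` maps `v^⊥ ∩ A'` into `A'`. -/
theorem key (hC : NCtx Q B G M A A')
    (hZ : ∀ w ∈ A', w ≠ 0 → Q w = 0 → ∀ z, InZ Q B M w z → z ∈ A')
    {k : V ≃ₗ[F] V} (hk : k ∈ M) {v : V} (hv : v ∈ A') (hv0 : v ≠ 0) (hQv : Q v = 0)
    (hkv : k v ∈ A') {y : V} (hy : y ∈ A') (hvy : B v y = 0) : k y ∈ A' := by
  have h1 : InZ Q B M v y := hC.inZ_of_mem hv hQv hy hvy
  have h2 := InZ_map hC.hQs hC.hQp hk (hC.hMO hk) hQv h1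
  have hkv0 : k v ≠ 0 := fun h => hv0 (k.injective (h.trans (map_zero k).symm))
  exact hZ (k v) hkv hkv0 (by rw [hC.hMO hk, hQv]) (k y) h2

theorem STABFIX_aux (hC : NCtx Q B G M A A')
    (hSC : ∀ {w z : V}, w ∈ A' → w ≠ 0 → Q w = 0 → B w z = 0 → sieg Q B w z ∈ M →
      InZ Q B M w z)
    (hZ : ∀ w ∈ A', w ≠ 0 → Q w = 0 → ∀ z, InZ Q B M w z → z ∈ A')
    {g : V ≃ₗ[F] V} (hgM : g ∈ M) {w : V} (hwA' : w ∈ A') (hw0 : w ≠ 0) (hQw : Q w = 0)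
    (hgw : g w ∈ A') : ∀ y ∈ A', g y ∈ A' := by
  have hsymm := hC.hsymm
  have hQs := hC.hQs
  have hQp := hC.hQp
  have hgO : g ∈ oG Q := hC.hMO hgM
  intro y₀ hy₀
  by_contra hx₀
  obtain ⟨w₁, hw₁⟩ : ∃ w₁, w₁ = g w := ⟨_, rfl⟩
  have hw₁A' : w₁ ∈ A' := hw₁ ▸ hgw
  have hginvw : g⁻¹ w₁ = w := by rw [hw₁, inv_apply_apply']
  have hw₁0 : w₁ ≠ 0 := by
    rw [hw₁]
    exact fun h => hw0 (g.injective (h.trans (map_zero g).symm))
  have hQw₁ : Q w₁ = 0 := by rw [hw₁, hgO, hQw]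
  obtain ⟨β, hβdef⟩ : ∃ β, β = B (g y₀) w₁ := ⟨_, rfl⟩
  have hβ : β ≠ 0 := by
    intro h
    apply hx₀
    refine key hC hZ hgM hwA' hw0 hQw hgw hy₀ ?_
    rw [hsymm, ← oG_B Q B hQp hgO, ← hw₁, ← hβdef]
    exact h
  obtain ⟨a, ha, b, hb, hab⟩ := hC.hdec (g y₀)
  have hbw : B b w₁ = β := by
    rw [hβdef, ← hab, map_add, LinearMap.add_apply, hC.hAA' a ha w₁ hw₁A', zero_add]
  obtain ⟨ζ, hζdef⟩ : ∃ ζ, ζ = β⁻¹ • a := ⟨_, rfl⟩
  have hζA : ζ ∈ A := hζdef ▸ A.smul_mem _ ha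
  have hw₁ζ : B w₁ ζ = 0 := by
    rw [hsymm]
    exact hC.hAA' _ hζA w₁ hw₁A'
  have hsG : sieg Q B w₁ ζ ∈ G := hC.hG2 _ _ hQw₁ hw₁ζ
  have hginv : g⁻¹ ∈ M := M.inv_mem hgM
  have hβζ : β • ζ = a := by
    rw [hζdef, smul_smul, mul_inv_cancel₀ hβ, one_smul]
  have hstab : g⁻¹ * sieg Q B w₁ ζ ∈ stab A' := by
    apply mem_stab_of_forall_mem
    intro y hy
    rw [LinearEquiv.mul_apply]
    obtain ⟨κ, hκ⟩ : ∃ κ, κ = B y w₁ / β := ⟨_, rfl⟩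
    obtain ⟨y₁, hy₁def⟩ : ∃ y₁, y₁ = y - κ • b := ⟨_, rfl⟩
    have hy₁ : y₁ ∈ A' := hy₁def ▸ A'.sub_mem hy (A'.smul_mem _ hb)
    have hy₁w : B y₁ w₁ = 0 := by
      rw [hy₁def, map_sub, map_smul, LinearMap.sub_apply, LinearMap.smul_apply, hbw, smul_eq_mul,
        hκ, div_mul_cancel₀ _ hβ, sub_self]
    have hy₁ζ : B y₁ ζ = 0 := by
      rw [hsymm]
      exact hC.hAA' _ hζA _ hy₁
    have hs1 : sieg Q B w₁ ζ y₁ = y₁ := by
      rw [sieg_apply Q B hQs hQp hQw₁ hw₁ζ, hy₁w, hy₁ζ]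
      simp
    have h1 : g⁻¹ y₁ ∈ A' :=
      key hC hZ hginv hw₁A' hw₁0 hQw₁ (by rw [hginvw]; exact hwA') hy₁
        (by rw [hsymm]; exact hy₁w)
    have hbζ : B b ζ = 0 := by
      rw [hsymm]
      exact hC.hAA' _ hζA b hb
    have hs2 : sieg Q B w₁ ζ b = g y₀ - (Q ζ * β) • w₁ := by
      rw [sieg_apply Q B hQs hQp hQw₁ hw₁ζ, hbw, hbζ, hβζ, ← hab]
      module
    have h2 : g⁻¹ (sieg Q B w₁ ζ b) ∈ A' := by
      rw [hs2, map_sub, map_smul, inv_apply_apply', hginvw]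
      exact A'.sub_mem hy₀ (A'.smul_mem _ hwA')
    have hyy : y = y₁ + κ • b := by
      rw [hy₁def]
      module
    rw [hyy, map_add, map_smul, map_add, map_smul, hs1]
    exact A'.add_mem h1 (A'.smul_mem _ h2)
  have hsM : sieg Q B w₁ ζ ∈ M := by
    have h := hC.hHM ⟨hstab, G.mul_mem (hC.hMG hginv) hsG⟩
    have := M.mul_mem hgM h
    rwa [mul_inv_cancel_left] at this
  have hInZ := hSC hw₁A' hw₁0 hQw₁ hw₁ζ hsM
  have hζA' := hZ w₁ hw₁A' hw₁0 hQw₁ _ hInZ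
  have hζ0 : ζ = 0 := hC.eq_zero_of_mem hζA hζA'
  have ha0 : a = 0 := by rw [← hβζ, hζ0, smul_zero]
  apply hx₀
  rw [← hab, ha0, zero_add]
  exact hb

end Cfsg.Agent.Lib.Helper24_ND4_STABFIXaux
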