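import Mathlib
import Cfsg.Agent.Lib.Helper32_ND4Defs

set_option autoImplicit false
set_option linter.unusedSimpArgs false
set_option linter.unusedVariables false
set_option linter.unusedSectionVars false
set_option linter.unnecessarySeqFocus false

/-!
MARKET ND4 (helper32), package SC (scaling): the part of the Siegel group at a singular vector of
`A'` contained in `M` is an `F`-subspace (torus elements from `hG4`, sums of two squares).
-/

namespace Cfsg.Agent.Lib.Helper52_ND4_SC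

open Module Cfsg.Agent.Lib.Helper94_Symp Cfsg.Agent.Lib.Helper94_OrthSmall
  Cfsg.Agent.Lib.Helper94_OrthSiegel Cfsg.Agent.Lib.Helper94_OrthSiegel2
  Cfsg.Agent.Lib.Helper94_OrthPara Cfsg.Agent.Lib.Helper94_OrthVec
  Cfsg.Agent.Lib.Helper94_OrthNondeg Cfsg.Agent.Lib.Helper94_OrthRefl
  Cfsg.Agent.Lib.Helper32_ND4Defs

variable {F V : Type*} [Field F] [AddCommGroup V] [Module F V]
variable [Finite F] [FiniteDimensional F V] {Q : V → F} {B : LinearMap.BilinForm F V}
  {G M : Subgroup (V ≃ₗ[F] V)} {A A' : Submodule F V}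

/-- every element of a finite field of odd characteristic is a sum of two squares -/
lemma h52_sum_two_sq (h2 : (2 : F) ≠ 0) (x : F) : ∃ a b : F, a * a + b * b = x := by
  classical
  have : Fintype F := Fintype.ofFinite F
  have hchar : ringChar F ≠ 2 := by
    intro h
    apply h2
    have := ringChar.Nat.cast_ringChar (R := F)
    rw [h] at this
    exact_mod_cast this
  have hodd : Fintype.card F % 2 = 1 := FiniteField.odd_card_of_char_ne_two hchar
  obtain ⟨a, b, hab⟩ := FiniteField.exists_root_sum_quadratic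
    (f := (Polynomial.X : Polynomial F) ^ 2) (g := Polynomial.X ^ 2 - Polynomial.C x)
    (Polynomial.degree_X_pow 2) (Polynomial.degree_X_pow_sub_C (by norm_num) x) hodd
  refine ⟨a, b, ?_⟩
  simp only [Polynomial.eval_pow, Polynomial.eval_X, Polynomial.eval_sub, Polynomial.eval_C] at hab
  linear_combination hab

/-- a hyperbolic partner of a singular vector in a nondegenerate subspace -/
lemma h52_partner (hQs : ∀ (c : F) (v : V), Q (c • v) = c * c * Q v)
    (hQp : ∀ u v : V, Q (u + v) = Q u + Q v + B u v)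
    (S : Submodule F V) (hS : ∀ a ∈ S, a ≠ 0 → ∃ x ∈ S, B x a ≠ 0)
    {w : V} (hw : w ∈ S) (hw0 : w ≠ 0) (hQw : Q w = 0) :
    ∃ w' ∈ S, Q w' = 0 ∧ B w w' = 1 := by
  obtain ⟨x, hxS, hxw⟩ := hS w hw hw0
  have hww : B w w = 0 := by rw [B_self Q B hQs hQp, hQw, mul_zero]
  obtain ⟨x', hx'⟩ : ∃ x' : V, x' = x + (-(Q x / B x w)) • w := ⟨_, rfl⟩
  have hQx' : Q x' = 0 := by rw [hx']; exact sing_adjust Q B hQs hQp hQw hxw
  have hwx' : B w x' = B x w := by
    rw [hx', map_add, map_smul, hww, smul_zero, add_zero, B_symm Q B hQp]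
  have hx'S : x' ∈ S := by rw [hx']; exact S.add_mem hxS (S.smul_mem _ hw)
  refine ⟨(B x w)⁻¹ • x', S.smul_mem _ hx'S, by rw [hQs, hQx', mul_zero], ?_⟩
  rw [map_smul, hwx', smul_eq_mul, inv_mul_cancel₀ hxw]

/-- a nonzero nondegenerate subspace contains a nonsingular vector -/
lemma h52_nonsing (hQp : ∀ u v : V, Q (u + v) = Q u + Q v + B u v)
    (S : Submodule F V) (hS : ∀ a ∈ S, a ≠ 0 → ∃ x ∈ S, B x a ≠ 0) (hS0 : S ≠ ⊥) :
    ∃ a ∈ S, Q a ≠ 0 := by
  obtain ⟨a, haS, ha0⟩ := Submodule.exists_mem_ne_zero_of_ne_bot hS0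
  obtain ⟨x, hxS, hxa⟩ := hS a haS ha0
  by_cases h1 : Q a = 0
  · by_cases h2 : Q x = 0
    · refine ⟨x + a, S.add_mem hxS haS, ?_⟩
      rw [hQp, h2, h1, zero_add, zero_add]
      exact hxa
    · exact ⟨x, hxS, h2⟩
  · exact ⟨a, haS, h1⟩

/-- the torus-like elements `g_l` of `M` -/
theorem h52_torus (hC : NCtx Q B G M A A') {w w' a0 : V} (hwA' : w ∈ A') (hw'A' : w' ∈ A')
    (hQw : Q w = 0) (hQw' : Q w' = 0) (hww' : B w w' = 1) (ha0 : a0 ∈ A) (hγ : Q a0 ≠ 0)
    {l : F} (hl : l ≠ 0) :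
    ∃ g ∈ M, g ∈ oG Q ∧ g w = (-(Q a0 / (l * l))) • w' ∧ g w' = (-(l * l / Q a0)) • w ∧
      g a0 = -a0 ∧ ∀ y, B y w = 0 → B y w' = 0 → g y = y - ((Q a0)⁻¹ * B y a0) • a0 := by
  have hQs := hC.hQs
  have hQp := hC.hQp
  have hsymm := hC.hsymm
  have hww : B w w = 0 := by rw [B_self Q B hQs hQp, hQw, mul_zero]
  have hw'w' : B w' w' = 0 := by rw [B_self Q B hQs hQp, hQw', mul_zero]
  have hw'w : B w' w = 1 := by rw [hsymm, hww']
  have ha0w : B a0 w = 0 := hC.hAA' a0 ha0 w hwA'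
  have ha0w' : B a0 w' = 0 := hC.hAA' a0 ha0 w' hw'A'
  have hwa0 : B w a0 = 0 := by rw [hsymm, ha0w]
  have hw'a0 : B w' a0 = 0 := by rw [hsymm, ha0w']
  have ha0a0 : B a0 a0 = 2 * Q a0 := B_self Q B hQs hQp a0
  obtain ⟨c, hc⟩ : ∃ c : V, c = l • w + (Q a0 / l) • w' := ⟨_, rfl⟩
  have hcA' : c ∈ A' := by
    rw [hc]; exact A'.add_mem (A'.smul_mem _ hwA') (A'.smul_mem _ hw'A')
  have hQc : Q c = Q a0 := by
    rw [hc, hQp, hQs, hQs, hQw, hQw', map_smul, map_smul, LinearMap.smul_apply, hww']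
    simp only [smul_eq_mul]
    field_simp
    ring
  have hac : B a0 c = 0 := hC.hAA' a0 ha0 c hcA'
  obtain ⟨g, hgG, hgx⟩ := hC.hG4 a0 c hγ hQc hac
  have hBwc : B w c = Q a0 / l := by
    rw [hc, map_add, map_smul, map_smul, hww, hww', smul_eq_mul, smul_eq_mul]; ring
  have hBw'c : B w' c = l := by
    rw [hc, map_add, map_smul, map_smul, hw'w, hw'w', smul_eq_mul, smul_eq_mul]; ring
  refine ⟨g, hC.hHM ⟨mem_stab_of_forall_mem ?_, hgG⟩, hC.hG1 hgG, ?_, ?_, ?_, ?_⟩
  · intro v hv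
    rw [hgx]
    have : B v a0 = 0 := by rw [hsymm]; exact hC.hAA' a0 ha0 v hv
    rw [this, mul_zero, zero_smul, sub_zero]
    exact A'.sub_mem hv (A'.smul_mem _ hcA')
  · rw [hgx, hwa0, hBwc, mul_zero, zero_smul, sub_zero, hc]
    match_scalars <;> (try field_simp) <;> (try ring)
  · rw [hgx, hw'a0, hBw'c, mul_zero, zero_smul, sub_zero, hc]
    match_scalars <;> (try field_simp) <;> (try ring)
  · rw [hgx, ha0a0, hac, mul_zero, zero_smul, sub_zero]
    match_scalars <;> (try field_simp) <;> (try ring)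
  · intro y hyw hyw'
    rw [hgx]
    have : B y c = 0 := by
      rw [hc, map_add, map_smul, map_smul, hyw, hyw', smul_zero, smul_zero, add_zero]
    rw [this, mul_zero, zero_smul, sub_zero]

/-- conjugating by `g₁ g_λ` scales the Siegel part by the square `μ * μ` (`λ = μ⁻¹`) -/
theorem h52_scale (hC : NCtx Q B G M A A') {w z : V} (hwA' : w ∈ A') (hw0 : w ≠ 0) (hQw : Q w = 0)
    (hwz : B w z = 0) (hs : sieg Q B w z ∈ M) {μ : F} (hμ : μ ≠ 0) :
    sieg Q B w ((μ * μ) • z) ∈ M := by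
  have hQs := hC.hQs
  have hQp := hC.hQp
  have hsymm := hC.hsymm
  obtain ⟨w', hw'A', hQw', hww'⟩ := h52_partner hQs hQp A' hC.hA'nd hwA' hw0 hQw
  obtain ⟨a0, ha0A, hγ⟩ := h52_nonsing hQp A hC.hAnd hC.hA0
  have hww : B w w = 0 := by rw [B_self Q B hQs hQp, hQw, mul_zero]
  obtain ⟨g1, hg1M, hg1O, hg1w, hg1w', hg1a, hg1y⟩ :=
    h52_torus hC hwA' hw'A' hQw hQw' hww' ha0A hγ (one_ne_zero : (1 : F) ≠ 0)
  obtain ⟨gl, hglM, hglO, hglw, hglw', hgla, hgly⟩ :=
    h52_torus hC hwA' hw'A' hQw hQw' hww' ha0A hγ (inv_ne_zero hμ)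
  -- the torus element
  have htM : g1 * gl ∈ M := M.mul_mem hg1M hglM
  have htO : g1 * gl ∈ oG Q := (oG Q).mul_mem hg1O hglO
  have htw : (g1 * gl) w = (μ * μ) • w := by
    rw [LinearEquiv.mul_apply, hglw, map_smul, hg1w', smul_smul]
    congr 1
    field_simp
  have hty : ∀ y, B y w = 0 → B y w' = 0 → (g1 * gl) y = y := by
    intro y hyw hyw'
    rw [LinearEquiv.mul_apply, hgly y hyw hyw', map_sub, map_smul, hg1y y hyw hyw', hg1a]
    module
  -- decomposition of `z`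
  obtain ⟨κ, hκ⟩ : ∃ κ : F, κ = B z w' := ⟨_, rfl⟩
  have hzw : B z w = 0 := by rw [hsymm, hwz]
  have hz1w : B (z - κ • w) w = 0 := by
    rw [LinearMap.BilinForm.sub_left, LinearMap.BilinForm.smul_left, hzw, hww, mul_zero, sub_zero]
  have hz1w' : B (z - κ • w) w' = 0 := by
    rw [LinearMap.BilinForm.sub_left, LinearMap.BilinForm.smul_left, hww', mul_one, hκ, sub_self]
  have htz : (g1 * gl) z = z + (κ * (μ * μ - 1)) • w := by
    have e : z = (z - κ • w) + κ • w := by abel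
    rw [e, map_add, map_smul, hty _ hz1w hz1w', htw, ← e]
    module
  have h1 := conj_sieg Q B hQs hQp htO hQw hwz
  rw [htw, htz] at h1
  have hB1 : B w (z + (κ * (μ * μ - 1)) • w) = 0 := by
    rw [map_add, map_smul, hwz, hww, smul_zero, add_zero]
  rw [sieg_smul_left Q B hQs hQp hQw hB1, smul_add, smul_smul,
    sieg_add_smul Q B hQs hQp hQw (by rw [map_smul, hwz, smul_zero])] at h1
  rw [← h1]
  exact M.mul_mem (M.mul_mem htM hs) (M.inv_mem htM)

/-- [L] SC (scaling): the part of the Siegel group at a singular `w ∈ A'` contained in `M` is an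
`F`-subspace.  Proof in the notes (torus elements `g₁ g_λ` from `hG4`, sums of two squares). -/
theorem SC (hC : NCtx Q B G M A A') {w z : V} (hwA' : w ∈ A') (hw0 : w ≠ 0) (hQw : Q w = 0)
    (hwz : B w z = 0) (hs : sieg Q B w z ∈ M) : InZ Q B M w z := by
  have hQs := hC.hQs
  have hQp := hC.hQp
  refine ⟨hwz, fun t => ?_⟩
  have hsq : ∀ μ : F, sieg Q B w ((μ * μ) • z) ∈ M := by
    intro μ
    by_cases hμ : μ = 0
    · rw [hμ, mul_zero, zero_smul, sieg_zero_right Q B hQs hQp hQw]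
      exact M.one_mem
    · exact h52_scale hC hwA' hw0 hQw hwz hs hμ
  obtain ⟨a, b, hab⟩ := h52_sum_two_sq hC.h2 t
  rw [← hab, add_smul, ← sieg_mul Q B hQs hQp hQw (by rw [map_smul, hwz, smul_zero])
    (by rw [map_smul, hwz, smul_zero])]
  exact M.mul_mem (hsq a) (hsq b)

end Cfsg.Agent.Lib.Helper52_ND4_SC
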