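import Mathlib
import Cfsg.Agent.Lib.Helper32_ND4Defs
import Cfsg.Agent.Lib.Helper52_ND4_SC
import Cfsg.Agent.Lib.Helper24_ND4_STABFIXaux

set_option autoImplicit false
set_option linter.unusedSimpArgs false
set_option linter.unusedVariables false
set_option linter.unusedSectionVars false

/-!
Market ND4 (helper32), package STABFIX, verbatim: `stab_of_fix` without any bound on the dimension
of `A'` (uses package SC of helper52).
-/

namespace Cfsg.Agent.Lib.Helper24_ND4_STABFIX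

open Module Cfsg.Agent.Lib.Helper94_Symp Cfsg.Agent.Lib.Helper94_OrthSmall
  Cfsg.Agent.Lib.Helper94_OrthSiegel Cfsg.Agent.Lib.Helper94_OrthSiegel2
  Cfsg.Agent.Lib.Helper94_OrthPara Cfsg.Agent.Lib.Helper94_OrthVec
  Cfsg.Agent.Lib.Helper94_OrthNondeg Cfsg.Agent.Lib.Helper94_OrthRefl
  Cfsg.Agent.Lib.Helper32_ND4Defs

variable {F V : Type*} [Field F] [AddCommGroup V] [Module F V]
variable [Finite F] [FiniteDimensional F V] {Q : V → F} {B : LinearMap.BilinForm F V}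
  {G M : Subgroup (V ≃ₗ[F] V)} {A A' : Submodule F V}

/-- [L] STABFIX: `stab_of_fix` without any bound on the dimension. -/
theorem STABFIX (hC : NCtx Q B G M A A')
    (hZ : ∀ w ∈ A', w ≠ 0 → Q w = 0 → ∀ z, InZ Q B M w z → z ∈ A')
    {g : V ≃ₗ[F] V} (hgM : g ∈ M) {w : V} (hwA' : w ∈ A') (hw0 : w ≠ 0) (hQw : Q w = 0)
    (hgw : g w ∈ A') : ∀ y ∈ A', g y ∈ A' :=
  Cfsg.Agent.Lib.Helper24_ND4_STABFIXaux.STABFIX_aux hC
    (fun h1 h2 h3 h4 h5 => Cfsg.Agent.Lib.Helper52_ND4_SC.SC hC h1 h2 h3 h4 h5)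
    hZ hgM hwA' hw0 hQw hgw

end Cfsg.Agent.Lib.Helper24_ND4_STABFIX
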