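import Mathlib
import Cfsg.Agent.Lib.Helper97_OX2Defs
import Cfsg.Agent.Lib.Helper94_OrthVec

set_option autoImplicit false
set_option linter.unusedSectionVars false
set_option linter.unusedVariables false

/-!
# OEXT2 market (helper97), package G_SPAN in `_aux` form: the statements of G_HYP (hyperbolic
partner) and G_HYP2 (second hyperbolic pair) are hypotheses.  The singular vectors orthogonal to a
nonzero singular `a` generate `a^⊥` additively; the singular vectors generate `V` additively.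
-/

namespace Cfsg.Agent.Lib.Helper24_OX2_G_SPANaux

open Module Cfsg.Agent.Lib.Helper94_OrthSmall Cfsg.Agent.Lib.Helper94_OrthSiegel
  Cfsg.Agent.Lib.Helper98_ExtDefs Cfsg.Agent.Lib.Helper97_OX2Defs
open scoped commutatorElement

section GEO

variable {K V : Type*} [Field K] [AddCommGroup V] [Module K V]
  (Q : V → K) (B : LinearMap.BilinForm K V)
  (hQs : ∀ (c : K) (v : V), Q (c • v) = c * c * Q v)
  (hQp : ∀ u v : V, Q (u + v) = Q u + Q v + B u v)

include hQs hQp

theorem sing_span_perp_aux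
    (hHyp : ∀ {p : V}, p ≠ 0 → Q p = 0 → ∃ p' : V, Q p' = 0 ∧ B p p' = 1)
    (hHyp2 : ∀ {a a' : V}, Q a = 0 → Q a' = 0 → B a a' = 1 →
      ∃ b b' : V, Q b = 0 ∧ Q b' = 0 ∧ B b b' = 1 ∧ B a b = 0 ∧ B a b' = 0 ∧ B a' b = 0 ∧
        B a' b' = 0)
    {a : V} (ha0 : a ≠ 0) (ha : Q a = 0) {f : V} (hf : B a f = 0) :
    f ∈ AddSubgroup.closure {p : V | Q p = 0 ∧ B a p = 0} := by
  have hsymm := B_symm Q B hQp
  obtain ⟨a', ha', haa'⟩ := hHyp ha0 ha
  obtain ⟨b, b', hb, hb', hbb', hab, hab', ha'b, ha'b'⟩ := hHyp2 ha ha' haa'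
  have haa : B a a = 0 := by rw [B_self Q B hQs hQp, ha, mul_zero]
  have hbb : B b b = 0 := by rw [B_self Q B hQs hQp, hb, mul_zero]
  have hb'b' : B b' b' = 0 := by rw [B_self Q B hQs hQp, hb', mul_zero]
  have hb'b : B b' b = 1 := by rw [hsymm, hbb']
  have hsm : ∀ (c : K) (x : V), Q x = 0 → B a x = 0 →
      c • x ∈ AddSubgroup.closure {p : V | Q p = 0 ∧ B a p = 0} := by
    intro c x hx1 hx2
    apply AddSubgroup.subset_closure
    exact ⟨by rw [hQs, hx1, mul_zero], by rw [map_smul, hx2, smul_zero]⟩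
  obtain ⟨z, hz⟩ : ∃ z, z = f - B f a' • a - B f b' • b - B f b • b' := ⟨_, rfl⟩
  have hzb : B z b = 0 := by
    rw [hz]
    simp only [map_sub, map_smul, LinearMap.sub_apply, LinearMap.smul_apply, smul_eq_mul, hab, hbb,
      hb'b]
    ring
  have hzb' : B z b' = 0 := by
    rw [hz]
    simp only [map_sub, map_smul, LinearMap.sub_apply, LinearMap.smul_apply, smul_eq_mul, hab',
      hbb', hb'b']
    ring
  have haz : B a z = 0 := by
    rw [hz]
    simp only [map_sub, map_smul, smul_eq_mul, hf, haa, hab, hab']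
    ring
  obtain ⟨x, hx⟩ : ∃ x, x = (z + b) + (-Q z) • b' := ⟨_, rfl⟩
  have hQx : Q x = 0 := by
    rw [hx, Q_add_smul Q B hQs hQp, hQp z b, hb, hb', hzb, map_add, LinearMap.add_apply, hzb',
      hbb']
    ring
  have hax : B a x = 0 := by
    rw [hx]
    simp only [map_add, map_smul, smul_eq_mul, haz, hab, hab']
    ring
  have hf' : f = B f a' • a + B f b' • b + B f b • b' + (x - b + Q z • b') := by
    rw [hx, hz]
    module
  rw [hf']
  have h1 := hsm (B f a') a ha haa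
  have h2 := hsm (B f b') b hb hab
  have h3 := hsm (B f b) b' hb' hab'
  have h4 := hsm 1 x hQx hax
  have h5 := hsm 1 b hb hab
  have h6 := hsm (Q z) b' hb' hab'
  rw [one_smul] at h4 h5
  exact AddSubgroup.add_mem _ (AddSubgroup.add_mem _ (AddSubgroup.add_mem _ h1 h2) h3)
    (AddSubgroup.add_mem _ (AddSubgroup.sub_mem _ h4 h5) h6)

theorem sing_span_aux [Finite K] [FiniteDimensional K V]
    (hHyp : ∀ {p : V}, p ≠ 0 → Q p = 0 → ∃ p' : V, Q p' = 0 ∧ B p p' = 1)
    (hHyp2 : ∀ {a a' : V}, Q a = 0 → Q a' = 0 → B a a' = 1 →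
      ∃ b b' : V, Q b = 0 ∧ Q b' = 0 ∧ B b b' = 1 ∧ B a b = 0 ∧ B a b' = 0 ∧ B a' b = 0 ∧
        B a' b' = 0)
    (hm : 5 ≤ finrank K V) (v : V) : v ∈ AddSubgroup.closure {p : V | Q p = 0} := by
  have hsymm := B_symm Q B hQp
  obtain ⟨a, -, ha0, ha⟩ := Cfsg.Agent.Lib.Helper94_OrthSiegel2.exists_singular_in Q B hQs hQp
    (⊤ : Submodule K V) (by rw [finrank_top]; omega)
  obtain ⟨a', ha', haa'⟩ := hHyp ha0 ha
  have haa : B a a = 0 := by rw [B_self Q B hQs hQp, ha, mul_zero]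
  have hsm : ∀ (c : K) (x : V), Q x = 0 → c • x ∈ AddSubgroup.closure {p : V | Q p = 0} := by
    intro c x hx1
    apply AddSubgroup.subset_closure
    show Q (c • x) = 0
    rw [hQs, hx1, mul_zero]
  have hw : B a (v - B v a' • a - B v a • a') = 0 := by
    simp only [map_sub, map_smul, smul_eq_mul, haa, haa', hsymm a v]
    ring
  have h1 := sing_span_perp_aux Q B hQs hQp hHyp hHyp2 ha0 ha hw
  have h2 : v - B v a' • a - B v a • a' ∈ AddSubgroup.closure {p : V | Q p = 0} :=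
    AddSubgroup.closure_mono (fun p hp => hp.1) h1
  have hv : v = (v - B v a' • a - B v a • a') + B v a' • a + B v a • a' := by module
  rw [hv]
  exact AddSubgroup.add_mem _ (AddSubgroup.add_mem _ h2 (hsm _ a ha)) (hsm _ a' ha')

end GEO

end Cfsg.Agent.Lib.Helper24_OX2_G_SPANaux
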