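import Mathlib
import Cfsg.Agent.Lib.Helper97_OX2Defs
import Cfsg.Agent.Lib.Helper94_OrthVec

set_option autoImplicit false
set_option linter.unusedSectionVars false
set_option linter.unusedVariables false

/-!
# OEXT2 market (architect helper97), package G_HYP: a singular vector has a singular partner
-/

namespace Cfsg.Agent.Lib.Helper82_OX2_G_HYP

open Module Cfsg.Agent.Lib.Helper94_OrthSmall Cfsg.Agent.Lib.Helper94_OrthSiegel
  Cfsg.Agent.Lib.Helper98_ExtDefs Cfsg.Agent.Lib.Helper97_OX2Defs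
open scoped commutatorElement

section GEO

variable {K V : Type*} [Field K] [AddCommGroup V] [Module K V]
  (Q : V → K) (B : LinearMap.BilinForm K V)
  (hQs : ∀ (c : K) (v : V), Q (c • v) = c * c * Q v)
  (hQp : ∀ u v : V, Q (u + v) = Q u + Q v + B u v)

include hQs hQp

/-- G_HYP: a singular vector has a singular partner -/
theorem exists_hyp (hN : B.Nondegenerate) {p : V} (hp0 : p ≠ 0) (hp : Q p = 0) :
    ∃ p' : V, Q p' = 0 ∧ B p p' = 1 := by
  obtain ⟨x, hxp⟩ : ∃ x, B x p ≠ 0 := by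
    by_contra hcon
    push Not at hcon
    exact hp0 (hN.2 p hcon)
  have hpp : B p p = 0 := by rw [B_self Q B hQs hQp, hp, mul_zero]
  have hpx : B p x = B x p := B_symm Q B hQp p x
  obtain ⟨c, hc⟩ : ∃ c : K, c = -(Q x / B x p) := ⟨_, rfl⟩
  have hx' : Q (x + c • p) = 0 := by
    rw [hQp, hQs, hp, map_smul, smul_eq_mul, hc]
    field_simp
    ring
  have hBx' : B p (x + c • p) = B x p := by
    rw [map_add, map_smul, hpp, smul_zero, add_zero, hpx]
  refine ⟨(B x p)⁻¹ • (x + c • p), ?_, ?_⟩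
  · rw [hQs, hx', mul_zero]
  · rw [map_smul, hBx', smul_eq_mul, inv_mul_cancel₀ hxp]

end GEO

end Cfsg.Agent.Lib.Helper82_OX2_G_HYP
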