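import Mathlib
import Cfsg.Agent.Lib.Helper97_OX2Defs
import Cfsg.Agent.Lib.Helper94_OrthVec

/-!
# OEXT2 market (architect helper97), package G_HYP2: `exists_hyp2`

In a nondegenerate quadratic space of dimension at least five over a finite field, a hyperbolic pair
`a, a'` has a second hyperbolic pair `b, b'` orthogonal to it.  (Self-contained: `exists_hyp'` is our own
copy of G_HYP.)
-/

set_option autoImplicit false
set_option linter.unusedSectionVars false
set_option linter.unusedVariables false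

namespace Cfsg.Agent.Lib.Helper86_OX2_G_HYP2

open Module Cfsg.Agent.Lib.Helper94_OrthSmall Cfsg.Agent.Lib.Helper94_OrthSiegel
  Cfsg.Agent.Lib.Helper98_ExtDefs Cfsg.Agent.Lib.Helper97_OX2Defs
open scoped commutatorElement

section GEO

variable {K V : Type*} [Field K] [AddCommGroup V] [Module K V]
  (Q : V → K) (B : LinearMap.BilinForm K V)
  (hQs : ∀ (c : K) (v : V), Q (c • v) = c * c * Q v)
  (hQp : ∀ u v : V, Q (u + v) = Q u + Q v + B u v)

include hQs hQp

/-- (own copy of G_HYP) a singular vector has a singular partner -/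
theorem exists_hyp' (hN : B.Nondegenerate) {p : V} (hp0 : p ≠ 0) (hp : Q p = 0) :
    ∃ p' : V, Q p' = 0 ∧ B p p' = 1 := by
  have hsymm := B_symm Q B hQp
  have hpp : B p p = 0 := by rw [B_self Q B hQs hQp, hp, mul_zero]
  obtain ⟨v, hv⟩ : ∃ v, B p v ≠ 0 := by
    by_contra hcon
    push Not at hcon
    apply hp0
    apply hN.1 p
    intro y
    exact hcon y
  obtain ⟨w, hw⟩ : ∃ w : V, w = (B p v)⁻¹ • v := ⟨_, rfl⟩
  have hpw : B p w = 1 := by
    rw [hw, map_smul, smul_eq_mul, inv_mul_cancel₀ hv]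
  refine ⟨w + (-Q w) • p, ?_, ?_⟩
  · rw [Q_add_smul Q B hQs hQp, hp, hsymm w p, hpw]
    ring
  · rw [map_add, map_smul, hpp, hpw, smul_eq_mul, mul_zero, add_zero]

/-- G_HYP2: a second hyperbolic pair orthogonal to a given one -/
theorem exists_hyp2 [Finite K] [FiniteDimensional K V] (hN : B.Nondegenerate)
    (hm : 5 ≤ finrank K V) {a a' : V} (ha : Q a = 0) (ha' : Q a' = 0) (haa' : B a a' = 1) :
    ∃ b b' : V, Q b = 0 ∧ Q b' = 0 ∧ B b b' = 1 ∧ B a b = 0 ∧ B a b' = 0 ∧ B a' b = 0 ∧
      B a' b' = 0 := by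
  have hsymm := B_symm Q B hQp
  have haa : B a a = 0 := by rw [B_self Q B hQs hQp, ha, mul_zero]
  have ha'a' : B a' a' = 0 := by rw [B_self Q B hQs hQp, ha', mul_zero]
  have ha'a : B a' a = 1 := by rw [hsymm, haa']
  -- a nonzero singular vector orthogonal to `a`, `a'`
  have hfrS : finrank K (Submodule.span K ({a, a'} : Set V)) ≤ 2 := by
    classical
    have h6 := finrank_span_finset_le_card (R := K) ({a, a'} : Finset V)
    have h7' : (({a, a'} : Finset V) : Set V) = {a, a'} := by simp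
    rw [h7', Set.finrank] at h6
    have := Finset.card_le_two (a := a) (b := a')
    omega
  have hfrK := LinearMap.BilinForm.finrank_orthogonal hN (Submodule.span K {a, a'})
  have h3 : 3 ≤ finrank K (B.orthogonal (Submodule.span K {a, a'}) : Submodule K V) := by omega
  obtain ⟨b, hbK, hb0, hQb⟩ :=
    Cfsg.Agent.Lib.Helper94_OrthSiegel2.exists_singular_in Q B hQs hQp _ h3
  have hbK' := (Cfsg.Agent.Lib.Helper94_Symp.mem_orth B).mp hbK
  have hab : B a b = 0 := hbK' a (Submodule.subset_span (by simp))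
  have ha'b : B a' b = 0 := hbK' a' (Submodule.subset_span (by simp))
  have hba : B b a = 0 := by rw [hsymm, hab]
  have hba' : B b a' = 0 := by rw [hsymm, ha'b]
  have hbb : B b b = 0 := by rw [B_self Q B hQs hQp, hQb, mul_zero]
  -- a singular partner of `b`, corrected to be orthogonal to `a`, `a'`
  obtain ⟨b₀, hQb₀, hbb₀⟩ := exists_hyp' Q B hQs hQp hN hb0 hQb
  obtain ⟨w, hw⟩ : ∃ w : V, w = b₀ - B a' b₀ • a - B a b₀ • a' := ⟨_, rfl⟩
  have haw : B a w = 0 := by
    rw [hw, map_sub, map_sub, map_smul, map_smul, haa, haa', smul_eq_mul, smul_eq_mul]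
    ring
  have ha'w : B a' w = 0 := by
    rw [hw, map_sub, map_sub, map_smul, map_smul, ha'a, ha'a', smul_eq_mul, smul_eq_mul]
    ring
  have hbw : B b w = 1 := by
    rw [hw, map_sub, map_sub, map_smul, map_smul, hba, hba', hbb₀, smul_eq_mul, smul_eq_mul]
    ring
  refine ⟨b, w + (-Q w) • b, hQb, ?_, ?_, hab, ?_, ha'b, ?_⟩
  · rw [Q_add_smul Q B hQs hQp, hQb, hsymm w b, hbw]
    ring
  · rw [map_add, map_smul, hbb, hbw, smul_eq_mul, mul_zero, add_zero]
  · rw [map_add, map_smul, hab, haw, smul_eq_mul, mul_zero, add_zero]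
  · rw [map_add, map_smul, ha'b, ha'w, smul_eq_mul, mul_zero, add_zero]

end GEO

end Cfsg.Agent.Lib.Helper86_OX2_G_HYP2
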