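import Mathlib
import Cfsg.Agent.Lib.Helper97_OX2Defs
import Cfsg.Agent.Lib.Helper94_OrthVec
import Cfsg.Agent.Lib.Helper82_OX2_G_HYP
import Cfsg.Agent.Lib.Helper86_OX2_G_HYP2
import Cfsg.Agent.Lib.Helper24_OX2_G_SPANaux

set_option autoImplicit false
set_option linter.unusedSectionVars false
set_option linter.unusedVariables false

/-!
# OEXT2 market (helper97), package G_SPAN, verbatim: `sing_span_perp`, `sing_span`.
-/

namespace Cfsg.Agent.Lib.Helper24_OX2_G_SPAN

open Module Cfsg.Agent.Lib.Helper94_OrthSmall Cfsg.Agent.Lib.Helper94_OrthSiegel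
  Cfsg.Agent.Lib.Helper98_ExtDefs Cfsg.Agent.Lib.Helper97_OX2Defs
open scoped commutatorElement

section GEO

variable {K V : Type*} [Field K] [AddCommGroup V] [Module K V]
  (Q : V → K) (B : LinearMap.BilinForm K V)
  (hQs : ∀ (c : K) (v : V), Q (c • v) = c * c * Q v)
  (hQp : ∀ u v : V, Q (u + v) = Q u + Q v + B u v)

include hQs hQp

/-- G_SPAN: the singular vectors orthogonal to a nonzero singular `a` generate `a^⊥` additively -/
theorem sing_span_perp [Finite K] [FiniteDimensional K V] (hN : B.Nondegenerate)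
    (hm : 5 ≤ finrank K V) {a : V} (ha0 : a ≠ 0) (ha : Q a = 0) {f : V} (hf : B a f = 0) :
    f ∈ AddSubgroup.closure {p : V | Q p = 0 ∧ B a p = 0} :=
  Cfsg.Agent.Lib.Helper24_OX2_G_SPANaux.sing_span_perp_aux Q B hQs hQp
    (fun h0 h => Cfsg.Agent.Lib.Helper82_OX2_G_HYP.exists_hyp Q B hQs hQp hN h0 h)
    (fun h1 h2 h3 => Cfsg.Agent.Lib.Helper86_OX2_G_HYP2.exists_hyp2 Q B hQs hQp hN hm h1 h2 h3)
    ha0 ha hf

/-- G_SPAN (corollary): the singular vectors generate `V` additively -/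
theorem sing_span [Finite K] [FiniteDimensional K V] (hN : B.Nondegenerate)
    (hm : 5 ≤ finrank K V) (v : V) : v ∈ AddSubgroup.closure {p : V | Q p = 0} :=
  Cfsg.Agent.Lib.Helper24_OX2_G_SPANaux.sing_span_aux Q B hQs hQp
    (fun h0 h => Cfsg.Agent.Lib.Helper82_OX2_G_HYP.exists_hyp Q B hQs hQp hN h0 h)
    (fun h1 h2 h3 => Cfsg.Agent.Lib.Helper86_OX2_G_HYP2.exists_hyp2 Q B hQs hQp hN hm h1 h2 h3)
    hm v

end GEO

end Cfsg.Agent.Lib.Helper24_OX2_G_SPAN
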