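import Mathlib
import Cfsg.Agent.Lib.Helper97_OX2Defs
import Cfsg.Agent.Lib.Helper94_OrthVec

set_option autoImplicit false
set_option linter.unusedSectionVars false
set_option linter.unusedVariables false

/-!
# OEXT2 market (helper97), package T2 in `_aux` form: the statement of G_HYP (hyperbolic partner)
is a hypothesis.  Two nonzero singular vectors have a common singular non-neighbour.
-/

namespace Cfsg.Agent.Lib.Helper24_OX2_T2aux

open Module Cfsg.Agent.Lib.Helper94_OrthSmall Cfsg.Agent.Lib.Helper94_OrthSiegel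
  Cfsg.Agent.Lib.Helper98_ExtDefs Cfsg.Agent.Lib.Helper97_OX2Defs
open scoped commutatorElement

section GEO

variable {K V : Type*} [Field K] [AddCommGroup V] [Module K V]
  (Q : V → K) (B : LinearMap.BilinForm K V)
  (hQs : ∀ (c : K) (v : V), Q (c • v) = c * c * Q v)
  (hQp : ∀ u v : V, Q (u + v) = Q u + Q v + B u v)

include hQs hQp

/-- a nonsingular vector orthogonal to a hyperbolic pair, in dimension at least three -/
theorem nonsing_perp_pair [FiniteDimensional K V] (hN : B.Nondegenerate)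
    (hm : 3 ≤ finrank K V) {p p' : V} (hp : Q p = 0) (hp' : Q p' = 0) (hpp' : B p p' = 1) :
    ∃ z : V, B p z = 0 ∧ B p' z = 0 ∧ Q z ≠ 0 := by
  have hsymm := B_symm Q B hQp
  have hpp : B p p = 0 := by rw [B_self Q B hQs hQp, hp, mul_zero]
  have hp'p' : B p' p' = 0 := by rw [B_self Q B hQs hQp, hp', mul_zero]
  have hp'p : B p' p = 1 := by rw [hsymm, hpp']
  -- projection to the orthogonal of the pair
  have hproj : ∀ x : V, B p (x - B x p' • p - B x p • p') = 0 ∧
      B p' (x - B x p' • p - B x p • p') = 0 := by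
    intro x
    constructor
    · simp only [map_sub, map_smul, smul_eq_mul, hpp, hpp', hsymm p x]
      ring
    · simp only [map_sub, map_smul, smul_eq_mul, hp'p', hp'p, hsymm p' x]
      ring
  obtain ⟨w, hw⟩ : ∃ w : V, w ∉ Submodule.span K ({p, p'} : Set V) := by
    by_contra hcon
    push Not at hcon
    have htop : Submodule.span K ({p, p'} : Set V) = ⊤ := by
      rw [eq_top_iff]
      intro x _
      exact hcon x
    have h1 : finrank K (Submodule.span K ({p, p'} : Set V)) ≤ 2 := by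
      classical
      have h := finrank_span_finset_le_card (R := K) ({p, p'} : Finset V)
      rw [Finset.coe_insert, Finset.coe_singleton] at h
      exact h.trans Finset.card_le_two
    rw [htop, finrank_top] at h1
    omega
  obtain ⟨z₀, hz₀⟩ : ∃ z₀, z₀ = w - B w p' • p - B w p • p' := ⟨_, rfl⟩
  have hz₀0 : z₀ ≠ 0 := by
    intro h
    apply hw
    have hw' : w = B w p' • p + B w p • p' := by
      have : w - B w p' • p - B w p • p' = 0 := by rw [← hz₀, h]
      have h2 : w = (w - B w p' • p - B w p • p') + B w p' • p + B w p • p' := by module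
      rw [this, zero_add] at h2
      exact h2
    rw [hw']
    exact Submodule.add_mem _
      (Submodule.smul_mem _ _ (Submodule.subset_span (by simp)))
      (Submodule.smul_mem _ _ (Submodule.subset_span (by simp)))
  have hpz₀ : B p z₀ = 0 := by rw [hz₀]; exact (hproj w).1
  have hp'z₀ : B p' z₀ = 0 := by rw [hz₀]; exact (hproj w).2
  by_cases hQz₀ : Q z₀ = 0
  · obtain ⟨x, hx⟩ : ∃ x : V, B x z₀ ≠ 0 := by
      by_contra hcon
      push Not at hcon
      exact hz₀0 (hN.2 z₀ hcon)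
    obtain ⟨x₀, hx₀⟩ : ∃ x₀, x₀ = x - B x p' • p - B x p • p' := ⟨_, rfl⟩
    have hpx₀ : B p x₀ = 0 := by rw [hx₀]; exact (hproj x).1
    have hp'x₀ : B p' x₀ = 0 := by rw [hx₀]; exact (hproj x).2
    have hx₀z₀ : B x₀ z₀ = B x z₀ := by
      rw [hx₀]
      simp only [map_sub, map_smul, LinearMap.sub_apply, LinearMap.smul_apply, smul_eq_mul, hpz₀,
        hp'z₀]
      ring
    by_cases hQx₀ : Q x₀ = 0
    · refine ⟨x₀ + z₀, ?_, ?_, ?_⟩
      · rw [map_add, hpx₀, hpz₀, add_zero]
      · rw [map_add, hp'x₀, hp'z₀, add_zero]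
      · rw [hQp, hQx₀, hQz₀, hx₀z₀, zero_add, zero_add]
        exact hx
    · exact ⟨x₀, hpx₀, hp'x₀, hQx₀⟩
  · exact ⟨z₀, hpz₀, hp'z₀, hQz₀⟩

theorem exists_common_aux [FiniteDimensional K V] (hN : B.Nondegenerate)
    (hHyp : ∀ {p : V}, p ≠ 0 → Q p = 0 → ∃ p' : V, Q p' = 0 ∧ B p p' = 1)
    (hm : 3 ≤ finrank K V) {p v : V} (hp0 : p ≠ 0) (hv0 : v ≠ 0) (hp : Q p = 0) (hv : Q v = 0) :
    ∃ u : V, Q u = 0 ∧ B p u ≠ 0 ∧ B v u ≠ 0 := by
  have hsymm := B_symm Q B hQp
  have hpp : B p p = 0 := by rw [B_self Q B hQs hQp, hp, mul_zero]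
  have hvv : B v v = 0 := by rw [B_self Q B hQs hQp, hv, mul_zero]
  by_cases hpv : B p v = 0
  · -- orthogonal case
    have hvp : B v p = 0 := by rw [hsymm, hpv]
    obtain ⟨p', hp', hpp'⟩ := hHyp hp0 hp
    have hp'p : B p' p = 1 := by rw [hsymm, hpp']
    have hp'p' : B p' p' = 0 := by rw [B_self Q B hQs hQp, hp', mul_zero]
    by_cases hvp' : B v p' = 0
    · have hp'v : B p' v = 0 := by rw [hsymm, hvp']
      obtain ⟨v', hv', hvv'⟩ := hHyp hv0 hv
      have hv'v : B v' v = 1 := by rw [hsymm, hvv']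
      have hv'v' : B v' v' = 0 := by rw [B_self Q B hQs hQp, hv', mul_zero]
      obtain ⟨α, hα⟩ : ∃ α, α = B v' p' := ⟨_, rfl⟩
      obtain ⟨γ, hγ⟩ : ∃ γ, γ = B v' p := ⟨_, rfl⟩
      have hp'v' : B p' v' = α := by rw [hsymm, hα]
      have hpv' : B p v' = γ := by rw [hsymm, hγ]
      obtain ⟨w₁, hw₁⟩ : ∃ w₁, w₁ = (v' + (-α) • p) + (-γ) • p' := ⟨_, rfl⟩
      have hQw₁ : Q w₁ = -(α * γ) := by
        rw [hw₁, Q_add_smul Q B hQs hQp, Q_add_smul Q B hQs hQp, hv', hp, hp', map_add,
          LinearMap.add_apply, map_smul, LinearMap.smul_apply, ← hα, ← hγ, hpp', smul_eq_mul]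
        ring
      have hw₁v : B w₁ v = 1 := by
        rw [hw₁]
        simp only [map_add, map_smul, LinearMap.add_apply, LinearMap.smul_apply, smul_eq_mul,
          hv'v, hpv, hp'v]
        ring
      obtain ⟨w₂, hw₂⟩ : ∃ w₂, w₂ = w₁ + (α * γ) • v := ⟨_, rfl⟩
      have hQw₂ : Q w₂ = 0 := by
        rw [hw₂, Q_add_smul Q B hQs hQp, hQw₁, hv, hw₁v]
        ring
      have hp'w₂ : B p' w₂ = 0 := by
        rw [hw₂, hw₁]
        simp only [map_add, map_smul, smul_eq_mul, hp'v', hp'p, hp'p', hp'v]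
        ring
      have hpw₂ : B p w₂ = 0 := by
        rw [hw₂, hw₁]
        simp only [map_add, map_smul, smul_eq_mul, hpv', hpp, hpp', hpv]
        ring
      have hvw₂ : B v w₂ = 1 := by
        rw [hw₂, hw₁]
        simp only [map_add, map_smul, smul_eq_mul, hvv', hvp, hvp', hvv]
        ring
      refine ⟨p' + w₂, ?_, ?_, ?_⟩
      · rw [hQp, hp', hQw₂, hp'w₂]
        ring
      · rw [map_add, hpp', hpw₂, add_zero]
        exact one_ne_zero
      · rw [map_add, hvp', hvw₂, zero_add]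
        exact one_ne_zero
    · exact ⟨p', hp', by rw [hpp']; exact one_ne_zero, hvp'⟩
  · -- hyperbolic case
    obtain ⟨p', hp'def⟩ : ∃ p', p' = (B p v)⁻¹ • v := ⟨_, rfl⟩
    have hp' : Q p' = 0 := by rw [hp'def, hQs, hv, mul_zero]
    have hpp' : B p p' = 1 := by
      rw [hp'def, map_smul, smul_eq_mul, inv_mul_cancel₀ hpv]
    have hvdef : v = B p v • p' := by
      rw [hp'def, smul_smul, mul_inv_cancel₀ hpv, one_smul]
    obtain ⟨z, hpz, hp'z, hQz⟩ := nonsing_perp_pair Q B hQs hQp hN hm hp hp' hpp'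
    have hp'p : B p' p = 1 := by rw [hsymm, hpp']
    have hp'p' : B p' p' = 0 := by rw [B_self Q B hQs hQp, hp', mul_zero]
    obtain ⟨u, hu⟩ : ∃ u, u = (p + (-Q z) • p') + z := ⟨_, rfl⟩
    have hQu : Q u = 0 := by
      rw [hu, hQp, Q_add_smul Q B hQs hQp, hp, hp', hpp', map_add, LinearMap.add_apply, map_smul,
        LinearMap.smul_apply, hpz, hp'z]
      simp only [smul_eq_mul]
      ring
    have hpu : B p u = -Q z := by
      rw [hu]
      simp only [map_add, map_smul, smul_eq_mul, hpp, hpp', hpz]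
      ring
    have hp'u : B p' u = 1 := by
      rw [hu]
      simp only [map_add, map_smul, smul_eq_mul, hp'p, hp'p', hp'z]
      ring
    refine ⟨u, hQu, ?_, ?_⟩
    · rw [hpu]
      exact neg_ne_zero.mpr hQz
    · rw [hvdef, map_smul, LinearMap.smul_apply, hp'u, smul_eq_mul, mul_one]
      exact hpv

end GEO

end Cfsg.Agent.Lib.Helper24_OX2_T2aux
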