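import Mathlib
import Cfsg.Agent.Lib.Helper97_OX2Defs
import Cfsg.Agent.Lib.Helper94_OrthVec
import Cfsg.Agent.Lib.Helper82_OX2_G_HYP
import Cfsg.Agent.Lib.Helper24_OX2_T2aux

set_option autoImplicit false
set_option linter.unusedSectionVars false
set_option linter.unusedVariables false

/-!
# OEXT2 market (helper97), package T2, verbatim: `exists_common`.
-/

namespace Cfsg.Agent.Lib.Helper24_OX2_T2

open Module Cfsg.Agent.Lib.Helper94_OrthSmall Cfsg.Agent.Lib.Helper94_OrthSiegel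
  Cfsg.Agent.Lib.Helper98_ExtDefs Cfsg.Agent.Lib.Helper97_OX2Defs
open scoped commutatorElement

section GEO

variable {K V : Type*} [Field K] [AddCommGroup V] [Module K V]
  (Q : V → K) (B : LinearMap.BilinForm K V)
  (hQs : ∀ (c : K) (v : V), Q (c • v) = c * c * Q v)
  (hQp : ∀ u v : V, Q (u + v) = Q u + Q v + B u v)

include hQs hQp

/-- T2: a singular vector orthogonal to neither of two given nonzero singular vectors -/
theorem exists_common [Finite K] [FiniteDimensional K V] (hN : B.Nondegenerate)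
    (hm : 5 ≤ finrank K V) {p v : V} (hp0 : p ≠ 0) (hv0 : v ≠ 0) (hp : Q p = 0) (hv : Q v = 0) :
    ∃ u : V, Q u = 0 ∧ B p u ≠ 0 ∧ B v u ≠ 0 :=
  Cfsg.Agent.Lib.Helper24_OX2_T2aux.exists_common_aux Q B hQs hQp hN
    (fun h0 h => Cfsg.Agent.Lib.Helper82_OX2_G_HYP.exists_hyp Q B hQs hQp hN h0 h)
    (by omega) hp0 hv0 hp hv

end GEO

end Cfsg.Agent.Lib.Helper24_OX2_T2
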