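import Mathlib
import Cfsg.Agent.Lib.Helper97_OX3Defs
import Cfsg.Agent.Lib.Helper94_OrthVec

/-!
# oext3_packages KLIN, hypothesis form (helper97 market, S5870 conjunct (15))

A `K`-linear element of `U_L`, `L = K u + K w` a totally singular `K`-line, is `1 + N_κ`.
Here the frame `(u, u', w, w')` and the coordinate decomposition w.r.t. it are hypotheses
(packages G4_PAIR, G4_DECOMP).
-/

set_option autoImplicit false
set_option linter.unusedSectionVars false
set_option linter.unusedVariables false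
set_option linter.unusedSimpArgs false

namespace Cfsg.Agent.Lib.Helper24_OX3_KLINaux

open Module Cfsg.Agent.Lib.Helper94_OrthSmall Cfsg.Agent.Lib.Helper94_OrthSiegel
  Cfsg.Agent.Lib.Helper98_ExtDefs Cfsg.Agent.Lib.Helper97_OX2Defs
  Cfsg.Agent.Lib.Helper97_OX3Defs
open scoped commutatorElement

variable {F K V : Type*} [Field F] [Field K] [Algebra F K] [AddCommGroup V] [Module F V]
  [Module K V] [IsScalarTower F K V]
variable {τ : K →ₗ[F] F} {QK : V → K} {BK : LinearMap.BilinForm K V}
variable [Finite F] [Finite K] [Module.Finite F V] [Module.Finite K V]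

/-- a `K`-linear isometry of `trQ τ QK` preserves `BK` -/
theorem BK_of_klin (C : Ctx3 τ QK BK) {y : V ≃ₗ[F] V} (hy : y ∈ oG (trQ τ QK)) (hK : Klin K y)
    (x z : V) : BK (y x) (y z) = BK x z := by
  have hB : ∀ a b, trB τ BK (y a) (y b) = trB τ BK a b :=
    oG_B (trQ τ QK) (trB τ BK) C.trQ_add hy
  have h0 : BK (y x) (y z) - BK x z = 0 := by
    apply C.eq_zero_of_tau_mul
    intro k'
    have h1 := hB (k' • x) z
    rw [hK, trB_apply, trB_apply, map_smul, map_smul, LinearMap.smul_apply,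
      LinearMap.smul_apply, smul_eq_mul, smul_eq_mul] at h1
    rw [mul_sub, map_sub, h1, sub_self]
  exact sub_eq_zero.mp h0

/-- KLIN with the frame and the decomposition as hypotheses -/
theorem klin_eq_of (C : Ctx3 τ QK BK) {u w u' w' : V} (fr : Frame QK BK u u' w w')
    (hdec : ∀ v : V, v = BK v u' • u + BK v u • u' + BK v w' • w + BK v w • w')
    {y : V ≃ₗ[F] V}
    (hU : InU (trQ τ QK) (kln F (K := K) u w) y) (hK : Klin K y) :
    ∃ κ : K, ∀ x, y x = x + nmap F BK κ u w x := by
  obtain ⟨hyO, hyL, hyfix⟩ := hU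
  have hBy := BK_of_klin C hyO hK
  have h2K := C.two_ne_zero_K
  have huu : BK u u = 0 := by rw [C.BK_self, fr.hp, mul_zero]
  have hww : BK w w = 0 := by rw [C.BK_self, fr.ha, mul_zero]
  have huw : BK u w = 0 := fr.hpa
  have hwu : BK w u = 0 := by rw [C.BK_symm]; exact huw
  have hu'u : BK u' u = 1 := by rw [C.BK_symm]; exact fr.hpp'
  have hw'w : BK w' w = 1 := by rw [C.BK_symm]; exact fr.hab
  have hw'u : BK w' u = 0 := by rw [C.BK_symm]; exact fr.hpb
  have hwu' : BK w u' = 0 := by rw [C.BK_symm]; exact fr.hp'a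
  have hw'u' : BK w' u' = 0 := by rw [C.BK_symm]; exact fr.hp'b
  have hu'u' : BK u' u' = 0 := by rw [C.BK_self, fr.hp', mul_zero]
  have hw'w' : BK w' w' = 0 := by rw [C.BK_self, fr.hb, mul_zero]
  -- y fixes u, w
  have hyu : y u = u := hyfix u (mem_kln.mpr ⟨1, 0, by simp⟩)
  have hyw : y w = w := hyfix w (mem_kln.mpr ⟨0, 1, by simp⟩)
  -- coordinates of y u', y w'
  obtain ⟨α, β, hαβ⟩ := mem_kln.mp (hyL u')
  obtain ⟨γ, δ, hγδ⟩ := mem_kln.mp (hyL w')
  have hyu' : y u' = u' + α • u + β • w := by rw [add_assoc, ← hαβ]; abel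
  have hyw' : y w' = w' + γ • u + δ • w := by rw [add_assoc, ← hγδ]; abel
  -- alpha = 0 from BK (y u') (y u') = BK u' u'
  have hα : α = 0 := by
    have h1 := hBy u' u'
    rw [hyu'] at h1
    simp only [map_add, map_smul, LinearMap.add_apply, LinearMap.smul_apply, smul_eq_mul,
      huu, hww, huw, hwu, hu'u, fr.hpp', hwu', fr.hp'a, hu'u'] at h1
    have h3 : (2 : K) * α = 0 := by linear_combination h1
    rcases mul_eq_zero.mp h3 with h4 | h4
    · exact absurd h4 h2K
    · exact h4
  have hδ : δ = 0 := by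
    have h1 := hBy w' w'
    rw [hyw'] at h1
    simp only [map_add, map_smul, LinearMap.add_apply, LinearMap.smul_apply, smul_eq_mul,
      huu, hww, huw, hwu, hw'w, fr.hab, hw'u, fr.hpb, hw'w'] at h1
    have h3 : (2 : K) * δ = 0 := by linear_combination h1
    rcases mul_eq_zero.mp h3 with h4 | h4
    · exact absurd h4 h2K
    · exact h4
  have hγ : γ = -β := by
    have h1 := hBy u' w'
    rw [hyu', hyw'] at h1
    simp only [map_add, map_smul, LinearMap.add_apply, LinearMap.smul_apply, smul_eq_mul,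
      huu, hww, huw, hwu, hu'u, fr.hpp', hwu', fr.hp'a, hw'w, fr.hab, hw'u, fr.hpb,
      fr.hp'b, hw'u'] at h1
    linear_combination h1
  subst hα hδ hγ
  refine ⟨β, ?_⟩
  intro x
  have hx := hdec x
  have hyx : y x = BK x u' • y u + BK x u • y u' + BK x w' • y w + BK x w • y w' := by
    conv_lhs => rw [hx]
    rw [map_add, map_add, map_add, hK, hK, hK, hK]
  rw [hyx, hyu, hyw, hyu', hyw', nmap_apply]
  conv_rhs => rw [hx]
  simp only [smul_add, smul_sub, smul_smul, zero_smul, add_zero, neg_smul, smul_neg]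
  simp only [map_add, map_smul, LinearMap.add_apply, LinearMap.smul_apply, smul_eq_mul,
      huu, hww, huw, hwu, hu'u, fr.hpp', hwu', fr.hp'a, hw'w, fr.hab, hw'u, fr.hpb,
      fr.hp'b, hw'u', hu'u', hw'w']
  module

end Cfsg.Agent.Lib.Helper24_OX3_KLINaux
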