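import Mathlib
import Cfsg.Agent.Lib.Helper97_OX3Defs
import Cfsg.Agent.Lib.Helper94_OrthVec
import Cfsg.Agent.Lib.Helper21_OX3_G4_PAIR
import Cfsg.Agent.Lib.Helper24_OX3_KLINaux

/-!
# oext3_packages KLIN (helper97 market, S5870 conjunct (15))

A `K`-linear element of `U_L`, `L = K u + K w` a totally singular `K`-line, is `1 + N_κ`.
-/

set_option autoImplicit false
set_option linter.unusedSectionVars false
set_option linter.unusedVariables false
set_option linter.unusedSimpArgs false

namespace Cfsg.Agent.Lib.Helper24_OX3_KLIN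

open Module Cfsg.Agent.Lib.Helper94_OrthSmall Cfsg.Agent.Lib.Helper94_OrthSiegel
  Cfsg.Agent.Lib.Helper98_ExtDefs Cfsg.Agent.Lib.Helper97_OX2Defs
  Cfsg.Agent.Lib.Helper97_OX3Defs
open scoped commutatorElement

variable {F K V : Type*} [Field F] [Field K] [Algebra F K] [AddCommGroup V] [Module F V]
  [Module K V] [IsScalarTower F K V]
variable {τ : K →ₗ[F] F} {QK : V → K} {BK : LinearMap.BilinForm K V}
variable [Finite F] [Finite K] [Module.Finite F V] [Module.Finite K V]

/-- coordinates with respect to a frame (local copy of G4_DECOMP in the `Ctx3` setting) -/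
theorem h24_frame_decomp (C : Ctx3 τ QK BK) {p p' a b : V} (fr : Frame QK BK p p' a b) (v : V) :
    v = BK v p' • p + BK v p • p' + BK v b • a + BK v a • b := by
  have hp'p : BK p' p = 1 := by rw [C.BK_symm]; exact fr.hpp'
  have hba : BK b a = 1 := by rw [C.BK_symm]; exact fr.hab
  have hap : BK a p = 0 := by rw [C.BK_symm]; exact fr.hpa
  have hbp : BK b p = 0 := by rw [C.BK_symm]; exact fr.hpb
  have hap' : BK a p' = 0 := by rw [C.BK_symm]; exact fr.hp'a
  have hbp' : BK b p' = 0 := by rw [C.BK_symm]; exact fr.hp'b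
  have hpp : BK p p = 0 := by rw [C.BK_self, fr.hp, mul_zero]
  have hp'p' : BK p' p' = 0 := by rw [C.BK_self, fr.hp', mul_zero]
  have haa : BK a a = 0 := by rw [C.BK_self, fr.ha, mul_zero]
  have hbb : BK b b = 0 := by rw [C.BK_self, fr.hb, mul_zero]
  let f : V →ₗ[K] (Fin 4 → K) :=
    LinearMap.pi ![BK.flip p', BK.flip p, BK.flip b, BK.flip a]
  have hf : ∀ x : V, f x = ![BK x p', BK x p, BK x b, BK x a] := by
    intro x
    ext i
    fin_cases i <;> rfl
  have hsurj : Function.Surjective f := by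
    intro c
    refine ⟨c 0 • p + c 1 • p' + c 2 • a + c 3 • b, ?_⟩
    rw [hf]
    ext i
    fin_cases i <;>
    simp [map_add, map_smul, LinearMap.add_apply, LinearMap.smul_apply, smul_eq_mul,
      fr.hpp', fr.hab, fr.hpa, fr.hpb, fr.hp'a, fr.hp'b, hp'p, hba, hap, hbp, hap', hbp',
      hpp, hp'p', haa, hbb]
  have hfr : finrank K V = finrank K (Fin 4 → K) := by
    rw [C.hm, Module.finrank_fin_fun]
  have hinj : Function.Injective f :=
    (LinearMap.injective_iff_surjective_of_finrank_eq_finrank hfr).mpr hsurj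
  apply hinj
  rw [hf, hf]
  ext i
  fin_cases i <;>
  simp [map_add, map_smul, LinearMap.add_apply, LinearMap.smul_apply, smul_eq_mul,
    fr.hpp', fr.hab, fr.hpa, fr.hpb, fr.hp'a, fr.hp'b, hp'p, hba, hap, hbp, hap', hbp',
    hpp, hp'p', haa, hbb]

/-- KLIN: a `K`-linear element of `U_L` is a `K`-Siegel element -/
theorem klin_eq (C : Ctx3 τ QK BK) {u w : V} (h : TSPair QK BK u w) {y : V ≃ₗ[F] V}
    (hU : InU (trQ τ QK) (kln F (K := K) u w) y) (hK : Klin K y) :
    ∃ κ : K, ∀ x, y x = x + nmap F BK κ u w x := by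
  obtain ⟨u', w', fr⟩ :=
    Cfsg.Agent.Lib.Helper21_OX3_G4_PAIR.frame_of_pair QK BK C.hQs C.hQp C.hN h
  exact Cfsg.Agent.Lib.Helper24_OX3_KLINaux.klin_eq_of C fr (h24_frame_decomp C fr) hU hK

end Cfsg.Agent.Lib.Helper24_OX3_KLIN
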