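import Mathlib
import Cfsg.Agent.Lib.Helper97_OX3Defs
import Cfsg.Agent.Lib.Helper94_OrthVec

/-!
# oext3_packages LA1, hypothesis form (helper97 market, S5870 conjunct (15))

`g` an isometry, `L' = K u' + K w'`, `L = K u + K w` totally singular `K`-lines with
`dim_F (g L' ∩ L) = 4`: some nonzero `N' = g N_κ' g⁻¹` maps `L` into itself.
Here `dim_F L = 6` (LINE6) and `L^⊥ ⊆ L` (TS_PERP) are hypotheses.
-/

set_option autoImplicit false
set_option linter.unusedSectionVars false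
set_option linter.unusedVariables false
set_option linter.unusedSimpArgs false

namespace Cfsg.Agent.Lib.Helper24_OX3_LA1aux

open Module Cfsg.Agent.Lib.Helper94_OrthSmall Cfsg.Agent.Lib.Helper94_OrthSiegel
  Cfsg.Agent.Lib.Helper98_ExtDefs Cfsg.Agent.Lib.Helper97_OX2Defs
  Cfsg.Agent.Lib.Helper97_OX3Defs
open scoped commutatorElement

/-- a subspace `D` of codimension two in `L`: two vectors of `L` span `L` modulo `D` -/
theorem exists_two_compl {F V : Type*} [Field F] [AddCommGroup V] [Module F V]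
    [Module.Finite F V] (D L : Submodule F V) (hDL : D ≤ L) {n : ℕ}
    (hD : finrank F D = n) (hL : finrank F L = n + 2) :
    ∃ x₁ ∈ L, ∃ y₁ ∈ L, ∀ z ∈ L, ∃ d ∈ D, ∃ a b : F, z = d + a • x₁ + b • y₁ := by
  obtain ⟨q, hq⟩ := Submodule.exists_isCompl D
  have hsplit : ∀ z ∈ L, ∃ d ∈ D, ∃ c ∈ q ⊓ L, z = d + c := by
    intro z hz
    have hz' : z ∈ D ⊔ q := by rw [hq.sup_eq_top]; trivial
    obtain ⟨d, hd, c, hc, hdc⟩ := Submodule.mem_sup.mp hz'
    refine ⟨d, hd, c, ⟨hc, ?_⟩, hdc.symm⟩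
    have : c = z - d := by rw [← hdc]; abel
    rw [this]
    exact L.sub_mem hz (hDL hd)
  have hsup : D ⊔ (q ⊓ L) = L := by
    apply le_antisymm
    · exact sup_le hDL inf_le_right
    · intro z hz
      obtain ⟨d, hd, c, hc, rfl⟩ := hsplit z hz
      exact Submodule.add_mem _ (Submodule.mem_sup_left hd) (Submodule.mem_sup_right hc)
  have hinf : D ⊓ (q ⊓ L) = ⊥ := by
    rw [← inf_assoc, hq.inf_eq_bot, bot_inf_eq]
  have hC2 : finrank F ↥(q ⊓ L) = 2 := by
    have h1 := Submodule.finrank_sup_add_finrank_inf_eq D (q ⊓ L)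
    rw [hsup, hinf, finrank_bot, hL, hD] at h1
    omega
  let b := Module.finBasisOfFinrankEq F ↥(q ⊓ L) hC2
  refine ⟨(b 0 : V), (b 0).2.2, (b 1 : V), (b 1).2.2, ?_⟩
  intro z hz
  obtain ⟨d, hd, c, hc, rfl⟩ := hsplit z hz
  refine ⟨d, hd, b.repr ⟨c, hc⟩ 0, b.repr ⟨c, hc⟩ 1, ?_⟩
  have h2 := b.sum_repr ⟨c, hc⟩
  rw [Fin.sum_univ_two] at h2
  have h3 := congrArg (Subtype.val) h2
  simp only [Submodule.coe_add, Submodule.coe_smul] at h3
  rw [add_assoc, h3]

variable {F K V : Type*} [Field F] [Field K] [Algebra F K] [AddCommGroup V] [Module F V]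
  [Module K V] [IsScalarTower F K V]
variable {τ : K →ₗ[F] F} {QK : V → K} {BK : LinearMap.BilinForm K V}
variable [Finite F] [Finite K] [Module.Finite F V] [Module.Finite K V]

/-- `nmap` is skew for `trB` -/
theorem nmap_skew (C : Ctx3 τ QK BK) (κ : K) (u w x y : V) :
    trB τ BK (nmap F BK κ u w x) y = -trB τ BK x (nmap F BK κ u w y) := by
  rw [nmap_apply, nmap_apply, trB_apply, trB_apply, ← map_neg]
  congr 1
  simp only [map_smul, map_sub, LinearMap.smul_apply, LinearMap.sub_apply, smul_eq_mul]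
  rw [C.BK_symm w y, C.BK_symm u y]
  ring

/-- `nmap` of a totally singular pair kills its line -/
theorem nmap_kln (C : Ctx3 τ QK BK) {u w : V} (h : TSPair QK BK u w) (κ : K) {x : V}
    (hx : x ∈ kln F (K := K) u w) : nmap F BK κ u w x = 0 := by
  obtain ⟨hu, hw, huw, -⟩ := h
  obtain ⟨a, b, rfl⟩ := mem_kln.mp hx
  have huu : BK u u = 0 := by rw [C.BK_self, hu, mul_zero]
  have hww : BK w w = 0 := by rw [C.BK_self, hw, mul_zero]
  have hwu : BK w u = 0 := by rw [C.BK_symm]; exact huw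
  rw [nmap_apply]
  simp only [map_add, map_smul, LinearMap.add_apply, LinearMap.smul_apply, smul_eq_mul,
    huu, hww, huw, hwu, mul_zero, add_zero, zero_smul, sub_self, smul_zero]

/-- LA1 with LINE6 and TS_PERP (for `L`) as hypotheses -/
theorem exists_kappa_stab_of (C : Ctx3 τ QK BK) {g : V ≃ₗ[F] V} (hg : g ∈ oG (trQ τ QK))
    {u' w' u w : V} (h' : TSPair QK BK u' w') (h : TSPair QK BK u w)
    (hL6 : finrank F ↥(kln F (K := K) u w) = 6)
    (hperp : ∀ x : V, (∀ z ∈ kln F (K := K) u w, trB τ BK x z = 0) → x ∈ kln F (K := K) u w)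
    (hd : finrank F ↥((kln F (K := K) u' w').map g.toLinearMap ⊓ kln F (K := K) u w) = 4) :
    ∃ κ' : K, κ' ≠ 0 ∧ ∀ z ∈ kln F (K := K) u w,
      g (nmap F BK κ' u' w' (g⁻¹ z)) ∈ kln F (K := K) u w := by
  have hgB : ∀ a b, trB τ BK (g a) (g b) = trB τ BK a b :=
    oG_B (trQ τ QK) (trB τ BK) C.trQ_add hg
  have hggi : ∀ z : V, g (g⁻¹ z) = z := fun z => by
    rw [← LinearEquiv.mul_apply, mul_inv_cancel]; rfl
  -- the conjugated nilpotent maps
  have hNskew : ∀ (κ : K) (a b : V), trB τ BK (g (nmap F BK κ u' w' (g⁻¹ a))) b =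
      -trB τ BK a (g (nmap F BK κ u' w' (g⁻¹ b))) := by
    intro κ a b
    have h1 := hgB (nmap F BK κ u' w' (g⁻¹ a)) (g⁻¹ b)
    rw [hggi] at h1
    have h2 := hgB (g⁻¹ a) (nmap F BK κ u' w' (g⁻¹ b))
    rw [hggi] at h2
    rw [h1, nmap_skew C, h2]
  have hNself : ∀ (κ : K) (a : V), trB τ BK (g (nmap F BK κ u' w' (g⁻¹ a))) a = 0 := by
    intro κ a
    have h1 := hNskew κ a a
    rw [C.trB_symm a] at h1
    have h2 : (2 : F) * trB τ BK (g (nmap F BK κ u' w' (g⁻¹ a))) a = 0 := by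
      linear_combination h1
    rcases mul_eq_zero.mp h2 with h3 | h3
    · exact absurd h3 C.h2
    · exact h3
  have hNker : ∀ (κ : K), ∀ d ∈ (kln F (K := K) u' w').map g.toLinearMap ⊓ kln F (K := K) u w,
      g (nmap F BK κ u' w' (g⁻¹ d)) = 0 := by
    intro κ d hd'
    obtain ⟨x, hx, rfl⟩ := Submodule.mem_map.mp hd'.1
    have : g⁻¹ (g.toLinearMap x) = x := by
      show g⁻¹ (g x) = x
      rw [← LinearEquiv.mul_apply, inv_mul_cancel]; rfl
    rw [this, nmap_kln C h' κ hx, map_zero]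
  -- a complement
  obtain ⟨x₁, hx₁, y₁, hy₁, hspan⟩ := exists_two_compl
    ((kln F (K := K) u' w').map g.toLinearMap ⊓ kln F (K := K) u w) (kln F (K := K) u w)
    inf_le_right hd hL6
  -- the functional
  have := C.finiteDimensional
  let m₁ : V := BK (g⁻¹ x₁) u' • w' - BK (g⁻¹ x₁) w' • u'
  let φ : K →ₗ[F] F :=
    ((trB τ BK).flip y₁) ∘ₗ g.toLinearMap ∘ₗ
      ((LinearMap.toSpanSingleton K V m₁).restrictScalars F)
  have hφ : ∀ κ : K, φ κ = trB τ BK (g (nmap F BK κ u' w' (g⁻¹ x₁))) y₁ := by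
    intro κ
    rw [nmap_apply]
    rfl
  have hker : LinearMap.ker φ ≠ ⊥ := by
    apply LinearMap.ker_ne_bot_of_finrank_lt
    rw [C.hdim, Module.finrank_self]
    norm_num
  obtain ⟨κ', hκ'mem, hκ'0⟩ := Submodule.exists_mem_ne_zero_of_ne_bot hker
  rw [LinearMap.mem_ker, hφ] at hκ'mem
  refine ⟨κ', hκ'0, ?_⟩
  intro z hz
  apply hperp
  intro z' hz'
  obtain ⟨d, hdD, a, b, rfl⟩ := hspan z hz
  obtain ⟨d', hd'D, a', b', rfl⟩ := hspan z' hz'
  -- abbreviations
  have e1 : g (nmap F BK κ' u' w' (g⁻¹ (d + a • x₁ + b • y₁))) =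
      a • g (nmap F BK κ' u' w' (g⁻¹ x₁)) + b • g (nmap F BK κ' u' w' (g⁻¹ y₁)) := by
    have h0 := hNker κ' d hdD
    simp only [map_add, map_smul] at h0 ⊢
    rw [h0, zero_add]
  rw [e1]
  have hxd : trB τ BK (g (nmap F BK κ' u' w' (g⁻¹ x₁))) d' = 0 := by
    rw [hNskew, hNker κ' d' hd'D, map_zero, neg_zero]
  have hyd : trB τ BK (g (nmap F BK κ' u' w' (g⁻¹ y₁))) d' = 0 := by
    rw [hNskew, hNker κ' d' hd'D, map_zero, neg_zero]
  have hyx : trB τ BK (g (nmap F BK κ' u' w' (g⁻¹ y₁))) x₁ = 0 := by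
    rw [hNskew, C.trB_symm, hκ'mem, neg_zero]
  simp only [map_add, map_smul, LinearMap.add_apply, LinearMap.smul_apply, smul_eq_mul,
    hxd, hyd, hyx, hκ'mem, hNself, mul_zero, add_zero]

end Cfsg.Agent.Lib.Helper24_OX3_LA1aux
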