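import Mathlib
import Cfsg.Agent.Lib.Helper97_OX3Defs
import Cfsg.Agent.Lib.Helper94_OrthVec

set_option autoImplicit false
set_option linter.unusedSectionVars false
set_option linter.unusedVariables false

/-!
# OEXT3 (architect helper97), package LINE6: a `K`-line has `F`-dimension six

`kln F u w = (span K {u, w}).restrictScalars F`, `finrank K (span K {u, w}) = 2` for `K`-independent
`u, w`, and `finrank F K = 3`; tower law.
-/

namespace Cfsg.Agent.Lib.Helper34_OX3_LINE6

open Module Cfsg.Agent.Lib.Helper94_OrthSmall Cfsg.Agent.Lib.Helper94_OrthSiegel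
  Cfsg.Agent.Lib.Helper98_ExtDefs Cfsg.Agent.Lib.Helper97_OX2Defs
  Cfsg.Agent.Lib.Helper97_OX3Defs
open scoped commutatorElement

/-- tower law for a `K`-subspace regarded as an `F`-subspace -/
theorem finrank_restrictScalars_eq {F K V : Type*} [Field F] [Field K] [Algebra F K] [AddCommGroup V]
    [Module F V] [Module K V] [IsScalarTower F K V] (S : Submodule K V) :
    finrank F ↥(S.restrictScalars F) = finrank F K * finrank K ↥S := by
  rw [Module.finrank_mul_finrank F K ↥S]
  exact LinearEquiv.finrank_eq (LinearEquiv.refl F ↥S)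

/-- two `K`-independent vectors span a `K`-subspace of dimension two -/
theorem finrank_span_pair_of_indep {K V : Type*} [Field K] [AddCommGroup V] [Module K V] {u w : V}
    (hind : ∀ a b : K, a • u + b • w = 0 → a = 0 ∧ b = 0) :
    finrank K ↥(Submodule.span K ({u, w} : Set V)) = 2 := by
  have hli : LinearIndependent K ![u, w] := by
    rw [LinearIndependent.pair_iff]
    exact hind
  have h := finrank_span_eq_card hli
  have hr : Set.range ![u, w] = ({u, w} : Set V) := by
    ext x
    simp only [Matrix.range_cons, Matrix.range_empty, Set.union_empty, Set.mem_union,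
      Set.mem_singleton_iff, Set.mem_insert_iff]
  rw [hr] at h
  rw [h]
  simp

variable {F K V : Type*} [Field F] [Field K] [Algebra F K] [AddCommGroup V] [Module F V]
  [Module K V] [IsScalarTower F K V]
variable {τ : K →ₗ[F] F} {QK : V → K} {BK : LinearMap.BilinForm K V}
variable [Finite F] [Finite K] [Module.Finite F V] [Module.Finite K V]

/-- LINE6 -/
theorem finrank_kln (C : Ctx3 τ QK BK) {u w : V}
    (hind : ∀ a b : K, a • u + b • w = 0 → a = 0 ∧ b = 0) :
    finrank F ↥(kln F (K := K) u w) = 6 := by
  unfold kln
  rw [finrank_restrictScalars_eq, C.hdim, finrank_span_pair_of_indep hind]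

end Cfsg.Agent.Lib.Helper34_OX3_LINE6
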