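import Mathlib
import Cfsg.Agent.Lib.Helper97_OX3Defs
import Cfsg.Agent.Lib.Helper94_OrthVec
import Cfsg.Agent.Lib.Helper34_OX3_LINE6
import Cfsg.Agent.Lib.Helper24_OX3_LA1aux

/-!
# oext3_packages LA1 (helper97 market, S5870 conjunct (15))

`g` an isometry, `L' = K u' + K w'`, `L = K u + K w` totally singular `K`-lines with
`dim_F (g L' ∩ L) = 4`: some nonzero `N' = g N_κ' g⁻¹` maps `L` into itself.
-/

set_option autoImplicit false
set_option linter.unusedSectionVars false
set_option linter.unusedVariables false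
set_option linter.unusedSimpArgs false

namespace Cfsg.Agent.Lib.Helper24_OX3_LA1

open Module Cfsg.Agent.Lib.Helper94_OrthSmall Cfsg.Agent.Lib.Helper94_OrthSiegel
  Cfsg.Agent.Lib.Helper98_ExtDefs Cfsg.Agent.Lib.Helper97_OX2Defs
  Cfsg.Agent.Lib.Helper97_OX3Defs
open scoped commutatorElement

variable {F K V : Type*} [Field F] [Field K] [Algebra F K] [AddCommGroup V] [Module F V]
  [Module K V] [IsScalarTower F K V]
variable {τ : K →ₗ[F] F} {QK : V → K} {BK : LinearMap.BilinForm K V}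
variable [Finite F] [Finite K] [Module.Finite F V] [Module.Finite K V]

/-- a totally singular `F`-subspace of dimension six is its own orthogonal
(local copy of TS_PERP) -/
theorem h24_ts_perp (C : Ctx3 τ QK BK) (t : Submodule F V) (ht6 : finrank F t = 6)
    (hts : ∀ x ∈ t, trQ τ QK x = 0) {x : V} (hx : ∀ z ∈ t, trB τ BK x z = 0) : x ∈ t := by
  have hnd := C.trB_nondeg
  have hle : t ≤ (trB τ BK).orthogonal t := by
    intro y hy
    rw [LinearMap.BilinForm.mem_orthogonal_iff]
    intro n hn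
    have h1 := C.trQ_add n y
    rw [hts n hn, hts y hy, hts (n + y) (t.add_mem hn hy)] at h1
    show trB τ BK n y = 0
    linear_combination -h1
  have hfin : finrank F ↥((trB τ BK).orthogonal t) = 6 := by
    rw [LinearMap.BilinForm.finrank_orthogonal hnd, C.finrank_FV, ht6]
  have heq : t = (trB τ BK).orthogonal t :=
    Submodule.eq_of_le_of_finrank_eq hle (by rw [ht6, hfin])
  rw [heq, LinearMap.BilinForm.mem_orthogonal_iff]
  intro n hn
  show trB τ BK n x = 0
  rw [C.trB_symm]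
  exact hx n hn

/-- a totally singular `K`-line is totally singular for `trQ` -/
theorem h24_kln_ts (C : Ctx3 τ QK BK) {u w : V} (h : TSPair QK BK u w) :
    ∀ x ∈ kln F (K := K) u w, trQ τ QK x = 0 := by
  intro x hx
  obtain ⟨hu, hw, huw, -⟩ := h
  obtain ⟨a, b, rfl⟩ := mem_kln.mp hx
  rw [trQ_apply, C.hQp, C.hQs, C.hQs, hu, hw]
  simp only [map_smul, LinearMap.smul_apply, huw, smul_zero, mul_zero, add_zero, map_zero]

/-- LA1: some nonzero `N' = g N_κ' g⁻¹` maps `L` into itself -/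
theorem exists_kappa_stab (C : Ctx3 τ QK BK) {g : V ≃ₗ[F] V} (hg : g ∈ oG (trQ τ QK))
    {u' w' u w : V} (h' : TSPair QK BK u' w') (h : TSPair QK BK u w)
    (hd : finrank F ↥((kln F (K := K) u' w').map g.toLinearMap ⊓ kln F (K := K) u w) = 4) :
    ∃ κ' : K, κ' ≠ 0 ∧ ∀ z ∈ kln F (K := K) u w,
      g (nmap F BK κ' u' w' (g⁻¹ z)) ∈ kln F (K := K) u w := by
  have hL6 := Cfsg.Agent.Lib.Helper34_OX3_LINE6.finrank_kln (F := F) C h.2.2.2
  exact Cfsg.Agent.Lib.Helper24_OX3_LA1aux.exists_kappa_stab_of C hg h' h hL6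
    (fun x hx => h24_ts_perp C _ hL6 (h24_kln_ts C h) hx) hd

end Cfsg.Agent.Lib.Helper24_OX3_LA1
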