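/-
S5673 package OP7a (helper24 for helper29): a group of isometries of the standard odd-dimensional quadratic form
normalising a spanning subgroup that is realisable over a proper subfield lies in a subfield group carrying the form
(class 5 of the odd-dimensional orthogonal list).
-/
import Mathlib
import Cfsg.Agent.Lib.Helper98_AschDefs
import Cfsg.Agent.Lib.Helper29_OrthOddDefs
import Cfsg.Agent.Lib.Helper35_Asch_PK11
import Cfsg.Agent.Lib.Helper44_StdForms
import Cfsg.Agent.Lib.Helper44_FinSq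

set_option autoImplicit false
set_option linter.unusedVariables false
set_option linter.unusedSectionVars false

namespace Cfsg.Agent.Lib.Helper24_OrthOdd_OP7a

open Cfsg Cfsg.Geo Matrix Polynomial Cfsg.Agent.Lib.Helper98_AschDefs Cfsg.Agent.Lib.Helper29_OrthOddDefs
open scoped Kronecker MatrixGroups

variable {F : Type*} [Field F]

/-- an element of a finite field lies in the subfield `F₁` iff it is fixed by `x ↦ x ^ |F₁|` -/
theorem mem_iff_pow_card [Fintype F] (F₁ : Subfield F) (x : F) :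
    x ∈ F₁ ↔ x ^ Nat.card F₁ = x := by
  classical
  have : Fintype F₁ := Fintype.ofFinite _
  rw [Nat.card_eq_fintype_card]
  have hfwd : ∀ y : F, y ∈ F₁ → y ^ Fintype.card F₁ = y := by
    intro y hy
    have := FiniteField.pow_card (⟨y, hy⟩ : F₁)
    exact congrArg Subtype.val this
  refine ⟨hfwd x, ?_⟩
  intro hx
  have h1 : 1 < Fintype.card F₁ := Fintype.one_lt_card
  set p : F[X] := X ^ Fintype.card F₁ - X with hp
  have hp0 : p ≠ 0 := FiniteField.X_pow_card_sub_X_ne_zero F h1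
  have hdeg : p.natDegree = Fintype.card F₁ := FiniteField.X_pow_card_sub_X_natDegree_eq F h1
  set T : Finset F := Finset.univ.image (Subtype.val : F₁ → F) with hT
  have hTcard : T.card = Fintype.card F₁ := by
    rw [hT, Finset.card_image_of_injective _ Subtype.val_injective, Finset.card_univ]
  have hTS : T ⊆ p.roots.toFinset := by
    intro y hy
    rw [hT, Finset.mem_image] at hy
    obtain ⟨z, _, rfl⟩ := hy
    rw [Multiset.mem_toFinset, mem_roots hp0, hp]
    simp [hfwd z.1 z.2]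
  have hScard : p.roots.toFinset.card ≤ T.card := by
    rw [hTcard, ← hdeg]
    exact (Multiset.toFinset_card_le _).trans (card_roots' p)
  have hEq := Finset.eq_of_subset_of_card_le hTS hScard
  have hxS : x ∈ p.roots.toFinset := by
    rw [Multiset.mem_toFinset, mem_roots hp0, hp]
    simp [hx]
  rw [← hEq, hT, Finset.mem_image] at hxS
  obtain ⟨z, _, rfl⟩ := hxS
  exact z.2

theorem exists_frob [Fintype F] (F₁ : Subfield F) :
    ∃ φ : F →+* F, ∀ x, φ x = x ^ Nat.card F₁ := by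
  classical
  obtain ⟨p, hp⟩ := CharP.exists F
  have : Fintype F₁ := Fintype.ofFinite _
  have hp1 : CharP F₁ p := (RingHom.charP_iff F₁.subtype Subtype.val_injective p).2 hp
  obtain ⟨n, hprime, hcard⟩ := FiniteField.card F₁ p
  have : Fact p.Prime := ⟨hprime⟩
  refine ⟨iterateFrobenius F p n, fun x => ?_⟩
  rw [iterateFrobenius_def, Nat.card_eq_fintype_card, hcard]

/-- geometric sum identity in `ℕ` -/
theorem geom_id (t r : ℕ) : (∑ i ∈ Finset.range r, (t + 1) ^ i) * t + 1 = (t + 1) ^ r := by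
  induction r with
  | zero => simp
  | succ r ih =>
    rw [Finset.sum_range_succ, add_mul, pow_succ]
    linear_combination ih

theorem geom_odd (q r : ℕ) (hq : Odd q) : Odd (∑ i ∈ Finset.range r, q ^ i) ↔ Odd r := by
  induction r with
  | zero => simp
  | succ r ih =>
    rw [Finset.sum_range_succ, Nat.odd_add, ih, Nat.odd_add_one]
    have : Odd (q ^ r) := hq.pow
    constructor
    · intro h hr
      have := h.1 hr
      rw [← Nat.not_odd_iff_even] at this
      contradiction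
    · intro h
      constructor
      · intro hr; exact absurd hr h
      · intro h2
        rw [← Nat.not_odd_iff_even] at h2
        contradiction

theorem odd_card_sub [Fintype F] (hodd : Odd (Fintype.card F)) (F₁ : Subfield F) (r : ℕ)
    (hcard : Fintype.card F = Nat.card F₁ ^ r) : Odd (Nat.card F₁) := by
  rw [hcard] at hodd
  by_cases h : r = 0
  · subst h
    rw [pow_zero] at hcard
    have : 1 < Fintype.card F := Fintype.one_lt_card
    omega
  · exact (Nat.odd_pow_iff h).1 hodd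

/-- when the index is `2`, every element of the subfield is a square in the big field -/
theorem isSquare_of_mem [Fintype F] (hodd : Odd (Fintype.card F)) (F₁ : Subfield F)
    (hcard : Fintype.card F = Nat.card F₁ ^ 2) (a : F) (ha : a ∈ F₁) : IsSquare a := by
  classical
  by_cases ha0 : a = 0
  · subst ha0; exact ⟨0, by simp⟩
  rw [FiniteField.isSquare_iff (Cfsg.Agent.Lib.Helper44_FinSq.ringChar_ne_two_of_odd_card hodd) ha0]
  obtain ⟨t, ht⟩ := odd_card_sub hodd F₁ 2 hcard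
  have h1 := (mem_iff_pow_card F₁ a).1 ha
  rw [ht, pow_succ] at h1
  have h2 : a ^ (2 * t) = 1 := by
    have : a ^ (2 * t) * a = 1 * a := by rw [h1, one_mul]
    exact mul_right_cancel₀ ha0 this
  have h3 : Fintype.card F / 2 = 2 * t * (t + 1) := by
    rw [hcard, ht]
    have : (2 * t + 1) ^ 2 = 2 * (2 * t * (t + 1)) + 1 := by ring
    omega
  rw [h3, pow_mul, h2, one_pow]

/-- the scaling factor: some `μ ≠ 0` with `μ ^ 2 * lam` in the subfield -/
theorem exists_mu [Fintype F] (hodd : Odd (Fintype.card F)) (F₁ : Subfield F) (r : ℕ) (hr : r.Prime)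
    (hcard : Fintype.card F = Nat.card F₁ ^ r) (lam : F) (hlam : lam ≠ 0)
    (hsq : r = 2 → IsSquare lam) : ∃ μ : F, μ ≠ 0 ∧ μ ^ 2 * lam ∈ F₁ := by
  classical
  by_cases h2 : r = 2
  · obtain ⟨s, hs⟩ := hsq h2
    have hs0 : s ≠ 0 := by
      rintro rfl
      apply hlam
      rw [hs, mul_zero]
    refine ⟨s⁻¹, inv_ne_zero hs0, ?_⟩
    have : s⁻¹ ^ 2 * lam = 1 := by
      rw [hs]; field_simp
    rw [this]
    exact F₁.one_mem
  · have hrodd : Odd r := hr.eq_two_or_odd'.resolve_left h2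
    have hq1 := odd_card_sub hodd F₁ r hcard
    obtain ⟨t', ht'⟩ := hq1
    set t := 2 * t' with htdef
    have hq : Nat.card F₁ = t + 1 := ht'
    have hk : Odd (∑ i ∈ Finset.range r, (t + 1) ^ i) := by
      rw [geom_odd _ _ ⟨t', rfl⟩]
      exact hrodd
    obtain ⟨j, hj⟩ := hk
    refine ⟨lam ^ j, pow_ne_zero _ hlam, ?_⟩
    have h3 : (lam ^ j) ^ 2 * lam = lam ^ (∑ i ∈ Finset.range r, (t + 1) ^ i) := by
      rw [hj, ← pow_mul, ← pow_succ, mul_comm]
    rw [h3, mem_iff_pow_card, hq, ← pow_mul, mul_add, mul_one, pow_add]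
    have h4 : (∑ i ∈ Finset.range r, (t + 1) ^ i) * t = Fintype.card F - 1 := by
      have := geom_id t r
      rw [hcard, hq]
      omega
    rw [h4, FiniteField.pow_card_sub_one_eq_one lam hlam, one_mul]

variable {ι : Type} [Fintype ι] [DecidableEq ι]

/-- the Gram matrix of an invariant non-degenerate form becomes, after the change of basis realising the
spanning group `N` over `F₁`, a scalar multiple of a matrix over `F₁` -/
theorem gram_rational [Fintype F] (F₁ : Subfield F) (G : Matrix ι ι F) (hG : G.det ≠ 0)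
    (N : Subgroup (GL ι F))
    (hN : ∀ x ∈ N, (x : Matrix ι ι F)ᵀ * G * (x : Matrix ι ι F) = G)
    (hspan : spanAlg N = ⊤) (B : GL ι F)
    (hB : ∀ s ∈ matrixSet N, ∀ i j,
      ((B : Matrix ι ι F) * s * ((B⁻¹ : GL ι F) : Matrix ι ι F)) i j ∈ F₁) :
    ∃ lam : F, lam ≠ 0 ∧ ∀ i j, lam⁻¹ *
      (((B⁻¹ : GL ι F) : Matrix ι ι F)ᵀ * G * ((B⁻¹ : GL ι F) : Matrix ι ι F)) i j ∈ F₁ := by
  classical
  obtain ⟨φ, hφ⟩ := exists_frob F₁
  have hfix : ∀ x : F, x ∈ F₁ ↔ φ x = x := fun x => by rw [hφ]; exact mem_iff_pow_card F₁ x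
  set Bm : Matrix ι ι F := (B : Matrix ι ι F) with hBm
  set Bi : Matrix ι ι F := ((B⁻¹ : GL ι F) : Matrix ι ι F) with hBi
  have hBiB : Bi * Bm = 1 := by rw [hBi, hBm, ← Units.val_mul, inv_mul_cancel, Units.val_one]
  have hBBi : Bm * Bi = 1 := by rw [hBi, hBm, ← Units.val_mul, mul_inv_cancel, Units.val_one]
  have hBidet : Bi.det ≠ 0 := (Matrix.isUnits_det_units (B⁻¹)).ne_zero
  have hBmdet : Bm.det ≠ 0 := (Matrix.isUnits_det_units B).ne_zero
  set G' : Matrix ι ι F := Biᵀ * G * Bi with hG'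
  have hG'det : G'.det ≠ 0 := by
    rw [hG', det_mul, det_mul, det_transpose]
    exact mul_ne_zero (mul_ne_zero hBidet hG) hBidet
  have hinv : ∀ x ∈ N, (Bm * (x : Matrix ι ι F) * Bi)ᵀ * G' * (Bm * (x : Matrix ι ι F) * Bi) = G' := by
    intro x hx
    rw [hG', transpose_mul, transpose_mul]
    have h1 : Bmᵀ * Biᵀ = 1 := by rw [← transpose_mul, hBiB, transpose_one]
    calc Biᵀ * ((x : Matrix ι ι F)ᵀ * Bmᵀ) * (Biᵀ * G * Bi) * (Bm * (x : Matrix ι ι F) * Bi)
        = Biᵀ * ((x : Matrix ι ι F)ᵀ * ((Bmᵀ * Biᵀ) * (G * ((Bi * Bm) * ((x : Matrix ι ι F) * Bi))))) := by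
          simp only [Matrix.mul_assoc]
      _ = Biᵀ * ((x : Matrix ι ι F)ᵀ * G * (x : Matrix ι ι F)) * Bi := by
          rw [h1, hBiB]; simp only [Matrix.mul_assoc, Matrix.one_mul]
      _ = Biᵀ * G * Bi := by rw [hN x hx]
  have hφx : ∀ x ∈ N, φ.mapMatrix (Bm * (x : Matrix ι ι F) * Bi) = Bm * (x : Matrix ι ι F) * Bi := by
    intro x hx
    ext i j
    rw [RingHom.mapMatrix_apply, Matrix.map_apply]
    exact (hfix _).1 (hB _ (coe_mem_matrixSet hx) i j)
  have hinvφ : ∀ x ∈ N, (Bm * (x : Matrix ι ι F) * Bi)ᵀ * φ.mapMatrix G' * (Bm * (x : Matrix ι ι F) * Bi)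
      = φ.mapMatrix G' := by
    intro x hx
    have h1 := congrArg φ.mapMatrix (hinv x hx)
    rw [map_mul, map_mul, hφx x hx] at h1
    have h2 : φ.mapMatrix ((Bm * (x : Matrix ι ι F) * Bi)ᵀ) = (Bm * (x : Matrix ι ι F) * Bi)ᵀ := by
      rw [RingHom.mapMatrix_apply, Matrix.transpose_map, ← RingHom.mapMatrix_apply, hφx x hx]
    rwa [h2] at h1
  set T : Matrix ι ι F := G'⁻¹ * φ.mapMatrix G' with hT
  have hGT : G' * T = φ.mapMatrix G' := by
    rw [hT, ← Matrix.mul_assoc, Matrix.mul_nonsing_inv _ (isUnit_iff_ne_zero.2 hG'det), Matrix.one_mul]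
  have hcomm : ∀ x ∈ N, T * (Bm * (x : Matrix ι ι F) * Bi) = (Bm * (x : Matrix ι ι F) * Bi) * T := by
    intro x hx
    set X : Matrix ι ι F := Bm * (x : Matrix ι ι F) * Bi with hX
    have hXdet : X.det ≠ 0 := by
      rw [hX, det_mul, det_mul]
      exact mul_ne_zero (mul_ne_zero hBmdet (Matrix.isUnits_det_units x).ne_zero) hBidet
    have h1 : (Xᵀ * G') * (T * X) = (Xᵀ * G') * (X * T) := by
      calc (Xᵀ * G') * (T * X) = Xᵀ * (G' * T) * X := by simp only [Matrix.mul_assoc]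
        _ = φ.mapMatrix G' := by rw [hGT, hinvφ x hx]
        _ = G' * T := hGT.symm
        _ = (Xᵀ * G' * X) * T := by rw [hinv x hx]
        _ = (Xᵀ * G') * (X * T) := by simp only [Matrix.mul_assoc]
    have hdet : (Xᵀ * G').det ≠ 0 := by
      rw [det_mul, det_transpose]
      exact mul_ne_zero hXdet hG'det
    have hu : IsUnit (Xᵀ * G') := (Matrix.isUnit_iff_isUnit_det _).2 (isUnit_iff_ne_zero.2 hdet)
    exact hu.mul_left_cancel h1
  have hcommall : ∀ Z : Matrix ι ι F, T * Z = Z * T := by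
    intro Z
    have hZ : Bi * Z * Bm ∈ spanAlg N := by rw [hspan]; exact Algebra.mem_top
    rw [mem_spanAlg_iff] at hZ
    have key : ∀ Y ∈ Submodule.span F (matrixSet N), T * (Bm * Y * Bi) = (Bm * Y * Bi) * T := by
      intro Y hY
      induction hY using Submodule.span_induction with
      | mem s hs =>
        obtain ⟨x, hx, rfl⟩ := hs
        exact hcomm x hx
      | zero => simp
      | add a b _ _ ha hb =>
        rw [Matrix.mul_add, Matrix.add_mul, Matrix.mul_add, Matrix.add_mul, ha, hb]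
      | smul c a _ ha =>
        rw [Matrix.mul_smul, Matrix.smul_mul, Matrix.mul_smul, Matrix.smul_mul, ha]
    have h1 := key _ hZ
    have hZ' : Bm * (Bi * Z * Bm) * Bi = Z := by
      calc Bm * (Bi * Z * Bm) * Bi = (Bm * Bi) * Z * (Bm * Bi) := by simp only [Matrix.mul_assoc]
        _ = Z := by rw [hBBi, Matrix.one_mul, Matrix.mul_one]
    rwa [hZ'] at h1
  obtain ⟨ν, hν⟩ : T ∈ Set.range (Matrix.scalar ι) :=
    Matrix.mem_range_scalar_of_commute_single (fun i j _ => (hcommall _).symm)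
  have hent : ∀ i j, φ (G' i j) = G' i j * ν := by
    intro i j
    have h1 := congrFun (congrFun hGT i) j
    rw [← hν, Matrix.scalar_apply, Matrix.mul_diagonal, RingHom.mapMatrix_apply, Matrix.map_apply] at h1
    exact h1.symm
  by_cases hex : ∃ i j, G' i j ≠ 0
  · obtain ⟨i₀, j₀, h0⟩ := hex
    refine ⟨G' i₀ j₀, h0, fun i j => ?_⟩
    rw [hfix, map_mul, map_inv₀, hent, hent]
    have hν0 : ν ≠ 0 := by
      rintro rfl
      have := hent i₀ j₀
      rw [mul_zero] at this
      exact h0 ((map_eq_zero φ).1 this)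
    field_simp
  · refine ⟨1, one_ne_zero, fun i j => ?_⟩
    have h0 : G' i j = 0 := by
      by_contra h
      exact hex ⟨i, j, h⟩
    rw [h0, mul_zero]
    exact F₁.zero_mem

/-- the Gram matrix of the polar form of `Q` in the standard basis -/
def gramM (Q : (ι → F) → F) : Matrix ι ι F :=
  Matrix.of fun i j => QuadraticMap.polar Q (Pi.single i 1) (Pi.single j 1)

theorem gramM_eq (Q : QuadraticForm F (ι → F)) :
    gramM (⇑Q) = LinearMap.toMatrix₂' F (QuadraticMap.polarBilin Q) := by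
  ext i j
  rw [LinearMap.toMatrix₂'_apply, QuadraticMap.polarBilin_apply_apply]
  rfl

/-- a matrix preserving a quadratic form preserves the Gram matrix of its polar form -/
theorem gramM_invariant (Q : QuadraticForm F (ι → F)) (M : Matrix ι ι F)
    (hM : ∀ v, Q (M *ᵥ v) = Q v) : Mᵀ * gramM (⇑Q) * M = gramM (⇑Q) := by
  have hc : (QuadraticMap.polarBilin Q).compl₁₂ (Matrix.toLin' M) (Matrix.toLin' M) =
      QuadraticMap.polarBilin Q := by
    apply LinearMap.ext
    intro u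
    apply LinearMap.ext
    intro v
    rw [LinearMap.compl₁₂_apply, QuadraticMap.polarBilin_apply_apply,
      QuadraticMap.polarBilin_apply_apply, Matrix.toLin'_apply, Matrix.toLin'_apply]
    unfold QuadraticMap.polar
    rw [← Matrix.mulVec_add, hM, hM, hM]
  have h := LinearMap.toMatrix₂'_compl₁₂ (QuadraticMap.polarBilin Q) (Matrix.toLin' M)
    (Matrix.toLin' M)
  rw [hc, LinearMap.toMatrix'_toLin'] at h
  rw [gramM_eq]
  exact h.symm

/-- twice the quadratic form is the value of the Gram matrix -/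
theorem two_mul_eq_dot (Q : QuadraticForm F (ι → F)) (v : ι → F) :
    2 * Q v = v ⬝ᵥ (gramM (⇑Q) *ᵥ v) := by
  rw [gramM_eq, ← Matrix.toLinearMap₂'_apply', Matrix.toLinearMap₂'_toMatrix',
    QuadraticMap.polarBilin_apply_apply, QuadraticMap.polar_self]
  simp

theorem dot_conj (A C : Matrix ι ι F) (u : ι → F) :
    (C *ᵥ u) ⬝ᵥ (A *ᵥ (C *ᵥ u)) = u ⬝ᵥ ((Cᵀ * A * C) *ᵥ u) := by
  rw [← Matrix.mulVec_mulVec, ← Matrix.mulVec_mulVec, Matrix.dotProduct_mulVec u, Matrix.vecMul_transpose]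

theorem dot_mem (F₁ : Subfield F) (A : Matrix ι ι F) (hA : ∀ i j, A i j ∈ F₁) (u : ι → F)
    (hu : ∀ i, u i ∈ F₁) : u ⬝ᵥ (A *ᵥ u) ∈ F₁ := by
  unfold dotProduct mulVec dotProduct
  exact sum_mem fun i _ => F₁.mul_mem (hu i) (sum_mem fun j _ => F₁.mul_mem (hA i j) (hu j))

theorem det_mem (F₁ : Subfield F) (A : Matrix ι ι F) (hA : ∀ i j, A i j ∈ F₁) : A.det ∈ F₁ := by
  obtain ⟨A₁, rfl⟩ : ∃ A₁ : Matrix ι ι F₁, (F₁.subtype : F₁ →+* F).mapMatrix A₁ = A :=
    ⟨fun i j => ⟨A i j, hA i j⟩, by ext i j; rfl⟩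
  rw [← RingHom.map_det]
  exact (Matrix.det A₁).2

open Cfsg.Agent.Lib.Helper35_Asch_PK11 Cfsg.Agent.Lib.Helper44_StdForms in
/-- OP7a: realisable over a proper subfield gives a subfield group carrying the form (class 5) -/
theorem OP7a [Fintype F] (hodd : Odd (Fintype.card F)) (m : ℕ) (hm : 3 ≤ m) (H N : Subgroup (GL (OI m) F))
    (hHI : H ≤ isometryGroup F (quadFormOdd m F)) (hNH : N ≤ H) (hnorm : NormalizesGrp H N)
    (hspan : spanAlg N = ⊤) (F₀ : Subfield F) (hF₀ : F₀ ≠ ⊤) (hreal : RealisableOver F₀ (matrixSet N)) :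
    InOClass m H := by
  classical
  obtain ⟨F₁, r, hr, hle, hcard⟩ := exists_prime_index_subfield F₀ hF₀
  obtain ⟨B, hB⟩ := hreal
  have hHmem : ∀ h ∈ H, B * h * B⁻¹ ∈
      (Matrix.GeneralLinearGroup.map (F₁.subtype : F₁ →+* F)).range ⊔ scalars (OI m) F := fun h hh =>
    mem_sup_of_entries F₁ _ (fun i j k l => hle (entries_mem N hspan F₀ B hB h (hnorm h hh) i j k l))
  have h2 : (2 : F) ≠ 0 := Cfsg.Agent.Lib.Helper44_FinSq.two_ne_zero_of_odd_card hodd
  have h2mem : (2 : F) ∈ F₁ := by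
    rw [← one_add_one_eq_two]; exact F₁.add_mem F₁.one_mem F₁.one_mem
  set G : Matrix (OI m) (OI m) F := gramM (quadFormOdd m F) with hGdef
  have hGdet' : G.det = 2 * (-1) ^ m := det_gram_quadFormOdd
  have hGdet : G.det ≠ 0 := by
    rw [hGdet']
    exact mul_ne_zero h2 (pow_ne_zero _ (neg_ne_zero.2 one_ne_zero))
  have hcoe : (⇑(qfOdd m F) : (OI m → F) → F) = quadFormOdd m F := coe_qfOdd m F
  have hNG : ∀ x ∈ N, (x : Matrix (OI m) (OI m) F)ᵀ * G * (x : Matrix (OI m) (OI m) F) = G := by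
    intro x hx
    have := gramM_invariant (qfOdd m F) (x : Matrix (OI m) (OI m) F) (by
      intro v
      rw [hcoe]
      exact (mem_isometryGroup_iff _ _).1 (hHI (hNH hx)) v)
    rw [hcoe] at this
    exact this
  obtain ⟨lam, hlam, hrat⟩ := gram_rational F₁ G hGdet N hNG hspan B
    (fun s hs i j => hle (hB s hs i j))
  set Bi : Matrix (OI m) (OI m) F := ((B⁻¹ : GL (OI m) F) : Matrix (OI m) (OI m) F) with hBi
  set G' : Matrix (OI m) (OI m) F := Biᵀ * G * Bi with hG'
  have hBidet : Bi.det ≠ 0 := (Matrix.isUnits_det_units (B⁻¹)).ne_zero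
  have hcardι : Fintype.card (OI m) = 2 * m + 1 := by
    simp [Fintype.card_sum]; ring
  have hG0 : ∀ i j, (lam⁻¹ • G') i j ∈ F₁ := fun i j => by
    rw [Matrix.smul_apply, smul_eq_mul]; exact hrat i j
  -- squareness when r = 2
  have hsq : r = 2 → IsSquare lam := by
    intro hr2
    subst hr2
    have hdetmem : (lam⁻¹ • G').det ∈ F₁ := det_mem F₁ _ hG0
    obtain ⟨d, hd⟩ := isSquare_of_mem hodd F₁ hcard _ hdetmem
    have hcmem : (2 : F) * (-1) ^ m ∈ F₁ :=
      F₁.mul_mem h2mem (F₁.pow_mem (F₁.neg_mem F₁.one_mem) m)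
    obtain ⟨c, hc⟩ := isSquare_of_mem hodd F₁ hcard _ hcmem
    have hdet1 : (lam⁻¹ • G').det = (lam⁻¹) ^ (2 * m + 1) * (Bi.det * (2 * (-1) ^ m) * Bi.det) := by
      rw [Matrix.det_smul, hcardι, hG', det_mul, det_mul, det_transpose, hGdet']
    have hd0 : d ≠ 0 := by
      rintro rfl
      rw [mul_zero] at hd
      rw [hd] at hdet1
      have : (lam⁻¹) ^ (2 * m + 1) * (Bi.det * (2 * (-1) ^ m) * Bi.det) ≠ 0 :=
        mul_ne_zero (pow_ne_zero _ (inv_ne_zero hlam))
          (mul_ne_zero (mul_ne_zero hBidet (hGdet' ▸ hGdet)) hBidet)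
      exact this hdet1.symm
    rw [hd, hc] at hdet1
    have h5 : lam ^ (2 * m + 1) * (d * d) = (Bi.det * c) ^ 2 := by
      rw [hdet1, ← mul_assoc, ← mul_pow, mul_inv_cancel₀ hlam, one_pow, one_mul]; ring
    have hne : lam ^ m * d ≠ 0 := mul_ne_zero (pow_ne_zero _ hlam) hd0
    refine ⟨Bi.det * c / (lam ^ m * d), ?_⟩
    rw [div_mul_div_comm, eq_div_iff (mul_ne_zero hne hne)]
    linear_combination h5
  obtain ⟨μ, hμ, hμmem⟩ := exists_mu hodd F₁ r hr hcard lam hlam hsq
  set S : GL (OI m) F := Units.map (Matrix.scalar (OI m) : F →+* Matrix (OI m) (OI m) F).toMonoidHom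
    (Units.mk0 μ hμ) with hS
  have hSv : (S : Matrix (OI m) (OI m) F) = μ • (1 : Matrix (OI m) (OI m) F) := by
    rw [hS]; simp [Matrix.smul_one_eq_diagonal]
  have hScomm : ∀ g : GL (OI m) F, S * g = g * S := by
    intro g
    apply Units.ext
    rw [Units.val_mul, Units.val_mul, hSv, smul_mul_assoc, one_mul, mul_smul_comm, mul_one]
  set P : GL (OI m) F := S * B⁻¹ with hP
  have hPv : (P : Matrix (OI m) (OI m) F) = μ • Bi := by
    rw [hP, Units.val_mul, hSv, smul_mul_assoc, one_mul]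
  refine ⟨subfieldSubgroup F₁ P ⊓ isometryGroup F (quadFormOdd m F),
    Or.inr (Or.inr (Or.inr (Or.inr (Or.inr (Or.inr (Or.inl ⟨F₁, r, P, hr, hcard, ?_, rfl⟩)))))),
    le_inf ?_ hHI⟩
  · intro u hu
    have h1 : 2 * quadFormOdd m F ((P : Matrix (OI m) (OI m) F) *ᵥ u)
        = μ ^ 2 * lam * (u ⬝ᵥ ((lam⁻¹ • G') *ᵥ u)) := by
      have h0 := two_mul_eq_dot (qfOdd m F) ((P : Matrix (OI m) (OI m) F) *ᵥ u)
      rw [hcoe] at h0
      rw [h0, hPv, Matrix.smul_mulVec, Matrix.mulVec_smul, smul_dotProduct, dotProduct_smul,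
        dot_conj, ← hGdef, ← hG', Matrix.smul_mulVec, dotProduct_smul]
      simp only [smul_eq_mul]
      field_simp
    have h3 : quadFormOdd m F ((P : Matrix (OI m) (OI m) F) *ᵥ u)
        = 2⁻¹ * (μ ^ 2 * lam * (u ⬝ᵥ ((lam⁻¹ • G') *ᵥ u))) := by
      rw [← h1]; field_simp
    rw [h3]
    exact F₁.mul_mem (F₁.inv_mem h2mem) (F₁.mul_mem hμmem (dot_mem F₁ _ hG0 u hu))
  · intro h hh
    refine ⟨B * h * B⁻¹, hHmem h hh, ?_⟩
    simp only [MulEquiv.coe_toMonoidHom, MulAut.conj_apply]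
    have h1 : P * (B * h * B⁻¹) * P⁻¹ = S * h * S⁻¹ := by rw [hP]; group
    rw [h1, hScomm h, mul_inv_cancel_right]

end Cfsg.Agent.Lib.Helper24_OrthOdd_OP7a
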