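import Mathlib
import Cfsg.Agent.Lib.Helper94_Q2Defs

set_option autoImplicit false
set_option linter.unusedSectionVars false
set_option linter.unusedVariables false

/-!
# Q2 market (architect helper94), package Q2-C0, hypothesis-parametrised form

`C0_aux`: statement of `C0` with the statements of the packages NSURJ and TRANS as hypotheses.
Also small facts on the model (`mQ_single`, `isBl_single`) used by the packages C0 and CASES.
-/

namespace Cfsg.Agent.Lib.Helper24_Q2_C0aux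

open Module Cfsg.Agent.Lib.Helper94_Symp Cfsg.Agent.Lib.Helper94_OrthSmall
  Cfsg.Agent.Lib.Helper94_OrthSiegel Cfsg.Agent.Lib.Helper94_OrthNondeg
  Cfsg.Agent.Lib.Helper29_ODDefs Cfsg.Agent.Lib.Helper94_Q2Defs

variable {F : Type*} [Field F] [Finite F] {a b : F} [Fact (∀ r : F, r ^ 2 ≠ a + b * r)] {t : ℕ}
  {S M L : Subgroup (MV a b t ≃ₗ[F] MV a b t)}

theorem mQ_single (l : Fin t) (ζ : QuadraticAlgebra F a b) :
    mQ a b t (Pi.single l ζ : MV a b t) = QuadraticAlgebra.norm ζ := by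
  rw [mQ_apply, Finset.sum_eq_single l]
  · rw [Pi.single_eq_same]
  · intro j _ hj
    rw [Pi.single_eq_of_ne hj, QuadraticAlgebra.norm_zero]
  · intro h
    exact absurd (Finset.mem_univ l) h

theorem single_mem' (l : Fin t) (ζ : QuadraticAlgebra F a b) :
    (Pi.single l ζ : MV a b t) ∈ mD a b t l := by
  intro j hj
  simp [hj]

/-- `C0` from NSURJ and TRANS. -/
theorem C0_aux
    (hNS : ∀ c : F, ∃ z : QuadraticAlgebra F a b, QuadraticAlgebra.norm z = c)
    (hTR : IsDStab (mD a b t) S → 3 ≤ t → ∀ {x y : MV a b t}, IsBl x → IsBl y →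
      mQ a b t x = mQ a b t y → ∃ h ∈ S ⊓ mOm a b t, h x = y)
    (hC : Ctx2 a b t S M) (s : Set F) (hs : ∃ c ∈ s, c ≠ 0)
    (hCs : ∀ x, IsBl x → mQ a b t x ∈ s → CStar S M x) :
    ∀ g ∈ M, ∀ i j, (mD a b t i).map (g : MV a b t →ₗ[F] MV a b t) = mD a b t j → g ∈ S := by
  intro g hg i j hij
  obtain ⟨c, hcs, hc0⟩ := hs
  obtain ⟨z, hz⟩ := hNS c
  set x : MV a b t := Pi.single i z with hx
  have hxQ : mQ a b t x = c := by rw [hx, mQ_single, hz]
  have hx0 : x ≠ 0 := by
    intro h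
    apply hc0
    rw [← hxQ, h, mQ_apply]
    simp
  have hxB : IsBl x := ⟨hx0, i, single_mem' i z⟩
  have hgO : g ∈ oG (mQ a b t) := (Subgroup.commutator_le_self _) (hC.hMO hg)
  have hgxQ : mQ a b t (g x) = mQ a b t x := hgO x
  have hgx0 : g x ≠ 0 := by
    intro h
    apply hx0
    have : g x = g 0 := by rw [h, map_zero]
    exact g.injective this
  have hgxD : g x ∈ mD a b t j := by
    rw [← hij]
    exact Submodule.mem_map_of_mem (single_mem' i z)
  have hgxB : IsBl (g x) := ⟨hgx0, j, hgxD⟩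
  obtain ⟨h₁, hh₁, hh₁x⟩ := hTR hC.hS (le_trans (by norm_num) hC.ht) hgxB hxB hgxQ
  have hmem : h₁ * g ∈ M := Subgroup.mul_mem _ (hC.hmin.le hh₁) hg
  have hfix : (h₁ * g) x = (1 : F) • x := by
    rw [LinearEquiv.mul_apply, hh₁x, one_smul]
  have hS1 : h₁ * g ∈ S := hCs x hxB (by rw [hxQ]; exact hcs) (h₁ * g) hmem ⟨1, hfix⟩
  have : g = h₁⁻¹ * (h₁ * g) := by group
  rw [this]
  exact Subgroup.mul_mem _ (Subgroup.inv_mem _ hh₁.1) hS1

end Cfsg.Agent.Lib.Helper24_Q2_C0aux
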