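import Mathlib
import Cfsg.Agent.Lib.Helper94_Q2Defs

set_option autoImplicit false
set_option linter.unusedSectionVars false
set_option linter.unusedVariables false

/-!
# Q2 market (architect helper94), package Q2-ROT: the diagonal rotations `x ↦ (w l * x l)_l`.
-/

namespace Cfsg.Agent.Lib.Helper44_Q2_ROT

open Module Cfsg.Agent.Lib.Helper94_Symp Cfsg.Agent.Lib.Helper94_OrthSmall
  Cfsg.Agent.Lib.Helper94_OrthSiegel Cfsg.Agent.Lib.Helper94_OrthNondeg
  Cfsg.Agent.Lib.Helper29_ODDefs Cfsg.Agent.Lib.Helper94_Q2Defs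

section tools

variable {F : Type*} [Field F] {a b : F} {t : ℕ}

/-- an element of norm one is inverted by `star` -/
theorem mul_star_of_norm {z : QuadraticAlgebra F a b} (hz : QuadraticAlgebra.norm z = 1) :
    z * star z = 1 := by
  rw [← QuadraticAlgebra.algebraMap_norm_eq_mul_star, hz, map_one]

/-- the diagonal multiplication `x ↦ (w l * x l)_l` -/
def dmul (w w' : Fin t → QuadraticAlgebra F a b) (h : ∀ l, w l * w' l = 1) :
    MV a b t ≃ₗ[F] MV a b t where
  toFun x := fun l => w l * x l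
  map_add' x y := by
    funext l
    simp only [Pi.add_apply, mul_add]
  map_smul' c x := by
    funext l
    simp only [Pi.smul_apply, mul_smul_comm, RingHom.id_apply]
  invFun x := fun l => w' l * x l
  left_inv x := by
    funext l
    show w' l * (w l * x l) = x l
    rw [← mul_assoc, mul_comm (w' l), h, one_mul]
  right_inv x := by
    funext l
    show w l * (w' l * x l) = x l
    rw [← mul_assoc, h, one_mul]

theorem dmul_apply (w w' : Fin t → QuadraticAlgebra F a b) (h : ∀ l, w l * w' l = 1)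
    (x : MV a b t) (l : Fin t) : dmul w w' h x l = w l * x l := rfl

theorem dmul_inv (w w' : Fin t → QuadraticAlgebra F a b) (h : ∀ l, w l * w' l = 1) :
    (dmul w w' h)⁻¹ = dmul w' w (fun l => by rw [mul_comm, h]) := by
  apply LinearEquiv.ext
  intro x
  rfl

theorem dmul_mem_oG (w w' : Fin t → QuadraticAlgebra F a b) (h : ∀ l, w l * w' l = 1)
    (hw : ∀ l, QuadraticAlgebra.norm (w l) = 1) : dmul w w' h ∈ oG (mQ a b t) := by
  intro x
  rw [mQ_apply, mQ_apply]
  apply Finset.sum_congr rfl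
  intro l _
  rw [dmul_apply, map_mul, hw, one_mul]

theorem dmul_map_mD (w w' : Fin t → QuadraticAlgebra F a b) (h : ∀ l, w l * w' l = 1)
    (i : Fin t) :
    (mD a b t i).map ((dmul w w' h : MV a b t ≃ₗ[F] MV a b t) : MV a b t →ₗ[F] MV a b t) =
      mD a b t i := by
  apply le_antisymm
  · rintro _ ⟨x, hx, rfl⟩
    intro j hj
    show w j * x j = 0
    rw [hx j hj, mul_zero]
  · intro y hy
    refine ⟨(dmul w w' h).symm y, ?_, ?_⟩
    · intro j hj
      show w' j * y j = 0
      rw [hy j hj, mul_zero]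
    · exact (dmul w w' h).apply_symm_apply y

end tools

variable {F : Type*} [Field F] [Finite F] {a b : F} [Fact (∀ r : F, r ^ 2 ≠ a + b * r)] {t : ℕ}
  {S M L : Subgroup (MV a b t ≃ₗ[F] MV a b t)}

/-- **Q2-ROT** diagonal rotations. -/
theorem ROT (S : Subgroup (MV a b t ≃ₗ[F] MV a b t)) (hS : IsDStab (mD a b t) S)
    (w : Fin t → QuadraticAlgebra F a b) (hw : ∀ l, QuadraticAlgebra.norm (w l) = 1) :
    ∃ g : MV a b t ≃ₗ[F] MV a b t, g ∈ oG (mQ a b t) ∧ g ∈ S ∧ ∀ x l, g x l = w l * x l := by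
  have h : ∀ l, w l * star (w l) = 1 := fun l => mul_star_of_norm (hw l)
  refine ⟨dmul w (fun l => star (w l)) h, dmul_mem_oG _ _ h hw, ?_, fun x l => rfl⟩
  rw [hS]
  exact ⟨1, fun i => dmul_map_mD _ _ h i⟩

end Cfsg.Agent.Lib.Helper44_Q2_ROT
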