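import Mathlib
import Cfsg.Agent.Lib.Helper94_Q2Defs
import Cfsg.Agent.Lib.Helper44_Q2_ROT

set_option autoImplicit false
set_option linter.unusedSectionVars false
set_option linter.unusedVariables false

/-!
# Q2 market (architect helper94), package Q2-ROTA: the pair rotations `(z, star z)` on two
coordinates are commutators of isometries.
-/

namespace Cfsg.Agent.Lib.Helper44_Q2_ROTA

open scoped commutatorElement

open Module Cfsg.Agent.Lib.Helper94_Symp Cfsg.Agent.Lib.Helper94_OrthSmall
  Cfsg.Agent.Lib.Helper94_OrthSiegel Cfsg.Agent.Lib.Helper94_OrthNondeg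
  Cfsg.Agent.Lib.Helper29_ODDefs Cfsg.Agent.Lib.Helper94_Q2Defs
  Cfsg.Agent.Lib.Helper44_Q2_ROT

section tools

variable {F : Type*} [Field F] {a b : F} {t : ℕ}

/-- the coordinate permutation `x ↦ x ∘ σ` -/
def cperm (σ : Equiv.Perm (Fin t)) : MV a b t ≃ₗ[F] MV a b t :=
  LinearEquiv.funCongrLeft F (QuadraticAlgebra F a b) σ

theorem cperm_apply (σ : Equiv.Perm (Fin t)) (x : MV a b t) (j : Fin t) :
    (cperm σ : MV a b t ≃ₗ[F] MV a b t) x j = x (σ j) := rfl

theorem cperm_mem_oG (σ : Equiv.Perm (Fin t)) :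
    (cperm σ : MV a b t ≃ₗ[F] MV a b t) ∈ oG (mQ a b t) := by
  intro x
  rw [mQ_apply, mQ_apply]
  exact Equiv.sum_comp σ (fun l => QuadraticAlgebra.norm (x l))

theorem cperm_swap_inv (l m : Fin t) :
    (cperm (Equiv.swap l m) : MV a b t ≃ₗ[F] MV a b t)⁻¹ = cperm (Equiv.swap l m) := by
  apply LinearEquiv.ext
  intro x
  apply (cperm (Equiv.swap l m) : MV a b t ≃ₗ[F] MV a b t).injective
  rw [← LinearEquiv.mul_apply, mul_inv_cancel]
  funext j
  rw [cperm_apply, cperm_apply, Equiv.swap_apply_self]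
  rfl

end tools

variable {F : Type*} [Field F] [Finite F] {a b : F} [Fact (∀ r : F, r ^ 2 ≠ a + b * r)] {t : ℕ}
  {S M L : Subgroup (MV a b t ≃ₗ[F] MV a b t)}

/-- **Q2-ROTA** -/
theorem ROTA {l m : Fin t} (hlm : l ≠ m) {z : QuadraticAlgebra F a b}
    (hz : QuadraticAlgebra.norm z = 1) (g : MV a b t ≃ₗ[F] MV a b t)
    (hg : ∀ x j, g x j = (if j = l then z else if j = m then star z else 1) * x j) :
    g ∈ mOm a b t := by
  classical
  have hzs : z * star z = 1 := mul_star_of_norm hz
  set w : Fin t → QuadraticAlgebra F a b := fun j => if j = l then z else 1 with hw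
  set w' : Fin t → QuadraticAlgebra F a b := fun j => if j = l then star z else 1 with hw'
  have h : ∀ j, w j * w' j = 1 := by
    intro j
    simp only [hw, hw']
    split_ifs
    · exact hzs
    · exact one_mul 1
  have hwn : ∀ j, QuadraticAlgebra.norm (w j) = 1 := by
    intro j
    simp only [hw]
    split_ifs
    · exact hz
    · exact map_one _
  set c : MV a b t ≃ₗ[F] MV a b t := dmul w w' h with hc
  set p : MV a b t ≃ₗ[F] MV a b t := cperm (Equiv.swap l m) with hp
  have hcO : c ∈ oG (mQ a b t) := dmul_mem_oG w w' h hwn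
  have hpO : p ∈ oG (mQ a b t) := cperm_mem_oG _
  have hgeq : g = ⁅c, p⁆ := by
    apply LinearEquiv.ext
    intro x
    funext j
    rw [hg, commutatorElement_def, hp, cperm_swap_inv, hc, dmul_inv]
    simp only [LinearEquiv.mul_apply, dmul_apply, cperm_apply]
    rw [Equiv.swap_apply_self]
    simp only [hw, hw']
    by_cases hjl : j = l
    · subst hjl
      rw [if_pos rfl, if_pos rfl, Equiv.swap_apply_left, if_neg (Ne.symm hlm), one_mul]
    · by_cases hjm : j = m
      · subst hjm
        rw [if_neg hjl, if_neg hjl, if_pos rfl, Equiv.swap_apply_right, if_pos rfl, one_mul]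
      · rw [if_neg hjl, if_neg hjl, if_neg hjm, Equiv.swap_apply_of_ne_of_ne hjl hjm, if_neg hjl,
          one_mul, one_mul]
  rw [hgeq]
  exact Subgroup.commutator_mem_commutator hcO hpO

end Cfsg.Agent.Lib.Helper44_Q2_ROTA
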