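import Mathlib
import Cfsg.Agent.Lib.Helper94_Q2Defs
import Cfsg.Agent.Lib.Helper5_Q2_PERM
import Cfsg.Agent.Lib.Helper44_Q2_ROT
import Cfsg.Agent.Lib.Helper44_Q2_ROTA
import Cfsg.Agent.Lib.Helper85_Q2_BASIC

set_option autoImplicit false
set_option linter.unusedSectionVars false
set_option linter.unusedVariables false

/-!
# Q2 package TRANS (architect helper94): `S ⊓ Ω` is transitive on the block vectors of a given norm
-/

namespace Cfsg.Agent.Lib.Helper55_Q2_TRANS

open Module Cfsg.Agent.Lib.Helper94_Symp Cfsg.Agent.Lib.Helper94_OrthSmall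
  Cfsg.Agent.Lib.Helper94_OrthSiegel Cfsg.Agent.Lib.Helper94_OrthNondeg
  Cfsg.Agent.Lib.Helper29_ODDefs Cfsg.Agent.Lib.Helper94_Q2Defs

variable {F : Type*} [Field F] [Finite F] {a b : F} [Fact (∀ r : F, r ^ 2 ≠ a + b * r)] {t : ℕ}
  {S M L : Subgroup (MV a b t ≃ₗ[F] MV a b t)}

/-- two vectors of the same plane `mD j` with the same norm are conjugate under `S ⊓ Ω` -/
theorem trans_same (hS : IsDStab (mD a b t) S) (ht : 3 ≤ t) {j : Fin t} {x y : MV a b t}
    (hx0 : x ≠ 0) (hx : x ∈ mD a b t j) (hy : y ∈ mD a b t j)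
    (h : mQ a b t x = mQ a b t y) : ∃ h ∈ S ⊓ mOm a b t, h x = y := by
  have hxj : x j ≠ 0 := by
    intro h0
    apply hx0
    funext l
    by_cases hl : l = j
    · rw [hl, h0]; rfl
    · exact hx l hl
  have hn : QuadraticAlgebra.norm (x j) = QuadraticAlgebra.norm (y j) := by
    rw [← Cfsg.Agent.Lib.Helper85_Q2_BASIC.mQ_of_mem hx,
      ← Cfsg.Agent.Lib.Helper85_Q2_BASIC.mQ_of_mem hy, h]
  have hnx : QuadraticAlgebra.norm (x j) ≠ 0 := fun h0 =>
    hxj (QuadraticAlgebra.norm_eq_zero_iff_eq_zero.mp h0)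
  -- another coordinate
  obtain ⟨m, hm⟩ : ∃ m : Fin t, m ≠ j := by
    by_cases hj0 : j.val = 0
    · refine ⟨⟨1, by omega⟩, fun e => ?_⟩
      have := congrArg Fin.val e
      simp only at this
      omega
    · refine ⟨⟨0, by omega⟩, fun e => ?_⟩
      have := congrArg Fin.val e
      simp only at this
      omega
  set z : QuadraticAlgebra F a b := y j / x j with hz
  have hzx : z * x j = y j := by rw [hz, div_mul_cancel₀ _ hxj]
  have hzn : QuadraticAlgebra.norm z = 1 := by
    have h1 : QuadraticAlgebra.norm z * QuadraticAlgebra.norm (x j) =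
        1 * QuadraticAlgebra.norm (x j) := by
      rw [← map_mul, hzx, one_mul, hn]
    exact mul_right_cancel₀ hnx h1
  set w : Fin t → QuadraticAlgebra F a b :=
    fun l => if l = j then z else if l = m then star z else 1 with hw
  have hwn : ∀ l, QuadraticAlgebra.norm (w l) = 1 := by
    intro l
    simp only [hw]
    split_ifs
    · exact hzn
    · rw [QuadraticAlgebra.norm_star, hzn]
    · exact map_one _
  obtain ⟨g, hgO, hgS, hg⟩ := Cfsg.Agent.Lib.Helper44_Q2_ROT.ROT S hS w hwn
  have hgOm : g ∈ mOm a b t :=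
    Cfsg.Agent.Lib.Helper44_Q2_ROTA.ROTA (Ne.symm hm) hzn g (fun v l => by rw [hg v l])
  refine ⟨g, ⟨hgS, hgOm⟩, ?_⟩
  funext l
  rw [hg x l]
  by_cases hl : l = j
  · simp only [hw, hl, if_true]
    exact hzx
  · rw [hx l hl, hy l hl, mul_zero]

theorem TRANS (hS : IsDStab (mD a b t) S) (ht : 3 ≤ t) {x y : MV a b t} (hx : IsBl x)
    (hy : IsBl y) (h : mQ a b t x = mQ a b t y) : ∃ h ∈ S ⊓ mOm a b t, h x = y := by
  obtain ⟨hx0, i, hxi⟩ := hx
  obtain ⟨hy0, j, hyj⟩ := hy
  by_cases hij : i = j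
  · subst hij
    exact trans_same hS ht hx0 hxi hyj h
  · -- a third coordinate
    obtain ⟨k, hki, hkj⟩ : ∃ k : Fin t, k ≠ i ∧ k ≠ j := by
      by_contra hcon
      push Not at hcon
      have hsub : (Finset.univ : Finset (Fin t)) ⊆ {i, j} := by
        intro l _
        by_cases hli : l = i
        · simp [hli]
        · simp [hcon l hli]
      have := Finset.card_le_card hsub
      rw [Finset.card_univ, Fintype.card_fin] at this
      have h2 := Finset.card_le_two (a := i) (b := j)
      omega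
    set π : Equiv.Perm (Fin t) := Equiv.swap i j * Equiv.swap j k with hπ
    have hπi : π i = j := by
      rw [hπ, Equiv.Perm.mul_apply, Equiv.swap_apply_of_ne_of_ne hij (Ne.symm hki),
        Equiv.swap_apply_left]
    have hsign : Equiv.Perm.sign π = 1 := by
      rw [hπ, map_mul, Equiv.Perm.sign_swap hij, Equiv.Perm.sign_swap (Ne.symm hkj)]
      rfl
    obtain ⟨p, hpO, hpS, hp, hpOm⟩ := Cfsg.Agent.Lib.Helper5_Q2_PERM.PERM S hS π
    have hpx : p x ∈ mD a b t j := by
      intro l hl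
      have : l = π (π⁻¹ l) := by simp
      rw [this, hp x (π⁻¹ l)]
      apply hxi
      intro e
      apply hl
      rw [this, e, hπi]
    have hpx0 : p x ≠ 0 := by
      intro h0
      apply hx0
      have := congrArg (p.symm) h0
      simpa using this
    have hQ : mQ a b t (p x) = mQ a b t y := by
      rw [← h]
      exact hpO x
    obtain ⟨g, hg, hgx⟩ := trans_same hS ht hpx0 hpx hyj hQ
    refine ⟨g * p, (S ⊓ mOm a b t).mul_mem hg ⟨hpS, hpOm hsign⟩, ?_⟩
    rw [LinearEquiv.mul_apply, hgx]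

end Cfsg.Agent.Lib.Helper55_Q2_TRANS
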