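import Mathlib
import Cfsg.Agent.Lib.Helper94_Q2Defs
import Cfsg.Agent.Lib.Helper24_Q2_C0aux
import Cfsg.Agent.Lib.Helper63_Q2_NSURJ
import Cfsg.Agent.Lib.Helper55_Q2_TRANS

set_option autoImplicit false
set_option linter.unusedSectionVars false
set_option linter.unusedVariables false

/-!
# Q2 market (architect helper94), package Q2-C0 (verbatim)

Assembled from `Helper24_Q2_C0aux.C0_aux` and the landed packages NSURJ (helper63), TRANS (helper55).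
-/

namespace Cfsg.Agent.Lib.Helper24_Q2_C0

open Module Cfsg.Agent.Lib.Helper94_Symp Cfsg.Agent.Lib.Helper94_OrthSmall
  Cfsg.Agent.Lib.Helper94_OrthSiegel Cfsg.Agent.Lib.Helper94_OrthNondeg
  Cfsg.Agent.Lib.Helper29_ODDefs Cfsg.Agent.Lib.Helper94_Q2Defs

variable {F : Type*} [Field F] [Finite F] {a b : F} [Fact (∀ r : F, r ^ 2 ≠ a + b * r)] {t : ℕ}
  {S M L : Subgroup (MV a b t ≃ₗ[F] MV a b t)}

/-- **Q2-C0** -/
theorem C0 (hC : Ctx2 a b t S M) (s : Set F) (hs : ∃ c ∈ s, c ≠ 0)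
    (hCs : ∀ x, IsBl x → mQ a b t x ∈ s → CStar S M x) :
    ∀ g ∈ M, ∀ i j, (mD a b t i).map (g : MV a b t →ₗ[F] MV a b t) = mD a b t j → g ∈ S :=
  Cfsg.Agent.Lib.Helper24_Q2_C0aux.C0_aux
    (fun c => Cfsg.Agent.Lib.Helper63_Q2_NSURJ.NSURJ c)
    (fun hS ht {_ _} hx hy h => Cfsg.Agent.Lib.Helper55_Q2_TRANS.TRANS hS ht hx hy h)
    hC s hs hCs

end Cfsg.Agent.Lib.Helper24_Q2_C0
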