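import Mathlib
import Cfsg.Agent.Lib.Helper94_Q2Defs

/-!
helper53: Q2 package BLREFL (architect helper94), verbatim: the reflection in a nonsingular vector
of a coordinate plane stabilises every coordinate plane, hence lies in the decomposition
stabiliser.
-/

set_option autoImplicit false
set_option linter.unusedSectionVars false
set_option linter.unusedVariables false

namespace Cfsg.Agent.Lib.Helper53_Q2_BLREFL

open Module Cfsg.Agent.Lib.Helper94_Symp Cfsg.Agent.Lib.Helper94_OrthSmall
  Cfsg.Agent.Lib.Helper94_OrthSiegel Cfsg.Agent.Lib.Helper94_OrthNondeg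
  Cfsg.Agent.Lib.Helper29_ODDefs Cfsg.Agent.Lib.Helper94_Q2Defs

variable {F : Type*} [Field F] [Finite F] {a b : F} [Fact (∀ r : F, r ^ 2 ≠ a + b * r)] {t : ℕ}
  {S M L : Subgroup (MV a b t ≃ₗ[F] MV a b t)}

omit [Finite F] [Fact (∀ r : F, r ^ 2 ≠ a + b * r)] in
/-- the reflection in `x ∈ mD l` maps every coordinate plane into itself -/
theorem mrefl_mem_mD {l : Fin t} {x : MV a b t} (hx : x ∈ mD a b t l) (hx' : mQ a b t x ≠ 0)
    (i : Fin t) {v : MV a b t} (hv : v ∈ mD a b t i) : mrefl a b t hx' v ∈ mD a b t i := by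
  rw [refl_apply]
  by_cases hil : i = l
  · subst hil
    exact (mD a b t i).sub_mem hv ((mD a b t i).smul_mem _ hx)
  · have hB : mB a b t v x = 0 := by
      rw [mB_apply]
      apply Finset.sum_eq_zero
      intro j _
      by_cases hj : j = i
      · have : x j = 0 := hx j (by rw [hj]; exact hil)
        rw [this, star_zero, mul_zero, map_zero]
      · rw [hv j hj, zero_mul, map_zero]
    rw [hB, mul_zero, zero_smul, sub_zero]
    exact hv

/-- **Q2-BLREFL** [S] x in mD l: mrefl x v = v - c . x changes only coordinate l: maps every mD j onto itself. -/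
theorem BLREFL (S : Subgroup (MV a b t ≃ₗ[F] MV a b t)) (hS : IsDStab (mD a b t) S)
    {x : MV a b t} (hx : IsBl x) (hx' : mQ a b t x ≠ 0) : mrefl a b t hx' ∈ S := by
  obtain ⟨-, l, hl⟩ := hx
  rw [hS]
  refine ⟨1, fun i => ?_⟩
  rw [Equiv.Perm.one_apply]
  apply le_antisymm
  · rintro _ ⟨v, hv, rfl⟩
    exact mrefl_mem_mD hl hx' i hv
  · intro v hv
    refine ⟨mrefl a b t hx' v, mrefl_mem_mD hl hx' i hv, ?_⟩
    have h := reflLin_invol (mQ a b t) (mB a b t) (mQs a b t) (mQp a b t) hx' v
    exact h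

end Cfsg.Agent.Lib.Helper53_Q2_BLREFL
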