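import Mathlib
import Cfsg.Agent.Lib.Helper94_Q2Defs
import Cfsg.Agent.Lib.Helper85_Q2_BASIC
import Cfsg.Agent.Lib.Helper53_Q2_BLREFL
import Cfsg.Agent.Lib.Helper42_Q2_DICHaux

/-!
# Q2 market (architect helper94), package Q2-DICH (verbatim)

`nrmh`: own copy of the statement of Q2-NRMH (the block reflections normalise `H = S ⊓ Ω`), from
`BLREFL` and the normality of the commutator subgroup.
-/

set_option autoImplicit false
set_option linter.unusedSectionVars false
set_option linter.unusedVariables false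

namespace Cfsg.Agent.Lib.Helper42_Q2_DICH

open Module Cfsg.Agent.Lib.Helper94_Symp Cfsg.Agent.Lib.Helper94_OrthSmall
  Cfsg.Agent.Lib.Helper94_OrthSiegel Cfsg.Agent.Lib.Helper94_OrthNondeg
  Cfsg.Agent.Lib.Helper29_ODDefs Cfsg.Agent.Lib.Helper94_Q2Defs
open scoped commutatorElement

variable {F : Type*} [Field F] [Finite F] {a b : F} [Fact (∀ r : F, r ^ 2 ≠ a + b * r)] {t : ℕ}
  {S M L : Subgroup (MV a b t ≃ₗ[F] MV a b t)}

/-- the block reflections normalise `H = S ⊓ Ω` -/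
theorem nrmh (hS : IsDStab (mD a b t) S) {x : MV a b t} (hx : IsBl x) (hx' : mQ a b t x ≠ 0)
    {h : MV a b t ≃ₗ[F] MV a b t} (hh : h ∈ S ⊓ mOm a b t) :
    mrefl a b t hx' * h * mrefl a b t hx' ∈ S ⊓ mOm a b t := by
  have hrS : mrefl a b t hx' ∈ S := Cfsg.Agent.Lib.Helper53_Q2_BLREFL.BLREFL S hS hx hx'
  have hrO : mrefl a b t hx' ∈ oG (mQ a b t) :=
    refl_mem (mQ a b t) (mB a b t) (mQs a b t) (mQp a b t) hx'
  have hrinv : (mrefl a b t hx')⁻¹ = mrefl a b t hx' :=
    refl_inv (mQ a b t) (mB a b t) (mQs a b t) (mQp a b t) hx'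
  refine ⟨mul_mem (mul_mem hrS hh.1) hrS, ?_⟩
  have hhO : h ∈ oG (mQ a b t) := Subgroup.commutator_le_self _ hh.2
  have hc : ⁅mrefl a b t hx', h⁆ ∈ mOm a b t := Subgroup.commutator_mem_commutator hrO hhO
  have h1 : mrefl a b t hx' * h * mrefl a b t hx' = ⁅mrefl a b t hx', h⁆ * h := by
    rw [commutatorElement_def, hrinv]
    group
  rw [h1]
  exact mul_mem hc hh.2

/-- **Q2-DICH** [M] r := mrefl x (x nonsingular by mani).  M' := M.map (conj by r) contains H (NRMH), so K' := M ⊓ M' is H or M (hmin.min).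
K' = M: M <= M', equal cardinality (finite_MVEquiv): Nrm.  K' = H: g in M with g x = c x: g r g⁻¹ = mrefl (g x) = r (conj_refl; the reflection in c x equals the one in x),
so g = r g r in M': g in H <= S. -/
theorem DICH (hC : Ctx2 a b t S M) {x : MV a b t} (hx : IsBl x) : Nrm M x ∨ CStar S M x :=
  Cfsg.Agent.Lib.Helper42_Q2_DICHaux.DICH_of hC hx (Cfsg.Agent.Lib.Helper85_Q2_BASIC.mani hx)
    (fun h hh => nrmh hC.hS hx (Cfsg.Agent.Lib.Helper85_Q2_BASIC.mani hx) hh)

end Cfsg.Agent.Lib.Helper42_Q2_DICH
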