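import Mathlib
import Cfsg.Agent.Lib.Helper94_Q2Defs

/-!
# Q2 market (architect helper94), package Q2-NRMORB: the property `Nrm M` is invariant under `H = S ⊓ Ω` and under scalars.
-/

set_option autoImplicit false
set_option linter.unusedSectionVars false
set_option linter.unusedVariables false

namespace Cfsg.Agent.Lib.Helper61_Q2_NRMORB

open Module Cfsg.Agent.Lib.Helper94_Symp Cfsg.Agent.Lib.Helper94_OrthSmall
  Cfsg.Agent.Lib.Helper94_OrthSiegel Cfsg.Agent.Lib.Helper94_OrthNondeg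
  Cfsg.Agent.Lib.Helper29_ODDefs Cfsg.Agent.Lib.Helper94_Q2Defs

variable {F : Type*} [Field F] [Finite F] {a b : F} [Fact (∀ r : F, r ^ 2 ≠ a + b * r)] {t : ℕ}
  {S M L : Subgroup (MV a b t ≃ₗ[F] MV a b t)}

/-- the commutator subgroup of the isometry group consists of isometries -/
theorem mOm_le_oG : mOm a b t ≤ oG (mQ a b t) := by
  rw [Subgroup.commutator_le]
  intro g₁ h₁ g₂ h₂
  rw [commutatorElement_def]
  exact Subgroup.mul_mem _ (Subgroup.mul_mem _ (Subgroup.mul_mem _ h₁ h₂) (Subgroup.inv_mem _ h₁))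
    (Subgroup.inv_mem _ h₂)

/-- the reflection in `c • x` is the reflection in `x` -/
theorem mrefl_smul {x : MV a b t} (hx : mQ a b t x ≠ 0) {c : F} (hc : c ≠ 0)
    (hcx : mQ a b t (c • x) ≠ 0) : mrefl a b t hcx = mrefl a b t hx := by
  ext v : 1
  show refl (mQ a b t) (mB a b t) (mQs a b t) (mQp a b t) hcx v =
    refl (mQ a b t) (mB a b t) (mQs a b t) (mQp a b t) hx v
  rw [refl_apply, refl_apply, mQs, map_smul, smul_smul, smul_eq_mul]
  congr 2
  field_simp

/-- **Q2-NRMORB** [S] -/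
theorem NRMORB (hC : Ctx2 a b t S M) {x : MV a b t} (hx : IsBl x) (hn : Nrm M x) :
    (∀ h ∈ S ⊓ mOm a b t, Nrm M (h x)) ∧ ∀ c : F, c ≠ 0 → Nrm M (c • x) := by
  constructor
  · intro h hh hhx g hg
    have hhM : h ∈ M := hC.hmin.le hh
    have hhO : h ∈ oG (mQ a b t) := mOm_le_oG hh.2
    have hx0 : mQ a b t x ≠ 0 := by rw [← hhO x]; exact hhx
    have h1 := conj_refl (mQ a b t) (mB a b t) (mQs a b t) (mQp a b t) hhO hx0
    have h2 : mrefl a b t hhx = h * mrefl a b t hx0 * h⁻¹ := h1.symm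
    rw [h2]
    have h3 : h⁻¹ * g * h ∈ M := M.mul_mem (M.mul_mem (M.inv_mem hhM) hg) hhM
    have h4 := hn hx0 _ h3
    have h5 : h * mrefl a b t hx0 * h⁻¹ * g * (h * mrefl a b t hx0 * h⁻¹) =
        h * (mrefl a b t hx0 * (h⁻¹ * g * h) * mrefl a b t hx0) * h⁻¹ := by group
    rw [h5]
    exact M.mul_mem (M.mul_mem hhM h4) (M.inv_mem hhM)
  · intro c hc hcx g hg
    have hx0 : mQ a b t x ≠ 0 := by
      intro h0
      apply hcx
      rw [mQs, h0, mul_zero]
    rw [mrefl_smul hx0 hc hcx]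
    exact hn hx0 g hg

end Cfsg.Agent.Lib.Helper61_Q2_NRMORB
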