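import Mathlib
import Cfsg.Agent.Lib.Helper94_Q2Defs
import Cfsg.Agent.Lib.Helper24_Q2_CASESaux
import Cfsg.Agent.Lib.Helper42_Q2_DICH
import Cfsg.Agent.Lib.Helper61_Q2_NRMORB
import Cfsg.Agent.Lib.Helper55_Q2_TRANS

set_option autoImplicit false
set_option linter.unusedSectionVars false
set_option linter.unusedVariables false

/-!
# Q2 market (architect helper94), package Q2-CASES (verbatim)

Assembled from `Helper24_Q2_CASESaux.CASES_aux` and the landed packages DICH (helper42), NRMORB (helper61),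
TRANS (helper55).
-/

namespace Cfsg.Agent.Lib.Helper24_Q2_CASES

open Module Cfsg.Agent.Lib.Helper94_Symp Cfsg.Agent.Lib.Helper94_OrthSmall
  Cfsg.Agent.Lib.Helper94_OrthSiegel Cfsg.Agent.Lib.Helper94_OrthNondeg
  Cfsg.Agent.Lib.Helper29_ODDefs Cfsg.Agent.Lib.Helper94_Q2Defs

variable {F : Type*} [Field F] [Finite F] {a b : F} [Fact (∀ r : F, r ^ 2 ≠ a + b * r)] {t : ℕ}
  {S M L : Subgroup (MV a b t ≃ₗ[F] MV a b t)}

/-- **Q2-CASES** -/
theorem CASES (hC : Ctx2 a b t S M) :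
    (∀ x, IsBl x → Nrm M x) ∨ (∀ x, IsBl x → CStar S M x) ∨
      ((2 : F) ≠ 0 ∧ ∃ d : F, d ≠ 0 ∧ (∀ x, IsBl x → IsSquare (d * mQ a b t x) → Nrm M x) ∧
        (∀ x, IsBl x → ¬ IsSquare (d * mQ a b t x) → CStar S M x)) :=
  Cfsg.Agent.Lib.Helper24_Q2_CASESaux.CASES_aux
    (fun {_} hx => Cfsg.Agent.Lib.Helper42_Q2_DICH.DICH hC hx)
    (fun {_} hx hn => Cfsg.Agent.Lib.Helper61_Q2_NRMORB.NRMORB hC hx hn)
    (fun hS ht {_ _} hx hy h => Cfsg.Agent.Lib.Helper55_Q2_TRANS.TRANS hS ht hx hy h)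
    hC

end Cfsg.Agent.Lib.Helper24_Q2_CASES
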