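import Mathlib

/-!
# ru_packages UCSC (helper56 market, S3174/S3175)

If `|Z_4(T)| = 16 < |T|` for a finite 2-group `T`, then `|Z_i(T)| = 2^i` for `i ≤ 4`.
-/

set_option autoImplicit false

namespace Cfsg.Agent.Lib.Helper24_RU_UCSC

variable {T : Type*} [Group T]

/-- Once the upper central series stalls it is constant. -/
theorem ucs_stable {a : ℕ}
    (h : Subgroup.upperCentralSeries T a = Subgroup.upperCentralSeries T (a + 1)) :
    ∀ n, Subgroup.upperCentralSeries T (a + n) = Subgroup.upperCentralSeries T a := by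
  intro n
  induction n with
  | zero => rfl
  | succ n ih =>
    ext x
    rw [← add_assoc, Subgroup.mem_upperCentralSeries_succ_iff, ih]
    conv_rhs => rw [h, Subgroup.mem_upperCentralSeries_succ_iff]

/-- In a nilpotent group, if the upper central series stalls at `a` then `Z_a = ⊤`. -/
theorem ucs_eq_top_of_eq [Group.IsNilpotent T] {a : ℕ}
    (h : Subgroup.upperCentralSeries T a = Subgroup.upperCentralSeries T (a + 1)) :
    Subgroup.upperCentralSeries T a = ⊤ := by
  obtain ⟨n, hn⟩ := Group.IsNilpotent.nilpotent T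
  rw [eq_top_iff, ← hn, ← ucs_stable h n]
  exact Subgroup.upperCentralSeries_mono T (Nat.le_add_left n a)

/-- UCSC. If `|Z_4| = 16 < |T|` then `|Z_i| = 2^i` for `i ≤ 4`. -/
theorem card_ucs [Finite T] (hT : IsPGroup 2 T) (hbig : 16 < Nat.card T)
    (h4 : Nat.card ↥(Subgroup.upperCentralSeries T 4) = 16) :
    ∀ i ≤ 4, Nat.card ↥(Subgroup.upperCentralSeries T i) = 2 ^ i := by
  have : Fact (Nat.Prime 2) := ⟨Nat.prime_two⟩
  have : Group.IsNilpotent T := hT.isNilpotent
  have hne4 : Subgroup.upperCentralSeries T 4 ≠ ⊤ := by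
    intro h
    rw [h, Subgroup.card_top] at h4
    omega
  have hstrict : ∀ i < 4, Nat.card ↥(Subgroup.upperCentralSeries T i)
      < Nat.card ↥(Subgroup.upperCentralSeries T (i + 1)) := by
    intro i hi
    have hle : Subgroup.upperCentralSeries T i ≤ Subgroup.upperCentralSeries T (i + 1) :=
      Subgroup.upperCentralSeries_mono T (Nat.le_succ i)
    have hne : Subgroup.upperCentralSeries T i ≠ Subgroup.upperCentralSeries T (i + 1) := by
      intro h
      have h1 := ucs_eq_top_of_eq h
      apply hne4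
      rw [eq_top_iff, ← h1]
      exact Subgroup.upperCentralSeries_mono T (by omega)
    rcases lt_or_eq_of_le (Subgroup.card_le_of_le hle) with h | h
    · exact h
    · exact absurd (Subgroup.eq_of_le_of_card_ge hle h.ge) hne
  have hpow : ∀ i, ∃ e, Nat.card ↥(Subgroup.upperCentralSeries T i) = 2 ^ e :=
    fun i => (hT.to_subgroup _).exists_card_eq
  obtain ⟨e0, he0⟩ := hpow 0
  obtain ⟨e1, he1⟩ := hpow 1
  obtain ⟨e2, he2⟩ := hpow 2
  obtain ⟨e3, he3⟩ := hpow 3
  obtain ⟨e4, he4⟩ := hpow 4
  have h0 : Nat.card ↥(Subgroup.upperCentralSeries T 0) = 1 := by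
    rw [Subgroup.upperCentralSeries_zero, Subgroup.card_bot]
  have s0 := hstrict 0 (by norm_num)
  have s1 := hstrict 1 (by norm_num)
  have s2 := hstrict 2 (by norm_num)
  have s3 := hstrict 3 (by norm_num)
  norm_num only at s0 s1 s2 s3
  rw [he0, he1] at s0
  rw [he1, he2] at s1
  rw [he2, he3] at s2
  rw [he3, he4] at s3
  have t0 := (Nat.pow_lt_pow_iff_right (by norm_num : 1 < 2)).mp s0
  have t1 := (Nat.pow_lt_pow_iff_right (by norm_num : 1 < 2)).mp s1
  have t2 := (Nat.pow_lt_pow_iff_right (by norm_num : 1 < 2)).mp s2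
  have t3 := (Nat.pow_lt_pow_iff_right (by norm_num : 1 < 2)).mp s3
  have e4eq : e4 = 4 := by
    have : 2 ^ e4 = 2 ^ 4 := by rw [← he4, h4]; norm_num
    exact Nat.pow_right_injective (le_refl 2) this
  have e0eq : e0 = 0 := by
    have : 2 ^ e0 = 2 ^ 0 := by rw [← he0, h0]; norm_num
    exact Nat.pow_right_injective (le_refl 2) this
  have e1eq : e1 = 1 := by omega
  have e2eq : e2 = 2 := by omega
  have e3eq : e3 = 3 := by omega
  intro i hi
  interval_cases i
  · rw [he0, e0eq]
  · rw [he1, e1eq]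
  · rw [he2, e2eq]
  · rw [he3, e3eq]
  · rw [he4, e4eq]

end Cfsg.Agent.Lib.Helper24_RU_UCSC
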