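import Mathlib
import Cfsg.Agent.Lib.Helper32_PGroup

/-!
# ru_packages UCSN (helper56 market, S3174/S3175)

A normal subgroup of order `≤ p^k` of a finite `p`-group lies in `Z_k`.
-/

set_option autoImplicit false

namespace Cfsg.Agent.Lib.Helper24_RU_UCSN

universe u

theorem normal_le_ucs_aux (k : ℕ) : ∀ {T : Type u} [Group T] [Finite T] {p : ℕ} [Fact p.Prime]
    (_ : IsPGroup p T) (N : Subgroup T) [N.Normal], Nat.card N ≤ p ^ k →
    N ≤ Subgroup.upperCentralSeries T k := by
  induction k with
  | zero =>
    intro T _ _ p _ hT N _ h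
    rw [pow_zero] at h
    have h1 : Nat.card N = 1 := le_antisymm h Nat.card_pos
    rw [Subgroup.card_eq_one] at h1
    rw [h1]
    exact bot_le
  | succ k ih =>
    intro T _ _ p hp hT N _ h
    by_cases hN : N = ⊥
    · rw [hN]; exact bot_le
    have h1 := Cfsg.Agent.Lib.Helper32_PGroup.normal_inf_center_ne_bot hT N hN
    have hQ : IsPGroup p (T ⧸ Subgroup.center T) := hT.to_quotient _
    have : (N.map (QuotientGroup.mk' (Subgroup.center T))).Normal :=
      Subgroup.Normal.map inferInstance _ (QuotientGroup.mk'_surjective _)
    have hcard : Nat.card (N.map (QuotientGroup.mk' (Subgroup.center T))) ≤ p ^ k := by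
      rw [← Subgroup.relIndex_ker, QuotientGroup.ker_mk']
      have h2 : (Subgroup.center T).relIndex N * Nat.card ((Subgroup.center T).subgroupOf N)
          = Nat.card N := by
        rw [Subgroup.relIndex, mul_comm]
        exact Subgroup.card_mul_index _
      have hP : IsPGroup p ((Subgroup.center T).subgroupOf N) := hT.to_subgroup _ |>.comap_subtype
      have hnt : Nontrivial ((Subgroup.center T).subgroupOf N) := by
        rw [Subgroup.nontrivial_iff_ne_bot]
        intro hb
        rw [Subgroup.subgroupOf_eq_bot] at hb
        apply h1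
        rw [inf_comm]
        exact disjoint_iff.mp hb
      obtain ⟨m, hm0, hm⟩ := hP.nontrivial_iff_card.mp hnt
      have hple : p ≤ Nat.card ((Subgroup.center T).subgroupOf N) := by
        rw [hm]
        calc p = p ^ 1 := (pow_one p).symm
          _ ≤ p ^ m := Nat.pow_le_pow_right hp.out.pos hm0
      have h3 : (Subgroup.center T).relIndex N * p ≤ p ^ k * p := by
        calc (Subgroup.center T).relIndex N * p
            ≤ (Subgroup.center T).relIndex N * Nat.card ((Subgroup.center T).subgroupOf N) :=
              Nat.mul_le_mul_left _ hple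
          _ = Nat.card N := h2
          _ ≤ p ^ (k + 1) := h
          _ = p ^ k * p := pow_succ p k
      exact Nat.le_of_mul_le_mul_right h3 hp.out.pos
    have h4 := ih hQ (N.map (QuotientGroup.mk' (Subgroup.center T))) hcard
    rw [← Subgroup.comap_upperCentralSeries_quotient_center]
    exact (Subgroup.le_comap_map _ _).trans (Subgroup.comap_mono h4)

variable {T : Type*} [Group T]

/-- UCSN. A normal subgroup of order `≤ p^k` of a finite `p`-group lies in `Z_k`. -/
theorem normal_le_ucs [Finite T] {p : ℕ} [Fact p.Prime] (hT : IsPGroup p T)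
    (N : Subgroup T) [N.Normal] (k : ℕ) (h : Nat.card N ≤ p ^ k) :
    N ≤ Subgroup.upperCentralSeries T k :=
  normal_le_ucs_aux k hT N h

end Cfsg.Agent.Lib.Helper24_RU_UCSN
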