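import Mathlib

/-!
# S1906 package N (for helper76)

A finite group without subgroups of index `2`: the transfer of a homomorphism from a Sylow
`2`-subgroup into the units of a finite field is trivial.
-/

set_option autoImplicit false

namespace Cfsg.Agent.Lib.Helper24_S1906_N

/-- the values of the transfer lie in the range of the homomorphism -/
theorem transfer_mem_range {G : Type*} [Group G] {A : Type*} [CommGroup A] (H : Subgroup G)
    [H.FiniteIndex] (ϕ : ↥H →* A) (g : G) : MonoidHom.transfer ϕ g ∈ ϕ.range := by
  rw [MonoidHom.transfer_def ϕ default g]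
  unfold Subgroup.leftTransversals.diff
  exact Subgroup.prod_mem _ (fun q _ => ⟨_, rfl⟩)

/-- a homomorphism from a finite group without subgroups of index `2` to a group has no
nontrivial `2`-group as range -/
theorem eq_one_of_range_isPGroup {G : Type*} [Group G] [Finite G]
    (hG : ∀ H : Subgroup G, H.index ≠ 2) {A : Type*} [Group A] (V : G →* A)
    (hV : IsPGroup 2 ↥V.range) (g : G) : V g = 1 := by
  classical
  have h2 : Fact (Nat.Prime 2) := ⟨Nat.prime_two⟩
  have hfin : Finite ↥V.range := Finite.of_surjective V.rangeRestrict V.rangeRestrict_surjective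
  obtain ⟨k, hk⟩ := hV.exists_card_eq
  rcases Nat.eq_zero_or_pos k with h0 | hpos
  · rw [h0, pow_zero] at hk
    have hbot : V.range = ⊥ := Subgroup.eq_bot_of_card_eq _ hk
    have : V g ∈ V.range := ⟨g, rfl⟩
    rw [hbot, Subgroup.mem_bot] at this
    exact this
  · exfalso
    obtain ⟨K, hK⟩ := Sylow.exists_subgroup_card_pow_prime (G := ↥V.range) 2 (n := k - 1)
      (by rw [hk]; exact pow_dvd_pow 2 (Nat.sub_le k 1))
    have hidx : K.index = 2 := by
      have h1 := K.card_mul_index
      rw [hK, hk] at h1
      have h3 : (2 : ℕ) ^ k = 2 ^ (k - 1) * 2 := by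
        rw [← pow_succ]; congr 1; omega
      rw [h3] at h1
      exact Nat.eq_of_mul_eq_mul_left (pow_pos (by norm_num) _) h1
    apply hG (K.comap V.rangeRestrict)
    rw [Subgroup.index_comap_of_surjective K V.rangeRestrict_surjective]
    exact hidx

/-- **S1906-N** -/
theorem transfer_eq_one_of_no_index_two {G : Type*} [Group G] [Finite G]
    (hG : ∀ H : Subgroup G, H.index ≠ 2) (X : Sylow 2 G) {F : Type*} [Field F] [Fintype F]
    (lam : ↥(X : Subgroup G) →* Fˣ) (g : G) : MonoidHom.transfer lam g = 1 := by
  apply eq_one_of_range_isPGroup hG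
  -- the range of the transfer is a `2`-group
  have hlam : IsPGroup 2 ↥lam.range :=
    IsPGroup.of_surjective X.2 lam.rangeRestrict lam.rangeRestrict_surjective
  apply hlam.to_le
  rintro _ ⟨y, rfl⟩
  exact transfer_mem_range _ lam y

end Cfsg.Agent.Lib.Helper24_S1906_N
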