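import Mathlib
import Cfsg.Agent.Lib.Helper40_GLClassDefs
import Cfsg.Agent.Lib.Helper40_SLClassDefs

set_option autoImplicit false

/-!
Definitions shared by the packages of S2480 (class number of `PSL_n(q)`), on top of
`Helper40_GLClassDefs` (S2478) and `Helper40_SLClassDefs` (S2479):

* `scaleMu a μ` : the elementary divisors of `a • g`, if `μ` are those of `g`
  (`p ↦ p.scaleRoots a = a^(deg p) p(X/a)`);
* `contr e n h` : the type of size `n / e` obtained from a type `h` of size `n` all of whose
  members are polynomials in `X^e`;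
* `PSLsum q n` : `∑ e ∣ gcd (n, q-1), φ(e) * SLsum q (n / e)` (this is
  `(q - 1) gcd(n, q-1) k(PSL_n(q))`).
-/

namespace Cfsg.Agent.Lib.Helper40_PSLClassDefs

open Polynomial DirectSum Cfsg.Agent.Lib.Helper40_GLClassDefs Cfsg.Agent.Lib.Helper40_SLClassDefs

universe u

/-- The elementary divisors of `a • g`. -/
noncomputable def scaleMu {F : Type u} [Field F] (a : F) (μ : Multiset (F[X] × ℕ)) :
    Multiset (F[X] × ℕ) :=
  μ.map (fun x => (x.1.scaleRoots a, x.2))

/-- Contraction of a type whose members are polynomials in `X^e`. -/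
noncomputable def contr {F : Type u} [Field F] (e n : ℕ) (h : Fin n → F[X]) :
    Fin (n / e) → F[X] :=
  fun j => Polynomial.contract e (h ⟨j.val, lt_of_lt_of_le j.isLt (Nat.div_le_self n e)⟩)

/-- `(q - 1) gcd(n, q-1) k(PSL_n(q))`. -/
def PSLsum (q n : ℕ) : ℕ :=
  ∑ e ∈ Nat.divisors (Nat.gcd n (q - 1)), Nat.totient e * SLsum q (n / e)

end Cfsg.Agent.Lib.Helper40_PSLClassDefs
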