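import Mathlib
import Cfsg.Agent.Lib.Helper40_GLClassDefs
import Cfsg.Agent.Lib.Helper40_SLClassDefs
import Cfsg.Agent.Lib.Helper40_PSLClassDefs
import Cfsg.Agent.Lib.Helper58_S2478_ENCODE

/-!
# S2480 package COMB (architect helper40): a multiset of pairs `(r, k)`, `k ≥ 1`, is determined by
the sums `S(r, k) = ∑_{x ∈ μ, x.1 = r} min x.2 k`.
-/

set_option autoImplicit false

namespace Cfsg.Agent.Lib.Helper24_S2480_COMB

open Polynomial DirectSum Cfsg.Agent.Lib.Helper40_GLClassDefs Cfsg.Agent.Lib.Helper40_SLClassDefs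
  Cfsg.Agent.Lib.Helper40_PSLClassDefs
open Cfsg.Agent.Lib.Helper58_S2478_ENCODE (enc part)

universe u v

section

variable {α : Type u} [DecidableEq α]

/-- the sum `S(r, k)` -/
def S (μ : Multiset (α × ℕ)) (r : α) (k : ℕ) : ℕ :=
  ((μ.filter (fun x => x.1 = r)).map (fun x => min x.2 k)).sum

theorem S_zero (r : α) (k : ℕ) : S (0 : Multiset (α × ℕ)) r k = 0 := by
  simp [S]

theorem S_cons (x : α × ℕ) (μ : Multiset (α × ℕ)) (r : α) (k : ℕ) :
    S (x ::ₘ μ) r k = (if x.1 = r then min x.2 k else 0) + S μ r k := by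
  unfold S
  by_cases hx : x.1 = r
  · rw [Multiset.filter_cons_of_pos (p := fun y : α × ℕ => y.1 = r) μ hx, Multiset.map_cons, Multiset.sum_cons, if_pos hx]
  · rw [Multiset.filter_cons_of_neg (p := fun y : α × ℕ => y.1 = r) μ hx, if_neg hx, zero_add]

/-- the second difference of `S` is the count -/
theorem key (μ : Multiset (α × ℕ)) (r : α) (e : ℕ) (he : 1 ≤ e) :
    Multiset.count (r, e) μ + S μ r (e - 1) + S μ r (e + 1) = 2 * S μ r e := by
  induction μ using Multiset.induction_on with
  | empty => simp [S_zero]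
  | cons x μ ih =>
    rw [Multiset.count_cons, S_cons, S_cons, S_cons]
    obtain ⟨r', a⟩ := x
    have hpt : (if (r, e) = (r', a) then 1 else 0) + (if r' = r then min a (e - 1) else 0) +
        (if r' = r then min a (e + 1) else 0) = 2 * (if r' = r then min a e else 0) := by
      by_cases hr : r' = r
      · subst hr
        simp only [Prod.mk.injEq, true_and, if_true]
        split_ifs with h1
        · subst h1; omega
        · omega
      · have : ¬ ((r, e) = (r', a)) := by
          intro h
          exact hr (congrArg Prod.fst h).symm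
        simp only [if_neg this, if_neg hr]
    simp only at hpt ⊢
    omega

end

/-- S2480-COMB -/
theorem comb {α : Type u} [DecidableEq α] (μ μ' : Multiset (α × ℕ))
    (hμ : ∀ x ∈ μ, 0 < x.2) (hμ' : ∀ x ∈ μ', 0 < x.2)
    (h : ∀ (r : α) (k : ℕ),
      ((μ.filter (fun x => x.1 = r)).map (fun x => min x.2 k)).sum =
        ((μ'.filter (fun x => x.1 = r)).map (fun x => min x.2 k)).sum) :
    μ = μ' := by
  have hS : ∀ r k, S μ r k = S μ' r k := h
  ext ⟨r, e⟩
  rcases Nat.eq_zero_or_pos e with rfl | he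
  · rw [Multiset.count_eq_zero.mpr, Multiset.count_eq_zero.mpr]
    · intro hm; exact absurd (hμ' _ hm) (lt_irrefl 0)
    · intro hm; exact absurd (hμ _ hm) (lt_irrefl 0)
  · have h1 := key μ r e he
    have h2 := key μ' r e he
    rw [hS, hS, hS] at h1
    omega

end Cfsg.Agent.Lib.Helper24_S2480_COMB
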