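import Mathlib
import Cfsg.Prelude.Def_Solvable
import Cfsg.Prelude.Def_CaseTheorems
import Cfsg.Prelude.Def_Transfer
import Cfsg.Prelude.Def_Classical

/-!
# S3366: definitions shared by the packages (architect helper56)

`X` of shape `3^{1+2}_+ . SL(2,3)`, `O_2(X) = 1`, containing an elementary abelian `3^3`,
is isomorphic to the centraliser in `PSp(4,3)` of a 3-central element.

* `SL2`      : `SL(2, ZMod 3)`
* `Setting`  : the working hypotheses, for a normal subgroup `Q` (`= O_3(X)`), its centre `Z`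
               and an epimorphism `ψ : X →* SL2` with kernel `Q`
* `Hs`       : the Heisenberg group of order 27 in symmetric coordinates
* `act`      : the action of `SL2` on `Hs`
* `Model`    : `Hs ⋊[act] SL2`
* `kap a b`  : the coordinate map `Hs → X` attached to two elements `a b` of a group
* `Frame`    : what the abstract analysis has to produce
-/

set_option autoImplicit false

open scoped commutatorElement

namespace Cfsg.Agent.Lib.Helper56_S3366Defs

/-- `SL(2,3)` -/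
abbrev SL2 : Type := Matrix.SpecialLinearGroup (Fin 2) (ZMod 3)

/-- The working hypotheses. `Q` plays the role of `O_3(X)`, `Z` of its centre, and `ψ` of the
projection onto `X/O_3(X) ≅ SL(2,3)`. -/
structure Setting {X : Type*} [Group X] (Q Z : Subgroup X) (ψ : X →* SL2) : Prop where
  fin : Finite X
  Qnormal : Q.Normal
  Qcard : Nat.card Q = 27
  Qexp : ∀ q ∈ Q, q ^ 3 = 1
  ZleQ : Z ≤ Q
  Znormal : Z.Normal
  Zcard : Nat.card Z = 3
  comm_mem : ∀ q ∈ Q, ∀ q' ∈ Q, ⁅q, q'⁆ ∈ Z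
  Zcentral : ∀ ξ ∈ Z, ∀ q ∈ Q, ξ * q = q * ξ
  Zcenter : ∀ q ∈ Q, (∀ q' ∈ Q, q * q' = q' * q) → q ∈ Z
  nonab : ∃ q ∈ Q, ∃ q' ∈ Q, ⁅q, q'⁆ ≠ 1
  ψsurj : Function.Surjective ψ
  ψker : ψ.ker = Q
  noCentInv : ∀ w : X, w ^ 2 = 1 → (∀ x : X, x * w = w * x) → w = 1

/-- The Heisenberg group of order 27, in symmetric coordinates:
`(x,y,s)(x',y',s') = (x+x', y+y', s+s' + y x' - x y')`. -/
@[ext]
structure Hs : Type where
  x : ZMod 3
  y : ZMod 3
  s : ZMod 3
  deriving DecidableEq, Fintype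

namespace Hs

instance : Mul Hs := ⟨fun h k => ⟨h.x + k.x, h.y + k.y, h.s + k.s + h.y * k.x - h.x * k.y⟩⟩
instance : One Hs := ⟨⟨0, 0, 0⟩⟩
instance : Inv Hs := ⟨fun h => ⟨-h.x, -h.y, -h.s⟩⟩

@[simp] theorem mul_x (h k : Hs) : (h * k).x = h.x + k.x := rfl
@[simp] theorem mul_y (h k : Hs) : (h * k).y = h.y + k.y := rfl
@[simp] theorem mul_s (h k : Hs) : (h * k).s = h.s + k.s + h.y * k.x - h.x * k.y := rfl
@[simp] theorem one_x : (1 : Hs).x = 0 := rfl
@[simp] theorem one_y : (1 : Hs).y = 0 := rfl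
@[simp] theorem one_s : (1 : Hs).s = 0 := rfl
@[simp] theorem inv_x (h : Hs) : (h⁻¹).x = -h.x := rfl
@[simp] theorem inv_y (h : Hs) : (h⁻¹).y = -h.y := rfl
@[simp] theorem inv_s (h : Hs) : (h⁻¹).s = -h.s := rfl

instance : Group Hs where
  mul_assoc a b c := by ext <;> simp <;> ring
  one_mul a := by ext <;> simp
  mul_one a := by ext <;> simp
  inv_mul_cancel a := by ext <;> simp; ring

theorem card : Nat.card Hs = 27 := by
  rw [Nat.card_eq_fintype_card]; rfl

end Hs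

/-- the underlying map of the action of a matrix on `Hs` -/
def actFun (g : Matrix (Fin 2) (Fin 2) (ZMod 3)) (h : Hs) : Hs :=
  ⟨g 0 0 * h.x + g 0 1 * h.y, g 1 0 * h.x + g 1 1 * h.y, h.s⟩

theorem actFun_mul_of_det (g : Matrix (Fin 2) (Fin 2) (ZMod 3)) (hg : g.det = 1) (h k : Hs) :
    actFun g (h * k) = actFun g h * actFun g k := by
  rw [Matrix.det_fin_two] at hg
  ext
  · simp [actFun]; ring
  · simp [actFun]; ring
  · simp only [actFun, Hs.mul_s, Hs.mul_x, Hs.mul_y]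
    have key : (g 1 0 * h.x + g 1 1 * h.y) * (g 0 0 * k.x + g 0 1 * k.y) -
        (g 0 0 * h.x + g 0 1 * h.y) * (g 1 0 * k.x + g 1 1 * k.y) =
        (g 0 0 * g 1 1 - g 0 1 * g 1 0) * (h.y * k.x - h.x * k.y) := by ring
    rw [hg, one_mul] at key
    linear_combination -key

theorem actFun_one (h : Hs) : actFun 1 h = h := by
  ext <;> simp [actFun]

theorem actFun_mul (g g' : Matrix (Fin 2) (Fin 2) (ZMod 3)) (h : Hs) :
    actFun (g * g') h = actFun g (actFun g' h) := by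
  ext
  · simp [actFun, Matrix.mul_apply, Fin.sum_univ_two]; ring
  · simp [actFun, Matrix.mul_apply, Fin.sum_univ_two]; ring
  · simp [actFun]

/-- the action of `SL(2,3)` on the Heisenberg group -/
def act : SL2 →* MulAut Hs where
  toFun g :=
    { toFun := actFun g.1
      invFun := actFun (g⁻¹ : SL2).1
      left_inv := fun h => by
        rw [← actFun_mul, ← Matrix.SpecialLinearGroup.coe_mul, inv_mul_cancel]
        exact actFun_one h
      right_inv := fun h => by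
        rw [← actFun_mul, ← Matrix.SpecialLinearGroup.coe_mul, mul_inv_cancel]
        exact actFun_one h
      map_mul' := actFun_mul_of_det g.1 g.2 }
  map_one' := by
    ext h : 1
    exact actFun_one h
  map_mul' g g' := by
    ext h : 1
    show actFun (g * g').1 h = actFun g.1 (actFun g'.1 h)
    rw [Matrix.SpecialLinearGroup.coe_mul, actFun_mul]

@[simp] theorem act_apply (g : SL2) (h : Hs) : act g h = actFun g.1 h := rfl

/-- the model group `3^{1+2}_+ : SL(2,3)` -/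
abbrev Model : Type := Hs ⋊[act] SL2


/-! ### The concrete side: `Sp(4,3)` and `PSp(4,3)` -/

/-- the index type of `Sp(4,3)` -/
abbrev I4 : Type := Fin 2 ⊕ Fin 2

/-- `Sp(4,3)` (Mathlib's symplectic group: `A * J * Aᵀ = J`, `J = [0 -1; 1 0]`) -/
abbrev Sp4 : Type := ↥(Matrix.symplecticGroup (Fin 2) (ZMod 3))

/-- `PSp(4,3)` -/
abbrev P43 : Type := Cfsg.PSp 2 (ZMod 3)

/-- the image of `(x,y,s)` in `Sp(4,3)`; rows and columns in the order `p0 p1 r0 r1`:
`[1 -y -s x; 0 1 x 0; 0 0 1 0; 0 0 y 1]` -/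
def PhiM (h : Hs) : Matrix I4 I4 (ZMod 3) :=
  Matrix.fromBlocks !![1, -h.y; 0, 1] !![-h.s, h.x; h.x, 0] 0 !![1, 0; h.y, 1]

/-- the image of `g = [a b; c d]` in `Sp(4,3)`: `[1 0 0 0; 0 a 0 b; 0 0 1 0; 0 c 0 d]` -/
def PsiM (g : Matrix (Fin 2) (Fin 2) (ZMod 3)) : Matrix I4 I4 (ZMod 3) :=
  Matrix.fromBlocks !![1, 0; 0, g 0 0] !![0, 0; 0, g 0 1] !![0, 0; 0, g 1 0] !![1, 0; 0, g 1 1]

/-- the long root element `T0 = PhiM (0,0,1) = 1 - E_{p0 r0}` -/
def T0M : Matrix I4 I4 (ZMod 3) := Matrix.fromBlocks 1 !![-1, 0; 0, 0] 0 1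

theorem T0M_mem : T0M ∈ Matrix.symplecticGroup (Fin 2) (ZMod 3) := by
  rw [SymplecticGroup.mem_iff]
  decide

theorem PhiM_mem (h : Hs) : PhiM h ∈ Matrix.symplecticGroup (Fin 2) (ZMod 3) := by
  rw [SymplecticGroup.mem_iff]
  revert h
  decide

theorem PhiM_T0 : PhiM ⟨0, 0, 1⟩ = T0M := by decide

/-- `T0` as an element of `Sp(4,3)` -/
def T0 : Sp4 := ⟨T0M, T0M_mem⟩

/-- the 3-central element of `PSp(4,3)` -/
def c0 : P43 := QuotientGroup.mk T0

section coordinates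

variable {X : Type*} [Group X]

/-- the coordinate map attached to `a b : X` (with `ζ = ⁅a,b⁆`):
`(x,y,s) ↦ a^x b^y ζ^(xy+s)` -/
def kap (a b : X) (h : Hs) : X :=
  a ^ h.x.val * b ^ h.y.val * ⁅a, b⁆ ^ (h.x * h.y + h.s).val

/-- What the abstract analysis produces: generators `a b` of `Q` inverted by an involution `z`,
and a complement `L` of `Q` centralising `z` and `⁅a,b⁆` and acting faithfully. -/
structure Frame (Q : Subgroup X) (a b z : X) (L : Subgroup X) : Prop where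
  fin : Finite X
  Xcard : Nat.card X = 648
  Qnormal : Q.Normal
  Qcard : Nat.card Q = 27
  Qexp : ∀ q ∈ Q, q ^ 3 = 1
  ha : a ∈ Q
  hb : b ∈ Q
  hne : ⁅a, b⁆ ≠ 1
  hca : ⁅a, b⁆ * a = a * ⁅a, b⁆
  hcb : ⁅a, b⁆ * b = b * ⁅a, b⁆
  hza : z * a * z⁻¹ = a⁻¹
  hzb : z * b * z⁻¹ = b⁻¹
  Lz : ∀ l ∈ L, l * z = z * l
  Lζ : ∀ l ∈ L, l * ⁅a, b⁆ * l⁻¹ = ⁅a, b⁆
  Lcard : Nat.card L = 24
  Ldisj : L ⊓ Q = ⊥
  Lfaith : ∀ l ∈ L, l * a * l⁻¹ = a → l * b * l⁻¹ = b → l = 1

end coordinates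

end Cfsg.Agent.Lib.Helper56_S3366Defs
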