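import Mathlib
import Cfsg.Agent.Lib.Helper56_S3366Defs

/-!
# S3366, package KAPBIJ (architect helper56)

`kap a b : Hs → Q` is a bijection.
-/

set_option autoImplicit false

open Cfsg.Agent.Lib.Helper56_S3366Defs
open scoped commutatorElement

namespace Cfsg.Agent.Lib.Helper24_S3366_KAPBIJ

variable {X : Type*} [Group X]

theorem kap_one (a b : X) : kap a b 1 = 1 := by
  simp [kap]

theorem kap_zeta (a b : X) (s : ZMod 3) : kap a b ⟨0, 0, s⟩ = ⁅a, b⁆ ^ s.val := by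
  simp [kap]

theorem kap_a (a b : X) : kap a b ⟨1, 0, 0⟩ = a := by
  simp [kap, ZMod.val_one]

theorem kap_b (a b : X) : kap a b ⟨0, 1, 0⟩ = b := by
  simp [kap, ZMod.val_one]

/-- `kap a b` as a monoid hom, given multiplicativity -/
def kapHom (a b : X) (hmul : ∀ h k : Hs, kap a b (h * k) = kap a b h * kap a b k) : Hs →* X where
  toFun := kap a b
  map_one' := kap_one a b
  map_mul' := hmul

theorem comm_b (h : Hs) : ⁅h, (⟨0, 1, 0⟩ : Hs)⁆ = ⟨0, 0, h.x⟩ := by
  revert h; decide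

theorem comm_a (h : Hs) : ⁅(⟨1, 0, 0⟩ : Hs), h⁆ = ⟨0, 0, h.y⟩ := by
  revert h; decide

theorem cube_s : (⟨0, 0, 1⟩ : Hs) ^ 3 = 1 := by decide

theorem val_eq_zero_of_pow {ζ : X} (hne : ζ ≠ 1) (h3 : ζ ^ 3 = 1) (t : ZMod 3)
    (h : ζ ^ t.val = 1) : t = 0 := by
  have hlt : t.val < 3 := ZMod.val_lt t
  rw [← ZMod.val_eq_zero]
  by_contra h0
  have h12 : t.val = 1 ∨ t.val = 2 := by omega
  rcases h12 with h1 | h2
  · rw [h1, pow_one] at h; exact hne h
  · rw [h2] at h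
    have : ζ ^ 3 = ζ ^ 2 * ζ := pow_succ ζ 2
    rw [h, one_mul] at this
    exact hne (this ▸ h3)

theorem kap_bij [Finite X] (Q : Subgroup X) (hQ : Nat.card Q = 27) (a b : X) (ha : a ∈ Q) (hb : b ∈ Q)
    (ha3 : a ^ 3 = 1) (hb3 : b ^ 3 = 1) (hne : ⁅a, b⁆ ≠ 1)
    (hca : ⁅a, b⁆ * a = a * ⁅a, b⁆) (hcb : ⁅a, b⁆ * b = b * ⁅a, b⁆)
    (hmul : ∀ h k : Hs, kap a b (h * k) = kap a b h * kap a b k) :
    (∀ h, kap a b h ∈ Q) ∧ Function.Injective (kap a b) ∧ ∀ q ∈ Q, ∃ h, kap a b h = q := by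
  have hmem : ∀ h, kap a b h ∈ Q := by
    intro h
    unfold kap
    have hζ : ⁅a, b⁆ ∈ Q := by
      rw [commutatorElement_def]
      exact Q.mul_mem (Q.mul_mem (Q.mul_mem ha hb) (Q.inv_mem ha)) (Q.inv_mem hb)
    exact Q.mul_mem (Q.mul_mem (Q.pow_mem ha _) (Q.pow_mem hb _)) (Q.pow_mem hζ _)
  set K := kapHom a b hmul with hK
  have hKapp : ∀ h, K h = kap a b h := fun _ => rfl
  have hζ3 : ⁅a, b⁆ ^ 3 = 1 := by
    have h1 : K (⟨0, 0, 1⟩ : Hs) = ⁅a, b⁆ := by
      rw [hKapp, kap_zeta, ZMod.val_one, pow_one]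
    rw [← h1, ← map_pow, cube_s, map_one]
  have hker : ∀ h : Hs, kap a b h = 1 → h = 1 := by
    intro h hh
    have hh' : K h = 1 := hh
    have hx : h.x = 0 := by
      have h1 : K ⁅h, (⟨0, 1, 0⟩ : Hs)⁆ = 1 := by
        rw [map_commutatorElement, hh', commutatorElement_one_left]
      rw [comm_b, hKapp, kap_zeta] at h1
      exact val_eq_zero_of_pow hne hζ3 _ h1
    have hy : h.y = 0 := by
      have h1 : K ⁅(⟨1, 0, 0⟩ : Hs), h⁆ = 1 := by
        rw [map_commutatorElement, hh', commutatorElement_one_right]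
      rw [comm_a, hKapp, kap_zeta] at h1
      exact val_eq_zero_of_pow hne hζ3 _ h1
    have hs : h.s = 0 := by
      have h1 : kap a b h = ⁅a, b⁆ ^ h.s.val := by
        have : h = ⟨0, 0, h.s⟩ := by
          ext
          · exact hx
          · exact hy
          · rfl
        rw [this]
        exact kap_zeta a b h.s
      rw [hh] at h1
      exact val_eq_zero_of_pow hne hζ3 _ h1.symm
    ext
    · exact hx
    · exact hy
    · exact hs
  have hinj : Function.Injective (kap a b) := by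
    intro h k hhk
    have h1 : K (h * k⁻¹) = 1 := by
      rw [map_mul, map_inv, hKapp, hKapp, hhk, mul_inv_cancel]
    have h2 := hker _ h1
    exact mul_inv_eq_one.mp h2
  refine ⟨hmem, hinj, ?_⟩
  -- surjectivity by counting
  let f : Hs → Q := fun h => ⟨kap a b h, hmem h⟩
  have hf : Function.Injective f := by
    intro h k hhk
    exact hinj (congrArg Subtype.val hhk)
  have hbij : Function.Bijective f :=
    hf.bijective_of_nat_card_le (by rw [hQ, Hs.card])
  intro q hq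
  obtain ⟨h, hh⟩ := hbij.2 ⟨q, hq⟩
  exact ⟨h, congrArg Subtype.val hh⟩

end Cfsg.Agent.Lib.Helper24_S3366_KAPBIJ
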