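import Mathlib
import Cfsg.Agent.Lib.Helper56_S3366Defs

/-!
# S3366, package SECTION (architect helper56)

The elements of `Q` inverted by `z` form a section of `Q → Q/Z`.
-/

set_option autoImplicit false

open Cfsg.Agent.Lib.Helper56_S3366Defs
open scoped commutatorElement

namespace Cfsg.Agent.Lib.Helper24_S3366_SECTION

variable {X : Type*} [Group X]

/-- an element with `ξ^3 = 1` and `ξ = ξ⁻¹` is trivial -/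
theorem eq_one_of_cube_of_inv {ξ : X} (h3 : ξ ^ 3 = 1) (hinv : ξ = ξ⁻¹) : ξ = 1 := by
  have h2 : ξ ^ 2 = 1 := by
    rw [pow_two]
    nth_rewrite 1 [hinv]
    exact inv_mul_cancel ξ
  have : ξ ^ 3 = ξ ^ 2 * ξ := pow_succ ξ 2
  rw [h2, one_mul] at this
  rw [← this, h3]

theorem section_exists {Q Z : Subgroup X} {ψ : X →* SL2} (hS : Setting Q Z ψ)
    (z : X) (hz2 : z ^ 2 = 1) (hzZ : ∀ ξ ∈ Z, z * ξ * z⁻¹ = ξ)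
    (hinv : ∀ q ∈ Q, z * q * z⁻¹ * q ∈ Z) :
    ∀ q ∈ Q, ∃ ξ ∈ Z, z * (q * ξ) * z⁻¹ = (q * ξ)⁻¹ := by
  intro q hq
  have hζ := hinv q hq
  set ζ := z * q * z⁻¹ * q with hζdef
  refine ⟨ζ, hζ, ?_⟩
  have hζ3 : ζ ^ 3 = 1 := hS.Qexp ζ (hS.ZleQ hζ)
  have hzq : z * q * z⁻¹ = ζ * q⁻¹ := by
    rw [hζdef]; group
  have hcomm : ζ * q⁻¹ = q⁻¹ * ζ := hS.Zcentral ζ hζ q⁻¹ (Q.inv_mem hq)
  have hzζ : z * ζ * z⁻¹ = ζ := hzZ ζ hζ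
  have h1 : z * (q * ζ) * z⁻¹ = (z * q * z⁻¹) * (z * ζ * z⁻¹) := by group
  rw [h1, hzq, hzζ, mul_inv_rev]
  -- ζ * q⁻¹ * ζ = ζ⁻¹ * q⁻¹
  have hζ2 : ζ * ζ = ζ⁻¹ := by
    have : ζ * ζ * ζ = 1 := by
      rw [← hζ3, pow_succ, pow_two]
    exact eq_inv_of_mul_eq_one_left this
  rw [hcomm, mul_assoc, hζ2, hS.Zcentral ζ⁻¹ (Z.inv_mem hζ) q⁻¹ (Q.inv_mem hq)]

theorem section_unique {Q Z : Subgroup X} {ψ : X →* SL2} (hS : Setting Q Z ψ)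
    (z : X) (hzZ : ∀ ξ ∈ Z, z * ξ * z⁻¹ = ξ) :
    ∀ q ∈ Q, ∀ ξ ∈ Z, z * q * z⁻¹ = q⁻¹ → z * (q * ξ) * z⁻¹ = (q * ξ)⁻¹ → ξ = 1 := by
  intro q hq ξ hξ h1 h2
  have h3 : z * (q * ξ) * z⁻¹ = (z * q * z⁻¹) * (z * ξ * z⁻¹) := by group
  rw [h3, h1, hzZ ξ hξ, mul_inv_rev,
    hS.Zcentral ξ⁻¹ (Z.inv_mem hξ) q⁻¹ (Q.inv_mem hq)] at h2
  have h4 : ξ = ξ⁻¹ := mul_left_cancel h2
  exact eq_one_of_cube_of_inv (hS.Qexp ξ (hS.ZleQ hξ)) h4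

theorem fixed_mem_Z {Q Z : Subgroup X} {ψ : X →* SL2} (hS : Setting Q Z ψ)
    (z : X) (hinv : ∀ q ∈ Q, z * q * z⁻¹ * q ∈ Z) :
    ∀ q ∈ Q, z * q * z⁻¹ = q → q ∈ Z := by
  intro q hq h
  have h1 := hinv q hq
  rw [h] at h1
  have h2 : q * q * (q * q) ∈ Z := Z.mul_mem h1 h1
  have h3 : q ^ 3 = 1 := hS.Qexp q hq
  have h4 : q * q * (q * q) = q := by
    have : q * q * (q * q) = q ^ 3 * q := by
      rw [pow_succ, pow_two]; simp only [mul_assoc]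
    rw [this, h3, one_mul]
  rwa [h4] at h2

end Cfsg.Agent.Lib.Helper24_S3366_SECTION
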