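import Mathlib
import Cfsg.Agent.Lib.Helper40_ProjOrd
import Cfsg.Agent.S0246

set_option autoImplicit false

/-!
Symplectic matrices via the adjoint `adj M = -J Mᵀ J`, the bridge to the element orders of
`PSp_{2n}(q)`, sign normalisation and the commuting idempotent trick for `r = 2`.
-/

namespace Cfsg.Agent.Lib.Helper40_SpProj

open Polynomial Cfsg.Agent.Lib.Helper40_ProjOrd

section adj

variable {F : Type*} [Field F] {l : Type*} [Fintype l] [DecidableEq l]

/-- the adjoint with respect to the standard alternating form -/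
def adj (M : Matrix (l ⊕ l) (l ⊕ l) F) : Matrix (l ⊕ l) (l ⊕ l) F :=
  -(Matrix.J l F) * M.transpose * Matrix.J l F

theorem J_mul_neg_J : Matrix.J l F * -(Matrix.J l F) = 1 := by
  rw [mul_neg, Matrix.J_squared, neg_neg]

theorem neg_J_mul_J : -(Matrix.J l F) * Matrix.J l F = 1 := by
  rw [neg_mul, Matrix.J_squared, neg_neg]

theorem adj_mul (M N : Matrix (l ⊕ l) (l ⊕ l) F) : adj (M * N) = adj N * adj M := by
  unfold adj
  rw [Matrix.transpose_mul]
  have h : -(Matrix.J l F) * N.transpose * Matrix.J l F * (-(Matrix.J l F) * M.transpose *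
      Matrix.J l F) = -(Matrix.J l F) * N.transpose * (Matrix.J l F * -(Matrix.J l F)) *
      M.transpose * Matrix.J l F := by
    simp only [Matrix.mul_assoc]
  rw [h, J_mul_neg_J, Matrix.mul_one]
  simp only [Matrix.mul_assoc]

theorem adj_add (M N : Matrix (l ⊕ l) (l ⊕ l) F) : adj (M + N) = adj M + adj N := by
  unfold adj
  rw [Matrix.transpose_add, Matrix.mul_add, Matrix.add_mul]

theorem adj_sub (M N : Matrix (l ⊕ l) (l ⊕ l) F) : adj (M - N) = adj M - adj N := by
  unfold adj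
  rw [Matrix.transpose_sub, Matrix.mul_sub, Matrix.sub_mul]

theorem adj_smul (c : F) (M : Matrix (l ⊕ l) (l ⊕ l) F) : adj (c • M) = c • adj M := by
  unfold adj
  rw [Matrix.transpose_smul, Matrix.mul_smul, Matrix.smul_mul]

theorem adj_one : adj (1 : Matrix (l ⊕ l) (l ⊕ l) F) = 1 := by
  unfold adj
  rw [Matrix.transpose_one, Matrix.mul_one, neg_J_mul_J]

theorem adj_zero : adj (0 : Matrix (l ⊕ l) (l ⊕ l) F) = 0 := by
  unfold adj
  rw [Matrix.transpose_zero, Matrix.mul_zero, Matrix.zero_mul]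

theorem adj_neg (M : Matrix (l ⊕ l) (l ⊕ l) F) : adj (-M) = -adj M := by
  unfold adj
  rw [Matrix.transpose_neg, Matrix.mul_neg, Matrix.neg_mul]

theorem adj_pow (M : Matrix (l ⊕ l) (l ⊕ l) F) (k : ℕ) : adj (M ^ k) = adj M ^ k := by
  induction k with
  | zero => rw [pow_zero, pow_zero, adj_one]
  | succ k ih => rw [pow_succ, adj_mul, ih, pow_succ']

theorem adj_adj (M : Matrix (l ⊕ l) (l ⊕ l) F) : adj (adj M) = M := by
  unfold adj
  rw [Matrix.transpose_mul, Matrix.transpose_mul, Matrix.transpose_transpose,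
    Matrix.transpose_neg, Matrix.J_transpose, neg_neg]
  have h : -(Matrix.J l F) * (-(Matrix.J l F) * (M * Matrix.J l F)) * Matrix.J l F =
      (-(Matrix.J l F) * -(Matrix.J l F)) * M * (Matrix.J l F * Matrix.J l F) := by
    simp only [Matrix.mul_assoc]
  rw [h, neg_mul_neg, Matrix.J_squared]
  simp

theorem adj_aeval (M : Matrix (l ⊕ l) (l ⊕ l) F) (P : F[X]) :
    adj (aeval M P) = aeval (adj M) P := by
  induction P using Polynomial.induction_on' with
  | add p q hp hq => rw [map_add, adj_add, hp, hq, map_add]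
  | monomial n c =>
    rw [← C_mul_X_pow_eq_monomial, map_mul, map_pow, aeval_X, aeval_C, map_mul, map_pow, aeval_X,
      aeval_C, Algebra.algebraMap_eq_smul_one, smul_mul_assoc,
      one_mul, smul_mul_assoc, one_mul, adj_smul, adj_pow]

/-- symplectic matrices -/
def IsSpM (M : Matrix (l ⊕ l) (l ⊕ l) F) : Prop := adj M * M = 1

theorem isSpM_iff_mem (M : Matrix (l ⊕ l) (l ⊕ l) F) :
    IsSpM M ↔ M ∈ Matrix.symplecticGroup l F := by
  rw [SymplecticGroup.mem_iff']
  unfold IsSpM adj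
  constructor
  · intro h
    have h1 : Matrix.J l F * (-(Matrix.J l F) * M.transpose * Matrix.J l F * M) =
        Matrix.J l F * 1 := by rw [h]
    have h2 : Matrix.J l F * (-(Matrix.J l F) * M.transpose * Matrix.J l F * M) =
        (Matrix.J l F * -(Matrix.J l F)) * (M.transpose * Matrix.J l F * M) := by
      simp only [Matrix.mul_assoc]
    rw [h2, J_mul_neg_J, Matrix.one_mul, Matrix.mul_one] at h1
    exact h1
  · intro h
    have h2 : -(Matrix.J l F) * M.transpose * Matrix.J l F * M =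
        -(Matrix.J l F) * (M.transpose * Matrix.J l F * M) := by
      simp only [Matrix.mul_assoc]
    rw [h2, h, neg_J_mul_J]

theorem IsSpM.mul_adj {M : Matrix (l ⊕ l) (l ⊕ l) F} (h : IsSpM M) : M * adj M = 1 :=
  mul_eq_one_comm.1 h

theorem IsSpM.mul {M N : Matrix (l ⊕ l) (l ⊕ l) F} (hM : IsSpM M) (hN : IsSpM N) :
    IsSpM (M * N) := by
  unfold IsSpM at *
  rw [adj_mul, mul_assoc, ← mul_assoc (adj M), hM, one_mul, hN]

theorem isSpM_one : IsSpM (1 : Matrix (l ⊕ l) (l ⊕ l) F) := by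
  unfold IsSpM
  rw [adj_one, one_mul]

theorem IsSpM.pow {M : Matrix (l ⊕ l) (l ⊕ l) F} (hM : IsSpM M) (k : ℕ) : IsSpM (M ^ k) := by
  induction k with
  | zero => rw [pow_zero]; exact isSpM_one
  | succ k ih => rw [pow_succ]; exact ih.mul hM

theorem IsSpM.smul {M : Matrix (l ⊕ l) (l ⊕ l) F} (hM : IsSpM M) {c : F} (hc : c * c = 1) :
    IsSpM (c • M) := by
  unfold IsSpM at *
  rw [adj_smul, smul_mul_smul_comm, hM, hc, one_smul]

theorem IsSpM.det_ne_zero {M : Matrix (l ⊕ l) (l ⊕ l) F} (hM : IsSpM M) : M.det ≠ 0 := by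
  intro h0
  have := congrArg Matrix.det hM
  rw [Matrix.det_mul, h0, mul_zero, Matrix.det_one] at this
  exact zero_ne_one this

/-- a scalar symplectic matrix has square one -/
theorem IsSpM.scalar_sq [Nonempty l] {c : F} (h : IsSpM (c • (1 : Matrix (l ⊕ l) (l ⊕ l) F))) :
    c * c = 1 := by
  unfold IsSpM at h
  rw [adj_smul, adj_one, smul_mul_smul_comm, mul_one] at h
  obtain ⟨i⟩ := ‹Nonempty l›
  have h1 := congrFun (congrFun h (Sum.inl i)) (Sum.inl i)
  rw [Matrix.smul_apply, Matrix.one_apply_eq, smul_eq_mul, mul_one] at h1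
  exact h1

end adj

section bridge

variable {F : Type*} [Field F] [Fintype F] {n : ℕ}

/-- `a` is the projective order of some symplectic matrix -/
def InSpecSp (l : Type*) [Fintype l] [DecidableEq l] (F : Type*) [Field F] (a : ℕ) : Prop :=
  ∃ M : Matrix (l ⊕ l) (l ⊕ l) F, IsSpM M ∧ HasPOrd M a

omit [Fintype F] in
theorem psp_pow_eq_one_iff (s : Matrix.symplecticGroup (Fin n) F) (j : ℕ) :
    (QuotientGroup.mk s : Cfsg.PSp n F) ^ j = 1 ↔
      IsScalarMat ((s : Matrix (Fin n ⊕ Fin n) (Fin n ⊕ Fin n) F) ^ j) := by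
  rw [← QuotientGroup.mk_pow, QuotientGroup.eq_one_iff]
  constructor
  · intro h
    obtain ⟨c, hc⟩ := Cfsg.Agent.S0246.center_scalar n (s ^ j) h
    rw [SubmonoidClass.coe_pow] at hc
    exact ⟨c, hc⟩
  · rintro ⟨c, hc⟩
    rw [Subgroup.mem_center_iff]
    intro g
    apply Subtype.ext
    show (g : Matrix (Fin n ⊕ Fin n) (Fin n ⊕ Fin n) F) * ((s ^ j : Matrix.symplecticGroup (Fin n) F) :
      Matrix (Fin n ⊕ Fin n) (Fin n ⊕ Fin n) F) = ((s ^ j : Matrix.symplecticGroup (Fin n) F) :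
      Matrix (Fin n ⊕ Fin n) (Fin n ⊕ Fin n) F) * (g : Matrix (Fin n ⊕ Fin n) (Fin n ⊕ Fin n) F)
    rw [SubmonoidClass.coe_pow, hc, Matrix.mul_smul, Matrix.smul_mul, mul_one, one_mul]

theorem finite_sp' : Finite (Matrix.symplecticGroup (Fin n) F) := by
  have : Finite (Matrix (Fin n ⊕ Fin n) (Fin n ⊕ Fin n) F) := by
    unfold Matrix
    infer_instance
  exact Finite.of_injective _ Subtype.val_injective

theorem mem_range_orderOf_psp_iff (a : ℕ) :
    a ∈ Set.range (orderOf : Cfsg.PSp n F → ℕ) ↔ InSpecSp (Fin n) F a := by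
  have hfin : Finite (Matrix.symplecticGroup (Fin n) F) := finite_sp'
  constructor
  · rintro ⟨g, rfl⟩
    obtain ⟨s, rfl⟩ := QuotientGroup.mk_surjective g
    refine ⟨(s : Matrix (Fin n ⊕ Fin n) (Fin n ⊕ Fin n) F), (isSpM_iff_mem _).2 s.2,
      orderOf_pos _, fun j => ?_⟩
    rw [orderOf_dvd_iff_pow_eq_one, psp_pow_eq_one_iff]
  · rintro ⟨M, hM, hord⟩
    refine ⟨QuotientGroup.mk (⟨M, (isSpM_iff_mem M).1 hM⟩ : Matrix.symplecticGroup (Fin n) F), ?_⟩
    apply Nat.dvd_antisymm
    · rw [orderOf_dvd_iff_pow_eq_one, psp_pow_eq_one_iff]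
      exact (hord.iff a).2 dvd_rfl
    · rw [← hord.iff]
      exact (psp_pow_eq_one_iff (⟨M, (isSpM_iff_mem M).1 hM⟩ : Matrix.symplecticGroup (Fin n) F)
        _).1 (pow_orderOf_eq_one _)

end bridge

section trick

variable {F : Type*} [Field F] {l : Type*} [Fintype l] [DecidableEq l]

/-- sign normalisation: an odd projective order is realised by an honest order -/
theorem exists_normalised [Nonempty l] {M : Matrix (l ⊕ l) (l ⊕ l) F} (hM : IsSpM M) {a : ℕ}
    (hord : HasPOrd M a) (hodd : Odd a) :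
    ∃ M' : Matrix (l ⊕ l) (l ⊕ l) F, IsSpM M' ∧ HasPOrd M' a ∧ M' ^ a = 1 := by
  obtain ⟨s, hs⟩ := (hord.iff a).2 dvd_rfl
  have hs2 : s * s = 1 := by
    have h1 : IsSpM (M ^ a) := hM.pow a
    rw [hs] at h1
    exact h1.scalar_sq
  have hs0 : s ≠ 0 := by
    rintro rfl
    rw [mul_zero] at hs2
    exact zero_ne_one hs2
  refine ⟨s • M, hM.smul hs2, ⟨hord.pos, fun j => ?_⟩, ?_⟩
  · rw [_root_.smul_pow]
    constructor
    · intro h
      exact (hord.iff j).1 (h.of_smul (pow_ne_zero _ hs0))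
    · intro h
      obtain ⟨c, hc⟩ := (hord.iff j).2 h
      exact ⟨s ^ j * c, by rw [hc, smul_smul]⟩
  · rw [_root_.smul_pow, hs, smul_smul, ← pow_succ]
    obtain ⟨k, hk⟩ := hodd
    have h1 : a + 1 = 2 * (k + 1) := by omega
    rw [h1, pow_mul, pow_two, hs2, one_pow, one_smul]

/-- the commuting idempotent trick for `r = 2` -/
theorem inSpecSp_two_mul_of_idempotent (h2 : (2 : F) ≠ 0) (M : Matrix (l ⊕ l) (l ⊕ l) F)
    (hM : IsSpM M) {a : ℕ} (hord : HasPOrd M a) (hodd : Odd a) (e : Matrix (l ⊕ l) (l ⊕ l) F)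
    (he : e * e = e) (hes : adj e = e) (he0 : e ≠ 0) (he1 : e ≠ 1) (hcomm : Commute e M) :
    InSpecSp l F (2 * a) := by
  have hne : Nonempty l := by
    by_contra hι
    rw [not_nonempty_iff] at hι
    exact he0 (Subsingleton.elim _ _)
  set y : Matrix (l ⊕ l) (l ⊕ l) F := 1 - (2 : F) • e with hy
  have hyy : y * y = 1 := by
    rw [hy, mul_sub, sub_mul, sub_mul, one_mul, mul_one, one_mul, smul_mul_smul_comm, he,
      sub_sub, ← add_sub_assoc, ← two_smul F ((2 : F) • e), smul_smul, sub_self, sub_zero]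
  have hyadj : adj y = y := by
    rw [hy, adj_sub, adj_one, adj_smul, hes]
  have hySp : IsSpM y := by
    unfold IsSpM
    rw [hyadj, hyy]
  have hyM : Commute y M := by
    rw [hy]
    exact (Commute.one_left M).sub_left (hcomm.smul_left _)
  have hpow : ∀ j : ℕ, (M * y) ^ j = M ^ j * y ^ j := fun j => (hyM.symm.mul_pow j)
  have hyeven : ∀ k : ℕ, y ^ (2 * k) = 1 := by
    intro k
    rw [pow_mul, pow_two, hyy, one_pow]
  refine ⟨M * y, hM.mul hySp, Nat.mul_pos two_pos hord.pos, fun j => ?_⟩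
  have hcop : Nat.Coprime 2 a := Nat.coprime_two_left.2 hodd
  constructor
  · intro hj
    have h1 : IsScalarMat (M ^ (2 * j)) := by
      have h3 : IsScalarMat ((M * y) ^ (2 * j)) := by
        rw [mul_comm, pow_mul]
        exact hj.pow 2
      rw [hpow, hyeven, mul_one] at h3
      exact h3
    have haj : a ∣ j := (Nat.Coprime.dvd_of_dvd_mul_left hcop.symm ((hord.iff _).1 h1))
    obtain ⟨ν, hν⟩ := (hord.iff j).2 haj
    have hν0 : ν ≠ 0 := by
      rintro rfl
      have h4 : M ^ j = 0 := by rw [hν, zero_smul]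
      have h5 : (M ^ j).det ≠ 0 := (hM.pow j).det_ne_zero
      have : Nonempty (l ⊕ l) := ⟨Sum.inl (Classical.arbitrary l)⟩
      rw [h4, Matrix.det_zero] at h5
      exact h5 rfl
    have h3 : IsScalarMat (y ^ j) := by
      have h4 := hj
      rw [hpow, hν, Matrix.smul_mul, Matrix.one_mul] at h4
      exact h4.of_smul hν0
    have h2j : 2 ∣ j := by
      by_contra hnd
      have hjodd : Odd j := Nat.odd_iff.2 (Nat.two_dvd_ne_zero.1 hnd)
      obtain ⟨k, hk⟩ := hjodd
      rw [hk, pow_succ, hyeven, one_mul] at h3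
      obtain ⟨s, hs⟩ := h3
      have h7 : (2 : F) • e = (1 - s) • (1 : Matrix (l ⊕ l) (l ⊕ l) F) := by
        rw [sub_smul 1 s, one_smul, ← hs, hy]
        abel
      have h6 : e = ((2 : F)⁻¹ * (1 - s)) • (1 : Matrix (l ⊕ l) (l ⊕ l) F) := by
        rw [mul_smul, ← h7, smul_smul, inv_mul_cancel₀ h2, one_smul]
      set κ := (2 : F)⁻¹ * (1 - s) with hκ
      have he' := he
      rw [h6, smul_mul_smul_comm, mul_one] at he'
      obtain ⟨i⟩ := hne
      have h8 := congrFun (congrFun he' (Sum.inl i)) (Sum.inl i)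
      rw [Matrix.smul_apply, Matrix.smul_apply, Matrix.one_apply_eq, smul_eq_mul, smul_eq_mul,
        mul_one, mul_one] at h8
      have h9 : κ * (κ - 1) = 0 := by rw [mul_sub, h8, mul_one, sub_self]
      rcases mul_eq_zero.1 h9 with h0 | h0
      · apply he0
        rw [h6, h0, zero_smul]
      · apply he1
        rw [h6, sub_eq_zero.1 h0, one_smul]
    exact Nat.Coprime.mul_dvd_of_dvd_of_dvd hcop h2j haj
  · rintro ⟨k, rfl⟩
    rw [hpow]
    apply IsScalarMat.mul
    · exact (hord.iff _).2 ⟨2 * k, by ring⟩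
    · rw [mul_assoc, hyeven]
      exact isScalarMat_one

end trick

end Cfsg.Agent.Lib.Helper40_SpProj
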