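import Mathlib
import Cfsg.Agent.Lib.Helper40_SpProj

set_option autoImplicit false

/-!
Definitions for the spectrum of `PSp₄(q)` and its isospectral twins: the list of maximal element
orders, the spectrum of a semidirect product `V ⋊ G` in terms of the action, matrices acting on
column vectors, and the twisted tensor representations of `SL₂`.
-/

namespace Cfsg.Agent.Lib.Helper40_P4Defs

open scoped Kronecker

/-- the maximal element orders of `PSp₄(q)`, `q` a power of the prime `p` -/
def mu4 (p q : ℕ) : List ℕ :=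
  if p = 2 then [4, 2 * (q - 1), 2 * (q + 1), q ^ 2 - 1, q ^ 2 + 1]
  else if p = 3 then [9, 3 * (q - 1), 3 * (q + 1), (q ^ 2 - 1) / 2, (q ^ 2 + 1) / 2]
  else [p * (q - 1), p * (q + 1), (q ^ 2 - 1) / 2, (q ^ 2 + 1) / 2]

/-- the set of element orders of `PSp₄(q)` -/
def Spec4 (p q : ℕ) : Set ℕ := {n | ∃ m ∈ mu4 p q, n ∣ m}

section SD

variable {V : Type*} [AddCommGroup V]

/-- the norm sum `1 + α + ⋯ + α ^ (|α| - 1)` of an additive endomorphism -/
noncomputable def normSum (α : AddMonoid.End V) : AddMonoid.End V := ∑ i ∈ Finset.range (orderOf α), α ^ i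

/-- `m` is the order of `α`, or `p` times it when the norm sum does not vanish -/
def Realizes (p : ℕ) (α : AddMonoid.End V) (m : ℕ) : Prop :=
  m = orderOf α ∨ (m = p * orderOf α ∧ normSum α ≠ 0)

/-- the orders that `α` contributes to `V ⋊ ⟨α⟩` all lie in `S` -/
def Good (p : ℕ) (S : Set ℕ) (α : AddMonoid.End V) : Prop :=
  orderOf α ∈ S ∧ (normSum α ≠ 0 → p * orderOf α ∈ S)

/-- the spectrum of `V ⋊ G` (for `V` of exponent `p`), in terms of the action -/
def SDSpec {G : Type*} [Group G] (p : ℕ) (ρ : G →* AddMonoid.End V) : Set ℕ :=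
  {n | ∃ g : G, Realizes p (ρ g) n}

end SD

section mv

variable (ι : Type*) [Fintype ι] [DecidableEq ι] (K : Type*) [CommRing K]

/-- matrices acting on column vectors, as additive endomorphisms -/
def mvEnd : Matrix ι ι K →* AddMonoid.End (ι → K) where
  toFun M :=
    { toFun := fun v => M.mulVec v
      map_zero' := Matrix.mulVec_zero M
      map_add' := Matrix.mulVec_add M }
  map_one' := by
    apply AddMonoidHom.ext
    intro v
    exact Matrix.one_mulVec v
  map_mul' := by
    intro M N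
    apply AddMonoidHom.ext
    intro v
    exact (Matrix.mulVec_mulVec v M N).symm

variable {ι K}

@[simp] theorem mvEnd_apply (M : Matrix ι ι K) (v : ι → K) : mvEnd ι K M v = M.mulVec v := rfl

end mv

section kr

variable {K : Type*} [CommRing K]

/-- the tensor product of two twists of the natural module of `SL₂` -/
def kr2 (φ₁ φ₂ : K →+* K) :
    Matrix (Fin 2) (Fin 2) K →* Matrix (Fin 2 × Fin 2) (Fin 2 × Fin 2) K where
  toFun g := φ₁.mapMatrix g ⊗ₖ φ₂.mapMatrix g
  map_one' := by
    rw [map_one, map_one, Matrix.one_kronecker_one]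
  map_mul' := by
    intro g h
    rw [map_mul, map_mul, Matrix.mul_kronecker_mul]

/-- the tensor product of four twists of the natural module of `SL₂` -/
def kr4 (φ₁ φ₂ φ₃ φ₄ : K →+* K) :
    Matrix (Fin 2) (Fin 2) K →*
      Matrix ((Fin 2 × Fin 2) × (Fin 2 × Fin 2)) ((Fin 2 × Fin 2) × (Fin 2 × Fin 2)) K where
  toFun g := kr2 φ₁ φ₂ g ⊗ₖ kr2 φ₃ φ₄ g
  map_one' := by
    rw [map_one, map_one, Matrix.one_kronecker_one]
  map_mul' := by
    intro g h
    rw [map_mul, map_mul, Matrix.mul_kronecker_mul]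

theorem kr2_apply (φ₁ φ₂ : K →+* K) (g : Matrix (Fin 2) (Fin 2) K) :
    kr2 φ₁ φ₂ g = φ₁.mapMatrix g ⊗ₖ φ₂.mapMatrix g := rfl

theorem kr4_apply (φ₁ φ₂ φ₃ φ₄ : K →+* K) (g : Matrix (Fin 2) (Fin 2) K) :
    kr4 φ₁ φ₂ φ₃ φ₄ g = kr2 φ₁ φ₂ g ⊗ₖ kr2 φ₃ φ₄ g := rfl

end kr

section eig

variable {n : Type*} [Fintype n] [DecidableEq n] {K : Type*} [CommRing K]

/-- a complete system of orthogonal idempotents `P s` on which `C` acts by the scalars `c s` -/
structure EigSys (C : Matrix n n K) {S : Type} [Fintype S] (c : S → K)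
    (P : S → Matrix n n K) : Prop where
  sum_eq : ∑ s, P s = 1
  orth : ∀ s u, s ≠ u → P s * P u = 0
  eig : ∀ s, C * P s = c s • P s

end eig

section psi

variable (ι : Type*) {K : Type*} [CommRing K]

/-- a ring endomorphism acting entrywise on column vectors -/
def psiEnd (φ : K →+* K) : AddMonoid.End (ι → K) := φ.toAddMonoidHom.compLeft ι

variable {ι}

@[simp] theorem psiEnd_apply (φ : K →+* K) (v : ι → K) (i : ι) : psiEnd ι φ v i = φ (v i) := rfl

end psi

section coset

variable {K : Type*} [CommRing K]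

/-- the coset element `ρ(g) ∘ Ψ` of case C -/
def cosetEnd (φ : K →+* K) (g : Matrix (Fin 2) (Fin 2) K) : AddMonoid.End (Fin 2 × Fin 2 → K) :=
  mvEnd (Fin 2 × Fin 2) K (kr2 (RingHom.id K) φ g) * psiEnd (Fin 2 × Fin 2) φ

end coset

section basics

variable {ι : Type*} [Fintype ι] [DecidableEq ι] {K : Type*} [CommRing K]

theorem mvEnd_injective : Function.Injective (mvEnd ι K) := by
  intro M N h
  apply Matrix.mulVec_injective
  funext v
  exact congrArg (fun f : AddMonoid.End (ι → K) => f v) h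

theorem orderOf_mvEnd (M : Matrix ι ι K) : orderOf (mvEnd ι K M) = orderOf M :=
  orderOf_injective (mvEnd ι K) mvEnd_injective M

theorem mvEnd_sum {κ : Type*} (s : Finset κ) (f : κ → Matrix ι ι K) :
    mvEnd ι K (∑ i ∈ s, f i) = ∑ i ∈ s, mvEnd ι K (f i) := by
  induction s using Finset.cons_induction with
  | empty =>
    rw [Finset.sum_empty, Finset.sum_empty]
    refine DFunLike.ext _ _ (fun v => ?_)
    rw [mvEnd_apply, Matrix.zero_mulVec]
    rfl
  | cons a s ha ih =>
    rw [Finset.sum_cons, Finset.sum_cons, ← ih]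
    refine DFunLike.ext _ _ (fun v => ?_)
    rw [mvEnd_apply, Matrix.add_mulVec]
    rfl

theorem normSum_mvEnd (M : Matrix ι ι K) :
    normSum (mvEnd ι K M) = mvEnd ι K (∑ i ∈ Finset.range (orderOf M), M ^ i) := by
  unfold normSum
  rw [orderOf_mvEnd, mvEnd_sum]
  apply Finset.sum_congr rfl
  intro i _
  rw [map_pow]

theorem normSum_mvEnd_ne_zero_iff (M : Matrix ι ι K) :
    normSum (mvEnd ι K M) ≠ 0 ↔ ∑ i ∈ Finset.range (orderOf M), M ^ i ≠ 0 := by
  rw [normSum_mvEnd]
  constructor
  · intro h h0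
    apply h
    rw [h0]
    refine DFunLike.ext _ _ (fun v => ?_)
    rw [mvEnd_apply, Matrix.zero_mulVec]
    rfl
  · intro h h0
    apply h
    apply mvEnd_injective
    rw [h0]
    refine DFunLike.ext _ _ (fun v => ?_)
    rw [mvEnd_apply, Matrix.zero_mulVec]
    rfl

end basics

end Cfsg.Agent.Lib.Helper40_P4Defs
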