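import Mathlib
import Cfsg.Agent.Lib.Helper40_ProjOrd
import Cfsg.Agent.Lib.Helper40_ProjOrd2

set_option autoImplicit false

/-!
Constructions of matrices of determinant one with prescribed projective order: unipotent blocks,
Singer blocks, block sums, the irreducible type; and the trichotomy for `PSL_n(q)`.
-/

namespace Cfsg.Agent.Lib.Helper40_ProjOrd3

open Polynomial Cfsg.Agent.Lib.Helper40_ProjOrd Cfsg.Agent.Lib.Helper40_ProjOrd2

section unipotent

variable {F : Type*} [Field F]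

/-- the nilpotent shift matrix -/
def shiftMat (F : Type*) [Field F] (c : ℕ) : Matrix (Fin c) (Fin c) F :=
  fun i j => if (j : ℕ) = i + 1 then 1 else 0

theorem shiftMat_apply (c : ℕ) (i j : Fin c) :
    shiftMat F c i j = if (j : ℕ) = i + 1 then 1 else 0 := rfl

theorem shiftMat_pow (c k : ℕ) (i j : Fin c) :
    ((shiftMat F c) ^ k) i j = if (j : ℕ) = i + k then 1 else 0 := by
  induction k generalizing i j with
  | zero =>
    simp [Matrix.one_apply, Fin.ext_iff, eq_comm]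
  | succ k ih =>
    rw [pow_succ, Matrix.mul_apply]
    by_cases h : (j : ℕ) = i + (k + 1)
    · rw [if_pos h]
      have hlt : (i : ℕ) + k < c := by have := j.2; omega
      rw [Finset.sum_eq_single (⟨i + k, hlt⟩ : Fin c)]
      · rw [ih, shiftMat_apply, if_pos rfl, if_pos (by simp only; omega), mul_one]
      · intro l _ hl
        rw [ih, if_neg, zero_mul]
        intro h'
        apply hl
        ext
        exact h'
      · intro h'
        exact absurd (Finset.mem_univ _) h'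
    · rw [if_neg h]
      apply Finset.sum_eq_zero
      intro l _
      rw [ih, shiftMat_apply]
      by_cases hl : (l : ℕ) = i + k
      · rw [if_pos hl, if_neg (by omega : ¬ (j : ℕ) = l + 1), mul_zero]
      · rw [if_neg hl, zero_mul]

theorem shiftMat_pow_eq_zero_iff (c k : ℕ) (hc : 1 ≤ c) : (shiftMat F c) ^ k = 0 ↔ c ≤ k := by
  constructor
  · intro h
    by_contra hlt
    rw [not_le] at hlt
    have h1 := congrFun (congrFun h (⟨0, by omega⟩ : Fin c)) (⟨k, hlt⟩ : Fin c)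
    rw [shiftMat_pow] at h1
    simp at h1
  · intro h
    ext i j
    rw [shiftMat_pow, if_neg (by have := j.2; omega)]
    rfl

theorem exists_unipotent (p : ℕ) [Fact p.Prime] [CharP F p] (c : ℕ) (hc : 1 ≤ c) :
    ∃ J : Matrix (Fin c) (Fin c) F, J.det = 1 ∧ ∀ j : ℕ, J ^ j = 1 ↔ p ^ Nat.clog p c ∣ j := by
  have hp : p.Prime := Fact.out
  have : Nonempty (Fin c) := ⟨⟨0, by omega⟩⟩
  have : CharP (Matrix (Fin c) (Fin c) F) p := Matrix.charP p
  set N := shiftMat F c with hN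
  set J : Matrix (Fin c) (Fin c) F := 1 + N with hJ
  have hpow : ∀ k : ℕ, J ^ (p ^ k) = 1 + N ^ (p ^ k) := by
    intro k
    rw [hJ, add_pow_char_pow_of_commute p k (Commute.one_left N), one_pow]
  have hpow1 : ∀ k : ℕ, J ^ (p ^ k) = 1 ↔ c ≤ p ^ k := by
    intro k
    rw [hpow, add_eq_left, hN, shiftMat_pow_eq_zero_iff c _ hc]
  have hord : orderOf J = p ^ Nat.clog p c := by
    have h1 : orderOf J ∣ p ^ Nat.clog p c :=
      orderOf_dvd_of_pow_eq_one ((hpow1 _).2 (Nat.le_pow_clog hp.one_lt c))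
    obtain ⟨i, hi, hi'⟩ := (Nat.dvd_prime_pow hp).1 h1
    have h2 : J ^ (p ^ i) = 1 := by rw [← hi']; exact pow_orderOf_eq_one J
    have h3 : Nat.clog p c ≤ i := (Nat.clog_le_iff_le_pow hp.one_lt).2 ((hpow1 i).1 h2)
    rw [hi', le_antisymm hi h3]
  refine ⟨J, ?_, fun j => by rw [← hord, orderOf_dvd_iff_pow_eq_one]⟩
  have h1 : J.det ^ (p ^ Nat.clog p c) = 1 := by
    rw [← Matrix.det_pow, (hpow1 _).2 (Nat.le_pow_clog hp.one_lt c), Matrix.det_one]
  have h2 : (J.det - 1) ^ (p ^ Nat.clog p c) = 0 := by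
    rw [sub_pow_char_pow, h1, one_pow, sub_self]
  exact sub_eq_zero.1 (pow_eq_zero_iff (pow_ne_zero _ hp.ne_zero) |>.1 h2)

end unipotent
section singer

variable {F : Type*} [Field F] [Fintype F]

theorem mnum_mul (q δ : ℕ) : mnum q δ * (q - 1) = q ^ δ - 1 :=
  Nat.div_mul_cancel (Nat.sub_one_dvd_pow_sub_one q δ)

/-- the Singer block: a matrix of determinant one and of any given order dividing
`(q ^ δ - 1) / (q - 1)` -/
theorem exists_singer (p : ℕ) [Fact p.Prime] [CharP F p] (δ : ℕ) (hδ : 1 ≤ δ) (a₁ : ℕ)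
    (ha₁ : a₁ ∣ mnum (Fintype.card F) δ) :
    ∃ D : Matrix (Fin δ) (Fin δ) F, D.det = 1 ∧ ∀ j : ℕ, D ^ j = 1 ↔ a₁ ∣ j := by
  have : NeZero δ := ⟨by omega⟩
  have hfr : Module.finrank F (FiniteField.Extension F p δ) = δ :=
    FiniteField.finrank_extension F p δ
  set b : Module.Basis (Fin δ) F (FiniteField.Extension F p δ) :=
    Module.finBasisOfFinrankEq F _ hfr with hb
  have hcardK : Nat.card (FiniteField.Extension F p δ) = Fintype.card F ^ δ := by
    rw [FiniteField.natCard_extension, Nat.card_eq_fintype_card]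
  have hq : 1 < Fintype.card F := Fintype.one_lt_card
  have hqδ : 1 < Fintype.card F ^ δ := Nat.one_lt_pow (by omega) hq
  obtain ⟨g, hg⟩ := IsCyclic.exists_ofOrder_eq_natCard (α := (FiniteField.Extension F p δ)ˣ)
  rw [Nat.card_units, hcardK] at hg
  have hdvd : a₁ ∣ Fintype.card F ^ δ - 1 := by
    rw [← mnum_mul]
    exact ha₁.mul_right _
  obtain ⟨k, hk⟩ := hdvd
  have hk0 : k ≠ 0 := by
    rintro rfl
    omega
  have ha₁0 : a₁ ≠ 0 := by
    rintro rfl
    rw [zero_mul] at hk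
    omega
  have hz : orderOf (g ^ k) = a₁ := by
    rw [orderOf_pow_of_dvd hk0 (by rw [hg, hk]; exact Dvd.intro_left _ rfl), hg, hk]
    exact Nat.mul_div_cancel _ (Nat.pos_of_ne_zero hk0)
  set z := g ^ k with hzdef
  have hnorm : Algebra.norm F ((z : (FiniteField.Extension F p δ)ˣ) :
      FiniteField.Extension F p δ) = 1 := by
    apply (algebraMap F (FiniteField.Extension F p δ)).injective
    rw [FiniteField.algebraMap_norm_eq_pow, hcardK, Nat.card_eq_fintype_card, map_one]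
    have h1 : z ^ mnum (Fintype.card F) δ = 1 := by
      rw [← orderOf_dvd_iff_pow_eq_one, hz]
      exact ha₁
    have h2 := congrArg (fun u : (FiniteField.Extension F p δ)ˣ =>
      (u : FiniteField.Extension F p δ)) h1
    simp only [Units.val_pow_eq_pow_val, Units.val_one] at h2
    exact h2
  refine ⟨Algebra.leftMulMatrix b (z : (FiniteField.Extension F p δ)ˣ), ?_, ?_⟩
  · rw [← Algebra.norm_eq_matrix_det, hnorm]
  · intro j
    rw [← map_pow, ← hz, orderOf_dvd_iff_pow_eq_one]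
    constructor
    · intro h
      have h1 : ((z : (FiniteField.Extension F p δ)ˣ) : FiniteField.Extension F p δ) ^ j = 1 := by
        apply Algebra.leftMulMatrix_injective b
        rw [h, map_one]
      apply Units.ext
      rw [Units.val_pow_eq_pow_val, h1, Units.val_one]
    · intro h
      rw [← Units.val_pow_eq_pow_val, h, Units.val_one, map_one]

end singer

section irred

variable {F : Type*} [Field F] [Fintype F]

/-- all elements of irreducible type have projective order dividing that of a single one -/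
theorem exists_T (p : ℕ) [Fact p.Prime] [CharP F p] (n : ℕ) (hn : 1 ≤ n) :
    ∃ T : ℕ, InSpec (Fin n) F T ∧ ∀ (x : Matrix (Fin n) (Fin n) F) (a : ℕ), x.det = 1 →
      HasPOrd x a → Irreducible (minpoly F x) → (minpoly F x).natDegree = n → a ∣ T := by
  have : NeZero n := ⟨by omega⟩
  have hfr : Module.finrank F (FiniteField.Extension F p n) = n :=
    FiniteField.finrank_extension F p n
  set b : Module.Basis (Fin n) F (FiniteField.Extension F p n) :=
    Module.finBasisOfFinrankEq F _ hfr with hb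
  -- the norm one subgroup
  set H : Subgroup (FiniteField.Extension F p n)ˣ :=
    (Units.map (Algebra.norm F : FiniteField.Extension F p n →* F)).ker with hH
  have hHmem : ∀ u : (FiniteField.Extension F p n)ˣ, u ∈ H ↔
      Algebra.norm F (u : FiniteField.Extension F p n) = 1 := by
    intro u
    rw [hH, MonoidHom.mem_ker, Units.ext_iff]
    simp
  obtain ⟨h₀, hgen⟩ := IsCyclic.exists_generator (α := H)
  set M₀ : Matrix (Fin n) (Fin n) F :=
    Algebra.leftMulMatrix b ((h₀ : (FiniteField.Extension F p n)ˣ) : FiniteField.Extension F p n)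
    with hM₀
  have hdet₀ : M₀.det = 1 := by
    rw [hM₀, ← Algebra.norm_eq_matrix_det]
    exact (hHmem _).1 h₀.2
  set T := orderOf (QuotientGroup.mk (⟨M₀, hdet₀⟩ : Matrix.SpecialLinearGroup (Fin n) F) :
    Matrix.ProjectiveSpecialLinearGroup (Fin n) F) with hT
  have hT' : HasPOrd M₀ T := hasPOrd_orderOf ⟨M₀, hdet₀⟩
  refine ⟨T, ⟨M₀, hdet₀, hT'⟩, ?_⟩
  intro x a hdet hx hirr hdeg
  set f := minpoly F x with hf
  have hfm : f.Monic := minpoly.monic (Matrix.isIntegral x)
  have : Fact (Irreducible f) := ⟨hirr⟩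
  have hf0 : f ≠ 0 := hirr.ne_zero
  have hfin : Module.finrank F (AdjoinRoot f) = n := by
    rw [(AdjoinRoot.powerBasis hf0).finrank, AdjoinRoot.powerBasis_dim, hdeg]
  set e := FiniteField.algEquivExtension F p n (AdjoinRoot f) hfin with he
  set ρ := e (AdjoinRoot.root f) with hρ
  have hminρ : minpoly F ρ = f := by
    rw [hρ, minpoly.algEquiv_eq, AdjoinRoot.minpoly_root hf0, hfm.leadingCoeff, inv_one, map_one,
      mul_one]
  set N : Matrix (Fin n) (Fin n) F := Algebra.leftMulMatrix b ρ with hN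
  have hminN : minpoly F N = f := by
    rw [hN, minpoly.algHom_eq _ (Algebra.leftMulMatrix_injective b), hminρ]
  have hNdet : N.det = 1 := by
    rw [← hdet]
    symm
    apply det_eq_of_minpoly_eq x N (by rw [hminN])
    · rw [← hf, hdeg, Fintype.card_fin]
    · rfl
  have hNord : HasPOrd N a := HasPOrd.congr (by rw [hminN]) hx
  -- `ρ` is a power of the generator
  have hρnorm : Algebra.norm F ρ = 1 := by
    rw [Algebra.norm_eq_matrix_det b, ← hN, hNdet]
  have hρ0 : ρ ≠ 0 := by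
    rintro h0
    rw [h0, Algebra.norm_zero] at hρnorm
    exact zero_ne_one hρnorm
  have hmem : Units.mk0 ρ hρ0 ∈ H := by
    rw [hHmem, Units.val_mk0, hρnorm]
  have hpow : (⟨Units.mk0 ρ hρ0, hmem⟩ : H) ∈ Submonoid.powers h₀ :=
    mem_powers_iff_mem_zpowers.2 (hgen _)
  obtain ⟨i, hi⟩ := hpow
  have hi' : ((h₀ : (FiniteField.Extension F p n)ˣ) : FiniteField.Extension F p n) ^ i = ρ := by
    have h1 := congrArg (fun u : H => ((u : (FiniteField.Extension F p n)ˣ) :
      FiniteField.Extension F p n)) hi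
    simpa using h1
  have hNM : N = M₀ ^ i := by rw [hN, hM₀, ← map_pow, hi']
  have h1 : IsScalarMat (N ^ T) := by
    rw [hNM, ← pow_mul, mul_comm, pow_mul]
    exact ((hT'.iff T).2 dvd_rfl).pow i
  exact (hNord.iff T).1 h1

end irred

section blocks

variable {F : Type*} [Field F]
variable {ι₁ ι₂ : Type*} [Fintype ι₁] [DecidableEq ι₁] [Fintype ι₂] [DecidableEq ι₂]

theorem fromBlocks_diag_pow (A : Matrix ι₁ ι₁ F) (D : Matrix ι₂ ι₂ F) (j : ℕ) :
    (Matrix.fromBlocks A 0 0 D) ^ j = Matrix.fromBlocks (A ^ j) 0 0 (D ^ j) := by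
  induction j with
  | zero => rw [pow_zero, pow_zero, pow_zero, Matrix.fromBlocks_one]
  | succ j ih =>
    rw [pow_succ, ih, Matrix.fromBlocks_multiply, pow_succ, pow_succ]
    simp

omit [Fintype ι₁] [Fintype ι₂] in
theorem fromBlocks_diag_eq_one_iff (A : Matrix ι₁ ι₁ F) (D : Matrix ι₂ ι₂ F) :
    Matrix.fromBlocks A 0 0 D = 1 ↔ A = 1 ∧ D = 1 := by
  rw [← Matrix.fromBlocks_one, Matrix.fromBlocks_inj]
  tauto

/-- padding a block with an identity block -/
theorem pad_block (D : Matrix ι₁ ι₁ F) (hdet : D.det = 1) (a₁ : ℕ)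
    (hD : ∀ j : ℕ, D ^ j = 1 ↔ a₁ ∣ j) :
    (Matrix.fromBlocks D 0 0 (1 : Matrix ι₂ ι₂ F)).det = 1 ∧
      ∀ j : ℕ, (Matrix.fromBlocks D 0 0 (1 : Matrix ι₂ ι₂ F)) ^ j = 1 ↔ a₁ ∣ j := by
  refine ⟨by rw [Matrix.det_fromBlocks_zero₂₁, hdet, Matrix.det_one, mul_one], fun j => ?_⟩
  rw [fromBlocks_diag_pow, fromBlocks_diag_eq_one_iff, one_pow, hD]
  tauto

/-- the block construction: a unipotent block of order `P = p ^ κ` next to a block of order `a₁`
gives the projective order `r * lcm P a₁` -/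
theorem inSpec_blocks (p : ℕ) [Fact p.Prime] [CharP F p] [Nonempty ι₁] [Nonempty ι₂] {r : ℕ}
    (hr : r.Prime) (hrp : r ≠ p) (hrn : ¬ r ∣ Fintype.card ι₁ + Fintype.card ι₂) (ζ : F)
    (hζ : orderOf ζ = r) (κ a₁ : ℕ) (hra₁ : ¬ r ∣ a₁) (ha₁0 : 0 < a₁)
    (J : Matrix ι₁ ι₁ F) (hJdet : J.det = 1) (hJ : ∀ j : ℕ, J ^ j = 1 ↔ p ^ κ ∣ j)
    (D : Matrix ι₂ ι₂ F) (hDdet : D.det = 1) (hD : ∀ j : ℕ, D ^ j = 1 ↔ a₁ ∣ j) :
    InSpec (ι₁ ⊕ ι₂) F (r * Nat.lcm (p ^ κ) a₁) := by
  have hp : p.Prime := Fact.out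
  set M : Matrix (ι₁ ⊕ ι₂) (ι₁ ⊕ ι₂) F := Matrix.fromBlocks J 0 0 D with hM
  have hMdet : M.det = 1 := by
    rw [hM, Matrix.det_fromBlocks_zero₂₁, hJdet, hDdet, mul_one]
  have hlcm0 : 0 < Nat.lcm (p ^ κ) a₁ := Nat.lcm_pos (pow_pos hp.pos _) ha₁0
  have hMord : HasPOrd M (Nat.lcm (p ^ κ) a₁) := by
    refine ⟨hlcm0, fun j => ?_⟩
    rw [Nat.lcm_dvd_iff, ← hJ, ← hD, hM, fromBlocks_diag_pow]
    constructor
    · rintro ⟨s, hs⟩
      rw [← Matrix.fromBlocks_one, Matrix.fromBlocks_smul, Matrix.fromBlocks_inj] at hs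
      obtain ⟨h1, -, -, h2⟩ := hs
      -- `s = 1`
      have h3 : (s ^ p ^ κ) • (1 : Matrix ι₁ ι₁ F) = 1 := by
        rw [← one_pow (M := Matrix ι₁ ι₁ F) (p ^ κ), ← _root_.smul_pow, ← h1, ← pow_mul, mul_comm,
          pow_mul, (hJ _).2 dvd_rfl, one_pow, one_pow]
      obtain ⟨i⟩ := ‹Nonempty ι₁›
      have h4 := congrFun (congrFun h3 i) i
      rw [Matrix.smul_apply, Matrix.one_apply_eq, smul_eq_mul, mul_one] at h4
      have h5 : (s - 1) ^ p ^ κ = 0 := by rw [sub_pow_char_pow, h4, one_pow, sub_self]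
      have h6 : s = 1 := sub_eq_zero.1 (pow_eq_zero_iff (pow_ne_zero _ hp.ne_zero) |>.1 h5)
      rw [h6, one_smul] at h1 h2
      exact ⟨h1, h2⟩
    · rintro ⟨h1, h2⟩
      rw [h1, h2, Matrix.fromBlocks_one]
      exact isScalarMat_one
  have hrl : ¬ r ∣ Nat.lcm (p ^ κ) a₁ := by
    intro h
    have h1 : r ∣ p ^ κ * a₁ := h.trans (Nat.lcm_dvd_mul _ _)
    rcases (Nat.Prime.dvd_mul hr).1 h1 with h2 | h2
    · exact hrp ((Nat.prime_dvd_prime_iff_eq hr hp).1 (hr.dvd_of_dvd_pow h2))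
    · exact hra₁ h2
  set e : Matrix (ι₁ ⊕ ι₂) (ι₁ ⊕ ι₂) F := Matrix.fromBlocks 1 0 0 0 with he
  apply inSpec_mul_of_idempotent hr (by rw [Fintype.card_sum]; exact hrn) ζ hζ M hMdet hMord hrl e
  · rw [he, Matrix.fromBlocks_multiply]
    simp
  · intro h0
    obtain ⟨i⟩ := ‹Nonempty ι₁›
    have := congrFun (congrFun h0 (Sum.inl i)) (Sum.inl i)
    rw [he, Matrix.fromBlocks_apply₁₁, Matrix.one_apply_eq, Matrix.zero_apply] at this
    exact one_ne_zero this
  · intro h1
    obtain ⟨i⟩ := ‹Nonempty ι₂›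
    have := congrFun (congrFun h1 (Sum.inr i)) (Sum.inr i)
    rw [he, Matrix.fromBlocks_apply₂₂, Matrix.one_apply_eq, Matrix.zero_apply] at this
    exact zero_ne_one this
  · show e * M = M * e
    rw [he, hM, Matrix.fromBlocks_multiply, Matrix.fromBlocks_multiply]
    simp

end blocks

end Cfsg.Agent.Lib.Helper40_ProjOrd3
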