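import Mathlib

/-!
# S3590 package `PKS` (helper45): the spectrum of `V ^ k ⋊ G`

For a finite group `G` acting on a finite elementary abelian `2`-group `V`, the element orders of
`H = V ^ k ⋊ G` (`k ≥ 1`, coordinatewise action) are the `|g|` and the `2 |g|` with
`N_g v = ∑_{i < |g|} g ^ i v ≠ 0` for some `v`. The group is transferred to `Type 0`.
-/

set_option autoImplicit false

namespace Cfsg.Agent.Lib.Helper45_S3590_PKS

variable {G : Type*} [Group G] {V : Type*} [AddCommGroup V]

/-- the underlying type of `V ^ k ⋊ G` -/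
structure SD (G : Type*) (V : Type*) (k : ℕ) where
  w : Fin k → V
  g : G

namespace SD

variable {k : ℕ}

omit [Group G] [AddCommGroup V] in
theorem ext' {x y : SD G V k} (hw : x.w = y.w) (hg : x.g = y.g) : x = y := by
  cases x; cases y; simp_all

/-- the coordinatewise action -/
def act (ρ : G →* AddMonoid.End V) (g : G) (w : Fin k → V) : Fin k → V := fun j => ρ g (w j)

theorem act_one (ρ : G →* AddMonoid.End V) (w : Fin k → V) : act ρ 1 w = w := by
  funext j; simp [act]

theorem act_mul (ρ : G →* AddMonoid.End V) (g h : G) (w : Fin k → V) :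
    act ρ (g * h) w = act ρ g (act ρ h w) := by
  funext j; simp [act]

theorem act_add (ρ : G →* AddMonoid.End V) (g : G) (w w' : Fin k → V) :
    act ρ g (w + w') = act ρ g w + act ρ g w' := by
  funext j; simp [act]

theorem act_zero (ρ : G →* AddMonoid.End V) (g : G) : act ρ g (0 : Fin k → V) = 0 := by
  funext j; simp [act]

theorem act_neg (ρ : G →* AddMonoid.End V) (g : G) (w : Fin k → V) :
    act ρ g (-w) = - act ρ g w := by
  funext j; simp [act]

/-- the group structure of the semidirect product -/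
@[reducible] def group (ρ : G →* AddMonoid.End V) : Group (SD G V k) where
  mul x y := ⟨x.w + act ρ x.g y.w, x.g * y.g⟩
  one := ⟨0, 1⟩
  inv x := ⟨-(act ρ x.g⁻¹ x.w), x.g⁻¹⟩
  mul_assoc x y z := by
    apply ext'
    · show x.w + act ρ x.g y.w + act ρ (x.g * y.g) z.w = x.w + act ρ x.g (y.w + act ρ y.g z.w)
      rw [act_add, act_mul, add_assoc]
    · exact mul_assoc _ _ _
  one_mul x := by
    apply ext'
    · show (0 : Fin k → V) + act ρ 1 x.w = x.w
      rw [act_one, zero_add]
    · exact one_mul _
  mul_one x := by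
    apply ext'
    · show x.w + act ρ x.g (0 : Fin k → V) = x.w
      rw [act_zero, add_zero]
    · exact mul_one _
  inv_mul_cancel x := by
    apply ext'
    · show -(act ρ x.g⁻¹ x.w) + act ρ x.g⁻¹ x.w = 0
      rw [neg_add_cancel]
    · exact inv_mul_cancel _

end SD

open SD

section main

variable {k : ℕ} (ρ : G →* AddMonoid.End V)

theorem mul_w (x y : SD G V k) :
    (letI := SD.group (k := k) ρ; x * y).w = x.w + act ρ x.g y.w := rfl

theorem mul_g (x y : SD G V k) : (letI := SD.group (k := k) ρ; x * y).g = x.g * y.g := rfl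

theorem one_w : (letI := SD.group (k := k) ρ; (1 : SD G V k)).w = 0 := rfl

theorem one_g : (letI := SD.group (k := k) ρ; (1 : SD G V k)).g = 1 := rfl

theorem pow_g (x : SD G V k) (n : ℕ) : (letI := SD.group (k := k) ρ; x ^ n).g = x.g ^ n := by
  letI := SD.group (k := k) ρ
  induction n with
  | zero => rw [pow_zero, pow_zero]; rfl
  | succ n ih => rw [pow_succ, pow_succ, mul_g, ih]

theorem pow_w (x : SD G V k) (n : ℕ) :
    (letI := SD.group (k := k) ρ; x ^ n).w = ∑ i ∈ Finset.range n, act ρ (x.g ^ i) x.w := by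
  letI := SD.group (k := k) ρ
  induction n with
  | zero => rw [pow_zero, Finset.sum_range_zero]; rfl
  | succ n ih => rw [pow_succ, mul_w, ih, pow_g, Finset.sum_range_succ]

end main

/-- a copy of `Fin n` without algebraic instances -/
structure Cp (n : ℕ) : Type where
  val : Fin n

/-- `Cp n ≃ Fin n` -/
def Cp.equiv (n : ℕ) : Cp n ≃ Fin n where
  toFun x := x.val
  invFun y := ⟨y⟩
  left_inv x := by cases x; rfl
  right_inv y := rfl

/-- a finite group has a copy in `Type` with the same order and the same element orders -/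
theorem transfer (H0 : Type*) [Group H0] [Fintype H0] :
    ∃ (H : Type) (_ : Group H) (_ : Fintype H), Fintype.card H = Fintype.card H0 ∧
      Set.range (orderOf : H → ℕ) = Set.range (orderOf : H0 → ℕ) := by
  let e : Cp (Fintype.card H0) ≃ H0 := (Cp.equiv _).trans (Fintype.equivFin H0).symm
  letI iG : Group (Cp (Fintype.card H0)) := e.group
  letI iF : Fintype (Cp (Fintype.card H0)) := Fintype.ofEquiv _ e.symm
  let E : Cp (Fintype.card H0) ≃* H0 :=
    { e with
      map_mul' := fun a b => by
        show e (e.symm (e a * e b)) = e a * e b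
        exact e.apply_symm_apply _ }
  refine ⟨Cp (Fintype.card H0), iG, iF, Fintype.card_congr e, ?_⟩
  ext n
  constructor
  · rintro ⟨y, rfl⟩
    exact ⟨E y, MulEquiv.orderOf_eq E y⟩
  · rintro ⟨x, rfl⟩
    exact ⟨E.symm x, MulEquiv.orderOf_eq E.symm x⟩

theorem PKS {G : Type*} [Group G] [Fintype G] {V : Type*} [AddCommGroup V] [Fintype V]
    [Nontrivial V] (ρ : G →* AddMonoid.End V) (h2 : ∀ v : V, v + v = 0) (M : ℕ) :
    ∃ (H : Type) (_ : Group H) (_ : Fintype H), M < Fintype.card H ∧
      Set.range (orderOf : H → ℕ) =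
        {n | ∃ g : G, n = orderOf g ∨
          (n = 2 * orderOf g ∧ ∃ v : V, ∑ i ∈ Finset.range (orderOf g), ρ (g ^ i) v ≠ 0)} := by
  classical
  set k := M + 1 with hk
  letI : Group (SD G V k) := SD.group (k := k) ρ
  -- finiteness and cardinality
  let eP : SD G V k ≃ (Fin k → V) × G :=
    { toFun := fun x => (x.w, x.g)
      invFun := fun y => ⟨y.1, y.2⟩
      left_inv := fun x => by cases x; rfl
      right_inv := fun y => rfl }
  letI : Fintype (SD G V k) := Fintype.ofEquiv _ eP.symm
  have hcard : M < Fintype.card (SD G V k) := by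
    rw [Fintype.card_congr eP, Fintype.card_prod, Fintype.card_fun, Fintype.card_fin]
    have h1 : 2 ≤ Fintype.card V := Fintype.one_lt_card
    have h2' : 1 ≤ Fintype.card G := Fintype.card_pos
    calc M < 2 ^ M := Nat.lt_two_pow_self
      _ ≤ 2 ^ k := Nat.pow_le_pow_right (by norm_num) (by omega)
      _ ≤ Fintype.card V ^ k := Nat.pow_le_pow_left h1 k
      _ ≤ Fintype.card V ^ k * Fintype.card G := Nat.le_mul_of_pos_right _ h2'
  -- the order of an element
  have hsq : ∀ N : Fin k → V, ((⟨N, 1⟩ : SD G V k)) ^ 2 = 1 := by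
    intro N
    apply SD.ext'
    · rw [pow_w]
      show ∑ i ∈ Finset.range 2, act ρ ((1 : G) ^ i) N = 0
      rw [Finset.sum_range_succ, Finset.sum_range_one, one_pow, one_pow, act_one]
      funext j
      exact h2 (N j)
    · rw [pow_g]
      show (1 : G) ^ 2 = 1
      rw [one_pow]
  have hord : ∀ x : SD G V k,
      (∑ i ∈ Finset.range (orderOf x.g), act ρ (x.g ^ i) x.w = 0 → orderOf x = orderOf x.g) ∧
      (∑ i ∈ Finset.range (orderOf x.g), act ρ (x.g ^ i) x.w ≠ 0 →
        orderOf x = 2 * orderOf x.g) := by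
    intro x
    set n := orderOf x.g with hn
    have hn0 : 0 < n := orderOf_pos x.g
    have hdvd : n ∣ orderOf x := by
      apply orderOf_dvd_of_pow_eq_one
      have h1 := congrArg SD.g (pow_orderOf_eq_one x)
      rw [pow_g] at h1
      exact h1
    have hxn : x ^ n = ⟨∑ i ∈ Finset.range n, act ρ (x.g ^ i) x.w, 1⟩ := by
      apply SD.ext'
      · rw [pow_w]
      · rw [pow_g]; exact pow_orderOf_eq_one x.g
    constructor
    · intro h0
      apply Nat.dvd_antisymm _ hdvd
      apply orderOf_dvd_of_pow_eq_one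
      rw [hxn, h0]
      rfl
    · intro h0
      have h2n : orderOf x ∣ 2 * n := by
        apply orderOf_dvd_of_pow_eq_one
        rw [mul_comm, pow_mul, hxn]
        exact hsq _
      have hne : orderOf x ≠ n := by
        intro heq
        have h1 : x ^ n = 1 := by rw [← heq]; exact pow_orderOf_eq_one x
        rw [hxn] at h1
        exact h0 (congrArg SD.w h1)
      obtain ⟨t, ht⟩ := hdvd
      rw [ht, mul_comm 2 n] at h2n
      have ht2 : t ∣ 2 := (Nat.mul_dvd_mul_iff_left hn0).1 h2n
      rcases (Nat.dvd_prime Nat.prime_two).1 ht2 with rfl | rfl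
      · rw [mul_one] at ht; exact absurd ht hne
      · rw [ht, mul_comm]
  -- the spectrum of `SD G V k`
  have hrange : Set.range (orderOf : SD G V k → ℕ) =
      {n | ∃ g : G, n = orderOf g ∨
        (n = 2 * orderOf g ∧ ∃ v : V, ∑ i ∈ Finset.range (orderOf g), ρ (g ^ i) v ≠ 0)} := by
    ext n
    constructor
    · rintro ⟨x, rfl⟩
      refine ⟨x.g, ?_⟩
      by_cases h0 : ∑ i ∈ Finset.range (orderOf x.g), act ρ (x.g ^ i) x.w = 0
      · exact Or.inl ((hord x).1 h0)
      · refine Or.inr ⟨(hord x).2 h0, ?_⟩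
        by_contra hcon
        push Not at hcon
        apply h0
        funext j
        rw [Finset.sum_apply]
        exact hcon (x.w j)
    · rintro ⟨g, rfl | ⟨rfl, v, hv⟩⟩
      · refine ⟨⟨0, g⟩, ?_⟩
        apply (hord ⟨0, g⟩).1
        apply Finset.sum_eq_zero
        intro i _
        exact act_zero ρ _
      · refine ⟨⟨fun _ => v, g⟩, ?_⟩
        apply (hord ⟨fun _ => v, g⟩).2
        intro h0
        apply hv
        have := congrFun h0 (⟨0, by omega⟩ : Fin k)
        rw [Finset.sum_apply] at this
        exact this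
  -- transfer to `Type`
  obtain ⟨H, iG, iF, hc, hr⟩ := transfer (SD G V k)
  refine ⟨H, iG, iF, ?_, ?_⟩
  · rw [hc]; exact hcard
  · rw [hr, hrange]

end Cfsg.Agent.Lib.Helper45_S3590_PKS
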