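import Mathlib
import Cfsg.Agent.Lib.Helper40_P4Defs
import Cfsg.Agent.Lib.Helper45_S3590_PKS
import Cfsg.Agent.Lib.Helper40_ProjOrd3
import Cfsg.Agent.Lib.Helper40_SpExistMatrix

/-!
# S3466 package LB2 (architect helper40): elements of `SL₂(q²)` whose image in `W ⊗ W^(q)` has order
`(q² ∓ 1) / d`.

Core fact: for `g ∈ SL₂(K)` and field endomorphisms `φ₁ φ₂`, `kr2 φ₁ φ₂ g ^ j = 1 ↔ g ^ j = ±1`.
-/

set_option autoImplicit false
set_option linter.unusedVariables false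

open Cfsg.Agent.Lib.Helper40_P4Defs Cfsg.Agent.Lib.Helper40_SpProj Cfsg.Agent.Lib.Helper40_ProjOrd
open Cfsg.Agent.Lib.Helper40_ProjOrd2 Cfsg.Agent.Lib.Helper40_ProjOrd3
open Polynomial
open scoped Kronecker Matrix

universe u

namespace Cfsg.Agent.Lib.Helper64_S3466_LB2

section core

variable {K : Type*} [Field K]

/-- `orderOf x = n` from the divisibility characterisation of the trivial powers. -/
theorem orderOf_eq_of_pow_iff {M : Type*} [Monoid M] (x : M) (n : ℕ)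
    (h : ∀ j : ℕ, x ^ j = 1 ↔ n ∣ j) : orderOf x = n :=
  Nat.dvd_antisymm (orderOf_dvd_of_pow_eq_one ((h n).2 dvd_rfl))
    ((h _).1 (pow_orderOf_eq_one x))

theorem kr2_neg_one (φ₁ φ₂ : K →+* K) : kr2 φ₁ φ₂ (-1) = 1 := by
  rw [kr2_apply, map_neg, map_neg, map_one, map_one]
  ext ⟨i, k⟩ ⟨j, l⟩
  rw [Matrix.kronecker_apply, Matrix.neg_apply, Matrix.neg_apply, neg_mul_neg,
    ← Matrix.kronecker_apply, Matrix.one_kronecker_one]

/-- In `SL₂`, `kr2 φ₁ φ₂ h = 1` forces `h = ±1`. -/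
theorem eq_one_or_neg_one_of_kr2 (φ₁ φ₂ : K →+* K) (h : Matrix (Fin 2) (Fin 2) K)
    (hdet : h.det = 1) (hk : kr2 φ₁ φ₂ h = 1) : h = 1 ∨ h = -1 := by
  have hent : ∀ i k j l : Fin 2, φ₁ (h i j) * φ₂ (h k l) =
      (1 : Matrix (Fin 2 × Fin 2) (Fin 2 × Fin 2) K) (i, k) (j, l) := by
    intro i k j l
    rw [← hk, kr2_apply, Matrix.kronecker_apply]
    rfl
  have h00 : φ₁ (h 0 0) * φ₂ (h 0 0) = 1 := by
    rw [hent 0 0 0 0]; simp
  have hb0 : φ₂ (h 0 0) ≠ 0 := by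
    intro hz; rw [hz, mul_zero] at h00; exact zero_ne_one h00
  have h01 : h 0 1 = 0 := by
    have := hent 0 0 1 0
    rw [Matrix.one_apply_ne (by decide)] at this
    rcases mul_eq_zero.1 this with h1 | h1
    · exact (map_eq_zero φ₁).1 h1
    · exact absurd h1 hb0
  have h10 : h 1 0 = 0 := by
    have := hent 1 0 0 0
    rw [Matrix.one_apply_ne (by decide)] at this
    rcases mul_eq_zero.1 this with h1 | h1
    · exact (map_eq_zero φ₁).1 h1
    · exact absurd h1 hb0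
  have h11 : h 1 1 = h 0 0 := by
    have := hent 1 0 1 0
    rw [Matrix.one_apply_eq] at this
    have h2 : φ₁ (h 1 1) = φ₁ (h 0 0) := mul_right_cancel₀ hb0 (this.trans h00.symm)
    exact φ₁.injective h2
  rw [Matrix.det_fin_two, h01, h10, h11, mul_zero, sub_zero] at hdet
  have hpm : h 0 0 = 1 ∨ h 0 0 = -1 := mul_self_eq_one_iff.1 hdet
  rcases hpm with h1 | h1
  · left
    ext i j
    fin_cases i <;> fin_cases j <;> simp [h01, h10, h11, h1]
  · right
    ext i j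
    fin_cases i <;> fin_cases j <;> simp [h01, h10, h11, h1]

theorem kr2_eq_one_iff (φ₁ φ₂ : K →+* K) (h : Matrix (Fin 2) (Fin 2) K) (hdet : h.det = 1) :
    kr2 φ₁ φ₂ h = 1 ↔ h = 1 ∨ h = -1 := by
  constructor
  · exact eq_one_or_neg_one_of_kr2 φ₁ φ₂ h hdet
  · rintro (rfl | rfl)
    · exact map_one _
    · exact kr2_neg_one φ₁ φ₂

theorem kr2_pow_eq_one_iff (φ₁ φ₂ : K →+* K) (g : Matrix (Fin 2) (Fin 2) K) (hdet : g.det = 1)
    (j : ℕ) : kr2 φ₁ φ₂ g ^ j = 1 ↔ g ^ j = 1 ∨ g ^ j = -1 := by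
  rw [← map_pow]
  exact kr2_eq_one_iff φ₁ φ₂ (g ^ j) (by rw [Matrix.det_pow, hdet, one_pow])

/-- the diagonal element `diag(t, t⁻¹)` -/
def dg (t : K) : Matrix (Fin 2) (Fin 2) K := Matrix.diagonal ![t, t⁻¹]

theorem det_dg (t : K) (ht : t ≠ 0) : (dg t).det = 1 := by
  rw [dg, Matrix.det_diagonal, Fin.prod_univ_two]
  simp [ht]

theorem dg_pow (t : K) (j : ℕ) : dg t ^ j = dg (t ^ j) := by
  rw [dg, dg, Matrix.diagonal_pow]
  congr 1
  funext i
  fin_cases i <;> simp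

theorem dg_eq_one_iff (s : K) : dg s = 1 ↔ s = 1 := by
  rw [dg, Matrix.diagonal_eq_one]
  constructor
  · intro h
    have := congrFun h 0
    simpa using this
  · rintro rfl
    funext i
    fin_cases i <;> simp

theorem dg_eq_neg_one_iff (s : K) : dg s = -1 ↔ s = -1 := by
  constructor
  · intro h
    have := congrFun (congrFun h 0) 0
    simpa [dg] using this
  · rintro rfl
    ext i j
    fin_cases i <;> fin_cases j <;> simp [dg, inv_neg]

/-- the order of `kr2 φ₁ φ₂ (diag(t, t⁻¹))`: trivial powers are those with `t ^ (2 j) = 1`. -/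
theorem kr2_dg_pow_eq_one_iff (φ₁ φ₂ : K →+* K) (t : K) (ht : t ≠ 0) (j : ℕ) :
    kr2 φ₁ φ₂ (dg t) ^ j = 1 ↔ orderOf t ∣ 2 * j := by
  rw [kr2_pow_eq_one_iff φ₁ φ₂ (dg t) (det_dg t ht), dg_pow, dg_eq_one_iff, dg_eq_neg_one_iff,
    orderOf_dvd_iff_pow_eq_one, mul_comm, pow_mul, pow_two, mul_self_eq_one_iff]

/-- a `2 × 2` matrix of determinant `1` squaring to `1` is `±1` when `2 ≠ 0`. -/
theorem eq_pm_one_of_sq (h2 : (2 : K) ≠ 0) (Z : Matrix (Fin 2) (Fin 2) K) (hdet : Z.det = 1)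
    (hsq : Z * Z = 1) : Z = 1 ∨ Z = -1 := by
  have e00 := congrFun (congrFun hsq 0) 0
  have e01 := congrFun (congrFun hsq 0) 1
  have e10 := congrFun (congrFun hsq 1) 0
  have e11 := congrFun (congrFun hsq 1) 1
  rw [Matrix.mul_apply, Fin.sum_univ_two] at e00 e01 e10 e11
  rw [Matrix.det_fin_two] at hdet
  simp only [Matrix.one_apply_eq] at e00 e11
  rw [Matrix.one_apply_ne (by decide)] at e01 e10
  have htr : Z 0 0 * (Z 0 0 + Z 1 1) = 2 := by linear_combination e00 + hdet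
  have htr0 : Z 0 0 + Z 1 1 ≠ 0 := by
    intro h0; rw [h0, mul_zero] at htr; exact h2 htr.symm
  have hb : Z 0 1 = 0 := by
    have : Z 0 1 * (Z 0 0 + Z 1 1) = 0 := by linear_combination e01
    rcases mul_eq_zero.1 this with h | h
    · exact h
    · exact absurd h htr0
  have hc : Z 1 0 = 0 := by
    have : Z 1 0 * (Z 0 0 + Z 1 1) = 0 := by linear_combination e10
    rcases mul_eq_zero.1 this with h | h
    · exact h
    · exact absurd h htr0
  rw [hb, hc] at e00 hdet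
  rw [mul_zero, add_zero] at e00
  rw [mul_zero, sub_zero] at hdet
  have had : Z 1 1 = Z 0 0 := by
    have h0 : Z 0 0 ≠ 0 := by
      intro h0; rw [h0, zero_mul] at e00; exact zero_ne_one e00
    exact mul_left_cancel₀ h0 (hdet.trans e00.symm)
  rcases mul_self_eq_one_iff.1 e00 with h1 | h1
  · left
    ext i j
    fin_cases i <;> fin_cases j <;> simp [hb, hc, had, h1]
  · right
    ext i j
    fin_cases i <;> fin_cases j <;> simp [hb, hc, had, h1]

end core

section arith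

/-- `N ∣ 2 j ↔ N / d ∣ j` in the two parity cases. -/
theorem dvd_two_mul_iff (p d N : ℕ) (hd : (p = 2 ∧ d = 1) ∨ (p ≠ 2 ∧ d = 2))
    (hodd : p = 2 → Odd N) (heven : p ≠ 2 → Even N) (j : ℕ) : N ∣ 2 * j ↔ N / d ∣ j := by
  rcases hd with ⟨hp, rfl⟩ | ⟨hp, rfl⟩
  · rw [Nat.div_one]
    have hN := hodd hp
    constructor
    · intro h
      exact (Nat.Coprime.dvd_of_dvd_mul_left (Nat.Coprime.symm (Nat.coprime_two_left.2 hN))) h
    · intro h
      exact Dvd.dvd.mul_left h 2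
  · obtain ⟨M, hM⟩ := heven hp
    have hM2 : N = 2 * M := by omega
    rw [hM2, Nat.mul_div_cancel_left M (by norm_num : 0 < 2)]
    exact Nat.mul_dvd_mul_iff_left (by norm_num : 0 < 2)

theorem odd_pow_of_ne_two (p : ℕ) [hp : Fact p.Prime] (h2 : p ≠ 2) (k : ℕ) : Odd (p ^ k) :=
  (hp.out.odd_of_ne_two h2).pow

theorem even_two_pow (k : ℕ) (hk : 1 ≤ k) : Even (2 ^ k) :=
  (Nat.even_pow.2 ⟨even_two, by omega⟩)

end arith

section LB

variable {E : Type u} [Field E] [Fintype E] (p : ℕ) [Fact p.Prime] [CharP E p] (k : ℕ)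

/-- an element of `E` of any order dividing `|E| - 1` -/
theorem exists_orderOf_eq (n : ℕ) (hn : n ∣ Fintype.card E - 1) : ∃ t : E, t ≠ 0 ∧ orderOf t = n := by
  obtain ⟨a, ha⟩ := IsCyclic.exists_ofOrder_eq_natCard (α := Eˣ)
  rw [Nat.card_units, Nat.card_eq_fintype_card] at ha
  have hpos : 0 < Fintype.card E - 1 := by
    have := Fintype.one_lt_card (α := E)
    omega
  obtain ⟨m, hm⟩ := hn
  have hm0 : m ≠ 0 := by
    rintro rfl
    rw [mul_zero] at hm
    omega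
  have hn0 : n ≠ 0 := by
    rintro rfl
    rw [zero_mul] at hm
    omega
  refine ⟨((a ^ m : Eˣ) : E), Units.ne_zero _, ?_⟩
  rw [orderOf_units, orderOf_pow_of_dvd hm0 (by rw [ha, hm]; exact Dvd.intro_left n rfl), ha, hm]
  exact Nat.mul_div_cancel n (Nat.pos_of_ne_zero hm0)

theorem lb2_split (hk : 1 ≤ k) (hcard : Fintype.card E = p ^ (2 * k)) (d : ℕ)
    (hd : (p = 2 ∧ d = 1) ∨ (p ≠ 2 ∧ d = 2)) :
    ∃ g : Matrix (Fin 2) (Fin 2) E, g.det = 1 ∧
      orderOf (kr2 (RingHom.id E) (iterateFrobenius E p k) g) = ((p ^ k) ^ 2 - 1) / d := by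
  have hq2 : Fintype.card E = (p ^ k) ^ 2 := by rw [hcard, ← pow_mul, mul_comm]
  obtain ⟨t, ht0, hto⟩ := exists_orderOf_eq (E := E) ((p ^ k) ^ 2 - 1) (by rw [hq2])
  refine ⟨dg t, det_dg t ht0, ?_⟩
  apply orderOf_eq_of_pow_iff
  intro j
  rw [kr2_dg_pow_eq_one_iff _ _ t ht0, hto]
  apply dvd_two_mul_iff p d _ hd
  · rintro rfl
    have he : Even ((2 ^ k) ^ 2) := Nat.even_pow.2 ⟨even_two_pow k hk, by norm_num⟩
    have hpos : 0 < (2 ^ k) ^ 2 := by positivity
    exact Nat.Even.sub_odd hpos he odd_one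
  · intro hp2
    have ho : Odd ((p ^ k) ^ 2) := (odd_pow_of_ne_two p hp2 k).pow
    exact Nat.Odd.sub_odd ho odd_one

theorem lb2_nonsplit (hk : 1 ≤ k) (hcard : Fintype.card E = p ^ (2 * k)) (d : ℕ)
    (hd : (p = 2 ∧ d = 1) ∨ (p ≠ 2 ∧ d = 2)) :
    ∃ g : Matrix (Fin 2) (Fin 2) E, g.det = 1 ∧
      orderOf (kr2 (RingHom.id E) (iterateFrobenius E p k) g) = ((p ^ k) ^ 2 + 1) / d := by
  have hq2 : Fintype.card E = (p ^ k) ^ 2 := by rw [hcard, ← pow_mul, mul_comm]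
  have hq1 : 1 < (p ^ k) ^ 2 := by rw [← hq2]; exact Fintype.one_lt_card
  have hmn : mnum (Fintype.card E) 2 = (p ^ k) ^ 2 + 1 := by
    rw [mnum, hq2]
    have : ((p ^ k) ^ 2) ^ 2 - 1 = ((p ^ k) ^ 2 + 1) * ((p ^ k) ^ 2 - 1) := by
      have h1 : 1 ≤ (p ^ k) ^ 2 := by omega
      zify [h1, Nat.one_le_pow 2 _ (by omega : 0 < (p ^ k) ^ 2)]
      ring
    rw [this]
    exact Nat.mul_div_cancel _ (by omega)
  obtain ⟨D, hDdet, hD⟩ := exists_singer (F := E) p 2 (by norm_num) ((p ^ k) ^ 2 + 1)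
    (by rw [hmn])
  refine ⟨D, hDdet, ?_⟩
  apply orderOf_eq_of_pow_iff
  intro j
  rw [kr2_pow_eq_one_iff _ _ D hDdet]
  rcases hd with ⟨hp, rfl⟩ | ⟨hp, rfl⟩
  · -- characteristic two: `-1 = 1`
    subst hp
    have hneg : (-1 : Matrix (Fin 2) (Fin 2) E) = 1 := by
      have h2 : (2 : E) = 0 := by exact_mod_cast CharP.cast_eq_zero E 2
      have h1 : (-1 : E) = 1 := by linear_combination (-1 : E) * h2
      ext i j
      rw [Matrix.neg_apply]
      by_cases hij : i = j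
      · subst hij; rw [Matrix.one_apply_eq]; exact h1
      · rw [Matrix.one_apply_ne hij, neg_zero]
    rw [hneg, or_self, Nat.div_one]
    exact hD j
  · have ho : Odd ((p ^ k) ^ 2) := (odd_pow_of_ne_two p hp k).pow
    obtain ⟨M, hM⟩ : Even ((p ^ k) ^ 2 + 1) := Odd.add_odd ho odd_one
    have hM2 : (p ^ k) ^ 2 + 1 = 2 * M := by omega
    rw [hM2, Nat.mul_div_cancel_left M (by norm_num : 0 < 2)]
    rw [hM2] at hD
    have h2E : (2 : E) ≠ 0 := by
      intro h2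
      have : ((2 : ℕ) : E) = 0 := by exact_mod_cast h2
      rw [CharP.cast_eq_zero_iff E p] at this
      have := (Nat.prime_dvd_prime_iff_eq (Fact.out : p.Prime) Nat.prime_two).1 this
      exact hp this
    constructor
    · intro h
      have h2j : D ^ (2 * j) = 1 := by
        rw [mul_comm, pow_mul, pow_two]
        rcases h with h | h <;> rw [h] <;> simp
      exact (Nat.mul_dvd_mul_iff_left (by norm_num : 0 < 2)).1 ((hD _).1 h2j)
    · rintro ⟨m, rfl⟩
      have hZ : (D ^ M) * (D ^ M) = 1 := by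
        rw [← pow_add, ← two_mul]; exact (hD _).2 dvd_rfl
      have hZdet : (D ^ M).det = 1 := by rw [Matrix.det_pow, hDdet, one_pow]
      rcases eq_pm_one_of_sq h2E (D ^ M) hZdet hZ with h1 | h1
      · left
        rw [pow_mul, h1, one_pow]
      · rw [pow_mul, h1]
        rcases neg_one_pow_eq_or (Matrix (Fin 2) (Fin 2) E) m with h | h
        · left; exact h
        · right; exact h

end LB

end Cfsg.Agent.Lib.Helper64_S3466_LB2
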