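import Mathlib
import Cfsg.Agent.Lib.Helper40_P4Defs
import Cfsg.Agent.Lib.Helper45_S3590_PKS
import Cfsg.Agent.Lib.Helper40_ProjOrd3
import Cfsg.Agent.Lib.Helper40_SpExistMatrix
import Cfsg.Agent.Lib.Helper64_S3466_LB2

/-!
# S3466 package LBA (architect helper40): diagonal elements of `SL₂(q²)` with a fixed vector in
`W ⊗ W^(q)`, of orders `(q ∓ 1) / d`, and the transvection in characteristic two.
-/

set_option autoImplicit false
set_option linter.unusedVariables false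

open Cfsg.Agent.Lib.Helper40_P4Defs Cfsg.Agent.Lib.Helper40_SpProj Cfsg.Agent.Lib.Helper40_ProjOrd
open Cfsg.Agent.Lib.Helper64_S3466_LB2
open Polynomial
open scoped Kronecker Matrix

universe u

namespace Cfsg.Agent.Lib.Helper64_S3466_LBA

section core

variable {K : Type*} [Field K]

/-- `kr2 φ₁ φ₂ (diag(t, t⁻¹))` is the diagonal matrix with entries `φ₁(t^{±1}) φ₂(t^{±1})`. -/
theorem kr2_dg (φ₁ φ₂ : K →+* K) (t : K) :
    kr2 φ₁ φ₂ (dg t) =
      Matrix.diagonal (fun mn : Fin 2 × Fin 2 => ![φ₁ t, φ₁ t⁻¹] mn.1 * ![φ₂ t, φ₂ t⁻¹] mn.2) := by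
  have hmap : ∀ φ : K →+* K, φ.mapMatrix (dg t) = Matrix.diagonal ![φ t, φ t⁻¹] := by
    intro φ
    rw [dg, RingHom.mapMatrix_apply, Matrix.diagonal_map (map_zero φ)]
    congr 1
    funext i
    fin_cases i <;> rfl
  rw [kr2_apply, hmap, hmap, Matrix.diagonal_kronecker_diagonal]

/-- a basis vector is fixed by `kr2 φ₁ φ₂ (diag(t, t⁻¹))` when its weight is trivial -/
theorem kr2_dg_mulVec_single (φ₁ φ₂ : K →+* K) (t : K) (mn : Fin 2 × Fin 2)
    (h : ![φ₁ t, φ₁ t⁻¹] mn.1 * ![φ₂ t, φ₂ t⁻¹] mn.2 = 1) :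
    kr2 φ₁ φ₂ (dg t) *ᵥ (Pi.single mn 1) = Pi.single mn 1 := by
  rw [kr2_dg, Matrix.diagonal_mulVec_single, h, one_mul]

theorem single_ne_zero (mn : Fin 2 × Fin 2) : (Pi.single mn (1 : K) : Fin 2 × Fin 2 → K) ≠ 0 := by
  intro h
  have := congrFun h mn
  rw [Pi.single_eq_same] at this
  exact one_ne_zero this

end core

section LB

variable {E : Type u} [Field E] [Fintype E] (p : ℕ) [Fact p.Prime] [CharP E p] (k : ℕ)

theorem sq_sub_one_factor (q : ℕ) (hq : 1 ≤ q) : q ^ 2 - 1 = (q - 1) * (q + 1) := by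
  have h1 : 1 ≤ q ^ 2 := Nat.one_le_pow 2 q (by omega)
  zify [h1, hq]
  ring

/-- `g = diag(t, t⁻¹)`, `t` of order `q - 1`: `kr2 g = diag(t², 1, 1, t⁻²)` -/
theorem lba_minus (hk : 1 ≤ k) (hcard : Fintype.card E = p ^ (2 * k)) (d : ℕ)
    (hd : (p = 2 ∧ d = 1) ∨ (p ≠ 2 ∧ d = 2)) :
    ∃ g : Matrix (Fin 2) (Fin 2) E, g.det = 1 ∧
      orderOf (kr2 (RingHom.id E) (iterateFrobenius E p k) g) = (p ^ k - 1) / d ∧
      ∃ v : Fin 2 × Fin 2 → E, v ≠ 0 ∧ kr2 (RingHom.id E) (iterateFrobenius E p k) g *ᵥ v = v := by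
  have hq2 : Fintype.card E = (p ^ k) ^ 2 := by rw [hcard, ← pow_mul, mul_comm]
  have hq1 : 1 ≤ p ^ k := Nat.one_le_pow k p (Fact.out : p.Prime).pos
  obtain ⟨t, ht0, hto⟩ := exists_orderOf_eq (E := E) (p ^ k - 1)
    (by rw [hq2, sq_sub_one_factor _ hq1]; exact Dvd.intro _ rfl)
  refine ⟨dg t, det_dg t ht0, ?_, Pi.single (0, 1) 1, single_ne_zero _, ?_⟩
  · apply orderOf_eq_of_pow_iff
    intro j
    rw [kr2_dg_pow_eq_one_iff _ _ t ht0, hto]
    apply dvd_two_mul_iff p d _ hd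
    · rintro rfl
      exact Nat.Even.sub_odd hq1 (even_two_pow k hk) odd_one
    · intro hp2
      exact Nat.Odd.sub_odd (odd_pow_of_ne_two p hp2 k) odd_one
  · apply kr2_dg_mulVec_single
    have htq : t ^ (p ^ k) = t := by
      have h1 : t ^ (p ^ k - 1) = 1 := by rw [← hto]; exact pow_orderOf_eq_one t
      calc t ^ (p ^ k) = t ^ (p ^ k - 1 + 1) := by rw [Nat.sub_add_cancel hq1]
        _ = t := by rw [pow_succ, h1, one_mul]
    show (RingHom.id E) t * (iterateFrobenius E p k) t⁻¹ = 1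
    rw [iterateFrobenius_def, RingHom.id_apply, inv_pow, htq]
    exact mul_inv_cancel₀ ht0

/-- `g = diag(t, t⁻¹)`, `t` of order `q + 1` (so `t^q = t⁻¹`): `kr2 g = diag(1, t², t⁻², 1)` -/
theorem lba_plus (hk : 1 ≤ k) (hcard : Fintype.card E = p ^ (2 * k)) (d : ℕ)
    (hd : (p = 2 ∧ d = 1) ∨ (p ≠ 2 ∧ d = 2)) :
    ∃ g : Matrix (Fin 2) (Fin 2) E, g.det = 1 ∧
      orderOf (kr2 (RingHom.id E) (iterateFrobenius E p k) g) = (p ^ k + 1) / d ∧
      ∃ v : Fin 2 × Fin 2 → E, v ≠ 0 ∧ kr2 (RingHom.id E) (iterateFrobenius E p k) g *ᵥ v = v := by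
  have hq2 : Fintype.card E = (p ^ k) ^ 2 := by rw [hcard, ← pow_mul, mul_comm]
  have hq1 : 1 ≤ p ^ k := Nat.one_le_pow k p (Fact.out : p.Prime).pos
  obtain ⟨t, ht0, hto⟩ := exists_orderOf_eq (E := E) (p ^ k + 1)
    (by rw [hq2, sq_sub_one_factor _ hq1]; exact Dvd.intro_left _ rfl)
  refine ⟨dg t, det_dg t ht0, ?_, Pi.single (0, 0) 1, single_ne_zero _, ?_⟩
  · apply orderOf_eq_of_pow_iff
    intro j
    rw [kr2_dg_pow_eq_one_iff _ _ t ht0, hto]
    apply dvd_two_mul_iff p d _ hd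
    · rintro rfl
      exact Even.add_odd (even_two_pow k hk) odd_one
    · intro hp2
      exact Odd.add_odd (odd_pow_of_ne_two p hp2 k) odd_one
  · apply kr2_dg_mulVec_single
    have h1 : t ^ (p ^ k + 1) = 1 := by rw [← hto]; exact pow_orderOf_eq_one t
    show (RingHom.id E) t * (iterateFrobenius E p k) t = 1
    rw [iterateFrobenius_def, RingHom.id_apply, ← pow_succ', h1]

/-- `p = 2`, `g = !![1, 1; 0, 1]` -/
theorem lba_four [CharP E 2] [Fact (Nat.Prime 2)] :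
    ∃ g : Matrix (Fin 2) (Fin 2) E, g.det = 1 ∧
      orderOf (kr2 (RingHom.id E) (iterateFrobenius E 2 k) g) = 2 ∧
      1 + kr2 (RingHom.id E) (iterateFrobenius E 2 k) g ≠ 0 := by
  have h2 : (2 : E) = 0 := by exact_mod_cast CharP.cast_eq_zero E 2
  refine ⟨!![1, 1; 0, 1], by simp [Matrix.det_fin_two], ?_, ?_⟩
  · have hent : kr2 (RingHom.id E) (iterateFrobenius E 2 k) !![1, 1; 0, 1] (0, 0) (1, 1) = 1 := by
      rw [kr2_apply, Matrix.kronecker_apply]
      simp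
    apply orderOf_eq_prime
    · rw [← map_pow]
      have : (!![1, 1; 0, 1] : Matrix (Fin 2) (Fin 2) E) ^ 2 = 1 := by
        rw [pow_two]
        ext i j
        fin_cases i <;> fin_cases j <;> simp [Matrix.mul_apply, Fin.sum_univ_two]
        linear_combination h2
      rw [this, map_one]
    · intro h
      rw [h, Matrix.one_apply_ne (by decide)] at hent
      exact zero_ne_one hent
  · intro h
    have := congrFun (congrFun h (0, 0)) (1, 1)
    rw [Matrix.add_apply, Matrix.one_apply_ne (by decide), zero_add, kr2_apply,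
      Matrix.kronecker_apply] at this
    simp at this

end LB

end Cfsg.Agent.Lib.Helper64_S3466_LBA
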