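import Mathlib
import Cfsg.Agent.Lib.Helper40_P4Defs

/-!
# S3466 package EIG (architect helper40; helper2): toolkit for `EigSys`
(complete orthogonal idempotents + eigenvalues)
-/

set_option autoImplicit false

open Cfsg.Agent.Lib.Helper40_P4Defs
open scoped Kronecker Matrix

namespace Cfsg.Agent.Lib.Helper2_S3466_EIG

variable {m n : Type*} [Fintype m] [DecidableEq m] [Fintype n] [DecidableEq n]

theorem EigSys.kron {K : Type*} [CommRing K] {A : Matrix m m K} {B : Matrix n n K} {S T : Type}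
    [Fintype S] [Fintype T]
    {c : S → K} {P : S → Matrix m m K} {d : T → K} {R : T → Matrix n n K}
    (hA : EigSys A c P) (hB : EigSys B d R) :
    EigSys (A ⊗ₖ B) (fun st : S × T => c st.1 * d st.2) (fun st : S × T => P st.1 ⊗ₖ R st.2) := by
  refine ⟨?_, ?_, ?_⟩
  · rw [Fintype.sum_prod_type]
    have h1 : ∀ s : S, ∑ t : T, P s ⊗ₖ R t = P s ⊗ₖ (1 : Matrix n n K) := by
      intro s
      rw [← hB.sum_eq]
      ext ⟨i, k⟩ ⟨j, l⟩
      simp only [Matrix.sum_apply, Matrix.kroneckerMap_apply, Finset.mul_sum]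
    simp only [h1]
    rw [← Matrix.one_kronecker_one, ← hA.sum_eq]
    ext ⟨i, k⟩ ⟨j, l⟩
    simp only [Matrix.sum_apply, Matrix.kroneckerMap_apply, Finset.sum_mul]
  · rintro ⟨s, t⟩ ⟨s', t'⟩ hne
    show (P s ⊗ₖ R t) * (P s' ⊗ₖ R t') = 0
    rw [← Matrix.mul_kronecker_mul]
    by_cases hs : s = s'
    · have ht : t ≠ t' := by
        rintro rfl
        exact hne (by rw [hs])
      rw [hB.orth t t' ht, Matrix.kronecker_zero]
    · rw [hA.orth s s' hs, Matrix.zero_kronecker]
  · rintro ⟨s, t⟩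
    show (A ⊗ₖ B) * (P s ⊗ₖ R t) = (c s * d t) • (P s ⊗ₖ R t)
    rw [← Matrix.mul_kronecker_mul, hA.eig, hB.eig, Matrix.smul_kronecker, Matrix.kronecker_smul,
      smul_smul]

theorem EigSys.map {K K' : Type*} [CommRing K] [CommRing K'] (φ : K →+* K') {C : Matrix n n K}
    {S : Type} [Fintype S] {c : S → K} {P : S → Matrix n n K} (h : EigSys C c P) :
    EigSys (φ.mapMatrix C) (fun s => φ (c s)) (fun s => φ.mapMatrix (P s)) := by
  refine ⟨?_, ?_, ?_⟩
  · rw [← map_sum, h.sum_eq, map_one]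
  · intro s u hsu
    rw [← map_mul, h.orth s u hsu, map_zero]
  · intro s
    rw [← map_mul, h.eig s]
    ext i j
    simp [RingHom.mapMatrix_apply, Matrix.map_apply, Matrix.smul_apply]

theorem EigSys.pow {K : Type*} [CommRing K] {C : Matrix n n K} {S : Type} [Fintype S]
    {c : S → K} {P : S → Matrix n n K} (h : EigSys C c P) (j : ℕ) :
    EigSys (C ^ j) (fun s => c s ^ j) P := by
  refine ⟨h.sum_eq, h.orth, ?_⟩
  intro s
  induction j with
  | zero => simp
  | succ j ih =>
    rw [pow_succ, Matrix.mul_assoc, h.eig s, Matrix.mul_smul, ih, smul_smul, pow_succ, mul_comm]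

/-- if all eigenvalues are `1` the matrix is `1` -/
theorem EigSys.eq_one {K : Type*} [CommRing K] {C : Matrix n n K} {S : Type} [Fintype S]
    {c : S → K} {P : S → Matrix n n K} (h : EigSys C c P) (hc : ∀ s, c s = 1) : C = 1 := by
  calc C = C * ∑ s, P s := by rw [h.sum_eq, Matrix.mul_one]
    _ = ∑ s, C * P s := by rw [Finset.mul_sum]
    _ = ∑ s, P s := by
        apply Finset.sum_congr rfl
        intro s _
        rw [h.eig s, hc s, one_smul]
    _ = 1 := h.sum_eq

/-- conversely, on a nonzero idempotent the eigenvalue of `1` is `1` -/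
theorem EigSys.eig_eq_one {K : Type*} [Field K] {C : Matrix n n K} {S : Type} [Fintype S]
    {c : S → K} {P : S → Matrix n n K} (h : EigSys C c P) (hC : C = 1) (s : S) (hs : P s ≠ 0) :
    c s = 1 := by
  have h1 := h.eig s
  rw [hC, Matrix.one_mul] at h1
  have h2 : (1 - c s) • P s = 0 := by
    rw [sub_smul, one_smul, ← h1, sub_self]
  rcases smul_eq_zero.1 h2 with h3 | h3
  · exact (sub_eq_zero.1 h3).symm
  · exact (hs h3).elim

/-- the idempotents also absorb `C` from the right -/
theorem EigSys.mul_eig {K : Type*} [CommRing K] {C : Matrix n n K} {S : Type} [Fintype S]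
    {c : S → K} {P : S → Matrix n n K} (h : EigSys C c P) (s : S) : P s * C = c s • P s := by
  classical
  have hC : C = ∑ u, c u • P u := by
    calc C = C * ∑ u, P u := by rw [h.sum_eq, Matrix.mul_one]
      _ = ∑ u, C * P u := by rw [Finset.mul_sum]
      _ = ∑ u, c u • P u := Finset.sum_congr rfl (fun u _ => h.eig u)
  have hidem : P s * P s = P s := by
    calc P s * P s = P s * ∑ u, P u := by
          rw [Finset.mul_sum, Finset.sum_eq_single s]
          · intro u _ hu
            exact h.orth s u (Ne.symm hu)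
          · intro hs
            exact (hs (Finset.mem_univ s)).elim
      _ = P s := by rw [h.sum_eq, Matrix.mul_one]
  conv_lhs => rw [hC]
  rw [Finset.mul_sum, Finset.sum_eq_single s]
  · rw [Matrix.mul_smul, hidem]
  · intro u _ hu
    rw [Matrix.mul_smul, h.orth s u (Ne.symm hu), smul_zero]
  · intro hs
    exact (hs (Finset.mem_univ s)).elim

/-- a nonzero fixed vector forces an eigenvalue `1` -/
theorem EigSys.fixed {K : Type*} [Field K] {C : Matrix n n K} {S : Type} [Fintype S]
    {c : S → K} {P : S → Matrix n n K} (h : EigSys C c P) (v : n → K) (hv : v ≠ 0)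
    (hfix : C *ᵥ v = v) : ∃ s, c s = 1 := by
  by_contra hcon
  push Not at hcon
  apply hv
  have h1 : v = ∑ s, P s *ᵥ v := by
    rw [← Matrix.sum_mulVec, h.sum_eq, Matrix.one_mulVec]
  rw [h1]
  apply Finset.sum_eq_zero
  intro s _
  have h2 : P s *ᵥ v = c s • (P s *ᵥ v) := by
    conv_lhs => rw [← hfix]
    rw [Matrix.mulVec_mulVec, EigSys.mul_eig h s, Matrix.smul_mulVec]
  have h3 : (1 - c s) • (P s *ᵥ v) = 0 := by
    rw [sub_smul, one_smul, ← h2, sub_self]
  rcases smul_eq_zero.1 h3 with h4 | h4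
  · exact (hcon s (sub_eq_zero.1 h4).symm).elim
  · exact h4

/-- a `2 × 2` matrix killed by `(X - t)(X - u)`, `t ≠ u` -/
theorem EigSys.of_quadratic {K : Type*} [Field K] (g : Matrix (Fin 2) (Fin 2) K) (t u : K)
    (htu : t ≠ u) (h : (g - t • 1) * (g - u • 1) = 0) :
    EigSys g ![t, u] ![(t - u)⁻¹ • (g - u • 1), (u - t)⁻¹ • (g - t • 1)] := by
  have htu' : t - u ≠ 0 := sub_ne_zero.2 htu
  have hut' : u - t ≠ 0 := sub_ne_zero.2 (Ne.symm htu)
  have hcomm : (g - u • (1 : Matrix (Fin 2) (Fin 2) K)) * (g - t • 1) = 0 := by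
    have : (g - u • (1 : Matrix (Fin 2) (Fin 2) K)) * (g - t • 1) = (g - t • 1) * (g - u • 1) := by
      simp only [Matrix.sub_mul, Matrix.mul_sub, Matrix.smul_mul, Matrix.mul_smul, Matrix.one_mul,
        Matrix.mul_one, smul_sub, smul_smul]
      rw [mul_comm u t]
      abel
    rw [this, h]
  have hgt : g * (g - u • (1 : Matrix (Fin 2) (Fin 2) K)) = t • (g - u • 1) := by
    have : g * (g - u • (1 : Matrix (Fin 2) (Fin 2) K)) - t • (g - u • 1) =
        (g - t • 1) * (g - u • 1) := by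
      simp only [Matrix.sub_mul, Matrix.smul_mul, Matrix.one_mul]
    rw [← sub_eq_zero, this, h]
  have hgu : g * (g - t • (1 : Matrix (Fin 2) (Fin 2) K)) = u • (g - t • 1) := by
    have : g * (g - t • (1 : Matrix (Fin 2) (Fin 2) K)) - u • (g - t • 1) =
        (g - u • 1) * (g - t • 1) := by
      simp only [Matrix.sub_mul, Matrix.smul_mul, Matrix.one_mul]
    rw [← sub_eq_zero, this, hcomm]
  refine ⟨?_, ?_, ?_⟩
  · rw [Fin.sum_univ_two]
    simp only [Matrix.cons_val_zero, Matrix.cons_val_one]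
    have h1 : (u - t)⁻¹ = - (t - u)⁻¹ := by
      rw [← neg_sub t u, neg_inv]
    rw [h1, neg_smul, ← sub_eq_add_neg, ← smul_sub]
    have h2 : g - u • (1 : Matrix (Fin 2) (Fin 2) K) - (g - t • 1) = (t - u) • 1 := by
      rw [sub_smul]; abel
    rw [h2, smul_smul, inv_mul_cancel₀ htu', one_smul]
  · intro s s' hne
    fin_cases s <;> fin_cases s'
    · exact (hne rfl).elim
    · show ((t - u)⁻¹ • (g - u • (1 : Matrix (Fin 2) (Fin 2) K))) * ((u - t)⁻¹ • (g - t • 1)) = 0
      rw [Matrix.smul_mul, Matrix.mul_smul, hcomm, smul_zero, smul_zero]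
    · show ((u - t)⁻¹ • (g - t • (1 : Matrix (Fin 2) (Fin 2) K))) * ((t - u)⁻¹ • (g - u • 1)) = 0
      rw [Matrix.smul_mul, Matrix.mul_smul, h, smul_zero, smul_zero]
    · exact (hne rfl).elim
  · intro s
    fin_cases s
    · show g * ((t - u)⁻¹ • (g - u • (1 : Matrix (Fin 2) (Fin 2) K))) =
        t • ((t - u)⁻¹ • (g - u • (1 : Matrix (Fin 2) (Fin 2) K)))
      rw [Matrix.mul_smul, hgt, smul_comm]
    · show g * ((u - t)⁻¹ • (g - t • (1 : Matrix (Fin 2) (Fin 2) K))) =
        u • ((u - t)⁻¹ • (g - t • (1 : Matrix (Fin 2) (Fin 2) K)))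
      rw [Matrix.mul_smul, hgu, smul_comm]

/-- for `det g = 1`, `t u = 1`, `t ≠ u`, both idempotents of `of_quadratic` are nonzero -/
theorem EigSys.of_quadratic_ne_zero {K : Type*} [Field K] (g : Matrix (Fin 2) (Fin 2) K) (t u : K)
    (htu : t ≠ u) (hdet : g.det = 1) (htu1 : t * u = 1) (h : (g - t • 1) * (g - u • 1) = 0) :
    (t - u)⁻¹ • (g - u • 1) ≠ 0 ∧ (u - t)⁻¹ • (g - t • 1) ≠ 0 := by
  have htu' : t - u ≠ 0 := sub_ne_zero.2 htu
  have hut' : u - t ≠ 0 := sub_ne_zero.2 (Ne.symm htu)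
  have key : ∀ x y : K, x * y = 1 → x ≠ y → g ≠ y • (1 : Matrix (Fin 2) (Fin 2) K) := by
    intro x y hxy hne hg
    apply hne
    have h1 : g.det = y * y := by
      rw [hg, Matrix.det_smul, Matrix.det_one, Fintype.card_fin]
      ring
    rw [hdet] at h1
    have hy : y ≠ 0 := by
      rintro rfl
      simp at h1
    have : (x - y) * y = 0 := by
      rw [sub_mul, hxy, ← h1, sub_self]
    rcases mul_eq_zero.1 this with h2 | h2
    · exact sub_eq_zero.1 h2
    · exact (hy h2).elim
  constructor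
  · intro h0
    rcases smul_eq_zero.1 h0 with h1 | h1
    · exact inv_ne_zero htu' h1
    · exact key t u htu1 htu (sub_eq_zero.1 h1)
  · intro h0
    rcases smul_eq_zero.1 h0 with h1 | h1
    · exact inv_ne_zero hut' h1
    · exact key u t (by rw [mul_comm]; exact htu1) (Ne.symm htu) (sub_eq_zero.1 h1)

/-- Kronecker product of nonzero matrices over a field is nonzero -/
theorem kronecker_ne_zero {K : Type*} [Field K] {A : Matrix m m K} {B : Matrix n n K}
    (hA : A ≠ 0) (hB : B ≠ 0) : A ⊗ₖ B ≠ 0 := by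
  obtain ⟨i, j, hij⟩ : ∃ i j, A i j ≠ 0 := by
    by_contra hcon
    push Not at hcon
    exact hA (by ext i j; exact hcon i j)
  obtain ⟨k, l, hkl⟩ : ∃ k l, B k l ≠ 0 := by
    by_contra hcon
    push Not at hcon
    exact hB (by ext i j; exact hcon i j)
  intro h0
  have := congrFun (congrFun h0 (i, k)) (j, l)
  rw [Matrix.kroneckerMap_apply] at this
  exact mul_ne_zero hij hkl this

/-- if the norm sum of a matrix of finite order is nonzero, the matrix has a nonzero fixed vector
(a nonzero column of the norm sum) -/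
theorem exists_fixed_of_sum_ne_zero {K : Type*} [Field K] (C : Matrix n n K) (N : ℕ)
    (hN : C ^ N = 1) (hs : ∑ i ∈ Finset.range N, C ^ i ≠ 0) :
    ∃ v : n → K, v ≠ 0 ∧ C *ᵥ v = v := by
  set S : Matrix n n K := ∑ i ∈ Finset.range N, C ^ i with hS
  have hCS : C * S = S := by
    have h1 : C * S = ∑ i ∈ Finset.range N, C ^ (i + 1) := by
      rw [hS, Finset.mul_sum]
      apply Finset.sum_congr rfl
      intro i _
      rw [pow_succ']
    have h2 : ∑ i ∈ Finset.range N, C ^ (i + 1) + 1 = S + C ^ N := by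
      have e1 := Finset.sum_range_succ' (fun i => C ^ i) N
      have e2 := Finset.sum_range_succ (fun i => C ^ i) N
      rw [e1, pow_zero] at e2
      exact e2
    rw [hN] at h2
    rw [h1]
    exact add_right_cancel h2
  obtain ⟨i, j, hij⟩ : ∃ i j, S i j ≠ 0 := by
    by_contra hcon
    push Not at hcon
    exact hs (by ext i j; exact hcon i j)
  refine ⟨fun a => S a j, ?_, ?_⟩
  · intro h0
    exact hij (congrFun h0 i)
  · have : (fun a => S a j) = S *ᵥ (Pi.single j 1) := by
      funext a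
      simp
    rw [this, Matrix.mulVec_mulVec, hCS]

end Cfsg.Agent.Lib.Helper2_S3466_EIG
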