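import Mathlib
import Cfsg.Agent.Lib.Helper40_P4Defs

/-!
# S3466 package TRI (architect helper40; helper2): trichotomy for `SL₂` over a finite field
(unipotent up to sign / split semisimple / nonsplit semisimple over `AdjoinRoot`)
-/

set_option autoImplicit false

open Polynomial
open scoped Matrix

universe u

namespace Cfsg.Agent.Lib.Helper2_S3466_TRI

/-- Cayley-Hamilton for `2 × 2` matrices of determinant one -/
theorem cayley_two {K : Type*} [CommRing K] (g : Matrix (Fin 2) (Fin 2) K) (hdet : g.det = 1) :
    g * g - g.trace • g + 1 = 0 := by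
  rw [Matrix.det_fin_two] at hdet
  ext i j
  fin_cases i <;> fin_cases j <;>
    simp [Matrix.mul_apply, Fin.sum_univ_two, Matrix.trace_fin_two] <;>
    first | linear_combination (-1 : K) * hdet | linear_combination (0 : K) * hdet

/-- the factorisation of the characteristic polynomial on `g` -/
theorem quad_factor {K : Type*} [Field K] (g : Matrix (Fin 2) (Fin 2) K) (hdet : g.det = 1)
    (t : K) (ht0 : t ≠ 0) (hsum : t + t⁻¹ = g.trace) :
    (g - t • 1) * (g - t⁻¹ • 1) = 0 := by
  have h1 : (g - t • (1 : Matrix (Fin 2) (Fin 2) K)) * (g - t⁻¹ • 1) =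
      g * g - (t + t⁻¹) • g + (t * t⁻¹) • 1 := by
    simp only [Matrix.sub_mul, Matrix.mul_sub, Matrix.smul_mul, Matrix.mul_smul, Matrix.one_mul,
      Matrix.mul_one, smul_sub, smul_smul, add_smul]
    rw [mul_comm t⁻¹ t]
    abel
  rw [h1, hsum, mul_inv_cancel₀ ht0, one_smul]
  exact cayley_two g hdet

theorem sl2_trichotomy {E : Type u} [Field E] [Fintype E] (g : Matrix (Fin 2) (Fin 2) E)
    (hdet : g.det = 1) :
    (g - 1) ^ 2 = 0 ∨ (g + 1) ^ 2 = 0 ∨
    (∃ t : E, t ≠ 0 ∧ t * t ≠ 1 ∧ t ^ (Fintype.card E - 1) = 1 ∧ t + t⁻¹ = g.trace ∧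
      (g - t • 1) * (g - t⁻¹ • 1) = 0) ∨
    (∃ (E' : Type u) (_ : Field E') (_ : Algebra E E') (t : E'), t ≠ 0 ∧ t * t ≠ 1 ∧
      t ^ (Fintype.card E + 1) = 1 ∧ t + t⁻¹ = algebraMap E E' g.trace ∧
      ((algebraMap E E').mapMatrix g - t • 1) * ((algebraMap E E').mapMatrix g - t⁻¹ • 1) = 0) := by
  classical
  set τ : E := g.trace with hτ
  by_cases hroot : ∃ t : E, t * t - τ * t + 1 = 0
  · obtain ⟨t, ht⟩ := hroot
    have ht0 : t ≠ 0 := by
      rintro rfl
      simp at ht
    have hsum : t + t⁻¹ = τ := by
      field_simp
      linear_combination ht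
    have hprod := quad_factor g hdet t ht0 hsum
    by_cases h1 : t * t = 1
    · have h2 : (t - 1) * (t + 1) = 0 := by linear_combination h1
      rcases mul_eq_zero.1 h2 with h | h
      · left
        have ht1 : t = 1 := sub_eq_zero.1 h
        rw [ht1, inv_one, one_smul] at hprod
        rw [pow_two]
        exact hprod
      · right; left
        have ht1 : t = -1 := eq_neg_of_add_eq_zero_left h
        rw [ht1, inv_neg, inv_one, neg_smul, one_smul, sub_neg_eq_add] at hprod
        rw [pow_two]
        exact hprod
    · right; right; left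
      exact ⟨t, ht0, h1, FiniteField.pow_card_sub_one_eq_one t ht0, hsum, hprod⟩
  · right; right; right
    push Not at hroot
    set f : E[X] := X ^ 2 - C τ * X + 1 with hf
    have hfm : f.Monic := by
      have h1 : f = X ^ 2 + (- C τ * X + 1) := by rw [hf]; ring
      rw [h1]
      apply monic_X_pow_add
      refine lt_of_le_of_lt (degree_add_le _ _) ?_
      refine max_lt ?_ ?_
      · have : (- C τ * X : E[X]) = C (-τ) * X := by rw [C_neg]
        rw [this]
        refine lt_of_le_of_lt (degree_C_mul_X_le _) ?_
        norm_num
      · rw [degree_one]; norm_num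
    have hdeg : f.natDegree = 2 := by
      have h1 : f = X ^ 2 + (- C τ * X + 1) := by rw [hf]; ring
      rw [h1, natDegree_add_eq_left_of_degree_lt, natDegree_X_pow]
      rw [degree_X_pow]
      refine lt_of_le_of_lt (degree_add_le _ _) ?_
      refine max_lt ?_ ?_
      · have : (- C τ * X : E[X]) = C (-τ) * X := by rw [C_neg]
        rw [this]
        refine lt_of_le_of_lt (degree_C_mul_X_le _) ?_
        norm_num
      · rw [degree_one]; norm_num
    have hevalf : ∀ x : E, f.eval x = x * x - τ * x + 1 := by
      intro x
      rw [hf]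
      simp only [eval_add, eval_sub, eval_pow, eval_X, eval_mul, eval_C, eval_one]
      ring
    have hirr : Irreducible f := by
      apply Polynomial.irreducible_of_degree_le_three_of_not_isRoot
      · rw [hdeg]; simp
      · intro x hx
        rw [IsRoot.def, hevalf] at hx
        exact hroot x hx
    have : Fact (Irreducible f) := ⟨hirr⟩
    set t : AdjoinRoot f := AdjoinRoot.root f with ht
    have haeval : ∀ x : AdjoinRoot f, aeval x f = x * x - algebraMap E (AdjoinRoot f) τ * x + 1 := by
      intro x
      rw [show (aeval x) f = (aeval x) (X ^ 2 - C τ * X + 1 : E[X]) from congrArg _ hf]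
      simp only [map_add, map_sub, map_pow, aeval_X, map_mul, aeval_C, map_one]
      ring
    have htroot : t * t - algebraMap E (AdjoinRoot f) τ * t + 1 = 0 := by
      rw [← haeval, ht, AdjoinRoot.aeval_eq, AdjoinRoot.mk_self]
    have ht0 : t ≠ 0 := by
      intro h0
      rw [h0] at htroot
      simp at htroot
    have hsum : t + t⁻¹ = algebraMap E (AdjoinRoot f) τ := by
      field_simp
      linear_combination htroot
    have hinj : Function.Injective (algebraMap E (AdjoinRoot f)) := (algebraMap E (AdjoinRoot f)).injective
    have hnotin : ∀ e : E, t ≠ algebraMap E (AdjoinRoot f) e := by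
      intro e he
      apply hroot e
      apply hinj
      rw [map_add, map_sub, map_mul, map_mul, map_one, map_zero, ← he]
      exact htroot
    have ht1 : t * t ≠ 1 := by
      intro h1
      have h2 : (t - 1) * (t + 1) = 0 := by linear_combination h1
      rcases mul_eq_zero.1 h2 with h | h
      · apply hnotin 1
        rw [map_one]
        exact sub_eq_zero.1 h
      · apply hnotin (-1)
        rw [map_neg, map_one]
        exact eq_neg_of_add_eq_zero_left h
    refine ⟨AdjoinRoot f, inferInstance, inferInstance, t, ht0, ht1, ?_, hsum, ?_⟩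
    · -- the Frobenius conjugate of `t` is `t⁻¹`
      set q := Fintype.card E with hq
      have hfrob : aeval (t ^ q) f = 0 := by
        have h1 := FiniteField.expand_card f
        rw [← Polynomial.expand_aeval, h1, map_pow, haeval, htroot, zero_pow]
        exact Fintype.card_ne_zero
      rw [haeval] at hfrob
      have hfac : (t ^ q - t) * (t ^ q - t⁻¹) = 0 := by
        have : (t ^ q - t) * (t ^ q - t⁻¹) =
            t ^ q * t ^ q - (t + t⁻¹) * t ^ q + t * t⁻¹ := by ring
        rw [this, hsum, mul_inv_cancel₀ ht0]
        exact hfrob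
      rcases mul_eq_zero.1 hfac with h | h
      · exfalso
        -- `t` would lie in `E`
        have hprod : ∏ e : E, (X - C e) = (X ^ q - X : E[X]) := by
          have hmon : (X ^ q - X : E[X]).Monic := by
            apply monic_X_pow_sub
            rw [degree_X]
            exact_mod_cast Fintype.one_lt_card
          have hroots := FiniteField.roots_X_pow_card_sub_X E
          have hcard : Multiset.card (X ^ q - X : E[X]).roots = (X ^ q - X : E[X]).natDegree := by
            rw [hroots, FiniteField.X_pow_card_sub_X_natDegree_eq E Fintype.one_lt_card]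
            simp
          have := Polynomial.prod_multiset_X_sub_C_of_monic_of_roots_card_eq hmon hcard
          rw [hroots] at this
          rw [← this, Finset.prod_map_val]
        have h2 := congrArg (aeval t) hprod
        rw [map_prod] at h2
        simp only [map_sub, aeval_X, aeval_C, map_pow] at h2
        rw [h, Finset.prod_eq_zero_iff] at h2
        obtain ⟨e, _, he⟩ := h2
        exact hnotin e (sub_eq_zero.1 he)
      · rw [pow_succ, sub_eq_zero.1 h, inv_mul_cancel₀ ht0]
    · have htr : ((algebraMap E (AdjoinRoot f)).mapMatrix g).trace = algebraMap E (AdjoinRoot f) τ := by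
        rw [hτ, Matrix.trace_fin_two, Matrix.trace_fin_two]
        simp [RingHom.mapMatrix_apply]
      have hd : ((algebraMap E (AdjoinRoot f)).mapMatrix g).det = 1 := by
        rw [← RingHom.map_det, hdet, map_one]
      exact quad_factor _ hd t ht0 (by rw [htr]; exact hsum)

end Cfsg.Agent.Lib.Helper2_S3466_TRI
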