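import Mathlib
import Cfsg.Agent.Lib.Helper40_P4Defs
import Cfsg.Agent.Lib.Helper2_S3466_EIG
import Cfsg.Agent.Lib.Helper2_S3466_TRI

/-!
# S3466 package AN2 (architect helper40; helper2): the module `W ⊗ W^(q)` of `SL₂(q²)`
-/

set_option autoImplicit false

open Cfsg.Agent.Lib.Helper40_P4Defs Cfsg.Agent.Lib.Helper2_S3466_EIG Cfsg.Agent.Lib.Helper2_S3466_TRI
open scoped Kronecker Matrix

universe u

namespace Cfsg.Agent.Lib.Helper2_S3466_AN2

section general

variable {L : Type*} [Field L] (p : ℕ) [Fact p.Prime] [CharP L p] (k : ℕ)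

/-- the eigenvalues of `g ⊗ g^(Q)` for `g` with eigenvalues `t, t⁻¹` -/
def ev (t : L) (Q : ℕ) : Fin 2 × Fin 2 → L := fun st => ![t, t⁻¹] st.1 * (![t, t⁻¹] st.2) ^ Q

theorem eigsys_kr2 (h : Matrix (Fin 2) (Fin 2) L) (t : L) (ht0 : t ≠ 0) (ht1 : t * t ≠ 1)
    (hq : (h - t • 1) * (h - t⁻¹ • 1) = 0) :
    ∃ P : Fin 2 × Fin 2 → Matrix (Fin 2 × Fin 2) (Fin 2 × Fin 2) L,
      EigSys (kr2 (RingHom.id L) (iterateFrobenius L p k) h) (ev t (p ^ k)) P := by
  have hne : t ≠ t⁻¹ := by
    intro h1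
    apply ht1
    have h2 : t * t⁻¹ = 1 := mul_inv_cancel₀ ht0
    rw [← h1] at h2
    exact h2
  have h1 := EigSys.of_quadratic h t t⁻¹ hne hq
  have h2 := EigSys.map (iterateFrobenius L p k) h1
  have h3 := EigSys.kron h1 h2
  have e1 : kr2 (RingHom.id L) (iterateFrobenius L p k) h =
      h ⊗ₖ (iterateFrobenius L p k).mapMatrix h := by
    rw [kr2_apply, RingHom.mapMatrix_id]
    rfl
  have e2 : ev t (p ^ k) = fun st : Fin 2 × Fin 2 =>
      ![t, t⁻¹] st.1 * (fun s => iterateFrobenius L p k (![t, t⁻¹] s)) st.2 := by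
    funext st
    simp only [ev, iterateFrobenius_def]
  rw [e1, e2]
  exact ⟨_, h3⟩

theorem ev_pow (t : L) (Q N : ℕ) (hs2 : t ^ N * t ^ N = 1) (hsQ : (t ^ N) ^ Q = t ^ N)
    (st : Fin 2 × Fin 2) : ev t Q st ^ N = 1 := by
  have hinv : (t⁻¹) ^ N = t ^ N := by
    rw [inv_pow]
    exact inv_eq_of_mul_eq_one_left hs2
  have hall : ∀ i : Fin 2, (![t, t⁻¹] i) ^ N = t ^ N := by
    intro i
    fin_cases i
    · rfl
    · exact hinv
  have key : ∀ a b : L, a ^ N = t ^ N → b ^ N = t ^ N → (a * b ^ Q) ^ N = 1 := by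
    intro a b ha hb
    rw [mul_pow, ← pow_mul, mul_comm Q N, pow_mul, ha, hb, hsQ, hs2]
  exact key _ _ (hall st.1) (hall st.2)

theorem pow_eq_one_of (h : Matrix (Fin 2) (Fin 2) L) (t : L) (ht0 : t ≠ 0) (ht1 : t * t ≠ 1)
    (hq : (h - t • 1) * (h - t⁻¹ • 1) = 0) (N : ℕ) (hs2 : t ^ N * t ^ N = 1)
    (hsQ : (t ^ N) ^ (p ^ k) = t ^ N) :
    kr2 (RingHom.id L) (iterateFrobenius L p k) h ^ N = 1 := by
  obtain ⟨P, hP⟩ := eigsys_kr2 p k h t ht0 ht1 hq
  exact EigSys.eq_one (EigSys.pow hP N) (fun st => ev_pow t (p ^ k) N hs2 hsQ st)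

theorem fixed_cases (h : Matrix (Fin 2) (Fin 2) L) (t : L) (ht0 : t ≠ 0) (ht1 : t * t ≠ 1)
    (hq : (h - t • 1) * (h - t⁻¹ • 1) = 0) (v : Fin 2 × Fin 2 → L) (hv : v ≠ 0)
    (hfix : kr2 (RingHom.id L) (iterateFrobenius L p k) h *ᵥ v = v) :
    t ^ (p ^ k + 1) = 1 ∨ t ^ (p ^ k) = t := by
  obtain ⟨P, hP⟩ := eigsys_kr2 p k h t ht0 ht1 hq
  obtain ⟨⟨i, j⟩, hst⟩ := EigSys.fixed hP v hv hfix
  set Q := p ^ k with hQ
  have htQ0 : t ^ Q ≠ 0 := pow_ne_zero _ ht0
  fin_cases i <;> fin_cases j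
  · left
    have : t * t ^ Q = 1 := hst
    rw [pow_succ']
    exact this
  · right
    have : t * (t⁻¹) ^ Q = 1 := hst
    rw [inv_pow] at this
    field_simp at this
    exact this.symm
  · right
    have : t⁻¹ * t ^ Q = 1 := hst
    field_simp at this
    exact this
  · left
    have : t⁻¹ * (t⁻¹) ^ Q = 1 := hst
    rw [← pow_succ', inv_pow] at this
    exact inv_eq_one.1 this

end general

section transport

variable {E E' : Type*} [Field E] [Field E'] [Algebra E E'] (p : ℕ) [Fact p.Prime] [CharP E p]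
  [CharP E' p] (k : ℕ)

theorem map_kr2 (g : Matrix (Fin 2) (Fin 2) E) :
    (algebraMap E E').mapMatrix (kr2 (RingHom.id E) (iterateFrobenius E p k) g) =
      kr2 (RingHom.id E') (iterateFrobenius E' p k) ((algebraMap E E').mapMatrix g) := by
  ext ⟨i, j⟩ ⟨i', j'⟩
  simp [kr2_apply, Matrix.kroneckerMap_apply, RingHom.mapMatrix_apply, iterateFrobenius_def]

theorem mapMatrix_injective {ι : Type*} [Fintype ι] [DecidableEq ι] :
    Function.Injective ((algebraMap E E').mapMatrix : Matrix ι ι E → Matrix ι ι E') := by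
  intro A B h
  ext i j
  have := congrFun (congrFun h i) j
  simp only [RingHom.mapMatrix_apply, Matrix.map_apply] at this
  exact (algebraMap E E').injective this

end transport

section AN2

variable {E : Type u} [Field E] [Fintype E] (p : ℕ) [Fact p.Prime] [CharP E p] (k : ℕ)

theorem an2 (hk : 1 ≤ k) (hcard : Fintype.card E = p ^ (2 * k)) (d : ℕ)
    (hd : (p = 2 ∧ d = 1) ∨ (p ≠ 2 ∧ d = 2)) (g : Matrix (Fin 2) (Fin 2) E) (hdet : g.det = 1) :
    ((g - 1) ^ 2 = 0 ∨ (g + 1) ^ 2 = 0) ∨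
    ((kr2 (RingHom.id E) (iterateFrobenius E p k) g ^ (((p ^ k) ^ 2 - 1) / d) = 1 ∨
        kr2 (RingHom.id E) (iterateFrobenius E p k) g ^ (((p ^ k) ^ 2 + 1) / d) = 1) ∧
      ((∃ v : Fin 2 × Fin 2 → E, v ≠ 0 ∧
          kr2 (RingHom.id E) (iterateFrobenius E p k) g *ᵥ v = v) →
        kr2 (RingHom.id E) (iterateFrobenius E p k) g ^ (p ^ k - 1) = 1 ∨
          kr2 (RingHom.id E) (iterateFrobenius E p k) g ^ (p ^ k + 1) = 1)) := by
  have hp : p.Prime := Fact.out
  set Q := p ^ k with hQ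
  have hQ1 : 1 ≤ Q := Nat.one_le_pow _ _ hp.pos
  have hcard' : Fintype.card E = Q ^ 2 := by rw [hcard, hQ, ← pow_mul, mul_comm]
  -- arithmetic of `d`
  have hQodd : d = 2 → Odd Q := by
    intro hd2
    rcases hd with ⟨_, h1⟩ | ⟨hp2, _⟩
    · omega
    · exact (hp.odd_of_ne_two hp2).pow
  -- the half-power trick
  have half : ∀ {L : Type u} [Field L] (t : L) (M : ℕ), t ^ M = 1 → (d = 2 → 2 ∣ M) →
      t ^ (M / d) * t ^ (M / d) = 1 ∧ (t ^ (M / d)) ^ Q = t ^ (M / d) := by
    intro L _ t M htM h2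
    rcases hd with ⟨_, h1⟩ | ⟨_, h1⟩
    · subst h1
      rw [Nat.div_one, htM]
      simp
    · subst h1
      have hM : M / 2 + M / 2 = M := by
        have := Nat.div_mul_cancel (h2 rfl)
        omega
      have hs2 : t ^ (M / 2) * t ^ (M / 2) = 1 := by rw [← pow_add, hM, htM]
      refine ⟨hs2, ?_⟩
      obtain ⟨m, hm⟩ := hQodd rfl
      rw [hm, pow_succ, pow_mul, pow_two, hs2, one_pow, one_mul]
  rcases sl2_trichotomy g hdet with h1 | h1 | ⟨t, ht0, ht1, htq, -, hprod⟩ |
      ⟨E', instF, instA, t, ht0, ht1, htq, -, hprod⟩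
  · exact Or.inl (Or.inl h1)
  · exact Or.inl (Or.inr h1)
  · -- split case
    right
    rw [hcard'] at htq
    constructor
    · left
      have h2 : d = 2 → 2 ∣ Q ^ 2 - 1 := by
        intro hd2
        obtain ⟨m, hm⟩ := hQodd hd2
        rw [hm]
        refine ⟨2 * m * m + 2 * m, ?_⟩
        have : (2 * m + 1) ^ 2 = 2 * (2 * m * m + 2 * m) + 1 := by ring
        omega
      obtain ⟨hs2, hsQ⟩ := half t (Q ^ 2 - 1) htq h2
      exact pow_eq_one_of p k g t ht0 ht1 hprod _ hs2 hsQ
    · rintro ⟨v, hv, hfix⟩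
      rcases fixed_cases p k g t ht0 ht1 hprod v hv hfix with h | h
      · right
        refine pow_eq_one_of p k g t ht0 ht1 hprod _ ?_ ?_
        · rw [h, one_mul]
        · rw [h, one_pow]
      · left
        have h3 : t ^ (Q - 1) = 1 := by
          have : t ^ (Q - 1) * t = t := by
            rw [← pow_succ, Nat.sub_add_cancel hQ1]
            exact h
          have h4 : (t ^ (Q - 1) - 1) * t = 0 := by rw [sub_mul, this, one_mul, sub_self]
          rcases mul_eq_zero.1 h4 with h5 | h5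
          · exact sub_eq_zero.1 h5
          · exact (ht0 h5).elim
        refine pow_eq_one_of p k g t ht0 ht1 hprod _ ?_ ?_
        · rw [h3, one_mul]
        · rw [h3, one_pow]
  · -- nonsplit case
    right
    rw [hcard'] at htq
    have : CharP E' p := charP_of_injective_algebraMap (algebraMap E E').injective p
    constructor
    · right
      have h2 : d = 2 → 2 ∣ Q ^ 2 + 1 := by
        intro hd2
        obtain ⟨m, hm⟩ := hQodd hd2
        rw [hm]
        refine ⟨2 * m * m + 2 * m + 1, ?_⟩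
        ring
      obtain ⟨hs2, hsQ⟩ := half t (Q ^ 2 + 1) htq h2
      have h3 := pow_eq_one_of p k ((algebraMap E E').mapMatrix g) t ht0 ht1 hprod _ hs2 hsQ
      apply mapMatrix_injective (E := E) (E' := E')
      rw [map_pow, map_kr2, map_one]
      exact h3
    · rintro ⟨v, hv, hfix⟩
      exfalso
      have hv' : (fun i => algebraMap E E' (v i)) ≠ 0 := by
        intro h0
        apply hv
        funext i
        have := congrFun h0 i
        simp only [Pi.zero_apply] at this ⊢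
        exact (algebraMap E E').injective (by rw [this, map_zero])
      have hfix' : kr2 (RingHom.id E') (iterateFrobenius E' p k) ((algebraMap E E').mapMatrix g) *ᵥ
          (fun i => algebraMap E E' (v i)) = fun i => algebraMap E E' (v i) := by
        rw [← map_kr2]
        funext i
        have h4 := RingHom.map_mulVec (algebraMap E E')
          (kr2 (RingHom.id E) (iterateFrobenius E p k) g) v i
        rw [hfix] at h4
        rw [RingHom.mapMatrix_apply]
        exact h4.symm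
      rcases fixed_cases p k ((algebraMap E E').mapMatrix g) t ht0 ht1 hprod _ hv' hfix' with h | h
      · apply ht1
        have h' : t ^ (Q + 1) = 1 := h
        have h5 : Q ^ 2 + 1 = (Q + 1) * (Q - 1) + 2 := by
          obtain ⟨m, hm⟩ : ∃ m, Q = m + 1 := ⟨Q - 1, by omega⟩
          rw [hm, Nat.add_sub_cancel]
          ring
        rw [h5, pow_add, pow_mul, h', one_pow, one_mul, pow_two] at htq
        exact htq
      · apply ht1
        have h' : t ^ Q = t := h
        have h5 : t ^ (Q ^ 2 + 1) = t * t := by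
          rw [pow_succ, pow_two, pow_mul, h', h']
        rw [← h5]
        exact htq

/-- the unipotent case (`ε = ±1`): `M = (1+n) ⊗ (1+n')` with `n² = n'² = 0` -/
theorem an2_unip (g : Matrix (Fin 2) (Fin 2) E) (ε : E) (hε : ε = 1 ∨ ε = -1)
    (h : (g - ε • 1) ^ 2 = 0) :
    (kr2 (RingHom.id E) (iterateFrobenius E p k) g - 1) ^ 3 = 0 ∧
      kr2 (RingHom.id E) (iterateFrobenius E p k) g ^ p = 1 := by
  have hp : p.Prime := Fact.out
  set φ := iterateFrobenius E p k with hφ
  have hε2 : ε * ε = 1 := by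
    rcases hε with rfl | rfl <;> ring
  have hφε : φ ε = ε := by
    rcases hε with rfl | rfl
    · exact map_one φ
    · rw [map_neg, map_one]
  set n : Matrix (Fin 2) (Fin 2) E := g - ε • 1 with hn
  have hn2 : n * n = 0 := by rw [← pow_two]; exact h
  set n' : Matrix (Fin 2) (Fin 2) E := φ.mapMatrix n with hn'
  have hn'2 : n' * n' = 0 := by rw [hn', ← map_mul, hn2, map_zero]
  have hg : g = ε • 1 + n := by rw [hn]; abel
  have hφg : φ.mapMatrix g = ε • 1 + n' := by
    rw [hn', hn, map_sub]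
    have : φ.mapMatrix (ε • (1 : Matrix (Fin 2) (Fin 2) E)) = ε • 1 := by
      ext i j
      by_cases hij : i = j
      · subst hij; simp [RingHom.mapMatrix_apply, hφε]
      · simp [RingHom.mapMatrix_apply, Matrix.one_apply_ne hij]
    rw [this]; abel
  set a : Matrix (Fin 2 × Fin 2) (Fin 2 × Fin 2) E := n ⊗ₖ (1 : Matrix (Fin 2) (Fin 2) E) with ha
  set b : Matrix (Fin 2 × Fin 2) (Fin 2 × Fin 2) E := (1 : Matrix (Fin 2) (Fin 2) E) ⊗ₖ n' with hb
  have ha2 : a * a = 0 := by
    rw [ha, ← Matrix.mul_kronecker_mul, hn2, Matrix.zero_kronecker]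
  have hb2 : b * b = 0 := by
    rw [hb, ← Matrix.mul_kronecker_mul, hn'2, Matrix.kronecker_zero]
  have hab : a * b = n ⊗ₖ n' := by
    rw [ha, hb, ← Matrix.mul_kronecker_mul, Matrix.mul_one, Matrix.one_mul]
  have hba : b * a = n ⊗ₖ n' := by
    rw [ha, hb, ← Matrix.mul_kronecker_mul, Matrix.mul_one, Matrix.one_mul]
  have hcomm : a * b = b * a := by rw [hab, hba]
  set X : Matrix (Fin 2 × Fin 2) (Fin 2 × Fin 2) E := ε • (a + b) + a * b with hX
  have hM : kr2 (RingHom.id E) φ g = 1 + X := by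
    rw [kr2_apply, RingHom.mapMatrix_id, RingHom.id_apply, hφg]
    conv_lhs => rw [hg]
    rw [Matrix.add_kronecker, Matrix.kronecker_add, Matrix.kronecker_add, Matrix.smul_kronecker,
      Matrix.kronecker_smul, Matrix.smul_kronecker, Matrix.kronecker_smul, Matrix.one_kronecker_one,
      smul_smul, hε2, one_smul, hX, hab, ha, hb]
    rw [smul_add]
    abel
  have hX2 : X * X = (2 : E) • (a * b) := by
    have e1 : a * (a * b) = 0 := by rw [← Matrix.mul_assoc, ha2, Matrix.zero_mul]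
    have e2 : b * (a * b) = 0 := by rw [hcomm, ← Matrix.mul_assoc, hb2, Matrix.zero_mul]
    have e3 : a * b * a = 0 := by rw [hcomm, Matrix.mul_assoc, ha2, Matrix.mul_zero]
    have e4 : a * b * b = 0 := by rw [Matrix.mul_assoc, hb2, Matrix.mul_zero]
    have e5 : a * b * (a * b) = 0 := by rw [Matrix.mul_assoc, e2, Matrix.mul_zero]
    rw [hX]
    simp only [Matrix.add_mul, Matrix.mul_add, Matrix.smul_mul, Matrix.mul_smul, smul_add, smul_smul,
      ha2, hb2, e1, e2, e3, e4, e5, smul_zero, add_zero, zero_add, hε2, one_smul, ← hcomm]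
    rw [two_smul]
  have hX3 : X * X * X = 0 := by
    have e1 : a * b * a = 0 := by rw [hcomm, Matrix.mul_assoc, ha2, Matrix.mul_zero]
    have e4 : a * b * b = 0 := by rw [Matrix.mul_assoc, hb2, Matrix.mul_zero]
    have e2 : b * (a * b) = 0 := by rw [hcomm, ← Matrix.mul_assoc, hb2, Matrix.zero_mul]
    have e5 : a * b * (a * b) = 0 := by rw [Matrix.mul_assoc, e2, Matrix.mul_zero]
    rw [hX2, hX]
    simp only [Matrix.smul_mul, Matrix.mul_add, Matrix.mul_smul, e1, e4, e5, add_zero, smul_zero]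
  constructor
  · rw [hM, add_sub_cancel_left, pow_succ, pow_two]
    exact hX3
  · rw [hM]
    have hc : Commute (1 : Matrix (Fin 2 × Fin 2) (Fin 2 × Fin 2) E) X := Commute.one_left X
    rw [add_pow_char_of_commute p hc, one_pow]
    have hXp : X ^ p = 0 := by
      rcases hp.eq_two_or_odd' with h2 | hodd
      · rw [h2, pow_two, hX2]
        have : (2 : E) = 0 := by
          have := CharP.cast_eq_zero E p
          rw [h2] at this
          exact_mod_cast this
        rw [this, zero_smul]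
      · have h3 : 3 ≤ p := by
          obtain ⟨m, hm⟩ := hodd
          have := hp.two_le
          omega
        obtain ⟨m, rfl⟩ : ∃ m, p = 3 + m := ⟨p - 3, by omega⟩
        rw [pow_add, pow_succ, pow_two, hX3, Matrix.zero_mul]
    rw [hXp, add_zero]

end AN2

end Cfsg.Agent.Lib.Helper2_S3466_AN2
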