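import Mathlib
import Cfsg.Agent.Lib.Helper40_P4Defs
import Cfsg.Agent.Lib.Helper2_S3466_EIG
import Cfsg.Agent.Lib.Helper2_S3466_TRI
import Cfsg.Agent.Lib.Helper2_S3466_AN2

/-!
# S3466 package `CO` (helper70, for helper40): the Frobenius coset of case C

`Ψ = psiEnd _ φ` (entrywise `x ↦ x ^ q`), `cosetEnd φ g = mvEnd (kr2 id φ g) * Ψ`.
`co_comm`, `co_sq`, `co_kr`, `frob_frob`, `co_mul`, `co_good` are the package statements, verbatim.
-/

set_option autoImplicit false
set_option linter.unusedVariables false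

open Cfsg.Agent.Lib.Helper40_P4Defs
open Polynomial
open scoped Kronecker Matrix

universe u

namespace Cfsg.Agent.Lib.Helper70_S3466_CO

/-- in characteristic `p`, `∑_{j<p} x^j = (x-1)^(p-1)` -/
theorem geom_sum_char {E : Type*} [Field E] (p : ℕ) [Fact p.Prime] [CharP E p] {A : Type*} [Ring A]
    [Algebra E A] (N : A) :
    ∑ j ∈ Finset.range p, N ^ j = (N - 1) ^ (p - 1) := by
  have hpoly : (∑ j ∈ Finset.range p, (X : E[X]) ^ j) = (X - 1) ^ (p - 1) := by
    have h1 : (∑ j ∈ Finset.range p, (X : E[X]) ^ j) * (X - 1) = (X - 1) ^ (p - 1) * (X - 1) := by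
      rw [geom_sum_mul, ← pow_succ, Nat.sub_add_cancel (Fact.out : p.Prime).one_le, sub_pow_char,
        one_pow]
    have hne : (X - 1 : E[X]) ≠ 0 := by
      have := X_sub_C_ne_zero (1 : E)
      simpa using this
    exact mul_right_cancel₀ hne h1
  have := congrArg (Polynomial.aeval N) hpoly
  simpa using this

theorem geom_sum_range_mul {R : Type*} [Semiring R] (x : R) (m n : ℕ) :
    ∑ i ∈ Finset.range (m * n), x ^ i =
      (∑ r ∈ Finset.range m, x ^ r) * ∑ j ∈ Finset.range n, (x ^ m) ^ j := by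
  induction n with
  | zero => simp
  | succ n ih =>
    rw [Nat.mul_succ, Finset.sum_range_add, ih, Finset.sum_range_succ _ n, mul_add]
    congr 1
    rw [Finset.sum_mul]
    apply Finset.sum_congr rfl
    intro r _
    rw [← pow_mul, ← pow_add, add_comm]

theorem mu4_of_five_le {p : ℕ} (hp5 : 5 ≤ p) (q : ℕ) :
    mu4 p q = [p * (q - 1), p * (q + 1), (q ^ 2 - 1) / 2, (q ^ 2 + 1) / 2] := by
  unfold mu4
  rw [if_neg (by omega), if_neg (by omega)]

theorem spec4_of_dvd_minus {p : ℕ} (hp5 : 5 ≤ p) {q n : ℕ} (h : n ∣ p * (q - 1)) :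
    n ∈ Spec4 p q := by
  refine ⟨p * (q - 1), ?_, h⟩
  rw [mu4_of_five_le hp5]
  simp

theorem spec4_of_dvd_plus {p : ℕ} (hp5 : 5 ≤ p) {q n : ℕ} (h : n ∣ p * (q + 1)) :
    n ∈ Spec4 p q := by
  refine ⟨p * (q + 1), ?_, h⟩
  rw [mu4_of_five_le hp5]
  simp

section mv
variable {ι : Type*} [Fintype ι] [DecidableEq ι] {K : Type*} [CommRing K]

theorem mvEnd_zero : mvEnd ι K 0 = 0 := by
  refine DFunLike.ext _ _ (fun v => ?_)
  rw [mvEnd_apply, Matrix.zero_mulVec]
  rfl

end mv

/-- the torus outcome -/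
theorem good_of_pow {V : Type*} [AddCommGroup V] {p : ℕ} (hp5 : 5 ≤ p) (q : ℕ)
    (α : AddMonoid.End V) (h : α ^ (q - 1) = 1 ∨ α ^ (q + 1) = 1) : Good p (Spec4 p q) α := by
  rcases h with h | h
  · have hd : orderOf α ∣ q - 1 := orderOf_dvd_of_pow_eq_one h
    exact ⟨spec4_of_dvd_minus hp5 (hd.trans (dvd_mul_left _ _)),
      fun _ => spec4_of_dvd_minus hp5 (mul_dvd_mul_left p hd)⟩
  · have hd : orderOf α ∣ q + 1 := orderOf_dvd_of_pow_eq_one h
    exact ⟨spec4_of_dvd_plus hp5 (hd.trans (dvd_mul_left _ _)),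
      fun _ => spec4_of_dvd_plus hp5 (mul_dvd_mul_left p hd)⟩

/-- unipotent of index 3 stays so under powers -/
theorem unip_pow {A : Type*} [Ring A] (N : A) (hN : (N - 1) ^ 3 = 0) (c : ℕ) :
    (N ^ c - 1) ^ 3 = 0 := by
  have hcomm : Commute (N - 1) (∑ i ∈ Finset.range c, N ^ i) := by
    show (N - 1) * _ = _ * (N - 1)
    rw [mul_geom_sum, geom_sum_mul]
  rw [← mul_geom_sum, hcomm.mul_pow, hN, zero_mul]

/-- the unipotent outcome -/
theorem good_of_unip {E : Type u} [Field E] (p : ℕ) [Fact p.Prime] [CharP E p] (k : ℕ)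
    (hp5 : 5 ≤ p) {ι : Type*} [Fintype ι] [DecidableEq ι]
    (α : AddMonoid.End (ι → E)) (N : Matrix ι ι E) (hα : α * α = mvEnd ι E N)
    (hN : (N - 1) ^ 3 = 0) : Good p (Spec4 p (p ^ k)) α := by
  have hp : p.Prime := Fact.out
  -- the geometric sum of a unipotent matrix of index 3 vanishes
  have hgs : ∀ N' : Matrix ι ι E, (N' - 1) ^ 3 = 0 → ∑ j ∈ Finset.range p, N' ^ j = 0 := by
    intro N' hN'
    rw [geom_sum_char (E := E) p N']
    have : p - 1 = 3 + (p - 4) := by omega
    rw [this, pow_add, hN', zero_mul]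
  have hNp : N ^ p = 1 := by
    have h1 := geom_sum_mul N p
    rw [hgs N hN, zero_mul] at h1
    exact (sub_eq_zero.mp h1.symm)
  have hα2p : α ^ (2 * p) = 1 := by
    rw [pow_mul, pow_two, hα, ← map_pow, hNp, map_one]
  have hnd : orderOf α ∣ 2 * p := orderOf_dvd_of_pow_eq_one hα2p
  -- `q - 1` is even
  have hq2 : 2 ∣ p ^ k - 1 := by
    have hodd : Odd p := hp.odd_of_ne_two (by omega)
    have : Odd (p ^ k) := hodd.pow
    obtain ⟨c, hc⟩ := this
    exact ⟨c, by omega⟩
  by_cases hpn : p ∣ orderOf α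
  · obtain ⟨m, hm⟩ := hpn
    have hm2 : m ∣ 2 := by
      rw [hm, mul_comm 2 p] at hnd
      exact Nat.dvd_of_mul_dvd_mul_left hp.pos hnd
    refine ⟨spec4_of_dvd_minus hp5 ?_, fun hns => absurd ?_ hns⟩
    · rw [hm]
      exact mul_dvd_mul_left p (hm2.trans hq2)
    · -- the norm sum vanishes
      have hm12 : m = 1 ∨ m = 2 := by
        have := Nat.le_of_dvd (by norm_num) hm2
        have hm0 : m ≠ 0 := by
          rintro rfl
          simp at hm2
        interval_cases m
        · exact absurd rfl hm0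
        · exact Or.inl rfl
        · exact Or.inr rfl
      -- `α ^ m` is a unipotent matrix of index 3
      have hαm : ∃ N' : Matrix ι ι E, (N' - 1) ^ 3 = 0 ∧ α ^ m = mvEnd ι E N' := by
        rcases hm12 with rfl | rfl
        · -- order `p`
          rw [mul_one] at hm
          have hαp : α ^ p = 1 := by rw [← hm]; exact pow_orderOf_eq_one α
          obtain ⟨c, hc⟩ : ∃ c, p + 1 = 2 * c := by
            have hodd : Odd p := hp.odd_of_ne_two (by omega)
            obtain ⟨c, hc⟩ := hodd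
            exact ⟨c + 1, by omega⟩
          refine ⟨N ^ c, unip_pow N hN c, ?_⟩
          rw [pow_one, map_pow, ← hα, ← pow_two, ← pow_mul, ← hc, pow_succ, hαp, one_mul]
        · exact ⟨N, hN, by rw [pow_two, hα]⟩
      obtain ⟨N', hN', hαN'⟩ := hαm
      unfold normSum
      rw [hm, mul_comm p m, geom_sum_range_mul, hαN']
      have : ∑ j ∈ Finset.range p, (mvEnd ι E N') ^ j = 0 := by
        have h1 : ∑ j ∈ Finset.range p, (mvEnd ι E N') ^ j
            = mvEnd ι E (∑ j ∈ Finset.range p, N' ^ j) := by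
          rw [mvEnd_sum]
          exact Finset.sum_congr rfl (fun j _ => (map_pow _ _ _).symm)
        rw [h1, hgs N' hN', mvEnd_zero]
      rw [this, mul_zero]
  · have hcop : Nat.Coprime (orderOf α) p := ((Nat.Prime.coprime_iff_not_dvd hp).mpr hpn).symm
    have hn2 : orderOf α ∣ 2 := hcop.dvd_of_dvd_mul_right hnd
    exact ⟨spec4_of_dvd_minus hp5 ((hn2.trans hq2).trans (dvd_mul_left _ _)),
      fun _ => spec4_of_dvd_minus hp5 (mul_dvd_mul_left p (hn2.trans hq2))⟩


theorem co_kr {K : Type*} [CommRing K] (φ : K →+* K) (hφ : φ.comp φ = RingHom.id K)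
    (g : Matrix (Fin 2) (Fin 2) K) :
    φ.mapMatrix (kr2 (RingHom.id K) φ g) = kr2 (RingHom.id K) φ (φ.mapMatrix g) := by
  ext ⟨a, b⟩ ⟨c, d⟩
  simp [kr2_apply, Matrix.kroneckerMap_apply]

theorem co_comm {ι : Type*} [Fintype ι] [DecidableEq ι] {K : Type*} [CommRing K] (φ : K →+* K)
    (M : Matrix ι ι K) :
    psiEnd ι φ * mvEnd ι K M = mvEnd ι K (φ.mapMatrix M) * psiEnd ι φ := by
  refine DFunLike.ext _ _ (fun v => ?_)
  funext i
  show φ ((M *ᵥ v) i) = (φ.mapMatrix M *ᵥ (psiEnd ι φ v)) i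
  simp only [Matrix.mulVec, dotProduct, map_sum, map_mul, RingHom.mapMatrix_apply, Matrix.map_apply,
    psiEnd_apply]

theorem co_sq {ι : Type*} {K : Type*} [CommRing K] (φ : K →+* K) (hφ : φ.comp φ = RingHom.id K) :
    psiEnd ι φ * psiEnd ι φ = 1 := by
  refine DFunLike.ext _ _ (fun v => ?_)
  funext i
  show φ (φ (v i)) = v i
  have := congrArg (fun f : K →+* K => f (v i)) hφ
  simpa using this

/-- products in the monoid `{ρ g} ∪ {ρ g ∘ Ψ}` -/
theorem co_mul {K : Type*} [CommRing K] (φ : K →+* K) (hφ : φ.comp φ = RingHom.id K)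
    (g h : Matrix (Fin 2) (Fin 2) K) :
    cosetEnd φ g * cosetEnd φ h =
        mvEnd (Fin 2 × Fin 2) K (kr2 (RingHom.id K) φ (g * φ.mapMatrix h)) ∧
      cosetEnd φ g * mvEnd (Fin 2 × Fin 2) K (kr2 (RingHom.id K) φ h) =
        cosetEnd φ (g * φ.mapMatrix h) ∧
      mvEnd (Fin 2 × Fin 2) K (kr2 (RingHom.id K) φ g) * cosetEnd φ h = cosetEnd φ (g * h) := by
  refine ⟨?_, ?_, ?_⟩
  · unfold cosetEnd
    rw [mul_assoc, ← mul_assoc (psiEnd _ φ), co_comm, mul_assoc, co_sq φ hφ, mul_one, co_kr φ hφ,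
      ← map_mul, ← map_mul]
  · unfold cosetEnd
    rw [mul_assoc, co_comm, ← mul_assoc, co_kr φ hφ, ← map_mul, ← map_mul]
  · unfold cosetEnd
    rw [← mul_assoc, ← map_mul, ← map_mul]


theorem frob_frob {E : Type u} [Field E] [Fintype E] (p : ℕ) [Fact p.Prime] [CharP E p] (k : ℕ)
    (hcard : Fintype.card E = p ^ (2 * k)) :
    (iterateFrobenius E p k).comp (iterateFrobenius E p k) = RingHom.id E := by
  ext x
  simp only [RingHom.comp_apply, iterateFrobenius_def, RingHom.id_apply]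
  rw [← pow_mul, ← pow_add, ← two_mul, ← hcard]
  exact FiniteField.pow_card x

theorem root_cases {F : Type*} [Field F] (s t : F) (hs : s ≠ 0) (ht : t ≠ 0)
    (h : s + s⁻¹ = t + t⁻¹) : s = t ∨ s * t = 1 := by
  have h0 : (s - t) * (s * t - 1) = 0 := by
    have e1 : (s - t) * (s * t - 1) = s * t * (s + s⁻¹) - s * t * (t + t⁻¹) := by
      field_simp
      ring
    rw [e1, h, sub_self]
  rcases mul_eq_zero.mp h0 with h1 | h1
  · exact Or.inl (sub_eq_zero.mp h1)
  · exact Or.inr (sub_eq_zero.mp h1)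

theorem co_good {E : Type u} [Field E] [Fintype E] (p : ℕ) [Fact p.Prime] [CharP E p] (k : ℕ)
    (hp5 : 5 ≤ p) (hk : 1 ≤ k) (hcard : Fintype.card E = p ^ (2 * k))
    (g : Matrix (Fin 2) (Fin 2) E) (hdet : g.det = 1) :
    Good p (Spec4 p (p ^ k)) (cosetEnd (iterateFrobenius E p k) g) := by
  have hp : p.Prime := Fact.out
  have hφ := frob_frob p k hcard
  have hφφ : ∀ x : E, iterateFrobenius E p k (iterateFrobenius E p k x) = x := fun x => by
    have := congrArg (fun f : E →+* E => f x) hφ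
    simpa using this
  generalize hφdef : iterateFrobenius E p k = φ at hφ hφφ ⊢
  have hφpow : ∀ x : E, φ x = x ^ p ^ k := fun x => by rw [← hφdef, iterateFrobenius_def]
  obtain ⟨h, hh⟩ : ∃ h, h = g * φ.mapMatrix g := ⟨_, rfl⟩
  have hαα : cosetEnd φ g * cosetEnd φ g = mvEnd _ E (kr2 (RingHom.id E) φ h) := by
    rw [hh]; exact (co_mul φ hφ g g).1
  have hdeth : h.det = 1 := by
    rw [hh, Matrix.det_mul, hdet, one_mul, ← RingHom.map_det, hdet, map_one]
  have htr : φ h.trace = h.trace := by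
    rw [hh]
    simp only [Matrix.trace_fin_two, Matrix.mul_apply, Fin.sum_univ_two, RingHom.mapMatrix_apply,
      Matrix.map_apply, map_add, map_mul, hφφ]
    ring
  -- `q` is odd
  obtain ⟨c, hc⟩ : ∃ c, p ^ k = 2 * c + 1 := (hp.odd_of_ne_two (by omega)).pow
  rcases Cfsg.Agent.Lib.Helper2_S3466_TRI.sl2_trichotomy h hdeth with hu | hu |
    ⟨t, ht0, htt, -, httr, hquad⟩ | ⟨E', _, _, t, ht0, htt, htq, httr, hquad⟩
  · have := (Cfsg.Agent.Lib.Helper2_S3466_AN2.an2_unip p k h 1 (Or.inl rfl) (by rwa [one_smul])).1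
    rw [hφdef] at this
    exact good_of_unip p k hp5 _ _ hαα this
  · have := (Cfsg.Agent.Lib.Helper2_S3466_AN2.an2_unip p k h (-1) (Or.inr rfl)
      (by rw [neg_smul, one_smul, sub_neg_eq_add]; exact hu)).1
    rw [hφdef] at this
    exact good_of_unip p k hp5 _ _ hαα this
  · -- split case
    have hne : t ≠ t⁻¹ := by
      intro h1
      apply htt
      nth_rewrite 2 [h1]
      exact mul_inv_cancel₀ ht0
    have hs0 : φ t ≠ 0 := by
      rw [hφpow]; exact pow_ne_zero _ ht0
    have hsum : φ t + (φ t)⁻¹ = t + t⁻¹ := by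
      rw [← map_inv₀, ← map_add, httr, htr]
    have hES := Cfsg.Agent.Lib.Helper2_S3466_EIG.EigSys.of_quadratic h t t⁻¹ hne hquad
    have hK := Cfsg.Agent.Lib.Helper2_S3466_EIG.EigSys.kron (Cfsg.Agent.Lib.Helper2_S3466_EIG.EigSys.map (RingHom.id E) hES)
      (Cfsg.Agent.Lib.Helper2_S3466_EIG.EigSys.map φ hES)
    apply good_of_pow hp5
    rcases root_cases (φ t) t hs0 ht0 hsum with hst | hst
    · left
      have htq1 : t ^ (p ^ k - 1) = 1 := by
        have h1 : t ^ (p ^ k - 1) * t = t := by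
          rw [← pow_succ, Nat.sub_add_cancel (by omega), ← hφpow, hst]
        exact mul_right_cancel₀ ht0 (h1.trans (one_mul t).symm)
      have hN1 : kr2 (RingHom.id E) φ h ^ c = 1 := by
        apply Cfsg.Agent.Lib.Helper2_S3466_EIG.EigSys.eq_one (Cfsg.Agent.Lib.Helper2_S3466_EIG.EigSys.pow hK c)
        have hcc : (t * t) ^ c = 1 := by
          rw [← pow_two, ← pow_mul, ← htq1]; congr 1; omega
        rintro ⟨a, b⟩
        fin_cases a <;> fin_cases b
        all_goals simp only [Fin.zero_eta, Fin.mk_one, Fin.isValue, Matrix.cons_val_zero,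
          Matrix.cons_val_one, RingHom.id_apply, map_inv₀, hst]
        all_goals first
          | exact hcc
          | rw [mul_inv_cancel₀ ht0, one_pow]
          | rw [inv_mul_cancel₀ ht0, one_pow]
          | rw [← mul_inv, inv_pow, hcc, inv_one]
      have : p ^ k - 1 = 2 * c := by omega
      rw [this, pow_mul, pow_two, hαα, ← map_pow, hN1, map_one]
    · right
      have hs' : φ t = t⁻¹ := eq_inv_of_mul_eq_one_left hst
      have htq1 : t ^ (p ^ k + 1) = 1 := by
        rw [pow_succ, ← hφpow, hst]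
      have hN1 : kr2 (RingHom.id E) φ h ^ (c + 1) = 1 := by
        apply Cfsg.Agent.Lib.Helper2_S3466_EIG.EigSys.eq_one (Cfsg.Agent.Lib.Helper2_S3466_EIG.EigSys.pow hK (c + 1))
        have hcc : (t * t) ^ (c + 1) = 1 := by
          rw [← pow_two, ← pow_mul, ← htq1]; congr 1; omega
        rintro ⟨a, b⟩
        fin_cases a <;> fin_cases b
        all_goals simp only [Fin.zero_eta, Fin.mk_one, Fin.isValue, Matrix.cons_val_zero,
          Matrix.cons_val_one, RingHom.id_apply, map_inv₀, hs', inv_inv]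
        all_goals first
          | exact hcc
          | rw [mul_inv_cancel₀ ht0, one_pow]
          | rw [inv_mul_cancel₀ ht0, one_pow]
          | rw [← mul_inv, inv_pow, hcc, inv_one]
      have : p ^ k + 1 = 2 * (c + 1) := by omega
      rw [this, pow_mul, pow_two, hαα, ← map_pow, hN1, map_one]
  · -- nonsplit case: impossible
    exfalso
    have : CharP E' p := charP_of_injective_algebraMap (algebraMap E E').injective p
    have hs0 : t ^ p ^ k ≠ 0 := pow_ne_zero _ ht0
    have hsum : t ^ p ^ k + (t ^ p ^ k)⁻¹ = t + t⁻¹ := by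
      rw [← inv_pow, ← add_pow_char_pow, httr, ← map_pow, ← hφpow, htr]
    apply htt
    have htq2 : t ^ (p ^ k * p ^ k) = t := by
      rw [pow_mul]
      rcases root_cases _ t hs0 ht0 hsum with hst | hst
      · rw [hst, hst]
      · have hs' : t ^ p ^ k = t⁻¹ := eq_inv_of_mul_eq_one_left hst
        rw [hs', inv_pow, hs', inv_inv]
    have : Fintype.card E = p ^ k * p ^ k := by rw [hcard, two_mul, pow_add]
    rw [this, pow_succ, htq2] at htq
    exact htq

end Cfsg.Agent.Lib.Helper70_S3466_CO
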