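import Mathlib
import Cfsg.Agent.Lib.Helper40_P4Defs
import Cfsg.Agent.Lib.Helper70_S3466_CO
import Cfsg.Agent.Lib.Helper64_S3466_LB2
import Cfsg.Agent.Lib.Helper64_S3466_LBA

set_option autoImplicit false
set_option linter.unusedSectionVars false
set_option linter.unusedVariables false

open Cfsg.Agent.Lib.Helper40_P4Defs
open scoped Kronecker Matrix

universe u

namespace Cfsg.Agent.Lib.Helper24_S3466_LBC

open Cfsg.Agent.Lib.Helper70_S3466_CO Cfsg.Agent.Lib.Helper64_S3466_LB2
  Cfsg.Agent.Lib.Helper64_S3466_LBA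

section general

variable {K : Type*} [Field K]

/-- even powers of a coset element -/
theorem coset_pow_even (φ : K →+* K) (hφ : φ.comp φ = RingHom.id K)
    (g : Matrix (Fin 2) (Fin 2) K) (i : ℕ) :
    cosetEnd φ g ^ (2 * i) =
      mvEnd (Fin 2 × Fin 2) K (kr2 (RingHom.id K) φ ((g * φ.mapMatrix g) ^ i)) := by
  rw [pow_mul, pow_two, (co_mul φ hφ g g).1, ← map_pow, ← map_pow]

/-- odd powers of a coset element -/
theorem coset_pow_odd (φ : K →+* K) (hφ : φ.comp φ = RingHom.id K)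
    (g : Matrix (Fin 2) (Fin 2) K) (i : ℕ) :
    cosetEnd φ g ^ (2 * i + 1) = cosetEnd φ ((g * φ.mapMatrix g) ^ i * g) := by
  rw [pow_succ, coset_pow_even φ hφ, (co_mul φ hφ _ g).2.2]

/-- a coset element is not the identity when `φ ≠ id` -/
theorem coset_ne_one (φ : K →+* K) (c : K) (hc : φ c ≠ c) (g : Matrix (Fin 2) (Fin 2) K) :
    cosetEnd φ g ≠ 1 := by
  intro h
  have h1 : ∀ v : Fin 2 × Fin 2 → K, kr2 (RingHom.id K) φ g *ᵥ (psiEnd (Fin 2 × Fin 2) φ v) = v := by
    intro v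
    have := congrArg (fun f : AddMonoid.End (Fin 2 × Fin 2 → K) => f v) h
    exact this
  have e1 : psiEnd (Fin 2 × Fin 2) φ (Pi.single ((0 : Fin 2), (0 : Fin 2)) (1 : K)) =
      Pi.single ((0 : Fin 2), (0 : Fin 2)) (1 : K) := by
    funext idx
    rw [psiEnd_apply]
    by_cases hidx : idx = (0, 0)
    · subst hidx
      simp
    · rw [Pi.single_eq_of_ne hidx]
      exact map_zero φ
  have e2 : psiEnd (Fin 2 × Fin 2) φ (Pi.single ((0 : Fin 2), (0 : Fin 2)) c) =
      φ c • Pi.single ((0 : Fin 2), (0 : Fin 2)) (1 : K) := by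
    funext idx
    rw [psiEnd_apply]
    by_cases hidx : idx = (0, 0)
    · subst hidx
      simp
    · rw [Pi.smul_apply, Pi.single_eq_of_ne hidx, Pi.single_eq_of_ne hidx, map_zero, smul_zero]
  have h2 := h1 (Pi.single (0, 0) 1)
  rw [e1] at h2
  have h3 := h1 (Pi.single (0, 0) c)
  rw [e2, Matrix.mulVec_smul, h2] at h3
  have h4 := congrFun h3 (0, 0)
  simp at h4
  exact hc h4

/-- the order of a coset element -/
theorem orderOf_coset (φ : K →+* K) (hφ : φ.comp φ = RingHom.id K) (c : K) (hc : φ c ≠ c)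
    (g : Matrix (Fin 2) (Fin 2) K) (m : ℕ)
    (h : ∀ i : ℕ, kr2 (RingHom.id K) φ (g * φ.mapMatrix g) ^ i = 1 ↔ m ∣ i) :
    orderOf (cosetEnd φ g) = 2 * m := by
  apply orderOf_eq_of_pow_iff
  intro j
  rcases Nat.even_or_odd' j with ⟨i, rfl | rfl⟩
  · rw [coset_pow_even φ hφ, map_pow]
    constructor
    · intro h1
      have h2 : kr2 (RingHom.id K) φ (g * φ.mapMatrix g) ^ i = 1 := by
        apply mvEnd_injective
        rw [h1, map_one]
      exact Nat.mul_dvd_mul_left 2 ((h i).mp h2)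
    · intro h1
      have h2 : m ∣ i := by
        rcases Nat.eq_zero_or_pos m with h0 | h0
        · subst h0
          simp at h1
          subst h1
          exact dvd_rfl
        · exact (Nat.mul_dvd_mul_iff_left (by norm_num)).mp h1
      rw [(h i).mpr h2, map_one]
  · rw [coset_pow_odd φ hφ]
    constructor
    · intro h1
      exact absurd h1 (coset_ne_one φ c hc _)
    · intro h1
      exfalso
      have : 2 ∣ 2 * i + 1 := (dvd_mul_right 2 m).trans h1
      omega

theorem dg_mul (a b : K) : dg a * dg b = dg (a * b) := by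
  unfold dg
  rw [Matrix.diagonal_mul_diagonal]
  congr 1
  funext i
  fin_cases i
  · simp
  · simp [mul_comm]

theorem map_dg (φ : K →+* K) (a : K) : φ.mapMatrix (dg a) = dg (φ a) := by
  rw [dg, dg, RingHom.mapMatrix_apply, Matrix.diagonal_map (map_zero φ)]
  congr 1
  funext i
  fin_cases i
  · rfl
  · simp [map_inv₀]

end general


section LB

variable {E : Type u} [Field E] [Fintype E] (p : ℕ) [Fact p.Prime] [CharP E p] (k : ℕ)

/-- common data: `q = 2 r + 1`, a generator `a`, and an element moved by Frobenius -/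
theorem setup (hp2 : p ≠ 2) (hk : 1 ≤ k) (hcard : Fintype.card E = p ^ (2 * k)) :
    ∃ (r : ℕ) (a : E), 1 ≤ r ∧ p ^ k = 2 * r + 1 ∧ a ≠ 0 ∧ orderOf a = 4 * r * (r + 1) ∧
      iterateFrobenius E p k a ≠ a := by
  have hp : p.Prime := Fact.out
  obtain ⟨r, hr⟩ := odd_pow_of_ne_two p hp2 k
  have h3 : 3 ≤ p := by
    have := hp.two_le
    omega
  have hq3 : 3 ≤ p ^ k := by
    calc 3 ≤ p := h3
      _ = p ^ 1 := (pow_one p).symm
      _ ≤ p ^ k := Nat.pow_le_pow_right (by omega) hk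
  have hr1 : 1 ≤ r := by omega
  have hN : Fintype.card E - 1 = 4 * r * (r + 1) := by
    rw [hcard]
    have : p ^ (2 * k) = (p ^ k) ^ 2 := by ring
    rw [this, hr]
    have : (2 * r + 1) ^ 2 = 4 * r * (r + 1) + 1 := by ring
    rw [this]
    omega
  obtain ⟨a, ha0, ha⟩ := exists_orderOf_eq (E := E) (Fintype.card E - 1) dvd_rfl
  rw [hN] at ha
  refine ⟨r, a, hr1, hr, ha0, ha, ?_⟩
  intro h
  rw [iterateFrobenius_def, hr, pow_succ] at h
  have h1 : a ^ (2 * r) = 1 := by
    have h2 : a ^ (2 * r) * a = 1 * a := by rw [h, one_mul]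
    exact mul_right_cancel₀ ha0 h2
  have h2 := orderOf_dvd_of_pow_eq_one h1
  rw [ha] at h2
  have h3 := Nat.le_of_dvd (by omega) h2
  nlinarith

theorem psi_single (φ : E →+* E) (idx : Fin 2 × Fin 2) (x : E) :
    psiEnd (Fin 2 × Fin 2) φ (Pi.single idx x) = Pi.single idx (φ x) := by
  funext j
  rw [psiEnd_apply]
  by_cases hj : j = idx
  · subst hj
    simp
  · rw [Pi.single_eq_of_ne hj, Pi.single_eq_of_ne hj]
    exact map_zero φ

theorem lbc_minus (hp2 : p ≠ 2) (hk : 1 ≤ k) (hcard : Fintype.card E = p ^ (2 * k)) :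
    ∃ g : Matrix (Fin 2) (Fin 2) E, g.det = 1 ∧
      orderOf (cosetEnd (iterateFrobenius E p k) g) = p ^ k - 1 ∧
      ∃ v : Fin 2 × Fin 2 → E, v ≠ 0 ∧ cosetEnd (iterateFrobenius E p k) g v = v := by
  obtain ⟨r, a, hr1, hr, ha0, ha, hmove⟩ := setup p k hp2 hk hcard
  set φ := iterateFrobenius E p k with hφdef
  have hφ : φ.comp φ = RingHom.id E := frob_frob p k hcard
  have hφa : φ a = a ^ (2 * r + 1) := by rw [hφdef, iterateFrobenius_def, hr]
  refine ⟨dg a, det_dg a ha0, ?_, ?_⟩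
  · have hh : dg a * φ.mapMatrix (dg a) = dg (a ^ (2 * r + 2)) := by
      rw [map_dg, dg_mul, hφa]
      congr 1
      ring
    have hs : orderOf (a ^ (2 * r + 2)) = 2 * r := by
      rw [orderOf_pow_of_dvd (by omega) (by rw [ha]; exact ⟨2 * r, by ring⟩), ha]
      have : 4 * r * (r + 1) = 2 * r * (2 * r + 2) := by ring
      rw [this]
      exact Nat.mul_div_cancel _ (by omega)
    have hs0 : a ^ (2 * r + 2) ≠ 0 := pow_ne_zero _ ha0
    rw [orderOf_coset φ hφ a hmove (dg a) r ?_, hr]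
    · omega
    · intro i
      rw [hh, kr2_dg_pow_eq_one_iff _ _ _ hs0, hs]
      exact Nat.mul_dvd_mul_iff_left (by norm_num)
  · refine ⟨Pi.single (0, 1) a, ?_, ?_⟩
    · intro h
      have := congrFun h (0, 1)
      simp at this
      exact ha0 this
    · show kr2 (RingHom.id E) φ (dg a) *ᵥ (psiEnd (Fin 2 × Fin 2) φ (Pi.single (0, 1) a)) = _
      rw [psi_single, kr2_dg, Matrix.diagonal_mulVec_single]
      congr 1
      have hφa0 : φ a ≠ 0 := (map_ne_zero φ).mpr ha0
      simp only [RingHom.id_apply, Matrix.cons_val_zero, Matrix.cons_val_one, map_inv₀]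
      field_simp

theorem lbc_plus (hp2 : p ≠ 2) (hk : 1 ≤ k) (hcard : Fintype.card E = p ^ (2 * k)) :
    ∃ g : Matrix (Fin 2) (Fin 2) E, g.det = 1 ∧
      orderOf (cosetEnd (iterateFrobenius E p k) g) = p ^ k + 1 ∧
      ∃ v : Fin 2 × Fin 2 → E, v ≠ 0 ∧ cosetEnd (iterateFrobenius E p k) g v = v := by
  obtain ⟨r, a, hr1, hr, ha0, ha, hmove⟩ := setup p k hp2 hk hcard
  set φ := iterateFrobenius E p k with hφdef
  have hφ : φ.comp φ = RingHom.id E := frob_frob p k hcard
  have hφx : ∀ x : E, φ x = x ^ (2 * r + 1) := by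
    intro x
    rw [hφdef, iterateFrobenius_def, hr]
  -- `a ^ ((q² - 1) / 2) = -1`
  have hneg : a ^ (2 * r * (r + 1)) = -1 := by
    have h1 : a ^ (2 * r * (r + 1)) * a ^ (2 * r * (r + 1)) = 1 := by
      rw [← pow_add, ← two_mul]
      have : 2 * (2 * r * (r + 1)) = 4 * r * (r + 1) := by ring
      rw [this, ← ha]
      exact pow_orderOf_eq_one a
    rcases mul_self_eq_one_iff.mp h1 with h2 | h2
    · exfalso
      have h3 := orderOf_dvd_of_pow_eq_one h2
      rw [ha] at h3
      have h4 := Nat.le_of_dvd (by positivity) h3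
      nlinarith
    · exact h2
  set b : E := a ^ r with hb
  have hb0 : b ≠ 0 := pow_ne_zero _ ha0
  have hφb0 : φ b ≠ 0 := (map_ne_zero φ).mpr hb0
  set g : Matrix (Fin 2) (Fin 2) E := !![0, b; -b⁻¹, 0] with hg
  have hdet : g.det = 1 := by
    rw [hg, Matrix.det_fin_two_of]
    field_simp
    ring
  -- `t = -b / φ b = a ^ (q - 1)`
  have ht : -b * (φ b)⁻¹ = a ^ (2 * r) := by
    rw [hφx b, hb]
    have h1 : a ^ (2 * r) * (a ^ r) ^ (2 * r + 1) = -(a ^ r) := by
      have : a ^ (2 * r) * (a ^ r) ^ (2 * r + 1) = a ^ (2 * r * (r + 1)) * a ^ r := by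
        rw [← pow_mul, ← pow_add, ← pow_add]
        congr 1
        ring
      rw [this, hneg, neg_one_mul]
    have h2 : (a ^ r) ^ (2 * r + 1) ≠ 0 := pow_ne_zero _ (pow_ne_zero _ ha0)
    field_simp
    rw [← h1]
    ring
  have hh : g * φ.mapMatrix g = dg (a ^ (2 * r)) := by
    rw [← ht, hg, dg]
    ext i j
    fin_cases i <;> fin_cases j <;>
      simp [Matrix.mul_apply, Fin.sum_univ_two, map_neg, map_inv₀, neg_mul, mul_neg,
        mul_comm]
  have hs : orderOf (a ^ (2 * r)) = 2 * (r + 1) := by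
    rw [orderOf_pow_of_dvd (by omega) (by rw [ha]; exact ⟨2 * (r + 1), by ring⟩), ha]
    have : 4 * r * (r + 1) = 2 * (r + 1) * (2 * r) := by ring
    rw [this]
    exact Nat.mul_div_cancel _ (by omega)
  have hs0 : a ^ (2 * r) ≠ 0 := pow_ne_zero _ ha0
  refine ⟨g, hdet, ?_, ?_⟩
  · rw [orderOf_coset φ hφ a hmove g (r + 1) ?_, hr]
    · ring
    · intro i
      rw [hh, kr2_dg_pow_eq_one_iff _ _ _ hs0, hs]
      exact Nat.mul_dvd_mul_iff_left (by norm_num)
  · -- the fixed vector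
    have hφφ : φ (φ b) = b := by
      have := congrArg (fun f : E →+* E => f b) hφ
      simpa using this
    refine ⟨fun ij => if ij = (0, 0) then 1 else if ij = (1, 1) then (b * φ b)⁻¹ else 0, ?_, ?_⟩
    · intro h
      have := congrFun h (0, 0)
      simp at this
    · show kr2 (RingHom.id E) φ g *ᵥ (psiEnd (Fin 2 × Fin 2) φ _) = _
      funext ⟨i, j⟩
      simp only [Matrix.mulVec, dotProduct, Fintype.sum_prod_type, Fin.sum_univ_two, kr2_apply,
        Matrix.kroneckerMap_apply, RingHom.mapMatrix_apply, Matrix.map_apply, psiEnd_apply,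
        RingHom.id_apply, hg]
      fin_cases i <;> fin_cases j <;>
        simp [map_inv₀, hφφ, map_neg]
      · field_simp
      · field_simp

end LB

end Cfsg.Agent.Lib.Helper24_S3466_LBC
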