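import Mathlib

/-!
# S3466-TRI (architect: helper40): trichotomy for `SL₂` over a finite field

A `2 × 2` matrix `g` of determinant `1` over a finite field `E` satisfies `(g - 1)² = 0`, or
`(g + 1)² = 0`, or `(g - t)(g - t⁻¹) = 0` for some `t ∈ E` with `t² ≠ 1` (split case,
`t ^ (|E| - 1) = 1`), or the same over a quadratic extension `E'` with `t ^ (|E| + 1) = 1`
(nonsplit case).
-/

set_option autoImplicit false

open Polynomial
open scoped Matrix

universe u

namespace Cfsg.Agent.Lib.Helper87_S3466_TRI

/-- Cayley–Hamilton in factored form: a root `t` of `X² - (trace g) X + 1` is nonzero, satisfies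
`t + t⁻¹ = trace g`, and `(g - t)(g - t⁻¹) = 0` when `det g = 1`. -/
theorem factor_of_root {K : Type*} [Field K] (g : Matrix (Fin 2) (Fin 2) K) (hdet : g.det = 1)
    (t : K) (ht : t * t - g.trace * t + 1 = 0) :
    t ≠ 0 ∧ t + t⁻¹ = g.trace ∧ (g - t • 1) * (g - t⁻¹ • 1) = 0 := by
  have ht0 : t ≠ 0 := by
    rintro rfl
    simp at ht
  have hinv : t⁻¹ = g.trace - t := by
    apply inv_eq_of_mul_eq_one_right
    linear_combination -ht
  have htr : g.trace = g 0 0 + g 1 1 := Matrix.trace_fin_two g
  have hd : g 0 0 * g 1 1 - g 0 1 * g 1 0 = 1 := by rw [← Matrix.det_fin_two]; exact hdet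
  refine ⟨ht0, by rw [hinv]; ring, ?_⟩
  rw [hinv]
  ext i j
  fin_cases i <;> fin_cases j
  · simp only [Fin.zero_eta, Fin.isValue, Matrix.mul_apply, Fin.sum_univ_two, Matrix.sub_apply,
      Matrix.smul_apply, Matrix.one_apply_eq, smul_eq_mul, mul_one, ne_eq, zero_ne_one,
      not_false_eq_true, Matrix.one_apply_ne, mul_zero, sub_zero, one_ne_zero, Matrix.zero_apply]
    rw [htr] at ht ⊢
    linear_combination -ht - hd
  · simp only [Fin.zero_eta, Fin.isValue, Fin.mk_one, Matrix.mul_apply, Fin.sum_univ_two,
      Matrix.sub_apply, Matrix.smul_apply, Matrix.one_apply_eq, smul_eq_mul, mul_one, ne_eq,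
      zero_ne_one, not_false_eq_true, Matrix.one_apply_ne, mul_zero, sub_zero,
      Matrix.zero_apply]
    rw [htr]
    ring
  · simp only [Fin.mk_one, Fin.isValue, Fin.zero_eta, Matrix.mul_apply, Fin.sum_univ_two,
      Matrix.sub_apply, Matrix.smul_apply, Matrix.one_apply_eq, smul_eq_mul, mul_one, ne_eq,
      not_false_eq_true, Matrix.one_apply_ne, mul_zero, sub_zero, one_ne_zero,
      Matrix.zero_apply]
    rw [htr]
    ring
  · simp only [Fin.mk_one, Fin.isValue, Matrix.mul_apply, Fin.sum_univ_two, Matrix.sub_apply,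
      Matrix.smul_apply, Matrix.one_apply_eq, smul_eq_mul, mul_one, ne_eq, zero_ne_one,
      not_false_eq_true, Matrix.one_apply_ne, mul_zero, sub_zero, one_ne_zero, Matrix.zero_apply]
    rw [htr] at ht ⊢
    linear_combination -ht - hd

/-- In an extension `E'` of a finite field `E`, an element fixed by `x ↦ x ^ |E|` lies in `E`. -/
theorem mem_range_of_pow_card_eq {E : Type*} [Field E] [Fintype E] {E' : Type*} [Field E']
    [Algebra E E'] (t : E') (ht : t ^ Fintype.card E = t) : ∃ a : E, algebraMap E E' a = t := by
  classical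
  by_contra hne0
  have hne : ∀ a : E, algebraMap E E' a ≠ t := fun a ha => hne0 ⟨a, ha⟩
  set Q := Fintype.card E with hQ
  have hQ1 : 1 < Q := Fintype.one_lt_card
  set Z : Finset E' := insert t (Finset.univ.image (algebraMap E E')) with hZ
  have htZ : t ∉ Finset.univ.image (algebraMap E E') := by
    intro h
    obtain ⟨a, -, ha⟩ := Finset.mem_image.1 h
    exact hne a ha
  have hcard : Z.card = Q + 1 := by
    rw [hZ, Finset.card_insert_of_notMem htZ,
      Finset.card_image_of_injective _ (algebraMap E E').injective, Finset.card_univ]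
  have hP0 : (X ^ Q - X : E'[X]) ≠ 0 := FiniteField.X_pow_card_sub_X_ne_zero E' hQ1
  have hsub : Z.val ⊆ (X ^ Q - X : E'[X]).roots := by
    intro x hx
    rw [Finset.mem_val, hZ, Finset.mem_insert] at hx
    rw [mem_roots hP0, IsRoot, eval_sub, eval_pow, eval_X, sub_eq_zero]
    rcases hx with rfl | hx
    · exact ht
    · obtain ⟨a, -, rfl⟩ := Finset.mem_image.1 hx
      rw [← map_pow, hQ, FiniteField.pow_card]
  have := card_le_degree_of_subset_roots hsub
  rw [hcard, FiniteField.X_pow_card_sub_X_natDegree_eq E' hQ1] at this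
  omega

theorem sl2_trichotomy {E : Type u} [Field E] [Fintype E] (g : Matrix (Fin 2) (Fin 2) E)
    (hdet : g.det = 1) :
    (g - 1) ^ 2 = 0 ∨ (g + 1) ^ 2 = 0 ∨
    (∃ t : E, t ≠ 0 ∧ t * t ≠ 1 ∧ t ^ (Fintype.card E - 1) = 1 ∧ t + t⁻¹ = g.trace ∧
      (g - t • 1) * (g - t⁻¹ • 1) = 0) ∨
    (∃ (E' : Type u) (_ : Field E') (_ : Algebra E E') (t : E'), t ≠ 0 ∧ t * t ≠ 1 ∧
      t ^ (Fintype.card E + 1) = 1 ∧ t + t⁻¹ = algebraMap E E' g.trace ∧
      ((algebraMap E E').mapMatrix g - t • 1) * ((algebraMap E E').mapMatrix g - t⁻¹ • 1) = 0) := by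
  classical
  by_cases hroot : ∃ t : E, t * t - g.trace * t + 1 = 0
  · obtain ⟨t, ht⟩ := hroot
    obtain ⟨ht0, hsum, hfac⟩ := factor_of_root g hdet t ht
    by_cases htt : t * t = 1
    · have h1 : t = 1 ∨ t = -1 := by
        have h : (t - 1) * (t + 1) = 0 := by linear_combination htt
        rcases mul_eq_zero.1 h with h | h
        · left; linear_combination h
        · right; linear_combination h
      rcases h1 with rfl | rfl
      · left
        simpa [sq] using hfac
      · right; left
        have : ((-1 : E))⁻¹ = -1 := by norm_num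
        rw [this] at hfac
        simpa [sq, sub_neg_eq_add] using hfac
    · right; right; left
      exact ⟨t, ht0, htt, FiniteField.pow_card_sub_one_eq_one t ht0, hsum, hfac⟩
  · right; right; right
    replace hroot : ∀ t : E, t * t - g.trace * t + 1 ≠ 0 := fun t h => hroot ⟨t, h⟩
    set τ := g.trace with hτ
    set f : E[X] := X ^ 2 - C τ * X + 1 with hf
    have hfm : f.Monic := by
      rw [hf]
      have : (X ^ 2 - C τ * X + 1 : E[X]) = X ^ 2 + (- C τ * X + 1) := by ring
      rw [this]
      apply monic_X_pow_add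
      refine lt_of_le_of_lt (degree_add_le _ _) ?_
      rw [max_lt_iff]
      refine ⟨?_, by rw [degree_one]; norm_num⟩
      rw [← C_neg]
      exact lt_of_le_of_lt (degree_C_mul_X_le _) (by norm_num)
    have hdeg : f.natDegree = 2 := by
      have : f = C (1 : E) * X ^ 2 + C (-τ) * X + C 1 := by
        rw [hf]; simp only [C_1, C_neg]; ring
      rw [this]
      exact natDegree_quadratic one_ne_zero
    have hirr : Irreducible f := by
      apply irreducible_of_degree_le_three_of_not_isRoot
      · rw [hdeg]; decide
      · intro x hx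
        apply hroot x
        rw [IsRoot, hf] at hx
        simp only [eval_add, eval_sub, eval_pow, eval_X, eval_mul, eval_C, eval_one] at hx
        linear_combination hx
    have : Fact (Irreducible f) := ⟨hirr⟩
    refine ⟨AdjoinRoot f, inferInstance, inferInstance, AdjoinRoot.root f, ?_⟩
    set t := AdjoinRoot.root f with htdef
    have ht : t * t - algebraMap E (AdjoinRoot f) τ * t + 1 = 0 := by
      have h := AdjoinRoot.eval₂_root f
      rw [hf] at h
      simp only [eval₂_add, eval₂_sub, eval₂_pow, eval₂_X, eval₂_mul, eval₂_C, eval₂_one] at h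
      rw [AdjoinRoot.algebraMap_eq]
      linear_combination h
    set g' := (algebraMap E (AdjoinRoot f)).mapMatrix g with hg'
    have hdet' : g'.det = 1 := by
      rw [hg', ← RingHom.map_det, hdet, map_one]
    have htr' : g'.trace = algebraMap E (AdjoinRoot f) τ := by
      rw [hg', hτ, Matrix.trace_fin_two, Matrix.trace_fin_two]
      simp [RingHom.mapMatrix_apply]
    have ht' : t * t - g'.trace * t + 1 = 0 := by rw [htr']; exact ht
    obtain ⟨ht0, hsum, hfac⟩ := factor_of_root g' hdet' t ht'
    have hnoE : ∀ a : E, algebraMap E (AdjoinRoot f) a ≠ t := by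
      intro a ha
      apply hroot a
      apply (algebraMap E (AdjoinRoot f)).injective
      rw [map_zero, map_add, map_sub, map_mul, map_mul, map_one, ha]
      exact ht
    have htt : t * t ≠ 1 := by
      intro htt
      have h : (t - 1) * (t + 1) = 0 := by linear_combination htt
      rcases mul_eq_zero.1 h with h | h
      · apply hnoE 1
        rw [map_one]
        linear_combination -h
      · apply hnoE (-1)
        rw [map_neg, map_one]
        linear_combination -h
    refine ⟨ht0, htt, ?_, by rw [hsum, htr'], hfac⟩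
    -- the Frobenius image of `t` is again a root
    set u := t ^ Fintype.card E with hu
    have hu' : u * u - algebraMap E (AdjoinRoot f) τ * u + 1 = 0 := by
      have h := congrArg (FiniteField.frobeniusAlgHom E (AdjoinRoot f)) ht
      rw [map_zero, map_add, map_sub, map_mul, map_mul, map_one, AlgHom.commutes] at h
      simpa [FiniteField.coe_frobeniusAlgHom] using h
    have hcases : (u - t) * (u + t - algebraMap E (AdjoinRoot f) τ) = 0 := by
      linear_combination hu' - ht
    rcases mul_eq_zero.1 hcases with h | h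
    · exfalso
      have hut : t ^ Fintype.card E = t := by
        rw [← hu]; linear_combination h
      obtain ⟨a, ha⟩ := mem_range_of_pow_card_eq t hut
      exact hnoE a ha
    · have htu : u * t = 1 := by linear_combination -ht + t * h
      rw [pow_succ, ← hu, htu]

end Cfsg.Agent.Lib.Helper87_S3466_TRI
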