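import Mathlib
import Cfsg.Agent.Lib.Helper40_P4Defs
import Cfsg.Agent.Lib.Helper40_ProjOrd3
import Cfsg.Agent.Lib.Helper2_S3466_EIG
import Cfsg.Agent.Lib.Helper87_S3466_TRI

set_option autoImplicit false
set_option linter.unusedSectionVars false

open Cfsg.Agent.Lib.Helper40_P4Defs
open scoped Kronecker Matrix

universe u

namespace Cfsg.Agent.Lib.Helper24_S3466_LBD

open Cfsg.Agent.Lib.Helper2_S3466_EIG Cfsg.Agent.Lib.Helper87_S3466_TRI

/-- the index type of the fourfold tensor product -/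
abbrev I4 : Type := (Fin 2 × Fin 2) × (Fin 2 × Fin 2)

section general

variable {K : Type*} [Field K]

theorem orderOf_eq_of_forall {M : Type*} [Monoid M] (x : M) (m : ℕ)
    (h : ∀ j : ℕ, x ^ j = 1 ↔ m ∣ j) : orderOf x = m :=
  Nat.dvd_antisymm (orderOf_dvd_of_pow_eq_one ((h m).mpr dvd_rfl))
    ((h _).mp (pow_orderOf_eq_one x))

theorem mapMatrix_ne_zero {n : Type*} [Fintype n] [DecidableEq n] (φ : K →+* K)
    (P : Matrix n n K) (hP : P ≠ 0) : φ.mapMatrix P ≠ 0 := by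
  intro h
  apply hP
  ext i j
  have h1 := congrFun (congrFun h i) j
  simp only [RingHom.mapMatrix_apply, Matrix.map_apply, Matrix.zero_apply] at h1
  exact (map_eq_zero φ).mp h1

/-- the eigenvalues of `kr4 g` for a split `g` -/
noncomputable def cval (φ₁ φ₂ φ₃ φ₄ : K →+* K) (t : K) (s : I4) : K :=
  φ₁ (![t, t⁻¹] s.1.1) * φ₂ (![t, t⁻¹] s.1.2) * (φ₃ (![t, t⁻¹] s.2.1) * φ₄ (![t, t⁻¹] s.2.2))

theorem eig_kr4 (φ₁ φ₂ φ₃ φ₄ : K →+* K) (g : Matrix (Fin 2) (Fin 2) K) (t : K) (ht0 : t ≠ 0)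
    (ht : t * t ≠ 1) (hdet : g.det = 1) (h : (g - t • 1) * (g - t⁻¹ • 1) = 0) :
    ∃ P : I4 → Matrix I4 I4 K, (∀ s, P s ≠ 0) ∧
      EigSys (kr4 φ₁ φ₂ φ₃ φ₄ g) (cval φ₁ φ₂ φ₃ φ₄ t) P := by
  have htu : t ≠ t⁻¹ := by
    intro h1
    apply ht
    nth_rewrite 2 [h1]
    exact mul_inv_cancel₀ ht0
  have h0 := EigSys.of_quadratic g t t⁻¹ htu h
  obtain ⟨hn0, hn1⟩ := EigSys.of_quadratic_ne_zero g t t⁻¹ htu hdet (mul_inv_cancel₀ ht0) h
  set Q : Fin 2 → Matrix (Fin 2) (Fin 2) K :=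
    ![(t - t⁻¹)⁻¹ • (g - t⁻¹ • 1), (t⁻¹ - t)⁻¹ • (g - t • 1)] with hQ
  have hQne : ∀ i, Q i ≠ 0 := by
    intro i
    fin_cases i
    · exact hn0
    · exact hn1
  have e1 := EigSys.map φ₁ h0
  have e2 := EigSys.map φ₂ h0
  have e3 := EigSys.map φ₃ h0
  have e4 := EigSys.map φ₄ h0
  have e12 := EigSys.kron e1 e2
  have e34 := EigSys.kron e3 e4
  have e := EigSys.kron e12 e34
  refine ⟨fun s => (φ₁.mapMatrix (Q s.1.1) ⊗ₖ φ₂.mapMatrix (Q s.1.2)) ⊗ₖ
    (φ₃.mapMatrix (Q s.2.1) ⊗ₖ φ₄.mapMatrix (Q s.2.2)), ?_, ?_⟩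
  · intro s
    exact kronecker_ne_zero
      (kronecker_ne_zero (mapMatrix_ne_zero φ₁ _ (hQne _)) (mapMatrix_ne_zero φ₂ _ (hQne _)))
      (kronecker_ne_zero (mapMatrix_ne_zero φ₃ _ (hQne _)) (mapMatrix_ne_zero φ₄ _ (hQne _)))
  · exact e

theorem kr4_pow_eq_one_iff (φ₁ φ₂ φ₃ φ₄ : K →+* K) (g : Matrix (Fin 2) (Fin 2) K) (t : K)
    (ht0 : t ≠ 0) (ht : t * t ≠ 1) (hdet : g.det = 1) (h : (g - t • 1) * (g - t⁻¹ • 1) = 0)
    (j : ℕ) :
    kr4 φ₁ φ₂ φ₃ φ₄ g ^ j = 1 ↔ ∀ s, cval φ₁ φ₂ φ₃ φ₄ t s ^ j = 1 := by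
  obtain ⟨P, hP, e⟩ := eig_kr4 φ₁ φ₂ φ₃ φ₄ g t ht0 ht hdet h
  have ej := EigSys.pow e j
  constructor
  · intro h1 s
    exact EigSys.eig_eq_one ej h1 s (hP s)
  · intro h1
    exact EigSys.eq_one ej h1

theorem kr4_exists_fixed (φ₁ φ₂ φ₃ φ₄ : K →+* K) (g : Matrix (Fin 2) (Fin 2) K) (t : K)
    (ht0 : t ≠ 0) (ht : t * t ≠ 1) (hdet : g.det = 1) (h : (g - t • 1) * (g - t⁻¹ • 1) = 0)
    (s : I4) (hs : cval φ₁ φ₂ φ₃ φ₄ t s = 1) :
    ∃ v : I4 → K, v ≠ 0 ∧ kr4 φ₁ φ₂ φ₃ φ₄ g *ᵥ v = v := by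
  obtain ⟨P, hP, e⟩ := eig_kr4 φ₁ φ₂ φ₃ φ₄ g t ht0 ht hdet h
  have h1 : kr4 φ₁ φ₂ φ₃ φ₄ g * P s = P s := by
    rw [e.eig s, hs, one_smul]
  obtain ⟨i, j, hij⟩ : ∃ i j, P s i j ≠ 0 := by
    by_contra hcon
    push Not at hcon
    apply hP s
    ext i j
    exact hcon i j
  refine ⟨fun i => P s i j, ?_, ?_⟩
  · intro h2
    exact hij (congrFun h2 i)
  · funext i'
    have h2 := congrFun (congrFun h1 i') j
    rw [Matrix.mul_apply] at h2
    exact h2

end general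


section weights

/-- the sign `+1` for `0`, `-1` for `1` -/
def sg (x : Fin 2) : ℤ := 1 - 2 * (x.val : ℤ)

/-- the weight `±1 ± q ± 3 ± q` -/
def wt (q : ℕ) (s : I4) : ℤ := sg s.1.1 + sg s.1.2 * q + sg s.2.1 * 3 + sg s.2.2 * q

theorem wt_eq (q : ℕ) (s : I4) :
    wt q s = 2 * ((q : ℤ) + 2 - ((s.1.1.val : ℤ) + (s.1.2.val : ℤ) * q + 3 * (s.2.1.val : ℤ) +
      (s.2.2.val : ℤ) * q)) := by
  unfold wt sg
  ring

theorem wt_special (q : ℕ) : wt q ((0, 0), (1, 1)) = -2 := by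
  rw [wt_eq]
  simp
  ring

theorem wt_iff (q n j : ℕ) (hn : Even n) :
    (∀ s : I4, (n : ℤ) ∣ wt q s * j) ↔ (n / 2) ∣ j := by
  obtain ⟨m, hm⟩ := hn
  have hm2 : n / 2 = m := by omega
  rw [hm2]
  constructor
  · intro h
    have h1 := h ((0, 0), (1, 1))
    rw [wt_special] at h1
    have h2 : ((m + m : ℕ) : ℤ) ∣ 2 * (j : ℤ) := by
      rw [← hm]
      have := (dvd_neg (a := (n : ℤ)) (b := -2 * (j : ℤ))).mpr h1
      simpa using this
    have h3 : (m + m) ∣ 2 * j := by exact_mod_cast h2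
    rcases Nat.eq_zero_or_pos m with h0 | h0
    · subst h0
      simp at h3
      subst h3
      exact dvd_zero _
    · have h4 : 2 * m ∣ 2 * j := by rwa [two_mul]
      exact (Nat.mul_dvd_mul_iff_left (by norm_num)).mp h4
  · rintro ⟨j', rfl⟩ s
    rw [wt_eq, hm]
    refine ⟨((q : ℤ) + 2 - ((s.1.1.val : ℤ) + (s.1.2.val : ℤ) * q + 3 * (s.2.1.val : ℤ) +
      (s.2.2.val : ℤ) * q)) * j', ?_⟩
    push_cast
    ring

end weights

section frob

variable {K : Type*} [Field K] [CharP K 3] [Fact (Nat.Prime 3)]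

theorem vec_eq_zpow (u : Kˣ) (x : Fin 2) : ![(u : K), (u : K)⁻¹] x = ((u ^ sg x : Kˣ) : K) := by
  fin_cases x
  · simp [sg]
  · simp [sg]

theorem cval_frob (u : Kˣ) (k : ℕ) (s : I4) :
    cval (RingHom.id K) (iterateFrobenius K 3 k) (iterateFrobenius K 3 1)
      (iterateFrobenius K 3 k) (u : K) s = ((u ^ wt (3 ^ k) s : Kˣ) : K) := by
  unfold cval
  simp only [vec_eq_zpow, RingHom.id_apply, iterateFrobenius_def, ← Units.val_pow_eq_pow_val,
    ← Units.val_mul]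
  congr 1
  unfold wt
  rw [zpow_add, zpow_add, zpow_add, zpow_mul, zpow_mul, zpow_mul, zpow_natCast, zpow_natCast]
  simp only [pow_one, mul_assoc]
  norm_num

theorem cval_pow_iff (u : Kˣ) (k j : ℕ) (s : I4) :
    cval (RingHom.id K) (iterateFrobenius K 3 k) (iterateFrobenius K 3 1)
      (iterateFrobenius K 3 k) (u : K) s ^ j = 1 ↔ (orderOf u : ℤ) ∣ wt (3 ^ k) s * j := by
  rw [cval_frob, ← Units.val_pow_eq_pow_val, Units.val_eq_one, ← zpow_natCast, ← zpow_mul,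
    orderOf_dvd_iff_zpow_eq_one]

/-- the order of `kr4 g` for a split `g` with eigenvalue `u` of even order -/
theorem orderOf_kr4 (k : ℕ) (g : Matrix (Fin 2) (Fin 2) K) (u : Kˣ)
    (hu : (u : K) * (u : K) ≠ 1) (hdet : g.det = 1)
    (h : (g - (u : K) • 1) * (g - (u : K)⁻¹ • 1) = 0) (hev : Even (orderOf u)) :
    orderOf (kr4 (RingHom.id K) (iterateFrobenius K 3 k) (iterateFrobenius K 3 1)
      (iterateFrobenius K 3 k) g) = orderOf u / 2 := by
  apply orderOf_eq_of_forall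
  intro j
  rw [kr4_pow_eq_one_iff _ _ _ _ g (u : K) u.ne_zero hu hdet h j]
  simp only [cval_pow_iff]
  exact wt_iff (3 ^ k) (orderOf u) j hev

end frob


section diag

variable {K : Type*} [Field K]

/-- the diagonal matrix `diag(t, t⁻¹)` -/
def dg (t : K) : Matrix (Fin 2) (Fin 2) K := !![t, 0; 0, t⁻¹]

theorem det_dg (t : K) (ht : t ≠ 0) : (dg t).det = 1 := by
  unfold dg
  rw [Matrix.det_fin_two_of, mul_inv_cancel₀ ht]
  simp

theorem quad_dg (t : K) : (dg t - t • 1) * (dg t - t⁻¹ • 1) = 0 := by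
  unfold dg
  ext i j
  fin_cases i <;> fin_cases j <;> simp [Matrix.mul_apply, Fin.sum_univ_two]

theorem unit_sq_ne_one (u : Kˣ) (h : 2 < orderOf u) : (u : K) * (u : K) ≠ 1 := by
  intro h1
  have h2 : u ^ 2 = 1 := by
    apply Units.ext
    rw [Units.val_pow_eq_pow_val, pow_two, h1, Units.val_one]
  have h3 := orderOf_le_of_pow_eq_one (by norm_num : 0 < 2) h2
  omega

end diag

section LBD

variable {E : Type u} [Field E] [Fintype E] [CharP E 3] [Fact (Nat.Prime 3)] (k : ℕ)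

theorem exists_gen (hcard : Fintype.card E = 3 ^ (2 * k)) :
    ∃ u : Eˣ, orderOf u = (3 ^ k) ^ 2 - 1 := by
  obtain ⟨u, hu⟩ := IsCyclic.exists_ofOrder_eq_natCard (α := Eˣ)
  refine ⟨u, ?_⟩
  rw [hu, Nat.card_units, Nat.card_eq_fintype_card, hcard]
  congr 1
  ring

theorem exists_odd (hk : 1 ≤ k) : ∃ r : ℕ, 1 ≤ r ∧ 3 ^ k = 2 * r + 1 := by
  have h1 : Odd (3 ^ k) := Odd.pow (by decide)
  obtain ⟨r, hr⟩ := h1
  refine ⟨r, ?_, hr⟩
  have h2 : 3 ^ 1 ≤ 3 ^ k := Nat.pow_le_pow_right (by norm_num) hk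
  omega

theorem lbd_split (hk : 1 ≤ k) (hkev : Even k) (hcard : Fintype.card E = 3 ^ (2 * k)) :
    ∃ g : Matrix (Fin 2) (Fin 2) E, g.det = 1 ∧
      orderOf (kr4 (RingHom.id E) (iterateFrobenius E 3 k) (iterateFrobenius E 3 1)
        (iterateFrobenius E 3 k) g) = ((3 ^ k) ^ 2 - 1) / 2 := by
  obtain ⟨u, hu⟩ := exists_gen k hcard
  obtain ⟨r, hr1, hr⟩ := exists_odd k hk
  have hN : orderOf u = 4 * r * (r + 1) := by
    rw [hu, hr]
    have : (2 * r + 1) ^ 2 = 4 * r * (r + 1) + 1 := by ring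
    rw [this]
    omega
  have h2 : 2 < orderOf u := by
    rw [hN]
    nlinarith
  have hev : Even (orderOf u) := by
    rw [hN]
    exact ⟨2 * r * (r + 1), by ring⟩
  refine ⟨dg (u : E), det_dg _ u.ne_zero, ?_⟩
  rw [orderOf_kr4 k (dg (u : E)) u (unit_sq_ne_one u h2) (det_dg _ u.ne_zero) (quad_dg _) hev, hu]

theorem lbd_minus (hk : 1 ≤ k) (hkev : Even k) (hcard : Fintype.card E = 3 ^ (2 * k)) :
    ∃ g : Matrix (Fin 2) (Fin 2) E, g.det = 1 ∧
      orderOf (kr4 (RingHom.id E) (iterateFrobenius E 3 k) (iterateFrobenius E 3 1)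
        (iterateFrobenius E 3 k) g) = 3 ^ k - 1 ∧
      ∃ v : (Fin 2 × Fin 2) × (Fin 2 × Fin 2) → E, v ≠ 0 ∧
        kr4 (RingHom.id E) (iterateFrobenius E 3 k) (iterateFrobenius E 3 1)
          (iterateFrobenius E 3 k) g *ᵥ v = v := by
  obtain ⟨u₀, hu₀⟩ := exists_gen k hcard
  obtain ⟨r, hr1, hr⟩ := exists_odd k hk
  have hN : orderOf u₀ = 4 * r * (r + 1) := by
    rw [hu₀, hr]
    have : (2 * r + 1) ^ 2 = 4 * r * (r + 1) + 1 := by ring
    rw [this]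
    omega
  set u : Eˣ := u₀ ^ (r + 1) with hudef
  have hu : orderOf u = 4 * r := by
    rw [hudef, orderOf_pow_of_dvd (by omega) (by rw [hN]; exact Dvd.intro_left _ rfl), hN]
    exact Nat.mul_div_cancel _ (by omega)
  have h2 : 2 < orderOf u := by rw [hu]; omega
  have hev : Even (orderOf u) := by
    rw [hu]
    exact ⟨2 * r, by ring⟩
  refine ⟨dg (u : E), det_dg _ u.ne_zero, ?_, ?_⟩
  · rw [orderOf_kr4 k (dg (u : E)) u (unit_sq_ne_one u h2) (det_dg _ u.ne_zero) (quad_dg _) hev,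
      hu, hr]
    omega
  · apply kr4_exists_fixed _ _ _ _ (dg (u : E)) (u : E) u.ne_zero (unit_sq_ne_one u h2)
      (det_dg _ u.ne_zero) (quad_dg _) ((0, 0), (1, 0))
    have h3 := (cval_pow_iff u k 1 ((0, 0), (1, 0))).mpr ?_
    · rwa [pow_one] at h3
    · rw [hu, hr, wt_eq]
      refine ⟨1, ?_⟩
      simp
      ring

theorem lbd_plus (hk : 1 ≤ k) (hkev : Even k) (hcard : Fintype.card E = 3 ^ (2 * k)) :
    ∃ g : Matrix (Fin 2) (Fin 2) E, g.det = 1 ∧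
      orderOf (kr4 (RingHom.id E) (iterateFrobenius E 3 k) (iterateFrobenius E 3 1)
        (iterateFrobenius E 3 k) g) = 3 ^ k + 1 ∧
      ∃ v : (Fin 2 × Fin 2) × (Fin 2 × Fin 2) → E, v ≠ 0 ∧
        kr4 (RingHom.id E) (iterateFrobenius E 3 k) (iterateFrobenius E 3 1)
          (iterateFrobenius E 3 k) g *ᵥ v = v := by
  obtain ⟨u₀, hu₀⟩ := exists_gen k hcard
  obtain ⟨r, hr1, hr⟩ := exists_odd k hk
  have hN : orderOf u₀ = 4 * r * (r + 1) := by
    rw [hu₀, hr]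
    have : (2 * r + 1) ^ 2 = 4 * r * (r + 1) + 1 := by ring
    rw [this]
    omega
  set u : Eˣ := u₀ ^ r with hudef
  have hu : orderOf u = 4 * (r + 1) := by
    rw [hudef, orderOf_pow_of_dvd (by omega) (by rw [hN]; exact ⟨4 * (r + 1), by ring⟩), hN]
    have : 4 * r * (r + 1) = 4 * (r + 1) * r := by ring
    rw [this]
    exact Nat.mul_div_cancel _ (by omega)
  have h2 : 2 < orderOf u := by rw [hu]; omega
  have hev : Even (orderOf u) := by
    rw [hu]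
    exact ⟨2 * (r + 1), by ring⟩
  refine ⟨dg (u : E), det_dg _ u.ne_zero, ?_, ?_⟩
  · rw [orderOf_kr4 k (dg (u : E)) u (unit_sq_ne_one u h2) (det_dg _ u.ne_zero) (quad_dg _) hev,
      hu, hr]
    omega
  · apply kr4_exists_fixed _ _ _ _ (dg (u : E)) (u : E) u.ne_zero (unit_sq_ne_one u h2)
      (det_dg _ u.ne_zero) (quad_dg _) ((1, 0), (0, 0))
    have h3 := (cval_pow_iff u k 1 ((1, 0), (0, 0))).mpr ?_
    · rwa [pow_one] at h3
    · rw [hu, hr, wt_eq]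
      refine ⟨1, ?_⟩
      simp
      ring


theorem kr4_entry {K : Type*} [CommRing K] (φ₁ φ₂ φ₃ φ₄ : K →+* K)
    (g : Matrix (Fin 2) (Fin 2) K) (i1 i2 i3 i4 j1 j2 j3 j4 : Fin 2) :
    kr4 φ₁ φ₂ φ₃ φ₄ g ((i1, i2), (i3, i4)) ((j1, j2), (j3, j4)) =
      (φ₁ (g i1 j1) * φ₂ (g i2 j2)) * (φ₃ (g i3 j3) * φ₄ (g i4 j4)) := by
  simp [kr4_apply, kr2_apply, Matrix.kroneckerMap_apply]

theorem kr4_map {K K' : Type*} [CommRing K] [CommRing K'] (f : K →+* K')
    (φ₁ φ₂ φ₃ φ₄ : K →+* K) (ψ₁ ψ₂ ψ₃ ψ₄ : K' →+* K')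
    (h₁ : ∀ x, f (φ₁ x) = ψ₁ (f x)) (h₂ : ∀ x, f (φ₂ x) = ψ₂ (f x))
    (h₃ : ∀ x, f (φ₃ x) = ψ₃ (f x)) (h₄ : ∀ x, f (φ₄ x) = ψ₄ (f x))
    (g : Matrix (Fin 2) (Fin 2) K) :
    f.mapMatrix (kr4 φ₁ φ₂ φ₃ φ₄ g) = kr4 ψ₁ ψ₂ ψ₃ ψ₄ (f.mapMatrix g) := by
  ext ⟨⟨i1, i2⟩, ⟨i3, i4⟩⟩ ⟨⟨j1, j2⟩, ⟨j3, j4⟩⟩
  rw [RingHom.mapMatrix_apply, Matrix.map_apply, kr4_entry, kr4_entry]
  simp only [map_mul, h₁, h₂, h₃, h₄, RingHom.mapMatrix_apply, Matrix.map_apply]

theorem lbd_nine :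
    ∃ g : Matrix (Fin 2) (Fin 2) E, g.det = 1 ∧
      orderOf (kr4 (RingHom.id E) (iterateFrobenius E 3 k) (iterateFrobenius E 3 1)
        (iterateFrobenius E 3 k) g) = 3 ∧
      1 + kr4 (RingHom.id E) (iterateFrobenius E 3 k) (iterateFrobenius E 3 1)
          (iterateFrobenius E 3 k) g +
        kr4 (RingHom.id E) (iterateFrobenius E 3 k) (iterateFrobenius E 3 1)
          (iterateFrobenius E 3 k) g ^ 2 ≠ 0 := by
  have h3 : (3 : E) = 0 := by
    have := CharP.cast_eq_zero E 3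
    exact_mod_cast this
  have h2 : (2 : E) ≠ 0 := by
    intro h
    have h1 : (1 : E) = 0 := by linear_combination h3 - h
    exact one_ne_zero h1
  set g : Matrix (Fin 2) (Fin 2) E := !![1, 1; 0, 1] with hg
  have hg2 : g ^ 2 = !![1, 2; 0, 1] := by
    rw [hg, pow_two, Matrix.mul_fin_two]
    norm_num
  have hg3 : g ^ 3 = 1 := by
    rw [pow_succ, hg2, hg, Matrix.mul_fin_two, Matrix.one_fin_two]
    simp only [mul_one, mul_zero, add_zero, zero_add]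
    have : (1 : E) + 2 = 0 := by linear_combination h3
    rw [this]
  set M := kr4 (RingHom.id E) (iterateFrobenius E 3 k) (iterateFrobenius E 3 1)
        (iterateFrobenius E 3 k) g with hM
  have hM3 : M ^ 3 = 1 := by rw [hM, ← map_pow, hg3, map_one]
  have hM2 : M ^ 2 = kr4 (RingHom.id E) (iterateFrobenius E 3 k) (iterateFrobenius E 3 1)
        (iterateFrobenius E 3 k) (g ^ 2) := by rw [hM, ← map_pow]
  have hent : (1 + M + M ^ 2 : Matrix I4 I4 E) ((0, 0), (1, 1)) ((1, 1), (1, 1)) = 2 := by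
    have hf2 : ∀ φ : E →+* E, φ 2 = 2 := fun φ => map_ofNat φ 2
    rw [Matrix.add_apply, Matrix.add_apply, hM2, hM, kr4_entry, kr4_entry, hg2, hg]
    simp [hf2]
    norm_num
    linear_combination h3
  have hne : 1 + M + M ^ 2 ≠ 0 := by
    intro h
    rw [h] at hent
    exact h2 hent.symm
  refine ⟨g, by rw [hg, Matrix.det_fin_two_of]; ring, ?_, hne⟩
  apply orderOf_eq_prime hM3
  intro h1
  apply hne
  rw [h1]
  have h33 : (1 : Matrix I4 I4 E) + 1 + 1 ^ 2 = (3 : E) • (1 : Matrix I4 I4 E) := by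
    rw [one_pow]
    ext i j
    simp only [Matrix.add_apply, Matrix.smul_apply, Matrix.one_apply, smul_eq_mul]
    split_ifs <;> ring
  rw [h33, h3, zero_smul]


theorem mnum_two (Q : ℕ) (hQ : 2 ≤ Q) : Cfsg.Agent.Lib.Helper40_ProjOrd2.mnum Q 2 = Q + 1 := by
  have h := Cfsg.Agent.Lib.Helper40_ProjOrd3.mnum_mul Q 2
  have h2 : Q ^ 2 - 1 = (Q + 1) * (Q - 1) := by
    obtain ⟨m, rfl⟩ : ∃ m, Q = m + 1 := ⟨Q - 1, by omega⟩
    have : (m + 1) ^ 2 = (m + 1 + 1) * m + 1 := by ring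
    rw [this]
    simp
  rw [h2] at h
  exact Nat.eq_of_mul_eq_mul_right (by omega) h

theorem three_smul_eq_zero {n : Type*} [Fintype n] [DecidableEq n] (X : Matrix n n E) :
    (3 : ℕ) • X = 0 := by
  ext i j
  rw [Matrix.smul_apply, nsmul_eq_mul, Matrix.zero_apply]
  have := CharP.cast_eq_zero E 3
  rw [this, zero_mul]

theorem cube_eq_one_of_sq_zero (g : Matrix (Fin 2) (Fin 2) E) (h : (g - 1) ^ 2 = 0) :
    g ^ 3 = 1 := by
  have h1 : g ^ 3 = 1 + (g - 1) * (g - 1) ^ 2 + (3 : ℕ) • ((g - 1) * g) := by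
    noncomm_ring
  rw [h1, h, mul_zero, three_smul_eq_zero, add_zero, add_zero]

theorem mapMatrix_injective' {K K' : Type*} [Field K] [CommRing K'] [Nontrivial K']
    {n : Type*} [Fintype n] [DecidableEq n] (f : K →+* K') :
    Function.Injective (f.mapMatrix : Matrix n n K → Matrix n n K') := by
  intro A B h
  ext i j
  have h1 := congrFun (congrFun h i) j
  simp only [RingHom.mapMatrix_apply, Matrix.map_apply] at h1
  exact f.injective h1

/-- for a split element the powers are detected by the eigenvalue -/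
theorem pow_eq_one_iff_of_quad {K : Type*} [Field K] (g : Matrix (Fin 2) (Fin 2) K) (t : K)
    (ht0 : t ≠ 0) (ht : t * t ≠ 1) (hdet : g.det = 1) (h : (g - t • 1) * (g - t⁻¹ • 1) = 0)
    (j : ℕ) : g ^ j = 1 ↔ t ^ j = 1 := by
  have htu : t ≠ t⁻¹ := by
    intro h1
    apply ht
    nth_rewrite 2 [h1]
    exact mul_inv_cancel₀ ht0
  have h0 := EigSys.of_quadratic g t t⁻¹ htu h
  obtain ⟨hn0, -⟩ := EigSys.of_quadratic_ne_zero g t t⁻¹ htu hdet (mul_inv_cancel₀ ht0) h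
  have ej := EigSys.pow h0 j
  constructor
  · intro h1
    have := EigSys.eig_eq_one ej h1 0 hn0
    simpa using this
  · intro h1
    apply EigSys.eq_one ej
    intro s
    fin_cases s
    · simpa using h1
    · simp [inv_pow, h1]

theorem lbd_nonsplit (hk : 1 ≤ k) (hkev : Even k) (hcard : Fintype.card E = 3 ^ (2 * k)) :
    ∃ g : Matrix (Fin 2) (Fin 2) E, g.det = 1 ∧
      orderOf (kr4 (RingHom.id E) (iterateFrobenius E 3 k) (iterateFrobenius E 3 1)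
        (iterateFrobenius E 3 k) g) = ((3 ^ k) ^ 2 + 1) / 2 := by
  obtain ⟨r, hr1, hr⟩ := exists_odd k hk
  have hQ : Fintype.card E = (3 ^ k) ^ 2 := by rw [hcard]; ring
  have hq9 : 9 ≤ (3 ^ k) ^ 2 := by
    rw [hr]
    nlinarith
  obtain ⟨D, hdet, hD⟩ := Cfsg.Agent.Lib.Helper40_ProjOrd3.exists_singer (F := E) 3 2
    (by norm_num) ((3 ^ k) ^ 2 + 1) (by rw [mnum_two _ (by rw [hQ]; omega), hQ])
  refine ⟨D, hdet, ?_⟩
  rcases sl2_trichotomy D hdet with h | h | ⟨t, ht0, htt, htQ, -, hquad⟩ |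
    ⟨E', _, _, t, ht0, htt, htQ, -, hquad⟩
  · exfalso
    have h1 := (hD 3).mp (cube_eq_one_of_sq_zero D h)
    have := Nat.le_of_dvd (by norm_num) h1
    omega
  · exfalso
    have h0 : (-D - 1) ^ 2 = 0 := by
      have : (-D - 1) ^ 2 = (D + 1) ^ 2 := by noncomm_ring
      rw [this, h]
    have h1 := cube_eq_one_of_sq_zero (-D) h0
    have h2 : D ^ 6 = 1 := by
      have : D ^ 6 = ((-D) ^ 3) ^ 2 := by
        rw [← pow_mul, Even.neg_pow (by decide)]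
      rw [this, h1, one_pow]
    have h3 := (hD 6).mp h2
    have := Nat.le_of_dvd (by norm_num) h3
    omega
  · exfalso
    have h1 : D ^ (Fintype.card E - 1) = 1 :=
      (pow_eq_one_iff_of_quad D t ht0 htt hdet hquad _).mpr htQ
    have h2 := (hD _).mp h1
    rw [hQ] at h2
    have := Nat.le_of_dvd (by omega) h2
    omega
  · set f : E →+* E' := algebraMap E E' with hf
    have hchar : CharP E' 3 := charP_of_injective_algebraMap f.injective 3
    set D' := f.mapMatrix D with hD'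
    have hdet' : D'.det = 1 := by
      rw [hD', ← RingHom.map_det, hdet, map_one]
    set u : E'ˣ := Units.mk0 t ht0 with hu
    have hord : orderOf u = (3 ^ k) ^ 2 + 1 := by
      apply orderOf_eq_of_forall
      intro j
      rw [← hD j, ← Units.val_eq_one, Units.val_pow_eq_pow_val, hu, Units.val_mk0,
        ← pow_eq_one_iff_of_quad D' t ht0 htt hdet' hquad j, hD', ← map_pow]
      constructor
      · intro h1
        apply mapMatrix_injective' f
        rw [h1, map_one]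
      · intro h1
        rw [h1, map_one]
    have hev : Even (orderOf u) := by
      rw [hord, hr]
      exact ⟨2 * r * r + 2 * r + 1, by ring⟩
    have h1 := orderOf_kr4 k D' u (by rw [hu, Units.val_mk0]; exact htt) hdet'
      (by rw [hu, Units.val_mk0]; exact hquad) hev
    rw [hord] at h1
    rw [← h1, hD', ← kr4_map f (RingHom.id E) (iterateFrobenius E 3 k) (iterateFrobenius E 3 1)
      (iterateFrobenius E 3 k) (RingHom.id E') (iterateFrobenius E' 3 k)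
      (iterateFrobenius E' 3 1) (iterateFrobenius E' 3 k) (fun x => rfl)
      (fun x => by rw [iterateFrobenius_def, iterateFrobenius_def, map_pow])
      (fun x => by rw [iterateFrobenius_def, iterateFrobenius_def, map_pow])
      (fun x => by rw [iterateFrobenius_def, iterateFrobenius_def, map_pow])]
    exact (orderOf_injective
      ((f.mapMatrix : Matrix I4 I4 E →+* Matrix I4 I4 E') : Matrix I4 I4 E →* Matrix I4 I4 E')
      (mapMatrix_injective' f) _).symm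

end LBD

end Cfsg.Agent.Lib.Helper24_S3466_LBD
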