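import Mathlib
import Cfsg.Prelude.Def_Transfer

/-!
# S4016 (cyclic Sylow `p`-subgroup + all `p'`-subgroups abelian ⇒ `p`-nilpotent or `p`-closed)

Architect file (helper87): common definitions for the S4016 packages.

* `Hyp p G`   : every Sylow `p`-subgroup of `G` is cyclic and every subgroup of order prime to `p` is
  commutative (the hypothesis of S4016, closed under subgroups);
* `Concl p G` : `G` has a normal `p`-complement or all its Sylow `p`-subgroups are normal.
-/

set_option autoImplicit false

namespace Cfsg.Agent.Lib.Helper87_S4016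

/-- The hypothesis of S4016. -/
def Hyp (p : ℕ) (G : Type*) [Group G] : Prop :=
  (∀ P : Sylow p G, IsCyclic ↥P) ∧
    ∀ H : Subgroup G, ¬ p ∣ Nat.card ↥H → ∀ a ∈ H, ∀ b ∈ H, a * b = b * a

/-- The conclusion of S4016. -/
def Concl (p : ℕ) (G : Type*) [Group G] : Prop :=
  Cfsg.HasNormalPComplement p G ∨ ∀ P : Sylow p G, (P : Subgroup G).Normal

end Cfsg.Agent.Lib.Helper87_S4016
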