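import Mathlib
import Cfsg.Agent.Lib.Helper87_S4016Defs

/-!
# S4016: the configuration of a minimal counterexample (architect helper87)

`Cfg p P L l`: `G` is "simple" (no proper nontrivial normal subgroup), `P` a cyclic non-normal Sylow
`p`-subgroup, every `p'`-subgroup abelian, `N(P) = P ⋊ L` with `L` a `p'`-group, `l ∈ L` acts
fixed-point-freely on `P`, and every proper subgroup containing `P` and `l` lies in `N(P)`.
-/

set_option autoImplicit false

namespace Cfsg.Agent.Lib.Helper87_S4016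

/-- The configuration reached by a minimal counterexample to S4016. -/
structure Cfg {G : Type*} [Group G] (p : ℕ) (P : Sylow p G) (L : Subgroup G) (l : G) : Prop where
  hab : ∀ X : Subgroup G, ¬ p ∣ Nat.card ↥X → ∀ a ∈ X, ∀ b ∈ X, a * b = b * a
  cyc : IsCyclic ↥P
  simple : ∀ M : Subgroup G, M.Normal → M = ⊥ ∨ M = ⊤
  notNormal : ¬ (P : Subgroup G).Normal
  L_le : L ≤ Subgroup.normalizer ((P : Subgroup G) : Set G)
  disj : (P : Subgroup G) ⊓ L = ⊥
  sup : (P : Subgroup G) ⊔ L = Subgroup.normalizer ((P : Subgroup G) : Set G)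
  L_cop : ¬ p ∣ Nat.card ↥L
  l_mem : l ∈ L
  fpf : ∀ y ∈ P, y ≠ 1 → l * y ≠ y * l
  max : ∀ X : Subgroup G, X ≠ ⊤ → (P : Subgroup G) ≤ X → l ∈ X →
    X ≤ Subgroup.normalizer ((P : Subgroup G) : Set G)

end Cfsg.Agent.Lib.Helper87_S4016
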