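import Mathlib
import Cfsg.Agent.Lib.Helper87_S4016Cfg

/-!
# S4016 package NOPP (for helper87)

`P` centralizes every normal `p'`-subgroup `N`.
-/

set_option autoImplicit false
open Cfsg.Agent.Lib.Helper87_S4016

namespace Cfsg.Agent.Lib.Helper24_S4016_NOPP

/-- the order of `N ⊔ K`, `N` normal, is prime to `p` if the orders of `N` and `K` are -/
theorem not_dvd_card_sup {G : Type*} [Group G] [Finite G] {p : ℕ} (hp : p.Prime)
    (N K : Subgroup G) [N.Normal] (hN : ¬ p ∣ Nat.card ↥N) (hK : ¬ p ∣ Nat.card ↥K) :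
    ¬ p ∣ Nat.card ↥(N ⊔ K) := by
  have hle : N ≤ N ⊔ K := le_sup_left
  have h1 : Nat.card ↥(N.subgroupOf (N ⊔ K)) * (N.subgroupOf (N ⊔ K)).index = Nat.card ↥(N ⊔ K) :=
    Subgroup.card_mul_index _
  have h2 : Nat.card ↥(N.subgroupOf (N ⊔ K)) = Nat.card ↥N :=
    Nat.card_congr (Subgroup.subgroupOfEquivOfLe hle).toEquiv
  have h3 : (N.subgroupOf (N ⊔ K)).index = N.relIndex K := Subgroup.relIndex_sup_left K N
  rw [h2, h3] at h1
  rw [← h1]
  intro hdvd
  rcases (Nat.Prime.dvd_mul hp).1 hdvd with h | h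
  · exact hN h
  · exact hK (h.trans (Subgroup.relIndex_dvd_card N K))

/-- **NOPP** -/
theorem NOPP {G : Type*} [Group G] [Finite G] {p : ℕ} [Fact p.Prime] (P : Sylow p G)
    (hPab : ∀ a ∈ P, ∀ b ∈ P, a * b = b * a)
    (hab : ∀ X : Subgroup G, ¬ p ∣ Nat.card ↥X → ∀ a ∈ X, ∀ b ∈ X, a * b = b * a)
    (l : G) (hl : l ∈ Subgroup.normalizer ((P : Subgroup G) : Set G)) (hcop : (orderOf l).Coprime p)
    (hfpf : ∀ y ∈ P, y ≠ 1 → l * y ≠ y * l)
    (N : Subgroup G) [hNn : N.Normal] (hN : ¬ p ∣ Nat.card ↥N) :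
    ∀ y ∈ P, ∀ n ∈ N, y * n = n * y := by
  classical
  have hpp : p.Prime := Fact.out
  -- `l` centralizes `N`
  have hZ : ¬ p ∣ Nat.card ↥(Subgroup.zpowers l) := by
    rw [Nat.card_zpowers]
    intro hdvd
    have := Nat.Coprime.eq_one_of_dvd hcop.symm hdvd
    exact hpp.one_lt.ne' this
  have hlN : ∀ n ∈ N, l * n = n * l := by
    intro n hn
    exact hab (N ⊔ Subgroup.zpowers l) (not_dvd_card_sup hpp N _ hN hZ) l
      (Subgroup.mem_sup_right (Subgroup.mem_zpowers l)) n (Subgroup.mem_sup_left hn)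
  -- conjugation by `l` preserves `P`
  have hlP : ∀ y ∈ P, l * y * l⁻¹ ∈ (P : Subgroup G) := by
    intro y hy
    exact (Subgroup.mem_normalizer_iff.1 hl y).1 hy
  -- the commutator map on `P` is injective, hence surjective
  let φ : ↥(P : Subgroup G) → ↥(P : Subgroup G) := fun y =>
    ⟨l * y * l⁻¹ * (y : G)⁻¹, Subgroup.mul_mem _ (hlP y y.2) (Subgroup.inv_mem _ y.2)⟩
  have hφinj : Function.Injective φ := by
    intro y y' hyy'
    have h1 : l * y * l⁻¹ * (y : G)⁻¹ = l * y' * l⁻¹ * (y' : G)⁻¹ := congrArg Subtype.val hyy'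
    -- `w = y'⁻¹ y` commutes with `l`
    have hw : ((y' : G)⁻¹ * y) ∈ (P : Subgroup G) :=
      Subgroup.mul_mem _ (Subgroup.inv_mem _ y'.2) y.2
    have h2 : l * ((y' : G)⁻¹ * y) * l⁻¹ = (y' : G)⁻¹ * y := by
      have ha : l * (y' : G)⁻¹ * l⁻¹ ∈ (P : Subgroup G) := hlP _ (Subgroup.inv_mem _ y'.2)
      have hb : l * (y : G) * l⁻¹ ∈ (P : Subgroup G) := hlP _ y.2
      have h3 : l * ((y' : G)⁻¹ * y) * l⁻¹ = (l * y' * l⁻¹)⁻¹ * (l * y * l⁻¹) := by group
      rw [h3]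
      have h4 : l * y * l⁻¹ = l * y' * l⁻¹ * (y' : G)⁻¹ * y := by
        rw [← h1]; group
      rw [h4]
      group
    by_contra hne
    have hw1 : (y' : G)⁻¹ * y ≠ 1 := by
      intro h
      apply hne
      apply Subtype.ext
      have : (y : G) = y' := by
        calc (y : G) = y' * ((y' : G)⁻¹ * y) := by group
          _ = y' := by rw [h, mul_one]
      exact this
    apply hfpf _ hw hw1
    calc l * ((y' : G)⁻¹ * y) = l * ((y' : G)⁻¹ * y) * l⁻¹ * l := by group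
      _ = (y' : G)⁻¹ * y * l := by rw [h2]
  have hφsurj : Function.Surjective φ := Finite.injective_iff_surjective.1 hφinj
  intro z hz n hn
  obtain ⟨y, hy⟩ := hφsurj ⟨z, hz⟩
  have hzy : z = l * y * l⁻¹ * (y : G)⁻¹ := (congrArg Subtype.val hy).symm
  -- `y⁻¹ n y ∈ N` is centralized by `l`
  have hn1 : (y : G)⁻¹ * n * y ∈ N := by
    have := hNn.conj_mem n hn (y : G)⁻¹
    simpa using this
  have h5 : l⁻¹ * ((y : G)⁻¹ * n * y) * l = (y : G)⁻¹ * n * y := by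
    have := hlN _ hn1
    calc l⁻¹ * ((y : G)⁻¹ * n * y) * l = l⁻¹ * (((y : G)⁻¹ * n * y) * l) := by group
      _ = l⁻¹ * (l * ((y : G)⁻¹ * n * y)) := by rw [this]
      _ = (y : G)⁻¹ * n * y := by group
  have h6 : l * n * l⁻¹ = n := by
    have := hlN n hn
    calc l * n * l⁻¹ = n * l * l⁻¹ := by rw [this]
      _ = n := by group
  have h7 : z * n * z⁻¹ = n := by
    rw [hzy]
    calc l * y * l⁻¹ * (y : G)⁻¹ * n * (l * y * l⁻¹ * (y : G)⁻¹)⁻¹
        = l * y * (l⁻¹ * ((y : G)⁻¹ * n * y) * l) * (y : G)⁻¹ * l⁻¹ := by group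
      _ = l * y * ((y : G)⁻¹ * n * y) * (y : G)⁻¹ * l⁻¹ := by rw [h5]
      _ = l * n * l⁻¹ := by group
      _ = n := h6
  calc z * n = z * n * z⁻¹ * z := by group
    _ = n * z := by rw [h7]

end Cfsg.Agent.Lib.Helper24_S4016_NOPP
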