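import Mathlib
import Cfsg.Agent.Lib.Helper24_S4016_NOPP

/-!
# S4016 package BSWFIN, part (b) (second seat, for helper87)

`false_of_bsw`: the conclusion `Q, D` of the abstract Brauer-Suzuki-Wall theorem (S3282) is
incompatible with the `p = 3` configuration of S4016 (all `3'`-subgroups abelian, `t` centralizing
and `s` inverting a Sylow `3`-subgroup `P`).
-/

set_option autoImplicit false

namespace Cfsg.Agent.Lib.Helper24_S4016_BSWFINb

/-- the order of `N ⊔ K`, `K` normalizing `N`, is prime to `p` if the orders of `N` and `K` are -/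
theorem not_dvd_card_sup' {G : Type*} [Group G] [Finite G] {p : ℕ} (hp : p.Prime)
    (N K : Subgroup G) (hKN : K ≤ Subgroup.normalizer (N : Set G)) (hN : ¬ p ∣ Nat.card ↥N)
    (hK : ¬ p ∣ Nat.card ↥K) : ¬ p ∣ Nat.card ↥(N ⊔ K) := by
  have hNN : N ≤ Subgroup.normalizer (N : Set G) := Subgroup.le_normalizer
  have hn : (N.subgroupOf (Subgroup.normalizer (N : Set G))).Normal := Subgroup.normal_in_normalizer
  have h1 : Nat.card ↥(N.subgroupOf (Subgroup.normalizer (N : Set G))) = Nat.card ↥N :=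
    Nat.card_congr (Subgroup.subgroupOfEquivOfLe hNN).toEquiv
  have h2 : Nat.card ↥(K.subgroupOf (Subgroup.normalizer (N : Set G))) = Nat.card ↥K :=
    Nat.card_congr (Subgroup.subgroupOfEquivOfLe hKN).toEquiv
  have h3 := Cfsg.Agent.Lib.Helper24_S4016_NOPP.not_dvd_card_sup hp
    (N.subgroupOf (Subgroup.normalizer (N : Set G))) (K.subgroupOf (Subgroup.normalizer (N : Set G)))
    (by rw [h1]; exact hN) (by rw [h2]; exact hK)
  rw [← Subgroup.subgroupOf_sup hNN hKN] at h3
  have h4 : Nat.card ↥((N ⊔ K).subgroupOf (Subgroup.normalizer (N : Set G))) = Nat.card ↥(N ⊔ K) :=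
    Nat.card_congr (Subgroup.subgroupOfEquivOfLe (sup_le hNN hKN)).toEquiv
  rwa [h4] at h3

/-- an involution-type lemma: if `N(D) = D ⊔ zpowers u` with `u` an involution inverting `D`, then
the product of two elements of `N(D)` outside `D` lies in `D` -/
theorem mul_mem_of_not_mem {G : Type*} [Group G] (D : Subgroup G) (u : G) (hu : u * u = 1)
    (hinv : ∀ d ∈ D, u * d * u⁻¹ = d⁻¹) {a b : G} (ha : a ∈ D ⊔ Subgroup.zpowers u)
    (hb : b ∈ D ⊔ Subgroup.zpowers u) (haD : a ∉ D) (hbD : b ∉ D) : a * b ∈ D := by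
  have huinv : u⁻¹ = u := inv_eq_of_mul_eq_one_right hu
  have hconj : ∀ d ∈ D, u * d * u ∈ D := by
    intro d hd
    have := hinv d hd
    rw [huinv] at this
    rw [this]
    exact D.inv_mem hd
  -- every element of `D ⊔ zpowers u` is in `D` or in `D u`
  have key : ∀ x ∈ D ⊔ Subgroup.zpowers u, x ∈ D ∨ x * u ∈ D := by
    let M : Subgroup G :=
      { carrier := {x | x ∈ D ∨ x * u ∈ D}
        one_mem' := Or.inl D.one_mem
        mul_mem' := by
          rintro x y (hx | hx) (hy | hy)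
          · exact Or.inl (D.mul_mem hx hy)
          · right
            rw [mul_assoc]
            exact D.mul_mem hx hy
          · right
            have h1 : x * y * u = (x * u) * (u * y * u) := by
              calc x * y * u = x * (u * u) * y * u := by rw [hu, mul_one]
                _ = (x * u) * (u * y * u) := by group
            rw [h1]
            exact D.mul_mem hx (hconj y hy)
          · left
            have h1 : x * y = (x * u) * (u * (y * u) * u) := by
              calc x * y = x * (u * u) * y * (u * u) := by rw [hu, mul_one, mul_one]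
                _ = (x * u) * (u * (y * u) * u) := by group
            rw [h1]
            exact D.mul_mem hx (hconj _ hy)
        inv_mem' := by
          rintro x (hx | hx)
          · exact Or.inl (D.inv_mem hx)
          · right
            have h1 : x⁻¹ * u = u * (x * u)⁻¹ * u := by
              calc x⁻¹ * u = (u * u) * x⁻¹ * u := by rw [hu, one_mul]
                _ = u * (x * u)⁻¹ * u := by rw [mul_inv_rev, huinv]; group
            rw [h1]
            exact hconj _ (D.inv_mem hx) }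
    have hle : D ⊔ Subgroup.zpowers u ≤ M := by
      apply sup_le
      · intro x hx
        exact Or.inl hx
      · rw [Subgroup.zpowers_le]
        right
        show u * u ∈ D
        rw [hu]
        exact D.one_mem
    intro x hx
    exact hle hx
  have ha' : a * u ∈ D := (key a ha).resolve_left haD
  have hb' : b * u ∈ D := (key b hb).resolve_left hbD
  have h1 : a * b = (a * u) * (u * (b * u) * u) := by
    calc a * b = a * (u * u) * b * (u * u) := by rw [hu, mul_one, mul_one]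
      _ = (a * u) * (u * (b * u) * u) := by group
  rw [h1]
  exact D.mul_mem ha' (hconj _ hb')

/-- an element of a `3`-subgroup whose square is `1` is `1` -/
theorem eq_one_of_sq_of_three {G : Type*} [Group G] {H : Subgroup G} (hH : IsPGroup 3 ↥H) {z : G}
    (hz : z ∈ H) (h2 : z * z = 1) : z = 1 := by
  obtain ⟨k, hk⟩ := hH ⟨z, hz⟩
  have hk' : z ^ 3 ^ k = 1 := by
    have := congrArg Subtype.val hk
    rwa [Subgroup.coe_pow, Subgroup.coe_one] at this
  have h1 : orderOf z ∣ 2 := orderOf_dvd_of_pow_eq_one (by rw [pow_two]; exact h2)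
  have h3 : orderOf z ∣ 3 ^ k := orderOf_dvd_of_pow_eq_one hk'
  have hcop : Nat.Coprime 2 (3 ^ k) := Nat.Coprime.pow_right k (by norm_num)
  have h4 : orderOf z = 1 := Nat.dvd_one.1 (hcop ▸ Nat.dvd_gcd h1 h3)
  exact orderOf_eq_one_iff.1 h4

/-- a `p`-subgroup is conjugate into a given Sylow `p`-subgroup -/
theorem exists_conj_mem_sylow {G : Type*} [Group G] [Finite G] {p : ℕ} [Fact p.Prime]
    (P : Sylow p G) {H : Subgroup G} (hH : IsPGroup p ↥H) :
    ∃ g : G, ∀ h ∈ H, g⁻¹ * h * g ∈ (P : Subgroup G) := by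
  obtain ⟨P', hP'⟩ := hH.exists_le_sylow
  obtain ⟨g, hg⟩ := MulAction.exists_smul_eq G P P'
  refine ⟨g, fun h hh => ?_⟩
  have h1 : h ∈ ((g • P : Sylow p G) : Subgroup G) := by rw [hg]; exact hP' hh
  rw [Sylow.coe_subgroup_smul, Subgroup.mem_smul_pointwise_iff_exists] at h1
  obtain ⟨y, hy, hyh⟩ := h1
  rw [MulAut.smul_def, MulAut.conj_apply] at hyh
  rw [← hyh]
  have : g⁻¹ * (g * y * g⁻¹) * g = y := by group
  rw [this]
  exact hy

theorem mem_normalizer_of_conj {G : Type*} [Group G] (D : Subgroup G) (a : G)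
    (h1 : ∀ d ∈ D, a * d * a⁻¹ ∈ D) (h2 : ∀ d ∈ D, a⁻¹ * d * a ∈ D) :
    a ∈ Subgroup.normalizer (D : Set G) := by
  rw [Subgroup.mem_normalizer_iff]
  intro h
  constructor
  · exact h1 h
  · intro hh
    have := h2 _ hh
    have h3 : a⁻¹ * (a * h * a⁻¹) * a = h := by group
    rwa [h3] at this

/-- **BSWFIN, part (b)**: the conclusion of the Brauer-Suzuki-Wall theorem is incompatible with the
`p = 3` configuration of S4016. -/
theorem false_of_bsw {G : Type*} [Group G] [Finite G]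
    (hab : ∀ X : Subgroup G, ¬ 3 ∣ Nat.card ↥X → ∀ a ∈ X, ∀ b ∈ X, a * b = b * a)
    (P : Sylow 3 G)
    (t s : G) (ht : orderOf t = 2) (hs : orderOf s = 2) (hts : t * s = s * t) (hne : s ≠ t)
    (htP : ∀ y ∈ P, t * y = y * t) (hsP : ∀ y ∈ P, s * y * s⁻¹ = y⁻¹)
    (Q D : Subgroup G)
    (hCQ : ∀ x ∈ Q, x ≠ 1 → Subgroup.centralizer ({x} : Set G) = Q)
    (hQD : 2 * Nat.card ↥D + 1 = Nat.card ↥Q)
    (hQDbot : Q ⊓ D = ⊥)
    (hNQ : Subgroup.normalizer (Q : Set G) = Q ⊔ D)
    (hND : ∀ X : Subgroup G, X ≤ D → X ≠ ⊥ →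
        Subgroup.normalizer (X : Set G) = Subgroup.normalizer (D : Set G) ∧
        ∃ u : G, orderOf u = 2 ∧ u ∉ D ∧ (∀ d ∈ D, u * d * u⁻¹ = d⁻¹) ∧
          Subgroup.normalizer (D : Set G) = D ⊔ Subgroup.zpowers u) : False := by
  classical
  have h3f : Fact (Nat.Prime 3) := ⟨Nat.prime_three⟩
  have ht2 : t * t = 1 := by
    have := pow_orderOf_eq_one t
    rwa [ht, pow_two] at this
  have hs2 : s * s = 1 := by
    have := pow_orderOf_eq_one s
    rwa [hs, pow_two] at this
  have ht1 : t ≠ 1 := by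
    intro h; rw [h, orderOf_one] at ht; omega
  have hs1 : s ≠ 1 := by
    intro h; rw [h, orderOf_one] at hs; omega
  have htinv : t⁻¹ = t := inv_eq_of_mul_eq_one_right ht2
  have hsinv : s⁻¹ = s := inv_eq_of_mul_eq_one_right hs2
  -- (F1) `s` centralizes no nontrivial element of `P`
  have hF1 : ∀ y ∈ P, y ≠ 1 → s * y ≠ y * s := by
    intro y hy hy1 hcomm
    apply hy1
    apply eq_one_of_sq_of_three P.2 hy
    have h1 := hsP y hy
    have h2 : s * y * s⁻¹ = y := by rw [hcomm]; group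
    rw [h2] at h1
    calc y * y = y * y⁻¹ := by rw [← h1]
      _ = 1 := mul_inv_cancel y
  -- (F2) `Q` is abelian
  have hF2 : ∀ a ∈ Q, ∀ b ∈ Q, a * b = b * a := by
    intro a ha b hb
    by_cases ha1 : a = 1
    · rw [ha1, one_mul, mul_one]
    · have hb' : b ∈ Subgroup.centralizer ({a} : Set G) := by rw [hCQ a ha ha1]; exact hb
      exact Subgroup.mem_centralizer_iff.1 hb' a (Set.mem_singleton a)
  -- (F3) `3 ∤ |Q|`
  have hF3 : ¬ 3 ∣ Nat.card ↥Q := by
    intro hdvd
    obtain ⟨x, hx⟩ := exists_prime_orderOf_dvd_card' (G := ↥Q) 3 hdvd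
    have hx3 : orderOf (x : G) = 3 := by rw [Subgroup.orderOf_coe]; exact hx
    have hx1 : (x : G) ≠ 1 := by
      intro h; rw [h, orderOf_one] at hx3; omega
    have hz : IsPGroup 3 ↥(Subgroup.zpowers (x : G)) :=
      IsPGroup.of_card (n := 1) (by rw [Nat.card_zpowers, hx3, pow_one])
    obtain ⟨g, hg⟩ := exists_conj_mem_sylow P hz
    have hy : g⁻¹ * (x : G) * g ∈ (P : Subgroup G) := hg _ (Subgroup.mem_zpowers _)
    have hy1 : g⁻¹ * (x : G) * g ≠ 1 := by
      intro h
      apply hx1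
      calc (x : G) = g * (g⁻¹ * (x : G) * g) * g⁻¹ := by group
        _ = 1 := by rw [h]; group
    -- `t' = g t g⁻¹ ∈ C(x) = Q`
    have htx : (x : G) * (g * t * g⁻¹) = (g * t * g⁻¹) * (x : G) := by
      have := htP _ hy
      calc (x : G) * (g * t * g⁻¹) = g * ((g⁻¹ * (x : G) * g) * t) * g⁻¹ := by group
        _ = g * (t * (g⁻¹ * (x : G) * g)) * g⁻¹ := by rw [this]
        _ = (g * t * g⁻¹) * (x : G) := by group
    have ht'Q : g * t * g⁻¹ ∈ Q := by
      rw [← hCQ (x : G) x.2 hx1, Subgroup.mem_centralizer_iff]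
      intro h hh
      rw [Set.mem_singleton_iff] at hh
      rw [hh]; exact htx
    have ht'1 : g * t * g⁻¹ ≠ 1 := by
      intro h
      apply ht1
      calc t = g⁻¹ * (g * t * g⁻¹) * g := by group
        _ = 1 := by rw [h]; group
    have hs'Q : g * s * g⁻¹ ∈ Q := by
      rw [← hCQ _ ht'Q ht'1, Subgroup.mem_centralizer_iff]
      intro h hh
      rw [Set.mem_singleton_iff] at hh
      rw [hh]
      calc g * t * g⁻¹ * (g * s * g⁻¹) = g * (t * s) * g⁻¹ := by group
        _ = g * (s * t) * g⁻¹ := by rw [hts]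
        _ = g * s * g⁻¹ * (g * t * g⁻¹) := by group
    have hcomm := hF2 _ hs'Q _ x.2
    apply hF1 _ hy hy1
    calc s * (g⁻¹ * (x : G) * g) = g⁻¹ * ((g * s * g⁻¹) * (x : G)) * g := by group
      _ = g⁻¹ * ((x : G) * (g * s * g⁻¹)) * g := by rw [hcomm]
      _ = (g⁻¹ * (x : G) * g) * s := by group
  -- (F4) `D ≠ ⊥`
  have hF4 : D ≠ ⊥ := by
    intro h
    apply hF3
    rw [← hQD, h, Subgroup.card_bot]
  obtain ⟨-, u, hu2, -, huinv, hNDu⟩ := hND D le_rfl hF4
  have huu : u * u = 1 := by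
    have := pow_orderOf_eq_one u
    rwa [hu2, pow_two] at this
  -- (F5) `D` is not a `3`-group
  have hF5 : ¬ IsPGroup 3 ↥D := by
    intro hD3
    obtain ⟨g, hg⟩ := exists_conj_mem_sylow P hD3
    -- `t' = g t g⁻¹` centralizes `D`, `s' = g s g⁻¹` inverts `D`
    have ht'c : ∀ d ∈ D, (g * t * g⁻¹) * d * (g * t * g⁻¹)⁻¹ = d := by
      intro d hd
      have := htP _ (hg d hd)
      calc (g * t * g⁻¹) * d * (g * t * g⁻¹)⁻¹ = g * (t * (g⁻¹ * d * g)) * t⁻¹ * g⁻¹ := by group
        _ = g * ((g⁻¹ * d * g) * t) * t⁻¹ * g⁻¹ := by rw [this]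
        _ = d := by group
    have hs'c : ∀ d ∈ D, (g * s * g⁻¹) * d * (g * s * g⁻¹)⁻¹ = d⁻¹ := by
      intro d hd
      have := hsP _ (hg d hd)
      calc (g * s * g⁻¹) * d * (g * s * g⁻¹)⁻¹ = g * (s * (g⁻¹ * d * g) * s⁻¹) * g⁻¹ := by group
        _ = g * (g⁻¹ * d * g)⁻¹ * g⁻¹ := by rw [this]
        _ = d⁻¹ := by group
    have ht'inv : (g * t * g⁻¹)⁻¹ = g * t * g⁻¹ := by
      apply inv_eq_of_mul_eq_one_right
      calc g * t * g⁻¹ * (g * t * g⁻¹) = g * (t * t) * g⁻¹ := by group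
        _ = 1 := by rw [ht2]; group
    have hs'inv : (g * s * g⁻¹)⁻¹ = g * s * g⁻¹ := by
      apply inv_eq_of_mul_eq_one_right
      calc g * s * g⁻¹ * (g * s * g⁻¹) = g * (s * s) * g⁻¹ := by group
        _ = 1 := by rw [hs2]; group
    have ht'N : g * t * g⁻¹ ∈ Subgroup.normalizer (D : Set G) := by
      apply mem_normalizer_of_conj
      · intro d hd; rw [ht'c d hd]; exact hd
      · intro d hd
        have := ht'c d hd
        rw [ht'inv] at this ⊢
        rw [this]; exact hd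
    have hs'N : g * s * g⁻¹ ∈ Subgroup.normalizer (D : Set G) := by
      apply mem_normalizer_of_conj
      · intro d hd; rw [hs'c d hd]; exact D.inv_mem hd
      · intro d hd
        have := hs'c d hd
        rw [hs'inv] at this ⊢
        rw [this]; exact D.inv_mem hd
    have ht'D : g * t * g⁻¹ ∉ D := by
      intro h
      have h1 : g * t * g⁻¹ = 1 := eq_one_of_sq_of_three hD3 h (by
        calc g * t * g⁻¹ * (g * t * g⁻¹) = g * (t * t) * g⁻¹ := by group
          _ = 1 := by rw [ht2]; group)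
      apply ht1
      calc t = g⁻¹ * (g * t * g⁻¹) * g := by group
        _ = 1 := by rw [h1]; group
    have hs'D : g * s * g⁻¹ ∉ D := by
      intro h
      have h1 : g * s * g⁻¹ = 1 := eq_one_of_sq_of_three hD3 h (by
        calc g * s * g⁻¹ * (g * s * g⁻¹) = g * (s * s) * g⁻¹ := by group
          _ = 1 := by rw [hs2]; group)
      apply hs1
      calc s = g⁻¹ * (g * s * g⁻¹) * g := by group
        _ = 1 := by rw [h1]; group
    rw [hNDu] at ht'N hs'N
    have hprod := mul_mem_of_not_mem D u huu huinv ht'N hs'N ht'D hs'D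
    have hprod1 : g * t * g⁻¹ * (g * s * g⁻¹) = 1 := eq_one_of_sq_of_three hD3 hprod (by
      calc g * t * g⁻¹ * (g * s * g⁻¹) * (g * t * g⁻¹ * (g * s * g⁻¹))
          = g * (t * s * (t * s)) * g⁻¹ := by group
        _ = g * (t * s * (s * t)) * g⁻¹ := by rw [hts]
        _ = g * (t * (s * s) * t) * g⁻¹ := by group
        _ = 1 := by rw [hs2, mul_one, ht2]; group)
    apply hne
    have h5 : t * s = 1 := by
      calc t * s = g⁻¹ * (g * t * g⁻¹ * (g * s * g⁻¹)) * g := by group
        _ = 1 := by rw [hprod1]; group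
    calc s = t⁻¹ * (t * s) := by group
      _ = t := by rw [h5, mul_one, htinv]
  -- (F6) a prime `r ≠ 3` dividing `|D|`
  have hDcard : Nat.card ↥D ≠ 1 := by
    intro h
    exact hF4 (Subgroup.eq_bot_of_card_eq D h)
  obtain ⟨r, hr, hrD, hr3⟩ : ∃ r : ℕ, r.Prime ∧ r ∣ Nat.card ↥D ∧ r ≠ 3 := by
    by_contra hcon
    push Not at hcon
    apply hF5
    have h1 := Nat.eq_prime_pow_of_unique_prime_dvd (n := Nat.card ↥D) (p := 3)
      Nat.card_pos.ne' (fun {d} hd hdd => hcon d hd hdd)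
    exact IsPGroup.of_card h1
  have hrf : Fact r.Prime := ⟨hr⟩
  obtain ⟨d, hd⟩ := exists_prime_orderOf_dvd_card' (G := ↥D) r hrD
  have hdr : orderOf (d : G) = r := by rw [Subgroup.orderOf_coe]; exact hd
  have hdN : Subgroup.zpowers (d : G) ≤ Subgroup.normalizer (Q : Set G) := by
    rw [Subgroup.zpowers_le, hNQ]
    exact Subgroup.mem_sup_right d.2
  have hZ : ¬ 3 ∣ Nat.card ↥(Subgroup.zpowers (d : G)) := by
    rw [Nat.card_zpowers, hdr]
    intro h
    exact hr3 ((Nat.prime_dvd_prime_iff_eq Nat.prime_three hr).1 h).symm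
  have hX := not_dvd_card_sup' Nat.prime_three Q (Subgroup.zpowers (d : G)) hdN hF3 hZ
  -- a nontrivial element of `Q`
  have hQ1 : Q ≠ ⊥ := by
    intro h
    rw [h, Subgroup.card_bot] at hQD
    have hpos : 0 < Nat.card ↥D := Nat.card_pos
    omega
  obtain ⟨x, hxQ, hx1⟩ := (Subgroup.ne_bot_iff_exists_ne_one.1 hQ1 : ∃ a : ↥Q, a ≠ 1) |>
    fun ⟨a, ha⟩ => (⟨(a : G), a.2, fun h => ha (Subtype.ext h)⟩ : ∃ x : G, x ∈ Q ∧ x ≠ 1)
  have hcomm := hab _ hX x (Subgroup.mem_sup_left hxQ) (d : G)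
    (Subgroup.mem_sup_right (Subgroup.mem_zpowers _))
  have hdQ : (d : G) ∈ Q := by
    rw [← hCQ x hxQ hx1, Subgroup.mem_centralizer_iff]
    intro h hh
    rw [Set.mem_singleton_iff] at hh
    rw [hh]; exact hcomm
  have hdbot : (d : G) ∈ Q ⊓ D := ⟨hdQ, d.2⟩
  rw [hQDbot, Subgroup.mem_bot] at hdbot
  rw [hdbot, orderOf_one] at hdr
  exact hr.one_lt.ne hdr

end Cfsg.Agent.Lib.Helper24_S4016_BSWFINb
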