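import Mathlib
import Cfsg.Agent.S3282
import Cfsg.Agent.Lib.Helper87_S4016Defs
import Cfsg.Agent.Lib.Helper24_S4016_BSWFINb

/-!
# S4016 package BSWFIN (second seat, for helper87)

The final contradiction in the case `p = 3`: `K = P ⊔ zpowers t` and `s` satisfy the hypotheses of the
landed abstract Brauer-Suzuki-Wall theorem `Cfsg.Agent.S3282.result`, whose conclusion is refuted by
`Helper24_S4016_BSWFINb.false_of_bsw`.
-/

set_option autoImplicit false
open Cfsg.Agent.Lib.Helper87_S4016

namespace Cfsg.Agent.Lib.Helper24_S4016_BSWFIN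

open Cfsg.Agent.Lib.Helper24_S4016_BSWFINb

/-- elements of `D ⊔ zpowers u`, `u` an involution with `u D u = D`, lie in `D` or in `D u` -/
theorem mem_or_mul_mem {G : Type*} [Group G] (D : Subgroup G) (u : G) (hu : u * u = 1)
    (hconj : ∀ d ∈ D, u * d * u ∈ D) {x : G} (hx : x ∈ D ⊔ Subgroup.zpowers u) :
    x ∈ D ∨ x * u ∈ D := by
  have huinv : u⁻¹ = u := inv_eq_of_mul_eq_one_right hu
  let M : Subgroup G :=
    { carrier := {x | x ∈ D ∨ x * u ∈ D}
      one_mem' := Or.inl D.one_mem
      mul_mem' := by
        rintro x y (hx | hx) (hy | hy)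
        · exact Or.inl (D.mul_mem hx hy)
        · right
          rw [mul_assoc]
          exact D.mul_mem hx hy
        · right
          have h1 : x * y * u = (x * u) * (u * y * u) := by
            calc x * y * u = x * (u * u) * y * u := by rw [hu, mul_one]
              _ = (x * u) * (u * y * u) := by group
          rw [h1]
          exact D.mul_mem hx (hconj y hy)
        · left
          have h1 : x * y = (x * u) * (u * (y * u) * u) := by
            calc x * y = x * (u * u) * y * (u * u) := by rw [hu, mul_one, mul_one]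
              _ = (x * u) * (u * (y * u) * u) := by group
          rw [h1]
          exact D.mul_mem hx (hconj _ hy)
      inv_mem' := by
        rintro x (hx | hx)
        · exact Or.inl (D.inv_mem hx)
        · right
          have h1 : x⁻¹ * u = u * (x * u)⁻¹ * u := by
            calc x⁻¹ * u = (u * u) * x⁻¹ * u := by rw [hu, one_mul]
              _ = u * (x * u)⁻¹ * u := by rw [mul_inv_rev, huinv]; group
          rw [h1]
          exact hconj _ (D.inv_mem hx) }
  have hle : D ⊔ Subgroup.zpowers u ≤ M := by
    apply sup_le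
    · intro x hx
      exact Or.inl hx
    · rw [Subgroup.zpowers_le]
      right
      show u * u ∈ D
      rw [hu]
      exact D.one_mem
  exact hle hx

/-- **BSWFIN** -/
theorem BSWFIN {G : Type*} [Group G] [Finite G]
    (hab : ∀ X : Subgroup G, ¬ 3 ∣ Nat.card ↥X → ∀ a ∈ X, ∀ b ∈ X, a * b = b * a)
    (P : Sylow 3 G) (hcyc : IsCyclic ↥P) (hP1 : (P : Subgroup G) ≠ ⊥)
    (t s : G) (ht : orderOf t = 2) (hs : orderOf s = 2) (hts : t * s = s * t) (hne : s ≠ t)
    (htP : ∀ y ∈ P, t * y = y * t) (hsP : ∀ y ∈ P, s * y * s⁻¹ = y⁻¹)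
    (hCt : Subgroup.centralizer ({t} : Set G) = (P : Subgroup G) ⊔ Subgroup.closure {t, s})
    (hNP : Subgroup.normalizer ((P : Subgroup G) : Set G) = (P : Subgroup G) ⊔ Subgroup.closure {t, s})
    (hTI : ∀ g : G, g ∉ Subgroup.normalizer ((P : Subgroup G) : Set G) →
      (P : Subgroup G) ⊓ (P : Subgroup G).map (MulAut.conj g).toMonoidHom = ⊥)
    (hconj : ∀ x y : G, orderOf x = 2 → orderOf y = 2 → IsConj x y) : False := by
  classical
  have ht2 : t * t = 1 := by
    have := pow_orderOf_eq_one t
    rwa [ht, pow_two] at this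
  have hs2 : s * s = 1 := by
    have := pow_orderOf_eq_one s
    rwa [hs, pow_two] at this
  have ht1 : t ≠ 1 := by
    intro h; rw [h, orderOf_one] at ht; omega
  have hs1 : s ≠ 1 := by
    intro h; rw [h, orderOf_one] at hs; omega
  have htinv : t⁻¹ = t := inv_eq_of_mul_eq_one_right ht2
  have hsinv : s⁻¹ = s := inv_eq_of_mul_eq_one_right hs2
  -- `P` is abelian
  have hPab : ∀ a ∈ P, ∀ b ∈ P, a * b = b * a := by
    intro a ha b hb
    have h1 := (IsCyclic.commGroup (α := ↥(P : Subgroup G))).mul_comm ⟨a, ha⟩ ⟨b, hb⟩
    exact congrArg Subtype.val h1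
  -- `s` centralizes no nontrivial element of `P`
  have hF1 : ∀ y ∈ P, s * y = y * s → y = 1 := by
    intro y hy hcomm
    apply eq_one_of_sq_of_three P.2 hy
    have h1 := hsP y hy
    have h2 : s * y * s⁻¹ = y := by rw [hcomm]; group
    rw [h2] at h1
    calc y * y = y * y⁻¹ := by rw [← h1]
      _ = 1 := mul_inv_cancel y
  -- description of `K`
  set K : Subgroup G := (P : Subgroup G) ⊔ Subgroup.zpowers t with hK
  have hKmem : ∀ x ∈ K, x ∈ (P : Subgroup G) ∨ x * t ∈ (P : Subgroup G) := by
    intro x hx
    apply mem_or_mul_mem (P : Subgroup G) t ht2 _ hx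
    intro d hd
    have := htP d hd
    rw [this, mul_assoc, ht2, mul_one]
    exact hd
  have hPK : (P : Subgroup G) ≤ K := le_sup_left
  have htK : t ∈ K := Subgroup.mem_sup_right (Subgroup.mem_zpowers t)
  -- `t` is central in `K`, `K` is abelian
  have htKc : ∀ x ∈ K, t * x = x * t := by
    intro x hx
    rcases hKmem x hx with h | h
    · exact htP x h
    · have := htP _ h
      calc t * x = t * (x * t) * t⁻¹ := by group
        _ = (x * t) * t * t⁻¹ := by rw [this]
        _ = x * t := by group
  have hKab : ∀ a ∈ K, ∀ b ∈ K, a * b = b * a := by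
    -- reduce to the case `a ∈ P` or `a = y t`
    have key : ∀ a ∈ K, ∀ y ∈ (P : Subgroup G), a * y = y * a := by
      intro a ha y hy
      rcases hKmem a ha with h | h
      · exact hPab a h y hy
      · have h1 := hPab _ h y hy
        have h2 := htP y hy
        calc a * y = (a * t) * (t⁻¹ * y) := by group
          _ = (a * t) * (t * y) := by rw [htinv]
          _ = (a * t) * (y * t) := by rw [h2]
          _ = ((a * t) * y) * t := by group
          _ = (y * (a * t)) * t := by rw [h1]
          _ = y * a * (t * t) := by group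
          _ = y * a := by rw [ht2, mul_one]
    intro a ha b hb
    rcases hKmem b hb with h | h
    · exact key a ha b h
    · have h1 := key a ha _ h
      have h2 := htKc a ha
      calc a * b = a * (b * t) * t⁻¹ := by group
        _ = (b * t) * a * t⁻¹ := by rw [h1]
        _ = b * (t * a) * t⁻¹ := by group
        _ = b * (a * t) * t⁻¹ := by rw [h2]
        _ = b * a := by group
  have hKcomm : IsMulCommutative ↥K := ⟨⟨fun a b => Subtype.ext (hKab a a.2 b b.2)⟩⟩
  -- squares of `K` lie in `P`; involutions of `K`
  have hKsq : ∀ x ∈ K, x * x ∈ (P : Subgroup G) := by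
    intro x hx
    rcases hKmem x hx with h | h
    · exact Subgroup.mul_mem _ h h
    · have h2 := htKc x hx
      have : x * x = (x * t) * (x * t) := by
        calc x * x = x * x * (t * t) := by rw [ht2, mul_one]
          _ = x * (x * t) * t := by group
          _ = x * (t * x) * t := by rw [h2]
          _ = (x * t) * (x * t) := by group
      rw [this]
      exact Subgroup.mul_mem _ h h
  have hKinv : ∀ x ∈ K, x * x = 1 → x = 1 ∨ x = t := by
    intro x hx hxx
    rcases hKmem x hx with h | h
    · exact Or.inl (eq_one_of_sq_of_three P.2 h hxx)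
    · right
      have h2 := htKc x hx
      have h3 : (x * t) * (x * t) = 1 := by
        calc (x * t) * (x * t) = x * (t * x) * t := by group
          _ = x * (x * t) * t := by rw [h2]
          _ = (x * x) * (t * t) := by group
          _ = 1 := by rw [hxx, ht2, mul_one]
      have h4 : x * t = 1 := eq_one_of_sq_of_three P.2 h h3
      calc x = (x * t) * t⁻¹ := by group
        _ = t := by rw [h4, one_mul, htinv]
  -- the hypotheses of S3282
  have hKH : K ≤ Subgroup.centralizer ({t} : Set G) := by
    intro x hx
    rw [Subgroup.mem_centralizer_iff]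
    intro h hh
    rw [Set.mem_singleton_iff] at hh
    rw [hh]
    exact htKc x hx
  have hsH : s ∈ Subgroup.centralizer ({t} : Set G) := by
    rw [Subgroup.mem_centralizer_iff]
    intro h hh
    rw [Set.mem_singleton_iff] at hh
    rw [hh]
    exact hts
  have hsK : s ∉ K := by
    intro h
    rcases hKmem s h with h' | h'
    · exact hs1 (eq_one_of_sq_of_three P.2 h' hs2)
    · have h3 : (s * t) * (s * t) = 1 := by
        calc (s * t) * (s * t) = s * (t * s) * t := by group
          _ = s * (s * t) * t := by rw [hts]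
          _ = (s * s) * (t * t) := by group
          _ = 1 := by rw [hs2, ht2, mul_one]
      have h4 : s * t = 1 := eq_one_of_sq_of_three P.2 h' h3
      apply hne
      calc s = (s * t) * t⁻¹ := by group
        _ = t := by rw [h4, one_mul, htinv]
  have hcl : Subgroup.closure ({t, s} : Set G) = Subgroup.zpowers t ⊔ Subgroup.zpowers s := by
    rw [Set.insert_eq, Subgroup.closure_union, Subgroup.zpowers_eq_closure,
      Subgroup.zpowers_eq_closure]
  have hH : K ⊔ Subgroup.zpowers s = Subgroup.centralizer ({t} : Set G) := by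
    rw [hCt, hcl, hK, sup_assoc]
  have hCK : K ⊓ Subgroup.centralizer ({s} : Set G) = Subgroup.zpowers t := by
    apply le_antisymm
    · rintro x ⟨hxK, hxs⟩
      have hsx : s * x = x * s := Subgroup.mem_centralizer_iff.1 hxs s (Set.mem_singleton s)
      rcases hKmem x hxK with h | h
      · rw [hF1 x h hsx]
        exact Subgroup.one_mem _
      · have h1 : s * (x * t) = (x * t) * s := by
          calc s * (x * t) = (s * x) * t := by group
            _ = (x * s) * t := by rw [hsx]
            _ = x * (s * t) := by group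
            _ = x * (t * s) := by rw [hts]
            _ = (x * t) * s := by group
        have h2 := hF1 _ h h1
        have : x = t := by
          calc x = (x * t) * t⁻¹ := by group
            _ = t := by rw [h2, one_mul, htinv]
        rw [this]
        exact Subgroup.mem_zpowers t
    · rw [Subgroup.zpowers_le]
      refine ⟨htK, ?_⟩
      show t ∈ Subgroup.centralizer ({s} : Set G)
      rw [Subgroup.mem_centralizer_iff]
      intro h hh
      rw [Set.mem_singleton_iff] at hh
      rw [hh]
      exact hts.symm
  have hinv : ∀ x ∈ K, s * x * s⁻¹ = x⁻¹ := by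
    intro x hx
    rcases hKmem x hx with h | h
    · exact hsP x h
    · have h1 := hsP _ h
      have h2 := htKc x hx
      have h3 : s * t * s⁻¹ = t := by
        calc s * t * s⁻¹ = (t * s) * s⁻¹ := by rw [hts]
          _ = t := by group
      calc s * x * s⁻¹ = (s * (x * t) * s⁻¹) * (s * t⁻¹ * s⁻¹) := by group
        _ = (x * t)⁻¹ * (s * t * s⁻¹) := by rw [h1, htinv]
        _ = (x * t)⁻¹ * t := by rw [h3]
        _ = (t * x)⁻¹ * t := by rw [h2]
        _ = x⁻¹ := by group
  have hTI' : ∀ g : G, g ∉ Subgroup.centralizer ({t} : Set G) →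
      K ⊓ K.map (MulAut.conj g).toMonoidHom = ⊥ := by
    intro g hg
    have hgN : g ∉ Subgroup.normalizer ((P : Subgroup G) : Set G) := by
      rw [hNP, ← hCt]; exact hg
    have hPP := hTI g hgN
    rw [eq_bot_iff]
    rintro z ⟨hzK, k, hkK, hkz⟩
    rw [Subgroup.mem_bot]
    have hkz' : g * k * g⁻¹ = z := hkz
    -- `z z ∈ P ⊓ P^g = ⊥`
    have hzz : z * z = 1 := by
      have h1 : z * z ∈ (P : Subgroup G) ⊓ (P : Subgroup G).map (MulAut.conj g).toMonoidHom := by
        refine ⟨hKsq z hzK, k * k, hKsq k hkK, ?_⟩
        show g * (k * k) * g⁻¹ = z * z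
        rw [← hkz']; group
      rw [hPP, Subgroup.mem_bot] at h1
      exact h1
    have hkk : k * k = 1 := by
      have : g * (k * k) * g⁻¹ = 1 := by
        calc g * (k * k) * g⁻¹ = (g * k * g⁻¹) * (g * k * g⁻¹) := by group
          _ = 1 := by rw [hkz', hzz]
      calc k * k = g⁻¹ * (g * (k * k) * g⁻¹) * g := by group
        _ = 1 := by rw [this]; group
    by_contra hz1
    have hzt : z = t := (hKinv z hzK hzz).resolve_left hz1
    have hk1 : k ≠ 1 := by
      intro h
      apply hz1
      rw [← hkz', h]; group
    have hkt : k = t := (hKinv k hkK hkk).resolve_left hk1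
    apply hg
    rw [Subgroup.mem_centralizer_iff]
    intro h hh
    rw [Set.mem_singleton_iff] at hh
    rw [hh]
    rw [hkt, hzt] at hkz'
    calc t * g = (g * t * g⁻¹) * g := by rw [hkz']
      _ = g * t := by group
  obtain ⟨Q, D, -, hCQ, -, hQD, hQDbot, hNQ, hND⟩ :=
    Cfsg.Agent.S3282.result t ht K hKcomm hKH htK s hs hsH hsK hH hCK hinv hTI' hconj
  exact false_of_bsw hab P t s ht hs hts hne htP hsP Q D hCQ hQD hQDbot hNQ hND

end Cfsg.Agent.Lib.Helper24_S4016_BSWFIN
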