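import Mathlib
import Cfsg.Agent.Lib.Helper87_S4016Defs

/-!
# S4016 package HALL (for helper87)

A normal Hall subgroup `K` of a normal subgroup `N` of `G` is normal in `G`.
-/

set_option autoImplicit false
open Cfsg.Agent.Lib.Helper87_S4016

namespace Cfsg.Agent.Lib.Helper24_S4016_HALL

/-- membership in a normal Hall subgroup: `x ∈ N`, `x ^ |K| = 1` implies `x ∈ K` -/
theorem mem_of_pow_card_eq_one {G : Type*} [Group G] [Finite G] (N K : Subgroup G)
    (hnorm : ∀ n ∈ N, ∀ k ∈ K, n * k * n⁻¹ ∈ K)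
    (hcop : (Nat.card ↥K).Coprime (K.relIndex N)) {x : G} (hx : x ∈ N)
    (hxm : x ^ Nat.card ↥K = 1) : x ∈ K := by
  have hK'n : (K.subgroupOf N).Normal := by
    constructor
    intro k hk n
    rw [Subgroup.mem_subgroupOf] at hk ⊢
    exact hnorm n n.2 k hk
  let y : N ⧸ K.subgroupOf N := QuotientGroup.mk ⟨x, hx⟩
  have h1 : orderOf y ∣ Nat.card ↥K := by
    apply orderOf_dvd_of_pow_eq_one
    show (QuotientGroup.mk ⟨x, hx⟩ : N ⧸ K.subgroupOf N) ^ Nat.card ↥K = 1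
    rw [← QuotientGroup.mk_pow]
    have : (⟨x, hx⟩ : N) ^ Nat.card ↥K = 1 := Subtype.ext (by simpa using hxm)
    rw [this]
    rfl
  have h2 : orderOf y ∣ K.relIndex N := by
    have := orderOf_dvd_natCard y
    rwa [← Subgroup.index_eq_card] at this
  have h3 : orderOf y = 1 := Nat.dvd_one.1 (hcop ▸ Nat.dvd_gcd h1 h2)
  have h4 : y = 1 := orderOf_eq_one_iff.1 h3
  have h5 : (⟨x, hx⟩ : N) ∈ K.subgroupOf N := (QuotientGroup.eq_one_iff _).1 h4
  exact Subgroup.mem_subgroupOf.1 h5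

/-- **HALL** -/
theorem HALL {G : Type*} [Group G] [Finite G] (N K : Subgroup G) (hN : N.Normal) (hKN : K ≤ N)
    (hnorm : ∀ n ∈ N, ∀ k ∈ K, n * k * n⁻¹ ∈ K)
    (hcop : (Nat.card ↥K).Coprime (K.relIndex N)) : K.Normal := by
  constructor
  intro k hk g
  apply mem_of_pow_card_eq_one N K hnorm hcop (hN.conj_mem k (hKN hk) g)
  rw [conj_pow]
  have h1 : (⟨k, hk⟩ : K) ^ Nat.card ↥K = 1 := pow_card_eq_one'
  have h2 : k ^ Nat.card ↥K = 1 := by
    have h3 := congrArg Subtype.val h1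
    rw [Subgroup.coe_pow, Subgroup.coe_one] at h3
    exact h3
  rw [h2, mul_one, mul_inv_cancel]

end Cfsg.Agent.Lib.Helper24_S4016_HALL
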