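import Mathlib
import Cfsg.Agent.Lib.Helper87_S4016Defs

/-!
# S4016 package SUBC (for helper87)

The conclusion `Concl p ↥X` for a subgroup `X` of `G`, read inside `G`.
-/

set_option autoImplicit false
open Cfsg.Agent.Lib.Helper87_S4016

namespace Cfsg.Agent.Lib.Helper24_S4016_SUBC

/-- the image in `G` of a subgroup `N` of `↥X`, pulled back to `↥X`, is `N` -/
theorem map_subgroupOf {G : Type*} [Group G] (X : Subgroup G) (N : Subgroup ↥X) :
    (N.map X.subtype).subgroupOf X = N :=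
  Subgroup.comap_map_eq_self_of_injective X.subtype_injective N

theorem map_le {G : Type*} [Group G] (X : Subgroup G) (N : Subgroup ↥X) :
    N.map X.subtype ≤ X := by
  rintro _ ⟨n, _, rfl⟩
  exact n.2

theorem map_conj_mem {G : Type*} [Group G] (X : Subgroup G) (N : Subgroup ↥X) [hN : N.Normal] :
    ∀ x ∈ X, ∀ k ∈ N.map X.subtype, x * k * x⁻¹ ∈ N.map X.subtype := by
  rintro x hx _ ⟨n, hn, rfl⟩
  exact ⟨⟨x, hx⟩ * n * ⟨x, hx⟩⁻¹, hN.conj_mem n hn ⟨x, hx⟩, rfl⟩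

/-- **SUBC** -/
theorem SUBC {G : Type*} [Group G] [Finite G] {p : ℕ} [Fact p.Prime] (X : Subgroup G)
    (h : Concl p ↥X) :
    (∃ K : Subgroup G, K ≤ X ∧ (∀ x ∈ X, ∀ k ∈ K, x * k * x⁻¹ ∈ K) ∧ ¬ p ∣ Nat.card ↥K ∧
        ∃ n : ℕ, K.relIndex X = p ^ n) ∨
      (∃ Q : Subgroup G, Q ≤ X ∧ (∀ x ∈ X, ∀ k ∈ Q, x * k * x⁻¹ ∈ Q) ∧ IsPGroup p ↥Q ∧
        ¬ p ∣ Q.relIndex X) := by
  rcases h with ⟨P, N, hN, hc⟩ | h
  · left
    refine ⟨N.map X.subtype, map_le X N, map_conj_mem X N, ?_, ?_⟩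
    · rw [Subgroup.card_map_of_injective X.subtype_injective, ← hc.index_eq_card]
      exact P.not_dvd_index
    · obtain ⟨n, hn⟩ := P.2.exists_card_eq
      refine ⟨n, ?_⟩
      rw [Subgroup.relIndex, map_subgroupOf, hc.symm.index_eq_card]
      exact hn
  · right
    obtain ⟨P⟩ : Nonempty (Sylow p ↥X) := inferInstance
    have hPn : (P : Subgroup ↥X).Normal := h P
    refine ⟨(P : Subgroup ↥X).map X.subtype, map_le X _, map_conj_mem X _, P.2.map X.subtype, ?_⟩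
    rw [Subgroup.relIndex, map_subgroupOf]
    exact P.not_dvd_index

end Cfsg.Agent.Lib.Helper24_S4016_SUBC
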