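import Mathlib
import Cfsg.Agent.Lib.Helper87_S4016Defs

/-!
# S4016 package SUBH (for helper87)

The hypothesis `Hyp p G` passes to subgroups.
-/

set_option autoImplicit false
open Cfsg.Agent.Lib.Helper87_S4016

namespace Cfsg.Agent.Lib.Helper24_S4016_SUBH

/-- **SUBH** -/
theorem SUBH {G : Type*} [Group G] [Finite G] {p : ℕ} [Fact p.Prime] (h : Hyp p G)
    (X : Subgroup G) : Hyp p ↥X := by
  refine ⟨fun Q => ?_, fun H hH a ha b hb => ?_⟩
  · -- a Sylow subgroup of `X` embeds into a Sylow subgroup of `G`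
    have hQ : IsPGroup p ↥((Q : Subgroup X).map X.subtype) := Q.2.map X.subtype
    obtain ⟨P, hP⟩ := hQ.exists_le_sylow
    have hcyc : IsCyclic ↥P := h.1 P
    let f : ↥Q →* ↥P :=
      { toFun := fun x => ⟨((x : X) : G), hP ⟨(x : X), x.2, rfl⟩⟩
        map_one' := rfl
        map_mul' := fun _ _ => rfl }
    have hf : Function.Injective f := by
      intro x y hxy
      apply Subtype.ext
      apply Subtype.ext
      exact congrArg (fun z : ↥P => (z : G)) hxy
    exact isCyclic_of_injective f hf
  · have hcard : Nat.card ↥(H.map X.subtype) = Nat.card ↥H :=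
      Subgroup.card_map_of_injective X.subtype_injective
    have h1 := h.2 (H.map X.subtype) (by rw [hcard]; exact hH) (a : G) ⟨a, ha, rfl⟩ (b : G)
      ⟨b, hb, rfl⟩
    exact Subtype.ext h1

end Cfsg.Agent.Lib.Helper24_S4016_SUBH
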