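import Mathlib
import Cfsg.Agent.Lib.Helper87_S4016Cfg

/-!
# S4016 package SZ (for helper87)

Schur-Zassenhaus in `N(P)`: a complement `L` of the Sylow `p`-subgroup `P` in its normalizer.
-/

set_option autoImplicit false
open Cfsg.Agent.Lib.Helper87_S4016

namespace Cfsg.Agent.Lib.Helper24_S4016_SZ

/-- **SZ** -/
theorem SZ {G : Type*} [Group G] [Finite G] {p : ℕ} [Fact p.Prime] (P : Sylow p G) :
    ∃ L : Subgroup G, L ≤ Subgroup.normalizer ((P : Subgroup G) : Set G) ∧
      (P : Subgroup G) ⊓ L = ⊥ ∧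
      (P : Subgroup G) ⊔ L = Subgroup.normalizer ((P : Subgroup G) : Set G) ∧
      ¬ p ∣ Nat.card ↥L := by
  classical
  have hpp : p.Prime := Fact.out
  set Nm : Subgroup G := Subgroup.normalizer ((P : Subgroup G) : Set G) with hNm
  have hPN : (P : Subgroup G) ≤ Nm := Subgroup.le_normalizer
  have hP'n : ((P : Subgroup G).subgroupOf Nm).Normal := Subgroup.normal_in_normalizer
  have hidx : ¬ p ∣ ((P : Subgroup G).subgroupOf Nm).index := by
    intro hdvd
    have h1 : (P : Subgroup G).relIndex Nm ∣ (P : Subgroup G).index :=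
      Subgroup.relIndex_dvd_index_of_le hPN
    exact P.not_dvd_index (hdvd.trans h1)
  have hcard : Nat.card ↥((P : Subgroup G).subgroupOf Nm) = Nat.card ↥(P : Subgroup G) :=
    Nat.card_congr (Subgroup.subgroupOfEquivOfLe hPN).toEquiv
  obtain ⟨n, hn⟩ := P.2.exists_card_eq
  have hcop : Nat.Coprime (Nat.card ↥((P : Subgroup G).subgroupOf Nm))
      ((P : Subgroup G).subgroupOf Nm).index := by
    rw [hcard, hn]
    apply Nat.Coprime.pow_left
    exact (Nat.Prime.coprime_iff_not_dvd hpp).2 hidx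
  obtain ⟨H, hH⟩ := Subgroup.exists_right_complement'_of_coprime hcop
  refine ⟨H.map Nm.subtype, ?_, ?_, ?_, ?_⟩
  · rintro _ ⟨h, _, rfl⟩
    exact h.2
  · rw [eq_bot_iff]
    rintro x ⟨hxP, h, hh, rfl⟩
    have h1 : h ∈ (P : Subgroup G).subgroupOf Nm ⊓ H := ⟨Subgroup.mem_subgroupOf.2 hxP, hh⟩
    rw [hH.disjoint.eq_bot, Subgroup.mem_bot] at h1
    rw [Subgroup.mem_bot, h1]
    rfl
  · apply le_antisymm
    · apply sup_le hPN
      rintro _ ⟨h, _, rfl⟩
      exact h.2
    · intro g hg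
      obtain ⟨⟨a, h⟩, hah⟩ := hH.2 ⟨g, hg⟩
      have h1 : ((a : Nm) : G) * ((h : Nm) : G) = g := congrArg Subtype.val hah
      rw [← h1]
      exact Subgroup.mul_mem _
        (Subgroup.mem_sup_left (Subgroup.mem_subgroupOf.1 a.2))
        (Subgroup.mem_sup_right ⟨(h : Nm), h.2, rfl⟩)
  · rw [Subgroup.card_map_of_injective Nm.subtype_injective, ← hH.symm.index_eq_card]
    exact hidx

end Cfsg.Agent.Lib.Helper24_S4016_SZ
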