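import Mathlib
import Cfsg.Agent.Lib.Helper66_S92LiftDefs
import Cfsg.Agent.Lib.Helper66_S92Rank

set_option autoImplicit false
set_option linter.unusedVariables false
set_option linter.unusedSectionVars false

/-!
# S2092 (architect helper66): package LC_NE (helper58)

Lifts of distinct commuting root elements commute (torus separation).
-/

namespace Cfsg.Agent.Lib.Helper66_S92

open Cfsg.Agent.Lib.Helper81_UceA Cfsg.Agent.Lib.Helper5_SteinbergA

variable {ι : Type*} [DecidableEq ι] {K : Type*} [Field K] {S E : Type*} [Group S] [Group E]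
  {π : E →* S} {XM : ι ⊕ ι → ι ⊕ ι → K → S}

omit [DecidableEq ι] in
theorem h58_idx_eq_iff (x y : ι ⊕ ι) : idx x = idx y ↔ x = y ∨ x = ng y := by
  cases x <;> cases y <;> simp [idx, ng]

omit [DecidableEq ι] in
theorem h58_idx_ng (x : ι ⊕ ι) : idx (ng x) = idx x := by
  cases x <;> rfl

/-- a central element is fixed by conjugation -/
theorem h58_conj_central (hπ : CExt π) {z : E} (hz : π z = 1) (e : E) : e * z * e⁻¹ = z := by
  rw [← ker_comm hπ hz e, mul_inv_cancel_right]

/-- the torus element `h_{i0}(l)` -/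
theorem h58_exists_tor (Tor : TorusC XM) (l : K) (hl0 : l ≠ 0) (i0 : ι) :
    ∃ k ∈ Tor.T, (∀ x : ι ⊕ ι, idx x ≠ i0 → Tor.chi k x = 1) ∧
      (∀ x : ι ⊕ ι, idx x = i0 → Tor.chi k x = l ∨ Tor.chi k x = l⁻¹) := by
  obtain ⟨k, hk, hχ⟩ := Tor.rich (fun i => if i = i0 then Units.mk0 l hl0 else 1)
  refine ⟨k, hk, ?_, ?_⟩
  · intro x hx
    cases x with
    | inl i =>
      have hi : i ≠ i0 := hx
      rw [hχ i, if_neg hi]
      rfl
    | inr i =>
      have hi : i ≠ i0 := hx
      have h1 := Tor.chi_ng k hk (Sum.inl i)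
      rw [ng_inl] at h1
      rw [h1, hχ i, if_neg hi]
      simp
  · intro x hx
    cases x with
    | inl i =>
      have hi : i = i0 := hx
      left
      rw [hχ i, if_pos hi]
      rfl
    | inr i =>
      have hi : i = i0 := hx
      right
      have h1 := Tor.chi_ng k hk (Sum.inl i)
      rw [ng_inl] at h1
      rw [h1, hχ i, if_pos hi]
      rfl

/-- the core: a torus element scaling the first root and fixing the second -/
theorem h58_lc_core (hXM : CStAB XM) (Tor : TorusC XM) (hπ : CExt π) (a c d e : ι ⊕ ι)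
    (hcomm : ∀ t u : K, XM a c t * XM d e u = XM d e u * XM a c t)
    (k : S) (hk : k ∈ Tor.T) (lam : K) (hlam : lam ≠ 1)
    (hα : Tor.chi k a * Tor.chi k c = lam) (hβ : Tor.chi k d * Tor.chi k e = 1) (t u : K) :
    brk hπ (XM a c t) (XM d e u) = 1 := by
  have hz : ∀ t u : K, π (brk hπ (XM a c t) (XM d e u)) = 1 := fun t u => brk_ker hπ (hcomm t u)
  have hadd : ∀ s s' : K, brk hπ (XM a c (s + s')) (XM d e u) =
      brk hπ (XM a c s) (XM d e u) * brk hπ (XM a c s') (XM d e u) := by
    intro s s'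
    rw [← hXM.add a c s s', brk_mul_left, h58_conj_central hπ (hz s' u)]
    exact ker_comm hπ (hz s' u) _
  have hinv : ∀ s : K, brk hπ (XM a c (lam * s)) (XM d e u) = brk hπ (XM a c s) (XM d e u) := by
    intro s
    have h1 := conj_brk hπ (lft hπ k) (XM a c s) (XM d e u)
    rw [map_lft, Tor.conj k hk a c s, Tor.conj k hk d e u, hα, hβ, one_mul,
      h58_conj_central hπ (hz s u)] at h1
    exact h1.symm
  exact eq_one_of_add_of_scale (fun s => brk hπ (XM a c s) (XM d e u)) hadd hlam hinv t

/-- separation by the index of `a` -/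
theorem h58_core2 (hXM : CStAB XM) (Tor : TorusC XM) (hπ : CExt π)
    (hK : ∃ l : K, l ≠ 0 ∧ l ≠ 1) (a c d e : ι ⊕ ι)
    (hcomm : ∀ t u : K, XM a c t * XM d e u = XM d e u * XM a c t)
    (hc : idx c ≠ idx a) (hd : idx d ≠ idx a) (he : idx e ≠ idx a) (t u : K) :
    brk hπ (XM a c t) (XM d e u) = 1 := by
  obtain ⟨l, hl0, hl1⟩ := hK
  obtain ⟨k, hk, hoff, hon⟩ := h58_exists_tor Tor l hl0 (idx a)
  have hβ : Tor.chi k d * Tor.chi k e = 1 := by rw [hoff d hd, hoff e he, mul_one]
  have hα : Tor.chi k a * Tor.chi k c = Tor.chi k a := by rw [hoff c hc, mul_one]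
  have hlam : Tor.chi k a ≠ 1 := by
    rcases hon a rfl with h | h
    · rw [h]
      exact hl1
    · rw [h]
      intro h'
      exact hl1 (inv_eq_one.mp h')
  exact h58_lc_core hXM Tor hπ a c d e hcomm k hk _ hlam hα hβ t u

/-- from the triviality of the commutator of lifts -/
theorem h58_comm_of_brk (hπ : CExt π) {x y : E} {g h : S} (hx : π x = g) (hy : π y = h)
    (hb : brk hπ g h = 1) : x * y = y * x := by
  have h1 := brk_eq' hπ hx hy
  rw [hb] at h1
  have h2 : x * y = (x * y * x⁻¹ * y⁻¹) * (y * x) := by group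
  rw [h2, h1, one_mul]

/-! ## LC_NE -/

/-- distinct commuting roots, not both long: needs a scalar `l ≠ 0, 1` -/
theorem liftComm_ne (hXM : CStAB XM) (Tor : TorusC XM) (hπ : CExt π)
    (hK : ∃ l : K, l ≠ 0 ∧ l ≠ 1) (a c d e : ι ⊕ ι) (t u : K) (x y : E)
    (h1 : d ≠ ng a) (h2 : d ≠ ng c) (h3 : e ≠ ng a) (h4 : e ≠ ng c)
    (hne : ¬((d = a ∧ e = c) ∨ (d = c ∧ e = a))) (hll : ¬(a = c ∧ d = e))
    (hx : π x = XM a c t) (hy : π y = XM d e u) : x * y = y * x := by
  by_cases hdeg1 : c = ng a
  · rw [hdeg1, hXM.opp] at hx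
    exact ker_comm hπ hx y
  by_cases hdeg2 : e = ng d
  · rw [hdeg2, hXM.opp] at hy
    exact (ker_comm hπ hy x).symm
  have hcomm : ∀ t u : K, XM a c t * XM d e u = XM d e u * XM a c t :=
    fun t u => hXM.comm a c d e t u h1 h2 h3 h4
  have hcomm' : ∀ u t : K, XM d e u * XM a c t = XM a c t * XM d e u := fun u t => (hcomm t u).symm
  apply h58_comm_of_brk hπ hx hy
  -- membership facts
  have hdmem : idx d = idx a ∨ idx d = idx c → d = a ∨ d = c := by
    rintro (h | h)
    · rcases (h58_idx_eq_iff d a).mp h with h' | h'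
      · exact Or.inl h'
      · exact absurd h' h1
    · rcases (h58_idx_eq_iff d c).mp h with h' | h'
      · exact Or.inr h'
      · exact absurd h' h2
  have hemem : idx e = idx a ∨ idx e = idx c → e = a ∨ e = c := by
    rintro (h | h)
    · rcases (h58_idx_eq_iff e a).mp h with h' | h'
      · exact Or.inl h'
      · exact absurd h' h3
    · rcases (h58_idx_eq_iff e c).mp h with h' | h'
      · exact Or.inr h'
      · exact absurd h' h4
  by_cases hde : d = e
  · -- `β` long, so `α` is short
    have hac : a ≠ c := fun h => hll ⟨h, hde⟩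
    have hiac : idx c ≠ idx a := by
      intro h
      rcases (h58_idx_eq_iff c a).mp h with h' | h'
      · exact hac h'.symm
      · exact hdeg1 h'
    by_cases hia : idx a = idx d
    · -- use the index of `c`
      have hcd : idx d ≠ idx c := by
        intro h
        exact hiac (h.symm.trans hia.symm)
      have hce : idx e ≠ idx c := by rw [← hde]; exact hcd
      have hb := h58_core2 hXM Tor hπ hK c a d e
        (fun t u => by rw [hXM.symm c a]; exact hcomm t u) hiac.symm hcd hce t u
      rw [hXM.symm c a] at hb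
      exact hb
    · have hda : idx d ≠ idx a := fun h => hia h.symm
      have hea : idx e ≠ idx a := by rw [← hde]; exact hda
      exact h58_core2 hXM Tor hπ hK a c d e hcomm hiac hda hea t u
  · -- `β` short
    have hide : idx e ≠ idx d := by
      intro h
      rcases (h58_idx_eq_iff e d).mp h with h' | h'
      · exact hde h'.symm
      · exact hdeg2 h'
    by_cases hd : idx d = idx a ∨ idx d = idx c
    · by_cases he : idx e = idx a ∨ idx e = idx c
      · exfalso
        rcases hdmem hd with hd' | hd' <;> rcases hemem he with he' | he'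
        · exact hde (hd'.trans he'.symm)
        · exact hne (Or.inl ⟨hd', he'⟩)
        · exact hne (Or.inr ⟨hd', he'⟩)
        · exact hde (hd'.trans he'.symm)
      · rw [not_or] at he
        -- use the index of `e`
        have hb := h58_core2 hXM Tor hπ hK e d a c
          (fun u t => by rw [hXM.symm e d]; exact hcomm' u t) hide.symm
          (fun h => he.1 h.symm) (fun h => he.2 h.symm) u t
        rw [hXM.symm e d] at hb
        rw [← brk_inv, hb, inv_one]
    · rw [not_or] at hd
      have hb := h58_core2 hXM Tor hπ hK d e a c hcomm' hide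
        (fun h => hd.1 h.symm) (fun h => hd.2 h.symm) u t
      rw [← brk_inv, hb, inv_one]

/-- distinct long roots: needs a scalar with `l ^ 2 ≠ 1` -/
theorem liftComm_ll4 (hXM : CStAB XM) (Tor : TorusC XM) (hπ : CExt π)
    (hK : ∃ l : K, l ≠ 0 ∧ l ^ 2 ≠ 1) (a d : ι ⊕ ι) (t u : K) (x y : E)
    (h1 : d ≠ ng a) (hne : d ≠ a)
    (hx : π x = XM a a t) (hy : π y = XM d d u) : x * y = y * x := by
  obtain ⟨l, hl0, hl2⟩ := hK
  have hcomm : ∀ t u : K, XM a a t * XM d d u = XM d d u * XM a a t :=
    fun t u => hXM.comm a a d d t u h1 h1 h1 h1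
  have hda : idx d ≠ idx a := by
    intro h
    rcases (h58_idx_eq_iff d a).mp h with h' | h'
    · exact hne h'
    · exact h1 h'
  obtain ⟨k, hk, hoff, hon⟩ := h58_exists_tor Tor l hl0 (idx a)
  have hβ : Tor.chi k d * Tor.chi k d = 1 := by rw [hoff d hda, mul_one]
  have hlam : Tor.chi k a * Tor.chi k a ≠ 1 := by
    rcases hon a rfl with h | h
    · rw [h, ← pow_two]
      exact hl2
    · rw [h, ← pow_two, inv_pow]
      intro h'
      exact hl2 (inv_eq_one.mp h')
  apply h58_comm_of_brk hπ hx hy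
  exact h58_lc_core hXM Tor hπ a a d d hcomm k hk _ hlam rfl hβ t u

end Cfsg.Agent.Lib.Helper66_S92
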