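import Mathlib
import Cfsg.Agent.Lib.Helper66_S92LiftDefs
import Cfsg.Agent.Lib.Helper66_S92Rank
import Cfsg.Agent.Lib.Helper58_S92_LC_NE

set_option autoImplicit false
set_option linter.unusedVariables false
set_option linter.unusedSectionVars false

/-!
# S2092 (architect helper66): package LC_SAME4 (helper24)

Lifts of elements of one root subgroup commute (any field, given the statement for all distinct
commuting pairs), and the assembly `liftComm4` for fields with a scalar `l ≠ 0`, `l ^ 2 ≠ 1`.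
-/

namespace Cfsg.Agent.Lib.Helper66_S92

open Cfsg.Agent.Lib.Helper81_UceA Cfsg.Agent.Lib.Helper5_SteinbergA

variable {ι : Type*} [DecidableEq ι] {K : Type*} [Field K] {S E : Type*} [Group S] [Group E]
  {π : E →* S} {XM : ι ⊕ ι → ι ⊕ ι → K → S}

/-- commuting with another lift of the same element -/
theorem h24_comm_of_lift (hπ : CExt π) {x y y' : E} (hyy : π y = π y')
    (h : x * y' = y' * x) : x * y = y * x := by
  have h1 : y * x * y⁻¹ = y' * x * y'⁻¹ := hπ.conj_eq hyy x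
  have h2 : y' * x * y'⁻¹ = x := by rw [← h, mul_inv_cancel_right]
  rw [h2] at h1
  calc x * y = (y * x * y⁻¹) * y := by rw [h1]
    _ = y * x := by group

theorem h24_ne_ng_symm {a e : ι ⊕ ι} (h : e ≠ ng a) : a ≠ ng e := by
  intro h'
  apply h
  rw [h', ng_ng]

theorem liftComm_long (hXM : CStAB XM) (hπ : CExt π)
    (H1 : ∀ (a c d e : ι ⊕ ι) (t u : K) (x y : E), d ≠ ng a → d ≠ ng c → e ≠ ng a → e ≠ ng c →
      ¬((d = a ∧ e = c) ∨ (d = c ∧ e = a)) → π x = XM a c t → π y = XM d e u → x * y = y * x)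
    (a e : ι ⊕ ι) (hea : e ≠ a) (hea' : e ≠ ng a) (t u : K) (x y : E)
    (hx : π x = XM e e t) (hy : π y = XM e e u) : x * y = y * x := by
  have hae' : a ≠ ng e := h24_ne_ng_symm hea'
  have hnn : ng a ≠ ng e := fun h => hea (ng_injective h).symm
  -- the three kinds of lifts commuting with `x`
  have c1 : ∀ (s : K) (w : E), π w = XM a e s → x * w = w * x := fun s w hw =>
    H1 e e a e t s x w hae' hae' (ne_ng e) (ne_ng e)
      (by rintro (⟨h, -⟩ | ⟨h, -⟩) <;> exact hea h.symm) hx hw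
  have c2 : ∀ (s : K) (w : E), π w = XM a a s → x * w = w * x := fun s w hw =>
    H1 e e a a t s x w hae' hae' hae' hae'
      (by rintro (⟨h, -⟩ | ⟨h, -⟩) <;> exact hea h.symm) hx hw
  have c3 : ∀ (s : K) (w : E), π w = XM (ng a) e s → x * w = w * x := fun s w hw =>
    H1 e e (ng a) e t s x w hnn hnn (ne_ng e) (ne_ng e)
      (by rintro (⟨h, -⟩ | ⟨h, -⟩) <;> exact hea' h.symm) hx hw
  -- the decomposition of `XM e e u`
  set g : S := XM a a (-u) with hg
  set h : S := XM (ng a) e 1 with hh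
  set s1 : K := om K a * u with hs1
  have hls := hXM.ls a e (-u) 1 hea hea'
  have e1 : -(om K a * -u * 1) = s1 := by rw [hs1]; ring
  have e2 : -(-u * (1 : K) ^ 2) = u := by ring
  rw [e1, e2] at hls
  have hdec : XM e e u = (XM a e s1)⁻¹ * (g * h * g⁻¹ * h⁻¹) := by
    rw [hls]; group
  let y' : E := (lft hπ (XM a e s1))⁻¹ * brk hπ g h
  have hy' : π y = π y' := by
    rw [hy, hdec]
    show _ = π ((lft hπ (XM a e s1))⁻¹ * brk hπ g h)
    rw [map_mul, map_inv, map_lft, map_brk]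
  apply h24_comm_of_lift hπ hy'
  have k1 : x * lft hπ (XM a e s1) = lft hπ (XM a e s1) * x := c1 s1 _ (map_lft hπ _)
  have k1' : x * (lft hπ (XM a e s1))⁻¹ = (lft hπ (XM a e s1))⁻¹ * x := by
    have : (lft hπ (XM a e s1))⁻¹ * (x * lft hπ (XM a e s1)) * (lft hπ (XM a e s1))⁻¹ =
        (lft hπ (XM a e s1))⁻¹ * (lft hπ (XM a e s1) * x) * (lft hπ (XM a e s1))⁻¹ := by rw [k1]
    simpa [mul_assoc] using this.symm
  have k2 : x * brk hπ g h = brk hπ g h * x :=
    commute_comm (c2 (-u) _ (map_lft hπ _)) (c3 1 _ (map_lft hπ _))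
  show x * ((lft hπ (XM a e s1))⁻¹ * brk hπ g h) = (lft hπ (XM a e s1))⁻¹ * brk hπ g h * x
  rw [← mul_assoc, k1', mul_assoc, k2, mul_assoc]

theorem liftComm_short (hXM : CStAB XM) (hπ : CExt π)
    (H1 : ∀ (a c d e : ι ⊕ ι) (t u : K) (x y : E), d ≠ ng a → d ≠ ng c → e ≠ ng a → e ≠ ng c →
      ¬((d = a ∧ e = c) ∨ (d = c ∧ e = a)) → π x = XM a c t → π y = XM d e u → x * y = y * x)
    (a e : ι ⊕ ι) (hea : e ≠ a) (hea' : e ≠ ng a) (t u : K) (x y : E)
    (hx : π x = XM a e t) (hy : π y = XM a e u) : x * y = y * x := by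
  have hae' : a ≠ ng e := h24_ne_ng_symm hea'
  have hnn : ng a ≠ ng e := fun h => hea (ng_injective h).symm
  -- `x` commutes with the lifts of `XM e e .`
  have c1 : ∀ (s : K) (w : E), π w = XM e e s → x * w = w * x := fun s w hw =>
    H1 a e e e t s x w hea' (ne_ng e) hea' (ne_ng e)
      (by rintro (⟨h, -⟩ | ⟨-, h⟩) <;> exact hea h) hx hw
  -- lifts of `XM e e .` commute with the lifts of `XM a a .` and of `XM (ng a) e .`
  have c2 : ∀ (r s : K) (v w : E), π v = XM e e r → π w = XM a a s → v * w = w * v :=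
    fun r s v w hv hw =>
      H1 e e a a r s v w hae' hae' hae' hae'
        (by rintro (⟨h, -⟩ | ⟨h, -⟩) <;> exact hea h.symm) hv hw
  have c3 : ∀ (r s : K) (v w : E), π v = XM e e r → π w = XM (ng a) e s → v * w = w * v :=
    fun r s v w hv hw =>
      H1 e e (ng a) e r s v w hnn hnn (ne_ng e) (ne_ng e)
        (by rintro (⟨h, -⟩ | ⟨h, -⟩) <;> exact hea' h.symm) hv hw
  -- the decomposition of `XM a e u`
  set t1 : K := -(om K a * u) with ht1
  set g : S := XM a a t1 with hg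
  set h : S := XM (ng a) e 1 with hh
  have hls := hXM.ls a e t1 1 hea hea'
  have e1 : -(om K a * t1 * 1) = u := by
    rw [ht1]
    have := om_mul_self (K := K) a
    linear_combination u * this
  have e2 : -(t1 * (1 : K) ^ 2) = -t1 := by ring
  rw [e1, e2] at hls
  have hdec : XM a e u = (g * h * g⁻¹ * h⁻¹) * XM e e t1 := by
    rw [hls, mul_assoc, hXM.add, neg_add_cancel, hXM.X_zero, mul_one]
  let y' : E := brk hπ g h * lft hπ (XM e e t1)
  have hy' : π y = π y' := by
    rw [hy, hdec]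
    show _ = π (brk hπ g h * lft hπ (XM e e t1))
    rw [map_mul, map_lft, map_brk]
  apply h24_comm_of_lift hπ hy'
  -- `x` commutes with `brk g h`
  have hxg : π x * g * (π x)⁻¹ = g := by
    rw [hx, hg]
    exact hXM.cj_comm a e a a t t1 (ne_ng a) hae' (ne_ng a) hae'
  set r : K := -(2 * om K a * t * 1) with hr
  have hxh : π x * h * (π x)⁻¹ = XM e e r * h := by
    rw [hx, hh, hXM.symm a e t]
    exact hXM.cj_ssl e a t 1 hea hea'
  have hbk : brk hπ g (XM e e r) = 1 := by
    have hc : lft hπ (XM e e r) * lft hπ g = lft hπ g * lft hπ (XM e e r) :=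
      c2 r t1 _ _ (map_lft hπ _) (map_lft hπ g)
    unfold brk
    rw [← hc]
    group
  have hk2 : lft hπ (XM e e r) * brk hπ g h * (lft hπ (XM e e r))⁻¹ = brk hπ g h := by
    have : lft hπ (XM e e r) * brk hπ g h = brk hπ g h * lft hπ (XM e e r) :=
      commute_comm (c2 r t1 _ _ (map_lft hπ _) (map_lft hπ _))
        (c3 r 1 _ _ (map_lft hπ _) (map_lft hπ _))
    rw [this, mul_inv_cancel_right]
  have k2 : x * brk hπ g h = brk hπ g h * x := by
    have h1 := conj_brk hπ x g h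
    rw [hxg, hxh, brk_mul_right, hbk, one_mul, hk2] at h1
    calc x * brk hπ g h = (x * brk hπ g h * x⁻¹) * x := by group
      _ = brk hπ g h * x := by rw [h1]
  have k1 : x * lft hπ (XM e e t1) = lft hπ (XM e e t1) * x := c1 t1 _ (map_lft hπ _)
  show x * (brk hπ g h * lft hπ (XM e e t1)) = brk hπ g h * lft hπ (XM e e t1) * x
  rw [← mul_assoc, k2, mul_assoc, k1, mul_assoc]

/-- assembly for `q ≥ 4` -/
theorem liftComm4 (hXM : CStAB XM) (Tor : TorusC XM) (hπ : CExt π)
    (hK : ∃ l : K, l ≠ 0 ∧ l ^ 2 ≠ 1) (h2 : ∃ i j : ι, i ≠ j) : LiftComm π XM := by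
  have hK' : ∃ l : K, l ≠ 0 ∧ l ≠ 1 := by
    obtain ⟨l, hl0, hl2⟩ := hK
    refine ⟨l, hl0, ?_⟩
    rintro rfl
    exact hl2 (one_pow 2)
  -- distinct commuting pairs
  have H1 : ∀ (a c d e : ι ⊕ ι) (t u : K) (x y : E), d ≠ ng a → d ≠ ng c → e ≠ ng a → e ≠ ng c →
      ¬((d = a ∧ e = c) ∨ (d = c ∧ e = a)) → π x = XM a c t → π y = XM d e u →
      x * y = y * x := by
    intro a c d e t u x y h1 h2' h3 h4 hne hx hy
    by_cases hll : a = c ∧ d = e
    · obtain ⟨rfl, rfl⟩ := hll
      have hda : d ≠ a := fun h => hne (Or.inl ⟨h, h⟩)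
      exact liftComm_ll4 hXM Tor hπ hK a d t u x y h1 hda hx hy
    · exact liftComm_ne hXM Tor hπ hK' a c d e t u x y h1 h2' h3 h4 hne hll hx hy
  intro a c d e t u x y h1 h2' h3 h4 hx hy
  by_cases hne : (d = a ∧ e = c) ∨ (d = c ∧ e = a)
  · -- the same root subgroup
    have hy' : π y = XM a c u := by
      rcases hne with ⟨rfl, rfl⟩ | ⟨rfl, rfl⟩
      · exact hy
      · rw [hy, hXM.symm]
    have hca : c ≠ ng a := by
      rcases hne with ⟨rfl, rfl⟩ | ⟨rfl, rfl⟩
      · exact h3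
      · exact h1
    by_cases hac : c = a
    · subst hac
      -- a long root: choose an auxiliary index
      obtain ⟨i, j, hij⟩ := h2
      have : ∃ b : ι ⊕ ι, idx b ≠ idx c := by
        by_cases hi : i = idx c
        · exact ⟨Sum.inl j, fun h => hij (hi.trans h.symm)⟩
        · exact ⟨Sum.inl i, hi⟩
      obtain ⟨b, hb⟩ := this
      have hcb : c ≠ b := fun h => hb (by rw [h])
      have hcb' : c ≠ ng b := fun h => hb (by rw [h, h58_idx_ng])
      exact liftComm_long hXM hπ H1 b c hcb hcb' t u x y hx hy'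
    · exact liftComm_short hXM hπ H1 a c hac hca t u x y hx hy'
  · exact H1 a c d e t u x y h1 h2' h3 h4 hne hx hy

end Cfsg.Agent.Lib.Helper66_S92
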