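import Mathlib
import Cfsg.Agent.Lib.Helper66_S92LiftDefs
import Cfsg.Agent.Lib.Helper66_S92Rank
import Cfsg.Agent.Lib.Helper58_S92_LC_NE

set_option autoImplicit false
set_option linter.unusedVariables false
set_option linter.unusedSectionVars false

/-!
# S2092 (architect helper66): package REL_LS (helper24)

The long-short commutator relation for an equivariant family of lifts (given the relation `ssl`):
the defect `D(u) = [Y a a t, Y a' e u] * (right hand side)⁻¹` is central, additive in `u` and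
invariant under a torus element scaling `u`, hence trivial.
-/

namespace Cfsg.Agent.Lib.Helper66_S92

open Cfsg.Agent.Lib.Helper81_UceA Cfsg.Agent.Lib.Helper5_SteinbergA

variable {ι : Type*} [DecidableEq ι] {K : Type*} [Field K] {S E : Type*} [Group S] [Group E]
  {π : E →* S} {XM : ι ⊕ ι → ι ⊕ ι → K → S}

/-- a pure group identity: the commutator `[x, y1 y2]` when `[x, y_i] = z_i p_i q_i` with `z_2`
central and `y1` acting on `p2`, `q2` in a known way -/
theorem h24_comm_mul_aux {x y1 y2 p1 q1 p2 q2 qw z1 z2 : E}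
    (hz2 : ∀ w : E, z2 * w = w * z2)
    (hC1 : x * y1 * x⁻¹ * y1⁻¹ = z1 * (p1 * q1))
    (hC2 : x * y2 * x⁻¹ * y2⁻¹ = z2 * (p2 * q2))
    (hcp : y1 * p2 * y1⁻¹ = qw * p2) (hcq : y1 * q2 * y1⁻¹ = q2) :
    x * (y1 * y2) * x⁻¹ * (y1 * y2)⁻¹ = z1 * z2 * (p1 * q1 * (qw * p2 * q2)) := by
  have e0 : x * (y1 * y2) * x⁻¹ * (y1 * y2)⁻¹ =
      (x * y1 * x⁻¹ * y1⁻¹) * (y1 * (x * y2 * x⁻¹ * y2⁻¹) * y1⁻¹) := by group
  have e1 : y1 * (z2 * (p2 * q2)) * y1⁻¹ = z2 * ((y1 * p2 * y1⁻¹) * (y1 * q2 * y1⁻¹)) := by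
    have : y1 * (z2 * (p2 * q2)) * y1⁻¹ = (y1 * z2) * (p2 * q2) * y1⁻¹ := by group
    rw [this, ← hz2 y1]
    group
  rw [e0, hC1, hC2, e1, hcp, hcq]
  have e2 : z1 * (p1 * q1) * (z2 * (qw * p2 * q2)) = z1 * ((p1 * q1) * z2) * (qw * p2 * q2) := by
    group
  rw [e2, ← hz2 (p1 * q1)]
  group

/-- a product in an abelian piece -/
theorem h24_prod_aux {P Q : K → E} (hP : ∀ s s', P s * P s' = P (s + s'))
    (hQ : ∀ r r', Q r * Q r' = Q (r + r')) (hPQ : ∀ s r, P s * Q r = Q r * P s)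
    (s1 s2 r1 w r2 : K) :
    P s1 * Q r1 * (Q w * P s2 * Q r2) = P (s1 + s2) * Q (r1 + w + r2) := by
  have e1 : P s1 * Q r1 * (Q w * P s2 * Q r2) = P s1 * (Q r1 * Q w) * P s2 * Q r2 := by group
  rw [e1, hQ]
  have e2 : P s1 * Q (r1 + w) * P s2 * Q r2 = P s1 * (Q (r1 + w) * P s2) * Q r2 := by group
  rw [e2, ← hPQ]
  have e3 : P s1 * (P s2 * Q (r1 + w)) * Q r2 = (P s1 * P s2) * (Q (r1 + w) * Q r2) := by group
  rw [e3, hP, hQ]

theorem ls_of_liftFam (hXM : CStAB XM) (Tor : TorusC XM) (hπ : CExt π)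
    (hK : ∃ l : K, l ≠ 0 ∧ l ≠ 1) (hLC : LiftComm π XM) {Y : ι ⊕ ι → ι ⊕ ι → K → E}
    (hY : LiftFam π XM Y) (hT : TorEq π Tor Y)
    (hssl : ∀ a c t u, a ≠ c → a ≠ ng c →
      Y a c t * Y (ng c) a u * (Y a c t)⁻¹ * (Y (ng c) a u)⁻¹ = Y a a (-(2 * om K c * t * u)))
    (a e : ι ⊕ ι) (t u : K) (h1 : e ≠ a) (h2 : e ≠ ng a) :
    Y a a t * Y (ng a) e u * (Y a a t)⁻¹ * (Y (ng a) e u)⁻¹ =
      Y a e (-(om K a * t * u)) * Y e e (-(t * u ^ 2)) := by
  -- the defect
  set D : K → E := fun u => Y a a t * Y (ng a) e u * (Y a a t)⁻¹ * (Y (ng a) e u)⁻¹ *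
    (Y a e (-(om K a * t * u)) * Y e e (-(t * u ^ 2)))⁻¹ with hDdef
  have hD : ∀ u, π (D u) = 1 := by
    intro u
    simp only [hDdef, map_mul, map_inv, hY.lift]
    rw [hXM.ls a e t u h1 h2, mul_inv_cancel]
  have hDeq : ∀ u, Y a a t * Y (ng a) e u * (Y a a t)⁻¹ * (Y (ng a) e u)⁻¹ =
      D u * (Y a e (-(om K a * t * u)) * Y e e (-(t * u ^ 2))) := by
    intro u
    simp only [hDdef]
    group
  have hcen : ∀ u (w : E), D u * w = w * D u := fun u w => ker_comm hπ (hD u) w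
  -- commutation facts
  have hPQ : ∀ s r, Y a e s * Y e e r = Y e e r * Y a e s := fun s r =>
    hLC a e e e s r _ _ h2 (ne_ng e) h2 (ne_ng e) (hY.lift _ _ _) (hY.lift _ _ _)
  have hea : e ≠ ng (ng a) := by rw [ng_ng]; exact h1
  have hyQ : ∀ v r, Y (ng a) e v * Y e e r = Y e e r * Y (ng a) e v := fun v r =>
    hLC (ng a) e e e v r _ _ hea (ne_ng e) hea (ne_ng e) (hY.lift _ _ _) (hY.lift _ _ _)
  have hcq : ∀ v r, Y (ng a) e v * Y e e r * (Y (ng a) e v)⁻¹ = Y e e r := by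
    intro v r
    rw [hyQ, mul_inv_cancel_right]
  have hcp : ∀ v s, Y (ng a) e v * Y a e s * (Y (ng a) e v)⁻¹ =
      Y e e (2 * om K a * v * s) * Y a e s := by
    intro v s
    have h3 := hssl e (ng a) v s h2 hea
    rw [ng_ng, hY.symm e (ng a) v, om_ng] at h3
    have e1 : -(2 * -om K a * v * s) = 2 * om K a * v * s := by ring
    rw [e1] at h3
    rw [← h3]
    group
  -- additivity of the defect
  have hadd : ∀ u1 u2, D (u1 + u2) = D u1 * D u2 := by
    intro u1 u2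
    have key := h24_comm_mul_aux (x := Y a a t) (hcen u2) (hDeq u1) (hDeq u2)
      (hcp u1 (-(om K a * t * u2))) (hcq u1 (-(t * u2 ^ 2)))
    rw [hY.add (ng a) e u1 u2,
      h24_prod_aux (P := fun s => Y a e s) (Q := fun r => Y e e r)
        (fun s s' => hY.add a e s s') (fun r r' => hY.add e e r r') hPQ] at key
    have e1 : -(om K a * t * u1) + -(om K a * t * u2) = -(om K a * t * (u1 + u2)) := by ring
    have e2 : -(t * u1 ^ 2) + 2 * om K a * u1 * -(om K a * t * u2) + -(t * u2 ^ 2) =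
        -(t * (u1 + u2) ^ 2) := by
      have := om_mul_self (K := K) a
      linear_combination (-2 * t * u1 * u2) * this
    rw [e1, e2] at key
    have : D (u1 + u2) = Y a a t * Y (ng a) e (u1 + u2) * (Y a a t)⁻¹ * (Y (ng a) e (u1 + u2))⁻¹ *
        (Y a e (-(om K a * t * (u1 + u2))) * Y e e (-(t * (u1 + u2) ^ 2)))⁻¹ := rfl
    rw [this, key, mul_inv_cancel_right]
  -- the torus element
  obtain ⟨l, hl0, hl1⟩ := hK
  obtain ⟨k, hk, hoff, hon⟩ := h58_exists_tor Tor l hl0 (idx e)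
  have hia : idx a ≠ idx e := by
    rw [Ne, h58_idx_eq_iff]
    rintro (h | h)
    · exact h1 h.symm
    · apply h2
      rw [h, ng_ng]
  have hia' : idx (ng a) ≠ idx e := by rw [h58_idx_ng]; exact hia
  have hχa : Tor.chi k a = 1 := hoff a hia
  have hχa' : Tor.chi k (ng a) = 1 := hoff (ng a) hia'
  set lam : K := Tor.chi k e with hlam
  have hlam1 : lam ≠ 1 := by
    rcases hon e rfl with h | h
    · rw [hlam, h]
      exact hl1
    · rw [hlam, h]
      intro h'
      exact hl1 (inv_eq_one.mp h')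
  set kt : E := lft hπ k with hkt
  have hT' : ∀ b c s, kt * Y b c s * kt⁻¹ = Y b c (Tor.chi k b * Tor.chi k c * s) := by
    intro b c s
    have hmem : π kt ∈ Tor.T := by rw [hkt, map_lft]; exact hk
    have := hT kt hmem b c s
    rwa [hkt, map_lft] at this
  have hinv : ∀ v, D (lam * v) = D v := by
    intro v
    have h3 : kt * D v * kt⁻¹ = D v := h58_conj_central hπ (hD v) kt
    have hc : ∀ w, MulAut.conj kt w = kt * w * kt⁻¹ := fun w => MulAut.conj_apply kt w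
    have h4 : kt * D v * kt⁻¹ = D (lam * v) := by
      rw [← hc]
      simp only [hDdef, map_mul, map_inv]
      rw [hc, hc, hc, hc, hT', hT', hT', hT', hχa, hχa', ← hlam]
      have e1 : (1 : K) * 1 * t = t := by ring
      have e2 : (1 : K) * lam * v = lam * v := by ring
      have e3 : (1 : K) * lam * -(om K a * t * v) = -(om K a * t * (lam * v)) := by ring
      have e4 : lam * lam * -(t * v ^ 2) = -(t * (lam * v) ^ 2) := by ring
      rw [e1, e2, e3, e4]
    rw [← h4, h3]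
  have hone : D u = 1 := eq_one_of_add_of_scale D hadd hlam1 hinv u
  have := hDeq u
  rw [hone, one_mul] at this
  exact this

end Cfsg.Agent.Lib.Helper66_S92
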