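import Mathlib
import Cfsg.Prelude.Def_GeometricClasses
import Cfsg.Agent.Lib.Helper13_SpExtDefs
import Cfsg.Agent.Lib.Helper63_SpExt_QA
import Cfsg.Agent.Lib.Helper99_SpBridge
import Cfsg.Agent.Lib.Helper5_SpOrder
import Cfsg.Agent.Lib.Helper94_Bridge

set_option autoImplicit false

namespace Cfsg.Agent.Lib.Helper24_SpExt_QE

open Matrix Cfsg.Agent.Lib.Helper94_Symp Cfsg.Agent.Lib.Helper94_Bridge

/-- Abstract form: the group of `F`-linear `B`-isometries commuting with the `E`-action contains a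
copy of `Sp_{2m}(E)`. -/
theorem abstract_dvd {F E V : Type*} [Field F] [Fintype F] [Field E] [Algebra F E]
    [FiniteDimensional F E] [Algebra.IsSeparable F E] [AddCommGroup V] [Module F V] [Module E V]
    [IsScalarTower F E V] [FiniteDimensional F V]
    {q k m : ℕ} (hq : Fintype.card F = q) (hk : Module.finrank F E = k)
    (hV : Module.finrank F V = 2 * (k * m))
    (B : LinearMap.BilinForm F V) (hB : B.Nondegenerate)
    (hsa : ∀ (a : E) (u v : V), B (a • u) v = B u (a • v))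
    (halt : ∀ (a : E) (v : V), B (a • v) v = 0)
    (S : Subgroup (V ≃ₗ[F] V))
    (hS : ∀ g : V ≃ₗ[F] V, (∀ u v, B (g u) (g v) = B u v) → (∀ (a : E) v, g (a • v) = a • g v) → g ∈ S) :
    ((q ^ k) ^ (m ^ 2) * ∏ j ∈ Finset.range m, ((q ^ k) ^ (2 * (j + 1)) - 1)) ∣ Nat.card S := by
  classical
  obtain ⟨BE, hBEalt, hBEtr, hBEnd⟩ := Cfsg.Agent.Lib.Helper63_SpExt_QA.QA B hsa halt
  have hnd := hBEnd hB
  have hkpos : 0 < k := by
    rw [← hk]; exact Module.finrank_pos
  have hfinE : Module.Finite E V := Module.Finite.of_restrictScalars_finite F E V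
  have hdim : Module.finrank E V = 2 * m := by
    have h3 := Module.finrank_mul_finrank F E V
    rw [hk, hV] at h3
    have : k * Module.finrank E V = k * (2 * m) := by rw [h3]; ring
    exact Nat.eq_of_mul_eq_mul_left hkpos this
  have hAlt : BE.IsAlt := hBEalt
  obtain ⟨e⟩ := Cfsg.Agent.Lib.Helper99_SpBridge.nonempty_mulEquiv_symplecticGroup BE hAlt hnd m hdim
  have hfinite : Finite E := Module.finite_of_finite F
  let _ : Fintype E := Fintype.ofFinite E
  have hcardE : Fintype.card E = q ^ k := by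
    rw [← Nat.card_eq_fintype_card, Module.natCard_eq_pow_finrank (K := F) (V := E), hk,
      Nat.card_eq_fintype_card, hq]
  have hcard : Nat.card ↥(isoGroup BE) =
      (q ^ k) ^ (m ^ 2) * ∏ j ∈ Finset.range m, ((q ^ k) ^ (2 * (j + 1)) - 1) := by
    rw [Nat.card_congr e.toEquiv, Cfsg.Agent.Lib.Helper5_SpOrder.card_sp hcardE m]
  rw [← hcard]
  have hiso : ∀ g : ↥(isoGroup BE), ∀ u v, B (((g : V ≃ₗ[E] V).restrictScalars F) u)
      (((g : V ≃ₗ[E] V).restrictScalars F) v) = B u v := by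
    intro g u v
    have h1 := hBEtr 1 ((g : V ≃ₗ[E] V) u) ((g : V ≃ₗ[E] V) v)
    have h2 := hBEtr 1 u v
    rw [one_smul] at h1 h2
    have h3 : BE ((g : V ≃ₗ[E] V) u) ((g : V ≃ₗ[E] V) v) = BE u v := g.2 u v
    rw [h3] at h1
    simp only [LinearEquiv.restrictScalars_apply]
    rw [← h1, ← h2]
  let ψ : ↥(isoGroup BE) →* ↥S :=
    { toFun := fun g => ⟨(g : V ≃ₗ[E] V).restrictScalars F, hS _ (hiso g) (fun a v => by
        simp only [LinearEquiv.restrictScalars_apply, map_smul])⟩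
      map_one' := by
        apply Subtype.ext
        refine LinearEquiv.ext fun x => ?_
        rfl
      map_mul' := fun g h => by
        apply Subtype.ext
        refine LinearEquiv.ext fun x => ?_
        rfl }
  have hinj : Function.Injective ψ := by
    intro g h hgh
    apply Subtype.ext
    refine LinearEquiv.ext fun x => ?_
    have h1 := congrArg (fun s : ↥S => (s : V ≃ₗ[F] V) x) hgh
    exact h1
  exact Subgroup.card_dvd_of_injective ψ hinj


theorem isField' {F : Type*} [Field F] {ι : Type} [Fintype ι] [DecidableEq ι] [Nonempty ι]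
    (K : Subalgebra F (Matrix ι ι F)) {r : ℕ}
    (hK : Cfsg.Geo.IsFieldSubalgebra r K) : IsField K := by
  refine ⟨⟨0, 1, ?_⟩, ?_, ?_⟩
  · intro h
    have := congrArg Subtype.val h
    simp at this
  · intro x y
    exact Subtype.ext (hK.comm x.1 x.2 y.1 y.2)
  · intro a ha
    have ha' : (a : Matrix ι ι F) ≠ 0 := fun h => ha (Subtype.ext h)
    obtain ⟨y, hy, hxy⟩ := hK.inv a.1 a.2 ha'
    exact ⟨⟨y, hy⟩, Subtype.ext hxy⟩

/-- an invertible matrix commuting with every element of `K` normalises `K` -/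
theorem mem_normalizer_of_commute {F : Type*} [Field F] {ι : Type} [Fintype ι] [DecidableEq ι]
    (K : Subalgebra F (Matrix ι ι F)) (g : GL ι F)
    (hc : ∀ a ∈ K, (g : Matrix ι ι F) * a = a * (g : Matrix ι ι F)) :
    g ∈ Cfsg.Geo.subalgebraNormalizer K := by
  have h1 : (g : Matrix ι ι F) * ((g⁻¹ : GL ι F) : Matrix ι ι F) = 1 := by
    rw [← Units.val_mul, mul_inv_cancel, Units.val_one]
  have h2 : ((g⁻¹ : GL ι F) : Matrix ι ι F) * (g : Matrix ι ι F) = 1 := by
    rw [← Units.val_mul, inv_mul_cancel, Units.val_one]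
  intro a
  constructor
  · intro ha
    rw [hc a ha, mul_assoc, h1, mul_one]
    exact ha
  · intro hb
    have h3 := hc _ hb
    have h4 : a = ((g⁻¹ : GL ι F) : Matrix ι ι F) *
        ((g : Matrix ι ι F) * a * ((g⁻¹ : GL ι F) : Matrix ι ι F)) * (g : Matrix ι ι F) := by
      rw [mul_assoc, mul_assoc, mul_assoc, h2, mul_one, ← mul_assoc, h2, one_mul]
    rw [h4, mul_assoc, ← h3, ← mul_assoc, h2, one_mul]
    exact hb

/-- QE: the normaliser contains a copy of `Sp_2m(q^k)` -/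
theorem QE {F : Type*} [Field F] [Fintype F] {q : ℕ} (hq : Fintype.card F = q) (d k m : ℕ) (hd : 1 ≤ d)
    (hk : k.Prime) (hdkm : d = k * m)
    (K : Subalgebra F (Matrix (Fin d ⊕ Fin d) (Fin d ⊕ Fin d) F)) (hK : Cfsg.Geo.IsFieldSubalgebra k K)
    (hKf : Cfsg.Geo.IsSelfAdjointFor (Cfsg.sympForm d F) K)
    (hKalt : ∀ a ∈ K, ∀ v : Fin d ⊕ Fin d → F, Cfsg.sympForm d F (a *ᵥ v) v = 0) :
    ((q ^ k) ^ (m ^ 2) * ∏ j ∈ Finset.range m, ((q ^ k) ^ (2 * (j + 1)) - 1)) ∣
      Nat.card ↥(Cfsg.Geo.subalgebraNormalizer K ⊓ Cfsg.spGL d F) := by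
  classical
  have _hk := hk
  have : Nonempty (Fin d ⊕ Fin d) := ⟨Sum.inl ⟨0, hd⟩⟩
  have hfield := isField' K hK
  let _ : Field ↥K := hfield.toField
  have hfr : Module.finrank F ↥K = k := hK.finrank_eq
  have hV : Module.finrank F (Fin d ⊕ Fin d → F) = 2 * (k * m) := by
    rw [Module.finrank_pi, Fintype.card_sum, Fintype.card_fin, hdkm]
    ring
  have hsa : ∀ (a : ↥K) (u v : Fin d ⊕ Fin d → F),
      Bsymp d F (a • u) v = Bsymp d F u (a • v) := by
    intro a u v
    rw [Bsymp_apply, Bsymp_apply]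
    exact hKf a.1 a.2 u v
  have halt : ∀ (a : ↥K) (v : Fin d ⊕ Fin d → F), Bsymp d F (a • v) v = 0 := by
    intro a v
    rw [Bsymp_apply]
    exact hKalt a.1 a.2 v
  set S : Subgroup ((Fin d ⊕ Fin d → F) ≃ₗ[F] (Fin d ⊕ Fin d → F)) :=
    (Cfsg.Geo.subalgebraNormalizer K ⊓ Cfsg.spGL d F).map
      (glEquiv (Fin d ⊕ Fin d) F).toMonoidHom with hSdef
  have hcardS : Nat.card S = Nat.card ↥(Cfsg.Geo.subalgebraNormalizer K ⊓ Cfsg.spGL d F) := by
    rw [hSdef]
    exact Subgroup.card_map_of_injective (glEquiv (Fin d ⊕ Fin d) F).injective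
  rw [← hcardS]
  refine abstract_dvd hq hfr hV (Bsymp d F) (Bsymp_nondegenerate d) hsa halt S ?_
  intro g hiso hcomm
  rw [hSdef, Subgroup.mem_map]
  refine ⟨(glEquiv (Fin d ⊕ Fin d) F).symm g, ?_, ?_⟩
  · have hgl : ∀ v, (((glEquiv (Fin d ⊕ Fin d) F).symm g : GL (Fin d ⊕ Fin d) F) :
        Matrix (Fin d ⊕ Fin d) (Fin d ⊕ Fin d) F) *ᵥ v = g v := by
      intro v
      rw [← glEquiv_apply, MulEquiv.apply_symm_apply]
    refine Subgroup.mem_inf.mpr ⟨?_, ?_⟩
    · apply mem_normalizer_of_commute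
      intro a ha
      rw [Matrix.ext_iff_mulVec]
      intro v
      rw [← Matrix.mulVec_mulVec, ← Matrix.mulVec_mulVec, hgl, hgl]
      exact hcomm ⟨a, ha⟩ v
    · rw [spGL_eq, Subgroup.mem_comap]
      show (glEquiv (Fin d ⊕ Fin d) F) ((glEquiv (Fin d ⊕ Fin d) F).symm g) ∈ isoGroup (Bsymp d F)
      rw [MulEquiv.apply_symm_apply]
      exact hiso
  · show (glEquiv (Fin d ⊕ Fin d) F) ((glEquiv (Fin d ⊕ Fin d) F).symm g) = g
    rw [MulEquiv.apply_symm_apply]

end Cfsg.Agent.Lib.Helper24_SpExt_QE
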