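import Mathlib
import Cfsg.Agent.Lib.Helper27_StSUDefs
import Cfsg.Agent.Lib.Helper27_StSUBasic

/-!
# S2546 (architect helper27), package FIN: `Pk (n/2) ≤ B`.

An element of `SUJ n σ` whose first `n/2` columns are upper triangular is upper triangular: the
entries `g a b` with `n/2 ≤ b < a` are the `σ`-images of entries of `g⁻¹` in the first `n/2`
columns.
-/

set_option autoImplicit false
set_option linter.unusedSectionVars false
set_option linter.unusedVariables false

namespace Cfsg.Agent.Lib.Helper24_StSU_FIN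

open Matrix Cfsg.Agent.Lib.Helper68_MatGrp Cfsg.Agent.Lib.Helper27_StSUDefs
  Cfsg.Agent.Lib.Helper27_StSUBasic

variable {n : ℕ} {F : Type*} [Field F] (σ : F →+* F)

theorem Pk_half_le (hσ : ∀ x, σ (σ x) = x) : Pk n σ (n / 2) ≤ Bsu n σ := by
  intro g hg
  have hginv : g⁻¹ ∈ Pk n σ (n / 2) := (Pk n σ (n / 2)).inv_mem hg
  rw [mem_Pk] at hg hginv
  rw [mem_Bsu]
  intro a b hab
  have hab' : b.val < a.val := hab
  by_cases hb : b.val < n / 2
  · exact hg a b hb hab
  · have h1 : g.1.1 a b = σ ((g⁻¹).1.1 (Fin.rev b) (Fin.rev a)) := by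
      have := inv_apply σ hσ g⁻¹ a b
      rwa [inv_inv] at this
    rw [h1]
    have h2 : (g⁻¹).1.1 (Fin.rev b) (Fin.rev a) = 0 := by
      apply hginv
      · rw [Fin.val_rev]
        have := a.2
        omega
      · exact Fin.rev_lt_rev.mpr hab
    rw [h2, map_zero]

end Cfsg.Agent.Lib.Helper24_StSU_FIN
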