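import Mathlib
import Cfsg.Agent.Lib.Helper27_StSUDefs
import Cfsg.Agent.Lib.Helper27_StSUBasic

/-!
# S2546 (architect helper27), package INJ, auxiliary form

Distinct simple reflections have distinct images in the Weyl group: `ss_inj_aux` is the statement
of `ss_inj` with the three monomiality facts of package MONOW as hypotheses.
-/

set_option autoImplicit false
set_option linter.unusedSectionVars false
set_option linter.unusedVariables false

namespace Cfsg.Agent.Lib.Helper24_StSU_INJaux

open Matrix Cfsg.Agent.Lib.Helper68_MatGrp Cfsg.Agent.Lib.Helper27_StSUDefs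
  Cfsg.Agent.Lib.Helper27_StSUBasic

variable {n : ℕ} {F : Type*} [Field F] (σ : F →+* F)

/-- the permutation of the `j`-th simple reflection -/
def πs (j : Fin (n / 2)) : Equiv.Perm (Fin n) :=
  if j.val + 1 < n / 2 then permL (lo j) (lo1 j) else Equiv.swap (lo j) (Fin.rev (lo j))

/-- the value of `πs j` at `lo j` -/
theorem πs_self_val (j : Fin (n / 2)) :
    (πs j (lo j)).val = j.val + 1 ∨ (πs j (lo j)).val = n - 1 - j.val := by
  have hj := j.2
  unfold πs
  split_ifs with h
  · left
    have e1 : Equiv.swap (Fin.rev (lo j)) (Fin.rev (lo1 j)) (lo j) = lo j := by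
      apply Equiv.swap_apply_of_ne_of_ne
      · intro h'
        have := congrArg Fin.val h'
        rw [Fin.val_rev, lo_val] at this
        omega
      · intro h'
        have := congrArg Fin.val h'
        rw [Fin.val_rev, lo_val, lo1_val] at this
        omega
    rw [permL, Equiv.Perm.mul_apply, e1, Equiv.swap_apply_left, lo1_val]
  · right
    rw [Equiv.swap_apply_left, Fin.val_rev, lo_val]
    omega

/-- the value of `πs i` at `lo j`, `i ≠ j` -/
theorem πs_other_val (i j : Fin (n / 2)) (hij : i ≠ j) :
    (πs i (lo j)).val = j.val ∨ ((πs i (lo j)).val = i.val ∧ j.val = i.val + 1) := by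
  have hi := i.2
  have hj := j.2
  have hne : i.val ≠ j.val := fun h => hij (Fin.ext h)
  unfold πs
  split_ifs with h
  · have e1 : Equiv.swap (Fin.rev (lo i)) (Fin.rev (lo1 i)) (lo j) = lo j := by
      apply Equiv.swap_apply_of_ne_of_ne
      · intro h'
        have := congrArg Fin.val h'
        rw [Fin.val_rev, lo_val, lo_val] at this
        omega
      · intro h'
        have := congrArg Fin.val h'
        rw [Fin.val_rev, lo_val, lo1_val] at this
        omega
    rw [permL, Equiv.Perm.mul_apply, e1]
    by_cases hj1 : j.val = i.val + 1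
    · right
      have : lo j = lo1 i := Fin.ext (by rw [lo_val, lo1_val]; exact hj1)
      rw [this, Equiv.swap_apply_right, lo_val]
      exact ⟨rfl, hj1⟩
    · left
      rw [Equiv.swap_apply_of_ne_of_ne, lo_val]
      · intro h'
        have := congrArg Fin.val h'
        rw [lo_val, lo_val] at this
        omega
      · intro h'
        have := congrArg Fin.val h'
        rw [lo_val, lo1_val] at this
        omega
  · left
    rw [Equiv.swap_apply_of_ne_of_ne, lo_val]
    · intro h'
      have := congrArg Fin.val h'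
      rw [lo_val, lo_val] at this
      omega
    · intro h'
      have := congrArg Fin.val h'
      rw [Fin.val_rev, lo_val, lo_val] at this
      omega

theorem πs_ne (i j : Fin (n / 2)) (hij : i ≠ j) : πs i (lo j) ≠ πs j (lo j) := by
  intro h
  have hi := i.2
  have hj := j.2
  have hne : i.val ≠ j.val := fun h => hij (Fin.ext h)
  have hv := congrArg Fin.val h
  rcases πs_self_val j with h1 | h1 <;> rcases πs_other_val i j hij with h2 | ⟨h2, h3⟩ <;>
    rw [h1, h2] at hv <;> omega

/-- the simple reflections are monomial, given the monomiality facts of MONOW -/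
theorem ss_isMono (ε : F)
    (hL : ∀ i k : Fin n, i ≠ k → i ≠ Fin.rev k → i ≠ Fin.rev i → k ≠ Fin.rev k →
      IsMono (φ n σ) (wL σ i k) (permL i k))
    (hX : ∀ i : Fin n, i ≠ Fin.rev i → IsMono (φ n σ) (wX σ ε i) (Equiv.swap i (Fin.rev i)))
    (hQ : ∀ i c : Fin n, c = Fin.rev c → i ≠ c →
      IsMono (φ n σ) (wQ σ i c) (Equiv.swap i (Fin.rev i)))
    (j : Fin (n / 2)) : IsMono (φ n σ) (ss σ ε j) (πs j) := by
  have hj := j.2
  unfold ss πs
  split_ifs with h1 h2
  · apply hL
    · intro h'
      have := congrArg Fin.val h'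
      rw [lo_val, lo1_val] at this
      omega
    · intro h'
      have := congrArg Fin.val h'
      rw [Fin.val_rev, lo_val, lo1_val] at this
      omega
    · intro h'
      have := congrArg Fin.val h'
      rw [Fin.val_rev, lo_val] at this
      omega
    · intro h'
      have := congrArg Fin.val h'
      rw [Fin.val_rev, lo1_val] at this
      omega
  · apply hX
    intro h'
    have := congrArg Fin.val h'
    rw [Fin.val_rev, lo_val] at this
    omega
  · apply hQ
    · apply Fin.ext
      rw [Fin.val_rev, lo1_val]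
      omega
    · intro h'
      have := congrArg Fin.val h'
      rw [lo_val, lo1_val] at this
      omega

/-- INJ, with the facts of MONOW as hypotheses -/
theorem ss_inj_aux (ε : F)
    (hL : ∀ i k : Fin n, i ≠ k → i ≠ Fin.rev k → i ≠ Fin.rev i → k ≠ Fin.rev k →
      IsMono (φ n σ) (wL σ i k) (permL i k))
    (hX : ∀ i : Fin n, i ≠ Fin.rev i → IsMono (φ n σ) (wX σ ε i) (Equiv.swap i (Fin.rev i)))
    (hQ : ∀ i c : Fin n, c = Fin.rev c → i ≠ c →
      IsMono (φ n σ) (wQ σ i c) (Equiv.swap i (Fin.rev i)))
    (i j : Fin (n / 2)) (h : (ss σ ε i)⁻¹ * ss σ ε j ∈ Bsu n σ) : i = j := by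
  by_contra hij
  have hmi := ss_isMono σ ε hL hX hQ i
  have hmj := ss_isMono σ ε hL hX hQ j
  have hm : IsMono (φ n σ) ((ss σ ε i)⁻¹ * ss σ ε j) ((πs i)⁻¹ * πs j) := hmi.inv.mul hmj
  have hd : (ss σ ε i)⁻¹ * ss σ ε j ∈ Diag (φ n σ) :=
    mem_Diag_of_mono_of_UT (φ n σ) (ht n) (ht_injective n) ⟨_, hm⟩ h
  have hfix : ∀ b, ((πs i)⁻¹ * πs j) b = b := by
    intro b
    by_contra hb
    exact hm.ne_zero b (hd _ _ hb)
  have h1 := hfix (lo j)
  rw [Equiv.Perm.mul_apply, Equiv.Perm.inv_eq_iff_eq] at h1
  exact πs_ne i j hij h1.symm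

end Cfsg.Agent.Lib.Helper24_StSU_INJaux
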