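import Mathlib
import Cfsg.Agent.Lib.Helper38_MIODefs

set_option autoImplicit false

/-!
Definitions for MIO-TIGHT5 (helper38's orthogonal minimal-index market, S2143; sub-architect helper96):
the tight case `dim W = 5`.
-/

namespace Cfsg.Agent.Lib.Helper96_T5Defs

open Module Cfsg.Agent.Lib.Helper14_OmegaSimple Cfsg.Agent.Lib.Helper38_MIODefs

variable {F W : Type*} [Field F] [AddCommGroup W] [Module F W]

/-- A totally singular additive subgroup that is not contained in an `F`-line. -/
def TSNL (Q : QuadraticForm F W) (S : AddSubgroup W) : Prop :=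
  (∀ x ∈ S, Q x = 0) ∧ ¬ ∃ x : W, ∀ y ∈ S, ∃ a : F, y = a • x

/-- A property of additive subgroups that is invariant under the Siegel elements. -/
def SiegInv (Q : QuadraticForm F W) (P : AddSubgroup W → Prop) : Prop :=
  ∀ u z : W, Q u = 0 → QuadraticMap.polar (⇑Q) u z = 0 → ∀ S S' : AddSubgroup W,
    (∀ x, x ∈ S ↔ E Q u z x ∈ S') → P S → P S'

/-- The subfamily of the members with property `P`. -/
def subFam {𝒪 : Type*} (C : 𝒪 → AddSubgroup W) (P : AddSubgroup W → Prop) :
    {O : 𝒪 // P (C O)} → AddSubgroup W := fun O => C O.1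

end Cfsg.Agent.Lib.Helper96_T5Defs
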