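import Mathlib
import Cfsg.Agent.Lib.Helper96_T5Defs

set_option autoImplicit false
set_option linter.unusedSectionVars false
set_option linter.unusedVariables false

namespace Cfsg.Agent.Lib.Helper24_T5_SPAN

open Module Cfsg.Agent.Lib.Helper44_QuadClass Cfsg.Agent.Lib.Helper14_OmegaSimple
  Cfsg.Agent.Lib.Helper38_MIODefs Cfsg.Agent.Lib.Helper96_T5Defs

variable {F W : Type*} [Field F] [Fintype F] [AddCommGroup W] [Module F W] [FiniteDimensional F W]

/-- a totally singular subspace has `2 dim ≤ dim W` -/
theorem two_mul_finrank_le_of_ts (Q : QuadraticForm F W)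
    (hQ : (QuadraticMap.polarBilin Q).Nondegenerate) (U : Submodule F W)
    (hts : ∀ x ∈ U, Q x = 0) : 2 * finrank F U ≤ finrank F W := by
  have hUU : U ≤ LinearMap.BilinForm.orthogonal (QuadraticMap.polarBilin Q) U := by
    intro z hz
    rw [LinearMap.BilinForm.mem_orthogonal_iff]
    intro n hn
    show QuadraticMap.polarBilin Q n z = 0
    rw [QuadraticMap.polarBilin_apply_apply, QuadraticMap.polar, hts _ (U.add_mem hn hz),
      hts _ hn, hts _ hz]
    ring
  have h3 := LinearMap.BilinForm.finrank_orthogonal hQ U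
  have h4 := Submodule.finrank_mono hUU
  have h5 : finrank F U ≤ finrank F W := Submodule.finrank_le U
  omega

/-- the span of a totally singular additive subgroup is totally singular -/
theorem span_singular (Q : QuadraticForm F W) (S : AddSubgroup W) (hS : ∀ x ∈ S, Q x = 0) :
    ∀ v ∈ Submodule.span F (S : Set W), Q v = 0 := by
  have h1 : ∀ x ∈ S, ∀ y ∈ S, QuadraticMap.polar (⇑Q) x y = 0 := by
    intro x hx y hy
    rw [QuadraticMap.polar, hS _ (S.add_mem hx hy), hS x hx, hS y hy]
    ring
  have h2 : ∀ v ∈ Submodule.span F (S : Set W), ∀ y ∈ S, QuadraticMap.polar (⇑Q) v y = 0 := by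
    intro v hv y hy
    induction hv using Submodule.span_induction with
    | mem x hx => exact h1 x hx y hy
    | zero => exact QuadraticMap.polar_zero_left _ _
    | add a b _ _ ha hb => rw [QuadraticMap.polar_add_left, ha, hb, add_zero]
    | smul c a _ ha => rw [QuadraticMap.polar_smul_left, ha, smul_zero]
  have h3 : ∀ v ∈ Submodule.span F (S : Set W), ∀ w ∈ Submodule.span F (S : Set W),
      QuadraticMap.polar (⇑Q) v w = 0 := by
    intro v hv w hw
    induction hw using Submodule.span_induction with
    | mem x hx => exact h2 v hv x hx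
    | zero => exact QuadraticMap.polar_zero_right _ _
    | add a b _ _ ha hb => rw [QuadraticMap.polar_add_right, ha, hb, add_zero]
    | smul c a _ ha => rw [QuadraticMap.polar_smul_right, ha, smul_zero]
  intro v hv
  induction hv using Submodule.span_induction with
  | mem x hx => exact hS x hx
  | zero => exact map_zero _
  | add a b ha' hb' ha hb =>
    have := h3 a ha' b hb'
    rw [QuadraticMap.polar, ha, hb] at this
    linear_combination this
  | smul c a _ ha => rw [QuadraticMap.map_smul, ha, smul_zero]

theorem span_ts (Q : QuadraticForm F W) (hQ : (QuadraticMap.polarBilin Q).Nondegenerate)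
    (hdim : finrank F W = 5) (S : AddSubgroup W) (hS : TSNL Q S) :
    IsTS Q 2 (Submodule.span F (S : Set W)) := by
  obtain ⟨hts, hnl⟩ := hS
  have hsp := span_singular Q S hts
  have hle := two_mul_finrank_le_of_ts Q hQ _ hsp
  refine ⟨?_, hsp⟩
  -- a non-zero element
  obtain ⟨y₁, hy₁, hy₁0⟩ : ∃ y₁ ∈ S, y₁ ≠ 0 := by
    by_contra hcon
    push Not at hcon
    apply hnl
    refine ⟨0, fun y hy => ⟨0, ?_⟩⟩
    rw [hcon y hy, smul_zero]
  obtain ⟨y₂, hy₂, hy₂n⟩ : ∃ y₂ ∈ S, ∀ a : F, y₂ ≠ a • y₁ := by
    by_contra hcon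
    push Not at hcon
    exact hnl ⟨y₁, hcon⟩
  have hlt : Submodule.span F {y₁} < Submodule.span F (S : Set W) := by
    refine lt_of_le_of_ne ?_ ?_
    · rw [Submodule.span_le]
      intro x hx
      rw [Set.mem_singleton_iff] at hx
      rw [hx]
      exact Submodule.subset_span hy₁
    · intro heq
      have h1 : y₂ ∈ Submodule.span F {y₁} := by
        rw [heq]
        exact Submodule.subset_span hy₂
      obtain ⟨a, ha⟩ := Submodule.mem_span_singleton.1 h1
      exact hy₂n a ha.symm
  have h1 := Submodule.finrank_lt_finrank_of_lt hlt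
  rw [finrank_span_singleton hy₁0] at h1
  omega

theorem eq_span_of_ts (Q : QuadraticForm F W) (hQ : (QuadraticMap.polarBilin Q).Nondegenerate)
    (hdim : finrank F W = 5) (S : AddSubgroup W) (hS : TSNL Q S) (T : Submodule F W)
    (hT : IsTS Q 2 T) (hST : ∀ x ∈ S, x ∈ T) : T = Submodule.span F (S : Set W) := by
  have h1 := span_ts Q hQ hdim S hS
  have hle : Submodule.span F (S : Set W) ≤ T := by
    rw [Submodule.span_le]
    intro x hx
    exact hST x hx
  exact (Submodule.eq_of_le_of_finrank_eq hle (by rw [h1.1, hT.1])).symm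

end Cfsg.Agent.Lib.Helper24_T5_SPAN
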