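import Mathlib
import Cfsg.Agent.S2791
import Cfsg.Agent.Lib.Helper2_Sylow

/-!
# Groups all of whose 2-elements are 2-central (helper24)

`Hyp G`: every 2-element of `G` is centralized by a Sylow 2-subgroup of `G`.
Main result `main`: then the Sylow 2-subgroups are abelian (Camina–Herzog; the proof follows
E. Henke's argument: the involutions of a Sylow 2-subgroup `P` commute, so `Ω₁(P)` is an
elementary abelian strongly closed subgroup; its normalizer controls strong fusion (S2791);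
pass to `N_G(Ω)/Ω`, induct, and use Burnside's fusion lemma there).
-/

set_option autoImplicit false
open Subgroup

namespace Cfsg.Agent.Lib.Helper24_TwoCentral

open Cfsg.Agent.Lib.Helper33_Conj Cfsg.Agent.Lib.Helper33_Alperin

universe u

/-- Every 2-element is centralized by a Sylow 2-subgroup. -/
def Hyp (G : Type*) [Group G] : Prop :=
  ∀ x : G, (∃ k : ℕ, orderOf x = 2 ^ k) →
    ∃ Q : Sylow 2 G, (Q : Subgroup G) ≤ centralizer ({x} : Set G)

section Basic

variable {G : Type*} [Group G]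

theorem isPGroup_zpowers {x : G} {k : ℕ} (hx : orderOf x = 2 ^ k) : IsPGroup 2 (zpowers x) := by
  apply IsPGroup.of_card (n := k)
  rw [Nat.card_zpowers, hx]

theorem exists_orderOf_of_mem (P : Sylow 2 G) {x : G} (hx : x ∈ P) : ∃ k : ℕ, orderOf x = 2 ^ k := by
  obtain ⟨k, hk⟩ := (IsPGroup.iff_orderOf.mp P.2) ⟨x, hx⟩
  exact ⟨k, by rw [← hk, Subgroup.orderOf_mk]⟩

/-- A 2-element centralizing a Sylow 2-subgroup lies in it. -/
theorem mem_of_le_centralizer [Finite G] (Q : Sylow 2 G) {x : G} {k : ℕ} (hx : orderOf x = 2 ^ k)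
    (hQ : (Q : Subgroup G) ≤ centralizer ({x} : Set G)) : x ∈ Q := by
  have hzp := isPGroup_zpowers hx
  have hzn : zpowers x ≤ normalizer ((Q : Subgroup G) : Set G) := by
    rw [zpowers_le, mem_normalizer_iff]
    intro h
    constructor
    · intro hh
      have := mem_centralizer_iff.mp (hQ hh) x (Set.mem_singleton x)
      have e : x * h * x⁻¹ = h := by rw [this]; group
      rw [e]; exact hh
    · intro hh
      have := mem_centralizer_iff.mp (hQ hh) x (Set.mem_singleton x)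
      have e : x * h * x⁻¹ = h := by
        apply mul_left_cancel (a := x)
        rw [this]; group
      rw [← e]; exact hh
  have hKp : IsPGroup 2 (zpowers x ⊔ (Q : Subgroup G) : Subgroup G) :=
    IsPGroup.to_sup_of_normal_right' hzp Q.2 hzn
  have := Q.is_maximal' hKp le_sup_right
  have hx' : x ∈ zpowers x ⊔ (Q : Subgroup G) := le_sup_left (a := zpowers x) (mem_zpowers x)
  rw [this] at hx'
  exact hx'

/-- Under `Hyp`, a 2-element normalizing the cyclic group generated by a 2-element `a`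
centralizes `a`. -/
theorem commute_of_mem_normalizer [Finite G] (hH : Hyp G) {a s : G}
    (ha : ∃ k : ℕ, orderOf a = 2 ^ k) (hs : ∃ j : ℕ, orderOf s = 2 ^ j)
    (hsn : s ∈ normalizer (zpowers a : Set G)) : Commute s a := by
  obtain ⟨Q, hQ⟩ := hH a ha
  obtain ⟨j, hj⟩ := hs
  set N := normalizer (zpowers a : Set G) with hN
  have hCN : centralizer ({a} : Set G) ≤ N := by
    intro q hq
    have hqa : q * a = a * q := (mem_centralizer_iff.mp hq a (Set.mem_singleton a)).symm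
    have hc : Commute q a := hqa
    rw [hN, mem_normalizer_iff]
    intro h
    constructor
    · intro hh
      obtain ⟨i, rfl⟩ := mem_zpowers_iff.mp hh
      have : q * a ^ i * q⁻¹ = a ^ i := by
        have := (hc.zpow_right i).eq
        rw [this]; group
      rw [this]; exact hh
    · intro hh
      obtain ⟨i, hi⟩ := mem_zpowers_iff.mp hh
      have : h = a ^ i := by
        have h1 : h = q⁻¹ * (q * h * q⁻¹) * q := by group
        rw [h1, ← hi]
        have := (hc.zpow_right i).eq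
        calc q⁻¹ * a ^ i * q = q⁻¹ * (a ^ i * q) := by group
          _ = q⁻¹ * (q * a ^ i) := by rw [this]
          _ = a ^ i := by group
      rw [this]; exact zpow_mem (mem_zpowers a) i
  have hQN : (Q : Subgroup G) ≤ N := hQ.trans hCN
  have hidx : ¬ 2 ∣ (Q : Subgroup G).relIndex N := by
    intro hd
    have h1 := relIndex_mul_index hQN
    exact Q.not_dvd_index (h1 ▸ Dvd.dvd.mul_right hd _)
  have hsN : zpowers s ≤ N := by rw [zpowers_le]; exact hsn
  obtain ⟨m, hmN, hm⟩ := exists_cj_le_of_relIndex (p := 2) hQN Q.2 hidx hsN (isPGroup_zpowers hj)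
  have hms : m * s * m⁻¹ ∈ (Q : Subgroup G) := by
    apply hm
    rw [mem_cj]
    have : m⁻¹ * (m * s * m⁻¹) * m = s := by group
    rw [this]; exact mem_zpowers s
  have hcomm : a * (m * s * m⁻¹) = m * s * m⁻¹ * a :=
    mem_centralizer_iff.mp (hQ hms) a (Set.mem_singleton a)
  -- `m a m⁻¹ = a ^ i`
  have hma : m * a * m⁻¹ ∈ zpowers a := ((mem_normalizer_iff.mp hmN) a).mp (mem_zpowers a)
  obtain ⟨i, hi⟩ := mem_zpowers_iff.mp hma
  -- `a' = m⁻¹ a m` commutes with `s`, and `a = a' ^ i`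
  have hc' : Commute s (m⁻¹ * a * m) := by
    show s * (m⁻¹ * a * m) = m⁻¹ * a * m * s
    have e1 : s * (m⁻¹ * a * m) = m⁻¹ * ((m * s * m⁻¹) * a) * m := by group
    have e2 : m⁻¹ * a * m * s = m⁻¹ * (a * (m * s * m⁻¹)) * m := by group
    rw [e1, e2, hcomm]
  have ha' : a = (m⁻¹ * a * m) ^ i := by
    have : (m⁻¹ * a * m) ^ i = m⁻¹ * a ^ i * m := by
      have := conj_zpow (a := m⁻¹) (b := a) (i := i)
      simpa using this
    rw [this, hi]; group
  rw [ha']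
  exact hc'.zpow_right i

/-- Under `Hyp`, two involutions (or trivial elements) of a Sylow 2-subgroup commute. -/
theorem commute_of_sq_eq_one [Finite G] (hH : Hyp G) (P : Sylow 2 G) {s t : G}
    (hs : s ∈ P) (ht : t ∈ P) (hs2 : s ^ 2 = 1) (ht2 : t ^ 2 = 1) : s * t = t * s := by
  have hsinv : s⁻¹ = s := by
    rw [inv_eq_iff_mul_eq_one, ← pow_two, hs2]
  have htinv : t⁻¹ = t := by
    rw [inv_eq_iff_mul_eq_one, ← pow_two, ht2]
  have ha := exists_orderOf_of_mem P (mul_mem hs ht)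
  have hsord := exists_orderOf_of_mem P hs
  have hconj : s * (s * t) * s⁻¹ = (s * t)⁻¹ := by
    rw [mul_inv_rev, hsinv, htinv]
    have : s * (s * t) * s = s ^ 2 * t * s := by rw [pow_two]; group
    rw [this, hs2, one_mul]
  have hsn : s ∈ normalizer (zpowers (s * t) : Set G) := by
    have hfwd : ∀ h : G, h ∈ zpowers (s * t) → s * h * s⁻¹ ∈ zpowers (s * t) := by
      intro h hh
      obtain ⟨i, rfl⟩ := mem_zpowers_iff.mp hh
      have : s * (s * t) ^ i * s⁻¹ = ((s * t)⁻¹) ^ i := by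
        rw [← hconj, conj_zpow]
      rw [this]
      exact zpow_mem (inv_mem (mem_zpowers _)) i
    rw [mem_normalizer_iff]
    intro h
    refine ⟨hfwd h, fun hh => ?_⟩
    have := hfwd _ hh
    have e : s * (s * h * s⁻¹) * s⁻¹ = h := by
      rw [hsinv]
      have : s * (s * h * s) * s = s ^ 2 * h * s ^ 2 := by rw [pow_two]; group
      rw [this, hs2, one_mul, mul_one]
    rwa [e] at this
  have hc := commute_of_mem_normalizer hH ha hsord hsn
  -- `s (s t) = (s t) s`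
  have h1 : s * (s * t) = s * t * s := hc.eq
  have h2 : s * (s * t) = t := by rw [← mul_assoc, ← pow_two, hs2, one_mul]
  rw [h2] at h1
  -- `t = s t s`, so `t s = s t s s = s t`
  calc s * t = s * t * (s * s) := by rw [← pow_two, hs2, mul_one]
    _ = s * t * s * s := by group
    _ = t * s := by rw [← h1]

end Basic

section Omega

variable {G : Type*} [Group G] [Finite G]

/-- `Ω₁(P)`: under `Hyp` the elements of order at most 2 of a Sylow 2-subgroup form a subgroup. -/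
def omega (hH : Hyp G) (P : Sylow 2 G) : Subgroup G where
  carrier := {x | x ∈ P ∧ x ^ 2 = 1}
  one_mem' := ⟨one_mem _, one_pow _⟩
  mul_mem' := fun {a b} ha hb => ⟨mul_mem ha.1 hb.1, by
    have hc : Commute a b := commute_of_sq_eq_one hH P ha.1 hb.1 ha.2 hb.2
    rw [hc.mul_pow, ha.2, hb.2, one_mul]⟩
  inv_mem' := fun {a} ha => ⟨inv_mem ha.1, by rw [inv_pow, ha.2, inv_one]⟩

theorem mem_omega {hH : Hyp G} {P : Sylow 2 G} {x : G} :
    x ∈ omega hH P ↔ x ∈ P ∧ x ^ 2 = 1 := Iff.rfl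

theorem omega_le (hH : Hyp G) (P : Sylow 2 G) : omega hH P ≤ (P : Subgroup G) := fun _ hx => hx.1

theorem omega_comm (hH : Hyp G) (P : Sylow 2 G) {a b : G} (ha : a ∈ omega hH P)
    (hb : b ∈ omega hH P) : a * b = b * a :=
  commute_of_sq_eq_one hH P ha.1 hb.1 ha.2 hb.2

theorem omega_isMulCommutative (hH : Hyp G) (P : Sylow 2 G) : IsMulCommutative ↥(omega hH P) :=
  ⟨⟨fun a b => Subtype.ext (omega_comm hH P a.2 b.2)⟩⟩

theorem omega_stronglyClosed (hH : Hyp G) (P : Sylow 2 G) :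
    Cfsg.IsStronglyClosed (omega hH P) (P : Subgroup G) :=
  ⟨omega_le hH P, fun x hx g hg => ⟨hg, by rw [conj_pow, hx.2]; group⟩⟩

/-- `N_G(Ω₁(P))` controls strong fusion in `P`. -/
theorem control (hH : Hyp G) (P : Sylow 2 G) (B : Set G) (hB : B ⊆ (P : Subgroup G)) (g : G)
    (hg : (fun a => g * a * g⁻¹) '' B ⊆ (P : Subgroup G)) :
    ∃ x ∈ normalizer (omega hH P : Set G), ∀ a ∈ B, g * a * g⁻¹ = x * a * x⁻¹ := by
  have key := alperin P Set.univ
    (fun T hT => by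
      obtain ⟨g, hg1, hg2⟩ := Cfsg.Agent.S1959.exists_fully_normalized P T hT
      exact ⟨cj g T, Set.mem_univ _, hg1, ⟨g, rfl⟩, hg2⟩)
    (Cfsg.Agent.S2791.Rel (omega hH P)) (Cfsg.Agent.S2791.rel_fusionRel (omega hH P))
    (fun U _ hUS hUfn IH m hm =>
      Cfsg.Agent.S2791.local_step P (omega hH P) (omega_isMulCommutative hH P)
        (omega_stronglyClosed hH P) U hUS hUfn IH m hm)
    (Subgroup.closure B) ((Subgroup.closure_le _).mpr hB) g
    (by rw [cj_closure]; exact (Subgroup.closure_le _).mpr hg)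
  obtain ⟨x, hx, h⟩ := key
  exact ⟨x, hx, fun a ha => h a (Subgroup.subset_closure ha)⟩

theorem le_normalizer_omega (hH : Hyp G) (P : Sylow 2 G) :
    (P : Subgroup G) ≤ normalizer (omega hH P : Set G) := fun s hs =>
  Cfsg.Agent.S2791.sc_mem_normalizer _ _ (omega_stronglyClosed hH P) s
    (fun a ha => mul_mem (mul_mem hs (omega_le hH P ha)) (inv_mem hs))
    (fun a ha => mul_mem (mul_mem (inv_mem hs) (omega_le hH P ha)) hs)

/-- Every element of `P` is conjugate, by an element of `N_G(Ω₁(P))`, to a central element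
of `P`. -/
theorem exists_conj_center (hH : Hyp G) (P : Sylow 2 G) {x : G} (hx : x ∈ P) :
    ∃ n ∈ normalizer (omega hH P : Set G), ∃ z ∈ P, (∀ y ∈ P, z * y = y * z) ∧
      x = n * z * n⁻¹ := by
  obtain ⟨k, hk⟩ := exists_orderOf_of_mem P hx
  obtain ⟨Q, hQ⟩ := hH x ⟨k, hk⟩
  have hxQ : x ∈ Q := mem_of_le_centralizer Q hk hQ
  obtain ⟨g, hmemQ⟩ := Cfsg.Agent.Lib.Helper2_Sylow.exists_conj_sylow P Q
  have hzP : g⁻¹ * x * g ∈ P := (hmemQ x).mp hxQ
  have hzc : ∀ y ∈ P, (g⁻¹ * x * g) * y = y * (g⁻¹ * x * g) := by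
    intro y hy
    have hyQ : g * y * g⁻¹ ∈ Q := by
      rw [hmemQ]
      have : g⁻¹ * (g * y * g⁻¹) * g = y := by group
      rw [this]; exact hy
    have := mem_centralizer_iff.mp (hQ hyQ) x (Set.mem_singleton x)
    -- `x * (g y g⁻¹) = (g y g⁻¹) * x`
    have e1 : g⁻¹ * x * g * y = g⁻¹ * (x * (g * y * g⁻¹)) * g := by group
    have e2 : y * (g⁻¹ * x * g) = g⁻¹ * ((g * y * g⁻¹) * x) * g := by group
    rw [e1, e2, this]
  have hgz : g * (g⁻¹ * x * g) * g⁻¹ = x := by group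
  obtain ⟨n, hn, hnz⟩ := control hH P {g⁻¹ * x * g} (by
      intro y hy; rw [Set.mem_singleton_iff] at hy; rw [hy]; exact hzP) g (by
      rintro _ ⟨y, hy, rfl⟩
      rw [Set.mem_singleton_iff] at hy
      show g * y * g⁻¹ ∈ _
      rw [hy, hgz]; exact hx)
  refine ⟨n, hn, g⁻¹ * x * g, hzP, hzc, ?_⟩
  rw [← hnz _ (Set.mem_singleton _), hgz]

/-- A nontrivial Sylow 2-subgroup has nontrivial `Ω₁`. -/
theorem exists_mem_omega_ne_one (hH : Hyp G) (P : Sylow 2 G) (hP : (P : Subgroup G) ≠ ⊥) :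
    ∃ y ∈ omega hH P, y ≠ 1 := by
  obtain ⟨⟨x, hxP⟩, hx1⟩ := (Subgroup.ne_bot_iff_exists_ne_one).mp hP
  have hx1' : x ≠ 1 := fun h => hx1 (Subtype.ext h)
  obtain ⟨k, hk⟩ := exists_orderOf_of_mem P hxP
  have hk0 : k ≠ 0 := by
    rintro rfl
    rw [pow_zero, orderOf_eq_one_iff] at hk
    exact hx1' hk
  refine ⟨x ^ 2 ^ (k - 1), ⟨pow_mem hxP _, ?_⟩, ?_⟩
  · rw [← pow_mul, ← pow_succ, Nat.sub_add_cancel (Nat.one_le_iff_ne_zero.mpr hk0), ← hk]
    exact pow_orderOf_eq_one x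
  · intro h
    have := orderOf_dvd_of_pow_eq_one h
    rw [hk, Nat.pow_dvd_pow_iff_le_right (by norm_num)] at this
    omega

end Omega

section Quotient

variable {G : Type*} [Group G] [Finite G]

/-- The section `N_G(Ω)/Ω`. -/
abbrev Quot (Ω : Subgroup G) : Type _ :=
  ↥(normalizer (Ω : Set G)) ⧸ Ω.subgroupOf (normalizer (Ω : Set G))

/-- The image of the Sylow 2-subgroup `P ≤ N_G(Ω)` in `N_G(Ω)/Ω`. -/
noncomputable def Pbar (P : Sylow 2 G) (Ω : Subgroup G)
    (hPM : (P : Subgroup G) ≤ normalizer (Ω : Set G)) : Sylow 2 (Quot Ω) :=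
  (P.subtype hPM).mapSurjective (QuotientGroup.mk'_surjective _)

theorem mem_Pbar (P : Sylow 2 G) (Ω : Subgroup G)
    (hPM : (P : Subgroup G) ≤ normalizer (Ω : Set G)) (w : Quot Ω) :
    w ∈ Pbar P Ω hPM ↔ ∃ y, ∃ hy : y ∈ P, w = QuotientGroup.mk ⟨y, hPM hy⟩ := by
  unfold Pbar
  show w ∈ (((P.subtype hPM).mapSurjective (QuotientGroup.mk'_surjective _) : Sylow 2 (Quot Ω)) :
    Subgroup (Quot Ω)) ↔ _
  rw [Sylow.coe_mapSurjective, Sylow.coe_subtype]
  constructor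
  · rintro ⟨⟨y, hyM⟩, hy, rfl⟩
    exact ⟨y, mem_subgroupOf.mp hy, rfl⟩
  · rintro ⟨y, hy, rfl⟩
    exact ⟨⟨y, hPM hy⟩, mem_subgroupOf.mpr hy, rfl⟩

/-- If every element of `P` is `N_G(Ω)`-conjugate to a central element of `P`, then the
section `N_G(Ω)/Ω` satisfies `Hyp`. -/
theorem quot_hyp (P : Sylow 2 G) (Ω : Subgroup G)
    (hPM : (P : Subgroup G) ≤ normalizer (Ω : Set G))
    (hF : ∀ x ∈ P, ∃ n ∈ normalizer (Ω : Set G), ∃ z ∈ P, (∀ y ∈ P, z * y = y * z) ∧
      x = n * z * n⁻¹) : Hyp (Quot Ω) := by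
  rintro ξ ⟨k, hk⟩
  have hzp : IsPGroup 2 (zpowers ξ) := isPGroup_zpowers hk
  obtain ⟨R, hR⟩ := hzp.exists_le_sylow
  obtain ⟨η, hη⟩ := Cfsg.Agent.Lib.Helper2_Sylow.exists_conj_sylow (Pbar P Ω hPM) R
  have h1 : η⁻¹ * ξ * η ∈ Pbar P Ω hPM := (hη ξ).mp (hR (mem_zpowers ξ))
  obtain ⟨y, hy, hyξ⟩ := (mem_Pbar P Ω hPM _).mp h1
  obtain ⟨n, hn, z, hz, hzc, hxz⟩ := hF y hy
  set nb : Quot Ω := QuotientGroup.mk ⟨n, hn⟩ with hnb
  set zb : Quot Ω := QuotientGroup.mk ⟨z, hPM hz⟩ with hzb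
  have hyb : (QuotientGroup.mk ⟨y, hPM hy⟩ : Quot Ω) = nb * zb * nb⁻¹ := by
    rw [hnb, hzb, ← QuotientGroup.mk_inv, ← QuotientGroup.mk_mul, ← QuotientGroup.mk_mul]
    congr 1
    exact Subtype.ext (by simp [hxz])
  refine ⟨(η * nb) • Pbar P Ω hPM, ?_⟩
  intro w hw
  have hw1 : (η * nb)⁻¹ * w * (η * nb) ∈ Pbar P Ω hPM :=
    (Cfsg.Agent.Lib.Helper2_Sylow.mem_smul_sylow_iff' (η * nb) w (Pbar P Ω hPM)).mp hw
  obtain ⟨v, hv, hwv⟩ := (mem_Pbar P Ω hPM _).mp hw1
  rw [mem_centralizer_iff]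
  intro h hh
  rw [Set.mem_singleton_iff] at hh
  subst hh
  set vb : Quot Ω := QuotientGroup.mk ⟨v, hPM hv⟩ with hvb
  have hξ : h = η * (nb * zb * nb⁻¹) * η⁻¹ := by
    rw [← hyb, ← hyξ]; group
  have hw' : w = (η * nb) * vb * (η * nb)⁻¹ := by
    rw [← hwv]; group
  have hcomm : zb * vb = vb * zb := by
    rw [hzb, hvb, ← QuotientGroup.mk_mul, ← QuotientGroup.mk_mul]
    congr 1
    exact Subtype.ext (hzc v hv)
  rw [hξ, hw']
  calc η * (nb * zb * nb⁻¹) * η⁻¹ * (η * nb * vb * (η * nb)⁻¹)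
      = (η * nb) * (zb * vb) * (η * nb)⁻¹ := by group
    _ = (η * nb) * (vb * zb) * (η * nb)⁻¹ := by rw [hcomm]
    _ = η * nb * vb * (η * nb)⁻¹ * (η * (nb * zb * nb⁻¹) * η⁻¹) := by group

/-- An element of `N_G(Ω)` whose image lies in `P̄` lies in `P` (as `Ω ≤ P`). -/
theorem mem_of_mk_mem_Pbar (P : Sylow 2 G) (Ω : Subgroup G) (hΩP : Ω ≤ (P : Subgroup G))
    (hPM : (P : Subgroup G) ≤ normalizer (Ω : Set G)) {u : G}
    (hu : u ∈ normalizer (Ω : Set G))
    (h : (QuotientGroup.mk ⟨u, hu⟩ : Quot Ω) ∈ Pbar P Ω hPM) : u ∈ P := by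
  obtain ⟨y, hy, hyu⟩ := (mem_Pbar P Ω hPM _).mp h
  have h1 := QuotientGroup.eq.mp hyu
  rw [mem_subgroupOf] at h1
  have h2 : u⁻¹ * y ∈ Ω := by simpa using h1
  have h3 : u = y * (u⁻¹ * y)⁻¹ := by group
  rw [h3]
  exact mul_mem hy (inv_mem (hΩP h2))

/-- The last step: if `P̄` is abelian, `Ω` is abelian and fusion into `Z(P)` is controlled by
`N_G(Ω)`, then `P` is abelian. -/
theorem final_step (P : Sylow 2 G) (Ω : Subgroup G) (hΩP : Ω ≤ (P : Subgroup G))
    (hPM : (P : Subgroup G) ≤ normalizer (Ω : Set G))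
    (hF : ∀ x ∈ P, ∃ n ∈ normalizer (Ω : Set G), ∃ z ∈ P, (∀ y ∈ P, z * y = y * z) ∧
      x = n * z * n⁻¹)
    (hΩc : ∀ a ∈ Ω, ∀ b ∈ Ω, a * b = b * a)
    (hPb : ∀ a ∈ Pbar P Ω hPM, ∀ b ∈ Pbar P Ω hPM, a * b = b * a) :
    ∀ a ∈ P, ∀ b ∈ P, a * b = b * a := by
  have : IsMulCommutative ↥(Pbar P Ω hPM) :=
    ⟨⟨fun a b => Subtype.ext (hPb a.1 a.2 b.1 b.2)⟩⟩
  -- every element of `P` is (central element of `P`) * (element of `Ω`)
  have key : ∀ x ∈ P, ∃ w ∈ P, (∀ y ∈ P, w * y = y * w) ∧ w⁻¹ * x ∈ Ω := by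
    intro x hx
    obtain ⟨n, hn, z, hz, hzc, hxz⟩ := hF x hx
    set nb : Quot Ω := QuotientGroup.mk ⟨n, hn⟩ with hnb
    set zb : Quot Ω := QuotientGroup.mk ⟨z, hPM hz⟩ with hzb
    have hxb : (QuotientGroup.mk ⟨x, hPM hx⟩ : Quot Ω) = nb * zb * nb⁻¹ := by
      rw [hnb, hzb, ← QuotientGroup.mk_inv, ← QuotientGroup.mk_mul, ← QuotientGroup.mk_mul]
      congr 1
      exact Subtype.ext (by simp [hxz])
    have hzbP : zb ∈ Pbar P Ω hPM := (mem_Pbar P Ω hPM _).mpr ⟨z, hz, rfl⟩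
    have hxbP : nb * zb * nb⁻¹ ∈ Pbar P Ω hPM := by
      rw [← hxb]; exact (mem_Pbar P Ω hPM _).mpr ⟨x, hx, rfl⟩
    obtain ⟨m, hm, hmz⟩ := Sylow.conj_eq_normalizer_conj_of_mem (Pbar P Ω hPM) zb nb⁻¹ hzbP
      (by rw [inv_inv]; exact hxbP)
    rw [inv_inv] at hmz
    -- `x̄ = m⁻¹ z̄ m`; take a representative of `m⁻¹`
    have hm' : m⁻¹ ∈ normalizer ((Pbar P Ω hPM : Subgroup (Quot Ω)) : Set (Quot Ω)) :=
      inv_mem hm
    obtain ⟨⟨m0, hm0⟩, hm0eq⟩ := QuotientGroup.mk_surjective m⁻¹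
    rw [← hm0eq] at hm'
    have hnorm := mem_normalizer_iff.mp hm'
    have hfwd : ∀ y ∈ P, m0 * y * m0⁻¹ ∈ P := by
      intro y hy
      have hyM : y ∈ normalizer (Ω : Set G) := hPM hy
      have h1 : (QuotientGroup.mk ⟨y, hyM⟩ : Quot Ω) ∈ Pbar P Ω hPM :=
        (mem_Pbar P Ω hPM _).mpr ⟨y, hy, rfl⟩
      have h2 := (hnorm _).mp h1
      have hmem : m0 * y * m0⁻¹ ∈ normalizer (Ω : Set G) :=
        mul_mem (mul_mem hm0 hyM) (inv_mem hm0)
      have h3 : (QuotientGroup.mk ⟨m0 * y * m0⁻¹, hmem⟩ : Quot Ω) ∈ Pbar P Ω hPM := by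
        have e : (QuotientGroup.mk ⟨m0 * y * m0⁻¹, hmem⟩ : Quot Ω) =
            (QuotientGroup.mk ⟨m0, hm0⟩ : Quot Ω) * QuotientGroup.mk ⟨y, hyM⟩ *
              (QuotientGroup.mk ⟨m0, hm0⟩ : Quot Ω)⁻¹ := by
          rw [← QuotientGroup.mk_inv, ← QuotientGroup.mk_mul, ← QuotientGroup.mk_mul]
          rfl
        rw [e]; exact h2
      exact mem_of_mk_mem_Pbar P Ω hΩP hPM hmem h3
    have hbwd : ∀ y ∈ P, m0⁻¹ * y * m0 ∈ P := by
      intro y hy
      have hyM : y ∈ normalizer (Ω : Set G) := hPM hy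
      have hmem : m0⁻¹ * y * m0 ∈ normalizer (Ω : Set G) :=
        mul_mem (mul_mem (inv_mem hm0) hyM) hm0
      have h1 : (QuotientGroup.mk ⟨m0, hm0⟩ : Quot Ω) *
          QuotientGroup.mk ⟨m0⁻¹ * y * m0, hmem⟩ *
            (QuotientGroup.mk ⟨m0, hm0⟩ : Quot Ω)⁻¹ ∈ Pbar P Ω hPM := by
        have e : (QuotientGroup.mk ⟨m0, hm0⟩ : Quot Ω) *
            QuotientGroup.mk ⟨m0⁻¹ * y * m0, hmem⟩ *
              (QuotientGroup.mk ⟨m0, hm0⟩ : Quot Ω)⁻¹ = QuotientGroup.mk ⟨y, hyM⟩ := by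
          rw [← QuotientGroup.mk_inv, ← QuotientGroup.mk_mul, ← QuotientGroup.mk_mul]
          congr 1
          exact Subtype.ext (by simp; group)
        rw [e]; exact (mem_Pbar P Ω hPM _).mpr ⟨y, hy, rfl⟩
      have h3 := (hnorm _).mpr h1
      exact mem_of_mk_mem_Pbar P Ω hΩP hPM hmem h3
    refine ⟨m0 * z * m0⁻¹, hfwd z hz, ?_, ?_⟩
    · intro y hy
      have hy' := hbwd y hy
      have hc := hzc _ hy'
      have e1 : m0 * z * m0⁻¹ * y = m0 * (z * (m0⁻¹ * y * m0)) * m0⁻¹ := by group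
      have e2 : y * (m0 * z * m0⁻¹) = m0 * ((m0⁻¹ * y * m0) * z) * m0⁻¹ := by group
      rw [e1, e2, hc]
    · -- `x̄ = mk (m0 z m0⁻¹)`
      have hwM : m0 * z * m0⁻¹ ∈ normalizer (Ω : Set G) :=
        mul_mem (mul_mem hm0 (hPM hz)) (inv_mem hm0)
      have e : (QuotientGroup.mk ⟨m0 * z * m0⁻¹, hwM⟩ : Quot Ω) =
          QuotientGroup.mk ⟨x, hPM hx⟩ := by
        have hmeq : m = (QuotientGroup.mk ⟨m0, hm0⟩ : Quot Ω)⁻¹ := by rw [hm0eq, inv_inv]
        rw [hxb, hmz, hmeq, inv_inv]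
        rw [hzb, ← QuotientGroup.mk_inv, ← QuotientGroup.mk_mul, ← QuotientGroup.mk_mul]
        rfl
      have h1 := QuotientGroup.eq.mp e
      rw [mem_subgroupOf] at h1
      simpa using h1
  intro a ha b hb
  obtain ⟨wa, hwaP, hwac, hωa⟩ := key a ha
  obtain ⟨wb, hwbP, hwbc, hωb⟩ := key b hb
  have hae : a = wa * (wa⁻¹ * a) := by group
  have hbe : b = wb * (wb⁻¹ * b) := by group
  have c1 : Commute wa b := hwac b hb
  have c2 : Commute (wa⁻¹ * a) wb := (hwbc _ (hΩP hωa)).symm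
  have c3 : Commute (wa⁻¹ * a) (wb⁻¹ * b) := hΩc _ hωa _ hωb
  have c4 : Commute (wa⁻¹ * a) b := by
    rw [hbe]; exact c2.mul_right c3
  have : Commute a b := by
    rw [hae]; exact c1.mul_left c4
  exact this.eq

end Quotient

section Main

/-- **Camina–Herzog.** If every 2-element of the finite group `G` is centralized by a Sylow
2-subgroup, then the Sylow 2-subgroups of `G` are abelian. -/
theorem main : ∀ n : ℕ, ∀ (G : Type u) [Group G] [Finite G], Nat.card G = n → Hyp G →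
    ∀ P : Sylow 2 G, ∀ a ∈ P, ∀ b ∈ P, a * b = b * a := by
  intro n
  induction n using Nat.strong_induction_on with
  | _ n ih =>
  intro G _ _ hcard hH P
  by_cases hP : (P : Subgroup G) = ⊥
  · intro a ha b hb
    have ha' : a ∈ (P : Subgroup G) := ha
    have hb' : b ∈ (P : Subgroup G) := hb
    rw [hP, mem_bot] at ha' hb'
    rw [ha', hb']
  have hΩP := omega_le hH P
  have hPM := le_normalizer_omega hH P
  have hF : ∀ x ∈ P, ∃ n ∈ normalizer (omega hH P : Set G), ∃ z ∈ P,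
      (∀ y ∈ P, z * y = y * z) ∧ x = n * z * n⁻¹ := fun x hx => exists_conj_center hH P hx
  have hHq : Hyp (Quot (omega hH P)) := quot_hyp P (omega hH P) hPM hF
  have hlt : Nat.card (Quot (omega hH P)) < n := by
    obtain ⟨y, hy, hy1⟩ := exists_mem_omega_ne_one hH P hP
    have h1 := Subgroup.card_eq_card_quotient_mul_card_subgroup
      ((omega hH P).subgroupOf (normalizer (omega hH P : Set G)))
    have h2 : 2 ≤ Nat.card ((omega hH P).subgroupOf (normalizer (omega hH P : Set G))) := by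
      have hnt : Nontrivial ((omega hH P).subgroupOf (normalizer (omega hH P : Set G))) := by
        refine ⟨⟨⟨⟨y, le_normalizer hy⟩, mem_subgroupOf.mpr hy⟩, 1, ?_⟩⟩
        intro h
        apply hy1
        have h5 := congrArg Subtype.val (congrArg Subtype.val h)
        simpa using h5
      exact Finite.one_lt_card_iff_nontrivial.mpr hnt
    have h3 : Nat.card ↥(normalizer (omega hH P : Set G)) ≤ Nat.card G :=
      Subgroup.card_le_card_group _
    have h4 : 0 < Nat.card (Quot (omega hH P)) := Nat.card_pos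
    rw [← hcard]
    nlinarith
  have hPb := ih _ hlt (Quot (omega hH P)) rfl hHq (Pbar P (omega hH P) hPM)
  exact final_step P (omega hH P) hΩP hPM hF (fun a ha b hb => omega_comm hH P ha hb) hPb

end Main

end Cfsg.Agent.Lib.Helper24_TwoCentral
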