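import Mathlib

/-!
# Wreath products acting linearly, and `p`-subgroups of `GL_n(q)` of large derived length (helper24)

* `derivedSeries_wreath_ne_bot`: `D^j(D) ≠ 1 → D^{j+1}(D ≀ᵣ C) ≠ 1` for abelian `C ≠ 1`.
* `wreathRep`: the action of `D ≀ᵣ C` on `C → V`, faithful when the action of `D` on `V` is.
* `HasLinearPGroup F p m j`: some finite `p`-group with `D^j ≠ 1` acts faithfully in dimension `m`.
* `sylow_derivedSeries_ne_bot`: then every Sylow `p`-subgroup of `GL (Fin m) F` has `D^j ≠ 1`.
-/

open Subgroup Module
open scoped commutatorElement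

namespace Cfsg.Agent.Lib.Helper24_WreathLinear

universe u v w

section grp
variable {G : Type*} [Group G]

theorem map_derivedSeries_commutator_le (k : ℕ) :
    (derivedSeries ↥(commutator G) k).map (commutator G).subtype ≤ derivedSeries G (k + 1) := by
  induction k with
  | zero =>
    rw [derivedSeries_zero, ← MonoidHom.range_eq_map, Subgroup.range_subtype, derivedSeries_succ,
      derivedSeries_zero, commutator_def]
  | succ k ih =>
    rw [derivedSeries_succ, Subgroup.map_commutator, derivedSeries_succ G (k + 1)]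
    exact Subgroup.commutator_mono ih ih

end grp

section wreath
variable {D C : Type*} [Group D] [Group C]

open RegularWreathProduct

theorem right_eq_one_of_mem_commutator (hC : ∀ a b : C, a * b = b * a) (w : D ≀ᵣ C)
    (hw : w ∈ commutator (D ≀ᵣ C)) : w.right = 1 := by
  have h1 : commutator (D ≀ᵣ C) ≤ (rightHom : D ≀ᵣ C →* C).ker := by
    rw [commutator_def, Subgroup.commutator_le]
    intro a _ b _
    rw [MonoidHom.mem_ker, map_commutatorElement, commutatorElement_eq_one_iff_mul_comm]
    exact hC _ _
  exact MonoidHom.mem_ker.mp (h1 hw)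

/-- Evaluation at `c` of the base-group component, as a homomorphism on the derived subgroup. -/
def evalHom (hC : ∀ a b : C, a * b = b * a) (c : C) : ↥(commutator (D ≀ᵣ C)) →* D where
  toFun w := w.1.left c
  map_one' := rfl
  map_mul' a b := by
    have ha := right_eq_one_of_mem_commutator hC a.1 a.2
    simp [ha]

theorem evalHom_surjective (hC : ∀ a b : C, a * b = b * a) (c : C) (hc : c ≠ 1) :
    Function.Surjective (evalHom (D := D) hC c) := by
  classical
  intro d
  let t : D ≀ᵣ C := inl c
  let b : D ≀ᵣ C := ⟨Pi.mulSingle 1 d, 1⟩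
  have hmem : ⁅t, b⁆ ∈ commutator (D ≀ᵣ C) := by
    rw [commutator_def]
    exact Subgroup.commutator_mem_commutator (Subgroup.mem_top t) (Subgroup.mem_top b)
  refine ⟨⟨⁅t, b⁆, hmem⟩, ?_⟩
  show (⁅t, b⁆).left c = d
  rw [commutatorElement_def]
  simp only [t, b, mul_left, mul_right, inv_left, inv_right, left_inl, right_inl, Pi.mul_apply,
    Pi.one_apply, Pi.inv_apply, one_mul, mul_one, inv_one, inv_mul_cancel, mul_inv_cancel]
  simp [hc]

theorem derivedSeries_wreath_ne_bot (hC : ∀ a b : C, a * b = b * a) (c : C) (hc : c ≠ 1) (j : ℕ)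
    (h : derivedSeries D j ≠ ⊥) : derivedSeries (D ≀ᵣ C) (j + 1) ≠ ⊥ := by
  intro hbot
  apply h
  have h1 := map_derivedSeries_eq (f := evalHom (D := D) hC c) (evalHom_surjective hC c hc) j
  have h2 := map_derivedSeries_commutator_le (G := D ≀ᵣ C) j
  rw [hbot, le_bot_iff] at h2
  have h3 : derivedSeries ↥(commutator (D ≀ᵣ C)) j = ⊥ := by
    rw [eq_bot_iff]
    intro x hx
    have : (commutator (D ≀ᵣ C)).subtype x ∈
        (derivedSeries ↥(commutator (D ≀ᵣ C)) j).map (commutator (D ≀ᵣ C)).subtype :=
      Subgroup.mem_map_of_mem _ hx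
    rw [h2, Subgroup.mem_bot] at this
    rw [Subgroup.mem_bot]
    exact Subtype.ext this
  rw [← h1, h3, Subgroup.map_bot]

end wreath

section rep
variable {F : Type w} [Field F] {D : Type u} [Group D] {C : Type*} [Group C]
  {V : Type v} [AddCommGroup V] [Module F V]

open RegularWreathProduct

/-- The natural action of `D ≀ᵣ C` on `C → V` induced by an action of `D` on `V`. -/
def wreathRep (ρ : D →* Module.End F V) : D ≀ᵣ C →* Module.End F (C → V) where
  toFun w :=
    { toFun := fun v x => ρ (w.left x) (v (w.right⁻¹ * x))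
      map_add' := by intro v v'; funext x; simp
      map_smul' := by intro c v; funext x; simp }
  map_one' := by
    refine LinearMap.ext fun v => funext fun x => ?_
    simp
  map_mul' a b := by
    refine LinearMap.ext fun v => funext fun x => ?_
    simp [mul_assoc]

theorem wreathRep_apply (ρ : D →* Module.End F V) (w : D ≀ᵣ C) (v : C → V) (x : C) :
    wreathRep ρ w v x = ρ (w.left x) (v (w.right⁻¹ * x)) := rfl

theorem wreathRep_injective [Nontrivial V] (ρ : D →* Module.End F V) (hρ : Function.Injective ρ) :
    Function.Injective (wreathRep (C := C) ρ) := by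
  classical
  rw [injective_iff_map_eq_one]
  intro w hw
  have key : ∀ (v : C → V) (x : C), ρ (w.left x) (v (w.right⁻¹ * x)) = v x := by
    intro v x
    have := congrFun (LinearMap.congr_fun hw v) x
    rwa [wreathRep_apply] at this
  have hinjD : ∀ d : D, Function.Injective (ρ d) := by
    intro d u u' huu
    have e : ∀ t, ρ d⁻¹ (ρ d t) = t := by
      intro t
      have : (ρ d⁻¹ * ρ d) t = t := by rw [← map_mul, inv_mul_cancel, map_one]; rfl
      exact this
    have : ρ d⁻¹ (ρ d u) = ρ d⁻¹ (ρ d u') := by rw [huu]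
    rwa [e, e] at this
  obtain ⟨u, hu⟩ := exists_ne (0 : V)
  have hr : w.right = 1 := by
    by_contra hne
    have h1 := key (Pi.single 1 u) w.right
    rw [inv_mul_cancel, Pi.single_eq_same, Pi.single_eq_of_ne hne] at h1
    have : ρ (w.left w.right) u = ρ (w.left w.right) 0 := by rw [h1, map_zero]
    exact hu (hinjD _ this)
  have hl : w.left = 1 := by
    funext x
    apply hρ
    rw [Pi.one_apply, map_one]
    refine LinearMap.ext fun u' => ?_
    have h1 := key (Pi.single x u') x
    rw [hr, inv_one, one_mul, Pi.single_eq_same] at h1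
    rw [h1, Module.End.one_apply]
  exact RegularWreathProduct.ext hl hr

omit [Group C] in
theorem finrank_wreath [Finite C] [FiniteDimensional F V] :
    finrank F (C → V) = Nat.card C * finrank F V := by
  classical
  have := Fintype.ofFinite C
  rw [Module.finrank_pi_fintype, Finset.sum_const, Finset.card_univ, smul_eq_mul,
    Nat.card_eq_fintype_card]

end rep

section pad
variable {F : Type w} [Field F] {D : Type u} [Group D]
  {V : Type v} [AddCommGroup V] [Module F V] {U : Type v} [AddCommGroup U] [Module F U]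

/-- Padding a representation by a trivial summand. -/
def padRep (ρ : D →* Module.End F V) : D →* Module.End F (V × U) where
  toFun d := LinearMap.prodMap (ρ d) LinearMap.id
  map_one' := by
    refine LinearMap.ext fun v => ?_
    simp
  map_mul' a b := by
    refine LinearMap.ext fun v => ?_
    simp

theorem padRep_injective (ρ : D →* Module.End F V) (hρ : Function.Injective ρ) :
    Function.Injective (padRep (U := U) ρ) := by
  intro a b hab
  apply hρ
  refine LinearMap.ext fun v => ?_
  have := LinearMap.congr_fun hab (v, 0)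
  simp only [padRep, MonoidHom.coe_mk, OneHom.coe_mk, LinearMap.prodMap_apply] at this
  exact congrArg Prod.fst this

end pad

section build
variable (F : Type w) [Field F] (p : ℕ) [hp : Fact p.Prime]

/-- There is a finite `p`-group with nontrivial `j`-th derived subgroup acting faithfully on an
`F`-space of dimension `m`. -/
def HasLinearPGroup (m j : ℕ) : Prop :=
  ∃ (Q : Type w) (_ : Group Q) (_ : Finite Q), IsPGroup p Q ∧ derivedSeries Q j ≠ ⊥ ∧
    ∃ (V : Type w) (_ : AddCommGroup V) (_ : Module F V) (_ : FiniteDimensional F V),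
      finrank F V = m ∧ ∃ ρ : Q →* Module.End F V, Function.Injective ρ

variable {F p}

theorem HasLinearPGroup.wreath {m j : ℕ} (h : HasLinearPGroup F p m j) :
    HasLinearPGroup F p (p * m) (j + 1) := by
  obtain ⟨Q, _, _, hQ, hder, V, _, _, _, hfin, ρ, hρ⟩ := h
  let C := Multiplicative (ZMod p)
  have hCcard : Nat.card C = p := by
    show Nat.card (Multiplicative (ZMod p)) = p
    rw [Nat.card_eq_fintype_card, Fintype.card_multiplicative, ZMod.card]
  have hCcomm : ∀ a b : C, a * b = b * a := fun a b => mul_comm a b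
  have hCnt : ∃ c : C, c ≠ 1 := by
    have : Nontrivial C := by
      rw [← Finite.one_lt_card_iff_nontrivial, hCcard]
      exact hp.out.one_lt
    exact exists_ne 1
  obtain ⟨c, hc⟩ := hCnt
  have hQnt : Nontrivial Q := by
    by_contra hcon
    rw [not_nontrivial_iff_subsingleton] at hcon
    apply hder
    exact Subsingleton.elim _ _
  have hVnt : Nontrivial V := by
    by_contra hcon
    rw [not_nontrivial_iff_subsingleton] at hcon
    obtain ⟨a, b, hab⟩ := exists_pair_ne Q
    apply hab
    apply hρ
    refine LinearMap.ext fun v => Subsingleton.elim _ _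
  refine ⟨Q ≀ᵣ C, inferInstance, inferInstance, ?_, derivedSeries_wreath_ne_bot hCcomm c hc j hder,
    C → V, inferInstance, inferInstance, inferInstance, ?_, wreathRep ρ, wreathRep_injective ρ hρ⟩
  · obtain ⟨k, hk⟩ := hQ.exists_card_eq
    apply IsPGroup.of_card (n := k * p + 1)
    rw [RegularWreathProduct.card, hCcard, hk]
    ring
  · rw [finrank_wreath, hCcard, hfin]

omit hp in
theorem HasLinearPGroup.pad {m j : ℕ} (h : HasLinearPGroup F p m j) (r : ℕ) :
    HasLinearPGroup F p (m + r) j := by
  obtain ⟨Q, _, _, hQ, hder, V, _, _, _, hfin, ρ, hρ⟩ := h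
  refine ⟨Q, inferInstance, inferInstance, hQ, hder, V × (Fin r → F), inferInstance, inferInstance,
    inferInstance, ?_, padRep ρ, padRep_injective ρ hρ⟩
  rw [Module.finrank_prod, hfin, Module.finrank_fin_fun]

theorem HasLinearPGroup.iterate {m j : ℕ} (h : HasLinearPGroup F p m j) (k : ℕ) :
    HasLinearPGroup F p (p ^ k * m) (j + k) := by
  induction k with
  | zero => simpa using h
  | succ k ih =>
    have := ih.wreath
    rw [← mul_assoc, ← pow_succ'] at this
    exact this

end build

section base
variable {F : Type w} [Field F] [Fintype F] (p : ℕ) [hp : Fact p.Prime]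

theorem exists_orderOf_eq_prime_GL (e : ℕ) (he : 1 ≤ e) (hdvd : p ∣ Fintype.card F ^ e - 1) :
    ∃ x : GL (Fin e) F, orderOf x = p := by
  apply exists_prime_orderOf_dvd_card' p
  rw [Matrix.card_GL_field]
  have h1 : (Fintype.card F ^ e - Fintype.card F ^ ((⟨0, he⟩ : Fin e) : ℕ)) ∣
      ∏ i : Fin e, (Fintype.card F ^ e - Fintype.card F ^ (i : ℕ)) :=
    Finset.dvd_prod_of_mem _ (Finset.mem_univ _)
  simp only [pow_zero] at h1
  exact hdvd.trans h1

theorem hasLinearPGroup_base (e : ℕ) (he : 1 ≤ e) (hdvd : p ∣ Fintype.card F ^ e - 1) :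
    HasLinearPGroup F p e 0 := by
  obtain ⟨x, hx⟩ := exists_orderOf_eq_prime_GL p e he hdvd
  let Q : Subgroup (GL (Fin e) F) := zpowers x
  have hcard : Nat.card Q = p := by rw [Nat.card_zpowers, hx]
  let ψ : Matrix (Fin e) (Fin e) F →* Module.End F (Fin e → F) :=
    ((Matrix.toLinAlgEquiv' : Matrix (Fin e) (Fin e) F ≃ₐ[F] _) :
      Matrix (Fin e) (Fin e) F →ₐ[F] Module.End F (Fin e → F))
  have hψ : Function.Injective ψ := by
    intro A B hAB
    exact (Matrix.toLinAlgEquiv' : Matrix (Fin e) (Fin e) F ≃ₐ[F] _).injective hAB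
  let ρ : Q →* Module.End F (Fin e → F) := ψ.comp ((Units.coeHom _).comp Q.subtype)
  have hρ : Function.Injective ρ := by
    intro a b hab
    exact Subtype.ext (Units.ext (hψ hab))
  refine ⟨Q, inferInstance, inferInstance, ?_, ?_, Fin e → F, inferInstance, inferInstance,
    inferInstance, Module.finrank_fin_fun F, ρ, hρ⟩
  · apply IsPGroup.of_card (n := 1)
    rw [hcard, pow_one]
  · rw [derivedSeries_zero]
    intro h
    have : Nat.card Q = 1 := by
      rw [← Subgroup.card_top (G := Q), h, Subgroup.card_bot]
    rw [hcard] at this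
    exact hp.out.one_lt.ne' this

end base

section transfer

theorem derivedSeries_ne_bot_of_injective {A B : Type*} [Group A] [Group B] (f : A →* B)
    (hf : Function.Injective f) (k : ℕ) (h : derivedSeries A k ≠ ⊥) : derivedSeries B k ≠ ⊥ := by
  intro hB
  apply h
  have h1 := map_derivedSeries_le_derivedSeries f k
  rw [hB, le_bot_iff] at h1
  rw [eq_bot_iff]
  intro x hx
  have : f x ∈ (derivedSeries A k).map f := Subgroup.mem_map_of_mem _ hx
  rw [h1, Subgroup.mem_bot] at this
  rw [Subgroup.mem_bot]
  exact hf (by rw [this, map_one])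

variable {F : Type w} [Field F] [Fintype F] (p : ℕ) [hp : Fact p.Prime]

theorem sylow_derivedSeries_ne_bot {n k : ℕ} (h : HasLinearPGroup F p n k)
    (P : Sylow p (GL (Fin n) F)) : derivedSeries ↥(P : Subgroup (GL (Fin n) F)) k ≠ ⊥ := by
  classical
  obtain ⟨Q, _, _, hQ, hder, V, _, _, _, hfin, ρ, hρ⟩ := h
  let b : Basis (Fin n) F V := Module.finBasisOfFinrankEq F V hfin
  let θ : Module.End F V →* Matrix (Fin n) (Fin n) F :=
    ((LinearMap.toMatrixAlgEquiv b : Module.End F V ≃ₐ[F] Matrix (Fin n) (Fin n) F) :
      Module.End F V →ₐ[F] Matrix (Fin n) (Fin n) F)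
  have hθ : Function.Injective θ := by
    intro A B hAB
    exact (LinearMap.toMatrixAlgEquiv b).injective hAB
  let f₀ : Q →* Matrix (Fin n) (Fin n) F := θ.comp ρ
  have hf₀ : Function.Injective f₀ := hθ.comp hρ
  let f : Q →* GL (Fin n) F := f₀.toHomUnits
  have hf : Function.Injective f := by
    intro a c hac
    apply hf₀
    have := congrArg Units.val hac
    exact this
  -- the image is a p-subgroup, hence inside a Sylow subgroup, which is conjugate to P
  have hR : IsPGroup p f.range := hQ.of_equiv (MonoidHom.ofInjective hf)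
  obtain ⟨P', hP'⟩ := hR.exists_le_sylow
  obtain ⟨g, hg⟩ := MulAction.exists_smul_eq (GL (Fin n) F) P' P
  let ι₁ : Q →* f.range := f.rangeRestrict
  have hι₁ : Function.Injective ι₁ := by
    intro a c hac
    apply hf
    exact congrArg Subtype.val hac
  let ι₂ : f.range →* (P' : Subgroup (GL (Fin n) F)) := Subgroup.inclusion hP'
  have hι₂ : Function.Injective ι₂ := Subgroup.inclusion_injective hP'
  let ι₃ : (P' : Subgroup (GL (Fin n) F)) ≃* ((g • P' : Sylow p (GL (Fin n) F)) :
      Subgroup (GL (Fin n) F)) := Sylow.equivSMul P' g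
  have h1 := derivedSeries_ne_bot_of_injective ι₁ hι₁ k hder
  have h2 := derivedSeries_ne_bot_of_injective ι₂ hι₂ k h1
  have h3 := derivedSeries_ne_bot_of_injective ι₃.toMonoidHom ι₃.injective k h2
  rw [hg] at h3
  exact h3

end transfer

end Cfsg.Agent.Lib.Helper24_WreathLinear
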