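import Mathlib
import Cfsg.Prelude.Def_Characters

/-!
# Averaging a class function over a coset `K a` (helper25)

`K` a subgroup normalized by `a`, `|K|` coprime to the order of `a`, `χ` a class function of the
ambient finite group.  Then the average of `χ` over the coset `K a` equals the average of `χ` over
`C_K(a) a`.  (Every element of `K a` is `K`-conjugate to an element of `C_K(a) a`, uniformly.)
-/

set_option autoImplicit false

namespace Cfsg.Agent.Lib.Helper25_AvgCoset

open Cfsg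

variable {G : Type*} [Group G]

/-- Key uniqueness: if `k c a k⁻¹ = k' c' a k'⁻¹` with `c, c'` in `K` commuting with `a`, then
`z = k⁻¹ k'` commutes with `a` and `c' = z⁻¹ c z`. -/
theorem fiber_aux [Finite G] (K : Subgroup G) (a : G)
    (hcop : (Nat.card K).Coprime (orderOf a)) (k k' c c' : G) (hk : k ∈ K) (hk' : k' ∈ K)
    (hc : c ∈ K) (hc' : c' ∈ K) (hca : c * a = a * c) (hca' : c' * a = a * c')
    (h : k * c * a * k⁻¹ = k' * c' * a * k'⁻¹) :
    (k⁻¹ * k') * a = a * (k⁻¹ * k') ∧ c' = (k⁻¹ * k')⁻¹ * c * (k⁻¹ * k') := by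
  set z := k⁻¹ * k' with hz
  have h1 : c * a = z * (c' * a) * z⁻¹ := by
    have : c * a = k⁻¹ * (k * c * a * k⁻¹) * k := by group
    rw [this, h, hz]; group
  set n := Nat.card K with hn
  have hpow : ∀ d : G, d ∈ K → d * a = a * d → (d * a) ^ n = a ^ n := by
    intro d hd hda
    have hcomm : Commute d a := hda
    rw [hcomm.mul_pow]
    have : d ^ n = 1 := by
      have h3 := congrArg Subtype.val (pow_card_eq_one' (G := K) (x := ⟨d, hd⟩))
      rwa [Subgroup.coe_pow, Subgroup.coe_one] at h3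
    rw [this, one_mul]
  have h2 : a ^ n = z * a ^ n * z⁻¹ := by
    calc a ^ n = (c * a) ^ n := (hpow c hc hca).symm
      _ = (z * (c' * a) * z⁻¹) ^ n := by rw [h1]
      _ = z * (c' * a) ^ n * z⁻¹ := conj_pow
      _ = z * a ^ n * z⁻¹ := by rw [hpow c' hc' hca']
  obtain ⟨m, hm⟩ := exists_pow_eq_self_of_coprime hcop (x := a)
  have h3 : z * a ^ n = a ^ n * z := by
    calc z * a ^ n = (z * a ^ n * z⁻¹) * z := by group
      _ = a ^ n * z := by rw [← h2]
  have h4 : z * a = a * z := by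
    have hc2 : Commute z (a ^ n) := h3
    have := hc2.pow_right m
    rw [hm] at this
    exact this
  refine ⟨h4, ?_⟩
  have h5 : c * a = (z * c' * z⁻¹) * a := by
    rw [h1]
    calc z * (c' * a) * z⁻¹ = z * c' * (a * z⁻¹) := by group
      _ = z * c' * (z⁻¹ * a) := by
        congr 1
        have : z⁻¹ * a = a * z⁻¹ := by
          calc z⁻¹ * a = z⁻¹ * (a * z) * z⁻¹ := by group
            _ = z⁻¹ * (z * a) * z⁻¹ := by rw [h4]
            _ = a * z⁻¹ := by group
        exact this.symm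
      _ = (z * c' * z⁻¹) * a := by group
  have h6 : c = z * c' * z⁻¹ := mul_right_cancel h5
  rw [h6]; group

open Classical in
/-- The average of a class function over the coset `K a` equals its average over `C_K(a) a`. -/
theorem avg_coset [Fintype G] (K C : Subgroup G) (a : G)
    (hnorm : ∀ k ∈ K, a * k * a⁻¹ ∈ K)
    (hC : ∀ c, c ∈ C ↔ c ∈ K ∧ c * a = a * c)
    (hcop : (Nat.card K).Coprime (orderOf a)) (χ : G → ℂ) (hχ : IsClassFunction G χ) :
    (Nat.card K : ℂ)⁻¹ * ∑ h : K, χ ((h : G) * a) =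
      (Nat.card C : ℂ)⁻¹ * ∑ c : C, χ ((c : G) * a) := by
  have hnorm' : ∀ k ∈ K, a * k⁻¹ * a⁻¹ ∈ K := fun k hk => hnorm _ (K.inv_mem hk)
  have hCK : ∀ c : C, (c : G) ∈ K := fun c => ((hC c).mp c.2).1
  have hCa : ∀ c : C, (c : G) * a = a * c := fun c => ((hC c).mp c.2).2
  -- the map Φ
  have hmem : ∀ (k : K) (c : C), (k : G) * c * a * (k : G)⁻¹ * a⁻¹ ∈ K := by
    intro k c
    have : (k : G) * c * a * (k : G)⁻¹ * a⁻¹ = (k : G) * c * (a * (k : G)⁻¹ * a⁻¹) := by group
    rw [this]
    exact K.mul_mem (K.mul_mem k.2 (hCK c)) (hnorm' k k.2)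
  let Φ : K × C → K := fun p => ⟨(p.1 : G) * p.2 * a * (p.1 : G)⁻¹ * a⁻¹, hmem p.1 p.2⟩
  have hΦ : ∀ p : K × C, ((Φ p : K) : G) * a = (p.1 : G) * p.2 * a * (p.1 : G)⁻¹ := by
    intro p; simp only [Φ]; group
  -- fibers
  have hfib : ∀ p0 : K × C,
      (Finset.univ.filter (fun p : K × C => Φ p = Φ p0)).card = Fintype.card C := by
    intro p0
    let ι : C → K × C := fun z =>
      (p0.1 * ⟨z, hCK z⟩, ⟨(z : G)⁻¹ * p0.2 * z, C.mul_mem (C.mul_mem (C.inv_mem z.2) p0.2.2) z.2⟩)
    have hι : Function.Injective ι := by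
      intro z z' h
      have h1 := congrArg Prod.fst h
      simp only [ι] at h1
      have h2 : (⟨z, hCK z⟩ : K) = ⟨z', hCK z'⟩ := mul_left_cancel h1
      exact Subtype.ext (congrArg (fun x : K => (x : G)) h2)
    have himg : Finset.univ.filter (fun p : K × C => Φ p = Φ p0) = Finset.univ.image ι := by
      ext p
      simp only [Finset.mem_filter, Finset.mem_univ, true_and, Finset.mem_image]
      constructor
      · intro h
        have h' : (p0.1 : G) * p0.2 * a * (p0.1 : G)⁻¹ = (p.1 : G) * p.2 * a * (p.1 : G)⁻¹ := by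
          rw [← hΦ p0, ← hΦ p, h]
        obtain ⟨hz1, hz2⟩ := fiber_aux K a hcop p0.1 p.1 p0.2 p.2 p0.1.2 p.1.2 (hCK _) (hCK _)
          (hCa _) (hCa _) h'
        have hzK : (p0.1 : G)⁻¹ * p.1 ∈ K := K.mul_mem (K.inv_mem p0.1.2) p.1.2
        have hzC : (p0.1 : G)⁻¹ * p.1 ∈ C := (hC _).mpr ⟨hzK, hz1⟩
        refine ⟨⟨_, hzC⟩, ?_⟩
        apply Prod.ext
        · apply Subtype.ext
          simp only [ι, Subgroup.coe_mul]
          group
        · apply Subtype.ext
          simp only [ι]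
          exact hz2.symm
      · rintro ⟨z, rfl⟩
        apply Subtype.ext
        simp only [Φ, ι, Subgroup.coe_mul]
        have hza : (z : G) * a = a * z := hCa z
        have hza' : (z : G)⁻¹ * a = a * (z : G)⁻¹ := by
          calc (z : G)⁻¹ * a = (z : G)⁻¹ * (a * z) * (z : G)⁻¹ := by group
            _ = (z : G)⁻¹ * (z * a) * (z : G)⁻¹ := by rw [hza]
            _ = a * (z : G)⁻¹ := by group
        calc (p0.1 : G) * z * ((z : G)⁻¹ * p0.2 * z) * a * ((p0.1 : G) * z)⁻¹ * a⁻¹
            = (p0.1 : G) * p0.2 * (z * a) * (z : G)⁻¹ * (p0.1 : G)⁻¹ * a⁻¹ := by group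
          _ = (p0.1 : G) * p0.2 * (a * z) * (z : G)⁻¹ * (p0.1 : G)⁻¹ * a⁻¹ := by rw [hza]
          _ = (p0.1 : G) * p0.2 * a * (p0.1 : G)⁻¹ * a⁻¹ := by group
    rw [himg, Finset.card_image_of_injective _ hι, Finset.card_univ]
  -- image is everything
  have hcardC : 0 < Fintype.card C := Fintype.card_pos
  have himage : (Finset.univ : Finset (K × C)).image Φ = Finset.univ := by
    apply Finset.eq_univ_of_card
    have h1 := Finset.card_eq_sum_card_image Φ (Finset.univ : Finset (K × C))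
    have h2 : ∀ h ∈ (Finset.univ : Finset (K × C)).image Φ,
        (Finset.univ.filter (fun p : K × C => Φ p = h)).card = Fintype.card C := by
      intro h hh
      obtain ⟨p0, _, rfl⟩ := Finset.mem_image.mp hh
      exact hfib p0
    rw [Finset.sum_congr rfl h2, Finset.sum_const, smul_eq_mul, Finset.card_univ,
      Fintype.card_prod] at h1
    exact (Nat.eq_of_mul_eq_mul_right hcardC h1).symm
  -- the double sum
  have hT1 : ∑ p : K × C, χ ((Φ p : G) * a) = (Fintype.card K : ℂ) * ∑ c : C, χ ((c : G) * a) := by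
    rw [Fintype.sum_prod_type]
    have : ∀ k : K, ∑ c : C, χ ((Φ (k, c) : G) * a) = ∑ c : C, χ ((c : G) * a) := by
      intro k
      apply Finset.sum_congr rfl
      intro c _
      rw [hΦ]
      have : (k : G) * c * a * (k : G)⁻¹ = (k : G) * ((c : G) * a) * (k : G)⁻¹ := by group
      rw [this, hχ]
    rw [Finset.sum_congr rfl (fun k _ => this k), Finset.sum_const, Finset.card_univ,
      nsmul_eq_mul]
  have hT2 : ∑ p : K × C, χ ((Φ p : G) * a) = (Fintype.card C : ℂ) * ∑ h : K, χ ((h : G) * a) := by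
    rw [Finset.sum_comp (fun h : K => χ ((h : G) * a)) Φ, himage]
    rw [Finset.mul_sum]
    apply Finset.sum_congr rfl
    intro h _
    have hh : h ∈ (Finset.univ : Finset (K × C)).image Φ := by rw [himage]; exact Finset.mem_univ _
    obtain ⟨p0, _, rfl⟩ := Finset.mem_image.mp hh
    rw [hfib p0, nsmul_eq_mul]
  have hK0 : (Fintype.card K : ℂ) ≠ 0 := by exact_mod_cast Fintype.card_ne_zero
  have hC0 : (Fintype.card C : ℂ) ≠ 0 := by exact_mod_cast Fintype.card_ne_zero
  rw [Nat.card_eq_fintype_card, Nat.card_eq_fintype_card]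
  have := hT1.symm.trans hT2
  field_simp
  linear_combination (-1 : ℂ) * this

end Cfsg.Agent.Lib.Helper25_AvgCoset
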