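import Mathlib
import Cfsg.Prelude.Def_OddOrderLocal
import Cfsg.Agent.Lib.Helper49_Sigma
import Cfsg.Agent.Lib.Helper49_Alpha3
import Cfsg.Agent.Lib.Helper70_BG1012

/-!
# Basic tools for Bender–Glauberman section 14 (helper25)

* commuting subgroups: `exists_mul_of_mem_sup_comm`;
* commuting elements of coprime orders are powers of their product;
* `sigma_cj`: `σ(gMg⁻¹) = σ(M)`;
* `card_classSupport`: counting the union of the conjugates of a TI-set with known normalizer;
* `not_dvd_card_commutator_of_burnside`: Burnside's transfer theorem in the form used for `κ(M) ⊆ τ₁(M)`;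
* `mem_commutator_of_fpf`: a group acted on fixed-point-freely is covered by commutators.
-/

set_option autoImplicit false

namespace Cfsg.Agent.Lib.Helper25_BG14a

open Subgroup Cfsg Cfsg.Agent.Lib.Helper22_Radical Cfsg.Agent.Lib.Helper84_RelSylow
  Cfsg.Agent.Lib.Helper49_Sigma

universe u

variable {G : Type u} [Group G]

/-! ### commuting subgroups -/

theorem exists_mul_of_mem_sup_comm {A B : Subgroup G} (hc : ∀ a ∈ A, ∀ b ∈ B, a * b = b * a) {x : G}
    (hx : x ∈ A ⊔ B) : ∃ a ∈ A, ∃ b ∈ B, x = a * b := by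
  have hBN : B ≤ normalizer (A : Set G) := by
    intro b hb
    rw [mem_normalizer_iff]
    intro a
    constructor
    · intro ha
      have : b * a * b⁻¹ = a := by rw [← hc a ha b hb]; group
      rw [this]; exact ha
    · intro ha
      have h2 : b * (b * a * b⁻¹) = (b * a * b⁻¹) * b := (hc _ ha b hb).symm
      have : b * a * b⁻¹ = a := by
        calc b * a * b⁻¹ = b⁻¹ * (b * (b * a * b⁻¹)) := by group
          _ = b⁻¹ * ((b * a * b⁻¹) * b) := by rw [h2]
          _ = a := by group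
      rw [← this]; exact ha
  rw [← SetLike.mem_coe, Subgroup.coe_mul_of_right_le_normalizer_left A B hBN] at hx
  obtain ⟨a, ha, b, hb, rfl⟩ := hx
  exact ⟨a, ha, b, hb, rfl⟩

theorem sup_comm_of_comm {A B : Subgroup G} (hA : ∀ a ∈ A, ∀ a' ∈ A, a * a' = a' * a)
    (hB : ∀ b ∈ B, ∀ b' ∈ B, b * b' = b' * b) (hc : ∀ a ∈ A, ∀ b ∈ B, a * b = b * a) :
    ∀ x ∈ A ⊔ B, ∀ y ∈ A ⊔ B, x * y = y * x := by
  intro x hx y hy
  obtain ⟨a, ha, b, hb, rfl⟩ := exists_mul_of_mem_sup_comm hc hx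
  obtain ⟨a', ha', b', hb', rfl⟩ := exists_mul_of_mem_sup_comm hc hy
  calc a * b * (a' * b') = a * (b * a') * b' := by group
    _ = a * (a' * b) * b' := by rw [hc a' ha' b hb]
    _ = (a * a') * (b * b') := by group
    _ = (a' * a) * (b' * b) := by rw [hA a ha a' ha', hB b hb b' hb']
    _ = a' * (a * b') * b := by group
    _ = a' * (b' * a) * b := by rw [hc a ha b' hb']
    _ = a' * b' * (a * b) := by group

/-! ### powers -/

theorem exists_pow_mul_eq_left {x y : G} (hc : Commute x y)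
    (hcop : (orderOf x).Coprime (orderOf y)) : ∃ n : ℕ, (x * y) ^ n = x := by
  -- choose n ≡ 1 mod o(x), n ≡ 0 mod o(y)
  obtain ⟨n, hn1, hn2⟩ := Nat.chineseRemainder hcop 1 0
  refine ⟨n, ?_⟩
  rw [hc.mul_pow]
  have h1 : x ^ n = x := by
    have : x ^ n = x ^ 1 := (pow_eq_pow_iff_modEq).mpr hn1
    rwa [pow_one] at this
  have h2 : y ^ n = 1 := by
    have : y ^ n = y ^ 0 := (pow_eq_pow_iff_modEq).mpr hn2
    rwa [pow_zero] at this
  rw [h1, h2, mul_one]

theorem exists_pow_mul_eq_right {x y : G} (hc : Commute x y)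
    (hcop : (orderOf x).Coprime (orderOf y)) : ∃ n : ℕ, (x * y) ^ n = y := by
  obtain ⟨n, hn⟩ := exists_pow_mul_eq_left hc.symm hcop.symm
  exact ⟨n, by rw [hc.eq]; exact hn⟩

/-! ### conjugation invariance of `σ` -/

section Finite

variable [Finite G]

theorem sigma_cj_le (g : G) (M : Subgroup G) : sigma M ⊆ sigma (cj g M) := by
  intro p hp
  have hpp : p.Prime := hp.1
  have : Fact p.Prime := ⟨hpp⟩
  obtain ⟨P, hP1, hP2, hP3⟩ := exists_sylM_of_mem_sigma hp
  have hS : IsSylowIn p (cj g P) (cj g M) := by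
    have h1 : IsSylowIn p (cj g P) ⊤ := by
      have := hP1.conj g
      rwa [Subgroup.map_top_of_surjective _ (MulAut.conj g).surjective] at this
    exact h1.mono (cj_mono hP2) le_top
  have hP0 : P ≠ ⊥ := by
    rintro rfl
    have h2 := hP1.not_dvd
    apply h2
    have : (⊥ : Subgroup G).relIndex ⊤ = Nat.card G := by
      rw [Subgroup.relIndex_top_right, Subgroup.index_bot]
    rw [this]
    exact hp.2.1.trans (Subgroup.card_subgroup_dvd_card M)
  refine Cfsg.Agent.Lib.Helper49_Alpha3.mem_sigma_of_normalizer_le hS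
    (Cfsg.Agent.Lib.Helper22_BGTrans.cj_ne_bot hP0) ?_
  rw [normalizer_cj]
  exact cj_mono hP3

theorem sigma_cj (g : G) (M : Subgroup G) : sigma (cj g M) = sigma M := by
  apply Set.Subset.antisymm
  · have := sigma_cj_le g⁻¹ (cj g M)
    rwa [Cfsg.Agent.Lib.Helper22_BGTrans.cj_inv_cj] at this
  · exact sigma_cj_le g M

/-- a `σ(M)`-group and a `σ(M)'`-group have coprime orders -/
theorem coprime_card_of_sigma {M A B : Subgroup G} (hA : A ≤ sigmaCore M)
    (hB : ∀ p : ℕ, p.Prime → p ∣ Nat.card B → p ∉ sigma M) :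
    (Nat.card A).Coprime (Nat.card B) := by
  apply Nat.coprime_of_dvd
  intro p hp hpA hpB
  exact hB p hp hpB (Cfsg.Agent.Lib.Helper70_BG1012.card_sigmaCore_mem M p hp
    (hpA.trans (Subgroup.card_dvd_of_le hA)))

/-! ### counting a class support -/

omit [Finite G] in
/-- If `Zh` is a set such that `g * z * g⁻¹ ∈ Zh` (for some `z ∈ Zh`) forces `g ∈ Z`, and `Z` normalizes `Zh`,
then the union of the conjugates of `Zh` has `|G : Z| * |Zh|` elements. -/
theorem card_classSupport (Z : Subgroup G) (Zh : Set G)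
    (hTI : ∀ g : G, ∀ z ∈ Zh, g * z * g⁻¹ ∈ Zh → g ∈ Z)
    (hinv : ∀ g ∈ Z, ∀ z ∈ Zh, g * z * g⁻¹ ∈ Zh) :
    Nat.card Z * Set.ncard {a : G | ∃ g : G, ∃ z ∈ Zh, a = g * z * g⁻¹} = Nat.card G * Set.ncard Zh := by
  classical
  set T : Set G := {a : G | ∃ g : G, ∃ z ∈ Zh, a = g * z * g⁻¹} with hT
  -- representatives
  have hrep : ∀ a : T, ∃ p : G × G, p.2 ∈ Zh ∧ (a : G) = p.1 * p.2 * p.1⁻¹ := by
    rintro ⟨a, g, z, hz, rfl⟩
    exact ⟨(g, z), hz, rfl⟩
  choose rep hrep1 hrep2 using hrep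
  have key : ∀ (g : G) (z : G) (hz : z ∈ Zh) (a : T), (a : G) = g * z * g⁻¹ →
      (rep a).1⁻¹ * g ∈ Z ∧ ((rep a).1⁻¹ * g)⁻¹ * (rep a).2 * ((rep a).1⁻¹ * g) = z := by
    intro g z hz a ha
    have h1 := hrep2 a
    rw [ha] at h1
    have h2 : ((rep a).1⁻¹ * g) * z * ((rep a).1⁻¹ * g)⁻¹ = (rep a).2 := by
      calc ((rep a).1⁻¹ * g) * z * ((rep a).1⁻¹ * g)⁻¹ = (rep a).1⁻¹ * (g * z * g⁻¹) * (rep a).1 := by group
        _ = (rep a).1⁻¹ * ((rep a).1 * (rep a).2 * (rep a).1⁻¹) * (rep a).1 := by rw [h1]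
        _ = (rep a).2 := by group
    refine ⟨hTI _ z hz (by rw [h2]; exact hrep1 a), ?_⟩
    rw [← h2]; group
  let e : (G × Zh) ≃ (T × Z) :=
    { toFun := fun p => (⟨p.1 * p.2 * p.1⁻¹, p.1, p.2, p.2.2, rfl⟩,
        ⟨(rep ⟨p.1 * p.2 * p.1⁻¹, p.1, p.2, p.2.2, rfl⟩).1⁻¹ * p.1,
          (key p.1 p.2 p.2.2 ⟨p.1 * p.2 * p.1⁻¹, p.1, p.2, p.2.2, rfl⟩ rfl).1⟩)
      invFun := fun q => ((rep q.1).1 * q.2,
        ⟨(q.2 : G)⁻¹ * (rep q.1).2 * q.2, by
          have := hinv (q.2 : G)⁻¹ (inv_mem q.2.2) _ (hrep1 q.1)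
          rwa [inv_inv] at this⟩)
      left_inv := by
        rintro ⟨g, z, hz⟩
        have hk := key g z hz ⟨g * z * g⁻¹, g, z, hz, rfl⟩ rfl
        apply Prod.ext
        · show (rep ⟨g * z * g⁻¹, g, z, hz, rfl⟩).1 * ((rep ⟨g * z * g⁻¹, g, z, hz, rfl⟩).1⁻¹ * g) = g
          group
        · apply Subtype.ext
          exact hk.2
      right_inv := by
        rintro ⟨a, h, hh⟩
        have ha : ((rep a).1 * h) * (h⁻¹ * (rep a).2 * h) * ((rep a).1 * h)⁻¹ = (a : G) := by
          rw [hrep2 a]; group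
        have hae : (⟨((rep a).1 * h) * (h⁻¹ * (rep a).2 * h) * ((rep a).1 * h)⁻¹,
            (rep a).1 * h, h⁻¹ * (rep a).2 * h, by
              have := hinv h⁻¹ (inv_mem hh) _ (hrep1 a)
              rwa [inv_inv] at this, rfl⟩ : T) = a := Subtype.ext ha
        apply Prod.ext
        · exact hae
        · apply Subtype.ext
          show (rep _).1⁻¹ * ((rep a).1 * h) = h
          rw [hae]; group }
  have hcard := Nat.card_congr e
  rw [Nat.card_prod, Nat.card_prod, Nat.card_coe_set_eq, Nat.card_coe_set_eq] at hcard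
  rw [hcard, mul_comm]

/-! ### Burnside's transfer theorem -/

theorem not_dvd_card_commutator_of_burnside {X : Type*} [Group X] [Finite X] {p : ℕ} [Fact p.Prime]
    (P : Sylow p X) (hP : normalizer (P : Set X) ≤ centralizer (P : Set X)) :
    ¬ p ∣ Nat.card (commutator X) := by
  intro hd
  apply MonoidHom.not_dvd_card_ker_transferSylow P hP
  refine hd.trans (Subgroup.card_dvd_of_le ?_)
  rw [commutator_def, Subgroup.commutator_le]
  intro a _ b _
  rw [MonoidHom.mem_ker, map_commutatorElement]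
  have hcomm : ∀ u v : P, u * v = v * u :=
    fun u v => Subtype.ext (hP (le_normalizer v.2) u u.2)
  rw [commutatorElement_def, hcomm (MonoidHom.transferSylow P hP a), mul_inv_cancel_right, mul_inv_cancel]

/-! ### fixed-point-free action on an abelian group -/

theorem mem_commutator_of_fpf {U : Subgroup G} {k : G}
    (hk : k ∈ normalizer (U : Set G)) (hfix : U ⊓ centralizer ({k} : Set G) = ⊥) :
    ∀ u ∈ U, ∃ v ∈ U, u = v⁻¹ * (k * v * k⁻¹) := by
  classical
  have hmem : ∀ v ∈ U, k * v * k⁻¹ ∈ U := fun v hv => (mem_normalizer_iff.mp hk v).mp hv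
  let f : U → U := fun v => ⟨(v : G)⁻¹ * (k * v * k⁻¹), mul_mem (inv_mem v.2) (hmem v v.2)⟩
  have hinj : Function.Injective f := by
    intro v w hvw
    have h1 : (v : G)⁻¹ * (k * v * k⁻¹) = (w : G)⁻¹ * (k * w * k⁻¹) := congrArg Subtype.val hvw
    -- then w v⁻¹ is centralized by k
    have h2 : (w : G) * (v : G)⁻¹ ∈ U ⊓ centralizer ({k} : Set G) := by
      refine Subgroup.mem_inf.mpr ⟨mul_mem w.2 (inv_mem v.2), ?_⟩
      rw [mem_centralizer_singleton_iff]
      -- k (w v⁻¹) = (w v⁻¹) k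
      have h3 : (k * w * k⁻¹) * (k * v * k⁻¹)⁻¹ = (w : G) * (v : G)⁻¹ := by
        have hvk := hmem v v.2
        have hwk := hmem w w.2
        have e1 : (k * w * k⁻¹) = (w : G) * ((v : G)⁻¹ * (k * v * k⁻¹)) := by rw [h1]; group
        rw [e1]
        group
      have h4 : (k * w * k⁻¹) * (k * v * k⁻¹)⁻¹ = k * ((w : G) * (v : G)⁻¹) * k⁻¹ := by group
      rw [h4] at h3
      calc (w : G) * (v : G)⁻¹ * k = (k * ((w : G) * (v : G)⁻¹) * k⁻¹) * k := by rw [h3]
        _ = k * ((w : G) * (v : G)⁻¹) := by group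
    rw [hfix, Subgroup.mem_bot] at h2
    apply Subtype.ext
    have : (w : G) = v := by
      calc (w : G) = (w : G) * (v : G)⁻¹ * v := by group
        _ = v := by rw [h2, one_mul]
    exact this.symm
  have hsurj : Function.Surjective f := Finite.surjective_of_injective hinj
  intro u hu
  obtain ⟨v, hv⟩ := hsurj ⟨u, hu⟩
  exact ⟨v, v.2, (congrArg Subtype.val hv).symm⟩

end Finite

end Cfsg.Agent.Lib.Helper25_BG14a
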