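import Mathlib
import Cfsg.Prelude.Def_OddOrderLocal
import Cfsg.Agent.Lib.Helper25_BG14a
import Cfsg.Agent.Lib.Helper25_BGHyp
import Cfsg.Agent.Lib.Helper24_CoprimeHall
import Cfsg.Agent.S3878
import Cfsg.Agent.S4344

/-!
# Bender–Glauberman Theorem 14.7, slices (b)–(e) (helper25)

Statement S1434 from the frozen statements S1430, S1431 (Theorem 14.2), the cyclicity clause of S1351 and
`σ`-disjointness (second clause of S1378), all as explicit hypotheses.
-/

set_option autoImplicit false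

namespace Cfsg.Agent.Lib.Helper25_BG147

open Subgroup Cfsg Cfsg.Agent.Lib.Helper22_Radical Cfsg.Agent.Lib.Helper25_BG14a
  Cfsg.Agent.Lib.Helper25_BGHyp
open scoped commutatorElement

universe u

variable {G : Type u} [Group G]

/-- `K* = M_σ ∩ C_G(K)` -/
abbrev kst (M K : Subgroup G) : Subgroup G := sigmaCore M ⊓ centralizer (K : Set G)

theorem sigmaCore_le (M : Subgroup G) : sigmaCore M ≤ M := Subgroup.map_subtype_le _

theorem le_normalizer_sigmaCore (M : Subgroup G) : M ≤ normalizer ((sigmaCore M : Subgroup G) : Set G) :=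
  Cfsg.Agent.Lib.Helper22_BGTrans.le_normalizer_piCoreOf (sigma M) M

theorem kst_le (M K : Subgroup G) : kst M K ≤ M := inf_le_left.trans (sigmaCore_le M)

theorem kst_comm {M K : Subgroup G} : ∀ a ∈ K, ∀ b ∈ kst M K, a * b = b * a := by
  intro a ha b hb
  exact (mem_centralizer_iff.mp (Subgroup.mem_inf.mp hb).2 a ha)

section Finite

variable [Finite G]

/-- a subgroup of prime order inside `⟨x⟩` -/
theorem exists_prime_le_zpowers {x : G} (hx1 : x ≠ 1) :
    ∃ X : Subgroup G, X ≤ zpowers x ∧ (Nat.card X).Prime := by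
  have ho : orderOf x ≠ 0 := (orderOf_pos x).ne'
  have ho1 : orderOf x ≠ 1 := fun h => hx1 (orderOf_eq_one_iff.mp h)
  have hp : (orderOf x).minFac.Prime := Nat.minFac_prime ho1
  refine ⟨zpowers (x ^ (orderOf x / (orderOf x).minFac)), ?_, ?_⟩
  · rw [zpowers_le]
    exact Subgroup.pow_mem _ (mem_zpowers x) _
  · rw [Nat.card_zpowers, orderOf_pow_orderOf_div ho (Nat.minFac_dvd _)]
    exact hp

omit [Finite G] in
theorem primes_kappa_not_sigma {M K : Subgroup G} (hK : IsPiHallOf (kappa M) K M) :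
    ∀ p : ℕ, p.Prime → p ∣ Nat.card K → p ∉ sigma M :=
  fun p hp hd => (hK.2.1 p hp hd).2.2.1

theorem coprime_card_kst {M K : Subgroup G} (hK : IsPiHallOf (kappa M) K M) :
    (Nat.card (kst M K)).Coprime (Nat.card K) :=
  coprime_card_of_sigma inf_le_left (primes_kappa_not_sigma hK)

theorem coprime_orderOf {M K : Subgroup G} (hK : IsPiHallOf (kappa M) K M) {x y : G} (hx : x ∈ K)
    (hy : y ∈ kst M K) : (orderOf x).Coprime (orderOf y) := by
  have h1 : orderOf x ∣ Nat.card K := by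
    have := orderOf_dvd_natCard (⟨x, hx⟩ : K)
    rwa [Subgroup.orderOf_mk] at this
  have h2 : orderOf y ∣ Nat.card (kst M K) := by
    have := orderOf_dvd_natCard (⟨y, hy⟩ : kst M K)
    rwa [Subgroup.orderOf_mk] at this
  exact ((coprime_card_kst hK).symm.coprime_dvd_left h1).coprime_dvd_right h2

theorem inf_kst_eq_bot {M K : Subgroup G} (hK : IsPiHallOf (kappa M) K M) : K ⊓ kst M K = ⊥ := by
  rw [eq_bot_iff]
  intro z hz
  rw [Subgroup.mem_bot]
  have h := coprime_orderOf hK (Subgroup.mem_inf.mp hz).1 (Subgroup.mem_inf.mp hz).2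
  rw [Nat.coprime_self] at h
  exact orderOf_eq_one_iff.mp h

/-- `C_M(x) = K K*` for `x ∈ K^#` (from S1430) -/
theorem cent_eq (h30 : H1430 G) {M K : Subgroup G} (hM : IsCoatom M)
    (hK : IsPiHallOf (kappa M) K M) (hK1 : K ≠ ⊥) (hKc : ∀ a ∈ K, ∀ b ∈ K, a * b = b * a)
    {x : G} (hx : x ∈ K) (hx1 : x ≠ 1) :
    M ⊓ centralizer ({x} : Set G) = K ⊔ kst M K := by
  apply le_antisymm
  · obtain ⟨X, hXx, hXp⟩ := exists_prime_le_zpowers hx1
    have hXK : X ≤ K := hXx.trans (by rw [zpowers_le]; exact hx)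
    have h := ((h30 M hM K hK hK1).2.2 X hXK hXp).1
    rw [← h]
    intro c hc
    obtain ⟨hcM, hcx⟩ := Subgroup.mem_inf.mp hc
    refine Subgroup.mem_inf.mpr ⟨hcM, ?_⟩
    apply Subgroup.centralizer_le_normalizer
    rw [mem_centralizer_iff]
    intro y hy
    obtain ⟨n, rfl⟩ := mem_zpowers_iff.mp (hXx hy)
    have h1 : Commute c x := (mem_centralizer_singleton_iff.mp hcx)
    exact ((h1.zpow_right n).eq).symm
  · apply sup_le
    · intro k hk
      refine Subgroup.mem_inf.mpr ⟨hK.1 hk, ?_⟩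
      rw [mem_centralizer_singleton_iff]
      exact hKc k hk x hx
    · intro k hk
      refine Subgroup.mem_inf.mpr ⟨kst_le M K hk, ?_⟩
      rw [mem_centralizer_singleton_iff]
      exact (kst_comm x hx k hk).symm

omit [Finite G] in
/-- `C_G(y) ≤ M` for `y ∈ K*^#` (from S1431) -/
theorem centralizer_le_of_mem_kst (h31 : H1431 G) {M K : Subgroup G} (hM : IsCoatom M)
    (hK : IsPiHallOf (kappa M) K M) (hK1 : K ≠ ⊥) {y : G} (hy : y ∈ kst M K) (hy1 : y ≠ 1) :
    centralizer ({y} : Set G) ≤ M := by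
  intro c hc
  by_contra hcM
  have h := (h31 M hM K hK hK1).1 c hcM
  have hyc : y ∈ cj c M := by
    rw [mem_cj]
    have h1 : c * y = y * c := mem_centralizer_singleton_iff.mp hc
    have : c⁻¹ * y * c = y := by
      calc c⁻¹ * y * c = c⁻¹ * (y * c) := by group
        _ = c⁻¹ * (c * y) := by rw [h1]
        _ = y := by group
    rw [this]
    exact kst_le M K hy
  have : y ∈ (⊥ : Subgroup G) := by
    rw [← h]
    exact Subgroup.mem_inf.mpr ⟨hy, hyc⟩
  exact hy1 (Subgroup.mem_bot.mp this)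

/-- `K* ≠ 1` (from S1430 and the definition of `κ`) -/
theorem kst_ne_bot (h30 : H1430 G) {M K : Subgroup G} (hM : IsCoatom M)
    (hK : IsPiHallOf (kappa M) K M) (hK1 : K ≠ ⊥) : kst M K ≠ ⊥ := by
  have hc1 : Nat.card K ≠ 1 := fun h => hK1 (Subgroup.card_eq_one.mp h)
  obtain ⟨p, hp, hpK⟩ := Nat.exists_prime_and_dvd hc1
  have : Fact p.Prime := ⟨hp⟩
  have hpκ : p ∈ kappa M := hK.2.1 p hp hpK
  obtain ⟨P⟩ : Nonempty (Sylow p M) := inferInstance
  obtain ⟨-, x, hxP, hx1, y, hyσ, hy1, hxy⟩ := hpκ.2.2.2 P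
  -- conjugate `x` into `K` inside `M`
  have hidx : ¬ p ∣ (K.subgroupOf M).index := hK.2.2 p hp hpκ
  have hxp : IsPGroup p (zpowers x) := P.2.to_le (by rw [zpowers_le]; exact hxP)
  obtain ⟨m, hm⟩ := Cfsg.Agent.S3878.exists_conj_mem_of_not_dvd_index (K.subgroupOf M) hidx x hxp
  rw [mem_subgroupOf] at hm
  -- x' = m⁻¹ x m ∈ K, y' = m⁻¹ y m ∈ M_σ
  set x' : G := ((m⁻¹ * x * m : M) : G) with hx'
  have hx'1 : x' ≠ 1 := by
    intro h
    apply hx1
    have h2 : m⁻¹ * x * m = 1 := Subtype.ext h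
    calc x = m * (m⁻¹ * x * m) * m⁻¹ := by group
      _ = 1 := by rw [h2]; group
  have hminv : ((m : G))⁻¹ ∈ normalizer ((sigmaCore M : Subgroup G) : Set G) :=
    le_normalizer_sigmaCore M (inv_mem m.2)
  have hy' : (m : G)⁻¹ * y * ((m : G)⁻¹)⁻¹ ∈ sigmaCore M := (mem_normalizer_iff.mp hminv y).mp hyσ
  have hcomm : (m : G)⁻¹ * y * ((m : G)⁻¹)⁻¹ ∈ centralizer ({x'} : Set G) := by
    rw [mem_centralizer_singleton_iff, hx']
    push_cast
    calc (m : G)⁻¹ * y * ((m : G)⁻¹)⁻¹ * ((m : G)⁻¹ * x * m) = (m : G)⁻¹ * (y * x) * m := by group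
      _ = (m : G)⁻¹ * (x * y) * m := by rw [hxy]
      _ = (m : G)⁻¹ * x * m * ((m : G)⁻¹ * y * ((m : G)⁻¹)⁻¹) := by group
  have hmem : (m : G)⁻¹ * y * ((m : G)⁻¹)⁻¹ ∈ sigmaCore M ⊓ centralizer ({x'} : Set G) :=
    Subgroup.mem_inf.mpr ⟨hy', hcomm⟩
  rw [(h30 M hM K hK hK1).1 x' hm hx'1] at hmem
  intro hbot
  change _ ∈ kst M K at hmem
  rw [hbot, Subgroup.mem_bot] at hmem
  apply hy1
  calc y = (m : G) * ((m : G)⁻¹ * y * ((m : G)⁻¹)⁻¹) * (m : G)⁻¹ := by group
    _ = 1 := by rw [hmem]; group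


/-! ### `κ(M) = τ₁(M)` -/

theorem isPiHallOf_cj {π : Set ℕ} {M K : Subgroup G} (hK : IsPiHallOf π K M) {m : G} (hm : m ∈ M) :
    IsPiHallOf π (cj m K) M := by
  rw [Cfsg.Agent.Lib.Helper24_CoprimeHall.isPiHallOf_iff] at hK ⊢
  exact hK.map_conj m (le_normalizer hm)

omit [Finite G] in
theorem comm_cj {K : Subgroup G} (hKc : ∀ a ∈ K, ∀ b ∈ K, a * b = b * a) (m : G) :
    ∀ a ∈ cj m K, ∀ b ∈ cj m K, a * b = b * a := by
  intro a ha b hb
  rw [mem_cj] at ha hb
  have := hKc _ ha _ hb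
  calc a * b = m * ((m⁻¹ * a * m) * (m⁻¹ * b * m)) * m⁻¹ := by group
    _ = m * ((m⁻¹ * b * m) * (m⁻¹ * a * m)) * m⁻¹ := by rw [this]
    _ = b * a := by group

/-- a `p`-element (`p ∉ σ(M)`) of `K K*` lies in `K` -/
theorem mem_of_mem_sup_of_isPGroup {M K : Subgroup G} (hK : IsPiHallOf (kappa M) K M) {p : ℕ} (hp : p.Prime)
    (hpσ : p ∉ sigma M) {g : G} (hg : g ∈ K ⊔ kst M K) (hgp : ∃ n : ℕ, g ^ p ^ n = 1) : g ∈ K := by
  obtain ⟨k, hk, s, hs, rfl⟩ := exists_mul_of_mem_sup_comm kst_comm hg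
  have hc : Commute k s := kst_comm k hk s hs
  obtain ⟨n, hn⟩ := exists_pow_mul_eq_right hc (coprime_orderOf hK hk hs)
  obtain ⟨e, he⟩ := hgp
  have hs1 : s ^ p ^ e = 1 := by rw [← hn, ← pow_mul, mul_comm, pow_mul, he, one_pow]
  have hs' : s = 1 := by
    by_contra hne
    have ho1 : orderOf s ≠ 1 := fun h => hne (orderOf_eq_one_iff.mp h)
    obtain ⟨q, hq, hqs⟩ := Nat.exists_prime_and_dvd ho1
    have hqp : q ∣ p ^ e := hqs.trans (orderOf_dvd_of_pow_eq_one hs1)
    have hqp' : q = p := (Nat.prime_dvd_prime_iff_eq hq hp).mp (hq.dvd_of_dvd_pow hqp)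
    have h2 : orderOf s ∣ Nat.card (kst M K) := by
      have := orderOf_dvd_natCard (⟨s, hs⟩ : kst M K)
      rwa [Subgroup.orderOf_mk] at this
    have h3 : p ∣ Nat.card (sigmaCore M) :=
      (hqp' ▸ hqs).trans (h2.trans (Subgroup.card_dvd_of_le inf_le_left))
    exact hpσ (Cfsg.Agent.Lib.Helper70_BG1012.card_sigmaCore_mem M p hp h3)
  rw [hs', mul_one]
  exact hk

theorem kappa_subset_tau1 (h30 : H1430 G) {M K : Subgroup G} (hM : IsCoatom M)
    (hK : IsPiHallOf (kappa M) K M) (hK1 : K ≠ ⊥) (hKc : ∀ a ∈ K, ∀ b ∈ K, a * b = b * a) :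
    kappa M ⊆ tau1 M := by
  intro p hpκ
  have hp : p.Prime := hpκ.1
  have : Fact p.Prime := ⟨hp⟩
  refine ⟨hp, hpκ.2.2.1, hpκ.2.1, ?_, ?_⟩
  · -- Burnside
    obtain ⟨P⟩ : Nonempty (Sylow p M) := inferInstance
    have hPne : (P : Subgroup M) ≠ ⊥ := by
      intro h
      have h1 := P.not_dvd_index
      have h2 : (P : Subgroup M).index = Nat.card M := by rw [h, Subgroup.index_bot]
      rw [h2] at h1
      exact h1 hpκ.2.1
    -- an element of order p in P
    have hPcard : p ∣ Nat.card (P : Subgroup M) := by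
      obtain ⟨n, hn⟩ := IsPGroup.iff_card.mp P.2
      have hn0 : n ≠ 0 := by
        rintro rfl
        rw [pow_zero] at hn
        exact hPne (Subgroup.card_eq_one.mp hn)
      rw [hn]; exact dvd_pow_self p hn0
    obtain ⟨x, hx⟩ := exists_prime_orderOf_dvd_card' p hPcard
    have hxM1 : (x : M) ≠ 1 := by
      intro h
      have : x = 1 := Subtype.ext h
      rw [this, orderOf_one] at hx
      exact hp.one_lt.ne hx
    -- conjugate into K
    have hidx : ¬ p ∣ (K.subgroupOf M).index := hK.2.2 p hp hpκ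
    have hxp : IsPGroup p (zpowers (x : M)) := P.2.to_le (by rw [zpowers_le]; exact x.2)
    obtain ⟨m, hm⟩ := Cfsg.Agent.S3878.exists_conj_mem_of_not_dvd_index (K.subgroupOf M) hidx (x : M) hxp
    rw [mem_subgroupOf] at hm
    -- K' = m K m⁻¹ contains x
    have hK' : IsPiHallOf (kappa M) (cj (m : G) K) M := isPiHallOf_cj hK m.2
    have hK'1 : cj (m : G) K ≠ ⊥ := Cfsg.Agent.Lib.Helper22_BGTrans.cj_ne_bot hK1
    have hK'c := comm_cj hKc (m : G)
    have hxK' : ((x : M) : G) ∈ cj (m : G) K := by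
      rw [mem_cj]
      exact_mod_cast hm
    have hxG1 : ((x : M) : G) ≠ 1 := fun h => hxM1 (Subtype.ext h)
    -- X = ⟨x⟩ has prime order
    have hXcard : (Nat.card (zpowers ((x : M) : G))).Prime := by
      rw [Nat.card_zpowers, Subgroup.orderOf_coe, Subgroup.orderOf_coe, hx]; exact hp
    have hXK' : zpowers ((x : M) : G) ≤ cj (m : G) K := by rw [zpowers_le]; exact hxK'
    have hN := ((h30 M hM _ hK' hK'1).2.2 _ hXK' hXcard).1
    -- P cyclic
    have hPcyc : IsCyclic (P : Subgroup M) := (hpκ.2.2.2 P).1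
    have hPcomm : ∀ a ∈ (P : Subgroup M), ∀ b ∈ (P : Subgroup M), a * b = b * a := by
      intro a ha b hb
      have := (IsCyclic.commGroup (α := (P : Subgroup M))).mul_comm ⟨a, ha⟩ ⟨b, hb⟩
      exact congrArg Subtype.val this
    -- P ≤ K'
    have hPK' : ∀ g ∈ (P : Subgroup M), (g : G) ∈ cj (m : G) K := by
      intro g hg
      have hgN : (g : G) ∈ M ⊓ normalizer ((zpowers ((x : M) : G) : Subgroup G) : Set G) := by
        refine Subgroup.mem_inf.mpr ⟨g.2, ?_⟩
        apply Subgroup.centralizer_le_normalizer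
        rw [mem_centralizer_iff]
        intro y hy
        obtain ⟨n, rfl⟩ := mem_zpowers_iff.mp hy
        have h1 : Commute (g : G) ((x : M) : G) := by
          have := hPcomm g hg (x : M) x.2
          exact congrArg Subtype.val this
        exact ((h1.zpow_right n).eq).symm
      rw [hN] at hgN
      refine mem_of_mem_sup_of_isPGroup hK' hp hpκ.2.2.1 hgN ?_
      obtain ⟨n, hn⟩ := P.2 ⟨g, hg⟩
      refine ⟨n, ?_⟩
      have : (g : M) ^ p ^ n = 1 := congrArg Subtype.val hn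
      exact_mod_cast congrArg Subtype.val this
    -- N_M(P) ≤ C_M(P)
    have hNC : normalizer ((P : Subgroup M) : Set M) ≤ centralizer ((P : Subgroup M) : Set M) := by
      intro n hn
      -- n normalizes ⟨x⟩ since it is the unique subgroup of order p of the cyclic group P
      have hnx : n * (x : M) * n⁻¹ ∈ zpowers (x : M) := by
        have h1 : n * (x : M) * n⁻¹ ∈ (P : Subgroup M) := (mem_normalizer_iff.mp hn (x : M)).mp x.2
        have h2 : orderOf (n * (x : M) * n⁻¹) = p := by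
          have hsc : SemiconjBy n (x : M) (n * (x : M) * n⁻¹) := by
            unfold SemiconjBy; group
          rw [← hsc.orderOf_eq, Subgroup.orderOf_coe, hx]
        -- in a cyclic group, elements of the same order generate the same subgroup
        have h3 : zpowers (⟨n * (x : M) * n⁻¹, h1⟩ : (P : Subgroup M)) = zpowers x := by
          apply Cfsg.Agent.S4344.cyclic_subgroup_unique
          rw [Nat.card_zpowers, Nat.card_zpowers, Subgroup.orderOf_mk, h2, hx]
        have h4 : (⟨n * (x : M) * n⁻¹, h1⟩ : (P : Subgroup M)) ∈ zpowers x := by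
          rw [← h3]; exact mem_zpowers _
        obtain ⟨e, he⟩ := mem_zpowers_iff.mp h4
        rw [mem_zpowers_iff]
        refine ⟨e, ?_⟩
        have := congrArg Subtype.val he
        simpa using this
      have hnN : (n : G) ∈ M ⊓ normalizer ((zpowers ((x : M) : G) : Subgroup G) : Set G) := by
        refine Subgroup.mem_inf.mpr ⟨n.2, ?_⟩
        rw [mem_normalizer_iff]
        have hfin : ∀ y ∈ zpowers ((x : M) : G), (n : G) * y * (n : G)⁻¹ ∈ zpowers ((x : M) : G) := by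
          intro y hy
          obtain ⟨e, rfl⟩ := mem_zpowers_iff.mp hy
          obtain ⟨f, hf⟩ := mem_zpowers_iff.mp hnx
          have h5 : (n : G) * ((x : M) : G) * (n : G)⁻¹ = ((x : M) : G) ^ f := by
            have := congrArg Subtype.val hf
            push_cast at this
            exact this.symm
          have h6 : (n : G) * ((x : M) : G) ^ e * (n : G)⁻¹ = ((n : G) * ((x : M) : G) * (n : G)⁻¹) ^ e := by
            rw [conj_zpow]
          rw [h6, h5, ← zpow_mul]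
          exact zpow_mem (mem_zpowers _) _
        intro y
        constructor
        · exact hfin y
        · intro hy
          -- finite: conjugation is injective on the finite set zpowers
          have hinj : Function.Injective (fun y : zpowers ((x : M) : G) =>
              (⟨(n : G) * y * (n : G)⁻¹, hfin y y.2⟩ : zpowers ((x : M) : G))) := by
            intro a b hab
            have := congrArg Subtype.val hab
            simp only [mul_left_inj, mul_right_inj] at this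
            exact Subtype.ext this
          obtain ⟨w, hw⟩ := Finite.surjective_of_injective hinj ⟨_, hy⟩
          have hw' : (n : G) * w * (n : G)⁻¹ = (n : G) * y * (n : G)⁻¹ := congrArg Subtype.val hw
          have : (w : G) = y := by simpa using hw'
          rw [← this]; exact w.2
      rw [hN] at hnN
      obtain ⟨k, hk, s, hs, hks⟩ := exists_mul_of_mem_sup_comm kst_comm hnN
      rw [mem_centralizer_iff]
      intro g hg
      apply Subtype.ext
      push_cast
      have hgK' := hPK' g hg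
      rw [hks]
      calc (g : G) * (k * s) = ((g : G) * k) * s := by group
        _ = (k * (g : G)) * s := by rw [hK'c _ hgK' k hk]
        _ = k * ((g : G) * s) := by group
        _ = k * (s * (g : G)) := by rw [kst_comm _ hgK' s hs]
        _ = k * s * (g : G) := by group
    have hB := not_dvd_card_commutator_of_burnside P hNC
    rw [← Subgroup.map_subtype_commutator, Subgroup.card_map_of_injective M.subtype_injective]
    exact hB
  · -- rank one
    intro A hAc hAp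
    have hAP : IsPGroup p A := by
      intro a
      refine ⟨1, ?_⟩
      rw [pow_one]
      exact Subtype.ext (hAp a a.2)
    obtain ⟨P, hAP'⟩ := hAP.exists_le_sylow
    have hPcyc : IsCyclic (P : Subgroup M) := (hpκ.2.2.2 P).1
    have hAcyc : IsCyclic A := by
      have : IsCyclic (A.subgroupOf (P : Subgroup M)) := Subgroup.isCyclic _
      exact isCyclic_of_surjective _ (Subgroup.subgroupOfEquivOfLe hAP').surjective
    obtain ⟨a, ha⟩ := hAcyc.exists_generator
    have h1 : Nat.card A = orderOf a := by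
      rw [← Nat.card_zpowers]
      have : zpowers a = ⊤ := by
        rw [eq_top_iff]; intro b _; exact ha b
      rw [this, Subgroup.card_top]
    rw [h1, pow_one]
    apply Nat.le_of_dvd hp.pos
    apply orderOf_dvd_of_pow_eq_one
    exact Subtype.ext (hAp a a.2)

theorem tau1_subset_kappa (h30 : H1430 G) {M K : Subgroup G} (hM : IsCoatom M)
    (hK : IsPiHallOf (kappa M) K M) (hK1 : K ≠ ⊥) : tau1 M ⊆ kappa M := by
  intro p hpτ
  by_contra hpκ
  obtain ⟨hp, hpσ, hpM, hpM', -⟩ := hpτ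
  obtain ⟨U₀, -, hU₀H, hKU₀, hU₀fix⟩ := (h30 M hM K hK hK1).2.1
  -- p divides |U₀|
  have hpU : p ∣ Nat.card U₀ := by
    have h1 : ¬ p ∣ U₀.relIndex M := hU₀H.2.2 p hp ⟨hp, hpκ, hpσ⟩
    have h2 : U₀.relIndex M * Nat.card U₀ = Nat.card M := by
      rw [Subgroup.relIndex, ← Cfsg.Agent.Lib.Helper24_CoprimeAction.card_subgroupOf_of_le hU₀H.1]
      exact Subgroup.index_mul_card _
    rw [← h2] at hpM
    exact (hp.dvd_mul.mp hpM).resolve_left h1
  -- a nonidentity element of K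
  obtain ⟨k, hk, hk1⟩ : ∃ k ∈ K, k ≠ 1 := by
    by_contra h
    push Not at h
    exact hK1 ((Subgroup.eq_bot_iff_forall K).mpr h)
  have hU₀M' : U₀ ≤ ⁅M, M⁆ := by
    intro u hu
    obtain ⟨v, hv, rfl⟩ := mem_commutator_of_fpf (hKU₀ hk) (hU₀fix k hk hk1) u hu
    have : v⁻¹ * (k * v * k⁻¹) = ⁅v⁻¹, k⁆ := by rw [commutatorElement_def]; group
    rw [this]
    exact Subgroup.commutator_mem_commutator (inv_mem (hU₀H.1 hv)) (hK.1 hk)
  exact hpM' (hpU.trans (Subgroup.card_dvd_of_le hU₀M'))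


/-! ### the pair `(M, M*)` -/

section Pair

variable (hG : IsMinSimpleOddOrder G) (h30 : H1430 G) (h31 : H1431 G) (h51 : H1351 G) (hSD : SigmaDisj G)
  {M K Mstar : Subgroup G} (hM : IsCoatom M) (hK : IsPiHallOf (kappa M) K M) (hK1 : K ≠ ⊥)
  (hMstar : IsCoatom Mstar)
  (hKst : K = sigmaCore Mstar ⊓ centralizer ((sigmaCore M ⊓ centralizer (K : Set G) : Subgroup G) : Set G))
  (hKstH : IsPiHallOf (kappa Mstar) (sigmaCore M ⊓ centralizer (K : Set G)) Mstar)

include hKst in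
omit [Finite G] in
theorem le_sigmaCore_star : K ≤ sigmaCore Mstar := by
  intro k hk
  rw [hKst] at hk
  exact (Subgroup.mem_inf.mp hk).1

include hK hK1 hKst in
/-- `M*` is not conjugate to `M` -/
theorem not_conj (g : G) : Mstar ≠ cj g M := by
  intro h
  have hc1 : Nat.card K ≠ 1 := fun h => hK1 (Subgroup.card_eq_one.mp h)
  obtain ⟨p, hp, hpK⟩ := Nat.exists_prime_and_dvd hc1
  have h1 : p ∈ sigma Mstar :=
    Cfsg.Agent.Lib.Helper70_BG1012.card_sigmaCore_mem Mstar p hp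
      (hpK.trans (Subgroup.card_dvd_of_le (le_sigmaCore_star hKst)))
  rw [h, sigma_cj] at h1
  exact primes_kappa_not_sigma hK p hp hpK h1

include hSD hM hMstar hK hK1 hKst in
theorem sigmaCore_inf_sigmaCore : sigmaCore M ⊓ sigmaCore Mstar = ⊥ := by
  refine (Subgroup.disjoint_of_coprime_natCard ?_).eq_bot
  apply Nat.coprime_of_dvd
  intro p hp h1 h2
  have hp1 := Cfsg.Agent.Lib.Helper70_BG1012.card_sigmaCore_mem M p hp h1
  have hp2 := Cfsg.Agent.Lib.Helper70_BG1012.card_sigmaCore_mem Mstar p hp h2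
  obtain ⟨g, hg⟩ := hSD M Mstar hM hMstar ⟨p, hp1, hp2⟩
  exact not_conj hK hK1 hKst g hg

include hG hSD h31 h30 hM hMstar hK hK1 hKst hKstH in
/-- `K*` is a Hall `σ(M)`-subgroup of `M*` -/
theorem kst_hall : IsPiHallOf (sigma M) (sigmaCore M ⊓ centralizer (K : Set G)) Mstar := by
  have hsolv : Group.IsSolvable Mstar := hG.2.2.2 Mstar hMstar.1
  have hKsπ : ∀ p : ℕ, p.Prime → p ∣ Nat.card (kst M K) → p ∈ sigma M := fun p hp hd =>
    Cfsg.Agent.Lib.Helper70_BG1012.card_sigmaCore_mem M p hp (hd.trans (Subgroup.card_dvd_of_le inf_le_left))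
  obtain ⟨Y, hY, hKsY⟩ := Cfsg.Agent.Lib.Helper24_CoprimeHall.exists_piHall_ge hsolv hKstH.1 hKsπ
  have hYσ : Y ≤ sigmaCore M := by
    apply (h31 M hM K hK hK1).2.2.2 Y hY.2.1
    rw [inf_eq_right.mpr hKsY]
    exact kst_ne_bot h30 hM hK hK1
  have hYle : Y ≤ kst M K := by
    intro y hy
    refine Subgroup.mem_inf.mpr ⟨hYσ hy, ?_⟩
    rw [mem_centralizer_iff]
    intro k hk
    -- the commutator lies in M_σ ∩ M*_σ = 1
    have hkM : k ∈ M := hK.1 hk
    have hkσ : k ∈ sigmaCore Mstar := le_sigmaCore_star hKst hk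
    have hyM : y ∈ Mstar := hY.1 hy
    have h1 : y * k * y⁻¹ * k⁻¹ ∈ sigmaCore M := by
      have hn : k ∈ normalizer ((sigmaCore M : Subgroup G) : Set G) := le_normalizer_sigmaCore M hkM
      have := (mem_normalizer_iff.mp hn y⁻¹).mp (inv_mem (hYσ hy))
      have e : y * k * y⁻¹ * k⁻¹ = y * (k * y⁻¹ * k⁻¹) := by group
      rw [e]
      exact mul_mem (hYσ hy) this
    have h2 : y * k * y⁻¹ * k⁻¹ ∈ sigmaCore Mstar := by
      have hn : y ∈ normalizer ((sigmaCore Mstar : Subgroup G) : Set G) := le_normalizer_sigmaCore Mstar hyM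
      have := (mem_normalizer_iff.mp hn k).mp hkσ
      exact mul_mem this (inv_mem hkσ)
    have h3 : y * k * y⁻¹ * k⁻¹ ∈ sigmaCore M ⊓ sigmaCore Mstar := Subgroup.mem_inf.mpr ⟨h1, h2⟩
    rw [sigmaCore_inf_sigmaCore hSD hM hK hK1 hMstar hKst, Subgroup.mem_bot] at h3
    calc k * y = (y * k * y⁻¹ * k⁻¹)⁻¹ * (y * k) := by group
      _ = y * k := by rw [h3]; group
  have hYeq : Y = kst M K := le_antisymm hYle hKsY
  rw [Cfsg.Agent.Lib.Helper24_CoprimeHall.isPiHallOf_iff]
  rw [hYeq] at hY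
  exact hY


include h51 hMstar hKstH in
omit [Finite G] in
theorem kst_abelian : ∀ a ∈ kst M K, ∀ b ∈ kst M K, a * b = b * a := by
  have hc : IsCyclic (kst M K) := h51 Mstar hMstar _ hKstH
  intro a ha b hb
  have := (IsCyclic.commGroup (α := kst M K)).mul_comm ⟨a, ha⟩ ⟨b, hb⟩
  exact congrArg Subtype.val this

include h30 hMstar hKst hKstH hM hK hK1 in
/-- `C_{M*}(y) = K K*` for `y ∈ K*^#` -/
theorem cent_star_eq (hKsc : ∀ a ∈ kst M K, ∀ b ∈ kst M K, a * b = b * a) {y : G} (hy : y ∈ kst M K)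
    (hy1 : y ≠ 1) : Mstar ⊓ centralizer ({y} : Set G) = K ⊔ kst M K := by
  have h := cent_eq h30 hMstar hKstH (kst_ne_bot h30 hM hK hK1) hKsc hy hy1
  rw [h, sup_comm]
  congr 1
  exact hKst.symm

include h30 h31 hM hK hK1 in
/-- `C_G(xy) = K K*` -/
theorem cent_mul_eq (hKc : ∀ a ∈ K, ∀ b ∈ K, a * b = b * a)
    (hKsc : ∀ a ∈ kst M K, ∀ b ∈ kst M K, a * b = b * a) {x y : G} (hx : x ∈ K) (hx1 : x ≠ 1)
    (hy : y ∈ kst M K) (hy1 : y ≠ 1) : centralizer ({x * y} : Set G) = K ⊔ kst M K := by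
  have hc : Commute x y := kst_comm x hx y hy
  have hcop := coprime_orderOf hK hx hy
  apply le_antisymm
  · intro c hc'
    have hcxy : Commute c (x * y) := mem_centralizer_singleton_iff.mp hc'
    obtain ⟨n, hn⟩ := exists_pow_mul_eq_left hc hcop
    obtain ⟨n', hn'⟩ := exists_pow_mul_eq_right hc hcop
    have hcx : Commute c x := by rw [← hn]; exact hcxy.pow_right n
    have hcy : Commute c y := by rw [← hn']; exact hcxy.pow_right n'
    have hcM : c ∈ M :=
      centralizer_le_of_mem_kst h31 hM hK hK1 hy hy1 (mem_centralizer_singleton_iff.mpr hcy.eq)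
    rw [← cent_eq h30 hM hK hK1 hKc hx hx1]
    exact Subgroup.mem_inf.mpr ⟨hcM, mem_centralizer_singleton_iff.mpr hcx.eq⟩
  · intro c hc'
    rw [mem_centralizer_singleton_iff]
    exact sup_comm_of_comm hKc hKsc kst_comm c hc' (x * y)
      (mul_mem (Subgroup.mem_sup_left hx) (Subgroup.mem_sup_right hy))

/-- the set `Ẑ` -/
abbrev zhat (M K : Subgroup G) : Set G :=
  (↑(K ⊔ kst M K) : Set G) \ ((K : Set G) ∪ ↑(kst M K))

omit [Finite G] in
theorem zhat_decomp {z : G} (hz : z ∈ zhat M K) :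
    ∃ x ∈ K, ∃ y ∈ kst M K, z = x * y ∧ x ≠ 1 ∧ y ≠ 1 := by
  obtain ⟨hz1, hz2⟩ := hz
  obtain ⟨x, hx, y, hy, rfl⟩ := exists_mul_of_mem_sup_comm kst_comm hz1
  refine ⟨x, hx, y, hy, rfl, ?_, ?_⟩
  · rintro rfl
    apply hz2
    right
    rw [one_mul]; exact hy
  · rintro rfl
    apply hz2
    left
    rw [mul_one]; exact hx

include hK in
/-- a power of `z = xy ∈ Ẑ` is a nonidentity element of `K*` -/
theorem zhat_pow_card {x y : G} (hx : x ∈ K) (hy : y ∈ kst M K) (hy1 : y ≠ 1) :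
    (x * y) ^ Nat.card K = y ^ Nat.card K ∧ y ^ Nat.card K ∈ kst M K ∧ y ^ Nat.card K ≠ 1 := by
  have hc : Commute x y := kst_comm x hx y hy
  refine ⟨?_, Subgroup.pow_mem _ hy _, ?_⟩
  · rw [hc.mul_pow]
    have : x ^ Nat.card K = 1 := by
      have := pow_card_eq_one' (G := K) (x := ⟨x, hx⟩)
      exact congrArg Subtype.val this
    rw [this, one_mul]
  · intro h
    have h1 : orderOf y ∣ Nat.card K := orderOf_dvd_of_pow_eq_one h
    have h2 : orderOf y ∣ Nat.card (kst M K) := by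
      have := orderOf_dvd_natCard (⟨y, hy⟩ : kst M K)
      rwa [Subgroup.orderOf_mk] at this
    have h3 : orderOf y = 1 := Nat.eq_one_of_dvd_coprimes (coprime_card_kst hK) h2 h1
    exact hy1 (orderOf_eq_one_iff.mp h3)

include hK in
theorem zhat_pow_card' {x y : G} (hx : x ∈ K) (hx1 : x ≠ 1) (hy : y ∈ kst M K) :
    (x * y) ^ Nat.card (kst M K) = x ^ Nat.card (kst M K) ∧ x ^ Nat.card (kst M K) ∈ K ∧
      x ^ Nat.card (kst M K) ≠ 1 := by
  have hc : Commute x y := kst_comm x hx y hy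
  refine ⟨?_, Subgroup.pow_mem _ hx _, ?_⟩
  · rw [hc.mul_pow]
    have : y ^ Nat.card (kst M K) = 1 := by
      have := pow_card_eq_one' (G := kst M K) (x := ⟨y, hy⟩)
      exact congrArg Subtype.val this
    rw [this, mul_one]
  · intro h
    have h1 : orderOf x ∣ Nat.card (kst M K) := orderOf_dvd_of_pow_eq_one h
    have h2 : orderOf x ∣ Nat.card K := by
      have := orderOf_dvd_natCard (⟨x, hx⟩ : K)
      rwa [Subgroup.orderOf_mk] at this
    have h3 : orderOf x = 1 := Nat.eq_one_of_dvd_coprimes (coprime_card_kst hK) h1 h2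
    exact hx1 (orderOf_eq_one_iff.mp h3)

include h31 hM hK hK1 in
/-- `Ẑ` misses `gMg⁻¹` for `g ∉ M` -/
theorem zhat_not_mem_cj {g : G} (hg : g ∉ M) {z : G} (hz : z ∈ zhat M K) : z ∉ cj g M := by
  intro hzg
  obtain ⟨x, hx, y, hy, rfl, -, hy1⟩ := zhat_decomp hz
  obtain ⟨h1, h2, h3⟩ := zhat_pow_card hK hx hy hy1
  have h4 : y ^ Nat.card K ∈ kst M K ⊓ cj g M := by
    refine Subgroup.mem_inf.mpr ⟨h2, ?_⟩
    rw [← h1]
    exact Subgroup.pow_mem _ hzg _
  rw [(h31 M hM K hK hK1).1 g hg, Subgroup.mem_bot] at h4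
  exact h3 h4

include h31 hM hK hK1 in
/-- `Ẑ` is a TI-set with normalizer `K K*` -/
theorem zhat_ti {g : G} {z : G} (hz : z ∈ zhat M K) (hgz : g * z * g⁻¹ ∈ zhat M K) : g ∈ K ⊔ kst M K := by
  obtain ⟨x, hx, y, hy, rfl, hx1, hy1⟩ := zhat_decomp hz
  obtain ⟨x', hx', y', hy', hz', hx'1, hy'1⟩ := zhat_decomp hgz
  -- g ∈ M
  have hgM : g ∈ M := by
    by_contra hgM
    obtain ⟨h1, h2, h3⟩ := zhat_pow_card hK hx' hy' hy'1
    obtain ⟨h1', h2', -⟩ := zhat_pow_card hK hx hy hy1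
    have h4 : y' ^ Nat.card K ∈ kst M K ⊓ cj g M := by
      refine Subgroup.mem_inf.mpr ⟨h2, ?_⟩
      rw [← h1, ← hz', conj_pow, h1', mem_cj]
      have : g⁻¹ * (g * y ^ Nat.card K * g⁻¹) * g = y ^ Nat.card K := by group
      rw [this]
      exact kst_le M K h2'
    rw [(h31 M hM K hK hK1).1 g hgM, Subgroup.mem_bot] at h4
    exact h3 h4
  by_contra hgZ
  obtain ⟨h1, h2, h3⟩ := zhat_pow_card' hK hx' hx'1 hy'
  obtain ⟨h1', h2', -⟩ := zhat_pow_card' hK hx hx1 hy
  have h4 : x' ^ Nat.card (kst M K) ∈ K ⊓ cj g K := by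
    refine Subgroup.mem_inf.mpr ⟨h2, ?_⟩
    rw [← h1, ← hz', conj_pow, h1', mem_cj]
    have : g⁻¹ * (g * x ^ Nat.card (kst M K) * g⁻¹) * g = x ^ Nat.card (kst M K) := by group
    rw [this]
    exact h2'
  rw [(h31 M hM K hK hK1).2.1 g hgM hgZ, Subgroup.mem_bot] at h4
  exact h3 h4

omit [Finite G] in
theorem zhat_inv (hKc : ∀ a ∈ K, ∀ b ∈ K, a * b = b * a)
    (hKsc : ∀ a ∈ kst M K, ∀ b ∈ kst M K, a * b = b * a) {g : G} (hg : g ∈ K ⊔ kst M K) {z : G}
    (hz : z ∈ zhat M K) : g * z * g⁻¹ ∈ zhat M K := by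
  have : g * z * g⁻¹ = z := by
    rw [sup_comm_of_comm hKc hKsc kst_comm g hg z hz.1]; group
  rw [this]; exact hz

include hK in
theorem card_sup_kst : Nat.card ↥(K ⊔ kst M K) = Nat.card K * Nat.card (kst M K) := by
  have h1 : kst M K ≤ normalizer (K : Set G) := by
    intro b hb
    apply Subgroup.centralizer_le_normalizer
    exact (Subgroup.mem_inf.mp hb).2
  exact Cfsg.Agent.Lib.Helper24_CoprimeHall.card_sup_of_disjoint' (kst M K) K h1 (inf_kst_eq_bot hK)

include hK in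
theorem ncard_zhat : (zhat M K).ncard + (Nat.card K + Nat.card (kst M K)) =
    Nat.card K * Nat.card (kst M K) + 1 := by
  classical
  have hsub : ((K : Set G) ∪ ↑(kst M K)) ⊆ (↑(K ⊔ kst M K) : Set G) := by
    intro a ha
    rcases ha with ha | ha
    · exact Subgroup.mem_sup_left ha
    · exact Subgroup.mem_sup_right ha
  have hfin : ((↑(K ⊔ kst M K) : Set G)).Finite := Set.toFinite _
  have h1 : (zhat M K).ncard = (↑(K ⊔ kst M K) : Set G).ncard - ((K : Set G) ∪ ↑(kst M K)).ncard :=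
    Set.ncard_sdiff hsub (Set.toFinite _)
  have h2 : ((K : Set G) ∪ ↑(kst M K)).ncard + ((K : Set G) ∩ ↑(kst M K)).ncard =
      (K : Set G).ncard + (↑(kst M K) : Set G).ncard :=
    Set.ncard_union_add_ncard_inter _ _ (Set.toFinite _) (Set.toFinite _)
  have h3 : ((K : Set G) ∩ ↑(kst M K)) = {1} := by
    have := inf_kst_eq_bot hK
    ext a
    rw [← Subgroup.coe_inf, this]
    simp
  rw [h3, Set.ncard_singleton] at h2
  have h4 : (↑(K ⊔ kst M K) : Set G).ncard = Nat.card K * Nat.card (kst M K) := by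
    rw [← card_sup_kst hK]; rfl
  have h5 : (K : Set G).ncard = Nat.card K := rfl
  have h6 : (↑(kst M K) : Set G).ncard = Nat.card (kst M K) := rfl
  have h7 : ((K : Set G) ∪ ↑(kst M K)).ncard ≤ (↑(K ⊔ kst M K) : Set G).ncard :=
    Set.ncard_le_ncard hsub hfin
  rw [h5, h6] at h2
  rw [h4] at h1 h7
  omega


include hG hK hK1 h30 h31 hM in
/-- the two counting clauses -/
theorem count (hKc : ∀ a ∈ K, ∀ b ∈ K, a * b = b * a)
    (hKsc : ∀ a ∈ kst M K, ∀ b ∈ kst M K, a * b = b * a) :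
    Nat.card K * Nat.card (kst M K) * Set.ncard {a : G | ∃ g : G, ∃ z ∈ zhat M K, a = g * z * g⁻¹} =
        (Nat.card K * Nat.card (kst M K) - Nat.card K - Nat.card (kst M K) + 1) * Nat.card G ∧
      Nat.card G < 2 * Set.ncard {a : G | ∃ g : G, ∃ z ∈ zhat M K, a = g * z * g⁻¹} := by
  have hcs := card_classSupport (K ⊔ kst M K) (zhat M K)
    (fun g z hz hgz => zhat_ti h31 hM hK hK1 hz hgz)
    (fun g hg z hz => zhat_inv hKc hKsc hg hz)
  rw [card_sup_kst hK] at hcs
  have hz := ncard_zhat hK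
  set T := Set.ncard {a : G | ∃ g : G, ∃ z ∈ zhat M K, a = g * z * g⁻¹} with hT
  set a := Nat.card K with ha
  set b := Nat.card (kst M K) with hb
  set N := Nat.card G with hN
  set Zn := (zhat M K).ncard with hZn
  -- sizes
  have hodd : Odd N := hG.1
  have ha_dvd : a ∣ N := Subgroup.card_subgroup_dvd_card K
  have hb_dvd : b ∣ N := Subgroup.card_subgroup_dvd_card (kst M K)
  have ha_odd : Odd a := by
    obtain ⟨c, hc⟩ := ha_dvd
    rw [hc] at hodd
    exact (Nat.odd_mul.mp hodd).1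
  have hb_odd : Odd b := by
    obtain ⟨c, hc⟩ := hb_dvd
    rw [hc] at hodd
    exact (Nat.odd_mul.mp hodd).1
  have ha1 : a ≠ 1 := fun h => hK1 (Subgroup.card_eq_one.mp h)
  have hb1 : b ≠ 1 := fun h => kst_ne_bot h30 hM hK hK1 (Subgroup.card_eq_one.mp h)
  have hcop : b.Coprime a := coprime_card_kst hK
  have hab : a ≠ b := by
    intro h
    rw [h, Nat.coprime_self] at hcop
    exact hb1 hcop
  have ha3 : 3 ≤ a := by
    obtain ⟨c, hc⟩ := ha_odd
    have : 0 < a := Nat.card_pos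
    omega
  have hb3 : 3 ≤ b := by
    obtain ⟨c, hc⟩ := hb_odd
    have : 0 < b := Nat.card_pos
    omega
  have hN0 : 0 < N := Nat.card_pos
  have hab5 : 5 ≤ a ∨ 5 ≤ b := by
    obtain ⟨c, hc⟩ := ha_odd
    obtain ⟨d, hd⟩ := hb_odd
    omega
  have hge : a + b ≤ a * b := by nlinarith
  have hZeq : Zn = a * b - a - b + 1 := by omega
  constructor
  · rw [← hZeq, hcs, mul_comm]
  · -- 2 * (ab - a - b + 1) > ab
    have h2 : a * b < 2 * Zn := by
      have hP : 2 * a + 2 * b + 1 ≤ a * b + 2 := by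
        rcases hab5 with h5 | h5
        · nlinarith
        · nlinarith
      omega
    have h3 : a * b * N < a * b * (2 * T) := by
      calc a * b * N < 2 * Zn * N := by
            exact Nat.mul_lt_mul_of_pos_right h2 hN0
        _ = 2 * (N * Zn) := by ring
        _ = 2 * (a * b * T) := by rw [hcs]
        _ = a * b * (2 * T) := by ring
    exact Nat.lt_of_mul_lt_mul_left h3

end Pair

/-- **Statement S1434** from the frozen statements S1430, S1431, S1351 (cyclicity) and `σ`-disjointness. -/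
theorem statement_S1434 (hG : IsMinSimpleOddOrder G) (h30 : H1430 G) (h31 : H1431 G) (h51 : H1351 G)
    (hSD : SigmaDisj G)
    (M : Subgroup G) (hM : IsCoatom M) (K U : Subgroup G) (hKU : Cfsg.IsSigmaDecomposition M K U) (hK1 : K ≠ ⊥) (Mstar : Subgroup G) (hMstar : IsCoatom Mstar)
    (hKst : K = Cfsg.sigmaCore Mstar ⊓ Subgroup.centralizer ((Cfsg.sigmaCore M ⊓ Subgroup.centralizer (K : Set G)) : Set G))
    (hKstH : Cfsg.IsPiHallOf (Cfsg.kappa Mstar) (Cfsg.sigmaCore M ⊓ Subgroup.centralizer (K : Set G)) Mstar) :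
    Cfsg.kappa M = Cfsg.tau1 M ∧ Cfsg.IsPiHallOf (Cfsg.sigma M) (Cfsg.sigmaCore M ⊓ Subgroup.centralizer (K : Set G)) Mstar ∧
      (∀ x ∈ K, x ≠ 1 → ∀ y ∈ (Cfsg.sigmaCore M ⊓ Subgroup.centralizer (K : Set G)), y ≠ 1 →
        M ⊓ Subgroup.centralizer ({x} : Set G) = K ⊔ (Cfsg.sigmaCore M ⊓ Subgroup.centralizer (K : Set G)) ∧ Mstar ⊓ Subgroup.centralizer ({y} : Set G) = K ⊔ (Cfsg.sigmaCore M ⊓ Subgroup.centralizer (K : Set G)) ∧
        Subgroup.centralizer ({x * y} : Set G) = K ⊔ (Cfsg.sigmaCore M ⊓ Subgroup.centralizer (K : Set G))) ∧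
      (∀ g : G, g ∉ M → ∀ z ∈ ((↑(K ⊔ (Cfsg.sigmaCore M ⊓ Subgroup.centralizer (K : Set G))) : Set G) \ ((K : Set G) ∪ ↑(Cfsg.sigmaCore M ⊓ Subgroup.centralizer (K : Set G)))), z ∉ M.map (MulAut.conj g).toMonoidHom) ∧
      Nat.card K * Nat.card ↥(Cfsg.sigmaCore M ⊓ Subgroup.centralizer (K : Set G)) * Set.ncard {a : G | ∃ g : G, ∃ z ∈ ((↑(K ⊔ (Cfsg.sigmaCore M ⊓ Subgroup.centralizer (K : Set G))) : Set G) \ ((K : Set G) ∪ ↑(Cfsg.sigmaCore M ⊓ Subgroup.centralizer (K : Set G)))), a = g * z * g⁻¹} =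
        (Nat.card K * Nat.card ↥(Cfsg.sigmaCore M ⊓ Subgroup.centralizer (K : Set G)) - Nat.card K - Nat.card ↥(Cfsg.sigmaCore M ⊓ Subgroup.centralizer (K : Set G)) + 1) * Nat.card G ∧
      Nat.card G < 2 * Set.ncard {a : G | ∃ g : G, ∃ z ∈ ((↑(K ⊔ (Cfsg.sigmaCore M ⊓ Subgroup.centralizer (K : Set G))) : Set G) \ ((K : Set G) ∪ ↑(Cfsg.sigmaCore M ⊓ Subgroup.centralizer (K : Set G)))), a = g * z * g⁻¹} := by
  have hK := hKU.hall
  have hKc : ∀ a ∈ K, ∀ b ∈ K, a * b = b * a := by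
    have hc := hKU.cyclic
    intro a ha b hb
    have := (IsCyclic.commGroup (α := K)).mul_comm ⟨a, ha⟩ ⟨b, hb⟩
    exact congrArg Subtype.val this
  have hKsc := kst_abelian h51 hMstar hKstH
  have hcount := count hG h30 h31 hM hK hK1 hKc hKsc
  refine ⟨Set.Subset.antisymm (kappa_subset_tau1 h30 hM hK hK1 hKc) (tau1_subset_kappa h30 hM hK hK1),
    kst_hall hG h30 h31 hSD hM hK hK1 hMstar hKst hKstH, ?_, ?_, hcount.1, hcount.2⟩
  · intro x hx hx1 y hy hy1
    exact ⟨cent_eq h30 hM hK hK1 hKc hx hx1,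
      cent_star_eq h30 hM hK hK1 hMstar hKst hKstH hKsc hy hy1,
      cent_mul_eq h30 h31 hM hK hK1 hKc hKsc hx hx1 hy hy1⟩
  · intro g hg z hz
    exact zhat_not_mem_cj h31 hM hK hK1 hg hz

end Finite

end Cfsg.Agent.Lib.Helper25_BG147
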