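import Mathlib
import Cfsg.Agent.Lib.Helper33_BG16Hyp
import Cfsg.Agent.Lib.Helper70_BG1012
import Cfsg.Agent.Lib.Helper1_Hall
import Cfsg.Agent.Lib.Helper10_ConjAction
import Cfsg.Agent.Lib.Helper22_BGTransUp
import Cfsg.Agent.Lib.Helper79_BGConj
import Cfsg.Agent.Lib.Helper53_BG16b
import Cfsg.Agent.Lib.Helper23_SigmaHall

/-!
# Bender–Glauberman §16, Theorem B (4), (5) (helper33)

From the earlier statements of the chain taken as hypotheses (`Helper33_BG16Hyp`):
* basic facts on the standard factorisation `M = K U M_σ` (`dec_compl`: `U K` is a complement of `M_σ`;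
  `dec_normal`: `U M_σ ⊴ M`; `dec_not_mem_kappa`, `dec_not_mem_sigma`, `dec_coprime`);
* `core_unique`: a nontrivial `κ(M)'`-subgroup `X` of a complement of `M_σ` with `C_{M_σ}(X) ≠ 1`
  has `𝓜(C_G(X)) = {M}` (take the smallest prime `p` of `|X|`: `p ∈ τ₂(M)` by rank considerations
  [`p ∉ κ(M)` excludes rank one, `p ∉ σ(M) ⊇ α(M)` excludes rank three]; then `X` centralizes
  `A = Ω₁` of a Sylow `p`-subgroup of `E`, and `M_σ ∩ L = 1` for every other maximal `L ⊇ A`);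
* `statement_S1361`, `statement_S1362`.
-/

set_option autoImplicit false

namespace Cfsg.Agent.Lib.Helper33_BG16a

open Subgroup Cfsg Cfsg.Agent.Lib.Helper33_BG16Hyp
open scoped Pointwise

variable {G : Type*} [Group G]

theorem sigmaCore_le (M : Subgroup G) : sigmaCore M ≤ M := Subgroup.map_subtype_le _

theorem le_normalizer_map_subtype (M : Subgroup G) (N : Subgroup M) [hN : N.Normal] :
    M ≤ normalizer ((N.map M.subtype : Subgroup G) : Set G) := by
  intro m hm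
  rw [mem_normalizer_iff]
  intro h
  constructor
  · rintro ⟨x, hx, rfl⟩
    exact ⟨⟨m, hm⟩ * x * ⟨m, hm⟩⁻¹, hN.conj_mem x hx ⟨m, hm⟩, rfl⟩
  · rintro ⟨x, hx, hxe⟩
    refine ⟨⟨m, hm⟩⁻¹ * x * ⟨m, hm⟩, ?_, ?_⟩
    · have := hN.conj_mem x hx ⟨m, hm⟩⁻¹
      simpa using this
    · simp only [Subgroup.coe_subtype, Subgroup.coe_mul, Subgroup.coe_inv] at hxe ⊢
      rw [hxe]; group

theorem le_normalizer_sigmaCore (M : Subgroup G) : M ≤ normalizer (sigmaCore M : Set G) :=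
  le_normalizer_map_subtype M _

/-- order of a product decomposition -/
theorem IsComplIn.card_eq [Finite G] {A B M : Subgroup G} (h : IsComplIn A B M) :
    Nat.card M = Nat.card A * Nat.card B := by
  obtain ⟨hA, hB, hAB, hmul⟩ := h
  rw [← Nat.card_prod]
  symm
  let f : A × B → M := fun ab => ⟨ab.1 * ab.2, mul_mem (hA ab.1.2) (hB ab.2.2)⟩
  apply Nat.card_congr (Equiv.ofBijective f ⟨?_, ?_⟩)
  · rintro ⟨⟨a, ha⟩, ⟨b, hb⟩⟩ ⟨⟨a', ha'⟩, ⟨b', hb'⟩⟩ hf
    have hf' : a * b = a' * b' := congrArg (fun z : M => (z : G)) hf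
    have h1 : a'⁻¹ * a = b' * b⁻¹ := by
      rw [eq_mul_inv_iff_mul_eq, mul_assoc, hf']; group
    have h2 : a'⁻¹ * a ∈ A ⊓ B := Subgroup.mem_inf.mpr ⟨A.mul_mem (A.inv_mem ha') ha, h1 ▸ B.mul_mem hb' (B.inv_mem hb)⟩
    rw [hAB, mem_bot] at h2
    have h3 : b' * b⁻¹ = 1 := h1 ▸ h2
    have e1 : a = a' := by rw [inv_mul_eq_one] at h2; exact h2.symm
    have e2 : b = b' := by rw [mul_inv_eq_one] at h3; exact h3.symm
    subst e1 e2; rfl
  · rintro ⟨m, hm⟩
    obtain ⟨a, ha, b, hb, rfl⟩ := hmul m hm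
    exact ⟨(⟨a, ha⟩, ⟨b, hb⟩), rfl⟩


theorem IsComplIn.relIndex_right [Finite G] {A B M : Subgroup G} (h : IsComplIn A B M) :
    B.relIndex M = Nat.card A := by
  have h1 := IsComplIn.card_eq h
  have h2 := relIndex_mul_relIndex (⊥ : Subgroup G) B M bot_le h.2.1
  rw [relIndex_bot_left, relIndex_bot_left, h1] at h2
  have hB : 0 < Nat.card B := Nat.card_pos
  rw [mul_comm (Nat.card A)] at h2
  exact Nat.eq_of_mul_eq_mul_left hB h2

theorem IsComplIn.relIndex_left [Finite G] {A B M : Subgroup G} (h : IsComplIn A B M) :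
    A.relIndex M = Nat.card B := by
  have h1 := IsComplIn.card_eq h
  have h2 := relIndex_mul_relIndex (⊥ : Subgroup G) A M bot_le h.1
  rw [relIndex_bot_left, relIndex_bot_left, h1] at h2
  have hA : 0 < Nat.card A := Nat.card_pos
  exact Nat.eq_of_mul_eq_mul_left hA h2

theorem inf_eq_bot_of_primes [Finite G] {A B : Subgroup G} (π₁ π₂ : Set ℕ)
    (hA : ∀ p : ℕ, p.Prime → p ∣ Nat.card A → p ∈ π₁)
    (hB : ∀ p : ℕ, p.Prime → p ∣ Nat.card B → p ∈ π₂) (hd : ∀ p, p ∈ π₁ → p ∉ π₂) :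
    A ⊓ B = ⊥ := by
  by_contra hne
  have h1 : Nat.card ↥(A ⊓ B) ≠ 1 := fun h => hne (Subgroup.card_eq_one.mp h)
  obtain ⟨p, hp, hpd⟩ := Nat.exists_prime_and_dvd h1
  exact hd p (hA p hp (hpd.trans (Subgroup.card_dvd_of_le inf_le_left)))
    (hB p hp (hpd.trans (Subgroup.card_dvd_of_le inf_le_right)))

theorem not_mem_sigma_of_mem_kappa {M : Subgroup G} {p : ℕ} (h : p ∈ kappa M) : p ∉ sigma M := h.2.2.1

section Decomp

variable {M K U : Subgroup G}

theorem dec_U_le (h : IsSigmaDecomposition M K U) : U ≤ M := h.compl.1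

theorem dec_K_le (h : IsSigmaDecomposition M K U) : K ≤ M := le_sup_left.trans h.compl.2.1

theorem dec_K_inf_sigmaCore [Finite G] (h : IsSigmaDecomposition M K U) : K ⊓ sigmaCore M = ⊥ :=
  inf_eq_bot_of_primes (kappa M) (sigma M) h.hall.2.1
    (Cfsg.Agent.Lib.Helper70_BG1012.card_sigmaCore_mem M) (fun _ hp => not_mem_sigma_of_mem_kappa hp)

/-- `E = U K` is a complement of `M_σ` in `M`. -/
theorem dec_compl [Finite G] (h : IsSigmaDecomposition M K U) : IsComplIn (U ⊔ K) (sigmaCore M) M := by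
  obtain ⟨hUM, hKM', hUK, hmul⟩ := h.compl
  have hKM : K ≤ M := dec_K_le h
  have hE : (↑(U ⊔ K) : Set G) = (U : Set G) * (K : Set G) :=
    coe_mul_of_right_le_normalizer_left U K h.normal
  have hKS : (↑(K ⊔ sigmaCore M) : Set G) = (K : Set G) * (sigmaCore M : Set G) :=
    coe_mul_of_left_le_normalizer_right K (sigmaCore M) (hKM.trans (le_normalizer_sigmaCore M))
  refine ⟨sup_le hUM hKM, sigmaCore_le M, ?_, ?_⟩
  · rw [eq_bot_iff]
    intro e he
    obtain ⟨he1, he2⟩ := Subgroup.mem_inf.mp he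
    have he1' : e ∈ (↑(U ⊔ K) : Set G) := he1
    rw [hE] at he1'
    obtain ⟨u, hu, k, hk, rfl⟩ := Set.mem_mul.mp he1'
    have hu' : u ∈ U ⊓ (K ⊔ sigmaCore M) := by
      refine Subgroup.mem_inf.mpr ⟨hu, ?_⟩
      have : u = (u * k) * k⁻¹ := by group
      rw [this]
      exact mul_mem (le_sup_right (a := K) he2) (inv_mem (le_sup_left (b := sigmaCore M) hk))
    rw [hUK, mem_bot] at hu'
    subst hu'
    rw [one_mul] at he2 ⊢
    have : k ∈ K ⊓ sigmaCore M := Subgroup.mem_inf.mpr ⟨hk, he2⟩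
    rw [dec_K_inf_sigmaCore h] at this
    exact this
  · intro m hm
    obtain ⟨u, hu, c, hc, rfl⟩ := hmul m hm
    have hc' : c ∈ (↑(K ⊔ sigmaCore M) : Set G) := hc
    rw [hKS] at hc'
    obtain ⟨k, hk, s, hs, rfl⟩ := Set.mem_mul.mp hc'
    exact ⟨u * k, mul_mem (le_sup_left (b := K) hu) (le_sup_right (a := U) hk), s, hs, (mul_assoc _ _ _).symm⟩

theorem dec_card_U_dvd_relIndex_K [Finite G] (h : IsSigmaDecomposition M K U) :
    Nat.card U ∣ K.relIndex M := by
  rw [← IsComplIn.relIndex_right h.compl]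
  exact relIndex_dvd_of_le_left M le_sup_left

theorem dec_card_U_dvd_relIndex_sigmaCore [Finite G] (h : IsSigmaDecomposition M K U) :
    Nat.card U ∣ (sigmaCore M).relIndex M := by
  rw [← IsComplIn.relIndex_right h.compl]
  exact relIndex_dvd_of_le_left M le_sup_right

theorem dec_not_mem_kappa [Finite G] (h : IsSigmaDecomposition M K U) {p : ℕ} (hp : p.Prime)
    (hd : p ∣ Nat.card U) : p ∉ kappa M := fun hk =>
  h.hall.2.2 p hp hk (hd.trans (dec_card_U_dvd_relIndex_K h))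

theorem dec_not_mem_sigma [Finite G] (h : IsSigmaDecomposition M K U)
    (hσ : IsPiHallOf (sigma M) (sigmaCore M) M) {p : ℕ} (hp : p.Prime)
    (hd : p ∣ Nat.card U) : p ∉ sigma M := fun hk =>
  hσ.2.2 p hp hk (hd.trans (dec_card_U_dvd_relIndex_sigmaCore h))

/-- `U M_σ` is normal in `M`. -/
theorem dec_normal [Finite G] (h : IsSigmaDecomposition M K U) :
    M ≤ normalizer ((U ⊔ sigmaCore M : Subgroup G) : Set G) := by
  intro m hm
  obtain ⟨e, he, s, hs, rfl⟩ := (dec_compl h).2.2.2 m hm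
  have hEU : U ⊔ K ≤ normalizer (U : Set G) := sup_le le_normalizer h.normal
  have hEM : U ⊔ K ≤ M := (dec_compl h).1
  have h1 : e ∈ normalizer ((U ⊔ sigmaCore M : Subgroup G) : Set G) :=
    normalizer_inf_normalizer_le_normalizer_sup U (sigmaCore M)
      (Subgroup.mem_inf.mpr ⟨hEU he, le_normalizer_sigmaCore M (hEM he)⟩)
  have h2 : s ∈ normalizer ((U ⊔ sigmaCore M : Subgroup G) : Set G) :=
    le_normalizer (le_sup_right (a := U) hs)
  exact mul_mem h1 h2

end Decomp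


/-- a subgroup all of whose Sylow subgroups lie in `C` lies in `C` -/
theorem le_of_sylow_le [Finite G] {X C : Subgroup G}
    (h : ∀ (r : ℕ) [Fact r.Prime] (R : Sylow r X), (R : Subgroup X).map X.subtype ≤ C) : X ≤ C := by
  rw [← Subgroup.subgroupOf_eq_top, ← Subgroup.index_eq_one]
  by_contra hne
  obtain ⟨r, hr, hrd⟩ := Nat.exists_prime_and_dvd hne
  have : Fact r.Prime := ⟨hr⟩
  obtain ⟨R⟩ : Nonempty (Sylow r X) := inferInstance
  have hRC : (R : Subgroup X) ≤ C.subgroupOf X := by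
    intro x hx
    rw [Subgroup.mem_subgroupOf]
    exact h r R ⟨x, hx, rfl⟩
  exact R.not_dvd_index (hrd.trans (Subgroup.index_dvd_of_le hRC))

/-- an `r`-group normalizing a group of order `p ^ 2`, `p < r` odd primes, centralizes it -/
theorem centralizes_of_prime_gt [Finite G] {p r : ℕ} (hp : p.Prime) [hr : Fact r.Prime]
    (hpodd : Odd p) (hrodd : Odd r) (hpr : p < r) {A R : Subgroup G} (hA : Nat.card A = p ^ 2)
    (hR : IsPGroup r R) (hRA : R ≤ normalizer (A : Set G)) : R ≤ centralizer (A : Set G) := by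
  have hmod := Cfsg.Agent.Lib.Helper10_ConjAction.card_modEq_card_centralizer R A hR hRA
  have hdvd : Nat.card ↥(A ⊓ centralizer (R : Set G)) ∣ p ^ 2 := by
    rw [← hA]; exact Subgroup.card_dvd_of_le inf_le_left
  obtain ⟨m, hm, hc⟩ := (Nat.dvd_prime_pow hp).mp hdvd
  have hp2 : 2 ≤ p := hp.two_le
  have hndvd1 : ¬ r ∣ p - 1 := fun h => by
    have := Nat.le_of_dvd (by omega) h; omega
  have hndvdp : ¬ r ∣ p := fun h => by
    have := Nat.le_of_dvd (by omega) h; omega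
  have hndvd2 : ¬ r ∣ p + 1 := fun h => by
    have h1 := Nat.le_of_dvd (by omega) h
    have h2 : r = p + 1 := by omega
    obtain ⟨a, ha⟩ := hpodd
    obtain ⟨b, hb⟩ := hrodd
    omega
  rw [hA, hc] at hmod
  have hle : p ^ m ≤ p ^ 2 := Nat.pow_le_pow_right hp.pos hm
  have hd : r ∣ p ^ 2 - p ^ m := (Nat.modEq_iff_dvd' hle).mp hmod.symm
  have hm2 : m = 2 := by
    interval_cases m
    · exfalso
      have e : p ^ 2 - p ^ 0 = (p - 1) * (p + 1) := by
        obtain ⟨k, rfl⟩ : ∃ k, p = k + 1 := ⟨p - 1, by omega⟩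
        simp only [pow_zero, Nat.add_sub_cancel]
        ring_nf
        omega
      rw [e] at hd
      rcases (Nat.Prime.dvd_mul hr.out).mp hd with h | h
      · exact hndvd1 h
      · exact hndvd2 h
    · exfalso
      have e : p ^ 2 - p ^ 1 = p * (p - 1) := by
        obtain ⟨k, rfl⟩ : ∃ k, p = k + 1 := ⟨p - 1, by omega⟩
        simp only [pow_one, Nat.add_sub_cancel]
        ring_nf
        omega
      rw [e] at hd
      rcases (Nat.Prime.dvd_mul hr.out).mp hd with h | h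
      · exact hndvdp h
      · exact hndvd1 h
    · rfl
  subst hm2
  have heq : A ⊓ centralizer (R : Set G) = A := by
    apply Subgroup.eq_of_le_of_card_ge inf_le_left
    rw [hc, hA]
  have hAC : A ≤ centralizer (R : Set G) := by
    rw [← heq]; exact inf_le_right
  exact Subgroup.le_centralizer_iff.mp hAC


theorem card_subgroupOf_of_le {H K : Subgroup G} (h : H ≤ K) : Nat.card (H.subgroupOf K) = Nat.card H :=
  Nat.card_congr (Subgroup.subgroupOfEquivOfLe h).toEquiv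

/-- an elementary abelian subgroup of order `p ^ 2` of `M` can be conjugated (inside `M`) into a
complement `E` of `M_σ`, when `p ∉ σ(M)` -/
theorem exists_elemAb_in_compl [Finite G] (hG : IsMinSimpleOddOrder G)
    {M : Subgroup G} (hM : IsCoatom M) (hσH : IsPiHallOf (sigma M) (sigmaCore M) M)
    {E : Subgroup G} (hE : IsComplIn E (sigmaCore M) M) {p : ℕ} (hp : p.Prime) (hpσ : p ∉ sigma M)
    (hr : ¬ PRankLE p 1 M) (hr2 : PRankLE p 2 M) :
    ∃ A : Subgroup G, A ≤ E ∧ IsElementaryAbelian p A ∧ Nat.card A = p ^ 2 := by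
  have : Fact p.Prime := ⟨hp⟩
  have : Group.IsSolvable ↥M := hG.2.2.2 M hM.1
  unfold PRankLE at hr
  push Not at hr
  obtain ⟨A₀, hA₀c, hA₀e, hA₀card⟩ := hr
  have hA₀p : IsPGroup p A₀ := fun a => ⟨1, by
    have := hA₀e a a.2
    apply Subtype.ext
    simpa using this⟩
  obtain ⟨n, hn⟩ := IsPGroup.iff_card.mp hA₀p
  have hle2 := hr2 A₀ hA₀c hA₀e
  have hn2 : n = 2 := by
    rw [hn] at hA₀card hle2
    have h1 : 1 < n := by
      by_contra hlt
      push Not at hlt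
      exact absurd (Nat.pow_le_pow_right hp.pos hlt) (by omega)
    have h2 : n ≤ 2 := (Nat.pow_le_pow_iff_right hp.one_lt).mp hle2
    omega
  subst hn2
  -- Hall
  have hcard := IsComplIn.card_eq hE
  have hcop : (Nat.card E).Coprime (Nat.card (sigmaCore M)) := by
    by_contra hnc
    obtain ⟨q, hq, hq1, hq2⟩ := Nat.Prime.not_coprime_iff_dvd.mp hnc
    have hqσ := hσH.2.1 q hq hq2
    apply hσH.2.2 q hq hqσ
    rw [IsComplIn.relIndex_right hE]; exact hq1
  have hA₀cop : (Nat.card A₀).Coprime (Nat.card (sigmaCore M)) := by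
    rw [hn]
    apply Nat.Coprime.pow_left
    rw [Nat.Prime.coprime_iff_not_dvd hp]
    exact fun hd => hpσ (hσH.2.1 p hp hd)
  obtain ⟨H, hHcard, hA₀H⟩ := Cfsg.Agent.Lib.Helper1_Hall.hall_dominance (G := ↥M)
    (Nat.card E) (Nat.card (sigmaCore M)) hcard hcop A₀ hA₀cop
  obtain ⟨g, hg⟩ := Cfsg.Agent.Lib.Helper1_Hall.hall_conj (G := ↥M)
    (Nat.card E) (Nat.card (sigmaCore M)) hcard hcop H (E.subgroupOf M) hHcard
    (card_subgroupOf_of_le hE.1)
  let φ : ↥M →* G := M.subtype.comp (MulAut.conj g).toMonoidHom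
  have hφinj : Function.Injective φ := by
    intro a b hab
    have h1 : (MulAut.conj g) a = (MulAut.conj g) b := M.subtype_injective hab
    exact (MulAut.conj g).injective h1
  refine ⟨A₀.map φ, ?_, ⟨?_, ?_⟩, ?_⟩
  · rintro _ ⟨a, ha, rfl⟩
    have h1 : (MulAut.conj g) a ∈ MulAut.conj g • H :=
      Subgroup.smul_mem_pointwise_smul _ _ _ (hA₀H ha)
    rw [hg, Subgroup.mem_subgroupOf] at h1
    exact h1
  · exact Subgroup.map_isMulCommutative A₀ φ
  · rintro _ ⟨a, ha, rfl⟩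
    rw [← map_pow, hA₀e a ha, map_one]
  · rw [Subgroup.card_map_of_injective hφinj, hn]


/-- **Core lemma** (B-G Theorem B(4) for an arbitrary complement): a nontrivial `κ(M)'`-subgroup `X`
of a complement `E` of `M_σ` centralizing a non-identity element of `M_σ` has `𝓜(C_G(X)) = {M}`. -/
theorem core_unique [Finite G] (hG : IsMinSimpleOddOrder G)
    (hU : Cfsg.Agent.Lib.Helper49_Sigma.UniqHyp G) (h1350 : H1350 G) (h1417 : H1417 G)
    (h1418 : H1418 G)
    {M : Subgroup G} (hM : IsCoatom M) {E : Subgroup G} (hE : IsComplIn E (sigmaCore M) M)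
    {X : Subgroup G} (hXE : X ≤ E) (hX1 : X ≠ ⊥)
    (hκ : ∀ q : ℕ, q.Prime → q ∣ Nat.card X → q ∉ kappa M)
    (hXc : sigmaCore M ⊓ centralizer (X : Set G) ≠ ⊥) :
    centralizer (X : Set G) ≤ M ∧
      ∀ L : Subgroup G, IsCoatom L → centralizer (X : Set G) ≤ L → L = M := by
  obtain ⟨hσH, -, -⟩ := h1350 M hM
  obtain ⟨⟨y, hy⟩, hy1'⟩ := (Subgroup.ne_bot_iff_exists_ne_one).mp hXc
  have hy1 : y ≠ 1 := fun h => hy1' (Subtype.ext h)
  obtain ⟨hyσ, hyc⟩ := Subgroup.mem_inf.mp hy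
  have hXcard : Nat.card X ≠ 1 := fun h => hX1 (Subgroup.card_eq_one.mp h)
  obtain ⟨p, hpdef⟩ : ∃ p, p = (Nat.card X).minFac := ⟨_, rfl⟩
  have hp : p.Prime := hpdef ▸ Nat.minFac_prime hXcard
  have hpX : p ∣ Nat.card X := hpdef ▸ Nat.minFac_dvd _
  have hpmin : ∀ q : ℕ, q.Prime → q ∣ Nat.card X → p ≤ q := fun q hq hqd =>
    hpdef ▸ Nat.minFac_le_of_dvd hq.two_le hqd
  have : Fact p.Prime := ⟨hp⟩
  have hoddX : Odd (Nat.card X) :=
    Odd.of_dvd_nat hG.1 (Subgroup.card_subgroup_dvd_card X)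
  have hpodd : Odd p := Odd.of_dvd_nat hoddX hpX
  obtain ⟨x', hx'⟩ := exists_prime_orderOf_dvd_card' p hpX
  have hx'1 : (x' : G) ≠ 1 := by
    intro h
    have : x' = 1 := Subtype.ext h
    rw [this, orderOf_one] at hx'
    exact hp.one_lt.ne hx'
  have hx'o : orderOf (x' : G) = p := by rw [Subgroup.orderOf_coe, hx']
  have hpσ : p ∉ sigma M := fun hs => hσH.2.2 p hp hs (by
    rw [IsComplIn.relIndex_right hE]; exact hpX.trans (Subgroup.card_dvd_of_le hXE))
  have hxM : (x' : G) ∈ M := hE.1 (hXE x'.2)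
  have hcomm : ∀ x ∈ X, x * y = y * x := fun x hx => hyc x hx
  have hpτ : p ∈ tau2 M :=
    ⟨hp, hpσ, Cfsg.Agent.Lib.Helper23_SigmaHall.pRankLE_of_not_mem_sigma hG hU hM hp hpσ,
      fun hr1 => hκ p hp hpX
        (Cfsg.Agent.Lib.Helper53_BG16b.mem_kappa_of_centralizing hG hpσ hr1 hxM
          (by rw [hx'o]) hyσ hy1 (hcomm x' x'.2))⟩
  obtain ⟨A, hAE, hAel, hAcard⟩ := exists_elemAb_in_compl hG hM hσH hE hp hpσ hpτ.2.2.2 hpτ.2.2.1
  have hAM : A ≤ M := hAE.trans hE.1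
  obtain ⟨⟨hEN, -⟩, -, -⟩ := h1418 M hM E hE p hpτ A ⟨hAE, hAel, hAcard⟩
  obtain ⟨-, hsyl, -, -, huniq, -⟩ := h1417 M hM p hpτ A ⟨hAM, hAel, hAcard⟩
  have hAp : IsPGroup p A := fun a => ⟨1, by
    have := hAel.2 a a.2
    apply Subtype.ext
    simpa using this⟩
  -- `X` centralizes `A`
  have hXA : X ≤ centralizer (A : Set G) := by
    apply le_of_sylow_le
    intro r hr R
    have hRX : (R : Subgroup X).map X.subtype ≤ X := Subgroup.map_subtype_le _
    have hRp : IsPGroup r ((R : Subgroup X).map X.subtype) := R.2.map _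
    have hRN : (R : Subgroup X).map X.subtype ≤ normalizer (A : Set G) := hRX.trans (hXE.trans hEN)
    by_cases hrp : r = p
    · subst hrp
      have hT : IsPGroup r ((R : Subgroup X).map X.subtype ⊔ A : Subgroup G) :=
        IsPGroup.to_sup_of_normal_right' hRp hAp hRN
      have hTM : (R : Subgroup X).map X.subtype ⊔ A ≤ M :=
        sup_le (hRX.trans (hXE.trans hE.1)) hAM
      obtain ⟨Q, hQ⟩ := (hT.comap_subtype (K := M)).exists_le_sylow
      have hQc := (hsyl Q).1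
      intro x hx a ha
      have h1 : (⟨x, hTM (le_sup_left (b := A) hx)⟩ : ↥M) ∈ (Q : Subgroup ↥M) :=
        hQ (le_sup_left (b := A) hx)
      have h2 : (⟨a, hAM ha⟩ : ↥M) ∈ (Q : Subgroup ↥M) :=
        hQ (le_sup_right (a := (R : Subgroup X).map X.subtype) ha)
      have h3 := hQc.1.1 ⟨_, h2⟩ ⟨_, h1⟩
      have h4 := congrArg (fun z : ↥(Q : Subgroup ↥M) => ((z : ↥M) : G)) h3
      exact h4
    · by_cases hrd : r ∣ Nat.card X
      · have hpr : p < r := lt_of_le_of_ne (hpmin r hr.out hrd) (Ne.symm hrp)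
        exact centralizes_of_prime_gt hp hpodd (Odd.of_dvd_nat hoddX hrd) hpr hAcard hRp hRN
      · have hR1 : Nat.card (R : Subgroup X) = 1 := by
          rw [Sylow.card_eq_multiplicity, Nat.factorization_eq_zero_of_not_dvd hrd, pow_zero]
        rw [Subgroup.card_eq_one.mp hR1, Subgroup.map_bot]
        exact bot_le
  have hAX : A ≤ centralizer (X : Set G) := Subgroup.le_centralizer_iff.mp hXA
  have huniq' : ∀ L : Subgroup G, IsCoatom L → centralizer (X : Set G) ≤ L → L = M := by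
    intro L hL hCL
    by_contra hne
    have h1 := huniq L hL hne (hAX.trans hCL)
    have h2 : y ∈ sigmaCore M ⊓ L := Subgroup.mem_inf.mpr ⟨hyσ, hCL hyc⟩
    rw [h1, Subgroup.mem_bot] at h2
    exact hy1 h2
  refine ⟨?_, huniq'⟩
  have hne : centralizer (X : Set G) ≠ ⊤ :=
    Cfsg.Agent.Lib.Helper22_BGTransUp.centralizer_ne_top hG hX1
  obtain ⟨L, hL, hCL⟩ := (eq_top_or_exists_le_coatom (centralizer (X : Set G))).resolve_left hne
  rw [← huniq' L hL hCL]; exact hCL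


theorem conj_mem_sigmaCore {M : Subgroup G} {m s : G} (hm : m ∈ M) (hs : s ∈ sigmaCore M) :
    m * s * m⁻¹ ∈ sigmaCore M :=
  (mem_normalizer_iff.mp (le_normalizer_sigmaCore M hm) s).mp hs

theorem isComplIn_conj {E M : Subgroup G} (hE : IsComplIn E (sigmaCore M) M) {m : G} (hm : m ∈ M) :
    IsComplIn (E.map (MulAut.conj m).toMonoidHom) (sigmaCore M) M := by
  obtain ⟨hEM, hSM, hinf, hmul⟩ := hE
  refine ⟨?_, hSM, ?_, ?_⟩
  · rintro _ ⟨e, he, rfl⟩
    exact mul_mem (mul_mem hm (hEM he)) (inv_mem hm)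
  · rw [eq_bot_iff]
    rintro a ha
    obtain ⟨⟨e, he, rfl⟩, ha2⟩ := Subgroup.mem_inf.mp ha
    have h1 : m⁻¹ * (m * e * m⁻¹) * m⁻¹⁻¹ ∈ sigmaCore M := conj_mem_sigmaCore (inv_mem hm) ha2
    have h2 : m⁻¹ * (m * e * m⁻¹) * m⁻¹⁻¹ = e := by group
    rw [h2] at h1
    have h3 : e ∈ E ⊓ sigmaCore M := Subgroup.mem_inf.mpr ⟨he, h1⟩
    rw [hinf, Subgroup.mem_bot] at h3
    subst h3
    simp
  · intro m' hm'
    obtain ⟨e, he, s, hs, hes⟩ := hmul (m⁻¹ * m' * m) (mul_mem (mul_mem (inv_mem hm) hm') hm)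
    refine ⟨m * e * m⁻¹, ⟨e, he, rfl⟩, m * s * m⁻¹, conj_mem_sigmaCore hm hs, ?_⟩
    have : m' = m * (m⁻¹ * m' * m) * m⁻¹ := by group
    rw [this, hes]; group

/-- a subgroup of `M` of order prime to `|M_σ|` lies in a complement of `M_σ` -/
theorem exists_compl_ge [Finite G] (hG : IsMinSimpleOddOrder G)
    {M : Subgroup G} (hM : IsCoatom M) (hσH : IsPiHallOf (sigma M) (sigmaCore M) M)
    {E : Subgroup G} (hE : IsComplIn E (sigmaCore M) M) {X : Subgroup G} (hXM : X ≤ M)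
    (hcopX : (Nat.card X).Coprime (Nat.card (sigmaCore M))) :
    ∃ E' : Subgroup G, IsComplIn E' (sigmaCore M) M ∧ X ≤ E' := by
  have : Group.IsSolvable ↥M := hG.2.2.2 M hM.1
  have hcard := IsComplIn.card_eq hE
  have hcop : (Nat.card E).Coprime (Nat.card (sigmaCore M)) := by
    by_contra hnc
    obtain ⟨q, hq, hq1, hq2⟩ := Nat.Prime.not_coprime_iff_dvd.mp hnc
    have hqσ := hσH.2.1 q hq hq2
    apply hσH.2.2 q hq hqσ
    rw [IsComplIn.relIndex_right hE]; exact hq1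
  obtain ⟨H, hHcard, hXH⟩ := Cfsg.Agent.Lib.Helper1_Hall.hall_dominance (G := ↥M)
    (Nat.card E) (Nat.card (sigmaCore M)) hcard hcop (X.subgroupOf M)
    (by rw [card_subgroupOf_of_le hXM]; exact hcopX)
  obtain ⟨g, hg⟩ := Cfsg.Agent.Lib.Helper1_Hall.hall_conj (G := ↥M)
    (Nat.card E) (Nat.card (sigmaCore M)) hcard hcop H (E.subgroupOf M) hHcard
    (card_subgroupOf_of_le hE.1)
  refine ⟨E.map (MulAut.conj ((g : G)⁻¹)).toMonoidHom, isComplIn_conj hE (inv_mem g.2), ?_⟩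
  intro x hx
  have h1 : (MulAut.conj g) (⟨x, hXM hx⟩ : ↥M) ∈ MulAut.conj g • H :=
    Subgroup.smul_mem_pointwise_smul _ _ _ (hXH (by rw [Subgroup.mem_subgroupOf]; exact hx))
  rw [hg, Subgroup.mem_subgroupOf] at h1
  refine ⟨_, h1, ?_⟩
  simp [MulAut.conj_apply]
  group


/-- **S1361** from the earlier statements -/
theorem statement_S1361 [Finite G] (hG : IsMinSimpleOddOrder G)
    (hU : Cfsg.Agent.Lib.Helper49_Sigma.UniqHyp G) (h1350 : H1350 G) (h1417 : H1417 G)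
    (h1418 : H1418 G)
    (M : Subgroup G) (hM : IsCoatom M) (K U : Subgroup G) (hKU : Cfsg.IsSigmaDecomposition M K U)
    (X : Subgroup G) (hXU : X ≤ U) (hX : X ≠ ⊥)
    (hXc : Cfsg.sigmaCore M ⊓ Subgroup.centralizer (X : Set G) ≠ ⊥) :
    Subgroup.centralizer (X : Set G) ≤ M ∧
      ∀ L : Subgroup G, IsCoatom L → Subgroup.centralizer (X : Set G) ≤ L → L = M :=
  core_unique hG hU h1350 h1417 h1418 hM (dec_compl hKU) (hXU.trans le_sup_left) hX
    (fun _ hq hqd => dec_not_mem_kappa hKU hq (hqd.trans (Subgroup.card_dvd_of_le hXU))) hXc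

theorem mem_centralizer_zpowers_iff {a c : G} :
    c ∈ centralizer ((zpowers a : Subgroup G) : Set G) ↔ a * c = c * a := by
  constructor
  · intro h
    exact h a (mem_zpowers a)
  · intro h x hx
    obtain ⟨k, rfl⟩ := mem_zpowers_iff.mp hx
    exact (Commute.zpow_left (show Commute a c from h) k).eq

theorem dec_coprime [Finite G] {M K U : Subgroup G} (h : IsSigmaDecomposition M K U)
    (hσ : IsPiHallOf (sigma M) (sigmaCore M) M) :
    (Nat.card U).Coprime (Nat.card (sigmaCore M)) := by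
  by_contra hnc
  obtain ⟨q, hq, hq1, hq2⟩ := Nat.Prime.not_coprime_iff_dvd.mp hnc
  exact dec_not_mem_sigma h hσ hq hq1 (hσ.2.1 q hq hq2)

/-- the key step for S1362 -/
theorem sigmaA_key [Finite G] (hG : IsMinSimpleOddOrder G)
    (hU : Cfsg.Agent.Lib.Helper49_Sigma.UniqHyp G) (h1350 : H1350 G) (h1417 : H1417 G)
    (h1418 : H1418 G)
    {M : Subgroup G} (hM : IsCoatom M) {K U : Subgroup G} (hKU : Cfsg.IsSigmaDecomposition M K U)
    {x : G} (hx : x ∈ sigmaA M U \ (sigmaCore M : Set G)) :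
    centralizer ((zpowers (x ^ Nat.card (sigmaCore M)) : Subgroup G) : Set G) ≤ M ∧
      ∀ L : Subgroup G, IsCoatom L →
        centralizer ((zpowers (x ^ Nat.card (sigmaCore M)) : Subgroup G) : Set G) ≤ L → L = M := by
  obtain ⟨hσH, -, -⟩ := h1350 M hM
  obtain ⟨⟨⟨hxM, y, hyσ, hy1, hxy⟩, hxUS⟩, hxnS⟩ := hx
  have hUM : U ≤ M := dec_U_le hKU
  have hUS : (↑(U ⊔ sigmaCore M) : Set G) = (U : Set G) * (sigmaCore M : Set G) :=
    coe_mul_of_left_le_normalizer_right U (sigmaCore M) (hUM.trans (le_normalizer_sigmaCore M))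
  rw [hUS] at hxUS
  obtain ⟨u, hu, s, hs, rfl⟩ := Set.mem_mul.mp hxUS
  have hu : u ∈ U := hu
  have hs : s ∈ sigmaCore M := hs
  have hpow : ∀ n : ℕ, ∃ t ∈ sigmaCore M, (u * s) ^ n = u ^ n * t := by
    intro n
    induction n with
    | zero => exact ⟨1, one_mem _, by simp⟩
    | succ n ih =>
      obtain ⟨t, ht, hn⟩ := ih
      refine ⟨u⁻¹ * t * u⁻¹⁻¹ * s, mul_mem (conj_mem_sigmaCore (inv_mem (hUM hu)) ht) hs, ?_⟩
      rw [pow_succ, hn, pow_succ]; group
  have hcop := dec_coprime hKU hσH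
  set N := Nat.card (sigmaCore M) with hN
  have hUinf : U ⊓ sigmaCore M = ⊥ := by
    rw [eq_bot_iff, ← hKU.compl.2.2.1]
    exact inf_le_inf_left U le_sup_right
  have hxN1 : (u * s) ^ N ≠ 1 := by
    intro h1
    obtain ⟨t, ht, hn⟩ := hpow N
    rw [h1] at hn
    have h2 : u ^ N = t⁻¹ := by
      rw [eq_inv_iff_mul_eq_one]; exact hn.symm
    have h3 : u ^ N ∈ U ⊓ sigmaCore M :=
      Subgroup.mem_inf.mpr ⟨pow_mem hu N, h2 ▸ inv_mem ht⟩
    rw [hUinf, Subgroup.mem_bot] at h3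
    have h4 : orderOf u ∣ N := orderOf_dvd_of_pow_eq_one h3
    have h5 : orderOf u ∣ Nat.card U := by
      have := orderOf_dvd_natCard (⟨u, hu⟩ : ↥U)
      rwa [Subgroup.orderOf_mk] at this
    have h6 : orderOf u = 1 := Nat.eq_one_of_dvd_coprimes hcop h5 h4
    rw [orderOf_eq_one_iff] at h6
    subst h6
    apply hxnS
    simpa using hs
  have hxNU : ((u * s) ^ N) ^ Nat.card U = 1 := by
    obtain ⟨t, ht, hn⟩ := hpow (Nat.card U)
    have h1 : u ^ Nat.card U = 1 := by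
      have := pow_card_eq_one' (G := ↥U) (x := ⟨u, hu⟩)
      exact congrArg (fun z : ↥U => (z : G)) this
    rw [h1, one_mul] at hn
    rw [← pow_mul, mul_comm, pow_mul, hn]
    have := pow_card_eq_one' (G := ↥(sigmaCore M)) (x := ⟨t, ht⟩)
    exact congrArg (fun z : ↥(sigmaCore M) => (z : G)) this
  have hcardX : Nat.card (zpowers ((u * s) ^ N)) ∣ Nat.card U := by
    rw [Nat.card_zpowers]; exact orderOf_dvd_of_pow_eq_one hxNU
  have hXM : zpowers ((u * s) ^ N) ≤ M := by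
    rw [zpowers_le]; exact pow_mem hxM N
  obtain ⟨E', hE', hXE'⟩ := exists_compl_ge hG hM hσH (dec_compl hKU) hXM
    (Nat.Coprime.coprime_dvd_left hcardX hcop)
  refine core_unique hG hU h1350 h1417 h1418 hM hE' hXE' ?_ ?_ ?_
  · rw [Ne, zpowers_eq_bot]; exact hxN1
  · exact fun q hq hqd => dec_not_mem_kappa hKU hq (hqd.trans hcardX)
  · intro hbot
    have : y ∈ sigmaCore M ⊓ centralizer ((zpowers ((u * s) ^ N) : Subgroup G) : Set G) := by
      refine Subgroup.mem_inf.mpr ⟨hyσ, ?_⟩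
      rw [mem_centralizer_zpowers_iff]
      exact ((show Commute (u * s) y from hxy).pow_left N).eq
    rw [hbot, Subgroup.mem_bot] at this
    exact hy1 this


theorem normalizer_eq_of_isCoatom (hG : IsMinSimpleOddOrder G) {M : Subgroup G} (hM : IsCoatom M)
    (hM1 : M ≠ ⊥) : normalizer (M : Set G) = M := by
  have h1 := Cfsg.Agent.Lib.Helper22_BGTrans.normalizer_ne_top hG hM1 hM.1
  refine (eq_of_le_of_not_lt le_normalizer fun hlt => h1 (hM.2 _ hlt)).symm

theorem sigmaHat_conj {M : Subgroup G} {m a : G} (hm : m ∈ M) (ha : a ∈ sigmaHat M) :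
    m * a * m⁻¹ ∈ sigmaHat M := by
  obtain ⟨haM, y, hy, hy1, hay⟩ := ha
  refine ⟨mul_mem (mul_mem hm haM) (inv_mem hm), m * y * m⁻¹, conj_mem_sigmaCore hm hy, ?_, ?_⟩
  · intro h
    apply hy1
    have : y = m⁻¹ * (m * y * m⁻¹) * m := by group
    rw [this, h]; group
  · have : m * a * m⁻¹ * (m * y * m⁻¹) = m * (a * y) * m⁻¹ := by group
    rw [this, hay]; group

theorem sigmaA_diff_conj [Finite G] {M K U : Subgroup G} (hKU : IsSigmaDecomposition M K U) {m a : G}
    (hm : m ∈ M) (ha : a ∈ sigmaA M U \ (sigmaCore M : Set G)) :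
    m * a * m⁻¹ ∈ sigmaA M U \ (sigmaCore M : Set G) := by
  obtain ⟨⟨ha1, ha2⟩, ha3⟩ := ha
  refine ⟨⟨sigmaHat_conj hm ha1, ?_⟩, ?_⟩
  · exact (mem_normalizer_iff.mp (dec_normal hKU hm) a).mp ha2
  · intro h
    apply ha3
    have h1 := conj_mem_sigmaCore (inv_mem hm) h
    have : m⁻¹ * (m * a * m⁻¹) * m⁻¹⁻¹ = a := by group
    rw [this] at h1
    exact h1

/-- **S1362** from the earlier statements -/
theorem statement_S1362 [Finite G] (hG : IsMinSimpleOddOrder G)
    (hU : Cfsg.Agent.Lib.Helper49_Sigma.UniqHyp G) (h1350 : H1350 G) (h1417 : H1417 G)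
    (h1418 : H1418 G)
    (M : Subgroup G) (hM : IsCoatom M) (K U : Subgroup G) (hKU : Cfsg.IsSigmaDecomposition M K U) :
    Cfsg.IsTISubset (Cfsg.sigmaA M U \ (Cfsg.sigmaCore M : Set G)) := by
  intro g hg x hx hz
  exfalso
  apply hg
  -- `g ∈ M`
  have hgM : g ∈ M := by
    obtain ⟨-, hxU⟩ := sigmaA_key hG hU h1350 h1417 h1418 hM hKU hx
    obtain ⟨hzC, -⟩ := sigmaA_key hG hU h1350 h1417 h1418 hM hKU hz
    have hM1 : M ≠ ⊥ := by
      obtain ⟨⟨⟨-, y, hyσ, hy1, -⟩, -⟩, -⟩ := hx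
      intro h
      have := sigmaCore_le M hyσ
      rw [h, Subgroup.mem_bot] at this
      exact hy1 this
    set N := Nat.card (sigmaCore M)
    have hL : IsCoatom (M.map (MulAut.conj g⁻¹).toMonoidHom) :=
      Cfsg.Agent.Lib.Helper79_BGConj.isCoatom_map (MulAut.conj g⁻¹) hM
    have hCL : centralizer ((zpowers (x ^ N) : Subgroup G) : Set G) ≤
        M.map (MulAut.conj g⁻¹).toMonoidHom := by
      intro c hc
      rw [mem_centralizer_zpowers_iff] at hc
      have h1 : g * c * g⁻¹ ∈ centralizer ((zpowers ((g * x * g⁻¹) ^ N) : Subgroup G) : Set G) := by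
        rw [mem_centralizer_zpowers_iff, conj_pow]
        have : g * x ^ N * g⁻¹ * (g * c * g⁻¹) = g * (x ^ N * c) * g⁻¹ := by group
        rw [this, hc]; group
      refine ⟨g * c * g⁻¹, hzC h1, ?_⟩
      simp
      group
    have hLM := hxU _ hL hCL
    have h2 : g⁻¹ ∈ normalizer (M : Set G) := mem_normalizer_iff_map_conj_eq.mpr hLM
    rw [normalizer_eq_of_isCoatom hG hM hM1] at h2
    exact (inv_mem_iff (H := M)).mp h2
  rw [mem_set_normalizer_iff]
  intro a
  constructor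
  · exact fun ha => sigmaA_diff_conj hKU hgM ha
  · intro ha
    have := sigmaA_diff_conj hKU (inv_mem hgM) ha
    have e : g⁻¹ * (g * a * g⁻¹) * g⁻¹⁻¹ = a := by group
    rwa [e] at this

end Cfsg.Agent.Lib.Helper33_BG16a
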