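import Mathlib
import Cfsg.Prelude.Def_OddOrderLocal
import Cfsg.Agent.Lib.Helper25_BG14a
import Cfsg.Agent.Lib.Helper25_BGHyp
import Cfsg.Agent.Lib.Helper25_BG147
import Cfsg.Agent.Lib.Helper33_BG16Hyp
import Cfsg.Agent.Lib.Helper33_BG16a
import Cfsg.Agent.Lib.Helper76_BG13a
import Cfsg.Agent.Lib.Helper76_BG13b
import Cfsg.Agent.Lib.Helper23_SigmaHall
import Cfsg.Agent.Lib.Helper49_SigmaDisjoint
import Cfsg.Agent.Lib.Helper79_BG141
import Cfsg.Agent.Lib.Helper29_BG12a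
import Cfsg.Agent.Lib.Helper2_PRank
import Cfsg.Agent.Lib.Helper22_BGTrans
import Cfsg.Agent.Lib.Helper22_Uniq5
import Cfsg.Agent.Lib.Helper24_CoprimeHall
import Cfsg.Agent.S3878

/-!
# Bender–Glauberman Lemma 14.3 (helper25)

Statement S1432 from the frozen statements S1417, S1418, S1420 (fourth clause), S1430, S1431, all as explicit
hypotheses.

For `x ∈ M_σ^#` and a `σ(M)'`-element `x' ≠ 1` of `C_M(x)`:
* if some prime `p` of `o(x')` is not in `τ₂(M)`, then `M` has `p`-rank one, `p ∈ κ(M)`, the subgroup `X` of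
  order `p` of `⟨x'⟩` lies in a Hall `κ(M)`-subgroup `K`, `x' ∈ M ∩ N(X) = K K*` forces `x' ∈ K`, and
  `x ∈ M_σ ∩ C(x') = K*`, so `C_G(x) ≤ M`;
* otherwise S1420 gives the uniqueness of `M` over `C_G(x')`; for the subgroup `L`: with `E ∋ x'` a complement of
  `M_σ` and `A_p ≤ E` elementary abelian of order `p ^ 2` for each prime `p` of `o(x')`, a maximal subgroup
  `L ⊇ N_G(A_p)` has `p ∈ σ(L)` (by S1417(b)) and then `A_q ≤ C(A_p) ≤ L` and S1417(d) give `q ∈ σ(L)` for the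
  other primes.
-/

set_option autoImplicit false

namespace Cfsg.Agent.Lib.Helper25_BG143

open Subgroup Cfsg Cfsg.Agent.Lib.Helper22_Radical Cfsg.Agent.Lib.Helper25_BG14a
  Cfsg.Agent.Lib.Helper25_BGHyp Cfsg.Agent.Lib.Helper25_BG147

universe u

variable {G : Type u} [Group G]

/-- S1420 -/
def H1420 (G : Type u) [Group G] : Prop :=
  ∀ (M : Subgroup G), IsCoatom M → ∀ (E : Subgroup G), Cfsg.IsComplIn E (Cfsg.sigmaCore M) M →
    (∀ N : Subgroup G, N ≤ M → Group.IsNilpotent N → (∀ p : ℕ, p.Prime → p ∣ Nat.card N → p ∉ Cfsg.sigma M) → IsMulCommutative N) ∧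
      IsMulCommutative ↥⁅E, E⁆ ∧
      (∀ (p : ℕ) (P : Subgroup G), p ∈ Cfsg.sigma M → IsPGroup p P → P ≤ M → ¬ IsCyclic P → Subgroup.normalizer (P : Set G) ≤ M) ∧
      ∀ x ∈ M, x ≠ 1 → (∀ p : ℕ, p.Prime → p ∣ orderOf x → p ∈ Cfsg.tau2 M) → x ∈ Cfsg.sigmaHat M →
        Subgroup.centralizer ({x} : Set G) ≤ M ∧ ∀ L : Subgroup G, IsCoatom L → Subgroup.centralizer ({x} : Set G) ≤ L → L = M

theorem isPGroup_of_elemAb {p : ℕ} {A : Subgroup G} (hA : IsElementaryAbelian p A) : IsPGroup p A := by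
  intro a
  refine ⟨1, ?_⟩
  apply Subtype.ext
  rw [pow_one, Subgroup.coe_pow, Subgroup.coe_one]
  exact hA.2 a a.2

theorem comm_of_elemAb {p : ℕ} {A : Subgroup G} (hA : IsElementaryAbelian p A) :
    ∀ a ∈ A, ∀ b ∈ A, a * b = b * a := by
  intro a ha b hb
  have := hA.1.is_comm.comm (⟨a, ha⟩ : A) ⟨b, hb⟩
  exact congrArg Subtype.val this

section Finite

variable [Finite G]

/-- a `σ(M)'`-element of `K K*` lies in `K` -/
theorem mem_of_mem_sup_of_sigma' {M K : Subgroup G} (hK : IsPiHallOf (kappa M) K M)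
    {g : G} (hg : g ∈ K ⊔ kst M K) (hgσ : ∀ q : ℕ, q.Prime → q ∣ orderOf g → q ∉ sigma M) : g ∈ K := by
  obtain ⟨k, hk, s, hs, rfl⟩ := exists_mul_of_mem_sup_comm kst_comm hg
  have hc : Commute k s := kst_comm k hk s hs
  obtain ⟨n, hn⟩ := exists_pow_mul_eq_right hc (coprime_orderOf hK hk hs)
  have hs' : s = 1 := by
    by_contra hne
    have ho1 : orderOf s ≠ 1 := fun h => hne (orderOf_eq_one_iff.mp h)
    obtain ⟨q, hq, hqs⟩ := Nat.exists_prime_and_dvd ho1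
    have h1 : orderOf s ∣ orderOf (k * s) := by
      have := orderOf_pow_dvd (x := k * s) n
      rwa [hn] at this
    have h2 : orderOf s ∣ Nat.card (kst M K) := by
      have := orderOf_dvd_natCard (⟨s, hs⟩ : kst M K)
      rwa [Subgroup.orderOf_mk] at this
    have h3 : q ∣ Nat.card (sigmaCore M) :=
      hqs.trans (h2.trans (Subgroup.card_dvd_of_le inf_le_left))
    exact hgσ q hq (hqs.trans h1) (Cfsg.Agent.Lib.Helper70_BG1012.card_sigmaCore_mem M q hq h3)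
  rw [hs', mul_one]
  exact hk

/-- **Case (a)**: some prime of `o(x')` is not in `τ₂(M)` -/
theorem case_kappa (hG : IsMinSimpleOddOrder G) (h30 : H1430 G) (h31 : H1431 G)
    {M : Subgroup G} (hM : IsCoatom M) {x : G} (hx : x ∈ sigmaCore M) (hx1 : x ≠ 1) {x' : G}
    (hx'M : x' ∈ M) (hc : x' * x = x * x')
    (hσ : ∀ p : ℕ, p.Prime → p ∣ orderOf x' → p ∉ sigma M)
    {p : ℕ} (hp : p.Prime) (hpx : p ∣ orderOf x') (hpτ : p ∉ tau2 M) :
    (∀ q : ℕ, q.Prime → q ∣ orderOf x' → q ∈ kappa M) ∧ centralizer ({x} : Set G) ≤ M := by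
  have : Fact p.Prime := ⟨hp⟩
  have hU := Cfsg.Agent.Lib.Helper49_SigmaDisjoint.uniqHyp hG
  have hpσ := hσ p hp hpx
  have hr2 : PRankLE p 2 ↥M :=
    Cfsg.Agent.Lib.Helper23_SigmaHall.pRankLE_of_not_mem_sigma hG hU hM hp hpσ
  have hr1 : PRankLE p 1 ↥M := by
    by_contra h
    exact hpτ ⟨hp, hpσ, hr2, h⟩
  have ho : orderOf x' ≠ 0 := (orderOf_pos x').ne'
  set y : G := x' ^ (orderOf x' / p) with hy
  have hyo : orderOf y = p := orderOf_pow_orderOf_div ho hpx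
  have hy1 : y ≠ 1 := by
    intro h
    rw [h, orderOf_one] at hyo
    exact hp.one_lt.ne hyo
  have hyM : y ∈ M := Subgroup.pow_mem _ hx'M _
  have hyx : y * x = x * y := by
    have h1 : Commute x' x := hc
    exact (h1.pow_left _).eq
  have hpM : p ∣ Nat.card M := by
    have h1 := orderOf_dvd_natCard (⟨y, hyM⟩ : M)
    rw [Subgroup.orderOf_mk, hyo] at h1
    exact h1
  have hp2 : p ≠ 2 := Cfsg.Agent.Lib.Helper79_BG141.odd_prime hG hpM
  have hyp : ∃ k : ℕ, y ^ p ^ k = 1 := ⟨1, by rw [pow_one, ← hyo]; exact pow_orderOf_eq_one y⟩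
  -- `p ∈ κ(M)`
  have hpκ : p ∈ kappa M := by
    refine ⟨hp, hpM, hpσ, fun P => ⟨?_, ?_⟩⟩
    · have hrP : PRankLE p 1 ↥(P : Subgroup M) :=
        Cfsg.Agent.Lib.Helper2_PRank.pRankLE_of_injective' p 1 (P : Subgroup M).subtype
          (Subgroup.subtype_injective _) hr1
      exact Cfsg.Agent.Lib.Helper29_BG12a.isCyclic_of_pRankLE_one hp2 P.2 hrP
    · have hidx : ¬ p ∣ (P : Subgroup M).index := P.not_dvd_index
      have hyp' : IsPGroup p (zpowers (⟨y, hyM⟩ : M)) := by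
        apply Cfsg.Agent.Lib.Helper76_BG13a.isPGroup_zpowers
        obtain ⟨k, hk⟩ := hyp
        exact ⟨k, Subtype.ext (by rw [Subgroup.coe_pow, Subgroup.coe_one]; exact hk)⟩
      obtain ⟨m, hm⟩ := Cfsg.Agent.S3878.exists_conj_mem_of_not_dvd_index (P : Subgroup M) hidx
        ⟨y, hyM⟩ hyp'
      have hminv : ((m : G))⁻¹ ∈ normalizer ((sigmaCore M : Subgroup G) : Set G) :=
        le_normalizer_sigmaCore M (inv_mem m.2)
      refine ⟨m⁻¹ * ⟨y, hyM⟩ * m, hm, ?_, (m : G)⁻¹ * x * ((m : G)⁻¹)⁻¹,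
        (mem_normalizer_iff.mp hminv x).mp hx, ?_, ?_⟩
      · intro h
        apply hy1
        have h2 : (m : G)⁻¹ * y * m = 1 := by
          have := congrArg Subtype.val h
          simpa using this
        calc y = (m : G) * ((m : G)⁻¹ * y * m) * (m : G)⁻¹ := by group
          _ = 1 := by rw [h2]; group
      · intro h
        apply hx1
        calc x = (m : G) * ((m : G)⁻¹ * x * ((m : G)⁻¹)⁻¹) * (m : G)⁻¹ := by group
          _ = 1 := by rw [h]; group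
      · push_cast
        calc (m : G)⁻¹ * y * m * ((m : G)⁻¹ * x * ((m : G)⁻¹)⁻¹) = (m : G)⁻¹ * (y * x) * m := by group
          _ = (m : G)⁻¹ * (x * y) * m := by rw [hyx]
          _ = (m : G)⁻¹ * x * ((m : G)⁻¹)⁻¹ * ((m : G)⁻¹ * y * m) := by group
  -- a Hall `κ(M)`-subgroup `K ⊇ X = ⟨y⟩`
  have hsolv : Group.IsSolvable ↥M := hG.2.2.2 M hM.1
  have hXM : zpowers y ≤ M := by rw [zpowers_le]; exact hyM
  have hXκ : ∀ q : ℕ, q.Prime → q ∣ Nat.card (zpowers y) → q ∈ kappa M := by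
    intro q hq hqd
    rw [Nat.card_zpowers, hyo] at hqd
    rw [(Nat.prime_dvd_prime_iff_eq hq hp).mp hqd]
    exact hpκ
  obtain ⟨K, hKH, hXK⟩ := Cfsg.Agent.Lib.Helper24_CoprimeHall.exists_piHall_ge (π := kappa M) hsolv hXM hXκ
  have hK : IsPiHallOf (kappa M) K M :=
    (Cfsg.Agent.Lib.Helper24_CoprimeHall.isPiHallOf_iff _ _ _).mpr hKH
  have hyK : y ∈ K := hXK (mem_zpowers y)
  have hK1 : K ≠ ⊥ := by
    intro h
    rw [h, Subgroup.mem_bot] at hyK
    exact hy1 hyK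
  obtain ⟨h30a, -, h30c⟩ := h30 M hM K hK hK1
  have hXp : (Nat.card (zpowers y)).Prime := by rw [Nat.card_zpowers, hyo]; exact hp
  obtain ⟨hMN, -, -⟩ := h30c (zpowers y) hXK hXp
  -- `x' ∈ M ∩ N(X) = K K*`
  have hx'N : x' ∈ M ⊓ normalizer ((zpowers y : Subgroup G) : Set G) := by
    refine Subgroup.mem_inf.mpr ⟨hx'M, ?_⟩
    apply (Subgroup.centralizer_le_normalizer (s := ((zpowers y : Subgroup G) : Set G)))
    rw [mem_centralizer_iff]
    intro w hw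
    obtain ⟨n, rfl⟩ := Subgroup.mem_zpowers_iff.mp hw
    have h1 : Commute x' y := (Commute.refl x').pow_right _
    exact ((h1.zpow_right n).eq).symm
  rw [hMN] at hx'N
  have hx'K : x' ∈ K := mem_of_mem_sup_of_sigma' hK hx'N hσ
  have hx'1 : x' ≠ 1 := by
    intro h
    rw [h, orderOf_one] at hpx
    exact hp.one_lt.ne' (Nat.dvd_one.mp hpx)
  refine ⟨?_, ?_⟩
  · intro q hq hqd
    apply hK.2.1 q hq
    have h1 := orderOf_dvd_natCard (⟨x', hx'K⟩ : K)
    rw [Subgroup.orderOf_mk] at h1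
    exact hqd.trans h1
  · have hxk : x ∈ kst M K := by
      have h1 : x ∈ sigmaCore M ⊓ centralizer ({x'} : Set G) := by
        refine Subgroup.mem_inf.mpr ⟨hx, ?_⟩
        rw [mem_centralizer_singleton_iff]
        exact hc.symm
      rw [h30a x' hx'K hx'1] at h1
      exact h1
    exact centralizer_le_of_mem_kst h31 hM hK hK1 hxk hx1

omit [Finite G] in
/-- `N_G(P) ≤ N_G(A)` when `A` is the set of elements of order dividing `p` of `P` -/
theorem normalizer_le_of_omega {p : ℕ} {P A : Subgroup G} (hAP : A ≤ P)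
    (h : ∀ x ∈ P, x ^ p = 1 ↔ x ∈ A) : normalizer (P : Set G) ≤ normalizer (A : Set G) := by
  have key : ∀ g ∈ normalizer (P : Set G), ∀ a ∈ A, g * a * g⁻¹ ∈ A := by
    intro g hg a ha
    have h1 : g * a * g⁻¹ ∈ P := (mem_normalizer_iff.mp hg a).mp (hAP ha)
    rw [← h _ h1, conj_pow, (h a (hAP ha)).mpr ha]
    group
  intro g hg
  rw [mem_normalizer_iff]
  intro a
  constructor
  · exact key g hg a
  · intro ha
    have := key g⁻¹ (inv_mem hg) _ ha
    convert this using 1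
    group

/-- a maximal subgroup containing the normalizer of an elementary abelian subgroup `A` of order `p ^ 2`
has `p` in its `σ` (S1417(b) excludes `p ∈ τ₂(L)`) -/
theorem sigma_of_normalizer_le (hG : IsMinSimpleOddOrder G)
    (h17 : Cfsg.Agent.Lib.Helper33_BG16Hyp.H1417 G) {L : Subgroup G} (hL : IsCoatom L) {p : ℕ}
    (hp : p.Prime) {A : Subgroup G} (hAe : IsElementaryAbelian p A) (hA2 : Nat.card A = p ^ 2)
    (hNL : normalizer (A : Set G) ≤ L) : p ∈ sigma L := by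
  have : Fact p.Prime := ⟨hp⟩
  have hAp := isPGroup_of_elemAb hAe
  have hA1 : A ≠ ⊥ := by
    intro h
    rw [h, Subgroup.card_bot] at hA2
    have := hp.one_lt
    nlinarith
  have hAL : A ≤ L := le_normalizer.trans hNL
  rcases Cfsg.Agent.Lib.Helper76_BG13b.mem_sigma_or_tau2 hG hL hAp hA1 hNL with h | h
  · exact h
  · exfalso
    obtain ⟨-, hb, -⟩ := h17 L hL p h A ⟨hAL, hAe, hA2⟩
    have hAp' : IsPGroup p (A.subgroupOf L) := hAp.comap_of_injective L.subtype L.subtype_injective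
    obtain ⟨P, hP⟩ := hAp'.exists_le_sylow
    have hAP : A ≤ (P : Subgroup L).map L.subtype := by
      intro a ha
      exact ⟨⟨a, hAL ha⟩, hP (by rw [mem_subgroupOf]; exact ha), rfl⟩
    obtain ⟨hom, hN⟩ := (hb P).2 hAP
    exact hN ((normalizer_le_of_omega hAP hom).trans hNL)

/-- **Case (b)**: all primes of `o(x')` are in `τ₂(M)` -/
theorem case_tau2 (hG : IsMinSimpleOddOrder G) (h17 : Cfsg.Agent.Lib.Helper33_BG16Hyp.H1417 G)
    (h18 : Cfsg.Agent.Lib.Helper33_BG16Hyp.H1418 G) (h20 : H1420 G)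
    {M : Subgroup G} (hM : IsCoatom M) {x : G} (hx : x ∈ sigmaCore M) (hx1 : x ≠ 1) {x' : G}
    (hx'M : x' ∈ M) (hc : x' * x = x * x') (hx'1 : x' ≠ 1)
    (hσ : ∀ p : ℕ, p.Prime → p ∣ orderOf x' → p ∉ sigma M)
    (hτ : ∀ p : ℕ, p.Prime → p ∣ orderOf x' → p ∈ tau2 M) :
    (∃ L : Subgroup G, IsCoatom L ∧ ∀ p : ℕ, p.Prime → p ∣ orderOf x' → p ∈ sigma L) ∧
      (centralizer ({x'} : Set G) ≤ M ∧
        ∀ L : Subgroup G, IsCoatom L → centralizer ({x'} : Set G) ≤ L → L = M) := by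
  have hU := Cfsg.Agent.Lib.Helper49_SigmaDisjoint.uniqHyp hG
  have hsolv : Group.IsSolvable ↥M := hG.2.2.2 M hM.1
  have hσH := Cfsg.Agent.Lib.Helper76_BG13b.sigma_hall hG hM
  have hXM : zpowers x' ≤ M := by rw [zpowers_le]; exact hx'M
  obtain ⟨E, hE, hXE⟩ := Cfsg.Agent.Lib.Helper76_BG13a.exists_compl_ge hsolv hσH hXM
    (by intro q hq hqd; rw [Nat.card_zpowers] at hqd; exact hσ q hq hqd)
  refine ⟨?_, (h20 M hM E hE).2.2.2 x' hx'M hx'1 hτ ⟨hx'M, x, hx, hx1, hc⟩⟩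
  -- for each prime of `o(x')`: an elementary abelian subgroup of order `q ^ 2` of `E`, normal in `E`
  have hdata : ∀ q : ℕ, q.Prime → q ∣ orderOf x' → ∃ A : Subgroup G, A ≤ E ∧
      IsElementaryAbelian q A ∧ Nat.card A = q ^ 2 ∧ E ≤ normalizer (A : Set G) := by
    intro q hq hqd
    have : Fact q.Prime := ⟨hq⟩
    have hqτ := hτ q hq hqd
    obtain ⟨A, hAE, hAe, hA2⟩ := Cfsg.Agent.Lib.Helper33_BG16a.exists_elemAb_in_compl hG hM hσH hE hq
      hqτ.2.1 hqτ.2.2.2 hqτ.2.2.1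
    obtain ⟨⟨hEN, -⟩, -, -⟩ := h18 M hM E hE q hqτ A ⟨hAE, hAe, hA2⟩
    exact ⟨A, hAE, hAe, hA2, hEN⟩
  have ho1 : orderOf x' ≠ 1 := fun h => hx'1 (orderOf_eq_one_iff.mp h)
  obtain ⟨p, hp, hpd⟩ := Nat.exists_prime_and_dvd ho1
  obtain ⟨A, hAE, hAe, hA2, hEN⟩ := hdata p hp hpd
  have hAM : A ≤ M := hAE.trans hE.1
  have hA1 : A ≠ ⊥ := by
    intro h
    rw [h, Subgroup.card_bot] at hA2
    have := hp.one_lt
    nlinarith
  have hAtop : A ≠ ⊤ := by
    intro h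
    rw [h] at hAM
    exact hM.1 (top_le_iff.mp hAM)
  obtain ⟨L, hL, hNL⟩ := Cfsg.Agent.Lib.Helper22_Uniq.exists_isCoatom_ge
    (Cfsg.Agent.Lib.Helper22_BGTrans.normalizer_ne_top hG hA1 hAtop)
  have hpL : p ∈ sigma L := sigma_of_normalizer_le hG h17 hL hp hAe hA2 hNL
  refine ⟨L, hL, ?_⟩
  intro q hq hqd
  by_cases hqp : q = p
  · rw [hqp]; exact hpL
  obtain ⟨B, hBE, hBe, hB2, hENB⟩ := hdata q hq hqd
  have hcop : (Nat.card A).Coprime (Nat.card B) := by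
    rw [hA2, hB2]
    exact Nat.Coprime.pow _ _ ((Nat.coprime_primes hp hq).mpr (Ne.symm hqp))
  have hAB : A ⊓ B = ⊥ := (Subgroup.disjoint_of_coprime_natCard hcop).eq_bot
  have hcomm : ∀ a ∈ A, ∀ b ∈ B, a * b = b * a := by
    intro a ha b hb
    have h1 : a * b * a⁻¹ * b⁻¹ ∈ A ⊓ B := by
      refine Subgroup.mem_inf.mpr ⟨?_, ?_⟩
      · have h2 : b * a⁻¹ * b⁻¹ ∈ A := (mem_normalizer_iff.mp (hEN (hBE hb)) a⁻¹).mp (inv_mem ha)
        have h3 := mul_mem ha h2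
        convert h3 using 1
        group
      · have h2 : a * b * a⁻¹ ∈ B := (mem_normalizer_iff.mp (hENB (hAE ha)) b).mp hb
        exact mul_mem h2 (inv_mem hb)
    rw [hAB, Subgroup.mem_bot] at h1
    calc a * b = (a * b * a⁻¹ * b⁻¹) * (b * a) := by group
      _ = b * a := by rw [h1, one_mul]
  have hBL : B ≤ L := by
    intro b hb
    apply hNL
    apply Subgroup.centralizer_le_normalizer (s := (A : Set G))
    rw [mem_centralizer_iff]
    intro a ha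
    exact hcomm a ha b hb
  by_contra hqσ
  have : Fact q.Prime := ⟨hq⟩
  have hqτL : q ∈ tau2 L :=
    ⟨hq, hqσ, Cfsg.Agent.Lib.Helper23_SigmaHall.pRankLE_of_not_mem_sigma hG hU hL hq hqσ,
      Cfsg.Agent.Lib.Helper76_BG13a.not_pRankLE_one_of_elemAb hq hBL hBe hB2⟩
  obtain ⟨-, -, -, hd, -, -⟩ := h17 L hL q hqτL B ⟨hBL, hBe, hB2⟩
  have hAσ : A ≤ sigmaCore L :=
    Cfsg.Agent.Lib.Helper76_BG13b.le_sigmaCore_of_isPGroup' hG hL hpL (isPGroup_of_elemAb hAe)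
      (le_normalizer.trans hNL)
  have hAC : A ≤ centralizer (B : Set G) := by
    intro a ha
    rw [mem_centralizer_iff]
    intro b hb
    exact (hcomm a ha b hb).symm
  have hbot : A ≤ ⊥ := by
    rw [← hd]
    exact le_inf hAσ hAC
  exact hA1 (le_bot_iff.mp hbot)

/-- **S1432** (Bender–Glauberman Lemma 14.3) from the frozen statements S1417, S1418, S1420, S1430, S1431 -/
theorem statement_S1432 (hG : IsMinSimpleOddOrder G) (h17 : Cfsg.Agent.Lib.Helper33_BG16Hyp.H1417 G)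
    (h18 : Cfsg.Agent.Lib.Helper33_BG16Hyp.H1418 G) (h20 : H1420 G) (h30 : H1430 G) (h31 : H1431 G)
    (M : Subgroup G) (hM : IsCoatom M) (x : G) (hx : x ∈ Cfsg.sigmaCore M) (hx1 : x ≠ 1) (x' : G)
    (hx' : x' ∈ M ⊓ Subgroup.centralizer ({x} : Set G)) (hx'1 : x' ≠ 1)
    (hσ : ∀ p : ℕ, p.Prime → p ∣ orderOf x' → p ∉ Cfsg.sigma M) :
    ((∀ p : ℕ, p.Prime → p ∣ orderOf x' → p ∈ Cfsg.kappa M) ∧ Subgroup.centralizer ({x} : Set G) ≤ M) ∨
      ((∀ p : ℕ, p.Prime → p ∣ orderOf x' → p ∈ Cfsg.tau2 M) ∧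
        (∃ L : Subgroup G, IsCoatom L ∧ ∀ p : ℕ, p.Prime → p ∣ orderOf x' → p ∈ Cfsg.sigma L) ∧
        (Subgroup.centralizer ({x'} : Set G) ≤ M ∧ ∀ L : Subgroup G, IsCoatom L → Subgroup.centralizer ({x'} : Set G) ≤ L → L = M)) := by
  obtain ⟨hx'M, hx'c⟩ := Subgroup.mem_inf.mp hx'
  have hc : x' * x = x * x' := mem_centralizer_singleton_iff.mp hx'c
  by_cases hτ : ∀ p : ℕ, p.Prime → p ∣ orderOf x' → p ∈ tau2 M
  · right
    exact ⟨hτ, case_tau2 hG h17 h18 h20 hM hx hx1 hx'M hc hx'1 hσ hτ⟩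
  · left
    push Not at hτ
    obtain ⟨p, hp, hpd, hpτ⟩ := hτ
    exact case_kappa hG h30 h31 hM hx hx1 hx'M hc hσ hp hpd hpτ

end Finite

end Cfsg.Agent.Lib.Helper25_BG143
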