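import Mathlib
import Cfsg.Prelude.Def_OddOrderLocal
import Cfsg.Agent.Lib.Helper25_BG14a
import Cfsg.Agent.Lib.Helper25_BGHyp

/-!
# The cosets `x R(x)` are pairwise disjoint (helper25)

Statement S1433 from the frozen statement S1375 (Bender–Glauberman Theorem 14.4, in the packaged form),
`σ`-disjointness (second clause of S1378) and the fact that `M_σ` is a Hall `σ(M)`-subgroup of `M`, all as
explicit hypotheses.
-/

set_option autoImplicit false

namespace Cfsg.Agent.Lib.Helper25_BG144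

open Subgroup Cfsg Cfsg.Agent.Lib.Helper22_Radical Cfsg.Agent.Lib.Helper25_BG14a
  Cfsg.Agent.Lib.Helper25_BGHyp

universe u

variable {G : Type u} [Group G]

/-! ### `π`-elements -/

/-- `g` is a `π`-element -/
def PiElt (π : Set ℕ) (g : G) : Prop := ∀ p : ℕ, p.Prime → p ∣ orderOf g → p ∈ π

theorem piElt_one (π : Set ℕ) : PiElt π (1 : G) := by
  intro p hp hd
  rw [orderOf_one] at hd
  exact absurd (Nat.dvd_one.mp hd) hp.one_lt.ne'

theorem PiElt.of_mem_zpowers {π : Set ℕ} {g w : G} (hg : PiElt π g) (hw : w ∈ zpowers g) : PiElt π w :=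
  fun p hp hd => hg p hp (hd.trans (orderOf_dvd_of_mem_zpowers hw))

theorem PiElt.mul {π : Set ℕ} {a b : G} (ha : PiElt π a) (hb : PiElt π b) (hc : Commute a b) :
    PiElt π (a * b) := by
  intro p hp hd
  have h1 : p ∣ Nat.lcm (orderOf a) (orderOf b) := hd.trans hc.orderOf_mul_dvd_lcm
  have h2 : p ∣ orderOf a * orderOf b := h1.trans (Nat.lcm_dvd_mul _ _)
  rcases (Nat.Prime.dvd_mul hp).mp h2 with h | h
  · exact ha p hp h
  · exact hb p hp h

theorem PiElt.inv {π : Set ℕ} {a : G} (ha : PiElt π a) : PiElt π a⁻¹ := by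
  intro p hp hd
  rw [orderOf_inv] at hd
  exact ha p hp hd

section Finite

variable [Finite G]

omit [Finite G] in
theorem eq_one_of_piElt_compl {π : Set ℕ} {g : G} (h1 : PiElt π g) (h2 : PiElt πᶜ g) : g = 1 := by
  by_contra hne
  have ho1 : orderOf g ≠ 1 := fun h => hne (orderOf_eq_one_iff.mp h)
  obtain ⟨p, hp, hd⟩ := Nat.exists_prime_and_dvd ho1
  exact h2 p hp hd (h1 p hp hd)

omit [Finite G] in
theorem mem_zpowers_mul_left {x r : G} (hc : Commute x r) : ∀ {w : G}, w ∈ zpowers (x * r) →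
    ∃ k : ℤ, w = x ^ k * r ^ k := by
  intro w hw
  obtain ⟨k, rfl⟩ := mem_zpowers_iff.mp hw
  exact ⟨k, hc.mul_zpow k⟩

omit [Finite G] in
/-- the `π`-part and the `π'`-part of an element of `⟨x r⟩` -/
theorem mem_zpowers_of_piElt {π : Set ℕ} {x r : G} (hc : Commute x r) (hx : PiElt πᶜ x) (hr : PiElt π r)
    {w : G} (hw : w ∈ zpowers (x * r)) :
    (PiElt π w → w ∈ zpowers r) ∧ (PiElt πᶜ w → w ∈ zpowers x) := by
  obtain ⟨k, rfl⟩ := mem_zpowers_mul_left hc hw
  have hck : Commute (x ^ k) (r ^ k) := (hc.zpow_right k).zpow_left k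
  have hxk : PiElt πᶜ (x ^ k) := hx.of_mem_zpowers (zpow_mem (mem_zpowers x) k)
  have hrk : PiElt π (r ^ k) := hr.of_mem_zpowers (zpow_mem (mem_zpowers r) k)
  constructor
  · intro hw'
    have h1 : x ^ k = (x ^ k * r ^ k) * (r ^ k)⁻¹ := by group
    have h2 : PiElt π (x ^ k) := by
      rw [h1]
      refine hw'.mul hrk.inv ?_
      have : Commute (x ^ k * r ^ k) (r ^ k) := (hck.mul_left (Commute.refl _))
      exact this.inv_right
    rw [eq_one_of_piElt_compl h2 hxk, one_mul]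
    exact zpow_mem (mem_zpowers r) k
  · intro hw'
    have h1 : r ^ k = (x ^ k)⁻¹ * (x ^ k * r ^ k) := by group
    have h2 : PiElt πᶜ (r ^ k) := by
      rw [h1]
      refine hxk.inv.mul hw' ?_
      have : Commute (x ^ k) (x ^ k * r ^ k) := ((Commute.refl _).mul_right hck)
      exact this.inv_left
    have h3' := eq_one_of_piElt_compl hrk h2
    rw [h3', mul_one]
    exact zpow_mem (mem_zpowers x) k

theorem piElt_of_mem_sigmaCore {M : Subgroup G} {g : G} (hg : g ∈ sigmaCore M) : PiElt (sigma M) g := by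
  intro p hp hd
  have h2 : orderOf g ∣ Nat.card (sigmaCore M) := by
    have := orderOf_dvd_natCard (⟨g, hg⟩ : sigmaCore M)
    rwa [Subgroup.orderOf_mk] at this
  exact Cfsg.Agent.Lib.Helper70_BG1012.card_sigmaCore_mem M p hp (hd.trans h2)

omit [Finite G] in
theorem exists_prime_of_ne_one {g : G} (hg : g ≠ 1) : ∃ p : ℕ, p.Prime ∧ p ∣ orderOf g :=
  Nat.exists_prime_and_dvd (fun h => hg (orderOf_eq_one_iff.mp h))

/-! ### complements -/

omit [Finite G] in
theorem card_isComplIn {A B L : Subgroup G} (h : IsComplIn A B L) :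
    Nat.card A * Nat.card B = Nat.card L := by
  obtain ⟨hA, hB, hAB, hL⟩ := h
  rw [← Nat.card_prod]
  refine Nat.card_congr (Equiv.ofBijective (fun p : A × B => (⟨p.1 * p.2, mul_mem (hA p.1.2) (hB p.2.2)⟩ : L)) ⟨?_, ?_⟩)
  · rintro ⟨a, b⟩ ⟨a', b'⟩ h
    have h1 : (a : G) * b = a' * b' := congrArg Subtype.val h
    have h2 : (a' : G)⁻¹ * a = b' * (b : G)⁻¹ := by
      calc (a' : G)⁻¹ * a = (a' : G)⁻¹ * (a * b) * (b : G)⁻¹ := by group
        _ = (a' : G)⁻¹ * (a' * b') * (b : G)⁻¹ := by rw [h1]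
        _ = b' * (b : G)⁻¹ := by group
    have h3 : (a' : G)⁻¹ * a ∈ A ⊓ B :=
      Subgroup.mem_inf.mpr ⟨mul_mem (inv_mem a'.2) a.2, by rw [h2]; exact mul_mem b'.2 (inv_mem b.2)⟩
    rw [hAB, Subgroup.mem_bot] at h3
    have h4 : (b' : G) * (b : G)⁻¹ = 1 := by rw [← h2, h3]
    have ha : (a : G) = a' := by
      calc (a : G) = a' * ((a' : G)⁻¹ * a) := by group
        _ = a' := by rw [h3, mul_one]
    have hb : (b : G) = b' := by
      calc (b : G) = ((b' : G) * (b : G)⁻¹)⁻¹ * b' := by group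
        _ = b' := by rw [h4, inv_one, one_mul]
    exact Prod.ext (Subtype.ext ha) (Subtype.ext hb)
  · rintro ⟨m, hm⟩
    obtain ⟨a, ha, b, hb, rfl⟩ := hL m hm
    exact ⟨(⟨a, ha⟩, ⟨b, hb⟩), rfl⟩

/-- `M_σ` is a Hall `σ(M)`-subgroup of `M`, for every maximal `M` -/
def SigmaHall (G : Type u) [Group G] : Prop :=
  ∀ L : Subgroup G, IsCoatom L → ∀ p ∈ sigma L, ¬ p ∣ (piCore (sigma L) ↥L).index

/-- elements of a complement of `L_σ` in `L` are `σ(L)'`-elements -/
theorem piElt_compl_of_isComplIn (hH : SigmaHall G) {L E : Subgroup G} (hL : IsCoatom L)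
    (hE : IsComplIn E (sigmaCore L) L) {g : G} (hg : g ∈ E) : PiElt (sigma L)ᶜ g := by
  intro p hp hd hpσ
  have h1 := card_isComplIn hE
  have h2 : Nat.card (sigmaCore L) = Nat.card (piCore (sigma L) ↥L) := by
    unfold sigmaCore
    rw [Subgroup.card_map_of_injective L.subtype_injective]
  have h3 : (piCore (sigma L) ↥L).index * Nat.card (piCore (sigma L) ↥L) = Nat.card L :=
    Subgroup.index_mul_card _
  have h4 : Nat.card E = (piCore (sigma L) ↥L).index := by
    rw [h2] at h1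
    have hpos : 0 < Nat.card (piCore (sigma L) ↥L) := Nat.card_pos
    apply Nat.eq_of_mul_eq_mul_right hpos
    rw [h1, h3]
  have h5 : orderOf g ∣ Nat.card E := by
    have := orderOf_dvd_natCard (⟨g, hg⟩ : E)
    rwa [Subgroup.orderOf_mk] at this
  apply hH L hL p hpσ
  rw [← h4]
  exact hd.trans h5


omit [Finite G] in
theorem coprime_of_piElt {π : Set ℕ} {x r : G} (hx : PiElt πᶜ x) (hr : PiElt π r) :
    (orderOf x).Coprime (orderOf r) :=
  Nat.coprime_of_dvd fun p hp h1 h2 => hx p hp h1 (hr p hp h2)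

/-! ### the support `R(x)` -/

/-- data attached to `x ∈ M_σ^#` with `C_G(x) ⊄ M` -/
structure NData (M L : Subgroup G) (x : G) : Prop where
  coatom : IsCoatom L
  cent_le : centralizer ({x} : Set G) ≤ L
  uniq : ∀ L' : Subgroup G, IsCoatom L' → centralizer ({x} : Set G) ≤ L' → L' = L
  compl : IsComplIn (M ⊓ L) (sigmaCore L) L
  supp : supportR M x = sigmaCore L ⊓ centralizer ({x} : Set G)

omit [Finite G] in
theorem supportR_cases (h75 : H1375 G) {M : Subgroup G} (hM : IsCoatom M) {x : G}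
    (hx : x ∈ sigmaCore M) (hx1 : x ≠ 1) :
    (centralizer ({x} : Set G) ≤ M ∧ supportR M x = ⊥) ∨
      (¬ centralizer ({x} : Set G) ≤ M ∧ ∃ L : Subgroup G, NData M L x) := by
  by_cases h : centralizer ({x} : Set G) ≤ M
  · left
    refine ⟨h, ?_⟩
    unfold supportR
    rw [dif_neg]
    rintro ⟨h1, -⟩
    exact h1 h
  · right
    refine ⟨h, ?_⟩
    obtain ⟨N, ⟨hN, hxN⟩, huniq, hσF, -, -, hcompl, -⟩ := h75 M hM x hx hx1 h
    refine ⟨N, hN, hxN, huniq, hcompl, ?_⟩
    have hex : ∃! L : Subgroup G, IsCoatom L ∧ centralizer ({x} : Set G) ≤ L :=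
      ⟨N, ⟨hN, hxN⟩, fun L hL => huniq L hL.1 hL.2⟩
    have hcond : ¬ centralizer ({x} : Set G) ≤ M ∧
        ∃! L : Subgroup G, IsCoatom L ∧ centralizer ({x} : Set G) ≤ L := ⟨h, hex⟩
    unfold supportR
    rw [dif_pos hcond]
    have hch : Classical.choose hcond.2.exists = N := by
      have hs := Classical.choose_spec hcond.2.exists
      exact huniq _ hs.1 hs.2
    rw [hch, hσF]

section Main

variable (hSD : SigmaDisj G) (hH : SigmaHall G)

include hSD in
/-- a nonidentity element in two `σ`-cores forces the same `σ` -/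
theorem sigma_eq_of_mem {N L : Subgroup G} (hN : IsCoatom N) (hL : IsCoatom L) {r : G}
    (hrN : r ∈ sigmaCore N) (hrL : r ∈ sigmaCore L) (hr1 : r ≠ 1) : sigma L = sigma N := by
  obtain ⟨p, hp, hd⟩ := exists_prime_of_ne_one hr1
  obtain ⟨g, hg⟩ := hSD N L hN hL ⟨p, piElt_of_mem_sigmaCore hrN p hp hd, piElt_of_mem_sigmaCore hrL p hp hd⟩
  rw [hg]
  exact sigma_cj g N

omit [Finite G] in
theorem NData.mem_left {M L : Subgroup G} {x : G} (h : NData M L x) (hx : x ∈ sigmaCore M) :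
    x ∈ M ⊓ L :=
  Subgroup.mem_inf.mpr ⟨Subgroup.map_subtype_le _ hx,
    h.cent_le (mem_centralizer_singleton_iff.mpr rfl)⟩

include hH in
theorem NData.piElt {M L : Subgroup G} {x : G} (h : NData M L x) (hx : x ∈ sigmaCore M) :
    PiElt (sigma L)ᶜ x :=
  piElt_compl_of_isComplIn hH h.coatom h.compl (h.mem_left hx)

include hSD hH in
/-- Lemma B: `x r = y ∈ N_σ` forces `r = 1` -/
theorem eq_one_of_mul_mem {M N L : Subgroup G} (hN : IsCoatom N) {x y r : G}
    (hd : NData M L x) (hx : x ∈ sigmaCore M) (hx1 : x ≠ 1)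
    (hr : r ∈ sigmaCore L ⊓ centralizer ({x} : Set G)) (hy : y ∈ sigmaCore N) (h : x * r = y) :
    r = 1 := by
  by_contra hr1
  obtain ⟨hrL, hrx⟩ := Subgroup.mem_inf.mp hr
  have hc : Commute x r := (mem_centralizer_singleton_iff.mp hrx).symm
  have hxπ : PiElt (sigma L)ᶜ x := hd.piElt hH hx
  have hrπ : PiElt (sigma L) r := piElt_of_mem_sigmaCore hrL
  have hcop := coprime_of_piElt hxπ hrπ
  obtain ⟨n, hn⟩ := exists_pow_mul_eq_right hc hcop
  obtain ⟨m, hm⟩ := exists_pow_mul_eq_left hc hcop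
  rw [h] at hn hm
  have hrN : r ∈ sigmaCore N := by rw [← hn]; exact Subgroup.pow_mem _ hy _
  have hxN : x ∈ sigmaCore N := by rw [← hm]; exact Subgroup.pow_mem _ hy _
  have hσ := sigma_eq_of_mem hSD hN hd.coatom hrN hrL hr1
  have hxπ' : PiElt (sigma L) x := by rw [hσ]; exact piElt_of_mem_sigmaCore hxN
  exact hx1 (eq_one_of_piElt_compl hxπ' hxπ)

include hSD hH in
/-- Lemma C -/
theorem eq_of_mul_eq_mul (h75 : H1375 G) {M N L L' : Subgroup G} (hM : IsCoatom M) (hN : IsCoatom N)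
    {x y r s : G}
    (hd : NData M L x) (hd' : NData N L' y) (hx : x ∈ sigmaCore M) (hy : y ∈ sigmaCore N)
    (hx1 : x ≠ 1) (hy1 : y ≠ 1)
    (hr : r ∈ sigmaCore L ⊓ centralizer ({x} : Set G)) (hs : s ∈ sigmaCore L' ⊓ centralizer ({y} : Set G))
    (hr1 : r ≠ 1) (hs1 : s ≠ 1) (h : x * r = y * s) : x = y := by
  obtain ⟨hrL, hrx⟩ := Subgroup.mem_inf.mp hr
  obtain ⟨hsL, hsy⟩ := Subgroup.mem_inf.mp hs
  have hc : Commute x r := (mem_centralizer_singleton_iff.mp hrx).symm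
  have hc' : Commute y s := (mem_centralizer_singleton_iff.mp hsy).symm
  have hxπ : PiElt (sigma L)ᶜ x := hd.piElt hH hx
  have hrπ : PiElt (sigma L) r := piElt_of_mem_sigmaCore hrL
  have hyπ : PiElt (sigma L')ᶜ y := hd'.piElt hH hy
  have hsπ : PiElt (sigma L') s := piElt_of_mem_sigmaCore hsL
  have hcop := coprime_of_piElt hxπ hrπ
  have hcop' := coprime_of_piElt hyπ hsπ
  -- everything is a power of z
  obtain ⟨a, ha⟩ := exists_pow_mul_eq_left hc hcop
  obtain ⟨b, hb⟩ := exists_pow_mul_eq_right hc hcop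
  obtain ⟨c, hc2⟩ := exists_pow_mul_eq_left hc' hcop'
  obtain ⟨d, hd2⟩ := exists_pow_mul_eq_right hc' hcop'
  rw [← h] at hc2 hd2
  set z := x * r with hz
  have hxz : x ∈ zpowers z := by rw [← ha]; exact Subgroup.pow_mem _ (mem_zpowers z) _
  have hrz : r ∈ zpowers z := by rw [← hb]; exact Subgroup.pow_mem _ (mem_zpowers z) _
  have hyz : y ∈ zpowers z := by rw [← hc2]; exact Subgroup.pow_mem _ (mem_zpowers z) _
  have hsz : s ∈ zpowers z := by rw [← hd2]; exact Subgroup.pow_mem _ (mem_zpowers z) _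
  by_cases hne : (sigma L ∩ sigma L').Nonempty
  · obtain ⟨g, hg⟩ := hSD L L' hd.coatom hd'.coatom hne
    have hσ : sigma L' = sigma L := by rw [hg]; exact sigma_cj g L
    rw [hσ] at hyπ hsπ
    -- y⁻¹ x = s r⁻¹
    have hxy : Commute x y := by rw [← ha, ← hc2]; exact (Commute.refl z).pow_pow a c
    have hsr : Commute s r := by rw [← hd2, ← hb]; exact (Commute.refl z).pow_pow d b
    have he : y⁻¹ * x = s * r⁻¹ := by
      calc y⁻¹ * x = y⁻¹ * (x * r) * r⁻¹ := by group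
        _ = y⁻¹ * (y * s) * r⁻¹ := by rw [← hz, h]
        _ = s * r⁻¹ := by group
    have h1 : PiElt (sigma L)ᶜ (y⁻¹ * x) := hyπ.inv.mul hxπ hxy.symm.inv_left
    have h2 : PiElt (sigma L) (y⁻¹ * x) := by
      rw [he]; exact hsπ.mul hrπ.inv hsr.inv_right
    have h3 := eq_one_of_piElt_compl h2 h1
    calc x = y * (y⁻¹ * x) := by group
      _ = y := by rw [h3, mul_one]
  · exfalso
    have hdisj : ∀ p : ℕ, p ∈ sigma L → p ∉ sigma L' := fun p h1 h2 => hne ⟨p, h1, h2⟩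
    -- r ∈ ⟨y⟩
    have hr' : PiElt (sigma L')ᶜ r := fun p hp hdv => hdisj p (hrπ p hp hdv)
    have hzz : z = y * s := h
    have hrz' : r ∈ zpowers (y * s) := by rw [← hzz]; exact hrz
    have hry : r ∈ zpowers y := (mem_zpowers_of_piElt hc' hyπ hsπ hrz').2 hr'
    have hrN : r ∈ sigmaCore N := by
      obtain ⟨k, rfl⟩ := mem_zpowers_iff.mp hry
      exact Subgroup.zpow_mem _ hy _
    have hσLN := sigma_eq_of_mem hSD hN hd.coatom hrN hrL hr1
    -- y ∈ ⟨r⟩ ≤ L_σ
    have hy' : PiElt (sigma L) y := by rw [hσLN]; exact piElt_of_mem_sigmaCore hy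
    have hyr : y ∈ zpowers r := (mem_zpowers_of_piElt hc hxπ hrπ hyz).1 hy'
    have hyL : y ∈ sigmaCore L := by
      obtain ⟨k, rfl⟩ := mem_zpowers_iff.mp hyr
      exact Subgroup.zpow_mem _ hrL _
    -- s ∈ ⟨x⟩
    have hs' : PiElt (sigma L)ᶜ s := fun p hp hdv h1 => hdisj p h1 (hsπ p hp hdv)
    have hsx : s ∈ zpowers x := (mem_zpowers_of_piElt hc hxπ hrπ hsz).2 hs'
    have hsM : s ∈ sigmaCore M := by
      obtain ⟨k, rfl⟩ := mem_zpowers_iff.mp hsx
      exact Subgroup.zpow_mem _ hx _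
    have hσL'M := sigma_eq_of_mem hSD hM hd'.coatom hsM hsL hs1
    have hx' : PiElt (sigma L') x := by rw [hσL'M]; exact piElt_of_mem_sigmaCore hx
    have hxz' : x ∈ zpowers (y * s) := by rw [← hzz]; exact hxz
    have hxs : x ∈ zpowers s := (mem_zpowers_of_piElt hc' hyπ hsπ hxz').1 hx'
    have hxL' : x ∈ sigmaCore L' := by
      obtain ⟨k, rfl⟩ := mem_zpowers_iff.mp hxs
      exact Subgroup.zpow_mem _ hsL _
    by_cases hyc : centralizer ({y} : Set G) ≤ L
    · have hLL' : L = L' := hd'.uniq L hd.coatom hyc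
      obtain ⟨p, hp, hdv⟩ := exists_prime_of_ne_one hr1
      apply hne
      refine ⟨p, hrπ p hp hdv, ?_⟩
      rw [← hLL']
      exact hrπ p hp hdv
    · obtain ⟨N₂, ⟨hN₂, hyN₂⟩, huniq₂, -, -, -, hcompl₂, -⟩ := h75 L hd.coatom y hyL hy1 hyc
      have hL'N₂ : L' = N₂ := huniq₂ L' hd'.coatom hd'.cent_le
      rw [← hL'N₂] at hcompl₂
      have hxLL' : x ∈ (L ⊓ L') ⊓ sigmaCore L' := by
        refine Subgroup.mem_inf.mpr ⟨Subgroup.mem_inf.mpr ⟨?_, Subgroup.map_subtype_le _ hxL'⟩, hxL'⟩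
        exact hd.cent_le (mem_centralizer_singleton_iff.mpr rfl)
      rw [hcompl₂.2.2.1, Subgroup.mem_bot] at hxLL'
      exact hx1 hxLL'

include hSD hH in
/-- **Statement S1433** from the frozen statement S1375, `σ`-disjointness and the Hall property of `M_σ`. -/
theorem statement_S1433 (h75 : H1375 G)
    (M N : Subgroup G) (hM : IsCoatom M) (hN : IsCoatom N) (x y : G) (hx : x ∈ Cfsg.sigmaCore M) (hy : y ∈ Cfsg.sigmaCore N)
    (hx1 : x ≠ 1) (hy1 : y ≠ 1) (hxy : x ≠ y) :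
    ∀ r ∈ Cfsg.supportR M x, ∀ s ∈ Cfsg.supportR N y, x * r ≠ y * s := by
  intro r hr s hs h
  rcases supportR_cases h75 hM hx hx1 with ⟨-, hR⟩ | ⟨-, L, hd⟩
  · rw [hR, Subgroup.mem_bot] at hr
    rcases supportR_cases h75 hN hy hy1 with ⟨-, hR'⟩ | ⟨-, L', hd'⟩
    · rw [hR', Subgroup.mem_bot] at hs
      rw [hr, hs, mul_one, mul_one] at h
      exact hxy h
    · rw [hd'.supp] at hs
      rw [hr, mul_one] at h
      have hs1 := eq_one_of_mul_mem hSD hH hM hd' hy hy1 hs hx h.symm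
      rw [hs1, mul_one] at h
      exact hxy h
  · rw [hd.supp] at hr
    rcases supportR_cases h75 hN hy hy1 with ⟨-, hR'⟩ | ⟨-, L', hd'⟩
    · rw [hR', Subgroup.mem_bot] at hs
      rw [hs, mul_one] at h
      have hr1 := eq_one_of_mul_mem hSD hH hN hd hx hx1 hr hy h
      rw [hr1, mul_one] at h
      exact hxy h
    · rw [hd'.supp] at hs
      by_cases hr1 : r = 1
      · rw [hr1, mul_one] at h
        have hs1 := eq_one_of_mul_mem hSD hH hM hd' hy hy1 hs hx h.symm
        rw [hs1, mul_one] at h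
        exact hxy h
      · by_cases hs1 : s = 1
        · rw [hs1, mul_one] at h
          have hr1' := eq_one_of_mul_mem hSD hH hN hd hx hx1 hr hy h
          exact hr1 hr1'
        · exact hxy (eq_of_mul_eq_mul hSD hH h75 hM hN hd hd' hx hy hx1 hy1 hr hs hr1 hs1 h)

end Main

end Finite

end Cfsg.Agent.Lib.Helper25_BG144
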