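import Cfsg.Agent.Lib.Helper24_CoprimeHall
import Cfsg.Agent.Lib.Helper22_BGTrans
import Cfsg.Agent.Lib.Helper31_ThreeStepMain
import Cfsg.Prelude.Def_OddOrderLocal

/-!
# Bender–Glauberman, Theorem A (2)-(4): the standard factorisation `M = K U M_σ` (helper34)

Everything is proved from earlier statements of the chain taken as explicit hypotheses:
* `HσHall G` : the first assertion of S1350 (`M_σ` is a Hall `σ(M)`-subgroup of `M`);
* `H1430 G` : the statement S1430 (prime action of a Hall `κ(M)`-subgroup).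

Main results: `statement_S1352`, `statement_S1353`, `statement_S1354`.
-/

set_option autoImplicit false
set_option linter.unusedSectionVars false

namespace Cfsg.Agent.Lib.Helper34_BG16a

open Subgroup Cfsg Cfsg.Agent.Lib.Helper24_CoprimeHall Cfsg.Agent.Lib.Helper24_CoprimeAction

variable {G : Type*} [Group G]

/-! ### generalities -/

theorem mem_normalizer_sup' {A B : Subgroup G} {g : G} (hA : g ∈ normalizer (A : Set G))
    (hB : g ∈ normalizer (B : Set G)) : g ∈ normalizer ((A ⊔ B : Subgroup G) : Set G) := by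
  rw [Subgroup.mem_normalizer_iff_map_conj_eq] at hA hB ⊢
  rw [Subgroup.map_sup, hA, hB]

theorem mem_normalizer_inf' {A B : Subgroup G} {g : G} (hA : g ∈ normalizer (A : Set G))
    (hB : g ∈ normalizer (B : Set G)) : g ∈ normalizer ((A ⊓ B : Subgroup G) : Set G) :=
  Subgroup.inf_normalizer_le_normalizer_inf ⟨hA, hB⟩

/-- a complement from a count -/
theorem isComplIn_of_card [Finite G] {A B M : Subgroup G} (hA : A ≤ M) (hB : B ≤ M)
    (hAB : A ⊓ B = ⊥) (hc : Nat.card A * Nat.card B = Nat.card M) : IsComplIn A B M := by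
  refine ⟨hA, hB, hAB, ?_⟩
  let f : A × B → M := fun ab => ⟨(ab.1 : G) * (ab.2 : G), mul_mem (hA ab.1.2) (hB ab.2.2)⟩
  have hinj : Function.Injective f := by
    rintro ⟨⟨a, ha⟩, ⟨b, hb⟩⟩ ⟨⟨a', ha'⟩, ⟨b', hb'⟩⟩ heq
    have heq' : a * b = a' * b' := congrArg Subtype.val heq
    have h1 : a'⁻¹ * a = b' * b⁻¹ := by
      calc a'⁻¹ * a = a'⁻¹ * (a * b) * b⁻¹ := by group
        _ = b' * b⁻¹ := by rw [heq']; group
    have h2 : a'⁻¹ * a ∈ A ⊓ B := by
      refine Subgroup.mem_inf.mpr ⟨mul_mem (inv_mem ha') ha, ?_⟩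
      rw [h1]; exact mul_mem hb' (inv_mem hb)
    rw [hAB, Subgroup.mem_bot] at h2
    have h3 : a = a' := (inv_mul_eq_one.mp h2).symm
    have h4 : b = b' := by
      rw [h3] at heq'
      exact mul_left_cancel heq'
    subst h3; subst h4; rfl
  have hbij : Function.Bijective f :=
    (Nat.bijective_iff_injective_and_card f).mpr ⟨hinj, by rw [Nat.card_prod, hc]⟩
  intro m hm
  obtain ⟨⟨a, b⟩, hab⟩ := hbij.2 ⟨m, hm⟩
  exact ⟨a, a.2, b, b.2, (congrArg Subtype.val hab).symm⟩

/-- Cardinality of an internal complement decomposition. -/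
theorem card_of_isComplIn {A B M : Subgroup G} (h : IsComplIn A B M) :
    Nat.card A * Nat.card B = Nat.card M := by
  obtain ⟨hA, hB, hAB, hdec⟩ := h
  rw [← Nat.card_prod]
  apply Nat.card_congr
  refine Equiv.ofBijective
    (fun ab : A × B => (⟨(ab.1 : G) * (ab.2 : G), mul_mem (hA ab.1.2) (hB ab.2.2)⟩ : M)) ⟨?_, ?_⟩
  · rintro ⟨⟨a, ha⟩, ⟨b, hb⟩⟩ ⟨⟨a', ha'⟩, ⟨b', hb'⟩⟩ heq
    have heq' : a * b = a' * b' := congrArg Subtype.val heq
    have h1 : a'⁻¹ * a = b' * b⁻¹ := by
      calc a'⁻¹ * a = a'⁻¹ * (a * b) * b⁻¹ := by group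
        _ = b' * b⁻¹ := by rw [heq']; group
    have h2 : a'⁻¹ * a ∈ A ⊓ B := by
      refine Subgroup.mem_inf.mpr ⟨mul_mem (inv_mem ha') ha, ?_⟩
      rw [h1]; exact mul_mem hb' (inv_mem hb)
    rw [hAB, Subgroup.mem_bot] at h2
    have h3 : a = a' := (inv_mul_eq_one.mp h2).symm
    have h4 : b = b' := by
      rw [h3] at heq'
      exact mul_left_cancel heq'
    subst h3; subst h4; rfl
  · rintro ⟨m, hm⟩
    obtain ⟨a, ha, b, hb, hmab⟩ := hdec m hm
    exact ⟨(⟨a, ha⟩, ⟨b, hb⟩), Subtype.ext hmab.symm⟩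

/-- Hall subgroups for complementary sets of primes have complementary orders. -/
theorem card_mul_of_piHall_compl [Finite G] {π π' : Set ℕ} {H H' M : Subgroup G}
    (h : PiHall π H M) (h' : PiHall π' H' M)
    (hdisj : ∀ p : ℕ, p.Prime → p ∈ π → p ∉ π') (hcov : ∀ p : ℕ, p.Prime → p ∈ π ∨ p ∈ π') :
    Nat.card H * Nat.card H' = Nat.card M := by
  have e1 := h.card_mul
  have e2 := h'.card_mul
  set a := Nat.card M / Nat.card H with ha
  set b := Nat.card M / Nat.card H' with hb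
  have c1 : (Nat.card H').Coprime (Nat.card H) :=
    Nat.coprime_of_dvd fun p hp hpH' hpH => hdisj p hp (h.2.1 p hp hpH) (h'.2.1 p hp hpH')
  have d1 : Nat.card H' ∣ a := by
    have : Nat.card H' ∣ Nat.card H * a := by rw [e1]; exact Subgroup.card_dvd_of_le h'.1
    exact c1.dvd_of_dvd_mul_left this
  have c2 : a.Coprime b := by
    refine Nat.coprime_of_dvd fun p hp hpa hpb => ?_
    rcases hcov p hp with hpπ | hpπ'
    · exact h.2.2 p hp hpπ hpa
    · exact h'.2.2 p hp hpπ' hpb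
  have d2 : a ∣ Nat.card H' := by
    have : a ∣ Nat.card H' * b := by rw [e2]; exact Dvd.intro_left _ e1
    exact c2.dvd_of_dvd_mul_right this
  rw [Nat.dvd_antisymm d1 d2]
  exact e1


/-- a subgroup of order prime to the index of a (relatively) normal subgroup lies in it -/
theorem le_of_coprime_relIndex [Finite G] {A N M : Subgroup G} (hA : A ≤ M) (hN : N ≤ M)
    (hMN : M ≤ normalizer (N : Set G)) (h : (Nat.card A).Coprime (Nat.card M / Nat.card N)) :
    A ≤ N := by
  intro x hx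
  have : (N.subgroupOf M).Normal := (normal_subgroupOf_iff_le_normalizer hN).mpr hMN
  have hidx : (N.subgroupOf M).index = Nat.card M / Nat.card N := by
    have := relIndex_eq_div hN
    rwa [Subgroup.relIndex] at this
  set y : M := ⟨x, hA hx⟩ with hy
  set q := QuotientGroup.mk' (N.subgroupOf M) y with hq
  have h1 : orderOf q ∣ Nat.card M / Nat.card N := by
    rw [← hidx]; exact orderOf_dvd_natCard _
  have h2 : orderOf q ∣ orderOf y := orderOf_map_dvd _ y
  have h3 : orderOf y ∣ Nat.card A := by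
    have h31 := orderOf_dvd_natCard (⟨x, hx⟩ : A)
    rw [Subgroup.orderOf_mk] at h31
    have h32 : orderOf y = orderOf x := by rw [hy, Subgroup.orderOf_mk]
    rwa [h32]
  have h4 : (orderOf q).Coprime (orderOf q) :=
    Nat.Coprime.coprime_dvd_left (h2.trans h3) (Nat.Coprime.coprime_dvd_right h1 h)
  rw [Nat.coprime_self, orderOf_eq_one_iff] at h4
  rw [hq, QuotientGroup.mk'_apply, QuotientGroup.eq_one_iff] at h4
  exact h4

/-! ### the hypotheses -/

/-- the first assertion of S1350, as a hypothesis -/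
def HσHall (G : Type*) [Group G] : Prop :=
  ∀ M : Subgroup G, IsCoatom M → IsPiHallOf (sigma M) (sigmaCore M) M

/-- the statement S1430, as a hypothesis -/
def H1430 (G : Type*) [Group G] : Prop :=
  ∀ (M : Subgroup G), IsCoatom M → ∀ K : Subgroup G, IsPiHallOf (kappa M) K M → K ≠ ⊥ →
    (∀ k ∈ K, k ≠ 1 → sigmaCore M ⊓ centralizer ({k} : Set G) =
      sigmaCore M ⊓ centralizer (K : Set G)) ∧
    (∃ U : Subgroup G, IsMulCommutative U ∧
        IsPiHallOf {q | q.Prime ∧ q ∉ kappa M ∧ q ∉ sigma M} U M ∧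
        K ≤ normalizer (U : Set G) ∧ ∀ k ∈ K, k ≠ 1 → U ⊓ centralizer ({k} : Set G) = ⊥) ∧
    ∀ X : Subgroup G, X ≤ K → (Nat.card X).Prime →
        M ⊓ normalizer (X : Set G) = K ⊔ (sigmaCore M ⊓ centralizer (K : Set G)) ∧
        M ⊓ normalizer (K : Set G) = K ⊔ (sigmaCore M ⊓ centralizer (K : Set G)) ∧
        ∀ Mstar : Subgroup G, IsCoatom Mstar → normalizer (X : Set G) ≤ Mstar →
          X ≤ sigmaCore Mstar

/-- `M_σ ≠ 1` for every maximal subgroup, as a hypothesis -/
def HσNe (G : Type*) [Group G] : Prop :=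
  ∀ M : Subgroup G, IsCoatom M → sigmaCore M ≠ ⊥

/-! ### basic facts on `M_σ` and `κ(M)` -/

theorem sC_le (M : Subgroup G) : sigmaCore M ≤ M :=
  Cfsg.Agent.Lib.Helper22_BGTrans.piCoreOf_le _ _

theorem sC_normal (M : Subgroup G) : M ≤ normalizer ((sigmaCore M : Subgroup G) : Set G) :=
  Cfsg.Agent.Lib.Helper22_BGTrans.le_normalizer_piCoreOf _ _

theorem sC_primes [Finite G] (M : Subgroup G) :
    ∀ p : ℕ, p.Prime → p ∣ Nat.card (sigmaCore M) → p ∈ sigma M :=
  Cfsg.Agent.Lib.Helper22_BGTrans.piCoreOf_primes _ _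

theorem not_sigma_of_kappa {M : Subgroup G} {p : ℕ} (h : p ∈ kappa M) : p ∉ sigma M := h.2.2.1

/-- the primes outside `κ(M) ∪ σ(M)` -/
def rest (M : Subgroup G) : Set ℕ := {q | q.Prime ∧ q ∉ kappa M ∧ q ∉ sigma M}

section Finite

variable [Finite G]

/-- `K M_σ` for a Hall `κ(M)`-subgroup `K` and `M_σ` a Hall `σ(M)`-subgroup -/
structure KS (M K : Subgroup G) : Prop where
  hK : PiHall (kappa M) K M
  hS : PiHall (sigma M) (sigmaCore M) M

namespace KS

variable {M K : Subgroup G}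

theorem coprime (h : KS M K) : (Nat.card K).Coprime (Nat.card (sigmaCore M)) :=
  Nat.coprime_of_dvd fun p hp hpK hpS =>
    not_sigma_of_kappa (h.hK.2.1 p hp hpK) (h.hS.2.1 p hp hpS)

theorem disj (h : KS M K) : sigmaCore M ⊓ K = ⊥ :=
  (Subgroup.disjoint_of_coprime_natCard h.coprime.symm).eq_bot

theorem K_norm (h : KS M K) : K ≤ normalizer ((sigmaCore M : Subgroup G) : Set G) :=
  h.hK.1.trans (sC_normal M)

theorem sup_le (h : KS M K) : K ⊔ sigmaCore M ≤ M := _root_.sup_le h.hK.1 (sC_le M)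

theorem card_sup (h : KS M K) :
    Nat.card ↥(K ⊔ sigmaCore M) = Nat.card K * Nat.card (sigmaCore M) := by
  rw [sup_comm, card_sup_of_disjoint' K (sigmaCore M) h.K_norm h.disj, mul_comm]

theorem hall_sup (h : KS M K) : PiHall (kappa M ∪ sigma M) (K ⊔ sigmaCore M) M := by
  refine ⟨h.sup_le, ?_, ?_⟩
  · intro p hp hpd
    rw [h.card_sup] at hpd
    rcases (Nat.Prime.dvd_mul hp).mp hpd with h1 | h1
    · exact Or.inl (h.hK.2.1 p hp h1)
    · exact Or.inr (h.hS.2.1 p hp h1)
  · intro p hp hpπ hpd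
    have hL : Nat.card ↥(K ⊔ sigmaCore M) ∣ Nat.card M := Subgroup.card_dvd_of_le h.sup_le
    have key : ∀ X : Subgroup G, X ≤ K ⊔ sigmaCore M →
        Nat.card M / Nat.card ↥(K ⊔ sigmaCore M) ∣ Nat.card M / Nat.card X := by
      intro X hX
      have hXL : Nat.card X ∣ Nat.card ↥(K ⊔ sigmaCore M) := Subgroup.card_dvd_of_le hX
      obtain ⟨c, hc⟩ := hXL
      obtain ⟨d, hd⟩ := hL
      have hXpos : 0 < Nat.card X := Nat.card_pos
      have hLpos : 0 < Nat.card ↥(K ⊔ sigmaCore M) := Nat.card_pos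
      rw [hd, Nat.mul_div_cancel_left _ hLpos, hc, mul_assoc, Nat.mul_div_cancel_left _ hXpos]
      exact Dvd.intro_left _ rfl
    rcases hpπ with h1 | h1
    · exact h.hK.2.2 p hp h1 (hpd.trans (key K le_sup_left))
    · exact h.hS.2.2 p hp h1 (hpd.trans (key _ le_sup_right))

/-- a Hall subgroup for the remaining primes is a complement of `K M_σ` -/
theorem card_rest (h : KS M K) {U : Subgroup G} (hU : PiHall (rest M) U M) :
    Nat.card U * Nat.card ↥(K ⊔ sigmaCore M) = Nat.card M := by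
  refine card_mul_of_piHall_compl hU h.hall_sup ?_ ?_
  · rintro p hp ⟨-, h1, h2⟩ (h3 | h3)
    · exact h1 h3
    · exact h2 h3
  · intro p hp
    by_cases h1 : p ∈ kappa M
    · exact Or.inr (Or.inl h1)
    · by_cases h2 : p ∈ sigma M
      · exact Or.inr (Or.inr h2)
      · exact Or.inl ⟨hp, h1, h2⟩

theorem disj_rest (h : KS M K) {U : Subgroup G} (hU : PiHall (rest M) U M) :
    U ⊓ (K ⊔ sigmaCore M) = ⊥ := by
  refine (Subgroup.disjoint_of_coprime_natCard ?_).eq_bot
  refine Nat.coprime_of_dvd fun p hp hpU hpL => ?_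
  obtain ⟨-, h1, h2⟩ := hU.2.1 p hp hpU
  rcases h.hall_sup.2.1 p hp hpL with h3 | h3
  · exact h1 h3
  · exact h2 h3

theorem isComplIn_rest (h : KS M K) {U : Subgroup G} (hU : PiHall (rest M) U M) :
    IsComplIn U (K ⊔ sigmaCore M) M :=
  isComplIn_of_card hU.1 h.sup_le (h.disj_rest hU) (h.card_rest hU)

/-- conversely a complement of `K M_σ` is a Hall subgroup for the remaining primes -/
theorem piHall_of_isComplIn (h : KS M K) {U : Subgroup G} (hU : IsComplIn U (K ⊔ sigmaCore M) M) :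
    PiHall (rest M) U M := by
  have hc := card_of_isComplIn hU
  have hLpos : 0 < Nat.card ↥(K ⊔ sigmaCore M) := Nat.card_pos
  have hUpos : 0 < Nat.card U := Nat.card_pos
  have e1 : Nat.card M / Nat.card ↥(K ⊔ sigmaCore M) = Nat.card U := by
    rw [← hc, Nat.mul_div_cancel _ hLpos]
  have e2 : Nat.card M / Nat.card U = Nat.card ↥(K ⊔ sigmaCore M) := by
    rw [← hc, Nat.mul_div_cancel_left _ hUpos]
  refine ⟨hU.1, ?_, ?_⟩
  · intro p hp hpd
    rw [← e1] at hpd
    refine ⟨hp, fun h1 => ?_, fun h1 => ?_⟩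
    · exact h.hall_sup.2.2 p hp (Or.inl h1) hpd
    · exact h.hall_sup.2.2 p hp (Or.inr h1) hpd
  · rintro p hp ⟨-, h1, h2⟩ hpd
    rw [e2] at hpd
    rcases h.hall_sup.2.1 p hp hpd with h3 | h3
    · exact h1 h3
    · exact h2 h3

end KS


/-! ### the statements -/

theorem ks_of (hσ : HσHall G) {M K : Subgroup G} (hM : IsCoatom M)
    (hK : IsPiHallOf (kappa M) K M) : KS M K :=
  ⟨(isPiHallOf_iff _ _ _).mp hK, (isPiHallOf_iff _ _ _).mp (hσ M hM)⟩

omit [Finite G] in
theorem solv (hG : IsMinSimpleOddOrder G) {M : Subgroup G} (hM : IsCoatom M) :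
    Group.IsSolvable ↥M :=
  Cfsg.Agent.Lib.Helper31_ThreeStepMain.isSolvable_of_ne_top hG hM.1

theorem exists_U (hG : IsMinSimpleOddOrder G) (h30 : H1430 G) {M K : Subgroup G}
    (hM : IsCoatom M) (hK : IsPiHallOf (kappa M) K M) :
    ∃ U : Subgroup G, PiHall (rest M) U M ∧ K ≤ normalizer (U : Set G) := by
  by_cases hK1 : K = ⊥
  · obtain ⟨U, hU⟩ := exists_piHall (rest M) M (solv hG hM)
    exact ⟨U, hU, by rw [hK1]; exact bot_le⟩
  · obtain ⟨-, ⟨U, -, hU, hKU, -⟩, -⟩ := h30 M hM K hK hK1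
    exact ⟨U, (isPiHallOf_iff _ _ _).mp hU, hKU⟩

omit [Finite G] in
/-- `U M_σ` is normal in `M` -/
theorem le_normalizer_U_sup {M K U : Subgroup G} (hU : IsSigmaDecomposition M K U) :
    M ≤ normalizer ((U ⊔ sigmaCore M : Subgroup G) : Set G) := by
  intro m hm
  obtain ⟨a, ha, b, hb, rfl⟩ := hU.compl.2.2.2 m hm
  have h1 : U ⊔ sigmaCore M ≤ normalizer ((U ⊔ sigmaCore M : Subgroup G) : Set G) :=
    Subgroup.le_normalizer
  have h2 : K ⊔ sigmaCore M ≤ normalizer ((U ⊔ sigmaCore M : Subgroup G) : Set G) := by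
    apply _root_.sup_le
    · intro k hk
      exact mem_normalizer_sup' (hU.normal hk) (sC_normal M (hU.hall.1 hk))
    · exact le_sup_right.trans h1
  exact mul_mem (h1 (le_sup_left (a := U) ha)) (h2 hb)

/-- the statement S1352, from S1350 and S1430 -/
theorem statement_S1352 (hG : IsMinSimpleOddOrder G) (hσ : HσHall G) (h30 : H1430 G)
    (M : Subgroup G) (hM : IsCoatom M) (K : Subgroup G)
    (hKc : IsCyclic K) (hK : IsPiHallOf (kappa M) K M) :
    (∃ U : Subgroup G, IsSigmaDecomposition M K U) ∧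
      ∀ U : Subgroup G, IsSigmaDecomposition M K U →
        M ≤ normalizer ((U ⊔ sigmaCore M : Subgroup G) : Set G) := by
  have hks := ks_of hσ hM hK
  refine ⟨?_, fun U hU => le_normalizer_U_sup hU⟩
  obtain ⟨U, hU, hKU⟩ := exists_U hG h30 hM hK
  exact ⟨U, ⟨hKc, hK, hks.isComplIn_rest hU, hKU⟩⟩

/-- the statement S1353, from S1350 and S1430 -/
theorem statement_S1353 (hG : IsMinSimpleOddOrder G) (hσ : HσHall G) (h30 : H1430 G)
    (M : Subgroup G) (hM : IsCoatom M) (K U : Subgroup G) (hKU : IsSigmaDecomposition M K U) :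
    ∀ k ∈ K, k ≠ 1 → U ⊓ centralizer ({k} : Set G) = ⊥ := by
  intro k hk hk1
  have hK1 : K ≠ ⊥ := fun h => hk1 (by rw [h] at hk; exact Subgroup.mem_bot.mp hk)
  have hks := ks_of hσ hM hKU.hall
  obtain ⟨-, ⟨U₀, -, hU₀', hKU₀, hfree⟩, -⟩ := h30 M hM K hKU.hall hK1
  have hU₀ : PiHall (rest M) U₀ M := (isPiHallOf_iff _ _ _).mp hU₀'
  have hU : PiHall (rest M) U M := hks.piHall_of_isComplIn hKU.compl
  set L : Subgroup G := U ⊔ sigmaCore M with hL
  have hLM : L ≤ M := _root_.sup_le hU.1 (sC_le M)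
  have hML : M ≤ normalizer (L : Set G) := le_normalizer_U_sup hKU
  have hcopUσ : (Nat.card U).Coprime (Nat.card (sigmaCore M)) :=
    Nat.coprime_of_dvd fun p hp hpU hpS => (hU.2.1 p hp hpU).2.2 (sC_primes M p hp hpS)
  have hUσ : sigmaCore M ⊓ U = ⊥ :=
    (Subgroup.disjoint_of_coprime_natCard hcopUσ.symm).eq_bot
  have hcL : Nat.card L = Nat.card U * Nat.card (sigmaCore M) := by
    rw [hL, sup_comm, card_sup_of_disjoint' U (sigmaCore M) (hU.1.trans (sC_normal M)) hUσ,
      mul_comm]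
  have hidx : Nat.card M / Nat.card L = Nat.card K := by
    have h1 := hks.card_rest hU
    rw [hks.card_sup] at h1
    have hpos : 0 < Nat.card U * Nat.card (sigmaCore M) :=
      Nat.mul_pos Nat.card_pos Nat.card_pos
    rw [← h1, hcL]
    have : Nat.card U * (Nat.card K * Nat.card (sigmaCore M)) =
        Nat.card U * Nat.card (sigmaCore M) * Nat.card K := by ring
    rw [this, Nat.mul_div_cancel_left _ hpos]
  have hcopK : ∀ X : Subgroup G, (∀ p : ℕ, p.Prime → p ∣ Nat.card X → p ∉ kappa M) →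
      (Nat.card X).Coprime (Nat.card K) := fun X hX =>
    Nat.coprime_of_dvd fun p hp hpX hpK => hX p hp hpX (hks.hK.2.1 p hp hpK)
  have hU₀L : U₀ ≤ L := le_of_coprime_relIndex hU₀.1 hLM hML (by
    rw [hidx]
    exact hcopK U₀ fun p hp hpd => (hU₀.2.1 p hp hpd).2.1)
  have hKL : K ≤ normalizer (L : Set G) := hKU.hall.1.trans hML
  have hcop : (Nat.card K).Coprime (Nat.card L) := by
    refine (hcopK L fun p hp hpd => ?_).symm
    rw [hcL] at hpd
    rcases (Nat.Prime.dvd_mul hp).mp hpd with h1 | h1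
    · exact (hU.2.1 p hp h1).2.1
    · exact fun h2 => not_sigma_of_kappa h2 (sC_primes M p hp h1)
  have hsolvL : Group.IsSolvable ↥L :=
    Cfsg.Agent.Lib.Helper24_CoprimeAction.isSolvable_of_le hLM (solv hG hM)
  have hUL : PiHall (rest M) U L := by
    refine ⟨le_sup_left, hU.2.1, fun p hp hpπ hpd => ?_⟩
    rw [hcL, Nat.mul_div_cancel_left _ Nat.card_pos] at hpd
    exact hpπ.2.2 (sC_primes M p hp hpd)
  have hU₀L' : PiHall (rest M) U₀ L := hUL.of_card_eq hU₀L (hU₀.card_eq hU)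
  obtain ⟨c, hc, hcU⟩ := invariant_piHall_conj K L hKL hcop hsolvL (rest M) U U₀ hUL hU₀L'
    hKU.normal hKU₀
  rw [eq_bot_iff]
  intro x hx
  rw [Subgroup.mem_bot]
  obtain ⟨hxU, hxk⟩ := Subgroup.mem_inf.mp hx
  have h1 : c * x * c⁻¹ ∈ U₀ := by
    rw [← hcU]
    exact ⟨x, hxU, rfl⟩
  have hck : k * c = c * k := Subgroup.mem_centralizer_iff.mp hc.2 k hk
  have hxk' : x * k = k * x := Subgroup.mem_centralizer_singleton_iff.mp hxk
  have h2 : c * x * c⁻¹ ∈ centralizer ({k} : Set G) := by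
    rw [Subgroup.mem_centralizer_singleton_iff]
    have hck' : c⁻¹ * k = k * c⁻¹ := by
      calc c⁻¹ * k = c⁻¹ * (k * c) * c⁻¹ := by group
        _ = c⁻¹ * (c * k) * c⁻¹ := by rw [hck]
        _ = k * c⁻¹ := by group
    symm
    calc k * (c * x * c⁻¹) = (k * c) * x * c⁻¹ := by group
      _ = c * (k * x) * c⁻¹ := by rw [hck]; group
      _ = c * x * (k * c⁻¹) := by rw [← hxk']; group
      _ = c * x * c⁻¹ * k := by rw [← hck']; group
  have h4 : c * x * c⁻¹ ∈ U₀ ⊓ centralizer ({k} : Set G) := ⟨h1, h2⟩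
  rw [hfree k hk hk1, Subgroup.mem_bot] at h4
  calc x = c⁻¹ * (c * x * c⁻¹) * c := by group
    _ = 1 := by rw [h4]; group

/-- an element of prime order in `⟨k⟩` -/
theorem exists_prime_order_pow {k : G} (hk1 : k ≠ 1) :
    ∃ n : ℕ, (orderOf (k ^ n)).Prime := by
  have hn : orderOf k ≠ 1 := fun h => hk1 (orderOf_eq_one_iff.mp h)
  obtain ⟨p, hp, hpd⟩ := Nat.exists_prime_and_dvd hn
  refine ⟨orderOf k / p, ?_⟩
  have hpos : 0 < orderOf k := orderOf_pos k
  rw [orderOf_pow' k (by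
    intro h0
    have := Nat.div_mul_cancel hpd
    rw [h0, zero_mul] at this
    omega), Nat.gcd_eq_right (Nat.div_dvd_of_dvd hpd), Nat.div_div_self hpd hpos.ne']
  exact hp

/-- the statement S1354, from S1430 and `M_σ ≠ 1` -/
theorem statement_S1354 (hG : IsMinSimpleOddOrder G) (hne : HσNe G) (h30 : H1430 G)
    (M : Subgroup G) (hM : IsCoatom M) (K : Subgroup G)
    (hKc : IsCyclic K) (hK : IsPiHallOf (kappa M) K M) :
    sigmaCore M ⊓ centralizer (K : Set G) ≠ ⊥ ∧
      (K ≠ ⊥ → ∀ k ∈ K, k ≠ 1 →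
        M ⊓ centralizer ({k} : Set G) = K ⊔ (sigmaCore M ⊓ centralizer (K : Set G))) := by
  have hKP : PiHall (kappa M) K M := (isPiHallOf_iff _ _ _).mp hK
  refine ⟨?_, ?_⟩
  · by_cases hK1 : K = ⊥
    · have : centralizer ((K : Subgroup G) : Set G) = ⊤ := by
        rw [hK1, Subgroup.coe_bot, Subgroup.centralizer_eq_top_iff_subset]
        intro x hx
        rw [Set.mem_singleton_iff.mp hx]
        exact Subgroup.one_mem _
      rw [this, inf_top_eq]
      exact hne M hM
    · obtain ⟨hprime, -, -⟩ := h30 M hM K hK hK1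
      -- a prime dividing `|K|`
      have hcard : Nat.card K ≠ 1 := fun h => hK1 (Subgroup.card_eq_one.mp h)
      obtain ⟨p, hp, hpd⟩ := Nat.exists_prime_and_dvd hcard
      have hpκ : p ∈ kappa M := hKP.2.1 p hp hpd
      have : Fact p.Prime := ⟨hp⟩
      obtain ⟨P⟩ : Nonempty (Sylow p M) := inferInstance
      obtain ⟨-, x, hxP, hx1, y, hy, hy1, hxy⟩ := hpκ.2.2.2 P
      -- `⟨x⟩` is a `κ(M)`-subgroup
      have hxM : zpowers (x : G) ≤ M := by
        rw [Subgroup.zpowers_le]; exact x.2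
      have hxp : ∀ q : ℕ, q.Prime → q ∣ Nat.card (zpowers (x : G)) → q ∈ kappa M := by
        intro q hq hqd
        rw [Nat.card_zpowers] at hqd
        have hPp : IsPGroup p (P : Subgroup M) := P.isPGroup'
        obtain ⟨n, hn⟩ := hPp ⟨x, hxP⟩
        have h1 : (x : G) ^ p ^ n = 1 := by
          have := congrArg (fun z : (P : Subgroup M) => ((z : M) : G)) hn
          simpa using this
        have h2 : q ∣ p ^ n := hqd.trans (orderOf_dvd_of_pow_eq_one h1)
        have h3 : q = p := (Nat.prime_dvd_prime_iff_eq hq hp).mp (hq.dvd_of_dvd_pow h2)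
        rw [h3]; exact hpκ
      obtain ⟨H, hH, hxH⟩ := exists_piHall_ge (solv hG hM) hxM hxp
      obtain ⟨g, hg, hgH⟩ := piHall_conj (solv hG hM) hH hKP
      -- the conjugates
      have hk : g * (x : G) * g⁻¹ ∈ K := by
        rw [← hgH]
        exact ⟨(x : G), hxH (Subgroup.mem_zpowers _), rfl⟩
      have hk1 : g * (x : G) * g⁻¹ ≠ 1 := by
        intro h
        apply hx1
        apply Subtype.ext
        have : (x : G) = g⁻¹ * (g * (x : G) * g⁻¹) * g := by group
        rw [this, h]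
        simp
      have hy' : g * y * g⁻¹ ∈ sigmaCore M :=
        ((Subgroup.mem_normalizer_iff.mp (sC_normal M hg)) y).mp hy
      have hy1' : g * y * g⁻¹ ≠ 1 := by
        intro h
        apply hy1
        have : y = g⁻¹ * (g * y * g⁻¹) * g := by group
        rw [this, h]
        simp
      have hcomm : g * y * g⁻¹ ∈ centralizer ({g * (x : G) * g⁻¹} : Set G) := by
        rw [Subgroup.mem_centralizer_singleton_iff]
        symm
        calc g * (x : G) * g⁻¹ * (g * y * g⁻¹) = g * ((x : G) * y) * g⁻¹ := by group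
          _ = g * (y * (x : G)) * g⁻¹ := by rw [hxy]
          _ = g * y * g⁻¹ * (g * (x : G) * g⁻¹) := by group
      have hmem : g * y * g⁻¹ ∈ sigmaCore M ⊓ centralizer ({g * (x : G) * g⁻¹} : Set G) :=
        ⟨hy', hcomm⟩
      rw [hprime _ hk hk1] at hmem
      intro hbot
      rw [hbot, Subgroup.mem_bot] at hmem
      exact hy1' hmem
  · intro hK1 k hk hk1
    obtain ⟨-, -, hN⟩ := h30 M hM K hK hK1
    apply le_antisymm
    · intro x hx
      obtain ⟨hxM, hxk⟩ := Subgroup.mem_inf.mp hx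
      obtain ⟨n, hn⟩ := exists_prime_order_pow hk1
      have hXK : zpowers (k ^ n) ≤ K := by
        rw [Subgroup.zpowers_le]; exact pow_mem hk n
      have hXc : (Nat.card (zpowers (k ^ n))).Prime := by
        rw [Nat.card_zpowers]; exact hn
      rw [← (hN _ hXK hXc).1]
      refine ⟨hxM, ?_⟩
      apply Subgroup.centralizer_le_normalizer
      rw [Subgroup.mem_centralizer_iff]
      intro z hz
      obtain ⟨j, rfl⟩ := Subgroup.mem_zpowers_iff.mp hz
      have hxk' : x * k = k * x := Subgroup.mem_centralizer_singleton_iff.mp hxk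
      have : Commute x k := hxk'
      exact ((this.pow_right n).zpow_right j).eq.symm
    · apply _root_.sup_le
      · intro z hz
        refine ⟨hK.1 hz, ?_⟩
        show z ∈ centralizer ({k} : Set G)
        rw [Subgroup.mem_centralizer_singleton_iff]
        obtain ⟨g, hg⟩ := hKc.exists_generator
        obtain ⟨a, ha⟩ := Subgroup.mem_zpowers_iff.mp (hg ⟨k, hk⟩)
        obtain ⟨b, hb⟩ := Subgroup.mem_zpowers_iff.mp (hg ⟨z, hz⟩)
        have ha' : k = (g : G) ^ a := by
          have := congrArg (fun w : K => (w : G)) ha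
          simpa using this.symm
        have hb' : z = (g : G) ^ b := by
          have := congrArg (fun w : K => (w : G)) hb
          simpa using this.symm
        rw [ha', hb']
        exact (zpow_mul_comm (g : G) b a)
      · intro z hz
        obtain ⟨hzS, hzC⟩ := Subgroup.mem_inf.mp hz
        refine ⟨sC_le M hzS, ?_⟩
        show z ∈ centralizer ({k} : Set G)
        rw [Subgroup.mem_centralizer_singleton_iff]
        exact (Subgroup.mem_centralizer_iff.mp hzC k hk).symm

end Finite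

end Cfsg.Agent.Lib.Helper34_BG16a
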