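import Cfsg.Prelude.Def_OddOrderLocal
import Cfsg.Agent.Lib.Helper1_Hall

/-!
# Bookkeeping for the standard factorisation `M = K U M_σ` (helper39)

Elementary facts on `Cfsg.IsComplIn`, `Cfsg.sigmaCore` and `Cfsg.IsSigmaDecomposition` that need no group theory
beyond Hall's conjugacy theorem: complements of a normal subgroup can be swapped, a complement pair generates,
orders multiply, `M_σ` is normal in `M`, a standard factorisation can be conjugated by an element of `M`, and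
two complements of a normal Hall subgroup of a solvable group are conjugate.
-/

set_option autoImplicit false

namespace Cfsg.Agent.Lib.Helper39_BGBasic

open Cfsg
open scoped Pointwise

variable {G : Type*} [Group G]

/-- conjugation by `g` as a map of subgroups -/
abbrev cjg (g : G) (H : Subgroup G) : Subgroup G := H.map (MulAut.conj g).toMonoidHom

theorem mem_cjg {g x : G} {H : Subgroup G} : x ∈ cjg g H ↔ g⁻¹ * x * g ∈ H := by
  constructor
  · rintro ⟨y, hy, rfl⟩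
    simpa [mul_assoc] using hy
  · intro h
    exact ⟨g⁻¹ * x * g, h, by simp [mul_assoc]⟩

theorem cjg_eq_self {g : G} {H : Subgroup G} (hg : g ∈ Subgroup.normalizer (H : Set G)) : cjg g H = H := by
  ext x
  rw [mem_cjg]
  have h := (Subgroup.mem_normalizer_iff.mp (inv_mem hg)) x
  rw [inv_inv] at h
  exact h.symm

theorem cjg_eq_self_of_mem {g : G} {H : Subgroup G} (hg : g ∈ H) : cjg g H = H :=
  cjg_eq_self (Subgroup.le_normalizer hg)

theorem card_cjg (g : G) (H : Subgroup G) : Nat.card ↥(cjg g H) = Nat.card H :=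
  Subgroup.card_map_of_injective (MulAut.conj g).injective

theorem relIndex_cjg (g : G) (H K : Subgroup G) : (cjg g H).relIndex (cjg g K) = H.relIndex K :=
  Subgroup.relIndex_map_map_of_injective _ _ (MulAut.conj g).injective

theorem cjg_sup (g : G) (H K : Subgroup G) : cjg g (H ⊔ K) = cjg g H ⊔ cjg g K :=
  Subgroup.map_sup H K _

theorem cjg_inf (g : G) (H K : Subgroup G) : cjg g (H ⊓ K) = cjg g H ⊓ cjg g K :=
  Subgroup.map_inf H K _ (MulAut.conj g).injective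

theorem cjg_bot (g : G) : cjg g (⊥ : Subgroup G) = ⊥ := Subgroup.map_bot _

theorem cjg_mono {g : G} {H K : Subgroup G} (h : H ≤ K) : cjg g H ≤ cjg g K := Subgroup.map_mono h

theorem isCyclic_cjg (g : G) (H : Subgroup G) [IsCyclic H] : IsCyclic ↥(cjg g H) := by
  have e : H ≃* ↥(cjg g H) := H.equivMapOfInjective _ (MulAut.conj g).injective
  exact isCyclic_of_surjective e e.surjective

theorem normalizer_cjg (g : G) (H : Subgroup G) :
    Subgroup.normalizer ((cjg g H : Subgroup G) : Set G) = cjg g (Subgroup.normalizer (H : Set G)) := by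
  ext x
  rw [mem_cjg, Subgroup.mem_normalizer_iff, Subgroup.mem_normalizer_iff]
  constructor
  · intro h y
    have := h (g * y * g⁻¹)
    rw [mem_cjg, mem_cjg] at this
    have e1 : g⁻¹ * (g * y * g⁻¹) * g = y := by group
    have e2 : g⁻¹ * (x * (g * y * g⁻¹) * x⁻¹) * g = g⁻¹ * x * g * y * (g⁻¹ * x * g)⁻¹ := by group
    rw [e1, e2] at this
    exact this
  · intro h y
    rw [mem_cjg, mem_cjg]
    have := h (g⁻¹ * y * g)
    have e2 : g⁻¹ * x * g * (g⁻¹ * y * g) * (g⁻¹ * x * g)⁻¹ = g⁻¹ * (x * y * x⁻¹) * g := by group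
    rw [e2] at this
    exact this

/-! ### `IsComplIn` -/

theorem IsComplIn.sup_eq {A B M : Subgroup G} (h : IsComplIn A B M) : A ⊔ B = M := by
  apply le_antisymm (sup_le h.1 h.2.1)
  intro m hm
  obtain ⟨a, ha, b, hb, rfl⟩ := h.2.2.2 m hm
  exact mul_mem (Subgroup.mem_sup_left ha) (Subgroup.mem_sup_right hb)

theorem IsComplIn.symm_of_normal {A B M : Subgroup G} (h : IsComplIn A B M)
    (hA : M ≤ Subgroup.normalizer (A : Set G)) : IsComplIn B A M := by
  refine ⟨h.2.1, h.1, by rw [inf_comm]; exact h.2.2.1, ?_⟩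
  intro m hm
  obtain ⟨a, ha, b, hb, rfl⟩ := h.2.2.2 m hm
  refine ⟨b, hb, b⁻¹ * a * b, ?_, by group⟩
  have hb' : b⁻¹ ∈ Subgroup.normalizer (A : Set G) := hA (inv_mem (h.2.1 hb))
  have := (Subgroup.mem_normalizer_iff.mp hb' a).mp ha
  simpa using this

theorem IsComplIn.symm_of_normal' {A B M : Subgroup G} (h : IsComplIn A B M)
    (hB : M ≤ Subgroup.normalizer (B : Set G)) : IsComplIn B A M := by
  refine ⟨h.2.1, h.1, by rw [inf_comm]; exact h.2.2.1, ?_⟩
  intro m hm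
  obtain ⟨a, ha, b, hb, rfl⟩ := h.2.2.2 m hm
  refine ⟨a * b * a⁻¹, ?_, a, ha, by group⟩
  have ha' : a ∈ Subgroup.normalizer (B : Set G) := hB (h.1 ha)
  exact (Subgroup.mem_normalizer_iff.mp ha' b).mp hb

theorem IsComplIn.card_mul [Finite G] {A B M : Subgroup G} (h : IsComplIn A B M) :
    Nat.card A * Nat.card B = Nat.card M := by
  classical
  have hdisj : ∀ a₁ ∈ A, ∀ a₂ ∈ A, ∀ b₁ ∈ B, ∀ b₂ ∈ B, a₁ * b₁ = a₂ * b₂ → a₁ = a₂ ∧ b₁ = b₂ := by
    intro a₁ ha₁ a₂ ha₂ b₁ hb₁ b₂ hb₂ he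
    have h1 : a₂⁻¹ * a₁ = b₂ * b₁⁻¹ := by
      have : a₂⁻¹ * (a₁ * b₁) * b₁⁻¹ = a₂⁻¹ * (a₂ * b₂) * b₁⁻¹ := by rw [he]
      simpa [mul_assoc] using this
    have h2 : a₂⁻¹ * a₁ ∈ A ⊓ B :=
      Subgroup.mem_inf.mpr ⟨mul_mem (inv_mem ha₂) ha₁, h1 ▸ mul_mem hb₂ (inv_mem hb₁)⟩
    rw [h.2.2.1, Subgroup.mem_bot] at h2
    have e1 : a₁ = a₂ := by
      have := congrArg (a₂ * ·) h2
      simpa using this
    refine ⟨e1, ?_⟩
    subst e1
    exact mul_left_cancel he
  let f : A × B → M := fun x => ⟨x.1.1 * x.2.1, mul_mem (h.1 x.1.2) (h.2.1 x.2.2)⟩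
  have hf : Function.Bijective f := by
    constructor
    · rintro ⟨⟨a₁, ha₁⟩, ⟨b₁, hb₁⟩⟩ ⟨⟨a₂, ha₂⟩, ⟨b₂, hb₂⟩⟩ he
      have he' : a₁ * b₁ = a₂ * b₂ := congrArg Subtype.val he
      obtain ⟨e1, e2⟩ := hdisj a₁ ha₁ a₂ ha₂ b₁ hb₁ b₂ hb₂ he'
      subst e1 e2
      rfl
    · rintro ⟨m, hm⟩
      obtain ⟨a, ha, b, hb, rfl⟩ := h.2.2.2 m hm
      exact ⟨(⟨a, ha⟩, ⟨b, hb⟩), rfl⟩
  rw [← Nat.card_prod, Nat.card_eq_of_bijective f hf]

/-- elements of `U N` with `U` normalizing `N` are products `n * u` -/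
theorem exists_mul_of_mem_sup {N U : Subgroup G} (h : U ≤ Subgroup.normalizer (N : Set G)) {m : G}
    (hm : m ∈ U ⊔ N) : ∃ n ∈ N, ∃ u ∈ U, m = n * u := by
  let S : Subgroup G :=
    { carrier := {m | ∃ n ∈ N, ∃ u ∈ U, m = n * u}
      one_mem' := ⟨1, one_mem _, 1, one_mem _, (one_mul 1).symm⟩
      mul_mem' := by
        rintro _ _ ⟨n₁, hn₁, u₁, hu₁, rfl⟩ ⟨n₂, hn₂, u₂, hu₂, rfl⟩
        refine ⟨n₁ * (u₁ * n₂ * u₁⁻¹), mul_mem hn₁ ?_, u₁ * u₂, mul_mem hu₁ hu₂, by group⟩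
        exact (Subgroup.mem_normalizer_iff.mp (h hu₁) n₂).mp hn₂
      inv_mem' := by
        rintro _ ⟨n, hn, u, hu, rfl⟩
        refine ⟨u⁻¹ * n⁻¹ * u⁻¹⁻¹, ?_, u⁻¹, inv_mem hu, by group⟩
        exact (Subgroup.mem_normalizer_iff.mp (h (inv_mem hu)) n⁻¹).mp (inv_mem hn) }
  have hle : U ⊔ N ≤ S := by
    apply sup_le
    · intro u hu
      exact ⟨1, one_mem _, u, hu, (one_mul u).symm⟩
    · intro n hn
      exact ⟨n, hn, 1, one_mem _, (mul_one n).symm⟩
  exact hle hm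

/-- a subgroup `U` meeting a subgroup `N` trivially and normalizing it is a complement to `N` in `U N` -/
theorem isComplIn_sup {N U : Subgroup G} (h : U ≤ Subgroup.normalizer (N : Set G)) (hd : N ⊓ U = ⊥) :
    IsComplIn N U (U ⊔ N) :=
  ⟨le_sup_right, le_sup_left, hd, fun _ hm => exists_mul_of_mem_sup h hm⟩

theorem IsComplIn.cjg {A B M : Subgroup G} (h : IsComplIn A B M) (g : G) :
    IsComplIn (cjg g A) (cjg g B) (cjg g M) := by
  refine ⟨cjg_mono h.1, cjg_mono h.2.1, by rw [← cjg_inf, h.2.2.1, cjg_bot], ?_⟩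
  rintro _ ⟨m, hm, rfl⟩
  obtain ⟨a, ha, b, hb, rfl⟩ := h.2.2.2 m hm
  exact ⟨_, ⟨a, ha, rfl⟩, _, ⟨b, hb, rfl⟩, by simp⟩

/-! ### `M_σ` -/

theorem sigmaCore_le (M : Subgroup G) : sigmaCore M ≤ M := Subgroup.map_subtype_le _

theorem le_normalizer_sigmaCore (M : Subgroup G) : M ≤ Subgroup.normalizer (sigmaCore M : Set G) := by
  intro m hm
  rw [Subgroup.mem_normalizer_iff]
  intro x
  have hN : (piCore (sigma M) ↥M).Normal := inferInstance
  constructor
  · rintro ⟨y, hy, rfl⟩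
    exact ⟨⟨m, hm⟩ * y * ⟨m, hm⟩⁻¹, hN.conj_mem y hy ⟨m, hm⟩, rfl⟩
  · rintro ⟨y, hy, hyx⟩
    have hx : x = m⁻¹ * (y : G) * m := by
      have : (y : G) = m * x * m⁻¹ := hyx
      rw [this]; group
    refine ⟨⟨m, hm⟩⁻¹ * y * ⟨m, hm⟩, ?_, ?_⟩
    · have := hN.conj_mem y hy (⟨m, hm⟩⁻¹)
      simpa using this
    · rw [hx]; rfl

theorem cjg_sigmaCore_of_mem {M : Subgroup G} {g : G} (hg : g ∈ M) : cjg g (sigmaCore M) = sigmaCore M :=
  cjg_eq_self (le_normalizer_sigmaCore M hg)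

/-! ### conjugating a standard factorisation inside `M` -/

theorem IsPiHallOf.cjg_of_mem {π : Set ℕ} {H M : Subgroup G} (h : IsPiHallOf π H M) {g : G} (hg : g ∈ M) :
    IsPiHallOf π (cjg g H) M := by
  have hM : cjg g M = M := cjg_eq_self_of_mem hg
  refine ⟨?_, ?_, ?_⟩
  · rw [← hM]; exact cjg_mono h.1
  · intro p hp hd
    rw [card_cjg] at hd
    exact h.2.1 p hp hd
  · intro p hp hpπ
    have := h.2.2 p hp hpπ
    rwa [← relIndex_cjg g, hM] at this

theorem IsSigmaDecomposition.cjg_of_mem {M K U : Subgroup G} (h : IsSigmaDecomposition M K U) {g : G}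
    (hg : g ∈ M) : IsSigmaDecomposition M (cjg g K) (cjg g U) := by
  have hM : cjg g M = M := cjg_eq_self_of_mem hg
  refine ⟨?_, IsPiHallOf.cjg_of_mem h.hall hg, ?_, ?_⟩
  · have := h.cyclic
    exact isCyclic_cjg g K
  · have := IsComplIn.cjg h.compl g
    rwa [cjg_sup, cjg_sigmaCore_of_mem hg, hM] at this
  · rw [normalizer_cjg]
    exact cjg_mono h.normal

/-! ### conjugacy of complements of a normal Hall subgroup -/

/-- Two complements, inside a solvable subgroup `D`, of a subgroup `N` of order coprime to its index in `D`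
are conjugate under `D`. -/
theorem exists_cjg_eq_of_isComplIn [Finite G] {D N A B : Subgroup G} (hsolv : Group.IsSolvable ↥D)
    (hA : IsComplIn N A D) (hB : IsComplIn N B D) (hcop : (Nat.card N).Coprime (N.relIndex D)) :
    ∃ g ∈ D, cjg g A = B := by
  have hcA := IsComplIn.card_mul hA
  have hcB := IsComplIn.card_mul hB
  have hND : Nat.card N * N.relIndex D = Nat.card D := by
    have h := Subgroup.relIndex_mul_relIndex (⊥ : Subgroup G) N D bot_le hA.1
    rwa [Subgroup.relIndex_bot_left, Subgroup.relIndex_bot_left] at h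
  have hA' : Nat.card A = N.relIndex D :=
    Nat.eq_of_mul_eq_mul_left Nat.card_pos (hcA.trans hND.symm)
  have hB' : Nat.card B = N.relIndex D :=
    Nat.eq_of_mul_eq_mul_left Nat.card_pos (hcB.trans hND.symm)
  have e1 : Nat.card (A.subgroupOf D) = N.relIndex D := by
    rw [Nat.card_congr (Subgroup.subgroupOfEquivOfLe hA.2.1).toEquiv, hA']
  have e2 : Nat.card (B.subgroupOf D) = N.relIndex D := by
    rw [Nat.card_congr (Subgroup.subgroupOfEquivOfLe hB.2.1).toEquiv, hB']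
  obtain ⟨g, hg⟩ := Cfsg.Agent.Lib.Helper1_Hall.hall_conj (G := ↥D) (N.relIndex D) (Nat.card N)
    (by rw [mul_comm]; exact hND.symm) hcop.symm _ _ e1 e2
  obtain ⟨g', hg'⟩ := g
  refine ⟨g', hg', ?_⟩
  ext x
  rw [mem_cjg]
  constructor
  · intro hx
    have hxD : x ∈ D := by
      have h2 : g'⁻¹ * x * g' ∈ D := hA.2.1 hx
      have : x = g' * (g'⁻¹ * x * g') * g'⁻¹ := by group
      rw [this]
      exact mul_mem (mul_mem hg' h2) (inv_mem hg')
    have h3 : (⟨x, hxD⟩ : D) ∈ MulAut.conj (⟨g', hg'⟩ : D) • A.subgroupOf D := by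
      rw [Subgroup.mem_pointwise_smul_iff_inv_smul_mem, Subgroup.mem_subgroupOf]
      simpa [MulAut.smul_def, mul_assoc] using hx
    rw [hg, Subgroup.mem_subgroupOf] at h3
    exact h3
  · intro hx
    have hxD : x ∈ D := hB.2.1 hx
    have h3 : (⟨x, hxD⟩ : D) ∈ B.subgroupOf D := by rw [Subgroup.mem_subgroupOf]; exact hx
    rw [← hg, Subgroup.mem_pointwise_smul_iff_inv_smul_mem, Subgroup.mem_subgroupOf] at h3
    simpa [MulAut.smul_def, mul_assoc] using h3

end Cfsg.Agent.Lib.Helper39_BGBasic
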