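import Mathlib
import Cfsg.Prelude.Def_OddOrderLocal
import Cfsg.Agent.Lib.Helper35_BG11b
import Cfsg.Agent.Lib.Helper32_Nilpotent
import Cfsg.Agent.Lib.Helper39_BGBasic
import Cfsg.Agent.Lib.Helper34_BG16a
import Cfsg.Agent.Lib.Helper29_BG12a
import Cfsg.Agent.Lib.Helper2_PRank
import Cfsg.Agent.Lib.Helper25_BG14a

/-!
# General lemmas for Bender–Glauberman Theorem 15.8 (helper25)

* `centralizes_of_fpf`: an element `x` of prime order acting without fixed points on two subgroups `N`, `B` of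
  coprime orders (`B` normalizing `N`) forces `[N, B] = 1` (Thompson's theorem on `N B`).
* `commute_of_commute_pow`: an element commuting with `v ^ a` and `v ^ b`, `a`, `b` coprime, commutes with `v`.
* `mem_sylow_of_comm`: in an abelian subgroup the Sylow `r`-subgroup contains all `r`-elements.
* `mem_zpowers_of_pRankLE_one`: in a group of `p`-rank one two commuting elements of order `p` generate the
  same subgroup.
-/

set_option autoImplicit false

namespace Cfsg.Agent.Lib.Helper25_BG158a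

open Subgroup Cfsg

universe u

variable {G : Type u} [Group G]

/-- conjugation by an element commuting with `x` -/
theorem commute_of_conj_eq {x n : G} (h : x * n * x⁻¹ = n) : x * n = n * x := by
  calc x * n = (x * n * x⁻¹) * x := by group
    _ = n * x := by rw [h]

/-- **Frobenius action via Thompson**: let `x ^ p = 1`, `p` prime, `x` normalizing `N` and `B`, `B` normalizing
`N`, `(|N|, |B|) = 1`, and `C_N(x) = C_B(x) = 1`. Then `B` centralizes `N`. -/
theorem centralizes_of_fpf [Finite G] {p : ℕ} (hp : p.Prime) {x : G} (hxp : x ^ p = 1) {N B : Subgroup G}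
    (hxN : x ∈ normalizer (N : Set G)) (hxB : x ∈ normalizer (B : Set G))
    (hBN : B ≤ normalizer (N : Set G)) (hcop : (Nat.card N).Coprime (Nat.card B))
    (hN : N ⊓ centralizer ({x} : Set G) = ⊥) (hB : B ⊓ centralizer ({x} : Set G) = ⊥) :
    ∀ n ∈ N, ∀ b ∈ B, n * b = b * n := by
  have hdisj : N ⊓ B = ⊥ := (Subgroup.disjoint_of_coprime_natCard hcop).eq_bot
  have hxJ : x ∈ normalizer ((B ⊔ N : Subgroup G) : Set G) :=
    Cfsg.Agent.Lib.Helper34_BG16a.mem_normalizer_sup' hxB hxN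
  have hfpf : ∀ j ∈ B ⊔ N, x * j = j * x → j = 1 := by
    intro j hj hxj
    obtain ⟨n, hn, b, hb, rfl⟩ := Cfsg.Agent.Lib.Helper39_BGBasic.exists_mul_of_mem_sup hBN hj
    have hn' : x * n * x⁻¹ ∈ N := (mem_normalizer_iff.mp hxN n).mp hn
    have hb' : x * b * x⁻¹ ∈ B := (mem_normalizer_iff.mp hxB b).mp hb
    have h1 : (x * n * x⁻¹) * (x * b * x⁻¹) = n * b := by
      calc (x * n * x⁻¹) * (x * b * x⁻¹) = x * (n * b) * x⁻¹ := by group
        _ = (n * b) * x * x⁻¹ := by rw [hxj]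
        _ = n * b := by group
    have h2 : n⁻¹ * (x * n * x⁻¹) = b * (x * b * x⁻¹)⁻¹ := by
      calc n⁻¹ * (x * n * x⁻¹) = n⁻¹ * ((x * n * x⁻¹) * (x * b * x⁻¹)) * (x * b * x⁻¹)⁻¹ := by group
        _ = n⁻¹ * (n * b) * (x * b * x⁻¹)⁻¹ := by rw [h1]
        _ = b * (x * b * x⁻¹)⁻¹ := by group
    have h3 : n⁻¹ * (x * n * x⁻¹) ∈ N ⊓ B := by
      refine Subgroup.mem_inf.mpr ⟨mul_mem (inv_mem hn) hn', ?_⟩
      rw [h2]
      exact mul_mem hb (inv_mem hb')
    rw [hdisj, Subgroup.mem_bot] at h3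
    have h4 : x * n * x⁻¹ = n := by
      calc x * n * x⁻¹ = n * (n⁻¹ * (x * n * x⁻¹)) := by group
        _ = n := by rw [h3, mul_one]
    have h5 : x * b * x⁻¹ = b := by
      have : b * (x * b * x⁻¹)⁻¹ = 1 := by rw [← h2, h3]
      calc x * b * x⁻¹ = (b * (x * b * x⁻¹)⁻¹)⁻¹ * b := by group
        _ = b := by rw [this]; group
    have hn1 : n = 1 := by
      have : n ∈ N ⊓ centralizer ({x} : Set G) := by
        refine Subgroup.mem_inf.mpr ⟨hn, ?_⟩
        rw [mem_centralizer_singleton_iff]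
        exact (commute_of_conj_eq h4).symm
      rwa [hN, Subgroup.mem_bot] at this
    have hb1 : b = 1 := by
      have : b ∈ B ⊓ centralizer ({x} : Set G) := by
        refine Subgroup.mem_inf.mpr ⟨hb, ?_⟩
        rw [mem_centralizer_singleton_iff]
        exact (commute_of_conj_eq h5).symm
      rwa [hB, Subgroup.mem_bot] at this
    rw [hn1, hb1, mul_one]
  have hnil : Group.IsNilpotent ↥(B ⊔ N) :=
    Cfsg.Agent.Lib.Helper35_BG11b.isNilpotent_of_fpf hp (B ⊔ N) hxJ hxp hfpf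
  intro n hn b hb
  have hnJ : n ∈ B ⊔ N := le_sup_right (a := B) hn
  have hbJ : b ∈ B ⊔ N := le_sup_left (b := N) hb
  have h1 : (⟨n, hnJ⟩ : ↥(B ⊔ N)) ^ Nat.card N = 1 := by
    apply Subtype.ext
    rw [Subgroup.coe_pow, Subgroup.coe_one]
    have := pow_card_eq_one' (G := N) (x := ⟨n, hn⟩)
    exact congrArg Subtype.val this
  have h2 : (⟨b, hbJ⟩ : ↥(B ⊔ N)) ^ Nat.card B = 1 := by
    apply Subtype.ext
    rw [Subgroup.coe_pow, Subgroup.coe_one]
    have := pow_card_eq_one' (G := B) (x := ⟨b, hb⟩)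
    exact congrArg Subtype.val this
  have h3 := Cfsg.Agent.Lib.Helper32_Nilpotent.commute_of_coprime_pow_eq_one ↥(B ⊔ N)
    ⟨n, hnJ⟩ ⟨b, hbJ⟩ _ _ h1 h2 hcop
  exact congrArg Subtype.val h3.eq

/-- an element commuting with `v ^ a` and `v ^ b`, `a` and `b` coprime, commutes with `v` -/
theorem commute_of_commute_pow {x v : G} {a b : ℕ} (hab : a.Coprime b) (ha : Commute x (v ^ a))
    (hb : Commute x (v ^ b)) : Commute x v := by
  have h1 : (1 : ℤ) = (a : ℤ) * Nat.gcdA a b + (b : ℤ) * Nat.gcdB a b := by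
    have := Nat.gcd_eq_gcd_ab a b
    rw [hab.gcd_eq_one] at this
    exact_mod_cast this
  have h2 : v = (v ^ a) ^ (Nat.gcdA a b) * (v ^ b) ^ (Nat.gcdB a b) := by
    rw [← zpow_natCast v a, ← zpow_natCast v b, ← zpow_mul, ← zpow_mul, ← zpow_add, ← h1, zpow_one]
  rw [h2]
  exact (ha.zpow_right _).mul_right (hb.zpow_right _)

/-- in an abelian subgroup `U`, the Sylow `r`-subgroup contains every `r`-element -/
theorem mem_sylow_of_comm {r : ℕ} [Fact r.Prime] {U : Subgroup G}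
    (hU : ∀ a ∈ U, ∀ b ∈ U, a * b = b * a) (R : Sylow r U) {u : G} (hu : u ∈ U)
    (hur : ∃ n : ℕ, u ^ r ^ n = 1) : u ∈ (R : Subgroup U).map U.subtype := by
  obtain ⟨n, hn⟩ := hur
  have hZ : IsPGroup r (zpowers (⟨u, hu⟩ : U)) := by
    intro g
    obtain ⟨k, hk⟩ := Subgroup.mem_zpowers_iff.mp g.2
    refine ⟨n, ?_⟩
    apply Subtype.ext
    rw [Subgroup.coe_pow, Subgroup.coe_one, ← hk, ← zpow_natCast, ← zpow_mul, mul_comm, zpow_mul,
      zpow_natCast]
    have : (⟨u, hu⟩ : U) ^ r ^ n = 1 := Subtype.ext (by rw [Subgroup.coe_pow]; exact hn)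
    rw [this, one_zpow]
  have hnorm : zpowers (⟨u, hu⟩ : U) ≤ normalizer (((R : Subgroup U) : Subgroup U) : Set U) := by
    intro g _
    rw [mem_normalizer_iff]
    intro h
    have hc : g * h * g⁻¹ = h := by
      have := hU g g.2 h h.2
      apply Subtype.ext
      push_cast
      calc (g : G) * h * (g : G)⁻¹ = (h : G) * g * (g : G)⁻¹ := by rw [this]
        _ = h := by group
    rw [hc]
  have hsup : IsPGroup r ↥((R : Subgroup U) ⊔ zpowers (⟨u, hu⟩ : U)) :=
    IsPGroup.to_sup_of_normal_left' R.2 hZ hnorm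
  have := R.is_maximal' hsup le_sup_left
  have hmem : (⟨u, hu⟩ : U) ∈ (R : Subgroup U) := by
    rw [← this]
    exact le_sup_right (a := (R : Subgroup U)) (mem_zpowers _)
  exact ⟨⟨u, hu⟩, hmem, rfl⟩

/-- in a group of `p`-rank one, two commuting elements of order `p` generate the same subgroup -/
theorem mem_zpowers_of_pRankLE_one [Finite G] {p : ℕ} (hp : p.Prime) {H : Subgroup G}
    (hr : PRankLE p 1 ↥H) {x y : G} (hx : x ∈ H) (hy : y ∈ H) (hxy : x * y = y * x) (hxp : x ^ p = 1)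
    (hyp : y ^ p = 1) (hx1 : x ≠ 1) : y ∈ zpowers x := by
  set x' : ↥H := ⟨x, hx⟩ with hx'
  set y' : ↥H := ⟨y, hy⟩ with hy'
  have hc : Commute x' y' := Subtype.ext hxy
  have hxp' : x' ^ p = 1 := Subtype.ext (by rw [Subgroup.coe_pow]; exact hxp)
  have hyp' : y' ^ p = 1 := Subtype.ext (by rw [Subgroup.coe_pow]; exact hyp)
  have hcz : ∀ a ∈ zpowers x', ∀ b ∈ zpowers y', a * b = b * a := by
    intro a ha b hb
    obtain ⟨i, rfl⟩ := Subgroup.mem_zpowers_iff.mp ha
    obtain ⟨j, rfl⟩ := Subgroup.mem_zpowers_iff.mp hb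
    exact ((hc.zpow_left i).zpow_right j).eq
  have hzx : ∀ a ∈ zpowers x', ∀ b ∈ zpowers x', a * b = b * a := by
    intro a ha b hb
    obtain ⟨i, rfl⟩ := Subgroup.mem_zpowers_iff.mp ha
    obtain ⟨j, rfl⟩ := Subgroup.mem_zpowers_iff.mp hb
    exact (((Commute.refl x').zpow_left i).zpow_right j).eq
  have hzy : ∀ a ∈ zpowers y', ∀ b ∈ zpowers y', a * b = b * a := by
    intro a ha b hb
    obtain ⟨i, rfl⟩ := Subgroup.mem_zpowers_iff.mp ha
    obtain ⟨j, rfl⟩ := Subgroup.mem_zpowers_iff.mp hb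
    exact (((Commute.refl y').zpow_left i).zpow_right j).eq
  have hAcomm := Cfsg.Agent.Lib.Helper25_BG14a.sup_comm_of_comm hzx hzy hcz
  have hAexp : ∀ a ∈ zpowers x' ⊔ zpowers y', a ^ p = 1 := by
    intro a ha
    obtain ⟨u, hu, v, hv, rfl⟩ := Cfsg.Agent.Lib.Helper25_BG14a.exists_mul_of_mem_sup_comm hcz ha
    obtain ⟨i, rfl⟩ := Subgroup.mem_zpowers_iff.mp hu
    obtain ⟨j, rfl⟩ := Subgroup.mem_zpowers_iff.mp hv
    have hcc : Commute (x' ^ i) (y' ^ j) := (hc.zpow_left i).zpow_right j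
    rw [hcc.mul_pow, ← zpow_natCast, ← zpow_mul, mul_comm, zpow_mul, zpow_natCast, hxp', one_zpow,
      ← zpow_natCast (y' ^ j), ← zpow_mul, mul_comm, zpow_mul, zpow_natCast, hyp', one_zpow, mul_one]
  have hcard := hr (zpowers x' ⊔ zpowers y') ⟨⟨fun a b => Subtype.ext (hAcomm a a.2 b b.2)⟩⟩ hAexp
  rw [pow_one] at hcard
  have hox : orderOf x' = p := by
    have h1 : orderOf x' ∣ p := orderOf_dvd_of_pow_eq_one hxp'
    rcases (Nat.dvd_prime hp).mp h1 with h | h
    · exfalso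
      apply hx1
      have := orderOf_eq_one_iff.mp h
      exact congrArg Subtype.val this
    · exact h
  have hle : zpowers x' ≤ zpowers x' ⊔ zpowers y' := le_sup_left
  have heq : zpowers x' = zpowers x' ⊔ zpowers y' := by
    apply Subgroup.eq_of_le_of_card_ge hle
    rw [Nat.card_zpowers, hox]
    exact hcard
  have hy'm : y' ∈ zpowers x' := by
    rw [heq]
    exact le_sup_right (a := zpowers x') (mem_zpowers y')
  obtain ⟨k, hk⟩ := Subgroup.mem_zpowers_iff.mp hy'm
  refine Subgroup.mem_zpowers_iff.mpr ⟨k, ?_⟩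
  have := congrArg Subtype.val hk
  rw [Subgroup.coe_zpow] at this
  exact this

end Cfsg.Agent.Lib.Helper25_BG158a
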