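import Mathlib
import Cfsg.Agent.Lib.Helper49_FStarComm
import Cfsg.Agent.Lib.Helper21_FStar
import Cfsg.Agent.Lib.Helper22_Layer
import Cfsg.Agent.Lib.Helper29_Local

/-!
helper49: subnormal subgroups of `F*(H)`: `L = (L ∩ F(H)) · ⟨components of H inside L⟩`.
-/

set_option autoImplicit false

namespace Cfsg.Agent.Lib.Helper49_FStarComm

open Cfsg
open scoped commutatorElement
open Cfsg.Agent.Lib.Helper21_Components Cfsg.Agent.Lib.Helper29_Local

universe u

variable {H : Type u} [Group H]

/-- `Z(E(H)) ≤ F(H)`. -/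
theorem layer_inf_centralizer_le_fitting :
    layer H ⊓ Subgroup.centralizer (layer H : Set H) ≤ fittingSubgroup H := by
  set A : Subgroup H := layer H ⊓ Subgroup.centralizer (layer H : Set H) with hA
  have : A.Normal := by rw [hA]; infer_instance
  have : IsMulCommutative ↥A := by
    refine ⟨⟨fun a b => ?_⟩⟩
    apply Subtype.ext
    have ha := (Subgroup.mem_inf.mp a.2).1
    have hb := (Subgroup.mem_inf.mp b.2).2
    have := Subgroup.mem_centralizer_iff.mp hb a ha
    simp only [Subgroup.coe_mul]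
    exact this
  exact le_fittingSubgroup A isNilpotent_of_isMulCommutative

/-- If `B ≤ N(A)` then every element of `A ⊔ B` is a product `a * b`. -/
theorem exists_mul_of_mem_sup {A B : Subgroup H} (hB : B ≤ Subgroup.normalizer (A : Set H)) {x : H}
    (hx : x ∈ A ⊔ B) : ∃ a ∈ A, ∃ b ∈ B, x = a * b := by
  have : x ∈ ((A ⊔ B : Subgroup H) : Set H) := hx
  rw [Subgroup.coe_mul_of_right_le_normalizer_left A B hB] at this
  obtain ⟨a, ha, b, hb, rfl⟩ := Set.mem_mul.mp this
  exact ⟨a, ha, b, hb, rfl⟩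

/-- A subnormal subgroup `L` of a finite group `H` contained in `F*(H)` is generated by
`L ∩ F(H)` and the components of `H` contained in `L`. -/
theorem le_inf_fitting_sup_components [Finite H] (L : Subgroup H) (hL : L.IsSubnormal)
    (hLF : L ≤ generalizedFittingSubgroup H) :
    L ≤ (L ⊓ fittingSubgroup H) ⊔ sSup {K : Subgroup H | IsComponent K ∧ K ≤ L} := by
  set E₁ : Subgroup H := sSup {K : Subgroup H | IsComponent K ∧ K ≤ L} with hE₁
  set E₂ : Subgroup H := sSup {K : Subgroup H | IsComponent K ∧ ¬ K ≤ L} with hE₂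
  have hE₁L : E₁ ≤ L := sSup_le (fun K hK => hK.2)
  -- `E₂` centralizes `L`
  have hE₂L : E₂ ≤ Subgroup.centralizer (L : Set H) := by
    refine sSup_le (fun K hK => ?_)
    rcases IsComponent.le_or_commutator_eq_bot hK.1 hL with h | h
    · exact absurd h hK.2
    · exact Subgroup.commutator_eq_bot_iff_le_centralizer.mp h
  -- `E₁` and `E₂` commute
  have hE₁₂ : E₁ ≤ Subgroup.centralizer (E₂ : Set H) :=
    Subgroup.le_centralizer_iff.mp (hE₂L.trans (Subgroup.centralizer_le (by exact_mod_cast hE₁L)))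
  have hlayer : layer H ≤ E₁ ⊔ E₂ := by
    unfold layer
    refine sSup_le (fun K hK => ?_)
    by_cases h : K ≤ L
    · exact le_trans (le_sSup (show K ∈ {K : Subgroup H | IsComponent K ∧ K ≤ L} from ⟨hK, h⟩))
        le_sup_left
    · exact le_trans (le_sSup (show K ∈ {K : Subgroup H | IsComponent K ∧ ¬ K ≤ L} from ⟨hK, h⟩))
        le_sup_right
  have hE₁lay : E₁ ≤ layer H := sSup_le (fun K hK => IsComponent.le_layer hK.1)
  have hE₂lay : E₂ ≤ layer H := sSup_le (fun K hK => IsComponent.le_layer hK.1)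
  have hFE : fittingSubgroup H ≤ Subgroup.centralizer (layer H : Set H) := by
    have := Cfsg.Agent.Lib.Helper22_Layer.layer_commutator_fitting (X := H)
    rw [Subgroup.commutator_comm, Subgroup.commutator_eq_bot_iff_le_centralizer] at this
    exact this
  intro x hx
  have hx' : x ∈ layer H ⊔ fittingSubgroup H := hLF hx
  obtain ⟨e, he, f, hf, rfl⟩ :=
    exists_mul_of_mem_sup (A := layer H) (B := fittingSubgroup H)
      (by rw [Subgroup.normalizer_eq_top]; exact le_top) hx'
  obtain ⟨e₁, he₁, e₂, he₂, rfl⟩ :=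
    exists_mul_of_mem_sup (A := E₁) (B := E₂)
      ((Subgroup.le_centralizer_iff.mp hE₁₂).trans (Subgroup.centralizer_le_normalizer _))
      (hlayer he)
  -- `e₂ * f ∈ L`
  have h1 : e₂ * f ∈ L := by
    have : e₂ * f = e₁⁻¹ * (e₁ * e₂ * f) := by group
    rw [this]
    exact L.mul_mem (L.inv_mem (hE₁L he₁)) hx
  -- `e₂` centralizes the layer
  have h2 : e₂ ∈ Subgroup.centralizer (layer H : Set H) := by
    have hcE₂ : e₂ ∈ Subgroup.centralizer (E₂ : Set H) := by
      have a1 : e₂ * f ∈ Subgroup.centralizer (E₂ : Set H) :=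
        (Subgroup.le_centralizer_iff.mp hE₂L) h1
      have a2 : f ∈ Subgroup.centralizer (E₂ : Set H) :=
        Subgroup.centralizer_le (by exact_mod_cast hE₂lay) (hFE hf)
      have : e₂ = (e₂ * f) * f⁻¹ := by group
      rw [this]
      exact Subgroup.mul_mem _ a1 (Subgroup.inv_mem _ a2)
    have hcE₁ : e₂ ∈ Subgroup.centralizer (E₁ : Set H) := Subgroup.le_centralizer_iff.mp hE₁₂ he₂
    have : layer H ≤ Subgroup.centralizer ({e₂} : Set H) := by
      refine hlayer.trans (sup_le ?_ ?_)
      · intro z hz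
        rw [Subgroup.mem_centralizer_singleton_iff]
        exact (Subgroup.mem_centralizer_iff.mp hcE₁ z hz)
      · intro z hz
        rw [Subgroup.mem_centralizer_singleton_iff]
        exact (Subgroup.mem_centralizer_iff.mp hcE₂ z hz)
    rw [Subgroup.mem_centralizer_iff]
    intro z hz
    have := Subgroup.mem_centralizer_singleton_iff.mp (this hz)
    exact this
  have h3 : e₂ ∈ fittingSubgroup H :=
    layer_inf_centralizer_le_fitting (Subgroup.mem_inf.mpr ⟨hE₂lay he₂, h2⟩)
  have h4 : e₂ * f ∈ L ⊓ fittingSubgroup H :=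
    Subgroup.mem_inf.mpr ⟨h1, Subgroup.mul_mem _ h3 hf⟩
  have : e₁ * e₂ * f = (e₂ * f) * ((e₂ * f)⁻¹ * e₁ * (e₂ * f)) := by group
  have hcomm : e₁ * (e₂ * f) = (e₂ * f) * e₁ := by
    have a1 : e₂ * f ∈ Subgroup.centralizer (E₁ : Set H) := by
      refine Subgroup.mul_mem _ (Subgroup.le_centralizer_iff.mp hE₁₂ he₂) ?_
      exact Subgroup.centralizer_le (by exact_mod_cast hE₁lay) (hFE hf)
    exact Subgroup.mem_centralizer_iff.mp a1 e₁ he₁
  have e : e₁ * e₂ * f = (e₂ * f) * e₁ := by rw [mul_assoc, hcomm]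
  rw [e]
  exact Subgroup.mul_mem _ (Subgroup.mem_sup_left h4) (Subgroup.mem_sup_right he₁)

end Cfsg.Agent.Lib.Helper49_FStarComm
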