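import Mathlib
import Cfsg.Agent.Lib.Helper49_FStarComm2
import Cfsg.Agent.Lib.Helper46_Char
import Cfsg.Agent.Lib.Helper71_Fitting
import Cfsg.Agent.Lib.Helper47_PLocal

/-!
helper49: `L = ⁅L,Y⁆ C_L(Y)` and `⁅L,Y⁆ = ⁅L,Y,Y⁆` for a `p`-group `Y` acting on a subnormal subgroup `L`
of `H` inside `F*(H)`, where `O_p(H) = 1`.
-/

set_option autoImplicit false

namespace Cfsg.Agent.Lib.Helper49_FStarComm

open Cfsg
open scoped commutatorElement
open Cfsg.Agent.Lib.Helper21_Components Cfsg.Agent.Lib.Helper29_Local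
  Cfsg.Agent.Lib.Helper21_Fitting

universe u

/-- Elements of the Fitting subgroup have order prime to `p` when `O_p = 1`. -/
theorem not_dvd_orderOf_of_mem_fittingSubgroup {H : Type*} [Group H] [Finite H] {p : ℕ}
    [Fact p.Prime] (hO : Cfsg.pCore p H = ⊥) {x : H} (hx : x ∈ fittingSubgroup H) :
    ¬ p ∣ orderOf x := by
  intro hdvd
  have hx0 : orderOf x ≠ 0 := (orderOf_pos x).ne'
  have hy : orderOf (x ^ (orderOf x / p)) = p := orderOf_pow_orderOf_div hx0 hdvd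
  have hyF : x ^ (orderOf x / p) ∈ fittingSubgroup H := Subgroup.pow_mem _ hx _
  have hn := Cfsg.Agent.Lib.Helper71_Fitting.fittingSubgroup_normal (G := H)
  have h1 := Cfsg.Agent.Lib.Helper71_Fitting.mem_sylowCore_of_mem_normal_nilpotent (p := p) _
    Cfsg.Agent.Lib.Helper71_Fitting.fittingSubgroup_isNilpotent hyF
    (k := 1) (by rw [hy, pow_one])
  have h2 : Cfsg.Agent.Lib.Helper71_Fitting.sylowCore p H ≤ Cfsg.pCore p H :=
    Cfsg.Agent.Lib.Helper47_PLocal.le_pCore (Cfsg.Agent.Lib.Helper71_Fitting.sylowCore_normal p)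
      (Cfsg.Agent.Lib.Helper71_Fitting.sylowCore_isPGroup p)
  have h3 := h2 h1
  rw [hO, Subgroup.mem_bot] at h3
  rw [h3, orderOf_one] at hy
  exact (Fact.out : p.Prime).one_lt.ne hy

variable {G : Type u} [Group G]

/-- The family of (images in `G` of) components of `H` lying in `L`. -/
def compsIn (H L : Subgroup G) : Set (Subgroup G) :=
  {K' | ∃ K : Subgroup ↥H, IsComponent K ∧ K.map H.subtype = K' ∧ K' ≤ L}

theorem compsIn_le {H L K' : Subgroup G} (h : K' ∈ compsIn H L) : K' ≤ L := by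
  obtain ⟨K, _, _, h3⟩ := h; exact h3

theorem compsIn_perfect {H L K' : Subgroup G} (h : K' ∈ compsIn H L) : ⁅K', K'⁆ = K' := by
  obtain ⟨K, hK, rfl, _⟩ := h
  rw [← Subgroup.map_commutator, IsComponent.commutator_self hK]

theorem compsIn_quasisimple {H L K' : Subgroup G} (h : K' ∈ compsIn H L) (N : Subgroup G)
    (hNK : N ≤ K') (hKN : K' ≤ Subgroup.normalizer (N : Set G)) :
    N = K' ∨ N ≤ Subgroup.centralizer (K' : Set G) := by
  obtain ⟨K, hK, rfl, _⟩ := h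
  set N₀ : Subgroup ↥K := (N.comap H.subtype).subgroupOf K with hN₀
  have hmem : ∀ k : ↥K, k ∈ N₀ ↔ ((k : ↥H) : G) ∈ N := by
    intro k
    rw [hN₀, Subgroup.mem_subgroupOf, Subgroup.mem_comap]
    rfl
  have hnorm : N₀.Normal := by
    refine ⟨fun n hn k => ?_⟩
    rw [hmem] at hn ⊢
    have hk : ((k : ↥H) : G) ∈ K.map H.subtype := ⟨(k : ↥H), k.2, rfl⟩
    have := (Subgroup.mem_normalizer_iff.mp (hKN hk) _).mp hn
    simpa using this
  rcases IsQuasisimple.normal_eq_top_or_le_center hK.2 N₀ with h | h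
  · left
    refine le_antisymm hNK ?_
    rintro _ ⟨k, hk, rfl⟩
    have : (⟨k, hk⟩ : ↥K) ∈ N₀ := by rw [h]; exact Subgroup.mem_top _
    exact (hmem _).mp this
  · right
    intro n hn
    obtain ⟨k₀, hk₀, rfl⟩ := hNK hn
    have h0 : (⟨k₀, hk₀⟩ : ↥K) ∈ N₀ := (hmem _).mpr hn
    have hc := h h0
    rw [Subgroup.mem_centralizer_iff]
    rintro _ ⟨k, hk, rfl⟩
    have := Subgroup.mem_center_iff.mp hc ⟨k, hk⟩
    have := congrArg (fun z : ↥K => ((z : ↥H) : G)) this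
    simpa using this

theorem compsIn_commute [Finite G] {H L K₁ K₂ : Subgroup G} (h₁ : K₁ ∈ compsIn H L)
    (h₂ : K₂ ∈ compsIn H L) (hne : K₁ ≠ K₂) : ⁅K₁, K₂⁆ = ⊥ := by
  obtain ⟨A, hA, rfl, _⟩ := h₁
  obtain ⟨B, hB, rfl, _⟩ := h₂
  have hAB : A ≠ B := fun h => hne (by rw [h])
  rw [← Subgroup.map_commutator, IsComponent.commutator_eq_bot_of_ne hA hB hAB, Subgroup.map_bot]

theorem compsIn_conj {H L K' : Subgroup G} (h : K' ∈ compsIn H L) {y : G}
    (hyH : y ∈ Subgroup.normalizer (H : Set G)) (hyL : y ∈ Subgroup.normalizer (L : Set G)) :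
    K'.map (MulAut.conj y).toMonoidHom ∈ compsIn H L := by
  obtain ⟨K, hK, rfl, hKL⟩ := h
  refine ⟨K.map ((Cfsg.Agent.Lib.Helper46_Char.conjEquiv H y hyH : ↥H ≃* ↥H) : ↥H →* ↥H),
    isComponent_map_mulEquiv _ hK, ?_, ?_⟩
  · ext z
    constructor
    · rintro ⟨_, ⟨k, hk, rfl⟩, rfl⟩
      exact ⟨(k : G), ⟨k, hk, rfl⟩, rfl⟩
    · rintro ⟨_, ⟨k, hk, rfl⟩, rfl⟩
      exact ⟨_, ⟨k, hk, rfl⟩, rfl⟩
  · rintro _ ⟨z, hz, rfl⟩
    exact (Subgroup.mem_normalizer_iff.mp hyL z).mp (hKL hz)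

/-- Main theorem (first half). -/
theorem le_commutator_sup_centralizer_of_subnormal [Finite G] {p : ℕ} [Fact p.Prime]
    (H : Subgroup G) (hO : Cfsg.pCore p ↥H = ⊥) (Y : Subgroup G) (hY : IsPGroup p ↥Y)
    (hYH : Y ≤ Subgroup.normalizer (H : Set G)) (L : Subgroup G)
    (hLF : L ≤ (Cfsg.generalizedFittingSubgroup ↥H).map H.subtype)
    (hLsn : (L.subgroupOf H).IsSubnormal) (hYL : Y ≤ Subgroup.normalizer (L : Set G)) :
    L ≤ ⁅L, Y⁆ ⊔ (L ⊓ Subgroup.centralizer (Y : Set G)) := by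
  have hLH : L ≤ H := hLF.trans (Subgroup.map_subtype_le _)
  set FH : Subgroup G := (fittingSubgroup ↥H).map H.subtype with hFH
  have hYFH : Y ≤ Subgroup.normalizer (FH : Set G) :=
    hYH.trans (Cfsg.Agent.Lib.Helper46_Char.normalizer_le_normalizer_of_char H (fittingSubgroup ↥H))
  refine le_commutator_sup_centralizer L Y (L ⊓ FH) (compsIn H L) hY inf_le_left ?_ ?_
    (fun K hK => compsIn_le hK) (fun K hK => compsIn_perfect hK)
    (fun K hK => compsIn_quasisimple hK)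
    (fun K₁ h₁ K₂ h₂ hne => compsIn_commute h₁ h₂ hne)
    (fun K hK y hy => compsIn_conj hK (hYH hy) (hYL hy)) ?_
  · intro y hy
    have h1 := Subgroup.mem_normalizer_iff.mp (hYL hy)
    have h2 := Subgroup.mem_normalizer_iff.mp (hYFH hy)
    rw [Subgroup.mem_normalizer_iff]
    intro n
    simp only [Subgroup.mem_inf]
    rw [h1 n, h2 n]
  · intro hdvd
    obtain ⟨x, hx⟩ := exists_prime_orderOf_dvd_card' (G := ↥(L ⊓ FH)) p hdvd
    obtain ⟨x', hx', hxx'⟩ := (Subgroup.mem_inf.mp x.2).2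
    have h1 := not_dvd_orderOf_of_mem_fittingSubgroup hO hx'
    have h2 : orderOf x' = p := by
      rw [← hx, ← Subgroup.orderOf_coe x, ← Subgroup.orderOf_coe x']
      exact congrArg orderOf hxx'
    exact h1 (h2 ▸ dvd_rfl)
  · -- generation
    have key := le_inf_fitting_sup_components (L.subgroupOf H) hLsn (by
      intro z hz
      rw [Subgroup.mem_subgroupOf] at hz
      obtain ⟨w, hw, hwz⟩ := hLF hz
      have : w = z := Subtype.ext hwz
      rw [← this]; exact hw)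
    have hle : (L.subgroupOf H ⊓ fittingSubgroup ↥H) ⊔
        sSup {K : Subgroup ↥H | IsComponent K ∧ K ≤ L.subgroupOf H} ≤
        ((L ⊓ FH) ⊔ sSup (compsIn H L)).comap H.subtype := by
      refine sup_le ?_ (sSup_le ?_)
      · intro z hz
        obtain ⟨hz1, hz2⟩ := Subgroup.mem_inf.mp hz
        rw [Subgroup.mem_comap]
        refine Subgroup.mem_sup_left (Subgroup.mem_inf.mpr ⟨?_, ⟨z, hz2, rfl⟩⟩)
        exact Subgroup.mem_subgroupOf.mp hz1
      · intro K hK z hz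
        rw [Subgroup.mem_comap]
        refine Subgroup.mem_sup_right ?_
        have hmem : K.map H.subtype ∈ compsIn H L := by
          refine ⟨K, hK.1, rfl, ?_⟩
          rintro _ ⟨w, hw, rfl⟩
          exact Subgroup.mem_subgroupOf.mp (hK.2 hw)
        exact (le_sSup hmem) ⟨z, hz, rfl⟩
    intro x hx
    have hx' : (⟨x, hLH hx⟩ : ↥H) ∈ L.subgroupOf H := by
      rw [Subgroup.mem_subgroupOf]; exact hx
    exact hle (key hx')

/-- Main theorem: `L = ⁅L,Y⁆ C_L(Y)` and `⁅L,Y⁆ = ⁅⁅L,Y⁆,Y⁆`. -/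
theorem commutator_sup_centralizer_eq [Finite G] {p : ℕ} [Fact p.Prime]
    (H : Subgroup G) (hO : Cfsg.pCore p ↥H = ⊥) (Y : Subgroup G) (hY : IsPGroup p ↥Y)
    (hYH : Y ≤ Subgroup.normalizer (H : Set G)) (L : Subgroup G)
    (hLF : L ≤ (Cfsg.generalizedFittingSubgroup ↥H).map H.subtype)
    (hLsn : (L.subgroupOf H).IsSubnormal) (hYL : Y ≤ Subgroup.normalizer (L : Set G)) :
    ⁅L, Y⁆ ⊔ (L ⊓ Subgroup.centralizer (Y : Set G)) = L ∧ ⁅L, Y⁆ = ⁅⁅L, Y⁆, Y⁆ := by
  have h := le_commutator_sup_centralizer_of_subnormal H hO Y hY hYH L hLF hLsn hYL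
  exact ⟨le_antisymm (sup_le (commutator_le_left_of_le_normalizer hYL) inf_le_left) h,
    commutator_eq_commutator_commutator hYL h⟩

end Cfsg.Agent.Lib.Helper49_FStarComm
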