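import Mathlib
import Cfsg.Agent.Lib.Helper49_FStarComm3
import Cfsg.Agent.Lib.Helper49_CharP
import Cfsg.Agent.Lib.Helper22_Cores

/-!
helper49: `F*` of subnormal subgroups, transport along isomorphisms, and
`⁅F*(H), Y⁆ = ⁅F*(K), Y⁆` for subnormal `K ≥ Y` when `O_p(H) = 1`.
-/

set_option autoImplicit false

namespace Cfsg.Agent.Lib.Helper49_FStarComm

open Cfsg
open scoped commutatorElement
open Cfsg.Agent.Lib.Helper21_Components Cfsg.Agent.Lib.Helper29_Local
  Cfsg.Agent.Lib.Helper21_Fitting Cfsg.Agent.Lib.Helper21_FStar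

universe u

/-- `F*` is mapped into `F*` by an isomorphism. -/
theorem map_generalizedFitting_le {A B : Type*} [Group A] [Group B] (e : A ≃* B) :
    (generalizedFittingSubgroup A).map (e : A →* B) ≤ generalizedFittingSubgroup B := by
  unfold generalizedFittingSubgroup
  rw [Subgroup.map_sup]
  exact sup_le_sup (map_layer_le e) (map_fittingSubgroup_le e)

/-- `F*` is mapped onto `F*` by an isomorphism. -/
theorem map_generalizedFitting_eq {A B : Type*} [Group A] [Group B] (e : A ≃* B) :
    (generalizedFittingSubgroup A).map (e : A →* B) = generalizedFittingSubgroup B := by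
  apply le_antisymm (map_generalizedFitting_le e)
  intro x hx
  have := map_generalizedFitting_le e.symm ⟨x, hx, rfl⟩
  exact ⟨e.symm x, this, by simp⟩

variable {H : Type u} [Group H]

/-- `F*(⊤) = F*(H)`. -/
theorem generalizedFitting_top_map :
    (generalizedFittingSubgroup ↥(⊤ : Subgroup H)).map (⊤ : Subgroup H).subtype =
      generalizedFittingSubgroup H :=
  map_generalizedFitting_eq (Subgroup.topEquiv : ↥(⊤ : Subgroup H) ≃* H)

/-- `O_p(⊤) = 1` when `O_p(H) = 1`. -/
theorem pCore_top_eq_bot {p : ℕ} (hO : pCore p H = ⊥) : pCore p ↥(⊤ : Subgroup H) = ⊥ := by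
  have h := Cfsg.Agent.Lib.Helper49_CharP.map_pCore_mulEquiv (p := p)
    (Subgroup.topEquiv : ↥(⊤ : Subgroup H) ≃* H)
  rw [hO] at h
  exact (Subgroup.map_eq_bot_iff_of_injective _ (Subgroup.topEquiv (G := H)).injective).mp h

/-- `O_p(K) = 1` for a subnormal subgroup `K` of a finite group with `O_p = 1`. -/
theorem pCore_eq_bot_of_isSubnormal [Finite H] {p : ℕ} (hO : pCore p H = ⊥) {K : Subgroup H}
    (hK : K.IsSubnormal) : pCore p ↥K = ⊥ := by
  have hsn : ((pCore p ↥K).map K.subtype).IsSubnormal :=
    Subgroup.IsSubnormal.trans' (Cfsg.Agent.Lib.Helper49_CharP.pCoreNormal p ↥K).isSubnormal hK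
  have hp : IsPGroup p ↥((pCore p ↥K).map K.subtype) :=
    (Cfsg.Agent.Lib.Helper49_CharP.pCore_isPGroup p ↥K).map _
  have := Cfsg.Agent.Lib.Helper22_Cores.le_pCore_of_isSubnormal p hsn hp
  rw [hO, le_bot_iff] at this
  exact (Subgroup.map_eq_bot_iff_of_injective _ K.subtype_injective).mp this

/-- `F*(K) ≤ F*(H)` for a subnormal subgroup `K` of a finite group. -/
theorem generalizedFitting_map_subtype_le [Finite H] {K : Subgroup H} (hK : K.IsSubnormal) :
    (generalizedFittingSubgroup ↥K).map K.subtype ≤ generalizedFittingSubgroup H := by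
  unfold generalizedFittingSubgroup
  rw [Subgroup.map_sup]
  refine sup_le_sup (Cfsg.Agent.Lib.Helper22_Layer.map_layer_subtype_le hK) ?_
  have hsn : ((fittingSubgroup ↥K).map K.subtype).IsSubnormal :=
    Subgroup.IsSubnormal.trans' (fittingSubgroup_normal ↥K).isSubnormal hK
  refine le_fittingSubgroup_of_isSubnormal hsn ?_
  exact isNilpotent_of_mulEquiv
    ((fittingSubgroup ↥K).equivMapOfInjective K.subtype K.subtype_injective)
    Cfsg.Agent.Lib.Helper1_Cores.fittingSubgroup_isNilpotent

/-- `K ∩ F*(H) ≤ F*(K)` for a subnormal subgroup `K` of a finite group. -/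
theorem inf_generalizedFitting_le [Finite H] {K : Subgroup H} (hK : K.IsSubnormal) :
    K ⊓ generalizedFittingSubgroup H ≤ (generalizedFittingSubgroup ↥K).map K.subtype := by
  have hMsn : (K ⊓ generalizedFittingSubgroup H).IsSubnormal :=
    hK.inf (generalizedFittingSubgroup_normal H).isSubnormal
  refine (le_inf_fitting_sup_components _ hMsn inf_le_right).trans (sup_le ?_ (sSup_le ?_))
  · -- the nilpotent part
    have hnil : Group.IsNilpotent ↥((K ⊓ fittingSubgroup H).subgroupOf K) := by
      have h1 : Group.IsNilpotent ↥(fittingSubgroup H) :=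
        Cfsg.Agent.Lib.Helper1_Cores.fittingSubgroup_isNilpotent
      have h2 : Group.IsNilpotent ↥((K ⊓ fittingSubgroup H).subgroupOf (fittingSubgroup H)) :=
        Subgroup.isNilpotent _
      have h3 := isNilpotent_of_mulEquiv
        (Subgroup.subgroupOfEquivOfLe (inf_le_right : K ⊓ fittingSubgroup H ≤ fittingSubgroup H)) h2
      exact isNilpotent_of_mulEquiv
        (Subgroup.subgroupOfEquivOfLe (inf_le_left : K ⊓ fittingSubgroup H ≤ K)).symm h3
    have hn : ((K ⊓ fittingSubgroup H).subgroupOf K).Normal := by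
      rw [Subgroup.inf_subgroupOf_left]
      exact Subgroup.Normal.subgroupOf (fittingSubgroup_normal H) K
    have h1 : (K ⊓ fittingSubgroup H).subgroupOf K ≤ fittingSubgroup ↥K := le_sSup ⟨hn, hnil⟩
    have h2 := Subgroup.map_mono (f := K.subtype) h1
    rw [Subgroup.map_subgroupOf_eq_of_le inf_le_left] at h2
    refine le_trans ?_ (h2.trans (Subgroup.map_mono le_sup_right))
    exact le_inf (inf_le_left.trans inf_le_left) inf_le_right
  · intro C hC
    have hCK : C ≤ K := hC.2.trans inf_le_left
    have h1 : C.subgroupOf K ≤ layer ↥K :=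
      IsComponent.le_layer (Cfsg.Agent.Lib.Helper22_Layer.IsComponent.subgroupOf' hC.1 hCK)
    have h2 := Subgroup.map_mono (f := K.subtype) h1
    rw [Subgroup.map_subgroupOf_eq_of_le hCK] at h2
    exact h2.trans (Subgroup.map_mono le_sup_left)

/-- The whole-group version of the main theorem. -/
theorem commutator_generalizedFitting [Finite H] {p : ℕ} [Fact p.Prime] (hO : pCore p H = ⊥)
    (Y : Subgroup H) (hY : IsPGroup p ↥Y) :
    ⁅generalizedFittingSubgroup H, Y⁆ ⊔
        (generalizedFittingSubgroup H ⊓ Subgroup.centralizer (Y : Set H)) =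
      generalizedFittingSubgroup H ∧
    ⁅generalizedFittingSubgroup H, Y⁆ = ⁅⁅generalizedFittingSubgroup H, Y⁆, Y⁆ := by
  have hn := generalizedFittingSubgroup_normal H
  refine commutator_sup_centralizer_eq (⊤ : Subgroup H) (pCore_top_eq_bot hO) Y hY ?_
    (generalizedFittingSubgroup H) ?_ ?_ ?_
  · rw [Subgroup.normalizer_eq_top]; exact le_top
  · rw [generalizedFitting_top_map]
  · exact (Subgroup.Normal.subgroupOf hn ⊤).isSubnormal
  · rw [Subgroup.normalizer_eq_top]; exact le_top

/-- `⁅F*(H), Y⁆ ≤ K` for every subnormal `K ≥ Y` (`Y` a `p`-group, `O_p(H) = 1`). -/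
theorem commutator_generalizedFitting_le_of_isSubnormal [Finite H] {p : ℕ} [Fact p.Prime]
    (hO : pCore p H = ⊥) (Y : Subgroup H) (hY : IsPGroup p ↥Y) {K : Subgroup H}
    (hK : K.IsSubnormal) (hYK : Y ≤ K) : ⁅generalizedFittingSubgroup H, Y⁆ ≤ K := by
  have hX := (commutator_generalizedFitting hO Y hY).2
  induction hK with
  | top => exact le_top
  | step A B hAB hB hn ih =>
    have h1 := ih (hYK.trans hAB)
    rw [hX]
    refine (Subgroup.commutator_mono h1 hYK).trans ?_
    rw [Subgroup.commutator_comm]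
    exact commutator_le_left_of_le_normalizer
      ((Subgroup.normal_subgroupOf_iff_le_normalizer hAB).mp hn)

/-- `⁅F*(H), Y⁆ = ⁅F*(K), Y⁆` for subnormal `K ≥ Y`. -/
theorem commutator_generalizedFitting_eq_of_isSubnormal [Finite H] {p : ℕ} [Fact p.Prime]
    (hO : pCore p H = ⊥) (Y : Subgroup H) (hY : IsPGroup p ↥Y) {K : Subgroup H}
    (hK : K.IsSubnormal) (hYK : Y ≤ K) :
    ⁅generalizedFittingSubgroup H, Y⁆ =
      ⁅(generalizedFittingSubgroup ↥K).map K.subtype, Y⁆ := by
  apply le_antisymm
  · have hX := (commutator_generalizedFitting hO Y hY).2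
    have h1 : ⁅generalizedFittingSubgroup H, Y⁆ ≤ (generalizedFittingSubgroup ↥K).map K.subtype := by
      refine le_trans (le_inf (commutator_generalizedFitting_le_of_isSubnormal hO Y hY hK hYK) ?_)
        (inf_generalizedFitting_le hK)
      have hn := generalizedFittingSubgroup_normal H
      exact commutator_le_left_of_le_normalizer
        (by rw [Subgroup.normalizer_eq_top]; exact le_top)
    rw [hX]
    exact Subgroup.commutator_mono h1 le_rfl
  · exact Subgroup.commutator_mono (generalizedFitting_map_subtype_le hK) le_rfl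

end Cfsg.Agent.Lib.Helper49_FStarComm
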