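import Mathlib
import Cfsg.Agent.Lib.Helper49_FStarComm4
import Cfsg.Agent.Lib.Helper1_Frattini

/-!
helper49: averaging over a finite acting group, abelianizations generated by `p'`-elements, central
subgroups inside the Frattini subgroup, fixed points of `p`-groups on normalized subgroups.
-/

set_option autoImplicit false

namespace Cfsg.Agent.Lib.Helper49_FStarComm

open Cfsg
open scoped commutatorElement

section avg

variable {G : Type*} [Group G]

/-- Averaging: if `L = ⁅L,Q⁆` (`Q` finite, normalizing `L`) and `z ∈ L` is centralized by `Q`,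
then `z ^ |Q| ∈ ⁅L,L⁆`. -/
theorem pow_card_mem_commutator_of_centralizes (L Q : Subgroup G) [Finite ↥Q]
    (hQL : Q ≤ Subgroup.normalizer (L : Set G)) (hL : L ≤ ⁅L, Q⁆) {z : G} (hzL : z ∈ L)
    (hzQ : z ∈ Subgroup.centralizer (Q : Set G)) : z ^ Nat.card ↥Q ∈ ⁅L, L⁆ := by
  classical
  have : Fintype ↥Q := Fintype.ofFinite _
  let c : ↥Q → (↥L →* ↥L) := fun q =>
    (Cfsg.Agent.Lib.Helper46_Char.conjEquiv L (q : G) (hQL q.2)).toMonoidHom
  have hc : ∀ (q : ↥Q) (x : ↥L), ((c q x : ↥L) : G) = (q : G) * x * (q : G)⁻¹ := fun _ _ => rfl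
  let φ : ↥L →* Abelianization ↥L := ∏ q : ↥Q, (Abelianization.of).comp (c q)
  have hφ : ∀ x : ↥L, φ x = ∏ q : ↥Q, Abelianization.of (c q x) := by
    intro x
    simp only [φ, MonoidHom.finsetProd_apply, MonoidHom.comp_apply]
  -- invariance
  have hinv : ∀ (q₀ : ↥Q) (x : ↥L), φ (c q₀ x) = φ x := by
    intro q₀ x
    rw [hφ, hφ]
    refine Fintype.prod_equiv (Equiv.mulRight q₀) _ _ (fun q => ?_)
    congr 1
    apply Subtype.ext
    rw [hc, hc, hc]
    simp only [Equiv.coe_mulRight, Subgroup.coe_mul, mul_inv_rev]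
    group
  -- `φ` kills commutators
  have hker : ⁅L, Q⁆ ≤ (φ.ker).map L.subtype := by
    rw [Subgroup.commutator_le]
    intro x hx q hq
    have hmem : ⁅x, q⁆ ∈ L := commutator_le_left_of_le_normalizer hQL
      (Subgroup.commutator_mem_commutator hx hq)
    refine ⟨⟨⁅x, q⁆, hmem⟩, MonoidHom.mem_ker.mpr ?_, rfl⟩
    have e : (⟨⁅x, q⁆, hmem⟩ : ↥L) = ⟨x, hx⟩ * c ⟨q, hq⟩ (⟨x, hx⟩⁻¹) := by
      apply Subtype.ext
      rw [Subgroup.coe_mul, hc]
      simp only [commutatorElement_def, Subgroup.coe_inv]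
      group
    rw [e, map_mul, hinv, ← map_mul, mul_inv_cancel, map_one]
  have hall : ∀ x : ↥L, φ x = 1 := by
    intro x
    obtain ⟨y, hy, hyx⟩ := hker (hL x.2)
    have : y = x := Subtype.ext hyx
    rw [← this]; exact MonoidHom.mem_ker.mp hy
  have hz := hall ⟨z, hzL⟩
  rw [hφ] at hz
  have hcz : ∀ q : ↥Q, c q ⟨z, hzL⟩ = ⟨z, hzL⟩ := by
    intro q
    apply Subtype.ext
    rw [hc]
    have := Subgroup.mem_centralizer_iff.mp hzQ (q : G) q.2
    simp only
    rw [this]; group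
  simp only [hcz, Finset.prod_const, Finset.card_univ] at hz
  rw [← map_pow, ← MonoidHom.mem_ker, Abelianization.ker_of] at hz
  rw [← Subgroup.map_subtype_commutator]
  refine ⟨_, hz, ?_⟩
  simp [Nat.card_eq_fintype_card]

/-- If `L` is generated by elements whose `m`-th powers lie in `⁅L,L⁆`, then all `m`-th powers of
elements of `L` lie in `⁅L,L⁆`. -/
theorem pow_mem_commutator_of_generated (L : Subgroup G) (m : ℕ) (S : Set G)
    (hS : L ≤ Subgroup.closure S) (hSL : S ⊆ L) (hm : ∀ s ∈ S, s ^ m ∈ ⁅L, L⁆) :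
    ∀ x ∈ L, x ^ m ∈ ⁅L, L⁆ := by
  let ψ : ↥L →* Abelianization ↥L := (powMonoidHom m).comp Abelianization.of
  have hψ : ∀ x : ↥L, x ∈ ψ.ker ↔ (x : G) ^ m ∈ ⁅L, L⁆ := by
    intro x
    rw [MonoidHom.mem_ker]
    show (Abelianization.of x) ^ m = 1 ↔ _
    rw [← map_pow, ← MonoidHom.mem_ker, Abelianization.ker_of, ← Subgroup.map_subtype_commutator]
    constructor
    · intro h; exact ⟨_, h, by simp⟩
    · rintro ⟨y, hy, hyx⟩
      have : y = x ^ m := Subtype.ext (by simpa using hyx)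
      rw [← this]; exact hy
  have hle : Subgroup.closure S ≤ (ψ.ker).map L.subtype := by
    rw [Subgroup.closure_le]
    intro s hs
    exact ⟨⟨s, hSL hs⟩, (hψ _).mpr (hm s hs), rfl⟩
  intro x hx
  obtain ⟨y, hy, hyx⟩ := hle (hS hx)
  have := (hψ y).mp hy
  rw [← hyx]; exact this

/-- If `g ^ a` and `g ^ b` lie in `N` with `a`, `b` coprime then `g ∈ N`. -/
theorem mem_of_pow_mem_of_coprime' (N : Subgroup G) {g : G} {a b : ℕ} (hab : Nat.Coprime a b)
    (ha : g ^ a ∈ N) (hb : g ^ b ∈ N) : g ∈ N := by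
  have h := Nat.gcd_eq_gcd_ab a b
  rw [hab] at h
  have e : g = (g ^ a) ^ (Nat.gcdA a b) * (g ^ b) ^ (Nat.gcdB a b) := by
    rw [← zpow_natCast g a, ← zpow_natCast g b, ← zpow_mul, ← zpow_mul, ← zpow_add, ← h]
    simp
  rw [e]
  exact N.mul_mem (N.zpow_mem ha _) (N.zpow_mem hb _)

end avg

section frattini

/-- A central subgroup contained in the commutator subgroup lies in the Frattini subgroup. -/
theorem le_frattini_of_le_center_of_le_commutator {L : Type*} [Group L] (Z : Subgroup L)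
    (hZc : Z ≤ Subgroup.center L) (hZ' : Z ≤ commutator L) : Z ≤ frattini L := by
  rw [Cfsg.Agent.Lib.Helper1_Frattini.le_frattini_iff]
  intro M hM
  by_contra hZM
  have htop : M ⊔ Z = ⊤ := by
    by_contra hne
    have hlt : M < M ⊔ Z := lt_of_le_of_ne le_sup_left (fun h => hZM (h ▸ le_sup_right))
    exact hne (hM.2 _ hlt)
  -- then `commutator L ≤ M`
  have hZn : Z ≤ Subgroup.centralizer (⊤ : Set L) := by
    intro z hz
    rw [Subgroup.mem_centralizer_iff]
    intro g _
    exact (Subgroup.mem_center_iff.mp (hZc hz) g)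
  have hcomm : commutator L ≤ M := by
    rw [commutator_def, ← htop, Subgroup.commutator_le]
    intro x hx y hy
    have hZN : Z ≤ Subgroup.normalizer (M : Set L) := by
      intro z hz
      rw [Subgroup.mem_normalizer_iff]
      intro m
      have hc := Subgroup.mem_center_iff.mp (hZc hz) m
      have : z * m * z⁻¹ = m := by rw [← hc]; group
      rw [this]
    obtain ⟨m, hm, z, hz, rfl⟩ := exists_mul_of_mem_sup hZN hx
    obtain ⟨m', hm', z', hz', rfl⟩ := exists_mul_of_mem_sup hZN hy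
    have hzc := Subgroup.mem_center_iff.mp (hZc hz)
    have hz'c := Subgroup.mem_center_iff.mp (hZc hz')
    have e : ⁅m * z, m' * z'⁆ = ⁅m, m'⁆ := by
      simp only [commutatorElement_def, mul_inv_rev]
      have h1 : ∀ g : L, g * z = z * g := hzc
      have h2 : ∀ g : L, g * z' = z' * g := hz'c
      have h3 : ∀ g : L, g * z⁻¹ = z⁻¹ * g := fun g => by
        have := h1 (z⁻¹ * g * z⁻¹)
        have e1 : z⁻¹ * g * z⁻¹ * z = z⁻¹ * g := by group
        have e2 : z * (z⁻¹ * g * z⁻¹) = g * z⁻¹ := by group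
        rw [e1, e2] at this; exact this.symm
      have h4 : ∀ g : L, g * z'⁻¹ = z'⁻¹ * g := fun g => by
        have := h2 (z'⁻¹ * g * z'⁻¹)
        have e1 : z'⁻¹ * g * z'⁻¹ * z' = z'⁻¹ * g := by group
        have e2 : z' * (z'⁻¹ * g * z'⁻¹) = g * z'⁻¹ := by group
        rw [e1, e2] at this; exact this.symm
      calc m * z * (m' * z') * (z⁻¹ * m⁻¹) * (z'⁻¹ * m'⁻¹)
          = m * (z * (m' * z') * z⁻¹) * m⁻¹ * (z'⁻¹ * m'⁻¹) := by group
        _ = m * (m' * z') * m⁻¹ * (z'⁻¹ * m'⁻¹) := by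
            rw [← h1 (m' * z')]; group
        _ = m * m' * (z' * (m⁻¹ * z'⁻¹)) * m'⁻¹ := by group
        _ = m * m' * (m⁻¹) * m'⁻¹ := by rw [h4 m⁻¹]; group
    rw [e]
    exact M.mul_mem (M.mul_mem (M.mul_mem hm hm') (M.inv_mem hm)) (M.inv_mem hm')
  exact hZM (hZ'.trans hcomm)

end frattini

section normalizers

variable {G : Type*} [Group G]

theorem normalizer_inf_le_normalizer_inf (A B : Subgroup G) :
    Subgroup.normalizer (A : Set G) ⊓ Subgroup.normalizer (B : Set G) ≤
      Subgroup.normalizer ((A ⊓ B : Subgroup G) : Set G) := by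
  intro g hg
  obtain ⟨hA, hB⟩ := Subgroup.mem_inf.mp hg
  rw [Subgroup.mem_normalizer_iff]
  intro n
  simp only [Subgroup.mem_inf]
  rw [Subgroup.mem_normalizer_iff.mp hA n, Subgroup.mem_normalizer_iff.mp hB n]

theorem normalizer_inf_le_normalizer_sup (A B : Subgroup G) :
    Subgroup.normalizer (A : Set G) ⊓ Subgroup.normalizer (B : Set G) ≤
      Subgroup.normalizer ((A ⊔ B : Subgroup G) : Set G) := by
  have key : ∀ g : G, g ∈ Subgroup.normalizer (A : Set G) → g ∈ Subgroup.normalizer (B : Set G) →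
      ∀ n ∈ A ⊔ B, g * n * g⁻¹ ∈ A ⊔ B := by
    intro g hA hB n hn
    have hle : A ⊔ B ≤ (A ⊔ B).comap (MulAut.conj g).toMonoidHom := by
      refine sup_le ?_ ?_
      · intro a ha
        rw [Subgroup.mem_comap]
        exact Subgroup.mem_sup_left ((Subgroup.mem_normalizer_iff.mp hA a).mp ha)
      · intro b hb
        rw [Subgroup.mem_comap]
        exact Subgroup.mem_sup_right ((Subgroup.mem_normalizer_iff.mp hB b).mp hb)
    have := hle hn
    rw [Subgroup.mem_comap] at this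
    exact this
  intro g hg
  obtain ⟨hA, hB⟩ := Subgroup.mem_inf.mp hg
  rw [Subgroup.mem_normalizer_iff]
  intro n
  refine ⟨key g hA hB n, fun hn => ?_⟩
  have := key g⁻¹ (Subgroup.inv_mem _ hA) (Subgroup.inv_mem _ hB) _ hn
  have e : g⁻¹ * (g * n * g⁻¹) * g⁻¹⁻¹ = n := by group
  rwa [e] at this

/-- Fixed points: a `p`-group `Q` normalizing a finite subgroup `C` of order divisible by `p`
centralizes an element of order `p` of `C`. -/
theorem exists_orderOf_eq_prime_of_normalizes {p : ℕ} [Fact p.Prime] (C Q : Subgroup G)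
    [Finite ↥C] (hQ : IsPGroup p ↥Q) (hQC : Q ≤ Subgroup.normalizer (C : Set G))
    (hp : p ∣ Nat.card ↥C) :
    ∃ z ∈ C ⊓ Subgroup.centralizer (Q : Set G), orderOf z = p := by
  let act : MulAction ↥Q ↥C :=
    { smul := fun q c => ⟨(q : G) * c * (q : G)⁻¹,
        (Subgroup.mem_normalizer_iff.mp (hQC q.2) _).mp c.2⟩
      one_smul := by
        intro c
        apply Subtype.ext
        show ((1 : ↥Q) : G) * c * ((1 : ↥Q) : G)⁻¹ = c
        simp
      mul_smul := by
        intro a b c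
        apply Subtype.ext
        show ((a * b : ↥Q) : G) * c * ((a * b : ↥Q) : G)⁻¹ =
          (a : G) * ((b : G) * c * (b : G)⁻¹) * (a : G)⁻¹
        simp only [Subgroup.coe_mul]
        group }
  have hsmul : ∀ (q : ↥Q) (c : ↥C), ((act.smul q c : ↥C) : G) = (q : G) * c * (q : G)⁻¹ :=
    fun _ _ => rfl
  have hmod := @IsPGroup.card_modEq_card_fixedPoints p ↥Q _ hQ _ ↥C act _
  have hfix : ∀ c : ↥C, c ∈ @MulAction.fixedPoints ↥Q ↥C _ act ↔
      (c : G) ∈ Subgroup.centralizer (Q : Set G) := by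
    intro c
    rw [Subgroup.mem_centralizer_iff]
    constructor
    · intro h q hq
      have := congrArg Subtype.val (h ⟨q, hq⟩)
      have h' : q * (c : G) * q⁻¹ = c := this
      calc q * (c : G) = (q * (c : G) * q⁻¹) * q := by group
        _ = (c : G) * q := by rw [h']
    · intro h q
      apply Subtype.ext
      show (q : G) * c * (q : G)⁻¹ = c
      rw [h q q.2]; group
  let e : ↥(@MulAction.fixedPoints ↥Q ↥C _ act) ≃ ↥(C ⊓ Subgroup.centralizer (Q : Set G)) :=
    { toFun := fun c => ⟨(c.1 : G), Subgroup.mem_inf.mpr ⟨c.1.2, (hfix c.1).mp c.2⟩⟩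
      invFun := fun z => ⟨⟨z.1, (Subgroup.mem_inf.mp z.2).1⟩,
        (hfix _).mpr (Subgroup.mem_inf.mp z.2).2⟩
      left_inv := fun c => rfl
      right_inv := fun z => rfl }
  have hcard : p ∣ Nat.card ↥(C ⊓ Subgroup.centralizer (Q : Set G)) := by
    rw [← Nat.card_congr e]
    exact (Nat.modEq_zero_iff_dvd.mp (hmod.symm.trans (Nat.modEq_zero_iff_dvd.mpr hp)))
  have : Finite ↥(C ⊓ Subgroup.centralizer (Q : Set G)) :=
    Finite.of_injective (fun z => (⟨z.1, (Subgroup.mem_inf.mp z.2).1⟩ : ↥C))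
      (fun a b h => Subtype.ext (congrArg (fun c : ↥C => (c : G)) h))
  obtain ⟨z, hz⟩ := exists_prime_orderOf_dvd_card' (G := ↥(C ⊓ Subgroup.centralizer (Q : Set G))) p hcard
  exact ⟨z.1, z.2, by rw [Subgroup.orderOf_coe]; exact hz⟩

end normalizers

end Cfsg.Agent.Lib.Helper49_FStarComm
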