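import Mathlib
import Cfsg.Agent.Lib.Helper33_BG16a
import Cfsg.Agent.Lib.Helper49_FStarComm5

/-!
# Bender–Glauberman §16, Theorem A(3) and Theorem C(3) (helper33)

From the earlier statements of the chain taken as hypotheses (`Helper33_BG16Hyp`):
* `statement_S1353` (from S1430): `C_U(k) = 1` for `k ∈ K#`;
* `statement_S1365` (from S1426, S1430): `M' = U M_σ` and `K* = C_{M_σ}(K) ≤ M''`
  (`U = [U,K]` by fixed-point-freeness, `M_σ = [M_σ, UK]`, so `M' = [M', K]`, and the averaging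
  lemma `pow_card_mem_commutator_of_centralizes` of helper49 gives `z ^ |K| ∈ M''` for `z ∈ K*`).
General lemmas: `le_normalizer_commutator_left/right`, `le_commutator_of_fpf`,
`commutator_le_of_abelian_supplement`.
-/

set_option autoImplicit false

namespace Cfsg.Agent.Lib.Helper33_BG16b

open Subgroup Cfsg Cfsg.Agent.Lib.Helper33_BG16Hyp Cfsg.Agent.Lib.Helper33_BG16a
open scoped Pointwise commutatorElement

variable {G : Type*} [Group G]

/-- `⁅H, K⁆` is normalized by `H` -/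
theorem le_normalizer_commutator_left (H K : Subgroup G) :
    H ≤ normalizer ((⁅H, K⁆ : Subgroup G) : Set G) := by
  have key : ∀ h ∈ H, ∀ n ∈ ⁅H, K⁆, h * n * h⁻¹ ∈ ⁅H, K⁆ := by
    intro h hh n hn
    have hle : ⁅H, K⁆ ≤ (⁅H, K⁆ : Subgroup G).comap (MulAut.conj h).toMonoidHom := by
      rw [Subgroup.commutator_le]
      intro a ha b hb
      rw [Subgroup.mem_comap]
      have e : (MulAut.conj h).toMonoidHom ⁅a, b⁆ = ⁅h * a, b⁆ * ⁅h, b⁆⁻¹ := by
        simp only [MulEquiv.coe_toMonoidHom, MulAut.conj_apply, commutatorElement_def]; group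
      rw [e]
      exact mul_mem (Subgroup.commutator_mem_commutator (mul_mem hh ha) hb)
        (inv_mem (Subgroup.commutator_mem_commutator hh hb))
    exact hle hn
  intro h hh
  rw [mem_normalizer_iff]
  intro n
  refine ⟨key h hh n, fun hn => ?_⟩
  have := key h⁻¹ (inv_mem hh) _ hn
  have e : h⁻¹ * (h * n * h⁻¹) * h⁻¹⁻¹ = n := by group
  rwa [e] at this

theorem le_normalizer_commutator_right (H K : Subgroup G) :
    K ≤ normalizer ((⁅H, K⁆ : Subgroup G) : Set G) := by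
  rw [Subgroup.commutator_comm]; exact le_normalizer_commutator_left K H

/-- a fixed-point-free element `k` normalizing the finite subgroup `U`: `U ≤ ⁅U, K⁆` for `k ∈ K` -/
theorem le_commutator_of_fpf [Finite G] {U K : Subgroup G} {k : G} (hk : k ∈ K)
    (hkU : k ∈ normalizer (U : Set G)) (hfpf : U ⊓ centralizer ({k} : Set G) = ⊥) :
    U ≤ ⁅U, K⁆ := by
  let f : ↥U → ↥U := fun v => ⟨(v : G)⁻¹ * (k * v * k⁻¹),
    mul_mem (inv_mem v.2) ((mem_normalizer_iff.mp hkU v).mp v.2)⟩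
  have hinj : Function.Injective f := by
    intro v w hvw
    have h1 : (v : G)⁻¹ * (k * v * k⁻¹) = (w : G)⁻¹ * (k * w * k⁻¹) :=
      congrArg (fun z : ↥U => (z : G)) hvw
    have h2 : (w : G) * (v : G)⁻¹ ∈ U ⊓ centralizer ({k} : Set G) := by
      refine Subgroup.mem_inf.mpr ⟨mul_mem w.2 (inv_mem v.2), ?_⟩
      rw [Subgroup.mem_centralizer_singleton_iff]
      have h3 : (w : G) * (v : G)⁻¹ = k * ((w : G) * (v : G)⁻¹) * k⁻¹ := by
        have : (w : G) * ((v : G)⁻¹ * (k * v * k⁻¹)) * (k * (v : G)⁻¹ * k⁻¹) =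
            (w : G) * ((w : G)⁻¹ * (k * w * k⁻¹)) * (k * (v : G)⁻¹ * k⁻¹) := by rw [h1]
        have e1 : (w : G) * ((v : G)⁻¹ * (k * v * k⁻¹)) * (k * (v : G)⁻¹ * k⁻¹) = w * (v : G)⁻¹ := by
          group
        have e2 : (w : G) * ((w : G)⁻¹ * (k * w * k⁻¹)) * (k * (v : G)⁻¹ * k⁻¹) =
            k * ((w : G) * (v : G)⁻¹) * k⁻¹ := by group
        rw [e1, e2] at this
        exact this
      symm
      calc k * ((w : G) * (v : G)⁻¹) = k * ((w : G) * (v : G)⁻¹) * k⁻¹ * k := by group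
        _ = (w : G) * (v : G)⁻¹ * k := by rw [← h3]
    rw [hfpf, Subgroup.mem_bot, mul_inv_eq_one] at h2
    exact (Subtype.ext h2).symm
  have hsurj : Function.Surjective f := Finite.surjective_of_injective hinj
  intro u hu
  obtain ⟨v, hv⟩ := hsurj ⟨u, hu⟩
  have h1 : u = (v : G)⁻¹ * (k * v * k⁻¹) := (congrArg (fun z : ↥U => (z : G)) hv).symm
  have h2 : u = ⁅(v : G)⁻¹, k⁆ := by
    rw [h1, commutatorElement_def]; group
  rw [h2]
  exact Subgroup.commutator_mem_commutator (inv_mem v.2) hk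

/-- `N ⊴ M = N A` with `A` abelian: `M' ≤ N` -/
theorem commutator_le_of_abelian_supplement {N A M : Subgroup G}
    (hnorm : M ≤ normalizer (N : Set G)) (hAM : A ≤ M)
    (hA : ∀ a ∈ A, ∀ b ∈ A, a * b = b * a) (hmul : ∀ m ∈ M, ∃ n ∈ N, ∃ a ∈ A, m = n * a) :
    ⁅M, M⁆ ≤ N := by
  rw [Subgroup.commutator_le]
  intro m₁ hm₁ m₂ hm₂
  obtain ⟨n₁, hn₁, a₁, ha₁, rfl⟩ := hmul m₁ hm₁
  obtain ⟨n₂, hn₂, a₂, ha₂, rfl⟩ := hmul m₂ hm₂
  have h' : a₂ * a₁⁻¹ = a₁⁻¹ * a₂ := by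
    have := hA a₁ ha₁ a₂ ha₂
    calc a₂ * a₁⁻¹ = a₁⁻¹ * (a₁ * a₂) * a₁⁻¹ := by group
      _ = a₁⁻¹ * (a₂ * a₁) * a₁⁻¹ := by rw [this]
      _ = a₁⁻¹ * a₂ := by group
  have e1 : ⁅n₁ * a₁, n₂ * a₂⁆ = n₁ * a₁ * n₂ * (a₂ * a₁⁻¹) * n₁⁻¹ * a₂⁻¹ * n₂⁻¹ := by
    simp only [commutatorElement_def]; group
  have e2 : n₁ * a₁ * n₂ * (a₁⁻¹ * a₂) * n₁⁻¹ * a₂⁻¹ * n₂⁻¹ =
      n₁ * (a₁ * n₂ * a₁⁻¹) * (a₂ * n₁⁻¹ * a₂⁻¹) * n₂⁻¹ := by group
  rw [e1, h', e2]
  have c1 : a₁ * n₂ * a₁⁻¹ ∈ N := (mem_normalizer_iff.mp (hnorm (hAM ha₁)) n₂).mp hn₂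
  have c2 : a₂ * n₁⁻¹ * a₂⁻¹ ∈ N := (mem_normalizer_iff.mp (hnorm (hAM ha₂)) n₁⁻¹).mp (inv_mem hn₁)
  exact mul_mem (mul_mem (mul_mem hn₁ c1) c2) (inv_mem hn₂)


/-- **S1353** from S1430: `C_U(k) = 1` for `k ∈ K#`. -/
theorem statement_S1353 [Finite G] (h1430 : H1430 G)
    (M : Subgroup G) (hM : IsCoatom M) (K U : Subgroup G) (hKU : Cfsg.IsSigmaDecomposition M K U) :
    ∀ k ∈ K, k ≠ 1 → U ⊓ Subgroup.centralizer ({k} : Set G) = ⊥ := by
  intro k hk hk1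
  have hK1 : K ≠ ⊥ := fun h => hk1 (by rw [h, Subgroup.mem_bot] at hk; exact hk)
  obtain ⟨-, -, hN⟩ := h1430 M hM K hKU.hall hK1
  -- a power of `k` of prime order
  have ho : orderOf k ≠ 1 := fun h => hk1 (orderOf_eq_one_iff.mp h)
  obtain ⟨q, hq, hqd⟩ := Nat.exists_prime_and_dvd ho
  obtain ⟨d, hd⟩ := hqd
  have hopos : 0 < orderOf k := orderOf_pos k
  have hd0 : d ≠ 0 := by
    rintro rfl
    rw [mul_zero] at hd
    omega
  have hk₀ : orderOf (k ^ d) = q := by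
    rw [orderOf_pow' k hd0, hd, Nat.gcd_mul_left_left,
      Nat.mul_div_cancel _ (Nat.pos_of_ne_zero hd0)]
  have hXK : zpowers (k ^ d) ≤ K := by rw [zpowers_le]; exact pow_mem hk d
  have hXcard : (Nat.card (zpowers (k ^ d))).Prime := by rw [Nat.card_zpowers, hk₀]; exact hq
  obtain ⟨hNX, -, -⟩ := hN (zpowers (k ^ d)) hXK hXcard
  rw [eq_bot_iff]
  intro u hu
  obtain ⟨huU, huc⟩ := Subgroup.mem_inf.mp hu
  rw [Subgroup.mem_centralizer_singleton_iff] at huc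
  have h1 : u ∈ M ⊓ normalizer ((zpowers (k ^ d) : Subgroup G) : Set G) := by
    refine Subgroup.mem_inf.mpr ⟨dec_U_le hKU huU, ?_⟩
    apply Subgroup.centralizer_le_normalizer
    rw [mem_centralizer_zpowers_iff]
    exact ((show Commute u k from huc).symm.pow_left d).eq
  rw [hNX] at h1
  have h2 : u ∈ U ⊓ (K ⊔ sigmaCore M) :=
    Subgroup.mem_inf.mpr ⟨huU, sup_le_sup_left inf_le_left K h1⟩
  rw [hKU.compl.2.2.1] at h2
  exact h2


theorem dec_coprime_K [Finite G] {M K U : Subgroup G} (h : IsSigmaDecomposition M K U) :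
    (Nat.card K).Coprime (Nat.card (sigmaCore M)) := by
  by_contra hnc
  obtain ⟨q, hq, hq1, hq2⟩ := Nat.Prime.not_coprime_iff_dvd.mp hnc
  exact not_mem_sigma_of_mem_kappa (h.hall.2.1 q hq hq1)
    (Cfsg.Agent.Lib.Helper70_BG1012.card_sigmaCore_mem M q hq hq2)

/-- **S1365** from the earlier statements -/
theorem statement_S1365 [Finite G] (h1426 : H1426 G) (h1430 : H1430 G)
    (M : Subgroup G) (hM : IsCoatom M) (K U : Subgroup G) (hKU : Cfsg.IsSigmaDecomposition M K U)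
    (hK1 : K ≠ ⊥) :
    ⁅M, M⁆ = U ⊔ Cfsg.sigmaCore M ∧
      (Cfsg.sigmaCore M ⊓ Subgroup.centralizer (K : Set G)) ≤ ⁅⁅M, M⁆, ⁅M, M⁆⁆ := by
  have hUM : U ≤ M := dec_U_le hKU
  have hKM : K ≤ M := dec_K_le hKU
  have hE := dec_compl hKU
  obtain ⟨-, hcomm, -⟩ := h1426 M hM (U ⊔ K) hE
  obtain ⟨⟨k, hk⟩, hk1'⟩ := (Subgroup.ne_bot_iff_exists_ne_one).mp hK1
  have hk1 : k ≠ 1 := fun h => hk1' (Subtype.ext h)
  have hfpf := statement_S1353 h1430 M hM K U hKU k hk hk1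
  have hUc : U ≤ ⁅U, K⁆ := le_commutator_of_fpf hk (hKU.normal hk) hfpf
  have hKab : ∀ a ∈ K, ∀ b ∈ K, a * b = b * a := by
    intro a ha b hb
    have := hKU.cyclic
    have h1 := (IsCyclic.commGroup (α := ↥K)).mul_comm ⟨a, ha⟩ ⟨b, hb⟩
    exact congrArg (fun z : ↥K => (z : G)) h1
  -- the derived group
  have hder : ⁅M, M⁆ = U ⊔ sigmaCore M := by
    apply le_antisymm
    · apply commutator_le_of_abelian_supplement (dec_normal hKU) hKM hKab
      intro m hm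
      obtain ⟨e, he, s, hs, rfl⟩ := hE.2.2.2 m hm
      have he' : e ∈ (↑(U ⊔ K) : Set G) := he
      rw [coe_mul_of_right_le_normalizer_left U K hKU.normal] at he'
      obtain ⟨u, hu, k', hk', rfl⟩ := Set.mem_mul.mp he'
      refine ⟨u * (k' * s * k'⁻¹), mul_mem (le_sup_left (b := sigmaCore M) hu)
        (le_sup_right (a := U) (conj_mem_sigmaCore (hKM hk') hs)), k', hk', by group⟩
    · apply sup_le
      · exact hUc.trans (Subgroup.commutator_mono hUM hKM)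
      · rw [← hcomm]
        exact Subgroup.commutator_mono (sigmaCore_le M) hE.1
  refine ⟨hder, ?_⟩
  -- `L = M'`, `B = ⁅L, K⁆`
  have hSL : sigmaCore M ≤ ⁅M, M⁆ := by rw [hder]; exact le_sup_right
  have hUL : U ≤ ⁅M, M⁆ := by rw [hder]; exact le_sup_left
  have hML : M ≤ normalizer ((⁅⁅M, M⁆, K⁆ : Subgroup G) : Set G) := by
    intro m hm
    obtain ⟨e, he, s, hs, rfl⟩ := hE.2.2.2 m hm
    have he' : e ∈ (↑(U ⊔ K) : Set G) := he
    rw [coe_mul_of_right_le_normalizer_left U K hKU.normal] at he'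
    obtain ⟨u, hu, k', hk', rfl⟩ := Set.mem_mul.mp he'
    exact mul_mem (mul_mem (le_normalizer_commutator_left _ _ (hUL hu))
      (le_normalizer_commutator_right _ _ hk')) (le_normalizer_commutator_left _ _ (hSL hs))
  have hUB : U ≤ ⁅⁅M, M⁆, K⁆ := hUc.trans (Subgroup.commutator_mono hUL le_rfl)
  have hSB : sigmaCore M ≤ ⁅⁅M, M⁆, K⁆ := by
    rw [← hcomm, Subgroup.commutator_le]
    intro s hs e he
    have he' : e ∈ (↑(U ⊔ K) : Set G) := he
    rw [coe_mul_of_right_le_normalizer_left U K hKU.normal] at he'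
    obtain ⟨u, hu, k', hk', rfl⟩ := Set.mem_mul.mp he'
    have e1 : ⁅s, u * k'⁆ = (s * u * s⁻¹) * u⁻¹ * (u * ⁅s, k'⁆ * u⁻¹) := by
      simp only [commutatorElement_def]; group
    rw [e1]
    have c1 : s * u * s⁻¹ ∈ ⁅⁅M, M⁆, K⁆ :=
      (mem_normalizer_iff.mp (hML (sigmaCore_le M hs)) u).mp (hUB hu)
    have c2 : u * ⁅s, k'⁆ * u⁻¹ ∈ ⁅⁅M, M⁆, K⁆ :=
      (mem_normalizer_iff.mp (hML (hUM hu)) _).mp
        (Subgroup.commutator_mem_commutator (hSL hs) hk')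
    exact mul_mem (mul_mem c1 (inv_mem (hUB hu))) c2
  have hLB : ⁅M, M⁆ ≤ ⁅⁅M, M⁆, K⁆ := by
    conv_lhs => rw [hder]
    exact sup_le hUB hSB
  have hKL : K ≤ normalizer ((⁅M, M⁆ : Subgroup G) : Set G) :=
    hKM.trans (le_normalizer_commutator_left M M)
  intro z hz
  obtain ⟨hzS, hzK⟩ := Subgroup.mem_inf.mp hz
  have h1 := Cfsg.Agent.Lib.Helper49_FStarComm.pow_card_mem_commutator_of_centralizes ⁅M, M⁆ K hKL hLB
    (hSL hzS) hzK
  have h2 : z ^ Nat.card (sigmaCore M) ∈ ⁅⁅M, M⁆, ⁅M, M⁆⁆ := by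
    have := pow_card_eq_one' (G := ↥(sigmaCore M)) (x := ⟨z, hzS⟩)
    have h3 : z ^ Nat.card (sigmaCore M) = 1 := congrArg (fun w : ↥(sigmaCore M) => (w : G)) this
    rw [h3]; exact one_mem _
  exact Cfsg.Agent.Lib.Helper49_FStarComm.mem_of_pow_mem_of_coprime' _ (dec_coprime_K hKU) h1 h2

end Cfsg.Agent.Lib.Helper33_BG16b
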