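import Cfsg.Agent.S1405
import Cfsg.Agent.S1451
import Cfsg.Agent.Lib.Helper22_BGTrans
import Cfsg.Agent.Lib.Helper31_ThreeStepMain

/-!
# `M_σ ≠ 1` for a maximal subgroup of a minimal simple group of odd order (helper34)

From S1405 (`M_α` is a Hall `α(M)`-subgroup contained in `M_σ`) when `M` has rank at least 3, and from
S1451 (a solvable group of odd order and rank at most 2 has a normal Sylow subgroup for its largest
prime) otherwise.
-/

set_option autoImplicit false
set_option linter.unusedSectionVars false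

namespace Cfsg.Agent.Lib.Helper34_SigmaNe

open Subgroup Cfsg

variable {G : Type*} [Group G] [Finite G]

/-- a maximal subgroup of a nonsolvable group is nontrivial -/
theorem coatom_ne_bot (hG : IsMinSimpleOddOrder G) {M : Subgroup G} (hM : IsCoatom M) : M ≠ ⊥ := by
  intro hbot
  have key : ∀ g : G, g ≠ 1 → zpowers g = ⊤ := by
    intro g hg
    apply hM.2
    rw [hbot, bot_lt_iff_ne_bot]
    intro h
    exact hg (Subgroup.zpowers_eq_bot.mp h)
  have hcomm : ∀ a b : G, a * b = b * a := by
    intro a b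
    by_cases ha : a = 1
    · rw [ha]; simp
    · have hb : b ∈ zpowers a := by rw [key a ha]; exact Subgroup.mem_top b
      obtain ⟨j, rfl⟩ := Subgroup.mem_zpowers_iff.mp hb
      have := zpow_mul_comm a 1 j
      rwa [zpow_one] at this
  exact Cfsg.Agent.Lib.Helper31_ThreeStepMain.not_isSolvable hG (Group.isSolvable_of_comm hcomm)


/-- `M_σ ≠ 1` -/
theorem sigmaCore_ne_bot (hG : IsMinSimpleOddOrder G) {M : Subgroup G} (hM : IsCoatom M) :
    sigmaCore M ≠ ⊥ := by
  have hMne := coatom_ne_bot hG hM
  have hsolv : Group.IsSolvable ↥M :=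
    Cfsg.Agent.Lib.Helper31_ThreeStepMain.isSolvable_of_ne_top hG hM.1
  by_cases hr : RankLE 2 ↥M
  · -- rank at most 2: the Sylow subgroup for the largest prime is normal
    have hodd : Odd (Nat.card ↥M) := Cfsg.Agent.Lib.Helper31_ThreeStepMain.odd_card_subgroup hG M
    obtain ⟨-, -, h3⟩ := Cfsg.Agent.S1451.result (G := ↥M) hodd (Or.inl hr)
    have hcard : 1 < Nat.card ↥M := by
      have h0 : 0 < Nat.card ↥M := Nat.card_pos
      have h1 : Nat.card ↥M ≠ 1 := fun h => hMne (Subgroup.card_eq_one.mp h)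
      omega
    have hne : (Nat.card ↥M).primeFactors.Nonempty := Nat.nonempty_primeFactors.mpr hcard
    set q := (Nat.card ↥M).primeFactors.max' hne with hq
    have hqmem : q ∈ (Nat.card ↥M).primeFactors := Finset.max'_mem _ hne
    have hqp : q.Prime := (Nat.mem_primeFactors.mp hqmem).1
    have hqd : q ∣ Nat.card ↥M := (Nat.mem_primeFactors.mp hqmem).2.1
    have hmax : ∀ r : ℕ, r.Prime → r ∣ Nat.card ↥M → r ≤ q := fun r hr hrd =>
      Finset.le_max' _ r (Nat.mem_primeFactors.mpr ⟨hr, hrd, by omega⟩)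
    obtain ⟨N, hNchar, hN1, hN2⟩ := h3 (q - 1)
    have : Fact q.Prime := ⟨hqp⟩
    have hNq : ∀ r : ℕ, r.Prime → r ∣ Nat.card N → r = q := by
      intro r hr hrd
      have h1 := (hN1 r hr hrd).2
      have h2 := hmax r hr (hrd.trans (Subgroup.card_subgroup_dvd_card N))
      omega
    have hNp : IsPGroup q N := by
      have h0 : Nat.card N ≠ 0 := Nat.card_pos.ne'
      have := Nat.eq_prime_pow_of_unique_prime_dvd h0 (fun {d} hd hdd => hNq d hd hdd)
      exact IsPGroup.of_card this
    have hidx : ¬ q ∣ N.index := hN2 q hqp ⟨hqp, by have := hqp.pos; omega⟩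
    have hN1' : N ≠ ⊥ := by
      intro h
      apply hidx
      rw [h, Subgroup.index_bot]
      exact hqd
    have hNn : N.Normal := Subgroup.normal_of_characteristic N
    set Y : Subgroup G := N.map M.subtype with hY
    have hYM : Y ≤ M := Subgroup.map_subtype_le N
    have hMY : M ≤ normalizer (Y : Set G) := by
      have h1 := Subgroup.le_normalizer_map (H := N) M.subtype
      rw [Subgroup.normalizer_eq_top, ← MonoidHom.range_eq_map, Subgroup.range_subtype] at h1
      exact h1
    have hYp : IsPGroup q Y := hNp.map M.subtype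
    have hY1 : Y ≠ ⊥ := by
      intro h
      exact hN1' ((Subgroup.map_eq_bot_iff_of_injective _ M.subtype_injective).mp h)
    have hnY : normalizer (Y : Set G) ≤ M := by
      rcases eq_or_lt_of_le hMY with h | h
      · rw [← h]
      · exact absurd (hM.2 _ h)
          (Cfsg.Agent.Lib.Helper31_ThreeStepMain.normalizer_ne_top hG hYp hY1)
    have hqσ : q ∈ sigma M := by
      refine ⟨hqp, hqd, hNp.toSylow hidx, ?_⟩
      rw [IsPGroup.toSylow_coe]
      exact hnY
    have hYσ : Y ≤ sigmaCore M := by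
      refine Cfsg.Agent.Lib.Helper22_BGTrans.le_piCoreOf hYM hMY ?_
      intro r hr hrd
      have hc : Nat.card Y = Nat.card N := Subgroup.card_map_of_injective M.subtype_injective
      rw [hc] at hrd
      rw [hNq r hr hrd]
      exact hqσ
    intro h
    rw [h] at hYσ
    exact hY1 (le_bot_iff.mp hYσ)
  · -- rank at least 3: `M_α ≠ 1`
    unfold RankLE at hr
    push Not at hr
    obtain ⟨p, hp, hpr⟩ := hr
    have hpα : p ∈ alpha M := ⟨hp, hpr⟩
    obtain ⟨hHall, -, hle, -, -⟩ := Cfsg.Agent.S1405.result hG M hM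
    unfold PRankLE at hpr
    push Not at hpr
    obtain ⟨A, -, hAp, hAc⟩ := hpr
    have hpM : p ∣ Nat.card ↥M := by
      have hA1 : A ≠ ⊥ := by
        rintro rfl
        rw [Subgroup.card_bot] at hAc
        have := Nat.one_le_two_pow (n := 2)
        have : 1 ≤ p ^ 2 := Nat.one_le_pow _ _ hp.pos
        omega
      obtain ⟨a, ha, ha1⟩ := (Subgroup.ne_bot_iff_exists_ne_one.mp hA1 : ∃ a : A, a ≠ 1) |>.imp
        (fun a h => h) |> fun ⟨a, h⟩ => (⟨(a : ↥M), a.2, fun h' => h (Subtype.ext h')⟩ :
          ∃ a : ↥M, a ∈ A ∧ a ≠ 1)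
      have : Fact p.Prime := ⟨hp⟩
      have ho : orderOf a = p := orderOf_eq_prime (hAp a ha) ha1
      rw [← ho]
      exact orderOf_dvd_natCard a
    have hidx : ¬ p ∣ (alphaCore M).relIndex M := hHall.2.2 p hp hpα
    have hmul : (alphaCore M).relIndex M * Nat.card (alphaCore M) = Nat.card ↥M := by
      rw [Subgroup.relIndex, ← Cfsg.Agent.Lib.Helper24_CoprimeAction.card_subgroupOf_of_le hHall.1,
        Subgroup.index_mul_card]
    have hpα' : p ∣ Nat.card (alphaCore M) := by
      rw [← hmul] at hpM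
      rcases (Nat.Prime.dvd_mul hp).mp hpM with h | h
      · exact absurd h hidx
      · exact h
    intro h
    have h1 : alphaCore M = ⊥ := le_bot_iff.mp (h ▸ hle)
    rw [h1, Subgroup.card_bot] at hpα'
    exact hp.one_lt.ne' (Nat.dvd_one.mp hpα')

end Cfsg.Agent.Lib.Helper34_SigmaNe
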