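import Mathlib
import Cfsg.Prelude.Def_OddOrderLocal
import Cfsg.Agent.Lib.Helper53_BG16b
import Cfsg.Agent.Lib.Helper1_Cores

/-!
# Bender–Glauberman, Section 16, Theorem II (c): the case `M_F ≠ M_σ`

`S1357`, from Theorem 15.2 (`S1437`), Theorem 15.7 (`S1440`), and Theorems I(a), II(a) (`S1350`, `S1355`).
-/

set_option autoImplicit false
set_option linter.unusedSectionVars false

namespace Cfsg.Agent.Lib.Helper53_BG16c

open Subgroup Cfsg Cfsg.Agent.Lib.Helper53_BG16 Cfsg.Agent.Lib.Helper53_BG16b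

variable {G : Type*} [Group G]

/-- `M` normalizes `F(M)` -/
theorem le_normalizer_fittingOf (M : Subgroup G) :
    M ≤ normalizer ((fittingOf M : Subgroup G) : Set G) := by
  have h1 := Subgroup.le_normalizer_map (H := fittingSubgroup ↥M) M.subtype
  rw [Subgroup.normalizer_eq_top_iff.mpr Cfsg.Agent.Lib.Helper1_Cores.fittingSubgroup_normal,
    ← MonoidHom.range_eq_map, Subgroup.range_subtype] at h1
  exact h1

/-- the order of `O_σ(M)` is coprime to its index -/
theorem coprime_card_index_piCore {M : Subgroup G} (h1350 : IsPiHallOf (sigma M) (sigmaCore M) M) :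
    (Nat.card (piCore (sigma M) ↥M)).Coprime (piCore (sigma M) ↥M).index := by
  have hcard : Nat.card (piCore (sigma M) ↥M) = Nat.card (sigmaCore M) :=
    (Subgroup.card_map_of_injective M.subtype_injective).symm
  have hidx : (piCore (sigma M) ↥M).index = (sigmaCore M).relIndex M := by
    unfold Subgroup.relIndex sigmaCore
    rw [Subgroup.subgroupOf, Subgroup.comap_map_eq_self_of_injective M.subtype_injective]
  rw [hcard, hidx]
  apply Nat.coprime_of_dvd
  intro p hp h1 h2
  exact h1350.2.2 p hp (h1350.2.1 p hp h1) h2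

variable [Finite G]

/-- if `M_σ ≤ F(M)` then `M_σ ≤ M_F` -/
theorem sigmaCore_le_fittingHallOf {M : Subgroup G} (h1350 : IsPiHallOf (sigma M) (sigmaCore M) M)
    (hle : sigmaCore M ≤ fittingOf M) : sigmaCore M ≤ fittingHallOf M := by
  have h1 : piCore (sigma M) ↥M ≤ fittingSubgroup ↥M :=
    (Subgroup.map_le_map_iff_of_injective M.subtype_injective).mp hle
  have hFnil : Group.IsNilpotent ↥(fittingSubgroup ↥M) :=
    Cfsg.Agent.Lib.Helper1_Cores.fittingSubgroup_isNilpotent
  have hnil : Group.IsNilpotent ↥(piCore (sigma M) ↥M) :=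
    (Group.isNilpotent_congr (Subgroup.subgroupOfEquivOfLe h1)).mp inferInstance
  have h2 : piCore (sigma M) ↥M ≤ fittingHall ↥M :=
    le_sSup ⟨inferInstance, hnil, coprime_card_index_piCore h1350⟩
  exact Subgroup.map_mono h2

/-- **Bender–Glauberman, Theorem II (c)** (`S1357`). -/
theorem fitting_hall_ne_statement {M K U : Subgroup G}
    (hne : fittingHallOf M ≠ sigmaCore M)
    (h1350 : IsPiHallOf (sigma M) (sigmaCore M) M)
    (h1355 : fittingHallOf M ≤ sigmaCore M)
    (h1437 : U = ⊥ ∧ (Nat.card K).Prime)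
    (h1440 : ∀ g : G, g ∉ M → fittingOf M ⊓ (fittingOf M).map (MulAut.conj g).toMonoidHom ≠ ⊥ →
      sigmaCore M ≤ fittingOf M) :
    U = ⊥ ∧ IsTISubset (fittingOf M : Set G) ∧ (Nat.card K).Prime := by
  refine ⟨h1437.1, ?_, h1437.2⟩
  intro g hg x hx hgx
  by_contra hx1
  have hgM : g ∉ M := fun h => hg (le_normalizer_fittingOf M h)
  have hX : fittingOf M ⊓ (fittingOf M).map (MulAut.conj g).toMonoidHom ≠ ⊥ := by
    intro h
    have h1 : g * x * g⁻¹ ∈ fittingOf M ⊓ (fittingOf M).map (MulAut.conj g).toMonoidHom :=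
      ⟨hgx, ⟨x, hx, rfl⟩⟩
    rw [h, mem_bot] at h1
    apply hx1
    have := congrArg (fun t => g⁻¹ * t * g) h1
    simpa [mul_assoc] using this
  exact hne (le_antisymm h1355 (sigmaCore_le_fittingHallOf h1350 (h1440 g hgM hX)))

end Cfsg.Agent.Lib.Helper53_BG16c
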