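import Mathlib
import Cfsg.Prelude.Def_OddOrderLocal
import Cfsg.Agent.Lib.Helper53_BG16c
import Cfsg.Agent.Lib.Helper29_BG12b

/-!
# Bender–Glauberman, Section 16, Theorem II (b): general facts

* `fittingHall M` is a nilpotent normal Hall subgroup;
* `F(M) ≤ C_M(M_F) M_F` (general);
* normal nilpotent subgroups of `M` lie in `F(M)`;
* `F(M) ≤ M'` when `κ(M)` is nonempty (from 14.2 = `S1430` and 15.1 = `S1439`).
-/

set_option autoImplicit false
set_option linter.unusedSectionVars false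

namespace Cfsg.Agent.Lib.Helper53_BG16d

open Subgroup Cfsg Cfsg.Agent.Lib.Helper53_BG16 Cfsg.Agent.Lib.Helper53_BG16b
  Cfsg.Agent.Lib.Helper53_BG16c
open scoped commutatorElement

/-! ### The largest normal nilpotent Hall subgroup -/

section FittingHall

variable (L : Type*) [Group L] [Finite L]

theorem isNilpotent_of_le_fittingSubgroup {X : Subgroup L} (h : X ≤ fittingSubgroup L) :
    Group.IsNilpotent ↥X := by
  have hFnil : Group.IsNilpotent ↥(fittingSubgroup L) :=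
    Cfsg.Agent.Lib.Helper1_Cores.fittingSubgroup_isNilpotent
  exact (Group.isNilpotent_congr (Subgroup.subgroupOfEquivOfLe h)).mp inferInstance

/-- `M_F` is nilpotent and Hall -/
theorem fittingHall_props :
    Group.IsNilpotent ↥(fittingHall L) ∧ (Nat.card (fittingHall L)).Coprime (fittingHall L).index := by
  have key := Cfsg.Agent.Lib.Helper1_Cores.sSup_normal_induction (G := L)
    (fun N : Subgroup L => Group.IsNilpotent ↥N ∧ (Nat.card N).Coprime N.index) ?_ ?_
  · exact key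
  · refine ⟨inferInstance, ?_⟩
    rw [Subgroup.card_bot]
    exact Nat.coprime_one_left _
  · rintro N₁ N₂ hN₁ hN₂ ⟨hn₁, hc₁⟩ ⟨hn₂, hc₂⟩
    have h1 : N₁ ≤ fittingSubgroup L := Cfsg.Agent.Lib.Helper1_Cores.le_fittingSubgroup hN₁ hn₁
    have h2 : N₂ ≤ fittingSubgroup L := Cfsg.Agent.Lib.Helper1_Cores.le_fittingSubgroup hN₂ hn₂
    refine ⟨isNilpotent_of_le_fittingSubgroup L (sup_le h1 h2), ?_⟩
    have hd : Nat.card (N₁ ⊔ N₂ : Subgroup L) ∣ Nat.card N₁ * Nat.card N₂ :=
      Cfsg.Agent.Lib.Helper1_Cores.card_sup_dvd N₁ N₂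
    apply Nat.Coprime.coprime_dvd_left hd
    apply Nat.Coprime.mul_left
    · exact Nat.Coprime.coprime_dvd_right (Subgroup.index_dvd_of_le le_sup_left) hc₁
    · exact Nat.Coprime.coprime_dvd_right (Subgroup.index_dvd_of_le le_sup_right) hc₂

theorem fittingHall_le_fittingSubgroup : fittingHall L ≤ fittingSubgroup L :=
  Cfsg.Agent.Lib.Helper1_Cores.le_fittingSubgroup inferInstance (fittingHall_props L).1

/-- in a finite group, `F(L) = M_F · C_{F(L)}(M_F)` elementwise -/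
theorem exists_mul_of_mem_fittingSubgroup {f : L} (hf : f ∈ fittingSubgroup L) :
    ∃ h ∈ fittingHall L, ∃ r ∈ fittingSubgroup L, f = h * r ∧ ∀ y ∈ fittingHall L, r * y = y * r := by
  have hle := fittingHall_le_fittingSubgroup L
  have hFnil : Group.IsNilpotent ↥(fittingSubgroup L) :=
    Cfsg.Agent.Lib.Helper1_Cores.fittingSubgroup_isNilpotent
  set H'' : Subgroup ↥(fittingSubgroup L) := (fittingHall L).subgroupOf (fittingSubgroup L) with hH''
  have hH''n : H''.Normal := Subgroup.Normal.subgroupOf inferInstance _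
  have hcard : Nat.card H'' = Nat.card (fittingHall L) :=
    Nat.card_congr (Subgroup.subgroupOfEquivOfLe hle).toEquiv
  have hidx : H''.index ∣ (fittingHall L).index := Subgroup.relIndex_dvd_index_of_normal _ _
  have hcop : (Nat.card H'').Coprime H''.index := by
    rw [hcard]
    exact Nat.Coprime.coprime_dvd_right hidx (fittingHall_props L).2
  obtain ⟨R, hR⟩ := Subgroup.exists_right_complement'_of_coprime hcop
  have hRcop : (Nat.card R).Coprime R.index := by
    rw [hR.index_eq_card, ← hR.symm.index_eq_card]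
    exact hcop.symm
  have hRn : R.Normal := Cfsg.Agent.Lib.Helper29_BG12a.normal_of_hall_of_isNilpotent R hRcop
  have hdisj : Disjoint H'' R := hR.disjoint
  obtain ⟨⟨h, r⟩, hhr⟩ := hR.2 ⟨f, hf⟩
  refine ⟨(h : ↥(fittingSubgroup L)), h.2, (r : ↥(fittingSubgroup L)), (r : ↥(fittingSubgroup L)).2, ?_, ?_⟩
  · have := congrArg Subtype.val hhr
    simpa using this.symm
  · intro y hy
    have hy'' : (⟨y, hle hy⟩ : ↥(fittingSubgroup L)) ∈ H'' := hy
    have := Subgroup.commute_of_normal_of_disjoint H'' R hH''n hRn hdisj _ _ hy'' r.2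
    have h2 := congrArg Subtype.val this.eq
    simpa using h2.symm

end FittingHall

variable {G : Type*} [Group G] [Finite G]

/-- `M_F ≤ F(M)` -/
theorem fittingHallOf_le_fittingOf (M : Subgroup G) : fittingHallOf M ≤ fittingOf M :=
  Subgroup.map_mono (fittingHall_le_fittingSubgroup ↥M)

/-- **`F(M) ≤ C_M(M_F) M_F`** -/
theorem fittingOf_le (M : Subgroup G) :
    fittingOf M ≤ (M ⊓ centralizer (fittingHallOf M : Set G)) ⊔ fittingHallOf M := by
  rintro f ⟨f', hf', rfl⟩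
  obtain ⟨h, hh, r, hr, hfr, hcomm⟩ := exists_mul_of_mem_fittingSubgroup ↥M hf'
  rw [hfr, map_mul]
  have hrc : (r : G) ∈ centralizer (fittingHallOf M : Set G) := by
    rw [Subgroup.mem_centralizer_iff]
    rintro _ ⟨y, hy, rfl⟩
    have := hcomm y hy
    have h2 := congrArg Subtype.val this
    simpa using h2.symm
  exact Subgroup.mul_mem _ (le_sup_right (a := M ⊓ centralizer (fittingHallOf M : Set G)) ⟨h, hh, rfl⟩)
    (le_sup_left (b := fittingHallOf M) ⟨r.2, hrc⟩)

/-- normal nilpotent subgroups of `M` lie in `F(M)` -/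
theorem le_fittingOf {M X : Subgroup G} (hXM : X ≤ M) (hn : M ≤ normalizer (X : Set G))
    (hnil : Group.IsNilpotent ↥X) : X ≤ fittingOf M := by
  have h1 : (X.subgroupOf M).Normal := Subgroup.normal_subgroupOf_of_le_normalizer hn
  have h2 : Group.IsNilpotent ↥(X.subgroupOf M) :=
    (Group.isNilpotent_congr (Subgroup.subgroupOfEquivOfLe hXM)).mpr hnil
  have h3 := Cfsg.Agent.Lib.Helper1_Cores.le_fittingSubgroup h1 h2
  have h4 := Subgroup.map_mono (f := M.subtype) h3
  rwa [Subgroup.map_subgroupOf_eq_of_le hXM] at h4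

/-- `M` normalizes `M_F` -/
theorem le_normalizer_fittingHallOf (M : Subgroup G) :
    M ≤ normalizer ((fittingHallOf M : Subgroup G) : Set G) := by
  have h1 := Subgroup.le_normalizer_map (H := fittingHall ↥M) M.subtype
  rw [Subgroup.normalizer_eq_top_iff.mpr inferInstance, ← MonoidHom.range_eq_map,
    Subgroup.range_subtype] at h1
  exact h1

/-- if `M` normalizes `H` then `M` normalizes `C_M(H)` -/
theorem le_normalizer_inf_centralizer {M H : Subgroup G} (h : M ≤ normalizer (H : Set G)) :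
    M ≤ normalizer ((M ⊓ centralizer (H : Set G) : Subgroup G) : Set G) := by
  have key : ∀ m ∈ M, ∀ x ∈ M ⊓ centralizer (H : Set G), m * x * m⁻¹ ∈ M ⊓ centralizer (H : Set G) := by
    intro m hm x hx
    refine ⟨M.mul_mem (M.mul_mem hm hx.1) (M.inv_mem hm), ?_⟩
    have h1 := Cfsg.Agent.Lib.Helper24_CoprimeHall.normalizer_le_normalizer_centralizer H (h hm)
    exact (Subgroup.mem_normalizer_iff.mp h1 x).mp hx.2
  intro m hm
  rw [Subgroup.mem_normalizer_iff]
  intro x
  refine ⟨key m hm x, fun hx => ?_⟩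
  have := key m⁻¹ (M.inv_mem hm) _ hx
  have e : m⁻¹ * (m * x * m⁻¹) * m⁻¹⁻¹ = x := by group
  rwa [e] at this

/-- a prime of `τ₂(M)` is not in `κ(M)` -/
theorem not_mem_kappa_of_mem_tau2 {M : Subgroup G} {p : ℕ} (h : p ∈ tau2 M) : p ∉ kappa M := by
  intro hk
  apply h.2.2.2
  have : Fact p.Prime := ⟨h.1⟩
  intro A _ hAe
  rw [pow_one]
  have hAp : IsPGroup p A := fun a => ⟨1, by
    apply Subtype.ext
    rw [pow_one, Subgroup.coe_pow]
    exact hAe a.1 a.2⟩
  obtain ⟨P, hAP⟩ := hAp.exists_le_sylow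
  have hPc : IsCyclic ↥(P : Subgroup ↥M) := (hk.2.2.2 P).1
  have hAcyc : IsCyclic ↥A :=
    isCyclic_of_injective (Subgroup.inclusion hAP) (Subgroup.inclusion_injective hAP)
  obtain ⟨g, hg⟩ := IsCyclic.exists_generator (α := ↥A)
  have h1 : orderOf g = Nat.card ↥A := orderOf_eq_card_of_forall_mem_zpowers hg
  have h2 : g ^ p = 1 := by
    apply Subtype.ext
    rw [Subgroup.coe_pow]
    exact hAe g.1 g.2
  rw [← h1]
  exact Nat.le_of_dvd h.1.pos (orderOf_dvd_of_pow_eq_one h2)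

/-- a subgroup of `M` on which some element of `M` acts without fixed points lies in `M'` -/
theorem le_commutator_of_fpf {M U' : Subgroup G} {k : G} (hU'M : U' ≤ M) (hkM : k ∈ M)
    (hkn : k ∈ normalizer (U' : Set G)) (hfpf : U' ⊓ centralizer ({k} : Set G) = ⊥) :
    U' ≤ ⁅M, M⁆ := by
  let ψ : ↥U' → ↥U' := fun x => ⟨(x : G)⁻¹ * (k * x * k⁻¹),
    U'.mul_mem (U'.inv_mem x.2) ((Subgroup.mem_normalizer_iff.mp hkn x).mp x.2)⟩
  have hinj : Function.Injective ψ := by
    intro x y hxy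
    have h1 : (x : G)⁻¹ * (k * x * k⁻¹) = (y : G)⁻¹ * (k * y * k⁻¹) := congrArg Subtype.val hxy
    have h2 : k * ((x : G) * (y : G)⁻¹) * k⁻¹ = (x : G) * (y : G)⁻¹ := by
      calc k * ((x : G) * (y : G)⁻¹) * k⁻¹ = (x : G) * ((x : G)⁻¹ * (k * x * k⁻¹)) * (k * y * k⁻¹)⁻¹ := by group
        _ = (x : G) * ((y : G)⁻¹ * (k * y * k⁻¹)) * (k * y * k⁻¹)⁻¹ := by rw [h1]
        _ = (x : G) * (y : G)⁻¹ := by group
    have h3 : (x : G) * (y : G)⁻¹ ∈ centralizer ({k} : Set G) := by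
      rw [Subgroup.mem_centralizer_iff]
      intro h hh
      rw [Set.mem_singleton_iff.mp hh]
      calc k * ((x : G) * (y : G)⁻¹) = k * ((x : G) * (y : G)⁻¹) * k⁻¹ * k := by group
        _ = (x : G) * (y : G)⁻¹ * k := by rw [h2]
    have h4 : (x : G) * (y : G)⁻¹ ∈ U' ⊓ centralizer ({k} : Set G) :=
      ⟨U'.mul_mem x.2 (U'.inv_mem y.2), h3⟩
    rw [hfpf, mem_bot] at h4
    apply Subtype.ext
    exact mul_inv_eq_one.mp h4
  have hsurj : Function.Surjective ψ := Finite.injective_iff_surjective.mp hinj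
  intro u hu
  obtain ⟨x, hx⟩ := hsurj ⟨u, hu⟩
  have h1 : (x : G)⁻¹ * (k * x * k⁻¹) = u := congrArg Subtype.val hx
  have h2 : ⁅(x : G)⁻¹, k⁆ = u := by
    rw [commutatorElement_def, ← h1]; group
  rw [← h2]
  exact Subgroup.commutator_mem_commutator (M.inv_mem (hU'M x.2)) hkM

theorem commutator_self_le (M : Subgroup G) : ⁅M, M⁆ ≤ M :=
  Subgroup.commutator_le.mpr fun _ ha _ hb =>
    M.mul_mem (M.mul_mem (M.mul_mem ha hb) (M.inv_mem ha)) (M.inv_mem hb)

/-- `M'` is normalized by `M` -/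
theorem conj_mem_commutator {M : Subgroup G} {m c : G} (hm : m ∈ M) (hc : c ∈ ⁅M, M⁆) :
    m * c * m⁻¹ ∈ ⁅M, M⁆ := by
  have hcM : c ∈ M := commutator_self_le M hc
  have h1 : ⁅m, c⁆ ∈ ⁅M, M⁆ := Subgroup.commutator_mem_commutator hm hcM
  have h2 : m * c * m⁻¹ = ⁅m, c⁆ * c := by rw [commutatorElement_def]; group
  rw [h2]
  exact Subgroup.mul_mem _ h1 hc

/-- **`F(M) ≤ M'` when `κ(M)` is nonempty** (from 14.2 and 15.1) -/
theorem fittingOf_le_commutator (hG : IsMinSimpleOddOrder G) {M K : Subgroup G} (hM : IsCoatom M)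
    (hKhall : IsPiHallOf (kappa M) K M) (hk : (kappa M).Nonempty)
    (h1355 : sigmaCore M ≤ ⁅M, M⁆)
    (h1430 : K ≠ ⊥ → ∃ U' : Subgroup G,
      IsPiHallOf {q | q.Prime ∧ q ∉ kappa M ∧ q ∉ sigma M} U' M ∧
      K ≤ normalizer (U' : Set G) ∧ ∀ k ∈ K, k ≠ 1 → U' ⊓ centralizer ({k} : Set G) = ⊥)
    (h1439 : (∀ p : ℕ, p.Prime →
        p ∣ Nat.card ↥(piCoreOf {q | q.Prime ∧ q ∉ sigma M} (fittingOf M)) → p ∈ tau2 M) ∧
      fittingOf M = fittingOf (sigmaCore M) ⊔ piCoreOf {q | q.Prime ∧ q ∉ sigma M} (fittingOf M)) :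
    fittingOf M ≤ ⁅M, M⁆ := by
  have hsolv : Group.IsSolvable ↥M := hG.2.2.2 M hM.1
  obtain ⟨p, hp⟩ := hk
  have hK1 : K ≠ ⊥ := by
    intro h
    have h1 := hKhall.2.2 p hp.1 hp
    rw [h, Subgroup.relIndex_bot_left] at h1
    exact h1 hp.2.1
  obtain ⟨U', hU'hall, hKU', hfpf⟩ := h1430 hK1
  obtain ⟨k, hk1⟩ := (Subgroup.ne_bot_iff_exists_ne_one.mp hK1)
  have hkK' : (k : G) ∈ K := k.2
  have hk1' : (k : G) ≠ 1 := fun h => hk1 (Subtype.ext h)
  have hU'M' : U' ≤ ⁅M, M⁆ :=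
    le_commutator_of_fpf hU'hall.1 (hKhall.1 hkK') (hKU' hkK') (hfpf _ hkK' hk1')
  rw [h1439.2]
  refine sup_le ((Subgroup.map_subtype_le _).trans h1355) ?_
  set Y := piCoreOf {q | q.Prime ∧ q ∉ sigma M} (fittingOf M) with hY
  have hYM : Y ≤ M := (Subgroup.map_subtype_le _).trans (Subgroup.map_subtype_le _)
  have hYp : ∀ q : ℕ, q.Prime → q ∣ Nat.card Y → q ∈ {q | q.Prime ∧ q ∉ kappa M ∧ q ∉ sigma M} := by
    intro q hq hqY
    have h2 := h1439.1 q hq hqY
    exact ⟨hq, not_mem_kappa_of_mem_tau2 h2, h2.2.1⟩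
  obtain ⟨H, hH, hYH⟩ := Cfsg.Agent.Lib.Helper24_CoprimeHall.exists_piHall_ge hsolv hYM hYp
  have h1 := (Cfsg.Agent.Lib.Helper24_CoprimeHall.isPiHallOf_iff _ _ _).mp hU'hall
  obtain ⟨g, hgM, hg⟩ := Cfsg.Agent.Lib.Helper24_CoprimeHall.piHall_conj hsolv h1 hH
  intro y hy
  have hyH := hYH hy
  rw [← hg] at hyH
  obtain ⟨u, hu, rfl⟩ := hyH
  exact conj_mem_commutator hgM (hU'M' hu)

/-! ### The case `M_F = M_σ` -/

/-- a commutative group is nilpotent -/
theorem isNilpotent_of_comm {L : Type*} [Group L] (h : ∀ a b : L, a * b = b * a) :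
    Group.IsNilpotent L := by
  let _ : CommGroup L := { (inferInstance : Group L) with mul_comm := h }
  exact CommGroup.isNilpotent

/-- the derived subgroup of `M`, as the image of the derived subgroup of the type `↥M` -/
theorem commutator_eq_map (M : Subgroup G) : ⁅M, M⁆ = (commutator ↥M).map M.subtype := by
  rw [commutator_def, Subgroup.map_commutator, ← MonoidHom.range_eq_map, Subgroup.range_subtype]

/-- **`M'' ≤ M_σ`**, from 12.7 (`E'` is abelian) -/
theorem derived_two_le_sigmaCore {M E : Subgroup G} (hE : IsComplIn E (sigmaCore M) M)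
    (hEc : IsMulCommutative ↥⁅E, E⁆) : ⁅⁅M, M⁆, ⁅M, M⁆⁆ ≤ sigmaCore M := by
  have hsurj : Function.Surjective (QuotientGroup.mk' (piCore (sigma M) ↥M)) :=
    QuotientGroup.mk'_surjective _
  have hmapM : (commutator ↥M).map (QuotientGroup.mk' (piCore (sigma M) ↥M)) =
      commutator (↥M ⧸ piCore (sigma M) ↥M) := by
    rw [commutator_def, commutator_def, Subgroup.map_commutator, ← MonoidHom.range_eq_map,
      MonoidHom.range_eq_top.mpr hsurj]
  have key : ∀ x ∈ ⁅M, M⁆, ∃ x' : ↥M, (x' : G) = x ∧ ∃ e : ↥E, (e : G) ∈ ⁅E, E⁆ ∧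
      QuotientGroup.mk' (piCore (sigma M) ↥M) x' = Cfsg.Agent.Lib.Helper29_BG12b.toQuot M E hE.1 e := by
    intro x hx
    rw [commutator_eq_map] at hx
    obtain ⟨x', hx', rfl⟩ := hx
    refine ⟨x', rfl, ?_⟩
    have h1 : QuotientGroup.mk' (piCore (sigma M) ↥M) x' ∈ commutator (↥M ⧸ piCore (sigma M) ↥M) := by
      rw [← hmapM]; exact ⟨x', hx', rfl⟩
    rw [← Cfsg.Agent.Lib.Helper29_BG12b.map_toQuot_commutator hE] at h1
    obtain ⟨e, he, hee⟩ := h1
    refine ⟨e, ?_, hee.symm⟩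
    rw [commutator_eq_map]
    exact ⟨e, he, rfl⟩
  rw [Subgroup.commutator_le]
  intro x hx y hy
  obtain ⟨x', rfl, ex, hex, hxq⟩ := key x hx
  obtain ⟨y', rfl, ey, hey, hyq⟩ := key y hy
  have hcomm : ex * ey = ey * ex := by
    have := hEc.is_comm.comm ⟨(ex : G), hex⟩ ⟨(ey : G), hey⟩
    have h2 : (ex : G) * ey = ey * ex := congrArg Subtype.val this
    exact Subtype.ext h2
  have h1 : QuotientGroup.mk' (piCore (sigma M) ↥M) ⁅x', y'⁆ = 1 := by
    rw [map_commutatorElement, hxq, hyq, ← map_commutatorElement]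
    have : ⁅ex, ey⁆ = 1 := by
      rw [commutatorElement_eq_one_iff_mul_comm]; exact hcomm
    rw [this, map_one]
  have h2 : ⁅x', y'⁆ ∈ piCore (sigma M) ↥M := by
    rw [← QuotientGroup.eq_one_iff]; exact h1
  exact ⟨⁅x', y'⁆, h2, rfl⟩

/-- **`C_M(M_F) ≤ F(M)` when `M_F = M_σ`**, from 15.3 (`S1438`) -/
theorem centralizer_le_fittingOf_of_eq {M : Subgroup G}
    (hHN : fittingHallOf M = sigmaCore M)
    (h1438 : ∃ X : Subgroup G, IsCyclic X ∧
      M ⊓ centralizer (fittingHallOf M : Set G) =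
        (sigmaCore M ⊓ centralizer (fittingHallOf M : Set G)) ⊔ X) :
    M ⊓ centralizer (fittingHallOf M : Set G) ≤ fittingOf M := by
  obtain ⟨X, hXc, hX⟩ := h1438
  have hXle : X ≤ M ⊓ centralizer (fittingHallOf M : Set G) := by
    rw [hX]; exact le_sup_right
  set k : Set G := (↑(sigmaCore M ⊓ centralizer (fittingHallOf M : Set G)) : Set G) ∪ (X : Set G) with hk
  have hcomm : ∀ x ∈ k, ∀ y ∈ k, x * y = y * x := by
    have hXcomm : ∀ x ∈ X, ∀ y ∈ X, x * y = y * x := by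
      intro x hx y hy
      have := (IsCyclic.isMulCommutative (α := ↥X)).is_comm.comm ⟨x, hx⟩ ⟨y, hy⟩
      exact congrArg Subtype.val this
    have hmix : ∀ x ∈ sigmaCore M, ∀ y ∈ centralizer (fittingHallOf M : Set G), x * y = y * x := by
      intro x hx y hy
      rw [← hHN] at hx
      exact Subgroup.mem_centralizer_iff.mp hy x hx
    rintro x (hx | hx) y (hy | hy)
    · exact hmix x hx.1 y hy.2
    · exact hmix x hx.1 y (hXle hy).2
    · exact (hmix y hy.1 x (hXle hx).2).symm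
    · exact hXcomm x hx y hy
  have hclos : M ⊓ centralizer (fittingHallOf M : Set G) = closure k := by
    rw [hX, hk, Subgroup.closure_union, Subgroup.closure_eq, Subgroup.closure_eq]
  have hnil : Group.IsNilpotent ↥(M ⊓ centralizer (fittingHallOf M : Set G)) := by
    rw [hclos]
    have hc := Subgroup.isMulCommutative_closure hcomm
    exact isNilpotent_of_comm (fun a b => hc.is_comm.comm a b)
  exact le_fittingOf inf_le_left (le_normalizer_inf_centralizer (le_normalizer_fittingHallOf M)) hnil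

end Cfsg.Agent.Lib.Helper53_BG16d
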