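import Mathlib
import Cfsg.Prelude.Def_OddOrderLocal
import Cfsg.Agent.Lib.Helper25_BG158a
import Cfsg.Agent.Lib.Helper25_BG147
import Cfsg.Agent.Lib.Helper25_BG143
import Cfsg.Agent.Lib.Helper53_BG16b
import Cfsg.Agent.Lib.Helper53_BG16d
import Cfsg.Agent.Lib.Helper33_BG16a
import Cfsg.Agent.Lib.Helper33_BG16b
import Cfsg.Agent.Lib.Helper76_BG13a
import Cfsg.Agent.Lib.Helper76_BG13b
import Cfsg.Agent.Lib.Helper34_SigmaNe
import Cfsg.Agent.Lib.Helper78_BG1372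
import Cfsg.Agent.Lib.Helper22_Uniq6
import Cfsg.Agent.S1350
import Cfsg.Agent.S1417
import Cfsg.Agent.S1418
import Cfsg.Agent.S1420
import Cfsg.Agent.S1429
import Cfsg.Agent.S1446

/-!
# Bender–Glauberman Theorem 15.8, part 1: the setting (helper25)

`M = K U M_σ` with `K ≠ 1`, `U ≠ 1`, the partner `M*`, and a maximal subgroup `H ≥ N_G(R₀)` for a
nontrivial Sylow subgroup `R₀` of `U`.  The not yet landed statements S1430, S1431, the second clauses of
S1378 and S1369 and the first clause of S1436 are explicit hypotheses, bundled in the structure `PS`.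

Main results of this file: `U` is abelian; `H` is conjugate neither to `M` nor to `M*`; `κ(H) = ∅`;
`K` acts without fixed points on `H_σ`, so `H_σ` is nilpotent; `#K` is a prime.
-/

set_option autoImplicit false
set_option linter.unusedSectionVars false

namespace Cfsg.Agent.Lib.Helper25_BG158b

open Subgroup Cfsg Cfsg.Agent.Lib.Helper22_Radical Cfsg.Agent.Lib.Helper25_BG14a
  Cfsg.Agent.Lib.Helper25_BGHyp Cfsg.Agent.Lib.Helper25_BG147 Cfsg.Agent.Lib.Helper25_BG158a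

universe u

variable {G : Type u} [Group G]

/-- the second clause of S1369 -/
def H1369 (G : Type u) [Group G] : Prop :=
  ∀ (M : Subgroup G), IsCoatom M → ∀ (K U : Subgroup G), Cfsg.IsSigmaDecomposition M K U → K ≠ ⊥ →
    ∀ (Mstar : Subgroup G), IsCoatom Mstar →
    K = Cfsg.sigmaCore Mstar ⊓ Subgroup.centralizer ((Cfsg.sigmaCore M ⊓ Subgroup.centralizer (K : Set G)) : Set G) →
    Cfsg.IsPiHallOf (Cfsg.kappa Mstar) (Cfsg.sigmaCore M ⊓ Subgroup.centralizer (K : Set G)) Mstar →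
      ∀ H : Subgroup G, IsCoatom H → (Cfsg.kappa H).Nonempty →
        ∃ g : G, H = M.map (MulAut.conj g).toMonoidHom ∨ H = Mstar.map (MulAut.conj g).toMonoidHom

/-- the first clause of S1436 -/
def H1436 (G : Type u) [Group G] : Prop :=
  ∀ (M : Subgroup G), IsCoatom M → ∀ (x : G), x ∈ Cfsg.sigmaCore M → x ≠ 1 →
    ¬ Subgroup.centralizer ({x} : Set G) ≤ M →
    ∀ (N : Subgroup G), IsCoatom N → Subgroup.centralizer ({x} : Set G) ≤ N →
      (∃ p ∈ Cfsg.sigma N, p ∣ Nat.card M) → Cfsg.kappa M = ∅ ∧ Cfsg.tau2 M = ∅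

/-! ### general lemmas -/

/-- if `x ∈ N` acts without fixed points on `B`, and `B` normalizes `N`, then `B = [B, x] ≤ N` -/
theorem le_of_fpf [Finite G] {B N : Subgroup G} {x : G} (hxB : x ∈ normalizer (B : Set G))
    (hfix : B ⊓ centralizer ({x} : Set G) = ⊥) (hxN : x ∈ N) (hBN : B ≤ normalizer (N : Set G)) :
    B ≤ N := by
  intro u hu
  obtain ⟨v, hv, rfl⟩ := mem_commutator_of_fpf hxB hfix u hu
  have h1 : v⁻¹ * x * v⁻¹⁻¹ ∈ N := (mem_normalizer_iff.mp (hBN (inv_mem hv)) x).mp hxN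
  have e : v⁻¹ * (x * v * x⁻¹) = (v⁻¹ * x * v⁻¹⁻¹) * x⁻¹ := by group
  rw [e]
  exact mul_mem h1 (inv_mem hxN)

/-- elements of two subgroups meeting trivially and normalizing each other commute -/
theorem commute_of_normal_disjoint {A B : Subgroup G} (hAB : A ⊓ B = ⊥) {a b : G} (ha : a ∈ A)
    (hb : b ∈ B) (haB : a ∈ normalizer (B : Set G)) (hbA : b ∈ normalizer (A : Set G)) :
    a * b = b * a := by
  have h1 : a * b * a⁻¹ * b⁻¹ ∈ B := mul_mem ((mem_normalizer_iff.mp haB b).mp hb) (inv_mem hb)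
  have h2 : a * b * a⁻¹ * b⁻¹ ∈ A := by
    have := (mem_normalizer_iff.mp hbA a⁻¹).mp (inv_mem ha)
    have e : a * b * a⁻¹ * b⁻¹ = a * (b * a⁻¹ * b⁻¹) := by group
    rw [e]
    exact mul_mem ha this
  have h3 : a * b * a⁻¹ * b⁻¹ ∈ A ⊓ B := ⟨h2, h1⟩
  rw [hAB, mem_bot] at h3
  calc a * b = (a * b * a⁻¹ * b⁻¹) * (b * a) := by group
    _ = b * a := by rw [h3, one_mul]

/-- a subgroup of `U` consisting of all `r`-elements of `U` is normalized by `N_G(U)` -/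
theorem normalizer_le_of_mem {r : ℕ} {U R₀ : Subgroup G} (hle : R₀ ≤ U) (hpg : IsPGroup r R₀)
    (hmem : ∀ u ∈ U, (∃ n : ℕ, u ^ r ^ n = 1) → u ∈ R₀) :
    normalizer (U : Set G) ≤ normalizer (R₀ : Set G) := by
  have key : ∀ g ∈ normalizer (U : Set G), ∀ v ∈ R₀, g * v * g⁻¹ ∈ R₀ := by
    intro g hg v hv
    apply hmem _ ((mem_normalizer_iff.mp hg v).mp (hle hv))
    obtain ⟨n, hn⟩ := hpg ⟨v, hv⟩
    refine ⟨n, ?_⟩
    have h1 : v ^ r ^ n = 1 := by
      have := congrArg Subtype.val hn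
      simpa using this
    rw [conj_pow, h1]
    group
  intro g hg
  rw [mem_normalizer_iff]
  intro h
  constructor
  · exact key g hg h
  · intro hh
    have := key g⁻¹ (inv_mem hg) _ hh
    have e : g⁻¹ * (g * h * g⁻¹) * g⁻¹⁻¹ = h := by group
    rwa [e] at this

/-- the data of a Sylow subgroup of an abelian subgroup -/
theorem sylow_data [Finite G] {r : ℕ} [Fact r.Prime] {U : Subgroup G} (hU : ∀ a ∈ U, ∀ b ∈ U, a * b = b * a)
    (R : Sylow r U) :
    (R : Subgroup U).map U.subtype ≤ U ∧ IsPGroup r ((R : Subgroup U).map U.subtype) ∧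
      (∀ u ∈ U, (∃ n : ℕ, u ^ r ^ n = 1) → u ∈ (R : Subgroup U).map U.subtype) ∧
      ¬ r ∣ ((R : Subgroup U).map U.subtype).relIndex U := by
  refine ⟨Subgroup.map_subtype_le _, R.2.map _, fun u hu hur => mem_sylow_of_comm hU R hu hur, ?_⟩
  have h := R.not_dvd_index
  have e : ((R : Subgroup U).map U.subtype).relIndex U = (R : Subgroup U).index := by
    unfold Subgroup.relIndex
    rw [Subgroup.subgroupOf, Subgroup.comap_map_eq_self_of_injective U.subtype_injective]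
  rw [e]
  exact h

/-- a nontrivial `r`-group contains an element of order `r` -/
theorem exists_orderOf_eq_of_isPGroup [Finite G] {r : ℕ} [hr : Fact r.Prime] {R₀ : Subgroup G}
    (hpg : IsPGroup r R₀) (hne : R₀ ≠ ⊥) : ∃ v ∈ R₀, orderOf v = r := by
  have hd : r ∣ Nat.card R₀ := Cfsg.Agent.Lib.Helper76_BG13b.dvd_card_of_isPGroup hpg hne
  obtain ⟨v, hv⟩ := exists_prime_orderOf_dvd_card' r hd
  refine ⟨v, v.2, ?_⟩
  rw [← hv, Subgroup.orderOf_coe]

/-- a subgroup of a group of order `q ^ 2` that is neither trivial nor everything has order `q` -/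
theorem card_eq_of_lt_of_ne_bot [Finite G] {q : ℕ} (hq : q.Prime) {A T : Subgroup G}
    (hA : Nat.card A = q ^ 2) (hTA : T ≤ A) (hT1 : T ≠ ⊥) (hTne : T ≠ A) : Nat.card T = q := by
  have hd : Nat.card T ∣ q ^ 2 := hA ▸ Subgroup.card_dvd_of_le hTA
  obtain ⟨k, hk, hc⟩ := (Nat.dvd_prime_pow hq).mp hd
  interval_cases k
  · exfalso
    rw [pow_zero] at hc
    exact hT1 (Subgroup.card_eq_one.mp hc)
  · rw [hc, pow_one]
  · exfalso
    apply hTne
    apply Subgroup.eq_of_le_of_card_ge hTA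
    rw [hc, hA]

/-! ### the setting -/

/-- the standing hypotheses -/
structure PS (M K U Mstar : Subgroup G) : Prop where
  hG : IsMinSimpleOddOrder G
  h30 : H1430 G
  h31 : H1431 G
  hSD : SigmaDisj G
  h69 : H1369 G
  h36 : H1436 G
  hM : IsCoatom M
  hKU : IsSigmaDecomposition M K U
  hK1 : K ≠ ⊥
  hU1 : U ≠ ⊥
  hMstar : IsCoatom Mstar
  hKst : K = sigmaCore Mstar ⊓ centralizer ((sigmaCore M ⊓ centralizer (K : Set G) : Subgroup G) : Set G)
  hKstH : IsPiHallOf (kappa Mstar) (sigmaCore M ⊓ centralizer (K : Set G)) Mstar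

section Setting

variable [Finite G] {M K U Mstar : Subgroup G} (S : PS M K U Mstar)
include S

theorem PS.hK : IsPiHallOf (kappa M) K M := S.hKU.hall

theorem PS.hσ : IsPiHallOf (sigma M) (sigmaCore M) M :=
  Cfsg.Agent.Lib.Helper76_BG13b.sigma_hall S.hG S.hM

theorem PS.U_comm : ∀ a ∈ U, ∀ b ∈ U, a * b = b * a := by
  obtain ⟨U', hU'c, hU'H, -, -⟩ := (S.h30 M S.hM K S.hK S.hK1).2.1
  exact Cfsg.Agent.Lib.Helper53_BG16b.U_comm (S.hG.2.2.2 M S.hM.1) S.hKU S.hσ ⟨U', hU'c, hU'H⟩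

theorem PS.U_fpf : ∀ k ∈ K, k ≠ 1 → U ⊓ centralizer ({k} : Set G) = ⊥ :=
  Cfsg.Agent.Lib.Helper33_BG16b.statement_S1353 S.h30 M S.hM K U S.hKU

theorem PS.K_comm : ∀ a ∈ K, ∀ b ∈ K, a * b = b * a := by
  have := S.hKU.cyclic
  intro a ha b hb
  have h := (IsCyclic.commGroup (α := K)).mul_comm ⟨a, ha⟩ ⟨b, hb⟩
  exact congrArg Subtype.val h

theorem PS.U_inf_K : U ⊓ K = ⊥ := Cfsg.Agent.Lib.Helper78_SigmaDecomp.U_inf_K S.hKU

theorem PS.U_le : U ≤ M := S.hKU.compl.1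

theorem PS.K_le : K ≤ M := S.hKU.hall.1

theorem PS.kst_ne : kst M K ≠ ⊥ := kst_ne_bot S.h30 S.hM S.hK S.hK1

theorem PS.K_le_sigmaCore_star : K ≤ sigmaCore Mstar := le_sigmaCore_star S.hKst

theorem PS.K_le_star : K ≤ Mstar := S.K_le_sigmaCore_star.trans (sigmaCore_le Mstar)

theorem PS.K_inf_cj_star {g : G} (hg : g ∉ Mstar) : K ⊓ cj g Mstar = ⊥ := by
  have h := (S.h31 Mstar S.hMstar (kst M K) S.hKstH S.kst_ne).1 g hg
  rw [← S.hKst] at h
  exact h

theorem PS.centralizer_le_star {k : G} (hk : k ∈ K) (hk1 : k ≠ 1) :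
    centralizer ({k} : Set G) ≤ Mstar := by
  have hk' : k ∈ kst Mstar (kst M K) := by
    change k ∈ sigmaCore Mstar ⊓ centralizer ((sigmaCore M ⊓ centralizer (K : Set G) : Subgroup G) : Set G)
    rw [← S.hKst]
    exact hk
  exact centralizer_le_of_mem_kst S.h31 S.hMstar S.hKstH S.kst_ne hk' hk1

theorem PS.mem_star_of_conj {x e : G} (hx : x ∈ K) (hx1 : x ≠ 1) (h : e * x * e⁻¹ ∈ K) :
    e ∈ Mstar := by
  by_contra he
  have he' : e⁻¹ ∉ Mstar := fun h' => he (by simpa using inv_mem h')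
  have h1 := S.K_inf_cj_star he'
  have h2 : x ∈ K ⊓ cj e⁻¹ Mstar := by
    refine Subgroup.mem_inf.mpr ⟨hx, ?_⟩
    rw [mem_cj, inv_inv]
    exact S.K_le_star h
  rw [h1, mem_bot] at h2
  exact hx1 h2

theorem PS.sigma_disjoint : sigmaCore M ⊓ sigmaCore Mstar = ⊥ :=
  sigmaCore_inf_sigmaCore S.hSD S.hM S.hK S.hK1 S.hMstar S.hKst

theorem PS.M_inf_sigmaCore_star_le : M ⊓ sigmaCore Mstar ≤ K := by
  intro y hy
  obtain ⟨hyM, hys⟩ := hy
  rw [S.hKst]
  refine Subgroup.mem_inf.mpr ⟨hys, ?_⟩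
  rw [mem_centralizer_iff]
  intro z hz
  have hzσ : z ∈ sigmaCore M := hz.1
  have hzs : z ∈ Mstar := S.hKstH.1 hz
  exact commute_of_normal_disjoint S.sigma_disjoint hzσ hys (le_normalizer_sigmaCore Mstar hzs)
    (le_normalizer_sigmaCore M hyM)

/-- `K` is a Hall `σ(M*)`-subgroup of `M` -/
theorem PS.K_hall_star : IsPiHallOf (sigma Mstar) K M := by
  have hKst' : kst M K = sigmaCore M ⊓ centralizer
      ((sigmaCore Mstar ⊓ centralizer ((kst M K : Subgroup G) : Set G) : Subgroup G) : Set G) := by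
    rw [← S.hKst]
  have hKstH' : IsPiHallOf (kappa M)
      (sigmaCore Mstar ⊓ centralizer ((kst M K : Subgroup G) : Set G)) M := by
    rw [← S.hKst]
    exact S.hK
  have h := kst_hall S.hG S.h30 S.h31 S.hSD S.hMstar S.hKstH S.kst_ne S.hM hKst' hKstH'
  rw [← S.hKst] at h
  exact h

theorem PS.not_sigma_star_of_dvd_U {q : ℕ} (hq : q.Prime) (hd : q ∣ Nat.card U) :
    q ∉ sigma Mstar := by
  intro hqs
  exact S.K_hall_star.2.2 q hq hqs
    (hd.trans (Cfsg.Agent.Lib.Helper33_BG16a.dec_card_U_dvd_relIndex_K S.hKU))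

theorem PS.not_sigma_of_dvd_U {q : ℕ} (hq : q.Prime) (hd : q ∣ Nat.card U) : q ∉ sigma M :=
  Cfsg.Agent.Lib.Helper33_BG16a.dec_not_mem_sigma S.hKU S.hσ hq hd

theorem PS.not_kappa_of_dvd_U {q : ℕ} (hq : q.Prime) (hd : q ∣ Nat.card U) : q ∉ kappa M :=
  Cfsg.Agent.Lib.Helper33_BG16a.dec_not_mem_kappa S.hKU hq hd

theorem PS.mem_sigma_star_of_dvd_K {p : ℕ} (hp : p.Prime) (hd : p ∣ Nat.card K) :
    p ∈ sigma Mstar :=
  Cfsg.Agent.Lib.Helper70_BG1012.card_sigmaCore_mem Mstar p hp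
    (hd.trans (Subgroup.card_dvd_of_le S.K_le_sigmaCore_star))

theorem PS.mem_kappa_of_dvd_K {p : ℕ} (hp : p.Prime) (hd : p ∣ Nat.card K) : p ∈ kappa M :=
  S.hK.2.1 p hp hd

/-- `σ(M*)`-subgroups meeting `K` lie in `M*_σ` -/
theorem PS.le_sigmaCore_star_of_meet {Y : Subgroup G}
    (hY : ∀ p : ℕ, p.Prime → p ∣ Nat.card Y → p ∈ sigma Mstar) (hYK : Y ⊓ K ≠ ⊥) :
    Y ≤ sigmaCore Mstar := by
  apply (S.h31 Mstar S.hMstar (kst M K) S.hKstH S.kst_ne).2.2.2 Y hY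
  rw [← S.hKst]
  exact hYK

theorem PS.exists_K_ne_one : ∃ x ∈ K, x ≠ 1 := by
  by_contra h
  push Not at h
  exact S.hK1 ((Subgroup.eq_bot_iff_forall _).mpr h)

theorem PS.not_U_le_star : ¬ U ≤ Mstar := by
  intro hUs
  obtain ⟨x, hx, hx1⟩ := S.exists_K_ne_one
  have h1 : U ≤ sigmaCore Mstar :=
    le_of_fpf (S.hKU.normal hx) (S.U_fpf x hx hx1) (S.K_le_sigmaCore_star hx)
      (hUs.trans (le_normalizer_sigmaCore Mstar))
  have h2 : U ≤ U ⊓ K := le_inf le_rfl ((le_inf S.U_le h1).trans S.M_inf_sigmaCore_star_le)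
  rw [S.U_inf_K, le_bot_iff] at h2
  exact S.hU1 h2

/-- `K` has prime order -/
theorem PS.K_card_prime : (Nat.card K).Prime := by
  have h50 : Cfsg.Agent.Lib.Helper78_BG1372.H1350 G := fun M hM => (Cfsg.Agent.S1350.result S.hG M hM).1
  have h29 : Cfsg.Agent.Lib.Helper78_BG1372.H1429 G := fun M hM hP1 p _ hpM hp Sy =>
    (Cfsg.Agent.S1429.result S.hG M hM hP1 p hpM hp Sy).2
  obtain ⟨hnil, hfpf⟩ := Cfsg.Agent.Lib.Helper78_BG1372.nilpotent_and_fpf h50 h29 S.hM S.hKU S.hU1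
  have hUKM : U ⊔ K ≤ M := sup_le S.U_le S.K_le
  have hne : U ⊔ K ≠ ⊤ := fun h => S.hM.1 (top_le_iff.mp (h ▸ hUKM))
  have hodd : Odd (Nat.card ↥(U ⊔ K)) :=
    Odd.of_dvd_nat S.hG.1 (Subgroup.card_subgroup_dvd_card _)
  exact (Cfsg.Agent.S1446.result U K (sigmaCore M) S.hU1 S.hK1 S.U_inf_K S.hKU.normal S.U_fpf
    (S.hG.2.2.2 _ hne) hodd (Cfsg.Agent.Lib.Helper34_SigmaNe.sigmaCore_ne_bot S.hG S.hM) hnil
    (S.U_le.trans (le_normalizer_sigmaCore M)) (S.K_le.trans (le_normalizer_sigmaCore M))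
    (Cfsg.Agent.Lib.Helper78_SigmaDecomp.coprime_card_sup S.hKU S.hσ) hfpf
    ((S.h30 M S.hM K S.hK S.hK1).1)).1

/-- a non-identity element of `K` has order `#K` and generates `K` -/
theorem PS.orderOf_eq {x : G} (hx : x ∈ K) (hx1 : x ≠ 1) : orderOf x = Nat.card K := by
  have h1 : orderOf x ∣ Nat.card K := by
    have := orderOf_dvd_natCard (⟨x, hx⟩ : K)
    rwa [Subgroup.orderOf_mk] at this
  rcases (Nat.dvd_prime S.K_card_prime).mp h1 with h | h
  · exact absurd (orderOf_eq_one_iff.mp h) hx1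
  · exact h

theorem PS.zpowers_eq {x : G} (hx : x ∈ K) (hx1 : x ≠ 1) : zpowers x = K := by
  apply Subgroup.eq_of_le_of_card_ge (by rw [zpowers_le]; exact hx)
  rw [Nat.card_zpowers, S.orderOf_eq hx hx1]

theorem PS.pow_card_eq_one {x : G} (hx : x ∈ K) : x ^ Nat.card K = 1 := by
  have := pow_card_eq_one' (G := K) (x := ⟨x, hx⟩)
  exact congrArg Subtype.val this

end Setting

/-! ### the subgroup `H` -/

/-- a maximal subgroup `H` containing the normalizer of the nontrivial Sylow `r`-subgroup `R₀` of `U` -/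
structure HD (U H : Subgroup G) (r : ℕ) (R₀ : Subgroup G) : Prop where
  hH : IsCoatom H
  hr : r.Prime
  le : R₀ ≤ U
  ne : R₀ ≠ ⊥
  pg : IsPGroup r R₀
  mem : ∀ u ∈ U, (∃ n : ℕ, u ^ r ^ n = 1) → u ∈ R₀
  syl : ¬ r ∣ R₀.relIndex U
  norm : normalizer (R₀ : Set G) ≤ H

/-- S1420(4), packaged: an element of order `t ∈ τ₂(H)` of `H` centralizing a non-identity element of
`H_σ` lies in a unique maximal subgroup together with its centralizer -/
theorem uniq_of_tau2 [Finite G] (hG : IsMinSimpleOddOrder G) {H : Subgroup G} (hH : IsCoatom H) {t : ℕ}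
    (ht : t ∈ tau2 H) {b y : G} (hb : b ∈ H) (hbo : orderOf b = t) (hy : y ∈ sigmaCore H) (hy1 : y ≠ 1)
    (hby : b * y = y * b) :
    centralizer ({b} : Set G) ≤ H ∧
      ∀ L : Subgroup G, IsCoatom L → centralizer ({b} : Set G) ≤ L → L = H := by
  obtain ⟨E, hE⟩ := Cfsg.Agent.Lib.Helper53_BG16b.exists_compl_sigmaCore
    (Cfsg.Agent.Lib.Helper76_BG13b.sigma_hall hG hH)
  obtain ⟨-, -, -, h4⟩ := Cfsg.Agent.S1420.result hG H hH E hE
  have hb1 : b ≠ 1 := by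
    rintro rfl
    rw [orderOf_one] at hbo
    exact ht.1.one_lt.ne hbo
  have hprimes : ∀ q : ℕ, q.Prime → q ∣ orderOf b → q ∈ tau2 H := by
    intro q hq hd
    rw [hbo] at hd
    rw [(Nat.prime_dvd_prime_iff_eq hq ht.1).mp hd]
    exact ht
  exact h4 b hb hb1 hprimes ⟨hb, y, hy, hy1, hby⟩

/-- `g H g⁻¹ = H` forces `g ∈ H` for a maximal subgroup `H` -/
theorem mem_of_cj_eq [Finite G] (hG : IsMinSimpleOddOrder G) {H : Subgroup G} (hH : IsCoatom H) {g : G}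
    (h : cj g H = H) : g ∈ H := by
  rw [← Cfsg.Agent.Lib.Helper33_BG16a.normalizer_eq_of_isCoatom hG hH
    (Cfsg.Agent.Lib.Helper34_SigmaNe.coatom_ne_bot hG hH), mem_normalizer_iff]
  intro a
  constructor
  · intro ha
    rw [← h, mem_cj]
    have e : g⁻¹ * (g * a * g⁻¹) * g = a := by group
    rw [e]
    exact ha
  · intro ha
    rw [← h, mem_cj] at ha
    have e : g⁻¹ * (g * a * g⁻¹) * g = a := by group
    rwa [e] at ha

section HSection

variable [Finite G] {M K U Mstar : Subgroup G} (S : PS M K U Mstar) {H : Subgroup G} {r : ℕ}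
  {R₀ : Subgroup G} (D : HD U H r R₀)
include S D

theorem normalizer_U_le_H : normalizer (U : Set G) ≤ H :=
  (normalizer_le_of_mem D.le D.pg D.mem).trans D.norm

theorem U_le_H : U ≤ H := le_normalizer.trans (normalizer_U_le_H S D)

theorem K_le_H : K ≤ H := S.hKU.normal.trans (normalizer_U_le_H S D)

theorem K_le_normalizer_R₀ : K ≤ normalizer (R₀ : Set G) :=
  S.hKU.normal.trans (normalizer_le_of_mem D.le D.pg D.mem)

theorem r_dvd_U : r ∣ Nat.card U := by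
  have : Fact r.Prime := ⟨D.hr⟩
  exact (Cfsg.Agent.Lib.Helper76_BG13b.dvd_card_of_isPGroup D.pg D.ne).trans
    (Subgroup.card_dvd_of_le D.le)

theorem H_ne_cj_star (g : G) : H ≠ cj g Mstar := by
  intro h
  by_cases hg : g ∈ Mstar
  · rw [cj_eq_of_mem_normalizer (le_normalizer hg)] at h
    exact S.not_U_le_star (h ▸ U_le_H S D)
  · have h1 := S.K_inf_cj_star hg
    have h2 : K ≤ K ⊓ cj g Mstar := le_inf le_rfl (h ▸ K_le_H S D)
    rw [h1, le_bot_iff] at h2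
    exact S.hK1 h2

theorem R₀_sylow_M : Cfsg.Agent.Lib.Helper84_RelSylow.IsSylowIn r R₀ M := by
  refine ⟨D.le.trans S.U_le, D.pg, ?_⟩
  intro hd
  rw [← Subgroup.relIndex_mul_relIndex R₀ U M D.le S.U_le] at hd
  rcases (Nat.Prime.dvd_mul D.hr).mp hd with h | h
  · exact D.syl h
  · have hUH := Cfsg.Agent.Lib.Helper53_BG16b.U_isPiHallOf S.hKU S.hσ
    exact hUH.2.2 r D.hr ⟨D.hr, S.not_kappa_of_dvd_U D.hr (r_dvd_U S D),
      S.not_sigma_of_dvd_U D.hr (r_dvd_U S D)⟩ h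

theorem H_ne_cj (g : G) : H ≠ cj g M := by
  intro h
  have : Fact r.Prime := ⟨D.hr⟩
  have hrU := r_dvd_U S D
  have hRM := R₀_sylow_M S D
  have hRH : R₀ ≤ H := D.le.trans (U_le_H S D)
  have h1 : Cfsg.Agent.Lib.Helper84_RelSylow.IsSylowIn r R₀ H := by
    refine ⟨hRH, D.pg, ?_⟩
    rw [Cfsg.Agent.Lib.Helper24_CoprimeHall.relIndex_eq_div hRH, h,
      Cfsg.Agent.Lib.Helper22_BGTrans.card_cj,
      ← Cfsg.Agent.Lib.Helper24_CoprimeHall.relIndex_eq_div hRM.1]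
    exact hRM.2.2
  have h2 : r ∈ sigma H := Cfsg.Agent.Lib.Helper76_BG13b.mem_sigma_of_isSylowIn h1
    (hrU.trans (Subgroup.card_dvd_of_le (U_le_H S D))) D.norm
  rw [h, sigma_cj] at h2
  exact S.not_sigma_of_dvd_U D.hr hrU h2

theorem sigma_H_disjoint_star {q : ℕ} (hq : q ∈ sigma H) : q ∉ sigma Mstar := by
  intro h
  obtain ⟨g, hg⟩ := S.hSD Mstar H S.hMstar D.hH ⟨q, h, hq⟩
  exact H_ne_cj_star S D g hg

theorem sigma_H_disjoint {q : ℕ} (hq : q ∈ sigma H) : q ∉ sigma M := by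
  intro h
  obtain ⟨g, hg⟩ := S.hSD M H S.hM D.hH ⟨q, h, hq⟩
  exact H_ne_cj S D g hg

theorem not_sigma_H_of_dvd_K {p : ℕ} (hp : p.Prime) (hd : p ∣ Nat.card K) : p ∉ sigma H :=
  fun h => sigma_H_disjoint_star S D h (S.mem_sigma_star_of_dvd_K hp hd)

theorem sigmaCore_H_inf_star : sigmaCore H ⊓ sigmaCore Mstar = ⊥ := by
  refine (Subgroup.disjoint_of_coprime_natCard ?_).eq_bot
  apply Nat.coprime_of_dvd
  intro p hp h1 h2
  exact sigma_H_disjoint_star S D (Cfsg.Agent.Lib.Helper70_BG1012.card_sigmaCore_mem H p hp h1)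
    (Cfsg.Agent.Lib.Helper70_BG1012.card_sigmaCore_mem Mstar p hp h2)

theorem sigmaCore_H_inf_M : sigmaCore H ⊓ sigmaCore M = ⊥ := by
  refine (Subgroup.disjoint_of_coprime_natCard ?_).eq_bot
  apply Nat.coprime_of_dvd
  intro p hp h1 h2
  exact sigma_H_disjoint S D (Cfsg.Agent.Lib.Helper70_BG1012.card_sigmaCore_mem H p hp h1)
    (Cfsg.Agent.Lib.Helper70_BG1012.card_sigmaCore_mem M p hp h2)

/-- `κ(H) = ∅` -/
theorem kappa_H_empty : kappa H = ∅ := by
  by_contra hne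
  have hne' : (kappa H).Nonempty := Set.nonempty_iff_ne_empty.mpr hne
  obtain ⟨g, hg | hg⟩ := S.h69 M S.hM K U S.hKU S.hK1 Mstar S.hMstar S.hKst S.hKstH H D.hH hne'
  · exact H_ne_cj S D g hg
  · exact H_ne_cj_star S D g hg

/-- `K` acts without fixed points on `H_σ` -/
theorem sigmaCore_H_fpf {x : G} (hx : x ∈ K) (hx1 : x ≠ 1) :
    sigmaCore H ⊓ centralizer ({x} : Set G) = ⊥ := by
  rw [eq_bot_iff]
  intro y hy
  rw [mem_bot]
  by_contra hy1
  obtain ⟨hyσ, hyc⟩ := Subgroup.mem_inf.mp hy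
  have hyx : y * x = x * y := mem_centralizer_singleton_iff.mp hyc
  have hpp : (Nat.card K).Prime := S.K_card_prime
  have : Fact (Nat.card K).Prime := ⟨hpp⟩
  have hox : orderOf x = Nat.card K := S.orderOf_eq hx hx1
  have hpσ : Nat.card K ∉ sigma H := not_sigma_H_of_dvd_K S D hpp dvd_rfl
  have hxH : x ∈ H := K_le_H S D hx
  by_cases hr1 : PRankLE (Nat.card K) 1 H
  · have : Nat.card K ∈ kappa H :=
      Cfsg.Agent.Lib.Helper53_BG16b.mem_kappa_of_centralizing S.hG hpσ hr1 hxH (hox ▸ dvd_rfl) hyσ hy1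
        hyx.symm
    rw [kappa_H_empty S D] at this
    exact this
  · have hU := Cfsg.Agent.Lib.Helper49_SigmaDisjoint.uniqHyp S.hG
    have hr2 : PRankLE (Nat.card K) 2 H :=
      Cfsg.Agent.Lib.Helper23_SigmaHall.pRankLE_of_not_mem_sigma S.hG hU D.hH hpp hpσ
    have hτ : Nat.card K ∈ tau2 H := ⟨hpp, hpσ, hr2, hr1⟩
    obtain ⟨-, huniq⟩ := uniq_of_tau2 S.hG D.hH hτ hxH hox hyσ hy1 hyx.symm
    have := huniq Mstar S.hMstar (S.centralizer_le_star hx hx1)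
    exact S.not_U_le_star (this ▸ U_le_H S D)

theorem sigmaCore_H_nilpotent : Group.IsNilpotent (sigmaCore H) := by
  obtain ⟨x, hx, hx1⟩ := S.exists_K_ne_one
  apply Cfsg.Agent.Lib.Helper35_BG11b.isNilpotent_of_fpf S.K_card_prime (sigmaCore H)
    (le_normalizer_sigmaCore H (K_le_H S D hx)) (S.pow_card_eq_one hx)
  intro h hh hxh
  have : h ∈ sigmaCore H ⊓ centralizer ({x} : Set G) :=
    Subgroup.mem_inf.mpr ⟨hh, mem_centralizer_singleton_iff.mpr hxh.symm⟩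
  rwa [sigmaCore_H_fpf S D hx hx1, mem_bot] at this

theorem K_inf_sigmaCore_H : K ⊓ sigmaCore H = ⊥ := by
  rw [eq_bot_iff]
  intro k hk
  rw [mem_bot]
  by_contra hk1
  obtain ⟨hkK, hkσ⟩ := Subgroup.mem_inf.mp hk
  have : k ∈ sigmaCore H ⊓ centralizer ({k} : Set G) :=
    Subgroup.mem_inf.mpr ⟨hkσ, mem_centralizer_singleton_iff.mpr rfl⟩
  rw [sigmaCore_H_fpf S D hkK hk1, mem_bot] at this
  exact hk1 this

end HSection

end Cfsg.Agent.Lib.Helper25_BG158b
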