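import Mathlib
import Cfsg.Prelude.Def_OddOrderLocal
import Cfsg.Agent.Lib.Helper25_BG158b

/-!
# Bender–Glauberman Theorem 15.8, part 2 (helper25)

In the setting of `Helper25_BG158b` (`PS`, `HD`): `r ∈ σ(H)`, `R₀ ≤ H_σ`, `M_σ ∩ H = 1`, `M ∩ H = U K`,
`U ≤ H_σ` and `H ∩ N_G(U) ⊄ M`.
-/

set_option autoImplicit false
set_option linter.unusedSectionVars false

namespace Cfsg.Agent.Lib.Helper25_BG158c

open Subgroup Cfsg Cfsg.Agent.Lib.Helper22_Radical Cfsg.Agent.Lib.Helper25_BG14a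
  Cfsg.Agent.Lib.Helper25_BGHyp Cfsg.Agent.Lib.Helper25_BG147 Cfsg.Agent.Lib.Helper25_BG158a
  Cfsg.Agent.Lib.Helper25_BG158b

universe u

variable {G : Type u} [Group G] [Finite G]

section HSection

variable {M K U Mstar : Subgroup G} (S : PS M K U Mstar)

include S in
/-- S1432 in the setting -/
theorem s1432 (N : Subgroup G) (hN : IsCoatom N) (x : G) (hx : x ∈ Cfsg.sigmaCore N) (hx1 : x ≠ 1) (x' : G)
    (hx' : x' ∈ N ⊓ Subgroup.centralizer ({x} : Set G)) (hx'1 : x' ≠ 1)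
    (hσ : ∀ p : ℕ, p.Prime → p ∣ orderOf x' → p ∉ Cfsg.sigma N) :
    ((∀ p : ℕ, p.Prime → p ∣ orderOf x' → p ∈ Cfsg.kappa N) ∧ Subgroup.centralizer ({x} : Set G) ≤ N) ∨
      ((∀ p : ℕ, p.Prime → p ∣ orderOf x' → p ∈ Cfsg.tau2 N) ∧
        (∃ L : Subgroup G, IsCoatom L ∧ ∀ p : ℕ, p.Prime → p ∣ orderOf x' → p ∈ Cfsg.sigma L) ∧
        (Subgroup.centralizer ({x'} : Set G) ≤ N ∧
          ∀ L : Subgroup G, IsCoatom L → Subgroup.centralizer ({x'} : Set G) ≤ L → L = N)) :=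
  Cfsg.Agent.Lib.Helper25_BG143.statement_S1432 S.hG
    (fun M hM p _ hp A hA => Cfsg.Agent.S1417.result S.hG M hM p hp A hA)
    (fun M hM E hE p _ hp A hA => Cfsg.Agent.S1418.result S.hG M hM E hE p hp A hA)
    (fun M hM E hE => Cfsg.Agent.S1420.result S.hG M hM E hE) S.h30 S.h31 N hN x hx hx1 x' hx' hx'1 hσ

include S in
/-- a prime of `κ(M*)` dividing `#M*` divides `#K*`, hence lies in `σ(M)` -/
theorem mem_sigma_of_mem_kappa_star {t : ℕ} (ht : t.Prime) (hκ : t ∈ kappa Mstar) : t ∈ sigma M := by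
  have htM : t ∣ Nat.card Mstar := hκ.2.1
  have hnd : ¬ t ∣ (kst M K).relIndex Mstar := S.hKstH.2.2 t ht hκ
  rw [← Cfsg.Agent.Lib.Helper76_BG13a.relIndex_mul_card' S.hKstH.1] at htM
  have htKs : t ∣ Nat.card (kst M K) := ((Nat.Prime.dvd_mul ht).mp htM).resolve_left hnd
  exact Cfsg.Agent.Lib.Helper70_BG1012.card_sigmaCore_mem M t ht
    (htKs.trans (Subgroup.card_dvd_of_le inf_le_left))

variable {H : Subgroup G} {r : ℕ} {R₀ : Subgroup G} (D : HD U H r R₀)
include S D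

/-- `r ∈ σ(H)` -/
theorem r_mem_sigma_H : r ∈ sigma H := by
  have : Fact r.Prime := ⟨D.hr⟩
  by_contra hrσ
  have hRH : R₀ ≤ H := D.le.trans (U_le_H S D)
  have hτ : r ∈ tau2 H :=
    (Cfsg.Agent.Lib.Helper76_BG13b.mem_sigma_or_tau2 S.hG D.hH D.pg D.ne D.norm).resolve_left hrσ
  have hσH := Cfsg.Agent.Lib.Helper76_BG13b.sigma_hall S.hG D.hH
  have hsolv : Group.IsSolvable H := S.hG.2.2.2 H D.hH.1
  have hKR : K ≤ normalizer (R₀ : Set G) := K_le_normalizer_R₀ S D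
  have hdisj : R₀ ⊓ K = ⊥ := by
    rw [eq_bot_iff, ← S.U_inf_K]
    exact inf_le_inf_right K D.le
  have hrU := r_dvd_U S D
  obtain ⟨E, hE, hTE⟩ := Cfsg.Agent.Lib.Helper76_BG13a.exists_compl_ge (T := R₀ ⊔ K) hsolv hσH
    (sup_le hRH (K_le_H S D)) (by
      intro q hq hd
      rcases Cfsg.Agent.Lib.Helper76_BG13a.prime_dvd_card_sup hKR hdisj hq hd with h | h
      · have := Cfsg.Agent.Lib.Helper22_BGTrans.primes_of_isPGroup D.hr D.pg q hq h
        rw [Set.mem_singleton_iff] at this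
        rw [this]
        exact hrσ
      · exact not_sigma_H_of_dvd_K S D hq h)
  have hR₀E : R₀ ≤ E := le_sup_left.trans hTE
  have hKE : K ≤ E := le_sup_right.trans hTE
  obtain ⟨A, hAE, hAe, hA2⟩ := Cfsg.Agent.Lib.Helper33_BG16a.exists_elemAb_in_compl S.hG D.hH hσH hE D.hr
    hrσ hτ.2.2.2 hτ.2.2.1
  have hAH : A ≤ H := hAE.trans hE.1
  obtain ⟨⟨hEA, hXA⟩, -, -⟩ := Cfsg.Agent.S1418.result S.hG H D.hH E hE r hτ A ⟨hAE, hAe, hA2⟩
  obtain ⟨-, -, -, h17d, -, -⟩ := Cfsg.Agent.S1417.result S.hG H D.hH r hτ A ⟨hAH, hAe, hA2⟩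
  obtain ⟨x, hx, hx1⟩ := S.exists_K_ne_one
  have hxA : x ∈ normalizer (A : Set G) := hEA (hKE hx)
  -- some non-identity element of `A` commutes with `x`
  have hex : ∃ a ∈ A, a ≠ 1 ∧ a * x = x * a := by
    by_contra hno
    push Not at hno
    have hAx : A ⊓ centralizer ({x} : Set G) = ⊥ := by
      rw [eq_bot_iff]
      intro a ha
      rw [mem_bot]
      by_contra ha1
      exact hno a (Subgroup.mem_inf.mp ha).1 ha1 (mem_centralizer_singleton_iff.mp (Subgroup.mem_inf.mp ha).2)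
    have hcop : (Nat.card (sigmaCore H)).Coprime (Nat.card A) := by
      rw [hA2]
      apply Nat.Coprime.pow_right
      rw [Nat.coprime_comm, Nat.Prime.coprime_iff_not_dvd D.hr]
      exact fun hd => hrσ (Cfsg.Agent.Lib.Helper70_BG1012.card_sigmaCore_mem H r D.hr hd)
    have hcent := centralizes_of_fpf S.K_card_prime (S.pow_card_eq_one hx)
      (le_normalizer_sigmaCore H (K_le_H S D hx)) hxA (hAH.trans (le_normalizer_sigmaCore H)) hcop
      (sigmaCore_H_fpf S D hx hx1) hAx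
    have : sigmaCore H ≤ sigmaCore H ⊓ centralizer (A : Set G) := by
      intro n hn
      refine Subgroup.mem_inf.mpr ⟨hn, ?_⟩
      rw [mem_centralizer_iff]
      intro b hb
      exact (hcent n hn b hb).symm
    rw [h17d, le_bot_iff] at this
    exact Cfsg.Agent.Lib.Helper34_SigmaNe.sigmaCore_ne_bot S.hG D.hH this
  obtain ⟨a, haA, ha1, hax⟩ := hex
  have haS : a ∈ Mstar := S.centralizer_le_star hx hx1 (mem_centralizer_singleton_iff.mpr hax)
  have hoa : orderOf a = r := by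
    have h1 : a ^ r = 1 := hAe.2 a haA
    rcases (Nat.dvd_prime D.hr).mp (orderOf_dvd_of_pow_eq_one h1) with h | h
    · exact absurd (orderOf_eq_one_iff.mp h) ha1
    · exact h
  have hrs : r ∉ sigma Mstar := S.not_sigma_star_of_dvd_U D.hr hrU
  have h32 := s1432 S Mstar S.hMstar x (S.K_le_sigmaCore_star hx) hx1 a
    (Subgroup.mem_inf.mpr ⟨haS, mem_centralizer_singleton_iff.mpr hax⟩) ha1 (by
      intro q hq hd
      rw [hoa] at hd
      rw [(Nat.prime_dvd_prime_iff_eq hq D.hr).mp hd]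
      exact hrs)
  rcases h32 with ⟨hκ, -⟩ | ⟨-, -, hCa, -⟩
  · have hrκ : r ∈ kappa Mstar := hκ r D.hr (hoa ▸ dvd_rfl)
    exact S.not_sigma_of_dvd_U D.hr hrU (mem_sigma_of_mem_kappa_star S D.hr hrκ)
  · have hB_le_star : A ⊓ R₀ ≤ Mstar := by
      intro b hb
      apply hCa
      rw [mem_centralizer_singleton_iff]
      exact Cfsg.Agent.Lib.Helper25_BG143.comm_of_elemAb hAe b (Subgroup.mem_inf.mp hb).1 a haA
    have hxB : x ∈ normalizer ((A ⊓ R₀ : Subgroup G) : Set G) :=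
      inf_normalizer_le_normalizer_inf (Subgroup.mem_inf.mpr ⟨hxA, hKR hx⟩)
    have hBfix : (A ⊓ R₀) ⊓ centralizer ({x} : Set G) = ⊥ := by
      rw [eq_bot_iff, ← S.U_fpf x hx hx1]
      exact inf_le_inf_right _ (inf_le_right.trans D.le)
    have h1 : A ⊓ R₀ ≤ sigmaCore Mstar :=
      le_of_fpf hxB hBfix (S.K_le_sigmaCore_star hx) (hB_le_star.trans (le_normalizer_sigmaCore Mstar))
    have h2 : A ⊓ R₀ ≤ U ⊓ K :=
      le_inf (inf_le_right.trans D.le)
        ((le_inf ((inf_le_right.trans D.le).trans S.U_le) h1).trans S.M_inf_sigmaCore_star_le)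
    rw [S.U_inf_K, le_bot_iff] at h2
    obtain ⟨v, hv, hov⟩ := exists_orderOf_eq_of_isPGroup D.pg D.ne
    have hvA : zpowers v ≤ A :=
      hXA (zpowers v) ((zpowers_le).mpr (hR₀E hv)) (by rw [Nat.card_zpowers, hov])
    have : v ∈ A ⊓ R₀ := Subgroup.mem_inf.mpr ⟨hvA (mem_zpowers v), hv⟩
    rw [h2, mem_bot] at this
    rw [this, orderOf_one] at hov
    exact D.hr.one_lt.ne hov

theorem R₀_le_sigmaCore_H : R₀ ≤ sigmaCore H :=
  Cfsg.Agent.Lib.Helper76_BG13b.le_sigmaCore_of_isPGroup' S.hG D.hH (r_mem_sigma_H S D) D.pg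
    (D.le.trans (U_le_H S D))

/-- `M_σ ∩ H = 1` -/
theorem sigmaCore_M_inf_H : sigmaCore M ⊓ H = ⊥ := by
  have : Fact r.Prime := ⟨D.hr⟩
  have hrU := r_dvd_U S D
  have hRM := R₀_sylow_M S D
  have hrM : r ∣ Nat.card M := hrU.trans (Subgroup.card_dvd_of_le S.U_le)
  have hrσ := S.not_sigma_of_dvd_U D.hr hrU
  have hrκ := S.not_kappa_of_dvd_U D.hr hrU
  have hP1 : ¬ (∀ q : ℕ, q.Prime → q ∣ Nat.card M → q ∉ sigma M → q ∈ kappa M) :=
    fun h => hrκ (h r D.hr hrM hrσ)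
  have hnot : r ∉ sigma M ∪ kappa M := by
    rintro (h | h)
    · exact hrσ h
    · exact hrκ h
  obtain ⟨-, h2, -⟩ := Cfsg.Agent.S1429.result S.hG M S.hM hP1 r hrM hnot hRM.toSylow
  rw [eq_bot_iff, ← h2]
  intro y hy
  obtain ⟨hyσ, hyH⟩ := Subgroup.mem_inf.mp hy
  refine Subgroup.mem_inf.mpr ⟨hyσ, ?_⟩
  rw [mem_centralizer_iff]
  intro w hw
  have hcl : closure {x : G | x ∈ (hRM.toSylow : Subgroup M).map M.subtype ∧ x ^ r = 1} ≤ R₀ := by
    rw [closure_le]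
    intro z hz
    have := hz.1
    rw [hRM.coe_toSylow, Subgroup.map_subgroupOf_eq_of_le hRM.le] at this
    exact this
  have hwR : w ∈ R₀ := hcl hw
  exact commute_of_normal_disjoint (sigmaCore_H_inf_M S D) (R₀_le_sigmaCore_H S D hwR) hyσ
    (le_normalizer_sigmaCore M (S.U_le (D.le hwR))) (le_normalizer_sigmaCore H hyH)

/-- `M ∩ H = U K` -/
theorem M_inf_H : M ⊓ H = U ⊔ K := by
  apply le_antisymm
  · intro m hm
    obtain ⟨hmM, hmH⟩ := Subgroup.mem_inf.mp hm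
    obtain ⟨e, he, s, hs, rfl⟩ := (Cfsg.Agent.Lib.Helper33_BG16a.dec_compl S.hKU).2.2.2 m hmM
    have heH : e ∈ H := (sup_le (U_le_H S D) (K_le_H S D)) he
    have hsH : s ∈ H := by
      have : s = e⁻¹ * (e * s) := by group
      rw [this]
      exact mul_mem (inv_mem heH) hmH
    have : s ∈ sigmaCore M ⊓ H := Subgroup.mem_inf.mpr ⟨hs, hsH⟩
    rw [sigmaCore_M_inf_H S D, mem_bot] at this
    rw [this, mul_one]
    exact he
  · exact sup_le (le_inf S.U_le (U_le_H S D)) (le_inf S.K_le (K_le_H S D))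

/-- `U ≤ H_σ` -/
theorem U_le_sigmaCore_H : U ≤ sigmaCore H := by
  apply Cfsg.Agent.Lib.Helper33_BG16a.le_of_sylow_le
  intro q _ Q
  have hq : q.Prime := Fact.out
  obtain ⟨hQle, hQpg, hQmem, hQsyl⟩ := sylow_data S.U_comm Q
  by_cases hQ1 : (Q : Subgroup U).map U.subtype = ⊥
  · rw [hQ1]
    exact bot_le
  have hQH : (Q : Subgroup U).map U.subtype ≤ H := hQle.trans (U_le_H S D)
  by_cases hqσ : q ∈ sigma H
  · exact Cfsg.Agent.Lib.Helper76_BG13b.le_sigmaCore_of_isPGroup' S.hG D.hH hqσ hQpg hQH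
  exfalso
  have : Fact r.Prime := ⟨D.hr⟩
  obtain ⟨v, hv, hov⟩ := exists_orderOf_eq_of_isPGroup hQpg hQ1
  obtain ⟨w, hw, how⟩ := exists_orderOf_eq_of_isPGroup D.pg D.ne
  have hw1 : w ≠ 1 := by
    rintro rfl
    rw [orderOf_one] at how
    exact D.hr.one_lt.ne how
  have hwσ : w ∈ sigmaCore H := R₀_le_sigmaCore_H S D hw
  have hvw : ∀ v' ∈ (Q : Subgroup U).map U.subtype, v' * w = w * v' :=
    fun v' hv' => S.U_comm v' (hQle hv') w (D.le hw)
  by_cases hr1 : PRankLE q 1 H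
  · have : q ∈ kappa H :=
      Cfsg.Agent.Lib.Helper53_BG16b.mem_kappa_of_centralizing S.hG hqσ hr1 (hQH hv) (hov ▸ dvd_rfl) hwσ hw1
        (hvw v hv)
    rw [kappa_H_empty S D] at this
    exact this
  · have hU := Cfsg.Agent.Lib.Helper49_SigmaDisjoint.uniqHyp S.hG
    have hr2 := Cfsg.Agent.Lib.Helper23_SigmaHall.pRankLE_of_not_mem_sigma S.hG hU D.hH hq hqσ
    have hτ : q ∈ tau2 H := ⟨hq, hqσ, hr2, hr1⟩
    have hN : normalizer (((Q : Subgroup U).map U.subtype : Subgroup G) : Set G) ≤ H := by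
      intro g hg
      have hv' : g * v * g⁻¹ ∈ (Q : Subgroup U).map U.subtype := (mem_normalizer_iff.mp hg v).mp hv
      have hov' : orderOf (g * v * g⁻¹) = q := by
        rw [Cfsg.Agent.Lib.Helper53_BG16b.orderOf_conj', hov]
      obtain ⟨hC, -⟩ := uniq_of_tau2 S.hG D.hH hτ (hQH hv) hov hwσ hw1 (hvw v hv)
      obtain ⟨-, huniq'⟩ := uniq_of_tau2 S.hG D.hH hτ (hQH hv') hov' hwσ hw1 (hvw _ hv')
      have hle : centralizer ({g * v * g⁻¹} : Set G) ≤ cj g H := by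
        intro c hc
        rw [mem_cj]
        apply hC
        rw [mem_centralizer_singleton_iff] at hc ⊢
        calc g⁻¹ * c * g * v = g⁻¹ * (c * (g * v * g⁻¹)) * g := by group
          _ = g⁻¹ * ((g * v * g⁻¹) * c) * g := by rw [hc]
          _ = v * (g⁻¹ * c * g) := by group
      have := huniq' (cj g H) (Cfsg.Agent.Lib.Helper22_Uniq.isCoatom_cj D.hH g) hle
      exact mem_of_cj_eq S.hG D.hH this
    have D' : HD U H q ((Q : Subgroup U).map U.subtype) := ⟨D.hH, hq, hQle, hQ1, hQpg, hQmem, hQsyl, hN⟩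
    exact hqσ (r_mem_sigma_H S D')

/-- `H ∩ N_G(U) ⊄ M` -/
theorem not_normalizer_le : ¬ H ⊓ normalizer (U : Set G) ≤ M := by
  intro hle
  have hUσ := U_le_sigmaCore_H S D
  by_cases hUeq : U = sigmaCore H
  · have h1 : H ≤ M := by
      refine (le_inf le_rfl ?_).trans hle
      rw [hUeq]
      exact le_normalizer_sigmaCore H
    have h2 : M = H := (D.hH.le_iff_eq S.hM.1).mp h1
    exact H_ne_cj S D 1 (by rw [Cfsg.Agent.Lib.Helper22_BGTrans.cj_one']; exact h2.symm)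
  · have hnil := sigmaCore_H_nilpotent S D
    have hlt : U.subgroupOf (sigmaCore H) < ⊤ := by
      rw [lt_top_iff_ne_top]
      intro h
      rw [Subgroup.subgroupOf_eq_top] at h
      exact hUeq (le_antisymm hUσ h)
    have hnc := Group.normalizerCondition_of_isNilpotent (G := ↥(sigmaCore H)) (U.subgroupOf (sigmaCore H)) hlt
    obtain ⟨g, hgN, hgU⟩ := SetLike.exists_of_lt hnc
    have hgσ : (g : G) ∈ sigmaCore H := g.2
    rw [mem_normalizer_iff] at hgN
    have hgNU : (g : G) ∈ normalizer (U : Set G) := by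
      rw [mem_normalizer_iff]
      intro h
      constructor
      · intro hh
        have := (hgN ⟨h, hUσ hh⟩).mp (by rw [mem_subgroupOf]; exact hh)
        rw [mem_subgroupOf] at this
        simpa using this
      · intro hh
        have hhσ : h ∈ sigmaCore H := by
          have : h = (g : G)⁻¹ * ((g : G) * h * (g : G)⁻¹) * (g : G) := by group
          rw [this]
          exact mul_mem (mul_mem (inv_mem hgσ) (hUσ hh)) hgσ
        have := (hgN ⟨h, hhσ⟩).mpr (by rw [mem_subgroupOf]; simpa using hh)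
        rw [mem_subgroupOf] at this
        exact this
    have hgH : (g : G) ∈ H := sigmaCore_le H hgσ
    have hgM : (g : G) ∈ M ⊓ H :=
      Subgroup.mem_inf.mpr ⟨hle (Subgroup.mem_inf.mpr ⟨hgH, hgNU⟩), hgH⟩
    rw [M_inf_H S D, sup_comm] at hgM
    obtain ⟨n, hn, k, hk, hgnk⟩ := Cfsg.Agent.Lib.Helper39_BGBasic.exists_mul_of_mem_sup S.hKU.normal hgM
    have hkσ : k ∈ sigmaCore H := by
      have : k = n⁻¹ * (g : G) := by rw [hgnk]; group
      rw [this]
      exact mul_mem (inv_mem (hUσ hn)) hgσ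
    have hk1 : k = 1 := by
      have : k ∈ K ⊓ sigmaCore H := Subgroup.mem_inf.mpr ⟨hk, hkσ⟩
      rwa [K_inf_sigmaCore_H S D, mem_bot] at this
    apply hgU
    rw [mem_subgroupOf, hgnk, hk1, mul_one]
    exact hn

end HSection

end Cfsg.Agent.Lib.Helper25_BG158c
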