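import Mathlib
import Cfsg.Prelude.Def_OddOrderLocal
import Cfsg.Agent.Lib.Helper25_BG158c
import Cfsg.Agent.Lib.Helper2_Coprime
import Cfsg.Agent.S1423
import Cfsg.Agent.S1426

/-!
# Bender–Glauberman Theorem 15.8, part 3: the complement `H ∩ M*` (helper25)

In the setting of `Helper25_BG158b` (`PS`, `HD`): every complement `E ≥ K` of `H_σ` in `H` lies in `M*`;
hence `H ∩ M*` is a complement of `H_σ` in `H` and `K ≤ F(H ∩ M*)`.  `statement_S1435` is the frozen
statement S1435 from S1430, S1431, the second clauses of S1378 and S1369 and the first clause of S1436.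
-/

set_option autoImplicit false
set_option linter.unusedSectionVars false

namespace Cfsg.Agent.Lib.Helper25_BG158d

open Subgroup Cfsg Cfsg.Agent.Lib.Helper22_Radical Cfsg.Agent.Lib.Helper25_BG14a
  Cfsg.Agent.Lib.Helper25_BGHyp Cfsg.Agent.Lib.Helper25_BG147 Cfsg.Agent.Lib.Helper25_BG158a
  Cfsg.Agent.Lib.Helper25_BG158b Cfsg.Agent.Lib.Helper25_BG158c
open scoped commutatorElement

universe u

variable {G : Type u} [Group G] [Finite G]

/-- the order of a complement of `H_σ` involves no prime of `σ(H)` -/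
theorem not_sigma_of_dvd_compl (hG : IsMinSimpleOddOrder G) {H E : Subgroup G} (hH : IsCoatom H)
    (hE : IsComplIn E (sigmaCore H) H) {t : ℕ} (ht : t.Prime) (hd : t ∣ Nat.card E) : t ∉ sigma H := by
  intro hts
  have hσH := Cfsg.Agent.Lib.Helper76_BG13b.sigma_hall hG hH
  apply hσH.2.2 t ht hts
  rw [Cfsg.Agent.Lib.Helper33_BG16a.IsComplIn.relIndex_right hE]
  exact hd

section HSection

variable {M K U Mstar : Subgroup G} (S : PS M K U Mstar) {H : Subgroup G} {r : ℕ} {R₀ : Subgroup G}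
  (D : HD U H r R₀)
include S D

/-- an elementary abelian subgroup of order `t ^ 2`, `t ∈ τ₂(H)`, normalized by `x ∈ K#` contains a
non-identity element commuting with `x` -/
theorem exists_comm_elemAb {t : ℕ} (hτ : t ∈ tau2 H) {A : Subgroup G} (hAH : A ≤ H)
    (hAe : IsElementaryAbelian t A) (hA2 : Nat.card A = t ^ 2) {x : G} (hx : x ∈ K) (hx1 : x ≠ 1)
    (hxA : x ∈ normalizer (A : Set G)) : ∃ a ∈ A, a ≠ 1 ∧ a * x = x * a := by
  have ht : t.Prime := hτ.1
  have : Fact t.Prime := ⟨ht⟩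
  obtain ⟨-, -, -, h17d, -, -⟩ := Cfsg.Agent.S1417.result S.hG H D.hH t hτ A ⟨hAH, hAe, hA2⟩
  by_contra hno
  push Not at hno
  have hAx : A ⊓ centralizer ({x} : Set G) = ⊥ := by
    rw [eq_bot_iff]
    intro a ha
    rw [mem_bot]
    by_contra ha1
    exact hno a (Subgroup.mem_inf.mp ha).1 ha1 (mem_centralizer_singleton_iff.mp (Subgroup.mem_inf.mp ha).2)
  have hcop : (Nat.card (sigmaCore H)).Coprime (Nat.card A) := by
    rw [hA2]
    apply Nat.Coprime.pow_right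
    rw [Nat.coprime_comm, Nat.Prime.coprime_iff_not_dvd ht]
    exact fun hd => hτ.2.1 (Cfsg.Agent.Lib.Helper70_BG1012.card_sigmaCore_mem H t ht hd)
  have hcent := centralizes_of_fpf S.K_card_prime (S.pow_card_eq_one hx)
    (le_normalizer_sigmaCore H (K_le_H S D hx)) hxA (hAH.trans (le_normalizer_sigmaCore H)) hcop
    (sigmaCore_H_fpf S D hx hx1) hAx
  have : sigmaCore H ≤ sigmaCore H ⊓ centralizer (A : Set G) := by
    intro n hn
    refine Subgroup.mem_inf.mpr ⟨hn, ?_⟩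
    rw [mem_centralizer_iff]
    intro b hb
    exact (hcent n hn b hb).symm
  rw [h17d, le_bot_iff] at this
  exact Cfsg.Agent.Lib.Helper34_SigmaNe.sigmaCore_ne_bot S.hG D.hH this

/-- no nontrivial `t`-subgroup (`t ≠ #K`) of a complement `E ≥ K` of `H_σ` is normalized by `x ∈ K#`
without fixed points -/
theorem no_fpf {E : Subgroup G} (hE : IsComplIn E (sigmaCore H) H) (hKE : K ≤ E) {x : G} (hx : x ∈ K)
    (hx1 : x ≠ 1) {t : ℕ} (ht : t.Prime) (htp : t ≠ Nat.card K) {B : Subgroup G} (hBE : B ≤ E)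
    (hBpg : IsPGroup t B) (hB1 : B ≠ ⊥) (hxB : x ∈ normalizer (B : Set G))
    (hBfix : B ⊓ centralizer ({x} : Set G) = ⊥) : False := by
  have hpp := S.K_card_prime
  have : Fact t.Prime := ⟨ht⟩
  have hσH := Cfsg.Agent.Lib.Helper76_BG13b.sigma_hall S.hG D.hH
  have hBH : B ≤ H := hBE.trans hE.1
  have htB : t ∣ Nat.card B := Cfsg.Agent.Lib.Helper76_BG13b.dvd_card_of_isPGroup hBpg hB1
  have htσ : t ∉ sigma H :=
    not_sigma_of_dvd_compl S.hG D.hH hE ht (htB.trans (Subgroup.card_dvd_of_le hBE))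
  have hxH : x ∈ H := K_le_H S D hx
  have hcop : (Nat.card (sigmaCore H)).Coprime (Nat.card B) := by
    obtain ⟨n, hn⟩ := IsPGroup.iff_card.mp hBpg
    rw [hn]
    apply Nat.Coprime.pow_right
    rw [Nat.coprime_comm, Nat.Prime.coprime_iff_not_dvd ht]
    exact fun hd => htσ (Cfsg.Agent.Lib.Helper70_BG1012.card_sigmaCore_mem H t ht hd)
  have hcent := centralizes_of_fpf hpp (S.pow_card_eq_one hx) (le_normalizer_sigmaCore H hxH) hxB
    (hBH.trans (le_normalizer_sigmaCore H)) hcop (sigmaCore_H_fpf S D hx hx1) hBfix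
  obtain ⟨b₀, hb₀, hob₀⟩ := exists_orderOf_eq_of_isPGroup hBpg hB1
  obtain ⟨y₀, hy₀, hy₀1⟩ : ∃ y ∈ sigmaCore H, y ≠ 1 := by
    by_contra h
    push Not at h
    exact Cfsg.Agent.Lib.Helper34_SigmaNe.sigmaCore_ne_bot S.hG D.hH ((Subgroup.eq_bot_iff_forall _).mpr h)
  have hby : b₀ * y₀ = y₀ * b₀ := (hcent y₀ hy₀ b₀ hb₀).symm
  have hr1 : ¬ PRankLE t 1 H := by
    intro hr1
    have : t ∈ kappa H :=
      Cfsg.Agent.Lib.Helper53_BG16b.mem_kappa_of_centralizing S.hG htσ hr1 (hBH hb₀) (hob₀ ▸ dvd_rfl) hy₀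
        hy₀1 hby
    rw [kappa_H_empty S D] at this
    exact this
  have hU := Cfsg.Agent.Lib.Helper49_SigmaDisjoint.uniqHyp S.hG
  have hr2 := Cfsg.Agent.Lib.Helper23_SigmaHall.pRankLE_of_not_mem_sigma S.hG hU D.hH ht htσ
  have hτ : t ∈ tau2 H := ⟨ht, htσ, hr2, hr1⟩
  obtain ⟨A, hAE, hAe, hA2⟩ :=
    Cfsg.Agent.Lib.Helper33_BG16a.exists_elemAb_in_compl S.hG D.hH hσH hE ht htσ hr1 hr2
  have hAH : A ≤ H := hAE.trans hE.1
  obtain ⟨⟨hEA, hXA⟩, -, -⟩ := Cfsg.Agent.S1418.result S.hG H D.hH E hE t hτ A ⟨hAE, hAe, hA2⟩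
  have hxA : x ∈ normalizer (A : Set G) := hEA (hKE hx)
  obtain ⟨a, haA, ha1, hax⟩ := exists_comm_elemAb S D hτ hAH hAe hA2 hx hx1 hxA
  have haS : a ∈ Mstar := S.centralizer_le_star hx hx1 (mem_centralizer_singleton_iff.mpr hax)
  have hoa : orderOf a = t := by
    have h1 : a ^ t = 1 := hAe.2 a haA
    rcases (Nat.dvd_prime ht).mp (orderOf_dvd_of_pow_eq_one h1) with h | h
    · exact absurd (orderOf_eq_one_iff.mp h) ha1
    · exact h
  have hAc := Cfsg.Agent.Lib.Helper25_BG143.comm_of_elemAb hAe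
  have hb₀A : b₀ ∈ A :=
    hXA (zpowers b₀) ((zpowers_le).mpr (hBE hb₀)) (by rw [Nat.card_zpowers, hob₀]) (mem_zpowers b₀)
  have hxT : x ∈ normalizer ((B ⊓ A : Subgroup G) : Set G) :=
    inf_normalizer_le_normalizer_inf (Subgroup.mem_inf.mpr ⟨hxB, hxA⟩)
  have hTfix : (B ⊓ A) ⊓ centralizer ({x} : Set G) = ⊥ := by
    rw [eq_bot_iff, ← hBfix]
    exact inf_le_inf_right _ inf_le_left
  have hb₀T : b₀ ∈ B ⊓ A := Subgroup.mem_inf.mpr ⟨hb₀, hb₀A⟩
  obtain ⟨hCb, huniq⟩ := uniq_of_tau2 S.hG D.hH hτ (hBH hb₀) hob₀ hy₀ hy₀1 hby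
  have hxσs : x ∈ sigmaCore Mstar := S.K_le_sigmaCore_star hx
  by_cases hts : t ∈ sigma Mstar
  · -- `A K ≤ M*_σ`
    have hKA : K ≤ normalizer (A : Set G) := hKE.trans hEA
    have hAK : A ⊓ K = ⊥ := by
      refine (Subgroup.disjoint_of_coprime_natCard ?_).eq_bot
      rw [hA2]
      apply Nat.Coprime.pow_left
      exact (Nat.coprime_primes ht hpp).mpr htp
    have hY : A ⊔ K ≤ sigmaCore Mstar := by
      apply S.le_sigmaCore_star_of_meet
      · intro q hq hd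
        rcases Cfsg.Agent.Lib.Helper76_BG13a.prime_dvd_card_sup hKA hAK hq hd with h | h
        · rw [hA2] at h
          rw [(Nat.prime_dvd_prime_iff_eq hq ht).mp (hq.dvd_of_dvd_pow h)]
          exact hts
        · exact S.mem_sigma_star_of_dvd_K hq h
      · rw [inf_eq_right.mpr le_sup_right]
        exact S.hK1
    have hAσ : A ≤ sigmaCore Mstar := le_sup_left.trans hY
    obtain ⟨v, hv, hbv⟩ := mem_commutator_of_fpf hxT hTfix b₀ hb₀T
    have hb₀c : b₀ ∈ ⁅sigmaCore Mstar, sigmaCore Mstar⁆ := by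
      have e : b₀ = ⁅v⁻¹, x⁆ := by
        rw [hbv, commutatorElement_def]
        group
      rw [e]
      exact Subgroup.commutator_mem_commutator (inv_mem (hAσ (Subgroup.mem_inf.mp hv).2)) hxσs
    have P : Sylow t ↥(sigmaCore Mstar) := default
    obtain ⟨⟨-, huniq'⟩, -, -⟩ := Cfsg.Agent.S1423.result S.hG Mstar S.hMstar t hts (zpowers b₀)
      ((zpowers_le).mpr (sigmaCore_le Mstar (hAσ hb₀A))) (by rw [Nat.card_zpowers, hob₀]) P
      (Or.inr ((zpowers_le).mpr hb₀c))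
    have hle : centralizer ((zpowers b₀ : Subgroup G) : Set G) ≤ H := by
      intro c hc
      exact hCb (mem_centralizer_singleton_iff.mpr
        (Cfsg.Agent.Lib.Helper33_BG16a.mem_centralizer_zpowers_iff.mp hc).symm)
    have := huniq' H D.hH hle
    exact S.not_U_le_star (this ▸ U_le_H S D)
  · have h32 := s1432 S Mstar S.hMstar x hxσs hx1 a
      (Subgroup.mem_inf.mpr ⟨haS, mem_centralizer_singleton_iff.mpr hax⟩) ha1 (by
        intro q hq hd
        rw [hoa] at hd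
        rw [(Nat.prime_dvd_prime_iff_eq hq ht).mp hd]
        exact hts)
    rcases h32 with ⟨hκ, -⟩ | ⟨-, -, hCa, -⟩
    · -- `t ∈ κ(M*)`
      have htκ : t ∈ kappa Mstar := hκ t ht (hoa ▸ dvd_rfl)
      have htσM : t ∈ sigma M := mem_sigma_of_mem_kappa_star S ht htκ
      have hidx : ¬ t ∣ ((kst M K).subgroupOf Mstar).index := S.hKstH.2.2 t ht htκ
      have hap : IsPGroup t (zpowers (⟨a, haS⟩ : Mstar)) := by
        apply IsPGroup.of_card (n := 1)
        rw [Nat.card_zpowers, Subgroup.orderOf_mk, hoa, pow_one]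
      obtain ⟨m, hm⟩ := Cfsg.Agent.S3878.exists_conj_mem_of_not_dvd_index
        ((kst M K).subgroupOf Mstar) hidx ⟨a, haS⟩ hap
      rw [mem_subgroupOf] at hm
      obtain ⟨a', ha'⟩ : ∃ a' : G, a' = (m : G)⁻¹ * a * m := ⟨_, rfl⟩
      have hm' : a' ∈ kst M K := by
        rw [ha']
        simpa using hm
      have ha'1 : a' ≠ 1 := by
        intro h
        apply ha1
        calc a = (m : G) * a' * (m : G)⁻¹ := by rw [ha']; group
          _ = 1 := by rw [h]; group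
      have hCa' : centralizer ({a'} : Set G) ≤ M :=
        centralizer_le_of_mem_kst S.h31 S.hM S.hK S.hK1 hm' ha'1
      obtain ⟨z', hz'⟩ : ∃ z' : G, z' = (m : G)⁻¹ * b₀ * m := ⟨_, rfl⟩
      have hz'a' : z' * a' = a' * z' := by
        have := hAc b₀ hb₀A a haA
        calc z' * a' = (m : G)⁻¹ * (b₀ * a) * m := by rw [hz', ha']; group
          _ = (m : G)⁻¹ * (a * b₀) * m := by rw [this]
          _ = a' * z' := by rw [hz', ha']; group
      have hz'M : z' ∈ M := hCa' (mem_centralizer_singleton_iff.mpr hz'a')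
      have hoz' : orderOf z' = t := by
        have := Cfsg.Agent.Lib.Helper53_BG16b.orderOf_conj' ((m : G)⁻¹) b₀
        rw [inv_inv] at this
        rw [hz', this, hob₀]
      have hz'1 : z' ≠ 1 := by
        intro h
        rw [h, orderOf_one] at hoz'
        exact ht.one_lt.ne hoz'
      have hz'σ : z' ∈ sigmaCore M := by
        have hpg : IsPGroup t (zpowers z') :=
          IsPGroup.of_card (n := 1) (by rw [Nat.card_zpowers, hoz', pow_one])
        exact Cfsg.Agent.Lib.Helper76_BG13b.le_sigmaCore_of_isPGroup' S.hG S.hM htσM hpg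
          ((zpowers_le).mpr hz'M) (mem_zpowers z')
      have hN : IsCoatom (cj (m : G)⁻¹ H) := Cfsg.Agent.Lib.Helper22_Uniq.isCoatom_cj D.hH _
      have hle : centralizer ({z'} : Set G) ≤ cj (m : G)⁻¹ H := by
        intro c hc
        rw [mem_cj, inv_inv]
        apply hCb
        rw [mem_centralizer_singleton_iff] at hc ⊢
        calc (m : G) * c * (m : G)⁻¹ * b₀ = (m : G) * (c * z') * (m : G)⁻¹ := by rw [hz']; group
          _ = (m : G) * (z' * c) * (m : G)⁻¹ := by rw [hc]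
          _ = b₀ * ((m : G) * c * (m : G)⁻¹) := by rw [hz']; group
      have hnot : ¬ centralizer ({z'} : Set G) ≤ M := by
        intro hzM
        have hle' : centralizer ({b₀} : Set G) ≤ cj (m : G) M := by
          intro c hc
          rw [mem_cj]
          apply hzM
          rw [mem_centralizer_singleton_iff] at hc ⊢
          calc (m : G)⁻¹ * c * m * z' = (m : G)⁻¹ * (c * b₀) * m := by rw [hz']; group
            _ = (m : G)⁻¹ * (b₀ * c) * m := by rw [hc]
            _ = z' * ((m : G)⁻¹ * c * m) := by rw [hz']; group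
        have := huniq (cj (m : G) M) (Cfsg.Agent.Lib.Helper22_Uniq.isCoatom_cj S.hM _) hle'
        exact H_ne_cj S D (m : G) this.symm
      have hrσ : r ∈ sigma (cj (m : G)⁻¹ H) :=
        Cfsg.Agent.Lib.Helper76_BG13b.mem_sigma_cj (r_mem_sigma_H S D) _
      have hrM : r ∣ Nat.card M := (r_dvd_U S D).trans (Subgroup.card_dvd_of_le S.U_le)
      obtain ⟨hκM, -⟩ := S.h36 M S.hM z' hz'σ hz'1 hnot _ hN hle ⟨r, hrσ, hrM⟩
      have : Nat.card K ∈ kappa M := S.mem_kappa_of_dvd_K hpp dvd_rfl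
      rw [hκM] at this
      exact this
    · -- `C_G(a) ≤ M*`
      have hTS : B ⊓ A ≤ Mstar := by
        intro b hb
        apply hCa
        rw [mem_centralizer_singleton_iff]
        exact hAc b (Subgroup.mem_inf.mp hb).2 a haA
      have hTσ : B ⊓ A ≤ sigmaCore Mstar :=
        le_of_fpf hxT hTfix hxσs (hTS.trans (le_normalizer_sigmaCore Mstar))
      have hb₀σ : b₀ ∈ sigmaCore Mstar := hTσ hb₀T
      apply hts
      apply Cfsg.Agent.Lib.Helper70_BG1012.card_sigmaCore_mem Mstar t ht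
      rw [← hob₀]
      have := orderOf_dvd_natCard (⟨b₀, hb₀σ⟩ : sigmaCore Mstar)
      rwa [Subgroup.orderOf_mk] at this

/-- the case `#K ∈ τ₂(H)` -/
theorem compl_tau2 {E : Subgroup G} (hE : IsComplIn E (sigmaCore H) H) (hKE : K ≤ E)
    (hr1 : ¬ PRankLE (Nat.card K) 1 H) :
    ∃ A : Subgroup G, A ≤ E ∧ (∀ a ∈ A, ∀ b ∈ A, a * b = b * a) ∧ E ≤ normalizer (A : Set G) ∧ K ≤ A ∧
      E ≤ Mstar := by
  have hpp := S.K_card_prime
  have : Fact (Nat.card K).Prime := ⟨hpp⟩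
  have hpσ : Nat.card K ∉ sigma H := not_sigma_H_of_dvd_K S D hpp dvd_rfl
  have hU := Cfsg.Agent.Lib.Helper49_SigmaDisjoint.uniqHyp S.hG
  have hr2 := Cfsg.Agent.Lib.Helper23_SigmaHall.pRankLE_of_not_mem_sigma S.hG hU D.hH hpp hpσ
  have hτ : Nat.card K ∈ tau2 H := ⟨hpp, hpσ, hr2, hr1⟩
  have hσH := Cfsg.Agent.Lib.Helper76_BG13b.sigma_hall S.hG D.hH
  obtain ⟨A, hAE, hAe, hA2⟩ :=
    Cfsg.Agent.Lib.Helper33_BG16a.exists_elemAb_in_compl S.hG D.hH hσH hE hpp hpσ hr1 hr2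
  obtain ⟨⟨hEA, hXA⟩, -, -⟩ :=
    Cfsg.Agent.S1418.result S.hG H D.hH E hE (Nat.card K) hτ A ⟨hAE, hAe, hA2⟩
  obtain ⟨x, hx, hx1⟩ := S.exists_K_ne_one
  have hKA : K ≤ A := by
    rw [← S.zpowers_eq hx hx1]
    exact hXA (zpowers x) ((zpowers_le).mpr (hKE hx)) (by rw [Nat.card_zpowers, S.orderOf_eq hx hx1])
  have hAc := Cfsg.Agent.Lib.Helper25_BG143.comm_of_elemAb hAe
  have hAS : A ≤ Mstar := by
    intro a ha
    exact S.centralizer_le_star hx hx1 (mem_centralizer_singleton_iff.mpr (hAc a ha x (hKA hx)))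
  have hAσ : A ≤ sigmaCore Mstar :=
    Cfsg.Agent.Lib.Helper76_BG13b.le_sigmaCore_of_isPGroup' S.hG S.hMstar
      (S.mem_sigma_star_of_dvd_K hpp dvd_rfl) (Cfsg.Agent.Lib.Helper25_BG143.isPGroup_of_elemAb hAe) hAS
  refine ⟨A, hAE, hAc, hEA, hKA, ?_⟩
  intro e he
  by_contra heS
  obtain ⟨Es, hEs⟩ := Cfsg.Agent.Lib.Helper53_BG16b.exists_compl_sigmaCore
    (Cfsg.Agent.Lib.Helper76_BG13b.sigma_hall S.hG S.hMstar)
  obtain ⟨hcyc, -, -⟩ := (Cfsg.Agent.S1426.result S.hG Mstar S.hMstar Es hEs).2.2 e heS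
  have hcyc' : IsCyclic ↥(sigmaCore Mstar ⊓ cj e Mstar) := hcyc
  have hle : A ≤ sigmaCore Mstar ⊓ cj e Mstar := by
    intro a ha
    refine Subgroup.mem_inf.mpr ⟨hAσ ha, ?_⟩
    rw [mem_cj]
    have := (mem_normalizer_iff.mp (hEA (inv_mem he)) a).mp ha
    rw [inv_inv] at this
    exact hAS this
  have : IsCyclic A := Subgroup.isCyclic_of_le hle
  exact Cfsg.Agent.Lib.Helper76_BG13a.not_isCyclic_of_elemAb hpp hAe hA2 this

/-- the case of `#K`-rank one: `x ∈ K#` centralizes `E'` -/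
theorem centralizes_commutator {E : Subgroup G} (hE : IsComplIn E (sigmaCore H) H) (hKE : K ≤ E)
    (hr1 : PRankLE (Nat.card K) 1 H) {x : G} (hx : x ∈ K) (hx1 : x ≠ 1) :
    ⁅E, E⁆ ≤ centralizer ({x} : Set G) := by
  have hpp := S.K_card_prime
  have : Fact (Nat.card K).Prime := ⟨hpp⟩
  have hcomm : IsMulCommutative ↥⁅E, E⁆ := (Cfsg.Agent.S1420.result S.hG H D.hH E hE).2.1
  have hE'c : ∀ a ∈ ⁅E, E⁆, ∀ b ∈ ⁅E, E⁆, a * b = b * a := by
    intro a ha b hb
    have := hcomm.is_comm.comm ⟨a, ha⟩ ⟨b, hb⟩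
    exact congrArg Subtype.val this
  have hE'E : ⁅E, E⁆ ≤ E := Cfsg.Agent.Lib.Helper53_BG16d.commutator_self_le E
  have hxE : x ∈ E := hKE hx
  have hxE' : x ∈ normalizer ((⁅E, E⁆ : Subgroup G) : Set G) :=
    Cfsg.Agent.Lib.Helper33_BG16b.le_normalizer_commutator_left E E hxE
  have hxH : x ∈ H := K_le_H S D hx
  have hox := S.orderOf_eq hx hx1
  apply Cfsg.Agent.Lib.Helper33_BG16a.le_of_sylow_le
  intro t _ T
  have ht : t.Prime := Fact.out
  obtain ⟨hVle, hVpg, hVmem, -⟩ := sylow_data hE'c T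
  obtain ⟨V, hV⟩ : ∃ V : Subgroup G, V = (T : Subgroup ↥⁅E, E⁆).map (⁅E, E⁆ : Subgroup G).subtype :=
    ⟨_, rfl⟩
  rw [← hV] at hVle hVpg hVmem ⊢
  have hxV : x ∈ normalizer (V : Set G) := normalizer_le_of_mem hVle hVpg hVmem hxE'
  have hzV : zpowers x ≤ normalizer (V : Set G) := (zpowers_le).mpr hxV
  by_cases htp : t = Nat.card K
  · -- the `#K`-part
    rw [htp] at hVpg
    have hzpg : IsPGroup (Nat.card K) (zpowers x) :=
      IsPGroup.of_card (n := 1) (by rw [Nat.card_zpowers, hox, pow_one])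
    have hWpg : IsPGroup (Nat.card K) ↥(V ⊔ zpowers x) := IsPGroup.to_sup_of_normal_left' hVpg hzpg hzV
    have hWH : V ⊔ zpowers x ≤ H := sup_le ((hVle.trans hE'E).trans hE.1) ((zpowers_le).mpr hxH)
    have hrW : PRankLE (Nat.card K) 1 ↥(V ⊔ zpowers x) :=
      Cfsg.Agent.Lib.Helper2_PRank.pRankLE_of_injective' _ 1 (Subgroup.inclusion hWH)
        (Subgroup.inclusion_injective hWH) hr1
    have hp2 : Nat.card K ≠ 2 :=
      Cfsg.Agent.Lib.Helper79_BG141.odd_prime S.hG (Subgroup.card_dvd_of_le (K_le_H S D))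
    have hcyc : IsCyclic ↥(V ⊔ zpowers x) :=
      Cfsg.Agent.Lib.Helper29_BG12a.isCyclic_of_pRankLE_one hp2 hWpg hrW
    intro v hv
    rw [mem_centralizer_singleton_iff]
    have := (IsCyclic.commGroup (α := ↥(V ⊔ zpowers x))).mul_comm
      ⟨v, le_sup_left (a := V) hv⟩ ⟨x, le_sup_right (a := V) (mem_zpowers x)⟩
    exact congrArg Subtype.val this
  · -- the coprime part
    have hVcomm : IsMulCommutative V :=
      ⟨⟨fun a b => Subtype.ext (hE'c a (hVle a.2) b (hVle b.2))⟩⟩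
    have hcop : (Nat.card (zpowers x)).Coprime (Nat.card V) := by
      obtain ⟨n, hn⟩ := IsPGroup.iff_card.mp hVpg
      rw [Nat.card_zpowers, hox, hn]
      apply Nat.Coprime.pow_right
      exact (Nat.coprime_primes hpp ht).mpr (Ne.symm htp)
    have h1 := Cfsg.Agent.Lib.Helper2_Coprime.commutator_inf_centralizer_eq_bot V (zpowers x) hzV hcop
    have h2 := Cfsg.Agent.Lib.Helper2_Coprime.commutator_sup_centralizer_eq V (zpowers x) hzV hcop
    have hBV : ⁅V, zpowers x⁆ ≤ V :=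
      Cfsg.Agent.Lib.Helper2_Coprime.commutator_le_of_le_normalizer V (zpowers x) hzV
    have hB : ⁅V, zpowers x⁆ = ⊥ := by
      by_contra hB1
      have hxB : x ∈ normalizer ((⁅V, zpowers x⁆ : Subgroup G) : Set G) :=
        Cfsg.Agent.Lib.Helper33_BG16b.le_normalizer_commutator_right V (zpowers x) (mem_zpowers x)
      have hBfix : ⁅V, zpowers x⁆ ⊓ centralizer ({x} : Set G) = ⊥ := by
        rw [eq_bot_iff, ← h1]
        intro b hb
        obtain ⟨hb1, hb2⟩ := Subgroup.mem_inf.mp hb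
        refine Subgroup.mem_inf.mpr ⟨hb1, Subgroup.mem_inf.mpr ⟨hBV hb1, ?_⟩⟩
        exact Cfsg.Agent.Lib.Helper33_BG16a.mem_centralizer_zpowers_iff.mpr
          (mem_centralizer_singleton_iff.mp hb2).symm
      exact no_fpf S D hE hKE hx hx1 ht htp ((hBV.trans hVle).trans hE'E) (hVpg.to_le hBV) hB1 hxB hBfix
    rw [hB, bot_sup_eq] at h2
    intro v hv
    have : v ∈ V ⊓ centralizer ((zpowers x : Subgroup G) : Set G) := by
      rw [h2]
      exact hv
    exact mem_centralizer_singleton_iff.mpr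
      (Cfsg.Agent.Lib.Helper33_BG16a.mem_centralizer_zpowers_iff.mp (Subgroup.mem_inf.mp this).2).symm

/-- the case of `#K`-rank one: `E` normalizes `K` -/
theorem conj_mem_K {E : Subgroup G} (hE : IsComplIn E (sigmaCore H) H) (hKE : K ≤ E)
    (hr1 : PRankLE (Nat.card K) 1 H) {x : G} (hx : x ∈ K) (hx1 : x ≠ 1) :
    ∀ e ∈ E, e * x * e⁻¹ ∈ K := by
  intro e he
  have hc := centralizes_commutator S D hE hKE hr1 hx hx1
  have hxE := hKE hx
  have hcomm : ⁅e, x⁆ ∈ ⁅E, E⁆ := Subgroup.commutator_mem_commutator he hxE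
  have h1 : ⁅e, x⁆ * x = x * ⁅e, x⁆ := mem_centralizer_singleton_iff.mp (hc hcomm)
  have e1 : e * x * e⁻¹ = ⁅e, x⁆ * x := by
    rw [commutatorElement_def]
    group
  have hxy : x * (e * x * e⁻¹) = (e * x * e⁻¹) * x := by
    calc x * (e * x * e⁻¹) = (x * ⁅e, x⁆) * x := by rw [e1, mul_assoc]
      _ = (⁅e, x⁆ * x) * x := by rw [h1]
      _ = (e * x * e⁻¹) * x := by rw [e1]
  have hyp : (e * x * e⁻¹) ^ Nat.card K = 1 := by
    rw [conj_pow, S.pow_card_eq_one hx]
    group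
  have hyH : e * x * e⁻¹ ∈ H :=
    mul_mem (mul_mem (hE.1 he) (K_le_H S D hx)) (inv_mem (hE.1 he))
  have := mem_zpowers_of_pRankLE_one S.K_card_prime hr1 (K_le_H S D hx) hyH hxy
    (S.pow_card_eq_one hx) hyp hx1
  rw [S.zpowers_eq hx hx1] at this
  exact this

/-- every complement of `H_σ` in `H` containing `K` lies in `M*` -/
theorem compl_le_star {E : Subgroup G} (hE : IsComplIn E (sigmaCore H) H) (hKE : K ≤ E) :
    E ≤ Mstar := by
  by_cases hr1 : PRankLE (Nat.card K) 1 H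
  · obtain ⟨x, hx, hx1⟩ := S.exists_K_ne_one
    intro e he
    exact S.mem_star_of_conj hx hx1 (conj_mem_K S D hE hKE hr1 hx hx1 e he)
  · obtain ⟨A, -, -, -, -, h⟩ := compl_tau2 S D hE hKE hr1
    exact h

theorem exists_compl_K : ∃ E : Subgroup G, IsComplIn E (sigmaCore H) H ∧ K ≤ E :=
  Cfsg.Agent.Lib.Helper76_BG13a.exists_compl_ge (S.hG.2.2.2 H D.hH.1)
    (Cfsg.Agent.Lib.Helper76_BG13b.sigma_hall S.hG D.hH) (K_le_H S D)
    (fun _ hq hd => not_sigma_H_of_dvd_K S D hq hd)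

/-- `H ∩ M*` is a complement of `H_σ` in `H` -/
theorem isComplIn_inf_star : IsComplIn (H ⊓ Mstar) (sigmaCore H) H := by
  obtain ⟨E, hE, hKE⟩ := exists_compl_K S D
  have hES := compl_le_star S D hE hKE
  refine ⟨inf_le_left, sigmaCore_le H, ?_, ?_⟩
  · rw [eq_bot_iff]
    intro y hy
    obtain ⟨hy1, hyσ⟩ := Subgroup.mem_inf.mp hy
    obtain ⟨hyH, hyS⟩ := Subgroup.mem_inf.mp hy1
    obtain ⟨x, hx, hx1⟩ := S.exists_K_ne_one
    rw [← sigmaCore_H_fpf S D hx hx1]
    refine Subgroup.mem_inf.mpr ⟨hyσ, ?_⟩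
    rw [mem_centralizer_singleton_iff]
    exact commute_of_normal_disjoint (sigmaCore_H_inf_star S D) hyσ (S.K_le_sigmaCore_star hx)
      (le_normalizer_sigmaCore Mstar hyS) (le_normalizer_sigmaCore H (K_le_H S D hx))
  · intro h hh
    obtain ⟨e, he, s, hs, rfl⟩ := hE.2.2.2 h hh
    exact ⟨e, Subgroup.mem_inf.mpr ⟨hE.1 he, hES he⟩, s, hs, rfl⟩

/-- `K ≤ F(H ∩ M*)` -/
theorem K_le_fittingOf : K ≤ fittingOf (H ⊓ Mstar) := by
  have hD := isComplIn_inf_star S D
  have hKD : K ≤ H ⊓ Mstar := le_inf (K_le_H S D) S.K_le_star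
  by_cases hr1 : PRankLE (Nat.card K) 1 H
  · have key : ∀ e ∈ H ⊓ Mstar, ∀ k ∈ K, e * k * e⁻¹ ∈ K := by
      intro e he k hk
      by_cases hk1 : k = 1
      · rw [hk1, mul_one, mul_inv_cancel]
        exact one_mem K
      · exact conj_mem_K S D hD hKD hr1 hk hk1 e he
    have hn : H ⊓ Mstar ≤ normalizer (K : Set G) := by
      intro e he
      rw [mem_normalizer_iff]
      intro k
      constructor
      · exact key e he k
      · intro hk
        have := key e⁻¹ (inv_mem he) _ hk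
        have e1 : e⁻¹ * (e * k * e⁻¹) * e⁻¹⁻¹ = k := by group
        rwa [e1] at this
    have hnil : Group.IsNilpotent K := by
      have := S.hKU.cyclic
      exact Cfsg.Agent.Lib.Helper53_BG16d.isNilpotent_of_comm
        (fun a b => (IsCyclic.commGroup (α := K)).mul_comm a b)
    exact Cfsg.Agent.Lib.Helper53_BG16d.le_fittingOf hKD hn hnil
  · obtain ⟨A, hAD, hAc, hDA, hKA, -⟩ := compl_tau2 S D hD hKD hr1
    have hnil : Group.IsNilpotent A :=
      Cfsg.Agent.Lib.Helper53_BG16d.isNilpotent_of_comm (fun a b => Subtype.ext (hAc a a.2 b b.2))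
    exact hKA.trans (Cfsg.Agent.Lib.Helper53_BG16d.le_fittingOf hAD hDA hnil)

end HSection

/-- **S1435** (Bender–Glauberman Theorem 15.8 (a)–(c)) from the frozen statements S1430, S1431, the second
clauses of S1378 and S1369 and the first clause of S1436 -/
theorem statement_S1435 (hG : IsMinSimpleOddOrder G) (h30 : H1430 G) (h31 : H1431 G) (hSD : SigmaDisj G)
    (h69 : H1369 G) (h36 : H1436 G)
    (M : Subgroup G) (hM : IsCoatom M) (K U : Subgroup G) (hKU : Cfsg.IsSigmaDecomposition M K U)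
    (hK1 : K ≠ ⊥) (hU1 : U ≠ ⊥) (Mstar : Subgroup G) (hMstar : IsCoatom Mstar)
    (hKst : K = Cfsg.sigmaCore Mstar ⊓ Subgroup.centralizer ((Cfsg.sigmaCore M ⊓ Subgroup.centralizer (K : Set G)) : Set G))
    (hKstH : Cfsg.IsPiHallOf (Cfsg.kappa Mstar) (Cfsg.sigmaCore M ⊓ Subgroup.centralizer (K : Set G)) Mstar)
    (r : ℕ) [Fact r.Prime] (hr : r ∣ Nat.card U) (R : Sylow r U) (H : Subgroup G) (hH : IsCoatom H)
    (hNR : Subgroup.normalizer (((R : Subgroup U).map U.subtype : Subgroup G) : Set G) ≤ H) :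
    Cfsg.kappa H = ∅ ∧ U ≤ Cfsg.sigmaCore H ∧ M ⊓ H = U ⊔ K ∧ ¬ H ⊓ Subgroup.normalizer (U : Set G) ≤ M ∧
      K ≤ Cfsg.fittingOf (H ⊓ Mstar) ∧ Cfsg.IsComplIn (H ⊓ Mstar) (Cfsg.sigmaCore H) H := by
  have S : PS M K U Mstar := ⟨hG, h30, h31, hSD, h69, h36, hM, hKU, hK1, hU1, hMstar, hKst, hKstH⟩
  obtain ⟨h1, h2, h3, h4⟩ := sylow_data S.U_comm R
  have hne : (R : Subgroup U).map U.subtype ≠ ⊥ := by
    intro hbot
    apply h4
    rw [hbot, Subgroup.relIndex_bot_left]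
    exact hr
  have D : HD U H r ((R : Subgroup U).map U.subtype) := ⟨hH, Fact.out, h1, hne, h2, h3, h4, hNR⟩
  exact ⟨kappa_H_empty S D, U_le_sigmaCore_H S D, M_inf_H S D, not_normalizer_le S D,
    K_le_fittingOf S D, isComplIn_inf_star S D⟩

end Cfsg.Agent.Lib.Helper25_BG158d
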