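import Mathlib
import Cfsg.Prelude.Def_Solvable
import Cfsg.Prelude.Def_Transfer
import Cfsg.Agent.Lib.Helper51_CMDefs

/-!
# S3905 market (architect helper51), package CM-ET-PAIR

A finite group `S` of exponent `p` and order `> p` contains `e₂ ≠ 1` central and `e₁ ∉ zpowers e₂`.
-/

set_option autoImplicit false
set_option linter.unusedSectionVars false
set_option linter.unusedVariables false

open Cfsg Cfsg.Agent.Lib.Helper51_CMDefs

namespace Cfsg.Agent.Lib.Helper25_CM_ET_PAIR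

variable {G Γ : Type*} [Group G] [Group Γ] {ρ : G →* MulAut Γ}

/-- CM-ET-PAIR (M) -/
theorem exists_pair [Finite Γ] {p : ℕ} (hp : p.Prime) (S : Subgroup Γ) (hexp : ∀ s ∈ S, s ^ p = 1)
    (hcard : p < Nat.card S) :
    ∃ e₁ ∈ S, ∃ e₂ ∈ S, e₁ * e₂ = e₂ * e₁ ∧ e₂ ≠ 1 ∧ ∀ j : ℕ, e₁ * e₂ ^ j ≠ 1 := by
  have : Fact p.Prime := ⟨hp⟩
  have hPG : IsPGroup p S := by
    intro s
    refine ⟨1, ?_⟩
    rw [pow_one]
    apply Subtype.ext
    rw [Subgroup.coe_pow, hexp s.1 s.2]
    rfl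
  have hnt : Nontrivial S := by
    rw [← Finite.one_lt_card_iff_nontrivial]
    exact lt_trans hp.one_lt hcard
  have hcnt : Nontrivial (Subgroup.center S) := hPG.center_nontrivial
  obtain ⟨z, hz⟩ := exists_ne (1 : Subgroup.center S)
  set e₂ : Γ := ((z : S) : Γ) with he₂
  have he₂S : e₂ ∈ S := (z : S).2
  have he₂1 : e₂ ≠ 1 := by
    intro h
    apply hz
    apply Subtype.ext
    apply Subtype.ext
    exact h
  have hord : orderOf e₂ = p := by
    have := orderOf_dvd_of_pow_eq_one (hexp e₂ he₂S)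
    rcases (Nat.dvd_prime hp).mp this with h | h
    · exact absurd (orderOf_eq_one_iff.mp h) he₂1
    · exact h
  have hZle : Subgroup.zpowers e₂ ≤ S := by
    rw [Subgroup.zpowers_le]; exact he₂S
  have hZcard : Nat.card (Subgroup.zpowers e₂) = p := by
    rw [Nat.card_zpowers, hord]
  have hex : ∃ e₁ ∈ S, e₁ ∉ Subgroup.zpowers e₂ := by
    by_contra hcon
    push Not at hcon
    have hle : S ≤ Subgroup.zpowers e₂ := hcon
    have := Subgroup.card_le_of_le hle
    omega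
  obtain ⟨e₁, he₁S, he₁⟩ := hex
  refine ⟨e₁, he₁S, e₂, he₂S, ?_, he₂1, ?_⟩
  · have hc := Subgroup.mem_center_iff.mp z.2 ⟨e₁, he₁S⟩
    have := congrArg (Subtype.val : S → Γ) hc
    simpa [he₂] using this
  · intro j hj
    apply he₁
    have h1 : e₁ = (e₂ ^ j)⁻¹ := eq_inv_of_mul_eq_one_left hj
    rw [h1]
    exact (Subgroup.zpowers e₂).inv_mem (Subgroup.pow_mem _ (Subgroup.mem_zpowers e₂) j)

end Cfsg.Agent.Lib.Helper25_CM_ET_PAIR
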