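import Mathlib
import Cfsg.Prelude.Def_Solvable
import Cfsg.Prelude.Def_Transfer
import Cfsg.Agent.Lib.Helper51_CMDefs

/-!
# S3905 market (architect helper51), package CM-P0-A2

A finite abelian group all of whose non-trivial elements have prime order has prime exponent.
-/

set_option autoImplicit false
set_option linter.unusedSectionVars false
set_option linter.unusedVariables false

open Cfsg Cfsg.Agent.Lib.Helper51_CMDefs

namespace Cfsg.Agent.Lib.Helper25_CM_P0_A2

variable {G Γ : Type*} [Group G] [Group Γ] {ρ : G →* MulAut Γ}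

/-- CM-P0-A2 (M) -/
theorem exponent_of_prime_orders {X : Type*} [Group X] [Finite X] (hab : ∀ a b : X, a * b = b * a)
    (hpr : ∀ a : X, a ≠ 1 → ∃ r : ℕ, r.Prime ∧ a ^ r = 1) : ∃ p : ℕ, p.Prime ∧ ∀ a : X, a ^ p = 1 := by
  by_cases htriv : ∀ a : X, a = 1
  · exact ⟨2, Nat.prime_two, fun a => by rw [htriv a, one_pow]⟩
  push Not at htriv
  obtain ⟨a₀, ha₀⟩ := htriv
  obtain ⟨r, hr, har⟩ := hpr a₀ ha₀
  have hoa : orderOf a₀ = r := by
    have := orderOf_dvd_of_pow_eq_one har
    rcases (Nat.dvd_prime hr).mp this with h | h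
    · exact absurd (orderOf_eq_one_iff.mp h) ha₀
    · exact h
  refine ⟨r, hr, ?_⟩
  intro b
  by_cases hb : b = 1
  · rw [hb, one_pow]
  obtain ⟨s, hs, hbs⟩ := hpr b hb
  have hob : orderOf b = s := by
    have := orderOf_dvd_of_pow_eq_one hbs
    rcases (Nat.dvd_prime hs).mp this with h | h
    · exact absurd (orderOf_eq_one_iff.mp h) hb
    · exact h
  by_cases hsr : s = r
  · rw [← hsr]; exact hbs
  exfalso
  have hcop : Nat.Coprime (orderOf a₀) (orderOf b) := by
    rw [hoa, hob]
    exact (Nat.coprime_primes hr hs).mpr (Ne.symm hsr)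
  have hmul : orderOf (a₀ * b) = r * s := by
    rw [(show Commute a₀ b from hab a₀ b).orderOf_mul_eq_mul_orderOf_of_coprime hcop, hoa, hob]
  have hne : a₀ * b ≠ 1 := by
    intro h1
    rw [h1, orderOf_one] at hmul
    have := hr.two_le
    have := hs.two_le
    nlinarith
  obtain ⟨t, ht, habt⟩ := hpr (a₀ * b) hne
  have hot : orderOf (a₀ * b) = t := by
    have := orderOf_dvd_of_pow_eq_one habt
    rcases (Nat.dvd_prime ht).mp this with h | h
    · exact absurd (orderOf_eq_one_iff.mp h) hne
    · exact h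
  rw [hmul] at hot
  rw [← hot] at ht
  exact Nat.not_prime_mul hr.one_lt.ne' hs.one_lt.ne' ht

end Cfsg.Agent.Lib.Helper25_CM_P0_A2
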