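import Cfsg.Agent.S1474
import Cfsg.Agent.S1473

/-!
# A minimal non-solvable CN-group of odd order is a minimal simple group (helper25)

`minSimple_of_minimal`: if `G` is a finite CN-group of odd order that is not solvable, while every CN-group of odd
order and smaller cardinality (in the same universe) is solvable, then `G` is a minimal simple group of odd
order.  `solvable_of_minSimple_false` packages the induction: if no minimal simple CN-group of odd order exists
then every CN-group of odd order is solvable.
-/

set_option autoImplicit false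

namespace Cfsg.Agent.Lib.Helper25_CNMin

universe u

theorem minSimple_of_minimal {G : Type u} [Group G] [Finite G] (hodd : Odd (Nat.card G))
    (hCN : Cfsg.IsCNGroup G) (hns : ¬ Group.IsSolvable G)
    (IH : ∀ (X : Type u) [Group X] [Finite X], Nat.card X < Nat.card G → Odd (Nat.card X) →
      Cfsg.IsCNGroup X → Group.IsSolvable X) :
    Cfsg.IsMinSimpleOddOrder G := by
  classical
  have hsub : ∀ H : Subgroup G, H ≠ ⊤ → Group.IsSolvable H := by
    intro H hH
    have hlt : Nat.card H < Nat.card G := by
      have hdvd : Nat.card H ∣ Nat.card G := Subgroup.card_subgroup_dvd_card H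
      have hle : Nat.card H ≤ Nat.card G := Nat.le_of_dvd Nat.card_pos hdvd
      refine lt_of_le_of_ne hle (fun h => hH ?_)
      exact Subgroup.card_eq_iff_eq_top H |>.mp h
    have hoddH : Odd (Nat.card H) :=
      Odd.of_dvd_nat hodd (Subgroup.card_subgroup_dvd_card H)
    exact IH H hlt hoddH (Cfsg.Agent.S1474.cn_subgroup hCN H)
  have hnt : Nontrivial G := by
    by_contra h
    rw [not_nontrivial_iff_subsingleton] at h
    exact hns inferInstance
  have hsimple : IsSimpleGroup G := by
    refine ⟨fun K hK => ?_⟩
    by_contra hcon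
    push Not at hcon
    obtain ⟨hK1, hKtop⟩ := hcon
    have hKs : Group.IsSolvable K := hsub K hKtop
    have hCNq : Cfsg.IsCNGroup (G ⧸ K) := Cfsg.Agent.S1473.result hCN K hKs
    have hcard : Nat.card G = Nat.card (G ⧸ K) * Nat.card K :=
      Subgroup.card_eq_card_quotient_mul_card_subgroup K
    have hKcard : 1 < Nat.card K := by
      rw [Subgroup.one_lt_card_iff_ne_bot]
      exact hK1
    have hqpos : 0 < Nat.card (G ⧸ K) := Nat.card_pos
    have hlt : Nat.card (G ⧸ K) < Nat.card G := by
      rw [hcard]
      nlinarith
    have hoddq : Odd (Nat.card (G ⧸ K)) :=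
      Odd.of_dvd_nat hodd (Dvd.intro _ hcard.symm)
    have hqs : Group.IsSolvable (G ⧸ K) := IH (G ⧸ K) hlt hoddq hCNq
    apply hns
    exact Group.isSolvable_of_ker_le_range (K.subtype) (QuotientGroup.mk' K) (by
      rw [QuotientGroup.ker_mk', Subgroup.range_subtype])
  refine ⟨hodd, hsimple, fun hcomm => hns ?_, hsub⟩
  have : ∀ a b : G, a * b = b * a := fun a b => hcomm.is_comm.comm a b
  exact Group.isSolvable_of_comm this

/-- If there is no minimal simple CN-group of odd order, every finite CN-group of odd order is solvable. -/
theorem solvable_of_no_minSimple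
    (hno : ∀ (X : Type u) [Group X] [Finite X], Cfsg.IsMinSimpleOddOrder X → Cfsg.IsCNGroup X → False)
    {G : Type u} [Group G] [Finite G] (hodd : Odd (Nat.card G)) (hCN : Cfsg.IsCNGroup G) :
    Group.IsSolvable G := by
  suffices h : ∀ (n : ℕ) (X : Type u) [Group X] [Finite X], Nat.card X = n → Odd (Nat.card X) →
      Cfsg.IsCNGroup X → Group.IsSolvable X from h _ G rfl hodd hCN
  intro n
  induction n using Nat.strong_induction_on with
  | _ n ih =>
    intro X _ _ hn hoddX hCNX
    by_contra hns
    apply hno X (minSimple_of_minimal hoddX hCNX hns ?_) hCNX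
    intro Y _ _ hlt hoddY hCNY
    exact ih (Nat.card Y) (hn ▸ hlt) Y rfl hoddY hCNY

end Cfsg.Agent.Lib.Helper25_CNMin
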