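import Mathlib

/-!
# S3716 market (architect helper62), package ALPHABND (helper25)

`R := 1 + 1/l + 2/k - 8/t - 2/p - 2/q ≥ 9/238`, hence `g ≤ 17136` and the bounds on `t, k, l`.
-/

set_option autoImplicit false

namespace Cfsg.Agent.Lib.Helper25_D72_ALPHABND

/-- `1/x ≥ -1/b` if `x > 0` or `x ≤ -b`. -/
lemma inv_lb (x : ℤ) (a b : ℤ) (ha : 0 < a) (hb : 0 < b) (h : a ≤ x ∨ x ≤ -b) :
    -(1 / (b : ℚ)) ≤ 1 / (x : ℚ) := by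
  have hb' : (0 : ℚ) < (b : ℚ) := by exact_mod_cast hb
  rcases h with h | h
  · have hx : (0 : ℚ) < (x : ℚ) := by exact_mod_cast lt_of_lt_of_le ha h
    have h1 : (0 : ℚ) < 1 / (x : ℚ) := one_div_pos.2 hx
    have h2 : (0 : ℚ) < 1 / (b : ℚ) := one_div_pos.2 hb'
    linarith
  · have hx : (x : ℚ) ≤ -(b : ℚ) := by exact_mod_cast h
    have hx0 : (0 : ℚ) < -(x : ℚ) := by linarith
    have h3 : 1 / (-(x : ℚ)) ≤ 1 / (b : ℚ) := one_div_le_one_div_of_le hb' (by linarith)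
    have h4 : 1 / (-(x : ℚ)) = -(1 / (x : ℚ)) := by
      rw [one_div, one_div, inv_neg]
    rw [h4] at h3
    linarith

/-- `1/x ≤ 1/a` if `x ≥ a > 0` or `x < 0`. -/
lemma inv_ub (x : ℤ) (a b : ℤ) (ha : 0 < a) (hb : 0 < b) (h : a ≤ x ∨ x ≤ -b) :
    1 / (x : ℚ) ≤ 1 / (a : ℚ) := by
  have ha' : (0 : ℚ) < (a : ℚ) := by exact_mod_cast ha
  rcases h with h | h
  · have hx : (a : ℚ) ≤ (x : ℚ) := by exact_mod_cast h
    exact one_div_le_one_div_of_le ha' hx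
  · have hx : (x : ℚ) < 0 := by
      have : x < 0 := by omega
      exact_mod_cast this
    have h1 : 1 / (x : ℚ) < 0 := one_div_neg.2 hx
    have h2 : (0 : ℚ) < 1 / (a : ℚ) := one_div_pos.2 ha'
    linarith

/-- the case `p = 5` : `2/k - 8/(k+6) ≥ -3/10` -/
lemma case_five (k : ℤ) (hk : 10 ≤ k ∨ k ≤ -17) :
    -(3 / 10 : ℚ) ≤ 2 / (k : ℚ) - 8 / ((k : ℚ) + 6) := by
  rcases hk with h | h
  · have hk' : (10 : ℚ) ≤ (k : ℚ) := by exact_mod_cast h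
    have h1 : (0 : ℚ) < (k : ℚ) := by linarith
    have h2 : (0 : ℚ) < (k : ℚ) + 6 := by linarith
    have e : 2 / (k : ℚ) - 8 / ((k : ℚ) + 6) + 3 / 10 =
        (3 * ((k : ℚ) - 10) * ((k : ℚ) - 4)) / (10 * (k : ℚ) * ((k : ℚ) + 6)) := by
      field_simp
      ring
    have h3 : (0 : ℚ) ≤ (3 * ((k : ℚ) - 10) * ((k : ℚ) - 4)) / (10 * (k : ℚ) * ((k : ℚ) + 6)) := by
      apply div_nonneg
      · exact mul_nonneg (mul_nonneg (by norm_num) (by linarith)) (by linarith)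
      · positivity
    linarith
  · have hk' : (k : ℚ) ≤ -17 := by exact_mod_cast h
    have h1 : -(1 / ((17 : ℤ) : ℚ)) ≤ 1 / (k : ℚ) := inv_lb k 1 17 (by norm_num) (by norm_num) (Or.inr h)
    have h2 : (k : ℚ) + 6 < 0 := by linarith
    have h3 : 8 / ((k : ℚ) + 6) < 0 := div_neg_of_pos_of_neg (by norm_num) h2
    have h4 : 2 / (k : ℚ) = 2 * (1 / (k : ℚ)) := by ring
    rw [h4]
    push_cast at h1
    linarith

theorem alpha_bound (t k l : ℤ) (g : ℕ) (ht : t % 9 = 7 ∧ (16 ≤ t ∨ t ≤ -11))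
    (hk : k % 9 = 1 ∧ (10 ≤ k ∨ k ≤ -17)) (hl : l % 9 = 1 ∧ (10 ≤ l ∨ l ≤ -17))
    (hp : (t - 1 - k) % 9 = 5 ∧ (5 ≤ t - 1 - k ∨ t - 1 - k ≤ -13))
    (hq : (t - l - k) % 9 = 5 ∧ (14 ≤ t - l - k ∨ t - l - k ≤ -13))
    (hg : 1 + l ^ 2 + 2 * k ^ 2 + 2 * (t - 1 - k) ^ 2 + 2 * (t - l - k) ^ 2 + t ^ 2 ≤ (g : ℤ))
    (hR : (g : ℚ) * (1 + 1 / (l : ℚ) + 2 / (k : ℚ) - 8 / (t : ℚ) - 2 / ((t - 1 - k : ℤ) : ℚ)
        - 2 / ((t - l - k : ℤ) : ℚ)) = 648) :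
    (-130 ≤ t ∧ t ≤ 130) ∧ (-92 ≤ k ∧ k ≤ 92) ∧ (-130 ≤ l ∧ l ≤ 130) := by
  -- the lower bound for `R`
  have hl1 : -(1 / ((17 : ℤ) : ℚ)) ≤ 1 / (l : ℚ) := inv_lb l 10 17 (by norm_num) (by norm_num) hl.2
  have hk1 : -(1 / ((17 : ℤ) : ℚ)) ≤ 1 / (k : ℚ) := inv_lb k 10 17 (by norm_num) (by norm_num) hk.2
  have ht1 : 1 / (t : ℚ) ≤ 1 / ((16 : ℤ) : ℚ) := inv_ub t 16 11 (by norm_num) (by norm_num) ht.2
  have hq1 : 1 / ((t - l - k : ℤ) : ℚ) ≤ 1 / ((14 : ℤ) : ℚ) :=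
    inv_ub _ 14 13 (by norm_num) (by norm_num) hq.2
  push_cast at hl1 hk1 ht1 hq1
  have hRlb : (9 / 238 : ℚ) ≤ 1 + 1 / (l : ℚ) + 2 / (k : ℚ) - 8 / (t : ℚ)
      - 2 / ((t - 1 - k : ℤ) : ℚ) - 2 / ((t - l - k : ℤ) : ℚ) := by
    have e1 : 2 / (k : ℚ) = 2 * (1 / (k : ℚ)) := by ring
    have e2 : 8 / (t : ℚ) = 8 * (1 / (t : ℚ)) := by ring
    have e3 : 2 / ((t - l - k : ℤ) : ℚ) = 2 * (1 / ((t - l - k : ℤ) : ℚ)) := by ring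
    have e4 : 2 / ((t - 1 - k : ℤ) : ℚ) = 2 * (1 / ((t - 1 - k : ℤ) : ℚ)) := by ring
    by_cases hp5 : t - 1 - k = 5
    · have htk : t = k + 6 := by omega
      have h5 := case_five k hk.2
      have e5 : (t : ℚ) = (k : ℚ) + 6 := by exact_mod_cast htk
      rw [hp5, e3]
      rw [e5]
      push_cast at hq1 ⊢
      linarith
    · have hp14 : 14 ≤ t - 1 - k ∨ t - 1 - k ≤ -13 := by omega
      have hp1 : 1 / ((t - 1 - k : ℤ) : ℚ) ≤ 1 / ((14 : ℤ) : ℚ) :=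
        inv_ub _ 14 13 (by norm_num) (by norm_num) hp14
      rw [e1, e2, e3, e4]
      push_cast at hp1 hq1 ⊢
      linarith
  -- hence `g ≤ 17136`
  have hg0 : (0 : ℚ) ≤ (g : ℚ) := Nat.cast_nonneg g
  have hgle : (g : ℚ) ≤ 17136 := by
    have := mul_le_mul_of_nonneg_left hRlb hg0
    rw [hR] at this
    linarith
  have hgle' : (g : ℤ) ≤ 17136 := by exact_mod_cast hgle
  have hN : 1 + l ^ 2 + 2 * k ^ 2 + 2 * (t - 1 - k) ^ 2 + 2 * (t - l - k) ^ 2 + t ^ 2 ≤ 17136 :=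
    le_trans hg hgle'
  have hp2 : 0 ≤ (t - 1 - k) ^ 2 := sq_nonneg _
  have hq2 : 0 ≤ (t - l - k) ^ 2 := sq_nonneg _
  have hl2 : 0 ≤ l ^ 2 := sq_nonneg _
  have hk2 : 0 ≤ k ^ 2 := sq_nonneg _
  have ht2 : 0 ≤ t ^ 2 := sq_nonneg _
  have htt : t ^ 2 ≤ 17136 := by linarith
  have hll : l ^ 2 ≤ 17136 := by linarith
  have hkk : k ^ 2 ≤ 8568 := by linarith
  refine ⟨⟨?_, ?_⟩, ⟨?_, ?_⟩, ⟨?_, ?_⟩⟩ <;> nlinarith
end Cfsg.Agent.Lib.Helper25_D72_ALPHABND
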