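import Mathlib

/-!
# S3716 market (architect helper62), package ALPHAFIN (helper25)

The finite check for the `S6` shape: a kernel-evaluated Boolean search over the
`29 × 21 × 29` triples `(t, k, l)` in the congruence classes.
-/

set_option autoImplicit false

namespace Cfsg.Agent.Lib.Helper25_D72_ALPHAFIN

/-- the denominator `l k t p q` -/
def dD (t k l : ℤ) : ℤ := l * k * t * (t - 1 - k) * (t - l - k)

/-- the numerator of `1 + 1/l + 2/k - 8/t - 2/p - 2/q` over `l k t p q` -/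
def dU (t k l : ℤ) : ℤ :=
  l * k * t * (t - 1 - k) * (t - l - k) + k * t * (t - 1 - k) * (t - l - k)
    + 2 * (l * t * (t - 1 - k) * (t - l - k)) - 8 * (l * k * (t - 1 - k) * (t - l - k))
    - 2 * (l * k * t * (t - l - k)) - 2 * (l * k * t * (t - 1 - k))

/-- the lower bound for the group order -/
def dN (t k l : ℤ) : ℤ :=
  1 + l * l + 2 * (k * k) + 2 * ((t - 1 - k) * (t - 1 - k)) + 2 * ((t - l - k) * (t - l - k)) + t * t

/-- the range conditions -/
def cond (t k l : ℤ) : Bool :=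
  (decide (16 ≤ t) || decide (t ≤ -11)) && (decide (10 ≤ k) || decide (k ≤ -17)) &&
  (decide (10 ≤ l) || decide (l ≤ -17)) &&
  (decide (5 ≤ t - 1 - k) || decide (t - 1 - k ≤ -13)) &&
  (decide (14 ≤ t - l - k) || decide (t - l - k ≤ -13))

/-- the check at a triple -/
def chk (t k l : ℤ) : Bool :=
  decide (dU t k l = 0) || !(decide ((648 * dD t k l) % dU t k l = 0)) ||
    decide ((648 * dD t k l) / dU t k l < dN t k l)

/-- the whole search -/
def search : Bool :=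
  (List.range 29).all fun a => (List.range 21).all fun b => (List.range 29).all fun c =>
    !(cond (9 * (a : ℤ) - 128) (9 * (b : ℤ) - 89) (9 * (c : ℤ) - 125)) ||
      chk (9 * (a : ℤ) - 128) (9 * (b : ℤ) - 89) (9 * (c : ℤ) - 125)

theorem search_true : search = true := by decide +kernel

lemma chk_sound (t k l : ℤ) (g : ℤ) (hD : dD t k l ≠ 0) (hN : dN t k l ≤ g)
    (hg : g * dU t k l = 648 * dD t k l) (h : chk t k l = true) : False := by
  unfold chk at h
  simp only [Bool.or_eq_true, decide_eq_true_eq, Bool.not_eq_true', decide_eq_false_iff_not] at h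
  rcases h with (h | h) | h
  · rw [h, mul_zero] at hg
    have : dD t k l = 0 := by omega
    exact hD this
  · apply h
    rw [← hg]
    exact Int.mul_emod_left _ _
  · have hU : dU t k l ≠ 0 := by
      intro h0
      rw [h0, mul_zero] at hg
      have : dD t k l = 0 := by omega
      exact hD this
    rw [← hg, Int.mul_ediv_cancel _ hU] at h
    omega

theorem alpha_fin (t k l : ℤ) (g : ℕ) (ht : t % 9 = 7 ∧ (16 ≤ t ∨ t ≤ -11))
    (hk : k % 9 = 1 ∧ (10 ≤ k ∨ k ≤ -17)) (hl : l % 9 = 1 ∧ (10 ≤ l ∨ l ≤ -17))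
    (hp : (t - 1 - k) % 9 = 5 ∧ (5 ≤ t - 1 - k ∨ t - 1 - k ≤ -13))
    (hq : (t - l - k) % 9 = 5 ∧ (14 ≤ t - l - k ∨ t - l - k ≤ -13))
    (hg : 1 + l ^ 2 + 2 * k ^ 2 + 2 * (t - 1 - k) ^ 2 + 2 * (t - l - k) ^ 2 + t ^ 2 ≤ (g : ℤ))
    (hR : (g : ℚ) * (1 + 1 / (l : ℚ) + 2 / (k : ℚ) - 8 / (t : ℚ) - 2 / ((t - 1 - k : ℤ) : ℚ)
        - 2 / ((t - l - k : ℤ) : ℚ)) = 648)
    (bt : -130 ≤ t ∧ t ≤ 130) (bk : -92 ≤ k ∧ k ≤ 92) (bl : -130 ≤ l ∧ l ≤ 130) : False := by
  have ht0 : t ≠ 0 := by omega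
  have hk0 : k ≠ 0 := by omega
  have hl0 : l ≠ 0 := by omega
  have hp0 : t - 1 - k ≠ 0 := by omega
  have hq0 : t - l - k ≠ 0 := by omega
  have hD : dD t k l ≠ 0 := by
    unfold dD
    exact mul_ne_zero (mul_ne_zero (mul_ne_zero (mul_ne_zero hl0 hk0) ht0) hp0) hq0
  have hN : dN t k l ≤ (g : ℤ) := by
    unfold dN
    nlinarith [hg]
  have hgU : (g : ℤ) * dU t k l = 648 * dD t k l := by
    have ht0' : (t : ℚ) ≠ 0 := by exact_mod_cast ht0
    have hk0' : (k : ℚ) ≠ 0 := by exact_mod_cast hk0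
    have hl0' : (l : ℚ) ≠ 0 := by exact_mod_cast hl0
    have hp0' : ((t - 1 - k : ℤ) : ℚ) ≠ 0 := by exact_mod_cast hp0
    have hq0' : ((t - l - k : ℤ) : ℚ) ≠ 0 := by exact_mod_cast hq0
    have hUR : ((dU t k l : ℤ) : ℚ) = (1 + 1 / (l : ℚ) + 2 / (k : ℚ) - 8 / (t : ℚ)
        - 2 / ((t - 1 - k : ℤ) : ℚ) - 2 / ((t - l - k : ℤ) : ℚ)) * ((dD t k l : ℤ) : ℚ) := by
      unfold dU dD
      set p : ℤ := t - 1 - k with hpdef
      set q : ℤ := t - l - k with hqdef
      push_cast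
      field_simp
    have : (((g : ℤ) * dU t k l : ℤ) : ℚ) = ((648 * dD t k l : ℤ) : ℚ) := by
      push_cast
      rw [hUR, ← mul_assoc, hR]
    exact_mod_cast this
  -- locate the triple in the search
  obtain ⟨a, ha, rfl⟩ : ∃ a : ℕ, a < 29 ∧ t = 9 * (a : ℤ) - 128 :=
    ⟨((t + 128) / 9).toNat, by omega, by omega⟩
  obtain ⟨b, hb, rfl⟩ : ∃ b : ℕ, b < 21 ∧ k = 9 * (b : ℤ) - 89 :=
    ⟨((k + 89) / 9).toNat, by omega, by omega⟩
  obtain ⟨c, hc, rfl⟩ : ∃ c : ℕ, c < 29 ∧ l = 9 * (c : ℤ) - 125 :=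
    ⟨((l + 125) / 9).toNat, by omega, by omega⟩
  have hs := search_true
  unfold search at hs
  rw [List.all_eq_true] at hs
  have h1 := hs a (List.mem_range.2 ha)
  rw [List.all_eq_true] at h1
  have h2 := h1 b (List.mem_range.2 hb)
  rw [List.all_eq_true] at h2
  have h3 := h2 c (List.mem_range.2 hc)
  rw [Bool.or_eq_true, Bool.not_eq_true'] at h3
  rcases h3 with h3 | h3
  · have : cond (9 * (a : ℤ) - 128) (9 * (b : ℤ) - 89) (9 * (c : ℤ) - 125) = true := by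
      unfold cond
      simp only [Bool.and_eq_true, Bool.or_eq_true, decide_eq_true_eq]
      exact ⟨⟨⟨⟨ht.2, hk.2⟩, hl.2⟩, hp.2⟩, hq.2⟩
    rw [this] at h3
    exact Bool.noConfusion h3
  · exact chk_sound _ _ _ _ hD hN hgU h3

end Cfsg.Agent.Lib.Helper25_D72_ALPHAFIN
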