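import Cfsg.Prelude.Def_OddOrderChar
import Cfsg.Agent.S1498
import Cfsg.Agent.S1499
import Cfsg.Agent.Lib.Helper3_CharOrtho

set_option autoImplicit false

namespace Cfsg.Agent.Lib.Helper25_DadeIso

open Cfsg
open scoped ComplexConjugate

variable {G : Type*} [Group G]

/-- The value of the Dade map at an element conjugate to `a * u`. -/
theorem dade_apply [Finite G] (A : Set G) (L : Subgroup G) (H : G → Subgroup G)
    (hD : Cfsg.DadeHypothesis A L H) (α : ↥L → ℂ) (hα : Cfsg.IsClassFunction ↥L α)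
    (g : G) (a : ↥L) (ha : (a : G) ∈ A) (x u : G) (hu : u ∈ H (a : G))
    (hx : x * g * x⁻¹ = (a : G) * u) : Cfsg.dadeIsometry A L H α g = α a := by
  have h : ∃ a : ↥L, (a : G) ∈ A ∧ ∃ x : G, ∃ u ∈ H (a : G), x * g * x⁻¹ = (a : G) * u :=
    ⟨a, ha, x, u, hu, hx⟩
  unfold Cfsg.dadeIsometry
  rw [dif_pos h]
  obtain ⟨ha', x', u', hu', hx'⟩ := Classical.choose_spec h
  obtain ⟨y, hyL, hy⟩ := (Cfsg.Agent.S1499.result A L H hD _ _ ha' ha).1
    ⟨u', hu', u, hu, x * x'⁻¹, by rw [← hx', ← hx]; group⟩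
  have e : a = ⟨y, hyL⟩ * Classical.choose h * ⟨y, hyL⟩⁻¹ := Subtype.ext (by simp [hy])
  calc α (Classical.choose h) = α (⟨y, hyL⟩ * Classical.choose h * ⟨y, hyL⟩⁻¹) := (hα _ _).symm
    _ = α a := by rw [← e]

theorem dade_of_not (A : Set G) (L : Subgroup G) (H : G → Subgroup G) (α : ↥L → ℂ) (g : G)
    (h : ¬ ∃ a : ↥L, (a : G) ∈ A ∧ ∃ x : G, ∃ u ∈ H (a : G), x * g * x⁻¹ = (a : G) * u) :
    Cfsg.dadeIsometry A L H α g = 0 := by
  unfold Cfsg.dadeIsometry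
  rw [dif_neg h]

/-- The Dade image of a class function is a class function. -/
theorem isClassFunction_dade [Finite G] (A : Set G) (L : Subgroup G) (H : G → Subgroup G)
    (hD : Cfsg.DadeHypothesis A L H) (α : ↥L → ℂ) (hα : Cfsg.IsClassFunction ↥L α) :
    Cfsg.IsClassFunction G (Cfsg.dadeIsometry A L H α) := by
  intro g k
  by_cases h : ∃ a : ↥L, (a : G) ∈ A ∧ ∃ x : G, ∃ u ∈ H (a : G), x * g * x⁻¹ = (a : G) * u
  · obtain ⟨a, ha, x, u, hu, hx⟩ := h
    rw [dade_apply A L H hD α hα g a ha x u hu hx,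
      dade_apply A L H hD α hα (k * g * k⁻¹) a ha (x * k⁻¹) u hu (by rw [← hx]; group)]
  · have h' : ¬ ∃ a : ↥L, (a : G) ∈ A ∧ ∃ x : G, ∃ u ∈ H (a : G),
        x * (k * g * k⁻¹) * x⁻¹ = (a : G) * u := by
      rintro ⟨a, ha, x, u, hu, hx⟩
      exact h ⟨a, ha, x * k, u, hu, by rw [← hx]; group⟩
    rw [dade_of_not A L H α g h, dade_of_not A L H α _ h']

/-- The elements conjugating `a₀ ∈ A` into `A` are exactly those of `L * H a₀`. -/
theorem conj_mem_iff (A : Set G) (L : Subgroup G) (H : G → Subgroup G)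
    (hD : Cfsg.DadeHypothesis A L H) (a₀ : G) (ha₀ : a₀ ∈ A) (x : G) :
    x * a₀ * x⁻¹ ∈ A ↔ ∃ y ∈ L, ∃ c ∈ H a₀, x = y * c := by
  constructor
  · intro hx
    obtain ⟨y, hyL, hy⟩ := hD.fusion a₀ ha₀ x hx
    have hcent : y⁻¹ * x ∈ Subgroup.centralizer ({a₀} : Set G) := by
      rw [Subgroup.mem_centralizer_iff]
      intro z hz
      have : z = a₀ := hz
      subst this
      have : y⁻¹ * x * z * (y⁻¹ * x)⁻¹ = z := by
        calc y⁻¹ * x * z * (y⁻¹ * x)⁻¹ = y⁻¹ * (x * z * x⁻¹) * y := by group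
          _ = y⁻¹ * (y * z * y⁻¹) * y := by rw [hy]
          _ = z := by group
      calc z * (y⁻¹ * x) = (y⁻¹ * x * z * (y⁻¹ * x)⁻¹) * (y⁻¹ * x) := by rw [this]
        _ = y⁻¹ * x * z := by group
    rw [← hD.sup_eq a₀ ha₀, sup_comm] at hcent
    have hnorm : L ⊓ Subgroup.centralizer ({a₀} : Set G) ≤
        Subgroup.normalizer (H a₀ : Set G) := by
      intro c hc
      rw [Subgroup.mem_normalizer_iff]
      intro u
      constructor
      · intro hu; exact hD.conj_mem_H a₀ ha₀ c hc.2 u hu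
      · intro hu
        have := hD.conj_mem_H a₀ ha₀ c⁻¹ (inv_mem hc.2) _ hu
        have e : c⁻¹ * (c * u * c⁻¹) * c⁻¹⁻¹ = u := by group
        rwa [e] at this
    have hmem : y⁻¹ * x ∈
        (↑((L ⊓ Subgroup.centralizer ({a₀} : Set G)) ⊔ H a₀) : Set G) := hcent
    rw [Subgroup.coe_mul_of_left_le_normalizer_right _ _ hnorm] at hmem
    obtain ⟨z, hz, c, hc, hzc⟩ := hmem
    refine ⟨y * z, mul_mem hyL hz.1, c, hc, ?_⟩
    have hzc' : z * c = y⁻¹ * x := hzc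
    calc x = y * (y⁻¹ * x) := by group
      _ = y * (z * c) := by rw [hzc']
      _ = y * z * c := by group
  · rintro ⟨y, hyL, c, hc, rfl⟩
    have hcc : c ∈ Subgroup.centralizer ({a₀} : Set G) := hD.le_centralizer a₀ ha₀ hc
    have hca : a₀ * c = c * a₀ := (Subgroup.mem_centralizer_iff.mp hcc) a₀ rfl
    have : y * c * a₀ * (y * c)⁻¹ = y * a₀ * y⁻¹ := by
      calc y * c * a₀ * (y * c)⁻¹ = y * (c * a₀) * c⁻¹ * y⁻¹ := by group
        _ = y * (a₀ * c) * c⁻¹ * y⁻¹ := by rw [hca]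
        _ = y * a₀ * y⁻¹ := by group
    rw [this]
    exact hD.conj_mem y hyL a₀ ha₀

theorem card_conj_set [Finite G] (A : Set G) (L : Subgroup G) (H : G → Subgroup G)
    (hD : Cfsg.DadeHypothesis A L H) (a₀ : G) (ha₀ : a₀ ∈ A) :
    Nat.card {x : G // x * a₀ * x⁻¹ ∈ A} = Nat.card L * Nat.card (H a₀) := by
  rw [← Nat.card_prod]
  symm
  apply Nat.card_congr
  refine Equiv.ofBijective (fun p : ↥L × ↥(H a₀) => ⟨(p.1 : G) * (p.2 : G),
    (conj_mem_iff A L H hD a₀ ha₀ _).mpr ⟨p.1, p.1.2, p.2, p.2.2, rfl⟩⟩) ⟨?_, ?_⟩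
  · rintro ⟨y, c⟩ ⟨y', c'⟩ h
    have h' : (y : G) * (c : G) = (y' : G) * (c' : G) := congrArg Subtype.val h
    have e : (y' : G)⁻¹ * (y : G) = (c' : G) * (c : G)⁻¹ := by
      calc (y' : G)⁻¹ * (y : G) = (y' : G)⁻¹ * ((y : G) * (c : G)) * (c : G)⁻¹ := by group
        _ = (y' : G)⁻¹ * ((y' : G) * (c' : G)) * (c : G)⁻¹ := by rw [h']
        _ = (c' : G) * (c : G)⁻¹ := by group
    have hmem : (c' : G) * (c : G)⁻¹ ∈
        H a₀ ⊓ (L ⊓ Subgroup.centralizer ({a₀} : Set G)) := by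
      refine Subgroup.mem_inf.mpr ⟨mul_mem c'.2 (inv_mem c.2), Subgroup.mem_inf.mpr ⟨?_,
        hD.le_centralizer a₀ ha₀ (mul_mem c'.2 (inv_mem c.2))⟩⟩
      rw [← e]; exact mul_mem (inv_mem y'.2) y.2
    rw [hD.inf_eq_bot a₀ ha₀, Subgroup.mem_bot] at hmem
    have hc : c' = c := Subtype.ext (mul_inv_eq_one.mp hmem)
    have hy : y' = y := by
      apply Subtype.ext
      rw [hmem] at e
      exact inv_mul_eq_one.mp e
    rw [hc, hy]
  · rintro ⟨x, hx⟩
    obtain ⟨y, hyL, c, hc, rfl⟩ := (conj_mem_iff A L H hD a₀ ha₀ x).mp hx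
    exact ⟨(⟨y, hyL⟩, ⟨c, hc⟩), rfl⟩

open Classical in
/-- The weight used in the double counting: `1 / |H a|` on the coset `a * H a` (for `a ∈ A`). -/
noncomputable def wt (A : Set G) (L : Subgroup G) (H : G → Subgroup G) (a : ↥L) (d : G) : ℂ :=
  if (a : G) ∈ A ∧ (a : G)⁻¹ * d ∈ H (a : G) then (Nat.card (H (a : G)) : ℂ)⁻¹ else 0

theorem inner_sum_eq [Finite G] (A : Set G) (L : Subgroup G) [Fintype L] (H : G → Subgroup G)
    (hD : Cfsg.DadeHypothesis A L H) (a₀ : ↥L) (ha₀ : (a₀ : G) ∈ A) (u₀ : G)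
    (hu₀ : u₀ ∈ H (a₀ : G)) (x : G) [Decidable (x * (a₀ : G) * x⁻¹ ∈ A)] :
    ∑ a : ↥L, wt A L H a (x * ((a₀ : G) * u₀) * x⁻¹) =
      if x * (a₀ : G) * x⁻¹ ∈ A then (Nat.card (H (a₀ : G)) : ℂ)⁻¹ else 0 := by
  split_ifs with hx
  · obtain ⟨y, hyL, c, hc, rfl⟩ := (conj_mem_iff A L H hD a₀ ha₀ x).mp hx
    have hcc : c ∈ Subgroup.centralizer ({(a₀ : G)} : Set G) := hD.le_centralizer a₀ ha₀ hc
    have hca : (a₀ : G) * c = c * (a₀ : G) := (Subgroup.mem_centralizer_iff.mp hcc) a₀ rfl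
    have hconj : y * c * (a₀ : G) * (y * c)⁻¹ = y * (a₀ : G) * y⁻¹ := by
      calc y * c * (a₀ : G) * (y * c)⁻¹ = y * (c * (a₀ : G)) * c⁻¹ * y⁻¹ := by group
        _ = y * ((a₀ : G) * c) * c⁻¹ * y⁻¹ := by rw [hca]
        _ = y * (a₀ : G) * y⁻¹ := by group
    have ha₁G : ((⟨y, hyL⟩ * a₀ * ⟨y, hyL⟩⁻¹ : ↥L) : G) = y * (a₀ : G) * y⁻¹ := by simp
    have hH : H ((⟨y, hyL⟩ * a₀ * ⟨y, hyL⟩⁻¹ : ↥L) : G) =
        (H (a₀ : G)).map (MulAut.conj y).toMonoidHom := by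
      rw [ha₁G]; exact Cfsg.Agent.S1498.result A L H hD a₀ ha₀ y hyL
    rw [Finset.sum_eq_single (⟨y, hyL⟩ * a₀ * ⟨y, hyL⟩⁻¹ : ↥L)]
    · unfold wt
      rw [if_pos]
      · rw [hH]
        congr 2
        exact Subgroup.card_map_of_injective (MulAut.conj y).injective
      · refine ⟨by rw [ha₁G]; exact hD.conj_mem y hyL _ ha₀, ?_⟩
        rw [hH, ha₁G]
        refine ⟨c * u₀ * c⁻¹, hD.conj_mem_H a₀ ha₀ c hcc u₀ hu₀, ?_⟩
        show y * (c * u₀ * c⁻¹) * y⁻¹ = _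
        have : y * c * ((a₀ : G) * u₀) * (y * c)⁻¹ =
            (y * (a₀ : G) * y⁻¹) * (y * (c * u₀ * c⁻¹) * y⁻¹) := by
          calc y * c * ((a₀ : G) * u₀) * (y * c)⁻¹
              = y * (c * (a₀ : G)) * u₀ * c⁻¹ * y⁻¹ := by group
            _ = y * ((a₀ : G) * c) * u₀ * c⁻¹ * y⁻¹ := by rw [hca]
            _ = (y * (a₀ : G) * y⁻¹) * (y * (c * u₀ * c⁻¹) * y⁻¹) := by group
        rw [this]; group
    · intro b _ hb
      unfold wt
      rw [if_neg]
      rintro ⟨hbA, hbH⟩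
      apply hb
      have := Cfsg.Agent.S1499.conj_eq A L H hD a₀ b ha₀ hbA u₀ hu₀ _ hbH (y * c) (by group)
      apply Subtype.ext
      rw [ha₁G, ← this, hconj]
    · intro h; exact absurd (Finset.mem_univ _) h
  · apply Finset.sum_eq_zero
    intro b _
    unfold wt
    rw [if_neg]
    rintro ⟨hbA, hbH⟩
    apply hx
    have := Cfsg.Agent.S1499.conj_eq A L H hD a₀ b ha₀ hbA u₀ hu₀ _ hbH x (by group)
    rw [this]; exact hbA

/-- The counting function `N g = ∑ x, ∑ a, wt a (x g x⁻¹)`. -/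
noncomputable def cnt [Fintype G] (A : Set G) (L : Subgroup G) [Fintype L] (H : G → Subgroup G)
    (g : G) : ℂ :=
  ∑ x : G, ∑ a : ↥L, wt A L H a (x * g * x⁻¹)

theorem cnt_conj [Fintype G] (A : Set G) (L : Subgroup G) [Fintype L] (H : G → Subgroup G)
    (g z : G) : cnt A L H (z * g * z⁻¹) = cnt A L H g := by
  unfold cnt
  apply Fintype.sum_equiv (Equiv.mulRight z)
  intro x
  apply Finset.sum_congr rfl
  intro a _
  congr 1
  simp only [Equiv.coe_mulRight]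
  group

theorem cnt_base [Fintype G] (A : Set G) (L : Subgroup G) [Fintype L] (H : G → Subgroup G)
    (hD : Cfsg.DadeHypothesis A L H) (a₀ : ↥L) (ha₀ : (a₀ : G) ∈ A) (u₀ : G)
    (hu₀ : u₀ ∈ H (a₀ : G)) : cnt A L H ((a₀ : G) * u₀) = (Nat.card L : ℂ) := by
  classical
  unfold cnt
  rw [Finset.sum_congr rfl (fun x _ => inner_sum_eq A L H hD a₀ ha₀ u₀ hu₀ x)]
  rw [Finset.sum_ite, Finset.sum_const_zero, add_zero, Finset.sum_const, nsmul_eq_mul]
  have hcard : (Finset.univ.filter (fun x : G => x * (a₀ : G) * x⁻¹ ∈ A)).card =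
      Nat.card L * Nat.card (H (a₀ : G)) := by
    rw [← card_conj_set A L H hD a₀ ha₀, Nat.card_eq_fintype_card, Fintype.card_subtype]
  rw [hcard]
  have hne : (Nat.card (H (a₀ : G)) : ℂ) ≠ 0 := by
    exact_mod_cast (Nat.card_pos (α := H (a₀ : G))).ne'
  push_cast
  field_simp

theorem cnt_eq [Fintype G] (A : Set G) (L : Subgroup G) [Fintype L] (H : G → Subgroup G)
    (hD : Cfsg.DadeHypothesis A L H) (g : G)
    (h : ∃ a : ↥L, (a : G) ∈ A ∧ ∃ x : G, ∃ u ∈ H (a : G), x * g * x⁻¹ = (a : G) * u) :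
    cnt A L H g = (Nat.card L : ℂ) := by
  obtain ⟨a, ha, x, u, hu, hx⟩ := h
  rw [← cnt_conj A L H g x, hx]
  exact cnt_base A L H hD a ha u hu

/-- Frobenius-reciprocity-like formula for the Dade map. -/
theorem dade_inner [Fintype G] (A : Set G) (L : Subgroup G) [Fintype L] (H : G → Subgroup G)
    (hD : Cfsg.DadeHypothesis A L H) (α : ↥L → ℂ) (hα : Cfsg.IsClassFunction ↥L α)
    (hαA : ∀ x : ↥L, (x : G) ∉ A → α x = 0) (χ : G → ℂ) (ψ : ↥L → ℂ)
    (hχ : Cfsg.IsClassFunction G χ)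
    (hψ : ∀ a : ↥L, (a : G) ∈ A → ψ a = (Nat.card (H (a : G)) : ℂ)⁻¹ *
      ∑ u : G, (Set.indicator (H (a : G) : Set G) (fun u => χ ((a : G) * u)) u)) :
    Cfsg.classInner (Cfsg.dadeIsometry A L H α) χ = Cfsg.classInner α ψ := by
  classical
  have hdcf := isClassFunction_dade A L H hD α hα
  have hF : ∀ g k : G, Cfsg.dadeIsometry A L H α (k * g * k⁻¹) * conj (χ (k * g * k⁻¹)) =
      Cfsg.dadeIsometry A L H α g * conj (χ g) := by
    intro g k
    rw [hdcf g k, hχ g k]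
  have key : ∀ g : G, (Nat.card L : ℂ) * (Cfsg.dadeIsometry A L H α g * conj (χ g)) =
      (Cfsg.dadeIsometry A L H α g * conj (χ g)) * cnt A L H g := by
    intro g
    by_cases h : ∃ a : ↥L, (a : G) ∈ A ∧ ∃ x : G, ∃ u ∈ H (a : G), x * g * x⁻¹ = (a : G) * u
    · rw [cnt_eq A L H hD g h]; ring
    · rw [dade_of_not A L H α g h]; simp
  have h1 : (Nat.card L : ℂ) * ∑ g : G, Cfsg.dadeIsometry A L H α g * conj (χ g) =
      ∑ g : G, (Cfsg.dadeIsometry A L H α g * conj (χ g)) * cnt A L H g := by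
    rw [Finset.mul_sum]
    exact Finset.sum_congr rfl (fun g _ => key g)
  have h2 : ∑ g : G, (Cfsg.dadeIsometry A L H α g * conj (χ g)) * cnt A L H g =
      (Nat.card G : ℂ) * ∑ a : ↥L, ∑ g : G,
        (Cfsg.dadeIsometry A L H α g * conj (χ g)) * wt A L H a g := by
    unfold cnt
    simp_rw [Finset.mul_sum]
    rw [Finset.sum_comm]
    have hx : ∀ x : G, ∑ g : G, ∑ a : ↥L,
        (Cfsg.dadeIsometry A L H α g * conj (χ g)) * wt A L H a (x * g * x⁻¹) =
        ∑ a : ↥L, ∑ g : G, (Cfsg.dadeIsometry A L H α g * conj (χ g)) * wt A L H a g := by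
      intro x
      rw [Finset.sum_comm]
      apply Finset.sum_congr rfl
      intro a _
      apply Fintype.sum_equiv (MulAut.conj x).toEquiv
      intro g
      show _ = (Cfsg.dadeIsometry A L H α (x * g * x⁻¹) * conj (χ (x * g * x⁻¹))) *
        wt A L H a (x * g * x⁻¹)
      rw [hF g x]
    rw [Finset.sum_congr rfl (fun x _ => hx x), Finset.sum_const, Finset.card_univ,
      nsmul_eq_mul, Nat.card_eq_fintype_card]
    simp_rw [Finset.mul_sum]
  have h3 : ∀ a : ↥L, ∑ g : G, (Cfsg.dadeIsometry A L H α g * conj (χ g)) * wt A L H a g =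
      α a * conj (ψ a) := by
    intro a
    by_cases ha : (a : G) ∈ A
    · rw [hψ a ha]
      rw [map_mul, map_inv₀, Complex.conj_natCast, map_sum, Finset.mul_sum, Finset.mul_sum]
      symm
      apply Fintype.sum_equiv (Equiv.mulLeft (a : G))
      intro u
      simp only [Equiv.coe_mulLeft]
      unfold wt
      by_cases hu : u ∈ H (a : G)
      · rw [if_pos ⟨ha, by rw [inv_mul_cancel_left]; exact hu⟩,
          Set.indicator_of_mem (show u ∈ (H (a : G) : Set G) from hu),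
          dade_apply A L H hD α hα ((a : G) * u) a ha 1 u hu (by group)]
        ring
      · rw [if_neg (fun h => hu (by have := h.2; rwa [inv_mul_cancel_left] at this)),
          Set.indicator_of_notMem (show u ∉ (H (a : G) : Set G) from hu)]
        simp
    · rw [hαA a ha, zero_mul]
      apply Finset.sum_eq_zero
      intro g _
      unfold wt
      rw [if_neg (fun h => ha h.1), mul_zero]
  unfold Cfsg.classInner
  rw [Finset.sum_congr rfl (fun a _ => h3 a)] at h2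
  have hL : (Nat.card L : ℂ) ≠ 0 := by exact_mod_cast (Nat.card_pos (α := L)).ne'
  have hG : (Nat.card G : ℂ) ≠ 0 := by exact_mod_cast (Nat.card_pos (α := G)).ne'
  have h4 := h1.trans h2
  field_simp
  linear_combination h4

end Cfsg.Agent.Lib.Helper25_DadeIso
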