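import Mathlib

/-!
# Weighted orbit sums (helper25)

For a finite group `L` acting on a finite type `X` and an `L`-invariant integer-valued function `f`,
the sum `∑ x, |Stab x| / |L| * f x` is an integer (it is the sum of `f` over orbit representatives).
-/

set_option autoImplicit false

namespace Cfsg.Agent.Lib.Helper25_OrbitSum

open Classical in
theorem orbit_sum_int {L X : Type*} [Group L] [Fintype L] [Fintype X] [MulAction L X]
    (f : X → ℤ) (hf : ∀ (y : L) (x : X), f (y • x) = f x) :
    ∃ z : ℤ, ∑ x : X, ((Nat.card (MulAction.stabilizer L x) : ℂ) / (Nat.card L : ℂ)) * (f x : ℂ)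
      = z := by
  let F : X → ℂ := fun x => ((Nat.card (MulAction.stabilizer L x) : ℂ) / (Nat.card L : ℂ)) * (f x : ℂ)
  have hF : ∀ (y : L) (x : X), F (y • x) = F x := by
    intro y x
    simp only [F]
    rw [hf]
    congr 3
    rw [MulAction.stabilizer_smul_eq_stabilizer_map_conj]
    exact Subgroup.card_map_of_injective (MulAut.conj y).injective
  refine ⟨∑ ω : MulAction.orbitRel.Quotient L X, f ω.out, ?_⟩
  show ∑ x : X, F x = _
  rw [← Fintype.sum_equiv (MulAction.selfEquivSigmaOrbits L X).symm
    (fun p => F ((MulAction.selfEquivSigmaOrbits L X).symm p)) F (fun p => rfl)]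
  rw [Fintype.sum_sigma]
  push_cast
  apply Finset.sum_congr rfl
  intro ω _
  have h1 : ∀ x : MulAction.orbit L ω.out,
      F ((MulAction.selfEquivSigmaOrbits L X).symm ⟨ω, x⟩) = F ω.out := by
    intro x
    have hx : (MulAction.selfEquivSigmaOrbits L X).symm ⟨ω, x⟩ = (x : X) := rfl
    rw [hx]
    obtain ⟨y, hy⟩ := x.2
    rw [← hy]
    exact hF y _
  rw [Finset.sum_congr rfl (fun x _ => h1 x), Finset.sum_const, Finset.card_univ, nsmul_eq_mul]
  simp only [F]
  have h2 := MulAction.card_orbit_mul_card_stabilizer_eq_card_group L (ω.out : X)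
  have hL0 : (Nat.card L : ℂ) ≠ 0 := by
    exact_mod_cast (Nat.card_pos (α := L)).ne'
  have h3 : (Fintype.card (MulAction.orbit L (ω.out : X)) : ℂ) *
      (Nat.card (MulAction.stabilizer L (ω.out : X)) : ℂ) = (Nat.card L : ℂ) := by
    rw [Nat.card_eq_fintype_card, Nat.card_eq_fintype_card]
    exact_mod_cast h2
  field_simp
  linear_combination (f ω.out : ℂ) * h3

open Classical in
/-- Complex-valued version: `F` invariant with integer values. -/
theorem orbit_sum_int' {L X : Type*} [Group L] [Fintype L] [Fintype X] [MulAction L X]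
    (F : X → ℂ) (hF : ∀ (y : L) (x : X), F (y • x) = F x) (hint : ∀ x, ∃ z : ℤ, F x = z) :
    ∃ z : ℤ, ∑ x : X, ((Nat.card (MulAction.stabilizer L x) : ℂ) / (Nat.card L : ℂ)) * F x
      = z := by
  choose f hf using hint
  have hinv : ∀ (y : L) (x : X), f (y • x) = f x := by
    intro y x
    have := hF y x
    rw [hf, hf] at this
    exact_mod_cast this
  obtain ⟨z, hz⟩ := orbit_sum_int f hinv
  refine ⟨z, ?_⟩
  rw [← hz]
  apply Finset.sum_congr rfl
  intro x _
  rw [hf]

end Cfsg.Agent.Lib.Helper25_OrbitSum
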