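import Mathlib
import Cfsg.Prelude.Def_OddOrderChar
import Cfsg.Agent.S1498
import Cfsg.Agent.S1515
import Cfsg.Agent.Lib.Helper25_Dade
import Cfsg.Agent.Lib.Helper25_DadeIso
import Cfsg.Agent.Lib.Helper25_AvgCoset
import Cfsg.Agent.Lib.Helper25_OrbitSum
import Cfsg.Agent.Lib.Helper57_HeightZero
import Cfsg.Agent.Lib.Helper57_FrobNorm
import Cfsg.Agent.Lib.Helper75_CharArith
import Cfsg.Agent.Lib.Helper3_CharBridge

/-!
# The Dade map sends generalized characters to generalized characters (helper25)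

Inclusion-exclusion over the nonempty subsets `B` of `A` (Peterfalvi (2.7)), in adjoint form:
for a class function `χ` of `G` and `a ∈ A`,
`avg_{u ∈ H a} χ (a u) = ∑_{B, a ∈ N_L(B)} (-1)^{|B|+1} avg_{h ∈ H_B} χ (h a)` with `H_B = ⋂_{b ∈ B} H b`.
-/

set_option autoImplicit false

namespace Cfsg.Agent.Lib.Helper25_DadeInt

open Cfsg
open scoped ComplexConjugate

variable {G : Type*} [Group G]

/-- `H_B`: the intersection of the `H b`, `b ∈ B`. -/
def HB (H : G → Subgroup G) (B : Finset G) : Subgroup G := ⨅ b ∈ B, H b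

theorem mem_HB (H : G → Subgroup G) (B : Finset G) (h : G) :
    h ∈ HB H B ↔ ∀ b ∈ B, h ∈ H b := by
  simp [HB, Subgroup.mem_iInf]

theorem HB_singleton (H : G → Subgroup G) (a : G) : HB H {a} = H a := by
  ext x; rw [mem_HB]; simp

theorem HB_le (H : G → Subgroup G) (B : Finset G) (b : G) (hb : b ∈ B) : HB H B ≤ H b :=
  fun h hh => (mem_HB H B h).mp hh b hb

open Classical in
/-- Conjugation of a finite subset. -/
noncomputable def cj (y : G) (B : Finset G) : Finset G := B.image (fun b => y * b * y⁻¹)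

open Classical in
theorem mem_cj (y : G) (B : Finset G) (x : G) : x ∈ cj y B ↔ y⁻¹ * x * y ∈ B := by
  unfold cj
  rw [Finset.mem_image]
  constructor
  · rintro ⟨b, hb, rfl⟩
    have : y⁻¹ * (y * b * y⁻¹) * y = b := by group
    rwa [this]
  · intro h
    exact ⟨_, h, by group⟩

theorem cj_one (B : Finset G) : cj (1 : G) B = B := by
  ext x; rw [mem_cj]; simp

theorem cj_mul (y z : G) (B : Finset G) : cj (y * z) B = cj y (cj z B) := by
  ext x
  rw [mem_cj, mem_cj, mem_cj]
  have : (y * z)⁻¹ * x * (y * z) = z⁻¹ * (y⁻¹ * x * y) * z := by group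
  rw [this]

open Classical in
theorem card_cj (y : G) (B : Finset G) : (cj y B).card = B.card := by
  unfold cj
  apply Finset.card_image_of_injective
  intro b b' h
  have h' : y * b * y⁻¹ = y * b' * y⁻¹ := h
  have := mul_right_cancel h'
  exact mul_left_cancel this

theorem cj_injective (y : G) (B B' : Finset G) (h : cj y B = cj y B') : B = B' := by
  have := congrArg (cj y⁻¹) h
  rwa [← cj_mul, ← cj_mul, inv_mul_cancel, cj_one, cj_one] at this

theorem cj_nonempty (y : G) (B : Finset G) (hB : B.Nonempty) : (cj y B).Nonempty := by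
  rw [← Finset.card_pos, card_cj]; exact Finset.card_pos.mpr hB

/-- The conjugation action of `L` on finite subsets of `G`. -/
noncomputable def cAct (L : Subgroup G) : MulAction ↥L (Finset G) where
  smul y B := cj (y : G) B
  one_smul B := cj_one B
  mul_smul y z B := cj_mul (y : G) (z : G) B

theorem mem_stab (L : Subgroup G) (y : ↥L) (B : Finset G) :
    y ∈ @MulAction.stabilizer ↥L (Finset G) _ (cAct L) B ↔ cj (y : G) B = B := Iff.rfl

section Dade

variable [Finite G] (A : Set G) (L : Subgroup G) (H : G → Subgroup G)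
  (hD : Cfsg.DadeHypothesis A L H)

include hD

theorem cj_subset (y : G) (hy : y ∈ L) (B : Finset G) (hB : (↑B : Set G) ⊆ A) :
    (↑(cj y B) : Set G) ⊆ A := by
  intro x hx
  rw [Finset.mem_coe, mem_cj] at hx
  have := hD.conj_mem y hy _ (hB hx)
  have e : y * (y⁻¹ * x * y) * y⁻¹ = x := by group
  rwa [e] at this

theorem HB_cj (y : G) (hy : y ∈ L) (B : Finset G) (hB : (↑B : Set G) ⊆ A) (h : G) :
    y * h * y⁻¹ ∈ HB H (cj y B) ↔ h ∈ HB H B := by
  rw [mem_HB, mem_HB]
  constructor
  · intro hh b hb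
    have hb' : y * b * y⁻¹ ∈ cj y B := by
      rw [mem_cj]
      have : y⁻¹ * (y * b * y⁻¹) * y = b := by group
      rwa [this]
    have := hh _ hb'
    rw [Cfsg.Agent.S1498.result A L H hD b (hB hb) y hy] at this
    obtain ⟨v, hv, hvh⟩ := this
    have : v = h := by
      have h1 : y * v * y⁻¹ = y * h * y⁻¹ := hvh
      exact mul_left_cancel (mul_right_cancel h1)
    rwa [← this]
  · intro hh b' hb'
    rw [mem_cj] at hb'
    have hbA := hB hb'
    have := hh _ hb'
    have e : b' = y * (y⁻¹ * b' * y) * y⁻¹ := by group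
    rw [e, Cfsg.Agent.S1498.result A L H hD _ hbA y hy]
    exact ⟨h, this, rfl⟩

theorem normalizes_HB (a : G) (ha : a ∈ L) (B : Finset G) (hB : (↑B : Set G) ⊆ A)
    (hfix : cj a B = B) : ∀ k ∈ HB H B, a * k * a⁻¹ ∈ HB H B := by
  intro k hk
  have := (HB_cj A L H hD a ha B hB k).mpr hk
  rwa [hfix] at this

theorem orderOf_dvd_card (a : G) (ha : a ∈ A) :
    orderOf a ∣ Nat.card ↥(L ⊓ Subgroup.centralizer ({a} : Set G)) := by
  have hmem : a ∈ L ⊓ Subgroup.centralizer ({a} : Set G) := by
    refine Subgroup.mem_inf.mpr ⟨hD.subset ha, ?_⟩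
    rw [Subgroup.mem_centralizer_iff]
    intro z hz
    have : z = a := hz
    rw [this]
  have := orderOf_dvd_natCard (⟨a, hmem⟩ : ↥(L ⊓ Subgroup.centralizer ({a} : Set G)))
  rwa [Subgroup.orderOf_mk] at this

theorem card_HB_coprime (B : Finset G) (hB : (↑B : Set G) ⊆ A) (hne : B.Nonempty) (a : G)
    (ha : a ∈ A) :
    (Nat.card (HB H B)).Coprime (Nat.card ↥(L ⊓ Subgroup.centralizer ({a} : Set G))) := by
  obtain ⟨b, hb⟩ := hne
  exact Nat.Coprime.coprime_dvd_left (Subgroup.card_dvd_of_le (HB_le H B b hb))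
    (hD.coprime b (hB hb) a ha)

theorem card_HB_coprime_orderOf (B : Finset G) (hB : (↑B : Set G) ⊆ A) (hne : B.Nonempty) (a : G)
    (ha : a ∈ A) : (Nat.card (HB H B)).Coprime (orderOf a) :=
  Nat.Coprime.coprime_dvd_right (orderOf_dvd_card A L H hD a ha)
    (card_HB_coprime A L H hD B hB hne a ha)

theorem mem_H_of_comm (B : Finset G) (hB : (↑B : Set G) ⊆ A) (hne : B.Nonempty) (a : G)
    (ha : a ∈ A) (c : G) (hc : c ∈ HB H B) (hca : c * a = a * c) : c ∈ H a := by
  have hnorm : Subgroup.centralizer ({a} : Set G) ≤ Subgroup.normalizer (H a : Set G) := by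
    intro c hc
    rw [Subgroup.mem_normalizer_iff]
    intro u
    constructor
    · intro hu; exact hD.conj_mem_H a ha c hc u hu
    · intro hu
      have := hD.conj_mem_H a ha c⁻¹ (inv_mem hc) _ hu
      have e : c⁻¹ * (c * u * c⁻¹) * c⁻¹⁻¹ = u := by group
      rwa [e] at this
  have hK : HB H B ⊓ Subgroup.centralizer ({a} : Set G) ≤ H a := by
    apply Cfsg.Agent.Lib.Helper25_Dade.le_of_coprime_complement
      (Subgroup.centralizer ({a} : Set G)) (H a) (L ⊓ Subgroup.centralizer ({a} : Set G))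
      (HB H B ⊓ Subgroup.centralizer ({a} : Set G)) (hD.le_centralizer a ha) inf_le_right
      inf_le_right hnorm (hD.inf_eq_bot a ha) (hD.sup_eq a ha)
    exact Nat.Coprime.coprime_dvd_left (Subgroup.card_dvd_of_le inf_le_left)
      (card_HB_coprime A L H hD B hB hne a ha)
  apply hK
  refine Subgroup.mem_inf.mpr ⟨hc, ?_⟩
  rw [Subgroup.mem_centralizer_iff]
  intro z hz
  have : z = a := hz
  rw [this, hca]

end Dade

section Avg

open Classical

variable [Fintype G] (A : Set G) (L : Subgroup G) (H : G → Subgroup G)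

/-- The average of `χ` over the coset `H_B a`. -/
noncomputable def avgB (χ : G → ℂ) (B : Finset G) (a : G) : ℂ :=
  (Nat.card (HB H B) : ℂ)⁻¹ * ∑ h : G, if h ∈ HB H B then χ (h * a) else 0

theorem sum_ite_mem_eq (K : Subgroup G) (f : G → ℂ) :
    (∑ h : G, if h ∈ K then f h else 0) = ∑ h : K, f (h : G) := by
  rw [← Finset.sum_filter]
  exact Finset.sum_subtype (Finset.univ.filter (· ∈ K)) (by simp) f

variable (hD : Cfsg.DadeHypothesis A L H)

include hD

theorem avgB_insert (χ : G → ℂ) (hχ : IsClassFunction G χ) (B : Finset G)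
    (hB : (↑B : Set G) ⊆ A) (hne : B.Nonempty) (a : G) (ha : a ∈ A) (hfix : cj a B = B) :
    avgB H χ (insert a B) a = avgB H χ B a := by
  unfold avgB
  rw [sum_ite_mem_eq, sum_ite_mem_eq]
  symm
  apply Cfsg.Agent.Lib.Helper25_AvgCoset.avg_coset (HB H B) (HB H (insert a B)) a
    (normalizes_HB A L H hD a (hD.subset ha) B hB hfix) _
    (card_HB_coprime_orderOf A L H hD B hB hne a ha) χ hχ
  intro c
  rw [mem_HB, mem_HB, Finset.forall_mem_insert]
  constructor
  · rintro ⟨h1, h2⟩
    refine ⟨h2, ?_⟩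
    have := hD.le_centralizer a ha h1
    rw [Subgroup.mem_centralizer_iff] at this
    exact (this a rfl).symm
  · rintro ⟨h1, h2⟩
    exact ⟨mem_H_of_comm A L H hD B hB hne a ha c ((mem_HB H B c).mpr h1) h2, h1⟩

theorem cj_erase_self (a : G) (B : Finset G) (hfix : cj a B = B) : cj a (B.erase a) = B.erase a := by
  ext x
  rw [mem_cj, Finset.mem_erase, Finset.mem_erase, ← mem_cj, hfix]
  have : a⁻¹ * x * a = a ↔ x = a := by
    constructor
    · intro h
      calc x = a * (a⁻¹ * x * a) * a⁻¹ := by group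
        _ = a := by rw [h]; group
    · intro h; rw [h]; group
  rw [ne_eq, ne_eq, this]

theorem cj_insert_self (a : G) (B : Finset G) (hfix : cj a B = B) :
    cj a (insert a B) = insert a B := by
  ext x
  rw [mem_cj, Finset.mem_insert, Finset.mem_insert, ← mem_cj, hfix]
  have : a⁻¹ * x * a = a ↔ x = a := by
    constructor
    · intro h
      calc x = a * (a⁻¹ * x * a) * a⁻¹ := by group
        _ = a := by rw [h]; group
    · intro h; rw [h]; group
  rw [this]

/-- The inclusion-exclusion identity. -/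
theorem key_identity (χ : G → ℂ) (hχ : IsClassFunction G χ) (a : G) (ha : a ∈ A) :
    avgB H χ {a} a = ∑ B : Finset G,
      if ((↑B : Set G) ⊆ A ∧ B.Nonempty ∧ cj a B = B) then
        (-1 : ℂ) ^ (B.card + 1) * avgB H χ B a else 0 := by
  rw [← Finset.sum_filter]
  set s := Finset.univ.filter (fun B : Finset G => (↑B : Set G) ⊆ A ∧ B.Nonempty ∧ cj a B = B)
    with hs
  have hmem : ∀ B, B ∈ s ↔ ((↑B : Set G) ⊆ A ∧ B.Nonempty ∧ cj a B = B) := by
    intro B; simp [hs]
  have hfixa : cj a ({a} : Finset G) = {a} := by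
    ext x
    rw [mem_cj, Finset.mem_singleton, Finset.mem_singleton]
    constructor
    · intro h
      calc x = a * (a⁻¹ * x * a) * a⁻¹ := by group
        _ = a := by rw [h]; group
    · intro h; rw [h]; group
  have ha_s : ({a} : Finset G) ∈ s := by
    rw [hmem]
    refine ⟨by simpa using ha, Finset.singleton_nonempty a, hfixa⟩
  rw [← Finset.add_sum_erase s _ ha_s]
  have hzero : ∑ B ∈ s.erase {a}, (-1 : ℂ) ^ (B.card + 1) * avgB H χ B a = 0 := by
    refine Finset.sum_involution (fun B _ => if a ∈ B then B.erase a else insert a B)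
      ?_ ?_ ?_ ?_
    · -- cancellation
      intro B hBs
      obtain ⟨hBne, hBs⟩ := Finset.mem_erase.mp hBs
      obtain ⟨hBA, hBn, hBfix⟩ := (hmem B).mp hBs
      by_cases haB : a ∈ B
      · rw [if_pos haB]
        have hB0A : (↑(B.erase a) : Set G) ⊆ A := fun x hx => hBA (Finset.mem_of_mem_erase hx)
        have hB0n : (B.erase a).Nonempty := by
          by_contra hcon
          rw [Finset.not_nonempty_iff_eq_empty] at hcon
          apply hBne
          rw [← Finset.insert_erase haB, hcon]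
          rfl
        have hB0fix := cj_erase_self A L H hD a B hBfix
        have h1 := avgB_insert A L H hD χ hχ (B.erase a) hB0A hB0n a ha hB0fix
        rw [Finset.insert_erase haB] at h1
        rw [h1]
        have hc : B.card = (B.erase a).card + 1 := (Finset.card_erase_add_one haB).symm
        rw [hc]
        ring
      · rw [if_neg haB]
        have h1 := avgB_insert A L H hD χ hχ B hBA hBn a ha hBfix
        rw [h1, Finset.card_insert_of_notMem haB]
        ring
    · intro B hBs _
      by_cases haB : a ∈ B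
      · rw [if_pos haB]
        intro h
        have : a ∈ B.erase a := by rw [h]; exact haB
        exact (Finset.notMem_erase a B) this
      · rw [if_neg haB]
        intro h
        apply haB
        rw [← h]; exact Finset.mem_insert_self a B
    · intro B hBs
      obtain ⟨hBne, hBs'⟩ := Finset.mem_erase.mp hBs
      obtain ⟨hBA, hBn, hBfix⟩ := (hmem B).mp hBs'
      by_cases haB : a ∈ B
      · rw [if_pos haB]
        refine Finset.mem_erase.mpr ⟨?_, (hmem _).mpr ⟨?_, ?_, cj_erase_self A L H hD a B hBfix⟩⟩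
        · intro h
          have : a ∈ B.erase a := by rw [h]; exact Finset.mem_singleton_self a
          exact (Finset.notMem_erase a B) this
        · exact fun x hx => hBA (Finset.mem_of_mem_erase hx)
        · by_contra hcon
          rw [Finset.not_nonempty_iff_eq_empty] at hcon
          apply hBne
          rw [← Finset.insert_erase haB, hcon]
          rfl
      · rw [if_neg haB]
        refine Finset.mem_erase.mpr ⟨?_, (hmem _).mpr ⟨?_, Finset.insert_nonempty a B,
          cj_insert_self A L H hD a B hBfix⟩⟩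
        · intro h
          obtain ⟨x, hx⟩ := hBn
          have : x ∈ ({a} : Finset G) := by rw [← h]; exact Finset.mem_insert_of_mem hx
          rw [Finset.mem_singleton] at this
          exact haB (this ▸ hx)
        · intro x hx
          rcases Finset.mem_insert.mp hx with rfl | hx
          · exact ha
          · exact hBA hx
    · intro B hBs
      by_cases haB : a ∈ B
      · simp only [if_pos haB, Finset.notMem_erase, if_false]
        exact Finset.insert_erase haB
      · simp only [if_neg haB, Finset.mem_insert_self, if_true]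
        exact Finset.erase_insert haB
  rw [hzero, add_zero, Finset.card_singleton]
  norm_num

end Avg

section Int

open Classical

theorem sum_ite_mem_eq' {T : Type*} [Group T] [Fintype T] (K : Subgroup T) (f : T → ℂ) :
    (∑ h : T, if h ∈ K then f h else 0) = ∑ h : K, f (h : T) := by
  rw [← Finset.sum_filter]
  exact Finset.sum_subtype (Finset.univ.filter (· ∈ K)) (by simp) f

variable [Fintype G] (A : Set G) (L : Subgroup G) [Fintype L] (H : G → Subgroup G)

/-- The stabilizer of `B` in `L` for the conjugation action. -/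
noncomputable def stab (B : Finset G) : Subgroup ↥L :=
  @MulAction.stabilizer ↥L (Finset G) _ (cAct L) B

theorem mem_stab' (y : ↥L) (B : Finset G) : y ∈ stab L B ↔ cj (y : G) B = B := Iff.rfl

/-- The local multiplicity attached to `B`. -/
noncomputable def mB (α : ↥L → ℂ) (χ : G → ℂ) (B : Finset G) : ℂ :=
  (Nat.card (stab L B) : ℂ)⁻¹ *
    ∑ l : ↥L, if l ∈ stab L B then α l * conj (avgB H χ B (l : G)) else 0

variable (hD : Cfsg.DadeHypothesis A L H)

include hD

theorem mB_int (α : ↥L → ℂ) (hα : IsGeneralizedCharacter ↥L α) (χ : G → ℂ) (hχ : IsCharacter G χ)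
    (B : Finset G) (hB : (↑B : Set G) ⊆ A) : ∃ z : ℤ, mB L H α χ B = z := by
  have hnorm : ∀ l : stab L B, ((l : ↥L) : G) ∈ Subgroup.normalizer ((HB H B : Subgroup G) : Set G) := by
    intro l
    rw [Subgroup.mem_normalizer_iff]
    intro h
    have := HB_cj A L H hD ((l : ↥L) : G) (l : ↥L).2 B hB h
    rw [(mem_stab' L (l : ↥L) B).mp l.2] at this
    exact this.symm
  let ι : stab L B →* Subgroup.normalizer ((HB H B : Subgroup G) : Set G) :=
    MonoidHom.codRestrict (L.subtype.comp (stab L B).subtype) _ hnorm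
  let φ : stab L B →* MulAut (HB H B) := (HB H B).normalizerMonoidHom.comp ι
  let f : (HB H B) ⋊[φ] (stab L B) →* G :=
    SemidirectProduct.lift (HB H B).subtype (L.subtype.comp (stab L B).subtype)
      (by intro g; ext n; rfl)
  let g : (HB H B) ⋊[φ] (stab L B) →* ↥L := (stab L B).subtype.comp SemidirectProduct.rightHom
  letI : Fintype ((HB H B) ⋊[φ] (stab L B)) :=
    Fintype.ofEquiv _ SemidirectProduct.equivProd.symm
  have hχS : IsCharacter _ (χ ∘ f) := Cfsg.Agent.Lib.Helper75_CharArith.isCharacter_comp f hχ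
  have hαS : IsGeneralizedCharacter _ (α ∘ g) := by
    obtain ⟨χ1, χ2, h1, h2, rfl⟩ := hα
    exact ⟨χ1 ∘ g, χ2 ∘ g, Cfsg.Agent.Lib.Helper75_CharArith.isCharacter_comp g h1,
      Cfsg.Agent.Lib.Helper75_CharArith.isCharacter_comp g h2, rfl⟩
  obtain ⟨z, hz⟩ := Cfsg.Agent.Lib.Helper57_FrobNorm.classInner_genChar_int hαS hχS
  refine ⟨z, ?_⟩
  rw [← hz]
  unfold classInner mB
  rw [SemidirectProduct.card]
  have hsum : ∑ s : (HB H B) ⋊[φ] (stab L B), (α ∘ g) s * conj ((χ ∘ f) s) =
      ∑ l : stab L B, ∑ n : HB H B, α (l : ↥L) * conj (χ ((n : G) * ((l : ↥L) : G))) := by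
    rw [← Fintype.sum_equiv SemidirectProduct.equivProd.symm
      (fun p : (HB H B) × (stab L B) => α (p.2 : ↥L) * conj (χ ((p.1 : G) * ((p.2 : ↥L) : G))))
      (fun s => (α ∘ g) s * conj ((χ ∘ f) s)) (fun p => rfl)]
    rw [Fintype.sum_prod_type_right]
  rw [hsum, sum_ite_mem_eq' (stab L B)]
  have havg : ∀ l : stab L B, conj (avgB H χ B ((l : ↥L) : G)) =
      (Nat.card (HB H B) : ℂ)⁻¹ * ∑ n : HB H B, conj (χ ((n : G) * ((l : ↥L) : G))) := by
    intro l
    unfold avgB
    rw [sum_ite_mem_eq, map_mul, map_inv₀, map_natCast, map_sum]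
  rw [Finset.sum_congr rfl (fun l _ => by rw [havg l])]
  push_cast
  rw [mul_inv, Finset.mul_sum, Finset.mul_sum]
  apply Finset.sum_congr rfl
  intro l _
  rw [Finset.mul_sum, Finset.mul_sum, Finset.mul_sum, Finset.mul_sum]
  apply Finset.sum_congr rfl
  intro n _
  ring

theorem HB_cj_eq_map (y : G) (hy : y ∈ L) (B : Finset G) (hB : (↑B : Set G) ⊆ A) :
    HB H (cj y B) = (HB H B).map (MulAut.conj y).toMonoidHom := by
  ext x
  rw [Subgroup.mem_map]
  constructor
  · intro hx
    refine ⟨y⁻¹ * x * y, ?_, ?_⟩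
    · rw [← HB_cj A L H hD y hy B hB]
      have e : y * (y⁻¹ * x * y) * y⁻¹ = x := by group
      rwa [e]
    · show y * (y⁻¹ * x * y) * y⁻¹ = x
      group
  · rintro ⟨h, hh, rfl⟩
    exact (HB_cj A L H hD y hy B hB h).mpr hh

theorem avgB_cj (χ : G → ℂ) (hχ : IsClassFunction G χ) (y : G) (hy : y ∈ L) (B : Finset G)
    (hB : (↑B : Set G) ⊆ A) (l : G) :
    avgB H χ (cj y B) (y * l * y⁻¹) = avgB H χ B l := by
  unfold avgB
  congr 1
  · rw [HB_cj_eq_map A L H hD y hy B hB]
    congr 2
    exact Subgroup.card_map_of_injective (MulAut.conj y).injective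
  · rw [← Equiv.sum_comp (MulAut.conj y).toEquiv]
    apply Finset.sum_congr rfl
    intro h _
    have e1 : ((MulAut.conj y).toEquiv h) = y * h * y⁻¹ := rfl
    rw [e1]
    have e2 : (y * h * y⁻¹ ∈ HB H (cj y B)) = (h ∈ HB H B) :=
      propext (HB_cj A L H hD y hy B hB h)
    have e3 : y * h * y⁻¹ * (y * l * y⁻¹) = y * (h * l) * y⁻¹ := by group
    simp only [e2, e3, hχ (h * l) y]

theorem mB_cj (α : ↥L → ℂ) (hα : IsClassFunction ↥L α) (χ : G → ℂ) (hχ : IsClassFunction G χ)
    (y : ↥L) (B : Finset G) (hB : (↑B : Set G) ⊆ A) :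
    mB L H α χ (cj (y : G) B) = mB L H α χ B := by
  unfold mB
  congr 1
  · congr 2
    have h1 : stab L (cj (y : G) B) = (stab L B).map (MulAut.conj y).toMonoidHom :=
      @MulAction.stabilizer_smul_eq_stabilizer_map_conj ↥L (Finset G) _ (cAct L) y B
    rw [h1]
    exact Subgroup.card_map_of_injective (MulAut.conj y).injective
  · rw [← Equiv.sum_comp (MulAut.conj y).toEquiv]
    apply Finset.sum_congr rfl
    intro l _
    have e1 : ((MulAut.conj y).toEquiv l) = y * l * y⁻¹ := rfl
    rw [e1]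
    have e2 : (y * l * y⁻¹ ∈ stab L (cj (y : G) B)) = (l ∈ stab L B) := by
      apply propext
      rw [mem_stab', mem_stab']
      have : ((y * l * y⁻¹ : ↥L) : G) = (y : G) * (l : G) * (y : G)⁻¹ := by simp
      rw [this, ← cj_mul]
      have e : (y : G) * (l : G) * (y : G)⁻¹ * (y : G) = (y : G) * (l : G) := by group
      rw [e, cj_mul]
      constructor
      · intro h; exact cj_injective (y : G) _ _ h
      · intro h; rw [h]
    have e3 : ((y * l * y⁻¹ : ↥L) : G) = (y : G) * (l : G) * (y : G)⁻¹ := by simp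
    simp only [e2, e3, avgB_cj A L H hD χ hχ (y : G) y.2 B hB (l : G), hα l y]

/-- The function `ψ` on `L` used in the reciprocity formula. -/
noncomputable def psi (χ : G → ℂ) (a : ↥L) : ℂ :=
  ∑ B : Finset G, if ((↑B : Set G) ⊆ A ∧ B.Nonempty ∧ cj (a : G) B = B) then
    (-1 : ℂ) ^ (B.card + 1) * avgB H χ B (a : G) else 0

theorem psi_spec (χ : G → ℂ) (hχ : IsClassFunction G χ) (a : ↥L) (ha : (a : G) ∈ A) :
    psi A L H χ a = (Nat.card (H (a : G)) : ℂ)⁻¹ *
      ∑ u : G, (Set.indicator (H (a : G) : Set G) (fun u => χ ((a : G) * u)) u) := by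
  unfold psi
  rw [← key_identity A L H hD χ hχ (a : G) ha]
  unfold avgB
  rw [HB_singleton]
  congr 1
  apply Finset.sum_congr rfl
  intro u _
  by_cases hu : u ∈ H (a : G)
  · rw [if_pos hu, Set.indicator_of_mem (show u ∈ (H (a : G) : Set G) from hu)]
    have := hD.le_centralizer (a : G) ha hu
    rw [Subgroup.mem_centralizer_iff] at this
    rw [this (a : G) rfl]
  · rw [if_neg hu, Set.indicator_of_notMem (show u ∉ (H (a : G) : Set G) from hu)]

/-- The orbit summand. -/
noncomputable def Fsum (α : ↥L → ℂ) (χ : G → ℂ) (B : Finset G) : ℂ :=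
  if ((↑B : Set G) ⊆ A ∧ B.Nonempty) then (-1 : ℂ) ^ (B.card + 1) * mB L H α χ B else 0

theorem inner_psi (α : ↥L → ℂ) (χ : G → ℂ) :
    classInner α (psi A L H χ) =
      ∑ B : Finset G, ((Nat.card (stab L B) : ℂ) / (Nat.card L : ℂ)) * Fsum A L H α χ B := by
  unfold classInner
  have h1 : ∀ a : ↥L, α a * conj (psi A L H χ a) =
      ∑ B : Finset G, if ((↑B : Set G) ⊆ A ∧ B.Nonempty) then
        (if a ∈ stab L B then (-1 : ℂ) ^ (B.card + 1) * (α a * conj (avgB H χ B (a : G))) else 0)
        else 0 := by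
    intro a
    unfold psi
    rw [map_sum, Finset.mul_sum]
    apply Finset.sum_congr rfl
    intro B _
    by_cases h1 : ((↑B : Set G) ⊆ A ∧ B.Nonempty)
    · rw [if_pos h1]
      by_cases h2 : a ∈ stab L B
      · rw [if_pos h2, if_pos ⟨h1.1, h1.2, (mem_stab' L a B).mp h2⟩]
        rw [map_mul, map_pow, map_neg, map_one]
        ring
      · rw [if_neg h2, if_neg (fun h => h2 ((mem_stab' L a B).mpr h.2.2))]
        simp
    · rw [if_neg h1, if_neg (fun h => h1 ⟨h.1, h.2.1⟩)]
      simp
  rw [Finset.sum_congr rfl (fun a _ => h1 a), Finset.sum_comm, Finset.mul_sum]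
  apply Finset.sum_congr rfl
  intro B _
  unfold Fsum
  by_cases h1 : ((↑B : Set G) ⊆ A ∧ B.Nonempty)
  · simp only [if_pos h1]
    unfold mB
    have hne : (Nat.card (stab L B) : ℂ) ≠ 0 := by
      exact_mod_cast (Nat.card_pos (α := stab L B)).ne'
    have h2 : ∑ a : ↥L, (if a ∈ stab L B then
        (-1 : ℂ) ^ (B.card + 1) * (α a * conj (avgB H χ B (a : G))) else 0) =
        (-1 : ℂ) ^ (B.card + 1) *
          ∑ a : ↥L, (if a ∈ stab L B then α a * conj (avgB H χ B (a : G)) else 0) := by
      rw [Finset.mul_sum]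
      apply Finset.sum_congr rfl
      intro a _
      split_ifs <;> simp
    rw [h2]
    field_simp
  · simp only [if_neg h1]
    simp

/-- **Dade**: the Dade map sends generalized characters vanishing off `A` to generalized
characters. -/
theorem dade_isGeneralizedCharacter (α : ↥L → ℂ) (hα : IsGeneralizedCharacter ↥L α)
    (hαA : ∀ x : ↥L, (x : G) ∉ A → α x = 0) :
    IsGeneralizedCharacter G (dadeIsometry A L H α) := by
  have hαcf : IsClassFunction ↥L α :=
    Cfsg.Agent.Lib.Helper57_FrobNorm.isClassFunction_of_isGeneralizedCharacter hα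
  apply Cfsg.Agent.Lib.Helper57_HeightZero.isGeneralizedCharacter_of_int
    (Cfsg.Agent.Lib.Helper25_DadeIso.isClassFunction_dade A L H hD α hαcf)
  intro ξ
  have hχ : IsCharacter G (ξ : G → ℂ) :=
    Cfsg.Agent.Lib.Helper3_CharBridge.isCharacter_of_isIrrCharacter ξ.2
  have hχcf : IsClassFunction G (ξ : G → ℂ) :=
    Cfsg.Agent.Lib.Helper3_CharBridge.isClassFunction_of_isCharacter hχ
  rw [Cfsg.Agent.Lib.Helper25_DadeIso.dade_inner A L H hD α hαcf hαA (ξ : G → ℂ)
    (psi A L H (ξ : G → ℂ)) hχcf (fun a ha => psi_spec A L H hD (ξ : G → ℂ) hχcf a ha)]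
  rw [inner_psi A L H hD]
  apply @Cfsg.Agent.Lib.Helper25_OrbitSum.orbit_sum_int' ↥L (Finset G) _ _ _ (cAct L)
    (Fsum A L H α (ξ : G → ℂ))
  · intro y B
    show Fsum A L H α (ξ : G → ℂ) (cj (y : G) B) = Fsum A L H α (ξ : G → ℂ) B
    unfold Fsum
    by_cases h1 : ((↑B : Set G) ⊆ A ∧ B.Nonempty)
    · have h1' : ((↑(cj (y : G) B) : Set G) ⊆ A ∧ (cj (y : G) B).Nonempty) :=
        ⟨cj_subset A L H hD (y : G) y.2 B h1.1, cj_nonempty (y : G) B h1.2⟩
      rw [if_pos h1, if_pos h1', card_cj, mB_cj A L H hD α hαcf (ξ : G → ℂ) hχcf y B h1.1]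
    · have h1' : ¬ ((↑(cj (y : G) B) : Set G) ⊆ A ∧ (cj (y : G) B).Nonempty) := by
        rintro ⟨h2, h3⟩
        apply h1
        have e : cj (y : G)⁻¹ (cj (y : G) B) = B := by
          rw [← cj_mul, inv_mul_cancel, cj_one]
        have := cj_subset A L H hD (y : G)⁻¹ (L.inv_mem y.2) _ h2
        rw [e] at this
        refine ⟨this, ?_⟩
        have := cj_nonempty (y : G)⁻¹ _ h3
        rwa [e] at this
      rw [if_neg h1, if_neg h1']
  · intro B
    unfold Fsum
    by_cases h1 : ((↑B : Set G) ⊆ A ∧ B.Nonempty)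
    · rw [if_pos h1]
      obtain ⟨z, hz⟩ := mB_int A L H hD α hα (ξ : G → ℂ) hχ B h1.1
      refine ⟨(-1) ^ (B.card + 1) * z, ?_⟩
      rw [hz]
      push_cast
      ring
    · rw [if_neg h1]
      exact ⟨0, by simp⟩

end Int

end Cfsg.Agent.Lib.Helper25_DadeInt
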