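import Cfsg.Agent.S1514
import Cfsg.Agent.Lib.Helper3_CharOrtho
import Cfsg.Agent.Lib.Helper17_CohSys
import Cfsg.Agent.Lib.Helper25_Coh3
import Cfsg.Agent.Lib.Helper75_Clifford

/-!
# Coherence of sets of irreducible characters of equal degree, for plain isometries (helper25)

`coherent_of_assignment`: if `τ (χ - a) = v χ - v a` for an orthonormal family `v` of virtual
characters, then `(S, τ)` is coherent (all degrees in `S` equal).
`coherent_of_equal_degree`: a set of at least two irreducible characters of the same degree, with a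
linear isometry `τ` on the integer combinations vanishing at `1` (values vanishing at `1`), is
coherent.  No coherence system (no hypothesis on complex conjugation) is needed.
-/

set_option autoImplicit false
open scoped ComplexConjugate

namespace Cfsg.Agent.Lib.Helper25_EqDeg

open Cfsg Cfsg.Agent.Lib.Helper3_CharOrtho Cfsg.Agent.Lib.Helper17_CohSys

variable {L : Type*} [Group L] [Fintype L] {G : Type*} [Group G] [Fintype G]

theorem coherent_of_assignment (S : Set (L → ℂ)) (hirr : ∀ χ ∈ S, IsIrrCharacter L χ)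
    (a : L → ℂ) (ha : a ∈ S) (hdeg : ∀ φ ∈ S, ∀ ψ ∈ S, φ 1 = ψ 1)
    (τ : (L → ℂ) → (G → ℂ)) (hτ : IsLinearIsometryOn (zspanOn S {1}ᶜ) τ)
    (v : (L → ℂ) → (G → ℂ)) (hv : ∀ χ ∈ S, IsGeneralizedCharacter G (v χ))
    (hvv : ∀ χ ∈ S, ∀ φ ∈ S, classInner (v χ) (v φ) = if χ = φ then 1 else 0)
    (hD : ∀ χ ∈ S, τ (χ - a) = v χ - v a) (hne : ∃ α ∈ zspanOn S {1}ᶜ, α ≠ 0) :
    IsCoherent S {1}ᶜ τ := by
  classical
  have horth : ∀ χ ∈ S, ∀ φ ∈ S, χ ≠ φ → classInner χ φ = 0 := by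
    intro χ hχ φ hφ hne'
    rw [classInner_irr (hirr χ hχ) (hirr φ hφ), if_neg hne']
  have hnz : ∀ χ ∈ S, classInner χ χ ≠ 0 := by
    intro χ hχ
    rw [classInner_irr (hirr χ hχ) (hirr χ hχ), if_pos rfl]
    exact one_ne_zero
  have hvv' : ∀ χ ∈ S, ∀ φ ∈ S, classInner (v χ) (v φ) = classInner χ φ := by
    intro χ hχ φ hφ
    rw [hvv χ hχ φ hφ, classInner_irr (hirr χ hχ) (hirr φ hφ)]
  obtain ⟨τ₁, hτ₁, hτ₁v⟩ := exists_isometry_of_assignment horth hnz v hv hvv'
  refine ⟨hne, τ₁, hτ₁, fun α hα => ?_⟩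
  have hfin : S.Finite := finite_of_orthogonal horth hnz
  set F : Finset (L → ℂ) := hfin.toFinset with hFdef
  have hF : ∀ χ, χ ∈ F ↔ χ ∈ S := fun χ => hfin.mem_toFinset
  have hexp := expansion horth hnz F hF hα.1
  have hint := coef_int horth hnz hα.1
  choose! n hn using hint
  have hexp' : α = ∑ χ ∈ F, n χ • χ := by
    rw [hexp]
    refine Finset.sum_congr rfl (fun χ hχ => ?_)
    rw [hn χ ((hF χ).1 hχ), Int.cast_smul_eq_zsmul]
  have ha1 : a 1 ≠ 0 := Cfsg.Agent.Lib.Helper75_Clifford.irr_one_ne_zero (hirr a ha)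
  have hα1 : α 1 = 0 := hα.2 1 (fun h => h rfl)
  have hsum0 : ∑ χ ∈ F, n χ = 0 := by
    have h1 : α 1 = ∑ χ ∈ F, (n χ : ℂ) * a 1 := by
      conv_lhs => rw [hexp']
      rw [Finset.sum_apply]
      refine Finset.sum_congr rfl (fun χ hχ => ?_)
      rw [Pi.smul_apply, hdeg χ ((hF χ).1 hχ) a ha, zsmul_eq_mul]
    rw [hα1, ← Finset.sum_mul] at h1
    have h2 : (∑ χ ∈ F, (n χ : ℂ)) = 0 := by
      rcases mul_eq_zero.mp h1.symm with h | h
      · exact h
      · exact absurd h ha1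
    exact_mod_cast h2
  have hexp'' : α = ∑ χ ∈ F, n χ • (χ - a) := by
    have h1 : ∑ χ ∈ F, n χ • (χ - a) = ∑ χ ∈ F, n χ • χ - (∑ χ ∈ F, n χ) • a := by
      rw [Finset.sum_smul, ← Finset.sum_sub_distrib]
      exact Finset.sum_congr rfl (fun χ _ => smul_sub _ _ _)
    rw [h1, hsum0, zero_smul, sub_zero]
    exact hexp'
  have hτ' : IsLinearIsometryOn ((zspanOnSub S ({1}ᶜ : Set L) : Submodule ℤ (L → ℂ)) :
      Set (L → ℂ)) τ := hτ
  have hτ₁' : IsLinearIsometryOn ((Submodule.span ℤ S : Submodule ℤ (L → ℂ)) : Set (L → ℂ)) τ₁ :=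
    hτ₁
  have e1 : τ α = ∑ χ ∈ F, n χ • v χ := by
    conv_lhs => rw [hexp'']
    rw [map_sum_of hτ' F n (fun χ => χ - a)
      (fun χ hχ => sub_mem_zspanOn ((hF χ).1 hχ) ha (hdeg χ ((hF χ).1 hχ) a ha))]
    have h1 : ∑ χ ∈ F, n χ • τ (χ - a) = ∑ χ ∈ F, n χ • v χ - (∑ χ ∈ F, n χ) • v a := by
      rw [Finset.sum_smul, ← Finset.sum_sub_distrib]
      refine Finset.sum_congr rfl (fun χ hχ => ?_)
      rw [hD χ ((hF χ).1 hχ), smul_sub]
    rw [h1, hsum0, zero_smul, sub_zero]
  have e2 : τ₁ α = ∑ χ ∈ F, n χ • v χ := by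
    conv_lhs => rw [hexp']
    rw [map_sum_of hτ₁' F n (fun χ => χ) (fun χ hχ => Submodule.subset_span ((hF χ).1 hχ))]
    exact Finset.sum_congr rfl (fun χ hχ => by rw [hτ₁v χ ((hF χ).1 hχ)])
  rw [e1, e2]

/-- A set of at least two irreducible characters of equal degree is coherent for every linear
isometry on the integer combinations vanishing at `1` with values vanishing at `1`. -/
theorem coherent_of_equal_degree (S : Set (L → ℂ)) (hirr : ∀ χ ∈ S, IsIrrCharacter L χ)
    (a b : L → ℂ) (ha : a ∈ S) (hb : b ∈ S) (hab : a ≠ b)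
    (hdeg : ∀ φ ∈ S, ∀ ψ ∈ S, φ 1 = ψ 1)
    (τ : (L → ℂ) → (G → ℂ)) (hτ : IsLinearIsometryOn (zspanOn S {1}ᶜ) τ)
    (hτ1 : ∀ α ∈ zspanOn S {1}ᶜ, τ α 1 = 0) : IsCoherent S {1}ᶜ τ := by
  classical
  have hmem : ∀ χ ∈ S, ∀ φ ∈ S, χ - φ ∈ zspanOn S ({1}ᶜ : Set L) :=
    fun χ hχ φ hφ => sub_mem_zspanOn hχ hφ (hdeg χ hχ φ hφ)
  have hτ' : IsLinearIsometryOn ((zspanOnSub S ({1}ᶜ : Set L) : Submodule ℤ (L → ℂ)) :
      Set (L → ℂ)) τ := hτ
  have hne : ∃ α ∈ zspanOn S ({1}ᶜ : Set L), α ≠ 0 :=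
    ⟨a - b, hmem a ha b hb, sub_ne_zero.mpr hab⟩
  have hip : ∀ i ∈ S, ∀ j ∈ S, ∀ k ∈ S, ∀ l ∈ S, classInner (τ (i - j)) (τ (k - l)) =
      (if i = k then 1 else 0) - (if i = l then 1 else 0) - (if j = k then 1 else 0) +
        (if j = l then 1 else 0) := by
    intro i hi j hj k hk l hl
    rw [hτ.2.2.1 _ (hmem i hi j hj) _ (hmem k hk l hl), classInner_sub_left,
      Cfsg.Agent.S1514.classInner_sub_right', Cfsg.Agent.S1514.classInner_sub_right',
      classInner_irr (hirr i hi) (hirr k hk), classInner_irr (hirr i hi) (hirr l hl),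
      classInner_irr (hirr j hj) (hirr k hk), classInner_irr (hirr j hj) (hirr l hl)]
    ring
  by_cases h3 : ∃ c ∈ S, c ≠ a ∧ c ≠ b
  · obtain ⟨c, hc, hca, hcb⟩ := h3
    obtain ⟨δ, μ, hδ, hμirr, hμinj, hμ⟩ := Cfsg.Agent.Lib.Helper25_Coh3.coherence S
      (fun i j => τ (i - j)) a b c ha hb hc hab (Ne.symm hca) (Ne.symm hcb)
      (fun i hi j hj => hτ.2.2.2 _ (hmem i hi j hj))
      (fun i hi j hj => hτ1 _ (hmem i hi j hj))
      (fun i hi j hj k hk => by
        show τ (i - j) + τ (j - k) = τ (i - k)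
        rw [← hτ.1 _ (hmem i hi j hj) _ (hmem j hj k hk), sub_add_sub_cancel])
      hip
    have hδδ : δ * conj δ = 1 := by
      rcases hδ with h | h <;> rw [h] <;> simp
    refine coherent_of_assignment S hirr a ha hdeg τ hτ (fun χ => δ • μ χ) ?_ ?_ ?_ hne
    · intro χ hχ
      rcases hδ with h | h
      · rw [h, one_smul]
        exact gen_of_char (Cfsg.Agent.Lib.Helper3_CharBridge.isCharacter_of_isIrrCharacter
          (hμirr χ hχ))
      · rw [h, neg_one_smul]
        exact gen_neg (gen_of_char (Cfsg.Agent.Lib.Helper3_CharBridge.isCharacter_of_isIrrCharacter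
          (hμirr χ hχ)))
    · intro χ hχ φ hφ
      rw [classInner_smul_left, classInner_smul_right, ← mul_assoc, hδδ, one_mul,
        classInner_irr (hμirr χ hχ) (hμirr φ hφ)]
      by_cases h : χ = φ
      · rw [if_pos h, if_pos (by rw [h])]
      · rw [if_neg h, if_neg (fun h' => h (hμinj hχ hφ h'))]
    · intro χ hχ
      show τ (χ - a) = δ • μ χ - δ • μ a
      rw [hμ χ hχ a ha, smul_sub]
  · push Not at h3
    have hS : ∀ c ∈ S, c = a ∨ c = b := by
      intro c hc
      by_cases h : c = a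
      · exact Or.inl h
      · exact Or.inr (h3 c hc h)
    have hnorm : classInner (τ (a - b)) (τ (a - b)) = 2 := by
      rw [hip a ha b hb a ha b hb, if_pos rfl, if_pos rfl, if_neg hab, if_neg (Ne.symm hab)]
      norm_num
    obtain ⟨x, y, hx, hy, hxy, heq⟩ := Cfsg.Agent.S1514.norm_two (τ (a - b))
      (hτ.2.2.2 _ (hmem a ha b hb)) hnorm (hτ1 _ (hmem a ha b hb))
    refine coherent_of_assignment S hirr a ha hdeg τ hτ (fun χ => if χ = a then x else y)
      ?_ ?_ ?_ hne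
    · intro χ _
      show IsGeneralizedCharacter G (if χ = a then x else y)
      split_ifs
      · exact gen_of_char (Cfsg.Agent.Lib.Helper3_CharBridge.isCharacter_of_isIrrCharacter hx)
      · exact gen_of_char (Cfsg.Agent.Lib.Helper3_CharBridge.isCharacter_of_isIrrCharacter hy)
    · intro χ hχ φ hφ
      show classInner (if χ = a then x else y) (if φ = a then x else y) = _
      rcases hS χ hχ with h | h <;> rcases hS φ hφ with h' | h'
      · rw [h, h', if_pos rfl, if_pos rfl, classInner_irr hx hx, if_pos rfl]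
      · rw [h, h', if_pos rfl, if_neg (Ne.symm hab), if_neg hab, classInner_irr hx hy,
          if_neg hxy]
      · rw [h, h', if_pos rfl, if_neg (Ne.symm hab), if_neg (Ne.symm hab), classInner_irr hy hx,
          if_neg (Ne.symm hxy)]
      · rw [h, h', if_neg (Ne.symm hab), if_pos rfl, classInner_irr hy hy, if_pos rfl]
    · intro χ hχ
      show τ (χ - a) = (if χ = a then x else y) - (if a = a then x else y)
      rw [if_pos rfl]
      rcases hS χ hχ with h | h
      · rw [h, if_pos rfl, sub_self, sub_self]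
        exact map_zero_of hτ'
      · rw [h, if_neg (Ne.symm hab)]
        have h1 : b - a = -(a - b) := by abel
        rw [h1, map_neg_of hτ' (hmem a ha b hb), heq]
        abel

end Cfsg.Agent.Lib.Helper25_EqDeg
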