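import Mathlib

/-!
# The Frobenius congruence in kernel form (helper25)

`index_dvd_card_sub_one`: `K ⊴ L` with `C_L(k) ≤ K` for `1 ≠ k ∈ K`, and `M ≤ K` normal in `L`;
then `|L : K|` divides `|M| - 1`.  `coprime_card_index`: `(|K|, |L : K|) = 1`.
-/

set_option autoImplicit false

namespace Cfsg.Agent.Lib.Helper25_FrobCount

variable {L : Type*} [Group L] [Finite L]

theorem index_dvd_card_sub_one (K M : Subgroup L) [hM : M.Normal] (hMK : M ≤ K)
    (hfrob : ∀ k ∈ K, k ≠ 1 → ∀ x : L, x * k = k * x → x ∈ K) :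
    K.index ∣ Nat.card M - 1 := by
  classical
  let X := {m : L // m ∈ (M : Set L) \ {1}}
  let act : MulAction L X :=
    { smul := fun x m => ⟨x * m.1 * x⁻¹, hM.conj_mem _ m.2.1 x, fun h => m.2.2 (by
        have h' : x * m.1 * x⁻¹ = 1 := h
        rw [conj_eq_one_iff] at h'
        exact h')⟩
      one_smul := fun m => Subtype.ext (by
        change 1 * m.1 * 1⁻¹ = m.1
        simp)
      mul_smul := fun x y m => Subtype.ext (by
        change (x * y) * m.1 * (x * y)⁻¹ = x * (y * m.1 * y⁻¹) * x⁻¹
        simp [mul_assoc]) }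
  have hsmul : ∀ (x : L) (m : X), ((x • m : X) : L) = x * m.1 * x⁻¹ := fun _ _ => rfl
  have hstab : ∀ m : X, MulAction.stabilizer L m ≤ K := by
    intro m x hx
    rw [MulAction.mem_stabilizer_iff] at hx
    have h1 : x * m.1 * x⁻¹ = m.1 := by rw [← hsmul, hx]
    apply hfrob m.1 (hMK m.2.1) m.2.2 x
    calc x * m.1 = (x * m.1 * x⁻¹) * x := by group
      _ = m.1 * x := by rw [h1]
  have hfinΩ : Fintype (Quotient (MulAction.orbitRel L X)) := Fintype.ofFinite _
  have hcard : K.index ∣ Nat.card X := by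
    rw [Nat.card_congr (MulAction.selfEquivSigmaOrbitsQuotientStabilizer L X), Nat.card_sigma]
    apply Finset.dvd_sum
    intro ω _
    have : Nat.card (L ⧸ MulAction.stabilizer L ω.out) = (MulAction.stabilizer L ω.out).index := rfl
    rw [this]
    exact Subgroup.index_dvd_of_le (hstab ω.out)
  have hX : Nat.card X = Nat.card M - 1 := by
    have h0 : Nat.card X = ((M : Set L) \ {1}).ncard := Nat.card_coe_set_eq _
    rw [h0, Set.ncard_sdiff_singleton_of_mem (M.one_mem), ← Nat.card_coe_set_eq]
    rfl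
  rw [← hX]
  exact hcard

/-- The order of a Frobenius kernel is prime to its index. -/
theorem coprime_card_index (K : Subgroup L) [hK : K.Normal]
    (hfrob : ∀ k ∈ K, k ≠ 1 → ∀ x : L, x * k = k * x → x ∈ K) :
    (Nat.card K).Coprime K.index := by
  have h := index_dvd_card_sub_one K K le_rfl hfrob
  have hpos : 0 < Nat.card K := Nat.card_pos
  obtain ⟨c, hc⟩ := h
  have h1 : Nat.card K = K.index * c + 1 := by omega
  rw [h1]
  have h2 : (K.index * c + 1).Coprime K.index := by
    rw [Nat.coprime_mul_left_add_left]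
    exact Nat.coprime_one_left _
  exact h2

end Cfsg.Agent.Lib.Helper25_FrobCount
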