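import Cfsg.Agent.Lib.Helper25_FrobTI
import Cfsg.Agent.Lib.Helper25_FrobSet
import Cfsg.Agent.Lib.Helper25_FrobCount
import Cfsg.Agent.Lib.Helper17_ExcApply
import Cfsg.Agent.Lib.Helper77_BlockBasics
import Cfsg.Agent.Lib.Helper80_CharBasic

/-!
# The exceptional Frobenius-type groups `|K| = |L : K| + 1` (helper25)

`K ⊴ L` nilpotent with `C_L(k) ≤ K` for `1 ≠ k ∈ K` and `|K| = |L : K| + 1`.  Then `K` is
commutative of prime exponent and `L` has exactly one irreducible character not trivial on `K`.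
-/

set_option autoImplicit false
open scoped ComplexConjugate

namespace Cfsg.Agent.Lib.Helper25_FrobExc

open Cfsg.Agent.Lib.Helper25_FrobTI Cfsg.Agent.Lib.Helper25_FrobSet
  Cfsg.Agent.Lib.Helper25_FrobCount

variable {L : Type*} [Group L] [Fintype L] (K : Subgroup L) [hK : K.Normal]

omit hK in
/-- With `|K| = |L : K| + 1`, the kernel has no proper nontrivial `L`-invariant subgroup. -/
theorem eq_of_normal_of_card (hfrob : ∀ k ∈ K, k ≠ 1 → ∀ x : L, x * k = k * x → x ∈ K)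
    (hcard : Nat.card K = K.index + 1) (M : Subgroup L) (hM : M.Normal) (hMK : M ≤ K)
    (hM1 : M ≠ ⊥) : M = K := by
  have h1 := index_dvd_card_sub_one K M hMK hfrob
  have h2 : 1 < Nat.card M := by
    rw [Nat.one_lt_iff_ne_zero_and_ne_one]
    exact ⟨Nat.card_pos.ne', fun h => hM1 (Subgroup.card_eq_one.mp h)⟩
  have h3 : K.index ≤ Nat.card M - 1 := Nat.le_of_dvd (by omega) h1
  exact Subgroup.eq_of_le_of_card_ge hMK (by omega)

theorem comm_of_card (hfrob : ∀ k ∈ K, k ≠ 1 → ∀ x : L, x * k = k * x → x ∈ K)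
    (hnil : Group.IsNilpotent K) (hK1 : K ≠ ⊥) (hcard : Nat.card K = K.index + 1) :
    ∀ a ∈ K, ∀ b ∈ K, a * b = b * a := by
  let Zc : Subgroup L :=
    { carrier := {x | x ∈ K ∧ ∀ k ∈ K, x * k = k * x}
      mul_mem' := by
        rintro a b ⟨ha, ha'⟩ ⟨hb, hb'⟩
        refine ⟨K.mul_mem ha hb, fun k hk => ?_⟩
        rw [mul_assoc, hb' k hk, ← mul_assoc, ha' k hk, mul_assoc]
      one_mem' := ⟨K.one_mem, fun k _ => by rw [one_mul, mul_one]⟩
      inv_mem' := by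
        rintro a ⟨ha, ha'⟩
        refine ⟨K.inv_mem ha, fun k hk => ?_⟩
        have := ha' k hk
        calc a⁻¹ * k = a⁻¹ * (k * a) * a⁻¹ := by group
          _ = a⁻¹ * (a * k) * a⁻¹ := by rw [this]
          _ = k * a⁻¹ := by group }
  have hZn : Zc.Normal := by
    refine ⟨fun x hx g => ?_⟩
    obtain ⟨hxK, hx'⟩ := hx
    refine ⟨hK.conj_mem x hxK g, fun k hk => ?_⟩
    have hk' : g⁻¹ * k * g ∈ K := by
      have := hK.conj_mem k hk g⁻¹
      rwa [inv_inv] at this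
    have := hx' _ hk'
    calc g * x * g⁻¹ * k = g * (x * (g⁻¹ * k * g)) * g⁻¹ := by group
      _ = g * ((g⁻¹ * k * g) * x) * g⁻¹ := by rw [this]
      _ = k * (g * x * g⁻¹) := by group
  have hZK : Zc ≤ K := fun x hx => hx.1
  have hZ1 : Zc ≠ ⊥ := by
    have : Nontrivial K := (Subgroup.nontrivial_iff_ne_bot K).mpr hK1
    have := hnil
    have hc := Group.IsNilpotent.center_ne_bot K
    obtain ⟨z, hz1⟩ := (Subgroup.ne_bot_iff_exists_ne_one).mp hc
    intro h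
    apply hz1
    have hmem : ((z : K) : L) ∈ Zc := by
      refine ⟨(z : K).2, fun k hk => ?_⟩
      have := Subgroup.mem_center_iff.mp z.2 ⟨k, hk⟩
      exact (congrArg Subtype.val this).symm
    rw [h, Subgroup.mem_bot] at hmem
    apply Subtype.ext
    apply Subtype.ext
    exact hmem
  have hZeq := eq_of_normal_of_card K hfrob hcard Zc hZn hZK hZ1
  intro a ha b hb
  rw [← hZeq] at ha
  exact ha.2 b hb

theorem exponent_of_card (hfrob : ∀ k ∈ K, k ≠ 1 → ∀ x : L, x * k = k * x → x ∈ K)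
    (hnil : Group.IsNilpotent K) (hK1 : K ≠ ⊥) (hcard : Nat.card K = K.index + 1) :
    ∃ p : ℕ, p.Prime ∧ ∀ a ∈ K, a ^ p = 1 := by
  have hcomm := comm_of_card K hfrob hnil hK1 hcard
  have hne1 : Nat.card K ≠ 1 := fun h => hK1 (Subgroup.card_eq_one.mp h)
  obtain ⟨p, hp, hpdvd⟩ := Nat.exists_prime_and_dvd hne1
  have : Fact p.Prime := ⟨hp⟩
  refine ⟨p, hp, ?_⟩
  let Ω : Subgroup L :=
    { carrier := {x | x ∈ K ∧ x ^ p = 1}
      mul_mem' := by
        rintro a b ⟨ha, ha'⟩ ⟨hb, hb'⟩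
        refine ⟨K.mul_mem ha hb, ?_⟩
        have hc : Commute a b := hcomm a ha b hb
        rw [hc.mul_pow, ha', hb', one_mul]
      one_mem' := ⟨K.one_mem, one_pow p⟩
      inv_mem' := by
        rintro a ⟨ha, ha'⟩
        exact ⟨K.inv_mem ha, by rw [inv_pow, ha', inv_one]⟩ }
  have hΩn : Ω.Normal := by
    refine ⟨fun a ha x => ?_⟩
    obtain ⟨ha, ha'⟩ := ha
    refine ⟨hK.conj_mem a ha x, ?_⟩
    rw [conj_pow, ha', mul_one, mul_inv_cancel]
  have hΩK : Ω ≤ K := fun x hx => hx.1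
  have hΩ1 : Ω ≠ ⊥ := by
    obtain ⟨k, hk⟩ := exists_prime_orderOf_dvd_card' (G := K) p hpdvd
    intro h
    have hkΩ : (k : L) ∈ Ω := by
      refine ⟨k.2, ?_⟩
      have := pow_orderOf_eq_one k
      rw [hk] at this
      exact_mod_cast congrArg Subtype.val this
    rw [h, Subgroup.mem_bot] at hkΩ
    have hk1 : k = 1 := Subtype.ext hkΩ
    rw [hk1, orderOf_one] at hk
    exact hp.one_lt.ne hk
  have hΩeq := eq_of_normal_of_card K hfrob hcard Ω hΩn hΩK hΩ1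
  intro a ha
  rw [← hΩeq] at ha
  exact ha.2

/-- Only one irreducible character is not trivial on the kernel. -/
theorem subsingleton_of_card (hfrob : ∀ k ∈ K, k ≠ 1 → ∀ x : L, x * k = k * x → x ∈ K)
    (hnil : Group.IsNilpotent K) (hK1 : K ≠ ⊥) (hcard : Nat.card K = K.index + 1) :
    ∀ χ ∈ Cfsg.inducedIrrAbove K ⊥, ∀ χ' ∈ Cfsg.inducedIrrAbove K ⊥, χ = χ' := by
  classical
  have hcomm := comm_of_card K hfrob hnil hK1 hcard
  have hcop := coprime_card_index K hfrob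
  intro χ hχ χ' hχ'
  by_contra hne
  have hirr : ∀ ψ ∈ Cfsg.inducedIrrAbove K ⊥, Cfsg.IsIrrCharacter L ψ := by
    rintro ψ ⟨θ, hθ, hne', -, rfl⟩
    exact isIrrCharacter_indFun K hfrob hcop hθ hne'
  have hdeg : ∀ ψ (hψ : ψ ∈ Cfsg.inducedIrrAbove K ⊥),
      Cfsg.Agent.Lib.Helper17_ExcApply.deg ⟨ψ, hirr ψ hψ⟩ = K.index := by
    intro ψ hψ
    have h1 := Cfsg.Agent.Lib.Helper77_BlockBasics.apply_one_eq_charDegree
      (⟨ψ, hirr ψ hψ⟩ : Cfsg.IrrCharacter L)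
    have h2 : ψ 1 = (K.index : ℂ) := apply_one_of_comm K hcomm hψ
    have h3 : ((Cfsg.charDegree ψ : ℕ) : ℂ) = (K.index : ℂ) := by rw [← h2]; exact h1.symm
    exact_mod_cast h3
  have hidx : 0 < K.index := Nat.pos_of_ne_zero Subgroup.index_ne_zero_of_finite
  have hne1 : ∀ ψ (hψ : ψ ∈ Cfsg.inducedIrrAbove K ⊥),
      (⟨ψ, hirr ψ hψ⟩ : Cfsg.IrrCharacter L) ≠ Cfsg.Agent.Lib.Helper80_CharBasic.oneIrr L := by
    intro ψ hψ h
    have h1 : ψ = fun _ => 1 := congrArg Subtype.val h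
    have hmem : ψ ∈ {χ : L → ℂ | Cfsg.IsIrrCharacter L χ ∧ ∃ x ∈ K, χ x ≠ χ 1} := by
      rw [setOf_irr_eq K hfrob hcop]; exact hψ
    obtain ⟨-, x, -, hx⟩ := hmem
    apply hx
    rw [h1]
  have hle := Cfsg.Agent.Lib.Helper17_ExcApply.one_add_sq_add_sq_le
    (⟨χ, hirr χ hχ⟩ : Cfsg.IrrCharacter L) ⟨χ', hirr χ' hχ'⟩ (hne1 χ hχ) (hne1 χ' hχ')
    (fun h => hne (congrArg Subtype.val h))
  rw [hdeg χ hχ, hdeg χ' hχ', ← Subgroup.card_mul_index K, hcard] at hle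
  nlinarith

end Cfsg.Agent.Lib.Helper25_FrobExc
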