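import Mathlib
import Cfsg.Agent.Lib.Helper34_G2InvDefs
import Cfsg.Agent.Lib.Helper34_G2InvBasic

/-!
# S2177 market, package GSYL (helper25 for helper34)

Every involution of `G` is conjugate into `U`.
-/

set_option autoImplicit false

namespace Cfsg.Agent.Lib.Helper25_G2I_GSYL

open Cfsg Cfsg.Lie Cfsg.Agent.Lib.Helper34_G2InvDefs Cfsg.Agent.Lib.Helper34_G2InvBasic

/-- In a finite group, an element of order `p` is conjugate into any given Sylow `p`-subgroup. -/
lemma conj_into_sylow {G : Type*} [Group G] [Finite G] (p : ℕ) [Fact p.Prime] (P : Sylow p G)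
    (g : G) (ho : orderOf g = p) : ∃ y : G, y * g * y⁻¹ ∈ (P : Subgroup G) := by
  have hpg : IsPGroup p (Subgroup.zpowers g) := by
    apply IsPGroup.of_card (n := 1)
    rw [Nat.card_zpowers, ho, pow_one]
  obtain ⟨Q, hQ⟩ := hpg.exists_le_sylow
  obtain ⟨y, hy⟩ := MulAction.exists_smul_eq G Q P
  refine ⟨y, ?_⟩
  have hgQ : g ∈ (Q : Subgroup G) := hQ (Subgroup.mem_zpowers g)
  have : y * g * y⁻¹ ∈ ((y • Q : Sylow p G) : Subgroup G) := by
    rw [Sylow.coe_subgroup_smul]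
    exact ⟨g, hgQ, rfl⟩
  rwa [hy] at this

variable {F : Type*} [Field F]

/-- GSYL (M).  Every involution of `G` is conjugate into `U`. -/
theorem GSYL [Fintype F]
    (hsyl : ∃ P : Sylow 2 ↥(chevG2.group F),
      (P : Subgroup ↥(chevG2.group F)) = (chevG2.posUnipotent F).subgroupOf (chevG2.group F))
    (g : GL chevG2.Idx F) (hg : g ∈ chevG2.group F) (ho : orderOf g = 2) :
    ∃ u ∈ chevG2.posUnipotent F, ConjIn (chevG2.group F) g u := by
  classical
  obtain ⟨P, hP⟩ := hsyl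
  have : Fact (Nat.Prime 2) := ⟨Nat.prime_two⟩
  have ho' : orderOf (⟨g, hg⟩ : ↥(chevG2.group F)) = 2 := by
    rw [← ho]
    exact (Subgroup.orderOf_mk g hg)
  obtain ⟨y, hy⟩ := conj_into_sylow 2 P ⟨g, hg⟩ ho'
  rw [hP, Subgroup.mem_subgroupOf] at hy
  refine ⟨(y : GL chevG2.Idx F) * g * (y : GL chevG2.Idx F)⁻¹, ?_, (y : GL chevG2.Idx F), y.2, rfl⟩
  simpa using hy

end Cfsg.Agent.Lib.Helper25_G2I_GSYL
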