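import Mathlib
import Cfsg.Agent.Lib.Helper57_LatDefs

set_option autoImplicit false

namespace Cfsg.Agent.Lib.Helper25_GenD

open Cfsg.Agent.Lib.Helper57_LatDefs

section abstract

variable {R : Type*} [CommRing R] {P : Type*} [AddCommGroup P] [Module R P]

theorem nuE_apply (p : ℕ) (x : Module.End R P) (f : P) :
    nuE p x f = ∑ i ∈ Finset.range p, (x ^ i) f := by
  simp [nuE, LinearMap.sum_apply]

theorem nuE_mul_sub_one (p : ℕ) (x : Module.End R P) (hp : x ^ p = 1) : nuE p x * (x - 1) = 0 := by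
  rw [nuE, geom_sum_mul, hp, sub_self]

theorem sub_one_mul_nuE (p : ℕ) (x : Module.End R P) (hp : x ^ p = 1) : (x - 1) * nuE p x = 0 := by
  rw [nuE, mul_geom_sum, hp, sub_self]

theorem mul_nuE (p : ℕ) (x : Module.End R P) (hp : x ^ p = 1) : x * nuE p x = nuE p x := by
  have := sub_one_mul_nuE p x hp
  rw [sub_mul, one_mul, sub_eq_zero] at this
  exact this

theorem nuE_sub_apply (p : ℕ) (x : Module.End R P) (hp : x ^ p = 1) (q : P) :
    nuE p x (x q - q) = 0 := by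
  have := congrArg (fun T : Module.End R P => T q) (nuE_mul_sub_one p x hp)
  simpa using this

theorem apply_nuE_apply (p : ℕ) (x : Module.End R P) (hp : x ^ p = 1) (q : P) :
    x (nuE p x q) = nuE p x q := by
  have := congrArg (fun T : Module.End R P => T q) (mul_nuE p x hp)
  simpa using this

/-- the norm of the inverse is the norm -/
theorem nuE_inv (p : ℕ) (x y : Module.End R P) (hxy : x * y = 1) (hyx : y * x = 1)
    (hp : x ^ p = 1) : nuE p y = nuE p x := by
  have hc : Commute x y := by rw [Commute, SemiconjBy, hxy, hyx]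
  have h1 : ∀ j, j ≤ p → y ^ j = x ^ (p - j) := by
    intro j hj
    have h2 : x ^ j * y ^ j = 1 := by rw [← hc.mul_pow, hxy, one_pow]
    calc y ^ j = x ^ p * y ^ j := by rw [hp, one_mul]
      _ = x ^ (p - j) * (x ^ j * y ^ j) := by
        rw [← mul_assoc, ← pow_add, Nat.sub_add_cancel hj]
      _ = x ^ (p - j) := by rw [h2, mul_one]
  calc nuE p y = ∑ j ∈ Finset.range p, x ^ (p - j) := by
        unfold nuE
        exact Finset.sum_congr rfl (fun j hj => h1 j (Finset.mem_range.mp hj).le)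
    _ = ∑ j ∈ Finset.range p, x ^ ((p - 1 - j) + 1) := by
        apply Finset.sum_congr rfl
        intro j hj
        have := Finset.mem_range.mp hj
        congr 1
        omega
    _ = ∑ j ∈ Finset.range p, x ^ (j + 1) := Finset.sum_range_reflect (fun j => x ^ (j + 1)) p
    _ = x * nuE p x := by
        unfold nuE
        rw [Finset.mul_sum]
        exact Finset.sum_congr rfl (fun j _ => pow_succ' x j)
    _ = nuE p x := mul_nuE p x hp

variable (p : ℕ) (x y π₀ : Module.End R P) (hxy : x * y = 1) (hyx : y * x = 1) (hp : x ^ p = 1)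
  (hI : ∑ j ∈ Finset.range p, y ^ j * π₀ * x ^ j = 1)

include hxy hI in
/-- `ker ν = range (x - 1)` on an induced module -/
theorem exists_of_nuE_eq_zero (f : P) (hf : nuE p x f = 0) : ∃ g, f = x g - g := by
  set T : Module.End R P := ∑ j ∈ Finset.range p, (∑ t ∈ Finset.range j, y ^ t) * π₀ * x ^ j with hT
  have h1 : (x - 1) * (-y) = y - 1 := by
    rw [mul_neg, sub_mul, hxy, one_mul]; abel
  have h2 : (y - 1) * T = 1 - π₀ * nuE p x := by
    rw [hT, Finset.mul_sum]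
    have : ∀ j ∈ Finset.range p, (y - 1) * ((∑ t ∈ Finset.range j, y ^ t) * π₀ * x ^ j) =
        y ^ j * π₀ * x ^ j - π₀ * x ^ j := by
      intro j _
      rw [← mul_assoc, ← mul_assoc, mul_geom_sum, sub_mul, sub_mul, one_mul]
    rw [Finset.sum_congr rfl this, Finset.sum_sub_distrib, hI, nuE, Finset.mul_sum]
  refine ⟨(-y) (T f), ?_⟩
  have h3 := congrArg (fun A : Module.End R P => A f) h2
  simp only [LinearMap.sub_apply, Module.End.mul_apply, Module.End.one_apply, hf, map_zero,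
    sub_zero] at h3
  have h4 := congrArg (fun A : Module.End R P => A (T f)) h1
  simp only [LinearMap.sub_apply, Module.End.mul_apply, Module.End.one_apply] at h4
  exact (h4.trans h3).symm

include hxy hyx hp hI in
/-- `ker (x - 1) = range ν` on an induced module -/
theorem exists_of_fixed (f : P) (hf : x f = f) : ∃ g, f = nuE p x g := by
  have h1 : ∀ j : ℕ, (x ^ j) f = f := by
    intro j
    induction j with
    | zero => simp
    | succ j ih => rw [pow_succ, Module.End.mul_apply, hf, ih]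
  refine ⟨π₀ f, ?_⟩
  rw [← nuE_inv p x y hxy hyx hp]
  have h3 := congrArg (fun A : Module.End R P => A f) hI
  simp only [LinearMap.sum_apply, Module.End.mul_apply, Module.End.one_apply, h1] at h3
  rw [nuE_apply]
  exact h3.symm

variable {X : Type*} [AddCommGroup X] [Module R X] (xX : Module.End R X) (S : P →ₗ[R] X)
  (hS : Function.Surjective S) (hSx : ∀ f, S (x f) = xX (S f))

include hSx in
theorem S_pow (i : ℕ) (f : P) : S ((x ^ i) f) = (xX ^ i) (S f) := by
  induction i generalizing f with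
  | zero => simp
  | succ i ih => rw [pow_succ, pow_succ, Module.End.mul_apply, Module.End.mul_apply, ih, hSx]

include hSx in
theorem S_nuE (f : P) : S (nuE p x f) = nuE p xX (S f) := by
  rw [nuE_apply, nuE_apply, map_sum]
  exact Finset.sum_congr rfl (fun i _ => S_pow x xX S hSx i f)

include hxy hI hp hS hSx in
/-- (1): `H⁰(X) = 0` gives `H⁻¹(Y) = 0` for `Y = ker S` -/
theorem shift_Hm1 (hH0 : ∀ l, xX l = l → ∃ m, l = nuE p xX m) (f : P) (hfY : S f = 0)
    (hf : nuE p x f = 0) : ∃ m, S m = 0 ∧ f = x m - m := by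
  obtain ⟨q, hq⟩ := exists_of_nuE_eq_zero p x y π₀ hxy hI f hf
  have hl : xX (S q) = S q := by
    have : S f = xX (S q) - S q := by rw [hq, map_sub, hSx]
    rw [hfY] at this
    exact (sub_eq_zero.mp this.symm)
  obtain ⟨m', hm'⟩ := hH0 _ hl
  obtain ⟨q', rfl⟩ := hS m'
  refine ⟨q - nuE p x q', ?_, ?_⟩
  · rw [map_sub, S_nuE p x xX S hSx, ← hm', sub_self]
  · rw [map_sub, apply_nuE_apply p x hp]
    rw [hq]; abel

include hxy hI hp hS hSx in
/-- (3): `H⁰(Y) = 0` gives `H⁻¹(X) = 0` -/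
theorem shift_H0 (hY0 : ∀ f, S f = 0 → x f = f → ∃ m, S m = 0 ∧ f = nuE p x m) (l : X)
    (hl : nuE p xX l = 0) : ∃ m, l = xX m - m := by
  obtain ⟨q, rfl⟩ := hS l
  obtain ⟨m, hm0, hm⟩ := hY0 (nuE p x q) (by rw [S_nuE p x xX S hSx, hl])
    (apply_nuE_apply p x hp q)
  have h1 : nuE p x (q - m) = 0 := by rw [map_sub, ← hm, sub_self]
  obtain ⟨r, hr⟩ := exists_of_nuE_eq_zero p x y π₀ hxy hI (q - m) h1
  refine ⟨S r, ?_⟩
  rw [← hSx, ← map_sub, ← hr, map_sub, hm0, sub_zero]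

include hxy hyx hI hp hS hSx in
/-- (4): transport of the simplicity of `H⁻¹(X)` to `H⁰(Y)` -/
theorem shift_simple {ι : Type*} (kP : ι → Module.End R P) (kX : ι → Module.End R X)
    (hk : ∀ i f, S (kP i f) = kX i (S f)) (hkν : ∀ i f, nuE p x (kP i f) = kP i (nuE p x f))
    (hsimp : ∀ W : Submodule R X, (∀ w ∈ W, nuE p xX w = 0) → (∀ m, xX m - m ∈ W) →
      (∀ i, ∀ w ∈ W, kX i w ∈ W) →
      (∀ w ∈ W, ∃ m, w = xX m - m) ∨ (∀ l, nuE p xX l = 0 → l ∈ W))
    (W' : Submodule R P) (hW'Y : ∀ w ∈ W', S w = 0) (hW'fix : ∀ w ∈ W', x w = w)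
    (hW'nu : ∀ m, S m = 0 → nuE p x m ∈ W') (hW'K : ∀ i, ∀ w ∈ W', kP i w ∈ W') :
    (∀ w ∈ W', ∃ m, S m = 0 ∧ w = nuE p x m) ∨ (∀ f, S f = 0 → x f = f → f ∈ W') := by
  set W : Submodule R X := Submodule.map S (Submodule.comap (nuE p x) W') with hW
  have memW : ∀ w, w ∈ W ↔ ∃ q, nuE p x q ∈ W' ∧ S q = w := by
    intro w
    rw [hW, Submodule.mem_map]
    simp only [Submodule.mem_comap]
  have hW1 : ∀ w ∈ W, nuE p xX w = 0 := by
    intro w hw
    obtain ⟨q, hq, rfl⟩ := (memW _).mp hw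
    rw [← S_nuE p x xX S hSx]
    exact hW'Y _ hq
  have hW2 : ∀ m, xX m - m ∈ W := by
    intro m
    obtain ⟨q', rfl⟩ := hS m
    refine (memW _).mpr ⟨x q' - q', ?_, ?_⟩
    · rw [nuE_sub_apply p x hp]; exact W'.zero_mem
    · rw [map_sub, hSx]
  have hW3 : ∀ i, ∀ w ∈ W, kX i w ∈ W := by
    intro i w hw
    obtain ⟨q, hq, rfl⟩ := (memW _).mp hw
    refine (memW _).mpr ⟨kP i q, ?_, hk i q⟩
    rw [hkν]
    exact hW'K i _ hq
  rcases hsimp W hW1 hW2 hW3 with hA | hB
  · left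
    intro w' hw'
    obtain ⟨q, hq⟩ := exists_of_fixed p x y π₀ hxy hyx hp hI w' (hW'fix w' hw')
    have hSq : S q ∈ W := (memW _).mpr ⟨q, hq ▸ hw', rfl⟩
    obtain ⟨m, hm⟩ := hA _ hSq
    obtain ⟨q', rfl⟩ := hS m
    refine ⟨q - (x q' - q'), ?_, ?_⟩
    · rw [map_sub, map_sub, hSx, hm, sub_self]
    · rw [map_sub, nuE_sub_apply p x hp, sub_zero, hq]
  · right
    intro f hf0 hfx
    obtain ⟨q, hq⟩ := exists_of_fixed p x y π₀ hxy hyx hp hI f hfx
    have hl : nuE p xX (S q) = 0 := by rw [← S_nuE p x xX S hSx, ← hq, hf0]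
    obtain ⟨q₂, hq₂, hSq₂⟩ := (memW _).mp (hB _ hl)
    have h1 : nuE p x (q - q₂) ∈ W' := hW'nu _ (by rw [map_sub, hSq₂, sub_self])
    have : f = nuE p x (q - q₂) + nuE p x q₂ := by rw [map_sub, hq]; abel
    rw [this]
    exact W'.add_mem h1 hq₂

end abstract

section concrete

variable {R : Type*} [CommRing R] {N : Type*} [Group N] {X : Type*} [AddCommGroup X] [Module R X]
  (τ : Representation R N X) (K₀ : Subgroup N)

/-- the representation on `X`-valued functions on the cosets of `K₀` -/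
def indRep : Representation R N (N ⧸ K₀ → X) where
  toFun n :=
    { toFun := fun f c => τ n (f (n⁻¹ • c))
      map_add' := fun f g => by ext c; simp
      map_smul' := fun r f => by ext c; simp }
  map_one' := by ext f c; simp
  map_mul' := fun n m => by ext f c; simp [mul_smul]

theorem indRep_apply (n : N) (f : N ⧸ K₀ → X) (c : N ⧸ K₀) :
    indRep τ K₀ n f c = τ n (f (n⁻¹ • c)) := rfl

variable [Fintype (N ⧸ K₀)]

/-- the sum over the cosets -/
def sumMap : (N ⧸ K₀ → X) →ₗ[R] X := ∑ c, LinearMap.proj c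

theorem sumMap_apply (f : N ⧸ K₀ → X) : sumMap (R := R) K₀ f = ∑ c, f c := by
  simp [sumMap, LinearMap.sum_apply]

theorem sumMap_indRep (n : N) (f : N ⧸ K₀ → X) :
    sumMap (R := R) K₀ (indRep τ K₀ n f) = τ n (sumMap (R := R) K₀ f) := by
  rw [sumMap_apply, sumMap_apply, map_sum]
  simp only [indRep_apply]
  exact Equiv.sum_comp (MulAction.toPerm n⁻¹) (fun c => τ n (f c))

variable [DecidableEq (N ⧸ K₀)]

theorem sumMap_single (c : N ⧸ K₀) (l : X) :
    sumMap (R := R) K₀ (Pi.single c l : N ⧸ K₀ → X) = l := by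
  rw [sumMap_apply]
  exact Finset.sum_pi_single' c l Finset.univ |>.trans (by simp)

theorem sumMap_surjective : Function.Surjective (sumMap (R := R) (X := X) K₀) := fun l =>
  ⟨Pi.single (QuotientGroup.mk 1) l, sumMap_single K₀ _ l⟩

/-- the projection to the functions supported on the trivial coset -/
def pi0 (c₁ : N ⧸ K₀) : Module.End R (N ⧸ K₀ → X) :=
  (LinearMap.single R (fun _ => X) c₁) ∘ₗ (LinearMap.proj c₁)

omit [Fintype (N ⧸ K₀)] in
theorem pi0_apply (c₁ : N ⧸ K₀) (f : N ⧸ K₀ → X) (c : N ⧸ K₀) :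
    pi0 (R := R) K₀ c₁ f c = if c = c₁ then f c₁ else 0 := by
  simp [pi0, Pi.single_apply]

end concrete

section grp

variable {N : Type*} [Group N] (K₀ : Subgroup N) {p : ℕ}

/-- an element with `z ^ p = 1` fixing a coset of the `p'`-group `K₀` is trivial -/
theorem eq_one_of_smul_eq (hK₀p : (Nat.card K₀).Coprime p) (z : N) (hz : z ^ p = 1)
    (c : N ⧸ K₀) (hc : z • c = c) : z = 1 := by
  induction c using QuotientGroup.induction_on with
  | H n =>
    rw [MulAction.Quotient.smul_mk, QuotientGroup.eq, smul_eq_mul] at hc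
    set w : N := (z * n)⁻¹ * n with hw
    have hwp : w ^ p = 1 := by
      have : w = n⁻¹ * z⁻¹ * n⁻¹⁻¹ := by rw [hw, mul_inv_rev, inv_inv]
      rw [this, conj_pow, inv_pow, hz, inv_one, mul_one, mul_inv_cancel]
    have h1 : orderOf w ∣ p := orderOf_dvd_of_pow_eq_one hwp
    have h2 : orderOf w ∣ Nat.card K₀ := Subgroup.orderOf_dvd_natCard K₀ hc
    have h3 : orderOf w = 1 := Nat.eq_one_of_dvd_coprimes hK₀p h2 h1
    have h4 : w = 1 := orderOf_eq_one_iff.mp h3
    rw [hw, inv_mul_eq_one] at h4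
    have : z * n = 1 * n := by rw [one_mul]; exact h4
    exact mul_right_cancel this

variable [Finite N] (x₀ : N) (hx₀ : orderOf x₀ = p) (hK₀p : (Nat.card K₀).Coprime p)
  (hNK : ∀ n : N, ∃ i : ℕ, ∃ k ∈ K₀, n = x₀ ^ i * k)

include hx₀ hK₀p hNK in
theorem exists_unique_pow_smul (c : N ⧸ K₀) :
    ∃ j, j < p ∧ x₀ ^ j • c = (QuotientGroup.mk 1 : N ⧸ K₀) ∧
      ∀ j', j' < p → x₀ ^ j' • c = (QuotientGroup.mk 1 : N ⧸ K₀) → j' = j := by
  classical
  have hxp : x₀ ^ p = 1 := hx₀ ▸ pow_orderOf_eq_one x₀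
  induction c using QuotientGroup.induction_on with
  | H n =>
    obtain ⟨i, k, hk, rfl⟩ := hNK n
    have hmem : (x₀ ^ i)⁻¹ ∈ Subgroup.zpowers x₀ :=
      inv_mem (pow_mem (Subgroup.mem_zpowers x₀) i)
    rw [mem_zpowers_iff_mem_range_orderOf, Finset.mem_image] at hmem
    obtain ⟨j, hj, hjx⟩ := hmem
    rw [Finset.mem_range, hx₀] at hj
    have hjx' : x₀ ^ j = (x₀ ^ i)⁻¹ := hjx
    have hfix : x₀ ^ j • (QuotientGroup.mk (x₀ ^ i * k) : N ⧸ K₀) = QuotientGroup.mk 1 := by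
      rw [MulAction.Quotient.smul_mk, QuotientGroup.eq, smul_eq_mul, hjx', ← mul_assoc,
        inv_mul_cancel, one_mul, mul_one]
      exact inv_mem hk
    refine ⟨j, hj, hfix, ?_⟩
    intro j' hj' hfix'
    set c : N ⧸ K₀ := QuotientGroup.mk (x₀ ^ i * k) with hc
    set z : N := (x₀ ^ j')⁻¹ * x₀ ^ j with hz
    have hzc : z • c = c := by
      rw [hz, mul_smul, hfix, ← hfix', smul_smul, inv_mul_cancel, one_smul]
    have hzp : z ^ p = 1 := by
      have hcomm : Commute (x₀ ^ j')⁻¹ (x₀ ^ j) := (Commute.pow_pow_self x₀ j' j).inv_left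
      rw [hz, hcomm.mul_pow, inv_pow, ← pow_mul, ← pow_mul, mul_comm j' p, mul_comm j p,
        pow_mul, pow_mul, hxp, one_pow, one_pow, inv_one, one_mul]
    have hz1 := eq_one_of_smul_eq K₀ hK₀p z hzp c hzc
    rw [hz, inv_mul_eq_one] at hz1
    have hinj := pow_injOn_Iio_orderOf (x := x₀)
    exact hinj (by rw [hx₀]; exact hj') (by rw [hx₀]; exact hj) hz1

end grp

section identity

variable {R : Type*} [CommRing R] {N : Type*} [Group N] [Finite N] {X : Type*} [AddCommGroup X]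
  [Module R X] (τ : Representation R N X) (K₀ : Subgroup N) [Fintype (N ⧸ K₀)]
  [DecidableEq (N ⧸ K₀)] {p : ℕ} (x₀ : N) (hx₀ : orderOf x₀ = p)
  (hK₀p : (Nat.card K₀).Coprime p) (hNK : ∀ n : N, ∃ i : ℕ, ∃ k ∈ K₀, n = x₀ ^ i * k)

include hx₀ hK₀p hNK in
omit [Fintype (N ⧸ K₀)] in
/-- the induced module is induced: `∑ y^j π₀ x^j = 1` -/
theorem identity_I :
    ∑ j ∈ Finset.range p, (indRep τ K₀ x₀⁻¹) ^ j * pi0 (R := R) K₀ (QuotientGroup.mk 1) *
      (indRep τ K₀ x₀) ^ j = 1 := by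
  refine LinearMap.ext (fun f => funext (fun c => ?_))
  obtain ⟨j₀, hj₀, hfix, huniq⟩ := exists_unique_pow_smul K₀ x₀ hx₀ hK₀p hNK c
  have hterm : ∀ j : ℕ, ((indRep τ K₀ x₀⁻¹) ^ j * pi0 (R := R) K₀ (QuotientGroup.mk 1) *
      (indRep τ K₀ x₀) ^ j : Module.End R (N ⧸ K₀ → X)) f c =
      if x₀ ^ j • c = (QuotientGroup.mk 1 : N ⧸ K₀) then f c else 0 := by
    intro j
    rw [← map_pow, ← map_pow, inv_pow, Module.End.mul_apply, Module.End.mul_apply, indRep_apply,
      inv_inv, pi0_apply]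
    split_ifs with h
    · rw [indRep_apply, ← h, inv_smul_smul, ← Module.End.mul_apply, ← map_mul, inv_mul_cancel,
        map_one, Module.End.one_apply]
    · rw [map_zero]
  rw [LinearMap.sum_apply, Finset.sum_apply]
  simp only [hterm, Module.End.one_apply]
  rw [Finset.sum_eq_single j₀]
  · rw [if_pos hfix]
  · intro j hj hne
    rw [if_neg]
    intro h
    exact hne (huniq j (Finset.mem_range.mp hj) h)
  · intro h
    exact absurd (Finset.mem_range.mpr hj₀) h

end identity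

section norm

variable {R : Type*} [CommRing R] {N : Type*} [Group N] [Finite N] {V : Type*} [AddCommGroup V]
  [Module R V] (σ : Representation R N V) {p : ℕ} (x₀ : N) (hx₀ : orderOf x₀ = p)

include hx₀ in
/-- the norm is the sum over the subgroup generated by `x₀` -/
theorem nuE_eq_sum_zpowers [Fintype (Subgroup.zpowers x₀)] :
    nuE p (σ x₀) = ∑ s : Subgroup.zpowers x₀, σ (s : N) := by
  have hfin : IsOfFinOrder x₀ := isOfFinOrder_of_finite x₀
  rw [← (finEquivZPowers hfin).sum_comp]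
  simp only [finEquivZPowers_apply]
  rw [Fin.sum_univ_eq_sum_range (fun i => σ (x₀ ^ i)) (orderOf x₀), hx₀]
  unfold nuE
  exact Finset.sum_congr rfl (fun i _ => (map_pow σ x₀ i).symm)

include hx₀ in
/-- the norm commutes with the whole group when `⟨x₀⟩` is normal -/
theorem nuE_comm (hnorm : (Subgroup.zpowers x₀).Normal) (n : N) (v : V) :
    nuE p (σ x₀) (σ n v) = σ n (nuE p (σ x₀) v) := by
  classical
  have : Fintype (Subgroup.zpowers x₀) := Fintype.ofFinite _
  rw [nuE_eq_sum_zpowers σ x₀ hx₀, LinearMap.sum_apply, LinearMap.sum_apply, map_sum]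
  rw [← (MulAut.conjNormal n : Subgroup.zpowers x₀ ≃* Subgroup.zpowers x₀).toEquiv.sum_comp]
  apply Finset.sum_congr rfl
  intro s _
  rw [MulEquiv.toEquiv_eq_coe, MulEquiv.coe_toEquiv, MulAut.conjNormal_apply,
    ← Module.End.mul_apply, ← Module.End.mul_apply, ← map_mul, ← map_mul, inv_mul_cancel_right]

end norm

section trace

variable {R : Type*} [CommRing R] {N : Type*} [Group N] {X : Type*} [AddCommGroup X]
  [Module R X] (τ : Representation R N X) (K₀ : Subgroup N) [Fintype (N ⧸ K₀)]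
  [DecidableEq (N ⧸ K₀)] [Module.Free R X] [Module.Finite R X]

omit [Fintype (N ⧸ K₀)] in
/-- an element moving every coset has trace zero on the induced module -/
theorem trace_indRep_eq_zero [Finite (N ⧸ K₀)] (g : N) (hg : ∀ c : N ⧸ K₀, g • c ≠ c) :
    LinearMap.trace R _ (indRep τ K₀ g) = 0 := by
  classical
  have : Fintype (N ⧸ K₀) := Fintype.ofFinite _
  set b := Module.Free.chooseBasis R X with hb
  set B := Pi.basis (fun _ : N ⧸ K₀ => b) with hB
  rw [LinearMap.trace_eq_matrix_trace R B, Matrix.trace]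
  apply Finset.sum_eq_zero
  rintro ⟨c, k⟩ _
  rw [Matrix.diag_apply, LinearMap.toMatrix_apply, hB, Pi.basis_repr, Pi.basis_apply, indRep_apply]
  have hne : g⁻¹ • c ≠ c := by
    intro h
    apply hg c
    rw [← h, smul_inv_smul, h]
  simp only
  rw [Pi.single_eq_of_ne hne, map_zero, map_zero, Finsupp.zero_apply]

/-- additivity of the trace on `0 → Y → P → X → 0` -/
theorem trace_decomp [IsDomain R] [IsPrincipalIdealRing R] (g : N)
    (hinv : ∀ f ∈ LinearMap.ker (sumMap (R := R) (X := X) K₀),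
      indRep τ K₀ g f ∈ LinearMap.ker (sumMap (R := R) (X := X) K₀)) :
    LinearMap.trace R _ (indRep τ K₀ g) =
      LinearMap.trace R _ ((indRep τ K₀ g).restrict hinv) + LinearMap.trace R X (τ g) := by
  set S := sumMap (R := R) (X := X) K₀ with hS
  set c₁ : N ⧸ K₀ := QuotientGroup.mk 1 with hc₁
  set ι₁ : X →ₗ[R] (N ⧸ K₀ → X) := LinearMap.single R (fun _ => X) c₁ with hι₁
  have hSι : ∀ l, S (ι₁ l) = l := fun l => sumMap_single K₀ c₁ l
  set A : Module.End R (N ⧸ K₀ → X) := indRep τ K₀ g ∘ₗ (LinearMap.id - ι₁ ∘ₗ S) with hA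
  have hsplit : indRep τ K₀ g = A + (indRep τ K₀ g ∘ₗ ι₁) ∘ₗ S := by
    apply LinearMap.ext
    intro f
    simp only [hA, LinearMap.add_apply, LinearMap.comp_apply, LinearMap.sub_apply,
      LinearMap.id_apply, map_sub]
    abel
  have hAmem : ∀ f, A f ∈ LinearMap.ker S := by
    intro f
    rw [LinearMap.mem_ker, hA, LinearMap.comp_apply, hS, sumMap_indRep, ← hS, LinearMap.sub_apply,
      LinearMap.id_apply, LinearMap.comp_apply, map_sub, hSι, sub_self, map_zero]
  have h1 := LinearMap.trace_restrict_eq_of_forall_mem (LinearMap.ker S) A hAmem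
  have h2 : A.restrict (fun x _ => hAmem x) = (indRep τ K₀ g).restrict hinv := by
    apply LinearMap.ext
    intro y
    apply Subtype.ext
    rw [LinearMap.coe_restrict_apply, LinearMap.coe_restrict_apply, hA, LinearMap.comp_apply,
      LinearMap.sub_apply, LinearMap.id_apply, LinearMap.comp_apply, LinearMap.mem_ker.mp y.2,
      map_zero, sub_zero]
  have h3 : LinearMap.trace R _ ((indRep τ K₀ g ∘ₗ ι₁) ∘ₗ S) = LinearMap.trace R X (τ g) := by
    rw [LinearMap.trace_comp_comm' S (indRep τ K₀ g ∘ₗ ι₁)]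
    congr 1
    apply LinearMap.ext
    intro l
    rw [LinearMap.comp_apply, LinearMap.comp_apply, hS, sumMap_indRep, ← hS, hSι]
  conv_lhs => rw [hsplit]
  rw [map_add, h3, ← h1, h2]

end trace

section moves

variable {N : Type*} [Group N] (K₀ : Subgroup N) {p : ℕ} (x₀ : N) (hx₀ : orderOf x₀ = p)
  (hK₀p : (Nat.card K₀).Coprime p)

include hx₀ hK₀p in
theorem smul_ne_of (hpp : p.Prime) (i : ℕ) (hi0 : 0 < i) (hip : i < p) (v : N)
    (hv : Commute v x₀) (hvp : ¬ p ∣ orderOf v) (c : N ⧸ K₀) : (x₀ ^ i * v) • c ≠ c := by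
  intro h
  have hxp : x₀ ^ p = 1 := hx₀ ▸ pow_orderOf_eq_one x₀
  have hpow : ∀ t : ℕ, (x₀ ^ i * v) ^ t • c = c := by
    intro t
    induction t with
    | zero => simp
    | succ t ih => rw [pow_succ, mul_smul, h, ih]
  have hcomm : Commute (x₀ ^ i) v := (hv.symm.pow_left i)
  have h1 := hpow (orderOf v)
  rw [hcomm.mul_pow, pow_orderOf_eq_one, mul_one, ← pow_mul] at h1
  have hz : (x₀ ^ (i * orderOf v)) ^ p = 1 := by
    rw [← pow_mul, mul_comm, pow_mul, hxp, one_pow]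
  have h2 := eq_one_of_smul_eq K₀ hK₀p _ hz c h1
  have h3 : p ∣ i * orderOf v := hx₀ ▸ orderOf_dvd_of_pow_eq_one h2
  rcases hpp.dvd_mul.mp h3 with h4 | h4
  · exact absurd (Nat.le_of_dvd hi0 h4) (not_le.mpr hip)
  · exact hvp h4

end moves

section main

universe u

variable {p : ℕ} [hp : Fact p.Prime]

theorem exists_shift {N : Type u} [Group N] [Finite N]
    {X : Type u} [AddCommGroup X] [Module ℤ_[p] X] [Module.Free ℤ_[p] X] [Module.Finite ℤ_[p] X]
    (τ : Representation ℤ_[p] N X) (x₀ : N) (hx₀ : orderOf x₀ = p)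
    (hnorm : (Subgroup.zpowers x₀).Normal)
    (K₀ : Subgroup N) (hK₀p : (Nat.card K₀).Coprime p)
    (hNK : ∀ n : N, ∃ i : ℕ, ∃ k ∈ K₀, n = x₀ ^ i * k)
    (hH0 : ∀ l, τ x₀ l = l → ∃ m, l = nuE p (τ x₀) m) :
    ∃ (Y : Type u) (_ : AddCommGroup Y) (_ : Module ℤ_[p] Y) (_ : Module.Free ℤ_[p] Y)
      (_ : Module.Finite ℤ_[p] Y) (τ' : Representation ℤ_[p] N Y),
      (∀ l, nuE p (τ' x₀) l = 0 → ∃ m, l = τ' x₀ m - m) ∧
      (∀ i : ℕ, 0 < i → i < p → ∀ v : N, Commute v x₀ → ¬ p ∣ orderOf v →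
        LinearMap.trace ℤ_[p] Y (τ' (x₀ ^ i * v)) = - LinearMap.trace ℤ_[p] X (τ (x₀ ^ i * v))) ∧
      ((∀ l', τ' x₀ l' = l' → ∃ m, l' = nuE p (τ' x₀) m) →
        ∀ l, nuE p (τ x₀) l = 0 → ∃ m, l = τ x₀ m - m) ∧
      ((∀ W : Submodule ℤ_[p] X, (∀ w ∈ W, nuE p (τ x₀) w = 0) → (∀ m, τ x₀ m - m ∈ W) →
          (∀ k ∈ K₀, ∀ w ∈ W, τ k w ∈ W) →
          (∀ w ∈ W, ∃ m, w = τ x₀ m - m) ∨ (∀ l, nuE p (τ x₀) l = 0 → l ∈ W)) →
        ∀ W' : Submodule ℤ_[p] Y, (∀ w ∈ W', τ' x₀ w = w) → (∀ m, nuE p (τ' x₀) m ∈ W') →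
          (∀ k ∈ K₀, ∀ w ∈ W', τ' k w ∈ W') →
          (∀ w ∈ W', ∃ m, w = nuE p (τ' x₀) m) ∨ (∀ l, τ' x₀ l = l → l ∈ W')) := by
  classical
  have : Fintype (N ⧸ K₀) := Fintype.ofFinite _
  set ρ := indRep τ K₀ with hρ
  set S := sumMap (R := ℤ_[p]) (X := X) K₀ with hS
  have hSρ : ∀ n f, S (ρ n f) = τ n (S f) := fun n f => sumMap_indRep τ K₀ n f
  have hinv : ∀ n, ∀ f ∈ LinearMap.ker S, ρ n f ∈ LinearMap.ker S := by
    intro n f hf
    rw [LinearMap.mem_ker] at hf ⊢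
    rw [hSρ, hf, map_zero]
  let τ' : Representation ℤ_[p] N (LinearMap.ker S) :=
    { toFun := fun n => (ρ n).restrict (hinv n)
      map_one' := by
        apply LinearMap.ext
        intro y
        apply Subtype.ext
        rw [LinearMap.coe_restrict_apply, map_one]
        rfl
      map_mul' := by
        intro n m
        apply LinearMap.ext
        intro y
        apply Subtype.ext
        rw [LinearMap.coe_restrict_apply, map_mul]
        rfl }
  have hcoe : ∀ n (y : LinearMap.ker S), ((τ' n y : LinearMap.ker S) : N ⧸ K₀ → X) = ρ n y :=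
    fun n y => rfl
  have hnu : ∀ y : LinearMap.ker S,
      ((nuE p (τ' x₀) y : LinearMap.ker S) : N ⧸ K₀ → X) = nuE p (ρ x₀) (y : N ⧸ K₀ → X) := by
    intro y
    rw [nuE_apply, nuE_apply, Submodule.coe_sum]
    apply Finset.sum_congr rfl
    intro i _
    rw [← map_pow, ← map_pow]
    rfl
  -- the abstract data
  have hxy : ρ x₀ * ρ x₀⁻¹ = 1 := by rw [← map_mul, mul_inv_cancel, map_one]
  have hyx : ρ x₀⁻¹ * ρ x₀ = 1 := by rw [← map_mul, inv_mul_cancel, map_one]
  have hx₀p : x₀ ^ p = 1 := by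
    have := pow_orderOf_eq_one x₀
    rwa [hx₀] at this
  have hxp : ρ x₀ ^ p = 1 := by
    rw [← map_pow, hx₀p, map_one]
  have hI := identity_I (R := ℤ_[p]) τ K₀ x₀ hx₀ hK₀p hNK
  have hSsurj : Function.Surjective S := sumMap_surjective K₀
  refine ⟨LinearMap.ker S, inferInstance, inferInstance, inferInstance, inferInstance, τ',
    ?_, ?_, ?_, ?_⟩
  · -- (1)
    intro l hl
    have hl' : nuE p (ρ x₀) (l : N ⧸ K₀ → X) = 0 := by rw [← hnu, hl]; rfl
    obtain ⟨m, hm0, hm⟩ := shift_Hm1 p (ρ x₀) (ρ x₀⁻¹) _ hxy hxp hI (τ x₀) S hSsurj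
      (hSρ x₀) hH0 (l : N ⧸ K₀ → X) (LinearMap.mem_ker.mp l.2) hl'
    exact ⟨⟨m, LinearMap.mem_ker.mpr hm0⟩, Subtype.ext hm⟩
  · -- (2)
    intro i hi0 hip v hv hvp
    have hmove := smul_ne_of K₀ x₀ hx₀ hK₀p hp.out i hi0 hip v hv hvp
    have h1 := trace_indRep_eq_zero τ K₀ (x₀ ^ i * v) hmove
    have h2 := trace_decomp τ K₀ (x₀ ^ i * v) (hinv (x₀ ^ i * v))
    rw [h1] at h2
    have h3 : LinearMap.trace ℤ_[p] (LinearMap.ker S) (τ' (x₀ ^ i * v)) =
        LinearMap.trace ℤ_[p] _ ((ρ (x₀ ^ i * v)).restrict (hinv (x₀ ^ i * v))) := rfl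
    rw [h3]
    exact eq_neg_of_add_eq_zero_left h2.symm
  · -- (3)
    intro hY0 l hl
    refine shift_H0 p (ρ x₀) (ρ x₀⁻¹) _ hxy hxp hI (τ x₀) S hSsurj (hSρ x₀) ?_ l hl
    intro f hf0 hfx
    obtain ⟨m, hm⟩ := hY0 ⟨f, LinearMap.mem_ker.mpr hf0⟩ (Subtype.ext hfx)
    refine ⟨m, LinearMap.mem_ker.mp m.2, ?_⟩
    have := congrArg Subtype.val hm
    rw [hnu] at this
    exact this
  · -- (4)
    intro hsimp W' hWfix hWnu hWK
    set WP : Submodule ℤ_[p] (N ⧸ K₀ → X) := W'.map (LinearMap.ker S).subtype with hWP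
    have memWP : ∀ f, f ∈ WP ↔ ∃ w ∈ W', (w : N ⧸ K₀ → X) = f := by
      intro f
      rw [hWP, Submodule.mem_map]
      rfl
    have key := shift_simple p (ρ x₀) (ρ x₀⁻¹) _ hxy hyx hxp hI (τ x₀) S hSsurj (hSρ x₀)
      (ι := K₀) (fun k => ρ (k : N)) (fun k => τ (k : N)) (fun k f => hSρ k f)
      (fun k f => nuE_comm ρ x₀ hx₀ hnorm k f)
      (fun W h1 h2 h3 => hsimp W h1 h2 (fun k hk w hw => h3 ⟨k, hk⟩ w hw)) WP ?_ ?_ ?_ ?_
    · rcases key with hA | hB
      · left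
        intro w hw
        obtain ⟨m, hm0, hm⟩ := hA (w : N ⧸ K₀ → X) ((memWP _).mpr ⟨w, hw, rfl⟩)
        refine ⟨⟨m, LinearMap.mem_ker.mpr hm0⟩, Subtype.ext ?_⟩
        rw [hnu]
        exact hm
      · right
        intro l hl
        have h1 := hB (l : N ⧸ K₀ → X) (LinearMap.mem_ker.mp l.2)
          (by have := congrArg Subtype.val hl; exact this)
        obtain ⟨w, hw, hwl⟩ := (memWP _).mp h1
        have : w = l := Subtype.ext hwl
        exact this ▸ hw
    · intro f hf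
      obtain ⟨w, _, rfl⟩ := (memWP _).mp hf
      exact LinearMap.mem_ker.mp w.2
    · intro f hf
      obtain ⟨w, hw, rfl⟩ := (memWP _).mp hf
      exact congrArg Subtype.val (hWfix w hw)
    · intro m hm0
      refine (memWP _).mpr ⟨nuE p (τ' x₀) ⟨m, LinearMap.mem_ker.mpr hm0⟩, hWnu _, ?_⟩
      rw [hnu]
    · intro k f hf
      obtain ⟨w, hw, rfl⟩ := (memWP _).mp hf
      exact (memWP _).mpr ⟨τ' (k : N) w, hWK k k.2 w hw, rfl⟩

end main

end Cfsg.Agent.Lib.Helper25_GenD
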