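import Mathlib
import Cfsg.Agent.Lib.Helper84_TutteDefs
import Cfsg.Agent.Lib.Helper84_TutteAPI

/-!
# Definitions for S4359 (Glauberman 1969, "Normalizers of p-subgroups in finite groups")

Paper proof: `pending/helper84/S4359_proof.md`.  Everything is a `p`-version of `Helper84_TutteDefs`
(`cj`, `xs`, `XX`, `RS`, `RI`, `IsLam` and all the `p`-independent API of `Helper84_TutteAPI` are reused).
In the application the element called `g` here is the INVERSE of the element `g` of the frozen statement.

* `PChainHyp P g p`: hypotheses (H1), (H2) of PART 1.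
* `PChainData P g p t`: the chain `R_k = RI P g 0 k` has indices `p` for `k < t`, then stabilises, and `R_t` is `g`-invariant.
* `PSys P g x0 p t`: a "`p`-system", the output of PART 1.
-/

set_option autoImplicit false

namespace Cfsg.Agent.Lib.Helper84_GlDefs

open scoped commutatorElement
open Cfsg.Agent.Lib.Helper84_TutteDefs

variable {G : Type*} [Group G]

/-- Hypotheses (H1), (H2) on `(P, g)`: `P ⊓ cj g P` is normal of index `p` in `cj g P`; no nontrivial normal subgroup of `P`
is `g`-invariant. -/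
structure PChainHyp (P : Subgroup G) (g : G) (p : ℕ) : Prop where
  fin : Finite P
  prime : p.Prime
  nrm : ∀ u ∈ cj g P, cj u (P ⊓ cj g P) = P ⊓ cj g P
  idx : (P ⊓ cj g P).relIndex (cj g P) = p
  core : ∀ Q : Subgroup G, Q ≤ P → (∀ u ∈ P, cj u Q = Q) → cj g Q = Q → Q = ⊥

/-- The output of (1.1)-(1.5). -/
structure PChainData (P : Subgroup G) (g : G) (p t : ℕ) : Prop where
  one_le : 1 ≤ t
  idx : ∀ k : ℕ, k < t → (RI P g 0 ((k : ℤ) + 1)).relIndex (RI P g 0 k) = p
  stab : RI P g 0 ((t : ℤ) + 1) = RI P g 0 t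
  inv : cj g (RI P g 0 t) = RI P g 0 t

/-- A `p`-system: the output of PART 1. -/
structure PSys (P : Subgroup G) (g x0 : G) (p t : ℕ) : Prop where
  prime : p.Prime
  one_le : 1 ≤ t
  pow : x0 ^ p = 1
  card : ∀ j : ℕ, j ≤ t → Nat.card (XX g x0 0 ((j : ℤ) - 1)) = p ^ j
  top : XX g x0 0 ((t : ℤ) - 1) = P

end Cfsg.Agent.Lib.Helper84_GlDefs
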