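import Mathlib
import Cfsg.Agent.Lib.Helper84_TutteDefs
import Cfsg.Agent.Lib.Helper84_TutteAPI
import Cfsg.Agent.Lib.Helper84_GlDefs

/-!
# API for `p`-systems (S4359), the `p`-version of the `TSys` part of `Helper84_TutteAPI`.
Paper: `pending/helper84/S4359_proof.md`, (2.1)-(2.3).
-/

set_option autoImplicit false

namespace Cfsg.Agent.Lib.Helper84_GlDefs

open scoped commutatorElement
open Cfsg.Agent.Lib.Helper84_TutteDefs

variable {G : Type*} [Group G] {P : Subgroup G} {g x0 : G} {p t : ℕ}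

theorem xs_pow_eq (g x0 : G) (i : ℤ) (a : ℕ) : xs g x0 i ^ a = g ^ (-i) * x0 ^ a * g ^ i := by
  unfold xs
  induction a with
  | zero => simp
  | succ a ih =>
    rw [pow_succ, ih, pow_succ]
    group

theorem xs_pow_of_pow {a : ℕ} (h : x0 ^ a = 1) (i : ℤ) : xs g x0 i ^ a = 1 := by
  rw [xs_pow_eq, h]
  group

theorem PSys.card_XX (h : PSys P g x0 p t) {i j : ℤ} (hij : i ≤ j + 1) (hs : j - i + 1 ≤ t) :
    Nat.card (XX g x0 i j) = p ^ (j + 1 - i).toNat := by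
  have h1 : XX g x0 i j = cj (g ^ (-i)) (XX g x0 0 (j - i)) := by
    rw [cj_zpow_XX]
    congr 1 <;> ring
  rw [h1, card_cj]
  have h2 := h.card (j + 1 - i).toNat (by omega)
  have h3 : (((j + 1 - i).toNat : ℕ) : ℤ) - 1 = j - i := by
    rw [Int.toNat_of_nonneg (by omega)]
    ring
  rw [h3] at h2
  exact h2

theorem PSys.finite_XX (h : PSys P g x0 p t) {i j : ℤ} (hij : i ≤ j + 1) (hs : j - i + 1 ≤ t) :
    Finite (XX g x0 i j) := by
  apply Nat.finite_of_card_ne_zero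
  rw [h.card_XX hij hs]
  exact pow_ne_zero _ h.prime.ne_zero

theorem PSys.x0_ne_one (h : PSys P g x0 p t) : x0 ≠ 1 := by
  intro h1
  have h2 := h.card 1 h.one_le
  have h3 : XX g x0 0 (((1 : ℕ) : ℤ) - 1) = ⊥ := by
    rw [eq_bot_iff, XX_le_iff]
    intro l _ _
    rw [Subgroup.mem_bot, xs_eq_one_iff]
    exact h1
  rw [h3] at h2
  simp only [Subgroup.card_bot, pow_one] at h2
  exact h.prime.one_lt.ne h2

theorem PSys.xs_ne_one (h : PSys P g x0 p t) (i : ℤ) : xs g x0 i ≠ 1 := by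
  rw [Ne, xs_eq_one_iff]
  exact h.x0_ne_one

theorem PSys.xs_pow (h : PSys P g x0 p t) (i : ℤ) : xs g x0 i ^ p = 1 :=
  xs_pow_of_pow h.pow i

theorem PSys.orderOf_xs (h : PSys P g x0 p t) (i : ℤ) : orderOf (xs g x0 i) = p := by
  have : Fact p.Prime := ⟨h.prime⟩
  exact orderOf_eq_prime (h.xs_pow i) (h.xs_ne_one i)

/-- `x_j ∉ X[i,j-1]` -/
theorem PSys.xs_notMem_right (h : PSys P g x0 p t) {i j : ℤ} (hij : i ≤ j) (hs : j - i + 1 ≤ t) :
    xs g x0 j ∉ XX g x0 i (j - 1) := by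
  intro hm
  have h1 : XX g x0 i j = XX g x0 i (j - 1) := by
    have := XX_succ_right (g := g) (x0 := x0) (i := i) (j := j - 1) (by omega)
    rw [sub_add_cancel] at this
    rw [this]
    apply le_antisymm
    · apply sup_le le_rfl
      rw [Subgroup.zpowers_le]
      exact hm
    · exact le_sup_left
  have c1 := h.card_XX (i := i) (j := j) (by omega) hs
  have c2 := h.card_XX (i := i) (j := j - 1) (by omega) (by omega)
  rw [h1, c2] at c1
  have e : (j + 1 - i).toNat = (j - 1 + 1 - i).toNat + 1 := by omega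
  rw [e] at c1
  exact (Nat.pow_lt_pow_right h.prime.one_lt (Nat.lt_succ_self _)).ne c1

/-- `x_i ∉ X[i+1,j]` -/
theorem PSys.xs_notMem_left (h : PSys P g x0 p t) {i j : ℤ} (hij : i ≤ j) (hs : j - i + 1 ≤ t) :
    xs g x0 i ∉ XX g x0 (i + 1) j := by
  intro hm
  have h1 : XX g x0 i j = XX g x0 (i + 1) j := by
    rw [XX_succ_left hij]
    apply le_antisymm
    · apply sup_le _ le_rfl
      rw [Subgroup.zpowers_le]
      exact hm
    · exact le_sup_right
  have c1 := h.card_XX (i := i) (j := j) (by omega) hs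
  have c2 := h.card_XX (i := i + 1) (j := j) (by omega) (by omega)
  rw [h1, c2] at c1
  have e : (j + 1 - i).toNat = (j + 1 - (i + 1)).toNat + 1 := by omega
  rw [e] at c1
  exact (Nat.pow_lt_pow_right h.prime.one_lt (Nat.lt_succ_self _)).ne c1

theorem PSys.relIndex_right (h : PSys P g x0 p t) {i j : ℤ} (hij : i ≤ j) (hs : j - i + 1 ≤ t) :
    (XX g x0 i (j - 1)).relIndex (XX g x0 i j) = p := by
  have hle : XX g x0 i (j - 1) ≤ XX g x0 i j := XX_mono le_rfl (by omega)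
  have c1 := h.card_XX (i := i) (j := j) (by omega) hs
  have c2 := h.card_XX (i := i) (j := j - 1) (by omega) (by omega)
  have e : (j + 1 - i).toNat = (j - 1 + 1 - i).toNat + 1 := by omega
  have hmul := card_mul_relIndex' hle
  rw [c1, c2, e, pow_succ] at hmul
  have hp : 0 < p ^ (j - 1 + 1 - i).toNat := pow_pos h.prime.pos _
  exact Nat.eq_of_mul_eq_mul_left hp hmul

theorem PSys.relIndex_left (h : PSys P g x0 p t) {i j : ℤ} (hij : i ≤ j) (hs : j - i + 1 ≤ t) :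
    (XX g x0 (i + 1) j).relIndex (XX g x0 i j) = p := by
  have hle : XX g x0 (i + 1) j ≤ XX g x0 i j := XX_mono (by omega) le_rfl
  have c1 := h.card_XX (i := i) (j := j) (by omega) hs
  have c2 := h.card_XX (i := i + 1) (j := j) (by omega) (by omega)
  have e : (j + 1 - i).toNat = (j + 1 - (i + 1)).toNat + 1 := by omega
  have hmul := card_mul_relIndex' hle
  rw [c1, c2, e, pow_succ] at hmul
  have hp : 0 < p ^ (j + 1 - (i + 1)).toNat := pow_pos h.prime.pos _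
  exact Nat.eq_of_mul_eq_mul_left hp hmul

/-- a subgroup of index `p` of `X[i,j]` is normal -/
theorem PSys.normal_of_relIndex (h : PSys P g x0 p t) {i j : ℤ} (hij : i ≤ j) (hs : j - i + 1 ≤ t)
    {U : Subgroup G} (hU : U.relIndex (XX g x0 i j) = p) : (U.subgroupOf (XX g x0 i j)).Normal := by
  apply Subgroup.normal_of_index_eq_minFac_card
  rw [h.card_XX (i := i) (j := j) (by omega) hs, h.prime.pow_minFac (by omega)]
  exact hU

/-- `X[i,j-1]` is normal in `X[i,j]` -/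
theorem PSys.conj_mem_right (h : PSys P g x0 p t) {i j : ℤ}
    (hij : i ≤ j) (hs : j - i + 1 ≤ t) {y c : G} (hy : y ∈ XX g x0 i j)
    (hc : c ∈ XX g x0 i (j - 1)) : y * c * y⁻¹ ∈ XX g x0 i (j - 1) := by
  have hle : XX g x0 i (j - 1) ≤ XX g x0 i j := XX_mono le_rfl (by omega)
  have hn := h.normal_of_relIndex hij hs (h.relIndex_right hij hs)
  have := hn.conj_mem ⟨c, hle hc⟩ (Subgroup.mem_subgroupOf.mpr hc) ⟨y, hy⟩
  exact Subgroup.mem_subgroupOf.mp this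

/-- `X[i+1,j]` is normal in `X[i,j]` -/
theorem PSys.conj_mem_left (h : PSys P g x0 p t) {i j : ℤ}
    (hij : i ≤ j) (hs : j - i + 1 ≤ t) {y c : G} (hy : y ∈ XX g x0 i j)
    (hc : c ∈ XX g x0 (i + 1) j) : y * c * y⁻¹ ∈ XX g x0 (i + 1) j := by
  have hle : XX g x0 (i + 1) j ≤ XX g x0 i j := XX_mono (by omega) le_rfl
  have hn := h.normal_of_relIndex hij hs (h.relIndex_left hij hs)
  have := hn.conj_mem ⟨c, hle hc⟩ (Subgroup.mem_subgroupOf.mpr hc) ⟨y, hy⟩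
  exact Subgroup.mem_subgroupOf.mp this

/-- general form of (2.2): if `U ≤ V` has prime index `p`, is normal in `V`, and `x ∈ V \ U`, then every `c ∈ V` is
`c = x ^ a * r` with `r ∈ U`. -/
theorem exists_pow_mul_mem_of_relIndex {U V : Subgroup G} (hp : p.Prime) (hUV : U.relIndex V = p)
    (hn : (U.subgroupOf V).Normal) {x : G} (hxV : x ∈ V) (hxU : x ∉ U) {c : G} (hc : c ∈ V) :
    ∃ a : ℤ, x ^ a * c ∈ U := by
  have : Fact p.Prime := ⟨hp⟩
  have := hn
  have hcard : Nat.card (↥V ⧸ U.subgroupOf V) = p := hUV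
  have hx1 : (QuotientGroup.mk (⟨x, hxV⟩ : ↥V) : ↥V ⧸ U.subgroupOf V) ≠ 1 := by
    rw [Ne, QuotientGroup.eq_one_iff, Subgroup.mem_subgroupOf]
    exact hxU
  have htop := zpowers_eq_top_of_prime_card hcard hx1
  have hmem : (QuotientGroup.mk (⟨c, hc⟩ : ↥V) : ↥V ⧸ U.subgroupOf V)⁻¹ ∈
      Subgroup.zpowers (QuotientGroup.mk (⟨x, hxV⟩ : ↥V) : ↥V ⧸ U.subgroupOf V) := by
    rw [htop]; exact Subgroup.mem_top _
  obtain ⟨a, ha⟩ := Subgroup.mem_zpowers_iff.mp hmem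
  refine ⟨a, ?_⟩
  have h1 : (QuotientGroup.mk ((⟨x, hxV⟩ : ↥V) ^ a * ⟨c, hc⟩) : ↥V ⧸ U.subgroupOf V) = 1 := by
    rw [QuotientGroup.mk_mul, QuotientGroup.mk_zpow, ha, inv_mul_cancel]
  rw [QuotientGroup.eq_one_iff, Subgroup.mem_subgroupOf] at h1
  simpa using h1

/-- (2.2): `c ∈ X[i,j]` is `x_i ^ (-a) * r`, `r ∈ X[i+1,j]` -/
theorem PSys.exists_zpow_mul_mem_left (h : PSys P g x0 p t) {i j : ℤ}
    (hij : i ≤ j) (hs : j - i + 1 ≤ t) {c : G} (hc : c ∈ XX g x0 i j) :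
    ∃ a : ℤ, xs g x0 i ^ a * c ∈ XX g x0 (i + 1) j :=
  exists_pow_mul_mem_of_relIndex h.prime (h.relIndex_left hij hs)
    (h.normal_of_relIndex hij hs (h.relIndex_left hij hs)) (xs_mem_XX le_rfl hij)
    (h.xs_notMem_left hij hs) hc

/-- (2.2): `c ∈ X[i,j]` is `r * x_j ^ (-a)`, `r ∈ X[i,j-1]` -/
theorem PSys.exists_mul_zpow_mem_right (h : PSys P g x0 p t) {i j : ℤ}
    (hij : i ≤ j) (hs : j - i + 1 ≤ t) {c : G} (hc : c ∈ XX g x0 i j) :
    ∃ a : ℤ, c * xs g x0 j ^ a ∈ XX g x0 i (j - 1) := by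
  obtain ⟨a, ha⟩ := exists_pow_mul_mem_of_relIndex h.prime (h.relIndex_right hij hs)
    (h.normal_of_relIndex hij hs (h.relIndex_right hij hs)) (xs_mem_XX hij le_rfl)
    (h.xs_notMem_right hij hs) ((XX g x0 i j).inv_mem hc)
  refine ⟨-a, ?_⟩
  have := (XX g x0 i (j - 1)).inv_mem ha
  have e : (xs g x0 j ^ a * c⁻¹)⁻¹ = c * xs g x0 j ^ (-a) := by group
  rwa [e] at this

/-- if `z` commutes with `x ^ a`, `x ^ p = 1`, `p` prime not dividing `a`, then `z` commutes with `x` -/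
theorem commute_of_commute_zpow {x z : G} (hp : p.Prime) (hx : x ^ p = 1) {a : ℤ} (ha : ¬ (p : ℤ) ∣ a)
    (hz : z * x ^ a = x ^ a * z) : z * x = x * z := by
  have hcop : IsCoprime a (p : ℤ) := by
    rw [isCoprime_comm]
    exact (Nat.prime_iff_prime_int.mp hp).coprime_iff_not_dvd.mpr ha
  obtain ⟨u, v, huv⟩ := hcop
  have hx' : x = (x ^ a) ^ u := by
    have h1 : x ^ (u * a + v * (p : ℤ)) = x := by rw [huv, zpow_one]
    rw [zpow_add, zpow_mul x v (p : ℤ), zpow_natCast, mul_comm u a, zpow_mul] at h1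
    have h2 : (x ^ v) ^ p = 1 := by
      rw [← zpow_natCast, ← zpow_mul, mul_comm, zpow_mul, zpow_natCast, hx, one_zpow]
    rw [h2, mul_one] at h1
    exact h1.symm
  have hc : Commute z (x ^ a) := hz
  have := hc.zpow_right u
  rw [← hx'] at this
  exact this

/-- if `p ∣ a` then `x_i ^ a = 1` -/
theorem PSys.xs_zpow_of_dvd (h : PSys P g x0 p t) (i : ℤ) {a : ℤ} (ha : (p : ℤ) ∣ a) : xs g x0 i ^ a = 1 := by
  obtain ⟨b, rfl⟩ := ha
  rw [zpow_mul, zpow_natCast, h.xs_pow, one_zpow]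

/-- `X[i,j-1] ∩ X[i+1,j] = X[i+1,j-1]` -/
theorem PSys.inf_XX (h : PSys P g x0 p t) {i j : ℤ}
    (hij : i ≤ j) (hs : j - i + 1 ≤ t) :
    XX g x0 i (j - 1) ⊓ XX g x0 (i + 1) j = XX g x0 (i + 1) (j - 1) := by
  rcases (by omega : i = j ∨ i < j) with hij' | hij'
  · subst hij'
    rw [XX_eq_bot (by omega), XX_eq_bot (by omega), XX_eq_bot (by omega), inf_idem]
  symm
  have hle : XX g x0 (i + 1) (j - 1) ≤ XX g x0 i (j - 1) ⊓ XX g x0 (i + 1) j :=
    le_inf (XX_mono (by omega) le_rfl) (XX_mono le_rfl (by omega))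
  have hfin : Finite (XX g x0 i (j - 1)) := h.finite_XX (i := i) (j := j - 1) (by omega) (by omega)
  have hfin2 : Finite ↥(XX g x0 i (j - 1) ⊓ XX g x0 (i + 1) j) :=
    Finite.of_injective (Subgroup.inclusion (inf_le_left : _ ≤ XX g x0 i (j - 1)))
      (Subgroup.inclusion_injective _)
  apply Subgroup.eq_of_le_of_card_ge hle
  have hne : ¬ XX g x0 i (j - 1) ≤ XX g x0 (i + 1) j := by
    intro hh
    exact h.xs_notMem_left hij hs (hh (xs_mem_XX le_rfl (by omega)))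
  have hlt : XX g x0 i (j - 1) ⊓ XX g x0 (i + 1) j < XX g x0 i (j - 1) := by
    refine lt_of_le_of_ne inf_le_left ?_
    intro he
    exact hne (he ▸ inf_le_right)
  have c1 := h.card_XX (i := i) (j := j - 1) (by omega) (by omega)
  have c2 := h.card_XX (i := i + 1) (j := j - 1) (by omega) (by omega)
  have hdvd : Nat.card ↥(XX g x0 i (j - 1) ⊓ XX g x0 (i + 1) j) ∣ Nat.card (XX g x0 i (j - 1)) :=
    Subgroup.card_dvd_of_le inf_le_left
  rw [c1] at hdvd
  obtain ⟨m, hm, hmc⟩ := (Nat.dvd_prime_pow h.prime).mp hdvd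
  have hcardlt : Nat.card ↥(XX g x0 i (j - 1) ⊓ XX g x0 (i + 1) j) < Nat.card (XX g x0 i (j - 1)) := by
    by_contra hge
    push Not at hge
    exact hlt.ne (Subgroup.eq_of_le_of_card_ge inf_le_left hge)
  rw [c1, hmc] at hcardlt
  have hmlt : m < (j - 1 + 1 - i).toNat := (Nat.pow_lt_pow_iff_right h.prime.one_lt).mp hcardlt
  rw [hmc, c2]
  apply Nat.pow_le_pow_right h.prime.pos
  omega

/-- (2.3): `[x_i, x_j] ∈ X[i+1,j-1]` -/
theorem PSys.comm_mem (h : PSys P g x0 p t) {i j : ℤ}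
    (hij : i < j) (hs : j - i + 1 ≤ t) : ⁅xs g x0 i, xs g x0 j⁆ ∈ XX g x0 (i + 1) (j - 1) := by
  rw [← h.inf_XX (le_of_lt hij) hs]
  have hxi : xs g x0 i ∈ XX g x0 i j := xs_mem_XX le_rfl (le_of_lt hij)
  have hxj : xs g x0 j ∈ XX g x0 i j := xs_mem_XX (le_of_lt hij) le_rfl
  have hxi' : xs g x0 i ∈ XX g x0 i (j - 1) := xs_mem_XX le_rfl (by omega)
  have hxj' : xs g x0 j ∈ XX g x0 (i + 1) j := xs_mem_XX (by omega) le_rfl
  refine ⟨?_, ?_⟩
  · have e : ⁅xs g x0 i, xs g x0 j⁆ = xs g x0 i * (xs g x0 j * (xs g x0 i)⁻¹ * (xs g x0 j)⁻¹) := by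
      rw [commutatorElement_def]; group
    rw [e]
    exact (XX g x0 i (j - 1)).mul_mem hxi'
      (h.conj_mem_right (le_of_lt hij) hs hxj ((XX g x0 i (j - 1)).inv_mem hxi'))
  · have e : ⁅xs g x0 i, xs g x0 j⁆ = (xs g x0 i * xs g x0 j * (xs g x0 i)⁻¹) * (xs g x0 j)⁻¹ := by
      rw [commutatorElement_def]
    rw [e]
    exact (XX g x0 (i + 1) j).mul_mem (h.conj_mem_left (le_of_lt hij) hs hxi hxj')
      ((XX g x0 (i + 1) j).inv_mem hxj')

theorem PSys.XX_le_P (h : PSys P g x0 p t) {i j : ℤ}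
    (hi : 0 ≤ i) (hj : j ≤ (t : ℤ) - 1) : XX g x0 i j ≤ P := by
  rw [← h.top]
  exact XX_mono hi hj

theorem PSys.card_P (h : PSys P g x0 p t) : Nat.card P = p ^ t := by
  rw [← h.top]
  exact h.card t le_rfl

/-- `⨆_{0 ≤ i ≤ n} cj (g^i) P = X[-n, t-1]` -/
theorem PSys.iSup_cj (h : PSys P g x0 p t) (n : ℕ) :
    ⨆ i ∈ Finset.range (n + 1), cj (g ^ i) P = XX g x0 (-(n : ℤ)) ((t : ℤ) - 1) := by
  have ht := h.one_le
  apply le_antisymm
  · refine iSup₂_le ?_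
    intro i hi
    rw [Finset.mem_range] at hi
    rw [← h.top, ← zpow_natCast, cj_zpow_XX]
    exact XX_mono (by omega) (by omega)
  · rw [XX_le_iff]
    intro l h1 h2
    -- `x_l ∈ cj (g^i) P` with `i = max 0 (-l)`
    obtain ⟨i, hi⟩ : ∃ i : ℕ, (i : ℤ) = max 0 (-l) := ⟨(max 0 (-l)).toNat, by omega⟩
    have hi' : i ∈ Finset.range (n + 1) := by rw [Finset.mem_range]; omega
    refine (le_iSup₂ (f := fun i (_ : i ∈ Finset.range (n + 1)) => cj (g ^ i) P) i hi') ?_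
    rw [← h.top, ← zpow_natCast, cj_zpow_XX]
    exact xs_mem_XX (by omega) (by omega)

end Cfsg.Agent.Lib.Helper84_GlDefs
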