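import Mathlib
import Cfsg.Agent.Lib.Helper84_TutteDefs
import Cfsg.Agent.Lib.Helper84_TutteAPI
import Cfsg.Agent.Lib.Helper84_GlDefs
import Cfsg.Agent.Lib.Helper84_GlAPI

/-!
# S4359 market (architect helper84), package G-BR1

The bridge from the frozen hypotheses of S4359 to `PChainHyp` and to the commuting-element
hypothesis `hZ` of `G-LAM` / `G-A`.
-/

set_option autoImplicit false
set_option linter.unusedSectionVars false
set_option linter.unusedVariables false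

open scoped commutatorElement
open Cfsg.Agent.Lib.Helper84_TutteDefs Cfsg.Agent.Lib.Helper84_GlDefs

namespace Cfsg.Agent.Lib.Helper25_Gl_BR1

variable {G : Type*} [Group G] {P : Subgroup G} {g x0 : G} {p t lam : ℕ}

/-- a subgroup `N ≤ H` with `N.subgroupOf H` normal is `cj u`-invariant for `u ∈ H` -/
theorem cj_eq_of_subgroupOf_normal {N H : Subgroup G} (hNH : N ≤ H)
    (hN : (N.subgroupOf H).Normal) {u : G} (hu : u ∈ H) : cj u N = N := by
  have key : ∀ v ∈ H, cj v N ≤ N := by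
    intro v hv y hy
    rw [mem_cj] at hy
    have h1 : (⟨v⁻¹ * y * v, hNH hy⟩ : H) ∈ N.subgroupOf H := by
      rw [Subgroup.mem_subgroupOf]; exact hy
    have h2 := hN.conj_mem _ h1 ⟨v, hv⟩
    rw [Subgroup.mem_subgroupOf] at h2
    have h3 : v * (v⁻¹ * y * v) * v⁻¹ = y := by group
    have h4 : ((⟨v, hv⟩ * ⟨v⁻¹ * y * v, hNH hy⟩ * (⟨v, hv⟩ : H)⁻¹ : H) : G) =
        v * (v⁻¹ * y * v) * v⁻¹ := rfl
    rw [h4, h3] at h2
    exact h2
  apply le_antisymm (key u hu)
  have h5 := cj_le_iff.mp (key u⁻¹ (H.inv_mem hu))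
  rwa [inv_inv] at h5

/-- a `cj`-invariant subgroup of `P` is normal in `P` -/
theorem subgroupOf_normal_of_cj {Q P : Subgroup G} (h : ∀ u ∈ P, cj u Q = Q) :
    (Q.subgroupOf P).Normal := by
  constructor
  intro n hn u
  rw [Subgroup.mem_subgroupOf] at hn ⊢
  have h1 := h u.1 u.2
  have h2 : (u : G) * (n : G) * (u : G)⁻¹ ∈ cj (u : G) Q := conj_mem_cj hn
  rw [h1] at h2
  exact h2

/-- G-BR1 (M) -/
theorem pchainHyp_of [Finite G] (P : Subgroup G) (g : G) (p : ℕ) (hp : p.Prime)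
    (hN : ((P ⊓ cj g⁻¹ P).subgroupOf (cj g⁻¹ P)).Normal)
    (hidx : (P ⊓ cj g⁻¹ P).relIndex (cj g⁻¹ P) = p)
    (h1 : ∀ Q : Subgroup G, Q ≤ P → (Q.subgroupOf P).Normal → cj g Q = Q → Q = ⊥) :
    PChainHyp P g⁻¹ p := by
  refine ⟨inferInstance, hp, ?_, hidx, ?_⟩
  · intro u hu
    exact cj_eq_of_subgroupOf_normal inf_le_right hN hu
  · intro Q hQP hinv hg
    apply h1 Q hQP (subgroupOf_normal_of_cj hinv)
    have h2 := congrArg (cj g) hg
    rw [cj_cj, mul_inv_cancel, cj_one] at h2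
    exact h2.symm

end Cfsg.Agent.Lib.Helper25_Gl_BR1
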