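import Mathlib
import Cfsg.Agent.Lib.Helper84_TutteDefs
import Cfsg.Agent.Lib.Helper84_TutteAPI
import Cfsg.Agent.Lib.Helper84_GlDefs
import Cfsg.Agent.Lib.Helper84_GlAPI

/-!
# S4359 market (architect helper84), package G-BR2

The bridge from the frozen hypotheses of S4359 to `PChainHyp` and to the commuting-element
hypothesis `hZ` of `G-LAM` / `G-A`.
-/

set_option autoImplicit false
set_option linter.unusedSectionVars false
set_option linter.unusedVariables false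

open scoped commutatorElement
open Cfsg.Agent.Lib.Helper84_TutteDefs Cfsg.Agent.Lib.Helper84_GlDefs

namespace Cfsg.Agent.Lib.Helper25_Gl_BR2

variable {G : Type*} [Group G] {P : Subgroup G} {g x0 : G} {p t lam : ℕ}

/-- G-BR2 (M) -/
theorem center_hyp (h : PSys P g⁻¹ x0 p t) (n : ℕ) (K : Subgroup G)
    (hK : K = ⨆ i ∈ Finset.range (n + 1), cj (g ^ i)⁻¹ P)
    (h2 : P ⊓ (Subgroup.center K).map K.subtype = ⊥) :
    ∀ z ∈ P, (∀ i : ℤ, -(n : ℤ) ≤ i → i ≤ (t : ℤ) - 1 → z * xs g⁻¹ x0 i = xs g⁻¹ x0 i * z) → z = 1 := by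
  intro z hzP hz
  have hK' : K = XX g⁻¹ x0 (-(n : ℤ)) ((t : ℤ) - 1) := by
    rw [hK, ← h.iSup_cj n]
    simp only [inv_pow]
  have hPK : P ≤ K := by
    rw [hK]
    have h0 : cj (g ^ 0)⁻¹ P ≤ ⨆ i ∈ Finset.range (n + 1), cj (g ^ i)⁻¹ P :=
      le_iSup₂_of_le (f := fun i _ => cj (g ^ i)⁻¹ P) 0 (Finset.mem_range.mpr (Nat.succ_pos n))
        le_rfl
    rw [pow_zero, inv_one, cj_one] at h0
    exact h0
  have hzK : z ∈ K := hPK hzP
  have hcen : (⟨z, hzK⟩ : K) ∈ Subgroup.center K := by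
    rw [Subgroup.mem_center_iff]
    intro y
    apply Subtype.ext
    have hy : (y : G) ∈ XX g⁻¹ x0 (-(n : ℤ)) ((t : ℤ) - 1) := by
      rw [← hK']; exact y.2
    have := commute_XX hz hy
    exact this.symm
  have hmem : z ∈ P ⊓ (Subgroup.center K).map K.subtype :=
    ⟨hzP, ⟨⟨z, hzK⟩, hcen, rfl⟩⟩
  rw [h2] at hmem
  exact Subgroup.mem_bot.mp hmem

end Cfsg.Agent.Lib.Helper25_Gl_BR2
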