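import Mathlib
import Cfsg.Prelude.Def_LocalStructure

/-!
# Definitions for the L-Lemma (S2834)

`cj g X = g X g⁻¹`.  For a finite group `H` with a maximal subgroup `M` containing a Sylow
`p`-subgroup `T` such that `M` is the only maximal subgroup containing `T` and `⟨T^H⟩ = H`
(`TMin p M`), the conjugates `cj g M` play the role of the points of `Ω = H/M`.

A *good triple* `Good M B L g` for a subgroup `B`: `B ≤ L`, `B` fixes the point `cj g M`, `L` moves
it, every proper subgroup of `L` containing `B` fixes it, and some `L`-conjugate of `B` moves it.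

`Fam p B U`: `U` is a `p`-subgroup properly containing `B` and generated by the `H`-conjugates of
`B` that it contains.
-/

set_option autoImplicit false

namespace Cfsg.Agent.Lib.Helper48_LLDefs

/-- `cj g X = g X g⁻¹`. -/
abbrev cj {H : Type*} [Group H] (g : H) (X : Subgroup H) : Subgroup H :=
  X.map (MulAut.conj g).toMonoidHom

theorem mem_cj {H : Type*} [Group H] {g y : H} {X : Subgroup H} :
    y ∈ cj g X ↔ g⁻¹ * y * g ∈ X := by
  constructor
  · rintro ⟨z, hz, rfl⟩
    simpa [MulAut.conj_apply, mul_assoc] using hz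
  · intro h
    exact ⟨g⁻¹ * y * g, h, by simp [MulAut.conj_apply, mul_assoc]⟩

theorem conj_mem_cj {H : Type*} [Group H] {g y : H} {X : Subgroup H} (hy : y ∈ X) :
    g * y * g⁻¹ ∈ cj g X :=
  ⟨y, hy, by simp [MulAut.conj_apply]⟩

theorem cj_one {H : Type*} [Group H] (X : Subgroup H) : cj 1 X = X := by
  ext y; simp

theorem cj_cj {H : Type*} [Group H] (g h : H) (X : Subgroup H) : cj g (cj h X) = cj (g * h) X := by
  ext y; simp [mul_assoc]

theorem cj_mono {H : Type*} [Group H] (g : H) {X Y : Subgroup H} (h : X ≤ Y) : cj g X ≤ cj g Y :=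
  Subgroup.map_mono h

theorem cj_le_iff {H : Type*} [Group H] {g : H} {X Y : Subgroup H} :
    cj g X ≤ Y ↔ X ≤ cj g⁻¹ Y := by
  constructor
  · intro h
    have := cj_mono g⁻¹ h
    rwa [cj_cj, inv_mul_cancel, cj_one] at this
  · intro h
    have := cj_mono g h
    rwa [cj_cj, mul_inv_cancel, cj_one] at this

theorem cj_eq_self_of_mem {H : Type*} [Group H] {g : H} {X : Subgroup H} (hg : g ∈ X) :
    cj g X = X := by
  ext y
  rw [mem_cj]
  constructor
  · intro h
    have := X.mul_mem (X.mul_mem hg h) (X.inv_mem hg)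
    simpa [mul_assoc] using this
  · intro h
    exact X.mul_mem (X.mul_mem (X.inv_mem hg) h) hg

theorem cj_sup {H : Type*} [Group H] (g : H) (X Y : Subgroup H) : cj g (X ⊔ Y) = cj g X ⊔ cj g Y :=
  Subgroup.map_sup X Y _

theorem isPGroup_cj {H : Type*} [Group H] {p : ℕ} {g : H} {X : Subgroup H} (h : IsPGroup p X) :
    IsPGroup p (cj g X) :=
  h.map _

theorem card_cj {H : Type*} [Group H] (g : H) (X : Subgroup H) : Nat.card (cj g X) = Nat.card X :=
  Nat.card_congr (Subgroup.equivMapOfInjective X (MulAut.conj g).toMonoidHom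
    (MulAut.conj g).injective).toEquiv.symm

/-- `M` is a proper subgroup containing a Sylow `p`-subgroup `T` of `H` such that every proper
subgroup containing `T` lies in `M` and the normal closure of `T` is `H`. -/
def TMin (p : ℕ) [Fact p.Prime] {H : Type*} [Group H] (M : Subgroup H) : Prop :=
  M ≠ ⊤ ∧ ∃ T : Sylow p H, (T : Subgroup H) ≤ M ∧
    (∀ X : Subgroup H, (T : Subgroup H) ≤ X → X ≠ ⊤ → X ≤ M) ∧
    Subgroup.normalClosure ((T : Subgroup H) : Set H) = ⊤

/-- Good triple `(L, cj g M)` for `B`. -/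
def Good {H : Type*} [Group H] (M B L : Subgroup H) (g : H) : Prop :=
  B ≤ L ∧ B ≤ cj g M ∧ ¬ L ≤ cj g M ∧
    (∀ X : Subgroup H, B ≤ X → X < L → X ≤ cj g M) ∧
    ∃ x ∈ L, ¬ cj x B ≤ cj g M

/-- `U` is a `p`-subgroup properly containing `B` and generated by the conjugates of `B` inside
it. -/
def Fam (p : ℕ) {H : Type*} [Group H] (B U : Subgroup H) : Prop :=
  IsPGroup p U ∧ B ≤ U ∧ U ≠ B ∧ U ≤ ⨆ g : {g : H // cj g B ≤ U}, cj g.1 B

end Cfsg.Agent.Lib.Helper48_LLDefs
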