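import Mathlib
import Cfsg.Prelude.Def_LocalStructure
import Cfsg.Agent.Lib.Helper48_LLDefs

/-!
S2834 (L-Lemma) package TERMB (architect helper48): terminal case, part B - a minimal `L` moving the point is good.
-/

set_option autoImplicit false

open Cfsg.Agent.Lib.Helper48_LLDefs

namespace Cfsg.Agent.Lib.Helper25_LL_TERMB

universe u

variable {p : ℕ} [Fact p.Prime] {H : Type u} [Group H] [Finite H]

omit [Finite H] in
theorem cj_top (g : H) : cj g (⊤ : Subgroup H) = ⊤ := by
  ext y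
  rw [mem_cj]
  simp

omit [Finite H] in
theorem cj_ne_top {M : Subgroup H} (hM : M ≠ ⊤) (g : H) : cj g M ≠ ⊤ := by
  intro h
  apply hM
  have := congrArg (cj g⁻¹) h
  rwa [cj_cj, inv_mul_cancel, cj_one, cj_top] at this

theorem cj_eq_of_le {M : Subgroup H} {g g' : H} (h : cj g M ≤ cj g' M) : cj g M = cj g' M := by
  apply Subgroup.eq_of_le_of_card_ge h
  rw [card_cj, card_cj]

omit [Finite H] in
/-- a subgroup normalised by `y` -/
theorem cj_le_of_mem_normalizer {N : Subgroup H} {y : H}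
    (hy : y ∈ Subgroup.normalizer (N : Set H)) : cj y N ≤ N := by
  intro z hz
  rw [mem_cj] at hz
  have := (Subgroup.mem_normalizer_iff.mp hy (y⁻¹ * z * y)).mp hz
  simpa [mul_assoc] using this

theorem termb (M B : Subgroup H) (hT : TMin p M) (hBp : IsPGroup p B)
    (hB : ∃ g : H, ¬ B ≤ cj g M)
    (hterm : ∀ U : Subgroup H, Fam p B U → ∃ g : H, Good M U ⊤ g)
    (g : H) (hBg : B ≤ cj g M) (hN : Subgroup.normalizer (B : Set H) ≤ cj g M) :
    ∃ L : Subgroup H, Good M B L g := by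
  classical
  have hMtop : cj g M ≠ ⊤ := cj_ne_top hT.1 g
  -- a minimal `L`
  obtain ⟨L, hLmin⟩ := exists_minimal_of_wellFoundedLT
    (fun L : Subgroup H => B ≤ L ∧ ¬ L ≤ cj g M) ⟨⊤, le_top, fun h => hMtop (top_le_iff.mp h)⟩
  obtain ⟨⟨hBL, hLM⟩, hmin⟩ := hLmin
  have hclause4 : ∀ X : Subgroup H, B ≤ X → X < L → X ≤ cj g M := by
    intro X hBX hXL
    by_contra hcon
    exact (not_le_of_gt hXL) (hmin ⟨hBX, hcon⟩ hXL.le)
  refine ⟨L, hBL, hBg, hLM, hclause4, ?_⟩
  by_contra hcon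
  push Not at hcon
  -- work inside `↥L`
  obtain ⟨B', hB'⟩ : ∃ B' : Subgroup ↥L, B' = B.subgroupOf L := ⟨_, rfl⟩
  have hB'map : B'.map L.subtype = B := by
    rw [hB', Subgroup.subgroupOf_map_subtype, inf_of_le_left hBL]
  obtain ⟨N', hN'⟩ : ∃ N' : Subgroup ↥L, N' = Subgroup.normalClosure (B' : Set ↥L) := ⟨_, rfl⟩
  have hN'n : N'.Normal := by rw [hN']; exact Subgroup.normalClosure_normal
  have hB'N' : B' ≤ N' := by rw [hN']; exact Subgroup.le_normalClosure
  -- `N' ≤ (cj g M).subgroupOf L`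
  have hN'M : N' ≤ (cj g M).subgroupOf L := by
    rw [hN', Subgroup.normalClosure, Subgroup.closure_le]
    intro z hz
    rw [Group.mem_conjugatesOfSet_iff] at hz
    obtain ⟨b, hb, hbz⟩ := hz
    obtain ⟨x, rfl⟩ := isConj_iff.mp hbz
    rw [SetLike.mem_coe, Subgroup.mem_subgroupOf]
    apply hcon x.1 x.2
    have hb' : (b : H) ∈ B := by
      rw [hB'] at hb
      exact Subgroup.mem_subgroupOf.mp hb
    have := conj_mem_cj (g := (x : H)) hb'
    simpa using this
  -- Sylow subgroup of `N'` containing `B'`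
  have hB'p : IsPGroup p (B'.subgroupOf N') := by
    have h1 : IsPGroup p B' := by
      rw [hB']
      exact hBp.comap_subtype
    exact h1.comap_subtype
  obtain ⟨P', hP'⟩ := hB'p.exists_le_sylow
  obtain ⟨S', hS'⟩ : ∃ S' : Subgroup ↥L, S' = (P' : Subgroup ↥N').map N'.subtype := ⟨_, rfl⟩
  have hB'S' : B' ≤ S' := by
    intro b hb
    rw [hS']
    exact ⟨⟨b, hB'N' hb⟩, hP' (Subgroup.mem_subgroupOf.mpr hb), rfl⟩
  have hS'N' : S' ≤ N' := by
    rw [hS']
    exact Subgroup.map_subtype_le _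
  have hfrat : Subgroup.normalizer (S' : Set ↥L) ⊔ N' = ⊤ := by
    rw [hS']
    exact Sylow.normalizer_sup_eq_top P'
  -- `N_L(S')` is everything
  have hNS : Subgroup.normalizer (S' : Set ↥L) = ⊤ := by
    by_contra hne
    obtain ⟨X, hX⟩ : ∃ X : Subgroup H, X = (Subgroup.normalizer (S' : Set ↥L)).map L.subtype :=
      ⟨_, rfl⟩
    have hXL : X ≤ L := by rw [hX]; exact Subgroup.map_subtype_le _
    have hBX : B ≤ X := by
      rw [hX, ← hB'map]
      exact Subgroup.map_mono (hB'S'.trans Subgroup.le_normalizer)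
    have hXne : X ≠ L := by
      intro h
      apply hne
      rw [eq_top_iff]
      intro y _
      have hy : (y : H) ∈ X := by rw [h]; exact y.2
      rw [hX] at hy
      obtain ⟨y', hy', hyy'⟩ := hy
      have : y' = y := Subtype.ext hyy'
      rwa [this] at hy'
    have hXM := hclause4 X hBX (lt_of_le_of_ne hXL hXne)
    apply hLM
    intro y hy
    have hy' : (⟨y, hy⟩ : ↥L) ∈ Subgroup.normalizer (S' : Set ↥L) ⊔ N' := by
      rw [hfrat]; trivial
    have hle : Subgroup.normalizer (S' : Set ↥L) ⊔ N' ≤ (cj g M).subgroupOf L := by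
      refine sup_le ?_ hN'M
      intro z hz
      rw [Subgroup.mem_subgroupOf]
      apply hXM
      rw [hX]
      exact ⟨z, hz, rfl⟩
    exact Subgroup.mem_subgroupOf.mp (hle hy')
  have hS'n : S'.Normal := Subgroup.normalizer_eq_top_iff.mp hNS
  have hN'S' : N' = S' := by
    apply le_antisymm _ hS'N'
    rw [hN']
    exact Subgroup.normalClosure_le_normal hB'S'
  have hN'p : IsPGroup p N' := by
    rw [hN'S', hS']
    exact P'.2.map _
  -- back to `H`
  obtain ⟨N, hNdef⟩ : ∃ N : Subgroup H, N = N'.map L.subtype := ⟨_, rfl⟩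
  have hNL : N ≤ L := by rw [hNdef]; exact Subgroup.map_subtype_le _
  have hBN : B ≤ N := by rw [hNdef, ← hB'map]; exact Subgroup.map_mono hB'N'
  have hNM : N ≤ cj g M := by
    rw [hNdef]
    rintro _ ⟨z, hz, rfl⟩
    exact Subgroup.mem_subgroupOf.mp (hN'M hz)
  have hNp : IsPGroup p N := by rw [hNdef]; exact hN'p.map _
  -- `L` normalises `N`
  have hLnorm : L ≤ Subgroup.normalizer (N : Set H) := by
    intro y hy
    rw [Subgroup.mem_normalizer_iff]
    intro z
    rw [hNdef]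
    constructor
    · rintro ⟨z', hz', rfl⟩
      refine ⟨⟨y, hy⟩ * z' * ⟨y, hy⟩⁻¹, hN'n.conj_mem z' hz' _, rfl⟩
    · rintro ⟨w, hw, hwz⟩
      have h1 := hN'n.conj_mem w hw (⟨y, hy⟩ : ↥L)⁻¹
      refine ⟨(⟨y, hy⟩ : ↥L)⁻¹ * w * (⟨y, hy⟩ : ↥L)⁻¹⁻¹, h1, ?_⟩
      have : (w : H) = y * z * y⁻¹ := hwz
      simp only [Subgroup.coe_subtype, Subgroup.coe_mul, Subgroup.coe_inv, inv_inv]
      rw [this]
      group
  have hcjN : ∀ x ∈ L, cj x N ≤ N := fun x hx => cj_le_of_mem_normalizer (hLnorm hx)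
  by_cases hNB : N = B
  · -- `L` normalises `B`
    apply hLM
    rw [hNB] at hLnorm
    exact hLnorm.trans hN
  · -- `Fam p B N`
    have hfam : Fam p B N := by
      refine ⟨hNp, hBN, hNB, ?_⟩
      have h1 : N' ≤ (⨆ g : {g : H // cj g B ≤ N}, cj g.1 B).comap L.subtype := by
        rw [hN', Subgroup.normalClosure, Subgroup.closure_le]
        intro z hz
        rw [Group.mem_conjugatesOfSet_iff] at hz
        obtain ⟨b, hb, hbz⟩ := hz
        obtain ⟨x, rfl⟩ := isConj_iff.mp hbz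
        rw [SetLike.mem_coe, Subgroup.mem_comap]
        have hb' : (b : H) ∈ B := by
          rw [hB'] at hb
          exact Subgroup.mem_subgroupOf.mp hb
        have hxN : cj (x : H) B ≤ N := (cj_mono _ hBN).trans (hcjN x.1 x.2)
        have hmem : L.subtype (x * b * x⁻¹) ∈ cj (x : H) B := by
          have := conj_mem_cj (g := (x : H)) hb'
          simpa using this
        exact Subgroup.mem_iSup_of_mem (⟨(x : H), hxN⟩ : {g : H // cj g B ≤ N}) hmem
      calc N = N'.map L.subtype := hNdef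
        _ ≤ _ := Subgroup.map_le_iff_le_comap.mpr h1
    obtain ⟨g', hg'⟩ := hterm N hfam
    obtain ⟨-, hNg', hg'top, hg'4, -⟩ := hg'
    have hcjlt : cj g M < ⊤ := lt_top_iff_ne_top.mpr hMtop
    have heq : cj g M = cj g' M := cj_eq_of_le (hg'4 (cj g M) hNM hcjlt)
    -- `N` is not normal in `H`
    have hnorm_ne : Subgroup.normalizer (N : Set H) ≠ ⊤ := by
      intro htop
      obtain ⟨g0, hg0⟩ := hB
      apply hg0
      have hy : g0 * g⁻¹ ∈ Subgroup.normalizer (N : Set H) := by rw [htop]; trivial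
      have hy' : (g0 * g⁻¹)⁻¹ ∈ Subgroup.normalizer (N : Set H) := by rw [htop]; trivial
      have h1 : N ≤ cj (g0 * g⁻¹) N := by
        have := cj_le_of_mem_normalizer hy'
        rwa [cj_le_iff, inv_inv] at this
      have h2 : cj (g0 * g⁻¹) N ≤ cj (g0 * g⁻¹) (cj g M) := cj_mono _ hNM
      rw [cj_cj, inv_mul_cancel_right] at h2
      exact hBN.trans (h1.trans h2)
    have hnorm_le := hg'4 (Subgroup.normalizer (N : Set H)) Subgroup.le_normalizer
      (lt_top_iff_ne_top.mpr hnorm_ne)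
    apply hLM
    rw [heq]
    exact hLnorm.trans hnorm_le

end Cfsg.Agent.Lib.Helper25_LL_TERMB
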