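import Mathlib
import Cfsg.Prelude.Def_LocalStructure
import Cfsg.Agent.Lib.Helper48_LLDefs

/-!
S2834 (L-Lemma) package TM (architect helper48): `L` is `p`-minimal with maximal subgroup `L ⊓ cj g M`.
-/

set_option autoImplicit false
set_option linter.unusedSectionVars false

open Cfsg.Agent.Lib.Helper48_LLDefs

namespace Cfsg.Agent.Lib.Helper25_LL_TM

universe u

variable {p : ℕ} [Fact p.Prime] {H : Type u} [Group H] [Finite H]

theorem tm (M U L : Subgroup H) (g : H) (hUp : IsPGroup p U) (hgood : Good M U L g)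
    (hnp : ¬ IsPGroup p ↥L) :
    TMin p ((L ⊓ cj g M).subgroupOf L) := by
  classical
  obtain ⟨hUL, hUM, hLM, h4, x, hxL, hx⟩ := hgood
  obtain ⟨U', hU'⟩ : ∃ U' : Subgroup ↥L, U' = U.subgroupOf L := ⟨_, rfl⟩
  have hU'map : U'.map L.subtype = U := by
    rw [hU', Subgroup.subgroupOf_map_subtype, inf_of_le_left hUL]
  have hU'p : IsPGroup p U' := by
    rw [hU']
    exact hUp.comap_subtype
  -- every proper subgroup of `↥L` containing `U'` fixes the point
  have key : ∀ X' : Subgroup ↥L, U' ≤ X' → X' ≠ ⊤ → X' ≤ (L ⊓ cj g M).subgroupOf L := by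
    intro X' hUX hXne
    have hXL : X'.map L.subtype ≤ L := Subgroup.map_subtype_le _
    have hUX' : U ≤ X'.map L.subtype := by
      rw [← hU'map]
      exact Subgroup.map_mono hUX
    have hne : X'.map L.subtype ≠ L := by
      intro h
      apply hXne
      rw [eq_top_iff]
      intro y _
      have hy : (y : H) ∈ X'.map L.subtype := by rw [h]; exact y.2
      obtain ⟨y', hy', hyy'⟩ := hy
      have : y' = y := Subtype.ext hyy'
      rwa [this] at hy'
    have hXM := h4 _ hUX' (lt_of_le_of_ne hXL hne)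
    intro z hz
    rw [Subgroup.mem_subgroupOf]
    exact ⟨z.2, hXM ⟨z, hz, rfl⟩⟩
  obtain ⟨T', hT'⟩ := hU'p.exists_le_sylow
  have hT'ne : (T' : Subgroup ↥L) ≠ ⊤ := by
    intro h
    apply hnp
    have h1 : IsPGroup p (⊤ : Subgroup ↥L) := by rw [← h]; exact T'.2
    exact h1.of_equiv Subgroup.topEquiv
  refine ⟨?_, T', key _ hT' hT'ne, fun X' hTX hXne => key X' (hT'.trans hTX) hXne, ?_⟩
  · intro h
    rw [Subgroup.subgroupOf_eq_top] at h
    exact hLM (h.trans inf_le_right)
  · by_contra hne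
    have hU'N : U' ≤ Subgroup.normalClosure ((T' : Subgroup ↥L) : Set ↥L) :=
      hT'.trans Subgroup.le_normalClosure
    have hNM := key _ hU'N hne
    apply hx
    intro z hz
    rw [mem_cj] at hz
    -- `z = x u x⁻¹` with `u ∈ U`
    have hu' : (⟨x⁻¹ * z * x, hUL hz⟩ : ↥L) ∈ U' := by
      rw [hU', Subgroup.mem_subgroupOf]
      exact hz
    have hconj := (Subgroup.normalClosure_normal (s := ((T' : Subgroup ↥L) : Set ↥L))).conj_mem
      _ (hU'N hu') (⟨x, hxL⟩ : ↥L)
    have hmem := hNM hconj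
    rw [Subgroup.mem_subgroupOf] at hmem
    have hval : ((⟨x, hxL⟩ * ⟨x⁻¹ * z * x, hUL hz⟩ * (⟨x, hxL⟩ : ↥L)⁻¹ : ↥L) : H) = z := by
      simp only [Subgroup.coe_mul, Subgroup.coe_inv]
      group
    rw [hval] at hmem
    exact hmem.2

end Cfsg.Agent.Lib.Helper25_LL_TM
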