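import Mathlib
import Cfsg.Agent.Lib.Helper44_MI3Defs

set_option autoImplicit false

/-!
helper25: MI3-FIXCNT (architect helper44, S2144): fixed points of an involution normalising a regular
`U_u` (pure counting).
-/

namespace Cfsg.Agent.Lib.Helper25_MI3_FIXCNT

open Module Cfsg.Agent.Lib.Helper14_OmegaSimple Cfsg.Agent.Lib.Helper22_MI2Defs
  Cfsg.Agent.Lib.Helper44_MI3Defs

variable {F V : Type*} [Field F] [AddCommGroup V] [Module F V]

section action

variable {X : Type*} [MulAction (V ≃ₗ[F] V) X]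

theorem card_fixed_eq [Finite F] [FiniteDimensional F V] (Q : QuadraticForm F V)
    (hQ : (QuadraticMap.polarBilin Q).Nondegenerate) (hdim : 5 ≤ finrank F V)
    (Ω : Set X) (hΩ : IsOrbit Q Ω) {u u' : V} (hu : Q u = 0) (hu' : Q u' = 0)
    (huu' : QuadraticMap.polar (⇑Q) u u' = 1)
    (hreg : ∀ ω ∈ Ω, ∀ w : V, QuadraticMap.polar (⇑Q) u w = 0 → E Q u w • ω = ω →
      w ∈ Submodule.span F {u})
    (htr : ∀ ω ∈ Ω, ∀ ω' ∈ Ω, ∃ w ∈ perp2 Q u u', E Q u w • ω = ω')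
    {s : V ≃ₗ[F] V} (hs : s ∈ T Q) {c : F} (hc : c ≠ 0) (hsu : s u = c • u)
    (hsW : ∀ w ∈ perp2 Q u u', c • s w ∈ perp2 Q u u')
    {ω₀ : X} (hω₀ : ω₀ ∈ Ω) (hfix : s • ω₀ = ω₀) :
    {ω ∈ Ω | s • ω = ω}.ncard = Nat.card {w : ↥(perp2 Q u u') // c • s (w : V) = (w : V)} := by
  have hmemW : ∀ w : V, w ∈ perp2 Q u u' ↔
      QuadraticMap.polar (⇑Q) u w = 0 ∧ QuadraticMap.polar (⇑Q) u' w = 0 :=
    fun w => Cfsg.Agent.Lib.Helper44_QuadClass.mem_perp Q u u'
  have hsO := T_le_oG Q hs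
  -- the map `w ↦ E u w • ω₀` stays in `Ω`
  have hφΩ : ∀ w : V, QuadraticMap.polar (⇑Q) u w = 0 → E Q u w • ω₀ ∈ Ω :=
    fun w hw => hΩ.inv _ (E_mem_T Q hQ hdim hu hw) _ hω₀
  -- injectivity on `W`
  have hinj : ∀ w ∈ perp2 Q u u', ∀ w' ∈ perp2 Q u u',
      E Q u w • ω₀ = E Q u w' • ω₀ → w = w' := by
    intro w hw w' hw' h
    have h1 := (hmemW w).mp hw
    have h1' := (hmemW w').mp hw'
    have hneg : QuadraticMap.polar (⇑Q) u (-w') = 0 := by
      rw [QuadraticMap.polar_neg_right, h1'.1, neg_zero]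
    have h2 : E Q u (-w' + w) • ω₀ = ω₀ := by
      rw [← E_mul Q hu hneg h1.1, ← E_inv Q hu h1'.1, mul_smul, h, ← mul_smul, inv_mul_cancel,
        one_smul]
    have hsub : QuadraticMap.polar (⇑Q) u (-w' + w) = 0 := by
      rw [QuadraticMap.polar_add_right, hneg, h1.1, add_zero]
    have h3 := hreg ω₀ hω₀ _ hsub h2
    obtain ⟨a, ha⟩ := Submodule.mem_span_singleton.mp h3
    have h4 : QuadraticMap.polar (⇑Q) u' (-w' + w) = 0 := by
      rw [QuadraticMap.polar_add_right, QuadraticMap.polar_neg_right, h1'.2, h1.2, neg_zero,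
        add_zero]
    rw [← ha, QuadraticMap.polar_smul_right, QuadraticMap.polar_comm, huu', smul_eq_mul,
      mul_one] at h4
    rw [h4, zero_smul] at ha
    have : w = w' := by
      have h5 : -w' + w = 0 := ha.symm
      rw [neg_add_eq_zero] at h5
      exact h5.symm
    exact this
  -- the action of `s`
  have hact : ∀ w ∈ perp2 Q u u', s • (E Q u w • ω₀) = E Q u (c • s w) • ω₀ := by
    intro w hw
    have h1 := (hmemW w).mp hw
    have hconj := conj_E Q hsO hu h1.1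
    have hpol : QuadraticMap.polar (⇑Q) u (s w) = 0 := by
      have h2 := oG_polar Q hsO u w
      rw [hsu, QuadraticMap.polar_smul_left, h1.1, smul_eq_mul] at h2
      rcases mul_eq_zero.mp h2 with h3 | h3
      · exact absurd h3 hc
      · exact h3
    have h4 : s * E Q u w = E Q (s u) (s w) * s := by
      rw [← hconj]
      group
    rw [← mul_smul, h4, mul_smul, hfix, hsu, E_smul_left Q hu hpol c]
  rw [← Nat.card_coe_set_eq]
  symm
  apply Nat.card_congr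
  refine Equiv.ofBijective
    (fun w => ⟨E Q u ((w : ↥(perp2 Q u u')) : V) • ω₀, ?_⟩) ⟨?_, ?_⟩
  · -- well defined
    obtain ⟨⟨w, hw⟩, hwfix⟩ := w
    have h1 := (hmemW w).mp hw
    refine ⟨hφΩ w h1.1, ?_⟩
    rw [hact w hw]
    exact congrArg (fun z => E Q u z • ω₀) hwfix
  · -- injective
    rintro ⟨⟨w, hw⟩, hwfix⟩ ⟨⟨w', hw'⟩, hwfix'⟩ h
    have h1 : E Q u w • ω₀ = E Q u w' • ω₀ := congrArg Subtype.val h
    have h2 := hinj w hw w' hw' h1
    subst h2
    rfl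
  · -- surjective
    rintro ⟨ω, hωΩ, hωfix⟩
    obtain ⟨w, hw, hwω⟩ := htr ω₀ hω₀ ω hωΩ
    have hfixw : c • s w = w := by
      apply hinj _ (hsW w hw) w hw
      rw [← hact w hw, hwω, hωfix]
    exact ⟨⟨⟨w, hw⟩, hfixw⟩, Subtype.ext hwω⟩

end action

end Cfsg.Agent.Lib.Helper25_MI3_FIXCNT
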