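import Mathlib
import Cfsg.Agent.Lib.Helper44_MI3Defs

set_option autoImplicit false

/-!
helper25: MI3-INVOL (architect helper44, S2144): an involution of `T Q` acting as `-1` on a
hyperbolic 4-space and trivially on its orthogonal complement.
-/

namespace Cfsg.Agent.Lib.Helper25_MI3_INVOL

open Module Cfsg.Agent.Lib.Helper14_OmegaSimple Cfsg.Agent.Lib.Helper22_MI2Defs
  Cfsg.Agent.Lib.Helper44_MI3Defs

variable {F V : Type*} [Field F] [AddCommGroup V] [Module F V]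

theorem exists_involution [Finite F] [FiniteDimensional F V] (Q : QuadraticForm F V)
    {e₁ f₁ e₂ f₂ : V} (he₁ : Q e₁ = 0) (hf₁ : Q f₁ = 0) (he₂ : Q e₂ = 0) (hf₂ : Q f₂ = 0)
    (h11 : QuadraticMap.polar (⇑Q) e₁ f₁ = 1) (h22 : QuadraticMap.polar (⇑Q) e₂ f₂ = 1)
    (h12 : QuadraticMap.polar (⇑Q) e₁ e₂ = 0) (h12' : QuadraticMap.polar (⇑Q) e₁ f₂ = 0)
    (h21 : QuadraticMap.polar (⇑Q) f₁ e₂ = 0) (h21' : QuadraticMap.polar (⇑Q) f₁ f₂ = 0) :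
    ∃ s ∈ T Q, s * s = 1 ∧ s e₁ = -e₁ ∧ s f₁ = -f₁ ∧ s e₂ = -e₂ ∧ s f₂ = -f₂ ∧
      ∀ x : V, QuadraticMap.polar (⇑Q) x e₁ = 0 → QuadraticMap.polar (⇑Q) x f₁ = 0 →
        QuadraticMap.polar (⇑Q) x e₂ = 0 → QuadraticMap.polar (⇑Q) x f₂ = 0 → s x = x := by
  have hsymm : ∀ x y : V, QuadraticMap.polar (⇑Q) x y = QuadraticMap.polar (⇑Q) y x :=
    fun x y => QuadraticMap.polar_comm _ x y
  have hself : ∀ x : V, Q x = 0 → QuadraticMap.polar (⇑Q) x x = 0 := by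
    intro x hx
    rw [QuadraticMap.polar_self, hx, smul_zero]
  -- the Gram matrix
  have g11 : QuadraticMap.polar (⇑Q) f₁ e₁ = 1 := by rw [hsymm]; exact h11
  have g22 : QuadraticMap.polar (⇑Q) f₂ e₂ = 1 := by rw [hsymm]; exact h22
  have g12 : QuadraticMap.polar (⇑Q) e₂ e₁ = 0 := by rw [hsymm]; exact h12
  have g12' : QuadraticMap.polar (⇑Q) f₂ e₁ = 0 := by rw [hsymm]; exact h12'
  have g21 : QuadraticMap.polar (⇑Q) e₂ f₁ = 0 := by rw [hsymm]; exact h21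
  have g21' : QuadraticMap.polar (⇑Q) f₂ f₁ = 0 := by rw [hsymm]; exact h21'
  have ee₁ := hself e₁ he₁
  have ee₂ := hself e₂ he₂
  have ff₁ := hself f₁ hf₁
  have ff₂ := hself f₂ hf₂
  have ha : ∀ x, E Q e₁ e₂ x =
      x + QuadraticMap.polar (⇑Q) x e₁ • e₂ - QuadraticMap.polar (⇑Q) x e₂ • e₁ := by
    intro x
    rw [E_apply Q he₁ h12, he₂, zero_mul, zero_smul, sub_zero]
  have hb : ∀ x, E Q f₁ f₂ x =
      x + QuadraticMap.polar (⇑Q) x f₁ • f₂ - QuadraticMap.polar (⇑Q) x f₂ • f₁ := by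
    intro x
    rw [E_apply Q hf₁ h21', hf₂, zero_mul, zero_smul, sub_zero]
  have haT : E Q e₁ e₂ ∈ T Q := root_mem_T Q he₁ he₂ h12
  have hbT : E Q f₁ f₂ ∈ T Q := root_mem_T Q hf₁ hf₂ h21'
  obtain ⟨w, hwdef⟩ : ∃ w : V ≃ₗ[F] V, w = E Q e₁ e₂ * E Q f₁ f₂ * E Q e₁ e₂ := ⟨_, rfl⟩
  have hwT : w ∈ T Q := by
    rw [hwdef]
    exact (T Q).mul_mem ((T Q).mul_mem haT hbT) haT
  have hw : ∀ x, w x = E Q e₁ e₂ (E Q f₁ f₂ (E Q e₁ e₂ x)) := by
    intro x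
    rw [hwdef]
    rfl
  -- the action of `a`, `b` on the basis
  have a1 : E Q e₁ e₂ e₁ = e₁ := by rw [ha, ee₁, h12]; simp
  have a2 : E Q e₁ e₂ e₂ = e₂ := by rw [ha, g12, ee₂]; simp
  have a3 : E Q e₁ e₂ f₁ = f₁ + e₂ := by rw [ha, g11, h21]; simp
  have a4 : E Q e₁ e₂ f₂ = f₂ - e₁ := by rw [ha, g12', g22]; simp
  have b1 : E Q f₁ f₂ e₁ = e₁ + f₂ := by rw [hb, h11, h12']; simp
  have b2 : E Q f₁ f₂ e₂ = e₂ - f₁ := by rw [hb, g21, h22]; simp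
  have b3 : E Q f₁ f₂ f₁ = f₁ := by rw [hb, ff₁, h21']; simp
  have b4 : E Q f₁ f₂ f₂ = f₂ := by rw [hb, g21', ff₂]; simp
  have w1 : w e₁ = f₂ := by
    rw [hw, a1, b1, map_add, a1, a4]; abel
  have w2 : w f₂ = -e₁ := by
    rw [hw, a4, map_sub, b4, b1, show f₂ - (e₁ + f₂) = -e₁ by abel, map_neg, a1]
  have w3 : w e₂ = -f₁ := by
    rw [hw, a2, b2, map_sub, a2, a3]; abel
  have w4 : w f₁ = e₂ := by
    rw [hw, a3, map_add, b3, b2, show f₁ + (e₂ - f₁) = e₂ by abel, a2]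
  have wfix : ∀ x : V, QuadraticMap.polar (⇑Q) x e₁ = 0 → QuadraticMap.polar (⇑Q) x f₁ = 0 →
      QuadraticMap.polar (⇑Q) x e₂ = 0 → QuadraticMap.polar (⇑Q) x f₂ = 0 → w x = x := by
    intro x x1 x2 x3 x4
    have e1 : E Q e₁ e₂ x = x := by rw [ha, x1, x3]; simp
    have e2 : E Q f₁ f₂ x = x := by rw [hb, x2, x4]; simp
    rw [hw, e1, e2, e1]
  have s1 : (w * w) e₁ = -e₁ := by
    change w (w e₁) = -e₁
    rw [w1, w2]
  have s2 : (w * w) f₁ = -f₁ := by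
    change w (w f₁) = -f₁
    rw [w4, w3]
  have s3 : (w * w) e₂ = -e₂ := by
    change w (w e₂) = -e₂
    rw [w3, map_neg, w4]
  have s4 : (w * w) f₂ = -f₂ := by
    change w (w f₂) = -f₂
    rw [w2, map_neg, w1]
  have sfix : ∀ x : V, QuadraticMap.polar (⇑Q) x e₁ = 0 → QuadraticMap.polar (⇑Q) x f₁ = 0 →
      QuadraticMap.polar (⇑Q) x e₂ = 0 → QuadraticMap.polar (⇑Q) x f₂ = 0 → (w * w) x = x := by
    intro x x1 x2 x3 x4
    change w (w x) = x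
    rw [wfix x x1 x2 x3 x4, wfix x x1 x2 x3 x4]
  refine ⟨w * w, (T Q).mul_mem hwT hwT, ?_, s1, s2, s3, s4, sfix⟩
  -- `s * s = 1`
  ext x
  obtain ⟨y, hy⟩ : ∃ y : V, y = QuadraticMap.polar (⇑Q) x f₁ • e₁ +
      QuadraticMap.polar (⇑Q) x e₁ • f₁ + QuadraticMap.polar (⇑Q) x f₂ • e₂ +
      QuadraticMap.polar (⇑Q) x e₂ • f₂ := ⟨_, rfl⟩
  have hsy : (w * w) y = -y := by
    rw [hy]
    simp only [map_add, map_smul, s1, s2, s3, s4]
    simp only [smul_neg, neg_add]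
  have p1 : QuadraticMap.polar (⇑Q) (x - y) e₁ = 0 := by
    rw [hy]
    simp only [QuadraticMap.polar_sub_left, QuadraticMap.polar_add_left,
      QuadraticMap.polar_smul_left, ee₁, g11, g12, g12', smul_eq_mul]
    ring
  have p2 : QuadraticMap.polar (⇑Q) (x - y) f₁ = 0 := by
    rw [hy]
    simp only [QuadraticMap.polar_sub_left, QuadraticMap.polar_add_left,
      QuadraticMap.polar_smul_left, h11, ff₁, g21, g21', smul_eq_mul]
    ring
  have p3 : QuadraticMap.polar (⇑Q) (x - y) e₂ = 0 := by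
    rw [hy]
    simp only [QuadraticMap.polar_sub_left, QuadraticMap.polar_add_left,
      QuadraticMap.polar_smul_left, h12, h21, ee₂, g22, smul_eq_mul]
    ring
  have p4 : QuadraticMap.polar (⇑Q) (x - y) f₂ = 0 := by
    rw [hy]
    simp only [QuadraticMap.polar_sub_left, QuadraticMap.polar_add_left,
      QuadraticMap.polar_smul_left, h12', h21', h22, ff₂, smul_eq_mul]
    ring
  have hx : x = (x - y) + y := by abel
  have h1 : (w * w) x = (x - y) - y := by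
    conv_lhs => rw [hx]
    rw [map_add, sfix _ p1 p2 p3 p4, hsy]
    abel
  change (w * w) ((w * w) x) = x
  rw [h1, map_sub, sfix _ p1 p2 p3 p4, hsy]
  abel

end Cfsg.Agent.Lib.Helper25_MI3_INVOL
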