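import Mathlib
import Cfsg.Agent.Lib.Helper29_ODDefs
import Cfsg.Agent.Lib.Helper94_OrthRefl
import Cfsg.Agent.Lib.Helper38_OD2Defs

/-!
# OD2-A1 (helper38, rows S5692/S5694): characteristic-free port of helper50's `Helper50_OD_A1`

If the Siegel group of `M` at a nonzero singular vector `w` of the block `D i` leaves the block,
there is a block `D j`, `j ≠ i`, with `Edge i j` and `Edge j i`.

Also here (used by OD-A2): `exists_dec` (decomposition of a vector along the blocks),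
`sieg_block_mem` (Siegel elements of a block lie in `S ⊓ Ω`), `block_le`, `InZ_swap`.
-/

set_option autoImplicit false

namespace Cfsg.Agent.Lib.Helper38_OD2_A1

open Module Cfsg.Agent.Lib.Helper94_Symp Cfsg.Agent.Lib.Helper94_OrthSmall
  Cfsg.Agent.Lib.Helper94_OrthSiegel Cfsg.Agent.Lib.Helper94_OrthSiegel2
  Cfsg.Agent.Lib.Helper94_OrthPara Cfsg.Agent.Lib.Helper94_OrthVec
  Cfsg.Agent.Lib.Helper94_OrthNondeg Cfsg.Agent.Lib.Helper94_OrthRefl
  Cfsg.Agent.Lib.Helper29_ODDefs Cfsg.Agent.Lib.Helper38_OD2Defs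

variable {F V : Type*} [Field F] [AddCommGroup V] [Module F V] [Finite F] [FiniteDimensional F V]
  {Q : V → F} {B : LinearMap.BilinForm F V}

omit [Finite F] [FiniteDimensional F V] in
/-- decomposition of a vector along the blocks -/
theorem exists_dec {t : ℕ} {D : Fin t → Submodule F V} (hsup : iSup D = ⊤) (z : V) :
    ∃ u : Fin t → V, (∀ j, u j ∈ D j) ∧ ∑ j, u j = z := by
  classical
  have hz : z ∈ ⨆ i ∈ (Finset.univ : Finset (Fin t)), D i := by
    simp only [Finset.mem_univ, iSup_pos]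
    rw [hsup]; trivial
  rw [Submodule.mem_iSup_finset_iff_exists_sum] at hz
  obtain ⟨μ, hμ⟩ := hz
  exact ⟨fun i => (μ i : V), fun i => (μ i).2, hμ⟩

omit [Finite F] in
/-- an invertible map sending a subspace into itself maps it onto itself -/
theorem map_eq_of_forall (W : Submodule F V) (g : V ≃ₗ[F] V) (h : ∀ v ∈ W, g v ∈ W) :
    W.map (g : V →ₗ[F] V) = W := by
  have hle : W.map (g : V →ₗ[F] V) ≤ W := by
    rintro _ ⟨v, hv, rfl⟩
    exact h v hv
  exact Submodule.eq_of_le_of_finrank_eq hle (LinearEquiv.finrank_map_eq g W)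

omit [Finite F] in
/-- Siegel elements of a block lie in `S ⊓ Ω`. -/
theorem sieg_block_mem {t k : ℕ} {D : Fin t → Submodule F V} {S M : Subgroup (V ≃ₗ[F] V)}
    (hC : Ctx2 Q B k D S M) {j : Fin t} {u v : V} (hu : u ∈ D j) (hv : v ∈ D j) (hQu : Q u = 0)
    (huv : B u v = 0) : sieg Q B u v ∈ S ⊓ ⁅oG Q, oG Q⁆ := by
  have hsymm := B_symm Q B hC.hQp
  refine Subgroup.mem_inf.2 ⟨?_, hC.hG2 u v hQu huv⟩
  refine (hC.hS _).2 ⟨1, fun i => ?_⟩
  rw [Equiv.Perm.one_apply]
  apply map_eq_of_forall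
  intro x hx
  rw [sieg_apply Q B hC.hQs hC.hQp hQu huv]
  by_cases hij : i = j
  · subst hij
    exact (D i).sub_mem ((D i).sub_mem ((D i).add_mem hx ((D i).smul_mem _ hv))
      ((D i).smul_mem _ hu)) ((D i).smul_mem _ hu)
  · rw [hC.hD.orth i j hij x hx u hu, hC.hD.orth i j hij x hx v hv]
    simpa using hx

omit [Finite F] in
/-- Siegel elements of a block lie in `M`. -/
theorem sieg_block_mem_M {t k : ℕ} {D : Fin t → Submodule F V} {S M : Subgroup (V ≃ₗ[F] V)}
    (hC : Ctx2 Q B k D S M) {j : Fin t} {u v : V} (hu : u ∈ D j) (hv : v ∈ D j) (hQu : Q u = 0)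
    (huv : B u v = 0) : sieg Q B u v ∈ M :=
  hC.hHM (sieg_block_mem hC hu hv hQu huv)

omit [Finite F] in
/-- the part of the Siegel group at a singular vector of a block inside the block is in `M` -/
theorem InZ_block {t k : ℕ} {D : Fin t → Submodule F V} {S M : Subgroup (V ≃ₗ[F] V)}
    (hC : Ctx2 Q B k D S M) {j : Fin t} {w z : V} (hw : w ∈ D j) (hz : z ∈ D j) (hQw : Q w = 0)
    (hwz : B w z = 0) : InZ Q B M w z :=
  ⟨hwz, fun c => sieg_block_mem_M hC hw ((D j).smul_mem c hz) hQw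
    (by rw [map_smul, hwz, smul_zero])⟩

/-- the set of `z` with `InZ M w z`, as a subspace -/
def XZ (hQs : ∀ (c : F) (v : V), Q (c • v) = c * c * Q v)
    (hQp : ∀ u v : V, Q (u + v) = Q u + Q v + B u v) (M : Subgroup (V ≃ₗ[F] V)) (w : V)
    (hw : Q w = 0) : Submodule F V where
  carrier := {z | InZ Q B M w z}
  add_mem' := fun h1 h2 => InZ_add hQs hQp hw h1 h2
  zero_mem' := InZ_zero hQs hQp hw
  smul_mem' := fun c _ h1 => InZ_smul c h1

/-- if the Siegel group of `M` at `w ∈ D i` contains a vector with a nonzero `D j`-component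
(`j ≠ i`), it contains `D j` -/
theorem block_le {t k : ℕ} {D : Fin t → Submodule F V} {S M : Subgroup (V ≃ₗ[F] V)}
    (hC : Ctx2 Q B k D S M) {k₀ : ℕ} (hirr : IrrK Q B k₀) (hk₀ : k₀ ≤ k) {i j : Fin t} (hij : j ≠ i) {w : V} (hw : w ∈ D i)
    (hQw : Q w = 0) {a a' : V} (ha : a ∈ D j) (ha0 : a ≠ 0) (ha' : ∀ y ∈ D j, B y a' = 0)
    (hz : InZ Q B M w (a + a')) : ∀ v ∈ D j, InZ Q B M w v := by
  have hsymm := B_symm Q B hC.hQp
  have hwD : ∀ x ∈ D j, B w x = 0 := fun x hx => by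
    rw [hsymm]; exact hC.hD.orth j i hij x hx w hw
  have hXinv : ∀ u ∈ D j, ∀ v ∈ D j, Q u = 0 → B u v = 0 →
      ∀ x ∈ XZ hC.hQs hC.hQp M w hQw, sieg Q B u v x ∈ XZ hC.hQs hC.hQp M w hQw := by
    intro u hu v hv hQu huv x hx
    have hgM : sieg Q B u v ∈ M := sieg_block_mem_M hC hu hv hQu huv
    have hgO := sieg_mem_oG Q B hC.hQs hC.hQp hQu huv
    have hfix : sieg Q B u v w = w := by
      rw [sieg_apply Q B hC.hQs hC.hQp hQu huv, hwD u hu, hwD v hv]
      simp
    have h1 : InZ Q B M (sieg Q B u v w) (sieg Q B u v x) :=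
      InZ_map hC.hQs hC.hQp hgM hgO hQw hx
    rw [hfix] at h1
    exact h1
  have hle : D j ≤ XZ hC.hQs hC.hQp M w hQw :=
    hirr (D j) (XZ hC.hQs hC.hQp M w hQw) (hC.hD.nd j) (by rw [hC.hD.fr j]; exact hk₀) hXinv
      a a' hz ha ha0 ha'
  exact fun v hv => hle hv

omit [Finite F] [FiniteDimensional F V] in
/-- for two orthogonal singular vectors, `sieg v (c • w) = sieg w (-c • v)` -/
theorem InZ_swap (hQs : ∀ (c : F) (v : V), Q (c • v) = c * c * Q v)
    (hQp : ∀ u v : V, Q (u + v) = Q u + Q v + B u v) {M : Subgroup (V ≃ₗ[F] V)} {v w : V}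
    (hQv : Q v = 0) (hQw : Q w = 0) (h : InZ Q B M w v) : InZ Q B M v w := by
  have hsymm := B_symm Q B hQp
  have hvw : B v w = 0 := by rw [hsymm]; exact h.1
  refine ⟨hvw, fun c => ?_⟩
  have heq : sieg Q B v (c • w) = sieg Q B w ((-c) • v) := by
    ext x
    rw [sieg_apply Q B hQs hQp hQv (by rw [map_smul, hvw, smul_zero]),
      sieg_apply Q B hQs hQp hQw (by rw [map_smul, h.1, smul_zero]), hQs, hQs, hQv, hQw]
    simp only [map_smul, smul_eq_mul, mul_zero, zero_mul, zero_smul, sub_zero]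
    module
  rw [heq]
  exact h.2 (-c)

/-- **OD-A1.** -/
theorem edge_of_notMem {t k : ℕ} {D : Fin t → Submodule F V} {S M : Subgroup (V ≃ₗ[F] V)}
    (hC : Ctx2 Q B k D S M) {k₀ : ℕ} (hirr : IrrK Q B k₀) (hk₀ : k₀ ≤ k) {i : Fin t} {w z : V} (hw : w ∈ D i) (hw0 : w ≠ 0)
    (hQw : Q w = 0) (hz : InZ Q B M w z) (hzD : z ∉ D i) :
    ∃ j, j ≠ i ∧ Edge Q B D M i j ∧ Edge Q B D M j i := by
  classical
  have hsymm := B_symm Q B hC.hQp
  obtain ⟨u, hu, hsum⟩ := exists_dec hC.hD.sup z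
  -- the components outside `D i`
  have hsplit : z = u i + ∑ l ∈ Finset.univ.erase i, u l := by
    rw [← hsum]; exact (Finset.add_sum_erase Finset.univ u (Finset.mem_univ i)).symm
  have hworth : ∀ l, l ≠ i → B w (u l) = 0 := fun l hl =>
    hC.hD.orth i l (Ne.symm hl) w hw (u l) (hu l)
  have hwz' : B w (∑ l ∈ Finset.univ.erase i, u l) = 0 := by
    rw [map_sum]
    exact Finset.sum_eq_zero fun l hl => hworth l (Finset.ne_of_mem_erase hl)
  have hwui : B w (u i) = 0 := by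
    have := hz.1
    rw [hsplit, map_add, hwz', add_zero] at this
    exact this
  have h1 : InZ Q B M w (u i) := InZ_block hC hw (hu i) hQw hwui
  have h2 : InZ Q B M w (∑ l ∈ Finset.univ.erase i, u l) := by
    have := InZ_sub hC.hQs hC.hQp hQw hz h1
    rwa [hsplit, add_sub_cancel_left] at this
  -- some component is nonzero
  have hne : ∃ j ∈ Finset.univ.erase i, u j ≠ 0 := by
    by_contra hcon
    push Not at hcon
    apply hzD
    rw [hsplit, Finset.sum_eq_zero hcon, add_zero]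
    exact hu i
  obtain ⟨j, hj, huj0⟩ := hne
  have hji : j ≠ i := Finset.ne_of_mem_erase hj
  refine ⟨j, hji, ?_, ?_⟩
  all_goals
    have hsplit2 : ∑ l ∈ Finset.univ.erase i, u l =
        u j + ∑ l ∈ (Finset.univ.erase i).erase j, u l :=
      (Finset.add_sum_erase (Finset.univ.erase i) u hj).symm
    have hperp : ∀ y ∈ D j, B y (∑ l ∈ (Finset.univ.erase i).erase j, u l) = 0 := by
      intro y hy
      rw [map_sum]
      refine Finset.sum_eq_zero fun l hl => ?_
      exact hC.hD.orth j l (Ne.symm (Finset.ne_of_mem_erase hl)) y hy (u l) (hu l)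
    rw [hsplit2] at h2
    -- `D j` lies in the Siegel group at `w`
    have hDj : ∀ v ∈ D j, InZ Q B M w v := block_le hC hirr hk₀ hji hw hQw (hu j) huj0 hperp h2
    -- `Edge j i`
    have hEji : Edge Q B D M j i := by
      intro v hv hv0 hQv y hy
      have h3 : InZ Q B M v w := InZ_swap hC.hQs hC.hQp hQv hQw (hDj v hv)
      have h4 : InZ Q B M v (w + 0) := by rwa [add_zero]
      exact block_le hC hirr hk₀ (Ne.symm hji) hv hQv hw hw0 (fun y _ => by simp) h4 y hy
  · -- `Edge i j`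
    intro x hx hx0 hQx y hy
    obtain ⟨v, hv, hv0, hQv⟩ := exists_singular_in Q B hC.hQs hC.hQp (D j)
      (by rw [hC.hD.fr j]; exact hC.hk)
    have h5 : InZ Q B M v x := hEji v hv hv0 hQv x hx
    have h6 : InZ Q B M x v := InZ_swap hC.hQs hC.hQp hQx hQv h5
    have h7 : InZ Q B M x (v + 0) := by rwa [add_zero]
    exact block_le hC hirr hk₀ hji hx hQx hv hv0 (fun y _ => by simp) h7 y hy
  · exact hEji

end Cfsg.Agent.Lib.Helper38_OD2_A1
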