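import Mathlib
import Cfsg.Agent.Lib.Helper29_ODDefs
import Cfsg.Agent.Lib.Helper38_OD2Defs
import Cfsg.Agent.Lib.Helper94_OrthRefl
import Cfsg.Agent.Lib.Helper38_OD2_A1

/-!
OD-STAR (helper29's OD packages for S5677): in case B, the Siegel group of `M` at a singular
vector `y` of an `M`-image `U` of a block is `U ∩ y^⊥` (∗a), and is supported on the support of
`y` (∗b).  Also two small decomposition lemmas (`exists_split`, `mem_of_perp'`).
-/

set_option autoImplicit false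
set_option linter.unusedSectionVars false

namespace Cfsg.Agent.Lib.Helper38_OD2_STAR

open Module Cfsg.Agent.Lib.Helper94_Symp Cfsg.Agent.Lib.Helper94_OrthSmall
  Cfsg.Agent.Lib.Helper94_OrthSiegel Cfsg.Agent.Lib.Helper94_OrthSiegel2
  Cfsg.Agent.Lib.Helper94_OrthPara Cfsg.Agent.Lib.Helper94_OrthVec
  Cfsg.Agent.Lib.Helper94_OrthNondeg Cfsg.Agent.Lib.Helper94_OrthRefl
  Cfsg.Agent.Lib.Helper29_ODDefs Cfsg.Agent.Lib.Helper38_OD2Defs

variable {F V : Type*} [Field F] [AddCommGroup V] [Module F V] [Finite F] [FiniteDimensional F V]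
  {Q : V → F} {B : LinearMap.BilinForm F V}

/-- splitting a vector into its `j`-component and a vector orthogonal to `D j` -/
theorem exists_split {t k : ℕ} {D : Fin t → Submodule F V} (hD : ODec Q B k D) (z : V)
    (j : Fin t) : ∃ a a' : V, a ∈ D j ∧ (∀ d ∈ D j, B d a' = 0) ∧ a + a' = z := by
  classical
  obtain ⟨u, hu, hsum⟩ := Cfsg.Agent.Lib.Helper38_OD2_A1.exists_dec hD.sup z
  refine ⟨u j, ∑ b ∈ Finset.univ.erase j, u b, hu j, ?_, ?_⟩
  · intro d hd
    rw [map_sum]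
    apply Finset.sum_eq_zero
    intro b hb
    exact hD.orth j b (Finset.ne_of_mem_erase hb).symm d hd (u b) (hu b)
  · rw [Finset.add_sum_erase _ _ (Finset.mem_univ j), hsum]

/-- a vector orthogonal to all blocks but one lies in that block -/
theorem mem_of_perp' (hQp : ∀ u v : V, Q (u + v) = Q u + Q v + B u v)
    {t k : ℕ} {D : Fin t → Submodule F V} (hD : ODec Q B k D) {y : V} {a : Fin t}
    (h : ∀ j, j ≠ a → Perp B D y j) : y ∈ D a := by
  classical
  have hsymm := B_symm Q B hQp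
  obtain ⟨u, hu, hsum⟩ := Cfsg.Agent.Lib.Helper38_OD2_A1.exists_dec hD.sup y
  have hz : ∀ b, b ≠ a → u b = 0 := by
    intro b hba
    by_contra hub
    obtain ⟨x, hx, hxu⟩ := hD.nd b (u b) (hu b) hub
    apply hxu
    have h1 := h b hba x hx
    rw [← hsum, map_sum, LinearMap.sum_apply, Finset.sum_eq_single b] at h1
    · rw [hsymm]
      exact h1
    · intro c _ hcb
      exact hD.orth c b hcb (u c) (hu c) x hx
    · intro hb
      exact absurd (Finset.mem_univ b) hb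
  rw [← hsum, Finset.sum_eq_single a]
  · exact hu a
  · intro b _ hba
    exact hz b hba
  · intro ha
    exact absurd (Finset.mem_univ a) ha

/-- (∗a) in case B. -/
theorem starA {t k : ℕ} {D : Fin t → Submodule F V} {S M : Subgroup (V ≃ₗ[F] V)}
    (hC : Ctx2 Q B k D S M) (hB : CaseB Q B D M) : StarA Q B D M := by
  intro g hg i y hy hy0 hQy z
  obtain ⟨x, hx, rfl⟩ := hy
  have hgO : g ∈ oG Q := hC.hMO hg
  rw [LinearEquiv.coe_coe] at hy0 hQy ⊢
  have hQx : Q x = 0 := by rw [← hgO x]; exact hQy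
  have hx0 : x ≠ 0 := by
    rintro rfl
    exact hy0 (map_zero _)
  constructor
  · intro hz
    have h1 := InZ_map hC.hQs hC.hQp (M.inv_mem hg) ((oG Q).inv_mem hgO) hQy hz
    rw [inv_apply_apply'] at h1
    have h2 := hB i x hx hx0 hQx _ h1
    refine ⟨⟨g⁻¹ z, h2, ?_⟩, hz.1⟩
    rw [LinearEquiv.coe_coe, apply_inv_apply']
  · rintro ⟨⟨z', hz', rfl⟩, hBz⟩
    rw [LinearEquiv.coe_coe] at hBz ⊢
    have hBxz : B x z' = 0 := by rw [← oG_B Q B hC.hQp hgO]; exact hBz
    have h1 : InZ Q B M x z' :=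
      ⟨hBxz, fun t => hC.hHM (Cfsg.Agent.Lib.Helper38_OD2_A1.sieg_block_mem hC hx
        ((D i).smul_mem t hz') hQx (by rw [map_smul, hBxz, smul_zero]))⟩
    exact InZ_map hC.hQs hC.hQp hg hgO hQx h1

/-- (∗b) in case B. -/
theorem starB {t k : ℕ} {D : Fin t → Submodule F V} {S M : Subgroup (V ≃ₗ[F] V)}
    (hC : Ctx2 Q B k D S M) {k₀ : ℕ} (hirr : IrrK Q B k₀) (hk₀ : k₀ ≤ k) (hB : CaseB Q B D M) : StarB Q B D M := by
  intro y hy j hyj z hz
  obtain ⟨hy0, hQy, g, hg, i, hyU⟩ := hy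
  have hsymm := B_symm Q B hC.hQp
  by_contra hzj
  let X : Submodule F V :=
    { carrier := {z | InZ Q B M y z}
      add_mem' := fun h1 h2 => InZ_add hC.hQs hC.hQp hQy h1 h2
      zero_mem' := InZ_zero hC.hQs hC.hQp hQy
      smul_mem' := fun c _ h => InZ_smul c h }
  have hXmem : ∀ w, w ∈ X ↔ InZ Q B M y w := fun w => Iff.rfl
  have hXinv : ∀ u ∈ D j, ∀ v ∈ D j, Q u = 0 → B u v = 0 → ∀ x ∈ X, sieg Q B u v x ∈ X := by
    intro u hu v hv hQu huv x hx
    have hsM : sieg Q B u v ∈ M :=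
      hC.hHM (Cfsg.Agent.Lib.Helper38_OD2_A1.sieg_block_mem hC hu hv hQu huv)
    have hsO : sieg Q B u v ∈ oG Q := sieg_mem_oG Q B hC.hQs hC.hQp hQu huv
    have h1 := InZ_map hC.hQs hC.hQp hsM hsO hQy ((hXmem x).mp hx)
    have hfix : sieg Q B u v y = y := by
      rw [sieg_apply Q B hC.hQs hC.hQp hQu huv, hyj u hu, hyj v hv]
      simp
    rw [hfix] at h1
    exact (hXmem _).mpr h1
  obtain ⟨a, a', haD, ha', hsum⟩ := exists_split hC.hD z j
  have ha0 : a ≠ 0 := by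
    rintro rfl
    apply hzj
    intro d hd
    rw [← hsum, zero_add, hsymm]
    exact ha' d hd
  have hle : D j ≤ X :=
    hirr (D j) X (hC.hD.nd j) (by rw [hC.hD.fr]; exact hk₀) hXinv a a'
      (by rw [hsum]; exact (hXmem z).mpr hz) haD ha0 ha'
  have hsa := starA hC hB
  have hXU : X ≤ (D i).map (g : V →ₗ[F] V) :=
    fun w hw => ((hsa g hg i y hyU hy0 hQy w).mp ((hXmem w).mp hw)).1
  have hfrU : finrank F ((D i).map (g : V →ₗ[F] V)) = k := by
    rw [← hC.hD.fr i]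
    exact LinearEquiv.finrank_map_eq g (D i)
  have hEq : D j = (D i).map (g : V →ₗ[F] V) :=
    Submodule.eq_of_le_of_finrank_eq (hle.trans hXU) (by rw [hC.hD.fr, hfrU])
  have hyDj : y ∈ D j := hEq ▸ hyU
  obtain ⟨x, hx, hxy⟩ := hC.hD.nd j y hyDj hy0
  exact hxy (by rw [hsymm]; exact hyj x hx)

/-- OD-STAR. -/
theorem star {t k : ℕ} {D : Fin t → Submodule F V} {S M : Subgroup (V ≃ₗ[F] V)}
    (hC : Ctx2 Q B k D S M) {k₀ : ℕ} (hirr : IrrK Q B k₀) (hk₀ : k₀ ≤ k) (hB : CaseB Q B D M) :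
    StarA Q B D M ∧ StarB Q B D M :=
  ⟨starA hC hB, starB hC hirr hk₀ hB⟩

end Cfsg.Agent.Lib.Helper38_OD2_STAR
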