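import Mathlib
import Cfsg.Agent.Lib.Helper38_OD2Defs
import Cfsg.Agent.Lib.Helper38_OD2_A1
import Cfsg.Agent.Lib.Helper38_OD2_STAR

set_option autoImplicit false
set_option linter.unusedSectionVars false

/-!
OD2 / case B, uniform argument (helper38, rows S5692 / S5694): vocabulary and auxiliary lemmas.

Setting: `M` contains the stabiliser `S ⊓ Ω` of the orthogonal decomposition `D`, and `CaseB` holds
(the Siegel groups of `M` at singular vectors of blocks stay inside the blocks).  A nonzero singular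
vector `y` of an `M`-image `g (D i)` of a block is of *type II* if it lies in no block.  The goal of
the CB packages is to show that there are no type II vectors, hence `M` permutes the blocks.
-/

namespace Cfsg.Agent.Lib.Helper38_CBDefs

open Module Cfsg.Agent.Lib.Helper94_Symp Cfsg.Agent.Lib.Helper94_OrthSmall
  Cfsg.Agent.Lib.Helper94_OrthSiegel Cfsg.Agent.Lib.Helper94_OrthSiegel2
  Cfsg.Agent.Lib.Helper94_OrthPara Cfsg.Agent.Lib.Helper94_OrthVec
  Cfsg.Agent.Lib.Helper94_OrthNondeg Cfsg.Agent.Lib.Helper94_OrthRefl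
  Cfsg.Agent.Lib.Helper29_ODDefs Cfsg.Agent.Lib.Helper38_OD2Defs
open Cfsg.Agent.Lib.Helper38_OD2_A1 (sieg_block_mem_M InZ_block)
open Cfsg.Agent.Lib.Helper38_OD2_STAR (starA)

variable {F V : Type*} [Field F] [AddCommGroup V] [Module F V]

/-- `y` is a nonzero singular vector of the `M`-image `g (D i)` of a block lying in no block. -/
structure TypeII (Q : V → F) {t : ℕ} (D : Fin t → Submodule F V) (M : Subgroup (V ≃ₗ[F] V))
    (g : V ≃ₗ[F] V) (i : Fin t) (y : V) : Prop where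
  hg : g ∈ M
  mem : y ∈ (D i).map (g : V →ₗ[F] V)
  ne : y ≠ 0
  sing : Q y = 0
  notin : ∀ j, y ∉ D j

/-- The subspace `A` contains no totally singular line (for a nondegenerate 4-space: minus type). -/
def NoTSLine (Q : V → F) (B : LinearMap.BilinForm F V) (A : Submodule F V) : Prop :=
  ∀ u ∈ A, ∀ v ∈ A, Q u = 0 → Q v = 0 → B u v = 0 → u = 0 ∨ ∃ c : F, v = c • u

variable [Finite F] [FiniteDimensional F V] {Q : V → F} {B : LinearMap.BilinForm F V}

/-- An element of `M` fixing the singular vector `y` acts on the Siegel group of `M` at `y`. -/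
theorem inz_fix {t k : ℕ} {D : Fin t → Submodule F V} {S M : Subgroup (V ≃ₗ[F] V)}
    (hC : Ctx2 Q B k D S M) {h : V ≃ₗ[F] V} (hh : h ∈ M) {y z : V} (hhy : h y = y) (hQy : Q y = 0)
    (hz : InZ Q B M y z) : InZ Q B M y (h z - z) := by
  have h1 := InZ_map hC.hQs hC.hQp hh (hC.hMO hh) hQy hz
  rw [hhy] at h1
  exact InZ_sub hC.hQs hC.hQp hQy h1 hz

/-- The Siegel group of `M` at a type II vector contains no nonzero singular vector of a block. -/
theorem eq_zero_of_inz_block {t k : ℕ} {D : Fin t → Submodule F V} {S M : Subgroup (V ≃ₗ[F] V)}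
    (hC : Ctx2 Q B k D S M) (hB : CaseB Q B D M) {g : V ≃ₗ[F] V} {i : Fin t} {y : V}
    (hy : TypeII Q D M g i y) {j : Fin t} {n : V} (hn : n ∈ D j) (hQn : Q n = 0)
    (hz : InZ Q B M y n) : n = 0 := by
  by_contra hn0
  have hsa := starA hC hB
  have hsymm := B_symm Q B hC.hQp
  have h1 := (hsa g hy.hg i y hy.mem hy.ne hy.sing n).mp hz
  have h2 : InZ Q B M n y :=
    (hsa g hy.hg i n h1.1 hn0 hQn y).mpr ⟨hy.mem, by rw [hsymm]; exact h1.2⟩
  exact hy.notin j (hB j n hn hn0 hQn y h2)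

omit [Finite F] [FiniteDimensional F V] in
/-- In a nondegenerate subspace, `(A ∩ p^⊥)^⊥ ∩ A = ⟨p⟩`. -/
theorem double_perp (hQp : ∀ u v : V, Q (u + v) = Q u + Q v + B u v) (A : Submodule F V)
    (hA : ∀ a ∈ A, a ≠ 0 → ∃ x ∈ A, B x a ≠ 0) {p v : V} (hp : p ∈ A) (hv : v ∈ A)
    (h : ∀ x ∈ A, B p x = 0 → B v x = 0) : ∃ c : F, v = c • p := by
  have hsymm := B_symm Q B hQp
  by_cases hp0 : p = 0
  · refine ⟨0, ?_⟩
    rw [zero_smul]
    by_contra hv0
    obtain ⟨x, hx, hxv⟩ := hA v hv hv0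
    apply hxv
    rw [hsymm]
    exact h x hx (by rw [hp0, map_zero, LinearMap.zero_apply])
  · obtain ⟨q, hq, hqp⟩ := hA p hp hp0
    have hpq : B p q ≠ 0 := by rw [hsymm]; exact hqp
    refine ⟨B v q / B p q, ?_⟩
    by_contra hne
    have hne' : v - (B v q / B p q) • p ≠ 0 := fun h0 => hne (sub_eq_zero.mp h0)
    obtain ⟨x, hx, hxv⟩ := hA _ (A.sub_mem hv (A.smul_mem _ hp)) hne'
    apply hxv
    have hmem : x - (B p x / B p q) • q ∈ A := A.sub_mem hx (A.smul_mem _ hq)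
    have h0 : B p (x - (B p x / B p q) • q) = 0 := by
      rw [map_sub, map_smul, smul_eq_mul, div_mul_cancel₀ _ hpq, sub_self]
    have h1 := h _ hmem h0
    rw [map_sub, map_smul, smul_eq_mul] at h1
    rw [hsymm, map_sub, LinearMap.sub_apply, map_smul, LinearMap.smul_apply, smul_eq_mul]
    field_simp
    field_simp at h1
    linear_combination h1

/-- Two non-orthogonal vectors of `A ∩ w^⊥`, for `w` a nonzero vector of a nondegenerate subspace
`A` of dimension at least three. -/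
theorem exists_pair (hQp : ∀ u v : V, Q (u + v) = Q u + Q v + B u v) (A : Submodule F V)
    (hA : ∀ a ∈ A, a ≠ 0 → ∃ x ∈ A, B x a ≠ 0) (h3 : 3 ≤ finrank F A) {w : V} (hw : w ∈ A)
    (hw0 : w ≠ 0) : ∃ v₁ ∈ A, ∃ v₂ ∈ A, B w v₁ = 0 ∧ B w v₂ = 0 ∧ B v₁ v₂ ≠ 0 := by
  have hsymm := B_symm Q B hQp
  obtain ⟨p, hp, hpw⟩ := hA w hw hw0
  have hwp : B w p ≠ 0 := by rw [hsymm]; exact hpw
  have h1 := finrank_le_inf_ker_add_one A (B w)
  have h2 := finrank_le_inf_ker_add_one (A ⊓ LinearMap.ker (B w)) (B p)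
  have hpos : 0 < finrank F (A ⊓ LinearMap.ker (B w) ⊓ LinearMap.ker (B p) : Submodule F V) := by
    omega
  obtain ⟨v₁, hv₁, hv₁0⟩ := Submodule.exists_mem_ne_zero_of_ne_bot
    (fun hbot => by rw [hbot, finrank_bot] at hpos; omega :
      (A ⊓ LinearMap.ker (B w) ⊓ LinearMap.ker (B p) : Submodule F V) ≠ ⊥)
  have hv₁A : v₁ ∈ A := hv₁.1.1
  have hwv₁ : B w v₁ = 0 := LinearMap.mem_ker.mp hv₁.1.2
  have hpv₁ : B p v₁ = 0 := LinearMap.mem_ker.mp hv₁.2
  obtain ⟨x, hx, hxv⟩ := hA v₁ hv₁A hv₁0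
  refine ⟨v₁, hv₁A, x - (B w x / B w p) • p, A.sub_mem hx (A.smul_mem _ hp), hwv₁, ?_, ?_⟩
  · rw [map_sub, map_smul, smul_eq_mul, div_mul_cancel₀ _ hwp, sub_self]
  · rw [hsymm, map_sub, LinearMap.sub_apply, map_smul, LinearMap.smul_apply, hpv₁, smul_zero,
      sub_zero]
    exact hxv

/-- A vector of `A ∩ w^⊥ ∩ p^⊥` outside the line `⟨w⟩` (`dim A ≥ 4`). -/
theorem exists_indep_orth2 (A : Submodule F V) (h4 : 4 ≤ finrank F A) (w p : V) :
    ∃ v ∈ A, B w v = 0 ∧ B p v = 0 ∧ ¬ ∃ c : F, v = c • w := by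
  have h1 := finrank_le_inf_ker_add_one A (B w)
  have h2 := finrank_le_inf_ker_add_one (A ⊓ LinearMap.ker (B w)) (B p)
  by_contra hcon
  push Not at hcon
  have hle : (A ⊓ LinearMap.ker (B w) ⊓ LinearMap.ker (B p) : Submodule F V) ≤
      Submodule.span F {w} := by
    intro v hv
    obtain ⟨c, hc⟩ := hcon v hv.1.1 (LinearMap.mem_ker.mp hv.1.2) (LinearMap.mem_ker.mp hv.2)
    rw [hc]
    exact Submodule.smul_mem _ _ (Submodule.subset_span rfl)
  have h3 := Submodule.finrank_mono hle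
  have h4' : finrank F (Submodule.span F {w}) ≤ 1 := by
    have := finrank_span_le_card (R := F) ({w} : Set V)
    simpa using this
  omega

/-- In a nondegenerate subspace `A` of dimension at least four, a vector orthogonal to all singular
vectors of `A ∩ p^⊥`, `p` nonsingular, is a multiple of `p`. -/
theorem span_of_sing_perp (hQs : ∀ (c : F) (v : V), Q (c • v) = c * c * Q v)
    (hQp : ∀ u v : V, Q (u + v) = Q u + Q v + B u v) (A : Submodule F V)
    (hA : ∀ a ∈ A, a ≠ 0 → ∃ x ∈ A, B x a ≠ 0) (h4 : 4 ≤ finrank F A) {p v : V} (hp : p ∈ A)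
    (hQpn : Q p ≠ 0) (hv : v ∈ A) (h : ∀ w ∈ A, Q w = 0 → B w p = 0 → B v w = 0) :
    ∃ c : F, v = c • p := by
  have hsymm := B_symm Q B hQp
  by_contra hcon
  -- a vector of `A ∩ p^⊥` not orthogonal to `v`
  obtain ⟨x, hx, hpx, hvx⟩ : ∃ x ∈ A, B p x = 0 ∧ B v x ≠ 0 := by
    by_contra hno
    push Not at hno
    exact hcon (double_perp hQp A hA hp hv hno)
  -- a nonzero singular vector of `A ∩ p^⊥`
  have h1 := finrank_le_inf_ker_add_one A (B p)
  obtain ⟨w₀, hw₀, hw₀0, hQw₀⟩ := exists_singular_in Q B hQs hQp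
    (A ⊓ LinearMap.ker (B p)) (by omega)
  have hw₀A : w₀ ∈ A := hw₀.1
  have hpw₀ : B p w₀ = 0 := LinearMap.mem_ker.mp hw₀.2
  have hvw₀ : B v w₀ = 0 := h w₀ hw₀A hQw₀ (by rw [hsymm]; exact hpw₀)
  -- `w₀` is not a multiple of `p`
  have hw₀p : ¬ ∃ c : F, w₀ = c • p := by
    rintro ⟨c, hc⟩
    have : Q w₀ = c * c * Q p := by rw [hc, hQs]
    rw [hQw₀] at this
    have hc0 : c = 0 := by
      rcases mul_eq_zero.mp this.symm with h' | h'
      · exact mul_self_eq_zero.mp h'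
      · exact absurd h' hQpn
    rw [hc0, zero_smul] at hc
    exact hw₀0 hc
  obtain ⟨x', hx', hpx', hw₀x'⟩ : ∃ x' ∈ A, B p x' = 0 ∧ B w₀ x' ≠ 0 := by
    by_contra hno
    push Not at hno
    exact hw₀p (double_perp hQp A hA hp hw₀A hno)
  -- a vector of `A ∩ p^⊥` orthogonal neither to `v` nor to `w₀`
  obtain ⟨x₀, hx₀, hpx₀, hvx₀, hw₀x₀⟩ : ∃ x₀ ∈ A, B p x₀ = 0 ∧ B v x₀ ≠ 0 ∧ B w₀ x₀ ≠ 0 := by
    by_cases h2 : B w₀ x = 0
    · by_cases h3 : B v x' = 0
      · refine ⟨x + x', A.add_mem hx hx', ?_, ?_, ?_⟩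
        · rw [map_add, hpx, hpx', add_zero]
        · rw [map_add, h3, add_zero]; exact hvx
        · rw [map_add, h2, zero_add]; exact hw₀x'
      · exact ⟨x', hx', hpx', h3, hw₀x'⟩
    · exact ⟨x, hx, hpx, hvx, h2⟩
  have hx₀w₀ : B x₀ w₀ ≠ 0 := by rw [hsymm]; exact hw₀x₀
  have hsing := sing_adjust Q B hQs hQp hQw₀ hx₀w₀
  have hmem : x₀ + (-(Q x₀ / B x₀ w₀)) • w₀ ∈ A := A.add_mem hx₀ (A.smul_mem _ hw₀A)
  have hperp : B (x₀ + (-(Q x₀ / B x₀ w₀)) • w₀) p = 0 := by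
    rw [map_add, LinearMap.add_apply, map_smul, LinearMap.smul_apply, hsymm x₀ p, hpx₀,
      hsymm w₀ p, hpw₀, smul_zero, add_zero]
  have h5 := h _ hmem hsing hperp
  rw [map_add, map_smul, hvw₀, smul_zero, add_zero] at h5
  exact hvx₀ h5

end Cfsg.Agent.Lib.Helper38_CBDefs
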