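import Mathlib
import Cfsg.Agent.Lib.Helper38_CBDefs
import Cfsg.Agent.Lib.Helper74_OD_BASIC

set_option autoImplicit false
set_option linter.unusedSectionVars false
set_option linter.unusedVariables false

/-!
# OD2 market (architect helper38, rows S5692 + S5694), package OD2-Q2TRI

`|F| = 2`: the trichotomy at a nonsingular component of a type II vector.
-/

namespace Cfsg.Agent.Lib.Helper25_OD2_Q2TRI

open Module Cfsg.Agent.Lib.Helper94_Symp Cfsg.Agent.Lib.Helper94_OrthSmall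
  Cfsg.Agent.Lib.Helper94_OrthSiegel Cfsg.Agent.Lib.Helper94_OrthSiegel2
  Cfsg.Agent.Lib.Helper94_OrthPara Cfsg.Agent.Lib.Helper94_OrthVec
  Cfsg.Agent.Lib.Helper94_OrthNondeg Cfsg.Agent.Lib.Helper94_OrthRefl
  Cfsg.Agent.Lib.Helper29_ODDefs Cfsg.Agent.Lib.Helper38_OD2Defs Cfsg.Agent.Lib.Helper38_CBDefs
open Cfsg.Agent.Lib.Helper38_OD2_A1 (sieg_block_mem_M InZ_block)
open Cfsg.Agent.Lib.Helper38_OD2_STAR (starA)

variable {F V : Type*} [Field F] [AddCommGroup V] [Module F V] [Finite F] [FiniteDimensional F V]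
  {Q : V → F} {B : LinearMap.BilinForm F V}

/-- in a field with two elements every non-zero element is `1` -/
theorem eq_one_of_ne_zero (hq : Nat.card F = 2) {c : F} (hc : c ≠ 0) : c = 1 := by
  obtain ⟨y, -, hy⟩ := (Nat.card_eq_two_iff' (0 : F)).mp hq
  rw [hy c hc, hy 1 one_ne_zero]

theorem two_eq_zero_of_card (hq : Nat.card F = 2) : (2 : F) = 0 := by
  by_contra h2
  have h1 := eq_one_of_ne_zero hq h2
  have : (1 : F) = 0 := by
    have h3 : (2 : F) = 1 + 1 := by norm_num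
    rw [h3] at h1
    exact add_eq_right.mp h1
  exact one_ne_zero this

/-- the element `e(w) = h z - z`, `h = sieg w p`, lies in the Siegel group at `y` -/
theorem inz_e {t k : ℕ} {D : Fin t → Submodule F V} {S M : Subgroup (V ≃ₗ[F] V)}
    (hC : Ctx2 Q B k D S M) (hB : CaseB Q B D M)
    {π : Fin t → (V →ₗ[F] V)} (hπ : Projs Q B D π)
    {g : V ≃ₗ[F] V} {i : Fin t} {y : V} (hy : TypeII Q D M g i y) {j : Fin t}
    (hpp : B (π j y) (π j y) = 0) {z : V} (hz : InZ Q B M y z)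
    {w : V} (hw : w ∈ D j) (hQw : Q w = 0) (hwp : B w (π j y) = 0) :
    InZ Q B M y (B z w • π j y - B z (π j y) • w - (Q (π j y) * B z w) • w) := by
  have hsymm := B_symm Q B hC.hQp
  have hp : π j y ∈ D j := hπ.mem j y
  have hh : sieg Q B w (π j y) ∈ M := sieg_block_mem_M hC hw hp hQw hwp
  have hyw : B y w = 0 := by rw [hπ.B_left j y w hw, hsymm, hwp]
  have hyp : B y (π j y) = 0 := by rw [hπ.B_left j y _ hp, hpp]
  have hhy : sieg Q B w (π j y) y = y := by
    rw [sieg_apply Q B hC.hQs hC.hQp hQw hwp, hyw, hyp]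
    simp
  have h1 := inz_fix hC hh hhy hy.sing hz
  have e : sieg Q B w (π j y) z - z =
      B z w • π j y - B z (π j y) • w - (Q (π j y) * B z w) • w := by
    rw [sieg_apply Q B hC.hQs hC.hQp hQw hwp]
    abel
  rw [e] at h1
  exact h1

/-- OD2-Q2TRI -/
theorem tri_two {t k : ℕ} {D : Fin t → Submodule F V} {S M : Subgroup (V ≃ₗ[F] V)}
    (hC : Ctx2 Q B k D S M) (hk4 : 4 ≤ k) (hq : Nat.card F = 2) (hB : CaseB Q B D M)
    {π : Fin t → (V →ₗ[F] V)} (hπ : Projs Q B D π)
    {g : V ≃ₗ[F] V} {i : Fin t} {y : V} (hy : TypeII Q D M g i y) {j : Fin t}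
    (hyj : Q (π j y) ≠ 0) {z : V} (hz : InZ Q B M y z) :
    (∃ c : F, π j z = c • π j y) ∨
    (B z (π j y) ≠ 0 ∧ InZ Q B M y (π j y) ∧
      ∀ w ∈ D j, w ≠ 0 → Q w = 0 → B w (π j y) = 0 → B z w ≠ 0) ∨
    (∃ n ∈ D j, n ≠ 0 ∧ n ≠ π j y ∧ InZ Q B M y n) := by
  have hsymm := B_symm Q B hC.hQp
  have h2 : (2 : F) = 0 := two_eq_zero_of_card hq
  have hp : π j y ∈ D j := hπ.mem j y
  have hQp1 : Q (π j y) = 1 := eq_one_of_ne_zero hq hyj
  have hpp : B (π j y) (π j y) = 0 := by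
    rw [B_self Q B hC.hQs hC.hQp, h2, zero_mul]
  have hneg : ∀ v : V, -v = v := by
    intro v
    have : (2 : F) • v = 0 := by rw [h2, zero_smul]
    rw [two_smul] at this
    exact neg_eq_of_add_eq_zero_left this
  -- a singular non-zero vector of `D j ∩ p^⊥`
  have hfr : finrank F (D j) = k := hC.hD.fr j
  have hex : ∃ w ∈ D j, w ≠ 0 ∧ Q w = 0 ∧ B w (π j y) = 0 := by
    have h1 := finrank_le_inf_ker_add_one (D j) (B (π j y))
    obtain ⟨w, hw, hw0, hQw⟩ := exists_singular_in Q B hC.hQs hC.hQp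
      (D j ⊓ LinearMap.ker (B (π j y))) (by omega)
    refine ⟨w, hw.1, hw0, hQw, ?_⟩
    rw [hsymm]
    exact LinearMap.mem_ker.mp hw.2
  by_cases hβ : B z (π j y) = 0
  · -- `β = 0`
    by_cases hall : ∀ w ∈ D j, Q w = 0 → B w (π j y) = 0 → B z w = 0
    · left
      refine span_of_sing_perp hC.hQs hC.hQp (D j) (hC.hD.nd j) (by omega) hp hyj (hπ.mem j z) ?_
      intro w hw hQw hwp
      rw [← hπ.B_left j z w hw]
      exact hall w hw hQw hwp
    · right; right
      push Not at hall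
      obtain ⟨w, hw, hQw, hwp, hφ⟩ := hall
      have hφ1 : B z w = 1 := eq_one_of_ne_zero hq hφ
      have hw0 : w ≠ 0 := by
        intro h0
        rw [h0, map_zero] at hφ
        exact hφ rfl
      have h1 := inz_e hC hB hπ hy hpp hz hw hQw hwp
      rw [hβ, hφ1, hQp1, one_smul, zero_smul, sub_zero, mul_one, one_smul] at h1
      refine ⟨π j y - w, (D j).sub_mem hp hw, ?_, ?_, h1⟩
      · intro h0
        have : π j y = w := sub_eq_zero.mp h0
        rw [this] at hyj
        exact hyj hQw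
      · intro h0
        apply hw0
        have : π j y - w = π j y - 0 := by rw [sub_zero]; exact h0
        exact (sub_right_injective this)
  · -- `β = 1`
    right; left
    have hβ1 : B z (π j y) = 1 := eq_one_of_ne_zero hq hβ
    have hall : ∀ w ∈ D j, w ≠ 0 → Q w = 0 → B w (π j y) = 0 → B z w ≠ 0 := by
      intro w hw hw0 hQw hwp hφ
      have h1 := inz_e hC hB hπ hy hpp hz hw hQw hwp
      rw [hφ, hβ1, zero_smul, mul_zero, zero_smul, sub_zero, zero_sub, one_smul, hneg] at h1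
      exact hw0 (eq_zero_of_inz_block hC hB hy hw hQw h1)
    refine ⟨hβ, ?_, hall⟩
    obtain ⟨w, hw, hw0, hQw, hwp⟩ := hex
    have hφ1 : B z w = 1 := eq_one_of_ne_zero hq (hall w hw hw0 hQw hwp)
    have h1 := inz_e hC hB hπ hy hpp hz hw hQw hwp
    rw [hφ1, hβ1, hQp1, one_smul, one_smul, mul_one, one_smul] at h1
    have e : π j y - w - w = π j y := by
      rw [sub_sub, ← two_smul F w, h2, zero_smul, sub_zero]
    rw [e] at h1
    exact h1

end Cfsg.Agent.Lib.Helper25_OD2_Q2TRI
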