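import Mathlib
import Cfsg.Agent.Lib.Helper94_OD3Defs

set_option autoImplicit false
set_option linter.unusedSectionVars false
set_option linter.unusedVariables false

/-!
# OD3 market (architect helper94, rows S5692 / S5694), package OD3-STRICT

The stabiliser of an orthogonal decomposition is a proper subgroup of `Ω = [O, O]`:
a Siegel element `sieg u z`, `u` singular in `D 0`, `z ≠ 0` in `D 1`, does not permute the blocks.
-/

namespace Cfsg.Agent.Lib.Helper25_OD3_STRICT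

open Module Cfsg.Agent.Lib.Helper94_Symp Cfsg.Agent.Lib.Helper94_OrthSmall
  Cfsg.Agent.Lib.Helper94_OrthSiegel Cfsg.Agent.Lib.Helper94_OrthNondeg
  Cfsg.Agent.Lib.Helper29_ODDefs Cfsg.Agent.Lib.Helper94_Q2Defs Cfsg.Agent.Lib.Helper94_OD3Defs

variable {F V : Type*} [Field F] [AddCommGroup V] [Module F V] [Finite F] [FiniteDimensional F V]
  {Q : V → F} {B : LinearMap.BilinForm F V} {t k : ℕ} {D : Fin t → Submodule F V}
  {S M L : Subgroup (V ≃ₗ[F] V)}

/-- a vector of a block `D l` has no nonzero component pair in two other distinct blocks -/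
theorem not_mem_block_of_two (hQp : ∀ u v : V, Q (u + v) = Q u + Q v + B u v)
    (hD : ODec Q B k D) {i j l : Fin t} (hij : i ≠ j) {d₀ d₁ : V} (h₀ : d₀ ∈ D i) (h₁ : d₁ ∈ D j)
    (h₀0 : d₀ ≠ 0) (h₁0 : d₁ ≠ 0) : d₀ + d₁ ∉ D l := by
  intro hmem
  have hsymm := B_symm Q B hQp
  by_cases hl : l = i
  · -- test against `D j`
    obtain ⟨x, hx, hxd⟩ := hD.nd j d₁ h₁ h₁0
    apply hxd
    have h1 : B x (d₀ + d₁) = 0 := by
      rw [hsymm]
      exact hD.orth l j (by rw [hl]; exact hij) _ hmem x hx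
    have h2 : B x d₀ = 0 := by
      rw [hsymm]
      exact hD.orth i j hij d₀ h₀ x hx
    rw [map_add, h2, zero_add] at h1
    exact h1
  · obtain ⟨x, hx, hxd⟩ := hD.nd i d₀ h₀ h₀0
    apply hxd
    have h1 : B x (d₀ + d₁) = 0 := by
      rw [hsymm]
      exact hD.orth l i hl _ hmem x hx
    have h2 : B x d₁ = 0 := hD.orth i j hij x hx d₁ h₁
    rw [map_add, h2, add_zero] at h1
    exact h1

/-- **OD3-STRICT** [M] -/
theorem STRICT (hQs : ∀ (c : F) (v : V), Q (c • v) = c * c * Q v)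
    (hQp : ∀ u v : V, Q (u + v) = Q u + Q v + B u v) (hN : B.Nondegenerate)
    (hD : ODec Q B k D) (hk : 3 ≤ k) (ht : 2 ≤ t) (hS : IsDStab D S)
    (hG2 : ∀ u z, Q u = 0 → B u z = 0 → sieg Q B u z ∈ ⁅oG Q, oG Q⁆) :
    S ⊓ ⁅oG Q, oG Q⁆ < ⁅oG Q, oG Q⁆ := by
  classical
  have hsymm := B_symm Q B hQp
  let i0 : Fin t := ⟨0, by omega⟩
  let i1 : Fin t := ⟨1, by omega⟩
  have h01 : i0 ≠ i1 := by
    intro h; have := congrArg Fin.val h; simp [i0, i1] at this
  -- a singular vector of `D 0`, a nonzero vector of `D 1`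
  obtain ⟨u, hu, hu0, hQu⟩ := Cfsg.Agent.Lib.Helper94_OrthSiegel2.exists_singular_in Q B hQs hQp (D i0) (by rw [hD.fr i0]; exact hk)
  have hpos : 0 < finrank F (D i1) := by rw [hD.fr i1]; omega
  obtain ⟨z, hz, hz0⟩ := Submodule.exists_mem_ne_zero_of_ne_bot
    (fun hbot => by rw [hbot, finrank_bot] at hpos; omega : D i1 ≠ ⊥)
  have huz : B u z = 0 := hD.orth i0 i1 h01 u hu z hz
  have hgmem : sieg Q B u z ∈ ⁅oG Q, oG Q⁆ := hG2 u z hQu huz
  obtain ⟨x, hx, hxu⟩ := hD.nd i0 u hu hu0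
  have hxz : B x z = 0 := hD.orth i0 i1 h01 x hx z hz
  have hgx : sieg Q B u z x = (x - (Q z * B x u) • u) + B x u • z := by
    rw [sieg_apply Q B hQs hQp hQu huz, hxz, zero_smul, sub_zero]
    abel
  have hd₀ : x - (Q z * B x u) • u ∈ D i0 := (D i0).sub_mem hx ((D i0).smul_mem _ hu)
  have hd₁ : B x u • z ∈ D i1 := (D i1).smul_mem _ hz
  have hd₁0 : B x u • z ≠ 0 := smul_ne_zero hxu hz0
  have hd₀0 : x - (Q z * B x u) • u ≠ 0 := by
    intro h0
    apply hxu
    have h1 : x = (Q z * B x u) • u := sub_eq_zero.mp h0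
    have huu : B u u = 0 := by rw [B_self Q B hQs hQp, hQu, mul_zero]
    rw [h1, map_smul, LinearMap.smul_apply, huu, smul_zero]
  have hnot : sieg Q B u z ∉ S := by
    intro hgS
    obtain ⟨σ, hσ⟩ := (hS _).mp hgS
    have hmem : sieg Q B u z x ∈ D (σ i0) := by
      rw [← hσ i0]
      exact ⟨x, hx, rfl⟩
    rw [hgx] at hmem
    exact not_mem_block_of_two hQp hD h01 hd₀ hd₁ hd₀0 hd₁0 hmem
  exact SetLike.lt_iff_le_and_exists.mpr ⟨inf_le_right, _, hgmem, fun h => hnot h.1⟩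

end Cfsg.Agent.Lib.Helper25_OD3_STRICT
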