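import Mathlib
import Cfsg.Agent.Lib.Helper95_OPDefs
import Cfsg.Agent.Lib.Helper95_OPBasic
import Cfsg.Agent.Lib.Helper48_OODefs
import Cfsg.Agent.Lib.Helper9_OP_PAIRS

set_option autoImplicit false

/-!
# S2344 market, wave 3 (cutter helper87), package OO2-PAIRSODD

The number of pairs `(y, z)` of singular vectors spanning a totally singular line of an odd-type
space of rank `n`: `(q^(2n) - 1) (q^(2n-1) - q)`.  (Copy of `Helper9_OP_PAIRS.card_root_pairs` with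
the odd counts; the general `fibreEquiv` and `card_nonzero_sing` are reused from there.)
-/

namespace Cfsg.Agent.Lib.Helper25_OO2_PAIRSODD

open Module Cfsg.Agent.Lib.Helper94_OrthSmall Cfsg.Agent.Lib.Helper44_QuadClass
  Cfsg.Agent.Lib.Helper14_OmegaSimple Cfsg.Agent.Lib.Helper38_MIODefs
  Cfsg.Agent.Lib.Helper95_OPDefs Cfsg.Agent.Lib.Helper95_OPBasic Cfsg.Agent.Lib.Helper48_OODefs
  Cfsg.Agent.Lib.Helper9_OP_PAIRS

variable {F : Type*} [Field F] [Fintype F]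

/-- arithmetic of the fibre count -/
theorem arith_fibre (q n : ℕ) (hn : 1 ≤ n) (hq : 1 ≤ q) :
    q * (q ^ (2 * (n - 1)) - 1) = q ^ (2 * n - 1) - q := by
  obtain ⟨j, rfl⟩ : ∃ j, n = j + 1 := ⟨n - 1, by omega⟩
  have e1 : 2 * (j + 1 - 1) = 2 * j := by omega
  have e2 : 2 * (j + 1) - 1 = 2 * j + 1 := by omega
  rw [e1, e2, Nat.mul_sub, mul_one, pow_succ']

theorem card_fibre_odd {W : Type*} [AddCommGroup W] [Module F W] [FiniteDimensional F W]
    (Qw : QuadraticForm F W) (n : ℕ) (hn : 1 ≤ n) (hP : IsOddT Qw n) (y : W)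
    (hy0 : y ≠ 0) (hy : Qw y = 0) :
    Nat.card {z : W // Qw z = 0 ∧ QuadraticMap.polar (⇑Qw) y z = 0 ∧ z ∉ Submodule.span F {y}} =
      Fintype.card F ^ (2 * n - 1) - Fintype.card F := by
  obtain ⟨y', hy', hyy'⟩ := exists_hyperbolic_partner Qw hP.nondeg hy0 hy
  have h1 := card_sing_perp Qw n hn hP hy hy' hyy'
  rw [← Nat.card_congr (fibreEquiv Qw hy hyy'), Nat.card_prod, Nat.card_eq_fintype_card, h1]
  exact arith_fibre _ n hn Fintype.card_pos

/-! ## OO2-PAIRSODD (M/L) -/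
theorem card_root_pairs_odd {W : Type*} [AddCommGroup W] [Module F W] [FiniteDimensional F W]
    (Qw : QuadraticForm F W) (n : ℕ) (hn : 2 ≤ n) (hP : IsOddT Qw n) :
    Nat.card {p : W × W // p.1 ≠ 0 ∧ Qw p.1 = 0 ∧ Qw p.2 = 0 ∧
        QuadraticMap.polar (⇑Qw) p.1 p.2 = 0 ∧ p.2 ∉ Submodule.span F {p.1}} =
      (Fintype.card F ^ (2 * n) - 1) * (Fintype.card F ^ (2 * n - 1) - Fintype.card F) := by
  classical
  have : Finite W := Module.finite_of_finite F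
  have : Fintype {y : W // y ≠ 0 ∧ Qw y = 0} := Fintype.ofFinite _
  have e : {p : W × W // p.1 ≠ 0 ∧ Qw p.1 = 0 ∧ Qw p.2 = 0 ∧
        QuadraticMap.polar (⇑Qw) p.1 p.2 = 0 ∧ p.2 ∉ Submodule.span F {p.1}} ≃
      Σ y : {y : W // y ≠ 0 ∧ Qw y = 0},
        {z : W // Qw z = 0 ∧ QuadraticMap.polar (⇑Qw) y.1 z = 0 ∧ z ∉ Submodule.span F {y.1}} :=
    { toFun := fun p => ⟨⟨p.1.1, p.2.1, p.2.2.1⟩, ⟨p.1.2, p.2.2.2.1, p.2.2.2.2.1, p.2.2.2.2.2⟩⟩
      invFun := fun s => ⟨(s.1.1, s.2.1), s.1.2.1, s.1.2.2, s.2.2.1, s.2.2.2.1, s.2.2.2.2⟩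
      left_inv := fun p => rfl
      right_inv := fun s => rfl }
  rw [Nat.card_congr e, Nat.card_sigma]
  have hfib : ∀ y : {y : W // y ≠ 0 ∧ Qw y = 0},
      Nat.card {z : W // Qw z = 0 ∧ QuadraticMap.polar (⇑Qw) y.1 z = 0 ∧
        z ∉ Submodule.span F {y.1}} = Fintype.card F ^ (2 * n - 1) - Fintype.card F :=
    fun y => card_fibre_odd Qw n (by omega) hP y.1 y.2.1 y.2.2
  rw [Finset.sum_congr rfl (fun y _ => hfib y), Finset.sum_const, Finset.card_univ, smul_eq_mul,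
    ← Nat.card_eq_fintype_card]
  congr 1
  have h1 := card_nonzero_sing Qw
  rw [hP.zeros] at h1
  omega

end Cfsg.Agent.Lib.Helper25_OO2_PAIRSODD
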