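import Mathlib
import Cfsg.Prelude.Def_GeometricClasses
import Cfsg.Agent.Lib.Helper13_OrthC8Defs
import Cfsg.Agent.Lib.Helper40_SpPrimeOrder
import Cfsg.Agent.Lib.Helper40_OrdOrth
import Cfsg.Agent.Lib.Helper40_PrimeOrderClasses

set_option autoImplicit false

namespace Cfsg.Agent.Lib.Helper25_OrthC8_DODD

open Matrix Polynomial Cfsg.Agent.Lib.Helper13_OrthC8Defs Cfsg.Agent.Lib.Helper40_Palindromic

/-- in a finite field with `r ∤ q - 1`, `c ^ r = 1` forces `c = 1` -/
theorem eq_one_of_pow_eq_one {F : Type*} [Field F] [Fintype F] {r : ℕ} (hr : r.Prime)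
    (hrq : ¬ r ∣ Fintype.card F - 1) (c : F) (hc : c ^ r = 1) : c = 1 := by
  have hc0 : c ≠ 0 := by
    rintro rfl
    rw [zero_pow hr.ne_zero] at hc
    exact zero_ne_one hc
  have h1 : c ^ (Fintype.card F - 1) = 1 := FiniteField.pow_card_sub_one_eq_one c hc0
  have hcop : Nat.Coprime r (Fintype.card F - 1) := (Nat.Prime.coprime_iff_not_dvd hr).2 hrq
  have h2 : c ^ Nat.gcd r (Fintype.card F - 1) = 1 := by
    have ho1 : orderOf c ∣ r := orderOf_dvd_of_pow_eq_one hc
    have ho2 : orderOf c ∣ Fintype.card F - 1 := orderOf_dvd_of_pow_eq_one h1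
    exact orderOf_dvd_iff_pow_eq_one.1 (Nat.dvd_gcd ho1 ho2)
  rw [hcop, pow_one] at h2
  exact h2

theorem DODD {F : Type*} [Field F] [Fintype F] (p : ℕ) [Fact p.Prime] [CharP F p] {n r : ℕ}
    (hr : r.Prime) (hrp : r ≠ p)
    (hi : Odd (orderOf ((Fintype.card F : ℕ) : ZMod r)))
    (hi3 : 3 ≤ orderOf ((Fintype.card F : ℕ) : ZMod r))
    (hin : orderOf ((Fintype.card F : ℕ) : ZMod r) ≤ n) :
    ∃ x : Matrix (Fin n) (Fin n) F, x.det = 1 ∧ x ^ r = 1 ∧ (∀ z : F, x ≠ z • 1) ∧
      ∀ A : Matrix (Fin n) (Fin n) F, Aᵀ = A → A.det ≠ 0 → ¬ SimM A x := by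
  classical
  set i := orderOf ((Fintype.card F : ℕ) : ZMod r) with hidef
  have : Fact r.Prime := ⟨hr⟩
  -- `r ∤ q - 1`
  have hq1 : 1 < Fintype.card F := Fintype.one_lt_card
  have hrq : ¬ r ∣ Fintype.card F - 1 := by
    intro hdvd
    have h1 : ((Fintype.card F : ℕ) : ZMod r) = 1 := by
      have h2 : (((Fintype.card F - 1 : ℕ) : ZMod r)) = 0 := (ZMod.natCast_eq_zero_iff _ _).2 hdvd
      rw [Nat.cast_sub hq1.le, Nat.cast_one, sub_eq_zero] at h2
      exact h2
    have : i = 1 := by rw [hidef, h1, orderOf_one]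
    omega
  have hr2 : r ≠ 2 := by
    rintro rfl
    -- every element of `ZMod 2` has order `≤ 2`
    have h1 : i ≤ 2 := by
      have := orderOf_le_card_univ (x := ((Fintype.card F : ℕ) : ZMod 2))
      rw [Fintype.card_eq_nat_card (α := ZMod 2), Nat.card_zmod] at this
      exact this
    omega
  have hrodd : Odd r := hr.odd_of_ne_two hr2
  -- the irreducible factor
  obtain ⟨_, W, hWcard, hW1, _⟩ :=
    Cfsg.Agent.Lib.Helper40_PrimeOrderClasses.exists_cyclotomic_factors (F := F) p r hr hrp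
  have hWne : W.Nonempty := by
    rw [← Finset.card_pos, hWcard]
    apply Nat.div_pos _ (by omega)
    -- `i ∣ r - 1`, so `i ≤ r - 1`
    have hunit : ((Fintype.card F : ℕ) : ZMod r) ≠ 0 := by
      intro h0
      have : i = 0 := by rw [hidef, h0]; exact orderOf_eq_zero_iff.2 (by
        rw [isOfFinOrder_iff_pow_eq_one]
        rintro ⟨k, hk, hk1⟩
        rw [zero_pow hk.ne'] at hk1
        exact zero_ne_one hk1)
      omega
    have h1 : ((Fintype.card F : ℕ) : ZMod r) ^ (r - 1) = 1 := ZMod.pow_card_sub_one_eq_one hunit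
    exact Nat.le_of_dvd (by have := hr.two_le; omega) (orderOf_dvd_of_pow_eq_one h1)
  obtain ⟨w, hwW⟩ := hWne
  obtain ⟨hwm, hwi, hw1, hwd, hwdeg⟩ := hW1 w hwW
  -- the characteristic polynomial
  set c : F[X] := (X - 1) ^ (n - i) * w with hc
  have hX1 : ((X : F[X]) - 1) = X - C 1 := by rw [map_one]
  have hX1m : ((X : F[X]) - 1).Monic := by rw [hX1]; exact monic_X_sub_C 1
  have hX1ne0 : ((X : F[X]) - 1) ≠ 0 := hX1m.ne_zero
  have hcm : c.Monic := (hX1m.pow _).mul hwm
  have hcdeg : c.natDegree = n := by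
    rw [hc, Polynomial.natDegree_mul (pow_ne_zero _ hX1ne0) hwm.ne_zero, natDegree_pow, hX1,
      natDegree_X_sub_C, mul_one, hwdeg]
    omega
  obtain ⟨x, hxc, _, hxkill⟩ :=
    Cfsg.Agent.Lib.Helper40_PrimeOrderClasses.exists_matrix_of_monic' n c hcm hcdeg
  -- `x ^ r = 1`
  have hxr : x ^ r = 1 := by
    have h1 := hxkill (X ^ r - 1) (by
      intro g hg hgc
      rw [hc] at hgc
      rcases hg.prime.dvd_mul.1 hgc with h | h
      · have h2 := hg.prime.dvd_of_dvd_pow h
        exact h2.trans (sub_dvd_pow_sub_pow (X : F[X]) 1 r |> fun h => by simpa using h)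
      · exact h.trans hwd)
    rw [map_sub, map_pow, aeval_X, map_one, sub_eq_zero] at h1
    exact h1
  have hdet : x.det = 1 := by
    apply eq_one_of_pow_eq_one hr hrq
    rw [← Matrix.det_pow, hxr, Matrix.det_one]
  have hw0 : w.coeff 0 ≠ 0 := by
    intro h0
    have hX : (X : F[X]) ∣ w := by
      rw [Polynomial.X_dvd_iff]; exact h0
    have h2 : (X : F[X]) ∣ X ^ r - 1 := hX.trans hwd
    have h3 : (X : F[X]) ∣ 1 := by
      have h4 : (X : F[X]) ∣ X ^ r := dvd_pow_self _ hr.ne_zero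
      have := (dvd_sub h4 h2)
      simpa using this
    exact not_isUnit_X (isUnit_of_dvd_one h3)
  refine ⟨x, hdet, hxr, ?_, ?_⟩
  · -- not scalar
    intro z hz
    have h1 : x.charpoly = (X - C z) ^ n := by
      rw [hz]
      have : (z • (1 : Matrix (Fin n) (Fin n) F)) = Matrix.diagonal (fun _ => z) := by
        ext a b; simp [Matrix.diagonal_apply, Matrix.one_apply]
      rw [this, Matrix.charpoly_diagonal, Finset.prod_const, Finset.card_univ, Fintype.card_fin]
    have h2 : w ∣ (X - C z) ^ n := by rw [← h1, hxc, hc]; exact dvd_mul_left _ _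
    have h3 : w ∣ X - C z := hwi.prime.dvd_of_dvd_pow h2
    have h4 := Polynomial.natDegree_le_of_dvd h3 (X_sub_C_ne_zero z)
    rw [natDegree_X_sub_C, hwdeg] at h4
    omega
  · rintro A hA hAd ⟨c', hc'0, hc'⟩
    -- `c' ^ r = 1`
    have hpow : ∀ k : ℕ, (x ^ k)ᵀ * A * x ^ k = c' ^ k • A := by
      intro k
      induction k with
      | zero => simp
      | succ k ih =>
        have e1 : (x ^ (k + 1))ᵀ * A * x ^ (k + 1) = xᵀ * ((x ^ k)ᵀ * A * x ^ k) * x := by
          rw [pow_succ, Matrix.transpose_mul]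
          simp only [Matrix.mul_assoc]
        rw [e1, ih, Matrix.mul_smul, Matrix.smul_mul, hc', smul_smul, pow_succ]
    have h1 := hpow r
    rw [hxr, Matrix.transpose_one, Matrix.one_mul, Matrix.mul_one] at h1
    have hA0 : A ≠ 0 := by
      rintro rfl
      apply hAd
      have : Nonempty (Fin n) := ⟨⟨0, by omega⟩⟩
      exact Matrix.det_zero
    have hcr : c' ^ r = 1 := by
      by_contra hne
      apply hA0
      have h2 : (1 - c' ^ r) • A = 0 := by rw [sub_smul, one_smul, ← h1, sub_self]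
      rcases smul_eq_zero.1 h2 with h | h
      · exact absurd (sub_eq_zero.1 h).symm hne
      · exact h
    have hc1 : c' = 1 := eq_one_of_pow_eq_one hr hrq c' hcr
    rw [hc1, one_smul] at hc'
    obtain ⟨hrec, _⟩ := Cfsg.Agent.Lib.Helper40_OrdOrth.recip_charpoly_of_gram x A hAd hc'
    rw [hxc, hc, recip_mul, Cfsg.Agent.Lib.Helper40_SpPrimeOrder.recip_pow',
      Cfsg.Agent.Lib.Helper40_SpPrimeOrder.recip_X_sub_one] at hrec
    have hX1ne : ((X : F[X]) - 1) ^ (n - i) ≠ 0 := by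
      apply pow_ne_zero
      have := X_sub_C_ne_zero (1 : F)
      rwa [map_one] at this
    have hrw : recip w = w := mul_left_cancel₀ hX1ne hrec
    exact Cfsg.Agent.Lib.Helper40_SpPrimeOrder.recip_ne_of_odd r hrodd w hwm hwi hw0 hw1 hwd
      (by rw [hwdeg]; exact hi) hrw

end Cfsg.Agent.Lib.Helper25_OrthC8_DODD
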