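import Mathlib
import Cfsg.Prelude.Def_GeometricClasses
import Cfsg.Agent.Lib.Helper13_OrthC8Defs
import Cfsg.Agent.Lib.Helper14_Congruence

/-!
# S5981, package EX (helper25): in `SL_r(q)`, `r ∈ {3, 5}`, `(q - 1)_r = r`, every element whose
`r`-th power is scalar is conjugate into the similarity group of any nondegenerate symmetric form
-/

set_option autoImplicit false

namespace Cfsg.Agent.Lib.Helper25_OrthC8_EX

open Matrix Polynomial Cfsg.Agent.Lib.Helper13_OrthC8Defs

/-! ## Combinatorics -/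

/-- every family of `r` residues mod `r` with sum `0` is symmetric under some `a ↦ s - a` -/
def Comb (r : ℕ) : Prop :=
  ∀ a : Fin r → ZMod r, ∑ k, a k = 0 →
    ∃ (σ : Fin r → Fin r) (s : ZMod r), (∀ k, σ (σ k) = k) ∧ ∀ k, a (σ k) + a k = s

/-- the transposition `(1 2)` of `Fin 3` -/
def sig3 : Fin 3 → Fin 3
  | 0 => 0 | 1 => 2 | 2 => 1

theorem sig3_invol : ∀ t : Fin 3, sig3 (sig3 t) = t := by decide

theorem comb3_aux : ∀ a0 a1 a2 : ZMod 3, a0 + a1 + a2 = 0 → ∀ m : Fin 3,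
    ![a0, a1, a2] (sig3 m) + ![a0, a1, a2] m = 2 * a0 := by
  decide +kernel

theorem comb3 : Comb 3 := by
  intro a hsum
  have hv : ![a 0, a 1, a 2] = a := by
    funext k
    fin_cases k <;> rfl
  have h := comb3_aux (a 0) (a 1) (a 2) (by rw [← hsum, Fin.sum_univ_three])
  rw [hv] at h
  exact ⟨sig3, 2 * a 0, sig3_invol, h⟩

/-- the three fixed-point-free involutions of `{1,2,3,4}`, extended by `0 ↦ 0` -/
def tau : Fin 3 → Fin 5 → Fin 5
  | 0, 0 => 0 | 0, 1 => 2 | 0, 2 => 1 | 0, 3 => 4 | 0, 4 => 3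
  | 1, 0 => 0 | 1, 1 => 3 | 1, 2 => 4 | 1, 3 => 1 | 1, 4 => 2
  | 2, 0 => 0 | 2, 1 => 4 | 2, 2 => 3 | 2, 3 => 2 | 2, 4 => 1

theorem tau_invol : ∀ (j : Fin 3) (t : Fin 5), tau j (tau j t) = t := by decide

/-- candidate involutions: `m ↦ k₀ + τ (m - k₀)` -/
def sig (k₀ : Fin 5) (j : Fin 3) (m : Fin 5) : Fin 5 := k₀ + tau j (m - k₀)

theorem sig_invol (k₀ : Fin 5) (j : Fin 3) (m : Fin 5) : sig k₀ j (sig k₀ j m) = m := by
  unfold sig
  rw [add_sub_cancel_left, tau_invol, add_sub_cancel]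

theorem comb5_aux : ∀ a0 a1 a2 a3 a4 : ZMod 5, a0 + a1 + a2 + a3 + a4 = 0 →
    ∃ (k₀ : Fin 5) (j : Fin 3), ∀ m : Fin 5,
      ![a0, a1, a2, a3, a4] (sig k₀ j m) + ![a0, a1, a2, a3, a4] m
        = 2 * ![a0, a1, a2, a3, a4] k₀ := by
  decide +kernel

theorem comb5 : Comb 5 := by
  intro a hsum
  have hv : ![a 0, a 1, a 2, a 3, a 4] = a := by
    funext k
    fin_cases k <;> rfl
  obtain ⟨k₀, j, h⟩ := comb5_aux (a 0) (a 1) (a 2) (a 3) (a 4) (by rw [← hsum, Fin.sum_univ_five])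
  rw [hv] at h
  exact ⟨sig k₀ j, 2 * a k₀, sig_invol k₀ j, h⟩

/-! ## Eigenvalues of a matrix of finite order -/

theorem root_pow_eq_one {K : Type*} [Field K] {n r : ℕ} (M : Matrix (Fin n) (Fin n) K)
    (hM : M ^ r = 1) (μ : K) (hμ : M.charpoly.IsRoot μ) : μ ^ r = 1 := by
  have h1 : μ ∈ spectrum K M := Matrix.mem_spectrum_iff_isRoot_charpoly.2 hμ
  have h2 := spectrum.subset_polynomial_aeval M (X ^ r : K[X]) ⟨μ, h1, rfl⟩
  simp only [eval_pow, eval_X, map_pow, aeval_X, hM] at h2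
  by_contra hne
  rw [spectrum.mem_iff] at h2
  apply h2
  have h3 : IsUnit (μ ^ r - 1) := IsUnit.mk0 _ (sub_ne_zero.2 hne)
  have h4 := h3.map (algebraMap K (Matrix (Fin n) (Fin n) K))
  rwa [map_sub, map_one] at h4

theorem exists_fn_of_card {α : Type*} (m : Multiset α) (n : ℕ) (h : Multiset.card m = n) :
    ∃ f : Fin n → α, m = Multiset.map f Finset.univ.val := by
  subst h
  induction m using Quot.inductionOn with
  | _ L =>
    refine ⟨fun k => L.get k, ?_⟩
    rw [Fin.univ_val_map]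
    show (L : Multiset α) = ((List.ofFn fun k => L.get k : List α) : Multiset α)
    rw [List.ofFn_get]

theorem exists_diag_data {F : Type*} [Field F] {n r : ℕ} (hr : 0 < r) (ω : F)
    (hω : IsPrimitiveRoot ω r) (x : Matrix (Fin n) (Fin n) F) (hx : x ^ r = 1) :
    ∃ d : Fin n → F, (∀ k, d k ^ r = 1) ∧ x.charpoly = ∏ k, (X - C (d k)) ∧
      x.det = ∏ k, d k := by
  classical
  have : NeZero r := ⟨hr.ne'⟩
  have hsplit : x.charpoly.Splits := by
    apply Polynomial.Splits.of_splits_map (algebraMap F (AlgebraicClosure F))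
      (IsAlgClosed.splits _)
    intro μ hμ
    rw [← Matrix.charpoly_map] at hμ
    have hroot : (x.map (algebraMap F (AlgebraicClosure F))).charpoly.IsRoot μ :=
      isRoot_of_mem_roots hμ
    have hxK : (x.map (algebraMap F (AlgebraicClosure F))) ^ r = 1 := by
      rw [← RingHom.mapMatrix_apply, ← map_pow, hx, map_one]
    have h1 := root_pow_eq_one _ hxK μ hroot
    have hωK : IsPrimitiveRoot (algebraMap F (AlgebraicClosure F) ω) r :=
      hω.map_of_injective (algebraMap F (AlgebraicClosure F)).injective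
    obtain ⟨i, _, hi⟩ := hωK.eq_pow_of_pow_eq_one h1
    exact ⟨ω ^ i, by rw [map_pow, hi]⟩
  have hcard : Multiset.card x.charpoly.roots = n := by
    rw [← hsplit.natDegree_eq_card_roots, Matrix.charpoly_natDegree_eq_dim, Fintype.card_fin]
  obtain ⟨d, hd⟩ := exists_fn_of_card x.charpoly.roots n hcard
  refine ⟨d, ?_, ?_, ?_⟩
  · intro k
    apply root_pow_eq_one x hx
    apply isRoot_of_mem_roots
    rw [hd]
    exact Multiset.mem_map_of_mem d (Finset.mem_univ_val k)
  · conv_lhs => rw [hsplit.eq_prod_roots_of_monic (Matrix.charpoly_monic x), hd, Multiset.map_map]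
    rfl
  · rw [Matrix.det_eq_prod_roots_charpoly_of_splits hsplit, hd]
    rfl

/-! ## The scalar is trivial -/

theorem z_eq_one {F : Type*} [Field F] [Fintype F] {r : ℕ} (hr : r.Prime) (hr2 : r ≠ 2)
    (hv : padicValNat r (Fintype.card F - 1) = 1)
    (x : Matrix (Fin r) (Fin r) F) (hdet : x.det = 1) (z : F) (hx : x ^ r = z • 1) : z = 1 := by
  classical
  have : Fact r.Prime := ⟨hr⟩
  have : Nonempty (Fin r) := ⟨⟨0, hr.pos⟩⟩
  have hzr : z ^ r = 1 := by
    have h1 : (x ^ r).det = 1 := by rw [Matrix.det_pow, hdet, one_pow]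
    rw [hx, Matrix.det_smul, Matrix.det_one, mul_one, Fintype.card_fin] at h1
    exact h1
  by_contra hz1
  have hq1 : Fintype.card F - 1 ≠ 0 := by
    have := Fintype.one_lt_card (α := F)
    omega
  have hno : ∀ b : F, b ^ r ≠ z := by
    intro b hb
    have hb0 : b ≠ 0 := by
      rintro rfl
      rw [zero_pow hr.ne_zero] at hb
      rw [← hb, zero_pow hr.ne_zero] at hzr
      exact zero_ne_one hzr
    have h1 : b ^ (r ^ 2) = 1 := by rw [pow_two, pow_mul, hb, hzr]
    have h2 : b ^ (Fintype.card F - 1) = 1 := FiniteField.pow_card_sub_one_eq_one b hb0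
    have ho1 : orderOf b ∣ r ^ 2 := orderOf_dvd_of_pow_eq_one h1
    have ho2 : orderOf b ∣ Fintype.card F - 1 := orderOf_dvd_of_pow_eq_one h2
    obtain ⟨j, hj, hoj⟩ := (Nat.dvd_prime_pow hr).1 ho1
    have hj1 : j ≤ 1 := by
      have h3 : r ^ j ∣ Fintype.card F - 1 := hoj ▸ ho2
      have h4 := (padicValNat_dvd_iff_le hq1).1 h3
      omega
    have h5 : b ^ r = 1 := by
      apply orderOf_dvd_iff_pow_eq_one.1
      rw [hoj]
      calc r ^ j ∣ r ^ 1 := pow_dvd_pow r hj1
        _ = r := pow_one r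
    apply hz1
    rw [← hb, h5]
  have hirr : Irreducible (X ^ r - C z : F[X]) := (X_pow_sub_C_irreducible_iff_of_prime hr).2 hno
  have hmonic : (X ^ r - C z : F[X]).Monic := monic_X_pow_sub_C z hr.ne_zero
  have hkill : aeval x (X ^ r - C z : F[X]) = 0 := by
    rw [map_sub, map_pow, aeval_X, aeval_C, hx, Algebra.algebraMap_eq_smul_one, sub_self]
  obtain ⟨g, hg⟩ := minpoly.dvd F x hkill
  have hgu : IsUnit g := by
    rcases hirr.isUnit_or_isUnit hg with h | h
    · exact absurd h (minpoly.not_isUnit F x)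
    · exact h
  have hdvd2 : (X ^ r - C z : F[X]) ∣ x.charpoly := by
    have h1 : (X ^ r - C z : F[X]) ∣ minpoly F x := by
      rw [hg]
      exact hgu.mul_right_dvd.2 dvd_rfl
    exact h1.trans (Matrix.minpoly_dvd_charpoly x)
  have hcp : x.charpoly = X ^ r - C z := by
    apply Polynomial.eq_of_monic_of_dvd_of_natDegree_le hmonic (Matrix.charpoly_monic x) hdvd2
    rw [Matrix.charpoly_natDegree_eq_dim, Fintype.card_fin, natDegree_X_pow_sub_C]
  have hd := Matrix.det_eq_sign_charpoly_coeff x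
  rw [hcp, hdet, Fintype.card_fin, coeff_sub, coeff_X_pow, coeff_C_zero, if_neg hr.ne_zero.symm,
    zero_sub, (hr.odd_of_ne_two hr2).neg_one_pow] at hd
  apply hz1
  linear_combination -hd

/-! ## The model and the assembly -/

theorem EX_core {F : Type*} [Field F] [Fintype F] (h2 : (2 : F) ≠ 0) {r : ℕ} (hr : r.Prime)
    (hr2 : r ≠ 2) (hcomb : Comb r) (hv : padicValNat r (Fintype.card F - 1) = 1)
    (A : Matrix (Fin r) (Fin r) F) (hA : Aᵀ = A) (hAd : A.det ≠ 0)
    (x : Matrix (Fin r) (Fin r) F) (hdet : x.det = 1) (z : F) (hx : x ^ r = z • 1) :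
    ∃ x' : Matrix (Fin r) (Fin r) F, x'.charpoly = x.charpoly ∧ x' ^ r = z • 1 ∧ SimM A x' := by
  classical
  have : Fact r.Prime := ⟨hr⟩
  have : NeZero r := ⟨hr.ne_zero⟩
  have hz := z_eq_one hr hr2 hv x hdet z hx
  subst hz
  rw [one_smul] at hx
  -- a primitive `r`-th root of unity
  have hrq : r ∣ Fintype.card F - 1 := dvd_of_one_le_padicValNat (by omega)
  obtain ⟨ω, hω⟩ : ∃ ω : F, IsPrimitiveRoot ω r := by
    have h1 : r ∣ Fintype.card Fˣ := by rw [Fintype.card_units]; exact hrq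
    obtain ⟨u, hu⟩ := exists_prime_orderOf_dvd_card r h1
    refine ⟨(u : F), ?_⟩
    rw [← hu, ← orderOf_units]
    exact IsPrimitiveRoot.orderOf (u : F)
  obtain ⟨d, hd1, hdcp, hddet⟩ := exists_diag_data hr.pos ω hω x hx
  have hω1 : ω ^ r = 1 := hω.pow_eq_one
  -- exponents
  have hex : ∀ k, ∃ a : ZMod r, d k = ω ^ a.val := by
    intro k
    obtain ⟨i, hi, hik⟩ := hω.eq_pow_of_pow_eq_one (hd1 k)
    refine ⟨(i : ZMod r), ?_⟩
    rw [ZMod.val_cast_of_lt hi, hik]
  choose a ha using hex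
  have hadd : ∀ b c : ZMod r, ω ^ (b + c).val = ω ^ b.val * ω ^ c.val := by
    intro b c
    rw [ZMod.val_add, ← pow_add]
    conv_rhs => rw [← Nat.div_add_mod (b.val + c.val) r, pow_add, pow_mul, hω1, one_pow, one_mul]
  have hsumpow : ∀ s : Finset (Fin r), ∏ k ∈ s, d k = ω ^ (∑ k ∈ s, a k).val := by
    intro s
    induction s using Finset.induction_on with
    | empty => simp
    | insert k s hk ih => rw [Finset.prod_insert hk, Finset.sum_insert hk, hadd, ih, ha k]
  have hsum : ∑ k, a k = 0 := by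
    have h1 : ω ^ (∑ k, a k).val = 1 := by rw [← hsumpow, ← hddet, hdet]
    have h3 : r ∣ (∑ k, a k).val := (hω.pow_eq_one_iff_dvd _).1 h1
    have h4 : (∑ k, a k).val = 0 := Nat.eq_zero_of_dvd_of_lt h3 (ZMod.val_lt _)
    exact (ZMod.val_eq_zero _).1 h4
  obtain ⟨σ, s, hσ, hs⟩ := hcomb a hsum
  set c : F := ω ^ s.val with hc
  have hc0 : c ≠ 0 := pow_ne_zero _ (hω.ne_zero hr.ne_zero)
  have hdd : ∀ k, d (σ k) * d k = c := by
    intro k
    rw [ha (σ k), ha k, ← hadd, hs k]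
  -- the model form
  obtain ⟨m, hm⟩ : ∃ m, r + 1 = 2 * m := by
    obtain ⟨t, ht⟩ := hr.odd_of_ne_two hr2
    exact ⟨t + 1, by omega⟩
  set P0 : Matrix (Fin r) (Fin r) F := Matrix.of fun k l => if l = σ k then (1 : F) else 0 with hP0
  have hσinj : ∀ k l, σ k = l ↔ k = σ l := by
    intro k l
    constructor
    · rintro rfl
      exact (hσ k).symm
    · rintro rfl
      exact hσ l
  have hP0sq : P0 * P0 = 1 := by
    ext k l
    rw [Matrix.mul_apply]
    simp only [hP0, Matrix.of_apply]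
    rw [Finset.sum_eq_single (σ k)]
    · rw [if_pos rfl, one_mul, hσ k, Matrix.one_apply]
      by_cases hkl : k = l
      · rw [if_pos hkl.symm, if_pos hkl]
      · rw [if_neg (Ne.symm hkl), if_neg hkl]
    · intro b _ hb
      rw [if_neg hb, zero_mul]
    · intro h
      exact absurd (Finset.mem_univ _) h
  have hP0t : P0ᵀ = P0 := by
    ext k l
    simp only [hP0, Matrix.transpose_apply, Matrix.of_apply]
    by_cases h : l = σ k
    · rw [if_pos h, if_pos ((hσinj k l).1 h.symm)]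
    · rw [if_neg h, if_neg (fun h' => h ((hσinj k l).2 h').symm)]
  have hP0d : P0.det ≠ 0 := by
    intro h
    have h1 := congrArg Matrix.det hP0sq
    rw [Matrix.det_mul, h, mul_zero, Matrix.det_one] at h1
    exact zero_ne_one h1
  set u : F := A.det * P0.det with hu
  have hu0 : u ≠ 0 := mul_ne_zero hAd hP0d
  set A' : Matrix (Fin r) (Fin r) F := u • P0 with hA'
  have hA't : A'ᵀ = A' := by rw [hA', Matrix.transpose_smul, hP0t]
  have hA'det : A'.det = u ^ r * P0.det := by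
    rw [hA', Matrix.det_smul, Fintype.card_fin]
  have hA'd : A'.det ≠ 0 := by
    rw [hA'det]
    exact mul_ne_zero (pow_ne_zero _ hu0) hP0d
  have hsq : IsSquare (A.det * A'.det) := by
    refine ⟨u ^ m, ?_⟩
    rw [hA'det, ← pow_add, ← two_mul, ← hm, pow_succ, hu]
    ring
  obtain ⟨g, hg⟩ := Cfsg.Agent.Lib.Helper14_Congruence.exists_congr_sym h2 hA hA't hAd hA'd hsq
  have hgg : (g : Matrix (Fin r) (Fin r) F) *
      ((g⁻¹ : GL (Fin r) F) : Matrix (Fin r) (Fin r) F) = 1 := by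
    exact_mod_cast g.mul_inv
  have hgg' : ((g⁻¹ : GL (Fin r) F) : Matrix (Fin r) (Fin r) F) *
      (g : Matrix (Fin r) (Fin r) F) = 1 := by
    exact_mod_cast g.inv_mul
  set D : Matrix (Fin r) (Fin r) F := Matrix.diagonal d with hD
  have hDr : D ^ r = 1 := by
    rw [hD, Matrix.diagonal_pow]
    have : (d ^ r : Fin r → F) = fun _ => 1 := by
      funext k
      exact hd1 k
    rw [this, Matrix.diagonal_one]
  set x' : Matrix (Fin r) (Fin r) F :=
    (g : Matrix (Fin r) (Fin r) F) * D * ((g⁻¹ : GL (Fin r) F) : Matrix (Fin r) (Fin r) F) with hx'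
  have hpow : ∀ k : ℕ, x' ^ k = (g : Matrix (Fin r) (Fin r) F) * D ^ k *
      ((g⁻¹ : GL (Fin r) F) : Matrix (Fin r) (Fin r) F) := by
    intro k
    induction k with
    | zero => rw [pow_zero, pow_zero, Matrix.mul_one, hgg]
    | succ k ih =>
      rw [pow_succ, ih, hx', pow_succ]
      calc (g : Matrix (Fin r) (Fin r) F) * D ^ k *
            ((g⁻¹ : GL (Fin r) F) : Matrix (Fin r) (Fin r) F) *
            ((g : Matrix (Fin r) (Fin r) F) * D *
              ((g⁻¹ : GL (Fin r) F) : Matrix (Fin r) (Fin r) F))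
          = (g : Matrix (Fin r) (Fin r) F) * D ^ k *
            (((g⁻¹ : GL (Fin r) F) : Matrix (Fin r) (Fin r) F) *
              (g : Matrix (Fin r) (Fin r) F)) * D *
              ((g⁻¹ : GL (Fin r) F) : Matrix (Fin r) (Fin r) F) := by
            simp only [Matrix.mul_assoc]
        _ = _ := by rw [hgg', Matrix.mul_one, Matrix.mul_assoc (g : Matrix (Fin r) (Fin r) F)]
  refine ⟨x', ?_, ?_, ?_⟩
  · have h3 : x' = (g : Matrix (Fin r) (Fin r) F) * D *
        ((g : Matrix (Fin r) (Fin r) F))⁻¹ := by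
      rw [hx', Matrix.coe_units_inv]
    rw [h3, Matrix.charpoly_units_conj g D, hD, Matrix.charpoly_diagonal, hdcp]
  · rw [one_smul, hpow, hDr, Matrix.mul_one, hgg]
  · rw [hx', simM_conj A D _ _ hgg' hgg, hg]
    refine ⟨c, hc0, ?_⟩
    ext k l
    rw [hD, Matrix.diagonal_transpose, Matrix.mul_diagonal, Matrix.diagonal_mul]
    simp only [hA', hP0, Matrix.smul_apply, Matrix.of_apply, smul_eq_mul]
    by_cases h : l = σ k
    · rw [if_pos h, h, ← hdd k]
      ring
    · rw [if_neg h]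
      ring

theorem EX {F : Type*} [Field F] [Fintype F] (h2 : (2 : F) ≠ 0) {r : ℕ} (hr : r = 3 ∨ r = 5)
    (hv : padicValNat r (Fintype.card F - 1) = 1)
    (A : Matrix (Fin r) (Fin r) F) (hA : Aᵀ = A) (hAd : A.det ≠ 0)
    (x : Matrix (Fin r) (Fin r) F) (hdet : x.det = 1) (z : F) (hx : x ^ r = z • 1) :
    ∃ x' : Matrix (Fin r) (Fin r) F, x'.charpoly = x.charpoly ∧ x' ^ r = z • 1 ∧ SimM A x' := by
  rcases hr with rfl | rfl
  · exact EX_core h2 (by norm_num) (by norm_num) comb3 hv A hA hAd x hdet z hx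
  · exact EX_core h2 (by norm_num) (by norm_num) comb5 hv A hA hAd x hdet z hx

end Cfsg.Agent.Lib.Helper25_OrthC8_EX
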