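import Mathlib

/-!
# Orthogonal involutions with a (-1)-eigenspace of prescribed dimension (helper25)

Package S5980-PA for helper43: for a symmetric Gram matrix `G` in characteristic `≠ 2` and `k ≤ b` there is
an involution `B` with `Bᵀ G B = G` and `rank (B - 1) = k`.
-/

set_option autoImplicit false

namespace Cfsg.Agent.Lib.Helper25_OrthInvol

open Matrix

theorem exists_orth_involution {F : Type*} [Field F] (h2 : (2 : F) ≠ 0) {b : ℕ}
    (G : Matrix (Fin b) (Fin b) F) (hG : G.IsSymm) (k : ℕ) (hk : k ≤ b) :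
    ∃ B : Matrix (Fin b) (Fin b) F, B.transpose * G * B = G ∧ B * B = 1 ∧ (B - 1).rank = k := by
  classical
  have : Invertible (2 : F) := invertibleOfNonzero h2
  have hsymm : (Matrix.toBilin' G).IsSymm := Matrix.isSymm_toBilin'_iff_isSymm.mpr hG
  obtain ⟨v0, hv0⟩ := LinearMap.BilinForm.exists_orthogonal_basis (LinearMap.BilinForm.isSymm_iff.mp hsymm)
  have hfr : Module.finrank F (Fin b → F) = b := by simp
  let v : Module.Basis (Fin b) F (Fin b → F) := v0.reindex (finCongr hfr)
  have hv : ∀ i j, i ≠ j → Matrix.toBilin' G (v i) (v j) = 0 := by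
    intro i j hij
    have : (finCongr hfr).symm i ≠ (finCongr hfr).symm j := fun h => hij ((finCongr hfr).symm.injective h)
    have := hv0 this
    simpa [v, Function.onFun] using this
  set e := Pi.basisFun F (Fin b) with he
  set Q : Matrix (Fin b) (Fin b) F := e.toMatrix v with hQ
  set Qi : Matrix (Fin b) (Fin b) F := v.toMatrix e with hQi
  have hQQi : Q * Qi = 1 := Module.Basis.toMatrix_mul_toMatrix_flip e v
  have hQiQ : Qi * Q = 1 := Module.Basis.toMatrix_mul_toMatrix_flip v e
  have hQapp : ∀ a c, Q a c = v c a := by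
    intro a c
    simp [hQ, he, Module.Basis.toMatrix_apply]
  -- the diagonalised Gram matrix
  have hD : ∀ i j, i ≠ j → (Qᵀ * G * Q) i j = 0 := by
    intro i j hij
    have h := hv i j hij
    rw [Matrix.toBilin'_apply'] at h
    rw [← h]
    simp only [Matrix.mul_apply, Matrix.transpose_apply, dotProduct, Matrix.mulVec, hQapp, Finset.sum_mul,
      Finset.mul_sum]
    rw [Finset.sum_comm]
    apply Finset.sum_congr rfl
    intro x _
    apply Finset.sum_congr rfl
    intro y _
    ring
  obtain ⟨d, hd⟩ : ∃ d : Fin b → F, Qᵀ * G * Q = diagonal d := by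
    refine ⟨fun i => (Qᵀ * G * Q) i i, ?_⟩
    ext i j
    by_cases hij : i = j
    · subst hij
      simp
    · rw [hD i j hij, diagonal_apply_ne _ hij]
  obtain ⟨ε, hε⟩ : ∃ ε : Fin b → F, ε = fun j : Fin b => if (j : ℕ) < k then (-1 : F) else 1 :=
    ⟨fun j : Fin b => if (j : ℕ) < k then (-1 : F) else 1, rfl⟩
  have hε2 : diagonal ε * diagonal ε = 1 := by
    rw [diagonal_mul_diagonal, ← diagonal_one]
    congr 1
    ext j
    rw [hε]
    dsimp only
    split_ifs <;> simp
  have hG' : G = Qiᵀ * (Qᵀ * G * Q) * Qi := by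
    calc G = (Q * Qi)ᵀ * G * (Q * Qi) := by rw [hQQi]; simp
      _ = Qiᵀ * (Qᵀ * G * Q) * Qi := by rw [transpose_mul]; simp only [Matrix.mul_assoc]
  refine ⟨Q * diagonal ε * Qi, ?_, ?_, ?_⟩
  · have h1 : (Q * diagonal ε * Qi)ᵀ * G * (Q * diagonal ε * Qi) =
        Qiᵀ * (diagonal ε * (Qᵀ * G * Q) * diagonal ε) * Qi := by
      rw [transpose_mul, transpose_mul, diagonal_transpose]
      simp only [Matrix.mul_assoc]
    have h3 : diagonal ε * (Qᵀ * G * Q) * diagonal ε = Qᵀ * G * Q := by
      rw [hd, diagonal_mul_diagonal, diagonal_mul_diagonal]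
      congr 1
      ext j
      rw [hε]
      dsimp only
      split_ifs <;> ring
    rw [h1, h3, ← hG']
  · calc (Q * diagonal ε * Qi) * (Q * diagonal ε * Qi)
        = Q * (diagonal ε * (Qi * Q) * diagonal ε) * Qi := by simp only [Matrix.mul_assoc]
      _ = 1 := by rw [hQiQ, Matrix.mul_one, hε2, Matrix.mul_one, hQQi]
  · have h1 : Q * diagonal ε * Qi - 1 = Q * (diagonal ε - 1) * Qi := by
      rw [Matrix.mul_sub, Matrix.sub_mul, Matrix.mul_one, hQQi]
    have hQu : IsUnit Q.det := Matrix.isUnit_det_of_right_inverse hQQi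
    have hQiu : IsUnit Qi.det := Matrix.isUnit_det_of_left_inverse hQQi
    rw [h1, Matrix.rank_mul_eq_left_of_isUnit_det Qi _ hQiu,
      Matrix.rank_mul_eq_right_of_isUnit_det Q _ hQu, ← diagonal_one, diagonal_sub, rank_diagonal]
    have h4 : ∀ i : Fin b, (ε i - 1 ≠ 0) ↔ (i : ℕ) < k := by
      intro i
      rw [hε]
      dsimp only
      split_ifs with h
      · simp only [h, iff_true]
        intro h0
        apply h2
        have : (2 : F) = -((-1 : F) - 1) := by ring
        rw [this, h0, neg_zero]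
      · simp [h]
    rw [Fintype.card_congr (Equiv.subtypeEquivRight h4), Fintype.card_subtype, Fin.card_filter_val_lt]
    exact min_eq_right hk

end Cfsg.Agent.Lib.Helper25_OrthInvol
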