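import Mathlib
import Cfsg.Prelude.Def_Characters
import Cfsg.Prelude.Def_Blocks
import Cfsg.Prelude.Def_Solvable
import Cfsg.Prelude.Def_Local
import Cfsg.Agent.Lib.Helper3_P2Defs
import Cfsg.Agent.Lib.Helper16_GenSetup
import Cfsg.Agent.Lib.Helper16_GenMain
import Cfsg.Agent.Lib.Helper16_GenFinal
import Cfsg.Agent.Lib.Helper80_CharBasic

/-!
# S4705 package P2-INV (helper31, architect helper3)

`ζ` takes the value `-1` on the involutions.
-/

set_option autoImplicit false
set_option linter.unusedSectionVars false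
set_option linter.unusedVariables false

namespace Cfsg.Agent.Lib.Helper31_P2_INV

open Cfsg Cfsg.Agent.Lib.Helper3_P2Defs Cfsg.Agent.Lib.Helper16_GenSetup
  Cfsg.Agent.Lib.Helper16_GenMain Cfsg.Agent.Lib.Helper16_GenFinal
open scoped ComplexConjugate

universe u

section partB2

variable {G : Type u} [Group G] [Finite G] {p : ℕ} [hp : Fact p.Prime] {P : Sylow p G}
  {ζ : G → ℂ} {k₂ : ℕ}

/-- the degree: `ζ 1 = p - 2` -/
theorem apply_one (h : Hyp G p P ζ) : ζ 1 = (p : ℂ) - 2 := by
  obtain ⟨n, -, hn⟩ := Cfsg.Agent.Lib.Helper80_CharBasic.irr_apply_one (⟨ζ, h.irr⟩ : IrrCharacter G)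
  have hn' : ζ 1 = (n : ℂ) := hn
  have hd := h.deg
  unfold charDegree at hd
  rw [hn'] at hd
  simp only [Complex.natCast_re, Nat.floor_natCast] at hd
  have hp5 := h.p5
  rw [hn', hd, Nat.cast_sub (by omega)]
  norm_num

/-- **P2-INV** -/
theorem inv_val (hc : Core G p P ζ k₂) : ∀ u : G, orderOf u = 2 → ζ u = -1 := by
  intro u hu
  have hp5 := hc.p5
  have huu : u * u = 1 := by
    rw [← pow_two, ← hu]
    exact pow_orderOf_eq_one u
  have hk : u ^ k₂ = u := hc.k2two u ⟨1, by rw [hu, pow_one]⟩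
  have hpn : ¬ p ∣ orderOf u := by
    rw [hu]
    intro hdvd
    have := Nat.le_of_dvd (by norm_num) hdvd
    omega
  have hkey := hc.key u hpn
  rw [huu, hk, apply_one hc.toHyp] at hkey
  have hfac : (ζ u + 1) * (ζ u - ((p : ℂ) - 2)) = 0 := by linear_combination -hkey
  rcases mul_eq_zero.mp hfac with h1 | h1
  · linear_combination h1
  · exfalso
    have h2 : ζ u = ζ 1 := by rw [apply_one hc.toHyp]; linear_combination h1
    have h3 := hc.faith u h2
    rw [h3, orderOf_one] at hu
    omega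

end partB2

end Cfsg.Agent.Lib.Helper31_P2_INV
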