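import Mathlib
import Cfsg.Prelude.Def_Characters
import Cfsg.Prelude.Def_Blocks
import Cfsg.Prelude.Def_Solvable
import Cfsg.Prelude.Def_Local
import Cfsg.Agent.Lib.Helper3_P2Defs
import Cfsg.Agent.Lib.Helper16_GenSetup
import Cfsg.Agent.Lib.Helper16_GenMain
import Cfsg.Agent.Lib.Helper16_GenFinal
import Cfsg.Agent.Lib.Helper31_P2_INV

/-!
# S4705 package P2-E2 (architect helper3): the class-algebra equation (E2), core lemma
(the packages P2-CLSUM, P2-APS, P2-E2A, P2-E2B enter as hypotheses).

`∑_{a, b involutions} ζ(a b) · ζ 1 = i²`, and the left side is evaluated by classifying `g = a b`: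
`g = 1` (`i` pairs), `g` an involution (`Q - 2` pairs each), `g` of order `p` (`p` pairs each); all
other products are zeros of `ζ`.
-/

set_option autoImplicit false
set_option linter.unusedSectionVars false
set_option linter.unusedVariables false

namespace Cfsg.Agent.Lib.Helper25_P2_E2Core

open Cfsg Cfsg.Agent.Lib.Helper3_P2Defs Cfsg.Agent.Lib.Helper16_GenSetup
  Cfsg.Agent.Lib.Helper16_GenMain Cfsg.Agent.Lib.Helper16_GenFinal
open scoped ComplexConjugate

universe u

section generic

variable {G : Type*} [Group G]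

theorem orderOf_conj' (x g : G) : orderOf (x * g * x⁻¹) = orderOf g :=
  (SemiconjBy.orderOf_eq x (show SemiconjBy x g (x * g * x⁻¹) by
    unfold SemiconjBy; group)).symm

theorem sq_of_orderOf_two {a : G} (ha : orderOf a = 2) : a * a = 1 := by
  have := pow_orderOf_eq_one a
  rwa [ha, pow_two] at this

theorem inv_of_orderOf_two {a : G} (ha : orderOf a = 2) : a⁻¹ = a :=
  inv_eq_of_mul_eq_one_left (sq_of_orderOf_two ha)

/-- for involutions `a`, `g`: `a * g` is an involution iff they commute and differ -/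
theorem inv_mul_inv_iff {a g : G} (ha : orderOf a = 2) (hg : orderOf g = 2) :
    orderOf (a * g) = 2 ↔ (Commute a g ∧ a ≠ g) := by
  have haa := sq_of_orderOf_two ha
  have hgg := sq_of_orderOf_two hg
  have hai := inv_of_orderOf_two ha
  rw [orderOf_eq_prime_iff]
  constructor
  · rintro ⟨h1, h2⟩
    constructor
    · have h3 : (a * g)⁻¹ = a * g := by
        apply inv_eq_of_mul_eq_one_left
        rw [← pow_two]; exact h1
      rw [mul_inv_rev, hai, inv_of_orderOf_two hg] at h3
      exact h3.symm
    · intro h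
      apply h2
      rw [← h]; exact haa
  · rintro ⟨h1, h2⟩
    constructor
    · rw [h1.mul_pow, pow_two, pow_two, haa, hgg, one_mul]
    · intro h
      apply h2
      have : g = a⁻¹ := (inv_eq_of_mul_eq_one_right h).symm
      rw [this, hai]

end generic

section core

variable {G : Type u} [Group G] [Fintype G] {p : ℕ} [hp : Fact p.Prime] {P : Sylow p G}
  {ζ : G → ℂ} {k₂ : ℕ}

theorem eqE2_core (hc : Core G p P ζ k₂) (hinv : ∀ u : G, orderOf u = 2 → ζ u = -1)
    (hreg : RegVals G p ζ)
    (hQ : ∀ u : G, orderOf u = 2 →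
      Nat.card {t : G // orderOf t = 2 ∧ Commute t u} = 2 ^ (Nat.card G).factorization 2 - 1)
    (hcls : ∀ S : Finset G, (∀ g x : G, x ∈ S → g * x * g⁻¹ ∈ S) →
      (∑ a ∈ S, ∑ b ∈ S, ζ (a * b)) * ζ 1 = (∑ a ∈ S, ζ a) ^ 2 ∧
      ∀ n : ℤ, ∑ a ∈ S, ζ a = (n : ℂ) → ((charDegree ζ : ℕ) : ℤ) ∣ n)
    (haps : ∀ x : G, orderOf x = p →
      Nat.card {a : G // orderOf a = 2 ∧ orderOf (a * x) = 2} = p)
    (hprod : ∀ a b : G, orderOf a = 2 → orderOf b = 2 → a ≠ b →
      a * b ∉ Subgroup.center G ∧
      (∀ u w : G, orderOf u = 2 → w ∈ Subgroup.center G → a * b = u * w → w = 1) ∧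
      (p ∣ orderOf (a * b) → orderOf (a * b) = p))
    (hsum : ∑ g : G, (if orderOf g = p then ζ g else 0) =
      ((2 * Nat.card (Sylow p G) : ℕ) : ℂ)) :
    (p - 2) ∣ Nat.card {u : G // orderOf u = 2} ∧
    Nat.card {u : G // orderOf u = 2} ^ 2 +
      (p - 2) * (Nat.card {u : G // orderOf u = 2} * (2 ^ (Nat.card G).factorization 2 - 2)) =
      (p - 2) * (Nat.card {u : G // orderOf u = 2} * (p - 2) + 2 * p * Nat.card (Sylow p G)) := by
  classical
  have hp5 := hc.p5
  have hζ1 : ζ 1 = (p : ℂ) - 2 := Cfsg.Agent.Lib.Helper31_P2_INV.apply_one hc.toHyp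
  obtain ⟨I, hI⟩ : ∃ I : Finset G, I = Finset.univ.filter (fun g : G => orderOf g = 2) :=
    ⟨_, rfl⟩
  have hmemI : ∀ g, g ∈ I ↔ orderOf g = 2 := fun g => by rw [hI]; simp
  have hi : Nat.card {u : G // orderOf u = 2} = I.card := by
    rw [Nat.card_eq_fintype_card, Fintype.card_subtype, hI]
  obtain ⟨Q', hQ'⟩ : ∃ Q' : ℕ, Q' = 2 ^ (Nat.card G).factorization 2 := ⟨_, rfl⟩
  rw [← hQ'] at hQ ⊢
  -- even order, an involution
  have heven : 2 ∣ Nat.card G := by
    have h1 : (Subgroup.centralizer ((P : Subgroup G) : Set G)).relIndex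
        (Subgroup.normalizer ((P : Subgroup G) : Set G)) ∣
        Nat.card (Subgroup.normalizer ((P : Subgroup G) : Set G)) :=
      Subgroup.relIndex_dvd_card _ _
    rw [hc.idx] at h1
    exact h1.trans (Subgroup.card_subgroup_dvd_card _)
  obtain ⟨v, hv⟩ := exists_prime_orderOf_dvd_card' (G := G) 2 heven
  have hQ2 : 2 ≤ Q' := by
    have h1 := hQ v hv
    have : Nonempty {t : G // orderOf t = 2 ∧ Commute t v} := ⟨⟨v, hv, Commute.refl v⟩⟩
    have h2 : 0 < Nat.card {t : G // orderOf t = 2 ∧ Commute t v} := Nat.card_pos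
    omega
  rw [hi]
  -- class sums
  have hconj : ∀ g x : G, x ∈ I → g * x * g⁻¹ ∈ I := by
    intro g x hx
    rw [hmemI] at hx ⊢
    rw [orderOf_conj']; exact hx
  obtain ⟨hsq, hdiv⟩ := hcls I hconj
  have hsumI : ∑ a ∈ I, ζ a = -(I.card : ℂ) := by
    rw [Finset.sum_congr rfl (fun a ha => hinv a ((hmemI a).mp ha)), Finset.sum_const,
      nsmul_eq_mul]
    ring
  have hdvd : (p - 2) ∣ I.card := by
    have h1 := hdiv (-(I.card : ℤ)) (by rw [hsumI]; push_cast; ring)
    rw [hc.deg] at h1
    have h2 : ((p - 2 : ℕ) : ℤ) ∣ (I.card : ℤ) := (dvd_neg.mp h1)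
    exact Int.natCast_dvd_natCast.mp h2
  refine ⟨hdvd, ?_⟩
  -- reindexing the double sum
  have hN : ∀ a ∈ I, ∑ b ∈ I, ζ (a * b) = ∑ g : G, (if a⁻¹ * g ∈ I then ζ g else 0) := by
    intro a _
    rw [← Finset.sum_filter]
    refine Finset.sum_bij (fun b _ => a * b) ?_ ?_ ?_ ?_
    · intro b hb
      rw [Finset.mem_filter]
      refine ⟨Finset.mem_univ _, ?_⟩
      rw [inv_mul_cancel_left]; exact hb
    · intro b₁ _ b₂ _ h
      exact mul_left_cancel h
    · intro g hg
      refine ⟨a⁻¹ * g, (Finset.mem_filter.mp hg).2, ?_⟩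
      rw [mul_inv_cancel_left]
    · intro b _; rfl
  have hdouble : ∑ a ∈ I, ∑ b ∈ I, ζ (a * b) =
      ∑ g : G, ((I.filter (fun a => a⁻¹ * g ∈ I)).card : ℂ) * ζ g := by
    rw [Finset.sum_congr rfl hN, Finset.sum_comm]
    apply Finset.sum_congr rfl
    intro g _
    rw [← Finset.sum_filter, Finset.sum_const, nsmul_eq_mul]
  -- pointwise evaluation
  have hpt : ∀ g : G, ((I.filter (fun a => a⁻¹ * g ∈ I)).card : ℂ) * ζ g =
      (if g = 1 then (I.card : ℂ) * ζ 1 else 0) +
        (if orderOf g = 2 then -((Q' : ℂ) - 2) else 0) +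
        (if orderOf g = p then (p : ℂ) * ζ g else 0) := by
    intro g
    by_cases h1 : g = 1
    · subst h1
      have hfil : I.filter (fun a => a⁻¹ * 1 ∈ I) = I := by
        apply Finset.filter_true_of_mem
        intro a ha
        rw [mul_one, hmemI, orderOf_inv]
        exact (hmemI a).mp ha
      rw [hfil, if_pos rfl, if_neg (by rw [orderOf_one]; norm_num),
        if_neg (by rw [orderOf_one]; omega)]
      ring
    · rw [if_neg h1, zero_add]
      by_cases h2 : orderOf g = 2
      · rw [if_pos h2, if_neg (by omega), add_zero, hinv g h2]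
        have hcount : (I.filter (fun a => a⁻¹ * g ∈ I)).card = Q' - 2 := by
          have hA := hQ g h2
          rw [Nat.card_eq_fintype_card, Fintype.card_subtype] at hA
          have hfil : I.filter (fun a => a⁻¹ * g ∈ I) =
              (Finset.univ.filter (fun t : G => orderOf t = 2 ∧ Commute t g)).erase g := by
            ext a
            simp only [Finset.mem_filter, Finset.mem_erase, Finset.mem_univ, true_and, hmemI]
            constructor
            · rintro ⟨ha, hag⟩
              rw [inv_of_orderOf_two ha] at hag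
              obtain ⟨hc1, hne⟩ := (inv_mul_inv_iff ha h2).mp hag
              exact ⟨hne, ha, hc1⟩
            · rintro ⟨hne, ha, hc1⟩
              refine ⟨ha, ?_⟩
              rw [inv_of_orderOf_two ha]
              exact (inv_mul_inv_iff ha h2).mpr ⟨hc1, hne⟩
          have hgm : g ∈ Finset.univ.filter (fun t : G => orderOf t = 2 ∧ Commute t g) := by
            rw [Finset.mem_filter]
            exact ⟨Finset.mem_univ _, h2, Commute.refl g⟩
          rw [hfil, Finset.card_erase_of_mem hgm, hA]
          omega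
        rw [hcount, Nat.cast_sub hQ2]
        push_cast
        ring
      · rw [if_neg h2, zero_add]
        by_cases h3 : orderOf g = p
        · rw [if_pos h3]
          have hcount : (I.filter (fun a => a⁻¹ * g ∈ I)).card = p := by
            have hA := haps g h3
            rw [Nat.card_eq_fintype_card, Fintype.card_subtype] at hA
            rw [← hA]
            congr 1
            ext a
            simp only [Finset.mem_filter, Finset.mem_univ, true_and, hmemI]
            constructor
            · rintro ⟨ha, hag⟩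
              rw [inv_of_orderOf_two ha] at hag
              exact ⟨ha, hag⟩
            · rintro ⟨ha, hag⟩
              refine ⟨ha, ?_⟩
              rw [inv_of_orderOf_two ha]
              exact hag
          rw [hcount]
        · rw [if_neg h3]
          by_cases hne : (I.filter (fun a => a⁻¹ * g ∈ I)) = ∅
          · rw [hne]; simp
          · obtain ⟨a, ha⟩ := Finset.nonempty_iff_ne_empty.mpr hne
            rw [Finset.mem_filter, hmemI, hmemI] at ha
            obtain ⟨ha2, hb2⟩ := ha
            have hg : g = a * (a⁻¹ * g) := by rw [mul_inv_cancel_left]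
            have hab : a ≠ a⁻¹ * g := by
              intro h
              apply h1
              rw [hg, ← h]
              exact sq_of_orderOf_two ha2
            obtain ⟨hnc, huw, hpp⟩ := hprod a (a⁻¹ * g) ha2 hb2 hab
            rw [← hg] at hnc huw hpp
            have hz : ζ g = 0 := by
              by_cases hpd : p ∣ orderOf g
              · exact absurd (hpp hpd) h3
              · rcases hreg g hpd with hcen | ⟨u, hu, w, hw, hguw⟩ | h0
                · exact absurd hcen hnc
                · have hw1 := huw u w hu hw hguw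
                  rw [hw1, mul_one] at hguw
                  rw [hguw] at h2
                  exact absurd hu h2
                · exact h0
            rw [hz, mul_zero]
  have e1 : ∑ g : G, (if g = 1 then (I.card : ℂ) * ζ 1 else 0) = (I.card : ℂ) * ζ 1 := by
    simp
  have e2 : ∑ g : G, (if orderOf g = 2 then -((Q' : ℂ) - 2) else 0) =
      (I.card : ℂ) * (-((Q' : ℂ) - 2)) := by
    rw [← Finset.sum_filter, Finset.sum_const, nsmul_eq_mul, hI]
  have e3 : ∑ g : G, (if orderOf g = p then (p : ℂ) * ζ g else 0) =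
      (p : ℂ) * ((2 * Nat.card (Sylow p G) : ℕ) : ℂ) := by
    rw [← hsum, Finset.mul_sum]
    apply Finset.sum_congr rfl
    intro g _
    split_ifs <;> simp
  have htotal : ∑ a ∈ I, ∑ b ∈ I, ζ (a * b) =
      (I.card : ℂ) * ζ 1 + (I.card : ℂ) * (-((Q' : ℂ) - 2)) +
        (p : ℂ) * ((2 * Nat.card (Sylow p G) : ℕ) : ℂ) := by
    rw [hdouble, Finset.sum_congr rfl (fun g _ => hpt g), Finset.sum_add_distrib,
      Finset.sum_add_distrib, e1, e2, e3]
  rw [htotal, hsumI, hζ1] at hsq
  have key : ((I.card ^ 2 + (p - 2) * (I.card * (Q' - 2)) : ℕ) : ℂ) =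
      (((p - 2) * (I.card * (p - 2) + 2 * p * Nat.card (Sylow p G)) : ℕ) : ℂ) := by
    push_cast [Nat.cast_sub hQ2, Nat.cast_sub (show 2 ≤ p by omega)]
    push_cast at hsq
    linear_combination (-1 : ℂ) * hsq
  exact_mod_cast key

end core

end Cfsg.Agent.Lib.Helper25_P2_E2Core
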