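import Mathlib
import Cfsg.Prelude.Def_Characters
import Cfsg.Prelude.Def_Blocks
import Cfsg.Prelude.Def_Solvable
import Cfsg.Prelude.Def_Local
import Cfsg.Agent.Lib.Helper3_P2Defs

/-!
# S4705 package P2-APS (helper35, for helper3): exactly `p` involutions invert an element of order `p`
-/

set_option autoImplicit false
set_option linter.unusedSectionVars false
set_option linter.unusedVariables false

namespace Cfsg.Agent.Lib.Helper35_P2_APS

open Cfsg Cfsg.Agent.Lib.Helper3_P2Defs
open scoped ComplexConjugate

universe u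

section aux

variable {G : Type u} [Group G] [Finite G] {p : ℕ} [hp : Fact p.Prime] {P : Sylow p G}

/-- an element commuting with a nontrivial element of `P` (of order `p`) centralizes `P` -/
theorem mem_centralizer_of_commute (cardP : Nat.card P = p) {z n : G} (hz : z ∈ (P : Subgroup G))
    (hz1 : z ≠ 1) (hc : n * z = z * n) : n ∈ Subgroup.centralizer ((P : Subgroup G) : Set G) := by
  rw [Subgroup.mem_centralizer_iff]
  intro y hy
  have hz1' : (⟨z, hz⟩ : ↥(P : Subgroup G)) ≠ 1 := by
    intro h
    exact hz1 (congrArg Subtype.val h)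
  have hmem : (⟨y, hy⟩ : ↥(P : Subgroup G)) ∈ Subgroup.zpowers (⟨z, hz⟩ : ↥(P : Subgroup G)) :=
    mem_zpowers_of_prime_card cardP hz1'
  obtain ⟨k, hk⟩ := Subgroup.mem_zpowers_iff.mp hmem
  have hk' : z ^ k = y := by
    have := congrArg Subtype.val hk
    simpa using this
  rw [← hk']
  have : Commute n z := hc
  exact ((this.zpow_right k).eq).symm

theorem comm_of_mem (cardP : Nat.card P = p) {a b : G} (ha : a ∈ (P : Subgroup G))
    (hb : b ∈ (P : Subgroup G)) : a * b = b * a := by
  by_cases ha1 : a = 1
  · rw [ha1, one_mul, mul_one]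
  · have := mem_centralizer_of_commute cardP ha ha1 (rfl : a * a = a * a)
    rw [Subgroup.mem_centralizer_iff] at this
    exact (this b hb).symm

variable (cardP : Nat.card P = p)
  (idx : (Subgroup.centralizer ((P : Subgroup G) : Set G)).relIndex
    (Subgroup.normalizer ((P : Subgroup G) : Set G)) = 2)

include idx in
theorem mul_mem_iff {a b : G} (ha : a ∈ Subgroup.normalizer ((P : Subgroup G) : Set G))
    (hb : b ∈ Subgroup.normalizer ((P : Subgroup G) : Set G)) :
    a * b ∈ Subgroup.centralizer ((P : Subgroup G) : Set G) ↔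
      (a ∈ Subgroup.centralizer ((P : Subgroup G) : Set G) ↔
        b ∈ Subgroup.centralizer ((P : Subgroup G) : Set G)) := by
  have h := Subgroup.mul_mem_iff_of_index_two (H := (Subgroup.centralizer ((P : Subgroup G) : Set G)).subgroupOf
    (Subgroup.normalizer ((P : Subgroup G) : Set G))) idx
    (a := ⟨a, ha⟩) (b := ⟨b, hb⟩)
  simpa [Subgroup.mem_subgroupOf] using h

include cardP idx in
/-- an element of `N ∖ C` inverts `P` -/
theorem inverts {n x : G} (hn : n ∈ Subgroup.normalizer ((P : Subgroup G) : Set G))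
    (hnC : n ∉ Subgroup.centralizer ((P : Subgroup G) : Set G)) (hx : x ∈ (P : Subgroup G)) :
    n * x * n⁻¹ = x⁻¹ := by
  have hy : n * x * n⁻¹ ∈ (P : Subgroup G) := (Subgroup.mem_normalizer_iff.mp hn x).mp hx
  have hnn : n * n ∈ Subgroup.centralizer ((P : Subgroup G) : Set G) :=
    (mul_mem_iff idx hn hn).mpr Iff.rfl
  have hnnx : n * n * x = x * (n * n) := by
    rw [Subgroup.mem_centralizer_iff] at hnn
    exact (hnn x hx).symm
  set y := n * x * n⁻¹ with hydef
  have hxy : x * y = y * x := comm_of_mem cardP hx hy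
  have hz : x * y ∈ (P : Subgroup G) := Subgroup.mul_mem _ hx hy
  have hcz : n * (x * y) = (x * y) * n := by
    have e1 : n * (x * y) = (n * x * n⁻¹) * (n * n * x) * n⁻¹ := by
      rw [hydef]; group
    rw [e1, hnnx, ← hydef]
    have e2 : y * (x * (n * n)) * n⁻¹ = (y * x) * n := by group
    rw [e2, ← hxy]
  by_contra hne
  have hz1 : x * y ≠ 1 := by
    intro h
    apply hne
    exact (eq_inv_of_mul_eq_one_right h)
  exact hnC (mem_centralizer_of_commute cardP hz hz1 hcz)

end aux

section main

variable {G : Type u} [Group G] [Fintype G] {p : ℕ} [hp : Fact p.Prime] {P : Sylow p G}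
  {ζ : G → ℂ} {k₂ : ℕ}

/-- the case `x ∈ P` -/
theorem aps_aux (hc : Core G p P ζ k₂) (hno4 : ∀ u : G, orderOf u ≠ 4)
    (x : G) (hxP : x ∈ (P : Subgroup G)) (hx1 : x ≠ 1) :
    Nat.card {a : G // orderOf a = 2 ∧ orderOf (a * x) = 2} = p := by
  classical
  have cardP := hc.cardP
  have idx := hc.idx
  have hp5 := hc.p5
  set N := Subgroup.normalizer ((P : Subgroup G) : Set G) with hN
  set C := Subgroup.centralizer ((P : Subgroup G) : Set G) with hC
  have hCN : C ≤ N := Subgroup.centralizer_le_normalizer _
  have hPC : (P : Subgroup G) ≤ C := by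
    intro y hy
    rw [hC, Subgroup.mem_centralizer_iff]
    intro b hb
    exact comm_of_mem cardP hb hy
  -- `x` has order `p`, so `x ≠ x⁻¹`
  have hxinv : x⁻¹ ≠ x := by
    intro h
    have h2 : x ^ 2 = 1 := by
      rw [pow_two]
      nth_rewrite 1 [← h]
      exact inv_mul_cancel x
    have hord : orderOf (⟨x, hxP⟩ : ↥(P : Subgroup G)) ∣ 2 := by
      apply orderOf_dvd_of_pow_eq_one
      exact Subtype.ext (by simpa using h2)
    have hord2 : orderOf (⟨x, hxP⟩ : ↥(P : Subgroup G)) ∣ p := by
      have h := orderOf_dvd_natCard (⟨x, hxP⟩ : ↥(P : Subgroup G))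
      rw [cardP] at h
      exact h
    have hcop : Nat.Coprime 2 p := by
      rw [Nat.coprime_primes Nat.prime_two hp.out]
      omega
    have h1 : orderOf (⟨x, hxP⟩ : ↥(P : Subgroup G)) = 1 :=
      Nat.eq_one_of_dvd_coprimes hcop hord hord2
    rw [orderOf_eq_one_iff] at h1
    exact hx1 (congrArg Subtype.val h1)
  -- an involution in `N ∖ C`
  obtain ⟨a₀, ha₀N, ha₀C, ha₀2⟩ : ∃ a₀ : G, a₀ ∈ N ∧ a₀ ∉ C ∧ a₀ * a₀ = 1 := by
    obtain ⟨n, hnN, hnC⟩ : ∃ n : G, n ∈ N ∧ n ∉ C := by
      by_contra hcon
      push Not at hcon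
      have : N ≤ C := fun n hn => hcon n hn
      have h1 : C.relIndex N = 1 := Subgroup.relIndex_eq_one.mpr this
      omega
    have hord0 : orderOf n ≠ 0 := (orderOf_pos n).ne'
    obtain ⟨e, m, hm, hem⟩ := Nat.exists_eq_two_pow_mul_odd hord0
    have hm0 : m ≠ 0 := by
      rintro rfl
      exact (Nat.not_odd_iff_even.mpr (by decide : Even 0)) hm
    have hordm : orderOf (n ^ m) = 2 ^ e := by
      rw [orderOf_pow_of_dvd hm0 (by rw [hem]; exact Dvd.intro_left _ rfl), hem,
        Nat.mul_div_cancel _ (Nat.pos_of_ne_zero hm0)]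
    -- `n ^ m ∈ N ∖ C`
    have hpowN : ∀ k : ℕ, n ^ k ∈ N := fun k => Subgroup.pow_mem _ hnN k
    have hpowC : ∀ k : ℕ, (n ^ k ∈ C ↔ Even k) := by
      intro k
      induction k with
      | zero => simp
      | succ k ih =>
        rw [pow_succ, mul_mem_iff idx (hpowN k) hnN, ih]
        constructor
        · intro h
          by_contra hk
          have hk' : Even k := by
            rcases Nat.even_or_odd k with h1 | h1
            · exact h1
            · exact absurd (Nat.even_add_one.mpr (Nat.not_even_iff_odd.mpr h1)) hk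
          exact hnC (h.mp hk')
        · intro h
          have hk : ¬ Even k := Nat.even_add_one.mp h
          exact ⟨fun h1 => absurd h1 hk, fun h1 => absurd h1 hnC⟩
    have hmC : n ^ m ∉ C := by
      rw [hpowC]
      exact Nat.not_even_iff_odd.mpr hm
    have he1 : e ≠ 0 := by
      rintro rfl
      rw [pow_zero, orderOf_eq_one_iff] at hordm
      exact hmC (hordm ▸ Subgroup.one_mem _)
    have he2 : e < 2 := by
      by_contra hcon
      push Not at hcon
      have h4 : orderOf ((n ^ m) ^ (2 ^ (e - 2))) = 4 := by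
        rw [orderOf_pow_of_dvd (by positivity) (by rw [hordm]; exact pow_dvd_pow 2 (by omega)), hordm,
          Nat.pow_div (by omega) (by norm_num)]
        have : e - (e - 2) = 2 := by omega
        rw [this]
      exact hno4 _ h4
    have he : e = 1 := by omega
    refine ⟨n ^ m, hpowN m, hmC, ?_⟩
    rw [he, pow_one] at hordm
    rw [← pow_two, ← hordm, pow_orderOf_eq_one]
  have ha₀inv : a₀⁻¹ = a₀ := inv_eq_of_mul_eq_one_left ha₀2
  have hinv0 : ∀ y ∈ (P : Subgroup G), a₀ * y * a₀ = y⁻¹ := by
    intro y hy
    have := inverts cardP idx ha₀N ha₀C hy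
    rwa [ha₀inv] at this
  -- the bijection with `P`
  have key : ∀ a : G, (orderOf a = 2 ∧ orderOf (a * x) = 2) ↔ a₀ * a ∈ (P : Subgroup G) := by
    intro a
    constructor
    · rintro ⟨ha, hax⟩
      have ha2 : a * a = 1 := by rw [← pow_two, ← ha, pow_orderOf_eq_one]
      have hainv : a⁻¹ = a := inv_eq_of_mul_eq_one_left ha2
      have hax2 : a * x * (a * x) = 1 := by rw [← pow_two, ← hax, pow_orderOf_eq_one]
      have hconj : a * x * a⁻¹ = x⁻¹ := by
        rw [hainv]
        have : a * x * a = (a * x * (a * x)) * x⁻¹ := by group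
        rw [this, hax2, one_mul]
      -- `a` normalizes `P`
      have haN : a ∈ N := by
        rw [hN, Subgroup.mem_normalizer_iff]
        have hpow : ∀ y ∈ (P : Subgroup G), a * y * a⁻¹ ∈ (P : Subgroup G) := by
          intro y hy
          have hx1' : (⟨x, hxP⟩ : ↥(P : Subgroup G)) ≠ 1 := fun h => hx1 (congrArg Subtype.val h)
          have hmem : (⟨y, hy⟩ : ↥(P : Subgroup G)) ∈ Subgroup.zpowers (⟨x, hxP⟩ : ↥(P : Subgroup G)) :=
            mem_zpowers_of_prime_card cardP hx1'
          obtain ⟨k, hk⟩ := Subgroup.mem_zpowers_iff.mp hmem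
          have hk' : x ^ k = y := by
            have := congrArg Subtype.val hk
            simpa using this
          have : a * y * a⁻¹ = (a * x * a⁻¹) ^ k := by
            rw [← hk', conj_zpow]
          rw [this, hconj]
          exact Subgroup.zpow_mem _ (Subgroup.inv_mem _ hxP) k
        intro y
        constructor
        · exact hpow y
        · intro hy
          have := hpow _ hy
          rw [hainv] at this hy
          have e : a * (a * y * a) * a = (a * a) * y * (a * a) := by group
          rw [e, ha2, one_mul, mul_one] at this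
          exact this
      have haC : a ∉ C := by
        intro h
        rw [hC, Subgroup.mem_centralizer_iff] at h
        have h1 := h x hxP
        apply hxinv
        rw [← hconj, ← h1]
        group
      -- `a₀ a ∈ C`
      have hcC : a₀ * a ∈ C := (mul_mem_iff idx ha₀N haN).mpr ⟨fun h => absurd h ha₀C, fun h => absurd h haC⟩
      obtain ⟨y, hy, w, hw, hyw⟩ := hc.cent _ hcC
      -- `a = a₀ y w`, `a² = w²`
      have ha_eq : a = a₀ * y * w := by
        have : a = a₀ * (a₀ * a) := by
          rw [← mul_assoc, ha₀2, one_mul]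
        rw [this, hyw, mul_assoc]
      have hwc : ∀ g : G, g * w = w * g := fun g => (Subgroup.mem_center_iff.mp hw g)
      have hw2 : w * w = 1 := by
        have e1 : a * a = (a₀ * y * a₀) * y * (w * w) := by
          rw [ha_eq]
          have : a₀ * y * w * (a₀ * y * w) = a₀ * y * (w * (a₀ * y)) * w := by group
          rw [this, ← hwc (a₀ * y)]
          group
        rw [ha2, hinv0 y hy, inv_mul_cancel, one_mul] at e1
        exact e1.symm
      have hw1 : w = 1 := by
        have hord : orderOf (⟨w, hw⟩ : Subgroup.center G) ∣ 2 := by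
          apply orderOf_dvd_of_pow_eq_one
          exact Subtype.ext (by simpa [pow_two] using hw2)
        have hord2 : orderOf (⟨w, hw⟩ : Subgroup.center G) ∣ Nat.card (Subgroup.center G) :=
          orderOf_dvd_natCard _
        have hcop : Nat.Coprime 2 (Nat.card (Subgroup.center G)) :=
          Nat.coprime_two_left.mpr hc.zodd
        have h1 : orderOf (⟨w, hw⟩ : Subgroup.center G) = 1 :=
          Nat.eq_one_of_dvd_coprimes hcop hord hord2
        rw [orderOf_eq_one_iff] at h1
        exact congrArg Subtype.val h1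
      rw [hyw, hw1, mul_one]
      exact hy
    · intro hmem
      set y := a₀ * a with hy
      have ha_eq : a = a₀ * y := by
        rw [hy, ← mul_assoc, ha₀2, one_mul]
      have ha2 : a * a = 1 := by
        rw [ha_eq]
        have : a₀ * y * (a₀ * y) = (a₀ * y * a₀) * y := by group
        rw [this, hinv0 y hmem, inv_mul_cancel]
      have haC : a ∉ C := by
        intro h
        have hyC : y ∈ C := hPC hmem
        have : a₀ ∈ C := by
          have e : a₀ = a * y⁻¹ := by rw [ha_eq]; group
          rw [e]
          exact Subgroup.mul_mem _ h (Subgroup.inv_mem _ hyC)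
        exact ha₀C this
      have ha1 : a ≠ 1 := by
        intro h
        exact haC (h ▸ Subgroup.one_mem _)
      have haN : a ∈ N := by
        rw [ha_eq]
        exact Subgroup.mul_mem _ ha₀N (hCN (hPC hmem))
      have hainv : a⁻¹ = a := inv_eq_of_mul_eq_one_left ha2
      have hconj : a * x * a = x⁻¹ := by
        have := inverts cardP idx haN haC hxP
        rwa [hainv] at this
      have hord : orderOf a = 2 := by
        apply orderOf_eq_prime (p := 2)
        · rw [pow_two]; exact ha2
        · exact ha1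
      refine ⟨hord, ?_⟩
      apply orderOf_eq_prime (p := 2)
      · rw [pow_two]
        have : a * x * (a * x) = (a * x * a) * x := by group
        rw [this, hconj, inv_mul_cancel]
      · intro h
        have hxa : x = a⁻¹ := eq_inv_of_mul_eq_one_right h
        rw [hainv] at hxa
        apply haC
        rw [← hxa]
        exact hPC hxP
  have e : {a : G // orderOf a = 2 ∧ orderOf (a * x) = 2} ≃ ↥(P : Subgroup G) :=
    { toFun := fun a => ⟨a₀ * a.1, (key a.1).mp a.2⟩
      invFun := fun y => ⟨a₀ * y.1, (key _).mpr (by rw [← mul_assoc, ha₀2, one_mul]; exact y.2)⟩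
      left_inv := by
        intro a
        apply Subtype.ext
        show a₀ * (a₀ * a.1) = a.1
        rw [← mul_assoc, ha₀2, one_mul]
      right_inv := by
        intro y
        apply Subtype.ext
        show a₀ * (a₀ * y.1) = y.1
        rw [← mul_assoc, ha₀2, one_mul] }
  rw [Nat.card_congr e]
  exact cardP

theorem aps (hc : Core G p P ζ k₂) (hno4 : ∀ u : G, orderOf u ≠ 4)
    (x : G) (hx : orderOf x = p) :
    Nat.card {a : G // orderOf a = 2 ∧ orderOf (a * x) = 2} = p := by
  classical
  -- conjugate `x` into `P`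
  have hpg : IsPGroup p ↥(Subgroup.zpowers x) := by
    apply IsPGroup.of_card (n := 1)
    rw [Nat.card_zpowers, hx, pow_one]
  obtain ⟨Q, hQ⟩ := hpg.exists_le_sylow
  obtain ⟨g, hg⟩ := MulAction.exists_smul_eq G Q P
  have hxQ : x ∈ (Q : Subgroup G) := hQ (Subgroup.mem_zpowers x)
  have hgx : g * x * g⁻¹ ∈ (P : Subgroup G) := by
    rw [← hg, Sylow.coe_subgroup_smul]
    have := Subgroup.smul_mem_pointwise_smul x (MulAut.conj g) (Q : Subgroup G) hxQ
    rwa [MulAut.smul_def, MulAut.conj_apply] at this
  have hx1 : x ≠ 1 := by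
    rintro rfl
    rw [orderOf_one] at hx
    exact hp.out.one_lt.ne hx
  have hgx1 : g * x * g⁻¹ ≠ 1 := by
    intro h
    apply hx1
    have : x = g⁻¹ * (g * x * g⁻¹) * g := by group
    rw [this, h]
    group
  rw [← aps_aux hc hno4 (g * x * g⁻¹) hgx hgx1]
  refine Nat.card_congr ((MulAut.conj g).toEquiv.subtypeEquiv ?_)
  intro a
  have h1 : orderOf ((MulAut.conj g) a) = orderOf a := MulEquiv.orderOf_eq _ a
  have h2 : (MulAut.conj g) a * (g * x * g⁻¹) = (MulAut.conj g) (a * x) := by
    simp only [MulAut.conj_apply]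
    group
  show orderOf a = 2 ∧ orderOf (a * x) = 2 ↔
    orderOf ((MulAut.conj g) a) = 2 ∧ orderOf ((MulAut.conj g) a * (g * x * g⁻¹)) = 2
  rw [h1, h2, MulEquiv.orderOf_eq]

end main

end Cfsg.Agent.Lib.Helper35_P2_APS
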