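import Mathlib
import Cfsg.Prelude.Def_Characters
import Cfsg.Prelude.Def_Blocks
import Cfsg.Prelude.Def_Solvable
import Cfsg.Prelude.Def_Local
import Cfsg.Agent.Lib.Helper3_P2Defs
import Cfsg.Agent.Lib.Helper16_GenSetup
import Cfsg.Agent.Lib.Helper16_GenMain
import Cfsg.Agent.Lib.Helper16_GenFinal
import Cfsg.Agent.Lib.Helper80_CharBasic
import Cfsg.Agent.S1504

/-!
# S4705 package P2-E2B (architect helper3): the sum of `ζ` over the elements of order `p` is `2 n_p`.
-/

set_option autoImplicit false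
set_option linter.unusedSectionVars false
set_option linter.unusedVariables false

namespace Cfsg.Agent.Lib.Helper53_P2_E2B

open Cfsg Cfsg.Agent.Lib.Helper3_P2Defs Cfsg.Agent.Lib.Helper16_GenSetup
  Cfsg.Agent.Lib.Helper16_GenMain Cfsg.Agent.Lib.Helper16_GenFinal
open scoped ComplexConjugate

universe u

variable {G : Type u} [Group G] [Fintype G] {p : ℕ} [hp : Fact p.Prime] {P : Sylow p G}
  {ζ : G → ℂ} {k₂ : ℕ}

/-- the sum of `ζ` over `P ∖ 1` is `2` -/
theorem sum_P (h : Hyp G p P ζ) (hl : Loc G p P ζ)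
    [hd : ∀ x : G, Decidable (x ∈ (P : Subgroup G) ∧ x ≠ 1)] :
    ∑ x : G, (if x ∈ (P : Subgroup G) ∧ x ≠ 1 then ζ x else 0) = 2 := by
  classical
  have hP : ∑ x : G, (if x ∈ (P : Subgroup G) ∧ x ≠ 1 then ζ x else 0) =
      ∑ x : ↥(P : Subgroup G), (if (x : G) ≠ 1 then ζ x else 0) := by
    rw [← Finset.sum_subtype (Finset.univ.filter (fun x : G => x ∈ (P : Subgroup G))) (by simp)
      (fun x => if x ≠ 1 then ζ x else 0), Finset.sum_filter]
    apply Finset.sum_congr rfl
    intro x _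
    by_cases hx : x ∈ (P : Subgroup G) <;> simp [hx]
  rw [hP]
  obtain ⟨lam, hlam1, hlam⟩ := hl.vals
  have hpt : ∀ x : ↥(P : Subgroup G), (if (x : G) ≠ 1 then ζ x else 0) =
      -(((lam x : ℂˣ) : ℂ) + ((lam⁻¹ x : ℂˣ) : ℂ)) + (if x = 1 then 2 else 0) := by
    intro x
    by_cases hx : x = 1
    · subst hx
      simp
      norm_num
    · have hx' : (x : G) ≠ 1 := fun h1 => hx (Subtype.ext h1)
      rw [if_pos hx', if_neg hx, add_zero, hlam x hx, MonoidHom.inv_apply]
  have hlam2 : lam⁻¹ ≠ 1 := by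
    intro h1
    apply hlam1
    ext x
    have h2 := DFunLike.congr_fun h1 x
    rw [MonoidHom.inv_apply, MonoidHom.one_apply, inv_eq_one] at h2
    rw [h2, MonoidHom.one_apply]
  rw [Finset.sum_congr rfl (fun x _ => hpt x), Finset.sum_add_distrib, Finset.sum_neg_distrib,
    Finset.sum_add_distrib, Cfsg.Agent.S1504.sum_units_hom_eq_zero lam hlam1,
    Cfsg.Agent.S1504.sum_units_hom_eq_zero lam⁻¹ hlam2]
  simp

theorem sum_order_p (h : Hyp G p P ζ) (hl : Loc G p P ζ) :
    ∑ g : G, (if orderOf g = p then ζ g else 0) = ((2 * Nat.card (Sylow p G) : ℕ) : ℂ) := by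
  classical
  have : Fintype (Sylow p G) := Fintype.ofFinite _
  have hclass : ∀ g c : G, ζ (c * g * c⁻¹) = ζ g := fun g c =>
    Cfsg.Agent.Lib.Helper80_CharBasic.irr_conj ⟨ζ, h.irr⟩ g c
  have hcardS : ∀ Q : Sylow p G, Nat.card (Q : Subgroup G) = p := fun Q => by
    rw [Q.card_eq_multiplicity, ← P.card_eq_multiplicity]; exact h.cardP
  -- every element of order `p` lies in exactly one Sylow subgroup
  have key1 : ∀ g : G, ∑ Q : Sylow p G, (if g ∈ (Q : Subgroup G) ∧ g ≠ 1 then ζ g else 0) =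
      if orderOf g = p then ζ g else 0 := by
    intro g
    by_cases hg : orderOf g = p
    · rw [if_pos hg]
      have hg1 : g ≠ 1 := by
        intro h1
        rw [h1, orderOf_one] at hg
        exact hp.out.one_lt.ne hg
      have hcz : Nat.card (Subgroup.zpowers g) = p := by rw [Nat.card_zpowers, hg]
      have hpg : IsPGroup p (Subgroup.zpowers g) :=
        IsPGroup.of_card (n := 1) (by rw [hcz, pow_one])
      obtain ⟨Q0, hQ0⟩ := hpg.exists_le_sylow
      have hgQ0 : g ∈ (Q0 : Subgroup G) := hQ0 (Subgroup.mem_zpowers g)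
      rw [Finset.sum_eq_single Q0]
      · rw [if_pos ⟨hgQ0, hg1⟩]
      · intro Q _ hQ
        rw [if_neg]
        rintro ⟨hgQ, -⟩
        apply hQ
        have hzQ : Subgroup.zpowers g ≤ (Q : Subgroup G) := by
          rw [Subgroup.zpowers_le]; exact hgQ
        have e1 : Subgroup.zpowers g = (Q : Subgroup G) :=
          Subgroup.eq_of_le_of_card_ge hzQ (by rw [hcardS Q, hcz])
        have e2 : Subgroup.zpowers g = (Q0 : Subgroup G) :=
          Subgroup.eq_of_le_of_card_ge hQ0 (by rw [hcardS Q0, hcz])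
        exact Sylow.ext (e1.symm.trans e2)
      · intro hQ0'
        exact absurd (Finset.mem_univ Q0) hQ0'
    · rw [if_neg hg]
      apply Finset.sum_eq_zero
      intro Q _
      rw [if_neg]
      rintro ⟨hgQ, hg1⟩
      apply hg
      have h1 : orderOf g ∣ p := by
        have := orderOf_dvd_natCard (⟨g, hgQ⟩ : ↥(Q : Subgroup G))
        rw [hcardS Q, Subgroup.orderOf_mk] at this
        exact this
      rcases (Nat.dvd_prime hp.out).mp h1 with h2 | h2
      · exact absurd (orderOf_eq_one_iff.mp h2) hg1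
      · exact h2
  -- conjugate Sylow subgroups carry the same sum
  have hmem : ∀ (c g : G), g ∈ ((c • P : Sylow p G) : Subgroup G) ↔
      c⁻¹ * g * c ∈ (P : Subgroup G) := by
    intro c g
    rw [Sylow.smul_def, Sylow.pointwise_smul_def, Subgroup.mem_pointwise_smul_iff_inv_smul_mem]
    simp [MulAut.smul_def]
  have key2 : ∀ Q : Sylow p G,
      ∑ g : G, (if g ∈ (Q : Subgroup G) ∧ g ≠ 1 then ζ g else 0) = 2 := by
    intro Q
    obtain ⟨c, rfl⟩ := MulAction.exists_smul_eq G P Q
    rw [← sum_P h hl]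
    refine Fintype.sum_equiv (MulAut.conj c⁻¹).toEquiv _ _ ?_
    intro g
    have e1 : (MulAut.conj c⁻¹).toEquiv g = c⁻¹ * g * c := by simp
    rw [e1, hmem c g]
    have e2 : ζ (c⁻¹ * g * c) = ζ g := by
      have := hclass g c⁻¹
      rwa [inv_inv] at this
    have e3 : c⁻¹ * g * c ≠ 1 ↔ g ≠ 1 := by
      constructor
      · intro h1 h2; apply h1; rw [h2]; group
      · intro h1 h2; apply h1
        have : g = c * (c⁻¹ * g * c) * c⁻¹ := by group
        rw [this, h2]; group
    rw [e2]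
    by_cases hg1 : g ≠ 1
    · simp only [e3.mpr hg1, hg1, ne_eq, not_false_eq_true, and_true]
    · have hg1' : ¬ (c⁻¹ * g * c ≠ 1) := fun h1 => hg1 (e3.mp h1)
      rw [if_neg (fun h1 => hg1 h1.2), if_neg (fun h1 => hg1' h1.2)]
  calc ∑ g : G, (if orderOf g = p then ζ g else 0)
      = ∑ g : G, ∑ Q : Sylow p G, (if g ∈ (Q : Subgroup G) ∧ g ≠ 1 then ζ g else 0) := by
        apply Finset.sum_congr rfl; intro g _; rw [key1 g]
    _ = ∑ Q : Sylow p G, ∑ g : G, (if g ∈ (Q : Subgroup G) ∧ g ≠ 1 then ζ g else 0) :=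
        Finset.sum_comm
    _ = ∑ Q : Sylow p G, (2 : ℂ) := by
        apply Finset.sum_congr rfl; intro Q _; rw [key2 Q]
    _ = ((2 * Nat.card (Sylow p G) : ℕ) : ℂ) := by
        rw [Finset.sum_const, Finset.card_univ, Nat.card_eq_fintype_card]
        push_cast
        simp [mul_comm]

end Cfsg.Agent.Lib.Helper53_P2_E2B
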