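import Mathlib
import Cfsg.Prelude.Def_Characters
import Cfsg.Prelude.Def_Blocks
import Cfsg.Agent.Lib.Helper78_CentralChar

/-!
# P2-CLSUM (S4705 market, architect helper3): the class-sum square formula and integrality of the
central character on a conjugation-closed finite set (helper73).
-/

set_option autoImplicit false
set_option linter.unusedSectionVars false
set_option linter.unusedVariables false

namespace Cfsg.Agent.Lib.Helper73_P2_CLSUM

open Cfsg Cfsg.Agent.Lib.Helper78_CentralChar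

universe u

section Rep

variable {G V : Type*} [Group G] [AddCommGroup V] [Module ℂ V] [FiniteDimensional ℂ V]

/-- The sum of `ρ s` over a finite set `S`. -/
noncomputable def setSumOp (ρ : Representation ℂ G V) (S : Finset G) : V →ₗ[ℂ] V :=
  ∑ s ∈ S, ρ s

theorem setSumOp_comm (ρ : Representation ℂ G V) (S : Finset G)
    (hS : ∀ g x : G, x ∈ S → g * x * g⁻¹ ∈ S) (g : G) :
    setSumOp ρ S ∘ₗ ρ g = ρ g ∘ₗ setSumOp ρ S := by
  classical
  unfold setSumOp
  show (∑ s ∈ S, ρ s) * ρ g = ρ g * ∑ s ∈ S, ρ s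
  rw [Finset.sum_mul, Finset.mul_sum]
  -- reindex by `s ↦ g * s * g⁻¹`
  have hbij : ∑ s ∈ S, ρ g * ρ s = ∑ s ∈ S, ρ (g * s * g⁻¹) * ρ g := by
    refine Finset.sum_congr rfl fun s _ => ?_
    rw [← map_mul, ← map_mul]
    congr 1
    group
  rw [hbij]
  refine (Finset.sum_bij' (fun s _ => g⁻¹ * s * g) (fun s _ => g * s * g⁻¹) ?_ ?_ ?_ ?_ ?_)
  · intro s hs
    have := hS g⁻¹ s hs
    simpa using this
  · intro s hs; exact hS g s hs
  · intro s _; group
  · intro s _; group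
  · intro s _
    congr 2
    group

theorem trace_setSumOp (ρ : Representation ℂ G V) (S : Finset G) :
    LinearMap.trace ℂ V (setSumOp ρ S) = ∑ s ∈ S, ρ.character s := by
  unfold setSumOp
  rw [map_sum]
  rfl

theorem trace_setSumOp_sq (ρ : Representation ℂ G V) (S : Finset G) :
    LinearMap.trace ℂ V (setSumOp ρ S ∘ₗ setSumOp ρ S) =
      ∑ a ∈ S, ∑ b ∈ S, ρ.character (a * b) := by
  unfold setSumOp
  show LinearMap.trace ℂ V ((∑ s ∈ S, ρ s) * ∑ s ∈ S, ρ s) = _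
  rw [Finset.sum_mul, map_sum]
  refine Finset.sum_congr rfl fun a _ => ?_
  rw [Finset.mul_sum, map_sum]
  refine Finset.sum_congr rfl fun b _ => ?_
  rw [← map_mul]
  rfl

/-- The operator `∑_{s ∈ S} ρ s` for a conjugation-closed `S` is an algebraic integer scalar. -/
theorem setSumOp_eq_smul (ρ : Representation ℂ G V) [ρ.IsIrreducible] (S : Finset G)
    (hS : ∀ g x : G, x ∈ S → g * x * g⁻¹ ∈ S) [Finite G] :
    ∃ c : ℂ, setSumOp ρ S = c • LinearMap.id ∧ IsIntegral ℤ c := by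
  classical
  obtain ⟨c, hc⟩ := exists_scalar_of_commute ρ (setSumOp ρ S) (setSumOp_comm ρ S hS)
  refine ⟨c, hc, ?_⟩
  have := nontrivial_of_irreducible ρ
  let s : MonoidAlgebra ℤ G := ∑ k ∈ S, MonoidAlgebra.of ℤ G k
  have hs : IsIntegral ℤ s := IsIntegral.of_finite ℤ s
  let φ : MonoidAlgebra ℤ G →ₐ[ℤ] Module.End ℂ V := MonoidAlgebra.lift ℤ (Module.End ℂ V) G ρ
  have hφ : IsIntegral ℤ (φ s) := hs.map φ
  have hφs : φ s = setSumOp ρ S := by
    simp only [s, φ, map_sum, MonoidAlgebra.lift_of]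
    rfl
  rw [hφs, hc] at hφ
  have hinj : Function.Injective (algebraMap ℂ (Module.End ℂ V)) :=
    (algebraMap ℂ (Module.End ℂ V)).injective
  have h4 : c • (LinearMap.id : V →ₗ[ℂ] V) = algebraMap ℂ (Module.End ℂ V) c := by
    rw [Algebra.algebraMap_eq_smul_one]
    rfl
  rw [h4] at hφ
  exact (isIntegral_algebraMap_iff hinj).1 hφ

end Rep

/-- A complex number that is an algebraic integer and a quotient of integers `n / d`, `d ≠ 0`:
then `d ∣ n`. -/
theorem dvd_of_isIntegral_div {c : ℂ} (hc : IsIntegral ℤ c) (n : ℤ) (d : ℕ) (hd : 0 < d)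
    (h : c * (d : ℂ) = (n : ℂ)) : (d : ℤ) ∣ n := by
  have hd0 : (d : ℂ) ≠ 0 := by exact_mod_cast hd.ne'
  have hcq : c = ((((n : ℚ) / (d : ℚ)) : ℚ) : ℂ) := by
    push_cast
    field_simp
    exact h
  rw [hcq] at hc
  have hinj : Function.Injective (algebraMap ℚ ℂ) := (algebraMap ℚ ℂ).injective
  have hq : IsIntegral ℤ ((n : ℚ) / (d : ℚ)) := by
    have := (isIntegral_algebraMap_iff (A := ℚ) (B := ℂ) (R := ℤ) hinj).1 hc
    exact this
  obtain ⟨m, hm⟩ := IsIntegrallyClosed.isIntegral_iff.mp hq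
  refine ⟨m, ?_⟩
  have hdq : (d : ℚ) ≠ 0 := by exact_mod_cast hd.ne'
  have : (n : ℚ) = (d : ℚ) * (m : ℚ) := by
    have hm' : (m : ℚ) = (n : ℚ) / (d : ℚ) := by simpa using hm
    rw [hm']
    field_simp
  exact_mod_cast this

section final

variable {G : Type u} [Group G] [Fintype G] {ζ : G → ℂ}

/-- **P2-CLSUM**. -/
theorem class_sq (hirr : IsIrrCharacter G ζ) (S : Finset G)
    (hS : ∀ g x : G, x ∈ S → g * x * g⁻¹ ∈ S) :
    (∑ a ∈ S, ∑ b ∈ S, ζ (a * b)) * ζ 1 = (∑ a ∈ S, ζ a) ^ 2 ∧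
    ∀ n : ℤ, ∑ a ∈ S, ζ a = (n : ℂ) → ((charDegree ζ : ℕ) : ℤ) ∣ n := by
  obtain ⟨hdeg, hpos⟩ := isIrrCharacter_one_eq_charDegree hirr
  obtain ⟨k, ρ, hρ, rfl⟩ := hirr
  have := hρ
  obtain ⟨c, hc, hint⟩ := setSumOp_eq_smul ρ S hS
  have h1 : ∑ a ∈ S, ρ.character a = c * ρ.character 1 := by
    rw [← trace_setSumOp, hc, map_smul, smul_eq_mul, Representation.char_one]
    simp
  have h2 : ∑ a ∈ S, ∑ b ∈ S, ρ.character (a * b) = c ^ 2 * ρ.character 1 := by
    rw [← trace_setSumOp_sq, hc, LinearMap.smul_comp, LinearMap.comp_smul, map_smul, map_smul,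
      Representation.char_one]
    simp
    ring
  refine ⟨?_, ?_⟩
  · rw [h1, h2]; ring
  · intro n hn
    rw [h1, hdeg] at hn
    exact dvd_of_isIntegral_div hint n _ hpos hn

end final

end Cfsg.Agent.Lib.Helper73_P2_CLSUM
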