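import Mathlib
import Cfsg.Prelude.Def_Characters
import Cfsg.Prelude.Def_Blocks
import Cfsg.Prelude.Def_Solvable
import Cfsg.Prelude.Def_Local
import Cfsg.Agent.Lib.Helper3_P2Defs
import Cfsg.Agent.Lib.Helper16_GenSetup
import Cfsg.Agent.Lib.Helper16_GenMain
import Cfsg.Agent.Lib.Helper16_GenFinal
import Cfsg.Agent.Lib.Helper25_P2_E2Core
import Cfsg.Agent.Lib.Helper73_P2_CLSUM
import Cfsg.Agent.Lib.Helper35_P2_APS
import Cfsg.Agent.Lib.Helper53_P2_E2B
import Cfsg.Agent.Lib.Helper86_P2_E2A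

/-!
# S4705 package P2-E2 (architect helper3): the class-algebra equation (E2).
Assembly of `Helper25_P2_E2Core.eqE2_core` with the packages P2-CLSUM, P2-APS, P2-E2A, P2-E2B.
-/

set_option autoImplicit false
set_option linter.unusedSectionVars false
set_option linter.unusedVariables false

namespace Cfsg.Agent.Lib.Helper25_P2_E2

open Cfsg Cfsg.Agent.Lib.Helper3_P2Defs Cfsg.Agent.Lib.Helper16_GenSetup
  Cfsg.Agent.Lib.Helper16_GenMain Cfsg.Agent.Lib.Helper16_GenFinal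
open scoped ComplexConjugate

universe u

section partB3

variable {G : Type u} [Group G] [Fintype G] {p : ℕ} [hp : Fact p.Prime] {P : Sylow p G}
  {ζ : G → ℂ} {k₂ : ℕ}

open scoped Classical in
theorem eqE2 (hc : Core G p P ζ k₂) (hinv : ∀ u : G, orderOf u = 2 → ζ u = -1)
    (hno4 : ∀ u : G, orderOf u ≠ 4) (hreg : RegVals G p ζ)
    (hQ : ∀ u : G, orderOf u = 2 →
      Nat.card {t : G // orderOf t = 2 ∧ Commute t u} = 2 ^ (Nat.card G).factorization 2 - 1) :
    (p - 2) ∣ Nat.card {u : G // orderOf u = 2} ∧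
    Nat.card {u : G // orderOf u = 2} ^ 2 +
      (p - 2) * (Nat.card {u : G // orderOf u = 2} * (2 ^ (Nat.card G).factorization 2 - 2)) =
      (p - 2) * (Nat.card {u : G // orderOf u = 2} * (p - 2) + 2 * p * Nat.card (Sylow p G)) :=
  Cfsg.Agent.Lib.Helper25_P2_E2Core.eqE2_core hc hinv hreg hQ
    (fun S hS => Cfsg.Agent.Lib.Helper73_P2_CLSUM.class_sq hc.irr S hS)
    (fun x hx => Cfsg.Agent.Lib.Helper35_P2_APS.aps hc hno4 x hx)
    (fun a b ha hb hab => Cfsg.Agent.Lib.Helper86_P2_E2A.prod_inv_cases hc a b ha hb hab)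
    (Cfsg.Agent.Lib.Helper53_P2_E2B.sum_order_p hc.toHyp hc.toLoc)

end partB3

end Cfsg.Agent.Lib.Helper25_P2_E2
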