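import Mathlib
import Cfsg.Prelude.Def_Characters
import Cfsg.Prelude.Def_Blocks
import Cfsg.Prelude.Def_Solvable
import Cfsg.Prelude.Def_Local
import Cfsg.Agent.Lib.Helper3_P2Defs
import Cfsg.Agent.Lib.Helper16_GenSetup
import Cfsg.Agent.Lib.Helper16_GenMain
import Cfsg.Agent.Lib.Helper16_GenFinal

/-!
# S4705 package P2-CU (architect helper3): the elements of `C_G(u)` are `t * w`, `t² = 1`, `w` central.
-/

set_option autoImplicit false
set_option linter.unusedSectionVars false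
set_option linter.unusedVariables false

namespace Cfsg.Agent.Lib.Helper53_P2_CU

open Cfsg Cfsg.Agent.Lib.Helper3_P2Defs Cfsg.Agent.Lib.Helper16_GenSetup
  Cfsg.Agent.Lib.Helper16_GenMain Cfsg.Agent.Lib.Helper16_GenFinal
open scoped ComplexConjugate

universe u

/-- an element of finite order is the product of a `2`-element and an element of odd order, both powers of it -/
theorem two_odd_decomp {G : Type*} [Group G] (g : G) (hg : orderOf g ≠ 0) :
    ∃ (a b : ℤ) (s m : ℕ), Odd m ∧ (g ^ a) ^ (2 ^ s) = 1 ∧ (g ^ b) ^ m = 1 ∧ g = g ^ a * g ^ b := by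
  obtain ⟨s, m, hm, hn⟩ := Nat.exists_eq_two_pow_mul_odd hg
  have hcop : Nat.Coprime (2 ^ s) m := Nat.Coprime.pow_left s (Nat.coprime_two_left.mpr hm)
  have hbez := Nat.gcd_eq_gcd_ab (2 ^ s) m
  rw [hcop, Nat.cast_one] at hbez
  refine ⟨(m : ℤ) * Nat.gcdB (2 ^ s) m, ((2 ^ s : ℕ) : ℤ) * Nat.gcdA (2 ^ s) m, s, m, hm, ?_, ?_, ?_⟩
  · rw [← zpow_natCast, ← zpow_mul]
    have : (m : ℤ) * Nat.gcdB (2 ^ s) m * ((2 ^ s : ℕ) : ℤ) =
        ((orderOf g : ℕ) : ℤ) * Nat.gcdB (2 ^ s) m := by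
      rw [hn]; push_cast; ring
    rw [this, zpow_mul, zpow_natCast, pow_orderOf_eq_one, one_zpow]
  · rw [← zpow_natCast, ← zpow_mul]
    have : ((2 ^ s : ℕ) : ℤ) * Nat.gcdA (2 ^ s) m * (m : ℤ) =
        ((orderOf g : ℕ) : ℤ) * Nat.gcdA (2 ^ s) m := by
      rw [hn]; push_cast; ring
    rw [this, zpow_mul, zpow_natCast, pow_orderOf_eq_one, one_zpow]
  · rw [← zpow_add]
    have : (m : ℤ) * Nat.gcdB (2 ^ s) m + ((2 ^ s : ℕ) : ℤ) * Nat.gcdA (2 ^ s) m = 1 := by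
      rw [hbez]; ring
    rw [this, zpow_one]

/-- a `2`-element in a group without elements of order `4` has square `1` -/
theorem sq_eq_one_of_no4 {G : Type*} [Group G] (hno4 : ∀ u : G, orderOf u ≠ 4) (t : G) (s : ℕ)
    (ht : t ^ (2 ^ s) = 1) : t * t = 1 := by
  have hdvd : orderOf t ∣ 2 ^ s := orderOf_dvd_of_pow_eq_one ht
  obtain ⟨j, -, hj⟩ := (Nat.dvd_prime_pow Nat.prime_two).mp hdvd
  by_cases hj2 : 2 ≤ j
  · exfalso
    have hne : (2 : ℕ) ^ (j - 2) ≠ 0 := pow_ne_zero _ (by norm_num)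
    have hd : 2 ^ (j - 2) ∣ orderOf t := by
      rw [hj]; exact pow_dvd_pow 2 (by omega)
    have h1 := orderOf_pow_of_dvd hne hd
    rw [hj] at h1
    have h2 : 2 ^ j / 2 ^ (j - 2) = 4 := by
      have : (2 : ℕ) ^ j = 2 ^ (j - 2) * 4 := by
        rw [show (4 : ℕ) = 2 ^ 2 from rfl, ← pow_add]; congr 1; omega
      rw [this, Nat.mul_div_cancel_left _ (Nat.pos_of_ne_zero hne)]
    rw [h2] at h1
    exact hno4 _ h1
  · have hj1 : j ≤ 1 := by omega
    have h2 : orderOf t ∣ 2 := by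
      rw [hj]
      calc 2 ^ j ∣ 2 ^ 1 := pow_dvd_pow 2 hj1
        _ = 2 := pow_one 2
    have := orderOf_dvd_iff_pow_eq_one.mp h2
    rwa [pow_two] at this

variable {G : Type u} [Group G] [Fintype G] {p : ℕ} [hp : Fact p.Prime] {P : Sylow p G}
  {ζ : G → ℂ} {k₂ : ℕ}

theorem cu_form (hc : Core G p P ζ k₂) (hno4 : ∀ u : G, orderOf u ≠ 4)
    (hcent : ∀ u h : G, orderOf u = 2 → Commute u h → Odd (orderOf h) → h ∈ Subgroup.center G)
    (u g : G) (hu : orderOf u = 2) (hg : Commute u g) :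
    ∃ t w : G, t * t = 1 ∧ w ∈ Subgroup.center G ∧ Commute u t ∧ g = t * w := by
  have hg0 : orderOf g ≠ 0 := (orderOf_pos g).ne'
  obtain ⟨a, b, s, m, hm, hta, htb, hgab⟩ := two_odd_decomp g hg0
  refine ⟨g ^ a, g ^ b, sq_eq_one_of_no4 hno4 _ s hta, ?_, hg.zpow_right a, hgab⟩
  apply hcent u (g ^ b) hu (hg.zpow_right b)
  exact Odd.of_dvd_nat hm (orderOf_dvd_of_pow_eq_one htb)

end Cfsg.Agent.Lib.Helper53_P2_CU
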