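import Mathlib

/-!
# Counting conjugacy classes through centralizer orders; conjugacy of `p`-elements in a coset of a
normal `p'`-subgroup (helper79).
-/

set_option autoImplicit false

namespace Cfsg.Agent.Lib.Helper79_ClassCount

variable {G : Type*} [Group G]

theorem card_carrier_eq_index (g : G) :
    Nat.card (ConjClasses.mk g).carrier = (Subgroup.centralizer ({g} : Set G)).index := by
  have h1 : (Subgroup.centralizer ({g} : Set G)).index =
      (MulAction.stabilizer (ConjAct G) g).index := by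
    rw [Subgroup.centralizer_eq_comap_stabilizer]
    exact Subgroup.index_comap_of_surjective _ (ConjAct.toConjAct (G := G)).surjective
  rw [h1, MulAction.index_stabilizer, ConjAct.orbit_eq_carrier_conjClasses, Nat.card_coe_set_eq]

theorem card_centralizer_mul_card_carrier (g : G) :
    Nat.card (Subgroup.centralizer ({g} : Set G)) * Nat.card (ConjClasses.mk g).carrier =
      Nat.card G := by
  rw [card_carrier_eq_index, Subgroup.card_mul_index]

/-- **Class counting.**  For a conjugation-invariant predicate `S`, the sum of the centralizer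
orders over the elements satisfying `S` is `|G|` times the number of classes inside `S`. -/
theorem sum_card_centralizer [Fintype G] (S : G → Prop) [DecidablePred S]
    (hS : ∀ g x : G, S g → S (x * g * x⁻¹)) :
    ∑ g : G, (if S g then (Nat.card (Subgroup.centralizer ({g} : Set G)) : ℂ) else 0) =
      (Nat.card G : ℂ) *
        (Nat.card {C : ConjClasses G // ∀ g : G, ConjClasses.mk g = C → S g} : ℂ) := by
  classical
  have : Fintype (ConjClasses G) := Fintype.ofFinite _
  have hG0 : (Nat.card G : ℂ) ≠ 0 := by exact_mod_cast Nat.card_pos.ne'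
  rw [← Finset.sum_fiberwise Finset.univ (fun g : G => ConjClasses.mk g)]
  have hinner : ∀ C : ConjClasses G,
      ∑ g ∈ Finset.univ.filter (fun g : G => ConjClasses.mk g = C),
        (if S g then (Nat.card (Subgroup.centralizer ({g} : Set G)) : ℂ) else 0) =
      if (∀ g : G, ConjClasses.mk g = C → S g) then (Nat.card G : ℂ) else 0 := by
    intro C
    obtain ⟨g₀, rfl⟩ := ConjClasses.exists_rep C
    have hconjS : ∀ g : G, ConjClasses.mk g = ConjClasses.mk g₀ → (S g ↔ S g₀) := by
      intro g hg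
      rw [ConjClasses.mk_eq_mk_iff_isConj] at hg
      obtain ⟨c, hc⟩ := isConj_iff.1 hg
      constructor
      · intro h
        rw [← hc]
        exact hS g c h
      · intro h
        have h2 : g = c⁻¹ * g₀ * c⁻¹⁻¹ := by rw [← hc]; group
        rw [h2]
        exact hS g₀ c⁻¹ h
    have hcent : ∀ g : G, ConjClasses.mk g = ConjClasses.mk g₀ →
        Nat.card (Subgroup.centralizer ({g} : Set G)) =
          Nat.card (Subgroup.centralizer ({g₀} : Set G)) := by
      intro g hg
      have h1 := card_centralizer_mul_card_carrier g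
      have h2 := card_centralizer_mul_card_carrier g₀
      rw [hg] at h1
      have hpos : 0 < Nat.card (ConjClasses.mk g₀).carrier := by
        have : Nonempty (ConjClasses.mk g₀).carrier := ⟨⟨g₀, ConjClasses.mem_carrier_mk⟩⟩
        exact Nat.card_pos
      exact Nat.eq_of_mul_eq_mul_right hpos (h1.trans h2.symm)
    by_cases hS0 : S g₀
    · have hall : ∀ g : G, ConjClasses.mk g = ConjClasses.mk g₀ → S g :=
        fun g hg => (hconjS g hg).2 hS0
      rw [if_pos hall]
      have h3 : ∀ g ∈ Finset.univ.filter (fun g : G => ConjClasses.mk g = ConjClasses.mk g₀),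
          (if S g then (Nat.card (Subgroup.centralizer ({g} : Set G)) : ℂ) else 0) =
            (Nat.card (Subgroup.centralizer ({g₀} : Set G)) : ℂ) := by
        intro g hg
        have hg' := (Finset.mem_filter.1 hg).2
        rw [if_pos (hall g hg'), hcent g hg']
      rw [Finset.sum_congr rfl h3, Finset.sum_const, nsmul_eq_mul]
      have h4 : (Finset.univ.filter (fun g : G => ConjClasses.mk g = ConjClasses.mk g₀)).card =
          Nat.card (ConjClasses.mk g₀).carrier := by
        rw [Nat.card_eq_fintype_card, ← Fintype.card_subtype]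
        apply Fintype.card_congr
        refine Equiv.subtypeEquivRight ?_
        intro g
        rw [ConjClasses.mem_carrier_iff_mk_eq]
      rw [h4, ← card_centralizer_mul_card_carrier g₀]
      push_cast
      ring
    · have hnone : ¬ ∀ g : G, ConjClasses.mk g = ConjClasses.mk g₀ → S g :=
        fun h => hS0 (h g₀ rfl)
      rw [if_neg hnone]
      apply Finset.sum_eq_zero
      intro g hg
      have hg' := (Finset.mem_filter.1 hg).2
      rw [if_neg (fun h => hS0 ((hconjS g hg').1 h))]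
  rw [Finset.sum_congr rfl (fun C _ => hinner C), ← Finset.sum_filter, Finset.sum_const,
    nsmul_eq_mul, mul_comm]
  congr 1
  rw [Nat.card_eq_fintype_card, Fintype.card_subtype]

section fixedpoint

/-- **Conjugacy of `p`-elements modulo a `p'`-subgroup.**  Let `M` be a finite subgroup of order
prime to `p`, normalized by `u`, and let `u, u'` be `p`-elements with `u' u⁻¹ ∈ M`.  Then `u` and
`u'` are conjugate by an element of `M`. -/
theorem exists_conj_of_mul_inv_mem (p : ℕ) [hp : Fact p.Prime] (M : Subgroup G) [Finite M]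
    (hM : ¬ p ∣ Nat.card M) (u u' : G) (a : ℕ) (hu : u ^ p ^ a = 1) (hu' : u' ^ p ^ a = 1)
    (hnorm : ∀ n ∈ M, u * n * u⁻¹ ∈ M) (hnorm' : ∀ n ∈ M, u⁻¹ * n * u ∈ M)
    (hmem : u' * u⁻¹ ∈ M) : ∃ n ∈ M, n * u * n⁻¹ = u' := by
  classical
  have hmem' : u * u'⁻¹ ∈ M := by
    have := M.inv_mem hmem
    rwa [mul_inv_rev, inv_inv] at this
  -- the permutation `n ↦ u' n u⁻¹` of `M`
  let σ : Equiv.Perm M :=
    { toFun := fun n => ⟨u' * n * u⁻¹, by
        have h1 : u' * (n : G) * u⁻¹ = (u' * u⁻¹) * (u * n * u⁻¹) := by group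
        rw [h1]
        exact M.mul_mem hmem (hnorm n n.2)⟩
      invFun := fun n => ⟨u'⁻¹ * n * u, by
        have h1 : u'⁻¹ * (n : G) * u = u⁻¹ * ((u * u'⁻¹) * n) * u := by group
        rw [h1]
        exact hnorm' _ (M.mul_mem hmem' n.2)⟩
      left_inv := fun n => by
        apply Subtype.ext
        simp only
        group
      right_inv := fun n => by
        apply Subtype.ext
        simp only
        group }
  have hσpow : ∀ (j : ℕ) (n : M), (((σ ^ j) n : M) : G) = u' ^ j * n * (u ^ j)⁻¹ := by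
    intro j
    induction j with
    | zero => intro n; simp
    | succ j ih =>
      intro n
      rw [pow_succ', Equiv.Perm.mul_apply]
      show u' * ((σ ^ j) n : M) * u⁻¹ = _
      rw [ih n, pow_succ', pow_succ]
      group
  have hσ : σ ^ p ^ a = 1 := by
    ext n
    rw [hσpow, hu, hu']
    simp
  have hpg : IsPGroup p (Subgroup.zpowers σ) := by
    intro τ
    obtain ⟨τ, ⟨j, rfl⟩⟩ := τ
    have h1 : ((σ ^ j) ^ p ^ a : Equiv.Perm M) = 1 := by
      rw [← zpow_natCast, ← zpow_mul, mul_comm, zpow_mul, zpow_natCast, hσ, one_zpow]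
    refine ⟨a, Subtype.ext ?_⟩
    rw [Subgroup.coe_pow, Subgroup.coe_one]
    exact h1
  obtain ⟨n, hn⟩ := hpg.nonempty_fixed_point_of_prime_not_dvd_card M hM
  have hfix : σ n = n := by
    have := hn ⟨σ, Subgroup.mem_zpowers σ⟩
    exact this
  have hfix' : u' * (n : G) * u⁻¹ = n := congrArg Subtype.val hfix
  refine ⟨n, n.2, ?_⟩
  calc (n : G) * u * (n : G)⁻¹ = (u' * (n : G) * u⁻¹) * u * (n : G)⁻¹ := by rw [hfix']
    _ = u' := by group

end fixedpoint

section ppart

variable [Finite G] (p : ℕ) [hp : Fact p.Prime] (N : Subgroup G) [hN : N.Normal] (k : ℕ)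
  (hidx : N.index = p ^ k) (hcop : (Nat.card N).Coprime p)

include hcop in
omit [Finite G] hN in
/-- an exponent `m ≡ 0 (mod p ^ k)`, `m ≡ 1 (mod |N|)` -/
theorem exists_exponent (hNnt : 1 < Nat.card N) :
    ∃ m j t : ℕ, m = p ^ k * t ∧ m = Nat.card N * j + 1 := by
  have hc : Nat.Coprime (p ^ k) (Nat.card N) := (Nat.Coprime.pow_right k hcop).symm
  obtain ⟨t, -, ht⟩ := Nat.exists_mul_mod_eq_one_of_coprime hc hNnt
  refine ⟨p ^ k * t, p ^ k * t / Nat.card N, t, rfl, ?_⟩
  have := Nat.div_add_mod (p ^ k * t) (Nat.card N)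
  omega

include hidx in
theorem pow_index_mem (g : G) : g ^ p ^ k ∈ N := by
  rw [← QuotientGroup.eq_one_iff, QuotientGroup.mk_pow, ← hidx, Subgroup.index_eq_card]
  exact pow_card_eq_one'

omit hp hN in
theorem pow_card_of_mem {n : G} (hn : n ∈ N) : n ^ Nat.card N = 1 := by
  have h : (⟨n, hn⟩ : N) ^ Nat.card N = 1 := pow_card_eq_one'
  have := congrArg Subtype.val h
  rwa [Subgroup.coe_pow, Subgroup.coe_one] at this

include hidx in
theorem pow_exponent_mem (m t : ℕ) (hm1 : m = p ^ k * t) (g : G) : g ^ m ∈ N := by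
  rw [hm1, pow_mul]
  exact N.pow_mem (pow_index_mem p N k hidx g) t

include hidx in
/-- the `p`-part `g (g ^ m)⁻¹` has order dividing `p ^ k` -/
theorem ppart_pow (m j t : ℕ) (hm1 : m = p ^ k * t) (hm2 : m = Nat.card N * j + 1) (g : G) :
    (g * (g ^ m)⁻¹) ^ p ^ k = 1 := by
  have hcomm : Commute g (g ^ m)⁻¹ := ((Commute.refl g).pow_right m).inv_right
  rw [hcomm.mul_pow, inv_pow, ← pow_mul, mul_comm m, pow_mul]
  have hh : g ^ p ^ k ∈ N := pow_index_mem p N k hidx g
  have h1 : (g ^ p ^ k) ^ m = g ^ p ^ k := by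
    rw [hm2, pow_succ, pow_mul, pow_card_of_mem N hh, one_pow, one_mul]
  rw [h1, mul_inv_cancel]

include hidx hcop in
/-- **Injectivity of the `p'`-part on the classes of a coset.** -/
theorem isConj_of_pow_isConj (hab : ∀ a b : G, a * b * a⁻¹ * b⁻¹ ∈ N)
    (m j t : ℕ) (hm1 : m = p ^ k * t) (hm2 : m = Nat.card N * j + 1) (g g' : G)
    (hcoset : g' * g⁻¹ ∈ N) (hconj : IsConj (g ^ m) (g' ^ m)) : IsConj g g' := by
  have hpp : p.Prime := hp.out
  -- reduce to equal `p'`-parts
  obtain ⟨c, hc⟩ := isConj_iff.1 hconj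
  have hc' : (c * g * c⁻¹) ^ m = g' ^ m := by rw [conj_pow, hc]
  have hcos' : g' * (c * g * c⁻¹)⁻¹ ∈ N := by
    have h1 : g' * (c * g * c⁻¹)⁻¹ = (g' * g⁻¹) * (g * c * g⁻¹ * c⁻¹) := by group
    rw [h1]
    exact N.mul_mem hcoset (hab g c)
  suffices h : IsConj (c * g * c⁻¹) g' from (isConj_iff.2 ⟨c, rfl⟩).trans h
  generalize c * g * c⁻¹ = g₁ at hc' hcos'
  obtain ⟨c₀, hc₀⟩ : ∃ c₀, g' ^ m = c₀ := ⟨_, rfl⟩
  rw [hc₀] at hc'
  have hupow : (g₁ * c₀⁻¹) ^ p ^ k = 1 := by
    have := ppart_pow p N k hidx m j t hm1 hm2 g₁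
    rwa [hc'] at this
  have hu'pow : (g' * c₀⁻¹) ^ p ^ k = 1 := by
    have := ppart_pow p N k hidx m j t hm1 hm2 g'
    rwa [hc₀] at this
  have hc₀N : c₀ ∈ N := by
    rw [← hc₀]
    exact pow_exponent_mem p N k hidx m t hm1 g'
  -- everything commutes with `c₀`
  have hg₁Z : g₁ ∈ Subgroup.centralizer ({c₀} : Set G) := by
    rw [Subgroup.mem_centralizer_iff]
    intro y hy
    rw [Set.mem_singleton_iff] at hy
    rw [hy, ← hc']
    exact ((Commute.refl g₁).pow_left m).eq
  have hg'Z : g' ∈ Subgroup.centralizer ({c₀} : Set G) := by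
    rw [Subgroup.mem_centralizer_iff]
    intro y hy
    rw [Set.mem_singleton_iff] at hy
    rw [hy, ← hc₀]
    exact ((Commute.refl g').pow_left m).eq
  have hc₀Z : c₀ ∈ Subgroup.centralizer ({c₀} : Set G) := by
    rw [Subgroup.mem_centralizer_iff]
    intro y hy
    rw [Set.mem_singleton_iff] at hy
    rw [hy]
  obtain ⟨u, hu⟩ : ∃ u, u = g₁ * c₀⁻¹ := ⟨_, rfl⟩
  obtain ⟨u', hu'⟩ : ∃ u', u' = g' * c₀⁻¹ := ⟨_, rfl⟩
  rw [← hu] at hupow
  rw [← hu'] at hu'pow
  have huZ : u ∈ Subgroup.centralizer ({c₀} : Set G) := by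
    rw [hu]
    exact Subgroup.mul_mem _ hg₁Z (Subgroup.inv_mem _ hc₀Z)
  have hu'Z : u' ∈ Subgroup.centralizer ({c₀} : Set G) := by
    rw [hu']
    exact Subgroup.mul_mem _ hg'Z (Subgroup.inv_mem _ hc₀Z)
  set M : Subgroup G := N ⊓ Subgroup.centralizer ({c₀} : Set G) with hM
  have hMcard : ¬ p ∣ Nat.card M := by
    intro h
    have h1 : Nat.card M ∣ Nat.card N := Subgroup.card_dvd_of_le inf_le_left
    exact (Nat.Prime.coprime_iff_not_dvd hpp).1 hcop.symm (h.trans h1)
  have hnorm : ∀ n ∈ M, u * n * u⁻¹ ∈ M := by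
    intro n hn
    exact ⟨hN.conj_mem n hn.1 u,
      Subgroup.mul_mem _ (Subgroup.mul_mem _ huZ hn.2) (Subgroup.inv_mem _ huZ)⟩
  have hnorm' : ∀ n ∈ M, u⁻¹ * n * u ∈ M := by
    intro n hn
    refine ⟨?_, Subgroup.mul_mem _ (Subgroup.mul_mem _ (Subgroup.inv_mem _ huZ) hn.2) huZ⟩
    have := hN.conj_mem n hn.1 u⁻¹
    rwa [inv_inv] at this
  have hmem : u' * u⁻¹ ∈ M := by
    refine ⟨?_, Subgroup.mul_mem _ hu'Z (Subgroup.inv_mem _ huZ)⟩
    have h1 : u' * u⁻¹ = g' * g₁⁻¹ := by
      rw [hu, hu']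
      group
    rw [h1]
    exact hcos'
  obtain ⟨n, hnM, hn⟩ := exists_conj_of_mul_inv_mem p M hMcard u u' k hupow hu'pow hnorm hnorm' hmem
  refine isConj_iff.2 ⟨n, ?_⟩
  have hnc : n * c₀ * n⁻¹ = c₀ := by
    have := (Subgroup.mem_centralizer_iff.1 hnM.2) c₀ rfl
    rw [← this, mul_inv_cancel_right]
  have hg₁ : g₁ = u * c₀ := by
    rw [hu]
    group
  have hg' : g' = u' * c₀ := by
    rw [hu']
    group
  rw [hg₁, hg']
  calc n * (u * c₀) * n⁻¹ = (n * u * n⁻¹) * (n * c₀ * n⁻¹) := by group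
    _ = u' * c₀ := by rw [hn, hnc]

end ppart

end Cfsg.Agent.Lib.Helper79_ClassCount
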