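import Mathlib
import Cfsg.Prelude.Def_Characters
import Cfsg.Prelude.Def_Blocks
import Cfsg.Prelude.Def_Solvable
import Cfsg.Prelude.Def_Local
import Cfsg.Agent.Lib.Helper3_P2Defs
import Cfsg.Agent.Lib.Helper16_GenSetup
import Cfsg.Agent.Lib.Helper16_GenMain
import Cfsg.Agent.Lib.Helper16_GenFinal
import Cfsg.Agent.Lib.Helper53_P2_CU
import Cfsg.Agent.Lib.Helper79_ClassCount

/-!
# S4705 package P2-SYL2 (architect helper3): the Sylow `2`-structure.

If `|Z(G)|` is odd, `G` has no element of order `4`, and the centralizer of every involution `u`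
consists of the products `t * w` (`t² = 1`, `w` central), then the involutions commuting with `u`
together with `1` form a Sylow `2`-subgroup, `|C_G(u)| = Q |Z(G)|`, and counting classes of
involutions gives `i · Q · |Z(G)| = |G| · k'`.
-/

set_option autoImplicit false
set_option linter.unusedSectionVars false
set_option linter.unusedVariables false

namespace Cfsg.Agent.Lib.Helper25_P2_SYL2

open Cfsg Cfsg.Agent.Lib.Helper3_P2Defs Cfsg.Agent.Lib.Helper16_GenSetup
  Cfsg.Agent.Lib.Helper16_GenMain Cfsg.Agent.Lib.Helper16_GenFinal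
open scoped ComplexConjugate

universe u

section generic

variable {G : Type*} [Group G] [Finite G]

/-- a central element of square one is trivial when the centre has odd order -/
theorem center_sq (hZ : Odd (Nat.card (Subgroup.center G))) {c : G}
    (hc : c ∈ Subgroup.center G) (h : c * c = 1) : c = 1 := by
  have h1 : orderOf c ∣ 2 := orderOf_dvd_of_pow_eq_one (by rw [pow_two]; exact h)
  have h2 : orderOf c ∣ Nat.card (Subgroup.center G) := Subgroup.orderOf_dvd_natCard _ hc
  have h3 : orderOf c ∣ Nat.gcd 2 (Nat.card (Subgroup.center G)) := Nat.dvd_gcd h1 h2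
  have h4 : Nat.gcd 2 (Nat.card (Subgroup.center G)) = 1 := Nat.coprime_two_left.mpr hZ
  rw [h4, Nat.dvd_one] at h3
  exact orderOf_eq_one_iff.mp h3

theorem orderOf_conj' (x g : G) : orderOf (x * g * x⁻¹) = orderOf g :=
  (SemiconjBy.orderOf_eq x (show SemiconjBy x g (x * g * x⁻¹) by
    unfold SemiconjBy; group)).symm

/-- two elements of square one whose product has square one commute -/
theorem commute_of_sq {a b : G} (ha : a * a = 1) (hb : b * b = 1) (hab : a * b * (a * b) = 1) :
    Commute a b := by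
  have hai : a⁻¹ = a := inv_eq_of_mul_eq_one_left ha
  have hbi : b⁻¹ = b := inv_eq_of_mul_eq_one_left hb
  have h1 : (a * b)⁻¹ = a * b := inv_eq_of_mul_eq_one_left hab
  rw [mul_inv_rev, hai, hbi] at h1
  exact h1.symm

/-- the elements of square one commuting with an involution `u` form a Sylow `2`-subgroup -/
theorem exists_T (hZ : Odd (Nat.card (Subgroup.center G))) (hno4 : ∀ u : G, orderOf u ≠ 4)
    (hcu : ∀ u g : G, orderOf u = 2 → Commute u g →
      ∃ t w : G, t * t = 1 ∧ w ∈ Subgroup.center G ∧ Commute u t ∧ g = t * w)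
    (u : G) (hu : orderOf u = 2) :
    ∃ T : Subgroup G, (∀ t, t ∈ T ↔ (t * t = 1 ∧ Commute u t)) ∧
      Nat.card T = 2 ^ (Nat.card G).factorization 2 := by
  have huu : u * u = 1 := by
    have := pow_orderOf_eq_one u
    rwa [hu, pow_two] at this
  obtain ⟨T, hT⟩ : ∃ T : Subgroup G, ∀ t, t ∈ T ↔ (t * t = 1 ∧ Commute u t) := by
    refine ⟨{ carrier := {t | t * t = 1 ∧ Commute u t}, mul_mem' := ?_, one_mem' := ?_,
              inv_mem' := ?_ }, fun t => Iff.rfl⟩
    · rintro a b ⟨ha, hau⟩ ⟨hb, hbu⟩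
      refine ⟨?_, hau.mul_right hbu⟩
      obtain ⟨t, w, ht, hw, -, hg⟩ := hcu u (a * b) hu (hau.mul_right hbu)
      have hwc := Subgroup.mem_center_iff.mp hw
      -- the square of a * b is the central element w * w
      have hsq : a * b * (a * b) = w * w := by
        rw [hg]
        calc t * w * (t * w) = t * (w * t) * w := by simp only [mul_assoc]
          _ = t * (t * w) * w := by rw [← hwc t]
          _ = (t * t) * (w * w) := by simp only [mul_assoc]
          _ = w * w := by rw [ht, one_mul]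
      have hcc : w * w ∈ Subgroup.center G := Subgroup.mul_mem _ hw hw
      have hcc' := Subgroup.mem_center_iff.mp hcc
      have ka : ∀ x : G, a * (a * x) = x := fun x => by rw [← mul_assoc, ha, one_mul]
      have kb : ∀ x : G, b * (b * x) = x := fun x => by rw [← mul_assoc, hb, one_mul]
      have hone : (w * w) * (w * w) = 1 := by
        calc (w * w) * (w * w) = (w * w) * (a * b * (a * b)) := by rw [hsq]
          _ = ((w * w) * a) * (b * (a * b)) := by simp only [mul_assoc]
          _ = (a * (w * w)) * (b * (a * b)) := by rw [hcc' a]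
          _ = (a * (a * b * (a * b))) * (b * (a * b)) := by rw [hsq]
          _ = 1 := by simp only [mul_assoc, ka, kb, hb]
      rw [hsq]
      exact center_sq hZ hcc hone
    · exact ⟨one_mul 1, Commute.one_right u⟩
    · rintro a ⟨ha, hau⟩
      refine ⟨?_, hau.inv_right⟩
      rw [← mul_inv_rev, ha, inv_one]
  refine ⟨T, hT, ?_⟩
  have hTp : IsPGroup 2 T := by
    intro g
    refine ⟨1, ?_⟩
    apply Subtype.ext
    have := ((hT g).mp g.2).1
    rw [pow_one, pow_two]
    exact this
  obtain ⟨S, hTS⟩ := hTp.exists_le_sylow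
  have huT : u ∈ T := (hT u).mpr ⟨huu, Commute.refl u⟩
  have hsq : ∀ s ∈ (S : Subgroup G), s * s = 1 := by
    intro s hs
    obtain ⟨k, hk⟩ := S.2 ⟨s, hs⟩
    have hk' : s ^ 2 ^ k = 1 := by
      have := congrArg Subtype.val hk
      simpa using this
    exact Cfsg.Agent.Lib.Helper53_P2_CU.sq_eq_one_of_no4 hno4 s k hk'
  have hST : (S : Subgroup G) ≤ T := by
    intro s hs
    rw [hT]
    refine ⟨hsq s hs, ?_⟩
    exact commute_of_sq huu (hsq s hs) (hsq _ (Subgroup.mul_mem _ (hTS huT) hs))
  have hEq : T = (S : Subgroup G) := le_antisymm hTS hST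
  rw [hEq]
  exact Sylow.card_eq_multiplicity S

/-- the number of involutions commuting with the involution `u` -/
theorem card_inv_commute (hZ : Odd (Nat.card (Subgroup.center G)))
    (hno4 : ∀ u : G, orderOf u ≠ 4)
    (hcu : ∀ u g : G, orderOf u = 2 → Commute u g →
      ∃ t w : G, t * t = 1 ∧ w ∈ Subgroup.center G ∧ Commute u t ∧ g = t * w)
    (u : G) (hu : orderOf u = 2) :
    Nat.card {t : G // orderOf t = 2 ∧ Commute t u} = 2 ^ (Nat.card G).factorization 2 - 1 := by
  obtain ⟨T, hT, hcard⟩ := exists_T hZ hno4 hcu u hu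
  rw [← hcard]
  have hset : {t : G | orderOf t = 2 ∧ Commute t u} = (T : Set G) \ {1} := by
    ext t
    simp only [Set.mem_ofPred_eq, Set.mem_sdiff, SetLike.mem_coe, Set.mem_singleton_iff, hT]
    rw [orderOf_eq_prime_iff, pow_two]
    constructor
    · rintro ⟨⟨h1, h2⟩, h3⟩
      exact ⟨⟨h1, h3.symm⟩, h2⟩
    · rintro ⟨⟨h1, h3⟩, h2⟩
      exact ⟨⟨h1, h2⟩, h3.symm⟩
  have h1 : Nat.card {t : G // orderOf t = 2 ∧ Commute t u} =
      Set.ncard {t : G | orderOf t = 2 ∧ Commute t u} := Nat.card_coe_set_eq _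
  rw [h1, hset, Set.ncard_sdiff_singleton_of_mem (T.one_mem)]
  congr 1

/-- the centralizer of an involution has order `Q * |Z(G)|` -/
theorem card_centralizer_inv (hZ : Odd (Nat.card (Subgroup.center G)))
    (hno4 : ∀ u : G, orderOf u ≠ 4)
    (hcu : ∀ u g : G, orderOf u = 2 → Commute u g →
      ∃ t w : G, t * t = 1 ∧ w ∈ Subgroup.center G ∧ Commute u t ∧ g = t * w)
    (u : G) (hu : orderOf u = 2) :
    Nat.card (Subgroup.centralizer ({u} : Set G)) =
      2 ^ (Nat.card G).factorization 2 * Nat.card (Subgroup.center G) := by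
  obtain ⟨T, hT, hcard⟩ := exists_T hZ hno4 hcu u hu
  rw [← hcard, ← Nat.card_prod]
  symm
  have hmem : ∀ x : ↥T × ↥(Subgroup.center G),
      (x.1 : G) * (x.2 : G) ∈ Subgroup.centralizer ({u} : Set G) := by
    intro x
    rw [Subgroup.mem_centralizer_iff]
    intro h hh
    rw [Set.mem_singleton_iff] at hh
    rw [hh]
    have h1 : Commute u (x.1 : G) := ((hT _).mp x.1.2).2
    have h2 := Subgroup.mem_center_iff.mp x.2.2 u
    calc u * ((x.1 : G) * (x.2 : G)) = (u * (x.1 : G)) * (x.2 : G) := by rw [mul_assoc]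
      _ = ((x.1 : G) * u) * (x.2 : G) := by rw [h1.eq]
      _ = (x.1 : G) * (u * (x.2 : G)) := by rw [mul_assoc]
      _ = (x.1 : G) * ((x.2 : G) * u) := by rw [h2]
      _ = (x.1 : G) * (x.2 : G) * u := by rw [mul_assoc]
  refine Nat.card_congr (Equiv.ofBijective (fun x => ⟨(x.1 : G) * (x.2 : G), hmem x⟩) ⟨?_, ?_⟩)
  · rintro ⟨t, w⟩ ⟨t', w'⟩ h
    have h0 : (t : G) * (w : G) = (t' : G) * (w' : G) := congrArg Subtype.val h
    -- c := t'⁻¹ t = w' w⁻¹ lies in T and in the centre
    have hc1 : (t' : G)⁻¹ * (t : G) = (w' : G) * (w : G)⁻¹ := by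
      rw [inv_mul_eq_iff_eq_mul, ← mul_assoc, ← h0, mul_assoc, mul_inv_cancel, mul_one]
    have hcT : (t' : G)⁻¹ * (t : G) ∈ T := T.mul_mem (T.inv_mem t'.2) t.2
    have hcZ : (t' : G)⁻¹ * (t : G) ∈ Subgroup.center G := by
      rw [hc1]
      exact Subgroup.mul_mem _ w'.2 (Subgroup.inv_mem _ w.2)
    have hc : (t' : G)⁻¹ * (t : G) = 1 := center_sq hZ hcZ ((hT _).mp hcT).1
    have ht : (t : G) = (t' : G) := by
      have := inv_mul_eq_one.mp hc
      exact this.symm
    have hw : (w : G) = (w' : G) := by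
      rw [ht] at h0
      exact mul_left_cancel h0
    exact Prod.ext (Subtype.ext ht) (Subtype.ext hw)
  · rintro ⟨g, hg⟩
    have hgu : Commute u g := by
      rw [Subgroup.mem_centralizer_iff] at hg
      exact hg u rfl
    obtain ⟨t, w, ht, hw, htu, hgtw⟩ := hcu u g hu hgu
    refine ⟨(⟨t, (hT t).mpr ⟨ht, htu⟩⟩, ⟨w, hw⟩), ?_⟩
    apply Subtype.ext
    exact hgtw.symm

/-- the generic form of P2-SYL2 -/
theorem syl2_generic (hZ : Odd (Nat.card (Subgroup.center G)))
    (hno4 : ∀ u : G, orderOf u ≠ 4)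
    (hcu : ∀ u g : G, orderOf u = 2 → Commute u g →
      ∃ t w : G, t * t = 1 ∧ w ∈ Subgroup.center G ∧ Commute u t ∧ g = t * w)
    (heven : 2 ∣ Nat.card G) :
    (∀ u : G, orderOf u = 2 →
      Nat.card {t : G // orderOf t = 2 ∧ Commute t u} = 2 ^ (Nat.card G).factorization 2 - 1) ∧
    ∃ k' : ℕ, 0 < k' ∧
      Nat.card {u : G // orderOf u = 2} * 2 ^ (Nat.card G).factorization 2 *
        Nat.card (Subgroup.center G) = Nat.card G * k' := by
  classical
  refine ⟨fun u hu => card_inv_commute hZ hno4 hcu u hu, ?_⟩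
  have : Fintype G := Fintype.ofFinite G
  obtain ⟨v, hv⟩ := exists_prime_orderOf_dvd_card' (G := G) 2 heven
  refine ⟨Nat.card {C : ConjClasses G // ∀ g : G, ConjClasses.mk g = C → orderOf g = 2}, ?_, ?_⟩
  · have : Nonempty {C : ConjClasses G // ∀ g : G, ConjClasses.mk g = C → orderOf g = 2} := by
      refine ⟨⟨ConjClasses.mk v, ?_⟩⟩
      intro g hg
      rw [ConjClasses.mk_eq_mk_iff_isConj] at hg
      obtain ⟨c, hc⟩ := isConj_iff.1 hg
      rw [← hv, ← hc, orderOf_conj']
    exact Nat.card_pos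
  · have hS := Cfsg.Agent.Lib.Helper79_ClassCount.sum_card_centralizer (G := G)
      (fun g => orderOf g = 2) (fun g x hg => by rw [orderOf_conj']; exact hg)
    have h1 : ∑ g : G, (if orderOf g = 2 then
        (Nat.card (Subgroup.centralizer ({g} : Set G)) : ℂ) else 0) =
        ∑ g : G, (if orderOf g = 2 then
          ((2 ^ (Nat.card G).factorization 2 * Nat.card (Subgroup.center G) : ℕ) : ℂ) else 0) := by
      apply Finset.sum_congr rfl
      intro g _
      by_cases hg : orderOf g = 2
      · rw [if_pos hg, if_pos hg, card_centralizer_inv hZ hno4 hcu g hg]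
      · rw [if_neg hg, if_neg hg]
    rw [h1, ← Finset.sum_filter, Finset.sum_const, nsmul_eq_mul] at hS
    have h2 : (Finset.univ.filter (fun g : G => orderOf g = 2)).card =
        Nat.card {u : G // orderOf u = 2} := by
      rw [Nat.card_eq_fintype_card, Fintype.card_subtype]
    rw [h2] at hS
    have h3 : ((Nat.card {u : G // orderOf u = 2} * 2 ^ (Nat.card G).factorization 2 *
        Nat.card (Subgroup.center G) : ℕ) : ℂ) =
        ((Nat.card G * Nat.card {C : ConjClasses G //
          ∀ g : G, ConjClasses.mk g = C → orderOf g = 2} : ℕ) : ℂ) := by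
      push_cast
      push_cast at hS
      rw [← hS]
      ring
    exact_mod_cast h3

end generic

variable {G : Type u} [Group G] [Fintype G] {p : ℕ} [hp : Fact p.Prime] {P : Sylow p G}
  {ζ : G → ℂ} {k₂ : ℕ}

theorem syl2 (hc : Core G p P ζ k₂) (hno4 : ∀ u : G, orderOf u ≠ 4)
    (hcent : ∀ u h : G, orderOf u = 2 → Commute u h → Odd (orderOf h) → h ∈ Subgroup.center G) :
    (∀ u : G, orderOf u = 2 →
      Nat.card {t : G // orderOf t = 2 ∧ Commute t u} = 2 ^ (Nat.card G).factorization 2 - 1) ∧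
    ∃ k' : ℕ, 0 < k' ∧
      Nat.card {u : G // orderOf u = 2} * 2 ^ (Nat.card G).factorization 2 *
        Nat.card (Subgroup.center G) = Nat.card G * k' := by
  apply syl2_generic hc.zodd hno4
  · intro u g hu hg
    exact Cfsg.Agent.Lib.Helper53_P2_CU.cu_form hc hno4 hcent u g hu hg
  · -- |N_G(P) : C_G(P)| = 2 gives an even order
    have h1 : (Subgroup.centralizer ((P : Subgroup G) : Set G)).relIndex
        (Subgroup.normalizer ((P : Subgroup G) : Set G)) ∣
        Nat.card (Subgroup.normalizer ((P : Subgroup G) : Set G)) :=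
      Subgroup.relIndex_dvd_card _ _
    rw [hc.idx] at h1
    exact h1.trans (Subgroup.card_subgroup_dvd_card _)

end Cfsg.Agent.Lib.Helper25_P2_SYL2
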