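import Cfsg.Agent.Lib.Helper50_PUDefs
import Cfsg.Agent.S0075
import Cfsg.Agent.S0260
import Cfsg.Agent.Lib.Helper47_YL
import Cfsg.Agent.Lib.Helper1_LocalZJ

/-!
# S2768 market (architect helper50), package BEQ (helper25)

`B = C_S(Z(J(S))) = J(S) Q₀` and `⟨B^G⟩ = ⟨J^G⟩ Q₀`.
-/

set_option autoImplicit false
set_option linter.unusedSectionVars false
set_option linter.unusedVariables false

namespace Cfsg.Agent.Lib.Helper25_PU_BEQ

open scoped commutatorElement
open Cfsg.Agent.Lib.Helper50_PUDefs Cfsg.Agent.Lib.Helper51_Offender Cfsg.Agent.Lib.Helper72_AbelianJ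

variable {G : Type*} [Group G] [Finite G] {p : ℕ} [Fact p.Prime] {S : Sylow p G}

local notation "Q" => Cfsg.pCore p G
local notation "V" => VS (S : Subgroup G)
local notation "Z" => ZS (S : Subgroup G)
local notation "J" => JS (S : Subgroup G)
local notation "Y" => YS (S : Subgroup G)
local notation "B" => BS (S : Subgroup G)
local notation "ZD" => YS (Cfsg.pCore p G)
local notation "LJ" => Subgroup.normalClosure ((JS (S : Subgroup G) : Subgroup G) : Set G)
local notation "Q₀" => Cfsg.pCore p G ⊓ Subgroup.centralizer ((YS (S : Subgroup G) : Subgroup G) : Set G)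

omit [Finite G] [Fact p.Prime] in
/-- `J(S)` centralizes `Z(J(S))` -/
theorem J_le_centralizer_Y : J ≤ Subgroup.centralizer ((Y : Subgroup G) : Set G) := by
  intro j hj
  rw [Subgroup.mem_centralizer_iff]
  intro y hy
  have hy2 : y ∈ Subgroup.centralizer ((J : Subgroup G) : Set G) := hy.2
  rw [Subgroup.mem_centralizer_iff] at hy2
  exact (hy2 j hj).symm

omit [Finite G] [Fact p.Prime] in
theorem J_le_S : J ≤ (S : Subgroup G) := Subgroup.map_subtype_le _

-- PKG BEQ
theorem b_eq (h : MainCase p S) (hvb : VBasic p S) (hJQ : J ⊔ Q = (S : Subgroup G))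
    (hQ₀ : (Q₀).Normal) :
    B = J ⊔ Q₀ ∧ Subgroup.normalClosure ((B : Subgroup G) : Set G) = LJ ⊔ Q₀ := by
  have hQn : (Q).Normal := hvb.core_normal
  have hBeq : B = J ⊔ Q₀ := by
    apply le_antisymm
    · intro b hb
      have hbS : b ∈ J ⊔ Q := by rw [hJQ]; exact hb.1
      obtain ⟨j, hj, u, hu, rfl⟩ := Subgroup.mem_sup_of_normal_right.1 hbS
      have hjc := J_le_centralizer_Y (S := S) hj
      have huc : u ∈ Subgroup.centralizer ((Y : Subgroup G) : Set G) := by
        have : u = j⁻¹ * (j * u) := by group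
        rw [this]
        exact Subgroup.mul_mem _ (Subgroup.inv_mem _ hjc) hb.2
      exact Subgroup.mul_mem _ (Subgroup.mem_sup_left hj) (Subgroup.mem_sup_right ⟨hu, huc⟩)
    · exact sup_le (le_inf J_le_S J_le_centralizer_Y) (inf_le_inf_right _ hvb.core_le)
  refine ⟨hBeq, ?_⟩
  apply le_antisymm
  · have hn : (LJ ⊔ Q₀).Normal := inferInstance
    apply Subgroup.normalClosure_le_normal
    rw [SetLike.coe_subset_coe, hBeq]
    exact sup_le (le_sup_of_le_left Subgroup.le_normalClosure) le_sup_right
  · apply sup_le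
    · apply Subgroup.normalClosure_mono
      rw [SetLike.coe_subset_coe, hBeq]
      exact le_sup_left
    · refine le_trans ?_ Subgroup.le_normalClosure
      rw [hBeq]
      exact le_sup_right

end Cfsg.Agent.Lib.Helper25_PU_BEQ
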