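import Cfsg.Agent.Lib.Helper50_PUDefs
import Cfsg.Agent.S0075
import Cfsg.Agent.S0260
import Cfsg.Agent.Lib.Helper47_YL
import Cfsg.Agent.Lib.Helper1_LocalZJ

/-!
# S2768 market (architect helper50), package COMMBB (helper25)

`⁅B, B⁆ ≤ Q₀` for `B = C_S(Z(J(S))) = J(S) Q₀`.
-/

set_option autoImplicit false
set_option linter.unusedSectionVars false
set_option linter.unusedVariables false

namespace Cfsg.Agent.Lib.Helper25_PU_COMMBB

open scoped commutatorElement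
open Cfsg.Agent.Lib.Helper50_PUDefs Cfsg.Agent.Lib.Helper51_Offender Cfsg.Agent.Lib.Helper72_AbelianJ

section General

variable {G : Type*} [Group G] [Finite G]

/-- an abelian subgroup of largest order of `T` lies in `J(T)` -/
theorem maxab_le_J {T A : Subgroup G} (hA : IsMaxAbIn T A) : A ≤ Cfsg.thompsonSubgroupAOf T := by
  obtain ⟨hAT, hAc, hmax⟩ := hA
  have hmem : A.subgroupOf T ∈ Cfsg.maxAbelianSubgroups T := by
    refine ⟨inferInstance, ?_⟩
    intro B' hB'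
    have h1 : IsMulCommutative (B'.map T.subtype) := Subgroup.map_isMulCommutative B' T.subtype
    have h2 := hmax _ (Subgroup.map_subtype_le B') h1
    rw [Subgroup.card_map_of_injective T.subtype_injective] at h2
    have h3 : Nat.card (A.subgroupOf T) = Nat.card A :=
      Nat.card_congr (Subgroup.subgroupOfEquivOfLe hAT).toEquiv
    rw [h3]
    exact h2
  have h4 : A = (A.subgroupOf T).map T.subtype := (Subgroup.map_subgroupOf_eq_of_le hAT).symm
  rw [h4]
  unfold Cfsg.thompsonSubgroupAOf Cfsg.thompsonSubgroupA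
  exact Subgroup.map_mono (le_sSup hmem)

/-- if `J(T) ≰ L` then some abelian subgroup of largest order of `T` is not in `L` -/
theorem exists_maxab_not_le (T L : Subgroup G) (hJ : ¬ Cfsg.thompsonSubgroupAOf T ≤ L) :
    ∃ A : Subgroup G, IsMaxAbIn T A ∧ ¬ A ≤ L := by
  by_contra hcon
  push Not at hcon
  apply hJ
  unfold Cfsg.thompsonSubgroupAOf Cfsg.thompsonSubgroupA
  rw [Subgroup.map_le_iff_le_comap]
  apply sSup_le
  intro A hA
  rw [← Subgroup.map_le_iff_le_comap]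
  exact hcon _ (isMaxAbIn_map hA)

/-- the elements whose commutators with `J` lie in the normal subgroup `N` -/
def commSub (N Jg : Subgroup G) [N.Normal] : Subgroup G where
  carrier := {x | ∀ j ∈ Jg, ⁅x, j⁆ ∈ N}
  one_mem' := by
    intro j _
    rw [commutatorElement_one_left]
    exact N.one_mem
  mul_mem' := by
    intro x y hx hy j hj
    have e : ⁅x * y, j⁆ = x * ⁅y, j⁆ * x⁻¹ * ⁅x, j⁆ := by
      simp only [commutatorElement_def]
      group
    rw [e]
    exact N.mul_mem (Subgroup.Normal.conj_mem inferInstance _ (hy j hj) x) (hx j hj)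
  inv_mem' := by
    intro x hx j hj
    have e : ⁅x⁻¹, j⁆ = x⁻¹ * (⁅x, j⁆)⁻¹ * (x⁻¹)⁻¹ := by
      simp only [commutatorElement_def]
      group
    rw [e]
    exact Subgroup.Normal.conj_mem inferInstance _ (N.inv_mem (hx j hj)) x⁻¹

theorem mem_commSub {N Jg : Subgroup G} [N.Normal] {x : G} :
    x ∈ commSub N Jg ↔ ∀ j ∈ Jg, ⁅x, j⁆ ∈ N := Iff.rfl

end General

section Main

variable {G : Type*} [Group G] [Finite G] {p : ℕ} [Fact p.Prime] {S : Sylow p G}

local notation "Q" => Cfsg.pCore p G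
local notation "V" => VS (S : Subgroup G)
local notation "Z" => ZS (S : Subgroup G)
local notation "J" => JS (S : Subgroup G)
local notation "Y" => YS (S : Subgroup G)
local notation "B" => BS (S : Subgroup G)
local notation "ZD" => YS (Cfsg.pCore p G)
local notation "LJ" => Subgroup.normalClosure ((JS (S : Subgroup G) : Subgroup G) : Set G)
local notation "Q₀" => Cfsg.pCore p G ⊓ Subgroup.centralizer ((YS (S : Subgroup G) : Subgroup G) : Set G)

/-- `⁅J, J⁆ ≤ Q₀` -/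
theorem comm_j_j (h : MainCase p S) (hvb : VBasic p S)
    (hst : ∀ A : Subgroup G, IsMaxAbIn (S : Subgroup G) A → ¬ A ≤ Q →
      A ⊔ Q = (S : Subgroup G) ∧ IsMaxAbIn (S : Subgroup G) ((A ⊓ Q) ⊔ V))
    (hQ₀ : (Q₀).Normal) (hc : ⁅Q, LJ⁆ ≤ Q₀) : ∀ x ∈ J, ∀ j ∈ J, ⁅x, j⁆ ∈ Q₀ := by
  have hQn : (Q).Normal := hvb.core_normal
  have hJS : J ≤ (S : Subgroup G) := Subgroup.map_subtype_le _
  have hJL : J ≤ LJ := Subgroup.le_normalClosure
  obtain ⟨A, hA, hAQ⟩ := exists_maxab_not_le (S : Subgroup G) Q h.hJ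
  have hAJ : A ≤ J := maxab_le_J hA
  have hAS : A ⊔ Q = (S : Subgroup G) := (hst A hA hAQ).1
  -- decomposition of the elements of `J`
  have hdec : ∀ j ∈ J, ∃ a ∈ A, ∃ u ∈ J ⊓ Q, j = a * u := by
    intro j hj
    have hjS : j ∈ A ⊔ Q := by rw [hAS]; exact hJS hj
    obtain ⟨a, ha, u, hu, rfl⟩ := Subgroup.mem_sup_of_normal_right.1 hjS
    refine ⟨a, ha, u, ⟨?_, hu⟩, rfl⟩
    have : u = a⁻¹ * (a * u) := by group
    rw [this]
    exact Subgroup.mul_mem _ (Subgroup.inv_mem _ (hAJ ha)) hj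
  -- `Q ⊓ J` commutes with `J` modulo `Q₀`
  have hQJ : ∀ u ∈ Q, ∀ j ∈ J, ⁅u, j⁆ ∈ Q₀ := fun u hu j hj =>
    hc (Subgroup.commutator_mem_commutator hu (hJL hj))
  have hAc : IsMulCommutative A := hA.2.1
  have hsub : J ≤ commSub (Q₀) J := by
    intro x hx
    obtain ⟨a, ha, u, hu, rfl⟩ := hdec x hx
    refine Subgroup.mul_mem _ ?_ ?_
    · -- `a ∈ A`
      intro j hj
      obtain ⟨a', ha', u', hu', rfl⟩ := hdec j hj
      have e : ⁅a, a' * u'⁆ = ⁅a, a'⁆ * (a' * ⁅a, u'⁆ * a'⁻¹) := by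
        simp only [commutatorElement_def]
        group
      have e1 : ⁅a, a'⁆ = 1 := by
        rw [commutatorElement_eq_one_iff_mul_comm]
        exact setLike_mul_comm ha ha'
      rw [e, e1, one_mul]
      apply Subgroup.Normal.conj_mem hQ₀
      have e2 : ⁅a, u'⁆ = (⁅u', a⁆)⁻¹ := (commutatorElement_inv u' a).symm
      rw [e2]
      exact Subgroup.inv_mem _ (hQJ u' hu'.2 a (hAJ ha))
    · intro j hj
      exact hQJ u hu.2 j hj
  intro x hx j hj
  exact hsub hx j hj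

-- PKG COMMBB
theorem comm_b_b (h : MainCase p S) (hvb : VBasic p S)
    (hst : ∀ A : Subgroup G, IsMaxAbIn (S : Subgroup G) A → ¬ A ≤ Q →
      A ⊔ Q = (S : Subgroup G) ∧ IsMaxAbIn (S : Subgroup G) ((A ⊓ Q) ⊔ V))
    (hQ₀ : (Q₀).Normal) (hBeq : B = J ⊔ Q₀) (hc : ⁅Q, LJ⁆ ≤ Q₀) : ⁅B, B⁆ ≤ Q₀ := by
  have hJJ := comm_j_j h hvb hst hQ₀ hc
  -- `J ⊔ Q₀ ≤ commSub Q₀ (J ⊔ Q₀)`
  have h1 : ∀ x ∈ J ⊔ Q₀, ∀ j ∈ J, ⁅x, j⁆ ∈ Q₀ := by
    have : J ⊔ Q₀ ≤ commSub (Q₀) J := by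
      apply sup_le
      · intro x hx j hj
        exact hJJ x hx j hj
      · intro x hx j hj
        -- `⁅x, j⁆ = x * (j x⁻¹ j⁻¹)`
        have e : ⁅x, j⁆ = x * (j * x⁻¹ * j⁻¹) := by
          simp only [commutatorElement_def]
          group
        rw [e]
        exact Subgroup.mul_mem _ hx (Subgroup.Normal.conj_mem hQ₀ _ (Subgroup.inv_mem _ hx) j)
    intro x hx j hj
    exact this hx j hj
  rw [hBeq, Subgroup.commutator_le]
  intro x hx y hy
  -- `y ∈ J ⊔ Q₀`: write `⁅x, y⁆ = (⁅y, x⁆)⁻¹` and use the subgroup `commSub`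
  have h2 : J ⊔ Q₀ ≤ commSub (Q₀) (J ⊔ Q₀) := by
    intro x hx
    rw [mem_commSub]
    intro y hy
    -- `⁅x, y⁆⁻¹ = ⁅y, x⁆`, and `y ↦ ⁅y, x⁆ ∈ Q₀` is checked on generators
    have h3 : J ⊔ Q₀ ≤ commSub (Q₀) (Subgroup.zpowers x) := by
      apply sup_le
      · intro j hj z hz
        obtain ⟨k, rfl⟩ := Subgroup.mem_zpowers_iff.1 hz
        -- `x ^ k ∈ J ⊔ Q₀`
        have hxk : x ^ k ∈ J ⊔ Q₀ := Subgroup.zpow_mem _ hx k
        have := h1 (x ^ k) hxk j hj
        have e2 : ⁅j, x ^ k⁆ = (⁅x ^ k, j⁆)⁻¹ := (commutatorElement_inv (x ^ k) j).symm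
        rw [e2]
        exact Subgroup.inv_mem _ this
      · intro u hu z hz
        have e : ⁅u, z⁆ = u * (z * u⁻¹ * z⁻¹) := by
          simp only [commutatorElement_def]
          group
        rw [e]
        exact Subgroup.mul_mem _ hu (Subgroup.Normal.conj_mem hQ₀ _ (Subgroup.inv_mem _ hu) z)
    have h4 := h3 hy x (Subgroup.mem_zpowers x)
    have e2 : ⁅x, y⁆ = (⁅y, x⁆)⁻¹ := (commutatorElement_inv y x).symm
    rw [e2]
    exact Subgroup.inv_mem _ h4
  exact h2 hx y hy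

end Main

end Cfsg.Agent.Lib.Helper25_PU_COMMBB
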