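import Mathlib

set_option autoImplicit false
set_option linter.unusedSimpArgs false
set_option linter.unusedSectionVars false
set_option linter.unusedVariables false

open Polynomial

/-!
# REEHALL market, package EIGP (architect helper26)

Roots of the characteristic polynomial in an extension field are eigenvalues over the
extension, and conversely; powers.
-/

namespace Cfsg.Agent.Lib.Helper25_RH_EIGP

/-- `aeval y x.charpoly` is the determinant of `y • 1 - x_L`. -/
theorem aeval_charpoly_eq_det {K L : Type*} [Field K] [Field L] [Algebra K L] {ι : Type*}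
    [Fintype ι] [DecidableEq ι] (x : Matrix ι ι K) (y : L) :
    aeval y x.charpoly = (Matrix.scalar ι y - x.map (algebraMap K L)).det := by
  rw [← Matrix.eval_charpoly, Matrix.charpoly_map, Polynomial.eval_map_algebraMap]

/-- A root (in an extension `L`) of the characteristic polynomial of `x` is an eigenvalue of `x`
over `L`. -/
theorem exists_eigvec {K L : Type*} [Field K] [Field L] [Algebra K L] {ι : Type*} [Fintype ι]
    [DecidableEq ι] (x : Matrix ι ι K) (y : L) (hy : aeval y x.charpoly = 0) :
    ∃ v : ι → L, v ≠ 0 ∧ (x.map (algebraMap K L)).mulVec v = y • v := by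
  rw [aeval_charpoly_eq_det] at hy
  obtain ⟨v, hv, hv0⟩ := Matrix.exists_mulVec_eq_zero_iff.mpr hy
  refine ⟨v, hv, ?_⟩
  rw [Matrix.sub_mulVec] at hv0
  have h1 : (Matrix.scalar ι y).mulVec v = y • v := by
    rw [Matrix.scalar_apply, ← Matrix.smul_one_eq_diagonal, Matrix.smul_mulVec, Matrix.one_mulVec]
  rw [h1] at hv0
  exact (sub_eq_zero.mp hv0).symm

/-- Conversely. -/
theorem root_of_eigvec {K L : Type*} [Field K] [Field L] [Algebra K L] {ι : Type*} [Fintype ι]
    [DecidableEq ι] (x : Matrix ι ι K) (y : L) (v : ι → L) (hv : v ≠ 0)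
    (hxv : (x.map (algebraMap K L)).mulVec v = y • v) : aeval y x.charpoly = 0 := by
  rw [aeval_charpoly_eq_det]
  apply Matrix.exists_mulVec_eq_zero_iff.mp
  refine ⟨v, hv, ?_⟩
  rw [Matrix.sub_mulVec]
  have h1 : (Matrix.scalar ι y).mulVec v = y • v := by
    rw [Matrix.scalar_apply, ← Matrix.smul_one_eq_diagonal, Matrix.smul_mulVec, Matrix.one_mulVec]
  rw [h1, hxv, sub_self]

/-- An eigenvector of `M` for `y` is an eigenvector of `M ^ k` for `y ^ k`. -/
theorem pow_mulVec_of_eigvec {L : Type*} [Field L] {ι : Type*} [Fintype ι] [DecidableEq ι]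
    (M : Matrix ι ι L) (y : L) (v : ι → L) (h : M.mulVec v = y • v) (k : ℕ) :
    (M ^ k).mulVec v = y ^ k • v := by
  induction k with
  | zero => simp
  | succ k ih =>
    rw [pow_succ, ← Matrix.mulVec_mulVec, h, Matrix.mulVec_smul, ih, smul_smul, pow_succ,
      mul_comm]

/-- `Matrix.map` of a ring hom commutes with powers. -/
theorem map_pow' {K L : Type*} [Field K] [Field L] [Algebra K L] {ι : Type*} [Fintype ι]
    [DecidableEq ι] (x : Matrix ι ι K) (k : ℕ) :
    (x ^ k).map (algebraMap K L) = (x.map (algebraMap K L)) ^ k :=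
  map_pow (algebraMap K L).mapMatrix x k

/-- Roots of the characteristic polynomial of a matrix with `x ^ p = 1` are `p`-th roots of 1;
`k`-th powers of roots are roots for `x ^ k`. -/
theorem root_pow_eq_one {K L : Type*} [Field K] [Field L] [Algebra K L] {ι : Type*} [Fintype ι]
    [DecidableEq ι] (x : Matrix ι ι K) {p : ℕ} (hx : x ^ p = 1) (y : L)
    (hy : aeval y x.charpoly = 0) : y ^ p = 1 := by
  obtain ⟨v, hv, hxv⟩ := exists_eigvec x y hy
  have h1 := pow_mulVec_of_eigvec _ y v hxv p
  rw [← map_pow', hx] at h1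
  have h2 : ((1 : Matrix ι ι K).map (algebraMap K L)) = 1 := by
    simp
  rw [h2, Matrix.one_mulVec] at h1
  by_contra hne
  apply hv
  have h3 : (y ^ p - 1) • v = 0 := by
    rw [sub_smul, one_smul, ← h1, sub_self]
  rcases smul_eq_zero.mp h3 with h | h
  · exact absurd (sub_eq_zero.mp h) hne
  · exact h

theorem root_pow {K L : Type*} [Field K] [Field L] [Algebra K L] {ι : Type*} [Fintype ι]
    [DecidableEq ι] (x : Matrix ι ι K) (k : ℕ) (y : L)
    (hy : aeval y x.charpoly = 0) : aeval (y ^ k) (x ^ k).charpoly = 0 := by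
  obtain ⟨v, hv, hxv⟩ := exists_eigvec x y hy
  have h1 := pow_mulVec_of_eigvec _ y v hxv k
  rw [← map_pow'] at h1
  exact root_of_eigvec (x ^ k) (y ^ k) v hv h1

end Cfsg.Agent.Lib.Helper25_RH_EIGP
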