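import Mathlib

set_option autoImplicit false
set_option linter.unusedSimpArgs false
set_option linter.unusedSectionVars false
set_option linter.unusedVariables false

open Polynomial

/-!
# REEHALL market, package NONTRIV (architect helper26)

In characteristic 3 a matrix of order prime to 3 all of whose eigenvalues are 1 is 1.
-/

namespace Cfsg.Agent.Lib.Helper25_RH_NONTRIV

/-- A unipotent matrix (charpoly a power of `X - 1`) over a field of characteristic 3 has
`3`-power order. -/
theorem pow_three_pow_eq_one {L : Type*} [Field L] [CharP L 3] {ι : Type*} [Fintype ι]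
    [DecidableEq ι] [Nonempty ι] (M : Matrix ι ι L) (k : ℕ)
    (h : M.charpoly = (X - C (1 : L)) ^ k) : M ^ 3 ^ k = 1 := by
  have hch := Matrix.aeval_self_charpoly M
  rw [h] at hch
  simp only [map_pow, map_sub, aeval_X, aeval_C, map_one] at hch
  have hle : k ≤ 3 ^ k := (Nat.lt_pow_self (by norm_num : 1 < 3)).le
  have h0 : (M - 1) ^ 3 ^ k = 0 := by
    rw [← Nat.sub_add_cancel hle, pow_add, hch, mul_zero]
  have : Fact (Nat.Prime 3) := ⟨Nat.prime_three⟩
  rw [sub_pow_char_pow_of_commute 3 k (Commute.one_right M), one_pow] at h0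
  exact sub_eq_zero.mp h0

/-- In characteristic 3 a matrix of order prime to 3 all of whose eigenvalues are 1 is 1. -/
theorem exists_root_ne_one {K : Type*} [Field K] [CharP K 3] {L : Type*} [Field L] [Algebra K L]
    [IsAlgClosed L] {ι : Type*} [Fintype ι] [DecidableEq ι] (x : Matrix ι ι K) {p : ℕ}
    (hp : Nat.Coprime p 3) (hx : x ^ p = 1) (hx1 : x ≠ 1) :
    ∃ y : L, aeval y x.charpoly = 0 ∧ y ≠ 1 := by
  by_contra hcon
  push Not at hcon
  apply hx1
  rcases isEmpty_or_nonempty ι with hι | hι
  · exact Subsingleton.elim _ _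
  have : CharP L 3 := charP_of_injective_algebraMap (algebraMap K L).injective 3
  set xL : Matrix ι ι L := x.map (algebraMap K L) with hxL
  have hf : xL.charpoly = x.charpoly.map (algebraMap K L) := Matrix.charpoly_map x _
  have hroots : ∀ y ∈ xL.charpoly.roots, y = 1 := by
    intro y hy
    apply hcon y
    rw [← Polynomial.eval_map_algebraMap, ← hf]
    exact (Polynomial.mem_roots'.mp hy).2
  have hrep : xL.charpoly.roots = Multiset.replicate (Multiset.card xL.charpoly.roots) 1 :=
    Multiset.eq_replicate.mpr ⟨rfl, hroots⟩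
  have hsp : xL.charpoly.Splits := IsAlgClosed.splits _
  have hprod := hsp.eq_prod_roots_of_monic (Matrix.charpoly_monic xL)
  rw [hrep, Multiset.map_replicate, Multiset.prod_replicate] at hprod
  have h3 := pow_three_pow_eq_one xL _ hprod
  have hxLp : xL ^ p = 1 := by
    have := congrArg (fun M : Matrix ι ι K => M.map (algebraMap K L)) hx
    beta_reduce at this
    rw [show (x ^ p).map (algebraMap K L) = xL ^ p from
      map_pow (algebraMap K L).mapMatrix x p] at this
    rw [this]
    simp
  have hcop : Nat.Coprime p (3 ^ Multiset.card xL.charpoly.roots) := Nat.Coprime.pow_right _ hp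
  have hone : xL = 1 := (pow_eq_one_iff_of_coprime hcop).mp ⟨hxLp, h3⟩
  have hinj : Function.Injective (fun M : Matrix ι ι K => M.map (algebraMap K L)) :=
    Matrix.map_injective (algebraMap K L).injective
  apply hinj
  beta_reduce
  rw [← hxL, hone]
  simp

end Cfsg.Agent.Lib.Helper25_RH_NONTRIV
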