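import Mathlib
import Cfsg.Prelude.Def_KGroupFacts
import Cfsg.Agent.Lib.Helper81_UceA

set_option autoImplicit false

/-!
helper25: S2086-GENSCHUR (architect helper72): if every finite central extension of the finite perfect
group `Gt` splits, the Schur multiplier of `Gt / Z(Gt)` is `Z(Gt)`.
-/

namespace Cfsg.Agent.Lib.Helper25_S2086_GENSCHUR

open Cfsg.Agent.Lib.Helper81_UceA
open scoped commutatorElement

universe u v

/-- GENSCHUR (M). -/
theorem GENSCHUR {Gt : Type u} [Group Gt] [Finite Gt] (hperf : commutator Gt = ⊤)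
    (hsplit : ∀ (E : Type u) [Group E] [Finite E] (π : E →* Gt), CExt π →
      ∃ s : Gt →* E, π.comp s = MonoidHom.id Gt)
    {A : Type v} [CommGroup A] (e : Subgroup.center Gt ≃* A) :
    Cfsg.HasSchurMultiplier (Gt ⧸ Subgroup.center Gt) A := by
  constructor
  · -- the quotient map is a stem extension with kernel the centre
    refine ⟨Gt, inferInstance, inferInstance, QuotientGroup.mk' (Subgroup.center Gt), ?_, ?_⟩
    · refine ⟨QuotientGroup.mk'_surjective _, ?_, ?_⟩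
      · rw [QuotientGroup.ker_mk']
      · rw [hperf]
        exact le_top
    · exact ⟨(MulEquiv.subgroupCongr (QuotientGroup.ker_mk' (Subgroup.center Gt))).trans e⟩
  · intro Γ _ _ σ hσ
    obtain ⟨hσsurj, hσcen, hσstem⟩ := hσ
    -- the pullback
    let P : Subgroup (Γ × Gt) :=
      { carrier := {p | σ p.1 = QuotientGroup.mk' (Subgroup.center Gt) p.2}
        mul_mem' := by
          intro a b ha hb
          simp only [Set.mem_ofPred_eq, Prod.fst_mul, Prod.snd_mul, map_mul] at ha hb ⊢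
          rw [ha, hb]
        one_mem' := by
          simp only [Set.mem_ofPred_eq, Prod.fst_one, Prod.snd_one, map_one]
        inv_mem' := by
          intro a ha
          simp only [Set.mem_ofPred_eq, Prod.fst_inv, Prod.snd_inv, map_inv] at ha ⊢
          rw [ha] }
    have hPmem : ∀ p : Γ × Gt, p ∈ P ↔ σ p.1 = QuotientGroup.mk' (Subgroup.center Gt) p.2 :=
      fun p => Iff.rfl
    let pr : ↥P →* Gt := (MonoidHom.snd Γ Gt).comp P.subtype
    have hprapp : ∀ p : ↥P, pr p = (p : Γ × Gt).2 := fun p => rfl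
    have hprc : CExt pr := by
      constructor
      · intro g
        obtain ⟨γ, hγ⟩ := hσsurj (QuotientGroup.mk' (Subgroup.center Gt) g)
        exact ⟨⟨(γ, g), hγ⟩, rfl⟩
      · intro p hp
        rw [MonoidHom.mem_ker, hprapp] at hp
        rw [Subgroup.mem_center_iff]
        intro r
        have hp1 : σ (p : Γ × Gt).1 = 1 := by
          have := p.2
          rw [hPmem, hp, map_one] at this
          exact this
        have hcen : (p : Γ × Gt).1 ∈ Subgroup.center Γ := hσcen hp1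
        apply Subtype.ext
        apply Prod.ext
        · simp only [Subgroup.coe_mul, Prod.fst_mul]
          exact (Subgroup.mem_center_iff.mp hcen) _
        · simp only [Subgroup.coe_mul, Prod.snd_mul, hp, one_mul, mul_one]
    obtain ⟨s, hs⟩ := hsplit ↥P pr hprc
    have hsapp : ∀ g : Gt, ((s g : ↥P) : Γ × Gt).2 = g := by
      intro g
      have := DFunLike.congr_fun hs g
      exact this
    let φ : Gt →* Γ := ((MonoidHom.fst Γ Gt).comp P.subtype).comp s
    have hφapp : ∀ g : Gt, φ g = ((s g : ↥P) : Γ × Gt).1 := fun g => rfl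
    have hσφ : ∀ g : Gt, σ (φ g) = QuotientGroup.mk' (Subgroup.center Gt) g := by
      intro g
      have := (s g).2
      rw [hPmem, hsapp] at this
      rw [hφapp]
      exact this
    -- every element of `Γ` is `φ g * z` with `z` in the kernel
    have hdec : ∀ γ : Γ, ∃ g : Gt, ∃ z : Γ, σ z = 1 ∧ γ = φ g * z := by
      intro γ
      obtain ⟨g, hg⟩ := QuotientGroup.mk'_surjective (Subgroup.center Gt) (σ γ)
      refine ⟨g, (φ g)⁻¹ * γ, ?_, by group⟩
      rw [map_mul, map_inv, hσφ, hg, inv_mul_cancel]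
    have hcomm : ∀ z : Γ, σ z = 1 → ∀ x : Γ, z * x = x * z := by
      intro z hz x
      exact ((Subgroup.mem_center_iff.mp (hσcen hz)) x).symm
    -- commutators come from `φ`
    have hcommφ : ∀ γ₁ γ₂ : Γ, ⁅γ₁, γ₂⁆ ∈ φ.range := by
      intro γ₁ γ₂
      obtain ⟨g₁, z₁, hz₁, rfl⟩ := hdec γ₁
      obtain ⟨g₂, z₂, hz₂, rfl⟩ := hdec γ₂
      have c₁ := hcomm z₁ hz₁
      have c₂ := hcomm z₂ hz₂
      have : ⁅φ g₁ * z₁, φ g₂ * z₂⁆ = ⁅φ g₁, φ g₂⁆ := by
        rw [commutatorElement_def, commutatorElement_def]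
        have e1 : (φ g₁ * z₁)⁻¹ = (φ g₁)⁻¹ * z₁⁻¹ := by
          rw [mul_inv_rev]
          have h3 : z₁ * (φ g₁)⁻¹ = (φ g₁)⁻¹ * z₁ := c₁ _
          calc z₁⁻¹ * (φ g₁)⁻¹ = z₁⁻¹ * ((φ g₁)⁻¹ * z₁) * z₁⁻¹ := by group
            _ = z₁⁻¹ * (z₁ * (φ g₁)⁻¹) * z₁⁻¹ := by rw [h3]
            _ = (φ g₁)⁻¹ * z₁⁻¹ := by group
        have e2 : (φ g₂ * z₂)⁻¹ = (φ g₂)⁻¹ * z₂⁻¹ := by
          rw [mul_inv_rev]
          have h3 : z₂ * (φ g₂)⁻¹ = (φ g₂)⁻¹ * z₂ := c₂ _
          calc z₂⁻¹ * (φ g₂)⁻¹ = z₂⁻¹ * ((φ g₂)⁻¹ * z₂) * z₂⁻¹ := by group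
            _ = z₂⁻¹ * (z₂ * (φ g₂)⁻¹) * z₂⁻¹ := by rw [h3]
            _ = (φ g₂)⁻¹ * z₂⁻¹ := by group
        rw [e1, e2]
        have s1 : φ g₁ * z₁ * (φ g₂ * z₂) * ((φ g₁)⁻¹ * z₁⁻¹) * ((φ g₂)⁻¹ * z₂⁻¹) =
            φ g₁ * (z₁ * (φ g₂ * z₂ * (φ g₁)⁻¹)) * z₁⁻¹ * ((φ g₂)⁻¹ * z₂⁻¹) := by group
        rw [s1, c₁ (φ g₂ * z₂ * (φ g₁)⁻¹)]
        have s2 : φ g₁ * (φ g₂ * z₂ * (φ g₁)⁻¹ * z₁) * z₁⁻¹ * ((φ g₂)⁻¹ * z₂⁻¹) =
            φ g₁ * φ g₂ * (z₂ * ((φ g₁)⁻¹ * (φ g₂)⁻¹)) * z₂⁻¹ := by group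
        rw [s2, c₂ ((φ g₁)⁻¹ * (φ g₂)⁻¹)]
        group
      rw [this, ← map_commutatorElement]
      exact ⟨_, rfl⟩
    have hcomle : commutator Γ ≤ φ.range := by
      rw [_root_.commutator_def, Subgroup.commutator_le]
      intro γ₁ _ γ₂ _
      exact hcommφ γ₁ γ₂
    -- the kernel lies in the image of the centre
    have hkerφ : ∀ z : Γ, σ z = 1 → ∃ g ∈ Subgroup.center Gt, φ g = z := by
      intro z hz
      have hz' : z ∈ σ.ker := hz
      obtain ⟨g, hg⟩ := hcomle (hσstem hz')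
      refine ⟨g, ?_, hg⟩
      have h1 := hσφ g
      rw [hg, hz] at h1
      have h2 : QuotientGroup.mk' (Subgroup.center Gt) g = 1 := h1.symm
      rwa [QuotientGroup.mk'_apply, QuotientGroup.eq_one_iff] at h2
    -- the surjection `Z(Gt) → ker σ`
    let π' : ↥(Subgroup.center Gt) →* ↥σ.ker :=
      { toFun := fun g => ⟨φ (g : Gt), by
          rw [MonoidHom.mem_ker, hσφ, QuotientGroup.mk'_apply, QuotientGroup.eq_one_iff]
          exact g.2⟩
        map_one' := by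
          apply Subtype.ext
          simp
        map_mul' := by
          intro a b
          apply Subtype.ext
          simp }
    refine ⟨π'.comp e.symm.toMonoidHom, ?_⟩
    intro z
    obtain ⟨g, hg, hgz⟩ := hkerφ (z : Γ) z.2
    refine ⟨e ⟨g, hg⟩, ?_⟩
    apply Subtype.ext
    simp only [MonoidHom.comp_apply, MulEquiv.coe_toMonoidHom, MulEquiv.symm_apply_apply]
    exact hgz

end Cfsg.Agent.Lib.Helper25_S2086_GENSCHUR
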