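import Mathlib
import Cfsg.Prelude.Def_KGroupFacts
import Cfsg.Agent.Lib.Helper81_UceA

set_option autoImplicit false

/-!
helper25: S2086-PERFSPLIT (architect helper72): a perfect group with trivial Schur multiplier (in the
sense of the definitions): every finite central extension splits.
-/

namespace Cfsg.Agent.Lib.Helper25_S2086_PERFSPLIT

open Cfsg.Agent.Lib.Helper81_UceA
open scoped commutatorElement

universe u v

/-- If `π : E → G` is a central extension of a perfect group then `E' = ⁅E', E'⁆` and `π` maps `E'`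
onto `G`. -/
theorem map_commutator_eq_top {E G : Type*} [Group E] [Group G] (hperf : commutator G = ⊤)
    (π : E →* G) (hc : CExt π) : (commutator E).map π = ⊤ := by
  rw [_root_.commutator_def, Subgroup.map_commutator,
    Subgroup.map_top_of_surjective π hc.surj, ← _root_.commutator_def, hperf]

theorem commutator_le_commutator_commutator {E G : Type*} [Group E] [Group G]
    (hperf : commutator G = ⊤) (π : E →* G) (hc : CExt π) :
    commutator E ≤ ⁅commutator E, commutator E⁆ := by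
  have hmap := map_commutator_eq_top hperf π hc
  have hlift : ∀ e : E, ∃ γ ∈ commutator E, ∃ z : E, π z = 1 ∧ e = γ * z := by
    intro e
    have : π e ∈ (commutator E).map π := by rw [hmap]; trivial
    obtain ⟨γ, hγ, hγe⟩ := this
    refine ⟨γ, hγ, γ⁻¹ * e, ?_, by group⟩
    rw [map_mul, map_inv, hγe, inv_mul_cancel]
  rw [_root_.commutator_def, Subgroup.commutator_le]
  intro e₁ _ e₂ _
  obtain ⟨γ₁, hγ₁, z₁, hz₁, rfl⟩ := hlift e₁
  obtain ⟨γ₂, hγ₂, z₂, hz₂, rfl⟩ := hlift e₂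
  have c₁ := hc.comm_of_ker hz₁
  have c₂ := hc.comm_of_ker hz₂
  have : ⁅γ₁ * z₁, γ₂ * z₂⁆ = ⁅γ₁, γ₂⁆ := by
    rw [commutatorElement_def, commutatorElement_def]
    have e1 : (γ₁ * z₁)⁻¹ = γ₁⁻¹ * z₁⁻¹ := by
      rw [mul_inv_rev]
      have := c₁ γ₁⁻¹
      have h2 : z₁⁻¹ * γ₁⁻¹ = γ₁⁻¹ * z₁⁻¹ := by
        have h3 : z₁ * γ₁⁻¹ = γ₁⁻¹ * z₁ := this
        calc z₁⁻¹ * γ₁⁻¹ = z₁⁻¹ * (γ₁⁻¹ * z₁) * z₁⁻¹ := by group
          _ = z₁⁻¹ * (z₁ * γ₁⁻¹) * z₁⁻¹ := by rw [h3]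
          _ = γ₁⁻¹ * z₁⁻¹ := by group
      exact h2
    have e2 : (γ₂ * z₂)⁻¹ = γ₂⁻¹ * z₂⁻¹ := by
      rw [mul_inv_rev]
      have h3 : z₂ * γ₂⁻¹ = γ₂⁻¹ * z₂ := c₂ γ₂⁻¹
      calc z₂⁻¹ * γ₂⁻¹ = z₂⁻¹ * (γ₂⁻¹ * z₂) * z₂⁻¹ := by group
        _ = z₂⁻¹ * (z₂ * γ₂⁻¹) * z₂⁻¹ := by rw [h3]
        _ = γ₂⁻¹ * z₂⁻¹ := by group
    rw [e1, e2]
    -- move the central elements out
    have s1 : γ₁ * z₁ * (γ₂ * z₂) * (γ₁⁻¹ * z₁⁻¹) * (γ₂⁻¹ * z₂⁻¹) =
        γ₁ * (z₁ * (γ₂ * z₂ * γ₁⁻¹)) * z₁⁻¹ * (γ₂⁻¹ * z₂⁻¹) := by group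
    rw [s1, c₁ (γ₂ * z₂ * γ₁⁻¹)]
    have s2 : γ₁ * (γ₂ * z₂ * γ₁⁻¹ * z₁) * z₁⁻¹ * (γ₂⁻¹ * z₂⁻¹) =
        γ₁ * γ₂ * (z₂ * (γ₁⁻¹ * γ₂⁻¹)) * z₂⁻¹ := by group
    rw [s2, c₂ (γ₁⁻¹ * γ₂⁻¹)]
    group
  rw [this]
  exact Subgroup.commutator_mem_commutator hγ₁ hγ₂

/-- PERFSPLIT (M): a perfect group with trivial Schur multiplier (in the sense of the definitions): every finite
central extension splits. -/
theorem PERFSPLIT {G : Type u} [Group G] (hperf : commutator G = ⊤)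
    (hm : Cfsg.HasCyclicSchurMultiplier G 1) (E : Type u) [Group E] [Finite E] (π : E →* G) (hc : CExt π) :
    ∃ s : G →* E, π.comp s = MonoidHom.id G := by
  have hmap := map_commutator_eq_top hperf π hc
  have hperfE := commutator_le_commutator_commutator hperf π hc
  -- the restriction of `π` to `Γ = E'`
  obtain ⟨σ, hσdef⟩ : ∃ σ : ↥(commutator E) →* G, σ = π.comp (commutator E).subtype := ⟨_, rfl⟩
  have hσapp : ∀ x : ↥(commutator E), σ x = π (x : E) := by
    intro x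
    rw [hσdef]
    rfl
  have hσsurj : Function.Surjective σ := by
    intro g
    have : g ∈ (commutator E).map π := by rw [hmap]; trivial
    obtain ⟨γ, hγ, hγg⟩ := this
    exact ⟨⟨γ, hγ⟩, by rw [hσapp]; exact hγg⟩
  have hΓperf : commutator ↥(commutator E) = ⊤ := by
    have h1 := (commutator E).map_subtype_commutator
    have h2 : (⊤ : Subgroup ↥(commutator E)).map (commutator E).subtype ≤
        (commutator ↥(commutator E)).map (commutator E).subtype := by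
      rw [h1, ← MonoidHom.range_eq_map, Subgroup.range_subtype]
      exact hperfE
    have h3 := (Subgroup.map_le_map_iff_of_injective (commutator E).subtype_injective).mp h2
    exact top_le_iff.mp h3
  have hstem : Cfsg.IsStemExtension σ := by
    refine ⟨hσsurj, ?_, ?_⟩
    · intro x hx
      rw [MonoidHom.mem_ker, hσapp] at hx
      rw [Subgroup.mem_center_iff]
      intro y
      apply Subtype.ext
      rw [Subgroup.coe_mul, Subgroup.coe_mul]
      exact (hc.comm_of_ker hx (y : E)).symm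
    · rw [hΓperf]
      exact le_top
  obtain ⟨ρ, hρ⟩ := hm.2 ↥(commutator E) σ hstem
  have hker : ∀ x : ↥(commutator E), σ x = 1 → x = 1 := by
    intro x hx
    obtain ⟨a, ha⟩ := hρ ⟨x, hx⟩
    have ha1 : a = 1 := Subsingleton.elim _ _
    rw [ha1, map_one] at ha
    have := congrArg Subtype.val ha
    exact this.symm
  have hσinj : Function.Injective σ := (injective_iff_map_eq_one σ).mpr hker
  let eσ : ↥(commutator E) ≃* G := MulEquiv.ofBijective σ ⟨hσinj, hσsurj⟩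
  refine ⟨(commutator E).subtype.comp eσ.symm.toMonoidHom, ?_⟩
  ext g
  have h1 : σ (eσ.symm g) = g := eσ.apply_symm_apply g
  rw [hσapp] at h1
  exact h1

end Cfsg.Agent.Lib.Helper25_S2086_PERFSPLIT
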