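import Mathlib

set_option autoImplicit false
set_option linter.unusedSectionVars false
set_option linter.unusedSimpArgs false

/-!
Monomial matrices: basic API.  `mono σ c` is the matrix sending `e_j` to `c j • e_{σ j}`.
`IsMono A` says every column of `A` has at most one nonzero entry; `monoGL` is the monomial
subgroup of `GL ι F` (for a finite field `F`).
-/

namespace Cfsg.Agent.Lib.Helper98_MonoBase

open Matrix

variable {F : Type*} [Field F] {ι : Type*} [Fintype ι] [DecidableEq ι]

/-- The monomial matrix sending `e_j` to `c j • e_{σ j}`. -/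
def mono (σ : Equiv.Perm ι) (c : ι → F) : Matrix ι ι F :=
  Matrix.of fun r j => if r = σ j then c j else 0

omit [Fintype ι] in
lemma mono_apply (σ : Equiv.Perm ι) (c : ι → F) (r j : ι) :
    mono σ c r j = if r = σ j then c j else 0 := rfl

lemma mono_mulVec (σ : Equiv.Perm ι) (c : ι → F) (x : ι → F) (r : ι) :
    (mono σ c *ᵥ x) r = c (σ.symm r) * x (σ.symm r) := by
  simp only [mulVec, dotProduct, mono_apply]
  rw [Finset.sum_eq_single (σ.symm r)]
  · simp
  · intro j _ hj
    rw [if_neg, zero_mul]
    intro h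
    exact hj (by rw [h, Equiv.symm_apply_apply])
  · intro h; exact absurd (Finset.mem_univ _) h

lemma vecMul_mono (σ : Equiv.Perm ι) (c : ι → F) (y : ι → F) (j : ι) :
    (y ᵥ* mono σ c) j = y (σ j) * c j := by
  simp only [vecMul, dotProduct, mono_apply]
  rw [Finset.sum_eq_single (σ j)]
  · simp
  · intro r _ hr
    rw [if_neg hr, mul_zero]
  · intro h; exact absurd (Finset.mem_univ _) h

lemma mono_mul_mono (σ τ : Equiv.Perm ι) (c d : ι → F) :
    mono σ c * mono τ d = mono (σ * τ) (fun j => c (τ j) * d j) := by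
  ext r j
  simp only [mul_apply, mono_apply, Equiv.Perm.coe_mul, Function.comp_apply]
  rw [Finset.sum_eq_single (τ j)]
  · by_cases h : r = σ (τ j)
    · simp [h]
    · simp [h]
  · intro l _ hl
    rw [if_neg hl, mul_zero]
  · intro h; exact absurd (Finset.mem_univ _) h

omit [Fintype ι] in
lemma mono_one : mono (1 : Equiv.Perm ι) (fun _ => (1 : F)) = 1 := by
  ext r j
  by_cases h : r = j
  · subst h; simp [mono_apply]
  · simp [mono_apply, h]

omit [Fintype ι] in
lemma mono_one_eq_diagonal (c : ι → F) : mono (1 : Equiv.Perm ι) c = diagonal c := by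
  ext r j
  simp only [mono_apply, Equiv.Perm.coe_one, id_eq, diagonal_apply]
  by_cases h : r = j
  · subst h; simp
  · simp [h]

/-- The monomial matrix as an element of `GL`. -/
def monoU (σ : Equiv.Perm ι) (c : ι → F) (hc : ∀ j, c j ≠ 0) : GL ι F where
  val := mono σ c
  inv := mono σ⁻¹ (fun j => (c (σ⁻¹ j))⁻¹)
  val_inv := by
    rw [mono_mul_mono, ← mono_one]
    congr 1
    · simp
    · funext j
      exact mul_inv_cancel₀ (hc _)
  inv_val := by
    rw [mono_mul_mono, ← mono_one]
    congr 1
    · simp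
    · funext j
      have : σ⁻¹ (σ j) = j := by simp
      simp only [this]
      exact inv_mul_cancel₀ (hc _)

@[simp] lemma monoU_val (σ : Equiv.Perm ι) (c : ι → F) (hc : ∀ j, c j ≠ 0) :
    ((monoU σ c hc : GL ι F) : Matrix ι ι F) = mono σ c := rfl

lemma monoU_inv_val (σ : Equiv.Perm ι) (c : ι → F) (hc : ∀ j, c j ≠ 0) :
    (((monoU σ c hc)⁻¹ : GL ι F) : Matrix ι ι F) = mono σ⁻¹ (fun j => (c (σ⁻¹ j))⁻¹) := rfl

lemma det_mono (σ : Equiv.Perm ι) (c : ι → F) :
    (mono σ c).det = (Equiv.Perm.sign σ : ℤ) * ∏ j, c j := by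
  have h : mono σ c = (σ⁻¹).toPEquiv.toMatrix * diagonal c := by
    ext r j
    rw [mul_diagonal, mono_apply, PEquiv.toMatrix_apply]
    simp only [Equiv.toPEquiv_apply, Option.mem_def, Option.some.injEq]
    by_cases hr : r = σ j
    · subst hr; simp
    · have : ¬ (Equiv.symm σ) r = j := fun h => hr (by rw [← h]; simp)
      simp [hr, this]
  rw [h, det_mul, det_permutation, det_diagonal, Equiv.Perm.sign_inv]

/-- Every column has at most one nonzero entry. -/
def IsMono (A : Matrix ι ι F) : Prop := ∀ j i i', A i j ≠ 0 → A i' j ≠ 0 → i = i'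

omit [Fintype ι] in
lemma isMono_one : IsMono (1 : Matrix ι ι F) := by
  intro j i i' h h'
  have h1 : i = j := by
    by_contra hne
    exact h (Matrix.one_apply_ne hne)
  have h2 : i' = j := by
    by_contra hne
    exact h' (Matrix.one_apply_ne hne)
  rw [h1, h2]

lemma IsMono.mul {A B : Matrix ι ι F} (hA : IsMono A) (hB : IsMono B) : IsMono (A * B) := by
  intro k i i' h h'
  rw [mul_apply] at h h'
  obtain ⟨j, -, hj⟩ := Finset.exists_ne_zero_of_sum_ne_zero h
  obtain ⟨j', -, hj'⟩ := Finset.exists_ne_zero_of_sum_ne_zero h'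
  have hjj : j = j' := hB k j j' (right_ne_zero_of_mul hj) (right_ne_zero_of_mul hj')
  subst hjj
  exact hA j i i' (left_ne_zero_of_mul hj) (left_ne_zero_of_mul hj')

omit [Fintype ι] in
lemma isMono_mono (σ : Equiv.Perm ι) (c : ι → F) : IsMono (mono σ c) := by
  intro j i i' h h'
  rw [mono_apply] at h h'
  have h1 : i = σ j := by
    by_contra hne
    exact h (if_neg hne)
  have h2 : i' = σ j := by
    by_contra hne
    exact h' (if_neg hne)
  rw [h1, h2]

variable [Fintype F]

/-- The monomial subgroup of `GL ι F`. -/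
def monoGL (ι : Type*) (F : Type*) [Field F] [Fintype ι] [DecidableEq ι] [Fintype F] :
    Subgroup (GL ι F) where
  carrier := {g | IsMono (g : Matrix ι ι F)}
  mul_mem' := by
    intro a b ha hb
    show IsMono ((a * b : GL ι F) : Matrix ι ι F)
    rw [Units.val_mul]
    exact IsMono.mul ha hb
  one_mem' := by
    show IsMono ((1 : GL ι F) : Matrix ι ι F)
    rw [Units.val_one]
    exact isMono_one
  inv_mem' := by
    intro g hg
    have hpow : ∀ k : ℕ, IsMono ((g ^ k : GL ι F) : Matrix ι ι F) := by
      intro k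
      induction k with
      | zero => rw [pow_zero, Units.val_one]; exact isMono_one
      | succ k ih => rw [pow_succ, Units.val_mul]; exact IsMono.mul ih hg
    have h : 0 < orderOf g := orderOf_pos g
    have : g⁻¹ = g ^ (orderOf g - 1) := by
      rw [inv_eq_iff_mul_eq_one, ← pow_succ', Nat.sub_add_cancel h, pow_orderOf_eq_one]
    show IsMono ((g⁻¹ : GL ι F) : Matrix ι ι F)
    rw [this]
    exact hpow _

lemma mem_monoGL (g : GL ι F) : g ∈ monoGL ι F ↔ IsMono (g : Matrix ι ι F) := Iff.rfl

lemma monoU_mem (σ : Equiv.Perm ι) (c : ι → F) (hc : ∀ j, c j ≠ 0) :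
    monoU σ c hc ∈ monoGL ι F := isMono_mono σ c

/-- Structure of an invertible monomial matrix. -/
lemma exists_eq_mono {g : GL ι F} (hg : g ∈ monoGL ι F) :
    ∃ (σ : Equiv.Perm ι) (c : ι → F), (∀ j, c j ≠ 0) ∧ (g : Matrix ι ι F) = mono σ c := by
  classical
  -- each column is nonzero
  have hcol : ∀ j, ∃ i, (g : Matrix ι ι F) i j ≠ 0 := by
    intro j
    by_contra hcon
    push Not at hcon
    have h1 : ((g⁻¹ * g : GL ι F) : Matrix ι ι F) j j = 1 := by
      rw [inv_mul_cancel, Units.val_one, Matrix.one_apply_eq]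
    rw [Units.val_mul, mul_apply] at h1
    simp [hcon] at h1
  choose f hf using hcol
  have hfu : ∀ i j, (g : Matrix ι ι F) i j ≠ 0 → i = f j := fun i j h => hg j i (f j) h (hf j)
  -- f is injective
  have hinj : Function.Injective f := by
    intro j j' hjj
    by_contra hne
    -- rows of g⁻¹ : (g⁻¹ g) j j = 1, (g⁻¹ g) j j' = 0
    have h1 : ((g⁻¹ * g : GL ι F) : Matrix ι ι F) j j = 1 := by
      rw [inv_mul_cancel, Units.val_one, Matrix.one_apply_eq]
    have h2 : ((g⁻¹ * g : GL ι F) : Matrix ι ι F) j j' = 0 := by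
      rw [inv_mul_cancel, Units.val_one, Matrix.one_apply_ne hne]
    rw [Units.val_mul, mul_apply] at h1 h2
    rw [Finset.sum_eq_single (f j)] at h1
    · rw [Finset.sum_eq_single (f j')] at h2
      · rw [← hjj] at h2
        have h3 := right_ne_zero_of_mul (a := ((g⁻¹ : GL ι F) : Matrix ι ι F) j (f j)) (by rw [h1]; exact one_ne_zero)
        have h4 : ((g⁻¹ : GL ι F) : Matrix ι ι F) j (f j) = 0 := by
          rcases mul_eq_zero.mp h2 with h | h
          · exact h
          · exact absurd h (by rw [hjj]; exact hf j')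
        rw [h4, zero_mul] at h1
        exact zero_ne_one h1
      · intro i _ hi
        have : (g : Matrix ι ι F) i j' = 0 := by
          by_contra h; exact hi (hfu i j' h)
        rw [this, mul_zero]
      · intro h; exact absurd (Finset.mem_univ _) h
    · intro i _ hi
      have : (g : Matrix ι ι F) i j = 0 := by
        by_contra h; exact hi (hfu i j h)
      rw [this, mul_zero]
    · intro h; exact absurd (Finset.mem_univ _) h
  have hbij : Function.Bijective f := Finite.injective_iff_bijective.mp hinj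
  refine ⟨Equiv.ofBijective f hbij, fun j => (g : Matrix ι ι F) (f j) j, fun j => hf j, ?_⟩
  ext i j
  rw [mono_apply, Equiv.ofBijective_apply]
  by_cases h : i = f j
  · rw [if_pos h, h]
  · rw [if_neg h]
    by_contra hne
    exact h (hfu i j hne)

end Cfsg.Agent.Lib.Helper98_MonoBase
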