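import Mathlib
import Cfsg.Agent.Lib.Helper98_MonoBase

set_option autoImplicit false
set_option linter.unusedSectionVars false
set_option linter.unusedSimpArgs false
set_option linter.unusedVariables false

/-!
The "GL-lemma": a subgroup of `GL ι F` (`F` finite with at least 5 elements, `ι` with at least 3
elements) which contains the full monomial group and is not monomial contains all elementary
transvections `1 + c e_i e_jᵀ` for some `i ≠ j`.
-/

namespace Cfsg.Agent.Lib.Helper98_MonoG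

open Matrix Cfsg.Agent.Lib.Helper98_MonoBase

variable {F : Type*} [Field F] [Fintype F] {ι : Type*} [Fintype ι] [DecidableEq ι]

/-- The matrix `A` is (the value of) an element of the subgroup `K`. -/
def InK (K : Subgroup (GL ι F)) (A : Matrix ι ι F) : Prop := ∃ u ∈ K, (u : Matrix ι ι F) = A

lemma InK.mul {K : Subgroup (GL ι F)} {A B : Matrix ι ι F} (hA : InK K A) (hB : InK K B) :
    InK K (A * B) := by
  obtain ⟨u, hu, rfl⟩ := hA
  obtain ⟨v, hv, rfl⟩ := hB
  exact ⟨u * v, K.mul_mem hu hv, by rw [Units.val_mul]⟩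

lemma InK.of_mul_eq_one {K : Subgroup (GL ι F)} {A B : Matrix ι ι F} (hA : InK K A)
    (h : A * B = 1) : InK K B := by
  obtain ⟨u, hu, rfl⟩ := hA
  refine ⟨u⁻¹, K.inv_mem hu, ?_⟩
  have : (u⁻¹ : GL ι F) = ⟨B, u, mul_eq_one_comm.mp h, h⟩ := by
    rw [inv_eq_iff_mul_eq_one]
    apply Units.ext
    rw [Units.val_mul]
    exact h
  rw [this]

lemma InK.conj {K : Subgroup (GL ι F)} {A : Matrix ι ι F} (hA : InK K A) {k : GL ι F}
    (hk : k ∈ K) : InK K ((k : Matrix ι ι F) * A * ((k⁻¹ : GL ι F) : Matrix ι ι F)) := by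
  obtain ⟨u, hu, rfl⟩ := hA
  exact ⟨k * u * k⁻¹, K.mul_mem (K.mul_mem hk hu) (K.inv_mem hk), by
    rw [Units.val_mul, Units.val_mul]⟩

lemma InK.of_mem {K : Subgroup (GL ι F)} {k : GL ι F} (hk : k ∈ K) :
    InK K (k : Matrix ι ι F) := ⟨k, hk, rfl⟩

/-- product formula for rank one perturbations -/
lemma T_mul (a b : F) (x y x' y' : ι → F) :
    (1 + a • vecMulVec x y) * (1 + b • vecMulVec x' y') =
      1 + a • vecMulVec x y + b • vecMulVec x' y' + (a * b * (y ⬝ᵥ x')) • vecMulVec x y' := by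
  simp only [add_mul, mul_add, one_mul, mul_one, smul_mul_assoc, mul_smul_comm,
    vecMulVec_mul_vecMulVec, vecMulVec_smul, smul_smul]
  module

lemma conj_T (k : GL ι F) (a : F) (x y : ι → F) :
    (k : Matrix ι ι F) * (1 + a • vecMulVec x y) * ((k⁻¹ : GL ι F) : Matrix ι ι F) =
      1 + a • vecMulVec ((k : Matrix ι ι F) *ᵥ x) (y ᵥ* ((k⁻¹ : GL ι F) : Matrix ι ι F)) := by
  rw [mul_add, add_mul, mul_one, mul_smul_comm, smul_mul_assoc, mul_vecMulVec, vecMulVec_mul]
  congr 1
  rw [← Units.val_mul, mul_inv_cancel, Units.val_one]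

/-- all transvections `1 + c x zᵀ` lie in `K` -/
def TV (K : Subgroup (GL ι F)) (x z : ι → F) : Prop := ∀ c : F, InK K (1 + c • vecMulVec x z)

/-- `(x, y)` is a pseudo-reflection pair: `y(x) = 1` and `1 + (ε - 1) x yᵀ ∈ K` for all `ε ≠ 0`. -/
def IsPair (K : Subgroup (GL ι F)) (x y : ι → F) : Prop :=
  y ⬝ᵥ x = 1 ∧ ∀ ε : F, ε ≠ 0 → InK K (1 + (ε - 1) • vecMulVec x y)

lemma inv_mulVec_mulVec (k : GL ι F) (x : ι → F) :
    ((k⁻¹ : GL ι F) : Matrix ι ι F) *ᵥ ((k : Matrix ι ι F) *ᵥ x) = x := by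
  rw [mulVec_mulVec, ← Units.val_mul, inv_mul_cancel, Units.val_one, one_mulVec]

lemma dot_conj (k : GL ι F) (x y : ι → F) :
    (y ᵥ* ((k⁻¹ : GL ι F) : Matrix ι ι F)) ⬝ᵥ ((k : Matrix ι ι F) *ᵥ x) = y ⬝ᵥ x := by
  rw [← dotProduct_mulVec, inv_mulVec_mulVec]

lemma IsPair.conj {K : Subgroup (GL ι F)} {x y : ι → F} (h : IsPair K x y) {k : GL ι F}
    (hk : k ∈ K) :
    IsPair K ((k : Matrix ι ι F) *ᵥ x) (y ᵥ* ((k⁻¹ : GL ι F) : Matrix ι ι F)) := by
  refine ⟨by rw [dot_conj]; exact h.1, fun ε hε => ?_⟩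
  rw [← conj_T]
  exact (h.2 ε hε).conj hk

lemma TV.conj {K : Subgroup (GL ι F)} {x z : ι → F} (h : TV K x z) {k : GL ι F}
    (hk : k ∈ K) :
    TV K ((k : Matrix ι ι F) *ᵥ x) (z ᵥ* ((k⁻¹ : GL ι F) : Matrix ι ι F)) := by
  intro c
  rw [← conj_T]
  exact (h c).conj hk

lemma TV.smul_axis {K : Subgroup (GL ι F)} {x z : ι → F} (h : TV K x z) (a : F) :
    TV K x (a • z) := by
  intro c
  rw [vecMulVec_smul, smul_smul]
  exact h (c * a)

lemma TV.smul_centre {K : Subgroup (GL ι F)} {x z : ι → F} (h : TV K x z) (a : F) :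
    TV K (a • x) z := by
  intro c
  rw [smul_vecMulVec, smul_smul]
  exact h (c * a)

lemma TV.sub_axis {K : Subgroup (GL ι F)} {x z z' : ι → F} (h : TV K x z) (h' : TV K x z')
    (hz : z ⬝ᵥ x = 0) : TV K x (z - z') := by
  intro c
  have := (h c).mul (h' (-c))
  rw [T_mul, hz, mul_zero, zero_smul, add_zero] at this
  convert this using 1
  rw [vecMulVec_sub]
  module

lemma TV.sub_centre {K : Subgroup (GL ι F)} {x x' z : ι → F} (h : TV K x z) (h' : TV K x' z)
    (hz : z ⬝ᵥ x' = 0) : TV K (x - x') z := by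
  intro c
  have := (h c).mul (h' (-c))
  rw [T_mul, hz, mul_zero, zero_smul, add_zero] at this
  convert this using 1
  rw [sub_vecMulVec]
  module

lemma exists_not_mem_of_card (hq : 5 ≤ Fintype.card F) (s : Finset F) (hs : s.card ≤ 4) :
    ∃ a, a ∉ s := by
  classical
  by_contra hcon
  push Not at hcon
  have : s = Finset.univ := Finset.eq_univ_iff_forall.mpr hcon
  rw [this, Finset.card_univ] at hs
  omega

/-- Two pairs with the same centre give transvections. -/
lemma same_centre (hq : 5 ≤ Fintype.card F) {K : Subgroup (GL ι F)} {x y y' : ι → F}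
    (h : IsPair K x y) (h' : IsPair K x y') : TV K x (y - y') := by
  classical
  have key : ∀ c : F, c ≠ -1 → InK K (1 + c • vecMulVec x (y - y')) := by
    intro c hc
    have hε : c + 1 ≠ 0 := fun h0 => hc (by linear_combination h0)
    have := (h.2 (c + 1) hε).mul (h'.2 ((c + 1)⁻¹) (inv_ne_zero hε))
    rw [T_mul, h.1] at this
    convert this using 1
    rw [vecMulVec_sub]
    have e : (c + 1 - 1) * ((c + 1)⁻¹ - 1) * 1 = -c - ((c+1)⁻¹ - 1) := by
      field_simp
      ring
    rw [e]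
    module
  intro c
  by_cases hc : c = -1
  · obtain ⟨a, ha⟩ := exists_not_mem_of_card hq {0, -1} (by
      refine le_trans (Finset.card_insert_le _ _) ?_
      simp)
    simp only [Finset.mem_insert, Finset.mem_singleton, not_or] at ha
    have h1 := key a ha.2
    have h2 := key (c - a) (by rw [hc]; intro h0; exact ha.1 (by linear_combination -h0))
    have hz : (y - y') ⬝ᵥ x = 0 := by rw [sub_dotProduct, h.1, h'.1, sub_self]
    have := h1.mul h2
    rw [T_mul, hz, mul_zero, zero_smul, add_zero] at this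
    convert this using 1
    module
  · exact key c hc

/-- Two pairs with the same axis give transvections. -/
lemma same_axis (hq : 5 ≤ Fintype.card F) {K : Subgroup (GL ι F)} {x x' y : ι → F}
    (h : IsPair K x y) (h' : IsPair K x' y) : TV K (x - x') y := by
  classical
  have key : ∀ c : F, c ≠ -1 → InK K (1 + c • vecMulVec (x - x') y) := by
    intro c hc
    have hε : c + 1 ≠ 0 := fun h0 => hc (by linear_combination h0)
    have := (h'.2 ((c + 1)⁻¹) (inv_ne_zero hε)).mul (h.2 (c + 1) hε)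
    rw [T_mul, h.1] at this
    convert this using 1
    rw [sub_vecMulVec]
    have e : ((c + 1)⁻¹ - 1) * (c + 1 - 1) * 1 = -c - ((c+1)⁻¹ - 1) := by
      field_simp
      ring
    rw [e]
    module
  intro c
  by_cases hc : c = -1
  · obtain ⟨a, ha⟩ := exists_not_mem_of_card hq {0, -1} (by
      refine le_trans (Finset.card_insert_le _ _) ?_
      simp)
    simp only [Finset.mem_insert, Finset.mem_singleton, not_or] at ha
    have h1 := key a ha.2
    have h2 := key (c - a) (by rw [hc]; intro h0; exact ha.1 (by linear_combination -h0))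
    have hz : y ⬝ᵥ (x - x') = 0 := by rw [dotProduct_sub, h.1, h'.1, sub_self]
    have := h1.mul h2
    rw [T_mul, hz, mul_zero, zero_smul, add_zero] at this
    convert this using 1
    module
  · exact key c hc


/-! ### Diagonal elements -/

/-- the diagonal matrix with `a` at `i` and `1` elsewhere, in `GL` -/
def dU (i : ι) (a : F) (ha : a ≠ 0) : GL ι F :=
  monoU 1 (Function.update (fun _ => (1 : F)) i a) (by
    intro j
    by_cases h : j = i
    · subst h; simpa using ha
    · simp [Function.update_of_ne h])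

lemma dU_mem {K : Subgroup (GL ι F)} (hK : monoGL ι F ≤ K) (i : ι) (a : F) (ha : a ≠ 0) :
    dU i a ha ∈ K := hK (monoU_mem _ _ _)

lemma dU_mulVec (i : ι) (a : F) (ha : a ≠ 0) (x : ι → F) :
    ((dU i a ha : GL ι F) : Matrix ι ι F) *ᵥ x = x + ((a - 1) * x i) • Pi.single i 1 := by
  funext r
  rw [dU, monoU_val, mono_mulVec]
  have e : ∀ r, (Equiv.symm (1 : Equiv.Perm ι)) r = r := fun _ => rfl
  simp only [e, Pi.add_apply, Pi.smul_apply, smul_eq_mul]
  by_cases h : r = i
  · subst h; simp; ring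
  · simp [Function.update_of_ne h, Pi.single_eq_of_ne h]

lemma vecMul_dU_inv (i : ι) (a : F) (ha : a ≠ 0) (y : ι → F) :
    y ᵥ* (((dU i a ha)⁻¹ : GL ι F) : Matrix ι ι F) = y + ((a⁻¹ - 1) * y i) • Pi.single i 1 := by
  funext r
  rw [dU, monoU_inv_val, vecMul_mono]
  have e : ∀ r, ((1 : Equiv.Perm ι)⁻¹) r = r := fun _ => rfl
  simp only [e, Pi.add_apply, Pi.smul_apply, smul_eq_mul]
  by_cases h : r = i
  · subst h; simp; ring
  · simp [Function.update_of_ne h, Pi.single_eq_of_ne h]

lemma exists_ne_zero_one (hq : 5 ≤ Fintype.card F) : ∃ a : F, a ≠ 0 ∧ a ≠ 1 := by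
  classical
  obtain ⟨a, ha⟩ := exists_not_mem_of_card hq {0, 1} (by
    refine le_trans (Finset.card_insert_le _ _) ?_
    simp)
  simp only [Finset.mem_insert, Finset.mem_singleton, not_or] at ha
  exact ⟨a, ha.1, ha.2⟩

/-- reduce the centre of a transvection group to a basis vector -/
lemma TV.reduce_centre (hq : 5 ≤ Fintype.card F) {K : Subgroup (GL ι F)}
    (hK : monoGL ι F ≤ K) {x z : ι → F} (h : TV K x z) (hz : z ⬝ᵥ x = 0) {i : ι}
    (hzi : z i = 0) (hxi : x i ≠ 0) : TV K (Pi.single i 1) z := by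
  obtain ⟨a, ha0, ha1⟩ := exists_ne_zero_one hq
  have h1 := h.conj (dU_mem hK i a ha0)
  rw [dU_mulVec, vecMul_dU_inv, hzi, mul_zero, zero_smul, add_zero] at h1
  have h2 := h1.sub_centre h hz
  rw [add_sub_cancel_left] at h2
  have hne : (a - 1) * x i ≠ 0 := mul_ne_zero (sub_ne_zero.mpr ha1) hxi
  have h3 := h2.smul_centre ((a - 1) * x i)⁻¹
  rwa [smul_smul, inv_mul_cancel₀ hne, one_smul] at h3

/-- reduce the axis of a transvection group to a coordinate functional -/
lemma TV.reduce_axis (hq : 5 ≤ Fintype.card F) {K : Subgroup (GL ι F)}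
    (hK : monoGL ι F ≤ K) {x z : ι → F} (h : TV K x z) (hz : z ⬝ᵥ x = 0) {j : ι}
    (hxj : x j = 0) (hzj : z j ≠ 0) : TV K x (Pi.single j 1) := by
  obtain ⟨a, ha0, ha1⟩ := exists_ne_zero_one hq
  have h1 := h.conj (dU_mem hK j a ha0)
  rw [dU_mulVec, vecMul_dU_inv, hxj, mul_zero, zero_smul, add_zero] at h1
  have h2 := h1.sub_axis h (by
    rw [add_dotProduct, hz, smul_dotProduct, single_dotProduct, hxj]; simp)
  rw [add_sub_cancel_left] at h2
  have hne : (a⁻¹ - 1) * z j ≠ 0 :=
    mul_ne_zero (sub_ne_zero.mpr (fun h => ha1 (inv_eq_one.mp h))) hzj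
  have h3 := h2.smul_axis ((a⁻¹ - 1) * z j)⁻¹
  rwa [smul_smul, inv_mul_cancel₀ hne, one_smul] at h3

/-- The goal: all elementary transvections in one off-diagonal position lie in `K`. -/
def Goal (K : Subgroup (GL ι F)) : Prop :=
  ∃ i j : ι, i ≠ j ∧ TV K (Pi.single i 1) (Pi.single j 1)

lemma goal_of_tv (hq : 5 ≤ Fintype.card F) {K : Subgroup (GL ι F)} (hK : monoGL ι F ≤ K)
    {x z : ι → F} (h : TV K x z) (hz : z ⬝ᵥ x = 0) {i j : ι} (hxi : x i ≠ 0) (hzi : z i = 0)
    (hzj : z j ≠ 0) : Goal K := by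
  have hij : i ≠ j := fun h => hzj (h ▸ hzi)
  have h1 := h.reduce_centre hq hK hz hzi hxi
  have h2 := h1.reduce_axis hq hK (by rw [dotProduct_single, mul_one]; exact hzi)
    (by rw [Pi.single_eq_of_ne hij.symm]) hzj
  exact ⟨i, j, hij, h2⟩


lemma IsPair.dconj {K : Subgroup (GL ι F)} (hK : monoGL ι F ≤ K) {x y : ι → F}
    (h : IsPair K x y) (i : ι) (a : F) (ha : a ≠ 0) :
    IsPair K (x + ((a - 1) * x i) • Pi.single i 1) (y + ((a⁻¹ - 1) * y i) • Pi.single i 1) := by
  have := h.conj (dU_mem hK i a ha)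
  rwa [dU_mulVec, vecMul_dU_inv] at this

lemma IsPair.exists_ne_zero_left {K : Subgroup (GL ι F)} {x y : ι → F} (h : IsPair K x y) :
    ∃ i, x i ≠ 0 := by
  by_contra hcon
  push Not at hcon
  have : y ⬝ᵥ x = 0 := by
    rw [dotProduct]
    exact Finset.sum_eq_zero (fun i _ => by rw [hcon i, mul_zero])
  rw [h.1] at this
  exact one_ne_zero this

lemma IsPair.exists_ne_zero_right {K : Subgroup (GL ι F)} {x y : ι → F} (h : IsPair K x y) :
    ∃ i, y i ≠ 0 := by
  by_contra hcon
  push Not at hcon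
  have : y ⬝ᵥ x = 0 := by
    rw [dotProduct]
    exact Finset.sum_eq_zero (fun i _ => by rw [hcon i, zero_mul])
  rw [h.1] at this
  exact one_ne_zero this

/-- Case A: some coordinate where `x` vanishes and `y` does not. -/
lemma caseA (hq : 5 ≤ Fintype.card F) {K : Subgroup (GL ι F)} (hK : monoGL ι F ≤ K)
    {x y : ι → F} (h : IsPair K x y) {j : ι} (hxj : x j = 0) (hyj : y j ≠ 0) : Goal K := by
  obtain ⟨a, ha0, ha1⟩ := exists_ne_zero_one hq
  have h1 := h.dconj hK j a ha0
  rw [hxj, mul_zero, zero_smul, add_zero] at h1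
  have h2 := same_centre hq h h1
  rw [sub_add_cancel_left] at h2
  have hne : (a⁻¹ - 1) * y j ≠ 0 :=
    mul_ne_zero (sub_ne_zero.mpr (fun h => ha1 (inv_eq_one.mp h))) hyj
  have h3 := h2.smul_axis (-((a⁻¹ - 1) * y j))⁻¹
  rw [← neg_smul, smul_smul, inv_mul_cancel₀ (neg_ne_zero.mpr hne), one_smul] at h3
  obtain ⟨i, hi⟩ := h.exists_ne_zero_left
  have hij : i ≠ j := fun h => hi (h ▸ hxj)
  exact goal_of_tv hq hK h3 (by rw [single_dotProduct, one_mul]; exact hxj) hi
    (Pi.single_eq_of_ne hij _) (by rw [Pi.single_eq_same]; exact one_ne_zero)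

/-- Case A': some coordinate where `y` vanishes and `x` does not. -/
lemma caseA' (hq : 5 ≤ Fintype.card F) {K : Subgroup (GL ι F)} (hK : monoGL ι F ≤ K)
    {x y : ι → F} (h : IsPair K x y) {i : ι} (hyi : y i = 0) (hxi : x i ≠ 0) : Goal K := by
  obtain ⟨a, ha0, ha1⟩ := exists_ne_zero_one hq
  have h1 := h.dconj hK i a ha0
  rw [hyi, mul_zero, zero_smul, add_zero] at h1
  have h2 := same_axis hq h1 h
  rw [add_sub_cancel_left] at h2
  have hne : (a - 1) * x i ≠ 0 := mul_ne_zero (sub_ne_zero.mpr ha1) hxi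
  have h3 := h2.smul_centre ((a - 1) * x i)⁻¹
  rw [smul_smul, inv_mul_cancel₀ hne, one_smul] at h3
  obtain ⟨j, hj⟩ := h.exists_ne_zero_right
  exact goal_of_tv hq hK h3 (by rw [dotProduct_single, mul_one]; exact hyi)
    (by rw [Pi.single_eq_same]; exact one_ne_zero) hyi hj

/-! ### The swap element fixing `x` -/

/-- the monomial matrix swapping `e_i`, `e_k` (with scalars) and fixing `x` -/
def swU (x : ι → F) (i k : ι) (hxi : x i ≠ 0) (hxk : x k ≠ 0) : GL ι F :=
  monoU (Equiv.swap i k)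
    (Function.update (Function.update (fun _ => (1 : F)) i (x k / x i)) k (x i / x k)) (by
    intro j
    by_cases h : j = k
    · subst h; simpa using div_ne_zero hxi hxk
    · rw [Function.update_of_ne h]
      by_cases h' : j = i
      · subst h'; simpa using div_ne_zero hxk hxi
      · rw [Function.update_of_ne h']; exact one_ne_zero)

lemma swU_mulVec (x : ι → F) {i k : ι} (hik : i ≠ k) (hxi : x i ≠ 0) (hxk : x k ≠ 0) :
    ((swU x i k hxi hxk : GL ι F) : Matrix ι ι F) *ᵥ x = x := by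
  funext r
  rw [swU, monoU_val, mono_mulVec, Equiv.symm_swap]
  by_cases h : r = i
  · subst h
    rw [Equiv.swap_apply_left, Function.update_self]
    field_simp
  · by_cases h' : r = k
    · subst h'
      rw [Equiv.swap_apply_right, Function.update_of_ne hik, Function.update_self]
      field_simp
    · rw [Equiv.swap_apply_of_ne_of_ne h h', Function.update_of_ne h', Function.update_of_ne h,
        one_mul]

lemma swU_inv_mulVec (x : ι → F) {i k : ι} (hik : i ≠ k) (hxi : x i ≠ 0) (hxk : x k ≠ 0) :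
    (((swU x i k hxi hxk)⁻¹ : GL ι F) : Matrix ι ι F) *ᵥ x = x := by
  have := inv_mulVec_mulVec (swU x i k hxi hxk) x
  rwa [swU_mulVec x hik hxi hxk] at this

lemma vecMul_swU (x z : ι → F) {i k : ι} (hik : i ≠ k) (hxi : x i ≠ 0) (hxk : x k ≠ 0) (r : ι) :
    (z ᵥ* ((swU x i k hxi hxk : GL ι F) : Matrix ι ι F)) r =
      if r = i then z k * (x k / x i) else if r = k then z i * (x i / x k) else z r := by
  rw [swU, monoU_val, vecMul_mono]
  by_cases h : r = i
  · subst h
    rw [Equiv.swap_apply_left, if_pos rfl, Function.update_of_ne hik, Function.update_self]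
  · by_cases h' : r = k
    · subst h'
      rw [Equiv.swap_apply_right, if_neg h, if_pos rfl, Function.update_self]
    · rw [Equiv.swap_apply_of_ne_of_ne h h', if_neg h, if_neg h', Function.update_of_ne h',
        Function.update_of_ne h, mul_one]

lemma swU_mem {K : Subgroup (GL ι F)} (hK : monoGL ι F ≤ K) (x : ι → F) (i k : ι)
    (hxi : x i ≠ 0) (hxk : x k ≠ 0) : swU x i k hxi hxk ∈ K := hK (monoU_mem _ _ _)

/-- swap trick for transvection groups -/
lemma swp_tv (hq : 5 ≤ Fintype.card F) {K : Subgroup (GL ι F)} (hK : monoGL ι F ≤ K)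
    {x z : ι → F} (h : TV K x z) (hz : z ⬝ᵥ x = 0) {i k l : ι} (hik : i ≠ k) (hli : l ≠ i)
    (hlk : l ≠ k) (hxi : x i ≠ 0) (hxk : x k ≠ 0) (hxl : x l ≠ 0)
    (hne : z i * x i ≠ z k * x k) : Goal K := by
  have h1 := h.conj (K.inv_mem (swU_mem hK x i k hxi hxk))
  rw [swU_inv_mulVec x hik hxi hxk, inv_inv] at h1
  have h2 := h.sub_axis h1 hz
  have hz' : (z - z ᵥ* ((swU x i k hxi hxk : GL ι F) : Matrix ι ι F)) ⬝ᵥ x = 0 := by
    rw [sub_dotProduct, ← dotProduct_mulVec, swU_mulVec x hik hxi hxk, hz, sub_zero]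
  refine goal_of_tv hq hK h2 hz' hxl ?_ (j := i) ?_
  · rw [Pi.sub_apply, vecMul_swU x z hik hxi hxk, if_neg hli, if_neg hlk, sub_self]
  · rw [Pi.sub_apply, vecMul_swU x z hik hxi hxk, if_pos rfl]
    intro h0
    apply hne
    field_simp at h0
    linear_combination h0

/-- swap trick for pairs -/
lemma swp_pair (hq : 5 ≤ Fintype.card F) {K : Subgroup (GL ι F)} (hK : monoGL ι F ≤ K)
    {x y : ι → F} (h : IsPair K x y) {i k l : ι} (hik : i ≠ k) (hli : l ≠ i)
    (hlk : l ≠ k) (hxi : x i ≠ 0) (hxk : x k ≠ 0) (hxl : x l ≠ 0)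
    (hne : y i * x i ≠ y k * x k) : Goal K := by
  have h1 := h.conj (K.inv_mem (swU_mem hK x i k hxi hxk))
  rw [swU_inv_mulVec x hik hxi hxk, inv_inv] at h1
  have h2 := same_centre hq h h1
  have hz' : (y - y ᵥ* ((swU x i k hxi hxk : GL ι F) : Matrix ι ι F)) ⬝ᵥ x = 0 := by
    rw [sub_dotProduct, ← dotProduct_mulVec, swU_mulVec x hik hxi hxk, h.1, sub_self]
  refine goal_of_tv hq hK h2 hz' hxl ?_ (j := i) ?_
  · rw [Pi.sub_apply, vecMul_swU x y hik hxi hxk, if_neg hli, if_neg hlk, sub_self]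
  · rw [Pi.sub_apply, vecMul_swU x y hik hxi hxk, if_pos rfl]
    intro h0
    apply hne
    field_simp at h0
    linear_combination h0


lemma psr_mulVec (a : F) (x2 y2 x : ι → F) :
    (1 + a • vecMulVec x2 y2) *ᵥ x = x + (a * (y2 ⬝ᵥ x)) • x2 := by
  rw [add_mulVec, one_mulVec, smul_mulVec, vecMulVec_mulVec, op_smul_eq_smul, smul_smul]

lemma vecMul_psr (a : F) (x2 y2 y : ι → F) :
    y ᵥ* (1 + a • vecMulVec x2 y2) = y + (a * (y ⬝ᵥ x2)) • y2 := by
  rw [vecMul_add, vecMul_one, vecMul_smul, vecMul_vecMulVec, smul_smul]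

/-- core of case C: a second pair with `y2(x) = 0 ≠ y(x2)` -/
lemma caseC_core (hq : 5 ≤ Fintype.card F) {K : Subgroup (GL ι F)} (hK : monoGL ι F ≤ K)
    {x y x2 y2 : ι → F} (h : IsPair K x y) (h2 : IsPair K x2 y2) (h0 : y2 ⬝ᵥ x = 0)
    (h1 : y ⬝ᵥ x2 ≠ 0) {i k l : ι} (hik : i ≠ k) (hli : l ≠ i)
    (hlk : l ≠ k) (hxi : x i ≠ 0) (hxk : x k ≠ 0) (hxl : x l ≠ 0)
    (hne : y2 i * x i ≠ y2 k * x k) : Goal K := by
  obtain ⟨a, ha0, ha1⟩ := exists_ne_zero_one hq
  obtain ⟨u, hu, huv⟩ := h2.2 a ha0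
  have hux : (u : Matrix ι ι F) *ᵥ x = x := by
    rw [huv, psr_mulVec, h0, mul_zero, zero_smul, add_zero]
  have huix : ((u⁻¹ : GL ι F) : Matrix ι ι F) *ᵥ x = x := by
    have := inv_mulVec_mulVec u x
    rwa [hux] at this
  have hp := h.conj (K.inv_mem hu)
  rw [huix, inv_inv, huv, vecMul_psr] at hp
  have h3 := same_centre hq h hp
  rw [sub_add_cancel_left] at h3
  have hne' : (a - 1) * (y ⬝ᵥ x2) ≠ 0 := mul_ne_zero (sub_ne_zero.mpr ha1) h1
  have h4 := h3.smul_axis (-((a - 1) * (y ⬝ᵥ x2)))⁻¹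
  rw [← neg_smul, smul_smul, inv_mul_cancel₀ (neg_ne_zero.mpr hne'), one_smul] at h4
  exact swp_tv hq hK h4 h0 hik hli hlk hxi hxk hxl hne


lemma exists_good_a (hq : 5 ≤ Fintype.card F) (τ : F) :
    ∃ a : F, a ≠ 0 ∧ a ≠ τ ∧ a * (τ - a) ≠ 1 := by
  classical
  set P : Polynomial F := Polynomial.X ^ 2 - Polynomial.C τ * Polynomial.X + 1 with hP
  have hP0 : P ≠ 0 := by
    intro h
    have := congrArg (fun p => Polynomial.coeff p 0) h
    simp [hP] at this
  have hdeg : P.natDegree ≤ 2 := by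
    rw [hP]; compute_degree
  have hcard : P.roots.toFinset.card ≤ 2 :=
    le_trans (Multiset.toFinset_card_le _) (le_trans (Polynomial.card_roots' P) hdeg)
  obtain ⟨a, ha⟩ := exists_not_mem_of_card hq (insert 0 (insert τ P.roots.toFinset)) (by
    refine le_trans (Finset.card_insert_le _ _) ?_
    refine Nat.succ_le_succ (le_trans (Finset.card_insert_le _ _) ?_)
    omega)
  simp only [Finset.mem_insert, Multiset.mem_toFinset, not_or] at ha
  refine ⟨a, ha.1, ha.2.1, fun h => ha.2.2 ?_⟩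
  rw [Polynomial.mem_roots hP0, Polynomial.IsRoot, hP]
  simp only [Polynomial.eval_add, Polynomial.eval_sub, Polynomial.eval_pow, Polynomial.eval_X,
    Polynomial.eval_mul, Polynomial.eval_C, Polynomial.eval_one]
  linear_combination -h

/-- Case C: `y r * x r` is constant on the support of `x`, which has at least three points. -/
lemma caseC (hq : 5 ≤ Fintype.card F) {K : Subgroup (GL ι F)} (hK : monoGL ι F ≤ K)
    {x y : ι → F} (h : IsPair K x y) {i k l : ι} (hik : i ≠ k) (hli : l ≠ i)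
    (hlk : l ≠ k) (hxi : x i ≠ 0) (hxk : x k ≠ 0) (hxl : x l ≠ 0)
    (hconst : ∀ r, x r ≠ 0 → y r * x r = y i * x i) : Goal K := by
  classical
  set w0 := y i * x i with hw0def
  set S := Finset.univ.filter (fun r => x r ≠ 0) with hS
  have hsum : (S.card : F) * w0 = 1 := by
    have e1 : y ⬝ᵥ x = ∑ r ∈ S, y r * x r := by
      rw [dotProduct, hS, Finset.sum_filter_of_ne]
      intro r _ hr
      exact right_ne_zero_of_mul hr
    rw [h.1] at e1
    rw [e1, Finset.sum_congr rfl (fun r hr => hconst r (Finset.mem_filter.mp hr).2),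
      Finset.sum_const, nsmul_eq_mul]
  have hw0 : w0 ≠ 0 := right_ne_zero_of_mul (by rw [hsum]; exact one_ne_zero)
  have hwk : y k * x k = w0 := hconst k hxk
  have hwl : y l * x l = w0 := hconst l hxl
  by_cases hs2 : (S.card : F) = 2
  · -- sub-case B
    have h2w : (2 : F) * w0 = 1 := by rw [← hs2]; exact hsum
    have h20 : (2 : F) ≠ 0 := left_ne_zero_of_mul (by rw [h2w]; exact one_ne_zero)
    -- a fourth support point
    have hcard : 4 ≤ S.card := by
      have hsub : ({i, k, l} : Finset ι) ⊆ S := by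
        intro r hr
        simp only [Finset.mem_insert, Finset.mem_singleton] at hr
        rw [hS, Finset.mem_filter]
        rcases hr with rfl | rfl | rfl
        · exact ⟨Finset.mem_univ _, hxi⟩
        · exact ⟨Finset.mem_univ _, hxk⟩
        · exact ⟨Finset.mem_univ _, hxl⟩
      have h3 : ({i, k, l} : Finset ι).card = 3 := by
        rw [Finset.card_insert_of_notMem, Finset.card_insert_of_notMem, Finset.card_singleton]
        · simpa using hlk.symm
        · simp only [Finset.mem_insert, Finset.mem_singleton, not_or]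
          exact ⟨hik, hli.symm⟩
      have h3' : 3 ≤ S.card := h3 ▸ Finset.card_le_card hsub
      by_contra hlt
      have : S.card = 3 := by omega
      rw [this] at hs2
      have : (1 : F) = 0 := by linear_combination hs2
      exact one_ne_zero this
    obtain ⟨m, hmS, hmn⟩ : ∃ m ∈ S, m ∉ ({i, k, l} : Finset ι) := by
      by_contra hcon
      push Not at hcon
      have : S ⊆ ({i, k, l} : Finset ι) := fun r hr => hcon r hr
      have := Finset.card_le_card this
      have h3 : ({i, k, l} : Finset ι).card ≤ 3 := Finset.card_le_three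
      omega
    simp only [Finset.mem_insert, Finset.mem_singleton, not_or] at hmn
    obtain ⟨hmi', hmk', hml'⟩ := hmn
    have hmi : m ≠ i := hmi'
    have hmk : m ≠ k := hmk'
    have hml : m ≠ l := hml'
    have hxm : x m ≠ 0 := (Finset.mem_filter.mp hmS).2
    have hwm : y m * x m = w0 := hconst m hxm
    obtain ⟨c, hc⟩ := exists_not_mem_of_card hq {0, 1, 2} (by
      refine le_trans (Finset.card_insert_le _ _) ?_
      refine Nat.succ_le_succ (le_trans (Finset.card_insert_le _ _) ?_)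
      simp)
    simp only [Finset.mem_insert, Finset.mem_singleton, not_or] at hc
    obtain ⟨hc0, hc1, hc2⟩ := hc
    have hc2' : (2 : F) - c ≠ 0 := fun h0 => hc2 (by linear_combination -h0)
    have hm1 : (-1 : F) ≠ 0 := neg_ne_zero.mpr one_ne_zero
    have p1 := h.dconj hK k (-1) hm1
    have p2 := p1.dconj hK l c⁻¹ (inv_ne_zero hc0)
    have p3 := p2.dconj hK m (2 - c)⁻¹ (inv_ne_zero hc2')
    simp only [Pi.add_apply, Pi.smul_apply, smul_eq_mul, Pi.single_eq_of_ne hlk,
      Pi.single_eq_of_ne hmk, Pi.single_eq_of_ne hml, mul_zero, add_zero, inv_inv,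
      inv_neg_one] at p3
    refine caseC_core hq hK h p3 ?_ ?_ hik hli hlk hxi hxk hxl ?_
    · simp only [add_dotProduct, smul_dotProduct, single_dotProduct, one_mul, smul_eq_mul, h.1]
      linear_combination (-2 : F) * hwk + (c - 1) * hwl + (2 - c - 1) * hwm - h2w
    · simp only [dotProduct_add, dotProduct_smul, dotProduct_single, mul_one, smul_eq_mul, h.1]
      intro h0
      have e : (1 : F) + (-1 - 1) * w0 + (c⁻¹ - 1) * w0 + ((2 - c)⁻¹ - 1) * w0 = 0 := by
        linear_combination h0 - (-1 - 1 : F) * hwk - (c⁻¹ - 1) * hwl - ((2 - c)⁻¹ - 1) * hwm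
      have e2 : (c - 1) ^ 2 = 0 := by
        have hw : w0 = 2⁻¹ := by
          field_simp
          linear_combination h2w
        rw [hw] at e
        field_simp at e
        have e3 : (2 : F) * (c - 1) ^ 2 = 0 := by linear_combination e
        exact (mul_eq_zero.mp e3).resolve_left h20
      exact hc1 (by
        have := pow_eq_zero_iff (n := 2) (by norm_num) |>.mp e2
        linear_combination this)
    · simp only [Pi.add_apply, Pi.smul_apply, smul_eq_mul, Pi.single_eq_of_ne hik,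
        Pi.single_eq_of_ne hli.symm, Pi.single_eq_of_ne hmi.symm, Pi.single_eq_same,
        Pi.single_eq_of_ne hlk.symm, Pi.single_eq_of_ne hmk.symm, mul_zero, add_zero, mul_one]
      intro h0
      have : (2 : F) * w0 = 0 := by
        linear_combination h0 + (-1 : F) * hwk
      rw [h2w] at this
      exact one_ne_zero this
  · -- sub-case A
    set τ : F := 2 - (S.card : F) with hτ
    have hτ0 : τ ≠ 0 := fun h0 => hs2 (by rw [hτ] at h0; linear_combination -h0)
    obtain ⟨a, ha0, haτ, hac⟩ := exists_good_a hq τ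
    set c : F := τ - a with hc
    have hc0 : c ≠ 0 := fun h0 => haτ (by rw [hc] at h0; linear_combination -h0)
    have p1 := h.dconj hK i a⁻¹ (inv_ne_zero ha0)
    have p2 := p1.dconj hK l c⁻¹ (inv_ne_zero hc0)
    simp only [Pi.add_apply, Pi.smul_apply, smul_eq_mul, Pi.single_eq_of_ne hli, mul_zero,
      add_zero, inv_inv] at p2
    have h0 : (y + ((a - 1) * y i) • Pi.single i 1 + ((c - 1) * y l) • Pi.single l 1) ⬝ᵥ x
        = 0 := by
      simp only [add_dotProduct, smul_dotProduct, single_dotProduct, one_mul, smul_eq_mul, h.1]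
      linear_combination (c - 1) * hwl - hsum
    have h1 : y ⬝ᵥ (x + ((a⁻¹ - 1) * x i) • Pi.single i 1 + ((c⁻¹ - 1) * x l) • Pi.single l 1)
        ≠ 0 := by
      simp only [dotProduct_add, dotProduct_smul, dotProduct_single, mul_one, smul_eq_mul, h.1]
      intro h0
      have e : (1 : F) + (a⁻¹ - 1) * w0 + (c⁻¹ - 1) * w0 = 0 := by
        linear_combination h0 - (c⁻¹ - 1) * hwl
      have e2 : τ * (1 - a * c) = 0 := by
        have haa : a * a⁻¹ = 1 := mul_inv_cancel₀ ha0
        have hcc : c * c⁻¹ = 1 := mul_inv_cancel₀ hc0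
        have hac' : a + c = τ := by rw [hc]; ring
        linear_combination (a * c * (S.card : F)) * e - (c * (S.card : F) * w0) * haa
          - (a * (S.card : F) * w0) * hcc + (2 * a * c - a - c) * hsum
          + (1 - a * c) * hac' + (a * c) * hτ
      rcases mul_eq_zero.mp e2 with h3 | h3
      · exact hτ0 h3
      · exact hac (by rw [hc] at h3; linear_combination -h3)
    by_cases ha1 : a = 1
    · -- then c ≠ 1
      have hc1 : c ≠ 1 := by
        intro hc1
        have : (S.card : F) = 0 := by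
          rw [hc, ha1, hτ] at hc1
          linear_combination -hc1
        rw [this, zero_mul] at hsum
        exact zero_ne_one hsum
      refine caseC_core hq hK h p2 h0 h1 hlk hli.symm hik hxl hxk hxi ?_
      simp only [Pi.add_apply, Pi.smul_apply, smul_eq_mul, Pi.single_eq_of_ne hli,
        Pi.single_eq_of_ne hik.symm, Pi.single_eq_of_ne hlk.symm, Pi.single_eq_same,
        mul_zero, add_zero, mul_one]
      intro h3
      apply hc1
      have : (c - 1) * w0 = 0 := by linear_combination h3 - (c) * hwl + hwk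
      rcases mul_eq_zero.mp this with h4 | h4
      · linear_combination h4
      · exact absurd h4 hw0
    · refine caseC_core hq hK h p2 h0 h1 hik hli hlk hxi hxk hxl ?_
      simp only [Pi.add_apply, Pi.smul_apply, smul_eq_mul, Pi.single_eq_of_ne hli.symm,
        Pi.single_eq_of_ne hik.symm, Pi.single_eq_of_ne hlk.symm, Pi.single_eq_same,
        mul_zero, add_zero, mul_one]
      intro h3
      apply ha1
      have : (a - 1) * w0 = 0 := by linear_combination h3 + hwk
      rcases mul_eq_zero.mp this with h4 | h4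
      · linear_combination h4
      · exact absurd h4 hw0


/-- A pair whose centre has at least three nonzero coordinates yields the goal. -/
lemma main3 (hq : 5 ≤ Fintype.card F) {K : Subgroup (GL ι F)} (hK : monoGL ι F ≤ K)
    {x y : ι → F} (h : IsPair K x y) {i k l : ι} (hik : i ≠ k) (hli : l ≠ i)
    (hlk : l ≠ k) (hxi : x i ≠ 0) (hxk : x k ≠ 0) (hxl : x l ≠ 0) : Goal K := by
  by_cases hA : ∃ j, x j = 0 ∧ y j ≠ 0
  · obtain ⟨j, h1, h2⟩ := hA
    exact caseA hq hK h h1 h2
  by_cases hA' : ∃ j, y j = 0 ∧ x j ≠ 0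
  · obtain ⟨j, h1, h2⟩ := hA'
    exact caseA' hq hK h h1 h2
  by_cases hw : ∃ a b, x a ≠ 0 ∧ x b ≠ 0 ∧ y a * x a ≠ y b * x b
  · obtain ⟨a, b, ha, hb, hab⟩ := hw
    have hab' : a ≠ b := by
      intro e
      apply hab
      rw [e]
    have hc : ∃ c, c ≠ a ∧ c ≠ b ∧ x c ≠ 0 := by
      by_cases h1 : i ≠ a ∧ i ≠ b
      · exact ⟨i, h1.1, h1.2, hxi⟩
      by_cases h2 : k ≠ a ∧ k ≠ b
      · exact ⟨k, h2.1, h2.2, hxk⟩
      refine ⟨l, ?_, ?_, hxl⟩
      · intro e
        subst e
        rw [not_and_or, not_not, not_not] at h1 h2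
        rcases h1 with h1 | h1 <;> rcases h2 with h2 | h2
        · exact hli h1.symm
        · exact hli h1.symm
        · exact hlk h2.symm
        · exact hik (h1.trans h2.symm)
      · intro e
        subst e
        rw [not_and_or, not_not, not_not] at h1 h2
        rcases h1 with h1 | h1 <;> rcases h2 with h2 | h2
        · exact hik (h1.trans h2.symm)
        · exact hlk h2.symm
        · exact hli h1.symm
        · exact hli h1.symm
    obtain ⟨c, hca, hcb, hxc⟩ := hc
    exact swp_pair hq hK h hab' hca hcb ha hb hxc hab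
  · push Not at hw
    exact caseC hq hK h hik hli hlk hxi hxk hxl (fun r hr => hw r i hr hxi)

lemma psr_inv_val {u : GL ι F} {a : F} (ha : a ≠ 0) {x y : ι → F} (hxy : y ⬝ᵥ x = 1)
    (hu : (u : Matrix ι ι F) = 1 + (a - 1) • vecMulVec x y) :
    ((u⁻¹ : GL ι F) : Matrix ι ι F) = 1 + (a⁻¹ - 1) • vecMulVec x y := by
  apply Units.inv_eq_of_mul_eq_one_right
  rw [hu, T_mul, hxy]
  have e : (a - 1) * (a⁻¹ - 1) * 1 = -(a - 1) - (a⁻¹ - 1) := by
    field_simp
    ring
  rw [e]
  module

/-- the permutation matrix of a transposition -/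
def trU (k l : ι) : GL ι F := monoU (Equiv.swap k l) (fun _ => (1 : F)) (fun _ => one_ne_zero)

lemma trU_mulVec (k l : ι) (x : ι → F) (r : ι) :
    (((trU k l : GL ι F) : Matrix ι ι F) *ᵥ x) r = x (Equiv.swap k l r) := by
  rw [trU, monoU_val, mono_mulVec, Equiv.symm_swap, one_mul]

lemma vecMul_trU_inv (k l : ι) (y : ι → F) (r : ι) :
    (y ᵥ* (((trU k l)⁻¹ : GL ι F) : Matrix ι ι F)) r = y (Equiv.swap k l r) := by
  rw [trU, monoU_inv_val, vecMul_mono, Equiv.swap_inv, inv_one, mul_one]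

/-- extension step: a pair supported on two coordinates -/
lemma ext2 (hq : 5 ≤ Fintype.card F) {K : Subgroup (GL ι F)} (hK : monoGL ι F ≤ K)
    {x y : ι → F} (h : IsPair K x y) {i k l : ι} (hik : i ≠ k) (hli : l ≠ i)
    (hlk : l ≠ k) (hxi : x i ≠ 0) (hxk : x k ≠ 0)
    (hsupp : ∀ r, r ≠ i → r ≠ k → x r = 0 ∧ y r = 0) : Goal K := by
  classical
  by_cases hyi : y i = 0
  · exact caseA' hq hK h hyi hxi
  have hw : y i * x i ≠ 0 := mul_ne_zero hyi hxi
  set w := y i * x i with hwdef
  have hP : trU k l ∈ K := hK (monoU_mem _ _ _)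
  have p1 := h.conj hP
  set x' := ((trU k l : GL ι F) : Matrix ι ι F) *ᵥ x with hx'
  set y' := y ᵥ* (((trU k l)⁻¹ : GL ι F) : Matrix ι ι F) with hy'
  have hx'r : ∀ r, x' r = x (Equiv.swap k l r) := fun r => trU_mulVec k l x r
  have hy'r : ∀ r, y' r = y (Equiv.swap k l r) := fun r => vecMul_trU_inv k l y r
  have hxl : x l = 0 := (hsupp l hli hlk).1
  have hyl : y l = 0 := (hsupp l hli hlk).2
  have d1 : y' ⬝ᵥ x = w := by
    rw [dotProduct, Finset.sum_eq_single i]
    · rw [hy'r, Equiv.swap_apply_of_ne_of_ne hik hli.symm]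
    · intro r _ hr
      by_cases hrk : r = k
      · rw [hrk, hy'r, Equiv.swap_apply_left, hyl, zero_mul]
      · rw [(hsupp r hr hrk).1, mul_zero]
    · intro h0; exact absurd (Finset.mem_univ _) h0
  have d2 : y ⬝ᵥ x' = w := by
    rw [dotProduct, Finset.sum_eq_single i]
    · rw [hx'r, Equiv.swap_apply_of_ne_of_ne hik hli.symm]
    · intro r _ hr
      by_cases hrk : r = k
      · rw [hrk, hx'r, Equiv.swap_apply_left, hxl, mul_zero]
      · rw [(hsupp r hr hrk).2, zero_mul]
    · intro h0; exact absurd (Finset.mem_univ _) h0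
  obtain ⟨a, ha⟩ := exists_not_mem_of_card hq {0, 1, 1 - w⁻¹} (by
    refine le_trans (Finset.card_insert_le _ _) ?_
    refine Nat.succ_le_succ (le_trans (Finset.card_insert_le _ _) ?_)
    simp)
  simp only [Finset.mem_insert, Finset.mem_singleton, not_or] at ha
  obtain ⟨ha0, ha1, ha2⟩ := ha
  have hne : 1 + (a - 1) * w ≠ 0 := by
    intro h0
    apply ha2
    field_simp
    linear_combination h0
  obtain ⟨u, hu, huv⟩ := p1.2 a ha0
  have p2 := h.conj hu
  rw [psr_inv_val ha0 p1.1 huv, huv, psr_mulVec, vecMul_psr, d1, d2] at p2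
  refine main3 hq hK p2 hik hli hlk ?_ ?_ ?_
  · rw [Pi.add_apply, Pi.smul_apply, hx'r, Equiv.swap_apply_of_ne_of_ne hik hli.symm,
      smul_eq_mul]
    intro h0
    apply hne
    have : x i * (1 + (a - 1) * w) = 0 := by linear_combination h0
    exact (mul_eq_zero.mp this).resolve_left hxi
  · rw [Pi.add_apply, Pi.smul_apply, hx'r, Equiv.swap_apply_left, hxl, smul_zero, add_zero]
    exact hxk
  · rw [Pi.add_apply, Pi.smul_apply, hx'r, Equiv.swap_apply_right, hxl, zero_add, smul_eq_mul]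
    exact mul_ne_zero (mul_ne_zero (sub_ne_zero.mpr ha1) hw) hxk

lemma basic_pair {K : Subgroup (GL ι F)} (hK : monoGL ι F ≤ K) (j : ι) :
    IsPair K (Pi.single j 1) (Pi.single j 1) := by
  refine ⟨by rw [single_dotProduct, one_mul, Pi.single_eq_same], fun ε hε => ?_⟩
  refine ⟨dU j ε hε, dU_mem hK j ε hε, ?_⟩
  rw [dU, monoU_val, mono_one_eq_diagonal]
  ext r c
  rw [Matrix.add_apply, Matrix.smul_apply, vecMulVec_apply, diagonal_apply, Matrix.one_apply]
  by_cases hrc : r = c
  · subst hrc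
    by_cases hrj : r = j
    · subst hrj; simp
    · simp [Function.update_of_ne hrj, Pi.single_eq_of_ne hrj]
  · rw [if_neg hrc, if_neg hrc]
    by_cases hrj : r = j
    · subst hrj
      simp [Pi.single_eq_of_ne (Ne.symm hrc)]
    · simp [Pi.single_eq_of_ne hrj]

/-- **The GL-lemma.** -/
theorem monoG (hq : 5 ≤ Fintype.card F) (h3 : 3 ≤ Fintype.card ι) {K : Subgroup (GL ι F)}
    (hK : monoGL ι F ≤ K) {g : GL ι F} (hg : g ∈ K) (hgM : g ∉ monoGL ι F) : Goal K := by
  classical
  rw [mem_monoGL, IsMono] at hgM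
  push Not at hgM
  obtain ⟨j, i, i', hi, hi', hii⟩ := hgM
  have p := (basic_pair hK j).conj hg
  set x := (g : Matrix ι ι F) *ᵥ Pi.single j 1 with hx
  set y := Pi.single j 1 ᵥ* ((g⁻¹ : GL ι F) : Matrix ι ι F) with hy
  have hxr : ∀ r, x r = (g : Matrix ι ι F) r j := fun r => by
    rw [hx, mulVec_single_one]; rfl
  have hxi : x i ≠ 0 := by rw [hxr]; exact hi
  have hxi' : x i' ≠ 0 := by rw [hxr]; exact hi'
  by_cases h1 : ∃ l, l ≠ i ∧ l ≠ i' ∧ x l ≠ 0
  · obtain ⟨l, hli, hli', hxl⟩ := h1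
    exact main3 hq hK p hii hli hli' hxi hxi' hxl
  push Not at h1
  by_cases h2 : ∃ l, l ≠ i ∧ l ≠ i' ∧ y l ≠ 0
  · obtain ⟨l, hli, hli', hyl⟩ := h2
    exact caseA hq hK p (h1 l hli hli') hyl
  push Not at h2
  obtain ⟨l, hl⟩ : ∃ l, l ∉ ({i, i'} : Finset ι) := by
    by_contra hcon
    push Not at hcon
    have : (Finset.univ : Finset ι) ⊆ {i, i'} := fun r _ => hcon r
    have := Finset.card_le_card this
    rw [Finset.card_univ] at this
    have : ({i, i'} : Finset ι).card ≤ 2 := Finset.card_le_two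
    omega
  simp only [Finset.mem_insert, Finset.mem_singleton, not_or] at hl
  exact ext2 hq hK p hii hl.1 hl.2 hxi hxi' (fun r hr hr' => ⟨h1 r hr hr', h2 r hr hr'⟩)

/-- The goal in terms of `Matrix.single`. -/
lemma Goal.exists_single {K : Subgroup (GL ι F)} (h : Goal K) :
    ∃ i j : ι, i ≠ j ∧ ∀ c : F, ∃ u ∈ K, (u : Matrix ι ι F) = 1 + Matrix.single i j c := by
  obtain ⟨i, j, hij, h⟩ := h
  refine ⟨i, j, hij, fun c => ?_⟩
  obtain ⟨u, hu, huv⟩ := h c
  refine ⟨u, hu, ?_⟩
  rw [huv, ← Matrix.single_eq_single_vecMulVec_single, Matrix.smul_single, smul_eq_mul, mul_one]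

end Cfsg.Agent.Lib.Helper98_MonoG
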