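import Mathlib
import Cfsg.Agent.Lib.Helper98_MonoBase
import Cfsg.Agent.Lib.Helper98_MonoG

set_option autoImplicit false
set_option linter.unusedSectionVars false
set_option linter.unusedSimpArgs false
set_option linter.unusedVariables false
set_option linter.style.haveILetI false

/-!
Overgroups of the monomial subgroup of `SL`: a subgroup `K` of `GL ι F` all of whose elements have
determinant one, which contains all monomial matrices of determinant one and no elementary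
transvection, consists of monomial matrices (`|F| ≥ 5`, `|ι| ≥ 13`).
-/

namespace Cfsg.Agent.Lib.Helper98_MonoSL

open Matrix Cfsg.Agent.Lib.Helper98_MonoBase Cfsg.Agent.Lib.Helper98_MonoG

variable {F : Type*} [Field F] [Fintype F] {ι : Type*} [Fintype ι] [DecidableEq ι]

/-- The standing hypothesis on `K`. -/
structure Hyp (K : Subgroup (GL ι F)) : Prop where
  det_one : ∀ g ∈ K, (g : Matrix ι ι F).det = 1
  mono_mem : ∀ g ∈ monoGL ι F, (g : Matrix ι ι F).det = 1 → g ∈ K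
  no_elem : ∀ i j : ι, i ≠ j → ∀ c : F, c ≠ 0 → ¬ InK K (1 + Matrix.single i j c)

/-! ### diagonal elements -/

/-- diagonal unit -/
def diagU (δ : ι → F) (hδ : ∀ i, δ i ≠ 0) : GL ι F := monoU 1 δ hδ

lemma diagU_val (δ : ι → F) (hδ : ∀ i, δ i ≠ 0) :
    ((diagU δ hδ : GL ι F) : Matrix ι ι F) = diagonal δ := by
  rw [diagU, monoU_val, mono_one_eq_diagonal]

lemma diagU_inv_val (δ : ι → F) (hδ : ∀ i, δ i ≠ 0) :
    (((diagU δ hδ)⁻¹ : GL ι F) : Matrix ι ι F) = diagonal (fun i => (δ i)⁻¹) := by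
  rw [diagU, monoU_inv_val]
  have : (1 : Equiv.Perm ι)⁻¹ = 1 := inv_one
  rw [this, mono_one_eq_diagonal]
  rfl

lemma diagU_inv (δ : ι → F) (hδ : ∀ i, δ i ≠ 0) :
    (diagU δ hδ)⁻¹ = diagU (fun i => (δ i)⁻¹) (fun i => inv_ne_zero (hδ i)) := by
  apply Units.ext
  rw [diagU_inv_val, diagU_val]

lemma diagU_mem {K : Subgroup (GL ι F)} (hK : Hyp K) (δ : ι → F) (hδ : ∀ i, δ i ≠ 0)
    (h : ∏ i, δ i = 1) : diagU δ hδ ∈ K := by
  apply hK.mono_mem _ (monoU_mem _ _ _)
  rw [monoU_val, mono_one_eq_diagonal, det_diagonal, h]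

/-- `a` at `i`, `a⁻¹` at `j`, `1` elsewhere -/
def tδ (i j : ι) (a : F) : ι → F := fun l => if l = i then a else if l = j then a⁻¹ else 1

lemma tδ_left (i j : ι) (a : F) : tδ i j a i = a := by simp [tδ]

lemma tδ_right {i j : ι} (hij : i ≠ j) (a : F) : tδ i j a j = a⁻¹ := by
  simp [tδ, hij.symm]

lemma tδ_of_ne {i j l : ι} (a : F) (hi : l ≠ i) (hj : l ≠ j) : tδ i j a l = 1 := by
  simp [tδ, hi, hj]

lemma tδ_ne_zero (i j : ι) {a : F} (ha : a ≠ 0) (l : ι) : tδ i j a l ≠ 0 := by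
  unfold tδ
  split_ifs
  · exact ha
  · exact inv_ne_zero ha
  · exact one_ne_zero

lemma prod_tδ {i j : ι} (hij : i ≠ j) {a : F} (ha : a ≠ 0) : ∏ l, tδ i j a l = 1 := by
  rw [Finset.prod_eq_mul i j hij (fun c _ hc => tδ_of_ne a hc.1 hc.2)
    (fun h => absurd (Finset.mem_univ _) h) (fun h => absurd (Finset.mem_univ _) h),
    tδ_left, tδ_right hij, mul_inv_cancel₀ ha]

/-- the diagonal element with `a` at `i`, `a⁻¹` at `j` -/
def tD (i j : ι) (a : F) (ha : a ≠ 0) : GL ι F := diagU (tδ i j a) (tδ_ne_zero i j ha)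

lemma tD_mem {K : Subgroup (GL ι F)} (hK : Hyp K) {i j : ι} (hij : i ≠ j) {a : F} (ha : a ≠ 0) :
    tD i j a ha ∈ K := diagU_mem hK _ _ (prod_tδ hij ha)

lemma conj_diag_apply (g : GL ι F) (δ : ι → F) (hδ : ∀ i, δ i ≠ 0) (i j : ι) :
    ((g * diagU δ hδ * g⁻¹ : GL ι F) : Matrix ι ι F) i j =
      ∑ l, (g : Matrix ι ι F) i l * δ l * ((g⁻¹ : GL ι F) : Matrix ι ι F) l j := by
  rw [Units.val_mul, Units.val_mul, diagU_val, Matrix.mul_apply]
  apply Finset.sum_congr rfl
  intro l _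
  rw [Matrix.mul_diagonal]

lemma conj_diag_inv (g : GL ι F) (δ : ι → F) (hδ : ∀ i, δ i ≠ 0) :
    (g * diagU δ hδ * g⁻¹)⁻¹ = g * diagU (fun i => (δ i)⁻¹) (fun i => inv_ne_zero (hδ i)) * g⁻¹ := by
  rw [← diagU_inv δ hδ]
  group

lemma mul_inv_apply (g : GL ι F) (i j : ι) :
    ∑ l, (g : Matrix ι ι F) i l * ((g⁻¹ : GL ι F) : Matrix ι ι F) l j = (1 : Matrix ι ι F) i j := by
  rw [← Matrix.mul_apply, ← Units.val_mul, mul_inv_cancel, Units.val_one]

lemma inv_mul_apply (g : GL ι F) (i j : ι) :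
    ∑ l, ((g⁻¹ : GL ι F) : Matrix ι ι F) i l * (g : Matrix ι ι F) l j = (1 : Matrix ι ι F) i j := by
  rw [← Matrix.mul_apply, ← Units.val_mul, inv_mul_cancel, Units.val_one]

lemma sum_diag_split (g : GL ι F) (δ : ι → F) (i j : ι) :
    ∑ l, (g : Matrix ι ι F) i l * δ l * ((g⁻¹ : GL ι F) : Matrix ι ι F) l j =
      (1 : Matrix ι ι F) i j +
        ∑ l, (δ l - 1) * ((g : Matrix ι ι F) i l * ((g⁻¹ : GL ι F) : Matrix ι ι F) l j) := by
  rw [← mul_inv_apply g i j, ← Finset.sum_add_distrib]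
  apply Finset.sum_congr rfl
  intro l _
  ring

/-! ### transvections with centre `e_{j0}` -/

/-- `1 + e_{j0} βᵀ` -/
def W (j0 : ι) (β : ι → F) : Matrix ι ι F := 1 + vecMulVec (Pi.single j0 1) β

lemma W_apply (j0 : ι) (β : ι → F) (i l : ι) :
    W j0 β i l = (1 : Matrix ι ι F) i l + if i = j0 then β l else 0 := by
  unfold W
  rw [Matrix.add_apply, vecMulVec_apply]
  by_cases h : i = j0
  · subst h; simp
  · simp [h, Pi.single_eq_of_ne h]

lemma W_mul (j0 : ι) {β : ι → F} (γ : ι → F) (hβ : β j0 = 0) :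
    W j0 β * W j0 γ = W j0 (β + γ) := by
  have h := T_mul (1 : F) 1 (Pi.single j0 1) β (Pi.single j0 1) γ
  rw [one_smul, one_smul, dotProduct_single, hβ] at h
  unfold W
  rw [h, vecMulVec_add]
  simp [add_assoc]

lemma W_zero (j0 : ι) : W j0 (0 : ι → F) = 1 := by
  unfold W
  simp

lemma conj_W (j0 : ι) (β : ι → F) (δ : ι → F) (hδ : ∀ i, δ i ≠ 0) (h1 : δ j0 = 1) :
    ((diagU δ hδ : GL ι F) : Matrix ι ι F) * W j0 β * (((diagU δ hδ)⁻¹ : GL ι F) : Matrix ι ι F) =
      W j0 (fun l => β l * (δ l)⁻¹) := by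
  rw [diagU_val, diagU_inv_val]
  ext i l
  rw [Matrix.mul_diagonal, Matrix.diagonal_mul, W_apply, W_apply]
  by_cases hi : i = j0
  · subst hi
    rw [h1, one_mul, if_pos rfl, if_pos rfl, add_mul]
    congr 1
    by_cases hl : i = l
    · subst hl; rw [Matrix.one_apply_eq, h1]; simp
    · rw [Matrix.one_apply_ne hl, zero_mul]
  · rw [if_neg hi, if_neg hi, add_zero]
    by_cases hl : i = l
    · subst hl; rw [Matrix.one_apply_eq, mul_one, mul_inv_cancel₀ (hδ i)]
    · rw [Matrix.one_apply_ne hl, mul_zero, zero_mul]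

lemma row_step {K : Subgroup (GL ι F)} {j0 : ι} {β : ι → F} (hβ : β j0 = 0)
    (hw : InK K (W j0 β)) {δ : ι → F} (hδ : ∀ i, δ i ≠ 0) (hd : diagU δ hδ ∈ K) (h1 : δ j0 = 1) :
    InK K (W j0 (fun l => β l * (1 - (δ l)⁻¹))) := by
  have h2 : InK K (W j0 (fun l => β l * (δ l)⁻¹)) := by
    rw [← conj_W j0 β δ hδ h1]
    exact hw.conj hd
  have h3 : InK K (W j0 (fun l => -(β l * (δ l)⁻¹))) := by
    apply h2.of_mul_eq_one
    rw [W_mul _ _ (by simp [hβ])]
    have : ((fun l => β l * (δ l)⁻¹) + fun l => -(β l * (δ l)⁻¹)) = 0 := by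
      funext l
      simp
    rw [this, W_zero]
  have h4 := hw.mul h3
  rw [W_mul _ _ hβ] at h4
  convert h4 using 2
  funext l
  simp only [Pi.add_apply]
  ring

/-- no non-trivial transvection with centre `e_{j0}` and axis containing `e_{j0}` lies in `K`. -/
lemma W_trivial (hq : 5 ≤ Fintype.card F) (hn : 4 ≤ Fintype.card ι) {K : Subgroup (GL ι F)}
    (hK : Hyp K) {j0 : ι} {β : ι → F} (hβ : β j0 = 0) (hw : InK K (W j0 β)) : β = 0 := by
  classical
  by_contra hne
  obtain ⟨j1, hj1⟩ : ∃ j1, β j1 ≠ 0 := by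
    by_contra hcon
    push Not at hcon
    exact hne (funext hcon)
  have hj10 : j1 ≠ j0 := fun h => hj1 (h ▸ hβ)
  obtain ⟨a, ha0, ha1⟩ := exists_ne_zero_one (F := F) hq
  -- two more indices
  obtain ⟨j2, hj2⟩ : ∃ l, l ∉ ({j0, j1} : Finset ι) := by
    by_contra hcon
    push Not at hcon
    have : (Finset.univ : Finset ι) ⊆ {j0, j1} := fun r _ => hcon r
    have := Finset.card_le_card this
    rw [Finset.card_univ] at this
    have : ({j0, j1} : Finset ι).card ≤ 2 := Finset.card_le_two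
    omega
  obtain ⟨j3, hj3⟩ : ∃ l, l ∉ ({j0, j1, j2} : Finset ι) := by
    by_contra hcon
    push Not at hcon
    have : (Finset.univ : Finset ι) ⊆ {j0, j1, j2} := fun r _ => hcon r
    have := Finset.card_le_card this
    rw [Finset.card_univ] at this
    have : ({j0, j1, j2} : Finset ι).card ≤ 3 := Finset.card_le_three
    omega
  simp only [Finset.mem_insert, Finset.mem_singleton, not_or] at hj2 hj3
  obtain ⟨h20, h21⟩ := hj2
  obtain ⟨h30, h31, h32⟩ := hj3
  have s1 := row_step hβ hw (tδ_ne_zero j1 j2 ha0) (tD_mem hK (Ne.symm h21) ha0)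
    (tδ_of_ne a (Ne.symm hj10) (Ne.symm h20))
  have hβ1 : (fun l => β l * (1 - (tδ j1 j2 a l)⁻¹)) j0 = 0 := by
    simp only [hβ, zero_mul]
  have s2 := row_step (β := fun l => β l * (1 - (tδ j1 j2 a l)⁻¹)) hβ1 s1 (tδ_ne_zero j1 j3 ha0) (tD_mem hK (Ne.symm h31) ha0)
    (tδ_of_ne a (Ne.symm hj10) (Ne.symm h30))
  have key : (fun l => β l * (1 - (tδ j1 j2 a l)⁻¹) * (1 - (tδ j1 j3 a l)⁻¹)) =
      fun l => if l = j1 then β j1 * (1 - a⁻¹) * (1 - a⁻¹) else 0 := by
    funext l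
    by_cases hl1 : l = j1
    · subst hl1
      rw [if_pos rfl, tδ_left, tδ_left]
    · rw [if_neg hl1]
      by_cases hl2 : l = j2
      · subst hl2
        rw [tδ_of_ne a hl1 (Ne.symm h32)]
        simp
      · rw [tδ_of_ne a hl1 hl2]
        simp
  rw [key] at s2
  have hc : β j1 * (1 - a⁻¹) * (1 - a⁻¹) ≠ 0 := by
    have : (1 : F) - a⁻¹ ≠ 0 := by
      intro h
      apply ha1
      have : a⁻¹ = 1 := by linear_combination -h
      rw [← inv_inv a, this, inv_one]
    exact mul_ne_zero (mul_ne_zero hj1 this) this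
  apply hK.no_elem j0 j1 (Ne.symm hj10) _ hc
  convert s2 using 1
  ext i l
  rw [W_apply, Matrix.add_apply, Matrix.single_apply]
  by_cases hi : i = j0
  · subst hi
    by_cases hl : l = j1
    · subst hl; simp
    · simp [hl, Ne.symm hl]
  · simp [hi, Ne.symm hi]


lemma det_W (j0 : ι) (β : ι → F) : (W j0 β).det = 1 + β j0 := by
  unfold W
  rw [Matrix.vecMulVec_eq Unit, Matrix.det_one_add_replicateCol_mul_replicateRow, dotProduct_single,
    mul_one]

/-- an element of `K` all of whose rows except row `j0` are rows of the identity is trivial -/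
lemma rows_id (hq : 5 ≤ Fintype.card F) (hn : 4 ≤ Fintype.card ι) {K : Subgroup (GL ι F)}
    (hK : Hyp K) {j0 : ι} {w : GL ι F} (hw : w ∈ K)
    (h : ∀ i, i ≠ j0 → ∀ l, (w : Matrix ι ι F) i l = (1 : Matrix ι ι F) i l) : w = 1 := by
  set β : ι → F := fun l => (w : Matrix ι ι F) j0 l - (1 : Matrix ι ι F) j0 l with hβdef
  have hwW : (w : Matrix ι ι F) = W j0 β := by
    ext i l
    rw [W_apply]
    by_cases hi : i = j0
    · subst hi
      rw [if_pos rfl, hβdef]
      ring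
    · rw [if_neg hi, add_zero, h i hi l]
  have hdet := hK.det_one w hw
  rw [hwW, det_W] at hdet
  have hβ0 : β j0 = 0 := by linear_combination hdet
  have hβ : β = 0 := W_trivial hq hn hK hβ0 ⟨w, hw, hwW⟩
  apply Units.ext
  rw [hwW, hβ, W_zero, Units.val_one]

/-! ### the stabiliser of the line `⟨e_{j0}⟩` and its action on the quotient -/

/-- column `j0` vanishes off the diagonal -/
def ColOK (j0 : ι) (A : Matrix ι ι F) : Prop := ∀ i, i ≠ j0 → A i j0 = 0

/-- the matrix of the action on the quotient by `⟨e_{j0}⟩` -/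
def proj (j0 : ι) (A : Matrix ι ι F) : Matrix {i // i ≠ j0} {i // i ≠ j0} F :=
  A.submatrix Subtype.val Subtype.val

lemma proj_apply (j0 : ι) (A : Matrix ι ι F) (i l : {i // i ≠ j0}) :
    proj j0 A i l = A i.1 l.1 := rfl

lemma colOK_one (j0 : ι) : ColOK j0 (1 : Matrix ι ι F) := fun i hi => Matrix.one_apply_ne hi

lemma proj_one (j0 : ι) : proj j0 (1 : Matrix ι ι F) = 1 := by
  ext i l
  rw [proj_apply]
  by_cases h : i = l
  · subst h; simp
  · rw [Matrix.one_apply_ne h, Matrix.one_apply_ne (fun h' => h (Subtype.ext h'))]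

lemma sum_col {j0 : ι} {B : Matrix ι ι F} (hB : ColOK j0 B) (A : Matrix ι ι F) (i : ι) :
    ∑ l, A i l * B l j0 = A i j0 * B j0 j0 := by
  rw [Finset.sum_eq_single j0]
  · intro l _ hl
    rw [hB l hl, mul_zero]
  · intro h; exact absurd (Finset.mem_univ _) h

lemma ColOK.mul {j0 : ι} {A B : Matrix ι ι F} (hA : ColOK j0 A) (hB : ColOK j0 B) :
    ColOK j0 (A * B) := by
  intro i hi
  rw [Matrix.mul_apply, sum_col hB, hA i hi, zero_mul]

lemma proj_mul {j0 : ι} {A : Matrix ι ι F} (hA : ColOK j0 A) (B : Matrix ι ι F) :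
    proj j0 (A * B) = proj j0 A * proj j0 B := by
  ext i l
  rw [proj_apply, Matrix.mul_apply, Matrix.mul_apply, Fintype.sum_eq_add_sum_subtype_ne _ j0,
    hA i.1 i.2, zero_mul, zero_add]
  rfl

lemma ColOK.inv {j0 : ι} (g : GL ι F) (h : ColOK j0 (g : Matrix ι ι F)) :
    ColOK j0 ((g⁻¹ : GL ι F) : Matrix ι ι F) := by
  have key : ∀ i, ((g⁻¹ : GL ι F) : Matrix ι ι F) i j0 * (g : Matrix ι ι F) j0 j0 =
      (1 : Matrix ι ι F) i j0 := by
    intro i
    rw [← inv_mul_apply g i j0, sum_col h]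
  have h0 : (g : Matrix ι ι F) j0 j0 ≠ 0 := by
    intro h0
    have := key j0
    rw [h0, mul_zero, Matrix.one_apply_eq] at this
    exact zero_ne_one this
  intro i hi
  have := key i
  rw [Matrix.one_apply_ne hi] at this
  rcases mul_eq_zero.mp this with h1 | h1
  · exact h1
  · exact absurd h1 h0

/-- the induced element on the quotient -/
def projU (j0 : ι) (g : GL ι F) (h : ColOK j0 (g : Matrix ι ι F)) : GL {i // i ≠ j0} F where
  val := proj j0 (g : Matrix ι ι F)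
  inv := proj j0 ((g⁻¹ : GL ι F) : Matrix ι ι F)
  val_inv := by
    rw [← proj_mul h, ← Units.val_mul, mul_inv_cancel, Units.val_one, proj_one]
  inv_val := by
    rw [← proj_mul (ColOK.inv g h), ← Units.val_mul, inv_mul_cancel, Units.val_one, proj_one]

/-- the group induced by `K` on the quotient -/
def projGrp (K : Subgroup (GL ι F)) (j0 : ι) : Subgroup (GL {i // i ≠ j0} F) where
  carrier := {u | ∃ k ∈ K, ColOK j0 (k : Matrix ι ι F) ∧
    proj j0 (k : Matrix ι ι F) = (u : Matrix {i // i ≠ j0} {i // i ≠ j0} F)}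
  mul_mem' := by
    rintro u v ⟨k, hk, hkc, hku⟩ ⟨k', hk', hkc', hku'⟩
    refine ⟨k * k', K.mul_mem hk hk', ?_, ?_⟩
    · rw [Units.val_mul]; exact hkc.mul hkc'
    · rw [Units.val_mul, Units.val_mul, proj_mul hkc, hku, hku']
  one_mem' := ⟨1, K.one_mem, by rw [Units.val_one]; exact colOK_one j0, by
    rw [Units.val_one, Units.val_one, proj_one]⟩
  inv_mem' := by
    rintro u ⟨k, hk, hkc, hku⟩
    refine ⟨k⁻¹, K.inv_mem hk, ColOK.inv k hkc, ?_⟩
    have h : proj j0 ((k⁻¹ : GL ι F) : Matrix ι ι F) * (u : Matrix _ _ F) = 1 := by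
      rw [← hku, ← proj_mul (ColOK.inv k hkc), ← Units.val_mul, inv_mul_cancel, Units.val_one,
        proj_one]
    exact (Units.inv_eq_of_mul_eq_one_left h).symm

lemma projU_mem {K : Subgroup (GL ι F)} {j0 : ι} {g : GL ι F} (hg : g ∈ K)
    (h : ColOK j0 (g : Matrix ι ι F)) : projU j0 g h ∈ projGrp K j0 :=
  ⟨g, hg, h, rfl⟩

/-- lifting monomial matrices -/
lemma lift_mono {K : Subgroup (GL ι F)} (hK : Hyp K) (j0 : ι) {u : GL {i // i ≠ j0} F}
    (hu : u ∈ monoGL {i // i ≠ j0} F) :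
    ∃ k ∈ K, k ∈ monoGL ι F ∧ ColOK j0 (k : Matrix ι ι F) ∧
      proj j0 (k : Matrix ι ι F) = (u : Matrix {i // i ≠ j0} {i // i ≠ j0} F) := by
  classical
  obtain ⟨σ', c', hc', hu'⟩ := exists_eq_mono hu
  set σ : Equiv.Perm ι := Equiv.Perm.ofSubtype σ' with hσ
  set δ : F := ((Equiv.Perm.sign σ' : ℤ) : F) * ∏ i, c' i with hδ
  have hδ0 : δ ≠ 0 := by
    apply mul_ne_zero
    · rcases Int.units_eq_one_or (Equiv.Perm.sign σ') with h | h <;> simp [h]
    · exact Finset.prod_ne_zero_iff.mpr (fun i _ => hc' i)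
  set c : ι → F := fun i => if h : i ≠ j0 then c' ⟨i, h⟩ else δ⁻¹ with hc
  have hc0 : ∀ i, c i ≠ 0 := by
    intro i
    rw [hc]
    by_cases h : i ≠ j0
    · simp only [dif_pos h]; exact hc' _
    · simp only [dif_neg h]; exact inv_ne_zero hδ0
  have hcj0 : c j0 = δ⁻¹ := by
    rw [hc]; simp
  have hcs : ∀ i : {i // i ≠ j0}, c i.1 = c' i := by
    intro i
    rw [hc]
    simp only [dif_pos i.2]
  have hσj0 : σ j0 = j0 := Equiv.Perm.ofSubtype_apply_of_not_mem σ' (by simp)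
  have hσs : ∀ l : {i // i ≠ j0}, σ l.1 = (σ' l).1 := by
    intro l
    rw [hσ, Equiv.Perm.ofSubtype_apply_of_mem σ' l.2]
  refine ⟨monoU σ c hc0, ?_, monoU_mem _ _ _, ?_, ?_⟩
  · apply hK.mono_mem _ (monoU_mem _ _ _)
    rw [monoU_val, det_mono, Fintype.prod_eq_mul_prod_subtype_ne c j0, hcj0, hσ,
      Equiv.Perm.sign_ofSubtype]
    simp only [hcs]
    rw [← mul_assoc, mul_comm _ δ⁻¹, mul_assoc, ← hδ, inv_mul_cancel₀ hδ0]
  · intro i hi
    rw [monoU_val, mono_apply, hσj0, if_neg hi]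
  · ext i l
    rw [proj_apply, monoU_val, mono_apply, hu', mono_apply, hσs, hcs]
    by_cases h : i = σ' l
    · rw [if_pos h, if_pos (by rw [h])]
    · rw [if_neg h, if_neg (fun h' => h (Subtype.ext h'))]


lemma diag_comm_single {κ : Type*} [Fintype κ] [DecidableEq κ] (δ' : κ → F) {i j : κ}
    (h : δ' i = δ' j) (c : F) :
    diagonal δ' * (1 + Matrix.single i j c) = (1 + Matrix.single i j c) * diagonal δ' := by
  rw [mul_add, add_mul, mul_one, one_mul]
  congr 1
  ext r s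
  rw [Matrix.diagonal_mul, Matrix.mul_diagonal, Matrix.single_apply]
  by_cases hrs : i = r ∧ j = s
  · obtain ⟨rfl, rfl⟩ := hrs
    rw [if_pos ⟨rfl, rfl⟩, h, mul_comm]
  · rw [if_neg hrs, mul_zero, zero_mul]

lemma proj_diagonal (j0 : ι) (δ : ι → F) :
    proj j0 (diagonal δ) = diagonal (fun i : {i // i ≠ j0} => δ i.1) := by
  ext i l
  rw [proj_apply]
  by_cases h : i = l
  · subst h; simp
  · rw [Matrix.diagonal_apply_ne _ h, Matrix.diagonal_apply_ne _ (fun h' => h (Subtype.ext h'))]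

lemma colOK_diagonal (j0 : ι) (δ : ι → F) : ColOK j0 (diagonal δ) :=
  fun i hi => Matrix.diagonal_apply_ne _ hi

lemma card_subtype_ne (j0 : ι) : Fintype.card {i // i ≠ j0} = Fintype.card ι - 1 := by
  classical
  rw [Fintype.card_subtype_compl (fun i => i = j0), Fintype.card_subtype_eq]

/-- **Elements of `K` fixing a coordinate line (diagonal position) are monomial.** -/
theorem col_fixed (hq : 5 ≤ Fintype.card F) (hn : 5 ≤ Fintype.card ι) {K : Subgroup (GL ι F)}
    (hK : Hyp K) {g : GL ι F} (hg : g ∈ K) {j0 : ι} (h : ColOK j0 (g : Matrix ι ι F)) :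
    g ∈ monoGL ι F := by
  classical
  have hcard : 3 ≤ Fintype.card {i // i ≠ j0} := by
    rw [card_subtype_ne]; omega
  have hK' : monoGL {i // i ≠ j0} F ≤ projGrp K j0 := by
    intro u hu
    obtain ⟨k, hk, -, hkc, hku⟩ := lift_mono hK j0 hu
    exact ⟨k, hk, hkc, hku⟩
  -- rows `≠ j0` of an element with trivial projection
  have rows_of_proj : ∀ w : GL ι F, ColOK j0 (w : Matrix ι ι F) →
      proj j0 (w : Matrix ι ι F) = 1 →
      ∀ i, i ≠ j0 → ∀ l, (w : Matrix ι ι F) i l = (1 : Matrix ι ι F) i l := by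
    intro w hc2 hp2 i hi l
    by_cases hl : l = j0
    · subst hl; rw [hc2 i hi, Matrix.one_apply_ne hi]
    · have := congrFun (congrFun hp2 ⟨i, hi⟩) ⟨l, hl⟩
      rw [proj_apply] at this
      rw [this]
      by_cases hil : i = l
      · subst hil; simp
      · rw [Matrix.one_apply_ne hil,
          Matrix.one_apply_ne (fun h' => hil (congrArg Subtype.val h'))]
  by_cases hg' : projU j0 g h ∈ monoGL {i // i ≠ j0} F
  · obtain ⟨m, hm, hmM, hmc, hmu⟩ := lift_mono hK j0 hg'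
    have h2 : m⁻¹ * g = 1 := by
      apply rows_id hq (by omega) hK (K.mul_mem (K.inv_mem hm) hg) (j0 := j0)
      apply rows_of_proj
      · rw [Units.val_mul]; exact (ColOK.inv m hmc).mul h
      · rw [Units.val_mul, proj_mul (ColOK.inv m hmc)]
        have : proj j0 (g : Matrix ι ι F) = proj j0 (m : Matrix ι ι F) := by rw [hmu]; rfl
        rw [this, ← proj_mul (ColOK.inv m hmc), ← Units.val_mul, inv_mul_cancel, Units.val_one,
          proj_one]
    have : g = m := by rw [← mul_one m, ← h2, mul_inv_cancel_left]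
    rw [this]; exact hmM
  · exfalso
    obtain ⟨i, j, hij, hE⟩ := (monoG hq hcard hK' (projU_mem hg h) hg').exists_single
    obtain ⟨u, ⟨k, hk, hkc, hku⟩, huE⟩ := hE 1
    rw [huE] at hku
    have hij' : i.1 ≠ j.1 := fun h' => hij (Subtype.ext h')
    -- the (j0,j0) entry of k is 1
    have hkjj : (k : Matrix ι ι F) j0 j0 = 1 := by
      have hdet := hK.det_one k hk
      rw [Matrix.twoBlockTriangular_det' (k : Matrix ι ι F) (fun i => i ≠ j0)
        (fun i hi l hl => by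
          have : l = j0 := not_not.mp hl
          rw [this]; exact hkc i hi)] at hdet
      have h1 : (Matrix.toSquareBlockProp (k : Matrix ι ι F) (fun i => i ≠ j0)).det = 1 := by
        have : Matrix.toSquareBlockProp (k : Matrix ι ι F) (fun i => i ≠ j0) =
            proj j0 (k : Matrix ι ι F) := rfl
        rw [this, hku]
        exact Matrix.det_transvection_of_ne i j hij 1
      rw [h1, one_mul] at hdet
      letI : Unique {i // ¬ i ≠ j0} :=
        ⟨⟨⟨j0, by simp⟩⟩, fun x => Subtype.ext (not_not.mp x.2)⟩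
      rw [Matrix.det_unique] at hdet
      exact hdet
    -- a scalar with a ≠ 0, a^2 ≠ 1
    obtain ⟨a, ha⟩ := exists_not_mem_of_card hq ({0, 1, -1} : Finset F) (by
      refine le_trans (Finset.card_insert_le _ _) ?_
      refine Nat.succ_le_succ (le_trans (Finset.card_insert_le _ _) ?_)
      simp)
    simp only [Finset.mem_insert, Finset.mem_singleton, not_or] at ha
    obtain ⟨ha0, ha1, ha2⟩ := ha
    obtain ⟨l', hl'⟩ : ∃ l, l ∉ ({j0, i.1, j.1} : Finset ι) := by
      by_contra hcon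
      push Not at hcon
      have : (Finset.univ : Finset ι) ⊆ {j0, i.1, j.1} := fun r _ => hcon r
      have := Finset.card_le_card this
      rw [Finset.card_univ] at this
      have : ({j0, i.1, j.1} : Finset ι).card ≤ 3 := Finset.card_le_three
      omega
    simp only [Finset.mem_insert, Finset.mem_singleton, not_or] at hl'
    obtain ⟨hl0, hli, hlj⟩ := hl'
    set d : GL ι F := tD j0 l' a ha0 with hd
    have hdK : d ∈ K := tD_mem hK (Ne.symm hl0) ha0
    have hdv : (d : Matrix ι ι F) = diagonal (tδ j0 l' a) := diagU_val _ _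
    have hdiv : ((d⁻¹ : GL ι F) : Matrix ι ι F) = diagonal (fun i => (tδ j0 l' a i)⁻¹) :=
      diagU_inv_val _ _
    have hdc : ColOK j0 (d : Matrix ι ι F) := by rw [hdv]; exact colOK_diagonal _ _
    have hdic : ColOK j0 ((d⁻¹ : GL ι F) : Matrix ι ι F) := ColOK.inv d hdc
    have hkic : ColOK j0 ((k⁻¹ : GL ι F) : Matrix ι ι F) := ColOK.inv k hkc
    have hw1 : d * k * d⁻¹ * k⁻¹ = 1 := by
      apply rows_id hq (by omega) hK (K.mul_mem (K.mul_mem (K.mul_mem hdK hk) (K.inv_mem hdK))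
        (K.inv_mem hk)) (j0 := j0)
      apply rows_of_proj
      · simp only [Units.val_mul]
        exact ((hdc.mul hkc).mul hdic).mul hkic
      · simp only [Units.val_mul]
        rw [proj_mul ((hdc.mul hkc).mul hdic), proj_mul (hdc.mul hkc), proj_mul hdc, hku, hdv,
          proj_diagonal, diag_comm_single _ _ 1, mul_assoc _ (diagonal _) (proj j0 _), hdiv,
          proj_diagonal, Matrix.diagonal_mul_diagonal]
        · have : (fun i : {i // i ≠ j0} => tδ j0 l' a i.1 * (tδ j0 l' a i.1)⁻¹) = fun _ => 1 := by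
            funext r
            exact mul_inv_cancel₀ (tδ_ne_zero _ _ ha0 _)
          rw [this, Matrix.diagonal_one, mul_one, ← hku, ← proj_mul hkc, ← Units.val_mul,
            mul_inv_cancel, Units.val_one, proj_one]
        · rw [tδ_of_ne a i.2 (Ne.symm hli), tδ_of_ne a j.2 (Ne.symm hlj)]
    have hcomm : d * k = k * d := by
      have : d * k * d⁻¹ = k := by
        rw [← mul_one (d * k * d⁻¹), ← inv_mul_cancel k, ← mul_assoc, hw1, one_mul]
      calc d * k = d * k * d⁻¹ * d := by group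
        _ = k * d := by rw [this]
    have hrow : ∀ l, l ≠ j0 → (k : Matrix ι ι F) j0 l = 0 := by
      intro l hl
      have e := congrArg (fun M : GL ι F => (M : Matrix ι ι F) j0 l) hcomm
      simp only [Units.val_mul, hdv, Matrix.diagonal_mul, Matrix.mul_diagonal, tδ_left] at e
      by_cases hll : l = l'
      · subst hll
        rw [tδ_right (Ne.symm hl0)] at e
        have : (a ^ 2 - 1) * (k : Matrix ι ι F) j0 l = 0 := by
          field_simp at e
          linear_combination e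
        rcases mul_eq_zero.mp this with h1 | h1
        · exfalso
          have : (a - 1) * (a + 1) = 0 := by linear_combination h1
          rcases mul_eq_zero.mp this with h2 | h2
          · exact ha1 (by linear_combination h2)
          · exact ha2 (by linear_combination h2)
        · exact h1
      · rw [tδ_of_ne a hl hll, mul_one] at e
        have : (a - 1) * (k : Matrix ι ι F) j0 l = 0 := by linear_combination e
        rcases mul_eq_zero.mp this with h1 | h1
        · exact absurd (by linear_combination h1) ha1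
        · exact h1
    apply hK.no_elem i.1 j.1 hij' 1 one_ne_zero
    refine ⟨k, hk, ?_⟩
    ext r s
    rw [Matrix.add_apply, Matrix.single_apply]
    by_cases hr : r = j0
    · subst hr
      rw [if_neg (fun h' => i.2 h'.1), add_zero]
      by_cases hs : s = r
      · subst hs; rw [hkjj, Matrix.one_apply_eq]
      · rw [hrow s hs, Matrix.one_apply_ne (Ne.symm hs)]
    · by_cases hs : s = j0
      · subst hs
        rw [hkc r hr, Matrix.one_apply_ne hr, if_neg (fun h' => j.2 h'.2), add_zero]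
      · have e := congrFun (congrFun hku ⟨r, hr⟩) ⟨s, hs⟩
        rw [proj_apply, Matrix.add_apply, Matrix.single_apply] at e
        rw [e]
        congr 1
        · by_cases hrs : r = s
          · subst hrs; simp
          · rw [Matrix.one_apply_ne hrs,
              Matrix.one_apply_ne (fun h' => hrs (congrArg Subtype.val h'))]
        · by_cases hc : i = ⟨r, hr⟩ ∧ j = ⟨s, hs⟩
          · rw [if_pos hc, if_pos ⟨by rw [hc.1], by rw [hc.2]⟩]
          · rw [if_neg hc, if_neg]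
            rintro ⟨h1, h2⟩
            exact hc ⟨Subtype.ext h1, Subtype.ext h2⟩


/-- **Elements of `K` with a column supported at a single row are monomial.** -/
theorem col_single (hq : 5 ≤ Fintype.card F) (hn : 5 ≤ Fintype.card ι) {K : Subgroup (GL ι F)}
    (hK : Hyp K) {g : GL ι F} (hg : g ∈ K) {i0 l : ι}
    (h : ∀ r, r ≠ i0 → (g : Matrix ι ι F) r l = 0) : g ∈ monoGL ι F := by
  classical
  by_cases hil : i0 = l
  · subst hil
    exact col_fixed hq hn hK hg h
  · set c : ι → F := Function.update (fun _ => (1 : F)) i0 (-1) with hc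
    have hc0 : ∀ r, c r ≠ 0 := by
      intro r
      rw [hc]
      by_cases hr : r = i0
      · subst hr; simp
      · rw [Function.update_of_ne hr]; exact one_ne_zero
    set s : GL ι F := monoU (Equiv.swap i0 l) c hc0 with hs
    have hsM : s ∈ monoGL ι F := monoU_mem _ _ _
    have hsK : s ∈ K := by
      apply hK.mono_mem _ hsM
      rw [hs, monoU_val, det_mono, Equiv.Perm.sign_swap hil, hc,
        Finset.prod_update_of_mem (Finset.mem_univ _)]
      simp
    have hsg : s * g ∈ monoGL ι F := by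
      apply col_fixed hq hn hK (K.mul_mem hsK hg) (j0 := l)
      intro r hr
      rw [Units.val_mul, Matrix.mul_apply, Finset.sum_eq_single i0]
      · rw [hs, monoU_val, mono_apply, Equiv.swap_apply_left, if_neg hr, zero_mul]
      · intro b _ hb
        rw [h b hb, mul_zero]
      · intro h'; exact absurd (Finset.mem_univ _) h'
    have : g = s⁻¹ * (s * g) := by group
    rw [this]
    exact (monoGL ι F).mul_mem ((monoGL ι F).inv_mem hsM) hsg

lemma det_swU (x : ι → F) {i k : ι} (hik : i ≠ k) (hxi : x i ≠ 0) (hxk : x k ≠ 0) :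
    ((swU x i k hxi hxk : GL ι F) : Matrix ι ι F).det = -1 := by
  rw [swU, monoU_val, det_mono, Equiv.Perm.sign_swap hik,
    Finset.prod_eq_mul i k hik]
  · rw [Function.update_of_ne hik, Function.update_self, Function.update_self]
    field_simp
    simp
  · intro c _ hc
    rw [Function.update_of_ne hc.2, Function.update_of_ne hc.1]
  · intro h; exact absurd (Finset.mem_univ _) h
  · intro h; exact absurd (Finset.mem_univ _) h

lemma det_dU (i : ι) (a : F) (ha : a ≠ 0) : ((dU i a ha : GL ι F) : Matrix ι ι F).det = a := by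
  rw [dU, monoU_val, det_mono, Finset.prod_update_of_mem (Finset.mem_univ _)]
  simp

lemma vecMul_dU (i : ι) (a : F) (ha : a ≠ 0) (z : ι → F) (r : ι) :
    (z ᵥ* ((dU i a ha : GL ι F) : Matrix ι ι F)) r = z r * (if r = i then a else 1) := by
  rw [dU, monoU_val, vecMul_mono]
  have e : (1 : Equiv.Perm ι) r = r := rfl
  rw [e]
  by_cases h : r = i
  · subst h; rw [if_pos rfl, Function.update_self]
  · rw [if_neg h, Function.update_of_ne h]

/-- a monomial matrix with a column of the identity also has the corresponding row -/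
lemma mono_row_of_col {m : GL ι F} (hm : m ∈ monoGL ι F) {j : ι}
    (hcol : ∀ i, (m : Matrix ι ι F) i j = (1 : Matrix ι ι F) i j) :
    ∀ l, (m : Matrix ι ι F) j l = (1 : Matrix ι ι F) j l := by
  obtain ⟨π, c, hc, hmv⟩ := exists_eq_mono hm
  have hjj := hcol j
  rw [hmv, mono_apply, Matrix.one_apply_eq] at hjj
  have hπ : j = π j := by
    by_contra hne
    rw [if_neg hne] at hjj
    exact zero_ne_one hjj
  intro l
  by_cases hl : j = l
  · subst hl; exact hcol j
  · rw [Matrix.one_apply_ne hl, hmv, mono_apply, if_neg]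
    intro h'
    apply hl
    apply π.injective
    rw [← h', ← hπ]

lemma recip_aux (hq : 5 ≤ Fintype.card F) (hn : 5 ≤ Fintype.card ι) {K : Subgroup (GL ι F)}
    (hK : Hyp K) {g : GL ι F} (hg : g ∈ K) {j a b : ι} (hab : a ≠ b)
    (ha : (g : Matrix ι ι F) a j ≠ 0) (hb : (g : Matrix ι ι F) b j ≠ 0)
    (h : GL ι F) (hM : h ∈ monoGL ι F) (hdet : (h : Matrix ι ι F).det = -1)
    (hx : (h : Matrix ι ι F) *ᵥ (fun r => (g : Matrix ι ι F) r j) = fun r => (g : Matrix ι ι F) r j)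
    (hz : ∀ z : ι → F, (z ᵥ* (h : Matrix ι ι F)) a = z a) :
    (g : Matrix ι ι F) a j * ((g⁻¹ : GL ι F) : Matrix ι ι F) j a =
      (g : Matrix ι ι F) b j * ((g⁻¹ : GL ι F) : Matrix ι ι F) j b := by
  classical
  set x : ι → F := fun r => (g : Matrix ι ι F) r j with hxdef
  have hxe : x = (g : Matrix ι ι F) *ᵥ Pi.single j 1 := by
    funext r
    rw [mulVec_single_one]; rfl
  set μ : GL ι F := swU x a b ha hb * h with hμ
  have hμM : μ ∈ monoGL ι F := (monoGL ι F).mul_mem (monoU_mem _ _ _) hM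
  have hμK : μ ∈ K := by
    apply hK.mono_mem _ hμM
    rw [hμ, Units.val_mul, det_mul, det_swU x hab ha hb, hdet]
    simp
  have hμx : (μ : Matrix ι ι F) *ᵥ x = x := by
    rw [hμ, Units.val_mul, ← mulVec_mulVec, hx, swU_mulVec x hab ha hb]
  set m : GL ι F := g⁻¹ * μ * g with hm
  have hmK : m ∈ K := K.mul_mem (K.mul_mem (K.inv_mem hg) hμK) hg
  have hmcol : ∀ i, (m : Matrix ι ι F) i j = (1 : Matrix ι ι F) i j := by
    intro i
    have e1 : (m : Matrix ι ι F) *ᵥ Pi.single j 1 = Pi.single j 1 := by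
      rw [hm, Units.val_mul, Units.val_mul, ← mulVec_mulVec, ← mulVec_mulVec, ← hxe, hμx, hxe,
        inv_mulVec_mulVec]
    have e2 := congrFun e1 i
    rw [mulVec_single_one] at e2
    rw [← Matrix.col_apply (A := (m : Matrix ι ι F)), e2, Matrix.one_apply, Pi.single_apply]
  have hmM : m ∈ monoGL ι F :=
    col_fixed hq hn hK hmK (fun i hi => by rw [hmcol, Matrix.one_apply_ne hi])
  have hmrow := mono_row_of_col hmM hmcol
  -- m * g⁻¹ = g⁻¹ * μ
  have e : m * g⁻¹ = g⁻¹ * μ := by rw [hm]; group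
  have e' := congrArg (fun M : GL ι F => (M : Matrix ι ι F) j a) e
  simp only [Units.val_mul] at e'
  rw [Matrix.mul_apply] at e'
  simp only [hmrow] at e'
  rw [Finset.sum_eq_single j (fun r _ hr => by rw [Matrix.one_apply_ne (Ne.symm hr), zero_mul])
    (fun h' => absurd (Finset.mem_univ _) h'), Matrix.one_apply_eq, one_mul] at e'
  have e3 : (((g⁻¹ : GL ι F) : Matrix ι ι F) * (μ : Matrix ι ι F)) j a =
      ((fun r => ((g⁻¹ : GL ι F) : Matrix ι ι F) j r) ᵥ* (μ : Matrix ι ι F)) a := by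
    rw [Matrix.mul_apply]; rfl
  rw [e3, hμ, Units.val_mul, ← vecMul_vecMul, hz, vecMul_swU x _ hab ha hb, if_pos rfl] at e'
  have hxa : x a ≠ 0 := ha
  have hxb : x b ≠ 0 := hb
  show x a * _ = x b * _
  rw [e']
  field_simp

/-- **Reciprocity**: on the support of a column of `g ∈ K`, the products
`g a j * g⁻¹ j a` are constant. -/
theorem recip (hq : 5 ≤ Fintype.card F) (hn : 5 ≤ Fintype.card ι) {K : Subgroup (GL ι F)}
    (hK : Hyp K) {g : GL ι F} (hg : g ∈ K) (j a b : ι)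
    (ha : (g : Matrix ι ι F) a j ≠ 0) (hb : (g : Matrix ι ι F) b j ≠ 0) :
    (g : Matrix ι ι F) a j * ((g⁻¹ : GL ι F) : Matrix ι ι F) j a =
      (g : Matrix ι ι F) b j * ((g⁻¹ : GL ι F) : Matrix ι ι F) j b := by
  classical
  by_cases hab : a = b
  · subst hab; rfl
  set x : ι → F := fun r => (g : Matrix ι ι F) r j with hxdef
  by_cases hc : ∃ c, c ≠ a ∧ c ≠ b ∧ x c ≠ 0
  · obtain ⟨c, hca, hcb, hxc⟩ := hc
    apply recip_aux hq hn hK hg hab ha hb (swU x b c hb hxc) (monoU_mem _ _ _)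
      (det_swU x (Ne.symm hcb) hb hxc) (swU_mulVec x (Ne.symm hcb) hb hxc)
    intro z
    rw [vecMul_swU x z (Ne.symm hcb) hb hxc, if_neg hab, if_neg (Ne.symm hca)]
  · push Not at hc
    obtain ⟨c, hc'⟩ : ∃ l, l ∉ ({a, b} : Finset ι) := by
      by_contra hcon
      push Not at hcon
      have : (Finset.univ : Finset ι) ⊆ {a, b} := fun r _ => hcon r
      have := Finset.card_le_card this
      rw [Finset.card_univ] at this
      have : ({a, b} : Finset ι).card ≤ 2 := Finset.card_le_two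
      omega
    simp only [Finset.mem_insert, Finset.mem_singleton, not_or] at hc'
    have hxc : (g : Matrix ι ι F) c j = 0 := hc c hc'.1 hc'.2
    apply recip_aux hq hn hK hg hab ha hb (dU c (-1) (by simp)) (monoU_mem _ _ _)
      (det_dU c (-1) _)
    · rw [dU_mulVec, hxc, mul_zero, zero_smul, add_zero]
    · intro z
      rw [vecMul_dU, if_neg (Ne.symm hc'.1), mul_one]


/-- the support of `g⁻¹` contains the transposed support of `g` -/
lemma inv_ne_zero_of_ne_zero (hq : 5 ≤ Fintype.card F) (hn : 5 ≤ Fintype.card ι)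
    {K : Subgroup (GL ι F)} (hK : Hyp K) {g : GL ι F} (hg : g ∈ K) {a j : ι}
    (ha : (g : Matrix ι ι F) a j ≠ 0) : ((g⁻¹ : GL ι F) : Matrix ι ι F) j a ≠ 0 := by
  intro h0
  have h1 := inv_mul_apply g j j
  rw [Matrix.one_apply_eq, Finset.sum_eq_zero] at h1
  · exact zero_ne_one h1
  · intro r _
    by_cases hr : (g : Matrix ι ι F) r j = 0
    · rw [hr, mul_zero]
    · have := recip hq hn hK hg j r a hr ha
      rw [h0, mul_zero] at this
      rw [mul_comm]; exact this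

lemma supp_iff (hq : 5 ≤ Fintype.card F) (hn : 5 ≤ Fintype.card ι)
    {K : Subgroup (GL ι F)} (hK : Hyp K) {g : GL ι F} (hg : g ∈ K) (a j : ι) :
    (g : Matrix ι ι F) a j ≠ 0 ↔ ((g⁻¹ : GL ι F) : Matrix ι ι F) j a ≠ 0 := by
  constructor
  · exact inv_ne_zero_of_ne_zero hq hn hK hg
  · intro h
    have := inv_ne_zero_of_ne_zero hq hn hK (K.inv_mem hg) h
    rwa [inv_inv] at this

/-- reciprocity along rows -/
theorem recip_row (hq : 5 ≤ Fintype.card F) (hn : 5 ≤ Fintype.card ι) {K : Subgroup (GL ι F)}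
    (hK : Hyp K) {g : GL ι F} (hg : g ∈ K) (i a b : ι)
    (ha : (g : Matrix ι ι F) i a ≠ 0) (hb : (g : Matrix ι ι F) i b ≠ 0) :
    (g : Matrix ι ι F) i a * ((g⁻¹ : GL ι F) : Matrix ι ι F) a i =
      (g : Matrix ι ι F) i b * ((g⁻¹ : GL ι F) : Matrix ι ι F) b i := by
  have h := recip hq hn hK (K.inv_mem hg) i a b ((supp_iff hq hn hK hg i a).mp ha)
    ((supp_iff hq hn hK hg i b).mp hb)
  rw [inv_inv] at h
  rw [mul_comm, h, mul_comm]

lemma mul_mono_apply (A : Matrix ι ι F) (π : Equiv.Perm ι) (c : ι → F) (r s : ι) :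
    (A * mono π c) r s = A r (π s) * c s := by
  rw [Matrix.mul_apply, Finset.sum_eq_single (π s)]
  · rw [mono_apply, if_pos rfl]
  · intro u _ hu
    rw [mono_apply, if_neg hu, mul_zero]
  · intro h; exact absurd (Finset.mem_univ _) h

/-- an element of `F` of multiplicative order at least four -/
lemma exists_order_four (hq : 5 ≤ Fintype.card F) :
    ∃ a : F, a ≠ 0 ∧ a ≠ 1 ∧ a ^ 2 ≠ 1 ∧ a ^ 3 ≠ 1 := by
  classical
  obtain ⟨u, hu⟩ := IsCyclic.exists_generator (α := Fˣ)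
  have hord : orderOf u = Fintype.card F - 1 := by
    rw [orderOf_eq_card_of_forall_mem_zpowers hu, Nat.card_eq_fintype_card, Fintype.card_units]
  have hp : ∀ k : ℕ, k ≠ 0 → k < 4 → (u : F) ^ k ≠ 1 := by
    intro k hk0 hk4 h
    have : u ^ k = 1 := by
      apply Units.ext
      rw [Units.val_pow_eq_pow_val, h, Units.val_one]
    exact pow_ne_one_of_lt_orderOf hk0 (by rw [hord]; omega) this
  refine ⟨(u : F), u.ne_zero, ?_, hp 2 (by norm_num) (by norm_num), hp 3 (by norm_num) (by norm_num)⟩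
  have := hp 1 (by norm_num) (by norm_num)
  rwa [pow_one] at this

lemma e1_aux (hq : 5 ≤ Fintype.card F) (hn : 5 ≤ Fintype.card ι) {K : Subgroup (GL ι F)}
    (hK : Hyp K) {g : GL ι F} (hg : g ∈ K) {j z₁ z₂ : ι} (hz : z₁ ≠ z₂)
    (h1 : (g : Matrix ι ι F) z₁ j = 0) (h2 : (g : Matrix ι ι F) z₂ j = 0) {l i : ι}
    (hl : (g : Matrix ι ι F) z₁ l ≠ 0) (hi1 : i ≠ z₁) (hi2 : i ≠ z₂) :
    (g : Matrix ι ι F) i l = 0 := by
  classical
  by_contra hil
  obtain ⟨a, ha0, ha1, ha2, ha3⟩ := exists_order_four (F := F) hq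
  set δ : ι → F := tδ z₁ z₂ a with hδ
  set t : GL ι F := tD z₁ z₂ a ha0 with ht
  have htK : t ∈ K := tD_mem hK hz ha0
  have htv : (t : Matrix ι ι F) = diagonal δ := diagU_val _ _
  set x : ι → F := fun r => (g : Matrix ι ι F) r j with hxdef
  have hxe : x = (g : Matrix ι ι F) *ᵥ Pi.single j 1 := by
    funext r
    rw [mulVec_single_one]; rfl
  have htx : (t : Matrix ι ι F) *ᵥ x = x := by
    funext r
    rw [htv, Matrix.mulVec_diagonal]
    by_cases hr1 : r = z₁
    · subst hr1; show _ * (g : Matrix ι ι F) r j = (g : Matrix ι ι F) r j; rw [h1, mul_zero]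
    · by_cases hr2 : r = z₂
      · subst hr2; show _ * (g : Matrix ι ι F) r j = (g : Matrix ι ι F) r j; rw [h2, mul_zero]
      · rw [hδ, tδ_of_ne a hr1 hr2, one_mul]
  set m : GL ι F := g⁻¹ * t * g with hm
  have hmK : m ∈ K := K.mul_mem (K.mul_mem (K.inv_mem hg) htK) hg
  have hmcol : ∀ i, (m : Matrix ι ι F) i j = (1 : Matrix ι ι F) i j := by
    intro i
    have e1 : (m : Matrix ι ι F) *ᵥ Pi.single j 1 = Pi.single j 1 := by
      rw [hm, Units.val_mul, Units.val_mul, ← mulVec_mulVec, ← mulVec_mulVec, ← hxe, htx, hxe,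
        inv_mulVec_mulVec]
    have e2 := congrFun e1 i
    rw [mulVec_single_one] at e2
    rw [← Matrix.col_apply (A := (m : Matrix ι ι F)), e2, Matrix.one_apply, Pi.single_apply]
  have hmM : m ∈ monoGL ι F :=
    col_fixed hq hn hK hmK (fun i hi => by rw [hmcol, Matrix.one_apply_ne hi])
  obtain ⟨π, c, hc, hmv⟩ := exists_eq_mono hmM
  have e : g * m = t * g := by rw [hm]; group
  have star : ∀ r s, (g : Matrix ι ι F) r (π s) * c s = δ r * (g : Matrix ι ι F) r s := by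
    intro r s
    have e' := congrArg (fun M : GL ι F => (M : Matrix ι ι F) r s) e
    simp only [Units.val_mul] at e'
    rw [hmv, mul_mono_apply, htv, Matrix.diagonal_mul] at e'
    exact e'
  set T : F := 1 + a + a⁻¹ with hT
  have cubic : ∀ r, δ r ^ 3 - T * δ r ^ 2 + T * δ r - 1 = 0 := by
    intro r
    by_cases hr1 : r = z₁
    · subst hr1
      rw [hδ, tδ_left, hT]
      field_simp
      ring
    · by_cases hr2 : r = z₂
      · subst hr2
        rw [hδ, tδ_right hz, hT]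
        field_simp
        ring
      · rw [hδ, tδ_of_ne a hr1 hr2]
        ring
  set s1 := π l with hs1
  set s2 := π s1 with hs2
  set s3 := π s2 with hs3
  have rel : ∀ r, c s2 * c s1 * c l * (g : Matrix ι ι F) r s3
      - T * (c s1 * c l) * (g : Matrix ι ι F) r s2 + T * c l * (g : Matrix ι ι F) r s1
      - (g : Matrix ι ι F) r l = 0 := by
    intro r
    have A1 := star r l
    have A2 := star r s1
    have A3 := star r s2
    linear_combination (c s1 * c l) * A3 + (δ r * c l - T * c l) * A2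
      + (δ r ^ 2 - T * δ r + T) * A1 + (g : Matrix ι ι F) r l * cubic r
  have key : c s2 * c s1 * c l * (1 : Matrix ι ι F) l s3 - T * (c s1 * c l) * (1 : Matrix ι ι F) l s2
      + T * c l * (1 : Matrix ι ι F) l s1 - (1 : Matrix ι ι F) l l = 0 := by
    calc _ = ∑ r, ((g⁻¹ : GL ι F) : Matrix ι ι F) l r * (c s2 * c s1 * c l * (g : Matrix ι ι F) r s3
          - T * (c s1 * c l) * (g : Matrix ι ι F) r s2 + T * c l * (g : Matrix ι ι F) r s1
          - (g : Matrix ι ι F) r l) := by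
          simp only [← inv_mul_apply g, Finset.mul_sum, ← Finset.sum_sub_distrib,
            ← Finset.sum_add_distrib]
          apply Finset.sum_congr rfl
          intro r _
          ring
      _ = 0 := Finset.sum_eq_zero (fun r _ => by rw [rel r, mul_zero])
  have hi_δ : δ i = 1 := by rw [hδ, tδ_of_ne a hi1 hi2]
  have hz_δ : δ z₁ = a := by rw [hδ, tδ_left]
  by_cases e1 : l = s1
  · have A := star i l
    have B := star z₁ l
    rw [← hs1, ← e1, hi_δ] at A
    rw [← hs1, ← e1, hz_δ] at B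
    have hc1 : c l = 1 := by
      have : (g : Matrix ι ι F) i l * (c l - 1) = 0 := by linear_combination A
      rcases mul_eq_zero.mp this with h | h
      · exact absurd h hil
      · linear_combination h
    have : (g : Matrix ι ι F) z₁ l * (1 - a) = 0 := by rw [hc1] at B; linear_combination B
    rcases mul_eq_zero.mp this with h | h
    · exact hl h
    · exact ha1 (by linear_combination -h)
  by_cases e2 : l = s2
  · have A1 := star i l
    have A2 := star i s1
    have B1 := star z₁ l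
    have B2 := star z₁ s1
    rw [← hs1] at A1 B1
    rw [← hs2, ← e2] at A2 B2
    rw [hi_δ] at A1 A2
    rw [hz_δ] at B1 B2
    have hc1 : c s1 * c l = 1 := by
      have : (g : Matrix ι ι F) i l * (c s1 * c l - 1) = 0 := by
        linear_combination c l * A2 + A1
      rcases mul_eq_zero.mp this with h | h
      · exact absurd h hil
      · linear_combination h
    have : (g : Matrix ι ι F) z₁ l * (1 - a ^ 2) = 0 := by
      linear_combination c l * B2 + a * B1 - (g : Matrix ι ι F) z₁ l * hc1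
    rcases mul_eq_zero.mp this with h | h
    · exact hl h
    · exact ha2 (by linear_combination -h)
  by_cases e3 : l = s3
  · have A1 := star i l
    have A2 := star i s1
    have A3 := star i s2
    have B1 := star z₁ l
    have B2 := star z₁ s1
    have B3 := star z₁ s2
    rw [← hs1] at A1 B1
    rw [← hs2] at A2 B2
    rw [← hs3, ← e3] at A3 B3
    rw [hi_δ] at A1 A2 A3
    rw [hz_δ] at B1 B2 B3
    have hc1 : c s2 * c s1 * c l = 1 := by
      have : (g : Matrix ι ι F) i l * (c s2 * c s1 * c l - 1) = 0 := by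
        linear_combination c s1 * c l * A3 + c l * A2 + A1
      rcases mul_eq_zero.mp this with h | h
      · exact absurd h hil
      · linear_combination h
    have : (g : Matrix ι ι F) z₁ l * (1 - a ^ 3) = 0 := by
      linear_combination c s1 * c l * B3 + a * c l * B2 + a ^ 2 * B1
        - (g : Matrix ι ι F) z₁ l * hc1
    rcases mul_eq_zero.mp this with h | h
    · exact hl h
    · exact ha3 (by linear_combination -h)
  rw [Matrix.one_apply_ne e1, Matrix.one_apply_ne e2, Matrix.one_apply_ne e3,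
    Matrix.one_apply_eq] at key
  simp at key

lemma exists_row_ne_zero (g : GL ι F) (i : ι) : ∃ l, (g : Matrix ι ι F) i l ≠ 0 := by
  by_contra hcon
  push Not at hcon
  have h1 := mul_inv_apply g i i
  rw [Matrix.one_apply_eq, Finset.sum_eq_zero] at h1
  · exact zero_ne_one h1
  · intro r _
    rw [hcon r, zero_mul]

/-- **Elements of `K` with a column having two zeros are monomial.** -/
theorem e1 (hq : 5 ≤ Fintype.card F) (hn : 6 ≤ Fintype.card ι) {K : Subgroup (GL ι F)}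
    (hK : Hyp K) {g : GL ι F} (hg : g ∈ K) {j z₁ z₂ : ι} (hz : z₁ ≠ z₂)
    (h1 : (g : Matrix ι ι F) z₁ j = 0) (h2 : (g : Matrix ι ι F) z₂ j = 0) : g ∈ monoGL ι F := by
  classical
  have hn5 : 5 ≤ Fintype.card ι := by omega
  obtain ⟨l₁, hl₁⟩ := exists_row_ne_zero g z₁
  have hcol : ∀ i, i ≠ z₁ → i ≠ z₂ → (g : Matrix ι ι F) i l₁ = 0 :=
    fun i hi1 hi2 => e1_aux hq hn5 hK hg hz h1 h2 hl₁ hi1 hi2
  by_cases hw : (g : Matrix ι ι F) z₂ l₁ = 0
  · apply col_single hq hn5 hK hg (i0 := z₁) (l := l₁)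
    intro r hr
    by_cases hr2 : r = z₂
    · rw [hr2]; exact hw
    · exact hcol r hr hr2
  · -- three more indices
    obtain ⟨i, hi⟩ : ∃ l, l ∉ ({z₁, z₂} : Finset ι) := by
      by_contra hcon
      push Not at hcon
      have : (Finset.univ : Finset ι) ⊆ {z₁, z₂} := fun r _ => hcon r
      have := Finset.card_le_card this
      rw [Finset.card_univ] at this
      have : ({z₁, z₂} : Finset ι).card ≤ 2 := Finset.card_le_two
      omega
    obtain ⟨i', hi'⟩ : ∃ l, l ∉ ({z₁, z₂, i} : Finset ι) := by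
      by_contra hcon
      push Not at hcon
      have : (Finset.univ : Finset ι) ⊆ {z₁, z₂, i} := fun r _ => hcon r
      have := Finset.card_le_card this
      rw [Finset.card_univ] at this
      have : ({z₁, z₂, i} : Finset ι).card ≤ 3 := Finset.card_le_three
      omega
    obtain ⟨i'', hi''⟩ : ∃ l, l ∉ ({z₁, z₂, i, i'} : Finset ι) := by
      by_contra hcon
      push Not at hcon
      have : (Finset.univ : Finset ι) ⊆ {z₁, z₂, i, i'} := fun r _ => hcon r
      have := Finset.card_le_card this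
      rw [Finset.card_univ] at this
      have : ({z₁, z₂, i, i'} : Finset ι).card ≤ 4 := Finset.card_le_four
      omega
    simp only [Finset.mem_insert, Finset.mem_singleton, not_or] at hi hi' hi''
    obtain ⟨l, hl⟩ := exists_row_ne_zero g i
    apply col_single hq hn5 hK hg (i0 := i) (l := l)
    intro r hr
    by_cases hr' : r = i'
    · subst hr'
      exact e1_aux hq hn5 hK hg (j := l₁) (z₁ := i) (z₂ := i'') (Ne.symm hi''.2.2.1)
        (hcol i hi.1 hi.2) (hcol i'' hi''.1 hi''.2.1) hl hr (Ne.symm hi''.2.2.2)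
    · exact e1_aux hq hn5 hK hg (j := l₁) (z₁ := i) (z₂ := i') (Ne.symm hi'.2.2)
        (hcol i hi.1 hi.2) (hcol i' hi'.1 hi'.2.1) hl hr hr'


/-! ### the analytic part -/

lemma tD_inv (i j : ι) (a : F) (ha : a ≠ 0) :
    (tD i j a ha)⁻¹ = tD i j a⁻¹ (inv_ne_zero ha) := by
  apply Units.ext
  rw [tD, diagU_inv_val, tD, diagU_val]
  congr 1
  funext l
  unfold tδ
  split_ifs <;> simp

lemma conj_tD_apply (g : GL ι F) {l₁ l₂ : ι} (hl : l₁ ≠ l₂) (a : F) (ha : a ≠ 0) (u v : ι) :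
    ((g * tD l₁ l₂ a ha * g⁻¹ : GL ι F) : Matrix ι ι F) u v =
      (1 : Matrix ι ι F) u v
        + (a - 1) * ((g : Matrix ι ι F) u l₁ * ((g⁻¹ : GL ι F) : Matrix ι ι F) l₁ v)
        + (a⁻¹ - 1) * ((g : Matrix ι ι F) u l₂ * ((g⁻¹ : GL ι F) : Matrix ι ι F) l₂ v) := by
  rw [tD, conj_diag_apply, sum_diag_split, Finset.sum_eq_add l₁ l₂ hl, tδ_left, tδ_right hl,
    add_assoc]
  · intro c _ hc; rw [tδ_of_ne a hc.1 hc.2, sub_self, zero_mul]
  · intro h; exact absurd (Finset.mem_univ _) h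
  · intro h; exact absurd (Finset.mem_univ _) h

lemma alg_S (a κ p₁ p₂ q₁ q₂ : F) (ha : a ≠ 0) (hq₁ : q₁ ≠ 0) (hq₂ : q₂ ≠ 0) :
    (a - 1) * (p₁ * (κ / q₁)) + (a⁻¹ - 1) * (p₂ * (κ / q₂)) =
      κ * (a - 1) * (a * p₁ * q₂ - p₂ * q₁) / (a * q₁ * q₂) := by
  field_simp
  ring

lemma alg_S' (a κ p₁ p₂ q₁ q₂ : F) (ha : a ≠ 0) (hp₁ : p₁ ≠ 0) (hp₂ : p₂ ≠ 0) :
    (a⁻¹ - 1) * (q₁ * (κ / p₁)) + (a - 1) * (q₂ * (κ / p₂)) =
      κ * (a - 1) * (a * p₁ * q₂ - p₂ * q₁) / (a * p₁ * p₂) := by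
  field_simp
  ring

lemma alg_key (a κ p₁ p₂ p₁' p₂' q₁ q₂ : F) (ha : a ≠ 0) (ha1 : a ≠ 1) (hκ : κ ≠ 0)
    (hp₁ : p₁ ≠ 0) (hp₂ : p₂ ≠ 0) (hp₁' : p₁' ≠ 0) (hp₂' : p₂' ≠ 0) (hq₁ : q₁ ≠ 0) (hq₂ : q₂ ≠ 0)
    (hne : p₁ * p₂' ≠ p₁' * p₂)
    (h : (κ * (a - 1) * (a * p₁ * q₂ - p₂ * q₁) / (a * q₁ * q₂)) *
        (κ * (a - 1) * (a * p₁ * q₂ - p₂ * q₁) / (a * p₁ * p₂)) =
      (κ * (a - 1) * (a * p₁' * q₂ - p₂' * q₁) / (a * q₁ * q₂)) *
        (κ * (a - 1) * (a * p₁' * q₂ - p₂' * q₁) / (a * p₁' * p₂'))) :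
    a ^ 2 * q₂ ^ 2 * p₁ * p₁' = q₁ ^ 2 * p₂ * p₂' := by
  have ha1' : a - 1 ≠ 0 := sub_ne_zero.mpr ha1
  have h2 : (a * p₁ * q₂ - p₂ * q₁) ^ 2 * (p₁' * p₂') =
      (a * p₁' * q₂ - p₂' * q₁) ^ 2 * (p₁ * p₂) := by
    field_simp at h
    linear_combination h
  have h4 : (p₁ * p₂' - p₁' * p₂) * (a ^ 2 * q₂ ^ 2 * p₁ * p₁' - q₁ ^ 2 * p₂ * p₂') = 0 := by
    linear_combination h2
  rcases mul_eq_zero.mp h4 with h5 | h5
  · exact absurd (sub_eq_zero.mp h5) hne
  · exact sub_eq_zero.mp h5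

lemma exists_not_mem_of_card_lt (s : Finset F) (h : s.card < Fintype.card F) : ∃ a, a ∉ s := by
  classical
  by_contra hcon
  push Not at hcon
  have : s = Finset.univ := Finset.eq_univ_iff_forall.mpr hcon
  rw [this, Finset.card_univ] at h
  omega

/-- **All-nonzero `3 × 2` blocks of elements of `K` have rank one** (`|F| ≥ 7`). -/
theorem theta (hq : 7 ≤ Fintype.card F) (hn : 5 ≤ Fintype.card ι) {K : Subgroup (GL ι F)}
    (hK : Hyp K) {g : GL ι F} (hg : g ∈ K) {l₁ l₂ i i' j : ι} (hl : l₁ ≠ l₂) (hij : i ≠ j)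
    (hi'j : i' ≠ j)
    (hp₁ : (g : Matrix ι ι F) i l₁ ≠ 0) (hp₂ : (g : Matrix ι ι F) i l₂ ≠ 0)
    (hp₁' : (g : Matrix ι ι F) i' l₁ ≠ 0) (hp₂' : (g : Matrix ι ι F) i' l₂ ≠ 0)
    (hq₁ : (g : Matrix ι ι F) j l₁ ≠ 0) (hq₂ : (g : Matrix ι ι F) j l₂ ≠ 0) :
    (g : Matrix ι ι F) i l₁ * (g : Matrix ι ι F) i' l₂ =
      (g : Matrix ι ι F) i' l₁ * (g : Matrix ι ι F) i l₂ := by
  classical
  have hq5 : 5 ≤ Fintype.card F := by omega
  by_contra hne
  set p₁ := (g : Matrix ι ι F) i l₁ with hp₁d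
  set p₂ := (g : Matrix ι ι F) i l₂ with hp₂d
  set p₁' := (g : Matrix ι ι F) i' l₁ with hp₁'d
  set p₂' := (g : Matrix ι ι F) i' l₂ with hp₂'d
  set q₁ := (g : Matrix ι ι F) j l₁ with hq₁d
  set q₂ := (g : Matrix ι ι F) j l₂ with hq₂d
  set κ := q₁ * ((g⁻¹ : GL ι F) : Matrix ι ι F) l₁ j with hκd
  have hκ : κ ≠ 0 := mul_ne_zero hq₁ (inv_ne_zero_of_ne_zero hq5 hn hK hg hq₁)
  have rj := recip_row hq5 hn hK hg j l₁ l₂ hq₁ hq₂
  have e1j : ((g⁻¹ : GL ι F) : Matrix ι ι F) l₁ j = κ / q₁ := by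
    rw [eq_div_iff hq₁, hκd]; ring
  have e2j : ((g⁻¹ : GL ι F) : Matrix ι ι F) l₂ j = κ / q₂ := by
    rw [eq_div_iff hq₂, hκd]; linear_combination -rj
  have e1i : ((g⁻¹ : GL ι F) : Matrix ι ι F) l₁ i = κ / p₁ := by
    have := recip hq5 hn hK hg l₁ i j hp₁ hq₁
    rw [eq_div_iff hp₁, hκd]; linear_combination this
  have e2i : ((g⁻¹ : GL ι F) : Matrix ι ι F) l₂ i = κ / p₂ := by
    have := recip hq5 hn hK hg l₂ i j hp₂ hq₂
    rw [eq_div_iff hp₂, hκd]; linear_combination this - rj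
  have e1i' : ((g⁻¹ : GL ι F) : Matrix ι ι F) l₁ i' = κ / p₁' := by
    have := recip hq5 hn hK hg l₁ i' j hp₁' hq₁
    rw [eq_div_iff hp₁', hκd]; linear_combination this
  have e2i' : ((g⁻¹ : GL ι F) : Matrix ι ι F) l₂ i' = κ / p₂' := by
    have := recip hq5 hn hK hg l₂ i' j hp₂' hq₂
    rw [eq_div_iff hp₂', hκd]; linear_combination this - rj
  have main : ∀ a : F, a ≠ 0 → a ≠ 1 → a * p₁ * q₂ ≠ p₂ * q₁ → a * p₁' * q₂ ≠ p₂' * q₁ →
      a ^ 2 * q₂ ^ 2 * p₁ * p₁' = q₁ ^ 2 * p₂ * p₂' := by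
    intro a ha ha1 hg1 hg2
    set s : GL ι F := g * tD l₁ l₂ a ha * g⁻¹ with hs
    have hsK : s ∈ K := K.mul_mem (K.mul_mem hg (tD_mem hK hl ha)) (K.inv_mem hg)
    have hsinv : s⁻¹ = g * tD l₁ l₂ a⁻¹ (inv_ne_zero ha) * g⁻¹ := by
      rw [← tD_inv l₁ l₂ a ha, hs]; group
    have s_ij : (s : Matrix ι ι F) i j =
        κ * (a - 1) * (a * p₁ * q₂ - p₂ * q₁) / (a * q₁ * q₂) := by
      rw [hs, conj_tD_apply g hl a ha, Matrix.one_apply_ne hij, zero_add, e1j, e2j]
      exact alg_S a κ p₁ p₂ q₁ q₂ ha hq₁ hq₂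
    have s_i'j : (s : Matrix ι ι F) i' j =
        κ * (a - 1) * (a * p₁' * q₂ - p₂' * q₁) / (a * q₁ * q₂) := by
      rw [hs, conj_tD_apply g hl a ha, Matrix.one_apply_ne hi'j, zero_add, e1j, e2j]
      exact alg_S a κ p₁' p₂' q₁ q₂ ha hq₁ hq₂
    have si_ji : ((s⁻¹ : GL ι F) : Matrix ι ι F) j i =
        κ * (a - 1) * (a * p₁ * q₂ - p₂ * q₁) / (a * p₁ * p₂) := by
      rw [hsinv, conj_tD_apply g hl a⁻¹ (inv_ne_zero ha), Matrix.one_apply_ne (Ne.symm hij),
        zero_add, inv_inv, e1i, e2i]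
      exact alg_S' a κ p₁ p₂ q₁ q₂ ha hp₁ hp₂
    have si_ji' : ((s⁻¹ : GL ι F) : Matrix ι ι F) j i' =
        κ * (a - 1) * (a * p₁' * q₂ - p₂' * q₁) / (a * p₁' * p₂') := by
      rw [hsinv, conj_tD_apply g hl a⁻¹ (inv_ne_zero ha), Matrix.one_apply_ne (Ne.symm hi'j),
        zero_add, inv_inv, e1i', e2i']
      exact alg_S' a κ p₁' p₂' q₁ q₂ ha hp₁' hp₂'
    have ha1' : a - 1 ≠ 0 := sub_ne_zero.mpr ha1
    have hs1 : (s : Matrix ι ι F) i j ≠ 0 := by
      rw [s_ij]
      exact div_ne_zero (mul_ne_zero (mul_ne_zero hκ ha1') (sub_ne_zero.mpr hg1))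
        (mul_ne_zero (mul_ne_zero ha hq₁) hq₂)
    have hs2 : (s : Matrix ι ι F) i' j ≠ 0 := by
      rw [s_i'j]
      exact div_ne_zero (mul_ne_zero (mul_ne_zero hκ ha1') (sub_ne_zero.mpr hg2))
        (mul_ne_zero (mul_ne_zero ha hq₁) hq₂)
    have R := recip hq5 hn hK hsK j i i' hs1 hs2
    rw [s_ij, s_i'j, si_ji, si_ji'] at R
    exact alg_key a κ p₁ p₂ p₁' p₂' q₁ q₂ ha ha1 hκ hp₁ hp₂ hp₁' hp₂' hq₁ hq₂ hne R
  obtain ⟨a₁, h₁⟩ := exists_not_mem_of_card_lt
    ({0, 1, p₂ * q₁ / (p₁ * q₂), p₂' * q₁ / (p₁' * q₂)} : Finset F)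
    (lt_of_le_of_lt Finset.card_le_four (by omega))
  obtain ⟨a₂, h₂⟩ := exists_not_mem_of_card_lt
    ({0, 1, p₂ * q₁ / (p₁ * q₂), p₂' * q₁ / (p₁' * q₂), a₁, -a₁} : Finset F)
    (lt_of_le_of_lt Finset.card_le_six (by omega))
  simp only [Finset.mem_insert, Finset.mem_singleton, not_or] at h₁ h₂
  have good : ∀ a : F, a ≠ p₂ * q₁ / (p₁ * q₂) → a * p₁ * q₂ ≠ p₂ * q₁ := by
    intro a ha h
    apply ha
    rw [eq_div_iff (mul_ne_zero hp₁ hq₂)]
    linear_combination h
  have good' : ∀ a : F, a ≠ p₂' * q₁ / (p₁' * q₂) → a * p₁' * q₂ ≠ p₂' * q₁ := by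
    intro a ha h
    apply ha
    rw [eq_div_iff (mul_ne_zero hp₁' hq₂)]
    linear_combination h
  have m1 := main a₁ h₁.1 h₁.2.1 (good a₁ h₁.2.2.1) (good' a₁ h₁.2.2.2)
  have m2 := main a₂ h₂.1 h₂.2.1 (good a₂ h₂.2.2.1) (good' a₂ h₂.2.2.2.1)
  have : (a₂ - a₁) * (a₂ + a₁) * (q₂ ^ 2 * p₁ * p₁') = 0 := by linear_combination m2 - m1
  rcases mul_eq_zero.mp this with h | h
  · rcases mul_eq_zero.mp h with h' | h'
    · exact h₂.2.2.2.2.1 (by linear_combination h')
    · exact h₂.2.2.2.2.2 (by linear_combination h')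
  · exact absurd h (mul_ne_zero (mul_ne_zero (pow_ne_zero 2 hq₂) hp₁) hp₁')


lemma exists_four (s : Finset ι) (h : 4 ≤ s.card) :
    ∃ a ∈ s, ∃ b ∈ s, ∃ c ∈ s, ∃ d ∈ s, a ≠ b ∧ a ≠ c ∧ a ≠ d ∧ b ≠ c ∧ b ≠ d ∧ c ≠ d := by
  classical
  obtain ⟨a, ha⟩ : s.Nonempty := Finset.card_pos.mp (by omega)
  have h2 : 2 < (s.erase a).card := by
    rw [Finset.card_erase_of_mem ha]; omega
  obtain ⟨b, hb, c, hc, d, hd, hbc, hbd, hcd⟩ := Finset.two_lt_card.mp h2
  rw [Finset.mem_erase] at hb hc hd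
  exact ⟨a, ha, b, hb.2, c, hc.2, d, hd.2, Ne.symm hb.1, Ne.symm hc.1, Ne.symm hd.1, hbc, hbd, hcd⟩

lemma card_filter_and_ge (P Q : ι → Prop) [DecidablePred P] [DecidablePred Q]
    (hP : (Finset.univ.filter (fun r => ¬ P r)).card ≤ 1)
    (hQ : (Finset.univ.filter (fun r => ¬ Q r)).card ≤ 1) :
    Fintype.card ι ≤ (Finset.univ.filter (fun r => P r ∧ Q r)).card + 2 := by
  classical
  have hsub : (Finset.univ : Finset ι) ⊆ Finset.univ.filter (fun r => P r ∧ Q r) ∪
      (Finset.univ.filter (fun r => ¬ P r) ∪ Finset.univ.filter (fun r => ¬ Q r)) := by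
    intro r _
    simp only [Finset.mem_union, Finset.mem_filter, Finset.mem_univ, true_and]
    tauto
  have h1 := Finset.card_le_card hsub
  have h2 := Finset.card_union_le (Finset.univ.filter (fun r => P r ∧ Q r))
    (Finset.univ.filter (fun r => ¬ P r) ∪ Finset.univ.filter (fun r => ¬ Q r))
  have h3 := Finset.card_union_le (Finset.univ.filter (fun r => ¬ P r))
    (Finset.univ.filter (fun r => ¬ Q r))
  rw [Finset.card_univ] at h1
  omega

lemma exists_good_a2 (hq : 5 ≤ Fintype.card F) (κ : F) (hκ : κ ≠ 0) :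
    ∃ a : F, a ≠ 0 ∧ a ≠ 1 ∧ κ * (a - 1) ^ 2 + a ≠ 0 := by
  classical
  set P : Polynomial F := Polynomial.C κ * Polynomial.X ^ 2 + Polynomial.C (1 - 2 * κ) * Polynomial.X
    + Polynomial.C κ with hP
  have hP0 : P ≠ 0 := by
    intro h
    have := congrArg (fun p => Polynomial.coeff p 0) h
    simp [hP] at this
    exact hκ this
  have hdeg : P.natDegree ≤ 2 := by
    rw [hP]; compute_degree
  have hcard : P.roots.toFinset.card ≤ 2 :=
    le_trans (Multiset.toFinset_card_le _) (le_trans (Polynomial.card_roots' P) hdeg)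
  obtain ⟨a, ha⟩ := exists_not_mem_of_card hq (insert 0 (insert 1 P.roots.toFinset)) (by
    refine le_trans (Finset.card_insert_le _ _) ?_
    refine Nat.succ_le_succ (le_trans (Finset.card_insert_le _ _) ?_)
    omega)
  simp only [Finset.mem_insert, Multiset.mem_toFinset, not_or] at ha
  refine ⟨a, ha.1, ha.2.1, fun h => ha.2.2 ?_⟩
  rw [Polynomial.mem_roots hP0, Polynomial.IsRoot, hP]
  simp only [Polynomial.eval_add, Polynomial.eval_mul, Polynomial.eval_pow, Polynomial.eval_X,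
    Polynomial.eval_C]
  linear_combination h

/-- the contradiction for `|F| ≥ 7` -/
theorem seven_contra (hq : 7 ≤ Fintype.card F) (hn : 13 ≤ Fintype.card ι) {K : Subgroup (GL ι F)}
    (hK : Hyp K) {k : GL ι F} (hk : k ∈ K) (hkM : k ∉ monoGL ι F) : False := by
  classical
  have hq5 : 5 ≤ Fintype.card F := by omega
  have hn5 : 5 ≤ Fintype.card ι := by omega
  have hn6 : 6 ≤ Fintype.card ι := by omega
  have hcolz : ∀ j z₁ z₂, z₁ ≠ z₂ → (k : Matrix ι ι F) z₁ j = 0 → (k : Matrix ι ι F) z₂ j = 0 →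
      False := fun j z₁ z₂ hz h1 h2 => hkM (e1 hq5 hn6 hK hk hz h1 h2)
  obtain ⟨l₁, l₂, hl⟩ := Fintype.exists_pair_of_one_lt_card (by omega : 1 < Fintype.card ι)
  set R' : Finset ι := Finset.univ.filter
    (fun r => (k : Matrix ι ι F) r l₁ ≠ 0 ∧ (k : Matrix ι ι F) r l₂ ≠ 0) with hR'd
  have hR' : 4 ≤ R'.card := by
    have : Fintype.card ι ≤ R'.card + 2 := card_filter_and_ge (fun r => (k : Matrix ι ι F) r l₁ ≠ 0)
      (fun r => (k : Matrix ι ι F) r l₂ ≠ 0)
      (Finset.card_le_one.mpr (fun a ha b hb => by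
        by_contra hab
        rw [Finset.mem_filter] at ha hb
        exact hcolz l₁ a b hab (not_not.mp ha.2) (not_not.mp hb.2)))
      (Finset.card_le_one.mpr (fun a ha b hb => by
        by_contra hab
        rw [Finset.mem_filter] at ha hb
        exact hcolz l₂ a b hab (not_not.mp ha.2) (not_not.mp hb.2)))
    omega
  obtain ⟨i, hi, j, hj, j', hj', i'', hi'', n1, n2, n3, n4, n5, n6⟩ := exists_four R' hR'
  simp only [hR'd, Finset.mem_filter, Finset.mem_univ, true_and] at hi hj hj' hi''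
  set κ : F := (k : Matrix ι ι F) j l₁ * ((k⁻¹ : GL ι F) : Matrix ι ι F) l₁ j with hκd
  have hκ : κ ≠ 0 := mul_ne_zero hj.1 (inv_ne_zero_of_ne_zero hq5 hn5 hK hk hj.1)
  have rj := recip_row hq5 hn5 hK hk j l₁ l₂ hj.1 hj.2
  have inv1 : ∀ v, (k : Matrix ι ι F) v l₁ ≠ 0 →
      ((k⁻¹ : GL ι F) : Matrix ι ι F) l₁ v = κ / (k : Matrix ι ι F) v l₁ := by
    intro v hv
    have := recip hq5 hn5 hK hk l₁ v j hv hj.1
    rw [eq_div_iff hv, hκd]; linear_combination this
  have inv2 : ∀ v, (k : Matrix ι ι F) v l₂ ≠ 0 →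
      ((k⁻¹ : GL ι F) : Matrix ι ι F) l₂ v = κ / (k : Matrix ι ι F) v l₂ := by
    intro v hv
    have := recip hq5 hn5 hK hk l₂ v j hv hj.2
    rw [eq_div_iff hv, hκd]; linear_combination this - rj
  obtain ⟨a, ha0, ha1, ha2⟩ := exists_good_a2 hq5 κ hκ
  set c : F := κ * ((a - 1) + (a⁻¹ - 1)) with hcd
  have hac : a * c = κ * (a - 1) ^ 2 := by
    rw [hcd]; field_simp; ring
  have hc0 : c ≠ 0 := by
    intro h
    rw [h, mul_zero] at hac
    exact mul_ne_zero hκ (pow_ne_zero 2 (sub_ne_zero.mpr ha1)) hac.symm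
  have hc1 : 1 + c ≠ 0 := by
    intro h
    apply ha2
    have : a * (1 + c) = 0 := by rw [h, mul_zero]
    linear_combination this - hac
  set s : GL ι F := k * tD l₁ l₂ a ha0 * k⁻¹ with hs
  have hsK : s ∈ K := K.mul_mem (K.mul_mem hk (tD_mem hK hl ha0)) (K.inv_mem hk)
  have off : ∀ u v w, ((k : Matrix ι ι F) u l₁ ≠ 0 ∧ (k : Matrix ι ι F) u l₂ ≠ 0) →
      ((k : Matrix ι ι F) v l₁ ≠ 0 ∧ (k : Matrix ι ι F) v l₂ ≠ 0) →
      ((k : Matrix ι ι F) w l₁ ≠ 0 ∧ (k : Matrix ι ι F) w l₂ ≠ 0) → u ≠ v → u ≠ w → v ≠ w →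
      (s : Matrix ι ι F) u v = c * ((k : Matrix ι ι F) u l₁ / (k : Matrix ι ι F) v l₁) := by
    intro u v w hu hv hw huv huw hvw
    have hΘ := theta hq hn5 hK hk hl huw hvw hu.1 hu.2 hv.1 hv.2 hw.1 hw.2
    have e : (k : Matrix ι ι F) u l₂ / (k : Matrix ι ι F) v l₂ =
        (k : Matrix ι ι F) u l₁ / (k : Matrix ι ι F) v l₁ := by
      rw [div_eq_div_iff hv.2 hv.1]; linear_combination -hΘ
    rw [hs, conj_tD_apply k hl a ha0, Matrix.one_apply_ne huv, zero_add, inv1 v hv.1, inv2 v hv.2,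
      show (k : Matrix ι ι F) u l₂ * (κ / (k : Matrix ι ι F) v l₂) =
        κ * ((k : Matrix ι ι F) u l₂ / (k : Matrix ι ι F) v l₂) by ring, e, hcd]
    ring
  have dia : ∀ v, ((k : Matrix ι ι F) v l₁ ≠ 0 ∧ (k : Matrix ι ι F) v l₂ ≠ 0) →
      (s : Matrix ι ι F) v v = 1 + c := by
    intro v hv
    rw [hs, conj_tD_apply k hl a ha0, Matrix.one_apply_eq, inv1 v hv.1, inv2 v hv.2, hcd,
      mul_div_cancel₀ _ hv.1, mul_div_cancel₀ _ hv.2]
    ring
  have nz : ∀ u v, (k : Matrix ι ι F) u l₁ ≠ 0 → (k : Matrix ι ι F) v l₁ ≠ 0 →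
      c * ((k : Matrix ι ι F) u l₁ / (k : Matrix ι ι F) v l₁) ≠ 0 :=
    fun u v hu hv => mul_ne_zero hc0 (div_ne_zero hu hv)
  have s_ij := off i j j' hi hj hj' n1 n2 n4
  have s_ij' := off i j' j hi hj' hj n2 n1 (Ne.symm n4)
  have s_jj' := off j j' i hj hj' hi n4 (Ne.symm n1) (Ne.symm n2)
  have s_i''j := off i'' j i hi'' hj hi (Ne.symm n5) (Ne.symm n3) (Ne.symm n1)
  have s_i''j' := off i'' j' i hi'' hj' hi (Ne.symm n6) (Ne.symm n3) (Ne.symm n2)
  have s_jj := dia j hj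
  have hT := theta hq hn5 hK hsK (l₁ := j) (l₂ := j') (i := i) (i' := j) (j := i'') n4 n3 n5
    (by rw [s_ij]; exact nz _ _ hi.1 hj.1) (by rw [s_ij']; exact nz _ _ hi.1 hj'.1)
    (by rw [s_jj]; exact hc1) (by rw [s_jj']; exact nz _ _ hj.1 hj'.1)
    (by rw [s_i''j]; exact nz _ _ hi''.1 hj.1) (by rw [s_i''j']; exact nz _ _ hi''.1 hj'.1)
  rw [s_ij, s_jj', s_jj, s_ij'] at hT
  have hX : (k : Matrix ι ι F) i l₁ / (k : Matrix ι ι F) j l₁ *
      ((k : Matrix ι ι F) j l₁ / (k : Matrix ι ι F) j' l₁) =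
      (k : Matrix ι ι F) i l₁ / (k : Matrix ι ι F) j' l₁ := by
    have := hj.1
    have := hj'.1
    field_simp
  have : c * ((k : Matrix ι ι F) i l₁ / (k : Matrix ι ι F) j' l₁) = 0 := by
    rw [← hX]
    rw [← hX] at hT
    linear_combination (-1 : F) * hT
  exact nz _ _ hi.1 hj'.1 this


lemma conj_diag3_apply (g : GL ι F) (δ : ι → F) (hδ : ∀ i, δ i ≠ 0) {l₁ l₂ l₃ : ι}
    (h12 : l₁ ≠ l₂) (h13 : l₁ ≠ l₃) (h23 : l₂ ≠ l₃)
    (hδ1 : ∀ l, l ≠ l₁ → l ≠ l₂ → l ≠ l₃ → δ l = 1) (u v : ι) :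
    ((g * diagU δ hδ * g⁻¹ : GL ι F) : Matrix ι ι F) u v =
      (1 : Matrix ι ι F) u v
        + (δ l₁ - 1) * ((g : Matrix ι ι F) u l₁ * ((g⁻¹ : GL ι F) : Matrix ι ι F) l₁ v)
        + (δ l₂ - 1) * ((g : Matrix ι ι F) u l₂ * ((g⁻¹ : GL ι F) : Matrix ι ι F) l₂ v)
        + (δ l₃ - 1) * ((g : Matrix ι ι F) u l₃ * ((g⁻¹ : GL ι F) : Matrix ι ι F) l₃ v) := by
  classical
  rw [conj_diag_apply, sum_diag_split,
    ← Finset.sum_subset (Finset.subset_univ ({l₁, l₂, l₃} : Finset ι)), Finset.sum_insert,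
    Finset.sum_pair h23]
  · ring
  · simp only [Finset.mem_insert, Finset.mem_singleton, not_or]
    exact ⟨h12, h13⟩
  · intro l _ hl
    simp only [Finset.mem_insert, Finset.mem_singleton, not_or] at hl
    rw [hδ1 l hl.1 hl.2.1 hl.2.2, sub_self, zero_mul]

/-- the contradiction for `|F| = 5` -/
theorem five_contra (hq : Fintype.card F = 5) (hn : 13 ≤ Fintype.card ι) {K : Subgroup (GL ι F)}
    (hK : Hyp K) {k : GL ι F} (hk : k ∈ K) (hkM : k ∉ monoGL ι F) : False := by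
  classical
  have hq5 : 5 ≤ Fintype.card F := by omega
  have hn5 : 5 ≤ Fintype.card ι := by omega
  have hn6 : 6 ≤ Fintype.card ι := by omega
  have h5 : (5 : F) = 0 := by
    have := FiniteField.cast_card_eq_zero F
    rw [hq] at this
    exact_mod_cast this
  have h2 : (2 : F) ≠ 0 := by
    intro h
    have : (1 : F) = 0 := by linear_combination h5 - 2 * h
    exact one_ne_zero this
  have hrowz : ∀ i l l', l ≠ l' → (k : Matrix ι ι F) i l = 0 → (k : Matrix ι ι F) i l' = 0 →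
      False := by
    intro i l l' hll h1 h2'
    have h1' : ((k⁻¹ : GL ι F) : Matrix ι ι F) l i = 0 := by
      by_contra h
      exact ((supp_iff hq5 hn5 hK hk i l).mpr h) h1
    have h2'' : ((k⁻¹ : GL ι F) : Matrix ι ι F) l' i = 0 := by
      by_contra h
      exact ((supp_iff hq5 hn5 hK hk i l').mpr h) h2'
    have := e1 hq5 hn6 hK (K.inv_mem hk) hll h1' h2''
    have := (monoGL ι F).inv_mem this
    rw [inv_inv] at this
    exact hkM this
  obtain ⟨i, j, hij⟩ := Fintype.exists_pair_of_one_lt_card (by omega : 1 < Fintype.card ι)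
  set C : Finset ι := Finset.univ.filter
    (fun l => (k : Matrix ι ι F) i l ≠ 0 ∧ (k : Matrix ι ι F) j l ≠ 0) with hCd
  have hC : 11 ≤ C.card := by
    have : Fintype.card ι ≤ C.card + 2 := card_filter_and_ge (fun l => (k : Matrix ι ι F) i l ≠ 0)
      (fun l => (k : Matrix ι ι F) j l ≠ 0)
      (Finset.card_le_one.mpr (fun a ha b hb => by
        by_contra hab
        rw [Finset.mem_filter] at ha hb
        exact hrowz i a b hab (not_not.mp ha.2) (not_not.mp hb.2)))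
      (Finset.card_le_one.mpr (fun a ha b hb => by
        by_contra hab
        rw [Finset.mem_filter] at ha hb
        exact hrowz j a b hab (not_not.mp ha.2) (not_not.mp hb.2)))
    omega
  set f : ι → F := fun l => (k : Matrix ι ι F) i l / (k : Matrix ι ι F) j l with hfd
  have hf : ∀ l ∈ C, f l ∈ (Finset.univ.erase (0 : F)) := by
    intro l hl
    rw [hCd, Finset.mem_filter] at hl
    rw [Finset.mem_erase]
    exact ⟨div_ne_zero hl.2.1 hl.2.2, Finset.mem_univ _⟩
  have hcard : (Finset.univ.erase (0 : F)).card = 4 := by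
    rw [Finset.card_erase_of_mem (Finset.mem_univ _), Finset.card_univ, hq]
  obtain ⟨y, hy, hlt⟩ := Finset.exists_lt_card_fiber_of_mul_lt_card_of_maps_to hf (n := 2)
    (by rw [hcard]; omega)
  obtain ⟨l₁, hl₁, l₂, hl₂, l₃, hl₃, h12, h13, h23⟩ := Finset.two_lt_card.mp hlt
  simp only [hCd, Finset.mem_filter, Finset.mem_univ, true_and] at hl₁ hl₂ hl₃
  have hy0 : y ≠ 0 := (Finset.mem_erase.mp hy).1
  obtain ⟨⟨hi1, hj1⟩, hf1⟩ := hl₁
  obtain ⟨⟨hi2, hj2⟩, hf2⟩ := hl₂
  obtain ⟨⟨hi3, hj3⟩, hf3⟩ := hl₃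
  set κ : F := (k : Matrix ι ι F) j l₁ * ((k⁻¹ : GL ι F) : Matrix ι ι F) l₁ j with hκd
  have hκ : κ ≠ 0 := mul_ne_zero hj1 (inv_ne_zero_of_ne_zero hq5 hn5 hK hk hj1)
  -- the terms
  have term : ∀ l, (k : Matrix ι ι F) i l ≠ 0 → (k : Matrix ι ι F) j l ≠ 0 → f l = y →
      (k : Matrix ι ι F) i l * ((k⁻¹ : GL ι F) : Matrix ι ι F) l j = κ * y ∧
      (k : Matrix ι ι F) j l * ((k⁻¹ : GL ι F) : Matrix ι ι F) l i = κ / y := by
    intro l hil hjl hfl
    have r1 := recip_row hq5 hn5 hK hk j l₁ l hj1 hjl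
    have r2 := recip hq5 hn5 hK hk l i j hil hjl
    have e1 : ((k⁻¹ : GL ι F) : Matrix ι ι F) l j = κ / (k : Matrix ι ι F) j l := by
      rw [eq_div_iff hjl, hκd]; linear_combination -r1
    have e2 : ((k⁻¹ : GL ι F) : Matrix ι ι F) l i = κ / (k : Matrix ι ι F) i l := by
      rw [eq_div_iff hil, hκd]; linear_combination r2 - r1
    rw [e1, e2, ← hfl, hfd]
    constructor
    · field_simp
    · field_simp
  obtain ⟨t1, t1'⟩ := term l₁ hi1 hj1 hf1
  obtain ⟨t2, t2'⟩ := term l₂ hi2 hj2 hf2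
  obtain ⟨t3, t3'⟩ := term l₃ hi3 hj3 hf3
  set δ : ι → F := fun l => tδ l₁ l₃ 2 l * tδ l₂ l₃ 2 l with hδd
  have hδ0 : ∀ l, δ l ≠ 0 := fun l => mul_ne_zero (tδ_ne_zero _ _ h2 _) (tδ_ne_zero _ _ h2 _)
  have hδprod : ∏ l, δ l = 1 := by
    rw [hδd, Finset.prod_mul_distrib, prod_tδ h13 h2, prod_tδ h23 h2, one_mul]
  have hδ1 : δ l₁ = 2 := by
    rw [hδd]; simp only [tδ_left, tδ_of_ne (2 : F) h12 h13, mul_one]
  have hδ2 : δ l₂ = 2 := by
    rw [hδd]; simp only [tδ_left, tδ_of_ne (2 : F) (Ne.symm h12) h23, one_mul]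
  have hδ3 : δ l₃ = 2⁻¹ * 2⁻¹ := by
    rw [hδd]; simp only [tδ_right h13, tδ_right h23]
  have hδo : ∀ l, l ≠ l₁ → l ≠ l₂ → l ≠ l₃ → δ l = 1 := by
    intro l a1 a2 a3
    rw [hδd]; simp only [tδ_of_ne (2 : F) a1 a3, tδ_of_ne (2 : F) a2 a3, mul_one]
  set s : GL ι F := k * diagU δ hδ0 * k⁻¹ with hs
  have hsK : s ∈ K := K.mul_mem (K.mul_mem hk (diagU_mem hK δ hδ0 hδprod)) (K.inv_mem hk)
  have hsinv : s⁻¹ = k * diagU (fun i => (δ i)⁻¹) (fun i => inv_ne_zero (hδ0 i)) * k⁻¹ :=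
    conj_diag_inv k δ hδ0
  have s_ij : (s : Matrix ι ι F) i j = 0 := by
    rw [hs, conj_diag3_apply k δ hδ0 h12 h13 h23 hδo, Matrix.one_apply_ne hij, t1, t2, t3, hδ1,
      hδ2, hδ3]
    have e4 : (2 : F)⁻¹ * 2⁻¹ * 4 = 1 := by
      field_simp
      norm_num
    have : (4 : F) * (1 + 2⁻¹ * 2⁻¹) = 0 := by
      linear_combination h5 + e4
    have h4 : (4 : F) ≠ 0 := by
      intro h
      apply h2
      have : (2 : F) * 2 = 0 := by linear_combination h
      rcases mul_eq_zero.mp this with h' | h' <;> exact h'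
    have h' : (1 : F) + 2⁻¹ * 2⁻¹ = 0 := by
      rcases mul_eq_zero.mp this with h' | h'
      · exact absurd h' h4
      · exact h'
    linear_combination (κ * y) * h'
  have s_ji : ((s⁻¹ : GL ι F) : Matrix ι ι F) j i ≠ 0 := by
    rw [hsinv, conj_diag3_apply k _ _ h12 h13 h23
      (fun l a1 a2 a3 => by rw [hδo l a1 a2 a3, inv_one]),
      Matrix.one_apply_ne (Ne.symm hij), t1', t2', t3', hδ1, hδ2, hδ3]
    have : (0 : F) + (2⁻¹ - 1) * (κ / y) + (2⁻¹ - 1) * (κ / y) + ((2⁻¹ * 2⁻¹)⁻¹ - 1) * (κ / y) =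
        2 * (κ / y) := by
      field_simp
      ring
    rw [this]
    exact mul_ne_zero h2 (div_ne_zero hκ hy0)
  exact ((supp_iff hq5 hn5 hK hsK i j).mpr s_ji) s_ij

/-- **Main theorem**: `K` consists of monomial matrices. -/
theorem le_mono (hq : 5 ≤ Fintype.card F) (hn : 13 ≤ Fintype.card ι) {K : Subgroup (GL ι F)}
    (hK : Hyp K) : K ≤ monoGL ι F := by
  intro k hk
  by_contra hkM
  by_cases h5 : Fintype.card F = 5
  · exact five_contra h5 hn hK hk hkM
  · by_cases h7 : 7 ≤ Fintype.card F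
    · exact seven_contra h7 hn hK hk hkM
    · have h6 : Fintype.card F = 6 := by omega
      obtain ⟨p, -, n', hp, hpn⟩ := FiniteField.card' F
      rw [h6] at hpn
      have hp6 : p ∣ 6 := by
        rw [hpn]; exact dvd_pow_self p n'.ne_zero
      have hple : p ≤ 6 := Nat.le_of_dvd (by norm_num) hp6
      have hp2 : 2 ≤ p := hp.two_le
      interval_cases p
      · -- p = 2
        have : (n' : ℕ) ≤ 2 := by
          by_contra hcon
          push Not at hcon
          have : 2 ^ 3 ≤ 2 ^ (n' : ℕ) := Nat.pow_le_pow_right (by norm_num) hcon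
          omega
        have hn0 := n'.pos
        interval_cases (n' : ℕ) <;> omega
      · -- p = 3
        have : (n' : ℕ) ≤ 1 := by
          by_contra hcon
          push Not at hcon
          have : 3 ^ 2 ≤ 3 ^ (n' : ℕ) := Nat.pow_le_pow_right (by norm_num) hcon
          omega
        have hn0 := n'.pos
        interval_cases (n' : ℕ)
        omega
      · exact absurd hp (by norm_num)
      · exact absurd hp6 (by norm_num)
      · exact absurd hp (by norm_num)

end Cfsg.Agent.Lib.Helper98_MonoSL
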