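import Mathlib
import Cfsg.Agent.Lib.Helper98_MonoSL

/-!
helper25: SLG-A (architect helper29): the `|F| = 5` contradiction of `Helper98_MonoSL.five_contra`
for `6 ≤ |ι|`.
-/

set_option autoImplicit false
set_option linter.unusedSectionVars false
set_option linter.unusedSimpArgs false
set_option linter.unusedVariables false

namespace Cfsg.Agent.Lib.Helper25_SLG_A

open Matrix Cfsg.Agent.Lib.Helper98_MonoBase Cfsg.Agent.Lib.Helper98_MonoG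
  Cfsg.Agent.Lib.Helper98_MonoSL

/-! ### the two arithmetic facts over `ZMod 5` -/

set_option maxRecDepth 100000 in
theorem fact3Z : ∀ f₁ f₂ f₃ : ZMod 5, f₁ ≠ 0 → f₂ ≠ 0 → f₃ ≠ 0 →
    ∃ x₁ x₂ x₃ : ZMod 5, x₁ ≠ 0 ∧ x₂ ≠ 0 ∧ x₃ ≠ 0 ∧
      (x₁ - 1) * f₁ + (x₂ - 1) * f₂ + (x₃ - 1) * f₃ = 0 ∧
      (x₁⁻¹ - 1) * f₁⁻¹ + (x₂⁻¹ - 1) * f₂⁻¹ + (x₃⁻¹ - 1) * f₃⁻¹ ≠ 0 := by
  decide +kernel

set_option maxRecDepth 100000 in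
theorem fact5Z : ∀ f₂ f₃ f₄ f₅ : ZMod 5, f₂ ≠ 0 → f₃ ≠ 0 → f₄ ≠ 0 → f₅ ≠ 0 →
    ∃ x₁ x₂ x₃ x₄ : ZMod 5, x₁ ≠ 0 ∧ x₂ ≠ 0 ∧ x₃ ≠ 0 ∧ x₄ ≠ 0 ∧
      (x₁ - 1) * 1 + (x₂ - 1) * f₂ + (x₃ - 1) * f₃ + (x₄ - 1) * f₄ +
        ((x₁ * x₂ * x₃ * x₄)⁻¹ - 1) * f₅ = 0 ∧
      (x₁⁻¹ - 1) * 1 + (x₂⁻¹ - 1) * f₂⁻¹ + (x₃⁻¹ - 1) * f₃⁻¹ + (x₄⁻¹ - 1) * f₄⁻¹ +
        ((x₁ * x₂ * x₃ * x₄) - 1) * f₅⁻¹ ≠ 0 := by
  decide +kernel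

variable {F : Type*} [Field F] [Fintype F]

/-- FACT3 over a field with five elements -/
theorem fact3 (hq : Fintype.card F = 5) (f₁ f₂ f₃ : F) (h₁ : f₁ ≠ 0) (h₂ : f₂ ≠ 0)
    (h₃ : f₃ ≠ 0) :
    ∃ x₁ x₂ x₃ : F, x₁ ≠ 0 ∧ x₂ ≠ 0 ∧ x₃ ≠ 0 ∧
      (x₁ - 1) * f₁ + (x₂ - 1) * f₂ + (x₃ - 1) * f₃ = 0 ∧
      (x₁⁻¹ - 1) * f₁⁻¹ + (x₂⁻¹ - 1) * f₂⁻¹ + (x₃⁻¹ - 1) * f₃⁻¹ ≠ 0 := by
  have hp : Fact (Nat.Prime 5) := ⟨by norm_num⟩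
  let e : ZMod 5 ≃+* F := ZMod.ringEquivOfPrime F (by norm_num) hq
  have hne : ∀ f : F, f ≠ 0 → e.symm f ≠ 0 := fun f hf h =>
    hf (by rw [← e.apply_symm_apply f, h, map_zero])
  obtain ⟨x₁, x₂, x₃, hx₁, hx₂, hx₃, heq, hneq⟩ :=
    fact3Z (e.symm f₁) (e.symm f₂) (e.symm f₃) (hne _ h₁) (hne _ h₂) (hne _ h₃)
  refine ⟨e x₁, e x₂, e x₃, ?_, ?_, ?_, ?_, ?_⟩
  · exact fun h => hx₁ (by rwa [map_eq_zero_iff e e.injective] at h)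
  · exact fun h => hx₂ (by rwa [map_eq_zero_iff e e.injective] at h)
  · exact fun h => hx₃ (by rwa [map_eq_zero_iff e e.injective] at h)
  · have := congrArg e heq
    simpa [map_add, map_mul, map_sub] using this
  · intro h
    apply hneq
    apply e.injective
    simpa [map_add, map_mul, map_sub, map_inv₀] using h

/-- FACT5 over a field with five elements -/
theorem fact5 (hq : Fintype.card F = 5) (f₁ f₂ f₃ f₄ f₅ : F) (h₁ : f₁ ≠ 0) (h₂ : f₂ ≠ 0)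
    (h₃ : f₃ ≠ 0) (h₄ : f₄ ≠ 0) (h₅ : f₅ ≠ 0) :
    ∃ x₁ x₂ x₃ x₄ : F, x₁ ≠ 0 ∧ x₂ ≠ 0 ∧ x₃ ≠ 0 ∧ x₄ ≠ 0 ∧
      (x₁ - 1) * f₁ + (x₂ - 1) * f₂ + (x₃ - 1) * f₃ + (x₄ - 1) * f₄ +
        ((x₁ * x₂ * x₃ * x₄)⁻¹ - 1) * f₅ = 0 ∧
      (x₁⁻¹ - 1) * f₁⁻¹ + (x₂⁻¹ - 1) * f₂⁻¹ + (x₃⁻¹ - 1) * f₃⁻¹ + (x₄⁻¹ - 1) * f₄⁻¹ +
        ((x₁ * x₂ * x₃ * x₄) - 1) * f₅⁻¹ ≠ 0 := by
  have hp : Fact (Nat.Prime 5) := ⟨by norm_num⟩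
  let e : ZMod 5 ≃+* F := ZMod.ringEquivOfPrime F (by norm_num) hq
  have hne : ∀ f : F, f ≠ 0 → e.symm f ≠ 0 := fun f hf h =>
    hf (by rw [← e.apply_symm_apply f, h, map_zero])
  obtain ⟨x₁, x₂, x₃, x₄, hx₁, hx₂, hx₃, hx₄, heq, hneq⟩ :=
    fact5Z (e.symm (f₂ / f₁)) (e.symm (f₃ / f₁)) (e.symm (f₄ / f₁)) (e.symm (f₅ / f₁))
      (hne _ (div_ne_zero h₂ h₁)) (hne _ (div_ne_zero h₃ h₁)) (hne _ (div_ne_zero h₄ h₁))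
      (hne _ (div_ne_zero h₅ h₁))
  refine ⟨e x₁, e x₂, e x₃, e x₄, ?_, ?_, ?_, ?_, ?_, ?_⟩
  · exact fun h => hx₁ (by rwa [map_eq_zero_iff e e.injective] at h)
  · exact fun h => hx₂ (by rwa [map_eq_zero_iff e e.injective] at h)
  · exact fun h => hx₃ (by rwa [map_eq_zero_iff e e.injective] at h)
  · exact fun h => hx₄ (by rwa [map_eq_zero_iff e e.injective] at h)
  · have h0 := congrArg e heq
    simp only [map_add, map_mul, map_sub, map_one, map_zero, map_inv₀,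
      RingEquiv.apply_symm_apply] at h0
    have h1 : (e x₁ - 1) * f₁ + (e x₂ - 1) * f₂ + (e x₃ - 1) * f₃ + (e x₄ - 1) * f₄ +
        ((e x₁ * e x₂ * e x₃ * e x₄)⁻¹ - 1) * f₅ =
        f₁ * ((e x₁ - 1) * 1 + (e x₂ - 1) * (f₂ / f₁) + (e x₃ - 1) * (f₃ / f₁) +
          (e x₄ - 1) * (f₄ / f₁) + ((e x₁ * e x₂ * e x₃ * e x₄)⁻¹ - 1) * (f₅ / f₁)) := by
      field_simp
    rw [h1, h0, mul_zero]
  · intro h
    apply hneq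
    apply e.injective
    simp only [map_add, map_mul, map_sub, map_one, map_zero, map_inv₀,
      RingEquiv.apply_symm_apply]
    have h1 : (e x₁)⁻¹ - 1 + ((e x₂)⁻¹ - 1) * (f₂ / f₁)⁻¹ + ((e x₃)⁻¹ - 1) * (f₃ / f₁)⁻¹ +
        ((e x₄)⁻¹ - 1) * (f₄ / f₁)⁻¹ + (e x₁ * e x₂ * e x₃ * e x₄ - 1) * (f₅ / f₁)⁻¹ =
        f₁ * (((e x₁)⁻¹ - 1) * f₁⁻¹ + ((e x₂)⁻¹ - 1) * f₂⁻¹ + ((e x₃)⁻¹ - 1) * f₃⁻¹ +
          ((e x₄)⁻¹ - 1) * f₄⁻¹ + ((e x₁ * e x₂ * e x₃ * e x₄) - 1) * f₅⁻¹) := by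
      field_simp
    rw [mul_one, h1, h, mul_zero]

variable {ι : Type*} [Fintype ι] [DecidableEq ι]

lemma exists_five (s : Finset ι) (h : 5 ≤ s.card) :
    ∃ a ∈ s, ∃ b ∈ s, ∃ c ∈ s, ∃ d ∈ s, ∃ e ∈ s, a ≠ b ∧ a ≠ c ∧ a ≠ d ∧ a ≠ e ∧ b ≠ c ∧
      b ≠ d ∧ b ≠ e ∧ c ≠ d ∧ c ≠ e ∧ d ≠ e := by
  classical
  obtain ⟨a, ha⟩ : s.Nonempty := Finset.card_pos.mp (by omega)
  have h4 : 4 ≤ (s.erase a).card := by
    rw [Finset.card_erase_of_mem ha]; omega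
  obtain ⟨b, hb, c, hc, d, hd, e, he, n1, n2, n3, n4, n5, n6⟩ := exists_four _ h4
  rw [Finset.mem_erase] at hb hc hd he
  exact ⟨a, ha, b, hb.2, c, hc.2, d, hd.2, e, he.2, Ne.symm hb.1, Ne.symm hc.1, Ne.symm hd.1,
    Ne.symm he.1, n1, n2, n3, n4, n5, n6⟩

lemma conj_diag5_apply (g : GL ι F) (δ : ι → F) (hδ : ∀ i, δ i ≠ 0) {l₁ l₂ l₃ l₄ l₅ : ι}
    (h12 : l₁ ≠ l₂) (h13 : l₁ ≠ l₃) (h14 : l₁ ≠ l₄) (h15 : l₁ ≠ l₅) (h23 : l₂ ≠ l₃)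
    (h24 : l₂ ≠ l₄) (h25 : l₂ ≠ l₅) (h34 : l₃ ≠ l₄) (h35 : l₃ ≠ l₅) (h45 : l₄ ≠ l₅)
    (hδ1 : ∀ l, l ≠ l₁ → l ≠ l₂ → l ≠ l₃ → l ≠ l₄ → l ≠ l₅ → δ l = 1) (u v : ι) :
    ((g * diagU δ hδ * g⁻¹ : GL ι F) : Matrix ι ι F) u v =
      (1 : Matrix ι ι F) u v
        + ((δ l₁ - 1) * ((g : Matrix ι ι F) u l₁ * ((g⁻¹ : GL ι F) : Matrix ι ι F) l₁ v)
        + (δ l₂ - 1) * ((g : Matrix ι ι F) u l₂ * ((g⁻¹ : GL ι F) : Matrix ι ι F) l₂ v)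
        + (δ l₃ - 1) * ((g : Matrix ι ι F) u l₃ * ((g⁻¹ : GL ι F) : Matrix ι ι F) l₃ v)
        + (δ l₄ - 1) * ((g : Matrix ι ι F) u l₄ * ((g⁻¹ : GL ι F) : Matrix ι ι F) l₄ v)
        + (δ l₅ - 1) * ((g : Matrix ι ι F) u l₅ * ((g⁻¹ : GL ι F) : Matrix ι ι F) l₅ v)) := by
  classical
  rw [conj_diag_apply, sum_diag_split,
    ← Finset.sum_subset (Finset.subset_univ ({l₁, l₂, l₃, l₄, l₅} : Finset ι)),
    Finset.sum_insert (by simp [h12, h13, h14, h15]),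
    Finset.sum_insert (by simp [h23, h24, h25]),
    Finset.sum_insert (by simp [h34, h35]), Finset.sum_pair h45]
  · ring
  · intro l _ hl
    simp only [Finset.mem_insert, Finset.mem_singleton, not_or] at hl
    rw [hδ1 l hl.1 hl.2.1 hl.2.2.1 hl.2.2.2.1 hl.2.2.2.2, sub_self, zero_mul]

/-- the diagonal vector with `x₁,…,x₄` at `l₁,…,l₄` and the inverse of their product at `l₅` -/
lemma five_delta {l₁ l₂ l₃ l₄ l₅ : ι}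
    (h12 : l₁ ≠ l₂) (h13 : l₁ ≠ l₃) (h14 : l₁ ≠ l₄) (h15 : l₁ ≠ l₅) (h23 : l₂ ≠ l₃)
    (h24 : l₂ ≠ l₄) (h25 : l₂ ≠ l₅) (h34 : l₃ ≠ l₄) (h35 : l₃ ≠ l₅) (h45 : l₄ ≠ l₅)
    {x₁ x₂ x₃ x₄ : F} (hx₁ : x₁ ≠ 0) (hx₂ : x₂ ≠ 0) (hx₃ : x₃ ≠ 0) (hx₄ : x₄ ≠ 0) :
    ∃ δ : ι → F, (∀ l, δ l ≠ 0) ∧ ∏ l, δ l = 1 ∧ δ l₁ = x₁ ∧ δ l₂ = x₂ ∧ δ l₃ = x₃ ∧
      δ l₄ = x₄ ∧ δ l₅ = (x₁ * x₂ * x₃ * x₄)⁻¹ ∧
      ∀ l, l ≠ l₁ → l ≠ l₂ → l ≠ l₃ → l ≠ l₄ → l ≠ l₅ → δ l = 1 := by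
  refine ⟨fun l => tδ l₁ l₅ x₁ l * tδ l₂ l₅ x₂ l * tδ l₃ l₅ x₃ l * tδ l₄ l₅ x₄ l, ?_, ?_, ?_, ?_,
    ?_, ?_, ?_, ?_⟩
  · intro l
    exact mul_ne_zero (mul_ne_zero (mul_ne_zero (tδ_ne_zero _ _ hx₁ _) (tδ_ne_zero _ _ hx₂ _))
      (tδ_ne_zero _ _ hx₃ _)) (tδ_ne_zero _ _ hx₄ _)
  · rw [Finset.prod_mul_distrib, Finset.prod_mul_distrib, Finset.prod_mul_distrib,
      prod_tδ h15 hx₁, prod_tδ h25 hx₂, prod_tδ h35 hx₃, prod_tδ h45 hx₄]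
    simp
  · simp only [tδ_left, tδ_of_ne x₂ h12 h15, tδ_of_ne x₃ h13 h15, tδ_of_ne x₄ h14 h15, mul_one]
  · simp only [tδ_left, tδ_of_ne x₁ (Ne.symm h12) h25, tδ_of_ne x₃ h23 h25,
      tδ_of_ne x₄ h24 h25, mul_one, one_mul]
  · simp only [tδ_left, tδ_of_ne x₁ (Ne.symm h13) h35, tδ_of_ne x₂ (Ne.symm h23) h35,
      tδ_of_ne x₄ h34 h35, mul_one, one_mul]
  · simp only [tδ_left, tδ_of_ne x₁ (Ne.symm h14) h45, tδ_of_ne x₂ (Ne.symm h24) h45,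
      tδ_of_ne x₃ (Ne.symm h34) h45, mul_one, one_mul]
  · simp only [tδ_right h15, tδ_right h25, tδ_right h35, tδ_right h45, mul_inv]
  · intro l a1 a2 a3 a4 a5
    simp only [tδ_of_ne x₁ a1 a5, tδ_of_ne x₂ a2 a5, tδ_of_ne x₃ a3 a5, tδ_of_ne x₄ a4 a5,
      mul_one]

/-- the key step: a diagonal element supported on five columns gives the contradiction -/
lemma key (hq5 : 5 ≤ Fintype.card F) (hn5 : 5 ≤ Fintype.card ι) {K : Subgroup (GL ι F)}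
    (hK : Hyp K) {k : GL ι F} (hk : k ∈ K) {i j : ι} (hij : i ≠ j) {l₁ l₂ l₃ l₄ l₅ : ι}
    (h12 : l₁ ≠ l₂) (h13 : l₁ ≠ l₃) (h14 : l₁ ≠ l₄) (h15 : l₁ ≠ l₅) (h23 : l₂ ≠ l₃)
    (h24 : l₂ ≠ l₄) (h25 : l₂ ≠ l₅) (h34 : l₃ ≠ l₄) (h35 : l₃ ≠ l₅) (h45 : l₄ ≠ l₅)
    {x₁ x₂ x₃ x₄ : F} (hx₁ : x₁ ≠ 0) (hx₂ : x₂ ≠ 0) (hx₃ : x₃ ≠ 0) (hx₄ : x₄ ≠ 0)
    (h0 : (x₁ - 1) * ((k : Matrix ι ι F) i l₁ * ((k⁻¹ : GL ι F) : Matrix ι ι F) l₁ j)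
        + (x₂ - 1) * ((k : Matrix ι ι F) i l₂ * ((k⁻¹ : GL ι F) : Matrix ι ι F) l₂ j)
        + (x₃ - 1) * ((k : Matrix ι ι F) i l₃ * ((k⁻¹ : GL ι F) : Matrix ι ι F) l₃ j)
        + (x₄ - 1) * ((k : Matrix ι ι F) i l₄ * ((k⁻¹ : GL ι F) : Matrix ι ι F) l₄ j)
        + ((x₁ * x₂ * x₃ * x₄)⁻¹ - 1) *
          ((k : Matrix ι ι F) i l₅ * ((k⁻¹ : GL ι F) : Matrix ι ι F) l₅ j) = 0)
    (h1 : (x₁⁻¹ - 1) * ((k : Matrix ι ι F) j l₁ * ((k⁻¹ : GL ι F) : Matrix ι ι F) l₁ i)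
        + (x₂⁻¹ - 1) * ((k : Matrix ι ι F) j l₂ * ((k⁻¹ : GL ι F) : Matrix ι ι F) l₂ i)
        + (x₃⁻¹ - 1) * ((k : Matrix ι ι F) j l₃ * ((k⁻¹ : GL ι F) : Matrix ι ι F) l₃ i)
        + (x₄⁻¹ - 1) * ((k : Matrix ι ι F) j l₄ * ((k⁻¹ : GL ι F) : Matrix ι ι F) l₄ i)
        + ((x₁ * x₂ * x₃ * x₄) - 1) *
          ((k : Matrix ι ι F) j l₅ * ((k⁻¹ : GL ι F) : Matrix ι ι F) l₅ i) ≠ 0) : False := by
  classical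
  obtain ⟨δ, hδ0, hδprod, d1, d2, d3, d4, d5, hδo⟩ :=
    five_delta h12 h13 h14 h15 h23 h24 h25 h34 h35 h45 hx₁ hx₂ hx₃ hx₄
  set s : GL ι F := k * diagU δ hδ0 * k⁻¹ with hs
  have hsK : s ∈ K := K.mul_mem (K.mul_mem hk (diagU_mem hK δ hδ0 hδprod)) (K.inv_mem hk)
  have hsinv : s⁻¹ = k * diagU (fun i => (δ i)⁻¹) (fun i => inv_ne_zero (hδ0 i)) * k⁻¹ :=
    conj_diag_inv k δ hδ0
  have s_ij : (s : Matrix ι ι F) i j = 0 := by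
    rw [hs, conj_diag5_apply k δ hδ0 h12 h13 h14 h15 h23 h24 h25 h34 h35 h45 hδo,
      Matrix.one_apply_ne hij, d1, d2, d3, d4, d5, zero_add]
    exact h0
  have s_ji : ((s⁻¹ : GL ι F) : Matrix ι ι F) j i ≠ 0 := by
    rw [hsinv, conj_diag5_apply k _ _ h12 h13 h14 h15 h23 h24 h25 h34 h35 h45
      (fun l a1 a2 a3 a4 a5 => by rw [hδo l a1 a2 a3 a4 a5, inv_one]),
      Matrix.one_apply_ne (Ne.symm hij), d1, d2, d3, d4, d5, zero_add, inv_inv]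
    exact h1
  exact ((supp_iff hq5 hn5 hK hsK i j).mpr s_ji) s_ij

/-- the contradiction for `|F| = 5`, for `6 ≤ |ι|` -/
theorem five_contra6 (hq : Fintype.card F = 5) (hn : 6 ≤ Fintype.card ι) {K : Subgroup (GL ι F)}
    (hK : Hyp K) {k : GL ι F} (hk : k ∈ K) (hkM : k ∉ monoGL ι F) : False := by
  classical
  have hq5 : 5 ≤ Fintype.card F := by omega
  have hn5 : 5 ≤ Fintype.card ι := by omega
  have hn6 : 6 ≤ Fintype.card ι := by omega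
  have hrowz : ∀ i l l', l ≠ l' → (k : Matrix ι ι F) i l = 0 → (k : Matrix ι ι F) i l' = 0 →
      False := by
    intro i l l' hll h1 h2'
    have h1' : ((k⁻¹ : GL ι F) : Matrix ι ι F) l i = 0 := by
      by_contra h
      exact ((supp_iff hq5 hn5 hK hk i l).mpr h) h1
    have h2'' : ((k⁻¹ : GL ι F) : Matrix ι ι F) l' i = 0 := by
      by_contra h
      exact ((supp_iff hq5 hn5 hK hk i l').mpr h) h2'
    have := e1 hq5 hn6 hK (K.inv_mem hk) hll h1' h2''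
    have := (monoGL ι F).inv_mem this
    rw [inv_inv] at this
    exact hkM this
  obtain ⟨i, j, hij⟩ := Fintype.exists_pair_of_one_lt_card (by omega : 1 < Fintype.card ι)
  set C : Finset ι := Finset.univ.filter
    (fun l => (k : Matrix ι ι F) i l ≠ 0 ∧ (k : Matrix ι ι F) j l ≠ 0) with hCd
  have hC : 4 ≤ C.card := by
    have : Fintype.card ι ≤ C.card + 2 := card_filter_and_ge (fun l => (k : Matrix ι ι F) i l ≠ 0)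
      (fun l => (k : Matrix ι ι F) j l ≠ 0)
      (Finset.card_le_one.mpr (fun a ha b hb => by
        by_contra hab
        rw [Finset.mem_filter] at ha hb
        exact hrowz i a b hab (not_not.mp ha.2) (not_not.mp hb.2)))
      (Finset.card_le_one.mpr (fun a ha b hb => by
        by_contra hab
        rw [Finset.mem_filter] at ha hb
        exact hrowz j a b hab (not_not.mp ha.2) (not_not.mp hb.2)))
    omega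
  set f : ι → F := fun l => (k : Matrix ι ι F) i l / (k : Matrix ι ι F) j l with hfd
  obtain ⟨c₁, hc₁, c₂, hc₂, c₃, hc₃, c₄, hc₄, n12, n13, n14, n23, n24, n34⟩ := exists_four C hC
  have hmemC : ∀ l, l ∈ C ↔ ((k : Matrix ι ι F) i l ≠ 0 ∧ (k : Matrix ι ι F) j l ≠ 0) := by
    intro l
    rw [hCd, Finset.mem_filter]
    simp only [Finset.mem_univ, true_and]
  have hj1 : (k : Matrix ι ι F) j c₁ ≠ 0 := ((hmemC c₁).mp hc₁).2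
  set κ : F := (k : Matrix ι ι F) j c₁ * ((k⁻¹ : GL ι F) : Matrix ι ι F) c₁ j with hκd
  have hκ : κ ≠ 0 := mul_ne_zero hj1 (inv_ne_zero_of_ne_zero hq5 hn5 hK hk hj1)
  have hf0 : ∀ l ∈ C, f l ≠ 0 := by
    intro l hl
    exact div_ne_zero ((hmemC l).mp hl).1 ((hmemC l).mp hl).2
  -- the terms
  have term : ∀ l ∈ C,
      (k : Matrix ι ι F) i l * ((k⁻¹ : GL ι F) : Matrix ι ι F) l j = κ * f l ∧
      (k : Matrix ι ι F) j l * ((k⁻¹ : GL ι F) : Matrix ι ι F) l i = κ * (f l)⁻¹ := by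
    intro l hl
    obtain ⟨hil, hjl⟩ := (hmemC l).mp hl
    have r1 := recip_row hq5 hn5 hK hk j c₁ l hj1 hjl
    have r2 := recip hq5 hn5 hK hk l i j hil hjl
    have e1 : ((k⁻¹ : GL ι F) : Matrix ι ι F) l j = κ / (k : Matrix ι ι F) j l := by
      rw [eq_div_iff hjl, hκd]; linear_combination -r1
    have e2 : ((k⁻¹ : GL ι F) : Matrix ι ι F) l i = κ / (k : Matrix ι ι F) i l := by
      rw [eq_div_iff hil, hκd]; linear_combination r2 - r1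
    rw [e1, e2, hfd]
    constructor
    · field_simp
    · field_simp
  have termz : ∀ l, l ∉ C →
      (k : Matrix ι ι F) i l * ((k⁻¹ : GL ι F) : Matrix ι ι F) l j = 0 ∧
      (k : Matrix ι ι F) j l * ((k⁻¹ : GL ι F) : Matrix ι ι F) l i = 0 := by
    intro l hl
    rw [hmemC l, not_and_or, not_not, not_not] at hl
    rcases hl with h | h
    · refine ⟨by rw [h, zero_mul], ?_⟩
      have : ((k⁻¹ : GL ι F) : Matrix ι ι F) l i = 0 := by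
        by_contra h'
        exact ((supp_iff hq5 hn5 hK hk i l).mpr h') h
      rw [this, mul_zero]
    · refine ⟨?_, by rw [h, zero_mul]⟩
      have : ((k⁻¹ : GL ι F) : Matrix ι ι F) l j = 0 := by
        by_contra h'
        exact ((supp_iff hq5 hn5 hK hk j l).mpr h') h
      rw [this, mul_zero]
  by_cases hall : ∃ l₀, l₀ ∉ C
  · -- case (a)
    obtain ⟨l₀, hl₀⟩ := hall
    obtain ⟨t1, t1'⟩ := term c₁ hc₁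
    obtain ⟨t2, t2'⟩ := term c₂ hc₂
    obtain ⟨t3, t3'⟩ := term c₃ hc₃
    obtain ⟨t5, t5'⟩ := termz l₀ hl₀
    obtain ⟨x₁, x₂, x₃, hx₁, hx₂, hx₃, heq, hneq⟩ :=
      fact3 hq (f c₁) (f c₂) (f c₃) (hf0 _ hc₁) (hf0 _ hc₂) (hf0 _ hc₃)
    have m1 : c₁ ≠ l₀ := fun h => hl₀ (h ▸ hc₁)
    have m2 : c₂ ≠ l₀ := fun h => hl₀ (h ▸ hc₂)
    have m3 : c₃ ≠ l₀ := fun h => hl₀ (h ▸ hc₃)
    have m4 : c₄ ≠ l₀ := fun h => hl₀ (h ▸ hc₄)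
    refine key hq5 hn5 hK hk hij n12 n13 n14 m1 n23 n24 m2 n34 m3 m4 hx₁ hx₂ hx₃
      (one_ne_zero : (1 : F) ≠ 0) ?_ ?_
    · rw [t1, t2, t3, t5, sub_self, zero_mul, mul_zero, add_zero, add_zero]
      linear_combination κ * heq
    · rw [t1', t2', t3', t5', inv_one, sub_self, zero_mul, mul_zero, add_zero, add_zero]
      intro h
      apply hneq
      have : κ * ((x₁⁻¹ - 1) * (f c₁)⁻¹ + (x₂⁻¹ - 1) * (f c₂)⁻¹ + (x₃⁻¹ - 1) * (f c₃)⁻¹) = 0 := by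
        linear_combination h
      rcases mul_eq_zero.mp this with h' | h'
      · exact absurd h' hκ
      · exact h'
  · -- case (b)
    push Not at hall
    have hn5' : 5 ≤ (Finset.univ : Finset ι).card := by rw [Finset.card_univ]; omega
    obtain ⟨l₁, -, l₂, -, l₃, -, l₄, -, l₅, -, h12, h13, h14, h15, h23, h24, h25, h34, h35, h45⟩ :=
      exists_five (Finset.univ : Finset ι) hn5'
    obtain ⟨t1, t1'⟩ := term l₁ (hall l₁)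
    obtain ⟨t2, t2'⟩ := term l₂ (hall l₂)
    obtain ⟨t3, t3'⟩ := term l₃ (hall l₃)
    obtain ⟨t4, t4'⟩ := term l₄ (hall l₄)
    obtain ⟨t5, t5'⟩ := term l₅ (hall l₅)
    obtain ⟨x₁, x₂, x₃, x₄, hx₁, hx₂, hx₃, hx₄, heq, hneq⟩ :=
      fact5 hq (f l₁) (f l₂) (f l₃) (f l₄) (f l₅) (hf0 _ (hall l₁)) (hf0 _ (hall l₂))
        (hf0 _ (hall l₃)) (hf0 _ (hall l₄)) (hf0 _ (hall l₅))
    refine key hq5 hn5 hK hk hij h12 h13 h14 h15 h23 h24 h25 h34 h35 h45 hx₁ hx₂ hx₃ hx₄ ?_ ?_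
    · rw [t1, t2, t3, t4, t5]
      linear_combination κ * heq
    · rw [t1', t2', t3', t4', t5']
      intro h
      apply hneq
      have : κ * ((x₁⁻¹ - 1) * (f l₁)⁻¹ + (x₂⁻¹ - 1) * (f l₂)⁻¹ + (x₃⁻¹ - 1) * (f l₃)⁻¹ +
          (x₄⁻¹ - 1) * (f l₄)⁻¹ + ((x₁ * x₂ * x₃ * x₄) - 1) * (f l₅)⁻¹) = 0 := by
        linear_combination h
      rcases mul_eq_zero.mp this with h' | h'
      · exact absurd h' hκ
      · exact h'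

end Cfsg.Agent.Lib.Helper25_SLG_A
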