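import Mathlib

/-!
helper45: no finite simple group has exactly `2p+1` Sylow `p`-subgroups with `|P| ≥ p²` (p odd);
and if `|P| = p` then `C(P) = P`.  Counting arguments on the conjugation action on `Sylow p G`.
-/

set_option autoImplicit false
set_option linter.unusedSectionVars false

namespace Cfsg.Agent.Lib.Helper45_SylowTwoP

open Subgroup MulAction
open scoped Pointwise

variable {G : Type*} [Group G] [Finite G] {p : ℕ} [hp : Fact p.Prime]

/-- an element of `P` normalizing `Q` lies in `Q` -/
theorem mem_of_smul_eq (P Q : Sylow p G) {x : G} (hx : x ∈ (P : Subgroup G)) (h : x • Q = Q) :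
    x ∈ (Q : Subgroup G) := by
  have h1 : x ∈ (P : Subgroup G) ⊓ normalizer ((Q : Subgroup G) : Set G) :=
    ⟨hx, Sylow.smul_eq_iff_mem_normalizer.1 h⟩
  have h2 : (P : Subgroup G) ⊓ normalizer ((Q : Subgroup G) : Set G) = (P : Subgroup G) ⊓ Q :=
    P.isPGroup'.inf_normalizer_sylow Q
  rw [h2] at h1
  exact h1.2

theorem stabilizer_eq (P Q : Sylow p G) :
    stabilizer (P : Subgroup G) Q = (Q : Subgroup G).subgroupOf (P : Subgroup G) := by
  ext x
  rw [mem_stabilizer_iff, mem_subgroupOf]
  constructor
  · intro h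
    exact mem_of_smul_eq P Q x.2 h
  · intro h
    have : (x : G) • Q = Q := Sylow.smul_eq_iff_mem_normalizer.2 (le_normalizer h)
    exact this

theorem relIndex_eq_ncard_orbit (P Q : Sylow p G) :
    (Q : Subgroup G).relIndex (P : Subgroup G) = (orbit (P : Subgroup G) Q).ncard := by
  rw [← index_stabilizer, stabilizer_eq]
  rfl

theorem relIndex_pow (P Q : Sylow p G) : ∃ j : ℕ, (Q : Subgroup G).relIndex (P : Subgroup G) = p ^ j :=
  P.isPGroup'.index _

theorem relIndex_ne_one (P Q : Sylow p G) (h : P ≠ Q) : (Q : Subgroup G).relIndex (P : Subgroup G) ≠ 1 := by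
  intro h1
  rw [relIndex_eq_one] at h1
  apply h
  exact Sylow.ext (P.is_maximal' Q.isPGroup' h1).symm

theorem smul_self_of_mem (P : Sylow p G) {x : G} (hx : x ∈ (P : Subgroup G)) : x • P = P :=
  Sylow.smul_eq_iff_mem_normalizer.2 (le_normalizer hx)

theorem orbit_subset (P Q : Sylow p G) (h : P ≠ Q) :
    orbit (P : Subgroup G) Q ⊆ (Set.univ \ {P} : Set (Sylow p G)) := by
  rintro R ⟨x, rfl⟩
  refine ⟨Set.mem_univ _, ?_⟩
  intro hR
  rw [Set.mem_singleton_iff] at hR
  apply h
  have h1 : (x : G) • Q = P := hR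
  have h2 : (x : G)⁻¹ • ((x : G) • Q) = (x : G)⁻¹ • P := by rw [h1]
  rw [inv_smul_smul, smul_self_of_mem P (inv_mem x.2)] at h2
  exact h2.symm

/-- with `2p+1` Sylow subgroups, two distinct ones intersect in index `p` -/
theorem relIndex_eq_p (hodd : p ≠ 2) (hn : Nat.card (Sylow p G) = 2 * p + 1) (P Q : Sylow p G)
    (h : P ≠ Q) : (Q : Subgroup G).relIndex (P : Subgroup G) = p := by
  obtain ⟨j, hj⟩ := relIndex_pow P Q
  have h1 := relIndex_ne_one P Q h
  have h2 : (Q : Subgroup G).relIndex (P : Subgroup G) ≤ 2 * p := by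
    rw [relIndex_eq_ncard_orbit]
    calc (orbit (P : Subgroup G) Q).ncard ≤ (Set.univ \ {P} : Set (Sylow p G)).ncard :=
          Set.ncard_le_ncard (orbit_subset P Q h) (Set.toFinite _)
      _ = 2 * p := by
          rw [Set.ncard_sdiff_singleton_of_mem (Set.mem_univ _), Set.ncard_univ, hn]
          rfl
  rw [hj] at h1 h2 ⊢
  have hp2 : 3 ≤ p := by
    have := hp.out.two_le
    omega
  rcases j with _ | _ | j
  · exact absurd (pow_zero p) h1
  · exact pow_one p
  · exfalso
    have h3 : p ^ (j + 1 + 1) = p ^ j * (p * p) := by ring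
    have h4 : 1 ≤ p ^ j := Nat.one_le_pow _ _ (by omega)
    nlinarith

theorem card_inf_mul (hodd : p ≠ 2) (hn : Nat.card (Sylow p G) = 2 * p + 1) (P Q : Sylow p G)
    (h : P ≠ Q) : Nat.card ((P : Subgroup G) ⊓ Q : Subgroup G) * p = Nat.card (P : Subgroup G) := by
  have h1 := relIndex_eq_p hodd hn P Q h
  rw [← inf_relIndex_right, inf_comm] at h1
  have h2 : Nat.card ((P : Subgroup G) ⊓ Q : Subgroup G) * ((P : Subgroup G) ⊓ Q).relIndex (P : Subgroup G)
      = Nat.card (P : Subgroup G) := by
    rw [← relIndex_bot_left, ← relIndex_bot_left, relIndex_mul_relIndex _ _ _ bot_le inf_le_left]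
  rw [h1] at h2
  exact h2

theorem card_sylow_eq (P Q : Sylow p G) : Nat.card (P : Subgroup G) = Nat.card (Q : Subgroup G) := by
  rw [P.card_eq_multiplicity, Q.card_eq_multiplicity]

theorem normal_inf (hodd : p ≠ 2) (hn : Nat.card (Sylow p G) = 2 * p + 1) (P Q : Sylow p G)
    (h : P ≠ Q) : (((P : Subgroup G) ⊓ Q).subgroupOf (P : Subgroup G)).Normal := by
  apply normal_of_index_eq_minFac_card
  have h1 := relIndex_eq_p hodd hn P Q h
  rw [← inf_relIndex_right, inf_comm] at h1
  have h2 : (((P : Subgroup G) ⊓ Q).subgroupOf (P : Subgroup G)).index = p := h1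
  rw [h2]
  obtain ⟨a, ha⟩ := IsPGroup.iff_card.1 P.isPGroup'
  have ha0 : a ≠ 0 := by
    rintro rfl
    have h3 := card_inf_mul hodd hn P Q h
    rw [ha, pow_zero] at h3
    have := Nat.eq_one_of_mul_eq_one_left h3
    exact hp.out.one_lt.ne' this
  rw [ha, hp.out.pow_minFac ha0]

/-- the Sylow subgroups containing a subgroup `D` normal in `P`: their number is `≡ 1 mod p` -/
theorem card_over_modEq (P : Sylow p G) (D : Subgroup G) (hDP : D ≤ (P : Subgroup G))
    (hDn : (D.subgroupOf (P : Subgroup G)).Normal) :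
    Nat.card {R : Sylow p G // D ≤ (R : Subgroup G)} ≡ 1 [MOD p] := by
  let T : SubMulAction (P : Subgroup G) (Sylow p G) :=
    { carrier := {R | D ≤ (R : Subgroup G)}
      smul_mem' := by
        intro x R hR d hd
        have h1 : (x : G) • R = x • R := rfl
        rw [← h1, Sylow.coe_subgroup_smul, mem_pointwise_smul_iff_inv_smul_mem]
        apply hR
        have h2 := hDn.conj_mem ⟨d, hDP hd⟩ (mem_subgroupOf.2 hd) x⁻¹
        rw [mem_subgroupOf] at h2
        simpa [MulAut.smul_def] using h2 }
  have h1 := P.isPGroup'.card_modEq_card_fixedPoints T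
  have h2 : Nat.card (fixedPoints (P : Subgroup G) T) = 1 := by
    rw [Nat.card_eq_one_iff_unique]
    refine ⟨⟨?_⟩, ⟨⟨⟨P, hDP⟩, ?_⟩⟩⟩
    · rintro ⟨⟨R, hR⟩, hfR⟩ ⟨⟨R', hR'⟩, hfR'⟩
      have key : ∀ (R : Sylow p G) (hR : R ∈ T), (⟨R, hR⟩ : T) ∈ fixedPoints (P : Subgroup G) T → R = P := by
        intro R hR hf
        rw [mem_fixedPoints] at hf
        have hPR : (P : Subgroup G) ≤ (R : Subgroup G) := by
          intro x hx
          have h3 := congrArg Subtype.val (hf ⟨x, hx⟩)
          exact mem_of_smul_eq P R hx h3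
        exact Sylow.ext (P.is_maximal' R.isPGroup' hPR)
      have e1 := key R hR hfR
      have e2 := key R' hR' hfR'
      subst e1
      subst e2
      rfl
    · rw [mem_fixedPoints]
      intro x
      apply Subtype.ext
      exact smul_self_of_mem P x.2
  rw [h2] at h1
  exact h1

/-- the intersection of all Sylow `p`-subgroups is normal -/
theorem iInf_sylow_normal : (⨅ R : Sylow p G, (R : Subgroup G)).Normal := by
  refine ⟨fun k hk g => ?_⟩
  rw [mem_iInf] at hk ⊢
  intro R
  have h1 := hk (g⁻¹ • R)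
  rw [Sylow.coe_subgroup_smul, mem_pointwise_smul_iff_inv_smul_mem] at h1
  simpa [MulAut.smul_def, ← map_inv] using h1

theorem card_over_eq (hS : IsSimpleGroup G) (hodd : p ≠ 2) (hn : Nat.card (Sylow p G) = 2 * p + 1)
    (P Q : Sylow p G) (h : P ≠ Q) (hD : (P : Subgroup G) ⊓ Q ≠ ⊥) :
    Nat.card {R : Sylow p G // (P : Subgroup G) ⊓ Q ≤ (R : Subgroup G)} = p + 1 := by
  have h1 := card_over_modEq P ((P : Subgroup G) ⊓ Q) inf_le_left (normal_inf hodd hn P Q h)
  have h2 : Nat.card {R : Sylow p G // (P : Subgroup G) ⊓ Q ≤ (R : Subgroup G)} ≤ 2 * p + 1 := by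
    rw [← hn]
    exact Nat.card_le_card_of_injective _ Subtype.val_injective
  have h3 : 2 ≤ Nat.card {R : Sylow p G // (P : Subgroup G) ⊓ Q ≤ (R : Subgroup G)} := by
    by_contra hlt
    have hle : Nat.card {R : Sylow p G // (P : Subgroup G) ⊓ Q ≤ (R : Subgroup G)} ≤ 1 := by omega
    have hsub : Subsingleton {R : Sylow p G // (P : Subgroup G) ⊓ Q ≤ (R : Subgroup G)} :=
      (Finite.card_le_one_iff_subsingleton).1 hle
    have := @Subsingleton.elim _ hsub ⟨P, inf_le_left⟩ ⟨Q, inf_le_right⟩
    exact h (congrArg Subtype.val this)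
  have h4 : Nat.card {R : Sylow p G // (P : Subgroup G) ⊓ Q ≤ (R : Subgroup G)} ≠ 2 * p + 1 := by
    intro heq
    -- then every Sylow contains D
    have hall : ∀ R : Sylow p G, (P : Subgroup G) ⊓ Q ≤ (R : Subgroup G) := by
      have hinj : Function.Injective (Subtype.val :
          {R : Sylow p G // (P : Subgroup G) ⊓ Q ≤ (R : Subgroup G)} → Sylow p G) := Subtype.val_injective
      have hbij : Function.Bijective (Subtype.val :
          {R : Sylow p G // (P : Subgroup G) ⊓ Q ≤ (R : Subgroup G)} → Sylow p G) := by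
        rw [Nat.bijective_iff_injective_and_card]
        exact ⟨hinj, by rw [heq, hn]⟩
      intro R
      obtain ⟨⟨R', hR'⟩, rfl⟩ := hbij.2 R
      exact hR'
    have hK := iInf_sylow_normal (G := G) (p := p)
    have hle : (P : Subgroup G) ⊓ Q ≤ ⨅ R : Sylow p G, (R : Subgroup G) := le_iInf hall
    rcases hS.eq_bot_or_eq_top_of_normal _ hK with hb | ht
    · apply hD
      rw [eq_bot_iff, ← hb]; exact hle
    · -- then P = ⊤, so there is only one Sylow
      have hPtop : (P : Subgroup G) = ⊤ := by
        rw [eq_top_iff, ← ht]; exact iInf_le _ P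
      have hQtop : (Q : Subgroup G) = ⊤ := by
        rw [eq_top_iff, ← ht]; exact iInf_le _ Q
      exact h (Sylow.ext (hPtop.trans hQtop.symm))
  -- arithmetic
  have h5 := h1
  rw [Nat.ModEq] at h5
  have hp2 : 2 ≤ p := hp.out.two_le
  rw [Nat.mod_eq_of_lt (by omega : 1 < p)] at h5
  set c := Nat.card {R : Sylow p G // (P : Subgroup G) ⊓ Q ≤ (R : Subgroup G)} with hc
  have h6 := Nat.div_add_mod c p
  rw [h5] at h6
  have h7 : c / p ≤ 2 := by
    by_contra hgt
    have : 3 ≤ c / p := by omega
    nlinarith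
  interval_cases hq : c / p
  · omega
  · omega
  · exfalso; apply h4; omega

theorem inf_eq_of_le (hodd : p ≠ 2) (hn : Nat.card (Sylow p G) = 2 * p + 1)
    (P Q P' Q' : Sylow p G) (h : P ≠ Q) (h' : P' ≠ Q') (h1 : (P : Subgroup G) ⊓ Q ≤ (P' : Subgroup G))
    (h2 : (P : Subgroup G) ⊓ Q ≤ (Q' : Subgroup G)) : (P' : Subgroup G) ⊓ Q' = (P : Subgroup G) ⊓ Q := by
  symm
  apply eq_of_le_of_card_ge (le_inf h1 h2)
  have e1 := card_inf_mul hodd hn P Q h
  have e2 := card_inf_mul hodd hn P' Q' h'
  rw [card_sylow_eq P' P, ← e1] at e2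
  exact (Nat.eq_of_mul_eq_mul_right hp.out.pos e2).le

/-- In a simple group with exactly `2p+1` Sylow `p`-subgroups (`p` odd), they have order `p`. -/
theorem card_eq_p (hS : IsSimpleGroup G) (hodd : p ≠ 2) (hn : Nat.card (Sylow p G) = 2 * p + 1)
    (P₀ : Sylow p G) : Nat.card (P₀ : Subgroup G) = p := by
  classical
  by_contra hne
  have hp2 : 2 ≤ p := hp.out.two_le
  have : Fintype (Sylow p G) := Fintype.ofFinite _
  have hcardΩ : Fintype.card (Sylow p G) = 2 * p + 1 := by rw [← Nat.card_eq_fintype_card, hn]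
  -- any two distinct Sylows meet nontrivially
  have hDne : ∀ P Q : Sylow p G, P ≠ Q → (P : Subgroup G) ⊓ Q ≠ ⊥ := by
    intro P Q h hb
    have e1 := card_inf_mul hodd hn P Q h
    rw [hb, card_bot, one_mul, card_sylow_eq P P₀] at e1
    exact hne e1.symm
  let f : Sylow p G × Sylow p G → Subgroup G := fun x => (x.1 : Subgroup G) ⊓ x.2
  have hfib : ∀ D ∈ (Finset.univ : Finset (Sylow p G)).offDiag.image f,
      ((Finset.univ : Finset (Sylow p G)).offDiag.filter (fun x => f x = D)).card = (p + 1) * (p + 1) - (p + 1) := by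
    intro D hD
    rw [Finset.mem_image] at hD
    obtain ⟨⟨P, Q⟩, hPQ, rfl⟩ := hD
    rw [Finset.mem_offDiag] at hPQ
    have hne' : P ≠ Q := hPQ.2.2
    have hX : ((Finset.univ : Finset (Sylow p G)).filter (fun R : Sylow p G => (P : Subgroup G) ⊓ Q ≤ (R : Subgroup G))).card = p + 1 := by
      rw [← card_over_eq hS hodd hn P Q hne' (hDne P Q hne'), Nat.card_eq_fintype_card, Fintype.card_subtype]
    have hset : (Finset.univ : Finset (Sylow p G)).offDiag.filter (fun x => f x = f (P, Q))
        = ((Finset.univ : Finset (Sylow p G)).filter (fun R : Sylow p G => (P : Subgroup G) ⊓ Q ≤ (R : Subgroup G))).offDiag := by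
      ext ⟨P', Q'⟩
      simp only [Finset.mem_filter, Finset.mem_offDiag, Finset.mem_univ, true_and, f]
      constructor
      · rintro ⟨h1, h2⟩
        refine ⟨?_, ?_, h1⟩
        · rw [← h2]; exact inf_le_left
        · rw [← h2]; exact inf_le_right
      · rintro ⟨h1, h2, h3⟩
        exact ⟨h3, inf_eq_of_le hodd hn P Q P' Q' hne' h3 h1 h2⟩
    rw [hset, Finset.offDiag_card, hX]
  have hcount := Finset.card_eq_sum_card_fiberwise (f := f)
    (s := (Finset.univ : Finset (Sylow p G)).offDiag)
    (t := (Finset.univ : Finset (Sylow p G)).offDiag.image f)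
    (fun x hx => Finset.mem_image_of_mem f hx)
  rw [Finset.sum_congr rfl hfib, Finset.sum_const, smul_eq_mul, Finset.offDiag_card, Finset.card_univ,
    hcardΩ] at hcount
  set k := ((Finset.univ : Finset (Sylow p G)).offDiag.image f).card with hk
  have e1 : (2 * p + 1) * (2 * p + 1) - (2 * p + 1) = (2 * p + 1) * (2 * p) := by
    have : (2 * p + 1) * (2 * p + 1) = (2 * p + 1) * (2 * p) + (2 * p + 1) := by ring
    omega
  have e2 : (p + 1) * (p + 1) - (p + 1) = (p + 1) * p := by
    have : (p + 1) * (p + 1) = (p + 1) * p + (p + 1) := by ring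
    omega
  rw [e1, e2] at hcount
  have e3 : 2 * (2 * p + 1) = k * (p + 1) := by
    have : p * (2 * (2 * p + 1)) = p * (k * (p + 1)) := by
      calc p * (2 * (2 * p + 1)) = (2 * p + 1) * (2 * p) := by ring
        _ = k * ((p + 1) * p) := hcount
        _ = p * (k * (p + 1)) := by ring
    exact Nat.eq_of_mul_eq_mul_left hp.out.pos this
  have hk4 : k < 4 := by
    by_contra hge
    have : 4 ≤ k := by omega
    nlinarith
  interval_cases k <;> omega


/-- a `↥P`-invariant set of Sylow subgroups containing `P` has cardinality `≡ 1 mod p` -/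
theorem card_subMulAction_modEq (P : Sylow p G) (T : SubMulAction (P : Subgroup G) (Sylow p G))
    (hP : P ∈ T) : Nat.card T ≡ 1 [MOD p] := by
  have h1 := P.isPGroup'.card_modEq_card_fixedPoints T
  have h2 : Nat.card (fixedPoints (P : Subgroup G) T) = 1 := by
    rw [Nat.card_eq_one_iff_unique]
    refine ⟨⟨?_⟩, ⟨⟨⟨P, hP⟩, ?_⟩⟩⟩
    · rintro ⟨⟨R, hR⟩, hfR⟩ ⟨⟨R', hR'⟩, hfR'⟩
      have key : ∀ (R : Sylow p G) (hR : R ∈ T), (⟨R, hR⟩ : T) ∈ fixedPoints (P : Subgroup G) T → R = P := by
        intro R hR hf
        rw [mem_fixedPoints] at hf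
        have hPR : (P : Subgroup G) ≤ (R : Subgroup G) := by
          intro x hx
          have h3 := congrArg Subtype.val (hf ⟨x, hx⟩)
          exact mem_of_smul_eq P R hx h3
        exact Sylow.ext (P.is_maximal' R.isPGroup' hPR)
      have e1 := key R hR hfR
      have e2 := key R' hR' hfR'
      subst e1
      subst e2
      rfl
    · rw [mem_fixedPoints]
      intro x
      apply Subtype.ext
      exact smul_self_of_mem P x.2
  rw [h2] at h1
  exact h1

/-- the Sylow subgroups fixed by an element centralizing `P`: their number is `≡ 1 mod p` -/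
theorem card_fixedBy_modEq (P : Sylow p G) {c : G}
    (hc : c ∈ centralizer ((P : Subgroup G) : Set G)) :
    Nat.card {R : Sylow p G // c • R = R} ≡ 1 [MOD p] := by
  let T : SubMulAction (P : Subgroup G) (Sylow p G) :=
    { carrier := {R | c • R = R}
      smul_mem' := by
        intro x R hR
        have h1 : (x : G) • R = x • R := rfl
        show c • (x • R) = x • R
        have hR' : c • R = R := hR
        rw [← h1, smul_smul, ← (mem_centralizer_iff.1 hc (x : G) x.2), mul_smul, hR'] }
  have hP : P ∈ T := by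
    show c • P = P
    exact Sylow.smul_eq_iff_mem_normalizer.2 (centralizer_le_normalizer _ hc)
  exact card_subMulAction_modEq P T hP

/-- an element of prime order `r`: the number of its fixed Sylow subgroups is `≡ n_p mod r` -/
theorem card_fixedBy_modEq_prime (c : G) {r : ℕ} [hr : Fact r.Prime] (hc : orderOf c = r) :
    Nat.card (Sylow p G) ≡ Nat.card {R : Sylow p G // c • R = R} [MOD r] := by
  have h0 : IsPGroup r (zpowers c) :=
    IsPGroup.of_card (n := 1) (by rw [Nat.card_zpowers, hc, pow_one])
  have h1 := h0.card_modEq_card_fixedPoints (Sylow p G)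
  have h2 : Nat.card (fixedPoints (zpowers c) (Sylow p G))
      = Nat.card {R : Sylow p G // c • R = R} := by
    apply Nat.card_congr
    apply Equiv.subtypeEquivRight
    intro R
    rw [mem_fixedPoints]
    constructor
    · intro h
      exact h ⟨c, mem_zpowers c⟩
    · intro h x
      have h3 : zpowers c ≤ stabilizer G R := (zpowers_le).2 (mem_stabilizer_iff.2 h)
      exact mem_stabilizer_iff.1 (h3 x.2)
  rw [h2] at h1
  exact h1

/-- the conjugation action of a simple group on its Sylow subgroups is faithful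
(when there is more than one) -/
theorem toPermHom_ker_eq_bot (hS : IsSimpleGroup G) (hn : Nat.card (Sylow p G) ≠ 1) :
    (MulAction.toPermHom G (Sylow p G)).ker = ⊥ := by
  rcases hS.eq_bot_or_eq_top_of_normal _
    (MonoidHom.normal_ker (MulAction.toPermHom G (Sylow p G))) with h | h
  · exact h
  · exfalso
    apply hn
    have hfix : ∀ (g : G) (R : Sylow p G), g • R = R := by
      intro g R
      have h1 : g ∈ (MulAction.toPermHom G (Sylow p G)).ker := by rw [h]; trivial
      rw [MonoidHom.mem_ker] at h1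
      have h2 := congrArg (fun σ : Equiv.Perm (Sylow p G) => σ R) h1
      simpa using h2
    rw [Nat.card_eq_one_iff_unique]
    have P₀ : Sylow p G := default
    refine ⟨⟨fun R R' => ?_⟩, ⟨P₀⟩⟩
    obtain ⟨g, rfl⟩ := MulAction.exists_smul_eq G R R'
    exact (hfix g R).symm

/-- a simple group with more than one Sylow `p`-subgroup acts on them by even permutations -/
theorem sign_toPermHom (hS : IsSimpleGroup G) (hn : Nat.card (Sylow p G) ≠ 1)
    [Fintype (Sylow p G)] [DecidableEq (Sylow p G)] (g : G) :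
    Equiv.Perm.sign (MulAction.toPermHom G (Sylow p G) g) = 1 := by
  let ψ : G →* ℤˣ := Equiv.Perm.sign.comp (MulAction.toPermHom G (Sylow p G))
  rcases hS.eq_bot_or_eq_top_of_normal _ (MonoidHom.normal_ker ψ) with h | h
  · exfalso
    have hinj : Function.Injective ψ := (MonoidHom.ker_eq_bot_iff ψ).1 h
    have hcomm : ∀ a b : G, a * b = b * a := by
      intro a b
      apply hinj
      rw [map_mul, map_mul, mul_comm]
    apply hn
    have P₀ : Sylow p G := default
    have hN : (P₀ : Subgroup G).Normal := by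
      refine ⟨fun n hn g => ?_⟩
      rw [hcomm g n, mul_inv_cancel_right]
      exact hn
    have hU := Sylow.unique_of_normal P₀ hN
    exact Nat.card_unique
  · have h1 : g ∈ ψ.ker := by rw [h]; trivial
    exact h1

/-- In a simple group with exactly `2p+1` Sylow `p`-subgroups (`p` odd), an element of prime
order centralizing a Sylow `p`-subgroup has order `p`. -/
theorem prime_order_centralizer (hS : IsSimpleGroup G) (hodd : p ≠ 2)
    (hn : Nat.card (Sylow p G) = 2 * p + 1) (P : Sylow p G) {c : G}
    (hc : c ∈ centralizer ((P : Subgroup G) : Set G)) {r : ℕ} (hr : r.Prime)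
    (hcr : orderOf c = r) : r = p := by
  classical
  by_contra hne
  have hp2 : 2 ≤ p := hp.out.two_le
  have hrF : Fact r.Prime := ⟨hr⟩
  have : Fintype (Sylow p G) := Fintype.ofFinite _
  have hn1 : Nat.card (Sylow p G) ≠ 1 := by rw [hn]; omega
  have h1 := card_fixedBy_modEq P hc
  have h2 := card_fixedBy_modEq_prime (p := p) c hcr
  rw [hn] at h2
  have h3 : Nat.card {R : Sylow p G // c • R = R} ≤ 2 * p + 1 := by
    rw [← hn]
    exact Nat.card_le_card_of_injective _ Subtype.val_injective
  have hker := toPermHom_ker_eq_bot (p := p) hS hn1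
  -- not everything is fixed
  have h4 : Nat.card {R : Sylow p G // c • R = R} ≠ 2 * p + 1 := by
    intro heq
    have hall : ∀ R : Sylow p G, c • R = R := by
      have hinj : Function.Injective (Subtype.val :
          {R : Sylow p G // c • R = R} → Sylow p G) := Subtype.val_injective
      have hbij : Function.Bijective (Subtype.val :
          {R : Sylow p G // c • R = R} → Sylow p G) := by
        rw [Nat.bijective_iff_injective_and_card]
        exact ⟨hinj, by rw [heq, hn]⟩
      intro R
      obtain ⟨⟨R', hR'⟩, rfl⟩ := hbij.2 R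
      exact hR'
    have hck : c ∈ (MulAction.toPermHom G (Sylow p G)).ker := by
      rw [MonoidHom.mem_ker]
      apply Equiv.ext
      intro R
      simpa using hall R
    rw [hker, mem_bot] at hck
    rw [hck, orderOf_one] at hcr
    rw [← hcr] at hr
    exact Nat.not_prime_one hr
  -- arithmetic
  have h5 := h1
  rw [Nat.ModEq] at h5
  rw [Nat.mod_eq_of_lt (by omega : 1 < p)] at h5
  set m := Nat.card {R : Sylow p G // c • R = R} with hm
  have h6 := Nat.div_add_mod m p
  rw [h5] at h6
  have h7 : m / p ≤ 2 := by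
    by_contra hgt
    have : 3 ≤ m / p := by omega
    nlinarith
  interval_cases hq : m / p
  · -- m = 1 : r ∣ 2p so r = 2
    have hm1 : m = 1 := by omega
    rw [hm1] at h2
    have hdvd : r ∣ 2 * p := by
      have := (Nat.modEq_iff_dvd' (by omega : 1 ≤ 2 * p + 1)).1 h2.symm
      simpa using this
    have hr2 : r = 2 := by
      rcases (Nat.Prime.dvd_mul hr).1 hdvd with h | h
      · exact (Nat.prime_dvd_prime_iff_eq hr Nat.prime_two).1 h
      · exact absurd ((Nat.prime_dvd_prime_iff_eq hr hp.out).1 h) hne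
    -- the involution `c` acts as an odd permutation
    set σ : Equiv.Perm (Sylow p G) := MulAction.toPermHom G (Sylow p G) c with hσ
    have hσ2 : σ ^ 2 = 1 := by
      rw [hσ, ← map_pow, ← hr2, ← hcr, pow_orderOf_eq_one, map_one]
    have hsign := Equiv.Perm.sign_of_pow_two_eq_one hσ2
    have hfix : Fintype.card (Function.fixedPoints σ) = 1 := by
      rw [← Nat.card_eq_fintype_card, ← hm1, hm]
      apply Nat.card_congr
      apply Equiv.subtypeEquivRight
      intro R
      rfl
    have hcardΩ : Fintype.card (Sylow p G) = 2 * p + 1 := by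
      rw [← Nat.card_eq_fintype_card, hn]
    rw [hfix, hcardΩ, sign_toPermHom hS hn1 c] at hsign
    have e1 : (2 * p + 1 - 1) / 2 = p := by omega
    rw [e1, (hp.out.odd_of_ne_two hodd).neg_one_pow] at hsign
    exact absurd hsign (by decide)
  · -- m = p + 1 : r ∣ p
    have hm1 : m = p + 1 := by omega
    rw [hm1] at h2
    have hdvd : r ∣ p := by
      have := (Nat.modEq_iff_dvd' (by omega : p + 1 ≤ 2 * p + 1)).1 h2.symm
      have e : 2 * p + 1 - (p + 1) = p := by omega
      rw [e] at this
      exact this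
    exact hne ((Nat.prime_dvd_prime_iff_eq hr hp.out).1 hdvd)
  · exfalso; apply h4; omega

/-- In a simple group with exactly `2p+1` Sylow `p`-subgroups (`p` odd), a Sylow `p`-subgroup
contains its centralizer. -/
theorem centralizer_le_sylow (hS : IsSimpleGroup G) (hodd : p ≠ 2)
    (hn : Nat.card (Sylow p G) = 2 * p + 1) (P : Sylow p G) :
    centralizer ((P : Subgroup G) : Set G) ≤ (P : Subgroup G) := by
  set C : Subgroup G := centralizer ((P : Subgroup G) : Set G) with hC
  have hCp : IsPGroup p C := by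
    have hcard : Nat.card C = p ^ (Nat.card C).primeFactorsList.length := by
      apply Nat.eq_prime_pow_of_unique_prime_dvd Nat.card_pos.ne'
      intro r hr hdvd
      have hrF : Fact r.Prime := ⟨hr⟩
      obtain ⟨x, hx⟩ := exists_prime_orderOf_dvd_card' r hdvd
      have hx' : orderOf (x : G) = r := by rw [Subgroup.orderOf_coe, hx]
      exact prime_order_centralizer hS hodd hn P x.2 hr hx'
    exact IsPGroup.of_card hcard
  have h1 : IsPGroup p (C ⊔ (P : Subgroup G) : Subgroup G) :=
    IsPGroup.to_sup_of_normal_right' hCp P.isPGroup' (centralizer_le_normalizer _)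
  have h2 := P.is_maximal' h1 le_sup_right
  exact le_sup_left.trans_eq h2

/-- In a simple group, a Sylow subgroup with a normal complement is trivial or everything. -/
theorem card_of_isComplement' (hS : IsSimpleGroup G) (P : Sylow p G) (K : Subgroup G)
    (hKn : K.Normal) (hK : K.IsComplement' (P : Subgroup G)) :
    Nat.card (P : Subgroup G) = 1 ∨ Nat.card (P : Subgroup G) = Nat.card G := by
  have h1 := hK.card_mul_card
  rcases hS.eq_bot_or_eq_top_of_normal K hKn with h | h
  · right
    rw [h, card_bot, one_mul] at h1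
    exact h1
  · left
    rw [h, card_top] at h1
    have h2 : Nat.card G * Nat.card (P : Subgroup G) = Nat.card G * 1 := by rw [h1, mul_one]
    exact Nat.eq_of_mul_eq_mul_left Nat.card_pos h2

/-- `|N(Q) : C(Q)|` divides `|Aut Q|` -/
theorem relIndex_dvd_card_mulAut (Q : Subgroup G) :
    (centralizer (Q : Set G)).relIndex (normalizer (Q : Set G)) ∣ Nat.card (MulAut Q) := by
  have key := card_dvd_of_injective _ (QuotientGroup.kerLift_injective Q.normalizerMonoidHom)
  rw [normalizerMonoidHom_ker, ← index, ← relIndex] at key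
  exact key

theorem relIndex_dvd_card (Q : Subgroup G) :
    (centralizer (Q : Set G)).relIndex (normalizer (Q : Set G)) ∣ Nat.card G :=
  (Subgroup.relIndex_dvd_card _ _).trans (card_subgroup_dvd_card _)

/-- Burnside for a Sylow subgroup of prime order `p` with `gcd(|G|, p-1) = 1` in a simple group -/
theorem card_eq_of_coprime (hS : IsSimpleGroup G) (Q : Sylow p G)
    (hQ : Nat.card (Q : Subgroup G) = p) (hcop : Nat.Coprime (Nat.card G) (p - 1)) :
    Nat.card G = p := by
  have hQc : IsCyclic (Q : Subgroup G) := isCyclic_of_prime_card hQ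
  have h1 := relIndex_dvd_card_mulAut (Q : Subgroup G)
  rw [IsCyclic.card_mulAut (Q : Subgroup G), hQ, Nat.totient_prime hp.out] at h1
  have h2 := relIndex_dvd_card (Q : Subgroup G)
  have h3 : (centralizer ((Q : Subgroup G) : Set G)).relIndex
      (normalizer ((Q : Subgroup G) : Set G)) = 1 := Nat.eq_one_of_dvd_coprimes hcop h2 h1
  have h4 : normalizer ((Q : Subgroup G) : Set G) ≤ centralizer ((Q : Subgroup G) : Set G) :=
    relIndex_eq_one.mp h3
  have h5 := MonoidHom.ker_transferSylow_isComplement' Q h4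
  rcases card_of_isComplement' hS Q _ (MonoidHom.normal_ker _) h5 with h | h
  · rw [hQ] at h
    exact absurd h hp.out.one_lt.ne'
  · rw [← h, hQ]

/-- In a simple group with exactly `2p+1` Sylow `p`-subgroups (`p` odd), the order is odd. -/
theorem two_not_dvd_card (hS : IsSimpleGroup G) (hodd : p ≠ 2)
    (hn : Nat.card (Sylow p G) = 2 * p + 1) : ¬ 2 ∣ Nat.card G := by
  intro h2
  have h2F : Fact (Nat.Prime 2) := ⟨Nat.prime_two⟩
  have T : Sylow 2 G := default
  have hnd : ¬ 2 ∣ Nat.card (Sylow p G) := by rw [hn]; omega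
  obtain ⟨R, hR⟩ := T.isPGroup'.nonempty_fixed_point_of_prime_not_dvd_card (Sylow p G) hnd
  have hTN : (T : Subgroup G) ≤ normalizer ((R : Subgroup G) : Set G) := by
    intro t ht
    have h1 : (⟨t, ht⟩ : (T : Subgroup G)) • R = R := hR ⟨t, ht⟩
    have h2 : t • R = R := h1
    exact Sylow.smul_eq_iff_mem_normalizer.1 h2
  have hcardR := card_eq_p hS hodd hn R
  have hCR := centralizer_le_sylow hS hodd hn R
  have hRcyc : IsCyclic (R : Subgroup G) := isCyclic_of_prime_card hcardR
  have hAut : IsCyclic (MulAut (R : Subgroup G)) := by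
    have hF : Fact (Nat.card (R : Subgroup G)).Prime := ⟨by rw [hcardR]; exact hp.out⟩
    have hZ : IsCyclic (ZMod (Nat.card (R : Subgroup G)))ˣ := ZMod.isCyclic_units_prime hF.out
    exact isCyclic_of_injective (IsCyclic.mulAutMulEquiv (R : Subgroup G)).toMonoidHom
      (IsCyclic.mulAutMulEquiv (R : Subgroup G)).injective
  let f : (T : Subgroup G) →* MulAut (R : Subgroup G) :=
    (R : Subgroup G).normalizerMonoidHom.comp (Subgroup.inclusion hTN)
  have hf : Function.Injective f := by
    rw [← MonoidHom.ker_eq_bot_iff, eq_bot_iff]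
    intro t ht
    rw [MonoidHom.mem_ker] at ht
    have h1 : Subgroup.inclusion hTN t ∈ (R : Subgroup G).normalizerMonoidHom.ker := ht
    rw [normalizerMonoidHom_ker, mem_subgroupOf] at h1
    have h3 : (t : G) ∈ (R : Subgroup G) := hCR h1
    have hdisj := IsPGroup.disjoint_of_ne 2 p (Ne.symm hodd) _ _ T.isPGroup' R.isPGroup'
    have h4 : (t : G) ∈ (T : Subgroup G) ⊓ R := ⟨t.2, h3⟩
    rw [hdisj.eq_bot, mem_bot] at h4
    rw [mem_bot]
    exact Subtype.ext h4
  have hTcyc : IsCyclic (T : Subgroup G) := isCyclic_of_injective f hf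
  have hmin : (Nat.card G).minFac = 2 := (Nat.minFac_eq_two_iff _).2 h2
  have hcomp := IsCyclic.isComplement' hmin hTcyc
  have h2T : 2 ∣ Nat.card (T : Subgroup G) := T.dvd_card_of_dvd_card h2
  have hpG : p ∣ Nat.card G := by
    have := card_subgroup_dvd_card (R : Subgroup G)
    rw [hcardR] at this
    exact this
  rcases card_of_isComplement' hS T _ (MonoidHom.normal_ker _) hcomp with h | h
  · rw [h] at h2T
    omega
  · obtain ⟨k, hk⟩ := IsPGroup.iff_card.1 T.isPGroup'
    rw [← h, hk] at hpG
    have := (Nat.prime_dvd_prime_iff_eq hp.out Nat.prime_two).1 (hp.out.dvd_of_dvd_pow hpG)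
    exact hodd this

/-- the order formula: `|G| = (2p+1) * (p * d)` with `d = |N(P) : C(P)|` dividing `p - 1` -/
theorem card_eq_mul (hS : IsSimpleGroup G) (hodd : p ≠ 2)
    (hn : Nat.card (Sylow p G) = 2 * p + 1) (P : Sylow p G) :
    Nat.card G = (2 * p + 1) * (p * (centralizer ((P : Subgroup G) : Set G)).relIndex
      (normalizer ((P : Subgroup G) : Set G))) ∧
    (centralizer ((P : Subgroup G) : Set G)).relIndex (normalizer ((P : Subgroup G) : Set G))
      ∣ p - 1 := by
  have hcardP := card_eq_p hS hodd hn P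
  have hPc : IsCyclic (P : Subgroup G) := isCyclic_of_prime_card hcardP
  have hCP : centralizer ((P : Subgroup G) : Set G) = (P : Subgroup G) :=
    le_antisymm (centralizer_le_sylow hS hodd hn P) (Subgroup.le_centralizer (P : Subgroup G))
  constructor
  · have h1 : (normalizer ((P : Subgroup G) : Set G)).index = 2 * p + 1 := by
      rw [← hn]
      exact (Sylow.card_eq_index_normalizer P).symm
    have h2 : Nat.card (centralizer ((P : Subgroup G) : Set G)) *
        (centralizer ((P : Subgroup G) : Set G)).relIndex (normalizer ((P : Subgroup G) : Set G))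
        = Nat.card (normalizer ((P : Subgroup G) : Set G)) := by
      rw [← relIndex_bot_left, ← relIndex_bot_left,
        relIndex_mul_relIndex _ _ _ bot_le (centralizer_le_normalizer _)]
    have h3 := (normalizer ((P : Subgroup G) : Set G)).index_mul_card
    rw [h1, ← h2] at h3
    have h4 : Nat.card (centralizer ((P : Subgroup G) : Set G)) = p := by
      rw [hCP]; exact hcardP
    rw [h4] at h3
    exact h3.symm
  · have h1 := relIndex_dvd_card_mulAut (P : Subgroup G)
    rw [IsCyclic.card_mulAut (P : Subgroup G), hcardP, Nat.totient_prime hp.out] at h1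
    exact h1

/-- a Sylow `p`-subgroup has order `p` when `p` divides the group order exactly once -/
theorem card_sylow_eq_prime (Q : Sylow p G) (h1 : p ∣ Nat.card G) (h2 : ¬ p ^ 2 ∣ Nat.card G) :
    Nat.card (Q : Subgroup G) = p := by
  obtain ⟨k, hk⟩ := IsPGroup.iff_card.1 Q.isPGroup'
  have h3 := Q.dvd_card_of_dvd_card h1
  have h4 := card_subgroup_dvd_card (Q : Subgroup G)
  rw [hk] at h3 h4 ⊢
  rcases k with _ | _ | k
  · rw [pow_zero] at h3
    exact absurd (Nat.le_of_dvd one_pos h3) (not_le.2 hp.out.one_lt)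
  · exact pow_one p
  · exfalso
    apply h2
    refine dvd_trans ?_ h4
    exact pow_dvd_pow p (by omega)

end Cfsg.Agent.Lib.Helper45_SylowTwoP
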