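import Mathlib
import Cfsg.Agent.Lib.Helper45_SylowTwoP

/-!
helper45: transfer into `Aut P` for a Sylow subgroup `P` of prime order; used to show that no
simple group has exactly 21 Sylow 5-subgroups.
-/

set_option autoImplicit false
set_option linter.unusedSectionVars false

namespace Cfsg.Agent.Lib.Helper45_SylowTransfer

open Subgroup MulAction
open scoped Pointwise
open Cfsg.Agent.Lib.Helper45_SylowTwoP

variable {G : Type*} [Group G] [Finite G] {p : ℕ} [hp : Fact p.Prime]

/-- evaluation of the transfer when all the factors are powers of one element `a` -/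
theorem transfer_eq_pow_of_forall {A : Type*} [CommGroup A] {H : Subgroup G} [H.FiniteIndex]
    (ϕ : H →* A) (g : G) (a : A)
    (key : ∀ (n : ℕ) (k : G) (hk : k⁻¹ * g ^ n * k ∈ H), ϕ ⟨k⁻¹ * g ^ n * k, hk⟩ = a ^ n) :
    MonoidHom.transfer ϕ g = a ^ H.index := by
  classical
  let := H.fintypeQuotientOfFiniteIndex
  rw [MonoidHom.transfer_eq_prod_quotient_orbitRel_zpowers_quot,
    Subgroup.index_eq_sum_minimalPeriod H g, ← Finset.prod_pow_eq_pow_sum]
  exact Finset.prod_congr rfl (fun q _ => key _ _ _)

/-- an element of a Sylow subgroup `P` of prime order fixing another Sylow subgroup is trivial -/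
theorem eq_one_of_smul_eq (P R : Sylow p G) (hcard : Nat.card (P : Subgroup G) = p)
    (hne : R ≠ P) {x : G} (hx : x ∈ (P : Subgroup G)) (h : x • R = R) : x = 1 := by
  by_contra hx1
  apply hne
  have hxR : x ∈ (R : Subgroup G) := mem_of_smul_eq P R hx h
  have hPR : (P : Subgroup G) ≤ (R : Subgroup G) := by
    intro y hy
    have hne1 : (⟨x, hx⟩ : (P : Subgroup G)) ≠ 1 := by
      intro h1
      exact hx1 (congrArg Subtype.val h1)
    have h2 : (⟨y, hy⟩ : (P : Subgroup G)) ∈ zpowers (⟨x, hx⟩ : (P : Subgroup G)) :=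
      mem_zpowers_of_prime_card hcard hne1
    obtain ⟨k, hk⟩ := mem_zpowers_iff.1 h2
    have h3 : x ^ k = y := by
      have := congrArg Subtype.val hk
      simpa using this
    rw [← h3]
    exact zpow_mem hxR k
  exact (Sylow.ext (P.is_maximal' R.isPGroup' hPR))

/-- an element commuting with a nontrivial element of a Sylow subgroup of prime order
centralizes it -/
theorem mem_centralizer_of_commute (P : Sylow p G) (hcard : Nat.card (P : Subgroup G) = p)
    {w x : G} (hx : x ∈ (P : Subgroup G)) (hx1 : x ≠ 1) (hwx : x * w = w * x) :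
    w ∈ centralizer ((P : Subgroup G) : Set G) := by
  rw [mem_centralizer_iff]
  intro y hy
  have hne1 : (⟨x, hx⟩ : (P : Subgroup G)) ≠ 1 := by
    intro h1
    exact hx1 (congrArg Subtype.val h1)
  have h2 : (⟨y, hy⟩ : (P : Subgroup G)) ∈ zpowers (⟨x, hx⟩ : (P : Subgroup G)) :=
    mem_zpowers_of_prime_card hcard hne1
  obtain ⟨k, hk⟩ := mem_zpowers_iff.1 h2
  have h3 : x ^ k = y := by
    have := congrArg Subtype.val hk
    simpa using this
  rw [← h3]
  have hc : Commute x w := hwx
  exact (hc.zpow_left k).eq

/-- an element normalizing but not centralizing a Sylow subgroup `P` of prime order `p` has at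
most one fixed point in each `P`-orbit: `p * (|Fix w| - 1) ≤ n_p - 1`. -/
theorem card_fixedBy_le (P : Sylow p G) (hcard : Nat.card (P : Subgroup G) = p) {w : G}
    (hwN : w ∈ normalizer ((P : Subgroup G) : Set G))
    (hwC : w ∉ centralizer ((P : Subgroup G) : Set G)) :
    p * (Nat.card {R : Sylow p G // w • R = R} - 1) ≤ Nat.card (Sylow p G) - 1 := by
  have hwP : w • P = P := Sylow.smul_eq_iff_mem_normalizer.2 hwN
  set Fw : Set (Sylow p G) := {R | w • R = R} with hFw
  have h1 : Nat.card {R : Sylow p G // w • R = R} = Fw.ncard := Nat.card_coe_set_eq Fw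
  have h2 : (Fw \ {P}).ncard = Fw.ncard - 1 := Set.ncard_sdiff_singleton_of_mem hwP
  have h3 : ((Set.univ : Set (Sylow p G)) \ {P}).ncard = Nat.card (Sylow p G) - 1 := by
    rw [Set.ncard_sdiff_singleton_of_mem (Set.mem_univ _), Set.ncard_univ]
  have h4 : (((P : Subgroup G) : Set G)).ncard = p :=
    (Nat.card_coe_set_eq ((P : Subgroup G) : Set G)).symm.trans hcard
  rw [h1, ← h2, ← h3]
  have h5 : (((P : Subgroup G) : Set G) ×ˢ (Fw \ {P})).ncard = p * (Fw \ {P}).ncard := by
    rw [Set.ncard_prod, h4]
  rw [← h5]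
  apply Set.ncard_le_ncard_of_injOn (fun x : G × Sylow p G => x.1 • x.2)
  · rintro ⟨y, β⟩ ⟨hy, hβ, hβP⟩
    refine ⟨Set.mem_univ _, ?_⟩
    intro h
    apply hβP
    rw [Set.mem_singleton_iff] at h ⊢
    have hy' : y ∈ (P : Subgroup G) := hy
    have h6 : y⁻¹ • (y • β) = y⁻¹ • P := by
      have h7 : y • β = P := h
      rw [h7]
    rw [inv_smul_smul, smul_self_of_mem P (inv_mem hy')] at h6
    exact h6
  · rintro ⟨y, β⟩ ⟨hy, hβ, hβP⟩ ⟨y', β'⟩ ⟨hy', hβ', hβP'⟩ heq
    have hy1 : y ∈ (P : Subgroup G) := hy
    have hy1' : y' ∈ (P : Subgroup G) := hy'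
    have hβw : w • β = β := hβ
    have hβw' : w • β' = β' := hβ'
    have hβne : β ≠ P := fun h => hβP (Set.mem_singleton_iff.2 h)
    have heq' : y • β = y' • β' := heq
    -- `β' = x • β` with `x = y'⁻¹ * y`
    set x := y'⁻¹ * y with hx
    have hxP : x ∈ (P : Subgroup G) := mul_mem (inv_mem hy1') hy1
    have hβ'x : β' = x • β := by
      rw [hx, mul_smul, heq', inv_smul_smul]
    -- `w x w⁻¹` and `x` act the same on `β`
    have h7 : (w * x * w⁻¹) • β = x • β := by
      have : (w * x * w⁻¹) • β = w • (x • (w⁻¹ • β)) := by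
        rw [mul_smul, mul_smul]
      rw [this]
      have h8 : w⁻¹ • β = β := by
        calc w⁻¹ • β = w⁻¹ • (w • β) := by rw [hβw]
          _ = β := inv_smul_smul _ _
      rw [h8, ← hβ'x, hβw']
    have hwxP : w * x * w⁻¹ ∈ (P : Subgroup G) := by
      have := (mem_normalizer_iff.1 hwN x).1 hxP
      exact this
    have h9 : (x⁻¹ * (w * x * w⁻¹)) • β = β := by
      rw [mul_smul, h7, inv_smul_smul]
    have h10 : x⁻¹ * (w * x * w⁻¹) = 1 :=
      eq_one_of_smul_eq P β hcard hβne (mul_mem (inv_mem hxP) hwxP) h9
    have h11 : x * w = w * x := by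
      have h12 : w * x * w⁻¹ = x := by
        have := congrArg (fun t => x * t) h10
        simpa [mul_assoc] using this
      calc x * w = (w * x * w⁻¹) * w := by rw [h12]
        _ = w * x := by group
    have hx1 : x = 1 := by
      by_contra hx1
      exact hwC (mem_centralizer_of_commute P hcard hxP hx1 h11)
    have hyy : y = y' := by
      have : y'⁻¹ * y = 1 := hx1
      calc y = y' * (y'⁻¹ * y) := by group
        _ = y' := by rw [this, mul_one]
    have hββ : β = β' := by
      rw [hβ'x, hx1, one_smul]
    rw [hyy, hββ]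

/-- With 21 Sylow 5-subgroups in a simple group: an involution centralizing a Sylow
5-subgroup `P` fixes no other Sylow 5-subgroup (it acts as an even permutation). -/
theorem fixedBy_involution_eq [h5 : Fact (Nat.Prime 5)] (hS : IsSimpleGroup G)
    (hn : Nat.card (Sylow 5 G) = 21) (P : Sylow 5 G) {z : G} (hz : orderOf z = 2)
    (hzC : z ∈ centralizer ((P : Subgroup G) : Set G)) (R : Sylow 5 G) (hR : z • R = R) :
    R = P := by
  classical
  have : Fintype (Sylow 5 G) := Fintype.ofFinite _
  have h2F : Fact (Nat.Prime 2) := ⟨Nat.prime_two⟩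
  have hn1 : Nat.card (Sylow 5 G) ≠ 1 := by rw [hn]; norm_num
  have h1 := card_fixedBy_modEq P hzC
  have h2 := card_fixedBy_modEq_prime (p := 5) z hz
  rw [hn] at h2
  have h3 : Nat.card {R : Sylow 5 G // z • R = R} ≤ 21 := by
    rw [← hn]
    exact Nat.card_le_card_of_injective _ Subtype.val_injective
  have hker := toPermHom_ker_eq_bot (p := 5) hS hn1
  have h4 : Nat.card {R : Sylow 5 G // z • R = R} ≠ 21 := by
    intro heq
    have hall : ∀ R : Sylow 5 G, z • R = R := by
      have hinj : Function.Injective (Subtype.val :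
          {R : Sylow 5 G // z • R = R} → Sylow 5 G) := Subtype.val_injective
      have hbij : Function.Bijective (Subtype.val :
          {R : Sylow 5 G // z • R = R} → Sylow 5 G) := by
        rw [Nat.bijective_iff_injective_and_card]
        exact ⟨hinj, by rw [heq, hn]⟩
      intro R
      obtain ⟨⟨R', hR'⟩, rfl⟩ := hbij.2 R
      exact hR'
    have hck : z ∈ (MulAction.toPermHom G (Sylow 5 G)).ker := by
      rw [MonoidHom.mem_ker]
      apply Equiv.ext
      intro R
      simpa using hall R
    rw [hker, mem_bot] at hck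
    rw [hck, orderOf_one] at hz
    norm_num at hz
  set f := Nat.card {R : Sylow 5 G // z • R = R} with hf
  rw [Nat.ModEq] at h1 h2
  have hf' : f = 1 ∨ f = 11 := by omega
  have hzP : z • P = P :=
    Sylow.smul_eq_iff_mem_normalizer.2 (centralizer_le_normalizer _ hzC)
  rcases hf' with h | h
  · have hsub : Subsingleton {R : Sylow 5 G // z • R = R} :=
      (Finite.card_le_one_iff_subsingleton).1 (by rw [← hf, h])
    have := @Subsingleton.elim _ hsub ⟨R, hR⟩ ⟨P, hzP⟩
    exact congrArg Subtype.val this
  · exfalso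
    set σ : Equiv.Perm (Sylow 5 G) := MulAction.toPermHom G (Sylow 5 G) z with hσ
    have hσ2 : σ ^ 2 = 1 := by
      rw [hσ, ← map_pow, ← hz, pow_orderOf_eq_one, map_one]
    have hsign := Equiv.Perm.sign_of_pow_two_eq_one hσ2
    have hfix : Fintype.card (Function.fixedPoints σ) = 11 := by
      rw [← Nat.card_eq_fintype_card, ← h, hf]
      apply Nat.card_congr
      apply Equiv.subtypeEquivRight
      intro R
      rfl
    have hcardΩ : Fintype.card (Sylow 5 G) = 21 := by
      rw [← Nat.card_eq_fintype_card, hn]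
    rw [hfix, hcardΩ, sign_toPermHom hS hn1 z] at hsign
    have e1 : (21 - 11) / 2 = 5 := by norm_num
    rw [e1] at hsign
    exact absurd hsign (by decide)

/-- Core of the argument: the transfer into a cyclic group `A` of order 4 receiving
`N(P) / C(P)` would be nontrivial. -/
theorem false_of_card_sylow_five [h5 : Fact (Nat.Prime 5)] (hS : IsSimpleGroup G)
    (hn : Nat.card (Sylow 5 G) = 21) (hcard : ∀ P : Sylow 5 G, Nat.card (P : Subgroup G) = 5)
    (P : Sylow 5 G) {A : Type*} [CommGroup A] (hA : IsCyclic A) (hA4 : Nat.card A = 4)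
    (ϕ : normalizer ((P : Subgroup G) : Set G) →* A)
    (hker : ϕ.ker = (centralizer ((P : Subgroup G) : Set G)).subgroupOf
      (normalizer ((P : Subgroup G) : Set G))) : False := by
  classical
  have hn1 : Nat.card (Sylow 5 G) ≠ 1 := by rw [hn]; norm_num
  have hidx : (normalizer ((P : Subgroup G) : Set G)).index = 21 := by
    rw [← hn]; exact (Sylow.card_eq_index_normalizer P).symm
  -- Step 1: the transfer is trivial
  have hV : ∀ g : G, MonoidHom.transfer ϕ g = 1 := by
    intro g
    rcases hS.eq_bot_or_eq_top_of_normal _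
      (MonoidHom.normal_ker (MonoidHom.transfer ϕ)) with h | h
    · exfalso
      have hinj : Function.Injective (MonoidHom.transfer ϕ) :=
        (MonoidHom.ker_eq_bot_iff _).1 h
      have hcomm : ∀ a b : G, a * b = b * a := fun a b =>
        hinj (by rw [map_mul, map_mul, mul_comm])
      apply hn1
      have hNorm : (P : Subgroup G).Normal := by
        refine ⟨fun n hn g => ?_⟩
        rw [hcomm g n, mul_inv_cancel_right]
        exact hn
      have hU := Sylow.unique_of_normal P hNorm
      exact Nat.card_unique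
    · have h1 : g ∈ (MonoidHom.transfer ϕ).ker := by rw [h]; trivial
      exact h1
  -- Step 2: `N(P) ≠ C(P)`
  have h2 : ∃ g₀ : normalizer ((P : Subgroup G) : Set G), ϕ g₀ ≠ 1 := by
    by_contra hcon
    push Not at hcon
    have hle : normalizer ((P : Subgroup G) : Set G) ≤ centralizer ((P : Subgroup G) : Set G) := by
      intro x hx
      have h1 : (⟨x, hx⟩ : normalizer ((P : Subgroup G) : Set G)) ∈ ϕ.ker := hcon ⟨x, hx⟩
      rw [hker, mem_subgroupOf] at h1
      exact h1
    have hcomp := MonoidHom.ker_transferSylow_isComplement' P hle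
    rcases card_of_isComplement' hS P _ (MonoidHom.normal_ker _) hcomp with h | h
    · rw [hcard P] at h
      norm_num at h
    · have h1 : Nat.card (Sylow 5 G) ∣ Nat.card G :=
        (Sylow.card_dvd_index P).trans (Subgroup.index_dvd_card _)
      rw [hn, ← h, hcard P] at h1
      norm_num at h1
  obtain ⟨g₀, hg₀⟩ := h2
  have hpow4 : ∀ a : A, a ^ 4 = 1 := fun a => by rw [← hA4]; exact pow_card_eq_one'
  -- Step 3: an element acting as the involution of `A`
  obtain ⟨g₁, hg₁, hg₁2⟩ : ∃ g₁ : normalizer ((P : Subgroup G) : Set G),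
      ϕ g₁ ≠ 1 ∧ (ϕ g₁) ^ 2 = 1 := by
    by_cases h : (ϕ g₀) ^ 2 = 1
    · exact ⟨g₀, hg₀, h⟩
    · refine ⟨g₀ ^ 2, ?_, ?_⟩
      · rw [map_pow]; exact h
      · rw [map_pow, ← pow_mul]; exact hpow4 _
  -- Step 4: make it a 2-element
  obtain ⟨j, m, hm, hjm⟩ := Nat.exists_eq_two_pow_mul_odd (orderOf_pos g₁).ne'
  set a := ϕ g₁ with ha
  obtain ⟨g, hgo, hga⟩ : ∃ g : normalizer ((P : Subgroup G) : Set G),
      orderOf g = 2 ^ j ∧ ϕ g = a := by
    refine ⟨g₁ ^ m, ?_, ?_⟩
    · rw [orderOf_pow_of_dvd hm.pos.ne' ⟨2 ^ j, by rw [hjm, mul_comm]⟩, hjm,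
        Nat.mul_div_cancel _ hm.pos]
    · rw [map_pow]
      obtain ⟨t, ht⟩ := hm
      rw [ht, pow_succ, pow_mul, hg₁2, one_pow, one_mul]
  have hwo : orderOf (g : G) = 2 ^ j := by rw [Subgroup.orderOf_coe, hgo]
  have hwN : (g : G) ∈ normalizer ((P : Subgroup G) : Set G) := g.2
  have hwC : (g : G) ∉ centralizer ((P : Subgroup G) : Set G) := by
    intro hc
    have h1 : g ∈ ϕ.ker := by
      rw [hker, mem_subgroupOf]; exact hc
    rw [MonoidHom.mem_ker, hga] at h1
    exact hg₁ h1
  have hAfin : Finite A := Nat.finite_of_card_ne_zero (by rw [hA4]; norm_num)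
  -- the involution of `A` is unique
  have huniq : ∀ b : A, b ^ 2 = 1 → b ≠ 1 → b = a := by
    intro b hb hb1
    by_contra hba
    have : Fintype A := Fintype.ofFinite A
    have hle := IsCyclic.card_pow_eq_one_le (α := A) (n := 2) (by norm_num)
    have hsub : ({1, a, b} : Finset A) ⊆ Finset.univ.filter (fun x : A => x ^ 2 = 1) := by
      intro x hx
      simp only [Finset.mem_insert, Finset.mem_singleton] at hx
      rw [Finset.mem_filter]
      refine ⟨Finset.mem_univ _, ?_⟩
      rcases hx with rfl | rfl | rfl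
      · exact one_pow 2
      · exact hg₁2
      · exact hb
    have hcard3 : ({1, a, b} : Finset A).card = 3 := by
      rw [Finset.card_insert_of_notMem, Finset.card_insert_of_notMem, Finset.card_singleton]
      · simp only [Finset.mem_singleton]
        exact fun h => hba h.symm
      · simp only [Finset.mem_insert, Finset.mem_singleton, not_or]
        exact ⟨fun h => hg₁ h.symm, fun h => hb1 h.symm⟩
    have := Finset.card_le_card hsub
    omega
  have hodd_pow : ∀ n : ℕ, Odd n → a ^ n = a := by
    rintro n ⟨t, rfl⟩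
    rw [pow_succ, pow_mul, hg₁2, one_pow, one_mul]
  have heven_pow : ∀ n : ℕ, Even n → a ^ n = 1 := by
    rintro n ⟨t, rfl⟩
    rw [← two_mul, pow_mul, hg₁2, one_pow]
  -- Step 5: the key property of the conjugates of powers of `g`
  have hkey : ∀ (n : ℕ) (k : G)
      (hk : k⁻¹ * (g : G) ^ n * k ∈ normalizer ((P : Subgroup G) : Set G)),
      ϕ ⟨k⁻¹ * (g : G) ^ n * k, hk⟩ = a ^ n := by
    rcases j with _ | _ | j
    · -- `g = 1`
      exfalso
      rw [pow_zero, orderOf_eq_one_iff] at hgo
      rw [hgo, map_one] at hga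
      exact hg₁ hga.symm
    · -- `g` is an involution
      have hw2 : (g : G) ^ 2 = 1 := by
        have := pow_orderOf_eq_one (g : G)
        rw [hwo] at this
        simpa using this
      intro n k hk
      rcases Nat.even_or_odd n with hev | hod
      · have hwn : (g : G) ^ n = 1 := by
          obtain ⟨t, rfl⟩ := hev
          rw [← two_mul, pow_mul, hw2, one_pow]
        have he : (⟨k⁻¹ * (g : G) ^ n * k, hk⟩ : normalizer ((P : Subgroup G) : Set G)) = 1 := by
          apply Subtype.ext
          simp [hwn]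
        rw [he, map_one, heven_pow n hev]
      · have hwn : (g : G) ^ n = (g : G) := by
          obtain ⟨t, rfl⟩ := hod
          rw [pow_succ, pow_mul, hw2, one_pow, one_mul]
        rw [hodd_pow n hod]
        apply huniq
        · rw [← map_pow]
          have he : (⟨k⁻¹ * (g : G) ^ n * k, hk⟩ : normalizer ((P : Subgroup G) : Set G)) ^ 2
              = 1 := by
            apply Subtype.ext
            simp only [Subgroup.coe_pow, Subgroup.coe_one, hwn]
            calc (k⁻¹ * (g : G) * k) ^ 2 = (k⁻¹ * (g : G) * k) * (k⁻¹ * (g : G) * k) := pow_two _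
              _ = k⁻¹ * ((g : G) * (g : G)) * k := by simp [mul_assoc]
              _ = k⁻¹ * ((g : G) ^ 2) * k := by rw [pow_two]
              _ = 1 := by rw [hw2]; simp
          rw [he, map_one]
        · intro hb1
          -- then `g` centralizes `Q = k • P`
          have h1 : (⟨k⁻¹ * (g : G) ^ n * k, hk⟩ : normalizer ((P : Subgroup G) : Set G))
              ∈ ϕ.ker := hb1
          rw [hker, mem_subgroupOf] at h1
          have h1' : k⁻¹ * (g : G) * k ∈ centralizer ((P : Subgroup G) : Set G) := by
            rw [← hwn]; exact h1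
          have hQ : (g : G) ∈ centralizer (((k • P : Sylow 5 G) : Subgroup G) : Set G) := by
            rw [mem_centralizer_iff]
            intro y hy
            have hy' : k⁻¹ * y * k ∈ (P : Subgroup G) := by
              have h3 : y ∈ ((k • P : Sylow 5 G) : Subgroup G) := hy
              rw [Sylow.coe_subgroup_smul, mem_pointwise_smul_iff_inv_smul_mem] at h3
              simpa [MulAut.smul_def] using h3
            have h4 := mem_centralizer_iff.1 h1' _ hy'
            -- k⁻¹ y k * (k⁻¹ g k) = (k⁻¹ g k) * k⁻¹ y k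
            have h5 : k⁻¹ * (y * (g : G)) * k = k⁻¹ * ((g : G) * y) * k := by
              calc k⁻¹ * (y * (g : G)) * k = (k⁻¹ * y * k) * (k⁻¹ * (g : G) * k) := by group
                _ = (k⁻¹ * (g : G) * k) * (k⁻¹ * y * k) := h4
                _ = k⁻¹ * ((g : G) * y) * k := by group
            have h6 := mul_left_cancel (mul_right_cancel h5)
            exact h6
          by_cases hQP : (k • P : Sylow 5 G) = P
          · rw [hQP] at hQ
            exact hwC hQ
          · have hf1 := card_fixedBy_modEq (k • P : Sylow 5 G) hQ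
            have hf2 := card_fixedBy_le P (hcard P) hwN hwC
            rw [hn] at hf2
            have hgP : (g : G) • P = P := Sylow.smul_eq_iff_mem_normalizer.2 hwN
            have hgQ : (g : G) • (k • P : Sylow 5 G) = (k • P : Sylow 5 G) :=
              Sylow.smul_eq_iff_mem_normalizer.2 (centralizer_le_normalizer _ hQ)
            have hf3 : 2 ≤ Nat.card {R : Sylow 5 G // (g : G) • R = R} := by
              by_contra hlt
              have hle : Nat.card {R : Sylow 5 G // (g : G) • R = R} ≤ 1 := by omega
              have hsub : Subsingleton {R : Sylow 5 G // (g : G) • R = R} :=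
                (Finite.card_le_one_iff_subsingleton).1 hle
              have := @Subsingleton.elim _ hsub ⟨(k • P : Sylow 5 G), hgQ⟩ ⟨P, hgP⟩
              exact hQP (congrArg Subtype.val this)
            rw [Nat.ModEq] at hf1
            omega
    · -- `g` has order `2 ^ (j + 2)`
      set z : G := (g : G) ^ (2 ^ (j + 1)) with hz
      have hzo : orderOf z = 2 := by
        rw [hz, orderOf_pow_of_dvd (by positivity) ⟨2, by rw [hwo]; ring⟩, hwo]
        rw [show (2 : ℕ) ^ (j + 1 + 1) = 2 ^ (j + 1) * 2 by ring]
        exact Nat.mul_div_cancel_left _ (by positivity)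
      have hz2 : z ^ 2 = 1 := by
        rw [← hzo]; exact pow_orderOf_eq_one z
      have hzC : z ∈ centralizer ((P : Subgroup G) : Set G) := by
        have h1 : g ^ (2 ^ (j + 1)) ∈ ϕ.ker := by
          rw [MonoidHom.mem_ker, map_pow, hga]
          exact heven_pow _ ⟨2 ^ j, by ring⟩
        rw [hker, mem_subgroupOf] at h1
        simpa [hz] using h1
      have hfix : ∀ R : Sylow 5 G, z • R = R → R = P :=
        fixedBy_involution_eq hS hn P hzo hzC
      intro n k hk
      by_cases hdvd : 2 ^ (j + 1 + 1) ∣ n
      · have hwn : (g : G) ^ n = 1 := by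
          rw [← hwo] at hdvd
          exact orderOf_dvd_iff_pow_eq_one.1 hdvd
        have he : (⟨k⁻¹ * (g : G) ^ n * k, hk⟩ : normalizer ((P : Subgroup G) : Set G)) = 1 := by
          apply Subtype.ext
          simp [hwn]
        have hev : Even n := by
          have : 2 ∣ n := dvd_trans ⟨2 ^ (j + 1), by ring⟩ hdvd
          exact even_iff_two_dvd.2 this
        rw [he, map_one, heven_pow n hev]
      · have hn0 : n ≠ 0 := by
          rintro rfl
          exact hdvd (dvd_zero _)
        obtain ⟨i, n', hn'odd, hn'⟩ := Nat.exists_eq_two_pow_mul_odd hn0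
        have hi : i < j + 1 + 1 := by
          by_contra hge
          push Not at hge
          apply hdvd
          rw [hn']
          exact dvd_mul_of_dvd_left (pow_dvd_pow 2 hge) _
        -- a power of `g ^ n` is `z`
        have hzpow : ((g : G) ^ n) ^ (2 ^ (j + 1 - i)) = z := by
          rw [← pow_mul, hn']
          have e : 2 ^ i * n' * 2 ^ (j + 1 - i) = 2 ^ (j + 1) * n' := by
            have : 2 ^ i * 2 ^ (j + 1 - i) = 2 ^ (j + 1) := by
              rw [← pow_add]; congr 1; omega
            calc 2 ^ i * n' * 2 ^ (j + 1 - i) = (2 ^ i * 2 ^ (j + 1 - i)) * n' := by ring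
              _ = 2 ^ (j + 1) * n' := by rw [this]
          rw [e, pow_mul, ← hz]
          obtain ⟨t, rfl⟩ := hn'odd
          rw [pow_succ, pow_mul, hz2, one_pow, one_mul]
        have hzk : k⁻¹ * z * k ∈ normalizer ((P : Subgroup G) : Set G) := by
          have h1 := pow_mem hk (2 ^ (j + 1 - i))
          have h2 : (k⁻¹ * (g : G) ^ n * k) ^ (2 ^ (j + 1 - i))
              = k⁻¹ * ((g : G) ^ n) ^ (2 ^ (j + 1 - i)) * k := by
            have := conj_pow (a := k⁻¹) (b := (g : G) ^ n) (i := 2 ^ (j + 1 - i))
            simpa using this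
          rw [h2, hzpow] at h1
          exact h1
        have hkP : k • P = P := by
          apply hfix
          have h1 : (k⁻¹ * z * k) • P = P := Sylow.smul_eq_iff_mem_normalizer.2 hzk
          rw [mul_smul, mul_smul] at h1
          calc z • k • P = k • (k⁻¹ • z • k • P) := by rw [smul_inv_smul]
            _ = k • P := by rw [h1]
        have hkN : k ∈ normalizer ((P : Subgroup G) : Set G) :=
          Sylow.smul_eq_iff_mem_normalizer.1 hkP
        have he : (⟨k⁻¹ * (g : G) ^ n * k, hk⟩ : normalizer ((P : Subgroup G) : Set G))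
            = (⟨k, hkN⟩ : normalizer ((P : Subgroup G) : Set G))⁻¹ * g ^ n * ⟨k, hkN⟩ := by
          apply Subtype.ext
          simp
        rw [he, map_mul, map_mul, map_inv, map_pow, hga]
        rw [mul_comm, ← mul_assoc, mul_inv_cancel, one_mul]
  have hfin := transfer_eq_pow_of_forall ϕ (g : G) a hkey
  rw [hV, hidx, hodd_pow 21 ⟨10, by norm_num⟩] at hfin
  exact hg₁ hfin.symm

/-- No simple group has exactly 21 Sylow 5-subgroups, given that they have order 5. -/
theorem card_sylow_five_ne_of_simple [h5 : Fact (Nat.Prime 5)] (hS : IsSimpleGroup G)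
    (hcard : ∀ P : Sylow 5 G, Nat.card (P : Subgroup G) = 5) :
    Nat.card (Sylow 5 G) ≠ 21 := by
  intro hn
  have P : Sylow 5 G := default
  have hPc : IsCyclic (P : Subgroup G) := isCyclic_of_prime_card (hcard P)
  have hAut : IsCyclic (MulAut (P : Subgroup G)) := by
    have hF : Fact (Nat.card (P : Subgroup G)).Prime := ⟨by rw [hcard P]; exact h5.out⟩
    have hZ : IsCyclic (ZMod (Nat.card (P : Subgroup G)))ˣ := ZMod.isCyclic_units_prime hF.out
    exact isCyclic_of_injective (IsCyclic.mulAutMulEquiv (P : Subgroup G)).toMonoidHom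
      (IsCyclic.mulAutMulEquiv (P : Subgroup G)).injective
  let inst : CommGroup (MulAut (P : Subgroup G)) :=
    (IsCyclic.mulAutMulEquiv (P : Subgroup G)).toMonoidHom.commGroupOfInjective
      (IsCyclic.mulAutMulEquiv (P : Subgroup G)).injective
  have hA4 : Nat.card (MulAut (P : Subgroup G)) = 4 := by
    rw [IsCyclic.card_mulAut (P : Subgroup G), hcard P, Nat.totient_prime h5.out]
  exact false_of_card_sylow_five hS hn hcard P hAut hA4 (P : Subgroup G).normalizerMonoidHom
    (normalizerMonoidHom_ker (P : Subgroup G))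

end Cfsg.Agent.Lib.Helper45_SylowTransfer
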