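import Mathlib
import Cfsg.Agent.Lib.Helper17_Sylow
import Cfsg.Agent.Lib.Helper45_SylowTwoP
import Cfsg.Agent.Lib.Helper45_SylowTransfer

/-!
helper45: tools for "no simple group of order 1440": counting conjugates of an involution of
`C(P)` inside `N(P)` for a Sylow subgroup `P` of prime order.
-/

set_option autoImplicit false
set_option linter.unusedSectionVars false

namespace Cfsg.Agent.Lib.Helper45_Order1440

open Subgroup MulAction
open scoped Pointwise
open Cfsg.Agent.Lib.Helper17_Sylow Cfsg.Agent.Lib.Helper45_SylowTwoP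
  Cfsg.Agent.Lib.Helper45_SylowTransfer

variable {G : Type*} [Group G] [Finite G] {p : ℕ} [hp : Fact p.Prime]

/-- the fibres of `g ↦ g • P` all have `|N(P)|` elements -/
theorem card_fiber_smul (P R : Sylow p G) :
    Nat.card {g : G // g • P = R} = Nat.card (normalizer ((P : Subgroup G) : Set G)) := by
  obtain ⟨g₀, hg₀⟩ := MulAction.exists_smul_eq G P R
  apply Nat.card_congr
  refine
    { toFun := fun g => ⟨g₀⁻¹ * g.1, ?_⟩
      invFun := fun n => ⟨g₀ * n.1, ?_⟩
      left_inv := fun g => by apply Subtype.ext; simp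
      right_inv := fun n => by apply Subtype.ext; simp }
  · apply Sylow.smul_eq_iff_mem_normalizer.1
    rw [mul_smul, g.2, ← hg₀, inv_smul_smul]
  · rw [mul_smul, Sylow.smul_eq_iff_mem_normalizer.2 n.2, hg₀]

/-- double counting: `|N(P)| · |Fix(x)| = |C(x)| · |x^G ∩ N(P)|` -/
theorem card_normalizer_mul_card_fixed (P : Sylow p G) (x : G) :
    Nat.card (normalizer ((P : Subgroup G) : Set G)) * Nat.card {R : Sylow p G // x • R = R}
      = Nat.card (centralizer ({x} : Set G)) *
        Nat.card {y : G // IsConj x y ∧ y ∈ normalizer ((P : Subgroup G) : Set G)} := by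
  have h1 : Nat.card {g : G // g⁻¹ * x * g ∈
        {y : G | IsConj x y ∧ y ∈ normalizer ((P : Subgroup G) : Set G)}} =
      Nat.card (centralizer ({x} : Set G)) *
        Nat.card {y : G | IsConj x y ∧ y ∈ normalizer ((P : Subgroup G) : Set G)} :=
    card_preimage_eq_mul (fun g : G => g⁻¹ * x * g) _ _ (fun y hy => card_fiber_conj x y hy.1)
  have h2 : Nat.card {g : G // g • P ∈ {R : Sylow p G | x • R = R}} =
      Nat.card (normalizer ((P : Subgroup G) : Set G)) *
        Nat.card {R : Sylow p G | x • R = R} :=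
    card_preimage_eq_mul (fun g : G => g • P) _ _ (fun R _ => card_fiber_smul P R)
  have h3 : Nat.card {g : G // g • P ∈ {R : Sylow p G | x • R = R}} =
      Nat.card {g : G // g⁻¹ * x * g ∈
        {y : G | IsConj x y ∧ y ∈ normalizer ((P : Subgroup G) : Set G)}} := by
    apply Nat.card_congr
    apply Equiv.subtypeEquivRight
    intro g
    simp only [Set.mem_ofPred_eq]
    constructor
    · intro h
      refine ⟨isConj_inv_mul_mul x g, ?_⟩
      apply Sylow.smul_eq_iff_mem_normalizer.1
      rw [mul_smul, mul_smul, h, inv_smul_smul]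
    · rintro ⟨_, h⟩
      have h4 := Sylow.smul_eq_iff_mem_normalizer.2 h
      rw [mul_smul, mul_smul] at h4
      have h5 : g • (g⁻¹ • x • g • P) = g • P := by rw [h4]
      rwa [smul_inv_smul] at h5
  have h4 : Nat.card {R : Sylow p G | x • R = R} = Nat.card {R : Sylow p G // x • R = R} := rfl
  have h5 : Nat.card {y : G | IsConj x y ∧ y ∈ normalizer ((P : Subgroup G) : Set G)} =
      Nat.card {y : G // IsConj x y ∧ y ∈ normalizer ((P : Subgroup G) : Set G)} := rfl
  rw [← h4, ← h5, ← h1, ← h2, h3]

/-- With 36 Sylow 5-subgroups in a simple group: an involution centralizing a Sylow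
5-subgroup fixes exactly 16 Sylow 5-subgroups (it acts as an even permutation). -/
theorem card_fixedBy_involution [h5 : Fact (Nat.Prime 5)] (hS : IsSimpleGroup G)
    (hn : Nat.card (Sylow 5 G) = 36) (P : Sylow 5 G) {z : G} (hz : orderOf z = 2)
    (hzC : z ∈ centralizer ((P : Subgroup G) : Set G)) :
    Nat.card {R : Sylow 5 G // z • R = R} = 16 := by
  classical
  have : Fintype (Sylow 5 G) := Fintype.ofFinite _
  have h2F : Fact (Nat.Prime 2) := ⟨Nat.prime_two⟩
  have hn1 : Nat.card (Sylow 5 G) ≠ 1 := by rw [hn]; norm_num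
  have h1 := card_fixedBy_modEq P hzC
  have h2 := card_fixedBy_modEq_prime (p := 5) z hz
  rw [hn] at h2
  have h3 : Nat.card {R : Sylow 5 G // z • R = R} ≤ 36 := by
    rw [← hn]
    exact Nat.card_le_card_of_injective _ Subtype.val_injective
  have hker := toPermHom_ker_eq_bot (p := 5) hS hn1
  have h4 : Nat.card {R : Sylow 5 G // z • R = R} ≠ 36 := by
    intro heq
    have hall : ∀ R : Sylow 5 G, z • R = R := by
      have hinj : Function.Injective (Subtype.val :
          {R : Sylow 5 G // z • R = R} → Sylow 5 G) := Subtype.val_injective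
      have hbij : Function.Bijective (Subtype.val :
          {R : Sylow 5 G // z • R = R} → Sylow 5 G) := by
        rw [Nat.bijective_iff_injective_and_card]
        exact ⟨hinj, by rw [heq, hn]⟩
      intro R
      obtain ⟨⟨R', hR'⟩, rfl⟩ := hbij.2 R
      exact hR'
    have hck : z ∈ (MulAction.toPermHom G (Sylow 5 G)).ker := by
      rw [MonoidHom.mem_ker]
      apply Equiv.ext
      intro R
      simpa using hall R
    rw [hker, mem_bot] at hck
    rw [hck, orderOf_one] at hz
    norm_num at hz
  set f := Nat.card {R : Sylow 5 G // z • R = R} with hf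
  rw [Nat.ModEq] at h1 h2
  have hf' : f = 6 ∨ f = 16 ∨ f = 26 := by omega
  set σ : Equiv.Perm (Sylow 5 G) := MulAction.toPermHom G (Sylow 5 G) z with hσ
  have hσ2 : σ ^ 2 = 1 := by
    rw [hσ, ← map_pow, ← hz, pow_orderOf_eq_one, map_one]
  have hsign := Equiv.Perm.sign_of_pow_two_eq_one hσ2
  have hfix : Fintype.card (Function.fixedPoints σ) = f := by
    rw [← Nat.card_eq_fintype_card, hf]
    apply Nat.card_congr
    apply Equiv.subtypeEquivRight
    intro R
    rfl
  have hcardΩ : Fintype.card (Sylow 5 G) = 36 := by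
    rw [← Nat.card_eq_fintype_card, hn]
  rw [hfix, hcardΩ, sign_toPermHom hS hn1 z] at hsign
  rcases hf' with h | h | h
  · exfalso
    rw [h] at hsign
    have e1 : (36 - 6) / 2 = 15 := by norm_num
    rw [e1] at hsign
    exact absurd hsign (by decide)
  · exact h
  · exfalso
    rw [h] at hsign
    have e1 : (36 - 26) / 2 = 5 := by norm_num
    rw [e1] at hsign
    exact absurd hsign (by decide)

/-- an involution of `N(P) ∖ C(P)` inverts `P` (`|P| = p`) -/
theorem inverts_of_involution (P : Sylow p G) (hcard : Nat.card (P : Subgroup G) = p) {w : G}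
    (hwN : w ∈ normalizer ((P : Subgroup G) : Set G))
    (hwC : w ∉ centralizer ((P : Subgroup G) : Set G)) (hw : w * w = 1) :
    ∀ x ∈ (P : Subgroup G), w * x * w⁻¹ = x⁻¹ := by
  intro x hx
  have hPc : IsCyclic (P : Subgroup G) := isCyclic_of_prime_card hcard
  have hxw : w * x * w⁻¹ ∈ (P : Subgroup G) := (mem_normalizer_iff.1 hwN x).1 hx
  have hcomm : x * (w * x * w⁻¹) = (w * x * w⁻¹) * x := by
    have := (IsCyclic.isMulCommutative (α := (P : Subgroup G))).is_comm.comm ⟨x, hx⟩ ⟨w * x * w⁻¹, hxw⟩
    exact congrArg Subtype.val this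
  have hy : x * (w * x * w⁻¹) ∈ (P : Subgroup G) := mul_mem hx hxw
  have hwinv : w⁻¹ = w := by
    rw [inv_eq_iff_mul_eq_one]; exact hw
  have hyw : x * (w * x * w⁻¹) * w = w * (x * (w * x * w⁻¹)) := by
    calc x * (w * x * w⁻¹) * w = (w * x * w⁻¹) * x * w := by rw [hcomm]
      _ = w * x * w * x * w := by rw [hwinv]
      _ = w * (x * (w * x * w⁻¹)) := by rw [hwinv]; group
  by_contra hne
  apply hwC
  apply mem_centralizer_of_commute P hcard hy ?_ hyw
  intro h1
  apply hne
  rw [eq_inv_iff_mul_eq_one]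
  rw [← h1, hcomm]

/-- two involutions of `N(P) ∖ C(P)` differ by an element of `C(P)` -/
theorem inv_mul_mem_centralizer (P : Sylow p G) (hcard : Nat.card (P : Subgroup G) = p) {w w' : G}
    (hwN : w ∈ normalizer ((P : Subgroup G) : Set G))
    (hwC : w ∉ centralizer ((P : Subgroup G) : Set G)) (hw : w * w = 1)
    (hwN' : w' ∈ normalizer ((P : Subgroup G) : Set G))
    (hwC' : w' ∉ centralizer ((P : Subgroup G) : Set G)) (hw' : w' * w' = 1) :
    w⁻¹ * w' ∈ centralizer ((P : Subgroup G) : Set G) := by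
  rw [mem_centralizer_iff]
  intro x hx
  have h1 := inverts_of_involution P hcard hwN hwC hw x hx
  have h2 := inverts_of_involution P hcard hwN' hwC' hw' x hx
  -- w x w⁻¹ = x⁻¹ = w' x w'⁻¹
  have h3 : w * x * w⁻¹ = w' * x * w'⁻¹ := h1.trans h2.symm
  calc x * (w⁻¹ * w') = w⁻¹ * (w * x * w⁻¹) * w' := by group
    _ = w⁻¹ * (w' * x * w'⁻¹) * w' := by rw [h3]
    _ = w⁻¹ * w' * x := by group

/-- conjugates of an involution are involutions -/
theorem mul_self_of_isConj {u y : G} (hu : u * u = 1) (h : IsConj u y) : y * y = 1 := by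
  obtain ⟨g, hg⟩ := isConj_iff.mp h
  rw [← hg]
  calc g * u * g⁻¹ * (g * u * g⁻¹) = g * (u * u) * g⁻¹ := by group
    _ = 1 := by rw [hu]; group

/-- `|u^G ∩ N(P)| ≤ |u^G ∩ C(P)| + |C(P)|` for an involution `u` -/
theorem card_conj_normalizer_le (P : Sylow p G) (hcard : Nat.card (P : Subgroup G) = p) {u : G}
    (hu : u * u = 1) :
    Nat.card {y : G // IsConj u y ∧ y ∈ normalizer ((P : Subgroup G) : Set G)} ≤
      Nat.card {y : G // IsConj u y ∧ y ∈ centralizer ((P : Subgroup G) : Set G)} +
        Nat.card (centralizer ((P : Subgroup G) : Set G)) := by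
  classical
  rw [← Nat.card_sum]
  by_cases hex : ∃ w₀ : G, IsConj u w₀ ∧ w₀ ∈ normalizer ((P : Subgroup G) : Set G) ∧
      w₀ ∉ centralizer ((P : Subgroup G) : Set G)
  · obtain ⟨w₀, hw₀c, hw₀N, hw₀C⟩ := hex
    have hw₀ : w₀ * w₀ = 1 := mul_self_of_isConj hu hw₀c
    let f : {y : G // IsConj u y ∧ y ∈ normalizer ((P : Subgroup G) : Set G)} →
        {y : G // IsConj u y ∧ y ∈ centralizer ((P : Subgroup G) : Set G)} ⊕
          (centralizer ((P : Subgroup G) : Set G)) := fun y =>
      if h : y.1 ∈ centralizer ((P : Subgroup G) : Set G) then Sum.inl ⟨y.1, y.2.1, h⟩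
      else Sum.inr ⟨w₀⁻¹ * y.1, inv_mul_mem_centralizer P hcard hw₀N hw₀C hw₀ y.2.2 h
        (mul_self_of_isConj hu y.2.1)⟩
    apply Nat.card_le_card_of_injective f
    intro y y' hyy
    simp only [f] at hyy
    by_cases h1 : y.1 ∈ centralizer ((P : Subgroup G) : Set G) <;>
      by_cases h2 : y'.1 ∈ centralizer ((P : Subgroup G) : Set G) <;>
      simp only [h1, h2, dite_true, dite_false, reduceCtorEq, Sum.inl.injEq, Sum.inr.injEq,
        Subtype.mk.injEq, mul_right_inj] at hyy
    · exact Subtype.ext hyy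
    · exact Subtype.ext hyy
  · push Not at hex
    let f : {y : G // IsConj u y ∧ y ∈ normalizer ((P : Subgroup G) : Set G)} →
        {y : G // IsConj u y ∧ y ∈ centralizer ((P : Subgroup G) : Set G)} ⊕
          (centralizer ((P : Subgroup G) : Set G)) := fun y =>
      Sum.inl ⟨y.1, y.2.1, hex y.1 y.2.1 y.2.2⟩
    apply Nat.card_le_card_of_injective f
    intro y y' hyy
    simp only [f] at hyy
    apply Subtype.ext
    simpa using hyy

/-- `|u^G ∩ N(P)| ≡ |u^G ∩ C(P)| mod p` -/
theorem card_conj_normalizer_modEq (P : Sylow p G) (u : G) :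
    Nat.card {y : G // IsConj u y ∧ y ∈ normalizer ((P : Subgroup G) : Set G)} ≡
      Nat.card {y : G // IsConj u y ∧ y ∈ centralizer ((P : Subgroup G) : Set G)} [MOD p] := by
  let inst : MulAction (P : Subgroup G)
      {y : G // IsConj u y ∧ y ∈ normalizer ((P : Subgroup G) : Set G)} :=
    { smul := fun x y => ⟨(x : G) * y.1 * (x : G)⁻¹, by
        refine ⟨y.2.1.trans (isConj_iff.2 ⟨(x : G), rfl⟩), ?_⟩
        have hx : (x : G) ∈ normalizer ((P : Subgroup G) : Set G) := le_normalizer x.2
        exact mul_mem (mul_mem hx y.2.2) (inv_mem hx)⟩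
      one_smul := by
        intro y
        apply Subtype.ext
        show ((1 : (P : Subgroup G)) : G) * y.1 * ((1 : (P : Subgroup G)) : G)⁻¹ = y.1
        simp
      mul_smul := by
        intro a b y
        apply Subtype.ext
        show ((a * b : (P : Subgroup G)) : G) * y.1 * ((a * b : (P : Subgroup G)) : G)⁻¹ =
          (a : G) * ((b : G) * y.1 * (b : G)⁻¹) * (a : G)⁻¹
        rw [Subgroup.coe_mul]
        group }
  have h1 := P.isPGroup'.card_modEq_card_fixedPoints
    {y : G // IsConj u y ∧ y ∈ normalizer ((P : Subgroup G) : Set G)}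
  have h2 : Nat.card (fixedPoints (P : Subgroup G)
      {y : G // IsConj u y ∧ y ∈ normalizer ((P : Subgroup G) : Set G)}) =
      Nat.card {y : G // IsConj u y ∧ y ∈ centralizer ((P : Subgroup G) : Set G)} := by
    apply Nat.card_congr
    refine
      { toFun := fun y => ⟨y.1.1, y.1.2.1, ?_⟩
        invFun := fun y => ⟨⟨y.1, y.2.1, centralizer_le_normalizer _ y.2.2⟩, ?_⟩
        left_inv := fun y => rfl
        right_inv := fun y => rfl }
    · rw [mem_centralizer_iff]
      intro x hx
      have h3 := y.2 ⟨x, hx⟩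
      have h4 : x * y.1.1 * x⁻¹ = y.1.1 := congrArg Subtype.val h3
      calc x * y.1.1 = x * y.1.1 * x⁻¹ * x := by group
        _ = y.1.1 * x := by rw [h4]
    · intro x
      apply Subtype.ext
      show (x : G) * y.1 * (x : G)⁻¹ = y.1
      have h3 := mem_centralizer_iff.1 y.2.2 (x : G) x.2
      rw [h3]
      group
  rw [h2] at h1
  exact h1

/-- an element of `P` (`|P| = p` odd) with `z * z = 1` is trivial -/
theorem eq_one_of_mul_self (hodd : p ≠ 2) (P : Sylow p G) (hcard : Nat.card (P : Subgroup G) = p)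
    {z : G} (hz : z ∈ (P : Subgroup G)) (hzz : z * z = 1) : z = 1 := by
  have h1 : z ^ p = 1 := by
    have h2 : (⟨z, hz⟩ : (P : Subgroup G)) ^ Nat.card (P : Subgroup G) = 1 := pow_card_eq_one'
    rw [hcard] at h2
    exact congrArg Subtype.val h2
  have h2 : z ^ 2 = 1 := by rw [pow_two]; exact hzz
  have h3 : orderOf z ∣ Nat.gcd 2 p :=
    Nat.dvd_gcd (orderOf_dvd_of_pow_eq_one h2) (orderOf_dvd_of_pow_eq_one h1)
  have h4 : Nat.gcd 2 p = 1 :=
    (Nat.coprime_primes Nat.prime_two hp.out).2 (Ne.symm hodd)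
  rw [h4, Nat.dvd_one] at h3
  exact orderOf_eq_one_iff.1 h3

/-- the elements of `C(P)` of square one inject into `C(P)/P` -/
theorem card_sq_one_mul_le (hodd : p ≠ 2) (P : Sylow p G)
    (hcard : Nat.card (P : Subgroup G) = p) :
    Nat.card {y : G // y ∈ centralizer ((P : Subgroup G) : Set G) ∧ y * y = 1} * p ≤
      Nat.card (centralizer ((P : Subgroup G) : Set G)) := by
  have hPc : IsCyclic (P : Subgroup G) := isCyclic_of_prime_card hcard
  have hPC : (P : Subgroup G) ≤ centralizer ((P : Subgroup G) : Set G) :=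
    le_centralizer_of_isCyclic (P : Subgroup G)
  have e : Nat.card {y : G // y ∈ centralizer ((P : Subgroup G) : Set G) ∧ y * y = 1} * p =
      Nat.card ({y : G // y ∈ centralizer ((P : Subgroup G) : Set G) ∧ y * y = 1} ×
        (P : Subgroup G)) := by
    rw [Nat.card_prod, hcard]
  rw [e]
  let f : {y : G // y ∈ centralizer ((P : Subgroup G) : Set G) ∧ y * y = 1} × (P : Subgroup G) →
      (centralizer ((P : Subgroup G) : Set G)) := fun yx =>
    ⟨yx.1.1 * yx.2.1, mul_mem yx.1.2.1 (hPC yx.2.2)⟩
  apply Nat.card_le_card_of_injective f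
  rintro ⟨⟨y, hyC, hyy⟩, ⟨x, hx⟩⟩ ⟨⟨y', hyC', hyy'⟩, ⟨x', hx'⟩⟩ h
  have h1 : y * x = y' * x' := congrArg Subtype.val h
  have hz : x * x'⁻¹ ∈ (P : Subgroup G) := mul_mem hx (inv_mem hx')
  have h2 : y' = y * (x * x'⁻¹) := by
    calc y' = y' * x' * x'⁻¹ := by group
      _ = y * x * x'⁻¹ := by rw [h1]
      _ = y * (x * x'⁻¹) := by group
  have h3 : (x * x'⁻¹) * y = y * (x * x'⁻¹) := mem_centralizer_iff.1 hyC _ hz
  have h4 : (x * x'⁻¹) * (x * x'⁻¹) = 1 := by
    have h5 : y * (x * x'⁻¹) * (y * (x * x'⁻¹)) = 1 := by rw [← h2]; exact hyy'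
    calc (x * x'⁻¹) * (x * x'⁻¹) = (y * y) * ((x * x'⁻¹) * (x * x'⁻¹)) := by rw [hyy, one_mul]
      _ = y * (y * (x * x'⁻¹)) * (x * x'⁻¹) := by group
      _ = y * ((x * x'⁻¹) * y) * (x * x'⁻¹) := by rw [h3]
      _ = y * (x * x'⁻¹) * (y * (x * x'⁻¹)) := by group
      _ = 1 := h5
  have h5 := eq_one_of_mul_self hodd P hcard hz h4
  have h6 : x = x' := by
    rw [mul_inv_eq_one] at h5
    exact h5
  have h7 : y = y' := by
    rw [h2, h5, mul_one]
  subst h6 h7
  rfl

/-- the conjugates of an involution `u` lying in `C(P)`, together with `1`, have square one -/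
theorem card_conj_centralizer_succ_le (P : Sylow p G) {u : G} (hu : u * u = 1) (hu1 : u ≠ 1) :
    Nat.card {y : G // IsConj u y ∧ y ∈ centralizer ((P : Subgroup G) : Set G)} + 1 ≤
      Nat.card {y : G // y ∈ centralizer ((P : Subgroup G) : Set G) ∧ y * y = 1} := by
  rw [← Finite.card_option]
  let f : Option {y : G // IsConj u y ∧ y ∈ centralizer ((P : Subgroup G) : Set G)} →
      {y : G // y ∈ centralizer ((P : Subgroup G) : Set G) ∧ y * y = 1} := fun o =>
    match o with
    | none => ⟨1, one_mem _, one_mul 1⟩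
    | some y => ⟨y.1, y.2.2, mul_self_of_isConj hu y.2.1⟩
  apply Nat.card_le_card_of_injective f
  have hne : ∀ y : {y : G // IsConj u y ∧ y ∈ centralizer ((P : Subgroup G) : Set G)},
      y.1 ≠ 1 := by
    intro y h1
    apply hu1
    have h2 := y.2.1
    rw [h1] at h2
    exact (isConj_one_left.1 h2)
  intro o o' h
  match o, o' with
  | none, none => rfl
  | none, some y =>
    exfalso
    have h0 : (f none).1 = (f (some y)).1 := congrArg Subtype.val h
    have h1 : (1 : G) = y.1 := h0
    exact hne y h1.symm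
  | some y, none =>
    exfalso
    have h0 : (f (some y)).1 = (f none).1 := congrArg Subtype.val h
    have h1 : y.1 = (1 : G) := h0
    exact hne y h1
  | some y, some y' =>
    have h0 : (f (some y)).1 = (f (some y')).1 := congrArg Subtype.val h
    have h1 : y.1 = y'.1 := h0
    rw [Subtype.ext h1]

/-- Sylow's congruence inside a subgroup `H ≥ P` -/
theorem relIndex_normalizer_modEq (P : Sylow p G) (H : Subgroup G)
    (hPH : (P : Subgroup G) ≤ H) :
    (normalizer ((P : Subgroup G) : Set G)).relIndex H ≡ 1 [MOD p] := by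
  have h1 := card_sylow_modEq_one p H
  have h2 : Nat.card (Sylow p H) =
      (normalizer (((P.subtype hPH : Sylow p H) : Subgroup H) : Set H)).index :=
    Sylow.card_eq_index_normalizer (P.subtype hPH)
  rw [h2] at h1
  rw [Sylow.coe_subtype, ← subgroupOf_normalizer_eq hPH] at h1
  exact h1

theorem card_inf_mul_relIndex (H N : Subgroup G) :
    Nat.card (H ⊓ N : Subgroup G) * N.relIndex H = Nat.card H := by
  have h1 : (H ⊓ N).relIndex H = N.relIndex H := by
    rw [inf_comm]
    exact inf_relIndex_right N H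
  rw [← h1, ← relIndex_bot_left, ← relIndex_bot_left]
  exact relIndex_mul_relIndex ⊥ (H ⊓ N) H bot_le inf_le_left

/-- numerical data of an involution `u ∈ C(P)` in a simple group of order 1440 with
36 Sylow 5-subgroups -/
theorem involution_numerics [h5 : Fact (Nat.Prime 5)] (hS : IsSimpleGroup G)
    (hG : Nat.card G = 1440) (hn : Nat.card (Sylow 5 G) = 36) (P : Sylow 5 G)
    (hcard : Nat.card (P : Subgroup G) = 5)
    (hN : Nat.card (normalizer ((P : Subgroup G) : Set G)) = 40) {u : G} (hu : orderOf u = 2)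
    (huC : u ∈ centralizer ((P : Subgroup G) : Set G)) :
    Nat.card (centralizer ({u} : Set G)) *
        Nat.card {y : G // IsConj u y ∧ y ∈ normalizer ((P : Subgroup G) : Set G)} = 640 ∧
      Nat.card (centralizer ({u} : Set G)) ∣ 1440 ∧
      Nat.card (centralizer ({u} : Set G) ⊓ normalizer ((P : Subgroup G) : Set G) : Subgroup G) *
        (normalizer ((P : Subgroup G) : Set G)).relIndex (centralizer ({u} : Set G)) =
          Nat.card (centralizer ({u} : Set G)) ∧
      Nat.card (centralizer ({u} : Set G) ⊓ normalizer ((P : Subgroup G) : Set G) : Subgroup G)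
        ∣ 40 ∧
      10 ∣ Nat.card
        (centralizer ({u} : Set G) ⊓ normalizer ((P : Subgroup G) : Set G) : Subgroup G) ∧
      (normalizer ((P : Subgroup G) : Set G)).relIndex (centralizer ({u} : Set G)) % 5 = 1 ∧
      Nat.card {y : G // IsConj u y ∧ y ∈ normalizer ((P : Subgroup G) : Set G)} % 5 =
        Nat.card {y : G // IsConj u y ∧ y ∈ centralizer ((P : Subgroup G) : Set G)} % 5 ∧
      1 ≤ Nat.card {y : G // IsConj u y ∧ y ∈ centralizer ((P : Subgroup G) : Set G)} ∧
      (Nat.card {y : G // IsConj u y ∧ y ∈ centralizer ((P : Subgroup G) : Set G)} + 1) * 5 ≤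
        Nat.card (centralizer ((P : Subgroup G) : Set G)) ∧
      Nat.card {y : G // IsConj u y ∧ y ∈ normalizer ((P : Subgroup G) : Set G)} ≤
        Nat.card {y : G // IsConj u y ∧ y ∈ centralizer ((P : Subgroup G) : Set G)} +
          Nat.card (centralizer ((P : Subgroup G) : Set G)) := by
  have huu : u * u = 1 := by
    have := pow_orderOf_eq_one u
    rwa [hu, pow_two] at this
  have hu1 : u ≠ 1 := by
    intro h
    rw [h, orderOf_one] at hu
    norm_num at hu
  have hPH : (P : Subgroup G) ≤ centralizer ({u} : Set G) := by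
    intro x hx
    rw [mem_centralizer_iff]
    intro h hh
    rw [Set.mem_singleton_iff] at hh
    subst hh
    exact (mem_centralizer_iff.1 huC x hx).symm
  have huH : u ∈ centralizer ({u} : Set G) := by
    rw [mem_centralizer_iff]
    intro h hh
    rw [Set.mem_singleton_iff] at hh
    subst hh
    rfl
  have huN : u ∈ normalizer ((P : Subgroup G) : Set G) := centralizer_le_normalizer _ huC
  refine ⟨?_, ?_, ?_, ?_, ?_, ?_, ?_, ?_, ?_, ?_⟩
  · have h1 := card_normalizer_mul_card_fixed P u
    rw [hN, card_fixedBy_involution hS hn P hu huC] at h1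
    rw [← h1]
  · rw [← hG]
    exact card_subgroup_dvd_card _
  · exact card_inf_mul_relIndex _ _
  · rw [← hN]
    exact card_dvd_of_le inf_le_right
  · have h1 : 5 ∣ Nat.card
        (centralizer ({u} : Set G) ⊓ normalizer ((P : Subgroup G) : Set G) : Subgroup G) := by
      have h3 := card_dvd_of_le (le_inf hPH (le_normalizer (H := (P : Subgroup G))))
      rwa [hcard] at h3
    have h2 : 2 ∣ Nat.card
        (centralizer ({u} : Set G) ⊓ normalizer ((P : Subgroup G) : Set G) : Subgroup G) := by
      have h3 : zpowers u ≤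
          centralizer ({u} : Set G) ⊓ normalizer ((P : Subgroup G) : Set G) := by
        rw [zpowers_le]
        exact ⟨huH, huN⟩
      have h4 := card_dvd_of_le h3
      rwa [Nat.card_zpowers, hu] at h4
    exact Nat.Coprime.mul_dvd_of_dvd_of_dvd (by norm_num : Nat.Coprime 2 5) h2 h1
  · have h1 := relIndex_normalizer_modEq P _ hPH
    exact h1
  · exact card_conj_normalizer_modEq P u
  · have : Nonempty {y : G // IsConj u y ∧ y ∈ centralizer ((P : Subgroup G) : Set G)} :=
      ⟨⟨u, IsConj.refl u, huC⟩⟩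
    exact Nat.card_pos
  · have h1 := card_conj_centralizer_succ_le P huu hu1
    have h2 := card_sq_one_mul_le (by norm_num : (5 : ℕ) ≠ 2) P hcard
    exact (Nat.mul_le_mul_right 5 h1).trans h2
  · exact card_conj_normalizer_le P hcard huu

theorem arith_ten (c k a : ℕ) (h1 : c * k = 640) (h2 : c ∣ 1440) (h7 : k % 5 = a % 5)
    (h8 : 1 ≤ a) (h9 : (a + 1) * 5 ≤ 10) (h10 : k ≤ a + 10) : False := by
  have hc160 : c ∣ 160 := by
    have h := Nat.dvd_gcd h2 (Dvd.intro k h1)
    norm_num at h
    exact h
  have hc_le : c ≤ 160 := Nat.le_of_dvd (by norm_num) hc160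
  have hk : k ≤ 11 := by omega
  interval_cases k <;> omega

theorem arith_twenty (c k a d o : ℕ) (h1 : c * k = 640) (h2 : c ∣ 1440) (h3 : d * o = c)
    (h4 : d ∣ 40) (h5 : 10 ∣ d) (h6 : o % 5 = 1) (h7 : k % 5 = a % 5) (h8 : 1 ≤ a)
    (h9 : (a + 1) * 5 ≤ 20) (h10 : k ≤ a + 20) : a = 1 ∧ o = 1 := by
  have hc160 : c ∣ 160 := by
    have h := Nat.dvd_gcd h2 (Dvd.intro k h1)
    norm_num at h
    exact h
  have hc_le : c ≤ 160 := Nat.le_of_dvd (by norm_num) hc160
  have hd_le : d ≤ 40 := Nat.le_of_dvd (by norm_num) h4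
  have hk : k ≤ 23 := by omega
  interval_cases k <;> try omega
  all_goals (interval_cases d <;> omega)

/-- the case `|C(P)| = 10` -/
theorem false_of_card_centralizer_ten [h5 : Fact (Nat.Prime 5)] (hS : IsSimpleGroup G)
    (hG : Nat.card G = 1440) (hn : Nat.card (Sylow 5 G) = 36) (P : Sylow 5 G)
    (hcard : Nat.card (P : Subgroup G) = 5)
    (hN : Nat.card (normalizer ((P : Subgroup G) : Set G)) = 40)
    (hC : Nat.card (centralizer ((P : Subgroup G) : Set G)) = 10) : False := by
  have h2F : Fact (Nat.Prime 2) := ⟨Nat.prime_two⟩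
  obtain ⟨u', hu'⟩ := exists_prime_orderOf_dvd_card' (G := centralizer ((P : Subgroup G) : Set G)) 2
    (by rw [hC]; norm_num)
  have hu : orderOf (u' : G) = 2 := by rw [Subgroup.orderOf_coe]; exact hu'
  obtain ⟨h1, h2, -, -, -, -, h7, h8, h9, h10⟩ :=
    involution_numerics hS hG hn P hcard hN hu u'.2
  rw [hC] at h9 h10
  exact arith_ten _ _ _ h1 h2 h7 h8 h9 h10

/-- the case `|C(P)| = 20`: an involution `u` of `C(P)` is the only conjugate of itself in
`C(P)` and `C(u) ≤ N(P)` -/
theorem involution_of_card_centralizer_twenty [h5 : Fact (Nat.Prime 5)] (hS : IsSimpleGroup G)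
    (hG : Nat.card G = 1440) (hn : Nat.card (Sylow 5 G) = 36) (P : Sylow 5 G)
    (hcard : Nat.card (P : Subgroup G) = 5)
    (hN : Nat.card (normalizer ((P : Subgroup G) : Set G)) = 40)
    (hC : Nat.card (centralizer ((P : Subgroup G) : Set G)) = 20) {u : G} (hu : orderOf u = 2)
    (huC : u ∈ centralizer ((P : Subgroup G) : Set G)) :
    (∀ y : G, IsConj u y → y ∈ centralizer ((P : Subgroup G) : Set G) → y = u) ∧
      centralizer ({u} : Set G) ≤ normalizer ((P : Subgroup G) : Set G) := by
  obtain ⟨h1, h2, h3, h4, h5', h6, h7, h8, h9, h10⟩ :=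
    involution_numerics hS hG hn P hcard hN hu huC
  rw [hC] at h9 h10
  obtain ⟨ha, ho⟩ := arith_twenty _ _ _ _ _ h1 h2 h3 h4 h5' h6 h7 h8 h9 h10
  constructor
  · intro y hy hyC
    have hsub : Subsingleton {y : G // IsConj u y ∧ y ∈ centralizer ((P : Subgroup G) : Set G)} :=
      (Finite.card_le_one_iff_subsingleton).1 (by rw [ha])
    have := @Subsingleton.elim _ hsub ⟨y, hy, hyC⟩ ⟨u, IsConj.refl u, huC⟩
    exact congrArg Subtype.val this
  · exact relIndex_eq_one.1 ho

/-- the case `|C(P)| = 20` -/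
theorem false_of_card_centralizer_twenty [h5 : Fact (Nat.Prime 5)] (hS : IsSimpleGroup G)
    (hG : Nat.card G = 1440) (hn : Nat.card (Sylow 5 G) = 36) (P : Sylow 5 G)
    (hcard : Nat.card (P : Subgroup G) = 5)
    (hN : Nat.card (normalizer ((P : Subgroup G) : Set G)) = 40)
    (hC : Nat.card (centralizer ((P : Subgroup G) : Set G)) = 20) : False := by
  have h2F : Fact (Nat.Prime 2) := ⟨Nat.prime_two⟩
  set N : Subgroup G := normalizer ((P : Subgroup G) : Set G) with hNdef
  set C : Subgroup G := centralizer ((P : Subgroup G) : Set G) with hCdef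
  have hCN : C ≤ N := centralizer_le_normalizer _
  have key := fun (v : G) (hv : orderOf v = 2) (hvC : v ∈ C) =>
    involution_of_card_centralizer_twenty hS hG hn P hcard hN hC hv hvC
  -- `C` has index two in `N`
  have hrel : C.relIndex N = 2 := by
    have h1 := card_mul_relIndex_of_le hCN
    rw [hC, hN] at h1
    omega
  -- a subgroup `T ≤ C` of order 4
  obtain ⟨T', hT'⟩ := Sylow.exists_subgroup_card_pow_prime (G := C) 2 (n := 2)
    (by rw [hC]; norm_num)
  set T : Subgroup G := T'.map C.subtype with hTdef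
  have hT4 : Nat.card T = 4 := by
    rw [hTdef, card_map_of_injective (subtype_injective C), hT']
    norm_num
  have hTC : T ≤ C := map_subtype_le T'
  have hTp : IsPGroup 2 T := IsPGroup.of_card (n := 2) (by rw [hT4]; norm_num)
  obtain ⟨S, hTS⟩ := hTp.exists_le_sylow
  have hS32 : Nat.card (S : Subgroup G) = 32 := by
    have h1 := card_sylow_eq_pow (p := 2) (k := 5) (m := 45) (by rw [hG]; norm_num) (by norm_num) S
    rw [h1]
    norm_num
  set D : Subgroup G := (S : Subgroup G) ⊓ N with hDdef
  have hSN : ¬ (S : Subgroup G) ≤ N := by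
    intro h
    have h1 := card_dvd_of_le h
    rw [hS32, hN] at h1
    norm_num at h1
  -- normalizer condition in the 2-group `S`
  have hnil : Group.IsNilpotent (S : Subgroup G) := S.isPGroup'.isNilpotent
  have hnc : NormalizerCondition (S : Subgroup G) :=
    Group.normalizerCondition_of_isNilpotent
  have hlt : D.subgroupOf (S : Subgroup G) < ⊤ := by
    rw [lt_top_iff_ne_top]
    intro h
    rw [subgroupOf_eq_top] at h
    exact hSN (h.trans inf_le_right)
  obtain ⟨g, hgn, hgD⟩ := SetLike.exists_of_lt (hnc _ hlt)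
  have hgN : (g : G) ∉ N := by
    intro h
    apply hgD
    rw [mem_subgroupOf]
    exact ⟨g.2, h⟩
  have hconjD : ∀ d ∈ D, (g : G) * d * (g : G)⁻¹ ∈ D := by
    intro d hd
    have h1 : (⟨d, hd.1⟩ : (S : Subgroup G)) ∈ D.subgroupOf (S : Subgroup G) := by
      rw [mem_subgroupOf]
      exact hd
    have h2 := (mem_normalizer_iff.1 hgn _).1 h1
    rw [mem_subgroupOf] at h2
    exact h2
  -- the conjugate `K = g T g⁻¹`
  set K : Subgroup G := T.map (MulAut.conj (g : G)).toMonoidHom with hKdef
  have hK4 : Nat.card K = 4 := by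
    rw [hKdef, card_map_of_injective (MulAut.conj (g : G)).injective, hT4]
  have hKN : K ≤ N := by
    intro y hy
    rw [hKdef, mem_map] at hy
    obtain ⟨s, hs, rfl⟩ := hy
    have hsD : s ∈ D := ⟨hTS hs, hCN (hTC hs)⟩
    exact (hconjD s hsD).2
  have hKC : C.relIndex K ≤ 2 := by
    rw [← hrel]
    apply relIndex_le_of_le_right hKN
    rw [hrel]
    norm_num
  have hKinf := card_inf_mul_relIndex K C
  rw [hK4] at hKinf
  have hKC0 : C.relIndex K ≠ 0 := by
    intro h
    rw [h] at hKinf
    omega
  have hcard2 : 2 ∣ Nat.card (K ⊓ C : Subgroup G) := by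
    have h1 : Nat.card (K ⊓ C : Subgroup G) ∣ 4 := by
      rw [← hK4]
      exact card_dvd_of_le inf_le_left
    have h2 : Nat.card (K ⊓ C : Subgroup G) ≠ 1 := by
      intro h
      rw [h] at hKinf
      omega
    have h3 : Nat.card (K ⊓ C : Subgroup G) ≤ 4 := Nat.le_of_dvd (by norm_num) h1
    have h4 : 0 < Nat.card (K ⊓ C : Subgroup G) := Nat.card_pos
    interval_cases (Nat.card (K ⊓ C : Subgroup G)) <;> omega
  obtain ⟨y', hy'⟩ := exists_prime_orderOf_dvd_card' (G := (K ⊓ C : Subgroup G)) 2 hcard2
  have hy : orderOf (y' : G) = 2 := by rw [Subgroup.orderOf_coe]; exact hy'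
  have hyK : (y' : G) ∈ T.map (MulAut.conj (g : G)).toMonoidHom := y'.2.1
  have hyC : (y' : G) ∈ C := y'.2.2
  rw [mem_map] at hyK
  obtain ⟨v, hvT, hvy⟩ := hyK
  have hvy' : (g : G) * v * (g : G)⁻¹ = (y' : G) := hvy
  have hv : orderOf v = 2 := by
    rw [← hy, ← hvy']
    exact (orderOf_conj' v (g : G)).symm
  have hvC : v ∈ C := hTC hvT
  obtain ⟨k1, k2⟩ := key v hv hvC
  have h1 : (y' : G) = v := k1 _ (isConj_iff.2 ⟨(g : G), hvy'⟩) hyC
  apply hgN
  apply k2
  rw [mem_centralizer_iff]
  intro h hh
  rw [Set.mem_singleton_iff] at hh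
  subst hh
  rw [h1] at hvy'
  calc h * (g : G) = ((g : G) * h * (g : G)⁻¹) * (g : G) := by rw [hvy']
    _ = (g : G) * h := by group

/-- the case of 36 Sylow 5-subgroups -/
theorem false_of_card_sylow_thirtysix [h5 : Fact (Nat.Prime 5)] (hS : IsSimpleGroup G)
    (hG : Nat.card G = 1440) (hn : Nat.card (Sylow 5 G) = 36) : False := by
  obtain ⟨P⟩ : Nonempty (Sylow 5 G) := inferInstance
  have hcard : Nat.card (P : Subgroup G) = 5 := by
    have h1 := card_sylow_eq_pow (p := 5) (k := 1) (m := 288) (by rw [hG]; norm_num)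
      (by norm_num) P
    rw [h1]
    norm_num
  have hN : Nat.card (normalizer ((P : Subgroup G) : Set G)) = 40 := by
    have h1 := card_normalizer_mul_card_sylow P
    rw [hn, hG] at h1
    omega
  have hrel := relIndex_centralizer_normalizer_dvd_pred (P : Subgroup G) hcard
  have hCN : centralizer ((P : Subgroup G) : Set G) ≤ normalizer ((P : Subgroup G) : Set G) :=
    centralizer_le_normalizer _
  have h1 := card_mul_relIndex_of_le hCN
  rw [hN] at h1
  have h2 : (centralizer ((P : Subgroup G) : Set G)).relIndex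
      (normalizer ((P : Subgroup G) : Set G)) ≤ 4 := Nat.le_of_dvd (by norm_num) hrel
  have h3 : 0 < (centralizer ((P : Subgroup G) : Set G)).relIndex
      (normalizer ((P : Subgroup G) : Set G)) := Nat.pos_of_dvd_of_pos hrel (by norm_num)
  have h4 : (centralizer ((P : Subgroup G) : Set G)).relIndex
      (normalizer ((P : Subgroup G) : Set G)) = 1 ∨
      (centralizer ((P : Subgroup G) : Set G)).relIndex
      (normalizer ((P : Subgroup G) : Set G)) = 2 ∨
      (centralizer ((P : Subgroup G) : Set G)).relIndex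
      (normalizer ((P : Subgroup G) : Set G)) = 4 := by
    revert hrel h2 h3
    generalize (centralizer ((P : Subgroup G) : Set G)).relIndex
      (normalizer ((P : Subgroup G) : Set G)) = r
    intro hrel h2 h3
    interval_cases r
    · left; rfl
    · right; left; rfl
    · norm_num at hrel
    · right; right; rfl
  rcases h4 with h | h | h
  · have hle := relIndex_eq_one.1 h
    have := hS
    rcases sylow_eq_bot_or_top_of_normalizer_le_centralizer P hle with hb | ht
    · rw [hb, card_bot] at hcard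
      norm_num at hcard
    · rw [ht, card_top, hG] at hcard
      norm_num at hcard
  · rw [h] at h1
    exact false_of_card_centralizer_twenty hS hG hn P hcard hN (by omega)
  · rw [h] at h1
    exact false_of_card_centralizer_ten hS hG hn P hcard hN (by omega)

/-- an element fixing every Sylow subgroup of a simple group (with `n_p ≠ 1`) is trivial -/
theorem eq_one_of_card_fixedBy_eq (hS : IsSimpleGroup G) (hn1 : Nat.card (Sylow p G) ≠ 1) {z : G}
    (heq : Nat.card {R : Sylow p G // z • R = R} = Nat.card (Sylow p G)) : z = 1 := by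
  have hker := toPermHom_ker_eq_bot (p := p) hS hn1
  have hall : ∀ R : Sylow p G, z • R = R := by
    have hinj : Function.Injective (Subtype.val :
        {R : Sylow p G // z • R = R} → Sylow p G) := Subtype.val_injective
    have hbij : Function.Bijective (Subtype.val :
        {R : Sylow p G // z • R = R} → Sylow p G) := by
      rw [Nat.bijective_iff_injective_and_card]
      exact ⟨hinj, heq⟩
    intro R
    obtain ⟨⟨R', hR'⟩, rfl⟩ := hbij.2 R
    exact hR'
  have hck : z ∈ (MulAction.toPermHom G (Sylow p G)).ker := by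
    rw [MonoidHom.mem_ker]
    apply Equiv.ext
    intro R
    simpa using hall R
  rw [hker, mem_bot] at hck
  exact hck

/-- an element generating an `r`-group: the number of its fixed Sylow subgroups is
`≡ n_p mod r` -/
theorem card_fixedBy_modEq_of_isPGroup (c : G) {r : ℕ} [hr : Fact r.Prime]
    (h0 : IsPGroup r (zpowers c)) :
    Nat.card (Sylow p G) ≡ Nat.card {R : Sylow p G // c • R = R} [MOD r] := by
  have h1 := h0.card_modEq_card_fixedPoints (Sylow p G)
  have h2 : Nat.card (fixedPoints (zpowers c) (Sylow p G))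
      = Nat.card {R : Sylow p G // c • R = R} := by
    apply Nat.card_congr
    apply Equiv.subtypeEquivRight
    intro R
    rw [mem_fixedPoints]
    constructor
    · intro h
      exact h ⟨c, mem_zpowers c⟩
    · intro h x
      have h3 : zpowers c ≤ stabilizer G R := (zpowers_le).2 (mem_stabilizer_iff.2 h)
      exact mem_stabilizer_iff.1 (h3 x.2)
  rw [h2] at h1
  exact h1

/-- the case of 16 Sylow 5-subgroups -/
theorem false_of_card_sylow_sixteen [h5 : Fact (Nat.Prime 5)] (hS : IsSimpleGroup G)
    (hG : Nat.card G = 1440) (hn : Nat.card (Sylow 5 G) = 16) : False := by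
  have h3F : Fact (Nat.Prime 3) := ⟨Nat.prime_three⟩
  have hn1 : Nat.card (Sylow 5 G) ≠ 1 := by rw [hn]; norm_num
  obtain ⟨P⟩ : Nonempty (Sylow 5 G) := inferInstance
  have hcard : Nat.card (P : Subgroup G) = 5 := by
    have h1 := card_sylow_eq_pow (p := 5) (k := 1) (m := 288) (by rw [hG]; norm_num)
      (by norm_num) P
    rw [h1]
    norm_num
  have hN : Nat.card (normalizer ((P : Subgroup G) : Set G)) = 90 := by
    have h1 := card_normalizer_mul_card_sylow P
    rw [hn, hG] at h1
    omega
  have hrel := relIndex_centralizer_normalizer_dvd_pred (P : Subgroup G) hcard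
  have hCN : centralizer ((P : Subgroup G) : Set G) ≤ normalizer ((P : Subgroup G) : Set G) :=
    centralizer_le_normalizer _
  have h1 := card_mul_relIndex_of_le hCN
  rw [hN] at h1
  have h9 : 3 ^ 2 ∣ Nat.card (centralizer ((P : Subgroup G) : Set G)) := by
    revert hrel h1
    generalize (centralizer ((P : Subgroup G) : Set G)).relIndex
      (normalizer ((P : Subgroup G) : Set G)) = r
    intro hrel h1
    have h2 : r ≤ 4 := Nat.le_of_dvd (by norm_num) hrel
    have h3 : 0 < r := Nat.pos_of_dvd_of_pos hrel (by norm_num)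
    interval_cases r <;> omega
  obtain ⟨Q', hQ'⟩ := Sylow.exists_subgroup_card_pow_prime
    (G := centralizer ((P : Subgroup G) : Set G)) 3 (n := 2) h9
  set Q : Subgroup G := Q'.map (centralizer ((P : Subgroup G) : Set G)).subtype with hQdef
  have hQ9 : Nat.card Q = 9 := by
    rw [hQdef, card_map_of_injective (subtype_injective _), hQ']
    norm_num
  have hQC : Q ≤ centralizer ((P : Subgroup G) : Set G) := map_subtype_le Q'
  have hQp : IsPGroup 3 Q := IsPGroup.of_card (n := 2) (by rw [hQ9]; norm_num)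
  -- a nontrivial element of `Q` fixes only `P`
  have claim : ∀ h ∈ Q, h ≠ 1 → ∀ R : Sylow 5 G, h • R = R → R = P := by
    intro h hh hh1 R hR
    have hz : IsPGroup 3 (zpowers h) := hQp.to_le ((zpowers_le).2 hh)
    have e1 := card_fixedBy_modEq_of_isPGroup (p := 5) h hz
    have e2 := card_fixedBy_modEq P (hQC hh)
    have e3 : Nat.card {R : Sylow 5 G // h • R = R} ≤ 16 := by
      rw [← hn]
      exact Nat.card_le_card_of_injective _ Subtype.val_injective
    have e4 : Nat.card {R : Sylow 5 G // h • R = R} ≠ 16 := by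
      intro heq
      exact hh1 (eq_one_of_card_fixedBy_eq hS hn1 (by rw [heq, hn]))
    rw [hn] at e1
    rw [Nat.ModEq] at e1 e2
    have e5 : Nat.card {R : Sylow 5 G // h • R = R} = 1 := by omega
    have hsub : Subsingleton {R : Sylow 5 G // h • R = R} :=
      (Finite.card_le_one_iff_subsingleton).1 (by rw [e5])
    have hP : h • P = P :=
      Sylow.smul_eq_iff_mem_normalizer.2 (hCN (hQC hh))
    have := @Subsingleton.elim _ hsub ⟨R, hR⟩ ⟨P, hP⟩
    exact congrArg Subtype.val this
  have hmod := card_modEq_one_of_orbits (H := Q) (X := Sylow 5 G) 9 P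
    (by
      intro h
      exact Sylow.smul_eq_iff_mem_normalizer.2 (hCN (hQC h.2)))
    (by
      intro R hR
      have hstab : stabilizer Q R = ⊥ := by
        rw [eq_bot_iff]
        intro h hh
        rw [mem_stabilizer_iff] at hh
        rw [mem_bot]
        by_contra hne
        apply hR
        apply claim (h : G) h.2 _ R hh
        intro h1
        apply hne
        exact Subtype.ext h1
      have h2 := index_stabilizer Q R
      rw [hstab, index_bot, hQ9] at h2
      rw [Nat.card_coe_set_eq, ← h2])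
  rw [hn, Nat.ModEq] at hmod
  norm_num at hmod

end Cfsg.Agent.Lib.Helper45_Order1440
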