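import Mathlib
import Cfsg.Agent.Lib.Helper17_Sylow
import Cfsg.Agent.Lib.Helper17_SylowPerm
import Cfsg.Agent.Lib.Helper45_Order1440
import Cfsg.Agent.S0111

/-!
helper25: S0496-N1008 (architect helper75): there is no simple group of order 1008 = 2^4 * 3^2 * 7.
-/

set_option autoImplicit false
set_option linter.unusedSectionVars false

namespace Cfsg.Agent.Lib.Helper25_SM_N1008

open Subgroup MulAction
open Cfsg.Agent.Lib.Helper17_Sylow Cfsg.Agent.Lib.Helper17_SylowPerm
  Cfsg.Agent.Lib.Helper45_SylowTwoP Cfsg.Agent.Lib.Helper45_Order1440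

variable {G : Type*} [Group G] [Finite G]

/-- Part A: the Sylow 7-analysis. -/
theorem sylow_seven [IsSimpleGroup G] (h : Nat.card G = 1008) [h7 : Fact (Nat.Prime 7)]
    (P : Sylow 7 G) :
    Nat.card (P : Subgroup G) = 7 ∧ Nat.card (Sylow 7 G) = 36 ∧
      Nat.card (normalizer ((P : Subgroup G) : Set G)) = 28 ∧
      Nat.card (centralizer ((P : Subgroup G) : Set G)) = 14 := by
  have hG : Nat.card G = 7 ^ 1 * 144 := by rw [h]; norm_num
  have hm : ¬ 7 ∣ 144 := by norm_num
  have hna : ¬ IsMulCommutative G := not_isMulCommutative_of_not_prime (by rw [h]; norm_num)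
  have hmem := card_sylow_mem_candidates hG hm
  have hlt := one_lt_card_sylow_of_card hG hm (by norm_num) (by norm_num)
  have hc : sylowCandidates 7 144 = [1, 8, 36] := by decide
  rw [hc] at hmem
  simp only [List.mem_cons, List.not_mem_nil, or_false] at hmem
  have hP : Nat.card (P : Subgroup G) = 7 := by
    have := card_sylow_eq_pow hG hm P
    rwa [pow_one] at this
  have hN := card_normalizer_mul_card_sylow P
  rw [h] at hN
  rcases hmem with h1 | h1 | h1
  · omega
  · exfalso
    have hidx : (normalizer ((P : Subgroup G) : Set G)).index = 7 + 1 := by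
      rw [← card_sylow_eq_index P, h1]
    have hNtop := normalizer_sylow_ne_top P hlt
    have hdvd := two_mul_card_normalizer_dvd hna _ hNtop 7 (by norm_num) (Or.inr hidx) P hP
    rw [h1] at hN
    have hN' : Nat.card (normalizer ((P : Subgroup G) : Set G)) = 126 := by omega
    rw [hN'] at hdvd
    revert hdvd
    decide
  · rw [h1] at hN
    have hN' : Nat.card (normalizer ((P : Subgroup G) : Set G)) = 28 := by omega
    refine ⟨hP, h1, hN', ?_⟩
    have hcyc : IsCyclic (P : Subgroup G) := isCyclic_of_prime_card hP
    have hPC : (P : Subgroup G) ≤ centralizer ((P : Subgroup G) : Set G) :=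
      le_centralizer_of_isCyclic (P : Subgroup G)
    have hCN : centralizer ((P : Subgroup G) : Set G) ≤ normalizer ((P : Subgroup G) : Set G) :=
      centralizer_le_normalizer _
    have hk := relIndex_centralizer_normalizer_dvd_pred (P : Subgroup G) hP
    have h2 := card_mul_relIndex_of_le hCN
    rw [hN'] at h2
    have h3 : 7 ∣ Nat.card (centralizer ((P : Subgroup G) : Set G)) := by
      have := Subgroup.card_dvd_of_le hPC
      rwa [hP] at this
    set k := (centralizer ((P : Subgroup G) : Set G)).relIndex
      (normalizer ((P : Subgroup G) : Set G)) with hkdef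
    set c := Nat.card (centralizer ((P : Subgroup G) : Set G)) with hcdef
    have hk6 : k ∣ 6 := hk
    have hkle : k ≤ 6 := Nat.le_of_dvd (by norm_num) hk6
    obtain ⟨c', hc'⟩ := h3
    have hk1 : k ≠ 1 := by
      intro hk1
      have hcard : c = 28 := by rw [hk1] at h2; omega
      have hle : normalizer ((P : Subgroup G) : Set G) ≤
          centralizer ((P : Subgroup G) : Set G) := by
        have heq : centralizer ((P : Subgroup G) : Set G) =
            normalizer ((P : Subgroup G) : Set G) := by
          apply Subgroup.eq_of_le_of_card_ge hCN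
          rw [hN', ← hcdef, hcard]
        rw [heq]
      rcases sylow_eq_bot_or_top_of_normalizer_le_centralizer P hle with hb | ht
      · rw [hb, Subgroup.card_bot] at hP; omega
      · rw [ht, Subgroup.card_top, h] at hP; omega
    interval_cases k
    · omega
    · exact absurd rfl hk1
    · omega
    · omega
    · omega
    · omega
    · omega

/-- Part B: an involution centralizing a Sylow 7-subgroup fixes exactly 8 Sylow 7-subgroups. -/
theorem card_fixedBy_involution_seven [h7 : Fact (Nat.Prime 7)] (hS : IsSimpleGroup G)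
    (hn : Nat.card (Sylow 7 G) = 36) (P : Sylow 7 G) {z : G} (hz : orderOf z = 2)
    (hzC : z ∈ centralizer ((P : Subgroup G) : Set G)) :
    Nat.card {R : Sylow 7 G // z • R = R} = 8 := by
  classical
  have : Fintype (Sylow 7 G) := Fintype.ofFinite _
  have h2F : Fact (Nat.Prime 2) := ⟨Nat.prime_two⟩
  have hn1 : Nat.card (Sylow 7 G) ≠ 1 := by rw [hn]; norm_num
  have h1 := card_fixedBy_modEq P hzC
  have h2 := card_fixedBy_modEq_prime (p := 7) z hz
  rw [hn] at h2
  have h3 : Nat.card {R : Sylow 7 G // z • R = R} ≤ 36 := by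
    rw [← hn]
    exact Nat.card_le_card_of_injective _ Subtype.val_injective
  have hker := toPermHom_ker_eq_bot (p := 7) hS hn1
  have h4 : Nat.card {R : Sylow 7 G // z • R = R} ≠ 36 := by
    intro heq
    have hall : ∀ R : Sylow 7 G, z • R = R := by
      have hinj : Function.Injective (Subtype.val :
          {R : Sylow 7 G // z • R = R} → Sylow 7 G) := Subtype.val_injective
      have hbij : Function.Bijective (Subtype.val :
          {R : Sylow 7 G // z • R = R} → Sylow 7 G) := by
        rw [Nat.bijective_iff_injective_and_card]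
        exact ⟨hinj, by rw [heq, hn]⟩
      intro R
      obtain ⟨⟨R', hR'⟩, rfl⟩ := hbij.2 R
      exact hR'
    have hck : z ∈ (MulAction.toPermHom G (Sylow 7 G)).ker := by
      rw [MonoidHom.mem_ker]
      apply Equiv.ext
      intro R
      simpa using hall R
    rw [hker, mem_bot] at hck
    rw [hck, orderOf_one] at hz
    norm_num at hz
  set f := Nat.card {R : Sylow 7 G // z • R = R} with hf
  rw [Nat.ModEq] at h1 h2
  have hf' : f = 8 ∨ f = 22 := by omega
  set σ : Equiv.Perm (Sylow 7 G) := MulAction.toPermHom G (Sylow 7 G) z with hσ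
  have hσ2 : σ ^ 2 = 1 := by
    rw [hσ, ← map_pow, ← hz, pow_orderOf_eq_one, map_one]
  have hsign := Equiv.Perm.sign_of_pow_two_eq_one hσ2
  have hfix : Fintype.card (Function.fixedPoints σ) = f := by
    rw [← Nat.card_eq_fintype_card, hf]
    apply Nat.card_congr
    apply Equiv.subtypeEquivRight
    intro R
    rfl
  have hcardΩ : Fintype.card (Sylow 7 G) = 36 := by
    rw [← Nat.card_eq_fintype_card, hn]
  rw [hfix, hcardΩ, sign_toPermHom hS hn1 z] at hsign
  rcases hf' with h | h
  · exact h
  · exfalso
    rw [h] at hsign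
    have e1 : (36 - 22) / 2 = 7 := by norm_num
    rw [e1] at hsign
    exact absurd hsign (by decide)

/-- Part C: the centralizer of the involution has order 28. -/
theorem card_centralizer_involution [h7 : Fact (Nat.Prime 7)] (hS : IsSimpleGroup G)
    (h : Nat.card G = 1008) (P : Sylow 7 G) {x : G} (hx : orderOf x = 2)
    (hxC : x ∈ centralizer ((P : Subgroup G) : Set G)) :
    Nat.card (centralizer ({x} : Set G)) = 28 := by
  obtain ⟨hP, hn, hN, hC⟩ := sylow_seven h P
  have hf := card_fixedBy_involution_seven hS hn P hx hxC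
  have h1 := card_normalizer_mul_card_fixed P x
  rw [hN, hf] at h1
  have h2 := card_conj_normalizer_modEq P x
  have h3 := card_sq_one_mul_le (by norm_num : (7 : ℕ) ≠ 2) P hP
  rw [hC] at h3
  have hxx : x * x = 1 := by rw [← pow_two, ← hx, pow_orderOf_eq_one]
  have hx1 : x ≠ 1 := by
    intro h1'
    rw [h1', orderOf_one] at hx
    norm_num at hx
  -- exactly one conjugate of `x` in `C(P)`
  have hk' : Nat.card {y : G // IsConj x y ∧ y ∈ centralizer ((P : Subgroup G) : Set G)} = 1 := by
    rw [Nat.card_eq_one_iff_unique]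
    refine ⟨⟨fun y1 y2 => ?_⟩, ⟨⟨x, IsConj.refl x, hxC⟩⟩⟩
    by_contra hne
    have hy1 : y1.1 * y1.1 = 1 := mul_self_of_isConj hxx y1.2.1
    have hy2 : y2.1 * y2.1 = 1 := mul_self_of_isConj hxx y2.2.1
    have hy11 : y1.1 ≠ 1 := by
      intro h0
      have := y1.2.1
      rw [h0, isConj_one_left] at this
      exact hx1 this
    have hy21 : y2.1 ≠ 1 := by
      intro h0
      have := y2.2.1
      rw [h0, isConj_one_left] at this
      exact hx1 this
    have hne' : y1.1 ≠ y2.1 := fun h0 => hne (Subtype.ext h0)
    let F : Fin 3 → {y : G // y ∈ centralizer ((P : Subgroup G) : Set G) ∧ y * y = 1} :=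
      ![⟨1, one_mem _, by simp⟩, ⟨y1.1, y1.2.2, hy1⟩, ⟨y2.1, y2.2.2, hy2⟩]
    have hF : Function.Injective F := by
      intro i j hij
      fin_cases i <;> fin_cases j <;> simp [F, Subtype.ext_iff] at hij ⊢
      · exact hy11 hij.symm
      · exact hy21 hij.symm
      · exact hy11 hij
      · exact hne' hij
      · exact hy21 hij
      · exact hne' hij.symm
    have h4 := Nat.card_le_card_of_injective F hF
    rw [Nat.card_eq_fintype_card, Fintype.card_fin] at h4
    omega
  rw [hk', Nat.ModEq] at h2
  -- divisibility facts for `|C_G(x)|`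
  set c := Nat.card (centralizer ({x} : Set G)) with hc
  set k := Nat.card {y : G // IsConj x y ∧ y ∈ normalizer ((P : Subgroup G) : Set G)} with hk
  have hcdvd : c ∣ 1008 := by
    rw [← h]; exact Subgroup.card_subgroup_dvd_card _
  have h7c : 7 ∣ c := by
    have hle : (P : Subgroup G) ≤ centralizer ({x} : Set G) := by
      intro g hg
      rw [mem_centralizer_iff]
      intro y hy
      rw [Set.mem_singleton_iff] at hy
      subst hy
      exact (mem_centralizer_iff.1 hxC g hg).symm
    have := Subgroup.card_dvd_of_le hle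
    rwa [hP] at this
  have h2c : 2 ∣ c := by
    have hxm : x ∈ centralizer ({x} : Set G) := by
      rw [mem_centralizer_iff]
      intro y hy
      rw [Set.mem_singleton_iff] at hy
      subst hy
      rfl
    have := orderOf_dvd_natCard (⟨x, hxm⟩ : centralizer ({x} : Set G))
    rw [Subgroup.orderOf_mk, hx] at this
    exact this
  have h14 : 14 ∣ c := Nat.Coprime.mul_dvd_of_dvd_of_dvd (by norm_num) h2c h7c
  obtain ⟨c', hc'⟩ := h14
  have hck : c' * k = 16 := by
    rw [hc'] at h1
    nlinarith
  have hc'le : c' ≤ 16 := Nat.le_of_dvd (by norm_num) ⟨k, hck.symm⟩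
  have hkle : k ≤ 16 := Nat.le_of_dvd (by norm_num) ⟨c', by rw [mul_comm]; exact hck.symm⟩
  have h2' : k % 7 = 1 := by rw [h2]
  interval_cases k
  all_goals first
    | omega
    | (exfalso
       have hc224 : c = 224 := by omega
       rw [hc224] at hcdvd
       norm_num at hcdvd)

/-! ### Part D: a 2-group of order 16 -/

theorem normal_of_le_center' {T : Type*} [Group T] (N : Subgroup T) (h : N ≤ center T) : N.Normal := by
  refine ⟨fun n hn g => ?_⟩
  have := mem_center_iff.1 (h hn) g
  rw [this, mul_inv_cancel_right]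
  exact hn

theorem exists_central_involution {T : Type*} [Group T] [Finite T] {k : ℕ} (hT : Nat.card T = 2 ^ (k + 1)) :
    ∃ z : T, z ∈ center T ∧ orderOf z = 2 := by
  have : Fact (Nat.Prime 2) := ⟨Nat.prime_two⟩
  have hp : IsPGroup 2 T := IsPGroup.of_card hT
  have hnt : Nontrivial T := by
    rw [← Finite.one_lt_card_iff_nontrivial, hT]
    exact Nat.one_lt_two_pow (by omega)
  have hc := hp.center_nontrivial
  have hpc : IsPGroup 2 (center T) := hp.to_subgroup _
  obtain ⟨n, hn⟩ := (IsPGroup.iff_card).1 hpc
  have hn0 : n ≠ 0 := by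
    intro h0
    rw [h0, pow_zero] at hn
    have := (Finite.one_lt_card_iff_nontrivial (α := center T)).2 hc
    omega
  have h2 : 2 ∣ Nat.card (center T) := by
    rw [hn]; exact dvd_pow_self 2 hn0
  obtain ⟨z, hz⟩ := exists_prime_orderOf_dvd_card' 2 h2
  exact ⟨z.1, z.2, by rw [← hz]; exact (Subgroup.orderOf_coe z)⟩

theorem exists_normal_four {T : Type*} [Group T] [Finite T] (hT : Nat.card T = 16) :
    ∃ U : Subgroup T, U.Normal ∧ Nat.card U = 4 := by
  obtain ⟨z, hzc, hz⟩ := exists_central_involution (k := 3) (by rw [hT]; norm_num)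
  have hN : (zpowers z).Normal := normal_of_le_center' _ (by rw [zpowers_le]; exact hzc)
  have hNc : Nat.card (zpowers z) = 2 := by rw [Nat.card_zpowers, hz]
  have hq : Nat.card (T ⧸ zpowers z) = 2 ^ (2 + 1) := by
    have := Subgroup.card_eq_card_quotient_mul_card_subgroup (zpowers z)
    rw [hT, hNc] at this
    omega
  obtain ⟨u, huc, hu⟩ := exists_central_involution (T := T ⧸ zpowers z) (k := 2) hq
  have hK : (zpowers u).Normal := normal_of_le_center' _ (by rw [zpowers_le]; exact huc)
  refine ⟨(zpowers u).comap (QuotientGroup.mk' (zpowers z)), hK.comap _, ?_⟩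
  have hidx : ((zpowers u).comap (QuotientGroup.mk' (zpowers z))).index = (zpowers u).index :=
    Subgroup.index_comap_of_surjective _ (QuotientGroup.mk'_surjective _)
  have h1 := Subgroup.card_mul_index (zpowers u)
  rw [Nat.card_zpowers, hu, hq] at h1
  have h2 := Subgroup.card_mul_index ((zpowers u).comap (QuotientGroup.mk' (zpowers z)))
  rw [hidx, hT] at h2
  have h3 : (zpowers u).index = 4 := by omega
  rw [h3] at h2
  omega

theorem card_mulAut_dvd_six {U : Type*} [Group U] [Finite U] (hU : Nat.card U = 4) :
    Nat.card (MulAut U) ∣ 6 := by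
  classical
  have : Fintype U := Fintype.ofFinite U
  let f : MulAut U →* Equiv.Perm {u : U // u ≠ 1} :=
    { toFun := fun φ => (φ.toEquiv).subtypeEquiv (fun a => by
        show a ≠ 1 ↔ φ a ≠ 1
        rw [Ne, Ne, EmbeddingLike.map_eq_one_iff])
      map_one' := by ext a; rfl
      map_mul' := by intro φ ψ; ext a; rfl }
  have hf : Function.Injective f := by
    intro φ ψ h
    ext a
    by_cases ha : a = 1
    · rw [ha, map_one, map_one]
    · have := congrArg (fun σ : Equiv.Perm {u : U // u ≠ 1} => (σ ⟨a, ha⟩ : U)) h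
      exact this
  have h1 := Subgroup.card_dvd_of_injective f hf
  have h2 : Nat.card (Equiv.Perm {u : U // u ≠ 1}) = 6 := by
    have h3 : Fintype.card {u : U // u ≠ 1} = 3 := by
      rw [Fintype.card_subtype_compl, Fintype.card_subtype_eq, ← Nat.card_eq_fintype_card, hU]
    rw [Nat.card_eq_fintype_card, Fintype.card_perm, h3]
    rfl
  rwa [h2] at h1

theorem two_group_sixteen {T : Type*} [Group T] [Finite T] (hT : Nat.card T = 16) (x : T)
    (hC : Nat.card (centralizer ({x} : Set T)) ≤ 4) :
    ∃ M : Subgroup T, M.index = 2 ∧ x ∉ M ∧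
      ∀ y ∈ M, y ≠ 1 → 8 ∣ Nat.card (centralizer ({y} : Set T)) := by
  classical
  obtain ⟨U, hUn, hU⟩ := exists_normal_four hT
  have hxmem : x ∈ centralizer ({x} : Set T) := by
    rw [mem_centralizer_iff]
    intro y hy
    rw [Set.mem_singleton_iff] at hy
    subst hy
    rfl
  have hx1 : x ≠ 1 := by
    intro h1
    have : centralizer ({x} : Set T) = ⊤ := by
      rw [h1]
      ext g
      simp [mem_centralizer_iff]
    rw [this, Subgroup.card_top, hT] at hC
    omega
  set M := centralizer (U : Set T) with hM
  -- `x ∉ M`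
  have hxM : x ∉ M := by
    intro hx
    have hle : U ≤ centralizer ({x} : Set T) := by
      intro u hu
      rw [mem_centralizer_iff]
      intro y hy
      rw [Set.mem_singleton_iff] at hy
      subst hy
      exact (mem_centralizer_iff.1 hx u hu).symm
    have heq : U = centralizer ({x} : Set T) := by
      apply Subgroup.eq_of_le_of_card_ge hle
      rw [hU]; exact hC
    have hxU : x ∈ U := by rw [heq]; exact hxmem
    -- all conjugates of `x` lie in `U ∖ {1}`
    have : Fintype T := Fintype.ofFinite T
    let f : T → T := fun g => g * x * g⁻¹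
    have himg : (Finset.univ.image f).card ≤ 3 := by
      have hsub : Finset.univ.image f ⊆ (Finset.univ.filter fun u : T => u ∈ U ∧ u ≠ 1) := by
        intro y hy
        rw [Finset.mem_image] at hy
        obtain ⟨g, -, rfl⟩ := hy
        rw [Finset.mem_filter]
        refine ⟨Finset.mem_univ _, hUn.conj_mem x hxU g, ?_⟩
        intro h1
        apply hx1
        have h1' : g * x * g⁻¹ = 1 := h1
        have : x = g⁻¹ * (g * x * g⁻¹) * g := by group
        rw [this, h1']; group
      have hcard : (Finset.univ.filter fun u : T => u ∈ U ∧ u ≠ 1).card = 3 := by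
        have h1 : (Finset.univ.filter fun u : T => u ∈ U).card = 4 := by
          rw [← hU, Nat.card_eq_fintype_card, Fintype.card_subtype]
        have h2 : (Finset.univ.filter fun u : T => u ∈ U ∧ u ≠ 1) =
            (Finset.univ.filter fun u : T => u ∈ U).erase 1 := by
          ext u
          simp only [Finset.mem_filter, Finset.mem_univ, true_and, Finset.mem_erase]
          tauto
        rw [h2, Finset.card_erase_of_mem (by simp [U.one_mem]), h1]
      calc (Finset.univ.image f).card ≤ _ := Finset.card_le_card hsub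
        _ = 3 := hcard
    have hfib : ∀ a ∈ Finset.univ.image f,
        (Finset.univ.filter fun g : T => f g = a).card ≤ 4 := by
      intro a ha
      rw [Finset.mem_image] at ha
      obtain ⟨g₀, -, rfl⟩ := ha
      have hinj : ∀ g ∈ (Finset.univ.filter fun g : T => f g = f g₀),
          g₀⁻¹ * g ∈ (Finset.univ.filter fun c : T => c ∈ centralizer ({x} : Set T)) := by
        intro g hg
        rw [Finset.mem_filter] at hg ⊢
        refine ⟨Finset.mem_univ _, ?_⟩
        rw [mem_centralizer_iff]
        intro y hy
        rw [Set.mem_singleton_iff] at hy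
        subst hy
        have h1 : g * y * g⁻¹ = g₀ * y * g₀⁻¹ := hg.2
        have h2 : y = g⁻¹ * (g * y * g⁻¹) * g := by group
        calc y * (g₀⁻¹ * g) = g₀⁻¹ * (g₀ * y * g₀⁻¹) * g := by group
          _ = g₀⁻¹ * (g * y * g⁻¹) * g := by rw [h1]
          _ = g₀⁻¹ * g * y := by group
      have hcc : (Finset.univ.filter fun c : T => c ∈ centralizer ({x} : Set T)).card ≤ 4 := by
        rw [← Fintype.card_subtype, ← Nat.card_eq_fintype_card]
        exact hC
      calc (Finset.univ.filter fun g : T => f g = f g₀).card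
          ≤ (Finset.univ.filter fun c : T => c ∈ centralizer ({x} : Set T)).card := by
            apply Finset.card_le_card_of_injOn (fun g => g₀⁻¹ * g) hinj
            intro a _ b _ hab
            exact mul_left_cancel hab
        _ ≤ 4 := hcc
    have hle := Finset.card_le_mul_card_image (f := f) Finset.univ 4 hfib
    rw [Finset.card_univ, ← Nat.card_eq_fintype_card, hT] at hle
    omega
  -- the index of `M`
  have hidx : M.index = 2 := by
    have h1 := relIndex_centralizer_normalizer_dvd U
    rw [Subgroup.normalizer_eq_top, Subgroup.relIndex_top_right] at h1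
    have h2 := card_mulAut_dvd_six hU
    have h3 : M.index ∣ 6 := dvd_trans h1 h2
    have h4 : M.index ∣ 16 := by rw [← hT]; exact Subgroup.index_dvd_card M
    have h5 : M.index ∣ 2 := by
      have := Nat.dvd_gcd h3 h4
      norm_num at this
      exact this
    have h6 : M.index ≠ 1 := by
      intro h
      rw [Subgroup.index_eq_one] at h
      exact hxM (h ▸ mem_top x)
    have h7 : M.index ≤ 2 := Nat.le_of_dvd (by norm_num) h5
    have h8 : M.index ≠ 0 := by
      intro h0
      rw [h0] at h5
      norm_num at h5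
    omega
  have hMcard : Nat.card M = 8 := by
    have := Subgroup.card_mul_index M
    rw [hidx, hT] at this
    omega
  refine ⟨M, hidx, hxM, ?_⟩
  intro y hyM hy1
  have hdvd16 : Nat.card (centralizer ({y} : Set T)) ∣ 16 := by
    rw [← hT]; exact Subgroup.card_subgroup_dvd_card _
  by_cases hyU : y ∈ U
  · -- `M ≤ C(y)`
    have hle : M ≤ centralizer ({y} : Set T) := by
      intro m hm
      rw [mem_centralizer_iff]
      intro w hw
      rw [Set.mem_singleton_iff] at hw
      subst hw
      exact (mem_centralizer_iff.1 hm w hyU)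
    have := Subgroup.card_dvd_of_le hle
    rwa [hMcard] at this
  · -- `U < C(y)`
    have hle : U ≤ centralizer ({y} : Set T) := by
      intro u hu
      rw [mem_centralizer_iff]
      intro w hw
      rw [Set.mem_singleton_iff] at hw
      subst hw
      exact (mem_centralizer_iff.1 hyM u hu).symm
    have hymem : y ∈ centralizer ({y} : Set T) := by
      rw [mem_centralizer_iff]
      intro w hw
      rw [Set.mem_singleton_iff] at hw
      subst hw
      rfl
    have h4 : 4 ∣ Nat.card (centralizer ({y} : Set T)) := by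
      have := Subgroup.card_dvd_of_le hle
      rwa [hU] at this
    have hne : Nat.card (centralizer ({y} : Set T)) ≠ 4 := by
      intro h
      have heq : U = centralizer ({y} : Set T) := by
        apply Subgroup.eq_of_le_of_card_ge hle
        rw [hU, h]
      exact hyU (heq ▸ hymem)
    set c := Nat.card (centralizer ({y} : Set T)) with hc
    have hcle : c ≤ 16 := Nat.le_of_dvd (by norm_num) hdvd16
    obtain ⟨c', hc'⟩ := h4
    have hc'le : c' ≤ 4 := by omega
    interval_cases c'
    all_goals first
      | omega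
      | (exfalso; rw [hc'] at hdvd16; norm_num at hdvd16)


/-! ### Part E: assembly -/

theorem card_centralizer_conj (g x : G) :
    Nat.card (centralizer ({g * x * g⁻¹} : Set G)) = Nat.card (centralizer ({x} : Set G)) := by
  apply Nat.card_congr
  refine
    { toFun := fun c => ⟨g⁻¹ * c.1 * g, ?_⟩
      invFun := fun c => ⟨g * c.1 * g⁻¹, ?_⟩
      left_inv := fun c => by apply Subtype.ext; simp [mul_assoc]
      right_inv := fun c => by apply Subtype.ext; simp [mul_assoc] }
  · rw [mem_centralizer_iff]
    intro y hy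
    rw [Set.mem_singleton_iff] at hy
    subst hy
    have h1 := mem_centralizer_iff.1 c.2 (g * y * g⁻¹) (Set.mem_singleton _)
    calc y * (g⁻¹ * c.1 * g) = g⁻¹ * ((g * y * g⁻¹) * c.1) * g := by group
      _ = g⁻¹ * (c.1 * (g * y * g⁻¹)) * g := by rw [h1]
      _ = g⁻¹ * c.1 * g * y := by group
  · rw [mem_centralizer_iff]
    intro y hy
    rw [Set.mem_singleton_iff] at hy
    subst hy
    have h1 := mem_centralizer_iff.1 c.2 x (Set.mem_singleton _)
    calc g * x * g⁻¹ * (g * c.1 * g⁻¹) = g * (x * c.1) * g⁻¹ := by group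
      _ = g * (c.1 * x) * g⁻¹ := by rw [h1]
      _ = g * c.1 * g⁻¹ * (g * x * g⁻¹) := by group

/-- the centralizer inside a subgroup maps into the centralizer -/
theorem card_centralizer_subtype_dvd (K : Subgroup G) (y : K) :
    Nat.card (centralizer ({y} : Set K)) ∣ Nat.card (centralizer ({(y : G)} : Set G)) := by
  have hle : (centralizer ({y} : Set K)).map K.subtype ≤ centralizer ({(y : G)} : Set G) := by
    rintro _ ⟨c, hc, rfl⟩
    rw [mem_centralizer_iff]
    intro w hw
    rw [Set.mem_singleton_iff] at hw
    subst hw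
    have h1 := mem_centralizer_iff.1 hc y (Set.mem_singleton _)
    exact congrArg Subtype.val h1
  have := Subgroup.card_dvd_of_le hle
  rwa [Subgroup.card_map_of_injective K.subtype_injective] at this

/-- S0496-N1008: no simple group of order 1008. -/
theorem no_simple_1008 {G : Type*} [Group G] [Finite G] [IsSimpleGroup G] : Nat.card G ≠ 1008 := by
  intro h
  have h7 : Fact (Nat.Prime 7) := ⟨by norm_num⟩
  have h2F : Fact (Nat.Prime 2) := ⟨Nat.prime_two⟩
  have hS : IsSimpleGroup G := inferInstance
  obtain ⟨P⟩ : Nonempty (Sylow 7 G) := inferInstance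
  obtain ⟨hP, hn, hN, hC⟩ := sylow_seven h P
  have h2C : 2 ∣ Nat.card (centralizer ((P : Subgroup G) : Set G)) := by rw [hC]; norm_num
  obtain ⟨x', hx'⟩ := exists_prime_orderOf_dvd_card' 2 h2C
  have hx : orderOf (x' : G) = 2 := by rw [← hx']; exact (Subgroup.orderOf_coe x')
  have hxC : (x' : G) ∈ centralizer ((P : Subgroup G) : Set G) := x'.2
  generalize (x' : G) = x at hx hxC
  have hcx := card_centralizer_involution hS h P hx hxC
  have hpx : IsPGroup 2 (zpowers x) :=
    IsPGroup.of_card (n := 1) (by rw [Nat.card_zpowers, hx, pow_one])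
  obtain ⟨P2, hP2⟩ := hpx.exists_le_sylow
  have hxP2 : x ∈ (P2 : Subgroup G) := hP2 (mem_zpowers x)
  have hP2card : Nat.card (P2 : Subgroup G) = 2 ^ 4 :=
    card_sylow_eq_pow (p := 2) (k := 4) (m := 63) (by rw [h]; norm_num) (by norm_num) P2
  have hT : Nat.card (P2 : Subgroup G) = 16 := by rw [hP2card]; norm_num
  have hCT : Nat.card (centralizer ({(⟨x, hxP2⟩ : (P2 : Subgroup G))} :
      Set (P2 : Subgroup G))) ≤ 4 := by
    have h1 := card_centralizer_subtype_dvd (P2 : Subgroup G) ⟨x, hxP2⟩
    rw [hcx] at h1
    have h2 : Nat.card (centralizer ({(⟨x, hxP2⟩ : (P2 : Subgroup G))} :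
        Set (P2 : Subgroup G))) ∣ 16 := by
      rw [← hT]; exact Subgroup.card_subgroup_dvd_card _
    have h3 := Nat.dvd_gcd h1 h2
    norm_num at h3
    exact Nat.le_of_dvd (by norm_num) h3
  obtain ⟨M, hMidx, hxM, hMy⟩ := two_group_sixteen hT ⟨x, hxP2⟩ hCT
  have hMcard : Nat.card M = 8 := by
    have := Subgroup.card_mul_index M
    rw [hMidx, hT] at this
    omega
  set Q : Subgroup G := M.map (P2 : Subgroup G).subtype with hQ
  have hQP : Q ≤ (P2 : Subgroup G) := Subgroup.map_subtype_le M
  have hQcard : Nat.card Q = 8 := by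
    rw [hQ, Subgroup.card_map_of_injective (P2 : Subgroup G).subtype_injective, hMcard]
  have hQi : Q.relIndex (P2 : Subgroup G) = 2 := by
    have := card_mul_relIndex_of_le hQP
    rw [hQcard, hT] at this
    omega
  have hxQ : x ∉ Q := by
    rintro ⟨m, hm, hmx⟩
    apply hxM
    have : m = ⟨x, hxP2⟩ := Subtype.ext hmx
    rw [← this]
    exact hm
  have hx1 : x ≠ 1 := by
    intro h1
    rw [h1, orderOf_one] at hx
    norm_num at hx
  rcases Cfsg.Agent.S0111.result P2 Q hQP hQi x hx hxP2 hxQ with ⟨Mn, hMn, hMnidx, -⟩ | ⟨g, hg⟩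
  · rcases hMn.eq_bot_or_eq_top with hb | ht
    · rw [hb, Subgroup.index_bot, h] at hMnidx
      omega
    · rw [ht, Subgroup.index_top] at hMnidx
      omega
  · obtain ⟨m, hmM, hm⟩ := hg
    have hm1 : m ≠ 1 := by
      intro h1
      rw [h1] at hm
      have h2 : g * x * g⁻¹ = 1 := by rw [← hm]; rfl
      apply hx1
      have : x = g⁻¹ * (g * x * g⁻¹) * g := by group
      rw [this, h2]; group
    have h8 := hMy m hmM hm1
    have h9 := card_centralizer_subtype_dvd (P2 : Subgroup G) m
    have h10 : ((m : (P2 : Subgroup G)) : G) = g * x * g⁻¹ := hm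
    rw [h10, card_centralizer_conj, hcx] at h9
    have := dvd_trans h8 h9
    norm_num at this

end Cfsg.Agent.Lib.Helper25_SM_N1008
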