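import Mathlib
import Cfsg.Prelude.Def_GeometricClasses
import Cfsg.Prelude.Def_LieClassical
import Cfsg.Agent.Lib.Helper39_QSDefs
import Cfsg.Agent.Lib.Helper98_Decomp
import Cfsg.Agent.Lib.Helper30_AschMax
import Cfsg.Agent.Lib.Helper13_Herm
import Cfsg.Agent.Lib.Helper5_SUCenter
import Cfsg.Agent.Lib.Helper94_HermIrr
import Cfsg.Agent.Lib.Helper94_HermBridge
import Cfsg.Agent.S0283

/-!
helper39: package SUG-U1: `SU_n(q) = GU_n(q) ⊓ SL_n(q^2)` inside `GL_n(q^2)` is perfect, its normalized
subgroups are scalar or everything, it is irreducible and contains a unitary transvection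
(`n ≥ 3`, `(n, q) ≠ (3, 2)`).
-/

set_option autoImplicit false

namespace Cfsg.Agent.Lib.Helper39_SUG_U1

open Matrix Cfsg.Geo Cfsg.Agent.Lib.Helper39_QSDefs Cfsg.Agent.Lib.Helper13_Herm
  Cfsg.Agent.Lib.Helper5_GUOrder Cfsg.Agent.Lib.Helper5_SUOrder Cfsg.Agent.Lib.Helper98_Decomp

variable {F : Type*} [Field F] [Fintype F] {n q : ℕ}

/-- the embedding of the prelude's `SU` into `GL` -/
noncomputable def emb (n : ℕ) (F : Type*) [Field F] (q : ℕ) : ↥(Cfsg.SU n F q) →* GL (Fin n) F :=
  (Matrix.SpecialLinearGroup.toGL : Matrix.SpecialLinearGroup (Fin n) F →* GL (Fin n) F).comp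
    (Subgroup.subtype _)

lemma emb_val (A : ↥(Cfsg.SU n F q)) :
    ((emb n F q A : GL (Fin n) F) : Matrix (Fin n) (Fin n) F) = (A.1 : Matrix (Fin n) (Fin n) F) := rfl

lemma range_emb : (emb n F q).range = Cfsg.GU n F q ⊓ specialLinear (Fin n) F := by
  ext g
  rw [MonoidHom.mem_range, Subgroup.mem_inf, mem_specialLinear_iff, mem_GU_iff]
  constructor
  · rintro ⟨A, rfl⟩
    exact ⟨(mem_SU_iff A.1).mp A.2, A.1.2⟩
  · rintro ⟨hU, hdet⟩
    exact ⟨⟨⟨(g : Matrix (Fin n) (Fin n) F), hdet⟩, (mem_SU_iff _).mpr hU⟩, Units.ext rfl⟩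

/-- in a perfect group with simple central quotient a normal subgroup is central or everything -/
lemma normal_dichotomy {G : Type*} [Group G] (hs : IsSimpleGroup (G ⧸ Subgroup.center G))
    (hp : commutator G = ⊤) (K : Subgroup G) (hK : K.Normal) : K ≤ Subgroup.center G ∨ K = ⊤ := by
  have hsurj := QuotientGroup.mk'_surjective (Subgroup.center G)
  have hKn : (K.map (QuotientGroup.mk' (Subgroup.center G))).Normal := hK.map _ hsurj
  rcases hKn.eq_bot_or_eq_top with h | h
  · left
    rw [Subgroup.map_eq_bot_iff, QuotientGroup.ker_mk'] at h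
    exact h
  · right
    have h1 : K ⊔ Subgroup.center G = ⊤ := by
      have := Subgroup.comap_map_eq (QuotientGroup.mk' (Subgroup.center G)) K
      rw [h, Subgroup.comap_top, QuotientGroup.ker_mk'] at this
      exact this.symm
    have h2 : ⁅(⊤ : Subgroup G), ⊤⁆ ≤ K :=
      Cfsg.Agent.Lib.Helper30_AschMax.commutator_le_of_le_sup_central (Z := Subgroup.center G)
        (fun z hz g => ((Subgroup.mem_center_iff.mp hz) g).symm) h1.ge
    rw [← commutator_def, hp] at h2
    exact top_le_iff.mp h2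

/-- the unitary transvection for an isotropic vector, as an element of `SU_n(q)` in `GL` -/
lemma exists_tv (hF : Fintype.card F = q ^ 2) (a : Fin n → F) (c : F)
    (ha : Cfsg.hermForm n F q a a = 0) (hc : c + c ^ q = 0) :
    ∃ g ∈ Cfsg.GU n F q ⊓ specialLinear (Fin n) F,
      (g : Matrix (Fin n) (Fin n) F) = Cfsg.unitaryTransvection n q a c := by
  have hq0 : q ≠ 0 := by have := two_le_q hF; omega
  have hU : IsU n q (Cfsg.unitaryTransvection n q a c) :=
    isU_transvection hF a c (by rw [ha, mul_zero, add_zero, hc])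
  have hdet : (Cfsg.unitaryTransvection n q a c).det = 1 := by
    rw [Cfsg.Agent.Lib.Helper5_SUCenter.det_unitaryTransvection, ha, mul_zero, add_zero]
  refine ⟨(mkGU hq0 _ hU).1, ⟨(mkGU hq0 _ hU).2, ?_⟩, mkGU_val hq0 _ hU⟩
  show (mkGU hq0 _ hU).1 ∈ specialLinear (Fin n) F
  rw [mem_specialLinear_iff, mkGU_val, hdet]

lemma exists_notMem_span_pair (hn : 3 ≤ n) (x y : Fin n → F) :
    ∃ z : Fin n → F, z ∉ Submodule.span F {x, y} := by
  by_contra hcon
  push Not at hcon
  have htop : Submodule.span F ({x, y} : Set (Fin n → F)) = ⊤ := by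
    rw [eq_top_iff]
    intro z _
    exact hcon z
  have h1 : Module.finrank F (Submodule.span F ({x, y} : Set (Fin n → F))) ≤ 2 := by
    classical
    have h2 : ({x, y} : Set (Fin n → F)) = (({x, y} : Finset (Fin n → F)) : Set (Fin n → F)) := by
      simp
    rw [h2]
    exact (finrank_span_finset_le_card _).trans Finset.card_le_two
  rw [htop, finrank_top, Module.finrank_fin_fun] at h1
  omega

/-- **SUG-U1** -/
theorem U1 {q : ℕ} (hF : Fintype.card F = q ^ 2) (n : ℕ) (hn : 3 ≤ n) (hex : ¬ (n = 3 ∧ q = 2)) :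
    QS (Cfsg.GU n F q ⊓ specialLinear (Fin n) F) := by
  have hq0 : q ≠ 0 := by have := two_le_q hF; omega
  have hperf := Cfsg.Agent.S0283.su_perfect hF n hn hex
  have hsimple : IsSimpleGroup (↥(Cfsg.SU n F q) ⧸ Subgroup.center ↥(Cfsg.SU n F q)) :=
    Cfsg.Agent.S0283.result hF n hn hex
  obtain ⟨σ, hσq, hσ⟩ := Cfsg.Agent.Lib.Helper94_HermBridge.exists_frob hF
  have i0 : Fin n := ⟨0, by omega⟩
  have i1 : Fin n := ⟨1, by omega⟩
  refine ⟨?_, ?_, ?_, ?_⟩
  · -- perfect
    rw [commutator_def] at hperf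
    rw [← range_emb, MonoidHom.range_eq_map, ← Subgroup.map_commutator, hperf]
  · -- dichotomy
    intro K hKN hnorm
    have hKn : (K.comap (emb n F q)).Normal := by
      refine ⟨fun x hx s => ?_⟩
      rw [Subgroup.mem_comap, map_mul, map_mul, map_inv]
      refine hnorm _ ?_ _ hx
      rw [← range_emb]
      exact ⟨s, rfl⟩
    rcases normal_dichotomy hsimple hperf _ hKn with h | h
    · left
      intro g hg
      have hgN := hKN hg
      rw [← range_emb] at hgN
      obtain ⟨A, rfl⟩ := hgN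
      have hA : A ∈ Subgroup.center ↥(Cfsg.SU n F q) := h hg
      have hsm := Cfsg.Agent.Lib.Helper5_SUCenter.center_eq_smul hF A hA i0
      have hc0 : (A.1 : Matrix (Fin n) (Fin n) F) i0 i0 ≠ 0 := by
        intro h0
        have hdet : (A.1 : Matrix (Fin n) (Fin n) F).det = 1 := A.1.2
        have : Nonempty (Fin n) := ⟨i0⟩
        rw [hsm, h0, zero_smul, Matrix.det_zero] at hdet
        exact zero_ne_one hdet
      rw [mem_scalars_iff]
      exact ⟨Units.mk0 _ hc0, by rw [emb_val]; exact hsm⟩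
    · right
      apply le_antisymm hKN
      rw [← range_emb]
      rintro _ ⟨A, rfl⟩
      have : A ∈ K.comap (emb n F q) := by rw [h]; trivial
      exact this
  · -- irreducible
    intro W hW
    by_cases hW0 : W = ⊥
    · exact Or.inl hW0
    right
    obtain ⟨x0, hx0W, hx00⟩ := (Submodule.ne_bot_iff W).mp hW0
    have hB := Cfsg.Agent.Lib.Helper94_HermBridge.hermB_isHerm (n := n) σ hσq hσ
    have hN := Cfsg.Agent.Lib.Helper94_HermBridge.hermB_nondeg (n := n) σ hσq
    have key := Cfsg.Agent.Lib.Helper94_HermIrr.mem_of_utv_invariant hσ hB hN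
      (fun x y => by
        obtain ⟨z, hz⟩ := exists_notMem_span_pair hn x y
        exact ⟨z, trivial, hz⟩)
      W.toAddSubgroup
      (fun a _ ha c hc x hx => by
        have ha' : Cfsg.hermForm n F q a a = 0 := ha
        have hc' : c + c ^ q = 0 := by rw [← hσq, hc, add_neg_cancel]
        obtain ⟨g, hg, hgv⟩ := exists_tv hF a c ha' hc'
        have := hW g hg x hx
        rw [hgv, unitaryTransvection_mulVec] at this
        rw [Cfsg.Agent.Lib.Helper94_Herm.utv_apply _ ha]
        exact this)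
      ⟨x0, hx0W, trivial, hx00⟩
    rw [eq_top_iff]
    intro x _
    exact key x trivial
  · -- a transvection
    obtain ⟨ζ, hζ⟩ := Cfsg.Agent.Lib.Helper5_SUCenter.exists_norm_neg_one hF
    obtain ⟨c, hc0, hc⟩ := Cfsg.Agent.Lib.Helper5_SUCenter.exists_trace_zero hF
    have hζ0 : ζ ≠ 0 := by
      rintro rfl
      rw [zero_mul] at hζ
      exact zero_ne_one (neg_eq_zero.mp hζ.symm).symm
    have h01 : (⟨0, by omega⟩ : Fin n) ≠ ⟨1, by omega⟩ := by
      intro h
      have := congrArg Fin.val h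
      simp at this
    set j0 : Fin n := ⟨0, by omega⟩ with hj0
    set j1 : Fin n := ⟨1, by omega⟩ with hj1
    let a : Fin n → F := Pi.single j0 1 + ζ • Pi.single j1 1
    have ha0 : a j0 = 1 := by simp [a, Pi.single_eq_of_ne h01]
    have ha1 : a j1 = ζ := by simp [a, Pi.single_eq_of_ne h01.symm]
    have haa : Cfsg.hermForm n F q a a = 0 := by
      show Cfsg.hermForm n F q (Pi.single j0 1 + ζ • Pi.single j1 1) a = 0
      rw [hermForm_add_left, hermForm_smul_left, hermForm_single_left, hermForm_single_left, ha0, ha1, one_pow,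
        hζ, add_neg_cancel]
    obtain ⟨g, hg, hgv⟩ := exists_tv hF a c haa hc
    refine ⟨g, hg, ?_, ?_⟩
    · -- not a scalar
      intro hsc
      obtain ⟨d, hd⟩ := (mem_scalars_iff g).mp hsc
      have h1 : (g : Matrix (Fin n) (Fin n) F) *ᵥ (Pi.single j0 1) = (d : F) • Pi.single j0 1 := by
        rw [hd, Matrix.smul_mulVec, Matrix.one_mulVec]
      rw [hgv, unitaryTransvection_mulVec, hermForm_single_left, ha0, one_pow, mul_one] at h1
      have h2 := congrFun h1 j1
      simp only [Pi.add_apply, Pi.smul_apply, smul_eq_mul, Pi.single_eq_of_ne h01.symm, mul_zero, zero_add,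
        ha1] at h2
      rcases mul_eq_zero.mp h2 with h | h
      · exact hc0 h
      · exact hζ0 h
    · -- fixes a hyperplane
      refine ⟨(Cfsg.Agent.Lib.Helper94_HermBridge.hermB n σ hσq).flip a, ?_, ?_⟩
      · intro h0
        have h1 := LinearMap.congr_fun h0 (Pi.single j0 1)
        rw [LinearMap.flip_apply, Cfsg.Agent.Lib.Helper94_HermBridge.hermB_apply, hermForm_single_left, ha0,
          one_pow, LinearMap.zero_apply] at h1
        exact one_ne_zero h1
      · intro x hx
        rw [LinearMap.flip_apply, Cfsg.Agent.Lib.Helper94_HermBridge.hermB_apply] at hx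
        rw [hgv, unitaryTransvection_mulVec, hx, mul_zero, zero_smul, add_zero]

end Cfsg.Agent.Lib.Helper39_SUG_U1
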