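import Mathlib
import Cfsg.Prelude.Def_GeometricClasses
import Cfsg.Prelude.Def_LieClassical
import Cfsg.Agent.Lib.Helper13_Herm
import Cfsg.Agent.Lib.Helper13_GU

/-!
# Decompositions into nondegenerate planes over `F_4` refine to frames (helper4, for S5784 and the even unitary rows)

For the standard hermitian form over the field with four elements (`q = 2`) a nondegenerate plane has
an orthonormal basis `a, b`, and its anisotropic vectors are exactly the nonzero multiples of `a` and
of `b`.  Hence a decomposition into mutually orthogonal nondegenerate planes refines canonically to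
a decomposition into mutually orthogonal nondegenerate lines, and the unitary stabiliser of the
former stabilises the latter.
-/

set_option autoImplicit false

namespace Cfsg.Agent.Lib.Helper4_SUFrameTwo

open Matrix Cfsg.Geo Cfsg.Agent.Lib.Helper13_Herm

variable {F : Type*} [Field F] [Fintype F] {n : ℕ}

/-! ### the field with four elements -/

lemma two_eq_zero (hF : Fintype.card F = 2 ^ 2) : (2 : F) = 0 := by
  have := FiniteField.cast_card_eq_zero F
  rw [hF] at this
  have h4 : (2 : F) * 2 = 0 := by
    have e : ((2 ^ 2 : ℕ) : F) = 2 * 2 := by norm_num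
    rw [← e]
    assumption
  exact mul_self_eq_zero.1 h4

lemma cube_eq_one (hF : Fintype.card F = 2 ^ 2) {a : F} (ha : a ≠ 0) : a ^ 3 = 1 := by
  have := FiniteField.pow_card_sub_one_eq_one a ha
  rwa [hF] at this

lemma exists_eps (hF : Fintype.card F = 2 ^ 2) : ∃ ε : F, ε ^ 2 + ε ≠ 0 := by
  classical
  have hcard : ({0, 1} : Finset F).card < (Finset.univ : Finset F).card := by
    rw [Finset.card_univ, hF]
    calc ({0, 1} : Finset F).card ≤ 2 := Finset.card_le_two
      _ < 2 ^ 2 := by norm_num
  obtain ⟨ε, -, hε⟩ := Finset.exists_mem_notMem_of_card_lt_card hcard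
  rw [Finset.mem_insert, Finset.mem_singleton, not_or] at hε
  refine ⟨ε, ?_⟩
  have h2 := two_eq_zero hF
  intro h
  have : ε * (ε + 1) = 0 := by linear_combination h
  rcases mul_eq_zero.1 this with h0 | h1
  · exact hε.1 h0
  · apply hε.2
    linear_combination h1 - h2

/-! ### the hermitian form for `q = 2` -/

/-- the norm `f(v, v)` -/
def nm (v : Fin n → F) : F := Cfsg.hermForm n F 2 v v

lemma herm_symm (hF : Fintype.card F = 2 ^ 2) (x y : Fin n → F) :
    Cfsg.hermForm n F 2 y x = Cfsg.hermForm n F 2 x y ^ 2 :=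
  (hermForm_pow_q n hF x y).symm

lemma nm_add (hF : Fintype.card F = 2 ^ 2) (x y : Fin n → F) :
    nm (x + y) = nm x + Cfsg.hermForm n F 2 x y + Cfsg.hermForm n F 2 y x + nm y := by
  unfold nm
  rw [hermForm_add_left, hermForm_add_right n hF, hermForm_add_right n hF]
  ring

omit [Fintype F] in
lemma nm_smul (c : F) (x : Fin n → F) : nm (c • x) = c ^ 3 * nm x := by
  unfold nm
  rw [hermForm_smul_left, hermForm_smul_right]
  ring

lemma nm_sq (hF : Fintype.card F = 2 ^ 2) (x : Fin n → F) : nm x ^ 2 = nm x :=
  hermForm_pow_q n hF x x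

lemma nm_eq_one (hF : Fintype.card F = 2 ^ 2) {x : Fin n → F} (hx : nm x ≠ 0) : nm x = 1 := by
  have h := nm_sq hF x
  have : nm x * (nm x - 1) = 0 := by linear_combination h
  rcases mul_eq_zero.1 this with h0 | h1
  · exact absurd h0 hx
  · linear_combination h1

/-! ### nondegenerate planes -/

/-- a nonzero nondegenerate subspace contains an anisotropic vector -/
lemma exists_aniso (hF : Fintype.card F = 2 ^ 2) {W : Submodule F (Fin n → F)} (hW0 : W ≠ ⊥)
    (hnd : IsNondegenerateOn (Cfsg.hermForm n F 2) W) : ∃ a ∈ W, nm a ≠ 0 := by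
  by_contra hcon
  push Not at hcon
  obtain ⟨w, hwW, hw0⟩ := Submodule.exists_mem_ne_zero_of_ne_bot hW0
  obtain ⟨⟨x, hxW, hxw⟩, -⟩ := hnd w hwW hw0
  obtain ⟨ε, hε⟩ := exists_eps hF
  set t := Cfsg.hermForm n F 2 x w with ht
  have h1 := hcon (x + (t * ε) • w) (W.add_mem hxW (W.smul_mem _ hwW))
  rw [nm_add hF, nm_smul, hcon x hxW, hcon w hwW, hermForm_smul_right, hermForm_smul_left,
    herm_symm hF x w, ← ht] at h1
  have ht3 := cube_eq_one hF hxw
  apply hε
  have : t ^ 3 * (ε ^ 2 + ε) = 0 := by linear_combination h1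
  rw [ht3, one_mul] at this
  exact this

/-- the orthonormal frame of a nondegenerate plane -/
theorem plane_frame (hF : Fintype.card F = 2 ^ 2) {W : Submodule F (Fin n → F)}
    (hdim : Module.finrank F W = 2) (hnd : IsNondegenerateOn (Cfsg.hermForm n F 2) W) :
    ∃ a b : Fin n → F, a ∈ W ∧ b ∈ W ∧ nm a = 1 ∧ nm b = 1 ∧ Cfsg.hermForm n F 2 a b = 0 ∧
      Cfsg.hermForm n F 2 b a = 0 ∧ (∀ x ∈ W, ∃ α β : F, x = α • a + β • b) ∧
      (∀ x ∈ W, nm x ≠ 0 → (∃ c : F, x = c • a) ∨ (∃ c : F, x = c • b)) := by
  have h2 := two_eq_zero hF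
  have hW0 : W ≠ ⊥ := by
    rintro rfl
    rw [finrank_bot] at hdim
    omega
  obtain ⟨a, haW, ha⟩ := exists_aniso hF hW0 hnd
  have ha1 := nm_eq_one hF ha
  -- a vector of `W` outside the line of `a`
  have hex : ∃ z ∈ W, z ∉ Submodule.span F {a} := by
    by_contra hcon
    push Not at hcon
    have hle : W ≤ Submodule.span F {a} := hcon
    have h1 := Submodule.finrank_mono hle
    have h3 : Module.finrank F (Submodule.span F {a}) ≤ 1 := by
      have := finrank_span_le_card (R := F) ({a} : Set (Fin n → F))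
      simpa using this
    omega
  obtain ⟨z, hzW, hza⟩ := hex
  set b : Fin n → F := z + Cfsg.hermForm n F 2 z a • a with hb
  have hbW : b ∈ W := W.add_mem hzW (W.smul_mem _ haW)
  have hba : Cfsg.hermForm n F 2 b a = 0 := by
    rw [hb, hermForm_add_left, hermForm_smul_left]
    have : Cfsg.hermForm n F 2 a a = 1 := ha1
    rw [this]
    linear_combination Cfsg.hermForm n F 2 z a * h2
  have hab : Cfsg.hermForm n F 2 a b = 0 := by
    rw [herm_symm hF b a, hba]; ring
  have hbnot : b ∉ Submodule.span F {a} := by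
    intro hmem
    apply hza
    have : z = b - Cfsg.hermForm n F 2 z a • a := by rw [hb]; abel
    rw [this]
    exact Submodule.sub_mem _ hmem (Submodule.smul_mem _ _ (Submodule.mem_span_singleton_self a))
  -- `a, b` span `W`
  have hli : LinearIndependent F ![a, b] := by
    rw [LinearIndependent.pair_iff]
    intro s u hsu
    have hu : u = 0 := by
      by_contra hu0
      apply hbnot
      rw [Submodule.mem_span_singleton]
      refine ⟨-(s / u), ?_⟩
      have : u • b = -(s • a) := by
        rw [eq_neg_iff_add_eq_zero, add_comm]; exact hsu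
      calc -(s / u) • a = u⁻¹ • (-(s • a)) := by
            rw [smul_neg, neg_smul, smul_smul]; congr 2; field_simp
        _ = u⁻¹ • (u • b) := by rw [this]
        _ = b := by rw [smul_smul, inv_mul_cancel₀ hu0, one_smul]
    subst hu
    rw [zero_smul, add_zero] at hsu
    have ha0 : a ≠ 0 := by
      rintro rfl
      apply ha
      unfold nm
      simp
    exact ⟨(smul_eq_zero.1 hsu).resolve_right ha0, rfl⟩
  have hspan : Submodule.span F (Set.range ![a, b]) = W := by
    apply Submodule.eq_of_le_of_finrank_eq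
    · rw [Submodule.span_le]
      rintro _ ⟨i, rfl⟩
      fin_cases i
      · exact haW
      · exact hbW
    · rw [finrank_span_eq_card hli, hdim]
      simp
  have hdecomp : ∀ x ∈ W, ∃ α β : F, x = α • a + β • b := by
    intro x hx
    rw [← hspan] at hx
    have hr : Set.range ![a, b] = {a, b} := by
      ext y
      simp only [Set.mem_range, Set.mem_insert_iff, Set.mem_singleton_iff]
      constructor
      · rintro ⟨i, rfl⟩
        fin_cases i
        · left; rfl
        · right; rfl
      · rintro (rfl | rfl)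
        · exact ⟨0, rfl⟩
        · exact ⟨1, rfl⟩
    rw [hr, Submodule.mem_span_pair] at hx
    obtain ⟨α, β, h⟩ := hx
    exact ⟨α, β, h.symm⟩
  have hb0 : b ≠ 0 := by
    rintro h0
    apply hbnot
    rw [h0]
    exact Submodule.zero_mem _
  have hbn : nm b ≠ 0 := by
    intro hbn
    obtain ⟨⟨x, hxW, hxb⟩, -⟩ := hnd b hbW hb0
    obtain ⟨α, β, rfl⟩ := hdecomp x hxW
    apply hxb
    rw [hermForm_add_left, hermForm_smul_left, hermForm_smul_left, hab]
    have : Cfsg.hermForm n F 2 b b = 0 := hbn
    rw [this]; ring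
  have hb1 := nm_eq_one hF hbn
  refine ⟨a, b, haW, hbW, ha1, hb1, hab, hba, hdecomp, ?_⟩
  intro x hxW hx
  obtain ⟨α, β, rfl⟩ := hdecomp x hxW
  have hN : nm (α • a + β • b) = α ^ 3 + β ^ 3 := by
    rw [nm_add hF, nm_smul, nm_smul, ha1, hb1, hermForm_smul_left, hermForm_smul_right,
      hermForm_smul_left, hermForm_smul_right, hab, hba]
    ring
  by_cases hα : α = 0
  · right
    exact ⟨β, by rw [hα, zero_smul, zero_add]⟩
  · by_cases hβ : β = 0
    · left
      exact ⟨α, by rw [hβ, zero_smul, add_zero]⟩
    · exfalso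
      apply hx
      rw [hN, cube_eq_one hF hα, cube_eq_one hF hβ]
      linear_combination h2

/-! ### the frame of a decomposition into nondegenerate planes -/

omit [Fintype F] in
/-- the form as a linear map in the first variable -/
lemma herm_sum_left {ι : Type*} (s : Finset ι) (c : ι → F) (v : ι → Fin n → F) (w : Fin n → F) :
    Cfsg.hermForm n F 2 (∑ p ∈ s, c p • v p) w = ∑ p ∈ s, c p * Cfsg.hermForm n F 2 (v p) w := by
  classical
  induction s using Finset.induction_on with
  | empty => simp
  | insert a s ha ih =>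
    rw [Finset.sum_insert ha, Finset.sum_insert ha, hermForm_add_left, hermForm_smul_left, ih]

omit [Fintype F] in
/-- an orthonormal family is linearly independent -/
lemma linearIndependent_of_orthonormal {ι : Type*} (v : ι → Fin n → F)
    (h1 : ∀ p, nm (v p) = 1) (h0 : ∀ p p', p ≠ p' → Cfsg.hermForm n F 2 (v p) (v p') = 0) :
    LinearIndependent F v := by
  classical
  rw [linearIndependent_iff']
  intro s c hsum p hp
  have : Cfsg.hermForm n F 2 (∑ p' ∈ s, c p' • v p') (v p) = Cfsg.hermForm n F 2 0 (v p) := by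
    rw [hsum]
  rw [herm_sum_left, hermForm_zero_left, Finset.sum_eq_single p] at this
  · have h := h1 p
    unfold nm at h
    rw [h, mul_one] at this
    exact this
  · intro p' _ hp'
    rw [h0 p' p hp', mul_zero]
  · intro h; exact absurd hp h

section Global

variable {t : ℕ} {D : Fin t → Submodule F (Fin n → F)}

include D in
/-- **refinement**: over the field with four elements the unitary stabiliser of a decomposition into
mutually orthogonal nondegenerate planes stabilises a decomposition into mutually orthogonal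
nondegenerate lines -/
theorem refine_planes (hF : Fintype.card F = 2 ^ 2)
    (hD : IsNondegenerateMDecomposition (Cfsg.hermForm n F 2) 2 D) :
    ∃ D' : Fin (t * 2) → Submodule F (Fin n → F),
      IsNondegenerateMDecomposition (Cfsg.hermForm n F 2) 1 D' ∧
        decompositionStabilizer D ⊓ Cfsg.GU n F 2 ≤ decompositionStabilizer D' := by
  classical
  have hpl := fun i => plane_frame hF (hD.decomp.finrank_eq i) (hD.nondegenerate i)
  choose A B hA hB hA1 hB1 hAB hBA hdec hcls using hpl
  -- the frame vectors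
  set v : Fin t × Fin 2 → Fin n → F := fun p => if p.2 = 0 then A p.1 else B p.1 with hv
  have v0 : ∀ i, v (i, 0) = A i := fun i => by simp [hv]
  have v1 : ∀ i, v (i, 1) = B i := fun i => by simp [hv]
  have hvmem : ∀ p, v p ∈ D p.1 := by
    rintro ⟨i, j⟩
    fin_cases j
    · show v (i, 0) ∈ D i
      rw [v0]; exact hA i
    · show v (i, 1) ∈ D i
      rw [v1]; exact hB i
  have hvn : ∀ p, nm (v p) = 1 := by
    rintro ⟨i, j⟩
    fin_cases j
    · show nm (v (i, 0)) = 1
      rw [v0]; exact hA1 i
    · show nm (v (i, 1)) = 1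
      rw [v1]; exact hB1 i
  have hvo : ∀ p p', p ≠ p' → Cfsg.hermForm n F 2 (v p) (v p') = 0 := by
    rintro ⟨i, j⟩ ⟨i', j'⟩ hne
    by_cases hi : i = i'
    · subst hi
      fin_cases j <;> fin_cases j'
      · exact absurd rfl hne
      · show Cfsg.hermForm n F 2 (v (i, 0)) (v (i, 1)) = 0
        rw [v0, v1]; exact hAB i
      · show Cfsg.hermForm n F 2 (v (i, 1)) (v (i, 0)) = 0
        rw [v0, v1]; exact hBA i
      · exact absurd rfl hne
    · exact hD.orthogonal i i' hi _ (hvmem (i, j)) _ (hvmem (i', j'))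
  have hv0 : ∀ p, v p ≠ 0 := by
    intro p h0
    have := hvn p
    rw [h0] at this
    unfold nm at this
    simp at this
  have hvdec : ∀ i, ∀ x ∈ D i, ∃ α β : F, x = α • v (i, 0) + β • v (i, 1) := by
    intro i x hx
    rw [v0, v1]
    exact hdec i x hx
  have hvcls : ∀ i, ∀ x ∈ D i, nm x ≠ 0 → ∃ (j : Fin 2) (c : F), x = c • v (i, j) := by
    intro i x hx hnx
    rcases hcls i x hx hnx with ⟨c, hc⟩ | ⟨c, hc⟩
    · exact ⟨0, c, by rw [v0]; exact hc⟩
    · exact ⟨1, c, by rw [v1]; exact hc⟩
  have hli : LinearIndependent F v := linearIndependent_of_orthonormal v hvn hvo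
  set e : Fin t × Fin 2 ≃ Fin (t * 2) := finProdFinEquiv with he
  set D' : Fin (t * 2) → Submodule F (Fin n → F) := fun l => Submodule.span F {v (e.symm l)} with hD'
  have hD'e : ∀ p, D' (e p) = Submodule.span F {v p} := by
    intro p
    show Submodule.span F {v (e.symm (e p))} = _
    rw [Equiv.symm_apply_apply]
  refine ⟨D', ⟨⟨?_, Nat.one_pos, ?_, ?_, ?_⟩, ?_, ?_⟩, ?_⟩
  · have := hD.decomp.two_le
    omega
  · intro l
    exact finrank_span_singleton (hv0 _)
  · have hli' : LinearIndependent F (fun l => v (e.symm l)) :=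
      hli.comp _ e.symm.injective
    exact hli'.iSupIndep_span_singleton
  · rw [eq_top_iff, ← hD.decomp.iSup_eq_top]
    apply iSup_le
    intro i x hx
    obtain ⟨α, β, rfl⟩ := hvdec i x hx
    apply Submodule.add_mem
    · apply Submodule.smul_mem
      apply Submodule.mem_iSup_of_mem (e (i, 0))
      show v (i, 0) ∈ D' (e (i, 0))
      rw [hD'e]
      exact Submodule.mem_span_singleton_self _
    · apply Submodule.smul_mem
      apply Submodule.mem_iSup_of_mem (e (i, 1))
      show v (i, 1) ∈ D' (e (i, 1))
      rw [hD'e]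
      exact Submodule.mem_span_singleton_self _
  · -- nondegenerate lines
    intro l w hw hw0
    rw [Submodule.mem_span_singleton] at hw
    obtain ⟨c, rfl⟩ := hw
    have hc : c ≠ 0 := by
      rintro rfl
      apply hw0
      rw [zero_smul]
    have hn := hvn (e.symm l)
    unfold nm at hn
    refine ⟨⟨v (e.symm l), Submodule.mem_span_singleton_self _, ?_⟩,
      ⟨v (e.symm l), Submodule.mem_span_singleton_self _, ?_⟩⟩
    · rw [hermForm_smul_right, hn, mul_one]
      exact pow_ne_zero 2 hc
    · rw [hermForm_smul_left, hn, mul_one]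
      exact hc
  · -- orthogonal lines
    intro l l' hll x hx y hy
    rw [Submodule.mem_span_singleton] at hx hy
    obtain ⟨c, rfl⟩ := hx
    obtain ⟨c', rfl⟩ := hy
    have hne : e.symm l ≠ e.symm l' := fun h => hll (e.symm.injective h)
    rw [hermForm_smul_left, hermForm_smul_right, hvo _ _ hne, mul_zero, mul_zero]
  · -- the stabiliser
    intro g hg
    obtain ⟨⟨σ, hσ⟩, hgU⟩ := Subgroup.mem_inf.1 hg
    have hgmem : ∀ p : Fin t × Fin 2, (g : Matrix (Fin n) (Fin n) F) *ᵥ v p ∈ D (σ p.1) := by
      intro p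
      rw [← hσ p.1, Submodule.mem_map]
      exact ⟨v p, hvmem p, Matrix.toLin'_apply _ _⟩
    have hgn : ∀ p, nm ((g : Matrix (Fin n) (Fin n) F) *ᵥ v p) = 1 := by
      intro p
      have := (Cfsg.Agent.Lib.Helper13_GU.mem_GU_iff g).1 hgU (v p) (v p)
      unfold nm
      rw [this]
      exact hvn p
    have hgo : ∀ p p', p ≠ p' → Cfsg.hermForm n F 2 ((g : Matrix (Fin n) (Fin n) F) *ᵥ v p)
        ((g : Matrix (Fin n) (Fin n) F) *ᵥ v p') = 0 := by
      intro p p' hne
      rw [(Cfsg.Agent.Lib.Helper13_GU.mem_GU_iff g).1 hgU (v p) (v p')]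
      exact hvo p p' hne
    have hstep : ∀ p : Fin t × Fin 2, ∃ (p' : Fin t × Fin 2) (c : F),
        (g : Matrix (Fin n) (Fin n) F) *ᵥ v p = c • v p' := by
      intro p
      obtain ⟨j, c, hc⟩ := hvcls (σ p.1) _ (hgmem p) (by rw [hgn p]; exact one_ne_zero)
      exact ⟨(σ p.1, j), c, hc⟩
    choose τ c hτ using hstep
    have hc0 : ∀ p, c p ≠ 0 := by
      intro p h0
      have := hgn p
      rw [hτ p, h0, zero_smul] at this
      unfold nm at this
      simp at this
    have hinj : Function.Injective τ := by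
      intro p p' hpp
      by_contra hne
      have := hgo p p' hne
      rw [hτ p, hτ p', hpp, hermForm_smul_left, hermForm_smul_right] at this
      have hn := hvn (τ p')
      unfold nm at hn
      rw [hn, mul_one] at this
      exact mul_ne_zero (hc0 p) (pow_ne_zero 2 (hc0 p')) this
    have hbij : Function.Bijective τ := Finite.injective_iff_bijective.1 hinj
    refine ⟨(e.symm.trans (Equiv.ofBijective τ hbij)).trans e, fun l => ?_⟩
    show (Submodule.span F {v (e.symm l)}).map (Matrix.toLin' (g : Matrix (Fin n) (Fin n) F)) =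
      D' (e (τ (e.symm l)))
    rw [hD'e, Submodule.map_span, Set.image_singleton, Matrix.toLin'_apply, hτ,
      Submodule.span_singleton_smul_eq (isUnit_iff_ne_zero.2 (hc0 _))]

end Global

end Cfsg.Agent.Lib.Helper4_SUFrameTwo
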