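import Mathlib

/-!
# Helper61_F4

A computable model `F4 = (ℤ/2)[ω]`, `ω² = ω + 1`, of the field with four elements (as a type
synonym of `ZMod 2 × ZMod 2`), with `Field`, `Fintype`, `DecidableEq` instances, and a ring
isomorphism from any field with four elements.
-/

set_option autoImplicit false

namespace Cfsg.Agent.Lib.Helper61_F4

/-- The field with four elements `(ℤ/2)[ω]`, `ω² = ω + 1`. -/
def F4 : Type := ZMod 2 × ZMod 2

namespace F4

instance : DecidableEq F4 := inferInstanceAs (DecidableEq (ZMod 2 × ZMod 2))
instance : Fintype F4 := inferInstanceAs (Fintype (ZMod 2 × ZMod 2))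

/-- `a + b ω`. -/
def mk (a b : ZMod 2) : F4 := (a, b)

def re (x : F4) : ZMod 2 := x.1
def im (x : F4) : ZMod 2 := x.2

instance : Zero F4 := ⟨mk 0 0⟩
instance : One F4 := ⟨mk 1 0⟩
instance : Add F4 := ⟨fun x y => mk (x.re + y.re) (x.im + y.im)⟩
instance : Neg F4 := ⟨fun x => x⟩
instance : Mul F4 :=
  ⟨fun x y => mk (x.re * y.re + x.im * y.im) (x.re * y.im + x.im * y.re + x.im * y.im)⟩
instance : Inv F4 := ⟨fun x => x * x⟩

instance : CommRing F4 where
  add_assoc := by decide
  zero_add := by decide
  add_zero := by decide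
  nsmul := nsmulRec
  zsmul := zsmulRec
  neg_add_cancel := by decide
  add_comm := by decide
  left_distrib := by decide
  right_distrib := by decide
  zero_mul := by decide
  mul_zero := by decide
  mul_assoc := by decide
  one_mul := by decide
  mul_one := by decide
  mul_comm := by decide

instance : Field F4 where
  exists_pair_ne := ⟨0, 1, by decide⟩
  mul_inv_cancel := by decide
  inv_zero := by decide
  nnqsmul := _
  nnqsmul_def := fun _ _ => rfl
  qsmul := _
  qsmul_def := fun _ _ => rfl

theorem card : Fintype.card F4 = 4 := by decide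

/-- Index of an element, `0 ≤ idx < 4`. -/
def idx (x : F4) : ℕ := x.re.val + 2 * x.im.val

theorem idx_lt : ∀ x : F4, idx x < 4 := by decide

theorem frob_add : ∀ x y : F4, (x + y) ^ 2 = x ^ 2 + y ^ 2 := by decide

end F4

/-- Any field with four elements is isomorphic to `F4`. -/
noncomputable def ringEquivF4 {F : Type*} [Field F] [Fintype F] (hF : Fintype.card F = 4) :
    F ≃+* F4 :=
  FiniteField.ringEquivOfCardEq (hF.trans F4.card.symm)

end Cfsg.Agent.Lib.Helper61_F4
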