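import Mathlib
import Cfsg.Prelude.Def_GeometricClasses
import Cfsg.Prelude.Def_LieClassical
import Cfsg.Agent.Lib.Helper13_Herm
import Cfsg.Agent.Lib.Helper13_GU
import Cfsg.Agent.Lib.Helper4_SUFrameTwo
import Cfsg.Agent.Lib.Helper39_SUG_U1
import Cfsg.Agent.Lib.Helper61_F4

/-!
# SU36-E6a (helper25, for helper27's S5802): `3^5 : S_6` is not maximal in `SU_6(2)`

The frame stabilizer is properly contained in the stabilizer of the 378 root vectors (weight two, or full
support with coordinate product one, in frame coordinates); the extra element is the unitary transvection in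
the sum of the frame vectors, and a transvection in the sum of four frame vectors does not preserve the roots.
-/

set_option autoImplicit false

namespace Cfsg.Agent.Lib.Helper25_SU36_E6a

open Matrix Cfsg.Geo Cfsg.Agent.Lib.Helper13_Herm Cfsg.Agent.Lib.Helper4_SUFrameTwo
open Cfsg.Agent.Lib.Helper61_F4

/-- the root vectors in coordinates: weight two, or weight six with product one -/
def X0 {F : Type*} [Field F] (c : Fin 6 → F) : Prop :=
  (∃ i j : Fin 6, i ≠ j ∧ ∀ k, c k ≠ 0 ↔ (k = i ∨ k = j)) ∨ ((∀ i, c i ≠ 0) ∧ ∏ i, c i = 1)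

def wt1 {F : Type*} [Field F] [DecidableEq F] (a : F) : ℕ := if a = 0 then 0 else 1

/-- explicit form -/
def X0p {F : Type*} [Field F] [DecidableEq F] (a b c d e f : F) : Prop :=
  (wt1 a + wt1 b + wt1 c + wt1 d + wt1 e + wt1 f = 2) ∨
    ((a ≠ 0 ∧ b ≠ 0 ∧ c ≠ 0 ∧ d ≠ 0 ∧ e ≠ 0 ∧ f ≠ 0) ∧ a * b * c * d * e * f = 1)

instance {F : Type*} [Field F] [DecidableEq F] (a b c d e f : F) : Decidable (X0p a b c d e f) := by
  unfold X0p; infer_instance

theorem factTp : ∀ a b c d e f : F4, X0p a b c d e f →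
    X0p (a + (a+b+c+d+e+f)) (b + (a+b+c+d+e+f)) (c + (a+b+c+d+e+f)) (d + (a+b+c+d+e+f))
      (e + (a+b+c+d+e+f)) (f + (a+b+c+d+e+f)) := by
  decide +kernel

theorem X0_iff {F : Type*} [Field F] [DecidableEq F] (c : Fin 6 → F) :
    X0 c ↔ X0p (c 0) (c 1) (c 2) (c 3) (c 4) (c 5) := by
  unfold X0 X0p
  have hall : (∀ i, c i ≠ 0) ↔ (c 0 ≠ 0 ∧ c 1 ≠ 0 ∧ c 2 ≠ 0 ∧ c 3 ≠ 0 ∧ c 4 ≠ 0 ∧ c 5 ≠ 0) := by
    constructor
    · intro h; exact ⟨h 0, h 1, h 2, h 3, h 4, h 5⟩
    · rintro ⟨h0, h1, h2, h3, h4, h5⟩ i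
      fin_cases i <;> assumption
  have hprod : ∏ i, c i = c 0 * c 1 * c 2 * c 3 * c 4 * c 5 := Fin.prod_univ_six c
  rw [hall, hprod]
  apply or_congr_left
  have hcard : (Finset.univ.filter (fun i => c i ≠ 0)).card
      = wt1 (c 0) + wt1 (c 1) + wt1 (c 2) + wt1 (c 3) + wt1 (c 4) + wt1 (c 5) := by
    rw [Finset.card_filter, Fin.sum_univ_six]
    simp only [wt1, ite_not]
  rw [← hcard]
  constructor
  · rintro ⟨i, j, hij, h⟩
    have : Finset.univ.filter (fun k => c k ≠ 0) = {i, j} := by
      ext k; simp [h k]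
    rw [this, Finset.card_pair hij]
  · intro h
    obtain ⟨i, j, hij, hs⟩ := Finset.card_eq_two.mp h
    refine ⟨i, j, hij, fun k => ?_⟩
    have : k ∈ Finset.univ.filter (fun k => c k ≠ 0) ↔ k ∈ ({i, j} : Finset (Fin 6)) := by rw [hs]
    simpa using this


theorem X0_map {F F' : Type*} [Field F] [Field F'] (φ : F ≃+* F') (c : Fin 6 → F) :
    X0 (fun i => φ (c i)) ↔ X0 c := by
  unfold X0
  simp only [ne_eq, EmbeddingLike.map_eq_zero_iff, ← map_prod, EmbeddingLike.map_eq_one_iff]

theorem factT {F : Type*} [Field F] [Fintype F] (hF : Fintype.card F = 2 ^ 2) (c : Fin 6 → F)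
    (hc : X0 c) : X0 (fun i => c i + ∑ j, c j) := by
  classical
  set φ := ringEquivF4 (F := F) (by rw [hF]; norm_num)
  rw [← X0_map φ] at hc ⊢
  rw [X0_iff] at hc ⊢
  have := factTp _ _ _ _ _ _ hc
  simp only [map_add, Fin.sum_univ_six]
  exact this


theorem X0_monomial {F : Type*} [Field F] (σ : Equiv.Perm (Fin 6)) (l : Fin 6 → F)
    (hl : ∀ i, l i ≠ 0) (hp : ∏ i, l i = 1) (c c' : Fin 6 → F)
    (h : ∀ i, c' (σ i) = l i * c i) : X0 c' ↔ X0 c := by
  have hne : ∀ i, c' (σ i) ≠ 0 ↔ c i ≠ 0 := by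
    intro i
    rw [h i]
    exact ⟨fun h0 hc => h0 (by rw [hc, mul_zero]), fun hc => mul_ne_zero (hl i) hc⟩
  unfold X0
  apply or_congr
  · constructor
    · rintro ⟨i, j, hij, hk⟩
      refine ⟨σ.symm i, σ.symm j, fun he => hij (σ.symm.injective he), fun k => ?_⟩
      rw [← hne k, hk (σ k), Equiv.eq_symm_apply, Equiv.eq_symm_apply]
    · rintro ⟨i, j, hij, hk⟩
      refine ⟨σ i, σ j, fun he => hij (σ.injective he), fun k => ?_⟩
      have := hne (σ.symm k)
      rw [Equiv.apply_symm_apply] at this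
      rw [this, hk (σ.symm k), Equiv.symm_apply_eq, Equiv.symm_apply_eq]
  · have h1 : (∀ i, c' i ≠ 0) ↔ (∀ i, c i ≠ 0) := by
      constructor
      · intro hh i; exact (hne i).mp (hh (σ i))
      · intro hh k
        have := (hne (σ.symm k)).mpr (hh _)
        rwa [Equiv.apply_symm_apply] at this
    have h2 : ∏ i, c' i = ∏ i, c i := by
      rw [← Equiv.prod_comp σ c']
      simp only [h]
      rw [Finset.prod_mul_distrib, hp, one_mul]
    rw [h1, h2]

section Main

variable {F : Type*} [Field F] [Fintype F]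

lemma herm_sum_right (hF : Fintype.card F = 2 ^ 2) {ι : Type*} (s : Finset ι)
    (v : ι → Fin 6 → F) (x : Fin 6 → F) :
    Cfsg.hermForm 6 F 2 x (∑ p ∈ s, v p) = ∑ p ∈ s, Cfsg.hermForm 6 F 2 x (v p) := by
  classical
  induction s using Finset.induction_on with
  | empty => simp [hermForm_zero_right 6 (by norm_num : (2:ℕ) ≠ 0)]
  | insert a s ha ih =>
    rw [Finset.sum_insert ha, Finset.sum_insert ha, hermForm_add_right 6 hF, ih]


theorem exists_between (hF : Fintype.card F = 2 ^ 2) (D : Fin 6 → Submodule F (Fin 6 → F))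
    (hD : IsNondegenerateMDecomposition (Cfsg.hermForm 6 F 2) 1 D) :
    ∃ K : Subgroup (GL (Fin 6) F),
      decompositionStabilizer D ⊓ (Cfsg.GU 6 F 2 ⊓ specialLinear (Fin 6) F) < K ∧
        K < Cfsg.GU 6 F 2 ⊓ specialLinear (Fin 6) F := by
  classical
  have h2 : (2 : F) = 0 := two_eq_zero hF
  have hneg : ∀ a : F, -a = a := by
    intro a
    have : a + a = 0 := by linear_combination a * h2
    exact neg_eq_of_add_eq_zero_left this
  -- frame vectors
  have hex : ∀ i, ∃ d : Fin 6 → F, d ∈ D i ∧ nm d = 1 ∧ ∀ x ∈ D i, ∃ a : F, x = a • d := by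
    intro i
    obtain ⟨⟨v, hv⟩, hv0, hgen⟩ := finrank_eq_one_iff'.mp (hD.decomp.finrank_eq i)
    have hv0' : v ≠ 0 := fun h => hv0 (Subtype.ext h)
    have hgen' : ∀ x ∈ D i, ∃ a : F, x = a • v := by
      intro x hx
      obtain ⟨a, ha⟩ := hgen ⟨x, hx⟩
      exact ⟨a, by simpa using (congrArg Subtype.val ha).symm⟩
    refine ⟨v, hv, ?_, hgen'⟩
    obtain ⟨⟨x, hx, hxv⟩, -⟩ := hD.nondegenerate i v hv hv0'
    obtain ⟨a, rfl⟩ := hgen' x hx
    rw [hermForm_smul_left] at hxv
    exact nm_eq_one hF (fun h => hxv (by unfold nm at h; rw [h, mul_zero]))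
  choose d hdD hdn hdgen using hex
  have hdo : ∀ i j, i ≠ j → Cfsg.hermForm 6 F 2 (d i) (d j) = 0 :=
    fun i j hij => hD.orthogonal i j hij _ (hdD i) _ (hdD j)
  have hli : LinearIndependent F d := linearIndependent_of_orthonormal d hdn hdo
  let b : Module.Basis (Fin 6) F (Fin 6 → F) :=
    basisOfLinearIndependentOfCardEqFinrank hli (by simp)
  have hb : ∀ i, b i = d i := fun i => by simp [b]
  -- coordinates
  have hco : ∀ x i, b.repr x i = Cfsg.hermForm 6 F 2 x (d i) := by
    intro x i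
    conv_rhs => rw [← b.sum_repr x]
    rw [herm_sum_left, Finset.sum_eq_single i]
    · rw [hb, show Cfsg.hermForm 6 F 2 (d i) (d i) = 1 from hdn i, mul_one]
    · intro j _ hj; rw [hb, hdo j i hj, mul_zero]
    · intro h; exact absurd (Finset.mem_univ i) h
  have hrd : ∀ i k, b.repr (d i) k = if i = k then 1 else 0 := by
    intro i k
    rw [← hb, b.repr_self, Finsupp.single_apply]
  have h11 : (1 : F) + 1 ^ 2 = 0 := by rw [one_pow]; linear_combination h2
  -- unitary transvections
  have hTr : ∀ r : Fin 6 → F, Cfsg.hermForm 6 F 2 r r = 0 →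
      ∃ T ∈ Cfsg.GU 6 F 2 ⊓ specialLinear (Fin 6) F,
        ∀ x, T.1 *ᵥ x = x + Cfsg.hermForm 6 F 2 x r • r := by
    intro r hr
    obtain ⟨T, hTS, hTv⟩ := Cfsg.Agent.Lib.Helper39_SUG_U1.exists_tv hF r 1 hr h11
    refine ⟨T, hTS, fun x => ?_⟩
    rw [hTv, unitaryTransvection_mulVec, one_mul]
  -- the root set and the overgroup
  set X : Set (Fin 6 → F) := {x | X0 (fun i => b.repr x i)} with hX
  set S := Cfsg.GU 6 F 2 ⊓ specialLinear (Fin 6) F with hS
  refine ⟨stabilizing (glToMat (Fin 6) F) X ⊓ S, ?_, ?_⟩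
  · -- the frame stabilizer is properly contained
    have hA : decompositionStabilizer D ⊓ S ≤ stabilizing (glToMat (Fin 6) F) X ⊓ S := by
      rintro g ⟨⟨σ, hσ⟩, hgS⟩
      refine ⟨?_, hgS⟩
      have hgd : ∀ i, ∃ l : F, g.1 *ᵥ d i = l • d (σ i) := by
        intro i
        have : g.1 *ᵥ d i ∈ D (σ i) := by
          rw [← hσ i]
          exact ⟨d i, hdD i, by simp [Matrix.toLin'_apply]⟩
        exact hdgen (σ i) _ this
      choose l hl using hgd
      set M := LinearMap.toMatrix b b (Matrix.toLin' g.1) with hM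
      have hMe : ∀ j i, M j i = if j = σ i then l i else 0 := by
        intro j i
        rw [hM, LinearMap.toMatrix_apply, Matrix.toLin'_apply, hb, hl, map_smul, ← hb (σ i),
          b.repr_self]
        simp [Finsupp.single_apply, eq_comm]
      have hdetM : M.det = 1 := by
        rw [hM, LinearMap.det_toMatrix, LinearMap.det_toLin']
        have h1 : Matrix.GeneralLinearGroup.det g = 1 := hgS.2
        have h3 := congrArg Units.val h1
        simpa using h3
      have hprod : ∏ i, l i = 1 := by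
        have h1 : (M.submatrix σ id) = Matrix.diagonal l := by
          ext i k
          by_cases hik : i = k
          · subst hik
            simp [hMe]
          · simp [hMe, σ.injective.eq_iff, hik]
        have h3 := Matrix.det_permute σ M
        rw [h1, Matrix.det_diagonal, hdetM, mul_one] at h3
        rw [h3]
        rcases Int.units_eq_one_or (Equiv.Perm.sign σ) with h | h <;> rw [h] <;> simp [hneg]
      have hl0 : ∀ i, l i ≠ 0 := by
        intro i hi
        have : ∏ i, l i = 0 := Finset.prod_eq_zero (Finset.mem_univ i) hi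
        rw [hprod] at this
        exact one_ne_zero this
      intro x
      show X0 (fun i => b.repr x i) ↔ X0 (fun i => b.repr (g.1 *ᵥ x) i)
      have hrep : ∀ i, b.repr (g.1 *ᵥ x) (σ i) = l i * b.repr x i := by
        intro i
        have := congrFun (LinearMap.toMatrix_mulVec_repr b b (Matrix.toLin' g.1) x) (σ i)
        rw [Matrix.toLin'_apply] at this
        rw [← this, Matrix.mulVec, dotProduct, Finset.sum_eq_single i]
        · rw [← hM, hMe, if_pos rfl]
        · intro k _ hk
          rw [← hM, hMe, if_neg (fun h => hk (σ.injective h).symm), zero_mul]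
        · intro h; exact absurd (Finset.mem_univ i) h
      exact (X0_monomial σ l hl0 hprod _ _ hrep).symm
    -- the transvection in the sum of the frame vectors
    set v : Fin 6 → F := ∑ i, d i with hv
    have hfv : ∀ x, Cfsg.hermForm 6 F 2 x v = ∑ i, b.repr x i := by
      intro x
      rw [hv, herm_sum_right hF]
      exact Finset.sum_congr rfl (fun i _ => (hco x i).symm)
    have hrv : ∀ k, b.repr v k = 1 := by
      intro k
      rw [hv, map_sum, Finsupp.finsetSum_apply]
      simp [hrd]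
    have hvv : Cfsg.hermForm 6 F 2 v v = 0 := by
      rw [hfv]
      simp only [hrv, Finset.sum_const, Finset.card_univ, Fintype.card_fin, nsmul_eq_mul, mul_one]
      push_cast
      linear_combination 3 * h2
    obtain ⟨T, hTS, hT⟩ := hTr v hvv
    have hTrep : ∀ x i, b.repr (T.1 *ᵥ x) i = b.repr x i + ∑ j, b.repr x j := by
      intro x i
      rw [hT x, hfv, map_add, map_smul, Finsupp.add_apply, Finsupp.smul_apply, hrv, smul_eq_mul,
        mul_one]
    have hTX : ∀ x, x ∈ X → T.1 *ᵥ x ∈ X := by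
      intro x hx
      show X0 (fun i => b.repr (T.1 *ᵥ x) i)
      have := factT hF _ hx
      simpa only [hTrep] using this
    have hTT : ∀ x, T.1 *ᵥ (T.1 *ᵥ x) = x := by
      intro x
      have hs : ∑ j, b.repr (T.1 *ᵥ x) j = ∑ j, b.repr x j := by
        simp only [hTrep, Finset.sum_add_distrib, Finset.sum_const, Finset.card_univ,
          Fintype.card_fin, nsmul_eq_mul]
        push_cast
        linear_combination 3 * (∑ j, b.repr x j) * h2
      rw [hT (T.1 *ᵥ x), hfv, hs, hT x, hfv]
      have : x + (∑ j, b.repr x j) • v + (∑ j, b.repr x j) • v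
          = x + ((2 : F) * ∑ j, b.repr x j) • v := by module
      rw [this, h2, zero_mul, zero_smul, add_zero]
    have hTK : T ∈ stabilizing (glToMat (Fin 6) F) X ⊓ S := by
      refine ⟨fun x => ⟨hTX x, fun h => ?_⟩, hTS⟩
      have := hTX _ h
      rwa [show (glToMat (Fin 6) F) T = T.1 from rfl, hTT] at this
    have hTD : T ∉ decompositionStabilizer D := by
      rintro ⟨σ, hσ⟩
      have hmem : T.1 *ᵥ d 0 ∈ D (σ 0) := by
        rw [← hσ 0]
        exact ⟨d 0, hdD 0, by simp [Matrix.toLin'_apply]⟩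
      obtain ⟨a, ha⟩ := hdgen (σ 0) _ hmem
      have hk : ∀ k, b.repr (T.1 *ᵥ d 0) k = a * (if σ 0 = k then 1 else 0) := by
        intro k
        rw [ha, map_smul, Finsupp.smul_apply, hrd, smul_eq_mul]
      have hk' : ∀ k, b.repr (T.1 *ᵥ d 0) k = (if (0 : Fin 6) = k then 1 else 0) + 1 := by
        intro k
        rw [hTrep, hrd]
        simp [hrd]
      by_cases h1 : σ 0 = 1
      · have e := (hk 2).symm.trans (hk' 2)
        rw [h1] at e
        simp at e
      · have e := (hk 1).symm.trans (hk' 1)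
        rw [if_neg h1] at e
        simp at e
    refine lt_of_le_of_ne hA (fun he => hTD ?_)
    rw [← he] at hTK
    exact hTK.1
  · -- the overgroup is proper
    refine lt_of_le_of_ne inf_le_right (fun he => ?_)
    set w : Fin 6 → F := d 0 + d 1 + d 2 + d 3 with hw
    have hfw : ∀ x, Cfsg.hermForm 6 F 2 x w
        = b.repr x 0 + b.repr x 1 + b.repr x 2 + b.repr x 3 := by
      intro x
      rw [hw, hermForm_add_right 6 hF, hermForm_add_right 6 hF, hermForm_add_right 6 hF,
        hco, hco, hco, hco]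
    have hrw : ∀ k, b.repr w k = (if (0 : Fin 6) = k then 1 else 0) + (if (1 : Fin 6) = k then 1 else 0)
        + (if (2 : Fin 6) = k then 1 else 0) + (if (3 : Fin 6) = k then 1 else 0) := by
      intro k
      rw [hw, map_add, map_add, map_add, Finsupp.add_apply, Finsupp.add_apply, Finsupp.add_apply,
        hrd, hrd, hrd, hrd]
    have hww : Cfsg.hermForm 6 F 2 w w = 0 := by
      rw [hfw, hrw, hrw, hrw, hrw]
      simp
      linear_combination 2 * h2
    obtain ⟨T, hTS, hT⟩ := hTr w hww
    have hTK : T ∈ stabilizing (glToMat (Fin 6) F) X := by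
      have : T ∈ stabilizing (glToMat (Fin 6) F) X ⊓ S := by rw [he]; exact hTS
      exact this.1
    set x : Fin 6 → F := d 0 + d 4 with hx
    have hrx : ∀ k, b.repr x k = (if (0 : Fin 6) = k then 1 else 0) + (if (4 : Fin 6) = k then 1 else 0) := by
      intro k
      rw [hx, map_add, Finsupp.add_apply, hrd, hrd]
    have hxX : x ∈ X := by
      show X0 (fun i => b.repr x i)
      left
      refine ⟨0, 4, by decide, fun k => ?_⟩
      show b.repr x k ≠ 0 ↔ _
      rw [hrx]
      fin_cases k <;> simp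
    have hTx := (hTK x).mp hxX
    have hfx : Cfsg.hermForm 6 F 2 x w = 1 := by
      rw [hfw, hrx, hrx, hrx, hrx]
      simp
    have hrT : ∀ k, b.repr (T.1 *ᵥ x) k = b.repr x k + b.repr w k := by
      intro k
      rw [hT x, hfx, one_smul, map_add, Finsupp.add_apply]
    have h0 : b.repr (T.1 *ᵥ x) 0 = 0 := by
      rw [hrT, hrx, hrw]
      simp
      linear_combination h2
    have h1 : b.repr (T.1 *ᵥ x) 1 ≠ 0 := by
      rw [hrT, hrx, hrw]
      simp
    have h2' : b.repr (T.1 *ᵥ x) 2 ≠ 0 := by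
      rw [hrT, hrx, hrw]
      simp
    have h3 : b.repr (T.1 *ᵥ x) 3 ≠ 0 := by
      rw [hrT, hrx, hrw]
      simp
    rcases hTx with ⟨i, j, hij, hk⟩ | ⟨hall, -⟩
    · have e1 := (hk 1).mp h1
      have e2 := (hk 2).mp h2'
      have e3 := (hk 3).mp h3
      clear hk
      revert e1 e2 e3 hij
      revert i j
      decide
    · exact hall 0 h0

/-- **SU36-E6a**: over the field with four elements the stabilizer in `SU_6(2)` of a frame of six mutually
orthogonal nondegenerate lines (`3^5 : S_6`) is not maximal (it lies in `3.U_4(3).2`, the stabilizer of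
the 378 root vectors). -/
theorem E6a (hF : Fintype.card F = 2 ^ 2) (D : Fin 6 → Submodule F (Fin 6 → F))
    (hD : IsNondegenerateMDecomposition (Cfsg.hermForm 6 F 2) 1 D) :
    ¬ IsMaximalIn (Cfsg.GU 6 F 2 ⊓ specialLinear (Fin 6) F)
      (decompositionStabilizer D ⊓ (Cfsg.GU 6 F 2 ⊓ specialLinear (Fin 6) F)) := by
  obtain ⟨K, h1, h2⟩ := exists_between hF D hD
  intro hm
  rcases hm.2 K h1.le h2.le with h | h
  · exact h1.ne' h
  · exact h2.ne h

end Main

end Cfsg.Agent.Lib.Helper25_SU36_E6a
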