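import Cfsg.Agent.S1523
import Cfsg.Agent.Lib.Helper75_CharArith
import Cfsg.Agent.Lib.Helper75_Induced
import Cfsg.Agent.Lib.Helper81_CharOrth2
import Cfsg.Agent.Lib.Helper3_CharOrtho
import Cfsg.Agent.Lib.Helper3_CharBridge
import Cfsg.Agent.Lib.Helper3_CharComplete
import Cfsg.Agent.Lib.Helper75_Clifford

/-!
# The divisibility lemma behind Sibley's coherence theorem (helper25)

`N ≤ G`, `Z` a subgroup, `S₁` the irreducible characters of `N` not trivial on `Z`, and `τ₁` a map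
with `Ind (η'(1) η - η(1) η') = η'(1) τ₁ η - η(1) τ₁ η'` on `S₁` (a coherent extension).  If the
irreducible character `ψ` of `G` is orthogonal to `τ₁ η` for all `η ∈ S₁`, then

* `multiplicity_proportional`: the multiplicities `(ψ|_N, η)`, `η ∈ S₁`, are proportional to the
  degrees;
* `sub_eq_of_orthogonal`: `ψ 1 - ψ z = (ψ|_N, η₀) / η₀(1) * |N|` for `1 ≠ z ∈ Z`, so `ψ` is constant
  on `Z \ {1}`;
* `dvd_of_orthogonal`: for `N = N_G(P)`, `P` a TI Sylow subgroup, under the hypotheses of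
  Peterfalvi (6.7), `|N : P| (ψ|_N, η) = k η(1)` for an integer `k` not depending on `η ∈ S₁`.
-/

set_option autoImplicit false
open scoped ComplexConjugate

namespace Cfsg.Agent.Lib.Helper25_SibleyDiv

open Cfsg.Agent.Lib.Helper3_CharOrtho Cfsg.Agent.Lib.Helper3_CharBridge
  Cfsg.Agent.Lib.Helper75_CharArith Cfsg.Agent.Lib.Helper75_Induced
  Cfsg.Agent.Lib.Helper3_CharComplete

variable {G : Type*} [Group G] [Fintype G]

section abstract

variable (N : Subgroup G) [Fintype N] (Z : Subgroup G)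

/-- The irreducible characters of `N` not trivial on `Z`. -/
def S₁ : Set (N → ℂ) :=
  {η | Cfsg.IsIrrCharacter N η ∧ ∃ z : N, (z : G) ∈ Z ∧ η z ≠ η 1}

variable {N Z}

theorem multiplicity_proportional (τ₁ : (N → ℂ) → (G → ℂ))
    (hτ₁ : ∀ η ∈ S₁ N Z, ∀ η' ∈ S₁ N Z,
      Cfsg.indFun N (η' 1 • η - η 1 • η') = η' 1 • τ₁ η - η 1 • τ₁ η')
    (ψ : G → ℂ) (hψ : Cfsg.IsIrrCharacter G ψ)
    (horth : ∀ η ∈ S₁ N Z, Cfsg.classInner (τ₁ η) ψ = 0)
    {η η' : N → ℂ} (hη : η ∈ S₁ N Z) (hη' : η' ∈ S₁ N Z) :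
    η' 1 * Cfsg.classInner (fun l : N => ψ l) η = η 1 * Cfsg.classInner (fun l : N => ψ l) η' := by
  have hχ : Cfsg.IsCharacter N (fun l : N => ψ l) :=
    isCharacter_restrict N (isCharacter_of_isIrrCharacter hψ)
  obtain ⟨a, ha⟩ := classInner_isCharacter_nat hχ (isCharacter_of_isIrrCharacter hη.1)
  obtain ⟨b, hb⟩ := classInner_isCharacter_nat hχ (isCharacter_of_isIrrCharacter hη'.1)
  have h1 := frobenius_reciprocity N (η' 1 • η - η 1 • η') ψ (isClassFunction_of_isIrrCharacter hψ)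
  rw [hτ₁ η hη η' hη', classInner_sub_left, classInner_smul_left, classInner_smul_left,
    horth η hη, horth η' hη', mul_zero, mul_zero, sub_zero, classInner_sub_left,
    classInner_smul_left, classInner_smul_left, ← classInner_conj_symm _ η,
    ← classInner_conj_symm _ η', ha, hb, Complex.conj_natCast, Complex.conj_natCast] at h1
  rw [ha, hb]
  exact (sub_eq_zero.mp h1.symm)

theorem sub_eq_of_orthogonal (τ₁ : (N → ℂ) → (G → ℂ))
    (hτ₁ : ∀ η ∈ S₁ N Z, ∀ η' ∈ S₁ N Z,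
      Cfsg.indFun N (η' 1 • η - η 1 • η') = η' 1 • τ₁ η - η 1 • τ₁ η')
    (ψ : G → ℂ) (hψ : Cfsg.IsIrrCharacter G ψ)
    (horth : ∀ η ∈ S₁ N Z, Cfsg.classInner (τ₁ η) ψ = 0)
    {η₀ : N → ℂ} (hη₀ : η₀ ∈ S₁ N Z) (z : N) (hz : (z : G) ∈ Z) (hz1 : z ≠ 1) :
    ψ 1 - ψ z = Cfsg.classInner (fun l : N => ψ l) η₀ / η₀ 1 * (Nat.card N : ℂ) := by
  classical
  have hχ : Cfsg.IsCharacter N (fun l : N => ψ l) :=
    isCharacter_restrict N (isCharacter_of_isIrrCharacter hψ)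
  obtain ⟨m, hm, hexp⟩ := exists_multiplicities hχ
  have hη₀1 : η₀ 1 ≠ 0 := Cfsg.Agent.Lib.Helper75_Clifford.irr_one_ne_zero hη₀.1
  set c : ℂ := Cfsg.classInner (fun l : N => ψ l) η₀ / η₀ 1 with hc
  -- each term
  have hterm : ∀ ξ : Cfsg.IrrCharacter N,
      (m ξ : ℂ) * ((ξ : N → ℂ) 1 - (ξ : N → ℂ) z) =
        c * ((ξ : N → ℂ) 1 * (ξ : N → ℂ) 1 - (ξ : N → ℂ) 1 * (ξ : N → ℂ) z) := by
    intro ξ
    by_cases hξ : (ξ : N → ℂ) ∈ S₁ N Z
    · have h1 := multiplicity_proportional τ₁ hτ₁ ψ hψ horth hξ hη₀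
      rw [hm ξ] at h1
      have h2 : (m ξ : ℂ) = c * (ξ : N → ℂ) 1 := by
        rw [hc]
        field_simp
        linear_combination h1
      rw [h2]; ring
    · have h1 : (ξ : N → ℂ) z = (ξ : N → ℂ) 1 := by
        by_contra h
        exact hξ ⟨ξ.2, z, hz, h⟩
      rw [h1]; ring
  have hval : ∀ l : N, ψ l = ∑ ξ : Cfsg.IrrCharacter N, (m ξ : ℂ) * (ξ : N → ℂ) l := by
    intro l
    have := congrFun hexp l
    rw [Finset.sum_apply] at this
    simpa using this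
  have hsq : ∑ ξ : Cfsg.IrrCharacter N, (ξ : N → ℂ) 1 * (ξ : N → ℂ) 1 = (Nat.card N : ℂ) := by
    have h := Cfsg.Agent.Lib.Helper81_CharOrth2.second_orthogonality (G := N) 1 1
    rw [inv_one] at h
    rw [h]
    congr 1
    apply Nat.card_congr
    exact Equiv.subtypeUnivEquiv (fun c => by simp)
  have hz0 : ∑ ξ : Cfsg.IrrCharacter N, (ξ : N → ℂ) 1 * (ξ : N → ℂ) z = 0 := by
    have h := Cfsg.Agent.Lib.Helper81_CharOrth2.second_orthogonality (G := N) 1 z⁻¹
    rw [inv_inv] at h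
    rw [h]
    have : IsEmpty {c : N // c * 1 * c⁻¹ = z⁻¹} := by
      constructor
      rintro ⟨c, hc'⟩
      apply hz1
      rw [mul_one, mul_inv_cancel] at hc'
      exact (inv_eq_one.mp hc'.symm)
    rw [Nat.card_of_isEmpty]
    simp
  have h1 : ψ 1 - ψ z = ∑ ξ : Cfsg.IrrCharacter N,
      (m ξ : ℂ) * ((ξ : N → ℂ) 1 - (ξ : N → ℂ) z) := by
    have e1 := hval 1
    have e2 := hval z
    rw [show ((1 : N) : G) = 1 from rfl] at e1
    rw [e1, e2, ← Finset.sum_sub_distrib]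
    exact Finset.sum_congr rfl (fun ξ _ => by ring)
  rw [h1, Finset.sum_congr rfl (fun ξ _ => hterm ξ), ← Finset.mul_sum, Finset.sum_sub_distrib,
    hsq, hz0, sub_zero]

end abstract

section sylow

variable (p : ℕ) [Fact p.Prime] (P : Sylow p G)
  [Fintype ↥(Subgroup.normalizer ((P : Subgroup G) : Set G))]

/-- The divisibility lemma: under the hypotheses of Peterfalvi (6.7), the multiplicity in `ψ|_N` of
`η ∈ S₁` is divisible by `η(1) / |N : P|`, uniformly. -/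
theorem dvd_of_orthogonal (hTI : Cfsg.IsTISubset ((P : Subgroup G) : Set G))
    (hodd : Odd (Nat.card (Subgroup.normalizer ((P : Subgroup G) : Set G))))
    (Z : Subgroup G) (hZ1 : Z ≠ ⊥) (hZP : Z ≤ P)
    (hZn : ∀ x ∈ Subgroup.normalizer ((P : Subgroup G) : Set G), ∀ z ∈ Z, x * z * x⁻¹ ∈ Z)
    (hZc : ∀ z ∈ Z, ∀ y ∈ (P : Subgroup G), z * y = y * z)
    (hCL : ∀ z ∈ Z, ∀ z' ∈ Z, z ≠ 1 → z' ≠ 1 →
      Nat.card ↥(Subgroup.normalizer ((P : Subgroup G) : Set G) ⊓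
        Subgroup.centralizer ({z} : Set G)) =
      Nat.card ↥(Subgroup.normalizer ((P : Subgroup G) : Set G) ⊓
        Subgroup.centralizer ({z'} : Set G)))
    (τ₁ : (↥(Subgroup.normalizer ((P : Subgroup G) : Set G)) → ℂ) → (G → ℂ))
    (hτ₁ : ∀ η ∈ S₁ (Subgroup.normalizer ((P : Subgroup G) : Set G)) Z,
      ∀ η' ∈ S₁ (Subgroup.normalizer ((P : Subgroup G) : Set G)) Z,
      Cfsg.indFun (Subgroup.normalizer ((P : Subgroup G) : Set G)) (η' 1 • η - η 1 • η') =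
        η' 1 • τ₁ η - η 1 • τ₁ η')
    (ψ : G → ℂ) (hψ : Cfsg.IsIrrCharacter G ψ)
    (horth : ∀ η ∈ S₁ (Subgroup.normalizer ((P : Subgroup G) : Set G)) Z,
      Cfsg.classInner (τ₁ η) ψ = 0) :
    ∃ k : ℤ, ∀ η ∈ S₁ (Subgroup.normalizer ((P : Subgroup G) : Set G)) Z,
      (((P : Subgroup G).subgroupOf
        (Subgroup.normalizer ((P : Subgroup G) : Set G))).index : ℂ) *
          Cfsg.classInner (fun l : ↥(Subgroup.normalizer ((P : Subgroup G) : Set G)) => ψ l) η =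
        (k : ℂ) * η 1 := by
  classical
  have hPN : (P : Subgroup G) ≤ Subgroup.normalizer ((P : Subgroup G) : Set G) :=
    Subgroup.le_normalizer
  by_cases hne : (S₁ (Subgroup.normalizer ((P : Subgroup G) : Set G)) Z).Nonempty
  swap
  · exact ⟨0, fun η hη => absurd ⟨η, hη⟩ hne⟩
  obtain ⟨η₀, hη₀⟩ := hne
  obtain ⟨z₀, hz₀1⟩ := (Subgroup.ne_bot_iff_exists_ne_one).mp hZ1
  have hz₀N : (z₀ : G) ∈ Subgroup.normalizer ((P : Subgroup G) : Set G) := hPN (hZP z₀.2)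
  have hz₀1' : (z₀ : G) ≠ 1 := fun h => hz₀1 (Subtype.ext h)
  have hsub := sub_eq_of_orthogonal τ₁ hτ₁ ψ hψ horth hη₀
  have hconst : ∀ z ∈ Z, ∀ z' ∈ Z, z ≠ 1 → z' ≠ 1 → ψ z = ψ z' := by
    intro z hz z' hz' hz1 hz'1
    have h1 := hsub ⟨z, hPN (hZP hz)⟩ hz (fun h => hz1 (congrArg Subtype.val h))
    have h2 := hsub ⟨z', hPN (hZP hz')⟩ hz' (fun h => hz'1 (congrArg Subtype.val h))
    have h3 : ψ 1 - ψ z = ψ 1 - ψ z' := by rw [h1, h2]
    exact sub_right_injective h3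
  obtain ⟨n, d, hn, hd, hdvd⟩ := Cfsg.Agent.S1523.result p P hTI hodd Z hZ1 hZP hZn hZc hCL ψ hψ
    hconst (z₀ : G) z₀.2 hz₀1'
  obtain ⟨k, hk⟩ := hdvd
  refine ⟨k, fun η hη => ?_⟩
  have h1 := hsub ⟨z₀, hz₀N⟩ z₀.2 (fun h => hz₀1' (congrArg Subtype.val h))
  have hprop := multiplicity_proportional τ₁ hτ₁ ψ hψ horth hη hη₀
  have hη₀1 : η₀ 1 ≠ 0 := Cfsg.Agent.Lib.Helper75_Clifford.irr_one_ne_zero hη₀.1
  have hcard : (Nat.card ↥(Subgroup.normalizer ((P : Subgroup G) : Set G)) : ℂ) =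
      (Nat.card (P : Subgroup G) : ℂ) * (((P : Subgroup G).subgroupOf
        (Subgroup.normalizer ((P : Subgroup G) : Set G))).index : ℂ) := by
    have h2 := Subgroup.card_mul_index ((P : Subgroup G).subgroupOf
      (Subgroup.normalizer ((P : Subgroup G) : Set G)))
    have h3 : Nat.card ((P : Subgroup G).subgroupOf
        (Subgroup.normalizer ((P : Subgroup G) : Set G))) = Nat.card (P : Subgroup G) :=
      Nat.card_congr (Subgroup.subgroupOfEquivOfLe hPN).toEquiv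
    rw [h3] at h2
    exact_mod_cast h2.symm
  have hP0 : (Nat.card (P : Subgroup G) : ℂ) ≠ 0 := by
    rw [Nat.cast_ne_zero]; exact Nat.card_pos.ne'
  have h2 : ψ 1 - ψ (z₀ : G) = (k : ℂ) * (Nat.card (P : Subgroup G) : ℂ) := by
    rw [hn, hd]
    have : ((d - n : ℤ) : ℂ) = ((Nat.card (P : Subgroup G) : ℤ) * k : ℤ) := by rw [hk]
    push_cast at this
    rw [this]; ring
  rw [h2, hcard] at h1
  -- h1 : k |P| = (c₀ / η₀ 1) * (|P| e)
  have h3 : (k : ℂ) * η₀ 1 = (((P : Subgroup G).subgroupOf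
      (Subgroup.normalizer ((P : Subgroup G) : Set G))).index : ℂ) *
        Cfsg.classInner (fun l : ↥(Subgroup.normalizer ((P : Subgroup G) : Set G)) => ψ l) η₀ := by
    have h4 : (k : ℂ) * (Nat.card (P : Subgroup G) : ℂ) * η₀ 1 =
        Cfsg.classInner (fun l : ↥(Subgroup.normalizer ((P : Subgroup G) : Set G)) => ψ l) η₀ *
          ((Nat.card (P : Subgroup G) : ℂ) * (((P : Subgroup G).subgroupOf
            (Subgroup.normalizer ((P : Subgroup G) : Set G))).index : ℂ)) := by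
      rw [h1]; field_simp
    have h5 : (Nat.card (P : Subgroup G) : ℂ) * ((k : ℂ) * η₀ 1) =
        (Nat.card (P : Subgroup G) : ℂ) * ((((P : Subgroup G).subgroupOf
          (Subgroup.normalizer ((P : Subgroup G) : Set G))).index : ℂ) *
          Cfsg.classInner (fun l : ↥(Subgroup.normalizer ((P : Subgroup G) : Set G)) => ψ l) η₀) := by
      rw [← mul_assoc, mul_comm _ (k : ℂ), h4]; ring
    exact mul_left_cancel₀ hP0 h5
  -- hprop : η₀ 1 * (ψ|, η) = η 1 * (ψ|, η₀)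
  have h6 : η₀ 1 * ((((P : Subgroup G).subgroupOf
      (Subgroup.normalizer ((P : Subgroup G) : Set G))).index : ℂ) *
        Cfsg.classInner (fun l : ↥(Subgroup.normalizer ((P : Subgroup G) : Set G)) => ψ l) η) =
      η₀ 1 * ((k : ℂ) * η 1) := by
    calc η₀ 1 * ((((P : Subgroup G).subgroupOf
      (Subgroup.normalizer ((P : Subgroup G) : Set G))).index : ℂ) *
        Cfsg.classInner (fun l : ↥(Subgroup.normalizer ((P : Subgroup G) : Set G)) => ψ l) η)
        = (((P : Subgroup G).subgroupOf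
            (Subgroup.normalizer ((P : Subgroup G) : Set G))).index : ℂ) *
          (η₀ 1 * Cfsg.classInner
            (fun l : ↥(Subgroup.normalizer ((P : Subgroup G) : Set G)) => ψ l) η) := by ring
      _ = (((P : Subgroup G).subgroupOf
            (Subgroup.normalizer ((P : Subgroup G) : Set G))).index : ℂ) *
          (η 1 * Cfsg.classInner
            (fun l : ↥(Subgroup.normalizer ((P : Subgroup G) : Set G)) => ψ l) η₀) := by
          rw [hprop]
      _ = η 1 * ((k : ℂ) * η₀ 1) := by rw [h3]; ring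
      _ = η₀ 1 * ((k : ℂ) * η 1) := by ring
  exact mul_left_cancel₀ hη₀1 h6

end sylow

end Cfsg.Agent.Lib.Helper25_SibleyDiv
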