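import Mathlib
import Cfsg.Agent.Lib.Helper40_SpMatrix
import Cfsg.Agent.Lib.Helper13_Symp
import Cfsg.Agent.S0768

/-!
# Conjugacy in `spGL` from equality of characteristic polynomials (helper42)

Transfer of helper40's `sp_isConj_of_charpoly_eq` to the subgroup `Cfsg.spGL m F` of `GL`.
-/

set_option autoImplicit false
open scoped MatrixGroups
open Matrix

namespace Cfsg.Agent.Lib.Helper42_SpConjGL

variable {F : Type*} [Field F] {m : ℕ}

theorem mem_symp_of_mem_spGL {x : GL (Fin m ⊕ Fin m) F} (hx : x ∈ Cfsg.spGL m F) :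
    (x : Matrix (Fin m ⊕ Fin m) (Fin m ⊕ Fin m) F) ∈ Matrix.symplecticGroup (Fin m) F :=
  Cfsg.Agent.Lib.Helper13_Symp.mem_symplecticGroup_of_preserves m (fun u v => hx u v)

/-- semisimple elements of `spGL` with the same characteristic polynomial are conjugate in `spGL` -/
theorem exists_conj_of_charpoly_eq [Finite F] (p : ℕ) [Fact p.Prime] [CharP F p]
    {x y : GL (Fin m ⊕ Fin m) F} (hx : x ∈ Cfsg.spGL m F) (hy : y ∈ Cfsg.spGL m F)
    (k : ℕ) (hk : k.Coprime p) (hxk : x ^ k = 1) (hyk : y ^ k = 1)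
    (hc : (x : Matrix (Fin m ⊕ Fin m) (Fin m ⊕ Fin m) F).charpoly =
      (y : Matrix (Fin m ⊕ Fin m) (Fin m ⊕ Fin m) F).charpoly) :
    ∃ g ∈ Cfsg.spGL m F, g⁻¹ * x * g = y := by
  set X : Matrix.symplecticGroup (Fin m) F := ⟨x, mem_symp_of_mem_spGL hx⟩ with hX
  set Y : Matrix.symplecticGroup (Fin m) F := ⟨y, mem_symp_of_mem_spGL hy⟩ with hY
  have hXk : X ^ k = 1 := by
    apply Subtype.ext
    rw [SubmonoidClass.coe_pow]
    show (x : Matrix (Fin m ⊕ Fin m) (Fin m ⊕ Fin m) F) ^ k = 1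
    rw [← Units.val_pow_eq_pow_val, hxk, Units.val_one]
  have hYk : Y ^ k = 1 := by
    apply Subtype.ext
    rw [SubmonoidClass.coe_pow]
    show (y : Matrix (Fin m ⊕ Fin m) (Fin m ⊕ Fin m) F) ^ k = 1
    rw [← Units.val_pow_eq_pow_val, hyk, Units.val_one]
  have hXc : (orderOf X).Coprime p := Nat.Coprime.coprime_dvd_left (orderOf_dvd_of_pow_eq_one hXk) hk
  have hYc : (orderOf Y).Coprime p := Nat.Coprime.coprime_dvd_left (orderOf_dvd_of_pow_eq_one hYk) hk
  have hconj := Cfsg.Agent.Lib.Helper40_SpMatrix.sp_isConj_of_charpoly_eq p Y X hYc hXc hc.symm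
  rw [isConj_iff] at hconj
  obtain ⟨c, hc'⟩ := hconj
  refine ⟨(Cfsg.Agent.S0768.ofSymp m c : GL (Fin m ⊕ Fin m) F), (Cfsg.Agent.S0768.ofSymp m c).2, ?_⟩
  have h1 : c * Y = X * c := by rw [← hc']; group
  rw [mul_assoc, inv_mul_eq_iff_eq_mul]
  apply Units.ext
  have h2 := congrArg Subtype.val h1
  exact h2.symm

end Cfsg.Agent.Lib.Helper42_SpConjGL
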