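import Mathlib
import Cfsg.Prelude.Def_ClassicalGeometry
import Cfsg.Agent.Lib.Helper42_SpConjGL
import Cfsg.Agent.Lib.Helper43_SubfieldSL2

set_option autoImplicit false

namespace Cfsg.Agent.Lib.Helper25_SpSqConj

open scoped MatrixGroups
open Matrix Polynomial

section general

variable {F : Type*} [Field F] {ι : Type*} [Fintype ι] [DecidableEq ι]

/-- `χ_x(X) χ_{-x}(X) = (X² - z)^n` when `x² = z` -/
theorem charpoly_mul_charpoly_neg (x : Matrix ι ι F) (z : F) (hx : x * x = z • 1) :
    x.charpoly * (-x).charpoly = (X ^ 2 - C z) ^ Fintype.card ι := by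
  set A : Matrix ι ι F[X] := (C : F →+* F[X]).mapMatrix x with hA
  have hAA : A * A = Matrix.scalar ι (C z) := by
    rw [hA, ← map_mul, hx]
    ext i j
    simp [Matrix.one_apply, Matrix.scalar_apply, Matrix.diagonal_apply]
    split_ifs <;> simp
  have hcm : charmatrix x * charmatrix (-x) = Matrix.scalar ι (X ^ 2 - C z) := by
    have h1 : charmatrix x = Matrix.scalar ι X - A := rfl
    have h2 : charmatrix (-x) = Matrix.scalar ι X + A := by
      show Matrix.scalar ι X - (C : F →+* F[X]).mapMatrix (-x) = _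
      rw [map_neg, sub_neg_eq_add]
    have hcomm : Matrix.scalar ι (X : F[X]) * A = A * Matrix.scalar ι X :=
      (Matrix.scalar_commute (X : F[X]) (fun r => mul_comm _ _) A).eq
    rw [h1, h2, sub_mul, mul_add, mul_add, hAA, hcomm, map_sub, map_pow, pow_two]
    abel
  unfold Matrix.charpoly
  rw [← Matrix.det_mul, hcm, Matrix.scalar_apply, Matrix.det_diagonal]
  simp

/-- rank of a diagonalised matrix -/
theorem rank_of_diag' [DecidableEq F] {n : ℕ} (M C' : Matrix (Fin n) (Fin n) F) (hC : C'.det ≠ 0)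
    (d : Fin n → F)
    (h : M * C' = C' * Matrix.diagonal d) : M.rank = Fintype.card {j // d j ≠ 0} := by
  have hCu : IsUnit C'.det := isUnit_iff_ne_zero.2 hC
  rw [← Matrix.rank_mul_eq_left_of_isUnit_det C' M hCu, h,
    Matrix.rank_mul_eq_right_of_isUnit_det C' _ hCu, Matrix.rank_diagonal]

/-- the characteristic polynomial of an involution, in terms of the rank of `y - 1` -/
theorem charpoly_of_sq_one (h2 : (2 : F) ≠ 0) {n : ℕ} (y : Matrix (Fin n) (Fin n) F)
    (hy : y * y = 1) :
    y.charpoly = (X - C 1) ^ (n - (y - 1).rank) * (X + C 1) ^ (y - 1).rank := by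
  classical
  obtain ⟨C', ε, hC, hyC⟩ := Cfsg.Agent.Lib.Helper43_SubfieldSL2.exists_eigen_conj h2 y hy
  have hu : IsUnit C'.det := isUnit_iff_ne_zero.mpr hC
  have hrank : (y - 1).rank = (Finset.univ.filter (fun j => ε j = false)).card := by
    have h1 := rank_of_diag' (y - 1) C' hC (fun j => (if ε j then (1 : F) else -1) - 1) (by
      rw [Matrix.sub_mul, Matrix.one_mul, hyC, ← Matrix.diagonal_sub, Matrix.diagonal_one, Matrix.mul_sub,
        Matrix.mul_one])
    rw [h1, ← Fintype.card_subtype]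
    apply Fintype.card_congr
    apply Equiv.subtypeEquivRight
    intro j
    cases hε : ε j
    · simp only [Bool.false_eq_true, ↓reduceIte, ne_eq, iff_true]
      intro h0
      apply h2
      have : (2 : F) = -((-1 : F) - 1) := by ring
      rw [this, h0, neg_zero]
    · simp
  have hy' : y = C' * (Matrix.diagonal (fun j => if ε j then (1 : F) else -1) * C'⁻¹) := by
    calc y = y * (C' * C'⁻¹) := by rw [Matrix.mul_nonsing_inv C' hu, Matrix.mul_one]
      _ = (y * C') * C'⁻¹ := by rw [Matrix.mul_assoc]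
      _ = C' * (Matrix.diagonal (fun j => if ε j then (1 : F) else -1) * C'⁻¹) := by
        rw [hyC, Matrix.mul_assoc]
  have hcp : y.charpoly = ∏ j : Fin n, (X - C (if ε j then (1 : F) else -1)) := by
    conv_lhs => rw [hy']
    rw [Matrix.charpoly_mul_comm, Matrix.mul_assoc, Matrix.nonsing_inv_mul C' hu, Matrix.mul_one,
      Matrix.charpoly_diagonal]
  have hterm : ∀ j : Fin n, (X - C (if ε j then (1 : F) else -1) : F[X]) =
      if ε j = false then (X + C 1) else (X - C 1) := by
    intro j
    cases ε j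
    · simp
    · simp
  have hcard : (Finset.univ.filter (fun j : Fin n => ¬ ε j = false)).card = n - (y - 1).rank := by
    have := Finset.card_filter_add_card_filter_not (s := (Finset.univ : Finset (Fin n)))
      (fun j => ε j = false)
    rw [Finset.card_univ, Fintype.card_fin] at this
    omega
  rw [hcp, Finset.prod_congr rfl (fun j _ => hterm j), Finset.prod_ite, Finset.prod_const,
    Finset.prod_const, ← hrank, hcard, mul_comm]

/-- involutions with the same rank of `y - 1` have the same characteristic polynomial -/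
theorem charpoly_eq_of_sq_one (h2 : (2 : F) ≠ 0) (x h : Matrix ι ι F) (hx : x * x = 1) (hh : h * h = 1)
    (hr : (x - 1).rank = (h - 1).rank) : x.charpoly = h.charpoly := by
  classical
  set e := Fintype.equivFin ι with he
  have key : ∀ y : Matrix ι ι F, y * y = 1 →
      y.charpoly = (X - C 1) ^ (Fintype.card ι - (y - 1).rank) * (X + C 1) ^ (y - 1).rank := by
    intro y hy
    have h1 : (Matrix.reindex e e y) * (Matrix.reindex e e y) = 1 := by
      rw [Matrix.reindex_apply, Matrix.submatrix_mul_equiv, hy, Matrix.submatrix_one_equiv]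
    have h3 : (Matrix.reindex e e y - 1).rank = (y - 1).rank := by
      have : Matrix.reindex e e y - 1 = Matrix.reindex e e (y - 1) := by
        ext i j
        simp [Matrix.reindex_apply, Matrix.submatrix_apply, Matrix.one_apply, e.symm.injective.eq_iff]
      rw [this, Matrix.rank_reindex]
    have h4 := charpoly_of_sq_one h2 (Matrix.reindex e e y) h1
    rw [Matrix.charpoly_reindex, h3] at h4
    exact h4
  rw [key x hx, key h hh, hr]

end general

section symp

variable {F : Type*} [Field F] {l : Type*} [Fintype l] [DecidableEq l]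

/-- for symplectic `x` with `x * x = -1`: `χ_{-x} = χ_x` -/
theorem charpoly_neg_of_symp (x : Matrix (l ⊕ l) (l ⊕ l) F) (hx : x ∈ Matrix.symplecticGroup l F)
    (hxx : x * x = -1) : (-x).charpoly = x.charpoly := by
  have h1 : x * Matrix.J l F * xᵀ = Matrix.J l F := SymplecticGroup.mem_iff.mp hx
  have h3 : Matrix.J l F * xᵀ = (-x) * Matrix.J l F := by
    have : (-x) * (x * Matrix.J l F * xᵀ) = (-x) * Matrix.J l F := by rw [h1]
    rw [← Matrix.mul_assoc, ← Matrix.mul_assoc, Matrix.neg_mul, hxx, neg_neg, Matrix.one_mul] at this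
    exact this
  have hJ : Matrix.J l F * (-Matrix.J l F) = 1 := by
    rw [Matrix.mul_neg, Matrix.J_squared, neg_neg]
  have hxT : xᵀ = (-Matrix.J l F) * ((-x) * Matrix.J l F) := by
    rw [← h3, ← Matrix.mul_assoc, Matrix.neg_mul, Matrix.J_squared, neg_neg, Matrix.one_mul]
  calc (-x).charpoly = ((-x) * (Matrix.J l F * (-Matrix.J l F))).charpoly := by
        rw [hJ, Matrix.mul_one]
    _ = (((-x) * Matrix.J l F) * (-Matrix.J l F)).charpoly := by rw [Matrix.mul_assoc]
    _ = ((-Matrix.J l F) * ((-x) * Matrix.J l F)).charpoly := Matrix.charpoly_mul_comm _ _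
    _ = xᵀ.charpoly := by rw [← hxT]
    _ = x.charpoly := Matrix.charpoly_transpose x

/-- a symplectic matrix with `x * x = -1` has characteristic polynomial `(X² + 1)^l` -/
theorem charpoly_of_symp_sq_neg_one (h2 : (2 : F) ≠ 0) (x : Matrix (l ⊕ l) (l ⊕ l) F)
    (hx : x ∈ Matrix.symplecticGroup l F) (hxx : x * x = -1) :
    x.charpoly = (X ^ 2 - C (-1 : F)) ^ Fintype.card l := by
  have hneg := charpoly_neg_of_symp x hx hxx
  have hmul := charpoly_mul_charpoly_neg x (-1) (by rw [hxx]; simp)
  rw [hneg, Fintype.card_sum, ← two_mul, pow_mul'] at hmul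
  have hsq : x.charpoly ^ 2 = ((X ^ 2 - C (-1 : F)) ^ Fintype.card l) ^ 2 := by
    rw [pow_two, hmul]
  rcases sq_eq_sq_iff_eq_or_eq_neg.mp hsq with h | h
  · exact h
  · exfalso
    have hm : x.charpoly.Monic := Matrix.charpoly_monic x
    have hm2 : ((X ^ 2 - C (-1 : F)) ^ Fintype.card l).Monic :=
      (Polynomial.monic_X_pow_sub_C _ two_ne_zero).pow _
    rw [h] at hm
    have h5 := hm.leadingCoeff
    rw [Polynomial.leadingCoeff_neg, hm2.leadingCoeff] at h5
    apply h2
    linear_combination -h5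

end symp

section main

variable {F : Type*} [Field F]

theorem exists_sp_conj_of_sq [Fintype F] (h2 : (2 : F) ≠ 0) (d : ℕ)
    (x h : GL (Fin d ⊕ Fin d) F) (hx : x ∈ Cfsg.spGL d F) (hh : h ∈ Cfsg.spGL d F) (z : F)
    (hxz : x.1 * x.1 = z • (1 : Matrix (Fin d ⊕ Fin d) (Fin d ⊕ Fin d) F))
    (hhz : h.1 * h.1 = z • (1 : Matrix (Fin d ⊕ Fin d) (Fin d ⊕ Fin d) F))
    (hrank : (x.1 - 1).rank = (h.1 - 1).rank) :
    ∃ g ∈ Cfsg.spGL d F, g⁻¹ * x * g = h := by
  classical
  rcases Nat.eq_zero_or_pos d with rfl | hd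
  · refine ⟨1, one_mem _, ?_⟩
    apply Units.ext
    exact Subsingleton.elim _ _
  -- the characteristic
  obtain ⟨p, hp⟩ := CharP.exists F
  have := hp
  have hpp : p.Prime := CharP.char_is_prime F p
  have : Fact p.Prime := ⟨hpp⟩
  have hp2 : p ≠ 2 := by
    rintro rfl
    apply h2
    have := CharP.cast_eq_zero F 2
    exact_mod_cast this
  have hcop : Nat.Coprime 4 p := by
    have : Nat.Coprime 2 p := (Nat.coprime_primes Nat.prime_two hpp).mpr (Ne.symm hp2)
    exact Nat.Coprime.pow_left 2 this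
  -- z * z = 1
  have hzz : z * z = 1 := by
    have hs := Cfsg.Agent.Lib.Helper42_SpConjGL.mem_symp_of_mem_spGL (mul_mem hx hx)
    have h1 : (x * x : GL (Fin d ⊕ Fin d) F).1 * Matrix.J (Fin d) F *
        ((x * x : GL (Fin d ⊕ Fin d) F).1)ᵀ = Matrix.J (Fin d) F :=
      SymplecticGroup.mem_iff.mp hs
    rw [Units.val_mul, hxz] at h1
    have h3 := congrFun (congrFun h1 (Sum.inl ⟨0, hd⟩)) (Sum.inr ⟨0, hd⟩)
    simp [Matrix.J, Matrix.fromBlocks_apply₁₂] at h3
    linear_combination h3
  have hz : z = 1 ∨ z = -1 := by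
    have : (z - 1) * (z + 1) = 0 := by linear_combination hzz
    rcases mul_eq_zero.mp this with h | h
    · left; linear_combination h
    · right; linear_combination h
  have pow4 : ∀ y : GL (Fin d ⊕ Fin d) F,
      y.1 * y.1 = z • (1 : Matrix (Fin d ⊕ Fin d) (Fin d ⊕ Fin d) F) → y ^ 4 = 1 := by
    intro y hy
    apply Units.ext
    rw [Units.val_pow_eq_pow_val, Units.val_one]
    have : y.1 ^ 4 = (y.1 * y.1) * (y.1 * y.1) := by
      rw [pow_succ, pow_succ, pow_succ, pow_one, Matrix.mul_assoc, Matrix.mul_assoc]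
    rw [this, hy, Matrix.smul_mul, Matrix.one_mul, smul_smul, hzz, one_smul]
  have hc : x.1.charpoly = h.1.charpoly := by
    rcases hz with rfl | rfl
    · rw [one_smul] at hxz hhz
      exact charpoly_eq_of_sq_one h2 x.1 h.1 hxz hhz hrank
    · have e1 : x.1 * x.1 = -1 := by rw [hxz]; simp
      have e2 : h.1 * h.1 = -1 := by rw [hhz]; simp
      rw [charpoly_of_symp_sq_neg_one h2 x.1
          (Cfsg.Agent.Lib.Helper42_SpConjGL.mem_symp_of_mem_spGL hx) e1,
        charpoly_of_symp_sq_neg_one h2 h.1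
          (Cfsg.Agent.Lib.Helper42_SpConjGL.mem_symp_of_mem_spGL hh) e2]
  exact Cfsg.Agent.Lib.Helper42_SpConjGL.exists_conj_of_charpoly_eq p hx hh 4 hcop
    (pow4 x hxz) (pow4 h hhz) hc

end main

end Cfsg.Agent.Lib.Helper25_SpSqConj
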