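import Mathlib
import Cfsg.Agent.Lib.Helper27_StSUDefs
import Cfsg.Agent.Lib.Helper27_StSUBasic
import Cfsg.Agent.Lib.Helper68_StAbs
import Cfsg.Agent.Lib.Helper5_SUOrder
import Cfsg.Agent.Lib.Helper75_Clifford
import Cfsg.Agent.Lib.Helper81_SUSiegel

set_option autoImplicit false
set_option linter.unusedSectionVars false
set_option linter.unusedVariables false

/-!
# Helper30_StSU_MEML: package MEML of the STSU market (S2546, architect helper27)

`xLm_mem`, `wLm_mem`: determinant one and unitarity of the type `L` root matrices.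
-/

namespace Cfsg.Agent.Lib.Helper30_StSU_MEML

open Matrix Cfsg.Agent.Lib.Helper68_MatGrp Cfsg.Agent.Lib.Helper27_StSUDefs
  Cfsg.Agent.Lib.Helper27_StSUBasic

variable {n : ℕ} {F : Type*} [Field F] (σ : F →+* F)

theorem Jm_mul_single (a b : Fin n) (t : F) : Jm n F * single a b t = single (Fin.rev a) b t := by
  ext x y
  rw [Jm_mul_apply, single_apply, single_apply]
  by_cases h : a = Fin.rev x
  · have h' : Fin.rev a = x := by rw [h, Fin.rev_rev]
    simp [h]
  · have h' : ¬ Fin.rev a = x := by
      intro e; apply h; rw [← e, Fin.rev_rev]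
    simp [h, h']

theorem single_mul_Jm (a b : Fin n) (t : F) : single a b t * Jm n F = single a (Fin.rev b) t := by
  ext x y
  rw [mul_Jm_apply, single_apply, single_apply]
  by_cases h : b = Fin.rev y
  · have h' : Fin.rev b = y := by rw [h, Fin.rev_rev]
    simp [h]
  · have h' : ¬ Fin.rev b = y := by
      intro e; apply h; rw [← e, Fin.rev_rev]
    simp [h, h']

/-- MEML -/
theorem xLm_mem (hσ : ∀ x, σ (σ x) = x) (i k : Fin n) (h1 : i ≠ k) (h2 : i ≠ Fin.rev k) (h3 : i ≠ Fin.rev i)
    (h4 : k ≠ Fin.rev k) (t : F) :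
    (xLm σ i k t).det = 1 ∧ (xLm σ i k t)ᵀ * Jm n F * (xLm σ i k t).map σ = Jm n F := by
  have h5 : Fin.rev k ≠ Fin.rev i := fun e => h1 (Fin.rev_inj.mp e).symm
  have h6 : Fin.rev i ≠ k := fun e => h2 (by rw [← e, Fin.rev_rev])
  constructor
  · have hprod : xLm σ i k t = transvection i k t * transvection (Fin.rev k) (Fin.rev i) (-(σ t)) := by
      unfold xLm transvection
      rw [Matrix.mul_add, Matrix.mul_one, Matrix.add_mul, Matrix.one_mul,
        single_mul_single_of_ne t i k (Fin.rev k) h4, add_zero, ← single_neg, sub_eq_add_neg]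
    rw [hprod, det_mul, det_transvection_of_ne i k h1, det_transvection_of_ne _ _ h5, one_mul]
  · have hT : (xLm σ i k t)ᵀ = 1 + single k i t - single (Fin.rev i) (Fin.rev k) (σ t) := by
      unfold xLm
      rw [transpose_sub, transpose_add, transpose_one, transpose_single, transpose_single]
    have hM : (xLm σ i k t).map σ = 1 + single i k (σ t) - single (Fin.rev k) (Fin.rev i) t := by
      unfold xLm
      rw [Matrix.map_sub (f := σ) (fun a b => map_sub σ a b), Matrix.map_add (f := σ) (fun a b => map_add σ a b),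
        map_single, map_single, hσ]
      congr 2
      exact Matrix.map_one σ (map_zero σ) (map_one σ)
    rw [hT, hM]
    have e1 : (1 + single k i t - single (Fin.rev i) (Fin.rev k) (σ t)) * Jm n F
        = Jm n F + single k (Fin.rev i) t - single (Fin.rev i) k (σ t) := by
      rw [Matrix.sub_mul, Matrix.add_mul, Matrix.one_mul, single_mul_Jm, single_mul_Jm, Fin.rev_rev]
    rw [e1, Matrix.mul_sub, Matrix.mul_add, Matrix.mul_one]
    rw [Matrix.sub_mul, Matrix.add_mul, Matrix.sub_mul, Matrix.add_mul]
    rw [Jm_mul_single, Jm_mul_single, Fin.rev_rev]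
    rw [single_mul_single_of_ne t k (Fin.rev i) i (fun e => h3 e.symm),
      single_mul_single_of_ne (σ t) (Fin.rev i) k i (fun e => h1 e.symm),
      single_mul_single_of_ne t k (Fin.rev i) (Fin.rev k) (fun e => h5 e.symm),
      single_mul_single_of_ne (σ t) (Fin.rev i) k (Fin.rev k) h4]
    abel

theorem permL_rev (i k : Fin n) (h1 : i ≠ k) (h2 : i ≠ Fin.rev k) (h3 : i ≠ Fin.rev i)
    (h4 : k ≠ Fin.rev k) (a : Fin n) : Fin.rev (permL i k a) = permL i k (Fin.rev a) := by
  have hinj : Function.Injective (Fin.rev : Fin n → Fin n) := Fin.rev_injective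
  have hcomm : Equiv.swap i k * Equiv.swap (Fin.rev i) (Fin.rev k)
      = Equiv.swap (Fin.rev i) (Fin.rev k) * Equiv.swap i k := by
    have hd : Equiv.Perm.Disjoint (Equiv.swap i k) (Equiv.swap (Fin.rev i) (Fin.rev k)) := by
      intro x
      by_cases hx1 : x = i
      · right
        subst hx1
        exact Equiv.swap_apply_of_ne_of_ne h3 (fun e => h2 e)
      · by_cases hx2 : x = k
        · right
          subst hx2
          refine Equiv.swap_apply_of_ne_of_ne (fun e => h2 ?_) h4
          rw [e, Fin.rev_rev]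
        · left
          exact Equiv.swap_apply_of_ne_of_ne hx1 hx2
    exact hd.commute.eq
  unfold permL
  rw [Equiv.Perm.mul_apply]
  rw [← hinj.swap_apply i k]
  rw [← hinj.swap_apply (Fin.rev i) (Fin.rev k), Fin.rev_rev, Fin.rev_rev]
  rw [← Equiv.Perm.mul_apply, hcomm]

theorem wLm_mem (i k : Fin n) (h1 : i ≠ k) (h2 : i ≠ Fin.rev k) (h3 : i ≠ Fin.rev i)
    (h4 : k ≠ Fin.rev k) :
    (wLm i k : Matrix (Fin n) (Fin n) F).det = 1 ∧
      (wLm i k : Matrix (Fin n) (Fin n) F)ᵀ * Jm n F * (wLm i k : Matrix (Fin n) (Fin n) F).map σ = Jm n F := by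
  have h5 : Fin.rev i ≠ Fin.rev k := fun e => h1 (Fin.rev_inj.mp e)
  constructor
  · have hw : (wLm i k : Matrix (Fin n) (Fin n) F) = (Equiv.Perm.permMatrix F (permL i k))ᵀ := by
      ext a b
      rw [wLm_apply, transpose_apply, Equiv.Perm.permMatrix, PEquiv.toMatrix_apply, Equiv.toPEquiv_apply]
      by_cases h : a = permL i k b
      · simp [h]
      · have h' : ¬ a ∈ some (permL i k b) := by
          intro e; exact h (Option.mem_some_iff.mp e).symm
        simp [h]
        intro e; exact h e.symm
    rw [hw, det_transpose, det_permutation]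
    unfold permL
    rw [Equiv.Perm.sign_mul, Equiv.Perm.sign_swap h1, Equiv.Perm.sign_swap h5]
    simp
  · apply unitary_of_apply σ
    intro a b
    rw [Finset.sum_eq_single (permL i k a)]
    · rw [wLm_apply, if_pos rfl, one_mul, wLm_apply, permL_rev i k h1 h2 h3 h4]
      by_cases h : a = Fin.rev b
      · rw [if_pos h, h, Fin.rev_rev, if_pos rfl, map_one]
      · rw [if_neg h, if_neg, map_zero]
        intro e
        apply h
        have := (permL i k).injective e
        rw [← this, Fin.rev_rev]
    · intro x _ hx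
      rw [wLm_apply, if_neg hx, zero_mul]
    · intro h; exact absurd (Finset.mem_univ _) h

end Cfsg.Agent.Lib.Helper30_StSU_MEML
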