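import Mathlib
import Cfsg.Agent.Lib.Helper27_StSUDefs
import Cfsg.Agent.Lib.Helper27_StSUBasic
import Cfsg.Agent.Lib.Helper68_StAbs
import Cfsg.Agent.Lib.Helper5_SUOrder
import Cfsg.Agent.Lib.Helper75_Clifford
import Cfsg.Agent.Lib.Helper81_SUSiegel
import Cfsg.Agent.Lib.Helper30_StSU_MEML

/-!
# S2546 package R3L (architect helper27): the rank one relation for the type `L` root elements of
the special unitary group, `w x(t) w⁻¹ = b w x(t⁻¹)` with `b` upper triangular.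
-/

set_option autoImplicit false
set_option linter.unusedSectionVars false
set_option linter.unusedVariables false
set_option linter.unusedSimpArgs false

namespace Cfsg.Agent.Lib.Helper25_StSU_R3L

open Matrix Cfsg.Agent.Lib.Helper68_MatGrp Cfsg.Agent.Lib.Helper27_StSUDefs
  Cfsg.Agent.Lib.Helper27_StSUBasic

variable {n : ℕ} {F : Type*} [Field F] (σ : F →+* F)

theorem mul_single_apply (M : Matrix (Fin n) (Fin n) F) (p q : Fin n) (s : F) (a d : Fin n) :
    (M * single p q s) a d = if d = q then M a p * s else 0 := by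
  by_cases h : d = q
  · subst h; rw [if_pos rfl]; exact Matrix.mul_single_apply_same s p d a M
  · rw [if_neg h]; exact Matrix.mul_single_apply_of_ne s p q a d h M

theorem mul_xLm_apply (M : Matrix (Fin n) (Fin n) F) (i k : Fin n) (s : F) (a d : Fin n) :
    (M * xLm σ i k s) a d = M a d + (if d = k then M a i * s else 0) -
      (if d = Fin.rev i then M a (Fin.rev k) * σ s else 0) := by
  unfold xLm
  rw [Matrix.mul_sub, Matrix.mul_add, Matrix.mul_one, Matrix.sub_apply, Matrix.add_apply,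
    mul_single_apply, mul_single_apply]

theorem mul_wLm_apply (M : Matrix (Fin n) (Fin n) F) (i k a c : Fin n) :
    (M * (wLm i k : Matrix (Fin n) (Fin n) F)) a c = M a (permL i k c) := by
  rw [Matrix.mul_apply, Finset.sum_eq_single (permL i k c)]
  · rw [wLm_apply, if_pos rfl, mul_one]
  · intro x _ hx; rw [wLm_apply, if_neg hx, mul_zero]
  · intro h; exact absurd (Finset.mem_univ _) h

section perm
variable {i k : Fin n} (h1 : i ≠ k) (h2 : i ≠ Fin.rev k) (h3 : i ≠ Fin.rev i) (h4 : k ≠ Fin.rev k)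
include h1 h2 h3 h4

theorem k_ne_revi : k ≠ Fin.rev i := by
  intro h; apply h2; rw [h, Fin.rev_rev]

theorem permL_i : permL i k i = k := by
  unfold permL
  rw [Equiv.Perm.mul_apply, Equiv.swap_apply_of_ne_of_ne h3 h2, Equiv.swap_apply_left]

theorem permL_k : permL i k k = i := by
  unfold permL
  rw [Equiv.Perm.mul_apply, Equiv.swap_apply_of_ne_of_ne (k_ne_revi h1 h2 h3 h4) h4,
    Equiv.swap_apply_right]

theorem permL_revk : permL i k (Fin.rev k) = Fin.rev i := by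
  unfold permL
  rw [Equiv.Perm.mul_apply, Equiv.swap_apply_right,
    Equiv.swap_apply_of_ne_of_ne h3.symm (k_ne_revi h1 h2 h3 h4).symm]

theorem permL_revi : permL i k (Fin.rev i) = Fin.rev k := by
  unfold permL
  rw [Equiv.Perm.mul_apply, Equiv.swap_apply_left,
    Equiv.swap_apply_of_ne_of_ne h2.symm h4.symm]

omit h1 h2 h3 h4 in
theorem permL_other {c : Fin n} (c1 : c ≠ i) (c2 : c ≠ k) (c3 : c ≠ Fin.rev k)
    (c4 : c ≠ Fin.rev i) : permL i k c = c := by
  unfold permL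
  rw [Equiv.Perm.mul_apply, Equiv.swap_apply_of_ne_of_ne c4 c3, Equiv.swap_apply_of_ne_of_ne c1 c2]

end perm

/-- the upper triangular factor -/
def B0 (i k : Fin n) (t : F) : Matrix (Fin n) (Fin n) F :=
  1 + single i i (-t⁻¹ - 1) + single i k 1 + single k k (t - 1) +
    single (Fin.rev k) (Fin.rev k) (σ t⁻¹ - 1) + single (Fin.rev k) (Fin.rev i) 1 +
    single (Fin.rev i) (Fin.rev i) (-σ t - 1)

theorem B0_apply (i k : Fin n) (t : F) (a d : Fin n) :
    B0 σ i k t a d = (if a = d then 1 else 0) + (if a = i ∧ d = i then (-t⁻¹ - 1) else 0) +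
      (if a = i ∧ d = k then 1 else 0) + (if a = k ∧ d = k then (t - 1) else 0) +
      (if a = Fin.rev k ∧ d = Fin.rev k then (σ t⁻¹ - 1) else 0) +
      (if a = Fin.rev k ∧ d = Fin.rev i then 1 else 0) +
      (if a = Fin.rev i ∧ d = Fin.rev i then (-σ t - 1) else 0) := by
  unfold B0
  simp only [Matrix.add_apply, Matrix.one_apply, Matrix.single_apply, eq_comm]

theorem r3L_mat (hσ : ∀ x, σ (σ x) = x) (i k : Fin n) (h1 : i ≠ k) (h2 : i ≠ Fin.rev k) (h3 : i ≠ Fin.rev i)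
    (h4 : k ≠ Fin.rev k) (t : F) (ht : t ≠ 0) :
    B0 σ i k t * wLm i k * xLm σ i k t⁻¹ * wLm i k = wLm i k * xLm σ i k t := by
  have h5 := k_ne_revi h1 h2 h3 h4
  have h6 : Fin.rev i ≠ Fin.rev k := fun h => h1 (Fin.rev_injective h)
  have hσt : σ t ≠ 0 := by
    intro h
    apply ht
    have := congrArg σ h
    rwa [hσ, map_zero] at this
  have pi_i := permL_i h1 h2 h3 h4
  have pi_k := permL_k h1 h2 h3 h4
  have pi_k' := permL_revk h1 h2 h3 h4
  have pi_i' := permL_revi h1 h2 h3 h4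
  have htt : t * t⁻¹ = 1 := mul_inv_cancel₀ ht
  have hstt : σ t * σ t⁻¹ = 1 := by rw [← map_mul, htt, map_one]
  ext a c
  rw [mul_wLm_apply, mul_xLm_apply, mul_wLm_apply, mul_wLm_apply, mul_wLm_apply, mul_xLm_apply,
    wLm_apply, wLm_apply, wLm_apply, pi_i, pi_k']
  by_cases c1 : c = i
  · rw [c1, pi_i, pi_k]
    simp only [B0_apply, h1, h2, h3, h4, h5, h6, h1.symm, h2.symm, h3.symm, h4.symm, h5.symm, h6.symm,
      and_true, and_false, if_true, if_false, ite_self, add_zero, sub_zero, zero_mul, map_inv₀]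
    split_ifs <;> first | ring1 | (field_simp; ring1) | field_simp | simp_all
  by_cases c2 : c = k
  · rw [c2, pi_k, pi_i]
    simp only [B0_apply, h1, h2, h3, h4, h5, h6, h1.symm, h2.symm, h3.symm, h4.symm, h5.symm, h6.symm,
      and_true, and_false, if_true, if_false, ite_self, add_zero, sub_zero, zero_mul, map_inv₀]
    split_ifs <;> first | ring1 | (field_simp; ring1) | field_simp | simp_all
  by_cases c3 : c = Fin.rev k
  · rw [c3, pi_k', pi_i']
    simp only [B0_apply, h1, h2, h3, h4, h5, h6, h1.symm, h2.symm, h3.symm, h4.symm, h5.symm, h6.symm,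
      and_true, and_false, if_true, if_false, ite_self, add_zero, sub_zero, zero_mul, map_inv₀]
    split_ifs <;> first | ring1 | (field_simp; ring1) | field_simp | simp_all
  by_cases c4 : c = Fin.rev i
  · rw [c4, pi_i', pi_k']
    simp only [B0_apply, h1, h2, h3, h4, h5, h6, h1.symm, h2.symm, h3.symm, h4.symm, h5.symm, h6.symm,
      and_true, and_false, if_true, if_false, ite_self, add_zero, sub_zero, zero_mul, map_inv₀]
    split_ifs <;> first | ring1 | (field_simp; ring1) | field_simp | simp_all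
  · rw [permL_other c1 c2 c3 c4, permL_other c1 c2 c3 c4]
    simp only [B0_apply, c1, c2, c3, c4, and_false, if_false, add_zero, sub_zero]

theorem xL_val (hσ : ∀ x, σ (σ x) = x) (i k : Fin n) (h1 : i ≠ k) (h2 : i ≠ Fin.rev k)
    (h3 : i ≠ Fin.rev i) (h4 : k ≠ Fin.rev k) (t : F) : (xL σ i k t).1.1 = xLm σ i k t :=
  mkE_val σ (Cfsg.Agent.Lib.Helper30_StSU_MEML.xLm_mem σ hσ i k h1 h2 h3 h4 t).1
    (Cfsg.Agent.Lib.Helper30_StSU_MEML.xLm_mem σ hσ i k h1 h2 h3 h4 t).2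

theorem wL_val (i k : Fin n) (h1 : i ≠ k) (h2 : i ≠ Fin.rev k) (h3 : i ≠ Fin.rev i)
    (h4 : k ≠ Fin.rev k) : (wL σ i k).1.1 = wLm i k :=
  mkE_val σ (Cfsg.Agent.Lib.Helper30_StSU_MEML.wLm_mem σ i k h1 h2 h3 h4).1
    (Cfsg.Agent.Lib.Helper30_StSU_MEML.wLm_mem σ i k h1 h2 h3 h4).2

theorem r3L (hσ : ∀ x, σ (σ x) = x) (i k : Fin n) (hlt : i < k) (h2 : i ≠ Fin.rev k) (h3 : i ≠ Fin.rev i)
    (h4 : k ≠ Fin.rev k) (t : F) (ht : t ≠ 0) :
    ∃ b ∈ Bsu n σ, ∃ t' : F, wL σ i k * xL σ i k t * (wL σ i k)⁻¹ = b * wL σ i k * xL σ i k t' := by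
  have h1 : i ≠ k := ne_of_lt hlt
  obtain ⟨b, hb⟩ : ∃ b, b = (wL σ i k * xL σ i k t * (wL σ i k)⁻¹) *
      (wL σ i k * xL σ i k t⁻¹)⁻¹ := ⟨_, rfl⟩
  refine ⟨b, ?_, t⁻¹, by rw [hb]; group⟩
  obtain ⟨g, hg⟩ : ∃ g, g = wL σ i k * xL σ i k t⁻¹ * wL σ i k := ⟨_, rfl⟩
  have e1 : b * g = wL σ i k * xL σ i k t := by rw [hb, hg]; group
  have hW := wL_val σ i k h1 h2 h3 h4
  have hX := xL_val σ hσ i k h1 h2 h3 h4
  have e2 : b.1.1 * g.1.1 = wLm i k * xLm σ i k t := by
    rw [← mul_val, e1, mul_val, hW, hX]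
  have e3 : g.1.1 = wLm i k * xLm σ i k t⁻¹ * wLm i k := by
    rw [hg, mul_val, mul_val, hW, hX]
  have e4 : B0 σ i k t * g.1.1 = wLm i k * xLm σ i k t := by
    rw [e3, ← Matrix.mul_assoc, ← Matrix.mul_assoc]
    exact r3L_mat σ hσ i k h1 h2 h3 h4 t ht
  have e5 : b.1.1 = B0 σ i k t := by
    calc b.1.1 = b.1.1 * (g.1.1 * (g⁻¹).1.1) := by rw [mul_inv_val, Matrix.mul_one]
      _ = (b.1.1 * g.1.1) * (g⁻¹).1.1 := by rw [Matrix.mul_assoc]
      _ = (B0 σ i k t * g.1.1) * (g⁻¹).1.1 := by rw [e2, e4]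
      _ = B0 σ i k t := by rw [Matrix.mul_assoc, mul_inv_val, Matrix.mul_one]
  rw [mem_Bsu σ]
  intro a c hca
  rw [e5, B0_apply]
  have hne : a ≠ c := ne_of_gt hca
  have hk'i' : Fin.rev k < Fin.rev i := Fin.rev_lt_rev.mpr hlt
  have z1 : ¬ (a = i ∧ c = i) := fun ⟨h, h'⟩ => hne (h.trans h'.symm)
  have z2 : ¬ (a = i ∧ c = k) := fun ⟨h, h'⟩ => by
    rw [h, h'] at hca; exact absurd hca (not_lt.mpr hlt.le)
  have z3 : ¬ (a = k ∧ c = k) := fun ⟨h, h'⟩ => hne (h.trans h'.symm)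
  have z4 : ¬ (a = Fin.rev k ∧ c = Fin.rev k) := fun ⟨h, h'⟩ => hne (h.trans h'.symm)
  have z5 : ¬ (a = Fin.rev k ∧ c = Fin.rev i) := fun ⟨h, h'⟩ => by
    rw [h, h'] at hca; exact absurd hca (not_lt.mpr hk'i'.le)
  have z6 : ¬ (a = Fin.rev i ∧ c = Fin.rev i) := fun ⟨h, h'⟩ => hne (h.trans h'.symm)
  rw [if_neg hne, if_neg z1, if_neg z2, if_neg z3, if_neg z4, if_neg z5, if_neg z6]
  simp

end Cfsg.Agent.Lib.Helper25_StSU_R3L
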