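import Mathlib
import Cfsg.Agent.Lib.Helper27_StSUDefs
import Cfsg.Agent.Lib.Helper27_StSUBasic
import Cfsg.Agent.Lib.Helper68_StAbs
import Cfsg.Agent.Lib.Helper5_SUOrder
import Cfsg.Agent.Lib.Helper75_Clifford
import Cfsg.Agent.Lib.Helper81_SUSiegel
import Cfsg.Agent.Lib.Helper99_StSU_MEMQ

/-!
# S2546 package R3Q (architect helper27): the rank one relation for the `SU_3`-type root elements of
the special unitary group, `w x(a,β) w⁻¹ = b w x(-a/β, 1/β)` with `b` upper triangular.
-/

set_option autoImplicit false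
set_option linter.unusedSectionVars false
set_option linter.unusedVariables false
set_option linter.unusedSimpArgs false

namespace Cfsg.Agent.Lib.Helper25_StSU_R3Q

open Matrix Cfsg.Agent.Lib.Helper68_MatGrp Cfsg.Agent.Lib.Helper27_StSUDefs
  Cfsg.Agent.Lib.Helper27_StSUBasic

variable {n : ℕ} {F : Type*} [Field F] (σ : F →+* F)

theorem mul_single_apply (M : Matrix (Fin n) (Fin n) F) (p q : Fin n) (s : F) (r d : Fin n) :
    (M * single p q s) r d = if d = q then M r p * s else 0 := by
  by_cases h : d = q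
  · subst h; rw [if_pos rfl]; exact Matrix.mul_single_apply_same s p d r M
  · rw [if_neg h]; exact Matrix.mul_single_apply_of_ne s p q r d h M

theorem mul_xQm_apply (M : Matrix (Fin n) (Fin n) F) (i c : Fin n) (p q : F) (r d : Fin n) :
    (M * xQm σ i c p q) r d = M r d + (if d = c then M r i * p else 0) -
      (if d = Fin.rev i then M r c * σ p else 0) + (if d = Fin.rev i then M r i * q else 0) := by
  unfold xQm
  rw [Matrix.mul_add, Matrix.mul_sub, Matrix.mul_add, Matrix.mul_one, Matrix.add_apply,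
    Matrix.sub_apply, Matrix.add_apply, mul_single_apply, mul_single_apply, mul_single_apply]

theorem mul_wQm_apply (M : Matrix (Fin n) (Fin n) F) (i c : Fin n) (r d : Fin n) :
    (M * (wQm i c : Matrix (Fin n) (Fin n) F)) r d = M r d - (if d = i then M r i else 0) -
      (if d = Fin.rev i then M r (Fin.rev i) else 0) - (if d = c then M r c * 2 else 0) +
      (if d = Fin.rev i then M r i else 0) + (if d = i then M r (Fin.rev i) else 0) := by
  unfold wQm
  rw [Matrix.mul_add, Matrix.mul_add, Matrix.mul_sub, Matrix.mul_sub, Matrix.mul_sub, Matrix.mul_one,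
    Matrix.add_apply, Matrix.add_apply, Matrix.sub_apply, Matrix.sub_apply, Matrix.sub_apply,
    mul_single_apply, mul_single_apply, mul_single_apply, mul_single_apply, mul_single_apply]
  simp only [mul_one]

theorem wQm_apply (i c r d : Fin n) :
    (wQm i c : Matrix (Fin n) (Fin n) F) r d = (if r = d then 1 else 0) -
      (if r = i ∧ d = i then 1 else 0) - (if r = Fin.rev i ∧ d = Fin.rev i then 1 else 0) -
      (if r = c ∧ d = c then 2 else 0) + (if r = i ∧ d = Fin.rev i then 1 else 0) +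
      (if r = Fin.rev i ∧ d = i then 1 else 0) := by
  unfold wQm
  simp only [Matrix.add_apply, Matrix.sub_apply, Matrix.one_apply, Matrix.single_apply, eq_comm]

/-- the upper triangular factor -/
def B0 (i c : Fin n) (a β : F) : Matrix (Fin n) (Fin n) F :=
  1 + single i i ((σ β)⁻¹ - 1) + single i c (-a * β⁻¹) + single i (Fin.rev i) 1 +
    single c c (-(σ a) * a * β⁻¹ - 2) + single c (Fin.rev i) (σ a) +
    single (Fin.rev i) (Fin.rev i) (β - 1)

theorem B0_apply (i c : Fin n) (a β : F) (r d : Fin n) :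
    B0 σ i c a β r d = (if r = d then 1 else 0) + (if r = i ∧ d = i then ((σ β)⁻¹ - 1) else 0) +
      (if r = i ∧ d = c then (-a * β⁻¹) else 0) + (if r = i ∧ d = Fin.rev i then 1 else 0) +
      (if r = c ∧ d = c then (-(σ a) * a * β⁻¹ - 2) else 0) +
      (if r = c ∧ d = Fin.rev i then σ a else 0) +
      (if r = Fin.rev i ∧ d = Fin.rev i then (β - 1) else 0) := by
  unfold B0
  simp only [Matrix.add_apply, Matrix.one_apply, Matrix.single_apply, eq_comm]

theorem r3Q_mat (hσ : ∀ x, σ (σ x) = x) (i c : Fin n) (h1 : i ≠ c) (h2 : i ≠ Fin.rev i)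
    (h3 : c ≠ Fin.rev i) (a β : F) (hab : β + σ β + a * σ a = 0) (hβ : β ≠ 0) :
    B0 σ i c a β * wQm i c * xQm σ i c (-a * β⁻¹) β⁻¹ * wQm i c = wQm i c * xQm σ i c a β := by
  have hsβ : σ β = -β - a * σ a := by linear_combination hab
  have hσβ : σ β ≠ 0 := by
    intro h
    apply hβ
    have := congrArg σ h
    rwa [hσ, map_zero] at this
  have hd : -β - a * σ a ≠ 0 := by rw [← hsβ]; exact hσβ
  ext r d
  by_cases d1 : d = i
  · rw [d1]
    simp only [mul_wQm_apply, mul_xQm_apply, wQm_apply, B0_apply, h1, h2, h3, h1.symm, h2.symm, h3.symm, and_true, and_false, true_and, false_and, if_true, if_false, ite_self, add_zero, zero_add, sub_zero, zero_sub, zero_mul, mul_zero, mul_one, one_mul, map_mul, map_neg, map_inv₀]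
    all_goals (split_ifs <;> first | ring1 | (field_simp; ring1) | (field_simp; done) | (field_simp; linear_combination hab) | (field_simp; linear_combination (σ a) * hab) | (exfalso; simp_all; done))
  by_cases d2 : d = c
  · rw [d2]
    simp only [mul_wQm_apply, mul_xQm_apply, wQm_apply, B0_apply, h1, h2, h3, h1.symm, h2.symm, h3.symm, and_true, and_false, true_and, false_and, if_true, if_false, ite_self, add_zero, zero_add, sub_zero, zero_sub, zero_mul, mul_zero, mul_one, one_mul, map_mul, map_neg, map_inv₀]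
    all_goals (split_ifs <;> first | ring1 | (field_simp; ring1) | (field_simp; done) | (field_simp; linear_combination hab) | (field_simp; linear_combination (σ a) * hab) | (exfalso; simp_all; done))
  by_cases d3 : d = Fin.rev i
  · rw [d3]
    simp only [mul_wQm_apply, mul_xQm_apply, wQm_apply, B0_apply, h1, h2, h3, h1.symm, h2.symm, h3.symm, and_true, and_false, true_and, false_and, if_true, if_false, ite_self, add_zero, zero_add, sub_zero, zero_sub, zero_mul, mul_zero, mul_one, one_mul, map_mul, map_neg, map_inv₀]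
    all_goals (split_ifs <;> first | ring1 | (field_simp; ring1) | (field_simp; done) | (field_simp; linear_combination hab) | (field_simp; linear_combination (σ a) * hab) | (exfalso; simp_all; done))
  · simp only [d1, d2, d3, mul_wQm_apply, mul_xQm_apply, wQm_apply, B0_apply, h1, h2, h3, h1.symm, h2.symm, h3.symm, and_true, and_false, true_and, false_and, if_true, if_false, ite_self, add_zero, zero_add, sub_zero, zero_sub, zero_mul, mul_zero, mul_one, one_mul, map_mul, map_neg, map_inv₀]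
    all_goals (split_ifs <;> first | ring1 | (field_simp; ring1) | (field_simp; done) | (field_simp; linear_combination hab) | (field_simp; linear_combination (σ a) * hab) | (exfalso; simp_all; done))

theorem xQ_val (hσ : ∀ x, σ (σ x) = x) (i c : Fin n) (hc : c = Fin.rev c) (hic : i ≠ c) (a b : F)
    (hab : b + σ b + a * σ a = 0) : (xQ σ i c a b).1.1 = xQm σ i c a b :=
  mkE_val σ (Cfsg.Agent.Lib.Helper99_StSU_MEMQ.xQm_mem σ hσ i c hc hic a b hab).1
    (Cfsg.Agent.Lib.Helper99_StSU_MEMQ.xQm_mem σ hσ i c hc hic a b hab).2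

theorem wQ_val (i c : Fin n) (hc : c = Fin.rev c) (hic : i ≠ c) : (wQ σ i c).1.1 = wQm i c :=
  mkE_val σ (Cfsg.Agent.Lib.Helper99_StSU_MEMQ.wQm_mem σ i c hc hic).1
    (Cfsg.Agent.Lib.Helper99_StSU_MEMQ.wQm_mem σ i c hc hic).2

theorem r3Q (hσ : ∀ x, σ (σ x) = x) (i c : Fin n) (hc : c = Fin.rev c) (hlt : i < c) (a β : F)
    (hab : β + σ β + a * σ a = 0) (hne : a ≠ 0 ∨ β ≠ 0) :
    ∃ b ∈ Bsu n σ, ∃ a' β' : F, β' + σ β' + a' * σ a' = 0 ∧
      wQ σ i c * xQ σ i c a β * (wQ σ i c)⁻¹ = b * wQ σ i c * xQ σ i c a' β' := by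
  have hic : i ≠ c := ne_of_lt hlt
  have h2 : i ≠ Fin.rev i := by
    intro h
    have e1 := congrArg Fin.val h
    have e2 := congrArg Fin.val hc
    rw [Fin.val_rev] at e1 e2
    have : i.val < c.val := hlt
    omega
  have h3 : c ≠ Fin.rev i := by
    intro h
    apply hic
    have : Fin.rev c = i := by rw [h, Fin.rev_rev]
    rw [← this, ← hc]
  have hci' : c < Fin.rev i := by
    have := Fin.rev_lt_rev.mpr hlt
    rwa [← hc] at this
  have hii' : i < Fin.rev i := lt_trans hlt hci'
  have hβ : β ≠ 0 := by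
    intro h0
    rw [h0, map_zero, zero_add, zero_add] at hab
    rcases mul_eq_zero.mp hab with h | h
    · rcases hne with h' | h'
      · exact h' h
      · exact h' h0
    · have : a = 0 := by
        have := congrArg σ h
        rwa [hσ, map_zero] at this
      rcases hne with h' | h'
      · exact h' this
      · exact h' h0
  have hσβ : σ β ≠ 0 := by
    intro h
    apply hβ
    have := congrArg σ h
    rwa [hσ, map_zero] at this
  have hab' : β⁻¹ + σ β⁻¹ + (-a * β⁻¹) * σ (-a * β⁻¹) = 0 := by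
    simp only [map_mul, map_neg, map_inv₀]
    field_simp
    linear_combination hab
  obtain ⟨b, hb⟩ : ∃ b, b = (wQ σ i c * xQ σ i c a β * (wQ σ i c)⁻¹) *
      (wQ σ i c * xQ σ i c (-a * β⁻¹) β⁻¹)⁻¹ := ⟨_, rfl⟩
  refine ⟨b, ?_, -a * β⁻¹, β⁻¹, hab', by rw [hb]; group⟩
  obtain ⟨g, hg⟩ : ∃ g, g = wQ σ i c * xQ σ i c (-a * β⁻¹) β⁻¹ * wQ σ i c := ⟨_, rfl⟩
  have e1 : b * g = wQ σ i c * xQ σ i c a β := by rw [hb, hg]; group
  have hW := wQ_val σ i c hc hic
  have hX := xQ_val σ hσ i c hc hic a β hab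
  have hX' := xQ_val σ hσ i c hc hic (-a * β⁻¹) β⁻¹ hab'
  have e2 : b.1.1 * g.1.1 = wQm i c * xQm σ i c a β := by
    rw [← mul_val, e1, mul_val, hW, hX]
  have e3 : g.1.1 = wQm i c * xQm σ i c (-a * β⁻¹) β⁻¹ * wQm i c := by
    rw [hg, mul_val, mul_val, hW, hX']
  have e4 : B0 σ i c a β * g.1.1 = wQm i c * xQm σ i c a β := by
    rw [e3, ← Matrix.mul_assoc, ← Matrix.mul_assoc]
    exact r3Q_mat σ hσ i c hic h2 h3 a β hab hβ
  have e5 : b.1.1 = B0 σ i c a β := by
    calc b.1.1 = b.1.1 * (g.1.1 * (g⁻¹).1.1) := by rw [mul_inv_val, Matrix.mul_one]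
      _ = (b.1.1 * g.1.1) * (g⁻¹).1.1 := by rw [Matrix.mul_assoc]
      _ = (B0 σ i c a β * g.1.1) * (g⁻¹).1.1 := by rw [e2, e4]
      _ = B0 σ i c a β := by rw [Matrix.mul_assoc, mul_inv_val, Matrix.mul_one]
  rw [mem_Bsu σ]
  intro r d hdr
  rw [e5, B0_apply]
  have hne' : r ≠ d := ne_of_gt hdr
  have z1 : ¬ (r = i ∧ d = i) := fun ⟨h, h'⟩ => hne' (h.trans h'.symm)
  have z2 : ¬ (r = i ∧ d = c) := fun ⟨h, h'⟩ => by
    rw [h, h'] at hdr; exact absurd hdr (not_lt.mpr hlt.le)
  have z3 : ¬ (r = i ∧ d = Fin.rev i) := fun ⟨h, h'⟩ => by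
    rw [h, h'] at hdr; exact absurd hdr (not_lt.mpr hii'.le)
  have z4 : ¬ (r = c ∧ d = c) := fun ⟨h, h'⟩ => hne' (h.trans h'.symm)
  have z5 : ¬ (r = c ∧ d = Fin.rev i) := fun ⟨h, h'⟩ => by
    rw [h, h'] at hdr; exact absurd hdr (not_lt.mpr hci'.le)
  have z6 : ¬ (r = Fin.rev i ∧ d = Fin.rev i) := fun ⟨h, h'⟩ => hne' (h.trans h'.symm)
  rw [if_neg hne', if_neg z1, if_neg z2, if_neg z3, if_neg z4, if_neg z5, if_neg z6]
  simp

end Cfsg.Agent.Lib.Helper25_StSU_R3Q
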