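import Cfsg.Agent.Lib.Helper37_SzCharDefs
import Cfsg.Agent.Lib.Helper3_CharColumn
import Cfsg.Prelude.Def_DegreeGraph

/-!
# S4775, package PK-G (helper25): the arithmetic of the character degree graph of `Sz(q)`
-/

set_option autoImplicit false

namespace Cfsg.Agent.Lib.Helper25_SzChar_PKG

open scoped ComplexConjugate Classical
open Cfsg Cfsg.Agent.Helper37SzChar Cfsg.Agent.Helper37TI

theorem mul_dvd_of_primes {a b x : ℕ} (ha : a.Prime) (hb : b.Prime) (hab : a ≠ b) (h1 : a ∣ x)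
    (h2 : b ∣ x) : a * b ∣ x :=
  Nat.Coprime.mul_dvd_of_dvd_of_dvd ((Nat.coprime_primes ha hb).2 hab) h1 h2

theorem eq_two_of_dvd_two_pow {p k : ℕ} (hp : p.Prime) (h : p ∣ 2 ^ k) : p = 2 :=
  (Nat.prime_dvd_prime_iff_eq hp Nat.prime_two).1 (hp.dvd_of_dvd_pow h)

theorem graph_sz (m : ℕ) (hm : 1 ≤ m) (D : Set ℕ)
    (hD : D = {1, qq m ^ 2, qq m ^ 2 + 1, (qq m - 1) * (qq m - rr m + 1),
      (qq m - 1) * (qq m + rr m + 1), 2 ^ m * (qq m - 1)}) :
    {p : ℕ | p.Prime ∧ ∃ d ∈ D, p ∣ d} =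
      {p : ℕ | p.Prime ∧ (p = 2 ∨ p ∣ (qq m - 1) * (qq m ^ 2 + 1))} ∧
    ∀ a b : ℕ, (a ≠ b ∧ a.Prime ∧ b.Prime ∧ ∃ d ∈ D, a * b ∣ d) ↔
      (a ≠ b ∧ a.Prime ∧ b.Prime ∧
        ((a ∣ (qq m - 1) * (qq m ^ 2 + 1) ∧ b ∣ (qq m - 1) * (qq m ^ 2 + 1)) ∨
          (a = 2 ∧ b ∣ qq m - 1) ∨ (b = 2 ∧ a ∣ qq m - 1))) := by
  have hn := n1_mul_n2 m
  have hqsq : qq m ^ 2 = 2 ^ (2 * (2 * m + 1)) := by
    unfold qq
    rw [← pow_mul, mul_comm]
  have hmem2 : qq m ^ 2 ∈ D := by rw [hD]; simp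
  have hmem3 : qq m ^ 2 + 1 ∈ D := by rw [hD]; simp
  have hmem4 : (qq m - 1) * (qq m - rr m + 1) ∈ D := by rw [hD]; simp
  have hmem5 : (qq m - 1) * (qq m + rr m + 1) ∈ D := by rw [hD]; simp
  have hmem6 : 2 ^ m * (qq m - 1) ∈ D := by rw [hD]; simp
  have hcases : ∀ d ∈ D, d = 1 ∨ d = qq m ^ 2 ∨ d = qq m ^ 2 + 1 ∨
      d = (qq m - 1) * (qq m - rr m + 1) ∨ d = (qq m - 1) * (qq m + rr m + 1) ∨
      d = 2 ^ m * (qq m - 1) := by
    intro d hd
    rw [hD] at hd
    simpa only [Set.mem_insert_iff, Set.mem_singleton_iff] using hd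
  have hn2 : (qq m - rr m + 1) ∣ qq m ^ 2 + 1 := ⟨qq m + rr m + 1, by rw [← hn]; ring⟩
  have hn1 : (qq m + rr m + 1) ∣ qq m ^ 2 + 1 := ⟨qq m - rr m + 1, by rw [← hn]⟩
  have hd4 : (qq m - 1) * (qq m - rr m + 1) ∣ (qq m - 1) * (qq m ^ 2 + 1) :=
    Nat.mul_dvd_mul_left _ hn2
  have hd5 : (qq m - 1) * (qq m + rr m + 1) ∣ (qq m - 1) * (qq m ^ 2 + 1) :=
    Nat.mul_dvd_mul_left _ hn1
  have h2m : 2 ∣ 2 ^ m := dvd_pow_self 2 (by omega)
  constructor
  · ext p
    simp only [Set.mem_ofPred_eq]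
    constructor
    · rintro ⟨hp, d, hd, hpd⟩
      refine ⟨hp, ?_⟩
      rcases hcases d hd with rfl | rfl | rfl | rfl | rfl | rfl
      · exact absurd (Nat.dvd_one.1 hpd) hp.ne_one
      · left
        rw [hqsq] at hpd
        exact eq_two_of_dvd_two_pow hp hpd
      · right
        exact hpd.trans (dvd_mul_left _ _)
      · right
        exact hpd.trans hd4
      · right
        exact hpd.trans hd5
      · rcases (Nat.Prime.dvd_mul hp).1 hpd with h | h
        · left
          exact eq_two_of_dvd_two_pow hp h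
        · right
          exact h.trans (dvd_mul_right _ _)
    · rintro ⟨hp, h | h⟩
      · refine ⟨hp, qq m ^ 2, hmem2, ?_⟩
        rw [h, hqsq]
        exact dvd_pow_self 2 (by omega)
      · rcases (Nat.Prime.dvd_mul hp).1 h with h' | h'
        · exact ⟨hp, _, hmem6, h'.trans (dvd_mul_left _ _)⟩
        · exact ⟨hp, _, hmem3, h'⟩
  · intro a b
    constructor
    · rintro ⟨hab, ha, hb, d, hd, habd⟩
      refine ⟨hab, ha, hb, ?_⟩
      have had : a ∣ d := (dvd_mul_right a b).trans habd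
      have hbd : b ∣ d := (dvd_mul_left b a).trans habd
      rcases hcases d hd with rfl | rfl | rfl | rfl | rfl | rfl
      · exact absurd (Nat.dvd_one.1 had) ha.ne_one
      · exfalso
        rw [hqsq] at had hbd
        apply hab
        rw [eq_two_of_dvd_two_pow ha had, eq_two_of_dvd_two_pow hb hbd]
      · left
        exact ⟨had.trans (dvd_mul_left _ _), hbd.trans (dvd_mul_left _ _)⟩
      · left
        exact ⟨had.trans hd4, hbd.trans hd4⟩
      · left
        exact ⟨had.trans hd5, hbd.trans hd5⟩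
      · rcases (Nat.Prime.dvd_mul ha).1 had with h | h
        · have ha2 := eq_two_of_dvd_two_pow ha h
          rcases (Nat.Prime.dvd_mul hb).1 hbd with h' | h'
          · exfalso
            apply hab
            rw [ha2, eq_two_of_dvd_two_pow hb h']
          · right; left
            exact ⟨ha2, h'⟩
        · rcases (Nat.Prime.dvd_mul hb).1 hbd with h' | h'
          · right; right
            exact ⟨eq_two_of_dvd_two_pow hb h', h⟩
          · left
            exact ⟨h.trans (dvd_mul_right _ _), h'.trans (dvd_mul_right _ _)⟩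
    · rintro ⟨hab, ha, hb, h⟩
      refine ⟨hab, ha, hb, ?_⟩
      rcases h with ⟨h1, h2⟩ | ⟨rfl, h2⟩ | ⟨rfl, h2⟩
      · rcases (Nat.Prime.dvd_mul ha).1 h1 with ha1 | ha1
        · rcases (Nat.Prime.dvd_mul hb).1 h2 with hb1 | hb1
          · exact ⟨_, hmem6, mul_dvd_of_primes ha hb hab (ha1.trans (dvd_mul_left _ _))
              (hb1.trans (dvd_mul_left _ _))⟩
          · rw [← hn] at hb1
            rcases (Nat.Prime.dvd_mul hb).1 hb1 with hb2 | hb2
            · exact ⟨_, hmem5, mul_dvd_of_primes ha hb hab (ha1.trans (dvd_mul_right _ _))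
                (hb2.trans (dvd_mul_left _ _))⟩
            · exact ⟨_, hmem4, mul_dvd_of_primes ha hb hab (ha1.trans (dvd_mul_right _ _))
                (hb2.trans (dvd_mul_left _ _))⟩
        · rcases (Nat.Prime.dvd_mul hb).1 h2 with hb1 | hb1
          · rw [← hn] at ha1
            rcases (Nat.Prime.dvd_mul ha).1 ha1 with ha2 | ha2
            · exact ⟨_, hmem5, mul_dvd_of_primes ha hb hab (ha2.trans (dvd_mul_left _ _))
                (hb1.trans (dvd_mul_right _ _))⟩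
            · exact ⟨_, hmem4, mul_dvd_of_primes ha hb hab (ha2.trans (dvd_mul_left _ _))
                (hb1.trans (dvd_mul_right _ _))⟩
          · exact ⟨_, hmem3, mul_dvd_of_primes ha hb hab ha1 hb1⟩
      · exact ⟨_, hmem6, mul_dvd_of_primes ha hb hab (h2m.trans (dvd_mul_right _ _))
          (h2.trans (dvd_mul_left _ _))⟩
      · exact ⟨_, hmem6, mul_dvd_of_primes ha hb hab (h2.trans (dvd_mul_left _ _))
          (h2m.trans (dvd_mul_right _ _))⟩

end Cfsg.Agent.Lib.Helper25_SzChar_PKG
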