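import Mathlib
import Cfsg.Agent.Lib.Helper67_UT2Defs
import Cfsg.Agent.Lib.Helper82_T2_KR

set_option autoImplicit false
set_option linter.unusedSectionVars false
set_option linter.unusedVariables false

/-!
# UTENS2 package NEXA (architect helper67, formaliser helper78)

The shape of a Kronecker `h` stabilising `G0 = W × 0` with `(h - 1)² = 0` (pure algebra, every characteristic):
`h (u, u') = (u + N u + τ (u' + N u'), u' + N u')` with `N² = 0` and `2 τ N = 0`.
-/

open Module
open Cfsg.Agent.Lib.Helper94_Symp Cfsg.Agent.Lib.Helper94_Herm Cfsg.Agent.Lib.Helper13_PSUSimple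
  Cfsg.Agent.Lib.Helper94_FrmDefs Cfsg.Agent.Lib.Helper94_HermEich
  Cfsg.Agent.Lib.Helper67_Tens2Defs Cfsg.Agent.Lib.Helper67_UT2Defs

namespace Cfsg.Agent.Lib.Helper78_UT2_NEXA

variable {F W : Type*} [Field F] [Finite F] [AddCommGroup W] [Module F W] [FiniteDimensional F W]
variable {σ : F →+* F} {β : W →ₗ[F] W →ₛₗ[σ] F}

/-- NEXA : the shape of a Kronecker `h` stabilising `G0` with `(h - 1)² = 0` (pure algebra) -/
theorem kron_quad (h : (W × W) ≃ₗ[F] (W × W)) (hk : IsKron2 h)
    (h0 : ∀ x ∈ (G0 : Submodule F (W × W)), h x ∈ (G0 : Submodule F (W × W)))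
    (hsq : ∀ x, h (h x) - h x = h x - x) :
    ∃ (τ : F) (N : W →ₗ[F] W), (∀ u, N (N u) = 0) ∧ (∀ u, (2 * τ) • N u = 0) ∧
      ∀ u u' : W, h (u, u') = (u + N u + τ • (u' + N u'), u' + N u') := by
  obtain ⟨p, Q, hpQ⟩ := hk
  -- the trivial space
  by_cases hB : ∃ v : W, v ≠ 0
  swap
  · have hcon : ∀ v : W, v = 0 := fun v => by
      by_contra hv
      exact hB ⟨v, hv⟩
    refine ⟨0, 0, fun u => hcon _, fun u => hcon _, ?_⟩
    intro u u'
    exact Prod.ext (hcon _ |>.trans (hcon _).symm) (hcon _ |>.trans (hcon _).symm)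
  obtain ⟨v0, hv0⟩ := hB
  -- `h (u, 0) = (p00 Q u, 0)`
  have h10 : ∀ u : W, p 1 0 • Q u = 0 := by
    intro u
    have := h0 (u, 0) rfl
    rw [mem_G0, hpQ] at this
    simpa using this
  have hu0 : ∀ u : W, h (u, 0) = (p 0 0 • Q u, 0) := by
    intro u
    rw [hpQ, map_zero, smul_zero, smul_zero, add_zero, add_zero, h10]
  have hp00 : p 0 0 ≠ 0 := by
    intro hp
    have : h (v0, 0) = h 0 := by rw [hu0, hp, zero_smul, map_zero]; rfl
    have := h.injective this
    exact hv0 (congrArg Prod.fst this)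
  -- normalise
  set Q0 : W →ₗ[F] W := p 0 0 • Q with hQ0
  set τ : F := p 0 1 * (p 0 0)⁻¹ with hτ
  set l : F := p 1 1 * (p 0 0)⁻¹ with hl
  have hQQ : ∀ u, Q u = (p 0 0)⁻¹ • Q0 u := by
    intro u
    rw [hQ0, LinearMap.smul_apply, smul_smul, inv_mul_cancel₀ hp00, one_smul]
  have hform : ∀ u u' : W, h (u, u') = (Q0 u + τ • Q0 u', l • Q0 u') := by
    intro u u'
    have e : ((u, u') : W × W) = (u, 0) + (0, u') := by simp
    rw [e, map_add, hu0, hpQ, map_zero, smul_zero, smul_zero, zero_add, zero_add, hQQ u',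
      smul_smul, smul_smul]
    simp only [Prod.mk_add_mk, zero_add]
    rfl
  -- `(Q0 - 1)² = 0`
  have hA : ∀ u : W, Q0 (Q0 u) - Q0 u = Q0 u - u := by
    intro u
    have := congrArg Prod.fst (hsq (u, 0))
    simp only [hform, map_zero, smul_zero, add_zero, Prod.fst_sub] at this
    exact this
  -- second component on `(0, u')`
  have hBq : ∀ u' : W, l • Q0 (l • Q0 u') - l • Q0 u' = l • Q0 u' - u' := by
    intro u'
    have := congrArg Prod.snd (hsq (0, u'))
    simp only [hform, map_zero, zero_add, Prod.snd_sub] at this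
    exact this
  have hCq : ∀ u' : W, Q0 (τ • Q0 u') + τ • Q0 (l • Q0 u') - τ • Q0 u' = τ • Q0 u' := by
    intro u'
    have := congrArg Prod.fst (hsq (0, u'))
    simp only [hform, map_zero, zero_add, Prod.fst_sub, sub_zero] at this
    exact this
  set N : W →ₗ[F] W := Q0 - LinearMap.id with hN
  have hQN : ∀ u : W, Q0 u = u + N u := by
    intro u
    simp only [hN, LinearMap.sub_apply, LinearMap.id_apply]; abel
  have hNN : ∀ u : W, N (N u) = 0 := by
    intro u
    have e := hA u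
    simp only [hN, LinearMap.sub_apply, LinearMap.id_apply, map_sub]
    have : Q0 (Q0 u) - Q0 u - (Q0 u - u) = 0 := by rw [e]; abel
    exact this
  -- a nonzero vector killed by `N`
  obtain ⟨v1, hv1, hNv1⟩ : ∃ v : W, v ≠ 0 ∧ N v = 0 := by
    by_cases hN0 : N v0 = 0
    · exact ⟨v0, hv0, hN0⟩
    · exact ⟨N v0, hN0, hNN v0⟩
  -- `l = 1`
  have hl1 : l = 1 := by
    have e := hBq v1
    have hQv1 : Q0 v1 = v1 := by rw [hQN, hNv1, add_zero]
    rw [hQv1, map_smul, hQv1, smul_smul] at e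
    have e' : ((l - 1) * (l - 1)) • v1 = 0 := by
      have : (l * l) • v1 - l • v1 - (l • v1 - v1) = 0 := by rw [e]; abel
      rw [← this]
      module
    rcases smul_eq_zero.mp e' with h | h
    · rcases mul_eq_zero.mp h with h' | h' <;> exact sub_eq_zero.mp h'
    · exact absurd h hv1
  refine ⟨τ, N, hNN, ?_, ?_⟩
  · intro u
    have e := hCq u
    rw [hl1, one_smul, map_smul] at e
    have hQQu : Q0 (Q0 u) = Q0 u + N u := by
      have := hA u
      have e2 : Q0 (Q0 u) = (Q0 (Q0 u) - Q0 u) + Q0 u := by abel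
      rw [e2, this, hQN u]; abel
    rw [hQQu] at e
    have : τ • (Q0 u + N u) + τ • (Q0 u + N u) - τ • Q0 u - τ • Q0 u = 0 := by rw [e]; abel
    rw [← this]
    module
  · intro u u'
    rw [hform, hl1, one_smul, hQN u, hQN u']

end Cfsg.Agent.Lib.Helper78_UT2_NEXA
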