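import Mathlib
import Cfsg.Prelude.Def_GeometricClasses
import Cfsg.Agent.Lib.Helper98_MonoBase
import Cfsg.Agent.Lib.Helper98_MonoG
import Cfsg.Agent.Lib.Helper98_MonoSL
import Cfsg.Agent.Lib.Helper94_SLBridge

set_option autoImplicit false
set_option linter.unusedSectionVars false
set_option linter.unusedSimpArgs false
set_option linter.unusedVariables false
set_option linter.style.haveILetI false

/-!
The monomial subgroup of `SL ι F` is maximal (`|F| ≥ 5`, `|ι| ≥ 13`).
-/

namespace Cfsg.Agent.Lib.Helper98_MonoTop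

open Matrix Cfsg.Agent.Lib.Helper98_MonoBase Cfsg.Agent.Lib.Helper98_MonoG
  Cfsg.Agent.Lib.Helper98_MonoSL

variable {F : Type*} [Field F] [Fintype F] {ι : Type} [Fintype ι] [DecidableEq ι]

omit [Fintype F] in
lemma mem_SL_iff (g : GL ι F) :
    g ∈ Cfsg.Geo.specialLinear ι F ↔ (g : Matrix ι ι F).det = 1 := by
  unfold Cfsg.Geo.specialLinear
  rw [MonoidHom.mem_ker]
  constructor
  · intro h
    have := congrArg (fun u : Fˣ => (u : F)) h
    simpa using this
  · intro h
    apply Units.ext
    simpa using h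

/-- a subgroup containing all elementary transvections contains every matrix of determinant one -/
lemma sl_le_of_elem [Nontrivial ι] (K : Subgroup (GL ι F))
    (h : ∀ i j : ι, i ≠ j → ∀ c : F, InK K (1 + Matrix.single i j c)) :
    ∀ g : GL ι F, (g : Matrix ι ι F).det = 1 → g ∈ K := by
  intro g hg
  have key : ∀ A : Matrix.SpecialLinearGroup ι F, Matrix.SpecialLinearGroup.toGL A ∈ K := by
    intro A
    refine Cfsg.Agent.Lib.Helper94_SLBridge.transvection_induction
      (fun A => Matrix.SpecialLinearGroup.toGL A ∈ K) ?_ ?_ A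
    · intro i j hij c
      obtain ⟨u, hu, huv⟩ := h i j hij c
      have : Matrix.SpecialLinearGroup.toGL (Matrix.SpecialLinearGroup.transvection hij c) = u := by
        apply Units.ext
        rw [huv]
        simp [Matrix.SpecialLinearGroup.transvection_coe, Matrix.transvection]
      rw [this]
      exact hu
    · intro A B hA hB
      simp only [map_mul]
      exact K.mul_mem hA hB
  have : g = Matrix.SpecialLinearGroup.toGL (⟨(g : Matrix ι ι F), hg⟩ :
      Matrix.SpecialLinearGroup ι F) := by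
    apply Units.ext
    rfl
  rw [this]
  exact key _

omit [Fintype F] in
lemma mono_mul_apply (σ : Equiv.Perm ι) (d : ι → F) (A : Matrix ι ι F) (r s : ι) :
    (mono σ d * A) r s = d (σ.symm r) * A (σ.symm r) s := by
  rw [Matrix.mul_apply, Finset.sum_eq_single (σ.symm r)]
  · rw [mono_apply, if_pos (by simp)]
  · intro u _ hu
    rw [mono_apply, if_neg, zero_mul]
    intro h'
    apply hu
    rw [h', Equiv.symm_apply_apply]
  · intro h; exact absurd (Finset.mem_univ _) h

/-- conjugating an elementary transvection by a monomial matrix -/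
lemma conj_mono_single (σ : Equiv.Perm ι) (d : ι → F) (hd : ∀ l, d l ≠ 0) (i j : ι) (c : F) :
    ((monoU σ d hd : GL ι F) : Matrix ι ι F) * (1 + Matrix.single i j c) *
      (((monoU σ d hd)⁻¹ : GL ι F) : Matrix ι ι F) =
      1 + Matrix.single (σ i) (σ j) (d i * c * (d j)⁻¹) := by
  ext r s
  rw [monoU_val, monoU_inv_val, mul_mono_apply, mono_mul_apply]
  have e1 : (σ⁻¹ : Equiv.Perm ι) s = σ.symm s := rfl
  rw [e1]
  obtain ⟨u, rfl⟩ : ∃ u, r = σ u := ⟨σ.symm r, by simp⟩
  obtain ⟨v, rfl⟩ : ∃ v, s = σ v := ⟨σ.symm s, by simp⟩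
  rw [Equiv.symm_apply_apply, Equiv.symm_apply_apply]
  rw [Matrix.add_apply, Matrix.add_apply, Matrix.single_apply, Matrix.single_apply]
  by_cases huv : u = v
  · subst huv
    rw [Matrix.one_apply_eq, Matrix.one_apply_eq]
    by_cases hc : i = u ∧ j = u
    · rw [if_pos hc, if_pos ⟨congrArg σ hc.1, congrArg σ hc.2⟩, hc.1, hc.2]
      have := hd u
      field_simp
    · rw [if_neg hc, if_neg]
      · have := hd u
        field_simp
      · rintro ⟨h1, h2⟩
        exact hc ⟨σ.injective h1, σ.injective h2⟩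
  · rw [Matrix.one_apply_ne huv, Matrix.one_apply_ne (fun h => huv (σ.injective h))]
    by_cases hc : i = u ∧ j = v
    · rw [if_pos hc, if_pos ⟨congrArg σ hc.1, congrArg σ hc.2⟩, hc.1, hc.2]
      ring
    · rw [if_neg hc, if_neg]
      · ring
      · rintro ⟨h1, h2⟩
        exact hc ⟨σ.injective h1, σ.injective h2⟩

omit [Fintype F] [Fintype ι] in
lemma exists_perm_two {i j i' j' : ι} (hij : i ≠ j) (hij' : i' ≠ j') :
    ∃ σ : Equiv.Perm ι, σ i = i' ∧ σ j = j' := by
  refine ⟨Equiv.swap (Equiv.swap i i' j) j' * Equiv.swap i i', ?_, ?_⟩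
  · rw [Equiv.Perm.mul_apply, Equiv.swap_apply_left]
    apply Equiv.swap_apply_of_ne_of_ne
    · intro h
      have := congrArg (Equiv.swap i i') h
      rw [Equiv.swap_apply_self, Equiv.swap_apply_right] at this
      exact hij this
    · exact hij'
  · rw [Equiv.Perm.mul_apply, Equiv.swap_apply_left]

/-- **Dichotomy for overgroups of the monomial group in `SL`.** -/
theorem mono_dichotomy (hq : 5 ≤ Fintype.card F) (hn : 13 ≤ Fintype.card ι)
    (K : Subgroup (GL ι F)) (hdet : ∀ g ∈ K, (g : Matrix ι ι F).det = 1)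
    (hmono : ∀ g ∈ monoGL ι F, (g : Matrix ι ι F).det = 1 → g ∈ K) :
    K ≤ monoGL ι F ∨ ∀ g : GL ι F, (g : Matrix ι ι F).det = 1 → g ∈ K := by
  classical
  haveI : Nontrivial ι := Fintype.one_lt_card_iff_nontrivial.mp (by omega)
  by_cases h : ∃ i j : ι, i ≠ j ∧ ∃ c : F, c ≠ 0 ∧ InK K (1 + Matrix.single i j c)
  · right
    obtain ⟨i, j, hij, c, hc, hE⟩ := h
    apply sl_le_of_elem K
    intro i' j' hij' c'
    by_cases hc' : c' = 0
    · subst hc'
      rw [Matrix.single_zero, add_zero]
      exact ⟨1, K.one_mem, rfl⟩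
    obtain ⟨σ, hσi, hσj⟩ := exists_perm_two hij hij'
    obtain ⟨l₀, hl₀⟩ : ∃ l, l ∉ ({i, j} : Finset ι) := by
      by_contra hcon
      push Not at hcon
      have : (Finset.univ : Finset ι) ⊆ {i, j} := fun r _ => hcon r
      have := Finset.card_le_card this
      rw [Finset.card_univ] at this
      have : ({i, j} : Finset ι).card ≤ 2 := Finset.card_le_two
      omega
    simp only [Finset.mem_insert, Finset.mem_singleton, not_or] at hl₀
    set ε : F := ((Equiv.Perm.sign σ : ℤ) : F) with hε
    have hε0 : ε ≠ 0 := by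
      rcases Int.units_eq_one_or (Equiv.Perm.sign σ) with h | h <;> simp [hε, h]
    set d : ι → F := fun l => if l = i then c' / c else if l = l₀ then ε⁻¹ * (c' / c)⁻¹ else 1
      with hd
    have hdi : d i = c' / c := by simp [hd]
    have hdl : d l₀ = ε⁻¹ * (c' / c)⁻¹ := by simp [hd, hl₀.1]
    have hdj : d j = 1 := by simp [hd, Ne.symm hij, Ne.symm hl₀.2]
    have hdo : ∀ l, l ≠ i → l ≠ l₀ → d l = 1 := fun l h1 h2 => by simp [hd, h1, h2]
    have hcc : c' / c ≠ 0 := div_ne_zero hc' hc
    have hd0 : ∀ l, d l ≠ 0 := by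
      intro l
      by_cases h1 : l = i
      · rw [h1, hdi]; exact hcc
      · by_cases h2 : l = l₀
        · rw [h2, hdl]; exact mul_ne_zero (inv_ne_zero hε0) (inv_ne_zero hcc)
        · rw [hdo l h1 h2]; exact one_ne_zero
    have hμK : monoU σ d hd0 ∈ K := by
      apply hmono _ (monoU_mem _ _ _)
      rw [monoU_val, det_mono, Finset.prod_eq_mul i l₀ (Ne.symm hl₀.1)
        (fun l _ hl => hdo l hl.1 hl.2) (fun h => absurd (Finset.mem_univ _) h)
        (fun h => absurd (Finset.mem_univ _) h), hdi, hdl, ← hε]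
      field_simp
    have := hE.conj hμK
    rw [conj_mono_single, hσi, hσj, hdi, hdj] at this
    convert this using 3
    field_simp
  · left
    push Not at h
    exact le_mono hq hn ⟨hdet, hmono, fun i j hij c hc hE => h i j hij c hc hE⟩

/-- **The monomial subgroup of `SL` is maximal.** -/
theorem mono_maximal (hq : 5 ≤ Fintype.card F) (hn : 13 ≤ Fintype.card ι) :
    Cfsg.Geo.IsMaximalIn (Cfsg.Geo.specialLinear ι F)
      (monoGL ι F ⊓ Cfsg.Geo.specialLinear ι F) := by
  classical
  constructor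
  · refine lt_of_le_of_ne inf_le_right ?_
    intro heq
    obtain ⟨i, j, hij⟩ := Fintype.exists_pair_of_one_lt_card (by omega : 1 < Fintype.card ι)
    have hdetE : ((1 : Matrix ι ι F) + Matrix.single i j 1).det = 1 :=
      Matrix.det_transvection_of_ne i j hij 1
    set E : GL ι F := Matrix.GeneralLinearGroup.mkOfDetNeZero (1 + Matrix.single i j 1)
      (by rw [hdetE]; exact one_ne_zero) with hE
    have hEv : (E : Matrix ι ι F) = 1 + Matrix.single i j 1 := rfl
    have hE1 : E ∈ Cfsg.Geo.specialLinear ι F := (mem_SL_iff _).mpr (by rw [hEv, hdetE])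
    rw [← heq] at hE1
    have hM : IsMono (E : Matrix ι ι F) := hE1.1
    apply hij
    apply hM j i j
    · rw [hEv, Matrix.add_apply, Matrix.one_apply_ne hij, Matrix.single_apply, if_pos ⟨rfl, rfl⟩,
        zero_add]
      exact one_ne_zero
    · rw [hEv, Matrix.add_apply, Matrix.one_apply_eq, Matrix.single_apply,
        if_neg (fun h => hij h.1), add_zero]
      exact one_ne_zero
  · intro M hHM hMS
    rcases mono_dichotomy hq hn M (fun g hg => (mem_SL_iff g).mp (hMS hg))
      (fun g hg hdet => hHM ⟨hg, (mem_SL_iff g).mpr hdet⟩) with h | h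
    · left
      exact le_antisymm (fun g hg => ⟨h hg, hMS hg⟩) hHM
    · right
      exact le_antisymm hMS (fun g hg => h g ((mem_SL_iff g).mp hg))

end Cfsg.Agent.Lib.Helper98_MonoTop
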