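import Mathlib
import Cfsg.Prelude.Def_GeometricClasses
import Cfsg.Agent.Lib.Helper98_ExtDefs
import Cfsg.Agent.Lib.Helper98_MonoTop

set_option autoImplicit false
set_option linter.unusedSectionVars false
set_option linter.style.haveILetI false

/-!
# S5886: bridge between subgroups of `GL (Fin n) F` and subgroups of `(Fin n → F) ≃ₗ[F] (Fin n → F)`
-/

namespace Cfsg.Agent.Lib.Helper98_ExtBridge

open Matrix Cfsg.Geo Cfsg.Agent.Lib.Helper98_ExtDefs

variable {F : Type*} [Field F] {n : ℕ}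

/-- `GL (Fin n) F` as the automorphism group of the space of column vectors -/
noncomputable def glE (n : ℕ) (F : Type*) [Field F] :
    GL (Fin n) F ≃* ((Fin n → F) ≃ₗ[F] (Fin n → F)) :=
  Matrix.GeneralLinearGroup.toLin.trans
    (LinearMap.GeneralLinearGroup.generalLinearEquiv F (Fin n → F))

theorem glE_apply (g : GL (Fin n) F) (v : Fin n → F) :
    glE n F g v = (g : Matrix (Fin n) (Fin n) F) *ᵥ v := by
  simp [glE]

theorem glE_symm_mulVec (e : (Fin n → F) ≃ₗ[F] (Fin n → F)) (v : Fin n → F) :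
    (((glE n F).symm e : GL (Fin n) F) : Matrix (Fin n) (Fin n) F) *ᵥ v = e v := by
  rw [← glE_apply, MulEquiv.apply_symm_apply]

theorem hasMap_map_iff (M : Subgroup (GL (Fin n) F)) (φ : (Fin n → F) → (Fin n → F)) :
    HasMap (M.map (glE n F).toMonoidHom) φ ↔
      ∃ g ∈ M, ∀ x, (g : Matrix (Fin n) (Fin n) F) *ᵥ x = φ x := by
  constructor
  · rintro ⟨e, ⟨g, hg, rfl⟩, he⟩
    refine ⟨g, hg, fun x => ?_⟩
    rw [← he x]
    exact (glE_apply g x).symm
  · rintro ⟨g, hg, hgx⟩
    refine ⟨glE n F g, ⟨g, hg, rfl⟩, fun x => ?_⟩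
    rw [glE_apply, hgx]

theorem mem_map_glE_iff (M : Subgroup (GL (Fin n) F)) (e : (Fin n → F) ≃ₗ[F] (Fin n → F)) :
    e ∈ M.map (glE n F).toMonoidHom ↔ (glE n F).symm e ∈ M := by
  constructor
  · rintro ⟨g, hg, rfl⟩
    have : (glE n F).symm ((glE n F).toMonoidHom g) = g := (glE n F).symm_apply_apply g
    rw [this]
    exact hg
  · intro h
    exact ⟨_, h, (glE n F).apply_symm_apply e⟩

theorem det_glE (g : GL (Fin n) F) :
    ((LinearEquiv.det (glE n F g) : Fˣ) : F) = (g : Matrix (Fin n) (Fin n) F).det := by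
  rw [LinearEquiv.coe_det]
  have h : (glE n F g : (Fin n → F) →ₗ[F] (Fin n → F)) = Matrix.toLin' (g : Matrix (Fin n) (Fin n) F) := by
    apply LinearMap.ext
    intro v
    rw [LinearEquiv.coe_coe, glE_apply, Matrix.toLin'_apply]
  rw [h, LinearMap.det_toLin']

theorem mem_specialLinear_iff (g : GL (Fin n) F) :
    g ∈ specialLinear (Fin n) F ↔ (g : Matrix (Fin n) (Fin n) F).det = 1 := by
  unfold specialLinear
  rw [MonoidHom.mem_ker]
  constructor
  · intro h
    have := congrArg Units.val h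
    simpa using this
  · intro h
    apply Units.ext
    simpa using h

/-- a subgroup containing all transvections contains `SL` -/
theorem sl_le_of_allTv [Fintype F] (hn : 2 ≤ n) (M : Subgroup (GL (Fin n) F))
    (h : AllTv (M.map (glE n F).toMonoidHom)) : specialLinear (Fin n) F ≤ M := by
  haveI : Nontrivial (Fin n) := Fin.nontrivial_iff_two_le.mpr hn
  intro g hg
  rw [mem_specialLinear_iff] at hg
  refine Cfsg.Agent.Lib.Helper98_MonoTop.sl_le_of_elem M ?_ g hg
  intro i j hij c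
  let f : (Fin n → F) →ₗ[F] F := c • LinearMap.proj j
  have hf : f (Pi.single i 1) = 0 := by
    simp only [f, LinearMap.smul_apply, LinearMap.proj_apply, smul_eq_mul]
    rw [Pi.single_eq_of_ne hij.symm, mul_zero]
  obtain ⟨u, hu, hux⟩ := (hasMap_map_iff M _).mp (h f (Pi.single i 1) hf)
  refine ⟨u, hu, ?_⟩
  rw [Matrix.ext_iff_mulVec]
  intro x
  rw [hux x, Matrix.add_mulVec, Matrix.one_mulVec]
  congr 1
  ext l
  simp only [f, LinearMap.smul_apply, LinearMap.proj_apply, smul_eq_mul, Pi.smul_apply,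
    Matrix.mulVec, dotProduct, Matrix.single_apply]
  by_cases hl : i = l
  · subst hl
    simp
  · simp [hl]

section Semilinear

variable {L : Type*} [Field L] [Algebra F L] [Module L (Fin n → F)]
  [IsScalarTower F L (Fin n → F)]

/-- If `K` is the set of matrices acting as the scalars of `L`, then every matrix acting
`L`-semilinearly normalises `K`. -/
theorem mem_normalizer_of_isSemilin (K : Subalgebra F (Matrix (Fin n) (Fin n) F))
    (hKL : ∀ k : Matrix (Fin n) (Fin n) F, k ∈ K ↔ ∃ x : L, ∀ v, k *ᵥ v = x • v)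
    (g : GL (Fin n) F) (hg : IsSemilin F L (Fin n → F) (glE n F g)) :
    g ∈ subalgebraNormalizer K := by
  obtain ⟨σ, hσ⟩ := hg
  have hσ' : ∀ (x : L) (v : Fin n → F),
      (g : Matrix (Fin n) (Fin n) F) *ᵥ (x • v) = σ x • ((g : Matrix (Fin n) (Fin n) F) *ᵥ v) := by
    intro x v
    have := hσ x v
    rwa [glE_apply, glE_apply] at this
  have hginv : ∀ v, (g : Matrix (Fin n) (Fin n) F) *ᵥ (((g⁻¹ : GL (Fin n) F) : Matrix (Fin n) (Fin n) F) *ᵥ v) = v := by
    intro v
    rw [Matrix.mulVec_mulVec, ← Units.val_mul, mul_inv_cancel, Units.val_one, Matrix.one_mulVec]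
  have hinvg : ∀ v, ((g⁻¹ : GL (Fin n) F) : Matrix (Fin n) (Fin n) F) *ᵥ ((g : Matrix (Fin n) (Fin n) F) *ᵥ v) = v := by
    intro v
    rw [Matrix.mulVec_mulVec, ← Units.val_mul, inv_mul_cancel, Units.val_one, Matrix.one_mulVec]
  intro k
  rw [hKL, hKL]
  constructor
  · rintro ⟨x, hx⟩
    refine ⟨σ x, fun v => ?_⟩
    rw [← Matrix.mulVec_mulVec, ← Matrix.mulVec_mulVec, hx, hσ', hginv]
  · rintro ⟨x', hx'⟩
    refine ⟨σ.symm x', fun v => ?_⟩
    have h1 := hx' ((g : Matrix (Fin n) (Fin n) F) *ᵥ v)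
    rw [← Matrix.mulVec_mulVec, ← Matrix.mulVec_mulVec, hinvg] at h1
    have h2 := hσ' (σ.symm x') v
    rw [RingEquiv.apply_symm_apply] at h2
    rw [← h2] at h1
    have h3 := congrArg (fun w => ((g⁻¹ : GL (Fin n) F) : Matrix (Fin n) (Fin n) F) *ᵥ w) h1
    simp only [hinvg] at h3
    exact h3

end Semilinear

end Cfsg.Agent.Lib.Helper98_ExtBridge
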