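import Mathlib
import Cfsg.Prelude.Def_GeometricClasses
import Cfsg.Agent.Lib.Helper97_TensDefs
import Cfsg.Agent.Lib.Helper98_ExtBridge

set_option autoImplicit false
set_option linter.unusedSectionVars false

namespace Cfsg.Agent.Lib.Helper70_Tens_TP10b

open Matrix Cfsg.Geo
open scoped Kronecker
open Cfsg.Agent.Lib.Helper98_ExtDefs Cfsg.Agent.Lib.Helper97_TensDefs Cfsg.Agent.Lib.Helper98_ExtBridge

variable {F : Type*} [Field F] {n n₁ n₂ : ℕ}

/-- conjugation of automorphism groups along a linear equivalence -/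
def conjE {W V : Type*} [AddCommGroup W] [Module F W] [AddCommGroup V] [Module F V]
    (θ : W ≃ₗ[F] V) : (W ≃ₗ[F] W) ≃* (V ≃ₗ[F] V) where
  toFun g := (θ.symm.trans g).trans θ
  invFun h := (θ.trans h).trans θ.symm
  left_inv g := by
    apply LinearEquiv.ext
    intro x
    simp
  right_inv h := by
    apply LinearEquiv.ext
    intro x
    simp
  map_mul' g h := by
    apply LinearEquiv.ext
    intro x
    simp [LinearEquiv.mul_apply]

theorem conjE_apply {W V : Type*} [AddCommGroup W] [Module F W] [AddCommGroup V] [Module F V]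
    (θ : W ≃ₗ[F] V) (g : W ≃ₗ[F] W) (x : V) : conjE θ g x = θ (g (θ.symm x)) := rfl

/-- the identification of column vectors with `n₁ × n₂` matrices -/
noncomputable def theta (e : Fin n ≃ Fin n₁ × Fin n₂) (P : GL (Fin n) F) :
    (Fin n → F) ≃ₗ[F] Matrix (Fin n₁) (Fin n₂) F where
  toFun v := Matrix.of fun i k =>
    (((P⁻¹ : GL (Fin n) F) : Matrix (Fin n) (Fin n) F) *ᵥ v) (e.symm (i, k))
  map_add' v w := by
    ext i k
    simp [Matrix.mulVec_add]
  map_smul' c v := by
    ext i k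
    simp [Matrix.mulVec_smul]
  invFun X := (P : Matrix (Fin n) (Fin n) F) *ᵥ (fun j => X (e j).1 (e j).2)
  left_inv v := by
    have h : (fun j => (Matrix.of fun i k =>
        (((P⁻¹ : GL (Fin n) F) : Matrix (Fin n) (Fin n) F) *ᵥ v) (e.symm (i, k))) (e j).1 (e j).2)
        = ((P⁻¹ : GL (Fin n) F) : Matrix (Fin n) (Fin n) F) *ᵥ v := by
      funext j
      simp
    show (P : Matrix (Fin n) (Fin n) F) *ᵥ _ = v
    rw [h, Matrix.mulVec_mulVec, ← Units.val_mul, mul_inv_cancel, Units.val_one, Matrix.one_mulVec]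
  right_inv X := by
    ext i k
    show (((P⁻¹ : GL (Fin n) F) : Matrix (Fin n) (Fin n) F) *ᵥ
      ((P : Matrix (Fin n) (Fin n) F) *ᵥ (fun j => X (e j).1 (e j).2))) (e.symm (i, k)) = X i k
    rw [Matrix.mulVec_mulVec, ← Units.val_mul, inv_mul_cancel, Units.val_one, Matrix.one_mulVec]
    simp

theorem theta_apply (e : Fin n ≃ Fin n₁ × Fin n₂) (P : GL (Fin n) F) (v : Fin n → F)
    (i : Fin n₁) (k : Fin n₂) :
    theta e P v i k = (((P⁻¹ : GL (Fin n) F) : Matrix (Fin n) (Fin n) F) *ᵥ v) (e.symm (i, k)) := rfl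

/-- the reindexed Kronecker product acts as `X ↦ a * X * bᵀ` -/
theorem reindex_kron_mulVec (e : Fin n ≃ Fin n₁ × Fin n₂) (a : Matrix (Fin n₁) (Fin n₁) F)
    (b : Matrix (Fin n₂) (Fin n₂) F) (w : Fin n → F) (i : Fin n₁) (k : Fin n₂) :
    ((Matrix.reindex e.symm e.symm (a ⊗ₖ b)) *ᵥ w) (e.symm (i, k)) =
      (a * (Matrix.of fun i' k' => w (e.symm (i', k'))) * bᵀ) i k := by
  rw [Matrix.mulVec, dotProduct]
  rw [← Equiv.sum_comp e.symm, Fintype.sum_prod_type]
  simp only [Matrix.reindex_apply, Equiv.symm_symm, Matrix.submatrix_apply, Equiv.apply_symm_apply,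
    Matrix.kroneckerMap_apply]
  rw [Matrix.mul_apply]
  simp only [Matrix.mul_apply, Matrix.transpose_apply, Matrix.of_apply, Finset.sum_mul]
  rw [Finset.sum_comm]
  apply Finset.sum_congr rfl
  intro j _
  apply Finset.sum_congr rfl
  intro l _
  ring

/-- the matrix of the conjugated reindexed Kronecker product -/
noncomputable def kmat (e : Fin n ≃ Fin n₁ × Fin n₂) (P : GL (Fin n) F)
    (a : Matrix (Fin n₁) (Fin n₁) F) (b : Matrix (Fin n₂) (Fin n₂) F) : Matrix (Fin n) (Fin n) F :=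
  (P : Matrix (Fin n) (Fin n) F) * (Matrix.reindex e.symm e.symm (a ⊗ₖ b)) *
    ((P⁻¹ : GL (Fin n) F) : Matrix (Fin n) (Fin n) F)

theorem theta_kmat (e : Fin n ≃ Fin n₁ × Fin n₂) (P : GL (Fin n) F)
    (a : Matrix (Fin n₁) (Fin n₁) F) (b : Matrix (Fin n₂) (Fin n₂) F) (v : Fin n → F) :
    theta e P (kmat e P a b *ᵥ v) = a * theta e P v * bᵀ := by
  ext i k
  rw [theta_apply, kmat, Matrix.mulVec_mulVec, ← Matrix.mul_assoc, ← Matrix.mul_assoc,
    ← Units.val_mul, inv_mul_cancel, Units.val_one, Matrix.one_mul, ← Matrix.mulVec_mulVec,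
    reindex_kron_mulVec]
  rfl

/-- the Kronecker product of two invertible matrices, as an invertible matrix -/
noncomputable def kronGL (a : GL (Fin n₁) F) (b : GL (Fin n₂) F) : GL (Fin n₁ × Fin n₂) F where
  val := (a : Matrix (Fin n₁) (Fin n₁) F) ⊗ₖ (b : Matrix (Fin n₂) (Fin n₂) F)
  inv := ((a⁻¹ : GL (Fin n₁) F) : Matrix (Fin n₁) (Fin n₁) F) ⊗ₖ
    ((b⁻¹ : GL (Fin n₂) F) : Matrix (Fin n₂) (Fin n₂) F)
  val_inv := by
    rw [← Matrix.mul_kronecker_mul, ← Units.val_mul, ← Units.val_mul, mul_inv_cancel,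
      mul_inv_cancel, Units.val_one, Units.val_one, Matrix.one_kronecker_one]
  inv_val := by
    rw [← Matrix.mul_kronecker_mul, ← Units.val_mul, ← Units.val_mul, inv_mul_cancel,
      inv_mul_cancel, Units.val_one, Units.val_one, Matrix.one_kronecker_one]

theorem kronGL_mem (a : GL (Fin n₁) F) (b : GL (Fin n₂) F) :
    kronGL a b ∈ kroneckerSubgroup n₁ n₂ F := ⟨a, b, rfl⟩

/-- the element `P (a ⊗ b) P⁻¹` of the tensor product subgroup -/
noncomputable def tpElem (e : Fin n ≃ Fin n₁ × Fin n₂) (P : GL (Fin n) F)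
    (a : GL (Fin n₁) F) (b : GL (Fin n₂) F) : GL (Fin n) F :=
  (MulAut.conj P) ((glReindex e.symm) (kronGL a b))

theorem tpElem_mem (e : Fin n ≃ Fin n₁ × Fin n₂) (P : GL (Fin n) F)
    (a : GL (Fin n₁) F) (b : GL (Fin n₂) F) :
    tpElem e P a b ∈ tensorProductSubgroup n₁ n₂ e P :=
  ⟨_, ⟨_, kronGL_mem a b, rfl⟩, rfl⟩

theorem glReindex_val (e : Fin n ≃ Fin n₁ × Fin n₂) (k : GL (Fin n₁ × Fin n₂) F) :
    ((glReindex e.symm k : GL (Fin n) F) : Matrix (Fin n) (Fin n) F) =
      Matrix.reindex e.symm e.symm (k : Matrix (Fin n₁ × Fin n₂) (Fin n₁ × Fin n₂) F) := rfl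

theorem tpElem_val (e : Fin n ≃ Fin n₁ × Fin n₂) (P : GL (Fin n) F)
    (a : GL (Fin n₁) F) (b : GL (Fin n₂) F) :
    ((tpElem e P a b : GL (Fin n) F) : Matrix (Fin n) (Fin n) F) =
      kmat e P (a : Matrix (Fin n₁) (Fin n₁) F) (b : Matrix (Fin n₂) (Fin n₂) F) := by
  unfold tpElem kmat
  rw [MulAut.conj_apply, Units.val_mul, Units.val_mul, glReindex_val]
  rfl

theorem det_kmat (e : Fin n ≃ Fin n₁ × Fin n₂) (P : GL (Fin n) F)
    (a : Matrix (Fin n₁) (Fin n₁) F) (b : Matrix (Fin n₂) (Fin n₂) F) :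
    (kmat e P a b).det = a.det ^ Fintype.card (Fin n₂) * b.det ^ Fintype.card (Fin n₁) := by
  unfold kmat
  rw [Matrix.det_units_conj, Matrix.det_reindex_self, Matrix.det_kronecker]

/-- the isomorphism between `GL_n(F)` and the automorphism group of the matrix space -/
noncomputable def Phi (e : Fin n ≃ Fin n₁ × Fin n₂) (P : GL (Fin n) F) :
    GL (Fin n) F ≃* (Matrix (Fin n₁) (Fin n₂) F ≃ₗ[F] Matrix (Fin n₁) (Fin n₂) F) :=
  (glE n F).trans (conjE (theta e P))

theorem Phi_apply (e : Fin n ≃ Fin n₁ × Fin n₂) (P : GL (Fin n) F) (g : GL (Fin n) F)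
    (X : Matrix (Fin n₁) (Fin n₂) F) :
    Phi e P g X = theta e P ((g : Matrix (Fin n) (Fin n) F) *ᵥ (theta e P).symm X) := by
  show conjE (theta e P) (glE n F g) X = _
  rw [conjE_apply, glE_apply]

theorem Phi_tpElem (e : Fin n ≃ Fin n₁ × Fin n₂) (P : GL (Fin n) F)
    (a : GL (Fin n₁) F) (b : GL (Fin n₂) F) (X : Matrix (Fin n₁) (Fin n₂) F) :
    Phi e P (tpElem e P a b) X =
      (a : Matrix (Fin n₁) (Fin n₁) F) * X * (b : Matrix (Fin n₂) (Fin n₂) F)ᵀ := by
  rw [Phi_apply, tpElem_val, theta_kmat, LinearEquiv.apply_symm_apply]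

theorem det_Phi (e : Fin n ≃ Fin n₁ × Fin n₂) (P : GL (Fin n) F) (g : GL (Fin n) F) :
    LinearMap.det (Phi e P g).toLinearMap = (g : Matrix (Fin n) (Fin n) F).det := by
  have h : (Phi e P g).toLinearMap =
      ((theta e P : (Fin n → F) →ₗ[F] Matrix (Fin n₁) (Fin n₂) F)) ∘ₗ
        ((glE n F g : (Fin n → F) →ₗ[F] (Fin n → F))) ∘ₗ
        (((theta e P).symm : Matrix (Fin n₁) (Fin n₂) F →ₗ[F] (Fin n → F))) := by
    apply LinearMap.ext
    intro X
    rfl
  rw [h, LinearMap.det_conj, ← LinearEquiv.coe_det, det_glE]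

/-- elements of the tensor product subgroup act as Kronecker maps -/
theorem isKron_of_mem (e : Fin n ≃ Fin n₁ × Fin n₂) (P : GL (Fin n) F) (g : GL (Fin n) F)
    (hg : g ∈ tensorProductSubgroup n₁ n₂ e P) : IsKron (Phi e P g) := by
  obtain ⟨_, ⟨k, ⟨a, b, hk⟩, rfl⟩, rfl⟩ := hg
  have hk' : k = kronGL a b := Units.ext hk
  subst hk'
  exact ⟨a, b, fun X => Phi_tpElem e P a b X⟩

/-- a matrix of nonzero determinant, as an invertible matrix -/
noncomputable def toGL {m : ℕ} (A : Matrix (Fin m) (Fin m) F) (h : A.det ≠ 0) : GL (Fin m) F :=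
  Matrix.GeneralLinearGroup.mkOfDetNeZero A h

theorem toGL_val {m : ℕ} (A : Matrix (Fin m) (Fin m) F) (h : A.det ≠ 0) :
    ((toGL A h : GL (Fin m) F) : Matrix (Fin m) (Fin m) F) = A := rfl

/-- an injective Kronecker map has invertible factors -/
theorem det_ne_zero_of_kron (h1 : 0 < n₁) (h2 : 0 < n₂)
    (g : Matrix (Fin n₁) (Fin n₂) F ≃ₗ[F] Matrix (Fin n₁) (Fin n₂) F)
    (A : Matrix (Fin n₁) (Fin n₁) F) (B : Matrix (Fin n₂) (Fin n₂) F)
    (hg : ∀ X, g X = A * X * Bᵀ) : A.det ≠ 0 ∧ B.det ≠ 0 := by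
  constructor
  · intro hA
    obtain ⟨x, hx, hAx⟩ := Matrix.exists_mulVec_eq_zero_iff.mpr hA
    have hX : g (Matrix.of fun i _ => x i) = 0 := by
      rw [hg]
      have : A * (Matrix.of fun (i : Fin n₁) (_ : Fin n₂) => x i) = 0 := by
        ext i k
        have := congrFun hAx i
        simpa [Matrix.mul_apply, Matrix.mulVec, dotProduct] using this
      rw [this, Matrix.zero_mul]
    have hX0 : (Matrix.of fun (i : Fin n₁) (_ : Fin n₂) => x i) = 0 := by
      have := g.injective (hX.trans (map_zero g).symm)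
      exact this
    apply hx
    funext i
    have := congrFun (congrFun hX0 i) ⟨0, h2⟩
    simpa using this
  · intro hB
    obtain ⟨y, hy, hBy⟩ := Matrix.exists_mulVec_eq_zero_iff.mpr hB
    have hX : g (Matrix.of fun _ k => y k) = 0 := by
      rw [hg, Matrix.mul_assoc]
      have : (Matrix.of fun (_ : Fin n₁) (k : Fin n₂) => y k) * Bᵀ = 0 := by
        ext i k
        have := congrFun hBy k
        simp only [Matrix.mul_apply, Matrix.of_apply, Matrix.transpose_apply, Matrix.zero_apply]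
        simp only [Matrix.mulVec, dotProduct, Pi.zero_apply] at this
        rw [← this]
        apply Finset.sum_congr rfl
        intro l _
        ring
      rw [this, Matrix.mul_zero]
    have hX0 : (Matrix.of fun (_ : Fin n₁) (k : Fin n₂) => y k) = 0 := by
      have := g.injective (hX.trans (map_zero g).symm)
      exact this
    apply hy
    funext k
    have := congrFun (congrFun hX0 ⟨0, h1⟩) k
    simpa using this

/-- elements acting as Kronecker maps lie in the tensor product subgroup -/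
theorem mem_of_isKron (h1 : 0 < n₁) (h2 : 0 < n₂) (e : Fin n ≃ Fin n₁ × Fin n₂)
    (P : GL (Fin n) F) (g : GL (Fin n) F) (hg : IsKron (Phi e P g)) :
    g ∈ tensorProductSubgroup n₁ n₂ e P := by
  obtain ⟨A, B, hAB⟩ := hg
  obtain ⟨hA, hB⟩ := det_ne_zero_of_kron h1 h2 _ A B hAB
  have h : tpElem e P (toGL A hA) (toGL B hB) = g := by
    apply (Phi e P).injective
    apply LinearEquiv.ext
    intro X
    rw [Phi_tpElem, hAB, toGL_val, toGL_val]
  rw [← h]
  exact tpElem_mem e P _ _

/-- on a trivial or one-dimensional matrix space every automorphism is Kronecker -/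
theorem isKron_of_small (h : n₁ = 0 ∨ n₂ = 0 ∨ (n₁ = 1 ∧ n₂ = 1))
    (g : Matrix (Fin n₁) (Fin n₂) F ≃ₗ[F] Matrix (Fin n₁) (Fin n₂) F) : IsKron g := by
  rcases h with h | h | ⟨h1, h2⟩
  · subst h
    refine ⟨0, 0, fun X => ?_⟩
    ext i k
    exact i.elim0
  · subst h
    refine ⟨0, 0, fun X => ?_⟩
    ext i k
    exact k.elim0
  · subst h1 h2
    refine ⟨Matrix.of fun _ _ => g (Matrix.of fun _ _ => 1) 0 0, 1, fun X => ?_⟩
    have hX : X = X 0 0 • (Matrix.of fun (_ : Fin 1) (_ : Fin 1) => (1 : F)) := by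
      ext i k
      have hi : i = 0 := Subsingleton.elim _ _
      have hk : k = 0 := Subsingleton.elim _ _
      subst hi hk
      simp
    rw [Matrix.transpose_one, Matrix.mul_one]
    conv_lhs => rw [hX]
    rw [map_smul]
    ext i k
    have hi : i = 0 := Subsingleton.elim _ _
    have hk : k = 0 := Subsingleton.elim _ _
    subst hi hk
    simp [Matrix.mul_apply, mul_comm]

theorem bridge {F : Type*} [Field F] [Fintype F] (n n₁ n₂ : ℕ)
    (e : Fin n ≃ Fin n₁ × Fin n₂) (P : Matrix.GeneralLinearGroup (Fin n) F)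
    (hmain : ∀ M : Subgroup (Matrix (Fin n₁) (Fin n₂) F ≃ₗ[F] Matrix (Fin n₁) (Fin n₂) F),
      (∀ g ∈ M, LinearMap.det g.toLinearMap = 1) → KronHyp M → (∃ g₀ ∈ M, ¬ IsKron g₀) → AllTv M)
    (hproper : ∃ g : Matrix (Fin n₁) (Fin n₂) F ≃ₗ[F] Matrix (Fin n₁) (Fin n₂) F,
      LinearMap.det g.toLinearMap = 1 ∧ ¬ IsKron g) :
    Cfsg.Geo.IsMaximalIn (Cfsg.Geo.specialLinear (Fin n) F)
      (Cfsg.Geo.tensorProductSubgroup n₁ n₂ e P ⊓ Cfsg.Geo.specialLinear (Fin n) F) := by
  obtain ⟨g₁, hg₁det, hg₁⟩ := hproper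
  -- the dimensions are not degenerate
  have h1 : 0 < n₁ := by
    rcases Nat.eq_zero_or_pos n₁ with h | h
    · exact absurd (isKron_of_small (Or.inl h) g₁) hg₁
    · exact h
  have h2 : 0 < n₂ := by
    rcases Nat.eq_zero_or_pos n₂ with h | h
    · exact absurd (isKron_of_small (Or.inr (Or.inl h)) g₁) hg₁
    · exact h
  have hcard : n = n₁ * n₂ := by
    have := Fintype.card_congr e
    rwa [Fintype.card_fin, Fintype.card_prod, Fintype.card_fin, Fintype.card_fin] at this
  have hn : 2 ≤ n := by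
    by_contra hlt
    have hn1 : n₁ * n₂ ≤ 1 := by omega
    have h11 : n₁ = 1 ∧ n₂ = 1 := by
      have ha : n₁ ≤ 1 := by nlinarith
      have hb : n₂ ≤ 1 := by nlinarith
      omega
    exact absurd (isKron_of_small (Or.inr (Or.inr h11)) g₁) hg₁
  refine ⟨?_, ?_⟩
  · -- proper
    refine lt_of_le_of_ne inf_le_right ?_
    intro heq
    have hmem : (Phi e P).symm g₁ ∈ specialLinear (Fin n) F := by
      rw [mem_specialLinear_iff, ← det_Phi e P, MulEquiv.apply_symm_apply]
      exact hg₁det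
    rw [← heq] at hmem
    apply hg₁
    have := isKron_of_mem e P _ hmem.1
    rwa [MulEquiv.apply_symm_apply] at this
  · -- maximal
    intro M hHM hMS
    by_cases hMH : M ≤ tensorProductSubgroup n₁ n₂ e P ⊓ specialLinear (Fin n) F
    · exact Or.inl (le_antisymm hMH hHM)
    · right
      apply le_antisymm hMS
      obtain ⟨m, hmM, hmH⟩ := SetLike.not_le_iff_exists.mp hMH
      have hmTP : m ∉ tensorProductSubgroup n₁ n₂ e P := fun h => hmH ⟨h, hMS hmM⟩
      -- the image of `M` in the automorphism group of the matrix space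
      have hdet : ∀ g ∈ M.map (Phi e P).toMonoidHom, LinearMap.det g.toLinearMap = 1 := by
        rintro _ ⟨g, hg, rfl⟩
        show LinearMap.det (Phi e P g).toLinearMap = 1
        rw [det_Phi]
        exact (mem_specialLinear_iff g).mp (hMS hg)
      have hK : KronHyp (M.map (Phi e P).toMonoidHom) := by
        intro A B hAB
        have hA : A.det ≠ 0 := by
          intro h0
          rw [h0, zero_pow (by rw [Fintype.card_fin]; omega), zero_mul] at hAB
          exact zero_ne_one hAB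
        have hB : B.det ≠ 0 := by
          intro h0
          rw [h0, zero_pow (by rw [Fintype.card_fin]; omega), mul_zero] at hAB
          exact zero_ne_one hAB
        have hmem : tpElem e P (toGL A hA) (toGL B hB) ∈ M := by
          apply hHM
          refine ⟨tpElem_mem e P _ _, ?_⟩
          show tpElem e P (toGL A hA) (toGL B hB) ∈ specialLinear (Fin n) F
          rw [mem_specialLinear_iff, tpElem_val, det_kmat, toGL_val, toGL_val]
          exact hAB
        refine ⟨Phi e P (tpElem e P (toGL A hA) (toGL B hB)), ⟨_, hmem, rfl⟩, fun X => ?_⟩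
        rw [Phi_tpElem, toGL_val, toGL_val]
      have hex : ∃ g₀ ∈ M.map (Phi e P).toMonoidHom, ¬ IsKron g₀ := by
        refine ⟨Phi e P m, ⟨m, hmM, rfl⟩, fun hk => hmTP (mem_of_isKron h1 h2 e P m hk)⟩
      have hall := hmain _ hdet hK hex
      -- transport the transvections back
      apply sl_le_of_allTv hn M
      intro f v hfv
      obtain ⟨_, ⟨g, hg, rfl⟩, hgx⟩ := hall (f ∘ₗ ((theta e P).symm : _ →ₗ[F] (Fin n → F)))
        (theta e P v) (by
          show f ((theta e P).symm (theta e P v)) = 0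
          rw [LinearEquiv.symm_apply_apply]; exact hfv)
      refine ⟨glE n F g, ⟨g, hg, rfl⟩, fun x => ?_⟩
      have h3 : Phi e P g (theta e P x) = theta e P x +
          (f ∘ₗ ((theta e P).symm : _ →ₗ[F] (Fin n → F))) (theta e P x) • theta e P v :=
        hgx (theta e P x)
      have h4 : Phi e P g (theta e P x) = theta e P (glE n F g x) := by
        rw [Phi_apply, LinearEquiv.symm_apply_apply, glE_apply]
      have h5 : (f ∘ₗ ((theta e P).symm : _ →ₗ[F] (Fin n → F))) (theta e P x) = f x := by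
        show f ((theta e P).symm (theta e P x)) = f x
        rw [LinearEquiv.symm_apply_apply]
      apply (theta e P).injective
      rw [map_add, map_smul, ← h4]
      rw [h5] at h3
      exact h3

end Cfsg.Agent.Lib.Helper70_Tens_TP10b
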