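import Mathlib
import Cfsg.Prelude.Def_GeometricClasses
import Cfsg.Agent.Lib.Helper67_Tens2Defs
import Cfsg.Agent.Lib.Helper70_Tens_TP10b
import Cfsg.Agent.Lib.Helper82_T2_KR
import Cfsg.Agent.Lib.Helper94_Bridge

set_option autoImplicit false
set_option linter.unusedSectionVars false
set_option linter.unusedVariables false

/-!
# TENS2 package BR (architect helper67): the bridge from the abstract theorem on `B × B` to
`IsMaximalIn (spGL m F) (tensorProductSubgroup 2 n₂ e P ⊓ spGL m F)`.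
-/

open Module
open Cfsg.Agent.Lib.Helper94_Symp Cfsg.Agent.Lib.Helper67_Tens2Defs

namespace Cfsg.Agent.Lib.Helper9_T2_BR

open Matrix Cfsg.Geo
open scoped Kronecker
open Cfsg.Agent.Lib.Helper70_Tens_TP10b Cfsg.Agent.Lib.Helper94_Bridge

variable {F : Type*} [Field F] {ι : Type} [Fintype ι] [DecidableEq ι] {n₂ : ℕ}

/-- a pair of vectors as a function on `Fin 2 × Fin n₂` -/
def pairFn (x : (Fin n₂ → F) × (Fin n₂ → F)) : Fin 2 × Fin n₂ → F :=
  fun a => (![x.1, x.2] a.1) a.2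

@[simp] theorem pairFn_zero (x : (Fin n₂ → F) × (Fin n₂ → F)) (k : Fin n₂) :
    pairFn x (0, k) = x.1 k := rfl

@[simp] theorem pairFn_one (x : (Fin n₂ → F) × (Fin n₂ → F)) (k : Fin n₂) :
    pairFn x (1, k) = x.2 k := rfl

theorem pairFn_mk (y : Fin 2 × Fin n₂ → F) :
    pairFn (fun k => y (0, k), fun k => y (1, k)) = y := by
  funext a
  obtain ⟨i, k⟩ := a
  fin_cases i <;> rfl

/-- the identification of column vectors with pairs of vectors -/
noncomputable def Theta (e : ι ≃ Fin 2 × Fin n₂) (P : GL ι F) :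
    (ι → F) ≃ₗ[F] ((Fin n₂ → F) × (Fin n₂ → F)) where
  toFun v := (fun k => (((P⁻¹ : GL ι F) : Matrix ι ι F) *ᵥ v) (e.symm (0, k)),
    fun k => (((P⁻¹ : GL ι F) : Matrix ι ι F) *ᵥ v) (e.symm (1, k)))
  map_add' v w := by
    ext k <;> simp [Matrix.mulVec_add]
  map_smul' c v := by
    ext k <;> simp [Matrix.mulVec_smul]
  invFun x := (P : Matrix ι ι F) *ᵥ (pairFn x ∘ e)
  left_inv v := by
    have h : pairFn (fun k => (((P⁻¹ : GL ι F) : Matrix ι ι F) *ᵥ v) (e.symm (0, k)),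
        fun k => (((P⁻¹ : GL ι F) : Matrix ι ι F) *ᵥ v) (e.symm (1, k))) ∘ e
        = ((P⁻¹ : GL ι F) : Matrix ι ι F) *ᵥ v := by
      rw [pairFn_mk (fun a => (((P⁻¹ : GL ι F) : Matrix ι ι F) *ᵥ v) (e.symm a))]
      funext j
      simp
    show (P : Matrix ι ι F) *ᵥ _ = v
    rw [h, Matrix.mulVec_mulVec, ← Units.val_mul, mul_inv_cancel, Units.val_one, Matrix.one_mulVec]
  right_inv x := by
    have h : ((P⁻¹ : GL ι F) : Matrix ι ι F) *ᵥ ((P : Matrix ι ι F) *ᵥ (pairFn x ∘ e))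
        = pairFn x ∘ e := by
      rw [Matrix.mulVec_mulVec, ← Units.val_mul, inv_mul_cancel, Units.val_one, Matrix.one_mulVec]
    ext k
    · show (((P⁻¹ : GL ι F) : Matrix ι ι F) *ᵥ ((P : Matrix ι ι F) *ᵥ (pairFn x ∘ e)))
        (e.symm (0, k)) = x.1 k
      rw [h]
      simp
    · show (((P⁻¹ : GL ι F) : Matrix ι ι F) *ᵥ ((P : Matrix ι ι F) *ᵥ (pairFn x ∘ e)))
        (e.symm (1, k)) = x.2 k
      rw [h]
      simp

theorem Theta_fst (e : ι ≃ Fin 2 × Fin n₂) (P : GL ι F) (v : ι → F) (k : Fin n₂) :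
    (Theta e P v).1 k = (((P⁻¹ : GL ι F) : Matrix ι ι F) *ᵥ v) (e.symm (0, k)) := rfl

theorem Theta_snd (e : ι ≃ Fin 2 × Fin n₂) (P : GL ι F) (v : ι → F) (k : Fin n₂) :
    (Theta e P v).2 k = (((P⁻¹ : GL ι F) : Matrix ι ι F) *ᵥ v) (e.symm (1, k)) := rfl

theorem Theta_symm_apply (e : ι ≃ Fin 2 × Fin n₂) (P : GL ι F)
    (x : (Fin n₂ → F) × (Fin n₂ → F)) :
    (Theta e P).symm x = (P : Matrix ι ι F) *ᵥ (pairFn x ∘ e) := rfl

/-- `Θ (P (y ∘ e)) = (y (0, ·), y (1, ·))` -/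
theorem Theta_mulVec (e : ι ≃ Fin 2 × Fin n₂) (P : GL ι F) (y : Fin 2 × Fin n₂ → F) :
    Theta e P ((P : Matrix ι ι F) *ᵥ (y ∘ e)) = (fun k => y (0, k), fun k => y (1, k)) := by
  have h : (P : Matrix ι ι F) *ᵥ (y ∘ e)
      = (Theta e P).symm (fun k => y (0, k), fun k => y (1, k)) := by
    rw [Theta_symm_apply, pairFn_mk]
  rw [h, LinearEquiv.apply_symm_apply]

/-! ### the isomorphism `Φ` -/

/-- the isomorphism between `GL ι F` and the automorphism group of `B × B` -/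
noncomputable def Phi (e : ι ≃ Fin 2 × Fin n₂) (P : GL ι F) :
    GL ι F ≃* (((Fin n₂ → F) × (Fin n₂ → F)) ≃ₗ[F] ((Fin n₂ → F) × (Fin n₂ → F))) :=
  (glEquiv ι F).trans (conjE (Theta e P))

theorem Phi_apply (e : ι ≃ Fin 2 × Fin n₂) (P : GL ι F) (g : GL ι F)
    (x : (Fin n₂ → F) × (Fin n₂ → F)) :
    Phi e P g x = Theta e P ((g : Matrix ι ι F) *ᵥ (Theta e P).symm x) := by
  show conjE (Theta e P) (glEquiv ι F g) x = _
  rw [conjE_apply, glEquiv_apply]

theorem Phi_Theta (e : ι ≃ Fin 2 × Fin n₂) (P : GL ι F) (g : GL ι F) (v : ι → F) :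
    Phi e P g (Theta e P v) = Theta e P ((g : Matrix ι ι F) *ᵥ v) := by
  rw [Phi_apply, LinearEquiv.symm_apply_apply]

/-- transport of isometry groups along a similitude -/
theorem conjE_mem_isoGroup {W V : Type*} [AddCommGroup W] [Module F W] [AddCommGroup V]
    [Module F V] (θ : W ≃ₗ[F] V) (b : LinearMap.BilinForm F W) (b' : LinearMap.BilinForm F V)
    (κ : F) (hκ : κ ≠ 0) (h : ∀ u v, b u v = κ * b' (θ u) (θ v)) (g : W ≃ₗ[F] W) :
    conjE θ g ∈ isoGroup b' ↔ g ∈ isoGroup b := by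
  constructor
  · intro hg u v
    have h1 := hg (θ u) (θ v)
    rw [conjE_apply, conjE_apply, LinearEquiv.symm_apply_apply, LinearEquiv.symm_apply_apply] at h1
    rw [h, h, h1]
  · intro hg x y
    rw [conjE_apply, conjE_apply]
    have h1 := hg (θ.symm x) (θ.symm y)
    rw [h, h, LinearEquiv.apply_symm_apply, LinearEquiv.apply_symm_apply] at h1
    exact mul_left_cancel₀ hκ h1

/-! ### the Kronecker action -/

/-- the reindexed Kronecker product in pair coordinates -/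
theorem reindex_kron_mulVec' (e : ι ≃ Fin 2 × Fin n₂) (a : Matrix (Fin 2) (Fin 2) F)
    (b : Matrix (Fin n₂) (Fin n₂) F) (w : ι → F) (i : Fin 2) (k : Fin n₂) :
    ((Matrix.reindex e.symm e.symm (a ⊗ₖ b)) *ᵥ w) (e.symm (i, k)) =
      a i 0 * (b *ᵥ (fun l => w (e.symm (0, l)))) k + a i 1 * (b *ᵥ (fun l => w (e.symm (1, l)))) k := by
  rw [Matrix.mulVec, dotProduct]
  rw [← Equiv.sum_comp e.symm, Fintype.sum_prod_type]
  simp only [Matrix.reindex_apply, Equiv.symm_symm, Matrix.submatrix_apply, Equiv.apply_symm_apply,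
    Matrix.kroneckerMap_apply, Fin.sum_univ_two, Matrix.mulVec, dotProduct, Finset.mul_sum]
  congr 1 <;>
  · apply Finset.sum_congr rfl
    intro l _
    ring

/-- the matrix of the conjugated reindexed Kronecker product -/
noncomputable def kmat' (e : ι ≃ Fin 2 × Fin n₂) (P : GL ι F)
    (a : Matrix (Fin 2) (Fin 2) F) (b : Matrix (Fin n₂) (Fin n₂) F) : Matrix ι ι F :=
  (P : Matrix ι ι F) * (Matrix.reindex e.symm e.symm (a ⊗ₖ b)) *
    ((P⁻¹ : GL ι F) : Matrix ι ι F)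

theorem Theta_kmat' (e : ι ≃ Fin 2 × Fin n₂) (P : GL ι F)
    (a : Matrix (Fin 2) (Fin 2) F) (b : Matrix (Fin n₂) (Fin n₂) F) (v : ι → F) :
    Theta e P (kmat' e P a b *ᵥ v) =
      (a 0 0 • (b *ᵥ (Theta e P v).1) + a 0 1 • (b *ᵥ (Theta e P v).2),
       a 1 0 • (b *ᵥ (Theta e P v).1) + a 1 1 • (b *ᵥ (Theta e P v).2)) := by
  have h : ((P⁻¹ : GL ι F) : Matrix ι ι F) *ᵥ (kmat' e P a b *ᵥ v) =
      (Matrix.reindex e.symm e.symm (a ⊗ₖ b)) *ᵥ (((P⁻¹ : GL ι F) : Matrix ι ι F) *ᵥ v) := by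
    rw [kmat', Matrix.mulVec_mulVec, ← Matrix.mul_assoc, ← Matrix.mul_assoc,
      ← Units.val_mul, inv_mul_cancel, Units.val_one, Matrix.one_mul, ← Matrix.mulVec_mulVec]
  ext k
  · rw [Theta_fst, h, reindex_kron_mulVec']
    rfl
  · rw [Theta_snd, h, reindex_kron_mulVec']
    rfl

/-- the element `P (a ⊗ b) P⁻¹` of the tensor product subgroup -/
noncomputable def tpElem' (e : ι ≃ Fin 2 × Fin n₂) (P : GL ι F)
    (a : GL (Fin 2) F) (b : GL (Fin n₂) F) : GL ι F :=
  (MulAut.conj P) ((glReindex e.symm) (kronGL a b))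

theorem tpElem'_mem (e : ι ≃ Fin 2 × Fin n₂) (P : GL ι F)
    (a : GL (Fin 2) F) (b : GL (Fin n₂) F) :
    tpElem' e P a b ∈ tensorProductSubgroup 2 n₂ e P :=
  ⟨_, ⟨_, kronGL_mem a b, rfl⟩, rfl⟩

theorem tpElem'_val (e : ι ≃ Fin 2 × Fin n₂) (P : GL ι F)
    (a : GL (Fin 2) F) (b : GL (Fin n₂) F) :
    ((tpElem' e P a b : GL ι F) : Matrix ι ι F) =
      kmat' e P (a : Matrix (Fin 2) (Fin 2) F) (b : Matrix (Fin n₂) (Fin n₂) F) := by
  unfold tpElem' kmat'
  rw [MulAut.conj_apply, Units.val_mul, Units.val_mul]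
  rfl

theorem Phi_tpElem' (e : ι ≃ Fin 2 × Fin n₂) (P : GL ι F)
    (a : GL (Fin 2) F) (b : GL (Fin n₂) F) (u u' : Fin n₂ → F) :
    Phi e P (tpElem' e P a b) (u, u') =
      ((a : Matrix (Fin 2) (Fin 2) F) 0 0 • ((b : Matrix (Fin n₂) (Fin n₂) F) *ᵥ u)
        + (a : Matrix (Fin 2) (Fin 2) F) 0 1 • ((b : Matrix (Fin n₂) (Fin n₂) F) *ᵥ u'),
       (a : Matrix (Fin 2) (Fin 2) F) 1 0 • ((b : Matrix (Fin n₂) (Fin n₂) F) *ᵥ u)
        + (a : Matrix (Fin 2) (Fin 2) F) 1 1 • ((b : Matrix (Fin n₂) (Fin n₂) F) *ᵥ u')) := by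
  rw [Phi_apply, tpElem'_val, Theta_kmat', LinearEquiv.apply_symm_apply]

/-- elements of the tensor product subgroup act as Kronecker maps -/
theorem isKron2_of_mem (e : ι ≃ Fin 2 × Fin n₂) (P : GL ι F) (g : GL ι F)
    (hg : g ∈ tensorProductSubgroup 2 n₂ e P) : IsKron2 (Phi e P g) := by
  obtain ⟨_, ⟨k, ⟨a, b, hk⟩, rfl⟩, rfl⟩ := hg
  have hk' : k = kronGL a b := Units.ext hk
  subst hk'
  refine ⟨(a : Matrix (Fin 2) (Fin 2) F), Matrix.mulVecLin (b : Matrix (Fin n₂) (Fin n₂) F), ?_⟩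
  intro u u'
  exact Phi_tpElem' e P a b u u'

/-- elements acting as Kronecker maps lie in the tensor product subgroup -/
theorem mem_of_isKron2 (hn2 : 1 ≤ n₂) (e : ι ≃ Fin 2 × Fin n₂) (P : GL ι F) (g : GL ι F)
    (hg : IsKron2 (Phi e P g)) : g ∈ tensorProductSubgroup 2 n₂ e P := by
  obtain ⟨p, Q, hpQ⟩ := hg
  -- `Q` is injective
  have hQinj : ∀ u : Fin n₂ → F, Q u = 0 → u = 0 := by
    intro u hu
    have h1 : Phi e P g (u, 0) = 0 := by
      rw [hpQ, hu, map_zero]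
      simp
    have h2 : ((u, 0) : (Fin n₂ → F) × (Fin n₂ → F)) = 0 :=
      (Phi e P g).injective (h1.trans (map_zero _).symm)
    exact congrArg Prod.fst h2
  -- the matrix of `Q`
  set b : Matrix (Fin n₂) (Fin n₂) F := LinearMap.toMatrix' Q with hb
  have hbQ : ∀ u : Fin n₂ → F, b *ᵥ u = Q u := fun u => by
    rw [hb, LinearMap.toMatrix'_mulVec]
  have hbdet : b.det ≠ 0 := by
    intro h0
    obtain ⟨v, hv, hbv⟩ := Matrix.exists_mulVec_eq_zero_iff.mpr h0
    rw [hbQ] at hbv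
    exact hv (hQinj v hbv)
  have hpdet : p.det ≠ 0 := by
    intro h0
    obtain ⟨s, hs, hps⟩ := Matrix.exists_mulVec_eq_zero_iff.mpr h0
    have hs0 : p 0 0 * s 0 + p 0 1 * s 1 = 0 := by
      have := congrFun hps 0
      simpa [Matrix.mulVec, dotProduct, Fin.sum_univ_two] using this
    have hs1 : p 1 0 * s 0 + p 1 1 * s 1 = 0 := by
      have := congrFun hps 1
      simpa [Matrix.mulVec, dotProduct, Fin.sum_univ_two] using this
    set u₀ : Fin n₂ → F := Pi.single ⟨0, hn2⟩ 1 with hu₀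
    have hu₀0 : u₀ ≠ 0 := by
      intro h
      have := congrFun h ⟨0, hn2⟩
      simp [hu₀] at this
    have h1 : Phi e P g (s 0 • u₀, s 1 • u₀) = 0 := by
      rw [hpQ, map_smul, map_smul, smul_smul, smul_smul, smul_smul, smul_smul, ← add_smul,
        ← add_smul, hs0, hs1, zero_smul]
      rfl
    have h2 : ((s 0 • u₀, s 1 • u₀) : (Fin n₂ → F) × (Fin n₂ → F)) = 0 :=
      (Phi e P g).injective (h1.trans (map_zero _).symm)
    have h3 : s 0 = 0 := by
      have := congrArg Prod.fst h2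
      rcases smul_eq_zero.mp this with h | h
      · exact h
      · exact absurd h hu₀0
    have h4 : s 1 = 0 := by
      have := congrArg Prod.snd h2
      rcases smul_eq_zero.mp this with h | h
      · exact h
      · exact absurd h hu₀0
    apply hs
    funext i
    fin_cases i
    · exact h3
    · exact h4
  have h : tpElem' e P (toGL p hpdet) (toGL b hbdet) = g := by
    apply (Phi e P).injective
    apply LinearEquiv.ext
    rintro ⟨u, u'⟩
    rw [Phi_tpElem', hpQ, toGL_val, toGL_val, hbQ, hbQ]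
  rw [← h]
  exact tpElem'_mem e P _ _

/-! ### the form -/

theorem gram_zero_zero (f₁ : (Fin 2 → F) → (Fin 2 → F) → F) (hf1 : IsSymplecticForm f₁) (i : Fin 2) :
    gramMatrix f₁ i i = 0 := hf1.alternating _

theorem gram_one_zero (f₁ : (Fin 2 → F) → (Fin 2 → F) → F) (hf1 : IsSymplecticForm f₁) :
    gramMatrix f₁ 1 0 = - gramMatrix f₁ 0 1 := hf1.skew _ _

/-- the Kronecker form in pair coordinates -/
theorem formOfGram_eq (f₁ : (Fin 2 → F) → (Fin 2 → F) → F) (hf1 : IsSymplecticForm f₁)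
    (G2 : Matrix (Fin n₂) (Fin n₂) F) (x y : Fin 2 × Fin n₂ → F) :
    formOfGram id (gramMatrix f₁ ⊗ₖ G2) x y =
      gramMatrix f₁ 0 1 * tf (Matrix.toBilin' G2) (fun k => x (0, k), fun k => x (1, k))
        (fun k => y (0, k), fun k => y (1, k)) := by
  unfold formOfGram
  simp only [Fintype.sum_prod_type, Fin.sum_univ_two, Matrix.kroneckerMap_apply, id,
    gram_zero_zero f₁ hf1, gram_one_zero f₁ hf1, tf_apply, Matrix.toBilin'_apply']
  simp only [dotProduct, Matrix.mulVec, zero_mul, mul_zero, Finset.sum_const_zero, zero_add,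
    add_zero, Finset.mul_sum, mul_sub]
  rw [sub_eq_add_neg, ← Finset.sum_neg_distrib]
  congr 1
  · apply Finset.sum_congr rfl
    intro k _
    apply Finset.sum_congr rfl
    intro l _
    ring
  · apply Finset.sum_congr rfl
    intro k _
    rw [← Finset.sum_neg_distrib]
    apply Finset.sum_congr rfl
    intro l _
    ring

/-! ### small Kronecker facts -/

theorem isKron2_ux {B : Type*} [AddCommGroup B] [Module F B] (c : F) :
    IsKron2 (ux (c • (LinearMap.id : B →ₗ[F] B))) := by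
  refine ⟨!![1, c; 0, 1], LinearMap.id, ?_⟩
  intro u u'
  simp [ux_apply]

theorem isKron2_hE {B : Type*} [AddCommGroup B] [Module F B] (a : Fˣ) :
    IsKron2 (hE a : (B × B) ≃ₗ[F] (B × B)) := by
  refine ⟨!![(a : F), 0; 0, ((a⁻¹ : Fˣ) : F)], LinearMap.id, ?_⟩
  intro u u'
  simp [hE_apply]

theorem isKron2_oE {B : Type*} [AddCommGroup B] [Module F B] (Q : B ≃ₗ[F] B) :
    IsKron2 (oE Q) := by
  refine ⟨1, (Q : B →ₗ[F] B), ?_⟩
  intro u u'
  simp [oE_apply]

/-! ### the bridge -/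

/-- BR : from the abstract theorem to `IsMaximalIn (spGL m F) (tensorProductSubgroup 2 n₂ e P ⊓ spGL m F)` -/
theorem bridge {F : Type*} [Field F] [Fintype F] (m n₂ : ℕ) (h2 : (2 : F) ≠ 0) (hn2 : 2 ≤ n₂)
    (e : (Fin m ⊕ Fin m) ≃ Fin 2 × Fin n₂) (P : Matrix.GeneralLinearGroup (Fin m ⊕ Fin m) F)
    (f₁ : (Fin 2 → F) → (Fin 2 → F) → F) (f₂ : (Fin n₂ → F) → (Fin n₂ → F) → F)
    (hf1 : Cfsg.Geo.IsSymplecticForm f₁) (hf2 : Cfsg.Geo.IsSymmetricForm f₂)
    (hT : Cfsg.Geo.IsTensorFormStructure id (Cfsg.sympForm m F) f₁ f₂ e P)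
    (hmain : ∀ (β : LinearMap.BilinForm F (Fin n₂ → F)), (∀ u v, β u v = β v u) →
      β.Nondegenerate →
      ∀ M : Subgroup (((Fin n₂ → F) × (Fin n₂ → F)) ≃ₗ[F] ((Fin n₂ → F) × (Fin n₂ → F))),
        HypM β M → (∀ g ∈ M, IsKron2 g) ∨ M = isoGroup (tf β)) :
    Cfsg.Geo.IsMaximalIn (Cfsg.spGL m F)
      (Cfsg.Geo.tensorProductSubgroup 2 n₂ e P ⊓ Cfsg.spGL m F) := by
  obtain ⟨c, hc0, hc⟩ := hT
  set G2 : Matrix (Fin n₂) (Fin n₂) F := gramMatrix f₂ with hG2
  set β : LinearMap.BilinForm F (Fin n₂ → F) := Matrix.toBilin' G2 with hβ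
  set κ : F := c * gramMatrix f₁ 0 1 with hκdef
  have hn1 : 1 ≤ n₂ := by omega
  -- the form identity
  have hform : ∀ v w : Fin m ⊕ Fin m → F,
      Bsymp m F v w = κ * tf β (Theta e P v) (Theta e P w) := by
    intro v w
    rw [Bsymp_apply]
    set x : Fin 2 × Fin n₂ → F := fun a =>
      (((P⁻¹ : GL (Fin m ⊕ Fin m) F) : Matrix _ _ F) *ᵥ v) (e.symm a) with hx
    set y : Fin 2 × Fin n₂ → F := fun a =>
      (((P⁻¹ : GL (Fin m ⊕ Fin m) F) : Matrix _ _ F) *ᵥ w) (e.symm a) with hy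
    have hxv : (P : Matrix _ _ F) *ᵥ (x ∘ e) = v := by
      have : x ∘ e = ((P⁻¹ : GL (Fin m ⊕ Fin m) F) : Matrix _ _ F) *ᵥ v := by
        funext j
        simp [hx]
      rw [this, Matrix.mulVec_mulVec, ← Units.val_mul, mul_inv_cancel, Units.val_one,
        Matrix.one_mulVec]
    have hyw : (P : Matrix _ _ F) *ᵥ (y ∘ e) = w := by
      have : y ∘ e = ((P⁻¹ : GL (Fin m ⊕ Fin m) F) : Matrix _ _ F) *ᵥ w := by
        funext j
        simp [hy]
      rw [this, Matrix.mulVec_mulVec, ← Units.val_mul, mul_inv_cancel, Units.val_one,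
        Matrix.one_mulVec]
    have h := hc x y
    rw [hxv, hyw, formOfGram_eq f₁ hf1] at h
    rw [h, hκdef, mul_assoc]
    rfl
  -- a nonzero vector
  have hι : Nonempty (Fin m ⊕ Fin m) := ⟨e.symm (0, ⟨0, hn1⟩)⟩
  -- κ ≠ 0
  have hκ : κ ≠ 0 := by
    intro h0
    set v₀ : Fin m ⊕ Fin m → F := Pi.single (e.symm (0, ⟨0, hn1⟩)) 1 with hv₀
    have hv₀0 : v₀ ≠ 0 := by
      intro h
      have := congrFun h (e.symm (0, ⟨0, hn1⟩))
      simp [hv₀] at this
    apply hv₀0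
    apply (Bsymp_nondegenerate (F := F) m).1 v₀
    intro w
    rw [hform, h0, zero_mul]
  -- β is symmetric
  have hG2s : ∀ k l, G2 k l = G2 l k := fun k l => hf2.symm _ _
  have hβs : ∀ u v, β u v = β v u := by
    intro u v
    rw [hβ, Matrix.toBilin'_apply, Matrix.toBilin'_apply, Finset.sum_comm]
    apply Finset.sum_congr rfl
    intro k _
    apply Finset.sum_congr rfl
    intro l _
    rw [hG2s l k]
    ring
  -- β is nondegenerate
  have hβ1 : ∀ u, (∀ v, β u v = 0) → u = 0 := by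
    intro u hu
    have h0 : (Theta e P).symm (u, 0) = 0 := by
      apply (Bsymp_nondegenerate (F := F) m).1
      intro w
      rw [hform, LinearEquiv.apply_symm_apply, tf_apply]
      simp [hu]
    have h1 : ((u, 0) : (Fin n₂ → F) × (Fin n₂ → F)) = 0 := by
      have := congrArg (Theta e P) h0
      rwa [LinearEquiv.apply_symm_apply, map_zero] at this
    exact congrArg Prod.fst h1
  have hβn : β.Nondegenerate :=
    ⟨hβ1, fun v hv => hβ1 v (fun u => by rw [hβs]; exact hv u)⟩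
  -- the two subgroups
  have hK : Cfsg.spGL m F = (isoGroup (tf β)).comap (Phi e P).toMonoidHom := by
    ext g
    rw [spGL_eq, Subgroup.mem_comap, Subgroup.mem_comap]
    exact (conjE_mem_isoGroup (Theta e P) (Bsymp m F) (tf β) κ hκ hform
      (glEquiv (Fin m ⊕ Fin m) F g)).symm
  set H' : Subgroup (((Fin n₂ → F) × (Fin n₂ → F)) ≃ₗ[F] ((Fin n₂ → F) × (Fin n₂ → F))) :=
    (Cfsg.Geo.tensorProductSubgroup 2 n₂ e P ⊓ Cfsg.spGL m F).map (Phi e P).toMonoidHom with hH'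
  have hmemH : ∀ x, x ∈ H' ↔ x ∈ isoGroup (tf β) ∧ IsKron2 x := by
    intro x
    constructor
    · rintro ⟨g, ⟨hgT, hgS⟩, rfl⟩
      refine ⟨?_, isKron2_of_mem e P g hgT⟩
      rw [hK] at hgS
      exact hgS
    · rintro ⟨hx1, hx2⟩
      refine ⟨(Phi e P).symm x, ⟨?_, ?_⟩, (Phi e P).apply_symm_apply x⟩
      · apply mem_of_isKron2 hn1 e P
        rw [MulEquiv.apply_symm_apply]
        exact hx2
      · show (Phi e P).symm x ∈ Cfsg.spGL m F
        rw [hK, Subgroup.mem_comap]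
        show (Phi e P) ((Phi e P).symm x) ∈ isoGroup (tf β)
        rw [MulEquiv.apply_symm_apply]
        exact hx1
  have hmax : H' < isoGroup (tf β) ∧ ∀ M' : Subgroup _, H' ≤ M' → M' ≤ isoGroup (tf β) →
      M' = H' ∨ M' = isoGroup (tf β) := by
    constructor
    · refine lt_of_le_of_ne (fun x hx => ((hmemH x).mp hx).1) ?_
      intro heq
      set ε : Fin n₂ → F := Pi.single ⟨0, hn1⟩ 1 with hε
      have hε0 : ε ≠ 0 := by
        intro h
        have := congrFun h ⟨0, hn1⟩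
        simp [hε] at this
      have hmem : ux ((1 : F) • rk1 β ε) ∈ isoGroup (tf β) := by
        apply ux_mem_isoGroup β hβs
        intro u v
        rw [LinearMap.smul_apply, LinearMap.smul_apply, one_smul, one_smul]
        exact rk1_self_adjoint β hβs ε u v
      rw [← heq] at hmem
      have hfr : 2 ≤ finrank F (Fin n₂ → F) := by
        rw [Module.finrank_fin_fun]
        exact hn2
      exact Cfsg.Agent.Lib.Helper82_T2_KR.not_isKron2_stv β hβs hβn hfr ε hε0 1 one_ne_zero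
        ((hmemH _).mp hmem).2
    · intro M' hHM hMK
      have hyp : HypM β M' := by
        refine ⟨hMK, ?_, ?_, ?_, ?_, ?_⟩
        · intro c'
          apply hHM
          rw [hmemH]
          refine ⟨ux_mem_isoGroup β hβs _ ?_, isKron2_ux c'⟩
          intro u v
          simp
        · intro c'
          apply hHM
          rw [hmemH]
          refine ⟨lx_mem_isoGroup β hβs _ ?_, Cfsg.Agent.Lib.Helper82_T2_KR.isKron2_lx c'⟩
          intro u v
          simp
        · intro a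
          apply hHM
          rw [hmemH]
          exact ⟨hE_mem_isoGroup β a, isKron2_hE a⟩
        · apply hHM
          rw [hmemH]
          exact ⟨jE_mem_isoGroup β, Cfsg.Agent.Lib.Helper82_T2_KR.isKron2_jE⟩
        · intro Q hQ
          apply hHM
          rw [hmemH]
          exact ⟨oE_mem_isoGroup β Q hQ, isKron2_oE Q⟩
      rcases hmain β hβs hβn M' hyp with hall | heq
      · left
        apply le_antisymm _ hHM
        intro x hx
        rw [hmemH]
        exact ⟨hMK hx, hall x hx⟩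
      · exact Or.inr heq
  have hfin := isMaximalIn_comap (Phi e P) (isoGroup (tf β)) H' hmax
  rw [← hK, hH', Subgroup.comap_map_eq_self_of_injective (Phi e P).injective] at hfin
  exact hfin

end Cfsg.Agent.Lib.Helper9_T2_BR
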