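import Mathlib
import Cfsg.Agent.Lib.Helper67_T2ODefs
import Cfsg.Agent.Lib.Helper94_OrthNondeg
import Cfsg.Agent.Lib.Helper82_T2_KR
import Cfsg.Agent.Lib.Helper9_T2_BR
import Cfsg.Agent.Lib.Helper78_UT2_NEXA

set_option autoImplicit false
set_option linter.unusedSectionVars false
set_option linter.unusedVariables false
set_option linter.unusedSimpArgs false

/-!
# TENS2O package SUMAW (architect helper67; helper25): the identity is a sum of maps `aw ω e f`
over a symplectic basis
-/

open Module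
open Cfsg.Agent.Lib.Helper94_Symp Cfsg.Agent.Lib.Helper94_OrthSmall
  Cfsg.Agent.Lib.Helper94_OrthSiegel Cfsg.Agent.Lib.Helper94_OrthNondeg
  Cfsg.Agent.Lib.Helper67_Tens2Defs Cfsg.Agent.Lib.Helper67_T2ODefs

namespace Cfsg.Agent.Lib.Helper25_T2O_SUMAW

variable {F W : Type*} [Field F] [Finite F] [AddCommGroup W] [Module F W] [FiniteDimensional F W]
variable {ω : LinearMap.BilinForm F W}

/-- the induction: a subspace on which `ω` is nondegenerate -/
theorem sum_aw_aux (halt : ω.IsAlt) : ∀ (n : ℕ) (D : Submodule F W), finrank F D = n →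
    (∀ w ∈ D, w ≠ 0 → ∃ x ∈ D, ω x w ≠ 0) →
    ∃ (k : ℕ) (e f : Fin k → W), (∀ i, e i ∈ D ∧ f i ∈ D) ∧
      ∀ v ∈ D, v = ∑ i, aw ω (e i) (f i) v := by
  intro n
  induction n using Nat.strong_induction_on with
  | _ n ih =>
    intro D hD hnd
    by_cases hbot : D = ⊥
    · refine ⟨0, Fin.elim0, Fin.elim0, fun i => Fin.elim0 i, ?_⟩
      intro v hv
      rw [hbot, Submodule.mem_bot] at hv
      rw [hv]
      simp
    · obtain ⟨e₀, he₀D, he₀⟩ := Submodule.exists_mem_ne_zero_of_ne_bot hbot
      obtain ⟨x, hxD, hx⟩ := hnd e₀ he₀D he₀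
      have hex : ω e₀ x ≠ 0 := alt_ne_zero_comm ω halt hx
      set f₀ : W := (ω e₀ x)⁻¹ • x with hf₀
      have hf₀D : f₀ ∈ D := D.smul_mem _ hxD
      have hef : ω e₀ f₀ = 1 := by
        rw [hf₀, map_smul, smul_eq_mul, inv_mul_cancel₀ hex]
      have hfe : ω f₀ e₀ = -1 := by rw [alt_swap ω halt f₀ e₀, hef]
      -- the orthogonal complement of the hyperbolic pair inside `D`
      set D' : Submodule F W := D ⊓ LinearMap.ker (ω.flip e₀) ⊓ LinearMap.ker (ω.flip f₀) with hD'
      have hmemD' : ∀ v, v ∈ D' ↔ v ∈ D ∧ ω v e₀ = 0 ∧ ω v f₀ = 0 := by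
        intro v
        rw [hD', Submodule.mem_inf, Submodule.mem_inf, LinearMap.mem_ker, LinearMap.mem_ker,
          and_assoc]
        rfl
      have hD'le : D' ≤ D := fun v hv => ((hmemD' v).1 hv).1
      have hlt : D' < D := by
        refine lt_of_le_of_ne hD'le ?_
        intro heq
        have : e₀ ∈ D' := by rw [heq]; exact he₀D
        have h1 := ((hmemD' e₀).1 this).2.2
        rw [hef] at h1
        exact one_ne_zero h1
      have hrank : finrank F D' < n := hD ▸ Submodule.finrank_lt_finrank_of_lt hlt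
      -- the projection
      have hproj : ∀ v ∈ D, v - aw ω e₀ f₀ v ∈ D' := by
        intro v hv
        rw [hmemD']
        refine ⟨D.sub_mem hv ?_, ?_, ?_⟩
        · rw [aw_apply]
          exact D.sub_mem (D.smul_mem _ he₀D) (D.smul_mem _ hf₀D)
        · simp only [aw_apply, map_sub, map_smul, LinearMap.sub_apply, LinearMap.smul_apply,
            smul_eq_mul, halt e₀, hfe]
          ring
        · simp only [aw_apply, map_sub, map_smul, LinearMap.sub_apply, LinearMap.smul_apply,
            smul_eq_mul, halt f₀, hef]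
          ring
      have hnd' : ∀ w ∈ D', w ≠ 0 → ∃ x ∈ D', ω x w ≠ 0 := by
        intro w hw hw0
        obtain ⟨hwD, hwe, hwf⟩ := (hmemD' w).1 hw
        obtain ⟨y, hyD, hy⟩ := hnd w hwD hw0
        refine ⟨y - aw ω e₀ f₀ y, hproj y hyD, ?_⟩
        have h1 : ω e₀ w = 0 := by rw [alt_swap ω halt e₀ w, hwe, neg_zero]
        have h2 : ω f₀ w = 0 := by rw [alt_swap ω halt f₀ w, hwf, neg_zero]
        simp only [aw_apply, map_sub, map_smul, LinearMap.sub_apply, LinearMap.smul_apply,
          smul_eq_mul, h1, h2, mul_zero, sub_zero]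
        exact hy
      obtain ⟨k, e, f, hefD, hsum⟩ := ih (finrank F D') hrank D' rfl hnd'
      refine ⟨k + 1, Fin.cons e₀ e, Fin.cons f₀ f, ?_, ?_⟩
      · intro i
        refine Fin.cases ?_ ?_ i
        · simp only [Fin.cons_zero]
          exact ⟨he₀D, hf₀D⟩
        · intro j
          simp only [Fin.cons_succ]
          exact ⟨hD'le (hefD j).1, hD'le (hefD j).2⟩
      · intro v hv
        rw [Fin.sum_univ_succ]
        simp only [Fin.cons_zero, Fin.cons_succ]
        have hv' := hsum _ (hproj v hv)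
        -- `aw (e i) (f i)` kills `aw e₀ f₀ v`
        have hkill : ∀ i, aw ω (e i) (f i) (aw ω e₀ f₀ v) = 0 := by
          intro i
          obtain ⟨-, h1, h2⟩ := (hmemD' (e i)).1 (hefD i).1
          obtain ⟨-, h3, h4⟩ := (hmemD' (f i)).1 (hefD i).2
          have g1 : ω e₀ (e i) = 0 := by rw [alt_swap ω halt e₀ (e i), h1, neg_zero]
          have g2 : ω f₀ (e i) = 0 := by rw [alt_swap ω halt f₀ (e i), h2, neg_zero]
          have g3 : ω e₀ (f i) = 0 := by rw [alt_swap ω halt e₀ (f i), h3, neg_zero]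
          have g4 : ω f₀ (f i) = 0 := by rw [alt_swap ω halt f₀ (f i), h4, neg_zero]
          simp only [aw_apply, map_sub, map_smul, LinearMap.sub_apply, LinearMap.smul_apply,
            smul_eq_mul, g1, g2, g3, g4, mul_zero, sub_zero, zero_smul, smul_zero]
        have hsum2 : ∑ i, aw ω (e i) (f i) (v - aw ω e₀ f₀ v) = ∑ i, aw ω (e i) (f i) v := by
          apply Finset.sum_congr rfl
          intro i _
          rw [map_sub, hkill i, sub_zero]
        rw [hsum2] at hv'
        rw [← hv']
        abel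

/-- SUMAW : the identity is a sum of maps `aw ω (e i) (f i)` (symplectic basis) -/
theorem exists_sum_aw (halt : ω.IsAlt) (hN : ω.Nondegenerate) :
    ∃ (k : ℕ) (e f : Fin k → W), ∀ v : W, v = ∑ i, aw ω (e i) (f i) v := by
  obtain ⟨k, e, f, -, h⟩ := sum_aw_aux halt (finrank F (⊤ : Submodule F W)) ⊤ rfl (by
    intro w _ hw0
    by_contra hcon
    push Not at hcon
    exact hw0 (hN.2 w (fun x => hcon x (Submodule.mem_top)))
  )
  exact ⟨k, e, f, fun v => h v Submodule.mem_top⟩

end Cfsg.Agent.Lib.Helper25_T2O_SUMAW
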