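import Mathlib
import Cfsg.Agent.Lib.Helper67_T2ODefs
import Cfsg.Agent.Lib.Helper94_OrthNondeg
import Cfsg.Agent.Lib.Helper82_T2_KR
import Cfsg.Agent.Lib.Helper9_T2_BR
import Cfsg.Agent.Lib.Helper78_UT2_NEXA

set_option autoImplicit false
set_option linter.unusedSectionVars false
set_option linter.unusedVariables false
set_option linter.unusedSimpArgs false

/-!
# TENS2O package XSO (architect helper67; helper25): closure properties of `InX`
-/

open Module
open Cfsg.Agent.Lib.Helper94_Symp Cfsg.Agent.Lib.Helper94_OrthSmall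
  Cfsg.Agent.Lib.Helper94_OrthSiegel Cfsg.Agent.Lib.Helper94_OrthNondeg
  Cfsg.Agent.Lib.Helper67_Tens2Defs Cfsg.Agent.Lib.Helper67_T2ODefs

namespace Cfsg.Agent.Lib.Helper25_T2O_XSO

variable {F W : Type*} [Field F] [Finite F] [AddCommGroup W] [Module F W] [FiniteDimensional F W]
variable {ω : LinearMap.BilinForm F W}

/-- XSO : `InX` is additive -/
theorem inX_add (halt : ω.IsAlt) (M : Subgroup ((W × W) ≃ₗ[F] (W × W)))
    (e d : W) (hed : ω e d = 0) (x11 x12 x21 x22 y11 y12 y21 y22 : F)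
    (hx : InX ω M e d x11 x12 x21 x22) (hy : InX ω M e d y11 y12 y21 y22) :
    InX ω M e d (x11 + y11) (x12 + y12) (x21 + y21) (x22 + y22) := by
  obtain ⟨mx, hmx, hx⟩ := hx
  obtain ⟨my, hmy, hy⟩ := hy
  have hde : ω d e = 0 := by rw [alt_swap ω halt d e, hed, neg_zero]
  refine ⟨mx * my, M.mul_mem hmx hmy, ?_⟩
  intro u u'
  rw [LinearEquiv.mul_apply, hy, hx]
  simp only [map_add, map_smul, LinearMap.add_apply, LinearMap.smul_apply, smul_eq_mul, hed, hde,
    halt e, halt d, mul_zero, add_zero]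
  ext
  · simp only []
    module
  · simp only []
    module

/-- XSO : `InX` and negation -/
theorem inX_neg (halt : ω.IsAlt) (M : Subgroup ((W × W) ≃ₗ[F] (W × W)))
    (e d : W) (hed : ω e d = 0) (x11 x12 x21 x22 : F)
    (hx : InX ω M e d x11 x12 x21 x22) : InX ω M e d (-x11) (-x12) (-x21) (-x22) := by
  obtain ⟨mx, hmx, hx⟩ := hx
  have hde : ω d e = 0 := by rw [alt_swap ω halt d e, hed, neg_zero]
  refine ⟨mx⁻¹, M.inv_mem hmx, ?_⟩
  intro u u'
  have key : mx (u + (-x11 * ω u d + -x12 * ω u' d) • e + (-x22 * ω u e - -x12 * ω u' e) • d,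
      u' + (-x21 * ω u d + -x22 * ω u' d) • e + (- -x21 * ω u e + -x11 * ω u' e) • d) = (u, u') := by
    rw [hx]
    simp only [map_add, map_smul, LinearMap.add_apply, LinearMap.smul_apply, smul_eq_mul, hed, hde,
      halt e, halt d, mul_zero, add_zero]
    ext
    · simp only []
      module
    · simp only []
      module
  rw [← key, inv_apply_apply']

/-- the symplectic map `v ↦ v + s (ω v d • e + ω v e • d)` as a product of transvections -/
theorem Ts_apply (halt : ω.IsAlt) (e d : W) (hed : ω e d = 0) (s : F) (v : W) :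
    (stv ω halt (e + d) s * stv ω halt e (-s) * stv ω halt d (-s)) v =
      v + (s * ω v d) • e + (s * ω v e) • d := by
  have hde : ω d e = 0 := by rw [alt_swap ω halt d e, hed, neg_zero]
  simp only [LinearEquiv.mul_apply, stv_apply, map_add, map_smul, LinearMap.add_apply,
    LinearMap.smul_apply, smul_eq_mul, hed, hde, halt e, halt d, mul_zero, add_zero, zero_add]
  module

/-- XSO : the scalar matrices are in `InX` (they are `1 ⊗ T`, `T ∈ Sp(ω)`) -/
theorem inX_scalar (halt : ω.IsAlt) (M : Subgroup ((W × W) ≃ₗ[F] (W × W))) (hM : HypO ω M)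
    (e d : W) (hed : ω e d = 0) (s : F) : InX ω M e d s 0 0 s := by
  have hT : stv ω halt (e + d) s * stv ω halt e (-s) * stv ω halt d (-s) ∈ isoGroup ω :=
    Subgroup.mul_mem _ (Subgroup.mul_mem _ (stv_mem_isoGroup ω halt _ _)
      (stv_mem_isoGroup ω halt _ _)) (stv_mem_isoGroup ω halt _ _)
  refine ⟨oE (stv ω halt (e + d) s * stv ω halt e (-s) * stv ω halt d (-s)),
    hM.oE_mem _ hT, ?_⟩
  intro u u'
  rw [oE_apply, Ts_apply halt e d hed, Ts_apply halt e d hed]
  ext
  · simp only []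
    module
  · simp only []
    module

/-- XSO : conjugation by `ux (t • 1)` -/
theorem inX_conj (M : Subgroup ((W × W) ≃ₗ[F] (W × W))) (hM : HypO ω M)
    (e d : W) (x11 x12 x21 x22 : F) (hx : InX ω M e d x11 x12 x21 x22) (t : F) :
    InX ω M e d (x11 + t * x21) (x12 + t * (x22 - x11) - t * t * x21) x21 (x22 - t * x21) := by
  obtain ⟨mx, hmx, hx⟩ := hx
  refine ⟨ux (t • (LinearMap.id : W →ₗ[F] W)) * mx * (ux (t • (LinearMap.id : W →ₗ[F] W)))⁻¹,
    M.mul_mem (M.mul_mem (hM.ux_mem t) hmx) (M.inv_mem (hM.ux_mem t)), ?_⟩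
  intro u u'
  rw [ux_inv, LinearEquiv.mul_apply, LinearEquiv.mul_apply, ux_apply]
  simp only [LinearMap.neg_apply, LinearMap.smul_apply, LinearMap.id_apply]
  rw [hx, ux_apply]
  simp only [LinearMap.smul_apply, LinearMap.id_apply, map_add, map_neg, map_smul,
    LinearMap.add_apply, LinearMap.neg_apply, smul_eq_mul]
  ext
  · simp only []
    module
  · simp only []
    module

end Cfsg.Agent.Lib.Helper25_T2O_XSO
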