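import Mathlib
import Cfsg.Prelude.Def_GeometricClasses
import Cfsg.Agent.Lib.Helper67_Tens2Defs

set_option autoImplicit false
set_option linter.unusedSectionVars false
set_option linter.unusedVariables false

/-!
TENS2 package EIG (architect helper67): a linear map having every nonsingular vector of a nondegenerate subspace `D`
(`dim D ≥ 3`) as an eigenvector is scalar on `D`; the same for a map commuting with the reflections in the
nonsingular vectors of `D`.
-/

namespace Cfsg.Agent.Lib.Helper25_T2_EIG

open Module
open Cfsg.Agent.Lib.Helper94_Symp Cfsg.Agent.Lib.Helper67_Tens2Defs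

/-- comparing two eigenvalues through a nonsingular combination `x + t y + z` -/
theorem eig_eq_aux {F B : Type*} [Field F] [AddCommGroup B] [Module F B]
    (β : LinearMap.BilinForm F B) (hs : ∀ u v, β u v = β v u) (D : Submodule F B)
    (T : B →ₗ[F] B) (hT : ∀ y ∈ D, β y y ≠ 0 → ∃ l : F, T y = l • y)
    (x y z : B) (hx : x ∈ D) (hy : y ∈ D) (hz : z ∈ D)
    (hxy : β x y = 0) (hzx : β z x = 0) (hzy : β z y = 0)
    (hnx : β x x ≠ 0) (hny : β y y ≠ 0) (lx ly lz : F)
    (hTx : T x = lx • x) (hTy : T y = ly • y) (hTz : T z = lz • z)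
    (t : F) (ht : t ≠ 0) (hv : β (x + t • y + z) (x + t • y + z) ≠ 0) : lx = ly := by
  obtain ⟨l, hl⟩ := hT (x + t • y + z)
    (D.add_mem (D.add_mem hx (D.smul_mem _ hy)) hz) hv
  have h1 : T (x + t • y + z) = lx • x + t • ly • y + lz • z := by
    rw [map_add, map_add, map_smul, hTx, hTy, hTz]
  rw [h1] at hl
  have ex := congrArg (fun u => β u x) hl
  simp only [map_add, map_smul, LinearMap.add_apply, LinearMap.smul_apply, smul_eq_mul, hs y x,
    hxy, hzx, mul_zero, add_zero] at ex
  have ey := congrArg (fun u => β u y) hl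
  simp only [map_add, map_smul, LinearMap.add_apply, LinearMap.smul_apply, smul_eq_mul,
    hxy, hzy, mul_zero, add_zero, zero_add] at ey
  have e1 : (lx - l) * β x x = 0 := by linear_combination ex
  have e2 : (ly - l) * (t * β y y) = 0 := by linear_combination ey
  have e1' : lx = l := sub_eq_zero.mp ((mul_eq_zero.mp e1).resolve_right hnx)
  have e2' : ly = l := sub_eq_zero.mp ((mul_eq_zero.mp e2).resolve_right (mul_ne_zero ht hny))
  rw [e1', e2']

/-- EIG : a linear map having every nonsingular vector of `D` as an eigenvector is scalar on `D` -/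
theorem eig_scalar {F B : Type*} [Field F] [Fintype F] [AddCommGroup B] [Module F B]
    [FiniteDimensional F B] (β : LinearMap.BilinForm F B) (hs : ∀ u v, β u v = β v u)
    (h2 : (2 : F) ≠ 0) (D : Submodule F B) (hD : ∀ u ∈ D, (∀ w ∈ D, β u w = 0) → u = 0)
    (h3 : 3 ≤ finrank F D) (T : B →ₗ[F] B)
    (hT : ∀ y ∈ D, β y y ≠ 0 → ∃ l : F, T y = l • y) : ∃ c : F, ∀ u ∈ D, T u = c • u := by
  classical
  have : Invertible (2 : F) := invertibleOfNonzero h2
  have hsymm : (β.restrict D).IsSymm := ⟨fun x y => hs x y⟩
  obtain ⟨v, hv⟩ := LinearMap.BilinForm.exists_orthogonal_basis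
    (B := β.restrict D) (LinearMap.BilinForm.isSymm_iff.mp hsymm)
  have hortho : ∀ i j, i ≠ j → β (v i : B) (v j : B) = 0 := fun i j hij => hv hij
  have hmem : ∀ i, (v i : B) ∈ D := fun i => (v i).2
  have hn : ∀ i, β (v i : B) (v i : B) ≠ 0 := by
    intro i h0
    have hz : (v i : B) = 0 := by
      apply hD _ (hmem i)
      intro w hw
      have key : (β (v i : B)).comp D.subtype = 0 := by
        apply v.ext
        intro j
        by_cases hij : i = j
        · subst hij
          simpa using h0
        · simpa using hortho i j hij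
      have := LinearMap.congr_fun key ⟨w, hw⟩
      simpa using this
    exact v.ne_zero i (Subtype.ext hz)
  choose l hl using fun i => hT (v i : B) (hmem i) (hn i)
  have hpair : ∀ i j, i ≠ j → l i = l j := by
    intro i j hij
    by_cases h1 : β (v i : B) (v i) + β (v j : B) (v j) = 0
    · -- third index
      obtain ⟨k, hki, hkj⟩ : ∃ k : Fin (finrank F D), k ≠ i ∧ k ≠ j := by
        by_contra hcon
        push Not at hcon
        have hle : Fintype.card (Fin (finrank F D)) ≤ 2 := by
          calc Fintype.card (Fin (finrank F D)) = (Finset.univ : Finset (Fin _)).card := rfl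
            _ ≤ ({i, j} : Finset (Fin (finrank F D))).card := by
                apply Finset.card_le_card
                intro k _
                by_cases h : k = i
                · simp [h]
                · simp [hcon k h]
            _ ≤ 2 := Finset.card_le_two
        rw [Fintype.card_fin] at hle
        omega
      refine eig_eq_aux β hs D T hT (v i) (v j) (v k) (hmem i) (hmem j) (hmem k)
        (hortho i j hij) (hortho k i hki) (hortho k j hkj) (hn i) (hn j) (l i) (l j) (l k)
        (hl i) (hl j) (hl k) 1 one_ne_zero ?_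
      simp only [one_smul, map_add, LinearMap.add_apply, hortho i j hij, hortho j i hij.symm,
        hortho k i hki, hortho k j hkj, hortho i k hki.symm, hortho j k hkj.symm, add_zero,
        zero_add]
      rw [h1, zero_add]
      exact hn k
    · refine eig_eq_aux β hs D T hT (v i) (v j) 0 (hmem i) (hmem j) D.zero_mem
        (hortho i j hij) (by simp) (by simp) (hn i) (hn j) (l i) (l j) 0
        (hl i) (hl j) (by simp) 1 one_ne_zero ?_
      simp only [one_smul, map_add, LinearMap.add_apply, hortho i j hij, hortho j i hij.symm,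
        add_zero, zero_add]
      exact h1
  have hpos : 0 < finrank F D := by omega
  refine ⟨l ⟨0, hpos⟩, ?_⟩
  have hall : ∀ i, T (v i : B) = l ⟨0, hpos⟩ • (v i : B) := by
    intro i
    by_cases hi : i = ⟨0, hpos⟩
    · rw [← hi]; exact hl i
    · rw [← hpair i _ hi]; exact hl i
  have key : T.comp D.subtype = l ⟨0, hpos⟩ • D.subtype := by
    apply v.ext
    intro i
    simpa using hall i
  intro u hu
  have := LinearMap.congr_fun key ⟨u, hu⟩
  simpa using this

/-- EIG : a linear map commuting with the reflections in the nonsingular vectors of `D` is scalar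
on `D` -/
theorem comm_refl_scalar {F B : Type*} [Field F] [Fintype F] [AddCommGroup B] [Module F B]
    [FiniteDimensional F B] (β : LinearMap.BilinForm F B) (hs : ∀ u v, β u v = β v u)
    (h2 : (2 : F) ≠ 0) (D : Submodule F B) (hD : ∀ u ∈ D, (∀ w ∈ D, β u w = 0) → u = 0)
    (h3 : 3 ≤ finrank F D) (T : B →ₗ[F] B)
    (hT : ∀ y ∈ D, β y y ≠ 0 → ∀ v, T (reflE β y v) = reflE β y (T v)) :
    ∃ c : F, ∀ u ∈ D, T u = c • u := by
  refine eig_scalar β hs h2 D hD h3 T (fun y hy hny => ?_)
  have h := hT y hy hny y
  rw [reflE_apply, reflE_apply, map_sub, map_smul] at h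
  have e1 : 2 * β y y * (β y y)⁻¹ = 2 := by field_simp
  rw [e1] at h
  refine ⟨β (T y) y * (β y y)⁻¹, ?_⟩
  have h' : (2 : F) • T y = (2 : F) • ((β (T y) y * (β y y)⁻¹) • y) := by
    rw [smul_smul, ← mul_assoc]
    exact sub_right_injective h
  exact smul_right_injective B h2 h'

end Cfsg.Agent.Lib.Helper25_T2_EIG
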