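import Mathlib
import Cfsg.Prelude.Def_GeometricClasses
import Cfsg.Agent.Lib.Helper67_Tens2Defs

set_option autoImplicit false
set_option linter.unusedSectionVars false
set_option linter.unusedVariables false

/-!
TENS2 package GEN3 (architect helper67): if all pure tensors `x ⊗ ε'` with `ε'` singular are centres of full
transvection groups of `M`, then every vector of `B × B` is.
-/

namespace Cfsg.Agent.Lib.Helper25_T2_GEN3

open Module
open Cfsg.Agent.Lib.Helper94_Symp Cfsg.Agent.Lib.Helper67_Tens2Defs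

/-- a singular vector not orthogonal to a given nonsingular one -/
theorem exists_singular_not_perp {F B : Type*} [Field F] [AddCommGroup B] [Module F B]
    (β : LinearMap.BilinForm F B) (hs : ∀ u v, β u v = β v u)
    (hn : β.Nondegenerate) (h2 : (2 : F) ≠ 0) (hex : ∃ ε : B, ε ≠ 0 ∧ β ε ε = 0)
    (w : B) (hw : β w w ≠ 0) : ∃ e : B, β e e = 0 ∧ β w e ≠ 0 := by
  obtain ⟨e0, he0, hq0⟩ := hex
  by_cases h1 : β w e0 = 0
  swap
  · exact ⟨e0, hq0, h1⟩
  obtain ⟨x0, hx0⟩ : ∃ x0, β e0 x0 ≠ 0 := by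
    by_contra hcon
    push Not at hcon
    exact he0 (hn.1 e0 hcon)
  obtain ⟨x, hx⟩ : ∃ x, x = (β e0 x0)⁻¹ • x0 := ⟨_, rfl⟩
  have hx1 : β e0 x = 1 := by
    rw [hx, map_smul, smul_eq_mul, inv_mul_cancel₀ hx0]
  obtain ⟨x', hx'⟩ : ∃ x', x' = x - (2⁻¹ * β x x) • e0 := ⟨_, rfl⟩
  have hx'q : β x' x' = 0 := by
    rw [hx']
    simp only [map_sub, map_smul, LinearMap.sub_apply, LinearMap.smul_apply, smul_eq_mul, hq0,
      hs x e0, hx1]
    field_simp
    ring
  have hx'1 : β e0 x' = 1 := by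
    rw [hx']
    simp only [map_sub, map_smul, smul_eq_mul, hq0, hx1]
    ring
  by_cases h3 : β w x' = 0
  swap
  · exact ⟨x', hx'q, h3⟩
  refine ⟨e0 + w - (2⁻¹ * β w w) • x', ?_, ?_⟩
  · simp only [map_sub, map_add, map_smul, LinearMap.sub_apply, LinearMap.add_apply,
      LinearMap.smul_apply, smul_eq_mul, hq0, hx'q, hs x' e0, hx'1, hs x' w, h3, hs e0 w, h1]
    field_simp
    ring
  · simp only [map_sub, map_add, map_smul, smul_eq_mul, h1, h3]
    simpa using hw

/-- pure tensors on a nonsingular vector -/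
theorem tv_pure_nonsing {F B : Type*} [Field F] [AddCommGroup B] [Module F B]
    (β : LinearMap.BilinForm F B) (hs : ∀ u v, β u v = β v u)
    (hn : β.Nondegenerate) (h2 : (2 : F) ≠ 0)
    (M : Subgroup ((B × B) ≃ₗ[F] (B × B)))
    (hex : ∃ ε : B, ε ≠ 0 ∧ β ε ε = 0)
    (hsing : ∀ ε' : B, β ε' ε' = 0 → ∀ a c : F,
      (a • ε', c • ε') ∈ TV (tf β) (tf_isAlt β hs) M)
    (w : B) (hw : β w w ≠ 0) (a c : F) :
    (a • w, c • w) ∈ TV (tf β) (tf_isAlt β hs) M := by
  obtain ⟨e, heq, hwe⟩ := exists_singular_not_perp β hs hn h2 hex w hw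
  obtain ⟨s, hsdef⟩ : ∃ s, s = β w w * (2 * β w e)⁻¹ := ⟨_, rfl⟩
  have h2we : 2 * β w e ≠ 0 := mul_ne_zero h2 hwe
  have hs0 : s ≠ 0 := by rw [hsdef]; exact mul_ne_zero hw (inv_ne_zero h2we)
  obtain ⟨e', he'⟩ : ∃ e', e' = w - s • e := ⟨_, rfl⟩
  have he'q : β e' e' = 0 := by
    rw [he']
    simp only [map_sub, map_smul, LinearMap.sub_apply, LinearMap.smul_apply, smul_eq_mul, heq,
      hs e w, hsdef]
    field_simp
    ring
  have hee' : β e e' = β w e := by
    rw [he']
    simp only [map_sub, map_smul, smul_eq_mul, heq, hs e w]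
    ring
  have hwdec : w = s • e + e' := by rw [he']; abel
  by_cases hac : a = 0 ∧ c = 0
  · obtain ⟨rfl, rfl⟩ := hac
    have : ((0 : F) • w, (0 : F) • w) = (0 : B × B) := by simp
    rw [this]
    exact TV_zero
  obtain ⟨a', c', hdet⟩ : ∃ a' c' : F, a * c' - c * a' ≠ 0 := by
    by_cases ha : a = 0
    · have hc : c ≠ 0 := fun hc => hac ⟨ha, hc⟩
      exact ⟨1, 0, by simpa [ha] using hc⟩
    · exact ⟨0, 1, by simpa using ha⟩
  have hA : ((a * s) • e, (c * s) • e) ∈ TV (tf β) (tf_isAlt β hs) M := hsing e heq _ _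
  have hB' : (a' • e', c' • e') ∈ TV (tf β) (tf_isAlt β hs) M := hsing e' he'q _ _
  have hC : ((a - a') • e', (c - c') • e') ∈ TV (tf β) (tf_isAlt β hs) M := hsing e' he'q _ _
  have hx1 : ((a * s) • e, (c * s) • e) + (a' • e', c' • e') ∈ TV (tf β) (tf_isAlt β hs) M := by
    refine TV_add hB' hA ?_
    simp only [tf_apply, map_smul, LinearMap.smul_apply, smul_eq_mul, hee']
    intro h0
    exact (mul_ne_zero (mul_ne_zero hdet hs0) hwe) (by linear_combination h0)
  have hx12 : ((a * s) • e, (c * s) • e) + (a' • e', c' • e') + ((a - a') • e', (c - c') • e')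
      ∈ TV (tf β) (tf_isAlt β hs) M := by
    refine TV_add hC hx1 ?_
    simp only [tf_apply, map_add, map_smul, LinearMap.add_apply,
      LinearMap.smul_apply, smul_eq_mul, hee', he'q, mul_zero]
    intro h0
    exact (mul_ne_zero (mul_ne_zero hdet hs0) hwe) (by linear_combination (-1 : F) * h0)
  have hfin : ((a * s) • e, (c * s) • e) + (a' • e', c' • e') + ((a - a') • e', (c - c') • e')
      = (a • w, c • w) := by
    rw [hwdec]
    ext
    · simp only [Prod.fst_add, smul_add, smul_smul, sub_smul]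
      abel
    · simp only [Prod.snd_add, smul_add, smul_smul, sub_smul]
      abel
  rw [← hfin]
  exact hx12

/-- all pure tensors -/
theorem tv_pure {F B : Type*} [Field F] [AddCommGroup B] [Module F B]
    (β : LinearMap.BilinForm F B) (hs : ∀ u v, β u v = β v u)
    (hn : β.Nondegenerate) (h2 : (2 : F) ≠ 0)
    (M : Subgroup ((B × B) ≃ₗ[F] (B × B)))
    (hex : ∃ ε : B, ε ≠ 0 ∧ β ε ε = 0)
    (hsing : ∀ ε' : B, β ε' ε' = 0 → ∀ a c : F,
      (a • ε', c • ε') ∈ TV (tf β) (tf_isAlt β hs) M)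
    (w : B) (a c : F) :
    (a • w, c • w) ∈ TV (tf β) (tf_isAlt β hs) M := by
  by_cases hw : β w w = 0
  · exact hsing w hw a c
  · exact tv_pure_nonsing β hs hn h2 M hex hsing w hw a c

/-- GEN3 : then every vector is -/
theorem tv_all {F B : Type*} [Field F] [AddCommGroup B] [Module F B]
    [FiniteDimensional F B] (β : LinearMap.BilinForm F B) (hs : ∀ u v, β u v = β v u)
    (hn : β.Nondegenerate) (h2 : (2 : F) ≠ 0)
    (M : Subgroup ((B × B) ≃ₗ[F] (B × B))) (hM : HypM β M)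
    (hex : ∃ ε : B, ε ≠ 0 ∧ β ε ε = 0)
    (hsing : ∀ ε' : B, β ε' ε' = 0 → ∀ a c : F,
      (a • ε', c • ε') ∈ TV (tf β) (tf_isAlt β hs) M) :
    ∀ x : B × B, x ∈ TV (tf β) (tf_isAlt β hs) M := by
  have hpure := tv_pure β hs hn h2 M hex hsing
  have hleft : ∀ u : B, (u, (0 : B)) ∈ TV (tf β) (tf_isAlt β hs) M := by
    intro u
    have := hpure u 1 0
    simpa using this
  have hright : ∀ u : B, ((0 : B), u) ∈ TV (tf β) (tf_isAlt β hs) M := by
    intro u
    have := hpure u 0 1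
    simpa using this
  -- first case
  have hcase1 : ∀ u u' : B, β u u' ≠ 0 → (u, u') ∈ TV (tf β) (tf_isAlt β hs) M := by
    intro u u' h
    have := TV_add (hright u') (hleft u) (by simpa using h)
    simpa using this
  rintro ⟨u, u'⟩
  by_cases h : β u u' = 0
  swap
  · exact hcase1 u u' h
  by_cases hu : u = 0
  · rw [hu]; exact hright u'
  obtain ⟨w, hw⟩ : ∃ w, β u w ≠ 0 := by
    by_contra hcon
    push Not at hcon
    exact hu (hn.1 u hcon)
  have hx1 : (u, u' - w) ∈ TV (tf β) (tf_isAlt β hs) M := by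
    apply hcase1
    rw [map_sub, h, zero_sub]
    exact neg_ne_zero.mpr hw
  have := TV_add (hright w) hx1 (by simpa using hw)
  simpa using this

end Cfsg.Agent.Lib.Helper25_T2_GEN3
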