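import Mathlib
import Cfsg.Agent.Lib.Helper38_MIODefs

set_option autoImplicit false

/-!
One more outcome for the orthogonal minimal-index rows (helper38): the tight configuration of `Ω₈⁺(q)`
(plus type, `dim W = 6`): the non-trivial members are totally singular 3-spaces, each at most once.
-/

namespace Cfsg.Agent.Lib.Helper38_MIODefs2

open Module Cfsg.Agent.Lib.Helper38_MIODefs

variable {F W : Type*} [Field F] [AddCommGroup W] [Module F W]

/-- Outcome 5: every member is `⊥` or a totally singular `j`-space, distinct members with the same non-trivial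
value coincide, and the total mass is `N - r + #{trivial members}`. -/
def Out5 {𝒪 : Type*} [Fintype 𝒪] (Q : QuadraticForm F W) (C : 𝒪 → AddSubgroup W) (j r N : ℕ) : Prop :=
  (∀ O, C O = ⊥ ∨ ∃ T : Submodule F W, IsTS Q j T ∧ C O = T.toAddSubgroup) ∧
  (∀ O O', C O = C O' → C O ≠ ⊥ → O = O') ∧
  (∑ O, Nat.card (C O)) + r = N + Nat.card {O : 𝒪 // C O = ⊥}

end Cfsg.Agent.Lib.Helper38_MIODefs2
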