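/-
  S2143 market (architect helper38), package MIO-MASS: the mass formula for a Siegel- and torus-symmetric
  family of additive subgroups of a finite quadratic space.

  `mass_lower_of` / `mass_ts_of`: hypothesis form, with the conclusion of MIO-TR (`tr_const`, for
  `ℕ`-valued functions) as a hypothesis `htr`; `mass_lower` / `mass_ts`: the package statements
  (through `Helper17_MIO_TR.tr_const`).
-/
import Mathlib
import Cfsg.Agent.Lib.Helper38_MIODefs
import Cfsg.Agent.Lib.Helper17_MIO_TR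

set_option autoImplicit false

namespace Cfsg.Agent.Lib.Helper78_MIO_MASS

open Module Cfsg.Agent.Lib.Helper94_OrthSmall Cfsg.Agent.Lib.Helper44_QuadClass
  Cfsg.Agent.Lib.Helper14_OmegaSimple Cfsg.Agent.Lib.Helper38_MIODefs

section part1

variable {F W : Type*} [Field F] [Fintype F] [AddCommGroup W] [Module F W] [FiniteDimensional F W]

/-- double counting: `∑ O, |C O| = ∑ x, mult C x`. -/
theorem sum_card_eq_sum_mult [Fintype W] {𝒪 : Type*} [Fintype 𝒪] (C : 𝒪 → AddSubgroup W) :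
    ∑ O, Nat.card (C O) = ∑ x : W, mult C x := by
  classical
  have h1 : ∀ O, Nat.card (C O) = ∑ x : W, if x ∈ C O then 1 else 0 := by
    intro O
    rw [Finset.sum_boole, Nat.card_eq_fintype_card]
    simp only [Nat.cast_id]
    rw [← Fintype.card_subtype]
  have h2 : ∀ x : W, mult C x = ∑ O, if x ∈ C O then 1 else 0 := by
    intro x
    unfold mult
    rw [Finset.sum_boole, Nat.card_eq_fintype_card]
    simp only [Nat.cast_id]
    rw [← Fintype.card_subtype]
  simp_rw [h1, h2]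
  exact Finset.sum_comm

/-- `mult C 0 = |𝒪|`. -/
theorem mult_zero {𝒪 : Type*} [Fintype 𝒪] (C : 𝒪 → AddSubgroup W) :
    mult C (0 : W) = Fintype.card 𝒪 := by
  unfold mult
  rw [← Nat.card_eq_fintype_card]
  exact Nat.card_congr (Equiv.subtypeUnivEquiv (fun O => (C O).zero_mem))

omit [Fintype F] [FiniteDimensional F W] in
/-- `mult C` is invariant under Siegel elements. -/
theorem mult_sieg (Q : QuadraticForm F W) {𝒪 : Type*} (C : 𝒪 → AddSubgroup W) (p : ℕ)
    (hS : SiegSym Q p C) (u z : W) (hu : Q u = 0) (huz : QuadraticMap.polar (⇑Q) u z = 0) (x : W) :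
    mult C (E Q u z x) = mult C x := by
  obtain ⟨π, -, hπC⟩ := hS u z hu huz
  unfold mult
  exact (Nat.card_congr (Equiv.subtypeEquiv π (fun O => hπC O x))).symm

omit [Fintype F] [FiniteDimensional F W] in
/-- `mult C` is invariant under the similitudes of `TorSym`. -/
theorem mult_tor (Q : QuadraticForm F W) {𝒪 : Type*} (C : 𝒪 → AddSubgroup W)
    (hT : TorSym Q C) (t : F) (ht : t ≠ 0) :
    ∃ ψ : W ≃ₗ[F] W, (∀ x, Q (ψ x) = Q x) ∧ ∀ x, mult C (t • ψ x) = mult C x := by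
  obtain ⟨ψ, ρ, hψ, hρ⟩ := hT t ht
  refine ⟨ψ, hψ, fun x => ?_⟩
  unfold mult
  exact (Nat.card_congr (Equiv.subtypeEquiv ρ (fun O => hρ O x))).symm

omit [FiniteDimensional F W] in
/-- The size of `K = {x | ∃ t ≠ 0, Q x = t² c}` is at least `κ ℓ`. -/
theorem card_K_ge [Fintype W] [DecidableEq W] [DecidableEq F] (Q : QuadraticForm F W) (ℓ κ : ℕ)
    (hL : ∀ c : F, c ≠ 0 → ℓ ≤ Nat.card {x : W // Q x = c})
    (hκ : ∀ c : F, c ≠ 0 → κ ≤ Nat.card {c' : F // ∃ t : F, t ≠ 0 ∧ c' = t ^ 2 * c})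
    (c : F) (hc : c ≠ 0) [DecidablePred (fun x : W => ∃ t : F, t ≠ 0 ∧ Q x = t ^ 2 * c)] :
    κ * ℓ ≤ (Finset.univ.filter (fun x : W => ∃ t : F, t ≠ 0 ∧ Q x = t ^ 2 * c)).card := by
  classical
  set K := Finset.univ.filter (fun x : W => ∃ t : F, t ≠ 0 ∧ Q x = t ^ 2 * c) with hK
  set SC := Finset.univ.filter (fun c' : F => ∃ t : F, t ≠ 0 ∧ c' = t ^ 2 * c) with hSC
  have hmaps : ∀ x ∈ K, Q x ∈ SC := by
    intro x hx
    rw [hK, Finset.mem_filter] at hx
    rw [hSC, Finset.mem_filter]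
    exact ⟨Finset.mem_univ _, hx.2⟩
  rw [Finset.card_eq_sum_card_fiberwise hmaps]
  have hSCcard : κ ≤ SC.card := by
    have := hκ c hc
    rw [Nat.card_eq_fintype_card, Fintype.card_subtype] at this
    exact this
  have hfib : ∀ c' ∈ SC, ℓ ≤ (K.filter (fun x => Q x = c')).card := by
    intro c' hc'
    rw [hSC, Finset.mem_filter] at hc'
    obtain ⟨t, ht, hc't⟩ := hc'.2
    have hc'0 : c' ≠ 0 := by
      rw [hc't]
      exact mul_ne_zero (pow_ne_zero 2 ht) hc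
    have h1 := hL c' hc'0
    rw [Nat.card_eq_fintype_card, Fintype.card_subtype] at h1
    have h2 : K.filter (fun x => Q x = c') = Finset.univ.filter (fun x : W => Q x = c') := by
      ext x
      simp only [hK, Finset.mem_filter, Finset.mem_univ, true_and]
      constructor
      · exact fun h => h.2
      · intro h
        exact ⟨⟨t, ht, by rw [h, hc't]⟩, h⟩
    rw [h2]
    exact h1
  calc κ * ℓ ≤ SC.card * ℓ := Nat.mul_le_mul_right _ hSCcard
    _ = ∑ _c' ∈ SC, ℓ := by rw [Finset.sum_const, smul_eq_mul]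
    _ ≤ ∑ c' ∈ SC, (K.filter (fun x => Q x = c')).card := Finset.sum_le_sum hfib

/-- **mass_lower**, hypothesis form (`htr` = MIO-TR for `ℕ`-valued functions). -/
theorem mass_lower_of (Q : QuadraticForm F W)
    (htr : ∀ f : W → ℕ,
      (∀ u z : W, Q u = 0 → QuadraticMap.polar (⇑Q) u z = 0 → ∀ x, f (E Q u z x) = f x) →
      ∀ x y : W, x ≠ 0 → y ≠ 0 → Q x = Q y → f x = f y)
    {𝒪 : Type*} [Fintype 𝒪] (C : 𝒪 → AddSubgroup W) (p : ℕ)
    (hS : SiegSym Q p C) (hT : TorSym Q C) (s ℓ κ : ℕ)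
    (hZ : Nat.card {x : W // x ≠ 0 ∧ Q x = 0} = s)
    (hL : ∀ c : F, c ≠ 0 → ℓ ≤ Nat.card {x : W // Q x = c})
    (hκ : ∀ c : F, c ≠ 0 → κ ≤ Nat.card {c' : F // ∃ t : F, t ≠ 0 ∧ c' = t ^ 2 * c})
    {l₀ : W} (h0 : l₀ ≠ 0) (hQ0 : Q l₀ = 0) {l : W} (hl : Q l ≠ 0) :
    Fintype.card 𝒪 + mult C l₀ * s + mult C l * (κ * ℓ) ≤ ∑ O, Nat.card (C O) := by
  classical
  have : Finite W := Module.finite_of_finite F
  let _ : Fintype W := Fintype.ofFinite W
  rw [sum_card_eq_sum_mult C]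
  have hinv := htr (mult C) (fun u z hu huz x => mult_sieg Q C p hS u z hu huz x)
  set Z := Finset.univ.filter (fun x : W => x ≠ 0 ∧ Q x = 0) with hZdef
  set K := Finset.univ.filter (fun x : W => ∃ t : F, t ≠ 0 ∧ Q x = t ^ 2 * Q l) with hKdef
  have hZcard : Z.card = s := by
    rw [← hZ, Nat.card_eq_fintype_card, Fintype.card_subtype]
  have hKcard : κ * ℓ ≤ K.card := card_K_ge Q ℓ κ hL hκ (Q l) hl
  -- values on `Z` and `K`
  have hZval : ∀ x ∈ Z, mult C x = mult C l₀ := by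
    intro x hx
    rw [hZdef, Finset.mem_filter] at hx
    exact hinv x l₀ hx.2.1 h0 (by rw [hx.2.2, hQ0])
  have hKval : ∀ x ∈ K, mult C x = mult C l := by
    intro x hx
    rw [hKdef, Finset.mem_filter] at hx
    obtain ⟨t, ht, hxt⟩ := hx.2
    obtain ⟨ψ, hψ, hmul⟩ := mult_tor Q C hT t ht
    have hl0 : l ≠ 0 := by
      rintro rfl
      exact hl (map_zero Q)
    have hQx : Q x ≠ 0 := by
      rw [hxt]
      exact mul_ne_zero (pow_ne_zero 2 ht) hl
    have hx0 : x ≠ 0 := by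
      rintro rfl
      exact hQx (map_zero Q)
    have hQy : Q (t • ψ l) = Q x := by
      rw [QuadraticMap.map_smul, hψ, hxt, smul_eq_mul]
      ring
    have hy0 : t • ψ l ≠ 0 := by
      intro h
      rw [h, map_zero] at hQy
      exact hQx hQy.symm
    rw [← hmul l]
    exact hinv x (t • ψ l) hx0 hy0 hQy.symm
  -- disjointness
  have hd1 : Disjoint ({0} : Finset W) Z := by
    rw [Finset.disjoint_left]
    intro x hx hxZ
    rw [Finset.mem_singleton] at hx
    rw [hZdef, Finset.mem_filter] at hxZ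
    exact hxZ.2.1 hx
  have hd2 : Disjoint (({0} : Finset W) ∪ Z) K := by
    rw [Finset.disjoint_left]
    intro x hx hxK
    rw [hKdef, Finset.mem_filter] at hxK
    obtain ⟨t, ht, hxt⟩ := hxK.2
    have hQx : Q x ≠ 0 := by
      rw [hxt]
      exact mul_ne_zero (pow_ne_zero 2 ht) hl
    rcases Finset.mem_union.mp hx with h | h
    · rw [Finset.mem_singleton] at h
      rw [h, map_zero] at hQx
      exact hQx rfl
    · rw [hZdef, Finset.mem_filter] at h
      exact hQx h.2.2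
  calc Fintype.card 𝒪 + mult C l₀ * s + mult C l * (κ * ℓ)
      ≤ Fintype.card 𝒪 + mult C l₀ * Z.card + mult C l * K.card := by
        rw [hZcard]
        exact Nat.add_le_add_left (Nat.mul_le_mul_left _ hKcard) _
    _ = ∑ x ∈ (({0} : Finset W) ∪ Z) ∪ K, mult C x := by
        rw [Finset.sum_union hd2, Finset.sum_union hd1, Finset.sum_singleton, mult_zero,
          Finset.sum_congr rfl hZval, Finset.sum_congr rfl hKval, Finset.sum_const,
          Finset.sum_const, smul_eq_mul, smul_eq_mul, mul_comm Z.card, mul_comm K.card]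
    _ ≤ ∑ x : W, mult C x :=
        Finset.sum_le_sum_of_subset (Finset.subset_univ _)

/-- **mass_ts**, hypothesis form. -/
theorem mass_ts_of (Q : QuadraticForm F W)
    (htr : ∀ f : W → ℕ,
      (∀ u z : W, Q u = 0 → QuadraticMap.polar (⇑Q) u z = 0 → ∀ x, f (E Q u z x) = f x) →
      ∀ x y : W, x ≠ 0 → y ≠ 0 → Q x = Q y → f x = f y)
    {𝒪 : Type*} [Fintype 𝒪] (C : 𝒪 → AddSubgroup W) (p : ℕ)
    (hS : SiegSym Q p C) (s : ℕ)
    (hZ : Nat.card {x : W // x ≠ 0 ∧ Q x = 0} = s)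
    {l₀ : W} (h0 : l₀ ≠ 0) (hQ0 : Q l₀ = 0) (hts : ∀ O, ∀ x ∈ C O, Q x = 0) :
    ∑ O, Nat.card (C O) = Fintype.card 𝒪 + mult C l₀ * s := by
  classical
  have : Finite W := Module.finite_of_finite F
  let _ : Fintype W := Fintype.ofFinite W
  rw [sum_card_eq_sum_mult C]
  have hinv := htr (mult C) (fun u z hu huz x => mult_sieg Q C p hS u z hu huz x)
  set Z := Finset.univ.filter (fun x : W => x ≠ 0 ∧ Q x = 0) with hZdef
  have hZcard : Z.card = s := by
    rw [← hZ, Nat.card_eq_fintype_card, Fintype.card_subtype]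
  have hZval : ∀ x ∈ Z, mult C x = mult C l₀ := by
    intro x hx
    rw [hZdef, Finset.mem_filter] at hx
    exact hinv x l₀ hx.2.1 h0 (by rw [hx.2.2, hQ0])
  have hNS : ∀ x : W, Q x ≠ 0 → mult C x = 0 := by
    intro x hx
    unfold mult
    have : IsEmpty {O : 𝒪 // x ∈ C O} := ⟨fun O => hx (hts O.1 x O.2)⟩
    exact Nat.card_of_isEmpty
  have hd1 : Disjoint ({0} : Finset W) Z := by
    rw [Finset.disjoint_left]
    intro x hx hxZ
    rw [Finset.mem_singleton] at hx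
    rw [hZdef, Finset.mem_filter] at hxZ
    exact hxZ.2.1 hx
  have hrest : ∀ x ∈ (Finset.univ : Finset W), x ∉ ({0} : Finset W) ∪ Z → mult C x = 0 := by
    intro x _ hx
    apply hNS
    intro hQx
    apply hx
    by_cases hx0 : x = 0
    · exact Finset.mem_union_left _ (Finset.mem_singleton.mpr hx0)
    · exact Finset.mem_union_right _ (by rw [hZdef, Finset.mem_filter]; exact ⟨Finset.mem_univ _, hx0, hQx⟩)
  rw [← Finset.sum_subset (Finset.subset_univ (({0} : Finset W) ∪ Z)) hrest,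
    Finset.sum_union hd1, Finset.sum_singleton, mult_zero, Finset.sum_congr rfl hZval,
    Finset.sum_const, smul_eq_mul, hZcard, mul_comm]

theorem mass_lower (Q : QuadraticForm F W) (hQ : (QuadraticMap.polarBilin Q).Nondegenerate)
    (hdim : 5 ≤ finrank F W) {𝒪 : Type*} [Fintype 𝒪] (C : 𝒪 → AddSubgroup W) (p : ℕ)
    (hS : SiegSym Q p C) (hT : TorSym Q C) (s ℓ κ : ℕ)
    (hZ : Nat.card {x : W // x ≠ 0 ∧ Q x = 0} = s)
    (hL : ∀ c : F, c ≠ 0 → ℓ ≤ Nat.card {x : W // Q x = c})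
    (hκ : ∀ c : F, c ≠ 0 → κ ≤ Nat.card {c' : F // ∃ t : F, t ≠ 0 ∧ c' = t ^ 2 * c})
    {l₀ : W} (h0 : l₀ ≠ 0) (hQ0 : Q l₀ = 0) {l : W} (hl : Q l ≠ 0) :
    Fintype.card 𝒪 + mult C l₀ * s + mult C l * (κ * ℓ) ≤ ∑ O, Nat.card (C O) :=
  mass_lower_of Q
    (fun f hf _ _ hx hy hxy => Cfsg.Agent.Lib.Helper17_MIO_TR.tr_const Q hQ hdim f hf hx hy hxy)
    C p hS hT s ℓ κ hZ hL hκ h0 hQ0 hl

theorem mass_ts (Q : QuadraticForm F W) (hQ : (QuadraticMap.polarBilin Q).Nondegenerate)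
    (hdim : 5 ≤ finrank F W) {𝒪 : Type*} [Fintype 𝒪] (C : 𝒪 → AddSubgroup W) (p : ℕ)
    (hS : SiegSym Q p C) (s : ℕ)
    (hZ : Nat.card {x : W // x ≠ 0 ∧ Q x = 0} = s)
    {l₀ : W} (h0 : l₀ ≠ 0) (hQ0 : Q l₀ = 0) (hts : ∀ O, ∀ x ∈ C O, Q x = 0) :
    ∑ O, Nat.card (C O) = Fintype.card 𝒪 + mult C l₀ * s :=
  mass_ts_of Q
    (fun f hf _ _ hx hy hxy => Cfsg.Agent.Lib.Helper17_MIO_TR.tr_const Q hQ hdim f hf hx hy hxy)
    C p hS s hZ h0 hQ0 hts

end part1

end Cfsg.Agent.Lib.Helper78_MIO_MASS
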