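import Mathlib
import Cfsg.Agent.Lib.Helper96_T5Defs

set_option autoImplicit false
set_option linter.unusedSectionVars false
set_option linter.unusedVariables false

/-!
MIO-TIGHT5 (S2143 market of helper38; sub-architect helper96): family-level lemmas
(restriction of `SiegSym` to Siegel-invariant subfamilies, invariance of `mult`).
-/

namespace Cfsg.Agent.Lib.Helper96_T5Fam

open Module Cfsg.Agent.Lib.Helper44_QuadClass Cfsg.Agent.Lib.Helper14_OmegaSimple
  Cfsg.Agent.Lib.Helper38_MIODefs Cfsg.Agent.Lib.Helper96_T5Defs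

variable {F W : Type*} [Field F] [AddCommGroup W] [Module F W]

theorem polar_neg_right' (Q : QuadraticForm F W) {u z : W}
    (huz : QuadraticMap.polar (⇑Q) u z = 0) : QuadraticMap.polar (⇑Q) u (-z) = 0 := by
  rw [QuadraticMap.polar_neg_right, huz, neg_zero]

/-- `E u z (E u (-z) x) = x` -/
theorem E_E_neg (Q : QuadraticForm F W) {u z : W} (hu : Q u = 0)
    (huz : QuadraticMap.polar (⇑Q) u z = 0) (x : W) : E Q u z (E Q u (-z) x) = x := by
  have h := E_inv Q hu huz
  have h2 : (E Q u z * (E Q u z)⁻¹) x = x := by rw [mul_inv_cancel]; rfl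
  rw [h] at h2
  exact h2

/-- `E u (-z) (E u z x) = x` -/
theorem E_neg_E (Q : QuadraticForm F W) {u z : W} (hu : Q u = 0)
    (huz : QuadraticMap.polar (⇑Q) u z = 0) (x : W) : E Q u (-z) (E Q u z x) = x := by
  have h := E_inv Q hu huz
  have h2 : ((E Q u z)⁻¹ * E Q u z) x = x := by rw [inv_mul_cancel]; rfl
  rw [h] at h2
  exact h2

theorem Q_E (Q : QuadraticForm F W) {u z : W} (hu : Q u = 0)
    (huz : QuadraticMap.polar (⇑Q) u z = 0) (x : W) : Q (E Q u z x) = Q x :=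
  E_mem_oG Q hu huz x

/-- the backward form of the symmetry -/
theorem siegSym_back (Q : QuadraticForm F W) {𝒪 : Type*} {C : 𝒪 → AddSubgroup W} {u z : W}
    (hu : Q u = 0) (huz : QuadraticMap.polar (⇑Q) u z = 0) {π : Equiv.Perm 𝒪}
    (hπ : ∀ O x, x ∈ C O ↔ E Q u z x ∈ C (π O)) (O : 𝒪) (x : W) :
    x ∈ C (π O) ↔ E Q u (-z) x ∈ C O := by
  rw [hπ O (E Q u (-z) x), E_E_neg Q hu huz]

theorem sub_siegSym (Q : QuadraticForm F W) {𝒪 : Type*} (C : 𝒪 → AddSubgroup W) (p : ℕ)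
    (hS : SiegSym Q p C) (P : AddSubgroup W → Prop) (hP : SiegInv Q P) :
    SiegSym Q p (subFam C P) := by
  intro u z hu huz
  obtain ⟨π, hπp, hπ⟩ := hS u z hu huz
  have hfwd : ∀ O, P (C O) → P (C (π O)) := fun O h => hP u z hu huz _ _ (hπ O) h
  have hbwd : ∀ O, P (C (π O)) → P (C O) := fun O h =>
    hP u (-z) hu (polar_neg_right' Q huz) _ _ (siegSym_back Q hu huz hπ O) h
  refine ⟨π.subtypePerm (fun O => ⟨hbwd O, hfwd O⟩), ?_, ?_⟩
  · rw [Equiv.Perm.subtypePerm_pow]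
    ext ⟨O, hO⟩
    simp [hπp]
  · intro O x
    exact hπ O.1 x

theorem mult_siegel (Q : QuadraticForm F W) {𝒪 : Type*} (C : 𝒪 → AddSubgroup W) (p : ℕ)
    (hS : SiegSym Q p C) {u z : W} (hu : Q u = 0) (huz : QuadraticMap.polar (⇑Q) u z = 0)
    (x : W) : mult C (E Q u z x) = mult C x := by
  obtain ⟨π, -, hπ⟩ := hS u z hu huz
  unfold mult
  refine (Nat.card_congr ?_).symm
  exact π.subtypeEquiv (fun O => hπ O x)

/-- the image of an additive subgroup under a Siegel element has the same cardinality -/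
theorem card_eq_of_siegel (Q : QuadraticForm F W) {u z : W} (hu : Q u = 0)
    (huz : QuadraticMap.polar (⇑Q) u z = 0) (S S' : AddSubgroup W)
    (h : ∀ x, x ∈ S ↔ E Q u z x ∈ S') : Nat.card S = Nat.card S' := by
  refine Nat.card_congr ?_
  refine ⟨fun x => ⟨E Q u z x.1, (h x.1).1 x.2⟩, fun y => ⟨E Q u (-z) y.1, ?_⟩, ?_, ?_⟩
  · rw [h, E_E_neg Q hu huz]; exact y.2
  · intro x; apply Subtype.ext; exact E_neg_E Q hu huz x.1
  · intro y; apply Subtype.ext; exact E_E_neg Q hu huz y.1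

theorem tsnl_siegInv (Q : QuadraticForm F W) : SiegInv Q (TSNL Q) := by
  intro u z hu huz S S' h ⟨hts, hnl⟩
  constructor
  · intro y hy
    have hy' : E Q u (-z) y ∈ S := by
      rw [h, E_E_neg Q hu huz]; exact hy
    have := hts _ hy'
    rwa [Q_E Q hu (polar_neg_right' Q huz)] at this
  · rintro ⟨x, hx⟩
    apply hnl
    refine ⟨E Q u (-z) x, ?_⟩
    intro y hy
    obtain ⟨a, ha⟩ := hx _ ((h y).1 hy)
    refine ⟨a, ?_⟩
    have := congrArg (E Q u (-z)) ha
    rwa [E_neg_E Q hu huz, map_smul] at this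

theorem tsnl_card_siegInv (Q : QuadraticForm F W) (n : ℕ) :
    SiegInv Q (fun S => TSNL Q S ∧ Nat.card S ≠ n) := by
  intro u z hu huz S S' h ⟨h1, h2⟩
  refine ⟨tsnl_siegInv Q u z hu huz S S' h h1, ?_⟩
  rwa [← card_eq_of_siegel Q hu huz S S' h]

/-- the multiplicity in a subfamily is at most the multiplicity -/
theorem mult_subFam_le {𝒪 : Type*} [Finite 𝒪] (C : 𝒪 → AddSubgroup W)
    (P : AddSubgroup W → Prop) (x : W) : mult (subFam C P) x ≤ mult C x := by
  unfold mult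
  refine Nat.card_le_card_of_injective
    (fun O : {O : {O : 𝒪 // P (C O)} // x ∈ subFam C P O} => (⟨O.1.1, O.2⟩ : {O : 𝒪 // x ∈ C O})) ?_
  intro O O' hOO'
  apply Subtype.ext
  apply Subtype.ext
  have h := congrArg Subtype.val hOO'
  exact h

end Cfsg.Agent.Lib.Helper96_T5Fam
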