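import Mathlib
import Cfsg.Agent.Lib.Helper38_MIODefs
import Cfsg.Agent.Lib.Helper38_MIODefs2
import Cfsg.Agent.Lib.Helper96_T5Fam
import Cfsg.Agent.Lib.Helper17_MIO_TR
import Cfsg.Agent.Lib.Helper78_MIO_MASS
import Cfsg.Agent.Lib.Helper24_T5_SPAN
import Cfsg.Agent.Lib.Helper14_Siegel

/-!
# T6-FRAME (helper79's MIO-TIGHT6P market, S2145): a half frame adapted to a totally singular
3-space `P` and a non-zero `l ∈ P`.
-/

set_option autoImplicit false
set_option linter.unusedSectionVars false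
set_option linter.unusedVariables false

namespace Cfsg.Agent.Lib.Helper25_T6_FRAME

open Module Cfsg.Agent.Lib.Helper44_QuadClass Cfsg.Agent.Lib.Helper14_OmegaSimple
  Cfsg.Agent.Lib.Helper38_MIODefs Cfsg.Agent.Lib.Helper38_MIODefs2 Cfsg.Agent.Lib.Helper96_T5Defs
  Cfsg.Agent.Lib.Helper96_T5Fam

variable {F W : Type*} [Field F] [Fintype F] [AddCommGroup W] [Module F W] [FiniteDimensional F W]

/-- a vector outside a subspace is detected by a vector orthogonal to the subspace -/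
theorem exists_dual_vec (Q : QuadraticForm F W) (hQ : (QuadraticMap.polarBilin Q).Nondegenerate)
    (S : Submodule F W) {v : W} (hv : v ∉ S) :
    ∃ w : W, (∀ n ∈ S, QuadraticMap.polar (⇑Q) n w = 0) ∧ QuadraticMap.polar (⇑Q) v w = 1 := by
  have hrefl : (QuadraticMap.polarBilin Q).IsRefl := by
    intro x y h
    rw [QuadraticMap.polarBilin_apply_apply] at h ⊢
    rw [QuadraticMap.polar_comm]; exact h
  have hoo := LinearMap.BilinForm.orthogonal_orthogonal hQ hrefl S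
  have hv' : v ∉ LinearMap.BilinForm.orthogonal (QuadraticMap.polarBilin Q)
      (LinearMap.BilinForm.orthogonal (QuadraticMap.polarBilin Q) S) := by
    rw [hoo]; exact hv
  rw [LinearMap.BilinForm.mem_orthogonal_iff] at hv'
  push Not at hv'
  obtain ⟨w, hw, hwv⟩ := hv'
  rw [LinearMap.BilinForm.mem_orthogonal_iff] at hw
  have hwv' : QuadraticMap.polar (⇑Q) v w ≠ 0 := by
    intro h
    apply hwv
    show QuadraticMap.polarBilin Q w v = 0
    rw [QuadraticMap.polarBilin_apply_apply, QuadraticMap.polar_comm]; exact h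
  refine ⟨(QuadraticMap.polar (⇑Q) v w)⁻¹ • w, ?_, ?_⟩
  · intro n hn
    have := hw n hn
    have h0 : QuadraticMap.polar (⇑Q) n w = 0 := by
      have h1 : QuadraticMap.polarBilin Q n w = 0 := this
      rwa [QuadraticMap.polarBilin_apply_apply] at h1
    rw [QuadraticMap.polar_smul_right, h0, smul_zero]
  · rw [QuadraticMap.polar_smul_right, smul_eq_mul, inv_mul_cancel₀ hwv']

omit [Fintype F] [FiniteDimensional F W] in
theorem polar_ts (Q : QuadraticForm F W) (P : Submodule F W) (hts : ∀ x ∈ P, Q x = 0)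
    {x y : W} (hx : x ∈ P) (hy : y ∈ P) : QuadraticMap.polar (⇑Q) x y = 0 := by
  rw [QuadraticMap.polar, hts _ (P.add_mem hx hy), hts x hx, hts y hy]
  simp

/-! ## T6-FRAME (M/L): a half frame adapted to a t.s. 3-space `P` and `l ∈ P`. -/
theorem exists_half_frame (Q : QuadraticForm F W) (hQ : (QuadraticMap.polarBilin Q).Nondegenerate)
    (hdim : finrank F W = 6) {P : Submodule F W} (hP : IsTS Q 3 P) {l : W} (hl0 : l ≠ 0)
    (hlP : l ∈ P) :
    ∃ e₂ e₃ f₂ f₃ : W, e₂ ∈ P ∧ e₃ ∈ P ∧ Q f₂ = 0 ∧ Q f₃ = 0 ∧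
      QuadraticMap.polar (⇑Q) f₂ f₃ = 0 ∧ QuadraticMap.polar (⇑Q) l f₂ = 0 ∧
      QuadraticMap.polar (⇑Q) l f₃ = 0 ∧ QuadraticMap.polar (⇑Q) e₂ f₂ = 1 ∧
      QuadraticMap.polar (⇑Q) e₃ f₃ = 1 ∧ QuadraticMap.polar (⇑Q) e₂ f₃ = 0 ∧
      QuadraticMap.polar (⇑Q) e₃ f₂ = 0 := by
  classical
  obtain ⟨hP3, hts⟩ := hP
  -- e₂ in P outside the line of l
  obtain ⟨e₂, he₂P, he₂⟩ : ∃ x ∈ P, x ∉ Submodule.span F {l} := by
    by_contra hcon
    push Not at hcon
    have hle : P ≤ Submodule.span F {l} := fun x hx => hcon x hx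
    have h1 := Submodule.finrank_mono hle
    have h2 : finrank F (Submodule.span F {l}) ≤ 1 := by
      have := finrank_span_le_card (R := F) ({l} : Set W)
      simpa using this
    omega
  obtain ⟨g, hgS, hg2⟩ := exists_dual_vec Q hQ (Submodule.span F {l}) he₂
  have hlg : QuadraticMap.polar (⇑Q) l g = 0 := hgS l (Submodule.mem_span_singleton_self l)
  -- e₃' in P outside the plane of l, e₂
  obtain ⟨e₃', he₃'P, he₃'⟩ : ∃ x ∈ P, x ∉ Submodule.span F {l, e₂} := by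
    by_contra hcon
    push Not at hcon
    have hle : P ≤ Submodule.span F {l, e₂} := fun x hx => hcon x hx
    have h1 := Submodule.finrank_mono hle
    have h2 : finrank F (Submodule.span F ({l, e₂} : Set W)) ≤ 2 := by
      have := finrank_span_finset_le_card (R := F) ({l, e₂} : Finset W)
      rw [Finset.coe_insert, Finset.coe_singleton] at this
      exact this.trans Finset.card_le_two
    omega
  obtain ⟨e₃, he₃def⟩ : ∃ x, x = e₃' - QuadraticMap.polar (⇑Q) e₃' g • e₂ := ⟨_, rfl⟩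
  have he₃P : e₃ ∈ P := by
    rw [he₃def]; exact P.sub_mem he₃'P (P.smul_mem _ he₂P)
  have he₃ : e₃ ∉ Submodule.span F {l, e₂} := by
    intro h
    apply he₃'
    have : e₃' = e₃ + QuadraticMap.polar (⇑Q) e₃' g • e₂ := by rw [he₃def]; abel
    rw [this]
    exact Submodule.add_mem _ h
      (Submodule.smul_mem _ _ (Submodule.subset_span (Set.mem_insert_of_mem _ rfl)))
  have he₃g : QuadraticMap.polar (⇑Q) e₃ g = 0 := by
    rw [he₃def, QuadraticMap.polar_sub_left, QuadraticMap.polar_smul_left, hg2]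
    simp
  obtain ⟨h, hhS, hh3⟩ := exists_dual_vec Q hQ (Submodule.span F {l, e₂}) he₃
  have hlh : QuadraticMap.polar (⇑Q) l h = 0 :=
    hhS l (Submodule.subset_span (Set.mem_insert _ _))
  have he₂h : QuadraticMap.polar (⇑Q) e₂ h = 0 :=
    hhS e₂ (Submodule.subset_span (Set.mem_insert_of_mem _ rfl))
  -- facts on P
  have qe₂ : Q e₂ = 0 := hts _ he₂P
  have qe₃ : Q e₃ = 0 := hts _ he₃P
  have ple₂ : QuadraticMap.polar (⇑Q) l e₂ = 0 := polar_ts Q P hts hlP he₂P
  have ple₃ : QuadraticMap.polar (⇑Q) l e₃ = 0 := polar_ts Q P hts hlP he₃P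
  have p23 : QuadraticMap.polar (⇑Q) e₂ e₃ = 0 := polar_ts Q P hts he₂P he₃P
  have p32 : QuadraticMap.polar (⇑Q) e₃ e₂ = 0 := polar_ts Q P hts he₃P he₂P
  have p22 : QuadraticMap.polar (⇑Q) e₂ e₂ = 0 := polar_ts Q P hts he₂P he₂P
  have p33 : QuadraticMap.polar (⇑Q) e₃ e₃ = 0 := polar_ts Q P hts he₃P he₃P
  have hge₂ : QuadraticMap.polar (⇑Q) g e₂ = 1 := by rw [QuadraticMap.polar_comm]; exact hg2
  have hhe₃ : QuadraticMap.polar (⇑Q) h e₃ = 1 := by rw [QuadraticMap.polar_comm]; exact hh3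
  have hhe₂ : QuadraticMap.polar (⇑Q) h e₂ = 0 := by rw [QuadraticMap.polar_comm]; exact he₂h
  -- f₂
  obtain ⟨f₂, hf₂def⟩ : ∃ x, x = g - Q g • e₂ := ⟨_, rfl⟩
  have qf₂ : Q f₂ = 0 := by
    rw [hf₂def, sub_eq_add_neg, ← neg_smul, QuadraticMap.map_add (⇑Q), QuadraticMap.map_smul,
      QuadraticMap.polar_smul_right, qe₂, hge₂]
    simp
  have plf₂ : QuadraticMap.polar (⇑Q) l f₂ = 0 := by
    rw [hf₂def, QuadraticMap.polar_sub_right, QuadraticMap.polar_smul_right, hlg, ple₂]; simp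
  have p2f₂ : QuadraticMap.polar (⇑Q) e₂ f₂ = 1 := by
    rw [hf₂def, QuadraticMap.polar_sub_right, QuadraticMap.polar_smul_right, hg2, p22]; simp
  have p3f₂ : QuadraticMap.polar (⇑Q) e₃ f₂ = 0 := by
    rw [hf₂def, QuadraticMap.polar_sub_right, QuadraticMap.polar_smul_right, he₃g, p32]; simp
  -- f₃''
  obtain ⟨k, hkdef⟩ : ∃ x, x = h - Q h • e₃ := ⟨_, rfl⟩
  have qk : Q k = 0 := by
    rw [hkdef, sub_eq_add_neg, ← neg_smul, QuadraticMap.map_add (⇑Q), QuadraticMap.map_smul,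
      QuadraticMap.polar_smul_right, qe₃, hhe₃]
    simp
  have plk : QuadraticMap.polar (⇑Q) l k = 0 := by
    rw [hkdef, QuadraticMap.polar_sub_right, QuadraticMap.polar_smul_right, hlh, ple₃]; simp
  have p2k : QuadraticMap.polar (⇑Q) e₂ k = 0 := by
    rw [hkdef, QuadraticMap.polar_sub_right, QuadraticMap.polar_smul_right, he₂h, p23]; simp
  have p3k : QuadraticMap.polar (⇑Q) e₃ k = 1 := by
    rw [hkdef, QuadraticMap.polar_sub_right, QuadraticMap.polar_smul_right, hh3, p33]; simp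
  have pk2 : QuadraticMap.polar (⇑Q) k e₂ = 0 := by rw [QuadraticMap.polar_comm]; exact p2k
  have pf₂2 : QuadraticMap.polar (⇑Q) f₂ e₂ = 1 := by rw [QuadraticMap.polar_comm]; exact p2f₂
  -- f₃
  obtain ⟨f₃, hf₃def⟩ : ∃ x, x = k - QuadraticMap.polar (⇑Q) f₂ k • e₂ := ⟨_, rfl⟩
  have qf₃ : Q f₃ = 0 := by
    rw [hf₃def, sub_eq_add_neg, ← neg_smul, QuadraticMap.map_add (⇑Q), QuadraticMap.map_smul,
      QuadraticMap.polar_smul_right, qe₂, qk, pk2]
    simp
  refine ⟨e₂, e₃, f₂, f₃, he₂P, he₃P, qf₂, qf₃, ?_, plf₂, ?_, p2f₂, ?_, ?_, p3f₂⟩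
  · rw [hf₃def, QuadraticMap.polar_sub_right, QuadraticMap.polar_smul_right, pf₂2]; simp
  · rw [hf₃def, QuadraticMap.polar_sub_right, QuadraticMap.polar_smul_right, plk, ple₂]; simp
  · rw [hf₃def, QuadraticMap.polar_sub_right, QuadraticMap.polar_smul_right, p3k, p32]; simp
  · rw [hf₃def, QuadraticMap.polar_sub_right, QuadraticMap.polar_smul_right, p2k, p22]; simp

end Cfsg.Agent.Lib.Helper25_T6_FRAME
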