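import Mathlib
import Cfsg.Agent.Lib.Helper75_TZDefs

set_option autoImplicit false
set_option linter.unusedSectionVars false
set_option linter.unusedVariables false

/-!
# S2524 market (architect helper75), package GEN4: `GL_k` is transitive on the non-zero vectors
-/

namespace Cfsg.Agent.Lib.Helper75_TZ

open Matrix Module
open Cfsg.Agent.Lib.Helper5_SpPerfect Cfsg.Agent.Lib.Helper81_SpWeights
  Cfsg.Agent.Lib.Helper81_JointEigen Cfsg.Agent.Lib.Helper81_Heis Cfsg.Agent.Lib.Helper81_WeilLin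
  Cfsg.Agent.Lib.Helper81_Schrodinger

namespace GEN4aux

/-- `GL(V)` is transitive on nonzero vectors -/
theorem exists_equiv_apply_eq {F : Type*} [Field F] {V : Type*} [AddCommGroup V] [Module F V]
    [Module.Finite F V] (u v : V) (hu : u ≠ 0) (hv : v ≠ 0) : ∃ g : V ≃ₗ[F] V, g u = v := by
  let f : (Submodule.span F {u}) ≃ₗ[F] (Submodule.span F {v}) :=
    (LinearEquiv.toSpanNonzeroSingleton F V u hu).symm ≪≫ₗ
      (LinearEquiv.toSpanNonzeroSingleton F V v hv)
  obtain ⟨g, hg⟩ := Submodule.exists_linearEquiv_restrict_eq f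
  refine ⟨g, ?_⟩
  have h1 := hg ⟨u, Submodule.mem_span_singleton_self u⟩
  rw [← h1]
  have h2 : (LinearEquiv.toSpanNonzeroSingleton F V u hu).symm
      ⟨u, Submodule.mem_span_singleton_self u⟩ = 1 := by
    rw [LinearEquiv.symm_apply_eq]
    exact (LinearEquiv.toSpanNonzeroSingleton_one F V u hu).symm
  show ((LinearEquiv.toSpanNonzeroSingleton F V v hv)
    ((LinearEquiv.toSpanNonzeroSingleton F V u hu).symm
      ⟨u, Submodule.mem_span_singleton_self u⟩) : V) = v
  rw [h2, LinearEquiv.toSpanNonzeroSingleton_one]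

/-- a linear equivalence of a coordinate space as an element of `GL` -/
theorem exists_gl_of_linearEquiv {F : Type*} [Field F] {ι : Type*} [Fintype ι] [DecidableEq ι]
    (φ : (ι → F) ≃ₗ[F] (ι → F)) : ∃ g : GL ι F, ∀ w, (g : Matrix ι ι F).mulVec w = φ w := by
  have h1 : LinearMap.toMatrix' (φ : (ι → F) →ₗ[F] (ι → F)) *
      LinearMap.toMatrix' (φ.symm : (ι → F) →ₗ[F] (ι → F)) = 1 := by
    rw [← LinearMap.toMatrix'_comp]
    have h : (φ : (ι → F) →ₗ[F] (ι → F)) ∘ₗ (φ.symm : (ι → F) →ₗ[F] (ι → F)) = LinearMap.id := by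
      ext w : 1
      simp
    rw [h, LinearMap.toMatrix'_id]
  have h2 : LinearMap.toMatrix' (φ.symm : (ι → F) →ₗ[F] (ι → F)) *
      LinearMap.toMatrix' (φ : (ι → F) →ₗ[F] (ι → F)) = 1 := by
    rw [← LinearMap.toMatrix'_comp]
    have h : (φ.symm : (ι → F) →ₗ[F] (ι → F)) ∘ₗ (φ : (ι → F) →ₗ[F] (ι → F)) = LinearMap.id := by
      ext w : 1
      simp
    rw [h, LinearMap.toMatrix'_id]
  refine ⟨⟨_, _, h1, h2⟩, fun w => ?_⟩
  show (LinearMap.toMatrix' (φ : (ι → F) →ₗ[F] (ι → F))).mulVec w = φ w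
  rw [LinearMap.toMatrix'_mulVec]
  rfl

end GEN4aux

section G

variable {F : Type*} [Field F] [Fintype F] [DecidableEq F] {m : ℕ} {K : Type*} [Field K]
  [IsAlgClosed K] [CharZero K] {Ω : Type*} [AddCommGroup Ω] [Module K Ω] [FiniteDimensional K Ω]
  {M : Type*} [AddCommGroup M] [Module K M] [FiniteDimensional K M]

/-- `GL_k` is transitive on the non-zero vectors -/
theorem exists_GL_mulVec {k : ℕ} (x y : Fin k → F) (hx : x ≠ 0) (hy : y ≠ 0) :
    ∃ A : GL (Fin k) F, A.1 *ᵥ x = y := by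
  obtain ⟨g, hg⟩ := GEN4aux.exists_equiv_apply_eq (F := F) x y hx hy
  obtain ⟨A, hA⟩ := GEN4aux.exists_gl_of_linearEquiv g
  exact ⟨A, by rw [← hg]; exact hA x⟩

end G

end Cfsg.Agent.Lib.Helper75_TZ
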