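import Mathlib
import Cfsg.Agent.Lib.Helper75_TZDefs
import Cfsg.Agent.Lib.Helper82_TZ_S_WDEC
import Cfsg.Agent.Lib.Helper84_TZ_GRPHREL
import Cfsg.Agent.Lib.Helper57_TZ_GEN2
import Cfsg.Agent.Lib.Helper25_TZ_GEN4

set_option autoImplicit false
set_option linter.unusedSectionVars false
set_option linter.unusedVariables false

/-!
# S2524 market (architect helper75), package F2b:
a non-trivial representation of rank `≤ 1` has the weight `T_1` or `T_ε`
-/

namespace Cfsg.Agent.Lib.Helper75_TZ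

open Matrix Module
open Cfsg.Agent.Lib.Helper5_SpPerfect Cfsg.Agent.Lib.Helper81_SpWeights
  Cfsg.Agent.Lib.Helper81_JointEigen Cfsg.Agent.Lib.Helper81_Heis Cfsg.Agent.Lib.Helper81_WeilLin
  Cfsg.Agent.Lib.Helper81_Schrodinger

namespace F2baux

section Mat

variable {F : Type*} [Field F] {m : ℕ}

theorem cong_rk1S'' {n : ℕ} (B : Matrix (Fin n) (Fin n) F) (a : F) (x : Fin n → F) :
    cong B (rk1S a x) = rk1S a (B *ᵥ x) := by
  apply Subtype.ext
  show B * (a • vecMulVec x x) * Bᵀ = a • vecMulVec (B *ᵥ x) (B *ᵥ x)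
  rw [Matrix.mul_smul, Matrix.smul_mul, Matrix.mul_vecMulVec, Matrix.vecMulVec_mul,
    Matrix.vecMul_transpose]

theorem Ta_eq'' (a : F) : (Ta a : symSub (m + 1) F) = rk1S a (e0 : Fin (m + 1) → F) := by
  apply Subtype.ext
  show Matrix.single (0 : Fin (m + 1)) 0 a = a • vecMulVec _ _
  rw [GRPHRELaux.single_eq_vecMulVec]

/-- the transpose-inverse of an element of `GL` -/
def tinv {n : ℕ} (A : GL (Fin n) F) : GL (Fin n) F :=
  ⟨(A⁻¹.1)ᵀ, (A.1)ᵀ,
    by rw [← Matrix.transpose_mul, ← Units.val_mul, mul_inv_cancel, Units.val_one,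
      Matrix.transpose_one],
    by rw [← Matrix.transpose_mul, ← Units.val_mul, inv_mul_cancel, Units.val_one,
      Matrix.transpose_one]⟩

theorem tinv_inv_val {n : ℕ} (A : GL (Fin n) F) : ((tinv A)⁻¹.1)ᵀ = A.1 := by
  show ((A.1)ᵀ)ᵀ = A.1
  rw [Matrix.transpose_transpose]

theorem rk1S_smul_sq {n : ℕ} (a t : F) (x : Fin n → F) :
    (rk1S (a * (t * t)) x : symSub n F) = rk1S a (t • x) := by
  apply Subtype.ext
  show (a * (t * t)) • vecMulVec x x = a • vecMulVec (t • x) (t • x)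
  rw [Matrix.smul_vecMulVec, Matrix.vecMulVec_smul, smul_smul, smul_smul]
  congr 1
  ring

end Mat

section Fin

variable {F : Type*} [Field F] [Fintype F] [DecidableEq F]

/-- every non-zero element is `t²` or `ε t²` -/
theorem sq_or_eps_sq (hodd : Odd (Fintype.card F)) (ε : F) (hε : ¬ IsSquare ε) (a' : F)
    (ha' : a' ≠ 0) : ∃ (a t : F), (a = 1 ∨ a = ε) ∧ t ≠ 0 ∧ a' = a * (t * t) := by
  have hch : ringChar F ≠ 2 := by
    intro h2
    have := FiniteField.even_card_of_char_two h2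
    have h3 := Nat.odd_iff.mp hodd
    omega
  have hε0 : ε ≠ 0 := by
    intro h0
    apply hε
    rw [h0]
    exact IsSquare.zero
  by_cases hsq : IsSquare a'
  · obtain ⟨t, ht⟩ := hsq
    refine ⟨1, t, Or.inl rfl, ?_, by rw [one_mul]; exact ht⟩
    intro h0
    rw [h0, mul_zero] at ht
    exact ha' ht
  · have h1 : quadraticChar F a' = -1 := (quadraticChar_neg_one_iff_not_isSquare).mpr hsq
    have h2 : quadraticChar F ε = -1 := (quadraticChar_neg_one_iff_not_isSquare).mpr hε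
    have h3 : quadraticChar F (a' / ε) = 1 := by
      rw [div_eq_mul_inv, map_mul, h1, quadraticChar_apply, quadraticCharFun, if_neg (inv_ne_zero hε0)]
      have : IsSquare ε⁻¹ ↔ IsSquare ε := isSquare_inv
      rw [if_neg (by rwa [this])]
      norm_num
    have hne : a' / ε ≠ 0 := div_ne_zero ha' hε0
    obtain ⟨t, ht⟩ := (quadraticChar_one_iff_isSquare hne).mp h3
    refine ⟨ε, t, Or.inr rfl, ?_, ?_⟩
    · intro h0
      rw [h0, mul_zero] at ht
      exact hne ht
    · rw [← ht]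
      field_simp

end Fin

end F2baux

section Fpart

variable {F : Type*} [Field F] [Fintype F] [DecidableEq F] {m : ℕ} {K : Type*} [Field K]
  [IsAlgClosed K] [CharZero K] {M : Type*} [AddCommGroup M] [Module K M] [FiniteDimensional K M]

/-- PACKAGE F2b: a non-trivial representation of rank `≤ 1` has the weight `T_1` or `T_ε`. -/
theorem exists_Ta_weight (ψ₀ : AddChar F K) (hψ₀ : ψ₀ ≠ 1) (hodd : Odd (Fintype.card F)) (ε : F)
    (hε : ¬ IsSquare ε) (R : SpG (m + 1) F →* Module.End K M) (hrk : RankLeOne R ψ₀)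
    (hnt : ∃ g, R g ≠ 1) : ∃ a : F, (a = 1 ∨ a = ε) ∧ wsp R ψ₀ (Ta a) ≠ ⊥ := by
  classical
  -- a non-zero weight
  have hex : ∃ T : symSub (m + 1) F, T ≠ 0 ∧ wsp R ψ₀ T ≠ ⊥ := by
    by_contra hcon
    push Not at hcon
    obtain ⟨g, hg⟩ := hnt
    apply hg
    refine hom_trivial_of_xs (by omega) R ?_ g
    intro S
    apply LinearMap.ext
    intro x
    have hx : x ∈ (⨆ T : symSub (m + 1) F, wsp R ψ₀ T) := by
      rw [iSup_wsp ψ₀ hψ₀ hodd R]; trivial
    have hle : (⨆ T : symSub (m + 1) F, wsp R ψ₀ T) ≤ wsp R ψ₀ 0 := by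
      apply iSup_le
      intro T
      by_cases hT : T = 0
      · rw [hT]
      · rw [hcon T hT]; exact bot_le
    have hx0 := hle hx
    rw [mem_wsp] at hx0
    have := hx0 S
    rw [map_zero, AddChar.map_zero_eq_one, one_smul] at this
    rw [this]
    rfl
  obtain ⟨T, hT0, hT⟩ := hex
  obtain ⟨a', x, hTx⟩ := hrk T hT
  have ha' : a' ≠ 0 := by
    intro h0
    apply hT0
    apply Subtype.ext
    rw [hTx, h0, zero_smul]
    rfl
  have hx0 : x ≠ 0 := by
    intro h0
    apply hT0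
    apply Subtype.ext
    rw [hTx, h0, Matrix.vecMulVec_zero, smul_zero]
    rfl
  obtain ⟨a, t, hat, ht0, hat'⟩ := F2baux.sq_or_eps_sq hodd ε hε a' ha'
  have hTeq : T = rk1S a (t • x) := by
    rw [← F2baux.rk1S_smul_sq, ← hat']
    apply Subtype.ext
    exact hTx
  have htx : t • x ≠ 0 := smul_ne_zero ht0 hx0
  have he0 : (e0 : Fin (m + 1) → F) ≠ 0 := by
    intro h0
    have := congrFun h0 0
    simp [e0] at this
  obtain ⟨A, hA⟩ := exists_GL_mulVec (t • x) (e0 : Fin (m + 1) → F) htx he0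
  refine ⟨a, hat, ?_⟩
  obtain ⟨v, hv, hv0⟩ := (Submodule.ne_bot_iff _).mp hT
  have h1 := lgH_wsp ψ₀ R (F2baux.tinv A) T v hv
  rw [F2baux.tinv_inv_val, hTeq, F2baux.cong_rk1S'', hA, ← F2baux.Ta_eq''] at h1
  rw [Submodule.ne_bot_iff]
  refine ⟨_, h1, ?_⟩
  intro h0
  apply hv0
  have h2 : R (lgH (F2baux.tinv A))⁻¹ (R (lgH (F2baux.tinv A)) v) = v := by
    rw [← Module.End.mul_apply, ← map_mul, inv_mul_cancel, map_one]
    rfl
  rw [h0, map_zero] at h2
  exact h2.symm

end Fpart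

end Cfsg.Agent.Lib.Helper75_TZ
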