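import Mathlib
import Cfsg.Agent.Lib.Helper75_TZDefs
import Cfsg.Agent.Lib.Helper5_SLGen

set_option autoImplicit false
set_option linter.unusedSectionVars false
set_option linter.unusedVariables false

/-!
# S2524 market (architect helper75), package GEN3:
`GL_(m+1)` is generated by the elementary matrices and `1 ⊕ GL_m` (`m ≥ 1`)
-/

namespace Cfsg.Agent.Lib.Helper75_TZ

open Matrix Module
open Cfsg.Agent.Lib.Helper5_SpPerfect Cfsg.Agent.Lib.Helper81_SpWeights
  Cfsg.Agent.Lib.Helper81_JointEigen Cfsg.Agent.Lib.Helper81_Heis Cfsg.Agent.Lib.Helper81_WeilLin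
  Cfsg.Agent.Lib.Helper81_Schrodinger

namespace GEN3aux

variable {F : Type*} [Field F] {m : ℕ}

/-- the determinant of `[[c,0],[0,A]]` -/
theorem det_ext0 (c : F) (A : Matrix (Fin m) (Fin m) F) : (ext0 c A).det = c * A.det := by
  rw [Matrix.det_succ_row_zero, Fin.sum_univ_succ]
  have h0 : (ext0 c A).submatrix Fin.succ (Fin.succAbove (0 : Fin (m + 1))) = A := by
    ext i j
    simp [Matrix.submatrix_apply]
  rw [h0]
  have hrest : ∑ i : Fin m, (-1 : F) ^ (i.succ : ℕ) * ext0 c A 0 i.succ *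
      ((ext0 c A).submatrix Fin.succ i.succ.succAbove).det = 0 := by
    apply Finset.sum_eq_zero
    intro i _
    rw [ext0_zero_succ, mul_zero, zero_mul]
  rw [hrest, add_zero]
  simp

/-- a matrix in `GL_m` with prescribed determinant (`m ≥ 1`) -/
theorem exists_GL_det (hm : 1 ≤ m) (δ : F) (hδ : δ ≠ 0) : ∃ D : GL (Fin m) F, D.1.det = δ := by
  classical
  let i0 : Fin m := ⟨0, hm⟩
  let d : Fin m → F := Function.update (fun _ => (1 : F)) i0 δ
  have hdet : (Matrix.diagonal d).det = δ := by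
    rw [Matrix.det_diagonal]
    rw [Finset.prod_update_of_mem (Finset.mem_univ i0)]
    simp
  have hne : (Matrix.diagonal d).det ≠ 0 := by rw [hdet]; exact hδ
  refine ⟨Matrix.GeneralLinearGroup.mkOfDetNeZero (Matrix.diagonal d) hne, ?_⟩
  exact hdet

end GEN3aux

section GEN

variable {F : Type*} [Field F] {m : ℕ}

/-- PACKAGE GEN3: `GL_(m+1)` is generated by the elementary matrices and `1 ⊕ GL_m` (`m ≥ 1`) -/
theorem closure_elem_ext0 (hm : 1 ≤ m) :
    Subgroup.closure ({A : GL (Fin (m + 1)) F | ∃ (j k : Fin (m + 1)) (hjk : j ≠ k) (s : F),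
      A = elemGL j k hjk s} ∪ Set.range (ext0GL : GL (Fin m) F → GL (Fin (m + 1)) F)) = ⊤ := by
  classical
  rw [eq_top_iff]
  intro M _
  set H := Subgroup.closure ({A : GL (Fin (m + 1)) F | ∃ (j k : Fin (m + 1)) (hjk : j ≠ k) (s : F),
      A = elemGL j k hjk s} ∪ Set.range (ext0GL : GL (Fin m) F → GL (Fin (m + 1)) F)) with hH
  have hMdet : M.1.det ≠ 0 := by
    have := M.isUnit.map (Matrix.detMonoidHom (n := Fin (m + 1)) (R := F))
    exact this.ne_zero
  obtain ⟨D, hD⟩ := GEN3aux.exists_GL_det hm M.1.det hMdet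
  have hDH : ext0GL D ∈ H := Subgroup.subset_closure (Or.inr ⟨D, rfl⟩)
  have hdetD : (ext0GL D).1.det = M.1.det := by
    show (ext0 1 D.1).det = M.1.det
    rw [GEN3aux.det_ext0, one_mul, hD]
  -- the `SL` part
  have hN : (M * (ext0GL D)⁻¹).1.det = 1 := by
    rw [Units.val_mul, Matrix.det_mul]
    have h1 : ((ext0GL D)⁻¹).1.det * (ext0GL D).1.det = 1 := by
      rw [← Matrix.det_mul, ← Units.val_mul, inv_mul_cancel, Units.val_one, Matrix.det_one]
    rw [hdetD] at h1
    rw [mul_comm]; exact h1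
  have hnt : Nontrivial (Fin (m + 1)) := Fin.nontrivial_iff_two_le.mpr (by omega)
  have hSL : ∀ S : Matrix.SpecialLinearGroup (Fin (m + 1)) F,
      ∀ g : GL (Fin (m + 1)) F, g.1 = S.1 → g ∈ H := by
    intro S
    refine Cfsg.Agent.Lib.Helper5_SLGen.transvection_induction
      (fun S => ∀ g : GL (Fin (m + 1)) F, g.1 = S.1 → g ∈ H) ?_ ?_ S
    · intro i j hij c g hg
      have : g = elemGL i j hij c := by
        apply Units.ext
        rw [hg]
        rfl
      rw [this]
      exact Subgroup.subset_closure (Or.inl ⟨i, j, hij, c, rfl⟩)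
    · intro A B hA hB g hg
      have hAu : IsUnit A.1 := by
        rw [Matrix.isUnit_iff_isUnit_det, A.2]; exact isUnit_one
      have hBu : IsUnit B.1 := by
        rw [Matrix.isUnit_iff_isUnit_det, B.2]; exact isUnit_one
      have h1 := hA hAu.unit rfl
      have h2 := hB hBu.unit rfl
      have : g = hAu.unit * hBu.unit := by
        apply Units.ext
        rw [hg, Units.val_mul]
        rfl
      rw [this]
      exact H.mul_mem h1 h2
  have h3 := hSL ⟨(M * (ext0GL D)⁻¹).1, hN⟩ (M * (ext0GL D)⁻¹) rfl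
  have : M = M * (ext0GL D)⁻¹ * ext0GL D := by group
  rw [this]
  exact H.mul_mem h3 hDH

end GEN

end Cfsg.Agent.Lib.Helper75_TZ
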