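import Mathlib
import Cfsg.Agent.Lib.Helper75_TZDefs
import Cfsg.Agent.Lib.Helper82_TZ_S_WDEC
import Cfsg.Agent.Lib.Helper84_TZ_GRPHREL
import Cfsg.Agent.Lib.Helper85_TZ_SZDEC

set_option autoImplicit false
set_option linter.unusedSectionVars false
set_option linter.unusedVariables false

/-!
# S2524 market (architect helper75), package S5i: the maps `f_v`
-/

namespace Cfsg.Agent.Lib.Helper75_TZ

open Matrix Module
open Cfsg.Agent.Lib.Helper5_SpPerfect Cfsg.Agent.Lib.Helper81_SpWeights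
  Cfsg.Agent.Lib.Helper81_JointEigen Cfsg.Agent.Lib.Helper81_Heis Cfsg.Agent.Lib.Helper81_WeilLin
  Cfsg.Agent.Lib.Helper81_Schrodinger

namespace S5iaux

section Mat

variable {F : Type*} [Field F] {m : ℕ}

theorem one_add_vmv_mulVec {n : ℕ} (w v x : Fin n → F) :
    (1 + vecMulVec w v) *ᵥ x = x + (v ⬝ᵥ x) • w := by
  rw [Matrix.add_mulVec, Matrix.one_mulVec]
  congr 1
  ext i
  simp only [Matrix.mulVec, dotProduct, vecMulVec_apply, Pi.smul_apply, smul_eq_mul,
    Finset.sum_mul]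
  apply Finset.sum_congr rfl
  intro j _
  ring

/-- `(1 + t e₀ᵀ) (c ; s) = (c ; s + c t)` -/
theorem yAT_mulVec_cons (t s : Fin m → F) (c : F) :
    (yA t)ᵀ *ᵥ (Fin.cons c s : Fin (m + 1) → F) = Fin.cons c (s + c • t) := by
  rw [GRPHRELaux.yA_transpose, one_add_vmv_mulVec]
  have h1 : (e0 : Fin (m + 1) → F) ⬝ᵥ (Fin.cons c s : Fin (m + 1) → F) = c := by
    unfold e0
    rw [single_dotProduct, one_mul]
    rfl
  rw [h1]
  ext i
  refine Fin.cases ?_ (fun j => ?_) i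
  · simp
  · simp

theorem cong_rk1S' {n : ℕ} (B : Matrix (Fin n) (Fin n) F) (a : F) (x : Fin n → F) :
    cong B (rk1S a x) = rk1S a (B *ᵥ x) := by
  apply Subtype.ext
  show B * (a • vecMulVec x x) * Bᵀ = a • vecMulVec (B *ᵥ x) (B *ᵥ x)
  rw [Matrix.mul_smul, Matrix.smul_mul, Matrix.mul_vecMulVec, Matrix.vecMulVec_mul,
    Matrix.vecMul_transpose]

theorem Ta_eq' (a : F) : (Ta a : symSub (m + 1) F) = rk1S a (Fin.cons 1 (0 : Fin m → F)) := by
  apply Subtype.ext
  show Matrix.single (0 : Fin (m + 1)) 0 a = a • vecMulVec _ _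
  rw [GRPHRELaux.single_eq_vecMulVec]
  have : (e0 : Fin (m + 1) → F) = Fin.cons 1 (0 : Fin m → F) := by
    ext i
    refine Fin.cases ?_ (fun j => ?_) i
    · simp [e0]
    · simp [e0, Fin.succ_ne_zero]
  rw [this]

/-- the weights `a (1;s)(1;s)ᵀ` are pairwise distinct -/
theorem rk1S_cons_injective {a : F} (ha : a ≠ 0) :
    Function.Injective (fun s : Fin m → F => (rk1S a (Fin.cons 1 s) : symSub (m + 1) F)) := by
  intro s s' h
  have h1 := congrArg (fun T : symSub (m + 1) F => T.1) h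
  funext j
  have h2 := congrFun (congrFun h1 0) j.succ
  simp only [rk1S, Matrix.smul_apply, vecMulVec_apply, Fin.cons_zero, Fin.cons_succ, one_mul,
    smul_eq_mul] at h2
  exact mul_left_cancel₀ ha h2

theorem rk1S_cons_corner (a : F) (s : Fin m → F) :
    (rk1S a (Fin.cons 1 s) : symSub (m + 1) F).1 0 0 = a := by
  simp [rk1S, vecMulVec_apply]

end Mat

section Rep

variable {F : Type*} [Field F] [Fintype F] [DecidableEq F] {m : ℕ} {K : Type*} [Field K]
  [IsAlgClosed K] [CharZero K] {M : Type*} [AddCommGroup M] [Module K M] [FiniteDimensional K M]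

/-- `y(t)` moves the weight `a (c;s)(c;s)ᵀ` to `a (c;s - c t)(c;s - c t)ᵀ` -/
theorem yt_wsp (ψ₀ : AddChar F K) (R : SpG (m + 1) F →* Module.End K M) (a c : F)
    (s t : Fin m → F) (v : M) (hv : v ∈ wsp R ψ₀ (rk1S a (Fin.cons c s))) :
    R (yt t) v ∈ wsp R ψ₀ (rk1S a (Fin.cons c (s + c • (-t)))) := by
  rw [yt_eq_lgH]
  have h := lgH_wsp ψ₀ R ⟨yA t, yA (-t), by rw [yA_mul, add_neg_cancel, yA_zero],
      by rw [yA_mul, neg_add_cancel, yA_zero]⟩ (rk1S a (Fin.cons c s)) v hv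
  have e : cong ((⟨yA t, yA (-t), by rw [yA_mul, add_neg_cancel, yA_zero],
      by rw [yA_mul, neg_add_cancel, yA_zero]⟩ : GL (Fin (m + 1)) F)⁻¹.1)ᵀ
      (rk1S a (Fin.cons c s)) = rk1S a (Fin.cons c (s + c • (-t))) := by
    show cong (yA (-t))ᵀ (rk1S a (Fin.cons c s)) = _
    rw [cong_rk1S', yAT_mulVec_cons]
  rw [e] at h
  exact h

theorem yt_neg_yt (R : SpG (m + 1) F →* Module.End K M) (s : Fin m → F) (v : M) :
    R (yt (-s)) (R (yt s) v) = v := by
  rw [← Module.End.mul_apply, ← map_mul, ← yt_add, neg_add_cancel]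
  have : (yt (0 : Fin m → F) : SpG (m + 1) F) = 1 := by
    have h := yt_add (0 : Fin m → F) (0 : Fin m → F)
    rw [add_zero] at h
    exact (mul_eq_left).mp h.symm
  rw [this, map_one]
  rfl

theorem wsp_Ta_le_zsp (ψ₀ : AddChar F K) (R : SpG (m + 1) F →* Module.End K M) (a : F) (v : M)
    (hv : v ∈ wsp R ψ₀ (Ta a)) : v ∈ zsp R ψ₀ a := by
  rw [mem_zsp]
  intro c
  rw [mem_wsp] at hv
  have h := hv (zS c)
  have e : trP (zS c) (Ta a : symSub (m + 1) F) = c * a := by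
    rw [trP_apply]
    show Matrix.trace (Matrix.single (0 : Fin (m + 1)) 0 c * Matrix.single (0 : Fin (m + 1)) 0 a) = c * a
    rw [Matrix.single_mul_single_same, Matrix.trace_single_eq_same]
  rw [e] at h
  exact h

theorem yt_zsp (ψ₀ : AddChar F K) (R : SpG (m + 1) F →* Module.End K M) (a : F) (t : Fin m → F)
    (v : M) (hv : v ∈ zsp R ψ₀ a) : R (yt t) v ∈ zsp R ψ₀ a := by
  rw [mem_zsp] at hv ⊢
  intro c
  rw [← Module.End.mul_apply, ← map_mul, ← yt_comm_zc, map_mul, Module.End.mul_apply, hv c,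
    map_smul]

/-- the shape of a weight with non-zero corner (rank `≤ 1`); own copy of the first half of package S1 -/
theorem corner_ne' (ψ₀ : AddChar F K) (R : SpG (m + 1) F →* Module.End K M)
    (hrk : RankLeOne R ψ₀) (T : symSub (m + 1) F) (hT : wsp R ψ₀ T ≠ ⊥) (ha : T.1 0 0 ≠ 0) :
    ∃ s : Fin m → F, T = rk1S (T.1 0 0) (Fin.cons 1 s) := by
  obtain ⟨a', x, hTx⟩ := hrk T hT
  have h00 : T.1 0 0 = a' * (x 0 * x 0) := by
    rw [hTx]
    simp [vecMulVec_apply]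
  have hx0 : x 0 ≠ 0 := by
    intro h0
    apply ha
    rw [h00, h0, mul_zero, mul_zero]
  refine ⟨fun j => x j.succ / x 0, ?_⟩
  apply Subtype.ext
  show T.1 = T.1 0 0 • vecMulVec _ _
  rw [h00]
  conv_lhs => rw [hTx]
  ext i j
  simp only [Matrix.smul_apply, vecMulVec_apply, smul_eq_mul]
  refine Fin.cases ?_ (fun i' => ?_) i <;> refine Fin.cases ?_ (fun j' => ?_) j
  · simp
  · simp only [Fin.cons_zero, Fin.cons_succ]
    field_simp
  · simp only [Fin.cons_zero, Fin.cons_succ]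
    field_simp
  · simp only [Fin.cons_succ]
    field_simp

end Rep

end S5iaux

section S

variable {F : Type*} [Field F] [Fintype F] [DecidableEq F] {m : ℕ} {K : Type*} [Field K]
  [IsAlgClosed K] [CharZero K] {M : Type*} [AddCommGroup M] [Module K M] [FiniteDimensional K M]

/-- PACKAGE S5i: the maps `f_v` -/
theorem fv_dl (R : SpG (m + 1) F →* Module.End K M) (v : M) (s : Fin m → F) :
    fv R v (dl s) = R (yt (-s)) v := by
  rw [fv_apply, Finset.sum_eq_single s]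
  · simp [dl]
  · intro s' _ hne
    simp [dl, hne]
  · intro h
    exact absurd (Finset.mem_univ s) h

theorem fv_dl_mem (ψ₀ : AddChar F K) (R : SpG (m + 1) F →* Module.End K M) (a : F) (v : M)
    (hv : v ∈ wsp R ψ₀ (Ta a)) (s : Fin m → F) :
    fv R v (dl s) ∈ wsp R ψ₀ (rk1S a (Fin.cons 1 s)) := by
  rw [fv_dl]
  rw [S5iaux.Ta_eq'] at hv
  have h := S5iaux.yt_wsp ψ₀ R a 1 0 (-s) v hv
  have e : (0 : Fin m → F) + (1 : F) • (-(-s)) = s := by
    rw [neg_neg, one_smul, zero_add]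
  rw [e] at h
  exact h

theorem zsp_eq_sum_fv (ψ₀ : AddChar F K) (hψ₀ : ψ₀ ≠ 1) (hodd : Odd (Fintype.card F))
    (R : SpG (m + 1) F →* Module.End K M) (hrk : RankLeOne R ψ₀) {a : F} (ha : a ≠ 0) (w : M)
    (hw : w ∈ zsp R ψ₀ a) :
    ∃ vs : (Fin m → F) → M, (∀ s, vs s ∈ wsp R ψ₀ (Ta a)) ∧ w = ∑ s, fv R (vs s) (dl s) := by
  classical
  rw [zsp_eq_iSup ψ₀ hψ₀ hodd R a, Submodule.mem_iSup_iff_exists_finsupp] at hw
  obtain ⟨f, hf, hsum⟩ := hw
  rw [Finsupp.sum_fintype _ _ (fun _ => rfl)] at hsum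
  -- the embedding `s ↦ T_s`
  let e : (Fin m → F) → {T : symSub (m + 1) F // T.1 0 0 = a} :=
    fun s => ⟨rk1S a (Fin.cons 1 s), S5iaux.rk1S_cons_corner a s⟩
  have he : Function.Injective e := by
    intro s s' h
    exact S5iaux.rk1S_cons_injective ha (congrArg Subtype.val h)
  have hzero : ∀ T : {T : symSub (m + 1) F // T.1 0 0 = a}, T ∉ Set.range e → f T = 0 := by
    intro T hT
    by_contra hne
    apply hT
    have hne' : wsp R ψ₀ T.1 ≠ ⊥ := by
      intro hbot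
      have := hf T
      rw [hbot, Submodule.mem_bot] at this
      exact hne this
    obtain ⟨s, hs⟩ := S5iaux.corner_ne' ψ₀ R hrk T.1 hne' (by rw [T.2]; exact ha)
    refine ⟨s, ?_⟩
    apply Subtype.ext
    show rk1S a (Fin.cons 1 s) = T.1
    rw [hs, T.2]
  have hsum' : ∑ s : Fin m → F, f (e s) = w := by
    rw [← hsum]
    exact Fintype.sum_of_injective e he (fun s => f (e s)) (fun T => f T) hzero (fun s => rfl)
  refine ⟨fun s => R (yt s) (f (e s)), ?_, ?_⟩
  · intro s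
    have h1 : f (e s) ∈ wsp R ψ₀ (rk1S a (Fin.cons 1 s)) := hf (e s)
    have h2 := S5iaux.yt_wsp ψ₀ R a 1 s s (f (e s)) h1
    have e1 : s + (1 : F) • (-s) = 0 := by rw [one_smul, add_neg_cancel]
    rw [e1, ← S5iaux.Ta_eq'] at h2
    exact h2
  · rw [← hsum']
    apply Finset.sum_congr rfl
    intro s _
    rw [fv_dl, S5iaux.yt_neg_yt]

theorem fv_mem_zsp (ψ₀ : AddChar F K) (R : SpG (m + 1) F →* Module.End K M) (a : F) (v : M)
    (hv : v ∈ wsp R ψ₀ (Ta a)) (φ : (Fin m → F) → K) : fv R v φ ∈ zsp R ψ₀ a := by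
  rw [fv_apply]
  apply Submodule.sum_mem
  intro s _
  apply Submodule.smul_mem
  exact S5iaux.yt_zsp ψ₀ R a (-s) v (S5iaux.wsp_Ta_le_zsp ψ₀ R a v hv)

theorem fv_injective (ψ₀ : AddChar F K) (hψ₀ : ψ₀ ≠ 1) (hodd : Odd (Fintype.card F))
    (R : SpG (m + 1) F →* Module.End K M) {a : F} (ha : a ≠ 0) (v : M)
    (hv : v ∈ wsp R ψ₀ (Ta a)) (hv0 : v ≠ 0) : Function.Injective (fv R v) := by
  classical
  rw [injective_iff_map_eq_zero]
  intro φ hφ
  rw [fv_apply] at hφ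
  have hind : iSupIndep (fun s : Fin m → F => wsp R ψ₀ (rk1S a (Fin.cons 1 s))) :=
    (iSupIndep_wsp ψ₀ hψ₀ hodd R).comp (S5iaux.rk1S_cons_injective ha)
  have hmem : ∀ s : Fin m → F, R (yt (-s)) v ∈ wsp R ψ₀ (rk1S a (Fin.cons 1 s)) := by
    intro s
    have := fv_dl_mem ψ₀ R a v hv s
    rwa [fv_dl] at this
  have hne : ∀ s : Fin m → F, R (yt (-s)) v ≠ 0 := by
    intro s h0
    apply hv0
    have h1 := S5iaux.yt_neg_yt R (-s) v
    rw [neg_neg, h0, map_zero] at h1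
    exact h1.symm
  have hli : LinearIndependent K (fun s : Fin m → F => R (yt (-s)) v) :=
    hind.linearIndependent _ hmem hne
  have := Fintype.linearIndependent_iff.mp hli φ hφ
  funext s
  exact this s

end S

end Cfsg.Agent.Lib.Helper75_TZ
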