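import Cfsg.Agent.Lib.Helper25_TypePGrp
import Cfsg.Agent.Lib.Helper25_AbDual
import Cfsg.Agent.Lib.Helper25_Coh3
import Cfsg.Agent.Lib.Helper75_Induced
import Cfsg.Agent.Lib.Helper75_IndChar
import Cfsg.Agent.Lib.Helper79_Linear
import Cfsg.Agent.Lib.Helper3_CharOrtho
import Cfsg.Agent.Lib.Helper3_CharBridge

/-!
# Exceptional characters of `L = K ⋊ W₁` with `C_K(x) = W₂` (helper25)

Induction from `W = W₁ ⊔ W₂` to `L` is an isometry on functions vanishing on `W₂`; the differences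
`Ind (ω - ω')` for `ω`, `ω'` agreeing on `W₂` have the form `δ (μ ω - μ ω')`.
-/

set_option autoImplicit false
set_option linter.style.haveILetI false
open scoped ComplexConjugate

namespace Cfsg.Agent.Lib.Helper25_TypePExc

open Cfsg Cfsg.Agent.Lib.Helper25_TypeP Cfsg.Agent.Lib.Helper25_TypePGrp
  Cfsg.Agent.Lib.Helper75_Induced Cfsg.Agent.Lib.Helper3_CharOrtho
  Cfsg.Agent.Lib.Helper3_CharBridge

variable {L : Type*} [Group L] [Fintype L] (K W₁ W₂ : Subgroup L) [hK : K.Normal]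

/-- The hypotheses on `L = K ⋊ W₁`. -/
structure Hyp : Prop where
  hKW₁ : K ⊓ W₁ = ⊥
  hKW₁' : K ⊔ W₁ = ⊤
  hW₁ : W₁ ≠ ⊥
  hW₁c : IsCyclic W₁
  hHall : Nat.Coprime (Nat.card W₁) W₁.index
  hW₂c : IsCyclic W₂
  hW₂K : W₂ ≤ K
  hC : ∀ x ∈ W₁, x ≠ 1 → K ⊓ Subgroup.centralizer ({x} : Set L) = W₂
  hodd : Odd (Nat.card ↥(W₁ ⊔ W₂))

variable {K W₁ W₂}

namespace Hyp

variable (h : Hyp K W₁ W₂)
include h

omit [Fintype L] hK in
theorem comm (u v : ↥(W₁ ⊔ W₂)) : u * v = v * u :=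
  Subtype.ext (comm_W K W₁ W₂ h.hW₁c h.hW₂c h.hC u.2 v.2)

/-- Values of induced functions on `W - W₂`. -/
theorem indFun_apply_of_not_mem (α : ↥(W₁ ⊔ W₂) → ℂ) (a : ↥(W₁ ⊔ W₂)) (ha : (a : L) ∉ W₂) :
    Cfsg.indFun (W₁ ⊔ W₂) α (a : L) = α a := by
  classical
  rw [indFun_apply]
  have key : ∀ x : L, Cfsg.extendByZero (W₁ ⊔ W₂) α (x⁻¹ * (a : L) * x) =
      if x ∈ W₁ ⊔ W₂ then α a else 0 := by
    intro x
    by_cases hx : x ∈ W₁ ⊔ W₂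
    · rw [if_pos hx]
      have h1 : x⁻¹ * (a : L) * x = (a : L) := by
        have := comm_W K W₁ W₂ h.hW₁c h.hW₂c h.hC a.2 hx
        rw [mul_assoc, this]; group
      rw [h1, extendByZero_coe]
    · rw [if_neg hx]
      apply extendByZero_of_not_mem
      intro hc
      exact hx (mem_of_conj_mem K W₁ W₂ h.hKW₁ h.hKW₁' h.hW₁c h.hHall h.hW₂K h.hC a.2 ha hc)
  simp_rw [key]
  rw [Finset.sum_ite, Finset.sum_const_zero, add_zero, Finset.sum_const, nsmul_eq_mul,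
    ← Fintype.card_subtype, ← Nat.card_eq_fintype_card]
  have hW0 : (Nat.card ↥(W₁ ⊔ W₂) : ℂ) ≠ 0 := by
    rw [Nat.cast_ne_zero]; exact Nat.card_pos.ne'
  show (Nat.card ↥(W₁ ⊔ W₂) : ℂ)⁻¹ * ((Nat.card ↥(W₁ ⊔ W₂) : ℂ) * α a) = α a
  field_simp

variable [Fintype ↥(W₁ ⊔ W₂)]

/-- Induction is an isometry on functions vanishing on `W₂`. -/
theorem classInner_ind_ind (α β : ↥(W₁ ⊔ W₂) → ℂ)
    (hα : ∀ w : ↥(W₁ ⊔ W₂), (w : L) ∈ W₂ → α w = 0) :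
    Cfsg.classInner (Cfsg.indFun (W₁ ⊔ W₂) α) (Cfsg.indFun (W₁ ⊔ W₂) β) =
      Cfsg.classInner α β := by
  rw [frobenius_reciprocity (W₁ ⊔ W₂) α _ (isClassFunction_indFun (W₁ ⊔ W₂) β)]
  unfold Cfsg.classInner
  congr 1
  refine Finset.sum_congr rfl fun w _ => ?_
  by_cases hw : (w : L) ∈ W₂
  · rw [hα w hw, zero_mul, zero_mul]
  · show α w * conj (Cfsg.indFun (W₁ ⊔ W₂) β (w : L)) = _
    rw [h.indFun_apply_of_not_mem β w hw]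

end Hyp

section chars

variable {W : Type*} [Group W]

/-- A linear character as a complex-valued function. -/
def cf (ω : W →* ℂˣ) : W → ℂ := fun w => ((ω w : ℂˣ) : ℂ)

theorem cf_apply (ω : W →* ℂˣ) (w : W) : cf ω w = ((ω w : ℂˣ) : ℂ) := rfl

theorem cf_injective : Function.Injective (cf : (W →* ℂˣ) → W → ℂ) := by
  intro ω ζ hωζ
  ext w
  exact congrFun hωζ w

theorem isIrr_cf (ω : W →* ℂˣ) : Cfsg.IsIrrCharacter W (cf ω) :=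
  Cfsg.Agent.Lib.Helper79_Linear.isIrrCharacter_of_hom ω

open scoped Classical in
theorem classInner_cf [Fintype W] (ω ζ : W →* ℂˣ) :
    Cfsg.classInner (cf ω) (cf ζ) = if ω = ζ then 1 else 0 := by
  rw [classInner_irr (isIrr_cf ω) (isIrr_cf ζ)]
  by_cases hωζ : ω = ζ
  · rw [if_pos hωζ, if_pos (by rw [hωζ])]
  · rw [if_neg hωζ, if_neg (fun hc => hωζ (cf_injective hc))]

end chars

section DD

variable (W₁ W₂)

/-- Two linear characters of `W₁ ⊔ W₂` agree on `W₂`. -/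
def Agree (ω ω' : ↥(W₁ ⊔ W₂) →* ℂˣ) : Prop :=
  ∀ w : ↥(W₁ ⊔ W₂), (w : L) ∈ W₂ → ω w = ω' w

omit [Fintype L] in
theorem Agree.refl (ω : ↥(W₁ ⊔ W₂) →* ℂˣ) : Agree W₁ W₂ ω ω := fun _ _ => rfl

variable {W₁ W₂}

omit [Fintype L] in
theorem Agree.symm {ω ω' : ↥(W₁ ⊔ W₂) →* ℂˣ} (h : Agree W₁ W₂ ω ω') : Agree W₁ W₂ ω' ω :=
  fun w hw => (h w hw).symm

omit [Fintype L] in
theorem Agree.trans {ω ω' ω'' : ↥(W₁ ⊔ W₂) →* ℂˣ} (h : Agree W₁ W₂ ω ω')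
    (h' : Agree W₁ W₂ ω' ω'') : Agree W₁ W₂ ω ω'' :=
  fun w hw => (h w hw).trans (h' w hw)

variable (W₁ W₂)

/-- The function induced from `ω - ω'`. -/
noncomputable def DD (ω ω' : ↥(W₁ ⊔ W₂) →* ℂˣ) : L → ℂ :=
  Cfsg.indFun (W₁ ⊔ W₂) (fun w => ((ω w : ℂˣ) : ℂ) - ((ω' w : ℂˣ) : ℂ))

variable {W₁ W₂}

theorem indFun_sub (H : Subgroup L) (θ φ : H → ℂ) :
    Cfsg.indFun H (θ - φ) = Cfsg.indFun H θ - Cfsg.indFun H φ := by
  have h1 : θ - φ = θ + (-1 : ℂ) • φ := by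
    funext x; simp [sub_eq_add_neg]
  rw [h1, indFun_add, indFun_smul]
  funext x
  simp [sub_eq_add_neg]

theorem DD_eq (ω ω' : ↥(W₁ ⊔ W₂) →* ℂˣ) :
    DD W₁ W₂ ω ω' = Cfsg.indFun (W₁ ⊔ W₂) (cf ω) - Cfsg.indFun (W₁ ⊔ W₂) (cf ω') := by
  rw [← indFun_sub]
  rfl

theorem DD_eq' (ω ω' : ↥(W₁ ⊔ W₂) →* ℂˣ) :
    DD W₁ W₂ ω ω' = Cfsg.indFun (W₁ ⊔ W₂) (cf ω - cf ω') := rfl

theorem isGeneralizedCharacter_DD (ω ω' : ↥(W₁ ⊔ W₂) →* ℂˣ) :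
    Cfsg.IsGeneralizedCharacter L (DD W₁ W₂ ω ω') :=
  ⟨_, _, Cfsg.Agent.Lib.Helper75_IndChar.isCharacter_indFun _
      (isCharacter_of_isIrrCharacter (isIrr_cf ω)),
    Cfsg.Agent.Lib.Helper75_IndChar.isCharacter_indFun _
      (isCharacter_of_isIrrCharacter (isIrr_cf ω')), DD_eq ω ω'⟩

theorem DD_one (ω ω' : ↥(W₁ ⊔ W₂) →* ℂˣ) : DD W₁ W₂ ω ω' 1 = 0 := by
  unfold DD
  rw [indFun_one]
  simp

theorem DD_add (ω ω' ω'' : ↥(W₁ ⊔ W₂) →* ℂˣ) :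
    DD W₁ W₂ ω ω' + DD W₁ W₂ ω' ω'' = DD W₁ W₂ ω ω'' := by
  rw [DD_eq, DD_eq, DD_eq]
  abel

open scoped Classical in
theorem classInner_DD [Fintype ↥(W₁ ⊔ W₂)] (h : Hyp K W₁ W₂) {ω ω' : ↥(W₁ ⊔ W₂) →* ℂˣ}
    (hωω' : Agree W₁ W₂ ω ω') (ζ ζ' : ↥(W₁ ⊔ W₂) →* ℂˣ) :
    Cfsg.classInner (DD W₁ W₂ ω ω') (DD W₁ W₂ ζ ζ') =
      (if ω = ζ then 1 else 0) - (if ω = ζ' then 1 else 0) - (if ω' = ζ then 1 else 0) +
        (if ω' = ζ' then 1 else 0) := by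
  rw [DD_eq', DD_eq', h.classInner_ind_ind _ _ (fun w hw => by
    show cf ω w - cf ω' w = 0
    rw [cf_apply, cf_apply, hωω' w hw, sub_self])]
  rw [classInner_sub_left, Cfsg.Agent.S1514.classInner_sub_right',
    Cfsg.Agent.S1514.classInner_sub_right', classInner_cf, classInner_cf, classInner_cf,
    classInner_cf]
  ring

end DD

namespace Hyp

variable (h : Hyp K W₁ W₂)
include h

omit [Fintype L] hK in
theorem disj : W₁ ⊓ W₂ = ⊥ := by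
  rw [eq_bot_iff]
  intro x hx
  have h1 : x ∈ K ⊓ W₁ := Subgroup.mem_inf.mpr ⟨h.hW₂K hx.2, hx.1⟩
  rwa [h.hKW₁] at h1

omit hK in
theorem card_W : Nat.card ↥(W₁ ⊔ W₂) = Nat.card W₁ * Nat.card W₂ :=
  Cfsg.Agent.Lib.Helper25_CyclicDual.card_sup_of_commute W₁ W₂ h.disj
    (fun _ ha _ hb => comm_W₁W₂ K W₁ W₂ h.hC ha hb)

omit hK in
theorem three_le_card : 3 ≤ Nat.card W₁ := by
  have hodd : Odd (Nat.card W₁) :=
    Odd.of_dvd_nat h.hodd (Subgroup.card_dvd_of_le le_sup_left)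
  have hne : Nat.card W₁ ≠ 1 := fun hc => h.hW₁ (Subgroup.eq_bot_of_card_eq W₁ hc)
  have hpos : 0 < Nat.card W₁ := Nat.card_pos
  obtain ⟨k, hk⟩ := hodd
  omega

omit hK in
theorem exists_three : ∃ φ₁ φ₂ φ₃ : ↥(W₁ ⊔ W₂) →* ℂˣ, φ₁ ≠ φ₂ ∧ φ₁ ≠ φ₃ ∧ φ₂ ≠ φ₃ ∧
    Agree W₁ W₂ 1 φ₁ ∧ Agree W₁ W₂ 1 φ₂ ∧ Agree W₁ W₂ 1 φ₃ := by
  classical
  set N : Subgroup ↥(W₁ ⊔ W₂) := W₂.subgroupOf (W₁ ⊔ W₂) with hN
  have hcardN : Nat.card N = Nat.card W₂ :=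
    Nat.card_congr (Subgroup.subgroupOfEquivOfLe (le_sup_right : W₂ ≤ W₁ ⊔ W₂)).toEquiv
  have hidx : N.index = Nat.card W₁ := by
    have h1 : Nat.card N * N.index = Nat.card ↥(W₁ ⊔ W₂) := Subgroup.card_mul_index N
    rw [hcardN, h.card_W, mul_comm] at h1
    exact Nat.eq_of_mul_eq_mul_right Nat.card_pos h1
  have hcard := Cfsg.Agent.Lib.Helper25_AbDual.card_trivial_on h.comm N
  rw [hidx] at hcard
  haveI := Cfsg.Agent.Lib.Helper25_AbDual.finite_hom h.comm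
  letI : Fintype {φ : ↥(W₁ ⊔ W₂) →* ℂˣ // ∀ n ∈ N, φ n = 1} := Fintype.ofFinite _
  have h3 : 2 < Fintype.card {φ : ↥(W₁ ⊔ W₂) →* ℂˣ // ∀ n ∈ N, φ n = 1} := by
    rw [← Nat.card_eq_fintype_card, hcard]
    exact h.three_le_card
  obtain ⟨a, b, c, hab, hac, hbc⟩ := Fintype.two_lt_card_iff.mp h3
  have hag : ∀ φ : {φ : ↥(W₁ ⊔ W₂) →* ℂˣ // ∀ n ∈ N, φ n = 1}, Agree W₁ W₂ 1 φ.1 := by
    intro φ w hw
    rw [MonoidHom.one_apply]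
    exact (φ.2 w (Subgroup.mem_subgroupOf.mpr hw)).symm
  exact ⟨a.1, b.1, c.1, fun hc => hab (Subtype.ext hc), fun hc => hac (Subtype.ext hc),
    fun hc => hbc (Subtype.ext hc), hag a, hag b, hag c⟩

/-- Coherence inside one family. -/
theorem family (r : ↥(W₁ ⊔ W₂) →* ℂˣ) :
    ∃ (δ : ℂ) (μ : (↥(W₁ ⊔ W₂) →* ℂˣ) → (L → ℂ)), (δ = 1 ∨ δ = -1) ∧
      (∀ ω, Agree W₁ W₂ r ω → Cfsg.IsIrrCharacter L (μ ω)) ∧
      (∀ ω ω', Agree W₁ W₂ r ω → Agree W₁ W₂ r ω' → μ ω = μ ω' → ω = ω') ∧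
      ∀ ω ω', Agree W₁ W₂ r ω → Agree W₁ W₂ r ω' → DD W₁ W₂ ω ω' = δ • (μ ω - μ ω') := by
  classical
  letI : Fintype ↥(W₁ ⊔ W₂) := Fintype.ofFinite _
  obtain ⟨φ₁, φ₂, φ₃, h12, h13, h23, ha1, ha2, ha3⟩ := h.exists_three
  have hmem : ∀ φ, Agree W₁ W₂ 1 φ → Agree W₁ W₂ r (r * φ) := by
    intro φ hφ w hw
    have := hφ w hw
    rw [MonoidHom.one_apply] at this
    rw [MonoidHom.mul_apply, ← this, mul_one]
  obtain ⟨δ, μ, hδ, hirr, hinj, hD⟩ :=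
    Cfsg.Agent.Lib.Helper25_Coh3.coherence {ω | Agree W₁ W₂ r ω} (DD W₁ W₂)
      (r * φ₁) (r * φ₂) (r * φ₃) (hmem φ₁ ha1) (hmem φ₂ ha2) (hmem φ₃ ha3)
      (fun hc => h12 (mul_left_cancel hc)) (fun hc => h13 (mul_left_cancel hc))
      (fun hc => h23 (mul_left_cancel hc))
      (fun i _ j _ => isGeneralizedCharacter_DD i j)
      (fun i _ j _ => DD_one i j)
      (fun i _ j _ k _ => DD_add i j k)
      (fun i hi j hj k _ l _ => classInner_DD h (Agree.trans (Agree.symm hi) hj) k l)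
  exact ⟨δ, μ, hδ, fun ω hω => hirr ω hω, fun ω ω' hω hω' heq => hinj hω hω' heq,
    fun ω ω' hω hω' => hD ω hω ω' hω'⟩

end Hyp

section construct

variable (W₁ W₂)

/-- Agreement on `W₂` as a setoid. -/
def agreeSetoid : Setoid (↥(W₁ ⊔ W₂) →* ℂˣ) :=
  ⟨Agree W₁ W₂, ⟨Agree.refl W₁ W₂, Agree.symm, Agree.trans⟩⟩

/-- A representative of the family of `ω`. -/
noncomputable def rep (ω : ↥(W₁ ⊔ W₂) →* ℂˣ) : ↥(W₁ ⊔ W₂) →* ℂˣ :=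
  (Quotient.mk (agreeSetoid W₁ W₂) ω).out

variable {W₁ W₂}

omit [Fintype L] in
theorem agree_rep (ω : ↥(W₁ ⊔ W₂) →* ℂˣ) : Agree W₁ W₂ (rep W₁ W₂ ω) ω :=
  Quotient.mk_out (s := agreeSetoid W₁ W₂) ω

omit [Fintype L] in
theorem rep_eq {ω ω' : ↥(W₁ ⊔ W₂) →* ℂˣ} (h : Agree W₁ W₂ ω ω') :
    rep W₁ W₂ ω = rep W₁ W₂ ω' := by
  unfold rep
  have : Quotient.mk (agreeSetoid W₁ W₂) ω = Quotient.mk (agreeSetoid W₁ W₂) ω' :=
    Quotient.sound h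
  rw [this]

/-- The exceptional characters `μ ω` and the signs `δ ω`. -/
theorem exists_mu_delta (h : Hyp K W₁ W₂) :
    ∃ (μ : (↥(W₁ ⊔ W₂) →* ℂˣ) → (L → ℂ)) (δ : (↥(W₁ ⊔ W₂) →* ℂˣ) → ℂ),
      (∀ ω, Cfsg.IsIrrCharacter L (μ ω)) ∧ (∀ ω, δ ω = 1 ∨ δ ω = -1) ∧
      (∀ ω ω', Agree W₁ W₂ ω ω' → δ ω = δ ω' ∧ DD W₁ W₂ ω ω' = δ ω • (μ ω - μ ω')) ∧
      Function.Injective μ := by
  classical
  letI : Fintype ↥(W₁ ⊔ W₂) := Fintype.ofFinite _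
  choose δf μf hδ hirr hinj hD using h.family
  obtain ⟨μ, hμdef⟩ : ∃ μ : (↥(W₁ ⊔ W₂) →* ℂˣ) → (L → ℂ), ∀ ω, μ ω = μf (rep W₁ W₂ ω) ω :=
    ⟨_, fun _ => rfl⟩
  obtain ⟨δ, hδdef⟩ : ∃ δ : (↥(W₁ ⊔ W₂) →* ℂˣ) → ℂ, ∀ ω, δ ω = δf (rep W₁ W₂ ω) :=
    ⟨_, fun _ => rfl⟩
  have hμirr : ∀ ω, Cfsg.IsIrrCharacter L (μ ω) := by
    intro ω
    rw [hμdef]
    exact hirr _ ω (agree_rep ω)
  have hδs : ∀ ω, δ ω = 1 ∨ δ ω = -1 := by
    intro ω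
    rw [hδdef]
    exact hδ _
  have hag : ∀ ω ω', Agree W₁ W₂ ω ω' → δ ω = δ ω' ∧ DD W₁ W₂ ω ω' = δ ω • (μ ω - μ ω') := by
    intro ω ω' hωω'
    have hr := rep_eq hωω'
    refine ⟨by rw [hδdef, hδdef, hr], ?_⟩
    rw [hδdef, hμdef, hμdef ω', ← hr]
    exact hD _ ω ω' (agree_rep ω) (Agree.trans (agree_rep ω) hωω')
  have hinjfam : ∀ ω ω', Agree W₁ W₂ ω ω' → μ ω = μ ω' → ω = ω' := by
    intro ω ω' hωω' heq
    have hr := rep_eq hωω'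
    rw [hμdef, hμdef ω', ← hr] at heq
    exact hinj _ ω ω' (agree_rep ω) (Agree.trans (agree_rep ω) hωω') heq
  refine ⟨μ, δ, hμirr, hδs, hag, ?_⟩
  intro ω ζ heq
  by_cases hωζ : Agree W₁ W₂ ω ζ
  · exact hinjfam ω ζ hωζ heq
  exfalso
  -- a nontrivial character trivial on `W₂`
  obtain ⟨φ, hφ1, hφ⟩ : ∃ φ : ↥(W₁ ⊔ W₂) →* ℂˣ, φ ≠ 1 ∧ Agree W₁ W₂ 1 φ := by
    obtain ⟨φ₁, φ₂, φ₃, h12, -, -, ha1, ha2, -⟩ := h.exists_three
    by_cases h1 : φ₁ = 1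
    · exact ⟨φ₂, fun hc => h12 (h1.trans hc.symm), ha2⟩
    · exact ⟨φ₁, h1, ha1⟩
  have hmem : ∀ r : ↥(W₁ ⊔ W₂) →* ℂˣ, Agree W₁ W₂ r (r * φ) := by
    intro r w hw
    have := hφ w hw
    rw [MonoidHom.one_apply] at this
    rw [MonoidHom.mul_apply, ← this, mul_one]
  have hne : ∀ r : ↥(W₁ ⊔ W₂) →* ℂˣ, r * φ ≠ r := by
    intro r hc
    apply hφ1
    have : r * φ = r * 1 := by rw [hc]; exact (mul_one r).symm
    exact mul_left_cancel this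
  have h0 := classInner_DD h (hmem ω) ζ (ζ * φ)
  have n1 : ω ≠ ζ := fun hc => hωζ (by rw [hc]; exact Agree.refl _ _ ζ)
  have n2 : ω ≠ ζ * φ := fun hc => hωζ (by rw [hc]; exact Agree.symm (hmem ζ))
  have n3 : ω * φ ≠ ζ := fun hc => hωζ (by rw [← hc]; exact hmem ω)
  have n4 : ω * φ ≠ ζ * φ :=
    fun hc => hωζ (Agree.trans (hmem ω) (by rw [hc]; exact Agree.symm (hmem ζ)))
  rw [if_neg n1, if_neg n2, if_neg n3, if_neg n4] at h0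
  rw [(hag ω (ω * φ) (hmem ω)).2, (hag ζ (ζ * φ) (hmem ζ)).2, classInner_smul_left,
    classInner_smul_right, classInner_sub_left, Cfsg.Agent.S1514.classInner_sub_right',
    Cfsg.Agent.S1514.classInner_sub_right', classInner_irr (hμirr ω) (hμirr ζ),
    classInner_irr (hμirr ω) (hμirr (ζ * φ)), classInner_irr (hμirr (ω * φ)) (hμirr ζ),
    classInner_irr (hμirr (ω * φ)) (hμirr (ζ * φ)), if_pos heq,
    if_neg (fun hc => hne ζ (hinjfam ζ (ζ * φ) (hmem ζ) (heq.symm.trans hc)).symm),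
    if_neg (fun hc => hne ω (hinjfam ω (ω * φ) (hmem ω) (heq.trans hc.symm)).symm)] at h0
  have hδω : δ ω ≠ 0 := by
    rcases hδs ω with h1 | h1 <;> rw [h1] <;> norm_num
  have hδζ : conj (δ ζ) ≠ 0 := by
    rcases hδs ζ with h1 | h1 <;> rw [h1] <;> simp
  have hbr : ((1 : ℂ) + if μ (ω * φ) = μ (ζ * φ) then 1 else 0) ≠ 0 := by
    split_ifs <;> norm_num
  have h0' : δ ω * (conj (δ ζ) * ((1 : ℂ) + if μ (ω * φ) = μ (ζ * φ) then 1 else 0)) = 0 := by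
    generalize (if μ (ω * φ) = μ (ζ * φ) then (1 : ℂ) else 0) = X at h0 ⊢
    linear_combination h0
  rcases mul_eq_zero.mp h0' with h1 | h1
  · exact hδω h1
  · rcases mul_eq_zero.mp h1 with h2 | h2
    · exact hδζ h2
    · exact hbr h2

end construct

section values

variable [Fintype ↥(W₁ ⊔ W₂)]

open scoped Classical in
/-- Differences of multiplicities in the restriction to `W` of an irreducible character. -/
theorem coeff_diff (μ : (↥(W₁ ⊔ W₂) →* ℂˣ) → (L → ℂ)) (δ : (↥(W₁ ⊔ W₂) →* ℂˣ) → ℂ)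
    (hirr : ∀ ω, Cfsg.IsIrrCharacter L (μ ω))
    (hag : ∀ ω ω', Agree W₁ W₂ ω ω' → δ ω = δ ω' ∧ DD W₁ W₂ ω ω' = δ ω • (μ ω - μ ω'))
    {θ : L → ℂ} (hθ : Cfsg.IsIrrCharacter L θ) {ω ω' : ↥(W₁ ⊔ W₂) →* ℂˣ}
    (hωω' : Agree W₁ W₂ ω ω') :
    Cfsg.classInner (fun w : ↥(W₁ ⊔ W₂) => θ (w : L)) (cf ω) -
      Cfsg.classInner (fun w : ↥(W₁ ⊔ W₂) => θ (w : L)) (cf ω') =
      conj (δ ω) * ((if μ ω = θ then 1 else 0) - (if μ ω' = θ then 1 else 0)) := by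
  rw [← Cfsg.Agent.S1514.classInner_sub_right', ← classInner_conj_symm,
    ← frobenius_reciprocity (W₁ ⊔ W₂) (cf ω - cf ω') θ (isClassFunction_of_isIrrCharacter hθ)]
  have h1 : Cfsg.indFun (W₁ ⊔ W₂) (cf ω - cf ω') = DD W₁ W₂ ω ω' := rfl
  rw [h1, (hag ω ω' hωω').2, classInner_smul_left, classInner_sub_left,
    classInner_irr (hirr ω) hθ, classInner_irr (hirr ω') hθ, map_mul, map_sub]
  congr 1
  split_ifs <;> simp

omit hK in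
/-- The values of irreducible characters of `L` on `W - W₂`. -/
theorem values (h : Hyp K W₁ W₂) (μ : (↥(W₁ ⊔ W₂) →* ℂˣ) → (L → ℂ))
    (δ : (↥(W₁ ⊔ W₂) →* ℂˣ) → ℂ)
    (hirr : ∀ ω, Cfsg.IsIrrCharacter L (μ ω)) (hδ : ∀ ω, δ ω = 1 ∨ δ ω = -1)
    (hag : ∀ ω ω', Agree W₁ W₂ ω ω' → δ ω = δ ω' ∧ DD W₁ W₂ ω ω' = δ ω • (μ ω - μ ω'))
    (hinj : Function.Injective μ) :
    (∀ ω, ∀ w : ↥(W₁ ⊔ W₂), (w : L) ∉ W₂ → μ ω w = δ ω * ((ω w : ℂˣ) : ℂ)) ∧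
    (∀ θ : L → ℂ, Cfsg.IsIrrCharacter L θ → (∀ ω, θ ≠ μ ω) →
      ∀ w : ↥(W₁ ⊔ W₂), (w : L) ∉ W₂ → θ w = 0) := by
  classical
  have hconjδ : ∀ ω, conj (δ ω) = δ ω := by
    intro ω
    rcases hδ ω with h1 | h1 <;> rw [h1] <;> simp
  set N : Subgroup ↥(W₁ ⊔ W₂) := W₂.subgroupOf (W₁ ⊔ W₂) with hN
  have hagree : ∀ ω ω' : ↥(W₁ ⊔ W₂) →* ℂˣ, (∀ n ∈ N, ω n = ω' n) → Agree W₁ W₂ ω ω' := by
    intro ω ω' hh w hw
    exact hh w (Subgroup.mem_subgroupOf.mpr hw)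
  have hnotmem : ∀ w : ↥(W₁ ⊔ W₂), (w : L) ∉ W₂ → w ∉ N := by
    intro w hw hc
    exact hw (Subgroup.mem_subgroupOf.mp hc)
  constructor
  · intro ω₀ w hw
    have hv := Cfsg.Agent.Lib.Helper25_AbDual.vanish_off h.comm N
      ((fun w : ↥(W₁ ⊔ W₂) => μ ω₀ (w : L)) - δ ω₀ • cf ω₀) ?_ (hnotmem w hw)
    · rw [Pi.sub_apply, Pi.smul_apply, smul_eq_mul, cf_apply] at hv
      exact sub_eq_zero.mp hv
    · intro ω ω' hh
      have hωω' := hagree ω ω' hh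
      have h1 := coeff_diff μ δ hirr hag (hirr ω₀) hωω'
      change Cfsg.classInner _ (cf ω) = Cfsg.classInner _ (cf ω')
      rw [classInner_sub_left, classInner_sub_left, classInner_smul_left, classInner_smul_left,
        classInner_cf, classInner_cf]
      have h2 : Cfsg.classInner (fun w : ↥(W₁ ⊔ W₂) => μ ω₀ (w : L)) (cf ω) =
          Cfsg.classInner (fun w : ↥(W₁ ⊔ W₂) => μ ω₀ (w : L)) (cf ω') +
            conj (δ ω) * ((if μ ω = μ ω₀ then 1 else 0) - (if μ ω' = μ ω₀ then 1 else 0)) := by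
        rw [← h1]; ring
      rw [h2, hconjδ]
      by_cases e1 : ω = ω₀
      · have e2 : μ ω = μ ω₀ := by rw [e1]
        rw [if_pos e2, if_pos e1.symm]
        by_cases e3 : ω' = ω₀
        · have e4 : μ ω' = μ ω₀ := by rw [e3]
          rw [if_pos e4, if_pos e3.symm]
          ring
        · have e4 : μ ω' ≠ μ ω₀ := fun hc => e3 (hinj hc)
          have e5 : ¬ ω₀ = ω' := fun hc => e3 hc.symm
          rw [if_neg e4, if_neg e5, e1]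
          ring
      · have e2 : μ ω ≠ μ ω₀ := fun hc => e1 (hinj hc)
        have e2' : ¬ ω₀ = ω := fun hc => e1 hc.symm
        rw [if_neg e2, if_neg e2']
        by_cases e3 : ω' = ω₀
        · have e4 : μ ω' = μ ω₀ := by rw [e3]
          rw [if_pos e4, if_pos e3.symm, (hag ω ω' hωω').1, e3]
          ring
        · have e4 : μ ω' ≠ μ ω₀ := fun hc => e3 (hinj hc)
          have e5 : ¬ ω₀ = ω' := fun hc => e3 hc.symm
          rw [if_neg e4, if_neg e5]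
          ring
  · intro θ hθ hnot w hw
    refine Cfsg.Agent.Lib.Helper25_AbDual.vanish_off h.comm N
      (fun w : ↥(W₁ ⊔ W₂) => θ (w : L)) ?_ (hnotmem w hw)
    intro ω ω' hh
    have hωω' := hagree ω ω' hh
    have h1 := coeff_diff μ δ hirr hag hθ hωω'
    rw [if_neg (fun hc => hnot ω hc.symm), if_neg (fun hc => hnot ω' hc.symm), sub_self,
      mul_zero] at h1
    exact sub_eq_zero.mp h1

end values

section degree

omit hK in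
/-- The degree of `μ ω` is congruent to `δ ω` modulo `|W₁|`. -/
theorem degree_congr (h : Hyp K W₁ W₂) (μ : (↥(W₁ ⊔ W₂) →* ℂˣ) → (L → ℂ))
    (δ : (↥(W₁ ⊔ W₂) →* ℂˣ) → ℂ) (hirr : ∀ ω, Cfsg.IsIrrCharacter L (μ ω))
    (hval : ∀ ω, ∀ w : ↥(W₁ ⊔ W₂), (w : L) ∉ W₂ → μ ω w = δ ω * ((ω w : ℂˣ) : ℂ))
    (ω : ↥(W₁ ⊔ W₂) →* ℂˣ) : ∃ n : ℤ, μ ω 1 - δ ω = n * (Nat.card W₁ : ℂ) := by
  classical
  letI : Fintype W₁ := Fintype.ofFinite _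
  haveI := h.hW₁c
  set ω₁ : W₁ →* ℂˣ := ω.comp (Subgroup.inclusion (le_sup_left : W₁ ≤ W₁ ⊔ W₂)) with hω₁
  -- a character of `W₁` different from `ω₁`
  have hcomm₁ : ∀ a b : W₁, a * b = b * a := fun a b =>
    Subtype.ext (comm_of_isCyclic W₁ h.hW₁c a.2 b.2)
  obtain ⟨φ, hφ⟩ : ∃ φ : W₁ →* ℂˣ, φ ≠ ω₁ := by
    haveI := Cfsg.Agent.Lib.Helper25_AbDual.finite_hom hcomm₁
    have hc : 1 < Nat.card (W₁ →* ℂˣ) := by
      rw [Cfsg.Agent.Lib.Helper25_AbDual.card_hom hcomm₁]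
      have := h.three_le_card
      omega
    haveI : Nontrivial (W₁ →* ℂˣ) := Finite.one_lt_card_iff_nontrivial.mp hc
    exact exists_ne ω₁
  obtain ⟨m, hm⟩ := Cfsg.Agent.Lib.Helper75_CharArith.classInner_isCharacter_nat
    (Cfsg.Agent.Lib.Helper75_Clifford.isCharacter_res W₁ (isCharacter_of_isIrrCharacter (hirr ω)))
    (isCharacter_of_isIrrCharacter (isIrr_cf φ))
  refine ⟨m, ?_⟩
  have hW0 : (Nat.card W₁ : ℂ) ≠ 0 := by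
    rw [Nat.cast_ne_zero]; exact Nat.card_pos.ne'
  have horth : Cfsg.classInner (cf ω₁) (cf φ) = 0 := by
    rw [classInner_cf, if_neg (fun hc => hφ hc.symm)]
  unfold Cfsg.classInner at hm horth
  have hterm : ∀ w : W₁, Cfsg.Agent.Lib.Helper75_Clifford.res W₁ (μ ω) w * conj (cf φ w) =
      cf ω₁ w * conj (cf φ w) * δ ω + (if w = 1 then μ ω 1 - δ ω else 0) := by
    intro w
    by_cases hw : w = 1
    · rw [if_pos hw, hw]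
      simp only [Cfsg.Agent.Lib.Helper75_Clifford.res_apply, cf_apply, map_one, Units.val_one,
        OneMemClass.coe_one]
      ring
    · rw [if_neg hw, add_zero]
      have hw2 : (w : L) ∉ W₂ := by
        intro hc
        have h1 : (w : L) ∈ W₁ ⊓ W₂ := Subgroup.mem_inf.mpr ⟨w.2, hc⟩
        rw [h.disj, Subgroup.mem_bot] at h1
        exact hw (Subtype.ext h1)
      have := hval ω ⟨(w : L), Subgroup.mem_sup_left w.2⟩ hw2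
      rw [Cfsg.Agent.Lib.Helper75_Clifford.res_apply]
      show μ ω (w : L) * _ = _
      rw [show μ ω (w : L) = δ ω * ((ω ⟨(w : L), Subgroup.mem_sup_left w.2⟩ : ℂˣ) : ℂ) from this]
      show _ = ((ω₁ w : ℂˣ) : ℂ) * _ * δ ω
      rw [hω₁]
      show _ = ((ω (Subgroup.inclusion _ w) : ℂˣ) : ℂ) * _ * δ ω
      have : (Subgroup.inclusion (le_sup_left : W₁ ≤ W₁ ⊔ W₂) w) =
          ⟨(w : L), Subgroup.mem_sup_left w.2⟩ := rfl
      rw [this]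
      ring
  have hsum : ∑ w : W₁, Cfsg.Agent.Lib.Helper75_Clifford.res W₁ (μ ω) w * conj (cf φ w) =
      (∑ w : W₁, cf ω₁ w * conj (cf φ w)) * δ ω + (μ ω 1 - δ ω) := by
    simp_rw [hterm]
    rw [Finset.sum_add_distrib, Finset.sum_mul, Finset.sum_ite_eq' Finset.univ (1 : W₁),
      if_pos (Finset.mem_univ _)]
  have hz : ∑ w : W₁, cf ω₁ w * conj (cf φ w) = 0 := by
    rcases mul_eq_zero.mp horth with h1 | h1
    · exact absurd (inv_eq_zero.mp h1) hW0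
    · exact h1
  rw [hsum, hz, zero_mul, zero_add] at hm
  have : μ ω 1 - δ ω = (Nat.card W₁ : ℂ) * ((Nat.card W₁ : ℂ)⁻¹ * (μ ω 1 - δ ω)) := by
    field_simp
  rw [this, hm]
  push_cast
  ring

end degree

end Cfsg.Agent.Lib.Helper25_TypePExc
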