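import Cfsg.Agent.Lib.Helper25_TypeP
import Cfsg.Agent.Lib.Helper25_CyclicDual
import Cfsg.Agent.Lib.Helper24_CoprimeAction

/-!
# Group theory of `L = K ⋊ W₁` with `C_K(x) = W₂` (helper25)

`W = W₁ ⊔ W₂` is abelian, equal to `W₁ W₂`, and `W - W₂` is a trivial-intersection subset of `L`
with normaliser `W`: if `a ∈ W - W₂` and `x⁻¹ a x ∈ W` then `x ∈ W`.
-/

set_option autoImplicit false
set_option linter.style.haveILetI false

namespace Cfsg.Agent.Lib.Helper25_TypePGrp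

open Cfsg.Agent.Lib.Helper25_TypeP

variable {L : Type*} [Group L] (K W₁ W₂ : Subgroup L) [hK : K.Normal]

omit hK in
/-- `W₁` and `W₂` commute elementwise. -/
theorem comm_W₁W₂ (hC : ∀ x ∈ W₁, x ≠ 1 → K ⊓ Subgroup.centralizer ({x} : Set L) = W₂)
    {a b : L} (ha : a ∈ W₁) (hb : b ∈ W₂) : a * b = b * a := by
  by_cases ha1 : a = 1
  · rw [ha1, one_mul, mul_one]
  · have h1 : b ∈ K ⊓ Subgroup.centralizer ({a} : Set L) := by rw [hC a ha ha1]; exact hb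
    exact (Subgroup.mem_centralizer_singleton_iff.mp h1.2).symm

theorem comm_of_isCyclic (H : Subgroup L) (hH : IsCyclic H) {a b : L} (ha : a ∈ H) (hb : b ∈ H) :
    a * b = b * a := by
  obtain ⟨g, hg⟩ := hH.exists_generator
  obtain ⟨i, hi⟩ := Subgroup.mem_zpowers_iff.mp (hg ⟨a, ha⟩)
  obtain ⟨j, hj⟩ := Subgroup.mem_zpowers_iff.mp (hg ⟨b, hb⟩)
  have hi' : (g : L) ^ i = a := by
    have := congrArg Subtype.val hi
    simpa using this
  have hj' : (g : L) ^ j = b := by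
    have := congrArg Subtype.val hj
    simpa using this
  rw [← hi', ← hj', ← zpow_add, ← zpow_add, add_comm]

omit hK in
/-- Elements of `W₁ ⊔ W₂` are products. -/
theorem exists_mul_of_mem (hC : ∀ x ∈ W₁, x ≠ 1 → K ⊓ Subgroup.centralizer ({x} : Set L) = W₂)
    {w : L} (hw : w ∈ W₁ ⊔ W₂) : ∃ a ∈ W₁, ∃ b ∈ W₂, w = a * b := by
  apply Cfsg.Agent.Lib.Helper24_CoprimeAction.exists_mul_of_mem_sup W₂ W₁ _ hw
  intro b hb
  rw [Subgroup.mem_normalizer_iff]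
  intro a
  have key : ∀ c ∈ W₁, b * c * b⁻¹ = c := by
    intro c hc
    rw [← comm_W₁W₂ K W₁ W₂ hC hc hb]; group
  constructor
  · intro ha
    rw [key a ha]; exact ha
  · intro ha
    have h1 := key _ ha
    have h2 : a = b * a * b⁻¹ := by
      have : b * (b * a * b⁻¹) * b⁻¹ = b * a * b⁻¹ := h1
      have h3 : b * (b * a * b⁻¹) = b * a := by
        calc b * (b * a * b⁻¹) = b * (b * a * b⁻¹) * b⁻¹ * b := by group
          _ = b * a * b⁻¹ * b := by rw [this]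
          _ = b * a := by group
      exact (mul_left_cancel h3).symm
    rw [h2]; exact ha

omit hK in
/-- `W₁ ⊔ W₂` is abelian. -/
theorem comm_W (hW₁c : IsCyclic W₁) (hW₂c : IsCyclic W₂)
    (hC : ∀ x ∈ W₁, x ≠ 1 → K ⊓ Subgroup.centralizer ({x} : Set L) = W₂)
    {u v : L} (hu : u ∈ W₁ ⊔ W₂) (hv : v ∈ W₁ ⊔ W₂) : u * v = v * u := by
  obtain ⟨a, ha, b, hb, rfl⟩ := exists_mul_of_mem K W₁ W₂ hC hu
  obtain ⟨c, hc, d, hd, rfl⟩ := exists_mul_of_mem K W₁ W₂ hC hv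
  have h1 := comm_of_isCyclic W₁ hW₁c ha hc
  have h2 := comm_of_isCyclic W₂ hW₂c hb hd
  have h3 := comm_W₁W₂ K W₁ W₂ hC hc hb
  have h4 := comm_W₁W₂ K W₁ W₂ hC ha hd
  calc a * b * (c * d) = a * (b * c) * d := by group
    _ = a * (c * b) * d := by rw [h3]
    _ = (a * c) * (b * d) := by group
    _ = (c * a) * (d * b) := by rw [h1, h2]
    _ = c * (a * d) * b := by group
    _ = c * (d * a) * b := by rw [h4]
    _ = c * d * (a * b) := by group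

omit hK in
/-- The `W₁`-component decides membership in `W₂`. -/
theorem mul_mem_W₂_iff (hKW₁ : K ⊓ W₁ = ⊥) (hW₂K : W₂ ≤ K) {a b : L} (ha : a ∈ W₁)
    (hb : b ∈ W₂) : a * b ∈ W₂ ↔ a = 1 := by
  constructor
  · intro h
    have h1 : a ∈ W₂ := by
      have := W₂.mul_mem h (W₂.inv_mem hb)
      rwa [mul_inv_cancel_right] at this
    have h2 : a ∈ K ⊓ W₁ := Subgroup.mem_inf.mpr ⟨hW₂K h1, ha⟩
    rw [hKW₁, Subgroup.mem_bot] at h2
    exact h2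
  · rintro rfl
    rw [one_mul]; exact hb

variable [Finite L]

/-- The trivial-intersection property of `W - W₂`. -/
theorem mem_of_conj_mem (hKW₁ : K ⊓ W₁ = ⊥) (hKW₁' : K ⊔ W₁ = ⊤) (hW₁c : IsCyclic W₁)
    (hHall : Nat.Coprime (Nat.card W₁) W₁.index) (hW₂K : W₂ ≤ K)
    (hC : ∀ x ∈ W₁, x ≠ 1 → K ⊓ Subgroup.centralizer ({x} : Set L) = W₂)
    {a x : L} (ha : a ∈ W₁ ⊔ W₂) (haW₂ : a ∉ W₂) (hx : x⁻¹ * a * x ∈ W₁ ⊔ W₂) :
    x ∈ W₁ ⊔ W₂ := by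
  obtain ⟨a₁, ha₁, a₂, ha₂, rfl⟩ := exists_mul_of_mem K W₁ W₂ hC ha
  obtain ⟨b₁, hb₁, b₂, hb₂, hb⟩ := exists_mul_of_mem K W₁ W₂ hC hx
  have ha₁1 : a₁ ≠ 1 := fun h => haW₂ ((mul_mem_W₂_iff K W₁ W₂ hKW₁ hW₂K ha₁ ha₂).mpr h)
  set n : ℕ := Nat.card K with hn
  have hcop : (Nat.card K).Coprime (Nat.card W₁) := coprime_card K W₁ hKW₁ hKW₁' hHall
  have hpowK : ∀ k ∈ K, k ^ n = 1 := by
    intro k hk
    exact Cfsg.Agent.Lib.Helper75_CosetConj.pow_card_of_mem K hk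
  -- y = a₁ ^ n
  have hy : (a₁ * a₂) ^ n = a₁ ^ n := by
    rw [(show Commute a₁ a₂ from comm_W₁W₂ K W₁ W₂ hC ha₁ ha₂).mul_pow, hpowK a₂ (hW₂K ha₂),
      mul_one]
  have hyb : (b₁ * b₂) ^ n = b₁ ^ n := by
    rw [(show Commute b₁ b₂ from comm_W₁W₂ K W₁ W₂ hC hb₁ hb₂).mul_pow, hpowK b₂ (hW₂K hb₂),
      mul_one]
  obtain ⟨y, hydef⟩ : ∃ y : L, y = a₁ ^ n := ⟨_, rfl⟩
  have hyW : y ∈ W₁ := by rw [hydef]; exact W₁.pow_mem ha₁ n
  have hy1 : y ≠ 1 := by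
    intro h
    rw [hydef] at h
    have h1 : orderOf a₁ ∣ n := orderOf_dvd_of_pow_eq_one h
    have h2 : orderOf a₁ ∣ Nat.card W₁ := by
      have := orderOf_dvd_natCard (⟨a₁, ha₁⟩ : W₁)
      rwa [Subgroup.orderOf_mk] at this
    have h3 : orderOf a₁ = 1 := Nat.eq_one_of_dvd_coprimes hcop h1 h2
    exact ha₁1 (orderOf_eq_one_iff.mp h3)
  have hconj : x⁻¹ * y * x ∈ W₁ := by
    have h1 : x⁻¹ * y * x = (x⁻¹ * (a₁ * a₂) * x) ^ n := by
      have h0 := conj_pow (a := x⁻¹) (b := a₁ * a₂) (i := n)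
      rw [inv_inv] at h0
      rw [h0, hy, hydef]
    rw [h1, hb, hyb]
    exact W₁.pow_mem hb₁ n
  -- `x` centralizes `y`
  obtain ⟨s, hsW, hs⟩ := exists_generator W₁ hW₁c
  have hQ := Cfsg.Agent.Lib.Helper75_GlaubCyclic.quotient_comm K W₁ hKW₁' hs
  have hz : x⁻¹ * y * x * y⁻¹ ∈ K ⊓ W₁ := by
    refine Subgroup.mem_inf.mpr ⟨?_, W₁.mul_mem hconj (W₁.inv_mem hyW)⟩
    rw [← QuotientGroup.eq_one_iff]
    have : ((x⁻¹ * y * x * y⁻¹ : L) : L ⧸ K) =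
        ((x⁻¹ : L) : L ⧸ K) * (y : L ⧸ K) * (x : L ⧸ K) * ((y⁻¹ : L) : L ⧸ K) := by
      simp only [QuotientGroup.mk_mul]
    rw [this, hQ ((x⁻¹ : L) : L ⧸ K) (y : L ⧸ K), mul_assoc ((y : L ⧸ K)), ← QuotientGroup.mk_mul,
      inv_mul_cancel, QuotientGroup.mk_one, mul_one, ← QuotientGroup.mk_mul, mul_inv_cancel,
      QuotientGroup.mk_one]
  rw [hKW₁, Subgroup.mem_bot] at hz
  have hxy : x⁻¹ * y * x = y := by
    have := mul_inv_eq_one.mp hz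
    exact this
  -- decompose `x`
  have hx' : x ∈ K ⊔ W₁ := by rw [hKW₁']; trivial
  rw [← SetLike.mem_coe, Subgroup.normal_mul, Set.mem_mul] at hx'
  obtain ⟨k, hk, u, hu, rfl⟩ := hx'
  have huy : u * y = y * u := comm_of_isCyclic W₁ hW₁c hu hyW
  have hky : k * y = y * k := by
    have h1 : y * (k * u) = (k * u) * y := by
      calc y * (k * u) = (k * u) * ((k * u)⁻¹ * y * (k * u)) := by group
        _ = (k * u) * y := by rw [hxy]
    calc k * y = k * (y * u) * u⁻¹ := by group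
      _ = k * (u * y) * u⁻¹ := by rw [huy]
      _ = (k * u * y) * u⁻¹ := by group
      _ = (y * (k * u)) * u⁻¹ := by rw [h1]
      _ = y * k := by group
  have hkW₂ : k ∈ W₂ := by
    rw [← hC y hyW hy1]
    exact Subgroup.mem_inf.mpr ⟨hk, Subgroup.mem_centralizer_singleton_iff.mpr hky⟩
  exact Subgroup.mul_mem _ (Subgroup.mem_sup_right hkW₂) (Subgroup.mem_sup_left hu)

end Cfsg.Agent.Lib.Helper25_TypePGrp
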