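import Mathlib
import Cfsg.Agent.S1248
import Cfsg.Agent.Lib.Helper56_U320Defs
import Cfsg.Agent.Lib.Helper56_U320Model

/-!
# S1903 market (architect helper56), package CENT (helper25)

The centraliser in `SU₃(4)` of the central involution `mSU p0` of the Sylow 2-subgroup consists of the
elements `hSU ^ j * mSU p`.
-/

set_option autoImplicit false

open Matrix Cfsg.Agent.S1248 Cfsg.Agent.Lib.Helper56_U320Defs Cfsg.Agent.Lib.Helper56_U320Model

namespace Cfsg.Agent.Lib.Helper25_U320_CENT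

open PF

variable {F : Type*} [Field F] [CharP F 2] [h16 : Fact (∀ x : F, x ^ 16 = x)]

/-- the shape with last entry `1` is an `Mmat` -/
theorem shape_one (a b c d : F)
    (hU : (!![a, b, c; b, a, c; d, d, 1] : Matrix (Fin 3) (Fin 3) F)ᵀ *
      (!![a, b, c; b, a, c; d, d, 1] : Matrix (Fin 3) (Fin 3) F).map (fun x => x ^ 4) = 1)
    (hdet : (!![a, b, c; b, a, c; d, d, 1] : Matrix (Fin 3) (Fin 3) F).det = 1) :
    ∃ p : PF F, (!![a, b, c; b, a, c; d, d, 1] : Matrix (Fin 3) (Fin 3) F) = Mmat p.b p.c := by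
  have h2 : (2 : F) = 0 := CharP.cast_eq_zero F 2
  have e16 := h16.out
  have h02 := congrFun (congrFun hU 0) 2
  have h01 := congrFun (congrFun hU 0) 1
  simp [Matrix.mul_apply, Fin.sum_univ_three] at h02 h01
  rw [Matrix.det_fin_three] at hdet
  simp at hdet
  have hab : a = b + 1 := by
    have : (a + b + 1) ^ 2 = 0 := by grind
    have h3 : a + b + 1 = 0 := by simpa using this
    grind
  subst hab
  have hd : d = c ^ 4 := by grind
  have hc : c = d ^ 4 := by
    rw [hd, ← pow_mul]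
    exact (e16 c).symm
  have hrel : b ^ 4 + b = d ^ 5 := by grind
  refine ⟨⟨d, b + d ^ 4 + d, ?_⟩, ?_⟩
  · have := e16 d
    grind
  · unfold Mmat
    ext i j
    fin_cases i <;> fin_cases j <;> simp <;> grind

omit h16 in
/-- commuting with the swap matrix forces the shape -/
theorem shape_of_comm (G : Matrix (Fin 3) (Fin 3) F) (h : G * Mmat 0 1 = Mmat 0 1 * G) :
    G = !![G 0 0, G 0 1, G 0 2; G 0 1, G 0 0, G 0 2; G 2 0, G 2 0, G 2 2] := by
  have h2 : (2 : F) = 0 := CharP.cast_eq_zero F 2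
  have h11 : (1 : F) + 1 = 0 := by rw [one_add_one_eq_two, h2]
  have h00 := congrFun (congrFun h 0) 0
  have h01 := congrFun (congrFun h 0) 1
  have h02 := congrFun (congrFun h 0) 2
  have h20 := congrFun (congrFun h 2) 0
  simp [Mmat, Matrix.mul_apply, Fin.sum_univ_three, h11] at h00 h01 h02 h20
  ext i j
  fin_cases i <;> fin_cases j <;> simp <;> grind

omit h16 in
/-- left multiplication of the shape by the torus matrix -/
theorem hmat_mul_shape (ξ a b c d f : F) :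
    hmat ξ * !![a, b, c; b, a, c; d, d, f] =
      !![ξ * a + (ξ ^ 3 + ξ) * (a + b + d), ξ * b + (ξ ^ 3 + ξ) * (a + b + d), ξ * c + (ξ ^ 3 + ξ) * f;
         ξ * b + (ξ ^ 3 + ξ) * (a + b + d), ξ * a + (ξ ^ 3 + ξ) * (a + b + d), ξ * c + (ξ ^ 3 + ξ) * f;
         ξ * d + (ξ ^ 3 + ξ) * (a + b + d), ξ * d + (ξ ^ 3 + ξ) * (a + b + d), ξ ^ 3 * f] := by
  have h2 : (2 : F) = 0 := CharP.cast_eq_zero F 2
  ext i j
  fin_cases i <;> fin_cases j <;>
    simp [hmat, Matrix.mul_apply, Fin.sum_univ_three] <;> grind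

omit h16 in
theorem hmat_mul' (ζ ξ : F) : hmat ζ * hmat ξ = hmat (ζ * ξ) := by
  have h2 : (2 : F) = 0 := CharP.cast_eq_zero F 2
  ext i j
  fin_cases i <;> fin_cases j <;>
    simp [hmat, Matrix.mul_apply, Fin.sum_univ_three] <;> grind

omit h16 in
theorem hmat_one' : hmat (1 : F) = 1 := by
  have h2 : (2 : F) = 0 := CharP.cast_eq_zero F 2
  have h11 : (1 : F) + 1 = 0 := by rw [one_add_one_eq_two, h2]
  ext i j
  fin_cases i <;> fin_cases j <;> simp [hmat, h11]

omit h16 in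
theorem hmat_pow' (ζ : F) (k : ℕ) : hmat ζ ^ k = hmat (ζ ^ k) := by
  induction k with
  | zero => rw [pow_zero, pow_zero, hmat_one']
  | succ k ih => rw [pow_succ, pow_succ, ih, hmat_mul']

variable [Fintype F]

theorem cent_matrix (hF : Fintype.card F = 16) (ζ : F) (hζ : ζ ^ 5 = 1) (hζ1 : ζ ≠ 1)
    (g : Cfsg.SU 3 F 4) (hg : g * mSU hF p0 = mSU hF p0 * g) :
    ∃ j : ℕ, ∃ p : PF F, g = hSU hF ζ hζ ^ j * mSU hF p := by
  have h2 : (2 : F) = 0 := CharP.cast_eq_zero F 2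
  have hF' : Fintype.card F = 4 ^ 2 := by rw [hF]; norm_num
  set G : Matrix (Fin 3) (Fin 3) F := (g.1 : Matrix (Fin 3) (Fin 3) F) with hGdef
  -- the commutation relation for matrices
  have hcomm : G * Mmat 0 1 = Mmat 0 1 * G := by
    have := congrArg (fun x : Cfsg.SU 3 F 4 => ((x.1 : Matrix.SpecialLinearGroup (Fin 3) F) :
      Matrix (Fin 3) (Fin 3) F)) hg
    exact this
  have hshape := shape_of_comm G hcomm
  set a := G 0 0
  set b := G 0 1
  set c := G 0 2
  set d := G 2 0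
  set f := G 2 2
  -- unitarity and determinant
  have hU : Gᵀ * G.map (fun x => x ^ 4) = 1 :=
    Cfsg.Agent.Lib.Helper5_SUOrder.transpose_mul_map_of_isU hF'
      ((Cfsg.Agent.Lib.Helper5_SUOrder.mem_SU_iff g.1).mp g.2)
  have hdetG : G.det = 1 := g.1.2
  -- `f ^ 5 = 1`
  have hf5 : f ^ 5 = 1 := by
    have h22 := congrFun (congrFun hU 2) 2
    rw [hshape] at h22
    simp [Matrix.mul_apply, Fin.sum_univ_three] at h22
    grind
  -- the matrix `M = hmat (f ^ 3) * G`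
  set ξ : F := f ^ 3 with hξdef
  have hξ5 : ξ ^ 5 = 1 := by
    rw [hξdef, ← pow_mul, show 3 * 5 = 5 * 3 by norm_num, pow_mul, hf5, one_pow]
  have hξf : ξ ^ 3 * f = 1 := by
    rw [hξdef, ← pow_mul, ← pow_succ, show 3 * 3 + 1 = 5 * 2 by norm_num, pow_mul, hf5, one_pow]
  have hMU : (hmat ξ * G)ᵀ * (hmat ξ * G).map (fun x => x ^ 4) = 1 := by
    have e1 : (hmat ξ * G).map (fun x => x ^ 4) =
        (hmat ξ).map (fun x => x ^ 4) * G.map (fun x => x ^ 4) :=
      Matrix.map_mul (f := Cfsg.Agent.Lib.Helper5_SUOrder.powQ hF')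
    rw [e1, Matrix.transpose_mul, Matrix.mul_assoc, ← Matrix.mul_assoc (hmat ξ)ᵀ,
      hmat_isU ξ hξ5, Matrix.one_mul, hU]
  have hMdet : (hmat ξ * G).det = 1 := by
    rw [Matrix.det_mul, hmat_det ξ hξ5, hdetG, one_mul]
  have hMshape := hmat_mul_shape ξ a b c d f
  rw [← hshape, hξf] at hMshape
  rw [hMshape] at hMU hMdet
  obtain ⟨p, hp⟩ := shape_one _ _ _ _ hMU hMdet
  rw [← hMshape] at hp
  -- `G = hmat (f ^ 2) * Mmat p.b p.c`
  have hG : G = hmat (f ^ 2) * Mmat p.b p.c := by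
    rw [← hp, ← Matrix.mul_assoc, hmat_mul', hξdef, ← pow_add, hf5, hmat_one', Matrix.one_mul]
  -- `f` is a power of `ζ`
  have hord : orderOf ζ = 5 := by
    have hdvd : orderOf ζ ∣ 5 := orderOf_dvd_of_pow_eq_one hζ
    rcases (Nat.dvd_prime (by norm_num : Nat.Prime 5)).1 hdvd with h1 | h5
    · exact absurd (orderOf_eq_one_iff.1 h1) hζ1
    · exact h5
  have hprim : IsPrimitiveRoot ζ 5 := hord ▸ IsPrimitiveRoot.orderOf ζ
  obtain ⟨m, -, hm⟩ := hprim.eq_pow_of_pow_eq_one hf5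
  refine ⟨2 * m, p, ?_⟩
  apply Subtype.ext
  apply Subtype.ext
  show G = _
  rw [hG]
  have e1 : (((hSU hF ζ hζ ^ (2 * m) * mSU hF p : Cfsg.SU 3 F 4) :
      Matrix.SpecialLinearGroup (Fin 3) F) : Matrix (Fin 3) (Fin 3) F)
      = hmat ζ ^ (2 * m) * Mmat p.b p.c := by
    rw [Subgroup.coe_mul, Subgroup.coe_pow, Matrix.SpecialLinearGroup.coe_mul,
      Matrix.SpecialLinearGroup.coe_pow]
    rfl
  rw [e1, hmat_pow', mul_comm 2 m, pow_mul, hm]

end Cfsg.Agent.Lib.Helper25_U320_CENT
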