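import Mathlib
import Cfsg.Agent.Lib.Helper50_UQAbsDefs

set_option autoImplicit false

/-!
helper25: UQ-A2 (architect helper50, S2152): a subgroup of `W` that is totally isotropic modulo a
proper subgroup `Y` of `A` has at most `√|W|` elements (character sum).
-/

open Cfsg.Agent.Lib.Helper50_UQAbsDefs

namespace Cfsg.Agent.Lib.Helper25_UQ_A2

/-- UQ-A2 (M).  A subgroup of `W` that is totally isotropic modulo a proper subgroup `Y` of `A`
has at most `√|W|` elements (character sum). -/
theorem A2 {W : Type*} [AddCommGroup W] [Finite W] {A : Type*} [AddCommGroup A] [Finite A]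
    (β : W → W → A)
    (hl : ∀ w w' u : W, β (w + w') u = β w u + β w' u)
    (hr : ∀ w u u' : W, β w (u + u') = β w u + β w u')
    (hsurj : ∀ w : W, w ≠ 0 → ∀ a : A, ∃ u : W, β w u = a)
    (Y : AddSubgroup A) (hY : Y ≠ ⊤) (I : AddSubgroup W)
    (hI : ∀ w ∈ I, ∀ w' ∈ I, β w w' ∈ Y) : Nat.card I ^ 2 ≤ Nat.card W := by
  classical
  have : Fintype W := Fintype.ofFinite W
  have : Fintype I := Fintype.ofFinite I
  -- a nontrivial character of `A` trivial on `Y`
  obtain ⟨a, ha⟩ : ∃ a : A, a ∉ Y := by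
    by_contra h
    push Not at h
    exact hY (eq_top_iff.mpr fun x _ => h x)
  have ha' : (QuotientAddGroup.mk a : A ⧸ Y) ≠ 0 := by
    rwa [Ne, QuotientAddGroup.eq_zero_iff]
  obtain ⟨ψ', hψ'⟩ := (AddChar.exists_apply_ne_zero (α := A ⧸ Y)).mpr ha'
  obtain ⟨ψ, hψdef⟩ : ∃ ψ : AddChar A ℂ, ψ = ψ'.compAddMonoidHom (QuotientAddGroup.mk' Y) :=
    ⟨_, rfl⟩
  have hψY : ∀ y ∈ Y, ψ y = 1 := by
    intro y hy
    rw [hψdef, AddChar.compAddMonoidHom_apply, QuotientAddGroup.mk'_apply,
      (QuotientAddGroup.eq_zero_iff y).mpr hy, AddChar.map_zero_eq_one]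
  have hψa : ψ a ≠ 1 := by
    rw [hψdef, AddChar.compAddMonoidHom_apply, QuotientAddGroup.mk'_apply]
    exact hψ'
  -- `β` is additive in each variable
  have hr0 : ∀ w : W, β w 0 = 0 := by
    intro w
    have := hr w 0 0
    rw [add_zero] at this
    exact (add_eq_left.mp this.symm)
  have hl0 : ∀ u : W, β 0 u = 0 := by
    intro u
    have := hl 0 0 u
    rw [add_zero] at this
    exact (add_eq_left.mp this.symm)
  let βr : W → (W →+ A) := fun i =>
    { toFun := β i, map_zero' := hr0 i, map_add' := hr i }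
  let βl : W → (W →+ A) := fun w =>
    { toFun := fun i => β i w, map_zero' := hl0 w, map_add' := fun i i' => hl i i' w }
  let χ : W → AddChar W ℂ := fun i => ψ.compAddMonoidHom (βr i)
  let η : W → AddChar I ℂ := fun w => ψ.compAddMonoidHom ((βl w).comp I.subtype)
  have hχapp : ∀ i w, χ i w = ψ (β i w) := fun i w => rfl
  have hηapp : ∀ w (i : I), η w i = ψ (β (i : W) w) := fun w i => rfl
  have hχ0 : ∀ i : W, i ≠ 0 → χ i ≠ 0 := by
    intro i hi h
    obtain ⟨u, hu⟩ := hsurj i hi a
    have h1 := AddChar.eq_zero_iff.mp h u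
    rw [hχapp, hu] at h1
    exact hψa h1
  -- the double sum, first order
  have key1 : ∑ i : I, ∑ w : W, χ (i : W) w = (Fintype.card W : ℂ) := by
    rw [Fintype.sum_eq_single (0 : I)]
    · have : ∀ w : W, χ ((0 : I) : W) w = 1 := by
        intro w
        rw [hχapp, AddSubgroup.coe_zero, hl0, AddChar.map_zero_eq_one]
      simp only [this, Finset.sum_const, Finset.card_univ, nsmul_eq_mul, mul_one]
    · intro i hi
      apply AddChar.sum_eq_zero_iff_ne_zero.mpr
      apply hχ0
      intro h
      exact hi (Subtype.ext h)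
  -- second order
  have key2 : ∑ w : W, ∑ i : I, χ (i : W) w =
      (Fintype.card I : ℂ) * ((Finset.univ.filter (fun w : W => η w = 0)).card : ℂ) := by
    have : ∀ w : W, ∑ i : I, χ (i : W) w = if η w = 0 then (Fintype.card I : ℂ) else 0 := by
      intro w
      have h1 := AddChar.sum_eq_ite (η w)
      rw [← h1]
      rfl
    simp only [this]
    rw [← Finset.sum_filter, Finset.sum_const, nsmul_eq_mul, mul_comm]
  have hsub : (Finset.univ.filter (fun w : W => w ∈ I)) ⊆
      (Finset.univ.filter (fun w : W => η w = 0)) := by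
    intro w hw
    rw [Finset.mem_filter] at hw ⊢
    refine ⟨hw.1, ?_⟩
    rw [AddChar.eq_zero_iff]
    intro i
    rw [hηapp]
    exact hψY _ (hI _ i.2 _ hw.2)
  have hcardI : (Finset.univ.filter (fun w : W => w ∈ I)).card = Fintype.card I := by
    rw [Fintype.card_subtype]
  have hle := Finset.card_le_card hsub
  rw [hcardI] at hle
  have heq : (Fintype.card W : ℂ) =
      (Fintype.card I : ℂ) * ((Finset.univ.filter (fun w : W => η w = 0)).card : ℂ) := by
    rw [← key1, ← key2, Finset.sum_comm]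
  have heqN : Fintype.card W =
      Fintype.card I * (Finset.univ.filter (fun w : W => η w = 0)).card := by
    exact_mod_cast heq
  rw [Nat.card_eq_fintype_card, Nat.card_eq_fintype_card, heqN, pow_two]
  exact Nat.mul_le_mul_left _ hle

end Cfsg.Agent.Lib.Helper25_UQ_A2
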