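import Mathlib
import Cfsg.Agent.Lib.Helper50_UQAbsDefs

set_option autoImplicit false

/-!
helper25: UQ-INT (architect helper50, S2152): double count of the pairs
(point of `Ω`, root group fixing it).
-/

open Cfsg.Agent.Lib.Helper50_UQAbsDefs

namespace Cfsg.Agent.Lib.Helper25_UQ_INT

/-- UQ-INT (M).  Double count of the pairs (point of `Ω`, root group fixing it). -/
theorem INT {G : Type*} [Group G] {Ω : Type*} [MulAction G Ω] [MulAction.IsPretransitive G Ω]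
    [Finite Ω] {P : Type*} [MulAction G P] [MulAction.IsPretransitive G P] [Finite P]
    (Xs : P → Subgroup G) (hX : ∀ (g : G) (u : P), ∀ h ∈ Xs u, g * h * g⁻¹ ∈ Xs (g • u))
    (u0 : P) :
    ∃ s : ℕ, Nat.card Ω * s = Nat.card P * Nat.card {ω : Ω // ∀ h ∈ Xs u0, h • ω = ω} := by
  classical
  have : Fintype Ω := Fintype.ofFinite Ω
  have : Fintype P := Fintype.ofFinite P
  -- equivariance of the incidence relation
  have hmp : ∀ (g : G) (u : P) (ω : Ω), (∀ h ∈ Xs u, h • ω = ω) →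
      ∀ h ∈ Xs (g • u), h • (g • ω) = g • ω := by
    intro g u ω hfix h hh
    have h1 := hX g⁻¹ (g • u) h hh
    rw [inv_inv, inv_smul_smul] at h1
    have h2 := hfix _ h1
    rw [mul_smul, mul_smul] at h2
    have h3 := congrArg (fun z => g • z) h2
    simpa using h3
  have hiff : ∀ (g : G) (u : P) (ω : Ω), (∀ h ∈ Xs u, h • ω = ω) ↔
      ∀ h ∈ Xs (g • u), h • (g • ω) = g • ω := by
    intro g u ω
    refine ⟨hmp g u ω, fun hfix => ?_⟩
    have := hmp g⁻¹ (g • u) (g • ω) hfix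
    simpa using this
  -- the two fibres
  have hP : ∀ (g : G) (u : P), Nat.card {ω : Ω // ∀ h ∈ Xs (g • u), h • ω = ω} =
      Nat.card {ω : Ω // ∀ h ∈ Xs u, h • ω = ω} := by
    intro g u
    symm
    apply Nat.card_congr
    refine ⟨fun ω => ⟨g • ω.1, (hiff g u ω.1).mp ω.2⟩,
      fun ω => ⟨g⁻¹ • ω.1, (hiff g u (g⁻¹ • ω.1)).mpr (by simpa using ω.2)⟩, ?_, ?_⟩
    · intro ω
      simp
    · intro ω
      simp
  have hΩ : ∀ (g : G) (ω : Ω), Nat.card {u : P // ∀ h ∈ Xs u, h • (g • ω) = g • ω} =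
      Nat.card {u : P // ∀ h ∈ Xs u, h • ω = ω} := by
    intro g ω
    symm
    apply Nat.card_congr
    refine ⟨fun u => ⟨g • u.1, (hiff g u.1 ω).mp u.2⟩,
      fun u => ⟨g⁻¹ • u.1, (hiff g (g⁻¹ • u.1) ω).mpr (by simpa using u.2)⟩, ?_, ?_⟩
    · intro u
      simp
    · intro u
      simp
  -- the double count
  have hswap : Nat.card (Σ ω : Ω, {u : P // ∀ h ∈ Xs u, h • ω = ω}) =
      Nat.card (Σ u : P, {ω : Ω // ∀ h ∈ Xs u, h • ω = ω}) := by
    apply Nat.card_congr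
    exact ⟨fun p => ⟨p.2.1, ⟨p.1, p.2.2⟩⟩, fun p => ⟨p.2.1, ⟨p.1, p.2.2⟩⟩, fun p => rfl,
      fun p => rfl⟩
  have hsumP : Nat.card (Σ u : P, {ω : Ω // ∀ h ∈ Xs u, h • ω = ω}) =
      Nat.card P * Nat.card {ω : Ω // ∀ h ∈ Xs u0, h • ω = ω} := by
    rw [Nat.card_sigma]
    have : ∀ u : P, Nat.card {ω : Ω // ∀ h ∈ Xs u, h • ω = ω} =
        Nat.card {ω : Ω // ∀ h ∈ Xs u0, h • ω = ω} := by
      intro u
      obtain ⟨g, hg⟩ := MulAction.exists_smul_eq G u0 u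
      rw [← hg]
      exact hP g u0
    simp only [this, Finset.sum_const, Finset.card_univ, smul_eq_mul, Nat.card_eq_fintype_card]
  rcases isEmpty_or_nonempty Ω with hE | ⟨⟨ω0⟩⟩
  · refine ⟨0, ?_⟩
    have h1 : Nat.card {ω : Ω // ∀ h ∈ Xs u0, h • ω = ω} = 0 := by
      rw [Nat.card_eq_zero]
      left
      exact ⟨fun ω => hE.false ω.1⟩
    rw [h1, mul_zero, mul_zero]
  · refine ⟨Nat.card {u : P // ∀ h ∈ Xs u, h • ω0 = ω0}, ?_⟩
    rw [← hsumP, ← hswap, Nat.card_sigma]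
    have : ∀ ω : Ω, Nat.card {u : P // ∀ h ∈ Xs u, h • ω = ω} =
        Nat.card {u : P // ∀ h ∈ Xs u, h • ω0 = ω0} := by
      intro ω
      obtain ⟨g, hg⟩ := MulAction.exists_smul_eq G ω0 ω
      rw [← hg]
      exact hΩ g ω0
    simp only [this, Finset.sum_const, Finset.card_univ, smul_eq_mul, Nat.card_eq_fintype_card]

end Cfsg.Agent.Lib.Helper25_UQ_INT
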