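import Mathlib
import Cfsg.Agent.Lib.Helper97_UExtDefs
import Cfsg.Agent.Lib.Helper94_UDDefs
import Cfsg.Agent.Lib.Helper98_ExtMult
import Cfsg.Agent.Lib.Helper10_UX_BASIC
import Cfsg.Agent.Lib.Helper10_UX_THERM
import Cfsg.Agent.Lib.Helper10_UX_TRS
import Cfsg.Agent.Lib.Helper73_UX_FLD

set_option autoImplicit false
set_option linter.unusedSectionVars false
set_option linter.unusedVariables false

/-!
# UEXT2 market (architect helper97), package CLAIM1

From `(ε, 0) ∈ UU f M` and the arithmetic condition to a vector of `UU f M` of non-zero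
`K`-hermitian norm.
-/

namespace Cfsg.Agent.Lib.Helper25_UX_CLAIM1

open Module
open Cfsg.Agent.Lib.Helper94_Symp Cfsg.Agent.Lib.Helper94_Herm Cfsg.Agent.Lib.Helper13_PSUSimple
  Cfsg.Agent.Lib.Helper67_Tens2Defs Cfsg.Agent.Lib.Helper67_UT2Defs Cfsg.Agent.Lib.Helper98_ExtDefs
  Cfsg.Agent.Lib.Helper94_FrmDefs Cfsg.Agent.Lib.Helper94_UDDefs Cfsg.Agent.Lib.Helper97_UExtDefs

variable {F K : Type*} [Field F] [Field K] [Algebra F K] [Finite F] [Finite K]
  {σ : F →+* F} {τ : K →+* K}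

/-- a `τ`-fixed `k'` with `Tr (k' * τ l) ≠ 0` -/
theorem exists_fixed_trace_ne (h : TauExt σ τ) (hσ : Invol σ) (l : K) (hl : l ≠ 0) :
    ∃ k' : K, τ k' = k' ∧ Algebra.trace F K (k' * τ l) ≠ 0 := by
  obtain ⟨y, -, hy⟩ := Cfsg.Agent.Lib.Helper10_UX_THERM.trT_nondeg h l trivial hl
  have hy' : trT h y l ≠ 0 := by
    rw [Cfsg.Agent.Lib.Helper10_UX_THERM.trT_isHerm h l y]
    exact (map_ne_zero σ).mpr hy
  rw [trT_apply] at hy'
  obtain ⟨θ, hθ⟩ := hσ.ne_id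
  obtain ⟨a, b, ha, hb, hyab⟩ := Cfsg.Agent.Lib.Helper73_UX_FLD.dec_K0 h hσ hθ y
  by_contra hcon
  push Not at hcon
  apply hy'
  rw [hyab, add_mul, map_add, smul_mul_assoc, map_smul, hcon a ha, hcon b hb, smul_zero, add_zero]

variable {M : Subgroup ((K × K) ≃ₗ[F] (K × K))}

/-- PKG CLAIM1 (M; uses BASIC, FLD, THERM) -/
theorem exists_aniso_UU (h : TauExt σ τ) (hσ : Invol σ) (hM : HypX h M) (hA : Arith σ τ) (ε : K)
    (hε : ε ≠ 0) (hU : ((ε, 0) : K × K) ∈ UU (uf (trT h)) M) :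
    ∃ x ∈ UU (uf (trT h)) M, nu τ x ≠ 0 := by
  obtain ⟨l, hlN, hlA⟩ := hA
  have hl0 : (l : K) ≠ 0 := l.ne_zero
  obtain ⟨k', hk', hv⟩ := exists_fixed_trace_ne h hσ (l : K) hl0
  set v : F := Algebra.trace F K (k' * τ (l : K)) with hvdef
  have hk'0 : k' ≠ 0 := by
    intro h0
    apply hv
    rw [hvdef, h0, zero_mul, map_zero]
  obtain ⟨ω, hω0, hω⟩ := exists_skew hσ
  have hσv : σ v ≠ 0 := (map_ne_zero σ).mpr hv
  have hτε : τ ε ≠ 0 := (map_ne_zero τ).mpr hε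
  have hτl : τ (l : K) ≠ 0 := (map_ne_zero τ).mpr hl0
  -- the element `c`
  set c : K := (ω * v⁻¹) • (k' * τ (l : K)) with hc
  have hTrc : Algebra.trace F K c = ω := by
    rw [hc, map_smul, ← hvdef, smul_eq_mul, mul_assoc, inv_mul_cancel₀ hv, mul_one]
  have hτc : τ c = (-ω * (σ v)⁻¹) • (k' * (l : K)) := by
    rw [hc, h.map_smul, map_mul, map_mul, h.invol, hk', map_inv₀, hω]
  have hTrτc : Algebra.trace F K (τ c) = -ω := by
    rw [Cfsg.Agent.Lib.Helper10_UX_TRS.trace_tau h, hTrc, hω]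
  -- `c + τ c ≠ 0`
  have hcne : c + τ c ≠ 0 := by
    intro h0
    have h1 : σ v • τ (l : K) = v • (l : K) := by
      have h2 : (ω * v⁻¹) • (k' * τ (l : K)) = (ω * (σ v)⁻¹) • (k' * (l : K)) := by
        have h3 : c = -τ c := eq_neg_of_add_eq_zero_left h0
        rw [hτc] at h3
        rw [← hc, h3, ← neg_smul]
        congr 1
        ring
      have h4 : k' * ((ω * v⁻¹) • τ (l : K)) = k' * ((ω * (σ v)⁻¹) • (l : K)) := by
        rw [mul_smul_comm, mul_smul_comm]; exact h2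
      have h5 := mul_left_cancel₀ hk'0 h4
      have h6 := congrArg (fun z : K => (ω⁻¹ * v * σ v) • z) h5
      simp only [smul_smul] at h6
      have e1 : ω⁻¹ * v * σ v * (ω * v⁻¹) = σ v := by field_simp
      have e2 : ω⁻¹ * v * σ v * (ω * (σ v)⁻¹) = v := by field_simp
      rw [e1, e2] at h6
      exact h6
    have hfix : τ (v • (l : K)) = v • (l : K) := by
      rw [h.map_smul, h1]
    apply hlA v⁻¹ (v • (l : K)) hfix
    rw [smul_smul, inv_mul_cancel₀ hv, one_smul]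
  -- the skew unit `κ`
  have hΩ0 : algebraMap F K ω ≠ 0 := by
    rw [Ne, map_eq_zero_iff _ (algebraMap F K).injective]; exact hω0
  have hτΩ : τ (algebraMap F K ω) = -algebraMap F K ω := by
    rw [h.ext, hω, map_neg]
  set κ0 : K := ε * τ ε / (algebraMap F K ω * k') with hκ0
  have hκ00 : κ0 ≠ 0 := div_ne_zero (mul_ne_zero hε hτε) (mul_ne_zero hΩ0 hk'0)
  have hτκ0 : τ κ0 = -κ0 := by
    rw [hκ0, map_div₀, map_mul, map_mul, h.invol, hτΩ, hk']
    rw [neg_mul, div_neg, mul_comm (τ ε) ε]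
  set κ : Kˣ := Units.mk0 κ0 hκ00 with hκ
  have hg1 : hEK τ l ∈ M := hM.h_mem l hlN
  have hg2 : wK κ ∈ M := Cfsg.Agent.Lib.Helper10_UX_BASIC.wK_mem h hM κ (by
    rw [hκ, Units.val_mk0]; exact hτκ0)
  have hu1 := UU_map hM.le hg1 hU
  have hu2 := UU_map hM.le hg2 hu1
  have hu3 := UU_smul hσ hu2 (σ v)⁻¹
  have hu' : (σ v)⁻¹ • (wK κ : (K × K) ≃ₗ[F] (K × K)) ((hEK τ l : (K × K) ≃ₗ[F] (K × K))
      ((ε, 0) : K × K)) = ((0, τ (c / ε)) : K × K) := by
    rw [hEK_apply, wK_apply]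
    ext
    · simp
    · simp only [Prod.smul_snd, mul_zero]
      rw [map_div₀, hτc, hκ, Units.val_inv_eq_inv_val, Units.val_mk0, hκ0]
      simp only [Algebra.smul_def, map_mul, map_neg, map_inv₀]
      have hV' : algebraMap F K (σ v) ≠ 0 := by
        rw [Ne, map_eq_zero_iff _ (algebraMap F K).injective]; exact hσv
      field_simp
  rw [hu'] at hu3
  have hB : IsHerm (uf (trT h)) := uf_isHerm (Cfsg.Agent.Lib.Helper10_UX_THERM.trT_isHerm h)
  have hττ : τ (τ (c / ε)) = c / ε := h.invol _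
  have hne : uf (trT h) ((ε, 0) : K × K) ((0, τ (c / ε)) : K × K) ≠ 0 := by
    rw [uf_apply]
    simp only [trT_apply, hττ, map_zero, add_zero]
    rw [mul_div_cancel₀ _ hε, hTrc]
    exact hω0
  have hsum : ((ε, 0) : K × K) + ((0, τ (c / ε)) : K × K) = ((ε, τ (c / ε)) : K × K) := by
    ext <;> simp
  have hw : uf (trT h) (((ε, 0) : K × K) + ((0, τ (c / ε)) : K × K))
      (((ε, 0) : K × K) + ((0, τ (c / ε)) : K × K)) = 0 := by
    rw [hsum, uf_apply]
    simp only [trT_apply, hττ]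
    rw [mul_div_cancel₀ _ hε, hTrc, ← map_mul, div_mul_cancel₀ _ hε, hTrτc]
    ring
  refine ⟨_, UU_add hσ hB hM.le hU hu3 hne hw, ?_⟩
  rw [hsum]
  unfold nu
  simp only [hττ]
  rw [mul_div_cancel₀ _ hε, ← map_mul, div_mul_cancel₀ _ hε]
  exact hcne

end Cfsg.Agent.Lib.Helper25_UX_CLAIM1
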