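import Mathlib
import Cfsg.Agent.Lib.Helper97_UExtDefs
import Cfsg.Agent.Lib.Helper94_UDDefs
import Cfsg.Agent.Lib.Helper98_ExtMult
import Cfsg.Agent.Lib.Helper10_UX_BASIC

set_option autoImplicit false
set_option linter.unusedSectionVars false
set_option linter.unusedVariables false

/-!
# UEXT2 market (architect helper97), package SQ

From one transvection with centre `(ε, 0)` in `M` to the whole root group: `(ε, 0) ∈ UU f M`.
The set `C = {c : utv f (ε,0) c ∈ M}` is an additive group closed under multiplication by `a²`,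
`σ a = a` (conjugation by `dK a a⁻¹`), and the fixed field is additively generated by squares.
-/

namespace Cfsg.Agent.Lib.Helper25_UX_SQ

open Module
open Cfsg.Agent.Lib.Helper94_Symp Cfsg.Agent.Lib.Helper94_Herm Cfsg.Agent.Lib.Helper13_PSUSimple
  Cfsg.Agent.Lib.Helper67_Tens2Defs Cfsg.Agent.Lib.Helper67_UT2Defs Cfsg.Agent.Lib.Helper98_ExtDefs
  Cfsg.Agent.Lib.Helper94_FrmDefs Cfsg.Agent.Lib.Helper94_UDDefs Cfsg.Agent.Lib.Helper97_UExtDefs

variable {F K : Type*} [Field F] [Field K] [Algebra F K] [Finite F] [Finite K]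
  {σ : F →+* F} {τ : K →+* K}

/-- every element of the fixed field is `x² - y²` or `x²` with `x, y` fixed -/
theorem fixed_eq_squares (hσ : Invol σ) (b : F) (hb : σ b = b) :
    ∃ x y : F, σ x = x ∧ σ y = y ∧ b = x ^ 2 - y ^ 2 := by
  by_cases h2 : (2 : F) = 0
  · have hch : ringChar F = 2 := CharP.ringChar_of_prime_eq_zero Nat.prime_two (by exact_mod_cast h2)
    obtain ⟨x, hx⟩ := FiniteField.isSquare_of_char_two hch b
    refine ⟨x, 0, ?_, map_zero σ, ?_⟩
    · have h3 : (σ x - x) ^ 2 = 0 := by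
        have h4 : σ x * σ x = b := by rw [← map_mul, ← hx, hb]
        have h5 : (σ x - x) ^ 2 = σ x * σ x + x * x - 2 * (σ x * x) := by ring
        rw [h5, h4, ← hx, h2, zero_mul, sub_zero, ← two_mul, h2, zero_mul]
      exact sub_eq_zero.mp (pow_eq_zero_iff (two_ne_zero) |>.mp h3)
    · rw [hx]; ring
  · refine ⟨(b + 1) / 2, (b - 1) / 2, ?_, ?_, ?_⟩
    · rw [map_div₀, map_add, map_one, hb, map_ofNat]
    · rw [map_div₀, map_sub, map_one, hb, map_ofNat]
    · field_simp
      ring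

variable {M : Subgroup ((K × K) ≃ₗ[F] (K × K))}

/-- PKG SQ (M; uses BASIC) -/
theorem uu_of_tv (h : TauExt σ τ) (hσ : Invol σ) (hM : HypX h M) (ε : K) (c : F) (hε : ε ≠ 0)
    (hc0 : c ≠ 0) (hc : σ c = -c) (hmem : utv (uf (trT h)) ((ε, 0) : K × K) c ∈ M) :
    ((ε, 0) : K × K) ∈ UU (uf (trT h)) M := by
  have hfu : uf (trT h) ((ε, 0) : K × K) ((ε, 0) : K × K) = 0 := by
    simp [uf_apply]
  refine ⟨hfu, ?_⟩
  -- closure under `a²`, `σ a = a`
  have hsq : ∀ a : F, σ a = a → ∀ d : F, utv (uf (trT h)) ((ε, 0) : K × K) d ∈ M →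
      utv (uf (trT h)) ((ε, 0) : K × K) (a ^ 2 * d) ∈ M := by
    intro a ha d hd
    by_cases ha0 : a = 0
    · rw [ha0, zero_pow two_ne_zero, zero_mul, Cfsg.Agent.Lib.Helper27_UQDefs.utv_zero_right]
      exact M.one_mem
    have hl0 : algebraMap F K a ≠ 0 := by
      rw [Ne, map_eq_zero_iff _ (algebraMap F K).injective]; exact ha0
    set l : Kˣ := Units.mk0 (algebraMap F K a) hl0 with hl
    have hτl : τ (l : K) = (l : K) := by
      rw [hl, Units.val_mk0, h.ext, ha]
    have hg := Cfsg.Agent.Lib.Helper10_UX_BASIC.dK_mem h hσ hM l hτl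
    have hgu : (dK l l⁻¹ : (K × K) ≃ₗ[F] (K × K)) ((ε, 0) : K × K) = a • ((ε, 0) : K × K) := by
      rw [dK_apply]
      ext
      · simp [hl, Algebra.smul_def]
      · simp
    have hconj := conj_utv (B := uf (trT h)) (hM.le hg) ((ε, 0) : K × K) d
    rw [hgu, utv_smul, ha] at hconj
    have h1 : a * a * d = a ^ 2 * d := by ring
    rw [h1] at hconj
    rw [← hconj]
    exact M.mul_mem (M.mul_mem hg hd) (M.inv_mem hg)
  intro c' hc'
  have hb : σ (c' / c) = c' / c := by
    rw [map_div₀, hc, hc', neg_div_neg_eq]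
  obtain ⟨x, y, hx, hy, hxy⟩ := fixed_eq_squares hσ (c' / c) hb
  have hc'eq : c' = x ^ 2 * c + -(y ^ 2 * c) := by
    have : c' = (c' / c) * c := by field_simp
    rw [this, hxy]; ring
  rw [hc'eq, ← Cfsg.Agent.Lib.Helper27_UQDefs.utv_add, ← Cfsg.Agent.Lib.Helper27_UQDefs.utv_neg]
  exact M.mul_mem (hsq x hx c hmem) (M.inv_mem (hsq y hy c hmem))

end Cfsg.Agent.Lib.Helper25_UX_SQ
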