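import Cfsg.Agent.Lib.Helper13_AmAPI
import Cfsg.Agent.Lib.Helper93_Am_N3of
import Cfsg.Agent.Lib.Helper57_Am_NTYPE
import Cfsg.Agent.Lib.Helper53_Am_N0
import Cfsg.Agent.Lib.Helper87_Am_N2

/-!
# S2858 market (architect helper13), package N-3 (verbatim statement).
`N3_of` (Helper93_Am_N3of) + N-TYPE (helper57), N-0 (helper53), N-2 (helper87).
-/

set_option autoImplicit false
set_option linter.unusedVariables false

namespace Cfsg.Agent.Lib.Helper93_Am_N3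

open MulAction Cfsg.Agent.Lib.Helper13_SimsDefs Cfsg.Agent.Lib.Helper13_AmDefs

section PartN
variable {G Ω : Type*} [Group G] [MulAction G Ω] {a b : Ω}

/-- N-3. -/
theorem N3 (S : S3Am G a b) (L : LocAPI G a b) (C : CritAPI G a b) (D : DichAPI G a b) {bb : ℕ} (hb : IsCrit G a b bb) (h2 : 2 ≤ bb) {α β : Ω}
    (h : Adj G a b α β) (hN : HasN G a b α) :
    Nat.card (Vst G a b β) = 8 ∧ Nat.card (Vst G a b α) = 8 ∧ Nat.card (CWst G a b α) = 4 ∧
    Nat.card (Zpr G a b α) = 2 ∧ Nat.card (Zpr G a b β) = 2 ∧ FFat G a b β ∧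
    Rst G a b β α = Zpr G a b α :=
  Cfsg.Agent.Lib.Helper93_Am_N3of.N3_of S L C
    (fun h' => Cfsg.Agent.Lib.Helper57_Am_NTYPE.adj_N_iff S L C D ⟨_, hN⟩ h')
    (fun hN' => Cfsg.Agent.Lib.Helper53_Am_N0.ffat_of_N S L C D hb h2 hN')
    (fun h' hN' => Cfsg.Agent.Lib.Helper87_Am_N2.N2 S L C D hb h2 h' hN') h hN

end PartN

end Cfsg.Agent.Lib.Helper93_Am_N3
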