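import Cfsg.Agent.Lib.Helper13_AmAPI
import Cfsg.Agent.Lib.Helper57_Am_NTYPE
import Cfsg.Agent.Lib.Helper53_Am_N0
import Cfsg.Agent.Lib.Helper93_Am_N3
import Cfsg.Agent.Lib.Helper26_Am_NALLaux

/-!
# S2858 market (architect helper13), package N-ALL (helper26)

In the `N`-case every vertex is FF with `|Z'_x| = 2`: the wrapper of `Helper26_Am_NALLaux.N_all_of`
over N-TYPE (`adj_N_iff`, helper57), N-0 (`ffat_of_N`, helper53) and N-3 (`N3`, helper93).
-/

set_option autoImplicit false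
set_option linter.unusedVariables false
set_option linter.unusedSectionVars false

namespace Cfsg.Agent.Lib.Helper26_Am_NALL

open MulAction Cfsg.Agent.Lib.Helper13_SimsDefs Cfsg.Agent.Lib.Helper13_AmDefs

variable {G Ω : Type*} [Group G] [MulAction G Ω] {a b : Ω}

/-- N-ALL: in the `N`-case every vertex is FF with `|Z'_x| = 2`. -/
theorem N_all (S : S3Am G a b) (L : LocAPI G a b) (C : CritAPI G a b) (D : DichAPI G a b) {bb : ℕ} (hb : IsCrit G a b bb) (h2 : 2 ≤ bb)
    (hex : ∃ x, HasN G a b x) : (∀ x, FFat G a b x) ∧ ∀ x, Nat.card (Zpr G a b x) = 2 :=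
  Helper26_Am_NALLaux.N_all_of S hb h2 hex
    (fun h => Helper57_Am_NTYPE.adj_N_iff S L C D hex h)
    (fun hN => Helper53_Am_N0.ffat_of_N S L C D hb h2 hN)
    (fun h hN => Helper93_Am_N3.N3 S L C D hb h2 h hN)

end Cfsg.Agent.Lib.Helper26_Am_NALL
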