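import Mathlib
import Cfsg.Agent.Lib.Helper26_CfgC3aData

/-! The configuration `C3a` (generated): the common stabiliser in `Co0` of the base vectors is
transitive on the 1100 minimal vectors with the prescribed inner products. -/

set_option autoImplicit false
open Cfsg

namespace Cfsg.Agent.Lib.Helper26_CfgC3a

open Cfsg.Agent.Lib.Helper26_VecCode Cfsg.Agent.Lib.Helper26_Golay Cfsg.Agent.Lib.Helper7_Xi

theorem cons_ok : consOK consL = true := by decide +kernel
theorem gens_good : gensL.all goodW = true := by decide +kernel
theorem base_lt : (baseOf consL).all (fun b => Nat.blt b FAIL) = true := by decide +kernel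
theorem gens_fix : gensL.all (fixesW (baseOf consL)) = true := by decide +kernel

set_option maxRecDepth 1000000 in
theorem forest_ok :
    forestCheck (stepW gensL) (tAtL tblTL 1024) tblP tblG tblD tblR 1100 = true := by
  decide +kernel

set_option maxRecDepth 1000000 in
theorem roots_ok : allFold (fun j => get16 tblR j == 0) 1100 = true := by decide +kernel

set_option maxRecDepth 1000000 in
theorem inc_ok :
    allFold (fun j => decide (tAtL tblTL 1024 j < tAtL tblTL 1024 (j + 1))) (1100 - 1) = true := by
  decide +kernel

theorem root_ok : rootOK consL (tAtL tblTL 1024 0) = true := by decide +kernel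

theorem mem1 : vecC con1.a ∈ leechLattice := mem_of_cert _ 8996447 (by decide +kernel)
theorem mem2 : vecC con2.a ∈ leechLattice := mem_of_cert _ 1326072 (by decide +kernel)

theorem root_mem : vecC (tAtL tblTL 1024 0) ∈ leechLattice := by
  have e : tAtL tblTL 1024 0 = 560098086933563343984545181440982575 := by decide +kernel
  rw [e]
  exact mem_of_cert _ 8394986 (by decide +kernel)

theorem base_mem : ∀ c ∈ consL, vecC c.a ∈ leechLattice := by
  intro c hc
  unfold consL at hc
  simp only [List.mem_cons, List.not_mem_nil, or_false] at hc
  rcases hc with rfl | rfl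
  · exact mem1
  · exact mem2

set_option maxRecDepth 1000000 in
theorem cntA_ok : cntA consL = 0 := by decide +kernel
set_option maxRecDepth 1000000 in
theorem cntB_ok1 : cntB consL 0 253 = 172 := by decide +kernel
set_option maxRecDepth 1000000 in
theorem cntB_ok2 : cntB consL 253 253 = 158 := by decide +kernel
set_option maxRecDepth 1000000 in
theorem cntB_ok3 : cntB consL 506 253 = 132 := by decide +kernel
set_option maxRecDepth 1000000 in
theorem cntO_ok1 : cntO consL 0 12 = 366 := by decide +kernel
set_option maxRecDepth 1000000 in
theorem cntO_ok2 : cntO consL 12 12 = 272 := by decide +kernel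

theorem count_ok : cntA consL + cntB consL 0 759 + cntO consL 0 24 = 1100 := by
  rw [cntB_split3 consL 253 506 253 253 253 759 rfl rfl rfl, cntO_split2 consL 12 12 12 24 rfl rfl,
    cntA_ok, cntB_ok1, cntB_ok2, cntB_ok3, cntO_ok1, cntO_ok2]

/-- The common stabiliser of the base vectors is transitive on the `1100` minimal vectors with the
prescribed inner products. -/
theorem std : (minSet consL).ncard = 1100 ∧
    ∀ x ∈ minSet consL, ∀ x' ∈ minSet consL, RelF (baseSet (baseOf consL)) x x' :=
  config_trans consL cons_ok base_mem base_lt gensL gens_good gens_fix (tAtL tblTL 1024)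
    (tAtL_lt tblTL 1024) tblP tblG tblD tblR 1100 forest_ok roots_ok inc_ok root_ok root_mem
    count_ok

end Cfsg.Agent.Lib.Helper26_CfgC3a
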