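import Cfsg.Agent.Lib.Helper7_M24

/-!
Basic API for `Cfsg.leechSet` / `Cfsg.leechLattice`: the set `leechSet` is an additive subgroup.
-/

set_option autoImplicit false
open Cfsg
open scoped Pointwise

namespace Cfsg.Agent.Lib.Helper7_Leech

open Cfsg.Agent.Lib.Helper7_M24

/-- The indicator word of a decidable predicate on the 24 points. -/
def indWord (P : GolayPt → Prop) [DecidablePred P] : GolayPt → ZMod 2 :=
  fun i => if P i then 1 else 0

theorem support₂_indWord (P : GolayPt → Prop) [DecidablePred P] :
    support₂ (indWord P) = Finset.univ.filter P := by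
  ext i
  rw [mem_support₂]
  simp only [indWord, Finset.mem_filter, Finset.mem_univ, true_and]
  split_ifs with h
  · simp [h]
  · simp [h]

/-- A filter set is the support of a code word iff its indicator word is a code word. -/
theorem filter_mem_supports_iff (P : GolayPt → Prop) [DecidablePred P] :
    Finset.univ.filter P ∈ supports (golayCode : Set (GolayPt → ZMod 2)) ↔
      indWord P ∈ golayCode := by
  constructor
  · rintro ⟨w, hw, h⟩
    rw [← support₂_indWord] at h
    rw [← support₂_injective h]
    exact hw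
  · intro h
    exact ⟨indWord P, h, support₂_indWord P⟩

/-- Membership in `leechSet`, phrased with indicator words. -/
theorem mem_leechSet_iff (x : GolayPt → ℤ) :
    x ∈ leechSet ↔ ∃ m : ℤ, (∀ i, x i ≡ m [ZMOD 2]) ∧ (∑ i, x i ≡ 4 * m [ZMOD 8]) ∧
      ∀ k : ℤ, indWord (fun i => x i ≡ k [ZMOD 4]) ∈ golayCode := by
  unfold leechSet
  simp only [Set.mem_ofPred_eq]
  constructor
  · rintro ⟨m, h1, h2, h3⟩
    refine ⟨m, h1, h2, fun k => ?_⟩
    rw [← filter_mem_supports_iff]
    convert h3 k
  · rintro ⟨m, h1, h2, h3⟩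
    refine ⟨m, h1, h2, fun k => ?_⟩
    have := (filter_mem_supports_iff (fun i => x i ≡ k [ZMOD 4])).mpr (h3 k)
    convert this

theorem indWord_true : indWord (fun _ => True) = 1 := by
  funext i; simp [indWord]

theorem indWord_false : indWord (fun _ => False) = 0 := by
  funext i; simp [indWord]

theorem zero_mem_leechSet : (0 : GolayPt → ℤ) ∈ leechSet := by
  rw [mem_leechSet_iff]
  refine ⟨0, fun i => by simp [Int.ModEq], by simp [Int.ModEq], fun k => ?_⟩
  by_cases hk : (0 : ℤ) ≡ k [ZMOD 4]
  · have : indWord (fun i : GolayPt => (0 : GolayPt → ℤ) i ≡ k [ZMOD 4]) = 1 := by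
      funext i; simp [indWord, hk]
    rw [this]; exact one_mem
  · have : indWord (fun i : GolayPt => (0 : GolayPt → ℤ) i ≡ k [ZMOD 4]) = 0 := by
      funext i; simp [indWord, hk]
    rw [this]; exact golayCode.zero_mem

theorem neg_mem_leechSet {x : GolayPt → ℤ} (hx : x ∈ leechSet) : -x ∈ leechSet := by
  rw [mem_leechSet_iff] at hx ⊢
  obtain ⟨m, h1, h2, h3⟩ := hx
  refine ⟨-m, fun i => (h1 i).neg, ?_, fun k => ?_⟩
  · have : ∑ i, (-x) i = -∑ i, x i := by simp
    rw [this, mul_neg]
    exact h2.neg
  · have : indWord (fun i => (-x) i ≡ k [ZMOD 4]) = indWord (fun i => x i ≡ -k [ZMOD 4]) := by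
      funext i
      simp only [indWord, Pi.neg_apply]
      have : (-x i ≡ k [ZMOD 4]) ↔ (x i ≡ -k [ZMOD 4]) := by
        constructor
        · intro h; simpa using h.neg
        · intro h; simpa using h.neg
      simp only [this]
    rw [this]
    exact h3 (-k)

/-- The pointwise identity behind closure under addition. -/
theorem ind_add_aux (a b m m' k : ℤ) (ha : a ≡ m [ZMOD 2]) (hb : b ≡ m' [ZMOD 2])
    (hk : k ≡ m + m' [ZMOD 2]) :
    (if a + b ≡ k [ZMOD 4] then (1 : ZMod 2) else 0) =
      1 + (if a ≡ m [ZMOD 4] then 1 else 0) + (if b ≡ k - m [ZMOD 4] then 1 else 0) := by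
  by_cases h1 : a + b ≡ k [ZMOD 4] <;> by_cases h2 : a ≡ m [ZMOD 4] <;>
    by_cases h3 : b ≡ k - m [ZMOD 4] <;> simp only [h1, h2, h3, if_true, if_false] <;>
    first | decide | (exfalso; unfold Int.ModEq at *; omega)

theorem add_mem_leechSet {x y : GolayPt → ℤ} (hx : x ∈ leechSet) (hy : y ∈ leechSet) :
    x + y ∈ leechSet := by
  rw [mem_leechSet_iff] at hx hy ⊢
  obtain ⟨m, h1, h2, h3⟩ := hx
  obtain ⟨m', h1', h2', h3'⟩ := hy
  refine ⟨m + m', fun i => (h1 i).add (h1' i), ?_, fun k => ?_⟩
  · have : ∑ i, (x + y) i = ∑ i, x i + ∑ i, y i := by simp [Finset.sum_add_distrib]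
    rw [this, mul_add]
    exact h2.add h2'
  · by_cases hk : k ≡ m + m' [ZMOD 2]
    · have : indWord (fun i => (x + y) i ≡ k [ZMOD 4]) =
          1 + indWord (fun i => x i ≡ m [ZMOD 4]) + indWord (fun i => y i ≡ k - m [ZMOD 4]) := by
        funext i
        simp only [indWord, Pi.add_apply, Pi.one_apply]
        exact ind_add_aux (x i) (y i) m m' k (h1 i) (h1' i) hk
      rw [this]
      exact golayCode.add_mem (golayCode.add_mem one_mem (h3 m)) (h3' (k - m))
    · have : indWord (fun i => (x + y) i ≡ k [ZMOD 4]) = 0 := by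
        funext i
        simp only [indWord, Pi.add_apply, Pi.zero_apply]
        rw [if_neg]
        intro h
        apply hk
        have h4 := (h1 i).add (h1' i)
        unfold Int.ModEq at *
        omega
      rw [this]
      exact golayCode.zero_mem

/-- `leechSet` as an additive subgroup. -/
def leechSubgroup : AddSubgroup (GolayPt → ℤ) where
  carrier := leechSet
  zero_mem' := zero_mem_leechSet
  add_mem' := add_mem_leechSet
  neg_mem' := neg_mem_leechSet

theorem leechLattice_eq : leechLattice = leechSubgroup := by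
  unfold leechLattice
  apply le_antisymm
  · rw [AddSubgroup.closure_le]
    exact fun x hx => hx
  · exact fun x hx => AddSubgroup.subset_closure hx

theorem mem_leechLattice_iff (x : GolayPt → ℤ) : x ∈ leechLattice ↔ x ∈ leechSet := by
  rw [leechLattice_eq]; rfl

end Cfsg.Agent.Lib.Helper7_Leech
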