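import Mathlib
import Cfsg.Prelude.Def_Sporadic_a

set_option autoImplicit false

/-! Self-orthogonality and double evenness of `Cfsg.golayCode`. -/

namespace Cfsg.Agent.Lib.Helper8_GolayEven

open Cfsg

/-- the standard inner product with a fixed word, as a linear functional -/
def ipL (v : GolayPt → ZMod 2) : (GolayPt → ZMod 2) →ₗ[ZMod 2] ZMod 2 where
  toFun u := ∑ i, u i * v i
  map_add' u u' := by
    simp only [Pi.add_apply, add_mul, Finset.sum_add_distrib]
  map_smul' a u := by
    simp only [Pi.smul_apply, smul_eq_mul, mul_assoc, Finset.mul_sum, RingHom.id_apply]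

theorem ipL_apply (u v : GolayPt → ZMod 2) : ipL v u = ∑ i, u i * v i := rfl

theorem ipL_comm (u v : GolayPt → ZMod 2) : ipL v u = ipL u v := by
  simp only [ipL_apply, mul_comm]

set_option maxRecDepth 100000 in
theorem qr_card : ∀ t : ZMod 23, (support₂ (qrWord t)).card = 12 := by decide

set_option maxRecDepth 100000 in
theorem qr_orth : ∀ s t : ZMod 23, (∑ i : GolayPt, qrWord s i * qrWord t i) = 0 := by decide

set_option maxRecDepth 100000 in
theorem qr_orth_one : ∀ s : ZMod 23, (∑ i : GolayPt, qrWord s i * (1 : GolayPt → ZMod 2) i) = 0 := by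
  decide

theorem one_orth_one : (∑ i : GolayPt, (1 : GolayPt → ZMod 2) i * (1 : GolayPt → ZMod 2) i) = 0 := by
  decide

theorem one_card : (support₂ (1 : GolayPt → ZMod 2)).card = 24 := by decide

/-- generators are pairwise orthogonal -/
theorem gen_orth (g g' : GolayPt → ZMod 2) (hg : g ∈ Set.range qrWord ∪ {1})
    (hg' : g' ∈ Set.range qrWord ∪ {1}) : ipL g' g = 0 := by
  rw [ipL_apply]
  rcases hg with ⟨s, rfl⟩ | hg
  · rcases hg' with ⟨t, rfl⟩ | hg'
    · exact qr_orth s t
    · rw [Set.mem_singleton_iff] at hg'; subst hg'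
      exact qr_orth_one s
  · rw [Set.mem_singleton_iff] at hg; subst hg
    rcases hg' with ⟨t, rfl⟩ | hg'
    · have := qr_orth_one t
      simp only [mul_comm] at this ⊢
      exact this
    · rw [Set.mem_singleton_iff] at hg'; subst hg'
      exact one_orth_one

/-- the code is self-orthogonal -/
theorem golay_orth (u v : GolayPt → ZMod 2) (hu : u ∈ golayCode) (hv : v ∈ golayCode) :
    ∑ i, u i * v i = 0 := by
  -- step 1: generators are orthogonal to the whole code
  have step1 : ∀ g ∈ Set.range qrWord ∪ {1}, ∀ w ∈ golayCode, ipL g w = 0 := by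
    intro g hg w hw
    have : golayCode ≤ LinearMap.ker (ipL g) := by
      unfold golayCode
      rw [Submodule.span_le]
      intro g' hg'
      exact gen_orth g' g hg' hg
    exact this hw
  have : golayCode ≤ LinearMap.ker (ipL v) := by
    unfold golayCode
    rw [Submodule.span_le]
    intro g hg
    show ipL v g = 0
    rw [ipL_comm]
    exact step1 g hg v hv
  exact this hu

/-- the inner product counts the intersection of supports mod 2 -/
theorem ip_eq_card_inter (u v : GolayPt → ZMod 2) :
    ∑ i, u i * v i = ((support₂ u ∩ support₂ v).card : ZMod 2) := by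
  have h : ∀ i, u i * v i = if i ∈ support₂ u ∩ support₂ v then 1 else 0 := by
    intro i
    have key : ∀ a b : ZMod 2, a * b = if a ≠ 0 ∧ b ≠ 0 then 1 else 0 := by decide
    rw [key]
    simp only [support₂, Finset.mem_inter, Finset.mem_filter, Finset.mem_univ, true_and]
  simp only [h, Finset.sum_boole, Finset.filter_mem_eq_inter, Finset.univ_inter]

theorem even_card_inter (u v : GolayPt → ZMod 2) (hu : u ∈ golayCode) (hv : v ∈ golayCode) :
    Even (support₂ u ∩ support₂ v).card := by
  have h := golay_orth u v hu hv
  rw [ip_eq_card_inter] at h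
  rw [even_iff_two_dvd]
  exact (ZMod.natCast_eq_zero_iff _ 2).mp h

theorem support_add (u v : GolayPt → ZMod 2) :
    support₂ (u + v) = symmDiff (support₂ u) (support₂ v) := by
  ext i
  have key : ∀ a b : ZMod 2, a + b ≠ 0 ↔ (a ≠ 0 ∧ ¬ b ≠ 0) ∨ (b ≠ 0 ∧ ¬ a ≠ 0) := by decide
  simp only [support₂, Finset.mem_symmDiff, Finset.mem_filter, Finset.mem_univ, true_and,
    Pi.add_apply]
  exact key _ _

theorem card_symmDiff_add {α : Type*} [DecidableEq α] (s t : Finset α) :
    (symmDiff s t).card + 2 * (s ∩ t).card = s.card + t.card := by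
  have h1 : (symmDiff s t).card = (s \ t).card + (t \ s).card := by
    rw [symmDiff_def, Finset.sup_eq_union, Finset.card_union_of_disjoint]
    exact disjoint_sdiff_sdiff
  have h2 := Finset.card_sdiff_add_card_inter s t
  have h3 := Finset.card_sdiff_add_card_inter t s
  rw [Finset.inter_comm t s] at h3
  omega

/-- all code words have weight divisible by four -/
theorem four_dvd_card (u : GolayPt → ZMod 2) (hu : u ∈ golayCode) : 4 ∣ (support₂ u).card := by
  unfold golayCode at hu
  induction hu using Submodule.span_induction with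
  | mem g hg =>
    rcases hg with ⟨s, rfl⟩ | hg
    · rw [qr_card]; norm_num
    · rw [Set.mem_singleton_iff] at hg; subst hg
      rw [one_card]; norm_num
  | zero =>
    have : support₂ (0 : GolayPt → ZMod 2) = ∅ := by
      simp [support₂]
    rw [this]; simp
  | add x y hx hy ihx ihy =>
    have h1 := card_symmDiff_add (support₂ x) (support₂ y)
    rw [← support_add] at h1
    have h2 := even_card_inter x y hx hy
    obtain ⟨k, hk⟩ := h2
    omega
  | smul a x hx ihx =>
    have : a = 0 ∨ a = 1 := by
      revert a; decide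
    rcases this with rfl | rfl
    · have : support₂ ((0 : ZMod 2) • x) = ∅ := by
        simp [support₂]
      rw [this]; simp
    · rw [one_smul]; exact ihx

theorem zero_mem_supports : (∅ : Finset GolayPt) ∈ supports (golayCode : Set (GolayPt → ZMod 2)) :=
  ⟨0, golayCode.zero_mem, by simp [support₂]⟩

end Cfsg.Agent.Lib.Helper8_GolayEven
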