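import Cfsg.Agent.S0392
import Cfsg.Agent.Lib.Helper7_Leech
import Cfsg.Agent.Lib.Helper8_GolayEven
import Cfsg.Prelude.Def_SporadicCombinatorics

/-!
The monomial group of the length-24 code inside the automorphism group of the rank-24 lattice:
for `σ ∈ M24` and `c` the support of a code word, the signed permutation `signedPerm σ c` maps the
lattice onto itself, and gives an element `monoElt` of `Co0`.
-/

set_option autoImplicit false
open Cfsg
open scoped Pointwise

namespace Cfsg.Agent.Lib.Helper92_Monomial

open Cfsg.Agent.Lib.Helper7_M24 Cfsg.Agent.Lib.Helper7_Leech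

/-! ### inner products are divisible by 8 -/

theorem sqNorm_add' (a b : GolayPt → ℤ) :
    sqNorm (a + b) = sqNorm a + sqNorm b + 2 * dotInt a b := by
  unfold sqNorm dotInt
  rw [Finset.mul_sum, ← Finset.sum_add_distrib, ← Finset.sum_add_distrib]
  apply Finset.sum_congr rfl
  intro i _
  simp only [Pi.add_apply]
  ring

theorem eight_dvd_dot (x y : GolayPt → ℤ) (hx : x ∈ leechLattice) (hy : y ∈ leechLattice) :
    (8 : ℤ) ∣ dotInt x y := by
  have h1 := Cfsg.Agent.S0392.result x hx
  have h2 := Cfsg.Agent.S0392.result y hy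
  have h3 := Cfsg.Agent.S0392.result (x + y) (leechLattice.add_mem hx hy)
  rw [sqNorm_add'] at h3
  omega

/-! ### twice the indicator of a code word -/

/-- Twice the indicator vector of a binary word. -/
def twoInd (u : GolayPt → ZMod 2) : GolayPt → ℤ := fun i => if u i = 1 then 2 else 0

theorem zmod2_cases (a : ZMod 2) : a = 0 ∨ a = 1 := by
  revert a; decide

theorem twoInd_of_one {u : GolayPt → ZMod 2} {i : GolayPt} (h : u i = 1) : twoInd u i = 2 := by
  unfold twoInd; rw [if_pos h]

theorem twoInd_of_zero {u : GolayPt → ZMod 2} {i : GolayPt} (h : u i = 0) : twoInd u i = 0 := by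
  unfold twoInd; rw [if_neg]; rw [h]; decide

/-- The class of `twoInd u` modulo 4 at a point. -/
theorem indWord_twoInd (u : GolayPt → ZMod 2) (k : ℤ) (i : GolayPt) :
    indWord (fun i => twoInd u i ≡ k [ZMOD 4]) i =
      if k % 4 = 0 then u i + 1 else if k % 4 = 2 then u i else 0 := by
  unfold indWord
  rcases zmod2_cases (u i) with h | h
  · rw [h]
    by_cases hk : k % 4 = 0
    · have hm : twoInd u i ≡ k [ZMOD 4] := by
        rw [twoInd_of_zero h]; unfold Int.ModEq; omega
      rw [if_pos hm, if_pos hk]; decide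
    · have hm : ¬ twoInd u i ≡ k [ZMOD 4] := by
        rw [twoInd_of_zero h]; unfold Int.ModEq; omega
      rw [if_neg hm, if_neg hk]
      split_ifs <;> rfl
  · rw [h]
    by_cases hk : k % 4 = 2
    · have hm : twoInd u i ≡ k [ZMOD 4] := by
        rw [twoInd_of_one h]; unfold Int.ModEq; omega
      have hk0 : ¬ k % 4 = 0 := by omega
      rw [if_pos hm, if_neg hk0, if_pos hk]
    · have hm : ¬ twoInd u i ≡ k [ZMOD 4] := by
        rw [twoInd_of_one h]; unfold Int.ModEq; omega
      rw [if_neg hm, if_neg hk]
      split_ifs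
      · decide
      · rfl

theorem twoInd_mem (u : GolayPt → ZMod 2) (hu : u ∈ golayCode) : twoInd u ∈ leechSet := by
  rw [mem_leechSet_iff]
  refine ⟨0, fun i => ?_, ?_, fun k => ?_⟩
  · rcases zmod2_cases (u i) with h | h
    · rw [twoInd_of_zero h]
    · rw [twoInd_of_one h]; decide
  · have hsum : ∑ i, twoInd u i = 2 * ((support₂ u).card : ℤ) := by
      have h1 : ∀ i, twoInd u i = if i ∈ support₂ u then 2 else 0 := by
        intro i
        rcases zmod2_cases (u i) with h | h
        · rw [twoInd_of_zero h, if_neg]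
          rw [mem_support₂, h]; decide
        · rw [twoInd_of_one h, if_pos]
          rw [mem_support₂, h]
      rw [Finset.sum_congr rfl (fun i _ => h1 i), Finset.sum_ite_mem, Finset.univ_inter,
        Finset.sum_const, nsmul_eq_mul, mul_comm]
    rw [hsum]
    obtain ⟨q, hq⟩ := Cfsg.Agent.Lib.Helper8_GolayEven.four_dvd_card u hu
    rw [hq]
    push_cast
    apply Int.modEq_iff_dvd.mpr
    exact ⟨-q, by ring⟩
  · by_cases hk0 : k % 4 = 0
    · have : indWord (fun i => twoInd u i ≡ k [ZMOD 4]) = u + 1 := by
        funext i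
        rw [indWord_twoInd, if_pos hk0]; rfl
      rw [this]
      exact golayCode.add_mem hu one_mem
    · by_cases hk2 : k % 4 = 2
      · have : indWord (fun i => twoInd u i ≡ k [ZMOD 4]) = u := by
          funext i
          rw [indWord_twoInd, if_neg hk0, if_pos hk2]
        rw [this]
        exact hu
      · have : indWord (fun i => twoInd u i ≡ k [ZMOD 4]) = 0 := by
          funext i
          rw [indWord_twoInd, if_neg hk0, if_neg hk2]; rfl
        rw [this]
        exact golayCode.zero_mem

/-- The sum of the coordinates of a lattice vector over the support of a code word is divisible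
by 4. -/
theorem four_dvd_sum_codeword (x : GolayPt → ℤ) (hx : x ∈ leechLattice) (u : GolayPt → ZMod 2)
    (hu : u ∈ golayCode) : (4 : ℤ) ∣ ∑ i, (if u i = 1 then x i else 0) := by
  have h := eight_dvd_dot x (twoInd u) hx ((mem_leechLattice_iff _).mpr (twoInd_mem u hu))
  have e : dotInt x (twoInd u) = 2 * ∑ i, (if u i = 1 then x i else 0) := by
    unfold dotInt twoInd
    rw [Finset.mul_sum]
    apply Finset.sum_congr rfl
    intro i _
    split_ifs <;> ring
  rw [e] at h
  omega

/-! ### sign changes on the support of a code word -/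

/-- Negate the coordinates at the points of `c`. -/
def signFlip (c : Finset GolayPt) (x : GolayPt → ℤ) : GolayPt → ℤ :=
  fun i => if i ∈ c then -x i else x i

theorem signFlip_of_mem {c : Finset GolayPt} {i : GolayPt} (h : i ∈ c) (x : GolayPt → ℤ) :
    signFlip c x i = -x i := by
  unfold signFlip; rw [if_pos h]

theorem signFlip_of_notMem {c : Finset GolayPt} {i : GolayPt} (h : i ∉ c) (x : GolayPt → ℤ) :
    signFlip c x i = x i := by
  unfold signFlip; rw [if_neg h]

theorem flip_aux (a m k : ℤ) (ha : a ≡ m [ZMOD 2]) :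
    (if -a ≡ k [ZMOD 4] then (1 : ZMod 2) else 0) =
      (if a ≡ k [ZMOD 4] then 1 else 0) + (if m % 2 = 1 ∧ k % 2 = 1 then 1 else 0) := by
  by_cases h1 : -a ≡ k [ZMOD 4] <;> by_cases h2 : a ≡ k [ZMOD 4] <;>
    by_cases h3 : (m % 2 = 1 ∧ k % 2 = 1) <;> simp only [h1, h2, h3, if_true, if_false] <;>
    first | decide | (exfalso; unfold Int.ModEq at *; omega)

theorem signFlip_mem (u : GolayPt → ZMod 2) (hu : u ∈ golayCode) (x : GolayPt → ℤ)
    (hx : x ∈ leechSet) : signFlip (support₂ u) x ∈ leechSet := by
  have hxL : x ∈ leechLattice := (mem_leechLattice_iff x).mpr hx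
  rw [mem_leechSet_iff] at hx ⊢
  obtain ⟨m, h1, h2, h3⟩ := hx
  refine ⟨m, fun i => ?_, ?_, fun k => ?_⟩
  · by_cases hi : i ∈ support₂ u
    · rw [signFlip_of_mem hi]
      have := h1 i
      unfold Int.ModEq at *
      omega
    · rw [signFlip_of_notMem hi]
      exact h1 i
  · have hpt : ∀ i, signFlip (support₂ u) x i = x i - 2 * (if u i = 1 then x i else 0) := by
      intro i
      by_cases hi : i ∈ support₂ u
      · rw [signFlip_of_mem hi, if_pos ((mem_support₂ u i).mp hi)]; ring
      · rw [signFlip_of_notMem hi, if_neg (fun h => hi ((mem_support₂ u i).mpr h))]; ring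
    rw [Finset.sum_congr rfl (fun i _ => hpt i), Finset.sum_sub_distrib, ← Finset.mul_sum]
    obtain ⟨q, hq⟩ := four_dvd_sum_codeword x hxL u hu
    rw [hq]
    have : ∑ i, x i - 2 * (4 * q) = ∑ i, x i + 8 * (-q) := by ring
    rw [this]
    unfold Int.ModEq at *
    omega
  · have hw : indWord (fun i => signFlip (support₂ u) x i ≡ k [ZMOD 4]) =
        indWord (fun i => x i ≡ k [ZMOD 4]) + (if m % 2 = 1 ∧ k % 2 = 1 then u else 0) := by
      funext i
      rw [Pi.add_apply]
      unfold indWord
      by_cases hi : i ∈ support₂ u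
      · have hui : u i = 1 := (mem_support₂ u i).mp hi
        have e : (if m % 2 = 1 ∧ k % 2 = 1 then u else 0) i =
            if m % 2 = 1 ∧ k % 2 = 1 then 1 else 0 := by
          split_ifs
          · exact hui
          · rfl
        rw [e, ← flip_aux (x i) m k (h1 i)]
        by_cases hc : -x i ≡ k [ZMOD 4]
        · rw [if_pos hc, if_pos]
          show signFlip (support₂ u) x i ≡ k [ZMOD 4]
          rw [signFlip_of_mem hi]; exact hc
        · rw [if_neg hc, if_neg]
          show ¬ signFlip (support₂ u) x i ≡ k [ZMOD 4]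
          rw [signFlip_of_mem hi]; exact hc
      · have hui : u i = 0 := by
          rcases zmod2_cases (u i) with h | h
          · exact h
          · exact absurd ((mem_support₂ u i).mpr h) hi
        have e : (if m % 2 = 1 ∧ k % 2 = 1 then u else 0) i = 0 := by
          split_ifs
          · exact hui
          · rfl
        rw [e, add_zero]
        by_cases hc : x i ≡ k [ZMOD 4]
        · rw [if_pos hc, if_pos]
          show signFlip (support₂ u) x i ≡ k [ZMOD 4]
          rw [signFlip_of_notMem hi]; exact hc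
        · rw [if_neg hc, if_neg]
          show ¬ signFlip (support₂ u) x i ≡ k [ZMOD 4]
          rw [signFlip_of_notMem hi]; exact hc
    rw [hw]
    apply golayCode.add_mem (h3 k)
    split_ifs
    · exact hu
    · exact golayCode.zero_mem

theorem signFlip_add (c : Finset GolayPt) (x y : GolayPt → ℤ) :
    signFlip c (x + y) = signFlip c x + signFlip c y := by
  funext i
  by_cases hi : i ∈ c
  · rw [Pi.add_apply, signFlip_of_mem hi, signFlip_of_mem hi, signFlip_of_mem hi, Pi.add_apply]
    ring
  · rw [Pi.add_apply, signFlip_of_notMem hi, signFlip_of_notMem hi, signFlip_of_notMem hi,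
      Pi.add_apply]

theorem signFlip_signFlip (c : Finset GolayPt) (x : GolayPt → ℤ) :
    signFlip c (signFlip c x) = x := by
  funext i
  by_cases hi : i ∈ c
  · rw [signFlip_of_mem hi, signFlip_of_mem hi, neg_neg]
  · rw [signFlip_of_notMem hi, signFlip_of_notMem hi]

theorem sqNorm_signFlip (c : Finset GolayPt) (x : GolayPt → ℤ) :
    sqNorm (signFlip c x) = sqNorm x := by
  unfold sqNorm
  apply Finset.sum_congr rfl
  intro i _
  by_cases hi : i ∈ c
  · rw [signFlip_of_mem hi]; ring
  · rw [signFlip_of_notMem hi]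

/-! ### coordinate permutations -/

/-- Permute the coordinates by `σ`. -/
def permVec (σ : Equiv.Perm GolayPt) (x : GolayPt → ℤ) : GolayPt → ℤ := fun i => x (σ.symm i)

theorem permVec_apply (σ : Equiv.Perm GolayPt) (x : GolayPt → ℤ) (i : GolayPt) :
    permVec σ x i = x (σ.symm i) := rfl

theorem permVec_mem (σ : Equiv.Perm GolayPt) (hσ : σ ∈ M24) (x : GolayPt → ℤ)
    (hx : x ∈ leechSet) : permVec σ x ∈ leechSet := by
  rw [mem_leechSet_iff] at hx ⊢
  obtain ⟨m, h1, h2, h3⟩ := hx
  refine ⟨m, fun i => h1 (σ.symm i), ?_, fun k => ?_⟩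
  · have : ∑ i, permVec σ x i = ∑ i, x i := Equiv.sum_comp σ.symm x
    rw [this]; exact h2
  · have : indWord (fun i => permVec σ x i ≡ k [ZMOD 4]) =
        permWord σ (indWord (fun i => x i ≡ k [ZMOD 4])) := by
      funext i
      rw [permWord_apply]
      rfl
    rw [this]
    exact permWord_mem_of_mem_M24 hσ (h3 k)

theorem permVec_add (σ : Equiv.Perm GolayPt) (x y : GolayPt → ℤ) :
    permVec σ (x + y) = permVec σ x + permVec σ y := rfl

theorem permVec_inv_permVec (σ : Equiv.Perm GolayPt) (x : GolayPt → ℤ) :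
    permVec σ⁻¹ (permVec σ x) = x := by
  funext i
  rw [permVec_apply, permVec_apply, Equiv.Perm.inv_def, Equiv.symm_symm, Equiv.symm_apply_apply]

theorem permVec_permVec_inv (σ : Equiv.Perm GolayPt) (x : GolayPt → ℤ) :
    permVec σ (permVec σ⁻¹ x) = x := by
  funext i
  rw [permVec_apply, permVec_apply, Equiv.Perm.inv_def, Equiv.symm_symm, Equiv.apply_symm_apply]

theorem sqNorm_permVec (σ : Equiv.Perm GolayPt) (x : GolayPt → ℤ) :
    sqNorm (permVec σ x) = sqNorm x := by
  unfold sqNorm
  exact Equiv.sum_comp σ.symm (fun i => x i ^ 2)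

/-! ### the monomial elements -/

theorem signedPerm_eq (σ : Equiv.Perm GolayPt) (c : Finset GolayPt) (x : GolayPt → ℤ) :
    signedPerm σ c x = signFlip c (permVec σ x) := rfl

/-- The element of the automorphism group of the lattice given by `σ ∈ M24` and the support of a
code word `u`. -/
def monoPerm (σ : Equiv.Perm GolayPt) (hσ : σ ∈ M24) (u : GolayPt → ZMod 2)
    (hu : u ∈ golayCode) : Equiv.Perm leechLattice where
  toFun v := ⟨signedPerm σ (support₂ u) v.1, by
    rw [signedPerm_eq, mem_leechLattice_iff]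
    exact signFlip_mem u hu _ (permVec_mem σ hσ _ ((mem_leechLattice_iff _).mp v.2))⟩
  invFun v := ⟨permVec σ⁻¹ (signFlip (support₂ u) v.1), by
    rw [mem_leechLattice_iff]
    exact permVec_mem σ⁻¹ (M24.inv_mem hσ) _ (signFlip_mem u hu _ ((mem_leechLattice_iff _).mp v.2))⟩
  left_inv v := by
    apply Subtype.ext
    simp only [signedPerm_eq, signFlip_signFlip, permVec_inv_permVec]
  right_inv v := by
    apply Subtype.ext
    simp only [signedPerm_eq, permVec_permVec_inv, signFlip_signFlip]

theorem monoPerm_apply (σ : Equiv.Perm GolayPt) (hσ : σ ∈ M24) (u : GolayPt → ZMod 2)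
    (hu : u ∈ golayCode) (v : leechLattice) :
    ((monoPerm σ hσ u hu v : leechLattice) : GolayPt → ℤ) = signedPerm σ (support₂ u) v.1 := rfl

theorem monoPerm_mem_Co0 (σ : Equiv.Perm GolayPt) (hσ : σ ∈ M24) (u : GolayPt → ZMod 2)
    (hu : u ∈ golayCode) : monoPerm σ hσ u hu ∈ Co0 := by
  constructor
  · intro v w
    apply Subtype.ext
    show signedPerm σ (support₂ u) (v.1 + w.1) = signedPerm σ (support₂ u) v.1 +
      signedPerm σ (support₂ u) w.1
    rw [signedPerm_eq, signedPerm_eq, signedPerm_eq, permVec_add, signFlip_add]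
  · intro v
    show sqNorm (signedPerm σ (support₂ u) v.1) = sqNorm v.1
    rw [signedPerm_eq, sqNorm_signFlip, sqNorm_permVec]

end Cfsg.Agent.Lib.Helper92_Monomial
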