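import Mathlib
import Cfsg.Agent.Lib.Helper92_Monomial

/-!
Inner products in the Leech lattice are preserved by `Co0`; the census sets
`{w minimal | dotInt v w = k}` have the same size for vectors in one `Co0`-orbit.
-/

set_option autoImplicit false
open Cfsg

namespace Cfsg.Agent.Lib.Helper26_Leech

open Cfsg.Agent.Lib.Helper92_Monomial

/-- Elements of `Co0` preserve the inner product. -/
theorem dotInt_co0 (g : Equiv.Perm leechLattice) (hg : g ∈ Co0) (v w : leechLattice) :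
    dotInt ((g v : leechLattice) : GolayPt → ℤ) ((g w : leechLattice) : GolayPt → ℤ) =
      dotInt (v : GolayPt → ℤ) (w : GolayPt → ℤ) := by
  have h1 := sqNorm_add' ((g v : leechLattice) : GolayPt → ℤ) ((g w : leechLattice) : GolayPt → ℤ)
  have h2 := sqNorm_add' (v : GolayPt → ℤ) (w : GolayPt → ℤ)
  have h3 : ((g (v + w) : leechLattice) : GolayPt → ℤ) =
      ((g v : leechLattice) : GolayPt → ℤ) + ((g w : leechLattice) : GolayPt → ℤ) := by
    rw [hg.1 v w]; rfl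
  have h4 := hg.2 (v + w)
  have h5 := hg.2 v
  have h6 := hg.2 w
  rw [h3] at h4
  have h7 : ((v + w : leechLattice) : GolayPt → ℤ) = (v : GolayPt → ℤ) + (w : GolayPt → ℤ) := rfl
  rw [h7] at h4
  omega

/-- The minimal vectors having inner product `k` with `v`. -/
def census (v : GolayPt → ℤ) (k : ℤ) : Set (GolayPt → ℤ) :=
  {w | w ∈ leechLattice ∧ sqNorm w = 32 ∧ dotInt v w = k}

theorem census_ncard_co0 (g : Equiv.Perm leechLattice) (hg : g ∈ Co0) (v : leechLattice) (k : ℤ) :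
    (census ((g v : leechLattice) : GolayPt → ℤ) k).ncard = (census (v : GolayPt → ℤ) k).ncard := by
  symm
  apply Set.ncard_congr (fun w hw => ((g ⟨w, hw.1⟩ : leechLattice) : GolayPt → ℤ))
  · rintro w ⟨hw, hn, hd⟩
    refine ⟨(g ⟨w, hw⟩).2, ?_, ?_⟩
    · rw [hg.2 ⟨w, hw⟩]; exact hn
    · rw [dotInt_co0 g hg v ⟨w, hw⟩]; exact hd
  · rintro w w' ⟨hw, _, _⟩ ⟨hw', _, _⟩ h
    have := g.injective (Subtype.ext h)
    exact congrArg Subtype.val this
  · rintro w ⟨hw, hn, hd⟩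
    have hginv : g⁻¹ ∈ Co0 := Co0.inv_mem hg
    refine ⟨((g⁻¹ ⟨w, hw⟩ : leechLattice) : GolayPt → ℤ), ⟨(g⁻¹ ⟨w, hw⟩).2, ?_, ?_⟩, ?_⟩
    · rw [hginv.2 ⟨w, hw⟩]; exact hn
    · have := dotInt_co0 g hg v (g⁻¹ ⟨w, hw⟩)
      rw [← this]
      have e : g (g⁻¹ ⟨w, hw⟩) = ⟨w, hw⟩ := by simp
      rw [e]; exact hd
    · show ((g ⟨_, _⟩ : leechLattice) : GolayPt → ℤ) = w
      have e : g (g⁻¹ ⟨w, hw⟩) = ⟨w, hw⟩ := by simp
      have e' : (⟨((g⁻¹ ⟨w, hw⟩ : leechLattice) : GolayPt → ℤ), (g⁻¹ ⟨w, hw⟩).2⟩ : leechLattice) =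
          g⁻¹ ⟨w, hw⟩ := rfl
      rw [e', e]

end Cfsg.Agent.Lib.Helper26_Leech
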