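import Mathlib

/-!
Orbit certificates: a spanning forest of a family of objects (indexed by `j < n`) under finitely
many generators, checked by a fast Boolean function, and its soundness.
-/

set_option autoImplicit false

namespace Cfsg.Agent.Lib.Helper26_Golay

/-- Conjunction of `f 0, …, f (n-1)`, written with the primitive recursor. -/
def allFold (f : ℕ → Bool) (n : ℕ) : Bool :=
  Nat.rec (motive := fun _ => Bool) true (fun k acc => f k && acc) n

theorem allFold_succ (f : ℕ → Bool) (n : ℕ) : allFold f (n + 1) = (f n && allFold f n) := rfl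

theorem allFold_eq_true (f : ℕ → Bool) (n : ℕ) :
    allFold f n = true ↔ ∀ k < n, f k = true := by
  induction n with
  | zero => simp [allFold]
  | succ n ih =>
    rw [allFold_succ, Bool.and_eq_true, ih]
    constructor
    · rintro ⟨h1, h2⟩ k hk
      by_cases hkn : k = n
      · subst hkn; exact h1
      · exact h2 k (by omega)
    · intro h
      exact ⟨h n (by omega), fun k hk => h k (by omega)⟩

/-- Entry `j` of a packed array of `w`-bit entries. -/
def getW (w A j : ℕ) : ℕ := (A >>> (w * j)) &&& (2 ^ w - 1)

/-- Entry `j` of a packed array of 16-bit entries. -/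
def get16 (A j : ℕ) : ℕ := (A >>> (16 * j)) &&& 65535

/-- Entry `j` of a packed array of 8-bit entries. -/
def get8 (A j : ℕ) : ℕ := (A >>> (8 * j)) &&& 255

/-- Entry `j` of a packed array of 24-bit entries. -/
def get24 (A j : ℕ) : ℕ := (A >>> (24 * j)) &&& 16777215

/-- Entry `j` of a packed array of 120-bit entries (permutation tables). -/
def get120 (A j : ℕ) : ℕ := (A >>> (120 * j)) &&& (2 ^ 120 - 1)

/-- The certificate check at node `j`: either `j` is a root (depth 0, its own root), or its parent
`p` is a node of depth one less with the same root, and the step by generator number `gen j` from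
the object at `p` to the object at `j` is accepted by `stepOk`. -/
def nodeCheck (stepOk : ℕ → ℕ → ℕ → Bool) (tAt : ℕ → ℕ) (P G D R : ℕ) (n j : ℕ) : Bool :=
  if get8 D j == 0 then get16 R j == j
  else
    (decide (get16 P j < n) && (get8 D (get16 P j) + 1 == get8 D j) &&
      (get16 R (get16 P j) == get16 R j) &&
      stepOk (get8 G j) (tAt (get16 P j)) (tAt j))

/-- The certificate check for all nodes. -/
def forestCheck (stepOk : ℕ → ℕ → ℕ → Bool) (tAt : ℕ → ℕ) (P G D R : ℕ) (n : ℕ) : Bool :=
  allFold (nodeCheck stepOk tAt P G D R n) n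

/-- Soundness of the certificate: every node is related to its root. -/
theorem forest_sound (Rel : ℕ → ℕ → Prop) (hr : ∀ a, Rel a a)
    (stepOk : ℕ → ℕ → ℕ → Bool)
    (hstep : ∀ a b c k, Rel a b → stepOk k b c = true → Rel a c)
    (tAt : ℕ → ℕ) (P G D R : ℕ) (n : ℕ)
    (h : forestCheck stepOk tAt P G D R n = true) :
    ∀ j < n, get16 R j < n ∧ get8 D (get16 R j) = 0 ∧ Rel (tAt (get16 R j)) (tAt j) := by
  unfold forestCheck at h
  rw [allFold_eq_true] at h
  have key : ∀ d j, j < n → get8 D j = d →
      get16 R j < n ∧ get8 D (get16 R j) = 0 ∧ Rel (tAt (get16 R j)) (tAt j) := by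
    intro d
    induction d with
    | zero =>
      intro j hj hd
      have hc := h j hj
      unfold nodeCheck at hc
      rw [hd] at hc
      simp only [beq_self_eq_true, if_true, beq_iff_eq] at hc
      rw [hc]
      exact ⟨hj, hd, hr _⟩
    | succ d ih =>
      intro j hj hd
      have hc := h j hj
      unfold nodeCheck at hc
      rw [hd] at hc
      have hne : (d + 1 == 0) = false := by simp
      rw [hne] at hc
      simp only [Bool.false_eq_true, if_false, Bool.and_eq_true, decide_eq_true_eq,
        beq_iff_eq] at hc
      obtain ⟨⟨⟨hp, hdp⟩, hrp⟩, hchk⟩ := hc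
      have hdp' : get8 D (get16 P j) = d := by omega
      obtain ⟨h1, h2, h3⟩ := ih (get16 P j) hp hdp'
      rw [hrp] at h1 h2 h3
      exact ⟨h1, h2, hstep _ _ _ _ h3 hchk⟩
  intro j hj
  exact key _ j hj rfl

/-- A strictly increasing table has no repeated entries (checked in linear time). -/
theorem nodup_map_of_increasing (f : ℕ → ℕ) (n : ℕ)
    (h : allFold (fun j => decide (f j < f (j + 1))) (n - 1) = true) :
    ((List.range n).map f).Nodup := by
  rw [allFold_eq_true] at h
  have hmono : ∀ i j, i < j → j < n → f i < f j := by
    intro i j hij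
    induction j with
    | zero => omega
    | succ j ih =>
      intro hj
      have h1 := h j (by omega)
      rw [decide_eq_true_eq] at h1
      by_cases hij' : i = j
      · subst hij'; exact h1
      · exact lt_trans (ih (by omega) (by omega)) h1
  apply List.Nodup.map_on _ List.nodup_range
  intro a ha b hb hab
  rw [List.mem_range] at ha hb
  by_contra hne
  rcases Nat.lt_or_gt_of_ne hne with hlt | hlt
  · exact absurd hab (ne_of_lt (hmono a b hlt hb))
  · exact absurd hab.symm (ne_of_lt (hmono b a hlt ha))

end Cfsg.Agent.Lib.Helper26_Golay
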