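import Cfsg.Prelude.Def_Sporadic_a

/-!
Basic API for `Cfsg.M24`: membership criteria in terms of coordinate permutations of words of
`Cfsg.golayCode`.
-/

set_option autoImplicit false
open Cfsg
open scoped Pointwise

namespace Cfsg.Agent.Lib.Helper7_M24

/-- In `ZMod 2`, a value is nonzero iff it is one. -/
theorem zmod2_ne_zero_iff (a : ZMod 2) : a ≠ 0 ↔ a = 1 := by
  revert a; decide

theorem mem_support₂ {α : Type*} [Fintype α] (w : α → ZMod 2) (a : α) :
    a ∈ support₂ w ↔ w a = 1 := by
  simp [support₂, zmod2_ne_zero_iff]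

theorem support₂_injective {α : Type*} [Fintype α] :
    Function.Injective (support₂ : (α → ZMod 2) → Finset α) := by
  intro v w h
  funext a
  have h1 : a ∈ support₂ v ↔ a ∈ support₂ w := by rw [h]
  rw [mem_support₂, mem_support₂] at h1
  have hv : v a = 0 ∨ v a = 1 := by generalize v a = x; revert x; decide
  have hw : w a = 0 ∨ w a = 1 := by generalize w a = x; revert x; decide
  rcases hv with hv | hv <;> rcases hw with hw | hw
  · rw [hv, hw]
  · exact absurd (h1.mpr hw) (by rw [hv]; decide)
  · exact absurd (h1.mp hv) (by rw [hw]; decide)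
  · rw [hv, hw]

/-- Permuting coordinates of a word: the word `p ↦ w (σ⁻¹ p)`. -/
def permWord (σ : Equiv.Perm GolayPt) : (GolayPt → ZMod 2) →ₗ[ZMod 2] (GolayPt → ZMod 2) :=
  LinearMap.funLeft (ZMod 2) (ZMod 2) σ.symm

@[simp] theorem permWord_apply (σ : Equiv.Perm GolayPt) (w : GolayPt → ZMod 2) (p : GolayPt) :
    permWord σ w p = w (σ.symm p) := rfl

theorem permWord_one_word (σ : Equiv.Perm GolayPt) : permWord σ (1 : GolayPt → ZMod 2) = 1 := by
  funext p; simp

theorem permWord_mul (σ τ : Equiv.Perm GolayPt) (w : GolayPt → ZMod 2) :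
    permWord (σ * τ) w = permWord σ (permWord τ w) := by
  funext p; simp [Equiv.Perm.mul_def]

theorem permWord_one (w : GolayPt → ZMod 2) : permWord 1 w = w := by
  funext p; rfl

theorem support₂_permWord (σ : Equiv.Perm GolayPt) (w : GolayPt → ZMod 2) :
    support₂ (permWord σ w) = σ • support₂ w := by
  ext p
  rw [mem_support₂, Finset.mem_smul_finset]
  constructor
  · intro h
    exact ⟨σ.symm p, (mem_support₂ _ _).mpr h, by simp⟩
  · rintro ⟨q, hq, rfl⟩
    rw [mem_support₂] at hq
    simpa using hq

theorem supports_finite : (supports (golayCode : Set (GolayPt → ZMod 2))).Finite :=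
  Set.toFinite _

/-- A permutation lies in `M24` as soon as it maps every word of the code into the code. -/
theorem mem_M24_of_forall (σ : Equiv.Perm GolayPt)
    (h : ∀ w ∈ golayCode, permWord σ w ∈ golayCode) : σ ∈ M24 := by
  rw [MulAction.mem_stabilizer_set_iff_smul_set_subset supports_finite]
  rintro _ ⟨_, ⟨w, hw, rfl⟩, rfl⟩
  exact ⟨permWord σ w, h w hw, support₂_permWord σ w⟩

/-- Elements of `M24` map words of the code to words of the code. -/
theorem permWord_mem_of_mem_M24 {σ : Equiv.Perm GolayPt} (hσ : σ ∈ M24)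
    {w : GolayPt → ZMod 2} (hw : w ∈ golayCode) : permWord σ w ∈ golayCode := by
  have h1 : σ • support₂ w ∈ σ • supports (golayCode : Set (GolayPt → ZMod 2)) :=
    Set.smul_mem_smul_set ⟨w, hw, rfl⟩
  rw [MulAction.mem_stabilizer_iff.mp hσ] at h1
  obtain ⟨w', hw', h2⟩ := h1
  rw [← support₂_permWord] at h2
  rw [← support₂_injective h2]
  exact hw'

theorem mem_M24_iff (σ : Equiv.Perm GolayPt) :
    σ ∈ M24 ↔ ∀ w ∈ golayCode, permWord σ w ∈ golayCode :=
  ⟨fun hσ _ hw => permWord_mem_of_mem_M24 hσ hw, mem_M24_of_forall σ⟩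

/-- A permutation lies in `M24` as soon as it maps the 23 spanning words into the code. -/
theorem mem_M24_of_gens (σ : Equiv.Perm GolayPt)
    (h : ∀ t : ZMod 23, permWord σ (qrWord t) ∈ golayCode) : σ ∈ M24 := by
  apply mem_M24_of_forall
  intro w hw
  have : golayCode ≤ Submodule.comap (permWord σ) golayCode := by
    unfold golayCode
    rw [Submodule.span_le]
    rintro x (⟨t, rfl⟩ | hx)
    · exact h t
    · rw [Set.mem_singleton_iff] at hx
      subst hx
      show permWord σ 1 ∈ Submodule.span (ZMod 2) (Set.range qrWord ∪ {1})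
      rw [permWord_one_word]
      exact Submodule.subset_span (Or.inr rfl)
  exact this hw

theorem qrWord_mem (t : ZMod 23) : qrWord t ∈ golayCode :=
  Submodule.subset_span (Or.inl ⟨t, rfl⟩)

theorem one_mem : (1 : GolayPt → ZMod 2) ∈ golayCode :=
  Submodule.subset_span (Or.inr rfl)

end Cfsg.Agent.Lib.Helper7_M24
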