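import Mathlib
import Cfsg.Prelude.Def_Sporadic_a
import Cfsg.Agent.Lib.Helper7_M24

set_option autoImplicit false
open Cfsg

namespace Cfsg.Agent.Lib.Helper26_Golay

/-- Index of a point: residues `x` go to `x.val`, the extra point to `23`. -/
def idx : GolayPt → ℕ
  | none => 23
  | some x => x.val

/-- The point with a given index (indices `≥ 23` go to the extra point). -/
def pt (i : ℕ) : GolayPt := if i < 23 then some (i : ZMod 23) else none

theorem idx_lt (p : GolayPt) : idx p < 24 := by
  cases p with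
  | none => simp [idx]
  | some x => have := ZMod.val_lt x; simp only [idx]; omega

theorem pt_idx (p : GolayPt) : pt (idx p) = p := by
  cases p with
  | none => simp [idx, pt]
  | some x =>
    have h := ZMod.val_lt x
    simp only [idx, pt, h, if_true]
    congr 1
    exact ZMod.natCast_zmod_val x

theorem idx_pt (i : ℕ) (hi : i < 24) : idx (pt i) = i := by
  unfold pt
  split_ifs with h
  · simp only [idx]; exact ZMod.val_natCast_of_lt h
  · simp only [idx]; omega

theorem idx_injective : Function.Injective idx := by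
  intro p q h
  rw [← pt_idx p, ← pt_idx q, h]

/-- The bitmask of a set of points. -/
def enc (s : Finset GolayPt) : ℕ := ∑ i ∈ s.image idx, 2 ^ i

theorem testBit_enc (s : Finset GolayPt) (i : ℕ) :
    (enc s).testBit i = true ↔ ∃ p ∈ s, idx p = i := by
  unfold enc
  rw [← Nat.mem_bitIndices, ← List.mem_toFinset, Finset.toFinset_bitIndices_sum_two_pow]
  simp

theorem testBit_enc_idx (s : Finset GolayPt) (p : GolayPt) :
    (enc s).testBit (idx p) = true ↔ p ∈ s := by
  rw [testBit_enc]
  constructor
  · rintro ⟨q, hq, h⟩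
    rwa [← idx_injective h]
  · intro h; exact ⟨p, h, rfl⟩

theorem testBit_enc_of_ge (s : Finset GolayPt) (i : ℕ) (hi : 24 ≤ i) :
    (enc s).testBit i = false := by
  rw [← Bool.not_eq_true, testBit_enc]
  rintro ⟨p, _, h⟩
  have := idx_lt p
  omega

theorem enc_lt (s : Finset GolayPt) : enc s < 2 ^ 24 := by
  apply Nat.lt_pow_two_of_testBit
  intro i hi
  exact testBit_enc_of_ge s i hi

/-- Decode a bitmask to a set of points. -/
def dec (n : ℕ) : Finset GolayPt := Finset.univ.filter (fun p => n.testBit (idx p) = true)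

theorem mem_dec (n : ℕ) (p : GolayPt) : p ∈ dec n ↔ n.testBit (idx p) = true := by
  simp [dec]

theorem dec_enc (s : Finset GolayPt) : dec (enc s) = s := by
  ext p
  rw [mem_dec, testBit_enc_idx]

theorem enc_dec (n : ℕ) (hn : n < 2 ^ 24) : enc (dec n) = n := by
  apply Nat.eq_of_testBit_eq
  intro i
  by_cases hi : i < 24
  · have h1 := testBit_enc_idx (dec n) (pt i)
    rw [idx_pt i hi, mem_dec, idx_pt i hi] at h1
    cases h : n.testBit i
    · rw [← Bool.not_eq_true, h1, h]; simp
    · rw [h1, h]
  · rw [not_lt] at hi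
    rw [testBit_enc_of_ge _ i hi]
    symm
    apply Nat.testBit_lt_two_pow
    calc n < 2 ^ 24 := hn
      _ ≤ 2 ^ i := Nat.pow_le_pow_right (by norm_num) hi

theorem enc_injective : Function.Injective enc := by
  intro s t h
  rw [← dec_enc s, ← dec_enc t, h]

theorem enc_inter (s t : Finset GolayPt) : enc (s ∩ t) = enc s &&& enc t := by
  apply Nat.eq_of_testBit_eq
  intro i
  rw [Nat.testBit_and]
  by_cases hi : i < 24
  · have h1 := testBit_enc_idx (s ∩ t) (pt i)
    have h2 := testBit_enc_idx s (pt i)
    have h3 := testBit_enc_idx t (pt i)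
    rw [idx_pt i hi] at h1 h2 h3
    rw [Bool.eq_iff_iff, h1, Bool.and_eq_true, h2, h3, Finset.mem_inter]
  · rw [not_lt] at hi
    rw [testBit_enc_of_ge _ i hi, testBit_enc_of_ge _ i hi]; rfl

theorem enc_union (s t : Finset GolayPt) : enc (s ∪ t) = enc s ||| enc t := by
  apply Nat.eq_of_testBit_eq
  intro i
  rw [Nat.testBit_or]
  by_cases hi : i < 24
  · have h1 := testBit_enc_idx (s ∪ t) (pt i)
    have h2 := testBit_enc_idx s (pt i)
    have h3 := testBit_enc_idx t (pt i)
    rw [idx_pt i hi] at h1 h2 h3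
    rw [Bool.eq_iff_iff, h1, Bool.or_eq_true, h2, h3, Finset.mem_union]
  · rw [not_lt] at hi
    rw [testBit_enc_of_ge _ i hi, testBit_enc_of_ge _ i hi, testBit_enc_of_ge _ i hi]; rfl

theorem enc_symmDiff (s t : Finset GolayPt) : enc (symmDiff s t) = enc s ^^^ enc t := by
  apply Nat.eq_of_testBit_eq
  intro i
  rw [Nat.testBit_xor]
  by_cases hi : i < 24
  · have h1 := testBit_enc_idx (symmDiff s t) (pt i)
    have h2 := testBit_enc_idx s (pt i)
    have h3 := testBit_enc_idx t (pt i)
    rw [idx_pt i hi] at h1 h2 h3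
    rw [Bool.eq_iff_iff, h1, Finset.mem_symmDiff, ← h2, ← h3]
    cases (enc s).testBit i <;> cases (enc t).testBit i <;> simp
  · rw [not_lt] at hi
    rw [testBit_enc_of_ge _ i hi, testBit_enc_of_ge _ i hi, testBit_enc_of_ge _ i hi]; rfl

end Cfsg.Agent.Lib.Helper26_Golay
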