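import Mathlib
import Cfsg.Prelude.Def_Sporadic_a
import Cfsg.Agent.Lib.Helper7_M24
import Cfsg.Agent.Lib.Helper26_GolayEnc

set_option autoImplicit false
open Cfsg
open Cfsg.Agent.Lib.Helper7_M24

namespace Cfsg.Agent.Lib.Helper26_Golay

/-- The word with a given bitmask. -/
def wordOf (n : ℕ) : GolayPt → ZMod 2 := fun p => if n.testBit (idx p) = true then 1 else 0

theorem wordOf_apply (n : ℕ) (p : GolayPt) :
    wordOf n p = if n.testBit (idx p) = true then 1 else 0 := rfl

theorem wordOf_eq_one_iff (n : ℕ) (p : GolayPt) : wordOf n p = 1 ↔ n.testBit (idx p) = true := by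
  rw [wordOf_apply]
  split_ifs with h
  · simp [h]
  · simp [h]

theorem support₂_wordOf (n : ℕ) : support₂ (wordOf n) = dec n := by
  ext p
  rw [mem_support₂, mem_dec, wordOf_eq_one_iff]

theorem wordOf_enc_support₂ (x : GolayPt → ZMod 2) : wordOf (enc (support₂ x)) = x := by
  apply support₂_injective
  rw [support₂_wordOf, dec_enc]

theorem wordOf_zero : wordOf 0 = 0 := by
  funext p
  simp [wordOf_apply]

theorem wordOf_xor (a b : ℕ) : wordOf (a ^^^ b) = wordOf a + wordOf b := by
  funext p
  simp only [wordOf_apply, Pi.add_apply, Nat.testBit_xor]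
  cases a.testBit (idx p) <;> cases b.testBit (idx p) <;> decide

theorem wordOf_injOn {a b : ℕ} (ha : a < 2 ^ 24) (hb : b < 2 ^ 24) (h : wordOf a = wordOf b) :
    a = b := by
  have h2 : dec a = dec b := by rw [← support₂_wordOf, ← support₂_wordOf, h]
  rw [← enc_dec a ha, ← enc_dec b hb, h2]

/-- XOR of `f 0, …, f (n-1)`, written with the primitive recursor so that it evaluates quickly. -/
def xorFold (f : ℕ → ℕ) (n : ℕ) : ℕ :=
  Nat.rec (motive := fun _ => ℕ) 0 (fun k acc => acc ^^^ f k) n

theorem xorFold_zero (f : ℕ → ℕ) : xorFold f 0 = 0 := rfl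
theorem xorFold_succ (f : ℕ → ℕ) (n : ℕ) : xorFold f (n + 1) = xorFold f n ^^^ f n := rfl

theorem wordOf_xorFold (f : ℕ → ℕ) (n : ℕ) :
    wordOf (xorFold f n) = ∑ k ∈ Finset.range n, wordOf (f k) := by
  induction n with
  | zero => simp [xorFold_zero, wordOf_zero]
  | succ n ih => rw [xorFold_succ, wordOf_xor, ih, Finset.sum_range_succ]

theorem xorFold_lt (f : ℕ → ℕ) (n : ℕ) (e : ℕ) (h : ∀ k < n, f k < 2 ^ e) : xorFold f n < 2 ^ e := by
  induction n with
  | zero => rw [xorFold_zero]; positivity
  | succ n ih =>
    rw [xorFold_succ]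
    apply Nat.xor_lt_two_pow
    · exact ih (fun k hk => h k (by omega))
    · exact h n (by omega)

theorem bit_mul (r k g : ℕ) : ((r >>> k) &&& 1) * g = if r.testBit k = true then g else 0 := by
  rw [Nat.testBit, Nat.and_comm]
  rcases Nat.eq_zero_or_pos (1 &&& (r >>> k)) with h | h
  · rw [h]; simp
  · have h1 : 1 &&& (r >>> k) = 1 := by
      have : 1 &&& (r >>> k) ≤ 1 := Nat.and_le_left
      omega
    rw [h1]; simp

theorem wordOf_bit_mul (r k g : ℕ) :
    wordOf (((r >>> k) &&& 1) * g) = if r.testBit k = true then wordOf g else 0 := by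
  rw [bit_mul]
  split_ifs
  · rfl
  · exact wordOf_zero

/-! ### The generators and a systematic basis -/

/-- The 24 spanning words (the 23 translates of the squares, and the all-ones word), packed
24 bits each. -/
def gensPacked : ℕ := 247330390566316981700254725443481083047961100599452535729601052593412625930973997970417787225158909667533236150865167579096929270129562831143437190733897632049629279172244319

/-- The `k`-th spanning word as a bitmask. -/
def genMask (k : ℕ) : ℕ := (gensPacked >>> (24 * k)) &&& 0xFFFFFF

/-- A systematic basis (pivots at positions 0..11), packed 24 bits each. -/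
def basisPacked : ℕ := 442260735586854603400310301966068718139105568065225220732275176312862510561626593644545

/-- The `i`-th basis word as a bitmask. -/
def basisMask (i : ℕ) : ℕ := (basisPacked >>> (24 * i)) &&& 0xFFFFFF

/-- For each basis word, the set of generators whose sum it is. -/
def recipesPacked : ℕ := 248708261114000334799816073535957432990524930417279402089624457810907188517515510679209

def recipe (i : ℕ) : ℕ := (recipesPacked >>> (24 * i)) &&& 0xFFFFFF

/-- XOR of the generators selected by the bits of `r`. -/
def selectXor (r : ℕ) : ℕ := xorFold (fun k => ((r >>> k) &&& 1) * genMask k) 24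

/-- The code word with message bits `m` (XOR of the basis words selected by the bits of `m`). -/
def encodeMsg (m : ℕ) : ℕ := xorFold (fun i => ((m >>> i) &&& 1) * basisMask i) 12

/-- Membership test for the code, on bitmasks. -/
def isCode (n : ℕ) : Bool := encodeMsg (n &&& 4095) == n

theorem genMask_lt (k : ℕ) : genMask k < 2 ^ 24 := by
  unfold genMask
  exact lt_of_le_of_lt Nat.and_le_right (by norm_num)

theorem basisMask_lt (k : ℕ) : basisMask k < 2 ^ 24 := by
  unfold basisMask
  exact lt_of_le_of_lt Nat.and_le_right (by norm_num)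

theorem wordOf_genMask_qr : ∀ t : ZMod 23, ∀ p : GolayPt, wordOf (genMask t.val) p = qrWord t p := by
  decide +kernel

theorem wordOf_genMask_one : ∀ p : GolayPt, wordOf (genMask 23) p = 1 := by
  decide +kernel

theorem wordOf_genMask_mem (k : ℕ) (hk : k < 24) : wordOf (genMask k) ∈ golayCode := by
  by_cases h : k < 23
  · have : wordOf (genMask k) = qrWord (k : ZMod 23) := by
      funext p
      have := wordOf_genMask_qr (k : ZMod 23) p
      rwa [ZMod.val_natCast_of_lt h] at this
    rw [this]
    exact qrWord_mem _
  · have hk' : k = 23 := by omega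
    subst hk'
    have : wordOf (genMask 23) = 1 := by
      funext p
      exact wordOf_genMask_one p
    rw [this]
    exact one_mem

theorem wordOf_selectXor_mem (r : ℕ) : wordOf (selectXor r) ∈ golayCode := by
  unfold selectXor
  rw [wordOf_xorFold]
  apply Submodule.sum_mem
  intro k hk
  rw [wordOf_bit_mul]
  split_ifs
  · exact wordOf_genMask_mem k (Finset.mem_range.mp hk)
  · exact Submodule.zero_mem _

theorem selectXor_recipe : ∀ i : Fin 12, selectXor (recipe i.val) = basisMask i.val := by
  decide +kernel

theorem wordOf_basisMask_mem (i : ℕ) (hi : i < 12) : wordOf (basisMask i) ∈ golayCode := by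
  have := selectXor_recipe ⟨i, hi⟩
  simp only at this
  rw [← this]
  exact wordOf_selectXor_mem _

theorem wordOf_encodeMsg (m : ℕ) :
    wordOf (encodeMsg m) =
      ∑ i ∈ Finset.range 12, if m.testBit i = true then wordOf (basisMask i) else 0 := by
  unfold encodeMsg
  rw [wordOf_xorFold]
  apply Finset.sum_congr rfl
  intro i _
  rw [wordOf_bit_mul]

theorem encodeMsg_lt (m : ℕ) : encodeMsg m < 2 ^ 24 := by
  unfold encodeMsg
  apply xorFold_lt
  intro k _
  rw [bit_mul]
  split_ifs
  · exact basisMask_lt k
  · positivity

theorem wordOf_encodeMsg_mem (m : ℕ) : wordOf (encodeMsg m) ∈ golayCode := by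
  rw [wordOf_encodeMsg]
  apply Submodule.sum_mem
  intro i hi
  split_ifs
  · exact wordOf_basisMask_mem i (Finset.mem_range.mp hi)
  · exact Submodule.zero_mem _

end Cfsg.Agent.Lib.Helper26_Golay
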