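import Mathlib
import Cfsg.Prelude.Def_Sporadic_a
import Cfsg.Agent.Lib.Helper7_M24
import Cfsg.Agent.Lib.Helper26_GolayEnc
import Cfsg.Agent.Lib.Helper26_GolayCode

set_option autoImplicit false
open Cfsg
open Cfsg.Agent.Lib.Helper7_M24

namespace Cfsg.Agent.Lib.Helper26_Golay

/-- The systematic encoder as a linear map: re-encode the first twelve coordinates of a word. -/
noncomputable def reenc : (GolayPt → ZMod 2) →ₗ[ZMod 2] (GolayPt → ZMod 2) :=
  ∑ i ∈ Finset.range 12, (LinearMap.proj (pt i)).smulRight (wordOf (basisMask i))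

theorem reenc_apply (x : GolayPt → ZMod 2) :
    reenc x = ∑ i ∈ Finset.range 12, x (pt i) • wordOf (basisMask i) := by
  simp [reenc, LinearMap.sum_apply]

theorem wordOf_pt (n i : ℕ) (hi : i < 24) :
    wordOf n (pt i) = if n.testBit i = true then 1 else 0 := by
  rw [wordOf_apply, idx_pt i hi]

theorem reenc_wordOf (n : ℕ) : reenc (wordOf n) = wordOf (encodeMsg (n &&& 4095)) := by
  rw [reenc_apply, wordOf_encodeMsg]
  apply Finset.sum_congr rfl
  intro i hi
  have hi' : i < 12 := Finset.mem_range.mp hi
  rw [wordOf_pt n i (by omega), Nat.testBit_and]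
  have h4095 : (4095 : ℕ).testBit i = true := by
    have : (4095 : ℕ) = 2 ^ 12 - 1 := by norm_num
    rw [this, Nat.testBit_two_pow_sub_one]
    simpa using hi'
  rw [h4095, Bool.and_true]
  split_ifs
  · simp
  · simp

theorem isCode_genMask : ∀ k : Fin 24, isCode (genMask k.val) = true := by
  decide +kernel

theorem reenc_wordOf_of_isCode (n : ℕ) (h : isCode n = true) : reenc (wordOf n) = wordOf n := by
  rw [reenc_wordOf]
  unfold isCode at h
  rw [beq_iff_eq] at h
  rw [h]

theorem golayCode_le_eqLocus : golayCode ≤ LinearMap.eqLocus reenc LinearMap.id := by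
  unfold golayCode
  rw [Submodule.span_le]
  rintro x (⟨t, rfl⟩ | hx)
  · have h1 : wordOf (genMask t.val) = qrWord t := by
      funext p; exact wordOf_genMask_qr t p
    rw [← h1]
    show reenc (wordOf (genMask t.val)) = LinearMap.id (wordOf (genMask t.val))
    rw [LinearMap.id_apply]
    exact reenc_wordOf_of_isCode _ (isCode_genMask ⟨t.val, by have := ZMod.val_lt t; omega⟩)
  · rw [Set.mem_singleton_iff] at hx
    subst hx
    have h1 : wordOf (genMask 23) = 1 := by
      funext p; exact wordOf_genMask_one p
    rw [← h1]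
    show reenc (wordOf (genMask 23)) = LinearMap.id (wordOf (genMask 23))
    rw [LinearMap.id_apply]
    exact reenc_wordOf_of_isCode _ (isCode_genMask ⟨23, by norm_num⟩)

/-- Membership in the code for a bitmask. -/
theorem wordOf_mem_golayCode_iff (n : ℕ) (hn : n < 2 ^ 24) :
    wordOf n ∈ golayCode ↔ isCode n = true := by
  constructor
  · intro h
    have h1 : reenc (wordOf n) = wordOf n := golayCode_le_eqLocus h
    rw [reenc_wordOf] at h1
    have h2 := wordOf_injOn (encodeMsg_lt _) hn h1
    unfold isCode
    rw [beq_iff_eq]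
    exact h2
  · intro h
    unfold isCode at h
    rw [beq_iff_eq] at h
    rw [← h]
    exact wordOf_encodeMsg_mem _

/-- Membership in the code for a word. -/
theorem mem_golayCode_iff (x : GolayPt → ZMod 2) :
    x ∈ golayCode ↔ isCode (enc (support₂ x)) = true := by
  rw [← wordOf_mem_golayCode_iff _ (enc_lt _), wordOf_enc_support₂]

/-- Membership in the family of supports of code words, for a set of points. -/
theorem mem_supports_iff (s : Finset GolayPt) :
    s ∈ supports (golayCode : Set (GolayPt → ZMod 2)) ↔ isCode (enc s) = true := by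
  rw [← wordOf_mem_golayCode_iff _ (enc_lt _)]
  constructor
  · rintro ⟨x, hx, rfl⟩
    rw [wordOf_enc_support₂]
    exact hx
  · intro h
    exact ⟨wordOf (enc s), h, by rw [support₂_wordOf, dec_enc]⟩

end Cfsg.Agent.Lib.Helper26_Golay
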