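import Mathlib
import Cfsg.Prelude.Def_Sporadic_a
import Cfsg.Agent.Lib.Helper7_M24
import Cfsg.Agent.Lib.Helper26_GolayEnc
import Cfsg.Agent.Lib.Helper26_GolayCode
import Cfsg.Agent.Lib.Helper26_GolayMem
import Cfsg.Agent.Lib.Helper26_GolayFast

/-!
Set-level facts about the length-24 code: weights, octads, dodecads, the Steiner property.
-/

set_option autoImplicit false
open Cfsg
open Cfsg.Agent.Lib.Helper7_M24

namespace Cfsg.Agent.Lib.Helper26_Golay

theorem lt_of_isCode {n : ℕ} (h : isCode n = true) : n < 2 ^ 24 := by
  unfold isCode at h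
  rw [beq_iff_eq] at h
  rw [← h]
  exact encodeMsg_lt _

theorem mem_octads_iff (s : Finset GolayPt) : s ∈ octads ↔ enc s ∈ octList := by
  rw [mem_octList_iff, ← card_eq_pop, ← mem_supports_iff]
  rfl

theorem mem_dodecads_iff (s : Finset GolayPt) : s ∈ dodecads ↔ enc s ∈ dodList := by
  rw [mem_dodList_iff, ← card_eq_pop, ← mem_supports_iff]
  rfl

theorem dec_injOn {a b : ℕ} (ha : a < 2 ^ 24) (hb : b < 2 ^ 24) (h : dec a = dec b) : a = b := by
  rw [← enc_dec a ha, ← enc_dec b hb, h]

/-- The octads as a finite set of sets of points. -/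
def octFinset : Finset (Finset GolayPt) := (octList.map dec).toFinset

theorem mem_octFinset_iff (s : Finset GolayPt) : s ∈ octFinset ↔ s ∈ octads := by
  unfold octFinset
  rw [List.mem_toFinset, List.mem_map, mem_octads_iff]
  constructor
  · rintro ⟨n, hn, rfl⟩
    rwa [enc_dec n (lt_of_isCode ((mem_octList_iff n).mp hn).1)]
  · intro h
    exact ⟨enc s, h, dec_enc s⟩

theorem coe_octFinset : (octFinset : Set (Finset GolayPt)) = octads := by
  ext s
  exact mem_octFinset_iff s

theorem octFinset_card : octFinset.card = 759 := by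
  unfold octFinset
  rw [List.toFinset_card_of_nodup, List.length_map, octList_length]
  apply List.Nodup.map_on _ octList_nodup
  intro a ha b hb h
  exact dec_injOn (lt_of_isCode ((mem_octList_iff a).mp ha).1)
    (lt_of_isCode ((mem_octList_iff b).mp hb).1) h

theorem octads_ncard : octads.ncard = 759 := by
  rw [← coe_octFinset, Set.ncard_coe_finset, octFinset_card]

/-- The dodecads as a finite set of sets of points. -/
def dodFinset : Finset (Finset GolayPt) := (dodList.map dec).toFinset

theorem mem_dodFinset_iff (s : Finset GolayPt) : s ∈ dodFinset ↔ s ∈ dodecads := by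
  unfold dodFinset
  rw [List.mem_toFinset, List.mem_map, mem_dodecads_iff]
  constructor
  · rintro ⟨n, hn, rfl⟩
    rwa [enc_dec n (lt_of_isCode ((mem_dodList_iff n).mp hn).1)]
  · intro h
    exact ⟨enc s, h, dec_enc s⟩

theorem coe_dodFinset : (dodFinset : Set (Finset GolayPt)) = dodecads := by
  ext s
  exact mem_dodFinset_iff s

theorem dodFinset_card : dodFinset.card = 2576 := by
  unfold dodFinset
  rw [List.toFinset_card_of_nodup, List.length_map, dodList_length]
  apply List.Nodup.map_on _ dodList_nodup
  intro a ha b hb h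
  exact dec_injOn (lt_of_isCode ((mem_dodList_iff a).mp ha).1)
    (lt_of_isCode ((mem_dodList_iff b).mp hb).1) h

theorem dodecads_ncard : dodecads.ncard = 2576 := by
  rw [← coe_dodFinset, Set.ncard_coe_finset, dodFinset_card]

/-! ### Weights and closure properties of the family of supports -/

theorem enc_empty : enc (∅ : Finset GolayPt) = 0 := by
  simp [enc]

theorem enc_eq_zero_iff (s : Finset GolayPt) : enc s = 0 ↔ s = ∅ := by
  constructor
  · intro h
    rw [← dec_enc s, h]
    ext p
    simp [mem_dec]
  · rintro rfl
    exact enc_empty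

theorem enc_univ : enc (Finset.univ : Finset GolayPt) = 2 ^ 24 - 1 := by
  apply Nat.eq_of_testBit_eq
  intro i
  rw [Nat.testBit_two_pow_sub_one]
  by_cases hi : i < 24
  · have h1 := testBit_enc_idx Finset.univ (pt i)
    rw [idx_pt i hi] at h1
    rw [h1.mpr (Finset.mem_univ _)]
    simpa using hi
  · rw [not_lt] at hi
    rw [testBit_enc_of_ge _ i hi]
    symm
    simpa using hi

/-- The weight of every code word is 0, 8, 12, 16 or 24; weight 0 only for the empty set and weight
24 only for the full set. -/
theorem card_of_mem_supports {s : Finset GolayPt}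
    (hs : s ∈ supports (golayCode : Set (GolayPt → ZMod 2))) :
    s = ∅ ∨ s.card = 8 ∨ s.card = 12 ∨ s.card = 16 ∨ s = Finset.univ := by
  rw [mem_supports_iff, ← mem_codeList_iff] at hs
  have h := codeList_weights (enc s) hs
  rw [← card_eq_pop] at h
  rcases h with ⟨_, h⟩ | h | h | h | ⟨_, h⟩
  · left; exact (enc_eq_zero_iff s).mp h
  · right; left; exact h
  · right; right; left; exact h
  · right; right; right; left; exact h
  · right; right; right; right
    apply enc_injective
    rw [h, enc_univ]

theorem support₂_add (x y : GolayPt → ZMod 2) :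
    support₂ (x + y) = symmDiff (support₂ x) (support₂ y) := by
  ext p
  rw [Finset.mem_symmDiff, mem_support₂, mem_support₂, mem_support₂, Pi.add_apply]
  generalize x p = a
  generalize y p = b
  revert a b
  decide

theorem supports_symmDiff {s t : Finset GolayPt}
    (hs : s ∈ supports (golayCode : Set (GolayPt → ZMod 2)))
    (ht : t ∈ supports (golayCode : Set (GolayPt → ZMod 2))) :
    symmDiff s t ∈ supports (golayCode : Set (GolayPt → ZMod 2)) := by
  obtain ⟨x, hx, rfl⟩ := hs
  obtain ⟨y, hy, rfl⟩ := ht
  exact ⟨x + y, golayCode.add_mem hx hy, support₂_add x y⟩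

theorem univ_mem_supports :
    (Finset.univ : Finset GolayPt) ∈ supports (golayCode : Set (GolayPt → ZMod 2)) := by
  refine ⟨1, one_mem, ?_⟩
  ext p
  simp [mem_support₂]

theorem empty_mem_supports :
    (∅ : Finset GolayPt) ∈ supports (golayCode : Set (GolayPt → ZMod 2)) := by
  refine ⟨0, golayCode.zero_mem, ?_⟩
  ext p
  simp [mem_support₂]

theorem supports_compl {s : Finset GolayPt}
    (hs : s ∈ supports (golayCode : Set (GolayPt → ZMod 2))) :
    sᶜ ∈ supports (golayCode : Set (GolayPt → ZMod 2)) := by
  have := supports_symmDiff hs univ_mem_supports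
  rwa [← Finset.top_eq_univ, symmDiff_top] at this

/-- Nonempty code words have weight at least 8. -/
theorem eight_le_card {s : Finset GolayPt}
    (hs : s ∈ supports (golayCode : Set (GolayPt → ZMod 2))) (hne : s ≠ ∅) : 8 ≤ s.card := by
  rcases card_of_mem_supports hs with h | h | h | h | h
  · exact absurd h hne
  · omega
  · omega
  · omega
  · rw [h, Finset.card_univ]; decide

theorem octads_subset_supports {o : Finset GolayPt} (ho : o ∈ octads) :
    o ∈ supports (golayCode : Set (GolayPt → ZMod 2)) := ho.1

theorem octads_card {o : Finset GolayPt} (ho : o ∈ octads) : o.card = 8 := ho.2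

theorem card_symmDiff_add (s t : Finset GolayPt) :
    (symmDiff s t).card + 2 * (s ∩ t).card = s.card + t.card := by
  have h1 : (symmDiff s t) = (s \ t) ∪ (t \ s) := rfl
  have hd : Disjoint (s \ t) (t \ s) := by
    rw [Finset.disjoint_left]
    intro x hx hx'
    rw [Finset.mem_sdiff] at hx hx'
    exact hx.2 hx'.1
  rw [h1, Finset.card_union_of_disjoint hd]
  have h2 := Finset.card_sdiff_add_card_inter s t
  have h3 := Finset.card_sdiff_add_card_inter t s
  rw [Finset.inter_comm t s] at h3
  omega

/-- Two octads with five common points are equal. -/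
theorem octad_eq_of_five_le {o o' : Finset GolayPt} (ho : o ∈ octads) (ho' : o' ∈ octads)
    (h : 5 ≤ (o ∩ o').card) : o = o' := by
  by_contra hne
  have hsd := supports_symmDiff ho.1 ho'.1
  have hne' : symmDiff o o' ≠ ∅ := by
    intro h0
    apply hne
    have : symmDiff o o' = ⊥ := h0
    exact symmDiff_eq_bot.mp this
  have h8 := eight_le_card hsd hne'
  have := card_symmDiff_add o o'
  rw [ho.2, ho'.2] at this
  omega

set_option linter.constructorNameAsVariable false in
/-- The octads form a Steiner system `S(5, 8, 24)`: every five points lie in exactly one octad. -/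
theorem exists_unique_octad (u : Finset GolayPt) (hu : u.card = 5) :
    ∃! o, o ∈ octads ∧ u ⊆ o := by
  -- uniqueness from the minimum weight, existence by counting
  have huniq : ∀ o o', o ∈ octads → o' ∈ octads → u ⊆ o → u ⊆ o' → o = o' := by
    intro o o' ho ho' h1 h2
    apply octad_eq_of_five_le ho ho'
    rw [← hu]
    exact Finset.card_le_card (Finset.subset_inter h1 h2)
  suffices hex : ∃ o, o ∈ octads ∧ u ⊆ o by
    obtain ⟨o, ho, hs⟩ := hex
    exact ⟨o, ⟨ho, hs⟩, fun o' ⟨ho', hs'⟩ => huniq o' o ho' ho hs' hs⟩
  -- counting: pairs (octad, 5-subset of it) inject into 5-subsets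
  let P : Finset (Σ _ : Finset GolayPt, Finset GolayPt) :=
    octFinset.sigma (fun o => o.powersetCard 5)
  have hPcard : P.card = 42504 := by
    rw [Finset.card_sigma]
    have : ∀ o ∈ octFinset, (o.powersetCard 5).card = 56 := by
      intro o ho
      rw [Finset.card_powersetCard, ((mem_octFinset_iff o).mp ho).2]
      norm_num [Nat.choose]
    rw [Finset.sum_congr rfl this, Finset.sum_const, octFinset_card]
    norm_num
  have hinj : Set.InjOn (fun x : (Σ _ : Finset GolayPt, Finset GolayPt) => x.2) (P : Set _) := by
    rintro ⟨o, v⟩ h1 ⟨o', v'⟩ h2 (h : v = v')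
    subst h
    simp only [P, Finset.coe_sigma, Set.mem_sigma_iff, Finset.mem_coe, Finset.mem_powersetCard] at h1 h2
    have : o = o' := by
      apply octad_eq_of_five_le ((mem_octFinset_iff o).mp h1.1) ((mem_octFinset_iff o').mp h2.1)
      rw [← h1.2.2]
      exact Finset.card_le_card (Finset.subset_inter h1.2.1 h2.2.1)
    subst this
    rfl
  have himg : P.image (fun x => x.2) = (Finset.univ : Finset GolayPt).powersetCard 5 := by
    apply Finset.eq_of_subset_of_card_le
    · intro v hv
      rw [Finset.mem_image] at hv
      obtain ⟨⟨o, v'⟩, hx, rfl⟩ := hv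
      simp only [P, Finset.mem_sigma, Finset.mem_powersetCard] at hx
      rw [Finset.mem_powersetCard]
      exact ⟨Finset.subset_univ _, hx.2.2⟩
    · rw [Finset.card_image_of_injOn hinj, hPcard, Finset.card_powersetCard, Finset.card_univ]
      have : Fintype.card GolayPt = 24 := by rfl
      rw [this]
      norm_num [Nat.choose]
  have hu' : u ∈ P.image (fun x => x.2) := by
    rw [himg, Finset.mem_powersetCard]
    exact ⟨Finset.subset_univ _, hu⟩
  rw [Finset.mem_image] at hu'
  obtain ⟨⟨o, v⟩, hx, rfl⟩ := hu'
  simp only [P, Finset.mem_sigma, Finset.mem_powersetCard] at hx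
  exact ⟨o, (mem_octFinset_iff o).mp hx.1, hx.2.1⟩

/-- The octads form a Steiner system with parameters `(5, 8)` on the 24 points. -/
theorem isSteinerSystem_octads : IsSteinerSystem 5 8 octads :=
  ⟨fun _ hb => hb.2, exists_unique_octad⟩

end Cfsg.Agent.Lib.Helper26_Golay
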