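import Mathlib
import Cfsg.Prelude.Def_Sporadic_a
import Cfsg.Agent.Lib.Helper7_M24
import Cfsg.Agent.Lib.Helper26_GolaySets

/-!
Permutations of the 24 points given by packed tables (5 bits per entry), their action on
bitmasks, and a membership test for `Cfsg.M24`.
-/

set_option autoImplicit false
open Cfsg
open scoped Pointwise
open Cfsg.Agent.Lib.Helper7_M24

namespace Cfsg.Agent.Lib.Helper26_Golay

/-- Entry `i` of a packed table of 5-bit entries. -/
def img (T i : ℕ) : ℕ := (T >>> (5 * i)) &&& 31

/-- OR of `f 0, …, f (n-1)`, written with the primitive recursor so that it evaluates quickly. -/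
def orFold (f : ℕ → ℕ) (n : ℕ) : ℕ :=
  Nat.rec (motive := fun _ => ℕ) 0 (fun k acc => acc ||| f k) n

theorem orFold_zero (f : ℕ → ℕ) : orFold f 0 = 0 := rfl
theorem orFold_succ (f : ℕ → ℕ) (n : ℕ) : orFold f (n + 1) = orFold f n ||| f n := rfl

theorem testBit_orFold (f : ℕ → ℕ) (n i : ℕ) :
    (orFold f n).testBit i = true ↔ ∃ k < n, (f k).testBit i = true := by
  induction n with
  | zero => simp [orFold_zero]
  | succ n ih =>
    rw [orFold_succ, Nat.testBit_or, Bool.or_eq_true, ih]
    constructor
    · rintro (⟨k, hk, h⟩ | h)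
      · exact ⟨k, by omega, h⟩
      · exact ⟨n, by omega, h⟩
    · rintro ⟨k, hk, h⟩
      by_cases hkn : k = n
      · subst hkn; right; exact h
      · left; exact ⟨k, by omega, h⟩

/-- The image of a bitmask under the permutation with table `T`. -/
def permMask (T n : ℕ) : ℕ := orFold (fun i => ((n >>> i) &&& 1) <<< img T i) 24

theorem testBit_bit_shiftLeft (n j e i : ℕ) :
    (((n >>> j) &&& 1) <<< e).testBit i = true ↔ n.testBit j = true ∧ i = e := by
  rw [bit_eq_ite]
  split_ifs with h
  · rw [Nat.testBit_shiftLeft]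
    simp only [h, true_and, ge_iff_le, Bool.and_eq_true, decide_eq_true_eq]
    constructor
    · rintro ⟨h1, h2⟩
      rw [Nat.testBit_one_eq_true_iff_self_eq_zero] at h2
      omega
    · rintro rfl
      simp
  · simp [h]

theorem testBit_permMask (T n i : ℕ) :
    (permMask T n).testBit i = true ↔ ∃ j < 24, n.testBit j = true ∧ img T j = i := by
  unfold permMask
  rw [testBit_orFold]
  constructor
  · rintro ⟨j, hj, h⟩
    rw [testBit_bit_shiftLeft] at h
    exact ⟨j, hj, h.1, h.2.symm⟩
  · rintro ⟨j, hj, h1, h2⟩
    refine ⟨j, hj, ?_⟩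
    rw [testBit_bit_shiftLeft]
    exact ⟨h1, h2.symm⟩

/-- The table `T` describes the permutation `σ`. -/
def Represents (σ : Equiv.Perm GolayPt) (T : ℕ) : Prop := ∀ p, idx (σ p) = img T (idx p)

theorem enc_smul {σ : Equiv.Perm GolayPt} {T : ℕ} (h : Represents σ T) (s : Finset GolayPt) :
    enc (σ • s) = permMask T (enc s) := by
  apply Nat.eq_of_testBit_eq
  intro i
  rw [Bool.eq_iff_iff, testBit_enc, testBit_permMask]
  constructor
  · rintro ⟨p, hp, rfl⟩
    rw [Finset.mem_smul_finset] at hp
    obtain ⟨q, hq, rfl⟩ := hp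
    refine ⟨idx q, idx_lt q, (testBit_enc_idx s q).mpr hq, ?_⟩
    rw [Equiv.Perm.smul_def, h q]
  · rintro ⟨j, hj, h1, rfl⟩
    rw [testBit_enc] at h1
    obtain ⟨q, hq, rfl⟩ := h1
    refine ⟨σ q, ?_, h q⟩
    rw [Finset.mem_smul_finset]
    exact ⟨q, hq, rfl⟩

theorem permMask_lt_of_represents {σ : Equiv.Perm GolayPt} {T : ℕ} (h : Represents σ T) (n : ℕ)
    (hn : n < 2 ^ 24) : permMask T n < 2 ^ 24 := by
  rw [← enc_dec n hn, ← enc_smul h]
  exact enc_lt _

theorem permWord_wordOf {σ : Equiv.Perm GolayPt} {T : ℕ} (h : Represents σ T) (n : ℕ)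
    (hn : n < 2 ^ 24) : permWord σ (wordOf n) = wordOf (permMask T n) := by
  rw [← wordOf_enc_support₂ (permWord σ (wordOf n)), support₂_permWord, support₂_wordOf,
    enc_smul h, enc_dec n hn]

/-- Membership test for `M24`: the images of the 23 spanning words are code words. -/
theorem mem_M24_of_represents {σ : Equiv.Perm GolayPt} {T : ℕ} (h : Represents σ T)
    (hc : ∀ k : Fin 23, isCodeF (permMask T (genMask k.val)) = true) : σ ∈ M24 := by
  apply mem_M24_of_gens
  intro t
  have h1 : wordOf (genMask t.val) = qrWord t := by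
    funext p; exact wordOf_genMask_qr t p
  rw [← h1, permWord_wordOf h _ (genMask_lt _),
    wordOf_mem_golayCode_iff _ (permMask_lt_of_represents h _ (genMask_lt _)), ← isCodeF_eq]
  exact hc ⟨t.val, ZMod.val_lt t⟩

/-- For elements of `M24`, the image of a code word is a code word. -/
theorem isCode_permMask_of_mem {σ : Equiv.Perm GolayPt} {T : ℕ} (h : Represents σ T)
    (hσ : σ ∈ M24) {n : ℕ} (hn : isCode n = true) : isCode (permMask T n) = true := by
  have hlt := lt_of_isCode hn
  rw [← wordOf_mem_golayCode_iff _ hlt] at hn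
  rw [← wordOf_mem_golayCode_iff _ (permMask_lt_of_represents h _ hlt), ← permWord_wordOf h _ hlt]
  exact permWord_mem_of_mem_M24 hσ hn

/-! ### Permutations from tables -/

/-- The function on points described by a table. -/
def tblFun (T : ℕ) (p : GolayPt) : GolayPt := pt (img T (idx p))

/-- A table is valid when its 24 entries are distinct and less than 24. -/
def tblValid (T : ℕ) : Bool :=
  (List.range 24).all (fun i => decide (img T i < 24)) &&
    decide (((List.range 24).map (img T)).Nodup)

theorem tblFun_bijective (T : ℕ) (h : tblValid T = true) : Function.Bijective (tblFun T) := by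
  unfold tblValid at h
  rw [Bool.and_eq_true, List.all_eq_true, decide_eq_true_eq] at h
  obtain ⟨h1, h2⟩ := h
  rw [← Finite.injective_iff_bijective]
  intro p q hpq
  unfold tblFun at hpq
  have hp : img T (idx p) < 24 := by
    have := h1 (idx p) (List.mem_range.mpr (idx_lt p))
    simpa using this
  have hq : img T (idx q) < 24 := by
    have := h1 (idx q) (List.mem_range.mpr (idx_lt q))
    simpa using this
  have h3 : img T (idx p) = img T (idx q) := by
    rw [← idx_pt _ hp, ← idx_pt _ hq, hpq]
  have h4 := List.inj_on_of_nodup_map h2 (List.mem_range.mpr (idx_lt p))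
    (List.mem_range.mpr (idx_lt q)) h3
  exact idx_injective h4

/-- The permutation of the 24 points described by a valid table. -/
noncomputable def permOfTable (T : ℕ) (h : tblValid T = true) : Equiv.Perm GolayPt :=
  Equiv.ofBijective (tblFun T) (tblFun_bijective T h)

theorem represents_permOfTable (T : ℕ) (h : tblValid T = true) :
    Represents (permOfTable T h) T := by
  intro p
  show idx (tblFun T p) = img T (idx p)
  unfold tblFun
  apply idx_pt
  unfold tblValid at h
  rw [Bool.and_eq_true, List.all_eq_true] at h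
  have := h.1 (idx p) (List.mem_range.mpr (idx_lt p))
  simpa using this

end Cfsg.Agent.Lib.Helper26_Golay
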