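import Mathlib
import Cfsg.Prelude.Def_Sporadic_a
import Cfsg.Agent.Lib.Helper7_M24
import Cfsg.Agent.Lib.Helper26_GolaySets
import Cfsg.Agent.Lib.Helper26_M24Perm
import Cfsg.Agent.Lib.Helper26_Forest

/-!
The action of `M24` on sets of points: octads and dodecads are permuted, and counting lemmas.
-/

set_option autoImplicit false
open Cfsg
open scoped Pointwise
open Cfsg.Agent.Lib.Helper7_M24

namespace Cfsg.Agent.Lib.Helper26_Golay

theorem smul_mem_supports {g : Equiv.Perm GolayPt} (hg : g ∈ M24) {s : Finset GolayPt}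
    (hs : s ∈ supports (golayCode : Set (GolayPt → ZMod 2))) :
    g • s ∈ supports (golayCode : Set (GolayPt → ZMod 2)) := by
  have h1 : g • s ∈ g • supports (golayCode : Set (GolayPt → ZMod 2)) := Set.smul_mem_smul_set hs
  rwa [MulAction.mem_stabilizer_iff.mp hg] at h1

theorem card_smul_pts (g : Equiv.Perm GolayPt) (s : Finset GolayPt) : (g • s).card = s.card :=
  Finset.card_smul_finset g s

theorem smul_mem_octads {g : Equiv.Perm GolayPt} (hg : g ∈ M24) {o : Finset GolayPt}
    (ho : o ∈ octads) : g • o ∈ octads :=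
  ⟨smul_mem_supports hg ho.1, by rw [card_smul_pts]; exact ho.2⟩

theorem smul_mem_dodecads {g : Equiv.Perm GolayPt} (hg : g ∈ M24) {o : Finset GolayPt}
    (ho : o ∈ dodecads) : g • o ∈ dodecads :=
  ⟨smul_mem_supports hg ho.1, by rw [card_smul_pts]; exact ho.2⟩

theorem smul_mem_octFinset {g : Equiv.Perm GolayPt} (hg : g ∈ M24) {o : Finset GolayPt}
    (ho : o ∈ octFinset) : g • o ∈ octFinset := by
  rw [mem_octFinset_iff] at ho ⊢
  exact smul_mem_octads hg ho

theorem smul_mem_dodFinset {g : Equiv.Perm GolayPt} (hg : g ∈ M24) {o : Finset GolayPt}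
    (ho : o ∈ dodFinset) : g • o ∈ dodFinset := by
  rw [mem_dodFinset_iff] at ho ⊢
  exact smul_mem_dodecads hg ho

/-- Counting in an invariant family is invariant: if `P' (g • x) ↔ P x` on the family `F`, then
`P'` and `P` hold equally often on `F`. -/
theorem card_filter_smul {F : Finset (Finset GolayPt)} {g : Equiv.Perm GolayPt}
    (hF : ∀ x ∈ F, g • x ∈ F) (hF' : ∀ x ∈ F, g⁻¹ • x ∈ F)
    (P P' : Finset GolayPt → Prop) [DecidablePred P] [DecidablePred P']
    (h : ∀ x ∈ F, P' (g • x) ↔ P x) :
    (F.filter P').card = (F.filter P).card := by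
  have himg : (F.filter P).image (fun x => g • x) = F.filter P' := by
    ext y
    rw [Finset.mem_image, Finset.mem_filter]
    constructor
    · rintro ⟨x, hx, rfl⟩
      rw [Finset.mem_filter] at hx
      exact ⟨hF x hx.1, (h x hx.1).mpr hx.2⟩
    · rintro ⟨hy, hPy⟩
      refine ⟨g⁻¹ • y, ?_, smul_inv_smul g y⟩
      rw [Finset.mem_filter]
      refine ⟨hF' y hy, ?_⟩
      rw [← h _ (hF' y hy), smul_inv_smul]
      exact hPy
  rw [← himg, Finset.card_image_of_injective _ (MulAction.injective g)]

/-- Counting over the octads, for `M24`. -/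
theorem card_filter_octFinset_smul {g : Equiv.Perm GolayPt} (hg : g ∈ M24)
    (P P' : Finset GolayPt → Prop) [DecidablePred P] [DecidablePred P']
    (h : ∀ x ∈ octads, P' (g • x) ↔ P x) :
    (octFinset.filter P').card = (octFinset.filter P).card :=
  card_filter_smul (fun _ hx => smul_mem_octFinset hg hx)
    (fun _ hx => smul_mem_octFinset (M24.inv_mem hg) hx) P P'
    (fun x hx => h x ((mem_octFinset_iff x).mp hx))

/-- Counting over the dodecads, for `M24`. -/
theorem card_filter_dodFinset_smul {g : Equiv.Perm GolayPt} (hg : g ∈ M24)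
    (P P' : Finset GolayPt → Prop) [DecidablePred P] [DecidablePred P']
    (h : ∀ x ∈ dodecads, P' (g • x) ↔ P x) :
    (dodFinset.filter P').card = (dodFinset.filter P).card :=
  card_filter_smul (fun _ hx => smul_mem_dodFinset hg hx)
    (fun _ hx => smul_mem_dodFinset (M24.inv_mem hg) hx) P P'
    (fun x hx => h x ((mem_dodFinset_iff x).mp hx))

/-- Number of octads whose bitmask satisfies `Q`. -/
def countOct (Q : ℕ → Bool) : ℕ := sumFold (fun j => if Q (octAt j) = true then 1 else 0) 759

/-- Number of dodecads whose bitmask satisfies `Q`. -/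
def countDod (Q : ℕ → Bool) : ℕ := sumFold (fun j => if Q (dodAt j) = true then 1 else 0) 2576

theorem sumFold_ite_eq_countP (Q : ℕ → Bool) (f : ℕ → ℕ) (n : ℕ) :
    sumFold (fun j => if Q (f j) = true then 1 else 0) n = ((List.range n).map f).countP Q := by
  rw [sumFold_eq]
  induction n with
  | zero => simp
  | succ n ih =>
    rw [Finset.sum_range_succ, ih, List.range_succ, List.map_append, List.countP_append]
    simp [List.countP_cons]

theorem card_filter_map_dec (L : List ℕ) (hL : L.Nodup) (hlt : ∀ n ∈ L, n < 2 ^ 24)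
    (P : Finset GolayPt → Prop) [DecidablePred P] (Q : ℕ → Bool)
    (h : ∀ n ∈ L, P (dec n) ↔ Q n = true) :
    ((L.map dec).toFinset.filter P).card = L.countP Q := by
  have h1 : (L.map dec).toFinset.filter P = ((L.filter Q).map dec).toFinset := by
    ext s
    simp only [Finset.mem_filter, List.mem_toFinset, List.mem_map, List.mem_filter]
    constructor
    · rintro ⟨⟨n, hn, rfl⟩, hP⟩
      exact ⟨n, ⟨hn, (h n hn).mp hP⟩, rfl⟩
    · rintro ⟨n, ⟨hn, hQ⟩, rfl⟩
      exact ⟨⟨n, hn, rfl⟩, (h n hn).mpr hQ⟩
  rw [h1, List.toFinset_card_of_nodup, List.length_map, List.countP_eq_length_filter]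
  apply List.Nodup.map_on _ (hL.filter _)
  intro a ha b hb hab
  exact dec_injOn (hlt a (List.mem_of_mem_filter ha)) (hlt b (List.mem_of_mem_filter hb)) hab

/-- Counting octads with a property, on bitmasks. -/
theorem card_filter_octFinset (P : Finset GolayPt → Prop) [DecidablePred P] (Q : ℕ → Bool)
    (h : ∀ n ∈ octList, P (dec n) ↔ Q n = true) :
    (octFinset.filter P).card = countOct Q := by
  unfold countOct
  rw [sumFold_ite_eq_countP]
  exact card_filter_map_dec octList octList_nodup
    (fun n hn => lt_of_isCode ((mem_octList_iff n).mp hn).1) P Q h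

/-- Counting dodecads with a property, on bitmasks. -/
theorem card_filter_dodFinset (P : Finset GolayPt → Prop) [DecidablePred P] (Q : ℕ → Bool)
    (h : ∀ n ∈ dodList, P (dec n) ↔ Q n = true) :
    (dodFinset.filter P).card = countDod Q := by
  unfold countDod
  rw [sumFold_ite_eq_countP]
  exact card_filter_map_dec dodList dodList_nodup
    (fun n hn => lt_of_isCode ((mem_dodList_iff n).mp hn).1) P Q h

theorem inter_eq_iff_enc (s t u : Finset GolayPt) : s ∩ t = u ↔ enc s &&& enc t = enc u := by
  rw [← enc_inter]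
  exact ⟨fun h => by rw [h], fun h => enc_injective h⟩

theorem disjoint_iff_enc (s t : Finset GolayPt) : Disjoint s t ↔ enc s &&& enc t = 0 := by
  rw [Finset.disjoint_iff_inter_eq_empty, inter_eq_iff_enc, enc_empty]

theorem card_inter_eq_pop (s t : Finset GolayPt) : (s ∩ t).card = pop (enc s &&& enc t) := by
  rw [card_eq_pop, enc_inter]

theorem subset_iff_enc (s t : Finset GolayPt) : s ⊆ t ↔ enc s &&& enc t = enc s := by
  rw [← Finset.inter_eq_left, inter_eq_iff_enc]

end Cfsg.Agent.Lib.Helper26_Golay
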