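import Mathlib
import Cfsg.Agent.Lib.Helper26_M24Act
import Cfsg.Agent.Lib.Helper26_OctStab

/-!
Orbits of the stabiliser of the base octad (on octads, and on 2- and 4-subsets of the octad) and of
the stabiliser of the base dodecad (on dodecads).
-/

set_option autoImplicit false
set_option linter.constructorNameAsVariable false
open Cfsg
open scoped Pointwise

namespace Cfsg.Agent.Lib.Helper26_Golay

/-- Two nodes of a certified forest with the same root are related. -/
theorem maskRel_of_same_root (H : Subgroup (Equiv.Perm GolayPt)) (TT r : ℕ) (hg : GensIn H TT r)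
    (tAt : ℕ → ℕ) (hlt : ∀ j, tAt j < 2 ^ 24) (P G D R n : ℕ)
    (h : forestCheck (maskStepOk TT r) tAt P G D R n = true) {j j' : ℕ} (hj : j < n) (hj' : j' < n)
    (hR : get16 R j = get16 R j') : MaskRel H (tAt j) (tAt j') := by
  have h1 := (mask_forest H TT r hg tAt P G D R n h j hj).2.2
  have h2 := (mask_forest H TT r hg tAt P G D R n h j' hj').2.2
  rw [← hR] at h2
  exact maskRel_trans (maskRel_symm (hlt _) h1) h2

/-- The stabiliser of the base octad in `M24`. -/
def octStab : Subgroup (Equiv.Perm GolayPt) :=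
  M24 ⊓ MulAction.stabilizer (Equiv.Perm GolayPt) oct0

/-- The stabiliser of the base dodecad in `M24`. -/
def dodStab : Subgroup (Equiv.Perm GolayPt) :=
  M24 ⊓ MulAction.stabilizer (Equiv.Perm GolayPt) dod0

theorem exists_index_of_mem_octads {x : Finset GolayPt} (hx : x ∈ octads) :
    ∃ j < 759, octAt j = enc x := by
  rw [mem_octads_iff] at hx
  obtain ⟨j, hj, hjo⟩ := List.mem_map.mp hx
  exact ⟨j, List.mem_range.mp hj, hjo⟩

theorem exists_index_of_mem_dodecads {x : Finset GolayPt} (hx : x ∈ dodecads) :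
    ∃ j < 2576, dodAt j = enc x := by
  rw [mem_dodecads_iff] at hx
  obtain ⟨j, hj, hjo⟩ := List.mem_map.mp hx
  exact ⟨j, List.mem_range.mp hj, hjo⟩

/-- Octads meeting the base octad in equally many points are conjugate under its stabiliser. -/
theorem octStab_orbit {x x' : Finset GolayPt} (hx : x ∈ octads) (hx' : x' ∈ octads)
    (h : (oct0 ∩ x).card = (oct0 ∩ x').card) : ∃ g ∈ octStab, g • x = x' := by
  obtain ⟨j, hj, hjx⟩ := exists_index_of_mem_octads hx
  obtain ⟨j', hj', hjx'⟩ := exists_index_of_mem_octads hx'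
  have hr := (allFold_eq_true _ _).mp octSForest_rho j hj
  have hr' := (allFold_eq_true _ _).mp octSForest_rho j' hj'
  rw [beq_iff_eq] at hr hr'
  rw [card_inter_eq_pop, card_inter_eq_pop, enc_oct0, ← hjx, ← hjx'] at h
  have hR : get16 octSFR j = get16 octSFR j' := by rw [hr, hr', h]
  have := maskRel_of_same_root octStab octStabGens _ octStabGens_in octAt octAt_lt
    octSFP octSFG octSFD octSFR 759 octSForest_ok hj hj' hR
  rw [hjx, hjx'] at this
  exact exists_of_maskRel this

/-- Dodecads meeting the base dodecad in equally many points are conjugate under its stabiliser. -/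
theorem dodStab_orbit {x x' : Finset GolayPt} (hx : x ∈ dodecads) (hx' : x' ∈ dodecads)
    (h : (dod0 ∩ x).card = (dod0 ∩ x').card) : ∃ g ∈ dodStab, g • x = x' := by
  obtain ⟨j, hj, hjx⟩ := exists_index_of_mem_dodecads hx
  obtain ⟨j', hj', hjx'⟩ := exists_index_of_mem_dodecads hx'
  have hr := (allFold_eq_true _ _).mp dodSForest_rho j hj
  have hr' := (allFold_eq_true _ _).mp dodSForest_rho j' hj'
  rw [beq_iff_eq] at hr hr'
  rw [card_inter_eq_pop, card_inter_eq_pop, enc_dod0, ← hjx, ← hjx'] at h
  have hR : get16 dodSFR j = get16 dodSFR j' := by rw [hr, hr', h]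
  have := maskRel_of_same_root dodStab dodStabGens _ dodStabGens_in dodAt dodAt_lt
    dodSFP dodSFG dodSFD dodSFR 2576 dodSForest_ok hj hj' hR
  rw [hjx, hjx'] at this
  exact exists_of_maskRel this

/-- A list of `(u.card).choose k` distinct bitmasks of `k`-subsets of `u` contains the bitmask of
every `k`-subset of `u`. -/
theorem mem_of_subsets_list (u : Finset GolayPt) (k : ℕ) (L : List ℕ) (hL : L.Nodup)
    (hmem : ∀ m ∈ L, m < 2 ^ 24 ∧ m &&& enc u = m ∧ pop m = k)
    (hlen : L.length = (u.card).choose k) {s : Finset GolayPt} (hs : s ⊆ u) (hk : s.card = k) :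
    enc s ∈ L := by
  have hsub : (L.map dec).toFinset ⊆ u.powersetCard k := by
    intro x hx
    rw [List.mem_toFinset, List.mem_map] at hx
    obtain ⟨m, hm, rfl⟩ := hx
    obtain ⟨h1, h2, h3⟩ := hmem m hm
    rw [Finset.mem_powersetCard]
    constructor
    · rw [subset_iff_enc, enc_dec m h1, h2]
    · rw [card_eq_pop, enc_dec m h1, h3]
  have hcard : (L.map dec).toFinset.card = L.length := by
    rw [List.toFinset_card_of_nodup, List.length_map]
    apply List.Nodup.map_on _ hL
    intro a ha b hb hab
    exact dec_injOn (hmem a ha).1 (hmem b hb).1 hab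
  have heq : (L.map dec).toFinset = u.powersetCard k := by
    apply Finset.eq_of_subset_of_card_le hsub
    rw [hcard, hlen, Finset.card_powersetCard]
  have : s ∈ (L.map dec).toFinset := by
    rw [heq, Finset.mem_powersetCard]
    exact ⟨hs, hk⟩
  rw [List.mem_toFinset, List.mem_map] at this
  obtain ⟨m, hm, hms⟩ := this
  rw [← hms, enc_dec m (hmem m hm).1]
  exact hm

theorem oct0Pairs_list :
    ((List.range 28).map (get24 oct0Pairs)).Nodup ∧
    ∀ m ∈ (List.range 28).map (get24 oct0Pairs), m < 2 ^ 24 ∧ m &&& octAt 0 = m ∧ pop m = 2 := by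
  decide +kernel

theorem oct0Quads_list :
    ((List.range 70).map (get24 oct0Quads)).Nodup ∧
    ∀ m ∈ (List.range 70).map (get24 oct0Quads), m < 2 ^ 24 ∧ m &&& octAt 0 = m ∧ pop m = 4 := by
  decide +kernel

theorem get24_lt (A j : ℕ) : get24 A j < 2 ^ 24 :=
  lt_of_le_of_lt Nat.and_le_right (by norm_num)

/-- The base 2-subset of the base octad. -/
def pair0 : Finset GolayPt := dec (get24 oct0Pairs 0)

/-- The base 4-subset of the base octad. -/
def quad0 : Finset GolayPt := dec (get24 oct0Quads 0)

theorem enc_pair0 : enc pair0 = get24 oct0Pairs 0 := enc_dec _ (get24_lt _ _)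
theorem enc_quad0 : enc quad0 = get24 oct0Quads 0 := enc_dec _ (get24_lt _ _)

/-- The stabiliser of the base octad is transitive on its 2-subsets. -/
theorem octStab_pairs {s : Finset GolayPt} (hs : s ⊆ oct0) (hk : s.card = 2) :
    ∃ g ∈ octStab, g • pair0 = s := by
  have hmem : enc s ∈ (List.range 28).map (get24 oct0Pairs) := by
    apply mem_of_subsets_list oct0 2 _ oct0Pairs_list.1 _ _ hs hk
    · rw [enc_oct0]; exact oct0Pairs_list.2
    · rw [List.length_map, List.length_range, oct0_mem.2]; norm_num [Nat.choose]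
  obtain ⟨j, hj, hjs⟩ := List.mem_map.mp hmem
  rw [List.mem_range] at hj
  have h1 := (mask_forest octStab octStabGens _ octStabGens_in (get24 oct0Pairs)
    oct0PFP oct0PFG oct0PFD oct0PFR 28 oct0PairsForest_ok j hj).2.2
  have h2 := (allFold_eq_true _ _).mp oct0PairsForest_root j hj
  rw [beq_iff_eq] at h2
  rw [h2, hjs, ← enc_pair0] at h1
  exact exists_of_maskRel h1

/-- The stabiliser of the base octad is transitive on its 4-subsets. -/
theorem octStab_quads {s : Finset GolayPt} (hs : s ⊆ oct0) (hk : s.card = 4) :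
    ∃ g ∈ octStab, g • quad0 = s := by
  have hmem : enc s ∈ (List.range 70).map (get24 oct0Quads) := by
    apply mem_of_subsets_list oct0 4 _ oct0Quads_list.1 _ _ hs hk
    · rw [enc_oct0]; exact oct0Quads_list.2
    · rw [List.length_map, List.length_range, oct0_mem.2]; norm_num [Nat.choose]
  obtain ⟨j, hj, hjs⟩ := List.mem_map.mp hmem
  rw [List.mem_range] at hj
  have h1 := (mask_forest octStab octStabGens _ octStabGens_in (get24 oct0Quads)
    oct0QFP oct0QFG oct0QFD oct0QFR 70 oct0QuadsForest_ok j hj).2.2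
  have h2 := (allFold_eq_true _ _).mp oct0QuadsForest_root j hj
  rw [beq_iff_eq] at h2
  rw [h2, hjs, ← enc_quad0] at h1
  exact exists_of_maskRel h1

end Cfsg.Agent.Lib.Helper26_Golay
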