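import Mathlib
import Cfsg.Agent.Lib.Helper26_M24Act
import Cfsg.Agent.Lib.Helper26_OctStabThms
import Cfsg.Agent.Lib.Helper26_Subsets

/-!
Duads and triads: transitivity of `M24`, and the orbits of the stabilisers of the base duad and the
base triad.
-/

set_option autoImplicit false
set_option linter.constructorNameAsVariable false
open Cfsg
open scoped Pointwise

namespace Cfsg.Agent.Lib.Helper26_Golay

/-- Two nodes of a certified forest with the same invariant are related, when the invariant
determines the root. -/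
theorem maskRel_of_same_inv (H : Subgroup (Equiv.Perm GolayPt)) (TT r : ℕ) (hg : GensIn H TT r)
    (tAt : ℕ → ℕ) (hlt : ∀ j, tAt j < 2 ^ 24) (P G D R n : ℕ)
    (h : forestCheck (maskStepOk TT r) tAt P G D R n = true) (inv : ℕ → ℕ) (Rho : ℕ)
    (hrho : allFold (fun j => get16 R j == get16 Rho (inv (tAt j))) n = true)
    {j j' : ℕ} (hj : j < n) (hj' : j' < n) (hinv : inv (tAt j) = inv (tAt j')) :
    MaskRel H (tAt j) (tAt j') := by
  apply maskRel_of_same_root H TT r hg tAt hlt P G D R n h hj hj'
  have h1 := (allFold_eq_true _ _).mp hrho j hj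
  have h2 := (allFold_eq_true _ _).mp hrho j' hj'
  rw [beq_iff_eq] at h1 h2
  rw [h1, h2, hinv]

theorem duadAt_lt (j : ℕ) : duadAt j < 2 ^ 24 := get24_lt _ _
theorem triAt_lt (j : ℕ) : triAt j < 2 ^ 24 := get24_lt _ _

theorem and_full_of_lt {m : ℕ} (hm : m < 2 ^ 24) : m &&& (2 ^ 24 - 1) = m := by
  rw [Nat.and_two_pow_sub_one_eq_mod, Nat.mod_eq_of_lt hm]

/-- Every 2-subset of the points is in the table of duads. -/
theorem exists_index_of_card_two {s : Finset GolayPt} (hs : s.card = 2) :
    ∃ j < 276, duadAt j = enc s := by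
  have hmem : enc s ∈ (List.range 276).map duadAt := by
    apply mem_of_subsets_list Finset.univ 2 _ (nodup_map_of_increasing _ _ duad_increasing) _ _
      (Finset.subset_univ s) hs
    · intro m hm
      obtain ⟨j, hj, rfl⟩ := List.mem_map.mp hm
      rw [List.mem_range] at hj
      refine ⟨duadAt_lt j, ?_, ?_⟩
      · rw [enc_univ]; exact and_full_of_lt (duadAt_lt j)
      · have := (allFold_eq_true _ _).mp duad_pop j hj
        rwa [beq_iff_eq] at this
    · rw [List.length_map, List.length_range, Finset.card_univ]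
      have : Fintype.card GolayPt = 24 := rfl
      rw [this]; norm_num [Nat.choose]
  obtain ⟨j, hj, hjs⟩ := List.mem_map.mp hmem
  exact ⟨j, List.mem_range.mp hj, hjs⟩

/-- Every 3-subset of the points is in the table of triads. -/
theorem exists_index_of_card_three {s : Finset GolayPt} (hs : s.card = 3) :
    ∃ j < 2024, triAt j = enc s := by
  have hmem : enc s ∈ (List.range 2024).map triAt := by
    apply mem_of_subsets_list Finset.univ 3 _ (nodup_map_of_increasing _ _ tri_increasing) _ _
      (Finset.subset_univ s) hs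
    · intro m hm
      obtain ⟨j, hj, rfl⟩ := List.mem_map.mp hm
      rw [List.mem_range] at hj
      refine ⟨triAt_lt j, ?_, ?_⟩
      · rw [enc_univ]; exact and_full_of_lt (triAt_lt j)
      · have := (allFold_eq_true _ _).mp tri_pop j hj
        rwa [beq_iff_eq] at this
    · rw [List.length_map, List.length_range, Finset.card_univ]
      have : Fintype.card GolayPt = 24 := rfl
      rw [this]; norm_num [Nat.choose]
  obtain ⟨j, hj, hjs⟩ := List.mem_map.mp hmem
  exact ⟨j, List.mem_range.mp hj, hjs⟩

/-- The base duad. -/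
def duad0 : Finset GolayPt := dec (duadAt 0)

/-- The base triad. -/
def tri0 : Finset GolayPt := dec (triAt 0)

theorem enc_duad0 : enc duad0 = duadAt 0 := enc_dec _ (duadAt_lt 0)
theorem enc_tri0 : enc tri0 = triAt 0 := enc_dec _ (triAt_lt 0)

theorem card_dec_duadAt {j : ℕ} (hj : j < 276) : (dec (duadAt j)).card = 2 := by
  rw [card_eq_pop, enc_dec _ (duadAt_lt j)]
  have := (allFold_eq_true _ _).mp duad_pop j hj
  rwa [beq_iff_eq] at this

theorem card_dec_triAt {j : ℕ} (hj : j < 2024) : (dec (triAt j)).card = 3 := by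
  rw [card_eq_pop, enc_dec _ (triAt_lt j)]
  have := (allFold_eq_true _ _).mp tri_pop j hj
  rwa [beq_iff_eq] at this

theorem duad0_card : duad0.card = 2 := card_dec_duadAt (by norm_num)
theorem tri0_card : tri0.card = 3 := card_dec_triAt (by norm_num)

/-- `M24` is transitive on duads. -/
theorem exists_smul_duad0_eq {s : Finset GolayPt} (hs : s.card = 2) :
    ∃ g ∈ M24, g • duad0 = s := by
  obtain ⟨j, hj, hjs⟩ := exists_index_of_card_two hs
  have h1 := (mask_forest M24 m24Gens 4 m24Gens_in duadAt duadFP duadFG duadFD duadFR 276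
    duadForest_ok j hj).2.2
  have h2 := (allFold_eq_true _ _).mp duadForest_root j hj
  rw [beq_iff_eq] at h2
  rw [h2, hjs, ← enc_duad0] at h1
  exact exists_of_maskRel h1

/-- `M24` is transitive on triads. -/
theorem exists_smul_tri0_eq {s : Finset GolayPt} (hs : s.card = 3) :
    ∃ g ∈ M24, g • tri0 = s := by
  obtain ⟨j, hj, hjs⟩ := exists_index_of_card_three hs
  have h1 := (mask_forest M24 m24Gens 4 m24Gens_in triAt triFP triFG triFD triFR 2024
    triForest_ok j hj).2.2
  have h2 := (allFold_eq_true _ _).mp triForest_root j hj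
  rw [beq_iff_eq] at h2
  rw [h2, hjs, ← enc_tri0] at h1
  exact exists_of_maskRel h1

/-- The stabiliser of the base duad in `M24`. -/
def duadStab : Subgroup (Equiv.Perm GolayPt) :=
  M24 ⊓ MulAction.stabilizer (Equiv.Perm GolayPt) duad0

/-- The stabiliser of the base triad in `M24`. -/
def triStab : Subgroup (Equiv.Perm GolayPt) :=
  M24 ⊓ MulAction.stabilizer (Equiv.Perm GolayPt) tri0

theorem duadStabGens_in : GensIn duadStab duadStabGens 2 := by
  apply gensIn_stab
  rw [enc_duad0]
  decide +kernel

theorem triStabGens_in : GensIn triStab triStabGens 3 := by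
  apply gensIn_stab
  rw [enc_tri0]
  decide +kernel

/-- Duads meeting the base duad in equally many points are conjugate under its stabiliser. -/
theorem duadStab_orbit {s s' : Finset GolayPt} (hs : s.card = 2) (hs' : s'.card = 2)
    (h : (duad0 ∩ s).card = (duad0 ∩ s').card) : ∃ g ∈ duadStab, g • s = s' := by
  obtain ⟨j, hj, hjs⟩ := exists_index_of_card_two hs
  obtain ⟨j', hj', hjs'⟩ := exists_index_of_card_two hs'
  rw [card_inter_eq_pop, card_inter_eq_pop, enc_duad0, ← hjs, ← hjs'] at h
  have := maskRel_of_same_inv duadStab duadStabGens _ duadStabGens_in duadAt duadAt_lt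
    duadSFP duadSFG duadSFD duadSFR 276 duadSForest_ok (fun u => pop (duadAt 0 &&& u)) duadSRho
    duadSForest_rho hj hj' h
  rw [hjs, hjs'] at this
  exact exists_of_maskRel this

theorem inTri0Oct_iff (m : ℕ) :
    inTri0Oct m = true ↔ ∃ j < 21, m &&& get24 tri0Octs j = m := by
  unfold inTri0Oct
  rw [Bool.not_eq_true', ← Bool.not_eq_true, allFold_eq_true]
  push Not
  constructor
  · rintro ⟨j, hj, h⟩
    refine ⟨j, hj, ?_⟩
    by_contra hne
    apply h
    rw [Bool.not_eq_true', beq_eq_false_iff_ne]
    exact hne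
  · rintro ⟨j, hj, h⟩
    refine ⟨j, hj, ?_⟩
    rw [Ne, Bool.not_eq_true', beq_eq_false_iff_ne]
    exact fun hne => hne h

/-- The union of the base triad and `U` lies in an octad iff the Boolean test says so. -/
theorem exists_octad_tri0_iff (U : Finset GolayPt) :
    (∃ o ∈ octads, tri0 ∪ U ⊆ o) ↔ inTri0Oct (triAt 0 ||| enc U) = true := by
  rw [inTri0Oct_iff]
  constructor
  · rintro ⟨o, ho, hsub⟩
    have h0 : tri0 ⊆ o := Finset.union_subset_left hsub
    have hmem := tri0Octs_spec.2 (enc o) ((mem_octads_iff o).mp ho)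
      (by rw [← enc_tri0]; exact (subset_iff_enc tri0 o).mp h0)
    obtain ⟨j, hj, hjo⟩ := List.mem_map.mp hmem
    refine ⟨j, List.mem_range.mp hj, ?_⟩
    rw [hjo, ← enc_tri0, ← enc_union]
    exact (subset_iff_enc _ _).mp hsub
  · rintro ⟨j, hj, h⟩
    have hspec := tri0Octs_spec.1 j (List.mem_range.mpr hj)
    have hlt : get24 tri0Octs j < 2 ^ 24 := get24_lt _ _
    refine ⟨dec (get24 tri0Octs j), ?_, ?_⟩
    · rw [mem_octads_iff, enc_dec _ hlt]
      exact hspec.1
    · rw [subset_iff_enc, enc_union, enc_tri0, enc_dec _ hlt]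
      exact h

open Classical in
/-- The invariant of a triad `U` relative to a triad `T`: twice the size of the intersection, plus
one if the union lies in an octad. -/
noncomputable def triInvSet (T U : Finset GolayPt) : ℕ :=
  2 * (T ∩ U).card + (if ∃ o ∈ octads, T ∪ U ⊆ o then 1 else 0)

theorem triInvSet_tri0 (U : Finset GolayPt) : triInvSet tri0 U = triInv (enc U) := by
  unfold triInvSet triInv
  rw [card_inter_eq_pop, enc_tri0]
  congr 1
  by_cases h : ∃ o ∈ octads, tri0 ∪ U ⊆ o
  · rw [if_pos h, if_pos ((exists_octad_tri0_iff U).mp h)]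
  · rw [if_neg h, if_neg (fun h' => h ((exists_octad_tri0_iff U).mpr h'))]

theorem exists_octad_smul_iff {g : Equiv.Perm GolayPt} (hg : g ∈ M24) (T U : Finset GolayPt) :
    (∃ o ∈ octads, g • T ∪ g • U ⊆ o) ↔ ∃ o ∈ octads, T ∪ U ⊆ o := by
  constructor
  · rintro ⟨o, ho, hsub⟩
    refine ⟨g⁻¹ • o, smul_mem_octads (M24.inv_mem hg) ho, ?_⟩
    rw [← Finset.smul_finset_union] at hsub
    have := Finset.smul_finset_subset_smul_finset (a := g⁻¹) hsub
    rwa [inv_smul_smul] at this
  · rintro ⟨o, ho, hsub⟩
    refine ⟨g • o, smul_mem_octads hg ho, ?_⟩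
    rw [← Finset.smul_finset_union]
    exact Finset.smul_finset_subset_smul_finset hsub

theorem triInvSet_smul {g : Equiv.Perm GolayPt} (hg : g ∈ M24) (T U : Finset GolayPt) :
    triInvSet (g • T) (g • U) = triInvSet T U := by
  unfold triInvSet
  rw [← Finset.smul_finset_inter, card_smul_pts]
  congr 1
  by_cases h : ∃ o ∈ octads, T ∪ U ⊆ o
  · rw [if_pos h, if_pos ((exists_octad_smul_iff hg T U).mpr h)]
  · rw [if_neg h, if_neg (fun h' => h ((exists_octad_smul_iff hg T U).mp h'))]

/-- Triads with the same invariant relative to the base triad are conjugate under its stabiliser. -/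
theorem triStab_orbit {s s' : Finset GolayPt} (hs : s.card = 3) (hs' : s'.card = 3)
    (h : triInvSet tri0 s = triInvSet tri0 s') : ∃ g ∈ triStab, g • s = s' := by
  obtain ⟨j, hj, hjs⟩ := exists_index_of_card_three hs
  obtain ⟨j', hj', hjs'⟩ := exists_index_of_card_three hs'
  rw [triInvSet_tri0, triInvSet_tri0, ← hjs, ← hjs'] at h
  have := maskRel_of_same_inv triStab triStabGens _ triStabGens_in triAt triAt_lt
    triSFP triSFG triSFD triSFR 2024 triSForest_ok triInv triSRho
    triSForest_rho hj hj' h
  rw [hjs, hjs'] at this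
  exact exists_of_maskRel this

end Cfsg.Agent.Lib.Helper26_Golay
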