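import Mathlib
import Cfsg.Agent.Lib.Helper26_SubsetsThms

/-!
Counting duads and triads with a property, on bitmasks; orbit transfer lemmas.
-/

set_option autoImplicit false
set_option linter.constructorNameAsVariable false
open Cfsg
open scoped Pointwise

namespace Cfsg.Agent.Lib.Helper26_Golay

/-- The duads as a finite set. -/
def duadFinset : Finset (Finset GolayPt) := (Finset.univ : Finset GolayPt).powersetCard 2

/-- The triads as a finite set. -/
def triFinset : Finset (Finset GolayPt) := (Finset.univ : Finset GolayPt).powersetCard 3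

theorem mem_duadFinset (s : Finset GolayPt) : s ∈ duadFinset ↔ s.card = 2 := by
  simp [duadFinset, Finset.mem_powersetCard]

theorem mem_triFinset (s : Finset GolayPt) : s ∈ triFinset ↔ s.card = 3 := by
  simp [triFinset, Finset.mem_powersetCard]

theorem duadFinset_card : duadFinset.card = 276 := by
  unfold duadFinset
  rw [Finset.card_powersetCard, Finset.card_univ]
  have : Fintype.card GolayPt = 24 := rfl
  rw [this]; norm_num [Nat.choose]

theorem triFinset_card : triFinset.card = 2024 := by
  unfold triFinset
  rw [Finset.card_powersetCard, Finset.card_univ]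
  have : Fintype.card GolayPt = 24 := rfl
  rw [this]; norm_num [Nat.choose]

theorem duadFinset_eq : duadFinset = (((List.range 276).map duadAt).map dec).toFinset := by
  ext s
  rw [mem_duadFinset, List.mem_toFinset, List.mem_map]
  constructor
  · intro hs
    obtain ⟨j, hj, hjs⟩ := exists_index_of_card_two hs
    exact ⟨duadAt j, List.mem_map.mpr ⟨j, List.mem_range.mpr hj, rfl⟩, by rw [hjs, dec_enc]⟩
  · rintro ⟨m, hm, rfl⟩
    obtain ⟨j, hj, rfl⟩ := List.mem_map.mp hm
    exact card_dec_duadAt (List.mem_range.mp hj)

theorem triFinset_eq : triFinset = (((List.range 2024).map triAt).map dec).toFinset := by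
  ext s
  rw [mem_triFinset, List.mem_toFinset, List.mem_map]
  constructor
  · intro hs
    obtain ⟨j, hj, hjs⟩ := exists_index_of_card_three hs
    exact ⟨triAt j, List.mem_map.mpr ⟨j, List.mem_range.mpr hj, rfl⟩, by rw [hjs, dec_enc]⟩
  · rintro ⟨m, hm, rfl⟩
    obtain ⟨j, hj, rfl⟩ := List.mem_map.mp hm
    exact card_dec_triAt (List.mem_range.mp hj)

/-- Number of duads whose bitmask satisfies `Q`. -/
def countDuad (Q : ℕ → Bool) : ℕ := sumFold (fun j => if Q (duadAt j) = true then 1 else 0) 276

/-- Number of triads whose bitmask satisfies `Q`. -/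
def countTri (Q : ℕ → Bool) : ℕ := sumFold (fun j => if Q (triAt j) = true then 1 else 0) 2024

/-- Counting duads with a property, on bitmasks. -/
theorem card_filter_duadFinset (P : Finset GolayPt → Prop) [DecidablePred P] (Q : ℕ → Bool)
    (h : ∀ j < 276, P (dec (duadAt j)) ↔ Q (duadAt j) = true) :
    (duadFinset.filter P).card = countDuad Q := by
  unfold countDuad
  rw [sumFold_ite_eq_countP, duadFinset_eq]
  apply card_filter_map_dec _ (nodup_map_of_increasing _ _ duad_increasing)
  · intro n hn
    obtain ⟨j, _, rfl⟩ := List.mem_map.mp hn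
    exact duadAt_lt j
  · intro n hn
    obtain ⟨j, hj, rfl⟩ := List.mem_map.mp hn
    exact h j (List.mem_range.mp hj)

/-- Counting triads with a property, on bitmasks. -/
theorem card_filter_triFinset (P : Finset GolayPt → Prop) [DecidablePred P] (Q : ℕ → Bool)
    (h : ∀ j < 2024, P (dec (triAt j)) ↔ Q (triAt j) = true) :
    (triFinset.filter P).card = countTri Q := by
  unfold countTri
  rw [sumFold_ite_eq_countP, triFinset_eq]
  apply card_filter_map_dec _ (nodup_map_of_increasing _ _ tri_increasing)
  · intro n hn
    obtain ⟨j, _, rfl⟩ := List.mem_map.mp hn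
    exact triAt_lt j
  · intro n hn
    obtain ⟨j, hj, rfl⟩ := List.mem_map.mp hn
    exact h j (List.mem_range.mp hj)

theorem card_filter_duadFinset_smul (g : Equiv.Perm GolayPt)
    (P P' : Finset GolayPt → Prop) [DecidablePred P] [DecidablePred P']
    (h : ∀ x, x.card = 2 → (P' (g • x) ↔ P x)) :
    (duadFinset.filter P').card = (duadFinset.filter P).card :=
  card_filter_smul (fun x hx => by rw [mem_duadFinset, card_smul_pts]; exact (mem_duadFinset x).mp hx)
    (fun x hx => by rw [mem_duadFinset, card_smul_pts]; exact (mem_duadFinset x).mp hx) P P'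
    (fun x hx => h x ((mem_duadFinset x).mp hx))

theorem card_filter_triFinset_smul (g : Equiv.Perm GolayPt)
    (P P' : Finset GolayPt → Prop) [DecidablePred P] [DecidablePred P']
    (h : ∀ x, x.card = 3 → (P' (g • x) ↔ P x)) :
    (triFinset.filter P').card = (triFinset.filter P).card :=
  card_filter_smul (fun x hx => by rw [mem_triFinset, card_smul_pts]; exact (mem_triFinset x).mp hx)
    (fun x hx => by rw [mem_triFinset, card_smul_pts]; exact (mem_triFinset x).mp hx) P P'
    (fun x hx => h x ((mem_triFinset x).mp hx))

/-- Transfer of an orbit statement from a base object to a conjugate object. -/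
theorem orbit_transfer {base s : Finset GolayPt} {g₀ : Equiv.Perm GolayPt} (hg₀ : g₀ ∈ M24)
    (hs : g₀ • base = s) {y z : Finset GolayPt}
    (h : ∃ k ∈ M24 ⊓ MulAction.stabilizer (Equiv.Perm GolayPt) base, k • (g₀⁻¹ • y) = g₀⁻¹ • z) :
    ∃ g ∈ M24, g • s = s ∧ g • y = z := by
  obtain ⟨k, hk, hkx⟩ := h
  have hkM : k ∈ M24 := (Subgroup.mem_inf.mp hk).1
  have hk0 : k • base = base := MulAction.mem_stabilizer_iff.mp (Subgroup.mem_inf.mp hk).2
  refine ⟨g₀ * k * g₀⁻¹, M24.mul_mem (M24.mul_mem hg₀ hkM) (M24.inv_mem hg₀), ?_, ?_⟩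
  · rw [← hs, mul_smul, mul_smul, inv_smul_smul, hk0]
  · rw [mul_smul, mul_smul, hkx, smul_inv_smul]

/-- Number of duads meeting a duad `s` in `v` points. -/
theorem duad_meet_count {s : Finset GolayPt} (hs : s.card = 2) (v : ℕ) :
    (duadFinset.filter (fun y => (s ∩ y).card = v)).card =
      countDuad (fun n => pop (duadAt 0 &&& n) == v) := by
  obtain ⟨g, _, rfl⟩ := exists_smul_duad0_eq hs
  have hbase : (duadFinset.filter (fun y => (duad0 ∩ y).card = v)).card =
      countDuad (fun n => pop (duadAt 0 &&& n) == v) := by
    apply card_filter_duadFinset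
    intro j _
    rw [card_inter_eq_pop, enc_duad0, enc_dec _ (duadAt_lt j), beq_iff_eq]
  rw [← hbase]
  apply card_filter_duadFinset_smul g
  intro x _
  rw [← Finset.smul_finset_inter, card_smul_pts]

/-- Number of triads with invariant `v` relative to a triad `s`. -/
theorem tri_inv_count {s : Finset GolayPt} (hs : s.card = 3) (v : ℕ) :
    (triFinset.filter (fun y => triInvSet s y = v)).card =
      countTri (fun n => triInv n == v) := by
  obtain ⟨g, hg, rfl⟩ := exists_smul_tri0_eq hs
  have hbase : (triFinset.filter (fun y => triInvSet tri0 y = v)).card =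
      countTri (fun n => triInv n == v) := by
    apply card_filter_triFinset
    intro j _
    rw [triInvSet_tri0, enc_dec _ (triAt_lt j), beq_iff_eq]
  rw [← hbase]
  apply card_filter_triFinset_smul g
  intro x _
  rw [triInvSet_smul hg]

theorem countDuad_meet0 : countDuad (fun n => pop (duadAt 0 &&& n) == 0) = 231 := by decide +kernel
theorem countDuad_meet1 : countDuad (fun n => pop (duadAt 0 &&& n) == 1) = 44 := by decide +kernel
theorem countDuad_meet2 : countDuad (fun n => pop (duadAt 0 &&& n) == 2) = 1 := by decide +kernel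

theorem countTri_inv0 : countTri (fun n => triInv n == 0) = 1120 := by decide +kernel
theorem countTri_inv1 : countTri (fun n => triInv n == 1) = 210 := by decide +kernel
theorem countTri_inv3 : countTri (fun n => triInv n == 3) = 630 := by decide +kernel
theorem countTri_inv5 : countTri (fun n => triInv n == 5) = 63 := by decide +kernel
theorem countTri_inv7 : countTri (fun n => triInv n == 7) = 1 := by decide +kernel

theorem triInv_values : allFold (fun j => triInv (triAt j) == 0 || triInv (triAt j) == 1 ||
    triInv (triAt j) == 3 || triInv (triAt j) == 5 || triInv (triAt j) == 7) 2024 = true := by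
  decide +kernel

/-- The invariant of a triad relative to a triad takes the values 0, 1, 3, 5, 7. -/
theorem triInvSet_mem {s y : Finset GolayPt} (hs : s.card = 3) (hy : y.card = 3) :
    triInvSet s y = 0 ∨ triInvSet s y = 1 ∨ triInvSet s y = 3 ∨ triInvSet s y = 5 ∨
      triInvSet s y = 7 := by
  obtain ⟨g, hg, rfl⟩ := exists_smul_tri0_eq hs
  have h1 : triInvSet (g • tri0) y = triInvSet tri0 (g⁻¹ • y) := by
    conv_lhs => rw [← smul_inv_smul g y]
    rw [triInvSet_smul hg]
  rw [h1, triInvSet_tri0]
  obtain ⟨j, hj, hjs⟩ := exists_index_of_card_three (s := g⁻¹ • y) (by rw [card_smul_pts]; exact hy)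
  have := (allFold_eq_true _ _).mp triInv_values j hj
  rw [hjs] at this
  simp only [Bool.or_eq_true, beq_iff_eq] at this
  tauto

end Cfsg.Agent.Lib.Helper26_Golay
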