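import Cfsg.Agent.S0394

/-!
Shapes of short vectors of the rank-24 lattice.

* `ev P N Q N'`: entries `±2` on `P` (minus on `N`), `±4` on `Q` (minus on `N'`), `0` elsewhere.
* `od u T5 T3`: entries `±1`, with `±5` on `T5` and `∓3` on `T3`, the sign pattern given by the
  word `u` (the coordinates congruent to 1 modulo 4 are those where `u` is 1).

Membership in the lattice, sums of squares, injectivity of the parametrisations, the number of
parameters, and the statement that every lattice vector of small sum of squares is of one of these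
two forms.
-/

set_option autoImplicit false
set_option linter.constructorNameAsVariable false
open Cfsg

namespace Cfsg.Agent.Lib.Helper92_LeechShapes

open Cfsg.Agent.Lib.Helper7_M24 Cfsg.Agent.Lib.Helper7_Leech Cfsg.Agent.Lib.Helper92_LeechParity
open Cfsg.Agent.S0394

/-! ### even shapes -/

/-- Entries `±2` on `P` (minus on `N`), `±4` on `Q` (minus on `N'`), `0` elsewhere. -/
def ev (P N Q N' : Finset GolayPt) : GolayPt → ℤ := fun j => sgn 2 P N j + sgn 4 Q N' j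

/-- The conditions under which `ev P N Q N'` is a lattice vector. -/
structure EvOK (P N Q N' : Finset GolayPt) : Prop where
  code : P ∈ supports (golayCode : Set (GolayPt → ZMod 2))
  subN : N ⊆ P
  disj : Disjoint P Q
  subN' : N' ⊆ Q
  par : Even (N.card + Q.card)

theorem ev_val (P N Q N' : Finset GolayPt) (hd : Disjoint P Q) (j : GolayPt) :
    (j ∈ P ∧ j ∉ Q ∧ j ∉ N ∧ ev P N Q N' j = 2) ∨ (j ∈ P ∧ j ∉ Q ∧ j ∈ N ∧ ev P N Q N' j = -2) ∨
    (j ∉ P ∧ j ∈ Q ∧ j ∉ N' ∧ ev P N Q N' j = 4) ∨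
    (j ∉ P ∧ j ∈ Q ∧ j ∈ N' ∧ ev P N Q N' j = -4) ∨
    (j ∉ P ∧ j ∉ Q ∧ ev P N Q N' j = 0) := by
  unfold ev
  by_cases hP : j ∈ P
  · have hQ : j ∉ Q := Finset.disjoint_left.mp hd hP
    rw [sgn_of_notMem hQ]
    by_cases hN : j ∈ N
    · right; left
      rw [sgn_of_mem_neg hP hN]; exact ⟨hP, hQ, hN, rfl⟩
    · left
      rw [sgn_of_mem_pos hP hN]; exact ⟨hP, hQ, hN, rfl⟩
  · rw [sgn_of_notMem hP]
    by_cases hQ : j ∈ Q
    · by_cases hN : j ∈ N'
      · right; right; right; left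
        rw [sgn_of_mem_neg hQ hN]; exact ⟨hP, hQ, hN, rfl⟩
      · right; right; left
        rw [sgn_of_mem_pos hQ hN]; exact ⟨hP, hQ, hN, rfl⟩
    · right; right; right; right
      rw [sgn_of_notMem hQ]; exact ⟨hP, hQ, rfl⟩

theorem ev_sq (P N Q N' : Finset GolayPt) (hd : Disjoint P Q) (j : GolayPt) :
    ev P N Q N' j ^ 2 = (if j ∈ P then 4 else 0) + (if j ∈ Q then 16 else 0) := by
  rcases ev_val P N Q N' hd j with ⟨h1, h2, _, e⟩ | ⟨h1, h2, _, e⟩ | ⟨h1, h2, _, e⟩ |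
    ⟨h1, h2, _, e⟩ | ⟨h1, h2, e⟩
  · rw [e, if_pos h1, if_neg h2]; rfl
  · rw [e, if_pos h1, if_neg h2]; rfl
  · rw [e, if_neg h1, if_pos h2]; rfl
  · rw [e, if_neg h1, if_pos h2]; rfl
  · rw [e, if_neg h1, if_neg h2]; rfl

theorem sqNorm_ev (P N Q N' : Finset GolayPt) (hd : Disjoint P Q) :
    sqNorm (ev P N Q N') = 4 * P.card + 16 * Q.card := by
  unfold sqNorm
  rw [Finset.sum_congr rfl (fun j _ => ev_sq P N Q N' hd j), Finset.sum_add_distrib, sum_ind,
    sum_ind]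

theorem sum_ev (P N Q N' : Finset GolayPt) (hN : N ⊆ P) (hN' : N' ⊆ Q) :
    ∑ j, ev P N Q N' j = 2 * (P.card - 2 * N.card) + 4 * (Q.card - 2 * N'.card) := by
  unfold ev
  rw [Finset.sum_add_distrib, sum_sgn 2 P N hN, sum_sgn 4 Q N' hN']

theorem four_dvd_card_of_supports {P : Finset GolayPt}
    (hP : P ∈ supports (golayCode : Set (GolayPt → ZMod 2))) : 4 ∣ P.card := by
  obtain ⟨w, hw, rfl⟩ := hP
  exact Cfsg.Agent.Lib.Helper8_GolayEven.four_dvd_card w hw

theorem ev_mem {P N Q N' : Finset GolayPt} (h : EvOK P N Q N') : ev P N Q N' ∈ leechSet := by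
  apply mem_of_even
  · intro j
    rcases ev_val P N Q N' h.disj j with ⟨_, _, _, e⟩ | ⟨_, _, _, e⟩ | ⟨_, _, _, e⟩ |
      ⟨_, _, _, e⟩ | ⟨_, _, e⟩ <;> rw [e] <;> decide
  · have : indWord (fun i => ev P N Q N' i ≡ 2 [ZMOD 4]) = indWord (fun i => i ∈ P) := by
      funext j
      unfold indWord
      beta_reduce
      rcases ev_val P N Q N' h.disj j with ⟨h1, _, _, e⟩ | ⟨h1, _, _, e⟩ | ⟨h1, _, _, e⟩ |
        ⟨h1, _, _, e⟩ | ⟨h1, _, e⟩
      · rw [e, if_pos h1, if_pos]; decide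
      · rw [e, if_pos h1, if_pos]; decide
      · rw [e, if_neg h1, if_neg]; decide
      · rw [e, if_neg h1, if_neg]; decide
      · rw [e, if_neg h1, if_neg]; decide
    rw [this]; exact indWord_mem_of_supports h.code
  · rw [sum_ev P N Q N' h.subN h.subN']
    obtain ⟨p, hp⟩ := four_dvd_card_of_supports h.code
    obtain ⟨k, hk⟩ := h.par
    have hQ : (Q.card : ℤ) = 2 * k - N.card := by
      have : ((N.card + Q.card : ℕ) : ℤ) = ((k + k : ℕ) : ℤ) := by rw [hk]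
      push_cast at this
      omega
    rw [hp, hQ]
    push_cast
    exact ⟨p - N.card + k - N'.card, by ring⟩

theorem ev_inj {P N Q N' P2 N2 Q2 N2' : Finset GolayPt} (h : EvOK P N Q N')
    (h2 : EvOK P2 N2 Q2 N2') (he : ev P N Q N' = ev P2 N2 Q2 N2') :
    P = P2 ∧ N = N2 ∧ Q = Q2 ∧ N' = N2' := by
  have key : ∀ j, (j ∈ P ↔ j ∈ P2) ∧ (j ∈ N ↔ j ∈ N2) ∧ (j ∈ Q ↔ j ∈ Q2) ∧
      (j ∈ N' ↔ j ∈ N2') := by
    intro j
    have hj := congrFun he j
    have a1 : j ∈ N → j ∈ P := fun hh => h.subN hh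
    have a2 : j ∈ N' → j ∈ Q := fun hh => h.subN' hh
    have b1 : j ∈ N2 → j ∈ P2 := fun hh => h2.subN hh
    have b2 : j ∈ N2' → j ∈ Q2 := fun hh => h2.subN' hh
    rcases ev_val P N Q N' h.disj j with ⟨h1, h3, h4, e⟩ | ⟨h1, h3, h4, e⟩ | ⟨h1, h3, h4, e⟩ |
      ⟨h1, h3, h4, e⟩ | ⟨h1, h3, e⟩ <;>
    rcases ev_val P2 N2 Q2 N2' h2.disj j with ⟨k1, k3, k4, e'⟩ | ⟨k1, k3, k4, e'⟩ |
      ⟨k1, k3, k4, e'⟩ | ⟨k1, k3, k4, e'⟩ | ⟨k1, k3, e'⟩ <;>
    first
      | (exfalso; omega)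
      | tauto
  refine ⟨Finset.ext fun j => (key j).1, Finset.ext fun j => (key j).2.1,
    Finset.ext fun j => (key j).2.2.1, Finset.ext fun j => (key j).2.2.2⟩

/-! ### recognising even shapes -/

/-- The coordinates congruent to 2 modulo 4. -/
def S2 (x : GolayPt → ℤ) : Finset GolayPt := Finset.univ.filter (fun i => x i ≡ 2 [ZMOD 4])

/-- The nonzero coordinates divisible by 4. -/
def S4 (x : GolayPt → ℤ) : Finset GolayPt := Finset.univ.filter (fun i => 4 ∣ x i ∧ x i ≠ 0)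

theorem mem_S2 (x : GolayPt → ℤ) (j : GolayPt) : j ∈ S2 x ↔ x j ≡ 2 [ZMOD 4] := by
  unfold S2; rw [Finset.mem_filter]; exact ⟨fun h => h.2, fun h => ⟨Finset.mem_univ j, h⟩⟩

theorem mem_S4 (x : GolayPt → ℤ) (j : GolayPt) : j ∈ S4 x ↔ (4 ∣ x j ∧ x j ≠ 0) := by
  unfold S4; rw [Finset.mem_filter]; exact ⟨fun h => h.2, fun h => ⟨Finset.mem_univ j, h⟩⟩

theorem even_pt (a : ℤ) (h2 : 2 ∣ a) :
    (a ≡ 2 [ZMOD 4] ∧ ¬ 4 ∣ a ∧ (a = 2 ∨ a = -2 ∨ 36 ≤ a ^ 2)) ∨
    (4 ∣ a ∧ ¬ a ≡ 2 [ZMOD 4] ∧ (a = 0 ∨ a = 4 ∨ a = -4 ∨ 64 ≤ a ^ 2)) := by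
  by_cases h : a ≡ 2 [ZMOD 4]
  · left
    refine ⟨h, ?_, ?_⟩
    · unfold Int.ModEq at h; omega
    · unfold Int.ModEq at h
      by_cases h1 : a = 2
      · left; exact h1
      · by_cases h3 : a = -2
        · right; left; exact h3
        · right; right
          have h4 : 6 ≤ a ∨ a ≤ -6 := by omega
          rcases h4 with h4 | h4 <;> nlinarith
  · right
    have h4 : 4 ∣ a := by unfold Int.ModEq at h; omega
    refine ⟨h4, h, ?_⟩
    by_cases h1 : a = 0
    · left; exact h1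
    · by_cases h3 : a = 4
      · right; left; exact h3
      · by_cases h5 : a = -4
        · right; right; left; exact h5
        · right; right; right
          have h6 : 8 ≤ a ∨ a ≤ -8 := by omega
          rcases h6 with h6 | h6 <;> nlinarith

/-- The excess of the sum of squares over the minimum possible for the given classes. -/
def excess (x : GolayPt → ℤ) (j : GolayPt) : ℤ :=
  x j ^ 2 - (if j ∈ S2 x then 4 else 0) - (if j ∈ S4 x then 16 else 0)

theorem excess_cases (x : GolayPt → ℤ) (h2 : ∀ i, 2 ∣ x i) (j : GolayPt) :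
    excess x j = 0 ∨ 32 ≤ excess x j := by
  unfold excess
  rcases even_pt (x j) (h2 j) with ⟨h1, h3, h4⟩ | ⟨h1, h3, h4⟩
  · have m2 : j ∈ S2 x := (mem_S2 x j).mpr h1
    have m4 : j ∉ S4 x := fun hh => h3 ((mem_S4 x j).mp hh).1
    rw [if_pos m2, if_neg m4]
    rcases h4 with h4 | h4 | h4
    · left; rw [h4]; rfl
    · left; rw [h4]; rfl
    · right; omega
  · have m2 : j ∉ S2 x := fun hh => h3 ((mem_S2 x j).mp hh)
    rw [if_neg m2]
    rcases h4 with h4 | h4 | h4 | h4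
    · have m4 : j ∉ S4 x := fun hh => ((mem_S4 x j).mp hh).2 h4
      rw [if_neg m4]; left; rw [h4]; rfl
    · have m4 : j ∈ S4 x := (mem_S4 x j).mpr ⟨h1, by omega⟩
      rw [if_pos m4]; left; rw [h4]; rfl
    · have m4 : j ∈ S4 x := (mem_S4 x j).mpr ⟨h1, by omega⟩
      rw [if_pos m4]; left; rw [h4]; rfl
    · have m4 : j ∈ S4 x := (mem_S4 x j).mpr ⟨h1, by
        intro h0; rw [h0] at h4; norm_num at h4⟩
      rw [if_pos m4]; right; omega

theorem sum_excess (x : GolayPt → ℤ) :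
    ∑ j, excess x j = sqNorm x - 4 * (S2 x).card - 16 * (S4 x).card := by
  unfold excess sqNorm
  rw [Finset.sum_sub_distrib, Finset.sum_sub_distrib, sum_ind, sum_ind]

theorem disjoint_S2_S4 (x : GolayPt → ℤ) : Disjoint (S2 x) (S4 x) := by
  rw [Finset.disjoint_left]
  intro j h1 h2
  rw [mem_S2] at h1
  rw [mem_S4] at h2
  unfold Int.ModEq at h1
  omega

/-- An even lattice vector whose sum of squares is less than 32 above the minimum for its classes
is of the shape `ev`. -/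
theorem even_shape (x : GolayPt → ℤ) (h2 : ∀ i, 2 ∣ x i)
    (hC : indWord (fun i => x i ≡ 2 [ZMOD 4]) ∈ golayCode) (hs : 8 ∣ ∑ i, x i)
    (hn : sqNorm x < 4 * (S2 x).card + 16 * (S4 x).card + 32) :
    EvOK (S2 x) ((S2 x).filter (fun j => x j < 0)) (S4 x) ((S4 x).filter (fun j => x j < 0)) ∧
    x = ev (S2 x) ((S2 x).filter (fun j => x j < 0)) (S4 x) ((S4 x).filter (fun j => x j < 0)) ∧
    sqNorm x = 4 * (S2 x).card + 16 * (S4 x).card := by
  have hnn : ∀ j ∈ Finset.univ, 0 ≤ excess x j := by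
    intro j _
    rcases excess_cases x h2 j with h | h <;> omega
  have hsum := sum_excess x
  have hz : ∀ j, excess x j = 0 := by
    intro j
    rcases excess_cases x h2 j with h | h
    · exact h
    · have := Finset.single_le_sum hnn (Finset.mem_univ j)
      omega
  have hnorm : sqNorm x = 4 * (S2 x).card + 16 * (S4 x).card := by
    rw [Finset.sum_congr rfl (fun j _ => hz j), Finset.sum_const_zero] at hsum
    omega
  have hval : ∀ j, (j ∈ S2 x → (x j = 2 ∨ x j = -2)) ∧ (j ∈ S4 x → (x j = 4 ∨ x j = -4)) ∧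
      (j ∉ S2 x → j ∉ S4 x → x j = 0) := by
    intro j
    have hj := hz j
    unfold excess at hj
    refine ⟨fun m2 => ?_, fun m4 => ?_, fun m2 m4 => ?_⟩
    · have m4 : j ∉ S4 x := Finset.disjoint_left.mp (disjoint_S2_S4 x) m2
      rw [if_pos m2, if_neg m4] at hj
      have h1 : x j ^ 2 = 2 ^ 2 := by omega
      exact sq_eq_sq_iff_eq_or_eq_neg.mp h1
    · have m2 : j ∉ S2 x := Finset.disjoint_right.mp (disjoint_S2_S4 x) m4
      rw [if_neg m2, if_pos m4] at hj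
      have h1 : x j ^ 2 = 4 ^ 2 := by omega
      exact sq_eq_sq_iff_eq_or_eq_neg.mp h1
    · rw [if_neg m2, if_neg m4] at hj
      have h1 : x j ^ 2 = 0 := by omega
      exact pow_eq_zero_iff (by decide) |>.mp h1
  have hx : x = ev (S2 x) ((S2 x).filter (fun j => x j < 0)) (S4 x)
      ((S4 x).filter (fun j => x j < 0)) := by
    funext j
    obtain ⟨v2, v4, v0⟩ := hval j
    rcases ev_val (S2 x) ((S2 x).filter (fun j => x j < 0)) (S4 x)
      ((S4 x).filter (fun j => x j < 0)) (disjoint_S2_S4 x) j with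
      ⟨h1, h3, h4, e⟩ | ⟨h1, h3, h4, e⟩ | ⟨h1, h3, h4, e⟩ | ⟨h1, h3, h4, e⟩ | ⟨h1, h3, e⟩
    · rw [e]
      rcases v2 h1 with v | v
      · exact v
      · exact absurd (Finset.mem_filter.mpr ⟨h1, by omega⟩) h4
    · rw [e]
      have := (Finset.mem_filter.mp h4).2
      rcases v2 h1 with v | v
      · omega
      · exact v
    · rw [e]
      rcases v4 h3 with v | v
      · exact v
      · exact absurd (Finset.mem_filter.mpr ⟨h3, by omega⟩) h4
    · rw [e]
      have := (Finset.mem_filter.mp h4).2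
      rcases v4 h3 with v | v
      · omega
      · exact v
    · rw [e]; exact v0 h1 h3
  have hcode : S2 x ∈ supports (golayCode : Set (GolayPt → ZMod 2)) :=
    (filter_mem_supports_iff (fun i => x i ≡ 2 [ZMOD 4])).mpr hC
  refine ⟨⟨hcode, Finset.filter_subset _ _, disjoint_S2_S4 x, Finset.filter_subset _ _, ?_⟩,
    hx, hnorm⟩
  -- the parity condition
  have hsum2 := sum_ev (S2 x) ((S2 x).filter (fun j => x j < 0)) (S4 x)
    ((S4 x).filter (fun j => x j < 0)) (Finset.filter_subset _ _) (Finset.filter_subset _ _)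
  rw [← hx] at hsum2
  rw [hsum2] at hs
  obtain ⟨p, hp⟩ := four_dvd_card_of_supports hcode
  rw [hp] at hs
  rw [Nat.even_iff]
  push_cast at hs
  omega

/-! ### odd shapes -/

/-- The vector of signs of a word: `1` where the word is `1` and `-1` elsewhere. -/
def bs (u : GolayPt → ZMod 2) : GolayPt → ℤ := fun j => if u j = 1 then 1 else -1

/-- Entries `±1` with the signs of `u`, multiplied by `5` on `T5` and by `-3` on `T3`. -/
def od (u : GolayPt → ZMod 2) (T5 T3 : Finset GolayPt) : GolayPt → ℤ :=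
  fun j => bs u j * (if j ∈ T5 then 5 else if j ∈ T3 then -3 else 1)

theorem bs_cases (u : GolayPt → ZMod 2) (j : GolayPt) :
    (u j = 1 ∧ bs u j = 1) ∨ (u j = 0 ∧ bs u j = -1) := by
  unfold bs
  rcases zmod2_cases (u j) with h | h
  · right; rw [h]; exact ⟨rfl, rfl⟩
  · left; rw [if_pos h]; exact ⟨h, rfl⟩

theorem od_val (u : GolayPt → ZMod 2) (T5 T3 : Finset GolayPt) (hd : Disjoint T5 T3)
    (j : GolayPt) :
    (j ∈ T5 ∧ j ∉ T3 ∧ od u T5 T3 j = 5 * bs u j) ∨ (j ∉ T5 ∧ j ∈ T3 ∧ od u T5 T3 j = -3 * bs u j) ∨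
    (j ∉ T5 ∧ j ∉ T3 ∧ od u T5 T3 j = bs u j) := by
  unfold od
  by_cases h5 : j ∈ T5
  · left
    rw [if_pos h5]
    exact ⟨h5, Finset.disjoint_left.mp hd h5, by ring⟩
  · right
    rw [if_neg h5]
    by_cases h3 : j ∈ T3
    · left; rw [if_pos h3]; exact ⟨h5, h3, by ring⟩
    · right; rw [if_neg h3]; exact ⟨h5, h3, by ring⟩

theorem od_sq (u : GolayPt → ZMod 2) (T5 T3 : Finset GolayPt) (hd : Disjoint T5 T3)
    (j : GolayPt) :
    od u T5 T3 j ^ 2 = 1 + (if j ∈ T5 then 24 else 0) + (if j ∈ T3 then 8 else 0) := by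
  rcases od_val u T5 T3 hd j with ⟨h1, h2, e⟩ | ⟨h1, h2, e⟩ | ⟨h1, h2, e⟩ <;>
    rcases bs_cases u j with ⟨_, b⟩ | ⟨_, b⟩
  · rw [e, b, if_pos h1, if_neg h2]; rfl
  · rw [e, b, if_pos h1, if_neg h2]; rfl
  · rw [e, b, if_neg h1, if_pos h2]; rfl
  · rw [e, b, if_neg h1, if_pos h2]; rfl
  · rw [e, b, if_neg h1, if_neg h2]; rfl
  · rw [e, b, if_neg h1, if_neg h2]; rfl

theorem sqNorm_od (u : GolayPt → ZMod 2) (T5 T3 : Finset GolayPt) (hd : Disjoint T5 T3) :
    sqNorm (od u T5 T3) = 24 + 24 * T5.card + 8 * T3.card := by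
  unfold sqNorm
  rw [Finset.sum_congr rfl (fun j _ => od_sq u T5 T3 hd j), Finset.sum_add_distrib,
    Finset.sum_add_distrib, sum_ind, sum_ind, Finset.sum_const, Finset.card_univ, card_golayPt]
  rfl

theorem od_class (u : GolayPt → ZMod 2) (T5 T3 : Finset GolayPt) (hd : Disjoint T5 T3) :
    indWord (fun j => od u T5 T3 j ≡ 1 [ZMOD 4]) = u := by
  funext j
  unfold indWord
  beta_reduce
  rcases od_val u T5 T3 hd j with ⟨_, _, e⟩ | ⟨_, _, e⟩ | ⟨_, _, e⟩ <;>
    rcases bs_cases u j with ⟨hu, b⟩ | ⟨hu, b⟩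
  · rw [e, b, hu, if_pos]; decide
  · rw [e, b, hu, if_neg]; decide
  · rw [e, b, hu, if_pos]; decide
  · rw [e, b, hu, if_neg]; decide
  · rw [e, b, hu, if_pos]; decide
  · rw [e, b, hu, if_neg]; decide

theorem od_odd (u : GolayPt → ZMod 2) (T5 T3 : Finset GolayPt) (hd : Disjoint T5 T3)
    (j : GolayPt) : ¬ 2 ∣ od u T5 T3 j := by
  rcases od_val u T5 T3 hd j with ⟨_, _, e⟩ | ⟨_, _, e⟩ | ⟨_, _, e⟩ <;>
    rcases bs_cases u j with ⟨_, b⟩ | ⟨_, b⟩ <;> rw [e, b] <;> decide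

theorem sum_bs (u : GolayPt → ZMod 2) : ∑ j, bs u j = 2 * (support₂ u).card - 24 := by
  have h1 : ∀ j, bs u j = (if j ∈ support₂ u then 2 else 0) - 1 := by
    intro j
    unfold bs
    by_cases h : u j = 1
    · rw [if_pos h, if_pos ((mem_support₂ u j).mpr h)]; rfl
    · rw [if_neg h, if_neg (fun h' => h ((mem_support₂ u j).mp h'))]; rfl
  rw [Finset.sum_congr rfl (fun j _ => h1 j), Finset.sum_sub_distrib, sum_ind, Finset.sum_const,
    Finset.card_univ, card_golayPt]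
  ring

theorem od_sum_dvd (u : GolayPt → ZMod 2) (T5 T3 : Finset GolayPt) (hd : Disjoint T5 T3) :
    (8 : ℤ) ∣ ∑ j, od u T5 T3 j - (2 * (support₂ u).card - 24) - 4 * (T5.card + T3.card) := by
  have h1 : ∑ j, od u T5 T3 j - (2 * (support₂ u).card - 24) - 4 * (T5.card + T3.card) =
      ∑ j, (od u T5 T3 j - bs u j - ((if j ∈ T5 then 4 else 0) + (if j ∈ T3 then 4 else 0))) := by
    rw [Finset.sum_sub_distrib, Finset.sum_sub_distrib, Finset.sum_add_distrib, sum_ind, sum_ind,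
      sum_bs]
    ring
  rw [h1]
  apply Finset.dvd_sum
  intro j _
  rcases od_val u T5 T3 hd j with ⟨h1, h2, e⟩ | ⟨h1, h2, e⟩ | ⟨h1, h2, e⟩ <;>
    rcases bs_cases u j with ⟨_, b⟩ | ⟨_, b⟩
  · rw [e, b, if_pos h1, if_neg h2]; decide
  · rw [e, b, if_pos h1, if_neg h2]; decide
  · rw [e, b, if_neg h1, if_pos h2]; decide
  · rw [e, b, if_neg h1, if_pos h2]; decide
  · rw [e, b, if_neg h1, if_neg h2]; decide
  · rw [e, b, if_neg h1, if_neg h2]; decide

theorem od_mem (u : GolayPt → ZMod 2) (T5 T3 : Finset GolayPt) (hu : u ∈ golayCode)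
    (hd : Disjoint T5 T3) (hodd : Odd (T5.card + T3.card)) : od u T5 T3 ∈ leechSet := by
  apply mem_of_odd
  · exact od_odd u T5 T3 hd
  · rw [od_class u T5 T3 hd]; exact hu
  · obtain ⟨q, hq⟩ := Cfsg.Agent.Lib.Helper8_GolayEven.four_dvd_card u hu
    obtain ⟨k, hk⟩ := hodd
    obtain ⟨r, hr⟩ := od_sum_dvd u T5 T3 hd
    have hk' : ((T5.card : ℤ) + T3.card) = 2 * k + 1 := by exact_mod_cast hk
    rw [hq, hk'] at hr
    push_cast at hr
    unfold Int.ModEq
    omega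

theorem od_inj {u u' : GolayPt → ZMod 2} {T5 T3 T5' T3' : Finset GolayPt}
    (hd : Disjoint T5 T3) (hd' : Disjoint T5' T3') (he : od u T5 T3 = od u' T5' T3') :
    u = u' ∧ T5 = T5' ∧ T3 = T3' := by
  refine ⟨by rw [← od_class u T5 T3 hd, he, od_class u' T5' T3' hd'], ?_, ?_⟩
  · ext j
    have h := od_sq u T5 T3 hd j
    rw [he, od_sq u' T5' T3' hd' j] at h
    by_cases h1 : j ∈ T5 <;> by_cases h2 : j ∈ T5' <;> by_cases h3 : j ∈ T3 <;>
      by_cases h4 : j ∈ T3' <;>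
      simp only [h1, h2, h3, h4, if_true, if_false] at h ⊢ <;> omega
  · ext j
    have h := od_sq u T5 T3 hd j
    rw [he, od_sq u' T5' T3' hd' j] at h
    by_cases h1 : j ∈ T5 <;> by_cases h2 : j ∈ T5' <;> by_cases h3 : j ∈ T3 <;>
      by_cases h4 : j ∈ T3' <;>
      simp only [h1, h2, h3, h4, if_true, if_false] at h ⊢ <;> omega

/-! ### recognising odd shapes -/

/-- The coordinates `±5`. -/
def T5 (x : GolayPt → ℤ) : Finset GolayPt := Finset.univ.filter (fun i => x i ^ 2 = 25)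

/-- The coordinates `±3`. -/
def T3 (x : GolayPt → ℤ) : Finset GolayPt := Finset.univ.filter (fun i => x i ^ 2 = 9)

theorem mem_T5 (x : GolayPt → ℤ) (j : GolayPt) : j ∈ T5 x ↔ x j ^ 2 = 25 := by
  unfold T5; rw [Finset.mem_filter]; exact ⟨fun h => h.2, fun h => ⟨Finset.mem_univ j, h⟩⟩

theorem mem_T3 (x : GolayPt → ℤ) (j : GolayPt) : j ∈ T3 x ↔ x j ^ 2 = 9 := by
  unfold T3; rw [Finset.mem_filter]; exact ⟨fun h => h.2, fun h => ⟨Finset.mem_univ j, h⟩⟩

theorem disjoint_T5_T3 (x : GolayPt → ℤ) : Disjoint (T5 x) (T3 x) := by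
  rw [Finset.disjoint_left]
  intro j h1 h2
  rw [mem_T5] at h1
  rw [mem_T3] at h2
  omega

theorem odd_pt (a : ℤ) (ha : ¬ 2 ∣ a) :
    a = 1 ∨ a = -1 ∨ a = 3 ∨ a = -3 ∨ a = 5 ∨ a = -5 ∨ 49 ≤ a ^ 2 := by
  by_cases h : 7 ≤ a ∨ a ≤ -7
  · right; right; right; right; right; right
    rcases h with h | h <;> nlinarith
  · omega

/-- An odd vector with sum of squares less than 72 is of the shape `od`. -/
theorem odd_shape (x : GolayPt → ℤ) (h2 : ∀ i, ¬ 2 ∣ x i) (hn : sqNorm x < 72) :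
    x = od (indWord (fun j => x j ≡ 1 [ZMOD 4])) (T5 x) (T3 x) ∧
    sqNorm x = 24 + 24 * (T5 x).card + 8 * (T3 x).card := by
  have hnn : ∀ j ∈ Finset.univ, 0 ≤ x j ^ 2 - 1 := by
    intro j _
    rcases odd_sq_cases (x j) (h2 j) with h | h <;> omega
  have hsum : ∑ j, (x j ^ 2 - 1) = sqNorm x - 24 := by
    rw [Finset.sum_sub_distrib, Finset.sum_const, Finset.card_univ, card_golayPt]
    rfl
  have hsmall : ∀ j, x j = 1 ∨ x j = -1 ∨ x j = 3 ∨ x j = -3 ∨ x j = 5 ∨ x j = -5 := by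
    intro j
    rcases odd_pt (x j) (h2 j) with h | h | h | h | h | h | h
    · left; exact h
    · right; left; exact h
    · right; right; left; exact h
    · right; right; right; left; exact h
    · right; right; right; right; left; exact h
    · right; right; right; right; right; exact h
    · exfalso
      have := Finset.single_le_sum hnn (Finset.mem_univ j)
      omega
  have hx : x = od (indWord (fun j => x j ≡ 1 [ZMOD 4])) (T5 x) (T3 x) := by
    funext j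
    have hu1 := indWord_eq_one_iff (fun j => x j ≡ 1 [ZMOD 4]) j
    have hu0 := indWord_eq_zero_iff (fun j => x j ≡ 1 [ZMOD 4]) j
    rcases od_val (indWord (fun j => x j ≡ 1 [ZMOD 4])) (T5 x) (T3 x) (disjoint_T5_T3 x) j with
      ⟨h1, h3, e⟩ | ⟨h1, h3, e⟩ | ⟨h1, h3, e⟩ <;>
    rcases bs_cases (indWord (fun j => x j ≡ 1 [ZMOD 4])) j with ⟨hu, b⟩ | ⟨hu, b⟩
    all_goals
      rw [e, b]
      first
        | (have hu' := hu1.mp hu)
        | (have hu' := hu0.mp hu)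
      beta_reduce at hu'
      unfold Int.ModEq at hu'
      rw [mem_T5] at h1
      rw [mem_T3] at h3
      rcases hsmall j with h | h | h | h | h | h <;> rw [h] at h1 h3 hu' ⊢ <;> omega
  refine ⟨hx, ?_⟩
  have := sqNorm_od (indWord (fun j => x j ≡ 1 [ZMOD 4])) (T5 x) (T3 x) (disjoint_T5_T3 x)
  rw [← hx] at this
  exact this

/-! ### counting even shapes -/

theorem card_parity_subsets (P : Finset GolayPt) (hP : P.Nonempty) (r : ℕ) :
    2 * (P.powerset.filter (fun N => Even (N.card + r))).card = 2 ^ P.card := by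
  have h0 := card_even_subsets P hP
  have h2 := Finset.card_filter_add_card_filter_not (s := P.powerset) (fun N => Even N.card)
  rw [Finset.card_powerset] at h2
  by_cases hr : Even r
  · have : P.powerset.filter (fun N => Even (N.card + r)) =
        P.powerset.filter (fun N => Even N.card) := by
      apply Finset.filter_congr
      intro N _
      rw [Nat.even_add]
      tauto
    rw [this]; exact h0
  · have : P.powerset.filter (fun N => Even (N.card + r)) =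
        P.powerset.filter (fun N => ¬ Even N.card) := by
      apply Finset.filter_congr
      intro N _
      rw [Nat.even_add]
      tauto
    rw [this]; omega

/-- The lattice vectors `ev P N Q N'` with `|P| = w` and `|Q| = q`. -/
def EvFam (w q : ℕ) : Set (GolayPt → ℤ) :=
  {x | ∃ P N Q N', EvOK P N Q N' ∧ P.card = w ∧ Q.card = q ∧ x = ev P N Q N'}

abbrev Par2 : Type := (_ : Finset GolayPt) × Finset GolayPt

abbrev Par4 : Type := (_ : Par2) × (Finset GolayPt × Finset GolayPt)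

def PQ (W : Finset (Finset GolayPt)) (q : ℕ) : Finset Par2 :=
  Finset.sigma (ι := Finset GolayPt) (α := fun _ => Finset GolayPt) W
    (fun P => (Pᶜ).powersetCard q)

def evPar (W : Finset (Finset GolayPt)) (q : ℕ) : Finset Par4 :=
  Finset.sigma (ι := Par2) (α := fun _ => Finset GolayPt × Finset GolayPt) (PQ W q)
    (fun pq => (pq.1.powerset.filter (fun N => Even (N.card + q))) ×ˢ pq.2.powerset)

def evMap (p : Par4) : GolayPt → ℤ := ev p.1.1 p.2.1 p.1.2 p.2.2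

theorem mem_evPar (W : Finset (Finset GolayPt)) (q : ℕ) (P N Q N' : Finset GolayPt) :
    (⟨⟨P, Q⟩, (N, N')⟩ : Par4) ∈ evPar W q ↔
      (P ∈ W ∧ Q ⊆ Pᶜ ∧ Q.card = q) ∧ ((N ⊆ P ∧ Even (N.card + q)) ∧ N' ⊆ Q) := by
  unfold evPar PQ
  rw [Finset.mem_sigma, Finset.mem_sigma, Finset.mem_product, Finset.mem_filter,
    Finset.mem_powerset, Finset.mem_powerset, Finset.mem_powersetCard]

theorem PQ_card (W : Finset (Finset GolayPt)) (w q : ℕ) (hW : ∀ P ∈ W, P.card = w) :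
    (PQ W q).card = W.card * (24 - w).choose q := by
  unfold PQ
  rw [Finset.card_sigma]
  have h : ∀ P ∈ W, ((Pᶜ).powersetCard q).card = (24 - w).choose q := by
    intro P hP
    rw [Finset.card_powersetCard, Finset.card_compl, card_golayPt, hW P hP]
  rw [Finset.sum_congr rfl h, Finset.sum_const, smul_eq_mul]

theorem evPar_card (W : Finset (Finset GolayPt)) (w q : ℕ) (hw : 0 < w)
    (hW : ∀ P ∈ W, P.card = w) :
    (evPar W q).card = W.card * (24 - w).choose q * (2 ^ (w - 1) * 2 ^ q) := by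
  unfold evPar
  rw [Finset.card_sigma]
  have h : ∀ pq ∈ PQ W q, ((pq.1.powerset.filter (fun N => Even (N.card + q))) ×ˢ
      pq.2.powerset).card = 2 ^ (w - 1) * 2 ^ q := by
    rintro ⟨P, Q⟩ hpq
    unfold PQ at hpq
    rw [Finset.mem_sigma, Finset.mem_powersetCard] at hpq
    rw [Finset.card_product, Finset.card_powerset]
    have hc : P.card = w := hW P hpq.1
    have hne : P.Nonempty := by rw [← Finset.card_pos, hc]; exact hw
    have h1 := card_parity_subsets P hne q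
    rw [hc] at h1
    have h2 : 2 ^ w = 2 * 2 ^ (w - 1) := by
      rw [← pow_succ']; congr 1; omega
    rw [h2] at h1
    show (P.powerset.filter (fun N => Even (N.card + q))).card * 2 ^ Q.card = _
    rw [Nat.eq_of_mul_eq_mul_left (by decide) h1, hpq.2.2]
  rw [Finset.sum_congr rfl h, Finset.sum_const, smul_eq_mul, PQ_card W w q hW]

theorem EvFam_eq (W : Finset (Finset GolayPt)) (w q : ℕ)
    (hW : ∀ P, P ∈ W ↔ (P ∈ supports (golayCode : Set (GolayPt → ZMod 2)) ∧ P.card = w)) :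
    EvFam w q = evMap '' (evPar W q : Set Par4) := by
  ext x
  constructor
  · rintro ⟨P, N, Q, N', hok, hP, hQ, rfl⟩
    refine ⟨⟨⟨P, Q⟩, (N, N')⟩, ?_, rfl⟩
    rw [Finset.mem_coe, mem_evPar]
    refine ⟨⟨(hW P).mpr ⟨hok.code, hP⟩, Finset.subset_compl_iff_disjoint_left.mpr hok.disj, hQ⟩,
      ⟨hok.subN, ?_⟩, hok.subN'⟩
    rw [← hQ]; exact hok.par
  · rintro ⟨⟨⟨P, Q⟩, ⟨N, N'⟩⟩, hp, rfl⟩
    rw [Finset.mem_coe, mem_evPar] at hp
    obtain ⟨⟨h1, h2, h3⟩, ⟨h4, h5⟩, h6⟩ := hp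
    refine ⟨P, N, Q, N', ⟨((hW P).mp h1).1, h4, Finset.subset_compl_iff_disjoint_left.mp h2, h6,
      ?_⟩, ((hW P).mp h1).2, h3, rfl⟩
    rw [h3]; exact h5

theorem evMap_injOn (W : Finset (Finset GolayPt)) (w q : ℕ)
    (hW : ∀ P, P ∈ W ↔ (P ∈ supports (golayCode : Set (GolayPt → ZMod 2)) ∧ P.card = w)) :
    Set.InjOn evMap (evPar W q : Set Par4) := by
  rintro ⟨⟨P, Q⟩, ⟨N, N'⟩⟩ hp ⟨⟨P2, Q2⟩, ⟨N2, N2'⟩⟩ hp2 he
  rw [Finset.mem_coe, mem_evPar] at hp hp2
  obtain ⟨⟨h1, h2, h3⟩, ⟨h4, h5⟩, h6⟩ := hp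
  obtain ⟨⟨k1, k2, k3⟩, ⟨k4, k5⟩, k6⟩ := hp2
  have ok1 : EvOK P N Q N' := ⟨((hW P).mp h1).1, h4,
    Finset.subset_compl_iff_disjoint_left.mp h2, h6, by rw [h3]; exact h5⟩
  have ok2 : EvOK P2 N2 Q2 N2' := ⟨((hW P2).mp k1).1, k4,
    Finset.subset_compl_iff_disjoint_left.mp k2, k6, by rw [k3]; exact k5⟩
  obtain ⟨e1, e2, e3, e4⟩ := ev_inj ok1 ok2 he
  subst e1; subst e2; subst e3; subst e4; rfl

theorem EvFam_ncard (W : Finset (Finset GolayPt)) (w q : ℕ) (hw : 0 < w)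
    (hW : ∀ P, P ∈ W ↔ (P ∈ supports (golayCode : Set (GolayPt → ZMod 2)) ∧ P.card = w)) :
    (EvFam w q).ncard = W.card * (24 - w).choose q * (2 ^ (w - 1) * 2 ^ q) := by
  rw [EvFam_eq W w q hW, (evMap_injOn W w q hW).ncard_image, Set.ncard_coe_finset,
    evPar_card W w q hw (fun P hP => ((hW P).mp hP).2)]

theorem EvFam_finite (W : Finset (Finset GolayPt)) (w q : ℕ)
    (hW : ∀ P, P ∈ W ↔ (P ∈ supports (golayCode : Set (GolayPt → ZMod 2)) ∧ P.card = w)) :
    (EvFam w q).Finite := by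
  rw [EvFam_eq W w q hW]; exact (Finset.finite_toSet _).image _

/-! ### counting odd shapes -/

/-- The lattice vectors `od u T5 T3` with `|T5| = a` and `|T3| = b`. -/
def OdFam (a b : ℕ) : Set (GolayPt → ℤ) :=
  {x | ∃ u T5 T3, u ∈ golayCode ∧ Disjoint T5 T3 ∧ T5.card = a ∧ T3.card = b ∧ x = od u T5 T3}

def TT (a b : ℕ) : Finset Par2 :=
  Finset.sigma (ι := Finset GolayPt) (α := fun _ => Finset GolayPt)
    (Finset.powersetCard a Finset.univ) (fun T => (Tᶜ).powersetCard b)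

theorem mem_TT (a b : ℕ) (T5 T3 : Finset GolayPt) :
    (⟨T5, T3⟩ : Par2) ∈ TT a b ↔ T5.card = a ∧ T3 ⊆ T5ᶜ ∧ T3.card = b := by
  unfold TT
  rw [Finset.mem_sigma, Finset.mem_powersetCard, Finset.mem_powersetCard]
  constructor
  · rintro ⟨⟨_, h1⟩, h2, h3⟩; exact ⟨h1, h2, h3⟩
  · rintro ⟨h1, h2, h3⟩; exact ⟨⟨Finset.subset_univ _, h1⟩, h2, h3⟩

theorem TT_card (a b : ℕ) : (TT a b).card = (24).choose a * (24 - a).choose b := by
  unfold TT
  rw [Finset.card_sigma]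
  have h : ∀ T ∈ Finset.powersetCard a (Finset.univ : Finset GolayPt),
      ((Tᶜ).powersetCard b).card = (24 - a).choose b := by
    intro T hT
    rw [Finset.card_powersetCard, Finset.card_compl, card_golayPt,
      (Finset.mem_powersetCard.mp hT).2]
  rw [Finset.sum_congr rfl h, Finset.sum_const, smul_eq_mul, Finset.card_powersetCard,
    Finset.card_univ, card_golayPt]

def odMap (p : ↥golayCode × Par2) : GolayPt → ℤ := od p.1.1 p.2.1 p.2.2

theorem OdFam_eq (a b : ℕ) :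
    OdFam a b = odMap '' ((Set.univ : Set ↥golayCode) ×ˢ (TT a b : Set Par2)) := by
  ext x
  constructor
  · rintro ⟨u, T5, T3, hu, hd, h5, h3, rfl⟩
    refine ⟨(⟨u, hu⟩, ⟨T5, T3⟩), ⟨Set.mem_univ _, ?_⟩, rfl⟩
    rw [Finset.mem_coe, mem_TT]
    exact ⟨h5, Finset.subset_compl_iff_disjoint_left.mpr hd, h3⟩
  · rintro ⟨⟨⟨u, hu⟩, ⟨T5, T3⟩⟩, ⟨_, hp⟩, rfl⟩
    rw [Finset.mem_coe, mem_TT] at hp
    exact ⟨u, T5, T3, hu, Finset.subset_compl_iff_disjoint_left.mp hp.2.1, hp.1, hp.2.2, rfl⟩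

theorem odMap_injOn (a b : ℕ) :
    Set.InjOn odMap ((Set.univ : Set ↥golayCode) ×ˢ (TT a b : Set Par2)) := by
  rintro ⟨⟨u, hu⟩, ⟨T5, T3⟩⟩ ⟨_, hp⟩ ⟨⟨u', hu'⟩, ⟨T5', T3'⟩⟩ ⟨_, hp'⟩ he
  rw [Finset.mem_coe, mem_TT] at hp hp'
  obtain ⟨e1, e2, e3⟩ := od_inj (Finset.subset_compl_iff_disjoint_left.mp hp.2.1)
    (Finset.subset_compl_iff_disjoint_left.mp hp'.2.1) he
  subst e1; subst e2; subst e3; rfl

theorem OdFam_ncard (a b : ℕ) :
    (OdFam a b).ncard = 4096 * ((24).choose a * (24 - a).choose b) := by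
  rw [OdFam_eq, (odMap_injOn a b).ncard_image, Set.ncard_prod, Set.ncard_univ,
    Cfsg.Agent.Lib.Helper27_GolayLike.card_golayCode, Set.ncard_coe_finset, TT_card]

theorem OdFam_finite (a b : ℕ) : (OdFam a b).Finite := by
  rw [OdFam_eq]
  exact (Set.finite_univ.prod (Finset.finite_toSet _)).image _

/-! ### membership of the families -/

theorem EvFam_sub (w q : ℕ) (x : GolayPt → ℤ) (hx : x ∈ EvFam w q) :
    x ∈ leechLattice ∧ sqNorm x = 4 * w + 16 * q := by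
  obtain ⟨P, N, Q, N', hok, hP, hQ, rfl⟩ := hx
  refine ⟨(mem_leechLattice_iff _).mpr (ev_mem hok), ?_⟩
  rw [sqNorm_ev P N Q N' hok.disj, hP, hQ]

theorem OdFam_sub (a b : ℕ) (hab : Odd (a + b)) (x : GolayPt → ℤ) (hx : x ∈ OdFam a b) :
    x ∈ leechLattice ∧ sqNorm x = 24 + 24 * a + 8 * b := by
  obtain ⟨u, T5, T3, hu, hd, h5, h3, rfl⟩ := hx
  refine ⟨(mem_leechLattice_iff _).mpr (od_mem u T5 T3 hu hd (by rw [h5, h3]; exact hab)), ?_⟩
  rw [sqNorm_od u T5 T3 hd, h5, h3]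

/-- Vectors of the even families have even coordinates, those of the odd families odd ones. -/
theorem EvFam_even (w q : ℕ) (x : GolayPt → ℤ) (hx : x ∈ EvFam w q) (j : GolayPt) : 2 ∣ x j := by
  obtain ⟨P, N, Q, N', hok, _, _, rfl⟩ := hx
  rcases ev_val P N Q N' hok.disj j with ⟨_, _, _, e⟩ | ⟨_, _, _, e⟩ | ⟨_, _, _, e⟩ |
    ⟨_, _, _, e⟩ | ⟨_, _, e⟩ <;> rw [e] <;> decide

theorem OdFam_odd (a b : ℕ) (x : GolayPt → ℤ) (hx : x ∈ OdFam a b) (j : GolayPt) :
    ¬ 2 ∣ x j := by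
  obtain ⟨u, T5, T3, _, hd, _, _, rfl⟩ := hx
  exact od_odd u T5 T3 hd j

theorem disjoint_Ev_Od (w q a b : ℕ) : Disjoint (EvFam w q) (OdFam a b) := by
  rw [Set.disjoint_left]
  intro x h1 h2
  exact OdFam_odd a b x h2 none (EvFam_even w q x h1 none)

theorem disjoint_Ev_Ev (w q w' q' : ℕ) (h : w ≠ w' ∨ q ≠ q') :
    Disjoint (EvFam w q) (EvFam w' q') := by
  rw [Set.disjoint_left]
  rintro x ⟨P, N, Q, N', hok, hP, hQ, rfl⟩ ⟨P2, N2, Q2, N2', hok2, hP2, hQ2, he⟩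
  obtain ⟨e1, _, e3, _⟩ := ev_inj hok hok2 he
  rw [e1] at hP
  rw [e3] at hQ
  omega

theorem disjoint_Od_Od (a b a' b' : ℕ) (h : a ≠ a' ∨ b ≠ b') :
    Disjoint (OdFam a b) (OdFam a' b') := by
  rw [Set.disjoint_left]
  rintro x ⟨u, T5, T3, _, hd, h5, h3, rfl⟩ ⟨u', T5', T3', _, hd', h5', h3', he⟩
  obtain ⟨_, e2, e3⟩ := od_inj hd hd' he
  rw [e2] at h5
  rw [e3] at h3
  omega

/-! ### auxiliary facts for the classifications -/

theorem even_lower (x : GolayPt → ℤ) (h2 : ∀ i, 2 ∣ x i) :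
    4 * ((S2 x).card : ℤ) + 16 * (S4 x).card ≤ sqNorm x := by
  have hnn : ∀ j ∈ Finset.univ, 0 ≤ excess x j := by
    intro j _
    rcases excess_cases x h2 j with h | h <;> omega
  have := Finset.sum_nonneg hnn
  rw [sum_excess] at this
  omega

/-- For an even vector with no coordinate congruent to 2 modulo 4, the sum of squares is
carried by `S4`. -/
theorem sqNorm_eq_sum_S4 (x : GolayPt → ℤ) (h2 : ∀ i, 2 ∣ x i) (hS : S2 x = ∅) :
    sqNorm x = ∑ j ∈ S4 x, x j ^ 2 := by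
  unfold sqNorm
  symm
  apply Finset.sum_subset (Finset.subset_univ _)
  intro j _ hj
  have h2' : j ∉ S2 x := by rw [hS]; exact Finset.notMem_empty j
  rw [mem_S2] at h2'
  rw [mem_S4] at hj
  have h4 : 4 ∣ x j := by
    have := h2 j
    unfold Int.ModEq at h2'
    omega
  have h0 : x j = 0 := by
    by_contra h'
    exact hj ⟨h4, h'⟩
  rw [h0]; rfl

theorem octFinset_spec (P : Finset GolayPt) :
    P ∈ Cfsg.Agent.Lib.Helper26_Golay.octFinset ↔
      (P ∈ supports (golayCode : Set (GolayPt → ZMod 2)) ∧ P.card = 8) :=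
  Cfsg.Agent.Lib.Helper26_Golay.mem_octFinset_iff P

theorem dodFinset_spec (P : Finset GolayPt) :
    P ∈ Cfsg.Agent.Lib.Helper26_Golay.dodFinset ↔
      (P ∈ supports (golayCode : Set (GolayPt → ZMod 2)) ∧ P.card = 12) :=
  Cfsg.Agent.Lib.Helper26_Golay.mem_dodFinset_iff P

end Cfsg.Agent.Lib.Helper92_LeechShapes
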