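/-
Helper library (helper93): binary self-dual codes of length 24 with minimum weight ≥ 8, abstractly.
Part 1: supports, weights, and the sphere-packing count giving sextets.
-/
import Mathlib

set_option autoImplicit false
set_option linter.unusedSectionVars false

namespace Cfsg.Agent.Lib.Helper93_Code24

open Finset

variable {α : Type*} [Fintype α] [DecidableEq α]

/-- Support of a binary word. -/
def supp (u : α → ZMod 2) : Finset α := univ.filter fun i => u i ≠ 0

theorem hammingNorm_eq (u : α → ZMod 2) : hammingNorm u = (supp u).card := rfl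

theorem mem_supp (u : α → ZMod 2) (i : α) : i ∈ supp u ↔ u i = 1 := by
  unfold supp
  simp only [mem_filter, mem_univ, true_and]
  generalize u i = a
  revert a; decide

theorem notMem_supp (u : α → ZMod 2) (i : α) : i ∉ supp u ↔ u i = 0 := by
  unfold supp
  simp

theorem supp_injective : Function.Injective (supp : (α → ZMod 2) → Finset α) := by
  intro u v h
  funext i
  have h1 := mem_supp u i
  have h2 := mem_supp v i
  rw [h] at h1
  by_cases hi : i ∈ supp v
  · rw [h1.1 hi, h2.1 hi]
  · rw [← h] at hi
    have h3 := (notMem_supp u i).1 hi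
    rw [h] at hi
    have h4 := (notMem_supp v i).1 hi
    rw [h3, h4]

theorem supp_zero : supp (0 : α → ZMod 2) = ∅ := by
  unfold supp; simp

theorem supp_eq_empty_iff (u : α → ZMod 2) : supp u = ∅ ↔ u = 0 := by
  constructor
  · intro h
    apply supp_injective
    rw [h, supp_zero]
  · rintro rfl; exact supp_zero

/-- Indicator word of a set. -/
def ind (s : Finset α) : α → ZMod 2 := fun i => if i ∈ s then 1 else 0

theorem supp_ind (s : Finset α) : supp (ind s) = s := by
  ext i
  rw [mem_supp]
  unfold ind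
  by_cases h : i ∈ s <;> simp [h]

theorem ind_supp (u : α → ZMod 2) : ind (supp u) = u := by
  apply supp_injective
  rw [supp_ind]

theorem supp_add (u v : α → ZMod 2) : supp (u + v) = symmDiff (supp u) (supp v) := by
  ext i
  rw [mem_symmDiff, mem_supp, mem_supp, mem_supp, Pi.add_apply]
  generalize u i = a
  generalize v i = b
  revert a b; decide

theorem sub_eq_add' (u v : α → ZMod 2) : u - v = u + v := by
  funext i
  simp only [Pi.sub_apply, Pi.add_apply]
  generalize u i = a
  generalize v i = b
  revert a b; decide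

theorem card_symmDiff_add (s t : Finset α) :
    (symmDiff s t).card + 2 * (s ∩ t).card = s.card + t.card := by
  have h1 : symmDiff s t = (s \ t) ∪ (t \ s) := rfl
  have h2 : Disjoint (s \ t) (t \ s) := by
    rw [Finset.disjoint_left]
    intro a ha hb
    rw [mem_sdiff] at ha hb
    exact ha.2 hb.1
  rw [h1, card_union_of_disjoint h2]
  have h3 := card_sdiff_add_card_inter s t
  have h4 := card_sdiff_add_card_inter t s
  rw [inter_comm t s] at h4
  omega

theorem wt_add (u v : α → ZMod 2) :
    hammingNorm (u + v) + 2 * (supp u ∩ supp v).card = hammingNorm u + hammingNorm v := by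
  rw [hammingNorm_eq, hammingNorm_eq, hammingNorm_eq, supp_add]
  exact card_symmDiff_add _ _

theorem dot_eq_card_inter (u v : α → ZMod 2) :
    ∑ i, u i * v i = ((supp u ∩ supp v).card : ZMod 2) := by
  have : ∀ i, u i * v i = if i ∈ supp u ∩ supp v then 1 else 0 := by
    intro i
    by_cases h : i ∈ supp u ∩ supp v
    · rw [if_pos h]
      rw [mem_inter, mem_supp, mem_supp] at h
      rw [h.1, h.2]; rfl
    · rw [if_neg h]
      rw [mem_inter, not_and_or, notMem_supp, notMem_supp] at h
      rcases h with h | h <;> rw [h] <;> simp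
  simp_rw [this]
  rw [Finset.sum_ite_mem, Finset.univ_inter]
  simp

theorem even_card_inter_of_dot (u v : α → ZMod 2) (h : ∑ i, u i * v i = 0) :
    Even (supp u ∩ supp v).card := by
  rw [dot_eq_card_inter] at h
  exact (ZMod.natCast_eq_zero_iff_even).1 h


/-- Hypotheses: a self-orthogonal binary code of length 24, dimension 12, minimum weight ≥ 8. -/
structure IsGolayLike (C : Submodule (ZMod 2) (α → ZMod 2)) : Prop where
  card24 : Fintype.card α = 24
  dim : Module.finrank (ZMod 2) C = 12
  orth : ∀ v ∈ C, ∀ w ∈ C, ∑ i, v i * w i = 0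
  minwt : ∀ w ∈ C, w ≠ 0 → 8 ≤ hammingNorm w

variable {C : Submodule (ZMod 2) (α → ZMod 2)}

/-- Two distinct words of weight ≤ 4 in the same coset have weight 4 and disjoint supports. -/
theorem coset_pair (hC : IsGolayLike C) {u u' : α → ZMod 2} (hd : u - u' ∈ C) (hne : u ≠ u')
    (hu : hammingNorm u ≤ 4) (hu' : hammingNorm u' ≤ 4) :
    hammingNorm u = 4 ∧ hammingNorm u' = 4 ∧ Disjoint (supp u) (supp u') := by
  have h1 : u - u' ≠ 0 := sub_ne_zero.2 hne
  have h2 := hC.minwt _ hd h1
  rw [sub_eq_add'] at h2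
  have h3 := wt_add u u'
  have h4 : (supp u ∩ supp u').card = 0 := by omega
  refine ⟨by omega, by omega, ?_⟩
  rw [Finset.disjoint_iff_inter_eq_empty]
  exact Finset.card_eq_zero.1 h4

theorem card_wt_eq (k : ℕ) :
    (univ.filter (fun u : α → ZMod 2 => hammingNorm u = k)).card = (Fintype.card α).choose k := by
  rw [← Finset.card_univ, ← Finset.card_powersetCard]
  apply Finset.card_bij (fun u _ => supp u)
  · intro u hu
    rw [mem_filter] at hu
    rw [mem_powersetCard]
    exact ⟨subset_univ _, hu.2⟩
  · intro u _ v _ h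
    exact supp_injective h
  · intro s hs
    rw [mem_powersetCard] at hs
    refine ⟨ind s, ?_, supp_ind s⟩
    rw [mem_filter]
    refine ⟨mem_univ _, ?_⟩
    rw [hammingNorm_eq, supp_ind]
    exact hs.2

theorem card_wt_le (n : ℕ) :
    (univ.filter (fun u : α → ZMod 2 => hammingNorm u ≤ n)).card =
      ∑ k ∈ range (n + 1), (Fintype.card α).choose k := by
  have h := Finset.card_eq_sum_card_fiberwise (f := fun u : α → ZMod 2 => hammingNorm u)
    (s := univ.filter (fun u : α → ZMod 2 => hammingNorm u ≤ n)) (t := range (n + 1)) (by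
      intro u hu
      rw [Finset.mem_coe, mem_filter] at hu
      rw [Finset.mem_coe, mem_range]
      have := hu.2
      show hammingNorm u < n + 1
      omega)
  rw [h]
  apply Finset.sum_congr rfl
  intro k hk
  rw [mem_range] at hk
  rw [← card_wt_eq k]
  congr 1
  ext u
  simp only [mem_filter, mem_univ, true_and]
  constructor
  · rintro ⟨_, h2⟩; exact h2
  · intro h2; exact ⟨by omega, h2⟩

theorem card_quotient (hC : IsGolayLike C) : Nat.card ((α → ZMod 2) ⧸ C) = 4096 := by
  classical
  have h1 := Submodule.card_eq_card_quotient_mul_card C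
  have h2 : Nat.card (α → ZMod 2) = 2 ^ 24 := by
    rw [Nat.card_eq_fintype_card, Module.card_eq_pow_finrank (K := ZMod 2), ZMod.card,
      Module.finrank_fintype_fun_eq_card, hC.card24]
  have h3 : Nat.card C = 2 ^ 12 := by
    have : Fintype C := Fintype.ofFinite C
    rw [Nat.card_eq_fintype_card, Module.card_eq_pow_finrank (K := ZMod 2), ZMod.card, hC.dim]
  rw [h2, h3] at h1
  have : (2 : ℕ) ^ 24 = 2 ^ 12 * 4096 := by norm_num
  rw [this] at h1
  exact (Nat.eq_of_mul_eq_mul_left (by norm_num) h1).symm


/-- Sphere-packing count: every coset contains a word of weight ≤ 3, or exactly six words of weight ≤ 4. -/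
theorem coset_dichotomy (hC : IsGolayLike C) (w : α → ZMod 2) :
    (∃ u : α → ZMod 2, u - w ∈ C ∧ hammingNorm u ≤ 3) ∨
    {u : α → ZMod 2 | u - w ∈ C ∧ hammingNorm u ≤ 4}.ncard = 6 := by
  classical
  have : Fintype ((α → ZMod 2) ⧸ C) := Fintype.ofFinite _
  let π : (α → ZMod 2) → (α → ZMod 2) ⧸ C := Submodule.Quotient.mk
  have hπ : ∀ u v, π u = π v ↔ u - v ∈ C := fun u v => Submodule.Quotient.eq C
  set T : Finset (α → ZMod 2) := univ.filter (fun u => hammingNorm u ≤ 4) with hTdef
  set T3 : Finset (α → ZMod 2) := univ.filter (fun u => hammingNorm u ≤ 3) with hT3def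
  have hT : T.card = 12951 := by
    rw [hTdef, card_wt_le, hC.card24]; decide
  have hT3 : T3.card = 2325 := by
    rw [hT3def, card_wt_le, hC.card24]; decide
  have hQ : Fintype.card ((α → ZMod 2) ⧸ C) = 4096 := by
    rw [← Nat.card_eq_fintype_card]; exact card_quotient hC
  have memT : ∀ u, u ∈ T ↔ hammingNorm u ≤ 4 := by intro u; simp [hTdef]
  have memT3 : ∀ u, u ∈ T3 ↔ hammingNorm u ≤ 3 := by intro u; simp [hT3def]
  set A : Finset ((α → ZMod 2) ⧸ C) := T3.image π with hAdef
  have hinj : Set.InjOn π (T3 : Set (α → ZMod 2)) := by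
    intro u hu v hv huv
    rw [Finset.mem_coe, memT3] at hu hv
    by_contra hne
    have := coset_pair hC ((hπ u v).1 huv) hne (by omega) (by omega)
    omega
  have hA : A.card = 2325 := by
    rw [hAdef, Finset.card_image_of_injOn hinj, hT3]
  let fib : (α → ZMod 2) ⧸ C → Finset (α → ZMod 2) := fun q => T.filter (fun u => π u = q)
  have memfib : ∀ q u, u ∈ fib q ↔ hammingNorm u ≤ 4 ∧ π u = q := by
    intro q u; simp [fib, memT]
  have hfibA : ∀ q ∈ A, (fib q).card = 1 := by
    intro q hq
    rw [hAdef, mem_image] at hq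
    obtain ⟨u, hu, rfl⟩ := hq
    rw [memT3] at hu
    rw [Finset.card_eq_one]
    refine ⟨u, ?_⟩
    ext v
    rw [mem_singleton, memfib]
    constructor
    · rintro ⟨hv, hvu⟩
      by_contra hne
      have := coset_pair hC ((hπ v u).1 hvu) hne hv (by omega)
      omega
    · rintro rfl
      exact ⟨by omega, rfl⟩
  have hfible : ∀ q, q ∉ A → (fib q).card ≤ 6 := by
    intro q hq
    -- all elements of fib q have weight exactly 4 and pairwise disjoint supports
    have hw4 : ∀ u ∈ fib q, (supp u).card = 4 := by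
      intro u hu
      rw [memfib] at hu
      have : ¬ hammingNorm u ≤ 3 := by
        intro h3
        apply hq
        rw [hAdef, mem_image]
        exact ⟨u, (memT3 u).2 h3, hu.2⟩
      rw [← hammingNorm_eq]; omega
    have hdisj : (fib q : Set (α → ZMod 2)).PairwiseDisjoint supp := by
      intro u hu v hv hne
      rw [Finset.mem_coe, memfib] at hu hv
      exact (coset_pair hC ((hπ u v).1 (hu.2.trans hv.2.symm)) hne hu.1 hv.1).2.2
    have h1 := Finset.card_biUnion hdisj
    have h2 : ∑ u ∈ fib q, (supp u).card = 4 * (fib q).card := by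
      rw [Finset.sum_congr rfl hw4, Finset.sum_const, smul_eq_mul, mul_comm]
    have h3 : ((fib q).biUnion supp).card ≤ 24 := by
      rw [← hC.card24]; exact Finset.card_le_univ _
    omega
  have hsum : T.card = ∑ q ∈ (univ : Finset ((α → ZMod 2) ⧸ C)), (fib q).card :=
    Finset.card_eq_sum_card_fiberwise (fun u _ => mem_univ _)
  have hsplit := Finset.sum_add_sum_compl A (fun q => (fib q).card)
  have hsumA : ∑ q ∈ A, (fib q).card = 2325 := by
    rw [Finset.sum_congr rfl hfibA, Finset.sum_const, smul_eq_mul, mul_one, hA]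
  have hAc : Aᶜ.card = 1771 := by
    rw [Finset.card_compl, hQ, hA]
  have hsumAc : ∑ q ∈ Aᶜ, (fib q).card = 10626 := by
    rw [hT] at hsum
    omega
  have hmain : ∀ q, q ∉ A → (fib q).card = 6 := by
    intro q hq
    by_contra hne
    have hlt : (fib q).card < 6 := lt_of_le_of_ne (hfible q hq) hne
    have : ∑ q ∈ Aᶜ, (fib q).card < ∑ _q ∈ Aᶜ, 6 := by
      apply Finset.sum_lt_sum
      · intro i hi
        exact hfible i (mem_compl.1 hi)
      · exact ⟨q, mem_compl.2 hq, hlt⟩
    rw [Finset.sum_const, smul_eq_mul, hAc, hsumAc] at this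
    omega
  by_cases hq : π w ∈ A
  · left
    rw [hAdef, mem_image] at hq
    obtain ⟨u, hu, huw⟩ := hq
    exact ⟨u, (hπ u w).1 huw, (memT3 u).1 hu⟩
  · right
    have := hmain _ hq
    rw [← this, ← Set.ncard_coe_finset]
    congr 1
    ext u
    rw [Finset.mem_coe, memfib, Set.mem_ofPred_eq, hπ]
    tauto


theorem coset_singleton (hC : IsGolayLike C) (w u : α → ZMod 2) (hu : u - w ∈ C) (hu3 : hammingNorm u ≤ 3) :
    {u : α → ZMod 2 | u - w ∈ C ∧ hammingNorm u ≤ 4} = {u} := by
  ext v
  rw [Set.mem_ofPred_eq, Set.mem_singleton_iff]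
  constructor
  · rintro ⟨hv, hv4⟩
    by_contra hne
    have hvu : v - u ∈ C := by
      have : v - u = (v - w) - (u - w) := by abel
      rw [this]; exact C.sub_mem hv hu
    have := coset_pair hC hvu hne hv4 (by omega)
    omega
  · rintro rfl
    exact ⟨hu, by omega⟩

/-- The statement of the sextet theorem: each coset has a unique word of weight ≤ 4 (of weight ≤ 3), or exactly
six, all of weight 4 with pairwise disjoint supports. -/
theorem sextet_form (hC : IsGolayLike C) (w : α → ZMod 2) :
    (∃ u : α → ZMod 2, {u : α → ZMod 2 | u - w ∈ C ∧ hammingNorm u ≤ 4} = {u} ∧ hammingNorm u ≤ 3) ∨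
    ({u : α → ZMod 2 | u - w ∈ C ∧ hammingNorm u ≤ 4}.ncard = 6 ∧
      ∀ u ∈ {u : α → ZMod 2 | u - w ∈ C ∧ hammingNorm u ≤ 4}, hammingNorm u = 4 ∧
        ∀ u' ∈ {u : α → ZMod 2 | u - w ∈ C ∧ hammingNorm u ≤ 4}, u ≠ u' → Disjoint (supp u) (supp u')) := by
  rcases coset_dichotomy hC w with ⟨u, hu, hu3⟩ | h6
  · left
    exact ⟨u, coset_singleton hC w u hu hu3, hu3⟩
  · right
    refine ⟨h6, ?_⟩
    rintro u ⟨hu, hu4⟩
    constructor
    · by_contra hne
      have hu3 : hammingNorm u ≤ 3 := by omega
      rw [coset_singleton hC w u hu hu3, Set.ncard_singleton] at h6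
      omega
    · rintro u' ⟨hu', hu4'⟩ hne
      have huu : u - u' ∈ C := by
        have : u - u' = (u - w) - (u' - w) := by abel
        rw [this]; exact C.sub_mem hu hu'
      exact (coset_pair hC huu hne hu4 hu4').2.2

end Cfsg.Agent.Lib.Helper93_Code24
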