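import Mathlib
import Cfsg.Agent.Lib.Helper26_GolaySets
import Cfsg.Agent.Lib.Helper8_GolayEven
import Cfsg.Agent.Lib.Helper93_Code24

set_option autoImplicit false
open Cfsg

/-! `Cfsg.golayCode` satisfies the hypotheses `IsGolayLike` of helper93's abstract theory. -/

namespace Cfsg.Agent.Lib.Helper27_GolayLike

open Cfsg.Agent.Lib.Helper26_Golay Cfsg.Agent.Lib.Helper93_Code24

theorem support₂_eq_supp (x : GolayPt → ZMod 2) : support₂ x = supp x := rfl

/-- the code has 4096 words -/
theorem card_golayCode : Nat.card ↥golayCode = 4096 := by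
  have e : ↥golayCode ≃ {n : ℕ // n ∈ codeList} :=
    { toFun := fun x => ⟨enc (support₂ x.1), (mem_codeList_iff _).2 ((mem_golayCode_iff x.1).1 x.2)⟩
      invFun := fun n => ⟨wordOf n.1, (wordOf_mem_golayCode_iff n.1
        (lt_of_isCode ((mem_codeList_iff _).1 n.2))).2 ((mem_codeList_iff _).1 n.2)⟩
      left_inv := fun x => Subtype.ext (wordOf_enc_support₂ x.1)
      right_inv := fun n => Subtype.ext (by
        show enc (support₂ (wordOf n.1)) = n.1
        rw [support₂_wordOf, enc_dec _ (lt_of_isCode ((mem_codeList_iff _).1 n.2))]) }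
  rw [Nat.card_congr e]
  have : Nat.card {n : ℕ // n ∈ codeList} = codeList.toFinset.card := by
    rw [Nat.card_eq_fintype_card, ← Fintype.card_coe]
    apply Fintype.card_congr
    exact Equiv.subtypeEquivRight (fun n => by simp)
  rw [this, List.toFinset_card_of_nodup codeList_nodup, codeList_length]

theorem finrank_golayCode : Module.finrank (ZMod 2) ↥golayCode = 12 := by
  have h := card_golayCode
  have : Fintype ↥golayCode := Fintype.ofFinite _
  rw [Nat.card_eq_fintype_card, Module.card_eq_pow_finrank (K := ZMod 2), ZMod.card] at h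
  exact Nat.pow_right_injective (le_refl 2) (h.trans (by norm_num))

theorem golayCode_isGolayLike : IsGolayLike golayCode where
  card24 := by simp
  dim := finrank_golayCode
  orth := fun v hv w hw => Cfsg.Agent.Lib.Helper8_GolayEven.golay_orth v w hv hw
  minwt := by
    intro w hw hne
    have hs : support₂ w ∈ supports (golayCode : Set (GolayPt → ZMod 2)) := ⟨w, hw, rfl⟩
    have hne' : support₂ w ≠ ∅ := by
      rw [support₂_eq_supp]
      intro h
      exact hne ((supp_eq_empty_iff w).1 h)
    exact eight_le_card hs hne'

end Cfsg.Agent.Lib.Helper27_GolayLike
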