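import Cfsg.Agent.Lib.Helper7_Bits

/-!
Enumeration of `Cfsg.golayCode` by 4096 explicit bitmasks, weights of code words.
-/

set_option autoImplicit false
open Cfsg
open scoped Pointwise

namespace Cfsg.Agent.Lib.Helper7_Code

open Cfsg.Agent.Lib.Helper7_M24 Cfsg.Agent.Lib.Helper7_Bits

/-- All XOR-combinations of a list of masks. -/
def spanList : List ℕ → List ℕ
  | [] => [0]
  | b :: bs => spanList bs ++ (spanList bs).map (fun x => b ^^^ x)

theorem zero_mem_spanList (L : List ℕ) : 0 ∈ spanList L := by
  induction L with
  | nil => simp [spanList]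
  | cons b bs ih => simp [spanList, ih]

theorem xor_mem_spanList (L : List ℕ) {x y : ℕ} (hx : x ∈ spanList L) (hy : y ∈ spanList L) :
    x ^^^ y ∈ spanList L := by
  induction L generalizing x y with
  | nil =>
    simp only [spanList, List.mem_singleton] at hx hy ⊢
    subst hx; subst hy; rfl
  | cons b bs ih =>
    simp only [spanList, List.mem_append, List.mem_map] at hx hy ⊢
    rcases hx with hx | ⟨x', hx', rfl⟩ <;> rcases hy with hy | ⟨y', hy', rfl⟩
    · exact Or.inl (ih hx hy)
    · refine Or.inr ⟨x ^^^ y', ih hx hy', ?_⟩
      rw [← Nat.xor_assoc, ← Nat.xor_assoc, Nat.xor_comm b x]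
    · refine Or.inr ⟨x' ^^^ y, ih hx' hy, ?_⟩
      rw [Nat.xor_assoc]
    · refine Or.inl ?_
      have : b ^^^ x' ^^^ (b ^^^ y') = x' ^^^ y' := by
        rw [Nat.xor_assoc, ← Nat.xor_assoc x' b y', Nat.xor_comm x' b, Nat.xor_assoc b x' y',
          ← Nat.xor_assoc b b, Nat.xor_self, Nat.zero_xor]
      rw [this]
      exact ih hx' hy'

/-- The masks of the systematic basis. -/
def basisMasks : List ℕ := basis.map Prod.snd

/-- The 4096 masks of the code words. -/
def codeMasks : List ℕ := spanList basisMasks

theorem length_codeMasks : codeMasks.length = 4096 := by decide +kernel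

theorem qrMask_mem_codeMasks : ∀ t : Fin 23, qrMask t.val ∈ codeMasks := by decide +kernel

theorem fullMask_mem_codeMasks : fullMask ∈ codeMasks := by decide +kernel

theorem codeMasks_inCode : codeMasks.all inCode = true := by decide +kernel

/-- Every code word is (uniquely) given by one of the 4096 masks. -/
theorem mem_golayCode_iff (w : GolayPt → ZMod 2) :
    w ∈ golayCode ↔ ∃ n ∈ codeMasks, w = toWord n := by
  constructor
  · intro hw
    unfold golayCode at hw
    induction hw using Submodule.span_induction with
    | mem x hx =>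
      rcases hx with ⟨t, rfl⟩ | hx
      · exact ⟨qrMask t.val, qrMask_mem_codeMasks t, (toWord_qrMask t).symm⟩
      · rw [Set.mem_singleton_iff] at hx
        subst hx
        exact ⟨fullMask, fullMask_mem_codeMasks, toWord_fullMask.symm⟩
    | zero => exact ⟨0, zero_mem_spanList _, toWord_zero.symm⟩
    | add x y _ _ hx hy =>
      obtain ⟨a, ha, rfl⟩ := hx
      obtain ⟨b, hb, rfl⟩ := hy
      exact ⟨a ^^^ b, xor_mem_spanList _ ha hb, (toWord_xor a b).symm⟩
    | smul c x _ hx =>
      obtain ⟨a, ha, rfl⟩ := hx
      have hc : c = 0 ∨ c = 1 := by revert c; decide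
      rcases hc with rfl | rfl
      · exact ⟨0, zero_mem_spanList _, by rw [zero_smul, toWord_zero]⟩
      · exact ⟨a, ha, by rw [one_smul]⟩
  · rintro ⟨n, hn, rfl⟩
    apply toWord_mem_of_inCode
    have := codeMasks_inCode
    rw [List.all_eq_true] at this
    exact this n hn

/-- Number of set bits among the low 24 bits. -/
def popcount (n : ℕ) : ℕ := ((List.range 24).filter fun i => n.testBit i).length

theorem card_support₂_toWord (n : ℕ) : (support₂ (toWord n)).card = popcount n := by
  have h1 : (support₂ (toWord n)).card = ((Finset.range 24).filter fun i => n.testBit i).card := by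
    apply Finset.card_bij (fun p _ => enc p)
    · intro p hp
      rw [mem_support₂_toWord] at hp
      simp only [Finset.mem_filter, Finset.mem_range]
      exact ⟨enc_lt p, hp⟩
    · intro p _ q _ h
      exact enc_injective h
    · intro i hi
      simp only [Finset.mem_filter, Finset.mem_range] at hi
      refine ⟨dec i, ?_, enc_dec i hi.1⟩
      rw [mem_support₂_toWord, enc_dec i hi.1]
      exact hi.2
  rw [h1]
  unfold popcount
  rw [Finset.card_def]
  simp only [Finset.filter_val, Finset.range_val, Multiset.range, Multiset.filter_coe,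
    Multiset.coe_card]
  congr 1
  apply List.filter_congr
  intro x _
  simp

theorem support₂_card_eq_hammingNorm (w : GolayPt → ZMod 2) :
    (support₂ w).card = hammingNorm w := by
  unfold support₂ hammingNorm
  rfl

/-- The weights of the code words. -/
theorem codeMasks_weights :
    codeMasks.all (fun n => [0, 8, 12, 16, 24].contains (popcount n)) = true := by
  decide +kernel

/-- Nonzero code words have weight at least 8. -/
theorem codeMasks_minWeight :
    codeMasks.all (fun n => n == 0 || decide (8 ≤ popcount n)) = true := by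
  decide +kernel

theorem weight_mem (w : GolayPt → ZMod 2) (hw : w ∈ golayCode) :
    (support₂ w).card = 0 ∨ (support₂ w).card = 8 ∨ (support₂ w).card = 12 ∨
      (support₂ w).card = 16 ∨ (support₂ w).card = 24 := by
  obtain ⟨n, hn, rfl⟩ := (mem_golayCode_iff w).mp hw
  rw [card_support₂_toWord]
  have := codeMasks_weights
  rw [List.all_eq_true] at this
  have h := this n hn
  simp only [List.contains_iff_mem, List.mem_cons, List.not_mem_nil, or_false] at h
  exact h

theorem eight_le_weight (w : GolayPt → ZMod 2) (hw : w ∈ golayCode) (h0 : w ≠ 0) :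
    8 ≤ (support₂ w).card := by
  obtain ⟨n, hn, rfl⟩ := (mem_golayCode_iff w).mp hw
  rw [card_support₂_toWord]
  have := codeMasks_minWeight
  rw [List.all_eq_true] at this
  have h := this n hn
  rw [Bool.or_eq_true, beq_iff_eq, decide_eq_true_eq] at h
  rcases h with h | h
  · exfalso; apply h0; rw [h, toWord_zero]
  · exact h

end Cfsg.Agent.Lib.Helper7_Code
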