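import Cfsg.Agent.Lib.Helper7_Leech
import Cfsg.Prelude.Def_SporadicCombinatorics

/-!
Even and odd vectors of the rank-24 lattice: a vector lies in `leechSet` iff either all its
coordinates are even, the coordinates congruent to 2 modulo 4 form a code word and the coordinate
sum is divisible by 8, or all its coordinates are odd, the coordinates congruent to 1 modulo 4 form
a code word and the coordinate sum is congruent to 4 modulo 8.
-/

set_option autoImplicit false
open Cfsg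

namespace Cfsg.Agent.Lib.Helper92_LeechParity

open Cfsg.Agent.Lib.Helper7_M24 Cfsg.Agent.Lib.Helper7_Leech

theorem ind_even_aux (a k : ℤ) (ha : 2 ∣ a) :
    (if a ≡ k [ZMOD 4] then (1 : ZMod 2) else 0) =
      if k % 4 = 2 then (if a ≡ 2 [ZMOD 4] then 1 else 0)
      else if k % 4 = 0 then 1 + (if a ≡ 2 [ZMOD 4] then 1 else 0) else 0 := by
  by_cases h1 : a ≡ k [ZMOD 4] <;> by_cases h2 : a ≡ 2 [ZMOD 4] <;> by_cases h3 : k % 4 = 2 <;>
    by_cases h4 : k % 4 = 0 <;> simp only [h1, h2, h3, h4, if_true, if_false] <;>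
    first | decide | (exfalso; unfold Int.ModEq at *; omega)

theorem ind_odd_aux (a k : ℤ) (ha : ¬ 2 ∣ a) :
    (if a ≡ k [ZMOD 4] then (1 : ZMod 2) else 0) =
      if k % 4 = 1 then (if a ≡ 1 [ZMOD 4] then 1 else 0)
      else if k % 4 = 3 then 1 + (if a ≡ 1 [ZMOD 4] then 1 else 0) else 0 := by
  by_cases h1 : a ≡ k [ZMOD 4] <;> by_cases h2 : a ≡ 1 [ZMOD 4] <;> by_cases h3 : k % 4 = 1 <;>
    by_cases h4 : k % 4 = 3 <;> simp only [h1, h2, h3, h4, if_true, if_false] <;>
    first | decide | (exfalso; unfold Int.ModEq at *; omega)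

/-- The class word of an even vector. -/
theorem indWord_even (x : GolayPt → ℤ) (h2 : ∀ i, 2 ∣ x i) (k : ℤ) :
    indWord (fun i => x i ≡ k [ZMOD 4]) =
      if k % 4 = 2 then indWord (fun i => x i ≡ 2 [ZMOD 4])
      else if k % 4 = 0 then 1 + indWord (fun i => x i ≡ 2 [ZMOD 4]) else 0 := by
  funext i
  have h := ind_even_aux (x i) k (h2 i)
  unfold indWord
  by_cases h3 : k % 4 = 2
  · rw [if_pos h3] at h ⊢; exact h
  · rw [if_neg h3] at h ⊢
    by_cases h4 : k % 4 = 0
    · rw [if_pos h4] at h ⊢; exact h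
    · rw [if_neg h4] at h ⊢; exact h

/-- The class word of an odd vector. -/
theorem indWord_odd (x : GolayPt → ℤ) (h2 : ∀ i, ¬ 2 ∣ x i) (k : ℤ) :
    indWord (fun i => x i ≡ k [ZMOD 4]) =
      if k % 4 = 1 then indWord (fun i => x i ≡ 1 [ZMOD 4])
      else if k % 4 = 3 then 1 + indWord (fun i => x i ≡ 1 [ZMOD 4]) else 0 := by
  funext i
  have h := ind_odd_aux (x i) k (h2 i)
  unfold indWord
  by_cases h3 : k % 4 = 1
  · rw [if_pos h3] at h ⊢; exact h
  · rw [if_neg h3] at h ⊢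
    by_cases h4 : k % 4 = 3
    · rw [if_pos h4] at h ⊢; exact h
    · rw [if_neg h4] at h ⊢; exact h

/-- An even vector whose coordinates congruent to 2 modulo 4 form a code word and whose coordinate
sum is divisible by 8 lies in `leechSet`. -/
theorem mem_of_even (x : GolayPt → ℤ) (h2 : ∀ i, 2 ∣ x i)
    (hC : indWord (fun i => x i ≡ 2 [ZMOD 4]) ∈ golayCode) (hs : 8 ∣ ∑ i, x i) :
    x ∈ leechSet := by
  rw [mem_leechSet_iff]
  refine ⟨0, fun i => ?_, ?_, fun k => ?_⟩
  · exact Int.modEq_zero_iff_dvd.mpr (h2 i)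
  · rw [mul_zero]; exact Int.modEq_zero_iff_dvd.mpr hs
  · rw [indWord_even x h2 k]
    by_cases h3 : k % 4 = 2
    · rw [if_pos h3]; exact hC
    · rw [if_neg h3]
      by_cases h4 : k % 4 = 0
      · rw [if_pos h4]; exact golayCode.add_mem one_mem hC
      · rw [if_neg h4]; exact golayCode.zero_mem

/-- An odd vector whose coordinates congruent to 1 modulo 4 form a code word and whose coordinate
sum is congruent to 4 modulo 8 lies in `leechSet`. -/
theorem mem_of_odd (x : GolayPt → ℤ) (h2 : ∀ i, ¬ 2 ∣ x i)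
    (hC : indWord (fun i => x i ≡ 1 [ZMOD 4]) ∈ golayCode) (hs : ∑ i, x i ≡ 4 [ZMOD 8]) :
    x ∈ leechSet := by
  rw [mem_leechSet_iff]
  refine ⟨1, fun i => ?_, ?_, fun k => ?_⟩
  · have := h2 i
    unfold Int.ModEq; omega
  · rw [mul_one]; exact hs
  · rw [indWord_odd x h2 k]
    by_cases h3 : k % 4 = 1
    · rw [if_pos h3]; exact hC
    · rw [if_neg h3]
      by_cases h4 : k % 4 = 3
      · rw [if_pos h4]; exact golayCode.add_mem one_mem hC
      · rw [if_neg h4]; exact golayCode.zero_mem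

/-- The two kinds of vectors of `leechSet`. -/
theorem even_or_odd_of_mem (x : GolayPt → ℤ) (hx : x ∈ leechSet) :
    ((∀ i, 2 ∣ x i) ∧ indWord (fun i => x i ≡ 2 [ZMOD 4]) ∈ golayCode ∧ 8 ∣ ∑ i, x i) ∨
    ((∀ i, ¬ 2 ∣ x i) ∧ indWord (fun i => x i ≡ 1 [ZMOD 4]) ∈ golayCode ∧
      ∑ i, x i ≡ 4 [ZMOD 8]) := by
  rw [mem_leechSet_iff] at hx
  obtain ⟨m, h1, h2, h3⟩ := hx
  by_cases hm : 2 ∣ m
  · left
    refine ⟨fun i => ?_, h3 2, ?_⟩
    · have := h1 i
      unfold Int.ModEq at this; omega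
    · unfold Int.ModEq at h2; omega
  · right
    refine ⟨fun i => ?_, h3 1, ?_⟩
    · have := h1 i
      unfold Int.ModEq at this; omega
    · unfold Int.ModEq at h2 ⊢; omega

end Cfsg.Agent.Lib.Helper92_LeechParity
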