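import Mathlib
import Cfsg.Agent.S0394
import Cfsg.Agent.Lib.Helper26_LeechDot
import Cfsg.Agent.Lib.Helper26_SubsetCounts
import Cfsg.Agent.Lib.Helper92_LeechShapes

set_option autoImplicit false
set_option linter.constructorNameAsVariable false
open Cfsg

namespace Cfsg.Agent.Lib.Helper26_Leech

open Cfsg.Agent.Lib.Helper26_Golay Cfsg.Agent.S0394

section generic

variable {α : Type*} [DecidableEq α]

theorem filter_inter_eq_image (P X Y : Finset α) (hX : X ⊆ P) (hY : Y ⊆ X) :
    P.powerset.filter (fun N => N ∩ X = Y) = (P \ X).powerset.image (fun M => M ∪ Y) := by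
  ext N
  simp only [Finset.mem_filter, Finset.mem_powerset, Finset.mem_image]
  constructor
  · rintro ⟨hNP, hNX⟩
    refine ⟨N \ X, Finset.sdiff_subset_sdiff hNP (le_refl X), ?_⟩
    rw [← hNX]
    exact Finset.sdiff_union_inter N X
  · rintro ⟨M, hM, rfl⟩
    refine ⟨Finset.union_subset (hM.trans Finset.sdiff_subset) (hY.trans hX), ?_⟩
    rw [Finset.union_inter_distrib_right]
    have h1 : M ∩ X = ∅ := by
      rw [← Finset.disjoint_iff_inter_eq_empty]
      exact Finset.disjoint_of_subset_left hM Finset.sdiff_disjoint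
    rw [h1, Finset.empty_union, Finset.inter_eq_left.mpr hY]

theorem union_injOn (P X Y : Finset α) (hY : Y ⊆ X) :
    Set.InjOn (fun M => M ∪ Y) ((P \ X).powerset : Set (Finset α)) := by
  intro M hM M' hM' h
  rw [Finset.mem_coe, Finset.mem_powerset] at hM hM'
  have key : ∀ K : Finset α, K ⊆ P \ X → (K ∪ Y) \ X = K := by
    intro K hK
    rw [Finset.union_sdiff_distrib, Finset.sdiff_eq_empty_iff_subset.mpr hY, Finset.union_empty]
    exact Finset.sdiff_eq_self_of_disjoint
      (Finset.disjoint_of_subset_left hK Finset.sdiff_disjoint)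
  have h' : (M ∪ Y) \ X = (M' ∪ Y) \ X := by
    have : M ∪ Y = M' ∪ Y := h
    rw [this]
  rw [key M hM, key M' hM'] at h'
  exact h'

theorem card_filter_inter (P X Y : Finset α) (hX : X ⊆ P) (hY : Y ⊆ X) :
    (P.powerset.filter (fun N => N ∩ X = Y)).card = 2 ^ (P \ X).card := by
  rw [filter_inter_eq_image P X Y hX hY, Finset.card_image_of_injOn (union_injOn P X Y hY),
    Finset.card_powerset]

/-- Counting through a fibre map into the subsets of `X`. -/
theorem card_filter_factor (S : Finset (Finset α)) (X : Finset α) (q : Finset α → Prop)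
    [DecidablePred q] (m : ℕ)
    (hS : ∀ Y ∈ X.powerset, (S.filter (fun N => N ∩ X = Y)).card = m) :
    (S.filter (fun N => q (N ∩ X))).card = (X.powerset.filter q).card * m := by
  rw [Finset.card_eq_sum_card_fiberwise (f := fun N => N ∩ X) (t := X.powerset)]
  · have h : ∀ Y ∈ X.powerset,
        ((S.filter (fun N => q (N ∩ X))).filter (fun N => N ∩ X = Y)).card =
          if q Y then m else 0 := by
      intro Y hY
      by_cases hq : q Y
      · rw [if_pos hq, ← hS Y hY]
        congr 1
        ext N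
        simp only [Finset.mem_filter]
        constructor
        · rintro ⟨⟨h1, _⟩, h3⟩; exact ⟨h1, h3⟩
        · rintro ⟨h1, h3⟩; exact ⟨⟨h1, by rw [h3]; exact hq⟩, h3⟩
      · rw [if_neg hq, Finset.card_eq_zero, Finset.filter_eq_empty_iff]
        rintro N hN h3
        rw [Finset.mem_filter] at hN
        rw [h3] at hN
        exact hq hN.2
    rw [Finset.sum_congr rfl h, Finset.sum_ite, Finset.sum_const, Finset.sum_const_zero,
      smul_eq_mul, add_zero]
  · intro N _
    show N ∩ X ∈ (X.powerset : Set (Finset α))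
    rw [Finset.mem_coe, Finset.mem_powerset]
    exact Finset.inter_subset_right

end generic

theorem filter_even_inter_eq_image (P X Y : Finset GolayPt) (hX : X ⊆ P) (hY : Y ⊆ X) :
    (P.powerset.filter (fun N => Even N.card)).filter (fun N => N ∩ X = Y) =
      ((P \ X).powerset.filter (fun M => Even (M.card + Y.card))).image (fun M => M ∪ Y) := by
  have hdisj : ∀ M ⊆ P \ X, Disjoint M Y := fun M hM =>
    Finset.disjoint_of_subset_left hM
      (Finset.disjoint_of_subset_right hY Finset.sdiff_disjoint)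
  have h0 := filter_inter_eq_image P X Y hX hY
  have h0' : ∀ N, (N ∈ P.powerset ∧ N ∩ X = Y) ↔
      N ∈ (P \ X).powerset.image (fun M => M ∪ Y) := by
    intro N
    rw [← h0, Finset.mem_filter]
  ext N
  rw [Finset.mem_filter, Finset.mem_filter, and_assoc, and_comm (a := Even N.card), ← and_assoc,
    h0' N]
  simp only [Finset.mem_image, Finset.mem_filter, Finset.mem_powerset]
  constructor
  · rintro ⟨⟨M, hM, rfl⟩, hE⟩
    refine ⟨M, ⟨hM, ?_⟩, rfl⟩
    rwa [Finset.card_union_of_disjoint (hdisj M hM)] at hE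
  · rintro ⟨M, ⟨hM, hE⟩, rfl⟩
    refine ⟨⟨M, hM, rfl⟩, ?_⟩
    rwa [Finset.card_union_of_disjoint (hdisj M hM)]

theorem card_filter_even_inter (P X Y : Finset GolayPt) (hX : X ⊆ P) (hY : Y ⊆ X)
    (hne : (P \ X).Nonempty) :
    2 * ((P.powerset.filter (fun N => Even N.card)).filter (fun N => N ∩ X = Y)).card =
      2 ^ (P \ X).card := by
  rw [filter_even_inter_eq_image P X Y hX hY, Finset.card_image_of_injOn]
  · exact Cfsg.Agent.Lib.Helper92_LeechShapes.card_parity_subsets (P \ X) hne Y.card
  · exact (union_injOn P X Y hY).mono (by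
      intro M hM
      rw [Finset.mem_coe, Finset.mem_filter] at hM
      exact Finset.mem_coe.mpr hM.1)

def pa : GolayPt := pt 4
def pb : GolayPt := pt 13

theorem pa_ne_pb : pa ≠ pb := by decide

/-- The fixed minimal vector `4 e_a - 4 e_b`. -/
def v0 : GolayPt → ℤ := sgn 4 {pa, pb} {pb}

theorem v0_apply (i : GolayPt) :
    v0 i = (if i = pa then 4 else 0) + (if i = pb then -4 else 0) := by
  unfold v0 sgn
  by_cases h1 : i = pa
  · subst h1
    simp [pa_ne_pb]
  · by_cases h2 : i = pb
    · subst h2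
      simp [pa_ne_pb.symm]
    · simp [h1, h2]

theorem dotInt_v0 (w : GolayPt → ℤ) : dotInt v0 w = 4 * w pa - 4 * w pb := by
  unfold dotInt
  have h : ∀ i, v0 i * w i = (if i = pa then 4 * w i else 0) + (if i = pb then -4 * w i else 0) := by
    intro i
    rw [v0_apply]
    split_ifs <;> ring
  rw [Finset.sum_congr rfl (fun i _ => h i), Finset.sum_add_distrib,
    Finset.sum_ite_eq' Finset.univ pa, Finset.sum_ite_eq' Finset.univ pb,
    if_pos (Finset.mem_univ _), if_pos (Finset.mem_univ _)]
  ring

theorem sgn_inter (c : ℤ) (P N Z : Finset GolayPt) (x : GolayPt) (hx : x ∈ Z) :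
    sgn c P N x = sgn c P (N ∩ (P ∩ Z)) x := by
  unfold sgn
  by_cases h : x ∈ P
  · rw [if_pos h, if_pos h]
    by_cases h' : x ∈ N
    · rw [if_pos h', if_pos]
      exact Finset.mem_inter.mpr ⟨h', Finset.mem_inter.mpr ⟨h, hx⟩⟩
    · rw [if_neg h', if_neg]
      intro h''
      exact h' (Finset.mem_inter.mp h'').1
  · rw [if_neg h, if_neg h]

theorem dot_sgn_inter (c : ℤ) (P N : Finset GolayPt) :
    dotInt v0 (sgn c P N) = dotInt v0 (sgn c P (N ∩ (P ∩ {pa, pb}))) := by
  rw [dotInt_v0, dotInt_v0, ← sgn_inter c P N {pa, pb} pa (by simp),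
    ← sgn_inter c P N {pa, pb} pb (by simp)]

theorem sum_powerset_single {α M : Type*} [DecidableEq α] [AddCommMonoid M] (a : α)
    (f : Finset α → M) : ∑ t ∈ ({a} : Finset α).powerset, f t = f ∅ + f {a} := by
  have h : ({a} : Finset α) = insert a ∅ := rfl
  rw [h, Finset.sum_powerset_insert (Finset.notMem_empty a), Finset.powerset_empty,
    Finset.sum_singleton, Finset.sum_singleton]

theorem sum_powerset_pair {α M : Type*} [DecidableEq α] [AddCommMonoid M] (a b : α) (h : a ≠ b)
    (f : Finset α → M) :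
    ∑ t ∈ ({a, b} : Finset α).powerset, f t = (f ∅ + f {b}) + (f {a} + f {a, b}) := by
  have hne : a ∉ ({b} : Finset α) := by simp [h]
  rw [Finset.sum_powerset_insert hne, sum_powerset_single, sum_powerset_single]
  rfl

/-- Number of sign patterns on `P ∩ {a, b}` giving inner product `k`. -/
def tab (c k : ℤ) (ia ib : Bool) : ℕ :=
  match ia, ib with
  | true, true => (if 4 * c - 4 * c = k then 1 else 0) + (if 4 * c - 4 * (-c) = k then 1 else 0) +
      ((if 4 * (-c) - 4 * c = k then 1 else 0) + (if 4 * (-c) - 4 * (-c) = k then 1 else 0))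
  | true, false => (if 4 * c - 4 * 0 = k then 1 else 0) + (if 4 * (-c) - 4 * 0 = k then 1 else 0)
  | false, true => (if 4 * 0 - 4 * c = k then 1 else 0) + (if 4 * 0 - 4 * (-c) = k then 1 else 0)
  | false, false => if 4 * 0 - 4 * 0 = k then 1 else 0

theorem cntY_both (c k : ℤ) (P : Finset GolayPt) (ha : pa ∈ P) (hb : pb ∈ P) :
    ((P ∩ {pa, pb}).powerset.filter (fun Y => dotInt v0 (sgn c P Y) = k)).card =
      tab c k true true := by
  have hX : P ∩ {pa, pb} = {pa, pb} := by
    rw [Finset.inter_eq_right]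
    intro x hx
    rw [Finset.mem_insert, Finset.mem_singleton] at hx
    rcases hx with rfl | rfl <;> assumption
  rw [hX, Finset.card_filter, sum_powerset_pair pa pb pa_ne_pb]
  simp only [dotInt_v0]
  simp [sgn, ha, hb, pa_ne_pb, pa_ne_pb.symm]
  unfold tab
  ring_nf

theorem cntY_a (c k : ℤ) (P : Finset GolayPt) (ha : pa ∈ P) (hb : pb ∉ P) :
    ((P ∩ {pa, pb}).powerset.filter (fun Y => dotInt v0 (sgn c P Y) = k)).card =
      tab c k true false := by
  have hX : P ∩ {pa, pb} = {pa} := by
    ext x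
    rw [Finset.mem_inter, Finset.mem_insert, Finset.mem_singleton, Finset.mem_singleton]
    constructor
    · rintro ⟨h1, rfl | rfl⟩
      · rfl
      · exact absurd h1 hb
    · rintro rfl
      exact ⟨ha, Or.inl rfl⟩
  rw [hX, Finset.card_filter, sum_powerset_single pa]
  simp only [dotInt_v0]
  simp [sgn, ha, hb]
  unfold tab
  ring_nf

theorem cntY_b (c k : ℤ) (P : Finset GolayPt) (ha : pa ∉ P) (hb : pb ∈ P) :
    ((P ∩ {pa, pb}).powerset.filter (fun Y => dotInt v0 (sgn c P Y) = k)).card =
      tab c k false true := by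
  have hX : P ∩ {pa, pb} = {pb} := by
    ext x
    rw [Finset.mem_inter, Finset.mem_insert, Finset.mem_singleton]
    constructor
    · rintro ⟨h1, rfl | rfl⟩
      · exact absurd h1 ha
      · rfl
    · rintro rfl
      exact ⟨hb, Or.inr rfl⟩
  rw [hX, Finset.card_filter, sum_powerset_single pb]
  simp only [dotInt_v0]
  simp [sgn, ha, hb]
  unfold tab
  ring_nf

theorem cntY_none (c k : ℤ) (P : Finset GolayPt) (ha : pa ∉ P) (hb : pb ∉ P) :
    ((P ∩ {pa, pb}).powerset.filter (fun Y => dotInt v0 (sgn c P Y) = k)).card =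
      tab c k false false := by
  have hX : P ∩ {pa, pb} = ∅ := by
    ext x
    rw [Finset.mem_inter, Finset.mem_insert, Finset.mem_singleton]
    constructor
    · rintro ⟨h1, rfl | rfl⟩
      · exact absurd h1 ha
      · exact absurd h1 hb
    · intro h
      exact absurd h (Finset.notMem_empty x)
  rw [hX, Finset.card_filter, Finset.powerset_empty, Finset.sum_singleton]
  simp only [dotInt_v0]
  simp [sgn, ha, hb]
  unfold tab
  ring_nf

theorem cntY (c k : ℤ) (P : Finset GolayPt) :
    ((P ∩ {pa, pb}).powerset.filter (fun Y => dotInt v0 (sgn c P Y) = k)).card =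
      tab c k (decide (pa ∈ P)) (decide (pb ∈ P)) := by
  by_cases ha : pa ∈ P <;> by_cases hb : pb ∈ P
  · rw [cntY_both c k P ha hb, decide_eq_true ha, decide_eq_true hb]
  · rw [cntY_a c k P ha hb, decide_eq_true ha, decide_eq_false hb]
  · rw [cntY_b c k P ha hb, decide_eq_false ha, decide_eq_true hb]
  · rw [cntY_none c k P ha hb, decide_eq_false ha, decide_eq_false hb]

theorem card_sdiff_X (P : Finset GolayPt) :
    (P \ (P ∩ {pa, pb})).card + (decide (pa ∈ P)).toNat + (decide (pb ∈ P)).toNat = P.card := by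
  have h1 : (P \ (P ∩ {pa, pb})).card + (P ∩ {pa, pb}).card = P.card :=
    Finset.card_sdiff_add_card_eq_card Finset.inter_subset_left
  have h2 : (P ∩ {pa, pb}).card = (decide (pa ∈ P)).toNat + (decide (pb ∈ P)).toNat := by
    rw [Finset.inter_comm, ← Finset.filter_mem_eq_inter, Finset.card_filter,
      Finset.sum_pair pa_ne_pb]
    by_cases ha : pa ∈ P <;> by_cases hb : pb ∈ P <;> simp [ha, hb]
  omega


/-! ### inner counts -/

theorem toNat_decide_le (p : Prop) [Decidable p] : (decide p).toNat ≤ 1 := Bool.toNat_le _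

theorem innerA (k : ℤ) (P : Finset GolayPt) (hP : P.card = 2) :
    (P.powerset.filter (fun N => dotInt v0 (sgn 4 P N) = k)).card =
      tab 4 k (decide (pa ∈ P)) (decide (pb ∈ P)) *
        2 ^ (2 - (decide (pa ∈ P)).toNat - (decide (pb ∈ P)).toNat) := by
  have h1 : P.powerset.filter (fun N => dotInt v0 (sgn 4 P N) = k) =
      P.powerset.filter
        (fun N => (fun Y => dotInt v0 (sgn 4 P Y) = k) (N ∩ (P ∩ {pa, pb}))) := by
    apply Finset.filter_congr
    intro N _
    rw [dot_sgn_inter]
  rw [h1, card_filter_factor P.powerset (P ∩ {pa, pb}) (fun Y => dotInt v0 (sgn 4 P Y) = k)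
    (2 ^ (P \ (P ∩ {pa, pb})).card), cntY]
  · have := card_sdiff_X P
    congr 2
    omega
  · intro Y hY
    exact card_filter_inter P _ Y Finset.inter_subset_left (Finset.mem_powerset.mp hY)

theorem innerB (k : ℤ) (P : Finset GolayPt) (hP : P.card = 8) :
    ((P.powerset.filter (fun N => Even N.card)).filter
        (fun N => dotInt v0 (sgn 2 P N) = k)).card =
      tab 2 k (decide (pa ∈ P)) (decide (pb ∈ P)) *
        2 ^ (7 - (decide (pa ∈ P)).toNat - (decide (pb ∈ P)).toNat) := by
  have h1 : (P.powerset.filter (fun N => Even N.card)).filter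
        (fun N => dotInt v0 (sgn 2 P N) = k) =
      (P.powerset.filter (fun N => Even N.card)).filter
        (fun N => (fun Y => dotInt v0 (sgn 2 P Y) = k) (N ∩ (P ∩ {pa, pb}))) := by
    apply Finset.filter_congr
    intro N _
    rw [dot_sgn_inter]
  have hc := card_sdiff_X P
  have ha := toNat_decide_le (pa ∈ P)
  have hb := toNat_decide_le (pb ∈ P)
  rw [h1, card_filter_factor (P.powerset.filter (fun N => Even N.card)) (P ∩ {pa, pb})
    (fun Y => dotInt v0 (sgn 2 P Y) = k)
    (2 ^ (7 - (decide (pa ∈ P)).toNat - (decide (pb ∈ P)).toNat)), cntY]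
  intro Y hY
  have hne : (P \ (P ∩ {pa, pb})).Nonempty := by
    rw [← Finset.card_pos]; omega
  have h2 := card_filter_even_inter P _ Y Finset.inter_subset_left (Finset.mem_powerset.mp hY) hne
  have h3 : (P \ (P ∩ {pa, pb})).card =
      (7 - (decide (pa ∈ P)).toNat - (decide (pb ∈ P)).toNat) + 1 := by omega
  rw [h3, pow_succ] at h2
  omega

/-! ### sums over tables -/

theorem sum_map_range (h : ℕ → ℕ) (n : ℕ) : ((List.range n).map h).sum = sumFold h n := by
  rw [sumFold_eq]
  induction n with
  | zero => simp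
  | succ n ih =>
    rw [Finset.sum_range_succ, ← ih, List.range_succ, List.map_append, List.sum_append]
    simp

theorem sum_tbl (tbl : ℕ → ℕ) (n : ℕ) (hnd : ((List.range n).map tbl).Nodup)
    (hlt : ∀ j < n, tbl j < 2 ^ 24) (f : Finset GolayPt → ℕ) (F : ℕ → ℕ)
    (h : ∀ j < n, f (dec (tbl j)) = F (tbl j)) :
    ∑ s ∈ (((List.range n).map tbl).map dec).toFinset, f s = sumFold (fun j => F (tbl j)) n := by
  have hnd' : (((List.range n).map tbl).map dec).Nodup := by
    apply List.Nodup.map_on _ hnd
    intro a ha b hb hab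
    obtain ⟨i, hi, rfl⟩ := List.mem_map.mp ha
    obtain ⟨j, hj, rfl⟩ := List.mem_map.mp hb
    exact dec_injOn (hlt i (List.mem_range.mp hi)) (hlt j (List.mem_range.mp hj)) hab
  rw [List.sum_toFinset f hnd', List.map_map, List.map_map, sum_map_range]
  rw [sumFold_eq, sumFold_eq]
  apply Finset.sum_congr rfl
  intro j hj
  exact h j (Finset.mem_range.mp hj)

theorem card_filter_sigma {ι : Type*} {β : ι → Type*} (s : Finset ι) (t : ∀ i, Finset (β i))
    (p : (Σ i, β i) → Prop) [DecidablePred p] :
    ((s.sigma t).filter p).card = ∑ i ∈ s, ((t i).filter (fun b => p ⟨i, b⟩)).card := by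
  have h : (s.sigma t).filter p = s.sigma (fun i => (t i).filter (fun b => p ⟨i, b⟩)) := by
    ext ⟨i, b⟩
    simp only [Finset.mem_filter, Finset.mem_sigma, and_assoc]
  rw [h, Finset.card_sigma]

theorem decide_mem_dec (n : ℕ) (p : GolayPt) : decide (p ∈ dec n) = n.testBit (idx p) := by
  rw [Bool.eq_iff_iff, decide_eq_true_iff, mem_dec]

theorem idx_pa : idx pa = 4 := by decide
theorem idx_pb : idx pb = 13 := by decide

theorem decide_pa (P : Finset GolayPt) : decide (pa ∈ P) = (enc P).testBit 4 := by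
  rw [← idx_pa, Bool.eq_iff_iff, decide_eq_true_iff, testBit_enc_idx]

theorem decide_pb (P : Finset GolayPt) : decide (pb ∈ P) = (enc P).testBit 13 := by
  rw [← idx_pb, Bool.eq_iff_iff, decide_eq_true_iff, testBit_enc_idx]

/-- Mask version of the inner count for duads. -/
def FA (k : ℤ) (n : ℕ) : ℕ :=
  tab 4 k (n.testBit 4) (n.testBit 13) * 2 ^ (2 - (n.testBit 4).toNat - (n.testBit 13).toNat)

/-- Mask version of the inner count for octads. -/
def FB (k : ℤ) (n : ℕ) : ℕ :=
  tab 2 k (n.testBit 4) (n.testBit 13) * 2 ^ (7 - (n.testBit 4).toNat - (n.testBit 13).toNat)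

theorem parA_filter_card (k : ℤ) :
    (parA.filter (fun p => dotInt v0 (sgn 4 p.1 p.2) = k)).card =
      sumFold (fun j => FA k (duadAt j)) 276 := by
  unfold parA
  rw [card_filter_sigma]
  have h1 : ∀ P ∈ Finset.powersetCard 2 (Finset.univ : Finset GolayPt),
      (P.powerset.filter (fun N => dotInt v0 (sgn 4 P N) = k)).card =
        FA k (enc P) := by
    intro P hP
    rw [innerA k P (Finset.mem_powersetCard.mp hP).2]
    unfold FA
    rw [decide_pa, decide_pb]
  rw [Finset.sum_congr rfl h1]
  have h2 : Finset.powersetCard 2 (Finset.univ : Finset GolayPt) = duadFinset := rfl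
  rw [h2, duadFinset_eq]
  apply sum_tbl duadAt 276 (nodup_map_of_increasing _ _ duad_increasing) (fun j _ => duadAt_lt j)
  intro j _
  rw [enc_dec _ (duadAt_lt j)]

theorem parB_filter_card (k : ℤ) :
    (parB.filter (fun p => dotInt v0 (sgn 2 p.1 p.2) = k)).card =
      sumFold (fun j => FB k (octAt j)) 759 := by
  unfold parB
  rw [card_filter_sigma]
  have h1 : ∀ P ∈ octFinset,
      ((P.powerset.filter (fun N => Even N.card)).filter
        (fun N => dotInt v0 (sgn 2 P N) = k)).card = FB k (enc P) := by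
    intro P hP
    rw [innerB k P ((mem_octFinset_iff P).mp hP).2]
    unfold FB
    rw [decide_pa, decide_pb]
  rw [Finset.sum_congr rfl h1]
  have hlt : ∀ j < 759, octAt j < 2 ^ 24 := fun j hj =>
    lt_of_isCode ((mem_octList_iff _).mp (List.mem_map.mpr ⟨j, List.mem_range.mpr hj, rfl⟩)).1
  unfold octFinset octList
  apply sum_tbl octAt 759 octList_nodup hlt
  intro j hj
  rw [enc_dec _ (hlt j hj)]

theorem countA_m16 : sumFold (fun j => FA (-16) (duadAt j)) 276 = 88 := by decide +kernel
theorem countA_m8 : sumFold (fun j => FA (-8) (duadAt j)) 276 = 0 := by decide +kernel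
theorem countA_0 : sumFold (fun j => FA 0 (duadAt j)) 276 = 926 := by decide +kernel
theorem countB_m16 : sumFold (fun j => FB (-16) (octAt j)) 759 = 2464 := by decide +kernel
theorem countB_m8 : sumFold (fun j => FB (-8) (octAt j)) 759 = 22528 := by decide +kernel
theorem countB_0 : sumFold (fun j => FB 0 (octAt j)) 759 = 47168 := by decide +kernel


/-! ### the odd family -/

/-- The supports of the code words, as a finite set. -/
def codeFinset : Finset (Finset GolayPt) := (codeList.map dec).toFinset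

theorem mem_codeFinset_iff (S : Finset GolayPt) : S ∈ codeFinset ↔ isCode (enc S) = true := by
  unfold codeFinset
  rw [List.mem_toFinset, List.mem_map]
  constructor
  · rintro ⟨n, hn, rfl⟩
    have := (mem_codeList_iff n).mp hn
    rwa [enc_dec n (lt_of_isCode this)]
  · intro h
    exact ⟨enc S, (mem_codeList_iff _).mpr h, dec_enc S⟩

/-- Parameters of the odd minimal vectors. -/
def parO : Finset (GolayPt × Finset GolayPt) := Finset.univ ×ˢ codeFinset

/-- The odd minimal vector of a parameter. -/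
def wO (p : GolayPt × Finset GolayPt) : GolayPt → ℤ := fO p.1 (wordOf (enc p.2))

theorem famO_eq' : famO = wO '' (parO : Set (GolayPt × Finset GolayPt)) := by
  ext x
  constructor
  · rintro ⟨i, u, hu, rfl⟩
    refine ⟨(i, support₂ u), ?_, ?_⟩
    · rw [Finset.mem_coe]
      unfold parO
      rw [Finset.mem_product]
      exact ⟨Finset.mem_univ _, (mem_codeFinset_iff _).mpr ((mem_golayCode_iff u).mp hu)⟩
    · show fO i (wordOf (enc (support₂ u))) = fO i u
      rw [wordOf_enc_support₂]
  · rintro ⟨⟨i, S⟩, hp, rfl⟩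
    rw [Finset.mem_coe] at hp
    unfold parO at hp
    rw [Finset.mem_product] at hp
    refine ⟨i, wordOf (enc S), ?_, rfl⟩
    rw [wordOf_mem_golayCode_iff _ (enc_lt _)]
    exact (mem_codeFinset_iff S).mp hp.2

theorem wO_injOn : Set.InjOn wO (parO : Set (GolayPt × Finset GolayPt)) := by
  rintro ⟨i, S⟩ _ ⟨i', S'⟩ _ h
  obtain ⟨h1, h2⟩ := fO_inj _ _ _ _ h
  have h3 : S = S' := by
    have := congrArg support₂ h2
    rwa [support₂_wordOf, support₂_wordOf, dec_enc, dec_enc] at this
  subst h1; subst h3; rfl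

/-- Entries of the odd vectors shifted by `4`, on masks. -/
def gN (ii n j : ℕ) : ℕ :=
  if j = ii then (if n.testBit j = true then 1 else 7) else (if n.testBit j = true then 5 else 3)

theorem fO_wordOf (i p : GolayPt) (n : ℕ) :
    fO i (wordOf n) p = (gN (idx i) n (idx p) : ℤ) - 4 := by
  unfold fO gN
  by_cases hpi : p = i
  · subst hpi
    rw [if_pos rfl, if_pos rfl]
    by_cases hb : n.testBit (idx p) = true
    · have hw := (wordOf_eq_one_iff n p).mpr hb
      rw [if_pos hw, if_pos hw, if_pos hb]; norm_num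
    · have hw : ¬ wordOf n p = 1 := fun h => hb ((wordOf_eq_one_iff n p).mp h)
      rw [if_neg hw, if_neg hw, if_neg hb]; norm_num
  · have hne : idx p ≠ idx i := fun h => hpi (idx_injective h)
    rw [if_neg hpi, if_neg hne]
    by_cases hb : n.testBit (idx p) = true
    · have hw := (wordOf_eq_one_iff n p).mpr hb
      rw [if_pos hw, if_pos hb]; norm_num
    · have hw : ¬ wordOf n p = 1 := fun h => hb ((wordOf_eq_one_iff n p).mp h)
      rw [if_neg hw, if_neg hb]; norm_num

/-- Mask test: inner product with `v0` equals `-4 d`. -/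
def QN (d ii n : ℕ) : Bool := gN ii n 4 + d == gN ii n 13

theorem dot_wO_iff (d : ℕ) (i : GolayPt) (n : ℕ) :
    dotInt v0 (fO i (wordOf n)) = -4 * (d : ℤ) ↔ QN d (idx i) n = true := by
  unfold QN
  rw [dotInt_v0, fO_wordOf, fO_wordOf, idx_pa, idx_pb, beq_iff_eq]
  constructor
  · intro h
    have : ((gN (idx i) n 4 + d : ℕ) : ℤ) = (gN (idx i) n 13 : ℕ) := by push_cast; linarith
    exact_mod_cast this
  · intro h
    have : ((gN (idx i) n 4 + d : ℕ) : ℤ) = (gN (idx i) n 13 : ℕ) := by rw [h]
    push_cast at this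
    linarith

theorem sum_golayPt (G : ℕ → ℕ) : ∑ i : GolayPt, G (idx i) = sumFold G 24 := by
  rw [sumFold_eq]
  apply Finset.sum_nbij' idx pt
  · intro a _; exact Finset.mem_range.mpr (idx_lt a)
  · intro b _; exact Finset.mem_univ _
  · intro a _; exact pt_idx a
  · intro b hb; exact idx_pt b (Finset.mem_range.mp hb)
  · intro a _; rfl

theorem parO_filter_card (d : ℕ) :
    (parO.filter (fun p => dotInt v0 (wO p) = -4 * (d : ℤ))).card =
      sumFold (fun ii => sumFold (fun m => if QN d ii (codeAt m) = true then 1 else 0) 4096) 24 := by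
  unfold parO
  rw [Finset.card_filter, Finset.sum_product]
  have h1 : ∀ i : GolayPt,
      (∑ S ∈ codeFinset, if dotInt v0 (wO (i, S)) = -4 * (d : ℤ) then 1 else 0) =
        sumFold (fun m => if QN d (idx i) (codeAt m) = true then 1 else 0) 4096 := by
    intro i
    rw [← Finset.card_filter, sumFold_ite_eq_countP]
    unfold codeFinset
    apply card_filter_map_dec codeList codeList_nodup
      (fun n hn => lt_of_isCode ((mem_codeList_iff n).mp hn))
    intro n hn
    have hlt := lt_of_isCode ((mem_codeList_iff n).mp hn)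
    show dotInt v0 (fO i (wordOf (enc (dec n)))) = -4 * (d : ℤ) ↔ _
    rw [enc_dec n hlt]
    exact dot_wO_iff d i n
  rw [Finset.sum_congr rfl (fun i _ => h1 i)]
  exact sum_golayPt (fun ii => sumFold (fun m => if QN d ii (codeAt m) = true then 1 else 0) 4096)

theorem countO_m16 :
    sumFold (fun ii => sumFold (fun m => if QN 4 ii (codeAt m) = true then 1 else 0) 4096) 24 =
      2048 := by decide +kernel
theorem countO_m8 :
    sumFold (fun ii => sumFold (fun m => if QN 2 ii (codeAt m) = true then 1 else 0) 4096) 24 =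
      24576 := by decide +kernel
theorem countO_0 :
    sumFold (fun ii => sumFold (fun m => if QN 0 ii (codeAt m) = true then 1 else 0) 4096) 24 =
      45056 := by decide +kernel


/-! ### assembling the census for `v0` -/

theorem injA : Set.InjOn (fun p : Par => sgn 4 p.1 p.2) (parA : Set Par) := by
  rintro ⟨P, N⟩ hp ⟨P', N'⟩ hp' h
  rw [Finset.mem_coe] at hp hp'
  unfold parA at hp hp'
  rw [Finset.mem_sigma] at hp hp'
  obtain ⟨h1, h2⟩ := sgn_inj 4 (by decide) P N P' N' (Finset.mem_powerset.mp hp.2)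
    (Finset.mem_powerset.mp hp'.2) h
  subst h1; subst h2; rfl

theorem injB : Set.InjOn (fun p : Par => sgn 2 p.1 p.2) (parB : Set Par) := by
  rintro ⟨P, N⟩ hp ⟨P', N'⟩ hp' h
  rw [Finset.mem_coe] at hp hp'
  unfold parB at hp hp'
  rw [Finset.mem_sigma] at hp hp'
  obtain ⟨h1, h2⟩ := sgn_inj 2 (by decide) P N P' N'
    (Finset.mem_powerset.mp (Finset.mem_filter.mp hp.2).1)
    (Finset.mem_powerset.mp (Finset.mem_filter.mp hp'.2).1) h
  subst h1; subst h2; rfl

theorem ncard_image_filter {β : Type*} (f : β → GolayPt → ℤ) (s : Finset β)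
    (hinj : Set.InjOn f (s : Set β)) (p : β → Prop) [DecidablePred p] :
    (f '' ((s.filter p : Finset β) : Set β)).ncard = (s.filter p).card := by
  rw [Set.InjOn.ncard_image, Set.ncard_coe_finset]
  apply hinj.mono
  intro x hx
  exact Finset.mem_coe.mpr (Finset.mem_of_mem_filter x (Finset.mem_coe.mp hx))

theorem image_filter_eq {β : Type*} (f : β → GolayPt → ℤ) (s : Finset β) (k : ℤ) :
    f '' ((s.filter (fun p => dotInt v0 (f p) = k) : Finset β) : Set β) =
      (f '' (s : Set β)) ∩ {w | dotInt v0 w = k} := by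
  ext w
  constructor
  · rintro ⟨p, hp, rfl⟩
    rw [Finset.mem_coe, Finset.mem_filter] at hp
    exact ⟨⟨p, Finset.mem_coe.mpr hp.1, rfl⟩, hp.2⟩
  · rintro ⟨⟨p, hp, rfl⟩, hd⟩
    exact ⟨p, Finset.mem_coe.mpr (Finset.mem_filter.mpr ⟨Finset.mem_coe.mp hp, hd⟩), rfl⟩

theorem census_v0_eq (k : ℤ) :
    census v0 k = (famA ∩ {w | dotInt v0 w = k}) ∪ (famB ∩ {w | dotInt v0 w = k}) ∪
      (famO ∩ {w | dotInt v0 w = k}) := by
  rw [← Set.union_inter_distrib_right, ← Set.union_inter_distrib_right, ← set_eq]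
  ext w
  constructor
  · rintro ⟨h1, h2, h3⟩
    exact ⟨⟨h1, h2⟩, h3⟩
  · rintro ⟨⟨h1, h2⟩, h3⟩
    exact ⟨h1, h2, h3⟩

theorem census_v0_ncard (k : ℤ) :
    (census v0 k).ncard =
      (parA.filter (fun p => dotInt v0 (sgn 4 p.1 p.2) = k)).card +
      (parB.filter (fun p => dotInt v0 (sgn 2 p.1 p.2) = k)).card +
      (parO.filter (fun p => dotInt v0 (wO p) = k)).card := by
  rw [census_v0_eq]
  have hA : (famA ∩ {w | dotInt v0 w = k}).Finite := famA_finite.subset Set.inter_subset_left
  have hB : (famB ∩ {w | dotInt v0 w = k}).Finite := famB_finite.subset Set.inter_subset_left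
  have hO : (famO ∩ {w | dotInt v0 w = k}).Finite := famO_finite.subset Set.inter_subset_left
  have dAB : Disjoint (famA ∩ {w | dotInt v0 w = k}) (famB ∩ {w | dotInt v0 w = k}) :=
    Set.disjoint_of_subset Set.inter_subset_left Set.inter_subset_left disj_AB
  have dABO : Disjoint ((famA ∩ {w | dotInt v0 w = k}) ∪ (famB ∩ {w | dotInt v0 w = k}))
      (famO ∩ {w | dotInt v0 w = k}) :=
    Set.disjoint_of_subset
      (Set.union_subset_union Set.inter_subset_left Set.inter_subset_left)
      Set.inter_subset_left disj_ABO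
  rw [Set.ncard_union_eq dABO (hA.union hB) hO, Set.ncard_union_eq dAB hA hB]
  have eA : (famA ∩ {w | dotInt v0 w = k}).ncard =
      (parA.filter (fun p => dotInt v0 (sgn 4 p.1 p.2) = k)).card := by
    rw [famA_eq, ← image_filter_eq (fun p : Par => sgn 4 p.1 p.2) parA k,
      ncard_image_filter _ _ injA]
  have eB : (famB ∩ {w | dotInt v0 w = k}).ncard =
      (parB.filter (fun p => dotInt v0 (sgn 2 p.1 p.2) = k)).card := by
    rw [famB_eq, ← image_filter_eq (fun p : Par => sgn 2 p.1 p.2) parB k,
      ncard_image_filter _ _ injB]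
  have eO : (famO ∩ {w | dotInt v0 w = k}).ncard =
      (parO.filter (fun p => dotInt v0 (wO p) = k)).card := by
    rw [famO_eq', ← image_filter_eq wO parO k, ncard_image_filter _ _ wO_injOn]
  rw [eA, eB, eO]

theorem census_v0_m16 : (census v0 (-16)).ncard = 4600 := by
  rw [census_v0_ncard, parA_filter_card, parB_filter_card, countA_m16, countB_m16]
  have h := parO_filter_card 4
  rw [countO_m16] at h
  have e : (-4 : ℤ) * ((4 : ℕ) : ℤ) = -16 := by norm_num
  rw [e] at h
  rw [h]

theorem census_v0_m8 : (census v0 (-8)).ncard = 47104 := by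
  rw [census_v0_ncard, parA_filter_card, parB_filter_card, countA_m8, countB_m8]
  have h := parO_filter_card 2
  rw [countO_m8] at h
  have e : (-4 : ℤ) * ((2 : ℕ) : ℤ) = -8 := by norm_num
  rw [e] at h
  rw [h]

theorem census_v0_0 : (census v0 0).ncard = 93150 := by
  rw [census_v0_ncard, parA_filter_card, parB_filter_card, countA_0, countB_0]
  have h := parO_filter_card 0
  rw [countO_0] at h
  have e : (-4 : ℤ) * ((0 : ℕ) : ℤ) = 0 := by norm_num
  rw [e] at h
  rw [h]

theorem v0_mem : v0 ∈ leechLattice := by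
  have h : v0 ∈ {x : GolayPt → ℤ | x ∈ leechLattice ∧ sqNorm x = 32} := by
    rw [set_eq]
    left; left
    refine ⟨{pa, pb}, {pb}, Finset.card_pair pa_ne_pb, ?_, rfl⟩
    intro x hx
    rw [Finset.mem_singleton] at hx
    rw [hx]
    exact Finset.mem_insert_of_mem (Finset.mem_singleton_self _)
  exact h.1

theorem v0_norm : sqNorm v0 = 32 := by
  unfold v0
  rw [sqNorm_sgn, Finset.card_pair pa_ne_pb]
  norm_num

end Cfsg.Agent.Lib.Helper26_Leech
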