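import Cfsg.Agent.Lib.Helper7_Code

/-!
A certificate checker for statements of the form "an element of `Cfsg.M24` fixing the points of a
given set is the identity", based on the minimum weight 8 of the code: if `g ∈ M24` fixes the set
`Fix` pointwise and `B` is (the support of) a code word with at most three points outside `Fix`,
then `g` maps `B` to itself; a point which is the only non-`Fix` point of `B₁ ∩ B₂` for two such
code words is then fixed by `g`.
-/

set_option autoImplicit false
open Cfsg
open scoped Pointwise

namespace Cfsg.Agent.Lib.Helper7_Base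

open Cfsg.Agent.Lib.Helper7_M24 Cfsg.Agent.Lib.Helper7_Bits Cfsg.Agent.Lib.Helper7_Code

/-- The support of a sum of two words is the symmetric difference of the supports. -/
theorem support₂_add' (v w : GolayPt → ZMod 2) :
    support₂ (v + w) = symmDiff (support₂ v) (support₂ w) := by
  ext p
  rw [Finset.mem_symmDiff, mem_support₂, mem_support₂, mem_support₂, Pi.add_apply]
  generalize v p = a
  generalize w p = b
  revert a b
  decide

theorem add_self_word (w : GolayPt → ZMod 2) : w + w = 0 := by
  funext p
  simp only [Pi.add_apply, Pi.zero_apply]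
  generalize w p = b
  revert b
  decide

/-- Rule A: a code word with at most 3 points of its support outside a pointwise fixed set is
fixed. -/
theorem smul_support_eq_of_small (g : Equiv.Perm GolayPt) (hg : g ∈ M24) (Fix : Finset GolayPt)
    (hfix : ∀ p ∈ Fix, g p = p) (w : GolayPt → ZMod 2) (hw : w ∈ golayCode)
    (hsmall : (support₂ w \ Fix).card ≤ 3) : g • support₂ w = support₂ w := by
  have hw' : permWord g w ∈ golayCode := permWord_mem_of_mem_M24 hg hw
  by_contra hne
  have h0 : w + permWord g w ≠ 0 := by
    intro h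
    apply hne
    have : permWord g w = w := by
      have h2 : w + permWord g w + w = w := by rw [h, zero_add]
      rw [add_comm w, add_assoc, add_self_word, add_zero] at h2
      exact h2
    rw [← support₂_permWord, this]
  have h8 := eight_le_weight _ (golayCode.add_mem hw hw') h0
  rw [support₂_add', support₂_permWord] at h8
  have hsub : symmDiff (support₂ w) (g • support₂ w) ⊆
      (support₂ w \ Fix) ∪ g • (support₂ w \ Fix) := by
    intro p hp
    rw [Finset.mem_symmDiff] at hp
    rw [Finset.mem_union]
    rcases hp with ⟨hp1, hp2⟩ | ⟨hp1, hp2⟩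
    · left
      rw [Finset.mem_sdiff]
      refine ⟨hp1, fun hpF => hp2 ?_⟩
      rw [← hfix p hpF]
      exact Finset.smul_mem_smul_finset hp1
    · right
      rw [Finset.mem_smul_finset] at hp1 ⊢
      obtain ⟨s, hs, rfl⟩ := hp1
      refine ⟨s, ?_, rfl⟩
      rw [Finset.mem_sdiff]
      refine ⟨hs, fun hsF => hp2 ?_⟩
      have : g • s = s := hfix s hsF
      rw [this]
      exact hs
  have hcard := Finset.card_le_card hsub
  have hun := Finset.card_union_le (support₂ w \ Fix) (g • (support₂ w \ Fix))
  rw [Finset.card_smul_finset] at hun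
  omega

/-- A point which is the only non-fixed point in the intersection of two invariant sets is
fixed. -/
theorem fixed_of_two (g : Equiv.Perm GolayPt) (Fix S₁ S₂ : Finset GolayPt)
    (hfix : ∀ p ∈ Fix, g p = p) (h1 : g • S₁ = S₁) (h2 : g • S₂ = S₂) (q : GolayPt)
    (hq : ∀ p, (p ∈ S₁ ∧ p ∈ S₂ ∧ p ∉ Fix) ↔ p = q) : g q = q := by
  obtain ⟨hq1, hq2, hqF⟩ := (hq q).mpr rfl
  apply (hq (g q)).mp
  refine ⟨?_, ?_, ?_⟩
  · rw [← h1]; exact Finset.smul_mem_smul_finset hq1
  · rw [← h2]; exact Finset.smul_mem_smul_finset hq2
  · intro hgF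
    apply hqF
    have := hfix _ hgF
    have : g q = q := g.injective this
    rw [← this]; exact hgF

/-- The set of points of a mask. -/
def maskSet (n : ℕ) : Finset GolayPt := support₂ (toWord n)

theorem mem_maskSet (n : ℕ) (p : GolayPt) : p ∈ maskSet n ↔ n.testBit (enc p) = true :=
  mem_support₂_toWord n p

theorem testBit_fullMask (i : ℕ) : fullMask.testBit i = decide (i < 24) := by
  unfold fullMask
  exact Nat.testBit_two_pow_sub_one 24 i

/-- Mask of the points outside `fix`. -/
def coMask (fix : ℕ) : ℕ := fullMask ^^^ fix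

theorem maskSet_and_coMask (B fix : ℕ) : maskSet (B &&& coMask fix) = maskSet B \ maskSet fix := by
  ext p
  rw [Finset.mem_sdiff, mem_maskSet, mem_maskSet, mem_maskSet]
  unfold coMask
  rw [Nat.testBit_and, Nat.testBit_xor, testBit_fullMask]
  have := enc_lt p
  simp [this]

/-- One step of the certificate: from the fixed set `fix`, the two code words `B₁`, `B₂` show that
the point with code `q` is fixed. -/
def stepOK (fix q B₁ B₂ : ℕ) : Bool :=
  inCode B₁ && inCode B₂ && decide (popcount (B₁ &&& coMask fix) ≤ 3) &&
    decide (popcount (B₂ &&& coMask fix) ≤ 3) && ((B₁ &&& B₂) &&& coMask fix == 2 ^ q)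

theorem step_sound (g : Equiv.Perm GolayPt) (hg : g ∈ M24) (fix q B₁ B₂ : ℕ)
    (hfix : ∀ p ∈ maskSet fix, g p = p) (h : stepOK fix q B₁ B₂ = true) :
    ∀ p ∈ maskSet (fix ||| 2 ^ q), g p = p := by
  unfold stepOK at h
  simp only [Bool.and_eq_true, decide_eq_true_eq, beq_iff_eq] at h
  obtain ⟨⟨⟨⟨hc1, hc2⟩, hs1⟩, hs2⟩, hq⟩ := h
  have hS1 : g • maskSet B₁ = maskSet B₁ := by
    apply smul_support_eq_of_small g hg (maskSet fix) hfix _ (toWord_mem_of_inCode hc1)
    have : support₂ (toWord B₁) \ maskSet fix = maskSet (B₁ &&& coMask fix) :=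
      (maskSet_and_coMask B₁ fix).symm
    rw [this, maskSet, card_support₂_toWord]
    exact hs1
  have hS2 : g • maskSet B₂ = maskSet B₂ := by
    apply smul_support_eq_of_small g hg (maskSet fix) hfix _ (toWord_mem_of_inCode hc2)
    have : support₂ (toWord B₂) \ maskSet fix = maskSet (B₂ &&& coMask fix) :=
      (maskSet_and_coMask B₂ fix).symm
    rw [this, maskSet, card_support₂_toWord]
    exact hs2
  intro p hp
  rw [mem_maskSet, Nat.testBit_or, Bool.or_eq_true] at hp
  rcases hp with hp | hp
  · exact hfix p ((mem_maskSet _ _).mpr hp)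
  · rw [Nat.testBit_two_pow, decide_eq_true_eq] at hp
    apply fixed_of_two g (maskSet fix) (maskSet B₁) (maskSet B₂) hfix hS1 hS2 p
    intro p'
    rw [mem_maskSet, mem_maskSet, mem_maskSet]
    have h1 : ((B₁ &&& B₂) &&& coMask fix).testBit (enc p') = (2 ^ q).testBit (enc p') := by
      rw [hq]
    rw [Nat.testBit_and, Nat.testBit_and, Nat.testBit_two_pow] at h1
    unfold coMask at h1
    rw [Nat.testBit_xor, testBit_fullMask] at h1
    have hlt := enc_lt p'
    simp only [hlt, decide_true, Bool.true_xor] at h1
    constructor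
    · rintro ⟨a, b, c⟩
      have : decide (q = enc p') = true := by
        rw [← h1]; simp [a, b, c]
      rw [decide_eq_true_eq] at this
      apply enc_injective
      rw [← this, hp]
    · rintro rfl
      have : decide (q = enc p') = true := by simp [hp]
      rw [← h1] at this
      simp only [Bool.and_eq_true, Bool.not_eq_true'] at this
      exact ⟨this.1.1, this.1.2, by simp [this.2]⟩

/-- Check a whole certificate: a list of steps `(q, B₁, B₂)`, after which every point must be
known to be fixed. -/
def checkBase : ℕ → List (ℕ × ℕ × ℕ) → Bool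
  | fix, [] => fix == fullMask
  | fix, (q, B₁, B₂) :: rest => stepOK fix q B₁ B₂ && checkBase (fix ||| 2 ^ q) rest

theorem checkBase_sound (g : Equiv.Perm GolayPt) (hg : g ∈ M24) (cert : List (ℕ × ℕ × ℕ))
    (fix : ℕ) (hfix : ∀ p ∈ maskSet fix, g p = p) (h : checkBase fix cert = true) : g = 1 := by
  induction cert generalizing fix with
  | nil =>
    unfold checkBase at h
    rw [beq_iff_eq] at h
    apply Equiv.ext
    intro p
    rw [Equiv.Perm.one_apply]
    apply hfix
    rw [h, mem_maskSet, testBit_fullMask, decide_eq_true_eq]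
    exact enc_lt p
  | cons s rest ih =>
    obtain ⟨q, B₁, B₂⟩ := s
    unfold checkBase at h
    rw [Bool.and_eq_true] at h
    exact ih (fix ||| 2 ^ q) (step_sound g hg fix q B₁ B₂ hfix h.1) h.2

end Cfsg.Agent.Lib.Helper7_Base
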