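import Cfsg.Agent.Lib.Helper7_M24

/-!
Bitmask model of words of length 24 indexed by `Cfsg.GolayPt`, and a sound membership test
for `Cfsg.golayCode`.

Encoding of points: `some x ↦ x.val` (`0..22`), `none ↦ 23`.
A natural number `n` encodes the word whose value at `p` is bit `enc p` of `n`.
-/

set_option autoImplicit false
open Cfsg
open scoped Pointwise

namespace Cfsg.Agent.Lib.Helper7_Bits

open Cfsg.Agent.Lib.Helper7_M24

/-- Encoding of the 24 points as numbers `0..23`. -/
def enc : GolayPt → ℕ
  | none => 23
  | some x => x.val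

/-- Decoding (inverse of `enc` on `0..23`). -/
def dec (n : ℕ) : GolayPt := if h : n < 23 then some (Fin.mk n h : Fin 23) else none

theorem dec_enc (p : GolayPt) : dec (enc p) = p := by
  revert p; decide

theorem enc_lt (p : GolayPt) : enc p < 24 := by
  revert p; decide

theorem enc_dec (n : ℕ) (h : n < 24) : enc (dec n) = n := by
  interval_cases n <;> rfl

theorem enc_injective : Function.Injective enc := by
  intro p q h
  rw [← dec_enc p, ← dec_enc q, h]

/-- The word encoded by a bitmask. -/
def toWord (n : ℕ) : GolayPt → ZMod 2 := fun p => if n.testBit (enc p) then 1 else 0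

theorem toWord_apply (n : ℕ) (p : GolayPt) :
    toWord n p = if n.testBit (enc p) then 1 else 0 := rfl

theorem toWord_xor (a b : ℕ) : toWord (a ^^^ b) = toWord a + toWord b := by
  funext p
  simp only [toWord, Nat.testBit_xor, Pi.add_apply]
  cases a.testBit (enc p) <;> cases b.testBit (enc p) <;> decide

theorem toWord_zero : toWord 0 = 0 := by
  funext p; simp [toWord]

theorem toWord_eq_one_iff (n : ℕ) (p : GolayPt) : toWord n p = 1 ↔ n.testBit (enc p) = true := by
  unfold toWord
  split_ifs with h
  · simp [h]
  · simp [h]

theorem mem_support₂_toWord (n : ℕ) (p : GolayPt) :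
    p ∈ support₂ (toWord n) ↔ n.testBit (enc p) = true := by
  rw [mem_support₂, toWord_eq_one_iff]

/-- The all-ones mask. -/
def fullMask : ℕ := 2 ^ 24 - 1

theorem toWord_fullMask : toWord fullMask = 1 := by
  funext p
  revert p
  decide

/-- The mask of the squares modulo 23 (zero included): bits 0,1,2,3,4,6,8,9,12,13,16,18. -/
def Q0 : ℕ := 0b1010011001101011111

/-- The mask of `qrWord t`: the rotation by `t` of `Q0` inside the low 23 bits. -/
def qrMask (t : ℕ) : ℕ := ((Q0 <<< t) ||| (Q0 >>> (23 - t))) &&& (2 ^ 23 - 1)

set_option maxRecDepth 100000 in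
theorem toWord_qrMask_apply : ∀ t : ZMod 23, ∀ p : GolayPt,
    toWord (qrMask t.val) p = qrWord t p := by
  decide

theorem toWord_qrMask (t : ZMod 23) : toWord (qrMask t.val) = qrWord t :=
  funext (toWord_qrMask_apply t)

/-- Masks of the 24 spanning words: index `t < 23` is `qrWord t`, index `23` is the all-ones
word. -/
def genMask (i : ℕ) : ℕ := if i < 23 then qrMask i else fullMask

theorem toWord_genMask_mem (i : ℕ) : toWord (genMask i) ∈ golayCode := by
  unfold genMask
  split_ifs with h
  · have : toWord (qrMask i) = qrWord (i : ZMod 23) := by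
      rw [← toWord_qrMask]
      congr 2
      exact (ZMod.val_natCast_of_lt h).symm
    rw [this]
    exact qrWord_mem _
  · rw [toWord_fullMask]
    exact one_mem

/-- XOR of a list of masks. -/
def xorList (l : List ℕ) : ℕ := l.foldr (fun a b => a ^^^ b) 0

theorem toWord_xorList_mem (l : List ℕ) (h : ∀ a ∈ l, toWord a ∈ golayCode) :
    toWord (xorList l) ∈ golayCode := by
  induction l with
  | nil => simp only [xorList, List.foldr_nil, toWord_zero]; exact golayCode.zero_mem
  | cons a l ih =>
    have : xorList (a :: l) = a ^^^ xorList l := rfl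
    rw [this, toWord_xor]
    exact golayCode.add_mem (h a (List.mem_cons_self))
      (ih fun b hb => h b (List.mem_cons_of_mem _ hb))

/-- A systematic basis of the code (pivot bits 23, 22, ..., 12), each vector given as the list of
indices of the spanning words whose sum it is. -/
def basisCombos : List (ℕ × List ℕ) :=
  [(23, [0,1,20,23]), (22, [13,14,18]), (21, [1,6,9]), (20, [0,5,8]), (19, [4,7,22]),
   (18, [3,6,21]), (17, [8,10,18]), (16, [5,14,20]), (15, [11,12,15]), (14, [10,11,14]),
   (13, [15,16,20]), (12, [14,15,19])]

/-- The systematic basis: pairs (pivot bit, mask). -/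
def basis : List (ℕ × ℕ) :=
  [(23, 8391797), (22, 4196943), (21, 2101096), (20, 1050548), (19, 525274), (18, 262637),
   (17, 133817), (16, 69395), (15, 36294), (14, 18147), (13, 10558), (12, 5279)]

theorem basis_eq : basis = basisCombos.map fun c => (c.1, xorList (c.2.map genMask)) := by
  decide

theorem basis_mem (b : ℕ × ℕ) (hb : b ∈ basis) : toWord b.2 ∈ golayCode := by
  rw [basis_eq, List.mem_map] at hb
  obtain ⟨c, _, rfl⟩ := hb
  apply toWord_xorList_mem
  intro a ha
  rw [List.mem_map] at ha
  obtain ⟨i, _, rfl⟩ := ha
  exact toWord_genMask_mem i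

/-- One reduction step. -/
def redStep (w : ℕ) (b : ℕ × ℕ) : ℕ := if w.testBit b.1 then w ^^^ b.2 else w

/-- Reduce a mask by a list of (pivot, vector) pairs. -/
def reduceBy (L : List (ℕ × ℕ)) (w : ℕ) : ℕ := L.foldl redStep w

theorem mem_of_reduceBy (L : List (ℕ × ℕ)) (hL : ∀ b ∈ L, toWord b.2 ∈ golayCode) (w : ℕ)
    (h : toWord (reduceBy L w) ∈ golayCode) : toWord w ∈ golayCode := by
  induction L generalizing w with
  | nil => exact h
  | cons b L ih =>
    have h1 : toWord (redStep w b) ∈ golayCode :=
      ih (fun c hc => hL c (List.mem_cons_of_mem _ hc)) _ h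
    unfold redStep at h1
    split_ifs at h1
    · rw [toWord_xor] at h1
      have := golayCode.add_mem h1 (hL b List.mem_cons_self)
      rwa [add_assoc, ← two_smul (ZMod 2), (by decide : (2 : ZMod 2) = 0), zero_smul,
        add_zero] at this
    · exact h1

/-- The (sound) membership test for the code. -/
def inCode (w : ℕ) : Bool := reduceBy basis w == 0

theorem toWord_mem_of_inCode {w : ℕ} (h : inCode w = true) : toWord w ∈ golayCode := by
  apply mem_of_reduceBy basis basis_mem
  unfold inCode at h
  rw [beq_iff_eq] at h
  rw [h, toWord_zero]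
  exact golayCode.zero_mem

end Cfsg.Agent.Lib.Helper7_Bits
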