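import Cfsg.Agent.Lib.Helper7_LeechGen
import Cfsg.Agent.Lib.Helper7_Bits

/-!
# A non-monomial automorphism of the Leech lattice

For the sextet `{∞,0,1,2}, {4,13,16,22}, {3,5,14,17}, {6,7,19,21}, {9,10,15,20}, {8,11,12,18}`
the map `ξ x i = s i * x i - (1/2) ∑_{j ∈ T(i)} s j * x j` (`T(i)` the tetrad of `i`, `s = -1` on
the first tetrad and `1` elsewhere) preserves `leechLattice`; it is an involution in `Co0`.

* `xi2 = 2 ξ` as an additive endomorphism of `GolayPt → ℤ`, given by the matrix `A`;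
* `xi : Equiv.Perm leechLattice`, `xi_mem_Co0`, `dbl_xi : dbl (xi v) = xi2 v`.
-/

set_option autoImplicit false
open Cfsg

namespace Cfsg.Agent.Lib.Helper7_Xi

open Cfsg.Agent.Lib.Helper7_M24 Cfsg.Agent.Lib.Helper7_Leech Cfsg.Agent.Lib.Helper92_LeechParity
  Cfsg.Agent.Lib.Helper92_Monomial Cfsg.Agent.S0393 Cfsg.Agent.S0358
  Cfsg.Agent.Lib.Helper7_LeechGen Cfsg.Agent.Lib.Helper7_Bits

/-- The tetrad index of each point (by code). -/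
def tetL : List ℕ := [0,0,0,2,1,2,3,3,5,4,4,5,5,1,2,4,1,2,5,3,4,3,1,0]

/-- The tetrad index of a point. -/
def tet (p : GolayPt) : ℕ := tetL.getD (enc p) 0

/-- The sign: `-1` on the first tetrad. -/
def sg (p : GolayPt) : ℤ := if tet p = 0 then -1 else 1

/-- The matrix of `2 ξ`. -/
def A : Matrix GolayPt GolayPt ℤ :=
  fun i j => (if i = j then 2 * sg i else 0) - (if tet j = tet i then sg j else 0)

theorem A_sq : A * A = (4 : ℤ) • (1 : Matrix GolayPt GolayPt ℤ) := by decide +kernel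

theorem A_symm : A.transpose = A := by decide +kernel

/-- `2 ξ`. -/
def xi2 : (GolayPt → ℤ) →+ (GolayPt → ℤ) :=
  AddMonoidHom.mk' (fun x => A.mulVec x) (fun a b => Matrix.mulVec_add A a b)

theorem xi2_apply (x : GolayPt → ℤ) : xi2 x = A.mulVec x := rfl

theorem xi2_xi2 (x : GolayPt → ℤ) : xi2 (xi2 x) = dbl (dbl x) := by
  rw [xi2_apply, xi2_apply, Matrix.mulVec_mulVec, A_sq, Matrix.smul_mulVec, Matrix.one_mulVec]
  funext i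
  rw [dbl_apply, dbl_apply, Pi.smul_apply, smul_eq_mul]
  ring

theorem sqNorm_eq_dot (x : GolayPt → ℤ) : sqNorm x = dotProduct x x := by
  unfold sqNorm dotProduct
  apply Finset.sum_congr rfl
  intro i _
  ring

theorem sqNorm_dbl (x : GolayPt → ℤ) : sqNorm (dbl x) = 4 * sqNorm x := by
  unfold sqNorm
  rw [Finset.mul_sum]
  apply Finset.sum_congr rfl
  intro i _
  rw [dbl_apply]
  ring

theorem sqNorm_xi2 (x : GolayPt → ℤ) : sqNorm (xi2 x) = 4 * sqNorm x := by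
  rw [sqNorm_eq_dot, sqNorm_eq_dot]
  have h1 : A.mulVec x = Matrix.vecMul x A := by
    rw [← Matrix.vecMul_transpose, A_symm]
  have h2 : dotProduct (xi2 x) (xi2 x) = dotProduct x (xi2 (xi2 x)) := by
    rw [xi2_apply]
    nth_rewrite 1 [h1]
    rw [← Matrix.dotProduct_mulVec]
    rfl
  rw [h2, xi2_xi2]
  unfold dotProduct
  rw [Finset.mul_sum]
  apply Finset.sum_congr rfl
  intro i _
  rw [dbl_apply, dbl_apply]
  ring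

/-! ### Certificates for membership in the lattice -/

/-- The vector given by a list of 24 integers. -/
def vecL (l : List ℤ) : GolayPt → ℤ := fun p => l.getD (enc p) 0

/-- A decidable certificate that a vector lies in `leechSet`; `m` is the mask of the code word of
the coordinates congruent to `2` (even case) or `1` (odd case) modulo 4. -/
def LeechCert (y : GolayPt → ℤ) (m : ℕ) : Prop :=
  inCode m = true ∧
    (((∀ i, (2 : ℤ) ∣ y i) ∧ (∀ p, indWord (fun i => y i ≡ 2 [ZMOD 4]) p = toWord m p) ∧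
        (8 : ℤ) ∣ ∑ i, y i) ∨
      ((∀ i, ¬ (2 : ℤ) ∣ y i) ∧ (∀ p, indWord (fun i => y i ≡ 1 [ZMOD 4]) p = toWord m p) ∧
        ∑ i, y i ≡ 4 [ZMOD 8]))

instance (y : GolayPt → ℤ) (m : ℕ) : Decidable (LeechCert y m) := by
  unfold LeechCert
  infer_instance

theorem mem_of_cert (y : GolayPt → ℤ) (m : ℕ) (h : LeechCert y m) : y ∈ leechLattice := by
  rw [mem_leechLattice_iff]
  obtain ⟨hm, h | h⟩ := h
  · obtain ⟨h2, hw, hs⟩ := h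
    apply mem_of_even y h2 _ hs
    rw [show indWord (fun i => y i ≡ 2 [ZMOD 4]) = toWord m from funext hw]
    exact toWord_mem_of_inCode hm
  · obtain ⟨h2, hw, hs⟩ := h
    apply mem_of_odd y h2 _ hs
    rw [show indWord (fun i => y i ≡ 1 [ZMOD 4]) = toWord m from funext hw]
    exact toWord_mem_of_inCode hm

/-- The condition checked for each generator `g`: `2 ξ g = 2 y` with `y` in the lattice. -/
def GenOK (g y : GolayPt → ℤ) (m : ℕ) : Prop :=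
  (∀ p, A.mulVec g p = 2 * y p) ∧ LeechCert y m

instance (g y : GolayPt → ℤ) (m : ℕ) : Decidable (GenOK g y m) := by
  unfold GenOK
  infer_instance

theorem mem_of_genOK (g y : GolayPt → ℤ) (m : ℕ) (h : GenOK g y m) :
    xi2 g ∈ leechLattice.map dbl := by
  refine ⟨y, mem_of_cert y m h.2, ?_⟩
  funext p
  rw [dbl_apply, xi2_apply, h.1 p]

/-! ### The tables -/

def yU : List ℤ := [-1, -1, -1, -1, -1, -1, -1, -1, -1, -1, -1, -1, -1, -1, -1, -1, -1, -1, -1, -1, -1, -1, -1, 3]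
def mU : ℕ := 0

def gB : List (List ℤ) :=
  [[2, 2, 2, 2, 2, 0, 2, 0, 2, 2, 0, 0, 2, 2, 0, 0, 2, 0, 2, 0, 0, 0, 0, 0],
   [0, 2, 2, 2, 2, 2, 0, 2, 0, 2, 2, 0, 0, 2, 2, 0, 0, 2, 0, 2, 0, 0, 0, 0],
   [0, 0, 2, 2, 2, 2, 2, 0, 2, 0, 2, 2, 0, 0, 2, 2, 0, 0, 2, 0, 2, 0, 0, 0],
   [0, 0, 0, 2, 2, 2, 2, 2, 0, 2, 0, 2, 2, 0, 0, 2, 2, 0, 0, 2, 0, 2, 0, 0],
   [0, 0, 0, 0, 2, 2, 2, 2, 2, 0, 2, 0, 2, 2, 0, 0, 2, 2, 0, 0, 2, 0, 2, 0],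
   [2, 0, 0, 0, 0, 2, 2, 2, 2, 2, 0, 2, 0, 2, 2, 0, 0, 2, 2, 0, 0, 2, 0, 0],
   [0, 2, 0, 0, 0, 0, 2, 2, 2, 2, 2, 0, 2, 0, 2, 2, 0, 0, 2, 2, 0, 0, 2, 0],
   [2, 0, 2, 0, 0, 0, 0, 2, 2, 2, 2, 2, 0, 2, 0, 2, 2, 0, 0, 2, 2, 0, 0, 0],
   [0, 2, 0, 2, 0, 0, 0, 0, 2, 2, 2, 2, 2, 0, 2, 0, 2, 2, 0, 0, 2, 2, 0, 0],
   [0, 0, 2, 0, 2, 0, 0, 0, 0, 2, 2, 2, 2, 2, 0, 2, 0, 2, 2, 0, 0, 2, 2, 0],
   [2, 0, 0, 2, 0, 2, 0, 0, 0, 0, 2, 2, 2, 2, 2, 0, 2, 0, 2, 2, 0, 0, 2, 0],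
   [2, 2, 2, 2, 2, 2, 2, 2, 2, 2, 2, 2, 2, 2, 2, 2, 2, 2, 2, 2, 2, 2, 2, 2]]

def yB : List (List ℤ) :=
  [[1, 1, 1, 1, -1, -1, 1, -1, -1, 1, -1, -3, -1, -1, -1, -1, -1, -1, -1, -1, -1, -1, -3, 3],
   [2, 0, 0, -2, 0, -2, -2, 0, 0, 0, 0, 0, 0, 0, -2, -2, -2, -2, 0, 0, -2, -2, -2, 2],
   [1, 1, -1, -1, 1, -1, 1, -1, -1, -3, -1, -1, -3, -1, -1, -1, -1, -3, -1, -1, -1, -1, -1, 1],
   [0, 0, 0, 0, 0, 0, -2, -2, -2, 0, -2, 0, 0, -2, -2, 0, 0, -2, -2, -2, -2, -2, -2, 0],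
   [0, 0, 0, -2, -2, 0, 0, 0, 0, -2, 0, -2, 0, -2, -2, -2, -2, 0, -2, -2, 0, -2, -2, 0],
   [-1, 1, 1, -3, -1, -1, -1, -1, -1, 1, -1, -1, -3, 1, -1, -1, -1, -1, -1, -3, -1, -1, -1, 1],
   [1, -1, 1, -1, -1, -1, -1, -1, -1, -1, -1, -3, -1, -1, 1, -1, -1, -1, -1, -1, -3, -3, 1, 1],
   [0, 2, 0, 0, -2, 0, -2, 0, 0, -2, -2, 0, -2, 0, 0, -2, 0, 0, -2, 0, -2, -2, -2, 2],
   [1, -1, 1, -1, -1, -3, -1, -1, -1, -1, -1, -1, -1, -1, -1, -3, 1, -1, -3, -1, -1, 1, -1, 1],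
   [1, 1, -1, -1, -1, -1, -1, -1, -3, -1, -1, -1, -1, -1, -1, -1, -3, 1, -1, -1, -3, 1, -1, 1],
   [-1, 1, 1, -1, -3, -1, -1, -1, -3, -1, 1, -1, -1, -1, -1, -1, -1, -3, -1, 1, -1, -1, -1, 1],
   [2, 2, 2, -2, -2, -2, -2, -2, -2, -2, -2, -2, -2, -2, -2, -2, -2, -2, -2, -2, -2, -2, -2, 2]]

def mB : List ℕ := [4196943, 15974505, 8524371, 8283584, 7203352, 8925710, 15747077, 16029266, 10846245, 11731203, 9045270, 16777215]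

def yE : List (List ℤ) :=
  [[-4, 0, 0, 0, 0, 0, 0, 0, 0, 0, 0, 0, 0, 0, 0, 0, 0, 0, 0, 0, 0, 0, 0, 4],
   [0, -4, 0, 0, 0, 0, 0, 0, 0, 0, 0, 0, 0, 0, 0, 0, 0, 0, 0, 0, 0, 0, 0, 4],
   [0, 0, -4, 0, 0, 0, 0, 0, 0, 0, 0, 0, 0, 0, 0, 0, 0, 0, 0, 0, 0, 0, 0, 4],
   [-2, -2, -2, 2, 0, -2, 0, 0, 0, 0, 0, 0, 0, 0, -2, 0, 0, -2, 0, 0, 0, 0, 0, 2],
   [-2, -2, -2, 0, 2, 0, 0, 0, 0, 0, 0, 0, 0, -2, 0, 0, -2, 0, 0, 0, 0, 0, -2, 2],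
   [-2, -2, -2, -2, 0, 2, 0, 0, 0, 0, 0, 0, 0, 0, -2, 0, 0, -2, 0, 0, 0, 0, 0, 2],
   [-2, -2, -2, 0, 0, 0, 2, -2, 0, 0, 0, 0, 0, 0, 0, 0, 0, 0, 0, -2, 0, -2, 0, 2],
   [-2, -2, -2, 0, 0, 0, -2, 2, 0, 0, 0, 0, 0, 0, 0, 0, 0, 0, 0, -2, 0, -2, 0, 2],
   [-2, -2, -2, 0, 0, 0, 0, 0, 2, 0, 0, -2, -2, 0, 0, 0, 0, 0, -2, 0, 0, 0, 0, 2],
   [-2, -2, -2, 0, 0, 0, 0, 0, 0, 2, -2, 0, 0, 0, 0, -2, 0, 0, 0, 0, -2, 0, 0, 2],
   [-2, -2, -2, 0, 0, 0, 0, 0, 0, -2, 2, 0, 0, 0, 0, -2, 0, 0, 0, 0, -2, 0, 0, 2],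
   [-2, -2, -2, 0, 0, 0, 0, 0, -2, 0, 0, 2, -2, 0, 0, 0, 0, 0, -2, 0, 0, 0, 0, 2],
   [-2, -2, -2, 0, 0, 0, 0, 0, -2, 0, 0, -2, 2, 0, 0, 0, 0, 0, -2, 0, 0, 0, 0, 2],
   [-2, -2, -2, 0, -2, 0, 0, 0, 0, 0, 0, 0, 0, 2, 0, 0, -2, 0, 0, 0, 0, 0, -2, 2],
   [-2, -2, -2, -2, 0, -2, 0, 0, 0, 0, 0, 0, 0, 0, 2, 0, 0, -2, 0, 0, 0, 0, 0, 2],
   [-2, -2, -2, 0, 0, 0, 0, 0, 0, -2, -2, 0, 0, 0, 0, 2, 0, 0, 0, 0, -2, 0, 0, 2],
   [-2, -2, -2, 0, -2, 0, 0, 0, 0, 0, 0, 0, 0, -2, 0, 0, 2, 0, 0, 0, 0, 0, -2, 2],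
   [-2, -2, -2, -2, 0, -2, 0, 0, 0, 0, 0, 0, 0, 0, -2, 0, 0, 2, 0, 0, 0, 0, 0, 2],
   [-2, -2, -2, 0, 0, 0, 0, 0, -2, 0, 0, -2, -2, 0, 0, 0, 0, 0, 2, 0, 0, 0, 0, 2],
   [-2, -2, -2, 0, 0, 0, -2, -2, 0, 0, 0, 0, 0, 0, 0, 0, 0, 0, 0, 2, 0, -2, 0, 2],
   [-2, -2, -2, 0, 0, 0, 0, 0, 0, -2, -2, 0, 0, 0, 0, -2, 0, 0, 0, 0, 2, 0, 0, 2],
   [-2, -2, -2, 0, 0, 0, -2, -2, 0, 0, 0, 0, 0, 0, 0, 0, 0, 0, 0, -2, 0, 2, 0, 2],
   [-2, -2, -2, 0, -2, 0, 0, 0, 0, 0, 0, 0, 0, -2, 0, 0, -2, 0, 0, 0, 0, 0, 2, 2],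
   [0, 0, 0, 0, 0, 0, 0, 0, 0, 0, 0, 0, 0, 0, 0, 0, 0, 0, 0, 0, 0, 0, 0, 0]]

def mE : List ℕ := [0, 0, 0, 8536111, 12656663, 8536111, 11010247, 11010247, 8657159, 9471495, 9471495, 8657159, 8657159, 12656663, 8536111, 9471495, 12656663, 8536111, 8657159, 11010247, 9471495, 11010247, 12656663, 0]

def y8 : List ℤ := [4, 4, 4, 0, 0, 0, 0, 0, 0, 0, 0, 0, 0, 0, 0, 0, 0, 0, 0, 0, 0, 0, 0, -4]
def m8 : ℕ := 0


theorem u0_eq : u0 = vecL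
    [1, 1, 1, 1, 1, 1, 1, 1, 1, 1, 1, 1, 1, 1, 1, 1, 1, 1, 1, 1, 1, 1, 1, -3] := by
  funext p
  revert p
  decide

theorem okU : GenOK (vecL
    [1, 1, 1, 1, 1, 1, 1, 1, 1, 1, 1, 1, 1, 1, 1, 1, 1, 1, 1, 1, 1, 1, 1, -3]) (vecL yU) mU := by
  decide +kernel

theorem gB_eq : ∀ k : Fin 12, ∀ p, twoInd (bvec k) p = vecL (gB.getD k.val []) p := by
  decide +kernel

theorem okB : ∀ k : Fin 12, GenOK (vecL (gB.getD k.val [])) (vecL (yB.getD k.val []))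
    (mB.getD k.val 0) := by
  decide +kernel

theorem okE : ∀ i : GolayPt, GenOK (eDiff i) (vecL (yE.getD (enc i) [])) (mE.getD (enc i) 0) := by
  decide +kernel

theorem ok8 : GenOK e8 (vecL y8) m8 := by
  decide +kernel

/-- `2 ξ` maps the lattice into twice the lattice. -/
theorem xi2_mem (x : GolayPt → ℤ) (hx : x ∈ leechLattice) : xi2 x ∈ leechLattice.map dbl := by
  have := le_of_gens ((leechLattice.map dbl).comap xi2) ?_ ?_ ?_ ?_ hx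
  · exact this
  · show xi2 u0 ∈ leechLattice.map dbl
    rw [u0_eq]
    exact mem_of_genOK _ _ _ okU
  · intro k
    show xi2 (twoInd (bvec k)) ∈ leechLattice.map dbl
    rw [show twoInd (bvec k) = vecL (gB.getD k.val []) from funext (gB_eq k)]
    exact mem_of_genOK _ _ _ (okB k)
  · intro i
    exact mem_of_genOK _ _ _ (okE i)
  · exact mem_of_genOK _ _ _ ok8

/-! ### The automorphism -/

/-- Halving. -/
def half (z : GolayPt → ℤ) : GolayPt → ℤ := fun i => z i / 2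

theorem half_dbl (y : GolayPt → ℤ) : half (dbl y) = y := by
  funext i
  unfold half
  rw [dbl_apply]
  omega

/-- The underlying function of `ξ`. -/
def xiF (x : GolayPt → ℤ) : GolayPt → ℤ := half (xi2 x)

theorem xiF_spec (x : GolayPt → ℤ) (hx : x ∈ leechLattice) :
    xiF x ∈ leechLattice ∧ dbl (xiF x) = xi2 x := by
  obtain ⟨y, hy, hyx⟩ := xi2_mem x hx
  have : xiF x = y := by
    unfold xiF
    rw [← hyx, half_dbl]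
  rw [this]
  exact ⟨hy, hyx⟩

theorem xi2_dbl (y : GolayPt → ℤ) : xi2 (dbl y) = dbl (xi2 y) := by
  have h : dbl y = y + y := by
    funext i
    rw [dbl_apply, Pi.add_apply]; ring
  have h' : dbl (xi2 y) = xi2 y + xi2 y := by
    funext i
    rw [dbl_apply, Pi.add_apply]; ring
  rw [h, map_add, h']

theorem xiF_xiF (x : GolayPt → ℤ) (hx : x ∈ leechLattice) : xiF (xiF x) = x := by
  obtain ⟨h1, h2⟩ := xiF_spec x hx
  obtain ⟨_, h4⟩ := xiF_spec (xiF x) h1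
  apply dbl_injective
  apply dbl_injective
  rw [h4, ← xi2_dbl, h2, xi2_xi2]

/-- The automorphism `ξ` of the lattice. -/
def xi : Equiv.Perm leechLattice where
  toFun v := ⟨xiF v.1, (xiF_spec v.1 v.2).1⟩
  invFun v := ⟨xiF v.1, (xiF_spec v.1 v.2).1⟩
  left_inv v := Subtype.ext (xiF_xiF v.1 v.2)
  right_inv v := Subtype.ext (xiF_xiF v.1 v.2)

theorem xi_coe (v : leechLattice) : ((xi v : leechLattice) : GolayPt → ℤ) = xiF v.1 := rfl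

theorem dbl_xi (v : leechLattice) : dbl ((xi v : leechLattice) : GolayPt → ℤ) = xi2 v.1 :=
  (xiF_spec v.1 v.2).2

theorem xi_mem_Co0 : xi ∈ Co0 := by
  constructor
  · intro v w
    apply Subtype.ext
    apply dbl_injective
    show dbl (xiF (v.1 + w.1)) = dbl (xiF v.1 + xiF w.1)
    rw [map_add, (xiF_spec _ (leechLattice.add_mem v.2 w.2)).2, (xiF_spec _ v.2).2,
      (xiF_spec _ w.2).2, map_add]
  · intro v
    have h1 := sqNorm_dbl (xiF v.1)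
    rw [(xiF_spec _ v.2).2, sqNorm_xi2] at h1
    show sqNorm (xiF v.1) = sqNorm v.1
    omega

/-- Explicit description: if `2 ξ x = 2 y` then `ξ x = y`. -/
theorem xi_eq_of (v : leechLattice) (y : GolayPt → ℤ) (h : ∀ p, A.mulVec v.1 p = 2 * y p) :
    ((xi v : leechLattice) : GolayPt → ℤ) = y := by
  apply dbl_injective
  rw [dbl_xi]
  funext p
  rw [xi2_apply, h p, dbl_apply]

end Cfsg.Agent.Lib.Helper7_Xi
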