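import Cfsg.Agent.Lib.Helper7_Bits

/-!
Permutations of the 24 points given by explicit lists of images (in the `enc` numbering), the
induced action on bitmasks, and a sound test for membership in `Cfsg.M24`.
-/

set_option autoImplicit false
open Cfsg
open scoped Pointwise

namespace Cfsg.Agent.Lib.Helper7_Perm

open Cfsg.Agent.Lib.Helper7_M24 Cfsg.Agent.Lib.Helper7_Bits

/-- The function on points given by a list of images. -/
def listFun (l : List ℕ) : GolayPt → GolayPt := fun p => dec (l.getD (enc p) 0)

/-- `l'` is a left inverse of `l` on `0..23` (and `l` takes values `< 24`). -/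
def checkInv (l l' : List ℕ) : Bool :=
  (List.range 24).all fun i => decide (l.getD i 0 < 24) && (l'.getD (l.getD i 0) 0 == i)

theorem checkInv_spec {l l' : List ℕ} (h : checkInv l l' = true) (i : ℕ) (hi : i < 24) :
    l.getD i 0 < 24 ∧ l'.getD (l.getD i 0) 0 = i := by
  unfold checkInv at h
  rw [List.all_eq_true] at h
  have := h i (List.mem_range.mpr hi)
  rw [Bool.and_eq_true, decide_eq_true_eq, beq_iff_eq] at this
  exact this

theorem listFun_leftInverse {l l' : List ℕ} (h : checkInv l l' = true) :
    Function.LeftInverse (listFun l') (listFun l) := by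
  intro p
  obtain ⟨h1, h2⟩ := checkInv_spec h (enc p) (enc_lt p)
  unfold listFun
  rw [enc_dec _ h1, h2, dec_enc]

/-- The permutation given by a pair of mutually inverse lists. -/
def listPerm (l l' : List ℕ) (h : checkInv l l' = true) (h' : checkInv l' l = true) :
    Equiv.Perm GolayPt where
  toFun := listFun l
  invFun := listFun l'
  left_inv := listFun_leftInverse h
  right_inv := listFun_leftInverse h'

@[simp] theorem listPerm_apply (l l' : List ℕ) (h : checkInv l l' = true)
    (h' : checkInv l' l = true) (p : GolayPt) :
    listPerm l l' h h' p = dec (l.getD (enc p) 0) := rfl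

@[simp] theorem listPerm_symm_apply (l l' : List ℕ) (h : checkInv l l' = true)
    (h' : checkInv l' l = true) (p : GolayPt) :
    (listPerm l l' h h').symm p = dec (l'.getD (enc p) 0) := rfl

/-- The action on bitmasks of the permutation whose *inverse* list is `l'`:
bit `j` of the result is bit `l'[j]` of the input. -/
def applyMask (l' : List ℕ) (w : ℕ) : ℕ :=
  Nat.ofBits fun j : Fin 24 => w.testBit (l'.getD j.val 0)

theorem toWord_applyMask (l l' : List ℕ) (h : checkInv l l' = true)
    (h' : checkInv l' l = true) (w : ℕ) :
    toWord (applyMask l' w) = permWord (listPerm l l' h h') (toWord w) := by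
  funext p
  rw [permWord_apply, listPerm_symm_apply, toWord_apply, toWord_apply]
  obtain ⟨h1, _⟩ := checkInv_spec h' (enc p) (enc_lt p)
  rw [enc_dec _ h1]
  unfold applyMask
  rw [Nat.testBit_ofBits_lt _ _ (enc_lt p)]

/-- The masks of the 23 words `qrWord t`. -/
def qrMaskList : List ℕ :=
  [340831, 681662, 1363324, 2726648, 5453296, 2517985, 5035970, 1683333, 3366666, 6733332,
   5078057, 1767507, 3535014, 7070028, 5751449, 3114291, 6228582, 4068557, 8137114, 7885621,
   7382635, 6376663, 4364719]

theorem qrMaskList_eq : qrMaskList = (List.range 23).map qrMask := by decide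

/-- The test: the permutation with inverse list `l'` maps the 23 spanning words into the code. -/
def checkCode (l' : List ℕ) : Bool := qrMaskList.all fun m => inCode (applyMask l' m)

theorem listPerm_mem_M24 (l l' : List ℕ) (h : checkInv l l' = true)
    (h' : checkInv l' l = true) (hc : checkCode l' = true) : listPerm l l' h h' ∈ M24 := by
  apply mem_M24_of_gens
  intro t
  rw [← toWord_qrMask, ← toWord_applyMask]
  apply toWord_mem_of_inCode
  unfold checkCode at hc
  rw [List.all_eq_true] at hc
  apply hc
  rw [qrMaskList_eq, List.mem_map]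
  exact ⟨t.val, List.mem_range.mpr (ZMod.val_lt t), rfl⟩

/-- Combined test. -/
def checkM24 (l l' : List ℕ) : Bool := checkInv l l' && checkInv l' l && checkCode l'

/-- From a successful test, an element of `M24` acting on points by the list `l`. -/
theorem exists_of_checkM24 {l l' : List ℕ} (h : checkM24 l l' = true) :
    ∃ g : Equiv.Perm GolayPt, g ∈ M24 ∧ ∀ p, g p = dec (l.getD (enc p) 0) := by
  unfold checkM24 at h
  rw [Bool.and_eq_true, Bool.and_eq_true] at h
  exact ⟨listPerm l l' h.1.1 h.1.2, listPerm_mem_M24 l l' h.1.1 h.1.2 h.2, fun _ => rfl⟩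

end Cfsg.Agent.Lib.Helper7_Perm
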