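/-
Helper library (helper93): binary self-dual codes of length 24 with minimum weight ≥ 8, abstractly.
Part 2: octads form a Steiner system, span the code, and the code is doubly even.
-/
import Mathlib
import Cfsg.Agent.Lib.Helper93_Code24

set_option autoImplicit false
set_option linter.unusedSectionVars false

namespace Cfsg.Agent.Lib.Helper93_Code24

open Finset

variable {α : Type*} [Fintype α] [DecidableEq α] {C : Submodule (ZMod 2) (α → ZMod 2)}

/-- Through every 5 points there is an octad. -/
theorem exists_octad (hC : IsGolayLike C) (s : Finset α) (hs : s.card = 5) :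
    ∃ c ∈ C, hammingNorm c = 8 ∧ s ⊆ supp c := by
  classical
  have hne : s.Nonempty := by
    rw [← Finset.card_pos]; omega
  obtain ⟨p, hp⟩ := hne
  set t := s.erase p with ht
  have htc : t.card = 4 := by rw [ht, Finset.card_erase_of_mem hp, hs]
  set w : α → ZMod 2 := ind t with hw
  have hwt : hammingNorm w = 4 := by rw [hammingNorm_eq, hw, supp_ind, htc]
  have hwS : w ∈ {u : α → ZMod 2 | u - w ∈ C ∧ hammingNorm u ≤ 4} := by
    refine ⟨by rw [sub_self]; exact C.zero_mem, by omega⟩
  rcases sextet_form hC w with ⟨u, hu, hu3⟩ | ⟨h6, hall⟩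
  · exfalso
    rw [hu, Set.mem_singleton_iff] at hwS
    rw [← hwS] at hu3
    omega
  · -- the six supports cover everything
    set S := {u : α → ZMod 2 | u - w ∈ C ∧ hammingNorm u ≤ 4} with hS
    have hfin : S.Finite := Set.toFinite S
    set F := hfin.toFinset with hF
    have memF : ∀ u, u ∈ F ↔ u ∈ S := by intro u; rw [hF, Set.Finite.mem_toFinset]
    have hFc : F.card = 6 := by
      rw [← h6, Set.ncard_eq_toFinset_card S hfin]
    have hdisj : (F : Set (α → ZMod 2)).PairwiseDisjoint supp := by
      intro u hu v hv hne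
      rw [Finset.mem_coe, memF] at hu hv
      exact (hall u hu).2 v hv hne
    have h1 := Finset.card_biUnion hdisj
    have h2 : ∑ u ∈ F, (supp u).card = 24 := by
      have : ∀ u ∈ F, (supp u).card = 4 := by
        intro u hu
        rw [← hammingNorm_eq]
        exact (hall u ((memF u).1 hu)).1
      rw [Finset.sum_congr rfl this, Finset.sum_const, smul_eq_mul, hFc]
    have h3 : F.biUnion supp = univ := by
      apply Finset.eq_univ_of_card
      rw [h1, h2, hC.card24]
    have hpU : p ∈ F.biUnion supp := by rw [h3]; exact mem_univ p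
    rw [Finset.mem_biUnion] at hpU
    obtain ⟨u, huF, hpu⟩ := hpU
    have huS : u ∈ S := (memF u).1 huF
    have hpt : p ∉ t := by rw [ht]; exact Finset.notMem_erase p s
    have hne : u ≠ w := by
      intro h
      rw [h, hw, supp_ind] at hpu
      exact hpt hpu
    have hd : Disjoint (supp u) (supp w) := (hall u huS).2 w hwS hne
    have hu4 : hammingNorm u = 4 := (hall u huS).1
    refine ⟨u - w, huS.1, ?_, ?_⟩
    · rw [sub_eq_add']
      have h := wt_add u w
      have : (supp u ∩ supp w).card = 0 := by
        rw [Finset.card_eq_zero, ← Finset.disjoint_iff_inter_eq_empty]; exact hd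
      omega
    · rw [sub_eq_add', supp_add]
      intro x hx
      rw [mem_symmDiff]
      by_cases hxp : x = p
      · left
        subst hxp
        refine ⟨hpu, ?_⟩
        rw [hw, supp_ind]; exact hpt
      · right
        have hxt : x ∈ t := by rw [ht]; exact Finset.mem_erase.2 ⟨hxp, hx⟩
        have hxw : x ∈ supp w := by rw [hw, supp_ind]; exact hxt
        refine ⟨hxw, ?_⟩
        intro hxu
        exact (Finset.disjoint_left.1 hd) hxu hxw

/-- Two octads through the same 5 points coincide. -/
theorem octad_unique (hC : IsGolayLike C) {c c' : α → ZMod 2} (hc : c ∈ C) (hc' : c' ∈ C)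
    (h8 : hammingNorm c = 8) (h8' : hammingNorm c' = 8) (s : Finset α) (hs : s.card = 5)
    (hsc : s ⊆ supp c) (hsc' : s ⊆ supp c') : c = c' := by
  by_contra hne
  have h1 : c - c' ∈ C := C.sub_mem hc hc'
  have h2 := hC.minwt _ h1 (sub_ne_zero.2 hne)
  rw [sub_eq_add'] at h2
  have h3 := wt_add c c'
  have h4 : s ⊆ supp c ∩ supp c' := Finset.subset_inter hsc hsc'
  have h5 := Finset.card_le_card h4
  omega

/-- The octads span the code. -/
theorem mem_span_octads (hC : IsGolayLike C) :
    ∀ (n : ℕ) (c : α → ZMod 2), c ∈ C → hammingNorm c = n →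
      c ∈ Submodule.span (ZMod 2) {w : α → ZMod 2 | w ∈ C ∧ hammingNorm w = 8} := by
  intro n
  induction n using Nat.strong_induction_on with
  | _ n ih =>
    intro c hc hn
    by_cases h0 : c = 0
    · rw [h0]; exact Submodule.zero_mem _
    have h8 := hC.minwt c hc h0
    rw [hammingNorm_eq] at h8
    obtain ⟨s, hsc, hs⟩ := Finset.exists_subset_card_eq (show 5 ≤ (supp c).card by omega)
    obtain ⟨o, ho, ho8, hso⟩ := exists_octad hC s hs
    have h1 := wt_add c o
    have h2 : s ⊆ supp c ∩ supp o := Finset.subset_inter hsc hso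
    have h3 := Finset.card_le_card h2
    have hlt : hammingNorm (c + o) < n := by omega
    have hco : c + o ∈ C := C.add_mem hc ho
    have h4 := ih _ hlt (c + o) hco rfl
    have h5 : o ∈ Submodule.span (ZMod 2) {w : α → ZMod 2 | w ∈ C ∧ hammingNorm w = 8} :=
      Submodule.subset_span ⟨ho, ho8⟩
    have : c = (c + o) - o := by abel
    rw [this]
    exact Submodule.sub_mem _ h4 h5

theorem span_octads (hC : IsGolayLike C) :
    Submodule.span (ZMod 2) {w : α → ZMod 2 | w ∈ C ∧ hammingNorm w = 8} = C := by
  apply le_antisymm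
  · rw [Submodule.span_le]
    intro w hw
    exact hw.1
  · intro c hc
    exact mem_span_octads hC _ c hc rfl

/-- The code is doubly even. -/
theorem doubly_even (hC : IsGolayLike C) :
    ∀ (n : ℕ) (c : α → ZMod 2), c ∈ C → hammingNorm c = n → 4 ∣ n := by
  intro n
  induction n using Nat.strong_induction_on with
  | _ n ih =>
    intro c hc hn
    by_cases h0 : c = 0
    · rw [h0] at hn
      simp at hn
      rw [← hn]; exact dvd_zero 4
    have h8 := hC.minwt c hc h0
    rw [hammingNorm_eq] at h8
    obtain ⟨s, hsc, hs⟩ := Finset.exists_subset_card_eq (show 5 ≤ (supp c).card by omega)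
    obtain ⟨o, ho, ho8, hso⟩ := exists_octad hC s hs
    have h1 := wt_add c o
    have h2 : s ⊆ supp c ∩ supp o := Finset.subset_inter hsc hso
    have h3 := Finset.card_le_card h2
    have hlt : hammingNorm (c + o) < n := by omega
    have hco : c + o ∈ C := C.add_mem hc ho
    have h4 := ih _ hlt (c + o) hco rfl
    have h5 := even_card_inter_of_dot c o (hC.orth c hc o ho)
    obtain ⟨k, hk⟩ := h5
    obtain ⟨m, hm⟩ := h4
    omega

end Cfsg.Agent.Lib.Helper93_Code24
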