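/-
Helper library (helper93): binary self-dual codes of length 24 with minimum weight ≥ 8, abstractly.
Part 3: sextets as families of tetrads; intersections of octads.
-/
import Mathlib
import Cfsg.Agent.Lib.Helper93_Code24b

set_option autoImplicit false
set_option linter.unusedSectionVars false

namespace Cfsg.Agent.Lib.Helper93_Code24

open Finset

variable {α : Type*} [Fintype α] [DecidableEq α] {C : Submodule (ZMod 2) (α → ZMod 2)}

/-- The sextet of a tetrad. -/
theorem exists_sextet (hC : IsGolayLike C) (t : Finset α) (ht : t.card = 4) :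
    ∃ F : Finset (Finset α), F.card = 6 ∧ t ∈ F ∧ (∀ s ∈ F, s.card = 4) ∧
      (∀ s ∈ F, ∀ s' ∈ F, s ≠ s' → Disjoint s s') ∧ (∀ s ∈ F, ∀ s' ∈ F, ind s + ind s' ∈ C) ∧
      (∀ x : α, ∃ s ∈ F, x ∈ s) ∧ (∀ s : Finset α, s.card ≤ 4 → ind s + ind t ∈ C → s ∈ F) := by
  classical
  set w : α → ZMod 2 := ind t with hw
  have hwt : hammingNorm w = 4 := by rw [hammingNorm_eq, hw, supp_ind, ht]
  have hwS : w ∈ {u : α → ZMod 2 | u - w ∈ C ∧ hammingNorm u ≤ 4} := by
    refine ⟨by rw [sub_self]; exact C.zero_mem, by omega⟩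
  rcases sextet_form hC w with ⟨u, hu, hu3⟩ | ⟨h6, hall⟩
  · exfalso
    rw [hu, Set.mem_singleton_iff] at hwS
    rw [← hwS] at hu3
    omega
  · set S := {u : α → ZMod 2 | u - w ∈ C ∧ hammingNorm u ≤ 4} with hS
    have hfin : S.Finite := Set.toFinite S
    set F0 := hfin.toFinset with hF0
    have memF0 : ∀ u, u ∈ F0 ↔ u ∈ S := by intro u; rw [hF0, Set.Finite.mem_toFinset]
    have hF0c : F0.card = 6 := by
      rw [← h6, Set.ncard_eq_toFinset_card S hfin]
    refine ⟨F0.image supp, ?_, ?_, ?_, ?_, ?_, ?_, ?_⟩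
    · rw [Finset.card_image_of_injective _ supp_injective, hF0c]
    · rw [mem_image]
      exact ⟨w, (memF0 w).2 hwS, by rw [hw, supp_ind]⟩
    · intro s hs
      rw [mem_image] at hs
      obtain ⟨u, hu, rfl⟩ := hs
      rw [← hammingNorm_eq]
      exact (hall u ((memF0 u).1 hu)).1
    · intro s hs s' hs' hne
      rw [mem_image] at hs hs'
      obtain ⟨u, hu, rfl⟩ := hs
      obtain ⟨u', hu', rfl⟩ := hs'
      have : u ≠ u' := by
        intro h; apply hne; rw [h]
      exact (hall u ((memF0 u).1 hu)).2 u' ((memF0 u').1 hu') this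
    · intro s hs s' hs'
      rw [mem_image] at hs hs'
      obtain ⟨u, hu, rfl⟩ := hs
      obtain ⟨u', hu', rfl⟩ := hs'
      rw [ind_supp, ind_supp]
      have h1 := ((memF0 u).1 hu).1
      have h2 := ((memF0 u').1 hu').1
      have : u + u' = (u - w) - (u' - w) := by
        rw [← sub_eq_add']; abel
      rw [this]
      exact C.sub_mem h1 h2
    · -- covering
      have hdisj : (F0 : Set (α → ZMod 2)).PairwiseDisjoint supp := by
        intro u hu v hv hne
        rw [Finset.mem_coe, memF0] at hu hv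
        exact (hall u hu).2 v hv hne
      have h1 := Finset.card_biUnion hdisj
      have h2 : ∑ u ∈ F0, (supp u).card = 24 := by
        have : ∀ u ∈ F0, (supp u).card = 4 := by
          intro u hu
          rw [← hammingNorm_eq]
          exact (hall u ((memF0 u).1 hu)).1
        rw [Finset.sum_congr rfl this, Finset.sum_const, smul_eq_mul, hF0c]
      have h3 : F0.biUnion supp = univ := by
        apply Finset.eq_univ_of_card
        rw [h1, h2, hC.card24]
      intro x
      have hx : x ∈ F0.biUnion supp := by rw [h3]; exact mem_univ x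
      rw [Finset.mem_biUnion] at hx
      obtain ⟨u, hu, hxu⟩ := hx
      exact ⟨supp u, mem_image_of_mem _ hu, hxu⟩
    · intro s hs hst
      rw [mem_image]
      refine ⟨ind s, ?_, supp_ind s⟩
      rw [memF0]
      refine ⟨?_, ?_⟩
      · rw [sub_eq_add']; exact hst
      · rw [hammingNorm_eq, supp_ind]; exact hs

/-- Two distinct octads meet in 0, 2 or 4 points. -/
theorem octad_inter (hC : IsGolayLike C) {c c' : α → ZMod 2} (hc : c ∈ C) (hc' : c' ∈ C)
    (h8 : hammingNorm c = 8) (h8' : hammingNorm c' = 8) (hne : c ≠ c') :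
    (supp c ∩ supp c').card = 0 ∨ (supp c ∩ supp c').card = 2 ∨ (supp c ∩ supp c').card = 4 := by
  have h1 : c - c' ∈ C := C.sub_mem hc hc'
  have h2 := hC.minwt _ h1 (sub_ne_zero.2 hne)
  rw [sub_eq_add'] at h2
  have h3 := wt_add c c'
  obtain ⟨k, hk⟩ := even_card_inter_of_dot c c' (hC.orth c hc c' hc')
  omega

end Cfsg.Agent.Lib.Helper93_Code24
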