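/-
Helper library (helper93): the concrete length-24 code `Cfsg.golayCode` satisfies the abstract hypotheses of
`Helper93_Code24`; set-level facts about octads (intersections, sextets, disjoint octads).
-/
import Mathlib
import Cfsg.Agent.Lib.Helper93_Code24c
import Cfsg.Agent.Lib.Helper7_Code
import Cfsg.Agent.Lib.Helper8_GolayEven
import Cfsg.Agent.S0358

set_option autoImplicit false

namespace Cfsg.Agent.Lib.Helper93_GolayConcrete

open Cfsg Finset
open Cfsg.Agent.Lib.Helper93_Code24

theorem support₂_eq_supp (w : GolayPt → ZMod 2) : support₂ w = supp w := rfl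

theorem golayLike : IsGolayLike golayCode where
  card24 := by decide
  dim := Cfsg.Agent.S0358.result
  orth := fun v hv w hw => Cfsg.Agent.Lib.Helper8_GolayEven.golay_orth v w hv hw
  minwt := fun w hw h0 => by
    rw [hammingNorm_eq, ← support₂_eq_supp]
    exact Cfsg.Agent.Lib.Helper7_Code.eight_le_weight w hw h0

/-- Octads are the supports of the weight-8 code words. -/
theorem mem_octads_iff (o : Finset GolayPt) :
    o ∈ octads ↔ ∃ c ∈ golayCode, supp c = o ∧ hammingNorm c = 8 := by
  unfold octads wordsOfWeight supports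
  constructor
  · rintro ⟨⟨c, hc, rfl⟩, h8⟩
    exact ⟨c, hc, rfl, h8⟩
  · rintro ⟨c, hc, rfl, h8⟩
    exact ⟨⟨c, hc, rfl⟩, h8⟩

theorem octad_card {o : Finset GolayPt} (ho : o ∈ octads) : o.card = 8 := ho.2

theorem ind_mem_of_octad {o : Finset GolayPt} (ho : o ∈ octads) : ind o ∈ golayCode := by
  obtain ⟨c, hc, rfl, _⟩ := (mem_octads_iff o).1 ho
  rw [ind_supp]; exact hc

theorem octad_of_ind {o : Finset GolayPt} (h : ind o ∈ golayCode) (h8 : o.card = 8) : o ∈ octads := by
  rw [mem_octads_iff]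
  exact ⟨ind o, h, supp_ind o, by rw [hammingNorm_eq, supp_ind, h8]⟩

/-- Two distinct octads meet in 0, 2 or 4 points. -/
theorem octads_inter {o o' : Finset GolayPt} (ho : o ∈ octads) (ho' : o' ∈ octads) (hne : o ≠ o') :
    (o ∩ o').card = 0 ∨ (o ∩ o').card = 2 ∨ (o ∩ o').card = 4 := by
  have h := octad_inter golayLike (ind_mem_of_octad ho) (ind_mem_of_octad ho')
    (by rw [hammingNorm_eq, supp_ind, octad_card ho]) (by rw [hammingNorm_eq, supp_ind, octad_card ho'])
    (by intro h; apply hne; rw [← supp_ind o, ← supp_ind o', h])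
  rwa [supp_ind, supp_ind] at h

/-- Any two octads meet evenly. -/
theorem octads_inter_even {o o' : Finset GolayPt} (ho : o ∈ octads) (ho' : o' ∈ octads) :
    Even (o ∩ o').card := by
  have := even_card_inter_of_dot (ind o) (ind o')
    (golayLike.orth _ (ind_mem_of_octad ho) _ (ind_mem_of_octad ho'))
  rwa [supp_ind, supp_ind] at this

theorem ind_union_of_disjoint {s s' : Finset GolayPt} (h : Disjoint s s') :
    ind (s ∪ s') = ind s + ind s' := by
  apply supp_injective
  rw [supp_add, supp_ind, supp_ind, supp_ind]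
  ext x
  rw [mem_union, mem_symmDiff]
  constructor
  · rintro (hx | hx)
    · left; exact ⟨hx, fun h' => (Finset.disjoint_left.1 h) hx h'⟩
    · right; exact ⟨hx, fun h' => (Finset.disjoint_left.1 h) h' hx⟩
  · rintro (⟨hx, _⟩ | ⟨hx, _⟩)
    · left; exact hx
    · right; exact hx

/-- The sextet of a tetrad, with unions of pairs being octads. -/
theorem exists_sextet' (t : Finset GolayPt) (ht : t.card = 4) :
    ∃ F : Finset (Finset GolayPt), F.card = 6 ∧ t ∈ F ∧ (∀ s ∈ F, s.card = 4) ∧
      (∀ s ∈ F, ∀ s' ∈ F, s ≠ s' → Disjoint s s') ∧ (∀ s ∈ F, ∀ s' ∈ F, s ≠ s' → s ∪ s' ∈ octads) ∧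
      (∀ s : Finset GolayPt, s.card = 4 → Disjoint s t → s ∪ t ∈ octads → s ∈ F) := by
  obtain ⟨F, hF6, htF, h4, hdisj, hsum, _, hcomp⟩ := exists_sextet golayLike t ht
  refine ⟨F, hF6, htF, h4, hdisj, ?_, ?_⟩
  · intro s hs s' hs' hne
    have hd := hdisj s hs s' hs' hne
    apply octad_of_ind
    · rw [ind_union_of_disjoint hd]; exact hsum s hs s' hs'
    · rw [card_union_of_disjoint hd, h4 s hs, h4 s' hs']
  · intro s hs hd ho
    apply hcomp s (by omega)
    rw [← ind_union_of_disjoint hd]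
    exact ind_mem_of_octad ho


/-- Two octads meeting in 4 points have a common disjoint octad. -/
theorem exists_disjoint_of_inter_four {o o' : Finset GolayPt} (ho : o ∈ octads) (ho' : o' ∈ octads)
    (h4 : (o ∩ o').card = 4) : ∃ a ∈ octads, Disjoint a o ∧ Disjoint a o' := by
  set t := o ∩ o' with ht
  obtain ⟨F, hF6, htF, hF4, hdisj, hoct, hcomp⟩ := exists_sextet' t h4
  have hto : t ⊆ o := inter_subset_left
  have hto' : t ⊆ o' := inter_subset_right
  have h2c : (o \ t).card = 4 := by
    rw [card_sdiff_of_subset hto, octad_card ho, h4]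
  have h3c : (o' \ t).card = 4 := by
    rw [card_sdiff_of_subset hto', octad_card ho', h4]
  have h2F : o \ t ∈ F := by
    apply hcomp _ h2c sdiff_disjoint
    rw [sdiff_union_of_subset hto]; exact ho
  have h3F : o' \ t ∈ F := by
    apply hcomp _ h3c sdiff_disjoint
    rw [sdiff_union_of_subset hto']; exact ho'
  have hRc : 1 < (((F.erase t).erase (o \ t)).erase (o' \ t)).card := by
    have h1 := Finset.pred_card_le_card_erase (s := F) (a := t)
    have h2 := Finset.pred_card_le_card_erase (s := F.erase t) (a := o \ t)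
    have h3 := Finset.pred_card_le_card_erase (s := (F.erase t).erase (o \ t)) (a := o' \ t)
    omega
  set R := ((F.erase t).erase (o \ t)).erase (o' \ t) with hR
  obtain ⟨s4, hs4, s5, hs5, hne⟩ := Finset.one_lt_card.1 hRc
  have memR : ∀ s, s ∈ R → s ∈ F ∧ s ≠ t ∧ s ≠ o \ t ∧ s ≠ o' \ t := by
    intro s hs
    rw [hR, mem_erase, mem_erase, mem_erase] at hs
    exact ⟨hs.2.2.2, hs.2.2.1, hs.2.1, hs.1⟩
  obtain ⟨h4F, h4t, h4t2, h4t3⟩ := memR s4 hs4
  obtain ⟨h5F, h5t, h5t2, h5t3⟩ := memR s5 hs5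
  have ho_eq : o = t ∪ (o \ t) := by rw [union_sdiff_of_subset hto]
  have ho'_eq : o' = t ∪ (o' \ t) := by rw [union_sdiff_of_subset hto']
  refine ⟨s4 ∪ s5, hoct s4 h4F s5 h5F hne, ?_, ?_⟩
  · rw [ho_eq, disjoint_union_left, disjoint_union_right, disjoint_union_right]
    exact ⟨⟨hdisj s4 h4F t htF h4t, hdisj s4 h4F _ h2F h4t2⟩,
      ⟨hdisj s5 h5F t htF h5t, hdisj s5 h5F _ h2F h5t2⟩⟩
  · rw [ho'_eq, disjoint_union_left, disjoint_union_right, disjoint_union_right]
    exact ⟨⟨hdisj s4 h4F t htF h4t, hdisj s4 h4F _ h3F h4t3⟩,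
      ⟨hdisj s5 h5F t htF h5t, hdisj s5 h5F _ h3F h5t3⟩⟩

/-- Two octads meeting in 2 points have no common disjoint octad. -/
theorem no_disjoint_of_inter_two {o o' a : Finset GolayPt} (ho : o ∈ octads) (ho' : o' ∈ octads)
    (ha : a ∈ octads) (h2 : (o ∩ o').card = 2) (hao : Disjoint a o) (hao' : Disjoint a o') : False := by
  have hc : ind a + (ind o + ind o') ∈ golayCode :=
    golayCode.add_mem (ind_mem_of_octad ha) (golayCode.add_mem (ind_mem_of_octad ho) (ind_mem_of_octad ho'))
  have h1 := wt_add (ind o) (ind o')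
  rw [supp_ind, supp_ind, hammingNorm_eq (ind o), hammingNorm_eq (ind o'), supp_ind, supp_ind,
    octad_card ho, octad_card ho', h2] at h1
  have h3 := wt_add (ind a) (ind o + ind o')
  have h4 : (supp (ind a) ∩ supp (ind o + ind o')).card = 0 := by
    rw [Finset.card_eq_zero, ← Finset.disjoint_iff_inter_eq_empty, supp_ind, supp_add, supp_ind, supp_ind]
    rw [Finset.disjoint_left]
    intro x hxa hx
    rw [mem_symmDiff] at hx
    rcases hx with ⟨hx, _⟩ | ⟨hx, _⟩
    · exact (Finset.disjoint_left.1 hao) hxa hx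
    · exact (Finset.disjoint_left.1 hao') hxa hx
  rw [h4, hammingNorm_eq (ind a), supp_ind, octad_card ha] at h3
  have h5 := Cfsg.Agent.Lib.Helper7_Code.weight_mem _ hc
  rw [support₂_eq_supp, ← hammingNorm_eq] at h5
  omega

/-- Two octads meeting in 2 points are joined by a path of length 3 of disjoint octads. -/
theorem exists_path_of_inter_two {o o' : Finset GolayPt} (ho : o ∈ octads) (ho' : o' ∈ octads)
    (h2 : (o ∩ o').card = 2) :
    ∃ a ∈ octads, ∃ b ∈ octads, Disjoint o a ∧ Disjoint a b ∧ Disjoint b o' := by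
  have hDc : (o' \ o).card = 6 := by
    have := card_sdiff_add_card_inter o' o
    rw [inter_comm, h2, octad_card ho'] at this
    omega
  obtain ⟨t1, ht1D, ht1c⟩ := Finset.exists_subset_card_eq (show 4 ≤ (o' \ o).card by omega)
  have ht1o' : t1 ⊆ o' := ht1D.trans sdiff_subset
  have ht1o : Disjoint t1 o := by
    rw [Finset.disjoint_left]
    intro x hx hxo
    have := ht1D hx
    rw [mem_sdiff] at this
    exact this.2 hxo
  obtain ⟨F, hF6, htF, hF4, hdisj, hoct, hcomp⟩ := exists_sextet' t1 ht1c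
  have h2c : (o' \ t1).card = 4 := by
    rw [card_sdiff_of_subset ht1o', octad_card ho', ht1c]
  have h2F : o' \ t1 ∈ F := by
    apply hcomp _ h2c sdiff_disjoint
    rw [sdiff_union_of_subset ht1o']; exact ho'
  have hRc : 4 ≤ ((F.erase t1).erase (o' \ t1)).card := by
    have h1 := Finset.pred_card_le_card_erase (s := F) (a := t1)
    have h2' := Finset.pred_card_le_card_erase (s := F.erase t1) (a := o' \ t1)
    omega
  set R := (F.erase t1).erase (o' \ t1) with hR
  have memR : ∀ s, s ∈ R → s ∈ F ∧ s ≠ t1 ∧ s ≠ o' \ t1 := by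
    intro s hs
    rw [hR, mem_erase, mem_erase] at hs
    exact ⟨hs.2.2, hs.2.1, hs.1⟩
  have ho'_eq : o' = t1 ∪ (o' \ t1) := by rw [union_sdiff_of_subset ht1o']
  have hRo' : ∀ u ∈ R, Disjoint u o' := by
    intro u hu
    obtain ⟨huF, hut1, hut2⟩ := memR u hu
    rw [ho'_eq, disjoint_union_right]
    exact ⟨hdisj u huF t1 htF hut1, hdisj u huF _ h2F hut2⟩
  -- some u in R misses o
  have hex : ∃ u ∈ R, (u ∩ o).card = 0 := by
    by_contra hcon
    push Not at hcon
    have hge : ∀ u ∈ R, 2 ≤ (u ∩ o).card := by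
      intro u hu
      obtain ⟨huF, hut1, hut2⟩ := memR u hu
      have hoctu : t1 ∪ u ∈ octads := hoct t1 htF u huF (Ne.symm hut1)
      have hev := octads_inter_even hoctu ho
      have : (t1 ∪ u) ∩ o = u ∩ o := by
        rw [union_inter_distrib_right, Finset.disjoint_iff_inter_eq_empty.1 ht1o, empty_union]
      rw [this] at hev
      obtain ⟨k, hk⟩ := hev
      have := hcon u hu
      omega
    have hpd : (R : Set (Finset GolayPt)).PairwiseDisjoint (fun u => u ∩ o) := by
      intro u hu v hv hne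
      rw [Finset.mem_coe] at hu hv
      have := hdisj u (memR u hu).1 v (memR v hv).1 hne
      exact this.mono inter_subset_left inter_subset_left
    have h1 := Finset.card_biUnion hpd
    have h3 : R.biUnion (fun u => u ∩ o) ⊆ o \ o' := by
      intro x hx
      rw [mem_biUnion] at hx
      obtain ⟨u, hu, hxu⟩ := hx
      rw [mem_inter] at hxu
      rw [mem_sdiff]
      exact ⟨hxu.2, fun hxo' => (Finset.disjoint_left.1 (hRo' u hu)) hxu.1 hxo'⟩
    have h4 : (o \ o').card = 6 := by
      have := card_sdiff_add_card_inter o o'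
      rw [h2, octad_card ho] at this
      omega
    have h5 := Finset.card_le_card h3
    have h6 : 2 * R.card ≤ ∑ u ∈ R, (u ∩ o).card := by
      calc 2 * R.card = ∑ _u ∈ R, 2 := by rw [Finset.sum_const, smul_eq_mul, mul_comm]
        _ ≤ ∑ u ∈ R, (u ∩ o).card := Finset.sum_le_sum hge
    omega
  obtain ⟨u, hu, hu0⟩ := hex
  obtain ⟨huF, hut1, hut2⟩ := memR u hu
  have hua : t1 ∪ u ∈ octads := hoct t1 htF u huF (Ne.symm hut1)
  have huo : Disjoint u o := by
    rw [Finset.disjoint_iff_inter_eq_empty]; exact Finset.card_eq_zero.1 hu0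
  have hao : Disjoint o (t1 ∪ u) := by
    rw [disjoint_union_right]
    exact ⟨ht1o.symm, huo.symm⟩
  have hao' : ((t1 ∪ u) ∩ o').card = 4 := by
    have : (t1 ∪ u) ∩ o' = t1 := by
      rw [union_inter_distrib_right, Finset.disjoint_iff_inter_eq_empty.1 (hRo' u hu), union_empty]
      exact inter_eq_left.2 ht1o'
    rw [this, ht1c]
  obtain ⟨b, hb, hba, hbo'⟩ := exists_disjoint_of_inter_four hua ho' hao'
  exact ⟨t1 ∪ u, hua, b, hb, hao, hba.symm, hbo'⟩

end Cfsg.Agent.Lib.Helper93_GolayConcrete
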