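import Mathlib
import Cfsg.Agent.S0400
import Cfsg.Agent.Lib.Helper26_LeechCensus

/-!
The orbit relation of the stabiliser of the minimal vector `v0 = 4 e_4 - 4 e_13` in `Co0`, on raw
vectors, and the basic moves: monomial elements fixing `v0`, and the element `xi` of helper7.
-/

set_option autoImplicit false
open Cfsg
open scoped Pointwise

namespace Cfsg.Agent.Lib.Helper26_Co2

open Cfsg.Agent.Lib.Helper26_Golay Cfsg.Agent.Lib.Helper26_Leech Cfsg.Agent.Lib.Helper92_Monomial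
  Cfsg.Agent.Lib.Helper7_Xi Cfsg.Agent.Lib.Helper7_M24
open Cfsg.Agent.S0394 (sgn fO famA famB famO)

/-- `v0` as a lattice vector. -/
def v0L : leechLattice := ⟨v0, v0_mem⟩

/-- The orbit relation of the stabiliser of `v0` in `Co0`, on raw vectors. -/
def Rs (x y : GolayPt → ℤ) : Prop :=
  ∃ g ∈ Co0, g v0L = v0L ∧ ∃ hx : x ∈ leechLattice,
    ((g ⟨x, hx⟩ : leechLattice) : GolayPt → ℤ) = y

theorem Rs.mem_right {x y : GolayPt → ℤ} (h : Rs x y) : y ∈ leechLattice := by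
  obtain ⟨g, _, _, hx, rfl⟩ := h
  exact (g ⟨x, hx⟩).2

theorem Rs.mem_left {x y : GolayPt → ℤ} (h : Rs x y) : x ∈ leechLattice := by
  obtain ⟨g, _, _, hx, _⟩ := h
  exact hx

theorem Rs.refl {x : GolayPt → ℤ} (hx : x ∈ leechLattice) : Rs x x :=
  ⟨1, Co0.one_mem, rfl, hx, rfl⟩

theorem Rs.trans {x y z : GolayPt → ℤ} (h1 : Rs x y) (h2 : Rs y z) : Rs x z := by
  obtain ⟨g, hg, hg0, hx, rfl⟩ := h1
  obtain ⟨h, hh, hh0, hy, rfl⟩ := h2
  refine ⟨h * g, Co0.mul_mem hh hg, ?_, hx, rfl⟩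
  rw [Equiv.Perm.mul_apply, hg0, hh0]

theorem Rs.symm {x y : GolayPt → ℤ} (h : Rs x y) : Rs y x := by
  obtain ⟨g, hg, hg0, hx, rfl⟩ := h
  refine ⟨g⁻¹, Co0.inv_mem hg, ?_, (g ⟨x, hx⟩).2, ?_⟩
  · rw [Equiv.Perm.inv_def, Equiv.symm_apply_eq, hg0]
  · show ((g⁻¹ (g ⟨x, hx⟩) : leechLattice) : GolayPt → ℤ) = x
    rw [Equiv.Perm.inv_def, Equiv.symm_apply_apply]

theorem permVec_v0 (σ : Equiv.Perm GolayPt) (ha : σ pa = pa) (hb : σ pb = pb) :
    permVec σ v0 = v0 := by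
  funext i
  rw [permVec_apply, v0_apply, v0_apply]
  have h1 : σ.symm i = pa ↔ i = pa := by
    rw [Equiv.symm_apply_eq, ha]
  have h2 : σ.symm i = pb ↔ i = pb := by
    rw [Equiv.symm_apply_eq, hb]
  simp only [h1, h2]

theorem signFlip_v0 (c : Finset GolayPt) (ha : pa ∉ c) (hb : pb ∉ c) : signFlip c v0 = v0 := by
  funext i
  by_cases hi : i ∈ c
  · rw [signFlip_of_mem hi, v0_apply]
    have h1 : i ≠ pa := fun h => ha (h ▸ hi)
    have h2 : i ≠ pb := fun h => hb (h ▸ hi)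
    rw [if_neg h1, if_neg h2]
    rfl
  · rw [signFlip_of_notMem hi]

/-- Monomial moves fixing `v0`. -/
theorem Rs_mono {x : GolayPt → ℤ} (hx : x ∈ leechLattice) (σ : Equiv.Perm GolayPt) (hσ : σ ∈ M24)
    (ha : σ pa = pa) (hb : σ pb = pb)
    (u : GolayPt → ZMod 2) (hu : u ∈ golayCode) (hua : u pa = 0) (hub : u pb = 0) :
    Rs x (signFlip (support₂ u) (permVec σ x)) := by
  refine ⟨monoPerm σ hσ u hu, monoPerm_mem_Co0 σ hσ u hu, ?_, hx, ?_⟩
  · apply Subtype.ext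
    rw [monoPerm_apply, signedPerm_eq]
    show signFlip (support₂ u) (permVec σ v0) = v0
    rw [permVec_v0 σ ha hb, signFlip_v0]
    · rw [mem_support₂, hua]; decide
    · rw [mem_support₂, hub]; decide
  · rw [monoPerm_apply, signedPerm_eq]

theorem Rs_perm {x : GolayPt → ℤ} (hx : x ∈ leechLattice) (σ : Equiv.Perm GolayPt) (hσ : σ ∈ M24)
    (ha : σ pa = pa) (hb : σ pb = pb) : Rs x (permVec σ x) := by
  have := Rs_mono hx σ hσ ha hb 0 golayCode.zero_mem rfl rfl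
  rwa [Cfsg.Agent.S0400.support₂_zero', Cfsg.Agent.S0400.signFlip_empty] at this

theorem Rs_flip {x : GolayPt → ℤ} (hx : x ∈ leechLattice) (u : GolayPt → ZMod 2)
    (hu : u ∈ golayCode) (hua : u pa = 0) (hub : u pb = 0) : Rs x (signFlip (support₂ u) x) := by
  have := Rs_mono hx 1 M24.one_mem rfl rfl u hu hua hub
  rwa [Cfsg.Agent.S0400.permVec_one] at this

theorem xi_v0 : ∀ p, A.mulVec v0 p = 2 * v0 p := by
  decide +kernel

/-- The move by `xi`. -/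
theorem Rs_xi {x : GolayPt → ℤ} (hx : x ∈ leechLattice) (y : GolayPt → ℤ)
    (h : ∀ p, A.mulVec x p = 2 * y p) : Rs x y := by
  refine ⟨xi, xi_mem_Co0, ?_, hx, xi_eq_of ⟨x, hx⟩ y h⟩
  apply Subtype.ext
  exact xi_eq_of v0L v0 xi_v0

end Cfsg.Agent.Lib.Helper26_Co2
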