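import Mathlib
import Cfsg.Agent.Lib.Helper26_Co2Rel
import Cfsg.Agent.Lib.Helper26_Co2Data
import Cfsg.Agent.Lib.Helper26_SubsetsThms
import Cfsg.Agent.Lib.Helper26_OctStabThms

/-!
The pointwise stabiliser `M22` of the points `4` and `13` in `M24`: orbits on duads and octads, and
the monomial part of the stabiliser of `v0`: two minimal vectors of the same shape with the same
coordinates at the two points are conjugate under the stabiliser of `v0`.
-/

set_option autoImplicit false
set_option linter.constructorNameAsVariable false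
open Cfsg
open scoped Pointwise

namespace Cfsg.Agent.Lib.Helper26_Co2

open Cfsg.Agent.Lib.Helper26_Golay Cfsg.Agent.Lib.Helper26_Leech Cfsg.Agent.Lib.Helper92_Monomial
  Cfsg.Agent.Lib.Helper7_M24
open Cfsg.Agent.S0394 (sgn fO famA famB famO)
open Cfsg.Agent.S0400 (permVec_sgn signFlip_sgn sgn_congr mem_smul_iff)

/-- The pointwise stabiliser of the points `4` and `13` in `M24`. -/
def co2H : Subgroup (Equiv.Perm GolayPt) :=
  (M24 ⊓ MulAction.stabilizer (Equiv.Perm GolayPt) ({pa} : Finset GolayPt)) ⊓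
    MulAction.stabilizer (Equiv.Perm GolayPt) ({pb} : Finset GolayPt)

theorem smul_singleton_eq_iff (g : Equiv.Perm GolayPt) (p : GolayPt) :
    g • ({p} : Finset GolayPt) = {p} ↔ g p = p := by
  rw [Finset.smul_finset_singleton, Finset.singleton_inj, Equiv.Perm.smul_def]

theorem mem_co2H_iff (g : Equiv.Perm GolayPt) :
    g ∈ co2H ↔ g ∈ M24 ∧ g pa = pa ∧ g pb = pb := by
  unfold co2H
  rw [Subgroup.mem_inf, Subgroup.mem_inf, and_assoc]
  have h1 : g ∈ MulAction.stabilizer (Equiv.Perm GolayPt) ({pa} : Finset GolayPt) ↔ g pa = pa := by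
    rw [MulAction.mem_stabilizer_iff, smul_singleton_eq_iff]
  have h2 : g ∈ MulAction.stabilizer (Equiv.Perm GolayPt) ({pb} : Finset GolayPt) ↔ g pb = pb := by
    rw [MulAction.mem_stabilizer_iff, smul_singleton_eq_iff]
  rw [h1, h2]

theorem enc_single_pa : enc ({pa} : Finset GolayPt) = 2 ^ 4 := by decide
theorem enc_single_pb : enc ({pb} : Finset GolayPt) = 2 ^ 13 := by decide

theorem co2Gens_in : GensIn co2H co2Gens 2 := by
  have h := co2Gens_ok
  rw [allFold_eq_true] at h
  intro k hk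
  have h1 := h k hk
  rw [Bool.and_eq_true, Bool.and_eq_true, beq_iff_eq, beq_iff_eq] at h1
  obtain ⟨σ, hσ, hT⟩ := exists_of_tblInM24 h1.1.1
  refine ⟨σ, ?_, hT⟩
  unfold co2H
  refine Subgroup.mem_inf.mpr ⟨Subgroup.mem_inf.mpr ⟨hσ, ?_⟩, ?_⟩
  · rw [MulAction.mem_stabilizer_iff]
    apply enc_injective
    rw [enc_smul hT, enc_single_pa, h1.1.2]
  · rw [MulAction.mem_stabilizer_iff]
    apply enc_injective
    rw [enc_smul hT, enc_single_pb, h1.2]

theorem inv2_enc (P : Finset GolayPt) :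
    inv2 (enc P) = 2 * (decide (pa ∈ P)).toNat + (decide (pb ∈ P)).toNat := by
  unfold inv2
  rw [← decide_pa, ← decide_pb]

theorem inv2_lt (n : ℕ) : inv2 n < 4 := by
  unfold inv2
  have h1 := Bool.toNat_le (n.testBit 4)
  have h2 := Bool.toNat_le (n.testBit 13)
  omega

theorem inv2_eq_of_iff {P P' : Finset GolayPt} (ha : pa ∈ P ↔ pa ∈ P') (hb : pb ∈ P ↔ pb ∈ P') :
    inv2 (enc P) = inv2 (enc P') := by
  rw [inv2_enc, inv2_enc, decide_eq_decide.mpr ha, decide_eq_decide.mpr hb]

theorem baseO_lt (t : ℕ) : baseO t < 2 ^ 24 := octAt_lt _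
theorem baseD_lt (t : ℕ) : baseD t < 2 ^ 24 := duadAt_lt _

/-- Every octad is the image of the base octad with the same invariant. -/
theorem exists_smul_baseO {P : Finset GolayPt} (hP : P ∈ octads) :
    ∃ g ∈ co2H, g • dec (baseO (inv2 (enc P))) = P := by
  have h0 := (mem_octads_iff P).mp hP
  unfold octList at h0
  obtain ⟨j, hj, hjP⟩ := List.mem_map.mp h0
  rw [List.mem_range] at hj
  have h1 := (mask_forest co2H co2Gens 2 co2Gens_in octAt co2OFP co2OFG co2OFD co2OFR 759
    co2OForest_ok j hj).2.2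
  have h2 := (allFold_eq_true _ _).mp co2OForest_rho j hj
  rw [beq_iff_eq] at h2
  rw [h2, hjP] at h1
  have h3 : MaskRel co2H (enc (dec (baseO (inv2 (enc P))))) (enc P) := by
    rw [enc_dec _ (baseO_lt _)]
    exact h1
  exact exists_of_maskRel h3

/-- Every duad is the image of the base duad with the same invariant. -/
theorem exists_smul_baseD {P : Finset GolayPt} (hP : P.card = 2) :
    ∃ g ∈ co2H, g • dec (baseD (inv2 (enc P))) = P := by
  obtain ⟨j, hj, hjP⟩ := exists_index_of_card_two hP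
  have h1 := (mask_forest co2H co2Gens 2 co2Gens_in duadAt co2DFP co2DFG co2DFD co2DFR 276
    co2DForest_ok j hj).2.2
  have h2 := (allFold_eq_true _ _).mp co2DForest_rho j hj
  rw [beq_iff_eq] at h2
  rw [h2, hjP] at h1
  have h3 : MaskRel co2H (enc (dec (baseD (inv2 (enc P))))) (enc P) := by
    rw [enc_dec _ (baseD_lt _)]
    exact h1
  exact exists_of_maskRel h3

/-- `M22` is transitive on the points other than `4` and `13`. -/
theorem exists_co2H_point {i i' : GolayPt} (hi : i ≠ pa) (hi2 : i ≠ pb) (hi' : i' ≠ pa)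
    (hi2' : i' ≠ pb) : ∃ g ∈ co2H, g i = i' := by
  have hc : ({pa, i} : Finset GolayPt).card = 2 := Finset.card_pair (Ne.symm hi)
  have hc' : ({pa, i'} : Finset GolayPt).card = 2 := Finset.card_pair (Ne.symm hi')
  have hinv : inv2 (enc ({pa, i} : Finset GolayPt)) = inv2 (enc ({pa, i'} : Finset GolayPt)) := by
    apply inv2_eq_of_iff
    · simp
    · rw [Finset.mem_insert, Finset.mem_singleton, Finset.mem_insert, Finset.mem_singleton]
      constructor
      · rintro (h | h)
        · exact absurd h pa_ne_pb.symm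
        · exact absurd h.symm hi2
      · rintro (h | h)
        · exact absurd h pa_ne_pb.symm
        · exact absurd h.symm hi2'
  obtain ⟨g₁, hg₁, e₁⟩ := exists_smul_baseD hc
  obtain ⟨g₂, hg₂, e₂⟩ := exists_smul_baseD hc'
  rw [← hinv] at e₂
  refine ⟨g₂ * g₁⁻¹, co2H.mul_mem hg₂ (co2H.inv_mem hg₁), ?_⟩
  have hg : (g₂ * g₁⁻¹) • ({pa, i} : Finset GolayPt) = {pa, i'} := by
    rw [← e₁, mul_smul, inv_smul_smul, e₂]
  have hmem := (mem_co2H_iff _).mp (co2H.mul_mem hg₂ (co2H.inv_mem hg₁))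
  have h1 : (g₂ * g₁⁻¹) i ∈ ({pa, i'} : Finset GolayPt) := by
    rw [← hg]
    exact Finset.smul_mem_smul_finset (a := g₂ * g₁⁻¹) (Finset.mem_insert_of_mem
      (Finset.mem_singleton_self i))
  rw [Finset.mem_insert, Finset.mem_singleton] at h1
  rcases h1 with h1 | h1
  · exfalso
    apply hi
    apply (g₂ * g₁⁻¹).injective
    rw [h1, hmem.2.1]
  · exact h1


/-! ### Sign changes at the base duads and octads -/

/-- The base octad with invariant `t`. -/
def BO (t : ℕ) : Finset GolayPt := dec (baseO t)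

/-- The base duad with invariant `t`. -/
def BD (t : ℕ) : Finset GolayPt := dec (baseD t)

theorem mem_BO (t : ℕ) (p : GolayPt) : p ∈ BO t ↔ (baseO t).testBit (idx p) = true := mem_dec _ _
theorem mem_BD (t : ℕ) (p : GolayPt) : p ∈ BD t ↔ (baseD t).testBit (idx p) = true := mem_dec _ _

theorem rho_lt : ∀ t : Fin 4, get16 co2ORho t.val < 759 ∧ get16 co2DRho t.val < 276 := by
  decide +kernel

theorem BO_mem (t : Fin 4) : BO t.val ∈ octads := by
  unfold BO
  rw [mem_octads_iff, enc_dec _ (baseO_lt _)]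
  unfold baseO octList
  exact List.mem_map.mpr ⟨_, List.mem_range.mpr (rho_lt t).1, rfl⟩

theorem BD_card (t : Fin 4) : (BD t.val).card = 2 := card_dec_duadAt (rho_lt t).2

theorem idx_ne_of_ne_pa {x : GolayPt} (h : x ≠ pa) : idx x ≠ 4 := by
  intro h'
  apply h
  apply idx_injective
  rw [h', idx_pa]

theorem idx_ne_of_ne_pb {x : GolayPt} (h : x ≠ pb) : idx x ≠ 13 := by
  intro h'
  apply h
  apply idx_injective
  rw [h', idx_pb]

/-- The code word of a mask in the flip lists: it avoids the two points. -/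
theorem flip_word {t : Fin 4} {m : ℕ} (hm : m ∈ pairL t.val ++ singL t.val) :
    wordOf m ∈ golayCode ∧ wordOf m pa = 0 ∧ wordOf m pb = 0 := by
  obtain ⟨h1, h2, h3⟩ := flipL_ok t m hm
  refine ⟨(wordOf_mem_golayCode_iff m (lt_of_isCode h1)).mpr h1, ?_, ?_⟩
  · rw [wordOf_apply, idx_pa, h2]; rfl
  · rw [wordOf_apply, idx_pb, h3]; rfl

theorem notMem_symmDiff_of_iff {N N' : Finset GolayPt} {p : GolayPt} (h : p ∈ N ↔ p ∈ N') :
    p ∉ symmDiff N N' := by
  rw [Finset.mem_symmDiff]
  tauto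

theorem even_card_symmDiff {N N' : Finset GolayPt} (h : Even N.card) (h' : Even N'.card) :
    Even (symmDiff N N').card := by
  have := card_symmDiff_add N N'
  obtain ⟨a, ha⟩ := h
  obtain ⟨b, hb⟩ := h'
  exact ⟨a + b - (N ∩ N').card, by omega⟩

theorem mem_iff_of_sgn_eq {c : ℤ} (hc : 0 < c) {B N N' : Finset GolayPt} (hN : N ⊆ B)
    (hN' : N' ⊆ B) {p : GolayPt} (h : sgn c B N p = sgn c B N' p) : p ∈ N ↔ p ∈ N' := by
  by_cases hp : p ∈ B
  · by_cases h1 : p ∈ N <;> by_cases h2 : p ∈ N'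
    · exact ⟨fun _ => h2, fun _ => h1⟩
    · rw [Cfsg.Agent.S0394.sgn_of_mem_neg hp h1, Cfsg.Agent.S0394.sgn_of_mem_pos hp h2] at h
      omega
    · rw [Cfsg.Agent.S0394.sgn_of_mem_pos hp h1, Cfsg.Agent.S0394.sgn_of_mem_neg hp h2] at h
      omega
    · exact ⟨fun h' => absurd h' h1, fun h' => absurd h' h2⟩
  · exact ⟨fun h' => absurd (hN h') hp, fun h' => absurd (hN' h') hp⟩

theorem baseB_aux (t : Fin 4) : ∀ n : ℕ, ∀ N N' : Finset GolayPt, (symmDiff N N').card = n →
    N ⊆ BO t.val → N' ⊆ BO t.val → Even N.card → Even N'.card → (pa ∈ N ↔ pa ∈ N') →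
    (pb ∈ N ↔ pb ∈ N') → Rs (sgn 2 (BO t.val) N) (sgn 2 (BO t.val) N') := by
  intro n
  induction n using Nat.strong_induction_on with
  | _ n ih =>
    intro N N' hn hN hN' hE hE' ha hb
    have hmem : sgn 2 (BO t.val) N ∈ leechLattice :=
      (Cfsg.Agent.Lib.Helper7_Leech.mem_leechLattice_iff _).mpr
        (Cfsg.Agent.S0394.sgn_two_mem _ N (BO_mem t) hN hE)
    by_cases h0 : symmDiff N N' = ∅
    · have hNN : N = N' := symmDiff_eq_bot.mp h0
      subst hNN
      exact Rs.refl hmem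
    · have hDE : Even (symmDiff N N').card := even_card_symmDiff hE hE'
      have hpos : 0 < (symmDiff N N').card :=
        Finset.card_pos.mpr (Finset.nonempty_iff_ne_empty.mpr h0)
      have h1 : 1 < (symmDiff N N').card := by
        obtain ⟨k, hk⟩ := hDE
        omega
      obtain ⟨x, hx, y, hy, hxy⟩ := Finset.one_lt_card.mp h1
      have hsub : symmDiff N N' ⊆ BO t.val := by
        intro z hz
        rw [Finset.mem_symmDiff] at hz
        rcases hz with ⟨h, _⟩ | ⟨h, _⟩
        · exact hN h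
        · exact hN' h
      have hxa : x ≠ pa := fun h => notMem_symmDiff_of_iff ha (h ▸ hx)
      have hxb : x ≠ pb := fun h => notMem_symmDiff_of_iff hb (h ▸ hx)
      have hya : y ≠ pa := fun h => notMem_symmDiff_of_iff ha (h ▸ hy)
      have hyb : y ≠ pb := fun h => notMem_symmDiff_of_iff hb (h ▸ hy)
      obtain ⟨m, hm, hp⟩ := pair_exists t x y hxy ((mem_BO _ x).mp (hsub hx))
        ((mem_BO _ y).mp (hsub hy)) (idx_ne_of_ne_pa hxa) (idx_ne_of_ne_pb hxb)
        (idx_ne_of_ne_pa hya) (idx_ne_of_ne_pb hyb)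
      obtain ⟨hu, hua, hub⟩ := flip_word (List.mem_append_left _ hm)
      have hstep : Rs (sgn 2 (BO t.val) N) (sgn 2 (BO t.val) (symmDiff N {x, y})) := by
        have := Rs_flip hmem (wordOf m) hu hua hub
        rw [signFlip_sgn] at this
        have e : sgn 2 (BO t.val) (symmDiff N (support₂ (wordOf m))) =
            sgn 2 (BO t.val) (symmDiff N {x, y}) := by
          apply sgn_congr
          intro j hj
          have hj' := hp j ((mem_BO _ j).mp hj)
          rw [Finset.mem_symmDiff, Finset.mem_symmDiff, support₂_wordOf, mem_dec, hj',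
            Finset.mem_insert, Finset.mem_singleton]
        rwa [e] at this
      have hxyB : ({x, y} : Finset GolayPt) ⊆ BO t.val := by
        intro z hz
        rw [Finset.mem_insert, Finset.mem_singleton] at hz
        rcases hz with rfl | rfl
        · exact hsub hx
        · exact hsub hy
      have hxyD : ({x, y} : Finset GolayPt) ⊆ symmDiff N N' := by
        intro z hz
        rw [Finset.mem_insert, Finset.mem_singleton] at hz
        rcases hz with rfl | rfl
        · exact hx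
        · exact hy
      have hN2 : symmDiff N {x, y} ⊆ BO t.val := by
        intro z hz
        rw [Finset.mem_symmDiff] at hz
        rcases hz with ⟨h, _⟩ | ⟨h, _⟩
        · exact hN h
        · exact hxyB h
      have hE2 : Even (symmDiff N {x, y}).card :=
        even_card_symmDiff hE (by rw [Finset.card_pair hxy]; exact ⟨1, rfl⟩)
      have hmem_xy : ∀ p : GolayPt, p ≠ x → p ≠ y → (p ∈ symmDiff N {x, y} ↔ p ∈ N) := by
        intro p hpx hpy
        rw [Finset.mem_symmDiff, Finset.mem_insert, Finset.mem_singleton]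
        tauto
      have ha2 : pa ∈ symmDiff N {x, y} ↔ pa ∈ N' := by
        rw [hmem_xy pa (Ne.symm hxa) (Ne.symm hya)]; exact ha
      have hb2 : pb ∈ symmDiff N {x, y} ↔ pb ∈ N' := by
        rw [hmem_xy pb (Ne.symm hxb) (Ne.symm hyb)]; exact hb
      have hcard : (symmDiff (symmDiff N {x, y}) N').card = n - 2 := by
        rw [symmDiff_right_comm, symmDiff_of_ge (show ({x, y} : Finset GolayPt) ≤ symmDiff N N'
          from hxyD), Finset.card_sdiff_of_subset hxyD, Finset.card_pair hxy, hn]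
      exact hstep.trans (ih (n - 2) (by omega) _ N' hcard hN2 hN' hE2 hE' ha2 hb2)

theorem baseA_aux (t : Fin 4) : ∀ n : ℕ, ∀ N N' : Finset GolayPt, (symmDiff N N').card = n →
    N ⊆ BD t.val → N' ⊆ BD t.val → (pa ∈ N ↔ pa ∈ N') →
    (pb ∈ N ↔ pb ∈ N') → Rs (sgn 4 (BD t.val) N) (sgn 4 (BD t.val) N') := by
  intro n
  induction n using Nat.strong_induction_on with
  | _ n ih =>
    intro N N' hn hN hN' ha hb
    have hmem : sgn 4 (BD t.val) N ∈ leechLattice :=
      (Cfsg.Agent.Lib.Helper7_Leech.mem_leechLattice_iff _).mpr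
        (Cfsg.Agent.S0394.sgn_four_mem _ N (BD_card t) hN)
    by_cases h0 : symmDiff N N' = ∅
    · have hNN : N = N' := symmDiff_eq_bot.mp h0
      subst hNN
      exact Rs.refl hmem
    · obtain ⟨x, hx⟩ := Finset.nonempty_iff_ne_empty.mpr h0
      have hsub : symmDiff N N' ⊆ BD t.val := by
        intro z hz
        rw [Finset.mem_symmDiff] at hz
        rcases hz with ⟨h, _⟩ | ⟨h, _⟩
        · exact hN h
        · exact hN' h
      have hxa : x ≠ pa := fun h => notMem_symmDiff_of_iff ha (h ▸ hx)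
      have hxb : x ≠ pb := fun h => notMem_symmDiff_of_iff hb (h ▸ hx)
      obtain ⟨m, hm, hp⟩ := single_exists t x ((mem_BD _ x).mp (hsub hx))
        (idx_ne_of_ne_pa hxa) (idx_ne_of_ne_pb hxb)
      obtain ⟨hu, hua, hub⟩ := flip_word (List.mem_append_right _ hm)
      have hstep : Rs (sgn 4 (BD t.val) N) (sgn 4 (BD t.val) (symmDiff N {x})) := by
        have := Rs_flip hmem (wordOf m) hu hua hub
        rw [signFlip_sgn] at this
        have e : sgn 4 (BD t.val) (symmDiff N (support₂ (wordOf m))) =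
            sgn 4 (BD t.val) (symmDiff N {x}) := by
          apply sgn_congr
          intro j hj
          have hj' := hp j ((mem_BD _ j).mp hj)
          rw [Finset.mem_symmDiff, Finset.mem_symmDiff, support₂_wordOf, mem_dec, hj',
            Finset.mem_singleton]
        rwa [e] at this
      have hxD : ({x} : Finset GolayPt) ⊆ symmDiff N N' := Finset.singleton_subset_iff.mpr hx
      have hN2 : symmDiff N {x} ⊆ BD t.val := by
        intro z hz
        rw [Finset.mem_symmDiff] at hz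
        rcases hz with ⟨h, _⟩ | ⟨h, _⟩
        · exact hN h
        · rw [Finset.mem_singleton] at h
          rw [h]; exact hsub hx
      have hmem_x : ∀ p : GolayPt, p ≠ x → (p ∈ symmDiff N {x} ↔ p ∈ N) := by
        intro p hpx
        rw [Finset.mem_symmDiff, Finset.mem_singleton]
        tauto
      have ha2 : pa ∈ symmDiff N {x} ↔ pa ∈ N' := by
        rw [hmem_x pa (Ne.symm hxa)]; exact ha
      have hb2 : pb ∈ symmDiff N {x} ↔ pb ∈ N' := by
        rw [hmem_x pb (Ne.symm hxb)]; exact hb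
      have hpos : 0 < (symmDiff N N').card := Finset.card_pos.mpr ⟨x, hx⟩
      have hcard : (symmDiff (symmDiff N {x}) N').card = n - 1 := by
        rw [symmDiff_right_comm, symmDiff_of_ge (show ({x} : Finset GolayPt) ≤ symmDiff N N'
          from hxD), Finset.card_sdiff_of_subset hxD, Finset.card_singleton, hn]
      exact hstep.trans (ih (n - 1) (by omega) _ N' hcard hN2 hN' ha2 hb2)


/-! ### Vectors of the same shape with the same coordinates at the two points -/

theorem mem_iff_of_sgn_eq' {c : ℤ} (hc : 0 < c) {P N P' N' : Finset GolayPt} {p : GolayPt}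
    (h : sgn c P N p = sgn c P' N' p) : (p ∈ P ↔ p ∈ P') := by
  rcases Cfsg.Agent.S0394.sgn_cases c P N p with ⟨h1, e1⟩ | ⟨h1, e1 | e1⟩ <;>
    rcases Cfsg.Agent.S0394.sgn_cases c P' N' p with ⟨h2, e2⟩ | ⟨h2, e2 | e2⟩
  · exact ⟨fun h' => absurd h' h1, fun h' => absurd h' h2⟩
  · rw [e1, e2] at h; omega
  · rw [e1, e2] at h; omega
  · rw [e1, e2] at h; omega
  · exact ⟨fun _ => h2, fun _ => h1⟩
  · exact ⟨fun _ => h2, fun _ => h1⟩
  · rw [e1, e2] at h; omega
  · exact ⟨fun _ => h2, fun _ => h1⟩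
  · exact ⟨fun _ => h2, fun _ => h1⟩

theorem permVec_inv_apply_fixed (g : Equiv.Perm GolayPt) (x : GolayPt → ℤ) (p : GolayPt)
    (hp : g p = p) : permVec g⁻¹ x p = x p := by
  rw [permVec_apply]
  have : (g⁻¹ : Equiv.Perm GolayPt).symm p = g p := rfl
  rw [this, hp]

/-- Two vectors of shape `(±4, ±4, 0^22)` with the same coordinates at the two points are conjugate
under the stabiliser of `v0`. -/
theorem Rs_famA {P N P' N' : Finset GolayPt} (hP : P.card = 2) (hN : N ⊆ P) (hP' : P'.card = 2)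
    (hN' : N' ⊆ P') (ha : sgn 4 P N pa = sgn 4 P' N' pa) (hb : sgn 4 P N pb = sgn 4 P' N' pb) :
    Rs (sgn 4 P N) (sgn 4 P' N') := by
  have hmem : sgn 4 P N ∈ leechLattice :=
    (Cfsg.Agent.Lib.Helper7_Leech.mem_leechLattice_iff _).mpr
      (Cfsg.Agent.S0394.sgn_four_mem P N hP hN)
  have hmem' : sgn 4 P' N' ∈ leechLattice :=
    (Cfsg.Agent.Lib.Helper7_Leech.mem_leechLattice_iff _).mpr
      (Cfsg.Agent.S0394.sgn_four_mem P' N' hP' hN')
  have hinv : inv2 (enc P) = inv2 (enc P') :=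
    inv2_eq_of_iff (mem_iff_of_sgn_eq' (by norm_num) ha) (mem_iff_of_sgn_eq' (by norm_num) hb)
  obtain ⟨g, hg, e⟩ := exists_smul_baseD hP
  obtain ⟨g', hg', e'⟩ := exists_smul_baseD hP'
  rw [← hinv] at e'
  have hgm := (mem_co2H_iff g).mp hg
  have hgm' := (mem_co2H_iff g').mp hg'
  have hginv := (mem_co2H_iff g⁻¹).mp (co2H.inv_mem hg)
  have hginv' := (mem_co2H_iff g'⁻¹).mp (co2H.inv_mem hg')
  obtain ⟨t, ht⟩ : ∃ t : Fin 4, t.val = inv2 (enc P) := ⟨⟨_, inv2_lt _⟩, rfl⟩
  rw [← ht] at e e'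
  change g • BD t.val = P at e
  change g' • BD t.val = P' at e'
  have e2 : g⁻¹ • P = BD t.val := by rw [← e, inv_smul_smul]
  have e2' : g'⁻¹ • P' = BD t.val := by rw [← e', inv_smul_smul]
  have h1 : Rs (sgn 4 P N) (sgn 4 (BD t.val) (g⁻¹ • N)) := by
    have := Rs_perm hmem g⁻¹ hginv.1 hginv.2.1 hginv.2.2
    rw [permVec_sgn] at this
    rwa [e2] at this
  have h1' : Rs (sgn 4 P' N') (sgn 4 (BD t.val) (g'⁻¹ • N')) := by
    have := Rs_perm hmem' g'⁻¹ hginv'.1 hginv'.2.1 hginv'.2.2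
    rw [permVec_sgn] at this
    rwa [e2'] at this
  have hsub : g⁻¹ • N ⊆ BD t.val := by
    rw [← e2]
    exact Finset.smul_finset_subset_smul_finset hN
  have hsub' : g'⁻¹ • N' ⊆ BD t.val := by
    rw [← e2']
    exact Finset.smul_finset_subset_smul_finset hN'
  have hva : sgn 4 (BD t.val) (g⁻¹ • N) pa = sgn 4 (BD t.val) (g'⁻¹ • N') pa := by
    rw [← e2, ← permVec_sgn, permVec_inv_apply_fixed g _ pa hgm.2.1, e2, ← e2', ← permVec_sgn,
      permVec_inv_apply_fixed g' _ pa hgm'.2.1]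
    exact ha
  have hvb : sgn 4 (BD t.val) (g⁻¹ • N) pb = sgn 4 (BD t.val) (g'⁻¹ • N') pb := by
    rw [← e2, ← permVec_sgn, permVec_inv_apply_fixed g _ pb hgm.2.2, e2, ← e2', ← permVec_sgn,
      permVec_inv_apply_fixed g' _ pb hgm'.2.2]
    exact hb
  have h2 := baseA_aux t _ (g⁻¹ • N) (g'⁻¹ • N') rfl hsub hsub'
    (mem_iff_of_sgn_eq (by norm_num) hsub hsub' hva)
    (mem_iff_of_sgn_eq (by norm_num) hsub hsub' hvb)
  exact h1.trans (h2.trans h1'.symm)

/-- Two vectors of shape `(±2^8, 0^16)` with the same coordinates at the two points are conjugate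
under the stabiliser of `v0`. -/
theorem Rs_famB {P N P' N' : Finset GolayPt} (hP : P ∈ octads) (hN : N ⊆ P) (hE : Even N.card)
    (hP' : P' ∈ octads) (hN' : N' ⊆ P') (hE' : Even N'.card)
    (ha : sgn 2 P N pa = sgn 2 P' N' pa) (hb : sgn 2 P N pb = sgn 2 P' N' pb) :
    Rs (sgn 2 P N) (sgn 2 P' N') := by
  have hmem : sgn 2 P N ∈ leechLattice :=
    (Cfsg.Agent.Lib.Helper7_Leech.mem_leechLattice_iff _).mpr
      (Cfsg.Agent.S0394.sgn_two_mem P N hP hN hE)
  have hmem' : sgn 2 P' N' ∈ leechLattice :=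
    (Cfsg.Agent.Lib.Helper7_Leech.mem_leechLattice_iff _).mpr
      (Cfsg.Agent.S0394.sgn_two_mem P' N' hP' hN' hE')
  have hinv : inv2 (enc P) = inv2 (enc P') :=
    inv2_eq_of_iff (mem_iff_of_sgn_eq' (by norm_num) ha) (mem_iff_of_sgn_eq' (by norm_num) hb)
  obtain ⟨g, hg, e⟩ := exists_smul_baseO hP
  obtain ⟨g', hg', e'⟩ := exists_smul_baseO hP'
  rw [← hinv] at e'
  have hgm := (mem_co2H_iff g).mp hg
  have hgm' := (mem_co2H_iff g').mp hg'
  have hginv := (mem_co2H_iff g⁻¹).mp (co2H.inv_mem hg)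
  have hginv' := (mem_co2H_iff g'⁻¹).mp (co2H.inv_mem hg')
  obtain ⟨t, ht⟩ : ∃ t : Fin 4, t.val = inv2 (enc P) := ⟨⟨_, inv2_lt _⟩, rfl⟩
  rw [← ht] at e e'
  change g • BO t.val = P at e
  change g' • BO t.val = P' at e'
  have e2 : g⁻¹ • P = BO t.val := by rw [← e, inv_smul_smul]
  have e2' : g'⁻¹ • P' = BO t.val := by rw [← e', inv_smul_smul]
  have h1 : Rs (sgn 2 P N) (sgn 2 (BO t.val) (g⁻¹ • N)) := by
    have := Rs_perm hmem g⁻¹ hginv.1 hginv.2.1 hginv.2.2
    rw [permVec_sgn] at this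
    rwa [e2] at this
  have h1' : Rs (sgn 2 P' N') (sgn 2 (BO t.val) (g'⁻¹ • N')) := by
    have := Rs_perm hmem' g'⁻¹ hginv'.1 hginv'.2.1 hginv'.2.2
    rw [permVec_sgn] at this
    rwa [e2'] at this
  have hsub : g⁻¹ • N ⊆ BO t.val := by
    rw [← e2]
    exact Finset.smul_finset_subset_smul_finset hN
  have hsub' : g'⁻¹ • N' ⊆ BO t.val := by
    rw [← e2']
    exact Finset.smul_finset_subset_smul_finset hN'
  have hva : sgn 2 (BO t.val) (g⁻¹ • N) pa = sgn 2 (BO t.val) (g'⁻¹ • N') pa := by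
    rw [← e2, ← permVec_sgn, permVec_inv_apply_fixed g _ pa hgm.2.1, e2, ← e2', ← permVec_sgn,
      permVec_inv_apply_fixed g' _ pa hgm'.2.1]
    exact ha
  have hvb : sgn 2 (BO t.val) (g⁻¹ • N) pb = sgn 2 (BO t.val) (g'⁻¹ • N') pb := by
    rw [← e2, ← permVec_sgn, permVec_inv_apply_fixed g _ pb hgm.2.2, e2, ← e2', ← permVec_sgn,
      permVec_inv_apply_fixed g' _ pb hgm'.2.2]
    exact hb
  have h2 := baseB_aux t _ (g⁻¹ • N) (g'⁻¹ • N') rfl hsub hsub'
    (by rw [Finset.card_smul_finset]; exact hE) (by rw [Finset.card_smul_finset]; exact hE')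
    (mem_iff_of_sgn_eq (by norm_num) hsub hsub' hva)
    (mem_iff_of_sgn_eq (by norm_num) hsub hsub' hvb)
  exact h1.trans (h2.trans h1'.symm)


/-! ### The odd vectors -/

theorem zmod2_add_self (a : ZMod 2) : a + a = 0 := by
  revert a; decide

theorem signFlip_fO_add (i : GolayPt) (u c : GolayPt → ZMod 2) :
    signFlip (support₂ c) (fO i u) = fO i (u + c) := by
  funext j
  have h01 : ¬ ((0 : ZMod 2) = 1) := by decide
  have h11 : ¬ ((1 : ZMod 2) + 1 = 1) := by decide
  by_cases hc : c j = 1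
  · rw [signFlip_of_mem ((mem_support₂ c j).mpr hc)]
    unfold fO
    by_cases hji : j = i
    · subst hji
      rw [if_pos rfl, if_pos rfl, Pi.add_apply, hc]
      rcases Cfsg.Agent.S0394.zmod2_cases (u j) with h | h
      · rw [h, if_neg h01, if_neg h01, zero_add, if_pos rfl, if_pos rfl]; norm_num
      · rw [h, if_pos rfl, if_pos rfl, if_neg h11, if_neg h11]; norm_num
    · rw [if_neg hji, if_neg hji, Pi.add_apply, hc]
      rcases Cfsg.Agent.S0394.zmod2_cases (u j) with h | h
      · rw [h, if_neg h01, zero_add, if_pos rfl]; norm_num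
      · rw [h, if_pos rfl, if_neg h11]; norm_num
  · have hc0 : c j = 0 := by
      rcases Cfsg.Agent.S0394.zmod2_cases (c j) with h | h
      · exact h
      · exact absurd h hc
    rw [signFlip_of_notMem (fun h => hc ((mem_support₂ c j).mp h))]
    unfold fO
    by_cases hji : j = i
    · subst hji
      simp only [Pi.add_apply, hc0, add_zero]
    · simp only [if_neg hji, Pi.add_apply, hc0, add_zero]

theorem permVec_fO (σ : Equiv.Perm GolayPt) (i : GolayPt) (u : GolayPt → ZMod 2) :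
    permVec σ (fO i u) = fO (σ i) (permWord σ u) := by
  funext j
  rw [permVec_apply]
  unfold fO
  rw [permWord_apply, permWord_apply, Equiv.symm_apply_apply]
  by_cases h : j = σ i
  · have h' : σ.symm j = i := by rw [h, Equiv.symm_apply_apply]
    simp only [if_pos h, if_pos h']
  · have h' : ¬ σ.symm j = i := fun h' => h (by rw [← h', Equiv.apply_symm_apply])
    simp only [if_neg h, if_neg h']

theorem fO_val_iff {i i' : GolayPt} {u u' : GolayPt → ZMod 2} {p : GolayPt}
    (h : fO i u p = fO i' u' p) : (p = i ↔ p = i') ∧ u p = u' p := by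
  rcases Cfsg.Agent.S0394.fO_cases i u p with ⟨h1, h2, h3⟩ | ⟨h1, h2, h3⟩ | ⟨h1, h2, h3⟩ |
    ⟨h1, h2, h3⟩ <;>
  rcases Cfsg.Agent.S0394.fO_cases i' u' p with ⟨k1, k2, k3⟩ | ⟨k1, k2, k3⟩ | ⟨k1, k2, k3⟩ |
    ⟨k1, k2, k3⟩ <;>
  first
  | (rw [h3, k3] at h; omega)
  | exact ⟨⟨fun a => absurd a h1, fun a => absurd a k1⟩, by rw [h2, k2]⟩
  | exact ⟨⟨fun _ => k1, fun _ => h1⟩, by rw [h2, k2]⟩

/-- Two odd minimal vectors with the same coordinates at the two points are conjugate under the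
stabiliser of `v0`. -/
theorem Rs_famO {i i' : GolayPt} {u u' : GolayPt → ZMod 2} (hu : u ∈ golayCode)
    (hu' : u' ∈ golayCode) (ha : fO i u pa = fO i' u' pa) (hb : fO i u pb = fO i' u' pb) :
    Rs (fO i u) (fO i' u') := by
  have hmem : fO i u ∈ leechLattice := Cfsg.Agent.S0400.fO_mem_lattice i u hu
  obtain ⟨hia, hua⟩ := fO_val_iff ha
  obtain ⟨hib, hub⟩ := fO_val_iff hb
  -- a permutation in `M22` taking `i` to `i'`
  have hσ : ∃ σ ∈ co2H, σ i = i' := by
    by_cases h1 : i = pa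
    · exact ⟨1, co2H.one_mem, by rw [Equiv.Perm.one_apply, h1]; exact hia.mp h1.symm⟩
    · by_cases h2 : i = pb
      · exact ⟨1, co2H.one_mem, by rw [Equiv.Perm.one_apply, h2]; exact hib.mp h2.symm⟩
      · have h1' : i' ≠ pa := fun h => h1 (hia.mpr h.symm).symm
        have h2' : i' ≠ pb := fun h => h2 (hib.mpr h.symm).symm
        exact exists_co2H_point h1 h2 h1' h2'
  obtain ⟨σ, hσH, hσi⟩ := hσ
  have hσm := (mem_co2H_iff σ).mp hσH
  have hσinv := (mem_co2H_iff σ⁻¹).mp (co2H.inv_mem hσH)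
  have h1 : Rs (fO i u) (fO i' (permWord σ u)) := by
    have := Rs_perm hmem σ hσm.1 hσm.2.1 hσm.2.2
    rwa [permVec_fO, hσi] at this
  have hw : permWord σ u ∈ golayCode := permWord_mem_of_mem_M24 hσm.1 hu
  have hwa : permWord σ u pa = u pa := by
    rw [permWord_apply]
    have : σ.symm pa = pa := hσinv.2.1
    rw [this]
  have hwb : permWord σ u pb = u pb := by
    rw [permWord_apply]
    have : σ.symm pb = pb := hσinv.2.2
    rw [this]
  have h2 : Rs (fO i' (permWord σ u)) (fO i' u') := by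
    have hc : permWord σ u + u' ∈ golayCode := golayCode.add_mem hw hu'
    have := Rs_flip h1.mem_right (permWord σ u + u') hc
      (by rw [Pi.add_apply, hwa, hua, zmod2_add_self])
      (by rw [Pi.add_apply, hwb, hub, zmod2_add_self])
    rw [signFlip_fO_add] at this
    have e : permWord σ u + (permWord σ u + u') = u' := by
      funext j
      rw [Pi.add_apply, Pi.add_apply, ← add_assoc, zmod2_add_self, zero_add]
    rwa [e] at this
  exact h1.trans h2

end Cfsg.Agent.Lib.Helper26_Co2
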