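import Mathlib
import Cfsg.Agent.Lib.Helper26_Co2Mono

/-!
Fusion of the monomial classes of minimal vectors with a given inner product with `v0` by the
element `xi`: the stabiliser of `v0` in `Co0` is transitive on the minimal vectors having inner
product `-16`, `-8`, `0` with `v0`.  Generated by `scratch/py/gen_co2_fuse_lean.py`.
-/

set_option autoImplicit false
set_option linter.constructorNameAsVariable false
open Cfsg
open scoped Pointwise

namespace Cfsg.Agent.Lib.Helper26_Co2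

open Cfsg.Agent.Lib.Helper26_Golay Cfsg.Agent.Lib.Helper26_Leech Cfsg.Agent.Lib.Helper92_Monomial
  Cfsg.Agent.Lib.Helper7_M24 Cfsg.Agent.Lib.Helper7_Xi
open Cfsg.Agent.S0394 (sgn fO famA famB famO)

/-- The vector `sgn c (dec mP) (dec mN)`, computed on bitmasks. -/
def sgnM (c : ℤ) (mP mN : ℕ) : GolayPt → ℤ :=
  fun p => if mP.testBit (idx p) = true then (if mN.testBit (idx p) = true then -c else c) else 0

theorem sgnM_eq (c : ℤ) (mP mN : ℕ) : sgnM c mP mN = sgn c (dec mP) (dec mN) := by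
  funext p
  unfold sgnM sgn
  simp only [mem_dec]

/-- The vector `fO (pt i) (wordOf m)`, computed on bitmasks. -/
def fOM (i m : ℕ) : GolayPt → ℤ := fun p => (gN i m (idx p) : ℤ) - 4

theorem fOM_eq (i m : ℕ) (hi : i < 24) : fOM i m = fO (pt i) (wordOf m) := by
  funext p
  unfold fOM
  rw [fO_wordOf, idx_pt i hi]

/-- Check that `(mP, mN)` are the masks of a vector of shape `(±4, ±4, 0^22)`. -/
def okA (mP mN : ℕ) : Bool := decide (mP < 2 ^ 24) && (pop mP == 2) && (mN &&& mP == mN)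

/-- Check that `(mP, mN)` are the masks of a vector of shape `(±2^8, 0^16)`. -/
def okB (mP mN : ℕ) : Bool :=
  isCode mP && (pop mP == 8) && (mN &&& mP == mN) && (pop mN % 2 == 0)

theorem dec_subset_of_and {mP mN : ℕ} (hP : mP < 2 ^ 24) (h : mN &&& mP = mN) :
    dec mN ⊆ dec mP := by
  have hN : mN < 2 ^ 24 := lt_of_le_of_lt (by rw [← h]; exact Nat.and_le_right) hP
  rw [subset_iff_enc, enc_dec _ hN, enc_dec _ hP, h]

theorem okA_spec {mP mN : ℕ} (h : okA mP mN = true) :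
    (dec mP).card = 2 ∧ dec mN ⊆ dec mP := by
  unfold okA at h
  rw [Bool.and_eq_true, Bool.and_eq_true, decide_eq_true_iff, beq_iff_eq, beq_iff_eq] at h
  obtain ⟨⟨h1, h2⟩, h3⟩ := h
  exact ⟨by rw [card_eq_pop, enc_dec _ h1, h2], dec_subset_of_and h1 h3⟩

theorem okB_spec {mP mN : ℕ} (h : okB mP mN = true) :
    dec mP ∈ octads ∧ dec mN ⊆ dec mP ∧ Even (dec mN).card := by
  unfold okB at h
  rw [Bool.and_eq_true, Bool.and_eq_true, Bool.and_eq_true, beq_iff_eq, beq_iff_eq,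
    beq_iff_eq] at h
  obtain ⟨⟨⟨h1, h2⟩, h3⟩, h4⟩ := h
  have hP := lt_of_isCode h1
  have hN : mN < 2 ^ 24 := lt_of_le_of_lt (by rw [← h3]; exact Nat.and_le_right) hP
  refine ⟨?_, dec_subset_of_and hP h3, ?_⟩
  · rw [mem_octads_iff, enc_dec _ hP, mem_octList_iff]
    exact ⟨h1, h2⟩
  · rw [card_eq_pop, enc_dec _ hN]
    exact Nat.even_iff.mpr h4

theorem okO_spec {m : ℕ} (h : isCode m = true) : wordOf m ∈ golayCode :=
  (wordOf_mem_golayCode_iff m (lt_of_isCode h)).mpr h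

/-! ### Inner product `-16` -/

/-- The representative for inner product `-16`. -/
def rep16 : GolayPt → ℤ := sgn 2 (dec 12656663) (dec 4259863)

theorem k16_B_m2_p2 (P N : Finset GolayPt) (hP : P ∈ octads) (hN : N ⊆ P) (hE : Even N.card)
    (ha : sgn 2 P N pa = -2) (hb : sgn 2 P N pb = 2) :
    Rs (sgn 2 P N) (rep16) := by
  have hr := okB_spec (mP := 12656663) (mN := 4259863) (by decide +kernel)
  have hra : (sgn 2 (dec 12656663) (dec 4259863)) pa = -2 := by
    rw [← sgnM_eq 2 12656663 4259863]; decide +kernel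
  have hrb : (sgn 2 (dec 12656663) (dec 4259863)) pb = 2 := by
    rw [← sgnM_eq 2 12656663 4259863]; decide +kernel
  exact Rs_famB hP hN hE hr.1 hr.2.1 hr.2.2 (ha.trans hra.symm) (hb.trans hrb.symm)

theorem k16_A_m4_p0_xi : ∀ p, A.mulVec (sgnM 4 17 17) p = 2 * (sgnM 2 12656663 8388630) p := by
  decide +kernel

theorem k16_A_m4_p0 (P N : Finset GolayPt) (hP : P.card = 2) (hN : N ⊆ P)
    (ha : sgn 4 P N pa = -4) (hb : sgn 4 P N pb = 0) :
    Rs (sgn 4 P N) (rep16) := by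
  have hx := okA_spec (mP := 17) (mN := 17) (by decide +kernel)
  have hxa : (sgn 4 (dec 17) (dec 17)) pa = -4 := by
    rw [← sgnM_eq 4 17 17]; decide +kernel
  have hxb : (sgn 4 (dec 17) (dec 17)) pb = 0 := by
    rw [← sgnM_eq 4 17 17]; decide +kernel
  have hy := okB_spec (mP := 12656663) (mN := 8388630) (by decide +kernel)
  have hya : (sgn 2 (dec 12656663) (dec 8388630)) pa = -2 := by
    rw [← sgnM_eq 2 12656663 8388630]; decide +kernel
  have hyb : (sgn 2 (dec 12656663) (dec 8388630)) pb = 2 := by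
    rw [← sgnM_eq 2 12656663 8388630]; decide +kernel
  have h1 := Rs_famA hP hN hx.1 hx.2 (ha.trans hxa.symm) (hb.trans hxb.symm)
  have h2 : Rs (sgn 4 (dec 17) (dec 17)) (sgn 2 (dec 12656663) (dec 8388630)) := by
    have := Rs_xi h1.mem_right (sgnM 2 12656663 8388630) (by rw [← sgnM_eq 4 17 17]; exact k16_A_m4_p0_xi)
    rwa [sgnM_eq 2 12656663 8388630] at this
  exact h1.trans (h2.trans (k16_B_m2_p2 (dec 12656663) (dec 8388630) hy.1 hy.2.1 hy.2.2 hya hyb))

theorem k16_A_p0_p4_xi : ∀ p, A.mulVec (sgnM 4 8193 1) p = 2 * (sgnM 2 12656663 12648470) p := by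
  decide +kernel

theorem k16_A_p0_p4 (P N : Finset GolayPt) (hP : P.card = 2) (hN : N ⊆ P)
    (ha : sgn 4 P N pa = 0) (hb : sgn 4 P N pb = 4) :
    Rs (sgn 4 P N) (rep16) := by
  have hx := okA_spec (mP := 8193) (mN := 1) (by decide +kernel)
  have hxa : (sgn 4 (dec 8193) (dec 1)) pa = 0 := by
    rw [← sgnM_eq 4 8193 1]; decide +kernel
  have hxb : (sgn 4 (dec 8193) (dec 1)) pb = 4 := by
    rw [← sgnM_eq 4 8193 1]; decide +kernel
  have hy := okB_spec (mP := 12656663) (mN := 12648470) (by decide +kernel)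
  have hya : (sgn 2 (dec 12656663) (dec 12648470)) pa = -2 := by
    rw [← sgnM_eq 2 12656663 12648470]; decide +kernel
  have hyb : (sgn 2 (dec 12656663) (dec 12648470)) pb = 2 := by
    rw [← sgnM_eq 2 12656663 12648470]; decide +kernel
  have h1 := Rs_famA hP hN hx.1 hx.2 (ha.trans hxa.symm) (hb.trans hxb.symm)
  have h2 : Rs (sgn 4 (dec 8193) (dec 1)) (sgn 2 (dec 12656663) (dec 12648470)) := by
    have := Rs_xi h1.mem_right (sgnM 2 12656663 12648470) (by rw [← sgnM_eq 4 8193 1]; exact k16_A_p0_p4_xi)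
    rwa [sgnM_eq 2 12656663 12648470] at this
  exact h1.trans (h2.trans (k16_B_m2_p2 (dec 12656663) (dec 12648470) hy.1 hy.2.1 hy.2.2 hya hyb))

theorem k16_O_m3_p1_xi : ∀ p, A.mulVec (fOM 4 10170384) p = 2 * (sgnM 2 10170384 8388624) p := by
  decide +kernel

theorem k16_O_m3_p1 (i : GolayPt) (u : GolayPt → ZMod 2) (hu : u ∈ golayCode)
    (ha : fO i u pa = -3) (hb : fO i u pb = 1) :
    Rs (fO i u) (rep16) := by
  have hx := okO_spec (m := 10170384) (by decide +kernel)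
  have hxa : (fO (pt 4) (wordOf 10170384)) pa = -3 := by
    rw [← fOM_eq 4 10170384 (by norm_num)]; decide +kernel
  have hxb : (fO (pt 4) (wordOf 10170384)) pb = 1 := by
    rw [← fOM_eq 4 10170384 (by norm_num)]; decide +kernel
  have hy := okB_spec (mP := 10170384) (mN := 8388624) (by decide +kernel)
  have hya : (sgn 2 (dec 10170384) (dec 8388624)) pa = -2 := by
    rw [← sgnM_eq 2 10170384 8388624]; decide +kernel
  have hyb : (sgn 2 (dec 10170384) (dec 8388624)) pb = 2 := by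
    rw [← sgnM_eq 2 10170384 8388624]; decide +kernel
  have h1 := Rs_famO hu hx (ha.trans hxa.symm) (hb.trans hxb.symm)
  have h2 : Rs (fO (pt 4) (wordOf 10170384)) (sgn 2 (dec 10170384) (dec 8388624)) := by
    have := Rs_xi h1.mem_right (sgnM 2 10170384 8388624) (by rw [← fOM_eq 4 10170384 (by norm_num)]; exact k16_O_m3_p1_xi)
    rwa [sgnM_eq 2 10170384 8388624] at this
  exact h1.trans (h2.trans (k16_B_m2_p2 (dec 10170384) (dec 8388624) hy.1 hy.2.1 hy.2.2 hya hyb))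

theorem k16_O_m1_p3_xi : ∀ p, A.mulVec (fOM 13 11654144) p = 2 * (sgnM 2 14709264 12583440) p := by
  decide +kernel

theorem k16_O_m1_p3 (i : GolayPt) (u : GolayPt → ZMod 2) (hu : u ∈ golayCode)
    (ha : fO i u pa = -1) (hb : fO i u pb = 3) :
    Rs (fO i u) (rep16) := by
  have hx := okO_spec (m := 11654144) (by decide +kernel)
  have hxa : (fO (pt 13) (wordOf 11654144)) pa = -1 := by
    rw [← fOM_eq 13 11654144 (by norm_num)]; decide +kernel
  have hxb : (fO (pt 13) (wordOf 11654144)) pb = 3 := by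
    rw [← fOM_eq 13 11654144 (by norm_num)]; decide +kernel
  have hy := okB_spec (mP := 14709264) (mN := 12583440) (by decide +kernel)
  have hya : (sgn 2 (dec 14709264) (dec 12583440)) pa = -2 := by
    rw [← sgnM_eq 2 14709264 12583440]; decide +kernel
  have hyb : (sgn 2 (dec 14709264) (dec 12583440)) pb = 2 := by
    rw [← sgnM_eq 2 14709264 12583440]; decide +kernel
  have h1 := Rs_famO hu hx (ha.trans hxa.symm) (hb.trans hxb.symm)
  have h2 : Rs (fO (pt 13) (wordOf 11654144)) (sgn 2 (dec 14709264) (dec 12583440)) := by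
    have := Rs_xi h1.mem_right (sgnM 2 14709264 12583440) (by rw [← fOM_eq 13 11654144 (by norm_num)]; exact k16_O_m1_p3_xi)
    rwa [sgnM_eq 2 14709264 12583440] at this
  exact h1.trans (h2.trans (k16_B_m2_p2 (dec 14709264) (dec 12583440) hy.1 hy.2.1 hy.2.2 hya hyb))

/-- The stabiliser of `v0` is transitive on the minimal vectors with inner product `-16`. -/
theorem census_rep16 (w : GolayPt → ℤ) (hw : w ∈ census v0 (-16)) : Rs w rep16 := by
  obtain ⟨hw, hn, hd⟩ := hw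
  have hfam : w ∈ famA ∪ famB ∪ famO := by
    rw [← Cfsg.Agent.S0394.set_eq]; exact ⟨hw, hn⟩
  rw [dotInt_v0] at hd
  rcases hfam with (⟨P, N, hP, hN, rfl⟩ | ⟨P, N, hP, hN, hE, rfl⟩) | ⟨i, u, hu, rfl⟩
  · rcases Cfsg.Agent.S0394.sgn_cases 4 P N pa with ⟨_, ea⟩ | ⟨_, ea | ea⟩ <;>
    rcases Cfsg.Agent.S0394.sgn_cases 4 P N pb with ⟨_, eb⟩ | ⟨_, eb | eb⟩ <;>
    first
    | (exfalso; omega)
    | exact k16_A_m4_p0 P N hP hN ea eb
    | exact k16_A_p0_p4 P N hP hN ea eb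
  · rcases Cfsg.Agent.S0394.sgn_cases 2 P N pa with ⟨_, ea⟩ | ⟨_, ea | ea⟩ <;>
    rcases Cfsg.Agent.S0394.sgn_cases 2 P N pb with ⟨_, eb⟩ | ⟨_, eb | eb⟩ <;>
    first
    | (exfalso; omega)
    | exact k16_B_m2_p2 P N hP hN hE ea eb
  · rcases Cfsg.Agent.S0394.fO_cases i u pa with ⟨ha1, _, ea⟩ | ⟨ha1, _, ea⟩ | ⟨ha1, _, ea⟩ | ⟨ha1, _, ea⟩ <;>
    rcases Cfsg.Agent.S0394.fO_cases i u pb with ⟨hb1, _, eb⟩ | ⟨hb1, _, eb⟩ | ⟨hb1, _, eb⟩ | ⟨hb1, _, eb⟩ <;>
    first
    | (exfalso; omega)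
    | exact absurd (ha1.trans hb1.symm) pa_ne_pb
    | exact k16_O_m3_p1 i u hu ea eb
    | exact k16_O_m1_p3 i u hu ea eb

/-! ### Inner product `-8` -/

/-- The representative for inner product `-8`. -/
def rep8 : GolayPt → ℤ := fO (pt 0) (wordOf 2422785)

theorem k8_O_m1_p1 (i : GolayPt) (u : GolayPt → ZMod 2) (hu : u ∈ golayCode)
    (ha : fO i u pa = -1) (hb : fO i u pb = 1) :
    Rs (fO i u) (rep8) := by
  have hr := okO_spec (m := 2422785) (by decide +kernel)
  have hra : (fO (pt 0) (wordOf 2422785)) pa = -1 := by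
    rw [← fOM_eq 0 2422785 (by norm_num)]; decide +kernel
  have hrb : (fO (pt 0) (wordOf 2422785)) pb = 1 := by
    rw [← fOM_eq 0 2422785 (by norm_num)]; decide +kernel
  exact Rs_famO hu hr (ha.trans hra.symm) (hb.trans hrb.symm)

theorem k8_B_p0_p2_xi : ∀ p, A.mulVec (sgnM 2 3416079 1310735) p = 2 * (fOM 23 10682144) p := by
  decide +kernel

theorem k8_B_p0_p2 (P N : Finset GolayPt) (hP : P ∈ octads) (hN : N ⊆ P) (hE : Even N.card)
    (ha : sgn 2 P N pa = 0) (hb : sgn 2 P N pb = 2) :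
    Rs (sgn 2 P N) (rep8) := by
  have hx := okB_spec (mP := 3416079) (mN := 1310735) (by decide +kernel)
  have hxa : (sgn 2 (dec 3416079) (dec 1310735)) pa = 0 := by
    rw [← sgnM_eq 2 3416079 1310735]; decide +kernel
  have hxb : (sgn 2 (dec 3416079) (dec 1310735)) pb = 2 := by
    rw [← sgnM_eq 2 3416079 1310735]; decide +kernel
  have hy := okO_spec (m := 10682144) (by decide +kernel)
  have hya : (fO (pt 23) (wordOf 10682144)) pa = -1 := by
    rw [← fOM_eq 23 10682144 (by norm_num)]; decide +kernel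
  have hyb : (fO (pt 23) (wordOf 10682144)) pb = 1 := by
    rw [← fOM_eq 23 10682144 (by norm_num)]; decide +kernel
  have h1 := Rs_famB hP hN hE hx.1 hx.2.1 hx.2.2 (ha.trans hxa.symm) (hb.trans hxb.symm)
  have h2 : Rs (sgn 2 (dec 3416079) (dec 1310735)) (fO (pt 23) (wordOf 10682144)) := by
    have := Rs_xi h1.mem_right (fOM 23 10682144) (by rw [← sgnM_eq 2 3416079 1310735]; exact k8_B_p0_p2_xi)
    rwa [fOM_eq 23 10682144 (by norm_num)] at this
  exact h1.trans (h2.trans (k8_O_m1_p1 (pt 23) (wordOf 10682144) hy hya hyb))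

theorem k8_B_m2_p0_xi : ∀ p, A.mulVec (sgnM 2 5279 5279) p = 2 * (fOM 23 16771936) p := by
  decide +kernel

theorem k8_B_m2_p0 (P N : Finset GolayPt) (hP : P ∈ octads) (hN : N ⊆ P) (hE : Even N.card)
    (ha : sgn 2 P N pa = -2) (hb : sgn 2 P N pb = 0) :
    Rs (sgn 2 P N) (rep8) := by
  have hx := okB_spec (mP := 5279) (mN := 5279) (by decide +kernel)
  have hxa : (sgn 2 (dec 5279) (dec 5279)) pa = -2 := by
    rw [← sgnM_eq 2 5279 5279]; decide +kernel
  have hxb : (sgn 2 (dec 5279) (dec 5279)) pb = 0 := by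
    rw [← sgnM_eq 2 5279 5279]; decide +kernel
  have hy := okO_spec (m := 16771936) (by decide +kernel)
  have hya : (fO (pt 23) (wordOf 16771936)) pa = -1 := by
    rw [← fOM_eq 23 16771936 (by norm_num)]; decide +kernel
  have hyb : (fO (pt 23) (wordOf 16771936)) pb = 1 := by
    rw [← fOM_eq 23 16771936 (by norm_num)]; decide +kernel
  have h1 := Rs_famB hP hN hE hx.1 hx.2.1 hx.2.2 (ha.trans hxa.symm) (hb.trans hxb.symm)
  have h2 : Rs (sgn 2 (dec 5279) (dec 5279)) (fO (pt 23) (wordOf 16771936)) := by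
    have := Rs_xi h1.mem_right (fOM 23 16771936) (by rw [← sgnM_eq 2 5279 5279]; exact k8_B_m2_p0_xi)
    rwa [fOM_eq 23 16771936 (by norm_num)] at this
  exact h1.trans (h2.trans (k8_O_m1_p1 (pt 23) (wordOf 16771936) hy hya hyb))

theorem k8_O_m3_m1_xi : ∀ p, A.mulVec (fOM 4 7903248) p = 2 * (fOM 22 3930152) p := by
  decide +kernel

theorem k8_O_m3_m1 (i : GolayPt) (u : GolayPt → ZMod 2) (hu : u ∈ golayCode)
    (ha : fO i u pa = -3) (hb : fO i u pb = -1) :
    Rs (fO i u) (rep8) := by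
  have hx := okO_spec (m := 7903248) (by decide +kernel)
  have hxa : (fO (pt 4) (wordOf 7903248)) pa = -3 := by
    rw [← fOM_eq 4 7903248 (by norm_num)]; decide +kernel
  have hxb : (fO (pt 4) (wordOf 7903248)) pb = -1 := by
    rw [← fOM_eq 4 7903248 (by norm_num)]; decide +kernel
  have hy := okO_spec (m := 3930152) (by decide +kernel)
  have hya : (fO (pt 22) (wordOf 3930152)) pa = -1 := by
    rw [← fOM_eq 22 3930152 (by norm_num)]; decide +kernel
  have hyb : (fO (pt 22) (wordOf 3930152)) pb = 1 := by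
    rw [← fOM_eq 22 3930152 (by norm_num)]; decide +kernel
  have h1 := Rs_famO hu hx (ha.trans hxa.symm) (hb.trans hxb.symm)
  have h2 : Rs (fO (pt 4) (wordOf 7903248)) (fO (pt 22) (wordOf 3930152)) := by
    have := Rs_xi h1.mem_right (fOM 22 3930152) (by rw [← fOM_eq 4 7903248 (by norm_num)]; exact k8_O_m3_m1_xi)
    rwa [fOM_eq 22 3930152 (by norm_num)] at this
  exact h1.trans (h2.trans (k8_O_m1_p1 (pt 22) (wordOf 3930152) hy hya hyb))

theorem k8_O_p1_p3_xi : ∀ p, A.mulVec (fOM 13 7903248) p = 2 * (fOM 16 3930152) p := by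
  decide +kernel

theorem k8_O_p1_p3 (i : GolayPt) (u : GolayPt → ZMod 2) (hu : u ∈ golayCode)
    (ha : fO i u pa = 1) (hb : fO i u pb = 3) :
    Rs (fO i u) (rep8) := by
  have hx := okO_spec (m := 7903248) (by decide +kernel)
  have hxa : (fO (pt 13) (wordOf 7903248)) pa = 1 := by
    rw [← fOM_eq 13 7903248 (by norm_num)]; decide +kernel
  have hxb : (fO (pt 13) (wordOf 7903248)) pb = 3 := by
    rw [← fOM_eq 13 7903248 (by norm_num)]; decide +kernel
  have hy := okO_spec (m := 3930152) (by decide +kernel)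
  have hya : (fO (pt 16) (wordOf 3930152)) pa = -1 := by
    rw [← fOM_eq 16 3930152 (by norm_num)]; decide +kernel
  have hyb : (fO (pt 16) (wordOf 3930152)) pb = 1 := by
    rw [← fOM_eq 16 3930152 (by norm_num)]; decide +kernel
  have h1 := Rs_famO hu hx (ha.trans hxa.symm) (hb.trans hxb.symm)
  have h2 : Rs (fO (pt 13) (wordOf 7903248)) (fO (pt 16) (wordOf 3930152)) := by
    have := Rs_xi h1.mem_right (fOM 16 3930152) (by rw [← fOM_eq 13 7903248 (by norm_num)]; exact k8_O_p1_p3_xi)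
    rwa [fOM_eq 16 3930152 (by norm_num)] at this
  exact h1.trans (h2.trans (k8_O_m1_p1 (pt 16) (wordOf 3930152) hy hya hyb))

/-- The stabiliser of `v0` is transitive on the minimal vectors with inner product `-8`. -/
theorem census_rep8 (w : GolayPt → ℤ) (hw : w ∈ census v0 (-8)) : Rs w rep8 := by
  obtain ⟨hw, hn, hd⟩ := hw
  have hfam : w ∈ famA ∪ famB ∪ famO := by
    rw [← Cfsg.Agent.S0394.set_eq]; exact ⟨hw, hn⟩
  rw [dotInt_v0] at hd
  rcases hfam with (⟨P, N, hP, hN, rfl⟩ | ⟨P, N, hP, hN, hE, rfl⟩) | ⟨i, u, hu, rfl⟩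
  · rcases Cfsg.Agent.S0394.sgn_cases 4 P N pa with ⟨_, ea⟩ | ⟨_, ea | ea⟩ <;>
    rcases Cfsg.Agent.S0394.sgn_cases 4 P N pb with ⟨_, eb⟩ | ⟨_, eb | eb⟩ <;>
    first
    | (exfalso; omega)
  · rcases Cfsg.Agent.S0394.sgn_cases 2 P N pa with ⟨_, ea⟩ | ⟨_, ea | ea⟩ <;>
    rcases Cfsg.Agent.S0394.sgn_cases 2 P N pb with ⟨_, eb⟩ | ⟨_, eb | eb⟩ <;>
    first
    | (exfalso; omega)
    | exact k8_B_p0_p2 P N hP hN hE ea eb
    | exact k8_B_m2_p0 P N hP hN hE ea eb
  · rcases Cfsg.Agent.S0394.fO_cases i u pa with ⟨ha1, _, ea⟩ | ⟨ha1, _, ea⟩ | ⟨ha1, _, ea⟩ | ⟨ha1, _, ea⟩ <;>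
    rcases Cfsg.Agent.S0394.fO_cases i u pb with ⟨hb1, _, eb⟩ | ⟨hb1, _, eb⟩ | ⟨hb1, _, eb⟩ | ⟨hb1, _, eb⟩ <;>
    first
    | (exfalso; omega)
    | exact absurd (ha1.trans hb1.symm) pa_ne_pb
    | exact k8_O_m1_p1 i u hu ea eb
    | exact k8_O_m3_m1 i u hu ea eb
    | exact k8_O_p1_p3 i u hu ea eb

/-! ### Inner product `0` -/

/-- The representative for inner product `0`. -/
def rep0 : GolayPt → ℤ := sgn 2 (dec 8536111) (dec 8536111)

theorem k0_B_p0_p0 (P N : Finset GolayPt) (hP : P ∈ octads) (hN : N ⊆ P) (hE : Even N.card)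
    (ha : sgn 2 P N pa = 0) (hb : sgn 2 P N pb = 0) :
    Rs (sgn 2 P N) (rep0) := by
  have hr := okB_spec (mP := 8536111) (mN := 8536111) (by decide +kernel)
  have hra : (sgn 2 (dec 8536111) (dec 8536111)) pa = 0 := by
    rw [← sgnM_eq 2 8536111 8536111]; decide +kernel
  have hrb : (sgn 2 (dec 8536111) (dec 8536111)) pb = 0 := by
    rw [← sgnM_eq 2 8536111 8536111]; decide +kernel
  exact Rs_famB hP hN hE hr.1 hr.2.1 hr.2.2 (ha.trans hra.symm) (hb.trans hrb.symm)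

theorem k0_A_p0_p0_xi : ∀ p, A.mulVec (sgnM 4 9 9) p = 2 * (sgnM 2 8536111 8388622) p := by
  decide +kernel

theorem k0_A_p0_p0 (P N : Finset GolayPt) (hP : P.card = 2) (hN : N ⊆ P)
    (ha : sgn 4 P N pa = 0) (hb : sgn 4 P N pb = 0) :
    Rs (sgn 4 P N) (rep0) := by
  have hx := okA_spec (mP := 9) (mN := 9) (by decide +kernel)
  have hxa : (sgn 4 (dec 9) (dec 9)) pa = 0 := by
    rw [← sgnM_eq 4 9 9]; decide +kernel
  have hxb : (sgn 4 (dec 9) (dec 9)) pb = 0 := by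
    rw [← sgnM_eq 4 9 9]; decide +kernel
  have hy := okB_spec (mP := 8536111) (mN := 8388622) (by decide +kernel)
  have hya : (sgn 2 (dec 8536111) (dec 8388622)) pa = 0 := by
    rw [← sgnM_eq 2 8536111 8388622]; decide +kernel
  have hyb : (sgn 2 (dec 8536111) (dec 8388622)) pb = 0 := by
    rw [← sgnM_eq 2 8536111 8388622]; decide +kernel
  have h1 := Rs_famA hP hN hx.1 hx.2 (ha.trans hxa.symm) (hb.trans hxb.symm)
  have h2 : Rs (sgn 4 (dec 9) (dec 9)) (sgn 2 (dec 8536111) (dec 8388622)) := by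
    have := Rs_xi h1.mem_right (sgnM 2 8536111 8388622) (by rw [← sgnM_eq 4 9 9]; exact k0_A_p0_p0_xi)
    rwa [sgnM_eq 2 8536111 8388622] at this
  exact h1.trans (h2.trans (k0_B_p0_p0 (dec 8536111) (dec 8388622) hy.1 hy.2.1 hy.2.2 hya hyb))

theorem k0_B_p2_p2_xi : ∀ p, A.mulVec (sgnM 2 12656663 65543) p = 2 * (sgnM 4 8454144 8454144) p := by
  decide +kernel

theorem k0_B_p2_p2 (P N : Finset GolayPt) (hP : P ∈ octads) (hN : N ⊆ P) (hE : Even N.card)
    (ha : sgn 2 P N pa = 2) (hb : sgn 2 P N pb = 2) :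
    Rs (sgn 2 P N) (rep0) := by
  have hx := okB_spec (mP := 12656663) (mN := 65543) (by decide +kernel)
  have hxa : (sgn 2 (dec 12656663) (dec 65543)) pa = 2 := by
    rw [← sgnM_eq 2 12656663 65543]; decide +kernel
  have hxb : (sgn 2 (dec 12656663) (dec 65543)) pb = 2 := by
    rw [← sgnM_eq 2 12656663 65543]; decide +kernel
  have hy := okA_spec (mP := 8454144) (mN := 8454144) (by decide +kernel)
  have hya : (sgn 4 (dec 8454144) (dec 8454144)) pa = 0 := by
    rw [← sgnM_eq 4 8454144 8454144]; decide +kernel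
  have hyb : (sgn 4 (dec 8454144) (dec 8454144)) pb = 0 := by
    rw [← sgnM_eq 4 8454144 8454144]; decide +kernel
  have h1 := Rs_famB hP hN hE hx.1 hx.2.1 hx.2.2 (ha.trans hxa.symm) (hb.trans hxb.symm)
  have h2 : Rs (sgn 2 (dec 12656663) (dec 65543)) (sgn 4 (dec 8454144) (dec 8454144)) := by
    have := Rs_xi h1.mem_right (sgnM 4 8454144 8454144) (by rw [← sgnM_eq 2 12656663 65543]; exact k0_B_p2_p2_xi)
    rwa [sgnM_eq 4 8454144 8454144] at this
  exact h1.trans (h2.trans (k0_A_p0_p0 (dec 8454144) (dec 8454144) hy.1 hy.2 hya hyb))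

theorem k0_B_m2_m2_xi : ∀ p, A.mulVec (sgnM 2 12656663 12656663) p = 2 * (sgnM 2 12656663 8388615) p := by
  decide +kernel

theorem k0_B_m2_m2 (P N : Finset GolayPt) (hP : P ∈ octads) (hN : N ⊆ P) (hE : Even N.card)
    (ha : sgn 2 P N pa = -2) (hb : sgn 2 P N pb = -2) :
    Rs (sgn 2 P N) (rep0) := by
  have hx := okB_spec (mP := 12656663) (mN := 12656663) (by decide +kernel)
  have hxa : (sgn 2 (dec 12656663) (dec 12656663)) pa = -2 := by
    rw [← sgnM_eq 2 12656663 12656663]; decide +kernel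
  have hxb : (sgn 2 (dec 12656663) (dec 12656663)) pb = -2 := by
    rw [← sgnM_eq 2 12656663 12656663]; decide +kernel
  have hy := okB_spec (mP := 12656663) (mN := 8388615) (by decide +kernel)
  have hya : (sgn 2 (dec 12656663) (dec 8388615)) pa = 2 := by
    rw [← sgnM_eq 2 12656663 8388615]; decide +kernel
  have hyb : (sgn 2 (dec 12656663) (dec 8388615)) pb = 2 := by
    rw [← sgnM_eq 2 12656663 8388615]; decide +kernel
  have h1 := Rs_famB hP hN hE hx.1 hx.2.1 hx.2.2 (ha.trans hxa.symm) (hb.trans hxb.symm)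
  have h2 : Rs (sgn 2 (dec 12656663) (dec 12656663)) (sgn 2 (dec 12656663) (dec 8388615)) := by
    have := Rs_xi h1.mem_right (sgnM 2 12656663 8388615) (by rw [← sgnM_eq 2 12656663 12656663]; exact k0_B_m2_m2_xi)
    rwa [sgnM_eq 2 12656663 8388615] at this
  exact h1.trans (h2.trans (k0_B_p2_p2 (dec 12656663) (dec 8388615) hy.1 hy.2.1 hy.2.2 hya hyb))

theorem k0_O_m1_m1_xi : ∀ p, A.mulVec (fOM 0 7767041) p = 2 * (sgnM 2 15073798 8389126) p := by
  decide +kernel

theorem k0_O_m1_m1 (i : GolayPt) (u : GolayPt → ZMod 2) (hu : u ∈ golayCode)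
    (ha : fO i u pa = -1) (hb : fO i u pb = -1) :
    Rs (fO i u) (rep0) := by
  have hx := okO_spec (m := 7767041) (by decide +kernel)
  have hxa : (fO (pt 0) (wordOf 7767041)) pa = -1 := by
    rw [← fOM_eq 0 7767041 (by norm_num)]; decide +kernel
  have hxb : (fO (pt 0) (wordOf 7767041)) pb = -1 := by
    rw [← fOM_eq 0 7767041 (by norm_num)]; decide +kernel
  have hy := okB_spec (mP := 15073798) (mN := 8389126) (by decide +kernel)
  have hya : (sgn 2 (dec 15073798) (dec 8389126)) pa = 0 := by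
    rw [← sgnM_eq 2 15073798 8389126]; decide +kernel
  have hyb : (sgn 2 (dec 15073798) (dec 8389126)) pb = 0 := by
    rw [← sgnM_eq 2 15073798 8389126]; decide +kernel
  have h1 := Rs_famO hu hx (ha.trans hxa.symm) (hb.trans hxb.symm)
  have h2 : Rs (fO (pt 0) (wordOf 7767041)) (sgn 2 (dec 15073798) (dec 8389126)) := by
    have := Rs_xi h1.mem_right (sgnM 2 15073798 8389126) (by rw [← fOM_eq 0 7767041 (by norm_num)]; exact k0_O_m1_m1_xi)
    rwa [sgnM_eq 2 15073798 8389126] at this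
  exact h1.trans (h2.trans (k0_B_p0_p0 (dec 15073798) (dec 8389126) hy.1 hy.2.1 hy.2.2 hya hyb))

theorem k0_O_p1_p1_xi : ∀ p, A.mulVec (fOM 0 6053905) p = 2 * (sgnM 2 10305542 8454150) p := by
  decide +kernel

theorem k0_O_p1_p1 (i : GolayPt) (u : GolayPt → ZMod 2) (hu : u ∈ golayCode)
    (ha : fO i u pa = 1) (hb : fO i u pb = 1) :
    Rs (fO i u) (rep0) := by
  have hx := okO_spec (m := 6053905) (by decide +kernel)
  have hxa : (fO (pt 0) (wordOf 6053905)) pa = 1 := by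
    rw [← fOM_eq 0 6053905 (by norm_num)]; decide +kernel
  have hxb : (fO (pt 0) (wordOf 6053905)) pb = 1 := by
    rw [← fOM_eq 0 6053905 (by norm_num)]; decide +kernel
  have hy := okB_spec (mP := 10305542) (mN := 8454150) (by decide +kernel)
  have hya : (sgn 2 (dec 10305542) (dec 8454150)) pa = 0 := by
    rw [← sgnM_eq 2 10305542 8454150]; decide +kernel
  have hyb : (sgn 2 (dec 10305542) (dec 8454150)) pb = 0 := by
    rw [← sgnM_eq 2 10305542 8454150]; decide +kernel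
  have h1 := Rs_famO hu hx (ha.trans hxa.symm) (hb.trans hxb.symm)
  have h2 : Rs (fO (pt 0) (wordOf 6053905)) (sgn 2 (dec 10305542) (dec 8454150)) := by
    have := Rs_xi h1.mem_right (sgnM 2 10305542 8454150) (by rw [← fOM_eq 0 6053905 (by norm_num)]; exact k0_O_p1_p1_xi)
    rwa [sgnM_eq 2 10305542 8454150] at this
  exact h1.trans (h2.trans (k0_B_p0_p0 (dec 10305542) (dec 8454150) hy.1 hy.2.1 hy.2.2 hya hyb))

theorem k0_A_p4_p4_xi : ∀ p, A.mulVec (sgnM 4 8208 0) p = 2 * (sgnM 4 4259840 4259840) p := by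
  decide +kernel

theorem k0_A_p4_p4 (P N : Finset GolayPt) (hP : P.card = 2) (hN : N ⊆ P)
    (ha : sgn 4 P N pa = 4) (hb : sgn 4 P N pb = 4) :
    Rs (sgn 4 P N) (rep0) := by
  have hx := okA_spec (mP := 8208) (mN := 0) (by decide +kernel)
  have hxa : (sgn 4 (dec 8208) (dec 0)) pa = 4 := by
    rw [← sgnM_eq 4 8208 0]; decide +kernel
  have hxb : (sgn 4 (dec 8208) (dec 0)) pb = 4 := by
    rw [← sgnM_eq 4 8208 0]; decide +kernel
  have hy := okA_spec (mP := 4259840) (mN := 4259840) (by decide +kernel)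
  have hya : (sgn 4 (dec 4259840) (dec 4259840)) pa = 0 := by
    rw [← sgnM_eq 4 4259840 4259840]; decide +kernel
  have hyb : (sgn 4 (dec 4259840) (dec 4259840)) pb = 0 := by
    rw [← sgnM_eq 4 4259840 4259840]; decide +kernel
  have h1 := Rs_famA hP hN hx.1 hx.2 (ha.trans hxa.symm) (hb.trans hxb.symm)
  have h2 : Rs (sgn 4 (dec 8208) (dec 0)) (sgn 4 (dec 4259840) (dec 4259840)) := by
    have := Rs_xi h1.mem_right (sgnM 4 4259840 4259840) (by rw [← sgnM_eq 4 8208 0]; exact k0_A_p4_p4_xi)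
    rwa [sgnM_eq 4 4259840 4259840] at this
  exact h1.trans (h2.trans (k0_A_p0_p0 (dec 4259840) (dec 4259840) hy.1 hy.2 hya hyb))

theorem k0_A_m4_m4_xi : ∀ p, A.mulVec (sgnM 4 8208 8208) p = 2 * (sgnM 4 4259840 0) p := by
  decide +kernel

theorem k0_A_m4_m4 (P N : Finset GolayPt) (hP : P.card = 2) (hN : N ⊆ P)
    (ha : sgn 4 P N pa = -4) (hb : sgn 4 P N pb = -4) :
    Rs (sgn 4 P N) (rep0) := by
  have hx := okA_spec (mP := 8208) (mN := 8208) (by decide +kernel)
  have hxa : (sgn 4 (dec 8208) (dec 8208)) pa = -4 := by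
    rw [← sgnM_eq 4 8208 8208]; decide +kernel
  have hxb : (sgn 4 (dec 8208) (dec 8208)) pb = -4 := by
    rw [← sgnM_eq 4 8208 8208]; decide +kernel
  have hy := okA_spec (mP := 4259840) (mN := 0) (by decide +kernel)
  have hya : (sgn 4 (dec 4259840) (dec 0)) pa = 0 := by
    rw [← sgnM_eq 4 4259840 0]; decide +kernel
  have hyb : (sgn 4 (dec 4259840) (dec 0)) pb = 0 := by
    rw [← sgnM_eq 4 4259840 0]; decide +kernel
  have h1 := Rs_famA hP hN hx.1 hx.2 (ha.trans hxa.symm) (hb.trans hxb.symm)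
  have h2 : Rs (sgn 4 (dec 8208) (dec 8208)) (sgn 4 (dec 4259840) (dec 0)) := by
    have := Rs_xi h1.mem_right (sgnM 4 4259840 0) (by rw [← sgnM_eq 4 8208 8208]; exact k0_A_m4_m4_xi)
    rwa [sgnM_eq 4 4259840 0] at this
  exact h1.trans (h2.trans (k0_A_p0_p0 (dec 4259840) (dec 0) hy.1 hy.2 hya hyb))

/-- The stabiliser of `v0` is transitive on the minimal vectors with inner product `0`. -/
theorem census_rep0 (w : GolayPt → ℤ) (hw : w ∈ census v0 (0)) : Rs w rep0 := by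
  obtain ⟨hw, hn, hd⟩ := hw
  have hfam : w ∈ famA ∪ famB ∪ famO := by
    rw [← Cfsg.Agent.S0394.set_eq]; exact ⟨hw, hn⟩
  rw [dotInt_v0] at hd
  rcases hfam with (⟨P, N, hP, hN, rfl⟩ | ⟨P, N, hP, hN, hE, rfl⟩) | ⟨i, u, hu, rfl⟩
  · rcases Cfsg.Agent.S0394.sgn_cases 4 P N pa with ⟨_, ea⟩ | ⟨_, ea | ea⟩ <;>
    rcases Cfsg.Agent.S0394.sgn_cases 4 P N pb with ⟨_, eb⟩ | ⟨_, eb | eb⟩ <;>
    first
    | (exfalso; omega)
    | exact k0_A_p0_p0 P N hP hN ea eb
    | exact k0_A_p4_p4 P N hP hN ea eb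
    | exact k0_A_m4_m4 P N hP hN ea eb
  · rcases Cfsg.Agent.S0394.sgn_cases 2 P N pa with ⟨_, ea⟩ | ⟨_, ea | ea⟩ <;>
    rcases Cfsg.Agent.S0394.sgn_cases 2 P N pb with ⟨_, eb⟩ | ⟨_, eb | eb⟩ <;>
    first
    | (exfalso; omega)
    | exact k0_B_p0_p0 P N hP hN hE ea eb
    | exact k0_B_p2_p2 P N hP hN hE ea eb
    | exact k0_B_m2_m2 P N hP hN hE ea eb
  · rcases Cfsg.Agent.S0394.fO_cases i u pa with ⟨ha1, _, ea⟩ | ⟨ha1, _, ea⟩ | ⟨ha1, _, ea⟩ | ⟨ha1, _, ea⟩ <;>
    rcases Cfsg.Agent.S0394.fO_cases i u pb with ⟨hb1, _, eb⟩ | ⟨hb1, _, eb⟩ | ⟨hb1, _, eb⟩ | ⟨hb1, _, eb⟩ <;>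
    first
    | (exfalso; omega)
    | exact absurd (ha1.trans hb1.symm) pa_ne_pb
    | exact k0_O_m1_m1 i u hu ea eb
    | exact k0_O_p1_p1 i u hu ea eb

end Cfsg.Agent.Lib.Helper26_Co2
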