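import Mathlib
import Cfsg.Agent.Lib.Helper26_Co2Fuse
import Cfsg.Agent.Lib.Helper26_LeechDot

/-!
The stabiliser of a minimal vector of the Leech lattice is transitive on the minimal vectors having
inner product `-16`, `-8` or `0` with it.
-/

set_option autoImplicit false
open Cfsg

namespace Cfsg.Agent.Lib.Helper26_Co2

open Cfsg.Agent.Lib.Helper26_Leech

/-- From transitivity of the stabiliser of `v0` on `census v0 k` to the general statement. -/
theorem stab_trans (k : ℤ) (rep : GolayPt → ℤ) (hrep : ∀ x ∈ census v0 k, Rs x rep)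
    (v w w' : leechLattice) (hv : sqNorm (v : GolayPt → ℤ) = 32)
    (hw : sqNorm (w : GolayPt → ℤ) = 32) (hw' : sqNorm (w' : GolayPt → ℤ) = 32)
    (hd : dotInt (v : GolayPt → ℤ) (w : GolayPt → ℤ) = k)
    (hd' : dotInt (v : GolayPt → ℤ) (w' : GolayPt → ℤ) = k) :
    ∃ g : Co0, g • v = v ∧ g • w = w' := by
  obtain ⟨h, hh⟩ := Cfsg.Agent.S0400.result v v0L hv v0_norm
  have hh' : h.1 v = v0L := hh
  have hcen : ∀ z : leechLattice, sqNorm (z : GolayPt → ℤ) = 32 →
      dotInt (v : GolayPt → ℤ) (z : GolayPt → ℤ) = k →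
      ((h.1 z : leechLattice) : GolayPt → ℤ) ∈ census v0 k := by
    intro z hz hdz
    refine ⟨(h.1 z).2, ?_, ?_⟩
    · rw [h.2.2 z]; exact hz
    · have := dotInt_co0 h.1 h.2 v z
      rw [hh'] at this
      rw [← hdz, ← this]
      rfl
  have h1 := hrep _ (hcen w hw hd)
  have h2 := hrep _ (hcen w' hw' hd')
  obtain ⟨g, hg, hg0, hx, e⟩ := h1.trans h2.symm
  have e' : g (h.1 w) = h.1 w' := by
    apply Subtype.ext
    rw [← e]
  refine ⟨h⁻¹ * ⟨g, hg⟩ * h, ?_, ?_⟩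
  · show (h⁻¹ * ⟨g, hg⟩ * h).1 v = v
    show (h.1)⁻¹ (g (h.1 v)) = v
    rw [hh', hg0, ← hh', Equiv.Perm.inv_def, Equiv.symm_apply_apply]
  · show (h.1)⁻¹ (g (h.1 w)) = w'
    rw [e', Equiv.Perm.inv_def, Equiv.symm_apply_apply]

end Cfsg.Agent.Lib.Helper26_Co2
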