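import Mathlib
import Cfsg.Agent.Lib.Helper26_Co3Data

/-!
The stabiliser in `Co0` of the norm 48 vector `u3` is transitive on the 11178 minimal vectors
having inner product `-16` with it (kernel-checked orbit table and census).
-/

set_option autoImplicit false
open Cfsg

namespace Cfsg.Agent.Lib.Helper26_Co3Data

open Cfsg.Agent.Lib.Helper26_VecCode Cfsg.Agent.Lib.Helper26_Golay Cfsg.Agent.Lib.Helper7_Xi

theorem consU_ok : consOK consU = true := by decide +kernel
theorem gens_good : gensU.all goodW = true := by decide +kernel
theorem base_lt : (baseOf consU).all (fun b => Nat.blt b FAIL) = true := by decide +kernel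
theorem gens_fix : gensU.all (fixesW (baseOf consU)) = true := by decide +kernel

set_option maxRecDepth 1000000 in
theorem forest_ok :
    forestCheck (stepW gensU) (tAtL tblTL 1024) tblP tblG tblD tblR 11178 = true := by
  decide +kernel

set_option maxRecDepth 1000000 in
theorem roots_ok : allFold (fun j => get16 tblR j == 0) 11178 = true := by decide +kernel

set_option maxRecDepth 1000000 in
theorem inc_ok :
    allFold (fun j => decide (tAtL tblTL 1024 j < tAtL tblTL 1024 (j + 1))) (11178 - 1) = true := by
  decide +kernel

theorem root_ok : rootOK consU (tAtL tblTL 1024 0) = true := by decide +kernel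

/-- The code of `u3`. -/
def cu3 : ℕ := 769129988081935258386152268660951634

theorem cu3_mem : vecC cu3 ∈ leechLattice := mem_of_cert _ 8996447 (by decide +kernel)

theorem root_mem : vecC (tAtL tblTL 1024 0) ∈ leechLattice := by
  have e : tAtL tblTL 1024 0 = 519899501185355776599023542134653456 := by decide +kernel
  rw [e]
  exact mem_of_cert _ 0 (by decide +kernel)

theorem base_mem : ∀ c ∈ consU, vecC c.a ∈ leechLattice := by
  intro c hc
  unfold consU at hc
  rw [List.mem_singleton] at hc
  rw [hc]
  exact cu3_mem

set_option maxRecDepth 1000000 in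
theorem cntA_ok : cntA consU = 66 := by decide +kernel
set_option maxRecDepth 1000000 in
theorem cntB_ok1 : cntB consU 0 253 = 1812 := by decide +kernel
set_option maxRecDepth 1000000 in
theorem cntB_ok2 : cntB consU 253 253 = 2148 := by decide +kernel
set_option maxRecDepth 1000000 in
theorem cntB_ok3 : cntB consU 506 253 = 1584 := by decide +kernel
set_option maxRecDepth 1000000 in
theorem cntO_ok1 : cntO consU 0 12 = 3184 := by decide +kernel
set_option maxRecDepth 1000000 in
theorem cntO_ok2 : cntO consU 12 12 = 2384 := by decide +kernel

theorem count_ok : cntA consU + cntB consU 0 759 + cntO consU 0 24 = 11178 := by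
  rw [cntB_split3 consU 253 506 253 253 253 759 rfl rfl rfl, cntO_split2 consU 12 12 12 24 rfl rfl,
    cntA_ok, cntB_ok1, cntB_ok2, cntB_ok3, cntO_ok1, cntO_ok2]

/-- The stabiliser of `u3` is transitive on the `11178` minimal vectors `x` with `u3 · x = -16`. -/
theorem co3_std : (minSet consU).ncard = 11178 ∧
    ∀ x ∈ minSet consU, ∀ x' ∈ minSet consU, RelF (baseSet (baseOf consU)) x x' :=
  config_trans consU consU_ok base_mem base_lt gensU gens_good gens_fix (tAtL tblTL 1024)
    (tAtL_lt tblTL 1024) tblP tblG tblD tblR 11178 forest_ok roots_ok inc_ok root_ok root_mem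
    count_ok

end Cfsg.Agent.Lib.Helper26_Co3Data
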