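import Mathlib
import Cfsg.Prelude.Def_Sporadic_a
import Cfsg.Agent.Lib.Helper7_M24
import Cfsg.Agent.Lib.Helper26_GolaySets
import Cfsg.Agent.Lib.Helper26_M24Perm
import Cfsg.Agent.Lib.Helper26_Forest

/-!
Orbits of subgroups of the permutation group of the 24 points on bitmasks, certified by spanning
forests.
-/

set_option autoImplicit false
open Cfsg
open scoped Pointwise
open Cfsg.Agent.Lib.Helper7_M24

namespace Cfsg.Agent.Lib.Helper26_Golay

/-- Some element of `H` maps the set with bitmask `a` to the set with bitmask `b`. -/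
def MaskRel (H : Subgroup (Equiv.Perm GolayPt)) (a b : ℕ) : Prop :=
  ∃ h ∈ H, ∀ s : Finset GolayPt, enc s = a → enc (h • s) = b

theorem maskRel_refl (H : Subgroup (Equiv.Perm GolayPt)) (a : ℕ) : MaskRel H a a :=
  ⟨1, H.one_mem, fun s hs => by rw [one_smul, hs]⟩

theorem maskRel_trans {H : Subgroup (Equiv.Perm GolayPt)} {a b c : ℕ}
    (h1 : MaskRel H a b) (h2 : MaskRel H b c) : MaskRel H a c := by
  obtain ⟨g, hg, hg'⟩ := h1
  obtain ⟨k, hk, hk'⟩ := h2
  refine ⟨k * g, H.mul_mem hk hg, fun s hs => ?_⟩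
  rw [mul_smul]
  exact hk' _ (hg' s hs)

theorem maskRel_symm {H : Subgroup (Equiv.Perm GolayPt)} {a b : ℕ} (ha : a < 2 ^ 24)
    (h1 : MaskRel H a b) : MaskRel H b a := by
  obtain ⟨g, hg, hg'⟩ := h1
  refine ⟨g⁻¹, H.inv_mem hg, fun s hs => ?_⟩
  have h2 := hg' (dec a) (enc_dec a ha)
  rw [← hs] at h2
  have h3 : s = g • dec a := (enc_injective h2).symm
  rw [h3, inv_smul_smul, enc_dec a ha]

theorem maskRel_step {H : Subgroup (Equiv.Perm GolayPt)} {σ : Equiv.Perm GolayPt} {T : ℕ}
    (hσ : σ ∈ H) (hT : Represents σ T) (a : ℕ) : MaskRel H a (permMask T a) :=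
  ⟨σ, hσ, fun s hs => by rw [enc_smul hT, hs]⟩

theorem exists_of_maskRel {H : Subgroup (Equiv.Perm GolayPt)} {s t : Finset GolayPt}
    (h : MaskRel H (enc s) (enc t)) : ∃ g ∈ H, g • s = t := by
  obtain ⟨g, hg, hg'⟩ := h
  exact ⟨g, hg, enc_injective (hg' s rfl)⟩

/-- The first `r` tables of the packed array `TT` describe elements of `H`. -/
def GensIn (H : Subgroup (Equiv.Perm GolayPt)) (TT r : ℕ) : Prop :=
  ∀ k < r, ∃ σ ∈ H, Represents σ (get120 TT k)

/-- One step of an orbit certificate on bitmasks: generator number `k` maps `b` to `c`. -/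
def maskStepOk (TT r : ℕ) (k b c : ℕ) : Bool :=
  decide (k < r) && (permMask (get120 TT k) b == c)

/-- Soundness of orbit certificates on bitmasks. -/
theorem mask_forest (H : Subgroup (Equiv.Perm GolayPt)) (TT r : ℕ) (hg : GensIn H TT r)
    (tAt : ℕ → ℕ) (P G D R n : ℕ)
    (h : forestCheck (maskStepOk TT r) tAt P G D R n = true) :
    ∀ j < n, get16 R j < n ∧ get8 D (get16 R j) = 0 ∧ MaskRel H (tAt (get16 R j)) (tAt j) := by
  apply forest_sound (MaskRel H) (maskRel_refl H) (maskStepOk TT r) _ tAt P G D R n h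
  intro a b c k hab hs
  unfold maskStepOk at hs
  rw [Bool.and_eq_true, decide_eq_true_eq, beq_iff_eq] at hs
  obtain ⟨σ, hσ, hT⟩ := hg k hs.1
  rw [← hs.2]
  exact maskRel_trans hab (maskRel_step hσ hT b)

/-- Boolean test that a table describes an element of `M24`. -/
def tblInM24 (T : ℕ) : Bool :=
  tblValid T && allFold (fun k => isCodeF (permMask T (genMask k))) 23

theorem exists_of_tblInM24 {T : ℕ} (h : tblInM24 T = true) : ∃ σ ∈ M24, Represents σ T := by
  unfold tblInM24 at h
  rw [Bool.and_eq_true, allFold_eq_true] at h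
  refine ⟨permOfTable T h.1, ?_, represents_permOfTable T h.1⟩
  apply mem_M24_of_represents (represents_permOfTable T h.1)
  intro k
  exact h.2 k.val k.isLt

/-- Generators of `M24` from a Boolean check. -/
theorem gensIn_M24 (TT r : ℕ) (h : allFold (fun k => tblInM24 (get120 TT k)) r = true) :
    GensIn M24 TT r := by
  rw [allFold_eq_true] at h
  intro k hk
  exact exists_of_tblInM24 (h k hk)

/-- Generators of the stabiliser in `M24` of a set of points from a Boolean check. -/
theorem gensIn_stab (s₀ : Finset GolayPt) (TT r : ℕ)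
    (h : allFold (fun k => tblInM24 (get120 TT k) &&
      (permMask (get120 TT k) (enc s₀) == enc s₀)) r = true) :
    GensIn (M24 ⊓ MulAction.stabilizer (Equiv.Perm GolayPt) s₀) TT r := by
  rw [allFold_eq_true] at h
  intro k hk
  have h1 := h k hk
  rw [Bool.and_eq_true, beq_iff_eq] at h1
  obtain ⟨σ, hσ, hT⟩ := exists_of_tblInM24 h1.1
  refine ⟨σ, Subgroup.mem_inf.mpr ⟨hσ, ?_⟩, hT⟩
  rw [MulAction.mem_stabilizer_iff]
  apply enc_injective
  rw [enc_smul hT, h1.2]

end Cfsg.Agent.Lib.Helper26_Golay
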