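import Mathlib
import Cfsg.Agent.Lib.Helper26_M24Orbit
import Cfsg.Agent.Lib.Helper26_Forest
import Cfsg.Agent.Lib.Helper26_GolayFast
import Cfsg.Agent.Lib.Helper7_Xi
import Cfsg.Agent.Lib.Helper92_Monomial
import Cfsg.Agent.S0400

/-!
Leech lattice vectors coded as natural numbers (24 fields of 5 bits, each holding a coordinate
plus 16), and the action of explicit elements of `Co0` (coordinate permutations from `M24`, sign
changes on code words, and the element `xi` of helper7) on codes.
-/

set_option autoImplicit false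
open Cfsg

namespace Cfsg.Agent.Lib.Helper26_VecCode

open Cfsg.Agent.Lib.Helper26_Golay Cfsg.Agent.Lib.Helper92_Monomial Cfsg.Agent.Lib.Helper7_Xi
  Cfsg.Agent.Lib.Helper7_M24

/-! ### helpers for fast evaluation -/

/-- Strict application: the argument `n` is evaluated before it is passed to `f`. -/
def force {α : Type} (n : ℕ) (f : ℕ → α) : α :=
  Nat.rec (motive := fun _ => α) (f 0) (fun k _ => f (Nat.succ k)) n

theorem force_eq {α : Type} (n : ℕ) (f : ℕ → α) : force n f = f n := by
  cases n <;> rfl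

/-- Bit test written with primitive operations. -/
def tb (n k : ℕ) : Bool := Nat.beq (Nat.land (Nat.shiftRight n k) 1) 1

theorem tb_eq (n k : ℕ) : tb n k = n.testBit k := by
  unfold tb
  show Nat.beq ((n >>> k) &&& 1) 1 = n.testBit k
  rw [bit_eq_ite]
  by_cases h : n.testBit k = true
  · rw [if_pos h, h]; rfl
  · rw [if_neg h, Bool.not_eq_true] at *
    rw [h]; rfl

/-! ### codes -/

/-- Raw 5-bit field `i` of a code. -/
def fld (c i : ℕ) : ℕ := Nat.land (Nat.shiftRight c (Nat.mul 5 i)) 31

theorem fld_def (c i : ℕ) : fld c i = (c >>> (5 * i)) &&& 31 := rfl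

theorem fld_lt (c i : ℕ) : fld c i < 32 := by
  rw [fld_def]
  exact lt_of_le_of_lt Nat.and_le_right (by norm_num)

/-- Coordinate `i` of the vector with code `c` (fields store the coordinate plus `16`). -/
def cget (c i : ℕ) : ℤ := (fld c i : ℤ) - 16

/-- The vector with code `c`. -/
def vecC (c : ℕ) : GolayPt → ℤ := fun p => cget c (idx p)

/-- Build a code from raw fields. -/
def mkRaw (f : ℕ → ℕ) : ℕ :=
  Nat.rec (motive := fun _ => ℕ) 0
    (fun k acc => Nat.lor acc (Nat.shiftLeft (Nat.land (f k) 31) (Nat.mul 5 k))) 24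

theorem mkRaw_def (f : ℕ → ℕ) : mkRaw f = orFold (fun i => (f i &&& 31) <<< (5 * i)) 24 := rfl

theorem testBit_fld (c i b : ℕ) : (fld c i).testBit b = (decide (b < 5) && c.testBit (5 * i + b)) := by
  rw [fld_def, Nat.testBit_and, Nat.testBit_shiftRight]
  have h31 : (31 : ℕ) = 2 ^ 5 - 1 := by norm_num
  rw [h31, Nat.testBit_two_pow_sub_one, Bool.and_comm]

theorem testBit_mkRaw (f : ℕ → ℕ) (t : ℕ) :
    (mkRaw f).testBit t = true ↔ t / 5 < 24 ∧ (f (t / 5)).testBit (t % 5) = true := by
  rw [mkRaw_def, testBit_orFold]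
  constructor
  · rintro ⟨k, hk, h⟩
    rw [Nat.testBit_shiftLeft] at h
    simp only [ge_iff_le, Bool.and_eq_true, decide_eq_true_eq] at h
    obtain ⟨h1, h2⟩ := h
    rw [Nat.testBit_and] at h2
    have h31 : (31 : ℕ) = 2 ^ 5 - 1 := by norm_num
    rw [h31, Nat.testBit_two_pow_sub_one, Bool.and_eq_true, decide_eq_true_eq] at h2
    have hk' : t / 5 = k := by omega
    have hm : t % 5 = t - 5 * k := by omega
    rw [hk', hm]
    exact ⟨hk, h2.1⟩
  · rintro ⟨h1, h2⟩
    refine ⟨t / 5, h1, ?_⟩
    rw [Nat.testBit_shiftLeft]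
    simp only [ge_iff_le, Bool.and_eq_true, decide_eq_true_eq]
    refine ⟨by omega, ?_⟩
    rw [Nat.testBit_and]
    have h31 : (31 : ℕ) = 2 ^ 5 - 1 := by norm_num
    rw [h31, Nat.testBit_two_pow_sub_one, Bool.and_eq_true, decide_eq_true_eq]
    have hm : t - 5 * (t / 5) = t % 5 := by omega
    rw [hm]
    exact ⟨h2, Nat.mod_lt _ (by norm_num)⟩

theorem mkRaw_lt (f : ℕ → ℕ) : mkRaw f < 2 ^ 120 := by
  apply Nat.lt_pow_two_of_testBit
  intro t ht
  rw [← Bool.not_eq_true, testBit_mkRaw]
  rintro ⟨h1, _⟩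
  omega

theorem fld_mkRaw (f : ℕ → ℕ) (i : ℕ) (hi : i < 24) (hf : f i < 32) : fld (mkRaw f) i = f i := by
  apply Nat.eq_of_testBit_eq
  intro b
  rw [testBit_fld]
  by_cases hb : b < 5
  · rw [decide_eq_true hb, Bool.true_and, Bool.eq_iff_iff, testBit_mkRaw]
    have h1 : (5 * i + b) / 5 = i := by omega
    have h2 : (5 * i + b) % 5 = b := by omega
    rw [h1, h2]
    exact ⟨fun h => h.2, fun h => ⟨hi, h⟩⟩
  · rw [decide_eq_false hb, Bool.false_and]
    symm
    apply Nat.testBit_lt_two_pow
    calc f i < 32 := hf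
      _ = 2 ^ 5 := by norm_num
      _ ≤ 2 ^ b := Nat.pow_le_pow_right (by norm_num) (by omega)

/-- Build a code from coordinates. -/
def cmk (f : ℕ → ℤ) : ℕ := mkRaw (fun i => (f i + 16).toNat)

theorem cget_cmk (f : ℕ → ℤ) (i : ℕ) (hi : i < 24) (h1 : -16 ≤ f i) (h2 : f i < 16) :
    cget (cmk f) i = f i := by
  unfold cget cmk
  rw [fld_mkRaw _ i hi (by omega)]
  omega

theorem vecC_apply (c : ℕ) (p : GolayPt) : vecC c p = cget c (idx p) := rfl

/-- All coordinates of `f` lie in `[-16, 16)`. -/
def inRange (f : ℕ → ℤ) : Bool := allFold (fun j => decide (-16 ≤ f j ∧ f j < 16)) 24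

theorem vecC_cmk (f : ℕ → ℤ) (h : inRange f = true) (p : GolayPt) : vecC (cmk f) p = f (idx p) := by
  unfold inRange at h
  rw [allFold_eq_true] at h
  have := h (idx p) (idx_lt p)
  rw [decide_eq_true_iff] at this
  exact cget_cmk f (idx p) (idx_lt p) this.1 this.2

theorem vecC_mkRaw (f : ℕ → ℕ) (h : ∀ j < 24, f j < 32) (p : GolayPt) :
    vecC (mkRaw f) p = (f (idx p) : ℤ) - 16 := by
  rw [vecC_apply]
  unfold cget
  rw [fld_mkRaw f (idx p) (idx_lt p) (h _ (idx_lt p))]

/-! ### The element `xi` on codes -/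

/-- Sum with the primitive recursor. -/
def zFold (f : ℕ → ℤ) (n : ℕ) : ℤ := Nat.rec (motive := fun _ => ℤ) 0 (fun k acc => acc + f k) n

theorem zFold_eq (f : ℕ → ℤ) (n : ℕ) : zFold f n = ∑ k ∈ Finset.range n, f k := by
  induction n with
  | zero => rfl
  | succ n ih =>
    rw [Finset.sum_range_succ, ← ih]
    rfl

theorem sum_golayPt_int (G : ℕ → ℤ) : ∑ i : GolayPt, G (idx i) = zFold G 24 := by
  rw [zFold_eq]
  apply Finset.sum_nbij' idx pt
  · intro a _; exact Finset.mem_range.mpr (idx_lt a)
  · intro b _; exact Finset.mem_univ _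
  · intro a _; exact pt_idx a
  · intro b hb; exact idx_pt b (Finset.mem_range.mp hb)
  · intro a _; rfl

/-- Tetrad number of the point with index `j`. -/
def tetN (j : ℕ) : ℕ := tetL.getD j 0

/-- The sign of the point with index `j`. -/
def sgZ (j : ℕ) : ℤ := if tetN j = 0 then -1 else 1

theorem enc7_eq_idx (p : GolayPt) : Cfsg.Agent.Lib.Helper7_Bits.enc p = idx p := by
  cases p <;> rfl

theorem tet_eq (p : GolayPt) : tet p = tetN (idx p) := by
  unfold tet tetN
  rw [enc7_eq_idx]

theorem sg_eq (p : GolayPt) : sg p = sgZ (idx p) := by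
  unfold sg sgZ
  rw [tet_eq]

/-- The signed sum over the tetrad `t` of the coordinates of the code `c`. -/
def tetSum (c t : ℕ) : ℤ := zFold (fun k => if tetN k = t then sgZ k * cget c k else 0) 24

/-- Twice the coordinate `j` of `xi` applied to the code `c`. -/
def xi2Coord (c j : ℕ) : ℤ := 2 * sgZ j * cget c j - tetSum c (tetN j)

theorem mulVec_vecC (c : ℕ) (p : GolayPt) : A.mulVec (vecC c) p = xi2Coord c (idx p) := by
  unfold Matrix.mulVec dotProduct A xi2Coord tetSum
  have h : ∀ q : GolayPt, ((if p = q then 2 * sg p else 0) - (if tet q = tet p then sg q else 0)) *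
      vecC c q = (if q = p then 2 * sgZ (idx p) * cget c (idx p) else 0) -
        (fun k => if tetN k = tetN (idx p) then sgZ k * cget c k else 0) (idx q) := by
    intro q
    rw [sg_eq p, sg_eq q, tet_eq p, tet_eq q, vecC_apply]
    by_cases hpq : p = q
    · subst hpq
      simp
      ring
    · rw [if_neg hpq, if_neg (Ne.symm hpq)]
      beta_reduce
      split_ifs <;> ring
  rw [Finset.sum_congr rfl (fun q _ => h q), Finset.sum_sub_distrib,
    Finset.sum_ite_eq' Finset.univ p, if_pos (Finset.mem_univ p),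
    sum_golayPt_int (fun k => if tetN k = tetN (idx p) then sgZ k * cget c k else 0)]

/-! ### A fast form of `xi` on fields -/

/-- Packed tetrad numbers (3 bits each). -/
def tetP : ℕ := 106596131530016101376

/-- Packed members of the six tetrads (5 bits each). -/
def memP : ℕ := 763724803669980205166108763688241184

/-- Tetrad number by table lookup. -/
def tetNF (i : ℕ) : ℕ := Nat.land (Nat.shiftRight tetP (Nat.mul 3 i)) 7

/-- Member `k` of the tetrad `t`. -/
def tmF (t k : ℕ) : ℕ := fld memP (Nat.add (Nat.mul 4 t) k)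

/-- The sum of the fields of the code `c` over the tetrad `t`. -/
def tetF (c t : ℕ) : ℕ :=
  Nat.add (Nat.add (fld c (tmF t 0)) (fld c (tmF t 1))) (Nat.add (fld c (tmF t 2)) (fld c (tmF t 3)))

/-- Field `i` of the image of the code `c` under `xi`. -/
def xiFld (c i : ℕ) : ℕ :=
  force (tetNF i) (fun t => force (Nat.div (tetF c t) 2) (fun hf =>
    cond (Nat.beq t 0) (Nat.sub hf (fld c i)) (Nat.sub (Nat.add (fld c i) 32) hf)))

/-- Test for field `i`: the tetrad sum is even and the new field is in range. -/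
def xiOK1 (c i : ℕ) : Bool :=
  force (tetNF i) (fun t => force (tetF c t) (fun F => force (Nat.div F 2) (fun hf =>
    Nat.beq (Nat.land F 1) 0 &&
      cond (Nat.beq t 0) (Nat.ble (fld c i) hf && Nat.blt (Nat.sub hf (fld c i)) 32)
        (Nat.ble hf (Nat.add (fld c i) 32) && Nat.blt (fld c i) hf))))

/-- `xi` applies to the code `c`. -/
def xiOK (c : ℕ) : Bool := allFold (xiOK1 c) 24

theorem tetNF_eq : ∀ i < 24, tetNF i = tetN i := by decide

theorem tetN_lt : ∀ i < 24, tetN i < 6 := by decide

theorem tet_filter (t : ℕ) (ht : t < 6) :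
    (Finset.range 24).filter (fun k => tetN k = t) = {tmF t 0, tmF t 1, tmF t 2, tmF t 3} := by
  interval_cases t <;> decide +kernel

theorem four_sum (t : ℕ) (ht : t < 6) (h : ℕ → ℤ) :
    ∑ k ∈ ({tmF t 0, tmF t 1, tmF t 2, tmF t 3} : Finset ℕ), h k =
      h (tmF t 0) + h (tmF t 1) + h (tmF t 2) + h (tmF t 3) := by
  interval_cases t <;>
  · rw [Finset.sum_insert (by decide +kernel), Finset.sum_insert (by decide +kernel),
      Finset.sum_insert (by decide +kernel), Finset.sum_singleton]
    ring

theorem tetSum_eq (c t : ℕ) (ht : t < 6) :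
    tetSum c t = (if t = 0 then -1 else 1) * ((tetF c t : ℤ) - 64) := by
  unfold tetSum
  rw [zFold_eq, ← Finset.sum_filter]
  have h1 : ∀ k ∈ (Finset.range 24).filter (fun k => tetN k = t),
      sgZ k * cget c k = (if t = 0 then -1 else 1) * cget c k := by
    intro k hk
    rw [Finset.mem_filter] at hk
    unfold sgZ
    rw [hk.2]
  rw [Finset.sum_congr rfl h1, ← Finset.mul_sum, tet_filter t ht, four_sum t ht]
  congr 1
  unfold cget
  show _ = ((fld c (tmF t 0) + fld c (tmF t 1) + (fld c (tmF t 2) + fld c (tmF t 3)) : ℕ) : ℤ) - 64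
  push_cast
  ring

theorem xiFld_spec (c i : ℕ) (hi : i < 24) (h : xiOK1 c i = true) :
    xiFld c i < 32 ∧ 2 * ((xiFld c i : ℤ) - 16) = xi2Coord c i := by
  unfold xiOK1 at h
  rw [force_eq, force_eq, force_eq, Bool.and_eq_true] at h
  obtain ⟨hev, hr⟩ := h
  have hev' : tetF c (tetNF i) % 2 = 0 := by
    have := Nat.eq_of_beq_eq_true hev
    show tetF c (tetNF i) % 2 = 0
    rw [← Nat.and_one_is_mod]; exact this
  unfold xiFld xi2Coord
  rw [force_eq, force_eq, tetSum_eq c (tetN i) (tetN_lt i hi)]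
  rw [tetNF_eq i hi] at hr hev' ⊢
  unfold sgZ cget
  have hf := fld_lt c i
  by_cases h0 : tetN i = 0
  · rw [if_pos h0]
    have hb : Nat.beq (tetN i) 0 = true := by rw [h0]; rfl
    rw [hb] at hr ⊢
    simp only [cond_true, Bool.and_eq_true] at hr ⊢
    obtain ⟨hle, hlt⟩ := hr
    have hle' : fld c i ≤ tetF c (tetN i) / 2 := Nat.le_of_ble_eq_true hle
    have hlt' : tetF c (tetN i) / 2 - fld c i < 32 := Nat.blt_eq.mp hlt
    refine ⟨hlt', ?_⟩
    show 2 * (((tetF c (tetN i) / 2 - fld c i : ℕ) : ℤ) - 16) = _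
    omega
  · rw [if_neg h0]
    have hb : Nat.beq (tetN i) 0 = false := by
      rw [← Bool.not_eq_true]; exact fun h => h0 (Nat.eq_of_beq_eq_true h)
    rw [hb] at hr ⊢
    simp only [cond_false, Bool.and_eq_true] at hr ⊢
    obtain ⟨hle, hlt⟩ := hr
    have hle' : tetF c (tetN i) / 2 ≤ fld c i + 32 := Nat.le_of_ble_eq_true hle
    have hlt' : fld c i < tetF c (tetN i) / 2 := Nat.blt_eq.mp hlt
    refine ⟨?_, ?_⟩
    · show fld c i + 32 - tetF c (tetN i) / 2 < 32
      omega
    · show 2 * (((fld c i + 32 - tetF c (tetN i) / 2 : ℕ) : ℤ) - 16) = _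
      omega

/-! ### Moves -/

/-- Basic moves: a coordinate permutation given by a table `T` (with the table `T'` of its inverse),
a sign change on a mask, and the element `xi`. -/
inductive Move where
  | perm (T T' : ℕ) : Move
  | flip (m : ℕ) : Move
  | xi : Move

/-- The image of the code `c` under a move. -/
def applyM : Move → ℕ → ℕ
  | Move.perm _ T', c => mkRaw (fun j => fld c (fld T' j))
  | Move.flip m, c => mkRaw (fun j => cond (tb m j) (Nat.sub 32 (fld c j)) (fld c j))
  | Move.xi, c => mkRaw (xiFld c)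

/-- The move applies to the code `c` without overflow (and, for `xi`, the division is exact). -/
def okM : Move → ℕ → Bool
  | Move.perm _ _, _ => true
  | Move.flip _, c => allFold (fun j => !(Nat.beq (fld c j) 0)) 24
  | Move.xi, c => xiOK c

/-- The data of the move are correct: the table is in `M24` with the right inverse, the mask is a
code word. -/
def goodM : Move → Bool
  | Move.perm T T' => tblInM24 T && allFold (fun i => img T' (img T i) == i) 24
  | Move.flip m => isCode m
  | Move.xi => true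

theorem idx_symm_of_represents {σ : Equiv.Perm GolayPt} {T T' : ℕ} (h : Represents σ T)
    (hinv : allFold (fun i => img T' (img T i) == i) 24 = true) (p : GolayPt) :
    idx (σ.symm p) = img T' (idx p) := by
  rw [allFold_eq_true] at hinv
  have h1 := h (σ.symm p)
  rw [Equiv.apply_symm_apply] at h1
  have h2 := hinv (idx (σ.symm p)) (idx_lt _)
  rw [beq_iff_eq] at h2
  rw [h1, h2]

/-- Every good move is realised by an element of `Co0`. -/
theorem exists_elem_move (mv : Move) (hg : goodM mv = true) :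
    ∃ g ∈ Co0, ∀ c, okM mv c = true → ∀ hx : vecC c ∈ leechLattice,
      ((g ⟨vecC c, hx⟩ : leechLattice) : GolayPt → ℤ) = vecC (applyM mv c) := by
  cases mv with
  | perm T T' =>
    unfold goodM at hg
    rw [Bool.and_eq_true] at hg
    obtain ⟨σ, hσ, hT⟩ := exists_of_tblInM24 hg.1
    refine ⟨monoPerm σ hσ 0 golayCode.zero_mem, monoPerm_mem_Co0 σ hσ 0 golayCode.zero_mem, ?_⟩
    intro c _ hx
    rw [monoPerm_apply, signedPerm_eq, Cfsg.Agent.S0400.support₂_zero',
      Cfsg.Agent.S0400.signFlip_empty]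
    funext p
    show permVec σ (vecC c) p = vecC (applyM (Move.perm T T') c) p
    unfold applyM
    rw [vecC_mkRaw _ (fun j _ => fld_lt _ _), permVec_apply, vecC_apply,
      idx_symm_of_represents hT hg.2]
    rfl
  | flip m =>
    have hm : isCode m = true := hg
    have hu : wordOf m ∈ golayCode := (wordOf_mem_golayCode_iff m (lt_of_isCode hm)).mpr hm
    refine ⟨monoPerm 1 M24.one_mem (wordOf m) hu, monoPerm_mem_Co0 1 M24.one_mem (wordOf m) hu, ?_⟩
    intro c hok hx
    unfold okM at hok
    rw [allFold_eq_true] at hok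
    have hne : ∀ j < 24, fld c j ≠ 0 := by
      intro j hj h0
      have := hok j hj
      rw [h0] at this
      exact absurd this (by decide)
    rw [monoPerm_apply, signedPerm_eq, Cfsg.Agent.S0400.permVec_one, support₂_wordOf]
    funext p
    show signFlip (dec m) (vecC c) p = vecC (applyM (Move.flip m) c) p
    unfold applyM
    have hlt : ∀ j < 24, cond (tb m j) (Nat.sub 32 (fld c j)) (fld c j) < 32 := by
      intro j hj
      have h1 := fld_lt c j
      have h2 := hne j hj
      cases tb m j
      · exact h1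
      · show 32 - fld c j < 32
        omega
    rw [vecC_mkRaw _ hlt, tb_eq]
    have h1 := fld_lt c (idx p)
    by_cases hb : m.testBit (idx p) = true
    · rw [hb, signFlip_of_mem ((mem_dec m p).mpr hb), vecC_apply]
      unfold cget
      show _ = ((32 - fld c (idx p) : ℕ) : ℤ) - 16
      omega
    · rw [signFlip_of_notMem (fun h => hb ((mem_dec m p).mp h))]
      rw [Bool.not_eq_true] at hb
      rw [hb]
      rfl
  | xi =>
    refine ⟨Cfsg.Agent.Lib.Helper7_Xi.xi, xi_mem_Co0, ?_⟩
    intro c hok hx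
    unfold okM xiOK at hok
    rw [allFold_eq_true] at hok
    apply xi_eq_of ⟨vecC c, hx⟩
    intro p
    show A.mulVec (vecC c) p = 2 * vecC (applyM Move.xi c) p
    unfold applyM
    rw [vecC_mkRaw _ (fun j hj => (xiFld_spec c j hj (hok j hj)).1), mulVec_vecC,
      (xiFld_spec c (idx p) (idx_lt p) (hok _ (idx_lt p))).2]

end Cfsg.Agent.Lib.Helper26_VecCode
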