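import Mathlib
import Cfsg.Agent.Lib.Helper26_LeechCensus
import Cfsg.Agent.Lib.Helper26_VecCode

/-!
Counting the minimal vectors of the Leech lattice that have prescribed inner products with given
coded vectors, as a computation on bitmasks.
-/

set_option autoImplicit false
open Cfsg

namespace Cfsg.Agent.Lib.Helper26_VecCode

open Cfsg.Agent.Lib.Helper26_Golay Cfsg.Agent.Lib.Helper26_Leech
open Cfsg.Agent.S0394 (sgn fO famA famB famO parA parB Par famA_eq famB_eq famA_finite famB_finite
  famO_finite disj_AB disj_ABO set_eq)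

/-! ### sums over submasks -/

/-- Sum of `F` over the masks `acc ||| m`, `m` a submask of the lowest `n` bits of `o`. -/
def subFold (F : ℕ → ℕ) (o : ℕ) (n : ℕ) : ℕ → ℕ :=
  Nat.rec (motive := fun _ => ℕ → ℕ) (fun acc => F acc)
    (fun k ih acc => cond (tb o k) (Nat.add (ih acc) (force (Nat.lor acc (Nat.shiftLeft 1 k)) ih))
      (ih acc)) n

theorem subFold_zero (F : ℕ → ℕ) (o acc : ℕ) : subFold F o 0 acc = F acc := rfl

theorem subFold_succ (F : ℕ → ℕ) (o n acc : ℕ) :
    subFold F o (n + 1) acc =
      if o.testBit n = true then subFold F o n acc + subFold F o n (acc ||| 2 ^ n)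
      else subFold F o n acc := by
  have h : subFold F o (n + 1) acc = cond (tb o n)
      (Nat.add (subFold F o n acc) (force (Nat.lor acc (Nat.shiftLeft 1 n)) (subFold F o n)))
      (subFold F o n acc) := rfl
  rw [h, tb_eq, force_eq]
  have e : Nat.lor acc (Nat.shiftLeft 1 n) = acc ||| 2 ^ n := by
    show acc ||| (1 <<< n) = _
    rw [Nat.one_shiftLeft]
  rw [e]
  by_cases hb : o.testBit n = true
  · rw [if_pos hb, hb]; rfl
  · rw [if_neg hb]
    rw [Bool.not_eq_true] at hb
    rw [hb]; rfl

theorem enc_singleton (p : GolayPt) : enc {p} = 2 ^ idx p := by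
  unfold enc
  rw [Finset.image_singleton, Finset.sum_singleton]

theorem enc_insert (p : GolayPt) (A : Finset GolayPt) : enc (insert p A) = enc A ||| 2 ^ idx p := by
  rw [Finset.insert_eq, enc_union, enc_singleton, Nat.lor_comm]

/-- The points of `P` with index below `n`. -/
def low (n : ℕ) (P : Finset GolayPt) : Finset GolayPt := P.filter (fun p => idx p < n)

theorem low_zero (P : Finset GolayPt) : low 0 P = ∅ := by
  unfold low
  rw [Finset.filter_eq_empty_iff]
  intro p _
  omega

theorem low_full (P : Finset GolayPt) : low 24 P = P := by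
  unfold low
  rw [Finset.filter_eq_self]
  intro p _
  exact idx_lt p

theorem low_succ_of_mem (n : ℕ) (hn : n < 24) (P : Finset GolayPt) (h : pt n ∈ P) :
    low (n + 1) P = insert (pt n) (low n P) := by
  ext q
  unfold low
  rw [Finset.mem_insert, Finset.mem_filter, Finset.mem_filter]
  constructor
  · rintro ⟨hq, hlt⟩
    by_cases hqn : idx q = n
    · left; rw [← hqn, pt_idx]
    · right; exact ⟨hq, by omega⟩
  · rintro (rfl | ⟨hq, hlt⟩)
    · exact ⟨h, by rw [idx_pt n hn]; omega⟩
    · exact ⟨hq, by omega⟩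

theorem low_succ_of_notMem (n : ℕ) (P : Finset GolayPt) (h : pt n ∉ P) :
    low (n + 1) P = low n P := by
  ext q
  unfold low
  rw [Finset.mem_filter, Finset.mem_filter]
  constructor
  · rintro ⟨hq, hlt⟩
    refine ⟨hq, ?_⟩
    by_contra hge
    have hqn : idx q = n := by omega
    apply h
    rw [← hqn, pt_idx]
    exact hq
  · rintro ⟨hq, hlt⟩
    exact ⟨hq, by omega⟩

theorem pt_notMem_low (n : ℕ) (hn : n < 24) (P : Finset GolayPt) : pt n ∉ low n P := by
  unfold low
  rw [Finset.mem_filter, idx_pt n hn]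
  omega

theorem subFold_eq_aux (F : ℕ → ℕ) (o : ℕ) : ∀ n ≤ 24, ∀ A : Finset GolayPt,
    subFold F o n (enc A) = ∑ N ∈ (low n (dec o)).powerset, F (enc (A ∪ N)) := by
  intro n
  induction n with
  | zero =>
    intro _ A
    rw [subFold_zero, low_zero, Finset.powerset_empty, Finset.sum_singleton, Finset.union_empty]
  | succ n ih =>
    intro hn A
    have hn' : n < 24 := by omega
    rw [subFold_succ]
    by_cases hb : o.testBit n = true
    · have hmem : pt n ∈ dec o := by rw [mem_dec, idx_pt n hn']; exact hb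
      rw [if_pos hb, low_succ_of_mem n hn' _ hmem,
        Finset.sum_powerset_insert (pt_notMem_low n hn' _)]
      have e : enc A ||| 2 ^ n = enc (insert (pt n) A) := by
        rw [enc_insert, idx_pt n hn']
      rw [e, ih (by omega) A, ih (by omega) (insert (pt n) A)]
      congr 1
      apply Finset.sum_congr rfl
      intro N _
      rw [Finset.union_insert, Finset.insert_union]
    · have hmem : pt n ∉ dec o := by rw [mem_dec, idx_pt n hn']; exact hb
      rw [if_neg hb, low_succ_of_notMem n _ hmem, ih (by omega) A]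

theorem subFold_eq (F : ℕ → ℕ) (o : ℕ) :
    subFold F o 24 0 = ∑ N ∈ (dec o).powerset, F (enc N) := by
  have := subFold_eq_aux F o 24 le_rfl ∅
  rw [enc_empty, low_full] at this
  rw [this]
  apply Finset.sum_congr rfl
  intro N _
  rw [Finset.empty_union]

/-! ### the census of a decidable predicate -/

theorem image_filter_eq' {β : Type*} (f : β → GolayPt → ℤ) (s : Finset β)
    (Q : (GolayPt → ℤ) → Prop) [DecidablePred Q] :
    f '' ((s.filter (fun p => Q (f p)) : Finset β) : Set β) = (f '' (s : Set β)) ∩ {w | Q w} := by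
  ext w
  constructor
  · rintro ⟨p, hp, rfl⟩
    rw [Finset.mem_coe, Finset.mem_filter] at hp
    exact ⟨⟨p, Finset.mem_coe.mpr hp.1, rfl⟩, hp.2⟩
  · rintro ⟨⟨p, hp, rfl⟩, hd⟩
    exact ⟨p, Finset.mem_coe.mpr (Finset.mem_filter.mpr ⟨Finset.mem_coe.mp hp, hd⟩), rfl⟩

theorem min_set_eq (Q : (GolayPt → ℤ) → Prop) :
    {w : GolayPt → ℤ | w ∈ leechLattice ∧ sqNorm w = 32 ∧ Q w} =
      (famA ∩ {w | Q w}) ∪ (famB ∩ {w | Q w}) ∪ (famO ∩ {w | Q w}) := by
  rw [← Set.union_inter_distrib_right, ← Set.union_inter_distrib_right, ← set_eq]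
  ext w
  constructor
  · rintro ⟨h1, h2, h3⟩
    exact ⟨⟨h1, h2⟩, h3⟩
  · rintro ⟨⟨h1, h2⟩, h3⟩
    exact ⟨h1, h2, h3⟩

theorem min_set_finite (Q : (GolayPt → ℤ) → Prop) :
    {w : GolayPt → ℤ | w ∈ leechLattice ∧ sqNorm w = 32 ∧ Q w}.Finite := by
  rw [min_set_eq]
  exact ((famA_finite.subset Set.inter_subset_left).union
    (famB_finite.subset Set.inter_subset_left)).union (famO_finite.subset Set.inter_subset_left)

theorem min_ncard (Q : (GolayPt → ℤ) → Prop) [DecidablePred Q] :
    {w : GolayPt → ℤ | w ∈ leechLattice ∧ sqNorm w = 32 ∧ Q w}.ncard =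
      (parA.filter (fun p => Q (sgn 4 p.1 p.2))).card +
      (parB.filter (fun p => Q (sgn 2 p.1 p.2))).card +
      (parO.filter (fun p => Q (wO p))).card := by
  rw [min_set_eq]
  have hA : (famA ∩ {w | Q w}).Finite := famA_finite.subset Set.inter_subset_left
  have hB : (famB ∩ {w | Q w}).Finite := famB_finite.subset Set.inter_subset_left
  have hO : (famO ∩ {w | Q w}).Finite := famO_finite.subset Set.inter_subset_left
  have dAB : Disjoint (famA ∩ {w | Q w}) (famB ∩ {w | Q w}) :=
    Set.disjoint_of_subset Set.inter_subset_left Set.inter_subset_left disj_AB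
  have dABO : Disjoint ((famA ∩ {w | Q w}) ∪ (famB ∩ {w | Q w})) (famO ∩ {w | Q w}) :=
    Set.disjoint_of_subset
      (Set.union_subset_union Set.inter_subset_left Set.inter_subset_left)
      Set.inter_subset_left disj_ABO
  rw [Set.ncard_union_eq dABO (hA.union hB) hO, Set.ncard_union_eq dAB hA hB]
  have eA : (famA ∩ {w | Q w}).ncard = (parA.filter (fun p => Q (sgn 4 p.1 p.2))).card := by
    rw [famA_eq, ← image_filter_eq' (fun p : Par => sgn 4 p.1 p.2) parA Q,
      ncard_image_filter _ _ injA]
  have eB : (famB ∩ {w | Q w}).ncard = (parB.filter (fun p => Q (sgn 2 p.1 p.2))).card := by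
    rw [famB_eq, ← image_filter_eq' (fun p : Par => sgn 2 p.1 p.2) parB Q,
      ncard_image_filter _ _ injB]
  have eO : (famO ∩ {w | Q w}).ncard = (parO.filter (fun p => Q (wO p))).card := by
    rw [famO_eq', ← image_filter_eq' wO parO Q, ncard_image_filter _ _ wO_injOn]
  rw [eA, eB, eO]

/-! ### the three families on bitmasks -/

/-- Population count with primitive operations. -/
def pop8F (j : ℕ) : ℕ := Nat.land (Nat.shiftRight popTable (Nat.mul 4 j)) 15

/-- Population count with primitive operations. -/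
def popF (n : ℕ) : ℕ :=
  Nat.add (Nat.add (pop8F (Nat.land n 255)) (pop8F (Nat.land (Nat.shiftRight n 8) 255)))
    (pop8F (Nat.land (Nat.shiftRight n 16) 255))

theorem popF_eq (n : ℕ) : popF n = pop n := rfl

/-- Parity test on masks. -/
def evenMask (n : ℕ) : Bool := Nat.beq (Nat.land (popF n) 1) 0

theorem evenMask_enc (N : Finset GolayPt) : evenMask (enc N) = true ↔ Even N.card := by
  unfold evenMask
  rw [popF_eq, ← card_eq_pop, Nat.even_iff]
  show Nat.beq (N.card &&& 1) 0 = true ↔ _
  rw [Nat.and_one_is_mod]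
  constructor
  · intro h; exact Nat.eq_of_beq_eq_true h
  · intro h; rw [h]; rfl

theorem parA_filter_card' (Q : (GolayPt → ℤ) → Prop) [DecidablePred Q] (q : ℕ → ℕ → Bool)
    (hq : ∀ o n, Q (sgn 4 (dec o) (dec n)) ↔ q o n = true) :
    (parA.filter (fun p => Q (sgn 4 p.1 p.2))).card =
      sumFold (fun j => force (duadAt j) (fun o => subFold (fun n => cond (q o n) 1 0) o 24 0))
        276 := by
  unfold parA
  rw [card_filter_sigma]
  have h1 : ∀ P ∈ Finset.powersetCard 2 (Finset.univ : Finset GolayPt),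
      (P.powerset.filter (fun N => Q (sgn 4 P N))).card =
        subFold (fun n => cond (q (enc P) n) 1 0) (enc P) 24 0 := by
    intro P _
    rw [subFold_eq, dec_enc, Finset.card_filter]
    apply Finset.sum_congr rfl
    intro N _
    have := hq (enc P) (enc N)
    rw [dec_enc, dec_enc] at this
    by_cases hQ : Q (sgn 4 P N)
    · rw [if_pos hQ, this.mp hQ]; rfl
    · rw [if_neg hQ]
      have : q (enc P) (enc N) = false := by
        rw [← Bool.not_eq_true]; exact fun h => hQ (this.mpr h)
      rw [this]; rfl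
  rw [Finset.sum_congr rfl h1]
  have h2 : Finset.powersetCard 2 (Finset.univ : Finset GolayPt) = duadFinset := rfl
  rw [h2, duadFinset_eq]
  refine sum_tbl duadAt 276 (nodup_map_of_increasing _ _ duad_increasing) (fun j _ => duadAt_lt j)
    (fun P => subFold (fun n => cond (q (enc P) n) 1 0) (enc P) 24 0)
    (fun o => force o (fun o => subFold (fun n => cond (q o n) 1 0) o 24 0)) ?_
  intro j _
  show subFold (fun n => cond (q (enc (dec (duadAt j))) n) 1 0) (enc (dec (duadAt j))) 24 0 = _
  rw [enc_dec _ (duadAt_lt j), force_eq]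

theorem parB_filter_card' (Q : (GolayPt → ℤ) → Prop) [DecidablePred Q] (q : ℕ → ℕ → Bool)
    (hq : ∀ o n, Q (sgn 2 (dec o) (dec n)) ↔ q o n = true) :
    (parB.filter (fun p => Q (sgn 2 p.1 p.2))).card =
      sumFold (fun j => force (octAt j) (fun o =>
        subFold (fun n => cond (evenMask n && q o n) 1 0) o 24 0)) 759 := by
  unfold parB
  rw [card_filter_sigma]
  have h1 : ∀ P ∈ octFinset,
      ((P.powerset.filter (fun N => Even N.card)).filter (fun N => Q (sgn 2 P N))).card =
        subFold (fun n => cond (evenMask n && q (enc P) n) 1 0) (enc P) 24 0 := by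
    intro P _
    rw [subFold_eq, dec_enc, Finset.filter_filter, Finset.card_filter]
    apply Finset.sum_congr rfl
    intro N _
    have := hq (enc P) (enc N)
    rw [dec_enc, dec_enc] at this
    by_cases hQ : Even N.card ∧ Q (sgn 2 P N)
    · rw [if_pos hQ, (evenMask_enc N).mpr hQ.1, this.mp hQ.2]; rfl
    · rw [if_neg hQ]
      have : (evenMask (enc N) && q (enc P) (enc N)) = false := by
        rw [← Bool.not_eq_true, Bool.and_eq_true]
        rintro ⟨h1, h2⟩
        exact hQ ⟨(evenMask_enc N).mp h1, this.mpr h2⟩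
      rw [this]; rfl
  rw [Finset.sum_congr rfl h1]
  have hlt : ∀ j < 759, octAt j < 2 ^ 24 := fun j hj =>
    lt_of_isCode ((mem_octList_iff _).mp (List.mem_map.mpr ⟨j, List.mem_range.mpr hj, rfl⟩)).1
  unfold octFinset octList
  refine sum_tbl octAt 759 octList_nodup hlt
    (fun P => subFold (fun n => cond (evenMask n && q (enc P) n) 1 0) (enc P) 24 0)
    (fun o => force o (fun o => subFold (fun n => cond (evenMask n && q o n) 1 0) o 24 0)) ?_
  intro j hj
  show subFold (fun n => cond (evenMask n && q (enc (dec (octAt j))) n) 1 0)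
    (enc (dec (octAt j))) 24 0 = _
  rw [enc_dec _ (hlt j hj), force_eq]

theorem parO_filter_card' (Q : (GolayPt → ℤ) → Prop) [DecidablePred Q] (q : ℕ → ℕ → Bool)
    (hq : ∀ (i : GolayPt) (n : ℕ), Q (fO i (wordOf n)) ↔ q (idx i) n = true) :
    (parO.filter (fun p => Q (wO p))).card =
      sumFold (fun ii => sumFold (fun m => force (codeAt m) (fun n => cond (q ii n) 1 0)) 4096)
        24 := by
  unfold parO
  rw [Finset.card_filter, Finset.sum_product]
  have h1 : ∀ i : GolayPt,
      (∑ S ∈ codeFinset, if Q (wO (i, S)) then 1 else 0) =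
        sumFold (fun m => force (codeAt m) (fun n => cond (q (idx i) n) 1 0)) 4096 := by
    intro i
    have e : (fun m => force (codeAt m) (fun n => cond (q (idx i) n) 1 0)) =
        (fun m => if q (idx i) (codeAt m) = true then 1 else 0) := by
      funext m
      rw [force_eq]
      cases q (idx i) (codeAt m) <;> rfl
    rw [e, ← Finset.card_filter, sumFold_ite_eq_countP]
    unfold codeFinset
    apply card_filter_map_dec codeList codeList_nodup
      (fun n hn => lt_of_isCode ((mem_codeList_iff n).mp hn))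
    intro n hn
    have hlt := lt_of_isCode ((mem_codeList_iff n).mp hn)
    show Q (fO i (wordOf (enc (dec n)))) ↔ _
    rw [enc_dec n hlt]
    exact hq i n
  rw [Finset.sum_congr rfl (fun i _ => h1 i)]
  exact sum_golayPt
    (fun ii => sumFold (fun m => force (codeAt m) (fun n => cond (q ii n) 1 0)) 4096)


/-! ### sums of coordinates over masks, by byte tables -/

/-- Entry `j` of a packed array of bytes, with primitive operations. -/
def get8F (A j : ℕ) : ℕ := Nat.land (Nat.shiftRight A (Nat.mul 8 j)) 255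

theorem get8F_eq (A j : ℕ) : get8F A j = get8 A j := rfl

/-- The sum of the entries of the byte table `T` selected by the three bytes of `n`. -/
def wsum (T n : ℕ) : ℕ :=
  Nat.add (Nat.add (get8F T (Nat.land n 255))
    (get8F T (Nat.add 256 (Nat.land (Nat.shiftRight n 8) 255))))
    (get8F T (Nat.add 512 (Nat.land (Nat.shiftRight n 16) 255)))

/-- The byte table `T` lists the sums of the fields of the code `a` over the subsets of each of the
three blocks of eight coordinates. -/
def tblOK (a T : ℕ) : Bool :=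
  allFold (fun q => allFold (fun b =>
    get8 T (256 * q + b) == sumFold (fun t => ((b >>> t) &&& 1) * fld a (8 * q + t)) 8) 256) 3

theorem byte_bit (n s t : ℕ) (ht : t < 8) :
    (((n >>> s) &&& 255) >>> t) &&& 1 = if n.testBit (s + t) = true then 1 else 0 := by
  rw [bit_eq_ite, Nat.testBit_and, Nat.testBit_shiftRight]
  have h255 : (255 : ℕ).testBit t = true := by
    have : (255 : ℕ) = 2 ^ 8 - 1 := by norm_num
    rw [this, Nat.testBit_two_pow_sub_one]
    simpa using ht
  rw [h255, Bool.and_true]

theorem wsum_eq (a T : ℕ) (h : tblOK a T = true) (n : ℕ) :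
    wsum T n = ∑ j ∈ Finset.range 24, if n.testBit j = true then fld a j else 0 := by
  unfold tblOK at h
  rw [allFold_eq_true] at h
  have key : ∀ q < 3, get8 T (256 * q + ((n >>> (8 * q)) &&& 255)) =
      ∑ t ∈ Finset.range 8, if n.testBit (8 * q + t) = true then fld a (8 * q + t) else 0 := by
    intro q hq
    have h1 := h q hq
    rw [allFold_eq_true] at h1
    have hlt : (n >>> (8 * q)) &&& 255 < 256 := lt_of_le_of_lt Nat.and_le_right (by norm_num)
    have h2 := h1 _ hlt
    rw [beq_iff_eq] at h2
    rw [h2, sumFold_eq]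
    apply Finset.sum_congr rfl
    intro t ht
    rw [byte_bit n (8 * q) t (Finset.mem_range.mp ht)]
    split_ifs <;> simp
  have k0 := key 0 (by norm_num)
  have k1 := key 1 (by norm_num)
  have k2 := key 2 (by norm_num)
  have e0 : n >>> (8 * 0) = n := by simp
  rw [e0] at k0
  have h24 : (24 : ℕ) = 8 + 8 + 8 := by norm_num
  rw [h24, Finset.sum_range_add, Finset.sum_range_add]
  show get8 T (n &&& 255) + get8 T (256 + ((n >>> 8) &&& 255)) +
    get8 T (512 + ((n >>> 16) &&& 255)) = _
  have e1 : get8 T (n &&& 255) = get8 T (256 * 0 + (n &&& 255)) := by simp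
  have e2 : get8 T (256 + ((n >>> 8) &&& 255)) = get8 T (256 * 1 + ((n >>> (8 * 1)) &&& 255)) := by
    simp
  have e3 : get8 T (512 + ((n >>> 16) &&& 255)) = get8 T (256 * 2 + ((n >>> (8 * 2)) &&& 255)) := by
    simp
  rw [e1, e2, e3, k0, k1, k2]
  simp only [Nat.mul_zero, Nat.zero_add, Nat.mul_one]

/-- The sum of the coordinates of the vector with code `a` over the mask `M`. -/
def mS (a M : ℕ) : ℤ := ∑ p ∈ dec M, vecC a p

theorem sum_dec (G : ℕ → ℤ) (M : ℕ) :
    ∑ p ∈ dec M, G (idx p) = ∑ j ∈ Finset.range 24, if M.testBit j = true then G j else 0 := by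
  unfold dec
  rw [Finset.sum_filter]
  have := sum_golayPt_int (fun j => if M.testBit j = true then G j else 0)
  rw [zFold_eq] at this
  exact this

theorem card_dec (M : ℕ) : (dec M).card = pop M := by
  rw [pop_eq]
  have h := sum_dec (fun _ => 1) M
  rw [Finset.card_filter]
  have h2 : ((dec M).card : ℤ) = ∑ p ∈ dec M, (1 : ℤ) := by simp
  have h3 : ∑ p ∈ dec M, (1 : ℤ) = ∑ j ∈ Finset.range 24, if M.testBit j = true then 1 else 0 := h
  rw [h3] at h2
  exact_mod_cast h2

theorem mS_eq (a T : ℕ) (h : tblOK a T = true) (M : ℕ) :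
    mS a M = (wsum T M : ℤ) - 16 * (popF M : ℤ) := by
  unfold mS
  have h1 : ∀ p ∈ dec M, vecC a p = (fld a (idx p) : ℤ) - 16 := fun p _ => rfl
  rw [Finset.sum_congr rfl h1, Finset.sum_sub_distrib, Finset.sum_const, nsmul_eq_mul,
    sum_dec (fun j => (fld a j : ℤ)) M, wsum_eq a T h, popF_eq, card_dec]
  push_cast
  ring

/-! ### inner products with coded vectors -/

theorem dec_and (o n : ℕ) : dec (o &&& n) = dec o ∩ dec n := by
  ext p
  rw [Finset.mem_inter, mem_dec, mem_dec, mem_dec, Nat.testBit_and, Bool.and_eq_true]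

theorem dec_xor (o n : ℕ) : dec (o ^^^ n) = symmDiff (dec o) (dec n) := by
  ext p
  rw [Finset.mem_symmDiff, mem_dec, mem_dec, mem_dec, Nat.testBit_xor]
  cases o.testBit (idx p) <;> cases n.testBit (idx p) <;> simp

theorem dotInt_vecC_sgn (a : ℕ) (c : ℤ) (o n : ℕ) :
    dotInt (vecC a) (sgn c (dec o) (dec n)) =
      c * (mS a (o ^^^ (o &&& n)) - mS a (o &&& n)) := by
  unfold dotInt mS
  rw [dec_xor, dec_and]
  have h1 : symmDiff (dec o) (dec o ∩ dec n) = dec o \ dec n := by
    ext p
    simp only [Finset.mem_symmDiff, Finset.mem_inter, Finset.mem_sdiff]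
    tauto
  rw [h1, mul_sub, Finset.mul_sum, Finset.mul_sum, ← Finset.sum_filter_add_sum_filter_not
    Finset.univ (fun p => p ∈ dec o \ dec n)]
  have e1 : ∑ p ∈ Finset.univ.filter (fun p => p ∈ dec o \ dec n),
      vecC a p * sgn c (dec o) (dec n) p = ∑ p ∈ dec o \ dec n, c * vecC a p := by
    have : Finset.univ.filter (fun p => p ∈ dec o \ dec n) = dec o \ dec n := by
      ext p; simp
    rw [this]
    apply Finset.sum_congr rfl
    intro p hp
    rw [Finset.mem_sdiff] at hp
    rw [Cfsg.Agent.S0394.sgn_of_mem_pos hp.1 hp.2, mul_comm]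
  have e2 : ∑ p ∈ Finset.univ.filter (fun p => ¬ p ∈ dec o \ dec n),
      vecC a p * sgn c (dec o) (dec n) p = - ∑ p ∈ dec o ∩ dec n, c * vecC a p := by
    rw [← Finset.sum_neg_distrib]
    have hsub : dec o ∩ dec n ⊆ Finset.univ.filter (fun p => ¬ p ∈ dec o \ dec n) := by
      intro p hp
      rw [Finset.mem_inter] at hp
      rw [Finset.mem_filter, Finset.mem_sdiff]
      exact ⟨Finset.mem_univ _, fun h => h.2 hp.2⟩
    rw [← Finset.sum_subset hsub]
    · apply Finset.sum_congr rfl
      intro p hp
      rw [Finset.mem_inter] at hp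
      rw [Cfsg.Agent.S0394.sgn_of_mem_neg hp.1 hp.2]
      ring
    · intro p hp hnp
      rw [Finset.mem_filter, Finset.mem_sdiff] at hp
      rw [Finset.mem_inter] at hnp
      have : p ∉ dec o := fun ho => hnp ⟨ho, by_contra fun hn => hp.2 ⟨ho, hn⟩⟩
      rw [Cfsg.Agent.S0394.sgn_of_notMem this, mul_zero]
  rw [e1, e2]
  ring

theorem dec_compl (n : ℕ) : dec (n ^^^ 16777215) = (dec n)ᶜ := by
  ext p
  rw [Finset.mem_compl, mem_dec, mem_dec, Nat.testBit_xor]
  have h : (16777215 : ℕ).testBit (idx p) = true := by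
    have : (16777215 : ℕ) = 2 ^ 24 - 1 := by norm_num
    rw [this, Nat.testBit_two_pow_sub_one]
    simpa using idx_lt p
  rw [h]
  cases n.testBit (idx p) <;> simp

theorem mS_single (a : ℕ) (i : GolayPt) : vecC a i = (fld a (idx i) : ℤ) - 16 := rfl

theorem dotInt_vecC_fO (a : ℕ) (i : GolayPt) (n : ℕ) :
    dotInt (vecC a) (fO i (wordOf n)) =
      mS a n - mS a (n ^^^ 16777215) +
        (if n.testBit (idx i) = true then -4 else 4) * ((fld a (idx i) : ℤ) - 16) := by
  unfold dotInt mS
  rw [dec_compl]
  have h1 : ∀ p : GolayPt, vecC a p * fO i (wordOf n) p =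
      (if p ∈ dec n then vecC a p else -vecC a p) +
        (if p = i then (if n.testBit (idx i) = true then -4 else 4) * vecC a i else 0) := by
    intro p
    unfold fO
    have hw : ∀ q : GolayPt, (wordOf n q = 1) ↔ n.testBit (idx q) = true := wordOf_eq_one_iff n
    by_cases hp : n.testBit (idx p) = true
    · rw [if_pos ((hw p).mpr hp), if_pos ((mem_dec n p).mpr hp)]
      by_cases hpi : p = i
      · subst hpi
        rw [if_pos rfl, if_pos rfl, if_pos ((hw p).mpr hp), if_pos hp]; ring
      · rw [if_neg hpi, if_neg hpi]; ring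
    · rw [if_neg (fun h => hp ((hw p).mp h)), if_neg (fun h => hp ((mem_dec n p).mp h))]
      by_cases hpi : p = i
      · subst hpi
        rw [if_pos rfl, if_pos rfl, if_neg (fun h => hp ((hw p).mp h)), if_neg hp]; ring
      · rw [if_neg hpi, if_neg hpi]; ring
  rw [Finset.sum_congr rfl (fun p _ => h1 p), Finset.sum_add_distrib,
    Finset.sum_ite_eq' Finset.univ i, if_pos (Finset.mem_univ i), mS_single]
  congr 1
  rw [← Finset.sum_filter_add_sum_filter_not Finset.univ (fun p => p ∈ dec n)]
  have e1 : Finset.univ.filter (fun p => p ∈ dec n) = dec n := by ext p; simp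
  have e2 : Finset.univ.filter (fun p => ¬ p ∈ dec n) = (dec n)ᶜ := by ext p; simp
  rw [e1, e2, sub_eq_add_neg, ← Finset.sum_neg_distrib]
  congr 1
  · apply Finset.sum_congr rfl
    intro p hp
    rw [if_pos hp]
  · apply Finset.sum_congr rfl
    intro p hp
    rw [Finset.mem_compl] at hp
    rw [if_neg hp]

/-! ### constraints -/

/-- A constraint: the inner product with the vector with code `a` is `kp - kn`; `T` is a byte
table for `a`. -/
structure Con where
  a : ℕ
  kp : ℕ
  kn : ℕ
  T : ℕ

/-- The prescribed value of a constraint. -/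
def Con.k (c : Con) : ℤ := (c.kp : ℤ) - (c.kn : ℤ)

/-- The byte tables of the constraints are correct. -/
def consOK (cons : List Con) : Bool := cons.all (fun c => tblOK c.a c.T)

/-- The vector `x` meets the constraints. -/
def QC (cons : List Con) (x : GolayPt → ℤ) : Prop := ∀ c ∈ cons, dotInt (vecC c.a) x = c.k

instance (cons : List Con) : DecidablePred (QC cons) := fun x => by
  unfold QC
  infer_instance

/-- Test of one constraint on `sgn cc (dec o) (dec n)`. -/
def tS (cc : ℕ) (c : Con) (o n : ℕ) : Bool :=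
  force (Nat.land o n) (fun n' => force (Nat.xor o n') (fun d =>
    Nat.beq (Nat.add (Nat.mul cc (Nat.add (wsum c.T d) (Nat.mul 16 (popF n')))) c.kn)
      (Nat.add (Nat.mul cc (Nat.add (wsum c.T n') (Nat.mul 16 (popF d)))) c.kp)))

theorem tS_iff (cc : ℕ) (c : Con) (h : tblOK c.a c.T = true) (o n : ℕ) :
    tS cc c o n = true ↔ dotInt (vecC c.a) (sgn (cc : ℤ) (dec o) (dec n)) = c.k := by
  unfold tS
  rw [force_eq, force_eq, dotInt_vecC_sgn, mS_eq c.a c.T h, mS_eq c.a c.T h]
  show Nat.beq (cc * (wsum c.T (o ^^^ (o &&& n)) + 16 * popF (o &&& n)) + c.kn)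
    (cc * (wsum c.T (o &&& n) + 16 * popF (o ^^^ (o &&& n))) + c.kp) = true ↔ _
  unfold Con.k
  constructor
  · intro h
    have := Nat.eq_of_beq_eq_true h
    zify at this
    linarith
  · intro h
    have : cc * (wsum c.T (o ^^^ (o &&& n)) + 16 * popF (o &&& n)) + c.kn =
        cc * (wsum c.T (o &&& n) + 16 * popF (o ^^^ (o &&& n))) + c.kp := by
      zify
      linarith
    rw [this]
    exact Nat.beq_refl _

/-- Test of one constraint on `fO (pt ii) (wordOf n)`. -/
def tO (c : Con) (ii n : ℕ) : Bool :=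
  force (Nat.xor n 16777215) (fun nb =>
    cond (tb n ii)
      (Nat.beq
        (Nat.add (Nat.add (Nat.add (wsum c.T n) (Nat.mul 16 (popF nb))) 64) c.kn)
        (Nat.add (Nat.add (Nat.add (wsum c.T nb) (Nat.mul 16 (popF n))) (Nat.mul 4 (fld c.a ii)))
          c.kp))
      (Nat.beq
        (Nat.add (Nat.add (Nat.add (wsum c.T n) (Nat.mul 16 (popF nb))) (Nat.mul 4 (fld c.a ii)))
          c.kn)
        (Nat.add (Nat.add (Nat.add (wsum c.T nb) (Nat.mul 16 (popF n))) 64) c.kp)))

theorem tO_iff (c : Con) (h : tblOK c.a c.T = true) (i : GolayPt) (n : ℕ) :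
    tO c (idx i) n = true ↔ dotInt (vecC c.a) (fO i (wordOf n)) = c.k := by
  unfold tO
  rw [force_eq, tb_eq, dotInt_vecC_fO, mS_eq c.a c.T h, mS_eq c.a c.T h]
  unfold Con.k
  by_cases hb : n.testBit (idx i) = true
  · rw [hb, if_pos rfl]
    show Nat.beq (wsum c.T n + 16 * popF (n ^^^ 16777215) + 64 + c.kn)
      (wsum c.T (n ^^^ 16777215) + 16 * popF n + 4 * fld c.a (idx i) + c.kp) = true ↔ _
    constructor
    · intro h
      have := Nat.eq_of_beq_eq_true h
      zify at this
      linarith
    · intro h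
      have : wsum c.T n + 16 * popF (n ^^^ 16777215) + 64 + c.kn =
          wsum c.T (n ^^^ 16777215) + 16 * popF n + 4 * fld c.a (idx i) + c.kp := by
        zify
        linarith
      rw [this]
      exact Nat.beq_refl _
  · rw [if_neg hb]
    rw [Bool.not_eq_true] at hb
    rw [hb]
    show Nat.beq (wsum c.T n + 16 * popF (n ^^^ 16777215) + 4 * fld c.a (idx i) + c.kn)
      (wsum c.T (n ^^^ 16777215) + 16 * popF n + 64 + c.kp) = true ↔ _
    constructor
    · intro h
      have := Nat.eq_of_beq_eq_true h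
      zify at this
      linarith
    · intro h
      have : wsum c.T n + 16 * popF (n ^^^ 16777215) + 4 * fld c.a (idx i) + c.kn =
          wsum c.T (n ^^^ 16777215) + 16 * popF n + 64 + c.kp := by
        zify
        linarith
      rw [this]
      exact Nat.beq_refl _

/-- The constraints on `sgn cc (dec o) (dec n)`. -/
def qS (cons : List Con) (cc : ℕ) (o n : ℕ) : Bool := cons.all (fun c => tS cc c o n)

/-- The constraints on `fO (pt ii) (wordOf n)`. -/
def qO (cons : List Con) (ii n : ℕ) : Bool := cons.all (fun c => tO c ii n)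

theorem QC_sgn (cons : List Con) (h : consOK cons = true) (cc : ℕ) (o n : ℕ) :
    QC cons (sgn (cc : ℤ) (dec o) (dec n)) ↔ qS cons cc o n = true := by
  unfold QC qS
  unfold consOK at h
  rw [List.all_eq_true] at h ⊢
  apply forall₂_congr
  intro c hc
  rw [tS_iff cc c (h c hc)]

theorem QC_fO (cons : List Con) (h : consOK cons = true) (i : GolayPt) (n : ℕ) :
    QC cons (fO i (wordOf n)) ↔ qO cons (idx i) n = true := by
  unfold QC qO
  unfold consOK at h
  rw [List.all_eq_true] at h ⊢
  apply forall₂_congr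
  intro c hc
  rw [tO_iff c (h c hc)]

/-- The number of vectors `sgn 4 P N` meeting the constraints. -/
def cntA (cons : List Con) : ℕ :=
  sumFold (fun j => force (duadAt j) (fun o => subFold (fun n => cond (qS cons 4 o n) 1 0) o 24 0))
    276

/-- The number of vectors `sgn 2 P N` meeting the constraints, for the octads number
`lo ≤ j < lo + len`. -/
def cntB (cons : List Con) (lo len : ℕ) : ℕ :=
  sumFold (fun j => force (octAt (lo + j)) (fun o =>
    subFold (fun n => cond (evenMask n && qS cons 2 o n) 1 0) o 24 0)) len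

/-- The number of odd minimal vectors `fO (pt ii) w` meeting the constraints, `lo ≤ ii < lo + len`. -/
def cntO (cons : List Con) (lo len : ℕ) : ℕ :=
  sumFold (fun ii => sumFold (fun m => force (codeAt m) (fun n => cond (qO cons (lo + ii) n) 1 0))
    4096) len

theorem sumFold_add (f : ℕ → ℕ) (a b : ℕ) :
    sumFold f (a + b) = sumFold f a + sumFold (fun j => f (a + j)) b := by
  rw [sumFold_eq, sumFold_eq, sumFold_eq, Finset.sum_range_add]

theorem cntB_add (cons : List Con) (lo a b : ℕ) :
    cntB cons lo (a + b) = cntB cons lo a + cntB cons (lo + a) b := by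
  unfold cntB
  rw [sumFold_add]
  simp only [Nat.add_assoc]

theorem cntO_add (cons : List Con) (lo a b : ℕ) :
    cntO cons lo (a + b) = cntO cons lo a + cntO cons (lo + a) b := by
  unfold cntO
  rw [sumFold_add]
  simp only [Nat.add_assoc]

theorem cntB_split3 (cons : List Con) (l1 l2 n1 n2 n3 n : ℕ) (h1 : l1 = n1) (h2 : l2 = n1 + n2)
    (hn : n = n1 + n2 + n3) :
    cntB cons 0 n = cntB cons 0 n1 + cntB cons l1 n2 + cntB cons l2 n3 := by
  subst h1 h2 hn
  rw [cntB_add, cntB_add]
  simp only [Nat.zero_add]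

theorem cntO_split2 (cons : List Con) (l1 n1 n2 n : ℕ) (h1 : l1 = n1) (hn : n = n1 + n2) :
    cntO cons 0 n = cntO cons 0 n1 + cntO cons l1 n2 := by
  subst h1 hn
  rw [cntO_add]
  simp only [Nat.zero_add]

/-- The minimal vectors meeting the constraints. -/
def minSet (cons : List Con) : Set (GolayPt → ℤ) :=
  {w | w ∈ leechLattice ∧ sqNorm w = 32 ∧ QC cons w}

theorem minSet_finite (cons : List Con) : (minSet cons).Finite := min_set_finite _

theorem minSet_ncard (cons : List Con) (h : consOK cons = true) :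
    (minSet cons).ncard = cntA cons + cntB cons 0 759 + cntO cons 0 24 := by
  unfold minSet
  have hA := parA_filter_card' (QC cons) (qS cons 4) (fun o n => QC_sgn cons h 4 o n)
  have hB := parB_filter_card' (QC cons) (qS cons 2) (fun o n => QC_sgn cons h 2 o n)
  have hO := parO_filter_card' (QC cons) (qO cons) (QC_fO cons h)
  rw [min_ncard, hA, hB, hO]
  unfold cntA cntB cntO
  simp only [Nat.zero_add]

end Cfsg.Agent.Lib.Helper26_VecCode
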