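import Mathlib
import Cfsg.Agent.Lib.Helper26_VecCode
import Cfsg.Agent.Lib.Helper26_LeechDot

/-!
Words in the basic moves on coded Leech vectors, the orbit relation of the pointwise stabiliser of a
set of lattice vectors in `Co0`, and certified orbit tables.
-/

set_option autoImplicit false
open Cfsg

namespace Cfsg.Agent.Lib.Helper26_VecCode

open Cfsg.Agent.Lib.Helper26_Golay Cfsg.Agent.Lib.Helper26_Leech

/-- The image of a code under a word (the head of the list acts first). -/
def applyW : List Move → ℕ → ℕ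
  | [], c => c
  | mv :: w, c => applyW w (applyM mv c)

/-- The word applies to the code without overflow. -/
def okW : List Move → ℕ → Bool
  | [], _ => true
  | mv :: w, c => okM mv c && okW w (applyM mv c)

/-- All the moves of the word have correct data. -/
def goodW (w : List Move) : Bool := w.all goodM

theorem exists_elem_word (w : List Move) (hg : goodW w = true) :
    ∃ g ∈ Co0, ∀ c, okW w c = true → ∀ hx : vecC c ∈ leechLattice,
      ((g ⟨vecC c, hx⟩ : leechLattice) : GolayPt → ℤ) = vecC (applyW w c) := by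
  induction w with
  | nil =>
    exact ⟨1, Co0.one_mem, fun c _ hx => rfl⟩
  | cons mv w ih =>
    unfold goodW at hg
    rw [List.all_cons, Bool.and_eq_true] at hg
    obtain ⟨g1, hg1, h1⟩ := exists_elem_move mv hg.1
    obtain ⟨g2, hg2, h2⟩ := ih hg.2
    refine ⟨g2 * g1, Co0.mul_mem hg2 hg1, ?_⟩
    intro c hok hx
    unfold okW at hok
    rw [Bool.and_eq_true] at hok
    have e1 := h1 c hok.1 hx
    have hm : vecC (applyM mv c) ∈ leechLattice := by
      rw [← e1]; exact (g1 ⟨vecC c, hx⟩).2
    have e2 : g1 ⟨vecC c, hx⟩ = ⟨vecC (applyM mv c), hm⟩ := Subtype.ext e1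
    rw [Equiv.Perm.mul_apply, e2]
    exact h2 _ hok.2 hm

/-- The failure value of `runW` (not a code). -/
def FAIL : ℕ := 1329227995784915872903807060280344576

theorem FAIL_eq : FAIL = 2 ^ 120 := by norm_num [FAIL]

/-- One move, with the failure value if it does not apply. -/
def stepM (mv : Move) (c : ℕ) : ℕ := cond (okM mv c) (applyM mv c) FAIL

/-- The image of a code under a word, or the failure value; intermediate codes are evaluated
strictly. -/
def runW : List Move → ℕ → ℕ
  | [], c => c
  | mv :: w, c => force (stepM mv c) (fun c' => cond (Nat.beq c' FAIL) FAIL (runW w c'))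

theorem applyM_lt (mv : Move) (c : ℕ) : applyM mv c < 2 ^ 120 := by
  cases mv with
  | perm T T' => unfold applyM; exact mkRaw_lt _
  | flip m => unfold applyM; exact mkRaw_lt _
  | xi => unfold applyM; exact mkRaw_lt _

theorem runW_spec (w : List Move) : ∀ c r, runW w c = r → r < 2 ^ 120 →
    okW w c = true ∧ applyW w c = r := by
  induction w with
  | nil =>
    intro c r h _
    exact ⟨rfl, h⟩
  | cons mv w ih =>
    intro c r h hr
    unfold runW at h
    rw [force_eq] at h
    unfold stepM at h
    cases hok : okM mv c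
    · rw [hok] at h
      have : r = FAIL := by rw [← h]; rfl
      rw [this, FAIL_eq] at hr
      exact absurd hr (lt_irrefl _)
    · rw [hok] at h
      have hne : Nat.beq (applyM mv c) FAIL = false := by
        rw [← Bool.not_eq_true]
        intro hb
        have := Nat.eq_of_beq_eq_true hb
        have hlt := applyM_lt mv c
        rw [this, FAIL_eq] at hlt
        exact absurd hlt (lt_irrefl _)
      simp only [cond_true] at h
      rw [hne] at h
      simp only [cond_false] at h
      obtain ⟨h1, h2⟩ := ih _ _ h hr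
      unfold okW applyW
      rw [hok, h1, h2]
      exact ⟨rfl, rfl⟩

/-! ### The orbit relation of a pointwise stabiliser -/

/-- The orbit relation of the pointwise stabiliser of `F` in `Co0`, on raw vectors. -/
def RelF (F : Set leechLattice) (x y : GolayPt → ℤ) : Prop :=
  ∃ g ∈ Co0, (∀ f ∈ F, g f = f) ∧ ∃ hx : x ∈ leechLattice,
    ((g ⟨x, hx⟩ : leechLattice) : GolayPt → ℤ) = y

theorem RelF.mem_right {F : Set leechLattice} {x y : GolayPt → ℤ} (h : RelF F x y) :
    y ∈ leechLattice := by
  obtain ⟨g, _, _, hx, rfl⟩ := h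
  exact (g ⟨x, hx⟩).2

theorem RelF.mem_left {F : Set leechLattice} {x y : GolayPt → ℤ} (h : RelF F x y) :
    x ∈ leechLattice := by
  obtain ⟨g, _, _, hx, _⟩ := h
  exact hx

theorem RelF.refl {F : Set leechLattice} {x : GolayPt → ℤ} (hx : x ∈ leechLattice) : RelF F x x :=
  ⟨1, Co0.one_mem, fun _ _ => rfl, hx, rfl⟩

theorem RelF.trans {F : Set leechLattice} {x y z : GolayPt → ℤ} (h1 : RelF F x y)
    (h2 : RelF F y z) : RelF F x z := by
  obtain ⟨g, hg, hg0, hx, rfl⟩ := h1
  obtain ⟨h, hh, hh0, hy, rfl⟩ := h2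
  refine ⟨h * g, Co0.mul_mem hh hg, ?_, hx, rfl⟩
  intro f hf
  rw [Equiv.Perm.mul_apply, hg0 f hf, hh0 f hf]

theorem RelF.symm {F : Set leechLattice} {x y : GolayPt → ℤ} (h : RelF F x y) : RelF F y x := by
  obtain ⟨g, hg, hg0, hx, rfl⟩ := h
  refine ⟨g⁻¹, Co0.inv_mem hg, ?_, (g ⟨x, hx⟩).2, ?_⟩
  · intro f hf
    rw [Equiv.Perm.inv_def, Equiv.symm_apply_eq, hg0 f hf]
  · show ((g⁻¹ (g ⟨x, hx⟩) : leechLattice) : GolayPt → ℤ) = x
    rw [Equiv.Perm.inv_def, Equiv.symm_apply_apply]

/-- The inner product with a fixed vector is invariant. -/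
theorem RelF.dot_eq {F : Set leechLattice} {x y : GolayPt → ℤ} (h : RelF F x y) (f : leechLattice)
    (hf : f ∈ F) : dotInt (f : GolayPt → ℤ) y = dotInt (f : GolayPt → ℤ) x := by
  obtain ⟨g, hg, hg0, hx, rfl⟩ := h
  have := dotInt_co0 g hg f ⟨x, hx⟩
  rw [hg0 f hf] at this
  exact this

theorem RelF.norm_eq {F : Set leechLattice} {x y : GolayPt → ℤ} (h : RelF F x y) :
    sqNorm y = sqNorm x := by
  obtain ⟨g, hg, hg0, hx, rfl⟩ := h
  exact hg.2 ⟨x, hx⟩

/-- The lattice vectors with codes in the list `B`. -/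
def baseSet (B : List ℕ) : Set leechLattice := {f | ∃ b ∈ B, (f : GolayPt → ℤ) = vecC b}

/-- The word fixes the codes in `B`. -/
def fixesW (B : List ℕ) (w : List Move) : Bool :=
  B.all (fun b => Nat.blt b FAIL && Nat.beq (runW w b) b)

theorem fixesW_spec (B : List ℕ) (w : List Move) (h : fixesW B w = true) :
    ∀ b ∈ B, okW w b = true ∧ applyW w b = b := by
  intro b hb
  unfold fixesW at h
  rw [List.all_eq_true] at h
  have := h b hb
  rw [Bool.and_eq_true] at this
  have h1 : b < 2 ^ 120 := by
    rw [← FAIL_eq]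
    exact Nat.blt_eq.mp this.1
  exact runW_spec w b b (Nat.eq_of_beq_eq_true this.2) h1

theorem RelF_word (B : List ℕ) (w : List Move) (hg : goodW w = true) (hf : fixesW B w = true)
    (c : ℕ) (hok : okW w c = true) (hx : vecC c ∈ leechLattice) :
    RelF (baseSet B) (vecC c) (vecC (applyW w c)) := by
  obtain ⟨g, hgC, h⟩ := exists_elem_word w hg
  refine ⟨g, hgC, ?_, hx, h c hok hx⟩
  rintro ⟨f, hfL⟩ ⟨b, hb, rfl⟩
  have := fixesW_spec B w hf b hb
  apply Subtype.ext
  show ((g ⟨vecC b, hfL⟩ : leechLattice) : GolayPt → ℤ) = vecC b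
  rw [h b this.1 hfL, this.2]

/-! ### Certified orbit tables -/

/-- The step test for the generators `gens` (a list of words). -/
def stepW (gens : List (List Move)) (k b c : ℕ) : Bool :=
  Nat.blt c FAIL && force b (fun b' => Nat.beq (runW (gens.getD k []) b') c)

theorem getD_good (gens : List (List Move)) (h : gens.all goodW = true) (k : ℕ) :
    goodW (gens.getD k []) = true := by
  rw [List.all_eq_true] at h
  by_cases hk : k < gens.length
  · rw [List.getD_eq_getElem _ _ hk]
    exact h _ (List.getElem_mem hk)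
  · rw [List.getD_eq_default _ _ (by omega)]
    rfl

theorem getD_fixes (B : List ℕ) (hB : B.all (fun b => Nat.blt b FAIL) = true)
    (gens : List (List Move)) (h : gens.all (fixesW B) = true) (k : ℕ) :
    fixesW B (gens.getD k []) = true := by
  rw [List.all_eq_true] at h
  by_cases hk : k < gens.length
  · rw [List.getD_eq_getElem _ _ hk]
    exact h _ (List.getElem_mem hk)
  · rw [List.getD_eq_default _ _ (by omega)]
    unfold fixesW
    rw [List.all_eq_true] at hB ⊢
    intro b hb
    rw [hB b hb]
    show (true && Nat.beq b b) = true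
    rw [Bool.true_and, Nat.beq_refl]

/-- Soundness of an orbit table on codes: every entry is the image of its root under an element of
the pointwise stabiliser of the base. -/
theorem forest_vec (B : List ℕ) (hB : B.all (fun b => Nat.blt b FAIL) = true)
    (gens : List (List Move)) (hgood : gens.all goodW = true)
    (hfix : gens.all (fixesW B) = true) (tAt : ℕ → ℕ) (P G D R n : ℕ)
    (h : forestCheck (stepW gens) tAt P G D R n = true) :
    ∀ j < n, get16 R j < n ∧ get8 D (get16 R j) = 0 ∧
      (vecC (tAt (get16 R j)) ∈ leechLattice →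
        RelF (baseSet B) (vecC (tAt (get16 R j))) (vecC (tAt j))) := by
  apply forest_sound (fun a b => vecC a ∈ leechLattice → RelF (baseSet B) (vecC a) (vecC b))
    (fun a ha => RelF.refl ha) (stepW gens) _ tAt P G D R n h
  intro a b c k hab hstep ha
  have h1 := hab ha
  unfold stepW at hstep
  rw [Bool.and_eq_true, force_eq] at hstep
  have hc : c < 2 ^ 120 := by
    rw [← FAIL_eq]
    exact Nat.blt_eq.mp hstep.1
  obtain ⟨hok, happ⟩ := runW_spec _ b c (Nat.eq_of_beq_eq_true hstep.2) hc
  have h2 := RelF_word B (gens.getD k []) (getD_good gens hgood k)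
    (getD_fixes B hB gens hfix k) b hok h1.mem_right
  rw [happ] at h2
  exact h1.trans h2

/-! ### Codes are determined by their vectors -/

theorem fld_eq_of_vecC_eq {c c' : ℕ} (h : vecC c = vecC c') (i : ℕ) (hi : i < 24) :
    fld c i = fld c' i := by
  have := congrFun h (pt i)
  rw [vecC_apply, vecC_apply, idx_pt i hi] at this
  unfold cget at this
  omega

theorem code_eq_of_vecC_eq {c c' : ℕ} (hc : c < 2 ^ 120) (hc' : c' < 2 ^ 120)
    (h : vecC c = vecC c') : c = c' := by
  apply Nat.eq_of_testBit_eq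
  intro t
  by_cases ht : t < 120
  · have h1 := testBit_fld c (t / 5) (t % 5)
    have h2 := testBit_fld c' (t / 5) (t % 5)
    have e : 5 * (t / 5) + t % 5 = t := by omega
    have hlt : t % 5 < 5 := Nat.mod_lt _ (by norm_num)
    rw [e, decide_eq_true hlt, Bool.true_and] at h1 h2
    rw [← h1, ← h2, fld_eq_of_vecC_eq h (t / 5) (by omega)]
  · have hp : (2 : ℕ) ^ 120 ≤ 2 ^ t := Nat.pow_le_pow_right (by norm_num) (by omega)
    rw [Nat.testBit_lt_two_pow (lt_of_lt_of_le hc hp),
      Nat.testBit_lt_two_pow (lt_of_lt_of_le hc' hp)]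

theorem get120_lt (T j : ℕ) : get120 T j < 2 ^ 120 := by
  unfold get120
  exact lt_of_le_of_lt Nat.and_le_right (by norm_num)

/-! ### Complete orbit tables -/

/-- If the table `T` of `n` distinct codes lies in one orbit of the pointwise stabiliser of `F`
inside the invariant finite set `X`, and `X` has `n` elements, then that stabiliser is transitive
on `X`. -/
theorem orbit_complete (F : Set leechLattice) (X : Set (GolayPt → ℤ))
    (hXinv : ∀ x y, RelF F x y → x ∈ X → y ∈ X)
    (tAt : ℕ → ℕ) (hlt : ∀ j, tAt j < 2 ^ 120) (n : ℕ)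
    (hinc : allFold (fun j => decide (tAt j < tAt (j + 1))) (n - 1) = true)
    (hroot : vecC (tAt 0) ∈ X)
    (hrel : ∀ j < n, RelF F (vecC (tAt 0)) (vecC (tAt j)))
    (hfin : X.Finite) (hcard : X.ncard = n) :
    ∀ x ∈ X, ∀ x' ∈ X, RelF F x x' := by
  set S : Set (GolayPt → ℤ) := (fun j => vecC (tAt j)) '' (Finset.range n : Set ℕ) with hS
  have hsub : S ⊆ X := by
    rintro _ ⟨j, hj, rfl⟩
    rw [Finset.mem_coe, Finset.mem_range] at hj
    exact hXinv _ _ (hrel j hj) hroot
  have hnd := nodup_map_of_increasing tAt n hinc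
  have hinj : Set.InjOn (fun j => vecC (tAt j)) (Finset.range n : Set ℕ) := by
    intro i hi j hj hij
    rw [Finset.mem_coe, Finset.mem_range] at hi hj
    have e := code_eq_of_vecC_eq (hlt i) (hlt j) hij
    exact List.inj_on_of_nodup_map hnd (List.mem_range.mpr hi) (List.mem_range.mpr hj) e
  have hSc : S.ncard = n := by
    rw [hS, Set.InjOn.ncard_image hinj, Set.ncard_coe_finset, Finset.card_range]
  have hSX : S = X := Set.eq_of_subset_of_ncard_le hsub (by rw [hcard, hSc]) hfin
  intro x hx x' hx'
  rw [← hSX] at hx hx'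
  obtain ⟨j, hj, rfl⟩ := hx
  obtain ⟨j', hj', rfl⟩ := hx'
  rw [Finset.mem_coe, Finset.mem_range] at hj hj'
  exact (hrel j hj).symm.trans (hrel j' hj')

/-- Entry `j` of a table of codes stored in chunks of `sz` entries. -/
def tAtL (L : List ℕ) (sz j : ℕ) : ℕ := get120 (L.getD (j / sz) 0) (j % sz)

theorem tAtL_lt (L : List ℕ) (sz j : ℕ) : tAtL L sz j < 2 ^ 120 := get120_lt _ _

end Cfsg.Agent.Lib.Helper26_VecCode
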