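import Mathlib
import Cfsg.Agent.Lib.Helper26_VecOrbit
import Cfsg.Agent.Lib.Helper26_MinCount

/-!
Configurations: a list of coded lattice vectors with prescribed inner products.  A certified orbit
table together with the census count shows that the pointwise stabiliser of the base vectors in
`Co0` is transitive on the minimal vectors with the prescribed inner products.
-/

set_option autoImplicit false
open Cfsg

namespace Cfsg.Agent.Lib.Helper26_VecCode

open Cfsg.Agent.Lib.Helper26_Golay Cfsg.Agent.Lib.Helper26_Leech

/-- The codes of the base vectors of a list of constraints. -/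
def baseOf (cons : List Con) : List ℕ := cons.map Con.a

theorem sqNorm_vecC (c : ℕ) : sqNorm (vecC c) = zFold (fun j => cget c j ^ 2) 24 := by
  unfold sqNorm
  rw [← sum_golayPt_int]
  rfl

theorem dotInt_vecC (a c : ℕ) : dotInt (vecC a) (vecC c) = zFold (fun j => cget a j * cget c j) 24 := by
  unfold dotInt
  rw [← sum_golayPt_int]
  rfl

/-- The code `r` is a minimal vector meeting the constraints (apart from lattice membership). -/
def rootOK (cons : List Con) (r : ℕ) : Bool :=
  decide (zFold (fun j => cget r j ^ 2) 24 = 32) &&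
    cons.all (fun c => decide (zFold (fun j => cget c.a j * cget r j) 24 = c.k))

theorem rootOK_spec (cons : List Con) (r : ℕ) (h : rootOK cons r = true)
    (hL : vecC r ∈ leechLattice) : vecC r ∈ minSet cons := by
  unfold rootOK at h
  rw [Bool.and_eq_true, decide_eq_true_iff, List.all_eq_true] at h
  refine ⟨hL, ?_, ?_⟩
  · rw [sqNorm_vecC]; exact h.1
  · intro c hc
    have := h.2 c hc
    rw [decide_eq_true_iff] at this
    rw [dotInt_vecC]; exact this

theorem minSet_inv (cons : List Con) (hBL : ∀ c ∈ cons, vecC c.a ∈ leechLattice)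
    (x y : GolayPt → ℤ) (h : RelF (baseSet (baseOf cons)) x y) (hx : x ∈ minSet cons) :
    y ∈ minSet cons := by
  obtain ⟨_, hn, hq⟩ := hx
  refine ⟨h.mem_right, ?_, ?_⟩
  · rw [h.norm_eq]; exact hn
  · intro c hc
    have hf : (⟨vecC c.a, hBL c hc⟩ : leechLattice) ∈ baseSet (baseOf cons) :=
      ⟨c.a, List.mem_map.mpr ⟨c, hc, rfl⟩, rfl⟩
    have := h.dot_eq ⟨vecC c.a, hBL c hc⟩ hf
    rw [this]
    exact hq c hc

/-- The configuration theorem. -/
theorem config_trans (cons : List Con) (hOK : consOK cons = true)
    (hBL : ∀ c ∈ cons, vecC c.a ∈ leechLattice)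
    (hBlt : (baseOf cons).all (fun b => Nat.blt b FAIL) = true)
    (gens : List (List Move)) (hgood : gens.all goodW = true)
    (hfix : gens.all (fixesW (baseOf cons)) = true)
    (tAt : ℕ → ℕ) (hlt : ∀ j, tAt j < 2 ^ 120) (P G D R n : ℕ)
    (hforest : forestCheck (stepW gens) tAt P G D R n = true)
    (hroots : allFold (fun j => get16 R j == 0) n = true)
    (hinc : allFold (fun j => decide (tAt j < tAt (j + 1))) (n - 1) = true)
    (hroot : rootOK cons (tAt 0) = true) (hrootL : vecC (tAt 0) ∈ leechLattice)
    (hcount : cntA cons + cntB cons 0 759 + cntO cons 0 24 = n) :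
    (minSet cons).ncard = n ∧
      ∀ x ∈ minSet cons, ∀ x' ∈ minSet cons, RelF (baseSet (baseOf cons)) x x' := by
  have hcard : (minSet cons).ncard = n := by rw [minSet_ncard cons hOK, hcount]
  refine ⟨hcard, ?_⟩
  have hf := forest_vec (baseOf cons) hBlt gens hgood hfix tAt P G D R n hforest
  rw [allFold_eq_true] at hroots
  have hrel : ∀ j < n, RelF (baseSet (baseOf cons)) (vecC (tAt 0)) (vecC (tAt j)) := by
    intro j hj
    have h0 := hroots j hj
    rw [beq_iff_eq] at h0
    have := (hf j hj).2.2
    rw [h0] at this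
    exact this hrootL
  exact orbit_complete (baseSet (baseOf cons)) (minSet cons) (minSet_inv cons hBL) tAt hlt n hinc
    (rootOK_spec cons _ hroot hrootL) hrel (minSet_finite cons) hcard

end Cfsg.Agent.Lib.Helper26_VecCode
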