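import Mathlib
import Cfsg.Agent.Lib.Helper26_VecConfig

/-!
Transfer of configuration statements along an element of `Co0`.
-/

set_option autoImplicit false
open Cfsg

namespace Cfsg.Agent.Lib.Helper26_VecCode

open Cfsg.Agent.Lib.Helper26_Golay Cfsg.Agent.Lib.Helper26_Leech

/-- Transitivity transfers along `h ∈ Co0`: if `h` maps the vectors of `F` into `F'` and `h x`, `h x'`
are related under the pointwise stabiliser of `F'`, then some element of `Co0` fixing `F` pointwise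
maps `x` to `x'`. -/
theorem transfer_rel (F F' : Set leechLattice) (h : Equiv.Perm leechLattice) (hh : h ∈ Co0)
    (hF : ∀ f ∈ F, h f ∈ F') (x x' : leechLattice)
    (hrel : RelF F' ((h x : leechLattice) : GolayPt → ℤ) ((h x' : leechLattice) : GolayPt → ℤ)) :
    ∃ g : Co0, (∀ f ∈ F, g • f = f) ∧ g • x = x' := by
  obtain ⟨g, hg, hg0, hx, e⟩ := hrel
  have e' : g (h x) = h x' := by
    apply Subtype.ext
    rw [← e]
  refine ⟨⟨h, hh⟩⁻¹ * ⟨g, hg⟩ * ⟨h, hh⟩, ?_, ?_⟩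
  · intro f hf
    show h⁻¹ (g (h f)) = f
    rw [hg0 _ (hF f hf), Equiv.Perm.inv_def, Equiv.symm_apply_apply]
  · show h⁻¹ (g (h x)) = x'
    rw [e', Equiv.Perm.inv_def, Equiv.symm_apply_apply]

/-- Cardinalities transfer along `h ∈ Co0`. -/
theorem transfer_ncard (h : Equiv.Perm leechLattice) (S : Set leechLattice)
    (X : Set (GolayPt → ℤ)) (hX : ∀ y ∈ X, y ∈ leechLattice)
    (hSX : ∀ x : leechLattice, x ∈ S ↔ ((h x : leechLattice) : GolayPt → ℤ) ∈ X) :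
    S.ncard = X.ncard := by
  apply Set.ncard_congr (fun x _ => ((h x : leechLattice) : GolayPt → ℤ))
  · intro x hx
    exact (hSX x).mp hx
  · intro x x' _ _ e
    exact h.injective (Subtype.ext e)
  · intro y hy
    refine ⟨h⁻¹ ⟨y, hX y hy⟩, ?_, ?_⟩
    · rw [hSX]
      have : h (h⁻¹ ⟨y, hX y hy⟩) = ⟨y, hX y hy⟩ := by simp
      rw [this]
      exact hy
    · have : h (h⁻¹ ⟨y, hX y hy⟩) = ⟨y, hX y hy⟩ := by simp
      show ((h (h⁻¹ ⟨y, hX y hy⟩) : leechLattice) : GolayPt → ℤ) = y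
      rw [this]

theorem minSet_sub (cons : List Con) : ∀ y ∈ minSet cons, y ∈ leechLattice := fun _ hy => hy.1

/-- Membership in `minSet` of the image of `x` under `h ∈ Co0`, for one constraint whose base vector
is the image of `v`. -/
theorem mem_minSet_one (h : Equiv.Perm leechLattice) (hh : h ∈ Co0) (c : Con) (v : leechLattice)
    (hv : ((h v : leechLattice) : GolayPt → ℤ) = vecC c.a) (x : leechLattice) :
    ((h x : leechLattice) : GolayPt → ℤ) ∈ minSet [c] ↔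
      sqNorm (x : GolayPt → ℤ) = 32 ∧ dotInt (v : GolayPt → ℤ) (x : GolayPt → ℤ) = c.k := by
  have hd := dotInt_co0 h hh v x
  rw [hv] at hd
  constructor
  · rintro ⟨_, hn, hq⟩
    refine ⟨?_, ?_⟩
    · rw [← hh.2 x]; exact hn
    · rw [← hd]; exact hq c (List.mem_singleton.mpr rfl)
  · rintro ⟨hn, hq⟩
    refine ⟨(h x).2, ?_, ?_⟩
    · rw [hh.2 x]; exact hn
    · intro c' hc'
      rw [List.mem_singleton] at hc'
      rw [hc', hd]; exact hq

/-- The same for two constraints. -/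
theorem mem_minSet_two (h : Equiv.Perm leechLattice) (hh : h ∈ Co0) (c₁ c₂ : Con)
    (v₁ v₂ : leechLattice)
    (hv₁ : ((h v₁ : leechLattice) : GolayPt → ℤ) = vecC c₁.a)
    (hv₂ : ((h v₂ : leechLattice) : GolayPt → ℤ) = vecC c₂.a) (x : leechLattice) :
    ((h x : leechLattice) : GolayPt → ℤ) ∈ minSet [c₁, c₂] ↔
      sqNorm (x : GolayPt → ℤ) = 32 ∧ dotInt (v₁ : GolayPt → ℤ) (x : GolayPt → ℤ) = c₁.k ∧
        dotInt (v₂ : GolayPt → ℤ) (x : GolayPt → ℤ) = c₂.k := by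
  have hd₁ := dotInt_co0 h hh v₁ x
  rw [hv₁] at hd₁
  have hd₂ := dotInt_co0 h hh v₂ x
  rw [hv₂] at hd₂
  constructor
  · rintro ⟨_, hn, hq⟩
    refine ⟨?_, ?_, ?_⟩
    · rw [← hh.2 x]; exact hn
    · rw [← hd₁]; exact hq c₁ (List.mem_cons_self)
    · rw [← hd₂]; exact hq c₂ (List.mem_cons_of_mem _ (List.mem_singleton.mpr rfl))
  · rintro ⟨hn, hq₁, hq₂⟩
    refine ⟨(h x).2, ?_, ?_⟩
    · rw [hh.2 x]; exact hn
    · intro c' hc'
      rw [List.mem_cons, List.mem_singleton] at hc'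
      rcases hc' with rfl | rfl
      · rw [hd₁]; exact hq₁
      · rw [hd₂]; exact hq₂

/-- The same for three constraints. -/
theorem mem_minSet_three (h : Equiv.Perm leechLattice) (hh : h ∈ Co0) (c₁ c₂ c₃ : Con)
    (v₁ v₂ v₃ : leechLattice)
    (hv₁ : ((h v₁ : leechLattice) : GolayPt → ℤ) = vecC c₁.a)
    (hv₂ : ((h v₂ : leechLattice) : GolayPt → ℤ) = vecC c₂.a)
    (hv₃ : ((h v₃ : leechLattice) : GolayPt → ℤ) = vecC c₃.a) (x : leechLattice) :
    ((h x : leechLattice) : GolayPt → ℤ) ∈ minSet [c₁, c₂, c₃] ↔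
      sqNorm (x : GolayPt → ℤ) = 32 ∧ dotInt (v₁ : GolayPt → ℤ) (x : GolayPt → ℤ) = c₁.k ∧
        dotInt (v₂ : GolayPt → ℤ) (x : GolayPt → ℤ) = c₂.k ∧
        dotInt (v₃ : GolayPt → ℤ) (x : GolayPt → ℤ) = c₃.k := by
  have hd₁ := dotInt_co0 h hh v₁ x
  rw [hv₁] at hd₁
  have hd₂ := dotInt_co0 h hh v₂ x
  rw [hv₂] at hd₂
  have hd₃ := dotInt_co0 h hh v₃ x
  rw [hv₃] at hd₃
  constructor
  · rintro ⟨_, hn, hq⟩
    refine ⟨?_, ?_, ?_, ?_⟩
    · rw [← hh.2 x]; exact hn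
    · rw [← hd₁]; exact hq c₁ (List.mem_cons_self)
    · rw [← hd₂]; exact hq c₂ (List.mem_cons_of_mem _ List.mem_cons_self)
    · rw [← hd₃]
      exact hq c₃ (List.mem_cons_of_mem _ (List.mem_cons_of_mem _ (List.mem_singleton.mpr rfl)))
  · rintro ⟨hn, hq₁, hq₂, hq₃⟩
    refine ⟨(h x).2, ?_, ?_⟩
    · rw [hh.2 x]; exact hn
    · intro c' hc'
      rw [List.mem_cons, List.mem_cons, List.mem_singleton] at hc'
      rcases hc' with rfl | rfl | rfl
      · rw [hd₁]; exact hq₁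
      · rw [hd₂]; exact hq₂
      · rw [hd₃]; exact hq₃

/-- Images of the base vectors lie in the base set. -/
theorem mem_baseSet_of (cons : List Con) (f : leechLattice) (c : Con) (hc : c ∈ cons)
    (hf : (f : GolayPt → ℤ) = vecC c.a) : f ∈ baseSet (baseOf cons) :=
  ⟨c.a, List.mem_map.mpr ⟨c, hc, rfl⟩, hf⟩


/-- Transfer of a configuration with one base vector. -/
theorem apply_one (c : Con) (n : ℕ)
    (std : (minSet [c]).ncard = n ∧
      ∀ x ∈ minSet [c], ∀ x' ∈ minSet [c], RelF (baseSet (baseOf [c])) x x')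
    (h : Equiv.Perm leechLattice) (hh : h ∈ Co0) (v : leechLattice)
    (hv : ((h v : leechLattice) : GolayPt → ℤ) = vecC c.a) :
    {x : leechLattice | sqNorm (x : GolayPt → ℤ) = 32 ∧
        dotInt (v : GolayPt → ℤ) (x : GolayPt → ℤ) = c.k}.ncard = n ∧
      ∀ x ∈ {x : leechLattice | sqNorm (x : GolayPt → ℤ) = 32 ∧
        dotInt (v : GolayPt → ℤ) (x : GolayPt → ℤ) = c.k},
      ∀ x' ∈ {x : leechLattice | sqNorm (x : GolayPt → ℤ) = 32 ∧
        dotInt (v : GolayPt → ℤ) (x : GolayPt → ℤ) = c.k},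
      ∃ g : Co0, g • v = v ∧ g • x = x' := by
  have hSX : ∀ x : leechLattice, x ∈ {x : leechLattice | sqNorm (x : GolayPt → ℤ) = 32 ∧
      dotInt (v : GolayPt → ℤ) (x : GolayPt → ℤ) = c.k} ↔
      ((h x : leechLattice) : GolayPt → ℤ) ∈ minSet [c] :=
    fun x => (mem_minSet_one h hh c v hv x).symm
  constructor
  · rw [transfer_ncard h _ (minSet [c]) (minSet_sub _) hSX]
    exact std.1
  · intro x hx x' hx'
    have hrel := std.2 _ ((hSX x).mp hx) _ ((hSX x').mp hx')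
    obtain ⟨g, hg1, hg2⟩ := transfer_rel {v} (baseSet (baseOf [c])) h hh (by
      intro f hf
      rw [Set.mem_singleton_iff] at hf
      rw [hf]
      exact mem_baseSet_of [c] _ c List.mem_cons_self hv) x x' hrel
    exact ⟨g, hg1 v rfl, hg2⟩

/-- Transfer of a configuration with two base vectors. -/
theorem apply_two (c₁ c₂ : Con) (n : ℕ)
    (std : (minSet [c₁, c₂]).ncard = n ∧
      ∀ x ∈ minSet [c₁, c₂], ∀ x' ∈ minSet [c₁, c₂], RelF (baseSet (baseOf [c₁, c₂])) x x')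
    (h : Equiv.Perm leechLattice) (hh : h ∈ Co0) (v w : leechLattice)
    (hv : ((h v : leechLattice) : GolayPt → ℤ) = vecC c₁.a)
    (hw : ((h w : leechLattice) : GolayPt → ℤ) = vecC c₂.a) :
    {x : leechLattice | sqNorm (x : GolayPt → ℤ) = 32 ∧
        dotInt (v : GolayPt → ℤ) (x : GolayPt → ℤ) = c₁.k ∧
        dotInt (w : GolayPt → ℤ) (x : GolayPt → ℤ) = c₂.k}.ncard = n ∧
      ∀ x ∈ {x : leechLattice | sqNorm (x : GolayPt → ℤ) = 32 ∧
        dotInt (v : GolayPt → ℤ) (x : GolayPt → ℤ) = c₁.k ∧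
        dotInt (w : GolayPt → ℤ) (x : GolayPt → ℤ) = c₂.k},
      ∀ x' ∈ {x : leechLattice | sqNorm (x : GolayPt → ℤ) = 32 ∧
        dotInt (v : GolayPt → ℤ) (x : GolayPt → ℤ) = c₁.k ∧
        dotInt (w : GolayPt → ℤ) (x : GolayPt → ℤ) = c₂.k},
      ∃ g : Co0, g • v = v ∧ g • w = w ∧ g • x = x' := by
  have hSX : ∀ x : leechLattice, x ∈ {x : leechLattice | sqNorm (x : GolayPt → ℤ) = 32 ∧
      dotInt (v : GolayPt → ℤ) (x : GolayPt → ℤ) = c₁.k ∧
      dotInt (w : GolayPt → ℤ) (x : GolayPt → ℤ) = c₂.k} ↔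
      ((h x : leechLattice) : GolayPt → ℤ) ∈ minSet [c₁, c₂] :=
    fun x => (mem_minSet_two h hh c₁ c₂ v w hv hw x).symm
  constructor
  · rw [transfer_ncard h _ (minSet [c₁, c₂]) (minSet_sub _) hSX]
    exact std.1
  · intro x hx x' hx'
    have hrel := std.2 _ ((hSX x).mp hx) _ ((hSX x').mp hx')
    obtain ⟨g, hg1, hg2⟩ := transfer_rel {v, w} (baseSet (baseOf [c₁, c₂])) h hh (by
      intro f hf
      rw [Set.mem_insert_iff, Set.mem_singleton_iff] at hf
      rcases hf with rfl | rfl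
      · exact mem_baseSet_of [c₁, c₂] _ c₁ List.mem_cons_self hv
      · exact mem_baseSet_of [c₁, c₂] _ c₂ (List.mem_cons_of_mem _ List.mem_cons_self) hw)
      x x' hrel
    exact ⟨g, hg1 v (Set.mem_insert _ _), hg1 w (Set.mem_insert_of_mem _ rfl), hg2⟩

/-- Transfer of a configuration with three base vectors. -/
theorem apply_three (c₁ c₂ c₃ : Con) (n : ℕ)
    (std : (minSet [c₁, c₂, c₃]).ncard = n ∧
      ∀ x ∈ minSet [c₁, c₂, c₃], ∀ x' ∈ minSet [c₁, c₂, c₃],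
        RelF (baseSet (baseOf [c₁, c₂, c₃])) x x')
    (h : Equiv.Perm leechLattice) (hh : h ∈ Co0) (v w z : leechLattice)
    (hv : ((h v : leechLattice) : GolayPt → ℤ) = vecC c₁.a)
    (hw : ((h w : leechLattice) : GolayPt → ℤ) = vecC c₂.a)
    (hz : ((h z : leechLattice) : GolayPt → ℤ) = vecC c₃.a) :
    {x : leechLattice | sqNorm (x : GolayPt → ℤ) = 32 ∧
        dotInt (v : GolayPt → ℤ) (x : GolayPt → ℤ) = c₁.k ∧
        dotInt (w : GolayPt → ℤ) (x : GolayPt → ℤ) = c₂.k ∧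
        dotInt (z : GolayPt → ℤ) (x : GolayPt → ℤ) = c₃.k}.ncard = n ∧
      ∀ x ∈ {x : leechLattice | sqNorm (x : GolayPt → ℤ) = 32 ∧
        dotInt (v : GolayPt → ℤ) (x : GolayPt → ℤ) = c₁.k ∧
        dotInt (w : GolayPt → ℤ) (x : GolayPt → ℤ) = c₂.k ∧
        dotInt (z : GolayPt → ℤ) (x : GolayPt → ℤ) = c₃.k},
      ∀ x' ∈ {x : leechLattice | sqNorm (x : GolayPt → ℤ) = 32 ∧
        dotInt (v : GolayPt → ℤ) (x : GolayPt → ℤ) = c₁.k ∧
        dotInt (w : GolayPt → ℤ) (x : GolayPt → ℤ) = c₂.k ∧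
        dotInt (z : GolayPt → ℤ) (x : GolayPt → ℤ) = c₃.k},
      ∃ g : Co0, g • v = v ∧ g • w = w ∧ g • z = z ∧ g • x = x' := by
  have hSX : ∀ x : leechLattice, x ∈ {x : leechLattice | sqNorm (x : GolayPt → ℤ) = 32 ∧
      dotInt (v : GolayPt → ℤ) (x : GolayPt → ℤ) = c₁.k ∧
      dotInt (w : GolayPt → ℤ) (x : GolayPt → ℤ) = c₂.k ∧
      dotInt (z : GolayPt → ℤ) (x : GolayPt → ℤ) = c₃.k} ↔
      ((h x : leechLattice) : GolayPt → ℤ) ∈ minSet [c₁, c₂, c₃] :=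
    fun x => (mem_minSet_three h hh c₁ c₂ c₃ v w z hv hw hz x).symm
  constructor
  · rw [transfer_ncard h _ (minSet [c₁, c₂, c₃]) (minSet_sub _) hSX]
    exact std.1
  · intro x hx x' hx'
    have hrel := std.2 _ ((hSX x).mp hx) _ ((hSX x').mp hx')
    obtain ⟨g, hg1, hg2⟩ := transfer_rel {v, w, z} (baseSet (baseOf [c₁, c₂, c₃])) h hh (by
      intro f hf
      rw [Set.mem_insert_iff, Set.mem_insert_iff, Set.mem_singleton_iff] at hf
      rcases hf with rfl | rfl | rfl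
      · exact mem_baseSet_of [c₁, c₂, c₃] _ c₁ List.mem_cons_self hv
      · exact mem_baseSet_of [c₁, c₂, c₃] _ c₂ (List.mem_cons_of_mem _ List.mem_cons_self) hw
      · exact mem_baseSet_of [c₁, c₂, c₃] _ c₃
          (List.mem_cons_of_mem _ (List.mem_cons_of_mem _ List.mem_cons_self)) hz)
      x x' hrel
    exact ⟨g, hg1 v (Set.mem_insert _ _), hg1 w (Set.mem_insert_of_mem _ (Set.mem_insert _ _)),
      hg1 z (Set.mem_insert_of_mem _ (Set.mem_insert_of_mem _ rfl)), hg2⟩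

end Cfsg.Agent.Lib.Helper26_VecCode
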