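import Mathlib
import Cfsg.Agent.Lib.Helper26_VecTransfer

/-!
Orbits of stabilisers of two or three lattice vectors as sets cut out by inner products, and
partition lemmas.
-/

set_option autoImplicit false
open Cfsg

namespace Cfsg.Agent.Lib.Helper26_Co3Rank

open Cfsg.Agent.Lib.Helper26_VecCode

/-- An invariant set on which the stabiliser of `u` and `x` is transitive is an orbit. -/
theorem orbit_eq2 (u x : leechLattice) (A : Set leechLattice) (y : leechLattice) (hy : y ∈ A)
    (hinv : ∀ g : Co0, g • u = u → g • x = x → ∀ z ∈ A, g • z ∈ A)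
    (htr : ∀ z ∈ A, ∀ z' ∈ A, ∃ g : Co0, g • u = u ∧ g • x = x ∧ g • z = z') :
    MulAction.orbit ↥(MulAction.stabilizer ↥Co0 u ⊓ MulAction.stabilizer ↥Co0 x) y = A := by
  ext z
  constructor
  · rintro ⟨⟨g, hg⟩, rfl⟩
    rw [Subgroup.mem_inf, MulAction.mem_stabilizer_iff, MulAction.mem_stabilizer_iff] at hg
    exact hinv g hg.1 hg.2 y hy
  · intro hz
    obtain ⟨g, h1, h2, h3⟩ := htr y hy z hz
    refine ⟨⟨g, ?_⟩, h3⟩
    rw [Subgroup.mem_inf, MulAction.mem_stabilizer_iff, MulAction.mem_stabilizer_iff]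
    exact ⟨h1, h2⟩

/-- The same for three vectors. -/
theorem orbit_eq3 (u x w : leechLattice) (A : Set leechLattice) (y : leechLattice) (hy : y ∈ A)
    (hinv : ∀ g : Co0, g • u = u → g • x = x → g • w = w → ∀ z ∈ A, g • z ∈ A)
    (htr : ∀ z ∈ A, ∀ z' ∈ A, ∃ g : Co0, g • u = u ∧ g • x = x ∧ g • w = w ∧ g • z = z') :
    MulAction.orbit ↥(MulAction.stabilizer ↥Co0 u ⊓ MulAction.stabilizer ↥Co0 x ⊓
      MulAction.stabilizer ↥Co0 w) y = A := by
  ext z
  constructor
  · rintro ⟨⟨g, hg⟩, rfl⟩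
    rw [Subgroup.mem_inf, Subgroup.mem_inf, MulAction.mem_stabilizer_iff,
      MulAction.mem_stabilizer_iff, MulAction.mem_stabilizer_iff] at hg
    exact hinv g hg.1.1 hg.1.2 hg.2 y hy
  · intro hz
    obtain ⟨g, h1, h2, h3, h4⟩ := htr y hy z hz
    refine ⟨⟨g, ?_⟩, h4⟩
    rw [Subgroup.mem_inf, Subgroup.mem_inf, MulAction.mem_stabilizer_iff,
      MulAction.mem_stabilizer_iff, MulAction.mem_stabilizer_iff]
    exact ⟨⟨h1, h2⟩, h3⟩

/-- Inner products with a fixed vector are invariant. -/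
theorem dot_smul_fixed (g : Co0) (u z : leechLattice) (hu : g • u = u) :
    dotInt (u : GolayPt → ℤ) ((g • z : leechLattice) : GolayPt → ℤ) =
      dotInt (u : GolayPt → ℤ) (z : GolayPt → ℤ) := by
  have := Cfsg.Agent.Lib.Helper26_Leech.dotInt_co0 g.1 g.2 u z
  have e : g.1 u = u := hu
  rw [e] at this
  exact this

theorem norm_smul (g : Co0) (z : leechLattice) :
    sqNorm ((g • z : leechLattice) : GolayPt → ℤ) = sqNorm (z : GolayPt → ℤ) := g.2.2 z

/-- A set of `1 + a + b + c + d` elements containing `x` and four pairwise disjoint subsets, none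
containing `x`, of `a`, `b`, `c`, `d` elements, is the union of these. -/
theorem partition5 {α : Type*} (S A B C D : Set α) (x : α) (n a b c d : ℕ) (hS : S.ncard = n)
    (hA : A.ncard = a) (hB : B.ncard = b) (hC : C.ncard = c) (hD : D.ncard = d)
    (hn : n = 1 + a + b + c + d) (hxS : x ∈ S) (hAS : A ⊆ S) (hBS : B ⊆ S) (hCS : C ⊆ S)
    (hDS : D ⊆ S) (hxA : x ∉ A) (hxB : x ∉ B) (hxC : x ∉ C) (hxD : x ∉ D)
    (hAB : Disjoint A B) (hAC : Disjoint A C) (hAD : Disjoint A D) (hBC : Disjoint B C)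
    (hBD : Disjoint B D) (hCD : Disjoint C D) :
    S = {x} ∪ A ∪ B ∪ C ∪ D := by
  have hfin : S.Finite := Set.finite_of_ncard_pos (by rw [hS, hn]; omega)
  have hAf : A.Finite := hfin.subset hAS
  have hBf : B.Finite := hfin.subset hBS
  have hCf : C.Finite := hfin.subset hCS
  have hDf : D.Finite := hfin.subset hDS
  have hT : ({x} ∪ A ∪ B ∪ C ∪ D : Set α) ⊆ S := by
    intro y hy
    rcases hy with (((hy | hy) | hy) | hy) | hy
    · rw [Set.mem_singleton_iff] at hy; rw [hy]; exact hxS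
    · exact hAS hy
    · exact hBS hy
    · exact hCS hy
    · exact hDS hy
  have d1 : Disjoint ({x} : Set α) A := Set.disjoint_singleton_left.mpr hxA
  have d2 : Disjoint ({x} ∪ A : Set α) B := by
    rw [Set.disjoint_union_left]
    exact ⟨Set.disjoint_singleton_left.mpr hxB, hAB⟩
  have d3 : Disjoint ({x} ∪ A ∪ B : Set α) C := by
    rw [Set.disjoint_union_left, Set.disjoint_union_left]
    exact ⟨⟨Set.disjoint_singleton_left.mpr hxC, hAC⟩, hBC⟩
  have d4 : Disjoint ({x} ∪ A ∪ B ∪ C : Set α) D := by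
    rw [Set.disjoint_union_left, Set.disjoint_union_left, Set.disjoint_union_left]
    exact ⟨⟨⟨Set.disjoint_singleton_left.mpr hxD, hAD⟩, hBD⟩, hCD⟩
  have f1 := (Set.finite_singleton x).union hAf
  have f2 := f1.union hBf
  have f3 := f2.union hCf
  have hc : ({x} ∪ A ∪ B ∪ C ∪ D : Set α).ncard = n := by
    rw [Set.ncard_union_eq d4 f3 hDf, Set.ncard_union_eq d3 f2 hCf, Set.ncard_union_eq d2 f1 hBf,
      Set.ncard_union_eq d1 (Set.finite_singleton x) hAf, Set.ncard_singleton, hA, hB, hC, hD, hn]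
  exact (Set.eq_of_subset_of_ncard_le hT (by rw [hS, hc]) hfin).symm

theorem dot_self' (a : GolayPt → ℤ) : dotInt a a = sqNorm a := by
  unfold dotInt sqNorm
  apply Finset.sum_congr rfl
  intro i _
  ring

/-- A set of `1 + a + b + c` elements containing `x` and three pairwise disjoint subsets, none
containing `x`, is the union of these. -/
theorem partition4 {α : Type*} (S A B C : Set α) (x : α) (n a b c : ℕ) (hS : S.ncard = n)
    (hA : A.ncard = a) (hB : B.ncard = b) (hC : C.ncard = c)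
    (hn : n = 1 + a + b + c) (hxS : x ∈ S) (hAS : A ⊆ S) (hBS : B ⊆ S) (hCS : C ⊆ S)
    (hxA : x ∉ A) (hxB : x ∉ B) (hxC : x ∉ C)
    (hAB : Disjoint A B) (hAC : Disjoint A C) (hBC : Disjoint B C) :
    S = {x} ∪ A ∪ B ∪ C := by
  have := partition5 S A B C ∅ x n a b c 0 hS hA hB hC (Set.ncard_empty α) (by omega) hxS hAS hBS hCS
    (Set.empty_subset _) hxA hxB hxC (Set.notMem_empty x) hAB hAC
    (Set.disjoint_empty _) hBC (Set.disjoint_empty _) (Set.disjoint_empty _)
  rw [Set.union_empty] at this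
  exact this

end Cfsg.Agent.Lib.Helper26_Co3Rank
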