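import Cfsg.Agent.S0400
import Cfsg.Agent.Lib.Helper92_LeechShapes
import Cfsg.Agent.S0366

/-!
# Monomial moves on the shapes `ev` and `od` of lattice vectors

Tools for orbit computations of `Co0` (relation `S0400.R`): multiple transitivity of `M24` in a
convenient form, and the action of permutations and sign changes on the vectors `ev P N Q N'` and
`od u T5 T3` of `Helper92_LeechShapes`.
-/

set_option autoImplicit false
open Cfsg
open scoped Pointwise

namespace Cfsg.Agent.Lib.Helper7_Orbit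

open Cfsg.Agent.Lib.Helper7_M24 Cfsg.Agent.Lib.Helper7_Leech Cfsg.Agent.Lib.Helper92_Monomial
  Cfsg.Agent.Lib.Helper92_LeechShapes Cfsg.Agent.S0400
open Cfsg.Agent.S0394 (sgn)

/-! ### multiple transitivity -/

theorem tuple_trans (k : ℕ) (hk : k ≤ 5) (x y : Fin k ↪ GolayPt) :
    ∃ σ ∈ M24, ∀ i, σ (x i) = y i := by
  have h5 := Cfsg.Agent.S0366.result
  have hcard : 5 ≤ Nat.card GolayPt := by
    rw [Nat.card_eq_fintype_card]; decide
  have h2 : MulAction.IsMultiplyPretransitive M24 GolayPt k :=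
    MulAction.isMultiplyPretransitive_of_le (n := 5) hk hcard
  obtain ⟨g, hg⟩ := (MulAction.isMultiplyPretransitive_iff.mp h2) x y
  refine ⟨g.1, g.2, fun i => ?_⟩
  have := congrArg (fun f : Fin k ↪ GolayPt => f i) hg
  exact this

theorem exists_smul_finset (n : ℕ) (hn : n ≤ 5) (A A' : Finset GolayPt) (hA : A.card = n)
    (hA' : A'.card = n) : ∃ σ ∈ M24, σ • A = A' := by
  let e := (Finset.equivFinOfCardEq hA).symm
  let e' := (Finset.equivFinOfCardEq hA').symm
  obtain ⟨σ, hσ, h⟩ := tuple_trans n hn (e.toEmbedding.trans (Function.Embedding.subtype _))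
    (e'.toEmbedding.trans (Function.Embedding.subtype _))
  refine ⟨σ, hσ, ?_⟩
  apply Finset.eq_of_subset_of_card_le
  · intro p hp
    rw [Finset.mem_smul_finset] at hp
    obtain ⟨q, hq, rfl⟩ := hp
    have h1 := h (e.symm ⟨q, hq⟩)
    have h2 : (e.toEmbedding.trans (Function.Embedding.subtype _)) (e.symm ⟨q, hq⟩) = q := by
      show ((e (e.symm ⟨q, hq⟩) : A) : GolayPt) = q
      rw [Equiv.apply_symm_apply]
    rw [h2] at h1
    rw [Equiv.Perm.smul_def, h1]
    exact (e' (e.symm ⟨q, hq⟩)).2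
  · rw [Finset.card_smul_finset, hA, hA']

theorem three_trans (a b c a' b' c' : GolayPt) (hab : a ≠ b) (hac : a ≠ c) (hbc : b ≠ c)
    (hab' : a' ≠ b') (hac' : a' ≠ c') (hbc' : b' ≠ c') :
    ∃ σ ∈ M24, σ a = a' ∧ σ b = b' ∧ σ c = c' := by
  let x : Fin 3 ↪ GolayPt := ⟨![a, b, c], by
    intro i j h
    fin_cases i <;> fin_cases j <;> simp_all⟩
  let y : Fin 3 ↪ GolayPt := ⟨![a', b', c'], by
    intro i j h
    fin_cases i <;> fin_cases j <;> simp_all⟩
  obtain ⟨σ, hσ, h⟩ := tuple_trans 3 (by norm_num) x y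
  exact ⟨σ, hσ, h 0, h 1, h 2⟩

/-! ### the even shapes -/

theorem ev_eq_add (P N Q N' : Finset GolayPt) : ev P N Q N' = sgn 2 P N + sgn 4 Q N' := rfl

theorem permVec_ev (σ : Equiv.Perm GolayPt) (P N Q N' : Finset GolayPt) :
    permVec σ (ev P N Q N') = ev (σ • P) (σ • N) (σ • Q) (σ • N') := by
  rw [ev_eq_add, permVec_add, permVec_sgn, permVec_sgn, ev_eq_add]

theorem signFlip_ev (c P N Q N' : Finset GolayPt) :
    signFlip c (ev P N Q N') = ev P (symmDiff N c) Q (symmDiff N' c) := by
  rw [ev_eq_add, signFlip_add, signFlip_sgn, signFlip_sgn, ev_eq_add]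

theorem ev_congr (P N M Q N' M' : Finset GolayPt) (h : ∀ j ∈ P, (j ∈ N ↔ j ∈ M))
    (h' : ∀ j ∈ Q, (j ∈ N' ↔ j ∈ M')) : ev P N Q N' = ev P M Q M' := by
  rw [ev_eq_add, ev_eq_add, sgn_congr 2 P N M h, sgn_congr 4 Q N' M' h']

/-! ### the odd shapes -/

theorem bs_permWord (σ : Equiv.Perm GolayPt) (u : GolayPt → ZMod 2) (j : GolayPt) :
    bs u (σ.symm j) = bs (permWord σ u) j := by
  unfold bs
  rw [permWord_apply]

theorem permVec_od (σ : Equiv.Perm GolayPt) (u : GolayPt → ZMod 2) (T5 T3 : Finset GolayPt) :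
    permVec σ (od u T5 T3) = od (permWord σ u) (σ • T5) (σ • T3) := by
  funext j
  rw [permVec_apply]
  unfold od
  rw [bs_permWord]
  simp only [mem_smul_iff]

theorem bs_add (u w : GolayPt → ZMod 2) (j : GolayPt) :
    bs (u + w) j = if j ∈ support₂ w then -bs u j else bs u j := by
  have h01 : ¬ ((0 : ZMod 2) = 1) := by decide
  unfold bs
  rw [Pi.add_apply]
  rcases Cfsg.Agent.Lib.Helper92_Monomial.zmod2_cases (w j) with h' | h'
  · have hm : j ∉ support₂ w := by rw [mem_support₂, h']; exact h01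
    rw [if_neg hm, h', add_zero]
  · have hm : j ∈ support₂ w := by rw [mem_support₂, h']
    rw [if_pos hm, h']
    rcases Cfsg.Agent.Lib.Helper92_Monomial.zmod2_cases (u j) with h | h
    · rw [h, zero_add, if_pos rfl, if_neg h01]; rfl
    · rw [h, if_pos rfl, if_neg (by decide)]

theorem signFlip_od (w u : GolayPt → ZMod 2) (T5 T3 : Finset GolayPt) :
    signFlip (support₂ w) (od u T5 T3) = od (u + w) T5 T3 := by
  funext j
  unfold signFlip od
  rw [bs_add]
  by_cases h : j ∈ support₂ w
  · rw [if_pos h, if_pos h]; ring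
  · rw [if_neg h, if_neg h]

theorem add_add_self (a b : GolayPt → ZMod 2) : a + (a + b) = b := by
  funext p
  rw [Pi.add_apply, Pi.add_apply]
  rcases Cfsg.Agent.Lib.Helper92_Monomial.zmod2_cases (a p) with h | h <;>
    rcases Cfsg.Agent.Lib.Helper92_Monomial.zmod2_cases (b p) with h' | h' <;>
    rw [h, h'] <;> decide

/-- Monomial moves on the odd shapes: the word can be changed at will and the sets moved by
any element of `M24`. -/
theorem R_od {u u' : GolayPt → ZMod 2} {T5 T3 : Finset GolayPt}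
    (hx : od u T5 T3 ∈ leechLattice) (hu : u ∈ golayCode) (hu' : u' ∈ golayCode)
    (σ : Equiv.Perm GolayPt) (hσ : σ ∈ M24) : R (od u T5 T3) (od u' (σ • T5) (σ • T3)) := by
  have hw : permWord σ u + u' ∈ golayCode :=
    golayCode.add_mem (permWord_mem_of_mem_M24 hσ hu) hu'
  have := R_mono hx σ hσ _ hw
  rwa [permVec_od, signFlip_od, add_add_self] at this

/-! ### sign changes on a set on which the code induces all pairs -/

theorem add_eq_one_iff (a b : ZMod 2) :
    a + b = 1 ↔ ((a = 1 ∧ ¬ (b = 1)) ∨ (¬ (a = 1) ∧ b = 1)) := by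
  revert a b; decide

/-- If the code induces every pair of points of `S`, it induces every even subset of `S`. -/
theorem exists_word_of_pairs (S : Finset GolayPt)
    (hpair : ∀ a ∈ S, ∀ b ∈ S, a ≠ b →
      ∃ w ∈ golayCode, ∀ j ∈ S, (w j = 1 ↔ (j = a ∨ j = b))) :
    ∀ (n : ℕ) (E : Finset GolayPt), E.card = n → E ⊆ S → Even E.card →
      ∃ w ∈ golayCode, ∀ j ∈ S, (w j = 1 ↔ j ∈ E) := by
  intro n
  induction n using Nat.strong_induction_on with
  | _ n ih =>
    intro E hn hE hev
    by_cases h0 : E = ∅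
    · refine ⟨0, golayCode.zero_mem, fun j _ => ?_⟩
      rw [h0]
      simp
    · have hpos : 0 < E.card := Finset.card_pos.mpr (Finset.nonempty_iff_ne_empty.mpr h0)
      obtain ⟨k, hk⟩ := hev
      have h1 : 1 < E.card := by omega
      obtain ⟨a, ha, b, hb, hab⟩ := Finset.one_lt_card.mp h1
      obtain ⟨w1, hw1, hp⟩ := hpair a (hE ha) b (hE hb) hab
      have hsub : ({a, b} : Finset GolayPt) ⊆ E := by
        intro x hx
        rw [Finset.mem_insert, Finset.mem_singleton] at hx
        rcases hx with rfl | rfl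
        · exact ha
        · exact hb
      have hcard : (E \ {a, b}).card = E.card - 2 := by
        rw [Finset.card_sdiff_of_subset hsub, Finset.card_pair hab]
      obtain ⟨w2, hw2, hq⟩ := ih (E.card - 2) (by omega) (E \ {a, b}) hcard
        (Finset.sdiff_subset.trans hE) (by rw [hcard]; exact ⟨k - 1, by omega⟩)
      refine ⟨w1 + w2, golayCode.add_mem hw1 hw2, fun j hj => ?_⟩
      rw [Pi.add_apply, add_eq_one_iff, hp j hj, hq j hj, Finset.mem_sdiff, Finset.mem_insert,
        Finset.mem_singleton]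
      constructor
      · rintro (⟨h1, _⟩ | ⟨_, h2⟩)
        · rcases h1 with rfl | rfl
          · exact ha
          · exact hb
        · exact h2.1
      · intro hjE
        by_cases hjab : j = a ∨ j = b
        · left
          exact ⟨hjab, fun h => h.2 hjab⟩
        · right
          exact ⟨hjab, hjE, hjab⟩

theorem card_symmDiff_add (N M : Finset GolayPt) :
    (symmDiff N M).card + 2 * (N ∩ M).card = N.card + M.card := by
  have h1 : symmDiff N M = (N ∪ M) \ (N ∩ M) := symmDiff_eq_sup_sdiff_inf N M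
  have h2 : N ∩ M ⊆ N ∪ M := Finset.inter_subset_left.trans Finset.subset_union_left
  have h3 := Finset.card_union_add_card_inter N M
  have h4 := Finset.card_le_card h2
  rw [h1, Finset.card_sdiff_of_subset h2]
  omega

/-- Sign normalisation on the part `S` of an even shape. -/
theorem R_ev_sign (S : Finset GolayPt)
    (hpair : ∀ a ∈ S, ∀ b ∈ S, a ≠ b →
      ∃ w ∈ golayCode, ∀ j ∈ S, (w j = 1 ↔ (j = a ∨ j = b)))
    (N M Q N' : Finset GolayPt) (hx : ev S N Q N' ∈ leechLattice) (hN : N ⊆ S) (hM : M ⊆ S)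
    (hpar : Even (N.card + M.card)) : ∃ M', R (ev S N Q N') (ev S M Q M') := by
  have hE : Even (symmDiff N M).card := by
    have := card_symmDiff_add N M
    obtain ⟨k, hk⟩ := hpar
    exact ⟨k - (N ∩ M).card, by omega⟩
  have hsub : symmDiff N M ⊆ S := by
    intro j hj
    rw [Finset.mem_symmDiff] at hj
    rcases hj with ⟨h, _⟩ | ⟨h, _⟩
    · exact hN h
    · exact hM h
  obtain ⟨w, hw, hj⟩ := exists_word_of_pairs S hpair _ _ rfl hsub hE
  refine ⟨symmDiff N' (support₂ w), ?_⟩
  have := R_flip hx w hw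
  rw [signFlip_ev] at this
  have e : ev S (symmDiff N (support₂ w)) Q (symmDiff N' (support₂ w)) =
      ev S M Q (symmDiff N' (support₂ w)) := by
    apply ev_congr
    · intro j hjS
      rw [Finset.mem_symmDiff, mem_support₂, hj j hjS, Finset.mem_symmDiff]
      tauto
    · intro j _
      exact Iff.rfl
  rwa [e] at this

end Cfsg.Agent.Lib.Helper7_Orbit
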