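import Mathlib
import Cfsg.Agent.S1640
import Cfsg.Agent.Lib.Helper26_CfgC3a
import Cfsg.Agent.Lib.Helper26_CfgC3b
import Cfsg.Agent.Lib.Helper26_CfgC3c
import Cfsg.Agent.Lib.Helper26_CfgC3d
import Cfsg.Agent.Lib.Helper26_OrbitLemmas

/-!
Orbits of two-vector stabilisers as sets cut out by inner products; the standard pair `(u3, x3)`.
-/

set_option autoImplicit false
open Cfsg

namespace Cfsg.Agent.Lib.Helper26_Co3Rank

open Cfsg.Agent.Lib.Helper26_VecCode

open Cfsg.Agent.Lib.Helper26_CfgC3a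

/-- The standard vectors. -/
def uL : leechLattice := ⟨vecC con1.a, mem1⟩
def xL : leechLattice := ⟨vecC con2.a, mem2⟩

theorem uL_norm : sqNorm (uL : GolayPt → ℤ) = 48 := by
  show sqNorm (vecC con1.a) = 48
  rw [sqNorm_vecC]
  decide +kernel

theorem xL_norm : sqNorm (xL : GolayPt → ℤ) = 32 := by
  show sqNorm (vecC con2.a) = 32
  rw [sqNorm_vecC]
  decide +kernel

theorem uxL_dot : dotInt (uL : GolayPt → ℤ) (xL : GolayPt → ℤ) = -16 := by
  show dotInt (vecC con1.a) (vecC con2.a) = -16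
  rw [dotInt_vecC]
  decide +kernel

/-- Every pair `(u, x)` is conjugate to the standard pair. -/
theorem to_stdUX (u x : leechLattice) (hu : sqNorm (u : GolayPt → ℤ) = 48)
    (hx : sqNorm (x : GolayPt → ℤ) = 32 ∧ dotInt (u : GolayPt → ℤ) (x : GolayPt → ℤ) = -16) :
    ∃ h : Co0, h.1 u = uL ∧ h.1 x = xL := by
  obtain ⟨h, hh⟩ := Cfsg.Agent.S0401.result u uL hu uL_norm
  have hh' : h.1 u = uL := hh
  have hx' : h.1 x ∈ {x : leechLattice | sqNorm (x : GolayPt → ℤ) = 32 ∧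
      dotInt (uL : GolayPt → ℤ) (x : GolayPt → ℤ) = -16} := by
    refine ⟨?_, ?_⟩
    · rw [h.2.2 x]; exact hx.1
    · have := Cfsg.Agent.Lib.Helper26_Leech.dotInt_co0 h.1 h.2 u x
      rw [hh'] at this
      rw [this]; exact hx.2
  obtain ⟨g, hg1, hg2⟩ := (Cfsg.Agent.S1640.result uL uL_norm).2 (h.1 x) hx' xL ⟨xL_norm, uxL_dot⟩
  refine ⟨g * h, ?_, hg2⟩
  show g.1 (h.1 u) = uL
  rw [hh']; exact hg1

end Cfsg.Agent.Lib.Helper26_Co3Rank
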