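import Mathlib
import Cfsg.Agent.Lib.Helper33_DCDefs
import Cfsg.Agent.Lib.Helper84_TutteW_Main
import Cfsg.Prelude.Def_Solvable

/-!
# THEOREM DC (market `dc_packages`, helper33): package DC-E (helper26)

In the critical case `s = 10`, `λ = 6`, `[x_0, x_6] = x_3`: `e := [x_0, x_7] ∈ X[3,4]`
(paper PART 3 (a), (b), (c) of `pending/helper33/S2858_DC_proof.md`).
-/

set_option autoImplicit false
set_option linter.unusedSectionVars false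
set_option linter.unusedVariables false

namespace Cfsg.Agent.Lib.Helper26_DC_E

open scoped commutatorElement
open Cfsg.Agent.Lib.Helper84_TutteDefs Cfsg.Agent.Lib.Helper33_DCDefs

section calc10

variable {G : Type*} [Group G] {H : Subgroup G} {g x0 : G}

/-- generators at distance `≤ 5` commute -/
theorem h26_cm (hl : IsLam g x0 6) {i j : ℤ} (h1 : i - j ≤ 5) (h2 : j - i ≤ 5) :
    xs g x0 i * xs g x0 j = xs g x0 j * xs g x0 i := by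
  apply hl.commute
  rw [abs_lt]
  constructor
  · push_cast; omega
  · push_cast; omega

/-- `[x_i, x_{i+6}] = x_{i+3}` -/
theorem h26_c6 (hc : ⁅xs g x0 0, xs g x0 6⁆ = xs g x0 3) (i : ℤ) :
    ⁅xs g x0 i, xs g x0 (i + 6)⁆ = xs g x0 (i + 3) := by
  have h1 := comm_shift g x0 0 6 i
  rw [hc, zero_add] at h1
  have h2 := xs_conj_zpow g x0 3 (-i)
  rw [neg_neg, sub_neg_eq_add] at h2
  rw [add_comm i 6, add_comm i 3, h1, h2]

/-- `x_k` commutes with `X[i,j]` when all distances are `≤ 5` -/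
theorem h26_cm_XX (hl : IsLam g x0 6) {i j k : ℤ} (h1 : k - i ≤ 5) (h2 : j - k ≤ 5) {y : G}
    (hy : y ∈ XX g x0 i j) : xs g x0 k * y = y * xs g x0 k :=
  commute_XX (fun l hl1 hl2 => h26_cm hl (by omega) (by omega)) hy

/-- `X[i,j]` is abelian for `j - i ≤ 5` -/
theorem h26_ab_XX (hl : IsLam g x0 6) {i j : ℤ} (hij : j - i ≤ 5) {y z : G}
    (hy : y ∈ XX g x0 i j) (hz : z ∈ XX g x0 i j) : y * z = z * y :=
  XX_comm (fun l m h1 h2 h3 h4 => h26_cm hl (by omega) (by omega)) hy hz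

/-- `X[i,j]` has exponent `2` for `j - i ≤ 5` -/
theorem h26_sq_XX (hsq : x0 * x0 = 1) (hl : IsLam g x0 6) {i j : ℤ} (hij : j - i ≤ 5) {y : G}
    (hy : y ∈ XX g x0 i j) : y * y = 1 := by
  have hab : ∀ a b : G, a ∈ XX g x0 i j → b ∈ XX g x0 i j → a * b = b * a :=
    fun a b ha hb => h26_ab_XX hl hij ha hb
  have key : ∀ y ∈ XX g x0 i j, y ∈ XX g x0 i j ∧ y * y = 1 := by
    intro y hy
    unfold XX at hy
    induction hy using Subgroup.closure_induction with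
    | mem z hz =>
      obtain ⟨l, hl', rfl⟩ := hz
      exact ⟨xs_mem_XX hl'.1 hl'.2, xs_sq hsq l⟩
    | one => exact ⟨Subgroup.one_mem _, by simp⟩
    | mul a b ha hb iha ihb =>
      refine ⟨Subgroup.mul_mem _ iha.1 ihb.1, ?_⟩
      have hab' : a * b = b * a := hab a b iha.1 ihb.1
      calc a * b * (a * b) = a * (b * a) * b := by group
        _ = a * (a * b) * b := by rw [hab']
        _ = (a * a) * (b * b) := by group
        _ = 1 := by rw [iha.2, ihb.2, one_mul]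
    | inv a ha iha =>
      have : a⁻¹ = a := inv_eq_of_mul_eq_one_right iha.2
      rw [this]
      exact iha
  exact (key y hy).2

/-- from `(e z)² = 1`, `e² = 1`, `z² = 1`: `e z = z e` -/
theorem h26_comm_of_sq {e z : G} (he : e * e = 1) (hz : z * z = 1) (h : e * z * (e * z) = 1) :
    e * z = z * e := by
  have h1 : e⁻¹ = e := inv_eq_of_mul_eq_one_right he
  have h2 : z⁻¹ = z := inv_eq_of_mul_eq_one_right hz
  have h3 : (e * z)⁻¹ = e * z := inv_eq_of_mul_eq_one_right h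
  rw [mul_inv_rev, h1, h2] at h3
  exact h3.symm

/-- a conjugate of an involution is an involution -/
theorem h26_conj_sq {u z : G} (hz : z * z = 1) : u * z * u⁻¹ * (u * z * u⁻¹) = 1 := by
  calc u * z * u⁻¹ * (u * z * u⁻¹) = u * (z * z) * u⁻¹ := by group
    _ = 1 := by rw [hz]; group

/-- `a b = b a` gives `a b a⁻¹ = b` -/
theorem h26_conj_of_comm {a b : G} (h : a * b = b * a) : a * b * a⁻¹ = b := by
  rw [h, mul_inv_cancel_right]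

local notation "𝔵" => xs g x0

/-- `[k, x_0] ∈ {1, x_3}` for `k ∈ X[-1,6]` -/
theorem h26_comm_left (T : TSys' H g x0 10) (hl : IsLam g x0 6)
    (hc : ⁅𝔵 0, 𝔵 6⁆ = 𝔵 3) {k : G} (hk : k ∈ XX g x0 (-1) 6) :
    ⁅k, 𝔵 0⁆ = 1 ∨ ⁅k, 𝔵 0⁆ = 𝔵 3 := by
  have hx2 : ∀ i : ℤ, 𝔵 i * 𝔵 i = 1 := fun i => xs_sq T.sq i
  have hxi : ∀ i : ℤ, (𝔵 i)⁻¹ = 𝔵 i := fun i => xs_inv T.sq i
  rcases T.mem_or_mul_mem_right (i := -1) (j := 6) (by norm_num) (by norm_num) hk with h1 | h1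
  · left
    norm_num at h1
    rw [commutatorElement_eq_one_iff_mul_comm]
    exact (h26_cm_XX hl (k := 0) (by norm_num) (by norm_num) h1).symm
  · right
    norm_num at h1
    have hm0 : 𝔵 0 * (k * 𝔵 6) = (k * 𝔵 6) * 𝔵 0 :=
      h26_cm_XX hl (k := 0) (by norm_num) (by norm_num) h1
    have hm3 : 𝔵 3 * (k * 𝔵 6) = (k * 𝔵 6) * 𝔵 3 :=
      h26_cm_XX hl (k := 3) (by norm_num) (by norm_num) h1
    have h60 : 𝔵 6 * 𝔵 0 * (𝔵 6)⁻¹ = 𝔵 3 * 𝔵 0 := by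
      have h2 := h26_c6 hc 0
      norm_num at h2
      have h3 : ⁅𝔵 6, 𝔵 0⁆ = 𝔵 3 := by
        rw [← commutatorElement_inv, h2, hxi]
      rw [commutatorElement_def] at h3
      rw [← h3]
      group
    have hk' : k = (k * 𝔵 6) * 𝔵 6 := by rw [mul_assoc, hx2, mul_one]
    calc ⁅k, 𝔵 0⁆ = (k * 𝔵 6) * (𝔵 6 * 𝔵 0 * (𝔵 6)⁻¹) * (k * 𝔵 6)⁻¹ * (𝔵 0)⁻¹ := by
          nth_rewrite 1 [hk']
          rw [commutatorElement_def]
          group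
      _ = ((k * 𝔵 6) * 𝔵 3) * 𝔵 0 * (k * 𝔵 6)⁻¹ * (𝔵 0)⁻¹ := by
          rw [h60]
          group
      _ = (𝔵 3 * (k * 𝔵 6)) * 𝔵 0 * (k * 𝔵 6)⁻¹ * (𝔵 0)⁻¹ := by rw [hm3]
      _ = 𝔵 3 * ((k * 𝔵 6) * 𝔵 0) * (k * 𝔵 6)⁻¹ * (𝔵 0)⁻¹ := by group
      _ = 𝔵 3 * (𝔵 0 * (k * 𝔵 6)) * (k * 𝔵 6)⁻¹ * (𝔵 0)⁻¹ := by rw [hm0]
      _ = 𝔵 3 := by group

/-- `[k, x_7] ∈ {1, x_4}` for `k ∈ X[1,8]` -/
theorem h26_comm_right (T : TSys' H g x0 10) (hl : IsLam g x0 6)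
    (hc : ⁅𝔵 0, 𝔵 6⁆ = 𝔵 3) {k : G} (hk : k ∈ XX g x0 1 8) :
    ⁅k, 𝔵 7⁆ = 1 ∨ ⁅k, 𝔵 7⁆ = 𝔵 4 := by
  have hx2 : ∀ i : ℤ, 𝔵 i * 𝔵 i = 1 := fun i => xs_sq T.sq i
  have hxi : ∀ i : ℤ, (𝔵 i)⁻¹ = 𝔵 i := fun i => xs_inv T.sq i
  rcases T.mem_or_mul_mem_left (i := 1) (j := 8) (by norm_num) (by norm_num) hk with h1 | h1
  · left
    norm_num at h1
    rw [commutatorElement_eq_one_iff_mul_comm]
    exact (h26_cm_XX hl (k := 7) (by norm_num) (by norm_num) h1).symm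
  · right
    norm_num at h1
    have hm7 : 𝔵 7 * (𝔵 1 * k) = (𝔵 1 * k) * 𝔵 7 :=
      h26_cm_XX hl (k := 7) (by norm_num) (by norm_num) h1
    have h17 : ⁅𝔵 1, 𝔵 7⁆ = 𝔵 4 := by
      have h2 := h26_c6 hc 1
      norm_num at h2
      exact h2
    have hk' : k = 𝔵 1 * (𝔵 1 * k) := by rw [← mul_assoc, hx2, one_mul]
    calc ⁅k, 𝔵 7⁆ = 𝔵 1 * ((𝔵 1 * k) * 𝔵 7) * (𝔵 1 * k)⁻¹ * (𝔵 1)⁻¹ * (𝔵 7)⁻¹ := by
          nth_rewrite 1 [hk']
          rw [commutatorElement_def]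
          group
      _ = ⁅𝔵 1, 𝔵 7⁆ := by
          rw [← hm7, commutatorElement_def]
          group
      _ = 𝔵 4 := h17

/-- **DC-E**, in terms of the Tutte system only -/
theorem e_mem_aux (T : TSys' H g x0 10) (hl : IsLam g x0 6)
    (hc : ⁅𝔵 0, 𝔵 6⁆ = 𝔵 3) : ⁅𝔵 0, 𝔵 7⁆ ∈ XX g x0 3 4 := by
  have hsq := T.sq
  have hx2 : ∀ i : ℤ, 𝔵 i * 𝔵 i = 1 := fun i => xs_sq hsq i
  have hxi : ∀ i : ℤ, (𝔵 i)⁻¹ = 𝔵 i := fun i => xs_inv hsq i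
  have hnc : ∀ i j : ℤ, j = i + 6 → 𝔵 i * 𝔵 j ≠ 𝔵 j * 𝔵 i := by
    intro i j hj
    have := hl.not_commute i
    rw [hj]
    exact_mod_cast this
  -- `e ∈ X[1,6]`
  have he16 : ⁅𝔵 0, 𝔵 7⁆ ∈ XX g x0 1 6 := by
    have := T.comm_mem (i := 0) (j := 7) (by norm_num) (by norm_num)
    norm_num at this
    exact this
  -- `e x_7` and `e⁻¹ x_0` are conjugates of involutions
  have hy7 : ⁅𝔵 0, 𝔵 7⁆ * 𝔵 7 = 𝔵 0 * 𝔵 7 * (𝔵 0)⁻¹ := by
    rw [commutatorElement_def]; group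
  have hy0' : (⁅𝔵 0, 𝔵 7⁆)⁻¹ * 𝔵 0 = 𝔵 7 * 𝔵 0 * (𝔵 7)⁻¹ := by
    rw [commutatorElement_def]; group
  generalize ⁅𝔵 0, 𝔵 7⁆ = e at he16 hy7 hy0' ⊢
  have hee : e * e = 1 := h26_sq_XX hsq hl (by norm_num) he16
  have hei : e⁻¹ = e := inv_eq_of_mul_eq_one_right hee
  have hy0 : e * 𝔵 0 = 𝔵 7 * 𝔵 0 * (𝔵 7)⁻¹ := by rw [← hy0', hei]
  -- `e` commutes with `x_7` and `x_0`
  have he7 : e * 𝔵 7 = 𝔵 7 * e := by
    apply h26_comm_of_sq hee (hx2 7)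
    rw [hy7]
    exact h26_conj_sq (hx2 7)
  have he0 : e * 𝔵 0 = 𝔵 0 * e := by
    apply h26_comm_of_sq hee (hx2 0)
    rw [hy0]
    exact h26_conj_sq (hx2 0)
  -- (a) `e ∈ X[2,6]`
  have he26 : e ∈ XX g x0 2 6 := by
    rcases T.mem_or_mul_mem_left (i := 1) (j := 6) (by norm_num) (by norm_num) he16 with h1 | h1
    · norm_num at h1
      exact h1
    · exfalso
      norm_num at h1
      have c1 : Commute (𝔵 1 * e) (𝔵 7) :=
        (h26_cm_XX hl (k := 7) (by norm_num) (by norm_num) h1).symm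
      have c2 : Commute e (𝔵 7) := he7
      have hx1 : 𝔵 1 * e * e = 𝔵 1 := by rw [mul_assoc, hee, mul_one]
      have c3 : Commute (𝔵 1) (𝔵 7) := by
        have := c1.mul_left c2
        rwa [hx1] at this
      exact hnc 1 7 (by norm_num) c3.eq
  -- (a) `e ∈ X[2,5]`
  have he25 : e ∈ XX g x0 2 5 := by
    rcases T.mem_or_mul_mem_right (i := 2) (j := 6) (by norm_num) (by norm_num) he26 with h1 | h1
    · norm_num at h1
      exact h1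
    · exfalso
      norm_num at h1
      have c1 : Commute (𝔵 0) (e * 𝔵 6) := h26_cm_XX hl (k := 0) (by norm_num) (by norm_num) h1
      have c2 : Commute (𝔵 0) e := he0.symm
      have hx6 : e * (e * 𝔵 6) = 𝔵 6 := by rw [← mul_assoc, hee, one_mul]
      have c3 : Commute (𝔵 0) (𝔵 6) := by
        have := c2.mul_right c1
        rwa [hx6] at this
      exact hnc 0 6 (by norm_num) c3.eq
  -- (b) `e ∈ X[2,4]`
  have he24 : e ∈ XX g x0 2 4 := by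
    rcases T.mem_or_mul_mem_right (i := 2) (j := 5) (by norm_num) (by norm_num) he25 with h1 | h1
    · norm_num at h1
      exact h1
    · exfalso
      norm_num at h1
      -- `a = x_{-1}`
      have ha5 : 𝔵 (-1) * 𝔵 5 * (𝔵 (-1))⁻¹ = 𝔵 2 * 𝔵 5 := by
        have h2 := h26_c6 hc (-1)
        norm_num at h2
        rw [commutatorElement_def] at h2
        rw [← h2]
        group
      have har : 𝔵 (-1) * (e * 𝔵 5) * (𝔵 (-1))⁻¹ = e * 𝔵 5 :=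
        h26_conj_of_comm (h26_cm_XX hl (k := -1) (by norm_num) (by norm_num) h1)
      have ha0 : 𝔵 (-1) * 𝔵 0 * (𝔵 (-1))⁻¹ = 𝔵 0 :=
        h26_conj_of_comm (h26_cm hl (by norm_num) (by norm_num))
      have h52 : 𝔵 5 * 𝔵 2 = 𝔵 2 * 𝔵 5 := h26_cm hl (by norm_num) (by norm_num)
      have hae : 𝔵 (-1) * e * (𝔵 (-1))⁻¹ = e * 𝔵 2 := by
        have e1 : e = (e * 𝔵 5) * 𝔵 5 := by rw [mul_assoc, hx2 5, mul_one]
        calc 𝔵 (-1) * e * (𝔵 (-1))⁻¹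
            = (𝔵 (-1) * (e * 𝔵 5) * (𝔵 (-1))⁻¹) * (𝔵 (-1) * 𝔵 5 * (𝔵 (-1))⁻¹) := by
                nth_rewrite 1 [e1]
                group
          _ = e * 𝔵 5 * (𝔵 2 * 𝔵 5) := by rw [har, ha5]
          _ = e * (𝔵 5 * 𝔵 2) * 𝔵 5 := by group
          _ = e * (𝔵 2 * 𝔵 5) * 𝔵 5 := by rw [h52]
          _ = e * 𝔵 2 * (𝔵 5 * 𝔵 5) := by group
          _ = e * 𝔵 2 := by rw [hx2 5, mul_one]
      have he2 : e * 𝔵 2 = 𝔵 2 * e :=
        h26_ab_XX hl (i := 2) (j := 5) (by norm_num) he25 (xs_mem_XX (by norm_num) (by norm_num))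
      -- `[a, y] = x_2` for `y = e x_0`
      have hcomm1 : ⁅𝔵 (-1), e * 𝔵 0⁆ = 𝔵 2 := by
        calc ⁅𝔵 (-1), e * 𝔵 0⁆
            = (𝔵 (-1) * e * (𝔵 (-1))⁻¹) * (𝔵 (-1) * 𝔵 0 * (𝔵 (-1))⁻¹) * (𝔵 0)⁻¹ * e⁻¹ := by
                rw [commutatorElement_def]
                group
          _ = e * 𝔵 2 * 𝔵 0 * (𝔵 0)⁻¹ * e⁻¹ := by rw [hae, ha0]
          _ = (e * 𝔵 2) * e⁻¹ := by group
          _ = 𝔵 2 := by rw [he2]; group
      -- `[a, y] = x_7 [k, x_0] x_7⁻¹` with `k = x_7⁻¹ a x_7 ∈ X[-1,6]`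
      have hcomm2 : ⁅𝔵 (-1), e * 𝔵 0⁆ = 𝔵 7 * ⁅(𝔵 7)⁻¹ * 𝔵 (-1) * 𝔵 7, 𝔵 0⁆ * (𝔵 7)⁻¹ := by
        rw [hy0, commutatorElement_def, commutatorElement_def]
        group
      have hk : (𝔵 7)⁻¹ * 𝔵 (-1) * 𝔵 7 ∈ XX g x0 (-1) 6 := by
        have h2 := T.conj_mem_right (i := -1) (j := 7) (by norm_num) (by norm_num)
          (y := (𝔵 7)⁻¹) (c := 𝔵 (-1))
          (Subgroup.inv_mem _ (xs_mem_XX (by norm_num) (by norm_num)))
          (xs_mem_XX (by norm_num) (by norm_num))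
        rw [inv_inv] at h2
        norm_num at h2
        exact h2
      have h73 : 𝔵 7 * 𝔵 3 * (𝔵 7)⁻¹ = 𝔵 3 :=
        h26_conj_of_comm (h26_cm hl (by norm_num) (by norm_num))
      rcases h26_comm_left T hl hc hk with h3 | h3
      · rw [h3, hcomm1] at hcomm2
        have : 𝔵 2 = 1 := by rw [hcomm2]; group
        exact T.xs_ne_one 2 this
      · rw [h3, hcomm1, h73] at hcomm2
        have h4 := T.xs_notMem_left (i := 2) (j := 3) (by norm_num) (by norm_num)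
        apply h4
        rw [hcomm2]
        exact xs_mem_XX (by norm_num) (by norm_num)
  -- (c) `e ∈ X[3,4]`
  rcases T.mem_or_mul_mem_left (i := 2) (j := 4) (by norm_num) (by norm_num) he24 with h1 | h1
  · norm_num at h1
    exact h1
  · exfalso
    norm_num at h1
    -- `b = x_8`, `r = x_2 e ∈ X[3,4]`
    have hb2 : 𝔵 8 * 𝔵 2 * (𝔵 8)⁻¹ = 𝔵 5 * 𝔵 2 := by
      have h2 := h26_c6 hc 2
      norm_num at h2
      have h3 : ⁅𝔵 8, 𝔵 2⁆ = 𝔵 5 := by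
        rw [← commutatorElement_inv, h2, hxi]
      rw [commutatorElement_def] at h3
      rw [← h3]
      group
    have hbr : 𝔵 8 * (𝔵 2 * e) * (𝔵 8)⁻¹ = 𝔵 2 * e :=
      h26_conj_of_comm (h26_cm_XX hl (k := 8) (by norm_num) (by norm_num) h1)
    have hb7 : 𝔵 8 * 𝔵 7 * (𝔵 8)⁻¹ = 𝔵 7 :=
      h26_conj_of_comm (h26_cm hl (by norm_num) (by norm_num))
    have hbe : 𝔵 8 * e * (𝔵 8)⁻¹ = 𝔵 5 * e := by
      have e1 : e = 𝔵 2 * (𝔵 2 * e) := by rw [← mul_assoc, hx2 2, one_mul]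
      calc 𝔵 8 * e * (𝔵 8)⁻¹
          = (𝔵 8 * 𝔵 2 * (𝔵 8)⁻¹) * (𝔵 8 * (𝔵 2 * e) * (𝔵 8)⁻¹) := by
              nth_rewrite 1 [e1]
              group
        _ = 𝔵 5 * 𝔵 2 * (𝔵 2 * e) := by rw [hb2, hbr]
        _ = 𝔵 5 * (𝔵 2 * 𝔵 2) * e := by group
        _ = 𝔵 5 * e := by rw [hx2 2, mul_one]
    -- `[b, y'] = x_5` for `y' = e x_7`
    have hcomm1 : ⁅𝔵 8, e * 𝔵 7⁆ = 𝔵 5 := by
      calc ⁅𝔵 8, e * 𝔵 7⁆
          = (𝔵 8 * e * (𝔵 8)⁻¹) * (𝔵 8 * 𝔵 7 * (𝔵 8)⁻¹) * (𝔵 7)⁻¹ * e⁻¹ := by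
              rw [commutatorElement_def]
              group
        _ = 𝔵 5 * e * 𝔵 7 * (𝔵 7)⁻¹ * e⁻¹ := by rw [hbe, hb7]
        _ = 𝔵 5 := by group
    have hcomm2 : ⁅𝔵 8, e * 𝔵 7⁆ = 𝔵 0 * ⁅(𝔵 0)⁻¹ * 𝔵 8 * 𝔵 0, 𝔵 7⁆ * (𝔵 0)⁻¹ := by
      rw [hy7, commutatorElement_def, commutatorElement_def]
      group
    have hk : (𝔵 0)⁻¹ * 𝔵 8 * 𝔵 0 ∈ XX g x0 1 8 := by
      have h2 := T.conj_mem_left (i := 0) (j := 8) (by norm_num) (by norm_num)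
        (y := (𝔵 0)⁻¹) (c := 𝔵 8)
        (Subgroup.inv_mem _ (xs_mem_XX (by norm_num) (by norm_num)))
        (xs_mem_XX (by norm_num) (by norm_num))
      rw [inv_inv] at h2
      norm_num at h2
      exact h2
    have h04 : 𝔵 0 * 𝔵 4 * (𝔵 0)⁻¹ = 𝔵 4 :=
      h26_conj_of_comm (h26_cm hl (by norm_num) (by norm_num))
    rcases h26_comm_right T hl hc hk with h3 | h3
    · rw [h3, hcomm1] at hcomm2
      have : 𝔵 5 = 1 := by rw [hcomm2]; group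
      exact T.xs_ne_one 5 this
    · rw [h3, hcomm1, h04] at hcomm2
      have h4 := T.xs_notMem_right (i := 4) (j := 5) (by norm_num) (by norm_num)
      apply h4
      rw [hcomm2]
      exact xs_mem_XX (by norm_num) (by norm_num)

end calc10

section pkg

variable {G : Type*} [Group G] {H P Q0 : Subgroup G} {δ ρ g x0 : G} {s lam : ℕ}

/-- **DC-E** [L] -/
theorem e_mem (h : DC10 H P Q0 δ ρ x0) :
    ⁅xs (δ * ρ) x0 0, xs (δ * ρ) x0 7⁆ ∈ XX (δ * ρ) x0 3 4 :=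
  e_mem_aux h.sys.sys h.lam h.c

end pkg

end Cfsg.Agent.Lib.Helper26_DC_E
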