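import Mathlib
import Cfsg.Agent.Lib.Helper26_DC_E

/-!
# THEOREM DC (market `dc_packages`, helper33): shifted forms of DC-E (helper26)

`[x_k, x_{k+7}] ∈ X[k+3,k+4]` for all `k`, and the mirror form `[x_{k+7}, x_k] ∈ X[k+3,k+4]`.
-/

set_option autoImplicit false
set_option linter.unusedSectionVars false
set_option linter.unusedVariables false

namespace Cfsg.Agent.Lib.Helper26_DC_Eshift

open scoped commutatorElement
open Cfsg.Agent.Lib.Helper84_TutteDefs Cfsg.Agent.Lib.Helper33_DCDefs Cfsg.Agent.Lib.Helper26_DC_E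

variable {G : Type*} [Group G] {H : Subgroup G} {g x0 : G}

/-- a commutator relation `[x_i, x_j] ∈ X[p,q]` may be shifted -/
theorem h26_comm_mem_shift {i j p q : ℤ} (h : ⁅xs g x0 i, xs g x0 j⁆ ∈ XX g x0 p q) (k : ℤ) :
    ⁅xs g x0 (i + k), xs g x0 (j + k)⁆ ∈ XX g x0 (p + k) (q + k) := by
  rw [comm_shift g x0 i j k]
  have h1 := cj_zpow_XX g x0 p q (-k)
  rw [sub_neg_eq_add, sub_neg_eq_add] at h1
  rw [← h1]
  have h2 := conj_mem_cj (u := g ^ (-k)) h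
  rw [← zpow_neg, neg_neg] at h2
  exact h2

/-- `[x_k, x_{k+7}] ∈ X[k+3,k+4]` -/
theorem e_mem_shift (T : TSys' H g x0 10) (hl : IsLam g x0 6)
    (hc : ⁅xs g x0 0, xs g x0 6⁆ = xs g x0 3) (k : ℤ) :
    ⁅xs g x0 k, xs g x0 (k + 7)⁆ ∈ XX g x0 (k + 3) (k + 4) := by
  have h1 := h26_comm_mem_shift (e_mem_aux T hl hc) k
  rw [zero_add, add_comm 7 k, add_comm 3 k, add_comm 4 k] at h1
  exact h1

/-- `[x_{k+7}, x_k] ∈ X[k+3,k+4]` -/
theorem e_mem_shift' (T : TSys' H g x0 10) (hl : IsLam g x0 6)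
    (hc : ⁅xs g x0 0, xs g x0 6⁆ = xs g x0 3) (k : ℤ) :
    ⁅xs g x0 (k + 7), xs g x0 k⁆ ∈ XX g x0 (k + 3) (k + 4) := by
  rw [← commutatorElement_inv]
  exact Subgroup.inv_mem _ (e_mem_shift T hl hc k)

/-- `[x_1, x_8] ∈ X[4,5]` -/
theorem e18_mem (T : TSys' H g x0 10) (hl : IsLam g x0 6)
    (hc : ⁅xs g x0 0, xs g x0 6⁆ = xs g x0 3) :
    ⁅xs g x0 1, xs g x0 8⁆ ∈ XX g x0 4 5 := by
  have := e_mem_shift T hl hc 1
  norm_num at this
  exact this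

/-- `[x_2, x_9] ∈ X[5,6]` -/
theorem e29_mem (T : TSys' H g x0 10) (hl : IsLam g x0 6)
    (hc : ⁅xs g x0 0, xs g x0 6⁆ = xs g x0 3) :
    ⁅xs g x0 2, xs g x0 9⁆ ∈ XX g x0 5 6 := by
  have := e_mem_shift T hl hc 2
  norm_num at this
  exact this

end Cfsg.Agent.Lib.Helper26_DC_Eshift
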