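import Mathlib
import Cfsg.Prelude.Def_FusionSystem
import Cfsg.Agent.Lib.Helper87_F2L3Defs

/-!
# F2L3-SD3CENT (architect helper87): the only central involution of `SDg a b h` is `-1`.
-/

set_option autoImplicit false

open Matrix Cfsg.Agent.Lib.Helper87_F2L3

namespace Cfsg.Agent.Lib.Helper86_F2L3_SD3CENT

variable {F : Type*} [Field F]

/-- Powers of `torM a b` are `torM`'s. -/
theorem torM_pow (a b : F) (i : ℕ) : ∃ c d : F, torM a b ^ i = torM c d := by
  induction i with
  | zero => exact ⟨1, 0, by rw [pow_zero, torM_one]⟩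
  | succ k ih =>
    obtain ⟨c, d, hcd⟩ := ih
    exact ⟨c * a - d * b, c * b + d * a, by rw [pow_succ, hcd, torM_mul]⟩

theorem torGL_pow_val (a b : F) (h : a * a + b * b = -1) (i : ℕ) :
    ((torGL a b h ^ i : GL (Fin 2) F) : Matrix (Fin 2) (Fin 2) F) = torM a b ^ i := by
  rw [Units.val_pow_eq_pow_val]
  rfl

theorem one_ne_neg_one_mat (h2 : (2 : F) ≠ 0) :
    (1 : Matrix (Fin 2) (Fin 2) F) ≠ -1 := by
  intro h
  have := congrFun (congrFun h 0) 0
  simp at this
  apply h2
  linear_combination this

/-- `s * s = -1` is impossible when `s ^ 2 ^ m = -1` with `m ≥ 2` (char ≠ 2). -/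
theorem not_sq_neg_one (h2 : (2 : F) ≠ 0) {m : ℕ} (hm : 2 ≤ m) (a b : F)
    (hs : torM a b ^ 2 ^ m = -1) (hss : torM a b * torM a b = -1) : False := by
  obtain ⟨k, rfl⟩ : ∃ k, m = k + 2 := ⟨m - 2, by omega⟩
  have h4 : torM a b ^ 4 = 1 := by
    have : torM a b ^ 4 = (torM a b * torM a b) * (torM a b * torM a b) := by
      simp only [pow_succ, pow_zero, one_mul, Matrix.mul_assoc]
    rw [this, hss]
    simp
  have : torM a b ^ 2 ^ (k + 2) = 1 := by
    rw [pow_add, mul_comm, pow_mul, show (2 : ℕ) ^ 2 = 4 by norm_num, h4, one_pow]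
  rw [this] at hs
  exact one_ne_neg_one_mat h2 hs

theorem cent_SDg (h2 : (2 : F) ≠ 0) (hns : ¬ IsSquare (-1 : F)) {m : ℕ} (hm : 2 ≤ m) (a b : F)
    (h : a * a + b * b = -1) (hs : torM a b ^ 2 ^ m = -1)
    (hf : (fmGL : GL (Fin 2) F) * torGL a b h * fmGL⁻¹ = (torGL a b h)⁻¹ * (-1))
    (hnf : ∀ x ∈ SDg a b h, ∃ i : ℕ, x = torGL a b h ^ i ∨ x = torGL a b h ^ i * fmGL)
    (z : GL (Fin 2) F) (hz : z ∈ SDg a b h) (hzz : z * z = 1) (hz1 : z ≠ 1)
    (hc : ∀ s ∈ SDg a b h, z * s = s * z) : z = -1 := by
  have hsmem : torGL a b h ∈ SDg a b h := Subgroup.subset_closure (by simp)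
  obtain ⟨i, hi | hi⟩ := hnf z hz
  · -- z = s ^ i = torM c d
    obtain ⟨c, d, hcd⟩ := torM_pow a b i
    have hzval : (z : Matrix (Fin 2) (Fin 2) F) = torM c d := by
      rw [hi, torGL_pow_val, hcd]
    have hzz' : torM c d * torM c d = 1 := by
      rw [← hzval, ← Units.val_mul, hzz]; rfl
    rw [torM_mul] at hzz'
    have e00 := congrFun (congrFun hzz' 0) 0
    have e10 := congrFun (congrFun hzz' 1) 0
    simp [torM] at e00 e10
    -- e00 : c*c - d*d = 1, e10 : c*d + d*c = 0
    have hcd0 : c * d = 0 := by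
      have : (2 : F) * (c * d) = 0 := by linear_combination e10
      rcases mul_eq_zero.mp this with h' | h'
      · exact absurd h' h2
      · exact h'
    rcases mul_eq_zero.mp hcd0 with hc0 | hd0
    · exfalso
      apply hns
      refine ⟨d, ?_⟩
      rw [hc0] at e00
      linear_combination e00
    · rw [hd0] at e00
      have hc1 : (c - 1) * (c + 1) = 0 := by linear_combination e00
      rcases mul_eq_zero.mp hc1 with hc1 | hc1
      · exfalso
        apply hz1
        apply Units.ext
        rw [hzval, hd0, show c = 1 by linear_combination hc1, torM_one]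
        rfl
      · apply Units.ext
        rw [hzval, hd0, show c = -1 by linear_combination hc1]
        ext p q
        fin_cases p <;> fin_cases q <;> simp [torM]
  · -- z = s ^ i * f does not commute with s
    exfalso
    have hcomm := hc _ hsmem
    rw [hi] at hcomm
    have hfs : (fmGL : GL (Fin 2) F) * torGL a b h = torGL a b h * fmGL := by
      have e : torGL a b h ^ i * (fmGL * torGL a b h) = torGL a b h ^ i * (torGL a b h * fmGL) := by
        calc torGL a b h ^ i * (fmGL * torGL a b h)
            = torGL a b h ^ i * fmGL * torGL a b h := (mul_assoc _ _ _).symm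
          _ = torGL a b h * (torGL a b h ^ i * fmGL) := hcomm
          _ = torGL a b h * torGL a b h ^ i * fmGL := (mul_assoc _ _ _).symm
          _ = torGL a b h ^ i * torGL a b h * fmGL := by rw [← pow_succ', pow_succ]
          _ = torGL a b h ^ i * (torGL a b h * fmGL) := mul_assoc _ _ _
      exact mul_left_cancel e
    have hss : torGL a b h = (torGL a b h)⁻¹ * (-1) := by
      rw [← hf, hfs, mul_assoc, mul_inv_cancel, mul_one]
    have hss2 : torGL a b h * torGL a b h = -1 := by
      have e := congrArg (fun x => torGL a b h * x) hss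
      simp only [mul_inv_cancel_left] at e
      exact e
    have hmat : torM a b * torM a b = -1 := by
      have := congrArg (fun x : GL (Fin 2) F => (x : Matrix (Fin 2) (Fin 2) F)) hss2
      exact this
    exact not_sq_neg_one h2 hm a b hs hmat

end Cfsg.Agent.Lib.Helper86_F2L3_SD3CENT
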