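import Mathlib
import Cfsg.Prelude.Def_FusionSystem
import Cfsg.Agent.Lib.Helper87_F2L3Defs

set_option autoImplicit false

open Matrix Cfsg.Agent.Lib.Helper87_F2L3

namespace Cfsg.Agent.Lib.Helper87_F2L3_SD3CARD

variable {F : Type*} [Field F]

theorem fmGL_mul_fmGL'' : (fmGL : GL (Fin 2) F) * fmGL = 1 := by
  unfold fmGL
  rw [dg_mul]
  simp [dg_one]

theorem neg_one_ne_one_GL (h2 : (2 : F) ≠ 0) : (-1 : GL (Fin 2) F) ≠ 1 := by
  intro h
  have h1 : ((-1 : GL (Fin 2) F) : Matrix (Fin 2) (Fin 2) F) 0 0 =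
      ((1 : GL (Fin 2) F) : Matrix (Fin 2) (Fin 2) F) 0 0 := by rw [h]
  rw [Units.val_neg, Units.val_one, Matrix.neg_apply, Matrix.one_apply_eq] at h1
  apply h2
  have : (2 : F) = 1 - (-1) := by ring
  rw [this, h1]
  ring

/-- **F2L3-SD3CARD**. -/
theorem card_SDg (h2 : (2 : F) ≠ 0) {m : ℕ} (hm : 2 ≤ m) (a b : F) (h : a * a + b * b = -1)
    (hs : torM a b ^ 2 ^ m = -1)
    (hf : (fmGL : GL (Fin 2) F) * torGL a b h * fmGL⁻¹ = (torGL a b h)⁻¹ * (-1))
    (hnf : ∀ x ∈ SDg a b h, ∃ i : ℕ, x = torGL a b h ^ i ∨ x = torGL a b h ^ i * fmGL) :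
    Nat.card (SDg a b h) = 2 ^ (m + 2) := by
  obtain ⟨s, hsdef⟩ : ∃ s, s = torGL a b h := ⟨_, rfl⟩
  obtain ⟨f, hfdef⟩ : ∃ f : GL (Fin 2) F, f = fmGL := ⟨_, rfl⟩
  rw [← hsdef, ← hfdef] at hf
  simp only [← hsdef, ← hfdef] at hnf
  have hff : f * f = 1 := by rw [hfdef]; exact fmGL_mul_fmGL''
  have hfinv : f⁻¹ = f := inv_eq_of_mul_eq_one_right hff
  have hsGL : s ^ 2 ^ m = -1 := by
    rw [hsdef]
    apply Units.ext
    rw [Units.val_pow_eq_pow_val]
    exact hs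
  have hfmem : f ∈ SDg a b h := by rw [hfdef]; exact Subgroup.subset_closure (Or.inr rfl)
  have hsmem : s ∈ SDg a b h := by rw [hsdef]; exact Subgroup.subset_closure (Or.inl rfl)
  have hne := neg_one_ne_one_GL (F := F) h2
  have hord : orderOf s = 2 ^ (m + 1) := by
    apply orderOf_eq_prime_pow
    · rw [hsGL]; exact hne
    · rw [pow_succ, pow_mul, hsGL]; simp
  -- `f ∉ zpowers s`
  have hfZ : f ∉ Subgroup.zpowers s := by
    intro hfz
    obtain ⟨k, hk⟩ := Subgroup.mem_zpowers_iff.mp hfz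
    have hcomm : f * s = s * f := by
      rw [← hk, ← _root_.zpow_add_one, ← _root_.zpow_one_add, add_comm]
    have h1 : s = s⁻¹ * (-1) := by
      rw [← hf, hcomm, mul_assoc, mul_inv_cancel, mul_one]
    have h3 : s * s = -1 := by
      nth_rewrite 2 [h1]
      rw [← mul_assoc, mul_inv_cancel, one_mul]
    obtain ⟨n, rfl⟩ : ∃ n, m = n + 2 := ⟨m - 2, by omega⟩
    have h4 : s ^ 2 ^ (n + 2) = 1 := by
      have : s ^ 2 ^ (n + 2) = ((s * s) * (s * s)) ^ 2 ^ n := by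
        rw [← sq, ← sq, ← pow_mul, ← pow_mul]
        congr 1
        ring
      rw [this, h3]
      simp
    rw [hsGL] at h4
    exact hne h4
  have hZle : Subgroup.zpowers s ≤ SDg a b h := Subgroup.zpowers_le.mpr hsmem
  -- index 2
  have hidx : ((Subgroup.zpowers s).subgroupOf (SDg a b h)).index = 2 := by
    rw [Subgroup.index_eq_two_iff]
    refine ⟨⟨f, hfmem⟩, ?_⟩
    rintro ⟨x, hx⟩
    simp only [Subgroup.mem_subgroupOf, Subgroup.coe_mul]
    obtain ⟨i, rfl | rfl⟩ := hnf x hx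
    · refine Or.inr ⟨Subgroup.pow_mem _ (Subgroup.mem_zpowers s) i, ?_⟩
      intro hc
      apply hfZ
      have := Subgroup.mul_mem _ (Subgroup.inv_mem _ (Subgroup.pow_mem _ (Subgroup.mem_zpowers s) i)) hc
      rwa [inv_mul_cancel_left] at this
    · refine Or.inl ⟨?_, ?_⟩
      · rw [mul_assoc, hff, mul_one]
        exact Subgroup.pow_mem _ (Subgroup.mem_zpowers s) i
      · intro hc
        apply hfZ
        have := Subgroup.mul_mem _ (Subgroup.inv_mem _ (Subgroup.pow_mem _ (Subgroup.mem_zpowers s) i)) hc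
        rwa [inv_mul_cancel_left] at this
  have hcard := Subgroup.card_mul_index ((Subgroup.zpowers s).subgroupOf (SDg a b h))
  rw [hidx, Nat.card_congr (Subgroup.subgroupOfEquivOfLe hZle).toEquiv, Nat.card_zpowers, hord] at hcard
  rw [← hcard, pow_succ 2 (m + 1)]

end Cfsg.Agent.Lib.Helper87_F2L3_SD3CARD
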