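import Mathlib
import Cfsg.Prelude.Def_FusionSystem
import Cfsg.Prelude.Def_Classical
import Cfsg.Prelude.Def_LieClassical
import Cfsg.Agent.Lib.Helper87_F2L3Defs
import Cfsg.Agent.Lib.Helper87_F2U3Defs
import Cfsg.Agent.Lib.Helper86_F2L3_SD3CENT
import Cfsg.Agent.Lib.Helper87_F2L3_SD3CARD

/-!
# S5319 package F2U3-SD1CENT (helper26, architect helper87): the only central involution of `SDg a b h` is `-1`
(no hypothesis on `-1` being a non-square)
-/

set_option autoImplicit false

open Matrix Cfsg.Agent.Lib.Helper87_F2L3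

namespace Cfsg.Agent.Lib.Helper26_F2U3_SD1CENT

open Cfsg.Agent.Lib.Helper86_F2L3_SD3CENT Cfsg.Agent.Lib.Helper87_F2L3_SD3CARD

variable {F : Type*} [Field F]

theorem cent_SDg' (h2 : (2 : F) ≠ 0) {m : ℕ} (hm : 2 ≤ m) (a b : F)
    (h : a * a + b * b = -1) (hs : torM a b ^ 2 ^ m = -1)
    (hf : (fmGL : GL (Fin 2) F) * torGL a b h * fmGL⁻¹ = (torGL a b h)⁻¹ * (-1))
    (hnf : ∀ x ∈ SDg a b h, ∃ i : ℕ, x = torGL a b h ^ i ∨ x = torGL a b h ^ i * fmGL)
    (z : GL (Fin 2) F) (hz : z ∈ SDg a b h) (hzz : z * z = 1) (hz1 : z ≠ 1)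
    (hc : ∀ s ∈ SDg a b h, z * s = s * z) : z = -1 := by
  have hsmem : torGL a b h ∈ SDg a b h := Subgroup.subset_closure (by simp)
  obtain ⟨i, hi | hi⟩ := hnf z hz
  · -- `z = s ^ i` with `s ^ (2 i) = 1`, and `s` has order `2 ^ (m + 1)`
    have : Fact (Nat.Prime 2) := ⟨Nat.prime_two⟩
    have hsGL : torGL a b h ^ 2 ^ m = -1 := by
      apply Units.ext
      rw [torGL_pow_val, hs]
      rfl
    have hord : orderOf (torGL a b h) = 2 ^ (m + 1) := by
      apply orderOf_eq_prime_pow
      · rw [hsGL]; exact neg_one_ne_one_GL h2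
      · rw [pow_succ, pow_mul, hsGL]; simp
    have hdvd : 2 ^ (m + 1) ∣ i * 2 := by
      rw [← hord]
      apply orderOf_dvd_of_pow_eq_one
      rw [pow_mul, pow_two, ← hi, hzz]
    have hdvd' : 2 ^ m ∣ i := by
      rw [pow_succ] at hdvd
      exact Nat.dvd_of_mul_dvd_mul_right (by norm_num) hdvd
    obtain ⟨r, rfl⟩ := hdvd'
    rw [pow_mul, hsGL] at hi
    rcases Nat.even_or_odd r with hr | hr
    · exfalso
      apply hz1
      rw [hi, hr.neg_one_pow]
    · rw [hi, hr.neg_one_pow]
  · -- z = s ^ i * f does not commute with s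
    exfalso
    have hcomm := hc _ hsmem
    rw [hi] at hcomm
    have hfs : (fmGL : GL (Fin 2) F) * torGL a b h = torGL a b h * fmGL := by
      have e : torGL a b h ^ i * (fmGL * torGL a b h) = torGL a b h ^ i * (torGL a b h * fmGL) := by
        calc torGL a b h ^ i * (fmGL * torGL a b h)
            = torGL a b h ^ i * fmGL * torGL a b h := (mul_assoc _ _ _).symm
          _ = torGL a b h * (torGL a b h ^ i * fmGL) := hcomm
          _ = torGL a b h * torGL a b h ^ i * fmGL := (mul_assoc _ _ _).symm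
          _ = torGL a b h ^ i * torGL a b h * fmGL := by rw [← pow_succ', pow_succ]
          _ = torGL a b h ^ i * (torGL a b h * fmGL) := mul_assoc _ _ _
      exact mul_left_cancel e
    have hss : torGL a b h = (torGL a b h)⁻¹ * (-1) := by
      rw [← hf, hfs, mul_assoc, mul_inv_cancel, mul_one]
    have hss2 : torGL a b h * torGL a b h = -1 := by
      have e := congrArg (fun x => torGL a b h * x) hss
      simp only [mul_inv_cancel_left] at e
      exact e
    have hmat : torM a b * torM a b = -1 := by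
      have := congrArg (fun x : GL (Fin 2) F => (x : Matrix (Fin 2) (Fin 2) F)) hss2
      exact this
    exact not_sq_neg_one h2 hm a b hs hmat

end Cfsg.Agent.Lib.Helper26_F2U3_SD1CENT
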