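import Mathlib
import Cfsg.Prelude.Def_FusionSystem
import Cfsg.Agent.Lib.Helper87_F2L3Defs
import Cfsg.Agent.Lib.Helper5_PSLCard

/-!
# S5318 package F2L3-W1MU (architect helper87): the group of `2^k`-th roots of unity of a finite field
with `2^k ∣ q - 1`, `k ≥ 2`, has `2^k` elements and contains a square root of `-1`
-/

set_option autoImplicit false

open Matrix Cfsg.Agent.Lib.Helper87_F2L3

namespace Cfsg.Agent.Lib.Helper60_F2L3_W1MU

variable {F : Type*} [Field F]

theorem mu_facts [Fintype F] {k u : ℕ} (hk : 2 ≤ k) (hq : Fintype.card F - 1 = 2 ^ k * u) :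
    Nat.card (rootsOfUnity (2 ^ k) F) = 2 ^ k ∧ ∃ i ∈ rootsOfUnity (2 ^ k) F, i * i = -1 := by
  constructor
  · rw [Cfsg.Agent.Lib.Helper5_PSLCard.card_rootsOfUnity_finiteField, hq]
    exact Nat.gcd_eq_right (Dvd.intro _ rfl)
  · have hq2 : 2 ≤ Fintype.card F := Fintype.one_lt_card
    have hu0 : u ≠ 0 := by
      rintro rfl
      rw [mul_zero] at hq
      omega
    obtain ⟨j, rfl⟩ : ∃ j, k = j + 2 := ⟨k - 2, by omega⟩
    obtain ⟨γ, hγ⟩ := IsCyclic.exists_generator (α := Fˣ)
    have hoγ : orderOf γ = 2 ^ (j + 2) * u := by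
      rw [orderOf_eq_card_of_forall_mem_zpowers hγ, Nat.card_units, Nat.card_eq_fintype_card, hq]
    have hi4 : (γ ^ (2 ^ j * u)) ^ 4 = 1 := by
      rw [← pow_mul]
      have e : 2 ^ j * u * 4 = 2 ^ (j + 2) * u := by rw [pow_succ, pow_succ]; ring
      rw [e, ← hoγ]
      exact pow_orderOf_eq_one γ
    have hi2 : (γ ^ (2 ^ j * u)) ^ 2 ≠ 1 := by
      rw [← pow_mul]
      apply pow_ne_one_of_lt_orderOf
      · have : 0 < 2 ^ j * u := by positivity
        omega
      · rw [hoγ, pow_succ, pow_succ]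
        have : 0 < 2 ^ j * u := by positivity
        nlinarith
    refine ⟨γ ^ (2 ^ j * u), ?_, ?_⟩
    · rw [mem_rootsOfUnity]
      rw [show 2 ^ (j + 2) = 4 * 2 ^ j by rw [pow_succ, pow_succ]; ring, pow_mul, hi4, one_pow]
    · -- in the field: `(i² - 1)(i² + 1) = 0`
      apply Units.ext
      rw [Units.val_mul, Units.val_neg, Units.val_one]
      obtain ⟨x, hx⟩ : ∃ x : F, x = ((γ ^ (2 ^ j * u) : Fˣ) : F) := ⟨_, rfl⟩
      rw [← hx]
      have h4 : x ^ 4 = 1 := by
        have := congrArg (fun y : Fˣ => (y : F)) hi4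
        simp only [Units.val_pow_eq_pow_val, Units.val_one] at this
        rw [hx]; exact this
      have h2 : x ^ 2 ≠ 1 := by
        intro h
        apply hi2
        apply Units.ext
        rw [Units.val_pow_eq_pow_val, Units.val_one, ← hx]
        exact h
      have hfac : (x ^ 2 - 1) * (x * x + 1) = 0 := by
        have : (x ^ 2 - 1) * (x * x + 1) = x ^ 4 - 1 := by ring
        rw [this, h4, sub_self]
      rcases mul_eq_zero.1 hfac with h | h
      · exact absurd (sub_eq_zero.1 h) h2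
      · exact eq_neg_of_add_eq_zero_left h

end Cfsg.Agent.Lib.Helper60_F2L3_W1MU
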