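import Mathlib
import Cfsg.Prelude.Def_FusionSystem
import Cfsg.Prelude.Def_Classical
import Cfsg.Prelude.Def_LieClassical
import Cfsg.Agent.Lib.Helper87_F2L3Defs
import Cfsg.Agent.Lib.Helper87_F2U3Defs
import Cfsg.Agent.Lib.Helper60_F2L3_W1MU

/-!
# S5319 package F2U3-W3MU (helper26, architect helper87): the `2^k`-th roots of unity of `F_{q²}`,
`2^k ∣ q + 1`, `k ≥ 2`: there are `2^k` of them, they contain a square root of `-1`, and they have norm one
-/

set_option autoImplicit false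

open Matrix Cfsg.Agent.Lib.Helper87_F2L3

namespace Cfsg.Agent.Lib.Helper26_F2U3_W3MU

variable {F : Type*} [Field F]

theorem mu_facts_U [Fintype F] {q k u : ℕ} (hF : Fintype.card F = q ^ 2) (hk : 2 ≤ k)
    (hq : q + 1 = 2 ^ k * u) :
    Nat.card (rootsOfUnity (2 ^ k) F) = 2 ^ k ∧ (∃ i ∈ rootsOfUnity (2 ^ k) F, i * i = -1) ∧
      ∀ a ∈ rootsOfUnity (2 ^ k) F, (a : F) * (a : F) ^ q = 1 := by
  have hq1 : 1 ≤ q := by
    rcases Nat.eq_zero_or_pos q with h | h
    · exfalso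
      rw [h] at hF
      have : 1 < Fintype.card F := Fintype.one_lt_card
      rw [hF] at this
      norm_num at this
    · exact h
  have hcard : Fintype.card F - 1 = 2 ^ k * (u * (q - 1)) := by
    rw [hF, ← mul_assoc, ← hq]
    obtain ⟨r, rfl⟩ : ∃ r, q = r + 1 := ⟨q - 1, by omega⟩
    have : (r + 1) ^ 2 = (r + 1 + 1) * r + 1 := by ring
    rw [this]
    simp
  obtain ⟨h1, h2⟩ := Cfsg.Agent.Lib.Helper60_F2L3_W1MU.mu_facts hk hcard
  refine ⟨h1, h2, ?_⟩
  intro a ha
  rw [mem_rootsOfUnity] at ha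
  have ha' : (a : F) ^ (2 ^ k) = 1 := by
    have := congrArg (fun y : Fˣ => (y : F)) ha
    simpa using this
  rw [← pow_succ', hq, pow_mul, ha', one_pow]

end Cfsg.Agent.Lib.Helper26_F2U3_W3MU
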