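import Mathlib

/-!
A criterion for a point stabiliser to be a maximal subgroup: the orbits of the stabiliser on the
orbit of the point are classified by a numerical invariant, and no proper union of them containing
the point has size dividing the size of the orbit.
-/

set_option autoImplicit false
set_option linter.constructorNameAsVariable false

namespace Cfsg.Agent.Lib.Helper26_Golay

open MulAction

theorem stabilizer_subgroup_eq {G α : Type*} [Group G] [MulAction G α] (K : Subgroup G) (x : α) :
    stabilizer K x = (stabilizer G x).subgroupOf K := by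
  ext k
  rw [mem_stabilizer_iff, Subgroup.mem_subgroupOf, mem_stabilizer_iff]
  rfl

/-- Maximality of a point stabiliser from orbit counts. -/
theorem isCoatom_stabilizer_of_counts {G α : Type*} [Group G] [MulAction G α] [DecidableEq α]
    (x : α) (X : Finset α) (hX : ∀ y, y ∈ X ↔ y ∈ orbit G x)
    (f : α → ℕ) (vs : Finset ℕ) (N : ℕ → ℕ)
    (hf : ∀ y ∈ X, ∀ z ∈ X, f y = f z → ∃ h ∈ stabilizer G x, h • y = z)
    (hvs : ∀ y ∈ X, f y ∈ vs)
    (hN : ∀ v ∈ vs, (X.filter (fun y => f y = v)).card = N v)
    (hdiv : ∀ V : Finset ℕ, V ⊆ vs → f x ∈ V → (∑ v ∈ V, N v) ∣ X.card →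
      (∑ v ∈ V, N v) = 1 ∨ (∑ v ∈ V, N v) = X.card)
    (hcard : 1 < X.card) : IsCoatom (stabilizer G x) := by
  classical
  have hxX : x ∈ X := (hX x).mpr (mem_orbit_self x)
  have hXcard : (orbit G x).ncard = X.card := by
    have : orbit G x = ↑X := by
      ext y; rw [Finset.mem_coe, hX]
    rw [this, Set.ncard_coe_finset]
  constructor
  · -- the stabiliser is proper
    intro htop
    obtain ⟨y, hy, hne⟩ := Finset.exists_mem_ne hcard x
    rw [hX] at hy
    obtain ⟨g, rfl⟩ := hy
    apply hne
    have : g ∈ stabilizer G x := by rw [htop]; exact Subgroup.mem_top g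
    exact mem_stabilizer_iff.mp this
  · intro K hHK
    have hle : stabilizer G x ≤ K := le_of_lt hHK
    let B : Finset α := X.filter (fun y => y ∈ orbit K x)
    have hxB : x ∈ B := Finset.mem_filter.mpr ⟨hxX, mem_orbit_self x⟩
    have hBorb : ∀ y, y ∈ B ↔ y ∈ orbit K x := by
      intro y
      simp only [B, Finset.mem_filter]
      constructor
      · exact fun h => h.2
      · intro h
        refine ⟨?_, h⟩
        obtain ⟨k, rfl⟩ := h
        rw [hX]
        exact ⟨(k : G), rfl⟩
    let V : Finset ℕ := B.image f
    have hVvs : V ⊆ vs := by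
      intro v hv
      obtain ⟨y, hy, rfl⟩ := Finset.mem_image.mp hv
      exact hvs y (Finset.mem_filter.mp hy).1
    have hfxV : f x ∈ V := Finset.mem_image_of_mem f hxB
    have hBV : B = X.filter (fun y => f y ∈ V) := by
      ext y
      constructor
      · intro hy
        exact Finset.mem_filter.mpr ⟨(Finset.mem_filter.mp hy).1, Finset.mem_image_of_mem f hy⟩
      · intro hy
        obtain ⟨hyX, hyV⟩ := Finset.mem_filter.mp hy
        obtain ⟨z, hz, hzy⟩ := Finset.mem_image.mp hyV
        obtain ⟨h, hh, hhz⟩ := hf z (Finset.mem_filter.mp hz).1 y hyX hzy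
        rw [hBorb] at hz ⊢
        obtain ⟨k, rfl⟩ := hz
        refine ⟨⟨h, hle hh⟩ * k, ?_⟩
        show (⟨h, hle hh⟩ * k : K) • x = y
        rw [mul_smul]
        exact hhz
    have hBcard : B.card = ∑ v ∈ V, N v := by
      have hmaps : ((X.filter (fun y => f y ∈ V) : Finset α) : Set α).MapsTo f V := by
        intro y hy
        exact (Finset.mem_filter.mp (Finset.mem_coe.mp hy)).2
      rw [hBV, Finset.card_eq_sum_card_fiberwise hmaps]
      apply Finset.sum_congr rfl
      intro v hv
      rw [← hN v (hVvs hv)]
      congr 1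
      ext y
      simp only [Finset.mem_filter]
      constructor
      · rintro ⟨⟨h1, _⟩, h3⟩
        exact ⟨h1, h3⟩
      · rintro ⟨h1, h3⟩
        exact ⟨⟨h1, by rw [h3]; exact hv⟩, h3⟩
    have hBdvd : B.card ∣ X.card := by
      have h1 : (stabilizer K x).index = B.card := by
        rw [index_stabilizer]
        have : orbit K x = ↑B := by
          ext y; rw [Finset.mem_coe, hBorb]
        rw [this, Set.ncard_coe_finset]
      have h2 : (stabilizer G x).index = X.card := by
        rw [index_stabilizer, hXcard]
      have h3 := Subgroup.relIndex_mul_index hle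
      rw [Subgroup.relIndex, ← stabilizer_subgroup_eq, h1, h2] at h3
      exact Dvd.intro _ h3
    rw [hBcard] at hBdvd
    rcases hdiv V hVvs hfxV hBdvd with h1 | h1
    · -- the orbit of `K` is trivial, so `K` fixes `x`
      exfalso
      rw [← hBcard] at h1
      apply not_le_of_gt hHK
      intro k hk
      rw [mem_stabilizer_iff]
      have hkB : (⟨k, hk⟩ : K) • x ∈ B := (hBorb _).mpr ⟨⟨k, hk⟩, rfl⟩
      obtain ⟨a, ha⟩ := Finset.card_eq_one.mp h1
      rw [ha, Finset.mem_singleton] at hkB hxB
      have : (⟨k, hk⟩ : K) • x = x := by rw [hkB, hxB]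
      exact this
    · -- the orbit of `K` is everything, so `K` is everything
      rw [← hBcard] at h1
      have hBX : B = X := Finset.eq_of_subset_of_card_le (Finset.filter_subset _ _) (le_of_eq h1.symm)
      rw [eq_top_iff]
      intro g _
      have hgX : g • x ∈ X := (hX _).mpr ⟨g, rfl⟩
      rw [← hBX, hBorb] at hgX
      obtain ⟨k, hk⟩ := hgX
      have hmem : (k : G)⁻¹ * g ∈ stabilizer G x := by
        rw [mem_stabilizer_iff, mul_smul, ← hk]
        exact inv_smul_smul (k : G) x
      have := K.mul_mem k.2 (hle hmem)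
      rwa [mul_inv_cancel_left] at this

end Cfsg.Agent.Lib.Helper26_Golay
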