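import Mathlib
import Cfsg.Agent.S0364
import Cfsg.Agent.Lib.Helper26_Maximal

/-!
The stabiliser in `M24` of a set `S` of sets of points: the homomorphism to the symmetric group of
`S`, surjectivity from induced transpositions, and the normal subgroup of elements acting on each
member of `S` as the identity or as a double transposition (for members of size four).
-/

set_option autoImplicit false
set_option linter.constructorNameAsVariable false
open Cfsg
open scoped Pointwise

namespace Cfsg.Agent.Lib.Helper26_Golay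

/-- Sets of sets of points. -/
abbrev FF := Finset (Finset GolayPt)

theorem smul_mem_iff_of_stab (S : FF) (g : ↥(MulAction.stabilizer ↥M24 S)) (t : Finset GolayPt) :
    ((g : ↥M24) : Equiv.Perm GolayPt) • t ∈ S ↔ t ∈ S := by
  have h : ((g : ↥M24) : Equiv.Perm GolayPt) • S = S := MulAction.mem_stabilizer_iff.mp g.2
  have h2 : ((g : ↥M24) : Equiv.Perm GolayPt) • t ∈ ((g : ↥M24) : Equiv.Perm GolayPt) • S ↔
      t ∈ S := Finset.smul_mem_smul_finset_iff _
  rw [h] at h2
  exact h2

/-- The action of the stabiliser of `S` on the members of `S`. -/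
def famHom (S : FF) : ↥(MulAction.stabilizer ↥M24 S) →* Equiv.Perm ↥S where
  toFun g := (MulAction.toPerm ((g : ↥M24) : Equiv.Perm GolayPt) :
    Equiv.Perm (Finset GolayPt)).subtypePerm (fun t => smul_mem_iff_of_stab S g t)
  map_one' := by
    refine Equiv.ext fun t => Subtype.ext ?_
    show (1 : Equiv.Perm GolayPt) • (t : Finset GolayPt) = t
    exact one_smul _ _
  map_mul' a b := by
    refine Equiv.ext fun t => Subtype.ext ?_
    show (((a : ↥M24) : Equiv.Perm GolayPt) * ((b : ↥M24) : Equiv.Perm GolayPt)) •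
      (t : Finset GolayPt) = ((a : ↥M24) : Equiv.Perm GolayPt) •
        ((b : ↥M24) : Equiv.Perm GolayPt) • (t : Finset GolayPt)
    exact mul_smul _ _ _

theorem famHom_apply (S : FF) (g : ↥(MulAction.stabilizer ↥M24 S)) (t : ↥S) :
    ((famHom S g t : ↥S) : Finset GolayPt) =
      ((g : ↥M24) : Equiv.Perm GolayPt) • (t : Finset GolayPt) := rfl

theorem mem_ker_famHom (S : FF) (g : ↥(MulAction.stabilizer ↥M24 S)) :
    g ∈ (famHom S).ker ↔ ∀ t ∈ S, ((g : ↥M24) : Equiv.Perm GolayPt) • t = t := by
  rw [MonoidHom.mem_ker]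
  constructor
  · intro h t ht
    have := congrArg (fun e : Equiv.Perm ↥S => ((e ⟨t, ht⟩ : ↥S) : Finset GolayPt)) h
    simpa [famHom_apply] using this
  · intro h
    refine Equiv.ext fun t => Subtype.ext ?_
    rw [famHom_apply]
    exact h t t.2

/-- An element of `M24` permuting the members of `S` among themselves stabilises `S`. -/
theorem smul_eq_of_maps_to {S : FF} {σ : Equiv.Perm GolayPt} (h : ∀ t ∈ S, σ • t ∈ S) :
    σ • S = S := by
  apply Finset.eq_of_subset_of_card_le
  · intro t ht
    rw [Finset.mem_smul_finset] at ht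
    obtain ⟨t', ht', rfl⟩ := ht
    exact h t' ht'
  · rw [Finset.card_smul_finset]

/-- If every transposition of the members of `S` is induced, so is every permutation. -/
theorem famHom_surjective_of_swaps (S : FF)
    (h : ∀ a ∈ S, ∀ b ∈ S, a ≠ b → ∃ σ ∈ M24, σ • a = b ∧ σ • b = a ∧
      ∀ t ∈ S, t ≠ a → t ≠ b → σ • t = t) : Function.Surjective (famHom S) := by
  rw [← MonoidHom.range_eq_top, eq_top_iff, ← Equiv.Perm.closure_isSwap, Subgroup.closure_le]
  rintro e ⟨a, b, hab, rfl⟩
  have hab' : (a : Finset GolayPt) ≠ b := fun hc => hab (Subtype.ext hc)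
  obtain ⟨σ, hσ, h1, h2, h3⟩ := h a a.2 b b.2 hab'
  have hmaps : ∀ t ∈ S, σ • t ∈ S := by
    intro t ht
    by_cases hta : t = a
    · rw [hta, h1]; exact b.2
    · by_cases htb : t = b
      · rw [htb, h2]; exact a.2
      · rw [h3 t ht hta htb]; exact ht
  have hstab : (⟨σ, hσ⟩ : ↥M24) ∈ MulAction.stabilizer ↥M24 S :=
    MulAction.mem_stabilizer_iff.mpr (smul_eq_of_maps_to hmaps)
  refine ⟨⟨⟨σ, hσ⟩, hstab⟩, ?_⟩
  refine Equiv.ext fun t => Subtype.ext ?_
  rw [famHom_apply]
  show σ • (t : Finset GolayPt) = _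
  by_cases hta : t = a
  · rw [hta, Equiv.swap_apply_left]; exact h1
  · by_cases htb : t = b
    · rw [htb, Equiv.swap_apply_right]; exact h2
    · rw [Equiv.swap_apply_of_ne_of_ne hta htb]
      exact h3 t t.2 (fun hc => hta (Subtype.ext hc)) (fun hc => htb (Subtype.ext hc))

/-- The statement-level form of surjectivity. -/
theorem exists_induced_of_surjective (S : FF) (h : Function.Surjective (famHom S))
    (e : Equiv.Perm ↥S) : ∃ g ∈ MulAction.stabilizer ↥M24 S, ∀ t : ↥S,
      (g : Equiv.Perm GolayPt) • (t : Finset GolayPt) = ((e t : ↥S) : Finset GolayPt) := by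
  obtain ⟨g, rfl⟩ := h e
  exact ⟨g, g.2, fun t => rfl⟩

/-- The order of the kernel of the action on the members, from surjectivity. -/
theorem card_ker_famHom (S : FF) (h : Function.Surjective (famHom S)) :
    Nat.card (famHom S).ker * (S.card).factorial = Nat.card ↥(MulAction.stabilizer ↥M24 S) := by
  have h1 := Subgroup.card_mul_index (famHom S).ker
  rw [Subgroup.index_ker, MonoidHom.range_eq_top.mpr h, Subgroup.card_top, Nat.card_perm,
    Nat.card_eq_fintype_card (α := ↥S), Fintype.card_coe] at h1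
  exact h1

/-! ### The normal subgroup -/

/-- The permutation acts on each member of `S` as the identity or as a product of two
transpositions, in the form: every 2-subset of a member is mapped to itself or to its complement
in the member. -/
def InN (S : FF) (σ : Equiv.Perm GolayPt) : Prop :=
  ∀ t ∈ S, σ • t = t ∧ ∀ u : Finset GolayPt, u ⊆ t → u.card = 2 → (t \ u).card = 2 →
    (σ • u = u ∨ σ • u = t \ u)

theorem InN.one (S : FF) : InN S 1 := by
  intro t _
  exact ⟨one_smul _ _, fun u _ _ _ => Or.inl (one_smul _ _)⟩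

theorem InN.mul {S : FF} {σ τ : Equiv.Perm GolayPt} (hσ : InN S σ) (hτ : InN S τ) :
    InN S (σ * τ) := by
  intro t ht
  obtain ⟨hσt, hσu⟩ := hσ t ht
  obtain ⟨hτt, hτu⟩ := hτ t ht
  refine ⟨by rw [mul_smul, hτt, hσt], fun u hut hu hc => ?_⟩
  rw [mul_smul]
  rcases hτu u hut hu hc with h | h
  · rw [h]; exact hσu u hut hu hc
  · rw [h]
    have hsd : t \ (t \ u) = u := by
      rw [Finset.sdiff_sdiff_eq_self hut]
    rcases hσu (t \ u) Finset.sdiff_subset hc (by rw [hsd]; exact hu) with h' | h'
    · exact Or.inr h'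
    · rw [hsd] at h'; exact Or.inl h'

theorem InN.inv {S : FF} {σ : Equiv.Perm GolayPt} (hσ : InN S σ) : InN S σ⁻¹ := by
  intro t ht
  obtain ⟨hσt, hσu⟩ := hσ t ht
  refine ⟨by rw [inv_smul_eq_iff, hσt], fun u hut hu hc => ?_⟩
  have hsd : t \ (t \ u) = u := Finset.sdiff_sdiff_eq_self hut
  rcases hσu u hut hu hc with h | h
  · left; rw [inv_smul_eq_iff, h]
  · right
    rw [inv_smul_eq_iff]
    rcases hσu (t \ u) Finset.sdiff_subset hc (by rw [hsd]; exact hu) with h' | h'
    · exfalso
      have : u = t \ u := MulAction.injective σ (h.trans h'.symm)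
      have hd : Disjoint u (t \ u) := Finset.disjoint_sdiff
      rw [← this, disjoint_self, Finset.bot_eq_empty] at hd
      rw [hd] at hu
      simp at hu
    · rw [hsd] at h'; exact h'.symm

/-- Conjugation transports the property. -/
theorem InN.conj {S : FF} {σ : Equiv.Perm GolayPt} (hσ : InN S σ) (g : Equiv.Perm GolayPt) :
    InN (g • S) (g * σ * g⁻¹) := by
  intro t ht
  rw [Finset.mem_smul_finset] at ht
  obtain ⟨t₀, ht₀, rfl⟩ := ht
  obtain ⟨hσt, hσu⟩ := hσ t₀ ht₀
  refine ⟨by rw [mul_smul, mul_smul, inv_smul_smul, hσt], fun u hut hu hc => ?_⟩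
  have hu₀ : g⁻¹ • u ⊆ t₀ := by
    rw [← inv_smul_smul g t₀]
    exact Finset.smul_finset_subset_smul_finset hut
  have hsd : g⁻¹ • (g • t₀ \ u) = t₀ \ g⁻¹ • u := by
    rw [Finset.smul_finset_sdiff, inv_smul_smul]
  rcases hσu (g⁻¹ • u) hu₀ (by rw [Finset.card_smul_finset]; exact hu)
      (by rw [← hsd, Finset.card_smul_finset]; exact hc) with h | h
  · left
    rw [mul_smul, mul_smul, h, smul_inv_smul]
  · right
    rw [mul_smul, mul_smul, h, ← hsd, smul_inv_smul]

/-- The subgroup of the stabiliser of `S` of the elements with the property. -/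
def bisN (S : FF) : Subgroup ↥(MulAction.stabilizer ↥M24 S) where
  carrier := {h | InN S ((h : ↥M24) : Equiv.Perm GolayPt)}
  mul_mem' := fun ha hb => InN.mul ha hb
  one_mem' := InN.one S
  inv_mem' := fun ha => InN.inv ha

theorem mem_bisN (S : FF) (h : ↥(MulAction.stabilizer ↥M24 S)) :
    h ∈ bisN S ↔ InN S ((h : ↥M24) : Equiv.Perm GolayPt) := Iff.rfl

instance bisN_normal (S : FF) : (bisN S).Normal := by
  constructor
  intro n hn h
  rw [mem_bisN] at hn ⊢
  have h1 := hn.conj ((h : ↥M24) : Equiv.Perm GolayPt)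
  have h2 : ((h : ↥M24) : Equiv.Perm GolayPt) • S = S := MulAction.mem_stabilizer_iff.mp h.2
  rw [h2] at h1
  exact h1

theorem bisN_le_ker (S : FF) : bisN S ≤ (famHom S).ker := by
  intro n hn
  rw [mem_ker_famHom]
  intro t ht
  exact (hn t ht).1

/-- Elements with the property are involutions, when the members of `S` have four elements and
cover the points. -/
theorem InN.mul_self {S : FF} (h4 : ∀ t ∈ S, t.card = 4) (hcov : ∀ x : GolayPt, ∃ t ∈ S, x ∈ t)
    {σ : Equiv.Perm GolayPt} (hσ : InN S σ) : σ * σ = 1 := by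
  apply Equiv.ext
  intro x
  rw [Equiv.Perm.mul_apply, Equiv.Perm.one_apply]
  obtain ⟨t, ht, hxt⟩ := hcov x
  obtain ⟨hσt, hσu⟩ := hσ t ht
  have hyt : σ x ∈ t := by
    have : σ x ∈ σ • t := by
      rw [← Equiv.Perm.smul_def]; exact Finset.smul_mem_smul_finset hxt
    rwa [hσt] at this
  by_cases hyx : σ x = x
  · rw [hyx, hyx]
  · have hut : ({x, σ x} : Finset GolayPt) ⊆ t := by
      intro z hz
      rw [Finset.mem_insert, Finset.mem_singleton] at hz
      rcases hz with rfl | rfl
      · exact hxt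
      · exact hyt
    have hu : ({x, σ x} : Finset GolayPt).card = 2 := Finset.card_pair (Ne.symm hyx)
    have hc : (t \ {x, σ x}).card = 2 := by
      rw [Finset.card_sdiff_of_subset hut, h4 t ht, hu]
    have hmem : σ x ∈ σ • ({x, σ x} : Finset GolayPt) := by
      rw [← Equiv.Perm.smul_def]
      exact Finset.smul_mem_smul_finset (Finset.mem_insert_self _ _)
    have hmem2 : σ (σ x) ∈ σ • ({x, σ x} : Finset GolayPt) := by
      rw [← Equiv.Perm.smul_def σ (σ x)]
      exact Finset.smul_mem_smul_finset (by simp)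
    rcases hσu _ hut hu hc with h | h
    · rw [h, Finset.mem_insert, Finset.mem_singleton] at hmem2
      rcases hmem2 with h' | h'
      · exact h'
      · exact absurd (σ.injective h') hyx
    · rw [h, Finset.mem_sdiff] at hmem
      exact absurd (by simp) hmem.2

/-- The order of the normal subgroup divides the order of the kernel and is a power of two. -/
theorem card_bisN_dvd {S : FF} (h4 : ∀ t ∈ S, t.card = 4)
    (hcov : ∀ x : GolayPt, ∃ t ∈ S, x ∈ t) :
    ∃ k, Nat.card (bisN S) = 2 ^ k ∧ 2 ^ k ∣ Nat.card (famHom S).ker := by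
  have hp : IsPGroup 2 (bisN S) := by
    intro n
    refine ⟨1, ?_⟩
    rw [pow_one, pow_two]
    apply Subtype.ext
    apply Subtype.ext
    apply Subtype.ext
    exact InN.mul_self h4 hcov n.2
  obtain ⟨k, hk⟩ := hp.exists_card_eq
  refine ⟨k, hk, ?_⟩
  rw [← hk]
  exact Subgroup.card_dvd_of_le (bisN_le_ker S)

end Cfsg.Agent.Lib.Helper26_Golay
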