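import Mathlib
import Cfsg.Agent.Lib.Helper93_M24TrioData
import Cfsg.Agent.S1557

/-!
The trios: enumeration by the packed table, and transitivity of `M24`.
-/

set_option autoImplicit false
set_option linter.constructorNameAsVariable false
open Cfsg
open scoped Pointwise
open Cfsg.Agent.Lib.Helper26_Golay

namespace Cfsg.Agent.Lib.Helper93_M24Obj

/-- Boolean test: the bitmask of an octad. -/
def isOct (m : ℕ) : Bool := isCodeF m && (pop m == 8)

theorem dec_mem_octads {m : ℕ} (h : isOct m = true) : dec m ∈ octads := by
  unfold isOct at h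
  rw [Bool.and_eq_true, beq_iff_eq, isCodeF_eq] at h
  rw [mem_octads_iff, enc_dec m (lt_of_isCode h.1), mem_octList_iff]
  exact h

/-- Boolean test for the code of a trio. -/
def trioOK (c : ℕ) : Bool :=
  isOct (get24 c 0) && isOct (get24 c 1) && isOct (get24 c 2) &&
    (get24 c 0 &&& get24 c 1 == 0) && (get24 c 0 &&& get24 c 2 == 0) &&
    (get24 c 1 &&& get24 c 2 == 0)

theorem mems_three (c : ℕ) : mems 3 c = [get24 c 0, get24 c 1, get24 c 2] := rfl

theorem setOf_mem_trios {c : ℕ} (h1 : canon 3 c = true) (h2 : trioOK c = true) :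
    setOf 3 c ∈ trios := by
  unfold trioOK at h2
  simp only [Bool.and_eq_true, beq_iff_eq] at h2
  obtain ⟨⟨⟨⟨⟨o0, o1⟩, o2⟩, d01⟩, d02⟩, d12⟩ := h2
  have key : ∀ s ∈ setOf 3 c, enc s = get24 c 0 ∨ enc s = get24 c 1 ∨ enc s = get24 c 2 := by
    intro s hs
    rw [mem_setOf, mems_three] at hs
    simpa using hs
  refine ⟨card_setOf h1, ?_, ?_⟩
  · intro s hs
    rw [← dec_enc s]
    rcases key s hs with h | h | h <;> rw [h]
    · exact dec_mem_octads o0
    · exact dec_mem_octads o1
    · exact dec_mem_octads o2
  · intro s hs t ht hne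
    rw [disjoint_iff_enc]
    have hne' : enc s ≠ enc t := fun h => hne (enc_injective h)
    rcases key s hs with h | h | h <;> rcases key t ht with h' | h' | h' <;>
      rw [h, h'] at hne' ⊢ <;>
      first
        | exact absurd rfl hne'
        | assumption
        | (rw [Nat.land_comm]; assumption)

theorem trio_table_ok :
    allFold (fun j => canon 3 (trioAt j) && trioOK (trioAt j)) 3795 = true := by
  decide +kernel

theorem trio_table_lt : allFold (fun j => decide (trioAt j < trioAt (j + 1))) 3794 = true := by
  decide +kernel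

theorem trioAt_strictMono {j j' : ℕ} (hj' : j' < 3795) (h : j < j') : trioAt j < trioAt j' := by
  have hstep : ∀ i, i < 3794 → trioAt i < trioAt (i + 1) := by
    intro i hi
    have := (allFold_eq_true _ _).mp trio_table_lt i hi
    simpa using this
  induction j' with
  | zero => omega
  | succ j' ih =>
    by_cases hjj : j = j'
    · subst hjj; exact hstep j (by omega)
    · exact lt_trans (ih (by omega) (by omega)) (hstep j' (by omega))

theorem trioAt_canon {j : ℕ} (hj : j < 3795) : canon 3 (trioAt j) = true := by
  have := (allFold_eq_true _ _).mp trio_table_ok j hj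
  rw [Bool.and_eq_true] at this
  exact this.1

/-- The trios are enumerated by the table. -/
theorem trioEnum : Enum (objCoding 3) trios trioAt 3795 := by
  apply Enum.of_card
  · intro j hj
    have := (allFold_eq_true _ _).mp trio_table_ok j hj
    rw [Bool.and_eq_true] at this
    exact setOf_mem_trios this.1 this.2
  · intro j hj j' hj' h
    have hc : trioAt j = trioAt j' := canon_inj (trioAt_canon hj) (trioAt_canon hj') h
    rcases lt_trichotomy j j' with hlt | heq | hgt
    · exact absurd hc (ne_of_lt (trioAt_strictMono hj' hlt))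
    · exact heq
    · exact absurd hc.symm (ne_of_lt (trioAt_strictMono hj hgt))
  · exact Cfsg.Agent.S1557.trios_ncard
  · exact Set.toFinite _

theorem trioForest_ok :
    forestCheck (stepOk (objCoding 3) m24Gens 4) trioAt trioFP trioFG trioFD trioFR 3795 = true := by
  decide +kernel

theorem trioForest_root : allFold (fun j => get16 trioFR j == 0) 3795 = true := by
  decide +kernel

/-- The base trio. -/
def trio0 : Finset (Finset GolayPt) := setOf 3 (trioAt 0)

theorem trio0_mem : trio0 ∈ trios := trioEnum.mem 0 (by norm_num)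

/-- `M24` is transitive on trios. -/
theorem exists_smul_trio0_eq {T : Finset (Finset GolayPt)} (hT : T ∈ trios) :
    ∃ g ∈ M24, g • trio0 = T := by
  obtain ⟨j, hj, rfl⟩ := trioEnum.surj T hT
  obtain ⟨_, x, hx, hxj⟩ := forest' (objCoding 3) M24 m24Gens 4 m24Gens_in trioAt
    trioFP trioFG trioFD trioFR 3795 trioForest_ok j hj
  have h2 := (allFold_eq_true _ _).mp trioForest_root j hj
  rw [beq_iff_eq] at h2
  rw [h2] at hxj
  exact ⟨x, hx, hxj⟩

end Cfsg.Agent.Lib.Helper93_M24Obj
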