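import Mathlib
import Cfsg.Agent.Lib.Helper93_M24SextData
import Cfsg.Agent.Lib.Helper93_M24Trios
import Cfsg.Agent.S1550

/-!
The sextets: enumeration by the packed table, and transitivity of `M24`.
-/

set_option autoImplicit false
set_option linter.constructorNameAsVariable false
open Cfsg
open scoped Pointwise
open Cfsg.Agent.Lib.Helper26_Golay

namespace Cfsg.Agent.Lib.Helper93_M24Obj

/-- Boolean test for the code of a sextet. -/
def sextOK (c : ℕ) : Bool :=
  allFold (fun i => pop (get24 c i) == 4) 6 &&
    allFold (fun i => allFold (fun i' => (i == i') || isOct (get24 c i ||| get24 c i')) 6) 6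

theorem exists_of_mem_mems {k c m : ℕ} (h : m ∈ mems k c) : ∃ i < k, m = get24 c i := by
  unfold mems at h
  rw [List.mem_map] at h
  obtain ⟨i, hi, rfl⟩ := h
  exact ⟨i, List.mem_range.mp hi, rfl⟩

theorem setOf_mem_sextets {c : ℕ} (h1 : canon 6 c = true) (h2 : sextOK c = true) :
    setOf 6 c ∈ sextets := by
  unfold sextOK at h2
  rw [Bool.and_eq_true, allFold_eq_true, allFold_eq_true] at h2
  obtain ⟨hp, hu⟩ := h2
  refine ⟨card_setOf h1, ?_, ?_⟩
  · intro s hs
    rw [mem_setOf] at hs
    obtain ⟨i, hi, hsi⟩ := exists_of_mem_mems hs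
    have := hp i hi
    rw [beq_iff_eq] at this
    rw [card_eq_pop, hsi, this]
  · intro s hs t ht hne
    rw [mem_setOf] at hs ht
    obtain ⟨i, hi, hsi⟩ := exists_of_mem_mems hs
    obtain ⟨i', hi', hti⟩ := exists_of_mem_mems ht
    have hii : i ≠ i' := by
      rintro rfl
      exact hne (enc_injective (hsi.trans hti.symm))
    have h3 := (allFold_eq_true _ _).mp (hu i hi) i' hi'
    rw [Bool.or_eq_true, beq_iff_eq] at h3
    rcases h3 with h3 | h3
    · exact absurd h3 hii
    · have := dec_mem_octads h3
      rw [← hsi, ← hti, ← enc_union, dec_enc] at this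
      exact this

theorem sext_table_ok :
    allFold (fun j => canon 6 (sextAt j) && sextOK (sextAt j)) 1771 = true := by
  decide +kernel

theorem sext_table_lt : allFold (fun j => decide (sextAt j < sextAt (j + 1))) 1770 = true := by
  decide +kernel

theorem sextAt_strictMono {j j' : ℕ} (hj' : j' < 1771) (h : j < j') : sextAt j < sextAt j' := by
  have hstep : ∀ i, i < 1770 → sextAt i < sextAt (i + 1) := by
    intro i hi
    have := (allFold_eq_true _ _).mp sext_table_lt i hi
    simpa using this
  induction j' with
  | zero => omega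
  | succ j' ih =>
    by_cases hjj : j = j'
    · subst hjj; exact hstep j (by omega)
    · exact lt_trans (ih (by omega) (by omega)) (hstep j' (by omega))

theorem sextAt_canon {j : ℕ} (hj : j < 1771) : canon 6 (sextAt j) = true := by
  have := (allFold_eq_true _ _).mp sext_table_ok j hj
  rw [Bool.and_eq_true] at this
  exact this.1

/-- The sextets are enumerated by the table. -/
theorem sextEnum : Enum (objCoding 6) sextets sextAt 1771 := by
  apply Enum.of_card
  · intro j hj
    have := (allFold_eq_true _ _).mp sext_table_ok j hj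
    rw [Bool.and_eq_true] at this
    exact setOf_mem_sextets this.1 this.2
  · intro j hj j' hj' h
    have hc : sextAt j = sextAt j' := canon_inj (sextAt_canon hj) (sextAt_canon hj') h
    rcases lt_trichotomy j j' with hlt | heq | hgt
    · exact absurd hc (ne_of_lt (sextAt_strictMono hj' hlt))
    · exact heq
    · exact absurd hc.symm (ne_of_lt (sextAt_strictMono hj hgt))
  · exact Cfsg.Agent.S1550.sextets_ncard
  · exact Set.toFinite _

theorem sextForest_ok :
    forestCheck (stepOk (objCoding 6) m24Gens 4) sextAt sextFP sextFG sextFD sextFR 1771 = true := by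
  decide +kernel

theorem sextForest_root : allFold (fun j => get16 sextFR j == 0) 1771 = true := by
  decide +kernel

/-- The base sextet. -/
def sext0 : Finset (Finset GolayPt) := setOf 6 (sextAt 0)

theorem sext0_mem : sext0 ∈ sextets := sextEnum.mem 0 (by norm_num)

/-- `M24` is transitive on sextets. -/
theorem exists_smul_sext0_eq {S : Finset (Finset GolayPt)} (hS : S ∈ sextets) :
    ∃ g ∈ M24, g • sext0 = S := by
  obtain ⟨j, hj, rfl⟩ := sextEnum.surj S hS
  obtain ⟨_, x, hx, hxj⟩ := forest' (objCoding 6) M24 m24Gens 4 m24Gens_in sextAt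
    sextFP sextFG sextFD sextFR 1771 sextForest_ok j hj
  have h2 := (allFold_eq_true _ _).mp sextForest_root j hj
  rw [beq_iff_eq] at h2
  rw [h2] at hxj
  exact ⟨x, hx, hxj⟩

end Cfsg.Agent.Lib.Helper93_M24Obj
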