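import Mathlib
import Cfsg.Agent.Lib.Helper26_FamStab
import Cfsg.Agent.Lib.Helper93_M24Sextets

/-!
Induced transpositions on the members of a coded set of sets, from a table of permutations, and
transport along `M24`.  Also an existential fold.
-/

set_option autoImplicit false
set_option linter.constructorNameAsVariable false
open Cfsg
open scoped Pointwise
open Cfsg.Agent.Lib.Helper93_M24Obj

namespace Cfsg.Agent.Lib.Helper26_Golay

/-- Existential fold over `i < n`. -/
def anyFold (f : ℕ → Bool) (n : ℕ) : Bool := !(allFold (fun i => !(f i)) n)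

theorem anyFold_eq_true (f : ℕ → Bool) (n : ℕ) :
    anyFold f n = true ↔ ∃ i < n, f i = true := by
  unfold anyFold
  rw [Bool.not_eq_true', ← Bool.not_eq_true, allFold_eq_true]
  push Not
  constructor
  · rintro ⟨i, hi, h⟩
    exact ⟨i, hi, by simpa using h⟩
  · rintro ⟨i, hi, h⟩
    exact ⟨i, hi, by simpa using h⟩

/-- Every transposition of the members of `S` is induced by an element of `M24`. -/
def SwapsInduced (S : FF) : Prop :=
  ∀ a ∈ S, ∀ b ∈ S, a ≠ b → ∃ σ ∈ M24, σ • a = b ∧ σ • b = a ∧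
    ∀ t ∈ S, t ≠ a → t ≠ b → σ • t = t

theorem mem_setOf_iff_exists (k c : ℕ) (t : Finset GolayPt) :
    t ∈ setOf k c ↔ ∃ i < k, t = dec (get24 c i) := by
  rw [mem_setOf]
  constructor
  · intro h
    obtain ⟨i, hi, hti⟩ := exists_of_mem_mems h
    exact ⟨i, hi, by rw [← dec_enc t, hti]⟩
  · rintro ⟨i, hi, rfl⟩
    rw [enc_dec _ (get24_lt' _ _)]
    unfold mems
    exact List.mem_map.mpr ⟨i, List.mem_range.mpr hi, rfl⟩

/-- Check of a transposition table. -/
def swapOKg (k c T i j : ℕ) : Bool :=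
  tblInM24 T && allFold (fun l => permMask T (get24 c l) ==
    get24 c (if l == i then j else if l == j then i else l)) k

theorem swapsInduced_of_table (k c tab : ℕ)
    (h : allFold (fun i => allFold (fun j => (i == j) ||
      swapOKg k c (get120 tab (k * i + j)) i j) k) k = true) : SwapsInduced (setOf k c) := by
  intro a ha b hb hab
  obtain ⟨i, hi, rfl⟩ := (mem_setOf_iff_exists k c a).mp ha
  obtain ⟨j, hj, rfl⟩ := (mem_setOf_iff_exists k c b).mp hb
  have hij : i ≠ j := by
    rintro rfl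
    exact hab rfl
  have h1 := (allFold_eq_true _ _).mp ((allFold_eq_true _ _).mp h i hi) j hj
  rw [Bool.or_eq_true, beq_iff_eq] at h1
  rcases h1 with h1 | h1
  · exact absurd h1 hij
  unfold swapOKg at h1
  rw [Bool.and_eq_true, allFold_eq_true] at h1
  obtain ⟨hT, hk⟩ := h1
  obtain ⟨σ, hσ, hR⟩ := exists_of_tblInM24 hT
  have key : ∀ l < k, σ • dec (get24 c l) =
      dec (get24 c (if l == i then j else if l == j then i else l)) := by
    intro l hl
    have := hk l hl
    rw [beq_iff_eq] at this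
    rw [smul_dec hR (get24_lt' _ _), this]
  refine ⟨σ, hσ, ?_, ?_, ?_⟩
  · rw [key i hi]; simp
  · rw [key j hj]
    have : (j == i) = false := by simpa using (Ne.symm hij)
    simp [this]
  · intro t ht hta htb
    obtain ⟨l, hl, rfl⟩ := (mem_setOf_iff_exists k c t).mp ht
    have hki : (l == i) = false := by
      simp only [beq_eq_false_iff_ne]
      rintro rfl
      exact hta rfl
    have hkj : (l == j) = false := by
      simp only [beq_eq_false_iff_ne]
      rintro rfl
      exact htb rfl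
    rw [key l hl, hki, hkj]
    simp

theorem SwapsInduced.smul {S : FF} (h : SwapsInduced S) {g : Equiv.Perm GolayPt} (hg : g ∈ M24) :
    SwapsInduced (g • S) := by
  intro a ha b hb hab
  rw [Finset.mem_smul_finset] at ha hb
  obtain ⟨a₀, ha₀, rfl⟩ := ha
  obtain ⟨b₀, hb₀, rfl⟩ := hb
  have hab₀ : a₀ ≠ b₀ := fun h => hab (by rw [h])
  obtain ⟨σ, hσ, h1, h2, h3⟩ := h a₀ ha₀ b₀ hb₀ hab₀
  refine ⟨g * σ * g⁻¹, M24.mul_mem (M24.mul_mem hg hσ) (M24.inv_mem hg), ?_, ?_, ?_⟩
  · show (g * σ * g⁻¹) • g • a₀ = g • b₀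
    rw [mul_smul, mul_smul, inv_smul_smul, h1]
  · show (g * σ * g⁻¹) • g • b₀ = g • a₀
    rw [mul_smul, mul_smul, inv_smul_smul, h2]
  · intro t ht hta htb
    rw [Finset.mem_smul_finset] at ht
    obtain ⟨t₀, ht₀, rfl⟩ := ht
    show (g * σ * g⁻¹) • g • t₀ = g • t₀
    rw [mul_smul, mul_smul, inv_smul_smul,
      h3 t₀ ht₀ (fun h => hta (by rw [h])) (fun h => htb (by rw [h]))]

theorem famHom_surjective_of_swapsInduced {S : FF} (h : SwapsInduced S) :
    Function.Surjective (famHom S) :=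
  famHom_surjective_of_swaps S h

/-- Transport of a normal subgroup with prescribed quotient along an isomorphism. -/
theorem transport_normal_quotient {A B Q : Type*} [Group A] [Group B] [Group Q] (e : A ≃* B)
    (n : ℕ) (h : ∃ (N : Subgroup A) (_ : N.Normal), Nat.card N = n ∧ (∀ x ∈ N, x * x = 1) ∧
      Nonempty (A ⧸ N ≃* Q)) :
    ∃ (N : Subgroup B) (_ : N.Normal), Nat.card N = n ∧ (∀ x ∈ N, x * x = 1) ∧
      Nonempty (B ⧸ N ≃* Q) := by
  obtain ⟨N, hN, hcard, hexp, ⟨q⟩⟩ := h
  have hN' : (N.map e.toMonoidHom).Normal := hN.map e.toMonoidHom e.surjective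
  refine ⟨N.map e.toMonoidHom, hN', ?_, ?_, ?_⟩
  · rw [← hcard]
    exact Nat.card_congr (e.subgroupMap N).toEquiv.symm
  · rintro x ⟨y, hy, rfl⟩
    show e y * e y = 1
    rw [← map_mul, hexp y hy, map_one]
  · exact ⟨(QuotientGroup.congr N (N.map e.toMonoidHom) e rfl).symm.trans q⟩

end Cfsg.Agent.Lib.Helper26_Golay
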