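import Mathlib
import Cfsg.Agent.Lib.Helper83_FrCDefs

set_option autoImplicit false
set_option linter.unusedVariables false
set_option linter.unusedSectionVars false

/-!
S5655, `k = 1`, case (C), package PK15A: the standard frame of `κ → F`, and the map induced on
`p^⊥ / p` (`p = e_a + l e_b`, characteristic two) by an isometry fixing the point `F p`, in
coordinates: existence, multiplicativity, uniqueness.
-/

namespace Cfsg.Agent.Lib.Helper26_FrC_PK15A

open Module Cfsg.Agent.Lib.Helper94_Herm Cfsg.Agent.Lib.Helper13_PSUSimple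
  Cfsg.Agent.Lib.Helper94_FrmDefs Cfsg.Agent.Lib.Helper83_FrCDefs

open scoped Matrix

variable {F V ι : Type*} [Field F] [AddCommGroup V] [Module F V] [Fintype ι] [DecidableEq ι]
variable {σ : F →+* F} {B : V →ₗ[F] V →ₛₗ[σ] F} {e : ι → V}

/-- PK15a. the standard frame of `κ → F` is an orthonormal frame for the standard form. -/
theorem stdFrame (σ : F →+* F) (κ : Type*) [Fintype κ] [DecidableEq κ] :
    OFrame (stdB σ κ) (stdE F κ) := by
  refine ⟨?_, ?_, ?_⟩
  · intro i j hij
    rw [stdB_apply]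
    apply Finset.sum_eq_zero
    intro r _
    simp only [stdE]
    by_cases hr : r = i
    · subst hr
      rw [Pi.single_eq_of_ne hij, map_zero, mul_zero]
    · rw [Pi.single_eq_of_ne hr, zero_mul]
  · intro i
    rw [stdB_apply, Finset.sum_eq_single i]
    · simp [stdE]
    · intro r _ hr
      simp [stdE, Pi.single_eq_of_ne hr]
    · intro h
      exact absurd (Finset.mem_univ i) h
  · rw [eq_top_iff]
    intro x _
    have hx : x = ∑ r, x r • stdE F κ r := by
      ext s
      simp [stdE, Finset.sum_apply, Pi.single_apply]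
    rw [hx]
    exact Submodule.sum_mem _
      (fun r _ => Submodule.smul_mem _ _ (Submodule.subset_span ⟨r, rfl⟩))

theorem stdB_isHerm (hσ : Invol σ) (κ : Type*) [Fintype κ] : IsHerm (stdB σ κ) := by
  intro x y
  rw [stdB_apply, stdB_apply, map_sum]
  refine Finset.sum_congr rfl (fun r _ => ?_)
  rw [map_mul, hσ.invol, mul_comm]

/-! ### auxiliary facts -/

/-- splitting a sum over `ι` into the part over `Idx' a b` and the two terms `a`, `b` -/
lemma sum_split (a b : ι) (hab : a ≠ b) (f : ι → F) :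
    ∑ t, f t = (∑ t : Idx' a b, f t.1) + f a + f b := by
  rw [← Finset.add_sum_erase Finset.univ f (Finset.mem_univ a),
    ← Finset.add_sum_erase (Finset.univ.erase a) f
      (by simp [hab.symm] : b ∈ Finset.univ.erase a),
    Finset.sum_subtype ((Finset.univ.erase a).erase b) (p := fun r => r ≠ a ∧ r ≠ b)
      (by intro x; simp [and_comm])]
  ring

/-- the coordinates `a`, `b` of a vector perpendicular to `p` -/
lemma coord_of_perp (h2 : (2 : F) = 0) (a b : ι) (l : F) (x : V)
    (hx : B x (e a + l • e b) = 0) : B x (e a) = σ l * B x (e b) := by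
  rw [map_add, map_smulₛₗ, smul_eq_mul] at hx
  have h : σ l * B x (e b) + σ l * B x (e b) = 0 := by
    rw [← two_mul, h2, zero_mul]
  linear_combination hx - h

lemma p_apply_self (hfr : OFrame B e) (a b : ι) (hab : a ≠ b) (l : F) :
    B (e a + l • e b) (e a) = 1 := by
  rw [map_add, LinearMap.add_apply, map_smul, LinearMap.smul_apply, fr_apply_eq hfr,
    fr_apply_eq hfr]
  simp [hab.symm]

lemma p_coord (hfr : OFrame B e) (a b : ι) (l : F) (r : ι) (hra : r ≠ a) (hrb : r ≠ b) :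
    B (e a + l • e b) (e r) = 0 := by
  rw [map_add, LinearMap.add_apply, map_smul, LinearMap.smul_apply, fr_apply_eq hfr,
    fr_apply_eq hfr]
  simp [hra.symm, hrb.symm]

lemma perp_p_of (hfr : OFrame B e) (a b : ι) (l : F) (s : ι) (hsa : s ≠ a) (hsb : s ≠ b) :
    B (e s) (e a + l • e b) = 0 := by
  rw [map_add, map_smulₛₗ, fr_apply_eq hfr, fr_apply_eq hfr]
  simp [hsa, hsb]

lemma fix_ne_zero (hfr : OFrame B e) (a b : ι) (hab : a ≠ b) (l : F) (m : V ≃ₗ[F] V) (c : F)
    (hc : m (e a + l • e b) = c • (e a + l • e b)) : c ≠ 0 := by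
  intro h0
  rw [h0, zero_smul] at hc
  have hp : e a + l • e b = 0 := by
    have := m.injective (hc.trans (map_zero m).symm)
    exact this
  have := p_apply_self hfr a b hab l
  rw [hp, map_zero, LinearMap.zero_apply] at this
  exact zero_ne_one this

/-- the images of the `e_s`, `s ≠ a, b`, are perpendicular to `p` -/
lemma image_perp (hfr : OFrame B e) (a b : ι) (hab : a ≠ b) (l : F) (m : V ≃ₗ[F] V)
    (hm : m ∈ uG B) (hfix : FixesPt e a b l m) (s : ι) (hsa : s ≠ a) (hsb : s ≠ b) :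
    B (m (e s)) (e a + l • e b) = 0 := by
  obtain ⟨c, hc⟩ := hfix
  have hc0 := fix_ne_zero hfr a b hab l m c hc
  have h1 : B (m (e s)) (m (e a + l • e b)) = 0 := by
    rw [hm, perp_p_of hfr a b l s hsa hsb]
  rw [hc, map_smulₛₗ, smul_eq_mul] at h1
  rcases mul_eq_zero.mp h1 with h | h
  · exact absurd ((map_eq_zero σ).mp h) hc0
  · exact h

/-- the coordinates `r ≠ a, b` of `m p` vanish -/
lemma fix_coord (hfr : OFrame B e) (a b : ι) (l : F) (m : V ≃ₗ[F] V)
    (hfix : FixesPt e a b l m) (r : ι) (hra : r ≠ a) (hrb : r ≠ b) :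
    B (m (e a)) (e r) + l * B (m (e b)) (e r) = 0 := by
  obtain ⟨c, hc⟩ := hfix
  have h1 : B (m (e a + l • e b)) (e r) = 0 := by
    rw [hc, map_smul, LinearMap.smul_apply, p_coord hfr a b l r hra hrb, smul_zero]
  rw [map_add, map_smul, map_add, LinearMap.add_apply, map_smul, LinearMap.smul_apply,
    smul_eq_mul] at h1
  exact h1

/-- the multiplicativity of the coordinate submatrix -/
lemma amat_mul (hfr : OFrame B e) (h2 : (2 : F) = 0) (a b : ι) (hab : a ≠ b) (l : F)
    (hl : l * σ l = 1) (m m' : V ≃ₗ[F] V) (hm' : m' ∈ uG B)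
    (hfix : FixesPt e a b l m) (hfix' : FixesPt e a b l m') (r s : Idx' a b) :
    B ((m * m') (e s.1)) (e r.1) =
      ∑ t : Idx' a b, B (m' (e s.1)) (e t.1) * B (m (e t.1)) (e r.1) := by
  have hexp : (m * m') (e s.1) = ∑ t, B (m' (e s.1)) (e t) • m (e t) := by
    rw [LinearEquiv.mul_apply]
    conv_lhs => rw [fr_expand hfr (m' (e s.1))]
    rw [map_sum]
    exact Finset.sum_congr rfl (fun t _ => by rw [map_smul])
  rw [hexp, map_sum, LinearMap.sum_apply]
  simp only [map_smul, LinearMap.smul_apply, smul_eq_mul]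
  rw [sum_split a b hab]
  have hX := coord_of_perp h2 a b l (m' (e s.1))
    (image_perp hfr a b hab l m' hm' hfix' s.1 s.2.1 s.2.2)
  have hPQ := fix_coord hfr a b l m hfix r.1 r.2.1 r.2.2
  have hcross : B (m' (e s.1)) (e a) * B (m (e a)) (e r.1) +
      B (m' (e s.1)) (e b) * B (m (e b)) (e r.1) = 0 := by
    linear_combination (B (m (e a)) (e r.1)) * hX +
      (σ l * B (m' (e s.1)) (e b)) * hPQ -
      (B (m' (e s.1)) (e b) * B (m (e b)) (e r.1)) * hl
  rw [add_assoc, hcross, add_zero]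

/-- the columns of the coordinate submatrix are orthonormal -/
lemma amat_orth (hσ : Invol σ) (hfr : OFrame B e) (h2 : (2 : F) = 0) (a b : ι) (hab : a ≠ b)
    (l : F) (hl : l * σ l = 1) (m : V ≃ₗ[F] V) (hm : m ∈ uG B) (hfix : FixesPt e a b l m)
    (s s' : Idx' a b) :
    ∑ r : Idx' a b, B (m (e s.1)) (e r.1) * σ (B (m (e s'.1)) (e r.1)) =
      if s = s' then 1 else 0 := by
  have h1 : B (m (e s.1)) (m (e s'.1)) = if s = s' then 1 else 0 := by
    rw [hm, fr_apply_eq hfr]
    by_cases h : s = s'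
    · simp [h]
    · have : s.1 ≠ s'.1 := fun h' => h (Subtype.ext h')
      simp [h, this]
  rw [fr_form_eq hfr, sum_split a b hab] at h1
  have hY := coord_of_perp h2 a b l (m (e s.1))
    (image_perp hfr a b hab l m hm hfix s.1 s.2.1 s.2.2)
  have hY' := coord_of_perp h2 a b l (m (e s'.1))
    (image_perp hfr a b hab l m hm hfix s'.1 s'.2.1 s'.2.2)
  have hcross : B (m (e s.1)) (e a) * σ (B (m (e s'.1)) (e a)) +
      B (m (e s.1)) (e b) * σ (B (m (e s'.1)) (e b)) = 0 := by
    rw [hY, hY', map_mul, hσ.invol]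
    have h : B (m (e s.1)) (e b) * σ (B (m (e s'.1)) (e b)) +
        B (m (e s.1)) (e b) * σ (B (m (e s'.1)) (e b)) = 0 := by
      rw [← two_mul, h2, zero_mul]
    linear_combination h + (B (m (e s.1)) (e b) * σ (B (m (e s'.1)) (e b))) * hl
  rw [add_assoc, hcross, add_zero] at h1
  exact h1

/-- the coordinate submatrix of an isometry fixing the point `F p` -/
noncomputable def amat (B : V →ₗ[F] V →ₛₗ[σ] F) (e : ι → V) (a b : ι) (m : V ≃ₗ[F] V) :
    Matrix (Idx' a b) (Idx' a b) F := fun r s => B (m (e s.1)) (e r.1)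

lemma amat_mul_eq (hfr : OFrame B e) (h2 : (2 : F) = 0) (a b : ι) (hab : a ≠ b) (l : F)
    (hl : l * σ l = 1) (m m' : V ≃ₗ[F] V) (hm' : m' ∈ uG B)
    (hfix : FixesPt e a b l m) (hfix' : FixesPt e a b l m') :
    amat B e a b m * amat B e a b m' = amat B e a b (m * m') := by
  ext r s
  rw [Matrix.mul_apply]
  simp only [amat]
  rw [amat_mul hfr h2 a b hab l hl m m' hm' hfix hfix' r s]
  exact Finset.sum_congr rfl (fun t _ => mul_comm _ _)

lemma amat_one (hfr : OFrame B e) (a b : ι) : amat B e a b 1 = 1 := by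
  ext r s
  simp only [amat, LinearEquiv.coe_one, id_eq, fr_apply_eq hfr, Matrix.one_apply]
  by_cases h : r = s
  · simp [h]
  · have h' : s.1 ≠ r.1 := fun h'' => h (Subtype.ext h''.symm)
    simp [h, h']

lemma fixesPt_inv (hfr : OFrame B e) (a b : ι) (hab : a ≠ b) (l : F) (m : V ≃ₗ[F] V)
    (hfix : FixesPt e a b l m) : FixesPt e a b l m⁻¹ := by
  obtain ⟨c, hc⟩ := hfix
  have hc0 := fix_ne_zero hfr a b hab l m c hc
  refine ⟨c⁻¹, ?_⟩
  have h1 : m⁻¹ (c • (e a + l • e b)) = e a + l • e b := by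
    rw [← hc]
    exact Cfsg.Agent.Lib.Helper94_Symp.inv_apply_apply' m _
  rw [map_smul] at h1
  calc m⁻¹ (e a + l • e b) = c⁻¹ • (c • m⁻¹ (e a + l • e b)) := by
        rw [smul_smul, inv_mul_cancel₀ hc0, one_smul]
    _ = c⁻¹ • (e a + l • e b) := by rw [h1]

lemma amat_mul_inv (hfr : OFrame B e) (h2 : (2 : F) = 0) (a b : ι) (hab : a ≠ b) (l : F)
    (hl : l * σ l = 1) (m : V ≃ₗ[F] V) (hm : m ∈ uG B) (hfix : FixesPt e a b l m) :
    amat B e a b m * amat B e a b m⁻¹ = 1 ∧ amat B e a b m⁻¹ * amat B e a b m = 1 := by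
  have hfix' := fixesPt_inv hfr a b hab l m hfix
  have hm' : m⁻¹ ∈ uG B := (uG B).inv_mem hm
  constructor
  · rw [amat_mul_eq hfr h2 a b hab l hl m m⁻¹ hm' hfix hfix', mul_inv_cancel, amat_one hfr]
  · rw [amat_mul_eq hfr h2 a b hab l hl m⁻¹ m hm hfix' hfix, inv_mul_cancel, amat_one hfr]

lemma stdB_eq_dot (κ : Type*) [Fintype κ] (x y : κ → F) :
    stdB σ κ x y = x ⬝ᵥ (σ ∘ y) := rfl

/-- a matrix with orthonormal columns gives an isometry of the standard form -/
lemma stdB_mulVec {κ : Type*} [Fintype κ] [DecidableEq κ] (A : Matrix κ κ F)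
    (hA : A.transpose * A.map σ = 1) (x y : κ → F) :
    stdB σ κ (A *ᵥ x) (A *ᵥ y) = stdB σ κ x y := by
  rw [stdB_eq_dot, stdB_eq_dot]
  have h1 : (σ ∘ (A *ᵥ y)) = (A.map σ) *ᵥ (σ ∘ y) := by
    ext i
    exact RingHom.map_mulVec σ A y i
  rw [h1, Matrix.dotProduct_mulVec, ← Matrix.vecMul_transpose, Matrix.vecMul_vecMul, hA,
    Matrix.vecMul_one]

/-- PK15b. paper (E-Phi): the induced map exists (matrix `Φ(m)_{r s} = B (m e_s) (e_r)`,
`r s ∈ Idx' a b`; inverse from `m⁻¹`), is an isometry of the standard form, and is unique. -/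
theorem qrel_exists (hσ : Invol σ) (hB : IsHerm B) (hfr : OFrame B e) (h2 : (2 : F) = 0)
    (a b : ι) (hab : a ≠ b) (l : F) (hl : l * σ l = 1) (m : V ≃ₗ[F] V) (hm : m ∈ uG B)
    (hfix : FixesPt e a b l m) :
    ∃ k : (Idx' a b → F) ≃ₗ[F] (Idx' a b → F), k ∈ uG (stdB σ (Idx' a b)) ∧ QRel B e a b m k := by
  obtain ⟨h1, h2'⟩ := amat_mul_inv hfr h2 a b hab l hl m hm hfix
  have hk : ∀ x, (Matrix.toLin'OfInv h2' h1) x = amat B e a b m *ᵥ x := by
    intro x
    ext i
    rw [Matrix.toLin'OfInv_apply, Matrix.toLin'_apply]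
  refine ⟨Matrix.toLin'OfInv h2' h1, ?_, ?_⟩
  · rw [mem_uG]
    intro x y
    rw [hk, hk]
    apply stdB_mulVec
    ext s s'
    rw [Matrix.mul_apply, Matrix.one_apply]
    simp only [Matrix.transpose_apply, Matrix.map_apply, amat]
    exact amat_orth hσ hfr h2 a b hab l hl m hm hfix s s'
  · intro r s
    rw [hk]
    simp only [stdE, Matrix.mulVec_single_one]
    rfl

/-- PK15c. paper (E-Phi): multiplicativity. -/
theorem qrel_mul (hσ : Invol σ) (hB : IsHerm B) (hfr : OFrame B e) (h2 : (2 : F) = 0)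
    (a b : ι) (hab : a ≠ b) (l : F) (hl : l * σ l = 1) (m m' : V ≃ₗ[F] V)
    (k k' : (Idx' a b → F) ≃ₗ[F] (Idx' a b → F)) (hm : m ∈ uG B) (hm' : m' ∈ uG B)
    (hfix : FixesPt e a b l m) (hfix' : FixesPt e a b l m') (h : QRel B e a b m k)
    (h' : QRel B e a b m' k') : QRel B e a b (m * m') (k * k') := by
  intro r s
  rw [amat_mul hfr h2 a b hab l hl m m' hm' hfix hfix' r s, LinearEquiv.mul_apply]
  have hk' : k' (stdE F (Idx' a b) s) =
      ∑ t : Idx' a b, B (m' (e s.1)) (e t.1) • stdE F (Idx' a b) t := by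
    ext t
    rw [h' t s]
    simp [stdE, Finset.sum_apply, Pi.single_apply]
  rw [hk', map_sum, Finset.sum_apply]
  refine Finset.sum_congr rfl (fun t _ => ?_)
  rw [map_smul, Pi.smul_apply, smul_eq_mul, h r t]

theorem qrel_unique (a b : ι) (m : V ≃ₗ[F] V) (k k' : (Idx' a b → F) ≃ₗ[F] (Idx' a b → F))
    (h : QRel B e a b m k) (h' : QRel B e a b m k') : k = k' := by
  apply LinearEquiv.toLinearMap_injective
  apply LinearMap.pi_ext
  intro s x
  have hx : (Pi.single s x : Idx' a b → F) = x • stdE F (Idx' a b) s := by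
    ext t
    simp [stdE, Pi.single_apply]
  rw [hx, LinearEquiv.coe_coe, LinearEquiv.coe_coe, map_smul, map_smul]
  congr 1
  ext r
  rw [h r s, h' r s]

theorem qrel_one (hfr : OFrame B e) (a b : ι) : QRel B e a b 1 1 := by
  intro r s
  rw [LinearEquiv.coe_one, id_eq, LinearEquiv.coe_one, id_eq, fr_apply_eq hfr]
  simp only [stdE, Pi.single_apply]
  by_cases h : r = s
  · simp [h]
  · have h' : s.1 ≠ r.1 := fun h'' => h (Subtype.ext h''.symm)
    simp [h, h']

end Cfsg.Agent.Lib.Helper26_FrC_PK15A
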