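import Mathlib
import Cfsg.Agent.Lib.Helper26_FusLocalDefs
import Cfsg.Agent.Lib.Helper32_PGroup

/-!
# `FusLocal S S` for a self-normalizing Sylow subgroup (helper26)

If `S` is a finite `p`-subgroup of `H` with `N_H(S) = S`, whose centre is `{1, z}` and which is
generated by `H`-conjugates of `z`, then `FusLocal S S` holds in `H`.
-/

set_option autoImplicit false

namespace Cfsg.Agent.Lib.Helper26_FusAbs

open Cfsg Cfsg.Agent.Lib.Helper26_FusLocal

variable {G : Type*} [Group G]

/-- A non-trivial strongly closed subgroup of a finite `p`-subgroup `S` contains a non-trivial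
element of the centre of `S`. -/
theorem exists_central_of_closed (p : ℕ) [Fact p.Prime] (S T : Subgroup G) [Finite S]
    (hS : IsPGroup p S) (hT : T ≤ S) (hT1 : T ≠ ⊥)
    (hsc : ∀ t ∈ T, ∀ g : G, g * t * g⁻¹ ∈ S → g * t * g⁻¹ ∈ T) :
    ∃ z ∈ T, z ≠ 1 ∧ ∀ s ∈ S, s * z = z * s := by
  have hN : (T.subgroupOf S).Normal := by
    refine ⟨fun n hn g => ?_⟩
    rw [Subgroup.mem_subgroupOf] at hn ⊢
    exact hsc n.1 hn g.1 (mul_mem (mul_mem g.2 n.2) (inv_mem g.2))
  have hN1 : T.subgroupOf S ≠ ⊥ := by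
    intro h
    apply hT1
    rw [Subgroup.eq_bot_iff_forall]
    intro t ht
    have h1 : (⟨t, hT ht⟩ : S) ∈ T.subgroupOf S := by
      rw [Subgroup.mem_subgroupOf]
      exact ht
    rw [h, Subgroup.mem_bot] at h1
    exact congrArg Subtype.val h1
  obtain ⟨z, hz, hzc, hz1⟩ :=
    Cfsg.Agent.Lib.Helper32_PGroup.exists_mem_center_of_normal hS (T.subgroupOf S) hN1
  refine ⟨z.1, ?_, ?_, ?_⟩
  · rw [Subgroup.mem_subgroupOf] at hz
    exact hz
  · intro h
    exact hz1 (Subtype.ext h)
  · intro s hs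
    have := Subgroup.mem_center_iff.mp hzc ⟨s, hs⟩
    exact congrArg Subtype.val this

/-- The criterion, inside a group `G`. -/
theorem fusLocal_self (p : ℕ) [Fact p.Prime] (S : Subgroup G) [Finite S] (hS : IsPGroup p S)
    (hS1 : S ≠ ⊥)
    (hN : ∀ n : G, (∀ s ∈ S, n * s * n⁻¹ ∈ S) → n ∈ S)
    (z : G) (hZ : ∀ c ∈ S, (∀ s ∈ S, s * c = c * s) → c = 1 ∨ c = z)
    (X : Set G) (hXS : X ⊆ S) (hXc : ∀ x ∈ X, ∃ g : G, x = g * z * g⁻¹)
    (hgen : S ≤ Subgroup.closure X) : FusLocal S S := by
  refine ⟨hS1, ?_, le_refl _, fun n hn q hq => hn q hq, ?_, ?_⟩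
  · intro T hT hT1 hsc
    obtain ⟨c, hcT, hc1, hcc⟩ := exists_central_of_closed p S T hS hT hT1 hsc
    have hcz : c = z := by
      rcases hZ c (hT hcT) hcc with h | h
      · exact absurd h hc1
      · exact h
    apply le_antisymm hT
    refine hgen.trans ?_
    rw [Subgroup.closure_le]
    intro x hx
    obtain ⟨g, rfl⟩ := hXc x hx
    rw [← hcz]
    apply hsc c hcT g
    rw [hcz]
    exact hXS hx
  · intro c hc
    apply hN c
    intro s hs
    have : c * s * c⁻¹ = s := by rw [hc s hs]; group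
    rw [this]; exact hs
  · intro n hn
    apply Subgroup.subset_closure
    refine ⟨1, fun q hq => by simpa using hq, n, hN n hn, by simp⟩

/-- The criterion for a subgroup `S ≤ H` of an ambient group `A`. -/
theorem fusLocal_subgroupOf {A : Type*} [Group A] (p : ℕ) [Fact p.Prime] (H S : Subgroup A)
    (hSH : S ≤ H) [Finite S] (hS : IsPGroup p S) (hS1 : S ≠ ⊥)
    (hN : ∀ n ∈ H, (∀ s ∈ S, n * s * n⁻¹ ∈ S) → n ∈ S)
    (z : A) (hZ : ∀ c ∈ S, (∀ s ∈ S, s * c = c * s) → c = 1 ∨ c = z)
    (X : Set A) (hXS : X ⊆ S) (hXc : ∀ x ∈ X, ∃ g ∈ H, x = g * z * g⁻¹)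
    (hgen : S ≤ Subgroup.closure X) : FusLocal (S.subgroupOf H) (S.subgroupOf H) := by
  have e : S.subgroupOf H ≃* S := Subgroup.subgroupOfEquivOfLe hSH
  have hfin : Finite (S.subgroupOf H) := Finite.of_equiv _ e.symm.toEquiv
  have hSp : IsPGroup p (S.subgroupOf H) := hS.of_equiv e.symm
  have hne : S.subgroupOf H ≠ ⊥ := by
    intro h
    apply hS1
    rw [Subgroup.eq_bot_iff_forall]
    intro s hs
    have h1 : (⟨s, hSH hs⟩ : H) ∈ S.subgroupOf H := by
      rw [Subgroup.mem_subgroupOf]; exact hs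
    rw [h, Subgroup.mem_bot] at h1
    exact congrArg Subtype.val h1
  by_cases hzS : ∃ c ∈ S, c ≠ 1 ∧ ∀ s ∈ S, s * c = c * s
  · obtain ⟨c, hcS, hc1, hcc⟩ := hzS
    have hcz : c = z := by
      rcases hZ c hcS hcc with h | h
      · exact absurd h hc1
      · exact h
    have hzH : z ∈ H := by rw [← hcz]; exact hSH hcS
    refine fusLocal_self p (S.subgroupOf H) hSp hne ?_ ⟨z, hzH⟩ ?_
      {x : H | (x : A) ∈ X} ?_ ?_ ?_
    · intro n hn
      rw [Subgroup.mem_subgroupOf]
      apply hN n.1 n.2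
      intro s hs
      have := hn ⟨s, hSH hs⟩ (by rw [Subgroup.mem_subgroupOf]; exact hs)
      rw [Subgroup.mem_subgroupOf] at this
      exact this
    · intro c hc hcc
      rw [Subgroup.mem_subgroupOf] at hc
      rcases hZ c.1 hc (fun s hs => by
        have := hcc ⟨s, hSH hs⟩ (by rw [Subgroup.mem_subgroupOf]; exact hs)
        exact congrArg Subtype.val this) with h | h
      · left; exact Subtype.ext h
      · right; exact Subtype.ext h
    · intro x hx
      rw [SetLike.mem_coe, Subgroup.mem_subgroupOf]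
      exact hXS hx
    · intro x hx
      obtain ⟨g, hgH, hg⟩ := hXc x.1 hx
      exact ⟨⟨g, hgH⟩, Subtype.ext hg⟩
    · intro s hs
      rw [Subgroup.mem_subgroupOf] at hs
      have h1 := hgen hs
      have key : ∀ y ∈ Subgroup.closure X, ∀ hy : y ∈ H,
          (⟨y, hy⟩ : H) ∈ Subgroup.closure {x : H | (x : A) ∈ X} := by
        intro y hy
        induction hy using Subgroup.closure_induction with
        | mem y hy =>
          intro hyH
          exact Subgroup.subset_closure hy
        | one =>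
          intro _
          exact Subgroup.one_mem _
        | mul a b ha hb iha ihb =>
          intro hab
          have haS : a ∈ S := (Subgroup.closure_le S).mpr hXS ha
          have hbS : b ∈ S := (Subgroup.closure_le S).mpr hXS hb
          exact Subgroup.mul_mem _ (iha (hSH haS)) (ihb (hSH hbS))
        | inv a ha iha =>
          intro hai
          have haS : a ∈ S := (Subgroup.closure_le S).mpr hXS ha
          exact Subgroup.inv_mem _ (iha (hSH haS))
      exact key s.1 h1 s.2
  · -- the centre of the non-trivial `p`-group `S` is non-trivial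
    exfalso
    apply hzS
    obtain ⟨c, hcT, hc1, hcc⟩ := exists_central_of_closed p S S hS (le_refl _) hS1
      (fun t _ g h => h)
    exact ⟨c, hcT, hc1, hcc⟩

end Cfsg.Agent.Lib.Helper26_FusAbs
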