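import Mathlib
import Cfsg.Prelude.Def_Characters
import Cfsg.Agent.Lib.Helper80_CharBasic
import Cfsg.Agent.Lib.Helper17_H27Defs
import Cfsg.Agent.Lib.Helper5_H9_G333

/-!
# S3701 package L333 (architect helper17, market `h27_packages`): the (3,3,3)-lemma in the `Hyp` setting.

Self-contained: the two facts of package BASIC27 that are used (`three_mem`, `cent_three`) are re-proved here
(as `three_mem'`, `cent_three'`), and `lemma333_aux` takes `cent_three` as an explicit hypothesis.
-/

set_option autoImplicit false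

namespace Cfsg.Agent.Lib.Helper60_H27_L333

open Cfsg Cfsg.Agent.Lib.Helper80_CharBasic Cfsg.Agent.Lib.Helper17_H27Defs

variable {G : Type*} [Group G]
variable {T : Subgroup G} {a b c u v : G}

/-- every element of `T` has cube one -/
theorem pow_three_of_mem (h : Hyp G T a b c u v) {t : G} (ht : t ∈ T) : t ^ 3 = 1 := by
  obtain ⟨e, rfl⟩ := (h.mem t).1 ht
  have ha3 : a ^ 3 = 1 := by rw [← h.oa]; exact pow_orderOf_eq_one a
  have hb3 : b ^ 3 = 1 := by rw [← h.ob]; exact pow_orderOf_eq_one b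
  have hc3 : c ^ 3 = 1 := by rw [← h.oc]; exact pow_orderOf_eq_one c
  have cab : Commute a b := h.ab
  have cac : Commute a c := h.ac
  have cbc : Commute b c := h.bc
  have c1 : Commute (a ^ e.1.val) (b ^ e.2.1.val) := (cab.pow_left _).pow_right _
  have c2 : Commute (a ^ e.1.val * b ^ e.2.1.val) (c ^ e.2.2.val) :=
    ((cac.pow_left _).pow_right _).mul_left ((cbc.pow_left _).pow_right _)
  show (a ^ e.1.val * b ^ e.2.1.val * c ^ e.2.2.val) ^ 3 = 1
  rw [c2.mul_pow, c1.mul_pow, ← pow_mul, ← pow_mul, ← pow_mul, mul_comm _ 3, mul_comm _ 3,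
    mul_comm _ 3, pow_mul, pow_mul, pow_mul, ha3, hb3, hc3, one_pow, one_pow, one_pow, one_mul,
    one_mul]

/-- the index of `T` in its normalizer is `4` -/
theorem index_eq_four (h : Hyp G T a b c u v) :
    (T.subgroupOf (Subgroup.normalizer (T : Set G))).index = 4 := by
  have hle : T ≤ Subgroup.normalizer (T : Set G) := Subgroup.le_normalizer
  have h1 := Subgroup.card_mul_index (T.subgroupOf (Subgroup.normalizer (T : Set G)))
  have h2 : Nat.card (T.subgroupOf (Subgroup.normalizer (T : Set G))) = Nat.card T :=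
    Nat.card_congr (Subgroup.subgroupOfEquivOfLe hle).toEquiv
  rw [h2, h.card, h.cardN] at h1
  omega

/-- the fourth power of an element of the normalizer lies in `T` -/
theorem pow_four_mem (h : Hyp G T a b c u v) {x : G}
    (hx : x ∈ Subgroup.normalizer (T : Set G)) : x ^ 4 ∈ T := by
  have h1 := Subgroup.pow_index_mem (T.subgroupOf (Subgroup.normalizer (T : Set G))) ⟨x, hx⟩
  rw [index_eq_four h, Subgroup.mem_subgroupOf] at h1
  simpa using h1

/-- (BASIC27) elements of cube one of the normalizer lie in `T` -/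
theorem three_mem' (h : Hyp G T a b c u v) {x : G} (hx : x ∈ Subgroup.normalizer (T : Set G))
    (hx3 : x ^ 3 = 1) : x ∈ T := by
  have h4 := pow_four_mem h hx
  have : x ^ 4 = x := by
    rw [pow_succ, hx3, one_mul]
  rwa [this] at h4

/-- (BASIC27) elements of cube one centralizing a nonidentity element of `T` lie in `T` -/
theorem cent_three' (h : Hyp G T a b c u v) {t x : G} (ht : t ∈ T) (ht1 : t ≠ 1)
    (hxt : x * t = t * x) (hx3 : x ^ 3 = 1) : x ∈ T := by
  refine three_mem' h (h.loc t ht ht1 ?_) hx3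
  rw [Subgroup.mem_centralizer_iff]
  intro s hs
  rw [Set.mem_singleton_iff] at hs
  rw [hs, hxt]

variable [Finite G]

/-- the (3,3,3)-lemma, with `cent_three` (package BASIC27) as an explicit hypothesis -/
theorem lemma333_aux (h : Hyp G T a b c u v)
    (hcent : ∀ {t x : G}, t ∈ T → t ≠ 1 → x * t = t * x → x ^ 3 = 1 → x ∈ T)
    {p q : G} (hp : p ^ 3 = 1) (hq : q ^ 3 = 1)
    (hpq : p * q ∈ T) (hpq1 : p * q ≠ 1) :
    (p ∈ T ∧ q ∈ T) ∨ (IsConj p q ∧ IsConj (p * q) p⁻¹) := by
  rcases Cfsg.Agent.Lib.Helper5_H9_G333.gen333 hp hq (pow_three_of_mem h hpq) with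
    ⟨d, hd1, hd3, hdp, hdq⟩ | h2
  · left
    have hdT : d ∈ T := by
      refine hcent hpq hpq1 ?_ hd3
      calc d * (p * q) = (d * p) * q := by group
        _ = (p * d) * q := by rw [hdp]
        _ = p * (d * q) := by group
        _ = p * (q * d) := by rw [hdq]
        _ = p * q * d := by group
    exact ⟨hcent hdT hd1 hdp.symm hp, hcent hdT hd1 hdq.symm hq⟩
  · exact Or.inr h2

/-! ### L333 -/
theorem lemma333 (h : Hyp G T a b c u v) {p q : G} (hp : p ^ 3 = 1) (hq : q ^ 3 = 1)
    (hpq : p * q ∈ T) (hpq1 : p * q ≠ 1) :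
    (p ∈ T ∧ q ∈ T) ∨ (IsConj p q ∧ IsConj (p * q) p⁻¹) :=
  lemma333_aux h (fun ht ht1 hxt hx3 => cent_three' h ht ht1 hxt hx3) hp hq hpq hpq1

end Cfsg.Agent.Lib.Helper60_H27_L333
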