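import Mathlib
import Cfsg.Agent.Lib.Helper17_H27Defs
import Cfsg.Agent.Lib.Helper60_H27_L333

/-!
# S3701 package CNT27 (architect helper17, market `h27_packages`): the two class multiplication counts  (helper26)

`counts_aux` takes the `(3,3,3)`-lemma (package L333) and the fusion statements (package FUS27) as explicit
hypotheses; `counts_of_fus` uses the landed `Helper60_H27_L333.lemma333` and only takes the FUS27 statements.
-/

set_option autoImplicit false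

namespace Cfsg.Agent.Lib.Helper26_H27_CNT27

open Cfsg Cfsg.Agent.Lib.Helper17_H27Defs

variable {G : Type*} [Group G] {T : Subgroup G} {a b c u v : G}

/-- a conjugate of an element of cube one has cube one -/
theorem cube_of_conj {x p : G} (hx : x ^ 3 = 1) (hp : IsConj x p) : p ^ 3 = 1 := by
  obtain ⟨g, hg⟩ := isConj_iff.mp hp
  rw [← hg, conj_pow, hx, mul_one, mul_inv_cancel]

/-- conjugacy passes to inverses -/
theorem conj_inv' {x p : G} (hp : IsConj x p) : IsConj x⁻¹ p⁻¹ := by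
  obtain ⟨g, hg⟩ := isConj_iff.mp hp
  rw [isConj_iff]
  exact ⟨g, by rw [← hg, conj_inv]⟩

/-- rearranging a product of six pairwise commuting factors -/
theorem rearr {M : Type*} [Monoid M] (A B C A' B' C' : M) (h1 : B * A' = A' * B)
    (h2 : C * A' = A' * C) (h3 : C * B' = B' * C) :
    A * B * C * (A' * B' * C') = (A * A') * (B * B') * (C * C') := by
  calc A * B * C * (A' * B' * C') = A * B * ((C * A') * B') * C' := by simp only [mul_assoc]
    _ = A * B * ((A' * C) * B') * C' := by rw [h2]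
    _ = A * (B * A') * (C * B') * C' := by simp only [mul_assoc]
    _ = A * (A' * B) * (B' * C) * C' := by rw [h1, h3]
    _ = _ := by simp only [mul_assoc]

/-- powers by `ZMod 3`-values add, for an element of cube one -/
theorem pow_val_add {x : G} (hx : x ^ 3 = 1) (i j : ZMod 3) :
    x ^ (i + j).val = x ^ i.val * x ^ j.val := by
  rw [ZMod.val_add, ← pow_eq_pow_mod _ hx, pow_add]

theorem elt_mul (h : Hyp G T a b c u v) (e f : ZMod 3 × ZMod 3 × ZMod 3) :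
    elt a b c e * elt a b c f = elt a b c (e + f) := by
  have ha3 : a ^ 3 = 1 := by rw [← h.oa]; exact pow_orderOf_eq_one a
  have hb3 : b ^ 3 = 1 := by rw [← h.ob]; exact pow_orderOf_eq_one b
  have hc3 : c ^ 3 = 1 := by rw [← h.oc]; exact pow_orderOf_eq_one c
  have cab : Commute a b := h.ab
  have cac : Commute a c := h.ac
  have cbc : Commute b c := h.bc
  unfold elt
  rw [rearr _ _ _ _ _ _ ((cab.pow_pow _ _).symm.eq) ((cac.pow_pow _ _).symm.eq)
    ((cbc.pow_pow _ _).symm.eq)]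
  show _ = a ^ (e.1 + f.1).val * b ^ (e.2.1 + f.2.1).val * c ^ (e.2.2 + f.2.2).val
  rw [pow_val_add ha3, pow_val_add hb3, pow_val_add hc3]

/-- the exponent vectors of the class of `z = a b c` inside `T` -/
def Dp : List (ZMod 3 × ZMod 3 × ZMod 3) := [(1, 1, 1), (1, 2, 2), (2, 1, 2), (2, 2, 1)]

/-- the exponent vectors of the class of `z⁻¹` inside `T` -/
def Dm : List (ZMod 3 × ZMod 3 × ZMod 3) := [(2, 2, 2), (2, 1, 1), (1, 2, 1), (1, 1, 2)]

theorem sq_eq_inv {x : G} (hx : x ^ 3 = 1) : x ^ 2 = x⁻¹ := by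
  rw [eq_inv_iff_mul_eq_one, ← pow_succ]
  exact hx

/-- the explicit hypotheses version: `L333` and `FUS27` as hypotheses -/
theorem counts_aux (h : Hyp G T a b c u v)
    (h333 : ∀ {p q : G}, p ^ 3 = 1 → q ^ 3 = 1 → p * q ∈ T → p * q ≠ 1 →
      (p ∈ T ∧ q ∈ T) ∨ (IsConj p q ∧ IsConj (p * q) p⁻¹))
    (hcz : ∀ {t : G}, t ∈ T → (IsConj (a * b * c) t ↔
      (t = a * b * c ∨ t = a * b⁻¹ * c⁻¹ ∨ t = a⁻¹ * b * c⁻¹ ∨ t = a⁻¹ * b⁻¹ * c)))
    (hczi : ∀ {t : G}, t ∈ T → (IsConj (a * b * c)⁻¹ t ↔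
      (t = a⁻¹ * b⁻¹ * c⁻¹ ∨ t = a⁻¹ * b * c ∨ t = a * b⁻¹ * c ∨ t = a * b * c⁻¹)))
    (hnc : ¬ IsConj (a * b * c) (a * b * c)⁻¹ ∧ ¬ IsConj (a * b) (a * b * c) ∧
      ¬ IsConj (a * b) (a * b * c)⁻¹) :
    Nat.card {p : G × G // IsConj (a * b * c) p.1 ∧ IsConj (a * b * c) p.2 ∧
      p.1 * p.2 = a * b} = 0 ∧
    Nat.card {p : G × G // IsConj (a * b * c)⁻¹ p.1 ∧ IsConj (a * b * c) p.2 ∧
      p.1 * p.2 = a * b} = 1 := by
  have ha3 : a ^ 3 = 1 := by rw [← h.oa]; exact pow_orderOf_eq_one a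
  have hb3 : b ^ 3 = 1 := by rw [← h.ob]; exact pow_orderOf_eq_one b
  have hc3 : c ^ 3 = 1 := by rw [← h.oc]; exact pow_orderOf_eq_one c
  have ha2 := sq_eq_inv ha3
  have hb2 := sq_eq_inv hb3
  have hc2 := sq_eq_inv hc3
  have v0 : (0 : ZMod 3).val = 0 := rfl
  have v1 : (1 : ZMod 3).val = 1 := rfl
  have v2 : (2 : ZMod 3).val = 2 := rfl
  -- the nine elements as `elt`
  have e111 : elt a b c (1, 1, 1) = a * b * c := by
    show a ^ (1 : ZMod 3).val * b ^ (1 : ZMod 3).val * c ^ (1 : ZMod 3).val = _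
    rw [v1, pow_one, pow_one, pow_one]
  have e122 : elt a b c (1, 2, 2) = a * b⁻¹ * c⁻¹ := by
    show a ^ (1 : ZMod 3).val * b ^ (2 : ZMod 3).val * c ^ (2 : ZMod 3).val = _
    rw [v1, v2, pow_one, hb2, hc2]
  have e212 : elt a b c (2, 1, 2) = a⁻¹ * b * c⁻¹ := by
    show a ^ (2 : ZMod 3).val * b ^ (1 : ZMod 3).val * c ^ (2 : ZMod 3).val = _
    rw [v1, v2, pow_one, ha2, hc2]
  have e221 : elt a b c (2, 2, 1) = a⁻¹ * b⁻¹ * c := by
    show a ^ (2 : ZMod 3).val * b ^ (2 : ZMod 3).val * c ^ (1 : ZMod 3).val = _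
    rw [v1, v2, pow_one, ha2, hb2]
  have e222 : elt a b c (2, 2, 2) = a⁻¹ * b⁻¹ * c⁻¹ := by
    show a ^ (2 : ZMod 3).val * b ^ (2 : ZMod 3).val * c ^ (2 : ZMod 3).val = _
    rw [v2, ha2, hb2, hc2]
  have e211 : elt a b c (2, 1, 1) = a⁻¹ * b * c := by
    show a ^ (2 : ZMod 3).val * b ^ (1 : ZMod 3).val * c ^ (1 : ZMod 3).val = _
    rw [v1, v2, pow_one, pow_one, ha2]
  have e121 : elt a b c (1, 2, 1) = a * b⁻¹ * c := by
    show a ^ (1 : ZMod 3).val * b ^ (2 : ZMod 3).val * c ^ (1 : ZMod 3).val = _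
    rw [v1, v2, pow_one, pow_one, hb2]
  have e112 : elt a b c (1, 1, 2) = a * b * c⁻¹ := by
    show a ^ (1 : ZMod 3).val * b ^ (1 : ZMod 3).val * c ^ (2 : ZMod 3).val = _
    rw [v1, v2, pow_one, pow_one, hc2]
  have e110 : elt a b c (1, 1, 0) = a * b := by
    show a ^ (1 : ZMod 3).val * b ^ (1 : ZMod 3).val * c ^ (0 : ZMod 3).val = _
    rw [v1, v0, pow_one, pow_one, pow_zero, mul_one]
  have e000 : elt a b c (0, 0, 0) = 1 := by
    show a ^ (0 : ZMod 3).val * b ^ (0 : ZMod 3).val * c ^ (0 : ZMod 3).val = _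
    rw [v0, pow_zero, pow_zero, pow_zero, mul_one, mul_one]
  have hmemT : ∀ e, elt a b c e ∈ T := fun e => (h.mem _).2 ⟨e, rfl⟩
  have hzT : a * b * c ∈ T := by rw [← e111]; exact hmemT _
  have habT : a * b ∈ T := by rw [← e110]; exact hmemT _
  have hab1 : a * b ≠ 1 := by
    rw [← e110, ← e000]
    intro e
    have := h.inj e
    revert this
    decide
  have hz3 : (a * b * c) ^ 3 = 1 := by
    rw [← e111]
    have : elt a b c (1, 1, 1) * elt a b c (1, 1, 1) * elt a b c (1, 1, 1) = 1 := by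
      rw [elt_mul h, elt_mul h, ← e000]
      rfl
    rw [pow_succ, pow_two]
    exact this
  have hzi3 : ((a * b * c)⁻¹) ^ 3 = 1 := by rw [inv_pow, hz3, inv_one]
  -- the fusion statements in `elt` form
  have hcz' : ∀ {t : G}, t ∈ T → IsConj (a * b * c) t → ∃ e ∈ Dp, t = elt a b c e := by
    intro t ht hc
    rcases (hcz ht).1 hc with e | e | e | e
    · exact ⟨(1, 1, 1), by decide, by rw [e111]; exact e⟩
    · exact ⟨(1, 2, 2), by decide, by rw [e122]; exact e⟩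
    · exact ⟨(2, 1, 2), by decide, by rw [e212]; exact e⟩
    · exact ⟨(2, 2, 1), by decide, by rw [e221]; exact e⟩
  have hczi' : ∀ {t : G}, t ∈ T → IsConj (a * b * c)⁻¹ t → ∃ e ∈ Dm, t = elt a b c e := by
    intro t ht hc
    rcases (hczi ht).1 hc with e | e | e | e
    · exact ⟨(2, 2, 2), by decide, by rw [e222]; exact e⟩
    · exact ⟨(2, 1, 1), by decide, by rw [e211]; exact e⟩
    · exact ⟨(1, 2, 1), by decide, by rw [e121]; exact e⟩
    · exact ⟨(1, 1, 2), by decide, by rw [e112]; exact e⟩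
  -- the two finite checks
  have chk1 : ∀ e ∈ Dp, ∀ f ∈ Dp, e + f ≠ ((1, 1, 0) : ZMod 3 × ZMod 3 × ZMod 3) := by decide
  have chk2 : ∀ e ∈ Dm, ∀ f ∈ Dp, e + f = ((1, 1, 0) : ZMod 3 × ZMod 3 × ZMod 3) →
      e = (2, 2, 2) ∧ f = (2, 2, 1) := by decide
  refine ⟨?_, ?_⟩
  · -- no pair
    refine Nat.card_eq_zero.mpr (Or.inl ⟨?_⟩)
    rintro ⟨⟨p, q⟩, hp, hq, hpq⟩
    simp only at hp hq hpq
    have hpqT : p * q ∈ T := by rw [hpq]; exact habT
    have hpq1 : p * q ≠ 1 := by rw [hpq]; exact hab1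
    rcases h333 (cube_of_conj hz3 hp) (cube_of_conj hz3 hq) hpqT hpq1 with ⟨hpT, hqT⟩ | ⟨_, h2⟩
    · obtain ⟨e, he, rfl⟩ := hcz' hpT hp
      obtain ⟨f, hf, rfl⟩ := hcz' hqT hq
      rw [elt_mul h, ← e110] at hpq
      exact chk1 e he f hf (h.inj hpq)
    · rw [hpq] at h2
      exact hnc.2.2 (h2.trans (conj_inv' hp).symm)
  · -- exactly one pair
    have key : ∀ {p q : G}, IsConj (a * b * c)⁻¹ p → IsConj (a * b * c) q → p * q = a * b →
        p = elt a b c (2, 2, 2) ∧ q = elt a b c (2, 2, 1) := by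
      intro p q hp hq hpq
      have hpqT : p * q ∈ T := by rw [hpq]; exact habT
      have hpq1 : p * q ≠ 1 := by rw [hpq]; exact hab1
      rcases h333 (cube_of_conj hzi3 hp) (cube_of_conj hz3 hq) hpqT hpq1 with
        ⟨hpT, hqT⟩ | ⟨h2, _⟩
      · obtain ⟨e, he, rfl⟩ := hczi' hpT hp
        obtain ⟨f, hf, rfl⟩ := hcz' hqT hq
        rw [elt_mul h, ← e110] at hpq
        obtain ⟨r1, r2⟩ := chk2 e he f hf (h.inj hpq)
        rw [r1, r2]
        exact ⟨rfl, rfl⟩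
      · exact absurd (hq.trans (h2.symm.trans hp.symm)) hnc.1
    rw [Nat.card_eq_one_iff_unique]
    refine ⟨⟨?_⟩, ⟨⟨(elt a b c (2, 2, 2), elt a b c (2, 2, 1)), ?_, ?_, ?_⟩⟩⟩
    · rintro ⟨⟨p, q⟩, hp, hq, hpq⟩ ⟨⟨p', q'⟩, hp', hq', hpq'⟩
      simp only at hp hq hpq hp' hq' hpq'
      obtain ⟨r1, r2⟩ := key hp hq hpq
      obtain ⟨r1', r2'⟩ := key hp' hq' hpq'
      rw [Subtype.mk.injEq, Prod.mk.injEq]
      exact ⟨r1.trans r1'.symm, r2.trans r2'.symm⟩
    · show IsConj (a * b * c)⁻¹ (elt a b c (2, 2, 2))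
      rw [hczi (hmemT _), e222]
      exact Or.inl rfl
    · show IsConj (a * b * c) (elt a b c (2, 2, 1))
      rw [hcz (hmemT _), e221]
      exact Or.inr (Or.inr (Or.inr rfl))
    · show elt a b c (2, 2, 2) * elt a b c (2, 2, 1) = a * b
      rw [elt_mul h, ← e110]
      rfl

/-- `counts` from the FUS27 statements only (the `(3,3,3)`-lemma is the landed `Helper60_H27_L333.lemma333`) -/
theorem counts_of_fus [Finite G] (h : Hyp G T a b c u v)
    (hcz : ∀ {t : G}, t ∈ T → (IsConj (a * b * c) t ↔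
      (t = a * b * c ∨ t = a * b⁻¹ * c⁻¹ ∨ t = a⁻¹ * b * c⁻¹ ∨ t = a⁻¹ * b⁻¹ * c)))
    (hczi : ∀ {t : G}, t ∈ T → (IsConj (a * b * c)⁻¹ t ↔
      (t = a⁻¹ * b⁻¹ * c⁻¹ ∨ t = a⁻¹ * b * c ∨ t = a * b⁻¹ * c ∨ t = a * b * c⁻¹)))
    (hnc : ¬ IsConj (a * b * c) (a * b * c)⁻¹ ∧ ¬ IsConj (a * b) (a * b * c) ∧
      ¬ IsConj (a * b) (a * b * c)⁻¹) :
    Nat.card {p : G × G // IsConj (a * b * c) p.1 ∧ IsConj (a * b * c) p.2 ∧
      p.1 * p.2 = a * b} = 0 ∧
    Nat.card {p : G × G // IsConj (a * b * c)⁻¹ p.1 ∧ IsConj (a * b * c) p.2 ∧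
      p.1 * p.2 = a * b} = 1 :=
  counts_aux h (fun hp hq hpq hpq1 => Cfsg.Agent.Lib.Helper60_H27_L333.lemma333 h hp hq hpq hpq1)
    hcz hczi hnc

end Cfsg.Agent.Lib.Helper26_H27_CNT27
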