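import Mathlib
import Cfsg.Prelude.Def_Characters
import Cfsg.Agent.Lib.Helper80_CharBasic
import Cfsg.Agent.Lib.Helper17_H27Defs

/-!
# S3701 package CENT27 (architect helper17, market `h27_packages`):
`|C(z)| = |C(z⁻¹)| = 27` for `z = a b c` in the `Hyp` configuration.
-/

set_option autoImplicit false

namespace Cfsg.Agent.Lib.Helper60_H27_CENT27

open Cfsg Cfsg.Agent.Lib.Helper80_CharBasic Cfsg.Agent.Lib.Helper17_H27Defs

variable {G : Type*} [Group G]
variable {T : Subgroup G} {a b c u v : G}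

theorem inv_eq_sq {g : G} (hg : orderOf g = 3) : g⁻¹ = g ^ 2 := by
  apply inv_eq_of_mul_eq_one_right
  rw [← pow_succ']
  have h3 : g ^ 3 = 1 := by rw [← hg]; exact pow_orderOf_eq_one g
  exact h3

theorem elt_apply (a b c : G) (i j k : ZMod 3) :
    elt a b c (i, j, k) = a ^ i.val * b ^ j.val * c ^ k.val := rfl

theorem elt_000 : elt a b c (0, 0, 0) = 1 := by
  rw [elt_apply]
  simp

theorem elt_111 : elt a b c (1, 1, 1) = a * b * c := by
  rw [elt_apply]
  have : (1 : ZMod 3).val = 1 := rfl
  rw [this, pow_one, pow_one, pow_one]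

theorem elt_221 (h : Hyp G T a b c u v) : elt a b c (2, 2, 1) = a⁻¹ * b⁻¹ * c := by
  rw [elt_apply, inv_eq_sq h.oa, inv_eq_sq h.ob]
  have h1 : (1 : ZMod 3).val = 1 := rfl
  have h2 : (2 : ZMod 3).val = 2 := rfl
  rw [h1, h2, pow_one]

theorem elt_212 (h : Hyp G T a b c u v) : elt a b c (2, 1, 2) = a⁻¹ * b * c⁻¹ := by
  rw [elt_apply, inv_eq_sq h.oa, inv_eq_sq h.oc]
  have h1 : (1 : ZMod 3).val = 1 := rfl
  have h2 : (2 : ZMod 3).val = 2 := rfl
  rw [h1, h2, pow_one]

theorem elt_122 (h : Hyp G T a b c u v) : elt a b c (1, 2, 2) = a * b⁻¹ * c⁻¹ := by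
  rw [elt_apply, inv_eq_sq h.ob, inv_eq_sq h.oc]
  have h1 : (1 : ZMod 3).val = 1 := rfl
  have h2 : (2 : ZMod 3).val = 2 := rfl
  rw [h1, h2, pow_one]

theorem z_mem (h : Hyp G T a b c u v) : a * b * c ∈ T :=
  (h.mem _).2 ⟨(1, 1, 1), elt_111.symm⟩

theorem z_ne_one (h : Hyp G T a b c u v) : a * b * c ≠ 1 := by
  intro hz
  have : elt a b c (1, 1, 1) = elt a b c (0, 0, 0) := by rw [elt_111, elt_000, hz]
  have := h.inj this
  revert this
  decide

theorem ne_221 (h : Hyp G T a b c u v) : a⁻¹ * b⁻¹ * c ≠ a * b * c := by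
  intro hz
  have : elt a b c (2, 2, 1) = elt a b c (1, 1, 1) := by rw [elt_111, elt_221 h, hz]
  have := h.inj this
  revert this
  decide

theorem ne_212 (h : Hyp G T a b c u v) : a⁻¹ * b * c⁻¹ ≠ a * b * c := by
  intro hz
  have : elt a b c (2, 1, 2) = elt a b c (1, 1, 1) := by rw [elt_111, elt_212 h, hz]
  have := h.inj this
  revert this
  decide

theorem ne_122 (h : Hyp G T a b c u v) : a * b⁻¹ * c⁻¹ ≠ a * b * c := by
  intro hz
  have : elt a b c (1, 2, 2) = elt a b c (1, 1, 1) := by rw [elt_111, elt_122 h, hz]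
  have := h.inj this
  revert this
  decide

theorem mem_cent_singleton {g n : G} :
    n ∈ Subgroup.centralizer ({g} : Set G) ↔ n * g * n⁻¹ = g := by
  rw [Subgroup.mem_centralizer_iff]
  constructor
  · intro hn
    have := hn g (Set.mem_singleton g)
    rw [← this, mul_inv_cancel_right]
  · intro hn z hz
    rw [Set.mem_singleton_iff] at hz
    subst hz
    calc z * n = (n * z * n⁻¹) * n := by rw [hn]
      _ = n * z := by group

theorem conj_mul3 (n x y z : G) :
    n * (x * y * z) * n⁻¹ = (n * x * n⁻¹) * (n * y * n⁻¹) * (n * z * n⁻¹) := by group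

theorem u_not_mem (h : Hyp G T a b c u v) : u ∉ Subgroup.centralizer ({a * b * c} : Set G) := by
  intro hu
  rw [mem_cent_singleton, conj_mul3, h.ua, h.ub, h.uc] at hu
  exact ne_221 h hu

theorem v_not_mem (h : Hyp G T a b c u v) : v ∉ Subgroup.centralizer ({a * b * c} : Set G) := by
  intro hv
  rw [mem_cent_singleton, conj_mul3, h.va, h.vb, h.vc] at hv
  exact ne_212 h hv

theorem uv_not_mem (h : Hyp G T a b c u v) :
    u * v ∉ Subgroup.centralizer ({a * b * c} : Set G) := by
  intro huv
  have e1 : u * v * a * (u * v)⁻¹ = a := by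
    calc u * v * a * (u * v)⁻¹ = u * (v * a * v⁻¹) * u⁻¹ := by group
      _ = (u * a * u⁻¹)⁻¹ := by rw [h.va]; group
      _ = a := by rw [h.ua, inv_inv]
  have e2 : u * v * b * (u * v)⁻¹ = b⁻¹ := by
    calc u * v * b * (u * v)⁻¹ = u * (v * b * v⁻¹) * u⁻¹ := by group
      _ = b⁻¹ := by rw [h.vb, h.ub]
  have e3 : u * v * c * (u * v)⁻¹ = c⁻¹ := by
    calc u * v * c * (u * v)⁻¹ = u * (v * c * v⁻¹) * u⁻¹ := by group
      _ = (u * c * u⁻¹)⁻¹ := by rw [h.vc]; group
      _ = c⁻¹ := by rw [h.uc]
  rw [mem_cent_singleton, conj_mul3, e1, e2, e3] at huv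
  exact ne_122 h huv

/-- every element of `T` commutes with `z = a b c` -/
theorem le_cent_z (h : Hyp G T a b c u v) : T ≤ Subgroup.centralizer ({a * b * c} : Set G) := by
  intro t ht
  obtain ⟨e, rfl⟩ := (h.mem t).1 ht
  rw [Subgroup.mem_centralizer_iff]
  intro z hz
  rw [Set.mem_singleton_iff] at hz
  subst hz
  have cab : Commute a b := h.ab
  have cac : Commute a c := h.ac
  have cbc : Commute b c := h.bc
  have ha : Commute (a * b * c) a := ((Commute.refl a).mul_left cab.symm).mul_left cac.symm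
  have hb : Commute (a * b * c) b := (cab.mul_left (Commute.refl b)).mul_left cbc.symm
  have hc : Commute (a * b * c) c := (cac.mul_left cbc).mul_left (Commute.refl c)
  exact (((ha.pow_right _).mul_right (hb.pow_right _)).mul_right (hc.pow_right _)).eq

theorem arith27 {n : ℕ} (h27 : 27 ∣ n) (h108 : n ∣ 108) : n = 27 ∨ n = 54 ∨ n = 108 := by
  obtain ⟨k, rfl⟩ := h27
  have hk : k ∣ 4 := by
    have : 27 * k ∣ 27 * 4 := by simpa using h108
    exact (Nat.mul_dvd_mul_iff_left (by norm_num)).1 this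
  have hk4 : k ≤ 4 := Nat.le_of_dvd (by norm_num) hk
  interval_cases k
  · simp at hk
  · left; rfl
  · right; left; rfl
  · exfalso; revert hk; decide
  · right; right; rfl

variable [Finite G]

theorem card_cent_z' (h : Hyp G T a b c u v) :
    Nat.card (Subgroup.centralizer ({a * b * c} : Set G)) = 27 := by
  have hCN : Subgroup.centralizer ({a * b * c} : Set G) ≤ Subgroup.normalizer (T : Set G) :=
    h.loc _ (z_mem h) (z_ne_one h)
  have hTC := le_cent_z h
  have h27 : 27 ∣ Nat.card (Subgroup.centralizer ({a * b * c} : Set G)) := by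
    have := Subgroup.card_dvd_of_le hTC
    rwa [h.card] at this
  have h108 : Nat.card (Subgroup.centralizer ({a * b * c} : Set G)) ∣ 108 := by
    have := Subgroup.card_dvd_of_le hCN
    rwa [h.cardN] at this
  rcases arith27 h27 h108 with h1 | h1 | h1
  · exact h1
  · exfalso
    -- index two in the normalizer: `u v` would centralize `z`
    have hidx : ((Subgroup.centralizer ({a * b * c} : Set G)).subgroupOf
        (Subgroup.normalizer (T : Set G))).index = 2 := by
      have e1 := Subgroup.index_mul_card ((Subgroup.centralizer ({a * b * c} : Set G)).subgroupOf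
        (Subgroup.normalizer (T : Set G)))
      have e2 : Nat.card ((Subgroup.centralizer ({a * b * c} : Set G)).subgroupOf
          (Subgroup.normalizer (T : Set G))) =
          Nat.card (Subgroup.centralizer ({a * b * c} : Set G)) :=
        Nat.card_congr (Subgroup.subgroupOfEquivOfLe hCN).toEquiv
      rw [e2, h1, h.cardN] at e1
      omega
    have hmul := Subgroup.mul_mem_iff_of_index_two hidx
      (a := (⟨u, h.hu⟩ : ↥(Subgroup.normalizer (T : Set G)))) (b := ⟨v, h.hv⟩)
    have hu' : (⟨u, h.hu⟩ : ↥(Subgroup.normalizer (T : Set G))) ∉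
        (Subgroup.centralizer ({a * b * c} : Set G)).subgroupOf
          (Subgroup.normalizer (T : Set G)) := by
      rw [Subgroup.mem_subgroupOf]
      exact u_not_mem h
    have hv' : (⟨v, h.hv⟩ : ↥(Subgroup.normalizer (T : Set G))) ∉
        (Subgroup.centralizer ({a * b * c} : Set G)).subgroupOf
          (Subgroup.normalizer (T : Set G)) := by
      rw [Subgroup.mem_subgroupOf]
      exact v_not_mem h
    have huv' := hmul.2 ⟨fun hx => absurd hx hu', fun hx => absurd hx hv'⟩
    rw [Subgroup.mem_subgroupOf] at huv'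
    exact uv_not_mem h huv'
  · exfalso
    have : Subgroup.centralizer ({a * b * c} : Set G) = Subgroup.normalizer (T : Set G) :=
      Subgroup.eq_of_le_of_card_ge hCN (by rw [h1, h.cardN])
    exact u_not_mem h (this ▸ h.hu)

omit [Finite G] in
theorem centralizer_inv (g : G) :
    Subgroup.centralizer ({g⁻¹} : Set G) = Subgroup.centralizer ({g} : Set G) := by
  ext n
  rw [mem_cent_singleton, mem_cent_singleton]
  constructor
  · intro hn
    have : n * g * n⁻¹ = (n * g⁻¹ * n⁻¹)⁻¹ := by group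
    rw [this, hn, inv_inv]
  · intro hn
    have : n * g⁻¹ * n⁻¹ = (n * g * n⁻¹)⁻¹ := by group
    rw [this, hn]

/-! ### CENT27 -/
theorem card_cent_z (h : Hyp G T a b c u v) :
    Nat.card (Subgroup.centralizer ({a * b * c} : Set G)) = 27 ∧
    Nat.card (Subgroup.centralizer ({(a * b * c)⁻¹} : Set G)) = 27 := by
  refine ⟨card_cent_z' h, ?_⟩
  rw [centralizer_inv]
  exact card_cent_z' h

end Cfsg.Agent.Lib.Helper60_H27_CENT27
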