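import Mathlib
import Cfsg.Prelude.Def_Characters
import Cfsg.Agent.Lib.Helper80_CharBasic
import Cfsg.Agent.Lib.Helper80_CharComplete
import Cfsg.Agent.Lib.Helper17_H27Defs
import Cfsg.Agent.Lib.Helper73_H9_EQS
import Cfsg.Agent.Lib.Helper60_H27_CENT27

/-!
# S3701 package EQ27 (architect helper17, market `h27_packages`): the class-algebra equation  (helper26)

`class_eq_aux` takes the counts (package CNT27) and the centralizer orders (package CENT27) as explicit hypotheses;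
`class_eq_of_counts` uses the landed `Helper60_H27_CENT27.card_cent_z` and only takes the counts.
-/

set_option autoImplicit false
set_option linter.unusedVariables false
open scoped ComplexConjugate

namespace Cfsg.Agent.Lib.Helper26_H27_EQ27

open Cfsg Cfsg.Agent.Lib.Helper80_CharBasic Cfsg.Agent.Lib.Helper17_H27Defs

variable {G : Type*} [Group G] [Finite G]

/-- the difference of two class-algebra constants (no hypothesis on the group) -/
theorem cm_sub (x y w : G) {n1 n2 : ℕ}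
    (hx : Nat.card (Subgroup.centralizer ({x} : Set G)) = 27)
    (hy : Nat.card (Subgroup.centralizer ({y} : Set G)) = 27)
    (h1 : Nat.card {p : G × G // IsConj x p.1 ∧ IsConj x p.2 ∧ p.1 * p.2 = w} = n1)
    (h2 : Nat.card {p : G × G // IsConj y p.1 ∧ IsConj x p.2 ∧ p.1 * p.2 = w} = n2) :
    (Nat.card G : ℂ) * ∑ᶠ χ : IrrCharacter G,
      ((χ : G → ℂ) x - (χ : G → ℂ) y) * (χ : G → ℂ) x *
        conj ((χ : G → ℂ) w) / (χ : G → ℂ) 1 = 729 * (n1 : ℂ) - 729 * (n2 : ℂ) := by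
  have e1 := Cfsg.Agent.Lib.Helper73_H9_EQS.cm_eq x x w hx hx
  have e2 := Cfsg.Agent.Lib.Helper73_H9_EQS.cm_eq y x w hy hx
  rw [h1] at e1
  rw [h2] at e2
  have hsplit : ∀ χ : IrrCharacter G,
      ((χ : G → ℂ) x - (χ : G → ℂ) y) * (χ : G → ℂ) x * conj ((χ : G → ℂ) w) / (χ : G → ℂ) 1 =
        (χ : G → ℂ) x * (χ : G → ℂ) x * conj ((χ : G → ℂ) w) / (χ : G → ℂ) 1 -
          (χ : G → ℂ) y * (χ : G → ℂ) x * conj ((χ : G → ℂ) w) / (χ : G → ℂ) 1 := by
    intro χ
    ring
  rw [finsum_congr hsplit, finsum_sub_distrib (Set.toFinite _) (Set.toFinite _), mul_sub, ← e1, ← e2]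
  push_cast
  ring

variable {T : Subgroup G} {a b c u v : G}

/-- the explicit hypotheses version: the counts and the centralizer orders as hypotheses -/
theorem class_eq_aux (h : Hyp G T a b c u v)
    (hcnt : Nat.card {p : G × G // IsConj (a * b * c) p.1 ∧ IsConj (a * b * c) p.2 ∧
        p.1 * p.2 = a * b} = 0 ∧
      Nat.card {p : G × G // IsConj (a * b * c)⁻¹ p.1 ∧ IsConj (a * b * c) p.2 ∧
        p.1 * p.2 = a * b} = 1)
    (hcent : Nat.card (Subgroup.centralizer ({a * b * c} : Set G)) = 27 ∧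
      Nat.card (Subgroup.centralizer ({(a * b * c)⁻¹} : Set G)) = 27) :
    (Nat.card G : ℂ) * ∑ᶠ χ : IrrCharacter G,
      ((χ : G → ℂ) (a * b * c) - (χ : G → ℂ) (a * b * c)⁻¹) * (χ : G → ℂ) (a * b * c) *
        conj ((χ : G → ℂ) (a * b)) / (χ : G → ℂ) 1 = -729 := by
  rw [cm_sub (a * b * c) (a * b * c)⁻¹ (a * b) hcent.1 hcent.2 hcnt.1 hcnt.2]
  norm_num

/-- `class_eq` from the counts only (the centralizer orders are the landed `Helper60_H27_CENT27.card_cent_z`) -/
theorem class_eq_of_counts (h : Hyp G T a b c u v)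
    (hcnt : Nat.card {p : G × G // IsConj (a * b * c) p.1 ∧ IsConj (a * b * c) p.2 ∧
        p.1 * p.2 = a * b} = 0 ∧
      Nat.card {p : G × G // IsConj (a * b * c)⁻¹ p.1 ∧ IsConj (a * b * c) p.2 ∧
        p.1 * p.2 = a * b} = 1) :
    (Nat.card G : ℂ) * ∑ᶠ χ : IrrCharacter G,
      ((χ : G → ℂ) (a * b * c) - (χ : G → ℂ) (a * b * c)⁻¹) * (χ : G → ℂ) (a * b * c) *
        conj ((χ : G → ℂ) (a * b)) / (χ : G → ℂ) 1 = -729 :=
  class_eq_aux h hcnt (Cfsg.Agent.Lib.Helper60_H27_CENT27.card_cent_z h)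

end Cfsg.Agent.Lib.Helper26_H27_EQ27
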