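import Mathlib
import Cfsg.Agent.Lib.Helper17_H27Defs
import Cfsg.Agent.Lib.Helper76_H648Defs

/-!
# S3702 package CNT (architect helper76, market `h648_packages`): the local class-multiplication counts (helper26)

`counts_aux` takes the statements of the packages STRUCT, L333 (`lemma333`), CLS-A (`rep_real`), CLS-C (`rep_nconj`)
and TAB (`tabJ`) as explicit hypotheses.
-/

set_option autoImplicit false

namespace Cfsg.Agent.Lib.Helper26_H648_CNT

open Cfsg Cfsg.Agent.Lib.Helper76_H648Defs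
open Cfsg.Agent.Lib.Helper17_H27Defs (elt)

variable {G : Type*} [Group G] {H J : Subgroup G} {a b c σ u v s : G}

/-- a conjugate of an element of cube one has cube one -/
theorem cube_of_conj {x p : G} (hx : x ^ 3 = 1) (hp : IsConj x p) : p ^ 3 = 1 := by
  obtain ⟨g, hg⟩ := isConj_iff.mp hp
  rw [← hg, conj_pow, hx, mul_one, mul_inv_cancel]

/-- conjugacy passes to inverses -/
theorem conj_inv' {x p : G} (hp : IsConj x p) : IsConj x⁻¹ p⁻¹ := by
  obtain ⟨g, hg⟩ := isConj_iff.mp hp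
  rw [isConj_iff]
  exact ⟨g, by rw [← hg, conj_inv]⟩

/-- rearranging a product of six pairwise commuting factors -/
theorem rearr {M : Type*} [Monoid M] (A B C A' B' C' : M) (h1 : B * A' = A' * B)
    (h2 : C * A' = A' * C) (h3 : C * B' = B' * C) :
    A * B * C * (A' * B' * C') = (A * A') * (B * B') * (C * C') := by
  calc A * B * C * (A' * B' * C') = A * B * ((C * A') * B') * C' := by simp only [mul_assoc]
    _ = A * B * ((A' * C) * B') * C' := by rw [h2]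
    _ = A * (B * A') * (C * B') * C' := by simp only [mul_assoc]
    _ = A * (A' * B) * (B' * C) * C' := by rw [h1, h3]
    _ = _ := by simp only [mul_assoc]

/-- powers by `ZMod 3`-values add, for an element of cube one -/
theorem pow_val_add {x : G} (hx : x ^ 3 = 1) (i j : ZMod 3) :
    x ^ (i + j).val = x ^ i.val * x ^ j.val := by
  rw [ZMod.val_add, ← pow_eq_pow_mod _ hx, pow_add]

theorem elt_mul_of (ha3 : a ^ 3 = 1) (hb3 : b ^ 3 = 1) (hc3 : c ^ 3 = 1) (cab : Commute a b)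
    (cac : Commute a c) (cbc : Commute b c) (e f : ZMod 3 × ZMod 3 × ZMod 3) :
    elt a b c e * elt a b c f = elt a b c (e + f) := by
  unfold elt
  rw [rearr _ _ _ _ _ _ ((cab.pow_pow _ _).symm.eq) ((cac.pow_pow _ _).symm.eq)
    ((cbc.pow_pow _ _).symm.eq)]
  show _ = a ^ (e.1 + f.1).val * b ^ (e.2.1 + f.2.1).val * c ^ (e.2.2 + f.2.2).val
  rw [pow_val_add ha3, pow_val_add hb3, pow_val_add hc3]

theorem wt_cases : ∀ e : ZMod 3 × ZMod 3 × ZMod 3, e ≠ 0 → wt e = 1 ∨ wt e = 2 ∨ wt e = 3 := by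
  decide

theorem wt_zero : wt (0 : ZMod 3 × ZMod 3 × ZMod 3) = 0 := by decide

/-- the explicit hypotheses version: the statements of STRUCT (three clauses), L333, CLS-C, CLS-A, TAB as hypotheses -/
theorem counts_aux (h : Hyp G H J a b c σ u v s)
    (hcomm : ∀ x ∈ J, ∀ y ∈ J, x * y = y * x) (hcube : ∀ x ∈ J, x ^ 3 = 1)
    (hinj : Function.Injective (elt a b c))
    (h333 : ∀ {p q : G}, p ^ 3 = 1 → q ^ 3 = 1 → p * q ∈ J → p * q ≠ 1 →
      ¬ IsConj (p * q) (a * b * c) → (p ∈ H ∧ q ∈ H) ∨ (IsConj p q ∧ IsConj (p * q) p⁻¹))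
    (hnconj : ∀ i k : Fin 9, i ≠ k → ¬ IsConj (rep9 a b c σ u v s i) (rep9 a b c σ u v s k))
    (hreal : ∀ i : Fin 9, IsConj (rep9 a b c σ u v s i) (rep9 a b c σ u v s i)⁻¹)
    (htabJ : ∀ e : ZMod 3 × ZMod 3 × ZMod 3, e ≠ 0 → IsConj (elt a b c e) (repW a b c (wt e)))
    (w1 w2 w3 : ℕ) (h1 : w1 = 1 ∨ w1 = 2 ∨ w1 = 3)
    (h2 : w2 = 1 ∨ w2 = 2 ∨ w2 = 3) (h3 : w3 = 1 ∨ w3 = 2) (hne : ¬ (w1 = w2 ∧ w2 = w3)) :
    Nat.card {p : G × G // IsConj (repW a b c w1) p.1 ∧ IsConj (repW a b c w2) p.2 ∧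
      p.1 * p.2 = repW a b c w3} =
    Nat.card {p : (ZMod 3 × ZMod 3 × ZMod 3) × (ZMod 3 × ZMod 3 × ZMod 3) //
      wt p.1 = w1 ∧ wt p.2 = w2 ∧ p.1 + p.2 = vecW w3} := by
  classical
  have v0 : (0 : ZMod 3).val = 0 := rfl
  have v1 : (1 : ZMod 3).val = 1 := rfl
  have hmemJ : ∀ e, elt a b c e ∈ J := fun e => (h.memJ _).2 ⟨e, rfl⟩
  have e100 : elt a b c (1, 0, 0) = a := by
    show a ^ (1 : ZMod 3).val * b ^ (0 : ZMod 3).val * c ^ (0 : ZMod 3).val = _
    rw [v1, v0, pow_one, pow_zero, pow_zero, mul_one, mul_one]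
  have e010 : elt a b c (0, 1, 0) = b := by
    show a ^ (0 : ZMod 3).val * b ^ (1 : ZMod 3).val * c ^ (0 : ZMod 3).val = _
    rw [v1, v0, pow_one, pow_zero, pow_zero, mul_one, one_mul]
  have e001 : elt a b c (0, 0, 1) = c := by
    show a ^ (0 : ZMod 3).val * b ^ (0 : ZMod 3).val * c ^ (1 : ZMod 3).val = _
    rw [v1, v0, pow_one, pow_zero, pow_zero, one_mul, one_mul]
  have e110 : elt a b c (1, 1, 0) = a * b := by
    show a ^ (1 : ZMod 3).val * b ^ (1 : ZMod 3).val * c ^ (0 : ZMod 3).val = _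
    rw [v1, v0, pow_one, pow_one, pow_zero, mul_one]
  have e111 : elt a b c (1, 1, 1) = a * b * c := by
    show a ^ (1 : ZMod 3).val * b ^ (1 : ZMod 3).val * c ^ (1 : ZMod 3).val = _
    rw [v1, pow_one, pow_one, pow_one]
  have e000 : elt a b c 0 = 1 := by
    show a ^ (0 : ZMod 3).val * b ^ (0 : ZMod 3).val * c ^ (0 : ZMod 3).val = _
    rw [v0, pow_zero, pow_zero, pow_zero, mul_one, mul_one]
  have haJ : a ∈ J := by rw [← e100]; exact hmemJ _
  have hbJ : b ∈ J := by rw [← e010]; exact hmemJ _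
  have hcJ : c ∈ J := by rw [← e001]; exact hmemJ _
  have hmul : ∀ e f, elt a b c e * elt a b c f = elt a b c (e + f) :=
    elt_mul_of (hcube a haJ) (hcube b hbJ) (hcube c hcJ) (hcomm a haJ b hbJ) (hcomm a haJ c hcJ)
      (hcomm b hbJ c hcJ)
  -- the representatives
  have hrepvec : ∀ w, w = 1 ∨ w = 2 ∨ w = 3 → repW a b c w = elt a b c (vecW w) := by
    rintro w (rfl | rfl | rfl)
    · exact e001.symm
    · exact e110.symm
    · exact e111.symm
  have hvec0 : ∀ w, w = 1 ∨ w = 2 ∨ w = 3 → vecW w ≠ 0 := by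
    rintro w (rfl | rfl | rfl) <;> decide
  have hrepJ : ∀ w, w = 1 ∨ w = 2 ∨ w = 3 → repW a b c w ∈ J := fun w hw => by
    rw [hrepvec w hw]; exact hmemJ _
  have hrep1 : ∀ w, w = 1 ∨ w = 2 ∨ w = 3 → repW a b c w ≠ 1 := fun w hw => by
    rw [hrepvec w hw, ← e000]
    exact fun e => hvec0 w hw (hinj e)
  have r0 : rep9 a b c σ u v s 0 = c := rfl
  have r7 : rep9 a b c σ u v s 7 = a * b := rfl
  have r8 : rep9 a b c σ u v s 8 = a * b * c := rfl
  have hnc12 : ¬ IsConj c (a * b) := by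
    have := hnconj 0 7 (by decide); rwa [r0, r7] at this
  have hnc13 : ¬ IsConj c (a * b * c) := by
    have := hnconj 0 8 (by decide); rwa [r0, r8] at this
  have hnc23 : ¬ IsConj (a * b) (a * b * c) := by
    have := hnconj 7 8 (by decide); rwa [r7, r8] at this
  have hrepnc : ∀ w w', (w = 1 ∨ w = 2 ∨ w = 3) → (w' = 1 ∨ w' = 2 ∨ w' = 3) →
      IsConj (repW a b c w) (repW a b c w') → w = w' := by
    rintro w w' (rfl | rfl | rfl) (rfl | rfl | rfl) hc
    · rfl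
    · exact absurd hc hnc12
    · exact absurd hc hnc13
    · exact absurd hc.symm hnc12
    · rfl
    · exact absurd hc hnc23
    · exact absurd hc.symm hnc13
    · exact absurd hc.symm hnc23
    · rfl
  have hrepreal : ∀ w, w = 1 ∨ w = 2 ∨ w = 3 → IsConj (repW a b c w) (repW a b c w)⁻¹ := by
    rintro w (rfl | rfl | rfl)
    · have := hreal 0; rwa [r0] at this
    · have := hreal 7; rwa [r7] at this
    · have := hreal 8; rwa [r8] at this
  have h3' : w3 = 1 ∨ w3 = 2 ∨ w3 = 3 := by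
    rcases h3 with e | e
    · exact Or.inl e
    · exact Or.inr (Or.inl e)
  have hw3nc : ¬ IsConj (repW a b c w3) (a * b * c) := by
    intro hc
    have : w3 = 3 := hrepnc w3 3 h3' (Or.inr (Or.inr rfl)) hc
    rcases h3 with e | e <;> omega
  -- conjugates of the representatives lying in `H` are in `J`
  have hconjJ : ∀ w, (w = 1 ∨ w = 2 ∨ w = 3) → ∀ p, IsConj (repW a b c w) p → p ∈ H →
      ∃ e, wt e = w ∧ p = elt a b c e := by
    intro w hw p hp hpH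
    obtain ⟨g, hg⟩ := isConj_iff.mp hp
    have hpJ : p ∈ J := by
      have := h.sc (repW a b c w) (hrepJ w hw) g (by rw [hg]; exact hpH)
      rwa [hg] at this
    obtain ⟨e, rfl⟩ := (h.memJ p).1 hpJ
    have he0 : e ≠ 0 := by
      rintro rfl
      rw [e000] at hp
      have : repW a b c w = 1 := by
        obtain ⟨g, hg⟩ := isConj_iff.mp hp.symm
        rw [← hg]; group
      exact hrep1 w hw this
    refine ⟨e, ?_, rfl⟩
    exact hrepnc _ _ (wt_cases e he0) hw ((htabJ e he0).symm.trans hp.symm)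
  -- the bijection
  symm
  refine Nat.card_eq_of_bijective (fun x => ⟨(elt a b c x.1.1, elt a b c x.1.2), ?_, ?_, ?_⟩) ⟨?_, ?_⟩
  · obtain ⟨⟨e, f⟩, he, hf, hef⟩ := x
    simp only at he hf hef ⊢
    have he0 : e ≠ 0 := by
      rintro rfl
      rw [wt_zero] at he
      rcases h1 with e | e | e <;> omega
    have := (htabJ e he0).symm
    rwa [he] at this
  · obtain ⟨⟨e, f⟩, he, hf, hef⟩ := x
    simp only at he hf hef ⊢
    have hf0 : f ≠ 0 := by
      rintro rfl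
      rw [wt_zero] at hf
      rcases h2 with e | e | e <;> omega
    have := (htabJ f hf0).symm
    rwa [hf] at this
  · obtain ⟨⟨e, f⟩, he, hf, hef⟩ := x
    simp only at he hf hef ⊢
    rw [hmul, hef, hrepvec w3 h3']
  · rintro ⟨⟨e, f⟩, he, hf, hef⟩ ⟨⟨e', f'⟩, he', hf', hef'⟩ hxy
    simp only [Subtype.mk.injEq, Prod.mk.injEq] at hxy ⊢
    exact ⟨hinj hxy.1, hinj hxy.2⟩
  · rintro ⟨⟨p, q⟩, hp, hq, hpq⟩
    simp only at hp hq hpq
    have hp3 : p ^ 3 = 1 := cube_of_conj (hcube _ (hrepJ w1 h1)) hp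
    have hq3 : q ^ 3 = 1 := cube_of_conj (hcube _ (hrepJ w2 h2)) hq
    have hpqJ : p * q ∈ J := by rw [hpq]; exact hrepJ w3 h3'
    have hpq1 : p * q ≠ 1 := by rw [hpq]; exact hrep1 w3 h3'
    have hpqnc : ¬ IsConj (p * q) (a * b * c) := by rw [hpq]; exact hw3nc
    rcases h333 hp3 hq3 hpqJ hpq1 hpqnc with ⟨hpH, hqH⟩ | ⟨hc1, hc2⟩
    · obtain ⟨e, he, rfl⟩ := hconjJ w1 h1 p hp hpH
      obtain ⟨f, hf, rfl⟩ := hconjJ w2 h2 q hq hqH
      refine ⟨⟨(e, f), he, hf, ?_⟩, rfl⟩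
      rw [hmul, hrepvec w3 h3'] at hpq
      exact hinj hpq
    · exfalso
      have e12 : w1 = w2 := hrepnc w1 w2 h1 h2 (hp.trans (hc1.trans hq.symm))
      have e31 : w3 = w1 := by
        refine hrepnc w3 w1 h3' h1 ?_
        rw [← hpq]
        exact hc2.trans ((conj_inv' hp).symm.trans (hrepreal w1 h1).symm)
      exact hne ⟨e12, by omega⟩

/-- the same with the conclusion of package STRUCT as one hypothesis: the final `counts` is
`counts_aux' h (struct h) (fun hp hq hpq hpq1 hw => lemma333 h hp hq hpq hpq1 hw) (rep_nconj h) (rep_real h) (tabJ h)` -/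
theorem counts_aux' (h : Hyp G H J a b c σ u v s)
    (hstruct : Nat.card H = 648 ∧ Nat.card J = 27 ∧ J ≤ H ∧
      (∀ x ∈ J, ∀ y ∈ J, x * y = y * x) ∧ (∀ x ∈ J, x ^ 3 = 1) ∧
      (∀ k ∈ H, ∀ x ∈ J, k * x * k⁻¹ ∈ J) ∧
      Function.Injective (elt a b c) ∧
      (∀ k : G, k ∈ H ↔ ∃ (e : ZMod 3 × ZMod 3 × ZMod 3) (i : Fin 24), k = elt a b c e * Wfun σ u v i))
    (h333 : ∀ {p q : G}, p ^ 3 = 1 → q ^ 3 = 1 → p * q ∈ J → p * q ≠ 1 →
      ¬ IsConj (p * q) (a * b * c) → (p ∈ H ∧ q ∈ H) ∨ (IsConj p q ∧ IsConj (p * q) p⁻¹))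
    (hnconj : ∀ i k : Fin 9, i ≠ k → ¬ IsConj (rep9 a b c σ u v s i) (rep9 a b c σ u v s k))
    (hreal : ∀ i : Fin 9, IsConj (rep9 a b c σ u v s i) (rep9 a b c σ u v s i)⁻¹)
    (htabJ : ∀ e : ZMod 3 × ZMod 3 × ZMod 3, e ≠ 0 → IsConj (elt a b c e) (repW a b c (wt e)))
    (w1 w2 w3 : ℕ) (h1 : w1 = 1 ∨ w1 = 2 ∨ w1 = 3)
    (h2 : w2 = 1 ∨ w2 = 2 ∨ w2 = 3) (h3 : w3 = 1 ∨ w3 = 2) (hne : ¬ (w1 = w2 ∧ w2 = w3)) :
    Nat.card {p : G × G // IsConj (repW a b c w1) p.1 ∧ IsConj (repW a b c w2) p.2 ∧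
      p.1 * p.2 = repW a b c w3} =
    Nat.card {p : (ZMod 3 × ZMod 3 × ZMod 3) × (ZMod 3 × ZMod 3 × ZMod 3) //
      wt p.1 = w1 ∧ wt p.2 = w2 ∧ p.1 + p.2 = vecW w3} :=
  counts_aux h hstruct.2.2.2.1 hstruct.2.2.2.2.1 hstruct.2.2.2.2.2.2.1 h333 hnconj hreal htabJ
    w1 w2 w3 h1 h2 h3 hne

end Cfsg.Agent.Lib.Helper26_H648_CNT
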