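import Mathlib
import Cfsg.Agent.Lib.Helper26_VecConfig
import Cfsg.Agent.S5546

/-!
Enumeration of a configuration by its orbit table, and elements of `Co0` given by words:
an element of `Co0` is determined by the images of the vectors `8 e_i`.
-/

set_option autoImplicit false
open Cfsg

namespace Cfsg.Agent.Lib.Helper26_VecCode

open Cfsg.Agent.Lib.Helper26_Golay Cfsg.Agent.Lib.Helper26_Leech

/-- Under the hypotheses of `orbit_complete`, the table lists all of `X`. -/
theorem orbit_enum (F : Set leechLattice) (X : Set (GolayPt → ℤ))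
    (hXinv : ∀ x y, RelF F x y → x ∈ X → y ∈ X)
    (tAt : ℕ → ℕ) (hlt : ∀ j, tAt j < 2 ^ 120) (n : ℕ)
    (hinc : allFold (fun j => decide (tAt j < tAt (j + 1))) (n - 1) = true)
    (hroot : vecC (tAt 0) ∈ X)
    (hrel : ∀ j < n, RelF F (vecC (tAt 0)) (vecC (tAt j)))
    (hfin : X.Finite) (hcard : X.ncard = n) :
    ∀ x ∈ X, ∃ j < n, x = vecC (tAt j) := by
  set S : Set (GolayPt → ℤ) := (fun j => vecC (tAt j)) '' (Finset.range n : Set ℕ) with hS
  have hsub : S ⊆ X := by
    rintro _ ⟨j, hj, rfl⟩
    rw [Finset.mem_coe, Finset.mem_range] at hj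
    exact hXinv _ _ (hrel j hj) hroot
  have hnd := nodup_map_of_increasing tAt n hinc
  have hinj : Set.InjOn (fun j => vecC (tAt j)) (Finset.range n : Set ℕ) := by
    intro i hi j hj hij
    rw [Finset.mem_coe, Finset.mem_range] at hi hj
    have e := code_eq_of_vecC_eq (hlt i) (hlt j) hij
    exact List.inj_on_of_nodup_map hnd (List.mem_range.mpr hi) (List.mem_range.mpr hj) e
  have hSc : S.ncard = n := by
    rw [hS, Set.InjOn.ncard_image hinj, Set.ncard_coe_finset, Finset.card_range]
  have hSX : S = X := Set.eq_of_subset_of_ncard_le hsub (by rw [hcard, hSc]) hfin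
  intro x hx
  rw [← hSX] at hx
  obtain ⟨j, hj, rfl⟩ := hx
  rw [Finset.mem_coe, Finset.mem_range] at hj
  exact ⟨j, hj, rfl⟩

/-- The configuration is listed by its table. -/
theorem config_enum (cons : List Con) (hOK : consOK cons = true)
    (hBL : ∀ c ∈ cons, vecC c.a ∈ leechLattice)
    (hBlt : (baseOf cons).all (fun b => Nat.blt b FAIL) = true)
    (gens : List (List Move)) (hgood : gens.all goodW = true)
    (hfix : gens.all (fixesW (baseOf cons)) = true)
    (tAt : ℕ → ℕ) (hlt : ∀ j, tAt j < 2 ^ 120) (P G D R n : ℕ)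
    (hforest : forestCheck (stepW gens) tAt P G D R n = true)
    (hroots : allFold (fun j => get16 R j == 0) n = true)
    (hinc : allFold (fun j => decide (tAt j < tAt (j + 1))) (n - 1) = true)
    (hroot : rootOK cons (tAt 0) = true) (hrootL : vecC (tAt 0) ∈ leechLattice)
    (hcount : cntA cons + cntB cons 0 759 + cntO cons 0 24 = n) :
    ∀ x ∈ minSet cons, ∃ j < n, x = vecC (tAt j) := by
  have hcard : (minSet cons).ncard = n := by rw [minSet_ncard cons hOK, hcount]
  have hf := forest_vec (baseOf cons) hBlt gens hgood hfix tAt P G D R n hforest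
  rw [allFold_eq_true] at hroots
  have hrel : ∀ j < n, RelF (baseSet (baseOf cons)) (vecC (tAt 0)) (vecC (tAt j)) := by
    intro j hj
    have h0 := hroots j hj
    rw [beq_iff_eq] at h0
    have := (hf j hj).2.2
    rw [h0] at this
    exact this hrootL
  exact orbit_enum (baseSet (baseOf cons)) (minSet cons) (minSet_inv cons hBL) tAt hlt n hinc
    (rootOK_spec cons _ hroot hrootL) hrel (minSet_finite cons) hcard

/-! ### elements of `Co0` are determined by the images of the `8 e_i` -/

open Cfsg.Agent.S5546 (e8 vec8 eight_smul_map eight_smul_eq)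

theorem co0_eq_one (g : Equiv.Perm leechLattice) (hg : g ∈ Co0) (h : ∀ i, g (e8 i) = e8 i) :
    g = 1 := by
  apply Equiv.ext
  intro v
  have h1 := eight_smul_map g hg v
  have h2 := eight_smul_eq v
  simp only [h] at h1
  rw [← h2] at h1
  show g v = v
  apply Subtype.ext
  funext k
  have h3 := congrArg (fun w : leechLattice => w.1 k) h1
  simp only [AddSubgroup.coe_zsmul, Pi.smul_apply, smul_eq_mul] at h3
  omega

/-- The code of `8 e_i`. -/
def code8 (i : ℕ) : ℕ := mkRaw (fun j => cond (Nat.beq j i) 24 16)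

theorem vecC_code8 (i : GolayPt) : vecC (code8 (idx i)) = vec8 i := by
  funext p
  unfold code8
  rw [vecC_mkRaw _ (fun j _ => by cases Nat.beq j (idx i) <;> decide)]
  unfold vec8
  by_cases hp : p = i
  · subst hp
    rw [if_pos rfl, Nat.beq_refl]
    rfl
  · rw [if_neg hp]
    have : Nat.beq (idx p) (idx i) = false := by
      rw [← Bool.not_eq_true]
      intro hb
      exact hp (idx_injective (Nat.eq_of_beq_eq_true hb))
    rw [this]
    rfl

/-- The word `w` squares to the identity on the codes of the `8 e_i`. -/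
def sqOK (w : List Move) : Bool :=
  allFold (fun i => force (runW w (code8 i)) (fun c1 =>
    Nat.blt c1 FAIL && Nat.beq (runW w c1) (code8 i))) 24

/-- An element of `Co0` acting by the word `w` is an involution or the identity, if `sqOK w`. -/
theorem sq_eq_one (w : List Move) (g : Equiv.Perm leechLattice) (hg : g ∈ Co0)
    (hgw : ∀ c, okW w c = true → ∀ hx : vecC c ∈ leechLattice,
      ((g ⟨vecC c, hx⟩ : leechLattice) : GolayPt → ℤ) = vecC (applyW w c))
    (h : sqOK w = true) : g * g = 1 := by
  apply co0_eq_one (g * g) (Co0.mul_mem hg hg)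
  intro i
  unfold sqOK at h
  rw [allFold_eq_true] at h
  have hi := h (idx i) (idx_lt i)
  rw [force_eq, Bool.and_eq_true] at hi
  have hc1 : runW w (code8 (idx i)) < 2 ^ 120 := by
    rw [← FAIL_eq]; exact Nat.blt_eq.mp hi.1
  obtain ⟨ok1, ap1⟩ := runW_spec w _ _ rfl hc1
  have hlt8 : code8 (idx i) < 2 ^ 120 := mkRaw_lt _
  obtain ⟨ok2, ap2⟩ := runW_spec w _ _ (Nat.eq_of_beq_eq_true hi.2) hlt8
  have hmem : vecC (code8 (idx i)) ∈ leechLattice := by
    rw [vecC_code8]; exact (e8 i).2
  have e0 : e8 i = ⟨vecC (code8 (idx i)), hmem⟩ := Subtype.ext (vecC_code8 i).symm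
  have e1 := hgw _ ok1 hmem
  rw [ap1] at e1
  have hmem1 : vecC (runW w (code8 (idx i))) ∈ leechLattice := by
    rw [← e1]; exact (g _).2
  have e1' : g ⟨vecC (code8 (idx i)), hmem⟩ = ⟨vecC (runW w (code8 (idx i))), hmem1⟩ :=
    Subtype.ext e1
  have e2 := hgw _ ok2 hmem1
  rw [ap2] at e2
  rw [Equiv.Perm.mul_apply, e0, e1']
  exact Subtype.ext e2

end Cfsg.Agent.Lib.Helper26_VecCode
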