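import Mathlib
import Cfsg.Agent.Lib.Helper26_VecEnum
import Cfsg.Agent.Lib.Helper26_CfgHS100

/-! A fixed-point-free involution on the hundred points of the configuration `HS100`, as a word
(generated data and kernel checks). -/

set_option autoImplicit false
open Cfsg

namespace Cfsg.Agent.Lib.Helper26_HSInvol

open Cfsg.Agent.Lib.Helper26_VecCode Cfsg.Agent.Lib.Helper26_Golay Cfsg.Agent.Lib.Helper26_CfgHS100

/-- The word. -/
def wInv : List Move := [Move.perm 688290167104081033006921578615998913 675826553866819435499573845231339530, Move.flip 7247088, Move.perm 984292041855568568726764610035787854 984758300774404439677064982155429382, Move.flip 2269481, Move.xi, Move.perm 608116171644592507646705202559788784 51139927138908146437580922707725764, Move.flip 8009297, Move.xi, Move.perm 982992311624445335124364815427451204 978368234044340075788207430582970512, Move.flip 237906, Move.perm 688290167104081033006921578615998913 675826553866819435499573845231339530, Move.flip 7247088, Move.perm 984292041855568568726764610035787854 984758300774404439677064982155429382, Move.flip 2269481, Move.xi, Move.perm 608116171644592507646705202559788784 51139927138908146437580922707725764,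 Move.flip 8009297, Move.xi, Move.perm 982992311624445335124364815427451204 978368234044340075788207430582970512, Move.flip 237906, Move.perm 688290167104081033006921578615998913 675826553866819435499573845231339530, Move.flip 7247088, Move.perm 984292041855568568726764610035787854 984758300774404439677064982155429382, Move.flip 2269481, Move.xi, Move.perm 608116171644592507646705202559788784 51139927138908146437580922707725764, Move.flip 8009297, Move.xi, Move.perm 982992311624445335124364815427451204 978368234044340075788207430582970512, Move.flip 237906, Move.perm 688290167104081033006921578615998913 675826553866819435499573845231339530, Move.flip 7247088, Move.perm 984292041855568568726764610035787854 984758300774404439677064982155429382, Move.flip 2269481, Move.xi, Move.perm 608116171644592507646705202559788784 51139927138908146437580922707725764, Move.flip 8009297, Move.xi, Move.perm 982992311624445335124364815427451204 978368234044340075788207430582970512, Move.flip 237906, Move.perm 688290167104081033006921578615998913 675826553866819435499573845231339530, Move.flip 7247088, Move.perm 984292041855568568726764610035787854 984758300774404439677064982155429382,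 Move.flip 2269481, Move.xi, Move.perm 608116171644592507646705202559788784 51139927138908146437580922707725764, Move.flip 8009297, Move.xi, Move.perm 982992311624445335124364815427451204 978368234044340075788207430582970512, Move.flip 237906]

theorem wInv_good : goodW wInv = true := by decide +kernel
theorem wInv_fix : fixesW (baseOf consL) wInv = true := by decide +kernel
theorem wInv_sq : sqOK wInv = true := by decide +kernel

/-- The word moves every entry of the table. -/
def fpfOK : Bool :=
  allFold (fun j => force (tAtL tblTL 1024 j) (fun c => force (runW wInv c) (fun c' =>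
    Nat.blt c' FAIL && !(Nat.beq c' c)))) 100

theorem wInv_fpf : fpfOK = true := by decide +kernel

/-- The standard involution. -/
theorem std_invol : ∃ g : Equiv.Perm leechLattice, g ∈ Co0 ∧
    (∀ hm : vecC con1.a ∈ leechLattice, g ⟨vecC con1.a, hm⟩ = ⟨vecC con1.a, hm⟩) ∧
    (∀ hm : vecC con2.a ∈ leechLattice, g ⟨vecC con2.a, hm⟩ = ⟨vecC con2.a, hm⟩) ∧
    g * g = 1 ∧ ∀ y : leechLattice, (y : GolayPt → ℤ) ∈ minSet consL → g y ≠ y := by
  obtain ⟨g, hg, hgw⟩ := exists_elem_word wInv wInv_good
  have hfix := fixesW_spec (baseOf consL) wInv wInv_fix
  refine ⟨g, hg, ?_, ?_, sq_eq_one wInv g hg hgw wInv_sq, ?_⟩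
  · intro hm
    have := hfix con1.a (by unfold baseOf consL; simp)
    apply Subtype.ext
    rw [hgw _ this.1 hm, this.2]
  · intro hm
    have := hfix con2.a (by unfold baseOf consL; simp)
    apply Subtype.ext
    rw [hgw _ this.1 hm, this.2]
  · intro y hy hgy
    obtain ⟨j, hj, e⟩ := config_enum consL cons_ok base_mem base_lt gensL gens_good gens_fix
      (tAtL tblTL 1024) (tAtL_lt tblTL 1024) tblP tblG tblD tblR 100 forest_ok roots_ok inc_ok
      root_ok root_mem count_ok _ hy
    have hf := wInv_fpf
    unfold fpfOK at hf
    rw [allFold_eq_true] at hf
    have hj' := hf j hj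
    rw [force_eq, force_eq, Bool.and_eq_true] at hj'
    have hlt : runW wInv (tAtL tblTL 1024 j) < 2 ^ 120 := by
      rw [← FAIL_eq]; exact Nat.blt_eq.mp hj'.1
    obtain ⟨ok, ap⟩ := runW_spec wInv _ _ rfl hlt
    have hm : vecC (tAtL tblTL 1024 j) ∈ leechLattice := by rw [← e]; exact y.2
    have e1 := hgw _ ok hm
    have e2 : y = ⟨vecC (tAtL tblTL 1024 j), hm⟩ := Subtype.ext e
    rw [e2] at hgy
    have e3 := congrArg Subtype.val hgy
    rw [e1, ap] at e3
    have e4 := code_eq_of_vecC_eq hlt (tAtL_lt tblTL 1024 j) e3
    rw [e4, Nat.beq_refl] at hj'
    exact absurd hj'.2 (by decide)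

end Cfsg.Agent.Lib.Helper26_HSInvol
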