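import Mathlib
import Cfsg.Agent.S1640
import Cfsg.Agent.S0401
import Cfsg.Agent.Lib.Helper26_CfgHS100

/-!
`Co0` is transitive on the ordered pairs of norm 48 vectors with inner product `-32`; the standard
pair of the configuration `HS100`.
-/

set_option autoImplicit false
open Cfsg

namespace Cfsg.Agent.Lib.Helper26_HSPair

open Cfsg.Agent.Lib.Helper26_VecCode Cfsg.Agent.Lib.Helper26_CfgHS100

theorem dot_neg_add (a b c : GolayPt → ℤ) :
    dotInt a (-(b + c)) = -(dotInt a b + dotInt a c) := by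
  unfold dotInt
  rw [← Finset.sum_add_distrib, ← Finset.sum_neg_distrib]
  apply Finset.sum_congr rfl
  intro i _
  simp only [Pi.neg_apply, Pi.add_apply]
  ring

theorem norm_neg_add (b c : GolayPt → ℤ) :
    sqNorm (-(b + c)) = sqNorm b + 2 * dotInt b c + sqNorm c := by
  unfold sqNorm dotInt
  rw [Finset.mul_sum, ← Finset.sum_add_distrib, ← Finset.sum_add_distrib]
  apply Finset.sum_congr rfl
  intro i _
  simp only [Pi.neg_apply, Pi.add_apply]
  ring

theorem dot_self (a : GolayPt → ℤ) : dotInt a a = sqNorm a := by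
  unfold dotInt sqNorm
  apply Finset.sum_congr rfl
  intro i _
  ring

theorem dot_comm (a b : GolayPt → ℤ) : dotInt a b = dotInt b a := by
  unfold dotInt
  apply Finset.sum_congr rfl
  intro i _
  ring

theorem co0_neg (g : Equiv.Perm leechLattice) (hg : g ∈ Co0) (a : leechLattice) :
    g (-a) = -(g a) := by
  have h0 : g 0 = 0 := by
    have := hg.1 0 0
    rw [add_zero] at this
    exact left_eq_add.mp this
  have := hg.1 (-a) a
  rw [neg_add_cancel, h0] at this
  exact eq_neg_of_add_eq_zero_left this.symm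

/-- `Co0` is transitive on the ordered pairs of norm 48 vectors with inner product `-32`. -/
theorem pair_trans (v w v' w' : leechLattice)
    (hv : sqNorm (v : GolayPt → ℤ) = 48) (hw : sqNorm (w : GolayPt → ℤ) = 48)
    (hvw : dotInt (v : GolayPt → ℤ) (w : GolayPt → ℤ) = -32)
    (hv' : sqNorm (v' : GolayPt → ℤ) = 48) (hw' : sqNorm (w' : GolayPt → ℤ) = 48)
    (hvw' : dotInt (v' : GolayPt → ℤ) (w' : GolayPt → ℤ) = -32) :
    ∃ h : Co0, h.1 v = v' ∧ h.1 w = w' := by
  set x : leechLattice := -(v + w) with hx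
  set x' : leechLattice := -(v' + w') with hx'
  have hxc : (x : GolayPt → ℤ) = -((v : GolayPt → ℤ) + (w : GolayPt → ℤ)) := rfl
  have hxc' : (x' : GolayPt → ℤ) = -((v' : GolayPt → ℤ) + (w' : GolayPt → ℤ)) := rfl
  have hxn : sqNorm (x : GolayPt → ℤ) = 32 := by
    rw [hxc, norm_neg_add, hv, hw, hvw]; norm_num
  have hxn' : sqNorm (x' : GolayPt → ℤ) = 32 := by
    rw [hxc', norm_neg_add, hv', hw', hvw']; norm_num
  have hvx : dotInt (v : GolayPt → ℤ) (x : GolayPt → ℤ) = -16 := by
    rw [hxc, dot_neg_add, dot_self, hv, hvw]; norm_num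
  have hvx' : dotInt (v' : GolayPt → ℤ) (x' : GolayPt → ℤ) = -16 := by
    rw [hxc', dot_neg_add, dot_self, hv', hvw']; norm_num
  obtain ⟨h, hh⟩ := Cfsg.Agent.S0401.result v v' hv hv'
  have hh' : h.1 v = v' := hh
  have hhx : dotInt (v' : GolayPt → ℤ) ((h.1 x : leechLattice) : GolayPt → ℤ) = -16 := by
    have := Cfsg.Agent.Lib.Helper26_Leech.dotInt_co0 h.1 h.2 v x
    rw [hh'] at this
    rw [this]; exact hvx
  have hhxn : sqNorm ((h.1 x : leechLattice) : GolayPt → ℤ) = 32 := by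
    rw [h.2.2 x]; exact hxn
  obtain ⟨g, hg1, hg2⟩ := (Cfsg.Agent.S1640.result v' hv').2 (h.1 x) ⟨hhxn, hhx⟩ x' ⟨hxn', hvx'⟩
  have hg1' : g.1 v' = v' := hg1
  have hg2' : g.1 (h.1 x) = x' := hg2
  refine ⟨g * h, ?_, ?_⟩
  · show g.1 (h.1 v) = v'
    rw [hh', hg1']
  · show g.1 (h.1 w) = w'
    have e : w = -(v + x) := by
      rw [hx]; abel
    have e1 : h.1 w = -(h.1 v + h.1 x) := by
      rw [e, co0_neg h.1 h.2, h.2.1]
    rw [e1, co0_neg g.1 g.2, g.2.1, hh', hg1', hg2', hx']
    abel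

/-- The first standard vector. -/
def vL : leechLattice := ⟨vecC con1.a, mem1⟩
/-- The second standard vector. -/
def wL : leechLattice := ⟨vecC con2.a, mem2⟩

theorem vL_norm : sqNorm (vL : GolayPt → ℤ) = 48 := by
  show sqNorm (vecC con1.a) = 48
  rw [sqNorm_vecC]
  decide +kernel

theorem wL_norm : sqNorm (wL : GolayPt → ℤ) = 48 := by
  show sqNorm (vecC con2.a) = 48
  rw [sqNorm_vecC]
  decide +kernel

theorem vwL_dot : dotInt (vL : GolayPt → ℤ) (wL : GolayPt → ℤ) = -32 := by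
  show dotInt (vecC con1.a) (vecC con2.a) = -32
  rw [dotInt_vecC]
  decide +kernel

theorem con1_k : con1.k = 24 := by decide +kernel
theorem con2_k : con2.k = -24 := by decide +kernel

/-- Every pair is conjugate to the standard pair. -/
theorem to_std (v w : leechLattice)
    (hv : sqNorm (v : GolayPt → ℤ) = 48) (hw : sqNorm (w : GolayPt → ℤ) = 48)
    (hvw : dotInt (v : GolayPt → ℤ) (w : GolayPt → ℤ) = -32) :
    ∃ h : Co0, ((h.1 v : leechLattice) : GolayPt → ℤ) = vecC con1.a ∧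
      ((h.1 w : leechLattice) : GolayPt → ℤ) = vecC con2.a := by
  obtain ⟨h, h1, h2⟩ := pair_trans v w vL wL hv hw hvw vL_norm wL_norm vwL_dot
  exact ⟨h, by rw [h1]; rfl, by rw [h2]; rfl⟩

end Cfsg.Agent.Lib.Helper26_HSPair
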