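import Mathlib
import Cfsg.Agent.S1583
import Cfsg.Agent.Lib.Helper26_CfgHS22
import Cfsg.Agent.Lib.Helper26_CfgHS77

/-!
Triples `(v, w, x)`: a pair of norm 48 vectors with inner product `-32` and one of the hundred
minimal vectors attached to it; `Co0` is transitive on them.  Also a partition lemma.
-/

set_option autoImplicit false
open Cfsg

namespace Cfsg.Agent.Lib.Helper26_HSTriple

open Cfsg.Agent.Lib.Helper26_VecCode Cfsg.Agent.Lib.Helper26_HSPair

/-- A set of `1 + a + b` elements containing `x` and two disjoint subsets of `a` and `b` elements,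
neither containing `x`, is the union of these. -/
theorem partition3 {α : Type*} (S A B : Set α) (x : α) (n a b : ℕ) (hS : S.ncard = n)
    (hA : A.ncard = a) (hB : B.ncard = b) (hn : n = 1 + a + b) (hxS : x ∈ S) (hAS : A ⊆ S)
    (hBS : B ⊆ S) (hxA : x ∉ A) (hxB : x ∉ B) (hAB : Disjoint A B) :
    ∀ y ∈ S, y = x ∨ y ∈ A ∨ y ∈ B := by
  have hfin : S.Finite := Set.finite_of_ncard_pos (by rw [hS, hn]; omega)
  have hAf : A.Finite := hfin.subset hAS
  have hBf : B.Finite := hfin.subset hBS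
  have hT : ({x} ∪ A ∪ B : Set α) ⊆ S := by
    intro y hy
    rcases hy with (hy | hy) | hy
    · rw [Set.mem_singleton_iff] at hy; rw [hy]; exact hxS
    · exact hAS hy
    · exact hBS hy
  have hxAd : Disjoint ({x} : Set α) A := Set.disjoint_singleton_left.mpr hxA
  have hd : Disjoint ({x} ∪ A : Set α) B := by
    rw [Set.disjoint_union_left]
    exact ⟨Set.disjoint_singleton_left.mpr hxB, hAB⟩
  have hc : ({x} ∪ A ∪ B : Set α).ncard = n := by
    rw [Set.ncard_union_eq hd ((Set.finite_singleton x).union hAf) hBf,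
      Set.ncard_union_eq hxAd (Set.finite_singleton x) hAf, Set.ncard_singleton, hA, hB, hn]
  have heq : ({x} ∪ A ∪ B : Set α) = S :=
    Set.eq_of_subset_of_ncard_le hT (by rw [hS, hc]) hfin
  intro y hy
  rw [← heq] at hy
  rcases hy with (hy | hy) | hy
  · left; exact hy
  · right; left; exact hy
  · right; right; exact hy

open Cfsg.Agent.Lib.Helper26_CfgHS22

/-- The third standard vector. -/
def yL : leechLattice := ⟨vecC con3.a, mem3⟩

theorem c1_eq : Cfsg.Agent.Lib.Helper26_CfgHS22.con1.a = Cfsg.Agent.Lib.Helper26_CfgHS100.con1.a := by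
  decide +kernel
theorem c2_eq : Cfsg.Agent.Lib.Helper26_CfgHS22.con2.a = Cfsg.Agent.Lib.Helper26_CfgHS100.con2.a := by
  decide +kernel
theorem c1_eq' : Cfsg.Agent.Lib.Helper26_CfgHS77.con1.a = Cfsg.Agent.Lib.Helper26_CfgHS100.con1.a := by
  decide +kernel
theorem c2_eq' : Cfsg.Agent.Lib.Helper26_CfgHS77.con2.a = Cfsg.Agent.Lib.Helper26_CfgHS100.con2.a := by
  decide +kernel
theorem c3_eq' : Cfsg.Agent.Lib.Helper26_CfgHS77.con3.a = Cfsg.Agent.Lib.Helper26_CfgHS22.con3.a := by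
  decide +kernel

theorem yL_norm : sqNorm (yL : GolayPt → ℤ) = 32 := by
  show sqNorm (vecC con3.a) = 32
  rw [sqNorm_vecC]
  decide +kernel

theorem vyL_dot : dotInt (vL : GolayPt → ℤ) (yL : GolayPt → ℤ) = 24 := by
  show dotInt (vecC Cfsg.Agent.Lib.Helper26_CfgHS100.con1.a) (vecC con3.a) = 24
  rw [dotInt_vecC]
  decide +kernel

theorem wyL_dot : dotInt (wL : GolayPt → ℤ) (yL : GolayPt → ℤ) = -24 := by
  show dotInt (vecC Cfsg.Agent.Lib.Helper26_CfgHS100.con2.a) (vecC con3.a) = -24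
  rw [dotInt_vecC]
  decide +kernel

/-- Every triple is conjugate to the standard triple. -/
theorem to_std3 (v w x : leechLattice)
    (hv : sqNorm (v : GolayPt → ℤ) = 48) (hw : sqNorm (w : GolayPt → ℤ) = 48)
    (hvw : dotInt (v : GolayPt → ℤ) (w : GolayPt → ℤ) = -32)
    (hx : sqNorm (x : GolayPt → ℤ) = 32 ∧ dotInt (v : GolayPt → ℤ) (x : GolayPt → ℤ) = 24 ∧
      dotInt (w : GolayPt → ℤ) (x : GolayPt → ℤ) = -24) :
    ∃ h : Co0, h.1 v = vL ∧ h.1 w = wL ∧ h.1 x = yL := by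
  obtain ⟨h, h1, h2⟩ := pair_trans v w vL wL hv hw hvw vL_norm wL_norm vwL_dot
  have hx' : h.1 x ∈ {x : leechLattice | sqNorm (x : GolayPt → ℤ) = 32 ∧
      dotInt (vL : GolayPt → ℤ) (x : GolayPt → ℤ) = 24 ∧
      dotInt (wL : GolayPt → ℤ) (x : GolayPt → ℤ) = -24} := by
    refine ⟨?_, ?_, ?_⟩
    · rw [h.2.2 x]; exact hx.1
    · have := Cfsg.Agent.Lib.Helper26_Leech.dotInt_co0 h.1 h.2 v x
      rw [h1] at this
      rw [this]; exact hx.2.1
    · have := Cfsg.Agent.Lib.Helper26_Leech.dotInt_co0 h.1 h.2 w x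
      rw [h2] at this
      rw [this]; exact hx.2.2
  obtain ⟨g, hg1, hg2, hg3⟩ := (Cfsg.Agent.S1583.result vL wL vL_norm wL_norm vwL_dot).2
    (h.1 x) hx' yL ⟨yL_norm, vyL_dot, wyL_dot⟩
  refine ⟨g * h, ?_, ?_, ?_⟩
  · show g.1 (h.1 v) = vL
    rw [h1]; exact hg1
  · show g.1 (h.1 w) = wL
    rw [h2]; exact hg2
  · exact hg3

end Cfsg.Agent.Lib.Helper26_HSTriple
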