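import Mathlib
import Cfsg.Prelude.Def_Spor_J2

/-!
# Icosians in doubled `ℤ[τ]`-coordinates (helper26)

An icosian is written `toH v = ½((v0+v1τ) + (v2+v3τ)i + (v4+v5τ)j + (v6+v7τ)k)` with `v : Fin 8 → ℤ`
subject to four parity conditions (`inIZ`).  Multiplication is `mulZ` (with a factor `½`).
-/

set_option autoImplicit false

namespace Cfsg.Agent.Lib.Helper26_Ico

open Quaternion Cfsg.Spor

theorem sqrt5_sq : Real.sqrt 5 * Real.sqrt 5 = 5 := Real.mul_self_sqrt (by norm_num)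

theorem tau_sq : tau * tau = tau + 1 := by
  unfold tau; linear_combination (1 / 4 : ℝ) * sqrt5_sq

theorem sig_eq : sig = 1 - tau := by unfold sig tau; ring

theorem sqrt5_eq : Real.sqrt 5 = 2 * tau - 1 := by unfold tau; ring

theorem tau_irrational : Irrational tau := by
  have h : Irrational (Real.sqrt 5) := by
    have := Nat.Prime.irrational_sqrt (show Nat.Prime 5 by norm_num)
    simpa using this
  intro ⟨q, hq⟩
  apply h
  refine ⟨2 * q - 1, ?_⟩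
  rw [sqrt5_eq, ← hq]; push_cast; ring

theorem zt_eq_zero {a b : ℤ} (h : (a : ℝ) + b * tau = 0) : a = 0 ∧ b = 0 := by
  have hb : b = 0 := by
    by_contra hb
    apply tau_irrational
    refine ⟨-(a : ℚ) / b, ?_⟩
    have hb' : (b : ℝ) ≠ 0 := by exact_mod_cast hb
    push_cast
    field_simp
    linarith
  subst hb
  simp at h
  exact ⟨by exact_mod_cast h, rfl⟩

theorem zt_inj {a b c d : ℤ} (h : (a : ℝ) + b * tau = c + d * tau) : a = c ∧ b = d := by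
  have := zt_eq_zero (a := a - c) (b := b - d) (by push_cast; linarith)
  omega

/-- The quaternion with doubled coordinates `v`. -/
noncomputable def toH (v : Fin 8 → ℤ) : ℍ[ℝ] :=
  ⟨((v 0 : ℝ) + v 1 * tau) / 2, ((v 2 : ℝ) + v 3 * tau) / 2,
   ((v 4 : ℝ) + v 5 * tau) / 2, ((v 6 : ℝ) + v 7 * tau) / 2⟩

@[simp] theorem toH_re (v : Fin 8 → ℤ) : (toH v).re = ((v 0 : ℝ) + v 1 * tau) / 2 := rfl
@[simp] theorem toH_imI (v : Fin 8 → ℤ) : (toH v).imI = ((v 2 : ℝ) + v 3 * tau) / 2 := rfl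
@[simp] theorem toH_imJ (v : Fin 8 → ℤ) : (toH v).imJ = ((v 4 : ℝ) + v 5 * tau) / 2 := rfl
@[simp] theorem toH_imK (v : Fin 8 → ℤ) : (toH v).imK = ((v 6 : ℝ) + v 7 * tau) / 2 := rfl

theorem toH_zero : toH 0 = 0 := by
  apply Quaternion.ext <;> simp

theorem toH_add (v w : Fin 8 → ℤ) : toH (v + w) = toH v + toH w := by
  apply Quaternion.ext <;> simp <;> ring

theorem toH_neg (v : Fin 8 → ℤ) : toH (-v) = -toH v := by
  apply Quaternion.ext <;> simp <;> ring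

theorem toH_sub (v w : Fin 8 → ℤ) : toH (v - w) = toH v - toH w := by
  apply Quaternion.ext <;> simp <;> ring

theorem toH_zsmul (n : ℤ) (v : Fin 8 → ℤ) : toH (n • v) = n • toH v := by
  apply Quaternion.ext <;> simp <;> ring

theorem toH_inj {v w : Fin 8 → ℤ} (h : toH v = toH w) : v = w := by
  have h0 := congrArg QuaternionAlgebra.re h
  have h1 := congrArg QuaternionAlgebra.imI h
  have h2 := congrArg QuaternionAlgebra.imJ h
  have h3 := congrArg QuaternionAlgebra.imK h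
  simp only [toH_re, toH_imI, toH_imJ, toH_imK] at h0 h1 h2 h3
  have e0 := zt_inj (a := v 0) (b := v 1) (c := w 0) (d := w 1) (by linarith)
  have e1 := zt_inj (a := v 2) (b := v 3) (c := w 2) (d := w 3) (by linarith)
  have e2 := zt_inj (a := v 4) (b := v 5) (c := w 4) (d := w 5) (by linarith)
  have e3 := zt_inj (a := v 6) (b := v 7) (c := w 6) (d := w 7) (by linarith)
  funext k
  fin_cases k <;> simp <;> tauto

/-- Real part of `(a+bτ)(c+dτ)`. -/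
def ztm (a b c d : ℤ) : ℤ := a * c + b * d
/-- `τ`-part of `(a+bτ)(c+dτ)`. -/
def ztn (a b c d : ℤ) : ℤ := a * d + b * c + b * d

/-- Quaternion product over `ℤ[τ]` in coordinates (not halved). -/
def mulZ (v w : Fin 8 → ℤ) : Fin 8 → ℤ :=
  ![ztm (v 0) (v 1) (w 0) (w 1) - ztm (v 2) (v 3) (w 2) (w 3) - ztm (v 4) (v 5) (w 4) (w 5)
      - ztm (v 6) (v 7) (w 6) (w 7),
    ztn (v 0) (v 1) (w 0) (w 1) - ztn (v 2) (v 3) (w 2) (w 3) - ztn (v 4) (v 5) (w 4) (w 5)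
      - ztn (v 6) (v 7) (w 6) (w 7),
    ztm (v 0) (v 1) (w 2) (w 3) + ztm (v 2) (v 3) (w 0) (w 1) + ztm (v 4) (v 5) (w 6) (w 7)
      - ztm (v 6) (v 7) (w 4) (w 5),
    ztn (v 0) (v 1) (w 2) (w 3) + ztn (v 2) (v 3) (w 0) (w 1) + ztn (v 4) (v 5) (w 6) (w 7)
      - ztn (v 6) (v 7) (w 4) (w 5),
    ztm (v 0) (v 1) (w 4) (w 5) - ztm (v 2) (v 3) (w 6) (w 7) + ztm (v 4) (v 5) (w 0) (w 1)
      + ztm (v 6) (v 7) (w 2) (w 3),
    ztn (v 0) (v 1) (w 4) (w 5) - ztn (v 2) (v 3) (w 6) (w 7) + ztn (v 4) (v 5) (w 0) (w 1)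
      + ztn (v 6) (v 7) (w 2) (w 3),
    ztm (v 0) (v 1) (w 6) (w 7) + ztm (v 2) (v 3) (w 4) (w 5) - ztm (v 4) (v 5) (w 2) (w 3)
      + ztm (v 6) (v 7) (w 0) (w 1),
    ztn (v 0) (v 1) (w 6) (w 7) + ztn (v 2) (v 3) (w 4) (w 5) - ztn (v 4) (v 5) (w 2) (w 3)
      + ztn (v 6) (v 7) (w 0) (w 1)]

theorem toH_mul (v w : Fin 8 → ℤ) : toH v * toH w = (1 / 2 : ℝ) • toH (mulZ v w) := by
  apply Quaternion.ext
  · simp only [re_mul, toH_re, toH_imI, toH_imJ, toH_imK, re_smul, smul_eq_mul, mulZ, ztm, ztn,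
      Matrix.cons_val_zero, Matrix.cons_val_one]
    push_cast
    linear_combination ((1 / 4 : ℝ) * ((v 1 : ℝ) * w 1 - v 3 * w 3 - v 5 * w 5 - v 7 * w 7)) * tau_sq
  · simp only [imI_mul, toH_re, toH_imI, toH_imJ, toH_imK, imI_smul, smul_eq_mul, mulZ, ztm, ztn,
      Matrix.cons_val]
    push_cast
    linear_combination ((1 / 4 : ℝ) * ((v 1 : ℝ) * w 3 + v 3 * w 1 + v 5 * w 7 - v 7 * w 5)) * tau_sq
  · simp only [imJ_mul, toH_re, toH_imI, toH_imJ, toH_imK, imJ_smul, smul_eq_mul, mulZ, ztm, ztn,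
      Matrix.cons_val]
    push_cast
    linear_combination ((1 / 4 : ℝ) * ((v 1 : ℝ) * w 5 - v 3 * w 7 + v 5 * w 1 + v 7 * w 3)) * tau_sq
  · simp only [imK_mul, toH_re, toH_imI, toH_imJ, toH_imK, imK_smul, smul_eq_mul, mulZ, ztm, ztn,
      Matrix.cons_val]
    push_cast
    linear_combination ((1 / 4 : ℝ) * ((v 1 : ℝ) * w 7 + v 3 * w 5 - v 5 * w 3 + v 7 * w 1)) * tau_sq


theorem half_two_zsmul (x : ℍ[ℝ]) : (1 / 2 : ℝ) • ((2 : ℤ) • x) = x := by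
  rw [two_zsmul, ← two_smul ℝ x, smul_smul]; norm_num

theorem toH_mul_of_eq {a b c : Fin 8 → ℤ} (h : mulZ a b = (2 : ℤ) • c) : toH a * toH b = toH c := by
  rw [toH_mul, h, toH_zsmul, half_two_zsmul]

/-- Conjugation in coordinates. -/
def conjZ (v : Fin 8 → ℤ) : Fin 8 → ℤ := ![v 0, v 1, -v 2, -v 3, -v 4, -v 5, -v 6, -v 7]

theorem toH_conj (v : Fin 8 → ℤ) : star (toH v) = toH (conjZ v) := by
  apply Quaternion.ext <;> simp [conjZ] <;> ring

/-- `4 N(x) = PZ + QZ τ`. -/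
def PZ (v : Fin 8 → ℤ) : ℤ :=
  v 0 ^ 2 + v 1 ^ 2 + v 2 ^ 2 + v 3 ^ 2 + v 4 ^ 2 + v 5 ^ 2 + v 6 ^ 2 + v 7 ^ 2
def QZ (v : Fin 8 → ℤ) : ℤ :=
  2 * v 0 * v 1 + v 1 ^ 2 + 2 * v 2 * v 3 + v 3 ^ 2 + 2 * v 4 * v 5 + v 5 ^ 2 + 2 * v 6 * v 7 + v 7 ^ 2

theorem normSq_toH (v : Fin 8 → ℤ) :
    Quaternion.normSq (toH v) = ((PZ v : ℝ) + QZ v * tau) / 4 := by
  rw [Quaternion.normSq_def']
  simp only [toH_re, toH_imI, toH_imJ, toH_imK, PZ, QZ]
  push_cast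
  linear_combination ((1 / 4 : ℝ) * ((v 1 : ℝ) ^ 2 + v 3 ^ 2 + v 5 ^ 2 + v 7 ^ 2)) * tau_sq

/-- The parity conditions cutting out the icosians in doubled coordinates. -/
def inIZ (v : Fin 8 → ℤ) : Prop :=
  (v 4 + v 1 + v 2 + v 3) % 2 = 0 ∧ (v 5 + v 0 + v 1 + v 2) % 2 = 0 ∧
  (v 6 + v 0 + v 1 + v 3) % 2 = 0 ∧ (v 7 + v 0 + v 2 + v 3) % 2 = 0

instance : DecidablePred inIZ := fun v => by unfold inIZ; infer_instance

def oneZ : Fin 8 → ℤ := ![2, 0, 0, 0, 0, 0, 0, 0]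
def iZ : Fin 8 → ℤ := ![0, 0, 2, 0, 0, 0, 0, 0]
def gZ : Fin 8 → ℤ := ![1, 0, 1, -1, 0, 0, 0, 1]
def hZ : Fin 8 → ℤ := ![1, -2, 1, 0, 1, 0, 1, 0]
def hbZ : Fin 8 → ℤ := ![1, -2, -1, 0, -1, 0, -1, 0]

theorem toH_oneZ : toH oneZ = 1 := by
  apply Quaternion.ext <;> simp [oneZ]


theorem toH_iZ : toH iZ = qI := by
  apply Quaternion.ext <;> simp [iZ, qI]

theorem toH_gZ : toH gZ = ⟨1 / 2, sig / 2, 0, tau / 2⟩ := by
  apply Quaternion.ext <;> simp [gZ, sig_eq] <;> ring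

theorem toH_hZ : toH hZ = icoH := by
  apply Quaternion.ext <;> simp [hZ, icoH, sqrt5_eq] <;> ring

theorem toH_hbZ : toH hbZ = star icoH := by
  rw [← toH_hZ, toH_conj]; congr 1

theorem inIZ_add {v w : Fin 8 → ℤ} (hv : inIZ v) (hw : inIZ w) : inIZ (v + w) := by
  unfold inIZ at *; simp only [Pi.add_apply]; omega

theorem inIZ_neg {v : Fin 8 → ℤ} (hv : inIZ v) : inIZ (-v) := by
  unfold inIZ at *; simp only [Pi.neg_apply]; omega

theorem inIZ_sub {v w : Fin 8 → ℤ} (hv : inIZ v) (hw : inIZ w) : inIZ (v - w) := by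
  unfold inIZ at *; simp only [Pi.sub_apply]; omega

theorem inIZ_zero : inIZ 0 := by decide

/-- Right multiplication by `i`. -/
theorem mulZ_iZ (v : Fin 8 → ℤ) :
    mulZ v iZ = (2 : ℤ) • ![-v 2, -v 3, v 0, v 1, v 6, v 7, -v 4, -v 5] := by
  funext k
  fin_cases k <;> simp [mulZ, iZ, ztm, ztn] <;> ring

theorem mulZ_gZ_dvd (v : Fin 8 → ℤ) (hv : inIZ v) :
    ∃ u, inIZ u ∧ mulZ v gZ = (2 : ℤ) • u := by
  unfold inIZ at hv
  refine ⟨fun k => mulZ v gZ k / 2, ?_, ?_⟩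
  · unfold inIZ
    simp only [mulZ, gZ, ztm, ztn, Matrix.cons_val]
    omega
  · funext k
    fin_cases k <;> simp [mulZ, gZ, ztm, ztn] <;> omega

theorem icosians_le : ∀ x ∈ icosians, ∃ v, inIZ v ∧ x = toH v := by
  intro x hx
  rw [icosians, Subring.mem_closure_iff] at hx
  induction hx using AddSubgroup.closure_induction with
  | mem y hy =>
    induction hy using Submonoid.closure_induction_right with
    | one => exact ⟨oneZ, by decide, toH_oneZ.symm⟩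
    | mul_right a _ b hb ih =>
      obtain ⟨v, hv, rfl⟩ := ih
      rcases hb with rfl | hb
      · refine ⟨![-v 2, -v 3, v 0, v 1, v 6, v 7, -v 4, -v 5], ?_, ?_⟩
        · unfold inIZ at *; simp only [Matrix.cons_val]; omega
        · rw [← toH_iZ]; exact toH_mul_of_eq (mulZ_iZ v)
      · have hb' : b = ⟨1 / 2, sig / 2, 0, tau / 2⟩ := hb
        subst hb'
        obtain ⟨u, hu, h⟩ := mulZ_gZ_dvd v hv
        exact ⟨u, hu, by rw [← toH_gZ]; exact toH_mul_of_eq h⟩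
  | zero => exact ⟨0, inIZ_zero, toH_zero.symm⟩
  | add a b _ _ iha ihb =>
    obtain ⟨v, hv, rfl⟩ := iha
    obtain ⟨w, hw, rfl⟩ := ihb
    exact ⟨v + w, inIZ_add hv hw, (toH_add v w).symm⟩
  | neg a _ iha =>
    obtain ⟨v, hv, rfl⟩ := iha
    exact ⟨-v, inIZ_neg hv, (toH_neg v).symm⟩

theorem mem_of_mul {a b c : Fin 8 → ℤ} (ha : toH a ∈ icosians) (hb : toH b ∈ icosians)
    (h : mulZ a b = (2 : ℤ) • c) : toH c ∈ icosians := by
  rw [← toH_mul_of_eq h]; exact mul_mem ha hb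

theorem iZ_mem : toH iZ ∈ icosians := by
  rw [toH_iZ]; exact Subring.subset_closure (Or.inl rfl)

theorem gZ_mem : toH gZ ∈ icosians := by
  rw [toH_gZ]; exact Subring.subset_closure (Or.inr rfl)

theorem basis_mem :
    toH ![1, 0, 0, 0, 0, 1, 1, 1] ∈ icosians ∧ toH ![0, 1, 0, 0, 1, 1, 1, 0] ∈ icosians ∧
    toH ![0, 0, 1, 0, 1, 1, 0, 1] ∈ icosians ∧ toH ![0, 0, 0, 1, 1, 0, 1, 1] ∈ icosians ∧
    toH ![0, 0, 0, 0, 2, 0, 0, 0] ∈ icosians ∧ toH ![0, 0, 0, 0, 0, 2, 0, 0] ∈ icosians ∧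
    toH ![0, 0, 0, 0, 0, 0, 2, 0] ∈ icosians ∧ toH ![0, 0, 0, 0, 0, 0, 0, 2] ∈ icosians := by
  have e0 : toH ![1, 0, 1, -1, 0, 0, 0, 1] ∈ icosians := gZ_mem
  have e2 : toH ![0, 0, 2, 0, 0, 0, 0, 0] ∈ icosians := iZ_mem
  have e1 : toH ![-1, 0, 1, -1, 0, 0, 0, 1] ∈ icosians := mem_of_mul e0 e0 (by decide)
  have e3 : toH ![-1, 1, 1, 0, 0, -1, 0, 0] ∈ icosians := mem_of_mul e2 e0 (by decide)
  have e4 : toH ![0, 0, -1, 1, 0, 1, 1, 0] ∈ icosians := mem_of_mul e1 e3 (by decide)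
  have e5 : toH ![0, -1, -1, 1, -1, 0, 0, 0] ∈ icosians := mem_of_mul e3 e3 (by decide)
  have e6 : toH ![-1, 1, 1, 0, 0, 1, 0, 0] ∈ icosians := mem_of_mul e0 e2 (by decide)
  have e7 : toH ![1, 0, -1, 1, 0, 0, 0, 1] ∈ icosians := mem_of_mul e3 e6 (by decide)
  have e8 : toH ![1, -1, 0, 0, 1, 0, 0, 1] ∈ icosians := mem_of_mul e0 e7 (by decide)
  have e9 : toH ![-1, 1, 0, 1, 0, 0, 1, 0] ∈ icosians := mem_of_mul e0 e3 (by decide)
  have e10 : toH ![0, -1, -1, 1, 1, 0, 0, 0] ∈ icosians := mem_of_mul e6 e6 (by decide)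
  have e11 : toH ![1, -1, 0, -1, 0, 0, 1, 0] ∈ icosians := mem_of_mul e2 e10 (by decide)
  refine ⟨?_, ?_, ?_, ?_, ?_, ?_, ?_, ?_⟩
  · have := add_mem e4 e0; rw [← toH_add] at this; convert this using 2; decide
  · have := sub_mem e4 e5; rw [← toH_sub] at this; convert this using 2; decide
  · have := add_mem e6 e8; rw [← toH_add] at this; convert this using 2; decide
  · have := add_mem e9 e8; rw [← toH_add] at this; convert this using 2; decide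
  · have := sub_mem e10 e5; rw [← toH_sub] at this; convert this using 2; decide
  · have := sub_mem e6 e3; rw [← toH_sub] at this; convert this using 2; decide
  · have := add_mem e9 e11; rw [← toH_add] at this; convert this using 2; decide
  · have := add_mem e1 e7; rw [← toH_add] at this; convert this using 2; decide

theorem toH_mem_icosians {v : Fin 8 → ℤ} (hv : inIZ v) : toH v ∈ icosians := by
  obtain ⟨b0, b1, b2, b3, b4, b5, b6, b7⟩ := basis_mem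
  unfold inIZ at hv
  have key : v = v 0 • ![1, 0, 0, 0, 0, 1, 1, 1] + v 1 • ![0, 1, 0, 0, 1, 1, 1, 0]
      + v 2 • ![0, 0, 1, 0, 1, 1, 0, 1] + v 3 • ![0, 0, 0, 1, 1, 0, 1, 1]
      + ((v 4 - v 1 - v 2 - v 3) / 2) • ![0, 0, 0, 0, 2, 0, 0, 0]
      + ((v 5 - v 0 - v 1 - v 2) / 2) • ![0, 0, 0, 0, 0, 2, 0, 0]
      + ((v 6 - v 0 - v 1 - v 3) / 2) • ![0, 0, 0, 0, 0, 0, 2, 0]
      + ((v 7 - v 0 - v 2 - v 3) / 2) • ![0, 0, 0, 0, 0, 0, 0, 2] := by
    funext k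
    fin_cases k <;> simp <;> omega
  rw [key]
  simp only [toH_add, toH_zsmul]
  exact add_mem (add_mem (add_mem (add_mem (add_mem (add_mem (add_mem
    (zsmul_mem b0 _) (zsmul_mem b1 _)) (zsmul_mem b2 _)) (zsmul_mem b3 _)) (zsmul_mem b4 _))
    (zsmul_mem b5 _)) (zsmul_mem b6 _)) (zsmul_mem b7 _)

theorem mem_icosians_iff (x : ℍ[ℝ]) : x ∈ icosians ↔ ∃ v, inIZ v ∧ x = toH v :=
  ⟨icosians_le x, fun ⟨_, hv, hx⟩ => hx ▸ toH_mem_icosians hv⟩

theorem toH_mem_iff (v : Fin 8 → ℤ) : toH v ∈ icosians ↔ inIZ v := by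
  constructor
  · intro h
    obtain ⟨w, hw, e⟩ := icosians_le _ h
    rwa [toH_inj e]
  · exact toH_mem_icosians

/-- Products of icosian coordinate vectors are even, with half in the lattice. -/
theorem mulZ_closed {v w : Fin 8 → ℤ} (hv : inIZ v) (hw : inIZ w) :
    ∃ u, inIZ u ∧ mulZ v w = (2 : ℤ) • u := by
  have h := mul_mem (toH_mem_icosians hv) (toH_mem_icosians hw)
  obtain ⟨u, hu, e⟩ := icosians_le _ h
  refine ⟨u, hu, ?_⟩
  apply toH_inj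
  rw [toH_zsmul, ← e, toH_mul, two_zsmul, ← two_smul ℝ, smul_smul]
  norm_num

theorem star_mem_icosians {x : ℍ[ℝ]} (hx : x ∈ icosians) : star x ∈ icosians := by
  obtain ⟨v, hv, rfl⟩ := icosians_le _ hx
  rw [toH_conj]
  apply toH_mem_icosians
  unfold inIZ at *
  simp only [conjZ, Matrix.cons_val]
  omega

end Cfsg.Agent.Lib.Helper26_Ico
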