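import Cfsg.Agent.Lib.Helper26_IcoSimple
import Cfsg.Agent.Lib.Helper26_IcoCentData

/-!
# The centraliser of a reflection in `J₂` (helper26)

The stabiliser `St` of the reflection `Rn 0` in `J₂` (acting on the 315 reflections) permutes the
ten reflections commuting with `Rn 0` (lines 1..10) and the five orthogonal frames they form.
-/

set_option autoImplicit false
set_option linter.constructorNameAsVariable false

namespace Cfsg.Agent.Lib.Helper26_Ico

open Quaternion Cfsg.Spor MulAction

/-! ### Single edges -/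

theorem toJ_smul_eq (x y : Refl) : x.toJ • y = x.toG • y := rfl

theorem edge1_sound {e : ℕ × ℕ × ℕ × List ℤ} (he : edgeOK e = true) :
    (Rn e.2.1).toJ • Rn e.1 = Rn e.2.2.1 := by
  obtain ⟨j, k, i, u⟩ := e
  simp only [edgeOK, Bool.and_eq_true, decide_eq_true_eq] at he
  obtain ⟨⟨⟨⟨hj', hk'⟩, hi'⟩, hu⟩, heq⟩ := he
  have mj := lineAt_mem hj'
  have mk := lineAt_mem hk'
  have mi := lineAt_mem hi'
  obtain ⟨huI, hun, hue⟩ := unit_mem hu
  rw [← toL3_ofL3 mk, ← toL3_ofL3 mj, ← toL3_ofL3 mi, ← hue, refll_toL3, lsmull_toL3] at heq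
  have hZ := toL3_inj heq
  have hH : qrefl (toH3 (ofL3 (lineAt k))) (toH3 (ofL3 (lineAt j))) =
      lsmul (toH (ofL u)) (toH3 (ofL3 (lineAt i))) := by
    rw [← toH3_reflZ (line_inLam mk) (line_inLam mj), hZ,
      toH3_lsmulZ ((toH_mem_iff _).1 huI) (inLam_inIZ (line_inLam mi))]
  rw [toJ_smul_eq]
  apply Subtype.ext
  rw [smul_val]
  show (Rn k).1 * (Rn j).1 * ((Rn k).1)⁻¹ = (Rn i).1
  rw [Rn_val hk', Rn_val hj', Rn_val hi', lineRefl_eq mk, lineRefl_eq mj, lineRefl_eq mi,
    reflPerm_conj]
  apply reflPerm_congr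
  intro x
  rw [hH, qrefl_lsmul (unit_of_normSq_one hun).1]

theorem edge_lt {e : ℕ × ℕ × ℕ × List ℤ} (he : edgeOK e = true) :
    e.1 < 315 ∧ e.2.1 < 315 ∧ e.2.2.1 < 315 := by
  simp only [edgeOK, Bool.and_eq_true, decide_eq_true_eq] at he
  exact ⟨he.1.1.1.1, he.1.1.1.2, he.1.1.2⟩

theorem cent0_ok : cent0.all edgeOK = true := by decide +kernel

theorem centR_ok : centR.all edgeOK = true := by decide +kernel

/-! ### Lookup of certified edges -/

/-- Image of line `j` under the reflection in line `k`, from the certificate (315 if absent). -/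
def look (k j : ℕ) : ℕ :=
  match centR.find? (fun e => e.1 == j && e.2.1 == k) with
  | some e => e.2.2.1
  | none => 315

theorem look_sound {k j : ℕ} (h : look k j < 315) : (Rn k).toJ • Rn j = Rn (look k j) := by
  unfold look at h ⊢
  cases hf : centR.find? (fun e => e.1 == j && e.2.1 == k) with
  | none => rw [hf] at h; exact absurd h (lt_irrefl _)
  | some e =>
    have hp := List.find?_some hf
    have hm := List.mem_of_find?_eq_some hf
    simp only [Bool.and_eq_true, beq_iff_eq] at hp
    have he : edgeOK e = true := (List.all_eq_true.1 centR_ok) e hm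
    have := edge1_sound he
    rw [hp.1, hp.2] at this
    exact this

theorem look_lt_arg {k j : ℕ} (h : look k j < 315) : j < 315 := by
  unfold look at h
  cases hf : centR.find? (fun e => e.1 == j && e.2.1 == k) with
  | none => rw [hf] at h; exact absurd h (lt_irrefl _)
  | some e =>
    have hp := List.find?_some hf
    have hm := List.mem_of_find?_eq_some hf
    simp only [Bool.and_eq_true, beq_iff_eq] at hp
    have he : edgeOK e = true := (List.all_eq_true.1 centR_ok) e hm
    rw [← hp.1]
    exact (edge_lt he).1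

/-- Image of line `i` under the reflection in line 0. -/
def look0 (i : ℕ) : ℕ := (cent0.getD i (315, 315, 315, [])).2.2.1

theorem cent0_shape : ∀ i ∈ List.range 315,
    (cent0.getD i (315, 315, 315, [])).1 = i ∧ (cent0.getD i (315, 315, 315, [])).2.1 = 0 := by
  decide +kernel

theorem cent0_length : cent0.length = 315 := by decide +kernel

theorem look0_sound {i : ℕ} (h : i < 315) : (Rn 0).toJ • Rn i = Rn (look0 i) ∧ look0 i < 315 := by
  have hlen : i < cent0.length := by rw [cent0_length]; exact h
  have hm : cent0.getD i (315, 315, 315, []) ∈ cent0 := by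
    rw [List.getD_eq_getElem _ _ hlen]; exact List.getElem_mem hlen
  have he : edgeOK (cent0.getD i (315, 315, 315, [])) = true := (List.all_eq_true.1 cent0_ok) _ hm
  have hs := cent0_shape i (List.mem_range.2 h)
  have := edge1_sound he
  rw [hs.1, hs.2] at this
  exact ⟨this, (edge_lt he).2.2⟩

/-! ### Words in reflections -/

/-- The product in `J₂` of the reflections listed in `w`. -/
noncomputable def wordJ (w : List ℕ) : J2 := (w.map fun k => (Rn k).toJ).prod

/-- Image of line `j` under the word `w` (certified lookups). -/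
def runW (w : List ℕ) (j : ℕ) : ℕ := w.foldr (fun k acc => look k acc) j

theorem wordJ_nil : wordJ [] = 1 := rfl

theorem wordJ_cons (k : ℕ) (w : List ℕ) : wordJ (k :: w) = (Rn k).toJ * wordJ w := by
  simp [wordJ]

theorem wordJ_append (w w' : List ℕ) : wordJ (w ++ w') = wordJ w * wordJ w' := by
  simp [wordJ]

theorem runW_cons (k : ℕ) (w : List ℕ) (j : ℕ) : runW (k :: w) j = look k (runW w j) := rfl

theorem runW_sound : ∀ (w : List ℕ) {j : ℕ}, j < 315 → runW w j < 315 →
    wordJ w • Rn j = Rn (runW w j) := by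
  intro w
  induction w with
  | nil => intro j _ _; rw [wordJ_nil, one_smul]; rfl
  | cons k w ih =>
    intro j hj h
    rw [runW_cons] at h
    have h' := look_lt_arg h
    rw [wordJ_cons, mul_smul, ih hj h', runW_cons]
    exact look_sound h

/-! ### Indices of reflections -/

/-- The index of a reflection in the list of 315 lines. -/
noncomputable def idx (x : Refl) : ℕ := Classical.choose (Rn_surj x)

theorem idx_lt (x : Refl) : idx x < 315 := (Classical.choose_spec (Rn_surj x)).1

theorem Rn_idx (x : Refl) : Rn (idx x) = x := (Classical.choose_spec (Rn_surj x)).2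

theorem idx_Rn {n : ℕ} (h : n < 315) : idx (Rn n) = n := Rn_inj (idx_lt _) h (Rn_idx _)

/-- The action of `J₂` on the indices of the reflections. -/
noncomputable def actN (g : J2) (k : ℕ) : ℕ := idx (g • Rn k)

theorem Rn_actN (g : J2) (k : ℕ) : Rn (actN g k) = g • Rn k := Rn_idx _

theorem actN_lt (g : J2) (k : ℕ) : actN g k < 315 := idx_lt _

theorem actN_one {k : ℕ} (h : k < 315) : actN 1 k = k := by
  rw [actN, one_smul, idx_Rn h]

theorem actN_mul (g h : J2) (k : ℕ) : actN (g * h) k = actN g (actN h k) := by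
  rw [actN, actN, mul_smul, Rn_actN]

theorem actN_eq_of_smul {g : J2} {k l : ℕ} (hl : l < 315) (h : g • Rn k = Rn l) : actN g k = l := by
  rw [actN, h, idx_Rn hl]

theorem actN_inj (g : J2) {k l : ℕ} (hk : k < 315) (hl : l < 315) (h : actN g k = actN g l) :
    k = l := by
  have := congrArg Rn h
  rw [Rn_actN, Rn_actN] at this
  exact Rn_inj hk hl (MulAction.injective g this)

theorem actN_wordJ {w : List ℕ} {j : ℕ} (hj : j < 315) (h : runW w j < 315) :
    actN (wordJ w) j = runW w j :=
  actN_eq_of_smul h (runW_sound w hj h)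

theorem actN_toJ {k j : ℕ} (h : look k j < 315) : actN (Rn k).toJ j = look k j :=
  actN_eq_of_smul h (look_sound h)

/-! ### The stabiliser of reflection 0 and the ten commuting reflections -/

/-- The stabiliser in `J₂` of the reflection in line 0. -/
noncomputable abbrev St : Subgroup J2 := MulAction.stabilizer J2 (Rn 0)

theorem toJ_smulJ (q : J2) (x : Refl) : (q • x).toJ = q * x.toJ * q⁻¹ := by
  obtain ⟨g, rfl⟩ := QuotientGroup.mk_surjective q
  rw [mk_smul]
  exact toJ_smul g x

theorem St_comm {g : J2} (hg : g ∈ St) : g * (Rn 0).toJ = (Rn 0).toJ * g := by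
  have h := toJ_smulJ g (Rn 0)
  rw [MulAction.mem_stabilizer_iff.1 hg] at h
  calc g * (Rn 0).toJ = g * (Rn 0).toJ * g⁻¹ * g := by group
    _ = (Rn 0).toJ * g := by rw [← h]

/-- The indices of the ten reflections commuting with reflection 0. -/
def Tl : List ℕ := [1, 2, 3, 4, 5, 6, 7, 8, 9, 10]

/-- The partner of a line in its orthogonal frame (with line 0). -/
def par (k : ℕ) : ℕ :=
  match k with
  | 1 => 2 | 2 => 1 | 3 => 10 | 10 => 3 | 4 => 9 | 9 => 4 | 5 => 8 | 8 => 5 | 6 => 7 | 7 => 6
  | _ => 0

/-- The frame of a line. -/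
def frF (k : ℕ) : Fin 5 :=
  match k with
  | 1 => 0 | 2 => 0 | 3 => 1 | 10 => 1 | 4 => 2 | 9 => 2 | 5 => 3 | 8 => 3 | 6 => 4 | 7 => 4
  | _ => 0

/-- A representative line of each frame. -/
def rep (b : Fin 5) : ℕ := [1, 3, 4, 5, 6].getD b.1 0

theorem Tl_lt {k : ℕ} (h : k ∈ Tl) : k < 315 := by
  have : ∀ k ∈ Tl, k < 315 := by decide
  exact this k h

theorem rep_mem (b : Fin 5) : rep b ∈ Tl := by
  revert b; decide

theorem frF_rep (b : Fin 5) : frF (rep b) = b := by
  revert b; decide

theorem par_mem {k : ℕ} (h : k ∈ Tl) : par k ∈ Tl := by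
  have : ∀ k ∈ Tl, par k ∈ Tl := by decide
  exact this k h

theorem par_ne {k : ℕ} (h : k ∈ Tl) : par k ≠ k := by
  have : ∀ k ∈ Tl, par k ≠ k := by decide
  exact this k h

theorem par_par {k : ℕ} (h : k ∈ Tl) : par (par k) = k := by
  have : ∀ k ∈ Tl, par (par k) = k := by decide
  exact this k h

theorem frF_par {k : ℕ} (h : k ∈ Tl) : frF (par k) = frF k := by
  have : ∀ k ∈ Tl, frF (par k) = frF k := by decide
  exact this k h

theorem rep_frF {k : ℕ} (h : k ∈ Tl) : rep (frF k) = k ∨ rep (frF k) = par k := by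
  have : ∀ k ∈ Tl, rep (frF k) = k ∨ rep (frF k) = par k := by decide
  exact this k h

theorem same_frame {k l : ℕ} (hk : k ∈ Tl) (hl : l ∈ Tl) (h : frF l = frF k) : l = k ∨ l = par k := by
  have : ∀ k ∈ Tl, ∀ l ∈ Tl, frF l = frF k → l = k ∨ l = par k := by decide
  exact this k hk l hl h

theorem look0_fix : ∀ i ∈ List.range 315, look0 i = i → i ≤ 10 := by decide +kernel

theorem look0_T : ∀ i ∈ List.range 11, look0 i = i := by decide +kernel

theorem look_T : ∀ k ∈ Tl, ∀ l ∈ Tl, look k l = if frF k = frF l then l else par l := by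
  decide +kernel

theorem look_T0 : ∀ k ∈ Tl, look k 0 = 0 := by decide +kernel

theorem actN_c0 {i : ℕ} (h : i < 315) : actN (Rn 0).toJ i = look0 i :=
  actN_eq_of_smul (look0_sound h).2 (look0_sound h).1

theorem actN_St_zero {g : J2} (hg : g ∈ St) : actN g 0 = 0 :=
  actN_eq_of_smul (by norm_num) (MulAction.mem_stabilizer_iff.1 hg)

/-- The stabiliser preserves the set of the ten commuting reflections. -/
theorem actN_mem_Tl {g : J2} (hg : g ∈ St) {k : ℕ} (hk : k ∈ Tl) : actN g k ∈ Tl := by
  have hk' := Tl_lt hk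
  have h1 : actN ((Rn 0).toJ * g) k = actN (g * (Rn 0).toJ) k := by rw [St_comm hg]
  rw [actN_mul, actN_mul, actN_c0 hk', actN_c0 (actN_lt g k)] at h1
  have hk11 : k ∈ List.range 11 := by
    have : ∀ k ∈ Tl, k ∈ List.range 11 := by decide
    exact this k hk
  rw [look0_T k hk11] at h1
  have h2 := look0_fix _ (List.mem_range.2 (actN_lt g k)) h1
  have h3 : actN g k ≠ 0 := by
    intro h0
    have : actN g k = actN g 0 := by rw [h0, actN_St_zero hg]
    have := actN_inj g hk' (by norm_num) this
    subst this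
    revert hk; decide
  have : ∀ i, i ≤ 10 → i ≠ 0 → i ∈ Tl := by
    intro i hi h0
    interval_cases i <;> first | exact absurd rfl h0 | decide
  exact this _ h2 h3

theorem smul_toJ_smul (q : J2) (x y : Refl) : (q • x).toJ • (q • y) = q • (x.toJ • y) := by
  rw [toJ_smulJ, mul_smul, mul_smul, inv_smul_smul]

/-- The stabiliser preserves the partner relation. -/
theorem actN_par {g : J2} (hg : g ∈ St) {k : ℕ} (hk : k ∈ Tl) : actN g (par k) = par (actN g k) := by
  have hl := actN_mem_Tl hg hk
  have hl' := actN_mem_Tl hg (par_mem hk)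
  have hne : actN g (par k) ≠ actN g k := by
    intro h
    exact par_ne hk (actN_inj g (Tl_lt (par_mem hk)) (Tl_lt hk) h)
  -- the images commute
  have h1 : (Rn k).toJ • Rn (par k) = Rn (par k) := by
    have hlk := look_T k hk (par k) (par_mem hk)
    rw [if_pos (frF_par hk).symm] at hlk
    have := look_sound (k := k) (j := par k) (by rw [hlk]; exact Tl_lt (par_mem hk))
    rw [hlk] at this
    exact this
  have h2 := smul_toJ_smul g (Rn k) (Rn (par k))
  rw [h1, ← Rn_actN, ← Rn_actN] at h2
  have hlook := look_T _ hl _ hl'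
  have hlt : look (actN g k) (actN g (par k)) < 315 := by
    rw [hlook]
    split_ifs
    · exact Tl_lt hl'
    · exact Tl_lt (par_mem hl')
  have h3 := look_sound hlt
  rw [h2] at h3
  have h4 := Rn_inj (Tl_lt hl') hlt h3
  rw [hlook] at h4
  split_ifs at h4 with hf
  · rcases same_frame hl hl' hf.symm with h | h
    · exact absurd h hne
    · exact h
  · exact absurd h4.symm (par_ne hl')

theorem frame_compat {g : J2} (hg : g ∈ St) {k : ℕ} (hk : k ∈ Tl) :
    frF (actN g k) = frF (actN g (rep (frF k))) := by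
  rcases rep_frF hk with h | h
  · rw [h]
  · rw [h, actN_par hg hk, frF_par (actN_mem_Tl hg hk)]

/-! ### The action on the five frames -/

noncomputable instance instMulActionStFrames : MulAction St (Fin 5) where
  smul g b := frF (actN g.1 (rep b))
  one_smul b := by
    show frF (actN 1 (rep b)) = b
    rw [actN_one (Tl_lt (rep_mem b)), frF_rep]
  mul_smul g h b := by
    show frF (actN (g.1 * h.1) (rep b)) = frF (actN g.1 (rep (frF (actN h.1 (rep b)))))
    rw [actN_mul]
    exact frame_compat g.2 (actN_mem_Tl h.2 (rep_mem b))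

theorem St_smul_def (g : St) (b : Fin 5) : g • b = frF (actN g.1 (rep b)) := rfl

/-- The action of the stabiliser on the five frames. -/
noncomputable def frameHom : St →* Equiv.Perm (Fin 5) := MulAction.toPermHom St (Fin 5)

theorem frameHom_apply (g : St) (b : Fin 5) : frameHom g b = frF (actN g.1 (rep b)) := rfl

/-- The kernel of the action on the frames. -/
noncomputable def QSt : Subgroup St := frameHom.ker

theorem mem_QSt_iff (g : St) : g ∈ QSt ↔ ∀ b, frF (actN g.1 (rep b)) = b := by
  unfold QSt
  rw [MonoidHom.mem_ker]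
  constructor
  · intro h b
    rw [← frameHom_apply, h]; rfl
  · intro h
    ext b : 1
    rw [frameHom_apply, h]; rfl

theorem QSt_frame {g : St} (hg : g ∈ QSt) {k : ℕ} (hk : k ∈ Tl) : frF (actN g.1 k) = frF k := by
  rw [frame_compat g.2 hk, (mem_QSt_iff g).1 hg]

theorem QSt_cases {g : St} (hg : g ∈ QSt) {k : ℕ} (hk : k ∈ Tl) :
    actN g.1 k = k ∨ actN g.1 k = par k :=
  same_frame hk (actN_mem_Tl g.2 hk) (QSt_frame hg hk)

/-! ### Explicit elements of the stabiliser -/

theorem wordJ_mem_St {w : List ℕ} (h : runW w 0 = 0) : wordJ w ∈ St := by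
  rw [MulAction.mem_stabilizer_iff]
  have := runW_sound w (j := 0) (by norm_num) (by rw [h]; norm_num)
  rw [h] at this
  exact this

/-- A word fixing line 0, as an element of the stabiliser. -/
noncomputable def wordSt (w : List ℕ) (h : runW w 0 = 0) : St := ⟨wordJ w, wordJ_mem_St h⟩

theorem frameHom_wordSt {w : List ℕ} (h : runW w 0 = 0) (b : Fin 5) (hb : runW w (rep b) < 315) :
    frameHom (wordSt w h) b = frF (runW w (rep b)) := by
  rw [frameHom_apply]
  show frF (actN (wordJ w) (rep b)) = _
  rw [actN_wordJ (Tl_lt (rep_mem b)) hb]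

theorem centWords_fix0 : ∀ w ∈ centWords, runW w 0 = 0 := by decide +kernel

theorem centWords_frames : ∀ w ∈ centWords, ∀ b : Fin 5,
    runW w (rep b) < 315 ∧ frF (runW w (rep b)) = b := by decide +kernel

/-- The images of line 27 under the 32 words. -/
def centVals : List ℕ := centWords.map fun w => runW w 27

theorem centVals_nodup : centVals.Nodup := by decide +kernel

theorem centVals_lt : ∀ v ∈ centVals, v < 315 := by decide +kernel

theorem centVals_length : centVals.length = 32 := by decide +kernel

theorem centWords_mem_QSt {w : List ℕ} (hw : w ∈ centWords) :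
    wordSt w (centWords_fix0 w hw) ∈ QSt := by
  rw [mem_QSt_iff]
  intro b
  have := centWords_frames w hw b
  rw [← frameHom_apply, frameHom_wordSt _ b this.1, this.2]

theorem exists_QSt_of_val {v : ℕ} (hv : v ∈ centVals) :
    ∃ g : QSt, actN g.1.1 27 = v ∧ ∃ w ∈ centWords, g.1.1 = wordJ w := by
  unfold centVals at hv
  obtain ⟨w, hw, rfl⟩ := List.mem_map.1 hv
  refine ⟨⟨wordSt w (centWords_fix0 w hw), centWords_mem_QSt hw⟩, ?_, w, hw, rfl⟩
  show actN (wordJ w) 27 = _
  exact actN_wordJ (by norm_num) (centVals_lt _ hv)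

/-- 32 pairwise distinct elements of the kernel, each given by one of the listed words. -/
theorem QSt_words : ∃ f : Fin 32 → QSt, Function.Injective f ∧
    ∀ j, ∃ w ∈ centWords, (f j).1.1 = wordJ w := by
  have hex : ∀ j : Fin 32, ∃ g : QSt, actN g.1.1 27 = centVals.getD j.1 0 ∧
      ∃ w ∈ centWords, g.1.1 = wordJ w := by
    intro j
    apply exists_QSt_of_val
    have hj : j.1 < centVals.length := by rw [centVals_length]; exact j.2
    rw [List.getD_eq_getElem _ _ hj]
    exact List.getElem_mem hj
  choose f hf using hex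
  refine ⟨f, ?_, fun j => (hf j).2⟩
  intro j j' h
  have h1 := (hf j).1
  rw [h, (hf j').1] at h1
  have hj : j.1 < centVals.length := by rw [centVals_length]; exact j.2
  have hj' : j'.1 < centVals.length := by rw [centVals_length]; exact j'.2
  rw [List.getD_eq_getElem _ _ hj, List.getD_eq_getElem _ _ hj'] at h1
  exact Fin.ext ((List.Nodup.getElem_inj_iff centVals_nodup).1 h1.symm)

theorem card_QSt_ge [Finite J2] : 32 ≤ Nat.card QSt := by
  obtain ⟨f, hinj, -⟩ := QSt_words
  have := Nat.card_le_card_of_injective f hinj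
  simpa using this

theorem QSt_eq_word [Finite J2] (h32 : Nat.card QSt = 32) (g : QSt) :
    ∃ w ∈ centWords, g.1.1 = wordJ w := by
  obtain ⟨f, hinj, hw⟩ := QSt_words
  have hb : Function.Bijective f := by
    apply Function.Injective.bijective_of_nat_card_le hinj
    rw [h32]; simp
  obtain ⟨j, rfl⟩ := hb.2 g
  exact hw j

/-! ### Two elements mapping to generators of the alternating group -/

def wordX : List ℕ := [12, 11, 207, 187]
def wordY : List ℕ := [207, 187, 13, 11]

/-- Frame permutation of `wordX` (a 3-cycle). -/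
def tblX (b : Fin 5) : Fin 5 := frF ([4, 1, 3, 5, 6].getD b.1 0)
/-- Frame permutation of `wordY` (a 5-cycle). -/
def tblY (b : Fin 5) : Fin 5 := frF ([3, 6, 5, 1, 4].getD b.1 0)

theorem wordX_fix0 : runW wordX 0 = 0 := by decide +kernel
theorem wordY_fix0 : runW wordY 0 = 0 := by decide +kernel

theorem wordX_frames : ∀ b : Fin 5, runW wordX (rep b) < 315 ∧ frF (runW wordX (rep b)) = tblX b := by
  decide +kernel

theorem wordY_frames : ∀ b : Fin 5, runW wordY (rep b) < 315 ∧ frF (runW wordY (rep b)) = tblY b := by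
  decide +kernel

noncomputable def xSt : St := wordSt wordX wordX_fix0
noncomputable def ySt : St := wordSt wordY wordY_fix0

theorem frameHom_xSt (b : Fin 5) : frameHom xSt b = tblX b := by
  have := wordX_frames b
  rw [xSt, frameHom_wordSt _ b this.1, this.2]

theorem frameHom_ySt (b : Fin 5) : frameHom ySt b = tblY b := by
  have := wordY_frames b
  rw [ySt, frameHom_wordSt _ b this.1, this.2]

theorem xSt_cube : xSt ^ 3 ∈ QSt := by
  unfold QSt
  rw [MonoidHom.mem_ker, map_pow]
  ext b : 1
  simp only [pow_succ, pow_zero, one_mul, Equiv.Perm.mul_apply, frameHom_xSt, Equiv.Perm.one_apply]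
  revert b; decide

theorem ySt_pow : ySt ^ 5 ∈ QSt := by
  unfold QSt
  rw [MonoidHom.mem_ker, map_pow]
  ext b : 1
  simp only [pow_succ, pow_zero, one_mul, Equiv.Perm.mul_apply, frameHom_ySt, Equiv.Perm.one_apply]
  revert b; decide

theorem xySt_sq : (xSt * ySt) ^ 2 ∈ QSt := by
  unfold QSt
  rw [MonoidHom.mem_ker, map_pow, map_mul]
  ext b : 1
  simp only [pow_succ, pow_zero, one_mul, Equiv.Perm.mul_apply, frameHom_xSt, frameHom_ySt,
    Equiv.Perm.one_apply]
  revert b; decide

theorem xSt_not_mem : xSt ∉ QSt := by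
  unfold QSt
  rw [MonoidHom.mem_ker]
  intro h
  have := frameHom_xSt 0
  rw [h] at this
  revert this; decide

end Cfsg.Agent.Lib.Helper26_Ico
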