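import Mathlib
import Cfsg.Prelude.Def_Transfer
import Cfsg.Agent.Lib.Helper1_Frattini

set_option autoImplicit false

namespace Cfsg.Agent.Lib.Helper63_Heisenberg
open scoped commutatorElement

/-- The Heisenberg group of dimension `2n+1` over `ZMod p`. -/
@[ext] structure Heis (n p : ℕ) where
  a : Fin n → ZMod p
  b : Fin n → ZMod p
  c : ZMod p

namespace Heis
variable {n p : ℕ}

instance : Mul (Heis n p) := ⟨fun x y => ⟨x.a + y.a, x.b + y.b, x.c + y.c + x.a ⬝ᵥ y.b⟩⟩
instance : One (Heis n p) := ⟨⟨0, 0, 0⟩⟩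
instance : Inv (Heis n p) := ⟨fun x => ⟨-x.a, -x.b, -x.c + x.a ⬝ᵥ x.b⟩⟩

@[simp] theorem mul_a (x y : Heis n p) : (x * y).a = x.a + y.a := rfl
@[simp] theorem mul_b (x y : Heis n p) : (x * y).b = x.b + y.b := rfl
@[simp] theorem mul_c (x y : Heis n p) : (x * y).c = x.c + y.c + x.a ⬝ᵥ y.b := rfl
@[simp] theorem one_a : (1 : Heis n p).a = 0 := rfl
@[simp] theorem one_b : (1 : Heis n p).b = 0 := rfl
@[simp] theorem one_c : (1 : Heis n p).c = 0 := rfl
@[simp] theorem inv_a (x : Heis n p) : (x⁻¹).a = -x.a := rfl
@[simp] theorem inv_b (x : Heis n p) : (x⁻¹).b = -x.b := rfl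
@[simp] theorem inv_c (x : Heis n p) : (x⁻¹).c = -x.c + x.a ⬝ᵥ x.b := rfl

instance : Group (Heis n p) where
  mul_assoc x y z := by
    ext <;> simp [add_assoc, add_dotProduct, dotProduct_add]
    ring
  one_mul x := by ext <;> simp
  mul_one x := by ext <;> simp
  inv_mul_cancel x := by ext <;> simp

/-- The underlying set. -/
def equivProd : Heis n p ≃ (Fin n → ZMod p) × (Fin n → ZMod p) × ZMod p where
  toFun x := (x.a, x.b, x.c)
  invFun t := ⟨t.1, t.2.1, t.2.2⟩
  left_inv _ := rfl
  right_inv _ := rfl

theorem card [NeZero p] : Nat.card (Heis n p) = p ^ (1 + 2 * n) := by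
  rw [Nat.card_congr equivProd, Nat.card_prod, Nat.card_prod, Nat.card_fun, Nat.card_fin,
    Nat.card_zmod]
  ring

instance [NeZero p] : Finite (Heis n p) := Finite.of_equiv _ equivProd.symm

theorem pow_a (x : Heis n p) (k : ℕ) : (x ^ k).a = (k : ZMod p) • x.a := by
  induction k with
  | zero => simp
  | succ k ih => rw [pow_succ, mul_a, ih]; push_cast; rw [add_smul, one_smul]

theorem pow_b (x : Heis n p) (k : ℕ) : (x ^ k).b = (k : ZMod p) • x.b := by
  induction k with
  | zero => simp
  | succ k ih => rw [pow_succ, mul_b, ih]; push_cast; rw [add_smul, one_smul]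

theorem pow_c (x : Heis n p) (k : ℕ) :
    (x ^ k).c = (k : ZMod p) * x.c + (k.choose 2 : ZMod p) * (x.a ⬝ᵥ x.b) := by
  induction k with
  | zero => simp
  | succ k ih =>
    rw [pow_succ, mul_c, ih, pow_a, smul_dotProduct, smul_eq_mul, Nat.choose_succ_succ' k 1,
      Nat.choose_one_right]
    push_cast
    ring

theorem pow_prime [hp : Fact p.Prime] (hp2 : p ≠ 2) (x : Heis n p) : x ^ p = 1 := by
  have h2 : ((p.choose 2 : ℕ) : ZMod p) = 0 := by
    rw [ZMod.natCast_eq_zero_iff]
    apply hp.out.dvd_choose_self (by norm_num)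
    have := hp.out.two_le
    omega
  ext
  · rw [pow_a]; simp
  · rw [pow_b]; simp
  · rw [pow_c, h2]; simp

theorem mem_center_iff [Fact p.Prime] (x : Heis n p) :
    x ∈ Subgroup.center (Heis n p) ↔ x.a = 0 ∧ x.b = 0 := by
  rw [Subgroup.mem_center_iff]
  constructor
  · intro h
    constructor
    · funext i
      have := congrArg Heis.c (h ⟨0, Pi.single i 1, 0⟩)
      simpa using this.symm
    · funext i
      have := congrArg Heis.c (h ⟨Pi.single i 1, 0, 0⟩)
      simpa using this
  · rintro ⟨ha, hb⟩ y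
    ext <;> simp [ha, hb, add_comm]

/-- The centre is in bijection with `ZMod p`. -/
def centerEquiv [Fact p.Prime] : Subgroup.center (Heis n p) ≃ ZMod p where
  toFun x := x.1.c
  invFun c := ⟨⟨0, 0, c⟩, (mem_center_iff _).2 ⟨rfl, rfl⟩⟩
  left_inv x := by
    obtain ⟨ha, hb⟩ := (mem_center_iff x.1).1 x.2
    apply Subtype.ext
    ext1
    · exact ha.symm
    · exact hb.symm
    · rfl
  right_inv _ := rfl

theorem card_center [Fact p.Prime] : Nat.card (Subgroup.center (Heis n p)) = p := by
  rw [Nat.card_congr centerEquiv, Nat.card_zmod]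

theorem commutator_mem_center [Fact p.Prime] (x y : Heis n p) :
    ⁅x, y⁆ ∈ Subgroup.center (Heis n p) := by
  rw [mem_center_iff, commutatorElement_def]
  constructor <;> simp

theorem commutator_le_center [Fact p.Prime] :
    commutator (Heis n p) ≤ Subgroup.center (Heis n p) := by
  rw [commutator_def, Subgroup.commutator_le]
  intro x _ y _
  exact commutator_mem_center x y

theorem isPGroup [hp : Fact p.Prime] : IsPGroup p (Heis n p) := by
  have : NeZero p := ⟨hp.out.ne_zero⟩
  exact IsPGroup.of_card card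

theorem commutator_ne_bot [hp : Fact p.Prime] (hn : 1 ≤ n) : commutator (Heis n p) ≠ ⊥ := by
  intro hbot
  let i : Fin n := ⟨0, hn⟩
  let x : Heis n p := ⟨Pi.single i 1, 0, 0⟩
  let y : Heis n p := ⟨0, Pi.single i 1, 0⟩
  have h1 : ⁅x, y⁆ ∈ commutator (Heis n p) := by
    rw [commutator_def]
    exact Subgroup.commutator_mem_commutator (Subgroup.mem_top _) (Subgroup.mem_top _)
  rw [hbot, Subgroup.mem_bot, commutatorElement_eq_one_iff_mul_comm] at h1
  have := congrArg Heis.c h1
  simp [x, y] at this

theorem commutator_eq_center [hp : Fact p.Prime] (hn : 1 ≤ n) :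
    commutator (Heis n p) = Subgroup.center (Heis n p) := by
  have : NeZero p := ⟨hp.out.ne_zero⟩
  have hle := commutator_le_center (n := n) (p := p)
  have hdvd : Nat.card (commutator (Heis n p)) ∣ p := by
    have := Subgroup.card_dvd_of_le hle
    rwa [card_center] at this
  rcases (Nat.dvd_prime hp.out).1 hdvd with h | h
  · exact absurd (Subgroup.card_eq_one.1 h) (commutator_ne_bot hn)
  · exact Subgroup.eq_of_le_of_card_ge hle (by rw [h, card_center])

theorem frattini_eq_center [hp : Fact p.Prime] (hp2 : p ≠ 2) (hn : 1 ≤ n) :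
    frattini (Heis n p) = Subgroup.center (Heis n p) := by
  have : NeZero p := ⟨hp.out.ne_zero⟩
  apply le_antisymm
  · apply Cfsg.Agent.Lib.Helper1_Frattini.frattini_le_of_elementary_quotient (p := p) _
      commutator_le_center
    intro x
    rw [pow_prime hp2]
    exact Subgroup.one_mem _
  · rw [← commutator_eq_center hn]
    exact Cfsg.Agent.Lib.Helper1_Frattini.commutator_le_frattini_of_isPGroup isPGroup

theorem isExtraspecial [hp : Fact p.Prime] (hp2 : p ≠ 2) (hn : 1 ≤ n) :
    Cfsg.IsExtraspecial p (Heis n p) :=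
  ⟨⟨isPGroup, frattini_eq_center hp2 hn, commutator_eq_center hn⟩, card_center⟩

end Heis

/-! ### Transport of `IsExtraspecial` along an isomorphism -/

section transport
variable {P Q : Type*} [Group P] [Group Q]

theorem map_center_equiv (e : P ≃* Q) :
    (Subgroup.center P).map e.toMonoidHom = Subgroup.center Q := by
  ext y
  rw [Subgroup.mem_map, Subgroup.mem_center_iff]
  constructor
  · rintro ⟨x, hx, rfl⟩ z
    rw [Subgroup.mem_center_iff] at hx
    obtain ⟨w, rfl⟩ := e.surjective z
    show e w * e x = e x * e w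
    rw [← map_mul, ← map_mul, hx w]
  · intro h
    refine ⟨e.symm y, ?_, e.apply_symm_apply y⟩
    rw [Subgroup.mem_center_iff]
    intro w
    apply e.injective
    rw [map_mul, map_mul, e.apply_symm_apply]
    exact h (e w)

theorem map_commutator_equiv (e : P ≃* Q) :
    (commutator P).map e.toMonoidHom = commutator Q := by
  rw [commutator_def, commutator_def, Subgroup.map_commutator,
    Subgroup.map_top_of_surjective _ e.surjective]

theorem map_frattini_equiv (e : P ≃* Q) :
    (frattini P).map e.toMonoidHom = frattini Q := by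
  apply le_antisymm
  · rw [Subgroup.map_le_iff_le_comap]
    exact frattini_le_comap_frattini_of_surjective (φ := e.toMonoidHom) e.surjective
  · intro y hy
    have h2 := frattini_le_comap_frattini_of_surjective (φ := e.symm.toMonoidHom)
      e.symm.surjective hy
    exact ⟨e.symm y, h2, e.apply_symm_apply y⟩

theorem isExtraspecial_of_mulEquiv {p : ℕ} (e : P ≃* Q) (h : Cfsg.IsExtraspecial p P) :
    Cfsg.IsExtraspecial p Q := by
  obtain ⟨⟨hP, hΦ, hC⟩, hcard⟩ := h
  refine ⟨⟨hP.of_surjective e.toMonoidHom e.surjective, ?_, ?_⟩, ?_⟩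
  · rw [← map_frattini_equiv e, hΦ, map_center_equiv]
  · rw [← map_commutator_equiv e, hC, map_center_equiv]
  · rw [← hcard]
    exact Nat.card_congr (Subgroup.centerCongr e).symm.toEquiv

end transport

/-! ### The faithful linear representation of degree `n + 2` -/

namespace Heis
variable {n p : ℕ}

/-- The natural module. -/
abbrev V (n p : ℕ) : Type := ZMod p × (Fin n → ZMod p) × ZMod p

/-- The action of an element of the Heisenberg group on the natural module. -/
def rhoLin (h : Heis n p) : V n p →ₗ[ZMod p] V n p where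
  toFun v := (v.1 + h.a ⬝ᵥ v.2.1 + h.c * v.2.2, v.2.1 + v.2.2 • h.b, v.2.2)
  map_add' v w := by
    ext <;> simp [dotProduct_add, add_smul]
    · ring
    · ring
  map_smul' r v := by
    ext <;> simp [dotProduct_smul, mul_smul]
    ring

/-- The natural representation as a monoid homomorphism. -/
def rho : Heis n p →* Module.End (ZMod p) (V n p) where
  toFun := rhoLin
  map_one' := by
    ext <;> simp [rhoLin]
  map_mul' x y := by
    ext <;> simp [rhoLin, add_dotProduct]
    all_goals ring

theorem rho_injective : Function.Injective (rho : Heis n p → Module.End (ZMod p) (V n p)) := by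
  intro x y hxy
  have h1 := congrArg (fun f : Module.End (ZMod p) (V n p) => f (0, 0, 1)) hxy
  simp only [rho, MonoidHom.coe_mk, OneHom.coe_mk, rhoLin, LinearMap.coe_mk, AddHom.coe_mk,
    Prod.mk.injEq] at h1
  obtain ⟨hc, hb, -⟩ := h1
  ext1
  · funext i
    have h2 := congrArg (fun f : Module.End (ZMod p) (V n p) => f (0, Pi.single i 1, 0)) hxy
    simp only [rho, MonoidHom.coe_mk, OneHom.coe_mk, rhoLin, LinearMap.coe_mk, AddHom.coe_mk,
      Prod.mk.injEq] at h2
    simpa using h2.1
  · simpa using hb
  · simpa using hc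

theorem finrank_V [Fact p.Prime] : Module.finrank (ZMod p) (V n p) = n + 2 := by
  rw [Module.finrank_prod, Module.finrank_prod, Module.finrank_fin_fun, Module.finrank_self]
  ring

/-- A basis of the natural module indexed by `Fin (n + 2)`. -/
noncomputable def basisV [Fact p.Prime] : Module.Basis (Fin (n + 2)) (ZMod p) (V n p) :=
  Module.finBasisOfFinrankEq (ZMod p) (V n p) finrank_V

/-- The embedding of the Heisenberg group into `GL (n + 2, p)`. -/
noncomputable def toGL [Fact p.Prime] :
    Heis n p →* Matrix.GeneralLinearGroup (Fin (n + 2)) (ZMod p) :=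
  (Matrix.GeneralLinearGroup.toLin' basisV).symm.toMonoidHom.comp rho.toHomUnits

theorem toGL_injective [Fact p.Prime] :
    Function.Injective (toGL : Heis n p → Matrix.GeneralLinearGroup (Fin (n + 2)) (ZMod p)) := by
  intro x y hxy
  have h1 : rho.toHomUnits x = rho.toHomUnits y := by
    apply (Matrix.GeneralLinearGroup.toLin' (basisV (n := n) (p := p))).symm.injective
    simpa only [toGL, MonoidHom.comp_apply, MulEquiv.toMonoidHom_eq_coe, MonoidHom.coe_coe]
      using hxy
  apply rho_injective
  have h2 := congrArg Units.val h1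
  simpa using h2

end Heis

/-- For every odd prime `p` and `n ≥ 1`, `GL (n + 2, p)` contains an extraspecial subgroup of order
`p ^ (1 + 2 n)` and exponent `p`. -/
theorem exists_extraspecial_subgroup_GL (p : ℕ) [hp : Fact p.Prime] (hp2 : p ≠ 2) (n : ℕ)
    (hn : 1 ≤ n) :
    ∃ E : Subgroup (Matrix.GeneralLinearGroup (Fin (n + 2)) (ZMod p)),
      Cfsg.IsExtraspecial p ↥E ∧ Nat.card E = p ^ (1 + 2 * n) ∧ ∀ x ∈ E, x ^ p = 1 := by
  have : NeZero p := ⟨hp.out.ne_zero⟩
  let φ : Heis n p →* Matrix.GeneralLinearGroup (Fin (n + 2)) (ZMod p) := Heis.toGL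
  have hφ : Function.Injective φ := Heis.toGL_injective
  let e : Heis n p ≃* φ.range := MonoidHom.ofInjective hφ
  refine ⟨φ.range, isExtraspecial_of_mulEquiv e (Heis.isExtraspecial hp2 hn), ?_, ?_⟩
  · rw [← Nat.card_congr e.toEquiv, Heis.card]
  · rintro _ ⟨h, rfl⟩
    rw [← map_pow, Heis.pow_prime hp2, map_one]

end Cfsg.Agent.Lib.Helper63_Heisenberg
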