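import Mathlib
import Cfsg.Prelude.Def_Transfer
import Cfsg.Agent.Lib.Helper1_Frattini

set_option autoImplicit false

namespace Cfsg.Agent.Lib.Helper89_SympBasics

open scoped commutatorElement

variable {G : Type*} [Group G]

/-- an element of `⟨a⟩` is a natural power of `a` when `a` has finite order -/
theorem exists_pow_of_mem_zpowers {a h : G} (ha : 0 < orderOf a) (hh : h ∈ Subgroup.zpowers a) :
    ∃ m : ℕ, a ^ m = h := by
  have hfin : IsOfFinOrder a := orderOf_pos_iff.mp ha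
  exact (Submonoid.mem_powers_iff _ _).mp (hfin.mem_powers_iff_mem_zpowers.mpr hh)

/-- `u ∈ ⟨u ^ m⟩` when `u` has `p`-power order and `p ∤ m`. -/
theorem mem_zpowers_pow_of_not_dvd {p : ℕ} (hp : p.Prime) {u : G} {N m : ℕ}
    (hu : orderOf u = p ^ N) (hm : ¬ p ∣ m) : u ∈ Subgroup.zpowers (u ^ m) := by
  have hcop : Nat.Coprime m (orderOf u) := by
    rw [hu]
    exact Nat.Coprime.pow_right N ((Nat.Prime.coprime_iff_not_dvd hp).2 hm).symm
  obtain ⟨t, ht⟩ := exists_pow_eq_self_of_coprime hcop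
  exact Subgroup.mem_zpowers_iff.mpr ⟨t, by rw [zpow_natCast]; exact ht⟩

/-- elements of `⟨a⟩`, `|a| = p^n`, killed by `p^k` lie in `⟨a^(p^(n-k))⟩`. -/
theorem mem_zpowers_pow_sub {p : ℕ} (hp : p.Prime) {a : G} {n k : ℕ} (ha : orderOf a = p ^ n)
    (hk : k ≤ n) {h : G} (hh : h ∈ Subgroup.zpowers a) (hpk : h ^ p ^ k = 1) :
    h ∈ Subgroup.zpowers (a ^ p ^ (n - k)) := by
  obtain ⟨m, rfl⟩ := exists_pow_of_mem_zpowers (by rw [ha]; exact pow_pos hp.pos n) hh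
  rw [← pow_mul, ← orderOf_dvd_iff_pow_eq_one, ha] at hpk
  have h1 : p ^ (n - k) * p ^ k ∣ m * p ^ k := by
    rw [← pow_add, Nat.sub_add_cancel hk]; exact hpk
  have h2 : p ^ (n - k) ∣ m := Nat.dvd_of_mul_dvd_mul_right (pow_pos hp.pos k) h1
  obtain ⟨t, rfl⟩ := h2
  rw [pow_mul]
  exact Subgroup.pow_mem _ (Subgroup.mem_zpowers _) _

/-- elements of `⟨a⟩`, `|a| = p^n`, killed by `p^k` with `k < n` are `p`-th powers. -/
theorem exists_pth_root {p : ℕ} (hp : p.Prime) {a : G} {n k : ℕ} (ha : orderOf a = p ^ n)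
    (hk : k < n) {h : G} (hh : h ∈ Subgroup.zpowers a) (hpk : h ^ p ^ k = 1) :
    ∃ h' ∈ Subgroup.zpowers a, h' ^ p = h := by
  have h1 := mem_zpowers_pow_sub hp ha hk.le hh hpk
  obtain ⟨j, rfl⟩ := Subgroup.mem_zpowers_iff.mp h1
  obtain ⟨d, hd⟩ : ∃ d, n - k = d + 1 := ⟨n - k - 1, by omega⟩
  refine ⟨(a ^ p ^ d) ^ j, Subgroup.zpow_mem _ (Subgroup.pow_mem _ (Subgroup.mem_zpowers _) _) _, ?_⟩
  rw [hd, pow_succ, pow_mul, ← zpow_natCast ((a ^ p ^ d) ^ j) p, ← zpow_natCast (a ^ p ^ d) p,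
    ← zpow_mul, ← zpow_mul, mul_comm]

/-- a non-`p`-th-power in `⟨a⟩` generates `⟨a⟩`. -/
theorem mem_zpowers_of_not_pth_power {p : ℕ} (hp : p.Prime) {a : G} {n : ℕ} (ha : orderOf a = p ^ n)
    {h : G} (hh : h ∈ Subgroup.zpowers a) (hnp : ¬ ∃ h' ∈ Subgroup.zpowers a, h' ^ p = h) :
    a ∈ Subgroup.zpowers h := by
  obtain ⟨m, rfl⟩ := exists_pow_of_mem_zpowers (by rw [ha]; exact pow_pos hp.pos n) hh
  apply mem_zpowers_pow_of_not_dvd hp ha
  rintro ⟨t, rfl⟩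
  apply hnp
  refine ⟨a ^ t, Subgroup.pow_mem _ (Subgroup.mem_zpowers _) _, ?_⟩
  rw [← pow_mul, mul_comm]

/-- a cyclic group of exponent `p` has order at most `p`. -/
theorem card_le_of_isCyclic_of_pow {V : Type*} [Group V] [Finite V] [hc : IsCyclic V] {p : ℕ}
    (hp : 0 < p) (hV : ∀ v : V, v ^ p = 1) : Nat.card V ≤ p := by
  obtain ⟨g, hg⟩ := hc.exists_generator
  rw [← orderOf_eq_card_of_forall_mem_zpowers hg]
  exact Nat.le_of_dvd hp (orderOf_dvd_of_pow_eq_one (hV g))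


/-- criterion for a subgroup to be extraspecial -/
theorem isExtraspecial_of [Finite G] {p : ℕ} [hp : Fact p.Prime] (hG : IsPGroup p G)
    (X Z0 : Subgroup G) (hZX : Z0 ≤ X) (hcard : Nat.card Z0 = p)
    (hcen1 : ∀ x ∈ X, (∀ y ∈ X, x * y = y * x) → x ∈ Z0)
    (hcen2 : ∀ z ∈ Z0, ∀ y ∈ X, z * y = y * z)
    (hpow : ∀ x ∈ X, x ^ p ∈ Z0)
    (hcomm : ∀ x ∈ X, ∀ y ∈ X, x * y * x⁻¹ * y⁻¹ ∈ Z0)
    (hna : ∃ x ∈ X, ∃ y ∈ X, x * y ≠ y * x) : Cfsg.IsExtraspecial p ↥X := by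
  have hXp : IsPGroup p ↥X := hG.to_subgroup X
  have hcenter : Subgroup.center ↥X = Z0.subgroupOf X := by
    ext ⟨x, hx⟩
    rw [Subgroup.mem_center_iff, Subgroup.mem_subgroupOf]
    constructor
    · intro h
      apply hcen1 x hx
      intro y hy
      have := h ⟨y, hy⟩
      exact (congrArg Subtype.val this).symm
    · intro h g
      apply Subtype.ext
      exact (hcen2 x h g.1 g.2).symm
  have hcc : Nat.card (Subgroup.center ↥X) = p := by
    rw [hcenter, Nat.card_congr (Subgroup.subgroupOfEquivOfLe hZX).toEquiv, hcard]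
  have hle : commutator ↥X ≤ Subgroup.center ↥X := by
    rw [commutator_def, Subgroup.commutator_le]
    intro g₁ _ g₂ _
    rw [hcenter, Subgroup.mem_subgroupOf, commutatorElement_def]
    exact hcomm g₁.1 g₁.2 g₂.1 g₂.2
  have hne : commutator ↥X ≠ ⊥ := by
    intro hbot
    obtain ⟨x, hx, y, hy, hxy⟩ := hna
    have h1 : ⁅(⟨x, hx⟩ : ↥X), (⟨y, hy⟩ : ↥X)⁆ ∈ commutator ↥X := by
      rw [commutator_def]
      exact Subgroup.commutator_mem_commutator (Subgroup.mem_top _) (Subgroup.mem_top _)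
    rw [hbot, Subgroup.mem_bot, commutatorElement_eq_one_iff_mul_comm] at h1
    exact hxy (congrArg Subtype.val h1)
  have heq : commutator ↥X = Subgroup.center ↥X := by
    have hdvd : Nat.card (commutator ↥X) ∣ p := by
      have := Subgroup.card_dvd_of_le hle
      rwa [hcc] at this
    rcases (Nat.dvd_prime hp.out).1 hdvd with h | h
    · exact absurd (Subgroup.card_eq_one.1 h) hne
    · exact Subgroup.eq_of_le_of_card_ge hle (by rw [h, hcc])
  refine ⟨⟨hXp, ?_, heq⟩, hcc⟩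
  apply le_antisymm
  · apply Cfsg.Agent.Lib.Helper1_Frattini.frattini_le_of_elementary_quotient (p := p) _ hle
    intro x
    rw [hcenter, Subgroup.mem_subgroupOf]
    exact hpow x.1 x.2
  · rw [← heq]
    exact Cfsg.Agent.Lib.Helper1_Frattini.commutator_le_frattini_of_isPGroup hXp

end Cfsg.Agent.Lib.Helper89_SympBasics
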