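import Cfsg.Agent.Lib.Helper26_IcoCent
import Cfsg.Agent.Lib.Helper89_SympBasics
import Cfsg.Agent.Lib.Helper63_Heisenberg
import Cfsg.Agent.S3377

/-!
# The centraliser of a reflection in `J₂`: structure `2^{1+4}.A₅` (helper26)
-/

set_option autoImplicit false
set_option linter.constructorNameAsVariable false

namespace Cfsg.Agent.Lib.Helper26_Ico

open Quaternion Cfsg.Spor MulAction

instance instNormalQSt : QSt.Normal := MonoidHom.normal_ker frameHom

/-! ### The quotient by the kernel is the alternating group -/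

/-- Images of the two words in the quotient. -/
noncomputable def gens235 : Fin 2 → St ⧸ QSt := ![QuotientGroup.mk xSt, QuotientGroup.mk ySt]

theorem gens235_rels : ∀ r ∈ Cfsg.Agent.S3377.rels, FreeGroup.lift gens235 r = 1 := by
  intro r hr
  simp only [Cfsg.Agent.S3377.rels, Set.mem_insert_iff, Set.mem_singleton_iff] at hr
  rcases hr with rfl | rfl | rfl
  · rw [map_pow, FreeGroup.lift_apply_of]
    show (QuotientGroup.mk xSt : St ⧸ QSt) ^ 3 = 1
    rw [← QuotientGroup.mk_pow, QuotientGroup.eq_one_iff]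
    exact xSt_cube
  · rw [map_pow, FreeGroup.lift_apply_of]
    show (QuotientGroup.mk ySt : St ⧸ QSt) ^ 5 = 1
    rw [← QuotientGroup.mk_pow, QuotientGroup.eq_one_iff]
    exact ySt_pow
  · rw [map_pow, map_mul, FreeGroup.lift_apply_of, FreeGroup.lift_apply_of]
    show ((QuotientGroup.mk xSt : St ⧸ QSt) * QuotientGroup.mk ySt) ^ 2 = 1
    rw [← QuotientGroup.mk_mul, ← QuotientGroup.mk_pow, QuotientGroup.eq_one_iff]
    exact xySt_sq

noncomputable def phi235 : PresentedGroup Cfsg.Agent.S3377.rels →* St ⧸ QSt :=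
  PresentedGroup.toGroup gens235_rels

theorem phi235_injective : Function.Injective phi235 := by
  obtain ⟨e0⟩ := Cfsg.Agent.S3377.result
  have : IsSimpleGroup (alternatingGroup (Fin 5)) := alternatingGroup.isSimpleGroup (by simp)
  have : IsSimpleGroup (PresentedGroup Cfsg.Agent.S3377.rels) := e0.isSimpleGroup
  rw [← MonoidHom.ker_eq_bot_iff]
  rcases IsSimpleGroup.eq_bot_or_eq_top_of_normal phi235.ker (MonoidHom.normal_ker _) with h | h
  · exact h
  · exfalso
    have h0 : (PresentedGroup.of (0 : Fin 2) : PresentedGroup Cfsg.Agent.S3377.rels) ∈ phi235.ker := by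
      rw [h]; exact Subgroup.mem_top _
    rw [MonoidHom.mem_ker] at h0
    have h1 : phi235 (PresentedGroup.of (0 : Fin 2)) = gens235 0 := PresentedGroup.toGroup.of _
    rw [h1] at h0
    have h2 : (QuotientGroup.mk xSt : St ⧸ QSt) = 1 := h0
    rw [QuotientGroup.eq_one_iff] at h2
    exact xSt_not_mem h2

theorem card_pres : Nat.card (PresentedGroup Cfsg.Agent.S3377.rels) = 60 := by
  obtain ⟨e0⟩ := Cfsg.Agent.S3377.result
  rw [Nat.card_congr e0.toEquiv, nat_card_alternatingGroup]
  simp [Nat.factorial]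

theorem card_quot_QSt [Finite J2] (hcard : Nat.card St = 1920) :
    Nat.card QSt = 32 ∧ Nat.card (St ⧸ QSt) = 60 := by
  have h1 := Subgroup.card_eq_card_quotient_mul_card_subgroup QSt
  rw [hcard] at h1
  have h2 : 32 ≤ Nat.card QSt := card_QSt_ge
  have h3 : 60 ≤ Nat.card (St ⧸ QSt) := by
    have := Nat.card_le_card_of_injective phi235 phi235_injective
    rwa [card_pres] at this
  constructor <;> nlinarith

theorem quot_QSt_equiv [Finite J2] (hcard : Nat.card St = 1920) :
    Nonempty (St ⧸ QSt ≃* alternatingGroup (Fin 5)) := by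
  obtain ⟨e0⟩ := Cfsg.Agent.S3377.result
  have hb : Function.Bijective phi235 := by
    apply Function.Injective.bijective_of_nat_card_le phi235_injective
    rw [card_pres, (card_quot_QSt hcard).2]
  exact ⟨(MulEquiv.ofBijective phi235 hb).symm.trans e0⟩

/-! ### The kernel is extraspecial -/

theorem c0_mem_St : (Rn 0).toJ ∈ St := by
  rw [MulAction.mem_stabilizer_iff]
  have h := look0_sound (i := 0) (by norm_num)
  have h0 : look0 0 = 0 := look0_T 0 (by decide)
  rw [h0] at h
  exact h.1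

/-- The central involution, in the stabiliser. -/
noncomputable def c0St : St := ⟨(Rn 0).toJ, c0_mem_St⟩

/-- An element of `J₂` fixes each of the ten commuting reflections. -/
def FixT (g : J2) : Prop := ∀ k ∈ Tl, actN g k = k

theorem c0_fixT : FixT (Rn 0).toJ := by
  intro k hk
  rw [actN_c0 (Tl_lt hk)]
  have : ∀ k ∈ Tl, k ∈ List.range 11 := by decide
  exact look0_T k (this k hk)

theorem c0St_mem : c0St ∈ QSt := by
  rw [mem_QSt_iff]
  intro b
  show frF (actN (Rn 0).toJ (rep b)) = b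
  rw [c0_fixT _ (rep_mem b), frF_rep]

/-- The central involution, in the kernel. -/
noncomputable def c0Q : QSt := ⟨c0St, c0St_mem⟩

theorem c0_ne_one : (Rn 0).toJ ≠ 1 := by
  intro h
  have h1 := actN_c0 (i := 11) (by norm_num)
  rw [h, actN_one (by norm_num)] at h1
  revert h1
  decide +kernel

theorem c0Q_ne_one : c0Q ≠ 1 := by
  intro h
  have : (c0Q.1.1 : J2) = 1 := by rw [h]; rfl
  exact c0_ne_one this

theorem c0Q_sq : c0Q * c0Q = 1 := by
  apply Subtype.ext; apply Subtype.ext
  show (Rn 0).toJ * (Rn 0).toJ = 1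
  exact toJ_mul_self _

theorem c0Q_comm (g : QSt) : c0Q * g = g * c0Q := by
  apply Subtype.ext; apply Subtype.ext
  show (Rn 0).toJ * g.1.1 = g.1.1 * (Rn 0).toJ
  exact (St_comm g.1.2).symm

theorem centWords_T : ∀ w ∈ centWords, ∀ k ∈ Tl, runW w k ∈ Tl := by decide +kernel

theorem centWords_triv : ∀ w ∈ centWords, (∀ k ∈ Tl, runW w k = k) → w = [] ∨ w = [2, 1] := by
  decide +kernel

theorem word_of_fix [Finite J2] (h32 : Nat.card QSt = 32) (g : QSt) (hfix : FixT g.1.1) :
    g.1.1 = 1 ∨ g.1.1 = wordJ [2, 1] := by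
  obtain ⟨w, hw, e⟩ := QSt_eq_word h32 g
  have h1 : ∀ k ∈ Tl, runW w k = k := by
    intro k hk
    have := hfix k hk
    rw [e, actN_wordJ (Tl_lt hk) (Tl_lt (centWords_T w hw k hk))] at this
    exact this
  rcases centWords_triv w hw h1 with rfl | rfl
  · left; rw [e]; rfl
  · right; exact e

theorem word21 [Finite J2] (h32 : Nat.card QSt = 32) : wordJ [2, 1] = (Rn 0).toJ := by
  rcases word_of_fix h32 c0Q c0_fixT with h | h
  · exact absurd h c0_ne_one
  · exact h.symm

theorem claimK [Finite J2] (h32 : Nat.card QSt = 32) (g : QSt) (hfix : FixT g.1.1) :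
    g = 1 ∨ g = c0Q := by
  rcases word_of_fix h32 g hfix with h | h
  · left; apply Subtype.ext; apply Subtype.ext; exact h
  · right; apply Subtype.ext; apply Subtype.ext
    rw [h, word21 h32]; rfl

theorem QSt_commT {g h : St} (hg : g ∈ QSt) (hh : h ∈ QSt) {k : ℕ} (hk : k ∈ Tl) :
    actN g.1 (actN h.1 k) = actN h.1 (actN g.1 k) := by
  rcases QSt_cases hh hk with e1 | e1 <;> rcases QSt_cases hg hk with e2 | e2
  · rw [e1, e2, e1]
  · rw [e1, e2, actN_par h.2 hk, e1]
  · rw [e1, e2, actN_par g.2 hk, e2, e1]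
  · rw [e1, e2, actN_par g.2 hk, actN_par h.2 hk, e1, e2]

theorem QSt_sq_fixT {g : St} (hg : g ∈ QSt) : FixT (g.1 * g.1) := by
  intro k hk
  rw [actN_mul]
  rcases QSt_cases hg hk with e | e
  · rw [e, e]
  · rw [e, actN_par g.2 hk, e, par_par hk]

theorem actN_inv_cancel (g : J2) {k : ℕ} (hk : k < 315) : actN g (actN g⁻¹ k) = k := by
  rw [← actN_mul, mul_inv_cancel, actN_one hk]

theorem QSt_comm_fixT {x y : St} (hx : x ∈ QSt) (hy : y ∈ QSt) :
    FixT (x.1 * y.1 * x.1⁻¹ * y.1⁻¹) := by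
  intro k hk
  have hxi : x⁻¹ ∈ QSt := inv_mem hx
  have hyi : y⁻¹ ∈ QSt := inv_mem hy
  have hk1 : actN y.1⁻¹ k ∈ Tl := actN_mem_Tl (y⁻¹).2 hk
  rw [actN_mul, actN_mul, actN_mul]
  have h1 := QSt_commT hy hxi hk1
  have e1 : ((x⁻¹ : St) : J2) = x.1⁻¹ := rfl
  rw [e1] at h1
  rw [h1, actN_inv_cancel _ (Tl_lt hk), actN_inv_cancel _ (Tl_lt hk)]

theorem single_mem : ∀ k ∈ Tl, [k] ∈ centWords := by decide

theorem wordJ_single (k : ℕ) : wordJ [k] = (Rn k).toJ := by
  simp [wordJ]

/-- The image in the kernel of the reflection in line `k` (`k = 1..10`). -/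
noncomputable def qQ (k : ℕ) (hk : k ∈ Tl) : QSt :=
  ⟨wordSt [k] (centWords_fix0 _ (single_mem k hk)), centWords_mem_QSt (single_mem k hk)⟩

theorem qQ_val (k : ℕ) (hk : k ∈ Tl) : (qQ k hk).1.1 = (Rn k).toJ := wordJ_single k

theorem fix_of_comm (hinj : Function.Injective Refl.toJ) {g : J2} {k : ℕ} (hk : k < 315)
    (h : g * (Rn k).toJ = (Rn k).toJ * g) : actN g k = k := by
  apply actN_eq_of_smul hk
  apply hinj
  rw [toJ_smulJ, h]
  group

theorem center_fixT (hinj : Function.Injective Refl.toJ) (g : QSt)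
    (h : ∀ y : QSt, g * y = y * g) : FixT g.1.1 := by
  intro k hk
  apply fix_of_comm hinj (Tl_lt hk)
  have := h (qQ k hk)
  have h2 : (g * qQ k hk).1.1 = (qQ k hk * g).1.1 := by rw [this]
  rw [← qQ_val k hk]
  exact h2

theorem mem_zpowers_c0Q (g : QSt) (h : g = 1 ∨ g = c0Q) : g ∈ Subgroup.zpowers c0Q := by
  rcases h with rfl | rfl
  · exact one_mem _
  · exact Subgroup.mem_zpowers _

theorem extraspecial_QSt [Finite J2] (hinj : Function.Injective Refl.toJ)
    (h32 : Nat.card QSt = 32) : Cfsg.IsExtraspecial 2 QSt := by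
  have : Fact (Nat.Prime 2) := ⟨Nat.prime_two⟩
  have hp : IsPGroup 2 QSt := IsPGroup.of_card (n := 5) (by rw [h32]; norm_num)
  have hZ0 : ∀ z ∈ Subgroup.zpowers c0Q, z = 1 ∨ z = c0Q := by
    intro z hz
    obtain ⟨n, rfl⟩ := Subgroup.mem_zpowers_iff.1 hz
    rcases Int.even_or_odd n with ⟨m, rfl⟩ | ⟨m, rfl⟩
    · left
      rw [zpow_add, ← (Commute.refl c0Q).mul_zpow, c0Q_sq, one_zpow]
    · right
      rw [zpow_add, zpow_one, two_mul, zpow_add, ← (Commute.refl c0Q).mul_zpow, c0Q_sq, one_zpow,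
        one_mul]
  have key := Cfsg.Agent.Lib.Helper89_SympBasics.isExtraspecial_of (G := QSt) (p := 2) hp
    ⊤ (Subgroup.zpowers c0Q) le_top
    (by rw [Nat.card_zpowers]
        exact orderOf_eq_prime (by rw [pow_two]; exact c0Q_sq) c0Q_ne_one)
    (by
      intro x _ hx
      exact mem_zpowers_c0Q x (claimK h32 x (center_fixT hinj x (fun y => hx y (Subgroup.mem_top y)))))
    (by
      intro z hz y _
      rcases hZ0 z hz with rfl | rfl
      · rw [one_mul, mul_one]
      · exact c0Q_comm y)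
    (by
      intro x _
      apply mem_zpowers_c0Q
      apply claimK h32
      rw [pow_two]
      exact QSt_sq_fixT x.2)
    (by
      intro x _ y _
      apply mem_zpowers_c0Q
      apply claimK h32
      exact QSt_comm_fixT x.2 y.2)
    (by
      have m1 : 1 ∈ Tl := by decide
      have m3 : 3 ∈ Tl := by decide
      refine ⟨qQ 1 m1, Subgroup.mem_top _, qQ 3 m3, Subgroup.mem_top _, ?_⟩
      intro h
      have h2 : (qQ 1 m1 * qQ 3 m3).1.1 = (qQ 3 m3 * qQ 1 m1).1.1 := by rw [h]
      have h3 : (Rn 1).toJ * (Rn 3).toJ = (Rn 3).toJ * (Rn 1).toJ := by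
        rw [← qQ_val 1 m1, ← qQ_val 3 m3]; exact h2
      have h4 := fix_of_comm hinj (k := 3) (by norm_num) h3
      have h5 : look 1 3 < 315 := by decide +kernel
      rw [actN_toJ h5] at h4
      revert h4
      decide +kernel)
  exact Cfsg.Agent.Lib.Helper63_Heisenberg.isExtraspecial_of_mulEquiv Subgroup.topEquiv key

/-- Structure of the stabiliser of a reflection. -/
theorem St_structure [Finite J2] (hinj : Function.Injective Refl.toJ)
    (hcard : Nat.card St = 1920) :
    ∃ (Q : Subgroup St) (_ : Q.Normal), Nat.card Q = 32 ∧ Cfsg.IsExtraspecial 2 Q ∧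
      Nonempty (St ⧸ Q ≃* alternatingGroup (Fin 5)) :=
  ⟨QSt, instNormalQSt, (card_quot_QSt hcard).1, extraspecial_QSt hinj (card_quot_QSt hcard).1,
    quot_QSt_equiv hcard⟩

end Cfsg.Agent.Lib.Helper26_Ico
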