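import Cfsg.Agent.Lib.Helper26_IcoCent2

/-!
# The centraliser of a reflection in `J₂`: from the order and the centre of `2·J₂` (helper26)

Given `|J₂| = 604800` and the centre `{±1}` of `2·J₂` (statement S1619), the centraliser in `J₂` of
the image of any reflection has a normal extraspecial subgroup of order 32 with quotient `A₅`.
-/

set_option autoImplicit false
set_option linter.constructorNameAsVariable false

namespace Cfsg.Agent.Lib.Helper26_Ico

open Quaternion Cfsg.Spor MulAction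

/-! ### The images of the reflections in `J₂` are pairwise distinct -/

theorem center_cases (hZ : Nat.card (Subgroup.center twoJ2) = 2) {z : twoJ2}
    (hz : z ∈ Subgroup.center twoJ2) (hz1 : z ≠ 1) {w : twoJ2}
    (hw : w ∈ Subgroup.center twoJ2) : w = 1 ∨ w = z := by
  obtain ⟨y, -, huniq⟩ := (Nat.card_eq_two_iff' (1 : Subgroup.center twoJ2)).1 hZ
  by_cases h : w = 1
  · left; exact h
  · right
    have e1 := huniq ⟨w, hw⟩ (by intro h'; exact h (congrArg Subtype.val h'))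
    have e2 := huniq ⟨z, hz⟩ (by intro h'; exact hz1 (congrArg Subtype.val h'))
    exact congrArg Subtype.val (e1.trans e2.symm)

theorem E0_zero : E0 0 = 2 := by
  show toH twoZ = 2
  exact toH_twoZ

theorem E1_vals : E1 0 = 0 ∧ E1 1 = 2 ∧ E1 2 = 0 := by
  refine ⟨?_, ?_, ?_⟩
  · show toH 0 = 0; exact toH_zero
  · show toH twoZ = 2; exact toH_twoZ
  · show toH 0 = 0; exact toH_zero

theorem E2_vals : E2 0 = 0 ∧ E2 1 = 0 ∧ E2 2 = 2 := by
  refine ⟨?_, ?_, ?_⟩
  · show toH 0 = 0; exact toH_zero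
  · show toH 0 = 0; exact toH_zero
  · show toH twoZ = 2; exact toH_twoZ

theorem two_ne_neg_two : (2 : ℍ[ℝ]) ≠ -2 := by
  intro h
  have h3 : ((2 : ℝ) : ℍ[ℝ]) = ((-2 : ℝ) : ℍ[ℝ]) := by push_cast; exact h
  have := Quaternion.coe_injective h3
  norm_num at this

theorem neg_ne_one {z : twoJ2}
    (hzx : ∀ x : icoLeech, (((z : Equiv.Perm icoLeech) x : icoLeech) : Fin 3 → ℍ[ℝ]) =
      -(x : Fin 3 → ℍ[ℝ])) : z ≠ 1 := by
  intro h
  have := hzx ⟨E0, E0_mem.1⟩
  rw [h] at this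
  have h0 := congrFun this 0
  simp only [Subgroup.coe_one, Equiv.Perm.coe_one, id_eq, Pi.neg_apply, E0_zero] at h0
  exact two_ne_neg_two h0

theorem toJ_inj_RE0 (hZ : Nat.card (Subgroup.center twoJ2) = 2)
    (hneg : ∃ z ∈ Subgroup.center twoJ2, ∀ x : icoLeech,
      (((z : Equiv.Perm icoLeech) x : icoLeech) : Fin 3 → ℍ[ℝ]) = -(x : Fin 3 → ℍ[ℝ]))
    (y : Refl) (h : y.toJ = RE0.toJ) : y = RE0 := by
  obtain ⟨z, hz, hzx⟩ := hneg
  have hz1 := neg_ne_one hzx
  have hmem : y.toG⁻¹ * RE0.toG ∈ Subgroup.center twoJ2 := QuotientGroup.eq.1 h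
  rcases center_cases hZ hz hz1 hmem with h1 | h1
  · rw [inv_mul_eq_one] at h1
    have h2 : y.1 = RE0.1 := congrArg (fun t : twoJ2 => (t : Equiv.Perm icoLeech)) h1
    exact Subtype.ext h2
  · exfalso
    have e : RE0.toG = y.toG * z := by rw [← h1]; group
    have e' : RE0.1 = y.1 * z.1 := congrArg (fun t : twoJ2 => (t : Equiv.Perm icoLeech)) e
    obtain ⟨r, hr, h4, ey⟩ := (isIcoReflection_iff y.1).1 y.2
    have key : ∀ u : icoLeech, qrefl r u = -qrefl E0 u := by
      intro u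
      have hzv : z.1 ⟨-u.1, icoLeech_neg u.2⟩ = u := Subtype.ext (by rw [hzx]; simp)
      have h2 : ((RE0.1 ⟨-u.1, icoLeech_neg u.2⟩ : icoLeech) : Fin 3 → ℍ[ℝ]) =
          ((y.1 (z.1 ⟨-u.1, icoLeech_neg u.2⟩) : icoLeech) : Fin 3 → ℍ[ℝ]) := by
        rw [e']; rfl
      rw [hzv, ey, reflPerm_apply] at h2
      rw [← h2]
      show qrefl E0 (-u.1) = _
      exact qrefl_neg _ _
    have k1 := key ⟨E1, E1_mem.1⟩
    have k2 := key ⟨E2, E2_mem.1⟩
    rw [qrefl_E0] at k1 k2
    have a1 := congrFun k1 1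
    have a2 := congrFun k1 2
    have b2 := congrFun k2 2
    simp only [qrefl, E1_vals.1, E1_vals.2.1, E1_vals.2.2, E2_vals.2.2, Pi.neg_apply,
      Matrix.cons_val_one, Matrix.cons_val_zero, Matrix.cons_val_two, Matrix.head_cons,
      Matrix.tail_cons] at a1 a2 b2
    -- a2 : 0 - a * r 2 = -0 ; a1 : 2 - a * r 1 = -2 ; b2 : 2 - b * r 2 = -2
    have hr2 : r 2 = 0 := by
      have ha : (1 / 2 : ℝ) • qip E1 r ≠ 0 := by
        intro h0
        rw [h0, zero_mul, sub_zero] at a1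
        exact two_ne_neg_two a1
      have : (1 / 2 : ℝ) • qip E1 r * r 2 = 0 := by
        have := a2
        rw [zero_sub, neg_zero, neg_eq_zero] at this
        exact this
      rcases mul_eq_zero.1 this with h0 | h0
      · exact absurd h0 ha
      · exact h0
    rw [hr2, mul_zero, sub_zero] at b2
    exact two_ne_neg_two b2

theorem toJ_injective (hZ : Nat.card (Subgroup.center twoJ2) = 2)
    (hneg : ∃ z ∈ Subgroup.center twoJ2, ∀ x : icoLeech,
      (((z : Equiv.Perm icoLeech) x : icoLeech) : Fin 3 → ℍ[ℝ]) = -(x : Fin 3 → ℍ[ℝ])) :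
    Function.Injective Refl.toJ := by
  intro x y h
  obtain ⟨g, hg⟩ := pretransitive_G.exists_smul_eq RE0 x
  have h' : (g⁻¹ • y).toJ = RE0.toJ := by
    rw [toJ_smul, ← h, ← hg, toJ_smul, QuotientGroup.mk_inv]
    group
  have := toJ_inj_RE0 hZ hneg _ h'
  rw [← hg, ← this, smul_inv_smul]

/-! ### The centraliser is the stabiliser -/

theorem centralizer_eq_St (hinj : Function.Injective Refl.toJ) :
    Subgroup.centralizer {(Rn 0).toJ} = St := by
  ext g
  rw [Subgroup.mem_centralizer_singleton_iff, MulAction.mem_stabilizer_iff]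
  constructor
  · intro h
    apply hinj
    rw [toJ_smulJ, h]
    group
  · intro h
    exact St_comm (MulAction.mem_stabilizer_iff.2 h)

theorem card_St (hJ : Nat.card J2 = 604800) : Nat.card St = 1920 := by
  have : IsPretransitive J2 Refl := primitive_J2.toIsPretransitive
  have h1 := Subgroup.card_mul_index St
  rw [MulAction.index_stabilizer_of_transitive, card_Refl, hJ] at h1
  have h2 : Nat.card St * 315 = 1920 * 315 := by rw [h1]
  exact Nat.eq_of_mul_eq_mul_right (by norm_num) h2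

/-! ### Transport along isomorphisms and conjugation -/

theorem transport_structure {C C' : Type} [Group C] [Group C'] (e : C ≃* C')
    (h : ∃ (Q : Subgroup C) (_ : Q.Normal), Nat.card Q = 32 ∧ Cfsg.IsExtraspecial 2 Q ∧
      Nonempty (C ⧸ Q ≃* alternatingGroup (Fin 5))) :
    ∃ (Q : Subgroup C') (_ : Q.Normal), Nat.card Q = 32 ∧ Cfsg.IsExtraspecial 2 Q ∧
      Nonempty (C' ⧸ Q ≃* alternatingGroup (Fin 5)) := by
  obtain ⟨Q, hQ, h32, hes, ⟨eq⟩⟩ := h
  have hQ' : (Q.map e.toMonoidHom).Normal := hQ.map _ e.surjective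
  refine ⟨Q.map e.toMonoidHom, hQ', ?_, ?_, ?_⟩
  · rw [← h32]; exact (Nat.card_congr (e.subgroupMap Q).toEquiv).symm
  · exact Cfsg.Agent.Lib.Helper63_Heisenberg.isExtraspecial_of_mulEquiv (e.subgroupMap Q) hes
  · exact ⟨(QuotientGroup.congr Q (Q.map e.toMonoidHom) e rfl).symm.trans eq⟩

/-- Conjugation by `a` carries the centraliser of `c` onto the centraliser of `a c a⁻¹`. -/
def centConj {G : Type} [Group G] (a c : G) :
    Subgroup.centralizer {c} ≃* Subgroup.centralizer {a * c * a⁻¹} where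
  toFun x := ⟨a * x.1 * a⁻¹, by
    have hx := Subgroup.mem_centralizer_singleton_iff.1 x.2
    rw [Subgroup.mem_centralizer_singleton_iff]
    have e1 : a * x.1 * a⁻¹ * (a * c * a⁻¹) = a * (x.1 * c) * a⁻¹ := by group
    have e2 : a * c * a⁻¹ * (a * x.1 * a⁻¹) = a * (c * x.1) * a⁻¹ := by group
    rw [e1, e2, hx]⟩
  invFun y := ⟨a⁻¹ * y.1 * a, by
    have hy := Subgroup.mem_centralizer_singleton_iff.1 y.2
    rw [Subgroup.mem_centralizer_singleton_iff]
    have e1 : a⁻¹ * y.1 * a * c = a⁻¹ * (y.1 * (a * c * a⁻¹)) * a := by group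
    have e2 : c * (a⁻¹ * y.1 * a) = a⁻¹ * ((a * c * a⁻¹) * y.1) * a := by group
    rw [e1, e2, hy]⟩
  left_inv x := by
    apply Subtype.ext
    show a⁻¹ * (a * x.1 * a⁻¹) * a = x.1
    group
  right_inv y := by
    apply Subtype.ext
    show a * (a⁻¹ * y.1 * a) * a⁻¹ = y.1
    group
  map_mul' x y := by
    apply Subtype.ext
    show a * (x.1 * y.1) * a⁻¹ = a * x.1 * a⁻¹ * (a * y.1 * a⁻¹)
    group

/-- Structure of the centraliser in `J₂` of the image of a reflection, given the order of `J₂`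
and the centre of `2·J₂`. -/
theorem centralizer_structure (hJ : Nat.card J2 = 604800)
    (hZ : Nat.card (Subgroup.center twoJ2) = 2)
    (hneg : ∃ z ∈ Subgroup.center twoJ2, ∀ x : icoLeech,
      (((z : Equiv.Perm icoLeech) x : icoLeech) : Fin 3 → ℍ[ℝ]) = -(x : Fin 3 → ℍ[ℝ]))
    (f : Equiv.Perm icoLeech) (hf : IsIcoReflection f) (hfm : f ∈ twoJ2) :
    ∃ (Q : Subgroup ↥(Subgroup.centralizer {(QuotientGroup.mk ⟨f, hfm⟩ : J2)})) (_ : Q.Normal),
      Nat.card Q = 32 ∧ Cfsg.IsExtraspecial 2 Q ∧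
      Nonempty (↥(Subgroup.centralizer {(QuotientGroup.mk ⟨f, hfm⟩ : J2)}) ⧸ Q ≃*
        alternatingGroup (Fin 5)) := by
  have : Finite J2 := Nat.finite_of_card_ne_zero (by rw [hJ]; norm_num)
  have hinj := toJ_injective hZ hneg
  have hst := St_structure hinj (card_St hJ)
  obtain ⟨g, hg, e⟩ := reflections_conj (Rn 0).1 f (Rn 0).2 hf
  have hc : (QuotientGroup.mk ⟨f, hfm⟩ : J2) =
      (QuotientGroup.mk ⟨g, hg⟩ : J2) * (Rn 0).toJ * (QuotientGroup.mk ⟨g, hg⟩ : J2)⁻¹ := by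
    unfold Refl.toJ
    rw [← QuotientGroup.mk_inv, ← QuotientGroup.mk_mul, ← QuotientGroup.mk_mul]
    congr 1
    apply Subtype.ext
    exact e.symm
  have e1 : St ≃* Subgroup.centralizer {(Rn 0).toJ} :=
    MulEquiv.subgroupCongr (centralizer_eq_St hinj).symm
  have e2 := centConj (QuotientGroup.mk ⟨g, hg⟩ : J2) (Rn 0).toJ
  have e3 : Subgroup.centralizer
      {(QuotientGroup.mk ⟨g, hg⟩ : J2) * (Rn 0).toJ * (QuotientGroup.mk ⟨g, hg⟩ : J2)⁻¹} ≃*
      Subgroup.centralizer {(QuotientGroup.mk ⟨f, hfm⟩ : J2)} :=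
    MulEquiv.subgroupCongr (by rw [hc])
  exact transport_structure ((e1.trans e2).trans e3) hst

end Cfsg.Agent.Lib.Helper26_Ico
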