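import Cfsg.Agent.Lib.Helper26_IcoCount

/-!
# Reflections of the icosian Leech lattice are isometries; conjugation of reflections (helper26)
-/

set_option autoImplicit false
set_option linter.constructorNameAsVariable false

namespace Cfsg.Agent.Lib.Helper26_Ico

open Quaternion Cfsg.Spor

theorem qip_star (x y : Fin 3 → ℍ[ℝ]) : star (qip x y) = qip y x := by
  simp only [qip_def, star_add, star_mul, star_star]

theorem qip_sub_right (x y r : Fin 3 → ℍ[ℝ]) : qip x (y - r) = qip x y - qip x r := by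
  simp only [qip_def, Pi.sub_apply, star_sub, mul_sub]; abel

theorem half_smul_four (a : ℍ[ℝ]) : ((1 / 2 : ℝ) • a) * 4 = 2 * a := by
  rw [four_comm, show (4 : ℍ[ℝ]) = 2 * 2 by norm_num, mul_assoc, two_mul_half_smul]

theorem star_half_smul (a : ℍ[ℝ]) : star ((1 / 2 : ℝ) • a) = (1 / 2 : ℝ) • star a := by
  rw [Quaternion.star_smul]

/-- Reflections are isometries of the Hermitian form. -/
theorem qip_qrefl {m : Fin 3 → ℍ[ℝ]} (h4 : qip m m = 4) (x y : Fin 3 → ℍ[ℝ]) :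
    qip (qrefl m x) (qrefl m y) = qip x y := by
  rw [qrefl_eq, qrefl_eq, qip_sub_left, qip_sub_right, qip_sub_right, qip_lsmul_left,
    qip_lsmul_left, qip_lsmul_right, qip_lsmul_right, h4, star_half_smul, qip_star]
  have f4 : ∀ b : ℍ[ℝ], 4 * b = (4 : ℝ) • b := fun b => by
    rw [← coe_four, Quaternion.coe_mul_eq_smul]
  have e1 : (1 / 2 : ℝ) • qip x m * (4 * (1 / 2 : ℝ) • qip m y)
      = (1 / 2 : ℝ) • qip x m * qip m y + qip x m * (1 / 2 : ℝ) • qip m y := by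
    rw [f4]
    simp only [smul_mul_assoc, mul_smul_comm, smul_smul, ← add_smul]
    norm_num
  rw [e1]; abel

theorem qrefl_sub (m x y : Fin 3 → ℍ[ℝ]) : qrefl m (x - y) = qrefl m x - qrefl m y := by
  funext t
  simp only [qrefl, qip_sub_left, Pi.sub_apply, smul_sub, sub_mul]
  abel

theorem qip_lsmul_left' (a : ℍ[ℝ]) (x r : Fin 3 → ℍ[ℝ]) : qip (lsmul a x) r = a * qip x r :=
  qip_lsmul_left a x r

theorem qrefl_lsmul_arg (m : Fin 3 → ℍ[ℝ]) (c : ℍ[ℝ]) (x : Fin 3 → ℍ[ℝ]) :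
    qrefl m (lsmul c x) = lsmul c (qrefl m x) := by
  funext t
  simp only [qrefl, qip_lsmul_left, lsmul_apply, mul_sub, smul_mul_assoc, mul_smul_comm, mul_assoc]

/-- Conjugating a reflection by a reflection gives the reflection in the image vector. -/
theorem qrefl_conj {m : Fin 3 → ℍ[ℝ]} (h4 : qip m m = 4) (r x : Fin 3 → ℍ[ℝ]) :
    qrefl m (qrefl r (qrefl m x)) = qrefl (qrefl m r) x := by
  have e : qip (qrefl m x) r = qip x (qrefl m r) := by
    have := qip_qrefl h4 (qrefl m x) r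
    rw [qrefl_invol h4] at this
    exact this.symm
  rw [qrefl_eq (r := r), qrefl_sub, qrefl_invol h4, qrefl_lsmul_arg, e]
  rfl

theorem reflPerm_inv (r : Fin 3 → ℍ[ℝ]) (hr : r ∈ icoLeech) (h4 : qip r r = 4) :
    (reflPerm r hr h4)⁻¹ = reflPerm r hr h4 := rfl

theorem reflPerm_conj {m r : Fin 3 → ℍ[ℝ]} (hm : m ∈ icoLeech) (hm4 : qip m m = 4)
    (hr : r ∈ icoLeech) (hr4 : qip r r = 4) :
    reflPerm m hm hm4 * reflPerm r hr hr4 * (reflPerm m hm hm4)⁻¹ =
      reflPerm (qrefl m r) (qrefl_mem hm hr) (by rw [qip_qrefl hm4, hr4]) := by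
  rw [reflPerm_inv]
  ext x : 2
  simp only [Equiv.Perm.coe_mul, Function.comp_apply, reflPerm_apply]
  exact qrefl_conj hm4 r x

theorem reflPerm_congr {r r' : Fin 3 → ℍ[ℝ]} (hr : r ∈ icoLeech) (h4 : qip r r = 4)
    (hr' : r' ∈ icoLeech) (h4' : qip r' r' = 4) (h : ∀ x, qrefl r x = qrefl r' x) :
    reflPerm r hr h4 = reflPerm r' hr' h4' := by
  ext x : 2
  simp only [reflPerm_apply]
  exact h x

theorem reflPerm_mem_twoJ2 (r : Fin 3 → ℍ[ℝ]) (hr : r ∈ icoLeech) (h4 : qip r r = 4) :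
    reflPerm r hr h4 ∈ twoJ2 :=
  Subgroup.subset_closure ((isIcoReflection_iff _).2 ⟨r, hr, h4, rfl⟩)

end Cfsg.Agent.Lib.Helper26_Ico
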