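import Cfsg.Agent.Lib.Helper26_IcoMin

/-!
# Counting the minimal vectors and the reflections of the icosian Leech lattice (helper26)
-/

set_option autoImplicit false
set_option linter.constructorNameAsVariable false

namespace Cfsg.Agent.Lib.Helper26_Ico

open Quaternion Cfsg.Spor

/-! ### Soundness of the lists, bridged to quaternions -/

theorem blk_lengths {L : List ℤ} (h : L.length = 24) :
    (blk0 L).length = 8 ∧ (blk1 L).length = 8 ∧ (blk2 L).length = 8 := by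
  simp [blk0, blk1, blk2, h]

theorem toL_ofL3 {L : List ℤ} (h : L.length = 24) :
    toL (ofL3 L 0) = blk0 L ∧ toL (ofL3 L 1) = blk1 L ∧ toL (ofL3 L 2) = blk2 L := by
  obtain ⟨h0, h1, h2⟩ := blk_lengths h
  exact ⟨toL_ofL _ h0, toL_ofL _ h1, toL_ofL _ h2⟩

theorem line_mem {L : List ℤ} (hL : L ∈ LinesL) :
    toH3 (ofL3 L) ∈ icoLeech ∧ qip (toH3 (ofL3 L)) (toH3 (ofL3 L)) = 4 := by
  obtain ⟨h24, hl, hp, hq⟩ := Lines_sound L hL
  obtain ⟨e0, e1, e2⟩ := toL_ofL3 h24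
  rw [← e0, ← e1, ← e2] at hl hp hq
  rw [toH3_mem_iff, qip_toH3_eq_four_iff]
  refine ⟨(inLaml_toL _).1 hl, ?_, ?_⟩
  · simpa only [PZl_toL] using hp
  · simpa only [QZl_toL] using hq

theorem unit_mem {l : List ℤ} (hl : l ∈ UZl) :
    toH (ofL l) ∈ icosians ∧ Quaternion.normSq (toH (ofL l)) = 1 ∧ toL (ofL l) = l := by
  obtain ⟨h8, hi, hp, hq⟩ := UZl_sound l hl
  have e := toL_ofL l h8
  rw [← e] at hi hp hq
  refine ⟨toH_mem_icosians ((inIZl_toL _).1 hi), (normSq_eq_one_iff _).2 ⟨?_, ?_⟩, e⟩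
  · simpa only [PZl_toL] using hp
  · simpa only [QZl_toL] using hq

/-! ### Gram invariants -/

def gramW (w : Fin 3 → Fin 8 → ℤ) : List ℤ := gramL (toL (w 0)) (toL (w 1)) (toL (w 2))

theorem gramW_eq (w : Fin 3 → Fin 8 → ℤ) :
    gramW w = toL (mulZ (conjZ (w 0)) (w 0)) ++ toL (mulZ (conjZ (w 0)) (w 1)) ++
      toL (mulZ (conjZ (w 0)) (w 2)) ++ toL (mulZ (conjZ (w 1)) (w 1)) ++
      toL (mulZ (conjZ (w 1)) (w 2)) ++ toL (mulZ (conjZ (w 2)) (w 2)) := rfl

theorem mulZ_conj_eq_of {w w' : Fin 3 → Fin 8 → ℤ} {u u' : ℍ[ℝ]} (hu : star u * u = 1)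
    (hu' : star u' * u' = 1) (h : lsmul u (toH3 w) = lsmul u' (toH3 w')) (s t : Fin 3) :
    mulZ (conjZ (w s)) (w t) = mulZ (conjZ (w' s)) (w' t) := by
  have hs := congrFun h s
  have ht := congrFun h t
  simp only [lsmul_apply, toH3_apply] at hs ht
  have e : star (toH (w s)) * toH (w t) = star (toH (w' s)) * toH (w' t) := by
    calc star (toH (w s)) * toH (w t) = star (toH (w s)) * (star u * u) * toH (w t) := by
          rw [hu, mul_one]
      _ = star (u * toH (w s)) * (u * toH (w t)) := by rw [star_mul]; simp only [mul_assoc]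
      _ = star (u' * toH (w' s)) * (u' * toH (w' t)) := by rw [hs, ht]
      _ = star (toH (w' s)) * (star u' * u') * toH (w' t) := by rw [star_mul]; simp only [mul_assoc]
      _ = star (toH (w' s)) * toH (w' t) := by rw [hu', mul_one]
  rw [toH_conj, toH_conj, toH_mul, toH_mul] at e
  apply toH_inj
  have := congrArg (fun x : ℍ[ℝ] => (2 : ℝ) • x) e
  simpa [smul_smul] using this

theorem gramW_eq_of {w w' : Fin 3 → Fin 8 → ℤ} {u u' : ℍ[ℝ]} (hu : star u * u = 1)
    (hu' : star u' * u' = 1) (h : lsmul u (toH3 w) = lsmul u' (toH3 w')) : gramW w = gramW w' := by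
  rw [gramW_eq, gramW_eq]
  simp only [mulZ_conj_eq_of hu hu' h]

theorem gramW_ofL3 {L : List ℤ} (hL : L ∈ LinesL) :
    gramW (ofL3 L) = gramL (blk0 L) (blk1 L) (blk2 L) := by
  obtain ⟨h24, -⟩ := Lines_sound L hL
  obtain ⟨e0, e1, e2⟩ := toL_ofL3 h24
  rw [gramW, e0, e1, e2]

theorem line_eq_of_gram {L L' : List ℤ} (hL : L ∈ LinesL) (hL' : L' ∈ LinesL)
    (h : gramW (ofL3 L) = gramW (ofL3 L')) : L = L' := by
  rw [gramW_ofL3 hL, gramW_ofL3 hL'] at h
  have hn : (LinesL.map (fun L => gramL (blk0 L) (blk1 L) (blk2 L))).Nodup := by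
    rw [Lines_gram]; exact GramL_nodup
  exact List.inj_on_of_nodup_map hn hL hL' h

theorem LinesL_nodup : LinesL.Nodup := by
  have hn : (LinesL.map (fun L => gramL (blk0 L) (blk1 L) (blk2 L))).Nodup := by
    rw [Lines_gram]; exact GramL_nodup
  exact hn.of_map _

/-! ### The minimal vectors -/

/-- The set of minimal vectors. -/
def Smin : Set (Fin 3 → ℍ[ℝ]) := {r | r ∈ icoLeech ∧ qip r r = 4}

noncomputable def minMap (p : List ℤ × List ℤ) : Fin 3 → ℍ[ℝ] :=
  lsmul (toH (ofL p.1)) (toH3 (ofL3 p.2))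

theorem four_ne_zero' : (4 : ℍ[ℝ]) ≠ 0 := by
  rw [← coe_four]; intro h
  have := congrArg QuaternionAlgebra.re h
  simp at this

theorem exists_ne_zero_of_qip {r : Fin 3 → ℍ[ℝ]} (h4 : qip r r = 4) : ∃ t, r t ≠ 0 := by
  by_contra h
  simp only [not_exists, not_not] at h
  rw [qip_def, h 0, h 1, h 2] at h4
  simp at h4
  exact four_ne_zero' h4.symm

theorem Smin_eq : Smin = minMap '' ((UZl.toFinset ×ˢ LinesL.toFinset : Finset _) : Set _) := by
  ext r
  constructor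
  · rintro ⟨hr, h4⟩
    obtain ⟨u, hu, nu, w, hw, e⟩ := classify hr h4
    obtain ⟨υ, iυ, rfl⟩ := icosians_le _ hu
    obtain ⟨p1, p2⟩ := (normSq_eq_one_iff _).1 nu
    refine ⟨(toL υ, toL3 w), ?_, ?_⟩
    · simp only [Finset.coe_product, List.coe_toFinset, Set.mem_prod, Set.mem_ofPred_eq]
      exact ⟨UZl_complete iυ p1 p2, hw⟩
    · rw [minMap, ofL_toL, ofL3_toL3, e]
  · rintro ⟨⟨lu, L⟩, hp, rfl⟩
    simp only [Finset.coe_product, List.coe_toFinset, Set.mem_prod, Set.mem_ofPred_eq] at hp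
    obtain ⟨hu, nu, -⟩ := unit_mem hp.1
    obtain ⟨hl, h4⟩ := line_mem hp.2
    obtain ⟨-, e2⟩ := unit_of_normSq_one nu
    refine ⟨icoLeech_lsmul hu hl, ?_⟩
    rw [minMap, qip_lsmul_left, qip_lsmul_right, h4, ← mul_assoc, four_comm, mul_assoc, e2,
      mul_one]

theorem minMap_injOn :
    Set.InjOn minMap ((UZl.toFinset ×ˢ LinesL.toFinset : Finset _) : Set _) := by
  rintro ⟨lu, L⟩ hp ⟨lu', L'⟩ hp' h
  simp only [Finset.coe_product, List.coe_toFinset, Set.mem_prod, Set.mem_ofPred_eq] at hp hp'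
  obtain ⟨hu, nu, eu⟩ := unit_mem hp.1
  obtain ⟨hu', nu', eu'⟩ := unit_mem hp'.1
  have hLL : L = L' := line_eq_of_gram hp.2 hp'.2
    (gramW_eq_of (unit_of_normSq_one nu).1 (unit_of_normSq_one nu').1 h)
  subst hLL
  obtain ⟨-, h4⟩ := line_mem hp.2
  obtain ⟨t, ht⟩ := exists_ne_zero_of_qip h4
  have := congrFun h t
  simp only [minMap, lsmul_apply] at this
  have huu : toH (ofL lu) = toH (ofL lu') := mul_right_cancel₀ ht this
  have := toH_inj huu
  rw [← eu, ← eu', this]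

theorem Smin_ncard : Smin.ncard = 37800 := by
  rw [Smin_eq, Set.InjOn.ncard_image minMap_injOn, Set.ncard_coe_finset, Finset.card_product,
    List.toFinset_card_of_nodup UZl_nodup, List.toFinset_card_of_nodup LinesL_nodup, UZl_length,
    LinesL_length]

/-! ### The reflections -/

open Classical in
noncomputable def lineRefl (L : List ℤ) : Equiv.Perm icoLeech :=
  if h : toH3 (ofL3 L) ∈ icoLeech ∧ qip (toH3 (ofL3 L)) (toH3 (ofL3 L)) = 4 then
    reflPerm _ h.1 h.2 else 1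

theorem lineRefl_eq {L : List ℤ} (hL : L ∈ LinesL) :
    lineRefl L = reflPerm _ (line_mem hL).1 (line_mem hL).2 := by
  rw [lineRefl, dif_pos (line_mem hL)]

theorem refl_set_eq :
    {f : Equiv.Perm icoLeech | IsIcoReflection f} = lineRefl '' (LinesL.toFinset : Set _) := by
  ext f
  simp only [Set.mem_ofPred_eq, List.coe_toFinset, Set.mem_image]
  constructor
  · intro hf
    obtain ⟨r, hr, h4, rfl⟩ := (isIcoReflection_iff f).1 hf
    obtain ⟨u, hu, nu, w, hw, e⟩ := classify hr h4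
    refine ⟨toL3 w, hw, ?_⟩
    rw [lineRefl_eq hw]
    ext x : 2
    simp only [reflPerm_apply]
    rw [ofL3_toL3, e, qrefl_lsmul (unit_of_normSq_one nu).1]
  · rintro ⟨L, hL, rfl⟩
    rw [lineRefl_eq hL, isIcoReflection_iff]
    exact ⟨_, _, _, rfl⟩

theorem lineRefl_injOn : Set.InjOn lineRefl (LinesL.toFinset : Set _) := by
  intro L hL L' hL' h
  simp only [List.coe_toFinset, Set.mem_ofPred_eq] at hL hL'
  rw [lineRefl_eq hL, lineRefl_eq hL'] at h
  obtain ⟨m, h4⟩ := line_mem hL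
  obtain ⟨m', h4'⟩ := line_mem hL'
  set ℓ := toH3 (ofL3 L) with hℓ
  set ℓ' := toH3 (ofL3 L') with hℓ'
  have hx := congrArg (fun g : Equiv.Perm icoLeech => ((g ⟨ℓ, m⟩ : icoLeech) : Fin 3 → ℍ[ℝ])) h
  simp only [reflPerm_apply] at hx
  -- `qrefl ℓ ℓ = -ℓ`
  have e1 : qrefl ℓ ℓ = -ℓ := by
    funext t
    simp only [qrefl, h4, Pi.neg_apply]
    rw [show ((1 / 2 : ℝ) • (4 : ℍ[ℝ])) = 2 by
      rw [← coe_four, ← Quaternion.coe_smul, ← coe_two]; norm_num]
    rw [two_mul]; abel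
  rw [e1] at hx
  -- hence `ℓ = c ℓ'`
  set c : ℍ[ℝ] := (1 / 4 : ℝ) • qip ℓ ℓ' with hc
  have e2 : ℓ = lsmul c ℓ' := by
    funext t
    have := congrFun hx t
    simp only [qrefl, Pi.neg_apply] at this
    have h2 : ((1 / 2 : ℝ) • qip ℓ ℓ') * ℓ' t = 2 * ℓ t := by
      rw [two_mul]
      have : ℓ t + ℓ t = ℓ t - -ℓ t := by abel
      rw [this]
      conv_rhs => rw [‹-ℓ t = ℓ t - (1 / 2 : ℝ) • qip ℓ ℓ' * ℓ' t›]
      abel
    rw [lsmul_apply, hc]
    have : (2 : ℍ[ℝ]) * ((1 / 4 : ℝ) • qip ℓ ℓ' * ℓ' t) = 2 * ℓ t := by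
      rw [← h2, smul_mul_assoc, smul_mul_assoc, two_mul, ← add_smul]; norm_num
    exact (mul_left_cancel₀ two_ne_zero' this).symm
  have nc : star c * c = 1 := by
    have := h4
    rw [e2, qip_lsmul_left, qip_lsmul_right, h4', ← mul_assoc, four_comm, mul_assoc] at this
    have h1 : c * star c = 1 := by
      have h44 : (4 : ℍ[ℝ]) * (c * star c) = 4 * 1 := by rw [this, mul_one]
      exact mul_left_cancel₀ four_ne_zero' h44
    rw [Quaternion.self_mul_star] at h1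
    rw [Quaternion.star_mul_self]
    exact h1
  have one1 : star (1 : ℍ[ℝ]) * 1 = 1 := by simp
  have hl : lsmul 1 (toH3 (ofL3 L)) = lsmul c (toH3 (ofL3 L')) := by
    rw [lsmul_one]; exact e2
  exact line_eq_of_gram hL hL' (gramW_eq_of one1 nc hl)

theorem refl_ncard : {f : Equiv.Perm icoLeech | IsIcoReflection f}.ncard = 315 := by
  rw [refl_set_eq, Set.InjOn.ncard_image lineRefl_injOn, Set.ncard_coe_finset,
    List.toFinset_card_of_nodup LinesL_nodup, LinesL_length]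

end Cfsg.Agent.Lib.Helper26_Ico
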