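import Cfsg.Agent.Lib.Helper26_IcoLeech
import Cfsg.Agent.Lib.Helper26_IcoData

/-!
# Decidable coordinates for the icosian Leech lattice and the finite enumerations (helper26)
-/

set_option autoImplicit false

namespace Cfsg.Agent.Lib.Helper26_Ico

open Quaternion Cfsg.Spor

/-! ### Divisibility by 4 -/

def div4 (v : Fin 8 → ℤ) : Prop :=
  v 0 % 4 = 0 ∧ v 1 % 4 = 0 ∧ v 2 % 4 = 0 ∧ v 3 % 4 = 0 ∧
  v 4 % 4 = 0 ∧ v 5 % 4 = 0 ∧ v 6 % 4 = 0 ∧ v 7 % 4 = 0

instance : DecidablePred div4 := fun v => by unfold div4; infer_instance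

def quot4 (v : Fin 8 → ℤ) : Fin 8 → ℤ :=
  ![v 0 / 4, v 1 / 4, v 2 / 4, v 3 / 4, v 4 / 4, v 5 / 4, v 6 / 4, v 7 / 4]

def half (v : Fin 8 → ℤ) : Fin 8 → ℤ :=
  ![v 0 / 2, v 1 / 2, v 2 / 2, v 3 / 2, v 4 / 2, v 5 / 2, v 6 / 2, v 7 / 2]

theorem eq_four_smul_quot4 {v : Fin 8 → ℤ} (h : div4 v) : v = (4 : ℤ) • quot4 v := by
  unfold div4 at h
  funext k
  fin_cases k <;> simp [quot4] <;> omega

theorem div4_four_smul (u : Fin 8 → ℤ) : div4 ((4 : ℤ) • u) ∧ quot4 ((4 : ℤ) • u) = u := by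
  constructor
  · unfold div4; simp
  · funext k
    fin_cases k <;> simp [quot4]

theorem half_two_smul (u : Fin 8 → ℤ) : half ((2 : ℤ) • u) = u := by
  funext k
  fin_cases k <;> simp [half]

theorem quarter_mem_iff (m : Fin 8 → ℤ) :
    (1 / 4 : ℝ) • toH m ∈ icosians ↔ div4 m ∧ inIZ (quot4 m) := by
  constructor
  · intro h
    obtain ⟨u, hu, e⟩ := icosians_le _ h
    have : m = (4 : ℤ) • u := by
      apply toH_inj
      rw [toH_zsmul, ← e, ← Int.cast_smul_eq_zsmul ℝ, smul_smul]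
      norm_num
    rw [this]
    obtain ⟨h1, h2⟩ := div4_four_smul u
    exact ⟨h1, by rwa [h2]⟩
  · rintro ⟨h1, h2⟩
    have e := eq_four_smul_quot4 h1
    have : (1 / 4 : ℝ) • toH m = toH (quot4 m) := by
      conv_lhs => rw [e]
      rw [toH_zsmul, ← Int.cast_smul_eq_zsmul ℝ, smul_smul]
      norm_num
    rw [this]
    exact toH_mem_icosians h2

def inIh (v : Fin 8 → ℤ) : Prop := div4 (mulZ v hbZ) ∧ inIZ (quot4 (mulZ v hbZ))
def inIhb (v : Fin 8 → ℤ) : Prop := div4 (mulZ v hZ) ∧ inIZ (quot4 (mulZ v hZ))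

instance : DecidablePred inIh := fun v => by unfold inIh; infer_instance
instance : DecidablePred inIhb := fun v => by unfold inIhb; infer_instance

theorem toH_mem_Ih_iff (v : Fin 8 → ℤ) : toH v ∈ leftIdeal icoH ↔ inIh v := by
  rw [mem_leftIdeal_iff icoH_mem normSq_icoH, ← toH_hbZ, toH_mul, smul_smul, inIh,
    ← quarter_mem_iff]
  norm_num

theorem toH_mem_Ihb_iff (v : Fin 8 → ℤ) : toH v ∈ leftIdeal (star icoH) ↔ inIhb v := by
  rw [mem_leftIdeal_iff star_icoH_mem normSq_star_icoH, star_star, ← toH_hZ, toH_mul, smul_smul,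
    inIhb, ← quarter_mem_iff]
  norm_num

/-! ### Lattice coordinates -/

noncomputable def toH3 (w : Fin 3 → Fin 8 → ℤ) : Fin 3 → ℍ[ℝ] := fun t => toH (w t)

@[simp] theorem toH3_apply (w : Fin 3 → Fin 8 → ℤ) (t : Fin 3) : toH3 w t = toH (w t) := rfl

def inLam (w : Fin 3 → Fin 8 → ℤ) : Prop :=
  (inIZ (w 0) ∧ inIZ (w 1) ∧ inIZ (w 2)) ∧ inIh (w 0 - w 1) ∧ inIh (w 1 - w 2) ∧
    inIhb (w 0 + w 1 + w 2)

instance : DecidablePred inLam := fun w => by unfold inLam; infer_instance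

theorem toH3_mem_iff (w : Fin 3 → Fin 8 → ℤ) : toH3 w ∈ icoLeech ↔ inLam w := by
  unfold icoLeech inLam
  simp only [Set.mem_ofPred_eq, toH3_apply, ← toH_sub, ← toH_add, toH_mem_Ih_iff, toH_mem_Ihb_iff,
    toH_mem_iff, Fin.forall_fin_succ]
  simp only [IsEmpty.forall_iff, and_true]
  rfl

theorem exists_coords {r : Fin 3 → ℍ[ℝ]} (hr : r ∈ icoLeech) :
    ∃ w, inLam w ∧ r = toH3 w := by
  have h := hr.1
  choose w hw using fun t => icosians_le _ (h t)
  have e : r = toH3 w := by funext t; exact (hw t).2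
  refine ⟨w, ?_, e⟩
  rw [← toH3_mem_iff, ← e]; exact hr

/-! ### Norms -/

theorem qip_self (r : Fin 3 → ℍ[ℝ]) :
    qip r r = ((Quaternion.normSq (r 0) + Quaternion.normSq (r 1) + Quaternion.normSq (r 2) : ℝ) :
      ℍ[ℝ]) := by
  rw [qip_def, Quaternion.self_mul_star, Quaternion.self_mul_star, Quaternion.self_mul_star]
  push_cast; rfl

theorem coe_four : ((4 : ℝ) : ℍ[ℝ]) = 4 := by norm_cast

theorem qip_self_eq_four_iff (r : Fin 3 → ℍ[ℝ]) :
    qip r r = 4 ↔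
      Quaternion.normSq (r 0) + Quaternion.normSq (r 1) + Quaternion.normSq (r 2) = 4 := by
  rw [qip_self, ← coe_four, Quaternion.coe_inj]

theorem normSq_sum_iff (w : Fin 3 → Fin 8 → ℤ) (c : ℤ) :
    Quaternion.normSq (toH (w 0)) + Quaternion.normSq (toH (w 1)) + Quaternion.normSq (toH (w 2))
      = c ↔
    PZ (w 0) + PZ (w 1) + PZ (w 2) = 4 * c ∧ QZ (w 0) + QZ (w 1) + QZ (w 2) = 0 := by
  rw [normSq_toH, normSq_toH, normSq_toH]
  constructor
  · intro h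
    have := zt_inj (a := PZ (w 0) + PZ (w 1) + PZ (w 2)) (b := QZ (w 0) + QZ (w 1) + QZ (w 2))
      (c := 4 * c) (d := 0) (by push_cast; linarith)
    exact this
  · rintro ⟨h1, h2⟩
    have h1' : (PZ (w 0) : ℝ) + PZ (w 1) + PZ (w 2) = 4 * c := by exact_mod_cast h1
    have h2' : (QZ (w 0) : ℝ) + QZ (w 1) + QZ (w 2) = 0 := by exact_mod_cast h2
    linear_combination (1 / 4 : ℝ) * h1' + (tau / 4) * h2'

theorem qip_toH3_eq_four_iff (w : Fin 3 → Fin 8 → ℤ) :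
    qip (toH3 w) (toH3 w) = 4 ↔
      PZ (w 0) + PZ (w 1) + PZ (w 2) = 16 ∧ QZ (w 0) + QZ (w 1) + QZ (w 2) = 0 := by
  rw [qip_self_eq_four_iff]
  have := normSq_sum_iff w 4
  simpa using this

/-! ### Lists -/

def toL (v : Fin 8 → ℤ) : List ℤ := [v 0, v 1, v 2, v 3, v 4, v 5, v 6, v 7]

def ofL (l : List ℤ) : Fin 8 → ℤ := fun k => l.getD k.val 0

theorem ofL_toL (v : Fin 8 → ℤ) : ofL (toL v) = v := by
  funext k
  fin_cases k <;> rfl

theorem toL_ofL : ∀ (l : List ℤ), l.length = 8 → toL (ofL l) = l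
  | [_, _, _, _, _, _, _, _], _ => rfl

theorem toL_length (v : Fin 8 → ℤ) : (toL v).length = 8 := rfl

theorem toL_inj {v w : Fin 8 → ℤ} (h : toL v = toL w) : v = w := by
  rw [← ofL_toL v, h, ofL_toL]

def toL3 (w : Fin 3 → Fin 8 → ℤ) : List ℤ := toL (w 0) ++ toL (w 1) ++ toL (w 2)

def blk0 (L : List ℤ) : List ℤ := L.take 8
def blk1 (L : List ℤ) : List ℤ := (L.drop 8).take 8
def blk2 (L : List ℤ) : List ℤ := L.drop 16

def ofL3 (L : List ℤ) : Fin 3 → Fin 8 → ℤ := ![ofL (blk0 L), ofL (blk1 L), ofL (blk2 L)]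

theorem blk0_toL3 (w : Fin 3 → Fin 8 → ℤ) : blk0 (toL3 w) = toL (w 0) := rfl
theorem blk1_toL3 (w : Fin 3 → Fin 8 → ℤ) : blk1 (toL3 w) = toL (w 1) := rfl
theorem blk2_toL3 (w : Fin 3 → Fin 8 → ℤ) : blk2 (toL3 w) = toL (w 2) := rfl

theorem ofL3_toL3 (w : Fin 3 → Fin 8 → ℤ) : ofL3 (toL3 w) = w := by
  funext t
  fin_cases t
  · exact ofL_toL (w 0)
  · exact ofL_toL (w 1)
  · exact ofL_toL (w 2)

/-! ### List-level arithmetic (fast in the kernel) -/

def PZl : List ℤ → ℤ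
  | [a0, a1, a2, a3, a4, a5, a6, a7] => a0 * a0 + a1 * a1 + a2 * a2 + a3 * a3 + a4 * a4 + a5 * a5 + a6 * a6 + a7 * a7
  | _ => 0

def QZl : List ℤ → ℤ
  | [a0, a1, a2, a3, a4, a5, a6, a7] => 2 * a0 * a1 + a1 * a1 + 2 * a2 * a3 + a3 * a3 + 2 * a4 * a5 + a5 * a5
      + 2 * a6 * a7 + a7 * a7
  | _ => 0

def inIZl : List ℤ → Bool
  | [a0, a1, a2, a3, a4, a5, a6, a7] => (a4 + a1 + a2 + a3) % 2 == 0 && (a5 + a0 + a1 + a2) % 2 == 0 &&
      (a6 + a0 + a1 + a3) % 2 == 0 && (a7 + a0 + a2 + a3) % 2 == 0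
  | _ => false

def mulZl : List ℤ → List ℤ → List ℤ
  | [v0, v1, v2, v3, v4, v5, v6, v7], [w0, w1, w2, w3, w4, w5, w6, w7] =>
     [ztm v0 v1 w0 w1 - ztm v2 v3 w2 w3 - ztm v4 v5 w4 w5 - ztm v6 v7 w6 w7,
      ztn v0 v1 w0 w1 - ztn v2 v3 w2 w3 - ztn v4 v5 w4 w5 - ztn v6 v7 w6 w7,
      ztm v0 v1 w2 w3 + ztm v2 v3 w0 w1 + ztm v4 v5 w6 w7 - ztm v6 v7 w4 w5,
      ztn v0 v1 w2 w3 + ztn v2 v3 w0 w1 + ztn v4 v5 w6 w7 - ztn v6 v7 w4 w5,
      ztm v0 v1 w4 w5 - ztm v2 v3 w6 w7 + ztm v4 v5 w0 w1 + ztm v6 v7 w2 w3,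
      ztn v0 v1 w4 w5 - ztn v2 v3 w6 w7 + ztn v4 v5 w0 w1 + ztn v6 v7 w2 w3,
      ztm v0 v1 w6 w7 + ztm v2 v3 w4 w5 - ztm v4 v5 w2 w3 + ztm v6 v7 w0 w1,
      ztn v0 v1 w6 w7 + ztn v2 v3 w4 w5 - ztn v4 v5 w2 w3 + ztn v6 v7 w0 w1]
  | _, _ => []

def conjZl : List ℤ → List ℤ
  | [a0, a1, a2, a3, a4, a5, a6, a7] => [a0, a1, -a2, -a3, -a4, -a5, -a6, -a7]
  | _ => []

def addl : List ℤ → List ℤ → List ℤ
  | [v0, v1, v2, v3, v4, v5, v6, v7], [w0, w1, w2, w3, w4, w5, w6, w7] => [v0 + w0, v1 + w1, v2 + w2, v3 + w3, v4 + w4, v5 + w5, v6 + w6, v7 + w7]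
  | _, _ => []

def subl : List ℤ → List ℤ → List ℤ
  | [v0, v1, v2, v3, v4, v5, v6, v7], [w0, w1, w2, w3, w4, w5, w6, w7] => [v0 - w0, v1 - w1, v2 - w2, v3 - w3, v4 - w4, v5 - w5, v6 - w6, v7 - w7]
  | _, _ => []

def div4l : List ℤ → Bool
  | [a0, a1, a2, a3, a4, a5, a6, a7] => a0 % 4 == 0 && a1 % 4 == 0 && a2 % 4 == 0 && a3 % 4 == 0 && a4 % 4 == 0 &&
      a5 % 4 == 0 && a6 % 4 == 0 && a7 % 4 == 0
  | _ => false

def quot4l : List ℤ → List ℤ
  | [a0, a1, a2, a3, a4, a5, a6, a7] => [a0 / 4, a1 / 4, a2 / 4, a3 / 4, a4 / 4, a5 / 4, a6 / 4, a7 / 4]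
  | _ => []

def halfl : List ℤ → List ℤ
  | [a0, a1, a2, a3, a4, a5, a6, a7] => [a0 / 2, a1 / 2, a2 / 2, a3 / 2, a4 / 2, a5 / 2, a6 / 2, a7 / 2]
  | _ => []

def zeroL : List ℤ := [0, 0, 0, 0, 0, 0, 0, 0]
def oneZl : List ℤ := [2, 0, 0, 0, 0, 0, 0, 0]
def twoZl : List ℤ := [4, 0, 0, 0, 0, 0, 0, 0]
def hZl : List ℤ := [1, -2, 1, 0, 1, 0, 1, 0]
def hbZl : List ℤ := [1, -2, -1, 0, -1, 0, -1, 0]

def inIhl (l : List ℤ) : Bool := div4l (mulZl l hbZl) && inIZl (quot4l (mulZl l hbZl))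
def inIhbl (l : List ℤ) : Bool := div4l (mulZl l hZl) && inIZl (quot4l (mulZl l hZl))

def inLaml (a b c : List ℤ) : Bool :=
  inIZl a && inIZl b && inIZl c && inIhl (subl a b) && inIhl (subl b c) &&
    inIhbl (addl (addl a b) c)

def gramL (a b c : List ℤ) : List ℤ :=
  mulZl (conjZl a) a ++ mulZl (conjZl a) b ++ mulZl (conjZl a) c ++ mulZl (conjZl b) b ++
    mulZl (conjZl b) c ++ mulZl (conjZl c) c

/-! ### Bridges -/

theorem PZl_toL (v : Fin 8 → ℤ) : PZl (toL v) = PZ v := by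
  simp only [PZl, toL, PZ]; ring

theorem QZl_toL (v : Fin 8 → ℤ) : QZl (toL v) = QZ v := by
  simp only [QZl, toL, QZ]; ring

theorem inIZl_toL (v : Fin 8 → ℤ) : inIZl (toL v) = true ↔ inIZ v := by
  simp only [inIZl, toL, inIZ, Bool.and_eq_true, beq_iff_eq, and_assoc]

theorem mulZl_toL (v w : Fin 8 → ℤ) : mulZl (toL v) (toL w) = toL (mulZ v w) := rfl

theorem conjZl_toL (v : Fin 8 → ℤ) : conjZl (toL v) = toL (conjZ v) := rfl

theorem addl_toL (v w : Fin 8 → ℤ) : addl (toL v) (toL w) = toL (v + w) := rfl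

theorem subl_toL (v w : Fin 8 → ℤ) : subl (toL v) (toL w) = toL (v - w) := rfl

theorem div4l_toL (v : Fin 8 → ℤ) : div4l (toL v) = true ↔ div4 v := by
  simp only [div4l, toL, div4, Bool.and_eq_true, beq_iff_eq, and_assoc]

theorem quot4l_toL (v : Fin 8 → ℤ) : quot4l (toL v) = toL (quot4 v) := rfl

theorem halfl_toL (v : Fin 8 → ℤ) : halfl (toL v) = toL (half v) := rfl

theorem toL_zero : toL 0 = zeroL := rfl
theorem toL_oneZ : toL oneZ = oneZl := rfl
theorem toL_hZ : toL hZ = hZl := rfl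
theorem toL_hbZ : toL hbZ = hbZl := rfl

theorem inIhl_toL (v : Fin 8 → ℤ) : inIhl (toL v) = true ↔ inIh v := by
  rw [inIhl, ← toL_hbZ, mulZl_toL, quot4l_toL, Bool.and_eq_true, div4l_toL, inIZl_toL, inIh]

theorem inIhbl_toL (v : Fin 8 → ℤ) : inIhbl (toL v) = true ↔ inIhb v := by
  rw [inIhbl, ← toL_hZ, mulZl_toL, quot4l_toL, Bool.and_eq_true, div4l_toL, inIZl_toL, inIhb]

theorem inLaml_toL (w : Fin 3 → Fin 8 → ℤ) :
    inLaml (toL (w 0)) (toL (w 1)) (toL (w 2)) = true ↔ inLam w := by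
  simp only [inLaml, Bool.and_eq_true, subl_toL, addl_toL, inIZl_toL, inIhl_toL, inIhbl_toL, inLam,
    and_assoc]

/-! ### The ball -/

def sqL : List ℤ := [-2, -1, 0, 1, 2]

theorem sum_sq_nonneg (l : List ℤ) : 0 ≤ (l.map fun x => x * x).sum := by
  induction l with
  | nil => simp
  | cons x l ih => simp only [List.map_cons, List.sum_cons]; nlinarith [mul_self_nonneg x]

/-- Bounded universal quantification over the ball, as a shallow tree. -/
def ballAllB : ℕ → ℤ → (List ℤ → Bool) → Bool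
  | 0, _, p => p []
  | n + 1, B, p => sqL.all fun x =>
      (!decide (x * x ≤ B)) || ballAllB n (B - x * x) (fun l => p (x :: l))

theorem ballAllB_spec : ∀ (n : ℕ) (B : ℤ) (p : List ℤ → Bool), ballAllB n B p = true → B ≤ 8 →
    ∀ l : List ℤ, l.length = n → (l.map fun x => x * x).sum ≤ B → p l = true := by
  intro n
  induction n with
  | zero =>
    intro B p h _ l hl _
    rw [List.length_eq_zero_iff] at hl
    subst hl
    simpa [ballAllB] using h
  | succ n ih =>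
    intro B p h hB l hl hs
    match l, hl with
    | x :: l', hl =>
      simp only [List.map_cons, List.sum_cons] at hs
      have h0 := sum_sq_nonneg l'
      have hx : x * x ≤ B := by linarith
      have hx1 : -2 ≤ x := by nlinarith
      have hx2 : x ≤ 2 := by nlinarith
      have hxm : x ∈ sqL := by
        interval_cases x <;> simp [sqL]
      rw [ballAllB, List.all_eq_true] at h
      have h' := h x hxm
      rw [Bool.or_eq_true] at h'
      rcases h' with h' | h'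
      · simp [hx] at h'
      · exact ih _ _ h' (by nlinarith [mul_self_nonneg x]) l' (by simpa using hl) (by linarith)

theorem ball_forall (p : List ℤ → Bool) (h : ballAllB 8 8 p = true) (v : Fin 8 → ℤ)
    (hv : PZ v ≤ 8) : p (toL v) = true := by
  refine ballAllB_spec 8 8 p h le_rfl (toL v) rfl ?_
  simp only [toL, List.map_cons, List.map_nil, List.sum_cons, List.sum_nil]
  unfold PZ at hv
  linarith

/-! ### Enumerations (kernel computations) -/

theorem UZl_sound : ∀ l ∈ UZl, l.length = 8 ∧ inIZl l = true ∧ PZl l = 4 ∧ QZl l = 0 := by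
  decide +kernel

theorem UZl_nodup : UZl.Nodup := by decide +kernel

theorem UZl_length : UZl.length = 120 := by decide +kernel

/-- One traversal of the ball: the units and the small icosians congruent to 1 mod `I h`. -/
theorem ball_aux : ballAllB 8 8 (fun l => !(inIZl l) ||
    ((!(PZl l == 4 && QZl l == 0) || decide (l ∈ UZl)) &&
     (!(inIhl (subl l oneZl)) || decide (l ∈ K1l)))) = true := by
  decide +kernel

theorem UZl_complete {v : Fin 8 → ℤ} (h1 : inIZ v) (h2 : PZ v = 4) (h3 : QZ v = 0) :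
    toL v ∈ UZl := by
  have := ball_forall _ ball_aux v (by omega)
  simp only [Bool.or_eq_true, Bool.not_eq_true', Bool.and_eq_true, decide_eq_true_eq,
    PZl_toL, QZl_toL] at this
  rcases this with h | ⟨h, -⟩
  · rw [← Bool.not_eq_true, inIZl_toL] at h; exact absurd h1 h
  · rcases h with h | h
    · rw [← Bool.not_eq_true, Bool.and_eq_true, beq_iff_eq, beq_iff_eq] at h
      exact absurd ⟨h2, h3⟩ h
    · exact h

theorem K1l_complete {v : Fin 8 → ℤ} (h0 : PZ v ≤ 8) (h1 : inIZ v) (h2 : inIh (v - oneZ)) :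
    toL v ∈ K1l := by
  have := ball_forall _ ball_aux v h0
  simp only [Bool.or_eq_true, Bool.not_eq_true', Bool.and_eq_true, decide_eq_true_eq] at this
  rcases this with h | ⟨-, h⟩
  · rw [← Bool.not_eq_true, inIZl_toL] at h; exact absurd h1 h
  · rcases h with h | h
    · rw [← Bool.not_eq_true, ← toL_oneZ, subl_toL, inIhl_toL] at h
      exact absurd h2 h
    · exact h


theorem A_mem : twoZl ++ zeroL ++ zeroL ∈ LinesL ∧ zeroL ++ twoZl ++ zeroL ∈ LinesL ∧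
    zeroL ++ zeroL ++ twoZl ∈ LinesL := by
  decide +kernel

theorem B_enum : ∀ l ∈ UZl, inIhbl (addl oneZl l) = true →
    (zeroL ++ hZl ++ halfl (mulZl l hZl) ∈ LinesL) ∧
    (hZl ++ zeroL ++ halfl (mulZl l hZl) ∈ LinesL) ∧
    (hZl ++ halfl (mulZl l hZl) ++ zeroL ∈ LinesL) := by
  decide +kernel

def unitPQ (l : List ℤ) : Bool := PZl l == 4 && QZl l == 0

theorem C_enum : ∀ y ∈ K1l, ∀ z ∈ K1l, (PZl y + PZl z == 12 && QZl y + QZl z == 0) = true →
    (inLaml oneZl y z = true → oneZl ++ y ++ z ∈ LinesL) ∧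
    (inLaml y oneZl z = true → unitPQ y = false → y ++ oneZl ++ z ∈ LinesL) ∧
    (inLaml y z oneZl = true → unitPQ y = false → unitPQ z = false →
      y ++ z ++ oneZl ∈ LinesL) := by
  decide +kernel

theorem Lines_sound : ∀ L ∈ LinesL, L.length = 24 ∧ inLaml (blk0 L) (blk1 L) (blk2 L) = true ∧
    PZl (blk0 L) + PZl (blk1 L) + PZl (blk2 L) = 16 ∧
    QZl (blk0 L) + QZl (blk1 L) + QZl (blk2 L) = 0 := by
  decide +kernel

theorem Lines_gram : LinesL.map (fun L => gramL (blk0 L) (blk1 L) (blk2 L)) = GramL := by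
  decide +kernel

theorem GramL_nodup : GramL.Nodup := by decide +kernel

theorem LinesL_length : LinesL.length = 315 := by decide +kernel

end Cfsg.Agent.Lib.Helper26_Ico
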