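import Cfsg.Agent.Lib.Helper26_IcoBase

/-!
# The icosian Leech lattice: ideals, module structure, integrality, reflections (helper26)
-/

set_option autoImplicit false

namespace Cfsg.Agent.Lib.Helper26_Ico

open Quaternion Cfsg.Spor

theorem coe_two : ((2 : ℝ) : ℍ[ℝ]) = 2 := by
  norm_cast

theorem two_mul_half_smul (y : ℍ[ℝ]) : 2 * ((1 / 2 : ℝ) • y) = y := by
  rw [two_mul, ← add_smul]; norm_num

theorem normSq_icoH : Quaternion.normSq icoH = 2 := by
  rw [← toH_hZ, normSq_toH]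
  simp [PZ, QZ, hZ]
  norm_num

theorem icoH_mem : icoH ∈ icosians := by
  rw [← toH_hZ]; exact toH_mem_icosians (by decide)

theorem star_icoH_mem : star icoH ∈ icosians := star_mem_icosians icoH_mem

theorem normSq_star_icoH : Quaternion.normSq (star icoH) = 2 := by
  rw [Quaternion.normSq_star, normSq_icoH]

/-- Membership in a left ideal generated by an icosian of norm 2. -/
theorem mem_leftIdeal_iff {q : ℍ[ℝ]} (hq : q ∈ icosians) (hn : Quaternion.normSq q = 2)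
    (x : ℍ[ℝ]) : x ∈ leftIdeal q ↔ (1 / 2 : ℝ) • (x * star q) ∈ icosians := by
  have h1 : q * star q = 2 := by rw [Quaternion.self_mul_star, hn, coe_two]
  have h2 : star q * q = 2 := by rw [Quaternion.star_mul_self, hn, coe_two]
  constructor
  · rintro ⟨a, ha, rfl⟩
    have : (1 / 2 : ℝ) • (a * q * star q) = a := by
      rw [mul_assoc, h1, mul_two, smul_add, ← add_smul]; norm_num
    rwa [this]
  · intro h
    refine ⟨_, h, ?_⟩
    rw [smul_mul_assoc, mul_assoc, h2, mul_two, smul_add, ← add_smul]; norm_num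

theorem leftIdeal_zero (q : ℍ[ℝ]) : (0 : ℍ[ℝ]) ∈ leftIdeal q :=
  ⟨0, zero_mem _, by simp⟩

theorem leftIdeal_add {q x y : ℍ[ℝ]} (hx : x ∈ leftIdeal q) (hy : y ∈ leftIdeal q) :
    x + y ∈ leftIdeal q := by
  obtain ⟨a, ha, rfl⟩ := hx
  obtain ⟨b, hb, rfl⟩ := hy
  exact ⟨a + b, add_mem ha hb, by rw [add_mul]⟩

theorem leftIdeal_neg {q x : ℍ[ℝ]} (hx : x ∈ leftIdeal q) : -x ∈ leftIdeal q := by
  obtain ⟨a, ha, rfl⟩ := hx
  exact ⟨-a, neg_mem ha, by rw [neg_mul]⟩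

theorem leftIdeal_sub {q x y : ℍ[ℝ]} (hx : x ∈ leftIdeal q) (hy : y ∈ leftIdeal q) :
    x - y ∈ leftIdeal q := by
  rw [sub_eq_add_neg]; exact leftIdeal_add hx (leftIdeal_neg hy)

theorem leftIdeal_mul {q a x : ℍ[ℝ]} (ha : a ∈ icosians) (hx : x ∈ leftIdeal q) :
    a * x ∈ leftIdeal q := by
  obtain ⟨b, hb, rfl⟩ := hx
  exact ⟨a * b, mul_mem ha hb, by rw [mul_assoc]⟩

theorem leftIdeal_sub_icosians {q x : ℍ[ℝ]} (hq : q ∈ icosians) (hx : x ∈ leftIdeal q) :
    x ∈ icosians := by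
  obtain ⟨b, hb, rfl⟩ := hx
  exact mul_mem hb hq

/-- `2I ⊆ I q` when `N(q) = 2`. -/
theorem two_mul_mem_leftIdeal {q : ℍ[ℝ]} (hq : q ∈ icosians) (hn : Quaternion.normSq q = 2)
    {x : ℍ[ℝ]} (hx : x ∈ icosians) : 2 * x ∈ leftIdeal q := by
  rw [mem_leftIdeal_iff hq hn]
  have : (1 / 2 : ℝ) • (2 * x * star q) = x * star q := by
    rw [mul_assoc, two_mul, smul_add, ← add_smul]; norm_num
  rw [this]
  exact mul_mem hx (star_mem_icosians hq)

/-- `τ` as a quaternion. -/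
theorem tau_mem : ((tau : ℝ) : ℍ[ℝ]) ∈ icosians := by
  have : ((tau : ℝ) : ℍ[ℝ]) = toH ![0, 2, 0, 0, 0, 0, 0, 0] := by
    apply Quaternion.ext <;> simp
  rw [this]; exact toH_mem_icosians (by decide)

theorem icoH_add_star : icoH + star icoH = ((1 - 2 * tau : ℝ) : ℍ[ℝ]) := by
  rw [← toH_hbZ, ← toH_hZ, ← toH_add]
  apply Quaternion.ext <;> simp [hZ, hbZ] <;> ring

/-- `I h ∩ I h̄ ⊆ 2 I`. -/
theorem inter_sub_two {x : ℍ[ℝ]} (h1 : x ∈ leftIdeal icoH) (h2 : x ∈ leftIdeal (star icoH)) :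
    ∃ d ∈ icosians, x = 2 * d := by
  have hx : x ∈ icosians := leftIdeal_sub_icosians icoH_mem h1
  rw [mem_leftIdeal_iff icoH_mem normSq_icoH] at h1
  rw [mem_leftIdeal_iff star_icoH_mem normSq_star_icoH, star_star] at h2
  refine ⟨(1 / 2 : ℝ) • (x * star icoH) + (1 / 2 : ℝ) • (x * icoH) + ((tau : ℝ) : ℍ[ℝ]) * x,
    add_mem (add_mem h1 h2) (mul_mem tau_mem hx), ?_⟩
  have e : x * star icoH + x * icoH = x * ((1 - 2 * tau : ℝ) : ℍ[ℝ]) := by
    rw [← mul_add, add_comm, icoH_add_star]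
  have e2 : x * ((1 - 2 * tau : ℝ) : ℍ[ℝ]) = x - 2 * (((tau : ℝ) : ℍ[ℝ]) * x) := by
    rw [← Quaternion.coe_commutes]
    push_cast
    rw [sub_mul, one_mul, mul_assoc, coe_two]
  rw [mul_add, mul_add, two_mul_half_smul, two_mul_half_smul, e, e2]
  abel

/-! ### The lattice as a left module -/

theorem icoLeech_add {x y : Fin 3 → ℍ[ℝ]} (hx : x ∈ icoLeech) (hy : y ∈ icoLeech) :
    x + y ∈ icoLeech := by
  obtain ⟨a1, a2, a3, a4⟩ := hx
  obtain ⟨b1, b2, b3, b4⟩ := hy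
  refine ⟨fun t => add_mem (a1 t) (b1 t), ?_, ?_, ?_⟩
  · have := leftIdeal_add a2 b2
    simp only [Pi.add_apply]; convert this using 1; abel
  · have := leftIdeal_add a3 b3
    simp only [Pi.add_apply]; convert this using 1; abel
  · have := leftIdeal_add a4 b4
    simp only [Pi.add_apply]; convert this using 1; abel

theorem icoLeech_neg {x : Fin 3 → ℍ[ℝ]} (hx : x ∈ icoLeech) : -x ∈ icoLeech := by
  obtain ⟨a1, a2, a3, a4⟩ := hx
  refine ⟨fun t => neg_mem (a1 t), ?_, ?_, ?_⟩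
  · have := leftIdeal_neg a2
    simp only [Pi.neg_apply]; convert this using 1; abel
  · have := leftIdeal_neg a3
    simp only [Pi.neg_apply]; convert this using 1; abel
  · have := leftIdeal_neg a4
    simp only [Pi.neg_apply]; convert this using 1; abel

theorem icoLeech_sub {x y : Fin 3 → ℍ[ℝ]} (hx : x ∈ icoLeech) (hy : y ∈ icoLeech) :
    x - y ∈ icoLeech := by
  rw [sub_eq_add_neg]; exact icoLeech_add hx (icoLeech_neg hy)

/-- Left scalar multiplication of a triple. -/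
noncomputable def lsmul (a : ℍ[ℝ]) (x : Fin 3 → ℍ[ℝ]) : Fin 3 → ℍ[ℝ] := fun t => a * x t

@[simp] theorem lsmul_apply (a : ℍ[ℝ]) (x : Fin 3 → ℍ[ℝ]) (t : Fin 3) : lsmul a x t = a * x t := rfl

theorem icoLeech_lsmul {a : ℍ[ℝ]} {x : Fin 3 → ℍ[ℝ]} (ha : a ∈ icosians) (hx : x ∈ icoLeech) :
    lsmul a x ∈ icoLeech := by
  obtain ⟨a1, a2, a3, a4⟩ := hx
  refine ⟨fun t => mul_mem ha (a1 t), ?_, ?_, ?_⟩
  · have := leftIdeal_mul ha a2
    simp only [lsmul_apply]; convert this using 1; rw [mul_sub]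
  · have := leftIdeal_mul ha a3
    simp only [lsmul_apply]; convert this using 1; rw [mul_sub]
  · have := leftIdeal_mul ha a4
    simp only [lsmul_apply]; convert this using 1; rw [mul_add, mul_add]

theorem lsmul_lsmul (a b : ℍ[ℝ]) (x : Fin 3 → ℍ[ℝ]) : lsmul a (lsmul b x) = lsmul (a * b) x := by
  funext t; simp [mul_assoc]

theorem lsmul_one (x : Fin 3 → ℍ[ℝ]) : lsmul 1 x = x := by
  funext t; simp

/-! ### The Hermitian product -/

theorem qip_def (x r : Fin 3 → ℍ[ℝ]) :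
    qip x r = x 0 * star (r 0) + x 1 * star (r 1) + x 2 * star (r 2) := by
  simp [qip, Fin.sum_univ_three]

theorem qip_lsmul_left (a : ℍ[ℝ]) (x r : Fin 3 → ℍ[ℝ]) : qip (lsmul a x) r = a * qip x r := by
  simp only [qip_def, lsmul_apply, mul_add, mul_assoc]

theorem qip_lsmul_right (a : ℍ[ℝ]) (x r : Fin 3 → ℍ[ℝ]) :
    qip x (lsmul a r) = qip x r * star a := by
  simp only [qip_def, lsmul_apply, add_mul, mul_assoc, star_mul]

theorem qip_sub_left (x y r : Fin 3 → ℍ[ℝ]) : qip (x - y) r = qip x r - qip y r := by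
  simp only [qip_def, Pi.sub_apply, sub_mul]; abel

theorem qip_mem {x r : Fin 3 → ℍ[ℝ]} (hx : x ∈ icoLeech) (hr : r ∈ icoLeech) :
    qip x r ∈ icosians := by
  rw [qip_def]
  exact add_mem (add_mem (mul_mem (hx.1 0) (star_mem_icosians (hr.1 0)))
    (mul_mem (hx.1 1) (star_mem_icosians (hr.1 1)))) (mul_mem (hx.1 2) (star_mem_icosians (hr.1 2)))

/-- The key integrality: `x·r ∈ 2I` for lattice vectors. -/
theorem qip_half_mem {x r : Fin 3 → ℍ[ℝ]} (hx : x ∈ icoLeech) (hr : r ∈ icoLeech) :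
    (1 / 2 : ℝ) • qip x r ∈ icosians := by
  have hI := qip_mem hx hr
  obtain ⟨-, ⟨a, ha, ea⟩, ⟨b, hb, eb⟩, ⟨c, hc, ec⟩⟩ := hx
  obtain ⟨-, ⟨a', ha', ea'⟩, ⟨b', hb', eb'⟩, ⟨c', hc', ec'⟩⟩ := hr
  have h1 : icoH * star icoH = 2 := by rw [Quaternion.self_mul_star, normSq_icoH, coe_two]
  have h2 : star icoH * icoH = 2 := by rw [Quaternion.star_mul_self, normSq_icoH, coe_two]
  have key : qip x r + qip x r + qip x r = (x 0 + x 1 + x 2) * star (r 0 + r 1 + r 2)
      + (x 0 - x 1) * star (r 0 - r 1) + (x 1 - x 2) * star (r 1 - r 2)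
      + ((x 0 - x 1) + (x 1 - x 2)) * star ((r 0 - r 1) + (r 1 - r 2)) := by
    rw [qip_def]
    simp only [star_add, star_sub, mul_add, add_mul, mul_sub, sub_mul]
    abel
  rw [ea, eb, ec, ea', eb', ec'] at key
  have e1 : ∀ p q : ℍ[ℝ], p * icoH * star (q * icoH) = 2 * (p * star q) := by
    intro p q
    rw [star_mul, mul_assoc, ← mul_assoc icoH, h1, two_mul, two_mul, mul_add]
  have e2 : ∀ p q : ℍ[ℝ], p * star icoH * star (q * star icoH) = 2 * (p * star q) := by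
    intro p q
    rw [star_mul, star_star, mul_assoc, ← mul_assoc (star icoH), h2, two_mul, two_mul, mul_add]
  rw [← add_mul, ← add_mul, e1, e1, e1, e2] at key
  have hm : c * star c' + a * star a' + b * star b' + (a + b) * star (a' + b') - qip x r
      ∈ icosians := by
    refine sub_mem (add_mem (add_mem (add_mem ?_ ?_) ?_) ?_) hI
    · exact mul_mem hc (star_mem_icosians hc')
    · exact mul_mem ha (star_mem_icosians ha')
    · exact mul_mem hb (star_mem_icosians hb')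
    · exact mul_mem (add_mem ha hb) (star_mem_icosians (add_mem ha' hb'))
  convert hm using 1
  have : qip x r = 2 * (c * star c' + a * star a' + b * star b' + (a + b) * star (a' + b')
      - qip x r) := by
    rw [mul_sub, mul_add, mul_add, mul_add, ← key, two_mul (qip x r)]; abel
  conv_lhs => rw [this]
  rw [two_mul, smul_add, ← add_smul]; norm_num

/-! ### Reflections -/

theorem qrefl_eq (r x : Fin 3 → ℍ[ℝ]) : qrefl r x = x - lsmul ((1 / 2 : ℝ) • qip x r) r := rfl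

theorem qrefl_mem {r x : Fin 3 → ℍ[ℝ]} (hr : r ∈ icoLeech) (hx : x ∈ icoLeech) :
    qrefl r x ∈ icoLeech := by
  rw [qrefl_eq]
  exact icoLeech_sub hx (icoLeech_lsmul (qip_half_mem hx hr) hr)

theorem qrefl_invol {r : Fin 3 → ℍ[ℝ]} (h4 : qip r r = 4) (x : Fin 3 → ℍ[ℝ]) :
    qrefl r (qrefl r x) = x := by
  have e : qip (qrefl r x) r = -qip x r := by
    rw [qrefl_eq, qip_sub_left, qip_lsmul_left, h4, smul_mul_assoc]
    rw [show (4 : ℍ[ℝ]) = 2 + 2 by norm_num, mul_add, mul_two, smul_add, ← add_smul]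
    norm_num
  rw [qrefl_eq (x := qrefl r x), e, qrefl_eq]
  funext t
  simp only [Pi.sub_apply, lsmul_apply, smul_neg, neg_mul]
  abel

/-- The reflection in a minimal vector, as a permutation of the lattice. -/
noncomputable def reflPerm (r : Fin 3 → ℍ[ℝ]) (hr : r ∈ icoLeech) (h4 : qip r r = 4) :
    Equiv.Perm icoLeech where
  toFun x := ⟨qrefl r x, qrefl_mem hr x.2⟩
  invFun x := ⟨qrefl r x, qrefl_mem hr x.2⟩
  left_inv x := Subtype.ext (qrefl_invol h4 x)
  right_inv x := Subtype.ext (qrefl_invol h4 x)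

@[simp] theorem reflPerm_apply (r : Fin 3 → ℍ[ℝ]) (hr : r ∈ icoLeech) (h4 : qip r r = 4)
    (x : icoLeech) : ((reflPerm r hr h4 x : icoLeech) : Fin 3 → ℍ[ℝ]) = qrefl r x := rfl

theorem isIcoReflection_iff (f : Equiv.Perm icoLeech) :
    IsIcoReflection f ↔ ∃ (r : Fin 3 → ℍ[ℝ]) (hr : r ∈ icoLeech) (h4 : qip r r = 4),
      f = reflPerm r hr h4 := by
  constructor
  · rintro ⟨r, h4, hf⟩
    refine ⟨r, r.2, h4, ?_⟩
    ext x : 2
    rw [hf x]; rfl
  · rintro ⟨r, hr, h4, rfl⟩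
    exact ⟨⟨r, hr⟩, h4, fun x => rfl⟩

/-- The reflection only depends on the line: `ρ_{u r} = ρ_r` for `N(u) = 1`. -/
theorem qrefl_lsmul {u : ℍ[ℝ]} (hu : star u * u = 1) (r x : Fin 3 → ℍ[ℝ]) :
    qrefl (lsmul u r) x = qrefl r x := by
  funext t
  simp only [qrefl, lsmul_apply, qip_lsmul_right]
  rw [smul_mul_assoc, smul_mul_assoc, mul_assoc, ← mul_assoc (star u), hu, one_mul]

end Cfsg.Agent.Lib.Helper26_Ico
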