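import Cfsg.Agent.Lib.Helper26_IcoEnum

/-!
# Classification of the minimal vectors of the icosian Leech lattice (helper26)
-/

set_option autoImplicit false

namespace Cfsg.Agent.Lib.Helper26_Ico

open Quaternion Cfsg.Spor

/-! ### Norm coordinates `PZ`, `QZ` -/

theorem PZ_nonneg (v : Fin 8 → ℤ) : 0 ≤ PZ v := by unfold PZ; positivity

theorem PZ_eq_zero {v : Fin 8 → ℤ} (h : PZ v = 0) : v = 0 := by
  unfold PZ at h
  funext k
  have h0 := sq_nonneg (v 0); have h1 := sq_nonneg (v 1); have h2 := sq_nonneg (v 2)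
  have h3 := sq_nonneg (v 3); have h4 := sq_nonneg (v 4); have h5 := sq_nonneg (v 5)
  have h6 := sq_nonneg (v 6); have h7 := sq_nonneg (v 7)
  fin_cases k <;> simp only [Pi.zero_apply] <;> apply pow_eq_zero_iff (two_ne_zero) |>.1 <;>
    first | (show v 0 ^ 2 = 0; omega) | (show v 1 ^ 2 = 0; omega) | (show v 2 ^ 2 = 0; omega)
          | (show v 3 ^ 2 = 0; omega) | (show v 4 ^ 2 = 0; omega) | (show v 5 ^ 2 = 0; omega)
          | (show v 6 ^ 2 = 0; omega) | (show v 7 ^ 2 = 0; omega)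

theorem PZ_zero : PZ 0 = 0 := by simp [PZ]
theorem QZ_zero : QZ 0 = 0 := by simp [QZ]

theorem mulZ_conjZ (v : Fin 8 → ℤ) : mulZ v (conjZ v) = ![PZ v, QZ v, 0, 0, 0, 0, 0, 0] := by
  funext k
  fin_cases k <;> simp [mulZ, conjZ, ztm, ztn, PZ, QZ] <;> ring

theorem PQ_mod4 {v : Fin 8 → ℤ} (hv : inIZ v) : PZ v % 4 = 0 ∧ QZ v % 4 = 0 := by
  have hc : inIZ (conjZ v) := by
    unfold inIZ at *
    simp only [conjZ, Matrix.cons_val]
    omega
  obtain ⟨u, hu, e⟩ := mulZ_closed hv hc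
  rw [mulZ_conjZ] at e
  have e0 := congrFun e 0
  have e1 := congrFun e 1
  have e2 := congrFun e 2
  have e3 := congrFun e 3
  have e4 := congrFun e 4
  have e5 := congrFun e 5
  simp at e0 e1 e2 e3 e4 e5
  unfold inIZ at hu
  omega

theorem sig_sq : sig * sig = sig + 1 := by
  rw [sig_eq]; linear_combination tau_sq

theorem tau_bounds : 1.618 < tau ∧ tau < 1.6181 := by
  unfold tau
  have h1 : (2.236 : ℝ) < Real.sqrt 5 := by
    rw [Real.lt_sqrt (by norm_num)]; norm_num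
  have h2 : Real.sqrt 5 < (2.2361 : ℝ) := by
    rw [Real.sqrt_lt' (by norm_num)]; norm_num
  constructor <;> linarith

theorem PQ_real_pos (v : Fin 8 → ℤ) :
    0 ≤ (PZ v : ℝ) + QZ v * tau ∧ 0 ≤ (PZ v : ℝ) + QZ v * sig := by
  constructor
  · have := Quaternion.normSq_nonneg (a := toH v)
    rw [normSq_toH] at this
    linarith
  · have : (PZ v : ℝ) + QZ v * sig = ((v 0 : ℝ) + v 1 * sig) ^ 2 + ((v 2 : ℝ) + v 3 * sig) ^ 2
        + ((v 4 : ℝ) + v 5 * sig) ^ 2 + ((v 6 : ℝ) + v 7 * sig) ^ 2 := by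
      unfold PZ QZ
      push_cast
      linear_combination (-((v 1 : ℝ) ^ 2 + v 3 ^ 2 + v 5 ^ 2 + v 7 ^ 2)) * sig_sq
    rw [this]; positivity

theorem PQ_pos (v : Fin 8 → ℤ) :
    0 ≤ 1000 * PZ v + 1618 * QZ v ∧ 618 * QZ v ≤ 1000 * PZ v := by
  obtain ⟨h1, h2⟩ := PQ_real_pos v
  obtain ⟨t1, t2⟩ := tau_bounds
  rw [sig_eq] at h2
  have hp : (0 : ℝ) ≤ PZ v := by exact_mod_cast PZ_nonneg v
  constructor
  · have : (0 : ℝ) ≤ 1000 * PZ v + 1618 * QZ v := by
      rcases le_or_gt 0 (QZ v : ℝ) with hq | hq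
      · nlinarith
      · nlinarith
    exact_mod_cast this
  · have : (618 : ℝ) * QZ v ≤ 1000 * PZ v := by
      rcases le_or_gt 0 (QZ v : ℝ) with hq | hq
      · nlinarith
      · nlinarith
    exact_mod_cast this

/-- The norm of `toH v` determines `(PZ v, QZ v)`. -/
theorem PQ_of_normSq {v : Fin 8 → ℤ} {p q : ℤ}
    (h : Quaternion.normSq (toH v) = ((p : ℝ) + q * tau) / 4) : PZ v = p ∧ QZ v = q := by
  rw [normSq_toH] at h
  exact zt_inj (by linarith)

theorem normSq_eq_one_iff (v : Fin 8 → ℤ) :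
    Quaternion.normSq (toH v) = 1 ↔ PZ v = 4 ∧ QZ v = 0 := by
  constructor
  · intro h
    exact PQ_of_normSq (p := 4) (q := 0) (by rw [h]; norm_num)
  · rintro ⟨h1, h2⟩
    rw [normSq_toH, h1, h2]; norm_num

theorem unit_of_normSq_one {u : ℍ[ℝ]} (h : Quaternion.normSq u = 1) :
    star u * u = 1 ∧ u * star u = 1 := by
  rw [Quaternion.star_mul_self, Quaternion.self_mul_star, h]
  exact ⟨by norm_cast, by norm_cast⟩


theorem four_comm (x : ℍ[ℝ]) : x * 4 = 4 * x := (Commute.ofNat_right x 4).eq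
theorem two_comm (x : ℍ[ℝ]) : x * 2 = 2 * x := (Commute.ofNat_right x 2).eq

/-! ### Differences of components -/

theorem icoLeech_diff {r : Fin 3 → ℍ[ℝ]} (hr : r ∈ icoLeech) (s t : Fin 3) :
    r s - r t ∈ leftIdeal icoH := by
  obtain ⟨-, h01, h12, -⟩ := hr
  have h02 : r 0 - r 2 ∈ leftIdeal icoH := by
    have := leftIdeal_add h01 h12; convert this using 1; abel
  have n01 : r 1 - r 0 ∈ leftIdeal icoH := by
    have := leftIdeal_neg h01; convert this using 1; abel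
  have n12 : r 2 - r 1 ∈ leftIdeal icoH := by
    have := leftIdeal_neg h12; convert this using 1; abel
  have n02 : r 2 - r 0 ∈ leftIdeal icoH := by
    have := leftIdeal_neg h02; convert this using 1; abel
  have z : ∀ x : ℍ[ℝ], x - x ∈ leftIdeal icoH := fun x => by rw [sub_self]; exact leftIdeal_zero _
  fin_cases s <;> fin_cases t
  · exact z _
  · exact h01
  · exact h02
  · exact n01
  · exact z _
  · exact h12
  · exact n02
  · exact n12
  · exact z _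

theorem inIh_diff {w : Fin 3 → Fin 8 → ℤ} (hw : inLam w) (s t : Fin 3) : inIh (w s - w t) := by
  rw [← toH3_mem_iff] at hw
  have := icoLeech_diff hw s t
  rwa [toH3_apply, toH3_apply, ← toH_sub, toH_mem_Ih_iff] at this

/-! ### Normalisation by a unit -/

theorem normalize {r : Fin 3 → ℍ[ℝ]} (hr : r ∈ icoLeech) (h4 : qip r r = 4) {u : ℍ[ℝ]}
    (hu : u ∈ icosians) (hn : Quaternion.normSq u = 1) :
    lsmul (star u) r ∈ icoLeech ∧ qip (lsmul (star u) r) (lsmul (star u) r) = 4 ∧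
      r = lsmul u (lsmul (star u) r) := by
  obtain ⟨h1, h2⟩ := unit_of_normSq_one hn
  refine ⟨icoLeech_lsmul (star_mem_icosians hu) hr, ?_, ?_⟩
  · rw [qip_lsmul_left, qip_lsmul_right, h4, star_star, ← four_comm, ← mul_assoc, h1, one_mul]
  · rw [lsmul_lsmul, h2, lsmul_one]

theorem PZ_oneZ : PZ oneZ = 4 := by decide
theorem QZ_oneZ : QZ oneZ = 0 := by decide

/-! ### The case without zero components -/

theorem caseNZ_core (w : Fin 3 → Fin 8 → ℤ) (hL : inLam w)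
    (hP : PZ (w 0) + PZ (w 1) + PZ (w 2) = 16) (hQ : QZ (w 0) + QZ (w 1) + QZ (w 2) = 0)
    (hnz : ∀ s, w s ≠ 0) (t : Fin 3) (ht : w t = oneZ)
    (hfirst : ∀ s, s < t → ¬(PZ (w s) = 4 ∧ QZ (w s) = 0)) : toL3 w ∈ LinesL := by
  have hI := hL.1
  obtain ⟨m0, -⟩ := PQ_mod4 hI.1
  obtain ⟨m1, -⟩ := PQ_mod4 hI.2.1
  obtain ⟨m2, -⟩ := PQ_mod4 hI.2.2
  have p0 : PZ (w 0) ≠ 0 := fun h => hnz 0 (PZ_eq_zero h)
  have p1 : PZ (w 1) ≠ 0 := fun h => hnz 1 (PZ_eq_zero h)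
  have p2 : PZ (w 2) ≠ 0 := fun h => hnz 2 (PZ_eq_zero h)
  have g0 := PZ_nonneg (w 0)
  have g1 := PZ_nonneg (w 1)
  have g2 := PZ_nonneg (w 2)
  have hd : ∀ s, inIh (w s - oneZ) := fun s => by rw [← ht]; exact inIh_diff hL s t
  have hLl : inLaml (toL (w 0)) (toL (w 1)) (toL (w 2)) = true := (inLaml_toL w).2 hL
  have k0 : PZ (w 0) ≤ 8 := by omega
  have k1 : PZ (w 1) ≤ 8 := by omega
  have k2 : PZ (w 2) ≤ 8 := by omega
  have y0 := K1l_complete k0 hI.1 (hd 0)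
  have y1 := K1l_complete k1 hI.2.1 (hd 1)
  have y2 := K1l_complete k2 hI.2.2 (hd 2)
  have hu : ∀ v : Fin 8 → ℤ, ¬(PZ v = 4 ∧ QZ v = 0) → unitPQ (toL v) = false := by
    intro v hv
    rw [← Bool.not_eq_true, unitPQ, Bool.and_eq_true, beq_iff_eq, beq_iff_eq, PZl_toL, QZl_toL]
    exact hv
  fin_cases t
  · have ht' : w 0 = oneZ := ht
    rw [ht', PZ_oneZ] at hP
    rw [ht', QZ_oneZ] at hQ
    have hc : (PZl (toL (w 1)) + PZl (toL (w 2)) == 12 &&
        QZl (toL (w 1)) + QZl (toL (w 2)) == 0) = true := by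
      rw [Bool.and_eq_true, beq_iff_eq, beq_iff_eq, PZl_toL, PZl_toL, QZl_toL, QZl_toL]
      constructor <;> omega
    have := (C_enum _ y1 _ y2 hc).1 (by rw [← toL_oneZ, ← ht']; exact hLl)
    show toL (w 0) ++ toL (w 1) ++ toL (w 2) ∈ LinesL
    rw [ht', toL_oneZ]; exact this
  · have ht' : w 1 = oneZ := ht
    rw [ht', PZ_oneZ] at hP
    rw [ht', QZ_oneZ] at hQ
    have hc : (PZl (toL (w 0)) + PZl (toL (w 2)) == 12 &&
        QZl (toL (w 0)) + QZl (toL (w 2)) == 0) = true := by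
      rw [Bool.and_eq_true, beq_iff_eq, beq_iff_eq, PZl_toL, PZl_toL, QZl_toL, QZl_toL]
      constructor <;> omega
    have := (C_enum _ y0 _ y2 hc).2.1 (by rw [← toL_oneZ, ← ht']; exact hLl)
      (hu _ (hfirst 0 (by decide)))
    show toL (w 0) ++ toL (w 1) ++ toL (w 2) ∈ LinesL
    rw [ht', toL_oneZ]; exact this
  · have ht' : w 2 = oneZ := ht
    rw [ht', PZ_oneZ] at hP
    rw [ht', QZ_oneZ] at hQ
    have hc : (PZl (toL (w 0)) + PZl (toL (w 1)) == 12 &&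
        QZl (toL (w 0)) + QZl (toL (w 1)) == 0) = true := by
      rw [Bool.and_eq_true, beq_iff_eq, beq_iff_eq, PZl_toL, PZl_toL, QZl_toL, QZl_toL]
      constructor <;> omega
    have := (C_enum _ y0 _ y1 hc).2.2 (by rw [← toL_oneZ, ← ht']; exact hLl)
      (hu _ (hfirst 0 (by decide))) (hu _ (hfirst 1 (by decide)))
    show toL (w 0) ++ toL (w 1) ++ toL (w 2) ∈ LinesL
    rw [ht', toL_oneZ]; exact this

/-- Existence of a first unit component when no component vanishes. -/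
theorem exists_first_unit (w : Fin 3 → Fin 8 → ℤ) (hI : inIZ (w 0) ∧ inIZ (w 1) ∧ inIZ (w 2))
    (hP : PZ (w 0) + PZ (w 1) + PZ (w 2) = 16) (hQ : QZ (w 0) + QZ (w 1) + QZ (w 2) = 0)
    (hnz : ∀ s, w s ≠ 0) :
    ∃ t : Fin 3, (PZ (w t) = 4 ∧ QZ (w t) = 0) ∧ ∀ s, s < t → ¬(PZ (w s) = 4 ∧ QZ (w s) = 0) := by
  obtain ⟨m0, n0⟩ := PQ_mod4 hI.1
  obtain ⟨m1, n1⟩ := PQ_mod4 hI.2.1
  obtain ⟨m2, n2⟩ := PQ_mod4 hI.2.2
  have p0 : PZ (w 0) ≠ 0 := fun h => hnz 0 (PZ_eq_zero h)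
  have p1 : PZ (w 1) ≠ 0 := fun h => hnz 1 (PZ_eq_zero h)
  have p2 : PZ (w 2) ≠ 0 := fun h => hnz 2 (PZ_eq_zero h)
  have g0 := PZ_nonneg (w 0)
  have g1 := PZ_nonneg (w 1)
  have g2 := PZ_nonneg (w 2)
  obtain ⟨a0, b0⟩ := PQ_pos (w 0)
  obtain ⟨a1, b1⟩ := PQ_pos (w 1)
  obtain ⟨a2, b2⟩ := PQ_pos (w 2)
  by_cases c0 : PZ (w 0) = 4 ∧ QZ (w 0) = 0
  · exact ⟨0, c0, fun s hs => absurd hs (by simp)⟩
  by_cases c1 : PZ (w 1) = 4 ∧ QZ (w 1) = 0
  · refine ⟨1, c1, fun s hs => ?_⟩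
    have : s = 0 := by omega
    subst this; exact c0
  have c2 : PZ (w 2) = 4 ∧ QZ (w 2) = 0 := by omega
  refine ⟨2, c2, fun s hs => ?_⟩
  have : s = 0 ∨ s = 1 := by omega
  rcases this with rfl | rfl
  · exact c0
  · exact c1

theorem caseNZ {r : Fin 3 → ℍ[ℝ]} (hr : r ∈ icoLeech) (h4 : qip r r = 4) (hnz : ∀ s, r s ≠ 0) :
    ∃ u ∈ icosians, Quaternion.normSq u = 1 ∧ ∃ w : Fin 3 → Fin 8 → ℤ, toL3 w ∈ LinesL ∧
      r = lsmul u (toH3 w) := by
  obtain ⟨w, hw, rfl⟩ := exists_coords hr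
  obtain ⟨hP, hQ⟩ := (qip_toH3_eq_four_iff w).1 h4
  have hnz' : ∀ s, w s ≠ 0 := fun s h => hnz s (by rw [toH3_apply, h, toH_zero])
  obtain ⟨t, ht, hfirst⟩ := exists_first_unit w hw.1 hP hQ hnz'
  have hn : Quaternion.normSq (toH (w t)) = 1 := (normSq_eq_one_iff _).2 ht
  have hu : toH (w t) ∈ icosians := hr.1 t
  obtain ⟨n1, n2, n3⟩ := normalize hr h4 hu hn
  obtain ⟨w', hw', e'⟩ := exists_coords n1
  refine ⟨toH (w t), hu, hn, w', ?_, by rw [← e']; exact n3⟩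
  have hns : ∀ s, Quaternion.normSq (toH (w' s)) = Quaternion.normSq (toH (w s)) := by
    intro s
    have := congrFun e' s
    rw [toH3_apply, lsmul_apply] at this
    rw [← this, map_mul, Quaternion.normSq_star, hn, one_mul, toH3_apply]
  rw [e'] at n2
  obtain ⟨hP', hQ'⟩ := (qip_toH3_eq_four_iff w').1 n2
  refine caseNZ_core w' hw' hP' hQ' ?_ t ?_ ?_
  · intro s h
    have := hns s
    rw [h, toH_zero, map_zero] at this
    exact hnz s (Quaternion.normSq_eq_zero.1 this.symm)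
  · apply toH_inj
    have := congrFun e' t
    rw [toH3_apply, lsmul_apply] at this
    rw [← this, toH3_apply, (unit_of_normSq_one hn).1, toH_oneZ]
  · intro s hs h
    have := (normSq_eq_one_iff _).2 h
    rw [hns s] at this
    exact hfirst s hs ((normSq_eq_one_iff _).1 this)


/-! ### The case with a zero component -/

theorem normSq_pair_iff (a b : Fin 8 → ℤ) (c : ℤ) :
    Quaternion.normSq (toH a) + Quaternion.normSq (toH b) = c ↔
      PZ a + PZ b = 4 * c ∧ QZ a + QZ b = 0 := by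
  rw [normSq_toH, normSq_toH]
  constructor
  · intro h
    exact zt_inj (a := PZ a + PZ b) (b := QZ a + QZ b) (c := 4 * c) (d := 0)
      (by push_cast; linarith)
  · rintro ⟨h1, h2⟩
    have h1' : (PZ a : ℝ) + PZ b = 4 * c := by exact_mod_cast h1
    have h2' : (QZ a : ℝ) + QZ b = 0 := by exact_mod_cast h2
    linear_combination (1 / 4 : ℝ) * h1' + (tau / 4) * h2'

def twoZ : Fin 8 → ℤ := ![4, 0, 0, 0, 0, 0, 0, 0]

theorem toH_twoZ : toH twoZ = 2 := by
  rw [← coe_two]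
  apply Quaternion.ext <;> simp [twoZ] <;> norm_num

theorem two_ne_zero' : (2 : ℍ[ℝ]) ≠ 0 := by
  rw [← coe_two]
  intro h
  have := congrArg QuaternionAlgebra.re h
  simp at this

theorem toL_twoZ : toL twoZ = twoZl := rfl

theorem toH_half_mul {ω : Fin 8 → ℤ} (h : inIZ ω) : toH (half (mulZ ω hZ)) = toH ω * icoH := by
  obtain ⟨x, -, e⟩ := mulZ_closed h (show inIZ hZ by decide)
  rw [← toH_hZ, toH_mul_of_eq e, e, half_two_smul]

theorem icoH_ne_zero : icoH ≠ 0 := by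
  intro h
  have := normSq_icoH
  rw [h, map_zero] at this
  norm_num at this

theorem Z_pair {a1 a2 : ℍ[ℝ]} (h1 : a1 ∈ icosians) (h2 : a2 ∈ icosians)
    (hsum : a1 + a2 ∈ leftIdeal (star icoH))
    (hn : Quaternion.normSq a1 + Quaternion.normSq a2 = 2) :
    (a2 = 0 ∧ ∃ d ∈ icosians, Quaternion.normSq d = 1 ∧ a1 * icoH = 2 * d) ∨
    (a1 = 0 ∧ ∃ d ∈ icosians, Quaternion.normSq d = 1 ∧ a2 * icoH = 2 * d) ∨
    (a1 ∈ icosians ∧ Quaternion.normSq a1 = 1 ∧ ∃ ω : Fin 8 → ℤ, inIZ ω ∧ toL ω ∈ UZl ∧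
      inIhb (oneZ + ω) ∧ a2 = a1 * toH ω) := by
  have hs1 : star icoH * icoH = 2 := by rw [Quaternion.star_mul_self, normSq_icoH, coe_two]
  obtain ⟨α1, i1, rfl⟩ := icosians_le _ h1
  obtain ⟨α2, i2, rfl⟩ := icosians_le _ h2
  obtain ⟨hP, hQ⟩ := (normSq_pair_iff α1 α2 2).1 (by exact_mod_cast hn)
  obtain ⟨m1, n1⟩ := PQ_mod4 i1
  obtain ⟨m2, n2⟩ := PQ_mod4 i2
  have g1 := PZ_nonneg α1
  have g2 := PZ_nonneg α2
  obtain ⟨p1, q1⟩ := PQ_pos α1
  obtain ⟨p2, q2⟩ := PQ_pos α2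
  have key : ∀ {b1 b2 : Fin 8 → ℤ}, toH b1 + toH b2 ∈ leftIdeal (star icoH) → PZ b1 = 8 →
      QZ b1 = 0 → PZ b2 = 0 →
      toH b2 = 0 ∧ ∃ d ∈ icosians, Quaternion.normSq d = 1 ∧ toH b1 * icoH = 2 * d := by
    intro b1 b2 hsum c1 c2 c3
    have z : toH b2 = 0 := by rw [PZ_eq_zero c3, toH_zero]
    refine ⟨z, ?_⟩
    rw [z, add_zero] at hsum
    obtain ⟨d, hd, e⟩ := hsum
    refine ⟨d, hd, ?_, ?_⟩
    · have := congrArg Quaternion.normSq e
      rw [map_mul, Quaternion.normSq_star, normSq_icoH, normSq_toH, c1, c2] at this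
      norm_num at this
      linarith
    · rw [e, mul_assoc, hs1, two_comm]
  rcases (by omega : (PZ α1 = 8 ∧ QZ α1 = 0 ∧ PZ α2 = 0) ∨ (PZ α2 = 8 ∧ QZ α2 = 0 ∧ PZ α1 = 0) ∨
      (PZ α1 = 4 ∧ QZ α1 = 0 ∧ PZ α2 = 4 ∧ QZ α2 = 0)) with ⟨c1, c2, c3⟩ | ⟨c1, c2, c3⟩ |
      ⟨c1, c2, c3, c4⟩
  · exact Or.inl (key hsum c1 c2 c3)
  · exact Or.inr (Or.inl (key (by rwa [add_comm]) c1 c2 c3))
  · refine Or.inr (Or.inr ⟨h1, (normSq_eq_one_iff _).2 ⟨c1, c2⟩, ?_⟩)
    have u1 := (normSq_eq_one_iff _).2 ⟨c1, c2⟩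
    have u2 := (normSq_eq_one_iff _).2 ⟨c3, c4⟩
    obtain ⟨e1, e2⟩ := unit_of_normSq_one u1
    have hw : star (toH α1) * toH α2 ∈ icosians := mul_mem (star_mem_icosians h1) h2
    obtain ⟨ω, iω, eω⟩ := icosians_le _ hw
    have nω : Quaternion.normSq (toH ω) = 1 := by
      rw [← eω, map_mul, Quaternion.normSq_star, u1, u2, one_mul]
    obtain ⟨d1, d2⟩ := (normSq_eq_one_iff _).1 nω
    refine ⟨ω, iω, UZl_complete iω d1 d2, ?_, ?_⟩
    · rw [← toH_mem_Ihb_iff, toH_add, toH_oneZ, ← eω]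
      have := leftIdeal_mul (star_mem_icosians h1) hsum
      rwa [mul_add, e1] at this
    · rw [← eω, ← mul_assoc, e2, one_mul]

theorem caseZ {r : Fin 3 → ℍ[ℝ]} (hr : r ∈ icoLeech) (h4 : qip r r = 4) {s : Fin 3}
    (hs : r s = 0) :
    ∃ u ∈ icosians, Quaternion.normSq u = 1 ∧ ∃ w : Fin 3 → Fin 8 → ℤ, toL3 w ∈ LinesL ∧
      r = lsmul u (toH3 w) := by
  have hs1 : icoH * star icoH = 2 := by rw [Quaternion.self_mul_star, normSq_icoH, coe_two]
  have hI : ∀ t, r t ∈ leftIdeal icoH := fun t => by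
    have := icoLeech_diff hr t s
    rwa [hs, sub_zero] at this
  choose a ha ea using hI
  have hsum : a 0 + a 1 + a 2 ∈ leftIdeal (star icoH) := by
    have hS : r 0 + r 1 + r 2 ∈ leftIdeal icoH :=
      ⟨a 0 + a 1 + a 2, add_mem (add_mem (ha 0) (ha 1)) (ha 2), by
        rw [ea 0, ea 1, ea 2, add_mul, add_mul]⟩
    obtain ⟨d, hd, e⟩ := inter_sub_two hS hr.2.2.2
    refine ⟨d, hd, ?_⟩
    have e' : (a 0 + a 1 + a 2) * icoH = 2 * d := by
      rw [← e, ea 0, ea 1, ea 2, add_mul, add_mul]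
    have : 2 * (a 0 + a 1 + a 2) = 2 * (d * star icoH) := by
      calc 2 * (a 0 + a 1 + a 2) = (a 0 + a 1 + a 2) * 2 := (two_comm _).symm
        _ = (a 0 + a 1 + a 2) * (icoH * star icoH) := by rw [hs1]
        _ = (a 0 + a 1 + a 2) * icoH * star icoH := (mul_assoc _ _ _).symm
        _ = 2 * d * star icoH := by rw [e']
        _ = 2 * (d * star icoH) := mul_assoc _ _ _
    exact mul_left_cancel₀ two_ne_zero' this
  have hnorm : Quaternion.normSq (a 0) + Quaternion.normSq (a 1) + Quaternion.normSq (a 2) = 2 := by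
    have := (qip_self_eq_four_iff r).1 h4
    rw [ea 0, ea 1, ea 2, map_mul, map_mul, map_mul, normSq_icoH] at this
    linarith
  have has : a s = 0 := by
    have := ea s
    rw [hs] at this
    rcases mul_eq_zero.1 this.symm with h | h
    · exact h
    · exact absurd h icoH_ne_zero
  have hB : ∀ {ω : Fin 8 → ℤ}, toL ω ∈ UZl → inIhb (oneZ + ω) →
      (zeroL ++ hZl ++ toL (half (mulZ ω hZ)) ∈ LinesL) ∧
      (hZl ++ zeroL ++ toL (half (mulZ ω hZ)) ∈ LinesL) ∧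
      (hZl ++ toL (half (mulZ ω hZ)) ++ zeroL ∈ LinesL) := by
    intro ω h1 h2
    have := B_enum _ h1 (by rw [← toL_oneZ, addl_toL, inIhbl_toL]; exact h2)
    rwa [← toL_hZ, mulZl_toL, halfl_toL, toL_hZ] at this
  fin_cases s
  · have has : a 0 = 0 := has
    rw [has, zero_add] at hsum
    rw [has, map_zero, zero_add] at hnorm
    rcases Z_pair (ha 1) (ha 2) hsum hnorm with ⟨z, d, hd, nd, e⟩ | ⟨z, d, hd, nd, e⟩ |
      ⟨hu, nu, ω, iω, lω, bω, e⟩
    · refine ⟨d, hd, nd, ![0, twoZ, 0], A_mem.2.1, ?_⟩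
      funext t
      fin_cases t
      · show r 0 = d * toH 0
        rw [ea 0, has, zero_mul, toH_zero, mul_zero]
      · show r 1 = d * toH twoZ
        rw [ea 1, e, toH_twoZ, two_comm]
      · show r 2 = d * toH 0
        rw [ea 2, z, zero_mul, toH_zero, mul_zero]
    · refine ⟨d, hd, nd, ![0, 0, twoZ], A_mem.2.2, ?_⟩
      funext t
      fin_cases t
      · show r 0 = d * toH 0
        rw [ea 0, has, zero_mul, toH_zero, mul_zero]
      · show r 1 = d * toH 0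
        rw [ea 1, z, zero_mul, toH_zero, mul_zero]
      · show r 2 = d * toH twoZ
        rw [ea 2, e, toH_twoZ, two_comm]
    · refine ⟨a 1, hu, nu, ![0, hZ, half (mulZ ω hZ)], (hB lω bω).1, ?_⟩
      funext t
      fin_cases t
      · show r 0 = a 1 * toH 0
        rw [ea 0, has, zero_mul, toH_zero, mul_zero]
      · show r 1 = a 1 * toH hZ
        rw [ea 1, toH_hZ]
      · show r 2 = a 1 * toH (half (mulZ ω hZ))
        rw [ea 2, e, toH_half_mul iω, mul_assoc]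
  · have has : a 1 = 0 := has
    rw [has, add_zero] at hsum
    rw [has, map_zero, add_zero] at hnorm
    rcases Z_pair (ha 0) (ha 2) hsum hnorm with ⟨z, d, hd, nd, e⟩ | ⟨z, d, hd, nd, e⟩ |
      ⟨hu, nu, ω, iω, lω, bω, e⟩
    · refine ⟨d, hd, nd, ![twoZ, 0, 0], A_mem.1, ?_⟩
      funext t
      fin_cases t
      · show r 0 = d * toH twoZ
        rw [ea 0, e, toH_twoZ, two_comm]
      · show r 1 = d * toH 0
        rw [ea 1, has, zero_mul, toH_zero, mul_zero]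
      · show r 2 = d * toH 0
        rw [ea 2, z, zero_mul, toH_zero, mul_zero]
    · refine ⟨d, hd, nd, ![0, 0, twoZ], A_mem.2.2, ?_⟩
      funext t
      fin_cases t
      · show r 0 = d * toH 0
        rw [ea 0, z, zero_mul, toH_zero, mul_zero]
      · show r 1 = d * toH 0
        rw [ea 1, has, zero_mul, toH_zero, mul_zero]
      · show r 2 = d * toH twoZ
        rw [ea 2, e, toH_twoZ, two_comm]
    · refine ⟨a 0, hu, nu, ![hZ, 0, half (mulZ ω hZ)], (hB lω bω).2.1, ?_⟩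
      funext t
      fin_cases t
      · show r 0 = a 0 * toH hZ
        rw [ea 0, toH_hZ]
      · show r 1 = a 0 * toH 0
        rw [ea 1, has, zero_mul, toH_zero, mul_zero]
      · show r 2 = a 0 * toH (half (mulZ ω hZ))
        rw [ea 2, e, toH_half_mul iω, mul_assoc]
  · have has : a 2 = 0 := has
    rw [has, add_zero] at hsum
    rw [has, map_zero, add_zero] at hnorm
    rcases Z_pair (ha 0) (ha 1) hsum hnorm with ⟨z, d, hd, nd, e⟩ | ⟨z, d, hd, nd, e⟩ |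
      ⟨hu, nu, ω, iω, lω, bω, e⟩
    · refine ⟨d, hd, nd, ![twoZ, 0, 0], A_mem.1, ?_⟩
      funext t
      fin_cases t
      · show r 0 = d * toH twoZ
        rw [ea 0, e, toH_twoZ, two_comm]
      · show r 1 = d * toH 0
        rw [ea 1, z, zero_mul, toH_zero, mul_zero]
      · show r 2 = d * toH 0
        rw [ea 2, has, zero_mul, toH_zero, mul_zero]
    · refine ⟨d, hd, nd, ![0, twoZ, 0], A_mem.2.1, ?_⟩
      funext t
      fin_cases t
      · show r 0 = d * toH 0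
        rw [ea 0, z, zero_mul, toH_zero, mul_zero]
      · show r 1 = d * toH twoZ
        rw [ea 1, e, toH_twoZ, two_comm]
      · show r 2 = d * toH 0
        rw [ea 2, has, zero_mul, toH_zero, mul_zero]
    · refine ⟨a 0, hu, nu, ![hZ, half (mulZ ω hZ), 0], (hB lω bω).2.2, ?_⟩
      funext t
      fin_cases t
      · show r 0 = a 0 * toH hZ
        rw [ea 0, toH_hZ]
      · show r 1 = a 0 * toH (half (mulZ ω hZ))
        rw [ea 1, e, toH_half_mul iω, mul_assoc]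
      · show r 2 = a 0 * toH 0
        rw [ea 2, has, zero_mul, toH_zero, mul_zero]

/-- **Classification of minimal vectors**: each is a unit multiple of one of the 315 listed. -/
theorem classify {r : Fin 3 → ℍ[ℝ]} (hr : r ∈ icoLeech) (h4 : qip r r = 4) :
    ∃ u ∈ icosians, Quaternion.normSq u = 1 ∧ ∃ w : Fin 3 → Fin 8 → ℤ, toL3 w ∈ LinesL ∧
      r = lsmul u (toH3 w) := by
  by_cases h : ∃ s, r s = 0
  · obtain ⟨s, hs⟩ := h
    exact caseZ hr h4 hs
  · simp only [not_exists] at h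
    exact caseNZ hr h4 h

end Cfsg.Agent.Lib.Helper26_Ico
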