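import Cfsg.Agent.Lib.Helper26_IcoData

/-!
# Suborbit certificate for the primitivity of `J₂` on the 315 reflections (helper26)
`stabGens`: pairs `(a, b)`; the product of the reflections in lines `a`, `b` fixes line 0.
Entry `(p, s, i, u)` of `stabEdges`: generator `s` maps line `p` to `u •` line `i`.
Generated by scratch/j2/emit_tree.py.
-/

set_option autoImplicit false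

namespace Cfsg.Agent.Lib.Helper26_Ico

def stabGens : List (ℕ × ℕ) := [(250, 204), (246, 262)]

def clsL : List ℕ :=
  ([0, 1, 1, 1, 1, 1, 1, 1, 1, 1, 1, 2, 2, 2, 2, 2, 2, 2, 2, 2, 2, 2, 2, 2, 2, 2, 2, 3, 3, 3, 3, 3, 3, 3, 3] : List ℕ) ++
  ([3, 3, 3, 3, 3, 3, 3, 3, 3, 3, 3, 3, 3, 3, 3, 3, 3, 3, 3, 3, 3, 3, 3, 3, 3, 3, 3, 3, 3, 3, 3, 3, 3, 3, 3] : List ℕ) ++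
  ([3, 3, 3, 3, 3, 3, 3, 3, 3, 3, 3, 3, 3, 3, 3, 3, 3, 3, 3, 3, 3, 3, 3, 3, 3, 3, 3, 3, 3, 3, 3, 3, 3, 3, 3] : List ℕ) ++
  ([3, 3, 3, 3, 3, 3, 3, 3, 3, 3, 3, 3, 3, 3, 3, 3, 3, 3, 3, 3, 3, 3, 3, 3, 3, 3, 3, 3, 3, 3, 3, 3, 3, 3, 3] : List ℕ) ++
  ([3, 3, 3, 3, 3, 3, 3, 3, 3, 3, 3, 3, 3, 3, 3, 3, 3, 3, 3, 3, 3, 3, 3, 3, 3, 3, 3, 3, 3, 3, 3, 3, 3, 3, 3] : List ℕ) ++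
  ([3, 3, 3, 3, 3, 3, 3, 3, 3, 3, 3, 3, 2, 2, 2, 2, 2, 2, 2, 2, 2, 2, 2, 2, 2, 2, 2, 2, 2, 2, 2, 2, 2, 2, 2] : List ℕ) ++
  ([2, 4, 4, 4, 4, 4, 4, 4, 4, 2, 2, 2, 2, 2, 2, 2, 2, 5, 5, 5, 5, 5, 5, 5, 5, 5, 5, 5, 5, 5, 5, 5, 5, 2, 2] : List ℕ) ++
  ([2, 2, 2, 2, 2, 2, 4, 4, 4, 4, 4, 4, 4, 4, 2, 2, 2, 2, 2, 2, 2, 2, 2, 2, 2, 2, 2, 2, 2, 2, 2, 2, 2, 2, 2] : List ℕ) ++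
  ([2, 2, 2, 4, 4, 4, 4, 4, 4, 4, 4, 5, 5, 5, 5, 5, 5, 5, 5, 5, 5, 5, 5, 5, 5, 5, 5, 4, 4, 4, 4, 4, 4, 4, 4] : List ℕ)

def rootL : List ℕ := [0, 1, 11, 27, 211, 227]

def stabFix : List (ℕ × ℕ × ℕ × List ℤ) := [
  (0, 0, 0, m8 0 0 (-1) 1 0 (-1) 1 0),
  (0, 1, 0, m8 0 0 0 (-1) 1 0 1 (-1))]

set_option maxHeartbeats 2000000 in
def stabEdges : List (ℕ × ℕ × ℕ × List ℤ) := [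
  (1, 0, 10, m8 0 (-1) (-1) 0 0 0 (-1) 1),
  (1, 1, 8, m8 0 (-1) 0 0 (-1) 1 (-1) 0),
  (10, 0, 2, m8 1 (-1) 0 0 1 0 0 1),
  (10, 1, 7, m8 1 0 1 (-1) 0 0 0 1),
  (2, 0, 3, m8 0 1 1 0 0 0 1 (-1)),
  (2, 1, 5, m8 1 0 1 (-1) 0 0 0 (-1)),
  (7, 0, 4, m8 1 0 0 0 0 (-1) (-1) 1),
  (3, 1, 6, m8 1 0 (-1) 0 (-1) 0 (-1) 0),
  (6, 0, 9, m8 1 0 (-1) 1 0 0 0 (-1)),
  (11, 0, 195, m8 1 (-1) 0 0 1 0 0 1),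
  (11, 1, 219, m8 1 0 (-1) 1 0 0 0 1),
  (195, 0, 24, m8 (-1) 1 0 0 1 0 0 1),
  (195, 1, 269, m8 1 0 (-1) 0 (-1) 0 (-1) 0),
  (219, 0, 203, m8 2 0 0 0 0 0 0 0),
  (219, 1, 25, m8 (-1) 0 (-1) 1 0 0 0 1),
  (24, 0, 264, m8 0 (-1) 1 0 0 0 1 (-1)),
  (24, 1, 250, m8 (-1) 0 1 (-1) 0 0 0 (-1)),
  (269, 0, 198, m8 1 0 (-1) 0 1 0 (-1) 0),
  (269, 1, 226, m8 1 0 (-1) 0 (-1) 0 1 0),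
  (203, 0, 249, m8 2 0 0 0 0 0 0 0),
  (203, 1, 26, m8 0 (-1) 0 0 (-1) 1 (-1) 0),
  (25, 0, 194, m8 (-1) 0 0 (-1) 1 (-1) 0 0),
  (25, 1, 192, m8 0 0 0 (-1) 1 0 (-1) 1),
  (264, 1, 200, m8 1 0 1 0 (-1) 0 1 0),
  (250, 0, 220, m8 0 0 0 0 0 0 (-2) 0),
  (250, 1, 15, m8 1 0 1 (-1) 0 0 0 (-1)),
  (198, 0, 222, m8 1 0 (-1) 0 (-1) 0 (-1) 0),
  (226, 0, 12, m8 0 0 1 (-1) 0 1 (-1) 0),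
  (226, 1, 190, m8 1 0 1 0 (-1) 0 1 0),
  (249, 0, 265, m8 2 0 0 0 0 0 0 0),
  (249, 1, 20, m8 1 0 1 (-1) 0 0 0 (-1)),
  (26, 0, 196, m8 1 (-1) 0 0 1 0 0 1),
  (26, 1, 202, m8 1 (-1) 1 0 0 1 0 0),
  (194, 0, 14, m8 1 0 0 (-1) 1 (-1) 0 0),
  (194, 1, 260, m8 1 0 1 0 (-1) 0 1 0),
  (200, 0, 245, m8 1 0 1 0 (-1) 0 (-1) 0),
  (200, 1, 275, m8 1 0 1 0 (-1) 0 (-1) 0),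
  (15, 0, 225, m8 0 0 1 (-1) 0 1 (-1) 0),
  (15, 1, 191, m8 0 0 0 (-1) 1 0 (-1) 1),
  (222, 0, 281, m8 1 0 1 0 (-1) 0 (-1) 0),
  (222, 1, 243, m8 1 0 1 0 (-1) 0 (-1) 0),
  (12, 0, 193, m8 (-1) 0 0 (-1) 1 (-1) 0 0),
  (190, 0, 261, m8 1 0 1 0 (-1) 0 (-1) 0),
  (265, 1, 19, m8 0 1 0 0 1 (-1) 1 0),
  (20, 0, 276, m8 1 0 0 1 (-1) 1 0 0),
  (20, 1, 278, m8 0 0 0 1 (-1) 0 1 (-1)),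
  (196, 0, 16, m8 (-1) 1 0 0 1 0 0 1),
  (202, 1, 17, m8 (-1) 1 1 0 0 1 0 0),
  (14, 1, 277, m8 0 0 0 1 (-1) 0 1 (-1)),
  (260, 0, 197, m8 1 0 1 0 (-1) 0 (-1) 0),
  (260, 1, 263, m8 1 0 1 0 (-1) 0 (-1) 0),
  (245, 0, 221, m8 1 0 1 0 1 0 (-1) 0),
  (245, 1, 207, m8 2 0 0 0 0 0 0 0),
  (275, 0, 23, m8 (-1) 0 0 1 (-1) 1 0 0),
  (275, 1, 189, m8 1 0 (-1) 0 (-1) 0 (-1) 0),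
  (225, 1, 259, m8 1 0 (-1) 0 (-1) 0 (-1) 0),
  (191, 0, 201, m8 2 0 0 0 0 0 0 0),
  (281, 1, 271, m8 2 0 0 0 0 0 0 0),
  (243, 1, 209, m8 1 0 (-1) 0 (-1) 0 (-1) 0),
  (193, 0, 22, m8 1 0 0 (-1) 1 (-1) 0 0),
  (193, 1, 279, m8 1 0 (-1) 0 (-1) 0 (-1) 0),
  (19, 0, 274, m8 (-1) 1 0 0 (-1) 0 0 (-1)),
  (19, 1, 268, m8 (-1) 1 (-1) 0 0 (-1) 0 0),
  (276, 1, 210, m8 1 0 1 0 (-1) 0 1 0),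
  (278, 1, 18, m8 0 0 0 1 (-1) 0 1 (-1)),
  (16, 0, 205, m8 0 1 (-1) 0 0 0 (-1) 1),
  (16, 1, 267, m8 (-1) 1 (-1) 0 0 (-1) 0 0),
  (277, 1, 21, m8 0 0 0 1 (-1) 0 1 (-1)),
  (221, 0, 208, m8 1 0 (-1) 0 1 0 (-1) 0),
  (207, 1, 223, m8 2 0 0 0 0 0 0 0),
  (23, 0, 244, m8 0 0 (-1) 1 0 (-1) 1 0),
  (23, 1, 266, m8 0 (-1) 0 0 1 (-1) 1 0),
  (189, 0, 282, m8 1 0 (-1) 0 1 0 (-1) 0),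
  (259, 0, 246, m8 1 0 (-1) 0 1 0 (-1) 0),
  (271, 1, 187, m8 2 0 0 0 0 0 0 0),
  (209, 0, 224, m8 1 0 (-1) 0 1 0 (-1) 0),
  (22, 1, 204, m8 0 1 0 0 (-1) 1 (-1) 0),
  (279, 0, 188, m8 1 0 (-1) 0 1 0 (-1) 0),
  (279, 1, 206, m8 1 0 (-1) 0 (-1) 0 1 0),
  (274, 0, 13, m8 1 (-1) 0 0 (-1) 0 0 (-1)),
  (274, 1, 248, m8 1 0 1 0 (-1) 0 1 0),
  (18, 0, 273, m8 (-1) 1 0 0 (-1) 0 0 (-1)),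
  (205, 1, 247, m8 1 0 (-1) 0 (-1) 0 (-1) 0),
  (208, 1, 262, m8 0 0 0 0 (-2) 0 0 0),
  (244, 1, 280, m8 1 0 1 0 (-1) 0 1 0),
  (187, 0, 199, m8 1 0 1 0 1 0 (-1) 0),
  (206, 1, 270, m8 1 0 1 0 (-1) 0 1 0),
  (199, 0, 272, m8 1 0 (-1) 0 1 0 (-1) 0),
  (27, 0, 97, m8 0 0 (-1) 1 0 (-1) 1 0),
  (27, 1, 133, m8 0 0 0 (-1) 1 0 1 (-1)),
  (97, 0, 67, m8 0 0 (-1) 1 0 (-1) 1 0),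
  (97, 1, 77, m8 0 0 0 (-1) 1 0 1 (-1)),
  (133, 0, 115, m8 0 0 (-1) 1 0 (-1) 1 0),
  (133, 1, 55, m8 0 0 0 (-1) 1 0 1 (-1)),
  (67, 0, 157, m8 0 0 (-1) 1 0 (-1) 1 0),
  (67, 1, 79, m8 0 0 0 (-1) 1 0 1 (-1)),
  (77, 0, 52, m8 0 0 (-1) 1 0 (-1) 1 0),
  (77, 1, 68, m8 0 0 0 (-1) 1 0 1 (-1)),
  (115, 0, 153, m8 0 0 (-1) 1 0 (-1) 1 0),
  (115, 1, 177, m8 0 0 0 (-1) 1 0 1 (-1)),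
  (55, 0, 172, m8 0 0 (-1) 1 0 (-1) 1 0),
  (55, 1, 152, m8 0 0 0 (-1) 1 0 1 (-1)),
  (157, 1, 135, m8 0 0 0 (-1) 1 0 1 (-1)),
  (79, 0, 175, m8 0 0 (-1) 1 0 (-1) 1 0),
  (79, 1, 121, m8 0 0 0 (-1) 1 0 1 (-1)),
  (52, 0, 62, m8 0 0 (-1) 1 0 (-1) 1 0),
  (52, 1, 49, m8 0 0 0 (-1) 1 0 1 (-1)),
  (68, 0, 88, m8 0 0 (-1) 1 0 (-1) 1 0),
  (68, 1, 154, m8 0 0 0 (-1) 1 0 1 (-1)),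
  (153, 0, 168, m8 0 0 (-1) 1 0 (-1) 1 0),
  (177, 0, 58, m8 0 0 (-1) 1 0 (-1) 1 0),
  (177, 1, 51, m8 0 0 0 (-1) 1 0 1 (-1)),
  (172, 0, 92, m8 0 0 (-1) 1 0 (-1) 1 0),
  (172, 1, 148, m8 0 0 0 (-1) 1 0 1 (-1)),
  (152, 0, 73, m8 0 0 (-1) 1 0 (-1) 1 0),
  (135, 0, 104, m8 0 0 (-1) 1 0 (-1) 1 0),
  (135, 1, 34, m8 0 0 0 (-1) 1 0 1 (-1)),
  (175, 1, 105, m8 0 0 0 (-1) 1 0 1 (-1)),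
  (121, 0, 111, m8 0 0 (-1) 1 0 (-1) 1 0),
  (121, 1, 151, m8 0 0 0 (-1) 1 0 1 (-1)),
  (62, 0, 183, m8 0 0 (-1) 1 0 (-1) 1 0),
  (62, 1, 146, m8 0 0 0 (-1) 1 0 1 (-1)),
  (49, 0, 174, m8 0 0 (-1) 1 0 (-1) 1 0),
  (49, 1, 91, m8 0 0 0 (-1) 1 0 1 (-1)),
  (88, 0, 179, m8 0 0 (-1) 1 0 (-1) 1 0),
  (88, 1, 150, m8 0 0 0 (-1) 1 0 1 (-1)),
  (154, 0, 129, m8 0 0 (-1) 1 0 (-1) 1 0),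
  (168, 1, 35, m8 0 0 0 (-1) 1 0 1 (-1)),
  (58, 0, 95, m8 0 0 (-1) 1 0 (-1) 1 0),
  (51, 0, 137, m8 0 0 (-1) 1 0 (-1) 1 0),
  (51, 1, 29, m8 0 0 0 (-1) 1 0 1 (-1)),
  (92, 0, 102, m8 0 0 (-1) 1 0 (-1) 1 0),
  (148, 1, 85, m8 0 0 0 (-1) 1 0 1 (-1)),
  (73, 0, 78, m8 0 0 (-1) 1 0 (-1) 1 0),
  (73, 1, 123, m8 0 0 0 (-1) 1 0 1 (-1)),
  (104, 0, 61, m8 0 0 (-1) 1 0 (-1) 1 0),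
  (104, 1, 130, m8 0 0 0 (-1) 1 0 1 (-1)),
  (34, 0, 165, m8 0 0 (-1) 1 0 (-1) 1 0),
  (105, 0, 107, m8 0 0 (-1) 1 0 (-1) 1 0),
  (105, 1, 101, m8 0 0 0 (-1) 1 0 1 (-1)),
  (111, 0, 158, m8 0 0 (-1) 1 0 (-1) 1 0),
  (111, 1, 147, m8 0 0 0 (-1) 1 0 1 (-1)),
  (151, 0, 30, m8 0 0 (-1) 1 0 (-1) 1 0),
  (183, 1, 163, m8 0 0 0 (-1) 1 0 1 (-1)),
  (146, 0, 56, m8 0 0 (-1) 1 0 (-1) 1 0),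
  (146, 1, 134, m8 0 0 0 (-1) 1 0 1 (-1)),
  (91, 0, 131, m8 0 0 (-1) 1 0 (-1) 1 0),
  (91, 1, 118, m8 0 0 0 (-1) 1 0 1 (-1)),
  (179, 0, 48, m8 0 0 (-1) 1 0 (-1) 1 0),
  (179, 1, 60, m8 0 0 0 (-1) 1 0 1 (-1)),
  (150, 0, 176, m8 0 0 (-1) 1 0 (-1) 1 0),
  (150, 1, 42, m8 0 0 0 (-1) 1 0 1 (-1)),
  (129, 1, 113, m8 0 0 0 (-1) 1 0 1 (-1)),
  (35, 0, 96, m8 0 0 (-1) 1 0 (-1) 1 0),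
  (35, 1, 182, m8 0 0 0 (-1) 1 0 1 (-1)),
  (95, 0, 86, m8 0 0 (-1) 1 0 (-1) 1 0),
  (95, 1, 161, m8 0 0 0 (-1) 1 0 1 (-1)),
  (137, 0, 31, m8 0 0 (-1) 1 0 (-1) 1 0),
  (137, 1, 125, m8 0 0 0 (-1) 1 0 1 (-1)),
  (29, 0, 180, m8 0 0 (-1) 1 0 (-1) 1 0),
  (102, 1, 66, m8 0 0 0 (-1) 1 0 1 (-1)),
  (85, 1, 132, m8 0 0 0 (-1) 1 0 1 (-1)),
  (78, 0, 109, m8 0 0 (-1) 1 0 (-1) 1 0),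
  (123, 0, 57, m8 0 0 (-1) 1 0 (-1) 1 0),
  (123, 1, 124, m8 0 0 0 (-1) 1 0 1 (-1)),
  (61, 0, 140, m8 0 0 (-1) 1 0 (-1) 1 0),
  (61, 1, 186, m8 0 0 0 (-1) 1 0 1 (-1)),
  (130, 0, 93, m8 0 0 (-1) 1 0 (-1) 1 0),
  (130, 1, 37, m8 0 0 0 (-1) 1 0 1 (-1)),
  (165, 0, 145, m8 0 0 (-1) 1 0 (-1) 1 0),
  (165, 1, 149, m8 0 0 0 (-1) 1 0 1 (-1)),
  (107, 0, 54, m8 0 0 (-1) 1 0 (-1) 1 0),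
  (101, 0, 75, m8 0 0 (-1) 1 0 (-1) 1 0),
  (101, 1, 69, m8 0 0 0 (-1) 1 0 1 (-1)),
  (158, 0, 41, m8 0 0 (-1) 1 0 (-1) 1 0),
  (147, 1, 166, m8 0 0 0 (-1) 1 0 1 (-1)),
  (30, 0, 136, m8 0 0 (-1) 1 0 (-1) 1 0),
  (30, 1, 50, m8 0 0 0 (-1) 1 0 1 (-1)),
  (163, 0, 99, m8 0 0 (-1) 1 0 (-1) 1 0),
  (163, 1, 46, m8 0 0 0 (-1) 1 0 1 (-1)),
  (134, 0, 38, m8 0 0 (-1) 1 0 (-1) 1 0),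
  (131, 0, 167, m8 0 0 (-1) 1 0 (-1) 1 0),
  (118, 0, 127, m8 0 0 (-1) 1 0 (-1) 1 0),
  (48, 1, 64, m8 0 0 0 (-1) 1 0 1 (-1)),
  (60, 0, 45, m8 0 0 (-1) 1 0 (-1) 1 0),
  (42, 1, 76, m8 0 0 0 (-1) 1 0 1 (-1)),
  (113, 0, 173, m8 0 0 (-1) 1 0 (-1) 1 0),
  (113, 1, 139, m8 0 0 0 (-1) 1 0 1 (-1)),
  (96, 0, 94, m8 0 0 (-1) 1 0 (-1) 1 0),
  (182, 0, 65, m8 0 0 (-1) 1 0 (-1) 1 0),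
  (182, 1, 32, m8 0 0 0 (-1) 1 0 1 (-1)),
  (86, 1, 40, m8 0 0 0 (-1) 1 0 1 (-1)),
  (161, 1, 164, m8 0 0 0 (-1) 1 0 1 (-1)),
  (31, 1, 181, m8 0 0 0 (-1) 1 0 1 (-1)),
  (125, 1, 63, m8 0 0 0 (-1) 1 0 1 (-1)),
  (66, 0, 112, m8 0 0 (-1) 1 0 (-1) 1 0),
  (66, 1, 47, m8 0 0 0 (-1) 1 0 1 (-1)),
  (132, 0, 89, m8 0 0 (-1) 1 0 (-1) 1 0),
  (109, 1, 83, m8 0 0 0 (-1) 1 0 1 (-1)),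
  (57, 0, 143, m8 0 0 (-1) 1 0 (-1) 1 0),
  (124, 1, 53, m8 0 0 0 (-1) 1 0 1 (-1)),
  (140, 1, 90, m8 0 0 0 (-1) 1 0 1 (-1)),
  (186, 0, 116, m8 0 0 (-1) 1 0 (-1) 1 0),
  (186, 1, 80, m8 0 0 0 (-1) 1 0 1 (-1)),
  (37, 0, 81, m8 0 0 (-1) 1 0 (-1) 1 0),
  (37, 1, 159, m8 0 0 0 (-1) 1 0 1 (-1)),
  (145, 1, 59, m8 0 0 0 (-1) 1 0 1 (-1)),
  (149, 0, 122, m8 0 0 (-1) 1 0 (-1) 1 0),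
  (149, 1, 103, m8 0 0 0 (-1) 1 0 1 (-1)),
  (54, 0, 43, m8 0 0 (-1) 1 0 (-1) 1 0),
  (75, 0, 74, m8 0 0 (-1) 1 0 (-1) 1 0),
  (69, 0, 141, m8 0 0 (-1) 1 0 (-1) 1 0),
  (166, 1, 82, m8 0 0 0 (-1) 1 0 1 (-1)),
  (50, 0, 114, m8 0 0 (-1) 1 0 (-1) 1 0),
  (99, 1, 72, m8 0 0 0 (-1) 1 0 1 (-1)),
  (46, 1, 119, m8 0 0 0 (-1) 1 0 1 (-1)),
  (38, 1, 108, m8 0 0 0 (-1) 1 0 1 (-1)),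
  (127, 0, 36, m8 0 0 (-1) 1 0 (-1) 1 0),
  (64, 1, 110, m8 0 0 0 (-1) 1 0 1 (-1)),
  (45, 1, 178, m8 0 0 0 (-1) 1 0 1 (-1)),
  (139, 1, 70, m8 0 0 0 (-1) 1 0 1 (-1)),
  (94, 0, 71, m8 0 0 (-1) 1 0 (-1) 1 0),
  (65, 0, 162, m8 0 0 (-1) 1 0 (-1) 1 0),
  (65, 1, 128, m8 0 0 0 (-1) 1 0 1 (-1)),
  (32, 0, 44, m8 0 0 (-1) 1 0 (-1) 1 0),
  (40, 0, 160, m8 0 0 (-1) 1 0 (-1) 1 0),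
  (40, 1, 170, m8 0 0 0 (-1) 1 0 1 (-1)),
  (164, 0, 39, m8 0 0 (-1) 1 0 (-1) 1 0),
  (181, 0, 169, m8 0 0 (-1) 1 0 (-1) 1 0),
  (63, 1, 171, m8 0 0 0 (-1) 1 0 1 (-1)),
  (112, 0, 138, m8 0 0 (-1) 1 0 (-1) 1 0),
  (112, 1, 144, m8 0 0 0 (-1) 1 0 1 (-1)),
  (83, 0, 120, m8 0 0 (-1) 1 0 (-1) 1 0),
  (143, 0, 126, m8 0 0 (-1) 1 0 (-1) 1 0),
  (143, 1, 84, m8 0 0 0 (-1) 1 0 1 (-1)),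
  (53, 0, 28, m8 0 0 (-1) 1 0 (-1) 1 0),
  (90, 0, 156, m8 0 0 (-1) 1 0 (-1) 1 0),
  (80, 0, 98, m8 0 0 (-1) 1 0 (-1) 1 0),
  (43, 1, 117, m8 0 0 0 (-1) 1 0 1 (-1)),
  (119, 0, 142, m8 0 0 (-1) 1 0 (-1) 1 0),
  (108, 0, 106, m8 0 0 (-1) 1 0 (-1) 1 0),
  (36, 0, 155, m8 0 0 (-1) 1 0 (-1) 1 0),
  (70, 0, 87, m8 0 0 (-1) 1 0 (-1) 1 0),
  (162, 1, 184, m8 0 0 0 (-1) 1 0 1 (-1)),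
  (160, 0, 185, m8 0 0 (-1) 1 0 (-1) 1 0),
  (84, 1, 100, m8 0 0 0 (-1) 1 0 1 (-1)),
  (156, 1, 33, m8 0 0 0 (-1) 1 0 1 (-1)),
  (211, 0, 309, m8 1 0 0 0 0 1 (-1) 1),
  (211, 1, 253, m8 1 (-1) 0 0 (-1) 0 0 (-1)),
  (309, 0, 286, m8 1 (-1) 0 1 0 0 (-1) 0),
  (309, 1, 255, m8 0 (-1) 1 0 0 0 1 (-1)),
  (253, 0, 285, m8 1 (-1) 0 1 0 0 (-1) 0),
  (253, 1, 288, m8 0 0 (-1) 1 0 (-1) 1 0),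
  (286, 0, 252, m8 (-1) 0 0 0 0 1 1 (-1)),
  (286, 1, 216, m8 0 1 1 0 0 0 1 (-1)),
  (255, 0, 307, m8 1 0 0 0 0 (-1) (-1) 1),
  (255, 1, 258, m8 1 0 0 (-1) (-1) 1 0 0),
  (285, 0, 290, m8 1 0 0 0 0 (-1) (-1) 1),
  (285, 1, 289, m8 1 (-1) 0 0 1 0 0 (-1)),
  (288, 0, 214, m8 (-1) 1 0 (-1) 0 0 1 0),
  (288, 1, 284, m8 1 (-1) 0 0 1 0 0 1),
  (216, 1, 251, m8 1 0 0 1 (-1) 1 0 0),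
  (307, 1, 218, m8 0 0 1 (-1) 0 1 1 0),
  (258, 0, 215, m8 1 0 0 0 0 1 (-1) 1),
  (258, 1, 308, m8 0 1 (-1) 0 0 0 1 (-1)),
  (290, 0, 212, m8 (-1) 1 0 1 0 0 1 0),
  (290, 1, 287, m8 1 0 0 (-1) 1 (-1) 0 0),
  (289, 0, 314, m8 1 (-1) 0 (-1) 0 0 (-1) 0),
  (214, 0, 217, m8 1 0 0 0 0 (-1) (-1) 1),
  (251, 0, 283, m8 1 (-1) 0 (-1) 0 0 (-1) 0),
  (251, 1, 313, m8 0 (-1) (-1) 0 0 0 1 (-1)),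
  (218, 0, 257, m8 1 (-1) 0 (-1) 0 0 (-1) 0),
  (218, 1, 256, m8 1 (-1) 0 0 (-1) 0 0 1),
  (215, 0, 311, m8 1 (-1) 0 1 0 0 (-1) 0),
  (215, 1, 310, m8 0 0 (-1) 1 0 (-1) 1 0),
  (287, 0, 312, m8 1 (-1) 0 1 0 0 (-1) 0),
  (287, 1, 213, m8 0 (-1) 1 0 0 0 1 (-1)),
  (314, 0, 254, m8 (-1) 0 0 0 0 (-1) 1 (-1)),
  (227, 0, 293, m8 1 0 (-1) 1 0 0 0 (-1)),
  (227, 1, 235, m8 1 0 0 0 0 (-1) (-1) 1),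
  (293, 0, 302, m8 0 1 0 0 1 (-1) (-1) 0),
  (293, 1, 240, m8 0 0 1 0 1 (-1) 0 1),
  (235, 0, 291, m8 0 1 0 0 (-1) 1 (-1) 0),
  (235, 1, 298, m8 0 0 (-1) 0 (-1) 1 0 1),
  (302, 0, 236, m8 (-1) 0 (-1) 1 0 0 0 1),
  (302, 1, 234, m8 1 (-1) 0 1 0 0 1 0),
  (240, 0, 231, m8 0 1 0 0 1 (-1) (-1) 0),
  (240, 1, 238, m8 1 0 0 0 0 (-1) 1 (-1)),
  (291, 0, 294, m8 1 0 (-1) 1 0 0 0 (-1)),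
  (291, 1, 296, m8 0 1 1 (-1) 1 0 0 0),
  (298, 0, 228, m8 0 (-1) 0 0 1 (-1) 1 0),
  (298, 1, 292, m8 1 0 0 0 0 1 1 (-1)),
  (236, 1, 229, m8 0 1 1 (-1) (-1) 0 0 0),
  (234, 0, 241, m8 0 1 0 0 (-1) 1 (-1) 0),
  (234, 1, 239, m8 0 1 1 (-1) (-1) 0 0 0),
  (231, 0, 299, m8 1 0 1 (-1) 0 0 0 (-1)),
  (231, 1, 242, m8 0 1 (-1) 1 (-1) 0 0 0),
  (238, 0, 233, m8 1 0 1 (-1) 0 0 0 (-1)),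
  (238, 1, 301, m8 0 0 (-1) 0 1 (-1) 0 1),
  (294, 0, 232, m8 0 (-1) 0 0 (-1) 1 1 0),
  (294, 1, 297, m8 0 1 (-1) 1 1 0 0 0),
  (241, 0, 303, m8 1 0 (-1) 1 0 0 0 (-1)),
  (239, 0, 295, m8 0 1 0 0 1 (-1) (-1) 0),
  (239, 1, 305, m8 (-1) 1 0 (-1) 0 0 1 0),
  (242, 1, 304, m8 1 (-1) 0 (-1) 0 0 1 0),
  (233, 1, 300, m8 0 0 (-1) 0 (-1) 1 0 1),
  (297, 0, 306, m8 0 1 0 0 (-1) 1 (-1) 0),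
  (297, 1, 237, m8 (-1) 1 0 1 0 0 1 0),
  (303, 1, 230, m8 0 0 1 0 1 (-1) 0 1)]

end Cfsg.Agent.Lib.Helper26_Ico
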