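import Cfsg.Agent.Lib.Helper26_IcoTrans
import Cfsg.Agent.Lib.Helper26_IcoSimpleData

/-!
# `J₂` is simple: Iwasawa's criterion on the conjugation action on the 315 reflections (helper26)
-/

set_option autoImplicit false
set_option linter.constructorNameAsVariable false

namespace Cfsg.Agent.Lib.Helper26_Ico

open Quaternion Cfsg.Spor MulAction
open scoped commutatorElement Pointwise

/-! ### Conjugation preserves reflections -/

theorem conj_isRefl {g : Equiv.Perm icoLeech} (hg : g ∈ twoJ2) :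
    (∀ f, IsIcoReflection f → IsIcoReflection (g * f * g⁻¹)) ∧
    (∀ f, IsIcoReflection f → IsIcoReflection (g⁻¹ * f * g)) := by
  unfold twoJ2 at hg
  induction hg using Subgroup.closure_induction with
  | mem x hx =>
    obtain ⟨m, hm, hm4, rfl⟩ := (isIcoReflection_iff x).1 hx
    have key : ∀ f, IsIcoReflection f →
        IsIcoReflection (reflPerm m hm hm4 * f * (reflPerm m hm hm4)⁻¹) := by
      intro f hf
      obtain ⟨r, hr, hr4, rfl⟩ := (isIcoReflection_iff f).1 hf
      rw [reflPerm_conj, isIcoReflection_iff]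
      exact ⟨_, _, _, rfl⟩
    refine ⟨key, fun f hf => ?_⟩
    have := key f hf
    rwa [reflPerm_inv] at this ⊢
  | one => simp
  | mul x y _ _ hx hy =>
    constructor
    · intro f hf
      have := hx.1 _ (hy.1 f hf)
      convert this using 1
      group
    · intro f hf
      have := hy.2 _ (hx.2 f hf)
      convert this using 1
      group
  | inv x _ hx =>
    constructor
    · intro f hf
      have := hx.2 f hf
      rwa [inv_inv]
    · intro f hf
      have := hx.1 f hf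
      rwa [inv_inv]

/-- The set of reflections, as a type. -/
abbrev Refl : Type := {f : Equiv.Perm icoLeech // IsIcoReflection f}

noncomputable instance instMulActionRefl : MulAction twoJ2 Refl where
  smul g x := ⟨g.1 * x.1 * g.1⁻¹, (conj_isRefl g.2).1 x.1 x.2⟩
  one_smul x := Subtype.ext (by
    show (1 : Equiv.Perm icoLeech) * x.1 * (1 : Equiv.Perm icoLeech)⁻¹ = x.1
    group)
  mul_smul g h x := Subtype.ext (by
    show (g.1 * h.1) * x.1 * (g.1 * h.1)⁻¹ = g.1 * (h.1 * x.1 * h.1⁻¹) * g.1⁻¹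
    group)

theorem smul_val (g : twoJ2) (x : Refl) : (g • x).1 = g.1 * x.1 * g.1⁻¹ := rfl

/-- A reflection as an element of `2·J₂`. -/
def Refl.toG (x : Refl) : twoJ2 := ⟨x.1, Subgroup.subset_closure x.2⟩

theorem center_smul (z : twoJ2) (hz : z ∈ Subgroup.center twoJ2) (x : Refl) : z • x = x := by
  apply Subtype.ext
  rw [smul_val]
  have := Subgroup.mem_center_iff.1 hz x.toG
  have h2 : x.1 * z.1 = z.1 * x.1 := congrArg Subtype.val this
  rw [← h2, mul_assoc, mul_inv_cancel, mul_one]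

theorem mem_center_of_smul (g : twoJ2) (h : ∀ x : Refl, g • x = x) :
    g ∈ Subgroup.center twoJ2 := by
  rw [Subgroup.mem_center_iff]
  intro y
  apply Subtype.ext
  have hy := y.2
  show y.1 * g.1 = g.1 * y.1
  have hle : twoJ2 ≤ Subgroup.centralizer {g.1} := by
    unfold twoJ2
    rw [Subgroup.closure_le]
    intro f hf
    rw [SetLike.mem_coe, Subgroup.mem_centralizer_iff]
    intro k hk
    rw [Set.mem_singleton_iff] at hk
    subst hk
    have := congrArg Subtype.val (h ⟨f, hf⟩)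
    rw [smul_val] at this
    have e : g.1 * f = f * g.1 := by
      calc g.1 * f = g.1 * f * g.1⁻¹ * g.1 := by group
        _ = f * g.1 := by rw [this]
    exact e
  have := Subgroup.mem_centralizer_iff.1 (hle hy) g.1 rfl
  exact this.symm

/-! ### The action of `J₂` -/

noncomputable def conjHom : twoJ2 →* Equiv.Perm Refl := MulAction.toPermHom twoJ2 Refl

theorem center_le_ker : Subgroup.center twoJ2 ≤ conjHom.ker := by
  intro z hz
  rw [MonoidHom.mem_ker]
  ext x : 1
  exact center_smul z hz x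

noncomputable def quotHom : J2 →* Equiv.Perm Refl :=
  QuotientGroup.lift (Subgroup.center twoJ2) conjHom center_le_ker

noncomputable instance instMulActionJ2Refl : MulAction J2 Refl := MulAction.compHom Refl quotHom

theorem mk_smul (g : twoJ2) (x : Refl) : ((QuotientGroup.mk g : J2) • x) = g • x := rfl

theorem faithful_J2 : FaithfulSMul J2 Refl := by
  constructor
  intro q1 q2 h
  obtain ⟨g1, rfl⟩ := QuotientGroup.mk_surjective q1
  obtain ⟨g2, rfl⟩ := QuotientGroup.mk_surjective q2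
  rw [QuotientGroup.eq]
  apply mem_center_of_smul
  intro x
  have := h x
  rw [mk_smul, mk_smul] at this
  rw [mul_smul, ← this, inv_smul_smul]

theorem pretransitive_G : IsPretransitive twoJ2 Refl := by
  constructor
  intro x y
  obtain ⟨g, hg, e⟩ := reflections_conj x.1 y.1 x.2 y.2
  exact ⟨⟨g, hg⟩, Subtype.ext e⟩

/-! ### The Iwasawa structure -/

/-- Image of a reflection in `J₂`. -/
def Refl.toJ (x : Refl) : J2 := QuotientGroup.mk x.toG

theorem toJ_smul (g : twoJ2) (x : Refl) :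
    (g • x).toJ = (QuotientGroup.mk g : J2) * x.toJ * (QuotientGroup.mk g : J2)⁻¹ := by
  unfold Refl.toJ
  rw [← QuotientGroup.mk_inv, ← QuotientGroup.mk_mul, ← QuotientGroup.mk_mul]
  congr 1

theorem toJ_mul_self (x : Refl) : x.toJ * x.toJ = 1 := by
  unfold Refl.toJ
  rw [← QuotientGroup.mk_mul]
  have : x.toG * x.toG = 1 := by
    apply Subtype.ext
    show x.1 * x.1 = 1
    obtain ⟨r, hr, h4, e⟩ := (isIcoReflection_iff x.1).1 x.2
    rw [e]
    nth_rewrite 1 [← reflPerm_inv r hr h4]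
    exact inv_mul_cancel _
  rw [this]; rfl

theorem closure_toJ : Subgroup.closure (Set.range Refl.toJ) = ⊤ := by
  have h1 : Subgroup.closure (((↑) : twoJ2 → Equiv.Perm icoLeech) ⁻¹' {f | IsIcoReflection f}) = ⊤ :=
    Subgroup.closure_closure_coe_preimage
  have h2 : Subgroup.map (QuotientGroup.mk' (Subgroup.center twoJ2)) ⊤ = ⊤ :=
    Subgroup.map_top_of_surjective _ (QuotientGroup.mk'_surjective _)
  rw [← h2, ← h1, MonoidHom.map_closure]
  congr 1
  ext q
  constructor
  · rintro ⟨x, rfl⟩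
    exact ⟨x.toG, x.2, rfl⟩
  · rintro ⟨g, hg, rfl⟩
    exact ⟨⟨g.1, hg⟩, rfl⟩

noncomputable def iwasawa : IwasawaStructure J2 Refl where
  T x := Subgroup.zpowers x.toJ
  is_comm x := inferInstance
  is_conj q x := by
    obtain ⟨g, rfl⟩ := QuotientGroup.mk_surjective q
    rw [mk_smul, toJ_smul, Subgroup.zpowers_eq_closure, Subgroup.zpowers_eq_closure,
      Subgroup.smul_closure, Set.smul_set_singleton, MulAut.smul_def, MulAut.conj_apply]
  is_generator := by
    rw [eq_top_iff, ← closure_toJ, Subgroup.closure_le]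
    rintro _ ⟨x, rfl⟩
    exact Subgroup.mem_iSup_of_mem x (Subgroup.mem_zpowers _)


/-! ### Perfectness -/

/-- The three coordinate minimal vectors. -/
noncomputable def E0 : Fin 3 → ℍ[ℝ] := toH3 ![twoZ, 0, 0]
noncomputable def E1 : Fin 3 → ℍ[ℝ] := toH3 ![0, twoZ, 0]
noncomputable def E2 : Fin 3 → ℍ[ℝ] := toH3 ![0, 0, twoZ]

theorem E0_mem : E0 ∈ icoLeech ∧ qip E0 E0 = 4 := by
  have := line_mem A_mem.1
  rwa [show twoZl ++ zeroL ++ zeroL = toL3 ![twoZ, 0, 0] from rfl, ofL3_toL3] at this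

theorem E1_mem : E1 ∈ icoLeech ∧ qip E1 E1 = 4 := by
  have := line_mem A_mem.2.1
  rwa [show zeroL ++ twoZl ++ zeroL = toL3 ![0, twoZ, 0] from rfl, ofL3_toL3] at this

theorem E2_mem : E2 ∈ icoLeech ∧ qip E2 E2 = 4 := by
  have := line_mem A_mem.2.2
  rwa [show zeroL ++ zeroL ++ twoZl = toL3 ![0, 0, twoZ] from rfl, ofL3_toL3] at this

theorem half_smul_mul_two (a : ℍ[ℝ]) : (1 / 2 : ℝ) • (a * 2) = a := by
  rw [two_comm, two_mul, smul_add, ← add_smul]; norm_num

theorem star_two : star (2 : ℍ[ℝ]) = 2 := by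
  rw [← coe_two, Quaternion.star_coe]

theorem qrefl_E0 (x : Fin 3 → ℍ[ℝ]) : qrefl E0 x = ![-x 0, x 1, x 2] := by
  have q : qip x E0 = x 0 * 2 := by
    rw [qip_def]
    simp [E0, toH_twoZ, toH_zero]
  funext t
  rw [qrefl, q, half_smul_mul_two]
  fin_cases t
  · show x 0 - x 0 * toH twoZ = -x 0
    rw [toH_twoZ, two_comm, two_mul]; abel
  · show x 1 - x 0 * toH 0 = x 1
    rw [toH_zero, mul_zero, sub_zero]
  · show x 2 - x 0 * toH 0 = x 2
    rw [toH_zero, mul_zero, sub_zero]

theorem qrefl_E1 (x : Fin 3 → ℍ[ℝ]) : qrefl E1 x = ![x 0, -x 1, x 2] := by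
  have q : qip x E1 = x 1 * 2 := by
    rw [qip_def]
    simp [E1, toH_twoZ, toH_zero]
  funext t
  rw [qrefl, q, half_smul_mul_two]
  fin_cases t
  · show x 0 - x 1 * toH 0 = x 0
    rw [toH_zero, mul_zero, sub_zero]
  · show x 1 - x 1 * toH twoZ = -x 1
    rw [toH_twoZ, two_comm, two_mul]; abel
  · show x 2 - x 1 * toH 0 = x 2
    rw [toH_zero, mul_zero, sub_zero]

theorem qrefl_E2 (x : Fin 3 → ℍ[ℝ]) : qrefl E2 x = ![x 0, x 1, -x 2] := by
  have q : qip x E2 = x 2 * 2 := by
    rw [qip_def]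
    simp [E2, toH_twoZ, toH_zero]
  funext t
  rw [qrefl, q, half_smul_mul_two]
  fin_cases t
  · show x 0 - x 2 * toH 0 = x 0
    rw [toH_zero, mul_zero, sub_zero]
  · show x 1 - x 2 * toH 0 = x 1
    rw [toH_zero, mul_zero, sub_zero]
  · show x 2 - x 2 * toH twoZ = -x 2
    rw [toH_twoZ, two_comm, two_mul]; abel

noncomputable def RE0 : Refl := ⟨reflPerm E0 E0_mem.1 E0_mem.2, (isIcoReflection_iff _).2 ⟨_, _, _, rfl⟩⟩
noncomputable def RE1 : Refl := ⟨reflPerm E1 E1_mem.1 E1_mem.2, (isIcoReflection_iff _).2 ⟨_, _, _, rfl⟩⟩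
noncomputable def RE2 : Refl := ⟨reflPerm E2 E2_mem.1 E2_mem.2, (isIcoReflection_iff _).2 ⟨_, _, _, rfl⟩⟩

theorem neg_apply (x : icoLeech) :
    (((RE0.1 * RE1.1 * RE2.1) x : icoLeech) : Fin 3 → ℍ[ℝ]) = -(x : Fin 3 → ℍ[ℝ]) := by
  show qrefl E0 (qrefl E1 (qrefl E2 x)) = -(x : Fin 3 → ℍ[ℝ])
  rw [qrefl_E2, qrefl_E1, qrefl_E0]
  funext t
  fin_cases t <;> rfl

theorem qrefl_neg (r x : Fin 3 → ℍ[ℝ]) : qrefl r (-x) = -qrefl r x := by
  funext t
  simp only [qrefl, qip_def, Pi.neg_apply, neg_mul, smul_neg, ← neg_add]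
  abel

theorem neg_central : RE0.toG * RE1.toG * RE2.toG ∈ Subgroup.center twoJ2 := by
  apply mem_center_of_smul
  intro y
  apply Subtype.ext
  rw [smul_val]
  show (RE0.1 * RE1.1 * RE2.1) * y.1 * (RE0.1 * RE1.1 * RE2.1)⁻¹ = y.1
  obtain ⟨r, hr, h4, e⟩ := (isIcoReflection_iff y.1).1 y.2
  have hc : (RE0.1 * RE1.1 * RE2.1) * y.1 = y.1 * (RE0.1 * RE1.1 * RE2.1) := by
    ext x : 2
    show (((RE0.1 * RE1.1 * RE2.1) (y.1 x) : icoLeech) : Fin 3 → ℍ[ℝ]) =
      ((y.1 ((RE0.1 * RE1.1 * RE2.1) x) : icoLeech) : Fin 3 → ℍ[ℝ])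
    rw [neg_apply, e, reflPerm_apply, reflPerm_apply, neg_apply, qrefl_neg]
  rw [hc, mul_assoc, mul_inv_cancel, mul_one]

theorem toJ_prod : RE0.toJ * RE1.toJ * RE2.toJ = 1 := by
  unfold Refl.toJ
  rw [← QuotientGroup.mk_mul, ← QuotientGroup.mk_mul]
  exact (QuotientGroup.eq_one_iff _).2 neg_central

theorem toJ_mem_commutator (x : Refl) : x.toJ ∈ commutator J2 := by
  have h2 : RE2.toJ ∈ commutator J2 := by
    obtain ⟨g, hg⟩ := pretransitive_G.exists_smul_eq RE0 RE1
    obtain ⟨q, hq⟩ : ∃ q : J2, q = QuotientGroup.mk g := ⟨_, rfl⟩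
    have e1 : RE1.toJ = q * RE0.toJ * q⁻¹ := by
      rw [← hg, toJ_smul, hq]
    have e2 : RE2.toJ = ⁅q, RE0.toJ⁆ := by
      have i0 : RE0.toJ⁻¹ = RE0.toJ := inv_eq_of_mul_eq_one_right (toJ_mul_self RE0)
      have i1 : RE1.toJ⁻¹ = RE1.toJ := inv_eq_of_mul_eq_one_right (toJ_mul_self RE1)
      have : RE2.toJ = RE1.toJ * RE0.toJ := by
        have := toJ_prod
        calc RE2.toJ = (RE0.toJ * RE1.toJ)⁻¹ * (RE0.toJ * RE1.toJ * RE2.toJ) := by group
          _ = (RE0.toJ * RE1.toJ)⁻¹ := by rw [this, mul_one]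
          _ = RE1.toJ * RE0.toJ := by rw [mul_inv_rev, i0, i1]
      rw [this, e1, commutatorElement_def, i0]
    rw [e2, commutator_def]
    exact Subgroup.commutator_mem_commutator (Subgroup.mem_top _) (Subgroup.mem_top _)
  obtain ⟨g, hg⟩ := pretransitive_G.exists_smul_eq RE2 x
  rw [← hg, toJ_smul]
  exact (inferInstance : (commutator J2).Normal).conj_mem _ h2 _

theorem perfect_J2 : commutator J2 = ⊤ := by
  rw [eq_top_iff, ← closure_toJ, Subgroup.closure_le]
  rintro _ ⟨x, rfl⟩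
  exact toJ_mem_commutator x


/-! ### Reflections indexed by the list of lines -/

theorem lineRefl_isRefl {n : ℕ} (h : n < 315) : IsIcoReflection (lineRefl (lineAt n)) := by
  rw [lineRefl_eq (lineAt_mem h), isIcoReflection_iff]
  exact ⟨_, _, _, rfl⟩

open Classical in
/-- The `n`-th reflection (junk value for `n ≥ 315`). -/
noncomputable def Rn (n : ℕ) : Refl :=
  if h : n < 315 then ⟨lineRefl (lineAt n), lineRefl_isRefl h⟩ else RE0

theorem Rn_val {n : ℕ} (h : n < 315) : (Rn n).1 = lineRefl (lineAt n) := by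
  rw [Rn, dif_pos h]

theorem Rn_surj (x : Refl) : ∃ n, n < 315 ∧ Rn n = x := by
  have h1 : x.1 ∈ {f : Equiv.Perm icoLeech | IsIcoReflection f} := x.2
  rw [refl_set_eq] at h1
  obtain ⟨L, hL, e⟩ := h1
  simp only [List.coe_toFinset, Set.mem_ofPred_eq] at hL
  obtain ⟨n, hn, rfl⟩ := exists_lineAt hL
  exact ⟨n, hn, Subtype.ext (by rw [Rn_val hn, e])⟩

theorem lineAt_inj {m n : ℕ} (hm : m < 315) (hn : n < 315) (h : lineAt m = lineAt n) : m = n := by
  have hm' : m < LinesL.length := by rw [LinesL_length]; exact hm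
  have hn' : n < LinesL.length := by rw [LinesL_length]; exact hn
  rw [lineAt, lineAt, List.getD_eq_getElem _ _ hm', List.getD_eq_getElem _ _ hn'] at h
  exact (List.Nodup.getElem_inj_iff LinesL_nodup).1 h

theorem Rn_inj {m n : ℕ} (hm : m < 315) (hn : n < 315) (h : Rn m = Rn n) : m = n := by
  have := congrArg Subtype.val h
  rw [Rn_val hm, Rn_val hn] at this
  have hL := lineRefl_injOn (by simpa using lineAt_mem hm) (by simpa using lineAt_mem hn) this
  exact lineAt_inj hm hn hL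

/-- Conjugating the reflection in a coordinate vector by the reflection in a listed line. -/
theorem conj_line {k : ℕ} (hk : k < 315) {w : Fin 3 → Fin 8 → ℤ} (hw : toH3 w ∈ icoLeech)
    (h4 : qip (toH3 w) (toH3 w) = 4) :
    ∃ (hm : toH3 (reflZ (ofL3 (lineAt k)) w) ∈ icoLeech)
      (h4' : qip (toH3 (reflZ (ofL3 (lineAt k)) w)) (toH3 (reflZ (ofL3 (lineAt k)) w)) = 4),
      lineRefl (lineAt k) * reflPerm (toH3 w) hw h4 * (lineRefl (lineAt k))⁻¹ =
        reflPerm (toH3 (reflZ (ofL3 (lineAt k)) w)) hm h4' := by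
  have mk := lineAt_mem hk
  have e := toH3_reflZ (line_inLam mk) ((toH3_mem_iff w).1 hw)
  have hm : toH3 (reflZ (ofL3 (lineAt k)) w) ∈ icoLeech := by
    rw [e]; exact qrefl_mem (line_mem mk).1 hw
  have h4' : qip (toH3 (reflZ (ofL3 (lineAt k)) w)) (toH3 (reflZ (ofL3 (lineAt k)) w)) = 4 := by
    rw [e, qip_qrefl (line_mem mk).2, h4]
  refine ⟨hm, h4', ?_⟩
  rw [lineRefl_eq mk, reflPerm_conj]
  apply reflPerm_congr
  intro x
  rw [e]

/-- The product of the reflections in lines `a` and `b`, in `2·J₂`. -/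
noncomputable def gen2 (a b : ℕ) : twoJ2 := (Rn a).toG * (Rn b).toG

def edge2OK (e : ℕ × ℕ × ℕ × List ℤ) : Bool :=
  decide (e.2.1 < 2) && decide (e.1 < 315) && decide (e.2.2.1 < 315) && decide (e.2.2.2 ∈ UZl) &&
    decide ((stabGens.getD e.2.1 (0, 0)).1 < 315) && decide ((stabGens.getD e.2.1 (0, 0)).2 < 315) &&
    decide (refll (lineAt (stabGens.getD e.2.1 (0, 0)).1)
      (refll (lineAt (stabGens.getD e.2.1 (0, 0)).2) (lineAt e.1)) = lsmull e.2.2.2 (lineAt e.2.2.1))

theorem edge2_sound {e : ℕ × ℕ × ℕ × List ℤ} (he : edge2OK e = true) :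
    gen2 (stabGens.getD e.2.1 (0, 0)).1 (stabGens.getD e.2.1 (0, 0)).2 • Rn e.1 = Rn e.2.2.1 := by
  obtain ⟨p, s, i, u⟩ := e
  simp only [edge2OK, Bool.and_eq_true, decide_eq_true_eq] at he
  obtain ⟨⟨⟨⟨⟨⟨-, hp⟩, hi⟩, hu⟩, ha⟩, hb⟩, heq⟩ := he
  set a := (stabGens.getD s (0, 0)).1 with ha_def
  set b := (stabGens.getD s (0, 0)).2 with hb_def
  have mp := lineAt_mem hp
  have mi := lineAt_mem hi
  have ma := lineAt_mem ha
  have mb := lineAt_mem hb
  obtain ⟨huI, hun, hue⟩ := unit_mem hu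
  rw [← toL3_ofL3 ma, ← toL3_ofL3 mb, ← toL3_ofL3 mp, ← toL3_ofL3 mi, ← hue, refll_toL3, refll_toL3,
    lsmull_toL3] at heq
  have hZ := toL3_inj heq
  apply Subtype.ext
  rw [smul_val, Rn_val hi]
  show ((Rn a).1 * (Rn b).1) * (Rn p).1 * ((Rn a).1 * (Rn b).1)⁻¹ = lineRefl (lineAt i)
  rw [Rn_val ha, Rn_val hb, Rn_val hp]
  have hgrp : lineRefl (lineAt a) * lineRefl (lineAt b) * lineRefl (lineAt p) *
      (lineRefl (lineAt a) * lineRefl (lineAt b))⁻¹ =
      lineRefl (lineAt a) * (lineRefl (lineAt b) * lineRefl (lineAt p) * (lineRefl (lineAt b))⁻¹) *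
        (lineRefl (lineAt a))⁻¹ := by group
  rw [hgrp, lineRefl_eq mp]
  obtain ⟨m1, n1, e1⟩ := conj_line hb (line_mem mp).1 (line_mem mp).2
  rw [e1]
  obtain ⟨m2, n2, e2⟩ := conj_line ha m1 n1
  rw [e2, lineRefl_eq mi]
  apply reflPerm_congr
  intro x
  rw [hZ, toH3_lsmulZ ((toH_mem_iff _).1 huI) (inLam_inIZ (line_inLam mi)),
    qrefl_lsmul (unit_of_normSq_one hun).1]

/-! ### The suborbit trees -/

def clsOf (n : ℕ) : ℕ := clsL.getD n 0
def rootOf (n : ℕ) : ℕ := rootL.getD (clsOf n) 0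

def reach2Step (acc : List ℕ) (e : ℕ × ℕ × ℕ × List ℤ) : List ℕ :=
  if acc.contains e.1 && edge2OK e && (clsOf e.1 == clsOf e.2.2.1) then e.2.2.1 :: acc else acc

def reach2 (cert : List (ℕ × ℕ × ℕ × List ℤ)) (acc : List ℕ) : List ℕ := cert.foldl reach2Step acc

theorem stabFix_ok : stabFix.all edge2OK = true := by decide +kernel

theorem stabEdges_ok : allReached (reach2 stabEdges rootL) = true := by decide +kernel

theorem rootL_ok : ∀ n ∈ rootL, rootOf n = n := by decide

theorem cls_zero : ∀ n ∈ List.range 315, clsOf n = 0 → n = 0 := by decide +kernel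

theorem cls_lt : ∀ n ∈ List.range 315, clsOf n < 6 := by decide +kernel

def sel6 (b0 b1 b2 b3 b4 b5 : Bool) (k : ℕ) : Bool :=
  match k with
  | 0 => b0 | 1 => b1 | 2 => b2 | 3 => b3 | 4 => b4 | 5 => b5 | _ => false

theorem count_ok : ∀ b1 b2 b3 b4 b5 : Bool,
    ((List.range 315).filter (fun n => sel6 true b1 b2 b3 b4 b5 (clsOf n))).length ∣ 315 →
      (b1 = true ∧ b2 = true ∧ b3 = true ∧ b4 = true ∧ b5 = true) ∨
      (b1 = false ∧ b2 = false ∧ b3 = false ∧ b4 = false ∧ b5 = false) := by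
  decide +kernel

theorem reach2_sound (Pr : ℕ → Prop)
    (hstep : ∀ e, edge2OK e = true → (Pr e.1 ↔ Pr e.2.2.1))
    (cert : List (ℕ × ℕ × ℕ × List ℤ)) :
    ∀ acc : List ℕ, (∀ n ∈ acc, (Pr n ↔ Pr (rootOf n))) →
      ∀ n ∈ reach2 cert acc, (Pr n ↔ Pr (rootOf n)) := by
  induction cert with
  | nil => intro acc h; exact h
  | cons e cert ih =>
    intro acc h
    rw [reach2, List.foldl_cons]
    apply ih
    intro n hn
    unfold reach2Step at hn
    split_ifs at hn with hc
    · rw [Bool.and_eq_true, Bool.and_eq_true] at hc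
      rcases List.mem_cons.1 hn with rfl | hn
      · have hp := h _ (by simpa using hc.1.1)
        have hcls : clsOf e.1 = clsOf e.2.2.1 := by simpa using hc.2
        rw [← hstep e hc.1.2, hp, rootOf, rootOf, hcls]
      · exact h n hn
    · exact h n hn


theorem edge2_lt {e : ℕ × ℕ × ℕ × List ℤ} (he : edge2OK e = true) : e.2.1 < 2 := by
  simp only [edge2OK, Bool.and_eq_true, decide_eq_true_eq] at he
  exact he.1.1.1.1.1.1

theorem card_Refl : Nat.card Refl = 315 := by
  have := Nat.card_coe_set_eq {f : Equiv.Perm icoLeech | IsIcoReflection f}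
  rw [refl_ncard] at this
  exact this

/-! ### Primitivity -/

theorem primitive_G : IsPreprimitive twoJ2 Refl := by
  have := pretransitive_G
  apply IsPreprimitive.of_isTrivialBlock_base (Rn 0)
  intro B h0 hB
  have hall := List.all_eq_true.1 stabFix_ok
  have hstab : ∀ s, s < 2 →
      gen2 (stabGens.getD s (0, 0)).1 (stabGens.getD s (0, 0)).2 • Rn 0 = Rn 0 := by
    intro s hs
    interval_cases s
    · exact edge2_sound (e := stabFix.getD 0 (0, 0, 0, [])) (hall _ (by decide))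
    · exact edge2_sound (e := stabFix.getD 1 (0, 0, 0, [])) (hall _ (by decide))
  have hgB : ∀ s, s < 2 → ∀ x : Refl,
      (gen2 (stabGens.getD s (0, 0)).1 (stabGens.getD s (0, 0)).2 • x ∈ B ↔ x ∈ B) := by
    intro s hs x
    have hmem : gen2 (stabGens.getD s (0, 0)).1 (stabGens.getD s (0, 0)).2 ∈
        stabilizer twoJ2 (Rn 0) := hstab s hs
    have hB' := hB.stabilizer_le h0 hmem
    rw [mem_stabilizer_iff] at hB'
    conv_lhs => rw [← hB']
    exact Set.smul_mem_smul_set_iff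
  have hstep : ∀ e, edge2OK e = true → (Rn e.1 ∈ B ↔ Rn e.2.2.1 ∈ B) := by
    intro e he
    rw [← edge2_sound he]
    exact (hgB _ (edge2_lt he) _).symm
  have htree := reach2_sound (fun n => Rn n ∈ B) hstep stabEdges rootL
    (by intro n hn; rw [rootL_ok n hn])
  have hroot : ∀ n, n < 315 → (Rn n ∈ B ↔ Rn (rootOf n) ∈ B) := by
    intro n hn
    apply htree
    have hok := stabEdges_ok
    rw [allReached, List.all_eq_true] at hok
    have := hok n (List.mem_range.2 hn)
    simpa using this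
  classical
  set b : ℕ → Bool := fun k => decide (Rn (rootL.getD k 0) ∈ B) with hb
  have hsel : ∀ n, n < 315 → (Rn n ∈ B ↔ sel6 true (b 1) (b 2) (b 3) (b 4) (b 5) (clsOf n) = true) := by
    intro n hn
    rw [hroot n hn, rootOf]
    have hlt := cls_lt n (List.mem_range.2 hn)
    generalize clsOf n = k at hlt
    interval_cases k
    · have hr : rootL.getD 0 0 = 0 := rfl
      rw [hr]
      simp [sel6, h0]
    · simp [sel6, hb]
    · simp [sel6, hb]
    · simp [sel6, hb]
    · simp [sel6, hb]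
    · simp [sel6, hb]
  set F := (List.range 315).filter (fun n => sel6 true (b 1) (b 2) (b 3) (b 4) (b 5) (clsOf n)) with hF
  have hBeq : B = Rn '' (F.toFinset : Set ℕ) := by
    ext x
    constructor
    · intro hx
      obtain ⟨n, hn, rfl⟩ := Rn_surj x
      refine ⟨n, ?_, rfl⟩
      simp only [List.coe_toFinset, Set.mem_ofPred_eq, hF, List.mem_filter, List.mem_range]
      exact ⟨hn, (hsel n hn).1 hx⟩
    · rintro ⟨n, hn, rfl⟩
      simp only [List.coe_toFinset, Set.mem_ofPred_eq, hF, List.mem_filter, List.mem_range] at hn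
      exact (hsel n hn.1).2 hn.2
  have hinj : Set.InjOn Rn (F.toFinset : Set ℕ) := by
    intro m hm n hn h
    simp only [List.coe_toFinset, Set.mem_ofPred_eq, hF, List.mem_filter, List.mem_range] at hm hn
    exact Rn_inj hm.1 hn.1 h
  have hcard : B.ncard = F.length := by
    rw [hBeq, Set.InjOn.ncard_image hinj, Set.ncard_coe_finset,
      List.toFinset_card_of_nodup ((List.nodup_range).filter _)]
  have hdvd : F.length ∣ 315 := by
    have := hB.ncard_dvd_card ⟨_, h0⟩
    rwa [hcard, card_Refl] at this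
  rcases count_ok (b 1) (b 2) (b 3) (b 4) (b 5) hdvd with ⟨t1, t2, t3, t4, t5⟩ | ⟨f1, f2, f3, f4, f5⟩
  · right
    rw [Set.eq_univ_iff_forall]
    intro x
    obtain ⟨n, hn, rfl⟩ := Rn_surj x
    rw [hsel n hn, t1, t2, t3, t4, t5]
    have hlt := cls_lt n (List.mem_range.2 hn)
    generalize clsOf n = k at hlt
    interval_cases k <;> rfl
  · left
    have h1 : ∀ x ∈ B, x = Rn 0 := by
      intro x hx
      obtain ⟨n, hn, rfl⟩ := Rn_surj x
      rw [hsel n hn, f1, f2, f3, f4, f5] at hx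
      have hlt := cls_lt n (List.mem_range.2 hn)
      have hz := cls_zero n (List.mem_range.2 hn)
      generalize clsOf n = k at hlt hz hx
      interval_cases k
      · rw [hz rfl]
      all_goals simp [sel6] at hx
    intro x hx y hy
    rw [h1 x hx, h1 y hy]

/-- The identity map of `Refl`, equivariant along `2·J₂ → J₂`. -/
noncomputable def idEquivariant :
    Refl →ₑ[(QuotientGroup.mk : twoJ2 → J2)] Refl where
  toFun := id
  map_smul' g x := (mk_smul g x).symm

theorem primitive_J2 : IsPreprimitive J2 Refl := by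
  have := primitive_G
  exact IsPreprimitive.of_surjective (f := idEquivariant) Function.surjective_id

theorem edge_first : edge2OK (stabEdges.getD 0 (0, 0, 0, [])) = true ∧
    (stabEdges.getD 0 (0, 0, 0, [])).1 ≠ (stabEdges.getD 0 (0, 0, 0, [])).2.2.1 ∧
    (stabEdges.getD 0 (0, 0, 0, [])).1 < 315 ∧ (stabEdges.getD 0 (0, 0, 0, [])).2.2.1 < 315 := by
  decide +kernel

theorem nontrivial_J2 : Nontrivial J2 := by
  obtain ⟨h1, h2, h3, h4⟩ := edge_first
  have hs := edge2_sound h1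
  set e := stabEdges.getD 0 (0, 0, 0, []) with he
  refine ⟨⟨QuotientGroup.mk (gen2 (stabGens.getD e.2.1 (0, 0)).1 (stabGens.getD e.2.1 (0, 0)).2), 1,
    ?_⟩⟩
  intro h
  rw [QuotientGroup.eq_one_iff] at h
  have := center_smul _ h (Rn e.1)
  rw [hs] at this
  exact h2 (Rn_inj h4 h3 this).symm

/-- **`J₂` is simple.** -/
theorem J2_simple : IsSimpleGroup J2 := by
  have := nontrivial_J2
  have := primitive_J2
  exact iwasawa.isSimpleGroup perfect_J2 faithful_J2

theorem J2_noncomm : ∃ a b : J2, a * b ≠ b * a := by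
  by_contra h
  simp only [not_exists, not_not] at h
  have := nontrivial_J2
  have hbot : commutator J2 = ⊥ := by
    rw [commutator_def, Subgroup.commutator_eq_bot_iff_le_centralizer]
    intro x _
    rw [Subgroup.mem_centralizer_iff]
    intro y _
    exact h y x
  rw [perfect_J2] at hbot
  exact top_ne_bot hbot

end Cfsg.Agent.Lib.Helper26_Ico
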