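import Cfsg.Agent.Lib.Helper26_IcoSpecTab
import Cfsg.Agent.Lib.Helper26_IcoCent3

/-!
# Element orders of `J₂` (helper26)

Every element of `J₂` is conjugate to `r * s` with `r` one of six words (one for each suborbit of
the stabiliser `St` of reflection 0) and `s ∈ St`; the 1920 elements of `St` are listed as words,
and the order of each of the 11520 products is bounded by a kernel computation on the base
`(0, 27, 11)` of the action on the 315 reflections.
-/

set_option autoImplicit false
set_option linter.constructorNameAsVariable false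

namespace Cfsg.Agent.Lib.Helper26_Ico

open Quaternion Cfsg.Spor MulAction

/-! ### Words in the tabulated reflections -/

/-- All letters are positions in `specGens`. -/
def okW (w : List ℕ) : Bool := w.all fun p => decide (p < 22)

/-- `tab` with its argument evaluated first (kernel reduction is lazy: without this the argument
would be re-evaluated at every level of the trie). -/
def tabF (p j : ℕ) : ℕ :=
  match j with
  | 0 => tab p 0
  | k + 1 => tab p (k + 1)

theorem tabF_eq (p j : ℕ) : tabF p j = tab p j := by
  cases j <;> rfl

/-- Image of line `j` under the word `w` (letters are positions in `specGens`). -/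
def runP (w : List ℕ) (j : ℕ) : ℕ := w.foldr (fun p acc => tabF p acc) j

/-- The element of `J₂` given by a word. -/
noncomputable def wordP (w : List ℕ) : J2 := wordJ (w.map genAt)

theorem wordP_nil : wordP [] = 1 := rfl

theorem wordP_cons (p : ℕ) (w : List ℕ) : wordP (p :: w) = (Rn (genAt p)).toJ * wordP w := by
  rw [wordP, List.map_cons, wordJ_cons]; rfl

theorem wordP_append (w w' : List ℕ) : wordP (w ++ w') = wordP w * wordP w' := by
  rw [wordP, List.map_append, wordJ_append]; rfl

theorem runP_cons (p : ℕ) (w : List ℕ) (j : ℕ) : runP (p :: w) j = tab p (runP w j) := by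
  rw [← tabF_eq]; rfl

theorem okW_cons {p : ℕ} {w : List ℕ} (h : okW (p :: w) = true) : p < 22 ∧ okW w = true := by
  simpa [okW] using h

theorem runP_sound : ∀ (w : List ℕ), okW w = true → ∀ {j : ℕ}, j < 315 →
    wordP w • Rn j = Rn (runP w j) ∧ runP w j < 315 := by
  intro w
  induction w with
  | nil => intro _ j hj; exact ⟨by rw [wordP_nil, one_smul]; rfl, hj⟩
  | cons p w ih =>
    intro hw j hj
    obtain ⟨hp, hw'⟩ := okW_cons hw
    obtain ⟨h1, h2⟩ := ih hw' hj
    obtain ⟨h3, h4⟩ := tab_sound hp h2
    rw [runP_cons]
    refine ⟨?_, h4⟩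
    rw [wordP_cons, mul_smul, h1, h3]

theorem actN_wordP {w : List ℕ} (hw : okW w = true) {j : ℕ} (hj : j < 315) :
    actN (wordP w) j = runP w j :=
  actN_eq_of_smul (runP_sound w hw hj).2 (runP_sound w hw hj).1

theorem wordP_mem_St {w : List ℕ} (hw : okW w = true) (h0 : runP w 0 = 0) : wordP w ∈ St := by
  rw [MulAction.mem_stabilizer_iff]
  have := (runP_sound w hw (j := 0) (by norm_num)).1
  rw [h0] at this
  exact this

/-! ### The list of the elements of the stabiliser -/

/-- The code of a word: the images of the base points 27 and 11. -/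
def code (w : List ℕ) : ℕ := runP w 27 * 315 + runP w 11

/-- Strictly increasing lists. -/
def incr : List ℕ → Bool
  | [] => true
  | [_] => true
  | a :: b :: l => decide (a < b) && incr (b :: l)

theorem incr_pairwise : ∀ l : List ℕ, incr l = true → l.Pairwise (· < ·) := by
  intro l
  induction l with
  | nil => intro _; exact List.Pairwise.nil
  | cons a l ih =>
    intro h
    cases l with
    | nil => exact List.pairwise_singleton _ _
    | cons b l =>
      simp only [incr, Bool.and_eq_true, decide_eq_true_eq] at h
      have hp := ih h.2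
      have hp' := List.pairwise_cons.1 hp
      rw [List.pairwise_cons]
      refine ⟨?_, hp⟩
      intro c hc
      rcases List.mem_cons.1 hc with rfl | hc
      · exact h.1
      · exact lt_trans h.1 (hp'.1 c hc)

theorem specWords_ok : specWords.all (fun w => okW w && (runP w 0 == 0)) = true := by
  decide +kernel

theorem specWords_length : specWords.length = 1920 := by decide +kernel

theorem specCodes_incr : incr (specWords.map code) = true := by decide +kernel

theorem specCodes_nodup : (specWords.map code).Nodup :=
  (incr_pairwise _ specCodes_incr).imp (fun h => ne_of_lt h)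

theorem specWords_nodup : specWords.Nodup := List.Nodup.of_map _ specCodes_nodup

theorem specWords_okW {w : List ℕ} (hw : w ∈ specWords) : okW w = true ∧ runP w 0 = 0 := by
  have := List.all_eq_true.1 specWords_ok w hw
  simpa using this

theorem word_eq_of_code {w w' : List ℕ} (hw : w ∈ specWords) (hw' : w' ∈ specWords)
    (h : code w = code w') : w = w' :=
  List.inj_on_of_nodup_map specCodes_nodup hw hw' h

theorem code_eq_of_wordP {w w' : List ℕ} (hw : okW w = true) (hw' : okW w' = true)
    (h : wordP w = wordP w') : code w = code w' := by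
  unfold code
  rw [← actN_wordP hw (j := 27) (by norm_num), ← actN_wordP hw (j := 11) (by norm_num),
    ← actN_wordP hw' (j := 27) (by norm_num), ← actN_wordP hw' (j := 11) (by norm_num), h]

/-- Every element of the stabiliser is one of the listed words. -/
theorem St_eq_word [Finite J2] (h1920 : Nat.card St = 1920) (s : St) :
    ∃ w ∈ specWords, s.1 = wordP w := by
  classical
  have hinj : Set.InjOn wordP (specWords.toFinset : Set (List ℕ)) := by
    intro w hw w' hw' h
    rw [Finset.mem_coe, List.mem_toFinset] at hw hw'
    exact word_eq_of_code hw hw'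
      (code_eq_of_wordP (specWords_okW hw).1 (specWords_okW hw').1 h)
  have hcard : (specWords.toFinset.image wordP).card = 1920 := by
    rw [Finset.card_image_of_injOn hinj, List.toFinset_card_of_nodup specWords_nodup,
      specWords_length]
  have hsub : ((specWords.toFinset.image wordP : Finset J2) : Set J2) ⊆ (St : Set J2) := by
    intro x hx
    rw [Finset.mem_coe, Finset.mem_image] at hx
    obtain ⟨w, hw, rfl⟩ := hx
    rw [List.mem_toFinset] at hw
    exact wordP_mem_St (specWords_okW hw).1 (specWords_okW hw).2
  have hle : (St : Set J2).ncard ≤ ((specWords.toFinset.image wordP : Finset J2) : Set J2).ncard := by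
    rw [Set.ncard_coe_finset, hcard]
    have : (St : Set J2).ncard = Nat.card St := rfl
    rw [this, h1920]
  have heq := Set.eq_of_subset_of_ncard_le hsub hle (Set.toFinite _)
  have hs : s.1 ∈ ((specWords.toFinset.image wordP : Finset J2) : Set J2) := by
    rw [heq]; exact s.2
  rw [Finset.mem_coe, Finset.mem_image] at hs
  obtain ⟨w, hw, e⟩ := hs
  exact ⟨w, List.mem_toFinset.1 hw, e.symm⟩

/-- `(0, 27, 11)` is a base. -/
theorem eq_one_of_fix [Finite J2] (h1920 : Nat.card St = 1920) {h : J2} (h0 : actN h 0 = 0)
    (h27 : actN h 27 = 27) (h11 : actN h 11 = 11) : h = 1 := by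
  have hSt : h ∈ St := by
    rw [MulAction.mem_stabilizer_iff, ← Rn_actN, h0]
  obtain ⟨w, hw, e⟩ := St_eq_word h1920 ⟨h, hSt⟩
  obtain ⟨w0, hw0, e0⟩ := St_eq_word h1920 (1 : St)
  have e' : h = wordP w := e
  have e0' : (1 : J2) = wordP w0 := e0
  have hc : code w = code w0 := by
    unfold code
    rw [← actN_wordP (specWords_okW hw).1 (j := 27) (by norm_num),
      ← actN_wordP (specWords_okW hw).1 (j := 11) (by norm_num),
      ← actN_wordP (specWords_okW hw0).1 (j := 27) (by norm_num),
      ← actN_wordP (specWords_okW hw0).1 (j := 11) (by norm_num), ← e', ← e0', h27, h11,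
      actN_one (by norm_num), actN_one (by norm_num)]
  rw [e', word_eq_of_code hw hw0 hc, ← e0']

/-! ### Bounding the orders -/

/-- The image of `b` under the `n`-th power of the word `u`. -/
def powRun (u : List ℕ) (n b : ℕ) : ℕ := (runP u)^[n] b

theorem powRun_sound {u : List ℕ} (hu : okW u = true) {b : ℕ} (hb : b < 315) (n : ℕ) :
    actN ((wordP u) ^ n) b = powRun u n b ∧ powRun u n b < 315 := by
  induction n with
  | zero => exact ⟨by rw [pow_zero, actN_one hb]; rfl, hb⟩
  | succ n ih =>
    have h1 : powRun u (n + 1) b = runP u (powRun u n b) := by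
      unfold powRun
      rw [Function.iterate_succ_apply']
    rw [h1, pow_succ', actN_mul, ih.1, actN_wordP hu ih.2]
    exact ⟨rfl, (runP_sound u hu ih.2).2⟩

/-- Some `n ∈ {7, 8, 10, 12, 15}` with `u ^ n` fixing the base. -/
def ordOK (u : List ℕ) : Bool :=
  [7, 8, 10, 12, 15].any fun n =>
    (powRun u n 0 == 0) && (powRun u n 27 == 27) && (powRun u n 11 == 11)

theorem pow_eq_one_of_ordOK [Finite J2] (h1920 : Nat.card St = 1920) {u : List ℕ}
    (hu : okW u = true) (h : ordOK u = true) : ∃ n ∈ [7, 8, 10, 12, 15], (wordP u) ^ n = 1 := by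
  unfold ordOK at h
  rw [List.any_eq_true] at h
  obtain ⟨n, hn, hc⟩ := h
  simp only [Bool.and_eq_true, beq_iff_eq] at hc
  refine ⟨n, hn, eq_one_of_fix h1920 ?_ ?_ ?_⟩
  · rw [(powRun_sound hu (by norm_num) n).1, hc.1.1]
  · rw [(powRun_sound hu (by norm_num) n).1, hc.1.2]
  · rw [(powRun_sound hu (by norm_num) n).1, hc.2]

end Cfsg.Agent.Lib.Helper26_Ico
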