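import Mathlib

/-!
# The element orders of the symmetric group of degree 8 (helper26)
`Set.range orderOf = {1, 2, 3, 4, 5, 6, 7, 8, 10, 12, 15}`.
-/

set_option autoImplicit false

namespace Cfsg.Agent.Lib.Helper26_SpecS8

open Equiv

/-- The set of element orders of `S₈` (and of `J₂`). -/
def specSet : Finset ℕ := {1, 2, 3, 4, 5, 6, 7, 8, 10, 12, 15}

/-- The possible least common multiples of multisets of numbers `≥ 2` with sum at most `s`. -/
def lcmList (s : ℕ) : List ℕ :=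
  match s with
  | 0 => [1]
  | 1 => [1]
  | 2 => [1, 2]
  | 3 => [1, 2, 3]
  | 4 => [1, 2, 3, 4]
  | 5 => [1, 2, 3, 4, 5, 6]
  | 6 => [1, 2, 3, 4, 5, 6]
  | 7 => [1, 2, 3, 4, 5, 6, 7, 10, 12]
  | _ => [1, 2, 3, 4, 5, 6, 7, 8, 10, 12, 15]

theorem lcmList_step : ∀ s ∈ List.range 9, ∀ a ∈ List.range 9, 2 ≤ a → a ≤ s →
    ∀ d ∈ lcmList (s - a), Nat.lcm a d ∈ lcmList s := by decide

theorem lcm_mem_lcmList (m : Multiset ℕ) : ∀ s, s ≤ 8 → (∀ x ∈ m, 2 ≤ x) → m.sum ≤ s →
    m.lcm ∈ lcmList s := by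
  induction m using Multiset.induction with
  | empty =>
    intro s hs _ _
    rw [Multiset.lcm_zero]
    interval_cases s <;> decide
  | cons a m ih =>
    intro s hs h2 hsum
    rw [Multiset.sum_cons] at hsum
    rw [Multiset.lcm_cons]
    have ha2 : 2 ≤ a := h2 a (Multiset.mem_cons_self a m)
    have has : a ≤ s := by omega
    have hm := ih (s - a) (by omega) (fun x hx => h2 x (Multiset.mem_cons_of_mem hx)) (by omega)
    exact lcmList_step s (List.mem_range.2 (by omega)) a (List.mem_range.2 (by omega)) ha2 has _ hm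

theorem orderOf_mem_specSet (σ : Perm (Fin 8)) : orderOf σ ∈ specSet := by
  rw [← Perm.lcm_cycleType]
  have hsum : σ.cycleType.sum ≤ 8 := by
    rw [Perm.sum_cycleType]
    exact (Finset.card_le_univ _).trans (by simp)
  have := lcm_mem_lcmList σ.cycleType 8 le_rfl (fun x hx => Perm.two_le_of_mem_cycleType hx) hsum
  revert this
  generalize σ.cycleType.lcm = n
  intro h
  simp only [lcmList, List.mem_cons, List.not_mem_nil, or_false] at h
  rcases h with rfl | rfl | rfl | rfl | rfl | rfl | rfl | rfl | rfl | rfl | rfl <;> decide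

/-- Explicit permutations of orders 7, 8, 10, 12, 15. -/
def p7 : Perm (Fin 8) := ⟨![1, 2, 3, 4, 5, 6, 0, 7], ![6, 0, 1, 2, 3, 4, 5, 7], by decide, by decide⟩
def p8 : Perm (Fin 8) := ⟨![1, 2, 3, 4, 5, 6, 7, 0], ![7, 0, 1, 2, 3, 4, 5, 6], by decide, by decide⟩
def p10 : Perm (Fin 8) := ⟨![1, 2, 3, 4, 0, 6, 5, 7], ![4, 0, 1, 2, 3, 6, 5, 7], by decide, by decide⟩
def p12 : Perm (Fin 8) := ⟨![1, 2, 3, 0, 5, 6, 4, 7], ![3, 0, 1, 2, 6, 4, 5, 7], by decide, by decide⟩
def p15 : Perm (Fin 8) := ⟨![1, 2, 3, 4, 0, 6, 7, 5], ![4, 0, 1, 2, 3, 7, 5, 6], by decide, by decide⟩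

theorem prime_dvd_7 (p : ℕ) (hp : p.Prime) (hd : p ∣ 7) : p = 7 := by
  have := Nat.le_of_dvd (by norm_num) hd
  interval_cases p <;> simp_all (config := { decide := true })

theorem prime_dvd_8 (p : ℕ) (hp : p.Prime) (hd : p ∣ 8) : p = 2 := by
  have := Nat.le_of_dvd (by norm_num) hd
  interval_cases p <;> simp_all (config := { decide := true })

theorem prime_dvd_10 (p : ℕ) (hp : p.Prime) (hd : p ∣ 10) : p = 2 ∨ p = 5 := by
  have := Nat.le_of_dvd (by norm_num) hd
  interval_cases p <;> simp_all (config := { decide := true })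

theorem prime_dvd_12 (p : ℕ) (hp : p.Prime) (hd : p ∣ 12) : p = 2 ∨ p = 3 := by
  have := Nat.le_of_dvd (by norm_num) hd
  interval_cases p <;> simp_all (config := { decide := true })

theorem prime_dvd_15 (p : ℕ) (hp : p.Prime) (hd : p ∣ 15) : p = 3 ∨ p = 5 := by
  have := Nat.le_of_dvd (by norm_num) hd
  interval_cases p <;> simp_all (config := { decide := true })

/-- In a monoid, exact orders 7, 8, 10, 12, 15 from power conditions. -/
theorem orderOf_eq_7 {G : Type*} [Monoid G] {x : G} (h : x ^ 7 = 1) (h1 : x ^ 1 ≠ 1) :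
    orderOf x = 7 := by
  apply orderOf_eq_of_pow_and_pow_div_prime (by norm_num) h
  intro p hp hd
  rw [prime_dvd_7 p hp hd]; exact h1

theorem orderOf_eq_8 {G : Type*} [Monoid G] {x : G} (h : x ^ 8 = 1) (h1 : x ^ 4 ≠ 1) :
    orderOf x = 8 := by
  apply orderOf_eq_of_pow_and_pow_div_prime (by norm_num) h
  intro p hp hd
  rw [prime_dvd_8 p hp hd]; exact h1

theorem orderOf_eq_10 {G : Type*} [Monoid G] {x : G} (h : x ^ 10 = 1) (h1 : x ^ 5 ≠ 1)
    (h2 : x ^ 2 ≠ 1) : orderOf x = 10 := by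
  apply orderOf_eq_of_pow_and_pow_div_prime (by norm_num) h
  intro p hp hd
  rcases prime_dvd_10 p hp hd with rfl | rfl
  · exact h1
  · exact h2

theorem orderOf_eq_12 {G : Type*} [Monoid G] {x : G} (h : x ^ 12 = 1) (h1 : x ^ 6 ≠ 1)
    (h2 : x ^ 4 ≠ 1) : orderOf x = 12 := by
  apply orderOf_eq_of_pow_and_pow_div_prime (by norm_num) h
  intro p hp hd
  rcases prime_dvd_12 p hp hd with rfl | rfl
  · exact h1
  · exact h2

theorem orderOf_eq_15 {G : Type*} [Monoid G] {x : G} (h : x ^ 15 = 1) (h1 : x ^ 5 ≠ 1)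
    (h2 : x ^ 3 ≠ 1) : orderOf x = 15 := by
  apply orderOf_eq_of_pow_and_pow_div_prime (by norm_num) h
  intro p hp hd
  rcases prime_dvd_15 p hp hd with rfl | rfl
  · exact h1
  · exact h2

/-- If a monoid has elements of orders 7, 8, 10, 12, 15 then every member of `specSet` is an
element order. -/
theorem specSet_subset_range {G : Type*} [Monoid G] {x7 x8 x10 x12 x15 : G}
    (h7 : orderOf x7 = 7) (h8 : orderOf x8 = 8) (h10 : orderOf x10 = 10)
    (h12 : orderOf x12 = 12) (h15 : orderOf x15 = 15) :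
    ∀ n ∈ specSet, n ∈ Set.range (orderOf : G → ℕ) := by
  intro n hn
  simp only [specSet, Finset.mem_insert, Finset.mem_singleton] at hn
  rcases hn with rfl | rfl | rfl | rfl | rfl | rfl | rfl | rfl | rfl | rfl | rfl
  · exact ⟨1, orderOf_one⟩
  · exact ⟨x8 ^ 4, by rw [orderOf_pow' _ (by norm_num), h8]; rfl⟩
  · exact ⟨x12 ^ 4, by rw [orderOf_pow' _ (by norm_num), h12]; rfl⟩
  · exact ⟨x8 ^ 2, by rw [orderOf_pow' _ (by norm_num), h8]; rfl⟩
  · exact ⟨x10 ^ 2, by rw [orderOf_pow' _ (by norm_num), h10]; rfl⟩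
  · exact ⟨x12 ^ 2, by rw [orderOf_pow' _ (by norm_num), h12]; rfl⟩
  · exact ⟨x7, h7⟩
  · exact ⟨x8, h8⟩
  · exact ⟨x10, h10⟩
  · exact ⟨x12, h12⟩
  · exact ⟨x15, h15⟩

theorem range_orderOf_S8 : Set.range (orderOf : Perm (Fin 8) → ℕ) = (specSet : Set ℕ) := by
  apply Set.Subset.antisymm
  · rintro _ ⟨σ, rfl⟩
    exact orderOf_mem_specSet σ
  · intro n hn
    exact specSet_subset_range (x7 := p7) (x8 := p8) (x10 := p10) (x12 := p12) (x15 := p15)
      (orderOf_eq_7 (by decide +kernel) (by decide +kernel))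
      (orderOf_eq_8 (by decide +kernel) (by decide +kernel))
      (orderOf_eq_10 (by decide +kernel) (by decide +kernel) (by decide +kernel))
      (orderOf_eq_12 (by decide +kernel) (by decide +kernel) (by decide +kernel))
      (orderOf_eq_15 (by decide +kernel) (by decide +kernel) (by decide +kernel)) n hn

end Cfsg.Agent.Lib.Helper26_SpecS8
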