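import Cfsg.Agent.Lib.Helper26_IcoSpecOrd
import Cfsg.Agent.Lib.Helper26_SpecS8

/-!
# The element orders of `J₂` are those of `S₈` (helper26)
-/

set_option autoImplicit false
set_option linter.constructorNameAsVariable false

namespace Cfsg.Agent.Lib.Helper26_Ico

open Quaternion Cfsg.Spor MulAction
open Cfsg.Agent.Lib.Helper26_SpecS8

/-! ### Suborbits of the stabiliser -/

theorem stabGen_smul_zero {s : ℕ} (hs : s < 2) :
    gen2 (stabGens.getD s (0, 0)).1 (stabGens.getD s (0, 0)).2 • Rn 0 = Rn 0 := by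
  have hall := List.all_eq_true.1 stabFix_ok
  interval_cases s
  · exact edge2_sound (e := stabFix.getD 0 (0, 0, 0, [])) (hall _ (by decide))
  · exact edge2_sound (e := stabFix.getD 1 (0, 0, 0, [])) (hall _ (by decide))

/-- Lines in the same class are in the same orbit of the stabiliser. -/
theorem same_orbit {i i' : ℕ} (hi : i < 315) (hi' : i' < 315) (h : clsOf i = clsOf i') :
    ∃ g ∈ St, g • Rn i = Rn i' := by
  have hstep : ∀ e, edge2OK e = true →
      ((∃ g ∈ St, g • Rn e.1 = Rn i') ↔ (∃ g ∈ St, g • Rn e.2.2.1 = Rn i')) := by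
    intro e he
    have hγ := edge2_sound he
    have hγ0 := stabGen_smul_zero (edge2_lt he)
    set γ : J2 := QuotientGroup.mk
      (gen2 (stabGens.getD e.2.1 (0, 0)).1 (stabGens.getD e.2.1 (0, 0)).2) with hγdef
    have hγ' : γ • Rn e.1 = Rn e.2.2.1 := hγ
    have hγSt : γ ∈ St := by
      rw [MulAction.mem_stabilizer_iff]; exact hγ0
    constructor
    · rintro ⟨g, hg, e1⟩
      refine ⟨g * γ⁻¹, mul_mem hg (inv_mem hγSt), ?_⟩
      rw [mul_smul, ← hγ', inv_smul_smul, e1]
    · rintro ⟨g, hg, e1⟩
      refine ⟨g * γ, mul_mem hg hγSt, ?_⟩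
      rw [mul_smul, hγ', e1]
  have htree := reach2_sound (fun n => ∃ g ∈ St, g • Rn n = Rn i') hstep stabEdges rootL
    (by intro n hn; rw [rootL_ok n hn])
  have hroot : ∀ n, n < 315 →
      ((∃ g ∈ St, g • Rn n = Rn i') ↔ (∃ g ∈ St, g • Rn (rootOf n) = Rn i')) := by
    intro n hn
    apply htree
    have hok := stabEdges_ok
    rw [allReached, List.all_eq_true] at hok
    have := hok n (List.mem_range.2 hn)
    simpa using this
  have h1 : ∃ g ∈ St, g • Rn i' = Rn i' := ⟨1, one_mem _, one_smul _ _⟩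
  have h2 := (hroot i' hi').1 h1
  have h3 : rootOf i = rootOf i' := by unfold rootOf; rw [h]
  rw [← h3] at h2
  exact (hroot i hi).2 h2

theorem reps_cover : ∀ j ∈ List.range 6,
    specReps.any (fun r => okW r && (clsOf (runP r 0) == j)) = true := by decide +kernel

/-- Every element of `J₂` is conjugate to a product `r * s` with `r` a representative word and
`s` a listed element of the stabiliser. -/
theorem conj_to_rep [Finite J2] (h1920 : Nat.card St = 1920) (g : J2) :
    ∃ r ∈ specReps, ∃ w ∈ specWords, ∃ c : J2, c * g * c⁻¹ = wordP (r ++ w) := by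
  have hi : actN g 0 < 315 := actN_lt g 0
  have hcls := cls_lt (actN g 0) (List.mem_range.2 hi)
  have hcov := reps_cover (clsOf (actN g 0)) (List.mem_range.2 hcls)
  rw [List.any_eq_true] at hcov
  obtain ⟨r, hr, hc⟩ := hcov
  simp only [Bool.and_eq_true, beq_iff_eq] at hc
  obtain ⟨hrok, hrcls⟩ := hc
  obtain ⟨hr1, hr2⟩ := runP_sound r hrok (j := 0) (by norm_num)
  obtain ⟨h, hh, e⟩ := same_orbit hi hr2 hrcls.symm
  have hs : (wordP r)⁻¹ * (h * g * h⁻¹) ∈ St := by
    rw [MulAction.mem_stabilizer_iff, mul_smul, mul_smul, mul_smul,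
      MulAction.mem_stabilizer_iff.1 (inv_mem hh), ← Rn_actN g 0, e, ← hr1, inv_smul_smul]
  obtain ⟨w, hw, ew⟩ := St_eq_word h1920 ⟨_, hs⟩
  refine ⟨r, hr, w, hw, h, ?_⟩
  rw [wordP_append, ← ew]
  group

theorem okW_append {r w : List ℕ} (hr : okW r = true) (hw : okW w = true) :
    okW (r ++ w) = true := by
  unfold okW at *
  rw [List.all_append, hr, hw]; rfl

theorem specReps_okW : ∀ r ∈ specReps, okW r = true := by decide

theorem divisors_mem : ∀ n ∈ [7, 8, 10, 12, 15], ∀ d ∈ Nat.divisors n, d ∈ specSet := by decide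

/-- Every element order of `J₂` is an element order of `S₈`. -/
theorem orderOf_mem_specSet_J2 [Finite J2] (h1920 : Nat.card St = 1920) (g : J2) :
    orderOf g ∈ specSet := by
  obtain ⟨r, hr, w, hw, c, e⟩ := conj_to_rep h1920 g
  have hok : okW (r ++ w) = true := okW_append (specReps_okW r hr) (specWords_okW hw).1
  obtain ⟨n, hn, hpow⟩ := pow_eq_one_of_ordOK h1920 hok (spec_orders hr hw)
  have h1 : orderOf g = orderOf (wordP (r ++ w)) := by
    rw [← e]
    exact ((MulAut.conj c).orderOf_eq g).symm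
  rw [h1]
  have hdvd := orderOf_dvd_of_pow_eq_one hpow
  have hn0 : n ≠ 0 := by
    intro h0; subst h0; revert hn; decide
  exact divisors_mem n hn _ (Nat.mem_divisors.2 ⟨hdvd, hn0⟩)

/-! ### Elements of orders 7, 8, 10, 12, 15 -/

/-- The `m`-th power of the word fixes the base. -/
def fixesB (u : List ℕ) (m : ℕ) : Bool :=
  (powRun u m 0 == 0) && (powRun u m 27 == 27) && (powRun u m 11 == 11)

theorem pow_eq_one_of_fixesB [Finite J2] (h1920 : Nat.card St = 1920) {u : List ℕ}
    (hu : okW u = true) {m : ℕ} (h : fixesB u m = true) : (wordP u) ^ m = 1 := by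
  simp only [fixesB, Bool.and_eq_true, beq_iff_eq] at h
  refine eq_one_of_fix h1920 ?_ ?_ ?_
  · rw [(powRun_sound hu (by norm_num) m).1, h.1.1]
  · rw [(powRun_sound hu (by norm_num) m).1, h.1.2]
  · rw [(powRun_sound hu (by norm_num) m).1, h.2]

theorem pow_ne_one_of_not_fixesB {u : List ℕ} (hu : okW u = true) {m : ℕ}
    (h : fixesB u m = false) : (wordP u) ^ m ≠ 1 := by
  intro h1
  have e : ∀ b, b < 315 → powRun u m b = b := by
    intro b hb
    rw [← (powRun_sound hu hb m).1, h1, actN_one hb]
  simp only [fixesB] at h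
  rw [e 0 (by norm_num), e 27 (by norm_num), e 11 (by norm_num)] at h
  simp at h

def w7 : List ℕ := [10, 13, 14]
def w8 : List ℕ := [13, 14, 0]
def w10 : List ℕ := [16, 15, 10, 11]
def w12 : List ℕ := [13, 14, 10, 11]
def w15 : List ℕ := [10, 13, 16, 15]

theorem range_orderOf_J2 [Finite J2] (h1920 : Nat.card St = 1920) :
    Set.range (orderOf : J2 → ℕ) = (specSet : Set ℕ) := by
  apply Set.Subset.antisymm
  · rintro _ ⟨g, rfl⟩
    exact orderOf_mem_specSet_J2 h1920 g
  · intro n hn
    have o7 : okW w7 = true := by decide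
    have o8 : okW w8 = true := by decide
    have o10 : okW w10 = true := by decide
    have o12 : okW w12 = true := by decide
    have o15 : okW w15 = true := by decide
    exact specSet_subset_range (x7 := wordP w7) (x8 := wordP w8) (x10 := wordP w10)
      (x12 := wordP w12) (x15 := wordP w15)
      (orderOf_eq_7 (pow_eq_one_of_fixesB h1920 o7 (by decide +kernel))
        (pow_ne_one_of_not_fixesB o7 (by decide +kernel)))
      (orderOf_eq_8 (pow_eq_one_of_fixesB h1920 o8 (by decide +kernel))
        (pow_ne_one_of_not_fixesB o8 (by decide +kernel)))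
      (orderOf_eq_10 (pow_eq_one_of_fixesB h1920 o10 (by decide +kernel))
        (pow_ne_one_of_not_fixesB o10 (by decide +kernel))
        (pow_ne_one_of_not_fixesB o10 (by decide +kernel)))
      (orderOf_eq_12 (pow_eq_one_of_fixesB h1920 o12 (by decide +kernel))
        (pow_ne_one_of_not_fixesB o12 (by decide +kernel))
        (pow_ne_one_of_not_fixesB o12 (by decide +kernel)))
      (orderOf_eq_15 (pow_eq_one_of_fixesB h1920 o15 (by decide +kernel))
        (pow_ne_one_of_not_fixesB o15 (by decide +kernel))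
        (pow_ne_one_of_not_fixesB o15 (by decide +kernel))) n hn

/-- The symmetric group of degree 8 and `J₂` have the same element orders (given `|J₂|` and the
centre of `2·J₂`, i.e. statement S1619). -/
theorem spectrum_J2_eq_S8 (hJ : Nat.card J2 = 604800) :
    Set.range (orderOf : Equiv.Perm (Fin 8) → ℕ) = Set.range (orderOf : J2 → ℕ) := by
  have : Finite J2 := Nat.finite_of_card_ne_zero (by rw [hJ]; norm_num)
  rw [range_orderOf_S8, range_orderOf_J2 (card_St hJ)]

end Cfsg.Agent.Lib.Helper26_Ico
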