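import Cfsg.Agent.Lib.Helper26_IcoData

/-!
# Tables for the spectrum of `J₂` (helper26)
`specGens`: the reflections used; `specTabs`: for each of them the permutation of the 315 lines, as a
binary trie (most significant bit first, depth 9); `specWords`: the 1920 elements of the stabiliser of
line 0 as words in positions of `specGens`, sorted by the code `315 * image of 27 + image of 11`.
Generated by scratch/j2/emit_spec.py.
-/

set_option autoImplicit false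

namespace Cfsg.Agent.Lib.Helper26_Ico

/-- Binary tries with natural number leaves. -/
inductive Tr where
  | L : ℕ → Tr
  | N : Tr → Tr → Tr

namespace Tr
def get : Tr → ℕ → ℕ → ℕ
  | L v, _, _ => v
  | N l r, d + 1, i => if i.testBit d then r.get d i else l.get d i
  | N _ _, 0, _ => 315
end Tr

open Tr in
def specGens : List ℕ := [1, 2, 3, 4, 5, 6, 7, 8, 9, 10, 11, 12, 13, 187, 207, 250, 204, 246, 262, 186, 300, 288]

open Tr in
set_option maxRecDepth 4000 in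
def specTab1 : Tr :=
  (N (N (N (N (N (N (N (N (N (L 0) (L 1)) (N (L 2) (L 10))) (N (N (L 9) (L 8)) (N (L 7) (L 6)))) (N (N (N (L 5) (L 4)) (N (L 3) (L 11))) (N (N (L 12) (L 13)) (N (L 14) (L 15))))) (N (N (N (N (L 16) (L 17)) (N (L 18) (L 26))) (N (N (L 25) (L 24)) (N (L 23) (L 22)))) (N (N (N (L 21) (L 20)) (N (L 19) (L 179))) (N (N (L 180) (L 181)) (N (L 182) (L 183)))))) (N (N (N (N (N (L 184) (L 185)) (N (L 186) (L 177))) (N (N (L 178) (L 175)) (N (L 176) (L 173)))) (N (N (N (L 174) (L 171)) (N (L 172) (L 169))) (N (N (L 170) (L 167)) (N (L 168) (L 165))))) (N (N (N (N (L 166) (L 163)) (N (L 164) (L 161))) (N (N (L 162) (L 159)) (N (L 160) (L 157)))) (N (N (N (L 158) (L 155)) (N (L 156) (L 153))) (N (N (L 154) (L 151)) (N (L 152) (L 149))))))) (N (N (N (N (N (N (L 150) (L 147)) (N (L 148) (L 145))) (N (N (L 146) (L 143)) (N (L 144) (L 141)))) (N (N (N (L 142) (L 139)) (N (L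 140) (L 137))) (N (N (L 138) (L 135)) (N (L 136) (L 133))))) (N (N (N (N (L 134) (L 131)) (N (L 132) (L 123))) (N (N (L 124) (L 125)) (N (L 126) (L 127)))) (N (N (N (L 128) (L 129)) (N (L 130) (L 115))) (N (N (L 116) (L 117)) (N (L 118) (L 119)))))) (N (N (N (N (N (L 120) (L 121)) (N (L 122) (L 107))) (N (N (L 108) (L 109)) (N (L 110) (L 111)))) (N (N (N (L 112) (L 113)) (N (L 114) (L 99))) (N (N (L 100) (L 101)) (N (L 102) (L 103))))) (N (N (N (N (L 104) (L 105)) (N (L 106) (L 91))) (N (N (L 92) (L 93)) (N (L 94) (L 95)))) (N (N (N (L 96) (L 97)) (N (L 98) (L 83))) (N (N (L 84) (L 85)) (N (L 86) (L 87)))))))) (N (N (N (N (N (N (N (L 88) (L 89)) (N (L 90) (L 81))) (N (N (L 82) (L 79)) (N (L 80) (L 77)))) (N (N (N (L 78) (L 75)) (N (L 76) (L 73))) (N (N (L 74) (L 71)) (N (L 72) (L 69))))) (N (N (N (N (L 70) (L 67)) (N (L 68) (L 65))) (N (N (L 66) (L 63)) (N (L 64) (L 61)))) (N (N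 (N (L 62) (L 59)) (N (L 60) (L 57))) (N (N (L 58) (L 55)) (N (L 56) (L 53)))))) (N (N (N (N (N (L 54) (L 51)) (N (L 52) (L 49))) (N (N (L 50) (L 47)) (N (L 48) (L 45)))) (N (N (N (L 46) (L 43)) (N (L 44) (L 41))) (N (N (L 42) (L 39)) (N (L 40) (L 37))))) (N (N (N (N (L 38) (L 35)) (N (L 36) (L 27))) (N (N (L 28) (L 29)) (N (L 30) (L 31)))) (N (N (N (L 32) (L 33)) (N (L 34) (L 282))) (N (N (L 281) (L 280)) (N (L 279) (L 278))))))) (N (N (N (N (N (N (L 277) (L 276)) (N (L 275) (L 274))) (N (N (L 273) (L 272)) (N (L 271) (L 270)))) (N (N (N (L 269) (L 268)) (N (L 267) (L 266))) (N (N (L 265) (L 264)) (N (L 263) (L 262))))) (N (N (N (N (L 261) (L 260)) (N (L 259) (L 258))) (N (N (L 257) (L 256)) (N (L 255) (L 254)))) (N (N (N (L 253) (L 252)) (N (L 251) (L 250))) (N (N (L 249) (L 248)) (N (L 247) (L 246)))))) (N (N (N (N (N (L 245) (L 244)) (N (L 243) (L 242))) (N (N (L 241) (L 240))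 (N (L 239) (L 238)))) (N (N (N (L 237) (L 236)) (N (L 235) (L 234))) (N (N (L 233) (L 232)) (N (L 231) (L 230))))) (N (N (N (N (L 229) (L 228)) (N (L 227) (L 226))) (N (N (L 225) (L 224)) (N (L 223) (L 222)))) (N (N (N (L 221) (L 220)) (N (L 219) (L 218))) (N (N (L 217) (L 216)) (N (L 215) (L 214))))))))) (N (N (N (N (N (N (N (N (L 213) (L 212)) (N (L 211) (L 210))) (N (N (L 209) (L 208)) (N (L 207) (L 206)))) (N (N (N (L 205) (L 204)) (N (L 203) (L 202))) (N (N (L 201) (L 200)) (N (L 199) (L 198))))) (N (N (N (N (L 197) (L 196)) (N (L 195) (L 194))) (N (N (L 193) (L 192)) (N (L 191) (L 190)))) (N (N (N (L 189) (L 188)) (N (L 187) (L 284))) (N (N (L 283) (L 286)) (N (L 285) (L 288)))))) (N (N (N (N (N (L 287) (L 290)) (N (L 289) (L 292))) (N (N (L 291) (L 294)) (N (L 293) (L 296)))) (N (N (N (L 295) (L 298)) (N (L 297) (L 300))) (N (N (L 299) (L 302)) (N (L 301) (L 304))))) (N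 (N (N (N (L 303) (L 306)) (N (L 305) (L 308))) (N (N (L 307) (L 310)) (N (L 309) (L 312)))) (N (N (N (L 311) (L 314)) (N (L 313) (L 315))) (L 315))))) (L 315)) (L 315)))

open Tr in
set_option maxRecDepth 4000 in
def specTab2 : Tr :=
  (N (N (N (N (N (N (N (N (N (L 0) (L 1)) (N (L 2) (L 10))) (N (N (L 9) (L 8)) (N (L 7) (L 6)))) (N (N (N (L 5) (L 4)) (N (L 3) (L 18))) (N (N (L 17) (L 16)) (N (L 15) (L 14))))) (N (N (N (N (L 13) (L 12)) (N (L 11) (L 19))) (N (N (L 20) (L 21)) (N (L 22) (L 23)))) (N (N (N (L 24) (L 25)) (N (L 26) (L 34))) (N (N (L 33) (L 32)) (N (L 31) (L 30)))))) (N (N (N (N (N (L 29) (L 28)) (N (L 27) (L 36))) (N (N (L 35) (L 38)) (N (L 37) (L 40)))) (N (N (N (L 39) (L 42)) (N (L 41) (L 44))) (N (N (L 43) (L 46)) (N (L 45) (L 48))))) (N (N (N (N (L 47) (L 50)) (N (L 49) (L 52))) (N (N (L 51) (L 54)) (N (L 53) (L 56)))) (N (N (N (L 55) (L 58)) (N (L 57) (L 60)))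 (N (N (L 59) (L 62)) (N (L 61) (L 64))))))) (N (N (N (N (N (N (L 63) (L 66)) (N (L 65) (L 68))) (N (N (L 67) (L 70)) (N (L 69) (L 72)))) (N (N (N (L 71) (L 74)) (N (L 73) (L 76))) (N (N (L 75) (L 78)) (N (L 77) (L 80))))) (N (N (N (N (L 79) (L 82)) (N (L 81) (L 90))) (N (N (L 89) (L 88)) (N (L 87) (L 86)))) (N (N (N (L 85) (L 84)) (N (L 83) (L 98))) (N (N (L 97) (L 96)) (N (L 95) (L 94)))))) (N (N (N (N (N (L 93) (L 92)) (N (L 91) (L 106))) (N (N (L 105) (L 104)) (N (L 103) (L 102)))) (N (N (N (L 101) (L 100)) (N (L 99) (L 114))) (N (N (L 113) (L 112)) (N (L 111) (L 110))))) (N (N (N (N (L 109) (L 108)) (N (L 107) (L 122))) (N (N (L 121) (L 120)) (N (L 119) (L 118)))) (N (N (N (L 117) (L 116)) (N (L 115) (L 130))) (N (N (L 129) (L 128)) (N (L 127) (L 126)))))))) (N (N (N (N (N (N (N (L 125) (L 124)) (N (L 123) (L 132))) (N (N (L 131) (L 134)) (N (L 133) (L 136)))) (N (N (N (L 135)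 (L 138)) (N (L 137) (L 140))) (N (N (L 139) (L 142)) (N (L 141) (L 144))))) (N (N (N (N (L 143) (L 146)) (N (L 145) (L 148))) (N (N (L 147) (L 150)) (N (L 149) (L 152)))) (N (N (N (L 151) (L 154)) (N (L 153) (L 156))) (N (N (L 155) (L 158)) (N (L 157) (L 160)))))) (N (N (N (N (N (L 159) (L 162)) (N (L 161) (L 164))) (N (N (L 163) (L 166)) (N (L 165) (L 168)))) (N (N (N (L 167) (L 170)) (N (L 169) (L 172))) (N (N (L 171) (L 174)) (N (L 173) (L 176))))) (N (N (N (N (L 175) (L 178)) (N (L 177) (L 186))) (N (N (L 185) (L 184)) (N (L 183) (L 182)))) (N (N (N (L 181) (L 180)) (N (L 179) (L 188))) (N (N (L 187) (L 190)) (N (L 189) (L 192))))))) (N (N (N (N (N (N (L 191) (L 194)) (N (L 193) (L 196))) (N (N (L 195) (L 198)) (N (L 197) (L 200)))) (N (N (N (L 199) (L 202)) (N (L 201) (L 204))) (N (N (L 203) (L 206)) (N (L 205) (L 208))))) (N (N (N (N (L 207) (L 210)) (N (L 209) (L 212)))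 (N (N (L 211) (L 214)) (N (L 213) (L 216)))) (N (N (N (L 215) (L 218)) (N (L 217) (L 220))) (N (N (L 219) (L 222)) (N (L 221) (L 224)))))) (N (N (N (N (N (L 223) (L 226)) (N (L 225) (L 228))) (N (N (L 227) (L 230)) (N (L 229) (L 232)))) (N (N (N (L 231) (L 234)) (N (L 233) (L 236))) (N (N (L 235) (L 238)) (N (L 237) (L 240))))) (N (N (N (N (L 239) (L 242)) (N (L 241) (L 244))) (N (N (L 243) (L 246)) (N (L 245) (L 248)))) (N (N (N (L 247) (L 250)) (N (L 249) (L 252))) (N (N (L 251) (L 254)) (N (L 253) (L 256))))))))) (N (N (N (N (N (N (N (N (L 255) (L 258)) (N (L 257) (L 260))) (N (N (L 259) (L 262)) (N (L 261) (L 264)))) (N (N (N (L 263) (L 266)) (N (L 265) (L 268))) (N (N (L 267) (L 270)) (N (L 269) (L 272))))) (N (N (N (N (L 271) (L 274)) (N (L 273) (L 276))) (N (N (L 275) (L 278)) (N (L 277) (L 280)))) (N (N (N (L 279) (L 282)) (N (L 281) (L 314))) (N (N (L 313) (L 312)) (N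 (L 311) (L 310)))))) (N (N (N (N (N (L 309) (L 308)) (N (L 307) (L 306))) (N (N (L 305) (L 304)) (N (L 303) (L 302)))) (N (N (N (L 301) (L 300)) (N (L 299) (L 298))) (N (N (L 297) (L 296)) (N (L 295) (L 294))))) (N (N (N (N (L 293) (L 292)) (N (L 291) (L 290))) (N (N (L 289) (L 288)) (N (L 287) (L 286)))) (N (N (N (L 285) (L 284)) (N (L 283) (L 315))) (L 315))))) (L 315)) (L 315)))

open Tr in
set_option maxRecDepth 4000 in
def specTab3 : Tr :=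
  (N (N (N (N (N (N (N (N (N (L 0) (L 2)) (N (L 1) (L 3))) (N (N (L 9) (L 8)) (N (L 7) (L 6)))) (N (N (N (L 5) (L 4)) (N (L 10) (L 19))) (N (N (L 20) (L 21)) (N (L 22) (L 23))))) (N (N (N (N (L 24) (L 25)) (N (L 26) (L 11))) (N (N (L 12) (L 13)) (N (L 14) (L 15)))) (N (N (N (L 16) (L 17)) (N (L 18) (L 41))) (N (N (L 43) (L 53)) (N (L 73) (L 139)))))) (N (N (N (N (N (L 159) (L 169)) (N (L 171) (L 83))) (N (N (L 123) (L 91)) (N (L 115) (L 99)))) (N (N (N (L 107) (L 27)) (N (L 179) (L 28))) (N (N (L 180) (L 84)) (N (L 124) (L 92))))) (N (N (N (N (L 116) (L 100)) (N (L 108) (L 101))) (N (N (L 109) (L 29)) (N (L 181) (L 85)))) (N (N (N (L 125) (L 93)) (N (L 117) (L 81))) (N (N (L 131) (L 75)) (N (L 137) (L 79))))))) (N (N (N (N (N (N (L 133) (L 77)) (N (L 135) (L 102))) (N (N (L 110) (L 94)) (N (L 118) (L 86)))) (N (N (N (L 126) (L 30)) (N (L 182) (L 61))) (N (N (L 151) (L 65)) (N (L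 147) (L 63))))) (N (N (N (N (L 149) (L 59)) (N (L 153) (L 35))) (N (N (L 45) (L 55)) (N (L 71) (L 141)))) (N (N (N (L 157) (L 167)) (N (L 177) (L 37))) (N (N (L 47) (L 57)) (N (L 69) (L 143)))))) (N (N (N (N (N (L 155) (L 165)) (N (L 175) (L 39))) (N (N (L 49) (L 51)) (N (L 67) (L 145)))) (N (N (N (L 161) (L 163)) (N (L 173) (L 40))) (N (N (L 50) (L 52)) (N (L 68) (L 146))))) (N (N (N (N (L 162) (L 164)) (N (L 174) (L 38))) (N (N (L 48) (L 58)) (N (L 70) (L 144)))) (N (N (N (L 156) (L 166)) (N (L 176) (L 36))) (N (N (L 46) (L 56)) (N (L 72) (L 142)))))))) (N (N (N (N (N (N (N (L 158) (L 168)) (N (L 178) (L 60))) (N (N (L 154) (L 64)) (N (L 150) (L 66)))) (N (N (N (L 148) (L 62)) (N (L 152) (L 31))) (N (N (L 183) (L 87)) (N (L 127) (L 95))))) (N (N (N (N (L 119) (L 103)) (N (L 111) (L 78))) (N (N (L 136) (L 80)) (N (L 134) (L 76)))) (N (N (N (L 138) (L 82)) (N (L 132) (L 96))) (N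 (N (L 120) (L 88)) (N (L 128) (L 32)))))) (N (N (N (N (N (L 184) (L 104)) (N (L 112) (L 105))) (N (N (L 113) (L 97)) (N (L 121) (L 89)))) (N (N (N (L 129) (L 33)) (N (L 185) (L 34))) (N (N (L 186) (L 106)) (N (L 114) (L 98))))) (N (N (N (N (L 122) (L 90)) (N (L 130) (L 42))) (N (N (L 44) (L 54)) (N (L 74) (L 140)))) (N (N (N (L 160) (L 170)) (N (L 172) (L 262))) (N (N (L 207) (L 248)) (N (L 221) (L 268))))))) (N (N (N (N (N (N (L 201) (L 275)) (N (L 194) (L 273))) (N (N (L 196) (L 246)) (N (L 223) (L 260)))) (N (N (N (L 209) (L 192)) (N (L 277) (L 250))) (N (N (L 219) (L 263)) (N (L 206) (L 188))))) (N (N (N (N (L 281) (L 200)) (N (L 269) (L 283))) (N (N (L 284) (L 285)) (N (L 286) (L 287)))) (N (N (N (L 288) (L 289)) (N (L 290) (L 204))) (N (N (L 265) (L 190)) (N (L 279) (L 198)))))) (N (N (N (N (N (L 271) (L 243)) (N (L 226) (L 291))) (N (N (L 292) (L 293)) (N (L 294) (L 295))))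 (N (N (N (L 296) (L 297)) (N (L 298) (L 299))) (N (N (L 300) (L 301)) (N (L 302) (L 303))))) (N (N (N (N (L 304) (L 305)) (N (L 306) (L 225))) (N (N (L 244) (L 272)) (N (L 197) (L 280)))) (N (N (N (L 189) (L 266)) (N (L 203) (L 307))) (N (N (L 308) (L 309)) (N (L 310) (L 311))))))))) (N (N (N (N (N (N (N (N (L 312) (L 313)) (N (L 314) (L 270))) (N (N (L 199) (L 282)) (N (L 187) (L 205)))) (N (N (N (L 264) (L 220)) (N (L 249) (L 278))) (N (N (L 191) (L 210)) (N (L 259) (L 224))))) (N (N (N (N (L 245) (L 195)) (N (L 274) (L 193))) (N (N (L 276) (L 202)) (N (L 267) (L 222)))) (N (N (N (L 247) (L 208)) (N (L 261) (L 211))) (N (N (L 212) (L 213)) (N (L 214) (L 215)))))) (N (N (N (N (N (L 216) (L 217)) (N (L 218) (L 227))) (N (N (L 228) (L 229)) (N (L 230) (L 231)))) (N (N (N (L 232) (L 233)) (N (L 234) (L 235))) (N (N (L 236) (L 237)) (N (L 238) (L 239))))) (N (N (N (N (L 240) (L 241))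 (N (L 242) (L 251))) (N (N (L 252) (L 253)) (N (L 254) (L 255)))) (N (N (N (L 256) (L 257)) (N (L 258) (L 315))) (L 315))))) (L 315)) (L 315)))

open Tr in
set_option maxRecDepth 4000 in
def specTab4 : Tr :=
  (N (N (N (N (N (N (N (N (N (L 0) (L 2)) (N (L 1) (L 10))) (N (N (L 4) (L 8)) (N (L 7) (L 6)))) (N (N (N (L 5) (L 9)) (N (L 3) (L 25))) (N (N (L 19) (L 23)) (N (L 21) (L 24))))) (N (N (N (N (L 22) (L 26)) (N (L 20) (L 12))) (N (N (L 18) (L 14)) (N (L 16) (L 13)))) (N (N (N (L 15) (L 11)) (N (L 17) (L 55))) (N (N (L 71) (L 177)) (N (L 167) (L 45)))))) (N (N (N (N (N (L 35) (L 141)) (N (L 157) (L 32))) (N (N (L 184) (L 104)) (N (L 112) (L 120)))) (N (N (N (L 96) (L 128)) (N (L 88) (L 127))) (N (N (L 87) (L 31)) (N (L 183) (L 102))))) (N (N (N (N (L 110) (L 118)) (N (L 94) (L 115))) (N (N (L 91) (L 123)) (N (L 83) (L 27)))) (N (N (N (L 179) (L 99)) (N (L 107) (L 136))) (N (N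 (L 78) (L 80)) (N (L 134) (L 137))))))) (N (N (N (N (N (N (L 75) (L 81)) (N (L 131) (L 121))) (N (N (L 97) (L 105)) (N (L 113) (L 28)))) (N (N (N (L 180) (L 124)) (N (L 84) (L 64))) (N (N (L 150) (L 154)) (N (L 60) (L 151))))) (N (N (N (N (L 61) (L 65)) (N (L 147) (L 54))) (N (N (L 74) (L 172)) (N (L 170) (L 44)))) (N (N (N (L 42) (L 140)) (N (L 160) (L 52))) (N (N (L 146) (L 174)) (N (L 50) (L 164)))))) (N (N (N (N (N (L 40) (L 68)) (N (L 162) (L 57))) (N (N (L 143) (L 175)) (N (L 47) (L 165)))) (N (N (N (L 37) (L 69)) (N (L 155) (L 58))) (N (N (L 144) (L 176)) (N (L 48) (L 166))))) (N (N (N (N (L 38) (L 70)) (N (L 156) (L 51))) (N (N (L 145) (L 173)) (N (L 49) (L 163)))) (N (N (N (L 39) (L 67)) (N (L 161) (L 53))) (N (N (L 73) (L 171)) (N (L 169) (L 43)))))))) (N (N (N (N (N (N (N (L 41) (L 139)) (N (L 159) (L 66))) (N (N (L 148) (L 152)) (N (L 62) (L 153)))) (N (N (N (L 59)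 (L 63)) (N (L 149) (L 129))) (N (N (L 89) (L 33)) (N (L 185) (L 100))))) (N (N (N (N (L 108) (L 116)) (N (L 92) (L 82))) (N (N (L 132) (L 138)) (N (L 76) (L 79)))) (N (N (N (L 133) (L 135)) (N (L 77) (L 106))) (N (N (L 114) (L 34)) (N (L 186) (L 130)))))) (N (N (N (N (N (L 90) (L 122)) (N (L 98) (L 119))) (N (N (L 95) (L 103)) (N (L 111) (L 30)))) (N (N (N (L 182) (L 126)) (N (L 86) (L 125))) (N (N (L 85) (L 117)) (N (L 93) (L 101))))) (N (N (N (N (L 109) (L 29)) (N (L 181) (L 56))) (N (N (L 72) (L 178)) (N (L 168) (L 46)))) (N (N (N (L 36) (L 142)) (N (L 158) (L 281))) (N (N (L 188) (L 200)) (N (L 269) (L 250))))))) (N (N (N (N (N (N (L 219) (L 206)) (N (L 263) (L 226))) (N (N (L 243) (L 271)) (N (L 198) (L 280)))) (N (N (N (L 189) (L 266)) (N (L 203) (L 202))) (N (N (L 267) (L 276)) (N (L 193) (L 261))))) (N (N (N (N (L 208) (L 222)) (N (L 247) (L 288))) (N (N (L 287) (L 290))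 (N (L 289) (L 314)))) (N (N (N (L 313) (L 312)) (N (L 311) (L 192))) (N (N (L 277) (L 260)) (N (L 209) (L 245)))))) (N (N (N (N (N (L 224) (L 274)) (N (L 195) (L 298))) (N (N (L 297) (L 296)) (N (L 295) (L 304)))) (N (N (N (L 303) (L 306)) (N (L 305) (L 292))) (N (N (L 291) (L 294)) (N (L 293) (L 302))))) (N (N (N (N (L 301) (L 300)) (N (L 299) (L 196))) (N (N (L 273) (L 223)) (N (L 246) (L 210)))) (N (N (N (L 259) (L 278)) (N (L 191) (L 286))) (N (N (L 285) (L 284)) (N (L 283) (L 308))))))))) (N (N (N (N (N (N (N (N (L 307) (L 310)) (N (L 309) (L 248))) (N (N (L 221) (L 207)) (N (L 262) (L 194)))) (N (N (N (L 275) (L 268)) (N (L 201) (L 204))) (N (N (L 265) (L 190)) (N (L 279) (L 197))))) (N (N (N (N (L 272) (L 244)) (N (L 225) (L 264))) (N (N (L 205) (L 220)) (N (L 249) (L 270)))) (N (N (N (L 199) (L 187)) (N (L 282) (L 254))) (N (N (L 253) (L 252)) (N (L 251) (L 212)))))) (N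 (N (N (N (N (L 211) (L 214)) (N (L 213) (L 236))) (N (N (L 235) (L 238)) (N (L 237) (L 230)))) (N (N (N (L 229) (L 228)) (N (L 227) (L 242))) (N (N (L 241) (L 240)) (N (L 239) (L 232))))) (N (N (N (N (L 231) (L 234)) (N (L 233) (L 256))) (N (N (L 255) (L 258)) (N (L 257) (L 218)))) (N (N (N (L 217) (L 216)) (N (L 215) (L 315))) (L 315))))) (L 315)) (L 315)))

open Tr in
set_option maxRecDepth 4000 in
def specTab5 : Tr :=
  (N (N (N (N (N (N (N (N (N (L 0) (L 2)) (N (L 1) (L 10))) (N (N (L 9) (L 5)) (N (L 7) (L 6)))) (N (N (N (L 8) (L 4)) (N (L 3) (L 24))) (N (N (L 22) (L 19)) (N (L 25) (L 20))))) (N (N (N (N (L 26) (L 23)) (N (L 21) (L 13))) (N (N (L 15) (L 18)) (N (L 12) (L 17)))) (N (N (N (L 11) (L 14)) (N (L 16) (L 67))) (N (N (L 173) (L 49)) (N (L 161) (L 51)))))) (N (N (N (N (N (L 163) (L 39)) (N (L 145) (L 94))) (N (N (L 118) (L 124)) (N (L 84) (L 33)))) (N (N (N (L 185)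 (L 111)) (N (L 103) (L 107))) (N (N (L 99) (L 98)) (N (L 122) (L 128))))) (N (N (N (N (L 88) (L 29)) (N (L 181) (L 31))) (N (N (L 183) (L 113)) (N (L 105) (L 92)))) (N (N (N (L 116) (L 126)) (N (L 86) (L 134))) (N (N (L 80) (L 135)) (N (L 77) (L 81))))))) (N (N (N (N (N (N (L 131) (L 76)) (N (L 138) (L 27))) (N (N (L 179) (L 130)) (N (L 90) (L 96)))) (N (N (N (L 120) (L 109)) (N (L 101) (L 147))) (N (N (L 65) (L 62)) (N (L 152) (L 154))))) (N (N (N (N (L 60) (L 63)) (N (L 149) (L 144))) (N (N (L 38) (L 166)) (N (L 58) (L 156)))) (N (N (N (L 48) (L 176)) (N (L 70) (L 167))) (N (N (L 55) (L 141)) (N (L 35) (L 177)))))) (N (N (N (N (N (L 71) (L 157)) (N (L 45) (L 44))) (N (N (L 160) (L 74)) (N (L 172) (L 42)))) (N (N (N (L 140) (L 54)) (N (L 170) (L 43))) (N (N (L 159) (L 73)) (N (L 171) (L 41))))) (N (N (N (N (L 139) (L 53)) (N (L 169) (L 168))) (N (N (L 56) (L 142)) (N (L 36) (L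 178)))) (N (N (N (L 72) (L 158)) (N (L 46) (L 143))) (N (N (L 37) (L 165)) (N (L 57) (L 155)))))))) (N (N (N (N (N (N (N (L 47) (L 175)) (N (L 69) (L 64))) (N (N (L 150) (L 153)) (N (L 59) (L 61)))) (N (N (N (L 151) (L 148)) (N (L 66) (L 112))) (N (N (L 104) (L 93)) (N (L 117) (L 123))))) (N (N (N (N (L 83) (L 34)) (N (L 186) (L 75))) (N (N (L 137) (L 82)) (N (L 132) (L 136)))) (N (N (N (L 78) (L 133)) (N (L 79) (L 127))) (N (N (L 87) (L 97)) (N (L 121) (L 108)))))) (N (N (N (N (N (L 100) (L 30)) (N (L 182) (L 32))) (N (N (L 184) (L 125)) (N (L 85) (L 91)))) (N (N (N (L 115) (L 114)) (N (L 106) (L 110))) (N (N (L 102) (L 28)) (N (L 180) (L 129))))) (N (N (N (N (L 89) (L 95)) (N (L 119) (L 68))) (N (N (L 174) (L 50)) (N (L 162) (L 52)))) (N (N (N (L 164) (L 40)) (N (L 146) (L 272))) (N (N (L 197) (L 210)) (N (L 259) (L 277))))))) (N (N (N (N (N (N (L 192) (L 226)) (N (L 243) (L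 264))) (N (N (L 205) (L 188)) (N (L 281) (L 248)))) (N (N (N (L 221) (L 267)) (N (L 202) (L 265))) (N (N (L 204) (L 196)) (N (L 273) (L 224))))) (N (N (N (N (L 245) (L 280)) (N (L 189) (L 286))) (N (N (L 285) (L 314)) (N (L 313) (L 308)))) (N (N (N (L 307) (L 288)) (N (L 287) (L 249))) (N (N (L 220) (L 200)) (N (L 269) (L 262)))))) (N (N (N (N (N (L 207) (L 276)) (N (L 193) (L 302))) (N (N (L 301) (L 298)) (N (L 297) (L 292)))) (N (N (N (L 291) (L 304)) (N (L 303) (L 294))) (N (N (L 293) (L 306)) (N (L 305) (L 300))))) (N (N (N (N (L 299) (L 296)) (N (L 295) (L 194))) (N (N (L 275) (L 208)) (N (L 261) (L 270)))) (N (N (N (L 199) (L 219)) (N (L 250) (L 310))) (N (N (L 309) (L 290)) (N (L 289) (L 284))))))))) (N (N (N (N (N (N (N (N (L 283) (L 312)) (N (L 311) (L 190))) (N (N (L 279) (L 246)) (N (L 223) (L 274)))) (N (N (N (L 195) (L 203)) (N (L 266) (L 201))) (N (N (L 268) (L 222))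 (N (L 247) (L 282))))) (N (N (N (N (L 187) (L 206)) (N (L 263) (L 244))) (N (N (L 225) (L 191)) (N (L 278) (L 260)))) (N (N (N (L 209) (L 198)) (N (L 271) (L 256))) (N (N (L 255) (L 212)) (N (L 211) (L 218)))))) (N (N (N (N (N (L 217) (L 254)) (N (L 253) (L 232))) (N (N (L 231) (L 236)) (N (L 235) (L 242)))) (N (N (N (L 241) (L 230)) (N (L 229) (L 240))) (N (N (L 239) (L 228)) (N (L 227) (L 234))))) (N (N (N (N (L 233) (L 238)) (N (L 237) (L 216))) (N (N (L 215) (L 252)) (N (L 251) (L 258)))) (N (N (N (L 257) (L 214)) (N (L 213) (L 315))) (L 315))))) (L 315)) (L 315)))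

open Tr in
set_option maxRecDepth 4000 in
def specTab6 : Tr :=
  (N (N (N (N (N (N (N (N (N (L 0) (L 2)) (N (L 1) (L 10))) (N (N (L 9) (L 8)) (N (L 6) (L 7)))) (N (N (N (L 5) (L 4)) (N (L 3) (L 23))) (N (N (L 24) (L 20)) (N (L 19) (L 26))))) (N (N (N (N (L 25) (L 21)) (N (L 22) (L 14))) (N (N (L 13) (L 17)) (N (L 18) (L 11)))) (N (N (N (L 12) (L 16)) (N (L 15) (L 165))) (N (N (L 57) (L 69)) (N (L 175) (L 37)))))) (N (N (N (N (N (L 143) (L 155)) (N (L 47) (L 113))) (N (N (L 105) (L 31)) (N (L 183) (L 86)))) (N (N (N (L 126) (L 116)) (N (L 92) (L 120))) (N (N (L 96) (L 109)) (N (L 101) (L 34))))) (N (N (N (N (L 186) (L 83)) (N (L 123) (L 89))) (N (N (L 129) (L 119)) (N (L 95) (L 110)))) (N (N (N (L 102) (L 28)) (N (L 180) (L 138))) (N (N (L 76) (L 81)) (N (L 131) (L 78))))))) (N (N (N (N (N (N (L 136) (L 133)) (N (L 79) (L 88))) (N (N (L 128) (L 29)) (N (L 181) (L 114)))) (N (N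 (N (L 106) (L 115)) (N (L 91) (L 154))) (N (N (L 60) (L 149)) (N (L 63) (L 66))))) (N (N (N (N (L 148) (L 61)) (N (L 151) (L 49))) (N (N (L 161) (L 145)) (N (L 39) (L 173)))) (N (N (N (L 67) (L 51)) (N (L 163) (L 74))) (N (N (L 42) (L 170)) (N (L 160) (L 54)))))) (N (N (N (N (N (L 44) (L 172)) (N (L 140) (L 142))) (N (N (L 178) (L 46)) (N (L 56) (L 158)))) (N (N (N (L 168) (L 36)) (N (L 72) (L 141))) (N (N (L 177) (L 45)) (N (L 55) (L 157))))) (N (N (N (N (L 167) (L 35)) (N (L 71) (L 73))) (N (N (L 41) (L 169)) (N (L 159) (L 53)))) (N (N (N (L 43) (L 171)) (N (L 139) (L 50))) (N (N (L 162) (L 146)) (N (L 40) (L 174)))))))) (N (N (N (N (N (N (N (L 68) (L 52)) (N (L 164) (L 62))) (N (N (L 152) (L 65)) (N (L 147) (L 150)))) (N (N (N (L 64) (L 153)) (N (L 59) (L 122))) (N (N (L 98) (L 107)) (N (L 99) (L 32))))) (N (N (N (N (L 184) (L 85)) (N (L 125) (L 134))) (N (N (L 80) (L 77)) (N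 (L 135) (L 82)))) (N (N (N (L 132) (L 137)) (N (L 75) (L 33))) (N (N (L 185) (L 111)) (N (L 103) (L 118)))))) (N (N (N (N (N (L 94) (L 84)) (N (L 124) (L 90))) (N (N (L 130) (L 27)) (N (L 179) (L 112)))) (N (N (N (L 104) (L 117)) (N (L 93) (L 121))) (N (N (L 97) (L 87)) (N (L 127) (L 30))))) (N (N (N (N (L 182) (L 108)) (N (L 100) (L 166))) (N (N (L 58) (L 70)) (N (L 176) (L 38)))) (N (N (N (L 144) (L 156)) (N (L 48) (L 246))) (N (N (L 223) (L 279)) (N (L 190) (L 266))))))) (N (N (N (N (N (N (L 203) (L 274)) (N (L 195) (L 194))) (N (N (L 275) (L 208)) (N (L 261) (L 269)))) (N (N (N (L 200) (L 220)) (N (L 249) (L 192))) (N (N (L 277) (L 226)) (N (L 243) (L 272))))) (N (N (N (N (L 197) (L 259)) (N (L 210) (L 290))) (N (N (L 289) (L 310)) (N (L 309) (L 286)))) (N (N (N (L 285) (L 314)) (N (L 313) (L 268))) (N (N (L 201) (L 247)) (N (L 222) (L 188)))))) (N (N (N (N (N (L 281) (L 264))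 (N (L 205) (L 294))) (N (N (L 293) (L 306)) (N (L 305) (L 298)))) (N (N (N (L 297) (L 302)) (N (L 301) (L 296))) (N (N (L 295) (L 300)) (N (L 299) (L 292))))) (N (N (N (N (L 291) (L 304)) (N (L 303) (L 206))) (N (N (L 263) (L 282)) (N (L 187) (L 221)))) (N (N (N (L 248) (L 202)) (N (L 267) (L 284))) (N (N (L 283) (L 312)) (N (L 311) (L 288))))))))) (N (N (N (N (N (N (N (N (L 287) (L 308)) (N (L 307) (L 209))) (N (N (L 260) (L 198)) (N (L 271) (L 244)))) (N (N (N (L 225) (L 278)) (N (L 191) (L 250))) (N (N (L 219) (L 199)) (N (L 270) (L 262))))) (N (N (N (N (L 207) (L 276)) (N (L 193) (L 196))) (N (N (L 273) (L 204)) (N (L 265) (L 189)))) (N (N (N (L 280) (L 224)) (N (L 245) (L 252))) (N (N (L 251) (L 216)) (N (L 215) (L 256)))))) (N (N (N (N (N (L 255) (L 212)) (N (L 211) (L 240))) (N (N (L 239) (L 228)) (N (L 227) (L 236)))) (N (N (N (L 235) (L 232)) (N (L 231) (L 238))) (N (N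 (L 237) (L 234)) (N (L 233) (L 242))))) (N (N (N (N (L 241) (L 230)) (N (L 229) (L 258))) (N (N (L 257) (L 214)) (N (L 213) (L 254)))) (N (N (N (L 253) (L 218)) (N (L 217) (L 315))) (L 315))))) (L 315)) (L 315)))

open Tr in
set_option maxRecDepth 4000 in
def specTab7 : Tr :=
  (N (N (N (N (N (N (N (N (N (L 0) (L 2)) (N (L 1) (L 10))) (N (N (L 9) (L 8)) (N (L 6) (L 7)))) (N (N (N (L 5) (L 4)) (N (L 3) (L 22))) (N (N (L 21) (L 25)) (N (L 26) (L 19))))) (N (N (N (N (L 20) (L 24)) (N (L 23) (L 15))) (N (N (L 16) (L 12)) (N (L 11) (L 18)))) (N (N (N (L 17) (L 13)) (N (L 14) (L 48))) (N (N (L 156) (L 144)) (N (L 38) (L 176)))))) (N (N (N (N (N (L 70) (L 58)) (N (L 166) (L 100))) (N (N (L 108) (L 182)) (N (L 30) (L 127)))) (N (N (N (L 87) (L 97)) (N (L 121) (L 93))) (N (N (L 117) (L 104)) (N (L 112) (L 179))))) (N (N (N (N (L 27) (L 130)) (N (L 90) (L 124))) (N (N (L 84) (L 94)) (N (L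 118) (L 103)))) (N (N (N (L 111) (L 185)) (N (L 33) (L 75))) (N (N (L 137) (L 132)) (N (L 82) (L 135))))))) (N (N (N (N (N (N (L 77) (L 80)) (N (L 134) (L 125))) (N (N (L 85) (L 184)) (N (L 32) (L 99)))) (N (N (N (L 107) (L 98)) (N (L 122) (L 59))) (N (N (L 153) (L 64)) (N (L 150) (L 147))))) (N (N (N (N (L 65) (L 152)) (N (L 62) (L 164))) (N (N (L 52) (L 68)) (N (L 174) (L 40)))) (N (N (N (L 146) (L 162)) (N (L 50) (L 139))) (N (N (L 171) (L 43)) (N (L 53) (L 159)))))) (N (N (N (N (N (L 169) (L 41)) (N (L 73) (L 71))) (N (N (L 35) (L 167)) (N (L 157) (L 55)))) (N (N (N (L 45) (L 177)) (N (L 141) (L 72))) (N (N (L 36) (L 168)) (N (L 158) (L 56))))) (N (N (N (N (L 46) (L 178)) (N (L 142) (L 140))) (N (N (L 172) (L 44)) (N (L 54) (L 160)))) (N (N (N (L 170) (L 42)) (N (L 74) (L 163))) (N (N (L 51) (L 67)) (N (L 173) (L 39)))))))) (N (N (N (N (N (N (N (L 145) (L 161)) (N (L 49) (L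 151))) (N (N (L 61) (L 148)) (N (L 66) (L 63)))) (N (N (N (L 149) (L 60)) (N (L 154) (L 91))) (N (N (L 115) (L 106)) (N (L 114) (L 181))))) (N (N (N (N (L 29) (L 128)) (N (L 88) (L 79))) (N (N (L 133) (L 136)) (N (L 78) (L 131)))) (N (N (N (L 81) (L 76)) (N (L 138) (L 180))) (N (N (L 28) (L 102)) (N (L 110) (L 95)))))) (N (N (N (N (N (L 119) (L 129)) (N (L 89) (L 123))) (N (N (L 83) (L 186)) (N (L 34) (L 101)))) (N (N (N (L 109) (L 96)) (N (L 120) (L 92))) (N (N (L 116) (L 126)) (N (L 86) (L 183))))) (N (N (N (N (L 31) (L 105)) (N (L 113) (L 47))) (N (N (L 155) (L 143)) (N (L 37) (L 175)))) (N (N (N (L 69) (L 57)) (N (L 165) (L 224))) (N (N (L 245) (L 189)) (N (L 280) (L 204))))))) (N (N (N (N (N (N (L 265) (L 196)) (N (L 273) (L 276))) (N (N (L 193) (L 262)) (N (L 207) (L 199)))) (N (N (N (L 270) (L 250)) (N (L 219) (L 278))) (N (N (L 191) (L 244)) (N (L 225) (L 198))))) (N (N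 (N (N (L 271) (L 209)) (N (L 260) (L 308))) (N (N (L 307) (L 288)) (N (L 287) (L 312)))) (N (N (N (L 311) (L 284)) (N (L 283) (L 202))) (N (N (L 267) (L 221)) (N (L 248) (L 282)))))) (N (N (N (N (N (L 187) (L 206)) (N (L 263) (L 304))) (N (N (L 303) (L 292)) (N (L 291) (L 300)))) (N (N (N (L 299) (L 296)) (N (L 295) (L 302))) (N (N (L 301) (L 298)) (N (L 297) (L 306))))) (N (N (N (N (L 305) (L 294)) (N (L 293) (L 264))) (N (N (L 205) (L 188)) (N (L 281) (L 247)))) (N (N (N (L 222) (L 268)) (N (L 201) (L 314))) (N (N (L 313) (L 286)) (N (L 285) (L 310))))))))) (N (N (N (N (N (N (N (N (L 309) (L 290)) (N (L 289) (L 259))) (N (N (L 210) (L 272)) (N (L 197) (L 226)))) (N (N (N (L 243) (L 192)) (N (L 277) (L 220))) (N (N (L 249) (L 269)) (N (L 200) (L 208))))) (N (N (N (N (L 261) (L 194)) (N (L 275) (L 274))) (N (N (L 195) (L 266)) (N (L 203) (L 279)))) (N (N (N (L 190) (L 246)) (N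 (L 223) (L 218))) (N (N (L 217) (L 254)) (N (L 253) (L 214)))))) (N (N (N (N (N (L 213) (L 258)) (N (L 257) (L 230))) (N (N (L 229) (L 242)) (N (L 241) (L 234)))) (N (N (N (L 233) (L 238)) (N (L 237) (L 232))) (N (N (L 231) (L 236)) (N (L 235) (L 228))))) (N (N (N (N (L 227) (L 240)) (N (L 239) (L 212))) (N (N (L 211) (L 256)) (N (L 255) (L 216)))) (N (N (N (L 215) (L 252)) (N (L 251) (L 315))) (L 315))))) (L 315)) (L 315)))

open Tr in
set_option maxRecDepth 4000 in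
def specTab8 : Tr :=
  (N (N (N (N (N (N (N (N (N (L 0) (L 2)) (N (L 1) (L 10))) (N (N (L 9) (L 5)) (N (L 7) (L 6)))) (N (N (N (L 8) (L 4)) (N (L 3) (L 21))) (N (N (L 23) (L 26)) (N (L 20) (L 25))))) (N (N (N (N (L 19) (L 22)) (N (L 24) (L 16))) (N (N (L 14) (L 11)) (N (L 17) (L 12)))) (N (N (N (L 18) (L 15)) (N (L 13) (L 146))) (N (N (L 40) (L 164)) (N (L 52) (L 162)))))) (N (N (N (N (N (L 50) (L 174)) (N (L 68) (L 119))) (N (N (L 95) (L 89)) (N (L 129) (L 180)))) (N (N (N (L 28) (L 102)) (N (L 110) (L 106))) (N (N (L 114) (L 115)) (N (L 91) (L 85))))) (N (N (N (N (L 125) (L 184)) (N (L 32) (L 182))) (N (N (L 30) (L 100)) (N (L 108) (L 121)))) (N (N (N (L 97) (L 87)) (N (L 127) (L 79))) (N (N (L 133) (L 78)) (N (L 136) (L 132))))))) (N (N (N (N (N (N (L 82) (L 137)) (N (L 75) (L 186))) (N (N (L 34) (L 83)) (N (L 123) (L 117)))) (N (N (N (L 93) (L 104)) (N (L 112) (L 66))) (N (N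 (L 148) (L 151)) (N (L 61) (L 59))))) (N (N (N (N (L 153) (L 150)) (N (L 64) (L 69))) (N (N (L 175) (L 47)) (N (L 155) (L 57)))) (N (N (N (L 165) (L 37)) (N (L 143) (L 46))) (N (N (L 158) (L 72)) (N (L 178) (L 36)))))) (N (N (N (N (N (L 142) (L 56)) (N (L 168) (L 169))) (N (N (L 53) (L 139)) (N (L 41) (L 171)))) (N (N (N (L 73) (L 159)) (N (L 43) (L 170))) (N (N (L 54) (L 140)) (N (L 42) (L 172))))) (N (N (N (N (L 74) (L 160)) (N (L 44) (L 45))) (N (N (L 157) (L 71)) (N (L 177) (L 35)))) (N (N (N (L 141) (L 55)) (N (L 167) (L 70))) (N (N (L 176) (L 48)) (N (L 156) (L 58)))))))) (N (N (N (N (N (N (N (L 166) (L 38)) (N (L 144) (L 149))) (N (N (L 63) (L 60)) (N (L 154) (L 152)))) (N (N (N (L 62) (L 65)) (N (L 147) (L 101))) (N (N (L 109) (L 120)) (N (L 96) (L 90))))) (N (N (N (N (L 130) (L 179)) (N (L 27) (L 138))) (N (N (L 76) (L 131)) (N (L 81) (L 77)))) (N (N (N (L 135) (L 80))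 (N (L 134) (L 86))) (N (N (L 126) (L 116)) (N (L 92) (L 105)))))) (N (N (N (N (N (L 113) (L 183)) (N (L 31) (L 181))) (N (N (L 29) (L 88)) (N (L 128) (L 122)))) (N (N (N (L 98) (L 99)) (N (L 107) (L 103))) (N (N (L 111) (L 185)) (N (L 33) (L 84))))) (N (N (N (N (L 124) (L 118)) (N (L 94) (L 145))) (N (N (L 39) (L 163)) (N (L 51) (L 161)))) (N (N (N (L 49) (L 173)) (N (L 67) (L 198))) (N (N (L 271) (L 260)) (N (L 209) (L 191))))))) (N (N (N (N (N (N (L 278) (L 244)) (N (L 225) (L 206))) (N (N (L 263) (L 282)) (N (L 187) (L 222)))) (N (N (N (L 247) (L 201)) (N (L 268) (L 203))) (N (N (L 266) (L 274)) (N (L 195) (L 246))))) (N (N (N (N (L 223) (L 190)) (N (L 279) (L 312))) (N (N (L 311) (L 284)) (N (L 283) (L 290)))) (N (N (N (L 289) (L 310)) (N (L 309) (L 219))) (N (N (L 250) (L 270)) (N (L 199) (L 208)))))) (N (N (N (N (N (L 261) (L 194)) (N (L 275) (L 296))) (N (N (L 295) (L 300))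 (N (L 299) (L 306)))) (N (N (N (L 305) (L 294)) (N (L 293) (L 304))) (N (N (L 303) (L 292)) (N (L 291) (L 298))))) (N (N (N (N (L 297) (L 302)) (N (L 301) (L 276))) (N (N (L 193) (L 262)) (N (L 207) (L 200)))) (N (N (N (L 269) (L 249)) (N (L 220) (L 288))) (N (N (L 287) (L 308)) (N (L 307) (L 314))))))))) (N (N (N (N (N (N (N (N (L 313) (L 286)) (N (L 285) (L 280))) (N (N (L 189) (L 224)) (N (L 245) (L 196)))) (N (N (N (L 273) (L 265)) (N (L 204) (L 267))) (N (N (L 202) (L 248)) (N (L 221) (L 188))))) (N (N (N (N (L 281) (L 264)) (N (L 205) (L 226))) (N (N (L 243) (L 277)) (N (L 192) (L 210)))) (N (N (N (L 259) (L 272)) (N (L 197) (L 214))) (N (N (L 213) (L 258)) (N (L 257) (L 252)))))) (N (N (N (N (N (L 251) (L 216)) (N (L 215) (L 238))) (N (N (L 237) (L 234)) (N (L 233) (L 228)))) (N (N (N (L 227) (L 240)) (N (L 239) (L 230))) (N (N (L 229) (L 242)) (N (L 241) (L 236))))) (N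 (N (N (N (L 235) (L 232)) (N (L 231) (L 254))) (N (N (L 253) (L 218)) (N (L 217) (L 212)))) (N (N (N (L 211) (L 256)) (N (L 255) (L 315))) (L 315))))) (L 315)) (L 315)))

open Tr in
set_option maxRecDepth 4000 in
def specTab9 : Tr :=
  (N (N (N (N (N (N (N (N (N (L 0) (L 2)) (N (L 1) (L 10))) (N (N (L 4) (L 8)) (N (L 7) (L 6)))) (N (N (N (L 5) (L 9)) (N (L 3) (L 20))) (N (N (L 26) (L 22)) (N (L 24) (L 21))))) (N (N (N (N (L 23) (L 19)) (N (L 25) (L 17))) (N (N (L 11) (L 15)) (N (L 13) (L 16)))) (N (N (N (L 14) (L 18)) (N (L 12) (L 158))) (N (N (L 142) (L 36)) (N (L 46) (L 168)))))) (N (N (N (N (N (L 178) (L 72)) (N (L 56) (L 181))) (N (N (L 29) (L 109)) (N (L 101) (L 93)))) (N (N (N (L 117) (L 85)) (N (L 125) (L 86))) (N (N (L 126) (L 182)) (N (L 30) (L 111))))) (N (N (N (N (L 103) (L 95)) (N (L 119) (L 98))) (N (N (L 122) (L 90)) (N (L 130) (L 186)))) (N (N (N (L 34) (L 114))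 (N (L 106) (L 77))) (N (N (L 135) (L 133)) (N (L 79) (L 76))))))) (N (N (N (N (N (N (L 138) (L 132)) (N (L 82) (L 92))) (N (N (L 116) (L 108)) (N (L 100) (L 185)))) (N (N (N (L 33) (L 89)) (N (L 129) (L 149))) (N (N (L 63) (L 59)) (N (L 153) (L 62))))) (N (N (N (N (L 152) (L 148)) (N (L 66) (L 159))) (N (N (L 139) (L 41)) (N (L 43) (L 169)))) (N (N (N (L 171) (L 73)) (N (L 53) (L 161))) (N (N (L 67) (L 39)) (N (L 163) (L 49)))))) (N (N (N (N (N (L 173) (L 145)) (N (L 51) (L 156))) (N (N (L 70) (L 38)) (N (L 166) (L 48)))) (N (N (N (L 176) (L 144)) (N (L 58) (L 155))) (N (N (L 69) (L 37)) (N (L 165) (L 47))))) (N (N (N (N (L 175) (L 143)) (N (L 57) (L 162))) (N (N (L 68) (L 40)) (N (L 164) (L 50)))) (N (N (N (L 174) (L 146)) (N (L 52) (L 160))) (N (N (L 140) (L 42)) (N (L 44) (L 170)))))))) (N (N (N (N (N (N (N (L 172) (L 74)) (N (L 54) (L 147))) (N (N (L 65) (L 61)) (N (L 151)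 (L 60)))) (N (N (N (L 154) (L 150)) (N (L 64) (L 84))) (N (N (L 124) (L 180)) (N (L 28) (L 113))))) (N (N (N (N (L 105) (L 97)) (N (L 121) (L 131))) (N (N (L 81) (L 75)) (N (L 137) (L 134)))) (N (N (N (L 80) (L 78)) (N (L 136) (L 107))) (N (N (L 99) (L 179)) (N (L 27) (L 83)))))) (N (N (N (N (N (L 123) (L 91)) (N (L 115) (L 94))) (N (N (L 118) (L 110)) (N (L 102) (L 183)))) (N (N (N (L 31) (L 87)) (N (L 127) (L 88))) (N (N (L 128) (L 96)) (N (L 120) (L 112))))) (N (N (N (N (L 104) (L 184)) (N (L 32) (L 157))) (N (N (L 141) (L 35)) (N (L 45) (L 167)))) (N (N (N (L 177) (L 71)) (N (L 55) (L 187))) (N (N (L 282) (L 270)) (N (L 199) (L 220))))))) (N (N (N (N (N (N (L 249) (L 264)) (N (L 205) (L 244))) (N (N (L 225) (L 197)) (N (L 272) (L 190)))) (N (N (N (L 279) (L 204)) (N (L 265) (L 268))) (N (N (L 201) (L 194)) (N (L 275) (L 207))))) (N (N (N (N (L 262) (L 248)) (N (L 221) (L 310)))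 (N (N (L 309) (L 308)) (N (L 307) (L 284)))) (N (N (N (L 283) (L 286)) (N (L 285) (L 278))) (N (N (L 191) (L 210)) (N (L 259) (L 223)))))) (N (N (N (N (N (L 246) (L 196)) (N (L 273) (L 300))) (N (N (L 299) (L 302)) (N (L 301) (L 294)))) (N (N (N (L 293) (L 292)) (N (L 291) (L 306))) (N (N (L 305) (L 304)) (N (L 303) (L 296))))) (N (N (N (N (L 295) (L 298)) (N (L 297) (L 274))) (N (N (L 195) (L 245)) (N (L 224) (L 260)))) (N (N (N (L 209) (L 192)) (N (L 277) (L 312))) (N (N (L 311) (L 314)) (N (L 313) (L 290))))))))) (N (N (N (N (N (N (N (N (L 289) (L 288)) (N (L 287) (L 222))) (N (N (L 247) (L 261)) (N (L 208) (L 276)))) (N (N (N (L 193) (L 202)) (N (L 267) (L 266))) (N (N (L 203) (L 280)) (N (L 189) (L 271))))) (N (N (N (N (L 198) (L 226)) (N (L 243) (L 206))) (N (N (L 263) (L 250)) (N (L 219) (L 200)))) (N (N (N (L 269) (L 281)) (N (L 188) (L 216))) (N (N (L 215) (L 218)) (N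 (L 217) (L 258)))))) (N (N (N (N (N (L 257) (L 256)) (N (L 255) (L 234))) (N (N (L 233) (L 232)) (N (L 231) (L 240)))) (N (N (N (L 239) (L 242)) (N (L 241) (L 228))) (N (N (L 227) (L 230)) (N (L 229) (L 238))))) (N (N (N (N (L 237) (L 236)) (N (L 235) (L 214))) (N (N (L 213) (L 212)) (N (L 211) (L 252)))) (N (N (N (L 251) (L 254)) (N (L 253) (L 315))) (L 315))))) (L 315)) (L 315)))

open Tr in
set_option maxRecDepth 4000 in
def specTab10 : Tr :=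
  (N (N (N (N (N (N (N (N (N (L 0) (L 2)) (N (L 1) (L 3))) (N (N (L 9) (L 8)) (N (L 7) (L 6)))) (N (N (N (L 5) (L 4)) (N (L 10) (L 26))) (N (N (L 25) (L 24)) (N (L 23) (L 22))))) (N (N (N (N (L 21) (L 20)) (N (L 19) (L 18))) (N (N (L 17) (L 16)) (N (L 15) (L 14)))) (N (N (N (L 13) (L 12)) (N (L 11) (L 172))) (N (N (L 170) (L 160)) (N (L 140) (L 74)))))) (N (N (N (N (N (L 54) (L 44)) (N (L 42) (L 130))) (N (N (L 90) (L 122)) (N (L 98) (L 114)))) (N (N (N (L 106) (L 186)) (N (L 34) (L 185))) (N (N (L 33) (L 129)) (N (L 89) (L 121))))) (N (N (N (N (L 97) (L 113)) (N (L 105) (L 112))) (N (N (L 104) (L 184)) (N (L 32) (L 128)))) (N (N (N (L 88) (L 120)) (N (L 96) (L 132))) (N (N (L 82) (L 138)) (N (L 76) (L 134))))))) (N (N (N (N (N (N (L 80) (L 136)) (N (L 78) (L 111))) (N (N (L 103) (L 119)) (N (L 95) (L 127)))) (N (N (N (L 87) (L 183)) (N (L 31) (L 152))) (N (N (L 62) (L 148)) (N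 (L 66) (L 150))))) (N (N (N (N (L 64) (L 154)) (N (L 60) (L 178))) (N (N (L 168) (L 158)) (N (L 142) (L 72)))) (N (N (N (L 56) (L 46)) (N (L 36) (L 176))) (N (N (L 166) (L 156)) (N (L 144) (L 70)))))) (N (N (N (N (N (L 58) (L 48)) (N (L 38) (L 174))) (N (N (L 164) (L 162)) (N (L 146) (L 68)))) (N (N (N (L 52) (L 50)) (N (L 40) (L 173))) (N (N (L 163) (L 161)) (N (L 145) (L 67))))) (N (N (N (N (L 51) (L 49)) (N (L 39) (L 175))) (N (N (L 165) (L 155)) (N (L 143) (L 69)))) (N (N (N (L 57) (L 47)) (N (L 37) (L 177))) (N (N (L 167) (L 157)) (N (L 141) (L 71)))))))) (N (N (N (N (N (N (N (L 55) (L 45)) (N (L 35) (L 153))) (N (N (L 59) (L 149)) (N (L 63) (L 147)))) (N (N (N (L 65) (L 151)) (N (L 61) (L 182))) (N (N (L 30) (L 126)) (N (L 86) (L 118))))) (N (N (N (N (L 94) (L 110)) (N (L 102) (L 135))) (N (N (L 77) (L 133)) (N (L 79) (L 137)))) (N (N (N (L 75) (L 131)) (N (L 81) (L 117)))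 (N (N (L 93) (L 125)) (N (L 85) (L 181)))))) (N (N (N (N (N (L 29) (L 109)) (N (L 101) (L 108))) (N (N (L 100) (L 116)) (N (L 92) (L 124)))) (N (N (N (L 84) (L 180)) (N (L 28) (L 179))) (N (N (L 27) (L 107)) (N (L 99) (L 115))))) (N (N (N (N (L 91) (L 123)) (N (L 83) (L 171))) (N (N (L 169) (L 159)) (N (L 139) (L 73)))) (N (N (N (L 53) (L 43)) (N (L 41) (L 208))) (N (N (L 261) (L 222)) (N (L 247) (L 202))))))) (N (N (N (N (N (N (L 267) (L 193)) (N (L 276) (L 195))) (N (N (L 274) (L 224)) (N (L 245) (L 210)))) (N (N (N (L 259) (L 278)) (N (L 191) (L 220))) (N (N (L 249) (L 205)) (N (L 264) (L 282))))) (N (N (N (N (L 187) (L 270)) (N (L 199) (L 313))) (N (N (L 314) (L 311)) (N (L 312) (L 309)))) (N (N (N (L 310) (L 307)) (N (L 308) (L 266))) (N (N (L 203) (L 280)) (N (L 189) (L 272)))))) (N (N (N (N (N (L 197) (L 225)) (N (L 244) (L 305))) (N (N (L 306) (L 303)) (N (L 304) (L 301))))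 (N (N (N (L 302) (L 299)) (N (L 300) (L 297))) (N (N (L 298) (L 295)) (N (L 296) (L 293))))) (N (N (N (N (L 294) (L 291)) (N (L 292) (L 243))) (N (N (L 226) (L 198)) (N (L 271) (L 190)))) (N (N (N (L 279) (L 204)) (N (L 265) (L 289))) (N (N (L 290) (L 287)) (N (L 288) (L 285))))))))) (N (N (N (N (N (N (N (N (L 286) (L 283)) (N (L 284) (L 200))) (N (N (L 269) (L 188)) (N (L 281) (L 263)))) (N (N (N (L 206) (L 250)) (N (L 219) (L 192))) (N (N (L 277) (L 260)) (N (L 209) (L 246))))) (N (N (N (N (L 223) (L 273)) (N (L 196) (L 275))) (N (N (L 194) (L 268)) (N (L 201) (L 248)))) (N (N (N (L 221) (L 262)) (N (L 207) (L 257))) (N (N (L 258) (L 255)) (N (L 256) (L 253)))))) (N (N (N (N (N (L 254) (L 251)) (N (L 252) (L 241))) (N (N (L 242) (L 239)) (N (L 240) (L 237)))) (N (N (N (L 238) (L 235)) (N (L 236) (L 233))) (N (N (L 234) (L 231)) (N (L 232) (L 229))))) (N (N (N (N (L 230) (L 227))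 (N (L 228) (L 217))) (N (N (L 218) (L 215)) (N (L 216) (L 213)))) (N (N (N (L 214) (L 211)) (N (L 212) (L 315))) (L 315))))) (L 315)) (L 315)))

open Tr in
set_option maxRecDepth 4000 in
def specTab11 : Tr :=
  (N (N (N (N (N (N (N (N (N (L 2) (L 1)) (N (L 0) (L 19))) (N (N (L 25) (L 24)) (N (L 23) (L 22)))) (N (N (N (L 21) (L 20)) (N (L 26) (L 11))) (N (N (L 17) (L 16)) (N (L 15) (L 14))))) (N (N (N (N (L 13) (L 12)) (N (L 18) (L 3))) (N (N (L 9) (L 8)) (N (L 7) (L 6)))) (N (N (N (L 5) (L 4)) (N (L 10) (L 275))) (N (N (L 273) (L 263)) (N (L 243) (L 225)))))) (N (N (N (N (N (L 205) (L 195)) (N (L 193) (L 158))) (N (N (L 55) (L 144)) (N (L 69) (L 164)))) (N (N (N (L 49) (L 171)) (N (L 42) (L 169))) (N (N (L 44) (L 142)) (N (L 71) (L 156))))) (N (N (N (N (L 57) (L 40)) (N (L 173) (L 146))) (N (N (L 67) (L 159)) (N (L 54) (L 36)))) (N (N (N (L 177) (L 48)) (N (L 165) (L 297))) (N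 (N (L 299) (L 291)) (N (L 305) (L 295))))))) (N (N (N (N (N (N (L 301) (L 293)) (N (L 303) (L 52))) (N (N (L 161) (L 38)) (N (L 175) (L 46)))) (N (N (N (L 167) (L 139)) (N (L 74) (L 285))) (N (N (L 311) (L 289)) (N (L 307) (L 287))))) (N (N (N (N (L 309) (L 283)) (N (L 313) (L 262))) (N (N (L 246) (L 188)) (N (L 198) (L 272)))) (N (N (N (L 282) (L 224)) (N (L 208) (L 248))) (N (N (L 260) (L 200)) (N (L 190) (L 280)))))) (N (N (N (N (N (L 270) (L 210)) (N (L 222) (L 268))) (N (N (L 192) (L 250)) (N (L 204) (L 266)))) (N (N (N (L 220) (L 278)) (N (L 202) (L 201))) (N (N (L 277) (L 219)) (N (L 265) (L 203))))) (N (N (N (N (L 249) (L 191)) (N (L 267) (L 221))) (N (N (L 209) (L 269)) (N (L 279) (L 189)))) (N (N (N (L 199) (L 259)) (N (L 247) (L 207))) (N (N (L 223) (L 281)) (N (L 271) (L 197)))))))) (N (N (N (N (N (N (N (L 187) (L 245)) (N (L 261) (L 284))) (N (N (L 314) (L 288)) (N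 (L 310) (L 290)))) (N (N (N (L 308) (L 286)) (N (L 312) (L 73))) (N (N (L 140) (L 168)) (N (L 45) (L 176))))) (N (N (N (N (L 37) (L 162)) (N (L 51) (L 294))) (N (N (L 304) (L 296)) (N (L 302) (L 292)))) (N (N (N (L 306) (L 298)) (N (L 300) (L 166))) (N (N (L 47) (L 178)) (N (L 35) (L 53)))))) (N (N (N (N (N (L 160) (L 68)) (N (L 145) (L 174))) (N (N (L 39) (L 58)) (N (L 155) (L 72)))) (N (N (N (L 141) (L 43)) (N (L 170) (L 41))) (N (N (L 172) (L 50)) (N (L 163) (L 70))))) (N (N (N (N (L 143) (L 56)) (N (L 157) (L 194))) (N (N (L 196) (L 206)) (N (L 226) (L 244)))) (N (N (N (L 264) (L 274)) (N (L 276) (L 128))) (N (N (L 85) (L 119)) (N (L 94) (L 113))))))) (N (N (N (N (N (N (L 100) (L 34)) (N (L 179) (L 33))) (N (N (L 180) (L 127)) (N (L 86) (L 120)))) (N (N (N (L 93) (L 107)) (N (L 106) (L 111))) (N (N (L 102) (L 32)) (N (L 181) (L 123))))) (N (N (N (N (L 90) (L 116)) (N (L 97)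 (L 233))) (N (N (L 235) (L 227)) (N (L 241) (L 231)))) (N (N (N (L 237) (L 229)) (N (L 239) (L 109))) (N (N (L 104) (L 115)) (N (L 98) (L 124)))))) (N (N (N (N (N (L 89) (L 31)) (N (L 182) (L 213))) (N (N (L 255) (L 217)) (N (L 251) (L 215)))) (N (N (N (L 253) (L 211)) (N (L 257) (L 212))) (N (N (L 258) (L 216)) (N (L 254) (L 218))))) (N (N (N (N (L 252) (L 214)) (N (L 256) (L 30))) (N (N (L 183) (L 129)) (N (L 84) (L 122)))) (N (N (N (L 91) (L 112)) (N (L 101) (L 230))) (N (N (L 240) (L 232)) (N (L 238) (L 228))))))))) (N (N (N (N (N (N (N (N (L 242) (L 234)) (N (L 236) (L 121))) (N (N (L 92) (L 130)) (N (L 83) (L 29)))) (N (N (N (L 184) (L 110)) (N (L 103) (L 114))) (N (N (L 99) (L 117)) (N (L 96) (L 126))))) (N (N (N (N (L 87) (L 28)) (N (L 185) (L 27))) (N (N (L 186) (L 108)) (N (L 105) (L 118)))) (N (N (N (L 95) (L 125)) (N (L 88) (L 81))) (N (N (L 131) (L 75)) (N (L 137)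 (L 79)))))) (N (N (N (N (N (L 133) (L 77)) (N (L 135) (L 61))) (N (N (L 151) (L 65)) (N (L 147) (L 63)))) (N (N (N (L 149) (L 59)) (N (L 153) (L 60))) (N (N (L 154) (L 64)) (N (L 150) (L 66))))) (N (N (N (N (L 148) (L 62)) (N (L 152) (L 78))) (N (N (L 136) (L 80)) (N (L 134) (L 76)))) (N (N (N (L 138) (L 82)) (N (L 132) (L 315))) (L 315))))) (L 315)) (L 315)))

open Tr in
set_option maxRecDepth 4000 in
def specTab12 : Tr :=
  (N (N (N (N (N (N (N (N (N (L 2) (L 1)) (N (L 0) (L 20))) (N (N (L 19) (L 22)) (N (L 24) (L 21)))) (N (N (N (L 23) (L 26)) (N (L 25) (L 18))) (N (N (L 12) (L 16)) (N (L 15) (L 14))))) (N (N (N (N (L 13) (L 17)) (N (L 11) (L 4))) (N (N (L 3) (L 7)) (N (L 5) (L 8)))) (N (N (N (L 6) (L 10)) (N (L 9) (L 261))) (N (N (L 245) (L 187)) (N (L 197) (L 271)))))) (N (N (N (N (N (L 281) (L 223)) (N (L 207) (L 177))) (N (N (L 36) (L 48)) (N (L 165) (L 146)))) (N (N (N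 (L 67) (L 54)) (N (L 159) (L 74))) (N (N (L 139) (L 167)) (N (L 46) (L 176))))) (N (N (N (N (L 37) (L 162)) (N (L 51) (L 50))) (N (N (L 163) (L 172)) (N (L 41) (L 157)))) (N (N (N (L 56) (L 70)) (N (L 143) (L 301))) (N (N (L 295) (L 303)) (N (L 293) (L 300))))))) (N (N (N (N (N (N (L 298) (L 306)) (N (L 292) (L 40))) (N (N (L 173) (L 156)) (N (L 57) (L 141)))) (N (N (N (L 72) (L 170)) (N (L 43) (L 313))) (N (N (L 283) (L 309)) (N (L 287) (L 308))))) (N (N (N (N (L 290) (L 312)) (N (L 286) (L 193))) (N (N (L 195) (L 205)) (N (L 225) (L 243)))) (N (N (N (L 263) (L 273)) (N (L 275) (L 267))) (N (N (L 191) (L 249)) (N (L 203) (L 265)))))) (N (N (N (N (N (L 219) (L 277)) (N (L 201) (L 222))) (N (N (L 210) (L 270)) (N (L 280) (L 190)))) (N (N (N (L 200) (L 260)) (N (L 248) (L 247))) (N (N (L 259) (L 199)) (N (L 189) (L 279))))) (N (N (N (N (L 269) (L 209)) (N (L 221) (L 202))) (N (N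 (L 278) (L 220)) (N (L 266) (L 204)))) (N (N (N (L 250) (L 192)) (N (L 268) (L 276))) (N (N (L 274) (L 264)) (N (L 244) (L 226)))))))) (N (N (N (N (N (N (N (L 206) (L 196)) (N (L 194) (L 311))) (N (N (L 285) (L 307)) (N (L 289) (L 310)))) (N (N (N (L 288) (L 314)) (N (L 284) (L 44))) (N (N (L 169) (L 71)) (N (L 142) (L 58))))) (N (N (N (N (L 155) (L 174)) (N (L 39) (L 305))) (N (N (L 291) (L 299)) (N (L 297) (L 304)))) (N (N (N (L 294) (L 302)) (N (L 296) (L 144))) (N (N (L 69) (L 55)) (N (L 158) (L 42)))))) (N (N (N (N (N (L 171) (L 164)) (N (L 49) (L 52))) (N (N (L 161) (L 38)) (N (L 175) (L 45)))) (N (N (N (L 168) (L 140)) (N (L 73) (L 160))) (N (N (L 53) (L 68)) (N (L 145) (L 166))))) (N (N (N (N (L 47) (L 35)) (N (L 178) (L 208))) (N (N (L 224) (L 282)) (N (L 272) (L 198)))) (N (N (N (L 188) (L 246)) (N (L 262) (L 29))) (N (N (L 184) (L 110)) (N (L 103) (L 92))))))) (N (N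 (N (N (N (N (L 121) (L 83)) (N (L 130) (L 84))) (N (N (L 129) (L 30)) (N (L 183) (L 109)))) (N (N (N (L 104) (L 98)) (N (L 115) (L 94))) (N (N (L 119) (L 85)) (N (L 128) (L 34))))) (N (N (N (N (L 179) (L 113)) (N (L 100) (L 240))) (N (N (L 230) (L 232)) (N (L 238) (L 241)))) (N (N (N (L 227) (L 233)) (N (L 235) (L 96))) (N (N (L 117) (L 114)) (N (L 99) (L 33)))))) (N (N (N (N (N (L 180) (L 86)) (N (L 127) (L 216))) (N (N (L 254) (L 258)) (N (L 212) (L 255)))) (N (N (N (L 213) (L 217)) (N (L 251) (L 218))) (N (N (L 252) (L 256)) (N (L 214) (L 257))))) (N (N (N (N (L 211) (L 215)) (N (L 253) (L 87))) (N (N (L 126) (L 28)) (N (L 185) (L 107)))) (N (N (N (L 106) (L 93)) (N (L 120) (L 234))) (N (N (L 236) (L 242)) (N (L 228) (L 231))))))))) (N (N (N (N (N (N (N (N (L 237) (L 239)) (N (L 229) (L 108))) (N (N (L 105) (L 27)) (N (L 186) (L 88)))) (N (N (N (L 125) (L 95)) (N (L 118) (L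 91))) (N (N (L 122) (L 112)) (N (L 101) (L 31))))) (N (N (N (N (L 182) (L 89)) (N (L 124) (L 90))) (N (N (L 123) (L 97)) (N (L 116) (L 111)))) (N (N (N (L 102) (L 32)) (N (L 181) (L 76))) (N (N (L 138) (L 132)) (N (L 82) (L 78)))))) (N (N (N (N (N (L 136) (L 134)) (N (L 80) (L 148))) (N (N (L 66) (L 62)) (N (L 152) (L 60)))) (N (N (N (L 154) (L 150)) (N (L 64) (L 149))) (N (N (L 63) (L 59)) (N (L 153) (L 61))))) (N (N (N (N (L 151) (L 147)) (N (L 65) (L 133))) (N (N (L 79) (L 77)) (N (L 135) (L 131)))) (N (N (N (L 81) (L 75)) (N (L 137) (L 315))) (L 315))))) (L 315)) (L 315)))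

open Tr in
set_option maxRecDepth 4000 in
def specTab13 : Tr :=
  (N (N (N (N (N (N (N (N (N (L 2) (L 1)) (N (L 0) (L 21))) (N (N (L 23) (L 19)) (N (L 20) (L 25)))) (N (N (N (L 26) (L 22)) (N (L 24) (L 18))) (N (N (L 17) (L 13)) (N (L 15) (L 14))))) (N (N (N (N (L 16) (L 12)) (N (L 11) (L 5))) (N (N (L 6) (L 3)) (N (L 9) (L 4)))) (N (N (N (L 10) (L 7)) (N (L 8) (L 249))) (N (N (L 191) (L 267)) (N (L 203) (L 265)))))) (N (N (N (N (N (L 201) (L 277)) (N (L 219) (L 168))) (N (N (L 45) (L 58)) (N (L 155) (L 173)))) (N (N (N (L 40) (L 74)) (N (L 139) (L 160))) (N (N (L 53) (L 36)) (N (L 177) (L 144))))) (N (N (N (N (L 69) (L 163)) (N (L 50) (L 161))) (N (N (L 52) (L 44)) (N (L 169) (L 72)))) (N (N (N (L 141) (L 176)) (N (L 37) (L 305))) (N (N (L 291) (L 300)) (N (L 298) (L 304))))))) (N (N (N (N (N (N (L 294) (L 301)) (N (L 295) (L 145))) (N (N (L 68) (L 48)) (N (L 165) (L 158))))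 (N (N (N (L 55) (L 172)) (N (L 41) (L 310))) (N (N (L 288) (L 313)) (N (L 283) (L 311))))) (N (N (N (N (L 285) (L 308)) (N (L 290) (L 199))) (N (N (L 259) (L 247)) (N (L 189) (L 279)))) (N (N (N (L 221) (L 209)) (N (L 269) (L 282))) (N (N (L 224) (L 208)) (N (L 272) (L 198)))))) (N (N (N (N (N (L 262) (L 246)) (N (L 188) (L 205))) (N (N (L 195) (L 193)) (N (L 225) (L 243)))) (N (N (N (L 275) (L 273)) (N (L 263) (L 264))) (N (N (L 274) (L 276)) (N (L 244) (L 226))))) (N (N (N (N (L 194) (L 196)) (N (L 206) (L 187))) (N (N (L 245) (L 261)) (N (L 197) (L 271)))) (N (N (N (L 207) (L 223)) (N (L 281) (L 270))) (N (N (L 210) (L 222)) (N (L 280) (L 190)))))))) (N (N (N (N (N (N (N (L 248) (L 260)) (N (L 200) (L 307))) (N (N (L 289) (L 312)) (N (L 286) (L 314)))) (N (N (N (L 284) (L 309)) (N (L 287) (L 42))) (N (N (L 171) (L 56)) (N (L 157) (L 166))))) (N (N (N (N (L 47) (L 67)) (N (L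 146) (L 302))) (N (N (L 296) (L 303)) (N (L 293) (L 299)))) (N (N (N (L 297) (L 306)) (N (L 292) (L 38))) (N (N (L 175) (L 142)) (N (L 71) (L 170)))))) (N (N (N (N (N (L 43) (L 51)) (N (L 162) (L 49))) (N (N (L 164) (L 70)) (N (L 143) (L 178)))) (N (N (N (L 35) (L 54)) (N (L 159) (L 140))) (N (N (L 73) (L 39)) (N (L 174) (L 156))))) (N (N (N (N (L 57) (L 46)) (N (L 167) (L 220))) (N (N (L 278) (L 202)) (N (L 266) (L 204)))) (N (N (N (L 268) (L 192)) (N (L 250) (L 115))) (N (N (L 98) (L 86)) (N (L 127) (L 28))))))) (N (N (N (N (N (N (L 185) (L 101)) (N (L 112) (L 100))) (N (N (L 113) (L 118)) (N (L 95) (L 83)))) (N (N (N (L 130) (L 32)) (N (L 181) (L 30))) (N (N (L 183) (L 99)) (N (L 114) (L 120))))) (N (N (N (N (L 93) (L 89)) (N (L 124) (L 238))) (N (N (L 232) (L 239)) (N (L 229) (L 233)))) (N (N (N (L 235) (L 228)) (N (L 242) (L 34))) (N (N (L 179) (L 88)) (N (L 125) (L 121))))))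 (N (N (N (N (N (L 92) (L 102)) (N (L 111) (L 251))) (N (N (L 217) (L 214)) (N (L 256) (L 258)))) (N (N (N (L 212) (L 215)) (N (L 253) (L 216))) (N (N (L 254) (L 257)) (N (L 211) (L 213))))) (N (N (N (N (L 255) (L 252)) (N (L 218) (L 103))) (N (N (L 110) (L 116)) (N (L 97) (L 85)))) (N (N (N (L 128) (L 27)) (N (L 186) (L 227))) (N (N (L 241) (L 234)) (N (L 236) (L 240))))))))) (N (N (N (N (N (N (N (N (L 230) (L 237)) (N (L 231) (L 84))) (N (N (L 129) (L 117)) (N (L 96) (L 106)))) (N (N (N (L 107) (L 31)) (N (L 182) (L 29))) (N (N (L 184) (L 90)) (N (L 123) (L 119))))) (N (N (N (N (L 94) (L 105)) (N (L 108) (L 104))) (N (N (L 109) (L 33)) (N (L 180) (L 87)))) (N (N (N (L 126) (L 122)) (N (L 91) (L 78))) (N (N (L 136) (L 80)) (N (L 134) (L 138)))))) (N (N (N (N (N (L 76) (L 132)) (N (L 82) (L 60))) (N (N (L 154) (L 150)) (N (L 64) (L 66)))) (N (N (N (L 148) (L 152)) (N (L 62) (L 151)))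 (N (N (L 61) (L 65)) (N (L 147) (L 149))))) (N (N (N (N (L 63) (L 59)) (N (L 153) (L 131))) (N (N (L 81) (L 137)) (N (L 75) (L 79)))) (N (N (N (L 133) (L 77)) (N (L 135) (L 315))) (L 315))))) (L 315)) (L 315)))

open Tr in
set_option maxRecDepth 4000 in
def specTab187 : Tr :=
  (N (N (N (N (N (N (N (N (N (L 4) (L 282)) (N (L 188) (L 262))) (N (N (L 0) (L 272)) (N (L 246) (L 224)))) (N (N (N (L 198) (L 9)) (N (L 208) (L 128))) (N (N (L 29) (L 115)) (N (L 81) (L 65))))) (N (N (N (N (L 51) (L 177)) (N (L 41) (L 184))) (N (N (L 172) (L 132)) (N (L 162) (L 98)))) (N (N (N (L 148) (L 85)) (N (L 36) (L 123))) (N (N (L 236) (L 12)) (N (L 266) (L 118)))))) (N (N (N (N (N (L 178) (L 252)) (N (L 276) (L 35))) (N (N (L 26) (L 274)) (N (L 154) (L 239)))) (N (N (N (L 307) (L 18)) (N (L 125) (L 253))) (N (N (L 294) (L 95)) (N (L 267) (L 137))))) (N (N (N (N (L 278) (L 182)) (N (L 202) (L 16)))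 (N (N (L 122) (L 186)) (N (L 206) (L 90)))) (N (N (N (L 263) (L 288)) (N (L 297) (L 112))) (N (N (L 244) (L 144)) (N (L 280) (L 166))))))) (N (N (N (N (N (N (L 250) (L 15)) (N (L 82) (L 260))) (N (N (L 140) (L 80)) (N (L 270) (L 234)))) (N (N (N (L 311) (L 97)) (N (L 248) (L 220))) (N (N (L 102) (L 175)) (N (L 226) (L 269))))) (N (N (N (N (L 69) (L 14)) (N (L 66) (L 264))) (N (N (L 222) (L 25)) (N (L 314) (L 304)))) (N (N (N (L 88) (L 145)) (N (L 55) (L 91))) (N (N (L 247) (L 296)) (N (L 268) (L 45)))))) (N (N (N (N (N (L 289) (L 73)) (N (L 23) (L 310))) (N (N (L 189) (L 136)) (N (L 76) (L 219)))) (N (N (N (L 196) (L 133)) (N (L 242) (L 299))) (N (N (L 152) (L 243)) (N (L 192) (L 150))))) (N (N (N (N (L 59) (L 200)) (N (L 257) (L 13))) (N (N (L 124) (L 214)) (N (L 31) (L 265)))) (N (N (N (L 229) (L 210)) (N (L 52) (L 27))) (N (N (L 116) (L 42)) (N (L 231) (L 215)))))))) (N (N (N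 (N (N (N (N (L 11) (L 209)) (N (L 275) (L 131))) (N (N (L 21) (L 105)) (N (L 190) (L 195)))) (N (N (N (L 101) (L 47)) (N (L 277) (L 259))) (N (N (L 68) (L 218)) (N (L 305) (L 279))))) (N (N (N (N (L 61) (L 89)) (N (L 221) (L 147))) (N (N (L 24) (L 191)) (N (L 111) (L 199)))) (N (N (N (L 108) (L 273)) (N (L 38) (L 228))) (N (N (L 211) (L 194)) (N (L 160) (L 193)))))) (N (N (N (N (N (L 158) (L 161)) (N (L 22) (L 203))) (N (N (L 168) (L 249)) (N (L 63) (L 204)))) (N (N (N (L 164) (L 237)) (N (L 284) (L 171))) (N (N (L 20) (L 256)) (N (L 302) (L 77))))) (N (N (N (N (L 225) (L 17)) (N (L 32) (L 205))) (N (N (L 285) (L 181)) (N (L 49) (L 201)))) (N (N (N (L 19) (L 291)) (N (L 53) (L 187))) (N (N (L 2) (L 100)) (N (L 134) (L 149))))))) (N (N (N (N (N (N (L 110) (L 159)) (N (L 157) (L 135))) (N (N (L 104) (L 271)) (N (L 8) (L 151)))) (N (N (N (L 113) (L 183)) (N (L 50) (L 163))) (N (N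 (L 167) (L 179)) (N (L 54) (L 261))))) (N (N (N (N (L 10) (L 129)) (N (L 121) (L 156))) (N (N (L 227) (L 230)) (N (L 117) (L 127)))) (N (N (N (L 232) (L 292)) (N (L 141) (L 103))) (N (N (L 75) (L 146)) (N (L 84) (L 245)))))) (N (N (N (N (N (L 7) (L 176)) (N (L 78) (L 212))) (N (N (L 155) (L 120)) (N (L 213) (L 126)))) (N (N (N (L 216) (L 286)) (N (L 71) (L 251))) (N (N (L 28) (L 169)) (N (L 313) (L 39))))) (N (N (N (N (L 290) (L 287)) (N (L 106) (L 109))) (N (N (L 60) (L 223)) (N (L 6) (L 92)))) (N (N (N (L 74) (L 165)) (N (L 64) (L 235))) (N (N (L 33) (L 43)) (N (L 303) (L 295))))))))) (N (N (N (N (N (N (N (N (L 173) (L 114)) (N (L 298) (L 139))) (N (N (L 67) (L 207)) (N (L 3) (L 56)))) (N (N (N (L 83) (L 119)) (N (L 30) (L 46))) (N (N (L 94) (L 79)) (N (L 70) (L 197))))) (N (N (N (N (L 5) (L 153)) (N (L 37) (L 130))) (N (N (L 34) (L 138)) (N (L 48) (L 143)))) (N (N (N (L 62)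 (L 281)) (N (L 1) (L 293))) (N (N (L 170) (L 180)) (N (L 233) (L 241)))))) (N (N (N (N (N (L 57) (L 96)) (N (L 240) (L 185))) (N (N (L 217) (L 283)) (N (L 44) (L 255)))) (N (N (N (L 93) (L 58)) (N (L 258) (L 107))) (N (N (L 309) (L 308)) (N (L 174) (L 254))))) (N (N (N (N (L 87) (L 142)) (N (L 312) (L 40))) (N (N (L 301) (L 300)) (N (L 99) (L 72)))) (N (N (N (L 306) (L 238)) (N (L 86) (L 315))) (L 315))))) (L 315)) (L 315)))

open Tr in
set_option maxRecDepth 4000 in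
def specTab207 : Tr :=
  (N (N (N (N (N (N (N (N (N (L 4) (L 262)) (N (L 208) (L 188))) (N (N (L 0) (L 224)) (N (L 272) (L 198)))) (N (N (N (L 246) (L 9)) (N (L 282) (L 54))) (N (N (L 34) (L 60)) (N (L 104) (L 37))))) (N (N (N (N (L 78) (L 157)) (N (L 83) (L 179))) (N (N (L 130) (L 109)) (N (L 135) (L 153)))) (N (N (N (L 176) (L 159)) (N (L 56) (L 158))) (N (N (L 239) (L 263)) (N (L 280) (L 102)))))) (N (N (N (N (N (L 88) (L 257)) (N (L 12) (L 125))) (N (N (L 276) (L 15)) (N (L 101) (L 305)))) (N (N (N (L 314) (L 193)) (N (L 181) (L 307))) (N (N (L 242) (L 111)) (N (L 269) (L 182))))) (N (N (N (N (L 200) (L 150)) (N (L 260) (L 273))) (N (N (L 131) (L 90)) (N (L 11) (L 55)))) (N (N (N (L 26) (L 252)) (N (L 294) (L 77))) (N (N (L 13) (L 145)) (N (L 267) (L 118))))))) (N (N (N (N (N (N (L 248) (L 243)) (N (L 161) (L 265))) (N (N (L 80) (L 124)) (N (L 249) (L 229)))) (N (N (N (L 288)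 (L 144)) (N (L 277) (L 222))) (N (N (L 164) (L 59)) (N (L 16) (L 266))))) (N (N (N (N (L 68) (L 225)) (N (L 91) (L 18))) (N (N (L 191) (L 264)) (N (L 214) (L 228)))) (N (N (N (L 32) (L 105)) (N (L 53) (L 82))) (N (N (L 202) (L 236)) (N (L 210) (L 137)))))) (N (N (N (N (N (L 284) (L 133)) (N (L 226) (L 218))) (N (N (L 192) (L 38)) (N (L 31) (L 279)))) (N (N (N (L 14) (L 89)) (N (L 231) (L 304))) (N (N (L 140) (L 21)) (N (L 270) (L 45))))) (N (N (N (N (L 112) (L 219)) (N (L 311) (L 195))) (N (N (L 152) (L 253)) (N (L 63) (L 247)))) (N (N (N (L 291) (L 203)) (N (L 147) (L 123))) (N (N (L 69) (L 35)) (N (L 297) (L 289)))))))) (N (N (N (N (N (N (N (L 275) (L 250)) (N (L 20) (L 52))) (N (N (L 274) (L 97)) (N (L 201) (L 22)))) (N (N (N (L 136) (L 95)) (N (L 209) (L 220))) (N (N (L 108) (L 211)) (N (L 296) (L 278))))) (N (N (N (N (L 73) (L 61)) (N (L 268) (L 122))) (N (N (L 196) (L 259))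 (N (L 49) (L 204)))) (N (N (N (L 116) (L 23)) (N (L 154) (L 237))) (N (N (L 285) (L 17)) (N (L 27) (L 25)))))) (N (N (N (N (N (L 160) (L 66)) (N (L 244) (L 221))) (N (N (L 76) (L 189)) (N (L 168) (L 190)))) (N (N (N (L 166) (L 299)) (N (L 256) (L 178))) (N (N (L 206) (L 215)) (N (L 234) (L 175))))) (N (N (N (N (L 24) (L 205)) (N (L 171) (L 19))) (N (N (L 310) (L 42)) (N (L 47) (L 199)))) (N (N (N (L 194) (L 302)) (N (L 186) (L 281))) (N (N (L 3) (L 165)) (N (L 167) (L 84))))))) (N (N (N (N (N (N (L 100) (L 41)) (N (L 184) (L 115))) (N (N (L 148) (L 271)) (N (L 7) (L 183)))) (N (N (N (L 48) (L 134)) (N (L 92) (L 121))) (N (N (L 151) (L 177)) (N (L 172) (L 207))))) (N (N (N (N (L 2) (L 138)) (N (L 94) (L 141))) (N (N (L 301) (L 227)) (N (L 86) (L 173)))) (N (N (N (L 233) (L 232)) (N (L 99) (L 113))) (N (N (L 139) (L 163)) (N (L 75) (L 245)))))) (N (N (N (N (N (L 5) (L 81)) (N (L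 98) (L 213))) (N (N (L 87) (L 71)) (N (L 309) (L 106)))) (N (N (N (L 217) (L 216)) (N (L 174) (L 313))) (N (N (L 93) (L 155)) (N (L 312) (L 28))))) (N (N (N (N (L 258) (L 290)) (N (L 44) (L 65))) (N (N (L 162) (L 223)) (N (L 8) (L 119)))) (N (N (N (L 64) (L 70)) (N (L 129) (L 303))) (N (N (L 57) (L 117)) (N (L 306) (L 298))))))))) (N (N (N (N (N (N (N (N (L 170) (L 33)) (N (L 240) (L 149))) (N (N (L 50) (L 261)) (N (L 1) (L 29)))) (N (N (N (L 85) (L 67)) (N (L 79) (L 62))) (N (N (L 146) (L 46)) (N (L 110) (L 197))))) (N (N (N (N (L 6) (L 51)) (N (L 132) (L 128))) (N (N (L 36) (L 74)) (N (L 143) (L 103)))) (N (N (N (L 30) (L 187)) (N (L 10) (L 292))) (N (N (L 96) (L 156)) (N (L 293) (L 295)))))) (N (N (N (N (N (L 72) (L 127)) (N (L 241) (L 120))) (N (N (L 283) (L 286)) (N (L 58) (L 287)))) (N (N (N (L 142) (L 126)) (N (L 255) (L 169))) (N (N (L 308) (L 212)) (N (L 185) (L 251)))))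 (N (N (N (N (L 107) (L 39)) (N (L 254) (L 43))) (N (N (L 300) (L 230)) (N (L 180) (L 114)))) (N (N (N (L 238) (L 235)) (N (L 40) (L 315))) (L 315))))) (L 315)) (L 315)))

open Tr in
set_option maxRecDepth 4000 in
def specTab250 : Tr :=
  (N (N (N (N (N (N (N (N (N (L 8) (L 219)) (N (L 249) (L 203))) (N (N (L 191) (L 5)) (N (L 267) (L 201)))) (N (N (N (L 0) (L 277)) (N (L 265) (L 140))) (N (N (L 142) (L 76)) (N (L 90) (L 143))))) (N (N (N (N (L 148) (L 96)) (N (L 109) (L 65))) (N (N (L 123) (L 73)) (N (L 117) (L 71)))) (N (N (N (L 104) (L 70)) (N (L 137) (L 251))) (N (N (L 150) (L 210)) (N (L 151) (L 205)))))) (N (N (N (N (N (L 153) (L 197)) (N (L 295) (L 275))) (N (N (L 127) (L 100)) (N (L 261) (L 188)))) (N (N (N (L 63) (L 304)) (N (L 212) (L 270))) (N (N (L 115) (L 169)) (N (L 222) (L 215))))) (N (N (N (N (L 298) (L 189)) (N (L 60) (L 196))) (N (N (L 62) (L 176)) (N (L 223) (L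 291)))) (N (N (N (L 214) (L 225)) (N (L 177) (L 190))) (N (N (L 50) (L 195)) (N (L 52) (L 40))))))) (N (N (N (N (N (N (L 187) (L 19)) (N (L 66) (L 310))) (N (N (L 301) (L 69)) (N (L 25) (L 23)))) (N (N (N (L 72) (L 21)) (N (L 74) (L 147))) (N (N (L 13) (L 183)) (N (L 273) (L 280))))) (N (N (N (N (L 181) (L 185)) (N (L 281) (L 144))) (N (N (L 246) (L 253)) (N (L 95) (L 243)))) (N (N (N (L 229) (L 113)) (N (L 14) (L 248))) (N (N (L 232) (L 141)) (N (L 244) (L 86)))))) (N (N (N (N (N (L 17) (L 256)) (N (L 114) (L 168))) (N (N (L 37) (L 101)) (N (L 294) (L 285)))) (N (N (N (L 24) (L 262)) (N (L 200) (L 247))) (N (N (L 245) (L 18)) (N (L 258) (L 233))))) (N (N (N (N (L 139) (L 89)) (N (L 98) (L 44))) (N (N (L 313) (L 22)) (N (L 155) (L 193)))) (N (N (N (L 120) (L 305)) (N (L 269) (L 20))) (N (N (L 160) (L 300)) (N (L 276) (L 36)))))))) (N (N (N (N (N (N (N (L 308) (L 207)) (N (L 130)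 (L 272))) (N (N (L 173) (L 163)) (N (L 259) (L 264)))) (N (N (N (L 161) (L 26)) (N (L 138) (L 112))) (N (N (L 11) (L 93)) (N (L 12) (L 15))))) (N (N (N (N (L 83) (L 242)) (N (L 217) (L 75))) (N (N (L 16) (L 198)) (N (L 28) (L 30)))) (N (N (N (L 206) (L 32)) (N (L 209) (L 118))) (N (N (L 194) (L 283)) (N (L 238) (L 208)))))) (N (N (N (N (N (L 124) (L 136)) (N (L 263) (L 133))) (N (N (L 260) (L 239)) (N (L 290) (L 199)))) (N (N (N (L 99) (L 45)) (N (L 221) (L 311))) (N (N (L 235) (L 132)) (N (L 271) (L 224))))) (N (N (N (N (L 53) (L 58)) (N (L 226) (L 228))) (N (N (L 282) (L 80)) (N (L 274) (L 77)))) (N (N (N (L 279) (L 81)) (N (L 288) (L 64))) (N (N (L 39) (L 49)) (N (L 59) (L 4))))))) (N (N (N (N (N (N (L 278) (L 119)) (N (L 156) (L 61))) (N (N (L 51) (L 33)) (N (L 149) (L 167)))) (N (N (N (L 106) (L 7)) (N (L 268) (L 3))) (N (N (L 266) (L 31)) (N (L 152) (L 129))))) (N (N (N (N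 (L 159) (L 154)) (N (L 29) (L 293))) (N (N (L 42) (L 306)) (N (L 56) (L 47)))) (N (N (N (L 299) (L 146)) (N (L 241) (L 1))) (N (N (L 220) (L 170)) (N (L 46) (L 54)))))) (N (N (N (N (N (L 175) (L 57)) (N (L 178) (L 309))) (N (N (L 179) (L 88)) (N (L 254) (L 255)))) (N (N (N (L 92) (L 111)) (N (L 257) (L 172))) (N (N (L 286) (L 314)) (N (L 158) (L 165))))) (N (N (N (N (L 307) (L 218)) (N (L 145) (L 87))) (N (N (L 94) (L 108)) (N (L 84) (L 107)))) (N (N (N (L 91) (L 2)) (N (L 250) (L 27))) (N (N (L 302) (L 85)) (N (L 230) (L 231))))))))) (N (N (N (N (N (N (N (N (L 97) (L 234)) (N (L 110) (L 134))) (N (N (L 164) (L 38)) (N (L 105) (L 162)))) (N (N (N (L 135) (L 10)) (N (L 204) (L 6))) (N (N (L 202) (L 122)) (N (L 43) (L 174))))) (N (N (N (N (L 131) (L 78)) (N (L 182) (L 35))) (N (N (L 126) (L 9)) (N (L 192) (L 184)))) (N (N (N (L 79) (L 82)) (N (L 180) (L 157))) (N (N (L 292) (L 103))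 (N (L 236) (L 296)))))) (N (N (N (N (N (L 186) (L 297)) (N (L 166) (L 55))) (N (N (L 284) (L 211)) (N (L 102) (L 34)))) (N (N (N (L 287) (L 289)) (N (L 48) (L 216))) (N (N (L 125) (L 68)) (N (L 252) (L 312))))) (N (N (N (N (L 41) (L 121)) (N (L 213) (L 240))) (N (N (L 128) (L 227)) (N (L 67) (L 171)))) (N (N (N (L 303) (L 116)) (N (L 237) (L 315))) (L 315))))) (L 315)) (L 315)))

open Tr in
set_option maxRecDepth 4000 in
def specTab204 : Tr :=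
  (N (N (N (N (N (N (N (N (N (L 8) (L 265)) (N (L 203) (L 219))) (N (N (L 267) (L 5)) (N (L 277) (L 191)))) (N (N (N (L 0) (L 201)) (N (L 249) (L 61))) (N (N (L 119) (L 162)) (N (L 87) (L 57))))) (N (N (N (N (L 31) (L 35)) (N (L 78) (L 182))) (N (N (L 126) (L 152)) (N (L 178) (L 94)))) (N (N (N (L 135) (L 156)) (N (L 51) (L 256))) (N (N (L 89) (L 282)) (N (L 161) (L 16)))))) (N (N (N (N (N (L 115) (L 260)) (N (L 239) (L 17))) (N (N (L 118) (L 185)) (N (L 190) (L 279)))) (N (N (N (L 124) (L 305)) (N (L 290) (L 262))) (N (N (L 133) (L 181)) (N (L 198) (L 258))))) (N (N (N (N (L 301) (L 271)) (N (L 98) (L 26))) (N (N (L 52) (L 150)) (N (L 270) (L 235)))) (N (N (N (L 288) (L 15)) (N (L 86) (L 246))) (N (N (L 169) (L 11)) (N (L 77) (L 100))))))) (N (N (N (N (N (N (L 248) (L 263)) (N (L 139) (L 283))) (N (N (L 229) (L 93)) (N (L 243) (L 275)))) (N (N (N (L 144) (L 273)) (N (L 75) (L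 74))) (N (N (L 274) (L 62)) (N (L 18) (L 224))))) (N (N (N (N (L 114) (L 160)) (N (L 222) (L 120))) (N (N (L 259) (L 212)) (N (L 58) (L 14)))) (N (N (N (L 228) (L 28)) (N (L 194) (L 272))) (N (N (L 294) (L 69)) (N (L 23) (L 95)))))) (N (N (N (N (N (L 244) (L 310)) (N (L 50) (L 153))) (N (N (L 63) (L 147)) (N (L 291) (L 253)))) (N (N (N (L 195) (L 247)) (N (L 208) (L 223))) (N (N (L 200) (L 206)) (N (L 308) (L 238))))) (N (N (N (N (L 138) (L 132)) (N (L 80) (L 32))) (N (N (L 217) (L 193)) (N (L 36) (L 12)))) (N (N (N (L 83) (L 233)) (N (L 281) (L 225))) (N (N (L 40) (L 295)) (N (L 20) (L 127)))))))) (N (N (N (N (N (N (N (L 311) (L 280)) (N (L 141) (L 199))) (N (N (L 113) (L 44)) (N (L 261) (L 24)))) (N (N (N (L 136) (L 205)) (N (L 112) (L 66))) (N (N (L 264) (L 130)) (N (L 226) (L 276))))) (N (N (N (N (L 72) (L 300)) (N (L 214) (L 101))) (N (N (L 196) (L 269)) (N (L 53) (L 151))))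 (N (N (N (L 21) (L 99)) (N (L 207) (L 155))) (N (N (L 25) (L 251)) (N (L 304) (L 221)))))) (N (N (N (N (N (L 81) (L 30)) (N (L 13) (L 168))) (N (N (L 188) (L 242)) (N (L 285) (L 187)))) (N (N (N (L 163) (L 60)) (N (L 245) (L 215))) (N (N (L 232) (L 176)) (N (L 210) (L 209))))) (N (N (N (N (L 173) (L 177)) (N (L 22) (L 298))) (N (N (L 189) (L 45)) (N (L 19) (L 183)))) (N (N (N (L 197) (L 37)) (N (L 313) (L 167))) (N (N (L 164) (L 180)) (N (L 38) (L 7))))))) (N (N (N (N (N (N (L 278) (L 117)) (N (L 90) (L 104))) (N (N (L 148) (L 184)) (N (L 46) (L 131)))) (N (N (N (L 108) (L 9)) (N (L 268) (L 2))) (N (N (L 204) (L 137)) (N (L 109) (L 154))))) (N (N (N (N (L 106) (L 175)) (N (L 174) (L 227))) (N (N (L 85) (L 297)) (N (L 146) (L 171)))) (N (N (N (L 231) (L 116)) (N (L 234) (L 3))) (N (N (L 250) (L 159)) (N (L 82) (L 107)))))) (N (N (N (N (N (L 79) (L 123)) (N (L 142) (L 211))) (N (N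 (L 88) (L 68)) (N (L 314) (L 216)))) (N (N (N (L 172) (L 121)) (N (L 218) (L 55))) (N (N (L 309) (L 289)) (N (L 111) (L 34))))) (N (N (N (N (L 255) (L 312)) (N (L 165) (L 70))) (N (N (L 96) (L 170)) (N (L 59) (L 105)))) (N (N (N (L 64) (L 10)) (N (L 220) (L 157))) (N (N (L 293) (L 103)) (N (L 306) (L 240))))))))) (N (N (N (N (N (N (N (N (L 27) (L 296)) (N (L 47) (L 84))) (N (N (L 33) (L 134)) (N (L 43) (L 65)))) (N (N (N (L 140) (L 1)) (N (L 266) (L 4))) (N (N (L 202) (L 149)) (N (L 54) (L 49))))) (N (N (N (N (L 91) (L 73)) (N (L 76) (L 71))) (N (N (L 143) (L 6)) (N (L 192) (L 39)))) (N (N (N (L 129) (L 122)) (N (L 29) (L 67))) (N (N (L 299) (L 166)) (N (L 302) (L 303)))))) (N (N (N (N (N (L 56) (L 237)) (N (L 42) (L 102))) (N (N (L 307) (L 252)) (N (L 92) (L 125)))) (N (N (N (L 257) (L 213)) (N (L 179) (L 284))) (N (N (L 145) (L 48)) (N (L 286) (L 287))))) (N (N (N (N (L 158)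 (L 41)) (N (L 254) (L 292))) (N (N (L 110) (L 236)) (N (L 97) (L 128)))) (N (N (N (L 241) (L 186)) (N (L 230) (L 315))) (L 315))))) (L 315)) (L 315)))

open Tr in
set_option maxRecDepth 4000 in
def specTab246 : Tr :=
  (N (N (N (N (N (N (N (N (N (L 9) (L 223)) (N (L 245) (L 197))) (N (N (L 4) (L 261)) (N (L 187) (L 281)))) (N (N (N (L 207) (L 0)) (N (L 271) (L 140))) (N (N (L 80) (L 97)) (N (L 144) (L 105))))) (N (N (N (N (L 145) (L 152)) (N (L 124) (L 61))) (N (N (L 73) (L 108)) (N (L 116) (L 68)))) (N (N (N (L 69) (L 89)) (N (L 133) (L 202))) (N (N (L 255) (L 148)) (N (L 149) (L 193)))))) (N (N (N (N (N (L 189) (L 293)) (N (L 153) (L 200))) (N (N (L 65) (L 159)) (N (L 220) (L 217)))) (N (N (N (L 298) (L 162)) (N (L 221) (L 306))) (N (N (L 212) (L 206)) (N (L 64) (L 273))))) (N (N (N (N (L 119) (L 225)) (N (L 165) (L 85))) (N (N (L 259) (L 278)) (N (L 109) (L 203)))) (N (N (N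 (L 60) (L 295)) (N (L 216) (L 204))) (N (N (L 56) (L 19)) (N (L 62) (L 205))))))) (N (N (N (N (N (N (L 46) (L 36)) (N (L 199) (L 67))) (N (N (L 23) (L 24)) (N (L 70) (L 308)))) (N (N (N (L 303) (L 20)) (N (L 74) (L 183))) (N (N (L 263) (L 266)) (N (L 179) (L 151))))) (N (N (N (N (L 12) (L 184)) (N (L 269) (L 176))) (N (N (L 84) (L 51)) (N (L 292) (L 287)))) (N (N (N (L 260) (L 25)) (N (L 192) (L 248))) (N (N (L 146) (L 251)) (N (L 103) (L 243)))))) (N (N (N (N (N (L 227) (L 13)) (N (L 128) (L 230))) (N (N (L 143) (L 250)) (N (L 244) (L 94)))) (N (N (N (L 130) (L 15)) (N (L 254) (L 313))) (N (N (L 21) (L 54)) (N (L 163) (L 195))))) (N (N (N (N (L 277) (L 113)) (N (L 301) (L 172))) (N (N (L 22) (L 300)) (N (L 274) (L 48)))) (N (N (N (L 312) (L 121)) (N (L 209) (L 249))) (N (N (L 18) (L 247)) (N (L 258) (L 233)))))))) (N (N (N (N (N (N (N (L 98) (L 139)) (N (L 104) (L 280))) (N (N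 (L 177) (L 26)) (N (L 134) (L 157)))) (N (N (N (L 267) (L 276)) (N (L 167) (L 129))) (N (N (L 11) (L 238)) (N (L 213) (L 100))))) (N (N (N (N (L 14) (L 16)) (N (L 92) (L 190))) (N (N (L 29) (L 30)) (N (L 194) (L 79)))) (N (N (N (L 17) (L 34)) (N (L 201) (L 283))) (N (N (L 240) (L 135)) (N (L 268) (L 37)))))) (N (N (N (N (N (L 219) (L 222)) (N (L 41) (L 110))) (N (N (L 196) (L 50)) (N (L 226) (L 138)))) (N (N (N (L 275) (L 309)) (N (L 235) (L 210))) (N (N (L 115) (L 241)) (N (L 286) (L 191))))) (N (N (N (N (L 83) (L 132)) (N (L 279) (L 78))) (N (N (L 232) (L 270)) (N (L 264) (L 75)))) (N (N (N (L 81) (L 290)) (N (L 265) (L 6))) (N (N (L 282) (L 32)) (N (L 147) (L 175))))))) (N (N (N (N (N (N (L 90) (L 31)) (N (L 150) (L 111))) (N (N (L 164) (L 3)) (N (L 272) (L 66)))) (N (N (N (L 35) (L 154)) (N (L 27) (L 55))) (N (N (L 59) (L 63)) (N (L 45) (L 8))))) (N (N (N (N (L 262) (L 122))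 (N (L 171) (L 291))) (N (N (L 44) (L 142)) (N (L 237) (L 302)))) (N (N (N (L 58) (L 39)) (N (L 299) (L 160))) (N (N (L 38) (L 42)) (N (L 161) (L 1)))))) (N (N (N (N (N (L 224) (L 49)) (N (L 166) (L 96))) (N (N (L 252) (L 253)) (N (L 99) (L 307)))) (N (N (N (L 180) (L 127)) (N (L 257) (L 170))) (N (N (L 288) (L 214)) (N (L 141) (L 314))))) (N (N (N (N (L 156) (L 173)) (N (L 311) (L 95))) (N (N (L 102) (L 2)) (N (L 246) (L 125)))) (N (N (N (L 91) (L 123)) (N (L 101) (L 93))) (N (N (L 228) (L 229)) (N (L 106) (L 28))))))))) (N (N (N (N (N (N (N (N (L 304) (L 234)) (N (L 126) (L 52))) (N (N (L 88) (L 5)) (N (L 208) (L 76)))) (N (N (N (L 182) (L 186)) (N (L 77) (L 136))) (N (N (L 158) (L 82)) (N (L 181) (L 10))))) (N (N (N (N (L 198) (L 47)) (N (L 118) (L 168))) (N (N (L 137) (L 112)) (N (L 53) (L 178)))) (N (N (N (L 131) (L 7)) (N (L 188) (L 155))) (N (N (L 296) (L 297)) (N (L 174)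 (L 87)))))) (N (N (N (N (N (L 236) (L 294)) (N (L 185) (L 211))) (N (N (L 86) (L 33)) (N (L 289) (L 57)))) (N (N (N (L 284) (L 285)) (N (L 40) (L 218))) (N (N (L 117) (L 114)) (N (L 215) (L 72))))) (N (N (N (N (L 256) (L 310)) (N (L 43) (L 231))) (N (N (L 71) (L 169)) (N (L 305) (L 242)))) (N (N (N (L 120) (L 107)) (N (L 239) (L 315))) (L 315))))) (L 315)) (L 315)))

open Tr in
set_option maxRecDepth 4000 in
def specTab262 : Tr :=
  (N (N (N (N (N (N (N (N (N (L 9) (L 207)) (N (L 261) (L 187))) (N (N (L 4) (L 223)) (N (L 271) (L 197)))) (N (N (N (L 245) (L 0)) (N (L 281) (L 160))) (N (N (L 186) (L 154)) (N (L 112) (L 175))))) (N (N (N (N (L 136) (L 55)) (N (L 123) (L 158))) (N (N (L 53) (L 38)) (N (L 59) (L 77)))) (N (N (N (L 101) (L 90)) (N (L 27) (L 26))) (N (N (L 309) (L 172)) (N (L 165) (L 270)))))) (N (N (N (N (N (L 275) (L 301)) (N (L 34) (L 264))) (N (N (L 41) (L 37)) (N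 (L 21) (L 254)))) (N (N (N (L 235) (L 36)) (N (L 263) (L 300))) (N (N (L 213) (L 279)) (N (L 48) (L 280))))) (N (N (N (N (L 46) (L 248)) (N (L 138) (L 148))) (N (N (L 225) (L 20)) (N (L 54) (L 17)))) (N (N (N (L 179) (L 232)) (N (L 286) (L 22))) (N (N (L 60) (L 265)) (N (L 92) (L 210))))))) (N (N (N (N (N (N (L 163) (L 98)) (N (L 273) (L 151))) (N (N (L 201) (L 191)) (N (L 139) (L 258)))) (N (N (N (L 295) (L 249)) (N (L 100) (L 119))) (N (N (L 260) (L 23)) (N (L 78) (L 121))))) (N (N (N (N (L 268) (L 162)) (N (L 195) (L 83))) (N (N (L 143) (L 177)) (N (L 298) (L 290)))) (N (N (N (L 194) (L 219)) (N (L 25) (L 274))) (N (N (L 62) (L 216)) (N (L 149) (L 222)))))) (N (N (N (N (N (L 292) (L 266)) (N (L 65) (L 303))) (N (N (L 74) (L 24)) (N (L 199) (L 167)))) (N (N (N (L 104) (L 250)) (N (L 312) (L 251))) (N (N (L 277) (L 176)) (N (L 183) (L 190))))) (N (N (N (N (L 14) (L 129)) (N (L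 238) (L 132))) (N (N (L 267) (L 233)) (N (L 259) (L 75)))) (N (N (N (L 283) (L 79)) (N (L 243) (L 18))) (N (N (L 278) (L 205)) (N (L 255) (L 241)))))))) (N (N (N (N (N (N (N (L 184) (L 113)) (N (L 159) (L 244))) (N (N (L 115) (L 203)) (N (L 146) (L 153)))) (N (N (N (L 16) (L 247)) (N (L 50) (L 70))) (N (N (L 192) (L 240)) (N (L 287) (L 84))))) (N (N (N (N (L 220) (L 204)) (N (L 134) (L 226))) (N (N (L 51) (L 94)) (N (L 221) (L 67)))) (N (N (N (L 202) (L 135)) (N (L 13) (L 217))) (N (N (L 293) (L 157)) (N (L 19) (L 130)))))) (N (N (N (N (N (L 11) (L 196)) (N (L 81) (L 64))) (N (N (L 209) (L 30)) (N (L 269) (L 103)))) (N (N (N (L 200) (L 308)) (N (L 227) (L 276))) (N (N (L 29) (L 306)) (N (L 313) (L 15))))) (N (N (N (N (L 109) (L 85)) (N (L 193) (L 56))) (N (N (L 230) (L 206)) (N (L 189) (L 110)))) (N (N (N (L 128) (L 212)) (N (L 12) (L 3))) (N (N (L 282) (L 182)) (N (L 111) (L 69)))))))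 (N (N (N (N (N (N (L 140) (L 178)) (N (L 88) (L 82))) (N (N (L 161) (L 7)) (N (L 272) (L 102)))) (N (N (N (L 168) (L 68)) (N (L 152) (L 133))) (N (N (L 145) (L 125)) (N (L 181) (L 1))))) (N (N (N (N (L 208) (L 164)) (N (L 63) (L 229))) (N (N (L 185) (L 44)) (N (L 297) (L 305)))) (N (N (N (L 93) (L 155)) (N (L 304) (L 89))) (N (N (L 144) (L 150)) (N (L 95) (L 5)))))) (N (N (N (N (N (L 246) (L 52)) (N (L 147) (L 170))) (N (N (L 289) (L 211)) (N (L 180) (L 311)))) (N (N (N (L 57) (L 117)) (N (L 314) (L 40))) (N (N (L 253) (L 252)) (N (L 114) (L 310))))) (N (N (N (N (L 141) (L 127)) (N (L 256) (L 122))) (N (N (L 131) (L 8)) (N (L 224) (L 137)))) (N (N (N (L 49) (L 73)) (N (L 105) (L 107))) (N (N (L 237) (L 236)) (N (L 39) (L 126))))))))) (N (N (N (N (N (N (N (N (L 242) (L 302)) (N (L 71) (L 118))) (N (N (L 76) (L 2)) (N (L 262) (L 42)))) (N (N (N (L 35) (L 61)) (N (L 97) (L 116)))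 (N (N (L 80) (L 166)) (N (L 31) (L 6))))) (N (N (N (N (L 198) (L 66)) (N (L 91) (L 32))) (N (N (L 171) (L 108)) (N (L 124) (L 45)))) (N (N (N (L 47) (L 10)) (N (L 188) (L 120))) (N (N (L 291) (L 294)) (N (L 58) (L 142)))))) (N (N (N (N (N (L 296) (L 228)) (N (L 87) (L 284))) (N (N (L 96) (L 156)) (N (L 285) (L 72)))) (N (N (N (L 288) (L 214)) (N (L 86) (L 307))) (N (N (L 43) (L 33)) (N (L 257) (L 99))))) (N (N (N (N (L 218) (L 215)) (N (L 173) (L 299))) (N (N (L 169) (L 28)) (N (L 239) (L 231)))) (N (N (N (L 106) (L 174)) (N (L 234) (L 315))) (L 315))))) (L 315)) (L 315)))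

open Tr in
set_option maxRecDepth 4000 in
def specTab186 : Tr :=
  (N (N (N (N (N (N (N (N (N (L 27) (L 34)) (N (L 26) (L 172))) (N (N (L 158) (L 301)) (N (L 270) (L 165)))) (N (N (N (L 309) (L 261)) (N (L 275) (L 276))) (N (N (L 262) (L 288)) (N (L 166) (L 269))))) (N (N (N (N (L 296) (L 157)) (N (L 171) (L 19))) (N (N (L 29) (L 30)) (N (L 33) (L 28)))) (N (N (N (L 31) (L 32)) (N (L 2) (L 0))) (N (N (L 23) (L 20)) (N (L 21) (L 24)))))) (N (N (N (N (N (L 25) (L 22)) (N (L 1) (L 205))) (N (N (L 54) (L 46)) (N (L 197) (L 289)))) (N (N (N (L 304) (L 41)) (N (L 194) (L 210))) (N (N (L 57) (L 190)) (N (L 37) (L 199))))) (N (N (N (N (L 48) (L 312)) (N (L 291) (L 284))) (N (N (L 298) (L 187)) (N (L 36) (L 55)))) (N (N (N (L 208) (L 44)) (N (L 195) (L 223))) (N (N (L 72) (L 222)) (N (L 69) (L 74))))))) (N (N (N (N (N (N (L 225) (L 68)) (N (L 219) (L 218))) (N (N (L 65) (L 62)) (N (L 213)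 (L 211)))) (N (N (N (L 60) (L 216)) (N (L 63) (L 145))) (N (N (L 250) (L 245)) (N (L 142) (L 140))))) (N (N (N (N (L 243) (L 248)) (N (L 143) (L 178))) (N (N (L 286) (L 264)) (N (L 163) (L 268)))) (N (N (N (L 159) (L 292)) (N (L 281) (L 278))) (N (N (L 156) (L 170)) (N (L 307) (L 303)))))) (N (N (N (N (N (L 273) (L 259)) (N (L 173) (L 265))) (N (N (L 300) (L 271)) (N (L 176) (L 279)))) (N (N (N (L 168) (L 283)) (N (L 162) (L 314))) (N (N (L 266) (L 280)) (N (L 272) (L 167))))) (N (N (N (N (L 175) (L 161)) (N (L 297) (L 294))) (N (N (L 274) (L 155)) (N (L 277) (L 174)))) (N (N (N (L 260) (L 169)) (N (L 290) (L 160))) (N (N (L 267) (L 177)) (N (L 311) (L 305)))))))) (N (N (N (N (N (N (N (L 282) (L 164)) (N (L 263) (L 255))) (N (N (L 152) (L 149)) (N (L 254) (L 257)))) (N (N (N (L 154) (L 251)) (N (L 148) (L 232))) (N (N (L 79) (L 229)) (N (L 78) (L 82))))) (N (N (N (N (L 233) (L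 75)) (N (L 228) (L 241))) (N (N (L 138) (L 133)) (N (L 238) (L 235)))) (N (N (N (L 132) (L 239)) (N (L 136) (L 117))) (N (N (L 92) (L 17)) (N (L 4) (L 88)))))) (N (N (N (N (N (L 123) (L 113)) (N (L 106) (L 86))) (N (N (L 129) (L 7)) (N (L 14) (L 111)))) (N (N (N (L 104) (L 121)) (N (L 93) (L 18))) (N (N (L 3) (L 98)) (N (L 119) (L 112))))) (N (N (N (N (L 102) (L 125)) (N (L 83) (L 179))) (N (N (L 185) (L 184)) (N (L 183) (L 182)))) (N (N (N (L 181) (L 180)) (N (L 186) (L 53))) (N (N (L 206) (L 198)) (N (L 45) (L 293))))))) (N (N (N (N (N (N (L 308) (L 193)) (N (L 42) (L 58))) (N (N (L 209) (L 38)) (N (L 189) (L 47)))) (N (N (N (L 200) (L 306)) (N (L 285) (L 299))) (N (N (L 313) (L 35)) (N (L 188) (L 207))))) (N (N (N (N (L 56) (L 196)) (N (L 43) (L 71))) (N (N (L 224) (L 70)) (N (L 221) (L 226)))) (N (N (N (L 73) (L 220)) (N (L 67) (L 66))) (N (N (L 217) (L 214)) (N (L 61) (L 59))))))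 (N (N (N (N (N (L 212) (L 64)) (N (L 215) (L 249))) (N (N (L 146) (L 141)) (N (L 246) (L 244)))) (N (N (N (L 139) (L 144)) (N (L 247) (L 151))) (N (N (L 256) (L 253)) (N (L 150) (L 153))))) (N (N (N (N (L 258) (L 147)) (N (L 252) (L 80))) (N (N (L 231) (L 77)) (N (L 230) (L 234)))) (N (N (N (L 81) (L 227)) (N (L 76) (L 137))) (N (N (L 242) (L 237)) (N (L 134) (L 131))))))))) (N (N (N (N (N (N (N (N (L 236) (L 135)) (N (L 240) (L 97))) (N (N (L 120) (L 9)) (N (L 12) (L 130)))) (N (N (N (L 85) (L 99)) (N (L 108) (L 124))) (N (N (L 87) (L 15)) (N (L 6) (L 101))))) (N (N (N (N (L 110) (L 96)) (N (L 116) (L 10))) (N (N (L 11) (L 118)) (N (L 91) (L 103)))) (N (N (N (L 109) (L 90)) (N (L 128) (L 105))) (N (N (L 51) (L 202)) (N (L 84) (L 287)))))) (N (N (N (N (N (L 13) (L 39)) (N (L 122) (L 50))) (N (N (L 89) (L 191)) (N (L 115) (L 295)))) (N (N (N (L 16) (L 114)) (N (L 52) (L 203))) (N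 (N (L 100) (L 5)) (N (L 310) (L 95))))) (N (N (N (N (L 40) (L 127)) (N (L 201) (L 94))) (N (N (L 192) (L 8)) (N (L 302) (L 126)))) (N (N (N (L 49) (L 204)) (N (L 107) (L 315))) (L 315))))) (L 315)) (L 315)))

open Tr in
set_option maxRecDepth 4000 in
def specTab300 : Tr :=
  (N (N (N (N (N (N (N (N (N (L 211) (L 81)) (N (L 297) (L 236))) (N (N (L 155) (L 157)) (N (L 163) (L 231)))) (N (N (N (L 229) (L 227)) (N (L 139) (L 154))) (N (N (L 63) (L 61)) (N (L 65) (L 282))))) (N (N (N (N (L 270) (L 278)) (N (L 225) (L 314))) (N (N (L 130) (L 114)) (N (L 121) (L 285)))) (N (N (N (L 287) (L 289)) (N (L 30) (L 161))) (N (N (L 167) (L 175)) (N (L 26) (L 31)))))) (N (N (N (N (N (L 280) (L 272)) (N (L 266) (L 124))) (N (N (L 276) (L 177)) (N (L 80) (L 109)))) (N (N (N (L 264) (L 143)) (N (L 138) (L 145))) (N (N (L 134) (L 173)) (N (L 76) (L 115))))) (N (N (N (N (L 274) (L 200)) (N (L 290)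 (L 165))) (N (N (L 78) (L 141)) (N (L 136) (L 192)))) (N (N (N (L 286) (L 188)) (N (L 288) (L 233))) (N (N (L 183) (L 13)) (N (L 269) (L 12))))))) (N (N (N (N (N (N (L 277) (L 14)) (N (L 281) (L 120))) (N (N (L 245) (L 128)) (N (L 249) (L 113)))) (N (N (N (L 247) (L 243)) (N (L 313) (L 174))) (N (N (L 46) (L 166)) (N (L 52) (L 178))))) (N (N (N (N (L 38) (L 1)) (N (L 82) (L 151))) (N (N (L 305) (L 185)) (N (L 296) (L 98)))) (N (N (N (L 293) (L 103)) (N (L 237) (L 301))) (N (N (L 149) (L 184)) (N (L 294) (L 104)))))) (N (N (N (N (N (L 291) (L 239)) (N (L 87) (L 147))) (N (N (L 186) (L 303)) (N (L 292) (L 89)))) (N (N (N (L 95) (L 295)) (N (L 241) (L 107))) (N (N (L 248) (L 39)) (N (L 169) (L 202))))) (N (N (N (N (L 263) (L 71)) (N (L 21) (L 47))) (N (N (L 116) (L 246)) (N (L 171) (L 210)))) (N (N (N (L 67) (L 22)) (N (L 273) (L 123))) (N (N (L 35) (L 250)) (N (L 159) (L 208))))))))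 (N (N (N (N (N (N (N (L 69) (L 275)) (N (L 20) (L 299))) (N (N (L 258) (L 146)) (N (L 44) (L 142)))) (N (N (N (L 54) (L 144)) (N (L 42) (L 10))) (N (N (L 235) (L 53)) (N (L 135) (L 41))))) (N (N (N (N (L 137) (L 43)) (N (L 133) (L 99))) (N (N (L 242) (L 92)) (N (L 240) (L 83)))) (N (N (N (L 238) (L 226)) (N (L 11) (L 4))) (N (N (L 228) (L 5)) (N (L 230) (L 126)))))) (N (N (N (N (N (L 207) (L 27)) (N (L 265) (L 6))) (N (N (L 232) (L 51)) (N (L 77) (L 28)))) (N (N (N (L 271) (L 110)) (N (L 201) (L 118))) (N (N (L 209) (L 45)) (N (L 75) (L 29))))) (N (N (N (N (L 279) (L 37)) (N (L 79) (L 302))) (N (N (L 304) (L 306)) (N (L 234) (L 60)))) (N (N (N (L 93) (L 85)) (N (L 100) (L 309))) (N (N (L 57) (L 218)) (N (L 268) (L 311))))))) (N (N (N (N (N (N (L 55) (L 224)) (N (L 252) (L 222))) (N (N (L 256) (L 216)) (N (L 260) (L 307)))) (N (N (N (L 49) (L 170)) (N (L 111) (L 214))) (N (N (L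 262) (L 220)) (N (L 254) (L 160))))) (N (N (N (N (L 127) (L 172)) (N (L 119) (L 0))) (N (N (L 212) (L 261)) (N (L 203) (L 259)))) (N (N (N (L 197) (L 267)) (N (L 189) (L 253))) (N (N (L 205) (L 255)) (N (L 195) (L 251)))))) (N (N (N (N (N (L 193) (L 18)) (N (L 153) (L 9))) (N (N (L 156) (L 8)) (N (L 158) (L 7)))) (N (N (N (L 164) (L 59)) (N (L 182) (L 140))) (N (N (L 3) (L 90)) (N (L 152) (L 97))))) (N (N (N (N (L 150) (L 106)) (N (L 148) (L 73))) (N (N (L 284) (L 68)) (N (L 117) (L 72)))) (N (N (N (L 108) (L 70)) (N (L 125) (L 223))) (N (N (L 194) (L 219)) (N (L 206) (L 221))))))))) (N (N (N (N (N (N (N (N (L 196) (L 298)) (N (L 132) (L 215))) (N (N (L 198) (L 213)) (N (L 204) (L 112)))) (N (N (N (L 40) (L 162)) (N (L 34) (L 217))) (N (N (L 190) (L 62)) (N (L 16) (L 168))))) (N (N (N (N (L 33) (L 122)) (N (L 48) (L 129))) (N (N (L 36) (L 64)) (N (L 17) (L 176)))) (N (N (N (L 32)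 (L 66)) (N (L 15) (L 283))) (N (N (L 244) (L 23)) (N (L 56) (L 24)))))) (N (N (N (N (N (L 58) (L 25)) (N (L 50) (L 96))) (N (N (L 102) (L 88)) (N (L 94) (L 105)))) (N (N (N (L 86) (L 2)) (N (L 257) (L 131))) (N (N (L 300) (L 91)) (N (L 179) (L 101))))) (N (N (N (N (L 180) (L 84)) (N (L 181) (L 199))) (N (N (L 308) (L 187)) (N (L 310) (L 191)))) (N (N (N (L 312) (L 74)) (N (L 19) (L 315))) (L 315))))) (L 315)) (L 315)))

open Tr in
set_option maxRecDepth 4000 in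
def specTab288 : Tr :=
  (N (N (N (N (N (N (N (N (N (L 227) (L 66)) (N (L 309) (L 216))) (N (N (L 211) (L 68)) (N (L 160) (L 213)))) (N (N (N (L 251) (L 155)) (N (L 168) (L 280))) (N (N (L 273) (L 250)) (N (L 82) (L 281))))) (N (N (N (N (L 138) (L 78)) (N (L 79) (L 301))) (N (N (L 124) (L 299)) (N (L 118) (L 293)))) (N (N (N (L 99) (L 306)) (N (L 27) (L 26))) (N (N (L 158) (L 270)) (N (L 172) (L 275)))))) (N (N (N (N (N (L 165) (L 261)) (N (L 34) (L 265))) (N (N (L 121) (L 125)) (N (L 277) (L 152)))) (N (N (N (L 74) (L 63)) (N (L 175) (L 267))) (N (N (L 102) (L 305)) (N (L 195) (L 178))))) (N (N (N (N (L 62) (L 149)) (N (L 72) (L 154))) (N (N (L 69) (L 294)) (N (L 190) (L 60)))) (N (N (N (L 170) (L 187)) (N (L 300) (L 169))) (N (N (L 55) (L 177)) (N (L 48) (L 41))))))) (N (N (N (N (N (N (L 176) (L 65)) (N (L 1) (L 252))) (N (N (L 5) (L 52)) (N (L 153) (L 150)))) (N (N (N (L 50)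 (L 151)) (N (L 40) (L 218))) (N (N (L 186) (L 274)) (N (L 17) (L 18))))) (N (N (N (N (L 279) (L 282)) (N (L 14) (L 111))) (N (N (L 254) (L 314)) (N (L 312) (L 181)))) (N (N (N (L 93) (L 136)) (N (L 290) (L 185))) (N (N (L 112) (L 88)) (N (L 255) (L 133)))))) (N (N (N (N (N (L 283) (L 286)) (N (L 289) (L 24))) (N (N (L 222) (L 174)) (N (L 44) (L 268)))) (N (N (N (L 205) (L 142)) (N (L 106) (L 257))) (N (N (L 183) (L 311)) (N (L 307) (L 83))))) (N (N (N (N (L 92) (L 284)) (N (L 132) (L 225))) (N (N (L 266) (L 197)) (N (L 22) (L 119)))) (N (N (N (L 164) (L 36)) (N (L 143) (L 210))) (N (N (L 20) (L 37)) (N (L 140) (L 223)))))))) (N (N (N (N (N (N (N (L 278) (L 129)) (N (L 162) (L 258))) (N (N (L 114) (L 95)) (N (L 256) (L 253)))) (N (N (N (L 89) (L 249)) (N (L 16) (L 224))) (N (N (L 126) (L 221)) (N (L 105) (L 122))))) (N (N (N (N (L 226) (L 302)) (N (L 220) (L 242))) (N (N (L 287)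 (L 49)) (N (L 71) (L 73)))) (N (N (N (L 39) (L 70)) (N (L 51) (L 9))) (N (N (L 212) (L 262)) (N (L 28) (L 214)))))) (N (N (N (N (N (L 6) (L 209)) (N (L 130) (L 198))) (N (N (L 120) (L 32)) (N (L 269) (L 215)))) (N (N (N (L 10) (L 59)) (N (L 56) (L 276))) (N (N (L 30) (L 206)) (N (L 101) (L 42))))) (N (N (N (N (L 64) (L 61)) (N (L 47) (L 217))) (N (N (L 308) (L 87)) (N (L 313) (L 108)))) (N (N (N (L 285) (L 91)) (N (L 76) (L 57))) (N (N (L 297) (L 303)) (N (L 54) (L 238))))))) (N (N (N (N (N (N (L 248) (L 271)) (N (L 232) (L 46))) (N (N (L 292) (L 117)) (N (L 163) (L 233)))) (N (N (N (L 263) (L 239)) (N (L 243) (L 235))) (N (N (L 245) (L 104)) (N (L 173) (L 260))))) (N (N (N (N (L 229) (L 161)) (N (L 123) (L 4))) (N (N (L 156) (L 7)) (N (L 159) (L 167)))) (N (N (N (L 3) (L 179)) (N (L 75) (L 295))) (N (N (L 146) (L 141)) (N (L 100) (L 127)))))) (N (N (N (N (N (L 139) (L 115)) (N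 (L 144) (L 0))) (N (N (L 228) (L 208)) (N (L 259) (L 272)))) (N (N (N (L 194) (L 199)) (N (L 264) (L 203))) (N (N (L 246) (L 247)) (N (L 191) (L 201))))) (N (N (N (N (L 244) (L 310)) (N (L 147) (L 202))) (N (N (L 240) (L 204)) (N (L 236) (L 237)))) (N (N (N (L 192) (L 137)) (N (L 13) (L 8))) (N (N (L 67) (L 135)) (N (L 84) (L 94))))))))) (N (N (N (N (N (N (N (N (L 134) (L 107)) (N (L 131) (L 230))) (N (N (L 207) (L 33)) (N (L 157) (L 200)))) (N (N (N (L 234) (L 35)) (N (L 116) (L 43))) (N (N (L 103) (L 166)) (N (L 29) (L 193))))) (N (N (N (N (L 231) (L 12)) (N (L 77) (L 31))) (N (N (L 171) (L 38)) (N (L 128) (L 80)))) (N (N (N (L 11) (L 15)) (N (L 81) (L 96))) (N (N (L 113) (L 184)) (N (L 97) (L 148)))))) (N (N (N (N (N (L 288) (L 98)) (N (L 90) (L 291))) (N (N (L 196) (L 23)) (N (L 53) (L 219)))) (N (N (N (L 296) (L 188)) (N (L 298) (L 21))) (N (N (L 58) (L 19)) (N (L 145) (L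 189))))) (N (N (N (N (L 304) (L 45)) (N (L 25) (L 110))) (N (N (L 180) (L 2)) (N (L 241) (L 109)))) (N (N (N (L 86) (L 182)) (N (L 85) (L 315))) (L 315))))) (L 315)) (L 315)))

def specTabs : List Tr := [specTab1, specTab2, specTab3, specTab4, specTab5, specTab6, specTab7, specTab8, specTab9, specTab10, specTab11, specTab12, specTab13, specTab187, specTab207, specTab250, specTab204, specTab246, specTab262, specTab186, specTab300, specTab288]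

set_option maxHeartbeats 4000000 in
def specWords : List (List ℕ) :=
  ([[], [11, 10, 14, 13, 15, 16, 3], [11, 12, 16, 15, 13, 14, 4], [11, 10, 16, 15, 11, 12], [17, 18, 10, 12, 17, 18, 1], [10, 12, 18, 17, 10, 11], [11, 12, 17, 18, 11, 12, 2], [13, 14, 10, 11, 1]] : List (List ℕ)) ++
  ([[12, 11, 15, 16, 10, 11], [10, 11, 13, 14, 3], [11, 10, 17, 18, 12, 10], [15, 16, 8, 0], [15, 16, 14, 13, 3], [11, 12, 5, 2], [13, 14, 15, 16, 10, 11], [11, 12, 13, 14, 10, 11, 5]] : List (List ℕ)) ++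
  ([[15, 16, 11, 10, 9], [10, 11, 17, 18, 11, 10], [18, 17, 12, 11, 2], [10, 11, 18, 17, 13, 14], [13, 14, 11, 12], [11, 12, 16, 15, 7], [14, 13, 16, 15, 13, 14, 0], [12, 10, 13, 14, 6]] : List (List ℕ)) ++
  ([[13, 14, 16, 15, 5], [18, 17, 10, 12, 16, 15, 0], [11, 10, 3, 2], [12, 10, 14, 13, 11, 12, 3], [15, 16, 11, 12, 4], [10, 12, 18, 17, 12, 11, 1], [11, 12, 15, 16, 17, 18], [12, 10, 15, 16, 11, 10, 7]] : List (List ℕ)) ++
  ([[11, 10, 14, 13, 10, 11], [13, 14, 1], [17, 18, 10, 12, 7], [10, 11, 16, 15, 0], [15, 16, 12, 10, 17, 18, 0], [12, 10, 4, 2], [16, 15, 14, 13, 12, 10, 1], [10, 11, 16, 15, 11, 10]] : List (List ℕ)) ++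
  ([[13, 14, 10, 11, 18, 17, 0], [11, 10, 17, 18, 12, 11], [15, 16, 18, 17, 4], [11, 10, 14, 13, 11, 12, 1], [18, 17, 14, 13, 4], [12, 10, 16, 15, 8], [13, 14, 11, 12, 18, 17, 2], [12, 11, 13, 14, 7]] : List (List ℕ)) ++
  ([[16, 15, 14, 13, 12, 10], [10, 12, 7, 2], [14, 13, 15, 16, 10, 12, 4], [17, 18, 11, 10, 16, 15], [17, 18, 13, 14, 16, 15, 0], [17, 18, 16, 15, 12, 11], [17, 18, 10, 11, 3], [10, 11, 14, 13, 12, 11]] : List (List ℕ)) ++
  ([[11, 12, 15, 16, 12, 11], [10, 12, 16, 15, 3], [14, 13, 11, 12, 18, 17, 0], [11, 12, 13, 14, 4], [10, 11, 8, 2], [18, 17, 12, 10, 16, 15, 2], [14, 13, 16, 15, 0], [15, 16, 10, 12, 13, 14, 0]] : List (List ℕ)) ++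
  ([[16, 15, 12, 11, 9], [12, 10, 18, 17, 11, 12], [12, 11, 16, 15, 17, 18, 0], [12, 10, 16, 15, 10, 11, 2], [13, 14, 11, 10, 13, 14], [13, 14, 9, 0], [18, 17, 12, 10, 8], [11, 10, 16, 15, 1]] : List (List ℕ)) ++
  ([[13, 14, 15, 16, 10, 11, 1], [12, 11, 6, 2], [15, 16, 13, 14, 0], [11, 12, 14, 13, 11, 10, 4], [16, 15, 10, 11, 7], [17, 18, 15, 16, 11, 10], [17, 18, 11, 12, 6], [11, 10, 17, 18, 14, 13]] : List (List ℕ)) ++
  ([[13, 14, 11, 12, 5], [12, 11, 15, 16], [12, 10, 18, 17, 10, 12], [10, 12, 13, 14, 5], [11, 12, 15, 16, 14, 13, 2], [11, 10, 13, 14, 16, 15, 2], [1], [13, 14, 10, 11, 16, 15]] : List (List ℕ)) ++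
  ([[18, 17, 12, 10, 18, 17], [12, 10, 16, 15, 18, 17], [18, 17, 12, 11, 17, 18, 2], [13, 14, 11, 10, 3], [15, 16, 11, 10, 13, 14, 0], [11, 10, 14, 13], [17, 18, 16, 15, 12, 10], [16, 15, 5]] : List (List ℕ)) ++
  ([[10, 11, 8], [13, 14, 16, 15, 1], [15, 16, 14, 13, 12, 11, 1], [14, 13, 2, 0], [12, 11, 16, 15, 17, 18], [12, 10, 16, 15, 10, 11], [17, 18, 12, 10, 8], [16, 15, 11, 12, 1]] : List (List ℕ)) ++
  ([[13, 14, 11, 10, 13, 14, 0], [17, 18, 12, 11, 14, 13, 0], [16, 15, 10, 12, 14, 13], [10, 11, 16, 15, 2], [11, 10, 3], [14, 13, 16, 15, 5], [15, 16, 14, 13, 11, 12, 1], [14, 13, 1]] : List (List ℕ)) ++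
  ([[11, 12, 15, 16, 17, 18, 0], [10, 12, 16, 15, 11, 10, 1], [18, 17, 10, 12, 4], [16, 15, 12, 11, 5], [11, 10, 14, 13, 11, 10], [17, 18, 12, 11, 13, 14, 0], [12, 10, 14, 13, 11, 12], [10, 11, 16, 15]] : List (List ℕ)) ++
  ([[12, 11, 14, 13, 15, 16, 0], [12, 10, 5], [16, 15, 13, 14, 12, 10], [12, 10, 15, 16, 1], [10, 11, 14, 13, 12, 11, 2], [17, 18, 16, 15, 11, 12], [14, 13, 11, 10, 18, 17], [11, 12, 17, 18, 12, 10, 1]] : List (List ℕ)) ++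
  ([[18, 17, 13, 14, 2], [15, 16, 10, 11, 17, 18, 0], [17, 18, 10, 11], [12, 11, 14, 13, 6], [12, 11, 14, 13, 15, 16], [10, 12, 6], [16, 15, 13, 14, 10, 12], [10, 12, 15, 16, 0]] : List (List ℕ)) ++
  ([[10, 11, 13, 14, 11, 12, 8], [11, 10, 17, 18, 11, 12], [17, 18, 14, 13, 15, 16], [12, 11, 17, 18, 10, 12], [18, 17, 14, 13, 4, 0], [10, 11, 15, 16, 11, 10], [17, 18, 10, 11, 6], [11, 12, 14, 13, 5]] : List (List ℕ)) ++
  ([[18, 17, 12, 10, 13, 14, 1], [11, 12, 7], [16, 15, 13, 14, 0], [12, 11, 15, 16, 6], [14, 13, 12, 11, 3], [17, 18, 12, 11, 5], [11, 10, 17, 18, 14, 13, 0], [16, 15, 14, 13, 16, 15]] : List (List ℕ)) ++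
  ([[11, 12, 13, 14, 11, 10, 4], [15, 16, 10, 11, 7], [14, 13, 10, 12, 14, 13, 1], [12, 10, 14, 13, 4], [13, 14, 15, 16, 10, 11, 2], [12, 11, 4], [16, 15, 13, 14], [11, 12, 15, 16, 5]] : List (List ℕ)) ++
  ([[13, 14, 11, 12, 2], [18, 17, 11, 12, 9], [10, 11, 18, 17, 13, 14, 0], [14, 13, 16, 15, 14, 13, 0], [11, 12, 14, 13, 10, 11, 6], [16, 15, 11, 10, 2], [13, 14, 12, 10, 13, 14], [10, 12, 14, 13, 7]] : List (List ℕ)) ++
  ([[2], [13, 14, 16, 15, 12, 11, 1], [15, 16, 14, 13, 10, 11, 1], [10, 11, 13, 14], [10, 12, 18, 17, 11, 10], [17, 18, 13, 14, 12, 10], [13, 14, 11, 10, 1], [10, 12, 17, 18, 13, 14]] : List (List ℕ)) ++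
  ([[11, 10, 18, 17, 10, 12, 1], [12, 11, 18, 17, 12, 11], [12, 11, 13, 14, 12, 11], [15, 16, 8], [2, 0], [13, 14, 16, 15, 11, 12, 1], [15, 16, 14, 13, 11, 10, 1], [10, 11, 13, 14, 2]] : List (List ℕ)) ++
  ([[12, 10, 15, 16, 18, 17], [15, 16, 10, 11, 13, 14, 0], [13, 14, 10, 11, 8], [12, 10, 18, 17, 14, 13], [10, 11, 18, 17, 12, 10], [17, 18, 11, 12, 18, 17], [18, 17, 12, 10, 17, 18], [16, 15, 5, 0]] : List (List ℕ)) ++
  ([[15, 16, 13, 14, 9], [11, 12, 2], [14, 13, 16, 15, 11, 10, 2], [18, 17, 12, 11], [15, 16, 10, 11, 2], [11, 12, 15, 16, 8], [12, 10, 13, 14], [13, 14, 12, 11]] : List (List ℕ)) ++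
  ([[10, 11, 18, 17, 11, 10], [11, 12, 13, 14, 11, 10, 1], [10, 11, 17, 18, 13, 14], [14, 13, 16, 15, 13, 14], [16, 15, 14, 13, 7], [12, 11, 9], [18, 17, 10, 12, 14, 13, 1], [18, 17, 12, 11, 3]] : List (List ℕ)) ++
  ([[16, 15, 11, 10, 4], [12, 11, 15, 16, 3], [12, 10, 13, 14, 2], [13, 14, 12, 11, 6], [11, 10, 15, 16, 18, 17], [12, 11, 13, 14, 10, 11], [17, 18, 15, 16, 13, 14], [12, 10, 18, 17, 12, 10]] : List (List ℕ)) ++
  ([[16, 15, 14, 13, 12, 10, 2], [11, 12, 13, 14, 16, 15, 0], [12, 10, 3], [18, 17, 11, 10, 16, 15], [18, 17, 16, 15, 12, 11], [12, 11, 14, 13, 1], [10, 12, 16, 15], [15, 16, 17, 18, 0]] : List (List ℕ)) ++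
  ([[10, 11, 14, 13, 11, 12], [12, 10, 14, 13, 11, 10], [11, 12, 16, 15, 12, 11], [14, 13, 11, 12, 18, 17], [13, 14, 12, 10, 17, 18, 1], [11, 12, 13, 14, 16, 15], [10, 12, 8], [10, 11, 16, 15, 10, 11]] : List (List ℕ)) ++
  ([[18, 17, 15, 16, 12, 11], [11, 12, 14, 13, 0], [10, 12, 16, 15, 2], [17, 18, 11, 10, 4], [11, 10, 14, 13, 12, 11, 1], [14, 13, 10, 11, 18, 17, 0], [18, 17, 13, 14, 4], [14, 13, 11, 12, 18, 17, 2]] : List (List ℕ)) ++
  ([[11, 12, 15, 16, 14, 13], [11, 10, 14, 13, 15, 16, 0], [6, 0], [18, 17, 12, 10, 18, 17, 0], [12, 10, 17, 18, 10, 11], [15, 16, 9, 0], [11, 10, 14, 13, 6], [18, 17, 12, 11, 17, 18]] : List (List ℕ)) ++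
  ([[15, 16, 11, 10, 13, 14], [14, 13, 10, 11, 4], [10, 11, 15, 16, 11, 12], [17, 18, 16, 15, 10, 12], [11, 12, 15, 16, 14, 13, 0], [11, 10, 14, 13, 15, 16], [6], [18, 17, 10, 12, 17, 18, 2]] : List (List ℕ)) ++
  ([[10, 12, 17, 18, 11, 10, 1], [15, 16, 0], [10, 11, 14, 13, 5], [11, 12, 17, 18, 11, 12], [12, 11, 15, 16, 11, 10], [13, 14, 11, 10, 5], [11, 10, 15, 16, 12, 11, 1], [11, 10, 17, 18, 10, 12]] : List (List ℕ)) ++
  ([[10, 12, 16, 15, 13, 14], [10, 11, 4], [14, 13, 16, 15, 8], [11, 12, 15, 16, 17, 18, 2], [10, 12, 13, 14, 11, 12, 2], [13, 14, 6, 0], [11, 10, 15, 16, 5], [10, 12, 16, 15, 11, 10, 2]] : List (List ℕ)) ++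
  ([[18, 17, 11, 12, 13, 14, 1], [16, 15, 12, 11, 15, 16, 5], [16, 15, 11, 12, 4], [17, 18, 12, 10, 4], [18, 17, 12, 10, 16, 15], [11, 10, 7], [13, 14, 15, 16, 9], [11, 12, 16, 15, 18, 17, 4]] : List (List ℕ)) ++
  ([[15, 16, 10, 12, 13, 14], [14, 13, 4], [10, 11, 15, 16, 6], [10, 12, 15, 16, 10, 11, 7], [18, 17, 11, 12, 14, 13, 1], [16, 15, 11, 12, 16, 15, 0], [15, 16, 12, 11, 2], [18, 17, 10, 12, 3]] : List (List ℕ)) ++
  ([[10, 12, 7], [15, 16, 14, 13, 12, 10], [13, 14, 16, 15, 10, 12, 1], [14, 13, 12, 11, 17, 18, 2], [17, 18, 14, 13, 0], [17, 18, 13, 14, 16, 15], [18, 17, 10, 11, 16, 15, 0], [17, 18, 11, 10, 8]] : List (List ℕ)) ++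
  ([[11, 12, 14, 13, 4], [11, 10, 18, 17, 11, 12, 2], [10, 11, 14, 13, 12, 11, 3], [12, 10, 15, 16, 6], [12, 10, 4], [15, 16, 14, 13, 10, 12], [13, 14, 16, 15, 12, 10, 1], [14, 13, 12, 11, 17, 18]] : List (List ℕ)) ++
  ([[17, 18, 14, 13, 5, 0], [13, 14, 10, 11, 18, 17], [15, 16, 17, 18, 15, 16], [18, 17, 10, 11, 4], [12, 11, 14, 13, 7], [18, 17, 16, 15, 11, 12, 4], [10, 11, 13, 14, 11, 12, 2], [10, 12, 15, 16, 5]] : List (List ℕ)) ++
  ([[14, 13, 16, 15, 9], [16, 15, 13, 14, 11, 12], [11, 10, 9], [11, 10, 13, 14, 10, 11], [18, 17, 12, 10, 9], [15, 16, 12, 11, 7], [10, 12, 18, 17, 11, 12, 1], [10, 12, 13, 14, 11, 12, 1]] : List (List ℕ)) ++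
  ([[11, 10, 15, 16, 3], [12, 10, 16, 15, 11, 10, 4], [11, 12, 15, 16, 18, 17], [14, 13, 3], [13, 14, 15, 16, 3], [16, 15, 13, 14, 12, 11], [10, 11, 2], [10, 11, 13, 14, 11, 10, 1]] : List (List ℕ)) ++
  ([[18, 17, 10, 12, 1], [16, 15, 11, 12, 2], [12, 10, 18, 17, 12, 11], [12, 10, 13, 14, 12, 11], [10, 11, 15, 16, 8], [12, 10, 15, 16, 10, 11, 2], [12, 11, 18, 17, 11, 10], [13, 14, 9]] : List (List ℕ)) ++
  ([[11, 10, 13, 14, 16, 15, 0], [16, 15, 13, 14, 10, 11], [3], [11, 10, 16, 15, 12, 11], [18, 17, 15, 16, 10, 12, 1], [14, 13, 11, 10], [17, 18, 12, 11, 18, 17, 2], [11, 12, 14, 13, 11, 12]] : List (List ℕ)) ++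
  ([[16, 15, 9], [12, 11, 16, 15, 11, 10, 1], [10, 12, 15, 16, 17, 18, 0], [10, 11, 14, 13, 1], [11, 10, 13, 14, 16, 15], [16, 15, 13, 14, 11, 10], [3, 0], [14, 13, 10, 11, 16, 15]] : List (List ℕ)) ++
  ([[18, 17, 16, 15, 10, 12, 1], [14, 13, 11, 10, 3], [12, 11, 17, 18, 12, 11, 2], [12, 11, 14, 13, 12, 11, 1], [15, 16, 7], [11, 12, 16, 15, 10, 11], [12, 10, 16, 15, 17, 18], [11, 10, 14, 13, 0]] : List (List ℕ)) ++
  ([[11, 12, 5], [15, 16, 14, 13], [12, 10, 14, 13, 15, 16, 0], [12, 11, 14, 13, 10, 11, 4], [10, 12, 15, 16, 11, 12], [14, 13, 15, 16, 13, 14, 0], [15, 16, 10, 11, 1], [10, 11, 17, 18, 10, 11]] : List (List ℕ)) ++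
  ([[12, 10, 14, 13, 6], [17, 18, 11, 12, 3], [13, 14, 11, 12, 3], [11, 12, 15, 16, 1], [12, 11, 6], [15, 16, 14, 13, 0], [12, 10, 14, 13, 15, 16], [12, 11, 13, 14, 11, 10, 5]] : List (List ℕ)) ++
  ([[12, 10, 15, 16, 12, 11, 1], [12, 10, 17, 18, 10, 12], [15, 16, 11, 10, 8], [17, 18, 15, 16, 10, 11], [10, 12, 14, 13, 5], [17, 18, 11, 12], [14, 13, 12, 11, 9], [12, 11, 15, 16, 0]] : List (List ℕ)) ++
  ([[11, 12, 17, 18, 2], [16, 15, 10, 12, 15, 16], [11, 12, 14, 13, 10, 12, 1], [17, 18, 7, 0], [12, 11, 16, 15, 12, 10, 1], [11, 10, 14, 13, 10, 12, 2], [13, 14, 10, 12], [10, 12, 13, 14, 12, 10, 2]] : List (List ℕ)) ++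
  ([[11, 10, 15, 16, 10, 12, 3], [10, 12, 18, 17], [15, 16, 10, 12, 6], [17, 18, 15, 16, 5], [12, 11, 17, 18, 9], [12, 10, 15, 16, 12, 10], [12, 11, 14, 13, 12, 10], [17, 18, 0]] : List (List ℕ)) ++
  ([[11, 12, 16, 15, 10, 12], [15, 16, 17, 18, 13, 14, 0], [13, 14, 10, 12, 4], [10, 12, 14, 13, 10, 12, 3], [11, 10, 16, 15, 12, 10, 5], [10, 12, 18, 17, 4], [16, 15, 12, 10, 3], [10, 11, 17, 18, 5]] : List (List ℕ)) ++
  ([[18, 17, 13, 14, 11, 10], [10, 12, 17, 18, 0], [12, 10, 13, 14, 12, 10, 1], [13, 14, 11, 12, 13, 14, 2], [17, 18, 16, 15, 2], [13, 14, 12, 10, 9], [13, 14, 12, 10, 15, 16, 3], [10, 11, 14, 13, 12, 10]] : List (List ℕ)) ++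
  ([[11, 12, 17, 18, 5], [15, 16, 12, 10], [17, 18, 8], [11, 10, 16, 15, 10, 12], [12, 11, 15, 16, 10, 12, 3], [12, 10, 17, 18, 1], [10, 12, 13, 14, 10, 12], [14, 13, 11, 12, 14, 13, 0]] : List (List ℕ)) ++
  ([[11, 10, 17, 18, 2], [14, 13, 10, 12, 8], [12, 11, 14, 13, 10, 12, 2], [11, 10, 14, 13, 10, 12, 1], [12, 11, 17, 18, 6], [15, 16, 12, 10, 4], [18, 17, 7], [10, 11, 16, 15, 12, 10, 1]] : List (List ℕ)) ++
  ([[13, 14, 12, 10, 8], [18, 17, 9, 0], [10, 11, 16, 15, 12, 10, 3], [12, 10, 14, 13, 12, 10], [12, 11, 18, 17, 4], [16, 15, 12, 10, 5], [11, 12, 15, 16, 12, 10], [12, 10, 17, 18, 9]] : List (List ℕ)) ++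
  ([[10, 12, 16, 15, 10, 12], [10, 11, 17, 18, 0], [13, 14, 12, 10, 16, 15, 2], [18, 17, 11, 10, 13, 14], [14, 13, 10, 12, 2], [17, 18, 6], [10, 11, 15, 16, 10, 12, 6], [10, 12, 14, 13, 10, 12, 1]] : List (List ℕ)) ++
  ([[12, 11, 18, 17], [15, 16, 10, 12, 3], [12, 11, 15, 16, 10, 12, 1], [10, 12, 17, 18, 2], [14, 13, 11, 12, 13, 14], [17, 18, 15, 16, 0], [12, 11, 13, 14, 12, 10, 2], [10, 11, 13, 14, 10, 12]] : List (List ℕ)) ++
  ([[17, 18, 10, 11, 13, 14], [16, 15, 10, 12, 4], [11, 10, 18, 17], [12, 11, 13, 14, 10, 12], [11, 10, 15, 16, 10, 12, 1], [12, 10, 17, 18, 6], [11, 12, 17, 18, 1], [14, 13, 12, 11, 14, 13]] : List (List ℕ)) ++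
  ([[17, 18, 2], [18, 17, 14, 13, 10, 11], [14, 13, 10, 12, 1], [12, 10, 14, 13, 10, 12, 2], [11, 10, 14, 13, 10, 12, 3], [16, 15, 10, 12], [17, 18, 16, 15, 3], [13, 14, 12, 10, 16, 15, 0]] : List (List ℕ)) ++
  ([[10, 11, 15, 16, 12, 10], [10, 12, 17, 18, 5], [12, 11, 17, 18, 0], [13, 14, 11, 12, 13, 14, 1], [18, 17, 6, 0], [12, 11, 16, 15, 12, 10, 3], [14, 13, 12, 10, 7], [12, 10, 13, 14, 12, 10, 8]] : List (List ℕ)) ++
  ([[11, 12, 16, 15, 13, 14], [14, 13, 15, 16, 12, 11], [4], [12, 10, 18, 17, 13, 14, 0], [12, 10, 15, 16, 17, 18, 2], [17, 18, 12, 10, 17, 18, 0], [11, 10, 17, 18, 12, 10, 4], [10, 11, 14, 13, 7]] : List (List ℕ)) ++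
  ([[16, 15, 8, 0], [13, 14, 11, 10, 7], [16, 15, 11, 10, 14, 13, 1], [18, 17, 11, 12, 18, 17, 2], [11, 12, 16, 15, 13, 14, 0], [14, 13, 15, 16, 11, 12], [4, 0], [13, 14, 10, 11, 15, 16]] : List (List ℕ)) ++
  ([[12, 10, 16, 15, 18, 17, 4], [11, 12, 14, 13, 12, 11, 3], [11, 10, 18, 17, 10, 12, 3], [11, 10, 14, 13, 4], [15, 16, 6], [14, 13, 10, 11, 5], [17, 18, 14, 13, 10, 12], [12, 11, 18, 17, 11, 12, 2]] : List (List ℕ)) ++
  ([[12, 10, 15, 16, 14, 13], [10, 11, 5], [13, 14, 15, 16, 6], [15, 16, 11, 12], [16, 15, 12, 10, 14, 13, 0], [12, 11, 17, 18, 10, 11], [17, 18, 12, 10, 1], [10, 11, 15, 16, 1]] : List (List ℕ)) ++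
  ([[13, 14, 4, 0], [16, 15, 11, 12, 16, 15, 2], [17, 18, 11, 12, 14, 13], [12, 10, 15, 16, 10, 11, 1], [12, 10, 15, 16, 14, 13, 0], [11, 10, 6], [14, 13, 15, 16, 1], [15, 16, 11, 12, 6]] : List (List ℕ)) ++
  ([[15, 16, 12, 10, 14, 13, 5], [11, 12, 17, 18, 11, 10, 1], [17, 18, 10, 12, 9], [11, 10, 15, 16, 0], [14, 13, 5], [15, 16, 11, 12, 15, 16, 0], [12, 10, 17, 18, 11, 12], [10, 12, 15, 16, 11, 10]] : List (List ℕ)) ++
  ([[12, 11, 8], [17, 18, 10, 12, 13, 14], [15, 16, 13, 14, 7], [14, 13, 12, 10, 14, 13], [14, 13, 12, 11, 1], [18, 17, 16, 15, 14, 13], [10, 12, 14, 13, 0], [12, 11, 16, 15, 2]] : List (List ℕ)) ++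
  ([[13, 14, 16, 15, 13, 14, 1], [16, 15, 10, 11, 8], [17, 18, 12, 11, 2], [12, 11, 14, 13, 10, 11, 1], [11, 12, 3], [17, 18, 10, 12, 13, 14, 0], [16, 15, 14, 13, 2], [15, 16, 10, 11, 15, 16, 0]] : List (List ℕ)) ++
  ([[14, 13, 11, 12, 5], [10, 12, 16, 15, 12, 11], [12, 10, 14, 13, 1], [12, 11, 16, 15], [14, 13, 15, 16, 14, 13], [16, 15, 11, 10, 1], [18, 17, 11, 12, 5], [11, 12, 14, 13, 11, 10]] : List (List ℕ)) ++
  ([[14, 13, 15, 16, 12, 10], [12, 10, 9], [14, 13, 10, 12, 17, 18, 0], [11, 10, 13, 14, 11, 12, 1], [15, 16, 18, 17], [18, 17, 14, 13], [12, 10, 15, 16, 3], [11, 12, 13, 14, 2]] : List (List ℕ)) ++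
  ([[11, 12, 18, 17, 12, 10], [11, 10, 18, 17, 11, 12, 1], [16, 15, 10, 11, 17, 18], [12, 10, 13, 14, 10, 11], [14, 13, 15, 16, 10, 12], [10, 12, 2], [14, 13, 10, 12, 17, 18], [10, 11, 13, 14, 12, 11]] : List (List ℕ)) ++
  ([[18, 17, 11, 10, 5], [17, 18, 13, 14, 5], [10, 12, 15, 16, 8], [11, 12, 13, 14], [13, 14, 12, 11, 18, 17], [10, 11, 18, 17, 12, 11], [17, 18, 11, 10, 15, 16], [18, 17, 14, 13, 15, 16, 0]] : List (List ℕ)) ++
  ([[10, 11, 13, 14, 10, 12, 1], [18, 17, 15, 16, 0], [15, 16, 12, 10, 1], [13, 14, 10, 12, 9], [12, 11, 18, 17, 1], [12, 11, 16, 15, 12, 10], [10, 11, 15, 16, 12, 10, 6], [13, 14, 12, 11, 13, 14, 2]] : List (List ℕ)) ++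
  ([[18, 17, 6], [11, 12, 14, 13, 10, 12], [12, 10, 17, 18, 7], [10, 12, 14, 13, 12, 10, 2], [11, 10, 13, 14, 12, 10], [18, 17, 16, 15, 0], [15, 16, 10, 12, 4], [14, 13, 12, 10, 8]] : List (List ℕ)) ++
  ([[11, 12, 18, 17, 0], [14, 13, 16, 15, 17, 18], [10, 11, 16, 15, 10, 12, 3], [14, 13, 12, 11, 14, 13, 0], [17, 18, 2, 0], [12, 11, 14, 13, 12, 10, 1], [12, 10, 17, 18], [10, 12, 13, 14, 10, 12, 8]] : List (List ℕ)) ++
  ([[18, 17, 4, 0], [14, 13, 10, 12], [11, 10, 15, 16, 12, 10, 3], [10, 12, 18, 17, 9], [11, 10, 14, 13, 12, 10, 2], [14, 13, 11, 12, 13, 14, 3], [12, 11, 15, 16, 12, 10, 1], [16, 15, 12, 10, 4]] : List (List ℕ)) ++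
  ([[10, 12, 13, 14, 10, 12, 1], [17, 18, 15, 16], [13, 14, 10, 12, 15, 16, 1], [12, 11, 18, 17, 6], [18, 17, 0], [14, 13, 10, 12, 7], [11, 10, 16, 15, 10, 12, 5], [12, 10, 18, 17, 2]] : List (List ℕ)) ++
  ([[15, 16, 18, 17, 14, 13], [13, 14, 12, 11, 13, 14, 0], [11, 12, 15, 16, 10, 12], [16, 15, 10, 12, 1], [12, 10, 13, 14, 12, 10], [10, 11, 17, 18], [13, 14, 10, 12, 16, 15, 1], [11, 12, 18, 17, 5]] : List (List ℕ)) ++
  ([[12, 11, 16, 15, 10, 12, 3], [10, 12, 13, 14, 10, 12, 2], [10, 12, 18, 17, 5], [16, 15, 10, 12, 5], [11, 12, 13, 14, 12, 10], [17, 18, 4], [10, 11, 18, 17, 0], [11, 10, 14, 13, 12, 10, 1]] : List (List ℕ)) ++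
  ([[11, 12, 18, 17, 2], [13, 14, 10, 12, 8], [10, 12, 15, 16, 10, 12], [10, 11, 16, 15, 10, 12, 1], [17, 18, 13, 14, 11, 10], [10, 12, 14, 13, 12, 10, 3], [12, 10, 18, 17, 6], [15, 16, 12, 10, 3]] : List (List ℕ)) ++
  ([[13, 14, 12, 10, 15, 16], [18, 17, 8], [11, 10, 18, 17, 1], [10, 11, 14, 13, 10, 12], [12, 11, 18, 17, 9], [14, 13, 12, 10, 2], [14, 13, 12, 11, 13, 14], [11, 10, 16, 15, 12, 10]] : List (List ℕ)) ++
  ([[16, 15, 12, 10, 15, 16], [11, 12, 17, 18], [14, 13, 12, 10, 15, 16, 0], [11, 10, 15, 16, 10, 12], [11, 10, 18, 17, 5], [12, 10, 14, 13, 12, 10, 1], [13, 14, 12, 10], [18, 17, 2]] : List (List ℕ)) ++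
  ([[18, 17, 10, 11, 13, 14], [10, 12, 18, 17, 0], [15, 16, 12, 10, 5], [17, 18, 14, 13, 10, 11], [12, 10, 16, 15, 12, 10], [11, 12, 17, 18, 7], [14, 13, 12, 10, 16, 15, 0], [10, 11, 15, 16, 12, 10, 1]] : List (List ℕ)) ++
  ([[10, 11, 18, 17, 6], [10, 12, 14, 13, 10, 12], [13, 14, 12, 10, 7], [17, 18, 5, 0], [11, 10, 14, 13, 12, 10, 3], [12, 10, 18, 17, 1], [16, 15, 10, 12, 8], [12, 11, 15, 16, 12, 10, 3]] : List (List ℕ)) ++
  ([[11, 10, 1], [14, 13, 15, 16, 8], [18, 17, 12, 10, 15, 16, 0], [14, 13, 2], [16, 15, 12, 10, 14, 13], [16, 15, 12, 11, 1], [17, 18, 10, 12, 1], [12, 11, 16, 15, 18, 17]] : List (List ℕ)) ++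
  ([[17, 18, 12, 11, 14, 13], [11, 10, 16, 15, 5], [12, 10, 15, 16, 11, 10, 1], [10, 11, 13, 14, 11, 10], [15, 16, 13, 14, 10, 12], [15, 16, 10, 12, 18, 17], [10, 12, 6, 2], [10, 12, 15, 16]] : List (List ℕ)) ++
  ([[17, 18, 14, 13, 15, 16, 0], [18, 17, 11, 10, 15, 16], [12, 11, 18, 17, 10, 12], [18, 17, 16, 15, 12, 11, 4], [17, 18, 11, 10, 5], [11, 12, 13, 14, 5], [18, 17, 13, 14, 5], [10, 11, 13, 14, 12, 11, 1]] : List (List ℕ)) ++
  ([[10, 11, 14, 13, 16, 15], [15, 16, 14, 13, 11, 10, 5], [8, 2], [10, 11, 13, 14, 0], [10, 12, 17, 18, 13, 14, 0], [18, 17, 10, 12, 18, 17, 1], [10, 11, 17, 18, 10, 12, 4], [12, 11, 18, 17, 11, 12]] : List (List ℕ)) ++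
  ([[10, 12, 16, 15, 17, 18, 0], [16, 15, 2, 0], [14, 13, 11, 10, 1], [17, 18, 14, 13, 12, 10], [11, 12, 7, 2], [17, 18, 10, 12, 14, 13], [16, 15, 14, 13, 0], [11, 12, 16, 15, 3]] : List (List ℕ)) ++
  ([[16, 15, 11, 10, 8], [12, 11, 14, 13, 11, 10, 6], [13, 14, 16, 15, 13, 14], [18, 17, 16, 15, 11, 10, 2], [17, 18, 11, 12, 1], [12, 10, 13, 14, 4], [14, 13, 12, 11], [12, 10, 15, 16, 12, 11]] : List (List ℕ)) ++
  ([[16, 15, 13, 14, 3], [17, 18, 10, 12, 14, 13, 1], [12, 11, 4, 2], [12, 11, 16, 15, 8], [16, 15, 11, 10], [12, 11, 13, 14, 10, 11, 4], [14, 13, 15, 16, 14, 13, 1], [13, 14, 12, 10, 13, 14, 0]] : List (List ℕ)) ++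
  ([[17, 18, 12, 11, 3], [10, 12, 13, 14, 7], [14, 13, 12, 11, 5], [18, 17, 15, 16, 13, 14], [5, 4], [11, 12, 16, 15, 13, 14, 2], [14, 13, 16, 15, 12, 11], [11, 10, 13, 14, 1]] : List (List ℕ)) ++
  ([[14, 13, 11, 10, 16, 15], [17, 18, 12, 10, 17, 18], [10, 11, 18, 17, 12, 10, 3], [18, 17, 11, 12, 18, 17], [12, 10, 15, 16, 17, 18], [16, 15, 0], [14, 13, 10, 11, 3], [18, 17, 13, 14, 12, 10, 3]] : List (List ℕ)) ++
  ([[12, 10, 5, 2], [13, 14, 15, 16, 12, 10], [13, 14, 10, 12, 17, 18, 0], [12, 10, 16, 15, 7], [14, 13, 11, 10, 18, 17, 0], [16, 15, 17, 18, 16, 15, 0], [11, 12, 18, 17, 12, 10, 1], [11, 10, 18, 17, 12, 11, 2]] : List (List ℕ)) ++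
  ([[17, 18, 11, 10], [12, 11, 13, 14, 6], [18, 17, 13, 14], [11, 10, 13, 14, 11, 12], [12, 10, 16, 15, 13, 14, 4], [13, 14, 16, 15, 9], [11, 10], [13, 14, 3]] : List (List ℕ)) ++
  ([[12, 10, 14, 13, 11, 12, 2], [16, 15, 11, 12, 6], [17, 18, 12, 10, 2], [11, 12, 18, 17, 10, 11], [17, 18, 12, 11, 13, 14], [10, 11, 16, 15, 6], [10, 12, 15, 16, 10, 11], [14, 13, 10, 11, 14, 13]] : List (List ℕ)) ++
  ([[14, 13, 16, 15, 10, 12], [10, 12, 3, 2], [13, 14, 12, 10, 18, 17, 1], [14, 13, 12, 11, 17, 18, 0], [15, 16, 17, 18, 15, 16, 0], [10, 11, 18, 17, 12, 11, 1], [11, 10, 14, 13, 11, 12, 3], [11, 12, 13, 14, 1]] : List (List ℕ)) ++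
  ([[10, 12, 14, 13, 10, 11], [17, 18, 10, 11, 4], [12, 10, 16, 15, 0], [18, 17, 14, 13, 5, 0], [15, 16, 13, 14, 10, 11], [13, 14, 15, 16, 12, 11], [4, 3], [12, 10, 17, 18, 11, 10]] : List (List ℕ)) ++
  ([[15, 16, 9], [12, 10, 18, 17, 13, 14], [11, 12, 13, 14, 11, 12], [11, 10, 13, 14, 6], [14, 13, 11, 10, 7], [10, 11, 18, 17, 12, 10, 1], [15, 16, 11, 10, 13, 14, 2], [11, 12, 18, 17, 12, 11, 2]] : List (List ℕ)) ++
  ([[11, 12], [15, 16, 14, 13, 9], [17, 18, 12, 10, 13, 14, 0], [12, 11, 16, 15, 6], [10, 12, 16, 15, 11, 12], [10, 11, 18, 17, 10, 11], [12, 10, 13, 14, 3], [11, 12, 13, 14, 10, 11, 1]] : List (List ℕ)) ++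
  ([[13, 14, 12, 11, 3], [18, 17, 12, 11, 6], [15, 16, 10, 11], [10, 12, 17, 18, 12, 10], [17, 18, 12, 10, 16, 15], [11, 10, 4, 2], [14, 13, 15, 16, 2], [10, 12, 17, 18, 12, 11]] : List (List ℕ)) ++
  ([[12, 10, 16, 15, 11, 10], [17, 18, 10, 12, 3], [13, 14, 7], [16, 15, 12, 11, 16, 15, 2], [15, 16, 10, 12, 14, 13], [11, 10, 16, 15, 8], [15, 16, 11, 12, 1], [12, 11, 16, 15, 17, 18, 2]] : List (List ℕ)) ++
  ([[13, 14, 16, 15, 8], [10, 11, 7, 2], [16, 15, 14, 13, 12, 11], [17, 18, 11, 12, 13, 14, 0], [10, 12, 16, 15, 10, 11, 1], [18, 17, 12, 10, 7], [14, 13, 6, 0], [15, 16, 12, 11, 15, 16, 0]] : List (List ℕ)) ++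
  ([[12, 10, 14, 13, 12, 11], [10, 11, 16, 15, 3], [15, 16, 12, 11, 6], [11, 12, 17, 18, 10, 11, 3], [17, 18, 10, 12, 13, 14, 2], [16, 15, 13, 14, 7], [11, 12, 1], [11, 12, 16, 15, 5]] : List (List ℕ)) ++
  ([[18, 17, 16, 15, 14, 13, 0], [11, 10, 16, 15, 18, 17], [10, 12, 14, 13], [12, 11, 13, 14, 11, 10], [14, 13, 11, 12, 9], [17, 18, 11, 12, 9], [15, 16, 10, 11, 8], [12, 10, 17, 18, 10, 12, 1]] : List (List ℕ)) ++
  ([[6, 2], [13, 14, 15, 16, 12, 11, 1], [12, 11, 15, 16, 13, 14], [10, 12, 17, 18, 10, 11, 1], [15, 16], [10, 12, 17, 18, 14, 13], [12, 11, 13, 14, 12, 11, 1], [10, 11, 13, 14, 5]] : List (List ℕ)) ++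
  ([[13, 14, 10, 11, 6], [11, 10, 18, 17, 10, 12], [18, 17, 14, 13, 10, 12], [11, 12, 17, 18, 11, 12, 6], [13, 14, 12, 10, 18, 17], [12, 10, 8, 2], [12, 11, 14, 13, 16, 15], [13, 14, 12, 11, 17, 18, 2]] : List (List ℕ)) ++
  ([[18, 17, 10, 11, 16, 15], [11, 10, 18, 17, 11, 12], [11, 10, 13, 14, 12, 11, 2], [12, 11, 13, 14, 0], [17, 18, 14, 13, 16, 15], [16, 15, 17, 18, 0], [10, 12, 16, 15, 1], [17, 18, 13, 14, 0]] : List (List ℕ)) ++
  ([[14, 13, 16, 15, 10, 11], [12, 11, 8, 2], [15, 16, 14, 13, 7], [14, 13, 12, 10, 14, 13, 0], [14, 13, 11, 12, 8], [16, 15, 14, 13, 16, 15, 0], [11, 10, 17, 18, 13, 14, 0], [11, 12, 16, 15, 1]] : List (List ℕ)) ++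
  ([[15, 16, 11, 10, 4], [10, 12, 13, 14, 0], [12, 11, 14, 13, 11, 10, 1], [18, 17, 11, 12, 3], [10, 12, 15, 16, 13, 14], [11, 10, 6, 2], [13, 14, 15, 16, 1], [18, 17, 10, 12, 2]] : List (List ℕ)) ++
  ([[10, 12, 13, 14, 12, 11, 1], [11, 12, 17, 18, 10, 11, 1], [10, 12, 15, 16, 11, 10, 2], [11, 10, 15, 16], [16, 15, 12, 11, 4], [18, 17, 11, 12, 13, 14], [15, 16, 11, 12, 15, 16], [13, 14, 5]] : List (List ℕ)) ++
  ([[12, 10, 1], [10, 11, 15, 16, 14, 13, 2], [11, 12, 13, 14, 16, 15, 2], [18, 17, 15, 16, 11, 12], [11, 12, 14, 13], [10, 12, 13, 14, 11, 10], [15, 16, 10, 11, 18, 17], [18, 17, 13, 14, 4, 0]] : List (List ℕ)) ++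
  ([[12, 10, 16, 15, 5], [12, 11, 17, 18, 10, 12, 1], [10, 11, 13, 14, 12, 11, 8], [18, 17, 10, 11, 5], [16, 15, 14, 13, 11, 10], [14, 13, 15, 16, 12, 11, 5], [7, 2], [13, 14, 10, 11, 7]] : List (List ℕ)) ++
  ([[10, 11, 13, 14, 4], [17, 18, 12, 11, 17, 18], [16, 15, 3], [10, 11, 15, 16, 12, 11], [11, 12, 16, 15, 10, 11, 1], [12, 10, 17, 18, 10, 11, 3], [12, 11, 14, 13, 12, 11], [18, 17, 16, 15, 10, 12]] : List (List ℕ)) ++
  ([[6, 3], [11, 10, 14, 13, 15, 16, 2], [16, 15, 14, 13, 11, 10, 1], [14, 13, 11, 10, 5], [11, 10, 13, 14, 7], [11, 12, 17, 18, 12, 11], [15, 16, 5, 0], [11, 10, 15, 16, 11, 12, 1]] : List (List ℕ)) ++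
  ([[12, 11, 16, 15, 11, 10], [10, 12, 16, 15, 17, 18, 2], [18, 17, 10, 12, 17, 18], [18, 17, 15, 16, 10, 12], [16, 15, 10, 12, 17, 18, 0], [14, 13, 10, 12, 18, 17, 0], [12, 10], [18, 17, 16, 15, 11, 12]] : List (List ℕ)) ++
  ([[12, 11, 13, 14, 3], [12, 10, 13, 14, 10, 11, 1], [11, 10, 15, 16, 10, 11], [17, 18, 13, 14, 2], [10, 12, 16, 15, 6], [11, 12, 17, 18, 12, 10], [10, 11, 14, 13, 11, 12, 2], [18, 17, 10, 11]] : List (List ℕ)) ++
  ([[13, 14, 15, 16], [10, 11, 5, 2], [15, 16, 13, 14, 12, 11], [18, 17, 12, 10, 1], [12, 10, 13, 14, 11, 12], [12, 11, 17, 18, 11, 10], [10, 12, 16, 15, 10, 11, 4], [10, 11, 16, 15, 7]] : List (List ℕ)) ++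
  ([[15, 16, 11, 12, 2], [18, 17, 11, 12, 14, 13], [16, 15, 12, 11, 16, 15, 1], [14, 13, 7, 0], [16, 15, 13, 14, 2], [11, 12, 3, 2], [18, 17, 12, 10, 14, 13], [15, 16, 10, 11, 15, 16]] : List (List ℕ)) ++
  ([[13, 14, 12, 11, 9], [14, 13, 16, 15, 14, 13], [17, 18, 16, 15, 13, 14, 0], [12, 11, 16, 15, 0], [16, 15, 10, 11, 9], [12, 10, 13, 14, 1], [11, 12, 14, 13, 10, 11], [18, 17, 12, 11, 1]] : List (List ℕ)) ++
  ([[14, 13, 16, 15, 11, 10], [11, 12, 8, 2], [16, 15, 13, 14, 9], [18, 17, 11, 12], [11, 12, 14, 13, 11, 10, 1], [12, 10, 13, 14, 0], [16, 15, 10, 11, 2], [12, 11, 16, 15, 1]] : List (List ℕ)) ++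
  ([[10, 11, 17, 18, 13, 14, 0], [15, 16, 13, 14, 15, 16], [13, 14, 12, 11, 2], [18, 17, 15, 16, 10, 11], [12, 10, 15, 16, 13, 14], [10, 11, 6, 2], [14, 13, 15, 16, 6], [14, 13, 4, 0]] : List (List ℕ)) ++
  ([[16, 15, 12, 11, 16, 15, 0], [18, 17, 11, 12, 13, 14, 3], [15, 16, 11, 12, 9], [10, 11, 15, 16], [12, 10, 15, 16, 11, 10, 2], [12, 11, 17, 18, 10, 11, 1], [12, 10, 13, 14, 12, 11, 1], [18, 17, 10, 12]] : List (List ℕ)) ++
  ([[10, 12, 1], [14, 13, 10, 12, 18, 17, 1], [16, 15, 10, 12, 17, 18, 1], [16, 15, 18, 17], [11, 10, 13, 14, 12, 11, 8], [11, 12, 17, 18, 10, 12, 1], [10, 12, 16, 15, 5], [18, 17, 14, 13, 2]] : List (List ℕ)) ++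
  ([[15, 16, 10, 11, 17, 18], [12, 10, 13, 14, 11, 10], [12, 11, 14, 13], [18, 17, 16, 15, 12, 11, 1], [16, 15, 14, 13, 10, 11], [13, 14, 16, 15, 12, 11, 4], [5, 3], [18, 17, 15, 16, 12, 10, 1]] : List (List ℕ)) ++
  ([[11, 12, 14, 13, 12, 11], [10, 12, 17, 18, 10, 11, 3], [12, 11, 16, 15, 10, 11, 1], [11, 10, 15, 16, 12, 11], [15, 16, 6, 0], [17, 18, 12, 11, 18, 17], [11, 10, 13, 14, 4], [14, 13, 11, 10, 6]] : List (List ℕ)) ++
  ([[4, 2], [10, 11, 14, 13, 15, 16, 2], [16, 15, 14, 13, 10, 11, 1], [18, 17, 16, 15, 12, 10, 1], [12, 11, 14, 13, 11, 12, 1], [12, 10, 16, 15, 17, 18, 2], [11, 12, 16, 15, 11, 10], [10, 11, 15, 16, 11, 12, 1]] : List (List ℕ)) ++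
  ([[16, 15, 8], [12, 11, 17, 18, 12, 11], [10, 11, 13, 14, 7], [13, 14, 10, 11, 4], [16, 15, 10, 12, 17, 18], [14, 13, 10, 12, 18, 17], [10, 12], [16, 15, 18, 17, 5]] : List (List ℕ)) ++
  ([[11, 10, 14, 13, 11, 12, 2], [12, 11, 17, 18, 12, 10], [12, 10, 16, 15, 6], [12, 11, 16, 15, 11, 12], [10, 11, 15, 16, 10, 11], [18, 17, 14, 13, 15, 16], [11, 12, 13, 14, 3], [18, 17, 15, 16, 12, 11, 1]] : List (List ℕ)) ++
  ([[13, 14, 15, 16, 0], [11, 10, 5, 2], [15, 16, 13, 14, 11, 12], [13, 14, 6], [11, 10, 13, 14, 10, 11, 5], [10, 12, 18, 17, 12, 11, 2], [16, 15, 12, 11, 7], [11, 10, 16, 15, 7]] : List (List ℕ)) ++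
  ([[12, 10, 16, 15, 10, 11, 4], [11, 12, 17, 18, 11, 10], [10, 12, 13, 14, 11, 12], [18, 17, 10, 12, 9], [15, 16, 14, 13, 4], [12, 11, 3, 2], [18, 17, 12, 10, 14, 13, 0], [18, 17, 11, 12, 8]] : List (List ℕ)) ++
  ([[12, 11, 14, 13, 10, 11], [10, 12, 13, 14, 1], [15, 16, 11, 10, 7], [11, 12, 16, 15, 0], [17, 18, 15, 16, 13, 14, 0], [13, 14, 15, 16, 13, 14, 0], [14, 13, 11, 12, 3], [18, 17, 16, 15, 10, 11]] : List (List ℕ)) ++
  ([[14, 13, 16, 15, 12, 10], [12, 10, 3, 2], [11, 10, 16, 15, 13, 14, 2], [18, 17, 14, 13, 0], [10, 12, 16, 15, 0], [15, 16, 17, 18], [12, 10, 14, 13, 10, 11], [12, 11, 13, 14, 1]] : List (List ℕ)) ++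
  ([[10, 11, 14, 13, 11, 12, 3], [11, 10, 18, 17, 12, 11, 1], [16, 15, 18, 17, 16, 15], [11, 12, 18, 17, 12, 10, 3], [15, 16, 13, 14, 11, 10], [13, 14, 15, 16, 11, 12], [5, 2], [12, 11, 18, 17, 12, 11, 2]] : List (List ℕ)) ++
  ([[17, 18, 13, 14, 10, 12], [11, 10, 18, 17, 12, 10, 1], [13, 14, 10, 11, 5], [10, 11, 13, 14, 6], [12, 11, 13, 14, 11, 12], [10, 12, 18, 17, 13, 14], [16, 15, 7], [10, 12, 17, 18, 11, 10]] : List (List ℕ)) ++
  ([[12, 11], [16, 15, 13, 14, 4], [17, 18, 12, 10, 13, 14], [12, 10, 17, 18, 12, 10], [15, 16, 10, 11, 3], [17, 18, 11, 12, 2], [14, 13, 11, 12, 2], [12, 11, 13, 14, 10, 11, 1]] : List (List ℕ)) ++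
  ([[10, 12, 13, 14, 3], [11, 10, 18, 17, 10, 11], [12, 10, 16, 15, 11, 12], [11, 12, 16, 15, 6], [17, 18, 12, 10, 16, 15, 0], [10, 11, 4, 2], [13, 14, 16, 15, 3], [11, 12, 16, 15, 17, 18, 2]] : List (List ℕ)) ++
  ([[15, 16, 12, 11, 5], [10, 11, 16, 15, 8], [12, 10, 14, 13, 11, 12, 1], [15, 16, 12, 11, 15, 16, 1], [14, 13, 5, 0], [18, 17, 12, 10, 4], [10, 12, 16, 15, 11, 10], [12, 10, 17, 18, 12, 11]] : List (List ℕ)) ++
  ([[14, 13, 15, 16, 9], [11, 10, 7, 2], [16, 15, 14, 13, 11, 12], [12, 11, 17, 18, 10, 11, 3], [15, 16, 12, 11], [11, 10, 16, 15, 3], [10, 12, 14, 13, 12, 11], [16, 15, 11, 12, 16, 15]] : List (List ℕ)) ++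
  ([[13, 14, 4], [17, 18, 10, 12, 8], [12, 10, 16, 15, 10, 11, 1], [17, 18, 11, 12, 14, 13, 0], [17, 18, 12, 10, 13, 14, 1], [15, 16, 14, 13, 2], [12, 11, 1], [14, 13, 15, 16, 13, 14]] : List (List ℕ)) ++
  ([[15, 16, 11, 10, 1], [18, 17, 12, 11, 5], [13, 14, 12, 11, 8], [11, 12, 13, 14, 11, 10], [12, 10, 14, 13], [10, 11, 16, 15, 18, 17], [10, 12, 16, 15, 12, 11, 1], [12, 11, 16, 15, 5]] : List (List ℕ)) ++
  ([[7, 3], [13, 14, 15, 16, 11, 12, 1], [11, 12, 15, 16, 13, 14], [17, 18, 11, 12, 18, 17, 2], [15, 16, 10, 11, 13, 14], [10, 11, 18, 17, 10, 12], [14, 13, 11, 10, 4], [11, 10, 13, 14, 5]] : List (List ℕ)) ++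
  ([[18, 17, 12, 10, 17, 18, 0], [12, 10, 17, 18, 14, 13], [15, 16, 2], [12, 10, 17, 18, 10, 11, 1], [13, 14, 12, 10, 18, 17, 0], [10, 12, 8, 2], [11, 12, 14, 13, 16, 15], [17, 18, 13, 14, 5, 0]] : List (List ℕ)) ++
  ([[12, 10, 16, 15, 1], [15, 16, 17, 18, 5], [14, 13, 10, 11, 18, 17], [11, 12, 13, 14, 0], [10, 11, 13, 14, 12, 11, 2], [10, 11, 18, 17, 11, 12], [15, 16, 11, 10, 17, 18, 0], [13, 14, 12, 11, 17, 18]] : List (List ℕ)) ++
  ([[10, 11, 1], [13, 14, 16, 15, 2], [18, 17, 12, 10, 15, 16], [11, 10, 13, 14, 11, 10], [10, 12, 15, 16, 11, 10, 1], [10, 11, 16, 15, 5], [17, 18, 11, 12, 13, 14, 2], [11, 12, 16, 15, 18, 17]] : List (List ℕ)) ++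
  ([[17, 18, 12, 10, 9], [16, 15, 11, 12, 5], [15, 16, 10, 12, 13, 14, 4], [14, 13], [15, 16, 13, 14, 12, 10], [15, 16, 10, 12, 18, 17, 0], [12, 10, 6, 2], [11, 10, 13, 14, 12, 11, 1]] : List (List ℕ)) ++
  ([[17, 18, 14, 13], [12, 11, 13, 14, 5], [17, 18, 10, 11, 1], [17, 18, 16, 15, 11, 12, 5], [11, 12, 18, 17, 10, 12], [16, 15, 10, 11, 17, 18, 0], [14, 13, 11, 10, 18, 17, 1], [12, 10, 15, 16]] : List (List ℕ)) ++
  ([[11, 10, 14, 13, 16, 15], [16, 15, 13, 14, 11, 10, 3], [6, 4], [16, 15, 11, 10, 14, 13], [14, 13, 10, 11, 8], [16, 15, 1], [12, 10, 16, 15, 17, 18, 0], [11, 12, 18, 17, 11, 12]] : List (List ℕ)) ++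
  ([[11, 10, 17, 18, 10, 12, 4], [11, 12, 13, 14, 12, 11, 2], [12, 10, 17, 18, 13, 14, 0], [11, 10, 13, 14, 0], [12, 11, 7, 2], [17, 18, 10, 12, 14, 13, 0], [16, 15, 14, 13], [10, 12, 15, 16, 12, 11]] : List (List ℕ)) ++
  ([[14, 13, 12, 11, 6], [10, 12, 13, 14, 4], [17, 18, 12, 11, 8], [13, 14, 12, 10, 13, 14, 1], [14, 13, 15, 16, 14, 13, 0], [11, 12, 14, 13, 11, 10, 6], [16, 15, 10, 11, 1], [12, 11, 16, 15, 3]] : List (List ℕ)) ++
  ([[16, 15, 14, 13, 1], [12, 10, 14, 13, 15, 16, 2], [11, 12, 4, 2], [12, 10, 15, 16, 11, 12, 1], [14, 13, 11, 12, 1], [12, 10, 13, 14, 7], [17, 18, 12, 11], [14, 13, 10, 12, 14, 13]] : List (List ℕ)) ++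
  ([[12, 10, 17, 18, 10, 12, 3], [11, 12, 13, 14, 10, 11, 4], [16, 15, 11, 10, 3], [11, 12, 16, 15, 8], [3, 2], [12, 11, 16, 15, 13, 14, 2], [14, 13, 16, 15, 11, 12], [18, 17, 13, 14, 12, 10]] : List (List ℕ)) ++
  ([[14, 13, 10, 11], [16, 15, 9, 0], [10, 12, 15, 16, 17, 18], [18, 17, 11, 12, 17, 18], [11, 10, 18, 17, 12, 10, 3], [18, 17, 10, 12, 18, 17, 0], [10, 12, 18, 17, 14, 13, 0], [10, 11, 13, 14, 1]] : List (List ℕ)) ++
  ([[10, 12, 5, 2], [13, 14, 15, 16, 10, 12], [13, 14, 10, 12, 17, 18], [10, 11, 13, 14, 11, 12], [17, 18, 14, 13, 5], [11, 12, 13, 14, 6], [16, 15, 17, 18, 4], [10, 11, 18, 17, 12, 11, 2]] : List (List ℕ)) ++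
  ([[14, 13, 12, 11, 18, 17], [15, 16, 18, 17, 15, 16], [18, 17, 13, 14, 15, 16, 0], [10, 12, 16, 15, 7], [18, 17, 12, 10, 15, 16, 1], [14, 13, 15, 16, 3], [10, 11], [10, 11, 13, 14, 10, 11, 1]] : List (List ℕ)) ++
  ([[12, 10, 15, 16, 10, 11], [11, 10, 16, 15, 6], [10, 12, 17, 18, 11, 12, 2], [12, 11, 18, 17, 10, 11], [17, 18, 12, 10], [16, 15, 11, 12], [15, 16, 12, 10, 14, 13, 0], [14, 13, 9]] : List (List ℕ)) ++
  ([[17, 18, 14, 13, 10, 11, 4], [16, 15, 10, 12, 3], [12, 10, 18, 17, 0], [10, 11, 13, 14, 10, 12, 2], [17, 18, 6, 0], [13, 14, 12, 10, 4], [10, 12, 14, 13, 12, 10, 1], [18, 17, 16, 15, 3]] : List (List ℕ)) ++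
  ([[10, 11, 15, 16, 10, 12], [14, 13, 12, 10, 16, 15, 1], [12, 11, 17, 18], [16, 15, 12, 10, 16, 15], [18, 17, 13, 14, 10, 11], [15, 16, 12, 10, 6], [10, 12, 18, 17, 1], [16, 15, 18, 17, 13, 14]] : List (List ℕ)) ++
  ([[18, 17, 9], [13, 14, 10, 12, 1], [12, 10, 14, 13, 10, 12], [18, 17, 15, 16, 3], [11, 10, 15, 16, 12, 10, 1], [14, 13, 12, 10, 15, 16, 1], [12, 11, 17, 18, 7], [10, 12, 16, 15, 12, 10]] : List (List ℕ)) ++
  ([[11, 10, 16, 15, 10, 12, 1], [12, 10, 15, 16, 10, 12], [14, 13, 12, 10, 9], [12, 11, 18, 17, 2], [16, 15, 18, 17, 14, 13, 0], [11, 10, 18, 17, 0], [17, 18], [12, 11, 13, 14, 12, 10]] : List (List ℕ)) ++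
  ([[15, 16, 12, 10, 8], [12, 10, 18, 17, 5], [12, 10, 13, 14, 10, 12, 2], [18, 17, 14, 13, 11, 10], [10, 11, 16, 15, 12, 10], [15, 16, 10, 12, 15, 16], [13, 14, 10, 12, 3], [11, 12, 18, 17, 9]] : List (List ℕ)) ++
  ([[11, 10, 14, 13, 10, 12], [10, 11, 18, 17, 1], [17, 18, 7], [13, 14, 12, 10, 16, 15], [16, 15, 10, 12, 6], [10, 12, 18, 17, 6], [12, 10, 14, 13, 12, 10, 3], [17, 18, 13, 14, 11, 10, 4]] : List (List ℕ)) ++
  ([[11, 12, 18, 17, 6], [13, 14, 10, 12, 16, 15, 0], [17, 18, 16, 15], [12, 10, 13, 14, 10, 12, 1], [16, 15, 12, 10], [13, 14, 15, 16, 17, 18], [13, 14, 12, 11, 13, 14, 1], [15, 16, 17, 18, 13, 14]] : List (List ℕ)) ++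
  ([[12, 10, 18, 17, 9], [10, 11, 15, 16, 12, 10, 3], [14, 13, 10, 12, 4], [18, 17, 1], [12, 11, 18, 17, 5], [13, 14, 10, 12, 15, 16, 0], [11, 10, 17, 18], [10, 12, 13, 14, 12, 10]] : List (List ℕ)) ++
  ([[16, 15, 12, 10, 7], [12, 11, 15, 16, 10, 12], [14, 13, 11, 12, 14, 13], [15, 16, 18, 17, 14, 13, 4], [10, 12, 18, 17, 2], [10, 11, 16, 15, 10, 12, 5], [14, 13, 12, 10, 1], [18, 17, 7, 0]] : List (List ℕ)) ++
  ([[12, 10, 14, 13, 12, 10, 2], [10, 12, 17, 18, 7], [12, 11, 14, 13, 10, 12], [17, 18, 9, 0], [14, 13, 12, 11, 14, 13, 1], [11, 10, 15, 16, 12, 10, 6], [11, 12, 16, 15, 12, 10], [11, 12, 18, 17, 1]] : List (List ℕ)) ++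
  ([[14, 13, 12, 10, 3], [15, 16, 10, 12, 7], [18, 17, 16, 15, 1], [17, 18, 11, 10, 13, 14], [12, 10, 13, 14, 10, 12, 8], [10, 12, 17, 18], [11, 12, 14, 13, 12, 10, 1], [18, 17, 5]] : List (List ℕ)) ++
  ([[13, 14, 11, 12, 13, 14], [11, 10, 16, 15, 10, 12, 3], [12, 11, 16, 15, 10, 12, 1], [12, 11, 18, 17, 0], [13, 14, 10, 12, 2], [15, 16, 10, 12], [18, 17, 15, 16, 1], [10, 11, 13, 14, 12, 10]] : List (List ℕ)) ++
  ([[15, 16, 13, 14, 10, 12, 2], [10, 12, 9], [15, 16, 10, 12, 17, 18], [10, 12, 13, 14, 10, 11], [18, 17, 11, 10, 15, 16, 0], [10, 11, 18, 17, 11, 12, 1], [12, 11, 18, 17, 12, 10], [12, 11, 13, 14, 2]] : List (List ℕ)) ++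
  ([[10, 12, 15, 16, 3], [18, 17, 14, 13, 5], [15, 16, 18, 17, 5], [10, 11, 13, 14, 11, 12, 1], [14, 13, 10, 12, 17, 18, 1], [12, 10, 2], [15, 16, 10, 12, 17, 18, 0], [12, 10, 13, 14, 11, 10, 1]] : List (List ℕ)) ++
  ([[16, 15, 17, 18, 16, 15], [11, 10, 18, 17, 12, 11], [11, 12, 18, 17, 10, 12, 1], [12, 11, 13, 14], [12, 10, 15, 16, 8], [17, 18, 13, 14], [18, 17, 11, 10], [11, 10, 13, 14, 12, 11]] : List (List ℕ)) ++
  ([[16, 15, 14, 13, 9], [14, 13, 15, 16, 11, 10], [11, 12, 8], [11, 12, 14, 13, 10, 11, 1], [18, 17, 11, 12, 6], [16, 15, 10, 11], [14, 13, 15, 16, 13, 14, 3], [11, 12, 16, 15, 2]] : List (List ℕ)) ++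
  ([[12, 10, 14, 13, 0], [10, 12, 16, 15, 11, 12, 1], [14, 13, 11, 12, 6], [18, 17, 15, 16, 11, 10], [15, 16, 13, 14, 4], [14, 13, 15, 16, 10, 11], [12, 11, 3], [12, 11, 14, 13, 11, 10]] : List (List ℕ)) ++
  ([[17, 18, 12, 11, 9], [16, 15, 10, 11, 3], [13, 14, 16, 15, 13, 14, 0], [11, 12, 16, 15], [10, 12, 14, 13, 1], [12, 10, 16, 15, 12, 11], [14, 13, 11, 12], [18, 17, 16, 15, 11, 10]] : List (List ℕ)) ++
  ([[14, 13, 15, 16, 0], [11, 10, 5], [10, 12, 15, 16, 14, 13], [10, 12, 15, 16, 10, 11, 1], [17, 18, 11, 12, 13, 14], [15, 16, 11, 12, 15, 16, 1], [14, 13, 6], [11, 10, 15, 16, 1]] : List (List ℕ)) ++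
  ([[17, 18, 10, 12, 2], [11, 12, 17, 18, 10, 11], [12, 10, 14, 13, 12, 11, 2], [15, 16, 11, 12, 5], [14, 13, 15, 16], [10, 11, 6], [10, 12, 15, 16, 14, 13, 0], [12, 10, 15, 16, 11, 10]] : List (List ℕ)) ++
  ([[10, 12, 17, 18, 11, 12], [16, 15, 12, 11, 16, 15], [13, 14, 7, 0], [10, 11, 15, 16, 0], [17, 18, 10, 12], [12, 11, 17, 18, 11, 10, 1], [15, 16, 12, 10, 14, 13], [15, 16, 12, 11, 1]] : List (List ℕ)) ++
  ([[7, 0], [14, 13, 15, 16, 12, 11, 1], [12, 11, 16, 15, 13, 14], [18, 17, 11, 12, 17, 18, 2], [18, 17, 13, 14, 10, 12], [14, 13, 10, 11, 6], [15, 16, 5], [11, 10, 14, 13, 7]] : List (List ℕ)) ++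
  ([[10, 11, 17, 18, 12, 10, 4], [18, 17, 10, 12, 18, 17], [10, 12, 15, 16, 17, 18, 2], [10, 12, 18, 17, 13, 14, 0], [7], [14, 13, 15, 16, 11, 12, 1], [12, 11, 16, 15, 13, 14, 0], [11, 12, 18, 17, 11, 12, 2]] : List (List ℕ)) ++
  ([[16, 15, 11, 10, 14, 13, 0], [13, 14, 11, 10, 4], [16, 15, 3, 0], [10, 11, 14, 13, 4], [10, 11, 18, 17, 10, 12, 3], [17, 18, 12, 10, 17, 18, 1], [10, 12, 16, 15, 18, 17, 4], [12, 10, 17, 18, 14, 13, 0]] : List (List ℕ)) ++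
  ([[10, 12, 14, 13, 10, 12, 2], [14, 13, 12, 10, 4], [17, 18, 13, 14, 10, 11, 4], [18, 17, 5, 0], [13, 14, 11, 12, 13, 14, 0], [12, 11, 17, 18, 1], [10, 12, 17, 18, 6], [10, 11, 15, 16, 10, 12, 1]] : List (List ℕ)) ++
  ([[11, 12, 13, 14, 10, 12], [10, 11, 18, 17], [16, 15, 12, 10, 1], [10, 11, 13, 14, 12, 10, 2], [10, 12, 13, 14, 12, 10, 8], [14, 13, 12, 10], [17, 18, 13, 14, 10, 11], [17, 18, 9]] : List (List ℕ)) ++
  ([[14, 13, 12, 11, 13, 14, 3], [11, 12, 17, 18, 0], [12, 10, 17, 18, 5], [11, 10, 15, 16, 12, 10], [13, 14, 12, 10, 15, 16, 0], [17, 18, 15, 16, 3], [16, 15, 10, 12, 7], [18, 17, 10, 11, 13, 14, 0]] : List (List ℕ)) ++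
  ([[10, 11, 13, 14, 12, 10, 1], [13, 14, 10, 12, 15, 16], [11, 10, 17, 18, 0], [12, 10, 16, 15, 10, 12], [10, 12, 17, 18, 9], [12, 11, 15, 16, 12, 10], [15, 16, 10, 12, 8], [11, 12, 18, 17, 4]] : List (List ℕ)) ++
  ([[10, 12, 14, 13, 12, 10], [11, 10, 16, 15, 12, 10, 3], [17, 18, 5], [14, 13, 10, 12, 9], [11, 10, 13, 14, 10, 12], [13, 14, 10, 12, 16, 15], [17, 18, 16, 15, 0], [16, 15, 12, 10, 15, 16, 0]] : List (List ℕ)) ++
  ([[12, 10, 17, 18, 2], [13, 14, 15, 16, 17, 18, 0], [16, 15, 12, 10, 6], [11, 12, 18, 17], [12, 10, 14, 13, 10, 12, 1], [11, 10, 15, 16, 10, 12, 6], [18, 17, 2, 0], [13, 14, 12, 10, 3]] : List (List ℕ)) ++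
  ([[10, 11, 16, 15, 10, 12], [18, 17, 4], [15, 16, 12, 10, 7], [12, 11, 17, 18, 5], [11, 10, 14, 13, 12, 10], [14, 13, 12, 10, 16, 15], [14, 13, 10, 12, 3], [17, 18, 15, 16, 2]] : List (List ℕ)) ++
  ([[14, 13, 11, 12, 14, 13, 1], [10, 12, 13, 14, 12, 10, 1], [12, 10, 17, 18, 0], [17, 18, 14, 13, 11, 10, 4], [11, 10, 16, 15, 12, 10, 1], [18, 17], [15, 16, 10, 12, 1], [11, 12, 17, 18, 6]] : List (List ℕ)) ++
  ([[16, 15, 18, 17, 14, 13], [14, 13, 12, 10, 15, 16], [13, 14, 12, 10, 2], [10, 11, 17, 18, 2], [13, 14, 12, 11, 13, 14], [12, 10, 13, 14, 10, 12], [10, 12, 17, 18, 1], [17, 18, 14, 13, 11, 10]] : List (List ℕ)) ++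
  ([[18, 17, 16, 15], [16, 15, 12, 10, 8], [12, 10, 18, 17], [10, 11, 15, 16, 10, 12, 3], [12, 10, 13, 14, 12, 10, 2], [13, 14, 10, 12, 7], [17, 18, 11, 10, 14, 13], [14, 13, 16, 15, 17, 18, 0]] : List (List ℕ)) ++
  ([[17, 18, 1], [12, 11, 14, 13, 10, 12, 1], [14, 13, 12, 11, 13, 14, 0], [12, 11, 17, 18, 2], [18, 17, 15, 16], [15, 16, 10, 12, 5], [12, 10, 18, 17, 4], [10, 11, 16, 15, 12, 10, 5]] : List (List ℕ)) ++
  ([[12, 10, 14, 13, 10, 12, 3], [13, 14, 12, 10, 1], [17, 18, 11, 10, 14, 13, 4], [12, 11, 16, 15, 10, 12], [17, 18, 4, 0], [11, 12, 14, 13, 12, 10], [10, 12, 15, 16, 12, 10], [11, 12, 17, 18, 9]] : List (List ℕ)) ++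
  ([[13, 14, 16, 15, 11, 10], [15, 16, 14, 13, 1], [12, 11, 5], [12, 11, 15, 16, 1], [14, 13, 12, 11, 2], [17, 18, 12, 11, 1], [10, 12, 14, 13, 6], [11, 10, 17, 18, 10, 11]] : List (List ℕ)) ++
  ([[15, 16, 11, 10, 3], [12, 10, 17, 18, 12, 10, 1], [12, 10, 15, 16, 11, 12], [11, 12, 14, 13, 10, 11, 4], [13, 14, 16, 15, 10, 11], [15, 16, 13, 14, 3], [11, 12, 6], [11, 12, 15, 16, 0]] : List (List ℕ)) ++
  ([[13, 14, 11, 12, 8], [17, 18, 11, 12, 8], [12, 10, 14, 13, 5], [17, 18, 16, 15, 10, 11], [15, 16, 11, 10], [10, 12, 17, 18, 10, 12], [18, 17, 15, 16, 13, 14, 0], [11, 12, 13, 14, 11, 10, 5]] : List (List ℕ)) ++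
  ([[8, 0], [16, 15, 13, 14, 10, 11, 1], [10, 11, 13, 14, 16, 15, 0], [11, 10, 14, 13, 1], [12, 10, 15, 16, 17, 18, 0], [11, 12, 16, 15, 11, 10, 1], [16, 15], [12, 11, 14, 13, 11, 12]] : List (List ℕ)) ++
  ([[17, 18, 12, 11, 17, 18, 2], [14, 13, 11, 10, 8], [18, 17, 16, 15, 12, 10], [10, 11, 16, 15, 12, 11], [8], [16, 15, 13, 14, 11, 10, 1], [10, 11, 13, 14, 16, 15], [10, 11, 14, 13, 0]] : List (List ℕ)) ++
  ([[10, 12, 16, 15, 17, 18], [12, 11, 16, 15, 10, 11], [16, 15, 2], [18, 17, 10, 12, 17, 18, 0], [11, 12, 17, 18, 12, 11, 2], [14, 13, 10, 11, 1], [18, 17, 15, 16, 12, 10], [11, 10, 16, 15, 11, 12, 1]] : List (List ℕ)) ++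
  ([[10, 11, 9], [16, 15, 13, 14, 11, 12, 1], [13, 14, 15, 16, 8], [13, 14, 2], [12, 11, 15, 16, 18, 17], [10, 12, 16, 15, 11, 10, 4], [10, 11, 15, 16, 3], [12, 10, 13, 14, 11, 12, 1]] : List (List ℕ)) ++
  ([[12, 10, 18, 17, 11, 12, 1], [16, 15, 11, 12, 9], [18, 17, 12, 10], [10, 11, 13, 14, 10, 11], [11, 10, 2], [16, 15, 13, 14, 12, 11, 1], [14, 13, 16, 15, 2], [13, 14]] : List (List ℕ)) ++
  ([[11, 12, 18, 17, 11, 10], [10, 12, 15, 16, 10, 11, 2], [11, 10, 15, 16, 8], [10, 12, 13, 14, 12, 11], [10, 12, 18, 17, 12, 11], [15, 16, 12, 11, 4], [18, 17, 12, 10, 2], [16, 15, 11, 12, 15, 16]] : List (List ℕ)) ++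
  ([[13, 14, 16, 15, 10, 12], [11, 10, 16, 15, 13, 14, 0], [12, 10, 7], [10, 12, 15, 16, 6], [11, 10, 14, 13, 12, 11, 3], [10, 11, 18, 17, 11, 12, 2], [12, 11, 14, 13, 4], [16, 15, 18, 17, 4]] : List (List ℕ)) ++
  ([[15, 16, 11, 10, 17, 18], [18, 17, 14, 13, 16, 15, 3], [18, 17, 13, 14, 5, 0], [13, 14, 12, 11, 17, 18, 0], [13, 14, 16, 15, 12, 10], [11, 10, 16, 15, 13, 14], [10, 12, 4], [12, 10, 15, 16, 5]] : List (List ℕ)) ++
  ([[11, 10, 13, 14, 11, 12, 2], [17, 18, 16, 15, 12, 11, 5], [11, 12, 14, 13, 7], [15, 16, 17, 18, 2], [17, 18, 10, 11, 16, 15], [18, 17, 14, 13, 16, 15], [18, 17, 13, 14, 0], [12, 11, 17, 18, 12, 10, 4]] : List (List ℕ)) ++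
  ([[13, 14, 15, 16, 2], [11, 10, 4], [12, 10, 16, 15, 13, 14], [18, 17, 10, 12, 8], [15, 16, 12, 11, 9], [16, 15, 11, 12, 16, 15, 1], [18, 17, 11, 12, 14, 13, 0], [12, 10, 16, 15, 11, 10, 2]] : List (List ℕ)) ++
  ([[10, 11, 15, 16, 5], [14, 13, 7], [16, 15, 10, 12, 13, 14, 0], [12, 11, 15, 16, 17, 18, 2], [14, 13, 16, 15, 3], [10, 11, 7], [12, 10, 16, 15, 13, 14, 0], [17, 18, 12, 10, 7]] : List (List ℕ)) ++
  ([[16, 15, 11, 12, 7], [15, 16, 12, 11, 15, 16], [18, 17, 11, 12, 13, 14, 0], [12, 10, 15, 16, 10, 11, 7], [11, 10, 15, 16, 6], [13, 14, 5, 0], [12, 10, 14, 13, 12, 11, 3], [12, 11, 16, 15, 18, 17, 4]] : List (List ℕ)) ++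
  ([[5], [10, 11, 14, 13, 15, 16, 0], [12, 11, 15, 16, 14, 13], [17, 18, 15, 16, 10, 12], [11, 10, 15, 16, 11, 12], [13, 14, 11, 10, 6], [15, 16, 11, 10, 14, 13], [17, 18, 12, 11, 18, 17, 0]] : List (List ℕ)) ++
  ([[10, 11, 14, 13, 6], [15, 16, 1], [10, 12, 17, 18, 10, 11], [17, 18, 10, 12, 17, 18], [5, 0], [10, 11, 14, 13, 15, 16], [12, 11, 15, 16, 14, 13, 0], [10, 11, 17, 18, 10, 12]] : List (List ℕ)) ++
  ([[10, 11, 15, 16, 12, 11, 1], [14, 13, 10, 11, 7], [11, 12, 15, 16, 11, 10], [12, 11, 17, 18, 11, 12], [11, 10, 14, 13, 5], [15, 16, 2, 0], [12, 10, 17, 18, 11, 10, 1], [18, 17, 12, 10, 18, 17, 1]] : List (List ℕ)) ++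
  ([[10, 12, 3], [12, 11, 13, 14, 16, 15, 0], [13, 14, 12, 10, 17, 18, 0], [12, 11, 17, 18, 12, 10, 3], [17, 18, 14, 13, 4], [10, 12, 14, 13, 11, 10], [11, 10, 14, 13, 11, 12], [16, 15, 17, 18, 6]] : List (List ℕ)) ++
  ([[12, 10, 16, 15], [11, 12, 14, 13, 1], [18, 17, 15, 16, 11, 12, 1], [16, 15, 17, 18, 15, 16, 0], [12, 10, 8], [12, 11, 13, 14, 16, 15], [13, 14, 12, 10, 17, 18], [13, 14, 11, 12, 18, 17, 0]] : List (List ℕ)) ++
  ([[18, 17, 14, 13, 2, 0], [17, 18, 14, 13, 16, 15, 0], [10, 11, 14, 13, 12, 11, 1], [16, 15, 17, 18], [12, 10, 16, 15, 2], [12, 11, 14, 13, 0], [18, 17, 16, 15, 11, 12, 1], [11, 10, 16, 15, 10, 11]] : List (List ℕ)) ++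
  ([[18, 17, 10, 12, 14, 13, 0], [12, 11, 2], [16, 15, 14, 13, 4], [12, 10, 18, 17, 10, 12, 1], [11, 10, 17, 18, 13, 14], [12, 11, 13, 14, 11, 10, 1], [11, 10, 18, 17, 11, 10], [13, 14, 12, 11, 5]] : List (List ℕ)) ++
  ([[10, 12, 13, 14], [12, 11, 15, 16, 8], [16, 15, 11, 10, 7], [18, 17, 12, 11, 8], [18, 17, 10, 12, 14, 13], [11, 12, 9], [15, 16, 13, 14, 2], [10, 12, 18, 17, 12, 10]] : List (List ℕ)) ++
  ([[17, 18, 16, 15, 13, 14], [11, 12, 13, 14, 10, 11], [13, 14, 10, 12, 14, 13], [13, 14, 11, 12, 1], [10, 12, 13, 14, 2], [11, 12, 15, 16, 3], [15, 16, 10, 11, 9], [18, 17, 11, 12, 1]] : List (List ℕ)) ++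
  ([[15, 16, 14, 13, 10, 11], [13, 14, 16, 15, 12, 11], [9, 0], [16, 15, 6, 0], [11, 12, 13, 14, 12, 11], [11, 12, 18, 17, 12, 11], [10, 11, 18, 17, 10, 12, 1], [12, 10, 17, 18, 13, 14]] : List (List ℕ)) ++
  ([[13, 14, 10, 11, 3], [15, 16, 10, 11, 13, 14, 1], [12, 10, 18, 17, 11, 10], [11, 10, 13, 14], [15, 16, 14, 13, 11, 10], [13, 14, 16, 15, 11, 12], [9], [15, 16, 3]] : List (List ℕ)) ++
  ([[12, 11, 13, 14, 11, 12, 1], [18, 17, 11, 12, 17, 18, 0], [11, 10, 18, 17, 12, 10], [10, 12, 18, 17, 14, 13], [13, 14, 10, 11], [18, 17, 14, 13, 12, 10], [10, 12, 15, 16, 18, 17], [11, 10, 13, 14, 2]] : List (List ℕ)) ++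
  ([[16, 15, 14, 13, 3], [12, 11, 7], [18, 17, 12, 10, 13, 14], [10, 12, 14, 13, 4], [18, 17, 15, 16, 10, 11, 2], [16, 15, 11, 10, 9], [12, 11, 13, 14, 11, 10, 4], [15, 16, 13, 14, 15, 16, 0]] : List (List ℕ)) ++
  ([[10, 11, 17, 18, 14, 13, 0], [18, 17, 11, 12, 2], [13, 14, 11, 12, 9], [11, 12, 15, 16, 6], [16, 15, 13, 14, 1], [11, 12, 4], [18, 17, 12, 10, 13, 14, 0], [12, 10, 14, 13, 7]] : List (List ℕ)) ++
  ([[14, 13, 10, 12, 14, 13, 0], [15, 16, 10, 11, 4], [12, 11, 14, 13, 10, 11, 6], [13, 14, 15, 16, 13, 14], [11, 10, 18, 17, 13, 14, 0], [17, 18, 12, 11, 6], [14, 13, 12, 11, 8], [12, 11, 15, 16, 5]] : List (List ℕ)) ++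
  ([[10, 11, 15, 16, 14, 13], [10, 12, 5], [11, 12, 14, 13, 15, 16, 0], [11, 12, 14, 13, 6], [15, 16, 17, 18, 4], [16, 15, 18, 17, 15, 16], [12, 11, 15, 16, 11, 12], [12, 11, 17, 18, 12, 10, 1]] : List (List ℕ)) ++
  ([[18, 17, 13, 14, 15, 16], [17, 18, 15, 16, 11, 12], [11, 10, 14, 13, 12, 11, 2], [10, 12, 15, 16, 1], [10, 11, 15, 16, 14, 13, 0], [12, 10, 6], [11, 12, 14, 13, 15, 16], [12, 11, 14, 13, 5]] : List (List ℕ)) ++
  ([[17, 18, 11, 10, 1], [11, 10, 15, 16, 11, 10], [17, 18, 14, 13, 2], [11, 12, 17, 18, 10, 12], [18, 17, 13, 14, 15, 16, 3], [10, 11, 17, 18, 11, 12], [11, 10, 13, 14, 11, 12, 8], [12, 10, 15, 16, 0]] : List (List ℕ)) ++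
  ([[15, 16, 14, 13, 12, 11], [13, 14, 16, 15], [11, 10, 8], [11, 10, 16, 15, 2], [12, 10, 14, 13, 12, 11, 1], [17, 18, 12, 11, 13, 14, 1], [16, 15, 12, 11, 15, 16, 0], [16, 15, 12, 11, 6]] : List (List ℕ)) ++
  ([[18, 17, 10, 12, 7], [10, 12, 16, 15, 10, 11], [11, 12, 16, 15, 17, 18], [14, 13, 0], [15, 16, 14, 13, 11, 12], [13, 14, 16, 15, 0], [10, 11, 3], [11, 10, 16, 15]] : List (List ℕ)) ++
  ([[10, 12, 14, 13, 11, 12], [17, 18, 12, 11, 14, 13, 1], [10, 11, 14, 13, 11, 10], [16, 15, 12, 11], [17, 18, 12, 10, 3], [12, 10, 16, 15, 11, 10, 1], [12, 11, 15, 16, 17, 18, 0], [14, 13, 9, 0]] : List (List ℕ)) ++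
  ([[0], [10, 11, 14, 13, 15, 16, 3], [15, 16, 14, 13, 10, 11, 3], [16, 15, 6], [10, 11, 17, 18, 12, 10], [11, 10, 13, 14, 3], [11, 12, 15, 16, 10, 11], [13, 14, 11, 10, 8]] : List (List ℕ)) ++
  ([[12, 11, 17, 18, 11, 12, 2], [12, 10, 18, 17, 10, 11], [12, 11, 14, 13, 11, 12, 2], [10, 11, 16, 15, 11, 12], [15, 16, 13, 14, 1], [12, 11, 5, 2], [13, 14, 15, 16, 11, 10], [10, 12, 13, 14, 6]] : List (List ℕ)) ++
  ([[12, 10, 18, 17, 12, 10, 1], [12, 11, 16, 15, 7], [13, 14, 11, 12, 6], [11, 10, 18, 17, 13, 14], [17, 18, 11, 12, 5], [11, 10, 17, 18, 11, 10], [16, 15, 10, 11, 4], [12, 11, 13, 14, 10, 11, 5]] : List (List ℕ)) ++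
  ([[14, 13, 16, 15, 1], [18, 17, 10, 12, 16, 15], [10, 11, 3, 2], [11, 10, 16, 15, 0], [18, 17, 12, 10, 3], [13, 14, 2, 0], [10, 11, 14, 13, 10, 11], [10, 12, 15, 16, 11, 10, 7]] : List (List ℕ)) ++
  ([[12, 11, 15, 16, 17, 18], [12, 10, 18, 17, 12, 11, 1], [16, 15, 12, 11, 2], [16, 15, 10, 12, 13, 14], [15, 16, 12, 10, 17, 18], [10, 12, 4, 2], [16, 15, 14, 13, 10, 12, 1], [11, 12, 13, 14, 7]] : List (List ℕ)) ++
  ([[13, 14, 11, 12, 18, 17], [10, 12, 16, 15, 8], [17, 18, 14, 13, 2, 0], [10, 11, 14, 13, 11, 12, 1], [16, 15, 17, 18, 2], [10, 11, 17, 18, 12, 11], [18, 17, 14, 13, 16, 15, 0], [11, 10, 16, 15, 11, 10]] : List (List ℕ)) ++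
  ([[16, 15, 14, 13, 10, 12], [12, 10, 7, 2], [15, 16, 12, 10, 17, 18, 1], [12, 11, 13, 14, 4], [14, 13, 12, 11, 17, 18, 5], [12, 10, 16, 15, 3], [17, 18, 13, 14, 4], [11, 10, 14, 13, 12, 11]] : List (List ℕ)) ++
  ([[18, 17, 11, 10, 4], [17, 18, 15, 16, 12, 11], [13, 14, 10, 11, 18, 17, 1], [16, 15, 17, 18, 15, 16], [11, 10, 8, 2], [18, 17, 10, 12, 16, 15, 1], [14, 13, 16, 15], [10, 11, 16, 15, 1]] : List (List ℕ)) ++
  ([[17, 18, 10, 12, 4], [13, 14, 0], [16, 15, 12, 11, 15, 16], [10, 12, 16, 15, 10, 11, 2], [11, 12, 16, 15, 17, 18, 0], [10, 12, 18, 17, 11, 12], [15, 16, 11, 12, 7], [10, 12, 13, 14, 12, 11, 2]] : List (List ℕ)) ++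
  ([[13, 14, 15, 16, 11, 10, 1], [11, 12, 6, 2], [15, 16, 13, 14], [12, 10, 13, 14, 5], [10, 12, 18, 17, 10, 12], [11, 12, 15, 16], [13, 14, 12, 11, 1], [10, 11, 17, 18, 14, 13]] : List (List ℕ)) ++
  ([[18, 17, 12, 11, 9], [17, 18, 16, 15, 11, 10], [15, 16, 11, 10, 2], [12, 11, 14, 13, 11, 10, 4], [12, 11, 15, 16, 14, 13, 2], [10, 11, 13, 14, 16, 15, 2], [1, 0], [15, 16, 3, 0]] : List (List ℕ)) ++
  ([[17, 18, 15, 16, 12, 10], [10, 11, 14, 13], [15, 16, 11, 10, 14, 13, 0], [13, 14, 11, 10], [12, 11, 18, 17, 12, 11, 5], [10, 12, 16, 15, 18, 17], [17, 18, 10, 12, 17, 18, 0], [11, 10, 16, 15, 12, 11, 1]] : List (List ℕ))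

def specReps : List (List ℕ) := [[], [10], [10, 13], [19], [20], [21]]

end Cfsg.Agent.Lib.Helper26_Ico
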