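import Cfsg.Agent.Lib.Helper26_IcoSpec

/-!
# Element orders of `J₂`: the kernel computation (helper26)
For each of the six representatives `r` and each of the 1920 words `w`, some power `n ∈ {7,8,10,12,15}`
of `r ++ w` fixes the base `(0, 27, 11)`.
-/

set_option autoImplicit false

namespace Cfsg.Agent.Lib.Helper26_Ico

theorem spec_orders0 : specWords.all (fun w => ordOK ([] ++ w)) = true := by decide +kernel
theorem spec_orders1 : specWords.all (fun w => ordOK ([10] ++ w)) = true := by decide +kernel
theorem spec_orders2 : specWords.all (fun w => ordOK ([10, 13] ++ w)) = true := by decide +kernel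
theorem spec_orders3 : specWords.all (fun w => ordOK ([19] ++ w)) = true := by decide +kernel
theorem spec_orders4 : specWords.all (fun w => ordOK ([20] ++ w)) = true := by decide +kernel
theorem spec_orders5 : specWords.all (fun w => ordOK ([21] ++ w)) = true := by decide +kernel

theorem specReps_eq : specReps = [[], [10], [10, 13], [19], [20], [21]] := rfl

theorem spec_orders {r w : List ℕ} (hr : r ∈ specReps) (hw : w ∈ specWords) :
    ordOK (r ++ w) = true := by
  rw [specReps_eq] at hr
  simp only [List.mem_cons, List.not_mem_nil, or_false] at hr
  rcases hr with rfl | rfl | rfl | rfl | rfl | rfl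
  · exact List.all_eq_true.1 spec_orders0 w hw
  · exact List.all_eq_true.1 spec_orders1 w hw
  · exact List.all_eq_true.1 spec_orders2 w hw
  · exact List.all_eq_true.1 spec_orders3 w hw
  · exact List.all_eq_true.1 spec_orders4 w hw
  · exact List.all_eq_true.1 spec_orders5 w hw

end Cfsg.Agent.Lib.Helper26_Ico
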