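import Cfsg.Agent.Lib.Helper26_IcoCent
import Cfsg.Agent.Lib.Helper26_IcoSpecData
import Cfsg.Agent.Lib.Helper26_IcoSpecC0
import Cfsg.Agent.Lib.Helper26_IcoSpecC1
import Cfsg.Agent.Lib.Helper26_IcoSpecC2
import Cfsg.Agent.Lib.Helper26_IcoSpecC3
import Cfsg.Agent.Lib.Helper26_IcoSpecC4
import Cfsg.Agent.Lib.Helper26_IcoSpecC5

/-!
# Element orders of `J₂`: certified permutation tables (helper26)
The 22 reflections `specGens` act on the 315 lines as recorded in the tries `specTabs`.
-/

set_option autoImplicit false
set_option linter.constructorNameAsVariable false

namespace Cfsg.Agent.Lib.Helper26_Ico

open Quaternion Cfsg.Spor MulAction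

/-- The reflection at position `p`. -/
def genAt (p : ℕ) : ℕ := specGens.getD p 0

/-- The image of line `j` under the reflection at position `p`. -/
def tab (p j : ℕ) : ℕ := (specTabs.getD p (Tr.L 315)).get 9 j

/-- Shape check of a certificate list against a reflection index and a trie. -/
def shapeOK (k : ℕ) (c : List (ℕ × ℕ × ℕ × List ℤ)) (t : Tr) : Bool :=
  (List.range 315).all fun i =>
    ((c.getD i (315, 315, 315, [])).1 == i) && ((c.getD i (315, 315, 315, [])).2.1 == k) &&
      ((c.getD i (315, 315, 315, [])).2.2.1 == t.get 9 i)

theorem tab_sound_aux (k : ℕ) (c : List (ℕ × ℕ × ℕ × List ℤ)) (t : Tr)
    (hok : c.all edgeOK = true) (hlen : c.length = 315) (hshape : shapeOK k c t = true)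
    {i : ℕ} (hi : i < 315) : (Rn k).toJ • Rn i = Rn (t.get 9 i) ∧ t.get 9 i < 315 := by
  have hi' : i < c.length := by rw [hlen]; exact hi
  have hm : c.getD i (315, 315, 315, []) ∈ c := by
    rw [List.getD_eq_getElem _ _ hi']; exact List.getElem_mem hi'
  have he : edgeOK (c.getD i (315, 315, 315, [])) = true := List.all_eq_true.1 hok _ hm
  have hs := List.all_eq_true.1 hshape i (List.mem_range.2 hi)
  simp only [Bool.and_eq_true, beq_iff_eq] at hs
  have h1 := edge1_sound he
  have h2 := (edge_lt he).2.2
  rw [hs.1.1, hs.1.2, hs.2] at h1
  rw [hs.2] at h2
  exact ⟨h1, h2⟩

theorem specCert1_ok : specCert1.all edgeOK = true := by decide +kernel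
theorem specCert1_len : specCert1.length = 315 := by decide +kernel
theorem specCert1_shape : shapeOK 1 specCert1 specTab1 = true := by decide +kernel

theorem specCert2_ok : specCert2.all edgeOK = true := by decide +kernel
theorem specCert2_len : specCert2.length = 315 := by decide +kernel
theorem specCert2_shape : shapeOK 2 specCert2 specTab2 = true := by decide +kernel

theorem specCert3_ok : specCert3.all edgeOK = true := by decide +kernel
theorem specCert3_len : specCert3.length = 315 := by decide +kernel
theorem specCert3_shape : shapeOK 3 specCert3 specTab3 = true := by decide +kernel

theorem specCert4_ok : specCert4.all edgeOK = true := by decide +kernel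
theorem specCert4_len : specCert4.length = 315 := by decide +kernel
theorem specCert4_shape : shapeOK 4 specCert4 specTab4 = true := by decide +kernel

theorem specCert5_ok : specCert5.all edgeOK = true := by decide +kernel
theorem specCert5_len : specCert5.length = 315 := by decide +kernel
theorem specCert5_shape : shapeOK 5 specCert5 specTab5 = true := by decide +kernel

theorem specCert6_ok : specCert6.all edgeOK = true := by decide +kernel
theorem specCert6_len : specCert6.length = 315 := by decide +kernel
theorem specCert6_shape : shapeOK 6 specCert6 specTab6 = true := by decide +kernel

theorem specCert7_ok : specCert7.all edgeOK = true := by decide +kernel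
theorem specCert7_len : specCert7.length = 315 := by decide +kernel
theorem specCert7_shape : shapeOK 7 specCert7 specTab7 = true := by decide +kernel

theorem specCert8_ok : specCert8.all edgeOK = true := by decide +kernel
theorem specCert8_len : specCert8.length = 315 := by decide +kernel
theorem specCert8_shape : shapeOK 8 specCert8 specTab8 = true := by decide +kernel

theorem specCert9_ok : specCert9.all edgeOK = true := by decide +kernel
theorem specCert9_len : specCert9.length = 315 := by decide +kernel
theorem specCert9_shape : shapeOK 9 specCert9 specTab9 = true := by decide +kernel

theorem specCert10_ok : specCert10.all edgeOK = true := by decide +kernel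
theorem specCert10_len : specCert10.length = 315 := by decide +kernel
theorem specCert10_shape : shapeOK 10 specCert10 specTab10 = true := by decide +kernel

theorem specCert11_ok : specCert11.all edgeOK = true := by decide +kernel
theorem specCert11_len : specCert11.length = 315 := by decide +kernel
theorem specCert11_shape : shapeOK 11 specCert11 specTab11 = true := by decide +kernel

theorem specCert12_ok : specCert12.all edgeOK = true := by decide +kernel
theorem specCert12_len : specCert12.length = 315 := by decide +kernel
theorem specCert12_shape : shapeOK 12 specCert12 specTab12 = true := by decide +kernel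

theorem specCert13_ok : specCert13.all edgeOK = true := by decide +kernel
theorem specCert13_len : specCert13.length = 315 := by decide +kernel
theorem specCert13_shape : shapeOK 13 specCert13 specTab13 = true := by decide +kernel

theorem specCert187_ok : specCert187.all edgeOK = true := by decide +kernel
theorem specCert187_len : specCert187.length = 315 := by decide +kernel
theorem specCert187_shape : shapeOK 187 specCert187 specTab187 = true := by decide +kernel

theorem specCert207_ok : specCert207.all edgeOK = true := by decide +kernel
theorem specCert207_len : specCert207.length = 315 := by decide +kernel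
theorem specCert207_shape : shapeOK 207 specCert207 specTab207 = true := by decide +kernel

theorem specCert250_ok : specCert250.all edgeOK = true := by decide +kernel
theorem specCert250_len : specCert250.length = 315 := by decide +kernel
theorem specCert250_shape : shapeOK 250 specCert250 specTab250 = true := by decide +kernel

theorem specCert204_ok : specCert204.all edgeOK = true := by decide +kernel
theorem specCert204_len : specCert204.length = 315 := by decide +kernel
theorem specCert204_shape : shapeOK 204 specCert204 specTab204 = true := by decide +kernel

theorem specCert246_ok : specCert246.all edgeOK = true := by decide +kernel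
theorem specCert246_len : specCert246.length = 315 := by decide +kernel
theorem specCert246_shape : shapeOK 246 specCert246 specTab246 = true := by decide +kernel

theorem specCert262_ok : specCert262.all edgeOK = true := by decide +kernel
theorem specCert262_len : specCert262.length = 315 := by decide +kernel
theorem specCert262_shape : shapeOK 262 specCert262 specTab262 = true := by decide +kernel

theorem specCert186_ok : specCert186.all edgeOK = true := by decide +kernel
theorem specCert186_len : specCert186.length = 315 := by decide +kernel
theorem specCert186_shape : shapeOK 186 specCert186 specTab186 = true := by decide +kernel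

theorem specCert300_ok : specCert300.all edgeOK = true := by decide +kernel
theorem specCert300_len : specCert300.length = 315 := by decide +kernel
theorem specCert300_shape : shapeOK 300 specCert300 specTab300 = true := by decide +kernel

theorem specCert288_ok : specCert288.all edgeOK = true := by decide +kernel
theorem specCert288_len : specCert288.length = 315 := by decide +kernel
theorem specCert288_shape : shapeOK 288 specCert288 specTab288 = true := by decide +kernel

/-- The tables are sound: the reflection at position `p` maps line `i` to line `tab p i`. -/
theorem tab_sound {p i : ℕ} (hp : p < 22) (hi : i < 315) :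
    (Rn (genAt p)).toJ • Rn i = Rn (tab p i) ∧ tab p i < 315 := by
  interval_cases p
  · exact tab_sound_aux 1 specCert1 specTab1 specCert1_ok specCert1_len specCert1_shape hi
  · exact tab_sound_aux 2 specCert2 specTab2 specCert2_ok specCert2_len specCert2_shape hi
  · exact tab_sound_aux 3 specCert3 specTab3 specCert3_ok specCert3_len specCert3_shape hi
  · exact tab_sound_aux 4 specCert4 specTab4 specCert4_ok specCert4_len specCert4_shape hi
  · exact tab_sound_aux 5 specCert5 specTab5 specCert5_ok specCert5_len specCert5_shape hi
  · exact tab_sound_aux 6 specCert6 specTab6 specCert6_ok specCert6_len specCert6_shape hi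
  · exact tab_sound_aux 7 specCert7 specTab7 specCert7_ok specCert7_len specCert7_shape hi
  · exact tab_sound_aux 8 specCert8 specTab8 specCert8_ok specCert8_len specCert8_shape hi
  · exact tab_sound_aux 9 specCert9 specTab9 specCert9_ok specCert9_len specCert9_shape hi
  · exact tab_sound_aux 10 specCert10 specTab10 specCert10_ok specCert10_len specCert10_shape hi
  · exact tab_sound_aux 11 specCert11 specTab11 specCert11_ok specCert11_len specCert11_shape hi
  · exact tab_sound_aux 12 specCert12 specTab12 specCert12_ok specCert12_len specCert12_shape hi
  · exact tab_sound_aux 13 specCert13 specTab13 specCert13_ok specCert13_len specCert13_shape hi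
  · exact tab_sound_aux 187 specCert187 specTab187 specCert187_ok specCert187_len specCert187_shape hi
  · exact tab_sound_aux 207 specCert207 specTab207 specCert207_ok specCert207_len specCert207_shape hi
  · exact tab_sound_aux 250 specCert250 specTab250 specCert250_ok specCert250_len specCert250_shape hi
  · exact tab_sound_aux 204 specCert204 specTab204 specCert204_ok specCert204_len specCert204_shape hi
  · exact tab_sound_aux 246 specCert246 specTab246 specCert246_ok specCert246_len specCert246_shape hi
  · exact tab_sound_aux 262 specCert262 specTab262 specCert262_ok specCert262_len specCert262_shape hi
  · exact tab_sound_aux 186 specCert186 specTab186 specCert186_ok specCert186_len specCert186_shape hi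
  · exact tab_sound_aux 300 specCert300 specTab300 specCert300_ok specCert300_len specCert300_shape hi
  · exact tab_sound_aux 288 specCert288 specTab288 specCert288_ok specCert288_len specCert288_shape hi

end Cfsg.Agent.Lib.Helper26_Ico
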