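import Cfsg.Agent.Lib.Helper26_IcoConj
import Cfsg.Agent.Lib.Helper26_IcoConjData

/-!
# All reflections of the icosian Leech lattice are conjugate in `2·J₂` (helper26)
-/

set_option autoImplicit false
set_option linter.constructorNameAsVariable false

namespace Cfsg.Agent.Lib.Helper26_Ico

open Quaternion Cfsg.Spor

/-! ### Reflections in coordinates -/

def qipZ (w μ : Fin 3 → Fin 8 → ℤ) : Fin 8 → ℤ :=
  mulZ (w 0) (conjZ (μ 0)) + mulZ (w 1) (conjZ (μ 1)) + mulZ (w 2) (conjZ (μ 2))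

def reflZ (μ w : Fin 3 → Fin 8 → ℤ) : Fin 3 → Fin 8 → ℤ :=
  fun t => w t - half (mulZ (quot4 (qipZ w μ)) (μ t))

def lsmulZ (υ : Fin 8 → ℤ) (w : Fin 3 → Fin 8 → ℤ) : Fin 3 → Fin 8 → ℤ :=
  fun t => half (mulZ υ (w t))

def qipl (x m : List ℤ) : List ℤ :=
  addl (addl (mulZl (blk0 x) (conjZl (blk0 m))) (mulZl (blk1 x) (conjZl (blk1 m))))
    (mulZl (blk2 x) (conjZl (blk2 m)))

def refll (m x : List ℤ) : List ℤ :=
  subl (blk0 x) (halfl (mulZl (quot4l (qipl x m)) (blk0 m))) ++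
  subl (blk1 x) (halfl (mulZl (quot4l (qipl x m)) (blk1 m))) ++
  subl (blk2 x) (halfl (mulZl (quot4l (qipl x m)) (blk2 m)))

def lsmull (u L : List ℤ) : List ℤ :=
  halfl (mulZl u (blk0 L)) ++ halfl (mulZl u (blk1 L)) ++ halfl (mulZl u (blk2 L))

theorem qipl_toL3 (w μ : Fin 3 → Fin 8 → ℤ) : qipl (toL3 w) (toL3 μ) = toL (qipZ w μ) := rfl

theorem refll_toL3 (μ w : Fin 3 → Fin 8 → ℤ) : refll (toL3 μ) (toL3 w) = toL3 (reflZ μ w) := rfl

theorem lsmull_toL3 (υ : Fin 8 → ℤ) (w : Fin 3 → Fin 8 → ℤ) :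
    lsmull (toL υ) (toL3 w) = toL3 (lsmulZ υ w) := rfl

theorem toL3_inj {w w' : Fin 3 → Fin 8 → ℤ} (h : toL3 w = toL3 w') : w = w' := by
  rw [← ofL3_toL3 w, h, ofL3_toL3]

theorem toH_half_mulZ {a b : Fin 8 → ℤ} (ha : inIZ a) (hb : inIZ b) :
    toH (half (mulZ a b)) = toH a * toH b := by
  obtain ⟨x, -, e⟩ := mulZ_closed ha hb
  rw [toH_mul_of_eq e, e, half_two_smul]

theorem toH3_lsmulZ {υ : Fin 8 → ℤ} {w : Fin 3 → Fin 8 → ℤ} (hυ : inIZ υ) (hw : ∀ t, inIZ (w t)) :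
    toH3 (lsmulZ υ w) = lsmul (toH υ) (toH3 w) := by
  funext t
  simp only [toH3_apply, lsmulZ, lsmul_apply]
  exact toH_half_mulZ hυ (hw t)

theorem inLam_inIZ {w : Fin 3 → Fin 8 → ℤ} (hw : inLam w) (t : Fin 3) : inIZ (w t) := by
  obtain ⟨⟨h0, h1, h2⟩, -⟩ := hw
  fin_cases t
  · exact h0
  · exact h1
  · exact h2

theorem inIZ_conjZ {v : Fin 8 → ℤ} (hv : inIZ v) : inIZ (conjZ v) := by
  unfold inIZ at *
  simp only [conjZ, Matrix.cons_val]
  omega

theorem qip_toH3 (w μ : Fin 3 → Fin 8 → ℤ) :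
    qip (toH3 w) (toH3 μ) = (1 / 2 : ℝ) • toH (qipZ w μ) := by
  rw [qip_def]
  simp only [toH3_apply, toH_conj, toH_mul, qipZ, toH_add, smul_add]

theorem toH3_reflZ {μ w : Fin 3 → Fin 8 → ℤ} (hμ : inLam μ) (hw : inLam w) :
    toH3 (reflZ μ w) = qrefl (toH3 μ) (toH3 w) := by
  have hmem := qip_half_mem ((toH3_mem_iff w).2 hw) ((toH3_mem_iff μ).2 hμ)
  rw [qip_toH3, smul_smul] at hmem
  norm_num at hmem
  obtain ⟨d4, hq⟩ := (quarter_mem_iff _).1 hmem
  have e4 := eq_four_smul_quot4 d4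
  have hc : (1 / 2 : ℝ) • qip (toH3 w) (toH3 μ) = toH (quot4 (qipZ w μ)) := by
    rw [qip_toH3, smul_smul]
    conv_lhs => rw [e4]
    rw [toH_zsmul, ← Int.cast_smul_eq_zsmul ℝ, smul_smul]
    norm_num
  funext t
  simp only [toH3_apply, reflZ, qrefl, toH_sub]
  rw [hc, toH_half_mulZ hq (inLam_inIZ hμ t)]

/-! ### The certificate -/

def lineAt (n : ℕ) : List ℤ := LinesL.getD n []

def edgeOK (e : ℕ × ℕ × ℕ × List ℤ) : Bool :=
  decide (e.1 < 315) && decide (e.2.1 < 315) && decide (e.2.2.1 < 315) && decide (e.2.2.2 ∈ UZl) &&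
    decide (refll (lineAt e.2.1) (lineAt e.1) = lsmull e.2.2.2 (lineAt e.2.2.1))

def reachStep (acc : List ℕ) (e : ℕ × ℕ × ℕ × List ℤ) : List ℕ :=
  if acc.contains e.1 && edgeOK e then e.2.2.1 :: acc else acc

def reach (cert : List (ℕ × ℕ × ℕ × List ℤ)) (acc : List ℕ) : List ℕ := cert.foldl reachStep acc

def allReached (R : List ℕ) : Bool := (List.range 315).all fun i => R.contains i

theorem conjCert_ok : allReached (reach conjCert [0]) = true := by decide +kernel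

theorem lineAt_mem {n : ℕ} (h : n < 315) : lineAt n ∈ LinesL := by
  have h' : n < LinesL.length := by rw [LinesL_length]; exact h
  rw [lineAt, List.getD_eq_getElem _ _ h']
  exact List.getElem_mem h'

theorem exists_lineAt {L : List ℤ} (hL : L ∈ LinesL) : ∃ n, n < 315 ∧ lineAt n = L := by
  obtain ⟨n, hn, e⟩ := List.getElem_of_mem hL
  refine ⟨n, by rw [← LinesL_length]; exact hn, ?_⟩
  rw [lineAt, List.getD_eq_getElem _ _ hn, e]

theorem toL3_ofL3 {L : List ℤ} (hL : L ∈ LinesL) : toL3 (ofL3 L) = L := by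
  obtain ⟨h24, -⟩ := Lines_sound L hL
  obtain ⟨e0, e1, e2⟩ := toL_ofL3 h24
  rw [toL3, e0, e1, e2, blk0, blk1, blk2]
  have : L.drop 16 = (L.drop 8).drop 8 := by rw [List.drop_drop]
  rw [this, List.append_assoc, List.take_append_drop, List.take_append_drop]

theorem line_inLam {L : List ℤ} (hL : L ∈ LinesL) : inLam (ofL3 L) :=
  (toH3_mem_iff _).1 (line_mem hL).1

/-- The property propagated along the tree. -/
def ConjTo (L : List ℤ) : Prop :=
  ∃ g ∈ twoJ2, g * lineRefl (lineAt 0) * g⁻¹ = lineRefl L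

theorem edge_sound {e : ℕ × ℕ × ℕ × List ℤ} (he : edgeOK e = true) (hj : ConjTo (lineAt e.1)) :
    ConjTo (lineAt e.2.2.1) := by
  obtain ⟨j, k, i, u⟩ := e
  simp only [edgeOK, Bool.and_eq_true, decide_eq_true_eq] at he
  obtain ⟨⟨⟨⟨hj', hk'⟩, hi'⟩, hu⟩, heq⟩ := he
  have mj := lineAt_mem hj'
  have mk := lineAt_mem hk'
  have mi := lineAt_mem hi'
  obtain ⟨huI, hun, hue⟩ := unit_mem hu
  -- translate the list equation
  rw [← toL3_ofL3 mk, ← toL3_ofL3 mj, ← toL3_ofL3 mi, ← hue, refll_toL3, lsmull_toL3] at heq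
  have hZ := toL3_inj heq
  have hH : qrefl (toH3 (ofL3 (lineAt k))) (toH3 (ofL3 (lineAt j))) =
      lsmul (toH (ofL u)) (toH3 (ofL3 (lineAt i))) := by
    rw [← toH3_reflZ (line_inLam mk) (line_inLam mj), hZ,
      toH3_lsmulZ ((toH_mem_iff _).1 huI) (inLam_inIZ (line_inLam mi))]
  obtain ⟨g, hg, hgc⟩ := hj
  refine ⟨lineRefl (lineAt k) * g, mul_mem ?_ hg, ?_⟩
  · rw [lineRefl_eq mk]; exact reflPerm_mem_twoJ2 _ _ _
  · have hgrp : lineRefl (lineAt k) * g * lineRefl (lineAt 0) * (lineRefl (lineAt k) * g)⁻¹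
        = lineRefl (lineAt k) * (g * lineRefl (lineAt 0) * g⁻¹) * (lineRefl (lineAt k))⁻¹ := by
      group
    rw [hgrp, hgc]
    show lineRefl (lineAt k) * lineRefl (lineAt j) * (lineRefl (lineAt k))⁻¹ = lineRefl (lineAt i)
    rw [lineRefl_eq mk, lineRefl_eq mj, lineRefl_eq mi, reflPerm_conj]
    apply reflPerm_congr
    intro x
    rw [hH, qrefl_lsmul (unit_of_normSq_one hun).1]

theorem reach_sound (cert : List (ℕ × ℕ × ℕ × List ℤ)) :
    ∀ acc : List ℕ, (∀ n ∈ acc, ConjTo (lineAt n)) → ∀ n ∈ reach cert acc, ConjTo (lineAt n) := by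
  induction cert with
  | nil => intro acc h; exact h
  | cons e cert ih =>
    intro acc h
    rw [reach, List.foldl_cons]
    apply ih
    intro n hn
    unfold reachStep at hn
    split_ifs at hn with hc
    · rw [Bool.and_eq_true] at hc
      rcases List.mem_cons.1 hn with rfl | hn
      · exact edge_sound hc.2 (h _ (by simpa using hc.1))
      · exact h n hn
    · exact h n hn

theorem conjTo_all {L : List ℤ} (hL : L ∈ LinesL) : ConjTo L := by
  obtain ⟨n, hn, rfl⟩ := exists_lineAt hL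
  have h0 : ∀ m ∈ [0], ConjTo (lineAt m) := by
    intro m hm
    rw [List.mem_singleton] at hm
    subst hm
    exact ⟨1, one_mem _, by simp⟩
  have := reach_sound conjCert [0] h0
  apply this
  have hall := conjCert_ok
  rw [allReached, List.all_eq_true] at hall
  have := hall n (List.mem_range.2 hn)
  simpa using this

/-- Any two reflections are conjugate in `2·J₂`. -/
theorem reflections_conj (f f' : Equiv.Perm icoLeech) (hf : IsIcoReflection f)
    (hf' : IsIcoReflection f') : ∃ g ∈ twoJ2, g * f * g⁻¹ = f' := by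
  have h1 : f ∈ {f : Equiv.Perm icoLeech | IsIcoReflection f} := hf
  have h2 : f' ∈ {f : Equiv.Perm icoLeech | IsIcoReflection f} := hf'
  rw [refl_set_eq] at h1 h2
  obtain ⟨L, hL, rfl⟩ := h1
  obtain ⟨L', hL', rfl⟩ := h2
  simp only [List.coe_toFinset, Set.mem_ofPred_eq] at hL hL'
  obtain ⟨g, hg, e⟩ := conjTo_all hL
  obtain ⟨g', hg', e'⟩ := conjTo_all hL'
  refine ⟨g' * g⁻¹, mul_mem hg' (inv_mem hg), ?_⟩
  rw [← e, ← e']
  group

end Cfsg.Agent.Lib.Helper26_Ico
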