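import Cfsg.Agent.Lib.Helper26_J2MSyl
import Cfsg.Agent.Lib.Helper26_IcoCent3
import Cfsg.Agent.Lib.Helper26_FusLocalDefs
import Cfsg.Agent.Lib.Helper32_PGroup

/-!
# The local hypotheses `FusLocal` for a Sylow 2-subgroup of `J₂` (helper26)

`T = ⟨b, a, x₄, x₃, x₂, x₁, z⟩` (order 128) is a Sylow 2-subgroup of `J₂` contained in the
centralizer `St` of the 2A-involution `z`; `Q = O₂(St)` (order 32, `St / Q ≅ A₅`).

* `C_{J₂}(Q) = ⟨z⟩`, so `Z(T) = ⟨z⟩` and `N(T) ≤ C(z) = St`, which normalizes `Q`;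
* `St` is the normal closure of `T` in `St` since `St / Q ≅ A₅` is simple;
* a non-trivial strongly closed subgroup of `T` contains `z`, hence its conjugates `x₁, …, x₄`, and
  then `a` and `b` because two elements of order 4 of `Q` are conjugate in `J₂` to elements of
  `a Q` and `b Q`.
-/

set_option autoImplicit false
set_option linter.unusedSimpArgs false

namespace Cfsg.Agent.Lib.Helper26_J2F

open Cfsg Cfsg.Spor Cfsg.Agent.Lib.Helper26_Ico Cfsg.Agent.Lib.Helper26_FusLocal
open scoped commutatorElement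

/-! ### General group theory -/

section General

variable {G : Type*} [Group G]

/-- Conjugation by `n` maps a finite subgroup `H` into itself, hence onto itself. -/
theorem exists_conj_of_finite (H : Subgroup G) [Finite H] (n : G)
    (hn : ∀ s ∈ H, n * s * n⁻¹ ∈ H) : ∀ q ∈ H, ∃ s ∈ H, q = n * s * n⁻¹ := by
  let f : H → H := fun s => ⟨n * s * n⁻¹, hn s s.2⟩
  have hf : Function.Injective f := by
    intro a b hab
    have h1 : n * (a : G) * n⁻¹ = n * (b : G) * n⁻¹ := congrArg Subtype.val hab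
    apply Subtype.ext
    have h2 := mul_right_cancel h1
    exact mul_left_cancel h2
  have hs := Finite.surjective_of_injective hf
  intro q hq
  obtain ⟨s, hs⟩ := hs ⟨q, hq⟩
  exact ⟨s, s.2, (congrArg Subtype.val hs).symm⟩

/-- In a group of order 1920 with a normal subgroup `Q` of order 32 and `C ⧸ Q ≃* A₅`, the normal
closure of a subgroup of order 128 is everything. -/
theorem normalClosure_eq_top {C : Type*} [Group C] [Finite C] (hC : Nat.card C = 1920)
    (Q : Subgroup C) [Q.Normal] (hQ : Nat.card Q = 32)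
    (f : C ⧸ Q ≃* ↥(alternatingGroup (Fin 5))) (S : Subgroup C) (hS : Nat.card S = 128) :
    Subgroup.normalClosure (S : Set C) = ⊤ := by
  set N := Subgroup.normalClosure (S : Set C) with hN
  have hSN : S ≤ N := Subgroup.le_normalClosure
  have hNn : N.Normal := Subgroup.normalClosure_normal
  have hsimple : IsSimpleGroup (C ⧸ Q) := by
    have : IsSimpleGroup ↥(alternatingGroup (Fin 5)) := alternatingGroup.isSimpleGroup (by simp)
    exact f.isSimpleGroup
  have hMn : (N.map (QuotientGroup.mk' Q)).Normal :=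
    Subgroup.Normal.map hNn _ (QuotientGroup.mk'_surjective Q)
  rcases hMn.eq_bot_or_eq_top with h | h
  · exfalso
    rw [Subgroup.map_eq_bot_iff, QuotientGroup.ker_mk'] at h
    have h1 := Subgroup.card_le_of_le (hSN.trans h)
    rw [hS, hQ] at h1
    omega
  · have h1 : N ⊔ Q = ⊤ := by
      have := Subgroup.comap_map_eq (QuotientGroup.mk' Q) N
      rw [h, Subgroup.comap_top, QuotientGroup.ker_mk'] at this
      exact this.symm
    have h2 : N.index = N.relIndex Q := by
      rw [← Subgroup.relIndex_top_right, ← h1, Subgroup.relIndex_sup_left]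
    have h3 : N.index ∣ 32 := by
      rw [h2, ← hQ]
      exact Subgroup.index_dvd_card _
    have h4 : N.index ∣ 15 := by
      have h5 : S.index = 15 := by
        have := Subgroup.card_mul_index S
        rw [hS, hC] at this
        omega
      rw [← h5]
      exact Subgroup.index_dvd_of_le hSN
    have h5 : N.index = 1 := Nat.eq_one_of_dvd_coprimes (by norm_num : Nat.Coprime 32 15) h3 h4
    exact Subgroup.index_eq_one.mp h5

/-- A normal `p`-subgroup lies in every Sylow `p`-subgroup. -/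
theorem normal_le_sylow [Finite G] {p : ℕ} [Fact p.Prime] (P : Sylow p G) (N : Subgroup G)
    [N.Normal] (hN : IsPGroup p N) : N ≤ P := by
  have h := IsPGroup.to_sup_of_normal_right P.2 hN
  have e := P.is_maximal' h le_sup_left
  calc N ≤ (P : Subgroup G) ⊔ N := le_sup_right
    _ = P := e

/-- A non-trivial strongly closed subgroup of a finite `p`-subgroup `S` contains a non-trivial
element of the centre of `S`. -/
theorem exists_central_of_stronglyClosed (p : ℕ) [Fact p.Prime] (S T : Subgroup G) [Finite S]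
    (hS : IsPGroup p S) (hT : T ≤ S) (hT1 : T ≠ ⊥)
    (hsc : ∀ t ∈ T, ∀ g : G, g * t * g⁻¹ ∈ S → g * t * g⁻¹ ∈ T) :
    ∃ z ∈ T, z ≠ 1 ∧ ∀ s ∈ S, s * z = z * s := by
  have hN : (T.subgroupOf S).Normal := by
    refine ⟨fun n hn g => ?_⟩
    rw [Subgroup.mem_subgroupOf] at hn ⊢
    exact hsc n.1 hn g.1 (mul_mem (mul_mem g.2 n.2) (inv_mem g.2))
  have hN1 : T.subgroupOf S ≠ ⊥ := by
    intro h
    apply hT1
    rw [Subgroup.eq_bot_iff_forall]
    intro t ht
    have h1 : (⟨t, hT ht⟩ : S) ∈ T.subgroupOf S := by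
      rw [Subgroup.mem_subgroupOf]
      exact ht
    rw [h, Subgroup.mem_bot] at h1
    exact congrArg Subtype.val h1
  obtain ⟨z, hz, hzc, hz1⟩ :=
    Cfsg.Agent.Lib.Helper32_PGroup.exists_mem_center_of_normal hS (T.subgroupOf S) hN1
  refine ⟨z.1, ?_, ?_, ?_⟩
  · rw [Subgroup.mem_subgroupOf] at hz
    exact hz
  · intro h
    exact hz1 (Subtype.ext h)
  · intro s hs
    have := Subgroup.mem_center_iff.mp hzc ⟨s, hs⟩
    exact congrArg Subtype.val this

end General

/-! ### The centralizer of `z` and `O₂` -/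

theorem hinj : Function.Injective Refl.toJ :=
  toJ_injective Cfsg.Agent.S1619.result.2.1 Cfsg.Agent.S1619.result.2.2.1

theorem h32 : Nat.card QSt = 32 :=
  have := finite_J2
  (card_quot_QSt card_St').1

theorem jz_eq : jz = (Rn 0).toJ := by
  have := finite_J2
  have e : jz = wordJ [2, 1] := rfl
  rw [e, word21 h32]

theorem mem_St_of_comm {c : J2} (h : c * (Rn 0).toJ = (Rn 0).toJ * c) : c ∈ St := by
  rw [← centralizer_eq_St hinj, Subgroup.mem_centralizer_singleton_iff]
  exact h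

/-- `O₂(C(z))` as a subgroup of `J₂`. -/
noncomputable def Qj : Subgroup J2 := QSt.map St.subtype

theorem c0_mem_Qj : (Rn 0).toJ ∈ Qj := ⟨c0St, c0St_mem, rfl⟩

theorem refl_mem_Qj {k : ℕ} (hk : k ∈ Tl) : (Rn k).toJ ∈ Qj :=
  ⟨(qQ k hk).1, (qQ k hk).2, qQ_val k hk⟩

/-- The centralizer of `Q` in `J₂` is `{1, z}`. -/
theorem cent_Qj (c : J2) (hc : ∀ q ∈ Qj, c * q = q * c) : c = 1 ∨ c = (Rn 0).toJ := by
  have := finite_J2
  have hcS : c ∈ St := mem_St_of_comm (hc _ c0_mem_Qj)
  have hfix : FixT c := by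
    intro k hk
    exact fix_of_comm hinj (Tl_lt hk) (hc _ (refl_mem_Qj hk))
  have hcQ : (⟨c, hcS⟩ : St) ∈ QSt := by
    rw [mem_QSt_iff]
    intro b
    show frF (actN c (rep b)) = b
    rw [hfix _ (rep_mem b), frF_rep]
  rcases claimK h32 ⟨⟨c, hcS⟩, hcQ⟩ hfix with h | h
  · left
    exact congrArg (fun g : QSt => (g.1.1 : J2)) h
  · right
    exact congrArg (fun g : QSt => (g.1.1 : J2)) h

theorem conj_mem_Qj {n : J2} (hn : n ∈ St) {q : J2} (hq : q ∈ Qj) : n * q * n⁻¹ ∈ Qj := by
  obtain ⟨q', hq', rfl⟩ := hq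
  have h : (⟨n, hn⟩ : St) * q' * (⟨n, hn⟩ : St)⁻¹ ∈ QSt :=
    (inferInstance : QSt.Normal).conj_mem q' hq' ⟨n, hn⟩
  exact ⟨_, h, rfl⟩

/-! ### The Sylow subgroup `T` -/

theorem jz_mem_St : jz ∈ St := by
  rw [jz_eq]
  exact c0_mem_St

theorem subT_le_St : subT ≤ St := by
  unfold subT
  rw [Subgroup.closure_le]
  intro y hy
  simp only [Set.mem_insert_iff, Set.mem_singleton_iff] at hy
  apply mem_St_of_comm
  rw [← jz_eq]
  have hx : jx * jz = jz * jx := r_zx.symm
  have ha : ja * jz = jz * ja := r_za.symm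
  have hb : jb * jz = jz * jb := r_zb.symm
  have hai : ja⁻¹ * jz = jz * ja⁻¹ := by
    rw [inv_mul_eq_iff_eq_mul, ← mul_assoc, ha, mul_assoc, mul_inv_cancel, mul_one]
  have hbi : jb⁻¹ * jz = jz * jb⁻¹ := by
    rw [inv_mul_eq_iff_eq_mul, ← mul_assoc, hb, mul_assoc, mul_inv_cancel, mul_one]
  rcases hy with rfl | rfl | rfl | rfl | rfl | rfl | rfl
  · exact hb
  · exact ha
  · unfold jx4
    rw [mul_inv_rev]
    calc ja * jb * jx * (jb⁻¹ * ja⁻¹) * jz = ja * jb * jx * (jb⁻¹ * (ja⁻¹ * jz)) := by group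
      _ = ja * jb * jx * (jb⁻¹ * jz) * ja⁻¹ := by rw [hai]; group
      _ = ja * jb * (jx * jz) * jb⁻¹ * ja⁻¹ := by rw [hbi]; group
      _ = ja * (jb * jz) * jx * jb⁻¹ * ja⁻¹ := by rw [hx]; group
      _ = (ja * jz) * jb * jx * jb⁻¹ * ja⁻¹ := by rw [hb]; group
      _ = jz * (ja * jb * jx * (jb⁻¹ * ja⁻¹)) := by rw [ha]; group
  · unfold jx3
    calc jb * jx * jb⁻¹ * jz = jb * jx * (jb⁻¹ * jz) := by group
      _ = jb * (jx * jz) * jb⁻¹ := by rw [hbi]; group
      _ = (jb * jz) * jx * jb⁻¹ := by rw [hx]; group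
      _ = jz * (jb * jx * jb⁻¹) := by rw [hb]; group
  · unfold jx2
    calc ja * jx * ja⁻¹ * jz = ja * jx * (ja⁻¹ * jz) := by group
      _ = ja * (jx * jz) * ja⁻¹ := by rw [hai]; group
      _ = (ja * jz) * jx * ja⁻¹ := by rw [hx]; group
      _ = jz * (ja * jx * ja⁻¹) := by rw [ha]; group
  · exact hx
  · rfl

theorem finite_subT : Finite subT := by
  have := finite_J2
  infer_instance

theorem isPGroup_subT : IsPGroup 2 subT := by
  have : Fact (Nat.Prime 2) := ⟨Nat.prime_two⟩
  exact IsPGroup.of_card (n := 7) (by rw [card_subT]; norm_num)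

theorem factorization_1920 : (1920 : ℕ).factorization 2 = 7 := by
  rw [show (1920 : ℕ) = 2 ^ 7 * 15 by norm_num,
    Nat.factorization_mul (by norm_num) (by norm_num), Nat.Prime.factorization_pow Nat.prime_two]
  simp [Nat.factorization_eq_zero_of_not_dvd]

theorem Qj_le_subT : Qj ≤ subT := by
  have := finite_J2
  have : Fact (Nat.Prime 2) := ⟨Nat.prime_two⟩
  have hcard : Nat.card (subT.subgroupOf St) = 2 ^ (Nat.card St).factorization 2 := by
    rw [card_St', factorization_1920, Nat.card_congr (Subgroup.subgroupOfEquivOfLe subT_le_St).toEquiv,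
      card_subT]
    norm_num
  have hQ : IsPGroup 2 QSt := IsPGroup.of_card (n := 5) (by rw [h32]; norm_num)
  have h := normal_le_sylow (Sylow.ofCard (subT.subgroupOf St) hcard) QSt hQ
  rintro _ ⟨q, hq, rfl⟩
  have h1 := h hq
  rw [Sylow.coe_ofCard, Subgroup.mem_subgroupOf] at h1
  exact h1

theorem jz_mem_Qj : jz ∈ Qj := by
  rw [jz_eq]
  exact c0_mem_Qj

theorem jz_ne_one : jz ≠ 1 := by
  rw [jz_eq]
  exact c0_ne_one

/-- Elements normalizing `T` centralize `z`. -/
theorem mem_St_of_norm (n : J2) (hn : ∀ s ∈ subT, n * s * n⁻¹ ∈ subT) : n ∈ St := by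
  have hfin := finite_subT
  apply mem_St_of_comm
  rw [← jz_eq]
  have hcomm : ∀ s ∈ subT, s * jz = jz * s := by
    intro s hs
    have h := St_comm (subT_le_St hs)
    rwa [← jz_eq] at h
  have hcent : ∀ q ∈ Qj, (n * jz * n⁻¹) * q = q * (n * jz * n⁻¹) := by
    intro q hq
    obtain ⟨s, hs, rfl⟩ := exists_conj_of_finite subT n hn q (Qj_le_subT hq)
    have e := hcomm s hs
    calc n * jz * n⁻¹ * (n * s * n⁻¹) = n * (jz * s) * n⁻¹ := by group
      _ = n * (s * jz) * n⁻¹ := by rw [e]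
      _ = n * s * n⁻¹ * (n * jz * n⁻¹) := by group
  rcases cent_Qj _ hcent with h | h
  · exfalso
    apply jz_ne_one
    calc jz = n⁻¹ * (n * jz * n⁻¹) * n := by group
      _ = 1 := by rw [h]; group
  · rw [← jz_eq] at h
    calc n * jz = (n * jz * n⁻¹) * n := by group
      _ = jz * n := by rw [h]

theorem subT_ne_bot : subT ≠ ⊥ := by
  intro h
  have := card_subT
  rw [h, Subgroup.card_bot] at this
  norm_num at this

theorem hnorm (n : J2) (hn : ∀ s ∈ subT, n * s * n⁻¹ ∈ subT) :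
    ∀ q ∈ Qj, n * q * n⁻¹ ∈ Qj :=
  fun _ hq => conj_mem_Qj (mem_St_of_norm n hn) hq

theorem hcent (c : J2) (hc : ∀ q ∈ Qj, c * q = q * c) : c ∈ subT := by
  rcases cent_Qj c hc with h | h
  · rw [h]
    exact one_mem _
  · rw [h]
    exact Qj_le_subT c0_mem_Qj

theorem hgen (n : J2) (hn : ∀ s ∈ subT, n * s * n⁻¹ ∈ subT) :
    n ∈ Subgroup.closure {x : J2 | ∃ m : J2,
      (∀ q ∈ Qj, m * q * m⁻¹ ∈ Qj) ∧ ∃ s ∈ subT, x = m * s * m⁻¹} := by
  have := finite_J2
  have hnS := mem_St_of_norm n hn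
  clear hn
  have htop : Subgroup.normalClosure ((subT.subgroupOf St : Subgroup St) : Set St) = ⊤ := by
    obtain ⟨f⟩ := quot_QSt_equiv card_St'
    exact normalClosure_eq_top card_St' QSt h32 f (subT.subgroupOf St) (by
      rw [Nat.card_congr (Subgroup.subgroupOfEquivOfLe subT_le_St).toEquiv, card_subT])
  have hc : (⟨n, hnS⟩ : St) ∈
      Subgroup.normalClosure ((subT.subgroupOf St : Subgroup St) : Set St) := by
    rw [htop]
    trivial
  have key : ∀ c ∈ Subgroup.normalClosure ((subT.subgroupOf St : Subgroup St) : Set St),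
      (c : J2) ∈ Subgroup.closure {x : J2 | ∃ m : J2,
        (∀ q ∈ Qj, m * q * m⁻¹ ∈ Qj) ∧ ∃ s ∈ subT, x = m * s * m⁻¹} := by
    intro c hc
    unfold Subgroup.normalClosure at hc
    induction hc using Subgroup.closure_induction with
    | mem x hx =>
      rw [Group.mem_conjugatesOfSet_iff] at hx
      obtain ⟨a, ha, hax⟩ := hx
      rw [isConj_iff] at hax
      obtain ⟨m, rfl⟩ := hax
      apply Subgroup.subset_closure
      rw [SetLike.mem_coe, Subgroup.mem_subgroupOf] at ha
      exact ⟨m.1, fun q hq => conj_mem_Qj m.2 hq, a.1, ha, rfl⟩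
    | one => exact one_mem _
    | mul x y _ _ hx hy => exact mul_mem hx hy
    | inv x _ hx => exact inv_mem hx
  exact key _ hc

/-! ### Fusion of elements of order 4 -/

/-- a reflection fusing elements of order 4 of `Q` into `a Q` and `b Q` -/
def wr : List ℕ := [10]

noncomputable def jr : J2 := wordP wr

theorem r_c1 : jr * (jx4 * jx3 * jz) * jr⁻¹ = ja * jx3 * jx * jz := by
  simp only [jr, jz, jx, ja, jb, jx2, jx3, jx4, mul_inv_rev, inv_inv, ← wordP_reverse,
    ← wordP_append]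
  exact wordP_eq_of_chk (by decide +kernel)

theorem r_c2 : jr * (jx3 * jx * jz) * jr⁻¹ = jb * jx4 * jx := by
  simp only [jr, jz, jx, ja, jb, jx2, jx3, jx4, mul_inv_rev, inv_inv, ← wordP_reverse,
    ← wordP_append]
  exact wordP_eq_of_chk (by decide +kernel)

theorem hclosed (T : Subgroup J2) (hT : T ≤ subT) (hT1 : T ≠ ⊥)
    (hsc : ∀ t ∈ T, ∀ g : J2, g * t * g⁻¹ ∈ subT → g * t * g⁻¹ ∈ T) : T = subT := by
  have hfin := finite_subT
  have : Fact (Nat.Prime 2) := ⟨Nat.prime_two⟩
  obtain ⟨z, hzT, hz1, hzc⟩ :=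
    exists_central_of_stronglyClosed 2 subT T isPGroup_subT hT hT1 hsc
  have hz : z = jz := by
    rcases cent_Qj z (fun q hq => (hzc q (Qj_le_subT hq)).symm) with h | h
    · exact absurd h hz1
    · rw [h, jz_eq]
  rw [hz] at hzT
  have mem : ∀ y ∈ ({jb, ja, jx4, jx3, jx2, jx, jz} : Set J2), y ∈ subT :=
    fun y hy => Subgroup.subset_closure hy
  have mx : jx ∈ subT := mem _ (by simp)
  have mx2 : jx2 ∈ subT := mem _ (by simp)
  have mx3 : jx3 ∈ subT := mem _ (by simp)
  have mx4 : jx4 ∈ subT := mem _ (by simp)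
  have mz : jz ∈ subT := mem _ (by simp)
  have ma : ja ∈ subT := mem _ (by simp)
  have mb : jb ∈ subT := mem _ (by simp)
  have hx : jx ∈ T := by
    have h := hsc jz hzT jh (by rw [r_h]; exact mx)
    rwa [r_h] at h
  have hx2 : jx2 ∈ T := hsc jx hx ja mx2
  have hx3 : jx3 ∈ T := hsc jx hx jb mx3
  have hx4 : jx4 ∈ T := hsc jx hx (ja * jb) mx4
  have ha : ja ∈ T := by
    have h := hsc (jx4 * jx3 * jz) (mul_mem (mul_mem hx4 hx3) hzT) jr (by
      rw [r_c1]
      exact mul_mem (mul_mem (mul_mem ma mx3) mx) mz)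
    rw [r_c1] at h
    have e : ja = (ja * jx3 * jx * jz) * (jx3 * jx * jz)⁻¹ := by group
    rw [e]
    exact mul_mem h (inv_mem (mul_mem (mul_mem hx3 hx) hzT))
  have hb : jb ∈ T := by
    have h := hsc (jx3 * jx * jz) (mul_mem (mul_mem hx3 hx) hzT) jr (by
      rw [r_c2]
      exact mul_mem (mul_mem mb mx4) mx)
    rw [r_c2] at h
    have e : jb = (jb * jx4 * jx) * (jx4 * jx)⁻¹ := by group
    rw [e]
    exact mul_mem h (inv_mem (mul_mem hx4 hx))
  apply le_antisymm hT
  unfold subT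
  rw [Subgroup.closure_le]
  intro y hy
  simp only [Set.mem_insert_iff, Set.mem_singleton_iff] at hy
  rcases hy with rfl | rfl | rfl | rfl | rfl | rfl | rfl
  · exact hb
  · exact ha
  · exact hx4
  · exact hx3
  · exact hx2
  · exact hx
  · exact hzT

/-- `FusLocal` holds for `T` and `Q`. -/
theorem fusLocal_subT : FusLocal subT Qj :=
  ⟨subT_ne_bot, hclosed, Qj_le_subT, hnorm, hcent, hgen⟩

theorem factorization_card_J2 : (Nat.card J2).factorization 2 = 7 := by
  rw [card_J2, show (604800 : ℕ) = 2 ^ 7 * 4725 by norm_num,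
    Nat.factorization_mul (by norm_num) (by norm_num), Nat.Prime.factorization_pow Nat.prime_two]
  simp [Nat.factorization_eq_zero_of_not_dvd]

/-- A Sylow 2-subgroup of `J₂` satisfying the local hypotheses. -/
theorem exists_sylow_fusLocal :
    ∃ (_ : Finite J2) (S : Sylow 2 J2) (Q : Subgroup J2), FusLocal (S : Subgroup J2) Q := by
  have hfin := finite_J2
  have : Fact (Nat.Prime 2) := ⟨Nat.prime_two⟩
  refine ⟨hfin, Sylow.ofCard subT ?_, Qj, ?_⟩
  · rw [card_subT, factorization_card_J2]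
    norm_num
  · rw [Sylow.coe_ofCard]
    exact fusLocal_subT

end Cfsg.Agent.Lib.Helper26_J2F
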