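import Mathlib

set_option autoImplicit false

namespace Cfsg.Agent.Lib.Helper34_J2M_X1

open scoped commutatorElement

/-- conjugation by `g` preserves `closure S` if it maps the generators into it -/
theorem conj_mem_closure {H : Type*} [Group H] (S : Set H) (g : H)
    (hconj : ∀ y ∈ S, g * y * g⁻¹ ∈ Subgroup.closure S) (x : H) (hx : x ∈ Subgroup.closure S) :
    g * x * g⁻¹ ∈ Subgroup.closure S := by
  induction hx using Subgroup.closure_induction with
  | mem y hy => exact hconj y hy
  | one => simp
  | mul x y _ _ hx hy =>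
    have : g * (x * y) * g⁻¹ = (g * x * g⁻¹) * (g * y * g⁻¹) := by group
    rw [this]
    exact Subgroup.mul_mem _ hx hy
  | inv x _ hx =>
    have : g * x⁻¹ * g⁻¹ = (g * x * g⁻¹)⁻¹ := by group
    rw [this]
    exact Subgroup.inv_mem _ hx

/-- PKG-X1 -/
theorem card_closure_insert_le {H : Type*} [Group H] [Finite H] (S : Set H) (g : H)
    (hsq : g * g ∈ Subgroup.closure S) (hconj : ∀ y ∈ S, g * y * g⁻¹ ∈ Subgroup.closure S) :
    Nat.card ↥(Subgroup.closure (insert g S)) ≤ 2 * Nat.card ↥(Subgroup.closure S) := by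
  classical
  set K : Subgroup H := Subgroup.closure S with hK
  have hc : ∀ x ∈ K, g * x * g⁻¹ ∈ K := conj_mem_closure S g hconj
  have hc' : ∀ x ∈ K, g⁻¹ * x * g ∈ K := by
    intro x hx
    have : g⁻¹ * x * g = (g * g)⁻¹ * (g * x * g⁻¹) * (g * g) := by group
    rw [this]
    exact K.mul_mem (K.mul_mem (K.inv_mem hsq) (hc x hx)) hsq
  let M : Subgroup H :=
    { carrier := {x | x ∈ K ∨ x * g⁻¹ ∈ K}
      one_mem' := Or.inl K.one_mem
      mul_mem' := by
        rintro x y (hx | hx) (hy | hy)
        · exact Or.inl (K.mul_mem hx hy)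
        · right
          have : x * y * g⁻¹ = x * (y * g⁻¹) := by group
          rw [this]
          exact K.mul_mem hx hy
        · right
          have : x * y * g⁻¹ = (x * g⁻¹) * (g * y * g⁻¹) := by group
          rw [this]
          exact K.mul_mem hx (hc y hy)
        · left
          have : x * y = (x * g⁻¹) * (g * (y * g⁻¹) * g⁻¹) * (g * g) := by group
          rw [this]
          exact K.mul_mem (K.mul_mem hx (hc _ hy)) hsq
      inv_mem' := by
        rintro x (hx | hx)
        · exact Or.inl (K.inv_mem hx)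
        · right
          have : x⁻¹ * g⁻¹ = (g⁻¹ * (x * g⁻¹)⁻¹ * g) * (g * g)⁻¹ := by group
          rw [this]
          exact K.mul_mem (hc' _ (K.inv_mem hx)) (K.inv_mem hsq) }
  have hLM : Subgroup.closure (insert g S) ≤ M := by
    rw [Subgroup.closure_le]
    rintro x (rfl | hx)
    · right
      rw [mul_inv_cancel]
      exact K.one_mem
    · exact Or.inl (Subgroup.subset_closure hx)
  have h1 : Nat.card ↥(Subgroup.closure (insert g S)) ≤ Nat.card M := Subgroup.card_le_of_le hLM
  have h2 : (M : Set H) = (K : Set H) ∪ (fun x => x * g) '' (K : Set H) := by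
    ext x
    constructor
    · rintro (hx | hx)
      · exact Or.inl hx
      · exact Or.inr ⟨x * g⁻¹, hx, by group⟩
    · rintro (hx | ⟨y, hy, rfl⟩)
      · exact Or.inl hx
      · right
        show y * g * g⁻¹ ∈ K
        rw [mul_inv_cancel_right]
        exact hy
  have h3 : Nat.card M = (M : Set H).ncard := rfl
  have h4 : Nat.card K = (K : Set H).ncard := rfl
  rw [h3, h2] at h1
  refine h1.trans ((Set.ncard_union_le _ _).trans ?_)
  rw [Set.ncard_image_of_injective _ (mul_left_injective g), ← h4]
  omega

end Cfsg.Agent.Lib.Helper34_J2M_X1
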