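import Mathlib
import Cfsg.Agent.Lib.Helper34_J2M_X1

set_option autoImplicit false

namespace Cfsg.Agent.Lib.Helper34_J2M_X2

open scoped commutatorElement

theorem conj_of_comm {H : Type*} [Group H] (u v c : H) (h : ⁅u, v⁆ = c) : v * u * v⁻¹ = c⁻¹ * u := by
  rw [← h, commutatorElement_def]
  group

/-- PKG-X2 -/
theorem card_extra_le {H : Type*} [Group H] [Finite H] (c y1 y2 y3 y4 : H)
    (hc : c * c = 1) (h1 : y1 * y1 = 1) (h2 : y2 * y2 = 1) (h3 : y3 * y3 = 1) (h4 : y4 * y4 = 1)
    (hc1 : Commute c y1) (hc2 : Commute c y2) (hc3 : Commute c y3) (hc4 : Commute c y4)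
    (h12 : ⁅y1, y2⁆ = c) (h13 : ⁅y1, y3⁆ = c) (h14 : ⁅y1, y4⁆ = c) (h23 : ⁅y2, y3⁆ = c)
    (h24 : ⁅y2, y4⁆ = c) (h34 : ⁅y3, y4⁆ = c) :
    Nat.card ↥(Subgroup.closure ({y4, y3, y2, y1, c} : Set H)) ≤ 32 := by
  classical
  have hcc : ∀ y : H, Commute c y → y * c * y⁻¹ = c := by
    intro y hy
    rw [← hy.eq, mul_inv_cancel_right]
  -- step 0
  have s0 : Nat.card ↥(Subgroup.closure ({c} : Set H)) ≤ 2 := by
    have := Cfsg.Agent.Lib.Helper34_J2M_X1.card_closure_insert_le (∅ : Set H) c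
      (by rw [hc]; exact Subgroup.one_mem _) (by intro y hy; exact absurd hy (Set.notMem_empty y))
    rw [Subgroup.closure_empty, Subgroup.card_bot] at this
    simpa using this
  have mc : ∀ S : Set H, c ∈ S → c⁻¹ ∈ Subgroup.closure S :=
    fun S h => Subgroup.inv_mem _ (Subgroup.subset_closure h)
  -- step 1
  have s1 : Nat.card ↥(Subgroup.closure ({y1, c} : Set H)) ≤ 2 * 2 := by
    refine (Cfsg.Agent.Lib.Helper34_J2M_X1.card_closure_insert_le ({c} : Set H) y1
      (by rw [h1]; exact Subgroup.one_mem _) ?_).trans (Nat.mul_le_mul_left 2 s0)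
    intro y hy
    rw [Set.mem_singleton_iff] at hy
    rw [hy, hcc y1 hc1]
    exact Subgroup.subset_closure rfl
  -- step 2
  have s2 : Nat.card ↥(Subgroup.closure ({y2, y1, c} : Set H)) ≤ 2 * (2 * 2) := by
    refine (Cfsg.Agent.Lib.Helper34_J2M_X1.card_closure_insert_le ({y1, c} : Set H) y2
      (by rw [h2]; exact Subgroup.one_mem _) ?_).trans (Nat.mul_le_mul_left 2 s1)
    intro y hy
    rcases hy with rfl | hy
    · rw [conj_of_comm _ _ c h12]
      exact Subgroup.mul_mem _ (mc _ (by simp)) (Subgroup.subset_closure (by simp))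
    · rw [Set.mem_singleton_iff] at hy
      rw [hy, hcc y2 hc2]
      exact Subgroup.subset_closure (by simp)
  -- step 3
  have s3 : Nat.card ↥(Subgroup.closure ({y3, y2, y1, c} : Set H)) ≤ 2 * (2 * (2 * 2)) := by
    refine (Cfsg.Agent.Lib.Helper34_J2M_X1.card_closure_insert_le ({y2, y1, c} : Set H) y3
      (by rw [h3]; exact Subgroup.one_mem _) ?_).trans (Nat.mul_le_mul_left 2 s2)
    intro y hy
    rcases hy with rfl | rfl | hy
    · rw [conj_of_comm _ _ c h23]
      exact Subgroup.mul_mem _ (mc _ (by simp)) (Subgroup.subset_closure (by simp))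
    · rw [conj_of_comm _ _ c h13]
      exact Subgroup.mul_mem _ (mc _ (by simp)) (Subgroup.subset_closure (by simp))
    · rw [Set.mem_singleton_iff] at hy
      rw [hy, hcc y3 hc3]
      exact Subgroup.subset_closure (by simp)
  -- step 4
  refine (Cfsg.Agent.Lib.Helper34_J2M_X1.card_closure_insert_le ({y3, y2, y1, c} : Set H) y4
    (by rw [h4]; exact Subgroup.one_mem _) ?_).trans ((Nat.mul_le_mul_left 2 s3).trans (by norm_num))
  intro y hy
  rcases hy with rfl | rfl | rfl | hy
  · rw [conj_of_comm _ _ c h34]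
    exact Subgroup.mul_mem _ (mc _ (by simp)) (Subgroup.subset_closure (by simp))
  · rw [conj_of_comm _ _ c h24]
    exact Subgroup.mul_mem _ (mc _ (by simp)) (Subgroup.subset_closure (by simp))
  · rw [conj_of_comm _ _ c h14]
    exact Subgroup.mul_mem _ (mc _ (by simp)) (Subgroup.subset_closure (by simp))
  · rw [Set.mem_singleton_iff] at hy
    rw [hy, hcc y4 hc4]
    exact Subgroup.subset_closure (by simp)

end Cfsg.Agent.Lib.Helper34_J2M_X2
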