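import Mathlib
import Cfsg.Prelude.Def_KGroupFacts
import Cfsg.Agent.Lib.Helper66_Stem
import Cfsg.Agent.Lib.Helper66_StemTools

/-!
Local tools for bounding the kernel of a stem extension `σ : Γ →* G`: transfer into the preimage
of a subgroup `S` of `G` whose central extensions have no commutators in the kernel (abelian
preimage, or semidihedral type of order sixteen), and the order of a subgroup generated by two
elements one of which normalises the cyclic group of the other with square inside it.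
-/

set_option autoImplicit false
open Cfsg

namespace Cfsg.Agent.Lib.Lead_StemLocal

open Cfsg.Agent.Lib.Helper66_Stem Cfsg.Agent.Lib.Helper66_StemTools

section general

variable {Γ G : Type*} [Group Γ] [Group G]

/-- the preimage of the subgroup generated by the images of `T` is generated by `T` and the
kernel -/
theorem comap_closure_image (σ : Γ →* G) (T : Set Γ) :
    (Subgroup.closure (σ '' T)).comap σ = Subgroup.closure (T ∪ (σ.ker : Set Γ)) := by
  apply le_antisymm
  · intro u hu
    rw [Subgroup.mem_comap, ← MonoidHom.map_closure] at hu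
    obtain ⟨w, hw, hwu⟩ := hu
    have hk : w⁻¹ * u ∈ σ.ker := by
      rw [MonoidHom.mem_ker, map_mul, map_inv, hwu, inv_mul_cancel]
    have e : u = w * (w⁻¹ * u) := by group
    rw [e]
    exact Subgroup.mul_mem _ (Subgroup.closure_mono Set.subset_union_left hw)
      (Subgroup.subset_closure (Or.inr hk))
  · rw [Subgroup.closure_le]
    rintro u (hu | hu)
    · exact Subgroup.subset_closure ⟨u, hu, rfl⟩
    · rw [SetLike.mem_coe, Subgroup.mem_comap, MonoidHom.mem_ker.mp hu]
      exact Subgroup.one_mem _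

/-- transfer into the preimage of a subgroup generated by the images of pairwise commuting
elements: the kernel of a stem extension is killed by the index of that subgroup -/
theorem pow_index_eq_one_of_commute (σ : Γ →* G) (hσ : IsStemExtension σ) (T : Set Γ)
    (hT : ∀ u ∈ T, ∀ v ∈ T, u * v = v * u) (hfin : (Subgroup.closure (σ '' T)).index ≠ 0)
    (a : Γ) (ha : a ∈ σ.ker) : a ^ (Subgroup.closure (σ '' T)).index = 1 := by
  have hidx : ((Subgroup.closure (σ '' T)).comap σ).index = (Subgroup.closure (σ '' T)).index :=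
    Subgroup.index_comap_of_surjective _ hσ.1
  have hcomm : ∀ u ∈ T ∪ (σ.ker : Set Γ), ∀ v ∈ T ∪ (σ.ker : Set Γ), u * v = v * u := by
    rintro u (hu | hu) v (hv | hv)
    · exact hT u hu v hv
    · exact (Subgroup.mem_center_iff.mp (hσ.2.1 hv) u)
    · exact (Subgroup.mem_center_iff.mp (hσ.2.1 hu) v).symm
    · exact (Subgroup.mem_center_iff.mp (hσ.2.1 hv) u)
  have hc : IsMulCommutative ↥((Subgroup.closure (σ '' T)).comap σ) := by
    rw [comap_closure_image]
    exact Subgroup.isMulCommutative_closure hcomm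
  have hfi : ((Subgroup.closure (σ '' T)).comap σ).FiniteIndex := ⟨by rw [hidx]; exact hfin⟩
  have := pow_index_eq_one_of_mem_commutator ((Subgroup.closure (σ '' T)).comap σ) a
    (hσ.2.1 ha) (hσ.2.2 ha)
  rwa [hidx] at this

/-- transfer into the preimage of a subgroup `S` such that the central extension of `S` induced
by `σ` has no commutators in the kernel -/
theorem pow_index_eq_one_of_inf (σ : Γ →* G) (hσ : IsStemExtension σ) (S : Subgroup G)
    (hfin : S.index ≠ 0)
    (h : (σ.subgroupComap S).ker ⊓ commutator ↥(S.comap σ) = ⊥)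
    (a : Γ) (ha : a ∈ σ.ker) : a ^ S.index = 1 := by
  have hidx : (S.comap σ).index = S.index := Subgroup.index_comap_of_surjective _ hσ.1
  have hfi : (S.comap σ).FiniteIndex := ⟨by rw [hidx]; exact hfin⟩
  obtain ⟨hm, hc⟩ := pow_index_mem_commutator (S.comap σ) a (hσ.2.1 ha) (hσ.2.2 ha)
  have hk : (⟨a ^ (S.comap σ).index, hm⟩ : ↥(S.comap σ)) ∈ (σ.subgroupComap S).ker := by
    rw [MonoidHom.mem_ker]
    apply Subtype.ext
    show σ (a ^ (S.comap σ).index) = 1
    rw [map_pow, MonoidHom.mem_ker.mp ha, one_pow]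
  have : (⟨a ^ (S.comap σ).index, hm⟩ : ↥(S.comap σ)) ∈
      (σ.subgroupComap S).ker ⊓ commutator ↥(S.comap σ) := ⟨hk, hc⟩
  rw [h, Subgroup.mem_bot] at this
  rw [← hidx]
  exact congrArg Subtype.val this

end general

section semidihedral

/-- **Central extensions of semidihedral type of order sixteen.** Let `Z` be a central subgroup
of the finite group `H`, and `α, ξ` elements generating `H` together with `Z`, such that
`ξ α ξ⁻¹ ∈ α³ Z`, `ξ² ∈ Z` and `αⁱ ∈ Z` only for `8 ∣ i`.  Then `Z ∩ H' = 1`. -/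
theorem inf_commutator_eq_bot_of_semidihedral {H : Type*} [Group H] [Finite H] (Z : Subgroup H)
    (hZ : Z ≤ Subgroup.center H) (α ξ : H)
    (hgen : Subgroup.closure (({α, ξ} : Set H) ∪ (Z : Set H)) = ⊤)
    (hk : ∃ z ∈ Z, ξ * α * ξ⁻¹ = α ^ 3 * z) (hsq : ξ * ξ ∈ Z)
    (hord : ∀ i : ℤ, α ^ i ∈ Z → (8 : ℤ) ∣ i) :
    Z ⊓ commutator H = ⊥ := by
  obtain ⟨z, hz, hξα⟩ := hk
  have hzc : ∀ g : H, Commute g z := fun g => Subgroup.mem_center_iff.mp (hZ hz) g
  have hαz : Commute α z := hzc α
  set c := ξ * α * ξ⁻¹ * α⁻¹ with hcdef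
  have hc : c = α ^ 2 * z := by
    rw [hcdef, hξα]
    calc α ^ 3 * z * α⁻¹ = α ^ 3 * (z * α⁻¹) := by group
      _ = α ^ 3 * (α⁻¹ * z) := by rw [(hzc α⁻¹).eq]
      _ = α ^ 2 * z := by group
  have hαc : Commute α c := by
    rw [hc]
    exact ((Commute.refl α).pow_right 2).mul_right hαz
  have hαc' : α * c * α⁻¹ = c := by
    rw [hαc.eq]; group
  -- conjugation by `ξ` cubes `c`
  have hξz : ξ * z * ξ⁻¹ = z := by
    rw [(hzc ξ).eq]; group
  have hξc : ξ * c * ξ⁻¹ = c ^ 3 := by
    have e1 : ξ * c * ξ⁻¹ = (ξ * α * ξ⁻¹) ^ 2 * (ξ * z * ξ⁻¹) := by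
      rw [hc, conj_pow]; group
    rw [e1, hξα, hξz, hc, (hαz.pow_left 3).mul_pow, (hαz.pow_left 2).mul_pow, ← pow_mul, ← pow_mul,
      mul_assoc, ← pow_succ]
  -- the fourth power of `c` is trivial
  have hc4 : c ^ 4 = 1 := by
    have hv : ∀ g : H, Commute g (ξ * ξ) := fun g => Subgroup.mem_center_iff.mp (hZ hsq) g
    have e1 : α = ξ * (ξ * α * ξ⁻¹) * ξ⁻¹ := by
      calc α = α * (ξ * ξ) * (ξ * ξ)⁻¹ := by group
        _ = (ξ * ξ) * α * (ξ * ξ)⁻¹ := by rw [(hv α).eq]
        _ = ξ * (ξ * α * ξ⁻¹) * ξ⁻¹ := by group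
    have e2 : ξ * (α ^ 3 * z) * ξ⁻¹ = (ξ * α * ξ⁻¹) ^ 3 * (ξ * z * ξ⁻¹) := by
      rw [conj_pow]; group
    rw [hξα, e2, hξα, hξz, (hαz.pow_left 3).mul_pow, ← pow_mul, mul_assoc, ← pow_succ] at e1
    -- e1 : α = α ^ 9 * z ^ 4
    rw [hc, (hαz.pow_left 2).mul_pow, ← pow_mul]
    have e3 : α ^ (3 * 3) * z ^ (3 + 1) = α * (α ^ (2 * 4) * z ^ 4) := by
      rw [show 3 * 3 = 1 + 2 * 4 from rfl, pow_add, pow_one, mul_assoc]
    rw [e3] at e1
    exact (mul_eq_left.mp e1.symm)
  -- the cyclic group generated by `c` is normal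
  have hnorm : (Subgroup.zpowers c).Normal := by
    rw [← Subgroup.normalizer_eq_top_iff, eq_top_iff, ← hgen, Subgroup.closure_le]
    rintro g (hg | hg)
    · rcases hg with rfl | hg
      · exact mem_normalizer_zpowers _ _ (Or.inl hαc')
      · rw [Set.mem_singleton_iff] at hg
        subst hg
        apply Subgroup.mem_normalizer_fintype
        intro n hn
        obtain ⟨i, rfl⟩ := Subgroup.mem_zpowers_iff.mp hn
        rw [SetLike.mem_coe, ← conj_zpow, hξc]
        exact Subgroup.zpow_mem _ (Subgroup.pow_mem _ (Subgroup.mem_zpowers c) 3) i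
    · apply mem_normalizer_zpowers _ _ (Or.inl _)
      have := Subgroup.mem_center_iff.mp (hZ hg) c
      rw [← this]; group
  have := hnorm
  have hcomm : commutator H ≤ Subgroup.zpowers c := by
    apply commutator_le_of_closure (Subgroup.zpowers c) _ hgen
    have hcen : ∀ y ∈ (Z : Set H), ∀ b : H, y * b * y⁻¹ * b⁻¹ = 1 ∧ b * y * b⁻¹ * y⁻¹ = 1 := by
      intro y hy b
      have := Subgroup.mem_center_iff.mp (hZ hy) b
      constructor
      · rw [← this]; group
      · rw [this]; group
    rintro a (ha | ha) b (hb | hb)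
    · rcases ha with rfl | ha <;> rcases hb with rfl | hb
      · simp
      · rw [Set.mem_singleton_iff] at hb
        subst hb
        have : a * b * a⁻¹ * b⁻¹ = (b * a * b⁻¹ * a⁻¹)⁻¹ := by group
        rw [this]
        exact Subgroup.inv_mem _ (Subgroup.mem_zpowers _)
      · rw [Set.mem_singleton_iff] at ha
        subst ha
        exact Subgroup.mem_zpowers _
      · rw [Set.mem_singleton_iff] at ha hb
        subst ha; subst hb
        simp
    · rw [(hcen b hb a).2]; exact Subgroup.one_mem _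
    · rw [(hcen a ha b).1]; exact Subgroup.one_mem _
    · rw [(hcen a ha b).1]; exact Subgroup.one_mem _
  rw [eq_bot_iff]
  rintro w ⟨hwZ, hwc⟩
  rw [Subgroup.mem_bot]
  obtain ⟨j, hj⟩ := Subgroup.mem_zpowers_iff.mp (hcomm hwc)
  have h3 : w = α ^ (2 * j) * z ^ j := by
    rw [← hj, hc, (hαz.pow_left 2).mul_zpow, ← zpow_natCast, ← zpow_mul]
    norm_num
  have h4 : α ^ (2 * j) ∈ Z := by
    have h5 : α ^ (2 * j) = w * (z ^ j)⁻¹ := by rw [h3]; group
    rw [h5]
    exact Z.mul_mem hwZ (Z.inv_mem (Z.zpow_mem hz j))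
  obtain ⟨i, hi⟩ : (4 : ℤ) ∣ j := by
    have := hord _ h4
    omega
  have hc4' : c ^ (4 : ℤ) = 1 := by
    rw [show (4 : ℤ) = ((4 : ℕ) : ℤ) from rfl, zpow_natCast, hc4]
  rw [← hj, hi, zpow_mul, hc4']
  exact one_zpow i

end semidihedral

section card

variable {G : Type*} [Group G]

/-- the order of the subgroup generated by `r` and an element `s` outside the cyclic group of `r`,
normalising it, with square inside it: twice the order of `r` -/
theorem card_closure_pair [Finite G] (r s : G) (hs2 : s * s ∈ Subgroup.zpowers r)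
    (hconj : s * r * s⁻¹ ∈ Subgroup.zpowers r) (hs : s ∉ Subgroup.zpowers r) :
    Nat.card ↥(Subgroup.closure ({r, s} : Set G)) = orderOf r * 2 := by
  set N := Subgroup.zpowers r with hN
  set S := Subgroup.closure ({r, s} : Set G) with hS
  have hrS : r ∈ S := Subgroup.subset_closure (by simp)
  have hsS : s ∈ S := Subgroup.subset_closure (by simp)
  have hNS : N ≤ S := by
    rw [hN, Subgroup.zpowers_le]; exact hrS
  -- conjugation by `s` preserves `N`
  have h1 : ∀ n ∈ N, s * n * s⁻¹ ∈ N := by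
    intro n hn
    obtain ⟨i, rfl⟩ := Subgroup.mem_zpowers_iff.mp hn
    rw [← conj_zpow]
    exact Subgroup.zpow_mem _ hconj i
  have hcommN : ∀ a ∈ N, ∀ b ∈ N, a * b = b * a := by
    intro a ha b hb
    obtain ⟨i, rfl⟩ := Subgroup.mem_zpowers_iff.mp ha
    obtain ⟨j, rfl⟩ := Subgroup.mem_zpowers_iff.mp hb
    exact ((Commute.refl r).zpow_zpow i j).eq
  have h1' : ∀ n ∈ N, s⁻¹ * n * s ∈ N := by
    intro n hn
    have e : s⁻¹ * n * s = s * ((s * s)⁻¹ * n * (s * s)) * s⁻¹ := by group
    have e2 : (s * s)⁻¹ * n * (s * s) = n := by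
      rw [mul_assoc, hcommN n hn _ hs2]; group
    rw [e, e2]
    exact h1 n hn
  -- normal form
  have h2 : ∀ h ∈ S, h ∈ N ∨ s⁻¹ * h ∈ N := by
    intro h hh
    induction hh using Subgroup.closure_induction with
    | mem x hx =>
      rcases hx with rfl | hx
      · exact Or.inl (Subgroup.mem_zpowers _)
      · rw [Set.mem_singleton_iff] at hx
        subst hx
        right; rw [inv_mul_cancel]; exact N.one_mem
    | one => exact Or.inl N.one_mem
    | mul x y _ _ hx hy =>
      rcases hx with hx | hx <;> rcases hy with hy | hy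
      · exact Or.inl (N.mul_mem hx hy)
      · right
        have e : s⁻¹ * (x * y) = (s⁻¹ * x * s) * (s⁻¹ * y) := by group
        rw [e]; exact N.mul_mem (h1' x hx) hy
      · right
        have e : s⁻¹ * (x * y) = (s⁻¹ * x) * y := by group
        rw [e]; exact N.mul_mem hx hy
      · left
        have e : x * y = (s * (s⁻¹ * x) * s⁻¹) * (s * s) * (s⁻¹ * y) := by group
        rw [e]; exact N.mul_mem (N.mul_mem (h1 _ hx) hs2) hy
    | inv x _ hx =>
      rcases hx with hx | hx
      · exact Or.inl (N.inv_mem hx)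
      · right
        have e : s⁻¹ * x⁻¹ = (s * s)⁻¹ * (s * (s⁻¹ * x)⁻¹ * s⁻¹) := by group
        rw [e]; exact N.mul_mem (N.inv_mem hs2) (h1 _ (N.inv_mem hx))
  -- index two
  have hidx : (N.subgroupOf S).index = 2 := by
    rw [Subgroup.index_eq_two_iff]
    refine ⟨⟨s, hsS⟩, ?_⟩
    intro b
    rw [Subgroup.mem_subgroupOf, Subgroup.mem_subgroupOf]
    show Xor ((b : G) * s ∈ N) ((b : G) ∈ N)
    rcases h2 b b.2 with hb | hb
    · right
      refine ⟨hb, fun hbs => hs ?_⟩
      have e : s = (b : G)⁻¹ * ((b : G) * s) := by group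
      rw [e]; exact N.mul_mem (N.inv_mem hb) hbs
    · left
      refine ⟨?_, fun hbN => hs ?_⟩
      · have e : (b : G) * s = (s * (s⁻¹ * (b : G)) * s⁻¹) * (s * s) := by group
        rw [e]; exact N.mul_mem (h1 _ hb) hs2
      · have e : s = (b : G) * (s⁻¹ * (b : G))⁻¹ := by group
        rw [e]; exact N.mul_mem hbN (N.inv_mem hb)
  have hcard := Subgroup.card_mul_index (N.subgroupOf S)
  rw [hidx, Nat.card_congr (Subgroup.subgroupOfEquivOfLe hNS).toEquiv, hN, Nat.card_zpowers] at hcard
  exact hcard.symm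

/-- two commuting elements of prime order `p`, the second outside the cyclic group of the first,
generate a subgroup of order divisible by `p²` -/
theorem sq_dvd_card_closure_pair [Finite G] (p : ℕ) [hp : Fact p.Prime] (x y : G)
    (hx : x ^ p = 1) (hy : y ^ p = 1) (hx1 : x ≠ 1) (hxy : x * y = y * x)
    (hyx : y ∉ Subgroup.zpowers x) :
    p ^ 2 ∣ Nat.card ↥(Subgroup.closure ({x, y} : Set G)) := by
  set S := Subgroup.closure ({x, y} : Set G) with hS
  have hcomm : ∀ a ∈ ({x, y} : Set G), ∀ b ∈ ({x, y} : Set G), a * b = b * a := by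
    rintro a (rfl | ha) b (rfl | hb)
    · rfl
    · rw [Set.mem_singleton_iff] at hb; subst hb; exact hxy
    · rw [Set.mem_singleton_iff] at ha; subst ha; exact hxy.symm
    · rw [Set.mem_singleton_iff] at ha hb; subst ha; subst hb; rfl
  have : IsMulCommutative ↥S := Subgroup.isMulCommutative_closure hcomm
  have hpow : ∀ h ∈ S, h ^ p = 1 := by
    intro h hh
    induction hh using Subgroup.closure_induction with
    | mem a ha =>
      rcases ha with rfl | ha
      · exact hx
      · rw [Set.mem_singleton_iff] at ha; subst ha; exact hy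
    | one => exact one_pow p
    | mul a b ha hb iha ihb =>
      have hc : Commute a b := by
        have := mul_comm' (⟨a, ha⟩ : ↥S) ⟨b, hb⟩
        exact congrArg Subtype.val this
      rw [hc.mul_pow, iha, ihb, one_mul]
    | inv a _ iha => rw [inv_pow, iha, inv_one]
  have hpg : IsPGroup p ↥S := by
    intro g
    refine ⟨1, ?_⟩
    rw [pow_one]
    exact Subtype.ext (hpow g g.2)
  obtain ⟨k, hk⟩ := (IsPGroup.iff_card).mp hpg
  have hxS : x ∈ S := Subgroup.subset_closure (by simp)
  have hyS : y ∈ S := Subgroup.subset_closure (by simp)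
  have hle : Subgroup.zpowers x ≤ S := by rw [Subgroup.zpowers_le]; exact hxS
  have hcx : Nat.card (Subgroup.zpowers x) = p := by
    rw [Nat.card_zpowers]; exact orderOf_eq_prime hx hx1
  have hk2 : 2 ≤ k := by
    by_contra hlt
    have hk1 : k ≤ 1 := by omega
    have hcard : Nat.card ↥S ≤ Nat.card ↥(Subgroup.zpowers x) := by
      rw [hk, hcx]
      calc p ^ k ≤ p ^ 1 := Nat.pow_le_pow_right hp.out.pos hk1
        _ = p := pow_one p
    have := Subgroup.eq_of_le_of_card_ge hle hcard
    exact hyx (this ▸ hyS)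
  rw [hk]
  exact pow_dvd_pow p hk2

end card

end Cfsg.Agent.Lib.Lead_StemLocal
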