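import Mathlib
import Cfsg.Prelude.Def_KGroupFacts
import Cfsg.Agent.Lib.Lead_StemLocal

/-!
# The 2-part of the kernel of a stem extension, from a split Sylow 2-subgroup

Let `σ : Γ →* G` be a stem extension whose kernel has exponent two.  If an elementary abelian
2-subgroup `E` of `G` contains three elements all of whose seven non-trivial products are conjugate
in `G`, then the lifts of these elements are involutions.  If moreover an element `c` of order three
acts on `E` without fixed points, then `[E~, c~]` is a complement of the kernel in the preimage `E~`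
of `E`, normalised by the lifts of all elements normalising `E` and `⟨c⟩`.  Together with a subgroup
`T` (normalising `E` and `⟨c⟩`, meeting `E` trivially) that lifts isomorphically, this splits the
extension over `E T`, so the kernel is killed by the index of `E T`.
-/

set_option autoImplicit false
open Cfsg
open Cfsg.Agent.Lib.Lead_StemLocal Cfsg.Agent.Lib.Helper66_StemTools Cfsg.Agent.Lib.Helper66_Stem
open scoped commutatorElement

namespace Cfsg.Agent.Lib.Helper8_StemTwo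

/-! ### products of a subgroup and a subgroup normalising it -/

section sup

variable {G : Type*} [Group G]

/-- the join of `E` and a subgroup `T` normalising it consists of the products `e * w` -/
theorem exists_mul_of_mem_sup (E T : Subgroup G)
    (hN : ∀ w ∈ T, ∀ e ∈ E, w * e * w⁻¹ ∈ E) :
    ∀ g ∈ E ⊔ T, ∃ e ∈ E, ∃ w ∈ T, g = e * w := by
  intro g hg
  rw [Subgroup.sup_eq_closure] at hg
  induction hg using Subgroup.closure_induction with
  | mem x hx =>
    rcases hx with hx | hx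
    · exact ⟨x, hx, 1, T.one_mem, (mul_one x).symm⟩
    · exact ⟨1, E.one_mem, x, hx, (one_mul x).symm⟩
  | one => exact ⟨1, E.one_mem, 1, T.one_mem, (mul_one 1).symm⟩
  | mul x y _ _ hx hy =>
    obtain ⟨e, he, w, hw, rfl⟩ := hx
    obtain ⟨e', he', w', hw', rfl⟩ := hy
    refine ⟨e * (w * e' * w⁻¹), E.mul_mem he (hN w hw e' he'), w * w', T.mul_mem hw hw', ?_⟩
    group
  | inv x _ hx =>
    obtain ⟨e, he, w, hw, rfl⟩ := hx
    refine ⟨w⁻¹ * e⁻¹ * (w⁻¹)⁻¹, hN w⁻¹ (T.inv_mem hw) e⁻¹ (E.inv_mem he), w⁻¹, T.inv_mem hw, ?_⟩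
    group

/-- the order of the join of `E` and a subgroup `T` normalising it and meeting it trivially -/
theorem card_sup_of_normalizes (E T : Subgroup G)
    (hN : ∀ w ∈ T, ∀ e ∈ E, w * e * w⁻¹ ∈ E) (hdisj : ∀ u ∈ E, u ∈ T → u = 1) :
    Nat.card ↥(E ⊔ T) = Nat.card ↥E * Nat.card ↥T := by
  rw [← Nat.card_prod]
  symm
  apply Nat.card_congr
  refine Equiv.ofBijective (fun p : ↥E × ↥T => (⟨(p.1 : G) * (p.2 : G),
    (E ⊔ T).mul_mem (Subgroup.mem_sup_left p.1.2) (Subgroup.mem_sup_right p.2.2)⟩ : ↥(E ⊔ T)))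
    ⟨?_, ?_⟩
  · rintro ⟨⟨e, he⟩, ⟨w, hw⟩⟩ ⟨⟨e', he'⟩, ⟨w', hw'⟩⟩ h
    have h1 : e * w = e' * w' := congrArg Subtype.val h
    have h2 : e'⁻¹ * e = w' * w⁻¹ := by
      have : e'⁻¹ * (e * w) * w⁻¹ = e'⁻¹ * (e' * w') * w⁻¹ := by rw [h1]
      calc e'⁻¹ * e = e'⁻¹ * (e * w) * w⁻¹ := by group
        _ = e'⁻¹ * (e' * w') * w⁻¹ := this
        _ = w' * w⁻¹ := by group
    have h3 : e'⁻¹ * e = 1 :=
      hdisj _ (E.mul_mem (E.inv_mem he') he) (h2 ▸ T.mul_mem hw' (T.inv_mem hw))
    have h4 : w' * w⁻¹ = 1 := by rw [← h2, h3]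
    have e1 : e = e' := by
      have := inv_mul_eq_one.mp h3
      exact this.symm
    have e2 : w = w' := by
      have := mul_inv_eq_one.mp h4
      exact this.symm
    subst e1; subst e2; rfl
  · rintro ⟨g, hg⟩
    obtain ⟨e, he, w, hw, rfl⟩ := exists_mul_of_mem_sup E T hN g hg
    exact ⟨(⟨e, he⟩, ⟨w, hw⟩), rfl⟩

end sup

/-! ### squares of lifts -/

section squares

variable {Γ G : Type*} [Group Γ] [Group G] (σ : Γ →* G)

/-- two lifts of the same element have the same square -/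
theorem sq_eq_of_map_eq (hc : σ.ker ≤ Subgroup.center Γ) (hexp : ∀ a ∈ σ.ker, a * a = 1)
    {x y : Γ} (h : σ x = σ y) : x * x = y * y := by
  have ha : x⁻¹ * y ∈ σ.ker := by
    rw [MonoidHom.mem_ker, map_mul, map_inv, h, inv_mul_cancel]
  have hcen := Subgroup.mem_center_iff.mp (hc ha)
  have e : y = x * (x⁻¹ * y) := by group
  have h2 := hexp _ ha
  calc x * x = x * x * ((x⁻¹ * y) * (x⁻¹ * y)) := by rw [h2, mul_one]
    _ = x * (x * (x⁻¹ * y)) * (x⁻¹ * y) := by simp only [mul_assoc]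
    _ = x * ((x⁻¹ * y) * x) * (x⁻¹ * y) := by rw [hcen x]
    _ = (x * (x⁻¹ * y)) * (x * (x⁻¹ * y)) := by simp only [mul_assoc]
    _ = y * y := by rw [← e]

/-- the squares of lifts of conjugate involutions agree -/
theorem sq_eq_of_conj (hc : σ.ker ≤ Subgroup.center Γ) (hexp : ∀ a ∈ σ.ker, a * a = 1)
    {x y g : Γ} (hx : σ x * σ x = 1) (h : σ g * σ x * (σ g)⁻¹ = σ y) : y * y = x * x := by
  have hk : x * x ∈ σ.ker := by rw [MonoidHom.mem_ker, map_mul, hx]
  have hcen := Subgroup.mem_center_iff.mp (hc hk)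
  have h1 : σ y = σ (g * x * g⁻¹) := by rw [map_mul, map_mul, map_inv, h]
  rw [sq_eq_of_map_eq σ hc hexp h1]
  calc g * x * g⁻¹ * (g * x * g⁻¹) = g * (x * x) * g⁻¹ := by group
    _ = x * x * g * g⁻¹ := by rw [hcen g]
    _ = x * x := by group

/-- if three elements and all their products are conjugate to the involution `e0`, then the
lifts of `e0` are involutions -/
theorem lift_sq_eq_one_of_seven (hsurj : Function.Surjective σ)
    (hc : σ.ker ≤ Subgroup.center Γ) (hexp : ∀ a ∈ σ.ker, a * a = 1)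
    (e0 e1 e2 e3 : G) (he0 : e0 * e0 = 1)
    (h1 : ∃ g, g * e0 * g⁻¹ = e1) (h2 : ∃ g, g * e0 * g⁻¹ = e2) (h3 : ∃ g, g * e0 * g⁻¹ = e3)
    (h12 : ∃ g, g * e0 * g⁻¹ = e1 * e2) (h13 : ∃ g, g * e0 * g⁻¹ = e1 * e3)
    (h23 : ∃ g, g * e0 * g⁻¹ = e2 * e3) (h123 : ∃ g, g * e0 * g⁻¹ = e1 * (e2 * e3))
    (x : Γ) (hx : σ x = e0) : x * x = 1 := by
  obtain ⟨ζ, hζ⟩ : ∃ ζ, ζ = x * x := ⟨_, rfl⟩
  rw [← hζ]
  have hxx : σ x * σ x = 1 := by rw [hx, he0]
  have hk : ζ ∈ σ.ker := by rw [MonoidHom.mem_ker, hζ, map_mul, hxx]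
  have hcen := Subgroup.mem_center_iff.mp (hc hk)
  have hζ2 : ζ * ζ = 1 := hexp _ hk
  -- every lift of a conjugate of `e0` has square `ζ`
  have key : ∀ u : G, (∃ g, g * e0 * g⁻¹ = u) → ∀ y : Γ, σ y = u → y * y = ζ := by
    intro u ⟨g, hg⟩ y hy
    obtain ⟨g', rfl⟩ := hsurj g
    rw [hζ]
    apply sq_eq_of_conj σ hc hexp (g := g') hxx
    rw [hx, hg, hy]
  obtain ⟨a, ha⟩ := hsurj e1
  obtain ⟨b, hb⟩ := hsurj e2
  obtain ⟨d, hd⟩ := hsurj e3
  have haa := key e1 h1 a ha
  have hbb := key e2 h2 b hb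
  have hdd := key e3 h3 d hd
  have hab := key _ h12 (a * b) (by rw [map_mul, ha, hb])
  have had := key _ h13 (a * d) (by rw [map_mul, ha, hd])
  have hbd := key _ h23 (b * d) (by rw [map_mul, hb, hd])
  have habd := key _ h123 (a * (b * d)) (by rw [map_mul, map_mul, ha, hb, hd])
  -- the commutation rule
  have L : ∀ u v : Γ, u * u = ζ → v * v = ζ → (u * v) * (u * v) = ζ → v * u = ζ * (u * v) := by
    intro u v huu hvv huv
    have e1 : v * u * v = u := by
      have : u * (v * u * v) = u * u := by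
        rw [huu, ← huv]; simp only [mul_assoc]
      exact mul_left_cancel this
    have e2 : v * u = u * v⁻¹ := by
      rw [eq_mul_inv_iff_mul_eq]; exact e1
    have e3 : v⁻¹ = ζ * v := by
      rw [inv_eq_iff_mul_eq_one]
      calc v * (ζ * v) = (v * ζ) * v := by rw [mul_assoc]
        _ = (ζ * v) * v := by rw [hcen v]
        _ = ζ * (v * v) := by rw [mul_assoc]
        _ = 1 := by rw [hvv, hζ2]
    rw [e2, e3, ← mul_assoc, hcen u, mul_assoc]
  have r1 := L a b haa hbb hab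
  have r2 := L a d haa hdd had
  have r3 := L a (b * d) haa hbd habd
  -- compare
  have r4 : b * d * a = a * (b * d) := by
    calc b * d * a = b * (d * a) := by rw [mul_assoc]
      _ = b * (ζ * (a * d)) := by rw [r2]
      _ = ζ * (b * a) * d := by
        rw [← mul_assoc b ζ, hcen b]; simp only [mul_assoc]
      _ = ζ * (ζ * (a * b)) * d := by rw [r1]
      _ = (ζ * ζ) * (a * (b * d)) := by simp only [mul_assoc]
      _ = a * (b * d) := by rw [hζ2, one_mul]
  rw [r4] at r3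
  have : ζ * (a * (b * d)) = 1 * (a * (b * d)) := by rw [one_mul]; exact r3.symm
  exact mul_right_cancel this

end squares


/-! ### the complement `[E~, c~]` -/

section complement

variable {Γ G : Type*} [Group Γ] [Group G] (σ : Γ →* G)

/-- an element with trivial square is its own inverse -/
theorem inv_eq_self_of_sq {H : Type*} [Group H] {x : H} (h : x * x = 1) : x⁻¹ = x :=
  inv_eq_of_mul_eq_one_right h

/-- lifts of elements of `E` commute, if they all are involutions -/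
theorem comm_of_sq (E : Subgroup G) (hE : ∀ x : Γ, σ x ∈ E → x * x = 1) {x y : Γ}
    (hx : σ x ∈ E) (hy : σ y ∈ E) : x * y = y * x := by
  have hxy : σ (x * y) ∈ E := by rw [map_mul]; exact E.mul_mem hx hy
  have h3 := hE _ hxy
  calc x * y = (x * y)⁻¹ := (inv_eq_self_of_sq h3).symm
    _ = y⁻¹ * x⁻¹ := mul_inv_rev x y
    _ = y * x := by rw [inv_eq_self_of_sq (hE x hx), inv_eq_self_of_sq (hE y hy)]

/-- the subgroup `[E~, c~]` of the preimage of `E` -/
def commSub (E : Subgroup G) (hE : ∀ x : Γ, σ x ∈ E → x * x = 1) (c : Γ)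
    (hcn : ∀ x : Γ, σ x ∈ E → σ (c * x * c⁻¹) ∈ E) : Subgroup Γ where
  carrier := {y | ∃ x : Γ, σ x ∈ E ∧ y = x * (c * x * c⁻¹)}
  one_mem' := ⟨1, by rw [map_one]; exact E.one_mem, by group⟩
  mul_mem' := by
    rintro _ _ ⟨x, hx, rfl⟩ ⟨x', hx', rfl⟩
    refine ⟨x * x', by rw [map_mul]; exact E.mul_mem hx hx', ?_⟩
    have h1 : c * (x * x') * c⁻¹ = (c * x * c⁻¹) * (c * x' * c⁻¹) := by group
    rw [h1]
    have hcomm := comm_of_sq σ E hE (hcn x hx) hx'
    calc x * (c * x * c⁻¹) * (x' * (c * x' * c⁻¹))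
        = x * ((c * x * c⁻¹) * x') * (c * x' * c⁻¹) := by simp only [mul_assoc]
      _ = x * (x' * (c * x * c⁻¹)) * (c * x' * c⁻¹) := by rw [hcomm]
      _ = x * x' * (c * x * c⁻¹ * (c * x' * c⁻¹)) := by simp only [mul_assoc]
  inv_mem' := by
    rintro _ ⟨x, hx, rfl⟩
    have hy : σ (x * (c * x * c⁻¹)) ∈ E := by rw [map_mul]; exact E.mul_mem hx (hcn x hx)
    rw [inv_eq_self_of_sq (hE _ hy)]
    exact ⟨x, hx, rfl⟩

variable (E : Subgroup G) (hE : ∀ x : Γ, σ x ∈ E → x * x = 1) (c : Γ)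
  (hcn : ∀ x : Γ, σ x ∈ E → σ (c * x * c⁻¹) ∈ E)

theorem mem_commSub {y : Γ} :
    y ∈ commSub σ E hE c hcn ↔ ∃ x : Γ, σ x ∈ E ∧ y = x * (c * x * c⁻¹) := Iff.rfl

theorem map_mem_of_mem_commSub {y : Γ} (hy : y ∈ commSub σ E hE c hcn) : σ y ∈ E := by
  obtain ⟨x, hx, rfl⟩ := hy
  rw [map_mul]; exact E.mul_mem hx (hcn x hx)

/-- the complement meets the kernel trivially -/
theorem eq_one_of_mem_commSub_of_ker (hker : σ.ker ≤ Subgroup.center Γ) (hc3 : c * c * c = 1)
    {y : Γ} (hy : y ∈ commSub σ E hE c hcn) (hy1 : σ y = 1) : y = 1 := by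
  obtain ⟨x, hx, rfl⟩ := hy
  set y := x * (c * x * c⁻¹) with hy
  have hyk : y ∈ σ.ker := hy1
  have hcen := Subgroup.mem_center_iff.mp (hker hyk)
  have hxi := inv_eq_self_of_sq (hE x hx)
  -- the conjugate of `x`
  have g1 : c * x * c⁻¹ = x * y := by
    have : c * x * c⁻¹ = x⁻¹ * y := by rw [hy]; group
    rw [this, hxi]
  have hcy : c * y * c⁻¹ = y := by rw [hcen c]; group
  have g2 : c * (c * x * c⁻¹) * c⁻¹ = x * y * y := by
    rw [g1]
    calc c * (x * y) * c⁻¹ = (c * x * c⁻¹) * (c * y * c⁻¹) := by group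
      _ = x * y * y := by rw [g1, hcy]
  have hyy : y * y = 1 := by
    have hyE : σ y ∈ E := by rw [hy1]; exact E.one_mem
    exact hE y hyE
  have g3 : c * (c * (c * x * c⁻¹) * c⁻¹) * c⁻¹ = x * y := by
    rw [g2, mul_assoc x, hyy, mul_one, g1]
  have g4 : c * (c * (c * x * c⁻¹) * c⁻¹) * c⁻¹ = x := by
    calc c * (c * (c * x * c⁻¹) * c⁻¹) * c⁻¹ = (c * c * c) * x * (c * c * c)⁻¹ := by group
      _ = x := by rw [hc3]; group
  rw [g4] at g3
  have : x * 1 = x * y := by rw [mul_one]; exact g3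
  exact (mul_left_cancel this).symm

/-- the complement covers `E` -/
theorem exists_mem_commSub_map_eq (hsurj : Function.Surjective σ) (hc3 : c * c * c = 1)
    (hfix : ∀ e ∈ E, σ c * e * (σ c)⁻¹ = e → e = 1) {e : G} (he : e ∈ E) :
    ∃ y ∈ commSub σ E hE c hcn, σ y = e := by
  obtain ⟨x0, rfl⟩ := hsurj e
  set x1 := c * x0 * c⁻¹ with hx1
  set x2 := c * x1 * c⁻¹ with hx2
  have h1 : σ x1 ∈ E := hcn x0 he
  have h2 : σ x2 ∈ E := hcn x1 h1
  have h3 : c * x2 * c⁻¹ = x0 := by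
    rw [hx2, hx1]
    calc c * (c * (c * x0 * c⁻¹) * c⁻¹) * c⁻¹ = (c * c * c) * x0 * (c * c * c)⁻¹ := by group
      _ = x0 := by rw [hc3]; group
  have c01 := comm_of_sq σ E hE he h1
  have c02 := comm_of_sq σ E hE he h2
  have c12 := comm_of_sq σ E hE h1 h2
  -- the product of the three conjugates is fixed
  have hw : σ (x0 * (x1 * x2)) ∈ E := by
    rw [map_mul, map_mul]; exact E.mul_mem he (E.mul_mem h1 h2)
  have hwfix : c * (x0 * (x1 * x2)) * c⁻¹ = x0 * (x1 * x2) := by
    calc c * (x0 * (x1 * x2)) * c⁻¹ = (c * x0 * c⁻¹) * ((c * x1 * c⁻¹) * (c * x2 * c⁻¹)) := by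
          group
      _ = x1 * (x2 * x0) := by rw [h3]
      _ = x0 * (x1 * x2) := by
        rw [← c02, ← mul_assoc, ← c01, mul_assoc]
  have hw1 : σ (x0 * (x1 * x2)) = 1 := by
    apply hfix _ hw
    rw [← map_inv, ← map_mul, ← map_mul, hwfix]
  refine ⟨x1 * x2, ⟨x1, h1, rfl⟩, ?_⟩
  have h0 : σ x0 * σ x0 = 1 := by rw [← map_mul, hE x0 he, map_one]
  rw [map_mul] at hw1
  have : σ (x1 * x2) = (σ x0)⁻¹ := eq_inv_of_mul_eq_one_right hw1
  rw [this, inv_eq_self_of_sq h0]

/-- the complement is normalised by the elements normalising the preimage of `E` and `⟨c⟩` -/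
theorem conj_mem_commSub (hc3 : c * c * c = 1) (g : Γ)
    (hgE : ∀ x : Γ, σ x ∈ E → σ (g * x * g⁻¹) ∈ E)
    (hgc : g * c * g⁻¹ = c ∨ g * c * g⁻¹ = c⁻¹) {y : Γ} (hy : y ∈ commSub σ E hE c hcn) :
    g * y * g⁻¹ ∈ commSub σ E hE c hcn := by
  obtain ⟨x, hx, rfl⟩ := hy
  set x' := g * x * g⁻¹ with hx'
  have h' : σ x' ∈ E := hgE x hx
  have e : g * (x * (c * x * c⁻¹)) * g⁻¹ = x' * ((g * c * g⁻¹) * x' * (g * c * g⁻¹)⁻¹) := by
    rw [hx']; group
  rw [e]
  rcases hgc with hgc | hgc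
  · rw [hgc]
    exact ⟨x', h', rfl⟩
  · rw [hgc, inv_inv]
    set x1 := c * x' * c⁻¹ with hx1
    have h1 : σ x1 ∈ E := hcn x' h'
    refine ⟨x' * x1, by rw [map_mul]; exact E.mul_mem h' h1, ?_⟩
    have hci : c⁻¹ = c * c := by
      rw [inv_eq_iff_mul_eq_one, ← mul_assoc]; exact hc3
    have e2 : c⁻¹ * x' * c = c * x1 * c⁻¹ := by
      rw [hx1]
      calc c⁻¹ * x' * c = c⁻¹ * x' * c⁻¹⁻¹ := by rw [inv_inv]
        _ = (c * c) * x' * (c * c)⁻¹ := by rw [← hci]
        _ = c * (c * x' * c⁻¹) * c⁻¹ := by group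
    rw [e2]
    have e3 : c * (x' * x1) * c⁻¹ = x1 * (c * x1 * c⁻¹) := by rw [hx1]; group
    rw [e3]
    calc x' * (c * x1 * c⁻¹) = x' * (x1 * x1) * (c * x1 * c⁻¹) := by rw [hE x1 h1, mul_one]
      _ = x' * x1 * (x1 * (c * x1 * c⁻¹)) := by simp only [mul_assoc]

end complement


/-! ### lifting a dihedral group of order eight -/

section dihedral

variable {Γ G : Type*} [Group Γ] [Group G] (σ : Γ →* G)

/-- a dihedral subgroup of order eight generated by lifts meets the kernel trivially -/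
theorem eq_one_of_mem_closure_pair [Finite Γ] [Finite G] (r s : Γ) (hss : s * s = 1)
    (hconj : s * r * s⁻¹ = r⁻¹) (hr4 : r ^ 4 = 1) (hr2 : σ r ^ 2 ≠ 1) :
    ∀ x ∈ Subgroup.closure ({r, s} : Set Γ), σ x = 1 → x = 1 := by
  have : Fact (Nat.Prime 2) := ⟨by norm_num⟩
  have hr2' : r ^ 2 ≠ 1 := by
    intro h; apply hr2; rw [← map_pow, h, map_one]
  have hord : orderOf r = 4 := by
    have := orderOf_eq_prime_pow (p := 2) (n := 1) (x := r) (by norm_num; exact hr2')
      (by norm_num; exact hr4)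
    norm_num at this
    exact this
  have hord' : orderOf (σ r) = 4 := by
    have := orderOf_eq_prime_pow (p := 2) (n := 1) (x := σ r) (by norm_num; exact hr2)
      (by norm_num; rw [← map_pow, hr4, map_one])
    norm_num at this
    exact this
  have hsN : s ∉ Subgroup.zpowers r := by
    intro hmem
    obtain ⟨i, hi⟩ := Subgroup.mem_zpowers_iff.mp hmem
    have h1 : s * r * s⁻¹ = r := by
      rw [← hi]
      have := ((Commute.refl r).zpow_left i).eq
      rw [this]; group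
    rw [hconj] at h1
    apply hr2'
    rw [pow_two]
    calc r * r = r * r⁻¹ := by rw [h1]
      _ = 1 := mul_inv_cancel r
  have hconj' : σ s * σ r * (σ s)⁻¹ = (σ r)⁻¹ := by
    rw [← map_inv, ← map_mul, ← map_mul, hconj, map_inv]
  have hsN' : σ s ∉ Subgroup.zpowers (σ r) := by
    intro hmem
    obtain ⟨i, hi⟩ := Subgroup.mem_zpowers_iff.mp hmem
    have h1 : σ s * σ r * (σ s)⁻¹ = σ r := by
      rw [← hi]
      have := ((Commute.refl (σ r)).zpow_left i).eq
      rw [this]; group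
    rw [hconj'] at h1
    apply hr2
    rw [pow_two]
    calc σ r * σ r = σ r * (σ r)⁻¹ := by rw [h1]
      _ = 1 := mul_inv_cancel _
  have card1 : Nat.card ↥(Subgroup.closure ({r, s} : Set Γ)) = 4 * 2 := by
    rw [card_closure_pair r s (by rw [hss]; exact Subgroup.one_mem _)
      (by rw [hconj]; exact Subgroup.inv_mem _ (Subgroup.mem_zpowers r)) hsN, hord]
  have card2 : Nat.card ↥(Subgroup.closure ({σ r, σ s} : Set G)) = 4 * 2 := by
    rw [card_closure_pair (σ r) (σ s)
      (by rw [← map_mul, hss, map_one]; exact Subgroup.one_mem _)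
      (by rw [hconj']; exact Subgroup.inv_mem _ (Subgroup.mem_zpowers (σ r))) hsN', hord']
  have hmap : (Subgroup.closure ({r, s} : Set Γ)).map σ = Subgroup.closure ({σ r, σ s} : Set G) := by
    rw [MonoidHom.map_closure, Set.image_pair]
  set H := Subgroup.closure ({r, s} : Set Γ) with hH
  let f : ↥H → ↥(H.map σ) := fun x => ⟨σ x, Subgroup.mem_map_of_mem σ x.2⟩
  have hf : Function.Surjective f := by
    rintro ⟨y, hy⟩
    obtain ⟨x, hx, rfl⟩ := Subgroup.mem_map.mp hy
    exact ⟨⟨x, hx⟩, rfl⟩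
  have hle : Nat.card ↥H ≤ Nat.card ↥(H.map σ) := by rw [hmap, card1, card2]
  have hbij := hf.bijective_of_nat_card_le hle
  intro x hx hx1
  have : f ⟨x, hx⟩ = f 1 := by
    apply Subtype.ext
    show σ x = σ ((1 : ↥H) : Γ)
    rw [hx1, Subgroup.coe_one, map_one]
  have := hbij.1 this
  exact congrArg Subtype.val this

end dihedral

/-! ### the main theorem -/

section main

variable {Γ G : Type*} [Group Γ] [Group G]

/-- **Splitting over a Sylow 2-subgroup `E T`.**  Let `σ` be a stem extension of the finite group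
`G` with kernel of exponent two.  Let `E` be a subgroup all of whose non-trivial elements are
conjugate to the involution `e0`, containing three elements whose products are non-trivial; let `c`
be an element of order three normalising `E` without fixed points on it; let `s, t` be conjugates
of `e0` with `(s t)²` also a conjugate of `e0`, normalising `E` and `⟨c⟩`, generating a dihedral
group meeting `E` trivially.  Then the kernel is killed by the index of `E ⟨s, t⟩`. -/
theorem pow_index_eq_one [Finite Γ] [Finite G] (σ : Γ →* G) (hσ : IsStemExtension σ)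
    (hexp : ∀ a ∈ σ.ker, a * a = 1)
    (E : Subgroup G) (e0 e1 e2 e3 : G) (he0 : e0 * e0 = 1) (he0ne : e0 ≠ 1)
    (h1 : ∃ g, g * e0 * g⁻¹ = e1) (h2 : ∃ g, g * e0 * g⁻¹ = e2) (h3 : ∃ g, g * e0 * g⁻¹ = e3)
    (h12 : ∃ g, g * e0 * g⁻¹ = e1 * e2) (h13 : ∃ g, g * e0 * g⁻¹ = e1 * e3)
    (h23 : ∃ g, g * e0 * g⁻¹ = e2 * e3) (h123 : ∃ g, g * e0 * g⁻¹ = e1 * (e2 * e3))
    (hEconj : ∀ e ∈ E, e = 1 ∨ ∃ g, g * e0 * g⁻¹ = e)
    (c : G) (hc3 : c * c * c = 1) (hcE : ∀ e ∈ E, c * e * c⁻¹ ∈ E)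
    (hcfix : ∀ e ∈ E, c * e * c⁻¹ = e → e = 1)
    (s t : G) (hs : ∃ g, g * e0 * g⁻¹ = s) (ht : ∃ g, g * e0 * g⁻¹ = t)
    (hr : ∃ g, g * e0 * g⁻¹ = (s * t) * (s * t))
    (hsE : ∀ e ∈ E, s * e * s⁻¹ ∈ E) (htE : ∀ e ∈ E, t * e * t⁻¹ ∈ E)
    (hsc : s * c * s⁻¹ = c ∨ s * c * s⁻¹ = c⁻¹) (htc : t * c * t⁻¹ = c ∨ t * c * t⁻¹ = c⁻¹)
    (hET : ∀ u ∈ E, u ∈ Subgroup.closure ({s * t, s} : Set G) → u = 1)
    (a : Γ) (ha : a ∈ σ.ker) :
    a ^ (E ⊔ Subgroup.closure ({s * t, s} : Set G)).index = 1 := by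
  have hsurj := hσ.1
  have hker := hσ.2.1
  -- lifts of conjugates of `e0` are involutions
  have linv0 : ∀ x : Γ, σ x = e0 → x * x = 1 :=
    lift_sq_eq_one_of_seven σ hsurj hker hexp e0 e1 e2 e3 he0 h1 h2 h3 h12 h13 h23 h123
  have linv : ∀ u : G, (∃ g, g * e0 * g⁻¹ = u) → ∀ x : Γ, σ x = u → x * x = 1 := by
    intro u ⟨g, hg⟩ x hx
    obtain ⟨g', rfl⟩ := hsurj g
    obtain ⟨x0, hx0⟩ := hsurj e0
    rw [← linv0 x0 hx0]
    apply sq_eq_of_conj σ hker hexp (g := g') (by rw [hx0, he0])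
    rw [hx0, hg, hx]
  have hE : ∀ x : Γ, σ x ∈ E → x * x = 1 := by
    intro x hx
    rcases hEconj _ hx with h | h
    · exact hexp x h
    · exact linv _ h x rfl
  -- unique lifts of elements of order three
  have uniq3 : ∀ x y : Γ, σ x = σ y → x * x * x = 1 → y * y * y = 1 → x = y := by
    intro x y hxy hx hy
    have hk : x⁻¹ * y ∈ σ.ker := by
      rw [MonoidHom.mem_ker, map_mul, map_inv, hxy, inv_mul_cancel]
    have hcen := Subgroup.mem_center_iff.mp (hker hk)
    have hkk := hexp _ hk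
    set k := x⁻¹ * y with hkdef
    have ey : y = x * k := by rw [hkdef]; group
    have e3 : y * y * y = (x * x * x) * (k * k * k) := by
      rw [ey]
      calc x * k * (x * k) * (x * k) = x * (k * x) * (k * x) * k := by simp only [mul_assoc]
        _ = x * (x * k) * (x * k) * k := by rw [← hcen x]
        _ = x * x * (k * x) * k * k := by simp only [mul_assoc]
        _ = x * x * (x * k) * k * k := by rw [← hcen x]
        _ = (x * x * x) * (k * k * k) := by simp only [mul_assoc]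
    rw [hy, hx, one_mul, hkk, one_mul] at e3
    rw [ey, ← e3, mul_one]
  -- the lift of `c`
  obtain ⟨c0, hc0⟩ := hsurj c
  have hk0 : c0 * c0 * c0 ∈ σ.ker := by
    rw [MonoidHom.mem_ker, map_mul, map_mul, hc0, hc3]
  have hcen0 := Subgroup.mem_center_iff.mp (hker hk0)
  have hkk0 := hexp _ hk0
  obtain ⟨c', hc'def⟩ : ∃ c' : Γ, c' = c0 * (c0 * c0 * c0) := ⟨_, rfl⟩
  have hc' : σ c' = c := by
    rw [hc'def, map_mul, MonoidHom.mem_ker.mp hk0, mul_one, hc0]
  have hc'3 : c' * c' * c' = 1 := by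
    obtain ⟨k, hkdef⟩ : ∃ k : Γ, k = c0 * c0 * c0 := ⟨_, rfl⟩
    rw [← hkdef] at hcen0 hkk0 hc'def
    rw [hc'def]
    calc c0 * k * (c0 * k) * (c0 * k) = c0 * (k * c0) * (k * c0) * k := by simp only [mul_assoc]
      _ = c0 * (c0 * k) * (c0 * k) * k := by rw [← hcen0 c0]
      _ = c0 * c0 * (k * c0) * k * k := by simp only [mul_assoc]
      _ = c0 * c0 * (c0 * k) * k * k := by rw [← hcen0 c0]
      _ = (c0 * c0 * c0) * (k * k) * k := by simp only [mul_assoc]
      _ = 1 := by rw [← hkdef, hkk0, mul_one, hkk0]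
  have hcn : ∀ x : Γ, σ x ∈ E → σ (c' * x * c'⁻¹) ∈ E := by
    intro x hx
    rw [map_mul, map_mul, map_inv, hc']
    exact hcE _ hx
  have hfix : ∀ e ∈ E, σ c' * e * (σ c')⁻¹ = e → e = 1 := by
    rw [hc']; exact hcfix
  set E0 := commSub σ E hE c' hcn with hE0
  -- the lifts of `s` and `t`
  obtain ⟨s', hs'⟩ := hsurj s
  obtain ⟨t', ht'⟩ := hsurj t
  have hss : s' * s' = 1 := linv s hs s' hs'
  have htt : t' * t' = 1 := linv t ht t' ht'
  have hrr : (s' * t') * (s' * t') * ((s' * t') * (s' * t')) = 1 :=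
    linv _ hr _ (by rw [map_mul, map_mul, hs', ht'])
  have hr4 : (s' * t') ^ 4 = 1 := by
    rw [show 4 = 2 + 2 from rfl, pow_add, pow_two]; exact hrr
  have hr2 : σ (s' * t') ^ 2 ≠ 1 := by
    rw [map_mul, hs', ht', pow_two]
    obtain ⟨g, hg⟩ := hr
    rw [← hg]
    intro h
    apply he0ne
    have : g * e0 * g⁻¹ = g * 1 * g⁻¹ := by rw [h]; group
    have h5 : g * e0 = g * 1 := mul_right_cancel this
    exact mul_left_cancel h5
  have hconj : s' * (s' * t') * s'⁻¹ = (s' * t')⁻¹ := by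
    rw [mul_inv_rev, inv_eq_self_of_sq hss, inv_eq_self_of_sq htt, ← mul_assoc, hss, one_mul]
  -- the lifts normalise the complement
  have hgc : ∀ g' : Γ, (σ g' * c * (σ g')⁻¹ = c ∨ σ g' * c * (σ g')⁻¹ = c⁻¹) →
      (g' * c' * g'⁻¹ = c' ∨ g' * c' * g'⁻¹ = c'⁻¹) := by
    intro g' h
    have hcube : (g' * c' * g'⁻¹) * (g' * c' * g'⁻¹) * (g' * c' * g'⁻¹) = 1 := by
      calc (g' * c' * g'⁻¹) * (g' * c' * g'⁻¹) * (g' * c' * g'⁻¹)
          = g' * (c' * c' * c') * g'⁻¹ := by group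
        _ = 1 := by rw [hc'3]; group
    rcases h with h | h
    · left
      apply uniq3 _ _ _ hcube hc'3
      rw [map_mul, map_mul, map_inv, hc', h]
    · right
      apply uniq3 _ _ _ hcube
      · calc c'⁻¹ * c'⁻¹ * c'⁻¹ = (c' * c' * c')⁻¹ := by group
          _ = 1 := by rw [hc'3, inv_one]
      · rw [map_mul, map_mul, map_inv, hc', h, map_inv, hc']
  have hnorm : ∀ g' : Γ, g' * g' = 1 → (∀ e ∈ E, σ g' * e * (σ g')⁻¹ ∈ E) →
      (σ g' * c * (σ g')⁻¹ = c ∨ σ g' * c * (σ g')⁻¹ = c⁻¹) → g' ∈ Subgroup.normalizer (E0 : Set Γ) := by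
    intro g' hgg hgE hgcc
    have hconjmem : ∀ y ∈ E0, g' * y * g'⁻¹ ∈ E0 := by
      intro y hy
      apply conj_mem_commSub σ E hE c' hcn hc'3 g' _ (hgc g' hgcc) hy
      intro x hx
      rw [map_mul, map_mul, map_inv]
      exact hgE _ hx
    rw [Subgroup.mem_normalizer_iff]
    intro y
    constructor
    · exact hconjmem y
    · intro hy
      have := hconjmem _ hy
      have e : g' * (g' * y * g'⁻¹) * g'⁻¹ = y := by
        rw [inv_eq_self_of_sq hgg]
        calc g' * (g' * y * g') * g' = (g' * g') * y * (g' * g') := by simp only [mul_assoc]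
          _ = y := by rw [hgg, one_mul, mul_one]
      rwa [e] at this
  have hsn : s' ∈ Subgroup.normalizer (E0 : Set Γ) := hnorm s' hss (by rw [hs']; exact hsE) (by rw [hs']; exact hsc)
  have htn : t' ∈ Subgroup.normalizer (E0 : Set Γ) := hnorm t' htt (by rw [ht']; exact htE) (by rw [ht']; exact htc)
  set T0 := Subgroup.closure ({s' * t', s'} : Set Γ) with hT0
  have hT0n : T0 ≤ Subgroup.normalizer (E0 : Set Γ) := by
    rw [hT0, Subgroup.closure_le]
    rintro x (rfl | hx)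
    · exact (Subgroup.normalizer (E0 : Set Γ)).mul_mem hsn htn
    · rw [Set.mem_singleton_iff] at hx; subst hx; exact hsn
  have hT0ker : ∀ x ∈ T0, σ x = 1 → x = 1 :=
    eq_one_of_mem_closure_pair σ (s' * t') s' hss hconj hr4 hr2
  set T := Subgroup.closure ({s * t, s} : Set G) with hT
  have hT0map : T0.map σ = T := by
    rw [hT0, MonoidHom.map_closure, Set.image_pair, map_mul, hs', ht']
  have hE0map : E0.map σ = E := by
    apply le_antisymm
    · rintro _ ⟨y, hy, rfl⟩
      exact map_mem_of_mem_commSub σ E hE c' hcn hy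
    · intro e he
      obtain ⟨y, hy, rfl⟩ := exists_mem_commSub_map_eq σ E hE c' hcn hsurj hc'3 hfix he
      exact Subgroup.mem_map_of_mem σ hy
  have hS0map : (E0 ⊔ T0).map σ = E ⊔ T := by
    rw [Subgroup.map_sup, hE0map, hT0map]
  have hN : ∀ w ∈ T0, ∀ y ∈ E0, w * y * w⁻¹ ∈ E0 := by
    intro w hw y hy
    exact (Subgroup.mem_normalizer_iff.mp (hT0n hw) y).mp hy
  have hS0ker : ∀ g ∈ E0 ⊔ T0, σ g = 1 → g = 1 := by
    intro g hg hg1
    obtain ⟨y, hy, w, hw, rfl⟩ := exists_mul_of_mem_sup E0 T0 hN g hg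
    have hyE : σ y ∈ E := map_mem_of_mem_commSub σ E hE c' hcn hy
    have hwT : σ w ∈ T := by rw [← hT0map]; exact Subgroup.mem_map_of_mem σ hw
    rw [map_mul] at hg1
    have hwy : σ w = (σ y)⁻¹ := eq_inv_of_mul_eq_one_right hg1
    have hw1 : σ w = 1 := hET _ (by rw [hwy]; exact E.inv_mem hyE) hwT
    have hw1' : w = 1 := hT0ker w hw hw1
    rw [hw1, mul_one] at hg1
    have hy1 : y = 1 := eq_one_of_mem_commSub_of_ker σ E hE c' hcn hker hc'3 hy hg1
    rw [hw1', hy1, mul_one]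
  -- the transfer
  apply pow_index_eq_one_of_inf σ hσ (E ⊔ T) Subgroup.index_ne_zero_of_finite _ a ha
  rw [eq_bot_iff]
  rintro k ⟨hk1, hk2⟩
  rw [Subgroup.mem_bot]
  -- commutators of the preimage lie in the complement
  have hcomm : commutator ↥((E ⊔ T).comap σ) ≤ (E0 ⊔ T0).subgroupOf ((E ⊔ T).comap σ) := by
    rw [commutator_def, Subgroup.commutator_le]
    intro g1 _ g2 _
    rw [Subgroup.mem_subgroupOf]
    have hg1 : σ (g1 : Γ) ∈ (E0 ⊔ T0).map σ := by rw [hS0map]; exact g1.2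
    have hg2 : σ (g2 : Γ) ∈ (E0 ⊔ T0).map σ := by rw [hS0map]; exact g2.2
    obtain ⟨x1, hx1, e1⟩ := Subgroup.mem_map.mp hg1
    obtain ⟨x2, hx2, e2⟩ := Subgroup.mem_map.mp hg2
    have : ((⁅g1, g2⁆ : ↥((E ⊔ T).comap σ)) : Γ) = ⁅x1, x2⁆ := by
      have e0 : ((⁅g1, g2⁆ : ↥((E ⊔ T).comap σ)) : Γ) = ⁅(g1 : Γ), (g2 : Γ)⁆ := rfl
      rw [e0]
      exact commutatorElement_congr_of_central σ hker e1.symm e2.symm
    rw [this, commutatorElement_def]
    exact (E0 ⊔ T0).mul_mem ((E0 ⊔ T0).mul_mem ((E0 ⊔ T0).mul_mem hx1 hx2)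
      ((E0 ⊔ T0).inv_mem hx1)) ((E0 ⊔ T0).inv_mem hx2)
  have hkS0 : (k : Γ) ∈ E0 ⊔ T0 := Subgroup.mem_subgroupOf.mp (hcomm hk2)
  have hk1' : σ (k : Γ) = 1 := by
    have := MonoidHom.mem_ker.mp hk1
    exact congrArg Subtype.val this
  exact Subtype.ext (hS0ker _ hkS0 hk1')

end main


/-! ### the order of `E ⟨s, t⟩` -/

section order

variable {G : Type*} [Group G]

/-- an involution mapping a subgroup into itself normalises it -/
theorem mem_normalizer_of_sq {H : Subgroup G} {g : G} (hgg : g * g = 1)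
    (h : ∀ y ∈ H, g * y * g⁻¹ ∈ H) : g ∈ Subgroup.normalizer (H : Set G) := by
  rw [Subgroup.mem_normalizer_iff]
  intro y
  constructor
  · exact h y
  · intro hy
    have := h _ hy
    have e : g * (g * y * g⁻¹) * g⁻¹ = y := by
      rw [inv_eq_self_of_sq hgg]
      calc g * (g * y * g) * g = (g * g) * y * (g * g) := by simp only [mul_assoc]
        _ = y := by rw [hgg, one_mul, mul_one]
    rwa [e] at this

/-- the order of a dihedral group of order eight -/
theorem card_closure_dihedral [Finite G] (r s : G) (hss : s * s = 1)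
    (hconj : s * r * s⁻¹ = r⁻¹) (hr4 : r ^ 4 = 1) (hr2 : r ^ 2 ≠ 1) :
    Nat.card ↥(Subgroup.closure ({r, s} : Set G)) = 8 := by
  have : Fact (Nat.Prime 2) := ⟨by norm_num⟩
  have hord : orderOf r = 4 := by
    have := orderOf_eq_prime_pow (p := 2) (n := 1) (x := r) (by norm_num; exact hr2)
      (by norm_num; exact hr4)
    norm_num at this
    exact this
  have hsN : s ∉ Subgroup.zpowers r := by
    intro hmem
    obtain ⟨i, hi⟩ := Subgroup.mem_zpowers_iff.mp hmem
    have h1 : s * r * s⁻¹ = r := by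
      rw [← hi]
      have := ((Commute.refl r).zpow_left i).eq
      rw [this]; group
    rw [hconj] at h1
    apply hr2
    rw [pow_two]
    calc r * r = r * r⁻¹ := by rw [h1]
      _ = 1 := mul_inv_cancel r
  rw [card_closure_pair r s (by rw [hss]; exact Subgroup.one_mem _)
    (by rw [hconj]; exact Subgroup.inv_mem _ (Subgroup.mem_zpowers r)) hsN, hord]

/-- the order of `E ⟨s, t⟩` -/
theorem card_sup_dihedral [Finite G] (E : Subgroup G) (s t : G) (hss : s * s = 1)
    (htt : t * t = 1) (hr4 : (s * t) * (s * t) * ((s * t) * (s * t)) = 1)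
    (hr2 : (s * t) * (s * t) ≠ 1)
    (hsE : ∀ e ∈ E, s * e * s⁻¹ ∈ E) (htE : ∀ e ∈ E, t * e * t⁻¹ ∈ E)
    (hET : ∀ u ∈ E, u ∈ Subgroup.closure ({s * t, s} : Set G) → u = 1) :
    Nat.card ↥(E ⊔ Subgroup.closure ({s * t, s} : Set G)) = Nat.card ↥E * 8 := by
  have hsn := mem_normalizer_of_sq hss hsE
  have htn := mem_normalizer_of_sq htt htE
  have hTn : Subgroup.closure ({s * t, s} : Set G) ≤ Subgroup.normalizer (E : Set G) := by
    rw [Subgroup.closure_le]
    rintro x (rfl | hx)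
    · exact (Subgroup.normalizer (E : Set G)).mul_mem hsn htn
    · rw [Set.mem_singleton_iff] at hx; subst hx; exact hsn
  have hN : ∀ w ∈ Subgroup.closure ({s * t, s} : Set G), ∀ e ∈ E, w * e * w⁻¹ ∈ E := by
    intro w hw e he
    exact (Subgroup.mem_normalizer_iff.mp (hTn hw) e).mp he
  rw [card_sup_of_normalizes E _ hN hET]
  congr 1
  apply card_closure_dihedral (s * t) s hss
  · rw [mul_inv_rev, inv_eq_self_of_sq hss, inv_eq_self_of_sq htt, ← mul_assoc, hss, one_mul]
  · rw [show 4 = 2 + 2 from rfl, pow_add, pow_two]; exact hr4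
  · rw [pow_two]; exact hr2

end order

/-! ### reduction to kernels of exponent two -/

section reduction

universe u v

variable {Γ : Type u} {G : Type v} [Group Γ] [Group G]

/-- If no stem extension of `G` has a non-trivial kernel of exponent two, then the kernel of
every stem extension of `G` whose kernel is killed by a power of two is trivial. -/
theorem ker_eq_bot_of_exponent_two [Finite Γ] (σ : Γ →* G) (hσ : IsStemExtension σ) (k : ℕ)
    (hk : ∀ a ∈ σ.ker, a ^ (2 ^ k) = 1)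
    (H : ∀ (Γ' : Type u) [Group Γ'] [Finite Γ'] (σ' : Γ' →* G), IsStemExtension σ' →
      (∀ a ∈ σ'.ker, a * a = 1) → σ'.ker = ⊥) : σ.ker = ⊥ := by
  obtain ⟨hsurj, hcen, hcomm⟩ := hσ
  -- the subgroup of squares of the kernel
  set Z1 : Subgroup Γ := Subgroup.closure {b | ∃ a ∈ σ.ker, b = a * a} with hZ1
  have hZ1le : Z1 ≤ σ.ker := by
    rw [hZ1, Subgroup.closure_le]
    rintro b ⟨a, ha, rfl⟩
    exact σ.ker.mul_mem ha ha
  have hZ1sq : ∀ b ∈ Z1, ∃ a ∈ σ.ker, b = a * a := by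
    intro b hb
    induction hb using Subgroup.closure_induction with
    | mem x hx => exact hx
    | one => exact ⟨1, σ.ker.one_mem, (mul_one 1).symm⟩
    | mul x y _ _ hx hy =>
      obtain ⟨a, ha, rfl⟩ := hx
      obtain ⟨a', ha', rfl⟩ := hy
      refine ⟨a * a', σ.ker.mul_mem ha ha', ?_⟩
      have hc := Subgroup.mem_center_iff.mp (hcen ha')
      calc a * a * (a' * a') = a * (a * a') * a' := by simp only [mul_assoc]
        _ = a * (a' * a) * a' := by rw [hc a]
        _ = a * a' * (a * a') := by simp only [mul_assoc]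
    | inv x _ hx =>
      obtain ⟨a, ha, rfl⟩ := hx
      exact ⟨a⁻¹, σ.ker.inv_mem ha, by group⟩
  have hnorm : Z1.Normal := by
    constructor
    intro n hn g
    have hc := Subgroup.mem_center_iff.mp (hcen (hZ1le hn))
    have : g * n * g⁻¹ = n := by rw [hc g]; group
    rw [this]; exact hn
  let σ' : Γ ⧸ Z1 →* G := QuotientGroup.lift Z1 σ (fun x hx => MonoidHom.mem_ker.mp (hZ1le hx))
  have hσ'mk : ∀ x : Γ, σ' (QuotientGroup.mk x) = σ x := fun x => rfl
  have hstem : IsStemExtension σ' := by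
    refine ⟨?_, ?_, ?_⟩
    · intro y
      obtain ⟨x, rfl⟩ := hsurj y
      exact ⟨QuotientGroup.mk x, rfl⟩
    · intro q hq
      obtain ⟨x, rfl⟩ := QuotientGroup.mk_surjective q
      have hx : x ∈ σ.ker := by
        rw [MonoidHom.mem_ker] at hq ⊢
        rwa [hσ'mk] at hq
      have hc := Subgroup.mem_center_iff.mp (hcen hx)
      rw [Subgroup.mem_center_iff]
      intro q'
      obtain ⟨y, rfl⟩ := QuotientGroup.mk_surjective q'
      rw [← QuotientGroup.mk_mul, ← QuotientGroup.mk_mul, hc y]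
    · intro q hq
      obtain ⟨x, rfl⟩ := QuotientGroup.mk_surjective q
      have hx : x ∈ σ.ker := by
        rw [MonoidHom.mem_ker] at hq ⊢
        rwa [hσ'mk] at hq
      have h1 : (QuotientGroup.mk x : Γ ⧸ Z1) ∈ (commutator Γ).map (QuotientGroup.mk' Z1) :=
        Subgroup.mem_map_of_mem _ (hcomm hx)
      rw [commutator_def, Subgroup.map_commutator] at h1
      rw [commutator_def]
      exact Subgroup.commutator_mono le_top le_top h1
  have hexp : ∀ q ∈ σ'.ker, q * q = 1 := by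
    intro q hq
    obtain ⟨x, rfl⟩ := QuotientGroup.mk_surjective q
    have hx : x ∈ σ.ker := by
      rw [MonoidHom.mem_ker] at hq ⊢
      rwa [hσ'mk] at hq
    rw [← QuotientGroup.mk_mul, QuotientGroup.eq_one_iff]
    exact Subgroup.subset_closure ⟨x, hx, rfl⟩
  have hbot := H (Γ ⧸ Z1) σ' hstem hexp
  have hsq : ∀ x ∈ σ.ker, ∃ a ∈ σ.ker, x = a * a := by
    intro x hx
    apply hZ1sq
    have : (QuotientGroup.mk x : Γ ⧸ Z1) ∈ σ'.ker := by
      rw [MonoidHom.mem_ker, hσ'mk]; exact hx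
    rw [hbot, Subgroup.mem_bot, QuotientGroup.eq_one_iff] at this
    exact this
  have hpow : ∀ j : ℕ, ∀ x ∈ σ.ker, ∃ a ∈ σ.ker, x = a ^ (2 ^ j) := by
    intro j
    induction j with
    | zero => intro x hx; exact ⟨x, hx, by simp⟩
    | succ j ih =>
      intro x hx
      obtain ⟨a, ha, rfl⟩ := ih x hx
      obtain ⟨b, hb, rfl⟩ := hsq a ha
      refine ⟨b, hb, ?_⟩
      rw [← pow_two, ← pow_mul, pow_succ, mul_comm]
  rw [eq_bot_iff]
  intro x hx
  obtain ⟨a, ha, rfl⟩ := hpow k x hx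
  rw [Subgroup.mem_bot]
  exact hk a ha

end reduction

/-! ### odd primes (after the lead's proof for the Mathieu group of degree eleven) -/

section odd

variable {Γ G : Type*} [Group Γ] [Group G]

/-- transfer into the preimage of a cyclic subgroup of prime order -/
theorem pow_eq_one_of_prime [Finite G] (σ : Γ →* G) (hσ : IsStemExtension σ) (p : ℕ)
    [hp : Fact p.Prime] (u : G) (hu : u ^ p = 1) (hu1 : u ≠ 1) (a : Γ) (ha : a ∈ σ.ker) :
    a ^ (Nat.card G / p) = 1 := by
  obtain ⟨v, rfl⟩ := hσ.1 u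
  have hcl : Subgroup.closure (σ '' ({v} : Set Γ)) = Subgroup.zpowers (σ v) := by
    rw [Set.image_singleton, Subgroup.zpowers_eq_closure]
  have hcard : Nat.card ↥(Subgroup.zpowers (σ v)) = p := by
    rw [Nat.card_zpowers]; exact orderOf_eq_prime hu hu1
  have hidx : (Subgroup.zpowers (σ v)).index = Nat.card G / p := by
    have := Subgroup.card_mul_index (Subgroup.zpowers (σ v))
    rw [hcard] at this
    rw [← this, Nat.mul_div_cancel_left _ hp.out.pos]
  have h := pow_index_eq_one_of_commute σ hσ ({v} : Set Γ)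
    (by
      intro a ha b hb
      rw [Set.mem_singleton_iff] at ha hb
      rw [ha, hb])
    (by
      rw [hcl]
      exact Subgroup.index_ne_zero_of_finite) a ha
  rwa [hcl, hidx] at h

/-- the lifts of two commuting elements of order three commute, if some element centralises the
first and inverts the second -/
theorem lifts_commute (σ : Γ →* G) (hσ : IsStemExtension σ) (x y t : Γ)
    (hx3 : σ x ^ 3 = 1) (hy3 : σ y ^ 3 = 1) (hxy : σ x * σ y = σ y * σ x)
    (htx : σ t * σ x = σ x * σ t) (hty : σ t * σ y = σ y ^ 2 * σ t) : x * y = y * x := by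
  have hc := hσ.2.1
  rw [← commutatorElement_eq_one_iff_mul_comm]
  set c := ⁅x, y⁆ with hcdef
  have hck : c ∈ σ.ker := by
    rw [MonoidHom.mem_ker, hcdef, map_commutatorElement, commutatorElement_eq_one_iff_mul_comm]
    exact hxy
  have hcc : c ∈ Subgroup.center Γ := hc hck
  have h1 : ⁅x, y⁻¹⁆ = c := by
    have e1 : t * c * t⁻¹ = c := by
      rw [(Subgroup.mem_center_iff.mp hcc t)]; group
    have e2 : t * c * t⁻¹ = ⁅t * x * t⁻¹, t * y * t⁻¹⁆ := by
      rw [hcdef]; simp only [commutatorElement_def]; group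
    rw [← e1, e2]
    symm
    apply commutatorElement_congr_of_central σ hc
    · rw [map_mul, map_mul, map_inv, htx]; group
    · rw [map_mul, map_mul, map_inv, map_inv, hty]
      have : (σ y)⁻¹ = σ y ^ 2 := by
        rw [inv_eq_iff_mul_eq_one, ← pow_succ', hy3]
      rw [this]; group
  have h2 : ⁅x, y⁻¹⁆ * c = 1 := by
    have := commutatorElement_mul_right_of_central x y⁻¹ y hcc
    rw [inv_mul_cancel, commutatorElement_one_right] at this
    exact this.symm
  rw [h1] at h2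
  have h3 : c * c * c = 1 := by
    have e1 : ⁅x * x, y⁆ = c * c := commutatorElement_mul_left_of_central x x y hcc
    have e2 : ⁅x * x * x, y⁆ = c * c * c := by
      rw [commutatorElement_mul_left_of_central (x * x) x y hcc, e1]
    rw [← e2, commutatorElement_eq_one_iff_mul_comm]
    have hk : x * x * x ∈ σ.ker := by
      rw [MonoidHom.mem_ker, map_mul, map_mul, ← hx3, pow_succ, pow_two]
    exact (Subgroup.mem_center_iff.mp (hc hk) y).symm
  rw [h2, one_mul] at h3
  exact h3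

/-- transfer into the preimage of an elementary abelian subgroup of order nine -/
theorem pow_eq_one_of_nine [Finite G] (σ : Γ →* G) (hσ : IsStemExtension σ) (x y t : G)
    (hx3 : x ^ 3 = 1) (hx1 : x ≠ 1) (hy3 : y ^ 3 = 1) (hy2 : y ^ 2 ≠ 1) (hxy : x * y = y * x)
    (htx : t * x = x * t) (hty : t * y = y ^ 2 * t) (a : Γ) (ha : a ∈ σ.ker) :
    a ^ (Nat.card G / 9) = 1 := by
  obtain ⟨x', rfl⟩ := hσ.1 x
  obtain ⟨y', rfl⟩ := hσ.1 y
  obtain ⟨t', rfl⟩ := hσ.1 t
  have hcomm := lifts_commute σ hσ x' y' t' hx3 hy3 hxy htx hty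
  have hcl : Subgroup.closure (σ '' ({x', y'} : Set Γ)) =
      Subgroup.closure ({σ x', σ y'} : Set G) := by
    rw [Set.image_pair]
  have hyx : σ y' ∉ Subgroup.zpowers (σ x') := by
    intro hmem
    obtain ⟨i, hi⟩ := Subgroup.mem_zpowers_iff.mp hmem
    have h1 : σ t' * σ y' = σ y' * σ t' := by
      rw [← hi]
      exact ((Commute.zpow_right (show Commute (σ t') (σ x') from htx) i)).eq
    rw [hty] at h1
    have h2 : σ y' ^ 2 = σ y' := mul_right_cancel h1
    apply hy2
    have h3 : σ y' = 1 := by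
      have : σ y' ^ 2 = σ y' * 1 := by rw [mul_one]; exact h2
      rw [pow_two] at this
      exact mul_left_cancel this
    rw [h3, one_pow]
  have : Fact (Nat.Prime 3) := ⟨by norm_num⟩
  have hdvd : 3 ^ 2 ∣ Nat.card ↥(Subgroup.closure ({σ x', σ y'} : Set G)) :=
    sq_dvd_card_closure_pair 3 (σ x') (σ y') hx3 hy3 hx1 hxy hyx
  have h := pow_index_eq_one_of_commute σ hσ ({x', y'} : Set Γ)
    (by
      rintro a (rfl | ha) b (rfl | hb)
      · rfl
      · rw [Set.mem_singleton_iff] at hb; subst hb; exact hcomm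
      · rw [Set.mem_singleton_iff] at ha; subst ha; exact hcomm.symm
      · rw [Set.mem_singleton_iff] at ha hb; subst ha; subst hb; rfl)
    (by
      rw [hcl]
      exact Subgroup.index_ne_zero_of_finite) a ha
  rw [hcl] at h
  have hmul := Subgroup.card_mul_index (Subgroup.closure ({σ x', σ y'} : Set G))
  obtain ⟨m, hm⟩ := hdvd
  have hidx : (Subgroup.closure ({σ x', σ y'} : Set G)).index ∣ Nat.card G / 9 := by
    rw [hm] at hmul
    have e : Nat.card G / 9 = m * (Subgroup.closure ({σ x', σ y'} : Set G)).index := by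
      rw [← hmul]
      rw [show (3 : ℕ) ^ 2 * m * (Subgroup.closure ({σ x', σ y'} : Set G)).index =
        9 * (m * (Subgroup.closure ({σ x', σ y'} : Set G)).index) by ring]
      exact Nat.mul_div_cancel_left _ (by norm_num)
    rw [e]
    exact Dvd.intro_left _ rfl
  obtain ⟨k, hk⟩ := hidx
  rw [hk, pow_mul, h, one_pow]

end odd

end Cfsg.Agent.Lib.Helper8_StemTwo
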