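import Mathlib
import Cfsg.Prelude.Def_KGroupFacts
import Cfsg.Agent.Lib.Helper8_StemTwo

/-!
# More tools for kernels of stem extensions

* `exists_pow_of_exponent`: reduction to kernels of exponent `n`;
* `card_closure_heis`, `pow_index_eq_one_heis`: transfer into an extraspecial group of order 27
  and exponent three, all of whose elements are real and which admits an automorphism induced by
  the group inverting it modulo its centre;
* `pow_index_eq_one_core`: the splitting over `E T` with a general complement `T`;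
* `exists_lift_D8xC2`: lifting a direct product of a dihedral group of order eight with a group
  of order two.
-/

set_option autoImplicit false
open Cfsg
open Cfsg.Agent.Lib.Lead_StemLocal Cfsg.Agent.Lib.Helper66_StemTools Cfsg.Agent.Lib.Helper66_Stem
open Cfsg.Agent.Lib.Helper8_StemTwo
open scoped commutatorElement

namespace Cfsg.Agent.Lib.Helper8_StemThree

/-! ### reduction to kernels of exponent `n` -/

section reduction

universe u v

variable {Γ : Type u} {G : Type v} [Group Γ] [Group G]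

/-- If no stem extension of `G` has a non-trivial kernel of exponent `n`, then every element of
the kernel of a stem extension of `G` is an `n ^ j`-th power in the kernel. -/
theorem exists_pow_of_exponent [Finite Γ] (σ : Γ →* G) (hσ : IsStemExtension σ) (n : ℕ)
    (H : ∀ (Γ' : Type u) [Group Γ'] [Finite Γ'] (σ' : Γ' →* G), IsStemExtension σ' →
      (∀ a ∈ σ'.ker, a ^ n = 1) → σ'.ker = ⊥) :
    ∀ j : ℕ, ∀ x ∈ σ.ker, ∃ a ∈ σ.ker, x = a ^ (n ^ j) := by
  obtain ⟨hsurj, hcen, hcomm⟩ := hσ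
  set Z1 : Subgroup Γ := Subgroup.closure {b | ∃ a ∈ σ.ker, b = a ^ n} with hZ1
  have hZ1le : Z1 ≤ σ.ker := by
    rw [hZ1, Subgroup.closure_le]
    rintro b ⟨a, ha, rfl⟩
    exact σ.ker.pow_mem ha n
  have hZ1pow : ∀ b ∈ Z1, ∃ a ∈ σ.ker, b = a ^ n := by
    intro b hb
    induction hb using Subgroup.closure_induction with
    | mem x hx => exact hx
    | one => exact ⟨1, σ.ker.one_mem, (one_pow n).symm⟩
    | mul x y _ _ hx hy =>
      obtain ⟨a, ha, rfl⟩ := hx
      obtain ⟨a', ha', rfl⟩ := hy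
      refine ⟨a * a', σ.ker.mul_mem ha ha', ?_⟩
      have hc : Commute a a' := Subgroup.mem_center_iff.mp (hcen ha') a
      exact (hc.mul_pow n).symm
    | inv x _ hx =>
      obtain ⟨a, ha, rfl⟩ := hx
      exact ⟨a⁻¹, σ.ker.inv_mem ha, (inv_pow a n).symm⟩
  have hnorm : Z1.Normal := by
    constructor
    intro m hm g
    have hc := Subgroup.mem_center_iff.mp (hcen (hZ1le hm))
    have : g * m * g⁻¹ = m := by rw [hc g]; group
    rw [this]; exact hm
  let σ' : Γ ⧸ Z1 →* G := QuotientGroup.lift Z1 σ (fun x hx => MonoidHom.mem_ker.mp (hZ1le hx))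
  have hσ'mk : ∀ x : Γ, σ' (QuotientGroup.mk x) = σ x := fun x => rfl
  have hstem : IsStemExtension σ' := by
    refine ⟨?_, ?_, ?_⟩
    · intro y
      obtain ⟨x, rfl⟩ := hsurj y
      exact ⟨QuotientGroup.mk x, rfl⟩
    · intro q hq
      obtain ⟨x, rfl⟩ := QuotientGroup.mk_surjective q
      have hx : x ∈ σ.ker := by
        rw [MonoidHom.mem_ker] at hq ⊢
        rwa [hσ'mk] at hq
      have hc := Subgroup.mem_center_iff.mp (hcen hx)
      rw [Subgroup.mem_center_iff]
      intro q'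
      obtain ⟨y, rfl⟩ := QuotientGroup.mk_surjective q'
      rw [← QuotientGroup.mk_mul, ← QuotientGroup.mk_mul, hc y]
    · intro q hq
      obtain ⟨x, rfl⟩ := QuotientGroup.mk_surjective q
      have hx : x ∈ σ.ker := by
        rw [MonoidHom.mem_ker] at hq ⊢
        rwa [hσ'mk] at hq
      have h1 : (QuotientGroup.mk x : Γ ⧸ Z1) ∈ (commutator Γ).map (QuotientGroup.mk' Z1) :=
        Subgroup.mem_map_of_mem _ (hcomm hx)
      rw [commutator_def, Subgroup.map_commutator] at h1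
      rw [commutator_def]
      exact Subgroup.commutator_mono le_top le_top h1
  have hexp : ∀ q ∈ σ'.ker, q ^ n = 1 := by
    intro q hq
    obtain ⟨x, rfl⟩ := QuotientGroup.mk_surjective q
    have hx : x ∈ σ.ker := by
      rw [MonoidHom.mem_ker] at hq ⊢
      rwa [hσ'mk] at hq
    rw [← QuotientGroup.mk_pow, QuotientGroup.eq_one_iff]
    exact Subgroup.subset_closure ⟨x, hx, rfl⟩
  have hbot := H (Γ ⧸ Z1) σ' hstem hexp
  have hpw : ∀ x ∈ σ.ker, ∃ a ∈ σ.ker, x = a ^ n := by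
    intro x hx
    apply hZ1pow
    have : (QuotientGroup.mk x : Γ ⧸ Z1) ∈ σ'.ker := by
      rw [MonoidHom.mem_ker, hσ'mk]; exact hx
    rw [hbot, Subgroup.mem_bot, QuotientGroup.eq_one_iff] at this
    exact this
  intro j
  induction j with
  | zero => intro x hx; exact ⟨x, hx, by simp⟩
  | succ j ih =>
    intro x hx
    obtain ⟨a, ha, rfl⟩ := ih x hx
    obtain ⟨b, hb, rfl⟩ := hpw a ha
    refine ⟨b, hb, ?_⟩
    rw [← pow_mul, pow_succ, mul_comm]

end reduction


/-! ### the extraspecial group of order 27 and exponent three -/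

section heis

variable {G : Type*} [Group G]

/-- the elements of a cyclic group of order dividing three -/
theorem mem_zpowers_three {x u : G} (hx3 : x ^ 3 = 1) (hu : u ∈ Subgroup.zpowers x) :
    u = 1 ∨ u = x ∨ u = x ^ 2 := by
  obtain ⟨k, rfl⟩ := Subgroup.mem_zpowers_iff.mp hu
  have h3 : x ^ (3 : ℤ) = 1 := by
    rw [show (3 : ℤ) = ((3 : ℕ) : ℤ) from rfl, zpow_natCast, hx3]
  have h : x ^ k = x ^ (k % 3) := by
    conv_lhs => rw [← Int.emod_add_mul_ediv k 3]
    rw [zpow_add, zpow_mul, h3, one_zpow, mul_one]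
  have h0 : 0 ≤ k % 3 := Int.emod_nonneg k (by norm_num)
  have h1 : k % 3 < 3 := Int.emod_lt_of_pos k (by norm_num)
  rw [h]
  obtain ⟨m, hm⟩ : ∃ m : ℕ, k % 3 = (m : ℤ) := ⟨(k % 3).toNat, (Int.toNat_of_nonneg h0).symm⟩
  rw [hm] at h1 ⊢
  have hm3 : m < 3 := by exact_mod_cast h1
  rw [zpow_natCast]
  interval_cases m
  · left; exact pow_zero x
  · right; left; exact pow_one x
  · right; right; rfl

/-- the order of the group generated by two elements of order three whose commutator is a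
non-trivial element of order three commuting with both -/
theorem card_closure_heis [Finite G] (x y : G) (hx3 : x ^ 3 = 1) (hy3 : y ^ 3 = 1)
    (hz3 : ⁅x, y⁆ ^ 3 = 1) (hz1 : ⁅x, y⁆ ≠ 1) (hzx : ⁅x, y⁆ * x = x * ⁅x, y⁆)
    (hzy : ⁅x, y⁆ * y = y * ⁅x, y⁆) :
    Nat.card ↥(Subgroup.closure ({x, y} : Set G)) = 27 := by
  have : Fact (Nat.Prime 3) := ⟨by norm_num⟩
  obtain ⟨z, hz⟩ : ∃ z, z = ⁅x, y⁆ := ⟨_, rfl⟩
  rw [← hz] at hz3 hz1 hzx hzy
  have hxy : x * y ≠ y * x := by
    intro h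
    apply hz1
    rw [hz, commutatorElement_eq_one_iff_mul_comm]; exact h
  have hx1 : x ≠ 1 := by
    intro h; apply hxy; rw [h, one_mul, mul_one]
  have hy1 : y ≠ 1 := by
    intro h; apply hxy; rw [h, one_mul, mul_one]
  have czx : Commute z x := hzx
  have czy : Commute z y := hzy
  -- the conjugates of `x` under `y`
  have e1 : y * x * y⁻¹ = z⁻¹ * x := by rw [hz, commutatorElement_def]; group
  have e2 : y⁻¹ * x * y = z * x := by
    have h1 : y⁻¹ * z * y = z := by
      rw [mul_assoc, czy.eq]; group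
    have h2 : y⁻¹ * z * y = (y⁻¹ * x * y) * x⁻¹ := by
      rw [hz, commutatorElement_def]; group
    rw [h1] at h2
    rw [h2]; group
  set Zz := Subgroup.zpowers z with hZz
  set X := Subgroup.zpowers x with hX
  set Y := Subgroup.zpowers y with hY
  have hzZ : z ∈ Zz := Subgroup.mem_zpowers z
  have hxX : x ∈ X := Subgroup.mem_zpowers x
  have hyY : y ∈ Y := Subgroup.mem_zpowers y
  have cardZ : Nat.card ↥Zz = 3 := by
    rw [hZz, Nat.card_zpowers]; exact orderOf_eq_prime hz3 hz1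
  have cardX : Nat.card ↥X = 3 := by
    rw [hX, Nat.card_zpowers]; exact orderOf_eq_prime hx3 hx1
  have cardY : Nat.card ↥Y = 3 := by
    rw [hY, Nat.card_zpowers]; exact orderOf_eq_prime hy3 hy1
  -- elements of `Zz` commute with `y`
  have hZy : ∀ u ∈ Zz, u * y = y * u := by
    intro u hu
    obtain ⟨k, rfl⟩ := Subgroup.mem_zpowers_iff.mp hu
    exact (czy.zpow_left k).eq
  have hsq : ∀ w : G, w ^ 3 = 1 → w = (w ^ 2) ^ 2 := by
    intro w hw
    rw [← pow_mul, show 2 * 2 = 3 + 1 from rfl, pow_add, hw, one_mul, pow_one]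
  have hZX : ∀ u ∈ Zz, u ∈ X → u = 1 := by
    intro u huZ huX
    rcases mem_zpowers_three hx3 huX with rfl | rfl | rfl
    · rfl
    · exact absurd (hZy _ huZ) hxy
    · have : x ∈ Zz := by
        rw [hsq x hx3]; exact Zz.pow_mem huZ 2
      exact absurd (hZy _ this) hxy
  set A := Zz ⊔ X with hA
  have hAx : ∀ u ∈ A, x * u = u * x := by
    have hle : A ≤ Subgroup.centralizer ({x} : Set G) := by
      rw [hA]
      apply sup_le
      · rw [hZz, Subgroup.zpowers_le, Subgroup.mem_centralizer_iff]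
        intro h hh
        rw [Set.mem_singleton_iff] at hh; subst hh
        exact czx.eq.symm
      · rw [hX, Subgroup.zpowers_le, Subgroup.mem_centralizer_iff]
        intro h hh
        rw [Set.mem_singleton_iff] at hh; subst hh
        rfl
    intro u hu
    exact Subgroup.mem_centralizer_iff.mp (hle hu) x rfl
  have hAY : ∀ u ∈ A, u ∈ Y → u = 1 := by
    intro u huA huY
    rcases mem_zpowers_three hy3 huY with rfl | rfl | rfl
    · rfl
    · exact absurd (hAx _ huA) hxy
    · have : y ∈ A := by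
        rw [hsq y hy3]; exact A.pow_mem huA 2
      exact absurd (hAx _ this) hxy
  have hN1 : ∀ w ∈ X, ∀ e ∈ Zz, w * e * w⁻¹ ∈ Zz := by
    intro w hw e he
    obtain ⟨i, rfl⟩ := Subgroup.mem_zpowers_iff.mp hw
    obtain ⟨k, rfl⟩ := Subgroup.mem_zpowers_iff.mp he
    have hc : Commute (x ^ i) (z ^ k) := (czx.symm.zpow_zpow i k)
    rw [hc.eq]
    have : z ^ k * x ^ i * (x ^ i)⁻¹ = z ^ k := by group
    rw [this]
    exact Zz.zpow_mem hzZ k
  have hzA : z ∈ A := Subgroup.mem_sup_left hzZ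
  have hxA : x ∈ A := Subgroup.mem_sup_right hxX
  have hc1 : ∀ e ∈ A, y * e * y⁻¹ ∈ A := by
    have hle : A ≤ A.comap (MulAut.conj y).toMonoidHom := by
      rw [hA]
      apply sup_le
      · rw [hZz, Subgroup.zpowers_le, Subgroup.mem_comap]
        show y * z * y⁻¹ ∈ A
        have : y * z * y⁻¹ = z := by rw [← czy.eq]; group
        rw [this]; exact hzA
      · rw [hX, Subgroup.zpowers_le, Subgroup.mem_comap]
        show y * x * y⁻¹ ∈ A
        rw [e1]; exact A.mul_mem (A.inv_mem hzA) hxA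
    intro e he
    exact hle he
  have hc2 : ∀ e ∈ A, y⁻¹ * e * y ∈ A := by
    have hle : A ≤ A.comap (MulAut.conj y⁻¹).toMonoidHom := by
      rw [hA]
      apply sup_le
      · rw [hZz, Subgroup.zpowers_le, Subgroup.mem_comap]
        show y⁻¹ * z * y⁻¹⁻¹ ∈ A
        have : y⁻¹ * z * y⁻¹⁻¹ = z := by rw [inv_inv, mul_assoc, czy.eq]; group
        rw [this]; exact hzA
      · rw [hX, Subgroup.zpowers_le, Subgroup.mem_comap]
        show y⁻¹ * x * y⁻¹⁻¹ ∈ A
        rw [inv_inv, e2]; exact A.mul_mem hzA hxA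
    intro e he
    have := hle he
    rw [Subgroup.mem_comap] at this
    have h2 : (MulAut.conj y⁻¹).toMonoidHom e = y⁻¹ * e * y := by
      show y⁻¹ * e * y⁻¹⁻¹ = _
      rw [inv_inv]
    rwa [h2] at this
  have hyN : y ∈ Subgroup.normalizer (A : Set G) := by
    rw [Subgroup.mem_normalizer_iff]
    intro h
    constructor
    · exact hc1 h
    · intro hh
      have := hc2 _ hh
      have e : y⁻¹ * (y * h * y⁻¹) * y = h := by group
      rwa [e] at this
  have hN2 : ∀ w ∈ Y, ∀ e ∈ A, w * e * w⁻¹ ∈ A := by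
    intro w hw e he
    have hle : Y ≤ Subgroup.normalizer (A : Set G) := by
      rw [hY, Subgroup.zpowers_le]; exact hyN
    exact (Subgroup.mem_normalizer_iff.mp (hle hw) e).mp he
  have hcl : Subgroup.closure ({x, y} : Set G) = A ⊔ Y := by
    apply le_antisymm
    · rw [Subgroup.closure_le]
      rintro w (rfl | hw)
      · exact Subgroup.mem_sup_left hxA
      · rw [Set.mem_singleton_iff] at hw; subst hw
        exact Subgroup.mem_sup_right hyY
    · have hxc : x ∈ Subgroup.closure ({x, y} : Set G) := Subgroup.subset_closure (by simp)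
      have hyc : y ∈ Subgroup.closure ({x, y} : Set G) := Subgroup.subset_closure (by simp)
      have hzc : z ∈ Subgroup.closure ({x, y} : Set G) := by
        rw [hz, commutatorElement_def]
        exact Subgroup.mul_mem _ (Subgroup.mul_mem _ (Subgroup.mul_mem _ hxc hyc)
          (Subgroup.inv_mem _ hxc)) (Subgroup.inv_mem _ hyc)
      apply sup_le
      · apply sup_le
        · rw [hZz, Subgroup.zpowers_le]; exact hzc
        · rw [hX, Subgroup.zpowers_le]; exact hxc
      · rw [hY, Subgroup.zpowers_le]; exact hyc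
  rw [hcl, card_sup_of_normalizes A Y hN2 hAY, hA, card_sup_of_normalizes Zz X hN1 hZX, cardZ,
    cardX, cardY]

end heis


/-! ### transfer into a subgroup over which the extension splits -/

section split

variable {Γ G : Type*} [Group Γ] [Group G]

/-- if a subgroup `S0` of `Γ` maps isomorphically onto the subgroup `S` of `G`, then the kernel of
the stem extension is killed by the index of `S` -/
theorem pow_index_eq_one_of_complement [Finite G] (σ : Γ →* G) (hσ : IsStemExtension σ)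
    (S : Subgroup G) (S0 : Subgroup Γ) (hmap : S0.map σ = S)
    (hS0ker : ∀ g ∈ S0, σ g = 1 → g = 1) (a : Γ) (ha : a ∈ σ.ker) : a ^ S.index = 1 := by
  have hker := hσ.2.1
  apply pow_index_eq_one_of_inf σ hσ S Subgroup.index_ne_zero_of_finite _ a ha
  rw [eq_bot_iff]
  rintro k ⟨hk1, hk2⟩
  rw [Subgroup.mem_bot]
  have hcomm : commutator ↥(S.comap σ) ≤ S0.subgroupOf (S.comap σ) := by
    rw [commutator_def, Subgroup.commutator_le]
    intro g1 _ g2 _
    rw [Subgroup.mem_subgroupOf]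
    have hg1 : σ (g1 : Γ) ∈ S0.map σ := by rw [hmap]; exact g1.2
    have hg2 : σ (g2 : Γ) ∈ S0.map σ := by rw [hmap]; exact g2.2
    obtain ⟨x1, hx1, e1⟩ := Subgroup.mem_map.mp hg1
    obtain ⟨x2, hx2, e2⟩ := Subgroup.mem_map.mp hg2
    have : ((⁅g1, g2⁆ : ↥(S.comap σ)) : Γ) = ⁅x1, x2⁆ := by
      have e0 : ((⁅g1, g2⁆ : ↥(S.comap σ)) : Γ) = ⁅(g1 : Γ), (g2 : Γ)⁆ := rfl
      rw [e0]
      exact commutatorElement_congr_of_central σ hker e1.symm e2.symm
    rw [this, commutatorElement_def]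
    exact S0.mul_mem (S0.mul_mem (S0.mul_mem hx1 hx2) (S0.inv_mem hx1)) (S0.inv_mem hx2)
  have hkS0 : (k : Γ) ∈ S0 := Subgroup.mem_subgroupOf.mp (hcomm hk2)
  have hk1' : σ (k : Γ) = 1 := by
    have := MonoidHom.mem_ker.mp hk1
    exact congrArg Subtype.val this
  exact Subtype.ext (hS0ker _ hkS0 hk1')

/-- a surjection between finite subgroups of the same order is injective -/
theorem eq_one_of_card_le [Finite Γ] (σ : Γ →* G) (H : Subgroup Γ)
    (hle : Nat.card ↥H ≤ Nat.card ↥(H.map σ)) : ∀ x ∈ H, σ x = 1 → x = 1 := by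
  let f : ↥H → ↥(H.map σ) := fun x => ⟨σ x, Subgroup.mem_map_of_mem σ x.2⟩
  have hf : Function.Surjective f := by
    rintro ⟨y, hy⟩
    obtain ⟨x, hx, rfl⟩ := Subgroup.mem_map.mp hy
    exact ⟨⟨x, hx⟩, rfl⟩
  have hbij := hf.bijective_of_nat_card_le hle
  intro x hx hx1
  have : f ⟨x, hx⟩ = f 1 := by
    apply Subtype.ext
    show σ x = σ ((1 : ↥H) : Γ)
    rw [hx1, Subgroup.coe_one, map_one]
  have := hbij.1 this
  exact congrArg Subtype.val this

end split

/-! ### transfer into an extraspecial group of order 27 -/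

section heisTransfer

variable {Γ G : Type*} [Group Γ] [Group G]

/-- **Transfer into `3^{1+2}`.**  Let `σ` be a stem extension of the finite group `G` with kernel
of exponent three.  Let `x, y` be elements of order three whose commutator `z` is non-trivial, of
order three and commutes with both; suppose some element `g` inverts `x` and `y` and centralises
`z`, and some element inverts `z`.  Then the kernel is killed by the index of `⟨x, y⟩`, a group
of order 27. -/
theorem pow_index_eq_one_heis [Finite Γ] [Finite G] (σ : Γ →* G) (hσ : IsStemExtension σ)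
    (hexp : ∀ a ∈ σ.ker, a ^ 3 = 1) (x y g gz : G)
    (hx3 : x ^ 3 = 1) (hy3 : y ^ 3 = 1) (hz3 : ⁅x, y⁆ ^ 3 = 1) (hz1 : ⁅x, y⁆ ≠ 1)
    (hzx : ⁅x, y⁆ * x = x * ⁅x, y⁆) (hzy : ⁅x, y⁆ * y = y * ⁅x, y⁆)
    (hgx : g * x * g⁻¹ = x⁻¹) (hgy : g * y * g⁻¹ = y⁻¹) (hgz : g * ⁅x, y⁆ * g⁻¹ = ⁅x, y⁆)
    (hz : gz * ⁅x, y⁆ * gz⁻¹ = ⁅x, y⁆⁻¹) (a : Γ) (ha : a ∈ σ.ker) :
    a ^ (Subgroup.closure ({x, y} : Set G)).index = 1 ∧
      Nat.card ↥(Subgroup.closure ({x, y} : Set G)) = 27 := by
  have hsurj := hσ.1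
  have hker := hσ.2.1
  have hcardS := card_closure_heis x y hx3 hy3 hz3 hz1 hzx hzy
  refine ⟨?_, hcardS⟩
  -- lifts of the same element have the same cube
  have cube_eq : ∀ u v : Γ, σ u = σ v → u ^ 3 = v ^ 3 := by
    intro u v huv
    have hk : u⁻¹ * v ∈ σ.ker := by
      rw [MonoidHom.mem_ker, map_mul, map_inv, huv, inv_mul_cancel]
    have hc : Commute u (u⁻¹ * v) := Subgroup.mem_center_iff.mp (hker hk) u
    have e : v = u * (u⁻¹ * v) := by group
    rw [e, hc.mul_pow, hexp _ hk, mul_one]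
  have pow_one_of : ∀ k : Γ, k ∈ σ.ker → k * k = 1 → k = 1 := by
    intro k hk hkk
    have h3 := hexp k hk
    rw [show 3 = 2 + 1 from rfl, pow_succ, pow_two, hkk, one_mul] at h3
    exact h3
  -- lifts of real elements of order three have order three
  have real_cube : ∀ w h : G, w ^ 3 = 1 → h * w * h⁻¹ = w⁻¹ → ∀ u : Γ, σ u = w → u ^ 3 = 1 := by
    intro w h hw hh u hu
    obtain ⟨h', rfl⟩ := hsurj h
    have hk : u ^ 3 ∈ σ.ker := by rw [MonoidHom.mem_ker, map_pow, hu, hw]
    have hc := Subgroup.mem_center_iff.mp (hker hk)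
    have e1 : (h' * u * h'⁻¹) ^ 3 = u ^ 3 := by
      rw [conj_pow, hc h']; group
    have e2 : (h' * u * h'⁻¹) ^ 3 = (u⁻¹) ^ 3 := by
      apply cube_eq
      rw [map_mul, map_mul, map_inv, map_inv, hu, hh]
    rw [e1, inv_pow] at e2
    apply pow_one_of _ hk
    calc u ^ 3 * u ^ 3 = (u ^ 3)⁻¹ * u ^ 3 := by rw [← e2]
      _ = 1 := inv_mul_cancel _
  obtain ⟨x', hx'⟩ := hsurj x
  obtain ⟨y', hy'⟩ := hsurj y
  obtain ⟨g', hg'⟩ := hsurj g
  have hx'3 : x' ^ 3 = 1 := real_cube x g hx3 hgx x' hx'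
  have hy'3 : y' ^ 3 = 1 := real_cube y g hy3 hgy y' hy'
  have hz' : σ ⁅x', y'⁆ = ⁅x, y⁆ := by rw [map_commutatorElement, hx', hy']
  have hz'3 : ⁅x', y'⁆ ^ 3 = 1 := real_cube _ gz hz3 hz _ hz'
  have hz'1 : ⁅x', y'⁆ ≠ 1 := by
    intro h; apply hz1; rw [← hz', h, map_one]
  -- the commutators of the lift of `z` with the lifts of `x` and `y`
  have key : ∀ (w : G) (w' : Γ), σ w' = w → ⁅x, y⁆ * w = w * ⁅x, y⁆ → g * w * g⁻¹ = w⁻¹ →
      ⁅x', y'⁆ * w' = w' * ⁅x', y'⁆ := by
    intro w w' hw' hcw hgw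
    rw [← commutatorElement_eq_one_iff_mul_comm]
    have hk : ⁅⁅x', y'⁆, w'⁆ ∈ σ.ker := by
      rw [MonoidHom.mem_ker, map_commutatorElement, hz', hw', commutatorElement_eq_one_iff_mul_comm]
      exact hcw
    have hcen := hker hk
    have hc := Subgroup.mem_center_iff.mp hcen
    have h1 : g' * ⁅⁅x', y'⁆, w'⁆ * g'⁻¹ = ⁅⁅x', y'⁆, w'⁆ := by rw [hc g']; group
    have h2 : g' * ⁅⁅x', y'⁆, w'⁆ * g'⁻¹ = ⁅g' * ⁅x', y'⁆ * g'⁻¹, g' * w' * g'⁻¹⁆ := by
      simp only [commutatorElement_def]; group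
    have h3 : ⁅g' * ⁅x', y'⁆ * g'⁻¹, g' * w' * g'⁻¹⁆ = ⁅⁅x', y'⁆, w'⁻¹⁆ := by
      apply commutatorElement_congr_of_central σ hker
      · rw [map_mul, map_mul, map_inv, hg', hz', hgz]
      · rw [map_mul, map_mul, map_inv, map_inv, hg', hw', hgw]
    have h4 : ⁅⁅x', y'⁆, w'⁻¹⁆ * ⁅⁅x', y'⁆, w'⁆ = 1 := by
      have := commutatorElement_mul_right_of_central ⁅x', y'⁆ w'⁻¹ w' hcen
      rw [inv_mul_cancel, commutatorElement_one_right] at this
      exact this.symm
    rw [← h3, ← h2, h1] at h4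
    exact pow_one_of _ hk h4
  have hz'x := key x x' hx' hzx hgx
  have hz'y := key y y' hy' hzy hgy
  have hcardS0 := card_closure_heis x' y' hx'3 hy'3 hz'3 hz'1 hz'x hz'y
  have hmap : (Subgroup.closure ({x', y'} : Set Γ)).map σ = Subgroup.closure ({x, y} : Set G) := by
    rw [MonoidHom.map_closure, Set.image_pair, hx', hy']
  apply pow_index_eq_one_of_complement σ hσ _ (Subgroup.closure ({x', y'} : Set Γ)) hmap _ a ha
  apply eq_one_of_card_le σ
  rw [hmap, hcardS0, hcardS]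

end heisTransfer


/-! ### rules for elements whose lifts are involutions -/

section rules

variable {Γ G : Type*} [Group Γ] [Group G] (σ : Γ →* G)

/-- the lifts of `u` are involutions -/
def LiftsInv (u : G) : Prop := ∀ x : Γ, σ x = u → x * x = 1

theorem liftsInv_one (hexp : ∀ a ∈ σ.ker, a * a = 1) : LiftsInv σ 1 :=
  fun x hx => hexp x hx

/-- conjugates -/
theorem liftsInv_conj (hsurj : Function.Surjective σ) (hker : σ.ker ≤ Subgroup.center Γ)
    (hexp : ∀ a ∈ σ.ker, a * a = 1) {u : G} (hu : LiftsInv σ u) (g : G) :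
    LiftsInv σ (g * u * g⁻¹) := by
  intro x hx
  obtain ⟨g', rfl⟩ := hsurj g
  obtain ⟨x0, rfl⟩ := hsurj u
  have h0 := hu x0 rfl
  rw [← h0]
  apply sq_eq_of_conj σ hker hexp (g := g') (by rw [← map_mul, h0, map_one])
  exact hx.symm

/-- two elements whose lifts, as well as the lifts of their product, are involutions have
commuting lifts -/
theorem lifts_comm_of_liftsInv {u v : G} (hu : LiftsInv σ u) (hv : LiftsInv σ v)
    (huv : LiftsInv σ (u * v)) {x y : Γ} (hx : σ x = u) (hy : σ y = v) : x * y = y * x := by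
  have h3 := huv (x * y) (by rw [map_mul, hx, hy])
  calc x * y = (x * y)⁻¹ := (inv_eq_self_of_sq h3).symm
    _ = y⁻¹ * x⁻¹ := mul_inv_rev x y
    _ = y * x := by rw [inv_eq_self_of_sq (hu x hx), inv_eq_self_of_sq (hv y hy)]

/-- the product of three elements, whose lifts and the lifts of whose pairwise products are
involutions, has involutions as lifts -/
theorem liftsInv_mul3 (hsurj : Function.Surjective σ) (hker : σ.ker ≤ Subgroup.center Γ)
    (hexp : ∀ a ∈ σ.ker, a * a = 1) {a1 a3 a4 : G} (h1 : LiftsInv σ a1) (h3 : LiftsInv σ a3)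
    (h4 : LiftsInv σ a4) (h13 : LiftsInv σ (a1 * a3)) (h14 : LiftsInv σ (a1 * a4))
    (h34 : LiftsInv σ (a3 * a4)) : LiftsInv σ (a1 * (a3 * a4)) := by
  intro x hx
  obtain ⟨x1, e1⟩ := hsurj a1
  obtain ⟨x3, e3⟩ := hsurj a3
  obtain ⟨x4, e4⟩ := hsurj a4
  have c13 := lifts_comm_of_liftsInv σ h1 h3 h13 e1 e3
  have c14 := lifts_comm_of_liftsInv σ h1 h4 h14 e1 e4
  have s1 := h1 x1 e1
  have s34 := h34 (x3 * x4) (by rw [map_mul, e3, e4])
  have hx' : σ x = σ (x1 * (x3 * x4)) := by rw [hx, map_mul, map_mul, e1, e3, e4]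
  rw [sq_eq_of_map_eq σ hker hexp hx']
  calc x1 * (x3 * x4) * (x1 * (x3 * x4)) = x1 * x3 * (x4 * x1) * (x3 * x4) := by
        simp only [mul_assoc]
    _ = x1 * x3 * (x1 * x4) * (x3 * x4) := by rw [c14]
    _ = x1 * (x3 * x1) * x4 * (x3 * x4) := by simp only [mul_assoc]
    _ = x1 * (x1 * x3) * x4 * (x3 * x4) := by rw [c13]
    _ = (x1 * x1) * ((x3 * x4) * (x3 * x4)) := by simp only [mul_assoc]
    _ = 1 := by rw [s1, s34, one_mul]

/-- the seven-element criterion, in terms of `LiftsInv` -/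
theorem liftsInv_of_seven (hsurj : Function.Surjective σ) (hker : σ.ker ≤ Subgroup.center Γ)
    (hexp : ∀ a ∈ σ.ker, a * a = 1) (e0 e1 e2 e3 : G) (he0 : e0 * e0 = 1)
    (h1 : ∃ g, g * e0 * g⁻¹ = e1) (h2 : ∃ g, g * e0 * g⁻¹ = e2) (h3 : ∃ g, g * e0 * g⁻¹ = e3)
    (h12 : ∃ g, g * e0 * g⁻¹ = e1 * e2) (h13 : ∃ g, g * e0 * g⁻¹ = e1 * e3)
    (h23 : ∃ g, g * e0 * g⁻¹ = e2 * e3) (h123 : ∃ g, g * e0 * g⁻¹ = e1 * (e2 * e3)) :
    LiftsInv σ e0 :=
  lift_sq_eq_one_of_seven σ hsurj hker hexp e0 e1 e2 e3 he0 h1 h2 h3 h12 h13 h23 h123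

end rules

/-! ### the splitting over `E T` with a general complement -/

section core

variable {Γ G : Type*} [Group Γ] [Group G]

/-- **Splitting over `E T`.**  Let `σ` be a stem extension of the finite group `G` with kernel of
exponent two.  Let `E` be a subgroup all of whose elements have involutions as lifts; let `c` be an
element of order three normalising `E` without fixed points on it; let `T` be a subgroup
normalising `E` and `⟨c⟩`, meeting `E` trivially, onto which a subgroup `T0` of `Γ` maps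
isomorphically.  Then the kernel is killed by the index of `E T`. -/
theorem pow_index_eq_one_core [Finite Γ] [Finite G] (σ : Γ →* G) (hσ : IsStemExtension σ)
    (hexp : ∀ a ∈ σ.ker, a * a = 1)
    (E : Subgroup G) (hE : ∀ x : Γ, σ x ∈ E → x * x = 1)
    (c : G) (hc3 : c * c * c = 1) (hcE : ∀ e ∈ E, c * e * c⁻¹ ∈ E)
    (hcfix : ∀ e ∈ E, c * e * c⁻¹ = e → e = 1)
    (T : Subgroup G) (T0 : Subgroup Γ) (hT0map : T0.map σ = T)
    (hT0ker : ∀ x ∈ T0, σ x = 1 → x = 1)
    (hTE : ∀ w ∈ T, ∀ e ∈ E, w * e * w⁻¹ ∈ E)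
    (hTc : ∀ w ∈ T, w * c * w⁻¹ = c ∨ w * c * w⁻¹ = c⁻¹)
    (hET : ∀ u ∈ E, u ∈ T → u = 1)
    (a : Γ) (ha : a ∈ σ.ker) : a ^ (E ⊔ T).index = 1 := by
  have hsurj := hσ.1
  have hker := hσ.2.1
  -- unique lifts of elements of order three
  have uniq3 : ∀ x y : Γ, σ x = σ y → x * x * x = 1 → y * y * y = 1 → x = y := by
    intro x y hxy hx hy
    have hk : x⁻¹ * y ∈ σ.ker := by
      rw [MonoidHom.mem_ker, map_mul, map_inv, hxy, inv_mul_cancel]
    have hcen := Subgroup.mem_center_iff.mp (hker hk)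
    have hkk := hexp _ hk
    obtain ⟨k, hkdef⟩ : ∃ k : Γ, k = x⁻¹ * y := ⟨_, rfl⟩
    rw [← hkdef] at hcen hkk
    have ey : y = x * k := by rw [hkdef]; group
    have e3 : y * y * y = (x * x * x) * (k * k * k) := by
      rw [ey]
      calc x * k * (x * k) * (x * k) = x * (k * x) * (k * x) * k := by simp only [mul_assoc]
        _ = x * (x * k) * (x * k) * k := by rw [← hcen x]
        _ = x * x * (k * x) * k * k := by simp only [mul_assoc]
        _ = x * x * (x * k) * k * k := by rw [← hcen x]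
        _ = (x * x * x) * (k * k * k) := by simp only [mul_assoc]
    rw [hy, hx, one_mul, hkk, one_mul] at e3
    rw [ey, ← e3, mul_one]
  -- the lift of `c`
  obtain ⟨c0, hc0⟩ := hsurj c
  have hk0 : c0 * c0 * c0 ∈ σ.ker := by
    rw [MonoidHom.mem_ker, map_mul, map_mul, hc0, hc3]
  have hcen0 := Subgroup.mem_center_iff.mp (hker hk0)
  have hkk0 := hexp _ hk0
  obtain ⟨c', hc'def⟩ : ∃ c' : Γ, c' = c0 * (c0 * c0 * c0) := ⟨_, rfl⟩
  have hc' : σ c' = c := by
    rw [hc'def, map_mul, MonoidHom.mem_ker.mp hk0, mul_one, hc0]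
  have hc'3 : c' * c' * c' = 1 := by
    obtain ⟨k, hkdef⟩ : ∃ k : Γ, k = c0 * c0 * c0 := ⟨_, rfl⟩
    rw [← hkdef] at hcen0 hkk0 hc'def
    rw [hc'def]
    calc c0 * k * (c0 * k) * (c0 * k) = c0 * (k * c0) * (k * c0) * k := by simp only [mul_assoc]
      _ = c0 * (c0 * k) * (c0 * k) * k := by rw [← hcen0 c0]
      _ = c0 * c0 * (k * c0) * k * k := by simp only [mul_assoc]
      _ = c0 * c0 * (c0 * k) * k * k := by rw [← hcen0 c0]
      _ = (c0 * c0 * c0) * (k * k) * k := by simp only [mul_assoc]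
      _ = 1 := by rw [← hkdef, hkk0, mul_one, hkk0]
  have hcn : ∀ x : Γ, σ x ∈ E → σ (c' * x * c'⁻¹) ∈ E := by
    intro x hx
    rw [map_mul, map_mul, map_inv, hc']
    exact hcE _ hx
  have hfix : ∀ e ∈ E, σ c' * e * (σ c')⁻¹ = e → e = 1 := by
    rw [hc']; exact hcfix
  set E0 := commSub σ E hE c' hcn with hE0
  have hgc : ∀ g' : Γ, (σ g' * c * (σ g')⁻¹ = c ∨ σ g' * c * (σ g')⁻¹ = c⁻¹) →
      (g' * c' * g'⁻¹ = c' ∨ g' * c' * g'⁻¹ = c'⁻¹) := by
    intro g' h
    have hcube : (g' * c' * g'⁻¹) * (g' * c' * g'⁻¹) * (g' * c' * g'⁻¹) = 1 := by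
      calc (g' * c' * g'⁻¹) * (g' * c' * g'⁻¹) * (g' * c' * g'⁻¹)
          = g' * (c' * c' * c') * g'⁻¹ := by group
        _ = 1 := by rw [hc'3]; group
    rcases h with h | h
    · left
      apply uniq3 _ _ _ hcube hc'3
      rw [map_mul, map_mul, map_inv, hc', h]
    · right
      apply uniq3 _ _ _ hcube
      · calc c'⁻¹ * c'⁻¹ * c'⁻¹ = (c' * c' * c')⁻¹ := by group
          _ = 1 := by rw [hc'3, inv_one]
      · rw [map_mul, map_mul, map_inv, hc', h, map_inv, hc']
  have hN : ∀ w ∈ T0, ∀ y ∈ E0, w * y * w⁻¹ ∈ E0 := by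
    intro w hw y hy
    have hwT : σ w ∈ T := by rw [← hT0map]; exact Subgroup.mem_map_of_mem σ hw
    apply conj_mem_commSub σ E hE c' hcn hc'3 w _ (hgc w (hTc _ hwT)) hy
    intro x hx
    rw [map_mul, map_mul, map_inv]
    exact hTE _ hwT _ hx
  have hE0map : E0.map σ = E := by
    apply le_antisymm
    · rintro _ ⟨y, hy, rfl⟩
      exact map_mem_of_mem_commSub σ E hE c' hcn hy
    · intro e he
      obtain ⟨y, hy, rfl⟩ := exists_mem_commSub_map_eq σ E hE c' hcn hsurj hc'3 hfix he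
      exact Subgroup.mem_map_of_mem σ hy
  have hS0map : (E0 ⊔ T0).map σ = E ⊔ T := by
    rw [Subgroup.map_sup, hE0map, hT0map]
  have hS0ker : ∀ g ∈ E0 ⊔ T0, σ g = 1 → g = 1 := by
    intro g hg hg1
    obtain ⟨y, hy, w, hw, rfl⟩ := exists_mul_of_mem_sup E0 T0 hN g hg
    have hyE : σ y ∈ E := map_mem_of_mem_commSub σ E hE c' hcn hy
    have hwT : σ w ∈ T := by rw [← hT0map]; exact Subgroup.mem_map_of_mem σ hw
    rw [map_mul] at hg1
    have hwy : σ w = (σ y)⁻¹ := eq_inv_of_mul_eq_one_right hg1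
    have hw1 : σ w = 1 := hET _ (by rw [hwy]; exact E.inv_mem hyE) hwT
    have hw1' : w = 1 := hT0ker w hw hw1
    rw [hw1, mul_one] at hg1
    have hy1 : y = 1 := eq_one_of_mem_commSub_of_ker σ E hE c' hcn hker hc'3 hy hg1
    rw [hw1', hy1, mul_one]
  exact pow_index_eq_one_of_complement σ hσ (E ⊔ T) (E0 ⊔ T0) hS0map hS0ker a ha

end core

/-! ### lifting `D₈ × C₂` -/

section d8c2

variable {Γ G : Type*} [Group Γ] [Group G]

/-- the elements of a cyclic group of order dividing two -/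
theorem mem_zpowers_two {x u : G} (hx2 : x * x = 1) (hu : u ∈ Subgroup.zpowers x) :
    u = 1 ∨ u = x := by
  obtain ⟨k, rfl⟩ := Subgroup.mem_zpowers_iff.mp hu
  have h2 : x ^ (2 : ℤ) = 1 := by
    rw [show (2 : ℤ) = ((2 : ℕ) : ℤ) from rfl, zpow_natCast, pow_two, hx2]
  have h : x ^ k = x ^ (k % 2) := by
    conv_lhs => rw [← Int.emod_add_mul_ediv k 2]
    rw [zpow_add, zpow_mul, h2, one_zpow, mul_one]
  rw [h]
  rcases Int.emod_two_eq_zero_or_one k with h0 | h1
  · left; rw [h0, zpow_zero]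
  · right; rw [h1, zpow_one]

/-- **Lifting `D₈ × C₂`.**  Let `s, t, u` be elements of `G` such that the lifts of
`s, t, (s t)², u, u s, u t` are involutions, `(s t)² ≠ 1`, and `u` is not in `⟨s, t⟩`.  Then some
subgroup of `Γ` maps isomorphically onto `⟨s t, s⟩ ⟨u⟩`. -/
theorem exists_lift_D8xC2 [Finite Γ] [Finite G] (σ : Γ →* G) (hsurj : Function.Surjective σ)
    (s t u : G) (hs : LiftsInv σ s) (ht : LiftsInv σ t)
    (hr : LiftsInv σ ((s * t) * (s * t))) (hu : LiftsInv σ u) (hus : LiftsInv σ (u * s))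
    (hut : LiftsInv σ (u * t)) (hr2 : (s * t) * (s * t) ≠ 1)
    (huD : u ∉ Subgroup.closure ({s * t, s} : Set G)) :
    ∃ T0 : Subgroup Γ, T0.map σ = Subgroup.closure ({s * t, s} : Set G) ⊔ Subgroup.zpowers u ∧
      ∀ x ∈ T0, σ x = 1 → x = 1 := by
  obtain ⟨s', hs'⟩ := hsurj s
  obtain ⟨t', ht'⟩ := hsurj t
  obtain ⟨u', hu'⟩ := hsurj u
  have hss : s' * s' = 1 := hs s' hs'
  have htt : t' * t' = 1 := ht t' ht'
  have huu : u' * u' = 1 := hu u' hu'
  have hrr : (s' * t') * (s' * t') * ((s' * t') * (s' * t')) = 1 :=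
    hr _ (by rw [map_mul, map_mul, hs', ht'])
  have hr4 : (s' * t') ^ 4 = 1 := by
    rw [show 4 = 2 + 2 from rfl, pow_add, pow_two]; exact hrr
  have hr2' : σ (s' * t') ^ 2 ≠ 1 := by
    rw [map_mul, hs', ht', pow_two]; exact hr2
  have hconj : s' * (s' * t') * s'⁻¹ = (s' * t')⁻¹ := by
    rw [mul_inv_rev, inv_eq_self_of_sq hss, inv_eq_self_of_sq htt, ← mul_assoc, hss, one_mul]
  have cus : u' * s' = s' * u' := lifts_comm_of_liftsInv σ hu hs hus hu' hs'
  have cut : u' * t' = t' * u' := lifts_comm_of_liftsInv σ hu ht hut hu' ht'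
  set D0 := Subgroup.closure ({s' * t', s'} : Set Γ) with hD0
  set U0 := Subgroup.zpowers u' with hU0
  have hD0ker : ∀ x ∈ D0, σ x = 1 → x = 1 :=
    eq_one_of_mem_closure_pair σ (s' * t') s' hss hconj hr4 hr2'
  have hD0map : D0.map σ = Subgroup.closure ({s * t, s} : Set G) := by
    rw [hD0, MonoidHom.map_closure, Set.image_pair, map_mul, hs', ht']
  have hU0map : U0.map σ = Subgroup.zpowers u := by
    rw [hU0, MonoidHom.map_zpowers, hu']
  -- `u'` commutes with `D0`
  have hcent : D0 ≤ Subgroup.centralizer ({u'} : Set Γ) := by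
    rw [hD0, Subgroup.closure_le]
    rintro x (rfl | hx)
    · rw [SetLike.mem_coe, Subgroup.mem_centralizer_iff]
      intro h hh
      rw [Set.mem_singleton_iff] at hh; rw [hh]
      rw [← mul_assoc, cus, mul_assoc, cut, mul_assoc]
    · rw [Set.mem_singleton_iff] at hx; subst hx
      rw [SetLike.mem_coe, Subgroup.mem_centralizer_iff]
      intro h hh
      rw [Set.mem_singleton_iff] at hh; rw [hh]
      exact cus
  have hN : ∀ w ∈ U0, ∀ d ∈ D0, w * d * w⁻¹ ∈ D0 := by
    intro w hw d hd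
    have hc : u' * d = d * u' := Subgroup.mem_centralizer_iff.mp (hcent hd) u' rfl
    rcases mem_zpowers_two huu hw with h | h
    · rw [h, one_mul, inv_one, mul_one]; exact hd
    · rw [h, hc]
      have : d * u' * u'⁻¹ = d := by group
      rw [this]; exact hd
  refine ⟨D0 ⊔ U0, by rw [Subgroup.map_sup, hD0map, hU0map], ?_⟩
  intro x hx hx1
  obtain ⟨d, hd, w, hw, rfl⟩ := exists_mul_of_mem_sup D0 U0 hN x hx
  rcases mem_zpowers_two huu hw with h | h
  · rw [h, mul_one] at hx1 ⊢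
    exact hD0ker d hd hx1
  · exfalso
    apply huD
    rw [h, map_mul, hu'] at hx1
    have h1 : σ d = u⁻¹ := eq_inv_of_mul_eq_one_left hx1
    have h2 : u * u = 1 := by rw [← hu', ← map_mul, huu, map_one]
    rw [inv_eq_self_of_sq h2] at h1
    rw [← h1, ← hD0map]
    exact Subgroup.mem_map_of_mem σ hd

/-- the order of `⟨s t, s⟩ ⟨u⟩` -/
theorem card_D8xC2 [Finite G] (s t u : G) (hss : s * s = 1) (htt : t * t = 1) (huu : u * u = 1)
    (hu1 : u ≠ 1)
    (hr4 : (s * t) * (s * t) * ((s * t) * (s * t)) = 1) (hr2 : (s * t) * (s * t) ≠ 1)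
    (cus : u * s = s * u) (cut : u * t = t * u)
    (huD : u ∉ Subgroup.closure ({s * t, s} : Set G)) :
    Nat.card ↥(Subgroup.closure ({s * t, s} : Set G) ⊔ Subgroup.zpowers u) = 16 := by
  have : Fact (Nat.Prime 2) := ⟨by norm_num⟩
  have hcent : Subgroup.closure ({s * t, s} : Set G) ≤ Subgroup.centralizer ({u} : Set G) := by
    rw [Subgroup.closure_le]
    rintro x (rfl | hx)
    · rw [SetLike.mem_coe, Subgroup.mem_centralizer_iff]
      intro h hh
      rw [Set.mem_singleton_iff] at hh; rw [hh]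
      rw [← mul_assoc, cus, mul_assoc, cut, mul_assoc]
    · rw [Set.mem_singleton_iff] at hx; subst hx
      rw [SetLike.mem_coe, Subgroup.mem_centralizer_iff]
      intro h hh
      rw [Set.mem_singleton_iff] at hh; rw [hh]
      exact cus
  have hN : ∀ w ∈ Subgroup.zpowers u, ∀ d ∈ Subgroup.closure ({s * t, s} : Set G),
      w * d * w⁻¹ ∈ Subgroup.closure ({s * t, s} : Set G) := by
    intro w hw d hd
    have hc : u * d = d * u := Subgroup.mem_centralizer_iff.mp (hcent hd) u rfl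
    rcases mem_zpowers_two huu hw with h | h
    · rw [h, one_mul, inv_one, mul_one]; exact hd
    · rw [h, hc]
      have : d * u * u⁻¹ = d := by group
      rw [this]; exact hd
  have hdisj : ∀ d ∈ Subgroup.closure ({s * t, s} : Set G), d ∈ Subgroup.zpowers u → d = 1 := by
    intro d hd hdu
    rcases mem_zpowers_two huu hdu with h | h
    · exact h
    · exact absurd (h ▸ hd) huD
  rw [card_sup_of_normalizes _ _ hN hdisj]
  have h8 : Nat.card ↥(Subgroup.closure ({s * t, s} : Set G)) = 8 := by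
    apply card_closure_dihedral (s * t) s hss
    · rw [mul_inv_rev, inv_eq_self_of_sq hss, inv_eq_self_of_sq htt, ← mul_assoc, hss, one_mul]
    · rw [show 4 = 2 + 2 from rfl, pow_add, pow_two]; exact hr4
    · rw [pow_two]; exact hr2
  have h2 : Nat.card ↥(Subgroup.zpowers u) = 2 := by
    rw [Nat.card_zpowers]
    exact orderOf_eq_prime (by rw [pow_two]; exact huu) hu1
  rw [h8, h2]

end d8c2

end Cfsg.Agent.Lib.Helper8_StemThree
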