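import Mathlib
import Cfsg.Prelude.Def_KGroupFacts
import Cfsg.Agent.Lib.Helper8_StemThree

/-!
# Stem extensions: transfer into Sylow subgroups `p × p` and `p^{1+2}` for odd primes `p`
(helper56, for S2049; after helper8's and the lead's tools for the Mathieu groups)
-/

set_option autoImplicit false
open Cfsg

namespace Cfsg.Agent.Lib.Helper56_StemP

open Cfsg.Agent.Lib.Helper66_Stem Cfsg.Agent.Lib.Helper66_StemTools
open Cfsg.Agent.Lib.Lead_StemLocal Cfsg.Agent.Lib.Helper8_StemTwo Cfsg.Agent.Lib.Helper8_StemThree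
open scoped commutatorElement

section basics

variable {Γ : Type*} [Group Γ]

theorem commutatorElement_pow_left_of_central (u v : Γ) (h : ⁅u, v⁆ ∈ Subgroup.center Γ) (n : ℕ) :
    ⁅u ^ n, v⁆ = ⁅u, v⁆ ^ n := by
  induction n with
  | zero => rw [pow_zero, pow_zero, commutatorElement_one_left]
  | succ n ih =>
    rw [pow_succ, commutatorElement_mul_left_of_central (u ^ n) u v h, ih, pow_succ]

theorem commutatorElement_pow_right_of_central (u v : Γ) (h : ⁅u, v⁆ ∈ Subgroup.center Γ) (n : ℕ) :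
    ⁅u, v ^ n⁆ = ⁅u, v⁆ ^ n := by
  induction n with
  | zero => rw [pow_zero, pow_zero, commutatorElement_one_right]
  | succ n ih =>
    rw [pow_succ, commutatorElement_mul_right_of_central u (v ^ n) v h, ih, pow_succ]

/-- an element killed by two coprime numbers is trivial -/
theorem eq_one_of_pow_coprime {c : Γ} {m n : ℕ} (hm : c ^ m = 1) (hn : c ^ n = 1)
    (h : Nat.Coprime m n) : c = 1 := by
  have h1 := orderOf_dvd_of_pow_eq_one hm
  have h2 := orderOf_dvd_of_pow_eq_one hn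
  have h3 : orderOf c ∣ 1 := by
    have := Nat.dvd_gcd h1 h2
    rwa [Nat.Coprime.gcd_eq_one h] at this
  exact orderOf_eq_one_iff.mp (Nat.dvd_one.mp h3)

/-- an element with `c ^ k = c` and `c ^ p = 1`, where `k - 1` is prime to `p`, is trivial -/
theorem eq_one_of_pow_eq_self {c : Γ} {k p : ℕ} (hk1 : 1 ≤ k) (hk : c ^ k = c) (hp : c ^ p = 1)
    (h : Nat.Coprime (k - 1) p) : c = 1 := by
  apply eq_one_of_pow_coprime _ hp h
  have e : c ^ k = c ^ (k - 1) * c := by
    rw [← pow_succ, Nat.sub_add_cancel hk1]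
  rw [e] at hk
  have : c ^ (k - 1) * c = 1 * c := by rw [one_mul]; exact hk
  exact mul_right_cancel this

end basics

section commuting

variable {Γ G : Type*} [Group Γ] [Group G]

/-- the lifts of two commuting elements commute, if the first has odd order `p` and some element
centralises the first and inverts the second -/
theorem lifts_commute_of_inverts (σ : Γ →* G) (hσ : IsStemExtension σ) (p : ℕ) (hp : Odd p)
    (x y t : Γ) (hxp : σ x ^ p = 1) (hxy : σ x * σ y = σ y * σ x)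
    (htx : σ t * σ x = σ x * σ t) (hty : σ t * σ y * (σ t)⁻¹ = (σ y)⁻¹) : x * y = y * x := by
  have hc := hσ.2.1
  rw [← commutatorElement_eq_one_iff_mul_comm]
  set c := ⁅x, y⁆ with hcdef
  have hck : c ∈ σ.ker := by
    rw [MonoidHom.mem_ker, hcdef, map_commutatorElement, commutatorElement_eq_one_iff_mul_comm]
    exact hxy
  have hcc : c ∈ Subgroup.center Γ := hc hck
  have h1 : ⁅x, y⁻¹⁆ = c := by
    have e1 : t * c * t⁻¹ = c := by
      rw [(Subgroup.mem_center_iff.mp hcc t)]; group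
    have e2 : t * c * t⁻¹ = ⁅t * x * t⁻¹, t * y * t⁻¹⁆ := by
      rw [hcdef]; simp only [commutatorElement_def]; group
    rw [← e1, e2]
    symm
    apply commutatorElement_congr_of_central σ hc
    · rw [map_mul, map_mul, map_inv, htx]; group
    · rw [map_mul, map_mul, map_inv, map_inv, hty]
  have h2 : ⁅x, y⁻¹⁆ * c = 1 := by
    have := commutatorElement_mul_right_of_central x y⁻¹ y hcc
    rw [inv_mul_cancel, commutatorElement_one_right] at this
    exact this.symm
  rw [h1] at h2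
  have h3 : c ^ p = 1 := by
    rw [hcdef, ← commutatorElement_pow_left_of_central x y hcc p,
      commutatorElement_eq_one_iff_mul_comm]
    have hk : x ^ p ∈ σ.ker := by
      rw [MonoidHom.mem_ker, map_pow, hxp]
    exact (Subgroup.mem_center_iff.mp (hc hk) y).symm
  have h4 : c ^ 2 = 1 := by rw [pow_two]; exact h2
  exact eq_one_of_pow_coprime h4 h3 (Nat.coprime_two_left.mpr hp)

/-- transfer into the preimage of an elementary abelian subgroup of order `p²`, `p` odd -/
theorem pow_eq_one_of_prime_sq [Finite G] (σ : Γ →* G) (hσ : IsStemExtension σ) (p : ℕ)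
    [hp : Fact p.Prime] (hodd : Odd p) (x y t : G)
    (hxp : x ^ p = 1) (hx1 : x ≠ 1) (hyp : y ^ p = 1) (hy1 : y ≠ 1) (hxy : x * y = y * x)
    (htx : t * x = x * t) (hty : t * y * t⁻¹ = y⁻¹) (a : Γ) (ha : a ∈ σ.ker) :
    a ^ (Nat.card G / p ^ 2) = 1 := by
  obtain ⟨x', rfl⟩ := hσ.1 x
  obtain ⟨y', rfl⟩ := hσ.1 y
  obtain ⟨t', rfl⟩ := hσ.1 t
  have hcomm := lifts_commute_of_inverts σ hσ p hodd x' y' t' hxp hxy htx hty
  have hcl : Subgroup.closure (σ '' ({x', y'} : Set Γ)) =
      Subgroup.closure ({σ x', σ y'} : Set G) := by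
    rw [Set.image_pair]
  have hyx : σ y' ∉ Subgroup.zpowers (σ x') := by
    intro hmem
    obtain ⟨i, hi⟩ := Subgroup.mem_zpowers_iff.mp hmem
    have h1 : σ t' * σ y' = σ y' * σ t' := by
      rw [← hi]
      exact ((Commute.zpow_right (show Commute (σ t') (σ x') from htx) i)).eq
    have h2 : σ t' * σ y' * (σ t')⁻¹ = σ y' := by rw [h1]; group
    rw [hty] at h2
    have h3 : σ y' ^ 2 = 1 := by
      rw [pow_two]
      calc σ y' * σ y' = (σ y')⁻¹ * σ y' := by rw [h2]
        _ = 1 := inv_mul_cancel _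
    apply hy1
    exact eq_one_of_pow_coprime h3 hyp (Nat.coprime_two_left.mpr hodd)
  have hdvd : p ^ 2 ∣ Nat.card ↥(Subgroup.closure ({σ x', σ y'} : Set G)) :=
    sq_dvd_card_closure_pair p (σ x') (σ y') hxp hyp hx1 hxy hyx
  have h := pow_index_eq_one_of_commute σ hσ ({x', y'} : Set Γ)
    (by
      rintro a (rfl | ha) b (rfl | hb)
      · rfl
      · rw [Set.mem_singleton_iff] at hb; subst hb; exact hcomm
      · rw [Set.mem_singleton_iff] at ha; subst ha; exact hcomm.symm
      · rw [Set.mem_singleton_iff] at ha hb; subst ha; subst hb; rfl)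
    (by
      rw [hcl]
      exact Subgroup.index_ne_zero_of_finite) a ha
  rw [hcl] at h
  have hmul := Subgroup.card_mul_index (Subgroup.closure ({σ x', σ y'} : Set G))
  obtain ⟨m, hm⟩ := hdvd
  have hppos : 0 < p ^ 2 := pow_pos hp.out.pos 2
  have hidx : (Subgroup.closure ({σ x', σ y'} : Set G)).index ∣ Nat.card G / p ^ 2 := by
    rw [hm] at hmul
    have e : Nat.card G / p ^ 2 = m * (Subgroup.closure ({σ x', σ y'} : Set G)).index := by
      rw [← hmul, mul_assoc]
      exact Nat.mul_div_cancel_left _ hppos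
    rw [e]
    exact Dvd.intro_left _ rfl
  obtain ⟨k, hk⟩ := hidx
  rw [hk, pow_mul, h, one_pow]

end commuting

section heis

variable {G : Type*} [Group G]

/-- in a cyclic group of prime order, every non-trivial element generates -/
theorem mem_zpowers_of_mem_zpowers_prime (p : ℕ) [hp : Fact p.Prime] {x u : G} (hx : x ^ p = 1)
    (hx1 : x ≠ 1) (hu : u ∈ Subgroup.zpowers x) (hu1 : u ≠ 1) : x ∈ Subgroup.zpowers u := by
  have hcard : Nat.card ↥(Subgroup.zpowers x) = p := by
    rw [Nat.card_zpowers]; exact orderOf_eq_prime hx hx1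
  have hne : (⟨u, hu⟩ : ↥(Subgroup.zpowers x)) ≠ 1 := by
    intro h; apply hu1; exact congrArg Subtype.val h
  have h := mem_zpowers_of_prime_card hcard hne
    (g' := (⟨x, Subgroup.mem_zpowers x⟩ : ↥(Subgroup.zpowers x)))
  obtain ⟨k, hk⟩ := Subgroup.mem_zpowers_iff.mp h
  rw [Subgroup.mem_zpowers_iff]
  refine ⟨k, ?_⟩
  have := congrArg Subtype.val hk
  rwa [Subgroup.coe_zpow] at this

/-- the order of the group generated by two elements of prime order `p` whose commutator is a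
non-trivial element of order `p` commuting with both -/
theorem card_closure_heis_p [Finite G] (p : ℕ) [hp : Fact p.Prime] (x y : G) (hxp : x ^ p = 1)
    (hyp : y ^ p = 1) (hzp : ⁅x, y⁆ ^ p = 1) (hz1 : ⁅x, y⁆ ≠ 1)
    (hzx : ⁅x, y⁆ * x = x * ⁅x, y⁆) (hzy : ⁅x, y⁆ * y = y * ⁅x, y⁆) :
    Nat.card ↥(Subgroup.closure ({x, y} : Set G)) = p ^ 3 := by
  obtain ⟨z, hz⟩ : ∃ z, z = ⁅x, y⁆ := ⟨_, rfl⟩
  rw [← hz] at hzp hz1 hzx hzy
  have hxy : x * y ≠ y * x := by
    intro h
    apply hz1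
    rw [hz, commutatorElement_eq_one_iff_mul_comm]; exact h
  have hx1 : x ≠ 1 := by
    intro h; apply hxy; rw [h, one_mul, mul_one]
  have hy1 : y ≠ 1 := by
    intro h; apply hxy; rw [h, one_mul, mul_one]
  have czx : Commute z x := hzx
  have czy : Commute z y := hzy
  -- the conjugates of `x` under `y`
  have e1 : y * x * y⁻¹ = z⁻¹ * x := by rw [hz, commutatorElement_def]; group
  have e2 : y⁻¹ * x * y = z * x := by
    have h1 : y⁻¹ * z * y = z := by
      rw [mul_assoc, czy.eq]; group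
    have h2 : y⁻¹ * z * y = (y⁻¹ * x * y) * x⁻¹ := by
      rw [hz, commutatorElement_def]; group
    rw [h1] at h2
    rw [h2]; group
  set Zz := Subgroup.zpowers z with hZz
  set X := Subgroup.zpowers x with hX
  set Y := Subgroup.zpowers y with hY
  have hzZ : z ∈ Zz := Subgroup.mem_zpowers z
  have hxX : x ∈ X := Subgroup.mem_zpowers x
  have hyY : y ∈ Y := Subgroup.mem_zpowers y
  have cardZ : Nat.card ↥Zz = p := by
    rw [hZz, Nat.card_zpowers]; exact orderOf_eq_prime hzp hz1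
  have cardX : Nat.card ↥X = p := by
    rw [hX, Nat.card_zpowers]; exact orderOf_eq_prime hxp hx1
  have cardY : Nat.card ↥Y = p := by
    rw [hY, Nat.card_zpowers]; exact orderOf_eq_prime hyp hy1
  -- elements of `Zz` commute with `y`
  have hZy : ∀ u ∈ Zz, u * y = y * u := by
    intro u hu
    obtain ⟨k, rfl⟩ := Subgroup.mem_zpowers_iff.mp hu
    exact (czy.zpow_left k).eq
  have hZX : ∀ u ∈ Zz, u ∈ X → u = 1 := by
    intro u huZ huX
    by_contra hu1
    have hxu : x ∈ Subgroup.zpowers u := mem_zpowers_of_mem_zpowers_prime p hxp hx1 huX hu1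
    have hle : Subgroup.zpowers u ≤ Zz := by rw [Subgroup.zpowers_le]; exact huZ
    exact hxy (hZy x (hle hxu))
  set A := Zz ⊔ X with hA
  have hAx : ∀ u ∈ A, x * u = u * x := by
    have hle : A ≤ Subgroup.centralizer ({x} : Set G) := by
      rw [hA]
      apply sup_le
      · rw [hZz, Subgroup.zpowers_le, Subgroup.mem_centralizer_iff]
        intro h hh
        rw [Set.mem_singleton_iff] at hh; subst hh
        exact czx.eq.symm
      · rw [hX, Subgroup.zpowers_le, Subgroup.mem_centralizer_iff]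
        intro h hh
        rw [Set.mem_singleton_iff] at hh; subst hh
        rfl
    intro u hu
    exact Subgroup.mem_centralizer_iff.mp (hle hu) x rfl
  have hAY : ∀ u ∈ A, u ∈ Y → u = 1 := by
    intro u huA huY
    by_contra hu1
    have hyu : y ∈ Subgroup.zpowers u := mem_zpowers_of_mem_zpowers_prime p hyp hy1 huY hu1
    have hle : Subgroup.zpowers u ≤ A := by rw [Subgroup.zpowers_le]; exact huA
    exact hxy (hAx y (hle hyu))
  have hN1 : ∀ w ∈ X, ∀ e ∈ Zz, w * e * w⁻¹ ∈ Zz := by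
    intro w hw e he
    obtain ⟨i, rfl⟩ := Subgroup.mem_zpowers_iff.mp hw
    obtain ⟨k, rfl⟩ := Subgroup.mem_zpowers_iff.mp he
    have hc : Commute (x ^ i) (z ^ k) := (czx.symm.zpow_zpow i k)
    rw [hc.eq]
    have : z ^ k * x ^ i * (x ^ i)⁻¹ = z ^ k := by group
    rw [this]
    exact Zz.zpow_mem hzZ k
  have hzA : z ∈ A := Subgroup.mem_sup_left hzZ
  have hxA : x ∈ A := Subgroup.mem_sup_right hxX
  have hc1 : ∀ e ∈ A, y * e * y⁻¹ ∈ A := by
    have hle : A ≤ A.comap (MulAut.conj y).toMonoidHom := by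
      rw [hA]
      apply sup_le
      · rw [hZz, Subgroup.zpowers_le, Subgroup.mem_comap]
        show y * z * y⁻¹ ∈ A
        have : y * z * y⁻¹ = z := by rw [← czy.eq]; group
        rw [this]; exact hzA
      · rw [hX, Subgroup.zpowers_le, Subgroup.mem_comap]
        show y * x * y⁻¹ ∈ A
        rw [e1]; exact A.mul_mem (A.inv_mem hzA) hxA
    intro e he
    exact hle he
  have hc2 : ∀ e ∈ A, y⁻¹ * e * y ∈ A := by
    have hle : A ≤ A.comap (MulAut.conj y⁻¹).toMonoidHom := by
      rw [hA]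
      apply sup_le
      · rw [hZz, Subgroup.zpowers_le, Subgroup.mem_comap]
        show y⁻¹ * z * y⁻¹⁻¹ ∈ A
        have : y⁻¹ * z * y⁻¹⁻¹ = z := by rw [inv_inv, mul_assoc, czy.eq]; group
        rw [this]; exact hzA
      · rw [hX, Subgroup.zpowers_le, Subgroup.mem_comap]
        show y⁻¹ * x * y⁻¹⁻¹ ∈ A
        rw [inv_inv, e2]; exact A.mul_mem hzA hxA
    intro e he
    have := hle he
    rw [Subgroup.mem_comap] at this
    have h2 : (MulAut.conj y⁻¹).toMonoidHom e = y⁻¹ * e * y := by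
      show y⁻¹ * e * y⁻¹⁻¹ = _
      rw [inv_inv]
    rwa [h2] at this
  have hyN : y ∈ Subgroup.normalizer (A : Set G) := by
    rw [Subgroup.mem_normalizer_iff]
    intro h
    constructor
    · exact hc1 h
    · intro hh
      have := hc2 _ hh
      have e : y⁻¹ * (y * h * y⁻¹) * y = h := by group
      rwa [e] at this
  have hN2 : ∀ w ∈ Y, ∀ e ∈ A, w * e * w⁻¹ ∈ A := by
    intro w hw e he
    have hle : Y ≤ Subgroup.normalizer (A : Set G) := by
      rw [hY, Subgroup.zpowers_le]; exact hyN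
    exact (Subgroup.mem_normalizer_iff.mp (hle hw) e).mp he
  have hcl : Subgroup.closure ({x, y} : Set G) = A ⊔ Y := by
    apply le_antisymm
    · rw [Subgroup.closure_le]
      rintro w (rfl | hw)
      · exact Subgroup.mem_sup_left hxA
      · rw [Set.mem_singleton_iff] at hw; subst hw
        exact Subgroup.mem_sup_right hyY
    · have hxc : x ∈ Subgroup.closure ({x, y} : Set G) := Subgroup.subset_closure (by simp)
      have hyc : y ∈ Subgroup.closure ({x, y} : Set G) := Subgroup.subset_closure (by simp)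
      have hzc : z ∈ Subgroup.closure ({x, y} : Set G) := by
        rw [hz, commutatorElement_def]
        exact Subgroup.mul_mem _ (Subgroup.mul_mem _ (Subgroup.mul_mem _ hxc hyc)
          (Subgroup.inv_mem _ hxc)) (Subgroup.inv_mem _ hyc)
      apply sup_le
      · apply sup_le
        · rw [hZz, Subgroup.zpowers_le]; exact hzc
        · rw [hX, Subgroup.zpowers_le]; exact hxc
      · rw [hY, Subgroup.zpowers_le]; exact hyc
  rw [hcl, card_sup_of_normalizes A Y hN2 hAY, hA, card_sup_of_normalizes Zz X hN1 hZX, cardZ,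
    cardX, cardY]
  ring

end heis

section heisTransfer

variable {Γ G : Type*} [Group Γ] [Group G]

/-- **Transfer into `p^{1+2}`.**  Let `σ` be a stem extension of the finite group `G` with kernel
of exponent `p`.  Let `x, y` be elements of order `p` whose commutator `z` is non-trivial, of
order `p` and commutes with both; suppose some element `h₁` centralises `x` and maps `y, z` to
their `k`-th powers, and some element `h₂` centralises `y` and maps `x, z` to their `l`-th powers,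
where `k - 1` and `l - 1` are prime to `p`.  Then the kernel is killed by the index of `⟨x, y⟩`,
a group of order `p³`. -/
theorem pow_index_eq_one_heis_p [Finite Γ] [Finite G] (σ : Γ →* G) (hσ : IsStemExtension σ)
    (p : ℕ) [hp : Fact p.Prime] (hexp : ∀ a ∈ σ.ker, a ^ p = 1) (x y h1 h2 : G) (k l : ℕ)
    (hk1 : 1 ≤ k) (hk : Nat.Coprime (k - 1) p) (hl1 : 1 ≤ l) (hl : Nat.Coprime (l - 1) p)
    (hxp : x ^ p = 1) (hyp : y ^ p = 1) (hzp : ⁅x, y⁆ ^ p = 1) (hz1 : ⁅x, y⁆ ≠ 1)
    (hzx : ⁅x, y⁆ * x = x * ⁅x, y⁆) (hzy : ⁅x, y⁆ * y = y * ⁅x, y⁆)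
    (h1x : h1 * x * h1⁻¹ = x) (h1y : h1 * y * h1⁻¹ = y ^ k)
    (h1z : h1 * ⁅x, y⁆ * h1⁻¹ = ⁅x, y⁆ ^ k)
    (h2x : h2 * x * h2⁻¹ = x ^ l) (h2y : h2 * y * h2⁻¹ = y)
    (h2z : h2 * ⁅x, y⁆ * h2⁻¹ = ⁅x, y⁆ ^ l)
    (a : Γ) (ha : a ∈ σ.ker) :
    a ^ (Subgroup.closure ({x, y} : Set G)).index = 1 ∧
      Nat.card ↥(Subgroup.closure ({x, y} : Set G)) = p ^ 3 := by
  have hsurj := hσ.1
  have hker := hσ.2.1
  have hcardS := card_closure_heis_p p x y hxp hyp hzp hz1 hzx hzy
  refine ⟨?_, hcardS⟩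
  -- lifts of the same element have the same `p`-th power
  have pow_eq : ∀ u v : Γ, σ u = σ v → u ^ p = v ^ p := by
    intro u v huv
    have hk : u⁻¹ * v ∈ σ.ker := by
      rw [MonoidHom.mem_ker, map_mul, map_inv, huv, inv_mul_cancel]
    have hc : Commute u (u⁻¹ * v) := Subgroup.mem_center_iff.mp (hker hk) u
    have e : v = u * (u⁻¹ * v) := by group
    rw [e, hc.mul_pow, hexp _ hk, mul_one]
  -- lifts of elements of order `p` conjugate to a power of themselves have order `p`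
  have lift_pow : ∀ (w h : G) (m : ℕ), 1 ≤ m → Nat.Coprime (m - 1) p → w ^ p = 1 →
      h * w * h⁻¹ = w ^ m → ∀ u : Γ, σ u = w → u ^ p = 1 := by
    intro w h m hm1 hm hw hh u hu
    obtain ⟨h', rfl⟩ := hsurj h
    have hk : u ^ p ∈ σ.ker := by rw [MonoidHom.mem_ker, map_pow, hu, hw]
    have hc := Subgroup.mem_center_iff.mp (hker hk)
    have e1 : (h' * u * h'⁻¹) ^ p = u ^ p := by
      rw [conj_pow, hc h']; group
    have e2 : (h' * u * h'⁻¹) ^ p = (u ^ m) ^ p := by
      apply pow_eq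
      rw [map_mul, map_mul, map_inv, map_pow, hu, hh]
    rw [e1, ← pow_mul, mul_comm, pow_mul] at e2
    exact eq_one_of_pow_eq_self hm1 e2.symm (hexp _ hk) hm
  obtain ⟨x', hx'⟩ := hsurj x
  obtain ⟨y', hy'⟩ := hsurj y
  obtain ⟨h1', hh1'⟩ := hsurj h1
  obtain ⟨h2', hh2'⟩ := hsurj h2
  have hx'p : x' ^ p = 1 := lift_pow x h2 l hl1 hl hxp h2x x' hx'
  have hy'p : y' ^ p = 1 := lift_pow y h1 k hk1 hk hyp h1y y' hy'
  have hz' : σ ⁅x', y'⁆ = ⁅x, y⁆ := by rw [map_commutatorElement, hx', hy']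
  have hz'p : ⁅x', y'⁆ ^ p = 1 := lift_pow _ h1 k hk1 hk hzp h1z _ hz'
  have hz'1 : ⁅x', y'⁆ ≠ 1 := by
    intro h; apply hz1; rw [← hz', h, map_one]
  -- the commutators of the lift of `z` with the lifts of `x` and `y`
  have key : ∀ (w h : G) (w' h' : Γ) (m : ℕ), 1 ≤ m → Nat.Coprime (m - 1) p → σ w' = w →
      σ h' = h → ⁅x, y⁆ * w = w * ⁅x, y⁆ → h * w * h⁻¹ = w → h * ⁅x, y⁆ * h⁻¹ = ⁅x, y⁆ ^ m →
      ⁅x', y'⁆ * w' = w' * ⁅x', y'⁆ := by
    intro w h w' h' m hm1 hm hw' hh' hcw hhw hhz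
    rw [← commutatorElement_eq_one_iff_mul_comm]
    have hk : ⁅⁅x', y'⁆, w'⁆ ∈ σ.ker := by
      rw [MonoidHom.mem_ker, map_commutatorElement, hz', hw', commutatorElement_eq_one_iff_mul_comm]
      exact hcw
    have hcen := hker hk
    have hc := Subgroup.mem_center_iff.mp hcen
    have e1 : h' * ⁅⁅x', y'⁆, w'⁆ * h'⁻¹ = ⁅⁅x', y'⁆, w'⁆ := by rw [hc h']; group
    have e2 : h' * ⁅⁅x', y'⁆, w'⁆ * h'⁻¹ = ⁅h' * ⁅x', y'⁆ * h'⁻¹, h' * w' * h'⁻¹⁆ := by
      simp only [commutatorElement_def]; group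
    have e3 : ⁅h' * ⁅x', y'⁆ * h'⁻¹, h' * w' * h'⁻¹⁆ = ⁅⁅x', y'⁆ ^ m, w'⁆ := by
      apply commutatorElement_congr_of_central σ hker
      · rw [map_mul, map_mul, map_inv, map_pow, hh', hz', hhz]
      · rw [map_mul, map_mul, map_inv, hh', hw', hhw]
    have e4 : ⁅⁅x', y'⁆ ^ m, w'⁆ = ⁅⁅x', y'⁆, w'⁆ ^ m :=
      commutatorElement_pow_left_of_central _ _ hcen m
    rw [e3, e4] at e2
    rw [e2] at e1
    exact eq_one_of_pow_eq_self hm1 e1 (hexp _ hk) hm
  have hz'x := key x h1 x' h1' k hk1 hk hx' hh1' hzx h1x h1z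
  have hz'y := key y h2 y' h2' l hl1 hl hy' hh2' hzy h2y h2z
  have hcardS0 := card_closure_heis_p p x' y' hx'p hy'p hz'p hz'1 hz'x hz'y
  have hmap : (Subgroup.closure ({x', y'} : Set Γ)).map σ = Subgroup.closure ({x, y} : Set G) := by
    rw [MonoidHom.map_closure, Set.image_pair, hx', hy']
  apply pow_index_eq_one_of_complement σ hσ _ (Subgroup.closure ({x', y'} : Set Γ)) hmap _ a ha
  apply eq_one_of_card_le σ
  rw [hmap, hcardS0, hcardS]

end heisTransfer

end Cfsg.Agent.Lib.Helper56_StemP
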