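import Mathlib
import Cfsg.Prelude.Def_KGroupFacts
import Cfsg.Agent.Lib.Helper66_Stem
import Cfsg.Agent.Lib.Helper66_StemTools
import Cfsg.Agent.Lib.Lead_StemLocal
set_option autoImplicit false
open Cfsg
open scoped commutatorElement

namespace Cfsg.Agent.Lib.Helper70_J2M_R

variable {Γ : Type*} [Group Γ]

theorem commute_of_mem_center {k : Γ} (hk : k ∈ Subgroup.center Γ) (y : Γ) : Commute k y :=
  (Subgroup.mem_center_iff.mp hk y).symm

/-- conjugation by `k * t`, `k` central, is conjugation by `t` -/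
theorem conj_central_mul {k : Γ} (hk : k ∈ Subgroup.center Γ) (t y : Γ) :
    (k * t) * y * (k * t)⁻¹ = t * y * t⁻¹ := by
  have h := commute_of_mem_center hk (t * y * t⁻¹)
  calc (k * t) * y * (k * t)⁻¹ = k * (t * y * t⁻¹) * k⁻¹ := by group
    _ = t * y * t⁻¹ := h.mul_inv_cancel

/-- conjugation by a central element is trivial -/
theorem conj_central {k : Γ} (hk : k ∈ Subgroup.center Γ) (y : Γ) : k * y * k⁻¹ = y :=
  (commute_of_mem_center hk y).mul_inv_cancel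

theorem conj_comm (t u v : Γ) : t * ⁅u, v⁆ * t⁻¹ = ⁅t * u * t⁻¹, t * v * t⁻¹⁆ := by
  simp only [commutatorElement_def]; group

/-- central factors drop out of commutators -/
theorem comm_central {k k' : Γ} (hk : k ∈ Subgroup.center Γ) (hk' : k' ∈ Subgroup.center Γ)
    (u v : Γ) : ⁅u * k, v * k'⁆ = ⁅u, v⁆ := by
  have h1 : ∀ y, k * y = y * k := fun y => (commute_of_mem_center hk y).eq
  have h2 : ∀ y, k' * y = y * k' := fun y => (commute_of_mem_center hk' y).eq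
  have h3 : ∀ y, k⁻¹ * y = y * k⁻¹ := fun y => ((commute_of_mem_center hk y).inv_left).eq
  have h4 : ∀ y, k'⁻¹ * y = y * k'⁻¹ := fun y => ((commute_of_mem_center hk' y).inv_left).eq
  simp only [commutatorElement_def, mul_inv_rev]
  calc u * k * (v * k') * (k⁻¹ * u⁻¹) * (k'⁻¹ * v⁻¹)
      = u * (k * (v * k') * k⁻¹) * u⁻¹ * (k'⁻¹ * v⁻¹) := by group
    _ = u * (v * k') * u⁻¹ * (k'⁻¹ * v⁻¹) := by rw [conj_central hk]
    _ = u * v * (k' * (u⁻¹ * k'⁻¹)) * v⁻¹ := by group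
    _ = u * v * (u⁻¹ * k'⁻¹ * k') * v⁻¹ := by rw [h2 (u⁻¹ * k'⁻¹)]
    _ = u * v * u⁻¹ * v⁻¹ := by group

theorem commute_comm {z u v : Γ} (hu : Commute z u) (hv : Commute z v) : Commute z ⁅u, v⁆ := by
  rw [commutatorElement_def]
  exact ((hu.mul_right hv).mul_right hu.inv_right).mul_right hv.inv_right

/-- a factor commuting with both entries drops out on the left -/
theorem comm_mul_left_of_commute {z u v : Γ} (hu : Commute z u) (hv : Commute z v) :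
    ⁅z * u, v⁆ = ⁅u, v⁆ := by
  have hc := commute_comm hu hv
  have h1 : z⁻¹ * v⁻¹ = v⁻¹ * z⁻¹ := (hv.inv_inv).eq
  calc ⁅z * u, v⁆ = z * (u * v * u⁻¹) * (z⁻¹ * v⁻¹) := by
        simp only [commutatorElement_def]; group
    _ = z * (u * v * u⁻¹) * (v⁻¹ * z⁻¹) := by rw [h1]
    _ = z * ⁅u, v⁆ * z⁻¹ := by simp only [commutatorElement_def]; group
    _ = ⁅u, v⁆ := hc.mul_inv_cancel

theorem comm_mul_right_of_commute {z u v : Γ} (hu : Commute z u) (hv : Commute z v) :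
    ⁅u, z * v⁆ = ⁅u, v⁆ := by
  have h := comm_mul_left_of_commute hv hu
  have h2 : ⁅u, z * v⁆ = (⁅z * v, u⁆)⁻¹ := (commutatorElement_inv _ _).symm
  rw [h2, h, commutatorElement_inv]

theorem comm_mul_right (u v v' : Γ) (h : Commute ⁅u, v'⁆ v) :
    ⁅u, v * v'⁆ = ⁅u, v⁆ * ⁅u, v'⁆ := by
  have e : ⁅u, v * v'⁆ = ⁅u, v⁆ * (v * ⁅u, v'⁆ * v⁻¹) := by
    simp only [commutatorElement_def]; group
  rw [e, h.symm.mul_inv_cancel]

theorem rigid (zt x1 x2 x3 x4 a b g : Γ)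
    (hzx : Commute zt x1) (hza : Commute zt a) (hzb : Commute zt b) (hzg : Commute zt g)
    (ha2 : a * a ∈ Subgroup.center Γ) (hb2 : b * b ∈ Subgroup.center Γ)
    (hab : ⁅a, b⁆ ∈ Subgroup.center Γ)
    (hx2 : x2 = a * x1 * a⁻¹) (hx3 : x3 = b * x1 * b⁻¹) (hx4 : x4 = a * b * x1 * (a * b)⁻¹)
    (h12 : ∃ k ∈ Subgroup.center Γ, ⁅x1, x2⁆ = zt * k)
    (h13 : ∃ k ∈ Subgroup.center Γ, ⁅x1, x3⁆ = zt * k)
    (h14 : ∃ k ∈ Subgroup.center Γ, ⁅x1, x4⁆ = zt * k)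
    (h23 : ∃ k ∈ Subgroup.center Γ, ⁅x2, x3⁆ = zt * k)
    (h24 : ∃ k ∈ Subgroup.center Γ, ⁅x2, x4⁆ = zt * k)
    (h34 : ∃ k ∈ Subgroup.center Γ, ⁅x3, x4⁆ = zt * k)
    (hg1 : ∃ k ∈ Subgroup.center Γ, g * x1 * g⁻¹ = zt * x3 * k)
    (hg2 : ∃ k ∈ Subgroup.center Γ, g * x2 * g⁻¹ = zt * x4 * k)
    (hg3 : ∃ k ∈ Subgroup.center Γ, g * x3 * g⁻¹ = x2 * k)
    (hg4 : ∃ k ∈ Subgroup.center Γ, g * x4 * g⁻¹ = zt * (x1 * x2 * x3 * x4) * k) :
    ∃ w : Γ, w * w = 1 ∧ (∃ k ∈ Subgroup.center Γ, w = zt * k) ∧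
      ⁅x1, x2⁆ = w ∧ ⁅x1, x3⁆ = w ∧ ⁅x1, x4⁆ = w ∧ ⁅x2, x3⁆ = w ∧ ⁅x2, x4⁆ = w ∧ ⁅x3, x4⁆ = w := by
  -- conjugation by `a`, `b`
  have ax1 : a * x1 * a⁻¹ = x2 := hx2.symm
  have bx1 : b * x1 * b⁻¹ = x3 := hx3.symm
  have ax2 : a * x2 * a⁻¹ = x1 := by
    rw [hx2]
    calc a * (a * x1 * a⁻¹) * a⁻¹ = (a * a) * x1 * (a * a)⁻¹ := by group
      _ = x1 := conj_central ha2 x1
  have bx3 : b * x3 * b⁻¹ = x1 := by
    rw [hx3]
    calc b * (b * x1 * b⁻¹) * b⁻¹ = (b * b) * x1 * (b * b)⁻¹ := by group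
      _ = x1 := conj_central hb2 x1
  have ax3 : a * x3 * a⁻¹ = x4 := by
    rw [hx3, hx4]; group
  have ax4 : a * x4 * a⁻¹ = x3 := by
    rw [hx4, hx3]
    calc a * (a * b * x1 * (a * b)⁻¹) * a⁻¹ = (a * a) * (b * x1 * b⁻¹) * (a * a)⁻¹ := by group
      _ = b * x1 * b⁻¹ := conj_central ha2 _
  have hab' : (⁅a, b⁆)⁻¹ ∈ Subgroup.center Γ := (Subgroup.center Γ).inv_mem hab
  have bx2 : b * x2 * b⁻¹ = x4 := by
    rw [hx2, hx4]
    calc b * (a * x1 * a⁻¹) * b⁻¹ = ((⁅a, b⁆)⁻¹ * (a * b)) * x1 * ((⁅a, b⁆)⁻¹ * (a * b))⁻¹ := by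
          simp only [commutatorElement_def]; group
      _ = a * b * x1 * (a * b)⁻¹ := conj_central_mul hab' _ _
  have bx4 : b * x4 * b⁻¹ = x2 := by
    rw [hx4, hx2]
    have hk : (⁅a, b⁆)⁻¹ * (b * b) ∈ Subgroup.center Γ := (Subgroup.center Γ).mul_mem hab' hb2
    have hbb := commute_of_mem_center hb2 a
    calc b * (a * b * x1 * (a * b)⁻¹) * b⁻¹
        = ((⁅a, b⁆)⁻¹ * (a * (b * b))) * x1 * ((⁅a, b⁆)⁻¹ * (a * (b * b)))⁻¹ := by
          simp only [commutatorElement_def]; group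
      _ = ((⁅a, b⁆)⁻¹ * (b * b) * a) * x1 * ((⁅a, b⁆)⁻¹ * (b * b) * a)⁻¹ := by
          rw [← hbb.eq, mul_assoc (⁅a, b⁆)⁻¹ (b * b) a]
      _ = a * x1 * a⁻¹ := conj_central_mul hk _ _
  -- `zt` commutes with all `x_i`
  have hzx2 : Commute zt x2 := by
    rw [hx2]; exact (hza.mul_right hzx).mul_right hza.inv_right
  have hzx3 : Commute zt x3 := by
    rw [hx3]; exact (hzb.mul_right hzx).mul_right hzb.inv_right
  have hzx4 : Commute zt x4 := by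
    rw [hx4]
    exact ((hza.mul_right hzb).mul_right hzx).mul_right (hza.mul_right hzb).inv_right
  obtain ⟨k12, hk12, e12⟩ := h12
  obtain ⟨k13, hk13, e13⟩ := h13
  obtain ⟨k14, hk14, e14⟩ := h14
  obtain ⟨k23, hk23, e23⟩ := h23
  obtain ⟨k24, hk24, e24⟩ := h24
  obtain ⟨k34, hk34, e34⟩ := h34
  -- an element `zt * k` commutes with whatever `zt` commutes with
  have hcomm : ∀ {k y : Γ}, k ∈ Subgroup.center Γ → Commute zt y → Commute (zt * k) y :=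
    fun hk hy => hy.mul_left (commute_of_mem_center hk _)
  -- fixed by conjugation
  have fix : ∀ {k t : Γ}, k ∈ Subgroup.center Γ → Commute zt t →
      t * (zt * k) * t⁻¹ = zt * k := fun hk ht => (hcomm hk ht).symm.mul_inv_cancel
  -- step (3)
  have s12 : ⁅x1, x2⁆ = ⁅x2, x1⁆ := by
    have h := conj_comm a x1 x2
    rw [ax1, ax2, e12, fix hk12 hza] at h
    rw [e12]; exact h
  have s12_34 : ⁅x1, x2⁆ = ⁅x3, x4⁆ := by
    have h := conj_comm b x1 x2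
    rw [bx1, bx2, e12, fix hk12 hzb] at h
    rw [e12]; exact h
  have s13 : ⁅x1, x3⁆ = ⁅x3, x1⁆ := by
    have h := conj_comm b x1 x3
    rw [bx1, bx3, e13, fix hk13 hzb] at h
    rw [e13]; exact h
  have s13_24 : ⁅x1, x3⁆ = ⁅x2, x4⁆ := by
    have h := conj_comm a x1 x3
    rw [ax1, ax3, e13, fix hk13 hza] at h
    rw [e13]; exact h
  have s14_23 : ⁅x1, x4⁆ = ⁅x2, x3⁆ := by
    have h := conj_comm a x1 x4
    rw [ax1, ax4, e14, fix hk14 hza] at h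
    rw [e14]; exact h
  have s14 : ⁅x1, x4⁆ = ⁅x4, x1⁆ := by
    -- conjugate `⁅x2, x3⁆` by `b`
    have h := conj_comm b x2 x3
    rw [bx2, bx3, e23, fix hk23 hzb] at h
    rw [s14_23, e23]; exact h
  -- involutions
  have sq : ∀ {u v : Γ}, ⁅u, v⁆ = ⁅v, u⁆ → ⁅u, v⁆ * ⁅u, v⁆ = 1 := by
    intro u v h
    have : ⁅u, v⁆ = (⁅u, v⁆)⁻¹ := by rw [commutatorElement_inv]; exact h
    calc ⁅u, v⁆ * ⁅u, v⁆ = ⁅u, v⁆ * (⁅u, v⁆)⁻¹ := by rw [← this]
      _ = 1 := mul_inv_cancel _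
  have q12 := sq s12
  have q13 := sq s13
  have q14 := sq s14
  -- step (4): conjugation by `g`
  obtain ⟨l1, hl1, g1⟩ := hg1
  obtain ⟨l2, hl2, g2⟩ := hg2
  obtain ⟨l3, hl3, g3⟩ := hg3
  obtain ⟨l4, hl4, g4⟩ := hg4
  have t13 : ⁅x1, x3⁆ = ⁅x3, x2⁆ := by
    have h := conj_comm g x1 x3
    rw [g1, g3, e13, fix hk13 hzg, comm_central hl1 hl3,
      comm_mul_left_of_commute hzx3 hzx2] at h
    rw [e13]; exact h
  -- `⁅x1, x3⁆ = ⁅x2, x3⁆`
  have u13_23 : ⁅x1, x3⁆ = ⁅x2, x3⁆ := by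
    rw [t13, ← commutatorElement_inv x2 x3, ← s14_23]
    have : (⁅x1, x4⁆)⁻¹ = ⁅x1, x4⁆ := by rw [commutatorElement_inv]; exact s14.symm
    exact this
  have hzprod : Commute zt (x1 * x2 * x3 * x4) :=
    ((hzx.mul_right hzx2).mul_right hzx3).mul_right hzx4
  have t14 : ⁅x1, x4⁆ = ⁅x3, x1 * x2 * x3 * x4⁆ := by
    have h := conj_comm g x1 x4
    rw [g1, g4, e14, fix hk14 hzg, comm_central hl1 hl4,
      comm_mul_left_of_commute hzx3 ((Commute.refl zt).mul_right hzprod),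
      comm_mul_right_of_commute hzx3 hzprod] at h
    rw [e14]; exact h
  -- expand the commutator with the product
  have c34x : ∀ {y : Γ}, Commute zt y → Commute ⁅x3, x4⁆ y := by
    intro y hy; rw [e34]; exact hcomm hk34 hy
  have c32x : ∀ {y : Γ}, Commute zt y → Commute ⁅x3, x2⁆ y := by
    intro y hy
    rw [← commutatorElement_inv x2 x3, e23]
    exact (hcomm hk23 hy).inv_left
  have expand : ⁅x3, x1 * x2 * x3 * x4⁆ = ⁅x3, x1⁆ * ⁅x3, x2⁆ * ⁅x3, x4⁆ := by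
    rw [comm_mul_right x3 (x1 * x2 * x3) x4
        (c34x ((hzx.mul_right hzx2).mul_right hzx3)),
      comm_mul_right x3 (x1 * x2) x3 (by rw [commutatorElement_self]; exact Commute.one_left _),
      commutatorElement_self, mul_one,
      comm_mul_right x3 x1 x2 (c32x hzx)]
  have f14 : ⁅x1, x4⁆ = ⁅x1, x2⁆ := by
    rw [t14, expand, ← s13, ← t13, q13, one_mul, ← s12_34]
  refine ⟨⁅x1, x2⁆, q12, ⟨k12, hk12, e12⟩, rfl, ?_, f14, ?_, ?_, s12_34.symm⟩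
  · rw [u13_23, ← s14_23, f14]
  · rw [← s14_23, f14]
  · rw [← s13_24, u13_23, ← s14_23, f14]

end Cfsg.Agent.Lib.Helper70_J2M_R
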