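import Mathlib

/-!
# S2040 package D1 (helper82 for helper26): the commutator subgroup of `⟨a, b, N, C⟩` lies in `N`
when `a`, `b` normalise `N`, `⁅a, b⁆ ∈ N` and `C` is central
-/

set_option autoImplicit false

open scoped commutatorElement

namespace Cfsg.Agent.Lib.Helper82_J2M_D1

/-- in a finite group, `g N g⁻¹ ≤ N` implies `g⁻¹ N g ≤ N` -/
theorem inv_conj_mem {Γ : Type*} [Group Γ] [Finite Γ] (N : Subgroup Γ) (g : Γ)
    (hg : ∀ y ∈ N, g * y * g⁻¹ ∈ N) : ∀ y ∈ N, g⁻¹ * y * g⁻¹⁻¹ ∈ N := by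
  intro y hy
  let φ : N → N := fun n => ⟨g * n.1 * g⁻¹, hg n.1 n.2⟩
  have hinj : Function.Injective φ := by
    intro n m hnm
    have h1 : g * n.1 * g⁻¹ = g * m.1 * g⁻¹ := congrArg Subtype.val hnm
    have h2 : n.1 = m.1 := by
      have := congrArg (fun t => g⁻¹ * t * g) h1
      simpa [mul_assoc] using this
    exact Subtype.ext h2
  obtain ⟨n, hn⟩ := (Finite.injective_iff_surjective.mp hinj) ⟨y, hy⟩
  have h1 : g * n.1 * g⁻¹ = y := congrArg Subtype.val hn
  have h2 : g⁻¹ * y * g⁻¹⁻¹ = n.1 := by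
    rw [← h1]; group
  rw [h2]
  exact n.2

/-- PKG-D1 -/
theorem commutator_le_of_pair {Γ : Type*} [Group Γ] [Finite Γ] (N : Subgroup Γ) (a b : Γ) (C : Set Γ)
    (hC : ∀ c ∈ C, c ∈ Subgroup.center Γ)
    (ha : ∀ y ∈ N, a * y * a⁻¹ ∈ N) (hb : ∀ y ∈ N, b * y * b⁻¹ ∈ N) (hab : ⁅a, b⁆ ∈ N) :
    ⁅Subgroup.closure (({a, b} : Set Γ) ∪ (N : Set Γ) ∪ C),
      Subgroup.closure (({a, b} : Set Γ) ∪ (N : Set Γ) ∪ C)⁆ ≤ N := by
  set S : Set Γ := ({a, b} : Set Γ) ∪ (N : Set Γ) ∪ C with hS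
  -- every element of the closure normalises `N`
  have hnorm : ∀ g ∈ Subgroup.closure S, ∀ y ∈ N, g * y * g⁻¹ ∈ N := by
    intro g hg
    induction hg using Subgroup.closure_induction with
    | mem x hx =>
      rcases hx with (hx | hx) | hx
      · rcases hx with rfl | rfl
        · exact ha
        · exact hb
      · intro y hy
        exact N.mul_mem (N.mul_mem hx hy) (N.inv_mem hx)
      · intro y hy
        have hc := hC x hx
        rw [Subgroup.mem_center_iff] at hc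
        have : x * y * x⁻¹ = y := by rw [← hc y]; group
        rw [this]; exact hy
    | one => intro y hy; simpa using hy
    | mul x y _ _ hx hy =>
      intro z hz
      have e : x * y * z * (x * y)⁻¹ = x * (y * z * y⁻¹) * x⁻¹ := by group
      rw [e]
      exact hx _ (hy z hz)
    | inv x _ hx => exact inv_conj_mem N x hx
  -- generators commute pairwise modulo `N`
  have hbase : ∀ s ∈ S, ∀ t ∈ S, s * t * s⁻¹ * t⁻¹ ∈ N := by
    intro s hs t ht
    have hsn := hnorm s (Subgroup.subset_closure hs)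
    have htn := hnorm t (Subgroup.subset_closure ht)
    rcases hs with (hs | hs) | hs
    · rcases ht with (ht | ht) | ht
      · have hs' : s = a ∨ s = b := hs
        have ht' : t = a ∨ t = b := ht
        rcases hs' with hs' | hs' <;> rcases ht' with ht' | ht' <;> rw [hs', ht']
        · simp
        · simpa [commutatorElement_def] using hab
        · have : b * a * b⁻¹ * a⁻¹ = ⁅a, b⁆⁻¹ := by rw [commutatorElement_def]; group
          rw [this]; exact N.inv_mem hab
        · simp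
      · exact N.mul_mem (hsn t ht) (N.inv_mem ht)
      · have hc := hC t ht
        rw [Subgroup.mem_center_iff] at hc
        have : s * t * s⁻¹ * t⁻¹ = 1 := by rw [hc s]; group
        rw [this]; exact N.one_mem
    · have e : s * t * s⁻¹ * t⁻¹ = s * (t * s⁻¹ * t⁻¹) := by group
      rw [e]
      exact N.mul_mem hs (htn _ (N.inv_mem hs))
    · have hc := hC s hs
      rw [Subgroup.mem_center_iff] at hc
      have : s * t * s⁻¹ * t⁻¹ = 1 := by rw [← hc t]; group
      rw [this]; exact N.one_mem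
  have hcomm : ∀ s ∈ S, ∀ t ∈ Subgroup.closure S, s * t * s⁻¹ * t⁻¹ ∈ N := by
    intro s hs t ht
    induction ht using Subgroup.closure_induction with
    | mem x hx => exact hbase s hs x hx
    | one => simp
    | mul x y hx' _ hx hy =>
      have e : s * (x * y) * s⁻¹ * (x * y)⁻¹ =
          (s * x * s⁻¹ * x⁻¹) * (x * (s * y * s⁻¹ * y⁻¹) * x⁻¹) := by group
      rw [e]
      exact N.mul_mem hx (hnorm x hx' _ hy)
    | inv x hx' hx =>
      have e : s * x⁻¹ * s⁻¹ * x⁻¹⁻¹ = x⁻¹ * (s * x * s⁻¹ * x⁻¹)⁻¹ * x⁻¹⁻¹ := by group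
      rw [e]
      exact hnorm x⁻¹ (Subgroup.inv_mem _ hx') _ (N.inv_mem hx)
  have hcomm2 : ∀ s ∈ Subgroup.closure S, ∀ t ∈ Subgroup.closure S, s * t * s⁻¹ * t⁻¹ ∈ N := by
    intro s hs
    induction hs using Subgroup.closure_induction with
    | mem x hx => exact hcomm x hx
    | one => intro t _; simp
    | mul x y hx' _ hx hy =>
      intro t ht
      have e : (x * y) * t * (x * y)⁻¹ * t⁻¹ =
          x * (y * t * y⁻¹ * t⁻¹) * x⁻¹ * (x * t * x⁻¹ * t⁻¹) := by group
      rw [e]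
      exact N.mul_mem (hnorm x hx' _ (hy t ht)) (hx t ht)
    | inv x hx' hx =>
      intro t ht
      have e : x⁻¹ * t * x⁻¹⁻¹ * t⁻¹ = x⁻¹ * (x * t * x⁻¹ * t⁻¹)⁻¹ * x⁻¹⁻¹ := by group
      rw [e]
      exact hnorm x⁻¹ (Subgroup.inv_mem _ hx') _ (N.inv_mem (hx t ht))
  rw [Subgroup.commutator_le]
  intro g₁ h₁ g₂ h₂
  rw [commutatorElement_def]
  exact hcomm2 g₁ h₁ g₂ h₂

end Cfsg.Agent.Lib.Helper82_J2M_D1
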