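import Mathlib
import Cfsg.Prelude.Def_KGroupFacts
import Cfsg.Agent.Lib.Helper66_Stem
import Cfsg.Agent.Lib.Helper66_StemTools
import Cfsg.Agent.Lib.Lead_StemLocal

/-!
# S2040 package D2 (helper82 for helper26): transfer gives `ker σ ≤ N` when the index is odd and
the kernel is a 2-group
-/

set_option autoImplicit false

open Cfsg
open scoped commutatorElement

namespace Cfsg.Agent.Lib.Helper82_J2M_D2

/-- PKG-D2: for a stem extension `σ : Γ →* G`, a subgroup `S` of odd index in `G`, a kernel of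
exponent dividing `2 ^ n`: the kernel lies in every subgroup containing the commutator subgroup of
the preimage of `S`. -/
theorem ker_le_of_odd_index {Γ G : Type*} [Group Γ] [Group G] (σ : Γ →* G)
    (hσ : IsStemExtension σ) (S : Subgroup G) (hodd : Odd S.index) (n : ℕ)
    (hK : ∀ k ∈ σ.ker, k ^ (2 ^ n) = 1) (N : Subgroup Γ)
    (hN : ⁅S.comap σ, S.comap σ⁆ ≤ N) : σ.ker ≤ N := by
  obtain ⟨hsurj, hcen, hcomm⟩ := hσ
  intro k hk
  have hidx : (S.comap σ).index = S.index := Subgroup.index_comap_of_surjective S hsurj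
  have hne : (S.comap σ).index ≠ 0 := by
    rw [hidx]
    intro h
    rw [h] at hodd
    exact absurd hodd (by decide)
  have : (S.comap σ).FiniteIndex := ⟨hne⟩
  obtain ⟨h1, h2⟩ :=
    Cfsg.Agent.Lib.Helper66_StemTools.pow_index_mem_commutator (S.comap σ) k (hcen hk) (hcomm hk)
  have h3 : k ^ (S.comap σ).index ∈ ⁅S.comap σ, S.comap σ⁆ := by
    rw [← Subgroup.map_subtype_commutator (S.comap σ)]
    exact ⟨⟨k ^ (S.comap σ).index, h1⟩, h2, rfl⟩
  have h4 : k ^ (S.comap σ).index ∈ N := hN h3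
  have hk2 : k ^ (2 ^ n) = 1 := hK k hk
  rcases Nat.eq_or_lt_of_le (Nat.one_le_two_pow (n := n)) with h0 | h0
  · -- `2 ^ n = 1`
    rw [← h0, pow_one] at hk2
    rw [hk2]
    exact N.one_mem
  · have hcop : Nat.Coprime (S.comap σ).index (2 ^ n) := by
      rw [hidx]
      exact Nat.Coprime.pow_right n (Nat.coprime_two_right.mpr hodd)
    obtain ⟨m, -, hm⟩ := Nat.exists_mul_mod_eq_one_of_coprime hcop h0
    have hdm := Nat.div_add_mod ((S.comap σ).index * m) (2 ^ n)
    have h5 : k ^ ((S.comap σ).index * m) = k := by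
      rw [← hdm, hm, pow_add, pow_mul, hk2, one_pow, one_mul, pow_one]
    rw [← h5, pow_mul]
    exact N.pow_mem h4 m

end Cfsg.Agent.Lib.Helper82_J2M_D2
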