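import Mathlib
import Cfsg.Prelude.Def_KGroupFacts
import Cfsg.Agent.Lib.Helper66_Stem
import Cfsg.Agent.Lib.Helper66_StemTools
import Cfsg.Agent.Lib.Lead_StemLocal
import Cfsg.Agent.Lib.Helper56_StemP
import Cfsg.Agent.Lib.Helper70_J2M_R
import Cfsg.Agent.Lib.Helper34_J2M_X1
import Cfsg.Agent.Lib.Helper34_J2M_X2
import Cfsg.Agent.Lib.Helper82_J2M_D1
import Cfsg.Agent.Lib.Helper82_J2M_D2

/-!
# The `2`-part of the multiplier of a group with a `2^{1+4}_- : A₅`-like centralizer (helper26)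

Abstract group theory used for the Schur multiplier of `J₂`.  The packages `rigid` (helper70),
`card_closure_insert_le`, `card_extra_le` (helper34), `commutator_le_of_pair`, `ker_le_of_odd_index` (helper82) were
proved by the swarm.
-/

set_option autoImplicit false

namespace Cfsg.Agent.Lib.Helper26_J2MAbs

open Cfsg
open scoped commutatorElement

open Cfsg.Agent.Lib.Helper70_J2M_R (rigid)
open Cfsg.Agent.Lib.Helper34_J2M_X1 (card_closure_insert_le)
open Cfsg.Agent.Lib.Helper34_J2M_X2 (card_extra_le)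
open Cfsg.Agent.Lib.Helper82_J2M_D1 (commutator_le_of_pair)
open Cfsg.Agent.Lib.Helper82_J2M_D2 (ker_le_of_odd_index)

/-! ## helpers -/

section helpers

variable {Γ G : Type*} [Group Γ] [Group G]

theorem exists_ker_of_map_eq (σ : Γ →* G) {u v : Γ} (h : σ u = σ v) : ∃ k ∈ σ.ker, u = v * k :=
  ⟨v⁻¹ * u, by rw [MonoidHom.mem_ker, map_mul, map_inv, h, inv_mul_cancel], by group⟩

theorem exists_central_of_map_eq (σ : Γ →* G) (hc : σ.ker ≤ Subgroup.center Γ) {u v : Γ}
    (h : σ u = σ v) : ∃ k ∈ Subgroup.center Γ, u = v * k := by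
  obtain ⟨k, hk, e⟩ := exists_ker_of_map_eq σ h
  exact ⟨k, hc hk, e⟩

/-- lifts of an element of order prime to the exponent of the kernel commute with the lifts of the elements it
commutes with -/
theorem commute_lift (σ : Γ →* G) (hc : σ.ker ≤ Subgroup.center Γ) (n : ℕ)
    (hn : ∀ k ∈ σ.ker, k ^ n = 1) (zt u : Γ) (m : ℕ) (hm : Nat.Coprime m n) (hu : (σ u) ^ m = 1)
    (hcomm : Commute (σ u) (σ zt)) : Commute u zt := by
  have hck : ⁅u, zt⁆ ∈ σ.ker := by
    rw [MonoidHom.mem_ker, map_commutatorElement, commutatorElement_eq_one_iff_commute]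
    exact hcomm
  have hcc := hc hck
  have h1 : ⁅u, zt⁆ ^ m = 1 := by
    rw [← Helper56_StemP.commutatorElement_pow_left_of_central u zt hcc m]
    have hum : u ^ m ∈ Subgroup.center Γ := hc (by rw [MonoidHom.mem_ker, map_pow, hu])
    rw [commutatorElement_eq_one_iff_commute]
    exact (Subgroup.mem_center_iff.mp hum zt).symm
  have h2 := hn _ hck
  have h3 := Helper56_StemP.eq_one_of_pow_coprime h1 h2 hm
  exact commutatorElement_eq_one_iff_commute.mp h3

/-- the same for a product of two such elements -/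
theorem commute_lift_mul (σ : Γ →* G) (hsurj : Function.Surjective σ)
    (hc : σ.ker ≤ Subgroup.center Γ) (n : ℕ)
    (hn : ∀ k ∈ σ.ker, k ^ n = 1) (zt v : Γ) (m : ℕ) (hm : Nat.Coprime m n)
    (h : ∃ u1 u2 : G, σ v = u1 * u2 ∧ Commute u1 (σ zt) ∧ Commute u2 (σ zt) ∧ u1 ^ m = 1 ∧ u2 ^ m = 1) :
    Commute v zt := by
  obtain ⟨u1, u2, e, c1, c2, p1, p2⟩ := h
  obtain ⟨w1, rfl⟩ := hsurj u1
  obtain ⟨w2, rfl⟩ := hsurj u2
  have k1 := commute_lift σ hc n hn zt w1 m hm p1 c1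
  have k2 := commute_lift σ hc n hn zt w2 m hm p2 c2
  obtain ⟨k, hk, e'⟩ := exists_central_of_map_eq σ hc (u := v) (v := w1 * w2) (by rw [e, map_mul])
  rw [e']
  exact (k1.mul_left k2).mul_left (Subgroup.mem_center_iff.mp hk zt).symm

theorem conj_mem_closure {H : Type*} [Group H] (S : Set H) (g : H)
    (h : ∀ y ∈ S, g * y * g⁻¹ ∈ Subgroup.closure S) :
    ∀ y ∈ Subgroup.closure S, g * y * g⁻¹ ∈ Subgroup.closure S := by
  intro y hy
  induction hy using Subgroup.closure_induction with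
  | mem x hx => exact h x hx
  | one => simp
  | mul x y _ _ hx hy =>
    have e : g * (x * y) * g⁻¹ = (g * x * g⁻¹) * (g * y * g⁻¹) := by group
    rw [e]; exact Subgroup.mul_mem _ hx hy
  | inv x _ hx =>
    have e : g * x⁻¹ * g⁻¹ = (g * x * g⁻¹)⁻¹ := by group
    rw [e]; exact Subgroup.inv_mem _ hx

/-- a group of order at most two is generated by an element of square one -/
theorem exists_gen_of_card_le_two {Γ : Type*} [Group Γ] (K : Subgroup Γ) [Finite ↥K]
    (h : Nat.card ↥K ≤ 2) : ∃ w ∈ K, (∀ z ∈ K, z ∈ Subgroup.zpowers w) ∧ w ^ 2 = 1 := by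
  have hpos : 0 < Nat.card ↥K := Nat.card_pos
  have h12 : Nat.card ↥K = 1 ∨ Nat.card ↥K = 2 := by omega
  rcases h12 with h1 | h2
  · have hb : K = ⊥ := Subgroup.card_eq_one.mp h1
    refine ⟨1, K.one_mem, ?_, one_pow 2⟩
    intro z hz
    rw [hb, Subgroup.mem_bot] at hz
    rw [hz]; exact Subgroup.one_mem _
  · have : Fact (Nat.Prime 2) := ⟨Nat.prime_two⟩
    have hcyc : IsCyclic ↥K := isCyclic_of_prime_card h2
    obtain ⟨g, hg⟩ := hcyc.exists_generator
    refine ⟨g.1, g.2, ?_, ?_⟩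
    · intro z hz
      obtain ⟨n, hn⟩ := Subgroup.mem_zpowers_iff.mp (hg ⟨z, hz⟩)
      rw [Subgroup.mem_zpowers_iff]
      refine ⟨n, ?_⟩
      have := congrArg Subtype.val hn
      rwa [Subgroup.coe_zpow] at this
    · have h3 : g ^ Nat.card ↥K = 1 := pow_card_eq_one'
      rw [h2] at h3
      have := congrArg Subtype.val h3
      rwa [Subgroup.coe_pow] at this

end helpers

/-! ## the two part -/

section main

variable {Γ G : Type*} [Group Γ] [Group G]

theorem conj_central_mul {c : Γ} (hc : c ∈ Subgroup.center Γ) (u y : Γ) :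
    (c * u) * y * (c * u)⁻¹ = u * y * u⁻¹ := by
  have h := Subgroup.mem_center_iff.mp hc
  calc (c * u) * y * (c * u)⁻¹ = c * (u * y * u⁻¹) * c⁻¹ := by group
    _ = (u * y * u⁻¹) * c * c⁻¹ := by rw [h (u * y * u⁻¹)]
    _ = u * y * u⁻¹ := by group

theorem conj_sq {v u : Γ} (h : v * v = 1) : (u * v * u⁻¹) * (u * v * u⁻¹) = 1 := by
  calc (u * v * u⁻¹) * (u * v * u⁻¹) = u * (v * v) * u⁻¹ := by group
    _ = 1 := by rw [h]; group

theorem commute_conj {w u v : Γ} (h1 : Commute w u) (h2 : Commute w v) : Commute w (u * v * u⁻¹) :=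
  (h1.mul_right h2).mul_right h1.inv_right

theorem two_part [Finite Γ] [Finite G] (σ : Γ →* G)
    (hσ : IsStemExtension σ) (hK : ∀ k ∈ σ.ker, k ^ (2 ^ 7) = 1)
    (z x1 x2 x3 x4 a b g h : G)
    (hx2 : x2 = a * x1 * a⁻¹) (hx3 : x3 = b * x1 * b⁻¹) (hx4 : x4 = a * b * x1 * (a * b)⁻¹)
    (ha2 : a * a = 1) (hb2 : b * b = 1) (hab : a * b = b * a)
    (hzg : Commute z g)
    (h12 : ⁅x1, x2⁆ = z) (h13 : ⁅x1, x3⁆ = z) (h14 : ⁅x1, x4⁆ = z)
    (h23 : ⁅x2, x3⁆ = z) (h24 : ⁅x2, x4⁆ = z) (h34 : ⁅x3, x4⁆ = z)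
    (hg1 : g * x1 * g⁻¹ = z * x3) (hg2 : g * x2 * g⁻¹ = z * x4) (hg3 : g * x3 * g⁻¹ = x2)
    (hg4 : g * x4 * g⁻¹ = z * (x1 * x2 * x3 * x4))
    (hh : h * z * h⁻¹ = x1)
    (hox : ∃ u1 u2 : G, x1 = u1 * u2 ∧ Commute u1 z ∧ Commute u2 z ∧ u1 ^ 15 = 1 ∧ u2 ^ 15 = 1)
    (hoa : ∃ u1 u2 : G, a = u1 * u2 ∧ Commute u1 z ∧ Commute u2 z ∧ u1 ^ 15 = 1 ∧ u2 ^ 15 = 1)
    (hob : ∃ u1 u2 : G, b = u1 * u2 ∧ Commute u1 z ∧ Commute u2 z ∧ u1 ^ 15 = 1 ∧ u2 ^ 15 = 1)
    (hog : g ^ 15 = 1)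
    (hidx : Odd (Subgroup.closure ({b, a, x4, x3, x2, x1, z} : Set G)).index)
    (hQ : 32 ≤ Nat.card ↥(Subgroup.closure ({x4, x3, x2, x1, z} : Set G))) :
    Nat.card σ.ker ≤ 2 := by
  have hsurj := hσ.1
  have hc := hσ.2.1
  obtain ⟨zt, hzt⟩ := hsurj z
  obtain ⟨xt, hxt⟩ := hsurj x1
  obtain ⟨al, hal⟩ := hsurj a
  obtain ⟨bl, hbl⟩ := hsurj b
  obtain ⟨gl, hgl⟩ := hsurj g
  obtain ⟨hl, hhl⟩ := hsurj h
  have cop : Nat.Coprime 15 (2 ^ 7) := by norm_num
  -- (A) the lift of `z` commutes with the lifts of `x1`, `a`, `b`, `g`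
  have czx : Commute zt xt :=
    (commute_lift_mul σ hsurj hc (2 ^ 7) hK zt xt 15 cop (by rw [hzt, hxt]; exact hox)).symm
  have cza : Commute zt al :=
    (commute_lift_mul σ hsurj hc (2 ^ 7) hK zt al 15 cop (by rw [hzt, hal]; exact hoa)).symm
  have czb : Commute zt bl :=
    (commute_lift_mul σ hsurj hc (2 ^ 7) hK zt bl 15 cop (by rw [hzt, hbl]; exact hob)).symm
  have czg : Commute zt gl :=
    (commute_lift σ hc (2 ^ 7) hK zt gl 15 cop (by rw [hgl]; exact hog)
      (by rw [hgl, hzt]; exact hzg.symm)).symm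
  -- (B) rigidity
  have ha2c : al * al ∈ Subgroup.center Γ := hc (by rw [MonoidHom.mem_ker, map_mul, hal, ha2])
  have hb2c : bl * bl ∈ Subgroup.center Γ := hc (by rw [MonoidHom.mem_ker, map_mul, hbl, hb2])
  have hκk : ⁅al, bl⁆ ∈ σ.ker := by
    rw [MonoidHom.mem_ker, map_commutatorElement, hal, hbl, commutatorElement_eq_one_iff_mul_comm]
    exact hab
  have hκc : ⁅al, bl⁆ ∈ Subgroup.center Γ := hc hκk
  obtain ⟨y2, hy2⟩ : ∃ y, y = al * xt * al⁻¹ := ⟨_, rfl⟩
  obtain ⟨y3, hy3⟩ : ∃ y, y = bl * xt * bl⁻¹ := ⟨_, rfl⟩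
  obtain ⟨y4, hy4⟩ : ∃ y, y = al * bl * xt * (al * bl)⁻¹ := ⟨_, rfl⟩
  have sy2 : σ y2 = x2 := by rw [hy2, hx2, map_mul, map_mul, map_inv, hal, hxt]
  have sy3 : σ y3 = x3 := by rw [hy3, hx3, map_mul, map_mul, map_inv, hbl, hxt]
  have sy4 : σ y4 = x4 := by
    rw [hy4, hx4, map_mul, map_mul, map_inv, map_mul, hal, hbl, hxt]
  obtain ⟨w, hw2, ⟨k0, hk0, hwk⟩, c12, c13, c14, c23, c24, c34⟩ :=
    rigid zt xt y2 y3 y4 al bl gl czx cza czb czg ha2c hb2c hκc hy2 hy3 hy4
      (exists_central_of_map_eq σ hc (by rw [map_commutatorElement, hxt, sy2, h12, hzt]))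
      (exists_central_of_map_eq σ hc (by rw [map_commutatorElement, hxt, sy3, h13, hzt]))
      (exists_central_of_map_eq σ hc (by rw [map_commutatorElement, hxt, sy4, h14, hzt]))
      (exists_central_of_map_eq σ hc (by rw [map_commutatorElement, sy2, sy3, h23, hzt]))
      (exists_central_of_map_eq σ hc (by rw [map_commutatorElement, sy2, sy4, h24, hzt]))
      (exists_central_of_map_eq σ hc (by rw [map_commutatorElement, sy3, sy4, h34, hzt]))
      (exists_central_of_map_eq σ hc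
        (by rw [map_mul, map_mul, map_inv, map_mul, hgl, hxt, hzt, sy3, hg1]))
      (exists_central_of_map_eq σ hc
        (by rw [map_mul, map_mul, map_inv, map_mul, hgl, sy2, hzt, sy4, hg2]))
      (exists_central_of_map_eq σ hc
        (by rw [map_mul, map_mul, map_inv, hgl, sy3, sy2, hg3]))
      (exists_central_of_map_eq σ hc
        (by rw [map_mul, map_mul, map_inv, map_mul, map_mul, map_mul, map_mul, hgl, sy4, hzt, hxt,
          sy2, sy3, hg4]))
  have sw : σ w = z := by rw [← c12, map_commutatorElement, hxt, sy2, h12]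
  have hk0c := Subgroup.mem_center_iff.mp hk0
  have cw : ∀ u : Γ, Commute zt u → Commute w u := by
    intro u hu
    rw [hwk]
    exact hu.mul_left (hk0c u).symm
  have cwx := cw xt czx
  have cwa := cw al cza
  have cwb := cw bl czb
  -- (C) the involutions
  obtain ⟨v1, hv1⟩ : ∃ v, v = hl * w * hl⁻¹ := ⟨_, rfl⟩
  obtain ⟨v2, hv2⟩ : ∃ v, v = al * v1 * al⁻¹ := ⟨_, rfl⟩
  obtain ⟨v3, hv3⟩ : ∃ v, v = bl * v1 * bl⁻¹ := ⟨_, rfl⟩
  obtain ⟨v4, hv4⟩ : ∃ v, v = al * bl * v1 * (al * bl)⁻¹ := ⟨_, rfl⟩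
  have sv1 : σ v1 = x1 := by rw [hv1, map_mul, map_mul, map_inv, hhl, sw, hh]
  have sv2 : σ v2 = x2 := by rw [hv2, hx2, map_mul, map_mul, map_inv, hal, sv1]
  have sv3 : σ v3 = x3 := by rw [hv3, hx3, map_mul, map_mul, map_inv, hbl, sv1]
  have sv4 : σ v4 = x4 := by
    rw [hv4, hx4, map_mul, map_mul, map_inv, map_mul, hal, hbl, sv1]
  have q1 : v1 * v1 = 1 := by rw [hv1]; exact conj_sq hw2
  have q2 : v2 * v2 = 1 := by rw [hv2]; exact conj_sq q1
  have q3 : v3 * v3 = 1 := by rw [hv3]; exact conj_sq q1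
  have q4 : v4 * v4 = 1 := by rw [hv4]; exact conj_sq q1
  have cong := @Helper66_StemTools.commutatorElement_congr_of_central Γ G _ _ σ hc
  have d12 : ⁅v1, v2⁆ = w := by rw [← c12]; exact cong (by rw [sv1, hxt]) (by rw [sv2, sy2])
  have d13 : ⁅v1, v3⁆ = w := by rw [← c13]; exact cong (by rw [sv1, hxt]) (by rw [sv3, sy3])
  have d14 : ⁅v1, v4⁆ = w := by rw [← c14]; exact cong (by rw [sv1, hxt]) (by rw [sv4, sy4])
  have d23 : ⁅v2, v3⁆ = w := by rw [← c23]; exact cong (by rw [sv2, sy2]) (by rw [sv3, sy3])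
  have d24 : ⁅v2, v4⁆ = w := by rw [← c24]; exact cong (by rw [sv2, sy2]) (by rw [sv4, sy4])
  have d34 : ⁅v3, v4⁆ = w := by rw [← c34]; exact cong (by rw [sv3, sy3]) (by rw [sv4, sy4])
  have cw1 : Commute w v1 := by
    obtain ⟨k, hk, e⟩ := exists_central_of_map_eq σ hc (u := v1) (v := xt) (by rw [sv1, hxt])
    rw [e]
    exact cwx.mul_right (Subgroup.mem_center_iff.mp hk w)
  have cw2 : Commute w v2 := by rw [hv2]; exact commute_conj cwa cw1
  have cw3 : Commute w v3 := by rw [hv3]; exact commute_conj cwb cw1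
  have cw4 : Commute w v4 := by rw [hv4]; exact commute_conj (cwa.mul_right cwb) cw1
  -- the central involution `κ`
  obtain ⟨κ, hκ⟩ : ∃ κ, κ = ⁅al, bl⁆ := ⟨_, rfl⟩
  rw [← hκ] at hκk hκc
  have hκ2 : κ * κ = 1 := by
    have e1 : ⁅al * al, bl⁆ = κ * κ := by
      rw [hκ]
      exact Helper66_StemTools.commutatorElement_mul_left_of_central al al bl (by rw [← hκ]; exact hκc)
    rw [← e1, commutatorElement_eq_one_iff_commute]
    exact (Subgroup.mem_center_iff.mp ha2c bl).symm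
  have hκcomm := Subgroup.mem_center_iff.mp hκc
  -- `N`
  set N : Subgroup Γ := Subgroup.closure ({κ, v4, v3, v2, v1, w} : Set Γ) with hN
  have hNcard : Nat.card ↥N ≤ 64 := by
    have h32 := card_extra_le w v1 v2 v3 v4 hw2 q1 q2 q3 q4 cw1 cw2 cw3 cw4 d12 d13 d14 d23 d24 d34
    have h2 := card_closure_insert_le ({v4, v3, v2, v1, w} : Set Γ) κ
      (by rw [hκ2]; exact Subgroup.one_mem _)
      (by
        intro y hy
        have : κ * y * κ⁻¹ = y := by rw [← hκcomm y]; group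
        rw [this]; exact Subgroup.subset_closure hy)
    calc Nat.card ↥N ≤ 2 * Nat.card ↥(Subgroup.closure ({v4, v3, v2, v1, w} : Set Γ)) := h2
      _ ≤ 2 * 32 := Nat.mul_le_mul_left 2 h32
  have mem : ∀ y ∈ ({κ, v4, v3, v2, v1, w} : Set Γ), y ∈ N := fun y hy => Subgroup.subset_closure hy
  have mκ : κ ∈ N := mem κ (by simp)
  have m4 : v4 ∈ N := mem v4 (by simp)
  have m3 : v3 ∈ N := mem v3 (by simp)
  have m2 : v2 ∈ N := mem v2 (by simp)
  have m1 : v1 ∈ N := mem v1 (by simp)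
  have mw : w ∈ N := mem w (by simp)
  -- `bl * al = κ⁻¹ * (al * bl)`
  have hba : bl * al = κ⁻¹ * (al * bl) := by
    rw [hκ, commutatorElement_def]; group
  have hκic : κ⁻¹ ∈ Subgroup.center Γ := Subgroup.inv_mem _ hκc
  have na : ∀ y ∈ N, al * y * al⁻¹ ∈ N := by
    apply conj_mem_closure
    intro y hy
    simp only [Set.mem_insert_iff, Set.mem_singleton_iff] at hy
    rcases hy with rfl | rfl | rfl | rfl | rfl | rfl
    · have : al * y * al⁻¹ = y := by rw [hκcomm al]; group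
      rw [this]; exact mκ
    · have : al * y * al⁻¹ = v3 := by
        rw [hv4, hv3]
        calc al * (al * bl * v1 * (al * bl)⁻¹) * al⁻¹
            = ((al * al) * bl) * v1 * ((al * al) * bl)⁻¹ := by group
          _ = bl * v1 * bl⁻¹ := conj_central_mul ha2c bl v1
      rw [this]; exact m3
    · have : al * y * al⁻¹ = v4 := by rw [hv3, hv4]; group
      rw [this]; exact m4
    · have : al * y * al⁻¹ = v1 := by
        rw [hv2]
        calc al * (al * v1 * al⁻¹) * al⁻¹ = ((al * al) * 1) * v1 * ((al * al) * 1)⁻¹ := by group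
          _ = 1 * v1 * 1⁻¹ := conj_central_mul ha2c 1 v1
          _ = v1 := by group
      rw [this]; exact m1
    · rw [← hv2]; exact m2
    · have : al * y * al⁻¹ = y := by rw [← cwa.eq]; group
      rw [this]; exact mw
  have nb : ∀ y ∈ N, bl * y * bl⁻¹ ∈ N := by
    apply conj_mem_closure
    intro y hy
    simp only [Set.mem_insert_iff, Set.mem_singleton_iff] at hy
    rcases hy with rfl | rfl | rfl | rfl | rfl | rfl
    · have : bl * y * bl⁻¹ = y := by rw [hκcomm bl]; group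
      rw [this]; exact mκ
    · have : bl * y * bl⁻¹ = v2 := by
        rw [hv4, hv2]
        calc bl * (al * bl * v1 * (al * bl)⁻¹) * bl⁻¹
            = ((bl * al) * bl) * v1 * ((bl * al) * bl)⁻¹ := by group
          _ = (κ⁻¹ * ((bl * bl) * al)) * v1 * (κ⁻¹ * ((bl * bl) * al))⁻¹ := by
              have e : (bl * al) * bl = κ⁻¹ * ((bl * bl) * al) := by
                calc (bl * al) * bl = κ⁻¹ * (al * bl) * bl := by rw [hba]
                  _ = κ⁻¹ * (al * (bl * bl)) := by group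
                  _ = κ⁻¹ * ((bl * bl) * al) := by rw [Subgroup.mem_center_iff.mp hb2c al]
              rw [e]
          _ = ((bl * bl) * al) * v1 * ((bl * bl) * al)⁻¹ := conj_central_mul hκic _ v1
          _ = al * v1 * al⁻¹ := conj_central_mul hb2c al v1
      rw [this]; exact m2
    · have : bl * y * bl⁻¹ = v1 := by
        rw [hv3]
        calc bl * (bl * v1 * bl⁻¹) * bl⁻¹ = ((bl * bl) * 1) * v1 * ((bl * bl) * 1)⁻¹ := by group
          _ = 1 * v1 * 1⁻¹ := conj_central_mul hb2c 1 v1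
          _ = v1 := by group
      rw [this]; exact m1
    · have : bl * y * bl⁻¹ = v4 := by
        rw [hv2, hv4]
        calc bl * (al * v1 * al⁻¹) * bl⁻¹ = (bl * al) * v1 * (bl * al)⁻¹ := by group
          _ = (κ⁻¹ * (al * bl)) * v1 * (κ⁻¹ * (al * bl))⁻¹ := by rw [hba]
          _ = al * bl * v1 * (al * bl)⁻¹ := conj_central_mul hκic _ v1
      rw [this]; exact m4
    · rw [← hv3]; exact m3
    · have : bl * y * bl⁻¹ = y := by rw [← cwb.eq]; group
      rw [this]; exact mw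
  -- (D) the preimage of the Sylow subgroup
  set S : Subgroup G := Subgroup.closure ({b, a, x4, x3, x2, x1, z} : Set G) with hS
  have hSimg : S = Subgroup.closure (σ '' ({bl, al, v4, v3, v2, v1, w} : Set Γ)) := by
    rw [hS]
    congr 1
    simp only [Set.image_insert_eq, Set.image_singleton, hbl, hal, sv4, sv3, sv2, sv1, sw]
  have hcomap : S.comap σ =
      Subgroup.closure (({bl, al, v4, v3, v2, v1, w} : Set Γ) ∪ (σ.ker : Set Γ)) := by
    rw [hSimg]
    exact Lead_StemLocal.comap_closure_image σ _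
  have hle : S.comap σ ≤
      Subgroup.closure (({al, bl} : Set Γ) ∪ (N : Set Γ) ∪ (σ.ker : Set Γ)) := by
    rw [hcomap]
    apply Subgroup.closure_mono
    rintro y (hy | hy)
    · simp only [Set.mem_insert_iff, Set.mem_singleton_iff] at hy
      rcases hy with rfl | rfl | rfl | rfl | rfl | rfl | rfl
      · exact Or.inl (Or.inl (by simp))
      · exact Or.inl (Or.inl (by simp))
      · exact Or.inl (Or.inr m4)
      · exact Or.inl (Or.inr m3)
      · exact Or.inl (Or.inr m2)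
      · exact Or.inl (Or.inr m1)
      · exact Or.inl (Or.inr mw)
    · exact Or.inr hy
  have hcommN : ⁅S.comap σ, S.comap σ⁆ ≤ N :=
    (Subgroup.commutator_mono hle hle).trans
      (commutator_le_of_pair N al bl (σ.ker : Set Γ) (fun c hc' => hc hc') na nb
        (by rw [← hκ]; exact mκ))
  have hKN : σ.ker ≤ N := ker_le_of_odd_index σ hσ S hidx 7 hK N hcommN
  -- counting
  have h1 := Subgroup.relIndex_mul_relIndex ⊥ σ.ker N bot_le hKN
  rw [Subgroup.relIndex_bot_left, Subgroup.relIndex_bot_left, Subgroup.relIndex_ker] at h1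
  have h2 : 32 ≤ Nat.card ↥(N.map σ) := by
    refine hQ.trans (Subgroup.card_le_of_le ?_)
    rw [hN, MonoidHom.map_closure]
    apply Subgroup.closure_mono
    simp only [Set.image_insert_eq, Set.image_singleton, sv4, sv3, sv2, sv1, sw]
    exact Set.subset_insert _ _
  by_contra hcon
  have h3 : 3 ≤ Nat.card ↥σ.ker := by omega
  nlinarith

end main

end Cfsg.Agent.Lib.Helper26_J2MAbs
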