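import Cfsg.Agent.Lib.Helper8_J2E

/-!
# The centre of `2·J₂` is `{±1}` (helper8)
-/

set_option autoImplicit false
set_option linter.constructorNameAsVariable false

namespace Cfsg.Agent.Lib.Helper8_J2

open Quaternion Cfsg.Spor Cfsg.Agent.Lib.Helper26_Ico

/-! ### Negation -/

theorem qrefl_bv (t : Fin 3) (y : Fin 3 → ℍ[ℝ]) (s : Fin 3) :
    qrefl (bv t) y s = if s = t then -y s else y s := by
  simp only [qrefl, qip_bv]
  rw [one_div, inv_two_smul_mul_two]
  by_cases h : s = t
  · subst h
    simp only [bv, if_true]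
    rw [mul_two]; abel
  · simp [bv, h]

/-- `-1` as a word in the three coordinate reflections. -/
noncomputable def negOne : Equiv.Perm icoLeech := wordPerm [0, 1, 2]

theorem negOne_mem : negOne ∈ twoJ2 := wordPerm_mem _

theorem lineRefl_bv_apply (t : Fin 3) (x : icoLeech) :
    ((lineRefl (lineAt t.val) x : icoLeech) : Fin 3 → ℍ[ℝ]) = qrefl (bv t) x := by
  rw [lineRefl_eq (lineAt_mem (by have := t.2; omega)), reflPerm_apply, ← bv_eq]

theorem negOne_apply (x : icoLeech) : ((negOne x : icoLeech) : Fin 3 → ℍ[ℝ]) = -(x : Fin 3 → ℍ[ℝ]) := by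
  have e : negOne = lineRefl (lineAt (0 : Fin 3).val) *
      (lineRefl (lineAt (1 : Fin 3).val) * lineRefl (lineAt (2 : Fin 3).val)) := by
    simp [negOne, wordPerm]
  rw [e, Equiv.Perm.mul_apply, Equiv.Perm.mul_apply, lineRefl_bv_apply, lineRefl_bv_apply,
    lineRefl_bv_apply]
  funext s
  rw [qrefl_bv, qrefl_bv, qrefl_bv]
  fin_cases s <;> simp

theorem negOne_ne_one : negOne ≠ 1 := by
  intro h
  have := negOne_apply (β 2)
  rw [h, Equiv.Perm.one_apply] at this
  exact β2_ne_nβ2 (Subtype.ext this)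

theorem negOne_comm {g : Equiv.Perm icoLeech} (hg : g ∈ twoJ2) : g * negOne = negOne * g := by
  obtain ⟨F, hF⟩ := exists_ext hg
  ext x : 2
  rw [Equiv.Perm.mul_apply, Equiv.Perm.mul_apply, hF.agree, negOne_apply, negOne_apply, hF.neg,
    hF.agree]

/-! ### Central elements -/

def negOneZl : List ℤ := m8 (-2) 0 0 0 0 0 0 0

theorem unit_center : ∀ l0 ∈ UZl, (∀ l ∈ UZl, mulZl l l0 = mulZl l0 l) →
    l0 = oneZl ∨ l0 = negOneZl := by
  decide +kernel

theorem swap_ok : wordL [19] (lineAt 0) = lineAt 1 ∧ wordL [11] (lineAt 0) = lineAt 2 := by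
  decide +kernel

theorem swap01 : wordPerm [19] (β 0) = β 1 := by
  apply Subtype.ext
  rw [β0_eq, word_eval [19] (by simp) 0 (by norm_num) _ swap_ok.1]
  exact bv1_eq.symm

theorem swap02 : wordPerm [11] (β 0) = β 2 := by
  apply Subtype.ext
  rw [β0_eq, word_eval [11] (by simp) 0 (by norm_num) _ swap_ok.2]
  exact bv2_eq.symm

theorem lsmul_bv_inj {a b : ℍ[ℝ]} {t : Fin 3} (h : lsmul a (bv t) = lsmul b (bv t)) : a = b := by
  have := congrFun h t
  simp only [lsmul_apply, bv, if_true] at this
  exact mul_right_cancel₀ two_ne_zero' this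

/-- A central element of `2·J₂` is `±1`. -/
theorem central_eq {z : Equiv.Perm icoLeech} (hz : z ∈ twoJ2)
    (hc : ∀ g ∈ twoJ2, g * z = z * g) : z = 1 ∨ z = negOne := by
  obtain ⟨F, hF⟩ := exists_ext hz
  -- `z` fixes the first line
  have hconj : z * lineRefl (lineAt 0) * z⁻¹ = lineRefl (lineAt 0) := by
    rw [← hc _ (lineRefl_mem _), mul_assoc, mul_inv_cancel, mul_one]
  obtain ⟨υ, iυ, mυ, e0⟩ := image_on_line hz (by norm_num : 0 < 315) (by norm_num : 0 < 315) hconj
  rw [← β0_eq, hF.agree, coe_β, ← bv0_eq] at e0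
  -- the multiplier is central among the units
  have hcomm : ∀ l ∈ UZl, mulZl l (toL υ) = mulZl (toL υ) l := by
    intro l hl
    obtain ⟨k, hk, ek⟩ := exists_mult hl
    obtain ⟨K, hK⟩ := exists_ext hk
    rw [hK.agree, coe_β] at ek
    have h1 := congrArg (fun f : Equiv.Perm icoLeech => ((f (β 0) : icoLeech) : Fin 3 → ℍ[ℝ])) (hc k hk)
    simp only [Equiv.Perm.mul_apply] at h1
    rw [hK.agree, hF.agree, hF.agree, hK.agree, coe_β, e0, ek, hK.smul, hF.smul, ek, e0,
      lsmul_lsmul, lsmul_lsmul] at h1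
    have h2 := lsmul_bv_inj h1
    obtain ⟨hu, -, hue⟩ := unit_mem hl
    rw [toH_mul, toH_mul] at h2
    have h3 : mulZ υ (ofL l) = mulZ (ofL l) υ := by
      apply toH_inj
      have := congrArg (fun q : ℍ[ℝ] => (2 : ℝ) • q) h2
      simpa [smul_smul] using this
    rw [← hue, mulZl_toL, mulZl_toL, h3]
  -- hence it is `±1`
  have hpm : toH υ = 1 ∨ toH υ = -1 := by
    rcases unit_center _ mυ hcomm with h | h
    · left
      rw [← toL_oneZ] at h
      rw [toL_inj h, toH_oneZ]
    · right
      have : υ = -oneZ := by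
        apply toL_inj
        rw [h]; rfl
      rw [this, toH_neg, toH_oneZ]
  -- the other frame vectors
  have e1 : F (bv 1) = lsmul (toH υ) (bv 1) := by
    obtain ⟨P, hP⟩ := exists_ext (wordPerm_mem [19])
    have hP0 : P (bv 0) = bv 1 := by
      have := hP.agree (β 0)
      rw [swap01] at this
      exact this.symm
    have h1 := congrArg (fun f : Equiv.Perm icoLeech => ((f (β 0) : icoLeech) : Fin 3 → ℍ[ℝ]))
      (hc _ (wordPerm_mem [19]))
    simp only [Equiv.Perm.mul_apply] at h1
    rw [hP.agree, hF.agree, hF.agree, hP.agree, coe_β, e0, hP.smul, hP0] at h1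
    exact h1.symm
  have e2 : F (bv 2) = lsmul (toH υ) (bv 2) := by
    obtain ⟨P, hP⟩ := exists_ext (wordPerm_mem [11])
    have hP0 : P (bv 0) = bv 2 := by
      have := hP.agree (β 0)
      rw [swap02] at this
      exact this.symm
    have h1 := congrArg (fun f : Equiv.Perm icoLeech => ((f (β 0) : icoLeech) : Fin 3 → ℍ[ℝ]))
      (hc _ (wordPerm_mem [11]))
    simp only [Equiv.Perm.mul_apply] at h1
    rw [hP.agree, hF.agree, hF.agree, hP.agree, coe_β, e0, hP.smul, hP0] at h1
    exact h1.symm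
  have eall : ∀ t, F (bv t) = lsmul (toH υ) (bv t) := by
    intro t
    fin_cases t
    · exact e0
    · exact e1
    · exact e2
  rcases hpm with h | h
  · left
    apply eq_one_of_fix hz
    intro t
    apply Subtype.ext
    rw [hF.agree, coe_β, eall t, h, lsmul_one]
  · right
    apply eq_of_frame hz negOne_mem
    intro t
    apply Subtype.ext
    rw [hF.agree, coe_β, eall t, h, lsmul_neg_one, negOne_apply, coe_β]

/-- `-1` as an element of `2·J₂`. -/
noncomputable def negOne' : ↥twoJ2 := ⟨negOne, negOne_mem⟩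

theorem negOne'_mem_center : negOne' ∈ Subgroup.center ↥twoJ2 := by
  rw [Subgroup.mem_center_iff]
  intro g
  apply Subtype.ext
  exact negOne_comm g.2

theorem center_eq : (Subgroup.center ↥twoJ2 : Set ↥twoJ2) = {1, negOne'} := by
  ext z
  constructor
  · intro hz
    have hz' := Subgroup.mem_center_iff.1 hz
    have : (z : Equiv.Perm icoLeech) = 1 ∨ (z : Equiv.Perm icoLeech) = negOne := by
      apply central_eq z.2
      intro g hg
      exact congrArg Subtype.val (hz' ⟨g, hg⟩)
    rcases this with h | h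
    · left; exact Subtype.ext h
    · right; exact Subtype.ext h
  · rintro (rfl | rfl)
    · exact one_mem _
    · exact negOne'_mem_center

theorem card_center : Nat.card ↥(Subgroup.center ↥twoJ2) = 2 := by
  rw [← SetLike.coe_sort_coe, Nat.card_coe_set_eq, center_eq, Set.ncard_pair]
  intro h
  exact negOne_ne_one (congrArg Subtype.val h).symm

end Cfsg.Agent.Lib.Helper8_J2
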