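import Cfsg.Agent.Lib.Helper26_IcoSpec2
import Cfsg.Agent.S1619

/-!
# Deciding equalities of words in `J₂` (helper26)

`wordP w` is the product of the tabulated reflections at the positions `w`; two words are equal in `J₂` as soon
as they agree on the base `(0, 27, 11)` of the action on the 315 reflections.
-/

set_option autoImplicit false

namespace Cfsg.Agent.Lib.Helper26_Ico

open Quaternion Cfsg.Spor MulAction

theorem card_J2 : Nat.card J2 = 604800 := Cfsg.Agent.S1619.result.2.2.2

theorem finite_J2 : Finite J2 := Nat.finite_of_card_ne_zero (by rw [card_J2]; norm_num)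

theorem card_St' : Nat.card St = 1920 := card_St card_J2

theorem wordP_single_mul_self (p : ℕ) : wordP [p] * wordP [p] = 1 := by
  rw [wordP_cons, wordP_nil, mul_one]
  exact toJ_mul_self _

theorem wordP_reverse (w : List ℕ) : wordP w.reverse = (wordP w)⁻¹ := by
  induction w with
  | nil => simp [wordP_nil]
  | cons p w ih =>
    have h1 : wordP [p] = (Rn (genAt p)).toJ := by rw [wordP_cons, wordP_nil, mul_one]
    have h2 : (wordP [p])⁻¹ = wordP [p] := by
      rw [inv_eq_iff_mul_eq_one]
      exact wordP_single_mul_self p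
    have h3 : wordP (p :: w) = wordP [p] * wordP w := by
      rw [wordP_cons, h1]
    rw [List.reverse_cons, wordP_append, ih, h3, mul_inv_rev, h2]

theorem okW_reverse {w : List ℕ} (h : okW w = true) : okW w.reverse = true := by
  unfold okW at *
  rw [List.all_eq_true] at *
  intro p hp
  exact h p (List.mem_reverse.1 hp)

/-- the words `u`, `v` agree on the base -/
def chkEq (u v : List ℕ) : Bool :=
  okW u && okW v && (runP (u.reverse ++ v) 0 == 0) && (runP (u.reverse ++ v) 27 == 27) &&
    (runP (u.reverse ++ v) 11 == 11)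

theorem wordP_eq_of_chk {u v : List ℕ} (h : chkEq u v = true) : wordP u = wordP v := by
  have := finite_J2
  unfold chkEq at h
  simp only [Bool.and_eq_true, beq_iff_eq] at h
  obtain ⟨⟨⟨⟨hu, hv⟩, h0⟩, h27⟩, h11⟩ := h
  have hw : okW (u.reverse ++ v) = true := okW_append (okW_reverse hu) hv
  have h1 : wordP (u.reverse ++ v) = 1 := by
    apply eq_one_of_fix card_St'
    · rw [actN_wordP hw (by norm_num), h0]
    · rw [actN_wordP hw (by norm_num), h27]
    · rw [actN_wordP hw (by norm_num), h11]
  rw [wordP_append, wordP_reverse, inv_mul_eq_one] at h1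
  exact h1

/-- the words `u`, `v` differ at the point `j` -/
def chkNe (u v : List ℕ) (j : ℕ) : Bool :=
  okW u && okW v && decide (j < 315) && !(runP u j == runP v j)

theorem wordP_ne_of_chk {u v : List ℕ} (j : ℕ) (h : chkNe u v j = true) : wordP u ≠ wordP v := by
  unfold chkNe at h
  simp only [Bool.and_eq_true, decide_eq_true_eq, Bool.not_eq_true', beq_eq_false_iff_ne] at h
  obtain ⟨⟨⟨hu, hv⟩, hj⟩, hne⟩ := h
  intro e
  apply hne
  rw [← actN_wordP hu hj, ← actN_wordP hv hj, e]

theorem wordP_pow (w : List ℕ) (n : ℕ) : wordP w ^ n = wordP (List.flatten (List.replicate n w)) := by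
  induction n with
  | zero => simp [wordP_nil]
  | succ n ih => rw [pow_succ', ih, List.replicate_succ, List.flatten_cons, wordP_append]

end Cfsg.Agent.Lib.Helper26_Ico
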