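import Cfsg.Agent.Lib.Helper26_J2MData

/-!
# `2·J₂ → J₂` is a stem extension (helper26)

A `2B`-involution of `J₂` lifts to an element of order `4` of the reflection group.
-/

set_option autoImplicit false

namespace Cfsg.Agent.Lib.Helper26_Ico

open Quaternion Cfsg Cfsg.Spor

theorem toH3_inj {w w' : Fin 3 → Fin 8 → ℤ} (h : toH3 w = toH3 w') : w = w' := by
  funext t
  exact toH_inj (congrFun h t)

/-- coordinates of the image under the `n`-th reflection -/
theorem Rn_apply_coord {n : ℕ} (hn : n < 315) {w : Fin 3 → Fin 8 → ℤ} (hw : inLam w)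
    (x : icoLeech) (hx : (x : Fin 3 → ℍ[ℝ]) = toH3 w) :
    inLam (reflZ (ofL3 (lineAt n)) w) ∧
      (((Rn n).1 x : icoLeech) : Fin 3 → ℍ[ℝ]) = toH3 (reflZ (ofL3 (lineAt n)) w) := by
  have mk := lineAt_mem hn
  have e := toH3_reflZ (line_inLam mk) hw
  constructor
  · rw [← toH3_mem_iff, e]
    exact qrefl_mem (line_mem mk).1 ((toH3_mem_iff w).2 hw)
  · rw [Rn_val hn, lineRefl_eq mk, reflPerm_apply, hx, e]

/-- the image of a vector (in coordinates) under a word of reflections -/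
def runZ (ks : List ℕ) (L : List ℤ) : List ℤ := ks.foldr (fun k acc => refll (lineAt k) acc) L

theorem prod_apply_coord (ks : List ℕ) (hks : ∀ k ∈ ks, k < 315) {w : Fin 3 → Fin 8 → ℤ}
    (hw : inLam w) (x : icoLeech) (hx : (x : Fin 3 → ℍ[ℝ]) = toH3 w) :
    ∃ w', inLam w' ∧ toL3 w' = runZ ks (toL3 w) ∧
      ((((ks.map fun k => (Rn k).1).prod x : icoLeech)) : Fin 3 → ℍ[ℝ]) = toH3 w' := by
  induction ks with
  | nil => exact ⟨w, hw, rfl, by simpa using hx⟩
  | cons k ks ih =>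
    obtain ⟨w'', hw'', e1, e2⟩ := ih (fun k hk => hks k (List.mem_cons_of_mem _ hk))
    have hk : k < 315 := hks k List.mem_cons_self
    obtain ⟨h1, h2⟩ := Rn_apply_coord hk hw'' _ e2
    refine ⟨_, h1, ?_, ?_⟩
    · show toL3 (reflZ (ofL3 (lineAt k)) w'') = refll (lineAt k) (runZ ks (toL3 w))
      rw [← e1, ← refll_toL3, toL3_ofL3 (lineAt_mem hk)]
    · rw [List.map_cons, List.prod_cons, Equiv.Perm.mul_apply]
      exact h2

/-- a lift of the involution `a` -/
noncomputable def tLift : ↥twoJ2 := (Rn 11).toG * ((Rn 13).toG * ((Rn 4).toG * ((Rn 3).toG * 1)))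

theorem mk_tLift : (QuotientGroup.mk tLift : J2) = ja := by
  have h10 : genAt 10 = 11 := by decide
  have h12 : genAt 12 = 13 := by decide
  have h3 : genAt 3 = 4 := by decide
  have h2 : genAt 2 = 3 := by decide
  rw [ja, wa, wordP_cons, wordP_cons, wordP_cons, wordP_cons, wordP_nil, h10, h12, h3, h2]
  rfl

theorem tLift_sq_mem : tLift * tLift ∈ Subgroup.center ↥twoJ2 := by
  rw [← QuotientGroup.eq_one_iff, QuotientGroup.mk_mul, mk_tLift]
  exact r_a2

theorem tLift_sq_val : ((tLift * tLift : ↥twoJ2) : Equiv.Perm icoLeech) =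
    ([11, 13, 4, 3, 11, 13, 4, 3].map fun k => (Rn k).1).prod := by
  simp only [tLift, Refl.toG, mul_one, List.map_cons, List.map_nil, List.prod_cons, List.prod_nil,
    Subgroup.coe_mul, mul_assoc]

theorem runZ_ne : runZ [11, 13, 4, 3, 11, 13, 4, 3] (lineAt 0) ≠ lineAt 0 := by decide +kernel

theorem tLift_sq_ne : tLift * tLift ≠ 1 := by
  intro h
  have m0 := lineAt_mem (n := 0) (by norm_num)
  have hw := line_inLam m0
  obtain ⟨w', -, e1, e2⟩ := prod_apply_coord [11, 13, 4, 3, 11, 13, 4, 3] (by decide) hw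
    ⟨toH3 (ofL3 (lineAt 0)), (line_mem m0).1⟩ rfl
  rw [← tLift_sq_val, h] at e2
  have e3 : w' = ofL3 (lineAt 0) := (toH3_inj e2).symm
  rw [e3, toL3_ofL3 m0] at e1
  exact runZ_ne e1.symm

theorem card_twoJ2 : Nat.card ↥twoJ2 = 1209600 := Cfsg.Agent.S1619.result.1

theorem finite_twoJ2 : Finite ↥twoJ2 :=
  Nat.finite_of_card_ne_zero (by rw [card_twoJ2]; norm_num)

theorem card_center_twoJ2 : Nat.card ↥(Subgroup.center ↥twoJ2) = 2 := Cfsg.Agent.S1619.result.2.1

end Cfsg.Agent.Lib.Helper26_Ico
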