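import Cfsg.Agent.Lib.Helper26_J2MBase

/-!
# Elements of `J₂` used for its Schur multiplier (helper26)

All relations are checked on the base `(0, 27, 11)` of the action on the 315 reflections.
-/

set_option autoImplicit false
set_option linter.unusedSimpArgs false

namespace Cfsg.Agent.Lib.Helper26_Ico

open Cfsg.Spor
open scoped commutatorElement

/-! ### the centralizer `2^{1+4}_- : A₅` of a reflection -/

def wz : List ℕ := [1, 0]
def wx : List ℕ := [2]
def wa : List ℕ := [10, 12, 3, 2]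
def wb : List ℕ := [11, 12, 4, 2]
def wg : List ℕ := [15, 16, 10, 11]
def wh : List ℕ := [14, 13, 10]

noncomputable def jz : J2 := wordP wz
noncomputable def jx : J2 := wordP wx
noncomputable def ja : J2 := wordP wa
noncomputable def jb : J2 := wordP wb
noncomputable def jg : J2 := wordP wg
noncomputable def jh : J2 := wordP wh
noncomputable def jx2 : J2 := ja * jx * ja⁻¹
noncomputable def jx3 : J2 := jb * jx * jb⁻¹
noncomputable def jx4 : J2 := ja * jb * jx * (ja * jb)⁻¹

theorem r_a2 : ja * ja = 1 := by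
  rw [← wordP_nil]
  simp only [jz, jx, ja, jb, jg, jh, jx2, jx3, jx4, commutatorElement_def, mul_inv_rev, inv_inv,
    ← wordP_reverse, ← wordP_append]
  exact wordP_eq_of_chk (by decide +kernel)

theorem r_b2 : jb * jb = 1 := by
  rw [← wordP_nil]
  simp only [jz, jx, ja, jb, jg, jh, jx2, jx3, jx4, commutatorElement_def, mul_inv_rev, inv_inv,
    ← wordP_reverse, ← wordP_append]
  exact wordP_eq_of_chk (by decide +kernel)

theorem r_x2 : jx * jx = 1 := by
  rw [← wordP_nil]
  simp only [jz, jx, ja, jb, jg, jh, jx2, jx3, jx4, commutatorElement_def, mul_inv_rev, inv_inv,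
    ← wordP_reverse, ← wordP_append]
  exact wordP_eq_of_chk (by decide +kernel)

theorem r_z2 : jz * jz = 1 := by
  rw [← wordP_nil]
  simp only [jz, jx, ja, jb, jg, jh, jx2, jx3, jx4, commutatorElement_def, mul_inv_rev, inv_inv,
    ← wordP_reverse, ← wordP_append]
  exact wordP_eq_of_chk (by decide +kernel)

theorem r_ab : ja * jb = jb * ja := by
  simp only [jz, jx, ja, jb, jg, jh, jx2, jx3, jx4, commutatorElement_def, mul_inv_rev, inv_inv,
    ← wordP_reverse, ← wordP_append]
  exact wordP_eq_of_chk (by decide +kernel)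

theorem r_zg : jz * jg = jg * jz := by
  simp only [jz, jx, ja, jb, jg, jh, jx2, jx3, jx4, commutatorElement_def, mul_inv_rev, inv_inv,
    ← wordP_reverse, ← wordP_append]
  exact wordP_eq_of_chk (by decide +kernel)

theorem r_zx : jz * jx = jx * jz := by
  simp only [jz, jx, ja, jb, jg, jh, jx2, jx3, jx4, commutatorElement_def, mul_inv_rev, inv_inv,
    ← wordP_reverse, ← wordP_append]
  exact wordP_eq_of_chk (by decide +kernel)

theorem r_za : jz * ja = ja * jz := by
  simp only [jz, jx, ja, jb, jg, jh, jx2, jx3, jx4, commutatorElement_def, mul_inv_rev, inv_inv,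
    ← wordP_reverse, ← wordP_append]
  exact wordP_eq_of_chk (by decide +kernel)

theorem r_zb : jz * jb = jb * jz := by
  simp only [jz, jx, ja, jb, jg, jh, jx2, jx3, jx4, commutatorElement_def, mul_inv_rev, inv_inv,
    ← wordP_reverse, ← wordP_append]
  exact wordP_eq_of_chk (by decide +kernel)

theorem r_12 : ⁅jx, jx2⁆ = jz := by
  simp only [jz, jx, ja, jb, jg, jh, jx2, jx3, jx4, commutatorElement_def, mul_inv_rev, inv_inv,
    ← wordP_reverse, ← wordP_append]
  exact wordP_eq_of_chk (by decide +kernel)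

theorem r_13 : ⁅jx, jx3⁆ = jz := by
  simp only [jz, jx, ja, jb, jg, jh, jx2, jx3, jx4, commutatorElement_def, mul_inv_rev, inv_inv,
    ← wordP_reverse, ← wordP_append]
  exact wordP_eq_of_chk (by decide +kernel)

theorem r_14 : ⁅jx, jx4⁆ = jz := by
  simp only [jz, jx, ja, jb, jg, jh, jx2, jx3, jx4, commutatorElement_def, mul_inv_rev, inv_inv,
    ← wordP_reverse, ← wordP_append]
  exact wordP_eq_of_chk (by decide +kernel)

theorem r_23 : ⁅jx2, jx3⁆ = jz := by
  simp only [jz, jx, ja, jb, jg, jh, jx2, jx3, jx4, commutatorElement_def, mul_inv_rev, inv_inv,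
    ← wordP_reverse, ← wordP_append]
  exact wordP_eq_of_chk (by decide +kernel)

theorem r_24 : ⁅jx2, jx4⁆ = jz := by
  simp only [jz, jx, ja, jb, jg, jh, jx2, jx3, jx4, commutatorElement_def, mul_inv_rev, inv_inv,
    ← wordP_reverse, ← wordP_append]
  exact wordP_eq_of_chk (by decide +kernel)

theorem r_34 : ⁅jx3, jx4⁆ = jz := by
  simp only [jz, jx, ja, jb, jg, jh, jx2, jx3, jx4, commutatorElement_def, mul_inv_rev, inv_inv,
    ← wordP_reverse, ← wordP_append]
  exact wordP_eq_of_chk (by decide +kernel)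

theorem r_g1 : jg * jx * jg⁻¹ = jz * jx3 := by
  simp only [jz, jx, ja, jb, jg, jh, jx2, jx3, jx4, commutatorElement_def, mul_inv_rev, inv_inv,
    ← wordP_reverse, ← wordP_append]
  exact wordP_eq_of_chk (by decide +kernel)

theorem r_g2 : jg * jx2 * jg⁻¹ = jz * jx4 := by
  simp only [jz, jx, ja, jb, jg, jh, jx2, jx3, jx4, commutatorElement_def, mul_inv_rev, inv_inv,
    ← wordP_reverse, ← wordP_append]
  exact wordP_eq_of_chk (by decide +kernel)

theorem r_g3 : jg * jx3 * jg⁻¹ = jx2 := by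
  simp only [jz, jx, ja, jb, jg, jh, jx2, jx3, jx4, commutatorElement_def, mul_inv_rev, inv_inv,
    ← wordP_reverse, ← wordP_append]
  exact wordP_eq_of_chk (by decide +kernel)

theorem r_g4 : jg * jx4 * jg⁻¹ = jz * (jx * jx2 * jx3 * jx4) := by
  simp only [jz, jx, ja, jb, jg, jh, jx2, jx3, jx4, commutatorElement_def, mul_inv_rev, inv_inv,
    ← wordP_reverse, ← wordP_append]
  exact wordP_eq_of_chk (by decide +kernel)

theorem r_h : jh * jz * jh⁻¹ = jx := by
  simp only [jz, jx, ja, jb, jg, jh, jx2, jx3, jx4, commutatorElement_def, mul_inv_rev, inv_inv,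
    ← wordP_reverse, ← wordP_append]
  exact wordP_eq_of_chk (by decide +kernel)


/-! ### the action of `a`, `b` on the extraspecial group -/

theorem c_a1 : ja * jx * ja⁻¹ = jx2 := rfl

theorem c_a2 : ja * jx2 * ja⁻¹ = jx := by
  simp only [jz, jx, ja, jb, jg, jh, jx2, jx3, jx4, commutatorElement_def, mul_inv_rev, inv_inv,
    ← wordP_reverse, ← wordP_append]
  exact wordP_eq_of_chk (by decide +kernel)

theorem c_a3 : ja * jx3 * ja⁻¹ = jx4 := by
  simp only [jz, jx, ja, jb, jg, jh, jx2, jx3, jx4, commutatorElement_def, mul_inv_rev, inv_inv,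
    ← wordP_reverse, ← wordP_append]
  exact wordP_eq_of_chk (by decide +kernel)

theorem c_a4 : ja * jx4 * ja⁻¹ = jx3 := by
  simp only [jz, jx, ja, jb, jg, jh, jx2, jx3, jx4, commutatorElement_def, mul_inv_rev, inv_inv,
    ← wordP_reverse, ← wordP_append]
  exact wordP_eq_of_chk (by decide +kernel)

theorem c_az : ja * jz * ja⁻¹ = jz := by
  simp only [jz, jx, ja, jb, jg, jh, jx2, jx3, jx4, commutatorElement_def, mul_inv_rev, inv_inv,
    ← wordP_reverse, ← wordP_append]
  exact wordP_eq_of_chk (by decide +kernel)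

theorem c_b1 : jb * jx * jb⁻¹ = jx3 := rfl

theorem c_b2 : jb * jx2 * jb⁻¹ = jx4 := by
  simp only [jz, jx, ja, jb, jg, jh, jx2, jx3, jx4, commutatorElement_def, mul_inv_rev, inv_inv,
    ← wordP_reverse, ← wordP_append]
  exact wordP_eq_of_chk (by decide +kernel)

theorem c_b3 : jb * jx3 * jb⁻¹ = jx := by
  simp only [jz, jx, ja, jb, jg, jh, jx2, jx3, jx4, commutatorElement_def, mul_inv_rev, inv_inv,
    ← wordP_reverse, ← wordP_append]
  exact wordP_eq_of_chk (by decide +kernel)

theorem c_b4 : jb * jx4 * jb⁻¹ = jx2 := by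
  simp only [jz, jx, ja, jb, jg, jh, jx2, jx3, jx4, commutatorElement_def, mul_inv_rev, inv_inv,
    ← wordP_reverse, ← wordP_append]
  exact wordP_eq_of_chk (by decide +kernel)

theorem c_bz : jb * jz * jb⁻¹ = jz := by
  simp only [jz, jx, ja, jb, jg, jh, jx2, jx3, jx4, commutatorElement_def, mul_inv_rev, inv_inv,
    ← wordP_reverse, ← wordP_append]
  exact wordP_eq_of_chk (by decide +kernel)

theorem c_ba : jb * ja * jb⁻¹ = ja := by
  simp only [jz, jx, ja, jb, jg, jh, jx2, jx3, jx4, commutatorElement_def, mul_inv_rev, inv_inv,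
    ← wordP_reverse, ← wordP_append]
  exact wordP_eq_of_chk (by decide +kernel)

theorem r_zx2 : jz * jx2 = jx2 * jz := by
  simp only [jz, jx, ja, jb, jg, jh, jx2, jx3, jx4, commutatorElement_def, mul_inv_rev, inv_inv,
    ← wordP_reverse, ← wordP_append]
  exact wordP_eq_of_chk (by decide +kernel)

theorem r_zx3 : jz * jx3 = jx3 * jz := by
  simp only [jz, jx, ja, jb, jg, jh, jx2, jx3, jx4, commutatorElement_def, mul_inv_rev, inv_inv,
    ← wordP_reverse, ← wordP_append]
  exact wordP_eq_of_chk (by decide +kernel)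

theorem r_zx4 : jz * jx4 = jx4 * jz := by
  simp only [jz, jx, ja, jb, jg, jh, jx2, jx3, jx4, commutatorElement_def, mul_inv_rev, inv_inv,
    ← wordP_reverse, ← wordP_append]
  exact wordP_eq_of_chk (by decide +kernel)

theorem r_x22 : jx2 * jx2 = 1 := by
  rw [← wordP_nil]
  simp only [jz, jx, ja, jb, jg, jh, jx2, jx3, jx4, commutatorElement_def, mul_inv_rev, inv_inv,
    ← wordP_reverse, ← wordP_append]
  exact wordP_eq_of_chk (by decide +kernel)

theorem r_x32 : jx3 * jx3 = 1 := by
  rw [← wordP_nil]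
  simp only [jz, jx, ja, jb, jg, jh, jx2, jx3, jx4, commutatorElement_def, mul_inv_rev, inv_inv,
    ← wordP_reverse, ← wordP_append]
  exact wordP_eq_of_chk (by decide +kernel)

theorem r_x42 : jx4 * jx4 = 1 := by
  rw [← wordP_nil]
  simp only [jz, jx, ja, jb, jg, jh, jx2, jx3, jx4, commutatorElement_def, mul_inv_rev, inv_inv,
    ← wordP_reverse, ← wordP_append]
  exact wordP_eq_of_chk (by decide +kernel)

/-! ### factorisations into elements of odd order of the centralizer -/

theorem pow15_of_chk {w : List ℕ}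
    (h : chkEq (List.flatten (List.replicate 15 w)) [] = true) : wordP w ^ 15 = 1 := by
  rw [wordP_pow, ← wordP_nil]
  exact wordP_eq_of_chk h

theorem comm_z_of_chk {w : List ℕ} (h : chkEq (w ++ wz) (wz ++ w) = true) :
    Commute (wordP w) jz := by
  show wordP w * jz = jz * wordP w
  rw [jz, ← wordP_append, ← wordP_append]
  exact wordP_eq_of_chk h

theorem odd_x : ∃ u1 u2 : J2, jx = u1 * u2 ∧ Commute u1 jz ∧ Commute u2 jz ∧ u1 ^ 15 = 1 ∧
    u2 ^ 15 = 1 := by
  refine ⟨wordP [17, 18, 15, 16], wordP [17, 18, 10, 11], ?_, comm_z_of_chk (by decide +kernel),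
    comm_z_of_chk (by decide +kernel), pow15_of_chk (by decide +kernel),
    pow15_of_chk (by decide +kernel)⟩
  rw [jx, ← wordP_append]
  exact wordP_eq_of_chk (by decide +kernel)

theorem odd_a : ∃ u1 u2 : J2, ja = u1 * u2 ∧ Commute u1 jz ∧ Commute u2 jz ∧ u1 ^ 15 = 1 ∧
    u2 ^ 15 = 1 := by
  refine ⟨wordP [10, 11, 15, 16], wordP [15, 16, 11, 12, 9], ?_, comm_z_of_chk (by decide +kernel),
    comm_z_of_chk (by decide +kernel), pow15_of_chk (by decide +kernel),
    pow15_of_chk (by decide +kernel)⟩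
  rw [ja, ← wordP_append]
  exact wordP_eq_of_chk (by decide +kernel)

theorem odd_b : ∃ u1 u2 : J2, jb = u1 * u2 ∧ Commute u1 jz ∧ Commute u2 jz ∧ u1 ^ 15 = 1 ∧
    u2 ^ 15 = 1 := by
  refine ⟨wordP [12, 10, 15, 16], wordP [15, 16, 10, 11, 8], ?_, comm_z_of_chk (by decide +kernel),
    comm_z_of_chk (by decide +kernel), pow15_of_chk (by decide +kernel),
    pow15_of_chk (by decide +kernel)⟩
  rw [jb, ← wordP_append]
  exact wordP_eq_of_chk (by decide +kernel)

theorem odd_g : jg ^ 15 = 1 := pow15_of_chk (by decide +kernel)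

/-! ### elements for the odd primes -/

noncomputable def j7 : J2 := wordP [10, 13, 14]
noncomputable def j5x : J2 := wordP [10, 13, 16, 15, 10, 13, 16, 15, 10, 13, 16, 15]
noncomputable def j5y : J2 := wordP [10, 13, 16, 15, 21, 5, 0]
noncomputable def j5t : J2 := wordP [0, 20, 12, 1, 19, 17, 6]
noncomputable def j3x : J2 := wordP [10, 21, 9, 17]
noncomputable def j3h : J2 := wordP [13, 15, 13, 9]
noncomputable def j3y : J2 := j3h * j3x * j3h⁻¹

theorem o7_pow : j7 ^ 7 = 1 := by
  rw [← wordP_nil]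
  simp only [j7, j5x, j5y, j5t, j3x, j3y, j3h, commutatorElement_def, mul_inv_rev, inv_inv,
    ← wordP_reverse, ← wordP_append, wordP_pow]
  exact wordP_eq_of_chk (by decide +kernel)

theorem o5_xp : j5x ^ 5 = 1 := by
  rw [← wordP_nil]
  simp only [j7, j5x, j5y, j5t, j3x, j3y, j3h, commutatorElement_def, mul_inv_rev, inv_inv,
    ← wordP_reverse, ← wordP_append, wordP_pow]
  exact wordP_eq_of_chk (by decide +kernel)

theorem o5_yp : j5y ^ 5 = 1 := by
  rw [← wordP_nil]
  simp only [j7, j5x, j5y, j5t, j3x, j3y, j3h, commutatorElement_def, mul_inv_rev, inv_inv,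
    ← wordP_reverse, ← wordP_append, wordP_pow]
  exact wordP_eq_of_chk (by decide +kernel)

theorem o3_xp : j3x ^ 3 = 1 := by
  rw [← wordP_nil]
  simp only [j7, j5x, j5y, j5t, j3x, j3y, j3h, commutatorElement_def, mul_inv_rev, inv_inv,
    ← wordP_reverse, ← wordP_append, wordP_pow]
  exact wordP_eq_of_chk (by decide +kernel)

theorem o3_yp : j3y ^ 3 = 1 := by
  rw [← wordP_nil]
  simp only [j7, j5x, j5y, j5t, j3x, j3y, j3h, commutatorElement_def, mul_inv_rev, inv_inv,
    ← wordP_reverse, ← wordP_append, wordP_pow]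
  exact wordP_eq_of_chk (by decide +kernel)

theorem o3_zp : ⁅j3x, j3y⁆ ^ 3 = 1 := by
  rw [← wordP_nil]
  simp only [j7, j5x, j5y, j5t, j3x, j3y, j3h, commutatorElement_def, mul_inv_rev, inv_inv,
    ← wordP_reverse, ← wordP_append, wordP_pow]
  exact wordP_eq_of_chk (by decide +kernel)

theorem o7_ne : j7 ≠ 1 := by
  rw [← wordP_nil]
  simp only [j7, j5x, j5y, j5t, j3x, j3y, j3h, commutatorElement_def, mul_inv_rev, inv_inv,
    ← wordP_reverse, ← wordP_append, wordP_pow]
  exact wordP_ne_of_chk 0 (by decide +kernel)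

theorem o5_x1 : j5x ≠ 1 := by
  rw [← wordP_nil]
  simp only [j7, j5x, j5y, j5t, j3x, j3y, j3h, commutatorElement_def, mul_inv_rev, inv_inv,
    ← wordP_reverse, ← wordP_append, wordP_pow]
  exact wordP_ne_of_chk 0 (by decide +kernel)

theorem o5_y1 : j5y ≠ 1 := by
  rw [← wordP_nil]
  simp only [j7, j5x, j5y, j5t, j3x, j3y, j3h, commutatorElement_def, mul_inv_rev, inv_inv,
    ← wordP_reverse, ← wordP_append, wordP_pow]
  exact wordP_ne_of_chk 0 (by decide +kernel)

theorem o3_z1 : ⁅j3x, j3y⁆ ≠ 1 := by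
  rw [← wordP_nil]
  simp only [j7, j5x, j5y, j5t, j3x, j3y, j3h, commutatorElement_def, mul_inv_rev, inv_inv,
    ← wordP_reverse, ← wordP_append, wordP_pow]
  exact wordP_ne_of_chk 0 (by decide +kernel)

theorem o5_xy : j5x * j5y = j5y * j5x := by
  simp only [j7, j5x, j5y, j5t, j3x, j3y, j3h, commutatorElement_def, mul_inv_rev, inv_inv,
    ← wordP_reverse, ← wordP_append, wordP_pow]
  exact wordP_eq_of_chk (by decide +kernel)

theorem o5_tx : j5t * j5x = j5x * j5t := by
  simp only [j7, j5x, j5y, j5t, j3x, j3y, j3h, commutatorElement_def, mul_inv_rev, inv_inv,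
    ← wordP_reverse, ← wordP_append, wordP_pow]
  exact wordP_eq_of_chk (by decide +kernel)

theorem o5_ty : j5t * j5y * j5t⁻¹ = j5y⁻¹ := by
  simp only [j7, j5x, j5y, j5t, j3x, j3y, j3h, commutatorElement_def, mul_inv_rev, inv_inv,
    ← wordP_reverse, ← wordP_append, wordP_pow]
  exact wordP_eq_of_chk (by decide +kernel)

theorem o3_zx : ⁅j3x, j3y⁆ * j3x = j3x * ⁅j3x, j3y⁆ := by
  simp only [j7, j5x, j5y, j5t, j3x, j3y, j3h, commutatorElement_def, mul_inv_rev, inv_inv,
    ← wordP_reverse, ← wordP_append, wordP_pow]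
  exact wordP_eq_of_chk (by decide +kernel)

theorem o3_zy : ⁅j3x, j3y⁆ * j3y = j3y * ⁅j3x, j3y⁆ := by
  simp only [j7, j5x, j5y, j5t, j3x, j3y, j3h, commutatorElement_def, mul_inv_rev, inv_inv,
    ← wordP_reverse, ← wordP_append, wordP_pow]
  exact wordP_eq_of_chk (by decide +kernel)

theorem o3_hx : j3h * j3x * j3h⁻¹ = j3y * ⁅j3x, j3y⁆ ^ 0 := by
  simp only [j7, j5x, j5y, j5t, j3x, j3y, j3h, commutatorElement_def, mul_inv_rev, inv_inv,
    ← wordP_reverse, ← wordP_append, wordP_pow]
  exact wordP_eq_of_chk (by decide +kernel)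

theorem o3_hy : j3h * j3y * j3h⁻¹ = j3x⁻¹ * ⁅j3x, j3y⁆ ^ 0 := by
  simp only [j7, j5x, j5y, j5t, j3x, j3y, j3h, commutatorElement_def, mul_inv_rev, inv_inv,
    ← wordP_reverse, ← wordP_append, wordP_pow]
  exact wordP_eq_of_chk (by decide +kernel)

theorem o3_hz : j3h * ⁅j3x, j3y⁆ * j3h⁻¹ = ⁅j3x, j3y⁆ := by
  simp only [j7, j5x, j5y, j5t, j3x, j3y, j3h, commutatorElement_def, mul_inv_rev, inv_inv,
    ← wordP_reverse, ← wordP_append, wordP_pow]
  exact wordP_eq_of_chk (by decide +kernel)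

end Cfsg.Agent.Lib.Helper26_Ico
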