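import Mathlib
import Cfsg.Prelude.Def_KGroupFacts
import Cfsg.Agent.Lib.Helper66_Stem
import Cfsg.Agent.Lib.Helper66_StemTools
import Cfsg.Agent.Lib.Lead_StemLocal
import Cfsg.Agent.Lib.Helper56_StemP

/-!
# Transfer into a Heisenberg `p`-subgroup normalised by a fixed point free element
(helper89, package S2040-H for helper26: the 3-part of the Schur multiplier of J2)

No hypothesis on the exponent of the kernel is needed: an element `h` with
`h x h⁻¹ = y z^e`, `h y h⁻¹ = x⁻¹ z^f`, `h z h⁻¹ = z` forces the lift of `z = ⁅x, y⁆` to be central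
in the preimage of `⟨x, y⟩`, hence of order `p`, and the kernel meets the commutator subgroup of
that preimage trivially.
-/

set_option autoImplicit false
open Cfsg
open scoped commutatorElement

namespace Cfsg.Agent.Lib.Helper89_J2M_H

open Cfsg.Agent.Lib.Helper66_Stem Cfsg.Agent.Lib.Helper66_StemTools
open Cfsg.Agent.Lib.Lead_StemLocal Cfsg.Agent.Lib.Helper56_StemP

section basics

variable {Γ : Type*} [Group Γ]

/-- if `⁅u, v⁆` commutes with `u`, then `⁅u ^ n, v⁆ = ⁅u, v⁆ ^ n` -/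
theorem commutatorElement_pow_left_of_commute (u v : Γ) (h : Commute ⁅u, v⁆ u) (n : ℕ) :
    ⁅u ^ n, v⁆ = ⁅u, v⁆ ^ n := by
  induction n with
  | zero => rw [pow_zero, pow_zero, commutatorElement_one_left]
  | succ n ih =>
    have e : ⁅u ^ (n + 1), v⁆ = u ^ n * ⁅u, v⁆ * (u ^ n)⁻¹ * ⁅u ^ n, v⁆ := by
      simp only [commutatorElement_def, pow_succ]; group
    have e2 : u ^ n * ⁅u, v⁆ * (u ^ n)⁻¹ = ⁅u, v⁆ := by
      rw [← (h.pow_right n).eq]; group
    rw [e, e2, ih, pow_succ']

/-- if the generators in `T` all commute with `c` and commute pairwise modulo `⟨c⟩`, then the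
commutator subgroup of the group they generate lies in `⟨c⟩` -/
theorem commutator_closure_le_zpowers (c : Γ) (T : Set Γ)
    (hc : ∀ t ∈ T, Commute t c) (hT : ∀ a ∈ T, ∀ b ∈ T, ⁅a, b⁆ ∈ Subgroup.zpowers c) :
    ⁅Subgroup.closure T, Subgroup.closure T⁆ ≤ Subgroup.zpowers c := by
  set N := Subgroup.zpowers c with hN
  have hcen : ∀ u ∈ Subgroup.closure T, ∀ n ∈ N, u * n * u⁻¹ = n := by
    intro u hu n hn
    have hle : Subgroup.closure T ≤ Subgroup.centralizer ({c} : Set Γ) := by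
      rw [Subgroup.closure_le]
      intro t ht
      rw [SetLike.mem_coe, Subgroup.mem_centralizer_iff]
      intro g hg
      rw [Set.mem_singleton_iff] at hg
      subst hg
      exact (hc t ht).eq.symm
    have h1 : Commute u c := (Subgroup.mem_centralizer_iff.mp (hle hu) c rfl).symm
    obtain ⟨i, rfl⟩ := Subgroup.mem_zpowers_iff.mp hn
    rw [(h1.zpow_right i).eq]; group
  have hcomm : ∀ a ∈ T, ∀ b ∈ Subgroup.closure T, ⁅a, b⁆ ∈ N := by
    intro a ha b hb
    induction hb using Subgroup.closure_induction with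
    | mem x hx => exact hT a ha x hx
    | one => rw [commutatorElement_one_right]; exact N.one_mem
    | mul x y hx hy ihx ihy =>
      have e : ⁅a, x * y⁆ = ⁅a, x⁆ * (x * ⁅a, y⁆ * x⁻¹) := by
        simp only [commutatorElement_def]; group
      rw [e, hcen x hx _ ihy]
      exact N.mul_mem ihx ihy
    | inv x hx ihx =>
      have e : ⁅a, x⁻¹⁆ = x⁻¹ * ⁅a, x⁆⁻¹ * x⁻¹⁻¹ := by
        simp only [commutatorElement_def]; group
      rw [e, hcen x⁻¹ (Subgroup.inv_mem _ hx) _ (N.inv_mem ihx)]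
      exact N.inv_mem ihx
  rw [Subgroup.commutator_le]
  intro a ha b hb
  induction ha using Subgroup.closure_induction generalizing b with
  | mem x hx => exact hcomm x hx b hb
  | one => rw [commutatorElement_one_left]; exact N.one_mem
  | mul x y hx hy ihx ihy =>
    have e : ⁅x * y, b⁆ = x * ⁅y, b⁆ * x⁻¹ * ⁅x, b⁆ := by
      simp only [commutatorElement_def]; group
    rw [e, hcen x hx _ (ihy b hb)]
    exact N.mul_mem (ihy b hb) (ihx b hb)
  | inv x hx ihx =>
    have e : ⁅x⁻¹, b⁆ = x⁻¹ * ⁅x, b⁆⁻¹ * x⁻¹⁻¹ := by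
      simp only [commutatorElement_def]; group
    rw [e, hcen x⁻¹ (Subgroup.inv_mem _ hx) _ (N.inv_mem (ihx b hb))]
    exact N.inv_mem (ihx b hb)

end basics

/-- **Transfer into `p^{1+2}` normalised by a fixed point free element.**  Let `σ` be a stem
extension of the finite group `G`, `p` an odd prime, `x, y` elements of order dividing `p` whose
commutator `z` is non-trivial of order `p` and commutes with both, and `h` an element with
`h x h⁻¹ = y z^e`, `h y h⁻¹ = x⁻¹ z^f`, `h z h⁻¹ = z`.  Then the kernel is killed by the index of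
`⟨x, y⟩`. -/
theorem heis_fpf {Γ G : Type*} [Group Γ] [Group G] [Finite Γ] [Finite G] (σ : Γ →* G)
    (hσ : IsStemExtension σ) (p : ℕ) [hp : Fact p.Prime] (hodd : Odd p) (x y h : G) (e f : ℕ)
    (hxp : x ^ p = 1) (hyp : y ^ p = 1) (hzp : ⁅x, y⁆ ^ p = 1) (hz1 : ⁅x, y⁆ ≠ 1)
    (hzx : ⁅x, y⁆ * x = x * ⁅x, y⁆) (hzy : ⁅x, y⁆ * y = y * ⁅x, y⁆)
    (hhx : h * x * h⁻¹ = y * ⁅x, y⁆ ^ e) (hhy : h * y * h⁻¹ = x⁻¹ * ⁅x, y⁆ ^ f)
    (hhz : h * ⁅x, y⁆ * h⁻¹ = ⁅x, y⁆)
    (a : Γ) (ha : a ∈ σ.ker) :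
    a ^ (Subgroup.closure ({x, y} : Set G)).index = 1 := by
  have hsurj := hσ.1
  have hker := hσ.2.1
  obtain ⟨x', hx'⟩ := hsurj x
  obtain ⟨y', hy'⟩ := hsurj y
  obtain ⟨h', hh'⟩ := hsurj h
  obtain ⟨z', hz'def⟩ : ∃ z', z' = ⁅x', y'⁆ := ⟨_, rfl⟩
  have hz' : σ z' = ⁅x, y⁆ := by rw [hz'def, map_commutatorElement, hx', hy']
  have hαk : ⁅z', x'⁆ ∈ σ.ker := by
    rw [MonoidHom.mem_ker, map_commutatorElement, hz', hx', commutatorElement_eq_one_iff_mul_comm]
    exact hzx
  have hβk : ⁅z', y'⁆ ∈ σ.ker := by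
    rw [MonoidHom.mem_ker, map_commutatorElement, hz', hy', commutatorElement_eq_one_iff_mul_comm]
    exact hzy
  have hαc := hker hαk
  have hβc := hker hβk
  have conj_comm : ∀ u v : Γ, h' * ⁅u, v⁆ * h'⁻¹ = ⁅h' * u * h'⁻¹, h' * v * h'⁻¹⁆ := by
    intro u v; simp only [commutatorElement_def]; group
  have hzz : ∀ n : ℕ, ⁅z', z' ^ n⁆ = 1 := by
    intro n
    rw [commutatorElement_eq_one_iff_mul_comm]
    exact ((Commute.refl z').pow_right n).eq
  have hxpk : x' ^ p ∈ Subgroup.center Γ := by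
    apply hker
    rw [MonoidHom.mem_ker, map_pow, hx', hxp]
  -- `⁅z', x'⁆ = ⁅z', y'⁆`
  have h1 : ⁅z', x'⁆ = ⁅z', y'⁆ := by
    have e1 : h' * ⁅z', x'⁆ * h'⁻¹ = ⁅z', x'⁆ := by
      rw [(Subgroup.mem_center_iff.mp hαc h')]; group
    rw [← e1, conj_comm]
    have e3 : ⁅h' * z' * h'⁻¹, h' * x' * h'⁻¹⁆ = ⁅z', y' * z' ^ e⁆ := by
      apply commutatorElement_congr_of_central σ hker
      · rw [map_mul, map_mul, map_inv, hh', hz', hhz]
      · rw [map_mul, map_mul, map_inv, map_mul, map_pow, hh', hx', hy', hz', hhx]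
    rw [e3, commutatorElement_mul_right_of_central z' y' (z' ^ e)
      (by rw [hzz]; exact Subgroup.one_mem _), hzz, mul_one]
  -- `⁅z', y'⁆ = ⁅z', x'⁆⁻¹`
  have h2 : ⁅z', y'⁆ = ⁅z', x'⁆⁻¹ := by
    have e1 : h' * ⁅z', y'⁆ * h'⁻¹ = ⁅z', y'⁆ := by
      rw [(Subgroup.mem_center_iff.mp hβc h')]; group
    rw [← e1, conj_comm]
    have e3 : ⁅h' * z' * h'⁻¹, h' * y' * h'⁻¹⁆ = ⁅z', x'⁻¹ * z' ^ f⁆ := by
      apply commutatorElement_congr_of_central σ hker
      · rw [map_mul, map_mul, map_inv, hh', hz', hhz]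
      · rw [map_mul, map_mul, map_inv, map_mul, map_pow, map_inv, hh', hx', hy', hz', hhy]
    rw [e3, commutatorElement_mul_right_of_central z' x'⁻¹ (z' ^ f)
      (by rw [hzz]; exact Subgroup.one_mem _), hzz, mul_one]
    have e4 := commutatorElement_mul_right_of_central z' x'⁻¹ x' hαc
    rw [inv_mul_cancel, commutatorElement_one_right] at e4
    exact eq_inv_of_mul_eq_one_left e4.symm
  have hα1 : ⁅z', x'⁆ = 1 := by
    have h3 : ⁅z', x'⁆ ^ p = 1 := by
      rw [← commutatorElement_pow_right_of_central z' x' hαc p,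
        commutatorElement_eq_one_iff_mul_comm]
      exact (Subgroup.mem_center_iff.mp hxpk z')
    have h4 : ⁅z', x'⁆ ^ 2 = 1 := by
      rw [pow_two]
      nth_rewrite 1 [h1]
      rw [h2, inv_mul_cancel]
    exact eq_one_of_pow_coprime h4 h3 (Nat.coprime_two_left.mpr hodd)
  have hβ1 : ⁅z', y'⁆ = 1 := by rw [← h1, hα1]
  have hcx : Commute z' x' := commutatorElement_eq_one_iff_mul_comm.mp hα1
  have hcy : Commute z' y' := commutatorElement_eq_one_iff_mul_comm.mp hβ1
  -- the lift of `z` has order `p`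
  have hz'p : z' ^ p = 1 := by
    have h3 := commutatorElement_pow_left_of_commute x' y' (by rw [← hz'def]; exact hcx) p
    rw [← hz'def] at h3
    rw [← h3, commutatorElement_eq_one_iff_mul_comm]
    exact (Subgroup.mem_center_iff.mp hxpk y').symm
  -- the preimage of `⟨x, y⟩`
  have hS : Subgroup.closure ({x, y} : Set G) = Subgroup.closure (σ '' ({x', y'} : Set Γ)) := by
    rw [Set.image_pair, hx', hy']
  have hP : (Subgroup.closure ({x, y} : Set G)).comap σ =
      Subgroup.closure (({x', y'} : Set Γ) ∪ (σ.ker : Set Γ)) := by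
    rw [hS, comap_closure_image]
  have hcomm : ⁅(Subgroup.closure ({x, y} : Set G)).comap σ,
      (Subgroup.closure ({x, y} : Set G)).comap σ⁆ ≤ Subgroup.zpowers z' := by
    rw [hP]
    apply commutator_closure_le_zpowers
    · rintro t (ht | ht)
      · rcases ht with rfl | ht
        · exact hcx.symm
        · rw [Set.mem_singleton_iff] at ht; subst ht; exact hcy.symm
      · exact (Subgroup.mem_center_iff.mp (hker ht) z').symm
    · have hcen : ∀ k ∈ (σ.ker : Set Γ), ∀ b : Γ, ⁅k, b⁆ = 1 ∧ ⁅b, k⁆ = 1 := by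
        intro k hk b
        have := Subgroup.mem_center_iff.mp (hker hk) b
        constructor
        · rw [commutatorElement_eq_one_iff_mul_comm]; exact this.symm
        · rw [commutatorElement_eq_one_iff_mul_comm]; exact this
      rintro a (ha | ha) b (hb | hb)
      · rcases ha with rfl | ha <;> rcases hb with rfl | hb
        · rw [commutatorElement_self]; exact Subgroup.one_mem _
        · rw [Set.mem_singleton_iff] at hb; subst hb
          rw [← hz'def]; exact Subgroup.mem_zpowers _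
        · rw [Set.mem_singleton_iff] at ha; subst ha
          rw [← commutatorElement_inv, ← hz'def]
          exact Subgroup.inv_mem _ (Subgroup.mem_zpowers _)
        · rw [Set.mem_singleton_iff] at ha hb; subst ha; subst hb
          rw [commutatorElement_self]; exact Subgroup.one_mem _
      · rw [(hcen b hb a).2]; exact Subgroup.one_mem _
      · rw [(hcen a ha b).1]; exact Subgroup.one_mem _
      · rw [(hcen a ha b).1]; exact Subgroup.one_mem _
  apply pow_index_eq_one_of_inf σ hσ _ Subgroup.index_ne_zero_of_finite _ a ha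
  rw [eq_bot_iff]
  rintro w ⟨hwk, hwc⟩
  rw [Subgroup.mem_bot]
  have h3 : (w : Γ) ∈ ⁅(Subgroup.closure ({x, y} : Set G)).comap σ,
      (Subgroup.closure ({x, y} : Set G)).comap σ⁆ := by
    rw [← Subgroup.map_subtype_commutator]
    exact ⟨w, hwc, rfl⟩
  obtain ⟨j, hj⟩ := Subgroup.mem_zpowers_iff.mp (hcomm h3)
  have h4 : σ (w : Γ) = 1 := by
    have := MonoidHom.mem_ker.mp hwk
    exact congrArg Subtype.val this
  have h5 : ⁅x, y⁆ ^ j = 1 := by rw [← hz', ← map_zpow, hj]; exact h4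
  have hord : orderOf ⁅x, y⁆ = p := orderOf_eq_prime hzp hz1
  obtain ⟨i, hi⟩ : (p : ℤ) ∣ j := by
    rw [← hord]; exact orderOf_dvd_iff_zpow_eq_one.mpr h5
  apply Subtype.ext
  show (w : Γ) = 1
  rw [← hj, hi, zpow_mul, zpow_natCast, hz'p, one_zpow]

end Cfsg.Agent.Lib.Helper89_J2M_H
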