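import Cfsg.Agent.Lib.Helper26_J2MData
import Cfsg.Agent.Lib.Helper89_J2M_H
import Cfsg.Agent.Lib.Helper8_StemTwo
import Cfsg.Agent.Lib.Helper56_StemP

/-!
# The odd part of the Schur multiplier of `J₂` is trivial (helper26)
-/

set_option autoImplicit false

namespace Cfsg.Agent.Lib.Helper26_Ico

open Cfsg Cfsg.Spor
open scoped commutatorElement

open Cfsg.Agent.Lib.Helper89_J2M_H (heis_fpf) in
theorem odd_part {Γ : Type*} [Group Γ] [Finite Γ] (σ : Γ →* J2) (hσ : IsStemExtension σ) (a : Γ)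
    (ha : a ∈ σ.ker) : a ^ (2 ^ 7) = 1 := by
  have hfin := finite_J2
  have : Fact (Nat.Prime 3) := ⟨by norm_num⟩
  have : Fact (Nat.Prime 5) := ⟨by norm_num⟩
  have : Fact (Nat.Prime 7) := ⟨by norm_num⟩
  have h7 := Helper8_StemTwo.pow_eq_one_of_prime σ hσ 7 j7 o7_pow o7_ne a ha
  have h5 := Helper56_StemP.pow_eq_one_of_prime_sq σ hσ 5 (by decide) j5x j5y j5t o5_xp o5_x1
    o5_yp o5_y1 o5_xy o5_tx o5_ty a ha
  have h3 := heis_fpf σ hσ 3 (by decide) j3x j3y j3h 0 0 o3_xp o3_yp o3_zp o3_z1 o3_zx o3_zy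
    o3_hx o3_hy o3_hz a ha
  have hc3 := Helper56_StemP.card_closure_heis_p 3 j3x j3y o3_xp o3_yp o3_zp o3_z1 o3_zx o3_zy
  have hidx := Subgroup.card_mul_index (Subgroup.closure ({j3x, j3y} : Set J2))
  rw [hc3, card_J2] at hidx
  have e3 : (Subgroup.closure ({j3x, j3y} : Set J2)).index = 22400 := by omega
  rw [e3] at h3
  rw [card_J2] at h5 h7
  have d3 := orderOf_dvd_of_pow_eq_one h3
  have d5 := orderOf_dvd_of_pow_eq_one h5
  have d7 := orderOf_dvd_of_pow_eq_one h7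
  have d := Nat.dvd_gcd (Nat.dvd_gcd d3 d5) d7
  norm_num at d
  exact orderOf_dvd_iff_pow_eq_one.mp (by norm_num; exact d)

end Cfsg.Agent.Lib.Helper26_Ico
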