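import Cfsg.Agent.Lib.Helper26_J2MData
import Cfsg.Agent.Lib.Helper34_J2M_X1
import Cfsg.Agent.Lib.Helper34_J2M_X2

/-!
# A Sylow `2`-subgroup of `J₂` (helper26)

`T = ⟨b, a, x₄, x₃, x₂, x₁, z⟩` has order `128`.
-/

set_option autoImplicit false

namespace Cfsg.Agent.Lib.Helper26_Ico

open Cfsg.Spor
open scoped commutatorElement

/-- the subgroup `Q = 2^{1+4}_-` -/
noncomputable def subQ : Subgroup J2 := Subgroup.closure ({jx4, jx3, jx2, jx, jz} : Set J2)

/-- the Sylow `2`-subgroup `T` -/
noncomputable def subT : Subgroup J2 :=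
  Subgroup.closure ({jb, ja, jx4, jx3, jx2, jx, jz} : Set J2)

/-! ### `128` distinct elements -/

def bitW (n i : ℕ) (w : List ℕ) : List ℕ := if n.testBit i then w else []

def wx2 : List ℕ := wa ++ wx ++ wa.reverse
def wx3 : List ℕ := wb ++ wx ++ wb.reverse
def wx4 : List ℕ := (wa ++ wb) ++ wx ++ (wa ++ wb).reverse

theorem wordP_wx2 : wordP wx2 = jx2 := by
  rw [wx2, wordP_append, wordP_append, wordP_reverse]; rfl

theorem wordP_wx3 : wordP wx3 = jx3 := by
  rw [wx3, wordP_append, wordP_append, wordP_reverse]; rfl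

theorem wordP_wx4 : wordP wx4 = jx4 := by
  rw [wx4, wordP_append, wordP_append, wordP_reverse, wordP_append]; rfl

def tw (n : ℕ) : List ℕ :=
  bitW n 0 wb ++ (bitW n 1 wa ++ (bitW n 2 wx4 ++ (bitW n 3 wx3 ++ (bitW n 4 wx2 ++
    (bitW n 5 wx ++ bitW n 6 wz)))))

theorem bitW_mem (n i : ℕ) {w : List ℕ} (h : wordP w ∈ subT) : wordP (bitW n i w) ∈ subT := by
  unfold bitW
  split_ifs
  · exact h
  · rw [wordP_nil]; exact Subgroup.one_mem _

theorem gen_mem {y : J2} (h : y ∈ ({jb, ja, jx4, jx3, jx2, jx, jz} : Set J2)) : y ∈ subT :=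
  Subgroup.subset_closure h

theorem tw_mem (n : ℕ) : wordP (tw n) ∈ subT := by
  unfold tw
  rw [wordP_append, wordP_append, wordP_append, wordP_append, wordP_append, wordP_append]
  refine Subgroup.mul_mem _ (bitW_mem n 0 (gen_mem (by simp [jb]))) (Subgroup.mul_mem _
    (bitW_mem n 1 (gen_mem (by simp [ja]))) (Subgroup.mul_mem _
    (bitW_mem n 2 (gen_mem (by rw [wordP_wx4]; simp))) (Subgroup.mul_mem _
    (bitW_mem n 3 (gen_mem (by rw [wordP_wx3]; simp))) (Subgroup.mul_mem _
    (bitW_mem n 4 (gen_mem (by rw [wordP_wx2]; simp))) (Subgroup.mul_mem _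
    (bitW_mem n 5 (gen_mem (by simp [jx]))) (bitW_mem n 6 (gen_mem (by simp [jz]))))))))

def fpT (n : ℕ) : ℕ × ℕ × ℕ := (runP (tw n) 0, runP (tw n) 27, runP (tw n) 11)

theorem fpT_nodup : ((List.range 128).map fpT).Nodup := by decide +kernel

theorem tw_okW : ∀ n ∈ List.range 128, okW (tw n) = true := by decide +kernel

theorem tw_inj {m n : ℕ} (hm : m < 128) (hn : n < 128) (h : wordP (tw m) = wordP (tw n)) :
    m = n := by
  have om := tw_okW m (List.mem_range.2 hm)
  have on := tw_okW n (List.mem_range.2 hn)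
  have e : fpT m = fpT n := by
    unfold fpT
    rw [← actN_wordP om (by norm_num : 0 < 315), ← actN_wordP om (by norm_num : 27 < 315),
      ← actN_wordP om (by norm_num : 11 < 315), ← actN_wordP on (by norm_num : 0 < 315),
      ← actN_wordP on (by norm_num : 27 < 315), ← actN_wordP on (by norm_num : 11 < 315), h]
  exact List.inj_on_of_nodup_map fpT_nodup (List.mem_range.2 hm) (List.mem_range.2 hn) e

theorem card_subT_ge : 128 ≤ Nat.card ↥subT := by
  have := finite_J2
  have hinj : Function.Injective (fun n : Fin 128 => (⟨wordP (tw n.1), tw_mem n.1⟩ : ↥subT)) := by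
    intro m n h
    exact Fin.ext (tw_inj m.2 n.2 (congrArg Subtype.val h))
  have := Nat.card_le_card_of_injective _ hinj
  rwa [Nat.card_fin] at this

/-! ### the upper bound -/

open Cfsg.Agent.Lib.Helper34_J2M_X2 in
theorem card_subQ_le : Nat.card ↥subQ ≤ 32 := by
  have := finite_J2
  exact card_extra_le jz jx jx2 jx3 jx4 r_z2 r_x2 r_x22 r_x32 r_x42 r_zx r_zx2 r_zx3 r_zx4
    r_12 r_13 r_14 r_23 r_24 r_34

theorem mem_subQ {y : J2} (h : y ∈ ({jx4, jx3, jx2, jx, jz} : Set J2)) : y ∈ subQ :=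
  Subgroup.subset_closure h

open Cfsg.Agent.Lib.Helper34_J2M_X1 (card_closure_insert_le) in
theorem card_subT_le : Nat.card ↥subT ≤ 4 * Nat.card ↥subQ := by
  have := finite_J2
  have h1 := card_closure_insert_le ({jx4, jx3, jx2, jx, jz} : Set J2) ja
    (by rw [r_a2]; exact Subgroup.one_mem _)
    (by
      intro y hy
      simp only [Set.mem_insert_iff, Set.mem_singleton_iff] at hy
      rcases hy with rfl | rfl | rfl | rfl | rfl
      · rw [c_a4]; exact mem_subQ (by simp)
      · rw [c_a3]; exact mem_subQ (by simp)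
      · rw [c_a2]; exact mem_subQ (by simp)
      · rw [c_a1]; exact mem_subQ (by simp)
      · rw [c_az]; exact mem_subQ (by simp))
  have h2 := card_closure_insert_le ({ja, jx4, jx3, jx2, jx, jz} : Set J2) jb
    (by rw [r_b2]; exact Subgroup.one_mem _)
    (by
      intro y hy
      have mem : ∀ y ∈ ({ja, jx4, jx3, jx2, jx, jz} : Set J2),
          y ∈ Subgroup.closure ({ja, jx4, jx3, jx2, jx, jz} : Set J2) :=
        fun y hy => Subgroup.subset_closure hy
      simp only [Set.mem_insert_iff, Set.mem_singleton_iff] at hy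
      rcases hy with rfl | rfl | rfl | rfl | rfl | rfl
      · rw [c_ba]; exact mem _ (by simp)
      · rw [c_b4]; exact mem _ (by simp)
      · rw [c_b3]; exact mem _ (by simp)
      · rw [c_b2]; exact mem _ (by simp)
      · rw [c_b1]; exact mem _ (by simp)
      · rw [c_bz]; exact mem _ (by simp))
  have h3 : Nat.card ↥subT ≤
      2 * Nat.card ↥(Subgroup.closure ({ja, jx4, jx3, jx2, jx, jz} : Set J2)) := h2
  have h4 : Nat.card ↥(Subgroup.closure ({ja, jx4, jx3, jx2, jx, jz} : Set J2)) ≤
      2 * Nat.card ↥subQ := h1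
  omega

theorem card_subT : Nat.card ↥subT = 128 := by
  have h1 := card_subT_ge
  have h2 := card_subT_le
  have h3 := card_subQ_le
  omega

theorem card_subQ_ge : 32 ≤ Nat.card ↥subQ := by
  have h1 := card_subT_ge
  have h2 := card_subT_le
  omega

theorem odd_index_subT : Odd subT.index := by
  have h := Subgroup.card_mul_index subT
  rw [card_subT, card_J2] at h
  have : subT.index = 4725 := by omega
  rw [this]
  decide

end Cfsg.Agent.Lib.Helper26_Ico
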