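import Mathlib

/-!
# Units of a monoid permuting finitely many elements by conjugation (helper90)

`Acts N g σ`: `g * N k = N (σ k) * g` for all `k`; for an injective family `N` a subgroup all of
whose elements act gets a homomorphism `actHom` to the symmetric group.  (Generic version of the
construction in `Helper90_J1Cent`.)
-/

set_option autoImplicit false

namespace Cfsg.Agent.Lib.Helper90_ActPerm

variable {M : Type*} [Monoid M] {n : ℕ} (N : Fin n → M)

/-- `g` permutes the elements `N k` by conjugation, through `σ`. -/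
def Acts (g : Mˣ) (σ : Equiv.Perm (Fin n)) : Prop :=
  ∀ k, (g : M) * N k = N (σ k) * (g : M)

theorem Acts.one : Acts N 1 1 := fun k => by simp

theorem Acts.mul {g h : Mˣ} {σ τ : Equiv.Perm (Fin n)} (hg : Acts N g σ)
    (hh : Acts N h τ) : Acts N (g * h) (σ * τ) := by
  intro k
  rw [Units.val_mul, mul_assoc, hh k, ← mul_assoc, hg (τ k), mul_assoc]
  rfl

theorem Acts.inv {g : Mˣ} {σ : Equiv.Perm (Fin n)} (hg : Acts N g σ) :
    Acts N g⁻¹ σ⁻¹ := by
  intro k
  have h := hg (σ⁻¹ k)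
  rw [← Equiv.Perm.mul_apply, mul_inv_cancel, Equiv.Perm.one_apply] at h
  have h2 : ((g⁻¹ : Mˣ) : M) * (g : M) = 1 := by
    rw [← Units.val_mul, inv_mul_cancel, Units.val_one]
  calc ((g⁻¹ : Mˣ) : M) * N k
      = ((g⁻¹ : Mˣ) : M) * (N k * (g : M)) * ((g⁻¹ : Mˣ) : M) := by
        rw [mul_assoc, mul_assoc, ← Units.val_mul, mul_inv_cancel, Units.val_one, mul_one]
    _ = ((g⁻¹ : Mˣ) : M) * ((g : M) * N (σ⁻¹ k)) * ((g⁻¹ : Mˣ) : M) := by rw [h]
    _ = N (σ⁻¹ k) * ((g⁻¹ : Mˣ) : M) := by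
        rw [← mul_assoc, h2, one_mul]

theorem Acts.unique (hN : Function.Injective N) {g : Mˣ}
    {σ τ : Equiv.Perm (Fin n)} (hg : Acts N g σ) (hg' : Acts N g τ) : σ = τ := by
  ext k
  have h := (hg k).symm.trans (hg' k)
  have h2 : N (σ k) = N (τ k) := by
    have := congrArg (fun m => m * ((g⁻¹ : Mˣ) : M)) h
    simpa [mul_assoc, ← Units.val_mul] using this
  exact congrArg Fin.val (hN h2)

theorem exists_acts_of_closure {S : Set Mˣ} (hS : ∀ s ∈ S, ∃ σ, Acts N s σ) :
    ∀ g ∈ Subgroup.closure S, ∃ σ, Acts N g σ := by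
  intro g hg
  induction hg using Subgroup.closure_induction with
  | mem x hx => exact hS x hx
  | one => exact ⟨1, Acts.one N⟩
  | mul x y _ _ hx hy =>
    obtain ⟨σ, hσ⟩ := hx
    obtain ⟨τ, hτ⟩ := hy
    exact ⟨σ * τ, hσ.mul N hτ⟩
  | inv x _ hx =>
    obtain ⟨σ, hσ⟩ := hx
    exact ⟨σ⁻¹, hσ.inv N⟩

/-- The permutation representation of a subgroup permuting the elements `N k`. -/
noncomputable def actHom (hN : Function.Injective N) (A : Subgroup Mˣ)
    (hA : ∀ g ∈ A, ∃ σ, Acts N g σ) : A →* Equiv.Perm (Fin n) where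
  toFun a := Classical.choose (hA a a.2)
  map_one' := Acts.unique N hN (Classical.choose_spec (hA 1 (1 : A).2)) (Acts.one N)
  map_mul' a b := Acts.unique N hN (Classical.choose_spec (hA (a * b) (a * b).2))
    ((Classical.choose_spec (hA a a.2)).mul N (Classical.choose_spec (hA b b.2)))

theorem actHom_spec (hN : Function.Injective N) (A : Subgroup Mˣ)
    (hA : ∀ g ∈ A, ∃ σ, Acts N g σ) (a : A) : Acts N a (actHom N hN A hA a) :=
  Classical.choose_spec (hA a a.2)

theorem actHom_eq (hN : Function.Injective N) (A : Subgroup Mˣ)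
    (hA : ∀ g ∈ A, ∃ σ, Acts N g σ) (a : A) {σ : Equiv.Perm (Fin n)} (h : Acts N a σ) :
    actHom N hN A hA a = σ :=
  Acts.unique N hN (actHom_spec N hN A hA a) h

end Cfsg.Agent.Lib.Helper90_ActPerm
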