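import Mathlib
import Cfsg.Prelude.Def_Transfer
import Cfsg.Agent.Lib.Helper63_Heisenberg

/-!
# The shape `2^(1+4)₋ : A₅` and its invariance under isomorphisms (helper90)

`Shape C`: `C` has a normal extraspecial subgroup `Q` of order 32 without elementary abelian
subgroups of order 8, with a complement, and with `C ⧸ Q ≃* A₅`.
-/

set_option autoImplicit false

namespace Cfsg.Agent.Lib.Helper90_GroupShape

universe u v

/-- The shape `2^(1+4)₋ : A₅`. -/
def Shape (C : Type u) [Group C] : Prop :=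
  ∃ (Q : Subgroup C) (_ : Q.Normal), Cfsg.IsExtraspecial 2 Q ∧ Nat.card Q = 32 ∧
    (∀ E : Subgroup Q, Cfsg.IsElementaryAbelian 2 E → Nat.card E ≤ 2 ^ 2) ∧
    (∃ H : Subgroup C, Q.IsComplement' H) ∧
    Nonempty (C ⧸ Q ≃* ↥(alternatingGroup (Fin 5)))

/-- The bound for the elementary abelian 2-subgroups is invariant under isomorphisms. -/
theorem elab_bound_of_mulEquiv {P : Type u} {P' : Type v} [Group P] [Group P'] (e : P ≃* P')
    (hel : ∀ E : Subgroup P, Cfsg.IsElementaryAbelian 2 E → Nat.card E ≤ 2 ^ 2)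
    (E' : Subgroup P') (hE' : Cfsg.IsElementaryAbelian 2 E') : Nat.card E' ≤ 2 ^ 2 := by
  let E : Subgroup P := E'.map (e.symm : P' →* P)
  have hcE : Nat.card E = Nat.card E' := Nat.card_congr (e.symm.subgroupMap E').symm.toEquiv
  rw [← hcE]
  apply hel E
  obtain ⟨hcomm, hpow⟩ := hE'
  constructor
  · refine ⟨⟨?_⟩⟩
    rintro ⟨a, ha⟩ ⟨b, hb⟩
    obtain ⟨a', ha', rfl⟩ := ha
    obtain ⟨b', hb', rfl⟩ := hb
    apply Subtype.ext
    show (e.symm : P' →* P) a' * (e.symm : P' →* P) b' =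
      (e.symm : P' →* P) b' * (e.symm : P' →* P) a'
    rw [← map_mul, ← map_mul]
    congr 1
    have := hcomm.is_comm.comm (⟨a', ha'⟩ : E') ⟨b', hb'⟩
    exact congrArg Subtype.val this
  · rintro a ⟨a', ha', rfl⟩
    rw [← map_pow, hpow a' ha', map_one]

theorem Shape.of_mulEquiv {C : Type u} {C' : Type v} [Group C] [Group C'] (e : C ≃* C')
    (h : Shape C) : Shape C' := by
  obtain ⟨Q, hQn, hes, hcard, hel, ⟨H, hc⟩, ⟨f⟩⟩ := h
  let Q' : Subgroup C' := Q.map (e : C →* C')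
  have hQ'n : Q'.Normal := Subgroup.Normal.map hQn (e : C →* C') e.surjective
  let eQ : Q ≃* Q' := e.subgroupMap Q
  refine ⟨Q', hQ'n, ?_, ?_, ?_, ?_, ?_⟩
  · exact Cfsg.Agent.Lib.Helper63_Heisenberg.isExtraspecial_of_mulEquiv eQ hes
  · rw [← hcard]
    exact Nat.card_congr eQ.symm.toEquiv
  · intro E' hE'
    let E : Subgroup Q := E'.map (eQ.symm : Q' →* Q)
    have hcE : Nat.card E = Nat.card E' := Nat.card_congr (eQ.symm.subgroupMap E').symm.toEquiv
    rw [← hcE]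
    apply hel E
    obtain ⟨hcomm, hpow⟩ := hE'
    constructor
    · refine ⟨⟨?_⟩⟩
      rintro ⟨a, ha⟩ ⟨b, hb⟩
      obtain ⟨a', ha', rfl⟩ := ha
      obtain ⟨b', hb', rfl⟩ := hb
      apply Subtype.ext
      show (eQ.symm : Q' →* Q) a' * (eQ.symm : Q' →* Q) b' =
        (eQ.symm : Q' →* Q) b' * (eQ.symm : Q' →* Q) a'
      rw [← map_mul, ← map_mul]
      congr 1
      have := hcomm.is_comm.comm (⟨a', ha'⟩ : E') ⟨b', hb'⟩
      exact congrArg Subtype.val this
    · rintro a ⟨a', ha', rfl⟩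
      rw [← map_pow, hpow a' ha', map_one]
  · refine ⟨H.map (e : C →* C'), ?_⟩
    apply Subgroup.isComplement'_of_disjoint_and_mul_eq_univ
    · rw [Subgroup.disjoint_def]
      rintro x ⟨q, hq, rfl⟩ ⟨h, hh, hqh⟩
      have e1 : h = q := e.injective hqh
      have h1 : q ∈ Q ⊓ H := ⟨hq, e1 ▸ hh⟩
      rw [hc.disjoint.eq_bot, Subgroup.mem_bot] at h1
      rw [h1]
      exact map_one _
    · rw [Set.eq_univ_iff_forall]
      intro g'
      obtain ⟨⟨q, h⟩, hqh⟩ := hc.2 (e.symm g')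
      refine ⟨e q.1, ⟨q.1, q.2, rfl⟩, e h.1, ⟨h.1, h.2, rfl⟩, ?_⟩
      show e q.1 * e h.1 = g'
      rw [← map_mul]
      have : (q.1 * h.1 : C) = e.symm g' := hqh
      rw [this, MulEquiv.apply_symm_apply]
  · exact ⟨(QuotientGroup.congr Q Q' e rfl).symm.trans f⟩

end Cfsg.Agent.Lib.Helper90_GroupShape
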