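import Mathlib

/-!
# Tables of codes of elements of a monoid, closed under multiplication by generators (helper90)

Generic version of `Helper90_J1Table`: a monoid `M`, a decoding `toM : ℕ → M`, a product of codes
`mul` with `toM (mul a b) = toM a * toM b` and a code `one` of `1`.  All certificates are Boolean
functions evaluated by the kernel.
-/

set_option autoImplicit false

namespace Cfsg.Agent.Lib.Helper90_CodeTable

universe u

/-- Strict application: evaluates `n` before calling `f` (for kernel evaluation). -/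
@[inline] def force {α : Sort u} (n : ℕ) (f : ℕ → α) : α :=
  Nat.rec (motive := fun _ => α) (f (nat_lit 0)) (fun a _ => f a) (Nat.add n (nat_lit 1))

@[simp] theorem force_eq {α : Sort u} (n : ℕ) (f : ℕ → α) : force n f = f n := rfl

/-- `f 0 && f 1 && … && f (n - 1)`. -/
def allLt (n : ℕ) (f : ℕ → Bool) : Bool :=
  Nat.rec (motive := fun _ => Bool) true (fun i r => and (f i) r) n

theorem allLt_spec {n : ℕ} {f : ℕ → Bool} (h : allLt n f = true) : ∀ i < n, f i = true := by
  induction n with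
  | zero => intro i hi; omega
  | succ n ih =>
    have h' : (f n && allLt n f) = true := h
    rw [Bool.and_eq_true] at h'
    intro i hi
    rcases Nat.lt_succ_iff_lt_or_eq.mp hi with h1 | h1
    · exact ih h'.2 i h1
    · rw [h1]; exact h'.1

theorem allLt_of_forall {n : ℕ} {f : ℕ → Bool} (h : ∀ i < n, f i = true) : allLt n f = true := by
  induction n with
  | zero => rfl
  | succ n ih =>
    show (f n && allLt n f) = true
    rw [h n (Nat.lt_succ_self n), ih (fun i hi => h i (Nat.lt_succ_of_lt hi))]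
    rfl

/-- `allLt` on the interval `[lo, lo + n)`. -/
def allFrom (lo n : ℕ) (f : ℕ → Bool) : Bool := allLt n fun i => f (Nat.add lo i)

theorem allFrom_spec {lo n : ℕ} {f : ℕ → Bool} (h : allFrom lo n f = true) :
    ∀ i, lo ≤ i → i < lo + n → f i = true := by
  intro i h1 h2
  have := allLt_spec h (i - lo) (by omega)
  have e : Nat.add lo (i - lo) = i := by show lo + (i - lo) = i; omega
  rwa [e] at this

section Gen

variable {M : Type*} [Monoid M]

/-- The submonoid generated by the codes `gen l`, `l < ng`. -/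
def genMon (toM : ℕ → M) (gen : ℕ → ℕ) (ng : ℕ) : Submonoid M :=
  Submonoid.closure {m : M | ∃ l < ng, m = toM (gen l)}

/-! ### Closure certificates -/

/-- Closure check at the index `i`: `T i * gen l = T (cl i l)` and `cl i l < n` for `l < ng`. -/
def chkCl (mul : ℕ → ℕ → ℕ) (T : ℕ → ℕ) (n : ℕ) (gen : ℕ → ℕ) (ng : ℕ) (cl : ℕ → ℕ → ℕ)
    (i : ℕ) : Bool :=
  force (T i) fun t => allLt ng fun l => force (cl i l) fun i' =>
    and (Nat.blt i' n) (Nat.beq (mul t (gen l)) (T i'))

theorem chkCl_spec {mul : ℕ → ℕ → ℕ} {T : ℕ → ℕ} {n : ℕ} {gen : ℕ → ℕ} {ng : ℕ}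
    {cl : ℕ → ℕ → ℕ} {i : ℕ} (h : chkCl mul T n gen ng cl i = true) :
    ∀ l < ng, cl i l < n ∧ mul (T i) (gen l) = T (cl i l) := by
  unfold chkCl at h
  simp only [force_eq] at h
  intro l hl
  have h1 := allLt_spec h l hl
  rw [Bool.and_eq_true] at h1
  exact ⟨by simpa using h1.1, Nat.eq_of_beq_eq_true h1.2⟩

/-- The submonoid generated lies in a table closed under right multiplication. -/
theorem mem_table {toM : ℕ → M} {mul : ℕ → ℕ → ℕ} {one : ℕ}
    (hmul : ∀ a b, toM (mul a b) = toM a * toM b) (hone : toM one = 1)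
    {T : ℕ → ℕ} {n : ℕ} {gen : ℕ → ℕ} {ng : ℕ} {cl : ℕ → ℕ → ℕ}
    (hn : 0 < n) (h0 : T 0 = one) (hcl : ∀ i < n, chkCl mul T n gen ng cl i = true) :
    ∀ m ∈ genMon toM gen ng, ∃ i < n, m = toM (T i) := by
  intro m hm
  unfold genMon at hm
  induction hm using Submonoid.closure_induction_right with
  | one => exact ⟨0, hn, by rw [h0, hone]⟩
  | mul_right x _ y hy ih =>
    obtain ⟨i, hi, rfl⟩ := ih
    obtain ⟨l, hl, rfl⟩ := hy
    obtain ⟨h1, h2⟩ := chkCl_spec (hcl i hi) l hl
    exact ⟨cl i l, h1, by rw [← h2, hmul]⟩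

/-! ### Spanning trees (index form: no products) -/

/-- Tree check at `i`: `i = 0`, or `par i < i`, `lett i < ng` and `cl (par i) (lett i) = i`. -/
def chkTree (ng : ℕ) (cl : ℕ → ℕ → ℕ) (par lett : ℕ → ℕ) (i : ℕ) : Bool :=
  or (Nat.beq i 0)
    (force (par i) fun p => force (lett i) fun l =>
      and (Nat.blt p i) (and (Nat.blt l ng) (Nat.beq (cl p l) i)))

theorem table_mem {toM : ℕ → M} {mul : ℕ → ℕ → ℕ} {one : ℕ}
    (hmul : ∀ a b, toM (mul a b) = toM a * toM b) (hone : toM one = 1)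
    {T : ℕ → ℕ} {n : ℕ} {gen : ℕ → ℕ} {ng : ℕ} {cl : ℕ → ℕ → ℕ} {par lett : ℕ → ℕ}
    (h0 : T 0 = one) (hcl : ∀ i < n, chkCl mul T n gen ng cl i = true)
    (htree : ∀ i < n, chkTree ng cl par lett i = true) :
    ∀ i < n, toM (T i) ∈ genMon toM gen ng := by
  intro i
  induction i using Nat.strong_induction_on with
  | _ i ih =>
    intro hi
    have h := htree i hi
    unfold chkTree at h
    simp only [force_eq, Bool.or_eq_true, Bool.and_eq_true] at h
    rcases h with h | ⟨h1, h2, h3⟩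
    · rw [Nat.eq_of_beq_eq_true h, h0, hone]
      exact Submonoid.one_mem _
    · have hp : par i < i := by simpa using h1
      have hl : lett i < ng := by simpa using h2
      have hc : cl (par i) (lett i) = i := Nat.eq_of_beq_eq_true h3
      obtain ⟨_, h5⟩ := chkCl_spec (hcl _ (lt_trans hp hi)) (lett i) hl
      rw [hc] at h5
      rw [← h5, hmul]
      exact Submonoid.mul_mem _ (ih _ hp (lt_trans hp hi))
        (Submonoid.subset_closure ⟨lett i, hl, rfl⟩)

/-! ### Coset tables -/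

/-- Coset check at `j`: `B j * gen l = K (mc j l) * B (mj j l)` for `l < ng`
(for `mc j l = 0` the factor `K 0 = one` is left out). -/
def chkCos (mul : ℕ → ℕ → ℕ) (K : ℕ → ℕ) (nK : ℕ) (B : ℕ → ℕ) (nB : ℕ) (gen : ℕ → ℕ) (ng : ℕ)
    (mc mj : ℕ → ℕ → ℕ) (j : ℕ) : Bool :=
  force (B j) fun b => allLt ng fun l => force (mc j l) fun c => force (mj j l) fun j' =>
    and (Nat.blt c nK) (and (Nat.blt j' nB)
      (Nat.beq (mul b (gen l))
        (Nat.rec (motive := fun _ => ℕ) (B j') (fun _ _ => mul (K c) (B j')) c)))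

theorem chkCos_spec {toM : ℕ → M} {mul : ℕ → ℕ → ℕ} {one : ℕ}
    (hmul : ∀ a b, toM (mul a b) = toM a * toM b) (hone : toM one = 1)
    {K : ℕ → ℕ} {nK : ℕ} {B : ℕ → ℕ} {nB : ℕ} {gen : ℕ → ℕ} {ng : ℕ}
    {mc mj : ℕ → ℕ → ℕ} {j : ℕ} (hK0 : K 0 = one)
    (h : chkCos mul K nK B nB gen ng mc mj j = true) :
    ∀ l < ng, mc j l < nK ∧ mj j l < nB ∧
      toM (B j) * toM (gen l) = toM (K (mc j l)) * toM (B (mj j l)) := by
  unfold chkCos at h
  simp only [force_eq] at h
  intro l hl
  have h1 := allLt_spec h l hl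
  simp only [Bool.and_eq_true] at h1
  refine ⟨by simpa using h1.1, by simpa using h1.2.1, ?_⟩
  have h2 := Nat.eq_of_beq_eq_true h1.2.2
  rw [← hmul, h2]
  generalize mc j l = c
  cases c with
  | zero =>
    show toM (B (mj j l)) = toM (K 0) * toM (B (mj j l))
    rw [hK0, hone, one_mul]
  | succ c' =>
    show toM (mul (K (c' + 1)) (B (mj j l))) = _
    rw [hmul]

/-- The submonoid generated lies in the product of a multiplicatively closed table and a table
of coset representatives. -/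
theorem mem_cosets {toM : ℕ → M} {mul : ℕ → ℕ → ℕ} {one : ℕ}
    (hmul : ∀ a b, toM (mul a b) = toM a * toM b) (hone : toM one = 1)
    {A : Submonoid M} {K : ℕ → ℕ} {nK : ℕ} {B : ℕ → ℕ} {nB : ℕ}
    {gen : ℕ → ℕ} {ng : ℕ} {mc mj : ℕ → ℕ → ℕ}
    (hK1 : ∀ m ∈ A, ∃ c < nK, m = toM (K c)) (hK2 : ∀ c < nK, toM (K c) ∈ A)
    (hnK : 0 < nK) (hK0 : K 0 = one) (hnB : 0 < nB) (hB0 : B 0 = one)
    (hcos : ∀ j < nB, chkCos mul K nK B nB gen ng mc mj j = true) :
    ∀ m ∈ genMon toM gen ng, ∃ c < nK, ∃ j < nB, m = toM (K c) * toM (B j) := by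
  intro m hm
  unfold genMon at hm
  induction hm using Submonoid.closure_induction_right with
  | one => exact ⟨0, hnK, 0, hnB, by rw [hK0, hB0, hone, one_mul]⟩
  | mul_right x _ y hy ih =>
    obtain ⟨c, hc, j, hj, rfl⟩ := ih
    obtain ⟨l, hl, rfl⟩ := hy
    obtain ⟨h1, h2, h4⟩ := chkCos_spec hmul hone hK0 (hcos j hj) l hl
    obtain ⟨c', hc', h5⟩ := hK1 _ (A.mul_mem (hK2 c hc) (hK2 _ h1))
    exact ⟨c', hc', mj j l, h2, by rw [mul_assoc, h4, ← mul_assoc, h5]⟩

/-! ### Distinctness through a bitmap of hash values -/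

/-- Bitmap loop: the entries `i, i + 1, …, i + cnt - 1` are normal forms whose residues modulo `p`
are not yet in the bitmap `acc`; they are added one after the other. -/
def bmLoop (norm : ℕ → ℕ) (T : ℕ → ℕ) (p : ℕ) (cnt : ℕ) : ℕ → ℕ → Bool :=
  Nat.rec (motive := fun _ => ℕ → ℕ → Bool) (fun _ _ => true)
    (fun _ ih i acc => force (T i) fun t => force (Nat.mod t p) fun h =>
      and (Nat.beq (norm t) t) (and (not (Nat.testBit acc h))
        (force (Nat.add i 1) fun i' => force (Nat.lor acc (Nat.shiftLeft 1 h)) fun acc' =>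
          ih i' acc'))) cnt

theorem bmLoop_succ (norm : ℕ → ℕ) (T : ℕ → ℕ) (p cnt i acc : ℕ) :
    bmLoop norm T p (cnt + 1) i acc =
      (Nat.beq (norm (T i)) (T i) && (!(Nat.testBit acc (T i % p)) &&
        bmLoop norm T p cnt (i + 1) (acc ||| 1 <<< (T i % p)))) := rfl

theorem bmLoop_spec_aux (norm : ℕ → ℕ) (T : ℕ → ℕ) (p cnt : ℕ) :
    ∀ i acc, (∀ j < i, Nat.testBit acc (T j % p) = true) → bmLoop norm T p cnt i acc = true →
      ∀ a, i ≤ a → a < i + cnt → norm (T a) = T a ∧ ∀ b < a, T b % p ≠ T a % p := by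
  induction cnt with
  | zero => intro i acc _ _ a h1 h2; omega
  | succ cnt ih =>
    intro i acc hinv h a h1 h2
    rw [bmLoop_succ] at h
    simp only [Bool.and_eq_true, Bool.not_eq_true'] at h
    obtain ⟨hn, hb, hrest⟩ := h
    rcases Nat.eq_or_lt_of_le h1 with rfl | h3
    · refine ⟨Nat.eq_of_beq_eq_true hn, ?_⟩
      intro b hb' heq
      have := hinv b hb'
      rw [heq, hb] at this
      exact Bool.false_ne_true this
    · apply ih (i + 1) (acc ||| 1 <<< (T i % p)) _ hrest a h3 (by omega)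
      intro j hj
      rw [Nat.testBit_or]
      rcases Nat.lt_succ_iff_lt_or_eq.mp hj with h4 | rfl
      · rw [hinv j h4, Bool.true_or]
      · have : (1 <<< (T j % p)).testBit (T j % p) = true := by
          rw [Nat.testBit_shiftLeft]
          simp
        rw [this, Bool.or_true]

omit [Monoid M] in
theorem bmLoop_spec {toM : ℕ → M} {norm : ℕ → ℕ}
    (hnorm : ∀ a b, toM a = toM b → norm a = norm b) {T : ℕ → ℕ} {p n : ℕ}
    (h : bmLoop norm T p n 0 0 = true) :
    ∀ i < n, ∀ j < n, toM (T i) = toM (T j) → i = j := by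
  have key := bmLoop_spec_aux norm T p n 0 0 (fun j hj => absurd hj (Nat.not_lt_zero j)) h
  have key2 : ∀ i < n, ∀ j < i, toM (T i) ≠ toM (T j) := by
    intro i hi j hj heq
    obtain ⟨h1, h2⟩ := key i (Nat.zero_le i) (by omega)
    obtain ⟨h3, _⟩ := key j (Nat.zero_le j) (by omega)
    have e := hnorm _ _ heq
    rw [h1, h3] at e
    exact h2 j hj (by rw [e])
  intro i hi j hj heq
  rcases lt_trichotomy i j with h1 | h1 | h1
  · exact absurd heq.symm (key2 j hj i h1)
  · exact h1
  · exact absurd heq (key2 i hi j h1)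

end Gen

end Cfsg.Agent.Lib.Helper90_CodeTable
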