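import Mathlib
import Cfsg.Prelude.Def_Spor_J3
import Cfsg.Agent.Lib.Helper90_CodeTable

/-!
# Packed arithmetic of 9 × 9 matrices over a field with 4 elements (helper90)

A matrix over `{0, 1, ω, ω²}` is coded by a natural number of 162 bits: row `i` occupies the bits
`18 i … 18 i + 17`; in a row, bit `j` is the coefficient of `1` and bit `9 + j` the coefficient of
`ω` of the entry in column `j`.  `cmul` multiplies codes using only bitwise operations.
-/

set_option autoImplicit false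

namespace Cfsg.Agent.Lib.Helper90_J3Core

open Cfsg.Agent.Lib.Helper90_CodeTable (force force_eq)

/-! ### Bitwise product -/

/-- Row `i` of a code (18 bits). -/
def rowOf (a i : ℕ) : ℕ := Nat.land (Nat.shiftRight a (Nat.mul 18 i)) 262143

/-- `ω` times a row. -/
def v2Of (r : ℕ) : ℕ :=
  Nat.lor (Nat.shiftRight r 9) (Nat.shiftLeft (Nat.xor (Nat.land r 511) (Nat.shiftRight r 9)) 9)

/-- The contribution of the entry `k` of the row `ra` to a row of the product: `v1` is row `k`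
of the second factor and `v2` is `ω` times it. -/
def term (ra v1 v2 k : ℕ) : ℕ :=
  Nat.xor (Nat.mul (Nat.land (Nat.shiftRight ra k) 1) v1)
    (Nat.mul (Nat.land (Nat.shiftRight ra (Nat.add 9 k)) 1) v2)

/-- Xor of `g 0, …, g (m - 1)`. -/
def xf (g : ℕ → ℕ) (m : ℕ) : ℕ :=
  Nat.rec (motive := fun _ => ℕ) 0 (fun k r => Nat.xor r (g k)) m

/-- The row `ra` times the matrix `b`. -/
def rowRes (ra b : ℕ) : ℕ := xf (fun k => term ra (rowOf b k) (v2Of (rowOf b k)) k) 9

/-- The rows `f 0, …, f (m - 1)` assembled. -/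
def asm (f : ℕ → ℕ) (m : ℕ) : ℕ :=
  Nat.rec (motive := fun _ => ℕ) 0 (fun i r => Nat.lor r (Nat.shiftLeft (f i) (Nat.mul 18 i))) m

/-- The product of two codes. -/
def cmul (a b : ℕ) : ℕ := asm (fun i => rowRes (rowOf a i) b) 9

/-! ### Bit level specification -/

theorem testBit_rowOf (a i n : ℕ) :
    (rowOf a i).testBit n = (decide (n < 18) && a.testBit (18 * i + n)) := by
  show ((a >>> (18 * i)) &&& (2 ^ 18 - 1)).testBit n = _
  rw [Nat.testBit_and, Nat.testBit_two_pow_sub_one, Nat.testBit_shiftRight, Bool.and_comm]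

theorem rowOf_lt (a i : ℕ) : rowOf a i < 2 ^ 18 := by
  show (a >>> (18 * i)) &&& (2 ^ 18 - 1) < 2 ^ 18
  exact Nat.and_lt_two_pow _ (by norm_num)

theorem testBit_of_lt {r : ℕ} (hr : r < 2 ^ 18) {n : ℕ} (hn : 18 ≤ n) : r.testBit n = false :=
  Nat.testBit_lt_two_pow (lt_of_lt_of_le hr (Nat.pow_le_pow_right (by norm_num) hn))

theorem testBit_v2Of_lo {r : ℕ} {j : ℕ} (hj : j < 9) :
    (v2Of r).testBit j = r.testBit (9 + j) := by
  show ((r >>> 9) ||| (((r &&& 511) ^^^ (r >>> 9)) <<< 9)).testBit j = _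
  rw [Nat.testBit_or, Nat.testBit_shiftRight, Nat.testBit_shiftLeft]
  have : decide (j ≥ 9) = false := by simp; omega
  rw [this, Bool.false_and, Bool.or_false]

theorem testBit_v2Of_hi {r : ℕ} (hr : r < 2 ^ 18) {j : ℕ} (hj : j < 9) :
    (v2Of r).testBit (9 + j) = (r.testBit j ^^ r.testBit (9 + j)) := by
  show ((r >>> 9) ||| (((r &&& (2 ^ 9 - 1)) ^^^ (r >>> 9)) <<< 9)).testBit (9 + j) = _
  rw [Nat.testBit_or, Nat.testBit_shiftRight, Nat.testBit_shiftLeft, Nat.testBit_xor,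
    Nat.testBit_and, Nat.testBit_two_pow_sub_one, Nat.testBit_shiftRight]
  have h1 : r.testBit (9 + (9 + j)) = false := testBit_of_lt hr (by omega)
  have h2 : decide (9 + j ≥ 9) = true := by simp
  have h3 : 9 + j - 9 = j := by omega
  have h4 : decide (j < 9) = true := by simp [hj]
  rw [h1, h2, h3, h4]
  simp

theorem v2Of_lt {r : ℕ} (hr : r < 2 ^ 18) : v2Of r < 2 ^ 18 := by
  show (r >>> 9) ||| (((r &&& (2 ^ 9 - 1)) ^^^ (r >>> 9)) <<< 9) < 2 ^ 18
  apply Nat.or_lt_two_pow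
  · exact lt_of_le_of_lt (Nat.shiftRight_le _ _) hr
  · rw [Nat.shiftLeft_eq]
    have h1 : (r &&& (2 ^ 9 - 1)) ^^^ (r >>> 9) < 2 ^ 9 := by
      apply Nat.xor_lt_two_pow
      · exact Nat.and_lt_two_pow _ (by norm_num)
      · rw [Nat.shiftRight_eq_div_pow]
        exact Nat.div_lt_of_lt_mul (by rw [← pow_add]; exact hr)
    calc ((r &&& (2 ^ 9 - 1)) ^^^ (r >>> 9)) * 2 ^ 9 < 2 ^ 9 * 2 ^ 9 :=
          Nat.mul_lt_mul_of_pos_right h1 (by norm_num)
      _ = 2 ^ 18 := by norm_num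

theorem bit_cases (x k : ℕ) :
    ((x >>> k) &&& 1 = 0 ∧ x.testBit k = false) ∨ ((x >>> k) &&& 1 = 1 ∧ x.testBit k = true) := by
  have h : x.testBit k = ((x >>> k) &&& 1 != 0) := by rw [Nat.testBit]; simp
  rw [h, Nat.and_one_is_mod]
  rcases Nat.mod_two_eq_zero_or_one (x >>> k) with h0 | h0 <;> simp [h0]

theorem testBit_bitmul (x y k n : ℕ) :
    (((x >>> k) &&& 1) * y).testBit n = (x.testBit k && y.testBit n) := by
  rcases bit_cases x k with ⟨h1, h2⟩ | ⟨h1, h2⟩
  · rw [h1, h2, Nat.zero_mul, Nat.zero_testBit, Bool.false_and]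
  · rw [h1, h2, Nat.one_mul, Bool.true_and]

theorem bitmul_lt (x k : ℕ) {y : ℕ} (hy : y < 2 ^ 18) : ((x >>> k) &&& 1) * y < 2 ^ 18 := by
  rcases bit_cases x k with ⟨h1, _⟩ | ⟨h1, _⟩
  · rw [h1, Nat.zero_mul]; norm_num
  · rw [h1, Nat.one_mul]; exact hy

theorem testBit_term (ra v1 v2 k n : ℕ) :
    (term ra v1 v2 k).testBit n =
      ((ra.testBit k && v1.testBit n) ^^ (ra.testBit (9 + k) && v2.testBit n)) := by
  show ((((ra >>> k) &&& 1) * v1) ^^^ (((ra >>> (9 + k)) &&& 1) * v2)).testBit n = _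
  rw [Nat.testBit_xor, testBit_bitmul, testBit_bitmul]

theorem term_lt (ra k : ℕ) {v1 v2 : ℕ} (h1 : v1 < 2 ^ 18) (h2 : v2 < 2 ^ 18) :
    term ra v1 v2 k < 2 ^ 18 :=
  Nat.xor_lt_two_pow (bitmul_lt ra k h1) (bitmul_lt ra (9 + k) h2)

/-- Boolean xor of `h 0, …, h (m - 1)`. -/
def bxf (h : ℕ → Bool) (m : ℕ) : Bool :=
  Nat.rec (motive := fun _ => Bool) false (fun k r => r ^^ h k) m

theorem bxf_congr {h h' : ℕ → Bool} {m : ℕ} (hh : ∀ k < m, h k = h' k) : bxf h m = bxf h' m := by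
  induction m with
  | zero => rfl
  | succ m ih =>
    show (bxf h m ^^ h m) = (bxf h' m ^^ h' m)
    rw [ih (fun k hk => hh k (Nat.lt_succ_of_lt hk)), hh m (Nat.lt_succ_self m)]

theorem testBit_xf (g : ℕ → ℕ) (m n : ℕ) :
    (xf g m).testBit n = bxf (fun k => (g k).testBit n) m := by
  induction m with
  | zero => exact Nat.zero_testBit n
  | succ m ih =>
    show ((xf g m) ^^^ (g m)).testBit n = (bxf (fun k => (g k).testBit n) m ^^ (g m).testBit n)
    rw [Nat.testBit_xor, ih]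

theorem xf_lt (g : ℕ → ℕ) (hg : ∀ k, g k < 2 ^ 18) (m : ℕ) : xf g m < 2 ^ 18 := by
  induction m with
  | zero => show 0 < 2 ^ 18; norm_num
  | succ m ih => exact Nat.xor_lt_two_pow ih (hg m)

theorem rowRes_lt (ra b : ℕ) : rowRes ra b < 2 ^ 18 :=
  xf_lt _ (fun k => term_lt ra k (rowOf_lt b k) (v2Of_lt (rowOf_lt b k))) 9

/-- Bit `j` of the low part of entry `(i, j)`. -/
def Lb (a i j : ℕ) : Bool := a.testBit (18 * i + j)
/-- Bit `j` of the high part of entry `(i, j)`. -/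
def Hb (a i j : ℕ) : Bool := a.testBit (18 * i + (9 + j))

theorem testBit_rowRes_lo (ra b j : ℕ) (hj : j < 9) :
    (rowRes ra b).testBit j =
      bxf (fun k => (ra.testBit k && Lb b k j) ^^ (ra.testBit (9 + k) && Hb b k j)) 9 := by
  unfold rowRes
  rw [testBit_xf]
  congr 1
  funext k
  rw [testBit_term, testBit_v2Of_lo hj, testBit_rowOf, testBit_rowOf]
  have h1 : decide (j < 18) = true := by simp; omega
  have h2 : decide (9 + j < 18) = true := by simp; omega
  rw [h1, h2, Bool.true_and, Bool.true_and]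
  rfl

theorem testBit_rowRes_hi (ra b j : ℕ) (hj : j < 9) :
    (rowRes ra b).testBit (9 + j) =
      bxf (fun k => (ra.testBit k && Hb b k j) ^^
        (ra.testBit (9 + k) && (Lb b k j ^^ Hb b k j))) 9 := by
  unfold rowRes
  rw [testBit_xf]
  congr 1
  funext k
  rw [testBit_term, testBit_v2Of_hi (rowOf_lt b k) hj, testBit_rowOf, testBit_rowOf]
  have h1 : decide (j < 18) = true := by simp; omega
  have h2 : decide (9 + j < 18) = true := by simp; omega
  rw [h1, h2, Bool.true_and, Bool.true_and]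
  rfl

theorem testBit_asm (f : ℕ → ℕ) (hf : ∀ i, f i < 2 ^ 18) (m i n : ℕ) (hi : i < m)
    (hn : n < 18) : (asm f m).testBit (18 * i + n) = (f i).testBit n := by
  induction m with
  | zero => omega
  | succ m ih =>
    show ((asm f m) ||| ((f m) <<< (18 * m))).testBit (18 * i + n) = _
    rw [Nat.testBit_or, Nat.testBit_shiftLeft]
    rcases Nat.lt_succ_iff_lt_or_eq.mp hi with h | h
    · rw [ih h]
      have : decide (18 * i + n ≥ 18 * m) = false := by simp; omega
      rw [this, Bool.false_and, Bool.or_false]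
    · subst h
      have h1 : (asm f i).testBit (18 * i + n) = false := by
        apply Nat.testBit_lt_two_pow
        have : asm f i < 2 ^ (18 * i) := by
          clear ih hi
          induction i with
          | zero => show 0 < 2 ^ (18 * 0); norm_num
          | succ i ih2 =>
            show (asm f i) ||| ((f i) <<< (18 * i)) < 2 ^ (18 * (i + 1))
            apply Nat.or_lt_two_pow
            · exact lt_of_lt_of_le ih2 (Nat.pow_le_pow_right (by norm_num) (by omega))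
            · rw [Nat.shiftLeft_eq, show 18 * (i + 1) = 18 + 18 * i by ring, pow_add]
              exact Nat.mul_lt_mul_of_pos_right (hf i) (by positivity)
        exact lt_of_lt_of_le this (Nat.pow_le_pow_right (by norm_num) (by omega))
      have h2 : decide (18 * i + n ≥ 18 * i) = true := by simp
      have h3 : 18 * i + n - 18 * i = n := by omega
      rw [h1, h2, h3, Bool.false_or, Bool.true_and]

theorem Lb_cmul (a b i j : ℕ) (hi : i < 9) (hj : j < 9) :
    Lb (cmul a b) i j = bxf (fun k => (Lb a i k && Lb b k j) ^^ (Hb a i k && Hb b k j)) 9 := by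
  unfold Lb cmul
  rw [testBit_asm _ (fun i => rowRes_lt _ _) 9 i j hi (by omega), testBit_rowRes_lo _ _ _ hj]
  apply bxf_congr
  intro k hk
  have h1 : decide (k < 18) = true := by simp; omega
  have h2 : decide (9 + k < 18) = true := by simp; omega
  simp only [testBit_rowOf, Lb, Hb, h1, h2, Bool.true_and]

theorem Hb_cmul (a b i j : ℕ) (hi : i < 9) (hj : j < 9) :
    Hb (cmul a b) i j =
      bxf (fun k => (Lb a i k && Hb b k j) ^^ (Hb a i k && (Lb b k j ^^ Hb b k j))) 9 := by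
  unfold Hb cmul
  rw [testBit_asm _ (fun i => rowRes_lt _ _) 9 i (9 + j) hi (by omega),
    testBit_rowRes_hi _ _ _ hj]
  apply bxf_congr
  intro k hk
  have h1 : decide (k < 18) = true := by simp; omega
  have h2 : decide (9 + k < 18) = true := by simp; omega
  simp only [testBit_rowOf, Lb, Hb, h1, h2, Bool.true_and]


/-! ### The fast product -/

/-- Unrolled `rowRes`: `p k` is row `k` of the second factor and `q k` is `ω` times it. -/
def rowResR (ra p0 p1 p2 p3 p4 p5 p6 p7 p8 q0 q1 q2 q3 q4 q5 q6 q7 q8 : ℕ) : ℕ :=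
  (Nat.xor (Nat.xor (Nat.xor (Nat.xor (Nat.xor (Nat.xor (Nat.xor (Nat.xor (Nat.xor 0 (Nat.xor (Nat.mul (Nat.land (Nat.shiftRight ra 0) 1) p0) (Nat.mul (Nat.land (Nat.shiftRight ra 9) 1) q0))) (Nat.xor (Nat.mul (Nat.land (Nat.shiftRight ra 1) 1) p1) (Nat.mul (Nat.land (Nat.shiftRight ra 10) 1) q1))) (Nat.xor (Nat.mul (Nat.land (Nat.shiftRight ra 2) 1) p2) (Nat.mul (Nat.land (Nat.shiftRight ra 11) 1) q2))) (Nat.xor (Nat.mul (Nat.land (Nat.shiftRight ra 3) 1) p3) (Nat.mul (Nat.land (Nat.shiftRight ra 12) 1) q3))) (Nat.xor (Nat.mul (Nat.land (Nat.shiftRight ra 4) 1) p4) (Nat.mul (Nat.land (Nat.shiftRight ra 13) 1) q4))) (Nat.xor (Nat.mul (Nat.land (Nat.shiftRight ra 5) 1) p5) (Nat.mul (Nat.land (Nat.shiftRight ra 14) 1) q5))) (Nat.xor (Nat.mul (Nat.land (Nat.shiftRight ra 6) 1) p6) (Nat.mul (Nat.land (Nat.shiftRight ra 15) 1) q6))) (Nat.xor (Nat.mul (Nat.land (Nat.shiftRight ra 7) 1) p7) (Nat.mul (Nat.land (Nat.shiftRight ra 16) 1) q7)))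 (Nat.xor (Nat.mul (Nat.land (Nat.shiftRight ra 8) 1) p8) (Nat.mul (Nat.land (Nat.shiftRight ra 17) 1) q8)))

/-- The product of two codes (unrolled, strict). -/
def cmulR (a b : ℕ) : ℕ :=
  force a fun a => force b fun b =>
  force (Nat.land (Nat.shiftRight b 0) 262143) fun p0 => force (Nat.lor (Nat.shiftRight p0 9) (Nat.shiftLeft (Nat.xor (Nat.land p0 511) (Nat.shiftRight p0 9)) 9)) fun q0 =>
  force (Nat.land (Nat.shiftRight b 18) 262143) fun p1 => force (Nat.lor (Nat.shiftRight p1 9) (Nat.shiftLeft (Nat.xor (Nat.land p1 511) (Nat.shiftRight p1 9)) 9)) fun q1 =>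
  force (Nat.land (Nat.shiftRight b 36) 262143) fun p2 => force (Nat.lor (Nat.shiftRight p2 9) (Nat.shiftLeft (Nat.xor (Nat.land p2 511) (Nat.shiftRight p2 9)) 9)) fun q2 =>
  force (Nat.land (Nat.shiftRight b 54) 262143) fun p3 => force (Nat.lor (Nat.shiftRight p3 9) (Nat.shiftLeft (Nat.xor (Nat.land p3 511) (Nat.shiftRight p3 9)) 9)) fun q3 =>
  force (Nat.land (Nat.shiftRight b 72) 262143) fun p4 => force (Nat.lor (Nat.shiftRight p4 9) (Nat.shiftLeft (Nat.xor (Nat.land p4 511) (Nat.shiftRight p4 9)) 9)) fun q4 =>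
  force (Nat.land (Nat.shiftRight b 90) 262143) fun p5 => force (Nat.lor (Nat.shiftRight p5 9) (Nat.shiftLeft (Nat.xor (Nat.land p5 511) (Nat.shiftRight p5 9)) 9)) fun q5 =>
  force (Nat.land (Nat.shiftRight b 108) 262143) fun p6 => force (Nat.lor (Nat.shiftRight p6 9) (Nat.shiftLeft (Nat.xor (Nat.land p6 511) (Nat.shiftRight p6 9)) 9)) fun q6 =>
  force (Nat.land (Nat.shiftRight b 126) 262143) fun p7 => force (Nat.lor (Nat.shiftRight p7 9) (Nat.shiftLeft (Nat.xor (Nat.land p7 511) (Nat.shiftRight p7 9)) 9)) fun q7 =>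
  force (Nat.land (Nat.shiftRight b 144) 262143) fun p8 => force (Nat.lor (Nat.shiftRight p8 9) (Nat.shiftLeft (Nat.xor (Nat.land p8 511) (Nat.shiftRight p8 9)) 9)) fun q8 =>
  (Nat.lor (Nat.lor (Nat.lor (Nat.lor (Nat.lor (Nat.lor (Nat.lor (Nat.lor (Nat.lor 0 (Nat.shiftLeft (force (Nat.land (Nat.shiftRight a 0) 262143) fun ra => rowResR ra p0 p1 p2 p3 p4 p5 p6 p7 p8 q0 q1 q2 q3 q4 q5 q6 q7 q8) 0)) (Nat.shiftLeft (force (Nat.land (Nat.shiftRight a 18) 262143) fun ra => rowResR ra p0 p1 p2 p3 p4 p5 p6 p7 p8 q0 q1 q2 q3 q4 q5 q6 q7 q8) 18)) (Nat.shiftLeft (force (Nat.land (Nat.shiftRight a 36) 262143) fun ra => rowResR ra p0 p1 p2 p3 p4 p5 p6 p7 p8 q0 q1 q2 q3 q4 q5 q6 q7 q8) 36)) (Nat.shiftLeft (force (Nat.land (Nat.shiftRight a 54) 262143) fun ra => rowResR ra p0 p1 p2 p3 p4 p5 p6 p7 p8 q0 q1 q2 q3 q4 q5 q6 q7 q8) 54)) (Nat.shiftLeft (force (Nat.land (Nat.shiftRight a 72) 262143) fun ra => rowResR ra p0 p1 p2 p3 p4 p5 p6 p7 p8 q0 q1 q2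 q3 q4 q5 q6 q7 q8) 72)) (Nat.shiftLeft (force (Nat.land (Nat.shiftRight a 90) 262143) fun ra => rowResR ra p0 p1 p2 p3 p4 p5 p6 p7 p8 q0 q1 q2 q3 q4 q5 q6 q7 q8) 90)) (Nat.shiftLeft (force (Nat.land (Nat.shiftRight a 108) 262143) fun ra => rowResR ra p0 p1 p2 p3 p4 p5 p6 p7 p8 q0 q1 q2 q3 q4 q5 q6 q7 q8) 108)) (Nat.shiftLeft (force (Nat.land (Nat.shiftRight a 126) 262143) fun ra => rowResR ra p0 p1 p2 p3 p4 p5 p6 p7 p8 q0 q1 q2 q3 q4 q5 q6 q7 q8) 126)) (Nat.shiftLeft (force (Nat.land (Nat.shiftRight a 144) 262143) fun ra => rowResR ra p0 p1 p2 p3 p4 p5 p6 p7 p8 q0 q1 q2 q3 q4 q5 q6 q7 q8) 144))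

theorem cmulR_eq (a b : ℕ) : cmulR a b = cmul a b := rfl

/-! ### Decoding over a field of characteristic 2 with `ω² + ω + 1 = 0` -/

section Field

open Cfsg.Spor

variable (F : Type*) [Field F] (ω : F)

/-- `true ↦ 1`, `false ↦ 0`. -/
def bF (b : Bool) : F := if b then 1 else 0

/-- The position of an index `z = (x, y)`: `3 x + y`. -/
def ix (z : F9) : ℕ := 3 * z.1.val + z.2.val

theorem ix_lt (z : F9) : ix z < 9 := by
  unfold ix
  have h1 := z.1.val_lt
  have h2 := z.2.val_lt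
  omega

/-- Decoding. -/
def toMat (c : ℕ) : Matrix F9 F9 F :=
  fun w z => bF F (Lb c (ix w) (ix z)) + bF F (Hb c (ix w) (ix z)) * ω

/-- The four elements `0, 1, ω, 1 + ω`. -/
def val4 (n : ℕ) : F := if n = 0 then 0 else if n = 1 then 1 else if n = 2 then ω else 1 + ω

variable {F} {ω}

theorem bF_and (p q : Bool) : bF F (p && q) = bF F p * bF F q := by
  cases p <;> cases q <;> simp [bF]

theorem bF_xor (h2 : (2 : F) = 0) (p q : Bool) : bF F (p ^^ q) = bF F p + bF F q := by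
  cases p <;> cases q <;> simp [bF]
  rw [← h2]; norm_num

theorem bF_bxf (h2 : (2 : F) = 0) (h : ℕ → Bool) (m : ℕ) :
    bF F (bxf h m) = ∑ k ∈ Finset.range m, bF F (h k) := by
  induction m with
  | zero => simp [bxf, bF]
  | succ m ih =>
    show bF F (bxf h m ^^ h m) = _
    rw [bF_xor h2, ih, Finset.sum_range_succ]

theorem sum_F9 (f : ℕ → F) : ∑ k : F9, f (ix k) = ∑ n ∈ Finset.range 9, f n := by
  rw [Fintype.sum_prod_type]
  have h3 : ∀ g : ZMod 3 → F, ∑ x : ZMod 3, g x = g 0 + g 1 + g 2 := fun g =>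
    Fin.sum_univ_three g
  simp only [h3, Finset.sum_range_succ, Finset.sum_range_zero, ix]
  have e0 : ((0 : ZMod 3)).val = 0 := rfl
  have e1 : ((1 : ZMod 3)).val = 1 := rfl
  have e2 : ((2 : ZMod 3)).val = 2 := rfl
  simp only [e0, e1, e2]
  norm_num
  ring

theorem toMat_cmul (h2 : (2 : F) = 0) (hω : ω ^ 2 + ω + 1 = 0) (a b : ℕ) :
    toMat F ω (cmul a b) = toMat F ω a * toMat F ω b := by
  ext w z
  rw [Matrix.mul_apply]
  unfold toMat
  rw [Lb_cmul a b _ _ (ix_lt w) (ix_lt z), Hb_cmul a b _ _ (ix_lt w) (ix_lt z),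
    bF_bxf h2, bF_bxf h2, Finset.sum_mul, ← Finset.sum_add_distrib,
    sum_F9 (fun k => (bF F (Lb a (ix w) k) + bF F (Hb a (ix w) k) * ω) *
      (bF F (Lb b k (ix z)) + bF F (Hb b k (ix z)) * ω))]
  apply Finset.sum_congr rfl
  intro k _
  rw [bF_xor h2, bF_xor h2, bF_and, bF_and, bF_and, bF_and, bF_xor h2]
  linear_combination (-(bF F (Hb a (ix w) k) * bF F (Hb b k (ix z)))) * hω +
    (bF F (Hb a (ix w) k) * bF F (Hb b k (ix z)) * (ω + 1)) * h2


theorem toMat_cmulR (h2 : (2 : F) = 0) (hω : ω ^ 2 + ω + 1 = 0) (a b : ℕ) :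
    toMat F ω (cmulR a b) = toMat F ω a * toMat F ω b := by
  rw [cmulR_eq]
  exact toMat_cmul h2 hω a b

end Field

/-! ### Entries -/

/-- The entry `(i, j)` of a code, as a number in `0, 1, 2, 3` for `0, 1, ω, 1 + ω`. -/
def ent (c i j : ℕ) : ℕ :=
  Nat.add (Nat.land (Nat.shiftRight c (Nat.add (Nat.mul 18 i) j)) 1)
    (Nat.mul 2 (Nat.land (Nat.shiftRight c (Nat.add (Nat.mul 18 i) (Nat.add 9 j))) 1))

section Field2

open Cfsg.Spor

variable {F : Type*} [Field F] {ω : F}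

theorem toMat_apply (c : ℕ) (w z : F9) :
    toMat F ω c w z = val4 F ω (ent c (ix w) (ix z)) := by
  show bF F (c.testBit (18 * ix w + ix z)) + bF F (c.testBit (18 * ix w + (9 + ix z))) * ω =
    val4 F ω (((c >>> (18 * ix w + ix z)) &&& 1) + 2 * ((c >>> (18 * ix w + (9 + ix z))) &&& 1))
  rcases bit_cases c (18 * ix w + ix z) with ⟨h1, h2⟩ | ⟨h1, h2⟩ <;>
    rcases bit_cases c (18 * ix w + (9 + ix z)) with ⟨h3, h4⟩ | ⟨h3, h4⟩ <;>
    rw [h1, h2, h3, h4] <;> simp [bF, val4]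

/-- The code of the identity. -/
def cone : ℕ := 0x100002000040000800010000200004000080001

theorem ent_cone : ∀ w z : F9, ent cone (ix w) (ix z) = if w = z then 1 else 0 := by
  decide +kernel

theorem toMat_cone : toMat F ω cone = 1 := by
  ext w z
  rw [toMat_apply, ent_cone, Matrix.one_apply]
  split_ifs <;> simp [val4]

/-- Powers of a code. -/
def cpow (a n : ℕ) : ℕ := Nat.rec (motive := fun _ => ℕ) cone (fun _ r => cmulR r a) n

theorem toMat_cpow (h2 : (2 : F) = 0) (hω : ω ^ 2 + ω + 1 = 0) (a n : ℕ) :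
    toMat F ω (cpow a n) = toMat F ω a ^ n := by
  induction n with
  | zero => exact toMat_cone
  | succ n ih =>
    show toMat F ω (cmulR (cpow a n) a) = _
    rw [toMat_cmulR h2 hω, ih, pow_succ]

/-! ### Normal forms -/

/-- The mask of a code. -/
def mask162 : ℕ := 0x3ffffffffffffffffffffffffffffffffffffffff

theorem mask162_eq : mask162 = 2 ^ 162 - 1 := by decide +kernel

/-- The code with the bits above the 162 lowest cleared. -/
def cnorm (c : ℕ) : ℕ := Nat.land c mask162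

theorem omega_ne_zero (hω : ω ^ 2 + ω + 1 = 0) : ω ≠ 0 := by
  rintro rfl
  simp at hω

theorem omega_ne_one (h2 : (2 : F) = 0) (hω : ω ^ 2 + ω + 1 = 0) : ω ≠ 1 := by
  rintro rfl
  have : (1 : F) = 0 := by linear_combination hω - h2
  exact one_ne_zero this

theorem bF_indep (h2 : (2 : F) = 0) (hω : ω ^ 2 + ω + 1 = 0) (p q p' q' : Bool)
    (h : bF F p + bF F q * ω = bF F p' + bF F q' * ω) : p = p' ∧ q = q' := by
  have h0 := omega_ne_zero hω
  have h1 := omega_ne_one h2 hω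
  have h3 : (1 : F) + ω ≠ 0 := by
    intro h4
    apply h1
    linear_combination h4 - h2
  cases p <;> cases q <;> cases p' <;> cases q' <;> simp [bF] at h ⊢
  all_goals first
    | exact h0 h
    | exact h0 h.symm
    | exact h1 h
    | exact h1 h.symm
    | exact h3 h
    | exact h3 h.symm

theorem ix_surj {i : ℕ} (hi : i < 9) : ∃ w : F9, ix w = i := by
  refine ⟨(((i / 3 : ℕ) : ZMod 3), ((i % 3 : ℕ) : ZMod 3)), ?_⟩
  unfold ix
  simp only [ZMod.val_natCast]
  omega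

theorem cnorm_eq_of_toMat_eq (h2 : (2 : F) = 0) (hω : ω ^ 2 + ω + 1 = 0) {a b : ℕ}
    (h : toMat F ω a = toMat F ω b) : cnorm a = cnorm b := by
  have key : ∀ i < 9, ∀ j < 9, Lb a i j = Lb b i j ∧ Hb a i j = Hb b i j := by
    intro i hi j hj
    obtain ⟨w, rfl⟩ := ix_surj hi
    obtain ⟨z, rfl⟩ := ix_surj hj
    exact bF_indep h2 hω _ _ _ _ (congrFun (congrFun h w) z)
  apply Nat.eq_of_testBit_eq
  intro n
  show (a &&& mask162).testBit n = (b &&& mask162).testBit n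
  rw [Nat.testBit_and, Nat.testBit_and, mask162_eq, Nat.testBit_two_pow_sub_one]
  by_cases hn : n < 162
  · have e : 18 * (n / 18) + n % 18 = n := Nat.div_add_mod n 18
    by_cases hr : n % 18 < 9
    · have h3 := (key (n / 18) (by omega) (n % 18) hr).1
      unfold Lb at h3
      rw [e] at h3
      rw [h3]
    · have h3 := (key (n / 18) (by omega) (n % 18 - 9) (by omega)).2
      unfold Hb at h3
      have e2 : 18 * (n / 18) + (9 + (n % 18 - 9)) = n := by omega
      rw [e2] at h3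
      rw [h3]
  · simp [hn]

theorem toMat_ne (h2 : (2 : F) = 0) (hω : ω ^ 2 + ω + 1 = 0) {a b : ℕ}
    (h : cnorm a ≠ cnorm b) : toMat F ω a ≠ toMat F ω b :=
  fun heq => h (cnorm_eq_of_toMat_eq h2 hω heq)

end Field2

end Cfsg.Agent.Lib.Helper90_J3Core
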