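import Mathlib
import Cfsg.Prelude.Def_Spor_J3
import Cfsg.Agent.Lib.Helper90_J3Core
import Cfsg.Agent.Lib.Helper90_CodeTable

/-!
# The generators of `3·J₃` as codes (helper90)

The 45 slots `9 f + ix Z` (`f = 0, …, 4` for the families `A, E, D, B, C`; the slots of `B₀` and
`C₀` hold the identity), the two generators `g₁ = D_{(1,0)}`, `g₂ = C_{(1,1)}` used as letters
(`0 ↦ g₁`, `1 ↦ g₂`, `2 ↦ g₁⁻¹`) and words in the letters for all the slots.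
-/

set_option autoImplicit false

namespace Cfsg.Agent.Lib.Helper90_J3Gens

open Cfsg.Spor Cfsg.Agent.Lib.Helper90_J3Core

/-- The codes of the generators. -/
def genList : List ℕ := [
  0x100002000040000800010000200004000080001,
  0x20100400000040100802000000200804010000001,
  0x20000402000040100002010000200800010080001,
  0x20100402008040100002000040000004000080001,
  0x20000002008040000802010040000804010000001,
  0x100400008040100800010040000800010080001,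
  0x20000400008000100802010040200004000080001,
  0x100402008000100000010040200804010000001,
  0x20100002008000000802000040200800010080001,
  0x20100402008000100802010040000800010000001,
  0x20100400008040100802000040200800000080200,
  0x20000402008040100002010040200004010000200,
  0x20100402008000100002000000200804010080200,
  0x20100400008040100000010040000804010000201,
  0x20000402008040000802000040000800010080201,
  0x20000400000040100802010040000804010080200,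
  0x20000002008000100802000040200804010000201,
  0x100400008000100002010040200800010080201,
  0x100002000040000800010000200004000080001,
  0x10000001000100080400008000800002000040004,
  0x40804000080000204000000400001000100002,
  0x4020080000008000100002000040100002000040,
  0x10000200020000080001020000080201000100,
  0x8000800010000040004010088000004000080,
  0x4000080001800010080001000020000400008,
  0x2000040804002000040004000010040000020,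
  0x1000100400001000100002001008000800010,
  0x100002000040000800010000200004000080001,
  0x80000400002004000020000100040000200001,
  0x20004000004000400080000080008001000001,
  0x100002000040000800010000200004000080001,
  0x40000080020000100008002000010004000001,
  0x4001000010000200002004000080000800001,
  0x10000800008002000100001000002000100001,
  0x2000200100001000004000400020002000001,
  0x8000100080000080040000800100000400001,
  0x100002000040000800010000200004000080001,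
  0x1a0004c0004a0064000b000130000e001180001,
  0xb000640004c004c001a0001280046000380001,
  0x19000680000e002c0013000118004c001280001,
  0xe0012800b0001300046006800130006400001,
  0x4c00038013000118004a0064001a0002c00001,
  0x130002c0004600680019000038004a001300001,
  0x4a00118019000038004c004c000b0006800001,
  0x460013001a000128000e002c00190004c00001]

/-- The code in the slot `l`. -/
def gen (l : ℕ) : ℕ := genList.getD l cone

/-- Words for the slots. -/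
def wordList : List (List ℕ) := [
  [],
  [0, 0, 0],
  [2, 2, 2],
  [0, 0, 1, 0, 0, 1, 0, 1, 2, 1, 2, 2, 1, 2, 2, 1, 2, 1, 0, 1, 0, 0, 1, 2],
  [0, 0, 1, 0, 0, 1, 0, 1, 2, 1, 2, 2, 1, 2, 2, 1, 2, 1, 0, 1, 0, 0, 1, 0, 0],
  [2, 1, 0, 0, 1, 0, 1, 2, 1, 2, 2, 1, 2, 2, 1, 2, 1, 0, 1, 0, 0, 1, 2],
  [0, 1, 2, 2, 1, 2, 1, 0, 1, 0, 0, 1, 0, 0, 1, 0, 1, 2, 1, 2, 2, 1, 2, 2],
  [0, 1, 2, 2, 1, 2, 1, 0, 1, 0, 0, 1, 0, 0, 1, 0, 1, 2, 1, 2, 2, 1, 0],
  [2, 2, 1, 2, 2, 1, 2, 1, 0, 1, 0, 0, 1, 0, 0, 1, 0, 1, 2, 1, 2, 2, 1, 2, 2],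
  [1, 2, 1, 2, 1, 2, 2, 1, 0, 1, 0, 0, 1, 0, 0, 1, 0, 1, 2, 2, 1, 2, 1, 2],
  [0, 0, 1, 0, 0, 0, 1, 2, 2, 1, 2, 2, 2, 1, 2, 1, 0, 1, 0, 1, 2, 1, 2, 1, 0, 0, 1, 0, 1],
  [2, 2, 1, 2, 2, 2, 1, 0, 0, 1, 0, 0, 0, 1, 0, 1, 2, 1, 2, 1, 0, 1, 0, 1, 2, 2, 1, 2, 1],
  [0, 1, 0, 1, 0, 1, 0, 0, 1, 2, 1, 2, 2, 1, 2, 2, 1, 2, 1, 0, 0, 1, 0, 1],
  [1, 0, 0, 1, 0, 1, 2, 2, 1, 2, 2, 2, 1, 0, 0, 0, 0, 1, 2, 2, 2, 1, 2, 1, 2, 2, 2, 2, 1],
  [2, 1, 2, 2, 2, 1, 0, 0, 1, 0, 0, 0, 1, 0, 1, 2, 1, 2, 1, 0, 1, 0, 1, 2, 2, 1, 2, 1, 2],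
  [2, 1, 2, 1, 2, 1, 2, 2, 1, 0, 1, 0, 0, 1, 0, 0, 1, 0, 1, 2, 2, 1, 2, 1],
  [1, 0, 1, 0, 1, 2, 2, 1, 2, 1, 2, 1, 2, 1, 0, 1, 2, 2, 1, 0, 1, 0, 1, 2, 1, 2, 2, 1, 2],
  [1, 2, 2, 2, 1, 0, 0, 1, 0, 0, 0, 1, 0, 1, 2, 1, 2, 1, 0, 1, 0, 1, 2, 2, 1, 2, 1, 2, 2],
  [],
  [2, 1, 0, 0, 0, 1, 0, 0, 1, 2, 1, 2, 2, 1, 2, 1, 0, 0, 1, 0, 0, 0, 1, 2],
  [0, 1, 2, 2, 2, 1, 2, 2, 1, 0, 1, 0, 0, 1, 0, 1, 2, 2, 1, 2, 2, 2, 1, 0],
  [0],
  [2, 2, 1, 0, 1, 0, 1, 0, 0, 1, 0, 0, 0, 0, 1, 0, 0, 1, 0, 1, 0, 1, 2, 2],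
  [1, 2, 1, 2, 1, 2, 2, 1, 2, 2, 2, 2, 1, 2, 2, 1, 2, 1, 2, 1],
  [2],
  [1, 0, 1, 0, 1, 0, 0, 1, 0, 0, 0, 0, 1, 0, 0, 1, 0, 1, 0, 1],
  [0, 0, 1, 2, 1, 2, 1, 2, 2, 1, 2, 2, 2, 2, 1, 2, 2, 1, 2, 1, 2, 1, 0, 0],
  [],
  [2, 2, 2, 1, 0, 0, 0, 1, 0, 0, 0, 1, 0, 0, 0, 1, 0, 0, 0, 1, 2, 2, 2, 1],
  [1, 2, 2, 2, 1, 0, 0, 0, 1, 0, 0, 0, 1, 0, 0, 0, 1, 0, 0, 0, 1, 2, 2, 2],
  [],
  [0, 0, 0, 1, 0, 1, 0, 0, 1, 2, 2, 1, 0, 0, 1, 0, 1, 2, 2, 2, 1, 2, 2, 2, 1],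
  [1, 2, 2, 2, 1, 2, 2, 2, 1, 0, 0, 0, 1, 2, 2, 2, 1, 2, 2, 2],
  [1, 2, 2, 1, 0, 0, 1, 2, 2, 1, 0, 0, 1, 2, 2],
  [1, 0, 0, 0, 1, 0, 1, 0, 0, 1, 2, 2, 1, 0, 0, 1, 0, 1, 2, 2, 2, 1, 2, 2, 2],
  [2, 2, 2, 1, 2, 2, 2, 1, 0, 0, 0, 1, 2, 2, 2, 1, 2, 2, 2, 1],
  [],
  [2, 2, 2, 1, 2, 2, 2, 1, 0, 0, 0, 1, 2, 2, 2, 1, 2, 2, 2],
  [0, 0, 0, 1, 0, 1, 0, 0, 1, 2, 2, 1, 0, 0, 1, 0, 1, 2, 2, 2, 1, 2, 2, 2],
  [1, 0, 0, 0, 1, 0, 1, 0, 0, 1, 2, 2, 1, 0, 0, 1, 0, 1, 2, 2, 2, 1, 2, 2, 2, 1],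
  [1],
  [1, 2, 2, 2, 1, 0, 0, 0, 1, 0, 0, 0, 1, 0, 0, 0, 1, 0, 0, 0, 1, 2, 2, 2, 1],
  [1, 2, 2, 2, 1, 2, 2, 2, 1, 0, 0, 0, 1, 2, 2, 2, 1, 2, 2, 2, 1],
  [2, 2, 2, 1, 0, 0, 0, 1, 0, 0, 0, 1, 0, 0, 0, 1, 0, 0, 0, 1, 2, 2, 2],
  [2, 2, 1, 0, 0, 1, 2, 2, 1, 0, 0, 1, 2, 2]]

/-- The word of the slot `l`. -/
def word (l : ℕ) : List ℕ := wordList.getD l []

/-- Code of `g₁ = D_{(1,0)}`. -/
def cg1 : ℕ := 0x4020080000008000100002000040100002000040
/-- Code of `g₂ = C_{(1,1)}`. -/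
def cg2 : ℕ := 0xe0012800b0001300046006800130006400001
/-- Code of `g₁⁻¹`. -/
def cg1i : ℕ := 0x4000080001800010080001000020000400008

/-- Codes of the letters: `0, 1, 2` for `g₁, g₂, g₁⁻¹`. -/
def gcode (l : ℕ) : ℕ :=
  Nat.rec (motive := fun _ => ℕ) cg1 (fun l _ =>
    Nat.rec (motive := fun _ => ℕ) cg2 (fun _ _ => cg1i) l) l

/-- The inverse letter. -/
def linv (l : ℕ) : ℕ :=
  Nat.rec (motive := fun _ => ℕ) 2 (fun l _ =>
    Nat.rec (motive := fun _ => ℕ) 1 (fun _ _ => 0) l) l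

/-- The code of a word, from a starting code. -/
def evalFrom : ℕ → List ℕ → ℕ
  | acc, [] => acc
  | acc, l :: w => evalFrom (cmulR acc (gcode l)) w

/-- The code of a word. -/
def evalW (w : List ℕ) : ℕ := evalFrom cone w

theorem gen_g1 : gen 21 = cg1 := rfl
theorem gen_g2 : gen 40 = cg2 := rfl

theorem word_ok : ∀ l : Fin 45, evalW (word l.val) = gen l.val := by decide +kernel

theorem gcode_linv (l : ℕ) : cmulR (gcode l) (gcode (linv l)) = cone := by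
  rcases l with _ | _ | l
  · decide +kernel
  · decide +kernel
  · show cmulR cg1i cg1 = cone
    decide +kernel

theorem linv_gcode (l : ℕ) : cmulR (gcode (linv l)) (gcode l) = cone := by
  rcases l with _ | _ | l
  · decide +kernel
  · decide +kernel
  · show cmulR cg1 cg1i = cone
    decide +kernel

/-! ### The entries of the generators -/

/-- `ω ^ n` as a number. -/
def pw (n : ZMod 3) : ℕ := n.val + 1

/-- Entries of `A_Z`. -/
def eA (Z w z : F9) : ℕ := if w = z then pw (Z.1 * w.1 + Z.2 * w.2) else 0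

/-- Entries of `E_Z`. -/
def eE (Z w z : F9) : ℕ := if w = z then pw ((Z.1 - w.1) ^ 2 + (Z.2 - w.2) ^ 2) else 0

/-- The coefficient of `D_Z`. -/
def lamN (Z z : F9) : ℕ :=
  if z = 0 then 1
  else if F9.div Z z = F9.I - F9.one then 2
  else if F9.div Z z = -F9.I - F9.one then 3
  else 1

/-- Entries of `D_Z`. -/
def eD (Z w z : F9) : ℕ := if w = z + Z then lamN Z z else 0

/-- Entries of `B_Z`. -/
def eB (Z w z : F9) : ℕ := if w = F9.mul Z z then 1 else 0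

/-- Entries of `C_Z`. -/
def eC (Z w z : F9) : ℕ :=
  if z = 0 then (if w = 0 then 1 else 0)
  else if w = -F9.div Z z ∨ w = F9.mul F9.I (F9.div Z z) ∨ w = -F9.mul F9.I (F9.div Z z) then 1
  else 0

theorem ent_A : ∀ Z w z : F9, ent (gen (ix Z)) (ix w) (ix z) = eA Z w z := by decide +kernel
theorem ent_E : ∀ Z w z : F9, ent (gen (9 + ix Z)) (ix w) (ix z) = eE Z w z := by decide +kernel
theorem ent_D : ∀ Z w z : F9, ent (gen (18 + ix Z)) (ix w) (ix z) = eD Z w z := by decide +kernel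
theorem ent_B : ∀ Z w z : F9, Z ≠ 0 → ent (gen (27 + ix Z)) (ix w) (ix z) = eB Z w z := by
  decide +kernel
theorem ent_C : ∀ Z w z : F9, Z ≠ 0 → ent (gen (36 + ix Z)) (ix w) (ix z) = eC Z w z := by
  decide +kernel

section Field

variable {F : Type*} [Field F] {ω : F}

theorem val4_zero : val4 F ω 0 = 0 := by simp [val4]
theorem val4_one : val4 F ω 1 = 1 := by simp [val4]
theorem val4_two : val4 F ω 2 = ω := by simp [val4]
theorem val4_three (h2 : (2 : F) = 0) (hω : ω ^ 2 + ω + 1 = 0) : val4 F ω 3 = ω ^ 2 := by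
  simp only [val4]
  norm_num
  linear_combination (-1 : F) * hω + (ω + 1) * h2

theorem val4_pw (h2 : (2 : F) = 0) (hω : ω ^ 2 + ω + 1 = 0) (n : ZMod 3) :
    val4 F ω (pw n) = omegaPow F ω n := by
  fin_cases n
  · show val4 F ω 1 = ω ^ 0
    rw [val4_one, pow_zero]
  · show val4 F ω 2 = ω ^ 1
    rw [val4_two, pow_one]
  · show val4 F ω 3 = ω ^ 2
    exact val4_three h2 hω

theorem toMat_gen_A (h2 : (2 : F) = 0) (hω : ω ^ 2 + ω + 1 = 0) (Z : F9) :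
    toMat F ω (gen (ix Z)) = j3A F ω Z := by
  ext w z
  rw [toMat_apply, ent_A, eA, j3A, Matrix.diagonal_apply]
  split_ifs
  · exact val4_pw h2 hω _
  · exact val4_zero

theorem toMat_gen_E (h2 : (2 : F) = 0) (hω : ω ^ 2 + ω + 1 = 0) (Z : F9) :
    toMat F ω (gen (9 + ix Z)) = j3E F ω Z := by
  ext w z
  rw [toMat_apply, ent_E, eE, j3E, Matrix.diagonal_apply]
  split_ifs
  · exact val4_pw h2 hω _
  · exact val4_zero

theorem toMat_gen_D (h2 : (2 : F) = 0) (hω : ω ^ 2 + ω + 1 = 0) (Z : F9) :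
    toMat F ω (gen (18 + ix Z)) = j3D F ω Z := by
  ext w z
  rw [toMat_apply, ent_D, eD, j3D, Matrix.of_apply, lamN, j3Lam]
  split_ifs
  · exact val4_one
  · exact val4_two
  · exact val4_three h2 hω
  · exact val4_one
  · exact val4_zero

theorem toMat_gen_B {Z : F9} (hZ : Z ≠ 0) : toMat F ω (gen (27 + ix Z)) = j3B F Z := by
  ext w z
  rw [toMat_apply, ent_B Z w z hZ, eB, j3B, Matrix.of_apply]
  split_ifs
  · exact val4_one
  · exact val4_zero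

theorem toMat_gen_C {Z : F9} (hZ : Z ≠ 0) : toMat F ω (gen (36 + ix Z)) = j3C F Z := by
  ext w z
  rw [toMat_apply, ent_C Z w z hZ, eC, j3C, Matrix.of_apply]
  split_ifs
  · exact val4_one
  · exact val4_zero
  · exact val4_one
  · exact val4_zero

/-- Every generating matrix is the matrix of a slot. -/
theorem exists_gen_of_mem (h2 : (2 : F) = 0) (hω : ω ^ 2 + ω + 1 = 0) {m : Matrix F9 F9 F}
    (hm : m ∈ j3Gens F ω) : ∃ l < 45, m = toMat F ω (gen l) := by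
  rcases hm with (((⟨Z, rfl⟩ | ⟨Z, rfl⟩) | ⟨Z, rfl⟩) | ⟨Z, hZ, rfl⟩) | ⟨Z, hZ, rfl⟩
  · exact ⟨ix Z, by have := ix_lt Z; omega, (toMat_gen_A h2 hω Z).symm⟩
  · exact ⟨9 + ix Z, by have := ix_lt Z; omega, (toMat_gen_E h2 hω Z).symm⟩
  · exact ⟨18 + ix Z, by have := ix_lt Z; omega, (toMat_gen_D h2 hω Z).symm⟩
  · exact ⟨27 + ix Z, by have := ix_lt Z; omega, (toMat_gen_B hZ).symm⟩
  · exact ⟨36 + ix Z, by have := ix_lt Z; omega, (toMat_gen_C hZ).symm⟩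

end Field

end Cfsg.Agent.Lib.Helper90_J3Gens
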