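import Mathlib
import Cfsg.Prelude.Def_Spor_J3
import Cfsg.Agent.Lib.Helper90_CodeTable
import Cfsg.Agent.Lib.Helper90_J3Core
import Cfsg.Agent.Lib.Helper90_J3Gens

/-!
# From codes to elements of `3·J₃ ≤ GL₉(4)` (helper90)

Letters and words as elements of `GL F9 F`, membership in `threeJ3`, and the passage from the
subgroup generated to the submonoid of matrices generated by the two letters.
-/

set_option autoImplicit false

namespace Cfsg.Agent.Lib.Helper90_J3Group

open Cfsg.Spor Cfsg.Agent.Lib.Helper90_CodeTable Cfsg.Agent.Lib.Helper90_J3Core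
  Cfsg.Agent.Lib.Helper90_J3Gens

variable {F : Type*} [Field F] {ω : F}

/-- The matrices. -/
abbrev M9 (F : Type*) [Field F] : Type _ := Matrix F9 F9 F

section Units

variable (h2 : (2 : F) = 0) (hω : ω ^ 2 + ω + 1 = 0)

/-- The element of `GL₉(F)` with a given code, from the code of its inverse. -/
def mkU (c ci : ℕ) (h : cmulR c ci = cone) (h' : cmulR ci c = cone) : GL F9 F where
  val := toMat F ω c
  inv := toMat F ω ci
  val_inv := by rw [← toMat_cmulR h2 hω, h, toMat_cone]
  inv_val := by rw [← toMat_cmulR h2 hω, h', toMat_cone]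

theorem coe_mkU (c ci : ℕ) (h : cmulR c ci = cone) (h' : cmulR ci c = cone) :
    ((mkU h2 hω c ci h h' : GL F9 F) : M9 F) = toMat F ω c := rfl

/-- The letters in `GL₉(F)`. -/
def glet (l : ℕ) : GL F9 F := mkU h2 hω (gcode l) (gcode (linv l)) (gcode_linv l) (linv_gcode l)

theorem coe_glet (l : ℕ) : ((glet h2 hω l : GL F9 F) : M9 F) = toMat F ω (gcode l) := rfl

/-- The value of a word in `GL₉(F)`. -/
def evalG (w : List ℕ) : GL F9 F := (w.map (glet h2 hω)).prod

theorem toMat_evalFrom (acc : ℕ) (w : List ℕ) :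
    toMat F ω (evalFrom acc w) = toMat F ω acc * (evalG h2 hω w : M9 F) := by
  induction w generalizing acc with
  | nil => simp [evalFrom, evalG]
  | cons l w ih =>
    rw [evalFrom, ih, toMat_cmulR h2 hω, ← coe_glet h2 hω]
    simp [evalG, mul_assoc]

theorem toMat_evalW (w : List ℕ) : toMat F ω (evalW w) = (evalG h2 hω w : M9 F) := by
  unfold evalW
  rw [toMat_evalFrom h2 hω, toMat_cone, one_mul]

theorem glet_zero_mem : glet h2 hω 0 ∈ threeJ3 F ω := by
  apply Subgroup.subset_closure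
  show ((glet h2 hω 0 : GL F9 F) : M9 F) ∈ j3Gens F ω
  rw [coe_glet]
  refine Or.inl (Or.inl (Or.inr ⟨((1 : ZMod 3), (0 : ZMod 3)), ?_⟩))
  exact (toMat_gen_D h2 hω _).symm

theorem glet_one_mem : glet h2 hω 1 ∈ threeJ3 F ω := by
  apply Subgroup.subset_closure
  show ((glet h2 hω 1 : GL F9 F) : M9 F) ∈ j3Gens F ω
  rw [coe_glet]
  refine Or.inr ⟨((1 : ZMod 3), (1 : ZMod 3)), by decide, ?_⟩
  exact (toMat_gen_C (F := F) (ω := ω) (Z := ((1 : ZMod 3), (1 : ZMod 3))) (by decide))

theorem glet_two_eq (l : ℕ) : glet h2 hω (l + 2) = (glet h2 hω 0)⁻¹ := by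
  symm
  apply inv_eq_of_mul_eq_one_right
  apply Units.ext
  rw [Units.val_mul, coe_glet, coe_glet, ← toMat_cmulR h2 hω]
  show toMat F ω (cmulR cg1 cg1i) = _
  rw [show cmulR cg1 cg1i = cone by decide +kernel, toMat_cone]
  rfl

theorem glet_mem (l : ℕ) : glet h2 hω l ∈ threeJ3 F ω := by
  rcases l with _ | _ | l
  · exact glet_zero_mem h2 hω
  · exact glet_one_mem h2 hω
  · rw [glet_two_eq]
    exact Subgroup.inv_mem _ (glet_zero_mem h2 hω)

theorem evalG_mem (w : List ℕ) : evalG h2 hω w ∈ threeJ3 F ω := by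
  unfold evalG
  apply Subgroup.list_prod_mem
  intro g hg
  obtain ⟨l, _, rfl⟩ := List.mem_map.mp hg
  exact glet_mem h2 hω l

theorem evalG_append (u v : List ℕ) : evalG h2 hω (u ++ v) = evalG h2 hω u * evalG h2 hω v := by
  simp [evalG]

theorem evalG_cons (l : ℕ) (w : List ℕ) : evalG h2 hω (l :: w) = glet h2 hω l * evalG h2 hω w := by
  simp [evalG]

/-- Equality of two words in `GL₉(F)` from the equality of their codes. -/
theorem evalG_eq_of_code {u v : List ℕ} (h : evalW u = evalW v) :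
    evalG h2 hω u = evalG h2 hω v := by
  apply Units.ext
  rw [← toMat_evalW h2 hω, ← toMat_evalW h2 hω, h]

/-- Disequality of two words in `GL₉(F)` from the disequality of their normal forms. -/
theorem evalG_ne_of_code {u v : List ℕ} (h : cnorm (evalW u) ≠ cnorm (evalW v)) :
    evalG h2 hω u ≠ evalG h2 hω v := by
  intro heq
  apply toMat_ne h2 hω h
  rw [toMat_evalW h2 hω, toMat_evalW h2 hω, heq]

/-- The order of the value of a word, from its code. -/
theorem orderOf_evalG {w : List ℕ} {p : ℕ} [hp : Fact p.Prime] (h1 : cpow (evalW w) p = cone)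
    (hne : cnorm (evalW w) ≠ cnorm cone) : orderOf (evalG h2 hω w) = p := by
  apply orderOf_eq_prime
  · apply Units.ext
    rw [Units.val_pow_eq_pow_val, ← toMat_evalW h2 hω, ← toMat_cpow h2 hω, h1, toMat_cone]
    rfl
  · intro h
    apply toMat_ne h2 hω hne
    rw [toMat_evalW h2 hω, h, toMat_cone]
    rfl

/-! ### The submonoid of matrices generated by the two letters -/

include h2 hω

theorem toMat_gcode_mem (l : ℕ) : toMat F ω (gcode l) ∈ genMon (toMat F ω) gcode 2 := by
  have h0 : toMat F ω (gcode 0) ∈ genMon (toMat F ω) gcode 2 :=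
    Submonoid.subset_closure ⟨0, by norm_num, rfl⟩
  rcases l with _ | _ | l
  · exact h0
  · exact Submonoid.subset_closure ⟨1, by norm_num, rfl⟩
  · show toMat F ω cg1i ∈ _
    rw [show cg1i = cpow cg1 8 by decide +kernel, toMat_cpow h2 hω]
    exact Submonoid.pow_mem _ h0 8

theorem toMat_evalFrom_mem (acc : ℕ) (w : List ℕ)
    (hacc : toMat F ω acc ∈ genMon (toMat F ω) gcode 2) :
    toMat F ω (evalFrom acc w) ∈ genMon (toMat F ω) gcode 2 := by
  induction w generalizing acc with
  | nil => exact hacc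
  | cons l w ih =>
    rw [evalFrom]
    apply ih
    rw [toMat_cmulR h2 hω]
    exact Submonoid.mul_mem _ hacc (toMat_gcode_mem h2 hω l)

theorem toMat_evalW_mem (w : List ℕ) : toMat F ω (evalW w) ∈ genMon (toMat F ω) gcode 2 := by
  apply toMat_evalFrom_mem h2 hω
  rw [toMat_cone]
  exact Submonoid.one_mem _

end Units

/-! ### From subgroups of `GL₉(F)` to submonoids of matrices -/

theorem coe_mem_mclosure [Finite F] (S : Set (GL F9 F)) {g : GL F9 F}
    (hg : g ∈ Subgroup.closure S) :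
    (g : M9 F) ∈ Submonoid.closure ((fun u : GL F9 F => (u : M9 F)) '' S) := by
  have h1 : g ∈ Submonoid.closure S := by
    rw [← Subgroup.closure_toSubmonoid_of_finite]
    exact hg
  have h2 := Submonoid.mem_map_of_mem (Units.coeHom (M9 F)) h1
  rwa [MonoidHom.map_mclosure] at h2

theorem exists_of_mem_mclosure (S : Set (GL F9 F)) {m : M9 F}
    (hm : m ∈ Submonoid.closure ((fun u : GL F9 F => (u : M9 F)) '' S)) :
    ∃ g ∈ Subgroup.closure S, (g : M9 F) = m := by
  have h1 : Submonoid.closure ((fun u : GL F9 F => (u : M9 F)) '' S) =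
      (Submonoid.closure S).map (Units.coeHom (M9 F)) :=
    (MonoidHom.map_mclosure (Units.coeHom (M9 F)) S).symm
  rw [h1] at hm
  obtain ⟨g, hg, rfl⟩ := hm
  exact ⟨g, Subgroup.le_closure_toSubmonoid S hg, rfl⟩

/-- Every element of `3·J₃` lies in the submonoid of matrices generated by `g₁`, `g₂`. -/
theorem coe_mem_genMon [Finite F] (h2 : (2 : F) = 0) (hω : ω ^ 2 + ω + 1 = 0) {g : GL F9 F}
    (hg : g ∈ threeJ3 F ω) : (g : M9 F) ∈ genMon (toMat F ω) gcode 2 := by
  have h1 := coe_mem_mclosure _ hg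
  refine (Submonoid.closure_le.mpr ?_) h1
  rintro _ ⟨u, hu, rfl⟩
  obtain ⟨l, hl, h⟩ := exists_gen_of_mem h2 hω hu
  show (u : M9 F) ∈ genMon (toMat F ω) gcode 2
  rw [h, ← word_ok ⟨l, hl⟩]
  exact toMat_evalW_mem h2 hω _

/-! ### Subgroups generated by words -/

section Words

variable (h2 : (2 : F) = 0) (hω : ω ^ 2 + ω + 1 = 0)

/-- The set of the values of the words `ws l`, `l < ng`. -/
def wordSet (ws : ℕ → List ℕ) (ng : ℕ) : Set (GL F9 F) :=
  {g | ∃ l < ng, g = evalG h2 hω (ws l)}

theorem coe_image_wordSet {ws : ℕ → List ℕ} {gen' : ℕ → ℕ} {ng : ℕ}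
    (hgen : ∀ l < ng, evalW (ws l) = gen' l) :
    (fun u : GL F9 F => (u : M9 F)) '' wordSet h2 hω ws ng =
      {m : M9 F | ∃ l < ng, m = toMat F ω (gen' l)} := by
  ext m
  constructor
  · rintro ⟨u, ⟨l, hl, rfl⟩, rfl⟩
    exact ⟨l, hl, by rw [← hgen l hl, toMat_evalW h2 hω]⟩
  · rintro ⟨l, hl, rfl⟩
    exact ⟨evalG h2 hω (ws l), ⟨l, hl, rfl⟩, by rw [← hgen l hl, toMat_evalW h2 hω]⟩

theorem wordSet_le (ws : ℕ → List ℕ) (ng : ℕ) :
    Subgroup.closure (wordSet h2 hω ws ng) ≤ threeJ3 F ω := by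
  rw [Subgroup.closure_le]
  rintro g ⟨l, _, rfl⟩
  exact evalG_mem h2 hω _

variable {ws : ℕ → List ℕ} {gen' : ℕ → ℕ} {ng n : ℕ} {T : ℕ → ℕ} {cl : ℕ → ℕ → ℕ}
  {par lett : ℕ → ℕ} {p : ℕ}

/-- Every element of the subgroup generated by the words is in the table. -/
theorem closure_mem_table [Finite F] (hgen : ∀ l < ng, evalW (ws l) = gen' l) (hn : 0 < n)
    (h0 : T 0 = cone) (hcl : allLt n (chkCl cmulR T n gen' ng cl) = true) :
    ∀ g ∈ Subgroup.closure (wordSet h2 hω ws ng), ∃ i < n, (g : M9 F) = toMat F ω (T i) := by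
  intro g hg
  apply mem_table (toMat_cmulR h2 hω) toMat_cone hn h0 (allLt_spec hcl)
  have h1 := coe_mem_mclosure _ hg
  rw [coe_image_wordSet h2 hω hgen] at h1
  exact h1

/-- Every entry of the table is in the subgroup generated by the words. -/
theorem table_mem_closure (hgen : ∀ l < ng, evalW (ws l) = gen' l)
    (h0 : T 0 = cone) (hcl : allLt n (chkCl cmulR T n gen' ng cl) = true)
    (htree : allLt n (chkTree ng cl par lett) = true) :
    ∀ i < n, ∃ g ∈ Subgroup.closure (wordSet h2 hω ws ng), (g : M9 F) = toMat F ω (T i) := by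
  intro i hi
  apply exists_of_mem_mclosure
  rw [coe_image_wordSet h2 hω hgen]
  exact table_mem (toMat_cmulR h2 hω) toMat_cone h0 (allLt_spec hcl) (allLt_spec htree) i hi

/-- The order of the subgroup generated by the words. -/
theorem card_closure_table [Finite F] (hgen : ∀ l < ng, evalW (ws l) = gen' l) (hn : 0 < n)
    (h0 : T 0 = cone) (hcl : allLt n (chkCl cmulR T n gen' ng cl) = true)
    (htree : allLt n (chkTree ng cl par lett) = true)
    (hdist : bmLoop cnorm T p n 0 0 = true) :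
    Nat.card (Subgroup.closure (wordSet h2 hω ws ng)) = n := by
  have h1 := closure_mem_table h2 hω hgen hn h0 hcl
  have h3' := table_mem_closure h2 hω hgen h0 hcl htree
  have h3 := bmLoop_spec (toM := toMat F ω) (fun a b => cnorm_eq_of_toMat_eq h2 hω) hdist
  choose! g hg hgT using h3'
  let f : Fin n → Subgroup.closure (wordSet h2 hω ws ng) := fun i => ⟨g i, hg i i.2⟩
  have hf : Function.Bijective f := by
    constructor
    · intro i j hij
      have e : g i = g j := congrArg Subtype.val hij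
      have e2 : toMat F ω (T i) = toMat F ω (T j) := by rw [← hgT i i.2, ← hgT j j.2, e]
      exact Fin.ext (h3 i i.2 j j.2 e2)
    · rintro ⟨u, hu⟩
      obtain ⟨i, hi, hui⟩ := h1 u hu
      refine ⟨⟨i, hi⟩, Subtype.ext (Units.ext ?_)⟩
      show ((g i : GL F9 F) : M9 F) = u
      rw [hgT i hi, hui]
  rw [← Nat.card_eq_of_bijective f hf, Nat.card_eq_fintype_card, Fintype.card_fin]

end Words

end Cfsg.Agent.Lib.Helper90_J3Group
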