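import Mathlib
import Cfsg.Prelude.Def_Spor_J3
import Cfsg.Agent.Lib.Helper90_CodeTable
import Cfsg.Agent.Lib.Helper90_J3Core
import Cfsg.Agent.Lib.Helper90_J3Gens
import Cfsg.Agent.Lib.Helper90_J3Group
import Cfsg.Agent.Lib.Helper90_J3DataK
import Cfsg.Agent.Lib.Helper90_J3DataB
import Cfsg.Agent.Lib.Helper90_J3DataP
import Cfsg.Agent.Lib.Helper90_J3Cos0
import Cfsg.Agent.Lib.Helper90_J3Cos1
import Cfsg.Agent.Lib.Helper90_J3Cos2
import Cfsg.Agent.Lib.Helper90_J3Cos3
import Cfsg.Agent.Lib.Helper90_J3Cos4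
import Cfsg.Agent.Lib.Helper90_J3Cos5
import Cfsg.Agent.Lib.Helper90_J3Cos6
import Cfsg.Agent.Lib.Helper90_J3Cos7

/-!
# The order of `3·J₃ ≤ GL₉(4)` is 150698880 (helper90)

Upper bound: every element is `K c * B j` (6480 · 23256 products).  Lower bound: Lagrange, with
elements of orders 5, 17, 19, a subgroup of order `3⁶` and a subgroup of order `2⁷`.
-/

set_option autoImplicit false

namespace Cfsg.Agent.Lib.Helper90_J3Order

open Cfsg.Spor Cfsg.Agent.Lib.Helper90_CodeTable Cfsg.Agent.Lib.Helper90_J3Core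
  Cfsg.Agent.Lib.Helper90_J3Gens Cfsg.Agent.Lib.Helper90_J3Group
  Cfsg.Agent.Lib.Helper90_J3DataK Cfsg.Agent.Lib.Helper90_J3DataB
  Cfsg.Agent.Lib.Helper90_J3DataP
  Cfsg.Agent.Lib.Helper90_J3Cos0 Cfsg.Agent.Lib.Helper90_J3Cos1 Cfsg.Agent.Lib.Helper90_J3Cos2
  Cfsg.Agent.Lib.Helper90_J3Cos3 Cfsg.Agent.Lib.Helper90_J3Cos4 Cfsg.Agent.Lib.Helper90_J3Cos5
  Cfsg.Agent.Lib.Helper90_J3Cos6 Cfsg.Agent.Lib.Helper90_J3Cos7

theorem cosets_ok : ∀ j < 23256, chkCos cmulR Ktab 6480 Btab 23256 gcode 2 Mc Mj j = true := by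
  intro j hj
  by_cases h0 : j < 2907
  · exact allFrom_spec cos_0 j (by omega) (by omega)
  by_cases h1 : j < 5814
  · exact allFrom_spec cos_1 j (by omega) (by omega)
  by_cases h2 : j < 8721
  · exact allFrom_spec cos_2 j (by omega) (by omega)
  by_cases h3 : j < 11628
  · exact allFrom_spec cos_3 j (by omega) (by omega)
  by_cases h4 : j < 14535
  · exact allFrom_spec cos_4 j (by omega) (by omega)
  by_cases h5 : j < 17442
  · exact allFrom_spec cos_5 j (by omega) (by omega)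
  by_cases h6 : j < 20349
  · exact allFrom_spec cos_6 j (by omega) (by omega)
  · exact allFrom_spec cos_7 j (by omega) (by omega)

variable {F : Type*} [Field F] {ω : F}

section Order

variable (h2 : (2 : F) = 0) (hω : ω ^ 2 + ω + 1 = 0)

include h2 hω

/-- Every element of `3·J₃` is a product `K c * B j`. -/
theorem mem_cosets_J3 [Finite F] (g : GL F9 F) (hg : g ∈ threeJ3 F ω) :
    ∃ c < 6480, ∃ j < 23256, (g : M9 F) = toMat F ω (Ktab c) * toMat F ω (Btab j) := by
  have hA1 := mem_table (toMat_cmulR h2 hω) toMat_cone (by norm_num : 0 < 6480) K_zero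
    (allLt_spec K_closed_all)
  have hA2 := table_mem (toMat_cmulR h2 hω) toMat_cone K_zero (allLt_spec K_closed_all)
    (allLt_spec K_tree_all)
  exact mem_cosets (toMat_cmulR h2 hω) toMat_cone hA1 hA2 (by norm_num) K_zero (by norm_num)
    B_zero cosets_ok _ (coe_mem_genMon h2 hω hg)

theorem card_le [Finite F] : Nat.card (threeJ3 F ω) ≤ 150698880 := by
  classical
  obtain ⟨U, hU, hmem⟩ : ∃ U : Finset (M9 F), U.card ≤ 150698880 ∧
      ∀ c < 6480, ∀ j < 23256, toMat F ω (Ktab c) * toMat F ω (Btab j) ∈ U := by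
    refine ⟨((Finset.range 6480) ×ˢ (Finset.range 23256)).image
      (fun p => toMat F ω (Ktab p.1) * toMat F ω (Btab p.2)), ?_, ?_⟩
    · refine le_trans Finset.card_image_le ?_
      rw [Finset.card_product, Finset.card_range, Finset.card_range]
    · intro c hc j hj
      rw [Finset.mem_image]
      exact ⟨(c, j), by rw [Finset.mem_product, Finset.mem_range, Finset.mem_range]; exact ⟨hc, hj⟩,
        rfl⟩
  let f : threeJ3 F ω → M9 F := fun g => ((g : GL F9 F) : M9 F)
  have hf : Function.Injective f := by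
    intro a b hab
    exact Subtype.ext (Units.ext hab)
  have hsub : Set.range f ⊆ (U : Set (M9 F)) := by
    intro m hm
    obtain ⟨g, rfl⟩ := hm
    obtain ⟨c, hc, j, hj, h⟩ := mem_cosets_J3 h2 hω g g.2
    rw [Finset.mem_coe]
    show ((g : GL F9 F) : M9 F) ∈ U
    rw [h]
    exact hmem c hc j hj
  calc Nat.card (threeJ3 F ω) = Nat.card (Set.range f) := (Nat.card_range_of_injective hf).symm
    _ = (Set.range f).ncard := rfl
    _ ≤ (U : Set (M9 F)).ncard := Set.ncard_le_ncard hsub (Finset.finite_toSet U)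
    _ = U.card := Set.ncard_coe_finset U
    _ ≤ 150698880 := hU

end Order

/-- The word of an element of order 5. -/
def w5 : List ℕ := [0, 0, 1, 2, 2, 1]
/-- The word of an element of order 17. -/
def w17 : List ℕ := [0, 0, 1, 0, 1, 0, 1]
/-- The word of an element of order 19. -/
def w19 : List ℕ := [0, 0, 0, 0, 1, 0, 0, 1, 2, 2, 2, 2, 1]

theorem pow_w5 : cpow (evalW w5) 5 = cone := by decide +kernel
theorem ne_w5 : cnorm (evalW w5) ≠ cnorm cone := by decide +kernel
theorem pow_w17 : cpow (evalW w17) 17 = cone := by decide +kernel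
theorem ne_w17 : cnorm (evalW w17) ≠ cnorm cone := by decide +kernel
theorem pow_w19 : cpow (evalW w19) 19 = cone := by decide +kernel
theorem ne_w19 : cnorm (evalW w19) ≠ cnorm cone := by decide +kernel

section Order2

variable (h2 : (2 : F) = 0) (hω : ω ^ 2 + ω + 1 = 0)

theorem orderOf_w5 : orderOf (evalG h2 hω w5) = 5 :=
  haveI : Fact (Nat.Prime 5) := ⟨by norm_num⟩; orderOf_evalG h2 hω pow_w5 ne_w5
theorem orderOf_w17 : orderOf (evalG h2 hω w17) = 17 :=
  haveI : Fact (Nat.Prime 17) := ⟨by norm_num⟩; orderOf_evalG h2 hω pow_w17 ne_w17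
theorem orderOf_w19 : orderOf (evalG h2 hω w19) = 19 :=
  haveI : Fact (Nat.Prime 19) := ⟨by norm_num⟩; orderOf_evalG h2 hω pow_w19 ne_w19

/-- The subgroup of order `3⁶`. -/
def P3 : Subgroup (GL F9 F) := Subgroup.closure (wordSet h2 hω ws3 3)

/-- The subgroup of order `2⁷`. -/
def P2 : Subgroup (GL F9 F) := Subgroup.closure (wordSet h2 hω ws2 3)

theorem T3_gen' : ∀ l < 3, evalW (ws3 l) = gen3 l := fun l hl => T3_gen ⟨l, hl⟩
theorem T2_gen' : ∀ l < 3, evalW (ws2 l) = gen2 l := fun l hl => T2_gen ⟨l, hl⟩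

theorem card_P3 [Finite F] : Nat.card (P3 h2 hω) = 729 :=
  card_closure_table h2 hω T3_gen' (by norm_num) T3_zero T3_closed_all T3_tree_all T3_dist

theorem card_P2 [Finite F] : Nat.card (P2 h2 hω) = 128 :=
  card_closure_table h2 hω T2_gen' (by norm_num) T2_zero T2_closed_all T2_tree_all T2_dist

theorem P3_le : P3 h2 hω ≤ threeJ3 F ω := wordSet_le h2 hω _ _
theorem P2_le : P2 h2 hω ≤ threeJ3 F ω := wordSet_le h2 hω _ _

include h2 hω

theorem card_dvd [Finite F] : 150698880 ∣ Nat.card (threeJ3 F ω) := by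
  have h5 : 5 ∣ Nat.card (threeJ3 F ω) := by
    have h := Subgroup.orderOf_dvd_natCard (threeJ3 F ω) (evalG_mem h2 hω w5)
    rwa [orderOf_w5] at h
  have h17 : 17 ∣ Nat.card (threeJ3 F ω) := by
    have h := Subgroup.orderOf_dvd_natCard (threeJ3 F ω) (evalG_mem h2 hω w17)
    rwa [orderOf_w17] at h
  have h19 : 19 ∣ Nat.card (threeJ3 F ω) := by
    have h := Subgroup.orderOf_dvd_natCard (threeJ3 F ω) (evalG_mem h2 hω w19)
    rwa [orderOf_w19] at h
  have h729 : 729 ∣ Nat.card (threeJ3 F ω) := by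
    have h := Subgroup.card_dvd_of_le (P3_le h2 hω)
    rwa [card_P3] at h
  have h128 : 128 ∣ Nat.card (threeJ3 F ω) := by
    have h := Subgroup.card_dvd_of_le (P2_le h2 hω)
    rwa [card_P2] at h
  have c1 : 128 * 729 ∣ Nat.card (threeJ3 F ω) :=
    Nat.Coprime.mul_dvd_of_dvd_of_dvd (by norm_num) h128 h729
  have c2 : 128 * 729 * 5 ∣ Nat.card (threeJ3 F ω) :=
    Nat.Coprime.mul_dvd_of_dvd_of_dvd (by norm_num) c1 h5
  have c3 : 128 * 729 * 5 * 17 ∣ Nat.card (threeJ3 F ω) :=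
    Nat.Coprime.mul_dvd_of_dvd_of_dvd (by norm_num) c2 h17
  have c4 : 128 * 729 * 5 * 17 * 19 ∣ Nat.card (threeJ3 F ω) :=
    Nat.Coprime.mul_dvd_of_dvd_of_dvd (by norm_num) c3 h19
  exact c4

/-- The order of `3·J₃`. -/
theorem card_threeJ3 [Finite F] : Nat.card (threeJ3 F ω) = 150698880 :=
  Nat.le_antisymm (card_le h2 hω) (Nat.le_of_dvd Nat.card_pos (card_dvd h2 hω))

end Order2

end Cfsg.Agent.Lib.Helper90_J3Order
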