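import Mathlib

/-!
# Normal subgroups, elements of prime order and coprime action (helper90)

* `mem_of_pow_prime`: a normal subgroup `N` with `p ∣ |N|`, `p² ∤ |G|` contains every `g` with
  `g ^ p = 1`.
* `centralizes_of_coprime`: an element `u` of prime order `r` centralizes a normal subgroup `M` of
  order prime to `r` as soon as no prime power `p ^ k > 1` dividing `|M|` is `≡ 1` modulo `r`
  (`u` fixes a Sylow `p`-subgroup of `M` for every `p`, and centralizes it by counting).
-/

set_option autoImplicit false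

namespace Cfsg.Agent.Lib.Helper90_Coprime

open scoped Pointwise

/-- If `p ∣ |N|` and `p² ∤ |G|` then the normal subgroup `N` contains all `g` with `g ^ p = 1`. -/
theorem mem_of_pow_prime {G : Type*} [Group G] (N : Subgroup G) [N.Normal] {p : ℕ}
    (hp : p.Prime) (hpN : p ∣ Nat.card N) (hp2 : ¬ p ^ 2 ∣ Nat.card G) {g : G}
    (hg : g ^ p = 1) : g ∈ N := by
  have : Fact p.Prime := ⟨hp⟩
  rw [← QuotientGroup.eq_one_iff (N := N)]
  by_contra hne
  have h1 : (QuotientGroup.mk g : G ⧸ N) ^ p = 1 := by
    rw [← QuotientGroup.mk_pow, hg]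
    rfl
  have h2 : orderOf (QuotientGroup.mk g : G ⧸ N) = p := orderOf_eq_prime h1 hne
  have h3 : p ∣ Nat.card (G ⧸ N) := by
    have := orderOf_dvd_natCard (QuotientGroup.mk g : G ⧸ N)
    rwa [h2] at this
  apply hp2
  rw [Subgroup.card_eq_card_quotient_mul_card_subgroup N, pow_two]
  exact Nat.mul_dvd_mul h3 hpN

/-- Coprime action: an element `u` of prime order `r` centralizes a normal subgroup `M` whose order
is prime to `r`, as soon as no prime power `p ^ k > 1` dividing `|M|` is `≡ 1` modulo `r`. -/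
theorem centralizes_of_coprime {G : Type*} [Group G] [Finite G] (M : Subgroup G) [M.Normal]
    {u : G} {r : ℕ} [hr' : Fact r.Prime] (hu : orderOf u = r) (hr : ¬ r ∣ Nat.card M)
    (hpk : ∀ p k : ℕ, p.Prime → 0 < k → p ^ k ∣ Nat.card M → ¬ (p ^ k ≡ 1 [MOD r])) :
    ∀ m ∈ M, u * m = m * u := by
  classical
  let c : ConjAct G := ConjAct.toConjAct u
  let U : Subgroup (ConjAct G) := Subgroup.zpowers c
  have hcr : orderOf c = r := by
    rw [← hu]
    exact MulEquiv.orderOf_eq ConjAct.toConjAct u
  have hU : IsPGroup r U := IsPGroup.of_card (n := 1) (by rw [Nat.card_zpowers, hcr, pow_one])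
  let C : Subgroup M := (Subgroup.centralizer {u}).subgroupOf M
  have hC : ∀ m : M, m ∈ C ↔ c • m = m := by
    intro m
    rw [Subgroup.mem_subgroupOf, Subgroup.mem_centralizer_iff]
    simp only [Set.mem_singleton_iff, forall_eq]
    rw [Subtype.ext_iff, ConjAct.Subgroup.val_conj_smul, ConjAct.smul_def]
    show _ ↔ u * (m : G) * u⁻¹ = m
    rw [mul_inv_eq_iff_eq_mul]
  suffices h : C = ⊤ by
    intro m hm
    have : (⟨m, hm⟩ : M) ∈ C := by rw [h]; trivial
    rw [Subgroup.mem_subgroupOf, Subgroup.mem_centralizer_iff] at this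
    exact this u rfl
  apply Subgroup.eq_top_of_card_eq
  apply Nat.dvd_antisymm (Subgroup.card_subgroup_dvd_card C)
  rw [← Nat.factorization_prime_le_iff_dvd Nat.card_pos.ne' Nat.card_pos.ne']
  intro p hp
  have : Fact p.Prime := ⟨hp⟩
  rw [← hp.pow_dvd_iff_le_factorization Nat.card_pos.ne']
  -- a Sylow `p`-subgroup fixed by `u`
  have hnd : ¬ r ∣ Nat.card (Sylow p M) := by
    intro h
    have P0 : Sylow p M := default
    exact hr ((h.trans (Sylow.card_dvd_index P0)).trans (Subgroup.index_dvd_card _))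
  obtain ⟨P, hP⟩ := hU.nonempty_fixed_point_of_prime_not_dvd_card (Sylow p M) hnd
  have hPmem : ∀ g : U, ∀ x : M, x ∈ P → (g : ConjAct G) • x ∈ P := by
    intro g x hx
    have h1 : g • P = P := hP g
    have h2 : (g : ConjAct G) • (P : Subgroup M) = P := congrArg Sylow.toSubgroup h1
    have h3 : (g : ConjAct G) • x ∈ (g : ConjAct G) • (P : Subgroup M) :=
      Subgroup.smul_mem_pointwise_smul x (g : ConjAct G) P hx
    rw [h2] at h3
    exact h3
  -- the action of `U` on `P`
  let act : MulAction U P :=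
    { smul := fun g x => ⟨(g : ConjAct G) • (x : M), hPmem g x x.2⟩
      one_smul := fun x => Subtype.ext (one_smul (ConjAct G) (x : M))
      mul_smul := fun g h x => Subtype.ext (mul_smul (g : ConjAct G) (h : ConjAct G) (x : M)) }
  have hmod := hU.card_modEq_card_fixedPoints P
  let CP : Subgroup P := C.subgroupOf (P : Subgroup M)
  have hfix : MulAction.fixedPoints U P = (CP : Set P) := by
    ext x
    rw [MulAction.mem_fixedPoints, SetLike.mem_coe, Subgroup.mem_subgroupOf, hC]
    constructor
    · intro h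
      exact congrArg Subtype.val (h ⟨c, Subgroup.mem_zpowers c⟩)
    · intro h g
      have h1 : c ∈ MulAction.stabilizer (ConjAct G) (x : M) := h
      have h2 : (g : ConjAct G) ∈ MulAction.stabilizer (ConjAct G) (x : M) :=
        (Subgroup.zpowers_le.mpr h1) g.2
      exact Subtype.ext h2
  have hcardP : Nat.card P = p ^ (Nat.card M).factorization p := Sylow.card_eq_multiplicity P
  by_cases hpr : p = r
  · have h0 : (Nat.card M).factorization p = 0 := by
      rw [hpr]
      exact Nat.factorization_eq_zero_of_not_dvd hr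
    rw [h0, pow_zero]
    exact one_dvd _
  obtain ⟨k, hk, hCP⟩ := (Nat.dvd_prime_pow hp).1 (hcardP ▸ Subgroup.card_subgroup_dvd_card CP)
  have hcop : Nat.Coprime r (p ^ k) :=
    Nat.Coprime.pow_right k ((Nat.coprime_primes hr'.out hp).2 (Ne.symm hpr))
  obtain ⟨d, hd'⟩ := Nat.exists_eq_add_of_le hk
  rw [hd'] at hcardP ⊢
  have hfc : Nat.card (MulAction.fixedPoints U P) = p ^ k := by
    rw [← hCP, hfix]
    rfl
  rw [hcardP, hfc, pow_add] at hmod
  have hmod' : p ^ d ≡ 1 [MOD r] := by
    apply Nat.ModEq.cancel_left_of_coprime hcop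
    rw [mul_one]
    exact hmod
  have hd : d = 0 := by
    by_contra hd
    apply hpk p d hp (Nat.pos_of_ne_zero hd) _ hmod'
    have h1 : p ^ d ∣ p ^ (k + d) := pow_dvd_pow p (Nat.le_add_left d k)
    rw [← hcardP] at h1
    exact h1.trans (Subgroup.card_subgroup_dvd_card _)
  subst hd
  have hCPtop : CP = ⊤ := by
    apply Subgroup.eq_top_of_card_eq
    rw [hCP, hcardP, Nat.add_zero]
  have hle : (P : Subgroup M) ≤ C := by
    intro x hx
    have : (⟨x, hx⟩ : P) ∈ CP := by rw [hCPtop]; trivial
    exact this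
  rw [← hcardP]
  exact Subgroup.card_dvd_of_le hle

end Cfsg.Agent.Lib.Helper90_Coprime
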