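import Mathlib
import Cfsg.Prelude.Def_Spor_J3
import Cfsg.Agent.Lib.Helper90_CodeTable
import Cfsg.Agent.Lib.Helper90_Coprime
import Cfsg.Agent.Lib.Helper90_J3Core
import Cfsg.Agent.Lib.Helper90_J3Gens
import Cfsg.Agent.Lib.Helper90_J3Group
import Cfsg.Agent.Lib.Helper90_J3Order

/-!
# Normal subgroups of `3·J₃ ≤ GL₉(4)` (helper90)

A normal subgroup of `3·J₃` is central or everything: if 5, 17 or 19 divides its order then it
contains all the elements of order 19 (through commutators of order 19), and the two generators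
are products of two elements of order 19; otherwise its order divides `2⁷ · 3⁶` and every element of
order 19 centralizes it (`Helper90_Coprime.centralizes_of_coprime`).
-/

set_option autoImplicit false

namespace Cfsg.Agent.Lib.Helper90_J3Simple

open Cfsg.Spor Cfsg.Agent.Lib.Helper90_CodeTable Cfsg.Agent.Lib.Helper90_J3Core
  Cfsg.Agent.Lib.Helper90_J3Gens Cfsg.Agent.Lib.Helper90_J3Group
  Cfsg.Agent.Lib.Helper90_J3Order Cfsg.Agent.Lib.Helper90_Coprime

/-- The inverse word. -/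
def winv : List ℕ → List ℕ
  | [] => []
  | l :: w => winv w ++ [linv l]

/-- The commutator word `u h u⁻¹ h⁻¹`. -/
def wcomm (u h : List ℕ) : List ℕ := u ++ (h ++ (winv u ++ winv h))

/-- First factor of `g₁`. -/
def a1 : List ℕ := [1, 2, 1, 2, 2, 2, 2, 1, 2, 2, 2, 2, 1, 2, 2]
/-- Second factor of `g₁`. -/
def b1 : List ℕ := winv a1 ++ [0]
/-- First factor of `g₂`. -/
def a2 : List ℕ := [0, 0, 0, 1, 0, 1, 2, 1, 2, 2, 2, 1, 0]
/-- Second factor of `g₂`. -/
def b2 : List ℕ := winv a2 ++ [1]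
/-- The partner of the element of order 5. -/
def h5 : List ℕ := [0, 1, 0, 1, 0, 1, 0]
/-- The partner of the element of order 17. -/
def h17 : List ℕ := [0, 1, 2, 2, 1, 0]

theorem pow_a1 : cpow (evalW a1) 19 = cone := by decide +kernel
theorem ne_a1 : cnorm (evalW a1) ≠ cnorm cone := by decide +kernel
theorem pow_b1 : cpow (evalW b1) 19 = cone := by decide +kernel
theorem ne_b1 : cnorm (evalW b1) ≠ cnorm cone := by decide +kernel
theorem pow_a2 : cpow (evalW a2) 19 = cone := by decide +kernel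
theorem ne_a2 : cnorm (evalW a2) ≠ cnorm cone := by decide +kernel
theorem pow_b2 : cpow (evalW b2) 19 = cone := by decide +kernel
theorem ne_b2 : cnorm (evalW b2) ≠ cnorm cone := by decide +kernel
theorem pow_l5 : cpow (evalW (wcomm w5 h5)) 19 = cone := by decide +kernel
theorem ne_l5 : cnorm (evalW (wcomm w5 h5)) ≠ cnorm cone := by decide +kernel
theorem pow_l17 : cpow (evalW (wcomm w17 h17)) 19 = cone := by decide +kernel
theorem ne_l17 : cnorm (evalW (wcomm w17 h17)) ≠ cnorm cone := by decide +kernel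

variable {F : Type*} [Field F] {ω : F}

section Words

variable (h2 : (2 : F) = 0) (hω : ω ^ 2 + ω + 1 = 0)

theorem glet_linv (l : ℕ) : glet h2 hω (linv l) = (glet h2 hω l)⁻¹ := by
  apply eq_inv_of_mul_eq_one_left
  apply Units.ext
  rw [Units.val_mul, coe_glet, coe_glet, ← toMat_cmulR h2 hω, linv_gcode, toMat_cone]
  rfl

theorem evalG_winv (w : List ℕ) : evalG h2 hω (winv w) = (evalG h2 hω w)⁻¹ := by
  induction w with
  | nil => simp [winv, evalG]
  | cons l w ih =>
    rw [winv, evalG_append, ih, evalG_cons, evalG_cons, glet_linv, mul_inv_rev]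
    simp [evalG]

theorem evalG_wcomm (u h : List ℕ) :
    evalG h2 hω (wcomm u h) =
      evalG h2 hω u * (evalG h2 hω h * (evalG h2 hω u)⁻¹ * (evalG h2 hω h)⁻¹) := by
  unfold wcomm
  rw [evalG_append, evalG_append, evalG_append, evalG_winv, evalG_winv, mul_assoc]

/-- The value of a word, as an element of `3·J₃`. -/
def gw (w : List ℕ) : threeJ3 F ω := ⟨evalG h2 hω w, evalG_mem h2 hω w⟩

theorem gw_append (u v : List ℕ) : gw h2 hω (u ++ v) = gw h2 hω u * gw h2 hω v :=
  Subtype.ext (evalG_append h2 hω u v)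

theorem gw_winv (w : List ℕ) : gw h2 hω (winv w) = (gw h2 hω w)⁻¹ :=
  Subtype.ext (evalG_winv h2 hω w)

theorem gw_wcomm (u h : List ℕ) :
    gw h2 hω (wcomm u h) = gw h2 hω u * (gw h2 hω h * (gw h2 hω u)⁻¹ * (gw h2 hω h)⁻¹) :=
  Subtype.ext (evalG_wcomm h2 hω u h)

theorem orderOf_gw (w : List ℕ) : orderOf (gw h2 hω w) = orderOf (evalG h2 hω w) :=
  (Subgroup.orderOf_coe (gw h2 hω w)).symm

theorem orderOf_gw_eq {w : List ℕ} {p : ℕ} [Fact p.Prime] (h1 : cpow (evalW w) p = cone)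
    (hne : cnorm (evalW w) ≠ cnorm cone) : orderOf (gw h2 hω w) = p := by
  rw [orderOf_gw]
  exact orderOf_evalG h2 hω h1 hne

theorem gw_nil : gw h2 hω [] = 1 := Subtype.ext (by simp [gw, evalG])

theorem gw_mem_closure (w : List ℕ) :
    gw h2 hω w ∈ Subgroup.closure {gw h2 hω [0], gw h2 hω [1]} := by
  have h0 : gw h2 hω [0] ∈ Subgroup.closure {gw h2 hω [0], gw h2 hω [1]} :=
    Subgroup.subset_closure (by simp)
  have h1 : gw h2 hω [1] ∈ Subgroup.closure {gw h2 hω [0], gw h2 hω [1]} :=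
    Subgroup.subset_closure (by simp)
  induction w with
  | nil =>
    rw [gw_nil]
    exact Subgroup.one_mem _
  | cons l w ih =>
    have e : gw h2 hω (l :: w) = gw h2 hω [l] * gw h2 hω w := gw_append h2 hω [l] w
    rw [e]
    refine Subgroup.mul_mem _ ?_ ih
    rcases l with _ | _ | l
    · exact h0
    · exact h1
    · have e2 : gw h2 hω [l + 2] = (gw h2 hω [0])⁻¹ := by
        apply Subtype.ext
        show evalG h2 hω [l + 2] = (evalG h2 hω [0])⁻¹
        simp only [evalG, List.map_cons, List.map_nil, List.prod_cons, List.prod_nil, mul_one]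
        exact glet_two_eq h2 hω l
      rw [e2]
      exact Subgroup.inv_mem _ h0

/-- `3·J₃` is generated by `g₁` and `g₂`. -/
theorem closure_gw :
    Subgroup.closure {gw h2 hω [0], gw h2 hω [1]} = (⊤ : Subgroup (threeJ3 F ω)) := by
  rw [eq_top_iff]
  have key : threeJ3 F ω ≤
      (Subgroup.closure {gw h2 hω [0], gw h2 hω [1]}).map (threeJ3 F ω).subtype := by
    unfold threeJ3
    rw [Subgroup.closure_le]
    intro g hg
    obtain ⟨l, hl, h⟩ := exists_gen_of_mem h2 hω hg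
    refine ⟨gw h2 hω (word l), gw_mem_closure h2 hω _, ?_⟩
    apply Units.ext
    show ((evalG h2 hω (word l) : GL F9 F) : M9 F) = g
    rw [← toMat_evalW h2 hω, word_ok ⟨l, hl⟩, h]
  rintro ⟨g, hg⟩ _
  obtain ⟨g', hg', e⟩ := key hg
  have : g' = ⟨g, hg⟩ := Subtype.ext e
  rwa [this] at hg'

end Words

/-! ### Normal subgroups -/

theorem fact19 : Fact (Nat.Prime 19) := ⟨by norm_num⟩

theorem not_modEq_two (k : ℕ) (hk : 0 < k) (hk7 : k ≤ 7) : ¬ (2 ^ k ≡ 1 [MOD 19]) := by
  interval_cases k <;> decide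

theorem not_modEq_three (k : ℕ) (hk : 0 < k) (hk6 : k ≤ 6) : ¬ (3 ^ k ≡ 1 [MOD 19]) := by
  interval_cases k <;> decide

theorem not_modEq_of_dvd (p k : ℕ) (hp : p.Prime) (hk : 0 < k) (h : p ^ k ∣ 2 ^ 7 * 3 ^ 6) :
    ¬ (p ^ k ≡ 1 [MOD 19]) := by
  have hp' : p ∣ 2 ^ 7 * 3 ^ 6 := (dvd_pow_self p hk.ne').trans h
  rcases (Nat.Prime.dvd_mul hp).mp hp' with h1 | h1
  · have : p = 2 := (Nat.prime_dvd_prime_iff_eq hp Nat.prime_two).mp (hp.dvd_of_dvd_pow h1)
    subst this
    have h3 : 2 ^ k ∣ 2 ^ 7 :=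
      Nat.Coprime.dvd_of_dvd_mul_right (Nat.Coprime.pow k 6 (by norm_num)) h
    exact not_modEq_two k hk ((Nat.pow_dvd_pow_iff_le_right (by norm_num)).mp h3)
  · have : p = 3 := (Nat.prime_dvd_prime_iff_eq hp Nat.prime_three).mp (hp.dvd_of_dvd_pow h1)
    subst this
    have h3 : 3 ^ k ∣ 3 ^ 6 :=
      Nat.Coprime.dvd_of_dvd_mul_left (Nat.Coprime.pow k 7 (by norm_num)) h
    exact not_modEq_three k hk ((Nat.pow_dvd_pow_iff_le_right (by norm_num)).mp h3)

section Normal

variable (h2 : (2 : F) = 0) (hω : ω ^ 2 + ω + 1 = 0)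

theorem orderOf_a1 : orderOf (gw h2 hω a1) = 19 :=
  haveI := fact19; orderOf_gw_eq h2 hω pow_a1 ne_a1
theorem orderOf_b1 : orderOf (gw h2 hω b1) = 19 :=
  haveI := fact19; orderOf_gw_eq h2 hω pow_b1 ne_b1
theorem orderOf_a2 : orderOf (gw h2 hω a2) = 19 :=
  haveI := fact19; orderOf_gw_eq h2 hω pow_a2 ne_a2
theorem orderOf_b2 : orderOf (gw h2 hω b2) = 19 :=
  haveI := fact19; orderOf_gw_eq h2 hω pow_b2 ne_b2

theorem g1_eq : gw h2 hω [0] = gw h2 hω a1 * gw h2 hω b1 := by
  unfold b1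
  rw [gw_append, gw_winv, mul_inv_cancel_left]

theorem g2_eq : gw h2 hω [1] = gw h2 hω a2 * gw h2 hω b2 := by
  unfold b2
  rw [gw_append, gw_winv, mul_inv_cancel_left]

variable [Finite F]

include h2 hω

/-- A normal subgroup of order divisible by 19 contains every element of order 19. -/
theorem mem_of_orderOf_19 {M : Subgroup (threeJ3 F ω)} [M.Normal] (hM : 19 ∣ Nat.card M)
    {u : threeJ3 F ω} (hu : orderOf u = 19) : u ∈ M := by
  apply mem_of_pow_prime M (by norm_num : Nat.Prime 19) hM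
  · rw [card_threeJ3 h2 hω]
    norm_num
  · rw [← hu]
    exact pow_orderOf_eq_one u

theorem eq_top_of_19 {M : Subgroup (threeJ3 F ω)} [M.Normal] (hM : 19 ∣ Nat.card M) : M = ⊤ := by
  have h0 : gw h2 hω [0] ∈ M := by
    rw [g1_eq]
    exact M.mul_mem (mem_of_orderOf_19 h2 hω hM (orderOf_a1 h2 hω))
      (mem_of_orderOf_19 h2 hω hM (orderOf_b1 h2 hω))
  have h1 : gw h2 hω [1] ∈ M := by
    rw [g2_eq]
    exact M.mul_mem (mem_of_orderOf_19 h2 hω hM (orderOf_a2 h2 hω))
      (mem_of_orderOf_19 h2 hω hM (orderOf_b2 h2 hω))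
  rw [eq_top_iff, ← closure_gw h2 hω, Subgroup.closure_le]
  rintro x (rfl | rfl)
  · exact h0
  · exact h1

/-- A link: if the value of `u` has prime order `p` with `p ∣ |M|`, `p² ∤ |3·J₃|`, and the
commutator of `u` and `h` has order 19, then `19 ∣ |M|`. -/
theorem link {M : Subgroup (threeJ3 F ω)} [hM : M.Normal] {u h : List ℕ} {p : ℕ} (hp : p.Prime)
    (hpM : p ∣ Nat.card M) (hp2 : ¬ p ^ 2 ∣ 150698880) (hu : orderOf (evalG h2 hω u) = p)
    (h1 : cpow (evalW (wcomm u h)) 19 = cone)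
    (hne : cnorm (evalW (wcomm u h)) ≠ cnorm cone) : 19 ∣ Nat.card M := by
  have := fact19
  have hu' : gw h2 hω u ∈ M := by
    apply mem_of_pow_prime M hp hpM (by rw [card_threeJ3 h2 hω]; exact hp2)
    rw [← hu, ← orderOf_gw]
    exact pow_orderOf_eq_one _
  have hm : gw h2 hω (wcomm u h) ∈ M := by
    rw [gw_wcomm]
    exact M.mul_mem hu' (hM.conj_mem _ (M.inv_mem hu') _)
  have ho : orderOf (gw h2 hω (wcomm u h)) = 19 := orderOf_gw_eq h2 hω h1 hne
  have := Subgroup.orderOf_dvd_natCard M hm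
  rwa [ho] at this

/-- A normal subgroup of `3·J₃` is central or everything. -/
theorem normal_dichotomy (M : Subgroup (threeJ3 F ω)) [M.Normal] :
    M ≤ Subgroup.center (threeJ3 F ω) ∨ M = ⊤ := by
  by_cases h19 : 19 ∣ Nat.card M
  · exact Or.inr (eq_top_of_19 h2 hω h19)
  by_cases h17 : 17 ∣ Nat.card M
  · exact absurd (link h2 hω (by norm_num) h17 (by norm_num) (orderOf_w17 h2 hω) pow_l17 ne_l17) h19
  by_cases h5 : 5 ∣ Nat.card M
  · exact absurd (link h2 hω (by norm_num) h5 (by norm_num) (orderOf_w5 h2 hω) pow_l5 ne_l5) h19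
  left
  have hdvd : Nat.card M ∣ 2 ^ 7 * 3 ^ 6 := by
    have h0 : Nat.card M ∣ 2 ^ 7 * 3 ^ 6 * 5 * 17 * 19 := by
      have := Subgroup.card_subgroup_dvd_card M
      rwa [card_threeJ3 h2 hω] at this
    have c19 : Nat.Coprime (Nat.card M) 19 :=
      ((Nat.Prime.coprime_iff_not_dvd (by norm_num)).mpr h19).symm
    have c17 : Nat.Coprime (Nat.card M) 17 :=
      ((Nat.Prime.coprime_iff_not_dvd (by norm_num)).mpr h17).symm
    have c5 : Nat.Coprime (Nat.card M) 5 :=
      ((Nat.Prime.coprime_iff_not_dvd (by norm_num)).mpr h5).symm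
    exact c5.dvd_of_dvd_mul_right (c17.dvd_of_dvd_mul_right (c19.dvd_of_dvd_mul_right h0))
  have := fact19
  have hcent : ∀ u : threeJ3 F ω, orderOf u = 19 → ∀ m ∈ M, u * m = m * u := by
    intro u hu
    apply centralizes_of_coprime M hu h19
    intro p k hp hk hpk
    exact not_modEq_of_dvd p k hp hk (hpk.trans hdvd)
  intro m hm
  rw [Subgroup.mem_center_iff]
  have hc0 : gw h2 hω [0] * m = m * gw h2 hω [0] := by
    rw [g1_eq, mul_assoc, hcent _ (orderOf_b1 h2 hω) m hm, ← mul_assoc,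
      hcent _ (orderOf_a1 h2 hω) m hm, mul_assoc]
  have hc1 : gw h2 hω [1] * m = m * gw h2 hω [1] := by
    rw [g2_eq, mul_assoc, hcent _ (orderOf_b2 h2 hω) m hm, ← mul_assoc,
      hcent _ (orderOf_a2 h2 hω) m hm, mul_assoc]
  have hle : Subgroup.closure {gw h2 hω [0], gw h2 hω [1]} ≤ Subgroup.centralizer {m} := by
    rw [Subgroup.closure_le]
    rintro x (rfl | rfl)
    · rw [SetLike.mem_coe, Subgroup.mem_centralizer_iff]
      rintro y rfl
      exact hc0.symm
    · rw [SetLike.mem_coe, Subgroup.mem_centralizer_iff]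
      rintro y rfl
      exact hc1.symm
  intro g
  have hg : g ∈ Subgroup.centralizer {m} := hle (by rw [closure_gw h2 hω]; trivial)
  rw [Subgroup.mem_centralizer_iff] at hg
  exact (hg m rfl).symm

end Normal

end Cfsg.Agent.Lib.Helper90_J3Simple
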