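import Mathlib
import Cfsg.Prelude.Def_Spor_J3
import Cfsg.Agent.Lib.Helper90_CodeTable
import Cfsg.Agent.Lib.Helper90_J3Core
import Cfsg.Agent.Lib.Helper90_J3Gens
import Cfsg.Agent.Lib.Helper90_J3Group
import Cfsg.Agent.Lib.Helper90_J3DataP
import Cfsg.Agent.Lib.Helper90_J3Order
import Cfsg.Agent.Lib.Helper90_J3Simple

/-!
# The centre of `3·J₃ ≤ GL₉(4)` and the simplicity of `J₃` (helper90)

The centre consists of the three scalar matrices: a matrix commuting with all `A_Z` is diagonal,
and if it also commutes with all `D_Z` it is scalar; the scalar `ω` is an entry of the table of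
the subgroup of order `3⁶`.
-/

set_option autoImplicit false

namespace Cfsg.Agent.Lib.Helper90_J3Center

open Cfsg.Spor Cfsg.Agent.Lib.Helper90_CodeTable Cfsg.Agent.Lib.Helper90_J3Core
  Cfsg.Agent.Lib.Helper90_J3Gens Cfsg.Agent.Lib.Helper90_J3Group
  Cfsg.Agent.Lib.Helper90_J3DataP Cfsg.Agent.Lib.Helper90_J3Order
  Cfsg.Agent.Lib.Helper90_J3Simple

theorem ent_cw : ∀ w z : F9, ent cw (ix w) (ix z) = if w = z then 2 else 0 := by decide +kernel

theorem exists_sep : ∀ w z : F9, w ≠ z →
    ∃ Z : F9, Z.1 * w.1 + Z.2 * w.2 ≠ Z.1 * z.1 + Z.2 * z.2 := by decide +kernel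

variable {F : Type*} [Field F] {ω : F}

theorem toMat_cw : toMat F ω cw = Matrix.diagonal fun _ => ω := by
  ext w z
  rw [toMat_apply, ent_cw, Matrix.diagonal_apply]
  split_ifs
  · exact val4_two
  · exact val4_zero

section Center

variable (h2 : (2 : F) = 0) (hω : ω ^ 2 + ω + 1 = 0)

include h2 hω

theorem omega_sq : ω ^ 2 = ω + 1 := by linear_combination hω - (ω + 1) * h2

omit h2 in
theorem omega_cube : ω ^ 3 = 1 := by linear_combination (ω - 1) * hω

theorem omegaPow_inj {a b : ZMod 3} (h : omegaPow F ω a = omegaPow F ω b) : a = b := by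
  have h0 := omega_ne_zero hω
  have h1 := omega_ne_one h2 hω
  have hsq := omega_sq h2 hω
  have h10 : (1 : F) ≠ 0 := one_ne_zero
  have e0 : omegaPow F ω 0 = 1 := by
    show ω ^ 0 = 1
    exact pow_zero ω
  have e1 : omegaPow F ω 1 = ω := by
    show ω ^ 1 = ω
    exact pow_one ω
  have e2 : omegaPow F ω 2 = ω + 1 := by
    show ω ^ 2 = ω + 1
    exact hsq
  fin_cases a <;> fin_cases b
  · rfl
  · exfalso
    change omegaPow F ω 0 = omegaPow F ω 1 at h
    rw [e0, e1] at h
    exact h1 h.symm
  · exfalso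
    change omegaPow F ω 0 = omegaPow F ω 2 at h
    rw [e0, e2] at h
    exact h0 (by linear_combination -h)
  · exfalso
    change omegaPow F ω 1 = omegaPow F ω 0 at h
    rw [e0, e1] at h
    exact h1 h
  · rfl
  · exfalso
    change omegaPow F ω 1 = omegaPow F ω 2 at h
    rw [e1, e2] at h
    exact h10 (by linear_combination -h)
  · exfalso
    change omegaPow F ω 2 = omegaPow F ω 0 at h
    rw [e0, e2] at h
    exact h0 (by linear_combination h)
  · exfalso
    change omegaPow F ω 2 = omegaPow F ω 1 at h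
    rw [e1, e2] at h
    exact h10 (by linear_combination h)
  · rfl

/-- A matrix commuting with all `A_Z` and all `D_Z` is scalar. -/
theorem scalar_of_commute (m : M9 F) (hA : ∀ Z : F9, j3A F ω Z * m = m * j3A F ω Z)
    (hD : ∀ Z : F9, j3D F ω Z * m = m * j3D F ω Z) :
    m = Matrix.diagonal fun _ => m 0 0 := by
  have hdiag : ∀ w z : F9, w ≠ z → m w z = 0 := by
    intro w z hwz
    obtain ⟨Z, hZ⟩ := exists_sep w z hwz
    have h := congrFun (congrFun (hA Z) w) z
    unfold j3A at h
    rw [Matrix.diagonal_mul, Matrix.mul_diagonal] at h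
    have hne : omegaPow F ω (Z.1 * w.1 + Z.2 * w.2) ≠ omegaPow F ω (Z.1 * z.1 + Z.2 * z.2) :=
      fun e => hZ (omegaPow_inj h2 hω e)
    have h3 : (omegaPow F ω (Z.1 * w.1 + Z.2 * w.2) - omegaPow F ω (Z.1 * z.1 + Z.2 * z.2)) *
        m w z = 0 := by linear_combination h
    rcases mul_eq_zero.mp h3 with h4 | h4
    · exact absurd (sub_eq_zero.mp h4) hne
    · exact h4
  have hsc : ∀ Z : F9, m Z Z = m 0 0 := by
    intro Z
    have h := congrFun (congrFun (hD Z) Z) 0
    rw [Matrix.mul_apply, Matrix.mul_apply] at h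
    rw [Finset.sum_eq_single (0 : F9), Finset.sum_eq_single Z] at h
    · have hl : j3D F ω Z Z 0 = 1 := by
        simp [j3D, j3Lam]
      rw [hl] at h
      linear_combination -h
    · intro k _ hk
      rw [hdiag Z k (Ne.symm hk), zero_mul]
    · intro hZ
      exact absurd (Finset.mem_univ Z) hZ
    · intro k _ hk
      rw [hdiag k 0 hk, mul_zero]
    · intro hZ
      exact absurd (Finset.mem_univ (0 : F9)) hZ
  ext w z
  rw [Matrix.diagonal_apply]
  split_ifs with hwz
  · rw [← hwz]
    exact hsc w
  · exact hdiag w z hwz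


/-- The scalar `ω` is an element of `3·J₃`. -/
theorem exists_scalar :
    ∃ s : threeJ3 F ω, ((s : GL F9 F) : M9 F) = Matrix.diagonal fun _ => ω := by
  obtain ⟨g, hg, h⟩ := table_mem_closure h2 hω T3_gen' T3_zero T3_closed_all T3_tree_all 728
    (by norm_num)
  exact ⟨⟨g, P3_le h2 hω hg⟩, by rw [h, T3_cw, toMat_cw]⟩

theorem coe_gw_word (l : Fin 45) :
    ((gw h2 hω (word l.val) : GL F9 F) : M9 F) = toMat F ω (gen l.val) := by
  show ((evalG h2 hω (word l.val) : GL F9 F) : M9 F) = _
  rw [← toMat_evalW h2 hω, word_ok l]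

/-- A central element of `3·J₃` is a scalar matrix. -/
theorem coe_central (g : threeJ3 F ω) (hg : g ∈ Subgroup.center (threeJ3 F ω)) :
    ((g : GL F9 F) : M9 F) = Matrix.diagonal fun _ => ((g : GL F9 F) : M9 F) 0 0 := by
  have hcomm : ∀ l : Fin 45, toMat F ω (gen l.val) * ((g : GL F9 F) : M9 F) =
      ((g : GL F9 F) : M9 F) * toMat F ω (gen l.val) := by
    intro l
    have hc := Subgroup.mem_center_iff.mp hg (gw h2 hω (word l.val))
    have h3 := congrArg (fun x : threeJ3 F ω => ((x : GL F9 F) : M9 F)) hc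
    simp only [Subgroup.coe_mul, Units.val_mul] at h3
    rw [coe_gw_word h2 hω l] at h3
    exact h3
  apply scalar_of_commute h2 hω
  · intro Z
    have h := hcomm ⟨ix Z, by have := ix_lt Z; omega⟩
    rw [toMat_gen_A h2 hω] at h
    exact h
  · intro Z
    have h := hcomm ⟨18 + ix Z, by have := ix_lt Z; omega⟩
    rw [toMat_gen_D h2 hω] at h
    exact h

end Center

section Card

variable [Fintype F] (hF : Fintype.card F = 4) (hω : ω ^ 2 + ω + 1 = 0)

include hF

theorem two_eq_zero : (2 : F) = 0 := by
  have h := FiniteField.cast_card_eq_zero F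
  rw [hF] at h
  have h4 : (2 : F) * 2 = 0 := by
    have : ((4 : ℕ) : F) = 2 * 2 := by norm_num
    rw [← this]
    exact h
  exact mul_self_eq_zero.mp h4

theorem cube_eq_one {a : F} (ha : a ≠ 0) : a ^ 3 = 1 := by
  have h := FiniteField.pow_card_sub_one_eq_one a ha
  rwa [hF] at h

include hω

theorem eq_of_ne_zero {a : F} (ha : a ≠ 0) : a = 1 ∨ a = ω ∨ a = ω ^ 2 := by
  have h3 := cube_eq_one hF ha
  have hw3 := omega_cube hω
  have hprod : (a - 1) * ((a - ω) * (a - ω ^ 2)) = 0 := by
    linear_combination h3 + (a - a ^ 2) * hω + (a - 1) * hw3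
  rcases mul_eq_zero.mp hprod with h | h
  · exact Or.inl (sub_eq_zero.mp h)
  · rcases mul_eq_zero.mp h with h | h
    · exact Or.inr (Or.inl (sub_eq_zero.mp h))
    · exact Or.inr (Or.inr (sub_eq_zero.mp h))

/-- The centre of `3·J₃` has order 3. -/
theorem card_center : Nat.card (Subgroup.center (threeJ3 F ω)) = 3 := by
  have h2 := two_eq_zero hF
  obtain ⟨s, hs⟩ := exists_scalar h2 hω
  have hs_central : s ∈ Subgroup.center (threeJ3 F ω) := by
    rw [Subgroup.mem_center_iff]
    intro x
    apply Subtype.ext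
    apply Units.ext
    show ((x : GL F9 F) : M9 F) * ((s : GL F9 F) : M9 F) =
      ((s : GL F9 F) : M9 F) * ((x : GL F9 F) : M9 F)
    rw [hs]
    ext i j
    rw [Matrix.mul_diagonal, Matrix.diagonal_mul, mul_comm]
  have hs3 : s ^ 3 = 1 := by
    apply Subtype.ext
    apply Units.ext
    show (((s ^ 3 : threeJ3 F ω) : GL F9 F) : M9 F) = 1
    rw [Subgroup.coe_pow, Units.val_pow_eq_pow_val, hs, Matrix.diagonal_pow]
    have : (fun _ : F9 => ω) ^ 3 = fun _ => (1 : F) := by
      funext z
      exact omega_cube hω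
    rw [this, Matrix.diagonal_one]
  have hs1 : s ≠ 1 := by
    intro h
    have h' : ((s : GL F9 F) : M9 F) = 1 := by rw [h]; rfl
    rw [hs] at h'
    have := congrFun (congrFun h' 0) 0
    rw [Matrix.diagonal_apply_eq, Matrix.one_apply_eq] at this
    exact omega_ne_one h2 hω this
  have : Fact (Nat.Prime 3) := ⟨by norm_num⟩
  have hord : orderOf s = 3 := orderOf_eq_prime hs3 hs1
  have heq : Subgroup.center (threeJ3 F ω) = Subgroup.zpowers s := by
    apply le_antisymm
    · intro g hg
      have hg' := coe_central h2 hω g hg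
      set a := ((g : GL F9 F) : M9 F) 0 0 with ha
      have ha0 : a ≠ 0 := by
        intro h0
        have h1 : ((g : GL F9 F) : M9 F) * (((g : GL F9 F)⁻¹ : GL F9 F) : M9 F) = 1 := by
          rw [← Units.val_mul, mul_inv_cancel]
          rfl
        rw [hg', h0] at h1
        have := congrFun (congrFun h1 0) 0
        rw [Matrix.diagonal_mul, zero_mul, Matrix.one_apply_eq] at this
        exact zero_ne_one this
      rcases eq_of_ne_zero hF hω ha0 with h | h | h
      · have : g = 1 := by
          apply Subtype.ext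
          apply Units.ext
          rw [hg', h, Matrix.diagonal_one]
          rfl
        rw [this]
        exact Subgroup.one_mem _
      · have : g = s := by
          apply Subtype.ext
          apply Units.ext
          rw [hg', h, hs]
        rw [this]
        exact Subgroup.mem_zpowers s
      · have : g = s ^ 2 := by
          apply Subtype.ext
          apply Units.ext
          show ((g : GL F9 F) : M9 F) = (((s ^ 2 : threeJ3 F ω) : GL F9 F) : M9 F)
          rw [Subgroup.coe_pow, Units.val_pow_eq_pow_val, hs, Matrix.diagonal_pow, hg', h]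
          rfl
        rw [this]
        exact Subgroup.pow_mem _ (Subgroup.mem_zpowers s) 2
    · rw [Subgroup.zpowers_le]
      exact hs_central
  rw [heq, Nat.card_zpowers, hord]


/-- The order of `J₃`. -/
theorem card_J3 : Nat.card (J3 F ω) = 50232960 := by
  have h2 := two_eq_zero hF
  have h := Subgroup.card_eq_card_quotient_mul_card_subgroup (Subgroup.center (threeJ3 F ω))
  rw [card_threeJ3 h2 hω, card_center hF hω] at h
  show Nat.card (threeJ3 F ω ⧸ Subgroup.center (threeJ3 F ω)) = 50232960
  omega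

/-- `J₃` is simple. -/
theorem isSimpleGroup_J3 : IsSimpleGroup (J3 F ω) := by
  have h2 := two_eq_zero hF
  have hnt : Nontrivial (J3 F ω) := by
    apply (Finite.one_lt_card_iff_nontrivial).mp
    rw [card_J3 hF hω]
    norm_num
  refine { toNontrivial := hnt, eq_bot_or_eq_top_of_normal := ?_ }
  intro N hN
  have hsurj : Function.Surjective (QuotientGroup.mk' (Subgroup.center (threeJ3 F ω))) :=
    QuotientGroup.mk'_surjective _
  have hMn : (N.comap (QuotientGroup.mk' (Subgroup.center (threeJ3 F ω)))).Normal :=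
    hN.comap _
  rcases normal_dichotomy h2 hω (N.comap (QuotientGroup.mk' (Subgroup.center (threeJ3 F ω))))
    with h | h
  · left
    rw [eq_bot_iff, ← Subgroup.map_comap_eq_self_of_surjective hsurj N]
    refine le_trans (Subgroup.map_mono h) ?_
    rw [QuotientGroup.map_mk'_self]
  · right
    rw [← Subgroup.map_comap_eq_self_of_surjective hsurj N, h,
      Subgroup.map_top_of_surjective _ hsurj]

end Card

end Cfsg.Agent.Lib.Helper90_J3Center
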