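import Mathlib
import Cfsg.Agent.Lib.Helper90_CodeTable
import Cfsg.Agent.Lib.Helper90_J3Core
import Cfsg.Agent.Lib.Helper90_J3InvData
import Cfsg.Agent.Lib.Helper90_J3InvCl0
import Cfsg.Agent.Lib.Helper90_J3InvCl1
import Cfsg.Agent.Lib.Helper90_J3InvCl2
import Cfsg.Agent.Lib.Helper90_J3InvCl3
import Cfsg.Agent.Lib.Helper90_J3InvCl4
import Cfsg.Agent.Lib.Helper90_J3InvCl5
import Cfsg.Agent.Lib.Helper90_J3InvCl6
import Cfsg.Agent.Lib.Helper90_J3InvCl7
import Cfsg.Agent.Lib.Helper90_J3InvCl8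
import Cfsg.Agent.Lib.Helper90_J3InvCl9
import Cfsg.Agent.Lib.Helper90_J3InvCl10
import Cfsg.Agent.Lib.Helper90_J3InvCl11

/-!
# Conjugation check of the table of involutions: all parts (helper90)

Generated by `tools/helper90_j3/emit_lean.py`.
-/

set_option autoImplicit false
set_option maxRecDepth 100000

namespace Cfsg.Agent.Lib.Helper90_J3InvClAll

open Cfsg.Agent.Lib.Helper90_CodeTable Cfsg.Agent.Lib.Helper90_J3Core
  Cfsg.Agent.Lib.Helper90_J3InvData
  Cfsg.Agent.Lib.Helper90_J3InvCl0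
  Cfsg.Agent.Lib.Helper90_J3InvCl1
  Cfsg.Agent.Lib.Helper90_J3InvCl2
  Cfsg.Agent.Lib.Helper90_J3InvCl3
  Cfsg.Agent.Lib.Helper90_J3InvCl4
  Cfsg.Agent.Lib.Helper90_J3InvCl5
  Cfsg.Agent.Lib.Helper90_J3InvCl6
  Cfsg.Agent.Lib.Helper90_J3InvCl7
  Cfsg.Agent.Lib.Helper90_J3InvCl8
  Cfsg.Agent.Lib.Helper90_J3InvCl9
  Cfsg.Agent.Lib.Helper90_J3InvCl10
  Cfsg.Agent.Lib.Helper90_J3InvCl11

theorem conj_ok : ∀ i < 26163, chkConj i = true := by
  intro i hi
  by_cases h0 : i < 2181
  · exact allFrom_spec conjI_0 i (by omega) (by omega)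
  by_cases h1 : i < 4362
  · exact allFrom_spec conjI_1 i (by omega) (by omega)
  by_cases h2 : i < 6543
  · exact allFrom_spec conjI_2 i (by omega) (by omega)
  by_cases h3 : i < 8724
  · exact allFrom_spec conjI_3 i (by omega) (by omega)
  by_cases h4 : i < 10905
  · exact allFrom_spec conjI_4 i (by omega) (by omega)
  by_cases h5 : i < 13086
  · exact allFrom_spec conjI_5 i (by omega) (by omega)
  by_cases h6 : i < 15267
  · exact allFrom_spec conjI_6 i (by omega) (by omega)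
  by_cases h7 : i < 17448
  · exact allFrom_spec conjI_7 i (by omega) (by omega)
  by_cases h8 : i < 19629
  · exact allFrom_spec conjI_8 i (by omega) (by omega)
  by_cases h9 : i < 21810
  · exact allFrom_spec conjI_9 i (by omega) (by omega)
  by_cases h10 : i < 23991
  · exact allFrom_spec conjI_10 i (by omega) (by omega)
  exact allFrom_spec conjI_11 i (by omega) (by omega)

end Cfsg.Agent.Lib.Helper90_J3InvClAll
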