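import Mathlib
import Cfsg.Prelude.Def_Spor_J3
import Cfsg.Agent.Lib.Helper90_CodeTable
import Cfsg.Agent.Lib.Helper90_J3Core
import Cfsg.Agent.Lib.Helper90_J3Gens
import Cfsg.Agent.Lib.Helper90_J3Group
import Cfsg.Agent.Lib.Helper90_J3DataP
import Cfsg.Agent.Lib.Helper90_J3Order
import Cfsg.Agent.Lib.Helper90_J3Simple
import Cfsg.Agent.Lib.Helper90_J3InvData
import Cfsg.Agent.Lib.Helper90_J3InvClAll

/-!
# The involutions of `3·J₃` (helper90)

The table `Itab` of 26163 codes is closed under conjugation by the generators and contains the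
involutions of a Sylow 2-subgroup; hence it contains every involution of `3·J₃`.
-/

set_option autoImplicit false

namespace Cfsg.Agent.Lib.Helper90_J3Inv

open Cfsg.Spor Cfsg.Agent.Lib.Helper90_CodeTable Cfsg.Agent.Lib.Helper90_J3Core
  Cfsg.Agent.Lib.Helper90_J3Gens Cfsg.Agent.Lib.Helper90_J3Group
  Cfsg.Agent.Lib.Helper90_J3DataP Cfsg.Agent.Lib.Helper90_J3Order
  Cfsg.Agent.Lib.Helper90_J3Simple Cfsg.Agent.Lib.Helper90_J3InvData
  Cfsg.Agent.Lib.Helper90_J3InvClAll

theorem chkConj_spec {i : ℕ} (h : chkConj i = true) (l : ℕ) (hl : l < 3) :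
    ClI i l < 26163 ∧ cmulR (cmulR (gcode l) (Itab i)) (gcode (linv l)) = Itab (ClI i l) := by
  unfold chkConj at h
  simp only [force_eq] at h
  have h1 := allLt_spec h l hl
  rw [Bool.and_eq_true] at h1
  exact ⟨by simpa using h1.1, Nat.eq_of_beq_eq_true h1.2⟩

theorem chkT2_spec {i : ℕ} (h : chkT2 i = true) :
    cnorm (cmulR (T2tab i) (T2tab i)) ≠ cnorm cone ∨ T2tab i = cone ∨
      (T2I i < 26163 ∧ T2tab i = Itab (T2I i)) := by
  unfold chkT2 at h
  simp only [force_eq, Bool.or_eq_true, Bool.and_eq_true, Bool.not_eq_true'] at h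
  rcases h with h | h | ⟨h3, h4⟩
  · left
    intro he
    rw [he] at h
    simp at h
  · exact Or.inr (Or.inl (Nat.eq_of_beq_eq_true h))
  · exact Or.inr (Or.inr ⟨by simpa using h3, Nat.eq_of_beq_eq_true h4⟩)

theorem fact_two : (150698880 : ℕ).factorization 2 = 7 := by
  have e : (150698880 : ℕ) = 2 ^ 7 * 1177335 := by norm_num
  rw [e, Nat.factorization_mul (by norm_num) (by norm_num),
    Nat.Prime.factorization_pow Nat.prime_two]
  simp [Nat.factorization_eq_zero_of_not_dvd (by norm_num : ¬ 2 ∣ 1177335)]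

section

variable {F : Type*} [Field F] {ω : F}

/-- The set of the matrices of the table. -/
def Iset (F : Type*) [Field F] (ω : F) : Set (M9 F) := {m | ∃ i < 26163, m = toMat F ω (Itab i)}

variable (h2 : (2 : F) = 0) (hω : ω ^ 2 + ω + 1 = 0)

include h2 hω

theorem conj_glet_mem {l : ℕ} (hl : l < 3) {m : M9 F} (hm : m ∈ Iset F ω) :
    ((glet h2 hω l : GL F9 F) : M9 F) * m * (((glet h2 hω l)⁻¹ : GL F9 F) : M9 F) ∈ Iset F ω := by
  obtain ⟨i, hi, rfl⟩ := hm
  obtain ⟨h1, h3⟩ := chkConj_spec (conj_ok i hi) l hl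
  refine ⟨ClI i l, h1, ?_⟩
  rw [← h3, toMat_cmulR h2 hω, toMat_cmulR h2 hω]
  rfl

theorem coe_gw_single (l : ℕ) : ((gw h2 hω [l] : threeJ3 F ω) : GL F9 F) = glet h2 hω l := by
  show evalG h2 hω [l] = _
  simp [evalG]

/-- The table is closed under conjugation by `3·J₃`. -/
theorem conj_mem [Finite F] (g : threeJ3 F ω) {m : M9 F} (hm : m ∈ Iset F ω) :
    ((g : GL F9 F) : M9 F) * m * (((g⁻¹ : threeJ3 F ω) : GL F9 F) : M9 F) ∈ Iset F ω := by
  have hg : g ∈ Submonoid.closure ({gw h2 hω [0], gw h2 hω [1]} : Set (threeJ3 F ω)) := by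
    have h := Subgroup.closure_toSubmonoid_of_finite
      (s := ({gw h2 hω [0], gw h2 hω [1]} : Set (threeJ3 F ω)))
    rw [closure_gw h2 hω] at h
    rw [← h]
    exact Subgroup.mem_top g
  induction hg using Submonoid.closure_induction generalizing m with
  | mem x hx =>
    rcases hx with rfl | rfl
    · have := conj_glet_mem h2 hω (l := 0) (by norm_num) hm
      rwa [← coe_gw_single h2 hω 0] at this
    · have := conj_glet_mem h2 hω (l := 1) (by norm_num) hm
      rwa [← coe_gw_single h2 hω 1] at this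
  | one =>
    simpa using hm
  | mul x y _ _ ihx ihy =>
    have h := ihx (ihy hm)
    have e : (((x * y : threeJ3 F ω) : GL F9 F) : M9 F) * m *
        ((((x * y)⁻¹ : threeJ3 F ω) : GL F9 F) : M9 F) =
        ((x : GL F9 F) : M9 F) * (((y : GL F9 F) : M9 F) * m *
          (((y⁻¹ : threeJ3 F ω) : GL F9 F) : M9 F)) *
          (((x⁻¹ : threeJ3 F ω) : GL F9 F) : M9 F) := by
      rw [mul_inv_rev]
      simp only [Subgroup.coe_mul, Units.val_mul, mul_assoc]
    rw [e]
    exact h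

/-- Every involution of `3·J₃` is in the table. -/
theorem involution_mem [Finite F] (x : threeJ3 F ω) (hx2 : x ^ 2 = 1) (hx1 : x ≠ 1) :
    ((x : GL F9 F) : M9 F) ∈ Iset F ω := by
  have hp : Fact (Nat.Prime 2) := ⟨Nat.prime_two⟩
  have hcardP : Nat.card ((P2 h2 hω).subgroupOf (threeJ3 F ω)) = 128 := by
    rw [Nat.card_congr (Subgroup.subgroupOfEquivOfLe (P2_le h2 hω)).toEquiv, card_P2]
  let P : Sylow 2 (threeJ3 F ω) := Sylow.ofCard ((P2 h2 hω).subgroupOf (threeJ3 F ω)) (by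
    rw [hcardP, card_threeJ3 h2 hω, fact_two]
    norm_num)
  have hxp : IsPGroup 2 (Subgroup.zpowers x) := by
    apply IsPGroup.of_card (n := 1)
    rw [Nat.card_zpowers, orderOf_eq_prime hx2 hx1]
    norm_num
  obtain ⟨Q, hQ⟩ := hxp.exists_le_sylow
  obtain ⟨g, hg⟩ := MulAction.exists_smul_eq (threeJ3 F ω) Q P
  have hxQ : x ∈ (Q : Subgroup (threeJ3 F ω)) := hQ (Subgroup.mem_zpowers x)
  have hu : g * x * g⁻¹ ∈ (P : Subgroup (threeJ3 F ω)) := by
    rw [← hg, Sylow.coe_subgroup_smul]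
    have := Subgroup.smul_mem_pointwise_smul x (MulAut.conj g) (Q : Subgroup (threeJ3 F ω)) hxQ
    rwa [MulAut.smul_def, MulAut.conj_apply] at this
  have hu' : ((g * x * g⁻¹ : threeJ3 F ω) : GL F9 F) ∈ P2 h2 hω := hu
  obtain ⟨i, hi, hui⟩ := closure_mem_table h2 hω T2_gen' (by norm_num) T2_zero T2_closed_all _ hu'
  have hu2 : (g * x * g⁻¹) ^ 2 = 1 := by
    rw [conj_pow, hx2, mul_one, mul_inv_cancel]
  have hu1 : g * x * g⁻¹ ≠ 1 := by
    intro h
    apply hx1
    calc x = g⁻¹ * (g * x * g⁻¹) * g := by group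
      _ = 1 := by rw [h]; group
  have hmem : (((g * x * g⁻¹ : threeJ3 F ω) : GL F9 F) : M9 F) ∈ Iset F ω := by
    rcases chkT2_spec (allLt_spec T2_inv_all i hi) with h | h | ⟨h3, h4⟩
    · exfalso
      apply toMat_ne h2 hω h
      rw [toMat_cmulR h2 hω, ← hui, toMat_cone, ← Units.val_mul, ← Subgroup.coe_mul, ← pow_two, hu2]
      rfl
    · exfalso
      apply hu1
      apply Subtype.ext
      apply Units.ext
      rw [hui, h, toMat_cone]
      rfl
    · exact ⟨T2I i, h3, by rw [hui, h4]⟩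
  have := conj_mem h2 hω g⁻¹ hmem
  have e : (((g⁻¹ : threeJ3 F ω) : GL F9 F) : M9 F) *
      (((g * x * g⁻¹ : threeJ3 F ω) : GL F9 F) : M9 F) *
      ((((g⁻¹)⁻¹ : threeJ3 F ω) : GL F9 F) : M9 F) = ((x : GL F9 F) : M9 F) := by
    rw [← Units.val_mul, ← Units.val_mul, ← Subgroup.coe_mul, ← Subgroup.coe_mul]
    congr 2
    group
  rwa [e] at this

end

end Cfsg.Agent.Lib.Helper90_J3Inv
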