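import Mathlib
import Cfsg.Prelude.Def_Spor_J3
import Cfsg.Prelude.Def_Classical
import Cfsg.Agent.Lib.Helper90_CodeTable
import Cfsg.Agent.Lib.Helper90_J3Core
import Cfsg.Agent.Lib.Helper90_J3Gens
import Cfsg.Agent.Lib.Helper90_J3Group
import Cfsg.Agent.Lib.Helper90_J3Order
import Cfsg.Agent.Lib.Helper90_J3Simple
import Cfsg.Agent.Lib.Helper90_J3Center

/-!
# `3·J₃` inside `SU₉(2)` (helper90)

The two generators `g₁`, `g₂` of `3·J₃ ≤ GL₉(4)` are unitary (their conjugate transposes are their
inverses: a check on codes), every element of `3·J₃` has determinant 1 (the kernel of the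
determinant is a normal subgroup of index at most 3), and reindexing by `F9 ≃ Fin 9` gives an
injective homomorphism into `Cfsg.SU 9 F 2`.
-/

set_option autoImplicit false

namespace Cfsg.Agent.Lib.Helper90_J3Unitary

open Cfsg.Spor Cfsg.Agent.Lib.Helper90_CodeTable Cfsg.Agent.Lib.Helper90_J3Core
  Cfsg.Agent.Lib.Helper90_J3Gens Cfsg.Agent.Lib.Helper90_J3Group
  Cfsg.Agent.Lib.Helper90_J3Order Cfsg.Agent.Lib.Helper90_J3Simple
  Cfsg.Agent.Lib.Helper90_J3Center

open scoped Matrix

/-- The Frobenius map on `0, 1, ω, 1 + ω` as numbers. -/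
def conj4 (n : ℕ) : ℕ := Nat.rec (motive := fun _ => ℕ) 0 (fun n _ =>
  Nat.rec (motive := fun _ => ℕ) 1 (fun n _ =>
    Nat.rec (motive := fun _ => ℕ) 3 (fun _ _ => 2) n) n) n

theorem ent_star_g1 : ∀ w z : F9, ent cg1i (ix w) (ix z) = conj4 (ent cg1 (ix z) (ix w)) := by
  decide +kernel

theorem ent_star_g2 : ∀ w z : F9, ent cg2 (ix w) (ix z) = conj4 (ent cg2 (ix z) (ix w)) := by
  decide +kernel

theorem ent_lt (c i j : ℕ) : ent c i j < 4 := by
  show ((c >>> (18 * i + j)) &&& 1) + 2 * ((c >>> (18 * i + (9 + j))) &&& 1) < 4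
  have h1 : (c >>> (18 * i + j)) &&& 1 < 2 := by
    rw [Nat.and_one_is_mod]
    exact Nat.mod_lt _ (by norm_num)
  have h2 : (c >>> (18 * i + (9 + j))) &&& 1 < 2 := by
    rw [Nat.and_one_is_mod]
    exact Nat.mod_lt _ (by norm_num)
  omega

variable {F : Type*} [Field F] {ω : F}

section Unitary

variable (h2 : (2 : F) = 0) (hω : ω ^ 2 + ω + 1 = 0)

include h2 hω

theorem val4_conj4 {n : ℕ} (hn : n < 4) : val4 F ω (conj4 n) = val4 F ω n ^ 2 := by
  have hsq := omega_sq h2 hω
  interval_cases n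
  · show val4 F ω 0 = _
    rw [val4_zero]
    ring
  · show val4 F ω 1 = _
    rw [val4_one]
    ring
  · show val4 F ω 3 = val4 F ω 2 ^ 2
    rw [val4_three h2 hω, val4_two]
  · show val4 F ω 2 = val4 F ω 3 ^ 2
    rw [val4_three h2 hω, val4_two]
    linear_combination (-(ω * (ω - 1))) * hω

/-- A matrix whose conjugate transpose has the code `cs` with `cs * c = 1` is unitary. -/
theorem star_mul (c cs : ℕ)
    (hent : ∀ w z : F9, ent cs (ix w) (ix z) = conj4 (ent c (ix z) (ix w)))
    (hmul : cmulR cs c = cone) :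
    (toMat F ω c)ᵀ * (toMat F ω c).map (fun x => x ^ 2) = 1 := by
  have hS : toMat F ω cs = ((toMat F ω c).map (fun x => x ^ 2))ᵀ := by
    ext w z
    rw [Matrix.transpose_apply, Matrix.map_apply, toMat_apply, toMat_apply, hent,
      val4_conj4 h2 hω (ent_lt _ _ _)]
  have h1 : toMat F ω cs * toMat F ω c = 1 := by
    rw [← toMat_cmulR h2 hω, hmul, toMat_cone]
  have h3 := congrArg Matrix.transpose h1
  rw [Matrix.transpose_mul, Matrix.transpose_one, hS, Matrix.transpose_transpose] at h3
  exact h3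

omit hω in
/-- A unitary matrix preserves the Hermitian form. -/
theorem herm_of_isU {n : ℕ} (M : Matrix (Fin n) (Fin n) F)
    (hM : Mᵀ * M.map (fun x => x ^ 2) = 1) (u v : Fin n → F) :
    Cfsg.hermForm n F 2 (M *ᵥ u) (M *ᵥ v) = Cfsg.hermForm n F 2 u v := by
  have : CharP F 2 := CharTwo.of_one_ne_zero_of_two_eq_zero one_ne_zero h2
  have hfun : (fun x : F => x ^ 2) = frobenius F 2 := by
    funext x
    rw [frobenius_def]
  have hherm : ∀ a b : Fin n → F, Cfsg.hermForm n F 2 a b = a ⬝ᵥ (frobenius F 2 ∘ b) := by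
    intro a b
    unfold Cfsg.hermForm dotProduct
    apply Finset.sum_congr rfl
    intro i _
    rw [Function.comp_apply, frobenius_def]
  have hmv : frobenius F 2 ∘ (M *ᵥ v) = M.map (frobenius F 2) *ᵥ (frobenius F 2 ∘ v) := by
    funext i
    rw [Function.comp_apply, RingHom.map_mulVec]
  rw [hherm, hherm, hmv, ← Matrix.vecMul_transpose M u, ← Matrix.dotProduct_mulVec,
    Matrix.mulVec_mulVec, ← hfun, hM, Matrix.one_mulVec]

omit hω in
theorem isU_mul {ι : Type*} [Fintype ι] [DecidableEq ι] {A B : Matrix ι ι F}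
    (hA : Aᵀ * A.map (fun x => x ^ 2) = 1) (hB : Bᵀ * B.map (fun x => x ^ 2) = 1) :
    (A * B)ᵀ * (A * B).map (fun x => x ^ 2) = 1 := by
  have : CharP F 2 := CharTwo.of_one_ne_zero_of_two_eq_zero one_ne_zero h2
  have hfun : (fun x : F => x ^ 2) = frobenius F 2 := by
    funext x
    rw [frobenius_def]
  rw [hfun] at hA hB ⊢
  rw [Matrix.transpose_mul, Matrix.map_mul, Matrix.mul_assoc, ← Matrix.mul_assoc Aᵀ, hA,
    Matrix.one_mul, hB]

omit hω in
theorem isU_of_mul_eq_one {ι : Type*} [Fintype ι] [DecidableEq ι] {A B : Matrix ι ι F}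
    (hA : Aᵀ * A.map (fun x => x ^ 2) = 1) (hAB : A * B = 1) :
    Bᵀ * B.map (fun x => x ^ 2) = 1 := by
  have : CharP F 2 := CharTwo.of_one_ne_zero_of_two_eq_zero one_ne_zero h2
  have hfun : (fun x : F => x ^ 2) = frobenius F 2 := by
    funext x
    rw [frobenius_def]
  have h1 : (A * B)ᵀ * (A * B).map (fun x => x ^ 2) = 1 := by
    rw [hAB, Matrix.transpose_one, hfun, Matrix.map_one _ (map_zero _) (map_one _), Matrix.one_mul]
  rw [hfun] at hA h1 ⊢
  rw [Matrix.transpose_mul, Matrix.map_mul, Matrix.mul_assoc, ← Matrix.mul_assoc Aᵀ, hA,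
    Matrix.one_mul] at h1
  exact h1

/-- Every element of `3·J₃` is unitary. -/
theorem isU_of_mem (g : threeJ3 F ω) :
    ((g : GL F9 F) : M9 F)ᵀ * ((g : GL F9 F) : M9 F).map (fun x => x ^ 2) = 1 := by
  have hg : g ∈ Subgroup.closure {gw h2 hω [0], gw h2 hω [1]} := by
    rw [closure_gw h2 hω]
    trivial
  induction hg using Subgroup.closure_induction with
  | mem x hx =>
    rcases hx with rfl | rfl
    · have e : ((gw h2 hω [0] : GL F9 F) : M9 F) = toMat F ω cg1 := by
        show ((evalG h2 hω [0] : GL F9 F) : M9 F) = _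
        rw [← toMat_evalW h2 hω]
        rfl
      rw [e]
      exact star_mul h2 hω cg1 cg1i ent_star_g1 (linv_gcode 0)
    · have e : ((gw h2 hω [1] : GL F9 F) : M9 F) = toMat F ω cg2 := by
        show ((evalG h2 hω [1] : GL F9 F) : M9 F) = _
        rw [← toMat_evalW h2 hω]
        rfl
      rw [e]
      exact star_mul h2 hω cg2 cg2 ent_star_g2 (linv_gcode 1)
  | one =>
    show (1 : M9 F)ᵀ * (1 : M9 F).map (fun x => x ^ 2) = 1
    rw [Matrix.transpose_one, Matrix.map_one _ (by norm_num) (by norm_num), Matrix.one_mul]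
  | mul x y _ _ hx hy =>
    exact isU_mul h2 hx hy
  | inv x _ hx =>
    apply isU_of_mul_eq_one h2 hx
    show ((x : GL F9 F) : M9 F) * (((x⁻¹ : threeJ3 F ω) : GL F9 F) : M9 F) = 1
    rw [← Units.val_mul, ← Subgroup.coe_mul, mul_inv_cancel]
    rfl

end Unitary

/-! ### Transport of the centre along an isomorphism -/

theorem map_center_equiv {G H : Type*} [Group G] [Group H] (e : G ≃* H) :
    (Subgroup.center G).map e.toMonoidHom = Subgroup.center H := by
  ext x
  constructor
  · rintro ⟨y, hy, rfl⟩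
    rw [SetLike.mem_coe, Subgroup.mem_center_iff] at hy
    rw [Subgroup.mem_center_iff]
    intro h
    have := congrArg e (hy (e.symm h))
    simpa using this
  · intro hx
    rw [Subgroup.mem_center_iff] at hx
    refine ⟨e.symm x, ?_, by simp⟩
    rw [SetLike.mem_coe, Subgroup.mem_center_iff]
    intro g
    apply e.injective
    simpa using hx (e g)

/-- The central quotients of isomorphic groups are isomorphic. -/
noncomputable def quotCenterCongr {G H : Type*} [Group G] [Group H] (e : G ≃* H) :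
    G ⧸ Subgroup.center G ≃* H ⧸ Subgroup.center H :=
  QuotientGroup.congr (Subgroup.center G) (Subgroup.center H) e (map_center_equiv e)

/-- A field with 4 elements contains a primitive cube root of unity. -/
theorem exists_omega {F : Type*} [Field F] [Fintype F] (hF : Fintype.card F = 4) :
    ∃ ω : F, ω ^ 2 + ω + 1 = 0 := by
  classical
  have hex : ∃ a : F, a ≠ 0 ∧ a ≠ 1 := by
    by_contra hcon
    push Not at hcon
    have hsub : (Finset.univ : Finset F) ⊆ {0, 1} := by
      intro a _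
      by_cases ha : a = 0
      · simp [ha]
      · simp [hcon a ha]
    have h1 := Finset.card_le_card hsub
    rw [Finset.card_univ, hF] at h1
    have h2 : ({0, 1} : Finset F).card ≤ 2 := Finset.card_le_two
    omega
  obtain ⟨a, ha0, ha1⟩ := hex
  refine ⟨a, ?_⟩
  have h3 := cube_eq_one hF ha0
  have h4 : (a - 1) * (a ^ 2 + a + 1) = 0 := by linear_combination h3
  rcases mul_eq_zero.mp h4 with h | h
  · exact absurd (sub_eq_zero.mp h) ha1
  · exact h

section Det

variable [Fintype F] (hF : Fintype.card F = 4) (hω : ω ^ 2 + ω + 1 = 0)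

include hF hω

/-- Every element of `3·J₃` has determinant 1. -/
theorem det_eq_one (g : threeJ3 F ω) : Matrix.det ((g : GL F9 F) : M9 F) = 1 := by
  classical
  have h2 := two_eq_zero hF
  let d : threeJ3 F ω →* Fˣ := Matrix.GeneralLinearGroup.det.comp (threeJ3 F ω).subtype
  rcases normal_dichotomy h2 hω d.ker with h | h
  · exfalso
    have h1 : Nat.card d.ker ≤ 3 :=
      le_trans (Subgroup.card_le_of_le h) (le_of_eq (card_center hF hω))
    have h3 : Nat.card (threeJ3 F ω ⧸ d.ker) ≤ 3 := by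
      rw [Nat.card_congr (QuotientGroup.quotientKerEquivRange d).toEquiv]
      have h4 : Nat.card Fˣ = 3 := by
        rw [Nat.card_eq_fintype_card, Fintype.card_units, hF]
      exact le_trans (Subgroup.card_le_card_group _) (le_of_eq h4)
    have h5 := Subgroup.card_eq_card_quotient_mul_card_subgroup d.ker
    rw [card_threeJ3 h2 hω] at h5
    have h6 : Nat.card (threeJ3 F ω ⧸ d.ker) * Nat.card d.ker ≤ 3 * 3 := Nat.mul_le_mul h3 h1
    rw [← h5] at h6
    norm_num at h6
  · have hg : g ∈ d.ker := by rw [h]; trivial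
    have h1 : Matrix.GeneralLinearGroup.det (g : GL F9 F) = 1 := MonoidHom.mem_ker.mp hg
    have h3 := congrArg Units.val h1
    rw [Matrix.GeneralLinearGroup.val_det_apply, Units.val_one] at h3
    exact h3

/-- The reindexing of the basis by `Fin 9`. -/
noncomputable def e9 : F9 ≃ Fin 9 := Fintype.equivFinOfCardEq (by decide)

/-- An element of `3·J₃` as an element of `SL₉(F)`. -/
noncomputable def toSL (g : threeJ3 F ω) : Matrix.SpecialLinearGroup (Fin 9) F :=
  ⟨Matrix.reindex e9 e9 ((g : GL F9 F) : M9 F), by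
    rw [Matrix.det_reindex_self]
    exact det_eq_one hF hω g⟩

theorem coe_toSL (g : threeJ3 F ω) :
    (toSL hF hω g : Matrix (Fin 9) (Fin 9) F) = Matrix.reindex e9 e9 ((g : GL F9 F) : M9 F) := rfl

/-- The homomorphism from `3·J₃` to `SL₉(F)`. -/
noncomputable def toSLHom : threeJ3 F ω →* Matrix.SpecialLinearGroup (Fin 9) F where
  toFun := toSL hF hω
  map_one' := by
    apply Subtype.ext
    show Matrix.reindex e9 e9 (1 : M9 F) = 1
    rw [Matrix.reindex_apply, Matrix.submatrix_one_equiv]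
  map_mul' := fun a b => by
    apply Subtype.ext
    show Matrix.reindex e9 e9 (((a : GL F9 F) : M9 F) * ((b : GL F9 F) : M9 F)) =
      Matrix.reindex e9 e9 ((a : GL F9 F) : M9 F) * Matrix.reindex e9 e9 ((b : GL F9 F) : M9 F)
    rw [Matrix.reindex_apply, Matrix.reindex_apply, Matrix.reindex_apply,
      Matrix.submatrix_mul_equiv]

theorem toSLHom_injective : Function.Injective (toSLHom hF hω) := by
  intro a b hab
  have h1 : Matrix.reindex e9 e9 ((a : GL F9 F) : M9 F) =
      Matrix.reindex e9 e9 ((b : GL F9 F) : M9 F) := congrArg Subtype.val hab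
  exact Subtype.ext (Units.ext ((Matrix.reindex e9 e9).injective h1))

theorem toSLHom_mem (g : threeJ3 F ω) : toSLHom hF hω g ∈ Cfsg.SU 9 F 2 := by
  have h2 := two_eq_zero hF
  intro u v
  show Cfsg.hermForm 9 F 2 ((toSL hF hω g : Matrix (Fin 9) (Fin 9) F) *ᵥ u)
    ((toSL hF hω g : Matrix (Fin 9) (Fin 9) F) *ᵥ v) = Cfsg.hermForm 9 F 2 u v
  apply herm_of_isU h2
  rw [coe_toSL, Matrix.reindex_apply, Matrix.transpose_submatrix, ← Matrix.submatrix_map,
    Matrix.submatrix_mul_equiv, isU_of_mem h2 hω g, Matrix.submatrix_one_equiv]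

/-- The homomorphism from `3·J₃` to `SU₉(2)`. -/
noncomputable def toSUHom : threeJ3 F ω →* Cfsg.SU 9 F 2 :=
  (toSLHom hF hω).codRestrict (Cfsg.SU 9 F 2) (toSLHom_mem hF hω)

theorem toSUHom_injective : Function.Injective (toSUHom hF hω) := by
  intro a b hab
  apply toSLHom_injective hF hω
  exact congrArg Subtype.val hab

/-- `3·J₃` as a subgroup of `SU₉(2)`. -/
theorem exists_subgroup_SU : ∃ H : Subgroup (Cfsg.SU 9 F 2),
    Nat.card (Subgroup.center H) = 3 ∧ IsSimpleGroup (H ⧸ Subgroup.center H) ∧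
      Nat.card (H ⧸ Subgroup.center H) = 50232960 := by
  let e : threeJ3 F ω ≃* (toSUHom hF hω).range :=
    MonoidHom.ofInjective (toSUHom_injective hF hω)
  refine ⟨(toSUHom hF hω).range, ?_, ?_, ?_⟩
  · rw [← Nat.card_congr (Subgroup.centerCongr e).toEquiv]
    exact card_center hF hω
  · have : IsSimpleGroup (threeJ3 F ω ⧸ Subgroup.center (threeJ3 F ω)) :=
      isSimpleGroup_J3 hF hω
    exact (quotCenterCongr e).symm.isSimpleGroup
  · rw [← Nat.card_congr (quotCenterCongr e).toEquiv]
    exact card_J3 hF hω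

end Det

end Cfsg.Agent.Lib.Helper90_J3Unitary
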