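import Mathlib
import Cfsg.Agent.Lib.Helper90_CodeTable
import Cfsg.Agent.Lib.Helper90_J3Core
import Cfsg.Agent.Lib.Helper90_J3Gens
import Cfsg.Agent.Lib.Helper90_J3DataP
import Cfsg.Agent.Lib.Helper90_J3InvData
import Cfsg.Agent.Lib.Helper90_J3Unitary
import Cfsg.Agent.Lib.Helper90_J3Simple

/-!
# Data for the outer automorphism group of `J₃` (helper90)

Generated by `tools/helper90_j3/emit_lean.py`.
-/

set_option autoImplicit false
set_option maxRecDepth 100000

namespace Cfsg.Agent.Lib.Helper90_J3OutData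

open Cfsg.Spor Cfsg.Agent.Lib.Helper90_CodeTable Cfsg.Agent.Lib.Helper90_J3Core
  Cfsg.Agent.Lib.Helper90_J3Gens Cfsg.Agent.Lib.Helper90_J3DataP Cfsg.Agent.Lib.Helper90_J3InvData
  Cfsg.Agent.Lib.Helper90_J3Unitary Cfsg.Agent.Lib.Helper90_J3Simple

/-- `anyLt n f = f 0 || … || f (n - 1)`. -/
def anyLt (n : ℕ) (f : ℕ → Bool) : Bool :=
  Nat.rec (motive := fun _ => Bool) false (fun i r => or (f i) r) n

theorem anyLt_spec {n : ℕ} {f : ℕ → Bool} (h : anyLt n f = true) : ∃ i < n, f i = true := by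
  induction n with
  | zero => exact absurd h Bool.false_ne_true
  | succ n ih =>
    have h' : (f n || anyLt n f) = true := h
    rw [Bool.or_eq_true] at h'
    rcases h' with h1 | h1
    · exact ⟨n, Nat.lt_succ_self n, h1⟩
    · obtain ⟨i, hi, hfi⟩ := ih h1
      exact ⟨i, Nat.lt_succ_of_lt hi, hfi⟩

/-- The word of the element `y` of order 19. -/
def wy : List ℕ := [0, 1, 2, 1, 0, 0, 0, 1, 0, 0, 1, 0, 0, 0, 0, 1, 0, 0, 1, 2, 2, 2, 2, 1, 1, 2, 2, 1, 2, 2, 2, 1, 0, 1, 2]

/-- The code of `y`. -/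
def cy : ℕ := 0x234e096bb72beff162c6f38a25e4607592851f4de
/-- The code of `y⁻¹`. -/
def cyi : ℕ := 0x3d59230e0053e45bdaeab4ac0de1b41d98d41a43e
/-- The code of `y³`. -/
def cy3 : ℕ := 0x3a859d8fbf2d668696c5bb4a44452cab5b31e01d8
/-- The code of the scalar `ω²`. -/
def cw2 : ℕ := 0x20100402008040100802010040200804010080201

theorem cy_eq : evalW wy = cy := by decide +kernel
theorem cyi_eq : evalW (winv wy) = cyi := by decide +kernel
theorem cy3_eq : cmulR (cmulR cy cy) cy = cy3 := by decide +kernel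
theorem cw2_eq : cmulR cw cw = cw2 := by decide +kernel
theorem cy_pow : cpow (evalW wy) 19 = cone := by decide +kernel
theorem cy_ne : cnorm (evalW wy) ≠ cnorm cone := by decide +kernel
theorem cnorm_cone : cnorm cone = cone := by decide +kernel
theorem cnorm_cw : cnorm cw = cw := by decide +kernel
theorem cnorm_cw2 : cnorm cw2 = cw2 := by decide +kernel

/-- The code is (up to normalisation) one of the three scalars. -/
def isScal (c : ℕ) : Bool :=
  force (cnorm c) fun d => or (Nat.beq d cone) (or (Nat.beq d cw) (Nat.beq d cw2))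

/-- The cube. -/
def cube (c : ℕ) : ℕ := force c fun d => cmulR (cmulR d d) d

/-- The sixth power. -/
def pow6 (c : ℕ) : ℕ := force (cube c) fun d => cmulR d d

/-- Chunk 0 of `Ysurv`. -/
def Ysurv_c0 : ℕ := 0x1b14892de60cba481a24be9833c9b0dc24009200170adee84ad5d77aaef557c0a4b051f18b9fbb2018071a0da08025b018890fca43f48301cdc907f5b81e2b0757c15b63947dc5dffe20f812f1eaed2d1809acc1bf2654f067aa50ec3b033b62ba78bb76d054445255c619395b0a6315c34faa05fa5ba740712cc66b048327237af090ce21735a870de9c9d7a4806e43a9135d4fe09a93847ebeaaa94aa001393633d2f9aae349445c2090f18554af5b33c2a03ba591c0fcc8d0a751bd1b70a929ab4d938c762d0d1b87e92b1fad7196c582591b989959792a0fa7453a4030010506834001011001444006032404060309010904aeb014e85d72a32841cd52b762f56b7e4ee00364fb6206ad00c5c1a8a839624c939dff339f7fa4fdc184bb9cb3b2cced31c87430021e58142019c0e507d5c5eeb16e99be1814c37e34ff02e7406bfc19cc804122361309c66e80c293126f66360e8c08c9f4fa9a60e6062793d3ad7f42e31ab8ad262d88f478000e0012800b0001300046006800130006400001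

/-- The chunk `k` of `Ysurv`. -/
def Ysurv_sel (_ : ℕ) : ℕ :=
  Ysurv_c0

/-- The conjugates of `t` under the powers of `y`. -/
def Ysurv (i : ℕ) : ℕ :=
  force (Nat.shiftRight i 8) fun k =>
    Nat.land (Nat.shiftRight (Ysurv_sel k) (Nat.mul 162 (Nat.land i 255))) 5846006549323611672814739330865132078623730171903

theorem Ysurv_ok : allLt 19 (fun k =>
    Nat.beq (Ysurv k) (cmulR (cmulR (cpow cy k) cg2) (cpow cyi k))) = true := by decide +kernel

/-- The entry `i` of `Itab` violates one of the two relations or is a conjugate of `t` under `⟨y⟩`. -/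
def chkSurv (i : ℕ) : Bool :=
  force (Itab i) fun e =>
    or (not (isScal (cube (cmulR cy e))))
      (or (not (isScal (pow6 (cmulR cy3 e))))
        (anyLt 19 fun k => Nat.beq e (Ysurv k)))

/-- The check of the survivors on an interval. -/
def survChk (lo n : ℕ) : Bool := allFrom lo n chkSurv

theorem rel1 : cube (cmulR cy cg2) = cone := by decide +kernel
theorem rel2 : pow6 (cmulR cy3 cg2) = cone := by decide +kernel
theorem cw2_ne : cnorm cw2 ≠ cnorm cw := by decide +kernel
theorem t_sq : evalW [1, 1] = evalW [] := by decide +kernel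
theorem t_ne : cnorm (evalW [1]) ≠ cnorm (evalW []) := by decide +kernel

/-- The word of `g₁` in the letters `y`, `t`, `y⁻¹`. -/
def wg1 : List ℕ := [0, 0, 0, 1, 0, 0, 0, 0, 1, 2, 2, 1, 0, 0, 0, 0, 1, 0, 0, 0, 0, 0, 0, 1, 2, 2, 2, 2, 1, 2, 2, 1, 0, 0, 1, 2, 2, 2, 2]

/-- The segments. -/
def seg (l : ℕ) : List ℕ :=
  Nat.rec (motive := fun _ => List ℕ) wy (fun l _ =>
    Nat.rec (motive := fun _ => List ℕ) [1] (fun _ _ => winv wy) l) l

/-- Substitution of the segments. -/
def flat : List ℕ → List ℕ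
  | [] => []
  | l :: w => seg l ++ flat w

theorem g1_flat : evalW (flat wg1) = evalW [0] := by decide +kernel

/-- The code of the permutation matrix of `z ↦ z̄`. -/
def cP : ℕ := 0x80004000040000400020000200002000100001
/-- The code of the image of `g₁` under the Frobenius map. -/
def cf1 : ℕ := 0x4000080400008000100002000040100002000040

theorem cP_sq : cmulR cP cP = cone := by decide +kernel
theorem ent_f1 : ∀ w z : F9, ent cf1 (ix w) (ix z) = conj4 (ent cg1 (ix w) (ix z)) := by
  decide +kernel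
theorem ent_f2 : ∀ w z : F9, ent cg2 (ix w) (ix z) = conj4 (ent cg2 (ix w) (ix z)) := by
  decide +kernel
theorem ent_f41 : ∀ w z : F9, ent (gen 41) (ix w) (ix z) = conj4 (ent (gen 41) (ix w) (ix z)) := by
  decide +kernel
theorem ent_fw : ∀ w z : F9, ent cw2 (ix w) (ix z) = conj4 (ent cw (ix w) (ix z)) := by
  decide +kernel
theorem sig_g1 : cmulR (cmulR cP cf1) cP = cg1 := by decide +kernel
theorem sig_g2 : cmulR (cmulR cP cg2) cP = gen 41 := by decide +kernel
theorem sig_41 : cmulR (cmulR cP (gen 41)) cP = cg2 := by decide +kernel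
theorem sig_w : cmulR (cmulR cP cw2) cP = cw2 := by decide +kernel

/-- The images of the letters under `σ`. -/
def sseg (l : ℕ) : List ℕ :=
  Nat.rec (motive := fun _ => List ℕ) [0] (fun l _ =>
    Nat.rec (motive := fun _ => List ℕ) (word 41) (fun _ _ => [2]) l) l

/-- The image of a word under `σ`. -/
def sflat : List ℕ → List ℕ
  | [] => []
  | l :: w => sseg l ++ sflat w

/-- The word of an element `X` with `X σ(y) X⁻¹ = y²`. -/
def wX : List ℕ := [0, 1, 2, 1, 0, 1, 2, 2, 1, 0, 0, 0, 0]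

theorem X_rel : evalW (wX ++ (sflat wy ++ winv wX)) = evalW (wy ++ wy) := by decide +kernel

end Cfsg.Agent.Lib.Helper90_J3OutData
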