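import Mathlib
import Cfsg.Agent.Lib.Helper90_CodeTable
import Cfsg.Agent.Lib.Helper90_J3Core
import Cfsg.Agent.Lib.Helper90_J3OutData
import Cfsg.Agent.Lib.Helper90_J3OutSv0
import Cfsg.Agent.Lib.Helper90_J3OutSv1
import Cfsg.Agent.Lib.Helper90_J3OutSv2
import Cfsg.Agent.Lib.Helper90_J3OutSv3
import Cfsg.Agent.Lib.Helper90_J3OutSv4
import Cfsg.Agent.Lib.Helper90_J3OutSv5
import Cfsg.Agent.Lib.Helper90_J3OutSv6
import Cfsg.Agent.Lib.Helper90_J3OutSv7

/-!
# Check of the survivors: all parts (helper90)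

Generated by `tools/helper90_j3/emit_lean.py`.
-/

set_option autoImplicit false
set_option maxRecDepth 100000

namespace Cfsg.Agent.Lib.Helper90_J3OutSvAll

open Cfsg.Agent.Lib.Helper90_CodeTable Cfsg.Agent.Lib.Helper90_J3Core
  Cfsg.Agent.Lib.Helper90_J3OutData
  Cfsg.Agent.Lib.Helper90_J3OutSv0
  Cfsg.Agent.Lib.Helper90_J3OutSv1
  Cfsg.Agent.Lib.Helper90_J3OutSv2
  Cfsg.Agent.Lib.Helper90_J3OutSv3
  Cfsg.Agent.Lib.Helper90_J3OutSv4
  Cfsg.Agent.Lib.Helper90_J3OutSv5
  Cfsg.Agent.Lib.Helper90_J3OutSv6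
  Cfsg.Agent.Lib.Helper90_J3OutSv7

theorem surv_ok : ∀ i < 26163, chkSurv i = true := by
  intro i hi
  by_cases h0 : i < 3271
  · exact allFrom_spec surv_0 i (by omega) (by omega)
  by_cases h1 : i < 6542
  · exact allFrom_spec surv_1 i (by omega) (by omega)
  by_cases h2 : i < 9813
  · exact allFrom_spec surv_2 i (by omega) (by omega)
  by_cases h3 : i < 13084
  · exact allFrom_spec surv_3 i (by omega) (by omega)
  by_cases h4 : i < 16355
  · exact allFrom_spec surv_4 i (by omega) (by omega)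
  by_cases h5 : i < 19626
  · exact allFrom_spec surv_5 i (by omega) (by omega)
  by_cases h6 : i < 22897
  · exact allFrom_spec surv_6 i (by omega) (by omega)
  exact allFrom_spec surv_7 i (by omega) (by omega)

end Cfsg.Agent.Lib.Helper90_J3OutSvAll
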