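import Mathlib
import Cfsg.Prelude.Def_Spor_J3
import Cfsg.Prelude.Def_KGroupFacts
import Cfsg.Agent.Lib.Helper90_CodeTable
import Cfsg.Agent.Lib.Helper90_J3Core
import Cfsg.Agent.Lib.Helper90_J3Gens
import Cfsg.Agent.Lib.Helper90_J3Group
import Cfsg.Agent.Lib.Helper90_J3DataP
import Cfsg.Agent.Lib.Helper90_J3Order
import Cfsg.Agent.Lib.Helper90_J3Simple
import Cfsg.Agent.Lib.Helper90_J3Center
import Cfsg.Agent.Lib.Helper90_J3Unitary
import Cfsg.Agent.Lib.Helper90_J3InvData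
import Cfsg.Agent.Lib.Helper90_J3OutData

/-!
# The outer automorphism of `J₃` (helper90)

`σ(g) = P · g^φ · P⁻¹`, where `φ` is the Frobenius map on the entries and `P` is the permutation
matrix of `z ↦ z̄` on the basis indexed by `𝔽₉`, maps every generator of `3·J₃` to a generator.
It inverts the centre, and is not inner modulo the centre.
-/

set_option autoImplicit false

namespace Cfsg.Agent.Lib.Helper90_J3Sigma

open Cfsg Cfsg.Spor Cfsg.Agent.Lib.Helper90_CodeTable Cfsg.Agent.Lib.Helper90_J3Core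
  Cfsg.Agent.Lib.Helper90_J3Gens Cfsg.Agent.Lib.Helper90_J3Group
  Cfsg.Agent.Lib.Helper90_J3DataP Cfsg.Agent.Lib.Helper90_J3Order
  Cfsg.Agent.Lib.Helper90_J3Simple Cfsg.Agent.Lib.Helper90_J3Center
  Cfsg.Agent.Lib.Helper90_J3Unitary Cfsg.Agent.Lib.Helper90_J3InvData
  Cfsg.Agent.Lib.Helper90_J3OutData

variable {F : Type*} [Field F] {ω : F}

section Sigma

variable (h2 : (2 : F) = 0) (hω : ω ^ 2 + ω + 1 = 0)

/-- Squaring, a ring homomorphism in characteristic 2. -/
def sqHom : F →+* F where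
  toFun x := x ^ 2
  map_one' := one_pow 2
  map_mul' x y := mul_pow x y 2
  map_zero' := by simp
  map_add' x y := by
    have e : (x + y) ^ 2 = x ^ 2 + y ^ 2 + 2 * (x * y) := by ring
    rw [e, h2, zero_mul, add_zero]

theorem sqHom_apply (x : F) : sqHom h2 x = x ^ 2 := rfl

include hω in
/-- The image of a code under the Frobenius map. -/
theorem map_sq_toMat {c c' : ℕ}
    (h : ∀ w z : F9, ent c' (ix w) (ix z) = conj4 (ent c (ix w) (ix z))) :
    (toMat F ω c).map (sqHom h2) = toMat F ω c' := by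
  ext w z
  rw [Matrix.map_apply, toMat_apply, toMat_apply, h, val4_conj4 h2 hω (ent_lt _ _ _)]
  rfl

/-- The permutation matrix `P` in `GL₉(F)`. -/
def Pgl : GL F9 F := mkU h2 hω cP cP cP_sq cP_sq

/-- The map `σ` on `GL₉(F)`. -/
def sigGL : GL F9 F →* GL F9 F :=
  (MulAut.conj (Pgl h2 hω)).toMonoidHom.comp (Matrix.GeneralLinearGroup.map (sqHom h2))

theorem coe_sigGL (g : GL F9 F) : ((sigGL h2 hω g : GL F9 F) : M9 F) =
    toMat F ω cP * ((g : M9 F).map (sqHom h2)) * toMat F ω cP := by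
  show ((Pgl h2 hω * Matrix.GeneralLinearGroup.map (sqHom h2) g * (Pgl h2 hω)⁻¹ : GL F9 F) : M9 F)
    = _
  rw [Units.val_mul, Units.val_mul]
  rfl

theorem sigGL_of_code {g g' : GL F9 F} {c c' d : ℕ} (hg : (g : M9 F) = toMat F ω c)
    (h : ∀ w z : F9, ent c' (ix w) (ix z) = conj4 (ent c (ix w) (ix z)))
    (hd : cmulR (cmulR cP c') cP = d) (hg' : (g' : M9 F) = toMat F ω d) :
    sigGL h2 hω g = g' := by
  apply Units.ext
  rw [coe_sigGL, hg, map_sq_toMat h2 hω h, ← toMat_cmulR h2 hω, ← toMat_cmulR h2 hω, hd, hg']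

theorem coe_word41 : ((evalG h2 hω (word 41) : GL F9 F) : M9 F) = toMat F ω (gen 41) := by
  rw [← toMat_evalW h2 hω, word_ok ⟨41, by norm_num⟩]

theorem sigGL_glet0 : sigGL h2 hω (glet h2 hω 0) = glet h2 hω 0 :=
  sigGL_of_code h2 hω (coe_glet h2 hω 0) ent_f1 sig_g1 (coe_glet h2 hω 0)

theorem sigGL_glet1 : sigGL h2 hω (glet h2 hω 1) = evalG h2 hω (word 41) :=
  sigGL_of_code h2 hω (coe_glet h2 hω 1) ent_f2 sig_g2 (coe_word41 h2 hω)

theorem sigGL_word41 : sigGL h2 hω (evalG h2 hω (word 41)) = glet h2 hω 1 :=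
  sigGL_of_code h2 hω (coe_word41 h2 hω) ent_f41 sig_41 (coe_glet h2 hω 1)

theorem coe_gw_single (l : ℕ) : ((gw h2 hω [l] : threeJ3 F ω) : GL F9 F) = glet h2 hω l := by
  show evalG h2 hω [l] = _
  simp [evalG]

theorem sigGL_mem (g : threeJ3 F ω) : sigGL h2 hω (g : GL F9 F) ∈ threeJ3 F ω := by
  have h : (⊤ : Subgroup (threeJ3 F ω)) ≤
      (threeJ3 F ω).comap ((sigGL h2 hω).comp (threeJ3 F ω).subtype) := by
    rw [← closure_gw h2 hω, Subgroup.closure_le]
    rintro x (rfl | rfl)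
    · show sigGL h2 hω ((gw h2 hω [0] : threeJ3 F ω) : GL F9 F) ∈ threeJ3 F ω
      rw [coe_gw_single, sigGL_glet0]
      exact glet_mem h2 hω 0
    · show sigGL h2 hω ((gw h2 hω [1] : threeJ3 F ω) : GL F9 F) ∈ threeJ3 F ω
      rw [coe_gw_single, sigGL_glet1]
      exact evalG_mem h2 hω _
  exact h (Subgroup.mem_top g)

/-- `σ` on `3·J₃`. -/
def sigHom : threeJ3 F ω →* threeJ3 F ω :=
  ((sigGL h2 hω).comp (threeJ3 F ω).subtype).codRestrict (threeJ3 F ω) (sigGL_mem h2 hω)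

theorem coe_sigHom (g : threeJ3 F ω) :
    ((sigHom h2 hω g : threeJ3 F ω) : GL F9 F) = sigGL h2 hω (g : GL F9 F) := rfl

theorem sigHom_sigHom (g : threeJ3 F ω) : sigHom h2 hω (sigHom h2 hω g) = g := by
  have h : (sigHom h2 hω).comp (sigHom h2 hω) = MonoidHom.id _ := by
    apply MonoidHom.eq_of_eqOn_dense (closure_gw h2 hω)
    rintro x (rfl | rfl)
    · apply Subtype.ext
      show sigGL h2 hω (sigGL h2 hω ((gw h2 hω [0] : threeJ3 F ω) : GL F9 F)) = _
      rw [coe_gw_single, sigGL_glet0, sigGL_glet0]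
      exact (coe_gw_single h2 hω 0).symm
    · apply Subtype.ext
      show sigGL h2 hω (sigGL h2 hω ((gw h2 hω [1] : threeJ3 F ω) : GL F9 F)) = _
      rw [coe_gw_single, sigGL_glet1, sigGL_word41]
      exact (coe_gw_single h2 hω 1).symm
  exact DFunLike.congr_fun h g

/-- `σ` as an automorphism of `3·J₃`. -/
def sigEquiv : threeJ3 F ω ≃* threeJ3 F ω where
  toFun := sigHom h2 hω
  invFun := sigHom h2 hω
  left_inv := sigHom_sigHom h2 hω
  right_inv := sigHom_sigHom h2 hω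
  map_mul' := map_mul _

theorem sigGL_evalG (w : List ℕ) :
    sigGL h2 hω (evalG h2 hω w) = evalG h2 hω (sflat w) := by
  induction w with
  | nil => simp [sflat, evalG]
  | cons l w ih =>
    rw [evalG_cons, map_mul, ih]
    show _ = evalG h2 hω (sseg l ++ sflat w)
    rw [evalG_append]
    congr 1
    rcases l with _ | _ | l
    · show sigGL h2 hω (glet h2 hω 0) = evalG h2 hω [0]
      rw [sigGL_glet0]
      simp [evalG]
    · exact sigGL_glet1 h2 hω
    · show sigGL h2 hω (glet h2 hω (l + 2)) = evalG h2 hω [2]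
      rw [glet_two_eq, map_inv, sigGL_glet0]
      simp only [evalG, List.map_cons, List.map_nil, List.prod_cons, List.prod_nil, mul_one]
      exact (glet_two_eq h2 hω 0).symm

theorem sigHom_gw (w : List ℕ) : sigHom h2 hω (gw h2 hω w) = gw h2 hω (sflat w) :=
  Subtype.ext (sigGL_evalG h2 hω w)

/-- `X σ(y) X⁻¹ = y²`. -/
theorem X_conj : gw h2 hω wX * sigHom h2 hω (gw h2 hω wy) * (gw h2 hω wX)⁻¹ = gw h2 hω wy ^ 2 := by
  rw [sigHom_gw, ← gw_winv, ← gw_append, ← gw_append, pow_two, ← gw_append]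
  apply Subtype.ext
  show evalG h2 hω _ = evalG h2 hω _
  apply evalG_eq_of_code
  rw [List.append_assoc]
  exact X_rel

end Sigma

end Cfsg.Agent.Lib.Helper90_J3Sigma
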