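import Mathlib
import Cfsg.Prelude.Def_KGroupFacts

/-!
# A criterion for `|Out G| = 2` through a Sylow subgroup of order 19 (helper90)

`G` is a finite group whose order is divisible by 19 exactly once, generated by an element `y` of
order 19 and an element `t`.  If an automorphism `σ` with `σ² = 1`, not inner, maps `y` to a
conjugate of `y²` (2 is a primitive root modulo 19), and every automorphism fixing `y` maps `t` to
one of its conjugates under `⟨y⟩`, then `Out G` has order 2.
(The conjugacy lemma follows `Helper93_OutAbs.exists_conj_prime'`.)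
-/

set_option autoImplicit false
open Cfsg

namespace Cfsg.Agent.Lib.Helper90_OutCyc

/-- Elements of prime order `p`, where `p` divides the group order exactly once, are conjugate to
powers of a given one. -/
theorem exists_conj_pow {G : Type*} [Group G] [Finite G] (p : ℕ) [hp : Fact p.Prime] {s : ℕ}
    (hcard : Nat.card G = p * s) (hs : ¬ p ∣ s) {a x : G} (hoa : orderOf a = p)
    (hox : orderOf x = p) :
    ∃ c : G, ∃ k : ℕ, k < p ∧ k ≠ 0 ∧ c * a ^ k * c⁻¹ = x := by
  have hs0 : s ≠ 0 := by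
    rintro rfl
    simp at hs
  have hfac : (Nat.card G).factorization p = 1 := by
    rw [hcard, Nat.factorization_mul hp.out.ne_zero hs0]
    have h55 : (Nat.factorization p) p = 1 := Nat.Prime.factorization_self hp.out
    simp [h55, Nat.factorization_eq_zero_of_not_dvd hs]
  have hx1 : x ≠ 1 := by
    rintro rfl
    rw [orderOf_one] at hox
    exact hp.out.one_lt.ne hox
  let P : Sylow p G := Sylow.ofCard (Subgroup.zpowers a) (by
    rw [Nat.card_zpowers, hoa, hfac, pow_one])
  let Q : Sylow p G := Sylow.ofCard (Subgroup.zpowers x) (by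
    rw [Nat.card_zpowers, hox, hfac, pow_one])
  obtain ⟨g, hg⟩ := MulAction.exists_smul_eq G P Q
  have hxQ : x ∈ (Q : Subgroup G) := Subgroup.mem_zpowers x
  rw [← hg, Sylow.coe_subgroup_smul, Subgroup.mem_pointwise_smul_iff_inv_smul_mem] at hxQ
  have hxP : g⁻¹ * x * g ∈ Subgroup.zpowers a := by
    have : (MulAut.conj g)⁻¹ • x = g⁻¹ * x * g := by
      rw [← map_inv, MulAut.smul_def, MulAut.conj_apply, inv_inv]
    rw [← this]
    exact hxQ
  obtain ⟨z, hz⟩ := Subgroup.mem_zpowers_iff.1 hxP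
  have hp0 : (p : ℤ) ≠ 0 := by exact_mod_cast hp.out.ne_zero
  have hz' : a ^ (z % p).toNat = g⁻¹ * x * g := by
    rw [← hz, ← zpow_natCast, Int.toNat_of_nonneg (Int.emod_nonneg _ hp0),
      ← zpow_mod_orderOf a z, hoa]
  have hlt : (z % p).toNat < p := by
    have := Int.emod_lt_of_pos z (by exact_mod_cast hp.out.pos : (0 : ℤ) < p)
    have h0 := Int.emod_nonneg z hp0
    omega
  generalize (z % p).toNat = j at hz' hlt
  have hj0 : j ≠ 0 := by
    rintro rfl
    apply hx1
    have : g⁻¹ * x * g = 1 := by rw [← hz', pow_zero]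
    calc x = g * (g⁻¹ * x * g) * g⁻¹ := by group
      _ = 1 := by rw [this]; group
  refine ⟨g, j, hlt, hj0, ?_⟩
  rw [hz']
  group

theorem two_pow_mod : ∀ k : Fin 19, k.val ≠ 0 → ∃ m : Fin 18, 2 ^ m.val % 19 = k.val := by
  decide

section

variable {G : Type*} [Group G]

theorem pow_apply_of_sq (τ : MulAut G) {y : G} (h : τ y = y ^ 2) (m : ℕ) :
    (τ ^ m) y = y ^ (2 ^ m) := by
  induction m with
  | zero => simp
  | succ m ih =>
    rw [pow_succ, MulAut.mul_apply, h, map_pow, ih, ← pow_mul, pow_succ]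

theorem eq_one_of_fix (δ : MulAut G) {y t : G} (hgen : Subgroup.closure {y, t} = ⊤)
    (hy : δ y = y) (ht : δ t = t) : δ = 1 := by
  have h : δ.toMonoidHom = MonoidHom.id G := by
    apply MonoidHom.eq_of_eqOn_dense hgen
    rintro x (rfl | rfl)
    · exact hy
    · exact ht
  ext x
  exact DFunLike.congr_fun h x

variable [Finite G]

/-- The criterion. -/
theorem card_out_eq_two {s : ℕ} (hcard : Nat.card G = 19 * s) (hs : ¬ 19 ∣ s) (y t X : G)
    (σ : MulAut G) (hy : orderOf y = 19) (hgen : Subgroup.closure {y, t} = ⊤)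
    (hσ2 : σ * σ = 1) (hσ : σ ∉ Inn G) (hX : X * σ y * X⁻¹ = y ^ 2)
    (hsurv : ∀ α : MulAut G, α y = y → ∃ k : ℕ, α t = y ^ k * t * (y ^ k)⁻¹) :
    Nat.card (Out G) = 2 := by
  have hp : Fact (Nat.Prime 19) := ⟨by norm_num⟩
  have hy19 : y ^ 19 = 1 := by rw [← hy]; exact pow_orderOf_eq_one y
  set τ : MulAut G := MulAut.conj X * σ with hτ
  have hτy : τ y = y ^ 2 := by
    rw [hτ, MulAut.mul_apply, MulAut.conj_apply, hX]
  have hconj : ∀ g : G, (QuotientGroup.mk (MulAut.conj g) : Out G) = 1 := by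
    intro g
    rw [QuotientGroup.eq_one_iff]
    exact ⟨g, rfl⟩
  have hτq : (QuotientGroup.mk τ : Out G) = QuotientGroup.mk σ := by
    rw [hτ, QuotientGroup.mk_mul, hconj, one_mul]
  have key : ∀ α : MulAut G, ∃ m : ℕ, (QuotientGroup.mk α : Out G) = (QuotientGroup.mk σ) ^ m := by
    intro α
    have hoα : orderOf (α y) = 19 := by
      rw [← hy]
      exact MulEquiv.orderOf_eq α y
    obtain ⟨c, k, hk, hk0, hck⟩ := exists_conj_pow 19 hcard hs hy hoα
    obtain ⟨m, hm⟩ := two_pow_mod ⟨k, hk⟩ hk0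
    have hm' : y ^ (2 ^ m.val) = y ^ k := by
      rw [← pow_mod_orderOf y (2 ^ m.val), hy, hm]
    set γ : MulAut G := (τ ^ m.val)⁻¹ * ((MulAut.conj c)⁻¹ * α) with hγ
    have hγy : γ y = y := by
      rw [hγ, MulAut.mul_apply, MulAut.mul_apply, ← hck, ← map_inv, MulAut.conj_apply, inv_inv]
      have e : c⁻¹ * (c * y ^ k * c⁻¹) * c = y ^ k := by group
      rw [e, ← hm', ← pow_apply_of_sq τ hτy m.val]
      exact MulAut.inv_apply_self _ _ y
    obtain ⟨j, hj⟩ := hsurv γ hγy
    have hδ : (MulAut.conj (y ^ j))⁻¹ * γ = 1 := by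
      apply eq_one_of_fix _ hgen
      · rw [MulAut.mul_apply, hγy, ← map_inv, MulAut.conj_apply, inv_inv]
        rw [mul_assoc, ← pow_succ', pow_succ, inv_mul_cancel_left]
      · rw [MulAut.mul_apply, hj, ← map_inv, MulAut.conj_apply, inv_inv]
        group
    have hγ' : γ = MulAut.conj (y ^ j) := by
      rw [← mul_one (MulAut.conj (y ^ j)), ← hδ, mul_inv_cancel_left]
    have hα : α = MulAut.conj c * (τ ^ m.val * MulAut.conj (y ^ j)) := by
      rw [← hγ', hγ]
      group
    refine ⟨m.val, ?_⟩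
    rw [hα, QuotientGroup.mk_mul, QuotientGroup.mk_mul, hconj, hconj, one_mul, mul_one,
      QuotientGroup.mk_pow, hτq]
  have htop : Subgroup.zpowers (QuotientGroup.mk σ : Out G) = ⊤ := by
    rw [eq_top_iff]
    rintro a -
    induction a using QuotientGroup.induction_on with
    | H α =>
      obtain ⟨m, hm⟩ := key α
      rw [hm]
      exact Subgroup.pow_mem _ (Subgroup.mem_zpowers _) m
  have hcardO : Nat.card (Out G) = orderOf (QuotientGroup.mk σ : Out G) := by
    rw [← Nat.card_zpowers, htop, Subgroup.card_top]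
  rw [hcardO]
  have hdvd : orderOf (QuotientGroup.mk σ : Out G) ∣ 2 := by
    apply orderOf_dvd_of_pow_eq_one
    rw [pow_two, ← QuotientGroup.mk_mul, hσ2]
    rfl
  rcases (Nat.dvd_prime Nat.prime_two).mp hdvd with h1 | h2
  · exfalso
    apply hσ
    rw [orderOf_eq_one_iff, QuotientGroup.eq_one_iff] at h1
    exact h1
  · exact h2

end

end Cfsg.Agent.Lib.Helper90_OutCyc
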