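import Mathlib
import Cfsg.Prelude.Def_Spor_J3
import Cfsg.Prelude.Def_KGroupFacts
import Cfsg.Agent.Lib.Helper90_CodeTable
import Cfsg.Agent.Lib.Helper90_J3Core
import Cfsg.Agent.Lib.Helper90_J3Gens
import Cfsg.Agent.Lib.Helper90_J3Group
import Cfsg.Agent.Lib.Helper90_J3DataP
import Cfsg.Agent.Lib.Helper90_J3Order
import Cfsg.Agent.Lib.Helper90_J3Simple
import Cfsg.Agent.Lib.Helper90_J3Center
import Cfsg.Agent.Lib.Helper90_J3Unitary
import Cfsg.Agent.Lib.Helper90_J3InvData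
import Cfsg.Agent.Lib.Helper90_J3Inv
import Cfsg.Agent.Lib.Helper90_J3OutData
import Cfsg.Agent.Lib.Helper90_J3OutSvAll
import Cfsg.Agent.Lib.Helper90_J3Sigma
import Cfsg.Agent.Lib.Helper90_OutCyc

/-!
# `|Out(J₃)| = 2` (helper90)

Assembly: the criterion of `Helper90_OutCyc` with `y` of order 19, `t = g₂`, the automorphism `σ`
of `Helper90_J3Sigma`, and the table of involutions of `Helper90_J3Inv`.
-/

set_option autoImplicit false

namespace Cfsg.Agent.Lib.Helper90_J3Out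

open Cfsg Cfsg.Spor Cfsg.Agent.Lib.Helper90_CodeTable Cfsg.Agent.Lib.Helper90_J3Core
  Cfsg.Agent.Lib.Helper90_J3Gens Cfsg.Agent.Lib.Helper90_J3Group
  Cfsg.Agent.Lib.Helper90_J3DataP Cfsg.Agent.Lib.Helper90_J3Order
  Cfsg.Agent.Lib.Helper90_J3Simple Cfsg.Agent.Lib.Helper90_J3Center
  Cfsg.Agent.Lib.Helper90_J3Unitary Cfsg.Agent.Lib.Helper90_J3InvData
  Cfsg.Agent.Lib.Helper90_J3Inv Cfsg.Agent.Lib.Helper90_J3OutData
  Cfsg.Agent.Lib.Helper90_J3OutSvAll Cfsg.Agent.Lib.Helper90_J3Sigma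
  Cfsg.Agent.Lib.Helper90_OutCyc

variable {F : Type*} [Field F] {ω : F}

/-! ### Code-level specifications -/

theorem isScal_of_eq {c : ℕ} (h : cnorm c = cone ∨ cnorm c = cw ∨ cnorm c = cw2) :
    isScal c = true := by
  unfold isScal
  simp only [force_eq, Bool.or_eq_true]
  rcases h with h | h | h
  · left; rw [h]; exact Nat.beq_refl _
  · right; left; rw [h]; exact Nat.beq_refl _
  · right; right; rw [h]; exact Nat.beq_refl _

theorem chkSurv_spec {i : ℕ} (h : chkSurv i = true)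
    (h1 : isScal (cube (cmulR cy (Itab i))) = true)
    (h2 : isScal (pow6 (cmulR cy3 (Itab i))) = true) :
    ∃ k < 19, Itab i = cmulR (cmulR (cpow cy k) cg2) (cpow cyi k) := by
  unfold chkSurv at h
  simp only [force_eq, Bool.or_eq_true, Bool.not_eq_true'] at h
  rcases h with h | h | h
  · rw [h1] at h; exact absurd h (by decide)
  · rw [h2] at h; exact absurd h (by decide)
  · obtain ⟨k, hk, hk2⟩ := anyLt_spec h
    refine ⟨k, hk, ?_⟩
    rw [Nat.eq_of_beq_eq_true hk2]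
    exact Nat.eq_of_beq_eq_true (allLt_spec Ysurv_ok k hk)

section Codes

variable (h2 : (2 : F) = 0) (hω : ω ^ 2 + ω + 1 = 0)

include h2 hω

theorem toMat_cube (c : ℕ) : toMat F ω (cube c) = toMat F ω c ^ 3 := by
  unfold cube
  rw [force_eq, toMat_cmulR h2 hω, toMat_cmulR h2 hω, pow_succ, pow_two]

theorem toMat_pow6 (c : ℕ) : toMat F ω (pow6 c) = toMat F ω c ^ 6 := by
  unfold pow6
  rw [force_eq, toMat_cmulR h2 hω, toMat_cube h2 hω, ← pow_add]

end Codes

theorem coe_pow' (g : threeJ3 F ω) (n : ℕ) :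
    (((g ^ n : threeJ3 F ω) : GL F9 F) : M9 F) = ((g : GL F9 F) : M9 F) ^ n := by
  rw [Subgroup.coe_pow, Units.val_pow_eq_pow_val]

theorem coe_mul' (g h : threeJ3 F ω) :
    (((g * h : threeJ3 F ω) : GL F9 F) : M9 F) = ((g : GL F9 F) : M9 F) * ((h : GL F9 F) : M9 F) := by
  rw [Subgroup.coe_mul, Units.val_mul]

section Main

variable [Fintype F] (hF : Fintype.card F = 4) (hω : ω ^ 2 + ω + 1 = 0)

include hF hω

theorem toMat_cw2 : toMat F ω cw2 = Matrix.diagonal fun _ => ω * ω := by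
  rw [← cw2_eq, toMat_cmulR (two_eq_zero hF) hω, toMat_cw, Matrix.diagonal_mul_diagonal]

/-- An element of `3·J₃` whose matrix is scalar is central. -/
theorem central_of_diagonal {x : threeJ3 F ω} {a : F}
    (hx : ((x : GL F9 F) : M9 F) = Matrix.diagonal fun _ => a) :
    x ∈ Subgroup.center (threeJ3 F ω) := by
  rw [Subgroup.mem_center_iff]
  intro g
  apply Subtype.ext
  apply Units.ext
  show ((g : GL F9 F) : M9 F) * ((x : GL F9 F) : M9 F) =
    ((x : GL F9 F) : M9 F) * ((g : GL F9 F) : M9 F)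
  rw [hx]
  ext i j
  rw [Matrix.mul_diagonal, Matrix.diagonal_mul, mul_comm]

/-- The matrix of a central element is one of the three scalars. -/
theorem central_cases {z : threeJ3 F ω} (hz : z ∈ Subgroup.center (threeJ3 F ω)) :
    ((z : GL F9 F) : M9 F) = toMat F ω cone ∨ ((z : GL F9 F) : M9 F) = toMat F ω cw ∨
      ((z : GL F9 F) : M9 F) = toMat F ω cw2 := by
  have h2 := two_eq_zero hF
  have hg' := coe_central h2 hω z hz
  have ha0 : ((z : GL F9 F) : M9 F) 0 0 ≠ 0 := by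
    intro h0
    have h1 : ((z : GL F9 F) : M9 F) * (((z : GL F9 F)⁻¹ : GL F9 F) : M9 F) = 1 := by
      rw [← Units.val_mul, mul_inv_cancel]
      rfl
    rw [hg', h0] at h1
    have := congrFun (congrFun h1 0) 0
    rw [Matrix.diagonal_mul, zero_mul, Matrix.one_apply_eq] at this
    exact zero_ne_one this
  rcases eq_of_ne_zero hF hω ha0 with h | h | h
  · left
    rw [hg', h, Matrix.diagonal_one, toMat_cone]
  · right; left
    rw [hg', h, toMat_cw]
  · right; right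
    rw [hg', h, toMat_cw2 hF hω, pow_two]

theorem isScal_of_central {z : threeJ3 F ω} (hz : z ∈ Subgroup.center (threeJ3 F ω)) {c : ℕ}
    (hc : ((z : GL F9 F) : M9 F) = toMat F ω c) : isScal c = true := by
  have h2 := two_eq_zero hF
  apply isScal_of_eq
  rcases central_cases hF hω hz with h | h | h
  · left
    rw [← cnorm_cone]
    exact cnorm_eq_of_toMat_eq h2 hω (by rw [← hc, h])
  · right; left
    rw [← cnorm_cw]
    exact cnorm_eq_of_toMat_eq h2 hω (by rw [← hc, h])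
  · right; right
    rw [← cnorm_cw2]
    exact cnorm_eq_of_toMat_eq h2 hω (by rw [← hc, h])

theorem cube_central {z : threeJ3 F ω} (hz : z ∈ Subgroup.center (threeJ3 F ω)) : z ^ 3 = 1 := by
  have h := pow_card_eq_one' (G := Subgroup.center (threeJ3 F ω)) (x := ⟨z, hz⟩)
  rw [card_center hF hω] at h
  exact congrArg Subtype.val h

/-! ### The elements `y` and `t` -/

theorem coe_y : ((gw (two_eq_zero hF) hω wy : GL F9 F) : M9 F) = toMat F ω cy := by
  show ((evalG (two_eq_zero hF) hω wy : GL F9 F) : M9 F) = _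
  rw [← toMat_evalW (two_eq_zero hF) hω, cy_eq]

theorem coe_t : ((gw (two_eq_zero hF) hω [1] : GL F9 F) : M9 F) = toMat F ω cg2 := by
  show ((evalG (two_eq_zero hF) hω [1] : GL F9 F) : M9 F) = _
  rw [← toMat_evalW (two_eq_zero hF) hω]
  rfl

theorem coe_yi : (((gw (two_eq_zero hF) hω wy)⁻¹ : threeJ3 F ω) : GL F9 F) =
    evalG (two_eq_zero hF) hω (winv wy) := by
  rw [← gw_winv]
  rfl

theorem orderOf_y : orderOf (gw (two_eq_zero hF) hω wy) = 19 := by
  have := fact19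
  exact orderOf_gw_eq (two_eq_zero hF) hω cy_pow cy_ne

theorem t_sq_eq : gw (two_eq_zero hF) hω [1] ^ 2 = 1 := by
  rw [pow_two, ← gw_append, ← gw_nil (two_eq_zero hF) hω]
  apply Subtype.ext
  exact evalG_eq_of_code (two_eq_zero hF) hω t_sq

theorem t_ne_one : gw (two_eq_zero hF) hω [1] ≠ 1 := by
  intro h
  apply evalG_ne_of_code (two_eq_zero hF) hω t_ne
  have := congrArg Subtype.val h
  rw [← gw_nil (two_eq_zero hF) hω] at this
  exact this

/-- `3·J₃` is generated by `y` and `t`. -/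
theorem closure_yt : Subgroup.closure {gw (two_eq_zero hF) hω wy, gw (two_eq_zero hF) hω [1]} =
    (⊤ : Subgroup (threeJ3 F ω)) := by
  have h2 := two_eq_zero hF
  have hy : gw h2 hω wy ∈ Subgroup.closure {gw h2 hω wy, gw h2 hω [1]} :=
    Subgroup.subset_closure (by simp)
  have ht : gw h2 hω [1] ∈ Subgroup.closure {gw h2 hω wy, gw h2 hω [1]} :=
    Subgroup.subset_closure (by simp)
  have hseg : ∀ l : ℕ, gw h2 hω (seg l) ∈ Subgroup.closure {gw h2 hω wy, gw h2 hω [1]} := by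
    intro l
    rcases l with _ | _ | l
    · exact hy
    · exact ht
    · show gw h2 hω (winv wy) ∈ _
      rw [gw_winv]
      exact Subgroup.inv_mem _ hy
  have hflat : ∀ w : List ℕ, gw h2 hω (flat w) ∈
      Subgroup.closure {gw h2 hω wy, gw h2 hω [1]} := by
    intro w
    induction w with
    | nil =>
      show gw h2 hω [] ∈ _
      rw [gw_nil]
      exact Subgroup.one_mem _
    | cons l w ih =>
      show gw h2 hω (seg l ++ flat w) ∈ _
      rw [gw_append]
      exact Subgroup.mul_mem _ (hseg l) ih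
  have hg1 : gw h2 hω [0] ∈ Subgroup.closure {gw h2 hω wy, gw h2 hω [1]} := by
    have e : gw h2 hω [0] = gw h2 hω (flat wg1) :=
      Subtype.ext (evalG_eq_of_code h2 hω g1_flat.symm)
    rw [e]
    exact hflat wg1
  rw [eq_top_iff, ← closure_gw h2 hω, Subgroup.closure_le]
  rintro x (rfl | rfl)
  · exact hg1
  · exact ht

/-! ### The survivors -/

/-- An involution `x` of `3·J₃` with `(y x)³` and `(y³ x)⁶` central is a conjugate of `t` under a
power of `y`. -/
theorem survivors (x : threeJ3 F ω) (hx2 : x ^ 2 = 1) (hx1 : x ≠ 1)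
    (hr1 : (gw (two_eq_zero hF) hω wy * x) ^ 3 ∈ Subgroup.center (threeJ3 F ω))
    (hr2 : (gw (two_eq_zero hF) hω wy ^ 3 * x) ^ 6 ∈ Subgroup.center (threeJ3 F ω)) :
    ∃ k : ℕ, x = gw (two_eq_zero hF) hω wy ^ k * gw (two_eq_zero hF) hω [1] *
      (gw (two_eq_zero hF) hω wy ^ k)⁻¹ := by
  have h2 := two_eq_zero hF
  have : Finite F := Finite.of_fintype F
  obtain ⟨i, hi, hxi⟩ := involution_mem h2 hω x hx2 hx1
  have hy := coe_y hF hω
  have hc1 : (((gw h2 hω wy * x) ^ 3 : threeJ3 F ω) : GL F9 F) =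
      toMat F ω (cube (cmulR cy (Itab i))) := by
    rw [toMat_cube h2 hω, toMat_cmulR h2 hω, ← hxi, ← hy, coe_pow', coe_mul']
  have hy3 : (((gw h2 hω wy ^ 3 : threeJ3 F ω) : GL F9 F) : M9 F) = toMat F ω cy3 := by
    rw [← cy3_eq, toMat_cmulR h2 hω, toMat_cmulR h2 hω, ← hy, coe_pow', pow_succ, pow_two]
  have hc2 : (((gw h2 hω wy ^ 3 * x) ^ 6 : threeJ3 F ω) : GL F9 F) =
      toMat F ω (pow6 (cmulR cy3 (Itab i))) := by
    rw [toMat_pow6 h2 hω, toMat_cmulR h2 hω, ← hxi, ← hy3, coe_pow', coe_mul']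
  have hs1 := isScal_of_central hF hω hr1 hc1
  have hs2 := isScal_of_central hF hω hr2 hc2
  obtain ⟨k, _, hk⟩ := chkSurv_spec (surv_ok i hi) hs1 hs2
  refine ⟨k, ?_⟩
  have hx : x = gw h2 hω wy ^ k * gw h2 hω [1] * (gw h2 hω wy)⁻¹ ^ k := by
    apply Subtype.ext
    apply Units.ext
    rw [hxi, hk, toMat_cmulR h2 hω, toMat_cmulR h2 hω, toMat_cpow h2 hω, toMat_cpow h2 hω, ← hy,
      ← cyi_eq, toMat_evalW h2 hω, ← coe_yi hF hω, ← coe_t hF hω, coe_mul', coe_mul', coe_pow',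
      coe_pow']
  rw [hx, inv_pow]

/-! ### The relations of `y` and `t` -/

theorem rel_yt1 : (gw (two_eq_zero hF) hω wy * gw (two_eq_zero hF) hω [1]) ^ 3 = 1 := by
  have h2 := two_eq_zero hF
  apply Subtype.ext
  apply Units.ext
  show (((gw h2 hω wy * gw h2 hω [1]) ^ 3 : threeJ3 F ω) : GL F9 F) = (1 : M9 F)
  rw [← toMat_cone (F := F) (ω := ω), ← rel1, toMat_cube h2 hω, toMat_cmulR h2 hω, ← coe_y hF hω,
    ← coe_t hF hω, coe_pow', coe_mul']

theorem rel_yt2 : (gw (two_eq_zero hF) hω wy ^ 3 * gw (two_eq_zero hF) hω [1]) ^ 6 = 1 := by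
  have h2 := two_eq_zero hF
  have hy3 : (((gw h2 hω wy ^ 3 : threeJ3 F ω) : GL F9 F) : M9 F) = toMat F ω cy3 := by
    rw [← cy3_eq, toMat_cmulR h2 hω, toMat_cmulR h2 hω, ← coe_y hF hω, coe_pow', pow_succ, pow_two]
  apply Subtype.ext
  apply Units.ext
  show (((gw h2 hω wy ^ 3 * gw h2 hω [1]) ^ 6 : threeJ3 F ω) : GL F9 F) = (1 : M9 F)
  rw [← toMat_cone (F := F) (ω := ω), ← rel2, toMat_pow6 h2 hω, toMat_cmulR h2 hω, ← hy3,
    ← coe_t hF hω, coe_pow', coe_mul']

/-! ### The quotient `J₃` -/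

/-- `σ` on `J₃`. -/
noncomputable def sigBar : MulAut (J3 F ω) := quotCenterCongr (sigEquiv (two_eq_zero hF) hω)

theorem sigBar_mk (g : threeJ3 F ω) : sigBar hF hω (QuotientGroup.mk g) =
    QuotientGroup.mk (sigHom (two_eq_zero hF) hω g) := rfl

theorem sigBar_sq : sigBar hF hω * sigBar hF hω = 1 := by
  ext x
  induction x using QuotientGroup.induction_on with
  | H g =>
    rw [MulAut.mul_apply, sigBar_mk, sigBar_mk, sigHom_sigHom]
    rfl

theorem orderOf_ybar :
    orderOf (QuotientGroup.mk (gw (two_eq_zero hF) hω wy) : J3 F ω) = 19 := by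
  have := fact19
  have h19 : gw (two_eq_zero hF) hω wy ^ 19 = 1 := by
    rw [← orderOf_y hF hω]
    exact pow_orderOf_eq_one _
  apply orderOf_eq_prime
  · rw [← QuotientGroup.mk_pow, h19]
    rfl
  · intro h
    rw [QuotientGroup.eq_one_iff] at h
    have h3 := cube_central hF hω h
    have h1 : gw (two_eq_zero hF) hω wy = 1 := by
      calc gw (two_eq_zero hF) hω wy
          = gw (two_eq_zero hF) hω wy ^ 19 * ((gw (two_eq_zero hF) hω wy ^ 3) ^ 6)⁻¹ := by group
        _ = 1 := by rw [h19, h3]; simp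
    have ho := orderOf_y hF hω
    rw [h1, orderOf_one] at ho
    norm_num at ho

theorem closure_bar :
    Subgroup.closure {(QuotientGroup.mk (gw (two_eq_zero hF) hω wy) : J3 F ω),
      (QuotientGroup.mk (gw (two_eq_zero hF) hω [1]) : J3 F ω)} = ⊤ := by
  have h := congrArg (Subgroup.map (QuotientGroup.mk' (Subgroup.center (threeJ3 F ω))))
    (closure_yt hF hω)
  rw [MonoidHom.map_closure, Subgroup.map_top_of_surjective _ (QuotientGroup.mk'_surjective _),
    Set.image_pair] at h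
  exact h

theorem X_bar : (QuotientGroup.mk (gw (two_eq_zero hF) hω wX) : J3 F ω) *
    sigBar hF hω (QuotientGroup.mk (gw (two_eq_zero hF) hω wy)) *
    (QuotientGroup.mk (gw (two_eq_zero hF) hω wX) : J3 F ω)⁻¹ =
    (QuotientGroup.mk (gw (two_eq_zero hF) hω wy) : J3 F ω) ^ 2 := by
  rw [sigBar_mk, ← QuotientGroup.mk_inv, ← QuotientGroup.mk_mul, ← QuotientGroup.mk_mul,
    ← QuotientGroup.mk_pow, X_conj]

theorem sigBar_not_inner : sigBar hF hω ∉ Inn (J3 F ω) := by
  rintro ⟨gb, hgb⟩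
  obtain ⟨g, rfl⟩ := QuotientGroup.mk_surjective gb
  have h2 := two_eq_zero hF
  have hz : ∀ x : threeJ3 F ω,
      (g * x * g⁻¹)⁻¹ * sigHom h2 hω x ∈ Subgroup.center (threeJ3 F ω) := by
    intro x
    have h := DFunLike.congr_fun hgb (QuotientGroup.mk x)
    rw [MulAut.conj_apply, sigBar_mk, ← QuotientGroup.mk_inv, ← QuotientGroup.mk_mul,
      ← QuotientGroup.mk_mul, QuotientGroup.eq] at h
    exact h
  have h19 : ∀ x : threeJ3 F ω, orderOf x = 19 → sigHom h2 hω x = g * x * g⁻¹ := by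
    intro x hx
    have hzc := hz x
    have hz3 := cube_central hF hω hzc
    have hs : sigHom h2 hω x = g * x * g⁻¹ * ((g * x * g⁻¹)⁻¹ * sigHom h2 hω x) := by group
    have hx19 : x ^ 19 = 1 := by rw [← hx]; exact pow_orderOf_eq_one x
    have h1 : (sigHom h2 hω x) ^ 19 = 1 := by rw [← map_pow, hx19, map_one]
    have hcomm : Commute (g * x * g⁻¹) ((g * x * g⁻¹)⁻¹ * sigHom h2 hω x) :=
      Subgroup.mem_center_iff.mp hzc _
    rw [hs, hcomm.mul_pow, conj_pow, hx19, mul_one, mul_inv_cancel, one_mul] at h1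
    have hz1 : (g * x * g⁻¹)⁻¹ * sigHom h2 hω x = 1 := by
      calc (g * x * g⁻¹)⁻¹ * sigHom h2 hω x
          = ((g * x * g⁻¹)⁻¹ * sigHom h2 hω x) ^ 19 *
            ((((g * x * g⁻¹)⁻¹ * sigHom h2 hω x) ^ 3) ^ 6)⁻¹ := by group
        _ = 1 := by rw [h1, hz3]; simp
    rw [hs, hz1, mul_one]
  have hEq : sigHom h2 hω = (MulAut.conj g).toMonoidHom := by
    apply MonoidHom.eq_of_eqOn_dense (closure_gw h2 hω)
    rintro x (rfl | rfl)
    · show sigHom h2 hω (gw h2 hω [0]) = g * gw h2 hω [0] * g⁻¹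
      rw [g1_eq, map_mul, h19 _ (orderOf_a1 h2 hω), h19 _ (orderOf_b1 h2 hω)]
      group
    · show sigHom h2 hω (gw h2 hω [1]) = g * gw h2 hω [1] * g⁻¹
      rw [g2_eq, map_mul, h19 _ (orderOf_a2 h2 hω), h19 _ (orderOf_b2 h2 hω)]
      group
  have : Finite F := Finite.of_fintype F
  obtain ⟨s, hs⟩ := exists_scalar h2 hω
  have hsc : s ∈ Subgroup.center (threeJ3 F ω) := central_of_diagonal hF hω hs
  have h1 : sigHom h2 hω s = g * s * g⁻¹ := DFunLike.congr_fun hEq s
  have h3 : g * s * g⁻¹ = s := by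
    rw [Subgroup.mem_center_iff.mp hsc g]
    group
  rw [h3] at h1
  have h4 : ((sigHom h2 hω s : GL F9 F) : M9 F) = ((s : GL F9 F) : M9 F) := by rw [h1]
  rw [coe_sigHom, coe_sigGL, hs, ← toMat_cw, map_sq_toMat h2 hω ent_fw, ← toMat_cmulR h2 hω,
    ← toMat_cmulR h2 hω, sig_w] at h4
  exact toMat_ne h2 hω cw2_ne h4

theorem surv_bar (α : MulAut (J3 F ω))
    (hα : α (QuotientGroup.mk (gw (two_eq_zero hF) hω wy)) =
      QuotientGroup.mk (gw (two_eq_zero hF) hω wy)) :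
    ∃ k : ℕ, α (QuotientGroup.mk (gw (two_eq_zero hF) hω [1])) =
      (QuotientGroup.mk (gw (two_eq_zero hF) hω wy) : J3 F ω) ^ k *
        QuotientGroup.mk (gw (two_eq_zero hF) hω [1]) *
        ((QuotientGroup.mk (gw (two_eq_zero hF) hω wy) : J3 F ω) ^ k)⁻¹ := by
  have h2 := two_eq_zero hF
  obtain ⟨u, hu⟩ := QuotientGroup.mk_surjective (α (QuotientGroup.mk (gw h2 hω [1])))
  have htb2 : (QuotientGroup.mk (gw h2 hω [1]) : J3 F ω) ^ 2 = 1 := by
    rw [← QuotientGroup.mk_pow, t_sq_eq hF hω]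
    rfl
  have hα2 : (α (QuotientGroup.mk (gw h2 hω [1]))) ^ 2 = 1 := by
    rw [← map_pow, htb2, map_one]
  have hu2 : u ^ 2 ∈ Subgroup.center (threeJ3 F ω) := by
    rw [← QuotientGroup.eq_one_iff, QuotientGroup.mk_pow, hu, hα2]
  have hx2 : (u ^ 3) ^ 2 = 1 := by
    have h := cube_central hF hω hu2
    calc (u ^ 3) ^ 2 = (u ^ 2) ^ 3 := by group
      _ = 1 := h
  have hmk : (QuotientGroup.mk (u ^ 3) : J3 F ω) = α (QuotientGroup.mk (gw h2 hω [1])) := by
    rw [QuotientGroup.mk_pow, hu, pow_succ, hα2, one_mul]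
  have hx1 : u ^ 3 ≠ 1 := by
    intro h
    rw [h] at hmk
    have htb : (QuotientGroup.mk (gw h2 hω [1]) : J3 F ω) = 1 := by
      apply α.injective
      rw [← hmk, map_one]
      rfl
    rw [QuotientGroup.eq_one_iff] at htb
    have h3 := cube_central hF hω htb
    apply t_ne_one hF hω
    calc gw h2 hω [1] = gw h2 hω [1] ^ 3 * (gw h2 hω [1] ^ 2)⁻¹ := by group
      _ = 1 := by rw [h3, t_sq_eq hF hω]; simp
  have hr1 : (gw h2 hω wy * u ^ 3) ^ 3 ∈ Subgroup.center (threeJ3 F ω) := by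
    rw [← QuotientGroup.eq_one_iff, QuotientGroup.mk_pow, QuotientGroup.mk_mul, hmk]
    have key : α ((QuotientGroup.mk (gw h2 hω wy) * QuotientGroup.mk (gw h2 hω [1])) ^ 3) = 1 := by
      rw [← QuotientGroup.mk_mul, ← QuotientGroup.mk_pow, rel_yt1 hF hω]
      exact map_one α
    rw [map_pow, map_mul, hα] at key
    exact key
  have hr2 : (gw h2 hω wy ^ 3 * u ^ 3) ^ 6 ∈ Subgroup.center (threeJ3 F ω) := by
    rw [← QuotientGroup.eq_one_iff, QuotientGroup.mk_pow, QuotientGroup.mk_mul, hmk,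
      QuotientGroup.mk_pow]
    have key : α ((QuotientGroup.mk (gw h2 hω wy) ^ 3 * QuotientGroup.mk (gw h2 hω [1])) ^ 6)
        = 1 := by
      rw [← QuotientGroup.mk_pow, ← QuotientGroup.mk_mul, ← QuotientGroup.mk_pow, rel_yt2 hF hω]
      exact map_one α
    rw [map_pow, map_mul, map_pow, hα] at key
    exact key
  obtain ⟨k, hk⟩ := survivors hF hω (u ^ 3) hx2 hx1 hr1 hr2
  refine ⟨k, ?_⟩
  rw [← hmk, hk]
  rfl

/-- `|Out(J₃)| = 2`. -/
theorem card_out_J3 : Nat.card (Out (J3 F ω)) = 2 := by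
  have hfin : Finite (J3 F ω) := by
    apply Nat.finite_of_card_ne_zero
    rw [card_J3 hF hω]
    norm_num
  exact card_out_eq_two (s := 2643840) (by rw [card_J3 hF hω]) (by norm_num)
    (QuotientGroup.mk (gw (two_eq_zero hF) hω wy)) (QuotientGroup.mk (gw (two_eq_zero hF) hω [1]))
    (QuotientGroup.mk (gw (two_eq_zero hF) hω wX)) (sigBar hF hω) (orderOf_ybar hF hω)
    (closure_bar hF hω) (sigBar_sq hF hω) (sigBar_not_inner hF hω) (X_bar hF hω)
    (surv_bar hF hω)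

end Main

end Cfsg.Agent.Lib.Helper90_J3Out
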