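import Mathlib
import Cfsg.Prelude.Def_Spor_J3
import Cfsg.Agent.Lib.Helper90_J3Out
import Cfsg.Agent.Lib.Helper90_J3InvTreeData

/-!
# The class of involutions of `J₃` (helper90)

* `I_conj`: every entry of the table `Itab` of involutions of `3·J₃` is the matrix of a conjugate
  of `t = g₂`; `I_inj`: the entries are pairwise distinct.
* `isConj_of_orderOf_two`: all involutions of `J₃` are conjugate.
* `card_centralizer_le`: the centralizer of the image of `t` in `J₃` has order at most 1920.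
-/

set_option autoImplicit false

namespace Cfsg.Agent.Lib.Helper90_J3InvClass

open Cfsg Cfsg.Spor Cfsg.Agent.Lib.Helper90_CodeTable Cfsg.Agent.Lib.Helper90_J3Core
  Cfsg.Agent.Lib.Helper90_J3Gens Cfsg.Agent.Lib.Helper90_J3Group
  Cfsg.Agent.Lib.Helper90_J3DataP Cfsg.Agent.Lib.Helper90_J3Order
  Cfsg.Agent.Lib.Helper90_J3Simple Cfsg.Agent.Lib.Helper90_J3Center
  Cfsg.Agent.Lib.Helper90_J3InvData Cfsg.Agent.Lib.Helper90_J3InvClAll
  Cfsg.Agent.Lib.Helper90_J3Inv Cfsg.Agent.Lib.Helper90_J3Out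
  Cfsg.Agent.Lib.Helper90_J3InvTreeData

variable {F : Type*} [Field F] {ω : F}

theorem chkITree_spec {i : ℕ} (h : chkITree i = true) :
    i = 0 ∨ (ParI i < i ∧ LettI i < 3 ∧ ClI (ParI i) (LettI i) = i) := by
  unfold chkITree at h
  simp only [force_eq, Bool.or_eq_true, Bool.and_eq_true] at h
  rcases h with h | ⟨h1, h2, h3⟩
  · exact Or.inl (Nat.eq_of_beq_eq_true h)
  · exact Or.inr ⟨by simpa using h1, by simpa using h2, Nat.eq_of_beq_eq_true h3⟩

theorem chkIInv_spec {i : ℕ} (h : chkIInv i = true) :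
    cnorm (Itab i) = Itab i ∧ InvI (slotOf (Itab i)) = i := by
  unfold chkIInv at h
  simp only [force_eq, Bool.and_eq_true] at h
  exact ⟨Nat.eq_of_beq_eq_true h.1, Nat.eq_of_beq_eq_true h.2⟩

section Main

variable [Fintype F] (hF : Fintype.card F = 4) (hω : ω ^ 2 + ω + 1 = 0)

include hF hω

/-- The entries of `Itab` are pairwise distinct. -/
theorem I_inj {i j : ℕ} (hi : i < 26163) (hj : j < 26163)
    (h : toMat F ω (Itab i) = toMat F ω (Itab j)) : i = j := by
  obtain ⟨h1, h2⟩ := chkIInv_spec (allLt_spec I_inv i hi)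
  obtain ⟨h3, h4⟩ := chkIInv_spec (allLt_spec I_inv j hj)
  have e := cnorm_eq_of_toMat_eq (two_eq_zero hF) hω h
  rw [h1, h3] at e
  rw [← h2, ← h4, e]

/-- Every entry of `Itab` is the matrix of a conjugate of `t`. -/
theorem I_conj : ∀ i < 26163, ∃ g : threeJ3 F ω,
    (((g * gw (two_eq_zero hF) hω [1] * g⁻¹ : threeJ3 F ω) : GL F9 F) : M9 F) =
      toMat F ω (Itab i) := by
  have h2 := two_eq_zero hF
  intro i
  induction i using Nat.strong_induction_on with
  | _ i ih =>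
    intro hi
    rcases chkITree_spec (allLt_spec I_tree i hi) with h | ⟨hp, hl, hc⟩
    · refine ⟨1, ?_⟩
      rw [h, I_zero, one_mul, inv_one, mul_one]
      exact coe_t hF hω
    · obtain ⟨g, hg⟩ := ih _ hp (lt_trans hp hi)
      obtain ⟨_, h3⟩ := chkConj_spec (conj_ok _ (lt_trans hp hi)) (LettI i) hl
      rw [hc] at h3
      refine ⟨gw h2 hω [LettI i] * g, ?_⟩
      have e : gw h2 hω [LettI i] * g * gw h2 hω [1] * (gw h2 hω [LettI i] * g)⁻¹ =
          gw h2 hω [LettI i] * (g * gw h2 hω [1] * g⁻¹) * (gw h2 hω [LettI i])⁻¹ := by group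
      rw [e, coe_mul', coe_mul', hg, ← h3, toMat_cmulR h2 hω, toMat_cmulR h2 hω,
        Subgroup.coe_inv, Helper90_J3Inv.coe_gw_single h2 hω]
      rfl

/-- Two involutions of `3·J₃` are conjugate. -/
theorem involutions_conj (x y : threeJ3 F ω) (hx2 : x ^ 2 = 1) (hx1 : x ≠ 1)
    (hy2 : y ^ 2 = 1) (hy1 : y ≠ 1) : ∃ g : threeJ3 F ω, g * x * g⁻¹ = y := by
  have h2 := two_eq_zero hF
  obtain ⟨i, hi, hxi⟩ := involution_mem h2 hω x hx2 hx1
  obtain ⟨j, hj, hyj⟩ := involution_mem h2 hω y hy2 hy1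
  obtain ⟨a, ha⟩ := I_conj hF hω i hi
  obtain ⟨b, hb⟩ := I_conj hF hω j hj
  have ex : a * gw h2 hω [1] * a⁻¹ = x := Subtype.ext (Units.ext (by rw [ha, hxi]))
  have ey : b * gw h2 hω [1] * b⁻¹ = y := Subtype.ext (Units.ext (by rw [hb, hyj]))
  refine ⟨b * a⁻¹, ?_⟩
  rw [← ex, ← ey]
  group

/-- An involution of `J₃` lifts to an involution of `3·J₃`. -/
theorem exists_lift (u : J3 F ω) (hu : orderOf u = 2) :
    ∃ x : threeJ3 F ω, x ^ 2 = 1 ∧ x ≠ 1 ∧ (QuotientGroup.mk x : J3 F ω) = u := by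
  obtain ⟨x0, rfl⟩ := QuotientGroup.mk_surjective u
  have hu2 : (QuotientGroup.mk x0 : J3 F ω) ^ 2 = 1 := by
    rw [← hu]
    exact pow_orderOf_eq_one _
  have hu1 : (QuotientGroup.mk x0 : J3 F ω) ≠ 1 := by
    intro h
    rw [h, orderOf_one] at hu
    norm_num at hu
  have hz : x0 ^ 2 ∈ Subgroup.center (threeJ3 F ω) := by
    rw [← QuotientGroup.eq_one_iff, QuotientGroup.mk_pow]
    exact hu2
  have hm : (QuotientGroup.mk (x0 ^ 3) : J3 F ω) = QuotientGroup.mk x0 := by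
    rw [QuotientGroup.mk_pow, pow_succ, hu2, one_mul]
  refine ⟨x0 ^ 3, ?_, ?_, hm⟩
  · rw [← pow_mul, mul_comm, pow_mul]
    exact cube_central hF hω hz
  · intro h
    apply hu1
    rw [← hm, h]
    rfl

/-- All involutions of `J₃` are conjugate. -/
theorem isConj_of_orderOf_two (u v : J3 F ω) (hu : orderOf u = 2) (hv : orderOf v = 2) :
    IsConj u v := by
  obtain ⟨x, hx2, hx1, rfl⟩ := exists_lift hF hω u hu
  obtain ⟨y, hy2, hy1, rfl⟩ := exists_lift hF hω v hv
  obtain ⟨g, hg⟩ := involutions_conj hF hω x y hx2 hx1 hy2 hy1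
  rw [isConj_iff]
  refine ⟨QuotientGroup.mk g, ?_⟩
  rw [← hg]
  rfl

/-- The image of `t` in `J₃`. -/
noncomputable def tbar : J3 F ω := QuotientGroup.mk (gw (two_eq_zero hF) hω [1])

theorem tbar_sq : tbar hF hω ^ 2 = 1 := by
  unfold tbar
  rw [← QuotientGroup.mk_pow, t_sq_eq hF hω]
  rfl

/-- An involution of `3·J₃` is not central. -/
theorem not_central_of_sq {x : threeJ3 F ω} (hx2 : x ^ 2 = 1) (hx1 : x ≠ 1) :
    x ∉ Subgroup.center (threeJ3 F ω) := by
  intro hz
  apply hx1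
  have h3 := cube_central hF hω hz
  calc x = x ^ 3 * (x ^ 2)⁻¹ := by group
    _ = 1 := by rw [h3, hx2, inv_one, mul_one]

theorem tbar_ne_one : tbar hF hω ≠ 1 := by
  unfold tbar
  intro h
  rw [QuotientGroup.eq_one_iff] at h
  exact not_central_of_sq hF hω (t_sq_eq hF hω) (t_ne_one hF hω) h

theorem orderOf_tbar : orderOf (tbar hF hω) = 2 :=
  orderOf_eq_prime (tbar_sq hF hω) (tbar_ne_one hF hω)

/-- Involutions of `3·J₃` with the same image in `J₃` are equal. -/
theorem eq_of_mk_eq {x y : threeJ3 F ω} (hx2 : x ^ 2 = 1) (hy2 : y ^ 2 = 1)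
    (h : (QuotientGroup.mk x : J3 F ω) = QuotientGroup.mk y) : x = y := by
  have hz : x⁻¹ * y ∈ Subgroup.center (threeJ3 F ω) := QuotientGroup.eq.mp h
  have h3 := cube_central hF hω hz
  have hcomm : ∀ g : threeJ3 F ω, g * (x⁻¹ * y) = (x⁻¹ * y) * g :=
    fun g => Subgroup.mem_center_iff.mp hz g
  -- `y = x z` with `z` central: `1 = y² = x² z² = z²`
  have hy : y = x * (x⁻¹ * y) := by group
  have hz2 : (x⁻¹ * y) ^ 2 = 1 := by
    have e : y ^ 2 = x ^ 2 * (x⁻¹ * y) ^ 2 := by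
      conv_lhs => rw [hy]
      rw [pow_two, pow_two, pow_two]
      calc x * (x⁻¹ * y) * (x * (x⁻¹ * y)) = x * ((x⁻¹ * y) * x) * (x⁻¹ * y) := by group
        _ = x * (x * (x⁻¹ * y)) * (x⁻¹ * y) := by rw [← hcomm x]
        _ = x * x * ((x⁻¹ * y) * (x⁻¹ * y)) := by group
    rw [hy2, hx2, one_mul] at e
    exact e.symm
  have hz1 : x⁻¹ * y = 1 := by
    calc x⁻¹ * y = (x⁻¹ * y) ^ 3 * ((x⁻¹ * y) ^ 2)⁻¹ := by group
      _ = 1 := by rw [h3, hz2, inv_one, mul_one]
  calc x = x * (x⁻¹ * y) := by rw [hz1, mul_one]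
    _ = y := by group

/-- The centralizer of the image of `t` in `J₃` has order at most 1920. -/
theorem card_centralizer_le :
    Nat.card (Subgroup.centralizer ({tbar hF hω} : Set (J3 F ω))) ≤ 1920 := by
  have h2 := two_eq_zero hF
  have hex : ∀ i : Fin 26163, ∃ g : threeJ3 F ω,
      (((g * gw h2 hω [1] * g⁻¹ : threeJ3 F ω) : GL F9 F) : M9 F) = toMat F ω (Itab i) :=
    fun i => I_conj hF hω i i.2
  choose g hg using hex
  let f : Fin 26163 → J3 F ω ⧸ Subgroup.centralizer ({tbar hF hω} : Set (J3 F ω)) :=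
    fun i => QuotientGroup.mk (QuotientGroup.mk (g i) : J3 F ω)
  have hf : Function.Injective f := by
    intro i j hij
    have h1 : (QuotientGroup.mk (g i) : J3 F ω)⁻¹ * QuotientGroup.mk (g j) ∈
        Subgroup.centralizer ({tbar hF hω} : Set (J3 F ω)) := QuotientGroup.eq.mp hij
    rw [Subgroup.mem_centralizer_singleton_iff] at h1
    have h3 : (QuotientGroup.mk (g i * gw h2 hω [1] * (g i)⁻¹) : J3 F ω) =
        QuotientGroup.mk (g j * gw h2 hω [1] * (g j)⁻¹) := by
      show (QuotientGroup.mk (g i) : J3 F ω) * tbar hF hω * (QuotientGroup.mk (g i) : J3 F ω)⁻¹ =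
        (QuotientGroup.mk (g j) : J3 F ω) * tbar hF hω * (QuotientGroup.mk (g j) : J3 F ω)⁻¹
      generalize (QuotientGroup.mk (g i) : J3 F ω) = a at h1 ⊢
      generalize (QuotientGroup.mk (g j) : J3 F ω) = b at h1 ⊢
      have e : b = a * (a⁻¹ * b) := by group
      rw [e]
      generalize a⁻¹ * b = c at h1 ⊢
      have e2 : c * tbar hF hω * c⁻¹ = tbar hF hω := by
        rw [h1, mul_assoc, mul_inv_cancel, mul_one]
      calc a * tbar hF hω * a⁻¹ = a * (c * tbar hF hω * c⁻¹) * a⁻¹ := by rw [e2]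
        _ = a * c * tbar hF hω * (a * c)⁻¹ := by group
    have hsq : ∀ k : Fin 26163, (g k * gw h2 hω [1] * (g k)⁻¹) ^ 2 = 1 := by
      intro k
      rw [conj_pow, t_sq_eq hF hω, mul_one, mul_inv_cancel]
    have h4 := eq_of_mk_eq hF hω (hsq i) (hsq j) h3
    apply Fin.ext
    apply I_inj hF hω i.2 j.2
    rw [← hg i, ← hg j, h4]
  have h3 : 26163 ≤ (Subgroup.centralizer ({tbar hF hω} : Set (J3 F ω))).index := by
    rw [Subgroup.index_eq_card]
    have := Nat.card_le_card_of_injective f hf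
    rwa [Nat.card_eq_fintype_card, Fintype.card_fin] at this
  have h5 : Nat.card (Subgroup.centralizer ({tbar hF hω} : Set (J3 F ω))) * 26163 ≤
      1920 * 26163 := by
    calc Nat.card (Subgroup.centralizer ({tbar hF hω} : Set (J3 F ω))) * 26163
        ≤ Nat.card (Subgroup.centralizer ({tbar hF hω} : Set (J3 F ω))) *
            (Subgroup.centralizer ({tbar hF hω} : Set (J3 F ω))).index :=
          Nat.mul_le_mul_left _ h3
      _ = Nat.card (J3 F ω) := Subgroup.card_mul_index _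
      _ = 1920 * 26163 := by rw [card_J3 hF hω]
  exact Nat.le_of_mul_le_mul_right h5 (by norm_num)

end Main

end Cfsg.Agent.Lib.Helper90_J3InvClass
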