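import Mathlib
import Cfsg.Prelude.Def_Spor_J3
import Cfsg.Prelude.Def_Transfer
import Cfsg.Agent.Lib.Helper90_J3Out
import Cfsg.Agent.Lib.Helper90_J3CentData
import Cfsg.Agent.Lib.Helper90_J3InvClass
import Cfsg.Agent.Lib.Helper90_ActPerm
import Cfsg.Agent.Lib.Helper90_GroupShape
import Cfsg.Agent.Lib.Helper89_SympBasics

/-!
# The centralizer of an involution in `J₃` (helper90)

`C₀ = ⟨q₀, …, q₃, a, b⟩ ≤ 3·J₃` has order 1920, centralizes `t = g₂`, meets the centre trivially
and has the shape `2^(1+4)₋ : A₅` (`shape_C0`); it maps isomorphically onto the centralizer of the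
image of `t` in `J₃` (`equivCent`), which therefore has the same shape (`shape_centralizer`).
-/

set_option autoImplicit false

namespace Cfsg.Agent.Lib.Helper90_J3Cent

open Cfsg Cfsg.Spor Cfsg.Agent.Lib.Helper90_CodeTable Cfsg.Agent.Lib.Helper90_J3Core
  Cfsg.Agent.Lib.Helper90_J3Gens Cfsg.Agent.Lib.Helper90_J3Group
  Cfsg.Agent.Lib.Helper90_J3DataP Cfsg.Agent.Lib.Helper90_J3Order
  Cfsg.Agent.Lib.Helper90_J3Simple Cfsg.Agent.Lib.Helper90_J3Center
  Cfsg.Agent.Lib.Helper90_J3OutData Cfsg.Agent.Lib.Helper90_J3Out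
  Cfsg.Agent.Lib.Helper90_J3CentData Cfsg.Agent.Lib.Helper90_J3InvClass
  Cfsg.Agent.Lib.Helper90_ActPerm Cfsg.Agent.Lib.Helper90_GroupShape

variable {F : Type*} [Field F] {ω : F}

theorem C_gen' : ∀ l < 6, evalW (wsC l) = genC l := fun l hl => C_gen ⟨l, hl⟩

theorem Q_gen' : ∀ l < 4, evalW (wsQ l) = genQ l := fun l hl => C_gen ⟨l, by omega⟩

theorem H_gen' : ∀ l < 2, evalW (wsH l) = genH l := fun l hl => C_gen ⟨4 + l, by omega⟩

section Main

variable [Fintype F] (hF : Fintype.card F = 4) (hω : ω ^ 2 + ω + 1 = 0)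

/-- The subgroup `C₀` of order 1920. -/
def C0 : Subgroup (GL F9 F) := Subgroup.closure (wordSet (two_eq_zero hF) hω wsC 6)

/-- The subgroup `Q₀` of order 32. -/
def Q0 : Subgroup (GL F9 F) := Subgroup.closure (wordSet (two_eq_zero hF) hω wsQ 4)

/-- The subgroup `H₀` of order 60. -/
def H0 : Subgroup (GL F9 F) := Subgroup.closure (wordSet (two_eq_zero hF) hω wsH 2)

theorem card_C0 : Nat.card (C0 hF hω) = 1920 :=
  card_closure_table (two_eq_zero hF) hω C_gen' (by norm_num) C_zero C_closed C_tree C_dist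

theorem card_Q0 : Nat.card (Q0 hF hω) = 32 :=
  card_closure_table (two_eq_zero hF) hω Q_gen' (by norm_num) Q_zero Q_closed Q_tree Q_dist

theorem card_H0 : Nat.card (H0 hF hω) = 60 :=
  card_closure_table (two_eq_zero hF) hω H_gen' (by norm_num) H_zero H_closed H_tree H_dist

theorem C0_le : C0 hF hω ≤ threeJ3 F ω := wordSet_le _ hω _ _

theorem Q0_le : Q0 hF hω ≤ C0 hF hω := by
  apply Subgroup.closure_mono
  rintro g ⟨l, hl, rfl⟩
  exact ⟨l, by omega, rfl⟩

theorem H0_le : H0 hF hω ≤ C0 hF hω := by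
  apply Subgroup.closure_mono
  rintro g ⟨l, hl, rfl⟩
  exact ⟨4 + l, by omega, rfl⟩

theorem mem_C0_table (g : GL F9 F) (hg : g ∈ C0 hF hω) :
    ∃ i < 1920, (g : M9 F) = toMat F ω (Ctab i) :=
  closure_mem_table (two_eq_zero hF) hω C_gen' (by norm_num) C_zero C_closed g hg

theorem mem_Q0_table (g : GL F9 F) (hg : g ∈ Q0 hF hω) :
    ∃ i < 32, (g : M9 F) = toMat F ω (Qtab i) :=
  closure_mem_table (two_eq_zero hF) hω Q_gen' (by norm_num) Q_zero Q_closed g hg

theorem mem_H0_table (g : GL F9 F) (hg : g ∈ H0 hF hω) :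
    ∃ i < 60, (g : M9 F) = toMat F ω (Htab i) :=
  closure_mem_table (two_eq_zero hF) hω H_gen' (by norm_num) H_zero H_closed g hg

theorem table_mem_Q0 (i : ℕ) (hi : i < 32) :
    ∃ g ∈ Q0 hF hω, (g : M9 F) = toMat F ω (Qtab i) :=
  table_mem_closure (two_eq_zero hF) hω Q_gen' Q_zero Q_closed Q_tree i hi

/-- The involution `t` as an element of `GL₉(F)`. -/
def tG : GL F9 F := evalG (two_eq_zero hF) hω [1]

theorem coe_tG : ((tG hF hω : GL F9 F) : M9 F) = toMat F ω cg2 := coe_t hF hω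

theorem tG_mem_Q0 : tG hF hω ∈ Q0 hF hω := by
  obtain ⟨g, hg, hgm⟩ := table_mem_Q0 hF hω 8 (by norm_num)
  rw [Q_t, ← coe_tG hF hω] at hgm
  rwa [← Units.ext hgm]

theorem coe_genC (l : ℕ) (hl : l < 6) :
    ((evalG (two_eq_zero hF) hω (wsC l) : GL F9 F) : M9 F) = toMat F ω (genC l) := by
  rw [← toMat_evalW (two_eq_zero hF) hω, C_gen' l hl]

/-- `C₀` centralizes `t`. -/
theorem C0_comm (g : GL F9 F) (hg : g ∈ C0 hF hω) : g * tG hF hω = tG hF hω * g := by
  have h2 := two_eq_zero hF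
  have h : C0 hF hω ≤ Subgroup.centralizer {tG hF hω} := by
    unfold C0
    rw [Subgroup.closure_le]
    rintro s ⟨l, hl, rfl⟩
    rw [SetLike.mem_coe, Subgroup.mem_centralizer_singleton_iff]
    apply Units.ext
    rw [Units.val_mul, Units.val_mul, coe_genC hF hω l hl, coe_tG, ← toMat_cmulR h2 hω,
      ← toMat_cmulR h2 hω, Nat.eq_of_beq_eq_true (allLt_spec C_comm l hl)]
  have := h hg
  rw [Subgroup.mem_centralizer_singleton_iff] at this
  exact this

omit [Fintype F] in
theorem coe_mulG (g h : GL F9 F) : ((g * h : GL F9 F) : M9 F) = (g : M9 F) * (h : M9 F) :=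
  Units.val_mul g h

/-- The generators of `C₀` normalize `Q₀`. -/
theorem gen_conj_Q0 (l : ℕ) (hl : l < 6) (q : GL F9 F) (hq : q ∈ Q0 hF hω) :
    evalG (two_eq_zero hF) hω (wsC l) * q * (evalG (two_eq_zero hF) hω (wsC l))⁻¹ ∈ Q0 hF hω := by
  have h2 := two_eq_zero hF
  obtain ⟨i, hi, hqi⟩ := mem_Q0_table hF hω q hq
  have h := allLt_spec Q_norm i hi
  simp only [force_eq] at h
  have h1 := allLt_spec h l hl
  rw [Bool.and_eq_true] at h1
  have hi' : NQ i l < 32 := by simpa using h1.1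
  have h3 := Nat.eq_of_beq_eq_true h1.2
  obtain ⟨q', hq', hqm⟩ := table_mem_Q0 hF hω (NQ i l) hi'
  have e : evalG h2 hω (wsC l) * q = q' * evalG h2 hω (wsC l) := by
    apply Units.ext
    rw [Units.val_mul, Units.val_mul, coe_genC hF hω l hl, hqi, hqm, ← toMat_cmulR h2 hω,
      ← toMat_cmulR h2 hω, h3]
  rw [e, mul_assoc, mul_inv_cancel, mul_one]
  exact hq'

/-- `C₀` normalizes `Q₀`. -/
theorem conj_mem_Q0 (g : GL F9 F) (hg : g ∈ C0 hF hω) (q : GL F9 F) (hq : q ∈ Q0 hF hω) :
    g * q * g⁻¹ ∈ Q0 hF hω := by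
  have h2 := two_eq_zero hF
  have hg' : g ∈ Submonoid.closure (wordSet h2 hω wsC 6) := by
    have h := Subgroup.closure_toSubmonoid_of_finite (s := wordSet h2 hω wsC 6)
    have : g ∈ (Subgroup.closure (wordSet h2 hω wsC 6)).toSubmonoid := hg
    rwa [h] at this
  clear hg
  induction hg' using Submonoid.closure_induction generalizing q with
  | mem x hx =>
    obtain ⟨l, hl, rfl⟩ := hx
    exact gen_conj_Q0 hF hω l hl q hq
  | one => simpa using hq
  | mul x y _ _ ihx ihy =>
    have h := ihx _ (ihy q hq)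
    have e : x * y * q * (x * y)⁻¹ = x * (y * q * y⁻¹) * x⁻¹ := by group
    rw [e]
    exact h

/-! ### `Q₀` is extraspecial -/

theorem Q0_index (x : Q0 hF hω) : ∃ i < 32, ((x : GL F9 F) : M9 F) = toMat F ω (Qtab i) :=
  mem_Q0_table hF hω x.1 x.2

theorem Q0_elt (i : ℕ) (hi : i < 32) :
    ∃ x : Q0 hF hω, ((x : GL F9 F) : M9 F) = toMat F ω (Qtab i) := by
  obtain ⟨g, hg, hgm⟩ := table_mem_Q0 hF hω i hi
  exact ⟨⟨g, hg⟩, hgm⟩

omit [Fintype F] in
theorem sub_ext {S : Subgroup (GL F9 F)} {x y : S}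
    (h : ((x : GL F9 F) : M9 F) = ((y : GL F9 F) : M9 F)) : x = y :=
  Subtype.ext (Units.ext h)

omit [Fintype F] in
theorem coe_mulS {S : Subgroup (GL F9 F)} (x y : S) :
    (((x * y : S) : GL F9 F) : M9 F) = ((x : GL F9 F) : M9 F) * ((y : GL F9 F) : M9 F) := by
  rw [Subgroup.coe_mul, Units.val_mul]

omit [Fintype F] in
theorem coe_oneS {S : Subgroup (GL F9 F)} : (((1 : S) : GL F9 F) : M9 F) = 1 := rfl

/-- `t` as an element of `Q₀`. -/
def tQ : Q0 hF hω := ⟨tG hF hω, tG_mem_Q0 hF hω⟩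

theorem coe_tQ : (((tQ hF hω : Q0 hF hω) : GL F9 F) : M9 F) = toMat F ω cg2 := coe_tG hF hω

theorem tG_sq : tG hF hω * tG hF hω = 1 := by
  have h := congrArg Subtype.val (t_sq_eq hF hω)
  rw [pow_two] at h
  exact h

theorem tQ_sq : tQ hF hω * tQ hF hω = 1 := Subtype.ext (tG_sq hF hω)

theorem tG_ne_one : tG hF hω ≠ 1 := by
  intro h
  apply t_ne_one hF hω
  exact Subtype.ext h

theorem tQ_ne_one : tQ hF hω ≠ 1 := by
  intro h
  exact tG_ne_one hF hω (congrArg Subtype.val h)

theorem mem_zpowers_tQ (z : Q0 hF hω) :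
    z ∈ Subgroup.zpowers (tQ hF hω) ↔ z = 1 ∨ z = tQ hF hω := by
  constructor
  · intro hz
    obtain ⟨k, hk⟩ := Subgroup.mem_zpowers_iff.mp hz
    rcases Int.even_or_odd k with ⟨m, hm⟩ | ⟨m, hm⟩
    · left
      rw [← hk, hm, ← two_mul, zpow_mul, zpow_two, tQ_sq, one_zpow]
    · right
      rw [← hk, hm, zpow_add, zpow_mul, zpow_two, tQ_sq, one_zpow, one_mul, zpow_one]
  · rintro (rfl | rfl)
    · exact one_mem _
    · exact Subgroup.mem_zpowers _

theorem tQ_comm (y : Q0 hF hω) : tQ hF hω * y = y * tQ hF hω :=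
  Subtype.ext (C0_comm hF hω y.1 (Q0_le hF hω y.2)).symm

theorem extraspecial_Q0 : Cfsg.IsExtraspecial 2 ↥(Q0 hF hω) := by
  have h2 := two_eq_zero hF
  have : Fact (Nat.Prime 2) := ⟨Nat.prime_two⟩
  have hp : IsPGroup 2 (Q0 hF hω) := IsPGroup.of_card (n := 5) (by rw [card_Q0]; norm_num)
  have key := Cfsg.Agent.Lib.Helper89_SympBasics.isExtraspecial_of (G := Q0 hF hω) (p := 2) hp
    ⊤ (Subgroup.zpowers (tQ hF hω)) le_top
    (by
      rw [Nat.card_zpowers]
      exact orderOf_eq_prime (by rw [pow_two]; exact tQ_sq hF hω) (tQ_ne_one hF hω))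
    (by
      intro x _ hx
      rw [mem_zpowers_tQ]
      obtain ⟨i, hi, hxi⟩ := Q0_index hF hω x
      have h := allLt_spec Q_cen i hi
      simp only [force_eq, Bool.or_eq_true, Bool.and_eq_true, Bool.not_eq_true'] at h
      rcases h with h | h | ⟨hj, hne⟩
      · left
        apply sub_ext
        rw [hxi, Nat.eq_of_beq_eq_true h, toMat_cone]
        rfl
      · right
        apply sub_ext
        rw [hxi, Nat.eq_of_beq_eq_true h, coe_tQ]
      · exfalso
        have hj' : CenW i < 32 := by simpa using hj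
        obtain ⟨y, hy⟩ := Q0_elt hF hω (CenW i) hj'
        have hc := hx y (Subgroup.mem_top y)
        have hm := congrArg (fun u : Q0 hF hω => ((u : GL F9 F) : M9 F)) hc
        simp only [coe_mulS] at hm
        rw [hxi, hy, ← toMat_cmulR h2 hω, ← toMat_cmulR h2 hω] at hm
        rw [cnorm_eq_of_toMat_eq h2 hω hm, Nat.beq_refl] at hne
        exact Bool.noConfusion hne)
    (by
      intro z hz y _
      rcases (mem_zpowers_tQ hF hω z).mp hz with rfl | rfl
      · rw [one_mul, mul_one]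
      · exact tQ_comm hF hω y)
    (by
      intro x _
      rw [mem_zpowers_tQ]
      obtain ⟨i, hi, hxi⟩ := Q0_index hF hω x
      have h := allLt_spec Q_pow i hi
      simp only [force_eq, Bool.or_eq_true] at h
      rcases h with h | h
      · left
        apply sub_ext
        rw [pow_two, coe_mulS, hxi, ← toMat_cmulR h2 hω, Nat.eq_of_beq_eq_true h, toMat_cone]
        rfl
      · right
        apply sub_ext
        rw [pow_two, coe_mulS, hxi, ← toMat_cmulR h2 hω, Nat.eq_of_beq_eq_true h, coe_tQ])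
    (by
      intro x _ y _
      rw [mem_zpowers_tQ]
      obtain ⟨i, hi, hxi⟩ := Q0_index hF hω x
      obtain ⟨j, hj, hyj⟩ := Q0_index hF hω y
      have h := allLt_spec Q_comm i hi
      simp only [force_eq] at h
      have h1 := allLt_spec h j hj
      simp only [Bool.or_eq_true] at h1
      rcases h1 with h1 | h1
      · left
        have e : x * y = y * x := by
          apply sub_ext
          rw [coe_mulS, coe_mulS, hxi, hyj, ← toMat_cmulR h2 hω, ← toMat_cmulR h2 hω,
            Nat.eq_of_beq_eq_true h1]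
        rw [e]
        group
      · right
        have e : x * y = tQ hF hω * (y * x) := by
          apply sub_ext
          rw [coe_mulS, coe_mulS, coe_mulS, coe_tQ, hxi, hyj, ← toMat_cmulR h2 hω,
            ← toMat_cmulR h2 hω, ← toMat_cmulR h2 hω, Nat.eq_of_beq_eq_true h1]
        rw [e]
        group)
    (by
      obtain ⟨x, hx⟩ := Q0_elt hF hω 1 (by norm_num)
      obtain ⟨y, hy⟩ := Q0_elt hF hω 3 (by norm_num)
      refine ⟨x, Subgroup.mem_top x, y, Subgroup.mem_top y, ?_⟩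
      intro hc
      have hm := congrArg (fun u : Q0 hF hω => ((u : GL F9 F) : M9 F)) hc
      simp only [coe_mulS] at hm
      rw [hx, hy, ← toMat_cmulR h2 hω, ← toMat_cmulR h2 hω] at hm
      exact Q_na (cnorm_eq_of_toMat_eq h2 hω hm))
  exact Cfsg.Agent.Lib.Helper63_Heisenberg.isExtraspecial_of_mulEquiv Subgroup.topEquiv key

/-! ### No elementary abelian subgroup of order 8 in `Q₀` -/

theorem isInv_of_sq {x : Q0 hF hω} {c : ℕ} (hx : ((x : GL F9 F) : M9 F) = toMat F ω c)
    (h : x ^ 2 = 1) : isInv c = true := by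
  have h2 := two_eq_zero hF
  have hm := congrArg (fun u : Q0 hF hω => ((u : GL F9 F) : M9 F)) h
  simp only [pow_two, coe_mulS] at hm
  rw [hx, ← toMat_cmulR h2 hω, coe_oneS, ← toMat_cone (F := F) (ω := ω)] at hm
  unfold isInv
  rw [cnorm_eq_of_toMat_eq h2 hω hm]
  exact Nat.beq_refl _

theorem comm_of_commute {x y : Q0 hF hω} {c d : ℕ}
    (hx : ((x : GL F9 F) : M9 F) = toMat F ω c) (hy : ((y : GL F9 F) : M9 F) = toMat F ω d)
    (h : x * y = y * x) : Helper90_J3CentData.comm c d = true := by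
  have h2 := two_eq_zero hF
  have hm := congrArg (fun u : Q0 hF hω => ((u : GL F9 F) : M9 F)) h
  simp only [coe_mulS] at hm
  rw [hx, hy, ← toMat_cmulR h2 hω, ← toMat_cmulR h2 hω] at hm
  unfold Helper90_J3CentData.comm
  rw [cnorm_eq_of_toMat_eq h2 hω hm]
  exact Nat.beq_refl _

theorem elab_bound_Q0 (E : Subgroup (Q0 hF hω)) (hE : Cfsg.IsElementaryAbelian 2 E) :
    Nat.card E ≤ 2 ^ 2 := by
  classical
  have h2 := two_eq_zero hF
  by_contra hcon
  have hcard : 4 < Nat.card E := by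
    have : ¬ Nat.card E ≤ 4 := hcon
    omega
  obtain ⟨hcommE, hpowE⟩ := hE
  have : Fintype E := Fintype.ofFinite E
  have hu : (Finset.univ : Finset E).card = Nat.card E := by
    rw [Finset.card_univ, Nat.card_eq_fintype_card]
  -- three independent elements
  obtain ⟨a, -, ha⟩ := Finset.exists_mem_notMem_of_card_lt_card
    (s := ({1} : Finset E)) (t := Finset.univ) (by rw [hu, Finset.card_singleton]; omega)
  obtain ⟨b, -, hb⟩ := Finset.exists_mem_notMem_of_card_lt_card
    (s := ({1, a} : Finset E)) (t := Finset.univ)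
    (by rw [hu]; exact lt_of_le_of_lt Finset.card_le_two (by omega))
  obtain ⟨c, -, hc⟩ := Finset.exists_mem_notMem_of_card_lt_card
    (s := ({1, a, b, a * b} : Finset E)) (t := Finset.univ)
    (by rw [hu]; exact lt_of_le_of_lt Finset.card_le_four (by omega))
  simp only [Finset.mem_singleton] at ha
  simp only [Finset.mem_insert, Finset.mem_singleton, not_or] at hb hc
  have hab : a.1 * b.1 = b.1 * a.1 := congrArg Subtype.val (hcommE.is_comm.comm a b)
  have hac : a.1 * c.1 = c.1 * a.1 := congrArg Subtype.val (hcommE.is_comm.comm a c)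
  have hbc : b.1 * c.1 = c.1 * b.1 := congrArg Subtype.val (hcommE.is_comm.comm b c)
  have ha2 : a.1 ^ 2 = 1 := hpowE a.1 a.2
  have hb2 : b.1 ^ 2 = 1 := hpowE b.1 b.2
  have hc2 : c.1 ^ 2 = 1 := hpowE c.1 c.2
  obtain ⟨i, hi, hai⟩ := Q0_index hF hω a.1
  obtain ⟨j, hj, hbj⟩ := Q0_index hF hω b.1
  obtain ⟨k, hk, hck⟩ := Q0_index hF hω c.1
  have one_of_zero : ∀ (x : E) (m : ℕ), ((x.1 : GL F9 F) : M9 F) = toMat F ω (Qtab m) → m = 0 →
      x = 1 := by
    intro x m hx hm
    apply Subtype.ext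
    apply sub_ext
    rw [hx, hm, Q_zero, toMat_cone]
    rfl
  have eq_of_idx : ∀ (x y : E) (m : ℕ), ((x.1 : GL F9 F) : M9 F) = toMat F ω (Qtab m) →
      ((y.1 : GL F9 F) : M9 F) = toMat F ω (Qtab m) → x = y := by
    intro x y m hx hy
    apply Subtype.ext
    apply sub_ext
    rw [hx, hy]
  have hi0 : Nat.beq i 0 = false := by
    cases h : Nat.beq i 0
    · rfl
    · exact absurd (one_of_zero a i hai (Nat.eq_of_beq_eq_true h)) ha
  have hj0 : Nat.beq j 0 = false := by
    cases h : Nat.beq j 0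
    · rfl
    · exact absurd (one_of_zero b j hbj (Nat.eq_of_beq_eq_true h)) hb.1
  have hji : Nat.beq j i = false := by
    cases h : Nat.beq j i
    · rfl
    · have e := Nat.eq_of_beq_eq_true h
      rw [e] at hbj
      exact absurd (eq_of_idx b a i hbj hai) hb.2
  have hIa := isInv_of_sq hF hω hai ha2
  have hIb := isInv_of_sq hF hω hbj hb2
  have hIc := isInv_of_sq hF hω hck hc2
  have hCab := comm_of_commute hF hω hai hbj hab
  have hCac := comm_of_commute hF hω hai hck hac
  have hCbc := comm_of_commute hF hω hbj hck hbc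
  have h := allLt_spec Q_elab i hi
  unfold elabI at h
  simp only [force_eq, Bool.or_eq_true, Bool.not_eq_true'] at h
  rcases h with h | h | h
  · rw [hi0] at h; exact Bool.noConfusion h
  · rw [hIa] at h; exact Bool.noConfusion h
  have h' := allLt_spec h j hj
  unfold elabJ at h'
  simp only [force_eq, Bool.or_eq_true, Bool.not_eq_true'] at h'
  rcases h' with h' | h' | h' | h' | h'
  · rw [hj0] at h'; exact Bool.noConfusion h'
  · rw [hji] at h'; exact Bool.noConfusion h'
  · rw [hIb] at h'; exact Bool.noConfusion h'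
  · rw [hCab] at h'; exact Bool.noConfusion h'
  have h'' := allLt_spec h' k hk
  unfold elabK at h''
  simp only [force_eq, Bool.or_eq_true, Bool.not_eq_true'] at h''
  rcases h'' with h3 | h3 | h3 | h3
  · rw [hIc] at h3; exact Bool.noConfusion h3
  · rw [hCac] at h3; exact Bool.noConfusion h3
  · rw [hCbc] at h3; exact Bool.noConfusion h3
  rcases h3 with h3 | h3 | h3 | h3
  · exact hc.1 (one_of_zero c k hck (Nat.eq_of_beq_eq_true h3))
  · rw [Nat.eq_of_beq_eq_true h3] at hck
    exact hc.2.1 (eq_of_idx c a i hck hai)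
  · rw [Nat.eq_of_beq_eq_true h3] at hck
    exact hc.2.2.1 (eq_of_idx c b j hck hbj)
  · apply hc.2.2.2
    apply Subtype.ext
    apply sub_ext
    rw [hck, Nat.eq_of_beq_eq_true h3, toMat_cmulR h2 hω, ← hai, ← hbj]
    rfl

/-! ### `H₀ ≅ A₅` -/

/-- The sums of the five Klein four-subgroups of `H₀`. -/
def N (F : Type*) [Field F] (ω : F) (k : Fin 5) : M9 F := toMat F ω (N5 k)

include hF hω in
theorem N_inj : Function.Injective (N F ω) := by
  have h2 := two_eq_zero hF
  have key : ∀ i j : Fin 5, j.val < i.val → N F ω i ≠ N F ω j := by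
    intro i j hji
    have h := allLt_spec N_dist i.val i.2
    have h1 := allLt_spec h j.val hji
    apply toMat_ne h2 hω
    intro e
    rw [e, Nat.beq_refl] at h1
    exact Bool.noConfusion h1
  intro i j hij
  rcases lt_trichotomy i.val j.val with h | h | h
  · exact absurd hij.symm (key j i h)
  · exact Fin.ext h
  · exact absurd hij (key i j h)

theorem coe_genH (l : ℕ) (hl : l < 2) :
    ((evalG (two_eq_zero hF) hω (wsH l) : GL F9 F) : M9 F) = toMat F ω (genH l) :=
  coe_genC hF hω (4 + l) (by omega)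

theorem acts_a : Acts (N F ω) (evalG (two_eq_zero hF) hω (wsH 0)) pa := by
  have h2 := two_eq_zero hF
  intro k
  have h := allLt_spec N_a k.val k.2
  rw [Bool.and_eq_true] at h
  have h3 := Nat.eq_of_beq_eq_true h.2
  unfold N
  rw [coe_genH hF hω 0 (by norm_num), pa_val k, ← toMat_cmulR h2 hω, ← toMat_cmulR h2 hω, h3]

theorem acts_b : Acts (N F ω) (evalG (two_eq_zero hF) hω (wsH 1)) pb := by
  have h2 := two_eq_zero hF
  intro k
  have h := allLt_spec N_b k.val k.2
  rw [Bool.and_eq_true] at h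
  have h3 := Nat.eq_of_beq_eq_true h.2
  unfold N
  rw [coe_genH hF hω 1 (by norm_num), pb_val k, ← toMat_cmulR h2 hω, ← toMat_cmulR h2 hω, h3]

theorem H0_acts : ∀ g ∈ H0 hF hω, ∃ σ, Acts (N F ω) g σ := by
  apply exists_acts_of_closure
  rintro s ⟨l, hl, rfl⟩
  interval_cases l
  · exact ⟨pa, acts_a hF hω⟩
  · exact ⟨pb, acts_b hF hω⟩

/-- The action of `H₀` on the five sums. -/
noncomputable def psi : H0 hF hω →* Equiv.Perm (Fin 5) :=
  actHom (N F ω) (N_inj hF hω) (H0 hF hω) (H0_acts hF hω)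

theorem a_mem : evalG (two_eq_zero hF) hω (wsH 0) ∈ H0 hF hω :=
  Subgroup.subset_closure ⟨0, by norm_num, rfl⟩

theorem b_mem : evalG (two_eq_zero hF) hω (wsH 1) ∈ H0 hF hω :=
  Subgroup.subset_closure ⟨1, by norm_num, rfl⟩

theorem psi_a : psi hF hω ⟨_, a_mem hF hω⟩ = pa :=
  actHom_eq (N F ω) (N_inj hF hω) (H0 hF hω) (H0_acts hF hω) _ (acts_a hF hω)

theorem psi_b : psi hF hω ⟨_, b_mem hF hω⟩ = pb :=
  actHom_eq (N F ω) (N_inj hF hω) (H0 hF hω) (H0_acts hF hω) _ (acts_b hF hω)

theorem psi_injective : Function.Injective (psi hF hω) := by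
  have h2 := two_eq_zero hF
  rw [injective_iff_map_eq_one]
  intro a ha
  have hact : Acts (N F ω) a 1 := by
    have := actHom_spec (N F ω) (N_inj hF hω) (H0 hF hω) (H0_acts hF hω) a
    rwa [show actHom (N F ω) (N_inj hF hω) (H0 hF hω) (H0_acts hF hω) a = 1 from ha] at this
  obtain ⟨j, hj, haj⟩ := mem_H0_table hF hω a.1 a.2
  have hchk := allLt_spec H_faithful j hj
  unfold chkFaith at hchk
  simp only [force_eq, Bool.or_eq_true, Bool.and_eq_true, Bool.not_eq_true'] at hchk
  rcases hchk with h0 | ⟨hk, hne⟩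
  · apply sub_ext
    rw [haj, Nat.eq_of_beq_eq_true h0, H_zero, toMat_cone]
    rfl
  · exfalso
    have hk' : FW j < 5 := by simpa using hk
    have h1 := hact ⟨FW j, hk'⟩
    rw [Equiv.Perm.one_apply, haj] at h1
    unfold N at h1
    rw [← toMat_cmulR h2 hω, ← toMat_cmulR h2 hω] at h1
    rw [cnorm_eq_of_toMat_eq h2 hω h1, Nat.beq_refl] at hne
    exact Bool.noConfusion hne

theorem psi_mem_alt : ∀ a : H0 hF hω, psi hF hω a ∈ alternatingGroup (Fin 5) := by
  have key : ∀ g (hg : g ∈ H0 hF hω), Equiv.Perm.sign (psi hF hω ⟨g, hg⟩) = 1 := by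
    intro g hg
    induction hg using Subgroup.closure_induction with
    | mem x hx =>
      obtain ⟨l, hl, rfl⟩ := hx
      interval_cases l
      · rw [psi_a]; decide
      · rw [psi_b]; decide
    | one => exact (congrArg Equiv.Perm.sign (map_one (psi hF hω))).trans (map_one _)
    | mul x y hx hy ihx ihy =>
      have : (⟨x * y, Subgroup.mul_mem _ hx hy⟩ : H0 hF hω) = ⟨x, hx⟩ * ⟨y, hy⟩ := rfl
      rw [this, map_mul, map_mul, ihx, ihy, mul_one]
    | inv x hx ihx =>
      have : (⟨x⁻¹, Subgroup.inv_mem _ hx⟩ : H0 hF hω) = (⟨x, hx⟩ : H0 hF hω)⁻¹ := rfl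
      rw [this, map_inv, map_inv, ihx, inv_one]
  intro a
  rw [Equiv.Perm.mem_alternatingGroup]
  exact key a.1 a.2

/-- `H₀ ≃* A₅`. -/
noncomputable def eH : H0 hF hω ≃* alternatingGroup (Fin 5) := by
  let f : H0 hF hω →* alternatingGroup (Fin 5) := (psi hF hω).codRestrict _ (psi_mem_alt hF hω)
  have hf : Function.Injective f := by
    intro a b hab
    apply psi_injective hF hω
    exact congrArg Subtype.val hab
  refine MulEquiv.ofBijective f (hf.bijective_of_nat_card_le ?_)
  rw [card_H0, nat_card_alternatingGroup]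
  simp [Nat.factorial]

/-! ### The shape of `C₀` -/

theorem shape_C0 : Shape ↥(C0 hF hω) := by
  have h2 := two_eq_zero hF
  let Q : Subgroup (C0 hF hω) := (Q0 hF hω).subgroupOf (C0 hF hω)
  let H : Subgroup (C0 hF hω) := (H0 hF hω).subgroupOf (C0 hF hω)
  have hQn : Q.Normal := by
    refine ⟨fun q hq g => ?_⟩
    rw [Subgroup.mem_subgroupOf] at hq ⊢
    exact conj_mem_Q0 hF hω g.1 g.2 q.1 hq
  let eQ : Q ≃* Q0 hF hω := Subgroup.subgroupOfEquivOfLe (Q0_le hF hω)
  let eH' : H ≃* H0 hF hω := Subgroup.subgroupOfEquivOfLe (H0_le hF hω)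
  have hcardQ : Nat.card Q = 32 := by rw [Nat.card_congr eQ.toEquiv, card_Q0]
  have hcardH : Nat.card H = 60 := by rw [Nat.card_congr eH'.toEquiv, card_H0]
  have hdisj : Disjoint Q H := by
    rw [Subgroup.disjoint_def]
    intro x hxQ hxH
    rw [Subgroup.mem_subgroupOf] at hxQ hxH
    obtain ⟨i, hi, hxi⟩ := mem_Q0_table hF hω x.1 hxQ
    obtain ⟨j, hj, hxj⟩ := mem_H0_table hF hω x.1 hxH
    have h := allLt_spec QH_disj j hj
    simp only [force_eq, Bool.or_eq_true] at h
    rcases h with h | h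
    · apply sub_ext
      rw [hxj, Nat.eq_of_beq_eq_true h, H_zero, toMat_cone]
      rfl
    · exfalso
      have h1 := allLt_spec h i hi
      have e : toMat F ω (Htab j) = toMat F ω (Qtab i) := by rw [← hxj, ← hxi]
      rw [cnorm_eq_of_toMat_eq h2 hω e, Nat.beq_refl] at h1
      exact Bool.noConfusion h1
  have hc : Q.IsComplement' H :=
    Subgroup.isComplement'_of_card_mul_and_disjoint (by rw [hcardQ, hcardH, card_C0]) hdisj
  refine ⟨Q, hQn, ?_, hcardQ, ?_, ⟨H, hc⟩, ?_⟩
  · exact Cfsg.Agent.Lib.Helper63_Heisenberg.isExtraspecial_of_mulEquiv eQ.symm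
      (extraspecial_Q0 hF hω)
  · exact elab_bound_of_mulEquiv eQ.symm (elab_bound_Q0 hF hω)
  · exact ⟨(hc.symm.QuotientMulEquiv).trans (eH'.trans (eH hF hω))⟩

/-! ### The centralizer in `J₃` -/

/-- The map `C₀ → J₃`. -/
noncomputable def phi0 : C0 hF hω →* J3 F ω :=
  (QuotientGroup.mk' (Subgroup.center (threeJ3 F ω))).comp (Subgroup.inclusion (C0_le hF hω))

theorem phi0_mem (g : C0 hF hω) :
    phi0 hF hω g ∈ Subgroup.centralizer ({tbar hF hω} : Set (J3 F ω)) := by
  rw [Subgroup.mem_centralizer_singleton_iff]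
  show (QuotientGroup.mk (Subgroup.inclusion (C0_le hF hω) g) : J3 F ω) *
      QuotientGroup.mk (gw (two_eq_zero hF) hω [1]) =
    QuotientGroup.mk (gw (two_eq_zero hF) hω [1]) *
      QuotientGroup.mk (Subgroup.inclusion (C0_le hF hω) g)
  rw [← QuotientGroup.mk_mul, ← QuotientGroup.mk_mul]
  congr 1
  apply Subtype.ext
  exact C0_comm hF hω g.1 g.2

/-- The map from `C₀` to the centralizer of the image of `t`. -/
noncomputable def phi : C0 hF hω →* Subgroup.centralizer ({tbar hF hω} : Set (J3 F ω)) :=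
  (phi0 hF hω).codRestrict _ (phi0_mem hF hω)

theorem phi_injective : Function.Injective (phi hF hω) := by
  rw [injective_iff_map_eq_one]
  intro g hg
  have h0 : phi0 hF hω g = 1 := congrArg Subtype.val hg
  have hz : Subgroup.inclusion (C0_le hF hω) g ∈ Subgroup.center (threeJ3 F ω) := by
    rw [← QuotientGroup.eq_one_iff]
    exact h0
  obtain ⟨i, hi, hgi⟩ := mem_C0_table hF hω g.1 g.2
  have hs := isScal_of_central hF hω hz (c := Ctab i) hgi
  have h := allLt_spec C_scal i hi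
  simp only [Bool.or_eq_true, Bool.not_eq_true'] at h
  rcases h with h | h
  · apply sub_ext
    rw [hgi, Nat.eq_of_beq_eq_true h, C_zero, toMat_cone]
    rfl
  · rw [hs] at h
    exact Bool.noConfusion h

/-- `C₀` is isomorphic to the centralizer of the image of `t` in `J₃`. -/
noncomputable def equivCent :
    C0 hF hω ≃* Subgroup.centralizer ({tbar hF hω} : Set (J3 F ω)) :=
  MulEquiv.ofBijective (phi hF hω) ((phi_injective hF hω).bijective_of_nat_card_le (by
    rw [card_C0]
    exact card_centralizer_le hF hω))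

/-- The centralizer of an involution in `J₃` has the shape `2^(1+4)₋ : A₅`. -/
theorem shape_centralizer :
    Shape ↥(Subgroup.centralizer ({tbar hF hω} : Set (J3 F ω))) :=
  (shape_C0 hF hω).of_mulEquiv (equivCent hF hω)

end Main

end Cfsg.Agent.Lib.Helper90_J3Cent
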