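import Mathlib
import Cfsg.Agent.Lib.Helper90_J3Cent
import Cfsg.Agent.Lib.Helper26_J3FTab
import Cfsg.Agent.Lib.Helper26_FusLocalDefs

/-!
# The local hypotheses `FusLocal` for a Sylow 2-subgroup of `J₃` (helper26)

Inside helper90's `C₀ ≅ C_{J₃}(t)` (order 1920, shape `2^(1+4)₋ : A₅`) we certify a subgroup `S₁` of
order 128 generated by seven involutions, containing `Q₀ = O₂(C₀)`.  Its image `Sb` in `J₃` is a
Sylow 2-subgroup and `FusLocal Sb Qb` holds with `Qb` the image of `Q₀`: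

* all involutions of `J₃` are conjugate and `Sb` is generated by involutions, so `Sb` has no proper
  non-trivial strongly closed subgroup;
* `C_{J₃}(Qb) = ⟨t⟩`, hence `Z(Sb) = ⟨t⟩` and `N(Sb) ≤ C(t)`, which normalizes `Qb`;
* `C(t) / Qb ≅ A₅` is simple, so `C(t)` is the normal closure of `Sb` in `C(t)`.
-/

set_option autoImplicit false

namespace Cfsg.Agent.Lib.Helper26_J3F

open Cfsg Cfsg.Spor Cfsg.Agent.Lib.Helper90_CodeTable Cfsg.Agent.Lib.Helper90_J3Core
  Cfsg.Agent.Lib.Helper90_J3Gens Cfsg.Agent.Lib.Helper90_J3Group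
  Cfsg.Agent.Lib.Helper90_J3DataP Cfsg.Agent.Lib.Helper90_J3Order
  Cfsg.Agent.Lib.Helper90_J3Simple Cfsg.Agent.Lib.Helper90_J3Center
  Cfsg.Agent.Lib.Helper90_J3CentData Cfsg.Agent.Lib.Helper90_J3InvClass
  Cfsg.Agent.Lib.Helper90_J3Cent Cfsg.Agent.Lib.Helper90_GroupShape
  Cfsg.Agent.Lib.Helper26_J3FTab Cfsg.Agent.Lib.Helper26_FusLocal

/-! ### General group theory -/

section General

variable {G : Type*} [Group G]

/-- Conjugation by `n` maps a finite subgroup `H` into itself, hence onto itself. -/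
theorem exists_conj_of_finite (H : Subgroup G) [Finite H] (n : G)
    (hn : ∀ s ∈ H, n * s * n⁻¹ ∈ H) : ∀ q ∈ H, ∃ s ∈ H, q = n * s * n⁻¹ := by
  let f : H → H := fun s => ⟨n * s * n⁻¹, hn s s.2⟩
  have hf : Function.Injective f := by
    intro a b hab
    have h1 : n * (a : G) * n⁻¹ = n * (b : G) * n⁻¹ := congrArg Subtype.val hab
    apply Subtype.ext
    have h2 := mul_right_cancel h1
    exact mul_left_cancel h2
  have hs := Finite.surjective_of_injective hf
  intro q hq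
  obtain ⟨s, hs⟩ := hs ⟨q, hq⟩
  exact ⟨s, s.2, (congrArg Subtype.val hs).symm⟩

/-- In a group of order 1920 with a normal subgroup `Q` of order 32 and `C ⧸ Q ≃* A₅`, the normal
closure of a subgroup of order 128 is everything. -/
theorem normalClosure_eq_top {C : Type*} [Group C] [Finite C] (hC : Nat.card C = 1920)
    (Q : Subgroup C) [Q.Normal] (hQ : Nat.card Q = 32)
    (f : C ⧸ Q ≃* ↥(alternatingGroup (Fin 5))) (S : Subgroup C) (hS : Nat.card S = 128) :
    Subgroup.normalClosure (S : Set C) = ⊤ := by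
  set N := Subgroup.normalClosure (S : Set C) with hN
  have hSN : S ≤ N := Subgroup.le_normalClosure
  have hNn : N.Normal := Subgroup.normalClosure_normal
  have hsimple : IsSimpleGroup (C ⧸ Q) := by
    have : IsSimpleGroup ↥(alternatingGroup (Fin 5)) := alternatingGroup.isSimpleGroup (by simp)
    exact f.isSimpleGroup
  have hMn : (N.map (QuotientGroup.mk' Q)).Normal :=
    Subgroup.Normal.map hNn _ (QuotientGroup.mk'_surjective Q)
  rcases hMn.eq_bot_or_eq_top with h | h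
  · exfalso
    rw [Subgroup.map_eq_bot_iff, QuotientGroup.ker_mk'] at h
    have h1 := Subgroup.card_le_of_le (hSN.trans h)
    rw [hS, hQ] at h1
    omega
  · have h1 : N ⊔ Q = ⊤ := by
      have := Subgroup.comap_map_eq (QuotientGroup.mk' Q) N
      rw [h, Subgroup.comap_top, QuotientGroup.ker_mk'] at this
      exact this.symm
    have h2 : N.index = N.relIndex Q := by
      rw [← Subgroup.relIndex_top_right, ← h1, Subgroup.relIndex_sup_left]
    have h3 : N.index ∣ 32 := by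
      rw [h2, ← hQ]
      exact Subgroup.index_dvd_card _
    have h4 : N.index ∣ 15 := by
      have h5 : S.index = 15 := by
        have := Subgroup.card_mul_index S
        rw [hS, hC] at this
        omega
      rw [← h5]
      exact Subgroup.index_dvd_of_le hSN
    have h5 : N.index = 1 := Nat.eq_one_of_dvd_coprimes (by norm_num : Nat.Coprime 32 15) h3 h4
    exact Subgroup.index_eq_one.mp h5

end General

/-! ### Table checks -/

/-- Index in `Ctab` of the generators of `S₁`. -/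
def idxFC (l : ℕ) : ℕ :=
  Nat.rec (motive := fun _ => ℕ) 897 (fun l _ => Nat.rec (motive := fun _ => ℕ) 1280 (fun l _ => Nat.rec (motive := fun _ => ℕ) 9 (fun l _ => Nat.rec (motive := fun _ => ℕ) 3 (fun l _ => Nat.rec (motive := fun _ => ℕ) 57 (fun l _ => Nat.rec (motive := fun _ => ℕ) 1 (fun _ _ => 12) l) l) l) l) l) l

/-- Index in `TFtab` of the generators of `Q₀`. -/
def idxQF (l : ℕ) : ℕ :=
  Nat.rec (motive := fun _ => ℕ) 6 (fun l _ => Nat.rec (motive := fun _ => ℕ) 78 (fun l _ => Nat.rec (motive := fun _ => ℕ) 4 (fun _ _ => 31) l) l) l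

theorem F_inC : allLt 7 (fun l => and (Nat.blt (idxFC l) 1920) (Nat.beq (Ctab (idxFC l)) (genF l))) = true := by
  decide +kernel

theorem Q_inF : allLt 4 (fun l => and (Nat.blt (idxQF l) 128) (Nat.beq (TFtab (idxQF l)) (genQ l))) = true := by
  decide +kernel

theorem F_sq : allLt 7 (fun l => Nat.beq (cmulR (genF l) (genF l)) cone) = true := by
  decide +kernel

theorem C_t : Ctab 12 = cg2 := by decide +kernel

/-- The centralizer of `Q₀` in `C₀` is `{1, t}`. -/
theorem C_centQ : allLt 1920 (fun i => or (or (Nat.beq i 0) (Nat.beq i 12))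
    (not (allLt 4 fun l => Nat.beq (cnorm (cmulR (Ctab i) (genQ l)))
      (cnorm (cmulR (genQ l) (Ctab i)))))) = true := by
  decide +kernel

/-! ### The subgroup `S₁` of `C₀` -/

section Main

variable {F : Type*} [Field F] {ω : F} [Fintype F] (hF : Fintype.card F = 4)
  (hω : ω ^ 2 + ω + 1 = 0)

theorem F_gen' : ∀ l < 7, evalW (wsF l) = genF l := fun l hl => TF_gen ⟨l, hl⟩

/-- The subgroup `S₁` of order 128. -/
def S1 : Subgroup (GL F9 F) := Subgroup.closure (wordSet (two_eq_zero hF) hω wsF 7)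

theorem card_S1 : Nat.card (S1 hF hω) = 128 :=
  card_closure_table (two_eq_zero hF) hω F_gen' (by norm_num) TF_zero TF_closed_all TF_tree_all
    TF_dist

theorem coe_genF (l : ℕ) (hl : l < 7) :
    ((evalG (two_eq_zero hF) hω (wsF l) : GL F9 F) : M9 F) = toMat F ω (genF l) := by
  rw [← toMat_evalW (two_eq_zero hF) hω, F_gen' l hl]

theorem coe_genQ (l : ℕ) (hl : l < 4) :
    ((evalG (two_eq_zero hF) hω (wsQ l) : GL F9 F) : M9 F) = toMat F ω (genQ l) := by
  rw [← toMat_evalW (two_eq_zero hF) hω, Q_gen' l hl]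

theorem genF_mem_C0 (l : ℕ) (hl : l < 7) :
    evalG (two_eq_zero hF) hω (wsF l) ∈ C0 hF hω := by
  have h := allLt_spec F_inC l hl
  rw [Bool.and_eq_true] at h
  obtain ⟨h1, h2⟩ := h
  have hi : idxFC l < 1920 := Nat.le_of_ble_eq_true h1
  obtain ⟨g, hg, hgm⟩ :=
    table_mem_closure (two_eq_zero hF) hω C_gen' C_zero C_closed C_tree (idxFC l) hi
  rw [Nat.eq_of_beq_eq_true h2, ← coe_genF hF hω l hl] at hgm
  rw [← Units.ext hgm]
  exact hg

theorem S1_le : S1 hF hω ≤ C0 hF hω := by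
  unfold S1
  rw [Subgroup.closure_le]
  rintro g ⟨l, hl, rfl⟩
  exact genF_mem_C0 hF hω l hl

theorem Q0_le_S1 : Q0 hF hω ≤ S1 hF hω := by
  unfold Q0
  rw [Subgroup.closure_le]
  rintro g ⟨l, hl, rfl⟩
  have h := allLt_spec Q_inF l hl
  rw [Bool.and_eq_true] at h
  obtain ⟨h1, h2⟩ := h
  have hi : idxQF l < 128 := Nat.le_of_ble_eq_true h1
  obtain ⟨g, hg, hgm⟩ :=
    table_mem_closure (two_eq_zero hF) hω F_gen' TF_zero TF_closed_all TF_tree_all (idxQF l) hi
  rw [Nat.eq_of_beq_eq_true h2, ← coe_genQ hF hω l hl] at hgm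
  rw [SetLike.mem_coe, ← Units.ext hgm]
  exact hg

theorem genF_sq (l : ℕ) (hl : l < 7) :
    evalG (two_eq_zero hF) hω (wsF l) * evalG (two_eq_zero hF) hω (wsF l) = 1 := by
  apply Units.ext
  rw [Units.val_mul, coe_genF hF hω l hl, ← toMat_cmulR (two_eq_zero hF) hω,
    Nat.eq_of_beq_eq_true (allLt_spec F_sq l hl), toMat_cone]
  rfl

/-- The centralizer of `Q₀` in `C₀` is `{1, t}`. -/
theorem centQ_C0 (c : GL F9 F) (hc : c ∈ C0 hF hω)
    (hcomm : ∀ l < 4, c * evalG (two_eq_zero hF) hω (wsQ l) =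
      evalG (two_eq_zero hF) hω (wsQ l) * c) : c = 1 ∨ c = tG hF hω := by
  have h2 := two_eq_zero hF
  obtain ⟨i, hi, hci⟩ := mem_C0_table hF hω c hc
  have h := allLt_spec C_centQ i hi
  rw [Bool.or_eq_true, Bool.or_eq_true] at h
  rcases h with (h | h) | h
  · left
    apply Units.ext
    rw [hci, Nat.eq_of_beq_eq_true h, C_zero, toMat_cone]
    rfl
  · right
    apply Units.ext
    rw [hci, Nat.eq_of_beq_eq_true h, C_t, coe_tG]
  · exfalso
    have h3 : allLt 4 (fun l => Nat.beq (cnorm (cmulR (Ctab i) (genQ l)))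
        (cnorm (cmulR (genQ l) (Ctab i)))) = true := by
      apply allLt_of_forall
      intro l hl
      have e : toMat F ω (cmulR (Ctab i) (genQ l)) = toMat F ω (cmulR (genQ l) (Ctab i)) := by
        rw [toMat_cmulR h2 hω, toMat_cmulR h2 hω, ← hci, ← coe_genQ hF hω l hl, ← Units.val_mul,
          ← Units.val_mul, hcomm l hl]
      rw [cnorm_eq_of_toMat_eq h2 hω e]
      exact Nat.beq_refl _
    rw [h3] at h
    exact Bool.noConfusion h

/-! ### The images in `J₃` -/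

theorem phi0_injective : Function.Injective (phi0 hF hω) := by
  intro a b hab
  apply phi_injective hF hω
  exact Subtype.ext hab

theorem exists_phi0 (n : J3 F ω) (hn : n * tbar hF hω = tbar hF hω * n) :
    ∃ c : C0 hF hω, phi0 hF hω c = n := by
  have hmem : n ∈ Subgroup.centralizer ({tbar hF hω} : Set (J3 F ω)) := by
    rw [Subgroup.mem_centralizer_singleton_iff]
    exact hn
  obtain ⟨c, hc⟩ := (equivCent hF hω).surjective ⟨n, hmem⟩
  exact ⟨c, congrArg Subtype.val hc⟩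

theorem phi0_comm (c : C0 hF hω) : phi0 hF hω c * tbar hF hω = tbar hF hω * phi0 hF hω c := by
  have h := phi0_mem hF hω c
  rw [Subgroup.mem_centralizer_singleton_iff] at h
  exact h

/-- `S₁` inside `C₀`. -/
def Sc : Subgroup (C0 hF hω) := (S1 hF hω).subgroupOf (C0 hF hω)

/-- `Q₀` inside `C₀`. -/
def Qc : Subgroup (C0 hF hω) := (Q0 hF hω).subgroupOf (C0 hF hω)

/-- The Sylow 2-subgroup of `J₃`. -/
noncomputable def Sb : Subgroup (J3 F ω) := (Sc hF hω).map (phi0 hF hω)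

/-- The image of `Q₀` in `J₃`. -/
noncomputable def Qb : Subgroup (J3 F ω) := (Qc hF hω).map (phi0 hF hω)

theorem card_Sc : Nat.card (Sc hF hω) = 128 := by
  rw [← card_S1 hF hω]
  exact Nat.card_congr (Subgroup.subgroupOfEquivOfLe (S1_le hF hω)).toEquiv

theorem card_Sb : Nat.card (Sb hF hω) = 128 := by
  rw [← card_Sc hF hω]
  exact Subgroup.card_map_of_injective (phi0_injective hF hω)

theorem Qc_le_Sc : Qc hF hω ≤ Sc hF hω := by
  intro x hx
  rw [Qc, Subgroup.mem_subgroupOf] at hx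
  rw [Sc, Subgroup.mem_subgroupOf]
  exact Q0_le_S1 hF hω hx

theorem Qb_le_Sb : Qb hF hω ≤ Sb hF hω := Subgroup.map_mono (Qc_le_Sc hF hω)

/-- `t` as an element of `C₀`. -/
def tC : C0 hF hω := ⟨tG hF hω, Q0_le hF hω (tG_mem_Q0 hF hω)⟩

theorem phi0_tC : phi0 hF hω (tC hF hω) = tbar hF hω := rfl

theorem tC_mem_Qc : tC hF hω ∈ Qc hF hω := by
  rw [Qc, Subgroup.mem_subgroupOf]
  exact tG_mem_Q0 hF hω

theorem tbar_mem_Qb : tbar hF hω ∈ Qb hF hω :=
  ⟨tC hF hω, tC_mem_Qc hF hω, phi0_tC hF hω⟩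

theorem finite_Sb : Finite (Sb hF hω) :=
  Nat.finite_of_card_ne_zero (by rw [card_Sb hF hω]; norm_num)

/-- The centralizer of `Qb` in `J₃` is `{1, t}`. -/
theorem cent_Qb (c : J3 F ω) (hc : ∀ q ∈ Qb hF hω, c * q = q * c) :
    c = 1 ∨ c = tbar hF hω := by
  obtain ⟨c', rfl⟩ := exists_phi0 hF hω c (hc _ (tbar_mem_Qb hF hω))
  have h := centQ_C0 hF hω c'.1 c'.2 (fun l hl => by
    have hq : evalG (two_eq_zero hF) hω (wsQ l) ∈ Q0 hF hω :=
      Subgroup.subset_closure ⟨l, hl, rfl⟩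
    let q : C0 hF hω := ⟨evalG (two_eq_zero hF) hω (wsQ l), Q0_le hF hω hq⟩
    have hqQ : q ∈ Qc hF hω := by
      rw [Qc, Subgroup.mem_subgroupOf]
      exact hq
    have h1 := hc (phi0 hF hω q) ⟨q, hqQ, rfl⟩
    rw [← map_mul, ← map_mul] at h1
    exact congrArg Subtype.val (phi0_injective hF hω h1))
  rcases h with h | h
  · left
    have e : c' = 1 := Subtype.ext h
    rw [e, map_one]
  · right
    have e : c' = tC hF hω := Subtype.ext h
    rw [e, phi0_tC]

/-- Elements normalizing `Sb` centralize `t`. -/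
theorem comm_tbar_of_norm (n : J3 F ω) (hn : ∀ s ∈ Sb hF hω, n * s * n⁻¹ ∈ Sb hF hω) :
    n * tbar hF hω = tbar hF hω * n := by
  have hfin := finite_Sb hF hω
  have ht : tbar hF hω ∈ Sb hF hω := Qb_le_Sb hF hω (tbar_mem_Qb hF hω)
  have hcent : ∀ q ∈ Qb hF hω, (n * tbar hF hω * n⁻¹) * q = q * (n * tbar hF hω * n⁻¹) := by
    intro q hq
    obtain ⟨s, hs, rfl⟩ := exists_conj_of_finite (Sb hF hω) n hn q (Qb_le_Sb hF hω hq)
    obtain ⟨s', _, rfl⟩ := hs
    have e := phi0_comm hF hω s'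
    calc n * tbar hF hω * n⁻¹ * (n * phi0 hF hω s' * n⁻¹)
        = n * (tbar hF hω * phi0 hF hω s') * n⁻¹ := by group
      _ = n * (phi0 hF hω s' * tbar hF hω) * n⁻¹ := by rw [e]
      _ = n * phi0 hF hω s' * n⁻¹ * (n * tbar hF hω * n⁻¹) := by group
  rcases cent_Qb hF hω _ hcent with h | h
  · exfalso
    apply tbar_ne_one hF hω
    calc tbar hF hω = n⁻¹ * (n * tbar hF hω * n⁻¹) * n := by group
      _ = 1 := by rw [h]; group
  · calc n * tbar hF hω = (n * tbar hF hω * n⁻¹) * n := by group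
      _ = tbar hF hω * n := by rw [h]

theorem Sb_ne_bot : Sb hF hω ≠ ⊥ := by
  intro h
  have := card_Sb hF hω
  rw [h, Subgroup.card_bot] at this
  norm_num at this

/-- `φ₀(C₀)` normalizes `Qb`. -/
theorem phi0_conj_Qb (c : C0 hF hω) (q : J3 F ω) (hq : q ∈ Qb hF hω) :
    phi0 hF hω c * q * (phi0 hF hω c)⁻¹ ∈ Qb hF hω := by
  obtain ⟨q', hq', rfl⟩ := hq
  refine ⟨c * q' * c⁻¹, ?_, by rw [map_mul, map_mul, map_inv]⟩
  rw [SetLike.mem_coe, Qc, Subgroup.mem_subgroupOf] at hq' ⊢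
  exact conj_mem_Q0 hF hω c.1 c.2 q'.1 hq'

theorem hnorm (n : J3 F ω) (hn : ∀ s ∈ Sb hF hω, n * s * n⁻¹ ∈ Sb hF hω) :
    ∀ q ∈ Qb hF hω, n * q * n⁻¹ ∈ Qb hF hω := by
  obtain ⟨c, rfl⟩ := exists_phi0 hF hω n (comm_tbar_of_norm hF hω n hn)
  exact phi0_conj_Qb hF hω c

theorem hcent (c : J3 F ω) (hc : ∀ q ∈ Qb hF hω, c * q = q * c) : c ∈ Sb hF hω := by
  rcases cent_Qb hF hω c hc with h | h
  · rw [h]
    exact one_mem _
  · rw [h]
    exact Qb_le_Sb hF hω (tbar_mem_Qb hF hω)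

theorem hgen (n : J3 F ω) (hn : ∀ s ∈ Sb hF hω, n * s * n⁻¹ ∈ Sb hF hω) :
    n ∈ Subgroup.closure {x : J3 F ω | ∃ m : J3 F ω,
      (∀ q ∈ Qb hF hω, m * q * m⁻¹ ∈ Qb hF hω) ∧ ∃ s ∈ Sb hF hω, x = m * s * m⁻¹} := by
  obtain ⟨c, rfl⟩ := exists_phi0 hF hω n (comm_tbar_of_norm hF hω n hn)
  clear hn
  have htop : Subgroup.normalClosure (Sc hF hω : Set (C0 hF hω)) = ⊤ := by
    obtain ⟨Qx, hQn, _, hcard, _, _, ⟨f⟩⟩ := shape_C0 hF hω
    have : Finite (C0 hF hω) := Nat.finite_of_card_ne_zero (by rw [card_C0]; norm_num)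
    exact normalClosure_eq_top (card_C0 hF hω) Qx hcard f (Sc hF hω) (card_Sc hF hω)
  have hc : c ∈ Subgroup.normalClosure (Sc hF hω : Set (C0 hF hω)) := by
    rw [htop]
    trivial
  unfold Subgroup.normalClosure at hc
  induction hc using Subgroup.closure_induction with
  | mem x hx =>
    rw [Group.mem_conjugatesOfSet_iff] at hx
    obtain ⟨a, ha, hax⟩ := hx
    rw [isConj_iff] at hax
    obtain ⟨m, rfl⟩ := hax
    apply Subgroup.subset_closure
    exact ⟨phi0 hF hω m, phi0_conj_Qb hF hω m, phi0 hF hω a, ⟨a, ha, rfl⟩,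
      by rw [map_mul, map_mul, map_inv]⟩
  | one =>
    rw [map_one]
    exact one_mem _
  | mul x y _ _ hx hy =>
    rw [map_mul]
    exact mul_mem hx hy
  | inv x _ hx =>
    rw [map_inv]
    exact inv_mem hx

theorem hclosed (T : Subgroup (J3 F ω)) (hT : T ≤ Sb hF hω) (hT1 : T ≠ ⊥)
    (hsc : ∀ t ∈ T, ∀ g : J3 F ω, g * t * g⁻¹ ∈ Sb hF hω → g * t * g⁻¹ ∈ T) :
    T = Sb hF hω := by
  apply le_antisymm hT
  have hfin := finite_Sb hF hω
  have hfinT : Finite T :=
    Finite.of_injective (Subgroup.inclusion hT) (Subgroup.inclusion_injective hT)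
  have hcardT : Nat.card T ∣ 2 ^ 7 := by
    have h := Subgroup.card_dvd_of_le hT
    rwa [card_Sb hF hω] at h
  have h2 : 2 ∣ Nat.card T := by
    have hne : Nat.card T ≠ 1 := fun h => hT1 (Subgroup.card_eq_one.mp h)
    obtain ⟨k, _, e⟩ := (Nat.dvd_prime_pow Nat.prime_two).mp hcardT
    rw [e] at hne ⊢
    cases k with
    | zero => simp at hne
    | succ k => exact dvd_pow_self 2 (Nat.succ_ne_zero k)
  have : Fact (Nat.Prime 2) := ⟨Nat.prime_two⟩
  obtain ⟨t0, ht0⟩ := exists_prime_orderOf_dvd_card' 2 h2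
  have ht0' : orderOf (t0 : J3 F ω) = 2 := by
    rw [Subgroup.orderOf_coe]
    exact ht0
  have key : ∀ s ∈ S1 hF hω, ∃ h : s ∈ C0 hF hω, phi0 hF hω ⟨s, h⟩ ∈ T := by
    intro s hs
    unfold S1 at hs
    induction hs using Subgroup.closure_induction with
    | mem x hx =>
      obtain ⟨l, hl, rfl⟩ := hx
      refine ⟨genF_mem_C0 hF hω l hl, ?_⟩
      set x0 : C0 hF hω := ⟨_, genF_mem_C0 hF hω l hl⟩ with hx0
      have hx2 : x0 * x0 = 1 := Subtype.ext (genF_sq hF hω l hl)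
      have hu2 : phi0 hF hω x0 * phi0 hF hω x0 = 1 := by
        rw [← map_mul, hx2, map_one]
      by_cases h1 : phi0 hF hω x0 = 1
      · rw [h1]
        exact one_mem _
      · have ho : orderOf (phi0 hF hω x0) = 2 :=
          orderOf_eq_prime (by rw [pow_two]; exact hu2) h1
        have hconj := isConj_of_orderOf_two hF hω (t0 : J3 F ω) _ ht0' ho
        rw [isConj_iff] at hconj
        obtain ⟨g, hg⟩ := hconj
        rw [← hg]
        apply hsc _ t0.2
        rw [hg]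
        refine ⟨x0, ?_, rfl⟩
        rw [SetLike.mem_coe, Sc, Subgroup.mem_subgroupOf]
        exact Subgroup.subset_closure ⟨l, hl, rfl⟩
    | one =>
      refine ⟨one_mem _, ?_⟩
      have e : (⟨1, one_mem _⟩ : C0 hF hω) = 1 := rfl
      rw [e, map_one]
      exact one_mem _
    | mul x y _ _ hx hy =>
      obtain ⟨hx1, hx2⟩ := hx
      obtain ⟨hy1, hy2⟩ := hy
      refine ⟨mul_mem hx1 hy1, ?_⟩
      have e : (⟨x * y, mul_mem hx1 hy1⟩ : C0 hF hω) = ⟨x, hx1⟩ * ⟨y, hy1⟩ := rfl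
      rw [e, map_mul]
      exact mul_mem hx2 hy2
    | inv x _ hx =>
      obtain ⟨hx1, hx2⟩ := hx
      refine ⟨inv_mem hx1, ?_⟩
      have e : (⟨x⁻¹, inv_mem hx1⟩ : C0 hF hω) = (⟨x, hx1⟩ : C0 hF hω)⁻¹ := rfl
      rw [e, map_inv]
      exact inv_mem hx2
  rintro _ ⟨s, hs, rfl⟩
  rw [SetLike.mem_coe, Sc, Subgroup.mem_subgroupOf] at hs
  obtain ⟨h, hmem⟩ := key s.1 hs
  exact hmem

/-- `FusLocal` holds for `Sb` and `Qb`. -/
theorem fusLocal_Sb : FusLocal (Sb hF hω) (Qb hF hω) :=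
  ⟨Sb_ne_bot hF hω, hclosed hF hω, Qb_le_Sb hF hω, hnorm hF hω, hcent hF hω, hgen hF hω⟩

include hF hω in
theorem finite_J3' : Finite (J3 F ω) :=
  Nat.finite_of_card_ne_zero (by rw [card_J3 hF hω]; norm_num)

include hF hω in
theorem factorization_card_J3 : (Nat.card (J3 F ω)).factorization 2 = 7 := by
  rw [card_J3 hF hω, show (50232960 : ℕ) = 2 ^ 7 * 392445 by norm_num,
    Nat.factorization_mul (by norm_num) (by norm_num), Nat.Prime.factorization_pow Nat.prime_two]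
  simp [Nat.factorization_eq_zero_of_not_dvd]

include hF hω in
/-- A Sylow 2-subgroup of `J₃` satisfying the local hypotheses. -/
theorem exists_sylow_fusLocal :
    ∃ (_ : Finite (J3 F ω)) (S : Sylow 2 (J3 F ω)) (Q : Subgroup (J3 F ω)),
      FusLocal (S : Subgroup (J3 F ω)) Q := by
  have hfin := finite_J3' hF hω
  have : Fact (Nat.Prime 2) := ⟨Nat.prime_two⟩
  refine ⟨hfin, Sylow.ofCard (Sb hF hω) ?_, Qb hF hω, ?_⟩
  · rw [card_Sb hF hω, factorization_card_J3 hF hω]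
    norm_num
  · rw [Sylow.coe_ofCard]
    exact fusLocal_Sb hF hω

end Main

end Cfsg.Agent.Lib.Helper26_J3F
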