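import Mathlib
import Cfsg.Prelude.Def_Spor_J3
import Cfsg.Agent.Lib.Helper90_J3Center

/-!
# Words in `J₃ = 3·J₃ / Z` on helper90's code engine (helper26)

`jw w` is the image in `J₃` of the value of the word `w` (letters `0, 1, 2` for `g₁, g₂, g₁⁻¹`).
Relations between words are checked on codes, up to the scalars `1, ω, ω²`.
-/

set_option autoImplicit false

namespace Cfsg.Agent.Lib.Helper26_J3M

open Cfsg.Spor Cfsg.Agent.Lib.Helper90_CodeTable Cfsg.Agent.Lib.Helper90_J3Core
  Cfsg.Agent.Lib.Helper90_J3Gens Cfsg.Agent.Lib.Helper90_J3Group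
  Cfsg.Agent.Lib.Helper90_J3DataP Cfsg.Agent.Lib.Helper90_J3Order
  Cfsg.Agent.Lib.Helper90_J3Simple Cfsg.Agent.Lib.Helper90_J3Center

variable {F : Type*} [Field F] {ω : F}

section Words

variable (h2 : (2 : F) = 0) (hω : ω ^ 2 + ω + 1 = 0)

/-- The image in `J₃` of the value of a word. -/
noncomputable def jw (w : List ℕ) : J3 F ω := QuotientGroup.mk (gw h2 hω w)

theorem jw_append (u v : List ℕ) : jw h2 hω (u ++ v) = jw h2 hω u * jw h2 hω v := by
  unfold jw
  rw [gw_append, QuotientGroup.mk_mul]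

theorem jw_nil : jw h2 hω [] = 1 := by
  unfold jw
  rw [gw_nil, QuotientGroup.mk_one]

theorem jw_winv (w : List ℕ) : jw h2 hω (winv w) = (jw h2 hω w)⁻¹ := by
  unfold jw
  rw [gw_winv, QuotientGroup.mk_inv]

/-- The word `w` repeated `n` times. -/
def wrep : ℕ → List ℕ → List ℕ
  | 0, _ => []
  | n + 1, w => wrep n w ++ w

theorem jw_wrep (n : ℕ) (w : List ℕ) : jw h2 hω (wrep n w) = jw h2 hω w ^ n := by
  induction n with
  | zero => rw [wrep, jw_nil, pow_zero]
  | succ n ih => rw [wrep, jw_append, ih, pow_succ]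

theorem gw_wrep (n : ℕ) (w : List ℕ) : gw h2 hω (wrep n w) = gw h2 hω w ^ n := by
  induction n with
  | zero => rw [wrep, gw_nil, pow_zero]
  | succ n ih => rw [wrep, gw_append, ih, pow_succ]

theorem coe_gw (w : List ℕ) : ((gw h2 hω w : GL F9 F) : M9 F) = toMat F ω (evalW w) := by
  show ((evalG h2 hω w : GL F9 F) : M9 F) = _
  rw [← toMat_evalW h2 hω]

theorem gw_eq_of_code {u v : List ℕ} (h : evalW u = evalW v) : gw h2 hω u = gw h2 hω v :=
  Subtype.ext (evalG_eq_of_code h2 hω h)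

/-- A word whose code is the scalar `ω` is central. -/
theorem gw_central_of_code {w : List ℕ} (h : evalW w = cw) :
    gw h2 hω w ∈ Subgroup.center (threeJ3 F ω) := by
  rw [Subgroup.mem_center_iff]
  intro x
  apply Subtype.ext
  apply Units.ext
  show ((x : GL F9 F) : M9 F) * ((gw h2 hω w : GL F9 F) : M9 F) =
    ((gw h2 hω w : GL F9 F) : M9 F) * ((x : GL F9 F) : M9 F)
  rw [coe_gw, h, toMat_cw]
  ext i j
  rw [Matrix.mul_diagonal, Matrix.diagonal_mul, mul_comm]

/-- Equality of codes up to a scalar. -/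
def chkS (u v : List ℕ) : Bool :=
  force (evalW u) fun a => force (evalW v) fun b =>
    or (Nat.beq a b) (or (Nat.beq a (cmulR b cw)) (Nat.beq a (cmulR b (cmulR cw cw))))

theorem jw_eq_of_chk {u v : List ℕ} (h : chkS u v = true) : jw h2 hω u = jw h2 hω v := by
  unfold chkS at h
  simp only [force_eq, Bool.or_eq_true] at h
  obtain ⟨s, hs⟩ := exists_scalar h2 hω
  have hsc : s ∈ Subgroup.center (threeJ3 F ω) := by
    rw [Subgroup.mem_center_iff]
    intro x
    apply Subtype.ext
    apply Units.ext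
    show ((x : GL F9 F) : M9 F) * ((s : GL F9 F) : M9 F) =
      ((s : GL F9 F) : M9 F) * ((x : GL F9 F) : M9 F)
    rw [hs]
    ext i j
    rw [Matrix.mul_diagonal, Matrix.diagonal_mul, mul_comm]
  have hmk : (QuotientGroup.mk s : J3 F ω) = 1 := (QuotientGroup.eq_one_iff s).mpr hsc
  unfold jw
  rcases h with h | h | h
  · rw [gw_eq_of_code h2 hω (Nat.eq_of_beq_eq_true h)]
  · have e : gw h2 hω u = gw h2 hω v * s := by
      apply Subtype.ext
      apply Units.ext
      show ((gw h2 hω u : GL F9 F) : M9 F) =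
        ((gw h2 hω v : GL F9 F) : M9 F) * ((s : GL F9 F) : M9 F)
      rw [coe_gw, coe_gw, Nat.eq_of_beq_eq_true h, toMat_cmulR h2 hω, hs, toMat_cw]
    rw [e, QuotientGroup.mk_mul, hmk, mul_one]
  · have e : gw h2 hω u = gw h2 hω v * (s * s) := by
      apply Subtype.ext
      apply Units.ext
      show ((gw h2 hω u : GL F9 F) : M9 F) =
        ((gw h2 hω v : GL F9 F) : M9 F) * (((s : GL F9 F) : M9 F) * ((s : GL F9 F) : M9 F))
      rw [coe_gw, coe_gw, Nat.eq_of_beq_eq_true h, toMat_cmulR h2 hω, toMat_cmulR h2 hω, hs,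
        toMat_cw]
    rw [e, QuotientGroup.mk_mul, QuotientGroup.mk_mul, hmk, mul_one, mul_one]

end Words

end Cfsg.Agent.Lib.Helper26_J3M
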