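import Mathlib
import Cfsg.Agent.Lib.Helper26_J3MBase

/-!
# Elements of `J₃` used for its Schur multiplier (helper26)

`z` is the image of `g₂`; `x1, a, b, g, h` realise the `2^{1+4}_- : A₅` configuration of
`Helper26_J2MAbs.two_part` in the centralizer of `z`; `d1, d2` generate a Sylow 3-subgroup.
All relations are checked on helper90's codes, up to scalars.
-/

set_option autoImplicit false
set_option linter.unusedSimpArgs false

namespace Cfsg.Agent.Lib.Helper26_J3M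

open Cfsg.Spor Cfsg.Agent.Lib.Helper90_CodeTable Cfsg.Agent.Lib.Helper90_J3Core
  Cfsg.Agent.Lib.Helper90_J3Gens Cfsg.Agent.Lib.Helper90_J3Group
  Cfsg.Agent.Lib.Helper90_J3Order
  Cfsg.Agent.Lib.Helper90_J3Simple Cfsg.Agent.Lib.Helper90_J3Center
open scoped commutatorElement

def wz : List ℕ := [1]
def wx : List ℕ := [0, 1, 0, 1, 2, 1, 2, 1, 0, 1, 0, 1, 2, 1, 2]
def wa : List ℕ := [2, 1, 2, 2, 1, 2, 1, 2, 1, 2, 2, 2, 1, 0, 1, 0, 1, 0, 0, 1, 0, 0, 0]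
def wb : List ℕ := [2, 2, 1, 0, 0, 1, 2, 2, 1, 0, 0, 1, 2, 2]
def wg : List ℕ := [0, 0, 1, 2, 1, 0, 0, 1, 0, 1, 0, 1, 2, 1, 0, 0, 0, 1, 0, 1, 2, 1, 0, 0, 0]
def wh : List ℕ := [0, 1, 0, 1, 2, 1, 2]
def wux1 : List ℕ := [2, 2, 2, 1, 0, 1, 2, 2, 1, 2, 1, 0, 0, 1, 2, 1, 2, 1, 0, 0, 0]
def wux2 : List ℕ := [0, 0, 1, 2, 1, 0, 0, 1, 0, 1, 0, 1, 2, 1, 0, 0, 0, 1, 0, 1, 2, 1, 0, 0, 0]
def wua1 : List ℕ := [2, 1, 0, 0, 1, 0, 0, 1, 0, 0, 1, 0, 0, 1, 0, 0, 1, 2]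
def wua2 : List ℕ := [2, 1, 0, 0, 0, 1, 0, 1, 0, 0, 0, 0, 1, 0, 0, 0, 1, 2, 2, 1, 2, 1, 0, 0, 1, 2, 1, 0, 0]
def wub1 : List ℕ := [2, 2, 2, 1, 2, 2, 2, 1, 2, 1, 2, 1, 2, 2, 1, 0, 0, 1, 2, 1, 2, 1, 0, 0]
def wub2 : List ℕ := [2, 2, 1, 0, 0, 0, 1, 2, 1, 0, 1, 0, 1, 2, 1, 2, 1, 2, 1, 0, 1, 0, 0, 1, 0]
def wca : List ℕ := [0, 0, 1, 2, 1, 2, 2, 2, 1, 2, 1, 0, 1, 0, 0, 1, 0]
def wcb : List ℕ := [2, 1, 2, 1, 2, 1, 2, 1, 2, 2, 2, 2, 1, 0, 0, 0, 0]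
def wcab : List ℕ := [2, 2, 1, 2, 2, 2, 1, 0, 0, 1, 2, 1, 0, 1, 2, 1, 0, 0]
def wcza : List ℕ := [0, 1, 0, 0, 1, 0, 0, 0, 0, 1, 0, 1, 0, 0, 0]
def wd1 : List ℕ := [0]
def wd2 : List ℕ := [2, 1, 0, 0, 0, 1, 0, 0, 1, 2, 1, 2, 2, 1, 2, 1, 0, 0, 1, 0, 0, 0, 1, 2]

variable {F : Type*} [Field F] {ω : F} (h2 : (2 : F) = 0) (hω : ω ^ 2 + ω + 1 = 0)

noncomputable def jz : J3 F ω := jw h2 hω wz
noncomputable def jx : J3 F ω := jw h2 hω wx
noncomputable def ja : J3 F ω := jw h2 hω wa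
noncomputable def jb : J3 F ω := jw h2 hω wb
noncomputable def jg : J3 F ω := jw h2 hω wg
noncomputable def jh : J3 F ω := jw h2 hω wh
noncomputable def jx2 : J3 F ω := ja h2 hω * jx h2 hω * (ja h2 hω)⁻¹
noncomputable def jx3 : J3 F ω := jb h2 hω * jx h2 hω * (jb h2 hω)⁻¹
noncomputable def jx4 : J3 F ω := ja h2 hω * jb h2 hω * jx h2 hω * (ja h2 hω * jb h2 hω)⁻¹
noncomputable def jd1 : J3 F ω := jw h2 hω wd1
noncomputable def jd2 : J3 F ω := jw h2 hω wd2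
noncomputable def jux1 : J3 F ω := jw h2 hω wux1
noncomputable def jux2 : J3 F ω := jw h2 hω wux2
noncomputable def jua1 : J3 F ω := jw h2 hω wua1
noncomputable def jua2 : J3 F ω := jw h2 hω wua2
noncomputable def jub1 : J3 F ω := jw h2 hω wub1
noncomputable def jub2 : J3 F ω := jw h2 hω wub2
noncomputable def jca : J3 F ω := jw h2 hω wca
noncomputable def jcb : J3 F ω := jw h2 hω wcb
noncomputable def jcab : J3 F ω := jw h2 hω wcab
noncomputable def jcza : J3 F ω := jw h2 hω wcza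
noncomputable def j5 : J3 F ω := jw h2 hω w5
noncomputable def j17 : J3 F ω := jw h2 hω w17
noncomputable def j19 : J3 F ω := jw h2 hω w19

theorem r_z2 : (jz h2 hω) * (jz h2 hω) = 1 := by
  rw [← jw_nil h2 hω]
  simp only [jz, jx, ja, jb, jg, jh, jx2, jx3, jx4, jd1, jd2, jux1, jux2, jua1, jua2, jub1, jub2, jca, jcb, jcab, jcza, j5, j17, j19, commutatorElement_def, mul_inv_rev, inv_inv,
    ← jw_winv, ← jw_append, ← jw_wrep]
  exact jw_eq_of_chk h2 hω (by decide +kernel)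

theorem r_a2 : (ja h2 hω) * (ja h2 hω) = 1 := by
  rw [← jw_nil h2 hω]
  simp only [jz, jx, ja, jb, jg, jh, jx2, jx3, jx4, jd1, jd2, jux1, jux2, jua1, jua2, jub1, jub2, jca, jcb, jcab, jcza, j5, j17, j19, commutatorElement_def, mul_inv_rev, inv_inv,
    ← jw_winv, ← jw_append, ← jw_wrep]
  exact jw_eq_of_chk h2 hω (by decide +kernel)

theorem r_b2 : (jb h2 hω) * (jb h2 hω) = 1 := by
  rw [← jw_nil h2 hω]
  simp only [jz, jx, ja, jb, jg, jh, jx2, jx3, jx4, jd1, jd2, jux1, jux2, jua1, jua2, jub1, jub2, jca, jcb, jcab, jcza, j5, j17, j19, commutatorElement_def, mul_inv_rev, inv_inv,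
    ← jw_winv, ← jw_append, ← jw_wrep]
  exact jw_eq_of_chk h2 hω (by decide +kernel)

theorem r_ab : (ja h2 hω) * (jb h2 hω) = (jb h2 hω) * (ja h2 hω) := by
  simp only [jz, jx, ja, jb, jg, jh, jx2, jx3, jx4, jd1, jd2, jux1, jux2, jua1, jua2, jub1, jub2, jca, jcb, jcab, jcza, j5, j17, j19, commutatorElement_def, mul_inv_rev, inv_inv,
    ← jw_winv, ← jw_append, ← jw_wrep]
  exact jw_eq_of_chk h2 hω (by decide +kernel)

theorem r_zg : (jz h2 hω) * (jg h2 hω) = (jg h2 hω) * (jz h2 hω) := by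
  simp only [jz, jx, ja, jb, jg, jh, jx2, jx3, jx4, jd1, jd2, jux1, jux2, jua1, jua2, jub1, jub2, jca, jcb, jcab, jcza, j5, j17, j19, commutatorElement_def, mul_inv_rev, inv_inv,
    ← jw_winv, ← jw_append, ← jw_wrep]
  exact jw_eq_of_chk h2 hω (by decide +kernel)

theorem r_12 : ⁅(jx h2 hω), (jx2 h2 hω)⁆ = (jz h2 hω) := by
  simp only [jz, jx, ja, jb, jg, jh, jx2, jx3, jx4, jd1, jd2, jux1, jux2, jua1, jua2, jub1, jub2, jca, jcb, jcab, jcza, j5, j17, j19, commutatorElement_def, mul_inv_rev, inv_inv,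
    ← jw_winv, ← jw_append, ← jw_wrep]
  exact jw_eq_of_chk h2 hω (by decide +kernel)

theorem r_13 : ⁅(jx h2 hω), (jx3 h2 hω)⁆ = (jz h2 hω) := by
  simp only [jz, jx, ja, jb, jg, jh, jx2, jx3, jx4, jd1, jd2, jux1, jux2, jua1, jua2, jub1, jub2, jca, jcb, jcab, jcza, j5, j17, j19, commutatorElement_def, mul_inv_rev, inv_inv,
    ← jw_winv, ← jw_append, ← jw_wrep]
  exact jw_eq_of_chk h2 hω (by decide +kernel)

theorem r_14 : ⁅(jx h2 hω), (jx4 h2 hω)⁆ = (jz h2 hω) := by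
  simp only [jz, jx, ja, jb, jg, jh, jx2, jx3, jx4, jd1, jd2, jux1, jux2, jua1, jua2, jub1, jub2, jca, jcb, jcab, jcza, j5, j17, j19, commutatorElement_def, mul_inv_rev, inv_inv,
    ← jw_winv, ← jw_append, ← jw_wrep]
  exact jw_eq_of_chk h2 hω (by decide +kernel)

theorem r_23 : ⁅(jx2 h2 hω), (jx3 h2 hω)⁆ = (jz h2 hω) := by
  simp only [jz, jx, ja, jb, jg, jh, jx2, jx3, jx4, jd1, jd2, jux1, jux2, jua1, jua2, jub1, jub2, jca, jcb, jcab, jcza, j5, j17, j19, commutatorElement_def, mul_inv_rev, inv_inv,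
    ← jw_winv, ← jw_append, ← jw_wrep]
  exact jw_eq_of_chk h2 hω (by decide +kernel)

theorem r_24 : ⁅(jx2 h2 hω), (jx4 h2 hω)⁆ = (jz h2 hω) := by
  simp only [jz, jx, ja, jb, jg, jh, jx2, jx3, jx4, jd1, jd2, jux1, jux2, jua1, jua2, jub1, jub2, jca, jcb, jcab, jcza, j5, j17, j19, commutatorElement_def, mul_inv_rev, inv_inv,
    ← jw_winv, ← jw_append, ← jw_wrep]
  exact jw_eq_of_chk h2 hω (by decide +kernel)

theorem r_34 : ⁅(jx3 h2 hω), (jx4 h2 hω)⁆ = (jz h2 hω) := by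
  simp only [jz, jx, ja, jb, jg, jh, jx2, jx3, jx4, jd1, jd2, jux1, jux2, jua1, jua2, jub1, jub2, jca, jcb, jcab, jcza, j5, j17, j19, commutatorElement_def, mul_inv_rev, inv_inv,
    ← jw_winv, ← jw_append, ← jw_wrep]
  exact jw_eq_of_chk h2 hω (by decide +kernel)

theorem r_g1 : (jg h2 hω) * (jx h2 hω) * (jg h2 hω)⁻¹ = (jz h2 hω) * (jx3 h2 hω) := by
  simp only [jz, jx, ja, jb, jg, jh, jx2, jx3, jx4, jd1, jd2, jux1, jux2, jua1, jua2, jub1, jub2, jca, jcb, jcab, jcza, j5, j17, j19, commutatorElement_def, mul_inv_rev, inv_inv,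
    ← jw_winv, ← jw_append, ← jw_wrep]
  exact jw_eq_of_chk h2 hω (by decide +kernel)

theorem r_g2 : (jg h2 hω) * (jx2 h2 hω) * (jg h2 hω)⁻¹ = (jz h2 hω) * (jx4 h2 hω) := by
  simp only [jz, jx, ja, jb, jg, jh, jx2, jx3, jx4, jd1, jd2, jux1, jux2, jua1, jua2, jub1, jub2, jca, jcb, jcab, jcza, j5, j17, j19, commutatorElement_def, mul_inv_rev, inv_inv,
    ← jw_winv, ← jw_append, ← jw_wrep]
  exact jw_eq_of_chk h2 hω (by decide +kernel)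

theorem r_g3 : (jg h2 hω) * (jx3 h2 hω) * (jg h2 hω)⁻¹ = (jx2 h2 hω) := by
  simp only [jz, jx, ja, jb, jg, jh, jx2, jx3, jx4, jd1, jd2, jux1, jux2, jua1, jua2, jub1, jub2, jca, jcb, jcab, jcza, j5, j17, j19, commutatorElement_def, mul_inv_rev, inv_inv,
    ← jw_winv, ← jw_append, ← jw_wrep]
  exact jw_eq_of_chk h2 hω (by decide +kernel)

theorem r_g4 : (jg h2 hω) * (jx4 h2 hω) * (jg h2 hω)⁻¹ = (jz h2 hω) * ((jx h2 hω) * (jx2 h2 hω) * (jx3 h2 hω) * (jx4 h2 hω)) := by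
  simp only [jz, jx, ja, jb, jg, jh, jx2, jx3, jx4, jd1, jd2, jux1, jux2, jua1, jua2, jub1, jub2, jca, jcb, jcab, jcza, j5, j17, j19, commutatorElement_def, mul_inv_rev, inv_inv,
    ← jw_winv, ← jw_append, ← jw_wrep]
  exact jw_eq_of_chk h2 hω (by decide +kernel)

theorem r_h : (jh h2 hω) * (jz h2 hω) * (jh h2 hω)⁻¹ = (jx h2 hω) := by
  simp only [jz, jx, ja, jb, jg, jh, jx2, jx3, jx4, jd1, jd2, jux1, jux2, jua1, jua2, jub1, jub2, jca, jcb, jcab, jcza, j5, j17, j19, commutatorElement_def, mul_inv_rev, inv_inv,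
    ← jw_winv, ← jw_append, ← jw_wrep]
  exact jw_eq_of_chk h2 hω (by decide +kernel)

theorem r_ux : (jx h2 hω) = (jux1 h2 hω) * (jux2 h2 hω) := by
  simp only [jz, jx, ja, jb, jg, jh, jx2, jx3, jx4, jd1, jd2, jux1, jux2, jua1, jua2, jub1, jub2, jca, jcb, jcab, jcza, j5, j17, j19, commutatorElement_def, mul_inv_rev, inv_inv,
    ← jw_winv, ← jw_append, ← jw_wrep]
  exact jw_eq_of_chk h2 hω (by decide +kernel)

theorem r_ua : (ja h2 hω) = (jua1 h2 hω) * (jua2 h2 hω) := by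
  simp only [jz, jx, ja, jb, jg, jh, jx2, jx3, jx4, jd1, jd2, jux1, jux2, jua1, jua2, jub1, jub2, jca, jcb, jcab, jcza, j5, j17, j19, commutatorElement_def, mul_inv_rev, inv_inv,
    ← jw_winv, ← jw_append, ← jw_wrep]
  exact jw_eq_of_chk h2 hω (by decide +kernel)

theorem r_ub : (jb h2 hω) = (jub1 h2 hω) * (jub2 h2 hω) := by
  simp only [jz, jx, ja, jb, jg, jh, jx2, jx3, jx4, jd1, jd2, jux1, jux2, jua1, jua2, jub1, jub2, jca, jcb, jcab, jcza, j5, j17, j19, commutatorElement_def, mul_inv_rev, inv_inv,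
    ← jw_winv, ← jw_append, ← jw_wrep]
  exact jw_eq_of_chk h2 hω (by decide +kernel)

theorem c_ux1 : (jux1 h2 hω) * (jz h2 hω) = (jz h2 hω) * (jux1 h2 hω) := by
  simp only [jz, jx, ja, jb, jg, jh, jx2, jx3, jx4, jd1, jd2, jux1, jux2, jua1, jua2, jub1, jub2, jca, jcb, jcab, jcza, j5, j17, j19, commutatorElement_def, mul_inv_rev, inv_inv,
    ← jw_winv, ← jw_append, ← jw_wrep]
  exact jw_eq_of_chk h2 hω (by decide +kernel)

theorem p_ux1 : (jux1 h2 hω) ^ 15 = 1 := by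
  rw [← jw_nil h2 hω]
  simp only [jz, jx, ja, jb, jg, jh, jx2, jx3, jx4, jd1, jd2, jux1, jux2, jua1, jua2, jub1, jub2, jca, jcb, jcab, jcza, j5, j17, j19, commutatorElement_def, mul_inv_rev, inv_inv,
    ← jw_winv, ← jw_append, ← jw_wrep]
  exact jw_eq_of_chk h2 hω (by decide +kernel)

theorem c_ux2 : (jux2 h2 hω) * (jz h2 hω) = (jz h2 hω) * (jux2 h2 hω) := by
  simp only [jz, jx, ja, jb, jg, jh, jx2, jx3, jx4, jd1, jd2, jux1, jux2, jua1, jua2, jub1, jub2, jca, jcb, jcab, jcza, j5, j17, j19, commutatorElement_def, mul_inv_rev, inv_inv,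
    ← jw_winv, ← jw_append, ← jw_wrep]
  exact jw_eq_of_chk h2 hω (by decide +kernel)

theorem p_ux2 : (jux2 h2 hω) ^ 15 = 1 := by
  rw [← jw_nil h2 hω]
  simp only [jz, jx, ja, jb, jg, jh, jx2, jx3, jx4, jd1, jd2, jux1, jux2, jua1, jua2, jub1, jub2, jca, jcb, jcab, jcza, j5, j17, j19, commutatorElement_def, mul_inv_rev, inv_inv,
    ← jw_winv, ← jw_append, ← jw_wrep]
  exact jw_eq_of_chk h2 hω (by decide +kernel)

theorem c_ua1 : (jua1 h2 hω) * (jz h2 hω) = (jz h2 hω) * (jua1 h2 hω) := by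
  simp only [jz, jx, ja, jb, jg, jh, jx2, jx3, jx4, jd1, jd2, jux1, jux2, jua1, jua2, jub1, jub2, jca, jcb, jcab, jcza, j5, j17, j19, commutatorElement_def, mul_inv_rev, inv_inv,
    ← jw_winv, ← jw_append, ← jw_wrep]
  exact jw_eq_of_chk h2 hω (by decide +kernel)

theorem p_ua1 : (jua1 h2 hω) ^ 15 = 1 := by
  rw [← jw_nil h2 hω]
  simp only [jz, jx, ja, jb, jg, jh, jx2, jx3, jx4, jd1, jd2, jux1, jux2, jua1, jua2, jub1, jub2, jca, jcb, jcab, jcza, j5, j17, j19, commutatorElement_def, mul_inv_rev, inv_inv,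
    ← jw_winv, ← jw_append, ← jw_wrep]
  exact jw_eq_of_chk h2 hω (by decide +kernel)

theorem c_ua2 : (jua2 h2 hω) * (jz h2 hω) = (jz h2 hω) * (jua2 h2 hω) := by
  simp only [jz, jx, ja, jb, jg, jh, jx2, jx3, jx4, jd1, jd2, jux1, jux2, jua1, jua2, jub1, jub2, jca, jcb, jcab, jcza, j5, j17, j19, commutatorElement_def, mul_inv_rev, inv_inv,
    ← jw_winv, ← jw_append, ← jw_wrep]
  exact jw_eq_of_chk h2 hω (by decide +kernel)

theorem p_ua2 : (jua2 h2 hω) ^ 15 = 1 := by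
  rw [← jw_nil h2 hω]
  simp only [jz, jx, ja, jb, jg, jh, jx2, jx3, jx4, jd1, jd2, jux1, jux2, jua1, jua2, jub1, jub2, jca, jcb, jcab, jcza, j5, j17, j19, commutatorElement_def, mul_inv_rev, inv_inv,
    ← jw_winv, ← jw_append, ← jw_wrep]
  exact jw_eq_of_chk h2 hω (by decide +kernel)

theorem c_ub1 : (jub1 h2 hω) * (jz h2 hω) = (jz h2 hω) * (jub1 h2 hω) := by
  simp only [jz, jx, ja, jb, jg, jh, jx2, jx3, jx4, jd1, jd2, jux1, jux2, jua1, jua2, jub1, jub2, jca, jcb, jcab, jcza, j5, j17, j19, commutatorElement_def, mul_inv_rev, inv_inv,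
    ← jw_winv, ← jw_append, ← jw_wrep]
  exact jw_eq_of_chk h2 hω (by decide +kernel)

theorem p_ub1 : (jub1 h2 hω) ^ 15 = 1 := by
  rw [← jw_nil h2 hω]
  simp only [jz, jx, ja, jb, jg, jh, jx2, jx3, jx4, jd1, jd2, jux1, jux2, jua1, jua2, jub1, jub2, jca, jcb, jcab, jcza, j5, j17, j19, commutatorElement_def, mul_inv_rev, inv_inv,
    ← jw_winv, ← jw_append, ← jw_wrep]
  exact jw_eq_of_chk h2 hω (by decide +kernel)

theorem c_ub2 : (jub2 h2 hω) * (jz h2 hω) = (jz h2 hω) * (jub2 h2 hω) := by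
  simp only [jz, jx, ja, jb, jg, jh, jx2, jx3, jx4, jd1, jd2, jux1, jux2, jua1, jua2, jub1, jub2, jca, jcb, jcab, jcza, j5, j17, j19, commutatorElement_def, mul_inv_rev, inv_inv,
    ← jw_winv, ← jw_append, ← jw_wrep]
  exact jw_eq_of_chk h2 hω (by decide +kernel)

theorem p_ub2 : (jub2 h2 hω) ^ 15 = 1 := by
  rw [← jw_nil h2 hω]
  simp only [jz, jx, ja, jb, jg, jh, jx2, jx3, jx4, jd1, jd2, jux1, jux2, jua1, jua2, jub1, jub2, jca, jcb, jcab, jcza, j5, j17, j19, commutatorElement_def, mul_inv_rev, inv_inv,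
    ← jw_winv, ← jw_append, ← jw_wrep]
  exact jw_eq_of_chk h2 hω (by decide +kernel)

theorem p_g : (jg h2 hω) ^ 15 = 1 := by
  rw [← jw_nil h2 hω]
  simp only [jz, jx, ja, jb, jg, jh, jx2, jx3, jx4, jd1, jd2, jux1, jux2, jua1, jua2, jub1, jub2, jca, jcb, jcab, jcza, j5, j17, j19, commutatorElement_def, mul_inv_rev, inv_inv,
    ← jw_winv, ← jw_append, ← jw_wrep]
  exact jw_eq_of_chk h2 hω (by decide +kernel)

theorem r_ca : (jca h2 hω) * (jz h2 hω) * (jca h2 hω)⁻¹ = (ja h2 hω) := by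
  simp only [jz, jx, ja, jb, jg, jh, jx2, jx3, jx4, jd1, jd2, jux1, jux2, jua1, jua2, jub1, jub2, jca, jcb, jcab, jcza, j5, j17, j19, commutatorElement_def, mul_inv_rev, inv_inv,
    ← jw_winv, ← jw_append, ← jw_wrep]
  exact jw_eq_of_chk h2 hω (by decide +kernel)

theorem r_cb : (jcb h2 hω) * (jz h2 hω) * (jcb h2 hω)⁻¹ = (jb h2 hω) := by
  simp only [jz, jx, ja, jb, jg, jh, jx2, jx3, jx4, jd1, jd2, jux1, jux2, jua1, jua2, jub1, jub2, jca, jcb, jcab, jcza, j5, j17, j19, commutatorElement_def, mul_inv_rev, inv_inv,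
    ← jw_winv, ← jw_append, ← jw_wrep]
  exact jw_eq_of_chk h2 hω (by decide +kernel)

theorem r_cab : (jcab h2 hω) * (jz h2 hω) * (jcab h2 hω)⁻¹ = (ja h2 hω) * (jb h2 hω) := by
  simp only [jz, jx, ja, jb, jg, jh, jx2, jx3, jx4, jd1, jd2, jux1, jux2, jua1, jua2, jub1, jub2, jca, jcb, jcab, jcza, j5, j17, j19, commutatorElement_def, mul_inv_rev, inv_inv,
    ← jw_winv, ← jw_append, ← jw_wrep]
  exact jw_eq_of_chk h2 hω (by decide +kernel)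

theorem r_cza : (jcza h2 hω) * (jz h2 hω) * (jcza h2 hω)⁻¹ = (jz h2 hω) * (ja h2 hω) := by
  simp only [jz, jx, ja, jb, jg, jh, jx2, jx3, jx4, jd1, jd2, jux1, jux2, jua1, jua2, jub1, jub2, jca, jcb, jcab, jcza, j5, j17, j19, commutatorElement_def, mul_inv_rev, inv_inv,
    ← jw_winv, ← jw_append, ← jw_wrep]
  exact jw_eq_of_chk h2 hω (by decide +kernel)

theorem t_z1d1 : ⁅⁅(jd1 h2 hω), (jd2 h2 hω)⁆, (jd1 h2 hω)⁆ * (jd1 h2 hω) = (jd1 h2 hω) * ⁅⁅(jd1 h2 hω), (jd2 h2 hω)⁆, (jd1 h2 hω)⁆ := by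
  simp only [jz, jx, ja, jb, jg, jh, jx2, jx3, jx4, jd1, jd2, jux1, jux2, jua1, jua2, jub1, jub2, jca, jcb, jcab, jcza, j5, j17, j19, commutatorElement_def, mul_inv_rev, inv_inv,
    ← jw_winv, ← jw_append, ← jw_wrep]
  exact jw_eq_of_chk h2 hω (by decide +kernel)

theorem t_z1d2 : ⁅⁅(jd1 h2 hω), (jd2 h2 hω)⁆, (jd1 h2 hω)⁆ * (jd2 h2 hω) = (jd2 h2 hω) * ⁅⁅(jd1 h2 hω), (jd2 h2 hω)⁆, (jd1 h2 hω)⁆ := by
  simp only [jz, jx, ja, jb, jg, jh, jx2, jx3, jx4, jd1, jd2, jux1, jux2, jua1, jua2, jub1, jub2, jca, jcb, jcab, jcza, j5, j17, j19, commutatorElement_def, mul_inv_rev, inv_inv,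
    ← jw_winv, ← jw_append, ← jw_wrep]
  exact jw_eq_of_chk h2 hω (by decide +kernel)

theorem t_z2d1 : ⁅⁅(jd1 h2 hω), (jd2 h2 hω)⁆, (jd2 h2 hω)⁆ * (jd1 h2 hω) = (jd1 h2 hω) * ⁅⁅(jd1 h2 hω), (jd2 h2 hω)⁆, (jd2 h2 hω)⁆ := by
  simp only [jz, jx, ja, jb, jg, jh, jx2, jx3, jx4, jd1, jd2, jux1, jux2, jua1, jua2, jub1, jub2, jca, jcb, jcab, jcza, j5, j17, j19, commutatorElement_def, mul_inv_rev, inv_inv,
    ← jw_winv, ← jw_append, ← jw_wrep]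
  exact jw_eq_of_chk h2 hω (by decide +kernel)

theorem t_z2d2 : ⁅⁅(jd1 h2 hω), (jd2 h2 hω)⁆, (jd2 h2 hω)⁆ * (jd2 h2 hω) = (jd2 h2 hω) * ⁅⁅(jd1 h2 hω), (jd2 h2 hω)⁆, (jd2 h2 hω)⁆ := by
  simp only [jz, jx, ja, jb, jg, jh, jx2, jx3, jx4, jd1, jd2, jux1, jux2, jua1, jua2, jub1, jub2, jca, jcb, jcab, jcza, j5, j17, j19, commutatorElement_def, mul_inv_rev, inv_inv,
    ← jw_winv, ← jw_append, ← jw_wrep]
  exact jw_eq_of_chk h2 hω (by decide +kernel)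

theorem t_e3 : ⁅(jd1 h2 hω), (jd2 h2 hω)⁆ ^ 3 = 1 := by
  rw [← jw_nil h2 hω]
  simp only [jz, jx, ja, jb, jg, jh, jx2, jx3, jx4, jd1, jd2, jux1, jux2, jua1, jua2, jub1, jub2, jca, jcb, jcab, jcza, j5, j17, j19, commutatorElement_def, mul_inv_rev, inv_inv,
    ← jw_winv, ← jw_append, ← jw_wrep]
  exact jw_eq_of_chk h2 hω (by decide +kernel)

theorem t_d1 : (jd1 h2 hω) ^ 3 = ⁅⁅(jd1 h2 hω), (jd2 h2 hω)⁆, (jd2 h2 hω)⁆ := by
  simp only [jz, jx, ja, jb, jg, jh, jx2, jx3, jx4, jd1, jd2, jux1, jux2, jua1, jua2, jub1, jub2, jca, jcb, jcab, jcza, j5, j17, j19, commutatorElement_def, mul_inv_rev, inv_inv,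
    ← jw_winv, ← jw_append, ← jw_wrep]
  exact jw_eq_of_chk h2 hω (by decide +kernel)

theorem t_d2 : (jd2 h2 hω) ^ 3 = ⁅⁅(jd1 h2 hω), (jd2 h2 hω)⁆, (jd1 h2 hω)⁆ ^ 2 := by
  simp only [jz, jx, ja, jb, jg, jh, jx2, jx3, jx4, jd1, jd2, jux1, jux2, jua1, jua2, jub1, jub2, jca, jcb, jcab, jcza, j5, j17, j19, commutatorElement_def, mul_inv_rev, inv_inv,
    ← jw_winv, ← jw_append, ← jw_wrep]
  exact jw_eq_of_chk h2 hω (by decide +kernel)

theorem p_5 : (j5 h2 hω) ^ 5 = 1 := by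
  rw [← jw_nil h2 hω]
  simp only [jz, jx, ja, jb, jg, jh, jx2, jx3, jx4, jd1, jd2, jux1, jux2, jua1, jua2, jub1, jub2, jca, jcb, jcab, jcza, j5, j17, j19, commutatorElement_def, mul_inv_rev, inv_inv,
    ← jw_winv, ← jw_append, ← jw_wrep]
  exact jw_eq_of_chk h2 hω (by decide +kernel)

theorem p_17 : (j17 h2 hω) ^ 17 = 1 := by
  rw [← jw_nil h2 hω]
  simp only [jz, jx, ja, jb, jg, jh, jx2, jx3, jx4, jd1, jd2, jux1, jux2, jua1, jua2, jub1, jub2, jca, jcb, jcab, jcza, j5, j17, j19, commutatorElement_def, mul_inv_rev, inv_inv,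
    ← jw_winv, ← jw_append, ← jw_wrep]
  exact jw_eq_of_chk h2 hω (by decide +kernel)

theorem p_19 : (j19 h2 hω) ^ 19 = 1 := by
  rw [← jw_nil h2 hω]
  simp only [jz, jx, ja, jb, jg, jh, jx2, jx3, jx4, jd1, jd2, jux1, jux2, jua1, jua2, jub1, jub2, jca, jcb, jcab, jcza, j5, j17, j19, commutatorElement_def, mul_inv_rev, inv_inv,
    ← jw_winv, ← jw_append, ← jw_wrep]
  exact jw_eq_of_chk h2 hω (by decide +kernel)

end Cfsg.Agent.Lib.Helper26_J3M
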