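import Mathlib
import Cfsg.Agent.Lib.Helper26_J3MData
import Cfsg.Agent.Lib.Helper26_J3MTab

/-!
# Subgroups of `J₃` needed for its Schur multiplier (helper26)

The subgroups of `3·J₃` with certified tables are pushed to `J₃ = 3·J₃ / Z`: a subgroup of odd index
containing `⟨b, a, x4, x3, x2, x1, z⟩`-generators, `Q` of order at least 32, and the Sylow
3-subgroup `⟨d1, d2⟩`.
-/

set_option autoImplicit false
set_option linter.unusedSimpArgs false

namespace Cfsg.Agent.Lib.Helper26_J3M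

open Cfsg.Spor Cfsg.Agent.Lib.Helper90_CodeTable Cfsg.Agent.Lib.Helper90_J3Core
  Cfsg.Agent.Lib.Helper90_J3Gens Cfsg.Agent.Lib.Helper90_J3Group
  Cfsg.Agent.Lib.Helper90_J3Order
  Cfsg.Agent.Lib.Helper90_J3Simple Cfsg.Agent.Lib.Helper90_J3Center
  Cfsg.Agent.Lib.Helper26_J3MTab
open scoped commutatorElement

section General

variable {H : Type*} [Group H]

theorem card_eq_inf_mul_map (Z : Subgroup H) [Z.Normal] (S : Subgroup H) :
    Nat.card ↥S = Nat.card ↥(Z ⊓ S) * Nat.card ↥(S.map (QuotientGroup.mk' Z)) := by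
  have h1 := Subgroup.relIndex_mul_relIndex ⊥ (Z ⊓ S) S bot_le inf_le_right
  rw [Subgroup.relIndex_bot_left, Subgroup.relIndex_bot_left, Subgroup.inf_relIndex_right] at h1
  have h2 : Z.relIndex S = Nat.card ↥(S.map (QuotientGroup.mk' Z)) := by
    have := Subgroup.relIndex_ker S (QuotientGroup.mk' Z)
    rwa [QuotientGroup.ker_mk'] at this
  rw [← h1, h2]

end General

variable {F : Type*} [Field F] {ω : F}

section Push

variable [Fintype F] (hF : Fintype.card F = 4) (hω : ω ^ 2 + ω + 1 = 0)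

/-- Pushing a certified subgroup of `3·J₃` to `J₃`. -/
theorem push (ws : ℕ → List ℕ) (ng n : ℕ)
    (hcard : Nat.card ↥(Subgroup.closure (wordSet (two_eq_zero hF) hω ws ng)) = n)
    (A : Set (J3 F ω)) (hA : ∀ l < ng, jw (two_eq_zero hF) hω (ws l) ∈ A) :
    (Subgroup.closure A).index * n ∣ 150698880 ∧
      n ≤ 3 * Nat.card ↥(Subgroup.closure A) ∧
      (Nat.Coprime n 3 → n ≤ Nat.card ↥(Subgroup.closure A)) := by
  have h2 := two_eq_zero hF
  have : Finite (threeJ3 F ω) := Finite.of_injective (fun x => (x : GL F9 F)) Subtype.val_injective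
  set gs : Set (threeJ3 F ω) := {g | ∃ l < ng, g = gw h2 hω (ws l)} with hgs
  set B : Subgroup (threeJ3 F ω) := Subgroup.closure gs with hB
  set Z : Subgroup (threeJ3 F ω) := Subgroup.center (threeJ3 F ω) with hZ
  have hcB : Nat.card ↥B = n := by
    rw [← hcard]
    have e : B.map (threeJ3 F ω).subtype = Subgroup.closure (wordSet h2 hω ws ng) := by
      rw [hB, MonoidHom.map_closure]
      congr 1
      ext g
      constructor
      · rintro ⟨x, ⟨l, hl, rfl⟩, rfl⟩
        exact ⟨l, hl, rfl⟩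
      · rintro ⟨l, hl, rfl⟩
        exact ⟨gw h2 hω (ws l), ⟨l, hl, rfl⟩, rfl⟩
    rw [← e]
    exact (Subgroup.card_map_of_injective (Subgroup.subtype_injective _)).symm
  have hmap : B.map (QuotientGroup.mk' Z) ≤ Subgroup.closure A := by
    rw [hB, MonoidHom.map_closure]
    apply Subgroup.closure_mono
    rintro _ ⟨x, ⟨l, hl, rfl⟩, rfl⟩
    exact hA l hl
  have hsurj : Function.Surjective (QuotientGroup.mk' Z) := QuotientGroup.mk'_surjective Z
  have hidx1 : (Subgroup.closure A).index ∣ (B.map (QuotientGroup.mk' Z)).index :=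
    Subgroup.index_dvd_of_le hmap
  have hidx2 : (B.map (QuotientGroup.mk' Z)).index ∣ B.index := Subgroup.index_map_dvd B hsurj
  have hidx3 : B.index * n = 150698880 := by
    rw [← hcB, mul_comm, Subgroup.card_mul_index, card_threeJ3 h2 hω]
  have hsplit := card_eq_inf_mul_map Z B
  rw [hcB] at hsplit
  have hle : Nat.card ↥(B.map (QuotientGroup.mk' Z)) ≤ Nat.card ↥(Subgroup.closure A) :=
    Subgroup.card_le_of_le hmap
  have hZ3 : Nat.card ↥Z = 3 := card_center hF hω
  have hinf : Nat.card ↥(Z ⊓ B) ∣ 3 := by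
    have h := Subgroup.card_dvd_of_le (inf_le_left : Z ⊓ B ≤ Z)
    rwa [hZ3] at h
  refine ⟨?_, ?_, ?_⟩
  · rw [← hidx3]
    exact Nat.mul_dvd_mul_right (hidx1.trans hidx2) n
  · have h3 : Nat.card ↥(Z ⊓ B) ≤ 3 := Nat.le_of_dvd (by norm_num) hinf
    calc n = Nat.card ↥(Z ⊓ B) * Nat.card ↥(B.map (QuotientGroup.mk' Z)) := hsplit
      _ ≤ 3 * Nat.card ↥(Subgroup.closure A) := Nat.mul_le_mul h3 hle
  · intro hcop
    have hd : Nat.card ↥(Z ⊓ B) ∣ n := by
      rw [← hcB]
      exact Subgroup.card_dvd_of_le inf_le_right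
    have h1 : Nat.card ↥(Z ⊓ B) = 1 := Nat.eq_one_of_dvd_coprimes hcop hd hinf
    rw [h1, one_mul] at hsplit
    rw [hsplit]
    exact hle

end Push

section Spec

variable [Fintype F] (hF : Fintype.card F = 4) (hω : ω ^ 2 + ω + 1 = 0)

theorem TS_gen' : ∀ l < 7, evalW (wsS l) = genS l := fun l hl => TS_gen ⟨l, hl⟩
theorem TQ_gen' : ∀ l < 5, evalW (wsQ l) = genQ l := fun l hl => TQ_gen ⟨l, hl⟩
theorem TP_gen' : ∀ l < 2, evalW (wsP l) = genP l := fun l hl => TP_gen ⟨l, hl⟩

theorem card_S :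
    Nat.card ↥(Subgroup.closure (wordSet (two_eq_zero hF) hω wsS 7)) = 384 :=
  card_closure_table (two_eq_zero hF) hω TS_gen' (by norm_num) TS_zero TS_closed_all TS_tree_all
    TS_dist

theorem card_Q :
    Nat.card ↥(Subgroup.closure (wordSet (two_eq_zero hF) hω wsQ 5)) = 32 :=
  card_closure_table (two_eq_zero hF) hω TQ_gen' (by norm_num) TQ_zero TQ_closed_all TQ_tree_all
    TQ_dist

theorem card_P :
    Nat.card ↥(Subgroup.closure (wordSet (two_eq_zero hF) hω wsP 2)) = 729 :=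
  card_closure_table (two_eq_zero hF) hω TP_gen' (by norm_num) TP_zero TP_closed_all TP_tree_all
    TP_dist

variable (h2 : (2 : F) = 0)

omit [Fintype F] in
theorem e_x2 : jw h2 hω (wsS 4) = jx2 h2 hω := by
  simp only [jx2, jx3, jx4, ja, jb, jx, mul_inv_rev, inv_inv, ← jw_winv, ← jw_append]
  exact jw_eq_of_chk h2 hω (by decide +kernel)

omit [Fintype F] in
theorem e_x3 : jw h2 hω (wsS 3) = jx3 h2 hω := by
  simp only [jx2, jx3, jx4, ja, jb, jx, mul_inv_rev, inv_inv, ← jw_winv, ← jw_append]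
  exact jw_eq_of_chk h2 hω (by decide +kernel)

omit [Fintype F] in
theorem e_x4 : jw h2 hω (wsS 2) = jx4 h2 hω := by
  simp only [jx2, jx3, jx4, ja, jb, jx, mul_inv_rev, inv_inv, ← jw_winv, ← jw_append]
  exact jw_eq_of_chk h2 hω (by decide +kernel)

include hF in
theorem odd_index_S :
    Odd (Subgroup.closure ({jb (two_eq_zero hF) hω, ja (two_eq_zero hF) hω,
      jx4 (two_eq_zero hF) hω, jx3 (two_eq_zero hF) hω, jx2 (two_eq_zero hF) hω,
      jx (two_eq_zero hF) hω, jz (two_eq_zero hF) hω} : Set (J3 F ω))).index := by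
  have h2 := two_eq_zero hF
  obtain ⟨h, -, -⟩ := push hF hω wsS 7 384 (card_S hF hω)
    ({jb h2 hω, ja h2 hω, jx4 h2 hω, jx3 h2 hω, jx2 h2 hω, jx h2 hω, jz h2 hω} : Set (J3 F ω))
    (by
      intro l hl
      interval_cases l
      · exact Or.inl rfl
      · exact Or.inr (Or.inl rfl)
      · exact Or.inr (Or.inr (Or.inl (e_x4 hω h2)))
      · exact Or.inr (Or.inr (Or.inr (Or.inl (e_x3 hω h2))))
      · exact Or.inr (Or.inr (Or.inr (Or.inr (Or.inl (e_x2 hω h2)))))
      · exact Or.inr (Or.inr (Or.inr (Or.inr (Or.inr (Or.inl rfl)))))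
      · exact Or.inr (Or.inr (Or.inr (Or.inr (Or.inr (Or.inr rfl))))))
  have hd : (Subgroup.closure ({jb h2 hω, ja h2 hω, jx4 h2 hω, jx3 h2 hω, jx2 h2 hω, jx h2 hω,
      jz h2 hω} : Set (J3 F ω))).index ∣ 392445 := by
    have e : (150698880 : ℕ) = 392445 * 384 := by norm_num
    rw [e] at h
    exact Nat.dvd_of_mul_dvd_mul_right (by norm_num) h
  exact Odd.of_dvd_nat (by decide) hd

include hF in
theorem card_Q_ge :
    32 ≤ Nat.card ↥(Subgroup.closure ({jx4 (two_eq_zero hF) hω, jx3 (two_eq_zero hF) hω,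
      jx2 (two_eq_zero hF) hω, jx (two_eq_zero hF) hω, jz (two_eq_zero hF) hω} :
        Set (J3 F ω))) := by
  have h2 := two_eq_zero hF
  obtain ⟨-, -, h⟩ := push hF hω wsQ 5 32 (card_Q hF hω)
    ({jx4 h2 hω, jx3 h2 hω, jx2 h2 hω, jx h2 hω, jz h2 hω} : Set (J3 F ω))
    (by
      intro l hl
      interval_cases l
      · exact Or.inl (e_x4 hω h2)
      · exact Or.inr (Or.inl (e_x3 hω h2))
      · exact Or.inr (Or.inr (Or.inl (e_x2 hω h2)))
      · exact Or.inr (Or.inr (Or.inr (Or.inl rfl)))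
      · exact Or.inr (Or.inr (Or.inr (Or.inr rfl))))
  exact h (by norm_num)

include hF in
theorem facts_P :
    ¬ 3 ∣ (Subgroup.closure ({jd1 (two_eq_zero hF) hω, jd2 (two_eq_zero hF) hω} :
      Set (J3 F ω))).index ∧
    243 ≤ Nat.card ↥(Subgroup.closure ({jd1 (two_eq_zero hF) hω, jd2 (two_eq_zero hF) hω} :
      Set (J3 F ω))) := by
  have h2 := two_eq_zero hF
  obtain ⟨h, h', -⟩ := push hF hω wsP 2 729 (card_P hF hω)
    ({jd1 h2 hω, jd2 h2 hω} : Set (J3 F ω))
    (by
      intro l hl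
      interval_cases l
      · exact Or.inl rfl
      · exact Or.inr rfl)
  refine ⟨?_, by omega⟩
  have hd : (Subgroup.closure ({jd1 h2 hω, jd2 h2 hω} : Set (J3 F ω))).index ∣ 206720 := by
    have e : (150698880 : ℕ) = 206720 * 729 := by norm_num
    rw [e] at h
    exact Nat.dvd_of_mul_dvd_mul_right (by norm_num) h
  intro h3
  have := h3.trans hd
  norm_num at this

end Spec

end Cfsg.Agent.Lib.Helper26_J3M
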