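import Mathlib

/-!
helper35: package G3 of helper26's S2041 market: a group of order at most `3` all of whose
elements have `3`-power order is generated by an element with cube `1`.
-/

set_option autoImplicit false

namespace Cfsg.Agent.Lib.Helper35_J3M_G3

theorem exists_gen_of_card_le_three {Γ : Type*} [Group Γ] (K : Subgroup Γ) [Finite ↥K]
    (hcard : Nat.card ↥K ≤ 3) (s : ℕ) (hK : ∀ k ∈ K, k ^ (3 ^ s) = 1) :
    ∃ w ∈ K, (∀ z ∈ K, z ∈ Subgroup.zpowers w) ∧ w ^ 3 = 1 := by
  by_cases htriv : ∀ k ∈ K, k = 1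
  · refine ⟨1, K.one_mem, fun z hz => ?_, one_pow 3⟩
    rw [htriv z hz]
    exact Subgroup.one_mem _
  · push Not at htriv
    obtain ⟨w, hwK, hw1⟩ := htriv
    set w' : K := ⟨w, hwK⟩ with hw'
    have hw'1 : w' ≠ 1 := fun e => hw1 (congrArg Subtype.val e)
    have ho1 : orderOf w' ≠ 1 := fun e => hw'1 (orderOf_eq_one_iff.mp e)
    have hoK : orderOf w' ∣ Nat.card K := orderOf_dvd_natCard w'
    have hpow : w' ^ (3 ^ s) = 1 := by
      apply Subtype.ext
      simpa using hK w hwK
    have ho3 : orderOf w' ∣ 3 ^ s := orderOf_dvd_of_pow_eq_one hpow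
    have hcpos : 0 < Nat.card K := Nat.card_pos
    have hole : orderOf w' ≤ 3 := (Nat.le_of_dvd hcpos hoK).trans hcard
    have hopos : 0 < orderOf w' := orderOf_pos w'
    have ho : orderOf w' = 3 := by
      have h2 : orderOf w' ≠ 2 := by
        intro e
        rw [e] at ho3
        have := Nat.Prime.dvd_of_dvd_pow Nat.prime_two ho3
        omega
      omega
    have hcard3 : Nat.card K = 3 := by
      have := Nat.le_of_dvd hcpos hoK
      omega
    have htop : Subgroup.zpowers w' = ⊤ := by
      apply Subgroup.eq_top_of_card_eq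
      rw [Nat.card_zpowers, ho, hcard3]
    refine ⟨w, hwK, fun z hz => ?_, ?_⟩
    · have hmem : (⟨z, hz⟩ : K) ∈ Subgroup.zpowers w' := by rw [htop]; exact Subgroup.mem_top _
      obtain ⟨k, hk⟩ := Subgroup.mem_zpowers_iff.mp hmem
      rw [Subgroup.mem_zpowers_iff]
      refine ⟨k, ?_⟩
      have := congrArg Subtype.val hk
      simpa using this
    · have h3 : w' ^ 3 = 1 := by rw [← ho]; exact pow_orderOf_eq_one w'
      have := congrArg Subtype.val h3
      simpa using this

end Cfsg.Agent.Lib.Helper35_J3M_G3
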