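import Mathlib
import Cfsg.Prelude.Def_KGroupFacts
import Cfsg.Agent.Lib.Helper8_StemThree

/-!
helper35: package O2 of helper26's S2041 market: if no stem extension of `G` has a non-trivial
kernel of exponent two then all kernel elements of stem extensions have odd order.
-/

set_option autoImplicit false

open Cfsg
open scoped commutatorElement

namespace Cfsg.Agent.Lib.Helper35_J3M_O2

theorem odd_order_of_exponent_two.{u} {Γ G : Type u} [Group Γ] [Group G] [Finite Γ] (σ : Γ →* G)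
    (hσ : IsStemExtension σ)
    (H : ∀ (Γ' : Type u) [Group Γ'] [Finite Γ'] (σ' : Γ' →* G), IsStemExtension σ' →
      (∀ a ∈ σ'.ker, a ^ 2 = 1) → σ'.ker = ⊥) :
    ∀ x ∈ σ.ker, Odd (orderOf x) := by
  intro x hx
  have hc0 : Nat.card σ.ker ≠ 0 := Nat.card_pos.ne'
  obtain ⟨j, m, hm, hc⟩ := Nat.exists_eq_two_pow_mul_odd hc0
  obtain ⟨a, ha, hxa⟩ :=
    Cfsg.Agent.Lib.Helper8_StemThree.exists_pow_of_exponent σ hσ 2 H j x hx
  have ha1 : a ^ Nat.card σ.ker = 1 := by
    have h1 : (⟨a, ha⟩ : σ.ker) ^ Nat.card σ.ker = 1 := pow_card_eq_one'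
    have := congrArg Subtype.val h1
    simpa using this
  have hxm : x ^ m = 1 := by
    rw [hxa, ← pow_mul, ← hc, ha1]
  have hdvd : orderOf x ∣ m := orderOf_dvd_of_pow_eq_one hxm
  exact Odd.of_dvd_nat hm hdvd

end Cfsg.Agent.Lib.Helper35_J3M_O2
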