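import Mathlib

/-!
# S2041 package F2 (helper49): fusion kills the 2-part

`lifts_commute_of_fused`: central extension `σ : Γ → G` with kernel of exponent 2; `z` an
involution of `G`; `a`, `b`, `a * b`, `z * a` all conjugate to `z`; some lift of `z` commutes with
some lift of `a`.  Then any lifts of `a` and `b` commute.
-/

set_option autoImplicit false

open scoped commutatorElement

namespace Cfsg.Agent.Lib.Helper49_J3M_F2

/-- the square of a lift of a conjugate of `z` equals the square of a fixed lift of `z` -/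
theorem sq_lift_eq {Γ G : Type*} [Group Γ] [Group G] (σ : Γ →* G)
    (hsurj : Function.Surjective σ) (hc : σ.ker ≤ Subgroup.center Γ)
    (hexp : ∀ k ∈ σ.ker, k * k = 1)
    (z : G) (hz : z * z = 1) (zt : Γ) (hzt : σ zt = z)
    (u : G) (hu : ∃ g : G, g * z * g⁻¹ = u) (ut : Γ) (hut : σ ut = u) :
    ut * ut = zt * zt := by
  obtain ⟨g, rfl⟩ := hu
  obtain ⟨gt, rfl⟩ := hsurj g
  have hs : zt * zt ∈ σ.ker := by
    rw [MonoidHom.mem_ker, map_mul, hzt, hz]
  have hsc := hc hs
  set w : Γ := gt * zt * gt⁻¹ with hw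
  have hk : w⁻¹ * ut ∈ σ.ker := by
    rw [MonoidHom.mem_ker, map_mul, map_inv, hut, hw, map_mul, map_mul, map_inv, hzt,
      inv_mul_cancel]
  have hkc := hc hk
  have hkk := hexp _ hk
  have hut' : ut = w * (w⁻¹ * ut) := by group
  have hww : w * w = zt * zt := by
    have : w * w = gt * (zt * zt) * gt⁻¹ := by rw [hw]; group
    rw [this, Subgroup.mem_center_iff.1 hsc gt, mul_inv_cancel_right]
  have hcomm : (w⁻¹ * ut) * w = w * (w⁻¹ * ut) := (Subgroup.mem_center_iff.1 hkc w).symm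
  calc ut * ut = w * (w⁻¹ * ut) * (w * (w⁻¹ * ut)) := by rw [← hut']
    _ = w * ((w⁻¹ * ut) * w) * (w⁻¹ * ut) := by simp only [mul_assoc]
    _ = w * (w * (w⁻¹ * ut)) * (w⁻¹ * ut) := by rw [hcomm]
    _ = (w * w) * ((w⁻¹ * ut) * (w⁻¹ * ut)) := by simp only [mul_assoc]
    _ = zt * zt := by rw [hkk, hww, mul_one]

theorem lifts_commute_of_fused {Γ G : Type*} [Group Γ] [Group G] (σ : Γ →* G)
    (hsurj : Function.Surjective σ) (hc : σ.ker ≤ Subgroup.center Γ)
    (hexp : ∀ k ∈ σ.ker, k * k = 1)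
    (z a b : G) (hz : z * z = 1)
    (hca : ∃ g : G, g * z * g⁻¹ = a) (hcb : ∃ g : G, g * z * g⁻¹ = b)
    (hcab : ∃ g : G, g * z * g⁻¹ = a * b) (hcza : ∃ g : G, g * z * g⁻¹ = z * a)
    (zt at' : Γ) (hzt : σ zt = z) (hat : σ at' = a) (hcomm : Commute zt at') :
    ∀ al bl : Γ, σ al = a → σ bl = b → ⁅al, bl⁆ = 1 := by
  have key := sq_lift_eq σ hsurj hc hexp z hz zt hzt
  have hs : zt * zt ∈ σ.ker := by
    rw [MonoidHom.mem_ker, map_mul, hzt, hz]
  have hss := hexp _ hs
  have h1 : at' * at' = zt * zt := key a hca at' hat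
  have h2 : (zt * at') * (zt * at') = zt * zt :=
    key (z * a) hcza (zt * at') (by rw [map_mul, hzt, hat])
  have h3 : (zt * at') * (zt * at') = (zt * zt) * (at' * at') := by
    calc (zt * at') * (zt * at') = zt * (at' * zt) * at' := by simp only [mul_assoc]
      _ = zt * (zt * at') * at' := by rw [hcomm.eq]
      _ = (zt * zt) * (at' * at') := by simp only [mul_assoc]
  have hs1 : zt * zt = 1 := by
    rw [← h2, h3, h1, hss]
  intro al bl hal hbl
  have ha2 : al * al = 1 := by rw [key a hca al hal, hs1]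
  have hb2 : bl * bl = 1 := by rw [key b hcb bl hbl, hs1]
  have hab2 : (al * bl) * (al * bl) = 1 := by
    rw [key (a * b) hcab (al * bl) (by rw [map_mul, hal, hbl]), hs1]
  have hai : al⁻¹ = al := inv_eq_of_mul_eq_one_left ha2
  have hbi : bl⁻¹ = bl := inv_eq_of_mul_eq_one_left hb2
  rw [commutatorElement_def, hai, hbi]
  calc al * bl * al * bl = (al * bl) * (al * bl) := by simp only [mul_assoc]
    _ = 1 := hab2

end Cfsg.Agent.Lib.Helper49_J3M_F2
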