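import Mathlib
import Cfsg.Prelude.Def_KGroupFacts

/-!
# S2041 (Schur multiplier of J3), package E3 (helper70, for helper26): a central quotient by a centre
of order 3 containing a non-trivial commutator is a stem extension with cyclic kernel of order 3.
-/

set_option autoImplicit false

namespace Cfsg.Agent.Lib.Helper70_J3M_E3

open Cfsg
open scoped commutatorElement

theorem stem_of_center_three {H : Type*} [Group H] [Finite H]
    (hZ : Nat.card ↥(Subgroup.center H) = 3) (x y : H) (ht : ⁅x, y⁆ ∈ Subgroup.center H)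
    (ht1 : ⁅x, y⁆ ≠ 1) :
    IsStemExtension (QuotientGroup.mk' (Subgroup.center H)) ∧
      IsCyclic ↥(QuotientGroup.mk' (Subgroup.center H)).ker ∧
      Nat.card ↥(QuotientGroup.mk' (Subgroup.center H)).ker = 3 := by
  have : Fact (Nat.Prime 3) := ⟨Nat.prime_three⟩
  have hker : (QuotientGroup.mk' (Subgroup.center H)).ker = Subgroup.center H :=
    QuotientGroup.ker_mk' _
  -- the centre is generated by the commutator
  have hgen : Subgroup.zpowers (⟨⁅x, y⁆, ht⟩ : Subgroup.center H) = ⊤ :=
    zpowers_eq_top_of_prime_card hZ (fun h => ht1 (congrArg Subtype.val h))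
  have hle : Subgroup.center H ≤ commutator H := by
    intro c hc
    have : (⟨c, hc⟩ : Subgroup.center H) ∈ Subgroup.zpowers (⟨⁅x, y⁆, ht⟩ : Subgroup.center H) := by
      rw [hgen]; exact Subgroup.mem_top _
    obtain ⟨n, hn⟩ := Subgroup.mem_zpowers_iff.mp this
    have hc' : c = ⁅x, y⁆ ^ n := by
      have := congrArg Subtype.val hn
      simpa using this.symm
    rw [hc']
    exact Subgroup.zpow_mem _ (Subgroup.commutator_mem_commutator (Subgroup.mem_top x)
      (Subgroup.mem_top y)) n
  refine ⟨⟨QuotientGroup.mk'_surjective _, ?_, ?_⟩, ?_, ?_⟩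
  · rw [hker]
  · rw [hker]; exact hle
  · rw [hker]; exact isCyclic_of_prime_card hZ
  · rw [hker]; exact hZ

end Cfsg.Agent.Lib.Helper70_J3M_E3
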