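import Mathlib

/-!
# S2041 package C3 (helper68): adjoining an element with cube in `closure S` normalizing
`closure S` multiplies the order by at most `3`.
-/

set_option autoImplicit false

namespace Cfsg.Agent.Lib.Helper68_J3M_C3

open scoped commutatorElement

/-- conjugation by `g` preserves `closure S` if it maps the generators into it -/
theorem conj_mem_closure {H : Type*} [Group H] (S : Set H) (g : H)
    (hconj : ∀ y ∈ S, g * y * g⁻¹ ∈ Subgroup.closure S) (x : H) (hx : x ∈ Subgroup.closure S) :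
    g * x * g⁻¹ ∈ Subgroup.closure S := by
  induction hx using Subgroup.closure_induction with
  | mem y hy => exact hconj y hy
  | one => simp
  | mul x y _ _ hx hy =>
    have : g * (x * y) * g⁻¹ = (g * x * g⁻¹) * (g * y * g⁻¹) := by group
    rw [this]
    exact Subgroup.mul_mem _ hx hy
  | inv x _ hx =>
    have : g * x⁻¹ * g⁻¹ = (g * x * g⁻¹)⁻¹ := by group
    rw [this]
    exact Subgroup.inv_mem _ hx

theorem card_closure_insert_le_three {H : Type*} [Group H] [Finite H] (S : Set H) (g : H)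
    (hcube : g ^ 3 ∈ Subgroup.closure S) (hconj : ∀ y ∈ S, g * y * g⁻¹ ∈ Subgroup.closure S) :
    Nat.card ↥(Subgroup.closure (insert g S)) ≤ 3 * Nat.card ↥(Subgroup.closure S) := by
  classical
  set K : Subgroup H := Subgroup.closure S with hK
  have hc : ∀ x ∈ K, g * x * g⁻¹ ∈ K := conj_mem_closure S g hconj
  have hc' : ∀ x ∈ K, g⁻¹ * x * g ∈ K := by
    intro x hx
    have : g⁻¹ * x * g = (g ^ 3)⁻¹ * (g * (g * x * g⁻¹) * g⁻¹) * (g ^ 3) := by group
    rw [this]
    exact K.mul_mem (K.mul_mem (K.inv_mem hcube) (hc _ (hc x hx))) hcube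
  -- conjugation by any power of `g`
  have hnat : ∀ n : ℕ, ∀ x ∈ K, g ^ n * x * (g ^ n)⁻¹ ∈ K ∧ (g ^ n)⁻¹ * x * g ^ n ∈ K := by
    intro n
    induction n with
    | zero => intro x hx; simpa using hx
    | succ n ih =>
      intro x hx
      constructor
      · have : g ^ (n + 1) * x * (g ^ (n + 1))⁻¹ = g * (g ^ n * x * (g ^ n)⁻¹) * g⁻¹ := by
          rw [pow_succ']; group
        rw [this]
        exact hc _ (ih x hx).1
      · have : (g ^ (n + 1))⁻¹ * x * g ^ (n + 1) = g⁻¹ * ((g ^ n)⁻¹ * x * g ^ n) * g := by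
          rw [pow_succ]; group
        rw [this]
        exact hc' _ (ih x hx).2
  have hint : ∀ n : ℤ, ∀ x ∈ K, g ^ n * x * (g ^ n)⁻¹ ∈ K := by
    intro n x hx
    rcases Int.eq_nat_or_neg n with ⟨m, rfl | rfl⟩
    · simpa using (hnat m x hx).1
    · have := (hnat m x hx).2
      simpa using this
  -- powers of `g` reduce modulo `3`
  have hpow : ∀ n : ℤ, ∃ k ∈ K, ∃ r : Fin 3, g ^ n = k * g ^ (r : ℕ) := by
    intro n
    have h3 : (g ^ (3 : ℤ)) ∈ K := by
      have : g ^ (3 : ℤ) = g ^ 3 := by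
        rw [← zpow_natCast]; rfl
      rw [this]; exact hcube
    refine ⟨(g ^ (3 : ℤ)) ^ (n / 3), K.zpow_mem h3 _, ⟨(n % 3).toNat, ?_⟩, ?_⟩
    · have h1 : 0 ≤ n % 3 := Int.emod_nonneg _ (by norm_num)
      have h2 : n % 3 < 3 := Int.emod_lt_of_pos _ (by norm_num)
      omega
    · have h1 : 0 ≤ n % 3 := Int.emod_nonneg _ (by norm_num)
      show g ^ n = (g ^ (3 : ℤ)) ^ (n / 3) * g ^ ((n % 3).toNat)
      rw [← zpow_mul, ← zpow_natCast, Int.toNat_of_nonneg h1, ← zpow_add]
      congr 1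
      exact (Int.mul_ediv_add_emod n 3).symm
  let M : Subgroup H :=
    { carrier := {x | ∃ n : ℤ, x * g ^ n ∈ K}
      one_mem' := ⟨0, by simp⟩
      mul_mem' := by
        rintro x y ⟨n, hx⟩ ⟨m, hy⟩
        refine ⟨m + n, ?_⟩
        have : x * y * g ^ (m + n) = (x * g ^ n) * ((g ^ (-n)) * (y * g ^ m) * (g ^ (-n))⁻¹) := by
          rw [zpow_add, zpow_neg]; group
        rw [this]
        exact K.mul_mem hx (hint _ _ hy)
      inv_mem' := by
        rintro x ⟨n, hx⟩
        refine ⟨-n, ?_⟩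
        have : x⁻¹ * g ^ (-n) = g ^ n * (x * g ^ n)⁻¹ * (g ^ n)⁻¹ := by
          rw [zpow_neg]; group
        rw [this]
        exact hint _ _ (K.inv_mem hx) }
  have hLM : Subgroup.closure (insert g S) ≤ M := by
    rw [Subgroup.closure_le]
    rintro x (rfl | hx)
    · exact ⟨-1, by simp⟩
    · exact ⟨0, by simpa using Subgroup.subset_closure hx⟩
  have h1 : Nat.card ↥(Subgroup.closure (insert g S)) ≤ Nat.card M := Subgroup.card_le_of_le hLM
  have h2 : (M : Set H) ⊆ ⋃ r : Fin 3, (fun x => x * g ^ (r : ℕ)) '' (K : Set H) := by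
    rintro x ⟨n, hx⟩
    obtain ⟨k, hk, r, hr⟩ := hpow (-n)
    rw [Set.mem_iUnion]
    refine ⟨r, x * g ^ n * k, K.mul_mem hx hk, ?_⟩
    show x * g ^ n * k * g ^ (r : ℕ) = x
    rw [mul_assoc, ← hr, zpow_neg, mul_inv_cancel_right]
  have h3 : Nat.card M = (M : Set H).ncard := rfl
  have h4 : Nat.card K = (K : Set H).ncard := rfl
  rw [h3] at h1
  refine h1.trans ((Set.ncard_le_ncard h2 (Set.toFinite _)).trans ?_)
  have h5 : ∀ r : Fin 3, ((fun x => x * g ^ (r : ℕ)) '' (K : Set H)).ncard = Nat.card K := by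
    intro r
    rw [Set.ncard_image_of_injective _ (mul_left_injective _), ← h4]
  have hU : (⋃ r : Fin 3, (fun x => x * g ^ (r : ℕ)) '' (K : Set H)) =
      ((fun x => x * g ^ ((0 : Fin 3) : ℕ)) '' (K : Set H)) ∪
      (((fun x => x * g ^ ((1 : Fin 3) : ℕ)) '' (K : Set H)) ∪
      ((fun x => x * g ^ ((2 : Fin 3) : ℕ)) '' (K : Set H))) := by
    ext x
    simp only [Set.mem_iUnion, Set.mem_union]
    constructor
    · rintro ⟨r, hr⟩
      fin_cases r
      · exact Or.inl hr
      · exact Or.inr (Or.inl hr)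
      · exact Or.inr (Or.inr hr)
    · rintro (h | h | h)
      · exact ⟨0, h⟩
      · exact ⟨1, h⟩
      · exact ⟨2, h⟩
  rw [hU]
  have e1 := Set.ncard_union_le ((fun x => x * g ^ ((0 : Fin 3) : ℕ)) '' (K : Set H))
      (((fun x => x * g ^ ((1 : Fin 3) : ℕ)) '' (K : Set H)) ∪
      ((fun x => x * g ^ ((2 : Fin 3) : ℕ)) '' (K : Set H)))
  have e2 := Set.ncard_union_le ((fun x => x * g ^ ((1 : Fin 3) : ℕ)) '' (K : Set H))
      ((fun x => x * g ^ ((2 : Fin 3) : ℕ)) '' (K : Set H))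
  rw [h5] at e1 e2
  rw [h5] at e2
  omega

end Cfsg.Agent.Lib.Helper68_J3M_C3
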