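import Mathlib
import Cfsg.Prelude.Def_KGroupFacts
import Cfsg.Agent.Lib.Helper66_Stem
import Cfsg.Agent.Lib.Helper66_StemTools
import Cfsg.Agent.Lib.Lead_StemLocal

/-!
# S2041 package T3 (helper68 for helper26): transfer gives `ker σ ≤ N` when the index is prime to
`3` and the kernel is a `3`-group (the `p = 3` version of `Helper82_J2M_D2.ker_le_of_odd_index`).
-/

set_option autoImplicit false

open Cfsg
open scoped commutatorElement

namespace Cfsg.Agent.Lib.Helper68_J3M_T3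

theorem ker_le_of_index_coprime_three {Γ G : Type*} [Group Γ] [Group G] (σ : Γ →* G)
    (hσ : IsStemExtension σ) (S : Subgroup G) (hidx : S.index ≠ 0) (h3 : ¬ 3 ∣ S.index) (n : ℕ)
    (hK : ∀ k ∈ σ.ker, k ^ (3 ^ n) = 1) (N : Subgroup Γ)
    (hN : ⁅S.comap σ, S.comap σ⁆ ≤ N) : σ.ker ≤ N := by
  obtain ⟨hsurj, hcen, hcomm⟩ := hσ
  intro k hk
  have hidx' : (S.comap σ).index = S.index := Subgroup.index_comap_of_surjective S hsurj
  have hne : (S.comap σ).index ≠ 0 := by
    rw [hidx']; exact hidx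
  have : (S.comap σ).FiniteIndex := ⟨hne⟩
  obtain ⟨h1, h2⟩ :=
    Cfsg.Agent.Lib.Helper66_StemTools.pow_index_mem_commutator (S.comap σ) k (hcen hk) (hcomm hk)
  have h3' : k ^ (S.comap σ).index ∈ ⁅S.comap σ, S.comap σ⁆ := by
    rw [← Subgroup.map_subtype_commutator (S.comap σ)]
    exact ⟨⟨k ^ (S.comap σ).index, h1⟩, h2, rfl⟩
  have h4 : k ^ (S.comap σ).index ∈ N := hN h3'
  have hk2 : k ^ (3 ^ n) = 1 := hK k hk
  rcases Nat.eq_or_lt_of_le (Nat.one_le_pow n 3 (by norm_num)) with h0 | h0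
  · rw [← h0, pow_one] at hk2
    rw [hk2]
    exact N.one_mem
  · have hcop : Nat.Coprime (S.comap σ).index (3 ^ n) := by
      rw [hidx']
      apply Nat.Coprime.pow_right n
      rw [Nat.coprime_comm]
      exact (Nat.Prime.coprime_iff_not_dvd Nat.prime_three).mpr h3
    obtain ⟨m, -, hm⟩ := Nat.exists_mul_mod_eq_one_of_coprime hcop h0
    have hdm := Nat.div_add_mod ((S.comap σ).index * m) (3 ^ n)
    have h5 : k ^ ((S.comap σ).index * m) = k := by
      rw [← hdm, hm, pow_add, pow_mul, hk2, one_pow, one_mul, pow_one]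
    rw [← h5, pow_mul]
    exact N.pow_mem h4 m

end Cfsg.Agent.Lib.Helper68_J3M_T3
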