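import Mathlib

/-!
# S2041 package R3 (helper86, for architect helper26)

Relations in a central extension of the Sylow 3-subgroup of `J3`: pure commutator calculus.
-/

set_option autoImplicit false

open scoped commutatorElement

namespace Cfsg.Agent.Lib.Helper86_J3M_R3

variable {Γ : Type*} [Group Γ]

theorem comm_central_left (s a y : Γ) (h : ∀ g, Commute s g) : ⁅s * a, y⁆ = ⁅a, y⁆ := by
  rw [commutatorElement_def, commutatorElement_def]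
  have e1 : s * a * y * (s * a)⁻¹ * y⁻¹ = s * (a * y * a⁻¹) * s⁻¹ * y⁻¹ := by group
  rw [e1, (h _).eq]
  group

theorem comm_central_right (s x b : Γ) (h : ∀ g, Commute s g) : ⁅x, s * b⁆ = ⁅x, b⁆ := by
  rw [commutatorElement_def, commutatorElement_def]
  have e1 : x * (s * b) * x⁻¹ * (s * b)⁻¹ = (x * s) * (b * x⁻¹ * b⁻¹) * s⁻¹ := by group
  rw [e1, ← (h x).eq, mul_assoc s, (h _).eq]
  group

theorem comm_central (s1 s2 a b : Γ) (h1 : ∀ g, Commute s1 g) (h2 : ∀ g, Commute s2 g) :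
    ⁅s1 * a, s2 * b⁆ = ⁅a, b⁆ := by
  rw [comm_central_left _ _ _ h1, comm_central_right _ _ _ h2]

/-- three-fold conjugation -/
theorem cube (d x a b c : Γ) (h1 : d * x * d⁻¹ = a * x) (h2 : d * a * d⁻¹ = b * a)
    (h3 : d * b * d⁻¹ = c * b) (hab : Commute a b) (hb3 : b ^ 3 = 1) :
    d ^ 3 * x * (d ^ 3)⁻¹ = c * a ^ 3 * x := by
  have e0 : d ^ 3 * x * (d ^ 3)⁻¹ = d * (d * (d * x * d⁻¹) * d⁻¹) * d⁻¹ := by
    simp only [pow_succ, pow_zero, one_mul]; group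
  have step2 : d * (a * x) * d⁻¹ = (b * a) * (a * x) := by
    have : d * (a * x) * d⁻¹ = (d * a * d⁻¹) * (d * x * d⁻¹) := by group
    rw [this, h2, h1]
  have step3 : d * ((b * a) * (a * x)) * d⁻¹ = (c * b) * (b * a) * ((b * a) * (a * x)) := by
    have : d * ((b * a) * (a * x)) * d⁻¹
        = (d * b * d⁻¹) * (d * a * d⁻¹) * ((d * a * d⁻¹) * (d * x * d⁻¹)) := by group
    rw [this, h3, h2, h1]
  rw [e0, h1, step2, step3]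
  calc (c * b) * (b * a) * ((b * a) * (a * x)) = c * (b * b * (a * b) * a * a) * x := by group
    _ = c * (b * b * (b * a) * a * a) * x := by rw [hab.eq]
    _ = c * (b ^ 3 * a ^ 3) * x := by simp only [pow_succ, pow_zero, one_mul]; group
    _ = c * a ^ 3 * x := by rw [hb3, one_mul]

theorem heis_rel_aux (d1 d2 e z1 z2 t11 t12 t21 t22 : Γ)
    (he : e = ⁅d1, d2⁆) (hz1 : z1 = ⁅e, d1⁆) (hz2 : z2 = ⁅e, d2⁆)
    (ht11 : t11 = ⁅z1, d1⁆) (ht12 : t12 = ⁅z1, d2⁆) (ht21 : t21 = ⁅z2, d1⁆)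
    (ht22 : t22 = ⁅z2, d2⁆)
    (c11 : ∀ g, Commute t11 g) (c12 : ∀ g, Commute t12 g) (c21 : ∀ g, Commute t21 g)
    (c22 : ∀ g, Commute t22 g) (ce : ∀ g, Commute (e ^ 3) g)
    (hd1 : ∃ k, (∀ g, Commute k g) ∧ d1 ^ 3 = z2 * k)
    (hd2 : ∃ k, (∀ g, Commute k g) ∧ d2 ^ 3 = z1 ^ 2 * k) :
    e ^ 3 = 1 ∧ z1 ^ 3 = 1 ∧ z2 ^ 3 = 1 ∧ t11 ^ 3 = 1 ∧ t12 = 1 ∧ t21 = 1 ∧ t22 = t11 ∧
      Commute e z1 ∧ Commute e z2 ∧ Commute z1 z2 := by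
  -- conjugation by `z_i`
  have F11 : z1 * d1 * z1⁻¹ = t11 * d1 := by rw [ht11, commutatorElement_def]; group
  have F12 : z1 * d2 * z1⁻¹ = t12 * d2 := by rw [ht12, commutatorElement_def]; group
  have F21 : z2 * d1 * z2⁻¹ = t21 * d1 := by rw [ht21, commutatorElement_def]; group
  have F22 : z2 * d2 * z2⁻¹ = t22 * d2 := by rw [ht22, commutatorElement_def]; group
  have Cz1e : Commute z1 e := by
    have h : z1 * e * z1⁻¹ = e := by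
      conv_lhs => rw [he]
      rw [conjugate_commutatorElement, F11, F12, comm_central _ _ _ _ c11 c12, ← he]
    exact mul_inv_eq_iff_eq_mul.mp h
  have Cz2e : Commute z2 e := by
    have h : z2 * e * z2⁻¹ = e := by
      conv_lhs => rw [he]
      rw [conjugate_commutatorElement, F21, F22, comm_central _ _ _ _ c21 c22, ← he]
    exact mul_inv_eq_iff_eq_mul.mp h
  have Cz1z2 : Commute z1 z2 := by
    have h : z1 * z2 * z1⁻¹ = z2 := by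
      conv_lhs => rw [hz2]
      rw [conjugate_commutatorElement, F12, mul_inv_eq_iff_eq_mul.mpr Cz1e.eq,
        comm_central_right _ _ _ c12, ← hz2]
    exact mul_inv_eq_iff_eq_mul.mp h
  -- conjugation by `d_j`
  have A1d2 : d1 * d2 * d1⁻¹ = e * d2 := by rw [he, commutatorElement_def]; group
  have A2d1 : d2 * d1 * d2⁻¹ = e⁻¹ * d1 := by rw [he, commutatorElement_def]; group
  have A1e : d1 * e * d1⁻¹ = z1⁻¹ * e := by rw [hz1, commutatorElement_def]; group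
  have A2e : d2 * e * d2⁻¹ = z2⁻¹ * e := by rw [hz2, commutatorElement_def]; group
  have A1z1 : d1 * z1 * d1⁻¹ = t11⁻¹ * z1 := by rw [ht11, commutatorElement_def]; group
  have A2z2 : d2 * z2 * d2⁻¹ = t22⁻¹ * z2 := by rw [ht22, commutatorElement_def]; group
  -- cubes of `z_i`
  have hz1_3 : z1 ^ 3 = 1 := by
    have h1 : d1 * e ^ 3 * d1⁻¹ = (z1⁻¹ * e) ^ 3 := by rw [← conj_pow, A1e]
    have h2 : d1 * e ^ 3 * d1⁻¹ = e ^ 3 := by rw [← (ce d1).eq]; group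
    rw [h2, (Cz1e.inv_left).mul_pow] at h1
    have h3 : z1⁻¹ ^ 3 = 1 := by simpa using h1.symm
    simpa using h3
  have hz2_3 : z2 ^ 3 = 1 := by
    have h1 : d2 * e ^ 3 * d2⁻¹ = (z2⁻¹ * e) ^ 3 := by rw [← conj_pow, A2e]
    have h2 : d2 * e ^ 3 * d2⁻¹ = e ^ 3 := by rw [← (ce d2).eq]; group
    rw [h2, (Cz2e.inv_left).mul_pow] at h1
    have h3 : z2⁻¹ ^ 3 = 1 := by simpa using h1.symm
    simpa using h3
  have ht11_3 : t11 ^ 3 = 1 := by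
    have h1 : d1 * z1 ^ 3 * d1⁻¹ = (t11⁻¹ * z1) ^ 3 := by rw [← conj_pow, A1z1]
    rw [hz1_3, mul_one, mul_inv_cancel, ((c11 z1).inv_left).mul_pow, hz1_3, mul_one] at h1
    simpa using h1.symm
  have ht22_3 : t22 ^ 3 = 1 := by
    have h1 : d2 * z2 ^ 3 * d2⁻¹ = (t22⁻¹ * z2) ^ 3 := by rw [← conj_pow, A2z2]
    rw [hz2_3, mul_one, mul_inv_cancel, ((c22 z2).inv_left).mul_pow, hz2_3, mul_one] at h1
    simpa using h1.symm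
  obtain ⟨k1, hk1, hd1⟩ := hd1
  obtain ⟨k2, hk2, hd2⟩ := hd2
  -- `t21 = 1`, `t12 = 1`
  have Cz2d1 : Commute z2 d1 := by
    have h1 : Commute (d1 ^ 3) d1 := (Commute.refl d1).pow_left 3
    rw [hd1] at h1
    have h2 : Commute (z2 * k1 * k1⁻¹) d1 := h1.mul_left ((hk1 d1).inv_left)
    simpa using h2
  have ht21_1 : t21 = 1 := by
    rw [ht21]; exact commutatorElement_eq_one_iff_commute.mpr Cz2d1
  have Cz1d2 : Commute z1 d2 := by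
    have h1 : Commute (d2 ^ 3) d2 := (Commute.refl d2).pow_left 3
    rw [hd2] at h1
    have h2 : Commute (z1 ^ 2 * k2 * k2⁻¹) d2 := h1.mul_left ((hk2 d2).inv_left)
    have h3 : Commute (z1 ^ 2) d2 := by simpa using h2
    have h4 : Commute ((z1 ^ 2) ^ 2) d2 := h3.pow_left 2
    have h5 : (z1 ^ 2) ^ 2 = z1 := by
      calc (z1 ^ 2) ^ 2 = z1 ^ 3 * z1 := by simp only [pow_succ, pow_zero, one_mul]; group
        _ = z1 := by rw [hz1_3, one_mul]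
    rwa [h5] at h4
  have ht12_1 : t12 = 1 := by
    rw [ht12]; exact commutatorElement_eq_one_iff_commute.mpr Cz1d2
  -- first cube relation
  have A1z1inv : d1 * z1⁻¹ * d1⁻¹ = t11 * z1⁻¹ := by
    have : d1 * z1⁻¹ * d1⁻¹ = (d1 * z1 * d1⁻¹)⁻¹ := by group
    rw [this, A1z1, mul_inv_rev, inv_inv, (c11 _).eq]
  have E1 : d1 ^ 3 * d2 * (d1 ^ 3)⁻¹ = t11 * e ^ 3 * d2 :=
    cube d1 d2 e z1⁻¹ t11 A1d2 A1e A1z1inv Cz1e.symm.inv_right (by rw [inv_pow, hz1_3, inv_one])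
  have R1 : t22 = t11 * e ^ 3 := by
    have h1 : ⁅d1 ^ 3, d2⁆ = t22 := by
      rw [hd1, ← (hk1 z2).eq, comm_central_left _ _ _ hk1, ht22]
    rw [← h1, commutatorElement_def, E1]
    group
  -- second cube relation
  have A2einv : d2 * e⁻¹ * d2⁻¹ = z2 * e⁻¹ := by
    have : d2 * e⁻¹ * d2⁻¹ = (d2 * e * d2⁻¹)⁻¹ := by group
    rw [this, A2e, mul_inv_rev, inv_inv, (Cz2e.inv_right).eq]
  have E2 : d2 ^ 3 * d1 * (d2 ^ 3)⁻¹ = t22⁻¹ * e⁻¹ ^ 3 * d1 :=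
    cube d2 d1 e⁻¹ z2 t22⁻¹ A2d1 A2einv A2z2 Cz2e.symm.inv_left hz2_3
  have R2 : t11 ^ 2 = t22⁻¹ * e⁻¹ ^ 3 := by
    have h1 : ⁅d2 ^ 3, d1⁆ = t11 ^ 2 := by
      rw [hd2, ← (hk2 _).eq, comm_central_left _ _ _ hk2, commutatorElement_def]
      have e0 : z1 ^ 2 * d1 * (z1 ^ 2)⁻¹ * d1⁻¹ = z1 * (z1 * d1 * z1⁻¹) * z1⁻¹ * d1⁻¹ := by
        simp only [pow_succ, pow_zero, one_mul]; group
      rw [e0, F11, ← mul_assoc, ← (c11 z1).eq, mul_assoc t11, mul_assoc t11, mul_assoc t11, F11,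
        pow_two]
      group
    rw [← h1, commutatorElement_def, E2]
    group
  -- arithmetic in the centre
  set u := e ^ 3 with hu
  have hu3 : u ^ 3 = 1 := by
    have h1 : t22 ^ 3 = t11 ^ 3 * u ^ 3 := by rw [R1, (c11 u).mul_pow]
    rw [ht22_3, ht11_3, one_mul] at h1
    exact h1.symm
  have hu2 : u ^ 2 = 1 := by
    have h1 : t11 ^ 3 = u⁻¹ * u⁻¹ := by
      calc t11 ^ 3 = t11 * t11 ^ 2 := by simp only [pow_succ, pow_zero, one_mul]; group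
        _ = t11 * ((t11 * u)⁻¹ * u⁻¹) := by rw [R2, R1, inv_pow]
        _ = t11 * (u⁻¹ * t11⁻¹ * u⁻¹) := by rw [mul_inv_rev]
        _ = t11 * (t11⁻¹ * u⁻¹ * u⁻¹) := by rw [((c11 u⁻¹).inv_left).eq]
        _ = u⁻¹ * u⁻¹ := by group
    rw [ht11_3] at h1
    have h2 : (u ^ 2)⁻¹ = 1 := by
      rw [h1]; group
    simpa using h2
  have hu1 : u = 1 := by
    calc u = u ^ 3 * (u ^ 2)⁻¹ := by simp only [pow_succ, pow_zero, one_mul]; group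
      _ = 1 := by rw [hu3, hu2, inv_one, mul_one]
  refine ⟨hu1, hz1_3, hz2_3, ht11_3, ht12_1, ht21_1, ?_, Cz1e.symm, Cz2e.symm, Cz1z2⟩
  rw [R1, hu1, mul_one]

theorem heis_rel {Γ : Type*} [Group Γ] (δ1 δ2 : Γ)
    (h11 : ⁅⁅⁅δ1, δ2⁆, δ1⁆, δ1⁆ ∈ Subgroup.center Γ)
    (h12 : ⁅⁅⁅δ1, δ2⁆, δ1⁆, δ2⁆ ∈ Subgroup.center Γ)
    (h21 : ⁅⁅⁅δ1, δ2⁆, δ2⁆, δ1⁆ ∈ Subgroup.center Γ)
    (h22 : ⁅⁅⁅δ1, δ2⁆, δ2⁆, δ2⁆ ∈ Subgroup.center Γ)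
    (hε : ⁅δ1, δ2⁆ ^ 3 ∈ Subgroup.center Γ)
    (hd1 : ∃ k ∈ Subgroup.center Γ, δ1 ^ 3 = ⁅⁅δ1, δ2⁆, δ2⁆ * k)
    (hd2 : ∃ k ∈ Subgroup.center Γ, δ2 ^ 3 = ⁅⁅δ1, δ2⁆, δ1⁆ ^ 2 * k) :
    ⁅δ1, δ2⁆ ^ 3 = 1 ∧ ⁅⁅δ1, δ2⁆, δ1⁆ ^ 3 = 1 ∧ ⁅⁅δ1, δ2⁆, δ2⁆ ^ 3 = 1 ∧
    ⁅⁅⁅δ1, δ2⁆, δ1⁆, δ1⁆ ^ 3 = 1 ∧
    ⁅⁅⁅δ1, δ2⁆, δ1⁆, δ2⁆ = 1 ∧ ⁅⁅⁅δ1, δ2⁆, δ2⁆, δ1⁆ = 1 ∧
    ⁅⁅⁅δ1, δ2⁆, δ2⁆, δ2⁆ = ⁅⁅⁅δ1, δ2⁆, δ1⁆, δ1⁆ ∧
    Commute ⁅δ1, δ2⁆ ⁅⁅δ1, δ2⁆, δ1⁆ ∧ Commute ⁅δ1, δ2⁆ ⁅⁅δ1, δ2⁆, δ2⁆ ∧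
    Commute ⁅⁅δ1, δ2⁆, δ1⁆ ⁅⁅δ1, δ2⁆, δ2⁆ := by
  have cen : ∀ {z : Γ}, z ∈ Subgroup.center Γ → ∀ g, Commute z g :=
    fun hz g => (Subgroup.mem_center_iff.mp hz g).symm
  obtain ⟨k1, hk1, e1⟩ := hd1
  obtain ⟨k2, hk2, e2⟩ := hd2
  exact heis_rel_aux δ1 δ2 _ _ _ _ _ _ _ rfl rfl rfl rfl rfl rfl rfl (cen h11) (cen h12) (cen h21)
    (cen h22) (cen hε) ⟨k1, cen hk1, e1⟩ ⟨k2, cen hk2, e2⟩

end Cfsg.Agent.Lib.Helper86_J3M_R3
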