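import Mathlib
import Cfsg.Prelude.Def_KGroupFacts
import Cfsg.Agent.Lib.Helper82_J2M_D1
import Cfsg.Agent.Lib.Helper68_J3M_C3
import Cfsg.Agent.Lib.Helper68_J3M_T3
import Cfsg.Agent.Lib.Helper86_J3M_R3
import Cfsg.Agent.Lib.Lead_StemLocal

/-!
# S2041 package A3 (helper86, for architect helper26): the 3-part of the Schur multiplier of `J3`

Assembled from C3, T3 (helper68), R3 and `Helper82_J2M_D1.commutator_le_of_pair`.
-/

set_option autoImplicit false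

open Cfsg
open scoped commutatorElement

namespace Cfsg.Agent.Lib.Helper86_J3M_A3

open Cfsg.Agent.Lib.Helper68_J3M_C3 Cfsg.Agent.Lib.Helper68_J3M_T3 Cfsg.Agent.Lib.Helper86_J3M_R3

theorem conj_eq_of_commute {Γ : Type*} [Group Γ] {g y : Γ} (h : Commute g y) :
    g * y * g⁻¹ = y := mul_inv_eq_iff_eq_mul.mpr h.eq

theorem three_part {Γ G : Type*} [Group Γ] [Group G] [Finite Γ] [Finite G] (σ : Γ →* G)
    (hσ : IsStemExtension σ) (s : ℕ) (hK : ∀ k ∈ σ.ker, k ^ (3 ^ s) = 1)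
    (d1 d2 : G)
    (hz1d1 : Commute ⁅⁅d1, d2⁆, d1⁆ d1) (hz1d2 : Commute ⁅⁅d1, d2⁆, d1⁆ d2)
    (hz2d1 : Commute ⁅⁅d1, d2⁆, d2⁆ d1) (hz2d2 : Commute ⁅⁅d1, d2⁆, d2⁆ d2)
    (he3 : ⁅d1, d2⁆ ^ 3 = 1)
    (hd1 : d1 ^ 3 = ⁅⁅d1, d2⁆, d2⁆) (hd2 : d2 ^ 3 = ⁅⁅d1, d2⁆, d1⁆ ^ 2)
    (hidx : ¬ 3 ∣ (Subgroup.closure ({d1, d2} : Set G)).index)
    (hP : 243 ≤ Nat.card ↥(Subgroup.closure ({d1, d2} : Set G))) :
    Nat.card σ.ker ≤ 3 := by
  classical
  have hsurj : Function.Surjective σ := hσ.1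
  have hcen : σ.ker ≤ Subgroup.center Γ := hσ.2.1
  obtain ⟨δ1, hδ1⟩ := hsurj d1
  obtain ⟨δ2, hδ2⟩ := hsurj d2
  have hσe : σ ⁅δ1, δ2⁆ = ⁅d1, d2⁆ := by rw [map_commutatorElement, hδ1, hδ2]
  have hσz1 : σ ⁅⁅δ1, δ2⁆, δ1⁆ = ⁅⁅d1, d2⁆, d1⁆ := by rw [map_commutatorElement, hσe, hδ1]
  have hσz2 : σ ⁅⁅δ1, δ2⁆, δ2⁆ = ⁅⁅d1, d2⁆, d2⁆ := by rw [map_commutatorElement, hσe, hδ2]
  have k11 : ⁅⁅⁅δ1, δ2⁆, δ1⁆, δ1⁆ ∈ σ.ker := by
    rw [MonoidHom.mem_ker, map_commutatorElement, hσz1, hδ1]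
    exact commutatorElement_eq_one_iff_commute.mpr hz1d1
  have k12 : ⁅⁅⁅δ1, δ2⁆, δ1⁆, δ2⁆ ∈ σ.ker := by
    rw [MonoidHom.mem_ker, map_commutatorElement, hσz1, hδ2]
    exact commutatorElement_eq_one_iff_commute.mpr hz1d2
  have k21 : ⁅⁅⁅δ1, δ2⁆, δ2⁆, δ1⁆ ∈ σ.ker := by
    rw [MonoidHom.mem_ker, map_commutatorElement, hσz2, hδ1]
    exact commutatorElement_eq_one_iff_commute.mpr hz2d1
  have k22 : ⁅⁅⁅δ1, δ2⁆, δ2⁆, δ2⁆ ∈ σ.ker := by
    rw [MonoidHom.mem_ker, map_commutatorElement, hσz2, hδ2]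
    exact commutatorElement_eq_one_iff_commute.mpr hz2d2
  have ke : ⁅δ1, δ2⁆ ^ 3 ∈ σ.ker := by
    rw [MonoidHom.mem_ker, map_pow, hσe, he3]
  have kk1 : (⁅⁅δ1, δ2⁆, δ2⁆)⁻¹ * δ1 ^ 3 ∈ σ.ker := by
    rw [MonoidHom.mem_ker, map_mul, map_inv, map_pow, hσz2, hδ1, hd1, inv_mul_cancel]
  have kk2 : (⁅⁅δ1, δ2⁆, δ1⁆ ^ 2)⁻¹ * δ2 ^ 3 ∈ σ.ker := by
    rw [MonoidHom.mem_ker, map_mul, map_inv, map_pow, map_pow, hσz1, hδ2, hd2, inv_mul_cancel]
  have e1 : δ1 ^ 3 = ⁅⁅δ1, δ2⁆, δ2⁆ * ((⁅⁅δ1, δ2⁆, δ2⁆)⁻¹ * δ1 ^ 3) := by group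
  have e2 : δ2 ^ 3 = ⁅⁅δ1, δ2⁆, δ1⁆ ^ 2 * ((⁅⁅δ1, δ2⁆, δ1⁆ ^ 2)⁻¹ * δ2 ^ 3) := by group
  obtain ⟨e3, z13, z23, t113, t12, t21, t22, Cez1, Cez2, Cz1z2⟩ :=
    heis_rel δ1 δ2 (hcen k11) (hcen k12) (hcen k21) (hcen k22) (hcen ke)
      ⟨_, hcen kk1, e1⟩ ⟨_, hcen kk2, e2⟩
  -- name the elements
  obtain ⟨k1, hk1⟩ : ∃ k1, k1 = (⁅⁅δ1, δ2⁆, δ2⁆)⁻¹ * δ1 ^ 3 := ⟨_, rfl⟩
  obtain ⟨k2, hk2⟩ : ∃ k2, k2 = (⁅⁅δ1, δ2⁆, δ1⁆ ^ 2)⁻¹ * δ2 ^ 3 := ⟨_, rfl⟩
  rw [← hk1] at kk1 e1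
  rw [← hk2] at kk2 e2
  clear hk1 hk2
  obtain ⟨e, he⟩ : ∃ e, e = ⁅δ1, δ2⁆ := ⟨_, rfl⟩
  rw [← he] at k11 k12 k21 k22 e1 e2 e3 z13 z23 t113 t12 t21 t22 Cez1 Cez2 Cz1z2
  obtain ⟨z1, hz1⟩ : ∃ z1, z1 = ⁅e, δ1⁆ := ⟨_, rfl⟩
  obtain ⟨z2, hz2⟩ : ∃ z2, z2 = ⁅e, δ2⁆ := ⟨_, rfl⟩
  rw [← hz1] at k11 k12 e2 z13 t113 t12 t22 Cez1 Cz1z2
  rw [← hz2] at k21 k22 e1 z23 t21 t22 Cez2 Cz1z2
  obtain ⟨t, ht⟩ : ∃ t, t = ⁅z1, δ1⁆ := ⟨_, rfl⟩
  rw [← ht] at k11 t113 t22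
  have tc : ∀ g : Γ, Commute t g := fun g => (Subgroup.mem_center_iff.mp (hcen k11) g).symm
  -- conjugation rules
  have A1e : δ1 * e * δ1⁻¹ = z1⁻¹ * e := by rw [hz1, commutatorElement_def]; group
  have A2e : δ2 * e * δ2⁻¹ = z2⁻¹ * e := by rw [hz2, commutatorElement_def]; group
  have A1z1 : δ1 * z1 * δ1⁻¹ = t⁻¹ * z1 := by rw [ht, commutatorElement_def]; group
  have A2z2 : δ2 * z2 * δ2⁻¹ = t⁻¹ * z2 := by rw [← t22, commutatorElement_def]; group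
  have A1z2 : δ1 * z2 * δ1⁻¹ = z2 :=
    conj_eq_of_commute (commutatorElement_eq_one_iff_commute.mp t21).symm
  have A2z1 : δ2 * z1 * δ2⁻¹ = z1 :=
    conj_eq_of_commute (commutatorElement_eq_one_iff_commute.mp t12).symm
  have A1d2 : δ1 * δ2 * δ1⁻¹ = e * δ2 := by rw [he, commutatorElement_def]; group
  -- the abelian group `M`
  set S1 : Set Γ := {t} with hS1
  set S2 : Set Γ := insert z2 S1 with hS2
  set S3 : Set Γ := insert z1 S2 with hS3
  set S4 : Set Γ := insert e S3 with hS4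
  set M : Subgroup Γ := Subgroup.closure S4 with hM
  have c0 : Nat.card ↥(Subgroup.closure (∅ : Set Γ)) = 1 := by
    rw [Subgroup.closure_empty]; exact Subgroup.card_bot
  have c1 : Nat.card ↥(Subgroup.closure S1) ≤ 3 := by
    have h := card_closure_insert_le_three (∅ : Set Γ) t
      (by rw [t113]; exact Subgroup.one_mem _) (by intro y hy; exact absurd hy (Set.notMem_empty y))
    rw [c0, insert_empty_eq] at h
    exact h
  have c2 : Nat.card ↥(Subgroup.closure S2) ≤ 9 := by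
    have h : Nat.card ↥(Subgroup.closure S2) ≤ 3 * Nat.card ↥(Subgroup.closure S1) :=
      card_closure_insert_le_three S1 z2
      (by rw [z23]; exact Subgroup.one_mem _)
      (by
        intro y hy
        have : y = t := hy
        rw [this, conj_eq_of_commute (tc z2).symm]
        exact Subgroup.subset_closure rfl)
    omega
  have c3 : Nat.card ↥(Subgroup.closure S3) ≤ 27 := by
    have h : Nat.card ↥(Subgroup.closure S3) ≤ 3 * Nat.card ↥(Subgroup.closure S2) :=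
      card_closure_insert_le_three S2 z1
      (by rw [z13]; exact Subgroup.one_mem _)
      (by
        intro y hy
        rcases hy with h | h
        · rw [h, conj_eq_of_commute Cz1z2]
          exact Subgroup.subset_closure (Or.inl rfl)
        · have : y = t := h
          rw [this, conj_eq_of_commute (tc z1).symm]
          exact Subgroup.subset_closure (Or.inr rfl))
    omega
  have c4 : Nat.card ↥M ≤ 81 := by
    have h : Nat.card ↥M ≤ 3 * Nat.card ↥(Subgroup.closure S3) :=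
      card_closure_insert_le_three S3 e
      (by rw [e3]; exact Subgroup.one_mem _)
      (by
        intro y hy
        rcases hy with h | h | h
        · rw [h, conj_eq_of_commute Cez1]
          exact Subgroup.subset_closure (Or.inl rfl)
        · rw [h, conj_eq_of_commute Cez2]
          exact Subgroup.subset_closure (Or.inr (Or.inl rfl))
        · have : y = t := h
          rw [this, conj_eq_of_commute (tc e).symm]
          exact Subgroup.subset_closure (Or.inr (Or.inr rfl)))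
    omega
  have eM : e ∈ M := Subgroup.subset_closure (Or.inl rfl)
  have z1M : z1 ∈ M := Subgroup.subset_closure (Or.inr (Or.inl rfl))
  have z2M : z2 ∈ M := Subgroup.subset_closure (Or.inr (Or.inr (Or.inl rfl)))
  have tM : t ∈ M := Subgroup.subset_closure (Or.inr (Or.inr (Or.inr rfl)))
  have hgen1 : ∀ y ∈ S4, δ1 * y * δ1⁻¹ ∈ M := by
    intro y hy
    rcases hy with h | h | h | h
    · rw [h, A1e]; exact M.mul_mem (M.inv_mem z1M) eM
    · rw [h, A1z1]; exact M.mul_mem (M.inv_mem tM) z1M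
    · rw [h, A1z2]; exact z2M
    · have : y = t := h
      rw [this, conj_eq_of_commute (tc δ1).symm]; exact tM
  have hgen2 : ∀ y ∈ S4, δ2 * y * δ2⁻¹ ∈ M := by
    intro y hy
    rcases hy with h | h | h | h
    · rw [h, A2e]; exact M.mul_mem (M.inv_mem z2M) eM
    · rw [h, A2z1]; exact z1M
    · rw [h, A2z2]; exact M.mul_mem (M.inv_mem tM) z2M
    · have : y = t := h
      rw [this, conj_eq_of_commute (tc δ2).symm]; exact tM
  have hM1 : ∀ y ∈ M, δ1 * y * δ1⁻¹ ∈ M := conj_mem_closure S4 δ1 hgen1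
  have hM2 : ∀ y ∈ M, δ2 * y * δ2⁻¹ ∈ M := conj_mem_closure S4 δ2 hgen2
  -- the commutator subgroup of the preimage of `P` lies in `M`
  have h7 := Cfsg.Agent.Lib.Helper82_J2M_D1.commutator_le_of_pair M δ1 δ2 (σ.ker : Set Γ)
    (fun c hc => hcen hc) hM1 hM2 (by rw [← he]; exact eM)
  set P : Subgroup G := Subgroup.closure ({d1, d2} : Set G) with hPdef
  have hcomap : P.comap σ = Subgroup.closure (({δ1, δ2} : Set Γ) ∪ (σ.ker : Set Γ)) := by
    rw [← Cfsg.Agent.Lib.Lead_StemLocal.comap_closure_image, Set.image_pair, hδ1, hδ2]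
  have hle : P.comap σ ≤
      Subgroup.closure (({δ1, δ2} : Set Γ) ∪ (M : Set Γ) ∪ (σ.ker : Set Γ)) := by
    rw [hcomap]
    apply Subgroup.closure_mono
    intro x hx
    rcases hx with hx | hx
    · exact Or.inl (Or.inl hx)
    · exact Or.inr hx
  have hN : ⁅P.comap σ, P.comap σ⁆ ≤ M := le_trans (Subgroup.commutator_mono hle hle) h7
  have hPidx : P.index ≠ 0 := Subgroup.index_ne_zero_of_finite
  have hKM : σ.ker ≤ M := ker_le_of_index_coprime_three σ hσ P hPidx hidx s hK M hN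
  -- the group `N2`
  set N1 : Subgroup Γ := Subgroup.closure (insert δ2 S4) with hN1
  set N2 : Subgroup Γ := Subgroup.closure (insert δ1 (insert δ2 S4)) with hN2
  have hMN1 : M ≤ N1 := Subgroup.closure_mono (Set.subset_insert _ _)
  have hN1N2 : N1 ≤ N2 := Subgroup.closure_mono (Set.subset_insert _ _)
  have c5 : Nat.card ↥N1 ≤ 3 * Nat.card ↥M := by
    apply card_closure_insert_le_three S4 δ2 _ hgen2
    rw [e2]
    exact M.mul_mem (M.pow_mem z1M 2) (hKM kk2)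
  have c6 : Nat.card ↥N2 ≤ 3 * Nat.card ↥N1 := by
    apply card_closure_insert_le_three (insert δ2 S4) δ1
    · rw [e1]
      exact hMN1 (M.mul_mem z2M (hKM kk1))
    · intro y hy
      rcases hy with h | h
      · rw [h, A1d2]
        exact N1.mul_mem (hMN1 eM) (Subgroup.subset_closure (Or.inl rfl))
      · exact hMN1 (hgen1 y h)
  have hcomapN2 : P.comap σ ≤ N2 := by
    rw [hcomap, Subgroup.closure_le]
    intro x hx
    rcases hx with hx | hx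
    · rcases hx with h | h
      · rw [h]; exact Subgroup.subset_closure (Or.inl rfl)
      · have : x = δ2 := h
        rw [this]; exact Subgroup.subset_closure (Or.inr (Or.inl rfl))
    · exact hN1N2 (hMN1 (hKM hx))
  have c7 : Nat.card ↥(P.comap σ) ≤ Nat.card ↥N2 := Subgroup.card_le_of_le hcomapN2
  have hkerle : σ.ker ≤ P.comap σ := by
    intro x hx
    rw [Subgroup.mem_comap, MonoidHom.mem_ker.mp hx]
    exact P.one_mem
  have c8 : Nat.card ↥(P.comap σ) = Nat.card σ.ker * Nat.card ↥P := by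
    have h1 := Subgroup.relIndex_mul_relIndex (⊥ : Subgroup Γ) σ.ker (P.comap σ) bot_le hkerle
    rw [Subgroup.relIndex_bot_left, Subgroup.relIndex_bot_left, Subgroup.relIndex_ker,
      Subgroup.map_comap_eq_self_of_surjective hsurj] at h1
    exact h1.symm
  have hkpos : 0 < Nat.card σ.ker := Nat.card_pos
  nlinarith

end Cfsg.Agent.Lib.Helper86_J3M_A3
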