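import Mathlib
import Cfsg.Prelude.Def_KGroupFacts
import Cfsg.Agent.Lib.Helper26_J3MSyl
import Cfsg.Agent.Lib.Helper26_J2MAbs
import Cfsg.Agent.Lib.Helper8_StemTwo
import Cfsg.Agent.Lib.Helper86_J3M_A3
import Cfsg.Agent.Lib.Helper35_J3M_O2
import Cfsg.Agent.Lib.Helper35_J3M_G3
import Cfsg.Agent.Lib.Helper49_J3M_F2
import Cfsg.Agent.Lib.Helper70_J3M_Q2
import Cfsg.Agent.Lib.Helper70_J3M_E3

/-!
# The Schur multiplier of `J₃` is cyclic of order 3 (helper26)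

Existence: `3·J₃ → J₃`.  Bound: the primes 5, 17, 19 by transfer into cyclic Sylow subgroups, the
prime 2 by the `2^{1+4}_- : A₅` argument of `J₂` plus fusion of involutions, the prime 3 by the
relations of the Sylow 3-subgroup (packages of helper86, helper35, helper68, helper49, helper70).
-/

set_option autoImplicit false

namespace Cfsg.Agent.Lib.Helper26_J3M

open Cfsg Cfsg.Spor Cfsg.Agent.Lib.Helper90_CodeTable Cfsg.Agent.Lib.Helper90_J3Core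
  Cfsg.Agent.Lib.Helper90_J3Gens Cfsg.Agent.Lib.Helper90_J3Group
  Cfsg.Agent.Lib.Helper90_J3Order Cfsg.Agent.Lib.Helper90_J3DataP
  Cfsg.Agent.Lib.Helper90_J3Simple Cfsg.Agent.Lib.Helper90_J3Center
open scoped commutatorElement

universe u

variable {F : Type u} [Field F] {ω : F}

/-! ### existence -/

/-- The word of `⁅⁅⁅d1, d2⁆, d1⁆, d1⁆`, whose value is the scalar `ω`. -/
def wt11 : List ℕ := wcomm (wcomm (wcomm wd1 wd2) wd1) wd1

theorem wt11_code : evalW wt11 = cw := by decide +kernel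

theorem wt11_ne : cnorm (evalW wt11) ≠ cnorm (evalW []) := by decide +kernel

section Main

variable [Fintype F] (hF : Fintype.card F = 4) (hω : ω ^ 2 + ω + 1 = 0)

omit [Fintype F] in
theorem finite_threeJ3 [Finite F] : Finite (threeJ3 F ω) :=
  Finite.of_injective (fun x => (x : GL F9 F)) Subtype.val_injective

include hF hω in
theorem finite_J3 : Finite (J3 F ω) :=
  Nat.finite_of_card_ne_zero (by rw [card_J3 hF hω]; norm_num)

include hF hω in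
theorem exists_stem :
    ∃ (Γ : Type u) (_ : Group Γ) (_ : Finite Γ) (σ : Γ →* J3 F ω), IsStemExtension σ ∧
      IsCyclic σ.ker ∧ Nat.card σ.ker = 3 := by
  have h2 := two_eq_zero hF
  have hfin : Finite (threeJ3 F ω) := finite_threeJ3
  have e : ⁅gw h2 hω (wcomm (wcomm wd1 wd2) wd1), gw h2 hω wd1⁆ = gw h2 hω wt11 := by
    rw [wt11, gw_wcomm h2 hω (wcomm (wcomm wd1 wd2) wd1) wd1, commutatorElement_def]
    group
  obtain ⟨h1, h2', h3⟩ := Cfsg.Agent.Lib.Helper70_J3M_E3.stem_of_center_three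
    (H := ↥(threeJ3 F ω)) (card_center hF hω) (gw h2 hω (wcomm (wcomm wd1 wd2) wd1))
    (gw h2 hω wd1)
    (by rw [e]; exact gw_central_of_code h2 hω wt11_code)
    (by
      rw [e]
      intro h
      have h' : evalG h2 hω wt11 = evalG h2 hω [] := by
        have := congrArg (fun x : threeJ3 F ω => (x : GL F9 F)) h
        simpa [gw, evalG] using this
      exact evalG_ne_of_code h2 hω wt11_ne h')
  exact ⟨↥(threeJ3 F ω), inferInstance, hfin, QuotientGroup.mk' _, h1, h2', h3⟩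

/-! ### elements of prime order -/

theorem jw_ne_one_of_orderOf
    {w : List ℕ} {p : ℕ} (hp : orderOf (gw (two_eq_zero hF) hω w) = p) (h3 : ¬ p ∣ 3) :
    jw (two_eq_zero hF) hω w ≠ 1 := by
  intro h
  have hfin : Finite (threeJ3 F ω) := finite_threeJ3
  have hc : gw (two_eq_zero hF) hω w ∈ Subgroup.center (threeJ3 F ω) :=
    (QuotientGroup.eq_one_iff _).mp h
  have hpow : (⟨gw (two_eq_zero hF) hω w, hc⟩ : Subgroup.center (threeJ3 F ω)) ^ 3 = 1 := by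
    have := pow_card_eq_one' (G := ↥(Subgroup.center (threeJ3 F ω)))
      (x := ⟨gw (two_eq_zero hF) hω w, hc⟩)
    rwa [card_center hF hω] at this
  have hpow' : gw (two_eq_zero hF) hω w ^ 3 = 1 := by
    have := congrArg Subtype.val hpow
    simpa using this
  have := orderOf_dvd_of_pow_eq_one hpow'
  rw [hp] at this
  exact h3 this

/-! ### the bound -/

open Cfsg.Agent.Lib.Helper26_J2MAbs (commute_lift_mul) in
include hF hω in
/-- No stem extension of `J₃` has a non-trivial kernel of exponent 2. -/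
theorem two_part_J3 (Γ : Type u) [Group Γ] [Finite Γ] (σ : Γ →* J3 F ω)
    (hσ : IsStemExtension σ) (hexp2 : ∀ a ∈ σ.ker, a ^ 2 = 1) : σ.ker = ⊥ := by
  have h2 := two_eq_zero hF
  have hfin := finite_J3 hF hω
  have hsurj := hσ.1
  have hc := hσ.2.1
  have hexp : ∀ k ∈ σ.ker, k * k = 1 := fun k hk => by rw [← pow_two]; exact hexp2 k hk
  have hK : ∀ k ∈ σ.ker, k ^ (2 ^ 7) = 1 := by
    intro k hk
    have e : (2 : ℕ) ^ 7 = 2 * 64 := by norm_num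
    rw [e, pow_mul, hexp2 k hk, one_pow]
  obtain ⟨zt, hzt⟩ := hsurj (jz h2 hω)
  obtain ⟨at', hat⟩ := hsurj (ja h2 hω)
  have cop : Nat.Coprime 15 (2 ^ 7) := by norm_num
  have oa : ∃ u1 u2 : J3 F ω, ja h2 hω = u1 * u2 ∧ Commute u1 (jz h2 hω) ∧
      Commute u2 (jz h2 hω) ∧ u1 ^ 15 = 1 ∧ u2 ^ 15 = 1 :=
    ⟨jua1 h2 hω, jua2 h2 hω, r_ua h2 hω, c_ua1 h2 hω, c_ua2 h2 hω, p_ua1 h2 hω, p_ua2 h2 hω⟩
  have ox : ∃ u1 u2 : J3 F ω, jx h2 hω = u1 * u2 ∧ Commute u1 (jz h2 hω) ∧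
      Commute u2 (jz h2 hω) ∧ u1 ^ 15 = 1 ∧ u2 ^ 15 = 1 :=
    ⟨jux1 h2 hω, jux2 h2 hω, r_ux h2 hω, c_ux1 h2 hω, c_ux2 h2 hω, p_ux1 h2 hω, p_ux2 h2 hω⟩
  have ob : ∃ u1 u2 : J3 F ω, jb h2 hω = u1 * u2 ∧ Commute u1 (jz h2 hω) ∧
      Commute u2 (jz h2 hω) ∧ u1 ^ 15 = 1 ∧ u2 ^ 15 = 1 :=
    ⟨jub1 h2 hω, jub2 h2 hω, r_ub h2 hω, c_ub1 h2 hω, c_ub2 h2 hω, p_ub1 h2 hω, p_ub2 h2 hω⟩
  have hcza : Commute zt at' :=
    (commute_lift_mul σ hsurj hc (2 ^ 7) hK zt at' 15 cop (by rw [hzt, hat]; exact oa)).symm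
  have hcomm := Cfsg.Agent.Lib.Helper49_J3M_F2.lifts_commute_of_fused σ hsurj hc hexp
    (jz h2 hω) (ja h2 hω) (jb h2 hω) (r_z2 h2 hω) ⟨jca h2 hω, r_ca h2 hω⟩
    ⟨jcb h2 hω, r_cb h2 hω⟩ ⟨jcab h2 hω, r_cab h2 hω⟩ ⟨jcza h2 hω, r_cza h2 hω⟩ zt at' hzt hat hcza
  have hcard := Cfsg.Agent.Lib.Helper70_J3M_Q2.two_part_triv σ hσ hK (jz h2 hω) (jx h2 hω)
    (jx2 h2 hω) (jx3 h2 hω) (jx4 h2 hω) (ja h2 hω) (jb h2 hω) (jg h2 hω) (jh h2 hω) rfl rfl rfl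
    (r_a2 h2 hω) (r_b2 h2 hω) (r_ab h2 hω) (r_zg h2 hω) (r_12 h2 hω) (r_13 h2 hω) (r_14 h2 hω)
    (r_23 h2 hω) (r_24 h2 hω) (r_34 h2 hω) (r_g1 h2 hω) (r_g2 h2 hω) (r_g3 h2 hω) (r_g4 h2 hω)
    (r_h h2 hω) ox oa ob (p_g h2 hω) (odd_index_S hF hω) (card_Q_ge hF hω) hcomm
  exact Subgroup.eq_bot_of_card_le σ.ker hcard

include hF hω in
/-- Every finite stem extension of `J₃` has a cyclic kernel of order dividing 3. -/
theorem bound (Γ : Type u) [Group Γ] [Finite Γ] (σ : Γ →* J3 F ω) (hσ : IsStemExtension σ) :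
    ∃ w ∈ σ.ker, (∀ z ∈ σ.ker, z ∈ Subgroup.zpowers w) ∧ w ^ 3 = 1 := by
  have h2 := two_eq_zero hF
  have hfin := finite_J3 hF hω
  have hodd := Cfsg.Agent.Lib.Helper35_J3M_O2.odd_order_of_exponent_two σ hσ
    (fun Γ' _ _ σ' hσ' h => two_part_J3 hF hω Γ' σ' hσ' h)
  have : Fact (Nat.Prime 5) := ⟨by norm_num⟩
  have : Fact (Nat.Prime 17) := ⟨by norm_num⟩
  have : Fact (Nat.Prime 19) := ⟨by norm_num⟩
  have n5 : j5 h2 hω ≠ 1 :=
    jw_ne_one_of_orderOf hF hω (p := 5) (by rw [orderOf_gw]; exact orderOf_w5 h2 hω) (by norm_num)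
  have n17 : j17 h2 hω ≠ 1 :=
    jw_ne_one_of_orderOf hF hω (p := 17) (by rw [orderOf_gw]; exact orderOf_w17 h2 hω) (by norm_num)
  have n19 : j19 h2 hω ≠ 1 :=
    jw_ne_one_of_orderOf hF hω (p := 19) (by rw [orderOf_gw]; exact orderOf_w19 h2 hω) (by norm_num)
  have hK : ∀ k ∈ σ.ker, k ^ (3 ^ 5) = 1 := by
    intro a ha
    have h5 := Helper8_StemTwo.pow_eq_one_of_prime σ hσ 5 (j5 h2 hω) (p_5 h2 hω) n5 a ha
    have h17 := Helper8_StemTwo.pow_eq_one_of_prime σ hσ 17 (j17 h2 hω) (p_17 h2 hω) n17 a ha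
    have h19 := Helper8_StemTwo.pow_eq_one_of_prime σ hσ 19 (j19 h2 hω) (p_19 h2 hω) n19 a ha
    rw [card_J3 hF hω] at h5 h17 h19
    have d5 := orderOf_dvd_of_pow_eq_one h5
    have d17 := orderOf_dvd_of_pow_eq_one h17
    have d19 := orderOf_dvd_of_pow_eq_one h19
    have d := Nat.dvd_gcd (Nat.dvd_gcd d5 d17) d19
    norm_num at d
    have ho := hodd a ha
    have hcop : Nat.Coprime (orderOf a) (2 ^ 7) :=
      Nat.Coprime.pow_right 7 (Nat.coprime_two_right.mpr ho)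
    have e : (31104 : ℕ) = 2 ^ 7 * 3 ^ 5 := by norm_num
    rw [e] at d
    exact orderOf_dvd_iff_pow_eq_one.mp (hcop.dvd_of_dvd_mul_left d)
  have hcard := Cfsg.Agent.Lib.Helper86_J3M_A3.three_part σ hσ 5 hK (jd1 h2 hω) (jd2 h2 hω)
    (t_z1d1 h2 hω) (t_z1d2 h2 hω) (t_z2d1 h2 hω) (t_z2d2 h2 hω) (t_e3 h2 hω) (t_d1 h2 hω)
    (t_d2 h2 hω) (facts_P hF hω).1 (facts_P hF hω).2
  exact Cfsg.Agent.Lib.Helper35_J3M_G3.exists_gen_of_card_le_three σ.ker hcard 5 hK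

end Main

end Cfsg.Agent.Lib.Helper26_J3M
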