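import Mathlib
import Cfsg.Agent.Lib.Helper26_VecEnum

/-!
Pointwise stabilisers in `Co0` of coded lattice vectors: the orbit-stabiliser step for a certified
configuration, and group elements attached to words of coordinate permutations.
-/

set_option autoImplicit false
open Cfsg

namespace Cfsg.Agent.Lib.Helper26_VecCode

open Cfsg.Agent.Lib.Helper26_Golay Cfsg.Agent.Lib.Helper26_Leech
open Cfsg.Agent.S5546 (e8 vec8)

/-- The pointwise stabiliser in `Co0` of the coded vectors of `B`. -/
def PS (B : List ℕ) : Subgroup ↥Co0 where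
  carrier := {g | ∀ f ∈ baseSet B, g.1 f = f}
  one_mem' := fun _ _ => rfl
  mul_mem' := by
    intro a b ha hb f hf
    show a.1 (b.1 f) = f
    rw [hb f hf, ha f hf]
  inv_mem' := by
    intro a ha f hf
    show (a.1)⁻¹ f = f
    exact Equiv.Perm.inv_eq_iff_eq.mpr (ha f hf).symm

theorem mem_PS (B : List ℕ) (g : ↥Co0) : g ∈ PS B ↔ ∀ f ∈ baseSet B, g.1 f = f := Iff.rfl

theorem PS_congr {B B' : List ℕ} (h : ∀ b, b ∈ B ↔ b ∈ B') : PS B = PS B' := by
  have : baseSet B = baseSet B' := by
    ext f
    constructor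
    · rintro ⟨b, hb, hf⟩; exact ⟨b, (h b).mp hb, hf⟩
    · rintro ⟨b, hb, hf⟩; exact ⟨b, (h b).mpr hb, hf⟩
  ext g
  rw [mem_PS, mem_PS, this]

theorem PS_anti {B B' : List ℕ} (h : ∀ b ∈ B, b ∈ B') : PS B' ≤ PS B := by
  intro g hg f hf
  obtain ⟨b, hb, hfb⟩ := hf
  exact hg f ⟨b, h b hb, hfb⟩

/-- Membership in `PS` through the codes. -/
theorem mem_PS_iff (B : List ℕ) (hB : ∀ b ∈ B, vecC b ∈ leechLattice) (g : ↥Co0) :
    g ∈ PS B ↔ ∀ b ∈ B, ∀ hb : vecC b ∈ leechLattice,
      ((g.1 ⟨vecC b, hb⟩ : leechLattice) : GolayPt → ℤ) = vecC b := by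
  constructor
  · intro hg b hb hbL
    rw [hg ⟨vecC b, hbL⟩ ⟨b, hb, rfl⟩]
  · intro h f hf
    obtain ⟨b, hb, hfb⟩ := hf
    have e : f = ⟨vecC b, hB b hb⟩ := Subtype.ext hfb
    rw [e]
    exact Subtype.ext (h b hb _)

/-- The orbit-stabiliser step of a certified configuration. -/
theorem card_step (cons : List Con) (hBL : ∀ c ∈ cons, vecC c.a ∈ leechLattice) (n : ℕ)
    (std : (minSet cons).ncard = n ∧
      ∀ x ∈ minSet cons, ∀ x' ∈ minSet cons, RelF (baseSet (baseOf cons)) x x')
    (y : ℕ) (hy : vecC y ∈ minSet cons) :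
    Nat.card (PS (baseOf cons)) = Nat.card (PS (baseOf cons ++ [y])) * n := by
  set G : Subgroup ↥Co0 := PS (baseOf cons) with hG
  set Y : leechLattice := ⟨vecC y, hy.1⟩ with hY
  have horb : MulAction.orbit G Y = Subtype.val ⁻¹' (minSet cons) := by
    ext x
    constructor
    · rintro ⟨g, rfl⟩
      show ((g.1.1 Y : leechLattice) : GolayPt → ℤ) ∈ minSet cons
      exact minSet_inv cons hBL (vecC y) _ ⟨g.1.1, g.1.2, g.2, hy.1, rfl⟩ hy
    · intro hx
      obtain ⟨g, hgC, hfix, hx0, hgx⟩ := std.2 _ hy _ hx
      exact ⟨⟨⟨g, hgC⟩, hfix⟩, Subtype.ext hgx⟩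
  have hcard : (MulAction.orbit G Y).ncard = n := by
    rw [horb, Set.ncard_preimage_of_injective_subset_range Subtype.val_injective, std.1]
    intro x hx
    exact ⟨⟨x, hx.1⟩, rfl⟩
  have hle : PS (baseOf cons ++ [y]) ≤ G :=
    PS_anti (fun b hb => List.mem_append_left _ hb)
  have hstab : MulAction.stabilizer G Y = (PS (baseOf cons ++ [y])).subgroupOf G := by
    ext g
    rw [MulAction.mem_stabilizer_iff, Subgroup.mem_subgroupOf]
    constructor
    · intro hg f hf
      obtain ⟨b, hb, hfb⟩ := hf
      rw [List.mem_append, List.mem_singleton] at hb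
      rcases hb with hb | rfl
      · exact g.2 f ⟨b, hb, hfb⟩
      · have : f = Y := Subtype.ext hfb
        rw [this]
        exact hg
    · intro hg
      exact hg Y ⟨y, List.mem_append_right _ (List.mem_singleton.mpr rfl), rfl⟩
  have h1 := Subgroup.card_mul_index (MulAction.stabilizer G Y)
  rw [MulAction.index_stabilizer, hcard, hstab,
    Nat.card_congr (Subgroup.subgroupOfEquivOfLe hle).toEquiv] at h1
  exact h1.symm

/-! ### Elements attached to words -/

/-- The word consists of coordinate permutations only. -/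
def permOnly (w : List Move) : Bool :=
  w.all (fun m => match m with
    | Move.perm _ _ => true
    | _ => false)

theorem okW_of_permOnly (w : List Move) (h : permOnly w = true) (c : ℕ) : okW w c = true := by
  induction w generalizing c with
  | nil => rfl
  | cons m w ih =>
    unfold permOnly at h
    rw [List.all_cons, Bool.and_eq_true] at h
    cases m with
    | perm T T' =>
      unfold okW
      rw [Bool.and_eq_true]
      exact ⟨rfl, ih h.2 _⟩
    | flip m => exact absurd h.1 (by simp)
    | xi => exact absurd h.1 (by simp)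

/-- The element `g` acts on all codes by the word `w`. -/
def Acts (g : ↥Co0) (w : List Move) : Prop :=
  ∀ c, ∀ hx : vecC c ∈ leechLattice,
    ((g.1 ⟨vecC c, hx⟩ : leechLattice) : GolayPt → ℤ) = vecC (applyW w c)

theorem exists_acts (w : List Move) (hg : goodW w = true) (hp : permOnly w = true) :
    ∃ g : ↥Co0, Acts g w := by
  obtain ⟨g, hgC, h⟩ := exists_elem_word w hg
  exact ⟨⟨g, hgC⟩, fun c hx => h c (okW_of_permOnly w hp c) hx⟩

theorem e8_eq_code (i : GolayPt) :
    ∃ h : vecC (code8 (idx i)) ∈ leechLattice, e8 i = ⟨vecC (code8 (idx i)), h⟩ := by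
  have hmem : vecC (code8 (idx i)) ∈ leechLattice := by
    rw [vecC_code8]; exact (e8 i).2
  exact ⟨hmem, Subtype.ext (vecC_code8 i).symm⟩

/-- Two elements acting by words which agree on the codes of the `8 e_i` are equal. -/
theorem acts_unique {g g' : ↥Co0} {w w' : List Move} (h : Acts g w) (h' : Acts g' w')
    (hww : ∀ i < 24, applyW w (code8 i) = applyW w' (code8 i)) : g = g' := by
  have key : ∀ i, g.1 (e8 i) = g'.1 (e8 i) := by
    intro i
    obtain ⟨hm, e⟩ := e8_eq_code i
    rw [e]
    apply Subtype.ext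
    rw [h _ hm, h' _ hm, hww _ (idx_lt i)]
  have h1 : (g'⁻¹ * g).1 = 1 := by
    apply co0_eq_one _ (g'⁻¹ * g).2
    intro i
    show (g'.1)⁻¹ (g.1 (e8 i)) = e8 i
    rw [key i]
    exact Equiv.symm_apply_apply _ _
  have h2 : g'⁻¹ * g = 1 := Subtype.ext h1
  calc g = g' * (g'⁻¹ * g) := by group
    _ = g' := by rw [h2, mul_one]

theorem acts_mul {g g' : ↥Co0} {w w' : List Move} (h : Acts g w) (h' : Acts g' w') :
    Acts (g' * g) (w ++ w') := by
  intro c hx
  have e1 := h c hx
  have hm : vecC (applyW w c) ∈ leechLattice := by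
    rw [← e1]; exact (g.1 ⟨vecC c, hx⟩).2
  have e2 : g.1 ⟨vecC c, hx⟩ = ⟨vecC (applyW w c), hm⟩ := Subtype.ext e1
  show ((g'.1 (g.1 ⟨vecC c, hx⟩) : leechLattice) : GolayPt → ℤ) = _
  rw [e2, h' _ hm]
  congr 1
  clear e1 e2 hm hx h
  induction w generalizing c with
  | nil => rfl
  | cons m w ih =>
    show applyW w' (applyW w (applyM m c)) = applyW (w ++ w') (applyM m c)
    exact ih _

theorem acts_one : Acts 1 [] := fun _ _ => rfl

/-- The element of `Co0` attached to a good word of coordinate permutations. -/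
noncomputable def elW (w : List Move) : ↥Co0 :=
  if h : goodW w = true ∧ permOnly w = true then Classical.choose (exists_acts w h.1 h.2) else 1

theorem elW_acts (w : List Move) (hg : goodW w = true) (hp : permOnly w = true) :
    Acts (elW w) w := by
  unfold elW
  rw [dif_pos ⟨hg, hp⟩]
  exact Classical.choose_spec (exists_acts w hg hp)

theorem goodW_append (w w' : List Move) (h : goodW w = true) (h' : goodW w' = true) :
    goodW (w ++ w') = true := by
  unfold goodW at *
  rw [List.all_append, h, h']
  rfl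

theorem permOnly_append (w w' : List Move) (h : permOnly w = true) (h' : permOnly w' = true) :
    permOnly (w ++ w') = true := by
  unfold permOnly at *
  rw [List.all_append, h, h']
  rfl

theorem elW_append (w w' : List Move) (hg : goodW w = true) (hp : permOnly w = true)
    (hg' : goodW w' = true) (hp' : permOnly w' = true) :
    elW (w ++ w') = elW w' * elW w :=
  acts_unique (elW_acts _ (goodW_append w w' hg hg') (permOnly_append w w' hp hp'))
    (acts_mul (elW_acts w hg hp) (elW_acts w' hg' hp')) (fun _ _ => rfl)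

theorem elW_nil : elW [] = 1 :=
  acts_unique (elW_acts [] rfl rfl) acts_one (fun _ _ => rfl)

/-- Equality of the elements attached to two words, by the images of the `8 e_i`. -/
theorem elW_eq (w w' : List Move) (hg : goodW w = true) (hp : permOnly w = true)
    (hg' : goodW w' = true) (hp' : permOnly w' = true)
    (h : allFold (fun i => Nat.beq (applyW w (code8 i)) (applyW w' (code8 i))) 24 = true) :
    elW w = elW w' := by
  rw [allFold_eq_true] at h
  exact acts_unique (elW_acts w hg hp) (elW_acts w' hg' hp')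
    (fun i hi => Nat.eq_of_beq_eq_true (h i hi))

/-- The action of the element attached to a word on a coded vector. -/
theorem elW_apply (w : List Move) (hg : goodW w = true) (hp : permOnly w = true) (c : ℕ)
    (x : leechLattice) (hx : (x : GolayPt → ℤ) = vecC c) :
    (((elW w).1 x : leechLattice) : GolayPt → ℤ) = vecC (applyW w c) := by
  have hm : vecC c ∈ leechLattice := by rw [← hx]; exact x.2
  have e : x = ⟨vecC c, hm⟩ := Subtype.ext hx
  rw [e]
  exact elW_acts w hg hp c hm

/-- The element attached to a word fixing the codes of `B` lies in `PS B`. -/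
theorem elW_mem_PS (w : List Move) (hg : goodW w = true) (hp : permOnly w = true) (B : List ℕ)
    (h : B.all (fun b => Nat.beq (applyW w b) b) = true) : elW w ∈ PS B := by
  intro f hf
  obtain ⟨b, hb, hfb⟩ := hf
  rw [List.all_eq_true] at h
  apply Subtype.ext
  rw [elW_apply w hg hp b f hfb, Nat.eq_of_beq_eq_true (h b hb), hfb]

end Cfsg.Agent.Lib.Helper26_VecCode
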