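import Mathlib
import Cfsg.Agent.Lib.Helper26_VecGroup

/-! Data for a Sylow 2-subgroup of the McLaughlin group in the Leech model (generated): codes of the
base vectors, four involutions generating the Sylow subgroup, conjugating permutations, and words
for its 128 elements. -/

set_option autoImplicit false

namespace Cfsg.Agent.Lib.Helper26_McLSyl

open Cfsg.Agent.Lib.Helper26_VecCode

/-- The code of `[0, 0, 0, 0, 4, 0, 0, 0, 0, 0, 0, 0, 0, 4, 0, 0, 0, 0, 0, 0, 0, 0, 0, 0]`. -/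
def cv : ℕ := 686053159114795436814627201438204432

/-- The code of `[1, 1, 1, 1, -3, 1, 1, 1, 1, 1, 1, 1, 1, 1, 1, 1, 1, 1, 1, 1, 1, 1, 1, 1]`. -/
def cw : ℕ := 728931481559469994818216774988252721

/-- The code of `[0, 0, 0, 0, -4, 0, 0, 0, 0, 0, 0, 0, 0, 4, 0, 0, 0, 0, 0, 0, 0, 0, 0, 0]`. -/
def cp1 : ℕ := 686053159114795436814627201429815824

/-- The code of `[0, 0, 0, 0, 2, 0, 0, 2, 0, 0, 0, 0, 0, 2, 2, 2, 2, 0, 2, 0, 0, 0, 0, 2]`. -/
def ch : ℕ := 769129911329728454341096073878585872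

/-- The code of `[0, 0, 0, 0, 0, 0, 0, 4, 0, 0, 0, 0, 0, 0, 0, 0, 4, 0, 0, 0, 0, 0, 0, 0]`. -/
def cd : ℕ := 686053159119630992519133265895375376

/-- The code of `[0, 0, 0, 0, 4, 0, 0, 4, 0, 0, 0, 0, 0, 0, 0, 0, 0, 0, 0, 0, 0, 0, 0, 0]`. -/
def cf7 : ℕ := 686053159114795289240674749200744976

/-- The code of `[0, 0, 0, 0, 4, 0, 0, 0, 0, 0, 0, 0, 0, 0, 0, 0, 4, 0, 0, 0, 0, 0, 0, 0]`. -/
def cf16 : ℕ := 686053159119630992519133128460616208

/-- The code of `[0, 0, 0, 0, 0, 0, 0, 0, 0, 0, 0, 0, 0, 0, 4, 4, 0, 0, 0, 0, 0, 0, 0, 0]`. -/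
def cq1 : ℕ := 686053159114951127334609310049649168

/-- The code of `[0, 0, 0, 0, 0, 0, 0, 0, 0, 0, 0, 0, 0, 0, 0, 0, 0, 0, 4, 0, 0, 0, 0, 4]`. -/
def cq2 : ℕ := 852206663539669930495171593889137168

/-- The code of `[0, 0, 0, 0, 0, 0, 0, 0, 0, 0, 0, 0, 0, 0, 0, 4, 0, 0, 4, 0, 0, 0, 0, 0]`. -/
def cq3 : ℕ := 686053164066706562109647540000932368

/-- The code of `[0, 0, 0, 0, 0, 0, 0, 0, 0, 0, 0, 0, 0, 0, 4, 0, 0, 0, 0, 0, 0, 0, 0, 4]`. -/
def cq4 : ℕ := 852206658587914495720133363937853968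

/-- The code of `[0, 0, 0, 0, 0, 0, 0, 0, 0, 0, 0, 0, 0, 0, 0, 4, 0, 0, 0, 0, 0, 0, 0, 4]`. -/
def cq5 : ℕ := 852206658588060889081102322939478544

/-- The code of `[0, 0, 0, 0, 0, 0, 0, 0, 0, 0, 0, 0, 0, 0, 4, 0, 0, 0, 4, 0, 0, 0, 0, 0]`. -/
def cq6 : ℕ := 686053164066560168748678580999307792

/-- The code of `[3, -1, -1, -1, 1, -1, 1, 1, 1, 1, -1, 1, -1, 1, 1, -1, -1, -1, 1, 1, -1, -1, 1, 1]`. -/
def cu : ℕ := 728847816539990267411331743632309747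

/-- Four involutions generating the Sylow subgroup. -/
def sgenL : List Move := [Move.perm 762386056042936166061358540231120928 762386056042936166061358540231120928,
  Move.perm 648008664277506069751139048571907232 648008664277506069751139048571907232,
  Move.perm 756338174180038548121402889484938241 756338174180038548121402889484938241,
  Move.perm 956905568786817231449680960895156930 956905568786817231449680960895156930]

/-- Coordinate permutations conjugating the central involution to the four generators. -/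
def hconjL : List Move := [Move.perm 404195664103586910192372494371429715 929798905114181172549081654043583056,
  Move.perm 671533517321759180260463047051259379 378235273364778640461720629251910864,
  Move.perm 652592330431426487083295189367823744 901497909007063905652673991733028960,
  Move.perm 586132015361582907930798037154210848 634985606049671605183074872834329632]

/-- Two elements of the group of order 384 moving the pair. -/
def mk1 : Move := Move.perm 957171651077376972723506433921144896 958435539538992624868084762681149120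
def mk2 : Move := Move.perm 595217835313047542530811820545552576 629935378906207562149003375136755040

/-- Index words for the 128 elements. -/
def idxL : List (List ℕ) := [[0, 2, 1, 0, 2, 3], [1, 0, 3, 0, 3], [2, 1, 0, 2], [1, 3], [0, 2, 3, 1, 3], [0, 1, 3], [2, 1, 0, 2, 3], [1, 0, 3, 0], [0, 1], [0, 2, 3, 1], [0, 2, 1], [0, 1, 0, 3, 0], [3, 1], [0, 3, 1, 3], [2, 3, 1, 3], [0, 3, 1], [3, 1, 3], [2, 1, 3], [0, 1, 0, 3, 0, 3], [2, 3, 1], [1, 0, 2], [0, 2, 1, 0, 3, 0], [2, 1, 0, 3, 0], [1, 0, 1, 2, 1, 2], [0, 1, 0, 1, 2, 1, 2], [0, 2, 1, 0, 2], [1], [2, 1], [0, 1, 0, 2], [0, 2, 1, 3], [0, 1, 0, 2, 3], [1, 0, 2, 3], [1, 0, 1, 2, 1], [2, 1, 2, 3], [0, 2, 1, 2, 3], [3], [3, 2, 3], [0, 2], [0, 1, 2], [0, 1, 3, 2], [0, 2, 1, 3, 0, 3], [0, 3, 0], [2, 1, 0, 1], [1, 0, 3, 1, 3], [1, 2, 1, 2, 3], [0, 1, 2, 3, 1], [1, 0], [1, 2, 1, 0], [1, 0, 3, 1], [0, 1, 0, 3, 1], [0, 3], [1, 3, 2], [0, 1, 3, 0], [0,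 1, 0, 2, 1, 3, 0], [1, 0, 1, 3, 0], [1, 0, 2, 1, 3, 0], [1, 0, 2, 1], [0, 1, 2, 1, 2, 3], [2, 1, 0, 3], [1, 0, 2, 3, 1], [0, 1, 2, 1, 2], [1, 0, 2, 1, 2], [1, 3, 0], [1, 2, 1, 3, 0], [3, 0], [0, 1, 2, 1, 3, 0], [0, 1, 0, 2, 1, 0], [1, 0, 1, 2], [2, 1, 0, 2, 1], [0, 1, 0, 2, 1, 2, 3], [1, 2], [0, 1, 0, 1], [0, 2, 1, 0, 2, 1], [0, 2, 1, 0, 1], [0, 1, 0, 3], [0, 1, 3, 0, 3], [1, 0, 3], [0, 1, 0, 1, 3, 0], [1, 0, 1], [1, 0, 2, 1, 2, 3], [0, 1, 0, 2, 1], [0, 2, 1, 2], [2, 1, 2], [1, 2, 1, 3], [0, 1, 0, 2, 1, 3], [0, 2, 1, 3, 2], [2, 1, 3, 0], [2, 1, 0], [1, 3, 2, 3], [0, 3, 0, 3], [0, 1, 0, 1, 3], [3, 2], [1, 2, 1, 0, 2], [0, 3, 2], [0, 1, 2, 1], [0, 1, 0, 1, 2, 1], [], [0, 1, 2, 1, 0, 2], [2], [0, 2, 1, 0, 3], [1, 2, 3, 1], [0, 2, 1, 3, 0], [0], [1, 0, 1, 3], [0, 1, 3, 2, 3], [0, 1, 2, 1, 0], [0, 1, 0, 2, 3, 1], [0, 2, 1, 0], [0, 1, 0], [3, 0, 3], [1, 2, 1], [2, 1, 3, 0, 3], [0, 1, 0, 1, 2], [1,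 0, 2, 1, 0], [0, 3, 2, 3], [1, 3, 0, 3], [0, 1, 0, 3, 1, 3], [1, 2, 1, 2], [0, 1, 0, 2, 1, 2], [2, 1, 3, 2], [0, 1, 2, 1, 3], [1, 0, 2, 1, 3], [1, 2, 3], [2, 3], [0, 1, 0, 1, 2, 3], [0, 1, 2, 3], [0, 2, 3], [1, 0, 1, 2, 3]]

/-- The `i`-th generator. -/
def sgen (i : ℕ) : Move := sgenL.getD i Move.xi

/-- The `i`-th conjugating permutation. -/
def hconj (i : ℕ) : Move := hconjL.getD i Move.xi

/-- The word of the `j`-th element. -/
def wm (j : ℕ) : List Move := (idxL.getD j []).map sgen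

/-- The index of the identity. -/
def j1 : ℕ := 96

/-- The index of the central involution. -/
def jz : ℕ := 114

/-- Index words of an element acting as a 4-cycle on the tetrad, and of its square. -/
def e1L : List ℕ := [2, 1, 0, 2]
def e2L : List ℕ := [0, 1, 0, 3, 1, 3]

/-- The index of a generator moving the second pair. -/
def i0 : ℕ := 0

end Cfsg.Agent.Lib.Helper26_McLSyl
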