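import Mathlib
import Cfsg.Agent.Lib.Helper26_McLSylData
import Cfsg.Agent.Lib.Helper26_CfgMC2025
import Cfsg.Agent.Lib.Helper26_CfgML77
import Cfsg.Agent.Lib.Helper26_CfgML6
import Cfsg.Agent.Lib.Helper26_CfgML5
import Cfsg.Agent.Lib.Helper26_CfgML2

/-! Kernel-checked facts on the data of `Helper26_McLSylData` (helper26). -/

set_option autoImplicit false

namespace Cfsg.Agent.Lib.Helper26_McLSyl

open Cfsg.Agent.Lib.Helper26_VecCode Cfsg.Agent.Lib.Helper26_Golay

/-- The codes of the five vectors fixed by the group of order 384. -/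
def B5 : List ℕ := [cv, cw, cp1, ch, cd]

/-- The move is a coordinate permutation. -/
def isPermM : Move → Bool
  | Move.perm _ _ => true
  | _ => false

/-- The move preserves the pair of codes `cq1`, `cq2`. -/
def pairOK (m : Move) : Bool :=
  (Nat.beq (applyM m cq1) cq1 && Nat.beq (applyM m cq2) cq2) ||
    (Nat.beq (applyM m cq1) cq2 && Nat.beq (applyM m cq2) cq1)

/-- The tables of the configurations. -/
def tA (j : ℕ) : ℕ := tAtL Cfsg.Agent.Lib.Helper26_CfgMC2025.tblTL 1024 j
def tB (j : ℕ) : ℕ := tAtL Cfsg.Agent.Lib.Helper26_CfgML77.tblTL 1024 j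
def tC (j : ℕ) : ℕ := tAtL Cfsg.Agent.Lib.Helper26_CfgML6.tblTL 1024 j
def tD (j : ℕ) : ℕ := tAtL Cfsg.Agent.Lib.Helper26_CfgML2.tblTL 1024 j

theorem moves_ok :
    (sgenL ++ hconjL ++ [mk1, mk2]).all (fun m => goodM m && isPermM m) = true := by
  decide +kernel

theorem sgen_fix :
    sgenL.all (fun m => B5.all (fun b => Nat.beq (applyM m b) b) && pairOK m) = true := by
  decide +kernel

theorem hconj_fix :
    hconjL.all (fun m => [cv, cw].all (fun b => Nat.beq (applyM m b) b)) = true := by
  decide +kernel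

theorem k_fix : [mk1, mk2].all (fun m => B5.all (fun b => Nat.beq (applyM m b) b)) = true := by
  decide +kernel

theorem k1_img : (Nat.beq (applyM mk1 cq1) cq3 && Nat.beq (applyM mk1 cq2) cq4) = true := by
  decide +kernel

theorem k2_img : (Nat.beq (applyM mk2 cq1) cq5 && Nat.beq (applyM mk2 cq2) cq6) = true := by
  decide +kernel

theorem q_distinct : [cq1, cq2, cq3, cq4, cq5, cq6].Nodup := by decide +kernel

theorem conj_ok : allFold (fun i => allFold (fun t =>
    Nat.beq (applyW [hconj i, sgen i] (code8 t)) (applyW (wm jz ++ [hconj i]) (code8 t))) 24) 4 =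
    true := by
  decide +kernel

theorem words_ok : allFold (fun j => goodW (wm j) && permOnly (wm j)) 128 = true := by
  decide +kernel

theorem wm_j1 : wm j1 = [] := by decide +kernel

theorem inc_ok :
    allFold (fun j => Nat.blt (applyW (wm j) cu) (applyW (wm (j + 1)) cu)) 127 = true := by
  decide +kernel

theorem noncentral_ok : allFold (fun j => Nat.beq j j1 || Nat.beq j jz ||
    sgenL.any (fun m => !(Nat.beq (applyW (wm j ++ [m]) cu) (applyW (m :: wm j) cu)))) 128 =
    true := by
  decide +kernel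

set_option maxRecDepth 1000000 in
theorem fixA_ok : allFold (fun j => Nat.beq (tA j) cp1 ||
    sgenL.any (fun m => !(Nat.beq (applyM m (tA j)) (tA j)))) 2025 = true := by
  decide +kernel

theorem fixB_ok : allFold (fun j => Nat.beq (tB j) ch ||
    sgenL.any (fun m => !(Nat.beq (applyM m (tB j)) (tB j)))) 77 = true := by
  decide +kernel

theorem fixC_ok : allFold (fun j => Nat.beq (tC j) cf7 || Nat.beq (tC j) cf16 ||
    (!(Nat.beq (applyW (e1L.map sgen) (tC j)) (tC j)) &&
     !(Nat.beq (applyW (e2L.map sgen) (tC j)) (tC j)) &&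
     !(Nat.beq (applyW (e1L.map sgen) (tC j)) (applyW (e2L.map sgen) (tC j))))) 6 = true := by
  decide +kernel

theorem eL_ok : (goodW (e1L.map sgen) && permOnly (e1L.map sgen) && goodW (e2L.map sgen) &&
    permOnly (e2L.map sgen)) = true := by
  decide +kernel

theorem tD_ok : allFold (fun j => Nat.beq (tD j) cf7 || Nat.beq (tD j) cf16) 2 = true := by
  decide +kernel

theorem k7_ok : (!(Nat.beq (applyM (sgen i0) cq3) cq3) && !(Nat.beq (applyM (sgen i0) cq3) cq4)) =
    true := by
  decide +kernel

theorem f_ne : cf7 ≠ cf16 := by decide +kernel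

/-! ### Lattice membership of the coded vectors -/

open Cfsg Cfsg.Agent.Lib.Helper7_Xi

theorem cv_mem : vecC cv ∈ leechLattice := mem_of_cert _ 0 (by decide +kernel)
theorem cv_lt : cv < 2 ^ 120 := by decide +kernel
theorem cw_mem : vecC cw ∈ leechLattice := mem_of_cert _ 16777215 (by decide +kernel)
theorem cw_lt : cw < 2 ^ 120 := by decide +kernel
theorem cp1_mem : vecC cp1 ∈ leechLattice := mem_of_cert _ 0 (by decide +kernel)
theorem cp1_lt : cp1 < 2 ^ 120 := by decide +kernel
theorem ch_mem : vecC ch ∈ leechLattice := mem_of_cert _ 8773776 (by decide +kernel)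
theorem ch_lt : ch < 2 ^ 120 := by decide +kernel
theorem cd_mem : vecC cd ∈ leechLattice := mem_of_cert _ 0 (by decide +kernel)
theorem cd_lt : cd < 2 ^ 120 := by decide +kernel
theorem cf7_mem : vecC cf7 ∈ leechLattice := mem_of_cert _ 0 (by decide +kernel)
theorem cf7_lt : cf7 < 2 ^ 120 := by decide +kernel
theorem cf16_mem : vecC cf16 ∈ leechLattice := mem_of_cert _ 0 (by decide +kernel)
theorem cf16_lt : cf16 < 2 ^ 120 := by decide +kernel
theorem cq1_mem : vecC cq1 ∈ leechLattice := mem_of_cert _ 0 (by decide +kernel)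
theorem cq1_lt : cq1 < 2 ^ 120 := by decide +kernel
theorem cq2_mem : vecC cq2 ∈ leechLattice := mem_of_cert _ 0 (by decide +kernel)
theorem cq2_lt : cq2 < 2 ^ 120 := by decide +kernel
theorem cq3_mem : vecC cq3 ∈ leechLattice := mem_of_cert _ 0 (by decide +kernel)
theorem cq3_lt : cq3 < 2 ^ 120 := by decide +kernel
theorem cq4_mem : vecC cq4 ∈ leechLattice := mem_of_cert _ 0 (by decide +kernel)
theorem cq4_lt : cq4 < 2 ^ 120 := by decide +kernel
theorem cq5_mem : vecC cq5 ∈ leechLattice := mem_of_cert _ 0 (by decide +kernel)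
theorem cq5_lt : cq5 < 2 ^ 120 := by decide +kernel
theorem cq6_mem : vecC cq6 ∈ leechLattice := mem_of_cert _ 0 (by decide +kernel)
theorem cq6_lt : cq6 < 2 ^ 120 := by decide +kernel
theorem cu_mem : vecC cu ∈ leechLattice := mem_of_cert _ 13396944 (by decide +kernel)
theorem cu_lt : cu < 2 ^ 120 := by decide +kernel

end Cfsg.Agent.Lib.Helper26_McLSyl
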