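import Cfsg.Agent.Lib.Helper93_McLData0

/-!
Inequalities `(a^k e^j)⁷ ≠ 1` for `k = 1, 10`, `j = 2, 3`, and `(a² t e)⁵ ≠ 1`.
(Generated data: integer matrices of `8 g` for automorphisms `g` of the rank-24 lattice, and the
products relating them.)
-/

set_option autoImplicit false
set_option linter.constructorNameAsVariable false
open Cfsg
open scoped Pointwise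

namespace Cfsg.Agent.Lib.Helper93_McLData

open Cfsg.Agent.Lib.Helper7_M24 Cfsg.Agent.Lib.Helper7_Leech Cfsg.Agent.Lib.Helper92_Monomial
  Cfsg.Agent.Lib.Helper7_Mono Cfsg.Agent.Lib.Helper92_QuadAut Cfsg.Agent.Lib.Helper93_McLElt
  Cfsg.Agent.Lib.Helper92_ZElt Cfsg.Agent.Lib.Helper7_Bits Cfsg.Agent.Lib.Helper93_McLRep
  Cfsg.Agent.Lib.Helper93_McLPerm Cfsg.Agent.Lib.Helper92_Co3Cent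
  Cfsg.Agent.Lib.Helper93_OutM24 Cfsg.Agent.Lib.Helper93_M24Obj
open Cfsg.Agent.S5546 (Lam vec8 e8)



/-- The matrix `F2a`. -/
def F2a : Matrix GolayPt GolayPt ℤ := ofL
  [[5, -1, -1, 1, -1, -1, -1, -1, -1, -1, -1, 1, -1, -1, 1, -3, -1, 1, -1, 1, -1, -1, 1, 3],
   [-1, 1, -3, -1, -3, 1, 1, 1, 1, 1, 1, -1, -3, 1, 3, -1, 1, -1, 1, 3, 1, 1, -1, 1],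
   [-1, 1, 1, -1, 1, -3, 1, 1, 1, 1, 1, 3, -3, 1, -1, -1, 1, 3, 1, -1, -3, 1, -1, 1],
   [-1, -3, 1, -1, 1, 1, 1, 1, 1, 1, 1, -1, 1, -3, -1, -1, 1, 3, -3, 3, 1, 1, -1, 1],
   [-1, 1, 1, -1, 1, -3, 1, 1, 1, 1, -3, -1, 1, -3, 3, -1, 1, -1, 1, -1, 1, 1, 3, 1],
   [1, 3, -1, 1, 3, 3, -1, 3, 3, -1, -1, 1, -1, -1, 1, 1, -1, 1, -1, 1, -1, -1, 1, -1],
   [-3, -1, -1, 1, -1, -1, -1, -1, -1, -1, -1, 1, -1, -1, 1, 5, -1, 1, -1, 1, -1, -1, 1, 3],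
   [1, -1, -1, 1, -1, -1, -1, -1, 3, 3, -1, 1, 3, 3, 1, 1, 3, 1, -1, 1, -1, -1, 1, -1],
   [-1, 1, 1, -1, 1, 1, 1, -3, 1, 1, 1, -1, 1, 1, -1, -1, -3, -1, 1, 3, -3, 1, 3, 1],
   [-1, -3, 1, -1, 1, 1, -3, 1, 1, 1, 1, 3, 1, 1, 3, -1, -3, -1, 1, -1, 1, 1, -1, 1],
   [-1, 1, 1, 3, 1, -3, -3, 1, 1, -3, 1, -1, 1, 1, -1, -1, 1, -1, 1, 3, 1, 1, -1, 1],
   [1, -1, 3, 1, -1, 3, -1, -1, -1, -1, -1, 1, -1, -1, 1, 1, 3, 1, 3, 1, -1, 3, 1, -1],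
   [-1, 1, 1, -1, 1, 1, 1, -3, 1, -3, 1, -1, 1, 1, 3, -1, 1, 3, 1, -1, 1, -3, -1, 1],
   [-1, 1, 1, -1, 1, 1, 1, 1, -3, 1, -3, 3, 1, 1, -1, -1, 1, -1, 1, 3, 1, -3, -1, 1],
   [-1, 1, -3, 3, 1, 1, 1, -3, 1, 1, 1, 3, 1, -3, -1, -1, 1, -1, 1, -1, 1, 1, -1, 1],
   [1, 3, 3, 1, -1, -1, -1, -1, -1, 3, 3, 1, -1, -1, 1, 1, -1, 1, -1, 1, 3, -1, 1, -1],
   [-1, 1, -3, -1, 1, 1, -3, 1, -3, 1, 1, -1, 1, 1, -1, -1, 1, 3, 1, -1, 1, 1, 3, 1],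
   [-1, 1, 1, 3, 1, 1, 1, 1, -3, 1, 1, -1, 1, 1, 3, -1, 1, -1, -3, -1, -3, 1, -1, 1],
   [-1, 1, 1, -1, -3, 1, 1, 1, 1, -3, 1, 3, 1, 1, -1, -1, 1, -1, -3, -1, 1, 1, 3, 1],
   [-1, -3, 1, 3, 1, 1, 1, 1, 1, 1, 1, -1, -3, 1, -1, -1, 1, -1, 1, -1, 1, -3, 3, 1],
   [-1, 1, 1, 3, -3, 1, 1, 1, 1, 1, -3, -1, 1, 1, -1, -1, -3, 3, 1, -1, 1, 1, -1, 1],
   [1, -1, -1, 1, -1, -1, 3, 3, -1, -1, 3, 1, 3, -1, 1, 1, -1, 1, 3, 1, -1, -1, 1, -1],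
   [1, -1, -1, 1, 3, -1, 3, -1, -1, -1, -1, 1, -1, 3, 1, 1, -1, 1, -1, 1, 3, 3, 1, -1],
   [3, 1, 1, -1, 1, 1, 1, 1, 1, 1, 1, -1, 1, 1, -1, 3, 1, -1, 1, -1, 1, 1, -1, 5]]

/-- The matrix `F2a_2`. -/
def F2a_2 : Matrix GolayPt GolayPt ℤ := ofL
  [[5, -3, -1, 1, 1, 1, 1, -1, -1, -1, -1, -1, -1, -1, -1, -1, 1, -1, -1, -1, -1, 1, -1, 3],
   [-1, -1, -3, 3, -1, 3, -1, 1, 1, 1, 1, 1, 1, 1, -3, 1, -1, -3, 1, 1, 1, -1, 1, 1],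
   [-1, -1, 1, -1, -1, -1, -1, 1, -3, 1, 1, 1, 1, 1, 1, 1, 3, -3, 1, 1, -3, 3, 1, 1],
   [-1, -1, 1, 3, 3, -1, -1, 1, 1, 1, 1, -3, 1, 1, 1, 1, -1, 1, 1, -3, -3, -1, 1, 1],
   [-1, -1, -3, -1, -1, -1, 3, -3, 1, 1, 1, 1, 1, 1, 1, 1, -1, 1, 1, -3, 1, 3, 1, 1],
   [1, 1, -1, 1, 1, 1, 1, -1, 3, 3, -1, -1, -1, -1, 3, -1, 1, -1, -1, 3, -1, 1, 3, -1],
   [1, 1, 3, 1, 1, 1, 1, -1, -1, 3, 3, -1, -1, -1, -1, 3, 1, -1, -1, -1, 3, 1, -1, -1],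
   [-1, -1, 1, -1, 3, 3, -1, -3, -3, 1, 1, 1, 1, 1, 1, -3, -1, 1, 1, 1, 1, -1, 1, 1],
   [-1, -1, 1, -1, 3, -1, 3, 1, 1, -3, 1, 1, -3, 1, 1, 1, -1, -3, 1, 1, 1, -1, 1, 1],
   [1, 1, 3, 1, 1, 1, 1, -1, 3, -1, -1, 3, 3, -1, -1, -1, 1, -1, 3, -1, -1, 1, -1, -1],
   [-1, -1, 1, -1, -1, -1, 3, 1, 1, 1, 1, -3, 1, 1, -3, -3, 3, 1, 1, 1, 1, -1, 1, 1],
   [1, 1, -1, 1, 1, 1, 1, 3, -1, -1, 3, 3, -1, -1, -1, -1, 1, 3, -1, -1, -1, 1, 3, -1],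
   [-3, 5, -1, 1, 1, 1, 1, -1, -1, -1, -1, -1, -1, -1, -1, -1, 1, -1, -1, -1, -1, 1, -1, 3],
   [-1, -1, 1, -1, -1, 3, -1, 1, 1, 1, -3, 1, -3, 1, 1, 1, 3, 1, 1, -3, 1, -1, 1, 1],
   [-1, -1, 1, -1, -1, 3, -1, 1, 1, -3, 1, -3, 1, -3, 1, 1, -1, 1, 1, 1, 1, 3, 1, 1],
   [-1, -1, 1, 3, -1, -1, -1, 1, 1, 1, 1, 1, -3, 1, 1, -3, -1, 1, 1, 1, 1, 3, -3, 1],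
   [1, 1, -1, 1, 1, 1, 1, 3, -1, -1, -1, -1, 3, 3, 3, -1, 1, -1, -1, -1, 3, 1, -1, -1],
   [-1, -1, -3, -1, 3, -1, -1, 1, 1, 1, 1, 1, 1, -3, 1, 1, 3, 1, 1, 1, 1, -1, -3, 1],
   [1, 1, -1, 1, 1, 1, 1, -1, -1, -1, -1, -1, -1, 3, -1, 3, 1, 3, 3, 3, -1, 1, -1, -1],
   [-1, -1, 1, -1, 3, -1, -1, 1, 1, 1, -3, 1, 1, 1, -3, 1, -1, 1, -3, 1, 1, 3, 1, 1],
   [-1, -1, 1, -1, -1, 3, 3, 1, 1, 1, 1, 1, 1, 1, 1, 1, -1, 1, -3, 1, -3, -1, -3, 1],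
   [-1, -1, 1, 3, -1, -1, -1, -3, 1, -3, 1, 1, 1, 1, 1, 1, 3, 1, -3, 1, 1, -1, 1, 1],
   [-1, -1, 1, 3, -1, -1, 3, 1, -3, 1, -3, 1, 1, -3, 1, 1, -1, 1, 1, 1, 1, -1, 1, 1],
   [3, 3, 1, -1, -1, -1, -1, 1, 1, 1, 1, 1, 1, 1, 1, 1, -1, 1, 1, 1, 1, -1, 1, 5]]

/-- The matrix `F2a_4`. -/
def F2a_4 : Matrix GolayPt GolayPt ℤ := ofL
  [[6, 0, 0, 0, 0, -2, 0, -2, 0, 0, 0, -2, 0, 0, 2, 0, 0, 0, -2, -2, 0, 0, 0, 2],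
   [0, 2, 2, 2, 2, 0, 2, 0, 2, 2, -2, 0, -2, 2, 0, -2, -2, 2, 0, 0, -2, -2, 2, 0],
   [0, 2, 2, 2, -2, 0, -2, 0, -2, -2, -2, 0, 2, 2, 0, -2, 2, 2, 0, 0, 2, 2, 2, 0],
   [-2, 0, 0, 0, 0, -2, 0, -2, 0, 0, 0, -2, 0, 0, 2, 0, 0, 0, 6, -2, 0, 0, 0, 2],
   [0, 2, 2, 2, -2, 0, 2, 0, 2, -2, 2, 0, -2, -2, 0, 2, 2, 2, 0, 0, 2, -2, -2, 0],
   [0, -2, 2, 2, 2, 0, 2, 0, 2, -2, -2, 0, 2, -2, 0, 2, -2, -2, 0, 0, 2, 2, 2, 0],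
   [0, -2, 2, 2, -2, 0, 2, 0, 2, 2, 2, 0, 2, 2, 0, -2, 2, -2, 0, 0, -2, 2, -2, 0],
   [0, 2, -2, -2, -2, 0, 2, 0, 2, 2, -2, 0, 2, -2, 0, 2, 2, 2, 0, 0, -2, 2, 2, 0],
   [0, -2, 2, -2, -2, 0, 2, 0, -2, 2, 2, 0, -2, 2, 0, 2, -2, 2, 0, 0, 2, 2, 2, 0],
   [0, 2, -2, 2, 2, 0, 2, 0, -2, -2, 2, 0, -2, 2, 0, 2, 2, -2, 0, 0, -2, 2, 2, 0],
   [0, 2, 2, -2, 2, 0, 2, 0, -2, 2, -2, 0, 2, 2, 0, 2, 2, -2, 0, 0, 2, -2, -2, 0],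
   [0, -2, -2, 2, 2, 0, 2, 0, -2, 2, 2, 0, 2, -2, 0, -2, 2, 2, 0, 0, 2, -2, 2, 0],
   [0, 2, -2, 2, -2, 0, -2, 0, 2, 2, 2, 0, 2, 2, 0, 2, -2, -2, 0, 0, 2, -2, 2, 0],
   [2, 0, 0, 0, 0, 2, 0, 2, 0, 0, 0, 2, 0, 0, 6, 0, 0, 0, 2, 2, 0, 0, 0, -2],
   [-2, 0, 0, 0, 0, -2, 0, -2, 0, 0, 0, -2, 0, 0, 2, 0, 0, 0, -2, 6, 0, 0, 0, 2],
   [0, -2, 2, -2, 2, 0, -2, 0, 2, -2, 2, 0, 2, 2, 0, 2, 2, 2, 0, 0, -2, -2, 2, 0],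
   [-2, 0, 0, 0, 0, 6, 0, -2, 0, 0, 0, -2, 0, 0, 2, 0, 0, 0, -2, -2, 0, 0, 0, 2],
   [0, 2, -2, -2, 2, 0, 2, 0, 2, -2, 2, 0, 2, 2, 0, -2, -2, 2, 0, 0, 2, 2, -2, 0],
   [0, -2, -2, 2, 2, 0, -2, 0, 2, 2, -2, 0, -2, 2, 0, 2, 2, 2, 0, 0, 2, 2, -2, 0],
   [-2, 0, 0, 0, 0, -2, 0, -2, 0, 0, 0, 6, 0, 0, 2, 0, 0, 0, -2, -2, 0, 0, 0, 2],
   [0, 2, 2, -2, 2, 0, -2, 0, 2, 2, 2, 0, -2, -2, 0, -2, 2, -2, 0, 0, 2, 2, 2, 0],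
   [-2, 0, 0, 0, 0, -2, 0, 6, 0, 0, 0, -2, 0, 0, 2, 0, 0, 0, -2, -2, 0, 0, 0, 2],
   [0, 2, 2, 2, 2, 0, -2, 0, -2, 2, 2, 0, 2, -2, 0, 2, -2, 2, 0, 0, -2, 2, -2, 0],
   [2, 0, 0, 0, 0, 2, 0, 2, 0, 0, 0, 2, 0, 0, -2, 0, 0, 0, 2, 2, 0, 0, 0, 6]]

theorem F2a_mul : Ma * E2 = (8 : ℤ) • F2a := by decide +kernel

theorem F2a_mul2 : F2a * F2a = (8 : ℤ) • F2a_2 := by decide +kernel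

theorem F2a_mul4 : F2a_2 * F2a_2 = (8 : ℤ) • F2a_4 := by decide +kernel

/-- The matrix `F2a_6`. -/
def F2a_6 : Matrix GolayPt GolayPt ℤ := ofL
  [[4, -2, 0, 0, -2, 0, 0, 0, 0, -2, 0, -2, 0, -2, 0, 0, 0, -2, 0, -2, 0, 0, -2, 4],
   [0, -2, 0, 0, 2, 0, 0, 0, 0, 2, 0, 2, 0, -2, 0, 4, 0, -2, 4, -2, 0, 0, 2, 0],
   [-2, 0, -2, 2, 0, 2, -2, 2, -2, 0, -2, 0, 2, 0, 2, 2, 2, 0, -2, 0, -2, -2, 0, 2],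
   [0, 2, 0, 0, -2, 0, 0, 0, 0, -2, 0, -2, 0, 2, 0, 4, 0, 2, 4, 2, 0, 0, -2, 0],
   [0, -2, 0, 0, 2, 0, 0, 4, 0, 2, 4, -2, 0, 2, 0, 0, 0, -2, 0, 2, 0, 0, -2, 0],
   [-2, 0, 2, 2, 0, -2, 2, -2, -2, 0, 2, 0, -2, 0, 2, 2, -2, 0, -2, 0, -2, 2, 0, 2],
   [0, 2, 4, 0, 2, 0, 0, 0, 0, -2, 0, -2, 0, 2, 0, 0, 4, -2, 0, -2, 0, 0, 2, 0],
   [0, 2, 0, 4, 2, 0, 0, 0, 0, -2, 0, 2, 0, -2, 0, 0, 0, -2, 0, 2, 4, 0, -2, 0],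
   [0, -2, 4, 0, -2, 0, 0, 0, 0, 2, 0, 2, 0, -2, 0, 0, 4, 2, 0, 2, 0, 0, -2, 0],
   [0, -2, 0, 4, -2, 0, 0, 0, 0, 2, 0, -2, 0, 2, 0, 0, 0, 2, 0, -2, 4, 0, 2, 0],
   [0, 2, 0, 0, -2, 4, 0, 0, 0, 2, 0, 2, 0, 2, 0, 0, 0, -2, 0, -2, 0, 4, -2, 0],
   [0, 2, 0, 0, 2, 0, 4, 0, 0, 2, 0, -2, 4, -2, 0, 0, 0, 2, 0, -2, 0, 0, -2, 0],
   [-2, 0, 2, 2, 0, 2, 2, 2, 2, 0, -2, 0, -2, 0, -2, -2, -2, 0, 2, 0, -2, -2, 0, 2],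
   [0, -2, 0, 0, 2, 4, 0, 0, 0, -2, 0, -2, 0, -2, 0, 0, 0, 2, 0, 2, 0, 4, 2, 0],
   [-2, 0, 2, -2, 0, -2, -2, 2, 2, 0, -2, 0, 2, 0, -2, 2, -2, 0, -2, 0, 2, 2, 0, 2],
   [-2, 0, -2, -2, 0, -2, 2, 2, -2, 0, -2, 0, -2, 0, 2, -2, 2, 0, 2, 0, 2, 2, 0, 2],
   [0, 2, 0, 0, -2, 0, 0, 0, 4, 2, 0, -2, 0, -2, 4, 0, 0, -2, 0, 2, 0, 0, 2, 0],
   [-2, 0, -2, -2, 0, 2, 2, -2, 2, 0, 2, 0, -2, 0, -2, 2, 2, 0, -2, 0, 2, -2, 0, 2],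
   [0, -2, 0, 0, 2, 0, 0, 0, 4, -2, 0, 2, 0, 2, 4, 0, 0, 2, 0, -2, 0, 0, -2, 0],
   [0, 2, 0, 0, -2, 0, 0, 4, 0, -2, 4, 2, 0, -2, 0, 0, 0, 2, 0, -2, 0, 0, 2, 0],
   [0, -2, 0, 0, -2, 0, 4, 0, 0, -2, 0, 2, 4, 2, 0, 0, 0, -2, 0, 2, 0, 0, 2, 0],
   [-2, 0, 2, -2, 0, 2, -2, -2, -2, 0, 2, 0, 2, 0, 2, -2, -2, 0, 2, 0, 2, -2, 0, 2],
   [-2, 0, -2, 2, 0, -2, -2, -2, 2, 0, 2, 0, 2, 0, -2, -2, 2, 0, 2, 0, -2, 2, 0, 2],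
   [4, 2, 0, 0, 2, 0, 0, 0, 0, 2, 0, 2, 0, 2, 0, 0, 0, 2, 0, 2, 0, 0, 2, 4]]

/-- The matrix `F2a_7`. -/
def F2a_7 : Matrix GolayPt GolayPt ℤ := ofL
  [[5, 1, -1, -1, -1, -1, -1, -1, 1, -1, 1, -1, 1, -1, -3, 1, -1, 1, -1, -1, -1, -1, -1, 3],
   [1, 1, 3, -1, -1, -1, -1, -1, 1, -1, 1, 3, 1, -1, 1, 1, -1, 1, -1, -1, 3, 3, 3, -1],
   [1, 1, -1, -1, 3, 3, -1, -1, 1, 3, 1, -1, 1, -1, 1, 1, 3, 1, -1, -1, 3, -1, -1, -1],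
   [-1, 3, 1, 1, -3, 1, 1, 1, -1, 1, 3, 1, -1, 1, -1, -1, 1, -1, -3, 1, 1, -3, 1, 1],
   [-1, -1, 1, 1, 1, -3, -3, 1, 3, 1, -1, 1, 3, 1, -1, -1, 1, -1, 1, 1, 1, -3, 1, 1],
   [-1, -1, 1, 1, 1, -3, 1, 1, -1, 1, 3, 1, -1, -3, -1, 3, 1, -1, 1, 1, 1, 1, -3, 1],
   [-1, 3, -3, -3, 1, -3, 1, 1, -1, 1, -1, 1, -1, 1, -1, -1, 1, 3, 1, 1, 1, 1, 1, 1],
   [-1, -1, 1, 1, -3, 1, 1, 1, 3, 1, -1, -3, -1, -3, -1, -1, 1, 3, 1, 1, 1, 1, 1, 1],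
   [-1, -1, 1, 1, 1, 1, -3, 1, -1, 1, 3, 1, -1, 1, -1, -1, 1, 3, 1, -3, -3, 1, 1, 1],
   [-1, -1, 1, 1, 1, 1, 1, 1, -1, 1, -1, 1, 3, 1, -1, -1, -3, 3, -3, 1, 1, 1, -3, 1],
   [1, 1, -1, -1, -1, 3, -1, 3, 1, -1, 1, 3, 1, -1, 1, 1, -1, 1, 3, 3, -1, -1, -1, -1],
   [-3, 1, -1, -1, -1, -1, -1, -1, 1, -1, 1, -1, 1, -1, 5, 1, -1, 1, -1, -1, -1, -1, -1, 3],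
   [-1, -1, 1, -3, 1, 1, 1, 1, 3, 1, -1, 1, -1, 1, -1, 3, 1, -1, -3, 1, -3, 1, 1, 1],
   [1, 1, -1, 3, 3, -1, 3, 3, 1, -1, 1, -1, 1, -1, 1, 1, -1, 1, -1, -1, -1, -1, 3, -1],
   [1, 1, 3, -1, -1, -1, 3, -1, 1, 3, 1, -1, 1, 3, 1, 1, -1, 1, 3, -1, -1, -1, -1, -1],
   [-1, -1, -3, 1, -3, 1, 1, 1, -1, 1, -1, 1, 3, 1, -1, 3, 1, -1, 1, -3, 1, 1, 1, 1],
   [-1, -1, -3, 1, 1, 1, 1, -3, 3, 1, 3, 1, -1, 1, -1, -1, -3, -1, 1, 1, 1, 1, 1, 1],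
   [-1, 3, 1, 1, 1, 1, -3, 1, -1, 1, -1, -3, -1, 1, -1, 3, -3, -1, 1, 1, 1, 1, 1, 1],
   [-1, 3, 1, 1, 1, 1, 1, -3, -1, 1, -1, 1, 3, -3, -1, -1, 1, -1, 1, 1, -3, 1, 1, 1],
   [1, 1, -1, 3, -1, -1, -1, -1, 1, -1, 1, -1, 1, 3, 1, 1, 3, 1, -1, 3, -1, 3, -1, -1],
   [-1, -1, 1, 1, 1, 1, 1, -3, -1, -3, -1, 1, -1, 1, -1, 3, 1, 3, 1, 1, 1, -3, 1, 1],
   [-1, 3, 1, 1, 1, 1, 1, 1, 3, -3, -1, 1, -1, 1, -1, -1, 1, -1, 1, -3, 1, 1, -3, 1],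
   [-1, -1, 1, -3, 1, 1, 1, 1, -1, -3, 3, -3, 3, 1, -1, -1, 1, -1, 1, 1, 1, 1, 1, 1],
   [3, -1, 1, 1, 1, 1, 1, 1, -1, 1, -1, 1, -1, 1, 3, -1, 1, -1, 1, 1, 1, 1, 1, 5]]

theorem F2a_mul6 : F2a_4 * F2a_2 = (8 : ℤ) • F2a_6 := by decide +kernel

theorem F2a_mul7 : F2a_6 * F2a = (8 : ℤ) • F2a_7 := by decide +kernel

theorem F2a_7_ne : F2a_7 ≠ I8 := by decide +kernel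

theorem ne_F2a : (perm (mD) * (eE * eE)) ^ 7 ≠ 1 :=
  ne_one_of_rep8 (rep8_pow7 (rep8_mul rep_Ma rep_e2 F2a F2a_mul) F2a_mul2 F2a_mul4 F2a_mul6 F2a_mul7) F2a_7_ne

/-- The matrix `F2b`. -/
def F2b : Matrix GolayPt GolayPt ℤ := ofL
  [[5, -1, -1, -3, -1, -1, -1, -1, -1, -1, -1, 1, -1, -1, 1, 1, -1, 1, -1, 1, -1, -1, 1, 3],
   [-1, -3, 1, -1, 1, 1, 1, 1, 1, 1, 1, -1, -3, 1, -1, 3, 1, -1, 1, -1, 1, -3, 3, 1],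
   [-1, 1, 1, -1, 1, 1, 1, 1, 1, 1, 1, -1, 1, -3, 3, -1, -3, -1, 1, 3, 1, -3, -1, 1],
   [-1, 1, -3, -1, 1, 1, 1, -3, 1, 1, 1, 3, 1, -3, -1, 3, 1, -1, 1, -1, 1, 1, -1, 1],
   [-1, 1, 1, -1, 1, 1, 1, -3, -3, 1, 1, -1, -3, 1, -1, -1, 1, 3, 1, 3, 1, 1, -1, 1],
   [1, -1, 3, 1, -1, -1, 3, -1, -1, -1, -1, 1, 3, -1, 1, 1, 3, 1, -1, 1, 3, -1, 1, -1],
   [1, -1, -1, 1, -1, 3, -1, 3, -1, -1, 3, 1, -1, -1, 1, 1, -1, 1, -1, 1, 3, 3, 1, -1],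
   [-3, -1, -1, 5, -1, -1, -1, -1, -1, -1, -1, 1, -1, -1, 1, 1, -1, 1, -1, 1, -1, -1, 1, 3],
   [-1, 1, 1, -1, 1, 1, 1, 1, 1, -3, -3, 3, -3, 1, 3, -1, 1, -1, 1, -1, 1, 1, -1, 1],
   [-1, 1, 1, -1, -3, 1, 1, 1, 1, 1, -3, -1, 1, 1, -1, 3, -3, 3, 1, -1, 1, 1, -1, 1],
   [-1, -3, -3, -1, 1, -3, 1, 1, 1, 1, 1, -1, 1, 1, 3, -1, 1, 3, 1, -1, 1, 1, -1, 1],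
   [1, 3, -1, 1, -1, -1, 3, -1, 3, -1, 3, 1, -1, 3, 1, 1, -1, 1, -1, 1, -1, -1, 1, -1],
   [-1, 1, 1, -1, 1, -3, 1, 1, -3, 1, 1, 3, 1, 1, -1, -1, -3, -1, 1, -1, 1, 1, 3, 1],
   [-1, 1, 1, -1, 1, 1, 1, 1, 1, -3, 1, -1, 1, -3, -1, -1, 1, 3, 1, -1, -3, 1, 3, 1],
   [-1, 1, 1, -1, -3, 1, -3, -3, 1, 1, 1, -1, 1, 1, 3, -1, 1, -1, 1, -1, 1, 1, 3, 1],
   [1, -1, -1, 1, 3, 3, -1, -1, -1, -1, -1, 1, 3, 3, 1, 1, -1, 1, 3, 1, -1, -1, 1, -1],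
   [-1, 1, 1, -1, 1, 1, 1, 1, -3, 1, 1, -1, 1, 1, 3, 3, 1, -1, -3, -1, -3, 1, -1, 1],
   [-1, -3, 1, -1, -3, 1, 1, 1, 1, 1, 1, 3, 1, 1, -1, -1, 1, -1, 1, 3, -3, 1, -1, 1],
   [-1, 1, 1, -1, 1, -3, -3, 1, 1, -3, 1, -1, 1, 1, -1, 3, 1, -1, 1, 3, 1, 1, -1, 1],
   [-1, 1, 1, -1, 1, 1, -3, 1, 1, 1, 1, 3, 1, 1, -1, -1, 1, 3, -3, -1, 1, -3, -1, 1],
   [-1, 1, -3, -1, 1, 1, 1, 1, 1, 1, -3, -1, 1, 1, -1, -1, 1, -1, -3, 3, 1, 1, 3, 1],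
   [1, -1, 3, 1, 3, -1, -1, -1, 3, 3, -1, 1, -1, -1, 1, 1, -1, 1, -1, 1, -1, 3, 1, -1],
   [1, 3, -1, 1, -1, -1, -1, 3, -1, 3, -1, 1, -1, -1, 1, 1, 3, 1, 3, 1, -1, -1, 1, -1],
   [3, 1, 1, 3, 1, 1, 1, 1, 1, 1, 1, -1, 1, 1, -1, -1, 1, -1, 1, -1, 1, 1, -1, 5]]

/-- The matrix `F2b_2`. -/
def F2b_2 : Matrix GolayPt GolayPt ℤ := ofL
  [[6, 0, 0, 0, -2, 0, -2, 0, 0, 0, 0, 0, 0, 2, 0, -2, 0, 0, 0, 0, -2, -2, 0, 2],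
   [0, 2, -2, 2, 0, 2, 0, 2, -2, -2, -2, -2, 2, 0, 2, 0, 2, 2, 2, 2, 0, 0, -2, 0],
   [-2, 0, 0, 0, -2, 0, -2, 0, 0, 0, 0, 0, 0, 2, 0, -2, 0, 0, 0, 0, 6, -2, 0, 2],
   [2, 0, 0, 0, 2, 0, 2, 0, 0, 0, 0, 0, 0, 6, 0, 2, 0, 0, 0, 0, 2, 2, 0, -2],
   [0, -2, 2, -2, 0, 2, 0, 2, 2, 2, 2, -2, 2, 0, -2, 0, 2, 2, -2, 2, 0, 0, -2, 0],
   [0, 2, -2, -2, 0, 2, 0, 2, -2, 2, 2, 2, 2, 0, 2, 0, -2, -2, -2, 2, 0, 0, 2, 0],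
   [0, -2, -2, 2, 0, -2, 0, -2, 2, 2, -2, 2, 2, 0, 2, 0, 2, 2, -2, 2, 0, 0, 2, 0],
   [0, 2, -2, 2, 0, 2, 0, -2, 2, 2, 2, 2, 2, 0, -2, 0, 2, -2, 2, -2, 0, 0, -2, 0],
   [0, 2, 2, 2, 0, 2, 0, -2, 2, -2, 2, -2, -2, 0, 2, 0, 2, -2, -2, 2, 0, 0, 2, 0],
   [0, -2, 2, 2, 0, 2, 0, 2, 2, -2, -2, 2, 2, 0, -2, 0, -2, -2, 2, 2, 0, 0, 2, 0],
   [-2, 0, 0, 0, -2, 0, -2, 0, 0, 0, 0, 0, 0, 2, 0, -2, 0, 0, 0, 0, -2, 6, 0, 2],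
   [0, -2, -2, -2, 0, 2, 0, 2, 2, -2, 2, 2, -2, 0, 2, 0, 2, 2, 2, -2, 0, 0, 2, 0],
   [0, 2, -2, 2, 0, -2, 0, 2, 2, 2, 2, -2, -2, 0, -2, 0, -2, 2, 2, 2, 0, 0, 2, 0],
   [0, -2, 2, 2, 0, -2, 0, 2, -2, 2, 2, 2, -2, 0, 2, 0, 2, -2, 2, 2, 0, 0, -2, 0],
   [0, 2, 2, -2, 0, -2, 0, 2, 2, 2, -2, -2, 2, 0, 2, 0, 2, -2, 2, -2, 0, 0, 2, 0],
   [0, 2, 2, -2, 0, -2, 0, -2, -2, -2, 2, 2, 2, 0, -2, 0, 2, 2, 2, 2, 0, 0, 2, 0],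
   [0, -2, 2, 2, 0, 2, 0, -2, -2, 2, 2, -2, 2, 0, 2, 0, -2, 2, 2, -2, 0, 0, 2, 0],
   [0, 2, 2, 2, 0, -2, 0, 2, 2, -2, 2, 2, 2, 0, 2, 0, -2, 2, -2, -2, 0, 0, -2, 0],
   [-2, 0, 0, 0, 6, 0, -2, 0, 0, 0, 0, 0, 0, 2, 0, -2, 0, 0, 0, 0, -2, -2, 0, 2],
   [-2, 0, 0, 0, -2, 0, 6, 0, 0, 0, 0, 0, 0, 2, 0, -2, 0, 0, 0, 0, -2, -2, 0, 2],
   [0, 2, 2, 2, 0, 2, 0, 2, -2, 2, -2, 2, -2, 0, -2, 0, 2, 2, -2, -2, 0, 0, 2, 0],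
   [0, 2, 2, -2, 0, 2, 0, -2, 2, 2, -2, 2, -2, 0, 2, 0, -2, 2, 2, 2, 0, 0, -2, 0],
   [-2, 0, 0, 0, -2, 0, -2, 0, 0, 0, 0, 0, 0, 2, 0, 6, 0, 0, 0, 0, -2, -2, 0, 2],
   [2, 0, 0, 0, 2, 0, 2, 0, 0, 0, 0, 0, 0, -2, 0, 2, 0, 0, 0, 0, 2, 2, 0, 6]]

/-- The matrix `F2b_4`. -/
def F2b_4 : Matrix GolayPt GolayPt ℤ := ofL
  [[5, -1, -1, 1, -1, -1, -1, 1, -1, -1, 1, -1, -1, 1, 1, -1, -1, -3, 1, -1, -1, -1, -1, 3],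
   [1, 3, -1, 1, 3, -1, 3, 1, -1, 3, 1, -1, 3, 1, 1, -1, -1, 1, 1, -1, -1, -1, -1, -1],
   [-1, 1, 1, 3, 1, 1, 1, 3, -3, 1, -1, 1, -3, -1, -1, 1, 1, -1, -1, -3, 1, 1, 1, 1],
   [1, -1, 3, 1, -1, -1, -1, 1, -1, 3, 1, 3, -1, 1, 1, -1, 3, 1, 1, 3, -1, -1, -1, -1],
   [-1, 1, 1, 3, -3, 1, 1, -1, 1, 1, 3, 1, 1, -1, -1, -3, -3, -1, -1, 1, 1, 1, 1, 1],
   [-1, 1, -3, -1, -3, 1, 1, 3, 1, 1, -1, 1, 1, -1, -1, 1, 1, -1, 3, 1, -3, 1, 1, 1],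
   [1, -1, 3, 1, -1, -1, 3, 1, 3, -1, 1, -1, -1, 1, 1, 3, -1, 1, 1, -1, -1, -1, 3, -1],
   [1, -1, -1, 1, 3, 3, -1, 1, -1, -1, 1, -1, -1, 1, 1, -1, -1, 1, 1, 3, -1, 3, 3, -1],
   [-1, 1, 1, -1, -3, 1, 1, -1, -3, 1, -1, -3, 1, 3, 3, 1, 1, -1, -1, 1, 1, 1, 1, 1],
   [-1, 1, -3, -1, 1, 1, 1, -1, 1, 1, 3, 1, -3, 3, -1, 1, 1, -1, -1, 1, 1, -3, 1, 1],
   [-1, 1, 1, -1, 1, 1, 1, -1, 1, 1, -1, 1, -3, -1, 3, 1, -3, -1, 3, 1, 1, 1, -3, 1],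
   [-1, 1, 1, -1, 1, 1, -3, -1, 1, 1, 3, 1, 1, -1, 3, 1, 1, -1, -1, -3, -3, 1, 1, 1],
   [-1, 1, 1, 3, 1, 1, 1, -1, 1, -3, -1, 1, 1, 3, -1, 1, 1, -1, -1, 1, -3, 1, -3, 1],
   [-1, -3, 1, -1, 1, 1, 1, -1, 1, 1, -1, 1, 1, 3, -1, -3, 1, -1, 3, -3, 1, 1, 1, 1],
   [-1, 1, 1, 3, 1, 1, -3, -1, 1, 1, -1, -3, 1, -1, -1, 1, 1, -1, 3, 1, 1, -3, 1, 1],
   [-3, -1, -1, 1, -1, -1, -1, 1, -1, -1, 1, -1, -1, 1, 1, -1, -1, 5, 1, -1, -1, -1, -1, 3],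
   [-1, 1, 1, -1, 1, -3, -3, 3, 1, 1, -1, 1, 1, 3, -1, 1, -3, -1, -1, 1, 1, 1, 1, 1],
   [1, 3, -1, 1, -1, -1, -1, 1, 3, -1, 1, -1, -1, 1, 1, -1, 3, 1, 1, -1, 3, 3, -1, -1],
   [-1, -3, 1, -1, 1, 1, 1, 3, 1, 1, 3, -3, 1, -1, -1, 1, 1, -1, -1, 1, 1, 1, -3, 1],
   [-1, -3, -3, 3, 1, -3, 1, -1, 1, 1, -1, 1, 1, -1, 3, 1, 1, -1, -1, 1, 1, 1, 1, 1],
   [1, -1, -1, 1, -1, 3, -1, 1, -1, -1, 1, 3, 3, 1, 1, 3, -1, 1, 1, -1, 3, -1, -1, -1],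
   [-1, 1, 1, -1, 1, 1, 1, 3, 1, -3, -1, 1, 1, -1, 3, -3, 1, -1, -1, 1, 1, -3, 1, 1],
   [-1, 1, 1, -1, 1, -3, 1, -1, -3, -3, 3, 1, 1, -1, -1, 1, 1, -1, 3, 1, 1, 1, 1, 1],
   [3, 1, 1, -1, 1, 1, 1, -1, 1, 1, -1, 1, 1, -1, -1, 1, 1, 3, -1, 1, 1, 1, 1, 5]]

theorem F2b_mul : Ma * E3 = (8 : ℤ) • F2b := by decide +kernel

theorem F2b_mul2 : F2b * F2b = (8 : ℤ) • F2b_2 := by decide +kernel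

theorem F2b_mul4 : F2b_2 * F2b_2 = (8 : ℤ) • F2b_4 := by decide +kernel

/-- The matrix `F2b_6`. -/
def F2b_6 : Matrix GolayPt GolayPt ℤ := ofL
  [[5, -1, -1, -1, 1, -1, -1, -1, -1, 1, -1, -1, -1, 1, -1, -1, 1, -3, 1, -1, -1, 1, -1, 3],
   [1, -1, -1, 3, 1, -1, -1, 3, 3, 1, -1, -1, 3, 1, -1, -1, 1, 1, 1, 3, -1, 1, -1, -1],
   [1, -1, -1, -1, 1, 3, -1, -1, -1, 1, -1, 3, 3, 1, -1, 3, 1, 1, 1, -1, 3, 1, -1, -1],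
   [-1, -3, 1, 1, -1, 1, 1, 1, 1, -1, 1, 1, 1, 3, 1, -3, -1, -1, 3, -3, 1, -1, 1, 1],
   [-1, 1, -3, 1, -1, 1, 1, 1, 1, -1, -3, 1, -3, 3, 1, 1, -1, -1, -1, 1, 1, 3, 1, 1],
   [-1, 1, -3, 1, 3, 1, 1, -3, 1, -1, 1, 1, 1, -1, 1, 1, -1, -1, 3, 1, -3, -1, 1, 1],
   [-1, 1, 1, 1, -1, -3, -3, -3, 1, -1, 1, 1, 1, 3, 1, 1, 3, -1, -1, 1, 1, -1, 1, 1],
   [-1, 1, 1, -3, -1, 1, 1, 1, 1, 3, 1, 1, 1, 3, 1, 1, -1, -1, -1, 1, -3, -1, -3, 1],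
   [-1, 1, 1, 1, -1, -3, 1, 1, -3, 3, -3, 1, 1, -1, 1, 1, -1, -1, 3, 1, 1, -1, 1, 1],
   [-1, -3, 1, 1, -1, 1, 1, 1, -3, -1, 1, 1, 1, -1, 1, 1, 3, -1, -1, 1, -3, 3, 1, 1],
   [-1, 1, 1, -3, 3, 1, 1, 1, 1, -1, -3, 1, 1, -1, 1, -3, 3, -1, -1, 1, 1, -1, 1, 1],
   [-1, 1, 1, -3, -1, 1, -3, 1, 1, -1, 1, -3, 1, -1, 1, 1, -1, -1, 3, 1, 1, 3, 1, 1],
   [1, -1, -1, -1, 1, -1, 3, -1, -1, 1, 3, -1, -1, 1, 3, -1, 1, 1, 1, 3, 3, 1, -1, -1],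
   [-1, -3, 1, 1, 3, 1, -3, 1, 1, 3, 1, 1, -3, -1, 1, 1, -1, -1, -1, 1, 1, -1, 1, 1],
   [-1, 1, 1, 1, 3, 1, 1, 1, -3, -1, 1, -3, 1, 3, -3, 1, -1, -1, -1, 1, 1, -1, 1, 1],
   [-1, 1, 1, 1, 3, -3, 1, 1, 1, -1, 1, 1, 1, -1, 1, 1, -1, -1, -1, -3, 1, 3, -3, 1],
   [-1, 1, 1, 1, -1, 1, 1, 1, 1, -1, 1, 1, -3, -1, -3, 1, 3, -1, 3, 1, 1, -1, -3, 1],
   [1, 3, 3, 3, 1, 3, -1, -1, -1, 1, -1, -1, -1, 1, 3, -1, 1, 1, 1, -1, -1, 1, -1, -1],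
   [-1, 1, 1, 1, -1, 1, 1, -3, 1, 3, 1, 1, 1, -1, -3, -3, -1, -1, -1, 1, 1, 3, 1, 1],
   [1, -1, 3, -1, 1, -1, 3, -1, 3, 1, -1, -1, -1, 1, -1, 3, 1, 1, 1, -1, -1, 1, 3, -1],
   [1, 3, -1, -1, 1, -1, -1, 3, -1, 1, 3, 3, -1, 1, -1, -1, 1, 1, 1, -1, -1, 1, 3, -1],
   [-1, 1, -3, 1, -1, 1, 1, 1, 1, 3, 1, -3, 1, -1, 1, 1, 3, -1, -1, -3, 1, -1, 1, 1],
   [-3, -1, -1, -1, 1, -1, -1, -1, -1, 1, -1, -1, -1, 1, -1, -1, 1, 5, 1, -1, -1, 1, -1, 3],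
   [3, 1, 1, 1, -1, 1, 1, 1, 1, -1, 1, 1, 1, -1, 1, 1, -1, 3, -1, 1, 1, -1, 1, 5]]

/-- The matrix `F2b_7`. -/
def F2b_7 : Matrix GolayPt GolayPt ℤ := ofL
  [[5, 1, 1, -1, 1, -1, -1, -1, -1, -1, -1, -3, -1, -1, -1, 1, -1, 1, -1, -1, -1, 1, -1, 3],
   [-3, 1, 1, -1, 1, -1, -1, -1, -1, -1, -1, 5, -1, -1, -1, 1, -1, 1, -1, -1, -1, 1, -1, 3],
   [1, 1, 1, -1, 1, -1, 3, -1, -1, -1, -1, 1, 3, 3, -1, 1, -1, 1, -1, 3, -1, 1, 3, -1],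
   [-1, 3, -1, 1, -1, -3, 1, 1, 1, -3, 1, -1, 1, -3, 1, -1, 1, -1, 1, 1, 1, 3, 1, 1],
   [1, 1, 1, 3, 1, 3, -1, -1, 3, -1, -1, 1, -1, -1, -1, 1, 3, 1, -1, -1, -1, 1, 3, -1],
   [1, 1, 1, -1, 1, -1, -1, -1, -1, -1, 3, 1, -1, 3, -1, 1, 3, 1, 3, -1, 3, 1, -1, -1],
   [-1, 3, -1, -3, 3, 1, 1, 1, 1, 1, 1, -1, 1, 1, 1, -1, 1, -1, 1, -3, -3, -1, 1, 1],
   [-1, -1, 3, 1, -1, 1, 1, 1, 1, -3, 1, -1, 1, 1, 1, -1, -3, 3, 1, -3, 1, -1, 1, 1],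
   [-1, 3, -1, 1, -1, 1, -3, 1, 1, 1, 1, -1, 1, 1, -3, 3, -3, -1, 1, 1, 1, -1, 1, 1],
   [1, 1, 1, 3, 1, -1, -1, -1, -1, 3, 3, 1, 3, -1, 3, 1, -1, 1, -1, -1, -1, 1, -1, -1],
   [-1, 3, 3, 1, -1, 1, 1, 1, -3, 1, 1, -1, -3, 1, 1, -1, 1, -1, -3, 1, 1, -1, 1, 1],
   [-1, -1, 3, 1, 3, -3, -3, 1, 1, 1, -3, -1, 1, 1, 1, -1, 1, -1, 1, 1, 1, -1, 1, 1],
   [-1, -1, -1, -3, -1, 1, -3, 1, 1, 1, 1, -1, 1, 1, 1, -1, 1, 3, -3, 1, 1, 3, 1, 1],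
   [-1, 3, -1, 1, -1, 1, 1, -3, 1, 1, -3, -1, 1, 1, 1, -1, 1, 3, 1, 1, 1, -1, -3, 1],
   [-1, -1, -1, 1, 3, 1, 1, 1, -3, 1, 1, -1, 1, -3, -3, -1, 1, 3, 1, 1, 1, -1, 1, 1],
   [-1, -1, -1, 1, 3, 1, 1, -3, 1, 1, 1, -1, -3, 1, 1, -1, -3, -1, 1, 1, 1, 3, 1, 1],
   [-1, -1, -1, 1, 3, 1, 1, 1, 1, -3, 1, -1, 1, 1, 1, 3, 1, -1, -3, 1, 1, -1, -3, 1],
   [-1, -1, 3, -3, -1, 1, 1, -3, 1, 1, 1, -1, 1, -3, 1, 3, 1, -1, 1, 1, 1, -1, 1, 1],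
   [1, 1, 1, -1, 1, -1, 3, 3, 3, 3, -1, 1, -1, -1, -1, 1, -1, 1, -1, -1, 3, 1, -1, -1],
   [1, 1, 1, -1, 1, 3, -1, 3, -1, -1, -1, 1, -1, -1, 3, 1, -1, 1, 3, 3, -1, 1, -1, -1],
   [-1, -1, -1, 1, -1, -3, 1, 1, 1, 1, 1, -1, -3, 1, 1, 3, 1, 3, 1, 1, -3, -1, 1, 1],
   [-1, -1, -1, 1, -1, 1, 1, 1, -3, 1, -3, -1, 1, 1, 1, 3, 1, -1, 1, -3, 1, 3, 1, 1],
   [-1, -1, 3, 1, -1, 1, 1, 1, 1, 1, 1, -1, 1, 1, -3, -1, 1, -1, 1, 1, -3, 3, -3, 1],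
   [3, -1, -1, 1, -1, 1, 1, 1, 1, 1, 1, 3, 1, 1, 1, -1, 1, -1, 1, 1, 1, -1, 1, 5]]

theorem F2b_mul6 : F2b_4 * F2b_2 = (8 : ℤ) • F2b_6 := by decide +kernel

theorem F2b_mul7 : F2b_6 * F2b = (8 : ℤ) • F2b_7 := by decide +kernel

theorem F2b_7_ne : F2b_7 ≠ I8 := by decide +kernel

theorem ne_F2b : (perm (mD) * (eE' * eE')) ^ 7 ≠ 1 :=
  ne_one_of_rep8 (rep8_pow7 (rep8_mul rep_Ma rep_e3 F2b F2b_mul) F2b_mul2 F2b_mul4 F2b_mul6 F2b_mul7) F2b_7_ne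

/-- The matrix `F2c`. -/
def F2c : Matrix GolayPt GolayPt ℤ := ofL
  [[5, -1, -1, 1, -1, -1, -1, -1, -1, -1, -1, 1, -1, -1, 1, -3, -1, 1, -1, 1, -1, -1, 1, 3],
   [-1, 1, 1, -1, 1, -3, 1, 1, 1, 1, -3, -1, 1, -3, 3, -1, 1, -1, 1, -1, 1, 1, 3, 1],
   [-1, 1, 1, -1, 1, 1, 1, -3, 1, 1, 1, -1, 1, 1, -1, -1, -3, -1, 1, 3, -3, 1, 3, 1],
   [-1, 1, 1, -1, 1, 1, 1, -3, 1, -3, 1, -1, 1, 1, 3, -1, 1, 3, 1, -1, 1, -3, -1, 1],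
   [-1, 1, -3, -1, 1, 1, -3, 1, -3, 1, 1, -1, 1, 1, -1, -1, 1, 3, 1, -1, 1, 1, 3, 1],
   [-1, 1, 1, 3, -3, 1, 1, 1, 1, 1, -3, -1, 1, 1, -1, -1, -3, 3, 1, -1, 1, 1, -1, 1],
   [-1, 1, -3, -1, -3, 1, 1, 1, 1, 1, 1, -1, -3, 1, 3, -1, 1, -1, 1, 3, 1, 1, -1, 1],
   [1, 3, -1, 1, 3, 3, -1, 3, 3, -1, -1, 1, -1, -1, 1, 1, -1, 1, -1, 1, -1, -1, 1, -1],
   [-1, -3, 1, -1, 1, 1, -3, 1, 1, 1, 1, 3, 1, 1, 3, -1, -3, -1, 1, -1, 1, 1, -1, 1],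
   [-1, 1, 1, -1, 1, 1, 1, 1, -3, 1, -3, 3, 1, 1, -1, -1, 1, -1, 1, 3, 1, -3, -1, 1],
   [-1, 1, 1, 3, 1, 1, 1, 1, -3, 1, 1, -1, 1, 1, 3, -1, 1, -1, -3, -1, -3, 1, -1, 1],
   [1, -1, -1, 1, -1, -1, 3, 3, -1, -1, 3, 1, 3, -1, 1, 1, -1, 1, 3, 1, -1, -1, 1, -1],
   [-1, 1, 1, -1, 1, -3, 1, 1, 1, 1, 1, 3, -3, 1, -1, -1, 1, 3, 1, -1, -3, 1, -1, 1],
   [-3, -1, -1, 1, -1, -1, -1, -1, -1, -1, -1, 1, -1, -1, 1, 5, -1, 1, -1, 1, -1, -1, 1, 3],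
   [-1, 1, 1, 3, 1, -3, -3, 1, 1, -3, 1, -1, 1, 1, -1, -1, 1, -1, 1, 3, 1, 1, -1, 1],
   [-1, 1, -3, 3, 1, 1, 1, -3, 1, 1, 1, 3, 1, -3, -1, -1, 1, -1, 1, -1, 1, 1, -1, 1],
   [-1, 1, 1, -1, -3, 1, 1, 1, 1, -3, 1, 3, 1, 1, -1, -1, 1, -1, -3, -1, 1, 1, 3, 1],
   [1, -1, -1, 1, 3, -1, 3, -1, -1, -1, -1, 1, -1, 3, 1, 1, -1, 1, -1, 1, 3, 3, 1, -1],
   [-1, -3, 1, -1, 1, 1, 1, 1, 1, 1, 1, -1, 1, -3, -1, -1, 1, 3, -3, 3, 1, 1, -1, 1],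
   [1, -1, -1, 1, -1, -1, -1, -1, 3, 3, -1, 1, 3, 3, 1, 1, 3, 1, -1, 1, -1, -1, 1, -1],
   [1, -1, 3, 1, -1, 3, -1, -1, -1, -1, -1, 1, -1, -1, 1, 1, 3, 1, 3, 1, -1, 3, 1, -1],
   [1, 3, 3, 1, -1, -1, -1, -1, -1, 3, 3, 1, -1, -1, 1, 1, -1, 1, -1, 1, 3, -1, 1, -1],
   [-1, -3, 1, 3, 1, 1, 1, 1, 1, 1, 1, -1, -3, 1, -1, -1, 1, -1, 1, -1, 1, -3, 3, 1],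
   [3, 1, 1, -1, 1, 1, 1, 1, 1, 1, 1, -1, 1, 1, -1, 3, 1, -1, 1, -1, 1, 1, -1, 5]]

/-- The matrix `F2c_2`. -/
def F2c_2 : Matrix GolayPt GolayPt ℤ := ofL
  [[6, -2, 0, 0, 0, -2, 0, 0, 0, -2, 0, -2, 0, 2, 0, 0, 0, 0, 0, 0, 0, -2, 0, 2],
   [0, 0, 2, -2, 2, 0, -2, 2, 2, 0, 2, 0, -2, 0, -2, -2, 2, -2, 2, 2, 2, 0, 2, 0],
   [-2, -2, 0, 0, 0, -2, 0, 0, 0, 6, 0, -2, 0, 2, 0, 0, 0, 0, 0, 0, 0, -2, 0, 2],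
   [-2, -2, 0, 0, 0, -2, 0, 0, 0, -2, 0, -2, 0, 2, 0, 0, 0, 0, 0, 0, 0, 6, 0, 2],
   [0, 0, 2, 2, 2, 0, 2, 2, -2, 0, -2, 0, -2, 0, -2, 2, 2, 2, -2, -2, 2, 0, 2, 0],
   [0, 0, 2, -2, 2, 0, 2, -2, 2, 0, -2, 0, -2, 0, 2, 2, -2, 2, 2, 2, 2, 0, -2, 0],
   [0, 0, 2, 2, -2, 0, -2, 2, 2, 0, -2, 0, 2, 0, 2, 2, 2, -2, -2, 2, 2, 0, -2, 0],
   [0, 0, -2, 2, 2, 0, -2, 2, 2, 0, -2, 0, 2, 0, 2, -2, -2, 2, 2, -2, 2, 0, 2, 0],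
   [0, 0, 2, 2, 2, 0, -2, 2, -2, 0, 2, 0, 2, 0, -2, 2, -2, 2, 2, 2, -2, 0, -2, 0],
   [0, 0, -2, -2, -2, 0, 2, 2, 2, 0, -2, 0, 2, 0, -2, 2, 2, 2, 2, 2, -2, 0, 2, 0],
   [-2, 6, 0, 0, 0, -2, 0, 0, 0, -2, 0, -2, 0, 2, 0, 0, 0, 0, 0, 0, 0, -2, 0, 2],
   [0, 0, -2, 2, 2, 0, 2, 2, 2, 0, 2, 0, -2, 0, 2, -2, 2, 2, -2, 2, -2, 0, -2, 0],
   [0, 0, -2, -2, 2, 0, 2, 2, -2, 0, 2, 0, 2, 0, 2, 2, -2, -2, -2, 2, 2, 0, 2, 0],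
   [0, 0, -2, 2, 2, 0, 2, -2, 2, 0, 2, 0, 2, 0, -2, 2, 2, -2, 2, -2, 2, 0, -2, 0],
   [0, 0, 2, -2, 2, 0, -2, -2, 2, 0, 2, 0, 2, 0, 2, 2, 2, 2, -2, -2, -2, 0, 2, 0],
   [0, 0, 2, -2, -2, 0, 2, 2, -2, 0, 2, 0, 2, 0, 2, -2, 2, 2, 2, -2, 2, 0, -2, 0],
   [0, 0, 2, 2, -2, 0, 2, 2, 2, 0, 2, 0, -2, 0, 2, 2, -2, -2, 2, -2, -2, 0, 2, 0],
   [0, 0, -2, 2, -2, 0, -2, -2, -2, 0, 2, 0, -2, 0, 2, 2, 2, 2, 2, 2, 2, 0, 2, 0],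
   [2, 2, 0, 0, 0, 2, 0, 0, 0, 2, 0, 2, 0, 6, 0, 0, 0, 0, 0, 0, 0, 2, 0, -2],
   [-2, -2, 0, 0, 0, -2, 0, 0, 0, -2, 0, 6, 0, 2, 0, 0, 0, 0, 0, 0, 0, -2, 0, 2],
   [0, 0, 2, 2, -2, 0, 2, -2, 2, 0, 2, 0, 2, 0, -2, -2, -2, 2, -2, 2, 2, 0, 2, 0],
   [0, 0, 2, 2, 2, 0, 2, -2, -2, 0, -2, 0, 2, 0, 2, -2, 2, -2, 2, 2, -2, 0, 2, 0],
   [-2, -2, 0, 0, 0, 6, 0, 0, 0, -2, 0, -2, 0, 2, 0, 0, 0, 0, 0, 0, 0, -2, 0, 2],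
   [2, 2, 0, 0, 0, 2, 0, 0, 0, 2, 0, 2, 0, -2, 0, 0, 0, 0, 0, 0, 0, 2, 0, 6]]

/-- The matrix `F2c_4`. -/
def F2c_4 : Matrix GolayPt GolayPt ℤ := ofL
  [[5, -1, -1, 1, -1, -1, -1, -1, -1, -1, 1, -1, 1, 1, -1, 1, -1, -1, -1, -3, 1, -1, -1, 3],
   [-1, 1, 1, 3, 1, 1, 1, 1, 1, 1, -1, 1, -1, 3, -3, -1, -3, 1, 1, -1, -1, -3, 1, 1],
   [-1, 1, -3, -1, -3, 1, 1, 1, 1, 1, -1, 1, 3, -1, -3, 3, 1, 1, 1, -1, -1, 1, 1, 1],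
   [-1, 1, 1, 3, 1, 1, 1, -3, -3, 1, -1, 1, 3, -1, 1, -1, 1, -3, 1, -1, -1, 1, 1, 1],
   [-1, -3, 1, 3, -3, 1, 1, 1, 1, 1, -1, -3, -1, -1, 1, -1, 1, 1, 1, -1, 3, 1, 1, 1],
   [1, -1, 3, 1, -1, -1, -1, -1, -1, 3, 1, 3, 1, 1, -1, 1, 3, 3, -1, 1, 1, -1, -1, -1],
   [-1, -3, 1, -1, 1, -3, 1, 1, 1, 1, 3, 1, 3, -1, 1, -1, -3, 1, 1, -1, -1, 1, 1, 1],
   [1, -1, -1, 1, 3, 3, -1, -1, -1, -1, 1, -1, 1, 1, -1, 1, -1, 3, -1, 1, 1, 3, 3, -1],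
   [-1, 1, -3, -1, 1, -3, 1, 1, -3, 1, -1, 1, -1, 3, 1, -1, 1, 1, 1, -1, 3, 1, 1, 1],
   [1, -1, -1, 1, -1, 3, -1, 3, -1, -1, 1, 3, 1, 1, 3, 1, -1, -1, 3, 1, 1, -1, -1, -1],
   [-1, 1, 1, -1, 1, 1, -3, 1, 1, 1, 3, 1, -1, -1, -3, -1, 1, -3, 1, -1, 3, 1, 1, 1],
   [-1, 1, 1, 3, 1, -3, -3, 1, 1, -3, -1, 1, -1, -1, 1, 3, 1, 1, 1, -1, -1, 1, 1, 1],
   [-1, 1, 1, -1, 1, 1, 1, 1, 1, -3, -1, 1, 3, -1, 1, -1, 1, 1, -3, -1, 3, -3, 1, 1],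
   [1, 3, 3, 1, -1, -1, 3, 3, -1, -1, 1, -1, 1, 1, -1, 1, -1, -1, -1, 1, 1, 3, -1, -1],
   [-1, 1, 1, -1, 1, 1, 1, 1, -3, 1, 3, -3, -1, -1, 1, 3, 1, 1, 1, -1, -1, -3, 1, 1],
   [1, 3, -1, 1, -1, -1, -1, -1, 3, 3, 1, -1, 1, 1, 3, 1, -1, -1, -1, 1, 1, -1, 3, -1],
   [-1, 1, 1, -1, 1, 1, -3, 1, 1, 1, -1, -3, 3, 3, 1, -1, 1, 1, 1, -1, -1, 1, -3, 1],
   [-1, 1, 1, -1, -3, 1, 1, -3, 1, -3, 3, 1, -1, 3, 1, -1, 1, 1, 1, -1, -1, 1, 1, 1],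
   [1, -1, -1, 1, 3, -1, 3, -1, 3, -1, 1, -1, 1, 1, -1, 1, 3, -1, 3, 1, 1, -1, -1, -1],
   [-1, 1, -3, 3, 1, 1, 1, 1, 1, 1, 3, 1, -1, -1, 1, -1, 1, 1, -3, -1, -1, 1, -3, 1],
   [-3, -1, -1, 1, -1, -1, -1, -1, -1, -1, 1, -1, 1, 1, -1, 1, -1, -1, -1, 5, 1, -1, -1, 3],
   [-1, -3, 1, -1, 1, 1, 1, 1, 1, 1, -1, 1, -1, 3, 1, 3, 1, -3, -3, -1, -1, 1, 1, 1],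
   [-1, 1, 1, -1, 1, 1, 1, -3, 1, 1, -1, 1, -1, -1, 1, 3, -3, 1, 1, -1, 3, 1, -3, 1],
   [3, 1, 1, -1, 1, 1, 1, 1, 1, 1, -1, 1, -1, -1, 1, -1, 1, 1, 1, 3, -1, 1, 1, 5]]

theorem F2c_mul : Ma10 * E2 = (8 : ℤ) • F2c := by decide +kernel

theorem F2c_mul2 : F2c * F2c = (8 : ℤ) • F2c_2 := by decide +kernel

theorem F2c_mul4 : F2c_2 * F2c_2 = (8 : ℤ) • F2c_4 := by decide +kernel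

/-- The matrix `F2c_6`. -/
def F2c_6 : Matrix GolayPt GolayPt ℤ := ofL
  [[5, 1, -1, -1, -1, -1, 1, -1, -1, -1, 1, -3, 1, -1, -1, -1, -1, -1, -1, -1, 1, 1, -1, 3],
   [-1, -1, -3, 1, 1, 1, -1, 1, 1, 1, -1, -1, -1, 1, -3, 1, 1, 1, 1, 1, 3, 3, -3, 1],
   [1, 1, -1, -1, -1, 3, 1, 3, -1, -1, 1, 1, 1, -1, 3, -1, -1, -1, 3, 3, 1, 1, -1, -1],
   [-1, -1, 1, -3, 1, 1, 3, 1, 1, 1, -1, -1, -1, 1, 1, 1, 1, -3, -3, 1, -1, 3, 1, 1],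
   [-1, -1, 1, 1, -3, 1, -1, -3, 1, 1, -1, -1, 3, 1, 1, 1, -3, 1, 1, 1, -1, 3, 1, 1],
   [-1, -1, -3, 1, -3, -3, 3, 1, 1, 1, 3, -1, -1, 1, 1, 1, 1, 1, 1, 1, -1, -1, 1, 1],
   [-1, 3, -3, 1, 1, 1, -1, 1, -3, 1, -1, -1, 3, 1, 1, 1, 1, 1, -3, 1, -1, -1, 1, 1],
   [-1, -1, 1, 1, 1, 1, 3, -3, -3, -3, -1, -1, -1, 1, 1, 1, 1, 1, 1, 1, 3, -1, 1, 1],
   [1, 1, -1, 3, -1, 3, 1, -1, 3, -1, 1, 1, 1, -1, -1, -1, 3, -1, -1, -1, 1, 1, 3, -1],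
   [1, 1, -1, -1, 3, -1, 1, -1, 3, -1, 1, 1, 1, 3, 3, -1, -1, 3, -1, -1, 1, 1, -1, -1],
   [-1, 3, 1, 1, 1, 1, 3, 1, 1, 1, -1, -1, -1, 1, -3, -3, -3, 1, 1, 1, -1, -1, 1, 1],
   [-1, -1, 1, 1, 1, 1, -1, 1, -3, 1, 3, -1, -1, 1, 1, -3, 1, 1, 1, -3, -1, 3, 1, 1],
   [-1, -1, 1, 1, 1, 1, -1, 1, 1, 1, 3, -1, -1, -3, 1, 1, -3, 1, -3, 1, 3, -1, 1, 1],
   [-1, -1, 1, 1, 1, -3, -1, 1, 1, 1, -1, -1, 3, 1, 1, -3, 1, -3, 1, 1, 3, -1, 1, 1],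
   [-1, 3, 1, -3, -3, 1, -1, 1, 1, 1, -1, -1, -1, 1, 1, 1, 1, 1, 1, -3, 3, -1, 1, 1],
   [-1, -1, 1, -3, 1, 1, -1, 1, 1, -3, 3, -1, 3, 1, -3, 1, 1, 1, 1, 1, -1, -1, 1, 1],
   [1, 1, -1, -1, 3, -1, 1, -1, -1, 3, 1, 1, 1, -1, -1, 3, -1, -1, 3, -1, 1, 1, 3, -1],
   [-1, 3, 1, 1, 1, 1, -1, -3, 1, 1, 3, -1, -1, 1, 1, 1, 1, -3, 1, 1, -1, -1, -3, 1],
   [1, 1, 3, 3, -1, -1, 1, 3, -1, -1, 1, 1, 1, 3, -1, 3, -1, -1, -1, -1, 1, 1, -1, -1],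
   [-1, 3, 1, 1, 1, -3, -1, 1, 1, -3, -1, -1, -1, -3, 1, 1, 1, 1, 1, 1, -1, 3, 1, 1],
   [-3, 1, -1, -1, -1, -1, 1, -1, -1, -1, 1, 5, 1, -1, -1, -1, -1, -1, -1, -1, 1, 1, -1, 3],
   [-1, -1, 1, 1, 1, 1, 3, 1, 1, 1, -1, -1, 3, -3, 1, 1, 1, 1, 1, -3, -1, -1, -3, 1],
   [1, 1, 3, -1, -1, -1, 1, -1, -1, 3, 1, 1, 1, -1, -1, -1, 3, 3, -1, 3, 1, 1, -1, -1],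
   [3, -1, 1, 1, 1, 1, -1, 1, 1, 1, -1, 3, -1, 1, 1, 1, 1, 1, 1, 1, -1, -1, 1, 5]]

/-- The matrix `F2c_7`. -/
def F2c_7 : Matrix GolayPt GolayPt ℤ := ofL
  [[5, 1, 1, -1, -1, -1, -1, -1, -1, 1, -1, -1, -3, -1, 1, -1, 1, -1, -1, -1, -1, 1, -1, 3],
   [1, 1, 1, -1, -1, 3, -1, -1, -1, 1, -1, 3, 1, -1, 1, 3, 1, 3, -1, -1, 3, 1, -1, -1],
   [1, 1, 1, 3, -1, -1, -1, 3, 3, 1, -1, -1, 1, -1, 1, -1, 1, 3, -1, 3, -1, 1, -1, -1],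
   [-1, 3, -1, 1, -3, 1, -3, 1, 1, 3, 1, 1, -1, 1, -1, 1, -1, -3, 1, 1, 1, -1, 1, 1],
   [-1, -1, 3, 1, 1, -3, 1, -3, 1, 3, 1, 1, -1, 1, -1, 1, -1, 1, 1, 1, 1, -1, -3, 1],
   [-1, -1, -1, 1, 1, 1, 1, 1, 1, -1, 1, 1, -1, 1, 3, 1, 3, -3, -3, 1, 1, -1, -3, 1],
   [-1, 3, -1, 1, 1, -3, 1, 1, 1, -1, -3, 1, -1, 1, -1, 1, 3, 1, 1, -3, 1, -1, 1, 1],
   [-1, -1, -1, 1, -3, 1, 1, -3, 1, -1, 1, -3, -1, 1, -1, 1, 3, 1, 1, 1, 1, 3, 1, 1],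
   [-1, -1, 3, 1, -3, 1, 1, 1, 1, -1, 1, 1, -1, 1, 3, -3, -1, 1, 1, -3, 1, -1, 1, 1],
   [-1, -1, -1, 1, 1, -3, -3, 1, -3, -1, 1, 1, -1, 1, 3, 1, -1, 1, 1, 1, 1, 3, 1, 1],
   [-1, -1, -1, -3, 1, 1, 1, 1, 1, 3, -3, -3, -1, 1, 3, 1, -1, 1, 1, 1, 1, -1, 1, 1],
   [-1, 3, 3, 1, 1, 1, 1, 1, -3, -1, 1, -3, -1, 1, -1, 1, -1, 1, -3, 1, 1, -1, 1, 1],
   [1, 1, 1, 3, 3, 3, -1, -1, -1, 1, -1, -1, 1, 3, 1, -1, 1, -1, 3, -1, -1, 1, -1, -1],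
   [-1, -1, 3, -3, 1, 1, -3, 1, 1, -1, 1, 1, -1, 1, -1, 1, 3, 1, 1, 1, -3, -1, 1, 1],
   [-1, -1, 3, 1, 1, 1, 1, 1, 1, -1, -3, 1, -1, -3, -1, 1, -1, -3, 1, 1, 1, 3, 1, 1],
   [-1, -1, -1, 1, 1, 1, 1, 1, 1, 3, 1, 1, -1, 1, -1, 1, -1, 1, -3, -3, -3, 3, 1, 1],
   [-1, -1, -1, 1, 1, 1, 1, 1, -3, 3, 1, 1, -1, -3, -1, -3, 3, 1, 1, 1, 1, -1, 1, 1],
   [-3, 1, 1, -1, -1, -1, -1, -1, -1, 1, -1, -1, 5, -1, 1, -1, 1, -1, -1, -1, -1, 1, -1, 3],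
   [-1, 3, -1, 1, 1, 1, 1, -3, 1, -1, 1, 1, -1, -3, 3, 1, -1, 1, 1, 1, -3, -1, 1, 1],
   [1, 1, 1, -1, 3, -1, -1, -1, 3, 1, 3, -1, 1, -1, 1, -1, 1, -1, -1, -1, 3, 1, 3, -1],
   [1, 1, 1, -1, -1, -1, 3, 3, -1, 1, 3, -1, 1, -1, 1, 3, 1, -1, 3, -1, -1, 1, -1, -1],
   [-1, 3, -1, -3, 1, 1, 1, 1, 1, -1, 1, 1, -1, 1, -1, -3, -1, 1, 1, 1, 1, 3, -3, 1],
   [1, 1, 1, -1, -1, -1, 3, -1, -1, 1, -1, 3, 1, 3, 1, -1, 1, -1, -1, 3, -1, 1, 3, -1],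
   [3, -1, -1, 1, 1, 1, 1, 1, 1, -1, 1, 1, 3, 1, -1, 1, -1, 1, 1, 1, 1, -1, 1, 5]]

theorem F2c_mul6 : F2c_4 * F2c_2 = (8 : ℤ) • F2c_6 := by decide +kernel

theorem F2c_mul7 : F2c_6 * F2c = (8 : ℤ) • F2c_7 := by decide +kernel

theorem F2c_7_ne : F2c_7 ≠ I8 := by decide +kernel

theorem ne_F2c : (perm (mD ^ 10) * (eE * eE)) ^ 7 ≠ 1 :=
  ne_one_of_rep8 (rep8_pow7 (rep8_mul rep_Ma10 rep_e2 F2c F2c_mul) F2c_mul2 F2c_mul4 F2c_mul6 F2c_mul7) F2c_7_ne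

/-- The matrix `F2d`. -/
def F2d : Matrix GolayPt GolayPt ℤ := ofL
  [[5, -1, -1, -3, -1, -1, -1, -1, -1, -1, -1, 1, -1, -1, 1, 1, -1, 1, -1, 1, -1, -1, 1, 3],
   [-1, 1, 1, -1, 1, 1, 1, -3, -3, 1, 1, -1, -3, 1, -1, -1, 1, 3, 1, 3, 1, 1, -1, 1],
   [-1, 1, 1, -1, 1, 1, 1, 1, 1, -3, -3, 3, -3, 1, 3, -1, 1, -1, 1, -1, 1, 1, -1, 1],
   [-1, 1, 1, -1, 1, -3, 1, 1, -3, 1, 1, 3, 1, 1, -1, -1, -3, -1, 1, -1, 1, 1, 3, 1],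
   [-1, 1, 1, -1, 1, 1, 1, 1, -3, 1, 1, -1, 1, 1, 3, 3, 1, -1, -3, -1, -3, 1, -1, 1],
   [-1, 1, -3, -1, 1, 1, 1, 1, 1, 1, -3, -1, 1, 1, -1, -1, 1, -1, -3, 3, 1, 1, 3, 1],
   [-1, -3, 1, -1, 1, 1, 1, 1, 1, 1, 1, -1, -3, 1, -1, 3, 1, -1, 1, -1, 1, -3, 3, 1],
   [1, -1, 3, 1, -1, -1, 3, -1, -1, -1, -1, 1, 3, -1, 1, 1, 3, 1, -1, 1, 3, -1, 1, -1],
   [-1, 1, 1, -1, -3, 1, 1, 1, 1, 1, -3, -1, 1, 1, -1, 3, -3, 3, 1, -1, 1, 1, -1, 1],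
   [-1, 1, 1, -1, 1, 1, 1, 1, 1, -3, 1, -1, 1, -3, -1, -1, 1, 3, 1, -1, -3, 1, 3, 1],
   [-1, -3, 1, -1, -3, 1, 1, 1, 1, 1, 1, 3, 1, 1, -1, -1, 1, -1, 1, 3, -3, 1, -1, 1],
   [1, -1, 3, 1, 3, -1, -1, -1, 3, 3, -1, 1, -1, -1, 1, 1, -1, 1, -1, 1, -1, 3, 1, -1],
   [-1, 1, 1, -1, 1, 1, 1, 1, 1, 1, 1, -1, 1, -3, 3, -1, -3, -1, 1, 3, 1, -3, -1, 1],
   [1, -1, -1, 1, -1, 3, -1, 3, -1, -1, 3, 1, -1, -1, 1, 1, -1, 1, -1, 1, 3, 3, 1, -1],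
   [-1, -3, -3, -1, 1, -3, 1, 1, 1, 1, 1, -1, 1, 1, 3, -1, 1, 3, 1, -1, 1, 1, -1, 1],
   [-1, 1, 1, -1, -3, 1, -3, -3, 1, 1, 1, -1, 1, 1, 3, -1, 1, -1, 1, -1, 1, 1, 3, 1],
   [-1, 1, 1, -1, 1, -3, -3, 1, 1, -3, 1, -1, 1, 1, -1, 3, 1, -1, 1, 3, 1, 1, -1, 1],
   [1, 3, -1, 1, -1, -1, -1, 3, -1, 3, -1, 1, -1, -1, 1, 1, 3, 1, 3, 1, -1, -1, 1, -1],
   [-1, 1, -3, -1, 1, 1, 1, -3, 1, 1, 1, 3, 1, -3, -1, 3, 1, -1, 1, -1, 1, 1, -1, 1],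
   [-3, -1, -1, 5, -1, -1, -1, -1, -1, -1, -1, 1, -1, -1, 1, 1, -1, 1, -1, 1, -1, -1, 1, 3],
   [1, 3, -1, 1, -1, -1, 3, -1, 3, -1, 3, 1, -1, 3, 1, 1, -1, 1, -1, 1, -1, -1, 1, -1],
   [1, -1, -1, 1, 3, 3, -1, -1, -1, -1, -1, 1, 3, 3, 1, 1, -1, 1, 3, 1, -1, -1, 1, -1],
   [-1, 1, 1, -1, 1, 1, -3, 1, 1, 1, 1, 3, 1, 1, -1, -1, 1, 3, -3, -1, 1, -3, -1, 1],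
   [3, 1, 1, 3, 1, 1, 1, 1, 1, 1, 1, -1, 1, 1, -1, -1, 1, -1, 1, -1, 1, 1, -1, 5]]

/-- The matrix `F2d_2`. -/
def F2d_2 : Matrix GolayPt GolayPt ℤ := ofL
  [[5, -1, -1, 1, -1, -1, -3, -1, 1, 1, -1, -1, -1, -1, 1, -1, 1, 1, -1, -1, -1, -1, -1, 3],
   [-1, 1, -3, 3, 1, 1, -1, 1, -1, -1, 1, 1, -3, 1, -1, 1, 3, -1, 1, 1, -3, 1, 1, 1],
   [1, -1, -1, 1, 3, -1, 1, -1, 1, 1, -1, -1, -1, 3, 1, 3, 1, 1, -1, -1, 3, 3, -1, -1],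
   [1, -1, 3, 1, 3, 3, 1, -1, 1, 1, 3, 3, -1, -1, 1, -1, 1, 1, -1, -1, -1, -1, -1, -1],
   [-1, -3, 1, -1, 1, 1, -1, 1, -1, -1, 1, -3, 1, 1, 3, -3, 3, -1, 1, 1, 1, 1, 1, 1],
   [-1, 1, 1, 3, 1, 1, -1, 1, -1, -1, 1, -3, 1, 1, -1, 1, -1, 3, -3, 1, 1, -3, 1, 1],
   [-1, 1, 1, -1, -3, 1, -1, 1, 3, -1, 1, 1, 1, 1, -1, 1, 3, -1, -3, -3, 1, 1, 1, 1],
   [-1, 1, 1, -1, 1, -3, -1, 1, 3, -1, 1, 1, -3, 1, 3, 1, -1, -1, 1, 1, 1, -3, 1, 1],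
   [1, 3, -1, 1, -1, 3, 1, -1, 1, 1, -1, -1, -1, -1, 1, -1, 1, 1, 3, -1, 3, -1, 3, -1],
   [-1, 1, 1, -1, 1, 1, -1, 1, -1, 3, -3, 1, 1, 1, -1, 1, 3, -1, 1, 1, 1, -3, -3, 1],
   [-1, -3, 1, 3, 1, 1, -1, 1, 3, -1, -3, 1, 1, -3, -1, 1, -1, -1, 1, 1, 1, 1, 1, 1],
   [-1, 1, 1, -1, 1, 1, -1, 1, -1, -1, -3, 1, 1, 1, 3, 1, -1, 3, 1, -3, -3, 1, 1, 1],
   [-3, -1, -1, 1, -1, -1, 5, -1, 1, 1, -1, -1, -1, -1, 1, -1, 1, 1, -1, -1, -1, -1, -1, 3],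
   [1, -1, -1, 1, -1, -1, 1, -1, 1, 1, -1, 3, 3, 3, 1, -1, 1, 1, -1, 3, -1, -1, 3, -1],
   [1, -1, -1, 1, -1, -1, 1, 3, 1, 1, 3, -1, 3, -1, 1, 3, 1, 1, 3, -1, -1, -1, -1, -1],
   [-1, 1, -3, -1, 1, 1, -1, 1, 3, -1, 1, 1, 1, 1, -1, -3, -1, 3, 1, 1, 1, 1, -3, 1],
   [-1, 1, 1, 3, -3, 1, -1, -3, -1, -1, 1, 1, 1, 1, 3, 1, -1, -1, 1, 1, 1, 1, -3, 1],
   [-1, 1, 1, -1, 1, -3, -1, -3, -1, -1, 1, 1, 1, -3, -1, 1, 3, 3, 1, 1, 1, 1, 1, 1],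
   [-1, 1, 1, -1, 1, 1, -1, -3, 3, 3, 1, -3, 1, 1, -1, 1, -1, -1, 1, 1, -3, 1, 1, 1],
   [-1, 1, 1, 3, 1, -3, -1, 1, -1, 3, 1, 1, 1, 1, -1, -3, -1, -1, 1, -3, 1, 1, 1, 1],
   [-1, -3, 1, -1, -3, 1, -1, 1, -1, 3, 1, 1, -3, 1, -1, 1, -1, 3, 1, 1, 1, 1, 1, 1],
   [-1, 1, -3, -1, 1, 1, -1, 1, -1, 3, 1, 1, 1, -3, 3, 1, -1, -1, -3, 1, 1, 1, 1, 1],
   [1, 3, 3, 1, -1, -1, 1, 3, 1, 1, -1, -1, -1, -1, 1, -1, 1, 1, -1, 3, -1, 3, -1, -1],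
   [3, 1, 1, -1, 1, 1, 3, 1, -1, -1, 1, 1, 1, 1, -1, 1, -1, -1, 1, 1, 1, 1, 1, 5]]

/-- The matrix `F2d_4`. -/
def F2d_4 : Matrix GolayPt GolayPt ℤ := ofL
  [[6, 0, 0, 0, 0, 0, 0, -2, -2, 0, 0, 0, 0, -2, 0, 0, 0, 0, 2, 0, 0, -2, -2, 2],
   [0, 2, 2, 2, 2, 2, -2, 0, 0, -2, 2, 2, 2, 0, 2, -2, -2, -2, 0, 2, -2, 0, 0, 0],
   [0, -2, -2, -2, -2, 2, -2, 0, 0, 2, 2, 2, 2, 0, 2, -2, 2, 2, 0, 2, 2, 0, 0, 0],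
   [0, -2, 2, 2, 2, 2, -2, 0, 0, -2, -2, -2, 2, 0, 2, 2, 2, 2, 0, -2, 2, 0, 0, 0],
   [0, -2, 2, 2, -2, -2, 2, 0, 0, 2, 2, -2, 2, 0, 2, 2, -2, -2, 0, 2, 2, 0, 0, 0],
   [0, -2, 2, 2, 2, -2, 2, 0, 0, -2, 2, 2, -2, 0, -2, -2, 2, 2, 0, 2, 2, 0, 0, 0],
   [0, 2, -2, 2, -2, 2, 2, 0, 0, -2, -2, 2, -2, 0, 2, 2, -2, 2, 0, 2, 2, 0, 0, 0],
   [2, 0, 0, 0, 0, 0, 0, 2, 2, 0, 0, 0, 0, 2, 0, 0, 0, 0, 6, 0, 0, 2, 2, -2],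
   [0, 2, 2, 2, -2, 2, -2, 0, 0, 2, 2, -2, -2, 0, -2, 2, 2, 2, 0, 2, -2, 0, 0, 0],
   [-2, 0, 0, 0, 0, 0, 0, -2, -2, 0, 0, 0, 0, 6, 0, 0, 0, 0, 2, 0, 0, -2, -2, 2],
   [0, 2, 2, -2, 2, 2, 2, 0, 0, 2, 2, -2, -2, 0, 2, -2, -2, 2, 0, -2, 2, 0, 0, 0],
   [0, 2, -2, -2, 2, -2, 2, 0, 0, -2, 2, -2, 2, 0, 2, 2, 2, 2, 0, 2, -2, 0, 0, 0],
   [0, 2, 2, -2, -2, 2, 2, 0, 0, -2, 2, 2, 2, 0, -2, 2, 2, -2, 0, -2, 2, 0, 0, 0],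
   [0, 2, 2, 2, -2, -2, 2, 0, 0, 2, -2, 2, 2, 0, 2, -2, 2, 2, 0, -2, -2, 0, 0, 0],
   [-2, 0, 0, 0, 0, 0, 0, -2, 6, 0, 0, 0, 0, -2, 0, 0, 0, 0, 2, 0, 0, -2, -2, 2],
   [-2, 0, 0, 0, 0, 0, 0, -2, -2, 0, 0, 0, 0, -2, 0, 0, 0, 0, 2, 0, 0, -2, 6, 2],
   [0, -2, -2, 2, 2, 2, 2, 0, 0, 2, 2, 2, 2, 0, -2, 2, -2, 2, 0, -2, -2, 0, 0, 0],
   [-2, 0, 0, 0, 0, 0, 0, -2, -2, 0, 0, 0, 0, -2, 0, 0, 0, 0, 2, 0, 0, 6, -2, 2],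
   [0, 2, -2, 2, 2, 2, 2, 0, 0, 2, -2, -2, 2, 0, -2, -2, 2, -2, 0, 2, 2, 0, 0, 0],
   [0, -2, 2, -2, 2, 2, 2, 0, 0, 2, -2, 2, -2, 0, 2, 2, 2, -2, 0, 2, -2, 0, 0, 0],
   [0, 2, 2, -2, 2, -2, -2, 0, 0, 2, -2, 2, 2, 0, -2, 2, -2, 2, 0, 2, 2, 0, 0, 0],
   [-2, 0, 0, 0, 0, 0, 0, 6, -2, 0, 0, 0, 0, -2, 0, 0, 0, 0, 2, 0, 0, -2, -2, 2],
   [0, 2, -2, 2, 2, -2, -2, 0, 0, 2, 2, 2, -2, 0, 2, 2, 2, -2, 0, -2, 2, 0, 0, 0],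
   [2, 0, 0, 0, 0, 0, 0, 2, 2, 0, 0, 0, 0, 2, 0, 0, 0, 0, -2, 0, 0, 2, 2, 6]]

theorem F2d_mul : Ma10 * E3 = (8 : ℤ) • F2d := by decide +kernel

theorem F2d_mul2 : F2d * F2d = (8 : ℤ) • F2d_2 := by decide +kernel

theorem F2d_mul4 : F2d_2 * F2d_2 = (8 : ℤ) • F2d_4 := by decide +kernel

/-- The matrix `F2d_6`. -/
def F2d_6 : Matrix GolayPt GolayPt ℤ := ofL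
  [[4, -2, 0, 0, 0, 0, -2, -2, 0, 0, 0, -2, 0, 0, -2, 0, 0, 0, 0, -2, -2, 0, -2, 4],
   [0, -2, 0, 4, 4, 0, 2, 2, 0, 0, 0, -2, 0, 0, 2, 0, 0, 0, 0, -2, -2, 0, 2, 0],
   [-2, 0, 2, 2, -2, -2, 0, 0, -2, 2, -2, 0, 2, -2, 0, 2, -2, 2, 2, 0, 0, -2, 0, 2],
   [0, -2, 0, 0, 0, 0, 2, -2, 0, 0, 4, -2, 0, 0, 2, 0, 0, 4, 0, 2, 2, 0, -2, 0],
   [0, -2, 0, 0, 0, 0, 2, 2, 4, 4, 0, 2, 0, 0, -2, 0, 0, 0, 0, -2, 2, 0, -2, 0],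
   [0, -2, 4, 0, 0, 0, -2, -2, 0, 0, 0, 2, 0, 0, 2, 0, 0, 0, 0, -2, 2, 4, 2, 0],
   [0, 2, 0, 0, 0, 0, -2, 2, 0, 0, 4, 2, 0, 0, -2, 0, 0, 4, 0, -2, -2, 0, 2, 0],
   [0, 2, 0, 0, 0, 0, -2, -2, 4, 4, 0, -2, 0, 0, 2, 0, 0, 0, 0, 2, -2, 0, 2, 0],
   [0, 2, 0, 4, 4, 0, -2, -2, 0, 0, 0, 2, 0, 0, -2, 0, 0, 0, 0, 2, 2, 0, -2, 0],
   [0, -2, 0, 0, 0, 0, 2, -2, 0, 0, 0, 2, 4, 4, -2, 0, 0, 0, 0, 2, -2, 0, 2, 0],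
   [0, -2, 0, 0, 0, 0, -2, 2, 0, 0, 0, -2, 0, 0, -2, 4, 4, 0, 0, 2, 2, 0, 2, 0],
   [-2, 0, -2, 2, -2, -2, 0, 0, 2, -2, 2, 0, 2, -2, 0, -2, 2, -2, 2, 0, 0, 2, 0, 2],
   [-2, 0, -2, 2, -2, 2, 0, 0, 2, -2, -2, 0, -2, 2, 0, 2, -2, 2, -2, 0, 0, 2, 0, 2],
   [0, 2, 0, 0, 0, 0, 2, -2, 0, 0, 0, 2, 0, 0, 2, 4, 4, 0, 0, -2, -2, 0, -2, 0],
   [0, 2, 0, 0, 0, 4, 2, -2, 0, 0, 0, -2, 0, 0, -2, 0, 0, 0, 4, -2, 2, 0, 2, 0],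
   [0, 2, 4, 0, 0, 0, 2, 2, 0, 0, 0, -2, 0, 0, -2, 0, 0, 0, 0, 2, -2, 4, -2, 0],
   [-2, 0, 2, -2, 2, 2, 0, 0, 2, -2, -2, 0, 2, -2, 0, -2, 2, 2, -2, 0, 0, -2, 0, 2],
   [-2, 0, -2, -2, 2, 2, 0, 0, -2, 2, 2, 0, 2, -2, 0, 2, -2, -2, -2, 0, 0, 2, 0, 2],
   [-2, 0, 2, 2, -2, 2, 0, 0, -2, 2, 2, 0, -2, 2, 0, -2, 2, -2, -2, 0, 0, -2, 0, 2],
   [0, 2, 0, 0, 0, 0, -2, 2, 0, 0, 0, -2, 4, 4, 2, 0, 0, 0, 0, -2, 2, 0, -2, 0],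
   [-2, 0, -2, -2, 2, -2, 0, 0, -2, 2, -2, 0, -2, 2, 0, -2, 2, 2, 2, 0, 0, 2, 0, 2],
   [-2, 0, 2, -2, 2, -2, 0, 0, 2, -2, 2, 0, -2, 2, 0, 2, -2, -2, 2, 0, 0, -2, 0, 2],
   [0, -2, 0, 0, 0, 4, -2, 2, 0, 0, 0, 2, 0, 0, 2, 0, 0, 0, 4, 2, -2, 0, -2, 0],
   [4, 2, 0, 0, 0, 0, 2, 2, 0, 0, 0, 2, 0, 0, 2, 0, 0, 0, 0, 2, 2, 0, 2, 4]]

/-- The matrix `F2d_7`. -/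
def F2d_7 : Matrix GolayPt GolayPt ℤ := ofL
  [[5, 1, -1, -1, -1, 1, -1, 1, -1, -1, -1, -1, 1, -1, -1, -1, -1, -3, 1, -1, -1, 1, -1, 3],
   [-1, -1, 1, -3, 1, -1, 1, 3, -3, 1, 1, 1, 3, 1, 1, 1, 1, -1, -1, -3, 1, -1, 1, 1],
   [-1, 3, 1, 1, 1, -1, 1, -1, 1, 1, 1, 1, -1, -3, 1, -3, 1, -1, 3, -3, 1, -1, 1, 1],
   [-1, -1, -3, 1, -3, -1, 1, 3, 1, 1, 1, 1, -1, 1, 1, 1, 1, -1, 3, 1, -3, -1, 1, 1],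
   [1, 1, 3, -1, -1, 1, 3, 1, 3, -1, -1, -1, 1, -1, -1, 3, -1, 1, 1, -1, -1, 1, 3, -1],
   [1, 1, -1, -1, 3, 1, -1, 1, 3, -1, -1, 3, 1, 3, 3, -1, -1, 1, 1, -1, -1, 1, -1, -1],
   [1, 1, 3, -1, -1, 1, -1, 1, -1, 3, -1, 3, 1, -1, -1, -1, 3, 1, 1, 3, -1, 1, -1, -1],
   [-3, 1, -1, -1, -1, 1, -1, 1, -1, -1, -1, -1, 1, -1, -1, -1, -1, 5, 1, -1, -1, 1, -1, 3],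
   [-1, 3, 1, 1, 1, -1, 1, -1, -3, 1, 1, 1, -1, 1, 1, 1, -3, -1, -1, 1, -3, 3, 1, 1],
   [-1, -1, 1, 1, 1, 3, -3, 3, 1, 1, 1, 1, -1, -3, 1, 1, -3, -1, -1, 1, 1, -1, 1, 1],
   [-1, 3, 1, 1, -3, -1, -3, -1, 1, -3, 1, 1, 3, 1, 1, 1, 1, -1, -1, 1, 1, -1, 1, 1],
   [-1, -1, 1, 1, 1, -1, 1, -1, 1, 1, 1, 1, 3, 1, -3, 1, -3, -1, 3, 1, 1, -1, -3, 1],
   [1, 1, -1, 3, -1, 1, -1, 1, -1, 3, -1, -1, 1, 3, -1, -1, -1, 1, 1, -1, 3, 1, 3, -1],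
   [-1, -1, 1, -3, 1, -1, -3, -1, 1, 1, 1, -3, -1, 1, 1, 1, 1, -1, 3, 1, 1, 3, 1, 1],
   [-1, 3, -3, -3, 1, 3, 1, -1, 1, 1, 1, 1, -1, 1, -3, 1, 1, -1, -1, 1, 1, -1, 1, 1],
   [-1, -1, 1, 1, 1, 3, 1, -1, -3, -3, -3, 1, -1, 1, 1, 1, 1, -1, 3, 1, 1, -1, 1, 1],
   [-1, 3, 1, 1, 1, -1, 1, 3, 1, 1, -3, -3, -1, 1, 1, 1, 1, -1, -1, 1, 1, -1, -3, 1],
   [-1, -1, 1, 1, 1, 3, 1, -1, 1, 1, 1, -3, 3, 1, 1, -3, 1, -1, -1, 1, -3, -1, 1, 1],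
   [-1, -1, 1, 1, 1, -1, 1, 3, 1, -3, 1, 1, -1, 1, -3, -3, 1, -1, -1, 1, 1, 3, 1, 1],
   [1, 1, -1, -1, -1, 1, 3, 1, -1, -1, 3, -1, 1, -1, 3, -1, -1, 1, 1, 3, 3, 1, -1, -1],
   [1, 1, -1, 3, 3, 1, -1, 1, -1, -1, 3, -1, 1, -1, -1, 3, 3, 1, 1, -1, -1, 1, -1, -1],
   [-1, -1, 1, 1, -3, 3, 1, -1, 1, 1, 1, 1, -1, 1, 1, 1, 1, -1, -1, -3, 1, 3, -3, 1],
   [-1, -1, -3, 1, 1, -1, 1, -1, 1, 1, -3, 1, 3, -3, 1, 1, 1, -1, -1, 1, 1, 3, 1, 1],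
   [3, -1, 1, 1, 1, -1, 1, -1, 1, 1, 1, 1, -1, 1, 1, 1, 1, 3, -1, 1, 1, -1, 1, 5]]

theorem F2d_mul6 : F2d_4 * F2d_2 = (8 : ℤ) • F2d_6 := by decide +kernel

theorem F2d_mul7 : F2d_6 * F2d = (8 : ℤ) • F2d_7 := by decide +kernel

theorem F2d_7_ne : F2d_7 ≠ I8 := by decide +kernel

theorem ne_F2d : (perm (mD ^ 10) * (eE' * eE')) ^ 7 ≠ 1 :=
  ne_one_of_rep8 (rep8_pow7 (rep8_mul rep_Ma10 rep_e3 F2d F2d_mul) F2d_mul2 F2d_mul4 F2d_mul6 F2d_mul7) F2d_7_ne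

/-- The matrix `F5a`. -/
def F5a : Matrix GolayPt GolayPt ℤ := ofL
  [[6, 0, 0, 2, 0, -2, 0, -2, 0, 0, -2, 0, 0, 0, 0, 0, 0, 0, 0, 0, -2, -2, 0, 2],
   [0, 2, 2, 0, 2, 0, 2, 0, 2, 2, 0, -2, -2, 2, 2, -2, -2, 2, -2, -2, 0, 0, 2, 0],
   [0, 2, 2, 0, -2, 0, 2, 0, 2, -2, 0, 2, 2, 2, -2, 2, 2, -2, -2, -2, 0, 0, 2, 0],
   [0, 2, 2, 0, -2, 0, 2, 0, -2, 2, 0, 2, 2, -2, 2, -2, 2, 2, 2, -2, 0, 0, -2, 0],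
   [0, 2, 2, 0, 2, 0, -2, 0, 2, 2, 0, 2, -2, -2, -2, -2, 2, -2, 2, 2, 0, 0, 2, 0],
   [-2, 0, 0, 2, 0, -2, 0, 6, 0, 0, -2, 0, 0, 0, 0, 0, 0, 0, 0, 0, -2, -2, 0, 2],
   [0, -2, 2, 0, 2, 0, 2, 0, 2, 2, 0, -2, 2, -2, -2, 2, 2, 2, -2, 2, 0, 0, -2, 0],
   [0, -2, 2, 0, -2, 0, 2, 0, -2, 2, 0, 2, -2, 2, -2, 2, -2, 2, 2, 2, 0, 0, 2, 0],
   [0, 2, -2, 0, 2, 0, 2, 0, 2, -2, 0, 2, 2, 2, -2, -2, -2, 2, 2, 2, 0, 0, -2, 0],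
   [0, -2, 2, 0, 2, 0, -2, 0, 2, 2, 0, 2, 2, 2, 2, 2, -2, -2, 2, -2, 0, 0, -2, 0],
   [0, 2, -2, 0, 2, 0, 2, 0, -2, 2, 0, 2, 2, -2, 2, 2, -2, -2, -2, 2, 0, 0, 2, 0],
   [-2, 0, 0, 2, 0, -2, 0, -2, 0, 0, 6, 0, 0, 0, 0, 0, 0, 0, 0, 0, -2, -2, 0, 2],
   [2, 0, 0, 6, 0, 2, 0, 2, 0, 0, 2, 0, 0, 0, 0, 0, 0, 0, 0, 0, 2, 2, 0, -2],
   [0, 2, -2, 0, 2, 0, -2, 0, -2, 2, 0, -2, 2, 2, -2, 2, 2, 2, 2, -2, 0, 0, 2, 0],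
   [0, -2, -2, 0, -2, 0, -2, 0, 2, 2, 0, 2, 2, 2, 2, -2, 2, 2, -2, 2, 0, 0, 2, 0],
   [-2, 0, 0, 2, 0, 6, 0, -2, 0, 0, -2, 0, 0, 0, 0, 0, 0, 0, 0, 0, -2, -2, 0, 2],
   [0, -2, 2, 0, 2, 0, 2, 0, -2, -2, 0, -2, 2, 2, 2, -2, 2, -2, 2, 2, 0, 0, 2, 0],
   [-2, 0, 0, 2, 0, -2, 0, -2, 0, 0, -2, 0, 0, 0, 0, 0, 0, 0, 0, 0, -2, 6, 0, 2],
   [0, 2, -2, 0, -2, 0, 2, 0, 2, 2, 0, -2, -2, 2, 2, 2, 2, -2, 2, 2, 0, 0, -2, 0],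
   [0, -2, -2, 0, 2, 0, 2, 0, 2, -2, 0, 2, -2, -2, 2, 2, 2, 2, 2, -2, 0, 0, 2, 0],
   [-2, 0, 0, 2, 0, -2, 0, -2, 0, 0, -2, 0, 0, 0, 0, 0, 0, 0, 0, 0, 6, -2, 0, 2],
   [0, 2, 2, 0, -2, 0, -2, 0, 2, -2, 0, -2, 2, -2, 2, 2, -2, 2, 2, 2, 0, 0, 2, 0],
   [0, 2, 2, 0, 2, 0, -2, 0, -2, -2, 0, 2, -2, 2, 2, 2, 2, 2, -2, 2, 0, 0, -2, 0],
   [2, 0, 0, -2, 0, 2, 0, 2, 0, 0, 2, 0, 0, 0, 0, 0, 0, 0, 0, 0, 2, 2, 0, 6]]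

/-- The matrix `F5a_2`. -/
def F5a_2 : Matrix GolayPt GolayPt ℤ := ofL
  [[6, 0, 0, 0, 0, 0, 0, -2, 0, 0, 0, 0, 0, 0, 0, -2, 2, 0, 0, -2, -2, 0, -2, 2],
   [0, 2, 2, -2, 2, -2, -2, 0, 2, 2, -2, 2, 2, 2, -2, 0, 0, 2, -2, 0, 0, 2, 0, 0],
   [0, 2, 2, 2, 2, 2, 2, 0, -2, -2, 2, -2, 2, 2, -2, 0, 0, 2, -2, 0, 0, -2, 0, 0],
   [0, -2, 2, 2, -2, -2, 2, 0, 2, 2, 2, -2, 2, 2, 2, 0, 0, -2, -2, 0, 0, 2, 0, 0],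
   [0, 2, 2, -2, 2, -2, 2, 0, 2, -2, 2, 2, -2, 2, 2, 0, 0, -2, 2, 0, 0, -2, 0, 0],
   [0, -2, 2, -2, -2, 2, 2, 0, -2, 2, 2, 2, -2, 2, -2, 0, 0, 2, 2, 0, 0, 2, 0, 0],
   [0, -2, 2, 2, 2, 2, 2, 0, 2, -2, -2, 2, 2, -2, -2, 0, 0, -2, 2, 0, 0, 2, 0, 0],
   [-2, 0, 0, 0, 0, 0, 0, -2, 0, 0, 0, 0, 0, 0, 0, 6, 2, 0, 0, -2, -2, 0, -2, 2],
   [0, 2, -2, 2, 2, -2, 2, 0, 2, 2, 2, -2, -2, -2, -2, 0, 0, 2, 2, 0, 0, 2, 0, 0],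
   [0, 2, -2, 2, -2, 2, -2, 0, 2, 2, 2, 2, 2, 2, -2, 0, 0, -2, 2, 0, 0, -2, 0, 0],
   [0, -2, 2, 2, 2, 2, -2, 0, 2, 2, 2, 2, -2, -2, 2, 0, 0, 2, -2, 0, 0, -2, 0, 0],
   [0, 2, -2, -2, 2, 2, 2, 0, -2, 2, 2, 2, 2, -2, 2, 0, 0, -2, -2, 0, 0, 2, 0, 0],
   [0, 2, 2, 2, -2, -2, 2, 0, -2, 2, -2, 2, 2, -2, 2, 0, 0, 2, 2, 0, 0, -2, 0, 0],
   [0, 2, 2, 2, 2, 2, -2, 0, -2, 2, -2, -2, -2, 2, 2, 0, 0, -2, 2, 0, 0, 2, 0, 0],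
   [0, -2, -2, 2, 2, -2, -2, 0, -2, -2, 2, 2, 2, 2, 2, 0, 0, 2, 2, 0, 0, 2, 0, 0],
   [-2, 0, 0, 0, 0, 0, 0, 6, 0, 0, 0, 0, 0, 0, 0, -2, 2, 0, 0, -2, -2, 0, -2, 2],
   [2, 0, 0, 0, 0, 0, 0, 2, 0, 0, 0, 0, 0, 0, 0, 2, 6, 0, 0, 2, 2, 0, 2, -2],
   [0, 2, 2, -2, -2, 2, -2, 0, 2, -2, 2, -2, 2, -2, 2, 0, 0, 2, 2, 0, 0, 2, 0, 0],
   [0, -2, -2, -2, 2, 2, 2, 0, 2, 2, -2, -2, 2, 2, 2, 0, 0, 2, 2, 0, 0, -2, 0, 0],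
   [-2, 0, 0, 0, 0, 0, 0, -2, 0, 0, 0, 0, 0, 0, 0, -2, 2, 0, 0, 6, -2, 0, -2, 2],
   [-2, 0, 0, 0, 0, 0, 0, -2, 0, 0, 0, 0, 0, 0, 0, -2, 2, 0, 0, -2, 6, 0, -2, 2],
   [0, 2, -2, 2, -2, 2, 2, 0, 2, -2, -2, 2, -2, 2, 2, 0, 0, 2, -2, 0, 0, 2, 0, 0],
   [-2, 0, 0, 0, 0, 0, 0, -2, 0, 0, 0, 0, 0, 0, 0, -2, 2, 0, 0, -2, -2, 0, 6, 2],
   [2, 0, 0, 0, 0, 0, 0, 2, 0, 0, 0, 0, 0, 0, 0, 2, -2, 0, 0, 2, 2, 0, 2, 6]]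

/-- The matrix `F5a_4`. -/
def F5a_4 : Matrix GolayPt GolayPt ℤ := ofL
  [[8, 0, 0, 0, 0, 0, 0, 0, 0, 0, 0, 0, 0, 0, 0, 0, 0, 0, 0, 0, 0, 0, 0, 0],
   [0, 8, 0, 0, 0, 0, 0, 0, 0, 0, 0, 0, 0, 0, 0, 0, 0, 0, 0, 0, 0, 0, 0, 0],
   [0, 0, 8, 0, 0, 0, 0, 0, 0, 0, 0, 0, 0, 0, 0, 0, 0, 0, 0, 0, 0, 0, 0, 0],
   [0, 0, 0, 8, 0, 0, 0, 0, 0, 0, 0, 0, 0, 0, 0, 0, 0, 0, 0, 0, 0, 0, 0, 0],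
   [0, 0, 0, 0, 8, 0, 0, 0, 0, 0, 0, 0, 0, 0, 0, 0, 0, 0, 0, 0, 0, 0, 0, 0],
   [0, 0, 0, 0, 0, 8, 0, 0, 0, 0, 0, 0, 0, 0, 0, 0, 0, 0, 0, 0, 0, 0, 0, 0],
   [0, 0, 0, 0, 0, 0, 8, 0, 0, 0, 0, 0, 0, 0, 0, 0, 0, 0, 0, 0, 0, 0, 0, 0],
   [0, 0, 0, 0, 0, 0, 0, 8, 0, 0, 0, 0, 0, 0, 0, 0, 0, 0, 0, 0, 0, 0, 0, 0],
   [0, 0, 0, 0, 0, 0, 0, 0, 8, 0, 0, 0, 0, 0, 0, 0, 0, 0, 0, 0, 0, 0, 0, 0],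
   [0, 0, 0, 0, 0, 0, 0, 0, 0, 8, 0, 0, 0, 0, 0, 0, 0, 0, 0, 0, 0, 0, 0, 0],
   [0, 0, 0, 0, 0, 0, 0, 0, 0, 0, 8, 0, 0, 0, 0, 0, 0, 0, 0, 0, 0, 0, 0, 0],
   [0, 0, 0, 0, 0, 0, 0, 0, 0, 0, 0, 8, 0, 0, 0, 0, 0, 0, 0, 0, 0, 0, 0, 0],
   [0, 0, 0, 0, 0, 0, 0, 0, 0, 0, 0, 0, 8, 0, 0, 0, 0, 0, 0, 0, 0, 0, 0, 0],
   [0, 0, 0, 0, 0, 0, 0, 0, 0, 0, 0, 0, 0, 8, 0, 0, 0, 0, 0, 0, 0, 0, 0, 0],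
   [0, 0, 0, 0, 0, 0, 0, 0, 0, 0, 0, 0, 0, 0, 8, 0, 0, 0, 0, 0, 0, 0, 0, 0],
   [0, 0, 0, 0, 0, 0, 0, 0, 0, 0, 0, 0, 0, 0, 0, 8, 0, 0, 0, 0, 0, 0, 0, 0],
   [0, 0, 0, 0, 0, 0, 0, 0, 0, 0, 0, 0, 0, 0, 0, 0, 8, 0, 0, 0, 0, 0, 0, 0],
   [0, 0, 0, 0, 0, 0, 0, 0, 0, 0, 0, 0, 0, 0, 0, 0, 0, 8, 0, 0, 0, 0, 0, 0],
   [0, 0, 0, 0, 0, 0, 0, 0, 0, 0, 0, 0, 0, 0, 0, 0, 0, 0, 8, 0, 0, 0, 0, 0],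
   [0, 0, 0, 0, 0, 0, 0, 0, 0, 0, 0, 0, 0, 0, 0, 0, 0, 0, 0, 8, 0, 0, 0, 0],
   [0, 0, 0, 0, 0, 0, 0, 0, 0, 0, 0, 0, 0, 0, 0, 0, 0, 0, 0, 0, 8, 0, 0, 0],
   [0, 0, 0, 0, 0, 0, 0, 0, 0, 0, 0, 0, 0, 0, 0, 0, 0, 0, 0, 0, 0, 8, 0, 0],
   [0, 0, 0, 0, 0, 0, 0, 0, 0, 0, 0, 0, 0, 0, 0, 0, 0, 0, 0, 0, 0, 0, 8, 0],
   [0, 0, 0, 0, 0, 0, 0, 0, 0, 0, 0, 0, 0, 0, 0, 0, 0, 0, 0, 0, 0, 0, 0, 8]]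

theorem F5a_mul : Ma2t * E8 = (8 : ℤ) • F5a := by decide +kernel

theorem F5a_mul2 : F5a * F5a = (8 : ℤ) • F5a_2 := by decide +kernel

theorem F5a_mul4 : F5a_2 * F5a_2 = (8 : ℤ) • F5a_4 := by decide +kernel

/-- The matrix `F5a_5`. -/
def F5a_5 : Matrix GolayPt GolayPt ℤ := ofL
  [[6, 0, 0, 2, 0, -2, 0, -2, 0, 0, -2, 0, 0, 0, 0, 0, 0, 0, 0, 0, -2, -2, 0, 2],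
   [0, 2, 2, 0, 2, 0, 2, 0, 2, 2, 0, -2, -2, 2, 2, -2, -2, 2, -2, -2, 0, 0, 2, 0],
   [0, 2, 2, 0, -2, 0, 2, 0, 2, -2, 0, 2, 2, 2, -2, 2, 2, -2, -2, -2, 0, 0, 2, 0],
   [0, 2, 2, 0, -2, 0, 2, 0, -2, 2, 0, 2, 2, -2, 2, -2, 2, 2, 2, -2, 0, 0, -2, 0],
   [0, 2, 2, 0, 2, 0, -2, 0, 2, 2, 0, 2, -2, -2, -2, -2, 2, -2, 2, 2, 0, 0, 2, 0],
   [-2, 0, 0, 2, 0, -2, 0, 6, 0, 0, -2, 0, 0, 0, 0, 0, 0, 0, 0, 0, -2, -2, 0, 2],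
   [0, -2, 2, 0, 2, 0, 2, 0, 2, 2, 0, -2, 2, -2, -2, 2, 2, 2, -2, 2, 0, 0, -2, 0],
   [0, -2, 2, 0, -2, 0, 2, 0, -2, 2, 0, 2, -2, 2, -2, 2, -2, 2, 2, 2, 0, 0, 2, 0],
   [0, 2, -2, 0, 2, 0, 2, 0, 2, -2, 0, 2, 2, 2, -2, -2, -2, 2, 2, 2, 0, 0, -2, 0],
   [0, -2, 2, 0, 2, 0, -2, 0, 2, 2, 0, 2, 2, 2, 2, 2, -2, -2, 2, -2, 0, 0, -2, 0],
   [0, 2, -2, 0, 2, 0, 2, 0, -2, 2, 0, 2, 2, -2, 2, 2, -2, -2, -2, 2, 0, 0, 2, 0],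
   [-2, 0, 0, 2, 0, -2, 0, -2, 0, 0, 6, 0, 0, 0, 0, 0, 0, 0, 0, 0, -2, -2, 0, 2],
   [2, 0, 0, 6, 0, 2, 0, 2, 0, 0, 2, 0, 0, 0, 0, 0, 0, 0, 0, 0, 2, 2, 0, -2],
   [0, 2, -2, 0, 2, 0, -2, 0, -2, 2, 0, -2, 2, 2, -2, 2, 2, 2, 2, -2, 0, 0, 2, 0],
   [0, -2, -2, 0, -2, 0, -2, 0, 2, 2, 0, 2, 2, 2, 2, -2, 2, 2, -2, 2, 0, 0, 2, 0],
   [-2, 0, 0, 2, 0, 6, 0, -2, 0, 0, -2, 0, 0, 0, 0, 0, 0, 0, 0, 0, -2, -2, 0, 2],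
   [0, -2, 2, 0, 2, 0, 2, 0, -2, -2, 0, -2, 2, 2, 2, -2, 2, -2, 2, 2, 0, 0, 2, 0],
   [-2, 0, 0, 2, 0, -2, 0, -2, 0, 0, -2, 0, 0, 0, 0, 0, 0, 0, 0, 0, -2, 6, 0, 2],
   [0, 2, -2, 0, -2, 0, 2, 0, 2, 2, 0, -2, -2, 2, 2, 2, 2, -2, 2, 2, 0, 0, -2, 0],
   [0, -2, -2, 0, 2, 0, 2, 0, 2, -2, 0, 2, -2, -2, 2, 2, 2, 2, 2, -2, 0, 0, 2, 0],
   [-2, 0, 0, 2, 0, -2, 0, -2, 0, 0, -2, 0, 0, 0, 0, 0, 0, 0, 0, 0, 6, -2, 0, 2],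
   [0, 2, 2, 0, -2, 0, -2, 0, 2, -2, 0, -2, 2, -2, 2, 2, -2, 2, 2, 2, 0, 0, 2, 0],
   [0, 2, 2, 0, 2, 0, -2, 0, -2, -2, 0, 2, -2, 2, 2, 2, 2, 2, -2, 2, 0, 0, -2, 0],
   [2, 0, 0, -2, 0, 2, 0, 2, 0, 0, 2, 0, 0, 0, 0, 0, 0, 0, 0, 0, 2, 2, 0, 6]]

theorem F5a_mul5 : F5a_4 * F5a = (8 : ℤ) • F5a_5 := by decide +kernel

theorem F5a_5_ne : F5a_5 ≠ I8 := by decide +kernel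

theorem ne_F5a : (perm (mD ^ 2 * mT) * (eE)) ^ 5 ≠ 1 :=
  ne_one_of_rep8 (rep8_pow5 (rep8_mul rep_Ma2t rep_e F5a F5a_mul) F5a_mul2 F5a_mul4 F5a_mul5) F5a_5_ne

end Cfsg.Agent.Lib.Helper93_McLData
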