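import Cfsg.Agent.Lib.Helper93_McLData0

/-!
Inequalities `(a^k t e^m)⁶ ≠ 1` for `(k, m) = (1, 3), (1, 4), (10, 1), (10, 3), (10, 4)`.
(Generated data: integer matrices of `8 g` for automorphisms `g` of the rank-24 lattice, and the
products relating them.)
-/

set_option autoImplicit false
set_option linter.constructorNameAsVariable false
open Cfsg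
open scoped Pointwise

namespace Cfsg.Agent.Lib.Helper93_McLData

open Cfsg.Agent.Lib.Helper7_M24 Cfsg.Agent.Lib.Helper7_Leech Cfsg.Agent.Lib.Helper92_Monomial
  Cfsg.Agent.Lib.Helper7_Mono Cfsg.Agent.Lib.Helper92_QuadAut Cfsg.Agent.Lib.Helper93_McLElt
  Cfsg.Agent.Lib.Helper92_ZElt Cfsg.Agent.Lib.Helper7_Bits Cfsg.Agent.Lib.Helper93_McLRep
  Cfsg.Agent.Lib.Helper93_McLPerm Cfsg.Agent.Lib.Helper92_Co3Cent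
  Cfsg.Agent.Lib.Helper93_OutM24 Cfsg.Agent.Lib.Helper93_M24Obj
open Cfsg.Agent.S5546 (Lam vec8 e8)



/-- The matrix `N13`. -/
def N13 : Matrix GolayPt GolayPt ℤ := ofL
  [[5, -1, -1, -3, -1, -1, -1, -1, -1, -1, -1, 1, -1, -1, 1, 1, -1, 1, -1, 1, -1, -1, 1, 3],
   [-1, -3, -3, -1, 1, -3, 1, 1, 1, 1, 1, -1, 1, 1, 3, -1, 1, 3, 1, -1, 1, 1, -1, 1],
   [-1, 1, 1, -1, 1, -3, 1, 1, -3, 1, 1, 3, 1, 1, -1, -1, -3, -1, 1, -1, 1, 1, 3, 1],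
   [-1, 1, 1, -1, -3, 1, -3, -3, 1, 1, 1, -1, 1, 1, 3, -1, 1, -1, 1, -1, 1, 1, 3, 1],
   [-1, 1, 1, -1, 1, 1, 1, -3, -3, 1, 1, -1, -3, 1, -1, -1, 1, 3, 1, 3, 1, 1, -1, 1],
   [1, 3, -1, 1, -1, -1, 3, -1, 3, -1, 3, 1, -1, 3, 1, 1, -1, 1, -1, 1, -1, -1, 1, -1],
   [-3, -1, -1, 5, -1, -1, -1, -1, -1, -1, -1, 1, -1, -1, 1, 1, -1, 1, -1, 1, -1, -1, 1, 3],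
   [1, -1, -1, 1, -1, 3, -1, 3, -1, -1, 3, 1, -1, -1, 1, 1, -1, 1, -1, 1, 3, 3, 1, -1],
   [-1, 1, 1, -1, 1, 1, 1, 1, 1, 1, 1, -1, 1, -3, 3, -1, -3, -1, 1, 3, 1, -3, -1, 1],
   [-1, 1, 1, -1, 1, 1, -3, 1, 1, 1, 1, 3, 1, 1, -1, -1, 1, 3, -3, -1, 1, -3, -1, 1],
   [-1, 1, 1, -1, 1, 1, 1, 1, -3, 1, 1, -1, 1, 1, 3, 3, 1, -1, -3, -1, -3, 1, -1, 1],
   [1, -1, 3, 1, 3, -1, -1, -1, 3, 3, -1, 1, -1, -1, 1, 1, -1, 1, -1, 1, -1, 3, 1, -1],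
   [-1, 1, 1, -1, 1, 1, 1, 1, 1, -3, 1, -1, 1, -3, -1, -1, 1, 3, 1, -1, -3, 1, 3, 1],
   [-1, 1, 1, -1, 1, 1, 1, 1, 1, -3, -3, 3, -3, 1, 3, -1, 1, -1, 1, -1, 1, 1, -1, 1],
   [-1, 1, -3, -1, 1, 1, 1, -3, 1, 1, 1, 3, 1, -3, -1, 3, 1, -1, 1, -1, 1, 1, -1, 1],
   [1, -1, 3, 1, -1, -1, 3, -1, -1, -1, -1, 1, 3, -1, 1, 1, 3, 1, -1, 1, 3, -1, 1, -1],
   [-1, 1, -3, -1, 1, 1, 1, 1, 1, 1, -3, -1, 1, 1, -1, -1, 1, -1, -3, 3, 1, 1, 3, 1],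
   [-1, 1, 1, -1, -3, 1, 1, 1, 1, 1, -3, -1, 1, 1, -1, 3, -3, 3, 1, -1, 1, 1, -1, 1],
   [-1, -3, 1, -1, -3, 1, 1, 1, 1, 1, 1, 3, 1, 1, -1, -1, 1, -1, 1, 3, -3, 1, -1, 1],
   [-1, 1, 1, -1, 1, -3, -3, 1, 1, -3, 1, -1, 1, 1, -1, 3, 1, -1, 1, 3, 1, 1, -1, 1],
   [-1, -3, 1, -1, 1, 1, 1, 1, 1, 1, 1, -1, -3, 1, -1, 3, 1, -1, 1, -1, 1, -3, 3, 1],
   [1, -1, -1, 1, 3, 3, -1, -1, -1, -1, -1, 1, 3, 3, 1, 1, -1, 1, 3, 1, -1, -1, 1, -1],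
   [1, 3, -1, 1, -1, -1, -1, 3, -1, 3, -1, 1, -1, -1, 1, 1, 3, 1, 3, 1, -1, -1, 1, -1],
   [3, 1, 1, 3, 1, 1, 1, 1, 1, 1, 1, -1, 1, 1, -1, -1, 1, -1, 1, -1, 1, 1, -1, 5]]

/-- The matrix `N13_2`. -/
def N13_2 : Matrix GolayPt GolayPt ℤ := ofL
  [[6, 0, 0, 0, 0, -2, 0, 0, 0, 0, -2, 0, 0, -2, -2, 2, 0, 0, 0, 0, 0, 0, -2, 2],
   [-2, 0, 0, 0, 0, 6, 0, 0, 0, 0, -2, 0, 0, -2, -2, 2, 0, 0, 0, 0, 0, 0, -2, 2],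
   [0, -2, 2, 2, 2, 0, -2, 2, -2, 2, 0, 2, -2, 0, 0, 0, 2, 2, 2, -2, -2, 2, 0, 0],
   [0, 2, -2, -2, 2, 0, 2, 2, 2, 2, 0, 2, 2, 0, 0, 0, 2, -2, 2, -2, -2, -2, 0, 0],
   [-2, 0, 0, 0, 0, -2, 0, 0, 0, 0, -2, 0, 0, 6, -2, 2, 0, 0, 0, 0, 0, 0, -2, 2],
   [-2, 0, 0, 0, 0, -2, 0, 0, 0, 0, -2, 0, 0, -2, 6, 2, 0, 0, 0, 0, 0, 0, -2, 2],
   [0, 2, 2, 2, -2, 0, -2, -2, 2, 2, 0, -2, 2, 0, 0, 0, 2, -2, 2, -2, 2, 2, 0, 0],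
   [2, 0, 0, 0, 0, 2, 0, 0, 0, 0, 2, 0, 0, 2, 2, 6, 0, 0, 0, 0, 0, 0, 2, -2],
   [-2, 0, 0, 0, 0, -2, 0, 0, 0, 0, 6, 0, 0, -2, -2, 2, 0, 0, 0, 0, 0, 0, -2, 2],
   [0, 2, 2, -2, 2, 0, 2, 2, 2, 2, 0, -2, -2, 0, 0, 0, -2, 2, -2, -2, 2, 2, 0, 0],
   [0, 2, -2, 2, 2, 0, 2, -2, -2, -2, 0, 2, 2, 0, 0, 0, 2, 2, -2, -2, 2, 2, 0, 0],
   [0, 2, 2, -2, 2, 0, -2, -2, -2, 2, 0, 2, 2, 0, 0, 0, -2, 2, 2, 2, 2, -2, 0, 0],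
   [0, 2, -2, 2, -2, 0, 2, 2, -2, 2, 0, -2, 2, 0, 0, 0, -2, 2, 2, 2, -2, 2, 0, 0],
   [0, -2, -2, 2, 2, 0, 2, -2, 2, 2, 0, 2, -2, 0, 0, 0, -2, -2, 2, 2, 2, 2, 0, 0],
   [0, -2, 2, 2, 2, 0, 2, -2, 2, 2, 0, -2, 2, 0, 0, 0, 2, 2, -2, 2, -2, -2, 0, 0],
   [-2, 0, 0, 0, 0, -2, 0, 0, 0, 0, -2, 0, 0, -2, -2, 2, 0, 0, 0, 0, 0, 0, 6, 2],
   [0, 2, -2, 2, 2, 0, -2, 2, 2, -2, 0, -2, -2, 0, 0, 0, 2, 2, 2, 2, 2, -2, 0, 0],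
   [0, -2, 2, 2, -2, 0, 2, 2, 2, -2, 0, 2, 2, 0, 0, 0, -2, 2, 2, -2, 2, -2, 0, 0],
   [0, 2, 2, 2, 2, 0, -2, 2, 2, -2, 0, 2, 2, 0, 0, 0, -2, -2, -2, 2, -2, 2, 0, 0],
   [0, -2, 2, -2, 2, 0, 2, 2, -2, -2, 0, -2, 2, 0, 0, 0, 2, -2, 2, 2, 2, 2, 0, 0],
   [0, 2, 2, 2, -2, 0, 2, 2, -2, 2, 0, 2, -2, 0, 0, 0, 2, -2, -2, 2, 2, -2, 0, 0],
   [0, 2, 2, -2, -2, 0, 2, -2, 2, -2, 0, 2, -2, 0, 0, 0, 2, 2, 2, 2, -2, 2, 0, 0],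
   [0, -2, -2, -2, -2, 0, -2, 2, 2, 2, 0, 2, 2, 0, 0, 0, 2, 2, -2, 2, 2, 2, 0, 0],
   [2, 0, 0, 0, 0, 2, 0, 0, 0, 0, 2, 0, 0, 2, 2, -2, 0, 0, 0, 0, 0, 0, 2, 6]]

/-- The matrix `N13_4`. -/
def N13_4 : Matrix GolayPt GolayPt ℤ := ofL
  [[5, 1, 1, -1, -1, -1, -1, 1, -1, -1, -1, -1, -1, -1, -3, 1, -1, -1, 1, -1, -1, -1, 1, 3],
   [-3, 1, 1, -1, -1, -1, -1, 1, -1, -1, -1, -1, -1, -1, 5, 1, -1, -1, 1, -1, -1, -1, 1, 3],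
   [1, 1, 1, -1, 3, -1, -1, 1, 3, -1, -1, 3, -1, 3, 1, 1, -1, 3, 1, -1, -1, -1, 1, -1],
   [-1, 3, -1, 1, 1, 1, -3, -1, 1, 1, 1, -3, 1, 1, -1, 3, -3, 1, -1, 1, 1, 1, -1, 1],
   [-1, -1, -1, 1, 1, 1, 1, -1, 1, 1, 1, 1, -3, 1, -1, -1, -3, -3, 3, 1, 1, 1, 3, 1],
   [-1, -1, 3, 1, 1, 1, 1, -1, 1, 1, 1, -3, 1, 1, -1, -1, 1, 1, -1, 1, -3, -3, 3, 1],
   [-1, 3, -1, 1, 1, 1, 1, 3, 1, 1, 1, 1, -3, -3, -1, -1, 1, 1, -1, 1, -3, 1, -1, 1],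
   [-1, -1, -1, 1, 1, -3, 1, -1, 1, 1, -3, 1, 1, -3, -1, 3, 1, 1, -1, 1, 1, 1, 3, 1],
   [-1, 3, -1, 1, 1, 1, 1, -1, -3, -3, 1, 1, 1, 1, -1, -1, 1, 1, -1, -3, 1, 1, 3, 1],
   [-1, -1, 3, 1, -3, 1, 1, -1, 1, 1, 1, 1, -3, 1, -1, 3, 1, 1, -1, -3, 1, 1, -1, 1],
   [-1, 3, -1, 1, -3, 1, 1, -1, 1, 1, -3, 1, 1, 1, -1, -1, 1, 1, 3, 1, 1, -3, -1, 1],
   [-1, -1, 3, 1, 1, 1, 1, 3, -3, 1, -3, 1, 1, 1, -1, -1, -3, 1, -1, 1, 1, 1, -1, 1],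
   [1, 1, 1, -1, -1, 3, 3, 1, 3, -1, -1, -1, 3, -1, 1, 1, -1, -1, 1, -1, -1, 3, 1, -1],
   [-1, 3, 3, -3, 1, -3, 1, -1, 1, 1, 1, 1, 1, 1, -1, -1, 1, -3, -1, 1, 1, 1, -1, 1],
   [-1, -1, -1, 1, 1, -3, 1, 3, 1, 1, 1, -3, 1, 1, -1, -1, 1, 1, 3, -3, 1, 1, -1, 1],
   [-1, -1, -1, -3, -3, 1, -3, 3, 1, 1, 1, 1, 1, 1, -1, -1, 1, 1, -1, 1, 1, 1, 3, 1],
   [-1, -1, -1, 1, 1, 1, 1, 3, 1, -3, 1, 1, 1, 1, -1, 3, 1, -3, -1, 1, 1, -3, -1, 1],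
   [1, 1, 1, 3, -1, -1, -1, 1, -1, 3, 3, 3, 3, -1, 1, 1, -1, -1, 1, -1, -1, -1, 1, -1],
   [-1, -1, -1, -3, 1, 1, 1, -1, -3, 1, 1, 1, 1, 1, -1, 3, 1, 1, 3, 1, -3, 1, -1, 1],
   [1, 1, 1, 3, -1, -1, -1, 1, -1, -1, -1, -1, -1, 3, 1, 1, 3, -1, 1, 3, -1, 3, 1, -1],
   [1, 1, 1, -1, 3, 3, -1, 1, -1, 3, -1, -1, -1, -1, 1, 1, 3, -1, 1, -1, 3, -1, 1, -1],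
   [-1, -1, 3, 1, 1, 1, -3, -1, 1, -3, 1, 1, 1, -3, -1, -1, 1, 1, 3, 1, 1, 1, -1, 1],
   [1, 1, 1, -1, -1, -1, 3, 1, -1, -1, 3, -1, -1, -1, 1, 1, -1, 3, 1, 3, 3, -1, 1, -1],
   [3, -1, -1, 1, 1, 1, 1, -1, 1, 1, 1, 1, 1, 1, 3, -1, 1, 1, -1, 1, 1, 1, -1, 5]]

theorem N13_mul : Mat * E3 = (8 : ℤ) • N13 := by decide +kernel

theorem N13_mul2 : N13 * N13 = (8 : ℤ) • N13_2 := by decide +kernel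

theorem N13_mul4 : N13_2 * N13_2 = (8 : ℤ) • N13_4 := by decide +kernel

/-- The matrix `N13_6`. -/
def N13_6 : Matrix GolayPt GolayPt ℤ := ofL
  [[5, -1, -1, -1, -1, 1, -3, 1, -1, -1, -1, 1, -1, -1, -1, 1, -1, -1, -1, -1, -1, 1, 1, 3],
   [-1, -3, 1, 1, 1, 3, -1, -1, 1, 1, 1, -1, 1, 1, 1, -1, 1, 1, -3, 1, -3, -1, 3, 1],
   [-1, -3, 1, 1, 1, -1, -1, -1, 1, 1, 1, 3, 1, 1, -3, 3, -3, 1, 1, 1, 1, -1, -1, 1],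
   [-3, -1, -1, -1, -1, 1, 5, 1, -1, -1, -1, 1, -1, -1, -1, 1, -1, -1, -1, -1, -1, 1, 1, 3],
   [-1, 1, 1, -3, 1, -1, -1, -1, 1, 1, 1, 3, 1, 1, 1, -1, 1, -3, -3, 1, 1, 3, -1, 1],
   [-1, -3, -3, 1, 1, -1, -1, 3, 1, 1, 1, -1, 1, 1, 1, -1, 1, 1, 1, -3, 1, 3, -1, 1],
   [-1, 1, 1, -3, 1, 3, -1, -1, 1, -3, 1, -1, 1, 1, 1, 3, 1, 1, 1, -3, 1, -1, -1, 1],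
   [-1, 1, 1, -3, -3, -1, -1, 3, 1, 1, 1, -1, 1, 1, -3, -1, 1, 1, 1, 1, 1, -1, 3, 1],
   [-1, 1, -3, 1, -3, 3, -1, -1, 1, 1, -3, 3, 1, 1, 1, -1, 1, 1, 1, 1, 1, -1, -1, 1],
   [-1, 1, 1, 1, 1, -1, -1, -1, 1, 1, 1, 3, -3, -3, 1, -1, 1, 1, 1, -3, 1, -1, 3, 1],
   [-1, 1, 1, 1, 1, 3, -1, 3, 1, 1, 1, -1, 1, -3, 1, -1, -3, -3, 1, 1, 1, -1, -1, 1],
   [1, -1, 3, -1, -1, 1, 1, 1, -1, 3, -1, 1, -1, 3, 3, 1, -1, -1, 3, -1, -1, 1, 1, -1],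
   [-1, 1, 1, 1, -3, -1, -1, -1, 1, 1, 1, -1, 1, -3, 1, 3, 1, 1, 1, 1, -3, 3, -1, 1],
   [-1, 1, 1, 1, 1, 3, -1, -1, -3, 1, 1, -1, -3, 1, -3, -1, 1, 1, 1, 1, 1, 3, -1, 1],
   [1, 3, -1, 3, -1, 1, 1, 1, 3, -1, 3, 1, -1, 3, -1, 1, -1, -1, -1, -1, -1, 1, 1, -1],
   [1, -1, -1, -1, -1, 1, 1, 1, -1, -1, 3, 1, -1, -1, 3, 1, -1, 3, -1, 3, 3, 1, 1, -1],
   [-1, 1, -3, 1, 1, -1, -1, -1, -3, 1, 1, -1, 1, 1, 1, 3, 1, -3, 1, 1, 1, -1, 3, 1],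
   [1, 3, -1, -1, 3, 1, 1, 1, -1, 3, -1, 1, 3, -1, -1, 1, -1, 3, -1, -1, -1, 1, 1, -1],
   [-1, 1, 1, 1, 1, -1, -1, -1, 1, -3, -3, -1, 1, 1, 1, -1, -3, 1, 1, 1, 1, 3, 3, 1],
   [1, -1, -1, -1, 3, 1, 1, 1, 3, -1, -1, 1, -1, -1, -1, 1, 3, -1, 3, 3, -1, 1, 1, -1],
   [-1, 1, 1, 1, 1, -1, -1, 3, 1, 1, -3, -1, -3, 1, 1, 3, 1, 1, -3, 1, 1, -1, -1, 1],
   [-1, 1, 1, 1, 1, -1, -1, 3, -3, -3, 1, 3, 1, 1, 1, -1, 1, 1, 1, 1, -3, -1, -1, 1],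
   [1, -1, 3, 3, -1, 1, 1, 1, -1, -1, -1, 1, 3, -1, -1, 1, 3, -1, -1, -1, 3, 1, 1, -1],
   [3, 1, 1, 1, 1, -1, 3, -1, 1, 1, 1, -1, 1, 1, 1, -1, 1, 1, 1, 1, 1, -1, -1, 5]]

theorem N13_mul6 : N13_4 * N13_2 = (8 : ℤ) • N13_6 := by decide +kernel

theorem N13_6_ne : N13_6 ≠ I8 := by decide +kernel

theorem ne_N13 : (perm (mD * mT) * (eE' * eE')) ^ 6 ≠ 1 :=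
  ne_one_of_rep8 (rep8_pow6 (rep8_mul rep_Mat rep_e3 N13 N13_mul) N13_mul2 N13_mul4 N13_mul6) N13_6_ne

/-- The matrix `N14`. -/
def N14 : Matrix GolayPt GolayPt ℤ := ofL
  [[6, 0, 0, 0, 0, 0, 0, 0, -2, -2, 0, 0, -2, -2, 0, 2, -2, 0, 0, 0, 0, 0, 0, 2],
   [-2, 0, 0, 0, 0, 0, 0, 0, -2, 6, 0, 0, -2, -2, 0, 2, -2, 0, 0, 0, 0, 0, 0, 2],
   [0, 2, 2, -2, 2, 2, -2, 2, 0, 0, -2, -2, 0, 0, 2, 0, 0, 2, 2, 2, -2, 2, -2, 0],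
   [-2, 0, 0, 0, 0, 0, 0, 0, -2, -2, 0, 0, -2, 6, 0, 2, -2, 0, 0, 0, 0, 0, 0, 2],
   [0, 2, -2, -2, 2, 2, 2, 2, 0, 0, 2, 2, 0, 0, 2, 0, 0, -2, 2, -2, -2, -2, 2, 0],
   [0, -2, 2, 2, 2, -2, -2, 2, 0, 0, -2, 2, 0, 0, 2, 0, 0, -2, 2, 2, 2, -2, 2, 0],
   [0, -2, -2, -2, -2, 2, -2, 2, 0, 0, 2, 2, 0, 0, 2, 0, 0, 2, -2, 2, 2, 2, 2, 0],
   [2, 0, 0, 0, 0, 0, 0, 0, 2, 2, 0, 0, 2, 2, 0, 6, 2, 0, 0, 0, 0, 0, 0, -2],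
   [0, -2, 2, -2, 2, 2, 2, -2, 0, 0, -2, 2, 0, 0, -2, 0, 0, 2, 2, -2, 2, 2, 2, 0],
   [-2, 0, 0, 0, 0, 0, 0, 0, -2, -2, 0, 0, 6, -2, 0, 2, -2, 0, 0, 0, 0, 0, 0, 2],
   [0, -2, 2, 2, -2, 2, 2, 2, 0, 0, 2, 2, 0, 0, -2, 0, 0, -2, 2, 2, -2, 2, -2, 0],
   [0, 2, -2, 2, -2, 2, 2, -2, 0, 0, -2, 2, 0, 0, 2, 0, 0, 2, 2, 2, 2, -2, -2, 0],
   [0, 2, 2, -2, 2, -2, 2, -2, 0, 0, 2, 2, 0, 0, 2, 0, 0, -2, -2, 2, 2, 2, -2, 0],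
   [0, 2, 2, -2, -2, -2, 2, 2, 0, 0, 2, -2, 0, 0, -2, 0, 0, 2, 2, 2, 2, -2, 2, 0],
   [0, 2, 2, 2, -2, 2, -2, -2, 0, 0, 2, -2, 0, 0, 2, 0, 0, -2, 2, -2, 2, 2, 2, 0],
   [0, 2, -2, 2, 2, -2, -2, -2, 0, 0, 2, 2, 0, 0, -2, 0, 0, 2, 2, 2, -2, 2, 2, 0],
   [-2, 0, 0, 0, 0, 0, 0, 0, -2, -2, 0, 0, -2, -2, 0, 2, 6, 0, 0, 0, 0, 0, 0, 2],
   [0, 2, -2, 2, 2, 2, 2, 2, 0, 0, -2, -2, 0, 0, -2, 0, 0, -2, -2, 2, 2, 2, 2, 0],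
   [-2, 0, 0, 0, 0, 0, 0, 0, 6, -2, 0, 0, -2, -2, 0, 2, -2, 0, 0, 0, 0, 0, 0, 2],
   [0, -2, -2, 2, 2, -2, 2, 2, 0, 0, 2, -2, 0, 0, 2, 0, 0, 2, 2, -2, 2, 2, -2, 0],
   [0, 2, 2, 2, 2, 2, -2, 2, 0, 0, 2, 2, 0, 0, -2, 0, 0, 2, -2, -2, 2, -2, -2, 0],
   [0, 2, 2, 2, -2, -2, 2, 2, 0, 0, -2, 2, 0, 0, 2, 0, 0, 2, -2, -2, -2, 2, 2, 0],
   [0, -2, 2, 2, 2, 2, 2, -2, 0, 0, 2, -2, 0, 0, 2, 0, 0, 2, -2, 2, -2, -2, 2, 0],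
   [2, 0, 0, 0, 0, 0, 0, 0, 2, 2, 0, 0, 2, 2, 0, -2, 2, 0, 0, 0, 0, 0, 0, 6]]

/-- The matrix `N14_2`. -/
def N14_2 : Matrix GolayPt GolayPt ℤ := ofL
  [[6, 0, -2, 2, 0, 0, -2, 0, 0, 0, 0, 0, -2, 0, 0, 0, -2, 0, 0, 0, -2, 0, 0, 2],
   [-2, 0, -2, 2, 0, 0, -2, 0, 0, 0, 0, 0, 6, 0, 0, 0, -2, 0, 0, 0, -2, 0, 0, 2],
   [0, 2, 0, 0, 2, -2, 0, 2, 2, 2, -2, -2, 0, -2, 2, 2, 0, -2, 2, -2, 0, 2, 2, 0],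
   [0, 2, 0, 0, -2, -2, 0, 2, 2, 2, 2, -2, 0, 2, -2, -2, 0, 2, 2, 2, 0, -2, 2, 0],
   [0, -2, 0, 0, -2, 2, 0, -2, 2, 2, 2, 2, 0, -2, 2, 2, 0, -2, 2, 2, 0, -2, 2, 0],
   [0, 2, 0, 0, 2, 2, 0, -2, 2, -2, 2, -2, 0, 2, 2, 2, 0, 2, 2, -2, 0, -2, -2, 0],
   [2, 0, 2, 6, 0, 0, 2, 0, 0, 0, 0, 0, 2, 0, 0, 0, 2, 0, 0, 0, 2, 0, 0, -2],
   [0, 2, 0, 0, 2, -2, 0, -2, -2, -2, 2, 2, 0, -2, -2, 2, 0, 2, 2, 2, 0, 2, 2, 0],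
   [0, 2, 0, 0, 2, 2, 0, 2, 2, -2, -2, 2, 0, -2, 2, -2, 0, 2, -2, 2, 0, -2, 2, 0],
   [0, 2, 0, 0, 2, -2, 0, -2, 2, 2, 2, 2, 0, 2, 2, -2, 0, -2, -2, 2, 0, 2, -2, 0],
   [0, -2, 0, 0, -2, -2, 0, 2, 2, -2, -2, 2, 0, 2, 2, 2, 0, 2, 2, 2, 0, 2, -2, 0],
   [-2, 0, -2, 2, 0, 0, -2, 0, 0, 0, 0, 0, -2, 0, 0, 0, -2, 0, 0, 0, 6, 0, 0, 2],
   [0, 2, 0, 0, -2, 2, 0, 2, -2, 2, 2, 2, 0, -2, 2, -2, 0, 2, 2, -2, 0, 2, -2, 0],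
   [0, -2, 0, 0, 2, 2, 0, 2, 2, 2, 2, -2, 0, -2, -2, 2, 0, 2, -2, 2, 0, 2, -2, 0],
   [-2, 0, 6, 2, 0, 0, -2, 0, 0, 0, 0, 0, -2, 0, 0, 0, -2, 0, 0, 0, -2, 0, 0, 2],
   [-2, 0, -2, 2, 0, 0, 6, 0, 0, 0, 0, 0, -2, 0, 0, 0, -2, 0, 0, 0, -2, 0, 0, 2],
   [-2, 0, -2, 2, 0, 0, -2, 0, 0, 0, 0, 0, -2, 0, 0, 0, 6, 0, 0, 0, -2, 0, 0, 2],
   [0, -2, 0, 0, 2, -2, 0, 2, -2, 2, 2, 2, 0, 2, 2, 2, 0, 2, -2, -2, 0, -2, 2, 0],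
   [0, -2, 0, 0, 2, 2, 0, -2, 2, 2, -2, 2, 0, 2, -2, -2, 0, 2, 2, -2, 0, 2, 2, 0],
   [0, 2, 0, 0, -2, 2, 0, 2, 2, -2, 2, 2, 0, 2, -2, 2, 0, -2, -2, -2, 0, 2, 2, 0],
   [0, 2, 0, 0, 2, 2, 0, 2, -2, 2, -2, 2, 0, 2, -2, 2, 0, -2, 2, 2, 0, -2, -2, 0],
   [0, 2, 0, 0, -2, 2, 0, -2, -2, 2, -2, -2, 0, 2, 2, 2, 0, 2, -2, 2, 0, 2, 2, 0],
   [0, -2, 0, 0, 2, 2, 0, 2, -2, -2, 2, -2, 0, 2, 2, -2, 0, -2, 2, 2, 0, 2, 2, 0],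
   [2, 0, 2, -2, 0, 0, 2, 0, 0, 0, 0, 0, 2, 0, 0, 0, 2, 0, 0, 0, 2, 0, 0, 6]]

/-- The matrix `N14_4`. -/
def N14_4 : Matrix GolayPt GolayPt ℤ := ofL
  [[5, -1, -1, -1, -1, -1, -1, -1, 1, -1, 1, -1, -1, 1, -1, -1, -3, 1, -1, 1, -1, -1, 1, 3],
   [-1, 1, 1, -3, -3, 1, 1, 1, -1, 1, 3, 1, 1, -1, 1, -3, -1, 3, 1, -1, 1, 1, -1, 1],
   [-1, 1, 1, 1, 1, 1, 1, -3, -1, 1, -1, 1, 1, -1, 1, -3, -1, -1, 1, 3, -3, 1, 3, 1],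
   [1, -1, -1, -1, 3, -1, -1, 3, 1, -1, 1, 3, 3, 1, -1, -1, 1, 1, -1, 1, -1, 3, 1, -1],
   [-1, 1, 1, 1, 1, 1, 1, 1, 3, -3, -1, 1, -3, 3, 1, -3, -1, -1, 1, -1, 1, 1, -1, 1],
   [-1, -3, 1, 1, 1, 1, 1, 1, 3, 1, -1, 1, 1, -1, 1, 1, -1, 3, 1, -1, -3, -3, -1, 1],
   [1, 3, -1, 3, -1, -1, -1, 3, 1, 3, 1, -1, -1, 1, -1, -1, 1, 1, 3, 1, -1, -1, 1, -1],
   [-1, -3, -3, 1, -3, 1, 1, 1, -1, 1, -1, 1, 1, 3, 1, 1, -1, -1, 1, -1, 1, 1, 3, 1],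
   [-1, 1, 1, 1, 1, 1, -3, 1, -1, -3, 3, 1, 1, -1, 1, 1, -1, -1, 1, -1, 1, -3, 3, 1],
   [-1, 1, 1, 1, -3, 1, -3, 1, 3, 1, -1, 1, 1, -1, 1, 1, -1, -1, -3, 3, 1, 1, -1, 1],
   [-1, 1, 1, 1, 1, 1, 1, 1, -1, 1, -1, 1, -3, -1, -3, 1, -1, 3, -3, -1, 1, 1, 3, 1],
   [-1, 1, 1, -3, 1, 1, 1, 1, -1, 1, -1, 1, 1, 3, -3, 1, -1, -1, 1, 3, 1, -3, -1, 1],
   [-1, 1, 1, 1, 1, -3, -3, -3, -1, 1, -1, 1, 1, 3, 1, 1, -1, 3, 1, -1, 1, 1, -1, 1],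
   [1, 3, -1, -1, -1, -1, 3, -1, 1, -1, 1, 3, -1, 1, 3, 3, 1, 1, -1, 1, -1, -1, 1, -1],
   [-1, 1, 1, -3, 1, -3, 1, 1, 3, 1, -1, -3, 1, -1, 1, 1, -1, -1, 1, -1, 1, 1, 3, 1],
   [1, -1, 3, 3, -1, -1, 3, -1, 1, -1, 1, -1, 3, 1, -1, -1, 1, 1, -1, 1, 3, -1, 1, -1],
   [-3, -1, -1, -1, -1, -1, -1, -1, 1, -1, 1, -1, -1, 1, -1, -1, 5, 1, -1, 1, -1, -1, 1, 3],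
   [-1, -3, 1, 1, 1, -3, 1, 1, -1, 1, 3, 1, -3, -1, 1, 1, -1, -1, 1, 3, 1, 1, -1, 1],
   [1, -1, -1, -1, 3, 3, -1, -1, 1, 3, 1, -1, -1, 1, 3, -1, 1, 1, -1, 1, 3, -1, 1, -1],
   [-1, 1, -3, 1, 1, 1, 1, 1, -1, -3, -1, -3, 1, -1, 1, 1, -1, 3, 1, 3, 1, 1, -1, 1],
   [-1, 1, -3, 1, 1, 1, 1, -3, 3, 1, 3, 1, 1, -1, -3, 1, -1, -1, 1, -1, 1, 1, -1, 1],
   [-1, 1, 1, 1, 1, 1, 1, 1, -1, 1, 3, -3, 1, 3, 1, 1, -1, -1, -3, -1, -3, 1, -1, 1],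
   [1, -1, 3, -1, -1, 3, -1, -1, 1, -1, 1, -1, -1, 1, -1, 3, 1, 1, 3, 1, -1, 3, 1, -1],
   [3, 1, 1, 1, 1, 1, 1, 1, -1, 1, -1, 1, 1, -1, 1, 1, 3, -1, 1, -1, 1, 1, -1, 5]]

theorem N14_mul : Mat * E8' = (8 : ℤ) • N14 := by decide +kernel

theorem N14_mul2 : N14 * N14 = (8 : ℤ) • N14_2 := by decide +kernel

theorem N14_mul4 : N14_2 * N14_2 = (8 : ℤ) • N14_4 := by decide +kernel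

/-- The matrix `N14_6`. -/
def N14_6 : Matrix GolayPt GolayPt ℤ := ofL
  [[6, -2, 0, -2, 0, 0, 0, 2, 0, -2, 0, 0, 0, 0, 0, 0, -2, 0, -2, 0, 0, 0, 0, 2],
   [0, 0, 2, 0, 2, -2, -2, 0, -2, 0, -2, 2, 2, 2, 2, 2, 0, 2, 0, -2, 2, 2, -2, 0],
   [0, 0, 2, 0, -2, 2, -2, 0, 2, 0, 2, -2, 2, 2, 2, -2, 0, -2, 0, -2, 2, 2, 2, 0],
   [0, 0, -2, 0, -2, 2, -2, 0, -2, 0, 2, 2, -2, -2, 2, 2, 0, 2, 0, 2, 2, 2, 2, 0],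
   [0, 0, 2, 0, 2, 2, -2, 0, 2, 0, -2, -2, 2, -2, -2, 2, 0, 2, 0, 2, 2, -2, 2, 0],
   [0, 0, 2, 0, 2, -2, 2, 0, 2, 0, 2, 2, -2, -2, 2, -2, 0, 2, 0, -2, 2, -2, 2, 0],
   [0, 0, -2, 0, 2, -2, -2, 0, 2, 0, 2, 2, 2, 2, -2, -2, 0, 2, 0, 2, -2, 2, 2, 0],
   [0, 0, 2, 0, 2, 2, 2, 0, -2, 0, 2, -2, -2, 2, -2, -2, 0, 2, 0, 2, 2, 2, -2, 0],
   [-2, -2, 0, -2, 0, 0, 0, 2, 0, -2, 0, 0, 0, 0, 0, 0, -2, 0, 6, 0, 0, 0, 0, 2],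
   [-2, 6, 0, -2, 0, 0, 0, 2, 0, -2, 0, 0, 0, 0, 0, 0, -2, 0, -2, 0, 0, 0, 0, 2],
   [0, 0, -2, 0, 2, -2, 2, 0, -2, 0, 2, -2, 2, 2, 2, 2, 0, -2, 0, 2, 2, -2, 2, 0],
   [0, 0, -2, 0, 2, 2, 2, 0, 2, 0, 2, 2, 2, -2, -2, 2, 0, -2, 0, -2, 2, 2, -2, 0],
   [-2, -2, 0, -2, 0, 0, 0, 2, 0, 6, 0, 0, 0, 0, 0, 0, -2, 0, -2, 0, 0, 0, 0, 2],
   [-2, -2, 0, 6, 0, 0, 0, 2, 0, -2, 0, 0, 0, 0, 0, 0, -2, 0, -2, 0, 0, 0, 0, 2],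
   [0, 0, 2, 0, 2, 2, 2, 0, -2, 0, -2, 2, 2, -2, 2, -2, 0, -2, 0, 2, -2, 2, 2, 0],
   [2, 2, 0, 2, 0, 0, 0, 6, 0, 2, 0, 0, 0, 0, 0, 0, 2, 0, 2, 0, 0, 0, 0, -2],
   [-2, -2, 0, -2, 0, 0, 0, 2, 0, -2, 0, 0, 0, 0, 0, 0, 6, 0, -2, 0, 0, 0, 0, 2],
   [0, 0, 2, 0, -2, -2, 2, 0, 2, 0, -2, 2, -2, 2, -2, 2, 0, -2, 0, 2, 2, 2, 2, 0],
   [0, 0, 2, 0, 2, 2, -2, 0, 2, 0, 2, 2, -2, 2, 2, 2, 0, -2, 0, 2, -2, -2, -2, 0],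
   [0, 0, 2, 0, -2, 2, 2, 0, -2, 0, 2, 2, 2, 2, -2, 2, 0, 2, 0, -2, -2, -2, 2, 0],
   [0, 0, -2, 0, -2, 2, 2, 0, 2, 0, -2, 2, 2, 2, 2, -2, 0, 2, 0, 2, 2, -2, -2, 0],
   [0, 0, 2, 0, -2, -2, 2, 0, 2, 0, 2, -2, 2, -2, 2, 2, 0, 2, 0, 2, -2, 2, -2, 0],
   [0, 0, -2, 0, 2, 2, 2, 0, 2, 0, -2, -2, -2, 2, 2, 2, 0, 2, 0, -2, -2, 2, 2, 0],
   [2, 2, 0, 2, 0, 0, 0, -2, 0, 2, 0, 0, 0, 0, 0, 0, 2, 0, 2, 0, 0, 0, 0, 6]]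

theorem N14_mul6 : N14_4 * N14_2 = (8 : ℤ) • N14_6 := by decide +kernel

theorem N14_6_ne : N14_6 ≠ I8 := by decide +kernel

theorem ne_N14 : (perm (mD * mT) * (eE')) ^ 6 ≠ 1 :=
  ne_one_of_rep8 (rep8_pow6 (rep8_mul rep_Mat rep_e' N14 N14_mul) N14_mul2 N14_mul4 N14_mul6) N14_6_ne

/-- The matrix `N101`. -/
def N101 : Matrix GolayPt GolayPt ℤ := ofL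
  [[6, 0, 0, 2, 0, -2, 0, -2, 0, 0, -2, 0, 0, 0, 0, 0, 0, 0, 0, 0, -2, -2, 0, 2],
   [0, 2, -2, 0, 2, 0, 2, 0, 2, -2, 0, 2, 2, 2, -2, -2, -2, 2, 2, 2, 0, 0, -2, 0],
   [0, -2, 2, 0, 2, 0, 2, 0, -2, -2, 0, -2, 2, 2, 2, -2, 2, -2, 2, 2, 0, 0, 2, 0],
   [0, 2, 2, 0, 2, 0, 2, 0, 2, 2, 0, -2, -2, 2, 2, -2, -2, 2, -2, -2, 0, 0, 2, 0],
   [0, -2, 2, 0, 2, 0, -2, 0, 2, 2, 0, 2, 2, 2, 2, 2, -2, -2, 2, -2, 0, 0, -2, 0],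
   [-2, 0, 0, 2, 0, -2, 0, -2, 0, 0, -2, 0, 0, 0, 0, 0, 0, 0, 0, 0, -2, 6, 0, 2],
   [0, 2, 2, 0, -2, 0, 2, 0, 2, -2, 0, 2, 2, 2, -2, 2, 2, -2, -2, -2, 0, 0, 2, 0],
   [0, 2, -2, 0, 2, 0, 2, 0, -2, 2, 0, 2, 2, -2, 2, 2, -2, -2, -2, 2, 0, 0, 2, 0],
   [0, 2, -2, 0, -2, 0, 2, 0, 2, 2, 0, -2, -2, 2, 2, 2, 2, -2, 2, 2, 0, 0, -2, 0],
   [0, 2, 2, 0, -2, 0, 2, 0, -2, 2, 0, 2, 2, -2, 2, -2, 2, 2, 2, -2, 0, 0, -2, 0],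
   [-2, 0, 0, 2, 0, -2, 0, -2, 0, 0, 6, 0, 0, 0, 0, 0, 0, 0, 0, 0, -2, -2, 0, 2],
   [0, -2, -2, 0, 2, 0, 2, 0, 2, -2, 0, 2, -2, -2, 2, 2, 2, 2, 2, -2, 0, 0, 2, 0],
   [0, 2, 2, 0, 2, 0, -2, 0, 2, 2, 0, 2, -2, -2, -2, -2, 2, -2, 2, 2, 0, 0, 2, 0],
   [2, 0, 0, 6, 0, 2, 0, 2, 0, 0, 2, 0, 0, 0, 0, 0, 0, 0, 0, 0, 2, 2, 0, -2],
   [-2, 0, 0, 2, 0, -2, 0, -2, 0, 0, -2, 0, 0, 0, 0, 0, 0, 0, 0, 0, 6, -2, 0, 2],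
   [-2, 0, 0, 2, 0, -2, 0, 6, 0, 0, -2, 0, 0, 0, 0, 0, 0, 0, 0, 0, -2, -2, 0, 2],
   [0, 2, -2, 0, 2, 0, -2, 0, -2, 2, 0, -2, 2, 2, -2, 2, 2, 2, 2, -2, 0, 0, 2, 0],
   [0, 2, 2, 0, -2, 0, -2, 0, 2, -2, 0, -2, 2, -2, 2, 2, -2, 2, 2, 2, 0, 0, 2, 0],
   [0, -2, 2, 0, 2, 0, 2, 0, 2, 2, 0, -2, 2, -2, -2, 2, 2, 2, -2, 2, 0, 0, -2, 0],
   [0, -2, -2, 0, -2, 0, -2, 0, 2, 2, 0, 2, 2, 2, 2, -2, 2, 2, -2, 2, 0, 0, 2, 0],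
   [0, 2, 2, 0, 2, 0, -2, 0, -2, -2, 0, 2, -2, 2, 2, 2, 2, 2, -2, 2, 0, 0, -2, 0],
   [0, -2, 2, 0, -2, 0, 2, 0, -2, 2, 0, 2, -2, 2, -2, 2, -2, 2, 2, 2, 0, 0, 2, 0],
   [-2, 0, 0, 2, 0, 6, 0, -2, 0, 0, -2, 0, 0, 0, 0, 0, 0, 0, 0, 0, -2, -2, 0, 2],
   [2, 0, 0, -2, 0, 2, 0, 2, 0, 0, 2, 0, 0, 0, 0, 0, 0, 0, 0, 0, 2, 2, 0, 6]]

/-- The matrix `N101_2`. -/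
def N101_2 : Matrix GolayPt GolayPt ℤ := ofL
  [[6, 0, 0, 0, 0, 0, 0, 0, 2, 0, -2, -2, 0, 0, 0, -2, 0, 0, 0, -2, 0, -2, 0, 2],
   [2, 0, 0, 0, 0, 0, 0, 0, 6, 0, 2, 2, 0, 0, 0, 2, 0, 0, 0, 2, 0, 2, 0, -2],
   [0, -2, 2, 2, 2, 2, -2, -2, 0, 2, 0, 0, 2, 2, -2, 0, 2, -2, -2, 0, 2, 0, 2, 0],
   [0, 2, 2, 2, -2, 2, 2, -2, 0, -2, 0, 0, 2, 2, 2, 0, -2, -2, 2, 0, 2, 0, -2, 0],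
   [0, -2, 2, 2, 2, -2, 2, 2, 0, 2, 0, 0, -2, -2, 2, 0, 2, -2, 2, 0, 2, 0, -2, 0],
   [0, -2, 2, -2, -2, 2, 2, 2, 0, 2, 0, 0, -2, 2, -2, 0, -2, 2, 2, 0, 2, 0, 2, 0],
   [0, 2, -2, 2, 2, 2, 2, 2, 0, -2, 0, 0, -2, 2, -2, 0, 2, -2, 2, 0, -2, 0, 2, 0],
   [-2, 0, 0, 0, 0, 0, 0, 0, 2, 0, -2, 6, 0, 0, 0, -2, 0, 0, 0, -2, 0, -2, 0, 2],
   [0, 2, -2, 2, -2, -2, 2, 2, 0, 2, 0, 0, 2, 2, -2, 0, 2, 2, -2, 0, 2, 0, -2, 0],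
   [0, 2, 2, -2, 2, -2, 2, -2, 0, -2, 0, 0, 2, -2, -2, 0, 2, 2, 2, 0, 2, 0, 2, 0],
   [-2, 0, 0, 0, 0, 0, 0, 0, 2, 0, 6, -2, 0, 0, 0, -2, 0, 0, 0, -2, 0, -2, 0, 2],
   [-2, 0, 0, 0, 0, 0, 0, 0, 2, 0, -2, -2, 0, 0, 0, 6, 0, 0, 0, -2, 0, -2, 0, 2],
   [0, -2, -2, -2, 2, 2, 2, -2, 0, 2, 0, 0, 2, 2, 2, 0, 2, 2, 2, 0, -2, 0, -2, 0],
   [0, 2, 2, 2, 2, -2, 2, -2, 0, 2, 0, 0, -2, 2, 2, 0, -2, 2, -2, 0, -2, 0, 2, 0],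
   [0, 2, 2, -2, 2, 2, -2, 2, 0, -2, 0, 0, -2, 2, 2, 0, 2, 2, -2, 0, 2, 0, -2, 0],
   [0, 2, -2, -2, 2, 2, 2, 2, 0, 2, 0, 0, 2, -2, 2, 0, -2, -2, -2, 0, 2, 0, 2, 0],
   [0, 2, 2, 2, 2, 2, -2, 2, 0, 2, 0, 0, 2, -2, -2, 0, -2, 2, 2, 0, -2, 0, -2, 0],
   [-2, 0, 0, 0, 0, 0, 0, 0, 2, 0, -2, -2, 0, 0, 0, -2, 0, 0, 0, 6, 0, -2, 0, 2],
   [0, 2, 2, -2, -2, -2, -2, 2, 0, 2, 0, 0, 2, 2, 2, 0, 2, -2, 2, 0, -2, 0, 2, 0],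
   [0, 2, -2, 2, -2, 2, -2, -2, 0, 2, 0, 0, -2, -2, 2, 0, 2, 2, 2, 0, 2, 0, 2, 0],
   [0, -2, -2, 2, 2, -2, -2, 2, 0, -2, 0, 0, 2, 2, 2, 0, -2, 2, 2, 0, 2, 0, 2, 0],
   [0, -2, 2, 2, -2, 2, 2, 2, 0, -2, 0, 0, 2, -2, 2, 0, 2, 2, -2, 0, -2, 0, 2, 0],
   [-2, 0, 0, 0, 0, 0, 0, 0, 2, 0, -2, -2, 0, 0, 0, -2, 0, 0, 0, -2, 0, 6, 0, 2],
   [2, 0, 0, 0, 0, 0, 0, 0, -2, 0, 2, 2, 0, 0, 0, 2, 0, 0, 0, 2, 0, 2, 0, 6]]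

/-- The matrix `N101_4`. -/
def N101_4 : Matrix GolayPt GolayPt ℤ := ofL
  [[6, 0, 0, 0, 0, -2, 0, 0, 0, 0, -2, 0, 0, 2, -2, -2, 0, 0, 0, 0, 0, 0, -2, 2],
   [0, 2, -2, 2, -2, 0, 2, 2, 2, 2, 0, -2, 2, 0, 0, 0, 2, 2, -2, -2, 2, -2, 0, 0],
   [0, -2, 2, 2, 2, 0, 2, -2, -2, 2, 0, -2, 2, 0, 0, 0, -2, 2, 2, -2, 2, 2, 0, 0],
   [2, 0, 0, 0, 0, 2, 0, 0, 0, 0, 2, 0, 0, 6, 2, 2, 0, 0, 0, 0, 0, 0, 2, -2],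
   [0, 2, 2, 2, 2, 0, -2, 2, -2, -2, 0, 2, 2, 0, 0, 0, 2, -2, 2, -2, 2, -2, 0, 0],
   [-2, 0, 0, 0, 0, -2, 0, 0, 0, 0, -2, 0, 0, 2, -2, -2, 0, 0, 0, 0, 0, 0, 6, 2],
   [0, 2, 2, 2, -2, 0, 2, 2, 2, 2, 0, 2, -2, 0, 0, 0, -2, -2, 2, -2, -2, 2, 0, 0],
   [-2, 0, 0, 0, 0, -2, 0, 0, 0, 0, -2, 0, 0, 2, -2, 6, 0, 0, 0, 0, 0, 0, -2, 2],
   [0, 2, -2, 2, 2, 0, 2, -2, 2, -2, 0, 2, 2, 0, 0, 0, -2, 2, 2, 2, -2, -2, 0, 0],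
   [0, -2, -2, 2, 2, 0, -2, 2, 2, 2, 0, -2, 2, 0, 0, 0, 2, -2, 2, 2, -2, 2, 0, 0],
   [-2, 0, 0, 0, 0, -2, 0, 0, 0, 0, 6, 0, 0, 2, -2, -2, 0, 0, 0, 0, 0, 0, -2, 2],
   [0, 2, -2, -2, 2, 0, 2, 2, -2, 2, 0, 2, 2, 0, 0, 0, -2, -2, -2, 2, 2, 2, 0, 0],
   [0, 2, 2, -2, 2, 0, 2, 2, -2, 2, 0, -2, -2, 0, 0, 0, 2, 2, 2, 2, -2, -2, 0, 0],
   [0, 2, 2, 2, 2, 0, 2, -2, 2, -2, 0, -2, -2, 0, 0, 0, 2, -2, -2, 2, 2, 2, 0, 0],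
   [0, -2, 2, 2, 2, 0, -2, 2, 2, 2, 0, 2, -2, 0, 0, 0, -2, 2, -2, 2, 2, -2, 0, 0],
   [0, -2, -2, -2, 2, 0, 2, 2, 2, -2, 0, 2, -2, 0, 0, 0, 2, 2, 2, -2, 2, 2, 0, 0],
   [0, -2, 2, -2, -2, 0, 2, -2, 2, 2, 0, 2, 2, 0, 0, 0, 2, -2, 2, 2, 2, -2, 0, 0],
   [0, 2, -2, 2, -2, 0, -2, -2, -2, 2, 0, 2, -2, 0, 0, 0, 2, 2, 2, 2, 2, 2, 0, 0],
   [0, 2, 2, -2, 2, 0, -2, -2, 2, 2, 0, 2, 2, 0, 0, 0, 2, 2, -2, -2, -2, 2, 0, 0],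
   [0, 2, 2, -2, -2, 0, -2, 2, 2, -2, 0, -2, 2, 0, 0, 0, -2, 2, 2, 2, 2, 2, 0, 0],
   [-2, 0, 0, 0, 0, -2, 0, 0, 0, 0, -2, 0, 0, 2, 6, -2, 0, 0, 0, 0, 0, 0, -2, 2],
   [-2, 0, 0, 0, 0, 6, 0, 0, 0, 0, -2, 0, 0, 2, -2, -2, 0, 0, 0, 0, 0, 0, -2, 2],
   [0, -2, 2, 2, -2, 0, 2, 2, -2, -2, 0, 2, 2, 0, 0, 0, 2, 2, -2, 2, -2, 2, 0, 0],
   [2, 0, 0, 0, 0, 2, 0, 0, 0, 0, 2, 0, 0, -2, 2, 2, 0, 0, 0, 0, 0, 0, 2, 6]]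

theorem N101_mul : Ma10t * E8 = (8 : ℤ) • N101 := by decide +kernel

theorem N101_mul2 : N101 * N101 = (8 : ℤ) • N101_2 := by decide +kernel

theorem N101_mul4 : N101_2 * N101_2 = (8 : ℤ) • N101_4 := by decide +kernel

/-- The matrix `N101_6`. -/
def N101_6 : Matrix GolayPt GolayPt ℤ := ofL
  [[6, 0, 0, 2, 0, -2, 0, -2, 0, 0, -2, 0, 0, 0, 0, 0, 0, 0, 0, 0, -2, -2, 0, 2],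
   [0, 2, -2, 0, 2, 0, 2, 0, 2, -2, 0, 2, 2, 2, -2, -2, -2, 2, 2, 2, 0, 0, -2, 0],
   [0, -2, 2, 0, 2, 0, 2, 0, -2, -2, 0, -2, 2, 2, 2, -2, 2, -2, 2, 2, 0, 0, 2, 0],
   [0, 2, 2, 0, 2, 0, 2, 0, 2, 2, 0, -2, -2, 2, 2, -2, -2, 2, -2, -2, 0, 0, 2, 0],
   [0, -2, 2, 0, 2, 0, -2, 0, 2, 2, 0, 2, 2, 2, 2, 2, -2, -2, 2, -2, 0, 0, -2, 0],
   [-2, 0, 0, 2, 0, -2, 0, -2, 0, 0, -2, 0, 0, 0, 0, 0, 0, 0, 0, 0, -2, 6, 0, 2],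
   [0, 2, 2, 0, -2, 0, 2, 0, 2, -2, 0, 2, 2, 2, -2, 2, 2, -2, -2, -2, 0, 0, 2, 0],
   [0, 2, -2, 0, 2, 0, 2, 0, -2, 2, 0, 2, 2, -2, 2, 2, -2, -2, -2, 2, 0, 0, 2, 0],
   [0, 2, -2, 0, -2, 0, 2, 0, 2, 2, 0, -2, -2, 2, 2, 2, 2, -2, 2, 2, 0, 0, -2, 0],
   [0, 2, 2, 0, -2, 0, 2, 0, -2, 2, 0, 2, 2, -2, 2, -2, 2, 2, 2, -2, 0, 0, -2, 0],
   [-2, 0, 0, 2, 0, -2, 0, -2, 0, 0, 6, 0, 0, 0, 0, 0, 0, 0, 0, 0, -2, -2, 0, 2],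
   [0, -2, -2, 0, 2, 0, 2, 0, 2, -2, 0, 2, -2, -2, 2, 2, 2, 2, 2, -2, 0, 0, 2, 0],
   [0, 2, 2, 0, 2, 0, -2, 0, 2, 2, 0, 2, -2, -2, -2, -2, 2, -2, 2, 2, 0, 0, 2, 0],
   [2, 0, 0, 6, 0, 2, 0, 2, 0, 0, 2, 0, 0, 0, 0, 0, 0, 0, 0, 0, 2, 2, 0, -2],
   [-2, 0, 0, 2, 0, -2, 0, -2, 0, 0, -2, 0, 0, 0, 0, 0, 0, 0, 0, 0, 6, -2, 0, 2],
   [-2, 0, 0, 2, 0, -2, 0, 6, 0, 0, -2, 0, 0, 0, 0, 0, 0, 0, 0, 0, -2, -2, 0, 2],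
   [0, 2, -2, 0, 2, 0, -2, 0, -2, 2, 0, -2, 2, 2, -2, 2, 2, 2, 2, -2, 0, 0, 2, 0],
   [0, 2, 2, 0, -2, 0, -2, 0, 2, -2, 0, -2, 2, -2, 2, 2, -2, 2, 2, 2, 0, 0, 2, 0],
   [0, -2, 2, 0, 2, 0, 2, 0, 2, 2, 0, -2, 2, -2, -2, 2, 2, 2, -2, 2, 0, 0, -2, 0],
   [0, -2, -2, 0, -2, 0, -2, 0, 2, 2, 0, 2, 2, 2, 2, -2, 2, 2, -2, 2, 0, 0, 2, 0],
   [0, 2, 2, 0, 2, 0, -2, 0, -2, -2, 0, 2, -2, 2, 2, 2, 2, 2, -2, 2, 0, 0, -2, 0],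
   [0, -2, 2, 0, -2, 0, 2, 0, -2, 2, 0, 2, -2, 2, -2, 2, -2, 2, 2, 2, 0, 0, 2, 0],
   [-2, 0, 0, 2, 0, 6, 0, -2, 0, 0, -2, 0, 0, 0, 0, 0, 0, 0, 0, 0, -2, -2, 0, 2],
   [2, 0, 0, -2, 0, 2, 0, 2, 0, 0, 2, 0, 0, 0, 0, 0, 0, 0, 0, 0, 2, 2, 0, 6]]

theorem N101_mul6 : N101_4 * N101_2 = (8 : ℤ) • N101_6 := by decide +kernel

theorem N101_6_ne : N101_6 ≠ I8 := by decide +kernel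

theorem ne_N101 : (perm (mD ^ 10 * mT) * (eE)) ^ 6 ≠ 1 :=
  ne_one_of_rep8 (rep8_pow6 (rep8_mul rep_Ma10t rep_e N101 N101_mul) N101_mul2 N101_mul4 N101_mul6) N101_6_ne

/-- The matrix `N103`. -/
def N103 : Matrix GolayPt GolayPt ℤ := ofL
  [[5, -1, -1, -3, -1, -1, -1, -1, -1, -1, -1, 1, -1, -1, 1, 1, -1, 1, -1, 1, -1, -1, 1, 3],
   [-1, 1, 1, -1, 1, 1, 1, -3, -3, 1, 1, -1, -3, 1, -1, -1, 1, 3, 1, 3, 1, 1, -1, 1],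
   [-1, 1, 1, -1, 1, 1, 1, 1, 1, 1, 1, -1, 1, -3, 3, -1, -3, -1, 1, 3, 1, -3, -1, 1],
   [-1, 1, 1, -1, 1, 1, 1, 1, 1, -3, 1, -1, 1, -3, -1, -1, 1, 3, 1, -1, -3, 1, 3, 1],
   [-1, 1, -3, -1, 1, 1, 1, 1, 1, 1, -3, -1, 1, 1, -1, -1, 1, -1, -3, 3, 1, 1, 3, 1],
   [-1, -3, 1, -1, 1, 1, 1, 1, 1, 1, 1, -1, -3, 1, -1, 3, 1, -1, 1, -1, 1, -3, 3, 1],
   [-1, -3, -3, -1, 1, -3, 1, 1, 1, 1, 1, -1, 1, 1, 3, -1, 1, 3, 1, -1, 1, 1, -1, 1],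
   [1, 3, -1, 1, -1, -1, 3, -1, 3, -1, 3, 1, -1, 3, 1, 1, -1, 1, -1, 1, -1, -1, 1, -1],
   [-1, 1, 1, -1, 1, 1, -3, 1, 1, 1, 1, 3, 1, 1, -1, -1, 1, 3, -3, -1, 1, -3, -1, 1],
   [-1, 1, 1, -1, 1, 1, 1, 1, 1, -3, -3, 3, -3, 1, 3, -1, 1, -1, 1, -1, 1, 1, -1, 1],
   [-1, 1, 1, -1, -3, 1, 1, 1, 1, 1, -3, -1, 1, 1, -1, 3, -3, 3, 1, -1, 1, 1, -1, 1],
   [1, -1, -1, 1, 3, 3, -1, -1, -1, -1, -1, 1, 3, 3, 1, 1, -1, 1, 3, 1, -1, -1, 1, -1],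
   [-1, 1, 1, -1, 1, -3, 1, 1, -3, 1, 1, 3, 1, 1, -1, -1, -3, -1, 1, -1, 1, 1, 3, 1],
   [-3, -1, -1, 5, -1, -1, -1, -1, -1, -1, -1, 1, -1, -1, 1, 1, -1, 1, -1, 1, -1, -1, 1, 3],
   [-1, 1, 1, -1, 1, 1, 1, 1, -3, 1, 1, -1, 1, 1, 3, 3, 1, -1, -3, -1, -3, 1, -1, 1],
   [-1, 1, -3, -1, 1, 1, 1, -3, 1, 1, 1, 3, 1, -3, -1, 3, 1, -1, 1, -1, 1, 1, -1, 1],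
   [-1, -3, 1, -1, -3, 1, 1, 1, 1, 1, 1, 3, 1, 1, -1, -1, 1, -1, 1, 3, -3, 1, -1, 1],
   [1, 3, -1, 1, -1, -1, -1, 3, -1, 3, -1, 1, -1, -1, 1, 1, 3, 1, 3, 1, -1, -1, 1, -1],
   [-1, 1, 1, -1, -3, 1, -3, -3, 1, 1, 1, -1, 1, 1, 3, -1, 1, -1, 1, -1, 1, 1, 3, 1],
   [1, -1, -1, 1, -1, 3, -1, 3, -1, -1, 3, 1, -1, -1, 1, 1, -1, 1, -1, 1, 3, 3, 1, -1],
   [1, -1, 3, 1, 3, -1, -1, -1, 3, 3, -1, 1, -1, -1, 1, 1, -1, 1, -1, 1, -1, 3, 1, -1],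
   [1, -1, 3, 1, -1, -1, 3, -1, -1, -1, -1, 1, 3, -1, 1, 1, 3, 1, -1, 1, 3, -1, 1, -1],
   [-1, 1, 1, -1, 1, -3, -3, 1, 1, -3, 1, -1, 1, 1, -1, 3, 1, -1, 1, 3, 1, 1, -1, 1],
   [3, 1, 1, 3, 1, 1, 1, 1, 1, 1, 1, -1, 1, 1, -1, -1, 1, -1, 1, -1, 1, 1, -1, 5]]

/-- The matrix `N103_2`. -/
def N103_2 : Matrix GolayPt GolayPt ℤ := ofL
  [[6, 0, -2, 0, 0, 0, -2, 0, -2, 0, 0, 0, 0, 0, 0, 2, 0, -2, 0, 0, 0, 0, -2, 2],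
   [0, -2, 0, 2, -2, 2, 0, 2, 0, 2, -2, -2, -2, -2, 2, 0, 2, 0, 2, 2, 2, 2, 0, 0],
   [0, 2, 0, -2, 2, 2, 0, 2, 0, 2, 2, -2, -2, 2, 2, 0, -2, 0, -2, -2, 2, 2, 0, 0],
   [0, 2, 0, -2, -2, -2, 0, 2, 0, 2, 2, -2, 2, 2, -2, 0, 2, 0, 2, 2, 2, -2, 0, 0],
   [0, -2, 0, 2, 2, -2, 0, 2, 0, -2, 2, 2, -2, 2, -2, 0, 2, 0, -2, 2, 2, 2, 0, 0],
   [-2, 0, -2, 0, 0, 0, -2, 0, 6, 0, 0, 0, 0, 0, 0, 2, 0, -2, 0, 0, 0, 0, -2, 2],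
   [0, 2, 0, 2, -2, -2, 0, 2, 0, 2, -2, 2, 2, 2, 2, 0, 2, 0, -2, -2, -2, 2, 0, 0],
   [-2, 0, -2, 0, 0, 0, -2, 0, -2, 0, 0, 0, 0, 0, 0, 2, 0, 6, 0, 0, 0, 0, -2, 2],
   [0, 2, 0, 2, 2, 2, 0, 2, 0, 2, -2, 2, -2, 2, -2, 0, -2, 0, 2, 2, -2, -2, 0, 0],
   [0, -2, 0, 2, 2, 2, 0, -2, 0, 2, 2, -2, 2, 2, 2, 0, 2, 0, -2, 2, -2, -2, 0, 0],
   [0, 2, 0, 2, 2, -2, 0, -2, 0, 2, 2, 2, -2, -2, 2, 0, 2, 0, 2, -2, 2, -2, 0, 0],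
   [-2, 0, -2, 0, 0, 0, -2, 0, -2, 0, 0, 0, 0, 0, 0, 2, 0, -2, 0, 0, 0, 0, 6, 2],
   [0, 2, 0, 2, 2, -2, 0, -2, 0, -2, -2, -2, 2, 2, 2, 0, -2, 0, 2, 2, 2, 2, 0, 0],
   [0, 2, 0, 2, 2, 2, 0, 2, 0, -2, 2, -2, 2, -2, -2, 0, 2, 0, 2, -2, -2, 2, 0, 0],
   [-2, 0, -2, 0, 0, 0, 6, 0, -2, 0, 0, 0, 0, 0, 0, 2, 0, -2, 0, 0, 0, 0, -2, 2],
   [0, -2, 0, -2, 2, 2, 0, -2, 0, 2, -2, 2, 2, 2, -2, 0, 2, 0, 2, -2, 2, 2, 0, 0],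
   [0, -2, 0, 2, -2, 2, 0, 2, 0, -2, 2, 2, 2, 2, 2, 0, -2, 0, 2, -2, 2, -2, 0, 0],
   [0, 2, 0, -2, -2, 2, 0, -2, 0, -2, 2, 2, -2, 2, 2, 0, 2, 0, 2, 2, -2, 2, 0, 0],
   [-2, 0, 6, 0, 0, 0, -2, 0, -2, 0, 0, 0, 0, 0, 0, 2, 0, -2, 0, 0, 0, 0, -2, 2],
   [2, 0, 2, 0, 0, 0, 2, 0, 2, 0, 0, 0, 0, 0, 0, 6, 0, 2, 0, 0, 0, 0, 2, -2],
   [0, 2, 0, -2, 2, 2, 0, 2, 0, -2, -2, 2, 2, -2, 2, 0, 2, 0, -2, 2, 2, -2, 0, 0],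
   [0, -2, 0, -2, 2, -2, 0, 2, 0, 2, 2, 2, 2, -2, 2, 0, -2, 0, 2, 2, -2, 2, 0, 0],
   [0, 2, 0, 2, -2, 2, 0, -2, 0, 2, 2, 2, 2, -2, -2, 0, -2, 0, -2, 2, 2, 2, 0, 0],
   [2, 0, 2, 0, 0, 0, 2, 0, 2, 0, 0, 0, 0, 0, 0, -2, 0, 2, 0, 0, 0, 0, 2, 6]]

/-- The matrix `N103_4`. -/
def N103_4 : Matrix GolayPt GolayPt ℤ := ofL
  [[5, -3, -1, -1, 1, -1, -1, -1, -1, -1, -1, -1, 1, -1, -1, 1, 1, -1, 1, -1, 1, -1, -1, 3],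
   [-1, -1, 1, -3, -1, 1, 1, 1, 1, 1, 1, 1, 3, 1, 1, 3, -1, 1, -1, 1, -1, -3, -3, 1],
   [-1, -1, -3, 1, 3, 1, 1, 1, 1, 1, 1, 1, -1, -3, 1, -1, 3, 1, -1, 1, -1, 1, -3, 1],
   [1, 1, 3, 3, 1, 3, -1, -1, -1, -1, -1, -1, 1, -1, 3, 1, 1, 3, 1, -1, 1, -1, -1, -1],
   [1, 1, -1, -1, 1, -1, -1, 3, -1, -1, 3, 3, 1, -1, -1, 1, 1, 3, 1, -1, 1, -1, 3, -1],
   [-1, -1, 1, 1, 3, 1, 1, 1, 1, 1, -3, 1, -1, 1, -3, -1, -1, 1, 3, 1, -1, -3, 1, 1],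
   [-1, -1, -3, 1, -1, 1, 1, 1, -3, 1, 1, -3, 3, 1, 1, -1, -1, 1, 3, 1, -1, 1, 1, 1],
   [-1, -1, 1, -3, -1, 1, 1, -3, 1, -3, 1, 1, -1, 1, 1, -1, 3, 1, 3, 1, -1, 1, 1, 1],
   [-1, -1, 1, 1, -1, 1, -3, 1, 1, 1, 1, -3, -1, 1, -3, 3, 3, 1, -1, 1, -1, 1, 1, 1],
   [1, 1, -1, 3, 1, -1, 3, -1, 3, -1, 3, -1, 1, 3, -1, 1, 1, -1, 1, -1, 1, -1, -1, -1],
   [-1, -1, 1, 1, -1, 1, 1, 1, -3, 1, 1, 1, -1, 1, 1, -1, 3, -3, -1, 1, 3, -3, 1, 1],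
   [-1, -1, 1, 1, -1, 1, 1, -3, 1, 1, 1, 1, 3, -3, -3, -1, -1, 1, -1, 1, 3, 1, 1, 1],
   [1, 1, 3, -1, 1, -1, 3, 3, -1, -1, -1, -1, 1, -1, -1, 1, 1, -1, 1, 3, 1, 3, -1, -1],
   [-1, -1, 1, 1, -1, -3, -3, 1, 1, 1, 1, 1, -1, 1, 1, -1, -1, 1, 3, 1, 3, 1, -3, 1],
   [-1, -1, 1, 1, -1, -3, 1, 1, 1, 1, -3, 1, 3, 1, 1, -1, 3, 1, -1, -3, -1, 1, 1, 1],
   [-1, -1, 1, 1, 3, 1, -3, 1, 1, -3, 1, 1, 3, 1, 1, -1, -1, -3, -1, 1, -1, 1, 1, 1],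
   [-3, 5, -1, -1, 1, -1, -1, -1, -1, -1, -1, -1, 1, -1, -1, 1, 1, -1, 1, -1, 1, -1, -1, 3],
   [-1, -1, 1, 1, -1, 1, 1, 1, 1, 1, 1, 1, -1, -3, 1, 3, -1, -3, 3, -3, -1, 1, 1, 1],
   [-1, -1, 1, -3, 3, 1, 1, 1, 1, 1, 1, -3, -1, 1, 1, -1, -1, 1, -1, -3, 3, 1, 1, 1],
   [1, 1, -1, -1, 1, 3, -1, -1, -1, 3, -1, 3, 1, 3, -1, 1, 1, -1, 1, -1, 1, 3, -1, -1],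
   [-1, -1, -3, 1, -1, 1, 1, 1, 1, -3, -3, 1, -1, 1, 1, 3, -1, 1, -1, 1, 3, 1, 1, 1],
   [-1, -1, 1, 1, 3, -3, 1, -3, -3, 1, 1, 1, -1, 1, 1, 3, -1, 1, -1, 1, -1, 1, 1, 1],
   [1, 1, -1, -1, 1, -1, -1, -1, 3, 3, -1, -1, 1, -1, 3, 1, 1, -1, 1, 3, 1, -1, 3, -1],
   [3, 3, 1, 1, -1, 1, 1, 1, 1, 1, 1, 1, -1, 1, 1, -1, -1, 1, -1, 1, -1, 1, 1, 5]]

theorem N103_mul : Ma10t * E3 = (8 : ℤ) • N103 := by decide +kernel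

theorem N103_mul2 : N103 * N103 = (8 : ℤ) • N103_2 := by decide +kernel

theorem N103_mul4 : N103_2 * N103_2 = (8 : ℤ) • N103_4 := by decide +kernel

/-- The matrix `N103_6`. -/
def N103_6 : Matrix GolayPt GolayPt ℤ := ofL
  [[5, -1, 1, -1, 1, -1, -1, -1, -1, -3, -1, 1, 1, 1, -1, -1, -1, -1, -1, -1, 1, -1, -1, 3],
   [-1, 1, -1, 1, 3, 1, 1, -3, 1, -1, -3, -1, -1, 3, 1, 1, 1, 1, 1, -3, -1, 1, 1, 1],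
   [-1, -3, -1, 1, -1, -3, 1, 1, 1, -1, 1, 3, -1, 3, 1, 1, 1, 1, 1, 1, -1, -3, 1, 1],
   [-1, 1, -1, -3, -1, 1, 1, 1, 1, -1, 1, -1, -1, 3, 1, 1, 1, -3, 1, 1, 3, 1, -3, 1],
   [-1, 1, -1, 1, -1, 1, -3, -3, -3, -1, 1, 3, -1, -1, 1, 1, 1, 1, 1, 1, 3, 1, 1, 1],
   [-1, 1, 3, 1, -1, 1, -3, 1, 1, -1, 1, -1, -1, 3, -3, 1, 1, 1, -3, 1, -1, 1, 1, 1],
   [-1, 1, 3, 1, -1, -3, 1, -3, 1, -1, 1, -1, 3, -1, 1, 1, 1, 1, 1, 1, -1, 1, -3, 1],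
   [-1, 1, 3, 1, -1, 1, 1, 1, 1, -1, 1, 3, -1, -1, 1, 1, -3, -3, 1, -3, -1, 1, 1, 1],
   [1, -1, 1, -1, 1, 3, -1, -1, 3, 1, 3, 1, 1, 1, -1, -1, -1, 3, 3, -1, 1, -1, -1, -1],
   [1, 3, 1, 3, 1, -1, -1, 3, -1, 1, -1, 1, 1, 1, -1, -1, 3, -1, 3, -1, 1, -1, -1, -1],
   [-1, 1, -1, 1, -1, 1, 1, 1, 1, -1, 1, -1, 3, -1, 1, 1, 1, 1, -3, -3, 3, -3, 1, 1],
   [1, 3, 1, -1, 1, -1, -1, -1, 3, 1, -1, 1, 1, 1, 3, -1, -1, -1, -1, 3, 1, -1, 3, -1],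
   [1, -1, 1, -1, 1, -1, -1, 3, -1, 1, -1, 1, 1, 1, 3, 3, -1, 3, -1, -1, 1, 3, -1, -1],
   [-1, 1, 3, -3, 3, 1, 1, 1, -3, -1, 1, -1, -1, -1, 1, 1, 1, 1, 1, 1, -1, -3, 1, 1],
   [-1, 1, -1, 1, -1, 1, 1, 1, -3, -1, 1, -1, 3, 3, 1, -3, -3, 1, 1, 1, -1, 1, 1, 1],
   [-1, 1, -1, 1, 3, -3, 1, 1, 1, -1, 1, -1, -1, -1, -3, 1, -3, 1, 1, 1, 3, 1, 1, 1],
   [-1, -3, 3, 1, -1, 1, 1, 1, 1, -1, -3, -1, -1, -1, 1, -3, 1, 1, 1, 1, 3, 1, 1, 1],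
   [-3, -1, 1, -1, 1, -1, -1, -1, -1, 5, -1, 1, 1, 1, -1, -1, -1, -1, -1, -1, 1, -1, -1, 3],
   [-1, 1, -1, 1, 3, 1, 1, 1, 1, -1, 1, 3, -1, -1, 1, -3, 1, 1, -3, 1, -1, 1, -3, 1],
   [-1, -3, -1, 1, 3, 1, -3, 1, 1, -1, 1, -1, 3, -1, 1, 1, 1, -3, 1, 1, -1, 1, 1, 1],
   [-1, 1, -1, -3, -1, 1, 1, 1, 1, -1, -3, 3, 3, -1, -3, 1, 1, 1, 1, 1, -1, 1, 1, 1],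
   [1, -1, 1, -1, 1, -1, 3, -1, -1, 1, 3, 1, 1, 1, -1, -1, 3, -1, -1, -1, 1, 3, 3, -1],
   [1, -1, 1, 3, 1, 3, 3, -1, -1, 1, -1, 1, 1, 1, -1, 3, -1, -1, -1, 3, 1, -1, -1, -1],
   [3, 1, -1, 1, -1, 1, 1, 1, 1, 3, 1, -1, -1, -1, 1, 1, 1, 1, 1, 1, -1, 1, 1, 5]]

theorem N103_mul6 : N103_4 * N103_2 = (8 : ℤ) • N103_6 := by decide +kernel

theorem N103_6_ne : N103_6 ≠ I8 := by decide +kernel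

theorem ne_N103 : (perm (mD ^ 10 * mT) * (eE' * eE')) ^ 6 ≠ 1 :=
  ne_one_of_rep8 (rep8_pow6 (rep8_mul rep_Ma10t rep_e3 N103 N103_mul) N103_mul2 N103_mul4 N103_mul6) N103_6_ne

/-- The matrix `N104`. -/
def N104 : Matrix GolayPt GolayPt ℤ := ofL
  [[6, 0, 0, 0, 0, 0, 0, 0, -2, -2, 0, 0, -2, -2, 0, 2, -2, 0, 0, 0, 0, 0, 0, 2],
   [0, 2, -2, -2, 2, 2, 2, 2, 0, 0, 2, 2, 0, 0, 2, 0, 0, -2, 2, -2, -2, -2, 2, 0],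
   [0, -2, 2, -2, 2, 2, 2, -2, 0, 0, -2, 2, 0, 0, -2, 0, 0, 2, 2, -2, 2, 2, 2, 0],
   [0, 2, 2, -2, 2, -2, 2, -2, 0, 0, 2, 2, 0, 0, 2, 0, 0, -2, -2, 2, 2, 2, -2, 0],
   [-2, 0, 0, 0, 0, 0, 0, 0, -2, -2, 0, 0, -2, -2, 0, 2, 6, 0, 0, 0, 0, 0, 0, 2],
   [0, 2, 2, 2, 2, 2, -2, 2, 0, 0, 2, 2, 0, 0, -2, 0, 0, 2, -2, -2, 2, -2, -2, 0],
   [-2, 0, 0, 0, 0, 0, 0, 0, -2, 6, 0, 0, -2, -2, 0, 2, -2, 0, 0, 0, 0, 0, 0, 2],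
   [0, -2, 2, 2, 2, -2, -2, 2, 0, 0, -2, 2, 0, 0, 2, 0, 0, -2, 2, 2, 2, -2, 2, 0],
   [-2, 0, 0, 0, 0, 0, 0, 0, -2, -2, 0, 0, 6, -2, 0, 2, -2, 0, 0, 0, 0, 0, 0, 2],
   [0, 2, 2, -2, -2, -2, 2, 2, 0, 0, 2, -2, 0, 0, -2, 0, 0, 2, 2, 2, 2, -2, 2, 0],
   [0, 2, -2, 2, 2, 2, 2, 2, 0, 0, -2, -2, 0, 0, -2, 0, 0, -2, -2, 2, 2, 2, 2, 0],
   [0, 2, 2, 2, -2, -2, 2, 2, 0, 0, -2, 2, 0, 0, 2, 0, 0, 2, -2, -2, -2, 2, 2, 0],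
   [0, 2, 2, -2, 2, 2, -2, 2, 0, 0, -2, -2, 0, 0, 2, 0, 0, 2, 2, 2, -2, 2, -2, 0],
   [0, -2, -2, -2, -2, 2, -2, 2, 0, 0, 2, 2, 0, 0, 2, 0, 0, 2, -2, 2, 2, 2, 2, 0],
   [0, -2, 2, 2, -2, 2, 2, 2, 0, 0, 2, 2, 0, 0, -2, 0, 0, -2, 2, 2, -2, 2, -2, 0],
   [0, 2, 2, 2, -2, 2, -2, -2, 0, 0, 2, -2, 0, 0, 2, 0, 0, -2, 2, -2, 2, 2, 2, 0],
   [-2, 0, 0, 0, 0, 0, 0, 0, 6, -2, 0, 0, -2, -2, 0, 2, -2, 0, 0, 0, 0, 0, 0, 2],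
   [0, -2, 2, 2, 2, 2, 2, -2, 0, 0, 2, -2, 0, 0, 2, 0, 0, 2, -2, 2, -2, -2, 2, 0],
   [-2, 0, 0, 0, 0, 0, 0, 0, -2, -2, 0, 0, -2, 6, 0, 2, -2, 0, 0, 0, 0, 0, 0, 2],
   [2, 0, 0, 0, 0, 0, 0, 0, 2, 2, 0, 0, 2, 2, 0, 6, 2, 0, 0, 0, 0, 0, 0, -2],
   [0, 2, -2, 2, -2, 2, 2, -2, 0, 0, -2, 2, 0, 0, 2, 0, 0, 2, 2, 2, 2, -2, -2, 0],
   [0, 2, -2, 2, 2, -2, -2, -2, 0, 0, 2, 2, 0, 0, -2, 0, 0, 2, 2, 2, -2, 2, 2, 0],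
   [0, -2, -2, 2, 2, -2, 2, 2, 0, 0, 2, -2, 0, 0, 2, 0, 0, 2, 2, -2, 2, 2, -2, 0],
   [2, 0, 0, 0, 0, 0, 0, 0, 2, 2, 0, 0, 2, 2, 0, -2, 2, 0, 0, 0, 0, 0, 0, 6]]

/-- The matrix `N104_2`. -/
def N104_2 : Matrix GolayPt GolayPt ℤ := ofL
  [[6, 0, 0, 2, 0, 0, 0, -2, -2, 0, 0, 0, -2, 0, 0, 0, 0, -2, 0, -2, 0, 0, 0, 2],
   [-2, 0, 0, 2, 0, 0, 0, 6, -2, 0, 0, 0, -2, 0, 0, 0, 0, -2, 0, -2, 0, 0, 0, 2],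
   [-2, 0, 0, 2, 0, 0, 0, -2, -2, 0, 0, 0, -2, 0, 0, 0, 0, 6, 0, -2, 0, 0, 0, 2],
   [0, 2, -2, 0, -2, 2, 2, 0, 0, 2, -2, 2, 0, -2, -2, 2, 2, 0, 2, 0, -2, 2, 2, 0],
   [-2, 0, 0, 2, 0, 0, 0, -2, 6, 0, 0, 0, -2, 0, 0, 0, 0, -2, 0, -2, 0, 0, 0, 2],
   [0, 2, 2, 0, 2, 2, 2, 0, 0, -2, -2, 2, 0, -2, 2, -2, 2, 0, -2, 0, 2, -2, 2, 0],
   [0, 2, 2, 0, -2, -2, 2, 0, 0, 2, 2, -2, 0, 2, -2, -2, 2, 0, 2, 0, 2, -2, 2, 0],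
   [0, -2, 2, 0, -2, -2, 2, 0, 0, -2, -2, 2, 0, 2, 2, 2, 2, 0, 2, 0, 2, 2, -2, 0],
   [0, 2, 2, 0, 2, 2, -2, 0, 0, 2, -2, -2, 0, 2, 2, -2, 2, 0, 2, 0, -2, 2, -2, 0],
   [0, -2, -2, 0, 2, 2, 2, 0, 0, 2, -2, -2, 0, 2, 2, 2, -2, 0, 2, 0, 2, -2, 2, 0],
   [0, 2, -2, 0, 2, -2, -2, 0, 0, 2, 2, 2, 0, -2, 2, 2, 2, 0, 2, 0, 2, -2, -2, 0],
   [0, -2, 2, 0, 2, -2, 2, 0, 0, 2, 2, 2, 0, -2, 2, -2, -2, 0, 2, 0, -2, 2, 2, 0],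
   [0, -2, 2, 0, 2, 2, -2, 0, 0, -2, 2, 2, 0, 2, -2, 2, 2, 0, 2, 0, -2, -2, 2, 0],
   [2, 0, 0, 6, 0, 0, 0, 2, 2, 0, 0, 0, 2, 0, 0, 0, 0, 2, 0, 2, 0, 0, 0, -2],
   [0, 2, 2, 0, 2, -2, -2, 0, 0, 2, -2, 2, 0, 2, -2, 2, -2, 0, -2, 0, 2, 2, 2, 0],
   [0, 2, -2, 0, 2, 2, 2, 0, 0, -2, 2, 2, 0, 2, -2, -2, -2, 0, 2, 0, 2, 2, -2, 0],
   [-2, 0, 0, 2, 0, 0, 0, -2, -2, 0, 0, 0, 6, 0, 0, 0, 0, -2, 0, -2, 0, 0, 0, 2],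
   [0, -2, 2, 0, 2, 2, 2, 0, 0, 2, 2, -2, 0, -2, -2, 2, 2, 0, -2, 0, 2, 2, -2, 0],
   [0, -2, -2, 0, -2, 2, -2, 0, 0, 2, 2, 2, 0, 2, 2, -2, 2, 0, -2, 0, 2, 2, 2, 0],
   [0, 2, 2, 0, -2, 2, -2, 0, 0, -2, 2, -2, 0, -2, 2, 2, -2, 0, 2, 0, 2, 2, 2, 0],
   [0, 2, 2, 0, -2, 2, 2, 0, 0, 2, 2, 2, 0, 2, 2, 2, -2, 0, -2, 0, -2, -2, -2, 0],
   [0, 2, -2, 0, 2, -2, 2, 0, 0, -2, 2, -2, 0, 2, 2, 2, 2, 0, -2, 0, -2, 2, 2, 0],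
   [-2, 0, 0, 2, 0, 0, 0, -2, -2, 0, 0, 0, -2, 0, 0, 0, 0, -2, 0, 6, 0, 0, 0, 2],
   [2, 0, 0, -2, 0, 0, 0, 2, 2, 0, 0, 0, 2, 0, 0, 0, 0, 2, 0, 2, 0, 0, 0, 6]]

/-- The matrix `N104_4`. -/
def N104_4 : Matrix GolayPt GolayPt ℤ := ofL
  [[5, 1, -3, 1, -1, -1, 1, -1, -1, 1, -1, 1, -1, -1, -1, -1, -1, -1, -1, -1, -1, -1, 1, 3],
   [-1, -1, -1, -1, -3, -3, 3, 1, 1, -1, -3, 3, 1, 1, 1, 1, 1, 1, 1, 1, 1, 1, -1, 1],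
   [-1, -1, -1, -1, 1, 1, 3, 1, 1, 3, 1, -1, 1, -3, -3, 1, 1, 1, -3, 1, 1, 1, -1, 1],
   [-1, -1, -1, -1, 1, 1, 3, 1, -3, -1, 1, -1, 1, 1, 1, -3, 1, -3, 1, 1, 1, 1, 3, 1],
   [-1, 3, -1, -1, 1, 1, -1, 1, 1, 3, -3, -1, 1, 1, 1, -3, 1, 1, 1, 1, -3, 1, -1, 1],
   [-3, 1, 5, 1, -1, -1, 1, -1, -1, 1, -1, 1, -1, -1, -1, -1, -1, -1, -1, -1, -1, -1, 1, 3],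
   [-1, -1, -1, 3, -3, 1, -1, 1, -3, 3, 1, -1, 1, 1, 1, 1, 1, 1, 1, 1, 1, -3, -1, 1],
   [1, 1, 1, 1, -1, -1, 1, -1, -1, 1, 3, 1, 3, 3, -1, -1, -1, 3, -1, -1, -1, 3, 1, -1],
   [-1, -1, -1, 3, 1, 1, -1, 1, 1, -1, -3, -1, 1, 1, 1, 1, 1, 1, -3, -3, 1, 1, 3, 1],
   [1, 1, 1, 1, -1, 3, 1, -1, 3, 1, -1, 1, -1, 3, -1, -1, -1, -1, -1, 3, 3, -1, 1, -1],
   [-1, -1, -1, -1, 1, 1, -1, 1, 1, 3, 1, 3, 1, 1, 1, 1, -3, -3, 1, -3, 1, 1, -1, 1],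
   [-1, -1, -1, -1, 1, -3, -1, -3, 1, 3, 1, -1, -3, 1, 1, 1, 1, 1, 1, 1, 1, 1, 3, 1],
   [-1, -1, -1, 3, 1, 1, -1, -3, 1, -1, 1, 3, 1, -3, 1, -3, 1, 1, 1, 1, 1, 1, -1, 1],
   [1, 1, 1, 1, -1, 3, 1, -1, -1, 1, -1, 1, -1, -1, -1, 3, 3, -1, 3, -1, -1, 3, 1, -1],
   [-1, -1, -1, 3, 1, 1, 3, 1, 1, -1, 1, -1, -3, 1, 1, 1, -3, 1, 1, 1, -3, 1, -1, 1],
   [1, 1, 1, 1, -1, -1, 1, 3, 3, 1, 3, 1, -1, -1, 3, -1, 3, -1, -1, -1, -1, -1, 1, -1],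
   [-1, -1, -1, -1, 1, 1, -1, 1, 1, -1, 1, 3, 1, 1, -3, 1, 1, 1, 1, 1, -3, -3, 3, 1],
   [-1, 3, -1, -1, 1, 1, 3, -3, 1, -1, 1, -1, 1, 1, 1, 1, 1, 1, 1, -3, 1, -3, -1, 1],
   [1, 1, 1, 1, 3, -1, 1, -1, -1, 1, -1, 1, 3, -1, 3, 3, -1, -1, -1, 3, -1, -1, 1, -1],
   [-1, 3, -1, -1, 1, 1, -1, 1, -3, -1, 1, 3, -3, 1, 1, 1, 1, 1, -3, 1, 1, 1, -1, 1],
   [1, 1, 1, 1, 3, -1, 1, 3, -1, 1, -1, 1, -1, -1, -1, -1, -1, 3, 3, -1, 3, -1, 1, -1],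
   [-1, 3, -1, 3, 1, -3, -1, 1, 1, -1, 1, -1, 1, 1, -3, 1, 1, -3, 1, 1, 1, 1, -1, 1],
   [-1, 3, -1, -1, -3, 1, -1, 1, 1, -1, 1, -1, 1, -3, 1, 1, -3, 1, 1, 1, 1, 1, 3, 1],
   [3, -1, 3, -1, 1, 1, -1, 1, 1, -1, 1, -1, 1, 1, 1, 1, 1, 1, 1, 1, 1, 1, -1, 5]]

theorem N104_mul : Ma10t * E8' = (8 : ℤ) • N104 := by decide +kernel

theorem N104_mul2 : N104 * N104 = (8 : ℤ) • N104_2 := by decide +kernel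

theorem N104_mul4 : N104_2 * N104_2 = (8 : ℤ) • N104_4 := by decide +kernel

/-- The matrix `N104_6`. -/
def N104_6 : Matrix GolayPt GolayPt ℤ := ofL
  [[5, -1, -1, -1, -1, -1, 1, 1, -1, 1, -1, -1, -1, -1, -1, -1, -1, -3, 1, 1, -1, -1, 1, 3],
   [1, -1, 3, -1, -1, -1, 1, 1, -1, 1, 3, -1, 3, 3, -1, -1, -1, 1, 1, 1, -1, 3, 1, -1],
   [-1, 1, 1, -3, 1, 1, 3, -1, 1, -1, 1, -3, 1, 1, 1, 1, 1, -1, 3, -1, 1, -3, -1, 1],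
   [-1, 1, 1, 1, -3, -3, -1, -1, 1, -1, 1, 1, 1, 1, 1, 1, 1, -1, -1, 3, 1, -3, 3, 1],
   [-1, -3, 1, 1, 1, 1, -1, 3, 1, -1, -3, -3, 1, 1, 1, 1, 1, -1, -1, -1, 1, 1, 3, 1],
   [-3, -1, -1, -1, -1, -1, 1, 1, -1, 1, -1, -1, -1, -1, -1, -1, -1, 5, 1, 1, -1, -1, 1, 3],
   [1, -1, -1, -1, -1, 3, 1, 1, -1, 1, -1, 3, 3, -1, -1, 3, -1, 1, 1, 1, 3, -1, 1, -1],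
   [1, -1, -1, 3, 3, -1, 1, 1, -1, 1, 3, -1, -1, -1, -1, 3, 3, 1, 1, 1, -1, -1, 1, -1],
   [-1, 1, 1, 1, 1, 1, 3, -1, 1, -1, -3, 1, 1, 1, -3, 1, 1, -1, -1, 3, -3, 1, -1, 1],
   [1, 3, 3, 3, -1, 3, 1, 1, -1, 1, -1, -1, -1, -1, 3, -1, -1, 1, 1, 1, -1, -1, 1, -1],
   [1, -1, -1, -1, 3, -1, 1, 1, 3, 1, -1, 3, -1, 3, 3, -1, -1, 1, 1, 1, -1, -1, 1, -1],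
   [-1, 1, -3, 1, 1, 1, -1, -1, 1, 3, 1, -3, 1, 1, 1, 1, -3, -1, -1, 3, 1, 1, -1, 1],
   [-1, 1, 1, -3, 1, 1, -1, -1, 1, 3, 1, 1, 1, -3, 1, 1, 1, -1, -1, -1, -3, 1, 3, 1],
   [-1, 1, -3, 1, 1, 1, 3, -1, -3, -1, 1, 1, 1, 1, 1, -3, 1, -1, -1, -1, 1, 1, 3, 1],
   [1, 3, -1, -1, -1, -1, 1, 1, 3, 1, -1, -1, -1, -1, -1, -1, 3, 1, 1, 1, 3, 3, 1, -1],
   [-1, 1, 1, 1, 1, -3, -1, -1, -3, 3, -3, 1, 1, 1, 1, 1, 1, -1, 3, -1, 1, 1, -1, 1],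
   [-1, -3, 1, 1, 1, 1, -1, -1, 1, -1, 1, 1, 1, -3, 1, -3, 1, -1, 3, 3, 1, 1, -1, 1],
   [-1, 1, 1, 1, 1, 1, -1, 3, 1, 3, 1, 1, 1, 1, -3, -3, 1, -1, -1, -1, 1, -3, -1, 1],
   [-1, 1, 1, 1, 1, 1, -1, -1, 1, -1, 1, 1, -3, 1, -3, 1, -3, -1, 3, -1, 1, 1, 3, 1],
   [-1, 1, 1, 1, 1, -3, 3, 3, 1, -1, 1, 1, 1, -3, 1, 1, -3, -1, -1, -1, 1, 1, -1, 1],
   [-1, -3, 1, 1, -3, 1, 3, -1, 1, 3, 1, 1, -3, 1, 1, 1, 1, -1, -1, -1, 1, 1, -1, 1],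
   [-1, 1, -3, 1, -3, 1, -1, 3, 1, -1, 1, 1, 1, 1, 1, 1, 1, -1, 3, -1, -3, 1, -1, 1],
   [-1, 1, 1, -3, 1, 1, -1, 3, -3, -1, 1, 1, -3, 1, 1, 1, 1, -1, -1, 3, 1, 1, -1, 1],
   [3, 1, 1, 1, 1, 1, -1, -1, 1, -1, 1, 1, 1, 1, 1, 1, 1, 3, -1, -1, 1, 1, -1, 5]]

theorem N104_mul6 : N104_4 * N104_2 = (8 : ℤ) • N104_6 := by decide +kernel

theorem N104_6_ne : N104_6 ≠ I8 := by decide +kernel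

theorem ne_N104 : (perm (mD ^ 10 * mT) * (eE')) ^ 6 ≠ 1 :=
  ne_one_of_rep8 (rep8_pow6 (rep8_mul rep_Ma10t rep_e' N104 N104_mul) N104_mul2 N104_mul4 N104_mul6) N104_6_ne

end Cfsg.Agent.Lib.Helper93_McLData
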