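import Cfsg.Agent.Lib.Helper93_McLCent
import Cfsg.Agent.Lib.Helper93_McLData1
import Cfsg.Agent.Lib.Helper93_McLData2

/-!
Relations among the coordinate permutations `a : x ↦ 2 x`, `d` (the cube twist), `t` and the
element `e` of order `5` in the automorphism group of the rank-24 lattice, and the conditions that
single out the pair `(t, e)` among the pairs `(t e^j, e^j')`, up to the twist `(t e², e⁴)`.
-/

set_option autoImplicit false
set_option linter.constructorNameAsVariable false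
open Cfsg
open scoped Pointwise

namespace Cfsg.Agent.Lib.Helper93_McLPin

open Cfsg.Agent.Lib.Helper7_M24 Cfsg.Agent.Lib.Helper7_Leech Cfsg.Agent.Lib.Helper92_Monomial
  Cfsg.Agent.Lib.Helper7_Mono Cfsg.Agent.Lib.Helper92_QuadAut Cfsg.Agent.Lib.Helper93_McLElt
  Cfsg.Agent.Lib.Helper92_ZElt Cfsg.Agent.Lib.Helper7_Bits Cfsg.Agent.Lib.Helper93_McLRep
  Cfsg.Agent.Lib.Helper93_McLPerm Cfsg.Agent.Lib.Helper92_Co3Cent
  Cfsg.Agent.Lib.Helper93_OutM24 Cfsg.Agent.Lib.Helper93_M24Obj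
  Cfsg.Agent.Lib.Helper93_McLData Cfsg.Agent.Lib.Helper93_McLCent
open Cfsg.Agent.S5546 (Lam vec8 e8)

/-! ### the coordinate permutations -/

theorem perm_inj {σ τ : ↥M24} (h : perm σ = perm τ) : σ = τ := by
  have h2 : eps 0 * perm σ = eps 0 * perm τ := by rw [h]
  exact (mono_injective h2).1

theorem permHom_inj : Function.Injective permHom := fun _ _ h => perm_inj h

theorem PD_eq : PD = permHom mD := rfl
theorem PC_eq : PC = permHom mC := rfl
theorem PT_eq : PT = permHom mT := rfl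

theorem mD_pow : mD ^ 11 = 1 := Subtype.ext gD_pow
theorem mC_pow : mC ^ 5 = 1 := Subtype.ext gC_pow5
theorem m_rel_CD : mC * mD * mC⁻¹ = mD ^ 3 := Subtype.ext rel_CD
theorem m_rel_TC : mT * mC * mT⁻¹ = mC ^ 2 := Subtype.ext rel_TC
theorem m_rel_r1 : (mD * mT ^ 2) ^ 5 = 1 := Subtype.ext rel_r1
theorem m_rel_r2 : (mD ^ 2 * mT ^ 2) ^ 6 = 1 := Subtype.ext rel_r2
theorem m_rel_r4 : (mD * mT) ^ 6 = 1 := Subtype.ext rel_r4
theorem m_rel_r5 : (mD ^ 2 * mT) ^ 5 = 1 := Subtype.ext rel_r5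

theorem PD_pow : PD ^ 11 = 1 := by rw [PD_eq, ← map_pow, mD_pow, map_one]

theorem PD_ne : PD ≠ 1 := by
  intro h1
  rw [PD_eq, ← map_one permHom] at h1
  have h2 : mD = 1 := permHom_inj h1
  have h3 : gD = 1 := congrArg Subtype.val h2
  have h4 : gD (some 1) = some 1 := by rw [h3]; rfl
  rw [gD_apply] at h4
  revert h4
  decide

theorem PC_ne : PC ≠ 1 := by
  intro h1
  rw [PC_eq, ← map_one permHom] at h1
  have h2 : mC = 1 := permHom_inj h1
  exact gC_ne_one (congrArg Subtype.val h2)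

theorem rel_DA : PC * PD * PC⁻¹ = PD ^ 3 := by
  rw [PC_eq, PD_eq, ← map_inv, ← map_mul, ← map_mul, ← map_pow, m_rel_CD]

theorem rel_TD : PT * PC * PT⁻¹ = PC ^ 2 := by
  rw [PC_eq, PT_eq, ← map_inv, ← map_mul, ← map_mul, ← map_pow, m_rel_TC]

theorem rel_TE : PT * eE * PT⁻¹ = eE ^ 4 := by
  rw [eE_four, ← eE'_PT, mul_inv_cancel_right]

theorem rel1 : (PD * PT ^ 2) ^ 5 = 1 := by
  rw [PD_eq, PT_eq, ← map_pow, ← map_mul, ← map_pow, m_rel_r1, map_one]

theorem rel2 : (PD ^ 2 * PT ^ 2) ^ 6 = 1 := by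
  rw [PD_eq, PT_eq, ← map_pow, ← map_pow, ← map_mul, ← map_pow, m_rel_r2, map_one]

theorem rel3 : (PD * eE) ^ 7 = 1 := rel_ae7

theorem rel4 : (PD * PT) ^ 6 = 1 := by
  rw [PD_eq, PT_eq, ← map_mul, ← map_pow, m_rel_r4, map_one]

theorem rel5 : (PD ^ 2 * PT) ^ 5 = 1 := by
  rw [PD_eq, PT_eq, ← map_pow, ← map_mul, ← map_pow, m_rel_r5, map_one]

theorem rel6 : (PD * PT * eE) ^ 6 = 1 := by
  have h := rel_ate6
  rw [perm_mul] at h
  exact h

/-- The first pin, for the coordinate permutations. -/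
theorem pin1 (k : ℕ) (hk : k ∈ ([1, 10] : List ℕ)) (i : ℕ) (hi : i < 5)
    (h5 : (PD ^ k * (PC ^ i * PT ^ 2)) ^ 5 = 1)
    (h6 : ((PD ^ k) ^ 2 * (PC ^ i * PT ^ 2)) ^ 6 = 1) : i = 0 := by
  rw [PD_eq, PC_eq, PT_eq, ← map_pow, ← map_pow, ← map_pow, ← map_mul, ← map_mul, ← map_pow,
    ← map_one permHom] at h5
  rw [PD_eq, PC_eq, PT_eq, ← map_pow, ← map_pow, ← map_pow, ← map_pow, ← map_mul, ← map_mul,
    ← map_pow, ← map_one permHom] at h6
  have f5 := permHom_inj h5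
  have f6 := permHom_inj h6
  exact pinP1 k hk i hi (congrArg Subtype.val f5) (congrArg Subtype.val f6)

/-! ### the second pin -/

theorem orderOf_PD : orderOf PD = 11 := by
  have : Fact (Nat.Prime 11) := ⟨by norm_num⟩
  exact orderOf_eq_prime PD_pow PD_ne

theorem PD_pow_perm (k : ℕ) : PD ^ k = perm (mD ^ k) := by
  rw [PD_eq, ← map_pow]
  rfl

theorem PDT (k : ℕ) : PD ^ k * PT = perm (mD ^ k * mT) := by
  rw [PD_pow_perm, perm_mul]
  rfl

/-- The condition of order `7`. -/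
theorem T7 (k : ℕ) (hk : k ∈ ([1, 10] : List ℕ)) (j' : ℕ) (hj' : j' < 5)
    (h : (PD ^ k * eE ^ j') ^ 7 = 1) : j' = 1 ∨ j' = 4 := by
  have hk' : k = 1 ∨ k = 10 := by simpa using hk
  interval_cases j'
  · exfalso
    rw [pow_zero, mul_one, ← pow_mul] at h
    have hd := orderOf_dvd_of_pow_eq_one h
    rw [orderOf_PD] at hd
    rcases hk' with rfl | rfl <;> revert hd <;> decide
  · left; rfl
  · exfalso
    rw [eE_two, PD_pow_perm] at h
    rcases hk' with rfl | rfl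
    · rw [pow_one] at h
      exact ne_F2a h
    · exact ne_F2c h
  · exfalso
    rw [eE_three, PD_pow_perm] at h
    rcases hk' with rfl | rfl
    · rw [pow_one] at h
      exact ne_F2b h
    · exact ne_F2d h
  · right; rfl

/-- The condition of order `6`. -/
theorem T6 (k : ℕ) (hk : k ∈ ([1, 10] : List ℕ)) (m : ℕ) (hm : m < 5)
    (h : (PD ^ k * (PT * eE ^ m)) ^ 6 = 1) :
    (k = 1 ∧ m ≤ 2) ∨ (k = 10 ∧ (m = 0 ∨ m = 2)) := by
  have hk' : k = 1 ∨ k = 10 := by simpa using hk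
  rw [← mul_assoc, PDT] at h
  rcases hk' with rfl | rfl
  · left
    refine ⟨rfl, ?_⟩
    rw [pow_one] at h
    interval_cases m
    · omega
    · omega
    · omega
    · exfalso
      rw [eE_three] at h
      exact ne_N13 h
    · exfalso
      rw [eE_four] at h
      exact ne_N14 h
  · right
    refine ⟨rfl, ?_⟩
    interval_cases m
    · left; rfl
    · exfalso
      rw [pow_one] at h
      exact ne_N101 h
    · right; rfl
    · exfalso
      rw [eE_three] at h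
      exact ne_N103 h
    · exfalso
      rw [eE_four] at h
      exact ne_N104 h

/-- The condition of order `5`. -/
theorem T5 : ((PD ^ 1) ^ 2 * (PT * eE ^ 1)) ^ 5 ≠ 1 := by
  intro h
  rw [pow_one, pow_one, ← mul_assoc, PDT] at h
  exact ne_F5a h

/-- The second pin. -/
theorem pin2 (k : ℕ) (hk : k ∈ ([1, 10] : List ℕ)) (j : ℕ) (hj : j < 5) (j' : ℕ) (hj' : j' < 5)
    (h7 : (PD ^ k * eE ^ j') ^ 7 = 1) (h6 : (PD ^ k * (PT * eE ^ j)) ^ 6 = 1)
    (h5 : ((PD ^ k) ^ 2 * (PT * eE ^ j)) ^ 5 = 1)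
    (h6' : (PD ^ k * (PT * eE ^ j) * eE ^ j') ^ 6 = 1) :
    k = 1 ∧ ((j = 0 ∧ j' = 1) ∨ (j = 2 ∧ j' = 4)) := by
  have a1 := T7 k hk j' hj' h7
  have a2 := T6 k hk j hj h6
  have e : PD ^ k * (PT * eE ^ j) * eE ^ j' = PD ^ k * (PT * eE ^ ((j + j') % 5)) := by
    rw [mul_assoc, mul_assoc, ← pow_add, pow_eq_pow_mod (j + j') eE_five]
  rw [e] at h6'
  have a4 := T6 k hk ((j + j') % 5) (Nat.mod_lt _ (by norm_num)) h6'
  have a3 : ¬ (k = 1 ∧ j = 1) := by
    rintro ⟨rfl, rfl⟩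
    exact T5 h5
  omega

end Cfsg.Agent.Lib.Helper93_McLPin
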