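import Mathlib
import Cfsg.Prelude.Def_KGroupFacts

/-!
Automorphisms of a finite group with a self-centralising Sylow subgroup of order 23 normalised by a
self-centralising element of order 11: every automorphism agrees with an inner one on three (or
four) elements pinned down by relations.  Criterion for a trivial outer automorphism group.
(The conjugacy lemma for elements of prime order follows `Helper27_EnumGroup.exists_conj_prime`.)
-/

set_option autoImplicit false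
open Cfsg

namespace Cfsg.Agent.Lib.Helper93_OutAbs

theorem conj_pow_pow' {G : Type*} [Group G] {a n : G} {r : ℕ} (hn : n * a * n⁻¹ = a ^ r) (m : ℕ) :
    n ^ m * a * (n ^ m)⁻¹ = a ^ (r ^ m) := by
  induction m with
  | zero => simp
  | succ m ih =>
    have : n ^ (m + 1) * a * (n ^ (m + 1))⁻¹ = n * (n ^ m * a * (n ^ m)⁻¹) * n⁻¹ := by
      rw [pow_succ' n m]; group
    rw [this, ih, ← conj_pow, hn, ← pow_mul, pow_succ' r m]

/-- Elements of prime order `p`, where `p` divides the group order exactly once, are conjugate to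
powers of a given one. -/
theorem exists_conj_prime' {G : Type*} [Group G] [Finite G] (p : ℕ) [hp : Fact p.Prime] {s : ℕ}
    (hcard : Nat.card G = p * s) (hs : ¬ p ∣ s) {a n : G} (ha : a ^ p = 1) (ha1 : a ≠ 1) {r : ℕ}
    (hn : n * a * n⁻¹ = a ^ r) (K : List ℕ)
    (hcover : ∀ j < p, j ≠ 0 → ∃ k ∈ K, ∃ m, j % p = (k * r ^ m) % p) :
    ∀ x : G, x ^ p = 1 → x ≠ 1 → ∃ c, ∃ k ∈ K, c * a ^ k * c⁻¹ = x := by
  intro x hx hx1
  have hs0 : s ≠ 0 := by
    rintro rfl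
    simp at hs
  have hfac : (Nat.card G).factorization p = 1 := by
    rw [hcard, Nat.factorization_mul hp.out.ne_zero hs0]
    have h55 : (Nat.factorization p) p = 1 := Nat.Prime.factorization_self hp.out
    simp [h55, Nat.factorization_eq_zero_of_not_dvd hs]
  have hoa : orderOf a = p := orderOf_eq_prime ha ha1
  have hox : orderOf x = p := orderOf_eq_prime hx hx1
  let P : Sylow p G := Sylow.ofCard (Subgroup.zpowers a) (by
    rw [Nat.card_zpowers, hoa, hfac, pow_one])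
  let Q : Sylow p G := Sylow.ofCard (Subgroup.zpowers x) (by
    rw [Nat.card_zpowers, hox, hfac, pow_one])
  obtain ⟨g, hg⟩ := MulAction.exists_smul_eq G P Q
  have hxQ : x ∈ (Q : Subgroup G) := Subgroup.mem_zpowers x
  rw [← hg, Sylow.coe_subgroup_smul, Subgroup.mem_pointwise_smul_iff_inv_smul_mem] at hxQ
  have hxP : g⁻¹ * x * g ∈ Subgroup.zpowers a := by
    have : (MulAut.conj g)⁻¹ • x = g⁻¹ * x * g := by
      rw [← map_inv, MulAut.smul_def, MulAut.conj_apply, inv_inv]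
    rw [← this]
    exact hxQ
  obtain ⟨z, hz⟩ := Subgroup.mem_zpowers_iff.1 hxP
  have hp0 : (p : ℤ) ≠ 0 := by exact_mod_cast hp.out.ne_zero
  have hz' : a ^ (z % p).toNat = g⁻¹ * x * g := by
    rw [← hz, ← zpow_natCast, Int.toNat_of_nonneg (Int.emod_nonneg _ hp0),
      ← zpow_mod_orderOf a z, hoa]
  have hlt : (z % p).toNat < p := by
    have := Int.emod_lt_of_pos z (by exact_mod_cast hp.out.pos : (0 : ℤ) < p)
    have h0 := Int.emod_nonneg z hp0
    omega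
  generalize (z % p).toNat = j at hz' hlt
  have hj0 : j ≠ 0 := by
    rintro rfl
    apply hx1
    have : g⁻¹ * x * g = 1 := by rw [← hz', pow_zero]
    calc x = g * (g⁻¹ * x * g) * g⁻¹ := by group
      _ = 1 := by rw [this]; group
  obtain ⟨k, hk, m, hm⟩ := hcover j hlt hj0
  refine ⟨g * n ^ m, k, hk, ?_⟩
  have h1 : a ^ j = a ^ (k * r ^ m) := by
    rw [← pow_mod_orderOf a j, ← pow_mod_orderOf a (k * r ^ m), hoa, hm]
  have h2 : n ^ m * a ^ k * (n ^ m)⁻¹ = a ^ (k * r ^ m) := by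
    rw [← conj_pow, conj_pow_pow' hn m, ← pow_mul, mul_comm]
  calc g * n ^ m * a ^ k * (g * n ^ m)⁻¹ = g * (n ^ m * a ^ k * (n ^ m)⁻¹) * g⁻¹ := by group
    _ = g * (g⁻¹ * x * g) * g⁻¹ := by rw [h2, ← h1, hz']
    _ = x := by group

/-- An element of the cyclic group generated by an element of order dividing 11 is one of its
first eleven powers. -/
theorem exists_pow_lt {G : Type*} [Group G] {d z : G} (hd : d ^ 11 = 1)
    (hz : z ∈ Subgroup.zpowers d) : ∃ n < 11, d ^ n = z := by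
  obtain ⟨i, hi⟩ := Subgroup.mem_zpowers_iff.1 hz
  have h11 : d ^ (11 : ℤ) = 1 := by
    rw [← hd]
    exact zpow_natCast d 11
  have h1 : d ^ i = d ^ (i % 11) := zpow_eq_zpow_emod i h11
  have h0 : 0 ≤ i % 11 := Int.emod_nonneg _ (by norm_num)
  have h2 : i % 11 < 11 := Int.emod_lt_of_pos _ (by norm_num)
  refine ⟨(i % 11).toNat, by omega, ?_⟩
  rw [← hi, h1, ← zpow_natCast, Int.toNat_of_nonneg h0]

section

variable {G : Type*} [Group G] [Finite G] (a d c : G) (s : ℕ)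

/-- Every automorphism agrees with an inner one on `a`, `d` and `c`. -/
theorem normalize3
    (hcard : Nat.card G = 23 * s) (hs : ¬ 23 ∣ s)
    (ha : a ^ 23 = 1) (ha1 : a ≠ 1) (hda : d * a * d⁻¹ = a ^ 2)
    (hCa : ∀ g : G, g * a = a * g → g ∈ Subgroup.zpowers a)
    (hCd : ∀ g : G, g * d = d * g → g ∈ Subgroup.zpowers d)
    (hd : d ^ 11 = 1) (hcd : c * d * c⁻¹ = d ^ 3)
    (hr1 : (a * c) ^ 6 = 1) (hr2 : (a * c ^ 2) ^ 5 = 1)
    (hpin : ∀ k ∈ ([1, 22] : List ℕ), ∀ i < 11, (a ^ k * (c * d ^ i)) ^ 6 = 1 →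
      (a ^ k * (c * d ^ i) ^ 2) ^ 5 = 1 → k = 1 ∧ i = 0)
    (α : MulAut G) : ∃ g : G, α a = g * a * g⁻¹ ∧ α d = g * d * g⁻¹ ∧ α c = g * c * g⁻¹ := by
  have : Fact (Nat.Prime 23) := ⟨by norm_num⟩
  have hcover : ∀ j < 23, j ≠ 0 → ∃ k ∈ ([1, 22] : List ℕ), ∃ m, j % 23 = (k * 2 ^ m) % 23 := by
    have h : ∀ j < 23, j ≠ 0 → ∃ k ∈ ([1, 22] : List ℕ), ∃ m < 11,
        j % 23 = (k * 2 ^ m) % 23 := by decide
    intro j hj hj0
    obtain ⟨k, hk, m, _, hm⟩ := h j hj hj0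
    exact ⟨k, hk, m, hm⟩
  have hαa : (α a) ^ 23 = 1 := by rw [← map_pow, ha, map_one]
  have hαa1 : α a ≠ 1 := fun h => ha1 (α.injective (h.trans (map_one α).symm))
  obtain ⟨g₀, k, hk, hg₀⟩ :=
    exists_conj_prime' 23 hcard hs ha ha1 hda [1, 22] hcover (α a) hαa hαa1
  -- first normalisation: the image of `a` is a power of `a`
  let β : MulAut G := (MulAut.conj g₀)⁻¹ * α
  have hβx : ∀ x, β x = g₀⁻¹ * α x * g₀ := fun x => by
    show (MulAut.conj g₀)⁻¹ (α x) = _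
    rw [MulAut.conj_inv_apply]
  have hβa : β a = a ^ k := by
    rw [hβx, ← hg₀]
    group
  have h1 : β d * β a * (β d)⁻¹ = (β a) ^ 2 := by
    rw [← map_inv, ← map_mul, ← map_mul, hda, map_pow]
  rw [hβa] at h1
  have h2 : β d * a * (β d)⁻¹ = a ^ 2 := by
    have hk' : k = 1 ∨ k = 22 := by simpa using hk
    rcases hk' with rfl | rfl
    · simpa using h1
    · have ha22 : a ^ 22 = a⁻¹ := by
        apply eq_inv_of_mul_eq_one_left
        rw [← pow_succ, ha]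
      rw [ha22] at h1
      have h3 := congrArg (·⁻¹) h1
      simp only [mul_inv_rev, inv_inv, inv_pow] at h3
      rw [← mul_assoc] at h3
      exact h3
  have hda' : d⁻¹ * a ^ 2 * d = a := by
    rw [← hda]
    group
  have hz : (d⁻¹ * β d) * a = a * (d⁻¹ * β d) := by
    have : (d⁻¹ * β d) * a * (d⁻¹ * β d)⁻¹ = a := by
      calc (d⁻¹ * β d) * a * (d⁻¹ * β d)⁻¹ = d⁻¹ * (β d * a * (β d)⁻¹) * d := by group
        _ = a := by rw [h2, hda']
    calc (d⁻¹ * β d) * a = ((d⁻¹ * β d) * a * (d⁻¹ * β d)⁻¹) * (d⁻¹ * β d) := by group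
      _ = a * (d⁻¹ * β d) := by rw [this]
  obtain ⟨i, hi⟩ := Subgroup.mem_zpowers_iff.1 (hCa _ hz)
  have hβd : β d = d * a ^ i := by
    rw [hi]
    group
  have hdai : d * a ^ i * d⁻¹ = a ^ (2 * i) := by
    have : d * a ^ i * d⁻¹ = (d * a * d⁻¹) ^ i := by
      rw [conj_zpow]
    rw [this, hda, ← zpow_natCast, ← zpow_mul]
    rfl
  -- second normalisation: the image of `d` is `d`
  let g₁ : G := a ^ (-(2 * i))
  let γ : MulAut G := (MulAut.conj g₁)⁻¹ * β
  have hγx : ∀ x, γ x = g₁⁻¹ * β x * g₁ := fun x => by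
    show (MulAut.conj g₁)⁻¹ (β x) = _
    rw [MulAut.conj_inv_apply]
  have hg₁ : g₁⁻¹ = a ^ (2 * i) := by
    show (a ^ (-(2 * i)))⁻¹ = _
    rw [zpow_neg, inv_inv]
  have hγa : γ a = a ^ k := by
    rw [hγx, hβa, hg₁]
    show a ^ (2 * i) * a ^ k * a ^ (-(2 * i)) = a ^ k
    rw [← zpow_natCast a k, ← zpow_add, ← zpow_add]
    congr 1
    ring
  have hγd : γ d = d := by
    rw [hγx, hβd, hg₁]
    show a ^ (2 * i) * (d * a ^ i) * a ^ (-(2 * i)) = d
    have e1 : a ^ (2 * i) * d = d * a ^ i := by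
      rw [← hdai]
      group
    have e2 : i + (i + -(2 * i)) = 0 := by ring
    calc a ^ (2 * i) * (d * a ^ i) * a ^ (-(2 * i))
        = (a ^ (2 * i) * d) * (a ^ i * a ^ (-(2 * i))) := by simp only [mul_assoc]
      _ = d * (a ^ i * (a ^ i * a ^ (-(2 * i)))) := by rw [e1, mul_assoc]
      _ = d := by rw [← zpow_add, ← zpow_add, e2, zpow_zero, mul_one]
  -- the image of `c`
  have h3 : γ c * d * (γ c)⁻¹ = d ^ 3 := by
    have := congrArg γ hcd
    rw [map_mul, map_mul, map_inv, map_pow, hγd] at this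
    exact this
  have hcd' : c⁻¹ * d ^ 3 * c = d := by
    rw [← hcd]
    group
  have hz2 : (c⁻¹ * γ c) * d = d * (c⁻¹ * γ c) := by
    have : (c⁻¹ * γ c) * d * (c⁻¹ * γ c)⁻¹ = d := by
      calc (c⁻¹ * γ c) * d * (c⁻¹ * γ c)⁻¹ = c⁻¹ * (γ c * d * (γ c)⁻¹) * c := by group
        _ = d := by rw [h3, hcd']
    calc (c⁻¹ * γ c) * d = ((c⁻¹ * γ c) * d * (c⁻¹ * γ c)⁻¹) * (c⁻¹ * γ c) := by group
      _ = d * (c⁻¹ * γ c) := by rw [this]
  obtain ⟨n, hn, hdn⟩ := exists_pow_lt hd (hCd _ hz2)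
  have hγc : γ c = c * d ^ n := by
    rw [hdn]
    group
  have h6 : (a ^ k * (c * d ^ n)) ^ 6 = 1 := by
    have := congrArg γ hr1
    rw [map_pow, map_mul, map_one, hγa, hγc] at this
    exact this
  have h5 : (a ^ k * (c * d ^ n) ^ 2) ^ 5 = 1 := by
    have := congrArg γ hr2
    rw [map_pow, map_mul, map_pow, map_one, hγa, hγc] at this
    exact this
  obtain ⟨rfl, rfl⟩ := hpin k hk n hn h6 h5
  rw [pow_one] at hγa
  rw [pow_zero, mul_one] at hγc
  have hαγ : ∀ x, α x = (g₀ * g₁) * γ x * (g₀ * g₁)⁻¹ := by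
    intro x
    rw [hγx, hβx]
    group
  refine ⟨g₀ * g₁, ?_, ?_, ?_⟩
  · rw [hαγ, hγa]
  · rw [hαγ, hγd]
  · rw [hαγ, hγc]

/-- A fourth element inverting `d`, pinned down by a relation with `a`. -/
theorem normalize4
    (hcard : Nat.card G = 23 * s) (hs : ¬ 23 ∣ s)
    (ha : a ^ 23 = 1) (ha1 : a ≠ 1) (hda : d * a * d⁻¹ = a ^ 2)
    (hCa : ∀ g : G, g * a = a * g → g ∈ Subgroup.zpowers a)
    (hCd : ∀ g : G, g * d = d * g → g ∈ Subgroup.zpowers d)
    (hd : d ^ 11 = 1) (hcd : c * d * c⁻¹ = d ^ 3)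
    (hr1 : (a * c) ^ 6 = 1) (hr2 : (a * c ^ 2) ^ 5 = 1)
    (hpin : ∀ k ∈ ([1, 22] : List ℕ), ∀ i < 11, (a ^ k * (c * d ^ i)) ^ 6 = 1 →
      (a ^ k * (c * d ^ i) ^ 2) ^ 5 = 1 → k = 1 ∧ i = 0)
    (b : G) (hbd : b * d * b⁻¹ = d⁻¹) (hr3 : (a * b) ^ 3 = 1)
    (hpin2 : ∀ i < 11, (a * (b * d ^ i)) ^ 3 = 1 → i = 0)
    (α : MulAut G) : ∃ g : G, α a = g * a * g⁻¹ ∧ α d = g * d * g⁻¹ ∧ α c = g * c * g⁻¹ ∧
      α b = g * b * g⁻¹ := by
  obtain ⟨g, hga, hgd, hgc⟩ :=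
    normalize3 a d c s hcard hs ha ha1 hda hCa hCd hd hcd hr1 hr2 hpin α
  let γ : MulAut G := (MulAut.conj g)⁻¹ * α
  have hγx : ∀ x, γ x = g⁻¹ * α x * g := fun x => by
    show (MulAut.conj g)⁻¹ (α x) = _
    rw [MulAut.conj_inv_apply]
  have hγa : γ a = a := by rw [hγx, hga]; group
  have hγd : γ d = d := by rw [hγx, hgd]; group
  have h3 : γ b * d * (γ b)⁻¹ = d⁻¹ := by
    have := congrArg γ hbd
    rw [map_mul, map_mul, map_inv, map_inv, hγd] at this
    exact this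
  have hbd' : b⁻¹ * d⁻¹ * b = d := by
    rw [← hbd]
    group
  have hz : (b⁻¹ * γ b) * d = d * (b⁻¹ * γ b) := by
    have : (b⁻¹ * γ b) * d * (b⁻¹ * γ b)⁻¹ = d := by
      calc (b⁻¹ * γ b) * d * (b⁻¹ * γ b)⁻¹ = b⁻¹ * (γ b * d * (γ b)⁻¹) * b := by group
        _ = d := by rw [h3, hbd']
    calc (b⁻¹ * γ b) * d = ((b⁻¹ * γ b) * d * (b⁻¹ * γ b)⁻¹) * (b⁻¹ * γ b) := by group
      _ = d * (b⁻¹ * γ b) := by rw [this]
  obtain ⟨n, hn, hdn⟩ := exists_pow_lt hd (hCd _ hz)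
  have hγb : γ b = b * d ^ n := by
    rw [hdn]
    group
  have h33 : (a * (b * d ^ n)) ^ 3 = 1 := by
    have := congrArg γ hr3
    rw [map_pow, map_mul, map_one, hγa, hγb] at this
    exact this
  have hn0 := hpin2 n hn h33
  subst hn0
  rw [pow_zero, mul_one] at hγb
  refine ⟨g, hga, hgd, hgc, ?_⟩
  have : α b = g * γ b * g⁻¹ := by
    rw [hγx]
    group
  rw [this, hγb]

end

/-- If every automorphism agrees with an inner one on a generating set, all automorphisms are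
inner. -/
theorem card_out_eq_one_of_gens {G : Type*} [Group G] (S : Set G)
    (hgen : Subgroup.closure S = ⊤)
    (h : ∀ α : MulAut G, ∃ g : G, ∀ x ∈ S, α x = g * x * g⁻¹) :
    Nat.card (Cfsg.Out G) = 1 := by
  have htop : Cfsg.Inn G = ⊤ := by
    rw [eq_top_iff]
    intro α _
    obtain ⟨g, hg⟩ := h α
    refine ⟨g, ?_⟩
    have h2 : (MulAut.conj g : G ≃* G).toMonoidHom = (α : G ≃* G).toMonoidHom := by
      apply MonoidHom.eq_of_eqOn_dense hgen
      intro x hx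
      show MulAut.conj g x = α x
      rw [hg x hx, MulAut.conj_apply]
    ext x
    exact DFunLike.congr_fun h2 x
  show (Cfsg.Inn G).index = 1
  rw [htop]
  exact Subgroup.index_top

end Cfsg.Agent.Lib.Helper93_OutAbs
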