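import Mathlib
import Cfsg.Agent.Lib.Helper93_OutAbs

/-!
Automorphisms of a finite group with a self-centralising Sylow subgroup `⟨a⟩` of order 11 normalised
by an element `d` of order 5 whose centraliser is `⟨d⟩ × ⟨e⟩` (of order 25), a further element `t`
of order 4 acting on this centraliser by `d ↦ d², e ↦ e⁴`, and an automorphism `ζ` fixing `a` and
`d` with `ζ t = t e²`, `ζ e = e⁴`: every automorphism agrees, on `a`, `d`, `t`, `e`, with an inner
automorphism or with an inner automorphism composed with `ζ`.  Criterion for an outer automorphism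
group of order two.
-/

set_option autoImplicit false
open Cfsg

namespace Cfsg.Agent.Lib.Helper93_OutMcLAbs

open Cfsg.Agent.Lib.Helper93_OutAbs

section alg

variable {G : Type*} [Group G] {t d e : G}

theorem de_mul (hed : e * d = d * e) (n m n' m' : ℕ) :
    (d ^ n * e ^ m) * (d ^ n' * e ^ m') = d ^ (n + n') * e ^ (m + m') := by
  have hc : Commute e d := hed
  have h1 : e ^ m * d ^ n' = d ^ n' * e ^ m := ((hc.pow_left m).pow_right n').eq
  calc (d ^ n * e ^ m) * (d ^ n' * e ^ m') = d ^ n * (e ^ m * d ^ n') * e ^ m' := by group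
    _ = d ^ n * (d ^ n' * e ^ m) * e ^ m' := by rw [h1]
    _ = (d ^ n * d ^ n') * (e ^ m * e ^ m') := by group
    _ = d ^ (n + n') * e ^ (m + m') := by rw [← pow_add, ← pow_add]

theorem conj_de (htd : t * d * t⁻¹ = d ^ 2) (hte : t * e * t⁻¹ = e ^ 4) (n m : ℕ) :
    t * (d ^ n * e ^ m) * t⁻¹ = d ^ (2 * n) * e ^ (4 * m) := by
  have : t * (d ^ n * e ^ m) * t⁻¹ = (t * d * t⁻¹) ^ n * (t * e * t⁻¹) ^ m := by
    rw [conj_pow, conj_pow]; group
  rw [this, htd, hte, ← pow_mul, ← pow_mul]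

theorem pow_mod5 {x : G} (hx : x ^ 5 = 1) (n : ℕ) : x ^ n = x ^ (n % 5) := by
  conv_lhs => rw [← Nat.div_add_mod n 5]
  rw [pow_add, pow_mul, hx, one_pow, one_mul]

/-- The square of `t (d^i e^j)`. -/
theorem sq_tde (hed : e * d = d * e) (htd : t * d * t⁻¹ = d ^ 2) (hte : t * e * t⁻¹ = e ^ 4)
    (hd5 : d ^ 5 = 1) (he5 : e ^ 5 = 1) (i j : ℕ) :
    (t * (d ^ i * e ^ j)) ^ 2 = d ^ i * t ^ 2 := by
  have h1 : t * (d ^ i * e ^ j) = (d ^ (2 * i) * e ^ (4 * j)) * t := by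
    have e0 : t * (d ^ i * e ^ j) = (t * (d ^ i * e ^ j) * t⁻¹) * t := by group
    rw [e0, conj_de htd hte]
  have h2 : t * (d ^ (2 * i) * e ^ (4 * j)) = (d ^ (2 * (2 * i)) * e ^ (4 * (4 * j))) * t := by
    have e0 : t * (d ^ (2 * i) * e ^ (4 * j)) = (t * (d ^ (2 * i) * e ^ (4 * j)) * t⁻¹) * t := by
      group
    rw [e0, conj_de htd hte]
  have h3 : d ^ (2 * i + 2 * (2 * i)) = d ^ i := by
    rw [pow_mod5 hd5 (2 * i + 2 * (2 * i)), pow_mod5 hd5 i]
    congr 1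
    omega
  have h4 : e ^ (4 * j + 4 * (4 * j)) = 1 := by
    rw [pow_mod5 he5]
    have : (4 * j + 4 * (4 * j)) % 5 = 0 := by omega
    rw [this, pow_zero]
  calc (t * (d ^ i * e ^ j)) ^ 2 = (t * (d ^ i * e ^ j)) * (t * (d ^ i * e ^ j)) := pow_two _
    _ = ((d ^ (2 * i) * e ^ (4 * j)) * t) * ((d ^ (2 * i) * e ^ (4 * j)) * t) := by rw [h1]
    _ = (d ^ (2 * i) * e ^ (4 * j)) * (t * (d ^ (2 * i) * e ^ (4 * j))) * t := by group
    _ = (d ^ (2 * i) * e ^ (4 * j)) * ((d ^ (2 * (2 * i)) * e ^ (4 * (4 * j))) * t) * t := by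
        rw [h2]
    _ = ((d ^ (2 * i) * e ^ (4 * j)) * (d ^ (2 * (2 * i)) * e ^ (4 * (4 * j)))) * (t * t) := by
        group
    _ = d ^ i * t ^ 2 := by rw [de_mul hed, h3, h4, mul_one, pow_two]

theorem eq_zero_of_pow {x : G} (hx5 : x ^ 5 = 1) (hx1 : x ≠ 1) {n : ℕ} (hn : n < 5)
    (h : x ^ (2 * n) = 1) : n = 0 := by
  have : Fact (Nat.Prime 5) := ⟨by norm_num⟩
  have ho : orderOf x = 5 := orderOf_eq_prime hx5 hx1
  have hdvd : 5 ∣ 2 * n := by
    rw [← ho]; exact orderOf_dvd_of_pow_eq_one h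
  omega

end alg

section main

variable {G : Type*} [Group G] [Finite G] (a d t e : G) (s : ℕ)

/-- Every automorphism agrees on `a`, `d`, `t`, `e` with an inner automorphism, possibly composed
with `ζ`. -/
theorem normalize_mcl
    (hcard : Nat.card G = 11 * s) (hs : ¬ 11 ∣ s)
    (ha : a ^ 11 = 1) (ha1 : a ≠ 1) (hda : d * a * d⁻¹ = a ^ 3)
    (hCa : ∀ g : G, g * a = a * g → g ∈ Subgroup.zpowers a)
    (hd5 : d ^ 5 = 1) (hd1 : d ≠ 1) (he5 : e ^ 5 = 1) (hed : e * d = d * e)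
    (htd : t * d * t⁻¹ = d ^ 2) (hte : t * e * t⁻¹ = e ^ 4)
    (hCd : ∀ g : G, g * d = d * g → ∃ i < 5, ∃ j < 5, g = d ^ i * e ^ j)
    (hr1 : (a * t ^ 2) ^ 5 = 1) (hr2 : (a ^ 2 * t ^ 2) ^ 6 = 1)
    (hr3 : (a * e) ^ 7 = 1) (hr4 : (a * t) ^ 6 = 1) (hr5 : (a ^ 2 * t) ^ 5 = 1)
    (hr6 : (a * t * e) ^ 6 = 1)
    (hP1 : ∀ k ∈ ([1, 10] : List ℕ), ∀ i < 5, (a ^ k * (d ^ i * t ^ 2)) ^ 5 = 1 →
      ((a ^ k) ^ 2 * (d ^ i * t ^ 2)) ^ 6 = 1 → i = 0)
    (hPin : ∀ k ∈ ([1, 10] : List ℕ), ∀ j < 5, ∀ j' < 5, (a ^ k * e ^ j') ^ 7 = 1 →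
      (a ^ k * (t * e ^ j)) ^ 6 = 1 → ((a ^ k) ^ 2 * (t * e ^ j)) ^ 5 = 1 →
      (a ^ k * (t * e ^ j) * e ^ j') ^ 6 = 1 →
      k = 1 ∧ ((j = 0 ∧ j' = 1) ∨ (j = 2 ∧ j' = 4)))
    (ζ : MulAut G) (hζa : ζ a = a) (hζd : ζ d = d) (hζt : ζ t = t * e ^ 2) (hζe : ζ e = e ^ 4)
    (α : MulAut G) :
    ∃ g : G, (α a = g * a * g⁻¹ ∧ α d = g * d * g⁻¹ ∧ α t = g * t * g⁻¹ ∧ α e = g * e * g⁻¹) ∨
      (α a = g * ζ a * g⁻¹ ∧ α d = g * ζ d * g⁻¹ ∧ α t = g * ζ t * g⁻¹ ∧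
        α e = g * ζ e * g⁻¹) := by
  have : Fact (Nat.Prime 11) := ⟨by norm_num⟩
  have hcover : ∀ j < 11, j ≠ 0 → ∃ k ∈ ([1, 10] : List ℕ), ∃ m, j % 11 = (k * 3 ^ m) % 11 := by
    have h : ∀ j < 11, j ≠ 0 → ∃ k ∈ ([1, 10] : List ℕ), ∃ m < 5,
        j % 11 = (k * 3 ^ m) % 11 := by decide
    intro j hj hj0
    obtain ⟨k, hk, m, _, hm⟩ := h j hj hj0
    exact ⟨k, hk, m, hm⟩
  have hαa : (α a) ^ 11 = 1 := by rw [← map_pow, ha, map_one]
  have hαa1 : α a ≠ 1 := fun h => ha1 (α.injective (h.trans (map_one α).symm))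
  obtain ⟨g₀, k, hk, hg₀⟩ :=
    exists_conj_prime' 11 hcard hs ha ha1 hda [1, 10] hcover (α a) hαa hαa1
  let β : MulAut G := (MulAut.conj g₀)⁻¹ * α
  have hβx : ∀ x, β x = g₀⁻¹ * α x * g₀ := fun x => by
    show (MulAut.conj g₀)⁻¹ (α x) = _
    rw [MulAut.conj_inv_apply]
  have hβa : β a = a ^ k := by
    rw [hβx, ← hg₀]
    group
  have h1 : β d * β a * (β d)⁻¹ = (β a) ^ 3 := by
    rw [← map_inv, ← map_mul, ← map_mul, hda, map_pow]
  rw [hβa] at h1
  have h2 : β d * a * (β d)⁻¹ = a ^ 3 := by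
    have hk' : k = 1 ∨ k = 10 := by simpa using hk
    rcases hk' with rfl | rfl
    · simpa using h1
    · have ha10 : a ^ 10 = a⁻¹ := by
        apply eq_inv_of_mul_eq_one_left
        rw [← pow_succ, ha]
      rw [ha10] at h1
      have h3 := congrArg (·⁻¹) h1
      simp only [mul_inv_rev, inv_inv, inv_pow] at h3
      rw [← mul_assoc] at h3
      exact h3
  have hda' : d⁻¹ * a ^ 3 * d = a := by
    rw [← hda]
    group
  have hz : (d⁻¹ * β d) * a = a * (d⁻¹ * β d) := by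
    have : (d⁻¹ * β d) * a * (d⁻¹ * β d)⁻¹ = a := by
      calc (d⁻¹ * β d) * a * (d⁻¹ * β d)⁻¹ = d⁻¹ * (β d * a * (β d)⁻¹) * d := by group
        _ = a := by rw [h2, hda']
    calc (d⁻¹ * β d) * a = ((d⁻¹ * β d) * a * (d⁻¹ * β d)⁻¹) * (d⁻¹ * β d) := by group
      _ = a * (d⁻¹ * β d) := by rw [this]
  obtain ⟨i, hi⟩ := Subgroup.mem_zpowers_iff.1 (hCa _ hz)
  have hβd : β d = d * a ^ i := by
    rw [hi]
    group
  have hdai : ∀ m : ℤ, d * a ^ m * d⁻¹ = a ^ (3 * m) := by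
    intro m
    have : d * a ^ m * d⁻¹ = (d * a * d⁻¹) ^ m := by
      rw [conj_zpow]
    rw [this, hda, ← zpow_natCast, ← zpow_mul]
    rfl
  have ha11 : ∀ m : ℤ, a ^ (11 * m) = 1 := by
    intro m
    rw [zpow_mul, zpow_ofNat, ha, one_zpow]
  let g₁ : G := a ^ (-(18 * i))
  let γ : MulAut G := (MulAut.conj g₁)⁻¹ * β
  have hγx : ∀ x, γ x = g₁⁻¹ * β x * g₁ := fun x => by
    show (MulAut.conj g₁)⁻¹ (β x) = _
    rw [MulAut.conj_inv_apply]
  have hg₁ : g₁⁻¹ = a ^ (18 * i) := by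
    show (a ^ (-(18 * i)))⁻¹ = _
    rw [zpow_neg, inv_inv]
  have hγa : γ a = a ^ k := by
    rw [hγx, hβa, hg₁]
    show a ^ (18 * i) * a ^ k * a ^ (-(18 * i)) = a ^ k
    rw [← zpow_natCast a k, ← zpow_add, ← zpow_add]
    congr 1
    ring
  have hγd : γ d = d := by
    rw [hγx, hβd, hg₁]
    show a ^ (18 * i) * (d * a ^ i) * a ^ (-(18 * i)) = d
    have e1 : a ^ (18 * i) * d = d * a ^ (6 * i) := by
      have := hdai (6 * i)
      have e : (3 : ℤ) * (6 * i) = 18 * i := by ring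
      rw [e] at this
      rw [← this]
      group
    have e2 : 6 * i + (i + -(18 * i)) = 11 * (-i) := by ring
    calc a ^ (18 * i) * (d * a ^ i) * a ^ (-(18 * i))
        = (a ^ (18 * i) * d) * (a ^ i * a ^ (-(18 * i))) := by simp only [mul_assoc]
      _ = d * (a ^ (6 * i) * (a ^ i * a ^ (-(18 * i)))) := by rw [e1, mul_assoc]
      _ = d := by rw [← zpow_add, ← zpow_add, e2, ha11, mul_one]
  -- the image of `t`
  have h3 : γ t * d * (γ t)⁻¹ = d ^ 2 := by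
    have := congrArg γ htd
    rw [map_mul, map_mul, map_inv, map_pow, hγd] at this
    exact this
  have htd' : t⁻¹ * d ^ 2 * t = d := by
    rw [← htd]
    group
  have hz2 : (t⁻¹ * γ t) * d = d * (t⁻¹ * γ t) := by
    have : (t⁻¹ * γ t) * d * (t⁻¹ * γ t)⁻¹ = d := by
      calc (t⁻¹ * γ t) * d * (t⁻¹ * γ t)⁻¹ = t⁻¹ * (γ t * d * (γ t)⁻¹) * t := by group
        _ = d := by rw [h3, htd']
    calc (t⁻¹ * γ t) * d = ((t⁻¹ * γ t) * d * (t⁻¹ * γ t)⁻¹) * (t⁻¹ * γ t) := by group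
      _ = d * (t⁻¹ * γ t) := by rw [this]
  obtain ⟨i₁, hi₁, j₁, hj₁, hy⟩ := hCd _ hz2
  have hγt : γ t = t * (d ^ i₁ * e ^ j₁) := by
    rw [← hy]
    group
  -- the image of `e`
  have hz3 : γ e * d = d * γ e := by
    have := congrArg γ hed
    rw [map_mul, map_mul, hγd] at this
    exact this
  obtain ⟨i₂, hi₂, j₂, hj₂, hγe⟩ := hCd _ hz3
  have hi₂0 : i₂ = 0 := by
    have h4 : γ t * γ e * (γ t)⁻¹ = (γ e) ^ 4 := by
      have := congrArg γ hte
      rw [map_mul, map_mul, map_inv, map_pow] at this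
      exact this
    rw [hγt, hγe] at h4
    have hcomm : (d ^ i₁ * e ^ j₁) * (d ^ i₂ * e ^ j₂) = (d ^ i₂ * e ^ j₂) * (d ^ i₁ * e ^ j₁) := by
      rw [de_mul hed, de_mul hed, add_comm i₁ i₂, add_comm j₁ j₂]
    have h5 : t * (d ^ i₁ * e ^ j₁) * (d ^ i₂ * e ^ j₂) * (t * (d ^ i₁ * e ^ j₁))⁻¹ =
        t * (d ^ i₂ * e ^ j₂) * t⁻¹ := by
      calc t * (d ^ i₁ * e ^ j₁) * (d ^ i₂ * e ^ j₂) * (t * (d ^ i₁ * e ^ j₁))⁻¹
          = t * ((d ^ i₁ * e ^ j₁) * (d ^ i₂ * e ^ j₂)) * (d ^ i₁ * e ^ j₁)⁻¹ * t⁻¹ := by group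
        _ = t * ((d ^ i₂ * e ^ j₂) * (d ^ i₁ * e ^ j₁)) * (d ^ i₁ * e ^ j₁)⁻¹ * t⁻¹ := by
            rw [hcomm]
        _ = t * (d ^ i₂ * e ^ j₂) * t⁻¹ := by group
    rw [h5, conj_de htd hte] at h4
    have h6 : (d ^ i₂ * e ^ j₂) ^ 4 = d ^ (4 * i₂) * e ^ (4 * j₂) := by
      have hc : Commute (d ^ i₂) (e ^ j₂) := by
        have hc0 : Commute d e := (show Commute e d from hed).symm
        exact (hc0.pow_left i₂).pow_right j₂
      rw [hc.mul_pow, ← pow_mul, ← pow_mul, mul_comm i₂ 4, mul_comm j₂ 4]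
    rw [h6] at h4
    have h7 : d ^ (2 * i₂) = d ^ (4 * i₂) := mul_right_cancel h4
    have h8 : d ^ (2 * i₂) = 1 := by
      have e4 : d ^ (4 * i₂) = d ^ (2 * i₂) * d ^ (2 * i₂) := by
        rw [← pow_add]; congr 1; ring
      rw [e4] at h7
      exact (mul_eq_left.mp h7.symm)
    exact eq_zero_of_pow hd5 hd1 hi₂ h8
  subst hi₂0
  rw [pow_zero, one_mul] at hγe
  -- the square of the image of `t`
  have hsq : (γ t) ^ 2 = d ^ i₁ * t ^ 2 := by
    rw [hγt]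
    exact sq_tde hed htd hte hd5 he5 i₁ j₁
  have hi₁0 : i₁ = 0 := by
    apply hP1 k hk i₁ hi₁
    · have := congrArg γ hr1
      rw [map_pow, map_mul, map_pow, map_one, hγa, hsq] at this
      exact this
    · have := congrArg γ hr2
      rw [map_pow, map_mul, map_pow, map_pow, map_one, hγa, hsq] at this
      exact this
  subst hi₁0
  rw [pow_zero, one_mul] at hγt
  -- the relations pinning the remaining parameters
  have q3 : (a ^ k * e ^ j₂) ^ 7 = 1 := by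
    have := congrArg γ hr3
    rw [map_pow, map_mul, map_one, hγa, hγe] at this
    exact this
  have q4 : (a ^ k * (t * e ^ j₁)) ^ 6 = 1 := by
    have := congrArg γ hr4
    rw [map_pow, map_mul, map_one, hγa, hγt] at this
    exact this
  have q5 : ((a ^ k) ^ 2 * (t * e ^ j₁)) ^ 5 = 1 := by
    have := congrArg γ hr5
    rw [map_pow, map_mul, map_pow, map_one, hγa, hγt] at this
    exact this
  have q6 : (a ^ k * (t * e ^ j₁) * e ^ j₂) ^ 6 = 1 := by
    have := congrArg γ hr6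
    rw [map_pow, map_mul, map_mul, map_one, hγa, hγt, hγe] at this
    exact this
  obtain ⟨rfl, hjj⟩ := hPin k hk j₁ hj₁ j₂ hj₂ q3 q4 q5 q6
  rw [pow_one] at hγa
  have hαγ : ∀ x, α x = (g₀ * g₁) * γ x * (g₀ * g₁)⁻¹ := by
    intro x
    rw [hγx, hβx]
    group
  refine ⟨g₀ * g₁, ?_⟩
  rcases hjj with ⟨rfl, rfl⟩ | ⟨rfl, rfl⟩
  · left
    rw [pow_zero, mul_one] at hγt
    rw [pow_one] at hγe
    refine ⟨?_, ?_, ?_, ?_⟩
    · rw [hαγ, hγa]
    · rw [hαγ, hγd]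
    · rw [hαγ, hγt]
    · rw [hαγ, hγe]
  · right
    refine ⟨?_, ?_, ?_, ?_⟩
    · rw [hαγ, hγa, hζa]
    · rw [hαγ, hγd, hζd]
    · rw [hαγ, hγt, hζt]
    · rw [hαγ, hγe, hζe]

end main

/-- If every automorphism agrees on a generating set with an inner automorphism or with an inner
automorphism composed with a fixed non-inner automorphism `ζ`, the outer automorphism group has
order two. -/
theorem card_out_eq_two_of_gens {G : Type*} [Group G] (S : Set G)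
    (hgen : Subgroup.closure S = ⊤) (ζ : MulAut G) (hζ : ζ ∉ Cfsg.Inn G)
    (h : ∀ α : MulAut G, ∃ g : G, (∀ x ∈ S, α x = g * x * g⁻¹) ∨
      (∀ x ∈ S, α x = g * ζ x * g⁻¹)) :
    Nat.card (Cfsg.Out G) = 2 := by
  have key : ∀ α : MulAut G, α ∈ Cfsg.Inn G ∨ α * ζ⁻¹ ∈ Cfsg.Inn G := by
    intro α
    obtain ⟨g, hg | hg⟩ := h α
    · left
      refine ⟨g, ?_⟩
      have h2 : (MulAut.conj g : G ≃* G).toMonoidHom = (α : G ≃* G).toMonoidHom := by
        apply MonoidHom.eq_of_eqOn_dense hgen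
        intro x hx
        show MulAut.conj g x = α x
        rw [hg x hx, MulAut.conj_apply]
      ext x
      exact DFunLike.congr_fun h2 x
    · right
      refine ⟨g, ?_⟩
      have h2 : ((MulAut.conj g * ζ : MulAut G) : G ≃* G).toMonoidHom =
          (α : G ≃* G).toMonoidHom := by
        apply MonoidHom.eq_of_eqOn_dense hgen
        intro x hx
        show MulAut.conj g (ζ x) = α x
        rw [hg x hx, MulAut.conj_apply]
      have h3 : MulAut.conj g * ζ = α := by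
        ext x
        exact DFunLike.congr_fun h2 x
      rw [← h3]
      group
  show (Cfsg.Inn G).index = 2
  have hne : (Cfsg.Inn G).index ≠ 1 := by
    intro h1
    rw [Subgroup.index_eq_one] at h1
    apply hζ
    rw [h1]
    exact Subgroup.mem_top _
  -- the two cosets
  have hcov : ∀ q : MulAut G ⧸ Cfsg.Inn G, q = (1 : MulAut G) ∨ q = (ζ : MulAut G) := by
    intro q
    induction q using QuotientGroup.induction_on with
    | H α =>
      rcases key α with h1 | h1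
      · left
        exact (QuotientGroup.eq_one_iff α).mpr h1
      · right
        rw [QuotientGroup.eq]
        have h2 : (ζ⁻¹ * (α * ζ⁻¹)⁻¹ * (ζ⁻¹)⁻¹) ∈ Cfsg.Inn G :=
          (Cfsg.innNormal G).conj_mem _ ((Cfsg.Inn G).inv_mem h1) ζ⁻¹
        have h3 : α⁻¹ * ζ = ζ⁻¹ * (α * ζ⁻¹)⁻¹ * (ζ⁻¹)⁻¹ := by group
        rw [h3]
        exact h2
  have hfin : Finite (MulAut G ⧸ Cfsg.Inn G) := by
    apply Finite.of_surjective (fun b : Bool => if b then ((1 : MulAut G) : MulAut G ⧸ Cfsg.Inn G)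
      else ((ζ : MulAut G) : MulAut G ⧸ Cfsg.Inn G))
    intro q
    rcases hcov q with rfl | rfl
    · exact ⟨true, rfl⟩
    · exact ⟨false, rfl⟩
  have hle : Nat.card (MulAut G ⧸ Cfsg.Inn G) ≤ 2 := by
    have := Nat.card_le_card_of_surjective (fun b : Bool => if b then
      ((1 : MulAut G) : MulAut G ⧸ Cfsg.Inn G) else ((ζ : MulAut G) : MulAut G ⧸ Cfsg.Inn G))
      (by
        intro q
        rcases hcov q with rfl | rfl
        · exact ⟨true, rfl⟩
        · exact ⟨false, rfl⟩)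
    simpa using this
  have hpos : 0 < Nat.card (MulAut G ⧸ Cfsg.Inn G) := Nat.card_pos
  have hidx : (Cfsg.Inn G).index = Nat.card (MulAut G ⧸ Cfsg.Inn G) := rfl
  rw [hidx] at hne ⊢
  omega

/-- The automorphism `ζ` is not inner. -/
theorem zeta_not_inner {G : Type*} [Group G] (a d e : G)
    (ha : a ^ 11 = 1) (hda : d * a * d⁻¹ = a ^ 3)
    (hCa : ∀ g : G, g * a = a * g → g ∈ Subgroup.zpowers a)
    (he5 : e ^ 5 = 1) (he1 : e ≠ 1)
    (ζ : MulAut G) (hζa : ζ a = a) (hζd : ζ d = d) (hζe : ζ e = e ^ 4) :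
    ζ ∉ Cfsg.Inn G := by
  rintro ⟨g, hg⟩
  have hga : g * a * g⁻¹ = a := by
    rw [← MulAut.conj_apply, hg, hζa]
  have hgd : g * d * g⁻¹ = d := by
    rw [← MulAut.conj_apply, hg, hζd]
  have hge : g * e * g⁻¹ = e ^ 4 := by
    rw [← MulAut.conj_apply, hg, hζe]
  have hca : g * a = a * g := by
    calc g * a = (g * a * g⁻¹) * g := by group
      _ = a * g := by rw [hga]
  obtain ⟨n, hn⟩ := Subgroup.mem_zpowers_iff.1 (hCa g hca)
  have h3 : d * g * d⁻¹ = g ^ 3 := by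
    have h0 : d * a ^ n * d⁻¹ = (d * a * d⁻¹) ^ n := by
      have := map_zpow (MulAut.conj d) a n
      simpa only [MulAut.conj_apply] using this
    rw [← hn, h0, hda, ← zpow_natCast, ← zpow_natCast, ← zpow_mul, ← zpow_mul, mul_comm]
  have hcd : g * d = d * g := by
    calc g * d = (g * d * g⁻¹) * g := by group
      _ = d * g := by rw [hgd]
  have h3' : d * g * d⁻¹ = g := by
    rw [← hcd]; group
  have h2 : g ^ 2 = 1 := by
    have h4 : g ^ 3 = g := by rw [← h3, h3']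
    have h5 : g ^ 2 * g = 1 * g := by rw [← pow_succ, h4, one_mul]
    exact mul_right_cancel h5
  have h11 : g ^ 11 = 1 := by
    rw [← hn, ← zpow_natCast, ← zpow_mul, mul_comm, zpow_mul, zpow_natCast, ha, one_zpow]
  have hg1 : g = 1 := by
    have h10 : g ^ 10 = 1 := by
      rw [show 10 = 2 * 5 from rfl, pow_mul, h2, one_pow]
    have : g ^ 11 = g ^ 10 * g := pow_succ g 10
    rw [h11, h10, one_mul] at this
    exact this.symm
  rw [hg1, one_mul, inv_one, mul_one] at hge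
  have h3e : e ^ 3 = 1 := by
    have h5 : e ^ 3 * e = 1 * e := by rw [← pow_succ, ← hge, one_mul]
    exact mul_right_cancel h5
  apply he1
  have h6 : e ^ 6 = 1 := by rw [show 6 = 3 * 2 from rfl, pow_mul, h3e, one_pow]
  have : e ^ 6 = e ^ 5 * e := pow_succ e 5
  rw [h6, he5, one_mul] at this
  exact this.symm

/-- The order of the outer automorphism group is an isomorphism invariant. -/
theorem card_out_congr' {G G' : Type*} [Group G] [Group G'] (e : G ≃* G') :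
    Nat.card (Cfsg.Out G) = Nat.card (Cfsg.Out G') := by
  show (Cfsg.Inn G).index = (Cfsg.Inn G').index
  have hmap : (Cfsg.Inn G).map ((MulAut.congr e : MulAut G ≃* MulAut G') : MulAut G →* MulAut G')
      = Cfsg.Inn G' := by
    ext φ
    constructor
    · rintro ⟨ψ, ⟨c, rfl⟩, rfl⟩
      refine ⟨e c, ?_⟩
      ext y
      simp [MulAut.congr, MulAut.conj_apply]
    · rintro ⟨c, rfl⟩
      refine ⟨MulAut.conj (e.symm c), ⟨e.symm c, rfl⟩, ?_⟩
      ext y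
      simp [MulAut.congr, MulAut.conj_apply]
  rw [← hmap, Subgroup.index_map_equiv]

end Cfsg.Agent.Lib.Helper93_OutMcLAbs
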