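import Cfsg.Agent.Lib.Helper93_McLGen
import Cfsg.Agent.Lib.Helper93_McLPin
import Cfsg.Agent.Lib.Helper93_OutMcLAbs

/-!
The outer automorphism group of the common stabiliser `Gs` of `(-5, -1^23)` and `(4, 4, 0^22)` in
the automorphism group of the rank-24 lattice has order two.

`Gs` has order `11 · 81648000`, and is generated by the coordinate permutations `a : x ↦ 2 x` (of
order `11`), `d` (the cube twist, of order `5`, normalising `⟨a⟩`), `t` (of order `4`) and an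
element `e` of order `5` commuting with `d` (`Helper93_McLGen`).  The centraliser of `a` is `⟨a⟩`
(`Helper92_Co3Cent`), that of `d` is `⟨d⟩ × ⟨e⟩` (`Helper93_McLCent`).  Conjugation by the
involution `z` of `Helper92_ZElt` is an automorphism `ζ` of `Gs` fixing `a`, `d` with
`ζ t = t e²`, `ζ e = e⁴`; it is not inner.  Sylow's theorem and relations pin down the images of
the four generators under an automorphism up to an inner automorphism and `ζ`
(`Helper93_OutMcLAbs.normalize_mcl`, `Helper93_McLPin`).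
-/

set_option autoImplicit false
set_option linter.constructorNameAsVariable false
open Cfsg
open scoped Pointwise

namespace Cfsg.Agent.Lib.Helper93_McLMain

open Cfsg.Agent.Lib.Helper7_M24 Cfsg.Agent.Lib.Helper7_Leech Cfsg.Agent.Lib.Helper92_Monomial
  Cfsg.Agent.Lib.Helper7_Mono Cfsg.Agent.Lib.Helper93_McLElt
  Cfsg.Agent.Lib.Helper92_ZElt Cfsg.Agent.Lib.Helper93_McLPerm Cfsg.Agent.Lib.Helper92_Co3Cent
  Cfsg.Agent.Lib.Helper93_OutM24 Cfsg.Agent.Lib.Helper93_M24Obj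
  Cfsg.Agent.Lib.Helper93_McLData Cfsg.Agent.Lib.Helper93_McLCent
  Cfsg.Agent.Lib.Helper93_McLGen Cfsg.Agent.Lib.Helper93_McLPin
  Cfsg.Agent.Lib.Helper93_OutMcLAbs Cfsg.Agent.Lib.Helper92_Co3
open Cfsg.Agent.S5546 (Lam vec8 e8)
open Cfsg.Spor (vecV vecU vecU' leechU leechU' leechV)
open MulAction

instance finiteGs : Finite ↥Gs := inferInstance

/-- The four generators. -/
noncomputable def aM : ↥Gs := ⟨PD, PD_mem_Gs⟩
noncomputable def dM : ↥Gs := ⟨PC, PC_mem_Gs⟩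
noncomputable def tM : ↥Gs := ⟨PT, PT_mem_Gs⟩
noncomputable def eM : ↥Gs := ⟨eE, eE_mem_Gs⟩

/-! ### the outer automorphism -/

theorem zE_conj_mem (g : ↥Co0) (hg : g ∈ Gs) : zE * g * zE ∈ Gs := by
  obtain ⟨h1, h2⟩ := hg
  have h1' : g • UL = UL := h1
  have h2' : g • M3 = M3 := h2
  refine ⟨?_, ?_⟩
  · show (zE * g * zE) • UL = UL
    rw [mul_smul', mul_smul', zE_UL, h2', zE_M3]
  · show (zE * g * zE) • M3 = M3
    rw [mul_smul', mul_smul', zE_M3, h1', zE_UL]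

theorem zE_conj_conj (g : ↥Co0) : zE * (zE * g * zE) * zE = g := by
  calc zE * (zE * g * zE) * zE = (zE * zE) * g * (zE * zE) := by group
    _ = g := by rw [zE_sq, one_mul, mul_one]

/-- Conjugation by the involution `z`. -/
noncomputable def zM : MulAut ↥Gs where
  toFun g := ⟨zE * g.1 * zE, zE_conj_mem g.1 g.2⟩
  invFun g := ⟨zE * g.1 * zE, zE_conj_mem g.1 g.2⟩
  left_inv g := Subtype.ext (zE_conj_conj g.1)
  right_inv g := Subtype.ext (zE_conj_conj g.1)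
  map_mul' g h := by
    apply Subtype.ext
    show zE * (g.1 * h.1) * zE = (zE * g.1 * zE) * (zE * h.1 * zE)
    calc zE * (g.1 * h.1) * zE = zE * g.1 * 1 * h.1 * zE := by group
      _ = zE * g.1 * (zE * zE) * h.1 * zE := by rw [zE_sq]
      _ = (zE * g.1 * zE) * (zE * h.1 * zE) := by group

theorem zM_apply (g : ↥Gs) : ((zM g : ↥Gs) : ↥Co0) = zE * g.1 * zE := rfl

theorem zM_a : zM aM = aM := by
  apply Subtype.ext
  show zE * PD * zE = PD
  rw [zE_PD, mul_assoc, zE_sq, mul_one]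

theorem zM_d : zM dM = dM := by
  apply Subtype.ext
  show zE * PC * zE = PC
  rw [zE_PC, mul_assoc, zE_sq, mul_one]

theorem zM_t : zM tM = tM * eM ^ 2 := by
  apply Subtype.ext
  show zE * PT * zE = PT * eE ^ 2
  rw [zE_PT, mul_assoc, zE_sq, mul_one, eE_two]

theorem zM_e : zM eM = eM ^ 4 := by
  apply Subtype.ext
  show zE * eE * zE = eE ^ 4
  rw [zE_eE, mul_assoc, zE_sq, mul_one, eE_four]

/-! ### the hypotheses -/

theorem aM_pow : aM ^ 11 = 1 := Subtype.ext PD_pow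
theorem aM_ne : aM ≠ 1 := fun h => PD_ne (congrArg Subtype.val h)
theorem dM_pow : dM ^ 5 = 1 := Subtype.ext PC_pow5
theorem dM_ne : dM ≠ 1 := fun h => PC_ne (congrArg Subtype.val h)
theorem eM_pow : eM ^ 5 = 1 := Subtype.ext eE_five
theorem eM_ne : eM ≠ 1 := fun h => eE_ne_one (congrArg Subtype.val h)
theorem relM_da : dM * aM * dM⁻¹ = aM ^ 3 := Subtype.ext rel_DA
theorem relM_ed : eM * dM = dM * eM := Subtype.ext eE_PC
theorem relM_td : tM * dM * tM⁻¹ = dM ^ 2 := Subtype.ext rel_TD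
theorem relM_te : tM * eM * tM⁻¹ = eM ^ 4 := Subtype.ext rel_TE
theorem relM_1 : (aM * tM ^ 2) ^ 5 = 1 := Subtype.ext rel1
theorem relM_2 : (aM ^ 2 * tM ^ 2) ^ 6 = 1 := Subtype.ext rel2
theorem relM_3 : (aM * eM) ^ 7 = 1 := Subtype.ext rel3
theorem relM_4 : (aM * tM) ^ 6 = 1 := Subtype.ext rel4
theorem relM_5 : (aM ^ 2 * tM) ^ 5 = 1 := Subtype.ext rel5
theorem relM_6 : (aM * tM * eM) ^ 6 = 1 := Subtype.ext rel6

theorem hypM_Ca (g : ↥Gs) (h : g * aM = aM * g) : g ∈ Subgroup.zpowers aM := by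
  apply mem_zpowers_of
  obtain ⟨hV, hU⟩ := (mem_Gs_iff g.1).mp g.2
  exact cent_PD_aux g.1 hV (congrArg Subtype.val h) hU

theorem hypM_Cd (g : ↥Gs) (h : g * dM = dM * g) : ∃ i < 5, ∃ j < 5, g = dM ^ i * eM ^ j := by
  obtain ⟨hV, hU⟩ := (mem_Gs_iff g.1).mp g.2
  obtain ⟨i, hi, j, hj, hg⟩ := cent_PC g.1 hV hU (congrArg Subtype.val h)
  exact ⟨i, hi, j, hj, Subtype.ext hg⟩

theorem hypM_P1 (k : ℕ) (hk : k ∈ ([1, 10] : List ℕ)) (i : ℕ) (hi : i < 5)
    (h5 : (aM ^ k * (dM ^ i * tM ^ 2)) ^ 5 = 1)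
    (h6 : ((aM ^ k) ^ 2 * (dM ^ i * tM ^ 2)) ^ 6 = 1) : i = 0 :=
  pin1 k hk i hi (congrArg Subtype.val h5) (congrArg Subtype.val h6)

theorem hypM_Pin (k : ℕ) (hk : k ∈ ([1, 10] : List ℕ)) (j : ℕ) (hj : j < 5) (j' : ℕ)
    (hj' : j' < 5) (h7 : (aM ^ k * eM ^ j') ^ 7 = 1) (h6 : (aM ^ k * (tM * eM ^ j)) ^ 6 = 1)
    (h5 : ((aM ^ k) ^ 2 * (tM * eM ^ j)) ^ 5 = 1)
    (h6' : (aM ^ k * (tM * eM ^ j) * eM ^ j') ^ 6 = 1) :
    k = 1 ∧ ((j = 0 ∧ j' = 1) ∨ (j = 2 ∧ j' = 4)) :=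
  pin2 k hk j hj j' hj' (congrArg Subtype.val h7) (congrArg Subtype.val h6)
    (congrArg Subtype.val h5) (congrArg Subtype.val h6')

theorem genM : Subgroup.closure ({aM, dM, tM, eM} : Set ↥Gs) = ⊤ := by
  apply closure_eq_top_of
  intro g hg
  have h1 : g ∈ KM := Gs_le_KM g hg
  have h2 : KM ≤ Subgroup.closure (Subtype.val '' ({aM, dM, tM, eM} : Set ↥Gs)) := by
    unfold KM
    rw [Subgroup.closure_le]
    intro x hx
    apply Subgroup.subset_closure
    rcases hx with rfl | rfl | rfl | rfl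
    · exact ⟨aM, by simp, rfl⟩
    · exact ⟨dM, by simp, rfl⟩
    · exact ⟨tM, by simp, rfl⟩
    · exact ⟨eM, by simp, rfl⟩
  exact h2 h1

theorem zM_not_inner : zM ∉ Cfsg.Inn ↥Gs :=
  zeta_not_inner aM dM eM aM_pow relM_da hypM_Ca eM_pow eM_ne zM zM_a zM_d zM_e

/-- The outer automorphism group of `Gs` has order two. -/
theorem out_Gs : Nat.card (Cfsg.Out ↥Gs) = 2 := by
  apply card_out_eq_two_of_gens ({aM, dM, tM, eM} : Set ↥Gs) genM zM zM_not_inner
  intro α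
  obtain ⟨g, ⟨h1, h2, h3, h4⟩ | ⟨h1, h2, h3, h4⟩⟩ := normalize_mcl aM dM tM eM 81648000 card_Gs
    (by norm_num) aM_pow aM_ne relM_da hypM_Ca dM_pow dM_ne eM_pow relM_ed relM_td relM_te hypM_Cd
    relM_1 relM_2 relM_3 relM_4 relM_5 relM_6 hypM_P1 hypM_Pin zM zM_a zM_d zM_t zM_e α
  · refine ⟨g, Or.inl ?_⟩
    intro x hx
    rcases hx with rfl | rfl | rfl | rfl
    · exact h1
    · exact h2
    · exact h3
    · exact h4
  · refine ⟨g, Or.inr ?_⟩
    intro x hx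
    rcases hx with rfl | rfl | rfl | rfl
    · exact h1
    · exact h2
    · exact h3
    · exact h4

/-- The group `Gs`, and the intersection of stabilisers in the group of all permutations of the
lattice. -/
def isoMcL : ↥Gs ≃* ↥Cfsg.Spor.McL where
  toFun g := ⟨g.1.1, ⟨g.1.2, ((mem_Gs_iff g.1).mp g.2).1⟩, ((mem_Gs_iff g.1).mp g.2).2⟩
  invFun g := ⟨⟨g.1, g.2.1.1⟩, (mem_Gs_iff _).mpr ⟨g.2.1.2, g.2.2⟩⟩
  left_inv _ := rfl
  right_inv _ := rfl
  map_mul' _ _ := rfl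

theorem out_McL : Nat.card (Cfsg.Out ↥Cfsg.Spor.McL) = 2 := by
  rw [← card_out_congr' isoMcL]
  exact out_Gs

end Cfsg.Agent.Lib.Helper93_McLMain
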