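import Mathlib

/-!
An abstract criterion for simplicity: a finite group with a maximal subgroup that is simple and
not normal is simple as soon as no normal subgroup whose order is the index of that subgroup can
occur.  The order condition is settled for the indices `100` and `2025`, and the hypotheses are
derived from data on a transitive action.
-/

set_option autoImplicit false
open scoped Pointwise

namespace Cfsg.Agent.Lib.Helper92_RankSimple

/-! ### the group-theoretic core -/

theorem card_eq_index_of_compl {G : Type*} [Group G] [Finite G] (N H : Subgroup G) [N.Normal]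
    (hd : N ⊓ H = ⊥) (hs : N ⊔ H = ⊤) : Nat.card N = H.index := by
  have hc : Subgroup.IsComplement' N H := by
    apply Subgroup.isComplement'_of_disjoint_and_mul_eq_univ (disjoint_iff.mpr hd)
    rw [← Subgroup.normal_mul, hs]
    rfl
  exact hc.index_eq_card.symm

/-- Under the hypotheses on `H`, a proper nontrivial normal subgroup has order the index of `H`. -/
theorem card_normal_eq_index {G : Type*} [Group G] [Finite G] (H : Subgroup G)
    (hH : IsSimpleGroup ↥H)
    (hmax : ∀ K : Subgroup G, H ≤ K → K = H ∨ K = ⊤)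
    (hnn : ¬ H.Normal) (N : Subgroup G) (hN : N.Normal) (hb : N ≠ ⊥) (ht : N ≠ ⊤) :
    Nat.card N = H.index := by
  have hsub : (N.subgroupOf H).Normal := Subgroup.Normal.subgroupOf hN H
  rcases hH.eq_bot_or_eq_top_of_normal _ hsub with h | h
  · rw [Subgroup.subgroupOf_eq_bot] at h
    have hd : N ⊓ H = ⊥ := disjoint_iff.mp h
    have hs : N ⊔ H = ⊤ := by
      rcases hmax (N ⊔ H) le_sup_right with h1 | h1
      · exfalso
        apply hb
        have : N ≤ H := by
          rw [← h1]; exact le_sup_left
        rw [← hd]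
        exact (inf_eq_left.mpr this).symm
      · exact h1
    exact card_eq_index_of_compl N H hd hs
  · rw [Subgroup.subgroupOf_eq_top] at h
    rcases hmax N h with h1 | h1
    · exact absurd (h1 ▸ hN) hnn
    · exact absurd h1 ht

/-- The criterion. -/
theorem simple_of_max {G : Type*} [Group G] [Finite G] (H : Subgroup G)
    (hH : IsSimpleGroup ↥H)
    (hmax : ∀ K : Subgroup G, H ≤ K → K = H ∨ K = ⊤)
    (hnn : ¬ H.Normal)
    (hchar : ∀ N : Subgroup G, N.Normal → Nat.card N = H.index →
      ∃ C : Subgroup G, C.Normal ∧ C ≠ ⊥ ∧ C ≤ N ∧ Nat.card C ≠ H.index) :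
    IsSimpleGroup G := by
  have hnt : Nontrivial G := by
    obtain ⟨a, b, hab⟩ := hH.toNontrivial
    exact ⟨⟨a.1, b.1, fun h => hab (Subtype.ext h)⟩⟩
  refine { toNontrivial := hnt, eq_bot_or_eq_top_of_normal := ?_ }
  intro N hN
  by_contra hcon
  rw [not_or] at hcon
  obtain ⟨hb, ht⟩ := hcon
  have h1 := card_normal_eq_index H hH hmax hnn N hN hb ht
  obtain ⟨C, hCn, hCb, hCN, hCc⟩ := hchar N hN h1
  have hCt : C ≠ ⊤ := by
    intro h
    apply ht
    rw [h] at hCN
    exact top_le_iff.mp hCN
  exact hCc (card_normal_eq_index H hH hmax hnn C hCn hCb hCt)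

/-! ### normal subgroups of order `100` and `2025` -/

/-- A normal subgroup of order `100` contains a normal subgroup of the whole group of order `25`. -/
theorem exists_normal_25 {G : Type*} [Group G] [Finite G] (N : Subgroup G) (hN : N.Normal)
    (hc : Nat.card N = 100) : ∃ C : Subgroup G, C.Normal ∧ C ≠ ⊥ ∧ C ≤ N ∧ Nat.card C = 25 := by
  have : Fact (Nat.Prime 5) := ⟨by norm_num⟩
  obtain ⟨P⟩ : Nonempty (Sylow 5 ↥N) := Sylow.nonempty
  obtain ⟨n, hn⟩ := IsPGroup.iff_card.mp P.isPGroup'
  have hmul := (P : Subgroup N).card_mul_index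
  have hnd := P.not_dvd_index
  rw [hc] at hmul
  have hn' : Nat.card (P : Subgroup ↥N) = 5 ^ n := hn
  rw [hn'] at hmul
  have hnle : n < 3 := by
    by_contra h
    have h3 : 3 ≤ n := by omega
    have : 5 ^ 3 ≤ 5 ^ n := Nat.pow_le_pow_right (by norm_num) h3
    have hpos : 0 < (P : Subgroup N).index := by
      rcases Nat.eq_zero_or_pos (P : Subgroup N).index with h0 | h0
      · rw [h0] at hmul; omega
      · exact h0
    nlinarith
  have hn2 : n = 2 ∧ (P : Subgroup N).index = 4 := by
    interval_cases n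
    · exfalso; apply hnd; omega
    · exfalso; apply hnd; omega
    · constructor
      · rfl
      · omega
  obtain ⟨rfl, hidx⟩ := hn2
  have h1 : Nat.card (Sylow 5 N) = 1 := by
    have hd := Sylow.card_dvd_index P
    rw [hidx] at hd
    have hm := card_sylow_modEq_one 5 N
    have hle := Nat.le_of_dvd (by norm_num) hd
    unfold Nat.ModEq at hm
    interval_cases h : (Nat.card (Sylow 5 N)) <;> omega
  have : Subsingleton (Sylow 5 N) := (Nat.card_eq_one_iff_unique.mp h1).1
  have : (P : Subgroup N).Characteristic := Sylow.characteristic_of_subsingleton P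
  have := hN
  have hcard : Nat.card ((P : Subgroup N).map N.subtype) = 25 := by
    rw [Subgroup.card_map_of_injective N.subtype_injective, hn']
    norm_num
  refine ⟨(P : Subgroup N).map N.subtype, ConjAct.normal_of_characteristic_of_normal, ?_, ?_, hcard⟩
  · intro h
    rw [h, Subgroup.card_bot] at hcard
    omega
  · exact Subgroup.map_subtype_le _

/-- A normal subgroup of order `2025` contains a proper nontrivial normal subgroup of the whole
group (a Sylow subgroup of it for `5` or for `3`, by the transfer). -/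
theorem exists_normal_2025 {G : Type*} [Group G] [Finite G] (N : Subgroup G) (hN : N.Normal)
    (hc : Nat.card N = 2025) :
    ∃ C : Subgroup G, C.Normal ∧ C ≠ ⊥ ∧ C ≤ N ∧ Nat.card C ≠ 2025 := by
  have : Fact (Nat.Prime 5) := ⟨by norm_num⟩
  have : Fact (Nat.Prime 3) := ⟨by norm_num⟩
  obtain ⟨P⟩ : Nonempty (Sylow 5 ↥N) := Sylow.nonempty
  obtain ⟨n, hn⟩ := IsPGroup.iff_card.mp P.isPGroup'
  have hmul := (P : Subgroup N).card_mul_index
  have hnd := P.not_dvd_index
  rw [hc] at hmul
  have hn' : Nat.card (P : Subgroup ↥N) = 5 ^ n := hn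
  rw [hn'] at hmul
  have hnle : n < 5 := by
    by_contra h
    have h3 : 5 ≤ n := by omega
    have : 5 ^ 5 ≤ 5 ^ n := Nat.pow_le_pow_right (by norm_num) h3
    have hpos : 0 < (P : Subgroup N).index := by
      rcases Nat.eq_zero_or_pos (P : Subgroup N).index with h0 | h0
      · rw [h0] at hmul; omega
      · exact h0
    nlinarith
  have hn2 : n = 2 ∧ (P : Subgroup N).index = 81 := by
    interval_cases n
    · exfalso; apply hnd; omega
    · exfalso; apply hnd; omega
    · constructor
      · rfl
      · omega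
    · omega
    · omega
  obtain ⟨rfl, hidx⟩ := hn2
  have hPc : Nat.card (P : Subgroup ↥N) = 25 := by rw [hn']; norm_num
  have hN' := hN
  have h1 : Nat.card (Sylow 5 N) = 1 ∨ Nat.card (Sylow 5 N) = 81 := by
    have hd := Sylow.card_dvd_index P
    rw [hidx, show (81 : ℕ) = 3 ^ 4 by norm_num] at hd
    obtain ⟨k, hk, hk'⟩ := (Nat.dvd_prime_pow Nat.prime_three).mp hd
    have hm := card_sylow_modEq_one 5 N
    unfold Nat.ModEq at hm
    rw [hk'] at hm ⊢
    interval_cases k <;> omega
  rcases h1 with h1 | h1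
  · have : Subsingleton (Sylow 5 N) := (Nat.card_eq_one_iff_unique.mp h1).1
    have : (P : Subgroup N).Characteristic := Sylow.characteristic_of_subsingleton P
    have hcard : Nat.card ((P : Subgroup N).map N.subtype) = 25 := by
      rw [Subgroup.card_map_of_injective N.subtype_injective, hPc]
    refine ⟨(P : Subgroup N).map N.subtype, ConjAct.normal_of_characteristic_of_normal, ?_, ?_, ?_⟩
    · intro h
      rw [h, Subgroup.card_bot] at hcard
      omega
    · exact Subgroup.map_subtype_le _
    · rw [hcard]; norm_num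
  · -- the normaliser of `P` is `P`
    have hnorm : (P : Subgroup N) = Subgroup.normalizer ((P : Subgroup N) : Set N) := by
      apply Subgroup.eq_of_le_of_card_ge Subgroup.le_normalizer
      have h2 : 81 = (Subgroup.normalizer ((P : Subgroup N) : Set N)).index := by
        rw [← h1]; exact P.card_eq_index_normalizer
      have h3 := (Subgroup.normalizer ((P : Subgroup N) : Set N)).card_mul_index
      rw [← h2, hc] at h3
      rw [hPc]
      omega
    have hcomm : ∀ a b : (P : Subgroup N), a * b = b * a :=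
      (IsPGroup.isMulCommutative_of_card_eq_prime_sq (p := 5) hn').is_comm.comm
    have hP : Subgroup.normalizer ((P : Subgroup N) : Set N) ≤
        Subgroup.centralizer ((P : Subgroup N) : Set N) := by
      rw [← hnorm]
      intro g hg
      rw [Subgroup.mem_centralizer_iff]
      intro h hh
      have := hcomm ⟨h, hh⟩ ⟨g, hg⟩
      exact congrArg Subtype.val this
    have hcompl := MonoidHom.ker_transferSylow_isComplement' P hP
    set K : Subgroup N := (MonoidHom.transferSylow P hP).ker with hK
    have hKc : Nat.card K = 81 := by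
      rw [← hcompl.index_eq_card, hidx]
    have hKi : K.index = 25 := by
      have := K.card_mul_index
      rw [hKc, hc] at this
      omega
    have hKp : IsPGroup 3 K := IsPGroup.of_card (n := 4) (by rw [hKc]; norm_num)
    have hKn : K.Normal := MonoidHom.normal_ker _
    have hKch : K.Characteristic := by
      have h3 : ¬ 3 ∣ K.index := by rw [hKi]; norm_num
      have := Sylow.characteristic_of_normal (hKp.toSylow h3) hKn
      exact this
    have hcard : Nat.card (K.map N.subtype) = 81 := by
      rw [Subgroup.card_map_of_injective N.subtype_injective, hKc]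
    refine ⟨K.map N.subtype, ConjAct.normal_of_characteristic_of_normal, ?_, ?_, ?_⟩
    · intro h
      rw [h, Subgroup.card_bot] at hcard
      omega
    · exact Subgroup.map_subtype_le _
    · rw [hcard]; norm_num

/-! ### hypotheses from a transitive action -/

open MulAction

section action
variable {G α : Type*} [Group G] [MulAction G α]

theorem stabilizer_sub (K : Subgroup G) (x0 : α) :
    stabilizer ↥K x0 = (stabilizer G x0).subgroupOf K := by
  ext k
  rw [mem_stabilizer_iff, Subgroup.mem_subgroupOf, mem_stabilizer_iff]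
  rfl

theorem orbit_sub_ncard_dvd [Finite G] (K : Subgroup G) (x0 : α) (hK : stabilizer G x0 ≤ K) :
    (orbit ↥K x0).ncard ∣ (orbit G x0).ncard := by
  rw [← index_stabilizer, ← index_stabilizer, stabilizer_sub]
  exact ⟨K.index, (Subgroup.relIndex_mul_index hK).symm⟩

/-- Maximality of a point stabiliser from a condition on its invariant subsets. -/
theorem max_of_orbit [Finite G] (x0 : α)
    (hprim : ∀ O : Set α, x0 ∈ O → O ⊆ orbit G x0 →
      (∀ h ∈ stabilizer G x0, ∀ y ∈ O, h • y ∈ O) → O.ncard ∣ (orbit G x0).ncard →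
      O = {x0} ∨ O = orbit G x0) :
    ∀ K : Subgroup G, stabilizer G x0 ≤ K → K = stabilizer G x0 ∨ K = ⊤ := by
  intro K hK
  have h1 : x0 ∈ orbit ↥K x0 := mem_orbit_self x0
  have h2 : orbit ↥K x0 ⊆ orbit G x0 := by
    rintro y ⟨k, rfl⟩
    exact ⟨k.1, rfl⟩
  have h3 : ∀ h ∈ stabilizer G x0, ∀ y ∈ orbit ↥K x0, h • y ∈ orbit ↥K x0 := by
    rintro h hh y ⟨k, rfl⟩
    refine ⟨⟨h, hK hh⟩ * k, ?_⟩
    show (h * k.1) • x0 = h • (k.1 • x0)
    rw [mul_smul]
  rcases hprim _ h1 h2 h3 (orbit_sub_ncard_dvd K x0 hK) with h | h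
  · left
    apply le_antisymm _ hK
    intro k hk
    have : (⟨k, hk⟩ : ↥K) • x0 ∈ orbit ↥K x0 := ⟨⟨k, hk⟩, rfl⟩
    rw [h] at this
    exact this
  · right
    rw [eq_top_iff]
    intro g _
    have : g • x0 ∈ orbit ↥K x0 := by
      rw [h]; exact ⟨g, rfl⟩
    obtain ⟨k, hk⟩ := this
    have hk' : k.1 • x0 = g • x0 := hk
    have hmem : k.1⁻¹ * g ∈ stabilizer G x0 := by
      rw [mem_stabilizer_iff, mul_smul, ← hk', inv_smul_smul]
    have : g = k.1 * (k.1⁻¹ * g) := by group
    rw [this]
    exact K.mul_mem k.2 (hK hmem)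

theorem not_normal_of_move (x0 : α)
    (hmove : ∃ h ∈ stabilizer G x0, ∃ g : G, h • (g • x0) ≠ g • x0) :
    ¬ (stabilizer G x0).Normal := by
  intro hn
  obtain ⟨h, hh, g, hg⟩ := hmove
  apply hg
  have := hn.conj_mem h hh g⁻¹
  rw [mem_stabilizer_iff, inv_inv, mul_smul, mul_smul] at this
  have h2 := congrArg (fun y => g • y) this
  simp only [smul_inv_smul] at h2
  exact h2

theorem card_eq_of_action [Finite G] (x0 : α) :
    Nat.card G = (orbit G x0).ncard * Nat.card ↥(stabilizer G x0) := by
  rw [← index_stabilizer, mul_comm, Subgroup.card_mul_index]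

/-- The criterion for an action, with the condition on normal subgroups left open. -/
theorem simple_of_action [Finite G] (x0 : α) (hH : IsSimpleGroup ↥(stabilizer G x0))
    (hprim : ∀ O : Set α, x0 ∈ O → O ⊆ orbit G x0 →
      (∀ h ∈ stabilizer G x0, ∀ y ∈ O, h • y ∈ O) → O.ncard ∣ (orbit G x0).ncard →
      O = {x0} ∨ O = orbit G x0)
    (hmove : ∃ h ∈ stabilizer G x0, ∃ g : G, h • (g • x0) ≠ g • x0)
    (hchar : ∀ N : Subgroup G, N.Normal → Nat.card N = (orbit G x0).ncard →
      ∃ C : Subgroup G, C.Normal ∧ C ≠ ⊥ ∧ C ≤ N ∧ Nat.card C ≠ (orbit G x0).ncard) :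
    IsSimpleGroup G := by
  apply simple_of_max (stabilizer G x0) hH (max_of_orbit x0 hprim) (not_normal_of_move x0 hmove)
  rw [index_stabilizer]
  exact hchar

theorem simple_of_action_100 [Finite G] (x0 : α) (hH : IsSimpleGroup ↥(stabilizer G x0))
    (hcard : (orbit G x0).ncard = 100)
    (hprim : ∀ O : Set α, x0 ∈ O → O ⊆ orbit G x0 →
      (∀ h ∈ stabilizer G x0, ∀ y ∈ O, h • y ∈ O) → O.ncard ∣ (orbit G x0).ncard →
      O = {x0} ∨ O = orbit G x0)
    (hmove : ∃ h ∈ stabilizer G x0, ∃ g : G, h • (g • x0) ≠ g • x0) :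
    IsSimpleGroup G := by
  apply simple_of_action x0 hH hprim hmove
  intro N hN hc
  rw [hcard] at hc ⊢
  obtain ⟨C, h1, h2, h3, h4⟩ := exists_normal_25 N hN hc
  exact ⟨C, h1, h2, h3, by rw [h4]; norm_num⟩

theorem simple_of_action_2025 [Finite G] (x0 : α) (hH : IsSimpleGroup ↥(stabilizer G x0))
    (hcard : (orbit G x0).ncard = 2025)
    (hprim : ∀ O : Set α, x0 ∈ O → O ⊆ orbit G x0 →
      (∀ h ∈ stabilizer G x0, ∀ y ∈ O, h • y ∈ O) → O.ncard ∣ (orbit G x0).ncard →
      O = {x0} ∨ O = orbit G x0)
    (hmove : ∃ h ∈ stabilizer G x0, ∃ g : G, h • (g • x0) ≠ g • x0) :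
    IsSimpleGroup G := by
  apply simple_of_action x0 hH hprim hmove
  intro N hN hc
  rw [hcard] at hc ⊢
  exact exists_normal_2025 N hN hc

/-- Conjugation, between the common stabilisers of two points and of their images. -/
def conjInf (h : G) (a b : α) :
    ↥(stabilizer G a ⊓ stabilizer G b) ≃* ↥(stabilizer G (h • a) ⊓ stabilizer G (h • b)) where
  toFun g := ⟨h * g.1 * h⁻¹, by
    have h1 : g.1 • a = a := g.2.1
    have h2 : g.1 • b = b := g.2.2
    refine ⟨?_, ?_⟩
    · show (h * g.1 * h⁻¹) • h • a = h • a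
      rw [mul_smul, mul_smul, inv_smul_smul, h1]
    · show (h * g.1 * h⁻¹) • h • b = h • b
      rw [mul_smul, mul_smul, inv_smul_smul, h2]⟩
  invFun g := ⟨h⁻¹ * g.1 * h, by
    have h1 : g.1 • h • a = h • a := g.2.1
    have h2 : g.1 • h • b = h • b := g.2.2
    refine ⟨?_, ?_⟩
    · show (h⁻¹ * g.1 * h) • a = a
      rw [mul_smul, mul_smul, h1, inv_smul_smul]
    · show (h⁻¹ * g.1 * h) • b = b
      rw [mul_smul, mul_smul, h2, inv_smul_smul]⟩
  left_inv g := by
    apply Subtype.ext
    show h⁻¹ * (h * g.1 * h⁻¹) * h = g.1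
    group
  right_inv g := by
    apply Subtype.ext
    show h * (h⁻¹ * g.1 * h) * h⁻¹ = g.1
    group
  map_mul' g g' := by
    apply Subtype.ext
    show h * (g.1 * g'.1) * h⁻¹ = (h * g.1 * h⁻¹) * (h * g'.1 * h⁻¹)
    group

end action

end Cfsg.Agent.Lib.Helper92_RankSimple
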