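import Cfsg.Agent.Lib.Helper92_McLBase
import Cfsg.Agent.Lib.Helper92_RankSimple
import Cfsg.Agent.S1575

/-!
The common stabiliser `GM` of `bp = 4 e_4 + 4 e_13` and `wM = (1, -3, 1^22)` in the automorphism
group of the rank-24 lattice is a simple group of order `898128000`, given its rank-4 action on
the `2025` minimal vectors orthogonal to `bp` with inner product `16` with `wM`: the action is
primitive, the stabiliser of one of the points being the simple group of the coordinate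
permutations fixing the two points.
-/

set_option autoImplicit false
set_option linter.constructorNameAsVariable false
open Cfsg
open scoped Pointwise

namespace Cfsg.Agent.Lib.Helper92_McL

open Cfsg.Agent.Lib.Helper7_M24 Cfsg.Agent.Lib.Helper7_Leech Cfsg.Agent.Lib.Helper92_Monomial
  Cfsg.Agent.Lib.Helper92_Co0Order Cfsg.Agent.Lib.Helper92_MaxN
  Cfsg.Agent.Lib.Helper7_Mono Cfsg.Agent.Lib.Helper92_Co2 Cfsg.Agent.Lib.Helper92_RankSimple
  Cfsg.Agent.Lib.Helper92_HS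
open Cfsg.Agent.Lib.Helper26_Leech (pa pb pa_ne_pb v0 v0_apply dotInt_v0 v0_mem v0_norm)
open Cfsg.Agent.Lib.Helper26_Co2 (v0L permVec_v0 signFlip_v0)
open Cfsg.Agent.S5546 (Lam vec8 e8)
open MulAction

instance finiteCo0' : Finite ↥Co0 :=
  Nat.finite_of_card_ne_zero (by rw [Cfsg.Agent.S0397.result]; norm_num)

/-- The `2025` points. -/
def X2 : Set Lam := {x : ↥leechLattice | sqNorm (x : GolayPt → ℤ) = 32 ∧
  dotInt (bpL : GolayPt → ℤ) (x : GolayPt → ℤ) = 0 ∧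
  dotInt (wML : GolayPt → ℤ) (x : GolayPt → ℤ) = 16}

theorem v0L_mem : v0L ∈ X2 := ⟨v0_norm, dot_bp_v0, dot_wM_v0⟩

/-- The stabiliser of the base point, as a subgroup of the whole automorphism group. -/
abbrev Hs : Subgroup ↥Co0 :=
  MulAction.stabilizer ↥Co0 bpL ⊓ MulAction.stabilizer ↥Co0 wML ⊓ MulAction.stabilizer ↥Co0 v0L

/-- The statement on the rank-4 action, for the standard vectors. -/
def Rank4 : Prop :=
  X2.ncard = 2025 ∧
  (∀ x ∈ X2, ∀ x' ∈ X2, ∃ g : ↥Co0, g • bpL = bpL ∧ g • wML = wML ∧ g • x = x') ∧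
  ∃ y₁ ∈ X2, ∃ y₂ ∈ X2, ∃ y₃ ∈ X2,
    (orbit ↥Hs y₁).ncard = 330 ∧ (orbit ↥Hs y₂).ncard = 462 ∧ (orbit ↥Hs y₃).ncard = 1232

theorem X2_smul (g : ↥Co0) (h1 : g • bpL = bpL) (h2 : g • wML = wML) (x : Lam) (hx : x ∈ X2) :
    g • x ∈ X2 := by
  refine ⟨?_, ?_, ?_⟩
  · show sqNorm ((g • x : Lam) : GolayPt → ℤ) = 32
    rw [sqNorm_smul]; exact hx.1
  · show dotInt (bpL : GolayPt → ℤ) ((g • x : Lam) : GolayPt → ℤ) = 0
    have := Cfsg.Agent.S5593.dot_smul g bpL x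
    rw [h1] at this
    rw [this]; exact hx.2.1
  · show dotInt (wML : GolayPt → ℤ) ((g • x : Lam) : GolayPt → ℤ) = 16
    have := Cfsg.Agent.S5593.dot_smul g wML x
    rw [h2] at this
    rw [this]; exact hx.2.2

theorem orbitM_eq (hR : Rank4) : orbit ↥GM v0L = X2 := by
  ext x
  constructor
  · rintro ⟨g, rfl⟩
    exact X2_smul (g : ↥Co0) g.2.1 g.2.2 v0L v0L_mem
  · intro hx
    obtain ⟨g, h1, h2, h3⟩ := hR.2.1 v0L v0L_mem x hx
    exact ⟨⟨g, h1, h2⟩, h3⟩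

theorem orbitM_ncard (hR : Rank4) : (orbit ↥GM v0L).ncard = 2025 := by
  rw [orbitM_eq hR]; exact hR.1

theorem arith2025 : ∀ b1 b2 b3 : Bool,
    (1 + (if b1 = true then 330 else 0) + (if b2 = true then 462 else 0) +
      (if b3 = true then 1232 else 0)) ∣ 2025 →
    (b1 = true ∧ b2 = true ∧ b3 = true) ∨ (b1 = false ∧ b2 = false ∧ b3 = false) := by
  decide

/-- An element of `Hs`, as an element of the stabiliser of `v0` in `GM`. -/
def toStab (h : ↥Hs) : ↥(stabilizer ↥GM v0L) := ⟨⟨h.1, h.2.1⟩, h.2.2⟩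

theorem toStab_smul (h : ↥Hs) (y : Lam) : (toStab h : ↥GM) • y = h • y := rfl

theorem Hs_fix (h : ↥Hs) : h • v0L = v0L := h.2.2

theorem orbit_v0 : orbit ↥Hs v0L = {v0L} := by
  ext x
  constructor
  · rintro ⟨h, rfl⟩
    exact Hs_fix h
  · intro hx
    rw [show x = v0L from hx]
    exact mem_orbit_self _

section classes

variable (y₁ y₂ y₃ : Lam)

/-- The classes of the points under the stabiliser of `v0`. -/
def Cl4 : Fin 4 → Set Lam
  | 0 => {v0L}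
  | 1 => orbit ↥Hs y₁
  | 2 => orbit ↥Hs y₂
  | 3 => orbit ↥Hs y₃

variable {y₁ y₂ y₃}
variable (h1 : (orbit ↥Hs y₁).ncard = 330) (h2 : (orbit ↥Hs y₂).ncard = 462)
  (h3 : (orbit ↥Hs y₃).ncard = 1232)
include h1 h2 h3

theorem Cl4_ncard : ∀ i, (Cl4 y₁ y₂ y₃ i).ncard = ![1, 330, 462, 1232] i := by
  intro i
  fin_cases i
  · exact Set.ncard_singleton _
  · exact h1
  · exact h2
  · exact h3

theorem Cl4_finite (i : Fin 4) : (Cl4 y₁ y₂ y₃ i).Finite := by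
  apply Set.finite_of_ncard_pos
  rw [Cl4_ncard h1 h2 h3]
  fin_cases i <;> decide

omit h1 h2 h3 in
theorem Cl4_orbit (i : Fin 4) : ∃ y, Cl4 y₁ y₂ y₃ i = orbit ↥Hs y := by
  fin_cases i
  · exact ⟨v0L, orbit_v0.symm⟩
  · exact ⟨y₁, rfl⟩
  · exact ⟨y₂, rfl⟩
  · exact ⟨y₃, rfl⟩

theorem Cl4_disj : ∀ i j : Fin 4, i ≠ j → Disjoint (Cl4 y₁ y₂ y₃ i) (Cl4 y₁ y₂ y₃ j) := by
  intro i j hij
  obtain ⟨a, ha⟩ := Cl4_orbit (y₁ := y₁) (y₂ := y₂) (y₃ := y₃) i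
  obtain ⟨b, hb⟩ := Cl4_orbit (y₁ := y₁) (y₂ := y₂) (y₃ := y₃) j
  rcases orbit.eq_or_disjoint (G := ↥Hs) a b with h | h
  · exfalso
    have e : (Cl4 y₁ y₂ y₃ i).ncard = (Cl4 y₁ y₂ y₃ j).ncard := by rw [ha, hb, h]
    rw [Cl4_ncard h1 h2 h3, Cl4_ncard h1 h2 h3] at e
    fin_cases i <;> fin_cases j <;> first | exact hij rfl | exact absurd e (by decide)
  · rw [ha, hb]; exact h

theorem Cl4_homog (i : Fin 4) :
    ∀ y ∈ Cl4 y₁ y₂ y₃ i, ∀ y' ∈ Cl4 y₁ y₂ y₃ i, ∃ h ∈ stabilizer ↥GM v0L, h • y = y' := by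
  intro y hy y' hy'
  obtain ⟨a, ha⟩ := Cl4_orbit (y₁ := y₁) (y₂ := y₂) (y₃ := y₃) i
  rw [ha] at hy hy'
  obtain ⟨k, rfl⟩ := hy
  obtain ⟨k', rfl⟩ := hy'
  refine ⟨toStab (k' * k⁻¹), (toStab (k' * k⁻¹)).2, ?_⟩
  rw [toStab_smul, mul_smul, inv_smul_smul]

omit h1 h2 h3 in
theorem Cl4_sub (m1 : y₁ ∈ X2) (m2 : y₂ ∈ X2) (m3 : y₃ ∈ X2) (i : Fin 4) :
    Cl4 y₁ y₂ y₃ i ⊆ X2 := by
  have key : ∀ y ∈ X2, orbit ↥Hs y ⊆ X2 := by
    rintro y hy _ ⟨h, rfl⟩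
    exact X2_smul (h : ↥Co0) h.2.1.1 h.2.1.2 y hy
  fin_cases i
  · intro y hy
    rw [show y = v0L from hy]; exact v0L_mem
  · exact key y₁ m1
  · exact key y₂ m2
  · exact key y₃ m3

theorem Cl4_cover (hX : X2.ncard = 2025) (m1 : y₁ ∈ X2) (m2 : y₂ ∈ X2) (m3 : y₃ ∈ X2) :
    X2 ⊆ ⋃ i, Cl4 y₁ y₂ y₃ i := by
  have hfin : X2.Finite := Set.finite_of_ncard_pos (by rw [hX]; norm_num)
  have hsub : (⋃ i, Cl4 y₁ y₂ y₃ i) ⊆ X2 := Set.iUnion_subset (Cl4_sub m1 m2 m3)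
  obtain ⟨e, he1, he0, hsum⟩ := ncard_of_classes (⋃ i, Cl4 y₁ y₂ y₃ i) (Cl4 y₁ y₂ y₃)
    (Cl4_finite h1 h2 h3) (Cl4_disj h1 h2 h3) (le_refl _) (fun i => Or.inl (Set.subset_iUnion _ i))
  have hall : ∀ i, e i = true := by
    intro i
    cases hh : e i
    · exfalso
      have hne : (Cl4 y₁ y₂ y₃ i).Nonempty := by
        rw [← Set.ncard_pos (Cl4_finite h1 h2 h3 i), Cl4_ncard h1 h2 h3]
        fin_cases i <;> decide
      obtain ⟨y, hy⟩ := hne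
      exact Set.disjoint_left.mp (he0 i hh) hy (Set.mem_iUnion.mpr ⟨i, hy⟩)
    · rfl
  have hcard : (⋃ i, Cl4 y₁ y₂ y₃ i).ncard = 2025 := by
    rw [hsum, Fin.sum_univ_four, if_pos (hall 0), if_pos (hall 1), if_pos (hall 2),
      if_pos (hall 3), Cl4_ncard h1 h2 h3, Cl4_ncard h1 h2 h3, Cl4_ncard h1 h2 h3,
      Cl4_ncard h1 h2 h3]
    rfl
  have := Set.eq_of_subset_of_ncard_le hsub (by rw [hcard, hX]) hfin
  rw [this]

end classes

theorem hprimM (hR : Rank4) : ∀ O : Set Lam, v0L ∈ O → O ⊆ orbit ↥GM v0L →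
    (∀ h ∈ stabilizer ↥GM v0L, ∀ y ∈ O, h • y ∈ O) → O.ncard ∣ (orbit ↥GM v0L).ncard →
    O = {v0L} ∨ O = orbit ↥GM v0L := by
  intro O h0 hsub hinv hdvd
  rw [orbitM_eq hR] at hsub ⊢
  rw [orbitM_ncard hR] at hdvd
  obtain ⟨hX, -, y₁, m1, y₂, m2, y₃, m3, h1, h2, h3⟩ := hR
  have hdich : ∀ i, Cl4 y₁ y₂ y₃ i ⊆ O ∨ Disjoint (Cl4 y₁ y₂ y₃ i) O := by
    intro i
    by_cases h : ∃ y ∈ Cl4 y₁ y₂ y₃ i, y ∈ O
    · left
      obtain ⟨y, hy, hyO⟩ := h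
      intro y' hy'
      obtain ⟨k, hk, hk'⟩ := Cl4_homog h1 h2 h3 i y hy y' hy'
      rw [← hk']
      exact hinv k hk y hyO
    · right
      rw [Set.disjoint_left]
      intro y hy hyO
      exact h ⟨y, hy, hyO⟩
  have hcov := Cl4_cover h1 h2 h3 hX m1 m2 m3
  obtain ⟨e, he1, he0, hsum⟩ := ncard_of_classes O (Cl4 y₁ y₂ y₃) (Cl4_finite h1 h2 h3)
    (Cl4_disj h1 h2 h3) (hsub.trans hcov) hdich
  have e0 : e 0 = true := by
    cases hh : e 0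
    · exact absurd h0 (Set.disjoint_left.mp (he0 0 hh) rfl)
    · rfl
  have hsum' : O.ncard = 1 + (if e 1 = true then 330 else 0) + (if e 2 = true then 462 else 0) +
      (if e 3 = true then 1232 else 0) := by
    rw [hsum, Fin.sum_univ_four, if_pos e0, Cl4_ncard h1 h2 h3, Cl4_ncard h1 h2 h3,
      Cl4_ncard h1 h2 h3, Cl4_ncard h1 h2 h3]
    rfl
  rw [hsum'] at hdvd
  rcases arith2025 (e 1) (e 2) (e 3) hdvd with ⟨k1, k2, k3⟩ | ⟨k1, k2, k3⟩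
  · right
    apply Set.Subset.antisymm hsub
    intro y hy
    obtain ⟨i, hi⟩ := Set.mem_iUnion.mp (hcov hy)
    fin_cases i
    · exact he1 0 e0 hi
    · exact he1 1 k1 hi
    · exact he1 2 k2 hi
    · exact he1 3 k3 hi
  · left
    apply Set.Subset.antisymm
    · intro y hy
      obtain ⟨i, hi⟩ := Set.mem_iUnion.mp (hcov (hsub hy))
      fin_cases i
      · exact hi
      · exact absurd hy (Set.disjoint_left.mp (he0 1 k1) hi)
      · exact absurd hy (Set.disjoint_left.mp (he0 2 k2) hi)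
      · exact absurd hy (Set.disjoint_left.mp (he0 3 k3) hi)
    · intro y hy
      rw [show y = v0L from hy]; exact h0

theorem hmoveM (hR : Rank4) :
    ∃ h ∈ stabilizer ↥GM v0L, ∃ g : ↥GM, h • (g • v0L) ≠ g • v0L := by
  have hR' := hR
  obtain ⟨hX, -, y₁, m1, y₂, m2, y₃, m3, h1, h2, h3⟩ := hR
  have h22 : 1 < (Cl4 y₁ y₂ y₃ 1).ncard := by
    rw [Cl4_ncard h1 h2 h3]; decide
  obtain ⟨y, y', hy, hy', hne⟩ := (Set.one_lt_ncard_iff (Cl4_finite h1 h2 h3 1)).mp h22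
  obtain ⟨h, hh, hyy⟩ := Cl4_homog h1 h2 h3 1 y hy y' hy'
  have hyo : y ∈ orbit ↥GM v0L := by
    rw [orbitM_eq hR']; exact Cl4_sub m1 m2 m3 1 hy
  obtain ⟨g, hg⟩ := hyo
  refine ⟨h, hh, g, ?_⟩
  have hg' : g • v0L = y := hg
  rw [hg', hyy]
  exact hne.symm

/-- `GM` is a simple group. -/
theorem GM_simple (hR : Rank4) : IsSimpleGroup ↥GM :=
  simple_of_action_2025 (G := ↥GM) v0L inferInstance (orbitM_ncard hR) (hprimM hR) (hmoveM hR)

/-- The order of `GM`. -/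
theorem GM_card (hR : Rank4) : Nat.card ↥GM = 898128000 := by
  rw [card_eq_of_action (G := ↥GM) v0L, orbitM_ncard hR, card_stabM]

/-- The automorphism group is transitive on the pairs of minimal vectors with inner
product `-8`. -/
theorem pair_transM (v w v' w' : Lam)
    (hv : sqNorm (v : GolayPt → ℤ) = 32) (hw : sqNorm (w : GolayPt → ℤ) = 32)
    (hvw : dotInt (v : GolayPt → ℤ) (w : GolayPt → ℤ) = -8)
    (hv' : sqNorm (v' : GolayPt → ℤ) = 32) (hw' : sqNorm (w' : GolayPt → ℤ) = 32)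
    (hvw' : dotInt (v' : GolayPt → ℤ) (w' : GolayPt → ℤ) = -8) :
    ∃ h : ↥Co0, h • v = v' ∧ h • w = w' := by
  obtain ⟨g, hg⟩ := Cfsg.Agent.S0400.result v v' hv hv'
  have hn : sqNorm ((g • w : Lam) : GolayPt → ℤ) = 32 := by
    rw [sqNorm_smul]; exact hw
  have hd : dotInt (v' : GolayPt → ℤ) ((g • w : Lam) : GolayPt → ℤ) = -8 := by
    have := Cfsg.Agent.S5593.dot_smul g v w
    rw [hg] at this
    rw [this]; exact hvw
  obtain ⟨k, hk1, hk2⟩ := Cfsg.Agent.S1575.result v' (g • w) w' hv' hn hw' hd hvw'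
  refine ⟨k * g, ?_, ?_⟩
  · rw [mul_smul, hg, hk1]
  · rw [mul_smul, hk2]

end Cfsg.Agent.Lib.Helper92_McL
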