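import Mathlib
import Cfsg.Agent.Lib.Helper26_McLSylChk
import Cfsg.Agent.Lib.Helper26_FusAbs
import Cfsg.Agent.S0404
import Cfsg.Agent.Lib.Helper93_McLMain


/-!
# The local hypotheses `FusLocal` for a Sylow 2-subgroup of the McLaughlin group (helper26)

The model is the common stabiliser `PS [v, w]` in `Co0` of `v = 4 e_4 + 4 e_13` and
`w = (-3 at 4, 1 elsewhere)`, of order `898128000` (`S0404`), isomorphic to `Spor.McL`.

* A chain of certified configurations (`2025 · 77 · 6 · 5`, then `· 2`) shows that the stabiliser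
  `Kinf` of the five vectors `v, w, p1, h, d` has order `384`.
* `Syl` is the stabiliser in `Kinf` of a pair of vectors; its index is at least `3` and it contains
  `128` explicit coordinate permutations, so it has order `128` and consists of these.
* `N(Syl) = Syl`: a normalizing element fixes `p1`, `h` (unique fixed points of `Syl` in their
  classes) and `d` (the pair `f7, f16` is the only orbit of length two in its class), so it lies in
  `Kinf`, where `Syl` has prime index `3` and is not normal.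
* The centre of `Syl` is `{1, z}`, and `Syl` is generated by four involutions conjugate to `z`
  under coordinate permutations fixing `v`, `w`; hence no proper non-trivial subgroup of `Syl` is
  strongly closed.
-/

set_option autoImplicit false

namespace Cfsg.Agent.Lib.Helper26_McLSyl

open Cfsg Cfsg.Agent.Lib.Helper26_VecCode Cfsg.Agent.Lib.Helper26_Golay
  Cfsg.Agent.Lib.Helper26_Leech
open scoped Pointwise

/-! ### The vectors -/

def V : leechLattice := ⟨vecC cv, cv_mem⟩
def W : leechLattice := ⟨vecC cw, cw_mem⟩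
def P1 : leechLattice := ⟨vecC cp1, cp1_mem⟩
def Hh : leechLattice := ⟨vecC ch, ch_mem⟩
def Dd : leechLattice := ⟨vecC cd, cd_mem⟩
def F7 : leechLattice := ⟨vecC cf7, cf7_mem⟩
def F16 : leechLattice := ⟨vecC cf16, cf16_mem⟩
def Q1 : leechLattice := ⟨vecC cq1, cq1_mem⟩
def Q2 : leechLattice := ⟨vecC cq2, cq2_mem⟩
def Q3 : leechLattice := ⟨vecC cq3, cq3_mem⟩
def Q4 : leechLattice := ⟨vecC cq4, cq4_mem⟩
def Q5 : leechLattice := ⟨vecC cq5, cq5_mem⟩
def Q6 : leechLattice := ⟨vecC cq6, cq6_mem⟩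
def U : leechLattice := ⟨vecC cu, cu_mem⟩

/-- `g` fixes the vector with code `c`. -/
def Fixes (g : ↥Co0) (c : ℕ) : Prop := ∀ x : leechLattice, (x : GolayPt → ℤ) = vecC c → g.1 x = x

theorem mem_PS_list (B : List ℕ) (g : ↥Co0) : g ∈ PS B ↔ ∀ b ∈ B, Fixes g b := by
  constructor
  · intro h b hb x hx
    exact h x ⟨b, hb, hx⟩
  · intro h f hf
    obtain ⟨b, hb, hfb⟩ := hf
    exact h b hb f hfb

theorem fixes_iff (g : ↥Co0) (c : ℕ) (hc : vecC c ∈ leechLattice) :
    Fixes g c ↔ g • (⟨vecC c, hc⟩ : leechLattice) = ⟨vecC c, hc⟩ := by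
  constructor
  · intro h; exact h _ rfl
  · intro h x hx
    have e : x = ⟨vecC c, hc⟩ := Subtype.ext hx
    rw [e]; exact h

theorem applyW_lt (w : List Move) (c : ℕ) (hc : c < 2 ^ 120) : applyW w c < 2 ^ 120 := by
  induction w generalizing c with
  | nil => exact hc
  | cons m w ih => exact ih _ (applyM_lt m c)

/-- The action of the element attached to a word on a coded vector. -/
theorem elW_smul (w : List Move) (hg : goodW w = true) (hp : permOnly w = true) (c c' : ℕ)
    (hc : vecC c ∈ leechLattice) (hc' : vecC c' ∈ leechLattice) (h : applyW w c = c') :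
    elW w • (⟨vecC c, hc⟩ : leechLattice) = ⟨vecC c', hc'⟩ := by
  apply Subtype.ext
  show (((elW w).1 ⟨vecC c, hc⟩ : leechLattice) : GolayPt → ℤ) = vecC c'
  rw [elW_apply w hg hp c _ rfl, h]

/-! ### The chain of stabilisers -/

def B2 : List ℕ := [cv, cw]
def B3 : List ℕ := [cv, cw, cp1]
def B4 : List ℕ := [cv, cw, cp1, ch]
def B5f : List ℕ := [cv, cw, cp1, ch, cf7]
def B6f : List ℕ := [cv, cw, cp1, ch, cf7, cf16]
def B6d : List ℕ := [cv, cw, cp1, ch, cd, cf7]

theorem stepA : Nat.card (PS B2) = Nat.card (PS B3) * 2025 := by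
  have h := card_step Cfsg.Agent.Lib.Helper26_CfgMC2025.consL
    Cfsg.Agent.Lib.Helper26_CfgMC2025.base_mem 2025 Cfsg.Agent.Lib.Helper26_CfgMC2025.std cp1
    (rootOK_spec _ _ (by decide +kernel) cp1_mem)
  have e1 : baseOf Cfsg.Agent.Lib.Helper26_CfgMC2025.consL = B2 := by decide +kernel
  have e2 : baseOf Cfsg.Agent.Lib.Helper26_CfgMC2025.consL ++ [cp1] = B3 := by decide +kernel
  rw [e2, e1] at h
  exact h

theorem stepB : Nat.card (PS B3) = Nat.card (PS B4) * 77 := by
  have h := card_step Cfsg.Agent.Lib.Helper26_CfgML77.consL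
    Cfsg.Agent.Lib.Helper26_CfgML77.base_mem 77 Cfsg.Agent.Lib.Helper26_CfgML77.std ch
    (rootOK_spec _ _ (by decide +kernel) ch_mem)
  have e1 : baseOf Cfsg.Agent.Lib.Helper26_CfgML77.consL = B3 := by decide +kernel
  have e2 : baseOf Cfsg.Agent.Lib.Helper26_CfgML77.consL ++ [ch] = B4 := by decide +kernel
  rw [e2, e1] at h
  exact h

theorem stepC : Nat.card (PS B4) = Nat.card (PS B5f) * 6 := by
  have h := card_step Cfsg.Agent.Lib.Helper26_CfgML6.consL
    Cfsg.Agent.Lib.Helper26_CfgML6.base_mem 6 Cfsg.Agent.Lib.Helper26_CfgML6.std cf7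
    (rootOK_spec _ _ (by decide +kernel) cf7_mem)
  have e1 : baseOf Cfsg.Agent.Lib.Helper26_CfgML6.consL = B4 := by decide +kernel
  have e2 : baseOf Cfsg.Agent.Lib.Helper26_CfgML6.consL ++ [cf7] = B5f := by decide +kernel
  rw [e2, e1] at h
  exact h

theorem stepD : Nat.card (PS B5f) = Nat.card (PS B6f) * 5 := by
  have h := card_step Cfsg.Agent.Lib.Helper26_CfgML5.consL
    Cfsg.Agent.Lib.Helper26_CfgML5.base_mem 5 Cfsg.Agent.Lib.Helper26_CfgML5.std cf16
    (rootOK_spec _ _ (by decide +kernel) cf16_mem)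
  have e1 : baseOf Cfsg.Agent.Lib.Helper26_CfgML5.consL = B5f := by decide +kernel
  have e2 : baseOf Cfsg.Agent.Lib.Helper26_CfgML5.consL ++ [cf16] = B6f := by decide +kernel
  rw [e2, e1] at h
  exact h

theorem stepE : Nat.card (PS B5) = Nat.card (PS B6d) * 2 := by
  have h := card_step Cfsg.Agent.Lib.Helper26_CfgML2.consL
    Cfsg.Agent.Lib.Helper26_CfgML2.base_mem 2 Cfsg.Agent.Lib.Helper26_CfgML2.std cf7
    (rootOK_spec _ _ (by decide +kernel) cf7_mem)
  have e1 : baseOf Cfsg.Agent.Lib.Helper26_CfgML2.consL = B5 := by decide +kernel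
  have e2 : baseOf Cfsg.Agent.Lib.Helper26_CfgML2.consL ++ [cf7] = B6d := by decide +kernel
  rw [e2, e1] at h
  exact h

/-- The linear relation `d + v = f7 + f16 + p1`. -/
theorem lin_rel : Dd + V = F7 + F16 + P1 := by
  apply Subtype.ext
  funext p
  show vecC cd p + vecC cv p = vecC cf7 p + vecC cf16 p + vecC cp1 p
  revert p
  decide +kernel

theorem PS_B6d_eq : PS B6d = PS B6f := by
  ext g
  rw [mem_PS_list, mem_PS_list]
  constructor
  · intro h
    have hv := (fixes_iff g cv cv_mem).mp (h cv (by decide))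
    have hp := (fixes_iff g cp1 cp1_mem).mp (h cp1 (by decide))
    have hd := (fixes_iff g cd cd_mem).mp (h cd (by decide))
    have hf := (fixes_iff g cf7 cf7_mem).mp (h cf7 (by decide))
    have key : g • F16 = F16 := by
      have h1 : g • (Dd + V) = g • (F7 + F16 + P1) := by rw [lin_rel]
      have a1 : g • (Dd + V) = g • Dd + g • V := g.2.1 _ _
      have a2 : g • (F7 + F16 + P1) = g • (F7 + F16) + g • P1 := g.2.1 _ _
      have a3 : g • (F7 + F16) = g • F7 + g • F16 := g.2.1 _ _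
      rw [a1, a2, a3] at h1
      change g • Dd = Dd at hd
      change g • V = V at hv
      change g • P1 = P1 at hp
      change g • F7 = F7 at hf
      rw [hd, hv, hp, hf, lin_rel] at h1
      have h2 : F7 + F16 + P1 = F7 + g • F16 + P1 := h1
      have h3 := add_right_cancel h2
      exact (add_left_cancel h3).symm
    intro b hb
    simp only [B6f, List.mem_cons, List.not_mem_nil, or_false] at hb
    rcases hb with rfl | rfl | rfl | rfl | rfl | rfl
    · exact h _ (by decide)
    · exact h _ (by decide)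
    · exact h _ (by decide)
    · exact h _ (by decide)
    · exact h _ (by decide)
    · exact (fixes_iff g cf16 cf16_mem).mpr key
  · intro h
    have hv := (fixes_iff g cv cv_mem).mp (h cv (by decide))
    have hp := (fixes_iff g cp1 cp1_mem).mp (h cp1 (by decide))
    have hf := (fixes_iff g cf7 cf7_mem).mp (h cf7 (by decide))
    have hf' := (fixes_iff g cf16 cf16_mem).mp (h cf16 (by decide))
    have key : g • Dd = Dd := by
      have h1 : g • (Dd + V) = g • (F7 + F16 + P1) := by rw [lin_rel]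
      have a1 : g • (Dd + V) = g • Dd + g • V := g.2.1 _ _
      have a2 : g • (F7 + F16 + P1) = g • (F7 + F16) + g • P1 := g.2.1 _ _
      have a3 : g • (F7 + F16) = g • F7 + g • F16 := g.2.1 _ _
      rw [a1, a2, a3] at h1
      change g • F16 = F16 at hf'
      change g • V = V at hv
      change g • P1 = P1 at hp
      change g • F7 = F7 at hf
      rw [hf', hv, hp, hf, ← lin_rel] at h1
      exact add_right_cancel h1
    intro b hb
    simp only [B6d, List.mem_cons, List.not_mem_nil, or_false] at hb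
    rcases hb with rfl | rfl | rfl | rfl | rfl | rfl
    · exact h _ (by decide)
    · exact h _ (by decide)
    · exact h _ (by decide)
    · exact h _ (by decide)
    · exact (fixes_iff g cd cd_mem).mpr key
    · exact h _ (by decide)

/-! ### The group of order 384 and the Sylow subgroup -/

/-- The stabiliser of the five base vectors. -/
def Kinf : Subgroup ↥Co0 := PS B5

/-- The pair of vectors preserved by the Sylow subgroup. -/
def Pair : Set leechLattice := {Q1, Q2}

/-- The Sylow subgroup. -/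
def Syl : Subgroup ↥Co0 := Kinf ⊓ MulAction.stabilizer ↥Co0 Pair

theorem goodW_single (m : Move) (h : goodM m = true) : goodW [m] = true := by
  unfold goodW
  rw [List.all_cons, h]
  rfl

theorem permOnly_single (m : Move) (h : isPermM m = true) : permOnly [m] = true := by
  cases m with
  | perm T T' => rfl
  | flip m => exact absurd h (by simp [isPermM])
  | xi => exact absurd h (by simp [isPermM])

theorem move_ok {m : Move} (h : m ∈ sgenL ++ hconjL ++ [mk1, mk2]) :
    goodW [m] = true ∧ permOnly [m] = true := by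
  have := List.all_eq_true.mp moves_ok m h
  rw [Bool.and_eq_true] at this
  exact ⟨goodW_single m this.1, permOnly_single m this.2⟩

theorem sgen_ok {m : Move} (h : m ∈ sgenL) : goodW [m] = true ∧ permOnly [m] = true :=
  move_ok (List.mem_append_left _ (List.mem_append_left _ h))

theorem hconj_ok {m : Move} (h : m ∈ hconjL) : goodW [m] = true ∧ permOnly [m] = true :=
  move_ok (List.mem_append_left _ (List.mem_append_right _ h))

theorem mk1_ok : goodW [mk1] = true ∧ permOnly [mk1] = true :=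
  move_ok (List.mem_append_right _ (by simp))

theorem mk2_ok : goodW [mk2] = true ∧ permOnly [mk2] = true :=
  move_ok (List.mem_append_right _ (by simp))

theorem smul_pair (g : ↥Co0) (a b : leechLattice) :
    g • ({a, b} : Set leechLattice) = {g • a, g • b} := by
  rw [Set.smul_set_insert, Set.smul_set_singleton]

/-- The generators lie in the Sylow subgroup. -/
theorem gen_mem_Syl {m : Move} (h : m ∈ sgenL) : elW [m] ∈ Syl := by
  obtain ⟨hg, hp⟩ := sgen_ok h
  have hm := List.all_eq_true.mp sgen_fix m h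
  rw [Bool.and_eq_true] at hm
  refine ⟨elW_mem_PS [m] hg hp B5 hm.1, ?_⟩
  show elW [m] ∈ MulAction.stabilizer ↥Co0 Pair
  rw [MulAction.mem_stabilizer_iff]
  unfold Pair
  rw [smul_pair]
  have hpo := hm.2
  unfold pairOK at hpo
  rw [Bool.or_eq_true, Bool.and_eq_true, Bool.and_eq_true] at hpo
  rcases hpo with ⟨h1, h2⟩ | ⟨h1, h2⟩
  · have e1 : elW [m] • Q1 = Q1 :=
      elW_smul [m] hg hp cq1 cq1 cq1_mem cq1_mem (Nat.eq_of_beq_eq_true h1)
    have e2 : elW [m] • Q2 = Q2 :=
      elW_smul [m] hg hp cq2 cq2 cq2_mem cq2_mem (Nat.eq_of_beq_eq_true h2)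
    rw [e1, e2]
  · have e1 : elW [m] • Q1 = Q2 :=
      elW_smul [m] hg hp cq1 cq2 cq1_mem cq2_mem (Nat.eq_of_beq_eq_true h1)
    have e2 : elW [m] • Q2 = Q1 :=
      elW_smul [m] hg hp cq2 cq1 cq2_mem cq1_mem (Nat.eq_of_beq_eq_true h2)
    rw [e1, e2, Set.pair_comm]

theorem sgen_mem_list (i : ℕ) (h : isPermM (sgen i) = true) : sgen i ∈ sgenL := by
  unfold sgen at h ⊢
  by_cases hi : i < sgenL.length
  · rw [List.getD_eq_getElem _ _ hi]
    exact List.getElem_mem hi
  · rw [List.getD_eq_default _ _ (not_lt.mp hi)] at h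
    exact absurd h (by decide)

/-- Words in the generators give elements of any subgroup containing the generators. -/
theorem elW_map_mem (H : Subgroup ↥Co0) (hH : ∀ m ∈ sgenL, elW [m] ∈ H) (l : List ℕ)
    (hg : goodW (l.map sgen) = true) (hp : permOnly (l.map sgen) = true) :
    elW (l.map sgen) ∈ H := by
  induction l with
  | nil =>
    show elW [] ∈ H
    rw [elW_nil]; exact H.one_mem
  | cons a t ih =>
    have hg' : goodM (sgen a) = true ∧ goodW (t.map sgen) = true := by
      unfold goodW at hg ⊢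
      rw [List.map_cons, List.all_cons, Bool.and_eq_true] at hg
      exact hg
    have hp' : isPermM (sgen a) = true ∧ permOnly (t.map sgen) = true := by
      unfold permOnly at hp ⊢
      rw [List.map_cons, List.all_cons, Bool.and_eq_true] at hp
      refine ⟨?_, hp.2⟩
      have := hp.1
      cases hs : sgen a with
      | perm T T' => rfl
      | flip m => rw [hs] at this; exact absurd this (by simp)
      | xi => rw [hs] at this; exact absurd this (by simp)
    have e : (a :: t).map sgen = [sgen a] ++ t.map sgen := rfl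
    rw [e, elW_append _ _ (goodW_single _ hg'.1) (permOnly_single _ hp'.1) hg'.2 hp'.2]
    exact H.mul_mem (ih hg'.2 hp'.2) (hH _ (sgen_mem_list a hp'.1))

/-- The `j`-th element. -/
noncomputable def gS (j : ℕ) : ↥Co0 := elW (wm j)

theorem wm_ok (j : ℕ) (hj : j < 128) : goodW (wm j) = true ∧ permOnly (wm j) = true := by
  have := (allFold_eq_true _ _).mp words_ok j hj
  rw [Bool.and_eq_true] at this
  exact this

theorem gS_mem (H : Subgroup ↥Co0) (hH : ∀ m ∈ sgenL, elW [m] ∈ H) (j : ℕ) (hj : j < 128) :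
    gS j ∈ H :=
  elW_map_mem H hH _ (wm_ok j hj).1 (wm_ok j hj).2

theorem gS_mem_Syl (j : ℕ) (hj : j < 128) : gS j ∈ Syl :=
  gS_mem Syl (fun _ h => gen_mem_Syl h) j hj

/-- The code of the image of `u` under the `j`-th element. -/
def cI (j : ℕ) : ℕ := applyW (wm j) cu

theorem cI_mono : ∀ i j, i < j → j < 128 → cI i < cI j := by
  have h := (allFold_eq_true _ _).mp inc_ok
  intro i j hij
  induction j with
  | zero => omega
  | succ j ih =>
    intro hj
    have h1 := h j (by omega)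
    have h2 : cI j < cI (j + 1) := Nat.blt_eq.mp h1
    by_cases hij' : i = j
    · rw [hij']; exact h2
    · exact lt_trans (ih (by omega) (by omega)) h2

theorem gS_smul_U (j : ℕ) (hj : j < 128) :
    ((gS j • U : leechLattice) : GolayPt → ℤ) = vecC (cI j) :=
  elW_apply (wm j) (wm_ok j hj).1 (wm_ok j hj).2 cu U rfl

theorem gS_inj (i j : ℕ) (hi : i < 128) (hj : j < 128) (h : gS i = gS j) : i = j := by
  have h1 : vecC (cI i) = vecC (cI j) := by
    rw [← gS_smul_U i hi, ← gS_smul_U j hj, h]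
  have h2 := code_eq_of_vecC_eq (applyW_lt _ _ cu_lt) (applyW_lt _ _ cu_lt) h1
  rcases lt_trichotomy i j with hlt | heq | hgt
  · exact absurd h2 (ne_of_lt (cI_mono i j hlt hj))
  · exact heq
  · exact absurd h2.symm (ne_of_lt (cI_mono j i hgt hi))

/-! ### Orders -/

instance finiteCo0s : Finite ↥Co0 :=
  Nat.finite_of_card_ne_zero (by rw [Cfsg.Agent.S0397.result]; norm_num)

theorem V_norm : sqNorm (V : GolayPt → ℤ) = 32 := by
  show sqNorm (vecC cv) = 32
  rw [sqNorm_vecC]
  decide +kernel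

theorem W_norm : sqNorm (W : GolayPt → ℤ) = 32 := by
  show sqNorm (vecC cw) = 32
  rw [sqNorm_vecC]
  decide +kernel

theorem VW_dot : dotInt (V : GolayPt → ℤ) (W : GolayPt → ℤ) = -8 := by
  show dotInt (vecC cv) (vecC cw) = -8
  rw [dotInt_vecC]
  decide +kernel

theorem PS_B2_eq : PS B2 = MulAction.stabilizer ↥Co0 V ⊓ MulAction.stabilizer ↥Co0 W := by
  ext g
  rw [mem_PS_list, Subgroup.mem_inf, MulAction.mem_stabilizer_iff, MulAction.mem_stabilizer_iff]
  constructor
  · intro h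
    exact ⟨(fixes_iff g cv cv_mem).mp (h cv (by decide)),
      (fixes_iff g cw cw_mem).mp (h cw (by decide))⟩
  · rintro ⟨h1, h2⟩ b hb
    simp only [B2, List.mem_cons, List.not_mem_nil, or_false] at hb
    rcases hb with rfl | rfl
    · exact (fixes_iff g cv cv_mem).mpr h1
    · exact (fixes_iff g cw cw_mem).mpr h2

theorem card_PS_B2 : Nat.card (PS B2) = 898128000 := by
  rw [PS_B2_eq]
  exact (Cfsg.Agent.S0404.result V W V_norm W_norm VW_dot).2

theorem card_Kinf : Nat.card Kinf = 384 := by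
  have hA := stepA
  have hB := stepB
  have hC := stepC
  have hD := stepD
  have hE := stepE
  rw [card_PS_B2] at hA
  rw [PS_B6d_eq] at hE
  show Nat.card (PS B5) = 384
  omega

/-- The two elements of the group of order 384. -/
noncomputable def K1 : ↥Co0 := elW [mk1]
noncomputable def K2 : ↥Co0 := elW [mk2]

theorem K1_mem : K1 ∈ Kinf := by
  have h := List.all_eq_true.mp k_fix mk1 (by simp)
  exact elW_mem_PS [mk1] mk1_ok.1 mk1_ok.2 B5 h

theorem K2_mem : K2 ∈ Kinf := by
  have h := List.all_eq_true.mp k_fix mk2 (by simp)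
  exact elW_mem_PS [mk2] mk2_ok.1 mk2_ok.2 B5 h

theorem K1_pair : K1 • Pair = {Q3, Q4} := by
  have h := k1_img
  rw [Bool.and_eq_true] at h
  unfold Pair
  rw [smul_pair]
  have e1 : K1 • Q1 = Q3 :=
    elW_smul [mk1] mk1_ok.1 mk1_ok.2 cq1 cq3 cq1_mem cq3_mem (Nat.eq_of_beq_eq_true h.1)
  have e2 : K1 • Q2 = Q4 :=
    elW_smul [mk1] mk1_ok.1 mk1_ok.2 cq2 cq4 cq2_mem cq4_mem (Nat.eq_of_beq_eq_true h.2)
  rw [e1, e2]

theorem K2_pair : K2 • Pair = {Q5, Q6} := by
  have h := k2_img
  rw [Bool.and_eq_true] at h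
  unfold Pair
  rw [smul_pair]
  have e1 : K2 • Q1 = Q5 :=
    elW_smul [mk2] mk2_ok.1 mk2_ok.2 cq1 cq5 cq1_mem cq5_mem (Nat.eq_of_beq_eq_true h.1)
  have e2 : K2 • Q2 = Q6 :=
    elW_smul [mk2] mk2_ok.1 mk2_ok.2 cq2 cq6 cq2_mem cq6_mem (Nat.eq_of_beq_eq_true h.2)
  rw [e1, e2]

theorem mk_ne {c c' : ℕ} (hc : vecC c ∈ leechLattice) (hc' : vecC c' ∈ leechLattice)
    (h1 : c < 2 ^ 120) (h2 : c' < 2 ^ 120) (hne : c ≠ c') :
    (⟨vecC c, hc⟩ : leechLattice) ≠ ⟨vecC c', hc'⟩ := by
  intro h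
  exact hne (code_eq_of_vecC_eq h1 h2 (congrArg Subtype.val h))

theorem Q3_notMem : Q3 ∉ Pair := by
  have hq := q_distinct
  simp only [List.nodup_cons, List.mem_cons, List.not_mem_nil, or_false, not_or] at hq
  intro h
  rcases h with h | h
  · exact mk_ne cq3_mem cq1_mem cq3_lt cq1_lt (fun e => hq.1.2.1 e.symm) h
  · exact mk_ne cq3_mem cq2_mem cq3_lt cq2_lt (fun e => hq.2.1.1 e.symm) h

theorem Q5_notMem : Q5 ∉ Pair := by
  have hq := q_distinct
  simp only [List.nodup_cons, List.mem_cons, List.not_mem_nil, or_false, not_or] at hq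
  intro h
  rcases h with h | h
  · exact mk_ne cq5_mem cq1_mem cq5_lt cq1_lt (fun e => hq.1.2.2.2.1 e.symm) h
  · exact mk_ne cq5_mem cq2_mem cq5_lt cq2_lt (fun e => hq.2.1.2.2.1 e.symm) h

theorem Q5_notMem' : Q5 ∉ ({Q3, Q4} : Set leechLattice) := by
  have hq := q_distinct
  simp only [List.nodup_cons, List.mem_cons, List.not_mem_nil, or_false, not_or] at hq
  intro h
  rcases h with h | h
  · exact mk_ne cq5_mem cq3_mem cq5_lt cq3_lt (fun e => hq.2.2.1.2.1 e.symm) h
  · exact mk_ne cq5_mem cq4_mem cq5_lt cq4_lt (fun e => hq.2.2.2.1.1 e.symm) h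

theorem K1_pair_ne : K1 • Pair ≠ Pair := by
  rw [K1_pair]
  intro h
  exact Q3_notMem (h ▸ Set.mem_insert _ _)

theorem K2_pair_ne : K2 • Pair ≠ Pair := by
  rw [K2_pair]
  intro h
  exact Q5_notMem (h ▸ Set.mem_insert _ _)

theorem K12_pair_ne : K2 • Pair ≠ K1 • Pair := by
  rw [K1_pair, K2_pair]
  intro h
  exact Q5_notMem' (h ▸ Set.mem_insert _ _)

theorem stab_eq : MulAction.stabilizer ↥Kinf Pair =
    (MulAction.stabilizer ↥Co0 Pair).subgroupOf Kinf := by
  ext k
  rw [MulAction.mem_stabilizer_iff, Subgroup.mem_subgroupOf, MulAction.mem_stabilizer_iff]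
  rfl

theorem card_stab : Nat.card (MulAction.stabilizer ↥Kinf Pair) = Nat.card Syl := by
  rw [stab_eq, ← Subgroup.inf_subgroupOf_left]
  exact Nat.card_congr (Subgroup.subgroupOfEquivOfLe inf_le_left).toEquiv

theorem card_Syl_le : Nat.card Syl ≤ 128 := by
  rw [← card_stab]
  have h1 := Subgroup.card_mul_index (MulAction.stabilizer ↥Kinf Pair)
  rw [MulAction.index_stabilizer, card_Kinf] at h1
  have h3 : 3 ≤ (MulAction.orbit ↥Kinf Pair).ncard := by
    have hsub : ({Pair, K1 • Pair, K2 • Pair} : Set (Set leechLattice)) ⊆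
        MulAction.orbit ↥Kinf Pair := by
      intro x hx
      rcases hx with rfl | rfl | rfl
      · exact MulAction.mem_orbit_self _
      · exact ⟨⟨K1, K1_mem⟩, rfl⟩
      · exact ⟨⟨K2, K2_mem⟩, rfl⟩
    have hfin : (MulAction.orbit ↥Kinf Pair).Finite := Set.finite_range _
    have h3' : ({Pair, K1 • Pair, K2 • Pair} : Set (Set leechLattice)).ncard = 3 := by
      rw [Set.ncard_eq_three]
      exact ⟨_, _, _, fun h => K1_pair_ne h.symm, fun h => K2_pair_ne h.symm,
        fun h => K12_pair_ne h.symm, rfl⟩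
    rw [← h3']
    exact Set.ncard_le_ncard hsub hfin
  nlinarith

theorem card_Syl_ge : 128 ≤ Nat.card Syl := by
  have hinj : Function.Injective (fun j : Fin 128 => (⟨gS j, gS_mem_Syl j j.2⟩ : ↥Syl)) := by
    intro i j h
    have := congrArg Subtype.val h
    exact Fin.ext (gS_inj i j i.2 j.2 this)
  have := Nat.card_le_card_of_injective _ hinj
  rwa [Nat.card_fin] at this

theorem card_Syl : Nat.card Syl = 128 := le_antisymm card_Syl_le card_Syl_ge

/-- Every element of the Sylow subgroup is one of the 128 listed elements. -/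
theorem exists_gS (g : ↥Co0) (hg : g ∈ Syl) : ∃ j < 128, g = gS j := by
  have hinj : Function.Injective (fun j : Fin 128 => (⟨gS j, gS_mem_Syl j j.2⟩ : ↥Syl)) := by
    intro i j h
    have := congrArg Subtype.val h
    exact Fin.ext (gS_inj i j i.2 j.2 this)
  have hb := hinj.bijective_of_nat_card_le (by rw [card_Syl, Nat.card_fin])
  obtain ⟨j, hj⟩ := hb.2 ⟨g, hg⟩
  exact ⟨j, j.2, (congrArg Subtype.val hj).symm⟩

/-! ### The normalizer -/

instance : Finite ↥Syl := inferInstance

/-- `n` conjugates the Sylow subgroup into itself. -/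
def Nrm (n : ↥Co0) : Prop := ∀ s ∈ Syl, n * s * n⁻¹ ∈ Syl

theorem Nrm.inv {n : ↥Co0} (hn : Nrm n) : ∀ t ∈ Syl, n⁻¹ * t * n ∈ Syl := by
  let φ : ↥Syl → ↥Syl := fun s => ⟨n * s.1 * n⁻¹, hn s.1 s.2⟩
  have hinj : Function.Injective φ := by
    intro a b h
    have h1 : n * a.1 * n⁻¹ = n * b.1 * n⁻¹ := congrArg Subtype.val h
    apply Subtype.ext
    have h2 := mul_right_cancel h1
    exact mul_left_cancel h2
  have hsur := Finite.injective_iff_surjective.mp hinj
  intro t ht
  obtain ⟨s, hs⟩ := hsur ⟨t, ht⟩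
  have h1 : n * s.1 * n⁻¹ = t := congrArg Subtype.val hs
  have h2 : n⁻¹ * t * n = s.1 := by rw [← h1]; group
  rw [h2]; exact s.2

/-- A vector fixed by the Sylow subgroup is mapped by a normalizing element to such a vector. -/
theorem Nrm.fixed {n : ↥Co0} (hn : Nrm n) (x : leechLattice) (hx : ∀ s ∈ Syl, s • x = x) :
    ∀ t ∈ Syl, t • (n • x) = n • x := by
  intro t ht
  have h1 := hx _ (hn.inv t ht)
  have h2 : t • (n • x) = n • ((n⁻¹ * t * n) • x) := by
    rw [← mul_smul, ← mul_smul]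
    congr 1
    group
  rw [h2, h1]

theorem Syl_le_Kinf : Syl ≤ Kinf := inf_le_left

theorem Syl_fixes {s : ↥Co0} (hs : s ∈ Syl) {c : ℕ} (hc : c ∈ B5) (hm : vecC c ∈ leechLattice) :
    s • (⟨vecC c, hm⟩ : leechLattice) = ⟨vecC c, hm⟩ :=
  (fixes_iff s c hm).mp ((mem_PS_list B5 s).mp (Syl_le_Kinf hs) c hc)

/-- A coded vector fixed by the four generators has a code fixed by the four permutations. -/
theorem fix_unique (x : leechLattice) (c : ℕ) (hx : (x : GolayPt → ℤ) = vecC c) (hc : c < 2 ^ 120)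
    (hfix : ∀ s ∈ Syl, s • x = x)
    (hchk : sgenL.any (fun m => !(Nat.beq (applyM m c) c)) = true) : False := by
  rw [List.any_eq_true] at hchk
  obtain ⟨m, hm, hne⟩ := hchk
  have h1 := hfix _ (gen_mem_Syl hm)
  have h2 : ((elW [m] • x : leechLattice) : GolayPt → ℤ) = vecC (applyM m c) :=
    elW_apply [m] (sgen_ok hm).1 (sgen_ok hm).2 c x hx
  rw [h1, hx] at h2
  have h3 := code_eq_of_vecC_eq hc (applyM_lt m c) h2
  rw [← h3, Nat.beq_refl] at hne
  exact absurd hne (by decide)

theorem tA_lt (j : ℕ) : tA j < 2 ^ 120 := tAtL_lt _ _ _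
theorem tB_lt (j : ℕ) : tB j < 2 ^ 120 := tAtL_lt _ _ _
theorem tC_lt (j : ℕ) : tC j < 2 ^ 120 := tAtL_lt _ _ _
theorem tD_lt (j : ℕ) : tD j < 2 ^ 120 := tAtL_lt _ _ _

set_option maxRecDepth 100000 in
theorem enumA : ∀ x ∈ minSet Cfsg.Agent.Lib.Helper26_CfgMC2025.consL, ∃ j < 2025,
    x = vecC (tAtL Cfsg.Agent.Lib.Helper26_CfgMC2025.tblTL 1024 j) :=
  open Cfsg.Agent.Lib.Helper26_CfgMC2025 in
  config_enum consL cons_ok base_mem base_lt gensL gens_good gens_fix (tAtL tblTL 1024)
    (tAtL_lt tblTL 1024) tblP tblG tblD tblR 2025 forest_ok roots_ok inc_ok root_ok root_mem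
    count_ok

theorem enumB : ∀ x ∈ minSet Cfsg.Agent.Lib.Helper26_CfgML77.consL, ∃ j < 77,
    x = vecC (tAtL Cfsg.Agent.Lib.Helper26_CfgML77.tblTL 1024 j) :=
  open Cfsg.Agent.Lib.Helper26_CfgML77 in
  config_enum consL cons_ok base_mem base_lt gensL gens_good gens_fix (tAtL tblTL 1024)
    (tAtL_lt tblTL 1024) tblP tblG tblD tblR 77 forest_ok roots_ok inc_ok root_ok root_mem
    count_ok

theorem enumC : ∀ x ∈ minSet Cfsg.Agent.Lib.Helper26_CfgML6.consL, ∃ j < 6,
    x = vecC (tAtL Cfsg.Agent.Lib.Helper26_CfgML6.tblTL 1024 j) :=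
  open Cfsg.Agent.Lib.Helper26_CfgML6 in
  config_enum consL cons_ok base_mem base_lt gensL gens_good gens_fix (tAtL tblTL 1024)
    (tAtL_lt tblTL 1024) tblP tblG tblD tblR 6 forest_ok roots_ok inc_ok root_ok root_mem
    count_ok

theorem enumD : ∀ x ∈ minSet Cfsg.Agent.Lib.Helper26_CfgML2.consL, ∃ j < 2,
    x = vecC (tAtL Cfsg.Agent.Lib.Helper26_CfgML2.tblTL 1024 j) :=
  open Cfsg.Agent.Lib.Helper26_CfgML2 in
  config_enum consL cons_ok base_mem base_lt gensL gens_good gens_fix (tAtL tblTL 1024)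
    (tAtL_lt tblTL 1024) tblP tblG tblD tblR 2 forest_ok roots_ok inc_ok root_ok root_mem
    count_ok

/-- The image of a point of a configuration under an element fixing the base vectors. -/
theorem smul_mem_minSet (cons : List Con) (hBL : ∀ c ∈ cons, vecC c.a ∈ leechLattice)
    (g : ↥Co0) (hg : g ∈ PS (baseOf cons)) (x : leechLattice)
    (hx : (x : GolayPt → ℤ) ∈ minSet cons) :
    ((g • x : leechLattice) : GolayPt → ℤ) ∈ minSet cons :=
  minSet_inv cons hBL _ _ ⟨g.1, g.2, hg, x.2, rfl⟩ hx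

theorem step1 (n : ↥Co0) (hn2 : n ∈ PS B2) (hn : Nrm n) : n • P1 = P1 := by
  have hfix := hn.fixed P1 (fun s hs => Syl_fixes hs (by decide) cp1_mem)
  have e1 : baseOf Cfsg.Agent.Lib.Helper26_CfgMC2025.consL = B2 := by decide +kernel
  have hmem := smul_mem_minSet _ Cfsg.Agent.Lib.Helper26_CfgMC2025.base_mem n (by rw [e1]; exact hn2)
    P1 (rootOK_spec _ _ (by decide +kernel) cp1_mem)
  obtain ⟨j, hj, hxj'⟩ := enumA _ hmem
  have hxj : ((n • P1 : leechLattice) : GolayPt → ℤ) = vecC (tA j) := hxj'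
  have hchk := (allFold_eq_true _ _).mp fixA_ok j hj
  rw [Bool.or_eq_true] at hchk
  rcases hchk with h | h
  · apply Subtype.ext
    rw [hxj, Nat.eq_of_beq_eq_true h]
    rfl
  · exact (fix_unique _ _ hxj (tA_lt j) hfix h).elim

theorem step2 (n : ↥Co0) (hn3 : n ∈ PS B3) (hn : Nrm n) : n • Hh = Hh := by
  have hfix := hn.fixed Hh (fun s hs => Syl_fixes hs (by decide) ch_mem)
  have e1 : baseOf Cfsg.Agent.Lib.Helper26_CfgML77.consL = B3 := by decide +kernel
  have hmem := smul_mem_minSet _ Cfsg.Agent.Lib.Helper26_CfgML77.base_mem n (by rw [e1]; exact hn3)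
    Hh (rootOK_spec _ _ (by decide +kernel) ch_mem)
  obtain ⟨j, hj, hxj'⟩ := enumB _ hmem
  have hxj : ((n • Hh : leechLattice) : GolayPt → ℤ) = vecC (tB j) := hxj'
  have hchk := (allFold_eq_true _ _).mp fixB_ok j hj
  rw [Bool.or_eq_true] at hchk
  rcases hchk with h | h
  · apply Subtype.ext
    rw [hxj, Nat.eq_of_beq_eq_true h]
    rfl
  · exact (fix_unique _ _ hxj (tB_lt j) hfix h).elim

/-! ### The third step: the pair `f7`, `f16` -/

theorem F7_mem_D : vecC cf7 ∈ minSet Cfsg.Agent.Lib.Helper26_CfgML2.consL :=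
  rootOK_spec _ _ (by decide +kernel) cf7_mem

theorem F16_mem_D : vecC cf16 ∈ minSet Cfsg.Agent.Lib.Helper26_CfgML2.consL :=
  rootOK_spec _ _ (by decide +kernel) cf16_mem

theorem F7_mem_C : vecC cf7 ∈ minSet Cfsg.Agent.Lib.Helper26_CfgML6.consL :=
  rootOK_spec _ _ (by decide +kernel) cf7_mem

theorem F16_mem_C : vecC cf16 ∈ minSet Cfsg.Agent.Lib.Helper26_CfgML6.consL :=
  rootOK_spec _ _ (by decide +kernel) cf16_mem

/-- The group of order 384 permutes `f7`, `f16`. -/
theorem Kinf_pairF (s : ↥Co0) (hs : s ∈ Kinf) (x : leechLattice)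
    (hx : (x : GolayPt → ℤ) ∈ minSet Cfsg.Agent.Lib.Helper26_CfgML2.consL) :
    s • x = F7 ∨ s • x = F16 := by
  have e1 : baseOf Cfsg.Agent.Lib.Helper26_CfgML2.consL = B5 := by decide +kernel
  have hmem := smul_mem_minSet _ Cfsg.Agent.Lib.Helper26_CfgML2.base_mem s (by rw [e1]; exact hs)
    x hx
  obtain ⟨j, hj, hxj'⟩ := enumD _ hmem
  have hxj : ((s • x : leechLattice) : GolayPt → ℤ) = vecC (tD j) := hxj'
  have hchk := (allFold_eq_true _ _).mp tD_ok j hj
  rw [Bool.or_eq_true] at hchk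
  rcases hchk with h | h
  · left
    apply Subtype.ext
    rw [hxj, Nat.eq_of_beq_eq_true h]
    rfl
  · right
    apply Subtype.ext
    rw [hxj, Nat.eq_of_beq_eq_true h]
    rfl

noncomputable def E1 : ↥Co0 := elW (e1L.map sgen)
noncomputable def E2 : ↥Co0 := elW (e2L.map sgen)

theorem eL_ok' : goodW (e1L.map sgen) = true ∧ permOnly (e1L.map sgen) = true ∧
    goodW (e2L.map sgen) = true ∧ permOnly (e2L.map sgen) = true := by
  have h := eL_ok
  rw [Bool.and_eq_true, Bool.and_eq_true, Bool.and_eq_true] at h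
  exact ⟨h.1.1.1, h.1.1.2, h.1.2, h.2⟩

theorem E1_mem : E1 ∈ Syl :=
  elW_map_mem Syl (fun _ h => gen_mem_Syl h) e1L eL_ok'.1 eL_ok'.2.1

theorem E2_mem : E2 ∈ Syl :=
  elW_map_mem Syl (fun _ h => gen_mem_Syl h) e2L eL_ok'.2.2.1 eL_ok'.2.2.2

/-- A normalizing element fixing the first four base vectors maps a point `x ∈ {f7, f16}` into
`{f7, f16}`. -/
theorem step3_aux (n : ↥Co0) (hn4 : n ∈ PS B4) (hn : Nrm n) (x x' : leechLattice)
    (hxC : (x : GolayPt → ℤ) ∈ minSet Cfsg.Agent.Lib.Helper26_CfgML6.consL)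
    (hS : ∀ s ∈ Syl, s • x = x ∨ s • x = x') :
    n • x = F7 ∨ n • x = F16 := by
  -- the orbit of `n • x` under the Sylow subgroup lies in `{n • x, n • x'}`
  have horb : ∀ t ∈ Syl, t • (n • x) = n • x ∨ t • (n • x) = n • x' := by
    intro t ht
    have h2 : t • (n • x) = n • ((n⁻¹ * t * n) • x) := by
      rw [← mul_smul, ← mul_smul]
      congr 1
      group
    rcases hS _ (hn.inv t ht) with h | h
    · left; rw [h2, h]
    · right; rw [h2, h]
  have e1 : baseOf Cfsg.Agent.Lib.Helper26_CfgML6.consL = B4 := by decide +kernel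
  have hmem := smul_mem_minSet _ Cfsg.Agent.Lib.Helper26_CfgML6.base_mem n (by rw [e1]; exact hn4)
    x hxC
  obtain ⟨j, hj, hxj'⟩ := enumC _ hmem
  have hxj : ((n • x : leechLattice) : GolayPt → ℤ) = vecC (tC j) := hxj'
  have hchk := (allFold_eq_true _ _).mp fixC_ok j hj
  rw [Bool.or_eq_true, Bool.or_eq_true] at hchk
  rcases hchk with (h | h) | h
  · left
    apply Subtype.ext
    rw [hxj, Nat.eq_of_beq_eq_true h]
    rfl
  · right
    apply Subtype.ext
    rw [hxj, Nat.eq_of_beq_eq_true h]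
    rfl
  · exfalso
    rw [Bool.and_eq_true, Bool.and_eq_true] at h
    obtain ⟨⟨h1, h2⟩, h3⟩ := h
    have a1 : ((E1 • (n • x) : leechLattice) : GolayPt → ℤ) = vecC (applyW (e1L.map sgen) (tC j)) :=
      elW_apply _ eL_ok'.1 eL_ok'.2.1 (tC j) _ hxj
    have a2 : ((E2 • (n • x) : leechLattice) : GolayPt → ℤ) = vecC (applyW (e2L.map sgen) (tC j)) :=
      elW_apply _ eL_ok'.2.2.1 eL_ok'.2.2.2 (tC j) _ hxj
    have ne1 : E1 • (n • x) ≠ n • x := by
      intro h
      rw [h, hxj] at a1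
      have := code_eq_of_vecC_eq (tC_lt j) (applyW_lt _ _ (tC_lt j)) a1
      rw [← this, Nat.beq_refl] at h1
      exact absurd h1 (by decide)
    have ne2 : E2 • (n • x) ≠ n • x := by
      intro h
      rw [h, hxj] at a2
      have := code_eq_of_vecC_eq (tC_lt j) (applyW_lt _ _ (tC_lt j)) a2
      rw [← this, Nat.beq_refl] at h2
      exact absurd h2 (by decide)
    have ne3 : E1 • (n • x) ≠ E2 • (n • x) := by
      intro h
      rw [h, a2] at a1
      have := code_eq_of_vecC_eq (applyW_lt _ _ (tC_lt j)) (applyW_lt _ _ (tC_lt j)) a1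
      rw [← this, Nat.beq_refl] at h3
      exact absurd h3 (by decide)
    rcases horb E1 E1_mem with h | h
    · exact ne1 h
    · rcases horb E2 E2_mem with h' | h'
      · exact ne2 h'
      · exact ne3 (h.trans h'.symm)

theorem F7_ne_F16 : F7 ≠ F16 := mk_ne cf7_mem cf16_mem cf7_lt cf16_lt f_ne

theorem step3 (n : ↥Co0) (hn4 : n ∈ PS B4) (hn : Nrm n) : n • Dd = Dd := by
  have hv := (fixes_iff n cv cv_mem).mp ((mem_PS_list B4 n).mp hn4 cv (by decide))
  have hp := (fixes_iff n cp1 cp1_mem).mp ((mem_PS_list B4 n).mp hn4 cp1 (by decide))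
  change n • V = V at hv
  change n • P1 = P1 at hp
  have h7 : ∀ s ∈ Syl, s • F7 = F7 ∨ s • F7 = F16 :=
    fun s hs => Kinf_pairF s (Syl_le_Kinf hs) F7 F7_mem_D
  have h16 : ∀ s ∈ Syl, s • F16 = F16 ∨ s • F16 = F7 := fun s hs =>
    (Kinf_pairF s (Syl_le_Kinf hs) F16 F16_mem_D).symm
  have a7 := step3_aux n hn4 hn F7 F16 F7_mem_C h7
  have a16 := step3_aux n hn4 hn F16 F7 F16_mem_C h16
  have hinj : n • F7 ≠ n • F16 := fun h => F7_ne_F16 (MulAction.injective n h)
  have hsum : n • F7 + n • F16 = F7 + F16 := by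
    rcases a7 with h | h <;> rcases a16 with h' | h'
    · exact absurd (h.trans h'.symm) hinj
    · rw [h, h']
    · rw [h, h', add_comm]
    · exact absurd (h.trans h'.symm) hinj
  have h1 : n • (Dd + V) = n • (F7 + F16 + P1) := by rw [lin_rel]
  have a1 : n • (Dd + V) = n • Dd + n • V := n.2.1 _ _
  have a2 : n • (F7 + F16 + P1) = n • (F7 + F16) + n • P1 := n.2.1 _ _
  have a3 : n • (F7 + F16) = n • F7 + n • F16 := n.2.1 _ _
  rw [a1, a2, a3, hsum, hv, hp, ← lin_rel] at h1
  exact add_right_cancel h1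

/-! ### The fourth step: inside the group of order 384 -/

/-- The normalizer of the Sylow subgroup in the group of order 384. -/
def NS : Subgroup ↥Co0 where
  carrier := {g | g ∈ Kinf ∧ ∀ s, s ∈ Syl ↔ g * s * g⁻¹ ∈ Syl}
  one_mem' := ⟨Kinf.one_mem, fun s => by simp⟩
  mul_mem' := by
    rintro a b ⟨ha, ha'⟩ ⟨hb, hb'⟩
    refine ⟨Kinf.mul_mem ha hb, fun s => ?_⟩
    rw [hb' s, ha' (b * s * b⁻¹)]
    have : a * (b * s * b⁻¹) * a⁻¹ = a * b * s * (a * b)⁻¹ := by group
    rw [this]
  inv_mem' := by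
    rintro a ⟨ha, ha'⟩
    refine ⟨Kinf.inv_mem ha, fun s => ?_⟩
    rw [ha' (a⁻¹ * s * a⁻¹⁻¹)]
    have : a * (a⁻¹ * s * a⁻¹⁻¹) * a⁻¹ = s := by group
    rw [this]

theorem Syl_le_NS : Syl ≤ NS := by
  intro g hg
  refine ⟨Syl_le_Kinf hg, fun s => ⟨fun hs => Syl.mul_mem (Syl.mul_mem hg hs) (Syl.inv_mem hg),
    fun hs => ?_⟩⟩
  have : s = g⁻¹ * (g * s * g⁻¹) * g := by group
  rw [this]
  exact Syl.mul_mem (Syl.mul_mem (Syl.inv_mem hg) hs) hg

theorem NS_le_Kinf : NS ≤ Kinf := fun _ h => h.1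

/-- A generator moving the second pair. -/
theorem S0_moves : ∃ s ∈ Syl, s • ({Q3, Q4} : Set leechLattice) ≠ {Q3, Q4} := by
  have hi : isPermM (sgen i0) = true := by decide +kernel
  have hm := sgen_mem_list i0 hi
  refine ⟨elW [sgen i0], gen_mem_Syl hm, ?_⟩
  rw [smul_pair]
  intro h
  have hk := k7_ok
  rw [Bool.and_eq_true] at hk
  have h1 : elW [sgen i0] • Q3 ∈ ({Q3, Q4} : Set leechLattice) := by
    rw [← h]; exact Set.mem_insert _ _
  have a1 : ((elW [sgen i0] • Q3 : leechLattice) : GolayPt → ℤ) = vecC (applyM (sgen i0) cq3) :=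
    elW_apply [sgen i0] (sgen_ok hm).1 (sgen_ok hm).2 cq3 Q3 rfl
  rcases h1 with h1 | h1
  · rw [h1] at a1
    have := code_eq_of_vecC_eq cq3_lt (applyM_lt _ _) a1
    have hk1 := hk.1
    rw [← this, Nat.beq_refl] at hk1
    exact absurd hk1 (by decide)
  · rw [Set.mem_singleton_iff] at h1
    rw [h1] at a1
    have := code_eq_of_vecC_eq cq4_lt (applyM_lt _ _) a1
    have hk2 := hk.2
    rw [← this, Nat.beq_refl] at hk2
    exact absurd hk2 (by decide)

theorem NS_ne_Kinf : NS ≠ Kinf := by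
  intro h
  have hK : K1⁻¹ ∈ NS := by rw [h]; exact Kinf.inv_mem K1_mem
  obtain ⟨s, hs, hne⟩ := S0_moves
  have h1 := (hK.2 s).mp hs
  have h2 : (K1⁻¹ * s * K1⁻¹⁻¹) • Pair = Pair := h1.2
  apply hne
  rw [← K1_pair]
  have h3 : s • (K1 • Pair) = K1 • ((K1⁻¹ * s * K1⁻¹⁻¹) • Pair) := by
    rw [← mul_smul, ← mul_smul]
    congr 1
    group
  rw [h3, h2]

theorem NS_eq_Syl : NS = Syl := by
  have h1 : Nat.card Syl ∣ Nat.card NS := Subgroup.card_dvd_of_le Syl_le_NS
  have h2 : Nat.card NS ∣ Nat.card Kinf := Subgroup.card_dvd_of_le NS_le_Kinf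
  rw [card_Syl] at h1
  rw [card_Kinf] at h2
  obtain ⟨k, hk⟩ := h1
  have hk3 : k ∣ 3 := by
    rw [hk] at h2
    exact (Nat.mul_dvd_mul_iff_left (by norm_num : 0 < 128)).mp (by simpa using h2)
  have hk' : k = 1 ∨ k = 3 := by
    have := Nat.le_of_dvd (by norm_num) hk3
    interval_cases k <;> simp_all
  rcases hk' with rfl | rfl
  · symm
    apply Subgroup.eq_of_le_of_card_ge Syl_le_NS
    rw [hk, card_Syl]
  · exfalso
    apply NS_ne_Kinf
    apply Subgroup.eq_of_le_of_card_ge NS_le_Kinf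
    rw [hk, card_Kinf]

theorem step4 (n : ↥Co0) (hnK : n ∈ Kinf) (hn : Nrm n) : n ∈ Syl := by
  rw [← NS_eq_Syl]
  refine ⟨hnK, fun s => ⟨fun hs => hn s hs, fun hs => ?_⟩⟩
  have := hn.inv _ hs
  have e : n⁻¹ * (n * s * n⁻¹) * n = s := by group
  rw [e] at this
  exact this

/-- The Sylow subgroup is self-normalizing in the stabiliser of `v`, `w`. -/
theorem normalizer_le (n : ↥Co0) (hn2 : n ∈ PS B2) (hn : Nrm n) : n ∈ Syl := by
  have h2 := (mem_PS_list B2 n).mp hn2
  have s1 := step1 n hn2 hn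
  have hn3 : n ∈ PS B3 := by
    rw [mem_PS_list]
    intro b hb
    simp only [B3, List.mem_cons, List.not_mem_nil, or_false] at hb
    rcases hb with rfl | rfl | rfl
    · exact h2 _ (by decide)
    · exact h2 _ (by decide)
    · exact (fixes_iff n cp1 cp1_mem).mpr s1
  have h3 := (mem_PS_list B3 n).mp hn3
  have s2 := step2 n hn3 hn
  have hn4 : n ∈ PS B4 := by
    rw [mem_PS_list]
    intro b hb
    simp only [B4, List.mem_cons, List.not_mem_nil, or_false] at hb
    rcases hb with rfl | rfl | rfl | rfl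
    · exact h3 _ (by decide)
    · exact h3 _ (by decide)
    · exact h3 _ (by decide)
    · exact (fixes_iff n ch ch_mem).mpr s2
  have h4 := (mem_PS_list B4 n).mp hn4
  have s3 := step3 n hn4 hn
  have hn5 : n ∈ Kinf := by
    show n ∈ PS B5
    rw [mem_PS_list]
    intro b hb
    simp only [B5, List.mem_cons, List.not_mem_nil, or_false] at hb
    rcases hb with rfl | rfl | rfl | rfl | rfl
    · exact h4 _ (by decide)
    · exact h4 _ (by decide)
    · exact h4 _ (by decide)
    · exact h4 _ (by decide)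
    · exact (fixes_iff n cd cd_mem).mpr s3
  exact step4 n hn5 hn

/-! ### The centre and generation -/

/-- The central involution. -/
noncomputable def zS : ↥Co0 := gS jz

theorem center_cases (c : ↥Co0) (hc : c ∈ Syl) (hcc : ∀ s ∈ Syl, s * c = c * s) :
    c = 1 ∨ c = zS := by
  obtain ⟨j, hj, rfl⟩ := exists_gS c hc
  have hchk := (allFold_eq_true _ _).mp noncentral_ok j hj
  rw [Bool.or_eq_true, Bool.or_eq_true] at hchk
  rcases hchk with (h | h) | h
  · left
    have hj1 : j = j1 := Nat.eq_of_beq_eq_true h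
    show elW (wm j) = 1
    rw [hj1, wm_j1, elW_nil]
  · right
    have hjz : j = jz := Nat.eq_of_beq_eq_true h
    rw [hjz]
    rfl
  · exfalso
    rw [List.any_eq_true] at h
    obtain ⟨m, hm, hne⟩ := h
    have hcomm := hcc _ (gen_mem_Syl hm)
    obtain ⟨g1, p1⟩ := wm_ok j hj
    obtain ⟨g2, p2⟩ := sgen_ok hm
    have e1 : elW (wm j ++ [m]) = elW [m] * gS j := elW_append _ _ g1 p1 g2 p2
    have e2 : elW ([m] ++ wm j) = gS j * elW [m] := elW_append _ _ g2 p2 g1 p1
    have e3 : elW (wm j ++ [m]) = elW ([m] ++ wm j) := by rw [e1, e2, hcomm]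
    have a1 := elW_apply (wm j ++ [m]) (goodW_append _ _ g1 g2) (permOnly_append _ _ p1 p2) cu U rfl
    have a2 := elW_apply ([m] ++ wm j) (goodW_append _ _ g2 g1) (permOnly_append _ _ p2 p1) cu U rfl
    rw [e3, a2] at a1
    have := code_eq_of_vecC_eq (applyW_lt _ _ cu_lt) (applyW_lt _ _ cu_lt) a1
    have hne' : (!(Nat.beq (applyW (wm j ++ [m]) cu) (applyW ([m] ++ wm j) cu))) = true := hne
    rw [← this, Nat.beq_refl] at hne'
    exact absurd hne' (by decide)

/-- The generating set: the four involutions. -/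
def XS : Set ↥Co0 := {x | ∃ m ∈ sgenL, x = elW [m]}

theorem XS_sub : XS ⊆ Syl := by
  rintro x ⟨m, hm, rfl⟩
  exact gen_mem_Syl hm

theorem Syl_le_closure : Syl ≤ Subgroup.closure XS := by
  intro g hg
  obtain ⟨j, hj, rfl⟩ := exists_gS g hg
  exact gS_mem _ (fun m hm => Subgroup.subset_closure (show elW [m] ∈ XS from ⟨m, hm, rfl⟩)) j hj

theorem XS_conj : ∀ x ∈ XS, ∃ g ∈ PS B2, x = g * zS * g⁻¹ := by
  rintro x ⟨m, hm, rfl⟩
  obtain ⟨i, hi, him⟩ := List.mem_iff_getElem.mp hm
  have hi4 : i < 4 := hi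
  have hs : sgen i = m := by
    unfold sgen
    rw [List.getD_eq_getElem _ _ hi, him]
  have hhL : hconj i ∈ hconjL := by
    unfold hconj
    have hi' : i < hconjL.length := hi4
    rw [List.getD_eq_getElem _ _ hi']
    exact List.getElem_mem hi'
  obtain ⟨g1, p1⟩ := sgen_ok hm
  obtain ⟨g2, p2⟩ := hconj_ok hhL
  obtain ⟨g3, p3⟩ := wm_ok jz (by decide)
  have hc := (allFold_eq_true _ _).mp ((allFold_eq_true _ _).mp conj_ok i hi4)
  have hc' : allFold (fun t => Nat.beq (applyW ([hconj i] ++ [m]) (code8 t))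
      (applyW (wm jz ++ [hconj i]) (code8 t))) 24 = true := by
    rw [allFold_eq_true]
    intro t ht
    have := hc t ht
    rw [hs] at this
    exact this
  have e := elW_eq _ _ (goodW_append _ _ g2 g1) (permOnly_append _ _ p2 p1)
    (goodW_append _ _ g3 g2) (permOnly_append _ _ p3 p2) hc'
  rw [elW_append _ _ g2 p2 g1 p1, elW_append _ _ g3 p3 g2 p2] at e
  refine ⟨elW [hconj i], ?_, ?_⟩
  · have h := List.all_eq_true.mp hconj_fix (hconj i) hhL
    exact elW_mem_PS _ g2 p2 B2 h
  · show elW [m] = elW [hconj i] * elW (wm jz) * (elW [hconj i])⁻¹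
    rw [← e]
    group

theorem Syl_le_PS_B2 : Syl ≤ PS B2 :=
  Syl_le_Kinf.trans (PS_anti (by decide))

theorem isPGroup_Syl : IsPGroup 2 Syl := IsPGroup.of_card (n := 7) (by rw [card_Syl]; norm_num)

theorem Syl_ne_bot : Syl ≠ ⊥ := by
  intro h
  have := card_Syl
  rw [h, Subgroup.card_bot] at this
  exact absurd this (by norm_num)

open Cfsg.Agent.Lib.Helper26_FusLocal in
/-- The local hypotheses for the Sylow subgroup, inside the stabiliser of `v`, `w`. -/
theorem fusLocal_Syl : FusLocal (Syl.subgroupOf (PS B2)) (Syl.subgroupOf (PS B2)) :=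
  haveI : Fact (Nat.Prime 2) := ⟨Nat.prime_two⟩
  Cfsg.Agent.Lib.Helper26_FusAbs.fusLocal_subgroupOf 2 (PS B2) Syl Syl_le_PS_B2 isPGroup_Syl
    Syl_ne_bot normalizer_le zS center_cases XS XS_sub XS_conj Syl_le_closure

theorem factorization_card : (Nat.card (PS B2)).factorization 2 = 7 := by
  rw [card_PS_B2, show (898128000 : ℕ) = 2 ^ 7 * 7016625 by norm_num,
    Nat.factorization_mul (by norm_num) (by norm_num), Nat.Prime.factorization_pow Nat.prime_two]
  simp [Nat.factorization_eq_zero_of_not_dvd]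

open Cfsg.Agent.Lib.Helper26_FusLocal in
/-- A Sylow 2-subgroup of the stabiliser of `v`, `w` satisfying the local hypotheses. -/
theorem exists_sylow_fusLocal :
    ∃ (_ : Finite ↥(PS B2)) (S : Sylow 2 ↥(PS B2)) (Q : Subgroup ↥(PS B2)),
      FusLocal (S : Subgroup ↥(PS B2)) Q := by
  have : Fact (Nat.Prime 2) := ⟨Nat.prime_two⟩
  refine ⟨inferInstance, Sylow.ofCard (Syl.subgroupOf (PS B2)) ?_, Syl.subgroupOf (PS B2), ?_⟩
  · rw [Nat.card_congr (Subgroup.subgroupOfEquivOfLe Syl_le_PS_B2).toEquiv, card_Syl,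
      factorization_card]
    norm_num
  · rw [Sylow.coe_ofCard]
    exact fusLocal_Syl

/-- The stabiliser of `v`, `w` is isomorphic to the McLaughlin group. -/
theorem nonempty_iso : Nonempty (↥(PS B2) ≃* ↥Cfsg.Spor.McL) := by
  obtain ⟨h, h1, h2⟩ := Cfsg.Agent.Lib.Helper92_McL.pair_transM V W
    Cfsg.Agent.Lib.Helper92_Co3Cent.UL Cfsg.Agent.Lib.Helper92_Co3Cent.M3 V_norm W_norm VW_dot
    Cfsg.Agent.Lib.Helper92_Co3Cent.norm_UL Cfsg.Agent.Lib.Helper93_McLGen.norm_M3
    Cfsg.Agent.Lib.Helper93_McLGen.dot_UL_M3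
  have e0 := Cfsg.Agent.Lib.Helper92_RankSimple.conjInf (G := ↥Co0) h V W
  rw [h1, h2] at e0
  exact ⟨((MulEquiv.subgroupCongr PS_B2_eq).trans e0).trans
    Cfsg.Agent.Lib.Helper93_McLMain.isoMcL⟩

end Cfsg.Agent.Lib.Helper26_McLSyl
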