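import Mathlib
import Cfsg.Agent.Lib.Helper38_OTDefs
import Cfsg.Agent.Lib.Helper94_OrthVec

set_option autoImplicit false
set_option linter.unusedSectionVars false
set_option linter.unusedVariables false

/-!
OTENS4 (market `otens4_packages`, architect helper38), package OT-GEN1B, the core (helper26):
`gen1b_of`, the statement of `gen1b` with the statements of TORUS (`exists_uG_move`), KMEM
(`tmE_mem`) and OG (`tmE_mem_oG`) as hypotheses.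
-/

namespace Cfsg.Agent.Lib.Helper26_OT_GEN1Baux

open Matrix Module
open Cfsg.Agent.Lib.Helper98_ExtDefs Cfsg.Agent.Lib.Helper97_TensDefs
open Cfsg.Agent.Lib.Helper94_Herm
open Cfsg.Agent.Lib.Helper67_UT2Defs Cfsg.Agent.Lib.Helper37_UTDefs
open Cfsg.Agent.Lib.Helper37_UTPairDefs
open Cfsg.Agent.Lib.Helper94_OrthSmall Cfsg.Agent.Lib.Helper94_OrthSiegel
open Cfsg.Agent.Lib.Helper94_OrthNondeg (InZ)
open Cfsg.Agent.Lib.Helper67_T2ODefs (IsAltMap aw)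
open Cfsg.Agent.Lib.Helper38_OTDefs

variable {F : Type*} [Field F] {ι κ : Type*} [Fintype ι] [Fintype κ] [DecidableEq ι]
  [DecidableEq κ]
variable {α : LinearMap.BilinForm F (ι → F)} {β : LinearMap.BilinForm F (κ → F)}
variable {Q : Matrix ι κ F → F} {M : Subgroup (Matrix ι κ F ≃ₗ[F] Matrix ι κ F)}

theorem gen1b_of [Finite F] (hC : OTCtx α β Q M) {x : ι → F} {y : κ → F} (hx : x ≠ 0)
    (hy : y ≠ 0)
    (h : ∀ z : κ → F, β y z = 0 → InZ Q (tf α β) M (vecMulVec x y) (vecMulVec x z))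
    (hmoveA : ∀ {v v' : ι → F}, v ≠ 0 → v' ≠ 0 → ∃ T : (ι → F) ≃ₗ[F] (ι → F), T ∈ uG α ∧ T v = v')
    (hmoveB : ∀ {v v' : κ → F}, v ≠ 0 → v' ≠ 0 → ∃ T : (κ → F) ≃ₗ[F] (κ → F), T ∈ uG β ∧ T v = v')
    (hmem : ∀ {P : (ι → F) ≃ₗ[F] (ι → F)} {R : (κ → F) ≃ₗ[F] (κ → F)}, P ∈ uG α → R ∈ uG β →
      tmE P R ∈ M)
    (hoG : ∀ {P : (ι → F) ≃ₗ[F] (ι → F)} {R : (κ → F) ≃ₗ[F] (κ → F)}, P ∈ uG α → R ∈ uG β →
      tmE P R ∈ oG Q) :
    ∀ (x' : ι → F) (y' z' : κ → F), x' ≠ 0 → y' ≠ 0 → β y' z' = 0 →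
      InZ Q (tf α β) M (vecMulVec x' y') (vecMulVec x' z') := by
  intro x' y' z' hx' hy' hyz'
  obtain ⟨P, hP, hPx⟩ := hmoveA hx hx'
  obtain ⟨R, hR, hRy⟩ := hmoveB hy hy'
  have hz : β y (R.symm z') = 0 := by
    have := hR y (R.symm z')
    rw [hRy, LinearEquiv.apply_symm_apply] at this
    rw [← this, hyz']
  have h1 := Cfsg.Agent.Lib.Helper94_OrthNondeg.InZ_map hC.hQs hC.hQp (hmem hP hR) (hoG hP hR)
    (hC.hpure x y) (h _ hz)
  rw [tmE_pure, tmE_pure, hPx, hRy, LinearEquiv.apply_symm_apply] at h1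
  exact h1

end Cfsg.Agent.Lib.Helper26_OT_GEN1Baux
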