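import Mathlib
import Cfsg.Agent.Lib.Helper97_OX3Defs
import Cfsg.Agent.Lib.Helper94_OrthVec

set_option autoImplicit false
set_option linter.unusedSectionVars false
set_option linter.unusedVariables false

/-!
# OEXT3 (market `oext3_packages`, architect helper97): package TT_SQ (helper26)

A nonsquare of `F` stays a nonsquare in a cubic extension: a square root `k` of `f` in `K` has a
minimal polynomial of degree at most two dividing `3 = [K : F]`, so `k ∈ F`.
(Neither finiteness nor `2 ≠ 0` is used.)
-/

namespace Cfsg.Agent.Lib.Helper26_OX3_TT_SQ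

open Module Cfsg.Agent.Lib.Helper94_OrthSmall Cfsg.Agent.Lib.Helper94_OrthSiegel
  Cfsg.Agent.Lib.Helper98_ExtDefs Cfsg.Agent.Lib.Helper97_OX2Defs
  Cfsg.Agent.Lib.Helper97_OX3Defs
open scoped commutatorElement

/-- TT_SQ: a nonsquare of `F` stays a nonsquare in a cubic extension (finite fields) -/
theorem nonsq_of_nonsq {F K : Type*} [Field F] [Field K] [Algebra F K] [Finite F] [Finite K]
    (h2 : (2 : F) ≠ 0) (hdim : finrank F K = 3) {f : F} (hf : ¬ IsSquare f) :
    ¬ IsSquare (algebraMap F K f) := by
  rintro ⟨k, hk⟩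
  haveI : FiniteDimensional F K := Module.finite_of_finrank_pos (by omega)
  have hint : IsIntegral F k := Algebra.IsIntegral.isIntegral k
  -- `k` is a root of `X ^ 2 - C f`
  have hmon : (Polynomial.X ^ 2 - Polynomial.C f : Polynomial F).Monic :=
    Polynomial.monic_X_pow_sub_C f (by norm_num)
  have hroot : Polynomial.aeval k (Polynomial.X ^ 2 - Polynomial.C f : Polynomial F) = 0 := by
    simp only [map_sub, map_pow, Polynomial.aeval_X, Polynomial.aeval_C]
    rw [hk, pow_two, sub_self]
  have hle : (minpoly F k).natDegree ≤ 2 := by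
    have h1 := Polynomial.natDegree_le_natDegree (minpoly.min F k hmon hroot)
    have h2' : (Polynomial.X ^ 2 - Polynomial.C f : Polynomial F).natDegree = 2 :=
      Polynomial.natDegree_X_pow_sub_C
    omega
  have hdvd : (minpoly F k).natDegree ∣ 3 := hdim ▸ minpoly.degree_dvd hint
  have hpos : 0 < (minpoly F k).natDegree := minpoly.natDegree_pos hint
  have hone : (minpoly F k).natDegree = 1 := by
    rcases (Nat.dvd_prime Nat.prime_three).mp hdvd with h | h
    · exact h
    · omega
  have hdeg : (minpoly F k).degree = 1 := by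
    rw [Polynomial.degree_eq_natDegree (minpoly.ne_zero hint), hone]
    rfl
  obtain ⟨k', rfl⟩ := minpoly.mem_range_of_degree_eq_one F k hdeg
  apply hf
  refine ⟨k', ?_⟩
  apply (algebraMap F K).injective
  rw [hk, map_mul]

end Cfsg.Agent.Lib.Helper26_OX3_TT_SQ
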