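import Mathlib
import Cfsg.Agent.Lib.Helper26_M24Act
import Cfsg.Agent.Lib.Helper26_M24Trans

/-!
Intersection numbers of octads with a fixed octad, and of dodecads with a fixed dodecad.
-/

set_option autoImplicit false
set_option linter.constructorNameAsVariable false
open Cfsg
open scoped Pointwise

namespace Cfsg.Agent.Lib.Helper26_Golay

theorem card_inter_smul_pts (g : Equiv.Perm GolayPt) (s t : Finset GolayPt) :
    (g • s ∩ g • t).card = (s ∩ t).card := by
  rw [← Finset.smul_finset_inter, card_smul_pts]

theorem card_inter_smul_left (g : Equiv.Perm GolayPt) (s t : Finset GolayPt) :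
    (g • s ∩ t).card = (s ∩ g⁻¹ • t).card := by
  conv_lhs => rw [← smul_inv_smul g t]
  rw [card_inter_smul_pts]

/-- Number of octads meeting the octad `o` in `k` points. -/
theorem octad_meet_count {o : Finset GolayPt} (ho : o ∈ octads) (k : ℕ) :
    (octFinset.filter (fun y => (o ∩ y).card = k)).card =
      countOct (fun n => pop (octAt 0 &&& n) == k) := by
  obtain ⟨g, hg, rfl⟩ := exists_smul_oct0_eq ho
  have hbase : (octFinset.filter (fun y => (oct0 ∩ y).card = k)).card =
      countOct (fun n => pop (octAt 0 &&& n) == k) := by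
    apply card_filter_octFinset
    intro n hn
    rw [card_inter_eq_pop, enc_oct0, enc_dec n (lt_of_isCode ((mem_octList_iff n).mp hn).1),
      beq_iff_eq]
  rw [← hbase]
  apply card_filter_octFinset_smul hg
  intro x _
  rw [card_inter_smul_pts]

theorem countOct_meet0 : countOct (fun n => pop (octAt 0 &&& n) == 0) = 30 := by decide +kernel
theorem countOct_meet2 : countOct (fun n => pop (octAt 0 &&& n) == 2) = 448 := by decide +kernel
theorem countOct_meet4 : countOct (fun n => pop (octAt 0 &&& n) == 4) = 280 := by decide +kernel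
theorem countOct_meet8 : countOct (fun n => pop (octAt 0 &&& n) == 8) = 1 := by decide +kernel

theorem base_octad_meets : ∀ n ∈ octList, pop (octAt 0 &&& n) = 0 ∨ pop (octAt 0 &&& n) = 2 ∨
    pop (octAt 0 &&& n) = 4 ∨ pop (octAt 0 &&& n) = 8 := by
  decide +kernel

/-- Two octads meet in 0, 2, 4 or 8 points. -/
theorem octad_meet_mem {o y : Finset GolayPt} (ho : o ∈ octads) (hy : y ∈ octads) :
    (o ∩ y).card = 0 ∨ (o ∩ y).card = 2 ∨ (o ∩ y).card = 4 ∨ (o ∩ y).card = 8 := by
  obtain ⟨g, hg, rfl⟩ := exists_smul_oct0_eq ho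
  rw [card_inter_smul_left, card_inter_eq_pop, enc_oct0]
  exact base_octad_meets _ ((mem_octads_iff _).mp (smul_mem_octads (M24.inv_mem hg) hy))

/-- Number of dodecads meeting the dodecad `d` in `k` points. -/
theorem dodecad_meet_count {d : Finset GolayPt} (hd : d ∈ dodecads) (k : ℕ) :
    (dodFinset.filter (fun y => (d ∩ y).card = k)).card =
      countDod (fun n => pop (dodAt 0 &&& n) == k) := by
  obtain ⟨g, hg, rfl⟩ := exists_smul_dod0_eq hd
  have hbase : (dodFinset.filter (fun y => (dod0 ∩ y).card = k)).card =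
      countDod (fun n => pop (dodAt 0 &&& n) == k) := by
    apply card_filter_dodFinset
    intro n hn
    rw [card_inter_eq_pop, enc_dod0, enc_dec n (lt_of_isCode ((mem_dodList_iff n).mp hn).1),
      beq_iff_eq]
  rw [← hbase]
  apply card_filter_dodFinset_smul hg
  intro x _
  rw [card_inter_smul_pts]

theorem countDod_meet0 : countDod (fun n => pop (dodAt 0 &&& n) == 0) = 1 := by decide +kernel
theorem countDod_meet4 : countDod (fun n => pop (dodAt 0 &&& n) == 4) = 495 := by decide +kernel
theorem countDod_meet6 : countDod (fun n => pop (dodAt 0 &&& n) == 6) = 1584 := by decide +kernel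
theorem countDod_meet8 : countDod (fun n => pop (dodAt 0 &&& n) == 8) = 495 := by decide +kernel
theorem countDod_meet12 : countDod (fun n => pop (dodAt 0 &&& n) == 12) = 1 := by decide +kernel

theorem base_dodecad_meets : ∀ n ∈ dodList, pop (dodAt 0 &&& n) = 0 ∨ pop (dodAt 0 &&& n) = 4 ∨
    pop (dodAt 0 &&& n) = 6 ∨ pop (dodAt 0 &&& n) = 8 ∨ pop (dodAt 0 &&& n) = 12 := by
  decide +kernel

/-- Two dodecads meet in 0, 4, 6, 8 or 12 points. -/
theorem dodecad_meet_mem {d y : Finset GolayPt} (hd : d ∈ dodecads) (hy : y ∈ dodecads) :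
    (d ∩ y).card = 0 ∨ (d ∩ y).card = 4 ∨ (d ∩ y).card = 6 ∨ (d ∩ y).card = 8 ∨
      (d ∩ y).card = 12 := by
  obtain ⟨g, hg, rfl⟩ := exists_smul_dod0_eq hd
  rw [card_inter_smul_left, card_inter_eq_pop, enc_dod0]
  exact base_dodecad_meets _ ((mem_dodecads_iff _).mp (smul_mem_dodecads (M24.inv_mem hg) hy))

/-- Number of dodecads whose intersection size with the dodecad `d` satisfies `φ`. -/
theorem dodecad_meet_count_gen {d : Finset GolayPt} (hd : d ∈ dodecads) (φ : ℕ → Bool) :
    (dodFinset.filter (fun y => φ ((d ∩ y).card) = true)).card =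
      countDod (fun n => φ (pop (dodAt 0 &&& n))) := by
  obtain ⟨g, hg, rfl⟩ := exists_smul_dod0_eq hd
  have hbase : (dodFinset.filter (fun y => φ ((dod0 ∩ y).card) = true)).card =
      countDod (fun n => φ (pop (dodAt 0 &&& n))) := by
    apply card_filter_dodFinset
    intro n hn
    rw [card_inter_eq_pop, enc_dod0, enc_dec n (lt_of_isCode ((mem_dodList_iff n).mp hn).1)]
  rw [← hbase]
  apply card_filter_dodFinset_smul hg
  intro x _
  rw [card_inter_smul_pts]

/-- Number of octads whose intersection size with the octad `o` satisfies `φ`. -/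
theorem octad_meet_count_gen {o : Finset GolayPt} (ho : o ∈ octads) (φ : ℕ → Bool) :
    (octFinset.filter (fun y => φ ((o ∩ y).card) = true)).card =
      countOct (fun n => φ (pop (octAt 0 &&& n))) := by
  obtain ⟨g, hg, rfl⟩ := exists_smul_oct0_eq ho
  have hbase : (octFinset.filter (fun y => φ ((oct0 ∩ y).card) = true)).card =
      countOct (fun n => φ (pop (octAt 0 &&& n))) := by
    apply card_filter_octFinset
    intro n hn
    rw [card_inter_eq_pop, enc_oct0, enc_dec n (lt_of_isCode ((mem_octList_iff n).mp hn).1)]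
  rw [← hbase]
  apply card_filter_octFinset_smul hg
  intro x _
  rw [card_inter_smul_pts]

theorem compl_mem_dodecads {e : Finset GolayPt} (he : e ∈ dodecads) : eᶜ ∈ dodecads := by
  refine ⟨supports_compl he.1, ?_⟩
  rw [Finset.card_compl, he.2]
  rfl

end Cfsg.Agent.Lib.Helper26_Golay
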