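import Mathlib
import Cfsg.Agent.S0364
import Cfsg.Agent.S0381
import Cfsg.Agent.Lib.Helper26_GolaySets
import Cfsg.Agent.Lib.Helper26_M24Trans
import Cfsg.Agent.Lib.Helper26_M24Act
import Cfsg.Agent.Lib.Helper26_Maximal

/-!
The setwise stabiliser of an octad in `M24`, its restriction homomorphism to the symmetric group
of the octad, and the orders of the stabiliser (322560), of the kernel (16) and of the image
(20160), which is therefore the alternating group.
-/

set_option autoImplicit false
set_option linter.constructorNameAsVariable false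

open Cfsg
open scoped Pointwise

namespace Cfsg.Agent.Lib.Helper26_Golay

/-- The setwise stabiliser in `M24` of a set of points, inside the symmetric group. -/
abbrev setStab (o : Finset GolayPt) : Subgroup (Equiv.Perm GolayPt) :=
  M24 ⊓ MulAction.stabilizer (Equiv.Perm GolayPt) o

/-- The pointwise stabiliser in `M24` of a set of points. -/
abbrev ptStab (o : Finset GolayPt) : Subgroup (Equiv.Perm GolayPt) :=
  M24 ⊓ fixingSubgroup (Equiv.Perm GolayPt) (o : Set GolayPt)

theorem mem_iff_of_smul_eq {g : Equiv.Perm GolayPt} {o : Finset GolayPt} (h : g • o = o)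
    (x : GolayPt) : g x ∈ o ↔ x ∈ o := by
  conv_lhs => rw [← h]
  rw [← Equiv.Perm.smul_def, Finset.smul_mem_smul_finset_iff]

theorem smul_eq_of_mem_iff {g : Equiv.Perm GolayPt} {o : Finset GolayPt}
    (h : ∀ x, g x ∈ o ↔ x ∈ o) : g • o = o := by
  ext y
  rw [Finset.mem_smul_finset]
  constructor
  · rintro ⟨x, hx, rfl⟩
    exact (h x).mpr hx
  · intro hy
    refine ⟨g⁻¹ y, ?_, ?_⟩
    · rw [← h]
      simpa using hy
    · simp [Equiv.Perm.smul_def]

theorem mem_setStab_iff (o : Finset GolayPt) (g : Equiv.Perm GolayPt) :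
    g ∈ setStab o ↔ g ∈ M24 ∧ g • o = o :=
  ⟨fun h => ⟨h.1, MulAction.mem_stabilizer_iff.mp h.2⟩,
    fun h => ⟨h.1, MulAction.mem_stabilizer_iff.mpr h.2⟩⟩

theorem mem_ptStab_iff (o : Finset GolayPt) (g : Equiv.Perm GolayPt) :
    g ∈ ptStab o ↔ g ∈ M24 ∧ ∀ p ∈ o, g p = p := by
  rw [Subgroup.mem_inf, mem_fixingSubgroup_iff]
  rfl

theorem ptStab_le_setStab (o : Finset GolayPt) : ptStab o ≤ setStab o := by
  intro g hg
  rw [mem_ptStab_iff] at hg
  rw [mem_setStab_iff]
  refine ⟨hg.1, smul_eq_of_mem_iff fun x => ?_⟩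
  constructor
  · intro hx
    have h2 := hg.2 (g x) hx
    have h3 : g x = x := g.injective h2
    rwa [h3] at hx
  · intro hx
    rw [hg.2 x hx]; exact hx

/-- The restriction homomorphism from the setwise stabiliser to the symmetric group of the set. -/
def resHom (o : Finset GolayPt) : ↥(setStab o) →* Equiv.Perm ↥o where
  toFun g := (g : Equiv.Perm GolayPt).subtypePerm
    (fun x => mem_iff_of_smul_eq ((mem_setStab_iff o g).mp g.2).2 x)
  map_one' := by
    ext x
    rfl
  map_mul' a b := by
    ext x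
    rfl

theorem resHom_apply (o : Finset GolayPt) (g : ↥(setStab o)) (x : ↥o) :
    ((resHom o g x : ↥o) : GolayPt) = (g : Equiv.Perm GolayPt) x := rfl

/-- The image of the restriction homomorphism, as the set appearing in the statements. -/
theorem coe_range_resHom (o : Finset GolayPt) :
    ((resHom o).range : Set (Equiv.Perm ↥o)) =
      {e : Equiv.Perm ↥o | ∃ g : Equiv.Perm GolayPt, g ∈ M24 ∧
        ∃ h : (∀ x, g x ∈ o ↔ x ∈ o), g.subtypePerm h = e} := by
  ext e
  constructor
  · rintro ⟨g, rfl⟩
    exact ⟨g, ((mem_setStab_iff o g).mp g.2).1,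
      fun x => mem_iff_of_smul_eq ((mem_setStab_iff o g).mp g.2).2 x, rfl⟩
  · rintro ⟨g, hg, h, rfl⟩
    exact ⟨⟨g, (mem_setStab_iff o g).mpr ⟨hg, smul_eq_of_mem_iff h⟩⟩, rfl⟩

theorem ker_resHom (o : Finset GolayPt) :
    (resHom o).ker = (ptStab o).subgroupOf (setStab o) := by
  ext g
  rw [MonoidHom.mem_ker, Subgroup.mem_subgroupOf, mem_ptStab_iff]
  constructor
  · intro h
    refine ⟨((mem_setStab_iff o g).mp g.2).1, fun p hp => ?_⟩
    have := congrArg (fun e : Equiv.Perm ↥o => ((e ⟨p, hp⟩ : ↥o) : GolayPt)) h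
    simpa [resHom_apply] using this
  · intro h
    refine Equiv.ext fun x => Subtype.ext ?_
    rw [resHom_apply]
    exact h.2 x x.2

theorem orbit_eq_octads {o : Finset GolayPt} (ho : o ∈ octads) :
    MulAction.orbit (↥M24) o = octads := by
  ext y
  constructor
  · rintro ⟨g, rfl⟩
    exact smul_mem_octads g.2 ho
  · intro hy
    obtain ⟨g, hg, rfl⟩ := exists_smul_oct0_eq ho
    obtain ⟨g', hg', rfl⟩ := exists_smul_oct0_eq hy
    refine ⟨⟨g' * g⁻¹, M24.mul_mem hg' (M24.inv_mem hg)⟩, ?_⟩
    show (g' * g⁻¹) • g • oct0 = g' • oct0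
    rw [mul_smul, inv_smul_smul]

theorem card_stabilizer_octad {o : Finset GolayPt} (ho : o ∈ octads) :
    Nat.card (MulAction.stabilizer (↥M24) o) = 322560 := by
  have h1 := Subgroup.card_mul_index (MulAction.stabilizer (↥M24) o)
  rw [MulAction.index_stabilizer, Cfsg.Agent.S0364.result, orbit_eq_octads ho, octads_ncard] at h1
  omega

theorem card_setStab {o : Finset GolayPt} (ho : o ∈ octads) : Nat.card (setStab o) = 322560 := by
  rw [← card_stabilizer_octad ho, stabilizer_subgroup_eq]
  have : (MulAction.stabilizer (Equiv.Perm GolayPt) o).subgroupOf M24 =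
      (setStab o).subgroupOf M24 := by
    rw [Subgroup.inf_subgroupOf_left]
  rw [this]
  exact (Nat.card_congr (Subgroup.subgroupOfEquivOfLe (inf_le_left)).toEquiv).symm

theorem card_range_resHom {o : Finset GolayPt} (ho : o ∈ octads) :
    Nat.card (resHom o).range = 20160 := by
  have h1 := Subgroup.card_mul_index (resHom o).ker
  rw [Subgroup.index_ker, card_setStab ho, ker_resHom] at h1
  have h2 : Nat.card ((ptStab o).subgroupOf (setStab o)) = 16 := by
    rw [Nat.card_congr (Subgroup.subgroupOfEquivOfLe (ptStab_le_setStab o)).toEquiv]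
    exact (Cfsg.Agent.S0381.result o ho).1
  rw [h2] at h1
  omega

/-- The octad stabiliser induces the alternating group on the octad. -/
theorem range_resHom {o : Finset GolayPt} (ho : o ∈ octads) :
    (resHom o).range = alternatingGroup ↥o := by
  apply Equiv.Perm.eq_alternatingGroup_of_index_eq_two
  have h1 := Subgroup.card_mul_index (resHom o).range
  rw [card_range_resHom ho, Nat.card_perm, Nat.card_eq_fintype_card, Fintype.card_coe, ho.2] at h1
  have : (8 : ℕ).factorial = 40320 := by decide
  omega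

end Cfsg.Agent.Lib.Helper26_Golay
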