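import Mathlib
import Cfsg.Agent.S0364
import Cfsg.Agent.S0367
import Cfsg.Agent.S0381
import Cfsg.Agent.Lib.Helper26_OctRes

/-!
The octad stabiliser of `M24` splits over the pointwise stabiliser of the octad: the pointwise
stabiliser is regular on the sixteen points off the octad, so the stabiliser of one of these
points is a complement, isomorphic to the alternating group induced on the octad.
-/

set_option autoImplicit false
set_option linter.constructorNameAsVariable false

open Cfsg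
open scoped Pointwise

namespace Cfsg.Agent.Lib.Helper26_Golay

/-- The pointwise stabiliser of the standard octad is transitive off the octad. -/
theorem ptStab_std_trans {p q : GolayPt} (hp : p ∉ Cfsg.Agent.S0381.stdOct)
    (hq : q ∉ Cfsg.Agent.S0381.stdOct) : ∃ k ∈ ptStab Cfsg.Agent.S0381.stdOct, k p = q := by
  have hp' : Cfsg.Agent.S0364.octMask.testBit (Cfsg.Agent.Lib.Helper7_Bits.enc p) = false := by
    rw [Cfsg.Agent.S0381.stdOct, Cfsg.Agent.Lib.Helper7_Base.mem_maskSet] at hp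
    simpa using hp
  have hq' : Cfsg.Agent.S0364.octMask.testBit (Cfsg.Agent.Lib.Helper7_Bits.enc q) = false := by
    rw [Cfsg.Agent.S0381.stdOct, Cfsg.Agent.Lib.Helper7_Base.mem_maskSet] at hq
    simpa using hq
  obtain ⟨kp, hkp, hkp4, _⟩ :=
    Cfsg.Agent.S0381.exists_elt _ (Cfsg.Agent.S0364.coOct_cases p hp')
  obtain ⟨kq, hkq, hkq4, _⟩ :=
    Cfsg.Agent.S0381.exists_elt _ (Cfsg.Agent.S0364.coOct_cases q hq')
  rw [Cfsg.Agent.Lib.Helper7_Bits.dec_enc] at hkp4 hkq4
  refine ⟨kq * kp⁻¹, mul_mem hkq (inv_mem hkp), ?_⟩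
  rw [Equiv.Perm.mul_apply, ← hkp4]
  simp only [Equiv.Perm.inv_def, Equiv.symm_apply_apply]
  exact hkq4

/-- The pointwise stabiliser of an octad is transitive off the octad. -/
theorem ptStab_trans {o : Finset GolayPt} (ho : o ∈ octads) {p q : GolayPt} (hp : p ∉ o)
    (hq : q ∉ o) : ∃ k ∈ ptStab o, k p = q := by
  obtain ⟨g, hg⟩ := Cfsg.Agent.S0367.result Cfsg.Agent.S0381.stdOct o
    Cfsg.Agent.S0381.stdOct_mem ho
  have hgo : (g : Equiv.Perm GolayPt) • Cfsg.Agent.S0381.stdOct = o := hg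
  have hmem : ∀ x : GolayPt, x ∉ o → (g : Equiv.Perm GolayPt)⁻¹ x ∉ Cfsg.Agent.S0381.stdOct := by
    intro x hx hcon
    apply hx
    rw [← hgo, Finset.mem_smul_finset]
    exact ⟨_, hcon, by simp [Equiv.Perm.smul_def]⟩
  obtain ⟨k, hk, hkpq⟩ := ptStab_std_trans (hmem p hp) (hmem q hq)
  refine ⟨(g : Equiv.Perm GolayPt) * k * (g : Equiv.Perm GolayPt)⁻¹, ?_, ?_⟩
  · have h1 := Cfsg.Agent.S0381.K_smul g g.2 Cfsg.Agent.S0381.stdOct
    rw [hgo] at h1
    show _ ∈ Cfsg.Agent.S0381.K o
    rw [← h1, Subgroup.mem_map]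
    exact ⟨k, hk, rfl⟩
  · rw [Equiv.Perm.mul_apply, Equiv.Perm.mul_apply, hkpq]
    simp only [Equiv.Perm.inv_def, Equiv.apply_symm_apply]

/-- Elements of the pointwise stabiliser of an octad commute. -/
theorem ptStab_comm {o : Finset GolayPt} (ho : o ∈ octads) {a b : Equiv.Perm GolayPt}
    (ha : a ∈ ptStab o) (hb : b ∈ ptStab o) : a * b = b * a := by
  have h := (Cfsg.Agent.S0381.result o ho).2
  have h1 := h a ha
  have h2 := h b hb
  have h3 := h (a * b) (mul_mem ha hb)
  have ha' : a⁻¹ = a := inv_eq_of_mul_eq_one_left h1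
  have hb' : b⁻¹ = b := inv_eq_of_mul_eq_one_left h2
  have h4 : (a * b)⁻¹ = a * b := inv_eq_of_mul_eq_one_left h3
  rw [mul_inv_rev, ha', hb'] at h4
  exact h4.symm

/-- The joint stabiliser of an octad and a point, in `M24`. -/
abbrev setPtStab (o : Finset GolayPt) (p : GolayPt) : Subgroup (Equiv.Perm GolayPt) :=
  M24 ⊓ MulAction.stabilizer (Equiv.Perm GolayPt) o ⊓ MulAction.stabilizer (Equiv.Perm GolayPt) p

theorem mem_setPtStab_iff (o : Finset GolayPt) (p : GolayPt) (g : Equiv.Perm GolayPt) :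
    g ∈ setPtStab o p ↔ g ∈ setStab o ∧ g p = p :=
  ⟨fun h => ⟨h.1, MulAction.mem_stabilizer_iff.mp h.2⟩,
    fun h => ⟨h.1, MulAction.mem_stabilizer_iff.mpr h.2⟩⟩

theorem setPtStab_le (o : Finset GolayPt) (p : GolayPt) : setPtStab o p ≤ setStab o :=
  inf_le_left

/-- The pointwise stabiliser of an octad meets the stabiliser of a point off it trivially. -/
theorem ptStab_inf_setPtStab {o : Finset GolayPt} (ho : o ∈ octads) {p : GolayPt} (hp : p ∉ o) :
    ptStab o ⊓ setPtStab o p = ⊥ := by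
  rw [eq_bot_iff]
  intro g hg
  rw [Subgroup.mem_bot]
  obtain ⟨hgK, hgH⟩ := hg
  have hgp : g p = p := ((mem_setPtStab_iff o p g).mp hgH).2
  apply Equiv.ext
  intro q
  rw [Equiv.Perm.one_apply]
  by_cases hq : q ∈ o
  · exact ((mem_ptStab_iff o g).mp hgK).2 q hq
  · obtain ⟨k, hk, rfl⟩ := ptStab_trans ho hp hq
    have hc := ptStab_comm ho hgK hk
    have : g (k p) = (g * k) p := rfl
    rw [this, hc, Equiv.Perm.mul_apply, hgp]

/-- Every element of the octad stabiliser is a product of an element fixing the octad pointwise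
and one fixing a given point off the octad. -/
theorem exists_mul_of_mem_setStab {o : Finset GolayPt} (ho : o ∈ octads) {p : GolayPt}
    (hp : p ∉ o) {s : Equiv.Perm GolayPt} (hs : s ∈ setStab o) :
    ∃ k ∈ ptStab o, ∃ h ∈ setPtStab o p, s = k * h := by
  have hsp : s p ∉ o := by
    rw [mem_iff_of_smul_eq ((mem_setStab_iff o s).mp hs).2]
    exact hp
  obtain ⟨k, hk, hkp⟩ := ptStab_trans ho hsp hp
  refine ⟨k⁻¹, inv_mem hk, k * s, ?_, by group⟩
  rw [mem_setPtStab_iff]
  exact ⟨mul_mem (ptStab_le_setStab o hk) hs, by rw [Equiv.Perm.mul_apply, hkp]⟩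

theorem ptStab_sup_setPtStab {o : Finset GolayPt} (ho : o ∈ octads) {p : GolayPt} (hp : p ∉ o) :
    ptStab o ⊔ setPtStab o p = setStab o := by
  apply le_antisymm
  · exact sup_le (ptStab_le_setStab o) (setPtStab_le o p)
  · intro s hs
    obtain ⟨k, hk, h, hh, rfl⟩ := exists_mul_of_mem_setStab ho hp hs
    exact mul_mem (Subgroup.mem_sup_left hk) (Subgroup.mem_sup_right hh)

/-- The restriction of the complement to the octad, with values in the alternating group. -/
noncomputable def resAlt {o : Finset GolayPt} (ho : o ∈ octads) (p : GolayPt) :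
    ↥(setPtStab o p) →* ↥(alternatingGroup ↥o) :=
  ((resHom o).comp (Subgroup.inclusion (setPtStab_le o p))).codRestrict (alternatingGroup ↥o)
    (fun x => by
      rw [← range_resHom ho]
      exact ⟨_, rfl⟩)

theorem resAlt_injective {o : Finset GolayPt} (ho : o ∈ octads) {p : GolayPt} (hp : p ∉ o) :
    Function.Injective (resAlt ho p) := by
  rw [injective_iff_map_eq_one]
  intro x hx
  have h1 : (resHom o) (Subgroup.inclusion (setPtStab_le o p) x) = 1 := by
    have := congrArg Subtype.val hx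
    exact this
  have h2 : Subgroup.inclusion (setPtStab_le o p) x ∈ (resHom o).ker := h1
  rw [ker_resHom, Subgroup.mem_subgroupOf] at h2
  have h3 : (x : Equiv.Perm GolayPt) ∈ ptStab o ⊓ setPtStab o p := ⟨h2, x.2⟩
  rw [ptStab_inf_setPtStab ho hp, Subgroup.mem_bot] at h3
  exact Subtype.ext h3

theorem resAlt_surjective {o : Finset GolayPt} (ho : o ∈ octads) {p : GolayPt} (hp : p ∉ o) :
    Function.Surjective (resAlt ho p) := by
  intro e
  have he : (e : Equiv.Perm ↥o) ∈ (resHom o).range := by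
    rw [range_resHom ho]; exact e.2
  obtain ⟨s, hs⟩ := he
  obtain ⟨k, hk, h, hh, hskh⟩ := exists_mul_of_mem_setStab ho hp s.2
  refine ⟨⟨h, hh⟩, Subtype.ext ?_⟩
  show resHom o (Subgroup.inclusion (setPtStab_le o p) ⟨h, hh⟩) = e
  rw [← hs]
  have hk' : (⟨k, ptStab_le_setStab o hk⟩ : ↥(setStab o)) ∈ (resHom o).ker := by
    rw [ker_resHom, Subgroup.mem_subgroupOf]
    exact hk
  have hs' : s = ⟨k, ptStab_le_setStab o hk⟩ * Subgroup.inclusion (setPtStab_le o p) ⟨h, hh⟩ :=
    Subtype.ext hskh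
  rw [hs', map_mul, MonoidHom.mem_ker.mp hk', one_mul]

/-- The complement is isomorphic to the alternating group of degree 8. -/
theorem nonempty_mulEquiv_alt {o : Finset GolayPt} (ho : o ∈ octads) {p : GolayPt} (hp : p ∉ o) :
    Nonempty (↥(setPtStab o p) ≃* alternatingGroup (Fin 8)) := by
  have e1 : ↥(setPtStab o p) ≃* ↥(alternatingGroup ↥o) :=
    MulEquiv.ofBijective (resAlt ho p) ⟨resAlt_injective ho hp, resAlt_surjective ho hp⟩
  have e2 : ↥o ≃ Fin 8 := Fintype.equivFinOfCardEq (by rw [Fintype.card_coe]; exact ho.2)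
  exact ⟨e1.trans (Equiv.altCongrHom e2)⟩

end Cfsg.Agent.Lib.Helper26_Golay
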