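import Cfsg.Agent.Lib.Helper50_PUDefs

/-!
# Rank-one pushing up (market `pu_packages`, helper50): package LJ (helper26)

`⁅Z(J(Q)), ⟨J^G⟩⁆ ≤ V` and `⟨J^G⟩ Q = G`.
-/

set_option autoImplicit false

namespace Cfsg.Agent.Lib.Helper26_PU_LJ

open scoped commutatorElement
open Cfsg.Agent.Lib.Helper50_PUDefs Cfsg.Agent.Lib.Helper51_Offender Cfsg.Agent.Lib.Helper72_AbelianJ

/-- if `A`, `N` are normal subgroups, the elements `x` with `⁅a, x⁆ ∈ N` for all `a ∈ A` form a normal
subgroup -/
theorem h26_comm_le_normalClosure {G : Type*} [Group G] (A N K : Subgroup G) [hA : A.Normal]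
    [hN : N.Normal] (hc : ⁅A, K⁆ ≤ N) : ⁅A, Subgroup.normalClosure (K : Set G)⁆ ≤ N := by
  let C : Subgroup G :=
    { carrier := {x | ∀ z ∈ A, ⁅z, x⁆ ∈ N}
      one_mem' := by
        intro z _
        rw [commutatorElement_one_right]
        exact N.one_mem
      mul_mem' := by
        intro x y hx hy z hz
        have e : ⁅z, x * y⁆ = ⁅z, x⁆ * (x * ⁅z, y⁆ * x⁻¹) := by
          simp only [commutatorElement_def]
          group
        rw [e]
        exact N.mul_mem (hx z hz) (hN.conj_mem _ (hy z hz) x)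
      inv_mem' := by
        intro x hx z hz
        have e : ⁅z, x⁻¹⁆ = x⁻¹ * (⁅z, x⁆)⁻¹ * x⁻¹⁻¹ := by
          simp only [commutatorElement_def]
          group
        rw [e]
        exact hN.conj_mem _ (N.inv_mem (hx z hz)) x⁻¹ }
  have hCn : C.Normal := by
    refine ⟨fun x hx g z hz => ?_⟩
    have e : ⁅z, g * x * g⁻¹⁆ = g * ⁅g⁻¹ * z * g⁻¹⁻¹, x⁆ * g⁻¹ := by
      simp only [commutatorElement_def]
      group
    rw [e]
    exact hN.conj_mem _ (hx _ (hA.conj_mem z hz g⁻¹)) g
  have hKC : (K : Set G) ⊆ C := by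
    intro x hx z hz
    exact hc (Subgroup.commutator_mem_commutator hz hx)
  have hle : Subgroup.normalClosure (K : Set G) ≤ C := Subgroup.normalClosure_le_normal hKC
  rw [Subgroup.commutator_le]
  intro z hz x hx
  exact hle hx z hz

section Main

variable {G : Type*} [Group G] [Finite G] {p : ℕ} [Fact p.Prime] {S : Sylow p G}

local notation "Q" => Cfsg.pCore p G
local notation "V" => VS (S : Subgroup G)
local notation "Z" => ZS (S : Subgroup G)
local notation "J" => JS (S : Subgroup G)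
local notation "Y" => YS (S : Subgroup G)
local notation "B" => BS (S : Subgroup G)
local notation "ZD" => YS (Cfsg.pCore p G)
local notation "LJ" => Subgroup.normalClosure ((JS (S : Subgroup G) : Subgroup G) : Set G)
local notation "Q₀" => Cfsg.pCore p G ⊓ Subgroup.centralizer ((YS (S : Subgroup G) : Subgroup G) : Set G)

-- PKG LJ
theorem lj (h : MainCase p S) (hvb : VBasic p S)
    (hncs : Subgroup.normalClosure (((S : Subgroup G) : Subgroup G) : Set G) = ⊤)
    (hJQ : J ⊔ Q = (S : Subgroup G)) (hzdn : (ZD).Normal)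
    (hc : ⁅ZD, J⁆ ≤ V) : ⁅ZD, LJ⁆ ≤ V ∧ LJ ⊔ Q = ⊤ := by
  have := hzdn
  have : (Cfsg.pCore p G).Normal := hvb.core_normal
  refine ⟨h26_comm_le_normalClosure _ _ _ hc, ?_⟩
  rw [eq_top_iff, ← hncs]
  refine Subgroup.normalClosure_le_normal ?_
  have h1 : (S : Subgroup G) ≤ LJ ⊔ Q := by
    have h2 : J ≤ LJ := Subgroup.le_normalClosure
    exact hJQ.ge.trans (sup_le_sup_right h2 _)
  exact h1

end Main

end Cfsg.Agent.Lib.Helper26_PU_LJ
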