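import Cfsg.Agent.Lib.Helper50_PUDefs
import Cfsg.Agent.Lib.Helper1_LocalZJ

/-!
# Rank-one pushing up (market `pu_packages`, helper50): package RNORMAL (helper26)

`Y V` is normal in `G`.
-/

set_option autoImplicit false

namespace Cfsg.Agent.Lib.Helper26_PU_RNORMAL

open scoped commutatorElement
open Cfsg.Agent.Lib.Helper50_PUDefs Cfsg.Agent.Lib.Helper51_Offender Cfsg.Agent.Lib.Helper72_AbelianJ

/-- a subgroup all of whose elements conjugate `H` into itself normalizes `H` -/
theorem h26_le_normalizer_of_conj {G : Type*} [Group G] (K H : Subgroup G)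
    (hK : ∀ k ∈ K, ∀ x ∈ H, k * x * k⁻¹ ∈ H) : K ≤ Subgroup.normalizer (H : Set G) := by
  intro k hk
  rw [Subgroup.mem_normalizer_iff]
  intro x
  refine ⟨hK k hk x, fun hx => ?_⟩
  have h1 := hK k⁻¹ (K.inv_mem hk) _ hx
  have e : k⁻¹ * (k * x * k⁻¹) * k⁻¹⁻¹ = x := by group
  rwa [e] at h1

/-- conjugation maps a join into itself as soon as it does so for both factors -/
theorem h26_conj_sup_mem {G : Type*} [Group G] (A C : Subgroup G) (g : G)
    (hA : ∀ y ∈ A, g * y * g⁻¹ ∈ A ⊔ C) (hC : ∀ v ∈ C, g * v * g⁻¹ ∈ A ⊔ C) :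
    ∀ x ∈ A ⊔ C, g * x * g⁻¹ ∈ A ⊔ C := by
  have h1 : A ⊔ C ≤ (A ⊔ C).comap (MulAut.conj g).toMonoidHom := by
    refine sup_le ?_ ?_
    · intro y hy
      rw [Subgroup.mem_comap]
      exact hA y hy
    · intro v hv
      rw [Subgroup.mem_comap]
      exact hC v hv
  intro x hx
  exact h1 hx

section Main

variable {G : Type*} [Group G] [Finite G] {p : ℕ} [Fact p.Prime] {S : Sylow p G}

local notation "Q" => Cfsg.pCore p G
local notation "V" => VS (S : Subgroup G)
local notation "Z" => ZS (S : Subgroup G)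
local notation "J" => JS (S : Subgroup G)
local notation "Y" => YS (S : Subgroup G)
local notation "B" => BS (S : Subgroup G)
local notation "ZD" => YS (Cfsg.pCore p G)
local notation "LJ" => Subgroup.normalClosure ((JS (S : Subgroup G) : Subgroup G) : Set G)
local notation "Q₀" => Cfsg.pCore p G ⊓ Subgroup.centralizer ((YS (S : Subgroup G) : Subgroup G) : Set G)

-- PKG RNORMAL
theorem r_normal (h : MainCase p S) (hvb : VBasic p S) (hYZD : Y ≤ ZD) (hc : ⁅ZD, LJ⁆ ≤ V)
    (hLQ : LJ ⊔ Q = ⊤) : (Y ⊔ V).Normal := by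
  have hVn : (V).Normal := Subgroup.normalClosure_normal
  rw [← Subgroup.normalizer_eq_top_iff, eq_top_iff, ← hLQ]
  refine sup_le ?_ ?_
  · -- `LJ` normalizes `Y V`
    refine h26_le_normalizer_of_conj _ _ ?_
    intro l hl
    refine h26_conj_sup_mem _ _ l ?_ ?_
    · intro y hy
      have h1 : ⁅y, l⁆ ∈ V := hc (Subgroup.commutator_mem_commutator (hYZD hy) hl)
      have e : l * y * l⁻¹ = (⁅y, l⁆)⁻¹ * y := by
        simp only [commutatorElement_def]
        group
      rw [e]
      exact Subgroup.mul_mem _ (Subgroup.mem_sup_right (Subgroup.inv_mem _ h1))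
        (Subgroup.mem_sup_left hy)
    · intro v hv
      exact Subgroup.mem_sup_right (hVn.conj_mem v hv l)
  · -- `Q` normalizes `Y V`
    refine h26_le_normalizer_of_conj _ _ ?_
    intro q hq
    have hqN : q ∈ Subgroup.normalizer ((Y : Subgroup G) : Set G) :=
      Cfsg.Agent.Lib.Helper1_LocalZJ.normalizer_le_normalizer_zj (p := p) S.isPGroup'
        (Subgroup.le_normalizer (hvb.core_le hq))
    refine h26_conj_sup_mem _ _ q ?_ ?_
    · intro y hy
      exact Subgroup.mem_sup_left ((Subgroup.mem_normalizer_iff.mp hqN y).mp hy)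
    · intro v hv
      exact Subgroup.mem_sup_right (hVn.conj_mem v hv q)

end Main

end Cfsg.Agent.Lib.Helper26_PU_RNORMAL
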