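import Mathlib
import Cfsg.Agent.Lib.Helper37_RHDefs

/-!
# REEHALL package FIXINV (architect helper37): a non-identity element fixing three points is an
involution; all involutions have the same number `≥ 3` of fixed points.
-/

set_option autoImplicit false
set_option linter.unusedSectionVars false

namespace Cfsg.Agent.Lib.Helper31_RH_FIXINV

open MulAction Subgroup Cfsg.Agent.Lib.Helper37_RHDefs
open scoped Pointwise

variable {G : Type*} [Group G] [Finite G] {Ω : Type*} [MulAction G Ω] {m : ℕ}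

/-- PK FIXINV.  A non-identity element fixing three points is an involution (`h.stab3_le` + Lagrange). -/
theorem invol_of_fix (h : RH G Ω m) (g : G) (hg1 : g ≠ 1) (x y z : Ω) (hxy : x ≠ y) (hxz : x ≠ z) (hyz : y ≠ z)
    (hx : g • x = x) (hy : g • y = y) (hz : g • z = z) : orderOf g = 2 := by
  have hle := h.stab3_le x y z hxy hxz hyz
  have hmem : g ∈ stabilizer G x ⊓ stabilizer G y ⊓ stabilizer G z :=
    ⟨⟨mem_stabilizer_iff.mpr hx, mem_stabilizer_iff.mpr hy⟩, mem_stabilizer_iff.mpr hz⟩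
  have hdvd : orderOf g ∣ Nat.card ↥(stabilizer G x ⊓ stabilizer G y ⊓ stabilizer G z) := by
    have h1 := orderOf_dvd_natCard (⟨g, hmem⟩ : ↥(stabilizer G x ⊓ stabilizer G y ⊓ stabilizer G z))
    rwa [Subgroup.orderOf_mk] at h1
  have hpos : 0 < Nat.card ↥(stabilizer G x ⊓ stabilizer G y ⊓ stabilizer G z) := Nat.card_pos
  have hne1 : orderOf g ≠ 1 := fun h1 => hg1 (orderOf_eq_one_iff.mp h1)
  have hle2 : orderOf g ≤ 2 := le_trans (Nat.le_of_dvd hpos hdvd) hle
  have hpos' : 0 < orderOf g := orderOf_pos g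
  omega

/-- conjugate elements have the same number of fixed points -/
theorem fixN_conj (g a : G) : fixN Ω (g * a * g⁻¹) = fixN Ω a := by
  unfold fixN
  refine Nat.card_congr ⟨fun x => ⟨g⁻¹ • x.1, ?_⟩, fun x => ⟨g • x.1, ?_⟩, ?_, ?_⟩
  · have hx := x.2
    rw [mem_fixedBy] at hx ⊢
    calc a • g⁻¹ • x.1 = g⁻¹ • (g * a * g⁻¹) • x.1 := by simp only [smul_smul]; group
      _ = g⁻¹ • x.1 := by rw [hx]
  · have hx := x.2
    rw [mem_fixedBy] at hx ⊢
    calc (g * a * g⁻¹) • g • x.1 = g • a • x.1 := by simp only [smul_smul]; group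
      _ = g • x.1 := by rw [hx]
  · intro x
    apply Subtype.ext
    simp
  · intro x
    apply Subtype.ext
    simp

/-- an element fixing three distinct points has at least three fixed points -/
theorem three_le_fixN (h : RH G Ω m) (g : G) (x y z : Ω) (hxy : x ≠ y) (hxz : x ≠ z) (hyz : y ≠ z)
    (hx : g • x = x) (hy : g • y = y) (hz : g • z = z) : 3 ≤ fixN Ω g := by
  have hfin : Finite Ω := by
    apply Nat.finite_of_card_ne_zero
    rw [h.card_Ω]
    exact Nat.succ_ne_zero _
  unfold fixN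
  rw [Nat.card_coe_set_eq]
  have h3 : ({x, y, z} : Set Ω).ncard = 3 := Set.ncard_eq_three.mpr ⟨x, y, z, hxy, hxz, hyz, rfl⟩
  rw [← h3]
  apply Set.ncard_le_ncard _ (Set.toFinite _)
  intro w hw
  rcases hw with rfl | rfl | rfl
  · exact hx
  · exact hy
  · exact hz

/-- PK FIXINV (second part).  All involutions have the same number `≥ 3` of fixed points
(`h.stab3_ex` gives one involution with three fixed points; all involutions are conjugate by `h.invol`). -/
theorem invol_fix (h : RH G Ω m) (t t' : G) (ht : orderOf t = 2) (ht' : orderOf t' = 2) :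
    fixN Ω t = fixN Ω t' ∧ 3 ≤ fixN Ω t := by
  obtain ⟨a, ha, hconj, -⟩ := h.invol
  have hall : ∀ s : G, orderOf s = 2 → fixN Ω s = fixN Ω a := by
    intro s hs
    obtain ⟨g, hg⟩ := hconj s hs
    rw [← hg, fixN_conj]
  refine ⟨by rw [hall t ht, hall t' ht'], ?_⟩
  obtain ⟨x, y, z, hxy, hxz, hyz, hcard⟩ := h.stab3_ex
  have hnontriv : ∃ g ∈ stabilizer G x ⊓ stabilizer G y ⊓ stabilizer G z, g ≠ 1 := by
    by_contra hcon
    have hbot : stabilizer G x ⊓ stabilizer G y ⊓ stabilizer G z = ⊥ := by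
      rw [Subgroup.eq_bot_iff_forall]
      intro g hg
      by_contra hg1
      exact hcon ⟨g, hg, hg1⟩
    rw [hbot, Subgroup.card_bot] at hcard
    omega
  obtain ⟨g, hg, hg1⟩ := hnontriv
  have hgx : g • x = x := mem_stabilizer_iff.mp hg.1.1
  have hgy : g • y = y := mem_stabilizer_iff.mp hg.1.2
  have hgz : g • z = z := mem_stabilizer_iff.mp hg.2
  have hg2 : orderOf g = 2 := invol_of_fix h g hg1 x y z hxy hxz hyz hgx hgy hgz
  rw [hall t ht, ← hall g hg2]
  exact three_le_fixN h g x y z hxy hxz hyz hgx hgy hgz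

end Cfsg.Agent.Lib.Helper31_RH_FIXINV
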