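import Mathlib
import Cfsg.Agent.Lib.Helper37_RHDefs

/-!
helper53: REEHALL package INVCOUNT (architect helper37), verbatim: the number of involutions of an
abstract `G` with `RH G Ω m` is `q^2 (q^2 - q + 1)` (the class of `a`, orbit-stabiliser).
-/

set_option autoImplicit false

namespace Cfsg.Agent.Lib.Helper53_RH_INVCOUNT

open MulAction Subgroup Cfsg.Agent.Lib.Helper37_RHDefs
open scoped Pointwise

variable {G : Type*} [Group G] [Finite G] {Ω : Type*} [MulAction G Ω] {m : ℕ}

omit [Finite G] in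
/-- the size of a conjugacy class times the order of the centraliser is the group order -/
theorem card_class_mul_card_centralizer (a : G) :
    Nat.card {g : G // ∃ c : G, c * a * c⁻¹ = g} * Nat.card ↥(centralizer ({a} : Set G)) =
      Nat.card G := by
  have e1 : {g : G // ∃ c : G, c * a * c⁻¹ = g} ≃ ↥(orbit (ConjAct G) a) := by
    refine Equiv.subtypeEquivRight ?_
    intro g
    rw [ConjAct.mem_orbit_conjAct, isConj_comm, isConj_iff]
  rw [Nat.card_congr e1, Nat.card_congr (orbitEquivQuotientStabilizer (ConjAct G) a),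
    Subgroup.nat_card_centralizer_nat_card_stabilizer,
    ← Subgroup.card_eq_card_quotient_mul_card_subgroup]
  rfl

/-- the arithmetic: `q^2 (q^2 - q + 1) · q (q^2 - 1) = q^3 (q - 1) (q^3 + 1)` -/
theorem arith_invol (q : ℕ) (hq : 1 ≤ q) :
    q ^ 2 * (q ^ 2 - q + 1) * (q * (q ^ 2 - 1)) = q ^ 3 * (q - 1) * (q ^ 3 + 1) := by
  obtain ⟨k, rfl⟩ : ∃ k, q = k + 1 := ⟨q - 1, by omega⟩
  have h1 : (k + 1) ^ 2 - (k + 1) + 1 = k ^ 2 + k + 1 := by
    have : (k + 1) ^ 2 = (k ^ 2 + k) + (k + 1) := by ring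
    rw [this, Nat.add_sub_cancel]
  have h2 : (k + 1) ^ 2 - 1 = k ^ 2 + 2 * k := by
    have : (k + 1) ^ 2 = (k ^ 2 + 2 * k) + 1 := by ring
    rw [this, Nat.add_sub_cancel]
  rw [h1, h2, Nat.add_sub_cancel]
  ring

/-- PK INVCOUNT.  The number of involutions: the class of `a`, `|G| / |C(a)| = q^2 (q^2 - q + 1)`. -/
theorem card_invol (h : RH G Ω m) :
    Nat.card {g : G // orderOf g = 2} = (Q m) ^ 2 * ((Q m) ^ 2 - Q m + 1) := by
  obtain ⟨a, ha, hconj, hcent, -, -⟩ := h.invol
  have e : {g : G // orderOf g = 2} ≃ {g : G // ∃ c : G, c * a * c⁻¹ = g} := by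
    refine Equiv.subtypeEquivRight ?_
    intro g
    constructor
    · intro hg
      exact hconj g hg
    · rintro ⟨c, rfl⟩
      rw [← ha]
      have hs : SemiconjBy c a (c * a * c⁻¹) := by
        show c * a = c * a * c⁻¹ * c
        group
      exact (hs.orderOf_eq c).symm
  have hq : 1 ≤ Q m := Nat.one_le_pow _ _ (by norm_num)
  have hmul := card_class_mul_card_centralizer a
  rw [hcent, h.card_G, ← Nat.card_congr e] at hmul
  have hpos : 0 < Q m * ((Q m) ^ 2 - 1) := by
    have h3 : 3 ≤ Q m := by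
      calc 3 = 3 ^ 1 := by norm_num
        _ ≤ 3 ^ (2 * m + 1) := Nat.pow_le_pow_right (by norm_num) (by omega)
    have : 9 ≤ (Q m) ^ 2 := by nlinarith
    have : 0 < (Q m) ^ 2 - 1 := by omega
    positivity
  apply Nat.eq_of_mul_eq_mul_right hpos
  rw [hmul, arith_invol (Q m) hq]

end Cfsg.Agent.Lib.Helper53_RH_INVCOUNT
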