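import Cfsg.Agent.Lib.Helper37_RHDefs
import Cfsg.Agent.Lib.Helper26_RHTorDefs

/-!
# REEHALL market (helper37), package FIXSUM: the two Burnside sums split according to the number of fixed points.
(The two facts of package FIXINV that are needed are proved here too, as `invol_of_fix'`, `invol_fix'`.)
-/

set_option autoImplicit false
set_option linter.unusedSectionVars false
set_option linter.unusedVariables false
set_option linter.style.haveILetI false

namespace Cfsg.Agent.Lib.Helper5_RH_FIXSUM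

open MulAction Subgroup Cfsg.Agent.Lib.Helper37_RHDefs
open scoped Pointwise

variable {G : Type*} [Group G] [Finite G] {Ω : Type*} [MulAction G Ω] {m : ℕ}

/-- the number of fixed points of the identity -/
theorem fixN_one : fixN Ω (1 : G) = Nat.card Ω := by
  unfold fixN
  rw [MulAction.fixedBy_one_eq_univ]
  exact Nat.card_congr (Equiv.Set.univ Ω)

/-- the number of fixed points is a class function -/
theorem fixN_conj (c g : G) : fixN Ω (c * g * c⁻¹) = fixN Ω g := by
  unfold fixN
  symm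
  refine Nat.card_congr ⟨fun x => ⟨c • x.1, ?_⟩, fun y => ⟨c⁻¹ • y.1, ?_⟩, ?_, ?_⟩
  · have hx : g • x.1 = x.1 := x.2
    show (c * g * c⁻¹) • c • x.1 = c • x.1
    rw [smul_smul, inv_mul_cancel_right, mul_smul, hx]
  · have hy : (c * g * c⁻¹) • y.1 = y.1 := y.2
    show g • c⁻¹ • y.1 = c⁻¹ • y.1
    have : g • c⁻¹ • y.1 = c⁻¹ • (c * g * c⁻¹) • y.1 := by
      rw [smul_smul, smul_smul]
      congr 1
      group
    rw [this, hy]
  · intro x
    apply Subtype.ext
    show c⁻¹ • c • x.1 = x.1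
    rw [inv_smul_smul]
  · intro y
    apply Subtype.ext
    show c • c⁻¹ • y.1 = y.1
    rw [smul_inv_smul]

/-- three distinct fixed points give `3 ≤ fixN` -/
theorem three_le_fixN (g : G) (hΩ : Finite Ω) (x y z : Ω) (hxy : x ≠ y) (hxz : x ≠ z) (hyz : y ≠ z)
    (hx : g • x = x) (hy : g • y = y) (hz : g • z = z) : 3 ≤ fixN Ω g := by
  classical
  unfold fixN
  letI : Fintype ↥(MulAction.fixedBy Ω g) := Fintype.ofFinite _
  rw [Nat.card_eq_fintype_card]
  have h3 : 2 < Fintype.card ↥(MulAction.fixedBy Ω g) := by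
    rw [Fintype.two_lt_card_iff]
    refine ⟨⟨x, hx⟩, ⟨y, hy⟩, ⟨z, hz⟩, ?_, ?_, ?_⟩
    · intro h; exact hxy (congrArg Subtype.val h)
    · intro h; exact hxz (congrArg Subtype.val h)
    · intro h; exact hyz (congrArg Subtype.val h)
  exact h3

/-- `3 ≤ fixN` gives three distinct fixed points -/
theorem exists_three_of_fixN (g : G) (h3 : 3 ≤ fixN Ω g) :
    ∃ x y z : Ω, x ≠ y ∧ x ≠ z ∧ y ≠ z ∧ g • x = x ∧ g • y = y ∧ g • z = z := by
  classical
  unfold fixN at h3
  have hfin : Finite ↥(MulAction.fixedBy Ω g) := Nat.finite_of_card_ne_zero (by omega)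
  letI : Fintype ↥(MulAction.fixedBy Ω g) := Fintype.ofFinite _
  rw [Nat.card_eq_fintype_card] at h3
  have h3' : 2 < Fintype.card ↥(MulAction.fixedBy Ω g) := h3
  rw [Fintype.two_lt_card_iff] at h3'
  obtain ⟨a, b, c, hab, hac, hbc⟩ := h3'
  refine ⟨a.1, b.1, c.1, ?_, ?_, ?_, a.2, b.2, c.2⟩
  · intro h; exact hab (Subtype.ext h)
  · intro h; exact hac (Subtype.ext h)
  · intro h; exact hbc (Subtype.ext h)

/-- (= FIXINV, first part) a non-identity element fixing three points is an involution -/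
theorem invol_of_fix' (h : RH G Ω m) (g : G) (hg1 : g ≠ 1) (x y z : Ω) (hxy : x ≠ y) (hxz : x ≠ z)
    (hyz : y ≠ z) (hx : g • x = x) (hy : g • y = y) (hz : g • z = z) : orderOf g = 2 := by
  have hle := h.stab3_le x y z hxy hxz hyz
  have hmem : g ∈ stabilizer G x ⊓ stabilizer G y ⊓ stabilizer G z := ⟨⟨hx, hy⟩, hz⟩
  have hdvd : orderOf g ∣ Nat.card ↥(stabilizer G x ⊓ stabilizer G y ⊓ stabilizer G z) := by
    have := orderOf_dvd_natCard (⟨g, hmem⟩ : ↥(stabilizer G x ⊓ stabilizer G y ⊓ stabilizer G z))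
    rwa [Subgroup.orderOf_mk] at this
  have hpos : 0 < Nat.card ↥(stabilizer G x ⊓ stabilizer G y ⊓ stabilizer G z) := Nat.card_pos
  have h1 : orderOf g ≠ 1 := by
    intro h'
    exact hg1 (orderOf_eq_one_iff.1 h')
  have h2 : orderOf g ≤ 2 := le_trans (Nat.le_of_dvd hpos hdvd) hle
  have h0 : 0 < orderOf g := orderOf_pos g
  omega

/-- (= FIXINV, second part) all involutions have the same number `≥ 3` of fixed points -/
theorem invol_fix' (h : RH G Ω m) (t t' : G) (ht : orderOf t = 2) (ht' : orderOf t' = 2) :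
    fixN Ω t = fixN Ω t' ∧ 3 ≤ fixN Ω t := by
  obtain ⟨a, ha, hconj, -⟩ := h.invol
  have hΩ : Finite Ω := Nat.finite_of_card_ne_zero (by rw [h.card_Ω]; omega)
  have key : ∀ s : G, orderOf s = 2 → fixN Ω s = fixN Ω a := by
    intro s hs
    obtain ⟨c, hc⟩ := hconj s hs
    rw [← hc, fixN_conj]
  refine ⟨by rw [key t ht, key t' ht'], ?_⟩
  obtain ⟨x, y, z, hxy, hxz, hyz, hcard⟩ := h.stab3_ex
  -- a non-identity element of the three-point stabiliser
  have hne : ∃ g ∈ stabilizer G x ⊓ stabilizer G y ⊓ stabilizer G z, g ≠ 1 := by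
    by_contra hcon
    have hbot : stabilizer G x ⊓ stabilizer G y ⊓ stabilizer G z = ⊥ := by
      rw [eq_bot_iff]
      intro g hg
      rw [Subgroup.mem_bot]
      by_contra hg1
      exact hcon ⟨g, hg, hg1⟩
    rw [hbot, Subgroup.card_bot] at hcard
    omega
  obtain ⟨g, ⟨⟨hx, hy⟩, hz⟩, hg1⟩ := hne
  have hg2 := invol_of_fix' h g hg1 x y z hxy hxz hyz hx hy hz
  rw [key t ht, ← key g hg2]
  exact three_le_fixN g hΩ x y z hxy hxz hyz hx hy hz

/-- the general splitting of `∑ f (fixN g)` for `f 0 = 0` -/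
theorem sum_split (h : RH G Ω m) [Fintype G] (a : G) (ha : orderOf a = 2) (f : ℕ → ℕ) (hf : f 0 = 0) :
    ∑ g : G, f (fixN Ω g) = f ((Q m) ^ 3 + 1) + f 1 * Nat.card {g : G // fixN Ω g = 1} +
      f 2 * Nat.card {g : G // fixN Ω g = 2} + f (fixN Ω a) * Nat.card {g : G // orderOf g = 2} := by
  classical
  have h1fix : fixN Ω (1 : G) = (Q m) ^ 3 + 1 := by rw [fixN_one, h.card_Ω]
  have hq : 3 ≤ (Q m) ^ 3 + 1 := by
    have : 1 ≤ Q m := Nat.one_le_pow _ _ (by norm_num)
    have : 1 ≤ (Q m) ^ 3 := Nat.one_le_pow _ _ this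
    have h27 : 3 ≤ Q m := by
      show 3 ≤ 3 ^ (2 * m + 1)
      calc 3 = 3 ^ 1 := by norm_num
        _ ≤ 3 ^ (2 * m + 1) := Nat.pow_le_pow_right (by norm_num) (by omega)
    have : Q m ≤ (Q m) ^ 3 := by
      calc Q m = (Q m) ^ 1 := (pow_one _).symm
        _ ≤ (Q m) ^ 3 := Nat.pow_le_pow_right (by omega) (by norm_num)
    omega
  -- pointwise decomposition
  have hpt : ∀ g : G, f (fixN Ω g) = (if g = 1 then f ((Q m) ^ 3 + 1) else 0) +
      (if fixN Ω g = 1 then f 1 else 0) + (if fixN Ω g = 2 then f 2 else 0) +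
      (if orderOf g = 2 then f (fixN Ω a) else 0) := by
    intro g
    by_cases hg1 : g = 1
    · subst hg1
      have e1 : fixN Ω (1 : G) ≠ 1 := by rw [h1fix]; omega
      have e2 : fixN Ω (1 : G) ≠ 2 := by rw [h1fix]; omega
      have e3 : orderOf (1 : G) ≠ 2 := by rw [orderOf_one]; norm_num
      rw [if_pos rfl, if_neg e1, if_neg e2, if_neg e3, h1fix]
      simp only [add_zero]
    · by_cases hg2 : orderOf g = 2
      · obtain ⟨e, e3⟩ := invol_fix' h g a hg2 ha
        have e1 : fixN Ω g ≠ 1 := by omega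
        have e2 : fixN Ω g ≠ 2 := by omega
        rw [if_neg hg1, if_neg e1, if_neg e2, if_pos hg2, e]
        simp only [zero_add]
      · have hle : fixN Ω g ≤ 2 := by
          by_contra hcon
          have hcon' : 3 ≤ fixN Ω g := by omega
          obtain ⟨x, y, z, hxy, hxz, hyz, hx, hy, hz⟩ := exists_three_of_fixN g hcon'
          exact hg2 (invol_of_fix' h g hg1 x y z hxy hxz hyz hx hy hz)
        rw [if_neg hg1, if_neg hg2]
        rcases (by omega : fixN Ω g = 0 ∨ fixN Ω g = 1 ∨ fixN Ω g = 2) with e | e | e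
        · rw [e, hf]
          simp
        · rw [e]
          simp
        · rw [e]
          simp
  rw [Finset.sum_congr rfl (fun g _ => hpt g)]
  rw [Finset.sum_add_distrib, Finset.sum_add_distrib, Finset.sum_add_distrib]
  have s1 : ∑ g : G, (if g = 1 then f ((Q m) ^ 3 + 1) else 0) = f ((Q m) ^ 3 + 1) := by
    rw [Finset.sum_ite_eq']
    simp
  have s2 : ∑ g : G, (if fixN Ω g = 1 then f 1 else 0) = f 1 * Nat.card {g : G // fixN Ω g = 1} := by
    rw [Finset.sum_ite, Finset.sum_const_zero, add_zero, Finset.sum_const, smul_eq_mul, mul_comm]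
    congr 1
    exact (Nat.subtype_card _ (by simp)).symm
  have s3 : ∑ g : G, (if fixN Ω g = 2 then f 2 else 0) = f 2 * Nat.card {g : G // fixN Ω g = 2} := by
    rw [Finset.sum_ite, Finset.sum_const_zero, add_zero, Finset.sum_const, smul_eq_mul, mul_comm]
    congr 1
    exact (Nat.subtype_card _ (by simp)).symm
  have s4 : ∑ g : G, (if orderOf g = 2 then f (fixN Ω a) else 0) =
      f (fixN Ω a) * Nat.card {g : G // orderOf g = 2} := by
    rw [Finset.sum_ite, Finset.sum_const_zero, add_zero, Finset.sum_const, smul_eq_mul, mul_comm]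
    congr 1
    exact (Nat.subtype_card _ (by simp)).symm
  rw [s1, s2, s3, s4]

/-- PK FIXSUM.  The two Burnside sums split according to the number of fixed points
(`1` has `q^3 + 1`, the involutions have `fixN Ω a` each, every other element has at most 2 by `invol_of_fix`). -/
theorem fix_sums_split (h : RH G Ω m) [Fintype G] (a : G) (ha : orderOf a = 2) :
    ∑ g : G, fixN Ω g = ((Q m) ^ 3 + 1) + Nat.card {g : G // fixN Ω g = 1} + 2 * Nat.card {g : G // fixN Ω g = 2} +
      fixN Ω a * Nat.card {g : G // orderOf g = 2} ∧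
    ∑ g : G, (fixN Ω g) ^ 2 = ((Q m) ^ 3 + 1) ^ 2 + Nat.card {g : G // fixN Ω g = 1} +
      4 * Nat.card {g : G // fixN Ω g = 2} + (fixN Ω a) ^ 2 * Nat.card {g : G // orderOf g = 2} := by
  constructor
  · have := sum_split h a ha (fun k => k) rfl
    simp only [one_mul] at this
    exact this
  · have := sum_split h a ha (fun k => k ^ 2) (by norm_num)
    simp only [one_pow, one_mul] at this
    have h4 : (2 : ℕ) ^ 2 = 4 := by norm_num
    rw [h4] at this
    exact this

end Cfsg.Agent.Lib.Helper5_RH_FIXSUM
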