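import Mathlib
import Cfsg.Agent.Lib.Helper37_RHDefs

set_option autoImplicit false

/-!
REEHALL package TORT (architect helper37): existence of the torus data `D = V × T` of order `q + 1` in a group
satisfying the abstract hypotheses `RH G Ω m`.
-/

namespace Cfsg.Agent.Lib.Helper60_RH_TORT

open MulAction Subgroup Cfsg.Agent.Lib.Helper37_RHDefs
open scoped Pointwise

/-- Arithmetic of `q = 3 ^ (2 m + 1)`. -/
theorem Q_mod (m : ℕ) (hm : 1 ≤ m) : 27 ≤ Q m ∧ Q m % 8 = 3 ∧ Q m % 3 = 0 := by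
  have h9 : ∀ k : ℕ, 9 ^ k % 8 = 1 := by
    intro k
    induction k with
    | zero => rfl
    | succ k ih => rw [pow_succ, Nat.mul_mod, ih]
  have hQ : Q m = 3 * 9 ^ m := by
    show 3 ^ (2 * m + 1) = _
    rw [pow_succ, pow_mul]
    norm_num
    ring
  refine ⟨?_, ?_, ?_⟩
  · rw [hQ]
    have : 9 ^ 1 ≤ 9 ^ m := Nat.pow_le_pow_right (by norm_num) hm
    omega
  · rw [hQ, Nat.mul_mod, h9]
  · rw [hQ]
    omega

/-- `q + 1` divides `q ^ 3 + 1`. -/
theorem succ_dvd_cube (q : ℕ) : q + 1 ∣ q ^ 3 + 1 := by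
  rcases Nat.eq_zero_or_pos q with rfl | hq
  · simp
  · obtain ⟨r, rfl⟩ : ∃ r, q = r + 1 := ⟨q - 1, by omega⟩
    exact ⟨(r + 1) * r + 1, by ring⟩

variable {G : Type*} [Group G]

/-- The elements of a commutative subgroup killed by the exponent `k`. -/
def powKer (D : Subgroup G) (hD : ∀ g ∈ D, ∀ k ∈ D, g * k = k * g) (n : ℕ) : Subgroup G where
  carrier := {d | d ∈ D ∧ d ^ n = 1}
  one_mem' := ⟨D.one_mem, one_pow n⟩
  mul_mem' := by
    rintro a b ⟨ha, ha2⟩ ⟨hb, hb2⟩
    refine ⟨D.mul_mem ha hb, ?_⟩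
    have hc : Commute a b := hD a ha b hb
    rw [hc.mul_pow, ha2, hb2, one_mul]
  inv_mem' := by
    rintro a ⟨ha, ha2⟩
    exact ⟨D.inv_mem ha, by rw [inv_pow, ha2, inv_one]⟩

theorem mem_powKer {D : Subgroup G} {hD : ∀ g ∈ D, ∀ k ∈ D, g * k = k * g} {n : ℕ} {d : G} :
    d ∈ powKer D hD n ↔ d ∈ D ∧ d ^ n = 1 := Iff.rfl

theorem powKer_le (D : Subgroup G) (hD : ∀ g ∈ D, ∀ k ∈ D, g * k = k * g) (n : ℕ) : powKer D hD n ≤ D :=
  fun _ hd => hd.1

/-- Arithmetic: `2 ^ a * t = 4 * n` with `t`, `n` odd. -/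
theorem two_pow_mul_eq (a t n : ℕ) (ht : t % 2 = 1) (hn : n % 2 = 1) (h : 2 ^ a * t = 4 * n) :
    2 ^ a = 4 ∧ t = n := by
  rcases a with _ | _ | _ | b
  · simp at h; omega
  · simp at h; omega
  · norm_num at h ⊢; omega
  · exfalso
    have : 2 ^ (b + 1 + 1 + 1) = 8 * 2 ^ b := by ring
    rw [this] at h
    have h2 : n = 2 * (2 ^ b * t) := by nlinarith
    omega

/-- The decomposition `|D| = |V| |T|` for a commutative subgroup `D` of order `4 n`, `n` odd, without elements of
order 4. -/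
theorem card_powKer [Finite G] (D : Subgroup G) (hD : ∀ g ∈ D, ∀ k ∈ D, g * k = k * g) (n : ℕ)
    (hn : n % 2 = 1) (hcard : Nat.card D = 4 * n) (h4 : ∀ z ∈ D, orderOf z ≠ 4) :
    Nat.card (powKer D hD 2) = 4 ∧ Nat.card (powKer D hD n) = n := by
  classical
  set V := powKer D hD 2 with hV
  set T := powKer D hD n with hT
  -- every element of `D` is killed by `4 n`
  have hpow : ∀ d ∈ D, d ^ (4 * n) = 1 := by
    intro d hd
    have : (⟨d, hd⟩ : D) ^ Nat.card D = 1 := pow_card_eq_one'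
    rw [hcard] at this
    have h2 := congrArg Subtype.val this
    simpa using h2
  -- `d ^ n` lies in `V`
  have hdn : ∀ d ∈ D, (d ^ n) ^ 2 = 1 := by
    intro d hd
    have h1 : (d ^ n) ^ 4 = 1 := by rw [← pow_mul, mul_comm]; exact hpow d hd
    have h2 : orderOf (d ^ n) ∣ 4 := orderOf_dvd_of_pow_eq_one h1
    have h3 : orderOf (d ^ n) ≠ 4 := h4 _ (D.pow_mem hd n)
    have h5 : orderOf (d ^ n) ∣ 2 := by
      have hle : orderOf (d ^ n) ≤ 4 := Nat.le_of_dvd (by norm_num) h2
      interval_cases h : orderOf (d ^ n) <;> simp_all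
    exact orderOf_dvd_iff_pow_eq_one.mp h5
  -- the product map
  let f : V × T → D := fun p => ⟨(p.1 : G) * (p.2 : G), D.mul_mem p.1.2.1 p.2.2.1⟩
  have hf : Function.Bijective f := by
    constructor
    · rintro ⟨⟨v, hv⟩, ⟨t, ht⟩⟩ ⟨⟨v', hv'⟩, ⟨t', ht'⟩⟩ hvt
      have hvt' : v * t = v' * t' := congrArg Subtype.val hvt
      have hx : v'⁻¹ * v = t' * t⁻¹ := by
        rw [inv_mul_eq_iff_eq_mul, ← mul_assoc, ← hvt', mul_assoc, mul_inv_cancel, mul_one]
      have hxV : v'⁻¹ * v ∈ V := V.mul_mem (V.inv_mem hv') hv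
      have hxT : v'⁻¹ * v ∈ T := by rw [hx]; exact T.mul_mem ht' (T.inv_mem ht)
      have h1 : (v'⁻¹ * v) ^ Nat.gcd 2 n = 1 := pow_gcd_eq_one.mpr ⟨hxV.2, hxT.2⟩
      have hg : Nat.gcd 2 n = 1 := by
        have : Nat.Coprime 2 n := Nat.coprime_two_left.mpr (Nat.odd_iff.mpr hn)
        exact this
      rw [hg, pow_one] at h1
      have hvv : v = v' := by
        have := inv_mul_eq_one.mp h1
        exact this.symm
      have htt : t = t' := by
        rw [hvv] at hvt'
        exact mul_left_cancel hvt'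
      subst hvv; subst htt; rfl
    · rintro ⟨d, hd⟩
      have hvV : d ^ n ∈ V := ⟨D.pow_mem hd n, hdn d hd⟩
      have hvn : (d ^ n) ^ n = d ^ n := by
        obtain ⟨k, hk⟩ : ∃ k, n = 2 * k + 1 := ⟨n / 2, by omega⟩
        conv_lhs => rw [hk]
        rw [pow_succ, pow_mul, ← hk, hdn d hd, one_pow, one_mul]
      have htT : d * (d ^ n)⁻¹ ∈ T := by
        refine ⟨D.mul_mem hd (D.inv_mem (D.pow_mem hd n)), ?_⟩
        have hc : Commute d (d ^ n)⁻¹ := ((Commute.refl d).pow_right n).inv_right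
        rw [hc.mul_pow, inv_pow, hvn, mul_inv_cancel]
      refine ⟨(⟨d ^ n, hvV⟩, ⟨d * (d ^ n)⁻¹, htT⟩), ?_⟩
      apply Subtype.ext
      show d ^ n * (d * (d ^ n)⁻¹) = d
      have hc : Commute (d ^ n) d := (Commute.refl d).pow_left n
      rw [← mul_assoc, hc.eq, mul_assoc, mul_inv_cancel, mul_one]
  have hprod : Nat.card V * Nat.card T = 4 * n := by
    rw [← Nat.card_prod, Nat.card_congr (Equiv.ofBijective f hf), hcard]
  -- `V` is a 2-group
  have hV2 : IsPGroup 2 V := by
    intro g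
    refine ⟨1, ?_⟩
    apply Subtype.ext
    have := g.2.2
    simpa using this
  obtain ⟨a, ha⟩ := IsPGroup.iff_card.mp hV2
  -- `T` has odd order
  have hTodd : Nat.card T % 2 = 1 := by
    by_contra hcon
    have h2 : 2 ∣ Nat.card T := by omega
    have : Fact (Nat.Prime 2) := ⟨Nat.prime_two⟩
    obtain ⟨x, hx⟩ := exists_prime_orderOf_dvd_card' 2 h2
    have hxn : x ^ n = 1 := by
      apply Subtype.ext
      have := x.2.2
      simpa using this
    have : 2 ∣ n := by rw [← hx]; exact orderOf_dvd_of_pow_eq_one hxn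
    omega
  rw [ha] at hprod
  obtain ⟨h1, h2⟩ := two_pow_mul_eq a _ n hTodd hn hprod
  exact ⟨by rw [ha, h1], h2⟩

/-- A finite commutative group with cyclic Sylow subgroups is cyclic. -/
theorem isCyclic_of_comm_of_isZGroup {H : Type*} [Group H] [Finite H] (hc : ∀ a b : H, a * b = b * a)
    [IsZGroup H] : IsCyclic H := by
  let _ : CommGroup H := ⟨hc⟩
  exact IsCyclic.of_exponent_eq_card (IsZGroup.exponent_eq_card H)

/-- Lagrange inside a subgroup. -/
theorem pow_card_subgroup_eq_one [Finite G] (D : Subgroup G) {d : G} (hd : d ∈ D) : d ^ Nat.card D = 1 := by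
  have h1 : (⟨d, hd⟩ : D) ^ Nat.card D = 1 := pow_card_eq_one'
  have h2 : (((⟨d, hd⟩ : D) ^ Nat.card D : D) : G) = ((1 : D) : G) := congrArg Subtype.val h1
  rw [SubmonoidClass.coe_pow, Subgroup.coe_one] at h2
  exact h2

variable [Finite G] {Ω : Type*} [MulAction G Ω] {m : ℕ}

/-- PK TORT.  Existence of the torus data. -/
theorem exists_torT (h : RH G Ω m) : ∃ D T V : Subgroup G, TorT m D T V := by
  classical
  obtain ⟨hq27, hq8, hq3⟩ := Q_mod m h.hm
  obtain ⟨n, hn⟩ : ∃ n, n = (Q m + 1) / 4 := ⟨_, rfl⟩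
  have h4n : Q m + 1 = 4 * n := by omega
  have hnodd : n % 2 = 1 := by omega
  have hn3 : n % 3 = 1 := by omega
  have hn7 : 7 ≤ n := by omega
  -- a prime divisor `s` of `n`
  obtain ⟨s, hs, hsn⟩ := Nat.exists_prime_and_dvd (show n ≠ 1 by omega)
  have hs2 : s ≠ 2 := by
    rintro rfl
    omega
  have hsq : s ∣ Q m + 1 := h4n ▸ Dvd.dvd.mul_left hsn 4
  have hsG : s ∣ Nat.card G := by
    rw [h.card_G]
    exact Dvd.dvd.mul_left (hsq.trans (succ_dvd_cube (Q m))) _
  have : Fact s.Prime := ⟨hs⟩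
  obtain ⟨y, hy⟩ := exists_prime_orderOf_dvd_card' s hsG
  obtain ⟨hcomm, hcard, hno4⟩ := h.main2 s hs hs2 hsq y hy
  obtain ⟨D, hD⟩ : ∃ D : Subgroup G, D = centralizer ({y} : Set G) := ⟨_, rfl⟩
  rw [← hD] at hcomm hcard hno4
  obtain ⟨hV4, hTn⟩ := card_powKer D hcomm n hnodd (by rw [hcard, h4n]) hno4
  obtain ⟨T, hT⟩ : ∃ T : Subgroup G, T = powKer D hcomm n := ⟨_, rfl⟩
  have hTD : T ≤ D := hT ▸ powKer_le _ _ _
  have hTn' : Nat.card T = n := hT ▸ hTn
  have hTpow : ∀ t ∈ T, t ^ n = 1 := by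
    intro t ht
    rw [hT] at ht
    exact ht.2
  have hTc : ∀ a b : T, a * b = b * a := by
    intro a b
    apply Subtype.ext
    exact hcomm a (hTD a.2) b (hTD b.2)
  -- `T` is cyclic
  have hZ : IsZGroup T := by
    refine ⟨fun p hp P => ?_⟩
    have := Fact.mk hp
    by_cases hpT : p ∣ Nat.card T
    · have hp3 : 3 < p := by
        rw [hTn'] at hpT
        have h2 : p ≠ 2 := by
          rintro rfl
          omega
        have h3 : p ≠ 3 := by
          rintro rfl
          omega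
        have := hp.two_le
        omega
      have hPG : IsPGroup p ((P : Subgroup T).map T.subtype) := P.isPGroup'.map _
      obtain ⟨S, hS⟩ := hPG.exists_le_sylow
      have := h.sylp p hp3 S
      have hcyc : IsCyclic ((P : Subgroup T).map T.subtype) := Subgroup.isCyclic_of_le hS
      exact ((P : Subgroup T).equivMapOfInjective T.subtype T.subtype_injective).symm.isCyclic.mp hcyc
    · have h1 : Nat.card P = 1 := by
        rw [P.card_eq_multiplicity, Nat.factorization_eq_zero_of_not_dvd hpT, pow_zero]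
      have : Subsingleton P := (Nat.card_eq_one_iff_unique.mp h1).1
      infer_instance
  have hTcyc : IsCyclic T := isCyclic_of_comm_of_isZGroup hTc
  refine ⟨D, T, powKer D hcomm 2, ?_⟩
  refine
    { card_D := hcard
      comm := hcomm
      T_le := hTD
      V_le := powKer_le _ _ _
      cyc := hTcyc
      card_T := by rw [hTn', hn]
      card_V := hV4
      V_sq := ?_
      cent := ?_
      mem_V := ?_
      mem_T := ?_ }
  · intro v hv
    rw [← pow_two]
    exact hv.2
  · intro t ht ht1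
    have ho1 : orderOf t ≠ 1 := fun hcon => ht1 (orderOf_eq_one_iff.mp hcon)
    obtain ⟨s', hs', hs't⟩ := Nat.exists_prime_and_dvd ho1
    have hon : orderOf t ∣ n := orderOf_dvd_of_pow_eq_one (hTpow t ht)
    have hs'n : s' ∣ n := hs't.trans hon
    have hs'2 : s' ≠ 2 := by
      rintro rfl
      omega
    have hs'q : s' ∣ Q m + 1 := h4n ▸ Dvd.dvd.mul_left hs'n 4
    have hot0 : orderOf t ≠ 0 := (orderOf_pos t).ne'
    have hot' : orderOf (t ^ (orderOf t / s')) = s' := orderOf_pow_orderOf_div hot0 hs't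
    obtain ⟨-, hcard', -⟩ := h.main2 s' hs' hs'2 hs'q _ hot'
    have htD : t ∈ D := hTD ht
    have hDle : D ≤ centralizer ({t ^ (orderOf t / s')} : Set G) := by
      intro d hd
      rw [mem_centralizer_iff]
      intro x hx
      rw [Set.mem_singleton_iff] at hx
      rw [hx]
      exact hcomm _ (D.pow_mem htD _) d hd
    have hDeq : D = centralizer ({t ^ (orderOf t / s')} : Set G) :=
      Subgroup.eq_of_le_of_card_ge hDle (by rw [hcard', hcard])
    apply le_antisymm
    · rw [hDeq]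
      intro g hg
      rw [mem_centralizer_iff] at hg ⊢
      intro x hx
      rw [Set.mem_singleton_iff] at hx
      rw [hx]
      have hc : Commute t g := hg t (Set.mem_singleton t)
      exact (hc.pow_left _).eq
    · intro d hd
      rw [mem_centralizer_iff]
      intro x hx
      rw [Set.mem_singleton_iff] at hx
      rw [hx]
      exact hcomm t htD d hd
  · intro d hd hdd
    exact ⟨hd, by rw [pow_two]; exact hdd⟩
  · intro d hd hodd
    rw [hT]
    refine ⟨hd, ?_⟩
    have h1 : d ^ (4 * n) = 1 := by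
      have := pow_card_subgroup_eq_one D hd
      rwa [hcard, h4n] at this
    have h2 : orderOf d ∣ 4 * n := orderOf_dvd_of_pow_eq_one h1
    have h3 : Nat.Coprime (orderOf d) 4 := by
      have : Nat.Coprime (orderOf d) 2 := Nat.coprime_two_right.mpr hodd
      exact Nat.Coprime.pow_right 2 this
    have h4 : orderOf d ∣ n := by
      rw [mul_comm] at h2
      exact Nat.Coprime.dvd_of_dvd_mul_right h3 h2
    exact orderOf_dvd_iff_pow_eq_one.mp h4

end Cfsg.Agent.Lib.Helper60_RH_TORT
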