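import Mathlib
import Cfsg.Agent.Lib.Helper37_RHDefs

/-!
# REEHALL package STAB2 (architect helper37): every two-point stabiliser is cyclic of order `q - 1`.
-/

set_option autoImplicit false
set_option linter.unusedSectionVars false

namespace Cfsg.Agent.Lib.Helper31_RH_STAB2

open MulAction Subgroup Cfsg.Agent.Lib.Helper37_RHDefs
open scoped Pointwise

variable {G : Type*} [Group G] [Finite G] {Ω : Type*} [MulAction G Ω] {m : ℕ}

/-- the two-point stabiliser of `(g • x, g • y)` is the conjugate by `g` of that of `(x, y)` -/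
theorem stab2_smul (g : G) (x y : Ω) :
    stabilizer G (g • x) ⊓ stabilizer G (g • y) =
      (stabilizer G x ⊓ stabilizer G y).map (MulAut.conj g).toMonoidHom := by
  rw [Subgroup.map_inf _ _ _ (MulAut.conj g).injective, ← stabilizer_smul_eq_stabilizer_map_conj,
    ← stabilizer_smul_eq_stabilizer_map_conj]

/-- PK STAB2.  Every two-point stabiliser is cyclic of order `q - 1` (conjugate to the one of `h.stab2`). -/
theorem stab2_all (h : RH G Ω m) (x y : Ω) (hxy : x ≠ y) :
    IsCyclic ↥(stabilizer G x ⊓ stabilizer G y) ∧ Nat.card ↥(stabilizer G x ⊓ stabilizer G y) = Q m - 1 := by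
  obtain ⟨x0, y0, hxy0, hcyc, hcard⟩ := h.stab2
  obtain ⟨g, hgx, hgy⟩ := h.two_trans x0 y0 x y hxy0 hxy
  have key := stab2_smul g x0 y0
  rw [hgx, hgy] at key
  rw [key]
  let e := (stabilizer G x0 ⊓ stabilizer G y0).equivMapOfInjective (MulAut.conj g).toMonoidHom
    (MulAut.conj g).injective
  exact ⟨isCyclic_of_surjective e e.surjective, by rw [← Nat.card_congr e.toEquiv]; exact hcard⟩

end Cfsg.Agent.Lib.Helper31_RH_STAB2
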