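import Mathlib
import Cfsg.Agent.Lib.Helper37_RHDefs

set_option autoImplicit false

namespace Cfsg.Agent.Lib.Helper55_RH_FIX2

open MulAction Subgroup Cfsg.Agent.Lib.Helper37_RHDefs
open scoped Pointwise

variable {G : Type*} [Group G] [Finite G] {Ω : Type*} [MulAction G Ω] {m : ℕ}

/-- a non-identity element fixing three points is an involution (local copy of FIXINV) -/
theorem invol_of_fix_aux (h : RH G Ω m) (g : G) (hg1 : g ≠ 1) (x y z : Ω) (hxy : x ≠ y) (hxz : x ≠ z)
    (hyz : y ≠ z) (hx : g • x = x) (hy : g • y = y) (hz : g • z = z) : orderOf g = 2 := by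
  have hmem : g ∈ stabilizer G x ⊓ stabilizer G y ⊓ stabilizer G z :=
    ⟨⟨mem_stabilizer_iff.2 hx, mem_stabilizer_iff.2 hy⟩, mem_stabilizer_iff.2 hz⟩
  have hdvd := Subgroup.orderOf_dvd_natCard _ hmem
  have hle := h.stab3_le x y z hxy hxz hyz
  have hpos : 0 < Nat.card ↥(stabilizer G x ⊓ stabilizer G y ⊓ stabilizer G z) := Nat.card_pos
  have h1 : orderOf g ≤ 2 := le_trans (Nat.le_of_dvd hpos hdvd) hle
  have h2 : 0 < orderOf g := orderOf_pos g
  have h3 : orderOf g ≠ 1 := fun e => hg1 (orderOf_eq_one_iff.1 e)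
  omega

omit [Finite G] in
/-- the number of fixed points is invariant under conjugation -/
theorem fixN_conj (c g : G) : fixN Ω (c * g * c⁻¹) = fixN Ω g := by
  unfold fixN
  apply Nat.card_congr
  refine ⟨fun z => ⟨c⁻¹ • (z : Ω), ?_⟩, fun z => ⟨c • (z : Ω), ?_⟩, ?_, ?_⟩
  · have hz := z.2
    rw [mem_fixedBy] at hz ⊢
    rw [mul_smul, mul_smul] at hz
    have e : c⁻¹ • (c • g • c⁻¹ • (z : Ω)) = c⁻¹ • (z : Ω) := by rw [hz]
    rwa [smul_smul c⁻¹ c, inv_mul_cancel, one_smul] at e
  · have hz := z.2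
    rw [mem_fixedBy] at hz ⊢
    rw [mul_smul, mul_smul, smul_smul c⁻¹, inv_mul_cancel, one_smul, hz]
  · intro z
    apply Subtype.ext
    simp
  · intro z
    apply Subtype.ext
    simp

/-- involutions have at least three fixed points (local copy of FIXINV) -/
theorem invol_fix_aux (h : RH G Ω m) (t : G) (ht : orderOf t = 2) : 3 ≤ fixN Ω t := by
  have hΩ : Finite Ω := by
    apply Nat.finite_of_card_ne_zero
    rw [h.card_Ω]
    exact Nat.succ_ne_zero _
  obtain ⟨a, ha, hconj, -⟩ := h.invol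
  obtain ⟨x, y, z, hxy, hxz, hyz, hc⟩ := h.stab3_ex
  -- a non-identity element of the three-point stabiliser
  have hne : ∃ g ∈ stabilizer G x ⊓ stabilizer G y ⊓ stabilizer G z, g ≠ 1 := by
    by_contra hcon
    push Not at hcon
    have : (stabilizer G x ⊓ stabilizer G y ⊓ stabilizer G z) = ⊥ := by
      rw [Subgroup.eq_bot_iff_forall]
      exact hcon
    rw [this, Subgroup.card_bot] at hc
    omega
  obtain ⟨g, hg, hg1⟩ := hne
  have hx : g • x = x := mem_stabilizer_iff.1 hg.1.1
  have hy : g • y = y := mem_stabilizer_iff.1 hg.1.2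
  have hz : g • z = z := mem_stabilizer_iff.1 hg.2
  have hg2 := invol_of_fix_aux h g hg1 x y z hxy hxz hyz hx hy hz
  have h3 : 3 ≤ fixN Ω g := by
    unfold fixN
    rw [Nat.card_coe_set_eq]
    have hsub : ({x, y, z} : Set Ω) ⊆ fixedBy Ω g := by
      intro w hw
      rcases hw with rfl | rfl | rfl
      · exact hx
      · exact hy
      · exact hz
    have h3' : ({x, y, z} : Set Ω).ncard = 3 :=
      Set.ncard_eq_three.2 ⟨x, y, z, hxy, hxz, hyz, rfl⟩
    have := Set.ncard_le_ncard hsub (Set.toFinite _)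
    omega
  obtain ⟨c, hc'⟩ := hconj t ht
  obtain ⟨d, hd⟩ := hconj g hg2
  rw [← hc', fixN_conj, ← fixN_conj d a, hd]
  exact h3


/-- PK FIX2.  An element of order `> 2` of a two-point stabiliser fixes exactly these two points. -/
theorem fixedBy_of_stab2 (h : RH G Ω m) (x y : Ω) (hxy : x ≠ y) (g : G) (hx : g • x = x) (hy : g • y = y)
    (hg : g * g ≠ 1) : (∀ z : Ω, g • z = z ↔ z = x ∨ z = y) ∧ fixN Ω g = 2 := by
  have hg1 : g ≠ 1 := by
    rintro rfl
    exact hg (mul_one 1)
  have hfix : ∀ z : Ω, g • z = z ↔ z = x ∨ z = y := by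
    intro z
    constructor
    · intro hz
      by_contra hcon
      push Not at hcon
      have h2 := invol_of_fix_aux h g hg1 x y z hxy (Ne.symm hcon.1) (Ne.symm hcon.2) hx hy hz
      apply hg
      rw [← pow_two, ← h2, pow_orderOf_eq_one]
    · rintro (rfl | rfl)
      · exact hx
      · exact hy
  refine ⟨hfix, ?_⟩
  have hset : (fixedBy Ω g : Set Ω) = {x, y} := by
    ext z
    rw [mem_fixedBy, hfix z]
    simp
  unfold fixN
  rw [hset, Nat.card_coe_set_eq, Set.ncard_pair hxy]

/-- PK FIX2 (second part). -/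
theorem fixN_eq_two_iff (h : RH G Ω m) (g : G) :
    fixN Ω g = 2 ↔ g * g ≠ 1 ∧ ∃ x y : Ω, x ≠ y ∧ g • x = x ∧ g • y = y := by
  constructor
  · intro h2
    have hΩ : Finite Ω := by
      apply Nat.finite_of_card_ne_zero
      rw [h.card_Ω]
      exact Nat.succ_ne_zero _
    constructor
    · intro hgg
      by_cases hg1 : g = 1
      · subst hg1
        have : fixN Ω (1 : G) = Nat.card Ω := by
          unfold fixN
          have : (fixedBy Ω (1 : G) : Set Ω) = Set.univ := by
            ext z; simp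
          rw [this, Nat.card_coe_set_eq, Set.ncard_univ]
        rw [this, h.card_Ω] at h2
        have hq : 1 ≤ Q m := Nat.one_le_pow _ _ (by norm_num)
        have : 1 ≤ (Q m) ^ 3 := Nat.one_le_pow _ _ hq
        have h27 : 27 ≤ (Q m) ^ 3 := by
          have h3 : 3 ≤ Q m := by
            calc 3 = 3 ^ 1 := by norm_num
              _ ≤ 3 ^ (2 * m + 1) := Nat.pow_le_pow_right (by norm_num) (by omega)
          calc 27 = 3 ^ 3 := by norm_num
            _ ≤ (Q m) ^ 3 := Nat.pow_le_pow_left h3 3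
        omega
      · have ho : orderOf g = 2 := by
          apply orderOf_eq_prime
          · rw [pow_two]; exact hgg
          · exact hg1
        have := invol_fix_aux h g ho
        omega
    · unfold fixN at h2
      rw [Nat.card_coe_set_eq, Set.ncard_eq_two] at h2
      obtain ⟨x, y, hxy, hset⟩ := h2
      refine ⟨x, y, hxy, ?_, ?_⟩
      · have : x ∈ (fixedBy Ω g : Set Ω) := by rw [hset]; simp
        exact this
      · have : y ∈ (fixedBy Ω g : Set Ω) := by rw [hset]; simp
        exact this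
  · rintro ⟨hgg, x, y, hxy, hx, hy⟩
    exact (fixedBy_of_stab2 h x y hxy g hx hy hgg).2

end Cfsg.Agent.Lib.Helper55_RH_FIX2
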