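import Cfsg.Agent.Lib.Helper37_RHDefs
import Cfsg.Agent.Lib.Helper26_RHTorDefs

/-!
# Helper63_RH_F2COUNTaux: REEHALL package F2COUNT, with FIX2 and STAB2 as hypotheses

`2 · #{g : fixN g = 2} = (q - 3) q^3 (q^3 + 1)` by double counting the triples `(g, x, y)`, `x ≠ y` fixed
by `g`, `g * g ≠ 1`.  The statements of the packages STAB2 (`stab2_all`) and FIX2 (`fixedBy_of_stab2`,
`fixN_eq_two_iff`) are taken as hypotheses; the verbatim wrapper is in `Helper63_RH_F2COUNT`.
-/

set_option autoImplicit false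

namespace Cfsg.Agent.Lib.Helper63_RH_F2COUNTaux

open MulAction Subgroup Cfsg.Agent.Lib.Helper37_RHDefs
open scoped Pointwise

/-- In a finite cyclic group of even order exactly two elements have `k * k = 1`. -/
theorem card_sq_eq_one_of_cyclic {H : Type*} [Group H] [Finite H] [IsCyclic H]
    (hev : Even (Nat.card H)) : Nat.card {k : H // k * k = 1} = 2 := by
  classical
  let _ := Fintype.ofFinite H
  have h2 : 2 ∣ Fintype.card H := by
    rw [← Nat.card_eq_fintype_card]; exact hev.two_dvd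
  have c1 : (Finset.univ.filter fun a : H => orderOf a = 1).card = 1 := by
    rw [IsCyclic.card_orderOf_eq_totient (one_dvd _)]; simp
  have c2 : (Finset.univ.filter fun a : H => orderOf a = 2).card = 1 := by
    rw [IsCyclic.card_orderOf_eq_totient h2]; simp
  have hset : (Finset.univ.filter fun a : H => a * a = 1) =
      (Finset.univ.filter fun a : H => orderOf a = 1) ∪ (Finset.univ.filter fun a : H => orderOf a = 2) := by
    ext a
    simp only [Finset.mem_filter, Finset.mem_univ, true_and, Finset.mem_union]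
    rw [← pow_two, ← orderOf_dvd_iff_pow_eq_one, Nat.dvd_prime Nat.prime_two]
  have hdisj : Disjoint (Finset.univ.filter fun a : H => orderOf a = 1)
      (Finset.univ.filter fun a : H => orderOf a = 2) := by
    rw [Finset.disjoint_filter]
    intro a _ h1 h2'
    omega
  rw [Nat.card_eq_fintype_card, Fintype.card_subtype, hset, Finset.card_union_of_disjoint hdisj, c1, c2]

/-- In a finite cyclic group of even order `n` exactly `n - 2` elements have `k * k ≠ 1`. -/
theorem card_sq_ne_one_of_cyclic {H : Type*} [Group H] [Finite H] [IsCyclic H]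
    (hev : Even (Nat.card H)) : Nat.card {k : H // k * k ≠ 1} = Nat.card H - 2 := by
  classical
  let _ := Fintype.ofFinite H
  have h1 := card_sq_eq_one_of_cyclic (H := H) hev
  have h2 := Fintype.card_subtype_compl (fun k : H => k * k = 1)
  rw [Nat.card_eq_fintype_card] at h1
  rw [Nat.card_eq_fintype_card, Nat.card_eq_fintype_card]
  have h3 : Fintype.card {k : H // k * k ≠ 1} = Fintype.card {k : H // ¬ (k * k = 1)} :=
    Fintype.card_congr (Equiv.refl _)
  rw [h3, h2, h1]

variable {G : Type*} [Group G] [Finite G] {Ω : Type*} [MulAction G Ω] {m : ℕ}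

/-- `Q m - 1` is even. -/
theorem even_Q_sub_one (m : ℕ) : Even (Q m - 1) := by
  have hodd : Odd (Q m) := Odd.pow (by decide)
  obtain ⟨k, hk⟩ := hodd
  exact ⟨k, by omega⟩

/-- `27 ≤ Q m` for `1 ≤ m`. -/
theorem Q_ge (m : ℕ) (hm : 1 ≤ m) : 27 ≤ Q m := by
  have : (3 : ℕ) ^ 3 ≤ 3 ^ (2 * m + 1) := Nat.pow_le_pow_right (by norm_num) (by omega)
  simpa [Q] using this

/-- PK F2COUNT with the statements of STAB2 and FIX2 as hypotheses. -/
theorem card_fix_two_aux (h : RH G Ω m)
    (hstab : ∀ x y : Ω, x ≠ y → IsCyclic ↥(stabilizer G x ⊓ stabilizer G y) ∧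
      Nat.card ↥(stabilizer G x ⊓ stabilizer G y) = Q m - 1)
    (hfix : ∀ x y : Ω, x ≠ y → ∀ g : G, g • x = x → g • y = y → g * g ≠ 1 →
      (∀ z : Ω, g • z = z ↔ z = x ∨ z = y) ∧ fixN Ω g = 2)
    (hiff : ∀ g : G, fixN Ω g = 2 ↔ g * g ≠ 1 ∧ ∃ x y : Ω, x ≠ y ∧ g • x = x ∧ g • y = y) :
    2 * Nat.card {g : G // fixN Ω g = 2} = (Q m - 3) * (Q m) ^ 3 * ((Q m) ^ 3 + 1) := by
  classical
  have hΩfin : Finite Ω := Nat.finite_of_card_ne_zero (by rw [h.card_Ω]; positivity)
  let _ := Fintype.ofFinite G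
  let _ := Fintype.ofFinite Ω
  have key := Finset.sum_card_bipartiteAbove_eq_sum_card_bipartiteBelow
    (s := (Finset.univ : Finset G)) (t := (Finset.univ : Finset Ω).offDiag)
    (fun (g : G) (p : Ω × Ω) => g • p.1 = p.1 ∧ g • p.2 = p.2 ∧ g * g ≠ 1)
  -- the left side
  have hL : ∀ g ∈ (Finset.univ : Finset G),
      ((Finset.univ : Finset Ω).offDiag.bipartiteAbove
        (fun (g : G) (p : Ω × Ω) => g • p.1 = p.1 ∧ g • p.2 = p.2 ∧ g * g ≠ 1) g).card =
      if fixN Ω g = 2 then 2 else 0 := by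
    intro g _
    by_cases hg : fixN Ω g = 2
    · rw [if_pos hg]
      obtain ⟨hgg, x, y, hxy, hx, hy⟩ := (hiff g).1 hg
      have hz := (hfix x y hxy g hx hy hgg).1
      have : (Finset.univ : Finset Ω).offDiag.bipartiteAbove
          (fun (g : G) (p : Ω × Ω) => g • p.1 = p.1 ∧ g • p.2 = p.2 ∧ g * g ≠ 1) g =
          {(x, y), (y, x)} := by
        ext ⟨a, b⟩
        simp only [Finset.mem_bipartiteAbove, Finset.mem_offDiag, Finset.mem_univ, true_and,
          Finset.mem_insert, Finset.mem_singleton, Prod.mk.injEq]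
        constructor
        · rintro ⟨hab, ha, hb, _⟩
          rcases (hz a).1 ha with rfl | rfl
          · rcases (hz b).1 hb with rfl | rfl
            · exact absurd rfl hab
            · exact Or.inl ⟨rfl, rfl⟩
          · rcases (hz b).1 hb with rfl | rfl
            · exact Or.inr ⟨rfl, rfl⟩
            · exact absurd rfl hab
        · rintro (⟨rfl, rfl⟩ | ⟨rfl, rfl⟩)
          · exact ⟨hxy, hx, hy, hgg⟩
          · exact ⟨hxy.symm, hy, hx, hgg⟩
      rw [this, Finset.card_pair]
      intro hc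
      exact hxy (Prod.mk.inj hc).1
    · rw [if_neg hg]
      rw [Finset.card_eq_zero, Finset.eq_empty_iff_forall_notMem]
      rintro ⟨a, b⟩ hab
      simp only [Finset.mem_bipartiteAbove, Finset.mem_offDiag, Finset.mem_univ, true_and] at hab
      exact hg ((hiff g).2 ⟨hab.2.2.2, a, b, hab.1, hab.2.1, hab.2.2.1⟩)
  -- the right side
  have hq := Q_ge m h.hm
  have hR : ∀ p ∈ (Finset.univ : Finset Ω).offDiag,
      ((Finset.univ : Finset G).bipartiteBelow
        (fun (g : G) (p : Ω × Ω) => g • p.1 = p.1 ∧ g • p.2 = p.2 ∧ g * g ≠ 1) p).card = Q m - 3 := by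
    rintro ⟨x, y⟩ hp
    simp only [Finset.mem_offDiag, Finset.mem_univ, true_and] at hp
    obtain ⟨hcyc, hcard⟩ := hstab x y hp
    have hev : Even (Nat.card ↥(stabilizer G x ⊓ stabilizer G y)) := by
      rw [hcard]; exact even_Q_sub_one m
    have hc := card_sq_ne_one_of_cyclic (H := ↥(stabilizer G x ⊓ stabilizer G y)) hev
    rw [hcard] at hc
    have e : {g : G // g • x = x ∧ g • y = y ∧ g * g ≠ 1} ≃
        {k : ↥(stabilizer G x ⊓ stabilizer G y) // k * k ≠ 1} :=
      { toFun := fun g => ⟨⟨g.1, Subgroup.mem_inf.2 ⟨mem_stabilizer_iff.2 g.2.1,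
            mem_stabilizer_iff.2 g.2.2.1⟩⟩, fun hk => g.2.2.2 (congrArg Subtype.val hk)⟩
        invFun := fun k => ⟨k.1.1, mem_stabilizer_iff.1 (Subgroup.mem_inf.1 k.1.2).1,
            mem_stabilizer_iff.1 (Subgroup.mem_inf.1 k.1.2).2,
            fun hk => k.2 (Subtype.ext hk)⟩
        left_inv := fun g => rfl
        right_inv := fun k => rfl }
    have : ((Finset.univ : Finset G).bipartiteBelow
        (fun (g : G) (p : Ω × Ω) => g • p.1 = p.1 ∧ g • p.2 = p.2 ∧ g * g ≠ 1) (x, y)).card =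
        Nat.card {g : G // g • x = x ∧ g • y = y ∧ g * g ≠ 1} := by
      rw [Nat.card_eq_fintype_card, Fintype.card_subtype]
      rfl
    rw [this, Nat.card_congr e, hc]
    omega
  rw [Finset.sum_congr rfl hL, Finset.sum_congr rfl hR] at key
  rw [Finset.sum_const, Finset.offDiag_card, Finset.card_univ, ← Nat.card_eq_fintype_card (α := Ω),
    h.card_Ω, smul_eq_mul] at key
  rw [Finset.sum_ite, Finset.sum_const, Finset.sum_const_zero, add_zero, smul_eq_mul] at key
  have hcount : Nat.card {g : G // fixN Ω g = 2} =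
      (Finset.univ.filter fun g : G => fixN Ω g = 2).card := by
    rw [Nat.card_eq_fintype_card, Fintype.card_subtype]
  rw [hcount, mul_comm 2, key]
  have : ((Q m) ^ 3 + 1) * ((Q m) ^ 3 + 1) - ((Q m) ^ 3 + 1) = (Q m) ^ 3 * ((Q m) ^ 3 + 1) := by
    generalize (Q m) ^ 3 = t
    have : (t + 1) * (t + 1) = t * (t + 1) + (t + 1) := by ring
    omega
  rw [this]
  ring

end Cfsg.Agent.Lib.Helper63_RH_F2COUNTaux
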