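import Cfsg.Agent.Lib.Helper37_RHDefs
import Cfsg.Agent.Lib.Helper26_RHTorDefs
import Cfsg.Agent.Lib.Helper63_RH_F2COUNTaux
import Cfsg.Agent.Lib.Helper31_RH_STAB2
import Cfsg.Agent.Lib.Helper55_RH_FIX2

/-!
# Helper63_RH_F2COUNT: REEHALL package F2COUNT (verbatim)

`2 · #{g : fixN g = 2} = (q - 3) q^3 (q^3 + 1)`: the double count of `Helper63_RH_F2COUNTaux` fed with the landed
packages STAB2 (`Helper31_RH_STAB2.stab2_all`) and FIX2 (`Helper55_RH_FIX2.fixedBy_of_stab2`, `fixN_eq_two_iff`).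
-/

set_option autoImplicit false

namespace Cfsg.Agent.Lib.Helper63_RH_F2COUNT

open MulAction Subgroup Cfsg.Agent.Lib.Helper37_RHDefs
open scoped Pointwise

variable {G : Type*} [Group G] [Finite G] {Ω : Type*} [MulAction G Ω] {m : ℕ}

/-- PK F2COUNT.  `2 · #{g : fix g = 2} = (q - 3) q^3 (q^3 + 1)`.
(Count the triples `(g, x, y)`, `x ≠ y` fixed by `g`, `g * g ≠ 1`: for each of the `(q^3+1) q^3` ordered pairs the
stabiliser is cyclic of even order `q - 1`, so it has exactly 2 elements with `g * g = 1`; each `g` with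
`fixN g = 2` occurs for exactly 2 ordered pairs.) -/
theorem card_fix_two (h : RH G Ω m) :
    2 * Nat.card {g : G // fixN Ω g = 2} = (Q m - 3) * (Q m) ^ 3 * ((Q m) ^ 3 + 1) :=
  Cfsg.Agent.Lib.Helper63_RH_F2COUNTaux.card_fix_two_aux h
    (fun x y hxy => Cfsg.Agent.Lib.Helper31_RH_STAB2.stab2_all h x y hxy)
    (fun x y hxy g hx hy hg => Cfsg.Agent.Lib.Helper55_RH_FIX2.fixedBy_of_stab2 h x y hxy g hx hy hg)
    (fun g => Cfsg.Agent.Lib.Helper55_RH_FIX2.fixN_eq_two_iff h g)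

end Cfsg.Agent.Lib.Helper63_RH_F2COUNT
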