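/-
helper79 — package BURNSOLVE of helper26's REEHALL market (S1158, S1159, S2357, S2358):
the two Burnside equations of the Ree group on `q³ + 1` points.
-/
import Mathlib

set_option autoImplicit false

namespace Cfsg.Agent.Lib.Helper79_RH_BURNSOLVE

/-- The two Burnside equations of the Ree group on `q³ + 1` points determine the number `φ` of
fixed points of an involution and the number `f₁` of elements with exactly one fixed point. -/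
theorem solve {q φ f₁ f₂ : ℕ} (hq : 3 ≤ q)
    (hf₂ : 2 * f₂ = (q - 3) * q ^ 3 * (q ^ 3 + 1))
    (h1 : (q ^ 3 + 1) + f₁ + 2 * f₂ + φ * (q ^ 2 * (q ^ 2 - q + 1)) = q ^ 3 * (q ^ 3 + 1) * (q - 1))
    (h2 : (q ^ 3 + 1) ^ 2 + f₁ + 4 * f₂ + φ ^ 2 * (q ^ 2 * (q ^ 2 - q + 1)) =
      2 * (q ^ 3 * (q ^ 3 + 1) * (q - 1))) :
    φ = q + 1 ∧ f₁ = (q ^ 3 + 1) * (2 * q ^ 3 - q ^ 2 - 1) := by
  obtain ⟨k, rfl⟩ : ∃ k, q = k + 3 := ⟨q - 3, by omega⟩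
  have e1 : k + 3 - 3 = k := by omega
  have e2 : k + 3 - 1 = k + 2 := by omega
  have e3 : (k + 3) ^ 2 - (k + 3) + 1 = k ^ 2 + 5 * k + 7 := by
    have : (k + 3) ^ 2 = (k ^ 2 + 5 * k + 6) + (k + 3) := by ring
    rw [this, Nat.add_sub_cancel]
  have e4 : 2 * (k + 3) ^ 3 - (k + 3) ^ 2 - 1 = 2 * k ^ 3 + 17 * k ^ 2 + 48 * k + 44 := by
    have : 2 * (k + 3) ^ 3 = (2 * k ^ 3 + 17 * k ^ 2 + 48 * k + 44) + 1 + (k + 3) ^ 2 := by ring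
    rw [this, Nat.add_sub_cancel, Nat.add_sub_cancel]
  rw [e1] at hf₂
  rw [e2, e3] at h1 h2
  rw [e4]
  have HF : (2 : ℤ) * f₂ = k * (k + 3) ^ 3 * ((k + 3) ^ 3 + 1) := by exact_mod_cast hf₂
  have H1 : (((k : ℤ) + 3) ^ 3 + 1) + f₁ + 2 * f₂ + φ * ((k + 3) ^ 2 * (k ^ 2 + 5 * k + 7))
      = (k + 3) ^ 3 * ((k + 3) ^ 3 + 1) * (k + 2) := by exact_mod_cast h1
  have H2 : (((k : ℤ) + 3) ^ 3 + 1) ^ 2 + f₁ + 4 * f₂ + φ ^ 2 * ((k + 3) ^ 2 * (k ^ 2 + 5 * k + 7))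
      = 2 * ((k + 3) ^ 3 * ((k + 3) ^ 3 + 1) * (k + 2)) := by exact_mod_cast h2
  have hφ : ((φ : ℤ) - (k + 4)) * ((φ : ℤ) + k + 3) * (((k : ℤ) + 3) ^ 2 * (k ^ 2 + 5 * k + 7)) = 0 := by
    linear_combination H2 - H1 - HF
  have hk0 : (0 : ℤ) ≤ k := Int.natCast_nonneg k
  have hφ0 : (0 : ℤ) ≤ φ := Int.natCast_nonneg φ
  have hφ1 : (φ : ℤ) = k + 4 := by
    rcases mul_eq_zero.1 hφ with h | h
    · rcases mul_eq_zero.1 h with h' | h'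
      · linarith
      · exfalso; linarith
    · exfalso
      have : (0 : ℤ) < ((k : ℤ) + 3) ^ 2 * (k ^ 2 + 5 * k + 7) := by positivity
      linarith
  have hφ2 : φ = k + 4 := by exact_mod_cast hφ1
  refine ⟨by omega, ?_⟩
  have hf1 : (f₁ : ℤ) = (((k : ℤ) + 3) ^ 3 + 1) * (2 * k ^ 3 + 17 * k ^ 2 + 48 * k + 44) := by
    rw [hφ1] at H1
    linear_combination H1 - HF
  exact_mod_cast hf1

end Cfsg.Agent.Lib.Helper79_RH_BURNSOLVE
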