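/-
helper79 — package CENSUS of helper26's REEHALL market (S1158, S1159, S2357, S2358):
the number of elements left over for the tori of order dividing `q² - q + 1`.
-/
import Mathlib

set_option autoImplicit false

namespace Cfsg.Agent.Lib.Helper79_RH_CENSUS

/-- The number `T` of elements left over for the tori of order dividing `q² - q + 1`. -/
theorem census {q f₂ sig T : ℕ} (hq : 3 ≤ q)
    (hf₂ : 2 * f₂ = (q - 3) * q ^ 3 * (q ^ 3 + 1))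
    (hsig : 6 * sig = (q - 3) * q ^ 3 * (q ^ 2 - q + 1) * (q - 1))
    (hT : 1 + q ^ 2 * (q ^ 2 - q + 1) + (q ^ 3 + 1) * (2 * q ^ 3 - q ^ 2 - 1) + f₂ + sig + T =
      q ^ 3 * (q ^ 3 + 1) * (q - 1)) :
    3 * T = q ^ 4 * (q + 1) * (q - 1) * (q - 2) := by
  obtain ⟨k, rfl⟩ : ∃ k, q = k + 3 := ⟨q - 3, by omega⟩
  have e1 : k + 3 - 3 = k := by omega
  have e2 : k + 3 - 1 = k + 2 := by omega
  have e5 : k + 3 - 2 = k + 1 := by omega
  have e3 : (k + 3) ^ 2 - (k + 3) + 1 = k ^ 2 + 5 * k + 7 := by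
    have : (k + 3) ^ 2 = (k ^ 2 + 5 * k + 6) + (k + 3) := by ring
    rw [this, Nat.add_sub_cancel]
  have e4 : 2 * (k + 3) ^ 3 - (k + 3) ^ 2 - 1 = 2 * k ^ 3 + 17 * k ^ 2 + 48 * k + 44 := by
    have : 2 * (k + 3) ^ 3 = (2 * k ^ 3 + 17 * k ^ 2 + 48 * k + 44) + 1 + (k + 3) ^ 2 := by ring
    rw [this, Nat.add_sub_cancel, Nat.add_sub_cancel]
  rw [e1] at hf₂ hsig
  rw [e2, e3] at hsig
  rw [e2, e3, e4] at hT
  rw [e2, e5]
  have HF : (2 : ℤ) * f₂ = k * (k + 3) ^ 3 * ((k + 3) ^ 3 + 1) := by exact_mod_cast hf₂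
  have HS : (6 : ℤ) * sig = k * (k + 3) ^ 3 * (k ^ 2 + 5 * k + 7) * (k + 2) := by
    exact_mod_cast hsig
  have HT : (1 : ℤ) + (k + 3) ^ 2 * (k ^ 2 + 5 * k + 7)
      + ((k + 3) ^ 3 + 1) * (2 * k ^ 3 + 17 * k ^ 2 + 48 * k + 44) + f₂ + sig + T
      = (k + 3) ^ 3 * ((k + 3) ^ 3 + 1) * (k + 2) := by exact_mod_cast hT
  have h6 : (2 : ℤ) * (3 * T) = 2 * (((k : ℤ) + 3) ^ 4 * (k + 3 + 1) * (k + 2) * (k + 1)) := by
    linear_combination 6 * HT - 3 * HF - HS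
  have h3 : (3 : ℤ) * T = ((k : ℤ) + 3) ^ 4 * (k + 3 + 1) * (k + 2) * (k + 1) := by linarith
  exact_mod_cast h3

end Cfsg.Agent.Lib.Helper79_RH_CENSUS
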