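import Mathlib

set_option autoImplicit false

/-!
REEHALL package BURN (helper89, for helper26's market): Burnside sums for transitive and 2-transitive actions.
-/

namespace Cfsg.Agent.Lib.Helper89_RH_BURN

/-- Burnside for a transitive action. -/
theorem sum_fixed {G X : Type*} [Group G] [Fintype G] [MulAction G X] [Finite X] [Nonempty X]
    (htr : ∀ a b : X, ∃ g : G, g • a = b) :
    ∑ g : G, Nat.card ↥(MulAction.fixedBy X g) = Nat.card G := by
  classical
  have : Fintype X := Fintype.ofFinite X
  have h := MulAction.sum_card_fixedBy_eq_card_orbits_mul_card_group G X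
  have h1 : Fintype.card (Quotient (MulAction.orbitRel G X)) = 1 := by
    rw [Fintype.card_eq_one_iff]
    obtain ⟨x0⟩ := ‹Nonempty X›
    refine ⟨Quotient.mk _ x0, fun y => ?_⟩
    induction y using Quotient.inductionOn with
    | _ y =>
      apply Quotient.sound
      obtain ⟨g, hg⟩ := htr x0 y
      exact ⟨g, hg⟩
  simp only [Nat.card_eq_fintype_card]
  rw [h, h1, one_mul]

/-- the fixed points of `g` on `X × X` -/
theorem card_fixedBy_prod {G X : Type*} [Group G] [MulAction G X] (g : G) :
    Nat.card ↥(MulAction.fixedBy (X × X) g) = (Nat.card ↥(MulAction.fixedBy X g)) ^ 2 := by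
  rw [sq, ← Nat.card_prod]
  refine Nat.card_congr
    { toFun := fun p => (⟨p.1.1, ?_⟩, ⟨p.1.2, ?_⟩)
      invFun := fun p => ⟨(p.1.1, p.2.1), ?_⟩
      left_inv := fun p => rfl
      right_inv := fun p => rfl }
  · have := p.2
    rw [MulAction.mem_fixedBy] at this ⊢
    exact congrArg Prod.fst this
  · have := p.2
    rw [MulAction.mem_fixedBy] at this ⊢
    exact congrArg Prod.snd this
  · have h1 := p.1.2
    have h2 := p.2.2
    rw [MulAction.mem_fixedBy] at h1 h2 ⊢
    exact Prod.ext h1 h2

/-- Burnside for a 2-transitive action. -/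
theorem sum_fixed_sq {G X : Type*} [Group G] [Fintype G] [MulAction G X] [Finite X]
    (hX : 2 ≤ Nat.card X)
    (h2 : ∀ a b c d : X, a ≠ b → c ≠ d → ∃ g : G, g • a = c ∧ g • b = d) :
    ∑ g : G, (Nat.card ↥(MulAction.fixedBy X g)) ^ 2 = 2 * Nat.card G := by
  classical
  have : Fintype X := Fintype.ofFinite X
  have hX' : 1 < Fintype.card X := by
    rw [← Nat.card_eq_fintype_card]; exact hX
  obtain ⟨x0, x1, h01⟩ : ∃ x0 x1 : X, x0 ≠ x1 := Fintype.one_lt_card_iff.mp hX'
  have hne : ∀ a : X, ∃ b : X, b ≠ a := fun a => by
    by_cases h : a = x0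
    · exact ⟨x1, by rw [h]; exact h01.symm⟩
    · exact ⟨x0, fun e => h e.symm⟩
  -- transitivity
  have htr : ∀ a c : X, ∃ g : G, g • a = c := fun a c => by
    obtain ⟨b, hb⟩ := hne a
    obtain ⟨d, hd⟩ := hne c
    obtain ⟨g, hg, -⟩ := h2 a b c d hb.symm hd.symm
    exact ⟨g, hg⟩
  have h := MulAction.sum_card_fixedBy_eq_card_orbits_mul_card_group G (X × X)
  have hq : Fintype.card (Quotient (MulAction.orbitRel G (X × X))) = 2 := by
    let Fm : Quotient (MulAction.orbitRel G (X × X)) → Bool :=
      Quotient.lift (fun p : X × X => decide (p.1 = p.2)) (by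
        rintro ⟨a, b⟩ ⟨c, d⟩ ⟨g, hg⟩
        have h1 : g • c = a := congrArg Prod.fst hg
        have h2 : g • d = b := congrArg Prod.snd hg
        simp only [decide_eq_decide]
        rw [← h1, ← h2]
        exact (MulAction.injective g).eq_iff)
    have hF : Function.Bijective Fm := by
      constructor
      · intro y z
        induction y using Quotient.inductionOn with
        | _ y =>
          induction z using Quotient.inductionOn with
          | _ z =>
            obtain ⟨a, b⟩ := y
            obtain ⟨c, d⟩ := z
            intro hyz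
            have hyz' : decide (a = b) = decide (c = d) := hyz
            rw [decide_eq_decide] at hyz'
            apply Quotient.sound
            by_cases hab : a = b
            · have hcd : c = d := hyz'.mp hab
              obtain ⟨g, hg⟩ := htr c a
              refine ⟨g, ?_⟩
              rw [← hab, ← hcd]
              exact Prod.ext hg hg
            · have hcd : c ≠ d := fun e => hab (hyz'.mpr e)
              obtain ⟨g, hg1, hg2⟩ := h2 c d a b hcd hab
              exact ⟨g, Prod.ext hg1 hg2⟩
      · intro b
        cases b with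
        | false =>
          refine ⟨Quotient.mk _ (x0, x1), ?_⟩
          change decide (x0 = x1) = false
          exact decide_eq_false h01
        | true =>
          refine ⟨Quotient.mk _ (x0, x0), ?_⟩
          change decide (x0 = x0) = true
          exact decide_eq_true rfl
    rw [Fintype.card_congr (Equiv.ofBijective Fm hF), Fintype.card_bool]
  have e : ∀ g : G, (Nat.card ↥(MulAction.fixedBy X g)) ^ 2 =
      Fintype.card ↥(MulAction.fixedBy (X × X) g) := fun g => by
    rw [← card_fixedBy_prod, Nat.card_eq_fintype_card]
  rw [Finset.sum_congr rfl (fun g _ => e g), h, hq, Nat.card_eq_fintype_card]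

end Cfsg.Agent.Lib.Helper89_RH_BURN
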