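import Mathlib
import Cfsg.Agent.Lib.Helper37_RHDefs

/-!
# REEHALL package ZEROSUM, core (helper37's market `reehall_packages`)

The census of `G` by the number of fixed points, with the two statements of package FIXINV as hypotheses.
-/

set_option autoImplicit false

namespace Cfsg.Agent.Lib.Helper8_RH_ZEROSUMcore

open MulAction Subgroup Cfsg.Agent.Lib.Helper37_RHDefs

set_option linter.unusedSectionVars false

variable {G : Type*} [Group G] [Finite G] {Ω : Type*} [MulAction G Ω] {m : ℕ}

/-- three distinct fixed points from `3 ≤ fixN` -/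
theorem exists_three_fixed [Finite Ω] (g : G) (h3 : 3 ≤ fixN Ω g) :
    ∃ x y z : Ω, x ≠ y ∧ x ≠ z ∧ y ≠ z ∧ g • x = x ∧ g • y = y ∧ g • z = z := by
  classical
  have : Fintype ↥(MulAction.fixedBy Ω g) := Fintype.ofFinite _
  unfold fixN at h3
  rw [Nat.card_eq_fintype_card] at h3
  obtain ⟨a, b, c, hab, hac, hbc⟩ := Fintype.two_lt_card_iff (α := ↥(MulAction.fixedBy Ω g)) |>.mp (by omega)
  refine ⟨a.1, b.1, c.1, fun h => hab (Subtype.ext h), fun h => hac (Subtype.ext h),
    fun h => hbc (Subtype.ext h), a.2, b.2, c.2⟩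

theorem fixN_one [Finite Ω] : fixN Ω (1 : G) = Nat.card Ω := by
  unfold fixN
  have : MulAction.fixedBy Ω (1 : G) = Set.univ := by
    ext x; simp
  rw [this]
  exact Nat.card_congr (Equiv.Set.univ Ω)

theorem card_split_core (h : RH G Ω m)
    (hinv : ∀ g : G, g ≠ 1 → ∀ x y z : Ω, x ≠ y → x ≠ z → y ≠ z → g • x = x → g • y = y → g • z = z →
      orderOf g = 2)
    (hfix : ∀ t : G, orderOf t = 2 → 3 ≤ fixN Ω t) :
    Nat.card G = 1 + Nat.card {g : G // orderOf g = 2} + Nat.card {g : G // fixN Ω g = 0} +
      Nat.card {g : G // fixN Ω g = 1} + Nat.card {g : G // fixN Ω g = 2} := by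
  classical
  have hΩ : Finite Ω := by
    apply Nat.finite_of_card_ne_zero
    rw [h.card_Ω]; positivity
  have : Fintype G := Fintype.ofFinite G
  have hcard : ∀ (P : G → Prop) [DecidablePred P],
      Nat.card {g : G // P g} = ∑ g : G, if P g then 1 else 0 := by
    intro P _
    rw [Nat.card_eq_fintype_card, Fintype.card_subtype, Finset.card_filter]
  have hq : 27 ≤ Nat.card Ω := by
    rw [h.card_Ω]
    have : 3 ^ 1 ≤ Q m := Nat.pow_le_pow_right (by norm_num) (by omega)
    have h3 : 3 ≤ Q m := by simpa using this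
    nlinarith [Nat.pow_le_pow_left h3 3]
  have key : ∑ g : G, (((((if g = 1 then 1 else 0) + (if orderOf g = 2 then 1 else 0)) +
      (if fixN Ω g = 0 then 1 else 0)) + (if fixN Ω g = 1 then 1 else 0)) +
      (if fixN Ω g = 2 then 1 else 0) : ℕ) = ∑ _g : G, 1 := by
    apply Finset.sum_congr rfl
    intro g _
    by_cases hg1 : g = 1
    · subst hg1
      have hf : fixN Ω (1 : G) = Nat.card Ω := fixN_one
      rw [if_pos rfl, if_neg (by rw [orderOf_one]; norm_num), if_neg (by omega), if_neg (by omega),
        if_neg (by omega)]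
    · by_cases hg2 : orderOf g = 2
      · have := hfix g hg2
        rw [if_neg hg1, if_pos hg2, if_neg (by omega), if_neg (by omega), if_neg (by omega)]
      · have hle : fixN Ω g ≤ 2 := by
          by_contra hcon
          obtain ⟨x, y, z, hxy, hxz, hyz, hx, hy, hz⟩ := exists_three_fixed (Ω := Ω) g (by omega)
          exact hg2 (hinv g hg1 x y z hxy hxz hyz hx hy hz)
        rw [if_neg hg1, if_neg hg2]
        interval_cases hn : fixN Ω g <;> simp
  rw [Finset.sum_add_distrib, Finset.sum_add_distrib, Finset.sum_add_distrib,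
    Finset.sum_add_distrib, Finset.sum_ite_eq' Finset.univ (1 : G) (fun _ => (1 : ℕ))] at key
  simp only [Finset.mem_univ, if_true] at key
  rw [hcard, hcard, hcard, hcard, Nat.card_eq_fintype_card, Fintype.card_eq_sum_ones]
  exact key.symm

end Cfsg.Agent.Lib.Helper8_RH_ZEROSUMcore
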