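import Mathlib
import Cfsg.Agent.Lib.Helper37_RHDefs
import Cfsg.Agent.Lib.Helper31_RH_FIXINV
import Cfsg.Agent.Lib.Helper8_RH_ZEROSUMcore

/-!
# REEHALL package ZEROSUM (helper37's market `reehall_packages`)

The census of `G` by the number of fixed points.
-/

set_option autoImplicit false

namespace Cfsg.Agent.Lib.Helper8_RH_ZEROSUM

open MulAction Subgroup Cfsg.Agent.Lib.Helper37_RHDefs

variable {G : Type*} [Group G] [Finite G] {Ω : Type*} [MulAction G Ω] {m : ℕ}

theorem card_split (h : RH G Ω m) :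
    Nat.card G = 1 + Nat.card {g : G // orderOf g = 2} + Nat.card {g : G // fixN Ω g = 0} +
      Nat.card {g : G // fixN Ω g = 1} + Nat.card {g : G // fixN Ω g = 2} :=
  Cfsg.Agent.Lib.Helper8_RH_ZEROSUMcore.card_split_core h
    (fun g hg1 x y z hxy hxz hyz hx hy hz =>
      Cfsg.Agent.Lib.Helper31_RH_FIXINV.invol_of_fix h g hg1 x y z hxy hxz hyz hx hy hz)
    (fun t ht => (Cfsg.Agent.Lib.Helper31_RH_FIXINV.invol_fix h t t ht ht).2)

end Cfsg.Agent.Lib.Helper8_RH_ZEROSUM
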