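import Mathlib
import Cfsg.Agent.Lib.Helper37_RHDefs
import Cfsg.Agent.Lib.Helper89_RH_BURN
import Cfsg.Agent.Lib.Helper79_RH_BURNSOLVE
import Cfsg.Agent.Lib.Helper79_RH_CENSUS
import Cfsg.Agent.Lib.Helper5_RH_FIXSUM
import Cfsg.Agent.Lib.Helper63_RH_F2COUNT
import Cfsg.Agent.Lib.Helper53_RH_INVCOUNT
import Cfsg.Agent.Lib.Helper8_RH_ZEROSUM
import Cfsg.Agent.Lib.Helper31_RH_FIXINV
import Cfsg.Agent.Lib.Helper60_RH_TORT

/-!
# Helper26_RH_CARDPIaux: REEHALL package CARDPI, everything except the inputs NOFIX and SIGCOUNT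

`card_fix_one` is final (VERBATIM); `card_pi_of` is `card_pi` with the three NOFIX statements and SIGCOUNT's
`card_sig` as hypotheses.
-/

set_option autoImplicit false

namespace Cfsg.Agent.Lib.Helper26_RH_CARDPIaux

open MulAction Subgroup Cfsg.Agent.Lib.Helper37_RHDefs Cfsg.Agent.Lib

variable {G : Type*} [Group G] [Finite G] {Ω : Type*} [MulAction G Ω] {m : ℕ}

theorem three_le_Q (m : ℕ) : 3 ≤ Q m := by
  show 3 ≤ 3 ^ (2 * m + 1)
  calc 3 = 3 ^ 1 := by norm_num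
    _ ≤ 3 ^ (2 * m + 1) := Nat.pow_le_pow_right (by norm_num) (by omega)

/-- The solved Burnside equations. -/
theorem burnside (h : RH G Ω m) (a : G) (ha : orderOf a = 2) :
    fixN Ω a = Q m + 1 ∧
      Nat.card {g : G // fixN Ω g = 1} = ((Q m) ^ 3 + 1) * (2 * (Q m) ^ 3 - (Q m) ^ 2 - 1) := by
  classical
  have : Fintype G := Fintype.ofFinite G
  have hΩpos : Nat.card Ω ≠ 0 := by rw [h.card_Ω]; positivity
  have : Finite Ω := Nat.finite_of_card_ne_zero hΩpos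
  have : Nonempty Ω := (Nat.card_pos_iff.mp (Nat.pos_of_ne_zero hΩpos)).1
  have hq := three_le_Q m
  have htr : ∀ x y : Ω, ∃ g : G, g • x = y := by
    intro x y
    by_cases hxy : x = y
    · exact ⟨1, by rw [one_smul, hxy]⟩
    · obtain ⟨g, hg, -⟩ := h.two_trans x y y x hxy (Ne.symm hxy)
      exact ⟨g, hg⟩
  have hX2 : 2 ≤ Nat.card Ω := by
    rw [h.card_Ω]
    have : 0 < (Q m) ^ 3 := by positivity
    omega
  have hs1 := Helper89_RH_BURN.sum_fixed (G := G) (X := Ω) htr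
  have hs2 := Helper89_RH_BURN.sum_fixed_sq (G := G) (X := Ω) hX2 h.two_trans
  obtain ⟨hsp1, hsp2⟩ := Helper5_RH_FIXSUM.fix_sums_split h a ha
  have hf2 := Helper63_RH_F2COUNT.card_fix_two (Ω := Ω) h
  have hI := Helper53_RH_INVCOUNT.card_invol (Ω := Ω) h
  have e1 : ∑ g : G, fixN Ω g = Nat.card G := hs1
  have e2 : ∑ g : G, (fixN Ω g) ^ 2 = 2 * Nat.card G := hs2
  rw [hsp1, hI, h.card_G] at e1
  rw [hsp2, hI, h.card_G] at e2
  have := Helper79_RH_BURNSOLVE.solve (q := Q m) (φ := fixN Ω a)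
    (f₁ := Nat.card {g : G // fixN Ω g = 1}) (f₂ := Nat.card {g : G // fixN Ω g = 2}) hq hf2
    (by rw [e1]; ring) (by rw [e2]; ring)
  exact this

/-- PK CARDPI (second part): by-products of the census. -/
theorem card_fix_one (h : RH G Ω m) :
    Nat.card {g : G // fixN Ω g = 1} = ((Q m) ^ 3 + 1) * (2 * (Q m) ^ 3 - (Q m) ^ 2 - 1) ∧
      ∀ t : G, orderOf t = 2 → fixN Ω t = Q m + 1 := by
  obtain ⟨a, ha, -⟩ := h.invol
  obtain ⟨h1, h2⟩ := burnside h a ha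
  refine ⟨h2, fun t ht => ?_⟩
  rw [(Helper31_RH_FIXINV.invol_fix h t a ht ha).1, h1]

/-- The fixed-point-free elements are the `π`-elements and the elements of `σ`-type. -/
theorem card_nofix (D V : Subgroup G)
    (hcases : ∀ g : G, fixN Ω g = 0 → IsPi m g ∨ IsSig D V g)
    (hpi : ∀ g : G, IsPi m g → fixN Ω g = 0)
    (hsig : ∀ g : G, IsSig D V g → fixN Ω g = 0 ∧ ¬ IsPi m g) :
    Nat.card {g : G // fixN Ω g = 0} =
      Nat.card {g : G // IsPi m g} + Nat.card {g : G // IsSig D V g} := by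
  classical
  have hset : {g : G | fixN Ω g = 0} = {g : G | IsPi m g} ∪ {g : G | IsSig D V g} := by
    ext g
    simp only [Set.mem_ofPred_eq, Set.mem_union]
    constructor
    · intro hg
      exact hcases g hg
    · rintro (hg | hg)
      · exact hpi g hg
      · exact (hsig g hg).1
  have hdisj : Disjoint {g : G | IsPi m g} {g : G | IsSig D V g} := by
    rw [Set.disjoint_left]
    intro g hg1 hg2
    exact (hsig g hg2).2 hg1
  show Nat.card ↥{g : G | fixN Ω g = 0} = Nat.card ↥{g : G | IsPi m g} + Nat.card ↥{g : G | IsSig D V g}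
  rw [Nat.card_coe_set_eq, Nat.card_coe_set_eq, Nat.card_coe_set_eq, hset,
    Set.ncard_union_eq hdisj (Set.toFinite _) (Set.toFinite _)]

/-- PK CARDPI with the NOFIX and SIGCOUNT statements as hypotheses. -/
theorem card_pi_of (h : RH G Ω m)
    (hcases : ∀ (D T V : Subgroup G), TorT m D T V → ∀ g : G, fixN Ω g = 0 → IsPi m g ∨ IsSig D V g)
    (hpi : ∀ g : G, IsPi m g → fixN Ω g = 0)
    (hsig : ∀ (D T V : Subgroup G), TorT m D T V → ∀ g : G, IsSig D V g → fixN Ω g = 0 ∧ ¬ IsPi m g)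
    (hcs : ∀ (D T V : Subgroup G), TorT m D T V →
      6 * (Q m + 1) * Nat.card {g : G // IsSig D V g} = Nat.card G * (Q m - 3)) :
    3 * Nat.card {g : G // g ≠ 1 ∧ orderOf g ∣ (3 ^ (2 * m + 1)) ^ 2 - 3 ^ (2 * m + 1) + 1} =
      (3 ^ (2 * m + 1)) ^ 4 * (3 ^ (2 * m + 1) + 1) * (3 ^ (2 * m + 1) - 1) * (3 ^ (2 * m + 1) - 2) := by
  obtain ⟨D, T, V, hT⟩ := Helper60_RH_TORT.exists_torT (Ω := Ω) h
  have hq := three_le_Q m
  have hf1 := (card_fix_one (Ω := Ω) h).1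
  have hf2 := Helper63_RH_F2COUNT.card_fix_two (Ω := Ω) h
  have hI := Helper53_RH_INVCOUNT.card_invol (Ω := Ω) h
  have hsplit := Helper8_RH_ZEROSUM.card_split (Ω := Ω) h
  have hZ := card_nofix (Ω := Ω) D V (hcases D T V hT) hpi (hsig D T V hT)
  have hsig := hcs D T V hT
  -- 6 * sig = (q - 3) q^3 (q^2 - q + 1) (q - 1)
  have hsig' : 6 * Nat.card {g : G // IsSig D V g} =
      (Q m - 3) * (Q m) ^ 3 * ((Q m) ^ 2 - Q m + 1) * (Q m - 1) := by
    have hfac : (Q m) ^ 3 + 1 = (Q m + 1) * ((Q m) ^ 2 - Q m + 1) := by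
      have hle : Q m ≤ (Q m) ^ 2 := by nlinarith
      zify [hle]
      ring
    rw [h.card_G, hfac] at hsig
    have hpos : 0 < Q m + 1 := by omega
    apply Nat.eq_of_mul_eq_mul_left hpos
    calc (Q m + 1) * (6 * Nat.card {g : G // IsSig D V g})
        = 6 * (Q m + 1) * Nat.card {g : G // IsSig D V g} := by ring
      _ = (Q m) ^ 3 * (Q m - 1) * ((Q m + 1) * ((Q m) ^ 2 - Q m + 1)) * (Q m - 3) := hsig
      _ = (Q m + 1) * ((Q m - 3) * (Q m) ^ 3 * ((Q m) ^ 2 - Q m + 1) * (Q m - 1)) := by ring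
  have hT' : 1 + (Q m) ^ 2 * ((Q m) ^ 2 - Q m + 1) +
      ((Q m) ^ 3 + 1) * (2 * (Q m) ^ 3 - (Q m) ^ 2 - 1) + Nat.card {g : G // fixN Ω g = 2} +
      Nat.card {g : G // IsSig D V g} + Nat.card {g : G // IsPi m g} =
      (Q m) ^ 3 * ((Q m) ^ 3 + 1) * (Q m - 1) := by
    rw [h.card_G, hI, hZ, hf1] at hsplit
    rw [show (Q m) ^ 3 * ((Q m) ^ 3 + 1) * (Q m - 1) = (Q m) ^ 3 * (Q m - 1) * ((Q m) ^ 3 + 1) by ring,
      hsplit]
    ring
  exact Helper79_RH_CENSUS.census (q := Q m) hq hf2 hsig' hT'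

end Cfsg.Agent.Lib.Helper26_RH_CARDPIaux
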