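import Mathlib
import Cfsg.Agent.Lib.Helper37_RHDefs

/-!
# REEHALL package NORMT, core (architect helper37)

`normalizer_torT_core`: for torus data `TorT m D T V`, given `|C(V)| = 2 (q + 1)` and `|N(V)| = 3 |C(V)|` (packages N4A,
N4B), `N(A₀) = N(D) = N(V)` of order `6 (q + 1)` for every non-trivial `A₀ ≤ T`.  No hypothesis on `G` beyond finiteness.
-/

set_option autoImplicit false

namespace Cfsg.Agent.Lib.Helper3_RH_NORMTcore

open MulAction Subgroup Cfsg.Agent.Lib.Helper37_RHDefs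

variable {G : Type*} [Group G] {m : ℕ}

theorem Qmod (m : ℕ) : Q m % 8 = 3 := by
  unfold Q
  rw [pow_succ, pow_mul, Nat.mul_mod, Nat.pow_mod]
  norm_num

theorem four_mul_k (m : ℕ) : 4 * ((Q m + 1) / 4) = Q m + 1 := by
  have := Qmod m
  omega

theorem k_odd (m : ℕ) : Odd ((Q m + 1) / 4) := by
  have := Qmod m
  rw [Nat.odd_iff]
  omega

/-- conjugation preserves `a * a = 1` -/
theorem conj_sq_iff (g v : G) : (g * v * g⁻¹) * (g * v * g⁻¹) = 1 ↔ v * v = 1 := by
  have : (g * v * g⁻¹) * (g * v * g⁻¹) = g * (v * v) * g⁻¹ := by group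
  rw [this]
  constructor
  · intro h
    have : v * v = g⁻¹ * (g * (v * v) * g⁻¹) * g := by group
    rw [this, h]
    group
  · intro h
    rw [h]
    group

/-- `N(D) ≤ N(V)`. -/
theorem normalizer_D_le {D T V : Subgroup G} (hT : TorT m D T V) :
    normalizer (D : Set G) ≤ normalizer (V : Set G) := by
  intro g hg
  rw [mem_normalizer_iff] at hg ⊢
  intro v
  have hV : ∀ x : G, x ∈ V ↔ x ∈ D ∧ x * x = 1 :=
    fun x => ⟨fun hx => ⟨hT.V_le hx, hT.V_sq x hx⟩, fun hx => hT.mem_V x hx.1 hx.2⟩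
  rw [hV, hV, ← hg v, conj_sq_iff]

/-- `N(A₀) ≤ N(D)` for `1 ≠ A₀ ≤ T`. -/
theorem normalizer_A_le {D T V : Subgroup G} (hT : TorT m D T V) (A₀ : Subgroup G) (hA : A₀ ≤ T)
    (hA1 : A₀ ≠ ⊥) : normalizer (A₀ : Set G) ≤ normalizer (D : Set G) := by
  intro g hg
  obtain ⟨t, ht1⟩ := (Subgroup.ne_bot_iff_exists_ne_one.mp hA1)
  have htA' : (t : G) ∈ A₀ := t.2
  have ht1' : (t : G) ≠ 1 := fun h => ht1 (Subtype.ext h)
  rw [mem_normalizer_iff] at hg ⊢
  have hgt : g * (t : G) * g⁻¹ ∈ A₀ := (hg _).mp htA'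
  have hgt1 : g * (t : G) * g⁻¹ ≠ 1 := by
    intro h
    apply ht1'
    have : (t : G) = g⁻¹ * (g * (t : G) * g⁻¹) * g := by group
    rw [this, h]
    group
  have h1 := hT.cent _ (hA htA') ht1'
  have h2 := hT.cent _ (hA hgt) hgt1
  intro d
  have e1 : d ∈ D ↔ d ∈ centralizer ({(t : G)} : Set G) := by rw [h1]
  have e2 : g * d * g⁻¹ ∈ D ↔ g * d * g⁻¹ ∈ centralizer ({g * (t : G) * g⁻¹} : Set G) := by
    rw [h2]
  rw [e1, e2, mem_centralizer_singleton_iff, mem_centralizer_singleton_iff]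
  constructor
  · intro h
    have : g * d * g⁻¹ * (g * ↑t * g⁻¹) = g * (d * ↑t) * g⁻¹ := by group
    rw [this, h]
    group
  · intro h
    have e1 : d * ↑t = g⁻¹ * (g * d * g⁻¹ * (g * ↑t * g⁻¹)) * g := by group
    rw [e1, h]
    group

/-- `D ≤ C(V)`. -/
theorem D_le_centralizer {D T V : Subgroup G} (hT : TorT m D T V) :
    D ≤ centralizer (V : Set G) := by
  intro d hd
  rw [mem_centralizer_iff]
  intro v hv
  exact hT.comm v (hT.V_le hv) d hd

/-- An element of odd order of `C(V)` lies in `D` (index 2). -/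
theorem odd_mem_D [Finite G] {D T V : Subgroup G} (hT : TorT m D T V)
    (hCV : Nat.card ↥(centralizer (V : Set G)) = 2 * (Q m + 1)) (x : G)
    (hx : x ∈ centralizer (V : Set G)) (hodd : Odd (orderOf x)) : x ∈ D := by
  have hDC := D_le_centralizer hT
  have hidx : (D.subgroupOf (centralizer (V : Set G))).index = 2 := by
    have h1 := (D.subgroupOf (centralizer (V : Set G))).card_mul_index
    rw [Nat.card_congr (Subgroup.subgroupOfEquivOfLe hDC).toEquiv, hT.card_D, hCV] at h1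
    have hpos : 0 < Q m + 1 := Nat.succ_pos _
    have : (Q m + 1) * (D.subgroupOf (centralizer (V : Set G))).index = (Q m + 1) * 2 := by
      rw [h1]; ring
    exact Nat.eq_of_mul_eq_mul_left hpos this
  have hsq : x * x ∈ D := by
    have := Subgroup.mul_self_mem_of_index_two hidx (⟨x, hx⟩ : ↥(centralizer (V : Set G)))
    rwa [Subgroup.mem_subgroupOf] at this
  obtain ⟨j, hj⟩ := hodd
  have hxx : x = (x * x) ^ (j + 1) := by
    rw [← pow_two, ← pow_mul]
    have : 2 * (j + 1) = orderOf x + 1 := by omega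
    rw [this, pow_succ, pow_orderOf_eq_one, one_mul]
  rw [hxx]
  exact D.pow_mem hsq _

/-- `N(V)` normalises `T` (elementwise form). -/
theorem conj_mem_T [Finite G] {D T V : Subgroup G} (hT : TorT m D T V)
    (hCV : Nat.card ↥(centralizer (V : Set G)) = 2 * (Q m + 1)) (g : G)
    (hg : g ∈ normalizer (V : Set G)) (x : G) (hx : x ∈ T) : g * x * g⁻¹ ∈ T := by
  have hxC : x ∈ centralizer (V : Set G) := D_le_centralizer hT (hT.T_le hx)
  have hgC : g * x * g⁻¹ ∈ centralizer (V : Set G) := by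
    rw [mem_centralizer_iff] at hxC ⊢
    intro v hv
    have hv' : g⁻¹ * v * g ∈ V := by
      have := (mem_normalizer_iff.mp (inv_mem hg) v).mp hv
      simpa using this
    have h1 := hxC _ hv'
    calc v * (g * x * g⁻¹) = g * ((g⁻¹ * v * g) * x) * g⁻¹ := by group
      _ = g * (x * (g⁻¹ * v * g)) * g⁻¹ := by rw [h1]
      _ = g * x * g⁻¹ * v := by group
  have hodd : Odd (orderOf (g * x * g⁻¹)) := by
    have h1 : orderOf (g * x * g⁻¹) = orderOf x := by
      have := (MulAut.conj g).orderOf_eq x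
      rwa [MulAut.conj_apply] at this
    rw [h1]
    have h2 : orderOf x ∣ Nat.card T := Subgroup.orderOf_dvd_natCard T hx
    rw [hT.card_T] at h2
    exact (k_odd m).of_dvd_nat h2
  exact hT.mem_T _ (odd_mem_D hT hCV _ hgC hodd) hodd

/-- `N(V) ≤ N(A₀)` for `A₀ ≤ T`. -/
theorem normalizer_V_le [Finite G] {D T V : Subgroup G} (hT : TorT m D T V)
    (hCV : Nat.card ↥(centralizer (V : Set G)) = 2 * (Q m + 1)) (A₀ : Subgroup G) (hA : A₀ ≤ T) :
    normalizer (V : Set G) ≤ normalizer (A₀ : Set G) := by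
  have key : ∀ g ∈ normalizer (V : Set G), ∀ x ∈ A₀, g * x * g⁻¹ ∈ A₀ := by
    intro g hg x hx
    have := hT.cyc
    let σ : ↥T →* ↥T :=
      { toFun := fun y => ⟨g * (y : G) * g⁻¹, conj_mem_T hT hCV g hg y y.2⟩
        map_one' := by
          apply Subtype.ext
          simp
        map_mul' := by
          intro a b
          apply Subtype.ext
          show g * ((a : G) * (b : G)) * g⁻¹ = (g * (a : G) * g⁻¹) * (g * (b : G) * g⁻¹)
          group }
    obtain ⟨j, hj⟩ := MonoidHom.map_cyclic σ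
    have h1 := congrArg Subtype.val (hj ⟨x, hA hx⟩)
    have h2 : g * x * g⁻¹ = x ^ j := by
      simpa [σ] using h1
    rw [h2]
    exact A₀.zpow_mem hx j
  intro g hg
  rw [mem_normalizer_iff]
  intro x
  constructor
  · exact key g hg x
  · intro hx
    have := key g⁻¹ (inv_mem hg) _ hx
    have e : g⁻¹ * (g * x * g⁻¹) * g⁻¹⁻¹ = x := by group
    rwa [e] at this

/-- NORMT, core. -/
theorem normalizer_torT_core [Finite G] {D T V : Subgroup G} (hT : TorT m D T V)
    (hCV : Nat.card ↥(centralizer (V : Set G)) = 2 * (Q m + 1))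
    (hNV : Nat.card ↥(normalizer (V : Set G)) = 3 * Nat.card ↥(centralizer (V : Set G)))
    (A₀ : Subgroup G) (hA : A₀ ≤ T) (hA1 : A₀ ≠ ⊥) :
    normalizer (A₀ : Set G) = normalizer (V : Set G) ∧ normalizer (D : Set G) = normalizer (V : Set G) ∧
      Nat.card ↥(normalizer (V : Set G)) = 6 * (Q m + 1) := by
  have h1 := normalizer_A_le hT A₀ hA hA1
  have h2 := normalizer_D_le hT
  have h3 := normalizer_V_le hT hCV A₀ hA
  refine ⟨le_antisymm (h1.trans h2) h3, le_antisymm h2 (h3.trans h1), ?_⟩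
  rw [hNV, hCV]
  ring

end Cfsg.Agent.Lib.Helper3_RH_NORMTcore
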