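import Mathlib

set_option autoImplicit false

namespace Cfsg.Agent.Lib.Helper57_RH_N4Baux

open Subgroup

variable {G : Type*} [Group G]

/-- the subgroup of `S` fixed by conjugation with `c`. -/
def fixS (S : Subgroup G) (c : G) : Subgroup G := S ⊓ centralizer {c}

theorem mem_fixS {S : Subgroup G} {c x : G} : x ∈ fixS S c ↔ x ∈ S ∧ c * x * c⁻¹ = x := by
  unfold fixS
  rw [Subgroup.mem_inf, Subgroup.mem_centralizer_iff]
  constructor
  · rintro ⟨h1, h2⟩
    refine ⟨h1, ?_⟩
    rw [h2 c rfl]; group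
  · rintro ⟨h1, h2⟩
    refine ⟨h1, ?_⟩
    intro h hh
    rw [Set.mem_singleton_iff] at hh
    subst hh
    calc h * x = h * x * h⁻¹ * h := by group
      _ = x * h := by rw [h2]

theorem fixS_le (S : Subgroup G) (c : G) : fixS S c ≤ S := inf_le_left

/-- orbit counting for conjugation with an element of prime-power order normalising `S`. -/
theorem card_fixS_modEq [Finite G] (S : Subgroup G) (c : G) (hc : c ∈ normalizer (S : Set G))
    (r : ℕ) [Fact r.Prime] (hcr : c ^ r = 1) :
    Nat.card S ≡ Nat.card (fixS S c) [MOD r] := by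
  classical
  have : Fintype ↥S := Fintype.ofFinite _
  let f0 : ↥S → ↥S := fun s =>
    ⟨c * s * c⁻¹, (Subgroup.mem_normalizer_iff.mp hc s).mp s.2⟩
  let f : Function.End ↥S := f0
  have hpow : ∀ (k : ℕ) (s : ↥S), ((f0^[k] s : ↥S) : G) = c ^ k * s * (c ^ k)⁻¹ := by
    intro k
    induction k with
    | zero => intro s; simp
    | succ k ih =>
      intro s
      rw [Function.iterate_succ_apply, ih]
      show c ^ k * (c * s * c⁻¹) * (c ^ k)⁻¹ = _
      rw [pow_succ]; group
  have hf : f ^ r ^ 1 = 1 := by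
    rw [pow_one]
    show f0^[r] = id
    funext s
    apply Subtype.ext
    rw [hpow, hcr]
    simp
  have h1 := Equiv.Perm.card_fixedPoints_modEq (p := r) (n := 1) hf
  have h2 : Fintype.card ↥S = Nat.card S := (Nat.card_eq_fintype_card).symm
  have h3 : Fintype.card ↥(Function.fixedPoints f) = Nat.card (fixS S c) := by
    rw [← Nat.card_eq_fintype_card]
    apply Nat.card_congr
    refine ⟨fun s => ⟨s.1.1, mem_fixS.mpr ⟨s.1.2, ?_⟩⟩, fun x => ⟨⟨x.1, (mem_fixS.mp x.2).1⟩, ?_⟩,
      fun s => rfl, fun x => rfl⟩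
    · have := s.2
      have h := congrArg (fun t : ↥S => (t : G)) this
      exact h
    · show f _ = _
      apply Subtype.ext
      exact (mem_fixS.mp x.2).2
  rw [h2, h3] at h1
  exact h1


/-- The Sylow 2-subgroup data. -/
structure SData (S : Subgroup G) : Prop where
  card : Nat.card S = 8
  sq : ∀ x ∈ S, x * x = 1
  cent : centralizer (S : Set G) = S

theorem SData.inv_eq {S : Subgroup G} (hS : SData S) {x : G} (hx : x ∈ S) : x⁻¹ = x :=
  inv_eq_of_mul_eq_one_left (hS.sq x hx)

theorem SData.comm {S : Subgroup G} (hS : SData S) {x y : G} (hx : x ∈ S) (hy : y ∈ S) :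
    x * y = y * x := by
  have h1 := hS.inv_eq (S.mul_mem hx hy)
  rw [mul_inv_rev, hS.inv_eq hx, hS.inv_eq hy] at h1
  exact h1.symm

/-- an element of odd prime order normalising `S` is not in `S` and moves something. -/
theorem fixS_ne {S : Subgroup G} (hS : SData S) (c : G) (r : ℕ) (hr : r.Prime) (hr2 : r ≠ 2)
    (hc : orderOf c = r) : fixS S c ≠ S := by
  intro h
  have hcS : c ∈ centralizer (S : Set G) := by
    rw [Subgroup.mem_centralizer_iff]
    intro s hs
    have : s ∈ fixS S c := by rw [h]; exact hs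
    have h2 := (mem_fixS.mp this).2
    calc s * c = c * s * c⁻¹ * c := by rw [h2]
      _ = c * s := by group
  rw [hS.cent] at hcS
  have h1 := hS.sq c hcS
  have h2 : orderOf c ∣ 2 := orderOf_dvd_of_pow_eq_one (by rw [pow_two]; exact h1)
  rw [hc] at h2
  have := (Nat.prime_dvd_prime_iff_eq hr Nat.prime_two).mp h2
  exact hr2 this

theorem card_fixS_cases [Finite G] {S : Subgroup G} (hS : SData S) (c : G)
    (hcn : c ∈ normalizer (S : Set G)) (r : ℕ) [hrf : Fact r.Prime] (hr2 : r ≠ 2)
    (hc : orderOf c = r) :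
    Nat.card (fixS S c) ∣ 8 ∧ Nat.card (fixS S c) ≠ 8 ∧ 8 ≡ Nat.card (fixS S c) [MOD r] := by
  have h1 : Nat.card (fixS S c) ∣ 8 := hS.card ▸ Subgroup.card_dvd_of_le (fixS_le S c)
  refine ⟨h1, ?_, ?_⟩
  · intro h8
    apply fixS_ne hS c r hrf.out hr2 hc
    apply Subgroup.eq_of_le_of_card_ge (fixS_le S c)
    rw [h8, hS.card]
  · have := card_fixS_modEq S c hcn r (by rw [← hc]; exact pow_orderOf_eq_one c)
    rw [hS.card] at this
    exact this

theorem free_of_order_seven [Finite G] {S : Subgroup G} (hS : SData S) (g : G)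
    (hgn : g ∈ normalizer (S : Set G)) (hg : orderOf g = 7) :
    ∀ s ∈ S, g * s * g⁻¹ = s → s = 1 := by
  have : Fact (Nat.Prime 7) := ⟨by norm_num⟩
  obtain ⟨h1, h2, h3⟩ := card_fixS_cases hS g hgn 7 (by norm_num) hg
  have hcard : Nat.card (fixS S g) = 1 := by
    have hle : Nat.card (fixS S g) ≤ 8 := Nat.le_of_dvd (by norm_num) h1
    have hpos : 0 < Nat.card (fixS S g) := Nat.card_pos
    unfold Nat.ModEq at h3
    interval_cases hn : Nat.card (fixS S g) <;> simp_all
  intro s hs hfix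
  have hmem : s ∈ fixS S g := mem_fixS.mpr ⟨hs, hfix⟩
  have hbot : fixS S g = ⊥ := Subgroup.card_eq_one.mp hcard
  rw [hbot] at hmem
  exact Subgroup.mem_bot.mp hmem

theorem card_fix_order_three [Finite G] {S : Subgroup G} (hS : SData S) (n : G)
    (hnn : n ∈ normalizer (S : Set G)) (hn : orderOf n = 3) :
    Nat.card (fixS S n) = 2 := by
  have : Fact (Nat.Prime 3) := ⟨by norm_num⟩
  obtain ⟨h1, h2, h3⟩ := card_fixS_cases hS n hnn 3 (by norm_num) hn
  have hle : Nat.card (fixS S n) ≤ 8 := Nat.le_of_dvd (by norm_num) h1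
  have hpos : 0 < Nat.card (fixS S n) := Nat.card_pos
  unfold Nat.ModEq at h3
  interval_cases hn : Nat.card (fixS S n) <;> simp_all

end Cfsg.Agent.Lib.Helper57_RH_N4Baux
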