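import Mathlib
import Cfsg.Agent.Lib.Helper57_RH_N4Baux

set_option autoImplicit false

namespace Cfsg.Agent.Lib.Helper57_RH_N4Bb

open Subgroup Cfsg.Agent.Lib.Helper57_RH_N4Baux

variable {G : Type*} [Group G]

/-- conjugation by `g ^ i`. -/
def cj (g : G) (i : ℕ) (z : G) : G := g ^ i * z * (g ^ i)⁻¹

theorem cj_mul (g : G) (i : ℕ) (a b : G) : cj g i (a * b) = cj g i a * cj g i b := by
  unfold cj; group

theorem cj_inv (g : G) (i : ℕ) (a : G) : cj g i a⁻¹ = (cj g i a)⁻¹ := by
  unfold cj; group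

theorem cj_one (g : G) (i : ℕ) : cj g i 1 = 1 := by
  unfold cj; group

theorem cj_mem {S : Subgroup G} {g : G} (hg : g ∈ normalizer (S : Set G)) (i : ℕ) {z : G}
    (hz : z ∈ S) : cj g i z ∈ S := by
  have : g ^ i ∈ normalizer (S : Set G) := Subgroup.pow_mem _ hg i
  exact (Subgroup.mem_normalizer_iff.mp this z).mp hz

theorem cj_ne_one (g : G) (i : ℕ) {z : G} (hz : z ≠ 1) : cj g i z ≠ 1 := by
  intro h
  apply hz
  unfold cj at h
  have : z = (g ^ i)⁻¹ * (g ^ i * z * (g ^ i)⁻¹) * g ^ i := by group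
  rw [this, h]; group

/-- regularity of a fixed-point-free element of order 7 on the 7 involutions. -/
theorem regular7 [Finite G] {S : Subgroup G} (hS : SData S) (g : G)
    (hgn : g ∈ normalizer (S : Set G)) (hg7 : orderOf g = 7)
    (hfree : ∀ s ∈ S, g * s * g⁻¹ = s → s = 1) (s t : G) (hs : s ∈ S) (hs1 : s ≠ 1)
    (ht : t ∈ S) (ht1 : t ≠ 1) : ∃ i < 7, cj g i s = t := by
  classical
  -- injectivity of the orbit map
  have hinj : Function.Injective (fun i : Fin 7 => cj g (i : ℕ) s) := by
    intro i j hij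
    by_contra hne
    -- wlog i < j
    have key : ∀ a b : ℕ, a < b → b < 7 → cj g a s = cj g b s → False := by
      intro a b hab hb h
      have hk : g ^ (b - a) * s * (g ^ (b - a))⁻¹ = s := by
        unfold cj at h
        have hb' : g ^ b = g ^ a * g ^ (b - a) := by rw [← pow_add]; congr 1; omega
        rw [hb'] at h
        have : g ^ (b - a) * s * (g ^ (b - a))⁻¹ =
            (g ^ a)⁻¹ * (g ^ a * g ^ (b - a) * s * (g ^ a * g ^ (b - a))⁻¹) * g ^ a := by group
        rw [this, ← h]; group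
      have hcop : Nat.Coprime (b - a) (orderOf g) := by
        rw [hg7]
        have h1 : 0 < b - a := by omega
        have h2 : b - a < 7 := by omega
        interval_cases (b - a) <;> decide
      obtain ⟨m, hm⟩ := exists_pow_eq_self_of_coprime hcop
      have hmem : g ^ (b - a) ∈ centralizer ({s} : Set G) := by
        rw [Subgroup.mem_centralizer_iff]
        intro x hx
        rw [Set.mem_singleton_iff] at hx
        subst hx
        calc x * g ^ (b - a) = g ^ (b - a) * x * (g ^ (b - a))⁻¹ * g ^ (b - a) := by rw [hk]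
          _ = g ^ (b - a) * x := by group
      have hgm : g ∈ centralizer ({s} : Set G) := by
        rw [← hm]; exact Subgroup.pow_mem _ hmem m
      rw [Subgroup.mem_centralizer_iff] at hgm
      have := hgm s rfl
      apply hs1
      apply hfree s hs
      calc g * s * g⁻¹ = s * g * g⁻¹ := by rw [this]
        _ = s := by group
    rcases lt_trichotomy (i : ℕ) (j : ℕ) with h | h | h
    · exact key i j h j.2 hij
    · exact hne (Fin.ext h)
    · exact key j i h i.2 hij.symm
  -- counting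
  have hSx : ((S : Set G) \ {1}).ncard = 7 := by
    rw [Set.ncard_sdiff_singleton_of_mem (S.one_mem)]
    have : (S : Set G).ncard = 8 := by
      rw [← Nat.card_coe_set_eq]; exact hS.card
    rw [this]
  have himg : (Set.range (fun i : Fin 7 => cj g (i : ℕ) s)).ncard = 7 := by
    rw [← Set.image_univ, Set.ncard_image_of_injective _ hinj, Set.ncard_univ]
    simp
  have hsub : Set.range (fun i : Fin 7 => cj g (i : ℕ) s) ⊆ (S : Set G) \ {1} := by
    rintro _ ⟨i, rfl⟩
    exact ⟨cj_mem hgn i hs, cj_ne_one g i hs1⟩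
  have heq := Set.eq_of_subset_of_ncard_le hsub (by rw [hSx, himg]) (Set.toFinite _)
  have htm : t ∈ (S : Set G) \ {1} := ⟨ht, ht1⟩
  rw [← heq] at htm
  obtain ⟨i, hi⟩ := htm
  exact ⟨i, i.2, hi⟩


/-- the three non-identity elements of a four-group. -/
theorem four_enum [Finite G] (V : Subgroup G) (hV4 : Nat.card V = 4) :
    ∃ x y z : G, x ≠ y ∧ x ≠ z ∧ y ≠ z ∧ (V : Set G) \ {1} = {x, y, z} := by
  have h : ((V : Set G) \ {1}).ncard = 3 := by
    rw [Set.ncard_sdiff_singleton_of_mem (V.one_mem)]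
    have : (V : Set G).ncard = 4 := by
      rw [← Nat.card_coe_set_eq]; exact hV4
    rw [this]
  exact Set.ncard_eq_three.mp h

/-- a four-group of exponent 2 is `{1, x, y, x y}`. -/
theorem four_gens [Finite G] (V : Subgroup G) (hV4 : Nat.card V = 4) (hV2 : ∀ v ∈ V, v * v = 1) :
    ∃ x y : G, x ∈ V ∧ y ∈ V ∧ x ≠ 1 ∧ y ≠ 1 ∧ x ≠ y ∧ x * y ≠ 1 ∧
      ∀ v ∈ V, v = 1 ∨ v = x ∨ v = y ∨ v = x * y := by
  obtain ⟨x, y, z, hxy, hxz, hyz, hset⟩ := four_enum V hV4
  have hx : x ∈ (V : Set G) \ {1} := by rw [hset]; simp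
  have hy : y ∈ (V : Set G) \ {1} := by rw [hset]; simp
  have hx1 : x ≠ 1 := fun h => hx.2 (by simp [h])
  have hy1 : y ≠ 1 := fun h => hy.2 (by simp [h])
  have hxinv : x⁻¹ = x := inv_eq_of_mul_eq_one_left (hV2 x hx.1)
  have hxy1 : x * y ≠ 1 := by
    intro h
    apply hxy
    have : y = x⁻¹ := (inv_eq_of_mul_eq_one_right h).symm
    rw [this, hxinv]
  have hw : x * y ∈ (V : Set G) \ {1} := ⟨V.mul_mem hx.1 hy.1, by simpa using hxy1⟩
  have hwz : x * y = z := by
    rw [hset] at hw
    rcases hw with h | h | h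
    · exfalso; apply hy1; exact mul_left_cancel (a := x) (by rw [h, mul_one])
    · exfalso; apply hx1; exact mul_right_cancel (b := y) (by rw [h, one_mul])
    · exact h
  refine ⟨x, y, hx.1, hy.1, hx1, hy1, hxy, hxy1, ?_⟩
  intro v hv
  by_cases hv1 : v = 1
  · left; exact hv1
  · right
    have : v ∈ (V : Set G) \ {1} := ⟨hv, by simpa using hv1⟩
    rw [hset] at this
    rcases this with h | h | h
    · left; exact h
    · right; left; exact h
    · right; right; rw [hwz]; exact h

/-- **Transitivity**: a fixed-point-free element of order 7 of `N(S)` permutes the four-subgroups of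
`S` transitively. -/
theorem trans7 [Finite G] {S : Subgroup G} (hS : SData S) (g : G)
    (hgn : g ∈ normalizer (S : Set G)) (hg7 : orderOf g = 7)
    (hfree : ∀ s ∈ S, g * s * g⁻¹ = s → s = 1) (V V' : Subgroup G) (hV : V ≤ S) (hV' : V' ≤ S)
    (hV4 : Nat.card V = 4) (hV'4 : Nat.card V' = 4) :
    ∃ i : ℕ, ∀ v' ∈ V', cj g i v' ∈ V := by
  classical
  obtain ⟨v1, v2, v3, h12, h13, h23, hVset⟩ := four_enum V hV4
  have hv1 : v1 ∈ (V : Set G) \ {1} := by rw [hVset]; simp
  have hv2 : v2 ∈ (V : Set G) \ {1} := by rw [hVset]; simp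
  have hv3 : v3 ∈ (V : Set G) \ {1} := by rw [hVset]; simp
  obtain ⟨x, y, hx, hy, hx1, hy1, hxy, hw1, hall⟩ :=
    four_gens V' hV'4 (fun v hv => hS.sq v (hV' hv))
  by_contra hcon
  push Not at hcon
  -- the index sets
  let A : G → Finset ℕ := fun z => (Finset.range 7).filter (fun i => cj g i z ∈ V)
  have hA3 : ∀ z ∈ S, z ≠ 1 → 3 ≤ (A z).card := by
    intro z hz hz1
    obtain ⟨i1, hi1, e1⟩ := regular7 hS g hgn hg7 hfree z v1 hz hz1 (hV hv1.1)
      (fun h => hv1.2 (by simp [h]))
    obtain ⟨i2, hi2, e2⟩ := regular7 hS g hgn hg7 hfree z v2 hz hz1 (hV hv2.1)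
      (fun h => hv2.2 (by simp [h]))
    obtain ⟨i3, hi3, e3⟩ := regular7 hS g hgn hg7 hfree z v3 hz hz1 (hV hv3.1)
      (fun h => hv3.2 (by simp [h]))
    have d12 : i1 ≠ i2 := fun h => h12 (by rw [← e1, ← e2, h])
    have d13 : i1 ≠ i3 := fun h => h13 (by rw [← e1, ← e3, h])
    have d23 : i2 ≠ i3 := fun h => h23 (by rw [← e2, ← e3, h])
    have hsub : ({i1, i2, i3} : Finset ℕ) ⊆ A z := by
      intro i hi
      simp only [Finset.mem_insert, Finset.mem_singleton] at hi
      simp only [A, Finset.mem_filter, Finset.mem_range]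
      rcases hi with rfl | rfl | rfl
      · exact ⟨hi1, by rw [e1]; exact hv1.1⟩
      · exact ⟨hi2, by rw [e2]; exact hv2.1⟩
      · exact ⟨hi3, by rw [e3]; exact hv3.1⟩
    calc 3 = ({i1, i2, i3} : Finset ℕ).card := (Finset.card_eq_three.mpr
          ⟨i1, i2, i3, d12, d13, d23, rfl⟩).symm
      _ ≤ (A z).card := Finset.card_le_card hsub
  -- if two of x, y, xy are moved into V by the same i, then all of V' is
  have hboth : ∀ i, cj g i x ∈ V → cj g i y ∈ V → False := by
    intro i h1 h2
    obtain ⟨v', hv', hnot⟩ := hcon i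
    apply hnot
    rcases hall v' hv' with h | h | h | h
    · rw [h, cj_one]; exact V.one_mem
    · rw [h]; exact h1
    · rw [h]; exact h2
    · rw [h, cj_mul]; exact V.mul_mem h1 h2
  have hdis_xy : Disjoint (A x) (A y) := by
    rw [Finset.disjoint_left]
    intro i hi1 hi2
    simp only [A, Finset.mem_filter] at hi1 hi2
    exact hboth i hi1.2 hi2.2
  have hdis_xw : Disjoint (A x) (A (x * y)) := by
    rw [Finset.disjoint_left]
    intro i hi1 hi2
    simp only [A, Finset.mem_filter] at hi1 hi2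
    apply hboth i hi1.2
    have : cj g i y = (cj g i x)⁻¹ * cj g i (x * y) := by rw [cj_mul]; group
    rw [this]
    exact V.mul_mem (V.inv_mem hi1.2) hi2.2
  have hdis_yw : Disjoint (A y) (A (x * y)) := by
    rw [Finset.disjoint_left]
    intro i hi1 hi2
    simp only [A, Finset.mem_filter] at hi1 hi2
    apply hboth i _ hi1.2
    have : cj g i x = cj g i (x * y) * (cj g i y)⁻¹ := by rw [cj_mul]; group
    rw [this]
    exact V.mul_mem hi2.2 (V.inv_mem hi1.2)
  have hxS : x ∈ S := hV' hx
  have hyS : y ∈ S := hV' hy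
  have c1 := hA3 x hxS hx1
  have c2 := hA3 y hyS hy1
  have c3 := hA3 (x * y) (S.mul_mem hxS hyS) hw1
  have hunion : (A x ∪ A y ∪ A (x * y)).card = (A x).card + (A y).card + (A (x * y)).card := by
    rw [Finset.card_union_of_disjoint, Finset.card_union_of_disjoint hdis_xy]
    rw [Finset.disjoint_union_left]
    exact ⟨hdis_xw, hdis_yw⟩
  have hle : (A x ∪ A y ∪ A (x * y)).card ≤ 7 := by
    calc (A x ∪ A y ∪ A (x * y)).card ≤ (Finset.range 7).card := by
          apply Finset.card_le_card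
          intro i hi
          simp only [A, Finset.mem_union, Finset.mem_filter] at hi
          rcases hi with (h | h) | h <;> exact h.1
      _ = 7 := Finset.card_range 7
  omega

end Cfsg.Agent.Lib.Helper57_RH_N4Bb
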