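import Mathlib
import Cfsg.Agent.Lib.Helper57_RH_N4Baux

set_option autoImplicit false

namespace Cfsg.Agent.Lib.Helper57_RH_N4Bc

open Subgroup Cfsg.Agent.Lib.Helper57_RH_N4Baux

variable {G : Type*} [Group G]

/-- the commutator map `s ↦ s⁻¹ (n s n⁻¹)` of the abelian group `S`. -/
def kap {S : Subgroup G} (hS : SData S) (n : G) (hn : n ∈ normalizer (S : Set G)) : ↥S →* ↥S where
  toFun s := ⟨(s : G)⁻¹ * (n * s * n⁻¹),
    S.mul_mem (S.inv_mem s.2) ((Subgroup.mem_normalizer_iff.mp hn s).mp s.2)⟩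
  map_one' := by
    apply Subtype.ext
    simp
  map_mul' := by
    intro s t
    apply Subtype.ext
    have hns : n * (s : G) * n⁻¹ ∈ S := (Subgroup.mem_normalizer_iff.mp hn s).mp s.2
    have hc := hS.comm (S.inv_mem t.2) (S.mul_mem (S.inv_mem s.2) hns)
    show ((s : G) * t)⁻¹ * (n * ((s : G) * t) * n⁻¹) =
      (s : G)⁻¹ * (n * s * n⁻¹) * ((t : G)⁻¹ * (n * t * n⁻¹))
    calc ((s : G) * t)⁻¹ * (n * ((s : G) * t) * n⁻¹)
        = (t : G)⁻¹ * ((s : G)⁻¹ * (n * s * n⁻¹)) * (n * t * n⁻¹) := by group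
      _ = (s : G)⁻¹ * (n * s * n⁻¹) * (t : G)⁻¹ * (n * t * n⁻¹) := by rw [hc]
      _ = _ := by group

/-- the four-group `[S, n]`. -/
def V1 {S : Subgroup G} (hS : SData S) (n : G) (hn : n ∈ normalizer (S : Set G)) : Subgroup G :=
  ((kap hS n hn).range).map S.subtype

theorem mem_V1 {S : Subgroup G} (hS : SData S) (n : G) (hn : n ∈ normalizer (S : Set G)) (x : G) :
    x ∈ V1 hS n hn ↔ ∃ s ∈ S, x = s⁻¹ * (n * s * n⁻¹) := by
  unfold V1
  rw [Subgroup.mem_map]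
  constructor
  · rintro ⟨y, ⟨s, rfl⟩, rfl⟩
    exact ⟨s, s.2, rfl⟩
  · rintro ⟨s, hs, rfl⟩
    exact ⟨kap hS n hn ⟨s, hs⟩, ⟨⟨s, hs⟩, rfl⟩, rfl⟩

theorem V1_le {S : Subgroup G} (hS : SData S) (n : G) (hn : n ∈ normalizer (S : Set G)) :
    V1 hS n hn ≤ S := by
  intro x hx
  obtain ⟨s, hs, rfl⟩ := (mem_V1 hS n hn x).mp hx
  exact S.mul_mem (S.inv_mem hs) ((Subgroup.mem_normalizer_iff.mp hn s).mp hs)

theorem V1_conj {S : Subgroup G} (hS : SData S) (n : G) (hn : n ∈ normalizer (S : Set G)) :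
    ∀ v ∈ V1 hS n hn, n * v * n⁻¹ ∈ V1 hS n hn := by
  intro v hv
  obtain ⟨s, hs, rfl⟩ := (mem_V1 hS n hn v).mp hv
  rw [mem_V1]
  refine ⟨n * s * n⁻¹, (Subgroup.mem_normalizer_iff.mp hn s).mp hs, ?_⟩
  group

theorem card_V1 [Finite G] {S : Subgroup G} (hS : SData S) (n : G)
    (hn : n ∈ normalizer (S : Set G)) (hn3 : orderOf n = 3) : Nat.card (V1 hS n hn) = 4 := by
  have h1 : Nat.card (V1 hS n hn) = Nat.card (kap hS n hn).range :=
    Subgroup.card_map_of_injective (Subgroup.subtype_injective S)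
  have h2 : Nat.card (kap hS n hn).ker * Nat.card (kap hS n hn).range = Nat.card S := by
    rw [← Subgroup.index_ker]; exact Subgroup.card_mul_index _
  have h3 : Nat.card (kap hS n hn).ker = Nat.card (fixS S n) := by
    apply Nat.card_congr
    refine ⟨fun s => ⟨s.1.1, mem_fixS.mpr ⟨s.1.2, ?_⟩⟩, fun x => ⟨⟨x.1, (mem_fixS.mp x.2).1⟩, ?_⟩,
      fun s => rfl, fun x => rfl⟩
    · have h := s.2
      rw [MonoidHom.mem_ker] at h
      have h' := congrArg (fun t : ↥S => (t : G)) h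
      have h'' : ((s.1 : ↥S) : G)⁻¹ * (n * (s.1 : ↥S) * n⁻¹) = 1 := h'
      calc n * ((s.1 : ↥S) : G) * n⁻¹
          = ((s.1 : ↥S) : G) * (((s.1 : ↥S) : G)⁻¹ * (n * (s.1 : ↥S) * n⁻¹)) := by group
        _ = _ := by rw [h'', mul_one]
    · rw [MonoidHom.mem_ker]
      apply Subtype.ext
      show (x.1)⁻¹ * (n * x.1 * n⁻¹) = 1
      rw [(mem_fixS.mp x.2).2]; group
  rw [h3, card_fix_order_three hS n hn hn3, hS.card] at h2
  rw [h1]; omega

theorem V1_not_cent [Finite G] {S : Subgroup G} (hS : SData S) (n : G)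
    (hn : n ∈ normalizer (S : Set G)) (hn3 : orderOf n = 3) :
    ∃ v ∈ V1 hS n hn, n * v * n⁻¹ ≠ v := by
  by_contra hcon
  push Not at hcon
  have hle : V1 hS n hn ≤ fixS S n := by
    intro v hv
    exact mem_fixS.mpr ⟨V1_le hS n hn hv, hcon v hv⟩
  have := Subgroup.card_dvd_of_le hle
  rw [card_V1 hS n hn hn3, card_fix_order_three hS n hn hn3] at this
  omega

end Cfsg.Agent.Lib.Helper57_RH_N4Bc
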