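import Mathlib

set_option autoImplicit false

namespace Cfsg.Agent.Lib.Helper57_RH_N4Bd

open Subgroup

variable {G : Type*} [Group G]

/-- `|N(V) : C(V)| = 3` for a four-group `V` of a group whose 2-part is 8 and whose Sylow 2-subgroups are
abelian, as soon as some element of order 3 normalises and does not centralise `V`. -/
theorem index_three [Finite G] (V : Subgroup G) (hV4 : Nat.card V = 4)
    (n' : G) (hnN : n' ∈ normalizer (V : Set G)) (hn3 : n' ^ 3 = 1)
    (hnC : ∃ v ∈ V, n' * v * n'⁻¹ ≠ v)
    (P : Subgroup G) (hVP : V ≤ P) (hPab : ∀ x ∈ P, ∀ y ∈ P, x * y = y * x) (hP8 : Nat.card P = 8)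
    (h16 : ¬ 16 ∣ Nat.card G) :
    Nat.card ↥(normalizer (V : Set G)) = 3 * Nat.card ↥(centralizer (V : Set G)) := by
  classical
  set N := normalizer (V : Set G) with hN
  set C := centralizer (V : Set G) with hC
  -- the set of non-identity elements
  let X : Type _ := ↥((V : Set G) \ {1})
  have hXcard : Nat.card X = 3 := by
    show Nat.card ↥((V : Set G) \ {1}) = 3
    rw [Nat.card_coe_set_eq, Set.ncard_sdiff_singleton_of_mem (V.one_mem)]
    have : (V : Set G).ncard = 4 := by rw [← Nat.card_coe_set_eq]; exact hV4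
    rw [this]
  let _ : MulAction ↥N X :=
    { smul := fun n x => ⟨(n : G) * x.1 * (n : G)⁻¹,
        ⟨(Subgroup.mem_normalizer_iff.mp n.2 x.1).mp x.2.1, by
          intro h
          apply x.2.2
          rw [Set.mem_singleton_iff] at h ⊢
          have : x.1 = (n : G)⁻¹ * ((n : G) * x.1 * (n : G)⁻¹) * (n : G) := by group
          rw [this, h]; group⟩⟩
      one_smul := by
        intro x
        apply Subtype.ext
        show ((1 : ↥N) : G) * x.1 * ((1 : ↥N) : G)⁻¹ = x.1
        simp
      mul_smul := by
        intro a b x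
        apply Subtype.ext
        show ((a * b : ↥N) : G) * x.1 * ((a * b : ↥N) : G)⁻¹ =
          (a : G) * ((b : G) * x.1 * (b : G)⁻¹) * (a : G)⁻¹
        rw [Subgroup.coe_mul]; group }
  have hsmul : ∀ (n : ↥N) (x : X), ((n • x : X) : G) = (n : G) * x.1 * (n : G)⁻¹ := fun _ _ => rfl
  let f : ↥N →* Equiv.Perm X := MulAction.toPermHom ↥N X
  have hker : ∀ n : ↥N, n ∈ f.ker ↔ (n : G) ∈ C := by
    intro n
    rw [MonoidHom.mem_ker, hC, Subgroup.mem_centralizer_iff]
    constructor
    · intro h v hv
      by_cases hv1 : v = 1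
      · rw [hv1]; simp
      · have hx : v ∈ (V : Set G) \ {1} := ⟨hv, by simpa using hv1⟩
        have h1 : f n ⟨v, hx⟩ = ⟨v, hx⟩ := by rw [h]; rfl
        have h2 : ((n • (⟨v, hx⟩ : X) : X) : G) = v := congrArg Subtype.val h1
        rw [hsmul] at h2
        calc v * (n : G) = (n : G) * v * (n : G)⁻¹ * (n : G) := by rw [h2]
          _ = (n : G) * v := by group
    · intro h
      ext x
      show ((n • x : X) : G) = x.1
      rw [hsmul, ← h x.1 x.2.1]; group
  have hCN : C ≤ N := by
    intro c hc
    rw [hN, Subgroup.mem_normalizer_iff]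
    rw [hC, Subgroup.mem_centralizer_iff] at hc
    intro v
    constructor
    · intro hv
      have : c * v * c⁻¹ = v := by rw [← hc v hv]; group
      rw [this]; exact hv
    · intro hv
      have h1 := hc _ hv
      have : v = c * v * c⁻¹ := by
        have h2 : c * v * c⁻¹ * c = c * (c * v * c⁻¹) := h1
        have h3 : c * v = c * (c * v * c⁻¹) := by rw [← h2]; group
        exact mul_left_cancel h3
      rw [this]; exact hv
  have hkerC : Nat.card f.ker = Nat.card C := by
    have : f.ker = C.subgroupOf N := by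
      ext n
      rw [Subgroup.mem_subgroupOf]
      exact hker n
    rw [this]
    exact Nat.card_congr (Subgroup.subgroupOfEquivOfLe hCN).toEquiv
  have hmul : Nat.card C * Nat.card f.range = Nat.card N := by
    rw [← hkerC, ← Subgroup.index_ker]; exact Subgroup.card_mul_index _
  -- the range has order dividing 6
  have hdvd6 : Nat.card f.range ∣ 6 := by
    have hfin : Fintype X := Fintype.ofFinite X
    have h1 : Nat.card (Equiv.Perm X) = 6 := by
      rw [Nat.card_eq_fintype_card, Fintype.card_perm, ← Nat.card_eq_fintype_card, hXcard]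
      rfl
    rw [← h1]
    exact Subgroup.card_subgroup_dvd_card _
  -- it is divisible by 3
  have hdvd3 : 3 ∣ Nat.card f.range := by
    let y : f.range := ⟨f ⟨n', hnN⟩, ⟨⟨n', hnN⟩, rfl⟩⟩
    have hy3 : y ^ 3 = 1 := by
      apply Subtype.ext
      show (f ⟨n', hnN⟩) ^ 3 = 1
      rw [← map_pow]
      have : (⟨n', hnN⟩ : ↥N) ^ 3 = 1 := by
        apply Subtype.ext
        rw [Subgroup.coe_pow]; exact hn3
      rw [this, map_one]
    have hy1 : y ≠ 1 := by
      intro h
      have h1 : f ⟨n', hnN⟩ = 1 := congrArg Subtype.val h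
      have h2 : (⟨n', hnN⟩ : ↥N) ∈ f.ker := h1
      rw [hker] at h2
      obtain ⟨v, hv, hne⟩ := hnC
      apply hne
      rw [hC, Subgroup.mem_centralizer_iff] at h2
      show n' * v * n'⁻¹ = v
      rw [← h2 v hv]; group
    have ho : orderOf y = 3 := by
      have hd : orderOf y ∣ 3 := orderOf_dvd_of_pow_eq_one hy3
      rcases (Nat.dvd_prime Nat.prime_three).mp hd with h | h
      · exact absurd (orderOf_eq_one_iff.mp h) hy1
      · exact h
    rw [← ho]
    exact orderOf_dvd_natCard y
  -- it is odd
  have hodd : ¬ 2 ∣ Nat.card f.range := by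
    intro h2
    apply h16
    have hPC : P ≤ C := by
      intro p hp
      rw [hC, Subgroup.mem_centralizer_iff]
      intro v hv
      exact hPab v (hVP hv) p hp
    have h8 : 8 ∣ Nat.card C := hP8 ▸ Subgroup.card_dvd_of_le hPC
    have h16' : 16 ∣ Nat.card N := by
      rw [← hmul]
      exact (show (16 : ℕ) = 8 * 2 by norm_num) ▸ Nat.mul_dvd_mul h8 h2
    exact dvd_trans h16' (Subgroup.card_subgroup_dvd_card N)
  have h3 : Nat.card f.range = 3 := by
    have hle : Nat.card f.range ≤ 6 := Nat.le_of_dvd (by norm_num) hdvd6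
    interval_cases hk : Nat.card f.range <;> omega
  rw [← hmul, h3, mul_comm]

end Cfsg.Agent.Lib.Helper57_RH_N4Bd
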