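import Mathlib
import Cfsg.Agent.Lib.Helper37_RHDefs
import Cfsg.Agent.Lib.Helper57_RH_N4Baux
import Cfsg.Agent.Lib.Helper57_RH_N4Bb
import Cfsg.Agent.Lib.Helper57_RH_N4Bc
import Cfsg.Agent.Lib.Helper57_RH_N4Bd

set_option autoImplicit false

namespace Cfsg.Agent.Lib.Helper57_RH_N4B

open MulAction Subgroup Cfsg.Agent.Lib.Helper37_RHDefs
open Cfsg.Agent.Lib.Helper57_RH_N4Baux Cfsg.Agent.Lib.Helper57_RH_N4Bb
open Cfsg.Agent.Lib.Helper57_RH_N4Bc Cfsg.Agent.Lib.Helper57_RH_N4Bd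
open scoped Pointwise

variable {G : Type*} [Group G] [Finite G] {Ω : Type*} [MulAction G Ω] {m : ℕ}

omit [Finite G] in
theorem mem_map_conj {V : Subgroup G} {c y : G} :
    y ∈ V.map (MulAut.conj c).toMonoidHom ↔ ∃ v ∈ V, c * v * c⁻¹ = y := by
  simp [Subgroup.mem_map, MulAut.conj_apply]

theorem sdata_of_sylow (h : RH G Ω m) (S : Sylow 2 G) : SData (S : Subgroup G) :=
  ⟨(h.syl2 S).1, (h.syl2 S).2.1, (h.syl2 S).2.2.1⟩

theorem not_sixteen_dvd (h : RH G Ω m) : ¬ 16 ∣ Nat.card G := by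
  have : Fact (Nat.Prime 2) := ⟨Nat.prime_two⟩
  obtain ⟨S⟩ := (Sylow.nonempty : Nonempty (Sylow 2 G))
  have h1 := Sylow.card_eq_multiplicity S
  rw [(h.syl2 S).1] at h1
  have h3 : (Nat.card G).factorization 2 = 3 := by
    have : (2 : ℕ) ^ 3 = 2 ^ (Nat.card G).factorization 2 := by rw [← h1]; norm_num
    exact (Nat.pow_right_injective (le_refl 2) this).symm
  intro h16
  have : (2 : ℕ) ^ 4 ∣ Nat.card G := h16
  rw [Nat.Prime.pow_dvd_iff_le_factorization Nat.prime_two (Nat.card_pos.ne')] at this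
  omega

/-- The reference four-group: there are a four-group `V₁` and an element `n` of order 3 normalising and
not centralising it such that every four-group is conjugate to `V₁`. -/
theorem exists_ref (h : RH G Ω m) :
    ∃ (V₁ : Subgroup G) (n : G), n ∈ normalizer (V₁ : Set G) ∧ n ^ 3 = 1 ∧
      (∃ v ∈ V₁, n * v * n⁻¹ ≠ v) ∧
      ∀ V : Subgroup G, Nat.card V = 4 → (∀ v ∈ V, v * v = 1) →
        ∃ d : G, V₁ = V.map (MulAut.conj d).toMonoidHom := by
  classical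
  have : Fact (Nat.Prime 2) := ⟨Nat.prime_two⟩
  have : Fact (Nat.Prime 3) := ⟨Nat.prime_three⟩
  have : Fact (Nat.Prime 7) := ⟨by norm_num⟩
  obtain ⟨S0⟩ := (Sylow.nonempty : Nonempty (Sylow 2 G))
  have hS := sdata_of_sylow h S0
  have hN168 : Nat.card ↥(normalizer ((S0 : Subgroup G) : Set G)) = 168 := (h.syl2 S0).2.2.2
  -- elements of order 7 and 3 in N(S0)
  obtain ⟨g', hg'⟩ := exists_prime_orderOf_dvd_card' (G := ↥(normalizer ((S0 : Subgroup G) : Set G))) 7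
    (by rw [hN168]; norm_num)
  obtain ⟨n', hn'⟩ := exists_prime_orderOf_dvd_card' (G := ↥(normalizer ((S0 : Subgroup G) : Set G))) 3
    (by rw [hN168]; norm_num)
  set g : G := (g' : G) with hgdef
  set n : G := (n' : G) with hndef
  have hgn : g ∈ normalizer ((S0 : Subgroup G) : Set G) := g'.2
  have hnn : n ∈ normalizer ((S0 : Subgroup G) : Set G) := n'.2
  have hg7 : orderOf g = 7 := by rw [hgdef, Subgroup.orderOf_coe]; exact hg'
  have hn3 : orderOf n = 3 := by rw [hndef, Subgroup.orderOf_coe]; exact hn'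
  have hfree := free_of_order_seven hS g hgn hg7
  -- the reference four-group
  set W := V1 hS n hnn with hW
  have hW4 : Nat.card W = 4 := card_V1 hS n hnn hn3
  have hWS : W ≤ S0 := V1_le hS n hnn
  have hn3' : n ^ 3 = 1 := by rw [← hn3]; exact pow_orderOf_eq_one n
  have hnW : n ∈ normalizer (W : Set G) := by
    rw [Subgroup.mem_normalizer_iff]
    intro x
    constructor
    · exact V1_conj hS n hnn x
    · intro hx
      have h1 := V1_conj hS n hnn _ hx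
      have h2 := V1_conj hS n hnn _ h1
      have : n * (n * (n * x * n⁻¹) * n⁻¹) * n⁻¹ = n ^ 3 * x * (n ^ 3)⁻¹ := by
        rw [pow_succ, pow_succ, pow_one]; group
      rw [this, hn3'] at h2
      simpa using h2
  refine ⟨W, n, hnW, hn3', V1_not_cent hS n hnn hn3, ?_⟩
  intro V hV4 hV2
  -- V lies in a Sylow 2-subgroup, conjugate to S0
  have hVp : IsPGroup 2 V := IsPGroup.of_card (n := 2) (by rw [hV4]; norm_num)
  obtain ⟨P, hVP⟩ := hVp.exists_le_sylow
  obtain ⟨c, hc⟩ := MulAction.exists_smul_eq G P S0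
  have hcS : ∀ x ∈ (P : Subgroup G), c * x * c⁻¹ ∈ (S0 : Subgroup G) := by
    intro x hx
    have h1 : ((c • P : Sylow 2 G) : Subgroup G) = MulAut.conj c • (P : Subgroup G) :=
      Sylow.coe_subgroup_smul
    rw [hc] at h1
    rw [h1, Subgroup.mem_pointwise_smul_iff_inv_smul_mem]
    show (MulAut.conj c)⁻¹ • (c * x * c⁻¹) ∈ (P : Subgroup G)
    rw [← map_inv, MulAut.smul_def, MulAut.conj_apply]
    have : c⁻¹ * (c * x * c⁻¹) * c⁻¹⁻¹ = x := by group
    rw [this]; exact hx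
  set V' := V.map (MulAut.conj c).toMonoidHom with hV'
  have hV'4 : Nat.card V' = 4 := by
    rw [hV', Subgroup.card_map_of_injective (MulAut.conj c).injective]; exact hV4
  have hV'S : V' ≤ S0 := by
    intro y hy
    obtain ⟨v, hv, rfl⟩ := mem_map_conj.mp hy
    exact hcS v (hVP hv)
  obtain ⟨i, hi⟩ := trans7 hS g hgn hg7 hfree W V' hWS hV'S hW4 hV'4
  refine ⟨g ^ i * c, ?_⟩
  symm
  apply Subgroup.eq_of_le_of_card_ge
  · intro y hy
    obtain ⟨v, hv, rfl⟩ := mem_map_conj.mp hy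
    have h1 : c * v * c⁻¹ ∈ V' := mem_map_conj.mpr ⟨v, hv, rfl⟩
    have h2 := hi _ h1
    unfold cj at h2
    have : g ^ i * c * v * (g ^ i * c)⁻¹ = g ^ i * (c * v * c⁻¹) * (g ^ i)⁻¹ := by group
    rw [this]; exact h2
  · rw [Subgroup.card_map_of_injective (MulAut.conj (g ^ i * c)).injective, hV4, hW4]

/-- PK N4B.  All four-groups are conjugate, and `|N(V) : C(V)| = 3`. -/
theorem card_normalizer_four (h : RH G Ω m) (V : Subgroup G) (hV4 : Nat.card V = 4) (hV2 : ∀ v ∈ V, v * v = 1) :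
    Nat.card ↥(normalizer (V : Set G)) = 3 * Nat.card ↥(centralizer (V : Set G)) := by
  have : Fact (Nat.Prime 2) := ⟨Nat.prime_two⟩
  obtain ⟨W, n, hnW, hn3, ⟨w, hw, hwne⟩, hall⟩ := exists_ref h
  obtain ⟨d, hd⟩ := hall V hV4 hV2
  have hmem : ∀ x : G, x ∈ V ↔ d * x * d⁻¹ ∈ W := by
    intro x
    rw [hd, mem_map_conj]
    constructor
    · intro hx; exact ⟨x, hx, rfl⟩
    · rintro ⟨v, hv, hvx⟩
      have : v = x := by
        have h1 : d⁻¹ * (d * v * d⁻¹) * d = d⁻¹ * (d * x * d⁻¹) * d := by rw [hvx]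
        have e1 : d⁻¹ * (d * v * d⁻¹) * d = v := by group
        have e2 : d⁻¹ * (d * x * d⁻¹) * d = x := by group
        rw [e1, e2] at h1; exact h1
      rw [← this]; exact hv
  have hVp : IsPGroup 2 V := IsPGroup.of_card (n := 2) (by rw [hV4]; norm_num)
  obtain ⟨P, hVP⟩ := hVp.exists_le_sylow
  have hP := sdata_of_sylow h P
  apply index_three V hV4 (d⁻¹ * n * d) ?_ ?_ ?_ (P : Subgroup G) hVP
    (fun x hx y hy => hP.comm hx hy) hP.card (not_sixteen_dvd h)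
  · rw [Subgroup.mem_normalizer_iff]
    intro x
    rw [hmem x, hmem (d⁻¹ * n * d * x * (d⁻¹ * n * d)⁻¹)]
    have : d * (d⁻¹ * n * d * x * (d⁻¹ * n * d)⁻¹) * d⁻¹ = n * (d * x * d⁻¹) * n⁻¹ := by group
    rw [this]
    exact Subgroup.mem_normalizer_iff.mp hnW (d * x * d⁻¹)
  · have : (d⁻¹ * n * d) ^ 3 = d⁻¹ * n ^ 3 * d := by
      rw [pow_succ, pow_succ, pow_one, pow_succ, pow_succ, pow_one]; group
    rw [this, hn3]; group
  · refine ⟨d⁻¹ * w * d, ?_, ?_⟩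
    · rw [hmem]
      have : d * (d⁻¹ * w * d) * d⁻¹ = w := by group
      rw [this]; exact hw
    · intro heq
      apply hwne
      have h1 : d * (d⁻¹ * n * d * (d⁻¹ * w * d) * (d⁻¹ * n * d)⁻¹) * d⁻¹ = d * (d⁻¹ * w * d) * d⁻¹ := by
        rw [heq]
      have e1 : d * (d⁻¹ * n * d * (d⁻¹ * w * d) * (d⁻¹ * n * d)⁻¹) * d⁻¹ = n * w * n⁻¹ := by group
      have e2 : d * (d⁻¹ * w * d) * d⁻¹ = w := by group
      rw [e1, e2] at h1; exact h1

/-- PK N4B (second part).  All four-groups are conjugate. -/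
theorem four_conj (h : RH G Ω m) (V V' : Subgroup G) (hV4 : Nat.card V = 4) (hV2 : ∀ v ∈ V, v * v = 1)
    (hV'4 : Nat.card V' = 4) (hV'2 : ∀ v ∈ V', v * v = 1) :
    ∃ c : G, V' = V.map (MulAut.conj c).toMonoidHom := by
  obtain ⟨W, n, -, -, -, hall⟩ := exists_ref h
  obtain ⟨d, hd⟩ := hall V hV4 hV2
  obtain ⟨d', hd'⟩ := hall V' hV'4 hV'2
  refine ⟨d'⁻¹ * d, ?_⟩
  ext x
  rw [mem_map_conj]
  constructor
  · intro hx
    have h1 : d' * x * d'⁻¹ ∈ W := by rw [hd']; exact mem_map_conj.mpr ⟨x, hx, rfl⟩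
    rw [hd] at h1
    obtain ⟨v, hv, hvx⟩ := mem_map_conj.mp h1
    refine ⟨v, hv, ?_⟩
    have : d'⁻¹ * d * v * (d'⁻¹ * d)⁻¹ = d'⁻¹ * (d * v * d⁻¹) * d' := by group
    rw [this, hvx]; group
  · rintro ⟨v, hv, rfl⟩
    have h1 : d * v * d⁻¹ ∈ W := by rw [hd]; exact mem_map_conj.mpr ⟨v, hv, rfl⟩
    rw [hd'] at h1
    obtain ⟨v', hv', hvx⟩ := mem_map_conj.mp h1
    have : d'⁻¹ * d * v * (d'⁻¹ * d)⁻¹ = v' := by
      have e : d'⁻¹ * d * v * (d'⁻¹ * d)⁻¹ = d'⁻¹ * (d * v * d⁻¹) * d' := by group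
      rw [e, ← hvx]; group
    rw [this]; exact hv'

end Cfsg.Agent.Lib.Helper57_RH_N4B
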