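import Cfsg.Agent.Lib.Helper37_RHDefs
import Cfsg.Agent.Lib.Helper26_RHTorDefs
import Cfsg.Agent.Lib.Helper82_RH_TOR1

/-!
# REEHALL market (architect helper37), package N4A: the centraliser of a four-group has order `2 (q + 1)`
-/

set_option autoImplicit false

namespace Cfsg.Agent.Lib.Helper82_RH_N4A

open MulAction Subgroup Cfsg.Agent.Lib.Helper37_RHDefs
open scoped Pointwise

variable {G : Type*} [Group G] [Finite G] {Ω : Type*} [MulAction G Ω] {m : ℕ}

omit [Finite G] in
/-- a group of exponent two is abelian -/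
theorem comm_of_sq (V : Subgroup G) (hV2 : ∀ v ∈ V, v * v = 1) {s t : G} (hs : s ∈ V) (ht : t ∈ V) :
    s * t = t * s := by
  have h1 := hV2 (s * t) (V.mul_mem hs ht)
  have h2 := hV2 s hs
  have h3 := hV2 t ht
  calc s * t = s * (s * t * (s * t)) * t := by rw [h1, mul_one]
    _ = (s * s) * (t * s) * (t * t) := by group
    _ = t * s := by rw [h2, h3, one_mul, mul_one]

/-- the structure of a four-group: two generators -/
theorem four_group_gens (V : Subgroup G) (hV4 : Nat.card V = 4) (hV2 : ∀ v ∈ V, v * v = 1) :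
    ∃ t₁ t₂ : G, t₁ ∈ V ∧ t₂ ∈ V ∧ t₁ ≠ 1 ∧ t₂ ≠ 1 ∧ t₁ ≠ t₂ ∧
      ∀ v ∈ V, v = 1 ∨ v = t₁ ∨ v = t₂ ∨ v = t₁ * t₂ := by
  classical
  have : Fintype ↥V := Fintype.ofFinite _
  have hcard : Fintype.card ↥V = 4 := by rw [← Nat.card_eq_fintype_card]; exact hV4
  have h3 : 1 < ((Finset.univ : Finset ↥V).erase 1).card := by
    rw [Finset.card_erase_of_mem (Finset.mem_univ _), Finset.card_univ, hcard]
    norm_num
  obtain ⟨a, ha, b, hb, hab⟩ := Finset.one_lt_card.mp h3
  have ha1 : a ≠ 1 := (Finset.mem_erase.mp ha).1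
  have hb1 : b ≠ 1 := (Finset.mem_erase.mp hb).1
  have haa : a * a = 1 := Subtype.ext (hV2 a a.2)
  have hbb : b * b = 1 := Subtype.ext (hV2 b b.2)
  have hab1 : a * b ≠ 1 := by
    intro h
    apply hab
    calc a = a * (b * b) := by rw [hbb, mul_one]
      _ = (a * b) * b := by group
      _ = b := by rw [h, one_mul]
  have haba : a * b ≠ a := by
    intro h
    apply hb1
    calc b = a⁻¹ * (a * b) := by group
      _ = 1 := by rw [h]; group
  have habb : a * b ≠ b := by
    intro h
    apply ha1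
    calc a = (a * b) * b⁻¹ := by group
      _ = 1 := by rw [h]; group
  have hS : ({1, a, b, a * b} : Finset ↥V) = Finset.univ := by
    apply Finset.eq_univ_of_card
    rw [hcard, Finset.card_insert_of_notMem, Finset.card_insert_of_notMem, Finset.card_insert_of_notMem,
      Finset.card_singleton]
    · simp only [Finset.mem_singleton]
      exact fun h => habb h.symm
    · simp only [Finset.mem_insert, Finset.mem_singleton, not_or]
      exact ⟨hab, fun h => haba h.symm⟩
    · simp only [Finset.mem_insert, Finset.mem_singleton, not_or]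
      exact ⟨fun h => ha1 h.symm, fun h => hb1 h.symm, fun h => hab1 h.symm⟩
  refine ⟨a, b, a.2, b.2, fun h => ha1 (Subtype.ext h), fun h => hb1 (Subtype.ext h),
    fun h => hab (Subtype.ext h), fun v hv => ?_⟩
  have hmem : (⟨v, hv⟩ : ↥V) ∈ ({1, a, b, a * b} : Finset ↥V) := by
    rw [hS]
    exact Finset.mem_univ _
  simp only [Finset.mem_insert, Finset.mem_singleton] at hmem
  rcases hmem with h | h | h | h
  · left
    exact congrArg Subtype.val h
  · right; left
    exact congrArg Subtype.val h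
  · right; right; left
    exact congrArg Subtype.val h
  · right; right; right
    exact congrArg Subtype.val h

/-- PK N4A.  The centraliser of a four-group has order `2 (q + 1)`. -/
theorem card_centralizer_four (h : RH G Ω m) (V : Subgroup G) (hV4 : Nat.card V = 4) (hV2 : ∀ v ∈ V, v * v = 1) :
    Nat.card ↥(centralizer (V : Set G)) = 2 * (Q m + 1) := by
  obtain ⟨t₁, t₂, ht₁, ht₂, ht₁1, ht₂1, ht₁₂, hall⟩ := four_group_gens V hV4 hV2
  obtain ⟨a, ha2, haconj, _, hcent, _⟩ := h.invol
  have ho₁ : orderOf t₁ = 2 := orderOf_eq_prime (by rw [pow_two]; exact hV2 t₁ ht₁) ht₁1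
  have ho₂ : orderOf t₂ = 2 := orderOf_eq_prime (by rw [pow_two]; exact hV2 t₂ ht₂) ht₂1
  obtain ⟨g, hg⟩ := haconj t₁ ho₁
  -- the conjugate of `t₂`
  obtain ⟨t', ht'⟩ : ∃ t', t' = g⁻¹ * t₂ * g := ⟨_, rfl⟩
  have ht₂' : g * t' * g⁻¹ = t₂ := by rw [ht']; group
  have hcomm : t₁ * t₂ = t₂ * t₁ := comm_of_sq V hV2 ht₁ ht₂
  have ht'C : t' ∈ centralizer ({a} : Set G) := by
    rw [mem_centralizer_singleton_iff]
    have e1 : t' * a = g⁻¹ * (t₂ * t₁) * g := by rw [ht', ← hg]; group
    have e2 : a * t' = g⁻¹ * (t₁ * t₂) * g := by rw [ht', ← hg]; group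
    rw [e1, e2, hcomm]
  have ht'o : orderOf t' = 2 := by
    have h1 := (MulAut.conj g⁻¹).orderOf_eq t₂
    rw [MulAut.conj_apply, inv_inv] at h1
    rw [ht', h1, ho₂]
  have ht'a : t' ≠ a := by
    intro h0
    apply ht₁₂
    rw [← hg, ← ht₂', h0]
  have hcard := hcent t' ht'C ht'o ht'a
  -- `C(V) = C(t₁) ⊓ C(t₂)`
  have hCV : centralizer (V : Set G) = centralizer ({t₁} : Set G) ⊓ centralizer ({t₂} : Set G) := by
    ext k
    rw [mem_inf, mem_centralizer_singleton_iff, mem_centralizer_singleton_iff, mem_centralizer_iff]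
    constructor
    · intro hk
      exact ⟨(hk t₁ ht₁).symm, (hk t₂ ht₂).symm⟩
    · rintro ⟨h1, h2⟩ v hv
      rcases hall v hv with rfl | rfl | rfl | rfl
      · rw [one_mul, mul_one]
      · exact h1.symm
      · exact h2.symm
      · rw [mul_assoc, ← h2, ← mul_assoc, ← h1, mul_assoc]
  -- conjugation
  have hmap : (centralizer ({a} : Set G) ⊓ centralizer ({t'} : Set G)).map (MulAut.conj g).toMonoidHom =
      centralizer ({t₁} : Set G) ⊓ centralizer ({t₂} : Set G) := by
    rw [Subgroup.map_inf _ _ _ (MulAut.conj g).injective,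
      Cfsg.Agent.Lib.Helper82_RH_TOR1.map_conj_centralizer,
      Cfsg.Agent.Lib.Helper82_RH_TOR1.map_conj_centralizer, hg, ht₂']
  rw [hCV, ← hmap, ← hcard]
  exact Nat.card_congr
    ((centralizer ({a} : Set G) ⊓ centralizer ({t'} : Set G)).equivMapOfInjective _
      (MulAut.conj g).injective).symm.toEquiv

end Cfsg.Agent.Lib.Helper82_RH_N4A
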