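import Mathlib
import Cfsg.Agent.Lib.Helper37_RHDefs
import Cfsg.Agent.Lib.Helper26_RHTorDefs
import Cfsg.Agent.Lib.Helper3_RH_NORMTcore
import Cfsg.Agent.Lib.Helper82_RH_N4A
import Cfsg.Agent.Lib.Helper57_RH_N4B

/-!
# REEHALL package NORMT (architect helper37): `normalizer_torT`
-/

set_option autoImplicit false

namespace Cfsg.Agent.Lib.Helper3_RH_NORMT

open MulAction Subgroup Cfsg.Agent.Lib.Helper37_RHDefs
open scoped Pointwise

variable {G : Type*} [Group G] [Finite G] {Ω : Type*} [MulAction G Ω] {m : ℕ}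

/-- PK NORMT.  `N(A₀) = N(V)` for every non-trivial subgroup `A₀` of `T`, of order `6 (q + 1)`. -/
theorem normalizer_torT (h : RH G Ω m) (D T V : Subgroup G) (hT : TorT m D T V) (A₀ : Subgroup G) (hA : A₀ ≤ T)
    (hA1 : A₀ ≠ ⊥) :
    normalizer (A₀ : Set G) = normalizer (V : Set G) ∧ normalizer (D : Set G) = normalizer (V : Set G) ∧
      Nat.card ↥(normalizer (V : Set G)) = 6 * (Q m + 1) := by
  exact Cfsg.Agent.Lib.Helper3_RH_NORMTcore.normalizer_torT_core hT
    (Cfsg.Agent.Lib.Helper82_RH_N4A.card_centralizer_four h V hT.card_V hT.V_sq)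
    (Cfsg.Agent.Lib.Helper57_RH_N4B.card_normalizer_four h V hT.card_V hT.V_sq) A₀ hA hA1

end Cfsg.Agent.Lib.Helper3_RH_NORMT
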