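import Mathlib
import Cfsg.Agent.Lib.Helper37_RHDefs
import Cfsg.Agent.Lib.Helper3_RH_NORMTcore

/-!
# REEHALL package SIGCOUNT, core (architect helper37)

`card_sig_core`: the number of elements of `σ`-type, from torus data, the absence of elements of order 4, and
`N(D) = N(V)` of order `6 (q + 1)`.
-/

set_option autoImplicit false

namespace Cfsg.Agent.Lib.Helper3_RH_SIGCOUNTcore

open MulAction Subgroup Cfsg.Agent.Lib.Helper37_RHDefs Cfsg.Agent.Lib.Helper3_RH_NORMTcore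

variable {G : Type*} [Group G] {m : ℕ}

/-- For `d ∈ D ∖ V`, `d * d` is a non-trivial element of `T`. -/
theorem sq_mem_T [Finite G] {D T V : Subgroup G} (hT : TorT m D T V)
    (h4 : ∀ y : G, y ^ 4 = 1 → y * y = 1) (d : G) (hd : d ∈ D) (hdV : d ∉ V) :
    d * d ∈ T ∧ d * d ≠ 1 := by
  have hne : d * d ≠ 1 := fun h => hdV (hT.mem_V d hd h)
  refine ⟨?_, hne⟩
  have h1 : orderOf d ∣ Nat.card D := Subgroup.orderOf_dvd_natCard D hd
  rw [hT.card_D, ← four_mul_k m] at h1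
  have h2 : (d ^ ((Q m + 1) / 4)) ^ 4 = 1 := by
    rw [← pow_mul, mul_comm]
    exact orderOf_dvd_iff_pow_eq_one.mp h1
  have h3 := h4 _ h2
  have h5 : (d * d) ^ ((Q m + 1) / 4) = 1 := by
    rw [← pow_two, ← pow_mul, mul_comm, pow_mul, pow_two]
    exact h3
  have h6 : orderOf (d * d) ∣ (Q m + 1) / 4 := orderOf_dvd_of_pow_eq_one h5
  exact hT.mem_T _ (D.mul_mem hd hd) ((k_odd m).of_dvd_nat h6)

/-- Two conjugators of the same element into `D ∖ V` differ by an element of `N(D)`. -/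
theorem conj_unique [Finite G] {D T V : Subgroup G} (hT : TorT m D T V)
    (h4 : ∀ y : G, y ^ 4 = 1 → y * y = 1) (c c' g : G)
    (h1 : c * g * c⁻¹ ∈ D ∧ c * g * c⁻¹ ∉ V) (h2 : c' * g * c'⁻¹ ∈ D ∧ c' * g * c'⁻¹ ∉ V) :
    c' * c⁻¹ ∈ normalizer (D : Set G) := by
  obtain ⟨t1, t1ne⟩ := sq_mem_T hT h4 _ h1.1 h1.2
  obtain ⟨t2, t2ne⟩ := sq_mem_T hT h4 _ h2.1 h2.2
  have hc1 := hT.cent _ t1 t1ne
  have hc2 := hT.cent _ t2 t2ne
  have hconj : (c' * c⁻¹) * (c * g * c⁻¹ * (c * g * c⁻¹)) * (c' * c⁻¹)⁻¹ =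
      c' * g * c'⁻¹ * (c' * g * c'⁻¹) := by group
  rw [mem_normalizer_iff]
  intro x
  have e1 : x ∈ D ↔ x ∈ centralizer ({c * g * c⁻¹ * (c * g * c⁻¹)} : Set G) := by rw [hc1]
  have e2 : (c' * c⁻¹) * x * (c' * c⁻¹)⁻¹ ∈ D ↔ (c' * c⁻¹) * x * (c' * c⁻¹)⁻¹ ∈
      centralizer ({c' * g * c'⁻¹ * (c' * g * c'⁻¹)} : Set G) := by rw [hc2]
  rw [e1, e2, ← hconj, mem_centralizer_singleton_iff, mem_centralizer_singleton_iff]
  generalize c * g * c⁻¹ * (c * g * c⁻¹) = t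
  generalize c' * c⁻¹ = n
  constructor
  · intro h
    have : n * x * n⁻¹ * (n * t * n⁻¹) = n * (x * t) * n⁻¹ := by group
    rw [this, h]
    group
  · intro h
    have e : x * t = n⁻¹ * (n * x * n⁻¹ * (n * t * n⁻¹)) * n := by group
    rw [e, h]
    group

/-- `N(D)` preserves `D ∖ V`. -/
theorem conj_mem_diff {D T V : Subgroup G} (hT : TorT m D T V) (n : G)
    (hn : n ∈ normalizer (D : Set G)) (d : G) (hd : d ∈ D ∧ d ∉ V) :
    n * d * n⁻¹ ∈ D ∧ n * d * n⁻¹ ∉ V := by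
  have hnV := normalizer_D_le hT hn
  rw [mem_normalizer_iff] at hn hnV
  exact ⟨(hn d).mp hd.1, fun h => hd.2 ((hnV d).mpr h)⟩

/-- SIGCOUNT, core. -/
theorem card_sig_core [Finite G] {D T V : Subgroup G} (hT : TorT m D T V)
    (h4 : ∀ y : G, y ^ 4 = 1 → y * y = 1)
    (hcard : Nat.card ↥(normalizer (D : Set G)) = 6 * (Q m + 1)) :
    6 * (Q m + 1) * Nat.card {g : G // IsSig D V g} = Nat.card G * (Q m - 3) := by
  classical
  -- the pairs `(c, g)` with `c g c⁻¹ ∈ D ∖ V`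
  let P := {x : G × G // x.1 * x.2 * x.1⁻¹ ∈ D ∧ x.1 * x.2 * x.1⁻¹ ∉ V}
  let e1 : P ≃ G × {d : G // d ∈ D ∧ d ∉ V} :=
    { toFun := fun x => (x.1.1, ⟨x.1.1 * x.1.2 * x.1.1⁻¹, x.2⟩)
      invFun := fun y => ⟨(y.1, y.1⁻¹ * y.2.1 * y.1), by
        have e : y.1 * (y.1⁻¹ * y.2.1 * y.1) * y.1⁻¹ = y.2.1 := by group
        show y.1 * (y.1⁻¹ * y.2.1 * y.1) * y.1⁻¹ ∈ D ∧ y.1 * (y.1⁻¹ * y.2.1 * y.1) * y.1⁻¹ ∉ V
        rw [e]
        exact y.2.2⟩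
      left_inv := by
        rintro ⟨⟨c, g⟩, hx⟩
        apply Subtype.ext
        show (c, c⁻¹ * (c * g * c⁻¹) * c) = (c, g)
        congr 1
        group
      right_inv := by
        rintro ⟨c, ⟨d, hd⟩⟩
        show (c, (⟨c * (c⁻¹ * d * c) * c⁻¹, _⟩ : {d : G // d ∈ D ∧ d ∉ V})) = (c, ⟨d, hd⟩)
        congr 1
        apply Subtype.ext
        show c * (c⁻¹ * d * c) * c⁻¹ = d
        group }
  let c₀ : {g : G // IsSig D V g} → G := fun g => g.2.choose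
  have hc₀ : ∀ g : {g : G // IsSig D V g},
      c₀ g * g.1 * (c₀ g)⁻¹ ∈ D ∧ c₀ g * g.1 * (c₀ g)⁻¹ ∉ V := fun g => g.2.choose_spec
  let e2 : P ≃ {g : G // IsSig D V g} × ↥(normalizer (D : Set G)) :=
    { toFun := fun x => (⟨x.1.2, ⟨x.1.1, x.2⟩⟩,
        ⟨x.1.1 * (c₀ ⟨x.1.2, ⟨x.1.1, x.2⟩⟩)⁻¹,
          conj_unique hT h4 _ _ x.1.2 (hc₀ ⟨x.1.2, ⟨x.1.1, x.2⟩⟩) x.2⟩)
      invFun := fun y => ⟨((y.2 : G) * c₀ y.1, y.1.1), by
        have e : (y.2 : G) * c₀ y.1 * y.1.1 * ((y.2 : G) * c₀ y.1)⁻¹ =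
            (y.2 : G) * (c₀ y.1 * y.1.1 * (c₀ y.1)⁻¹) * (y.2 : G)⁻¹ := by group
        show (y.2 : G) * c₀ y.1 * y.1.1 * ((y.2 : G) * c₀ y.1)⁻¹ ∈ D ∧
          (y.2 : G) * c₀ y.1 * y.1.1 * ((y.2 : G) * c₀ y.1)⁻¹ ∉ V
        rw [e]
        exact conj_mem_diff hT _ y.2.2 _ (hc₀ y.1)⟩
      left_inv := by
        rintro ⟨⟨c, g⟩, hx⟩
        apply Subtype.ext
        show (c * (c₀ ⟨g, ⟨c, hx⟩⟩)⁻¹ * c₀ ⟨g, ⟨c, hx⟩⟩, g) = (c, g)
        congr 1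
        group
      right_inv := by
        rintro ⟨⟨g, hg⟩, ⟨n, hn⟩⟩
        refine Prod.ext rfl ?_
        apply Subtype.ext
        show n * c₀ ⟨g, hg⟩ * (c₀ ⟨g, _⟩)⁻¹ = n
        group }
  have hP1 : Nat.card P = Nat.card G * (Q m - 3) := by
    rw [Nat.card_congr e1, Nat.card_prod]
    congr 1
    have h1 : Nat.card {d : G // d ∈ D ∧ d ∉ V} = ((D : Set G) \ (V : Set G)).ncard := by
      rw [← _root_.Nat.card_coe_set_eq]
      rfl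
    rw [h1, Set.ncard_sdiff (show (V : Set G) ⊆ D from hT.V_le)]
    have h2 : (D : Set G).ncard = Q m + 1 := by
      rw [← _root_.Nat.card_coe_set_eq]; exact hT.card_D
    have h3 : (V : Set G).ncard = 4 := by
      rw [← _root_.Nat.card_coe_set_eq]; exact hT.card_V
    rw [h2, h3]
    omega
  have hP2 : Nat.card P = Nat.card {g : G // IsSig D V g} * (6 * (Q m + 1)) := by
    rw [Nat.card_congr e2, Nat.card_prod, hcard]
  rw [← hP1, hP2]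
  ring

end Cfsg.Agent.Lib.Helper3_RH_SIGCOUNTcore
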