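import Mathlib
import Cfsg.Agent.Lib.Helper37_RHDefs
import Cfsg.Agent.Lib.Helper26_RHTorDefs
import Cfsg.Agent.Lib.Helper3_RH_SIGCOUNTcore
import Cfsg.Agent.Lib.Helper3_RH_NORMT

/-!
# REEHALL package SIGCOUNT (architect helper37): `card_sig`
-/

set_option autoImplicit false

namespace Cfsg.Agent.Lib.Helper3_RH_SIGCOUNT

open MulAction Subgroup Cfsg.Agent.Lib.Helper37_RHDefs
open scoped Pointwise

variable {G : Type*} [Group G] [Finite G] {Ω : Type*} [MulAction G Ω] {m : ℕ}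

/-- There are no elements of order 4 (Sylow 2-subgroups are elementary abelian). -/
theorem no_order_four (h : RH G Ω m) (y : G) (hy : y ^ 4 = 1) : y * y = 1 := by
  have : Fact (Nat.Prime 2) := ⟨Nat.prime_two⟩
  have hdvd : orderOf y ∣ 2 ^ 2 := orderOf_dvd_of_pow_eq_one (by simpa using hy)
  obtain ⟨k, -, hk⟩ := (Nat.dvd_prime_pow Nat.prime_two).mp hdvd
  have hp : IsPGroup 2 (zpowers y) := IsPGroup.of_card (n := k) (by rw [Nat.card_zpowers, hk])
  obtain ⟨S, hS⟩ := hp.exists_le_sylow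
  exact (h.syl2 S).2.1 y (hS (mem_zpowers y))

/-- PK SIGCOUNT.  The number of elements of `σ`-type. -/
theorem card_sig (h : RH G Ω m) (D T V : Subgroup G) (hT : TorT m D T V) :
    6 * (Q m + 1) * Nat.card {g : G // IsSig D V g} = Nat.card G * (Q m - 3) := by
  have hk := Cfsg.Agent.Lib.Helper3_RH_NORMTcore.k_odd m
  have h4k := Cfsg.Agent.Lib.Helper3_RH_NORMTcore.four_mul_k m
  -- a non-trivial subgroup of `T`: `T` itself
  have hT1 : T ≠ ⊥ := by
    intro hbot
    have h1 := hT.card_T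
    rw [hbot, Subgroup.card_bot] at h1
    have h27 : 27 ≤ Q m := by
      have : 3 ^ 3 ≤ 3 ^ (2 * m + 1) := Nat.pow_le_pow_right (by norm_num) (by have := h.hm; omega)
      simpa [Q] using this
    omega
  obtain ⟨-, hND, hNV⟩ := Cfsg.Agent.Lib.Helper3_RH_NORMT.normalizer_torT h D T V hT T le_rfl hT1
  exact Cfsg.Agent.Lib.Helper3_RH_SIGCOUNTcore.card_sig_core hT (no_order_four h)
    (by rw [hND]; exact hNV)

end Cfsg.Agent.Lib.Helper3_RH_SIGCOUNT
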