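import Mathlib
import Cfsg.Agent.Lib.Helper37_RHDefs
import Cfsg.Agent.Lib.Helper31_RH_STAB2
import Cfsg.Agent.Lib.Helper60_RH_TORT

set_option autoImplicit false

/-!
REEHALL package CENTH (architect helper37): the centraliser of an element of order `> 2` of a two-point stabiliser
`H` is `H`.
-/

namespace Cfsg.Agent.Lib.Helper60_RH_CENTH

open MulAction Subgroup Cfsg.Agent.Lib.Helper37_RHDefs
open scoped Pointwise

variable {G : Type*} [Group G] [Finite G] {Ω : Type*} [MulAction G Ω] {m : ℕ}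

omit [Finite G] in
/-- An element `g` with `g * g ≠ 1` whose order divides `2 n'`, `n'` odd, has an odd prime divisor of its order. -/
theorem exists_odd_prime_dvd_orderOf {g : G} (hg : g * g ≠ 1) {N : ℕ} (hN : N % 4 = 2) (ho : orderOf g ∣ N) :
    ∃ p : ℕ, p.Prime ∧ p ≠ 2 ∧ p ∣ orderOf g := by
  have ho2 : ¬ orderOf g ∣ 2 := by
    intro hcon
    apply hg
    rw [← pow_two]
    exact orderOf_dvd_iff_pow_eq_one.mp hcon
  have ho0 : orderOf g ≠ 0 := by
    intro hcon
    rw [hcon] at ho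
    have := Nat.eq_zero_of_zero_dvd ho
    omega
  obtain ⟨k, r, hr, hkr⟩ := Nat.exists_eq_two_pow_mul_odd ho0
  by_cases hr1 : r = 1
  · exfalso
    subst hr1
    rw [mul_one] at hkr
    rw [hkr] at ho ho2
    rcases k with _ | _ | k
    · exact ho2 (by norm_num)
    · exact ho2 (by norm_num)
    · have : 4 ∣ N := Dvd.dvd.trans ⟨2 ^ k, by ring⟩ ho
      omega
  · obtain ⟨p, hp, hpr⟩ := Nat.exists_prime_and_dvd hr1
    refine ⟨p, hp, ?_, hkr ▸ Dvd.dvd.mul_left hpr _⟩
    rintro rfl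
    exact (Nat.not_even_iff_odd.mpr hr) (even_iff_two_dvd.mpr hpr)

/-- PK CENTH. -/
theorem cent_of_stab2 (h : RH G Ω m) (x y : Ω) (hxy : x ≠ y) (g : G) (hx : g • x = x) (hy : g • y = y)
    (hg : g * g ≠ 1) : centralizer ({g} : Set G) = stabilizer G x ⊓ stabilizer G y := by
  classical
  obtain ⟨hcyc, hcard⟩ := Cfsg.Agent.Lib.Helper31_RH_STAB2.stab2_all h x y hxy
  obtain ⟨H, hH⟩ : ∃ H : Subgroup G, H = stabilizer G x ⊓ stabilizer G y := ⟨_, rfl⟩
  rw [← hH] at hcyc hcard ⊢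
  have hgH : g ∈ H := by
    rw [hH]
    exact ⟨hx, hy⟩
  have hHc : ∀ a ∈ H, ∀ b ∈ H, a * b = b * a := by
    intro a ha b hb
    have := (IsCyclic.commGroup (α := H)).mul_comm ⟨a, ha⟩ ⟨b, hb⟩
    exact congrArg Subtype.val this
  obtain ⟨hq27, hq8, hq3⟩ := Cfsg.Agent.Lib.Helper60_RH_TORT.Q_mod m h.hm
  have ho : orderOf g ∣ Q m - 1 := by
    apply orderOf_dvd_of_pow_eq_one
    rw [← hcard]
    exact Cfsg.Agent.Lib.Helper60_RH_TORT.pow_card_subgroup_eq_one H hgH
  obtain ⟨p, hp, hp2, hpo⟩ := exists_odd_prime_dvd_orderOf hg (N := Q m - 1) (by omega) ho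
  have hpq : p ∣ Q m - 1 := hpo.trans ho
  have hot0 : orderOf g ≠ 0 := (orderOf_pos g).ne'
  have hog' : orderOf (g ^ (orderOf g / p)) = p := orderOf_pow_orderOf_div hot0 hpo
  obtain ⟨-, hcard'⟩ := h.main1 p hp hp2 hpq _ hog'
  have hHle : H ≤ centralizer ({g ^ (orderOf g / p)} : Set G) := by
    intro d hd
    rw [mem_centralizer_iff]
    intro z hz
    rw [Set.mem_singleton_iff] at hz
    rw [hz]
    exact hHc _ (H.pow_mem hgH _) d hd
  have hHeq : H = centralizer ({g ^ (orderOf g / p)} : Set G) :=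
    Subgroup.eq_of_le_of_card_ge hHle (by rw [hcard', hcard])
  apply le_antisymm
  · rw [hHeq]
    intro c hc
    rw [mem_centralizer_iff] at hc ⊢
    intro z hz
    rw [Set.mem_singleton_iff] at hz
    rw [hz]
    have hc' : Commute g c := hc g (Set.mem_singleton g)
    exact (hc'.pow_left _).eq
  · intro d hd
    rw [mem_centralizer_iff]
    intro z hz
    rw [Set.mem_singleton_iff] at hz
    rw [hz]
    exact hHc g hgH d hd

end Cfsg.Agent.Lib.Helper60_RH_CENTH
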