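import Mathlib
import Cfsg.Agent.Lib.Helper37_RHDefs
import Cfsg.Agent.Lib.Helper26_RHTorDefs

set_option autoImplicit false
set_option linter.unusedSectionVars false
set_option linter.unusedVariables false

/-!
# REEHALL market (architect helper37), package SYL3

The 3-elements of an abstract Ree-type group: `U` is a Sylow 3-subgroup, so a non-trivial 3-element is conjugate
into `U`, fixes exactly one point and has order dividing 9; an element of order divisible by 3 fixes exactly one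
point; a 3-element of the point stabiliser lies in `U`.
-/

namespace Cfsg.Agent.Lib.Helper86_RH_SYL3

open MulAction Subgroup Cfsg.Agent.Lib.Helper37_RHDefs
open scoped Pointwise

variable {G : Type*} [Group G] [Finite G] {Ω : Type*} [MulAction G Ω] {m : ℕ}

/-- the exponent of 3 in `|G|` -/
theorem factorization_three (h : RH G Ω m) :
    (Nat.card G).factorization 3 = (2 * m + 1) * 3 := by
  have hq : Q m = 3 * 3 ^ (2 * m) := by
    show 3 ^ (2 * m + 1) = 3 * 3 ^ (2 * m)
    rw [pow_succ, mul_comm]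
  have hq3 : (Q m) ^ 3 = 3 ^ ((2 * m + 1) * 3) := by
    show (3 ^ (2 * m + 1)) ^ 3 = 3 ^ ((2 * m + 1) * 3)
    rw [← pow_mul]
  have ht : 1 ≤ 3 ^ (2 * m) := Nat.one_le_pow _ _ (by norm_num)
  have hq3' : (Q m) ^ 3 = 3 * (9 * (3 ^ (2 * m)) ^ 3) := by
    rw [hq]; ring
  have h1 : ¬ 3 ∣ Q m - 1 := by
    rw [hq]
    omega
  have h2 : ¬ 3 ∣ (Q m) ^ 3 + 1 := by
    rw [hq3']
    omega
  have h3 : ¬ 3 ∣ (Q m - 1) * ((Q m) ^ 3 + 1) := by
    intro hd
    rcases (Nat.Prime.dvd_mul Nat.prime_three).mp hd with hd | hd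
    · exact h1 hd
    · exact h2 hd
  have hne1 : (Q m) ^ 3 ≠ 0 := by
    rw [hq3]
    exact pow_ne_zero _ (by norm_num)
  have hne2 : (Q m - 1) * ((Q m) ^ 3 + 1) ≠ 0 := by
    intro h0
    rw [h0] at h3
    exact h3 (dvd_zero 3)
  rw [h.card_G, mul_assoc, Nat.factorization_mul hne1 hne2, Finsupp.add_apply,
    Nat.factorization_eq_zero_of_not_dvd h3, add_zero, hq3, Nat.Prime.factorization_pow Nat.prime_three,
    Finsupp.single_eq_same]

/-- a subgroup of order `q^3` has the order of a Sylow 3-subgroup -/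
theorem card_eq_sylow (h : RH G Ω m) (U : Subgroup G) (hU : Nat.card U = (Q m) ^ 3) :
    Nat.card U = 3 ^ (Nat.card G).factorization 3 := by
  rw [factorization_three h, hU]
  show (3 ^ (2 * m + 1)) ^ 3 = 3 ^ ((2 * m + 1) * 3)
  rw [← pow_mul]

/-- a 3-element normalising a subgroup of order the full 3-part lies in it -/
theorem mem_of_three_pow (U : Subgroup G)
    (hcard : Nat.card U = 3 ^ (Nat.card G).factorization 3) {b : G}
    (hnorm : ∀ u ∈ U, b * u * b⁻¹ ∈ U) (hnorm' : ∀ u ∈ U, b⁻¹ * u * b ∈ U) {k : ℕ}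
    (hb : b ^ 3 ^ k = 1) : b ∈ U := by
  have hp : (3 : ℕ).Prime := Nat.prime_three
  have hU : IsPGroup 3 U := IsPGroup.of_card hcard
  have hZ : IsPGroup 3 (Subgroup.zpowers b) := by
    obtain ⟨j, _, hj⟩ := (Nat.dvd_prime_pow hp).mp (orderOf_dvd_of_pow_eq_one hb)
    apply IsPGroup.of_card (n := j)
    rw [Nat.card_zpowers, hj]
  have hbN : b ∈ Subgroup.normalizer (U : Set G) := by
    rw [Subgroup.mem_normalizer_iff]
    intro u
    constructor
    · exact hnorm u
    · intro h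
      have := hnorm' _ h
      have h2 : b⁻¹ * (b * u * b⁻¹) * b = u := by group
      rwa [h2] at this
  have hZN : Subgroup.zpowers b ≤ Subgroup.normalizer (U : Set G) := by
    rw [Subgroup.zpowers_le]
    exact hbN
  have hH : IsPGroup 3 (Subgroup.zpowers b ⊔ U : Subgroup G) :=
    IsPGroup.to_sup_of_normal_right' hZ hU hZN
  obtain ⟨j, hj⟩ := IsPGroup.iff_card.mp hH
  have hdvd : 3 ^ j ∣ Nat.card G := by
    rw [← hj]
    exact Subgroup.card_subgroup_dvd_card _
  have hj' : j ≤ (Nat.card G).factorization 3 :=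
    (hp.pow_dvd_iff_le_factorization Nat.card_pos.ne').mp hdvd
  have hle : U ≤ Subgroup.zpowers b ⊔ U := le_sup_right
  have hcardle : Nat.card (Subgroup.zpowers b ⊔ U : Subgroup G) ≤ Nat.card U := by
    rw [hj, hcard]
    exact Nat.pow_le_pow_right hp.pos hj'
  have heq : U = Subgroup.zpowers b ⊔ U := Subgroup.eq_of_le_of_card_ge hle hcardle
  rw [heq]
  exact (le_sup_left : Subgroup.zpowers b ≤ _) (Subgroup.mem_zpowers b)

/-- a 3-element is conjugate into any subgroup of order `q^3` -/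
theorem exists_conj_mem (h : RH G Ω m) (U : Subgroup G) (hU : Nat.card U = (Q m) ^ 3) (g : G) (k : ℕ)
    (hg : g ^ 3 ^ k = 1) : ∃ c : G, c⁻¹ * g * c ∈ U := by
  have hp : (3 : ℕ).Prime := Nat.prime_three
  have hcard := card_eq_sylow h U hU
  set P0 : Sylow 3 G := Sylow.ofCard U hcard with hP0
  have hZ : IsPGroup 3 (Subgroup.zpowers g) := by
    obtain ⟨j, _, hj⟩ := (Nat.dvd_prime_pow hp).mp (orderOf_dvd_of_pow_eq_one hg)
    apply IsPGroup.of_card (n := j)
    rw [Nat.card_zpowers, hj]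
  obtain ⟨P, hP⟩ := hZ.exists_le_sylow
  obtain ⟨c, hc⟩ := MulAction.exists_smul_eq G P0 P
  refine ⟨c, ?_⟩
  have hgP : g ∈ (P : Subgroup G) := hP (Subgroup.mem_zpowers g)
  rw [← hc, Sylow.smul_def, Sylow.pointwise_smul_def,
    Subgroup.mem_pointwise_smul_iff_inv_smul_mem, MulAut.smul_def, MulAut.conj_inv_apply,
    hP0, Sylow.coe_ofCard] at hgP
  exact hgP

/-- PK SYL3.  A non-trivial 3-element fixes exactly one point and has order dividing 9. -/
theorem three_elt (h : RH G Ω m) (g : G) (k : ℕ) (hg : g ^ 3 ^ k = 1) (hg1 : g ≠ 1) :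
    (∃! x : Ω, g • x = x) ∧ g ^ 9 = 1 := by
  obtain ⟨o, U, hU, hUo, hUn, hUf, hU9, -⟩ := h.unip
  obtain ⟨c, hc⟩ := exists_conj_mem h U hU g k hg
  set u : G := c⁻¹ * g * c with hu
  have hgu : g = c * u * c⁻¹ := by rw [hu]; group
  have hu1 : u ≠ 1 := by
    intro h1
    apply hg1
    rw [hgu, h1]
    group
  constructor
  · refine ⟨c • o, ?_, ?_⟩
    · show g • c • o = c • o
      have huo : u • o = o := hUo hc
      rw [hgu, mul_smul, mul_smul, inv_smul_smul, huo]
    · intro y hy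
      have h1 : u • (c⁻¹ • y) = c⁻¹ • y := by
        rw [hu, mul_smul, mul_smul, smul_inv_smul, hy]
      have h2 := hUf u hc hu1 _ h1
      rw [← h2, smul_inv_smul]
  · have h9 := hU9 u hc
    rw [hgu]
    have : (c * u * c⁻¹) ^ 9 = c * u ^ 9 * c⁻¹ := by
      rw [conj_pow]
    rw [this, h9]
    group

/-- PK SYL3 (second part).  If `3 ∣ orderOf g` then `g` fixes exactly one point. -/
theorem fix_of_three_dvd (h : RH G Ω m) (g : G) (hg : 3 ∣ orderOf g) : ∃! x : Ω, g • x = x := by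
  have hpos : orderOf g ≠ 0 := (orderOf_pos g).ne'
  set g' : G := g ^ (orderOf g / 3) with hg'
  have hord : orderOf g' = 3 := orderOf_pow_orderOf_div hpos hg
  have hg'1 : g' ≠ 1 := by
    intro h1
    rw [h1, orderOf_one] at hord
    norm_num at hord
  have hg'3 : g' ^ 3 ^ 1 = 1 := by
    rw [pow_one, ← hord]
    exact pow_orderOf_eq_one g'
  obtain ⟨⟨x0, hx0, hx0u⟩, -⟩ := three_elt h g' 1 hg'3 hg'1
  have hcomm : g' * g = g * g' := by
    rw [hg', ← pow_succ, ← pow_succ']
  refine ⟨x0, ?_, ?_⟩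
  · show g • x0 = x0
    apply hx0u
    show g' • g • x0 = g • x0
    rw [← mul_smul, hcomm, mul_smul, hx0]
  · intro y hy
    apply hx0u
    show g' • y = y
    have hys : g ∈ stabilizer G y := hy
    have := Subgroup.pow_mem _ hys (orderOf g / 3)
    exact this

/-- PK SYL3 (third part).  A 3-element fixing the point `o` of `h.unip` lies in `U`. -/
theorem three_elt_mem (h : RH G Ω m) (o : Ω) (U : Subgroup G) (hU : Nat.card U = (Q m) ^ 3)
    (hUo : U ≤ stabilizer G o) (hUn : ∀ b ∈ stabilizer G o, ∀ u ∈ U, b * u * b⁻¹ ∈ U)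
    (hUf : ∀ u ∈ U, u ≠ 1 → ∀ x : Ω, u • x = x → x = o) (g : G) (k : ℕ) (hg : g ^ 3 ^ k = 1) (hgo : g • o = o) :
    g ∈ U := by
  have hgs : g ∈ stabilizer G o := hgo
  have hgs' : g⁻¹ ∈ stabilizer G o := Subgroup.inv_mem _ hgs
  apply mem_of_three_pow U (card_eq_sylow h U hU) (hUn g hgs) _ hg
  intro u hu
  have := hUn g⁻¹ hgs' u hu
  rwa [inv_inv] at this

end Cfsg.Agent.Lib.Helper86_RH_SYL3
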