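import Mathlib

/-!
# Helper91_RH_SylConj: a `p`-element is conjugate into any subgroup carrying the full `p`-part
(helper lemma for the REEHALL packages SIGCONJ and INH, architect helper37)
-/

set_option autoImplicit false

namespace Cfsg.Agent.Lib.Helper91_RH_SylConj

open Subgroup

/-- If the `p`-part of `|K|` is the `p`-part of `|G|`, every `p`-subgroup `R` of `G` has a conjugate
inside `K`. -/
theorem exists_conj_le {G : Type*} [Group G] [Finite G] (K : Subgroup G) (p : ℕ) [Fact p.Prime]
    (hK : (Nat.card G).factorization p = (Nat.card K).factorization p) (R : Subgroup G)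
    (hR : IsPGroup p R) : ∃ c : G, ∀ z ∈ R, c * z * c⁻¹ ∈ K := by
  classical
  -- a Sylow `p`-subgroup of `K`, pushed to `G`
  obtain ⟨P'⟩ : Nonempty (Sylow p K) := inferInstance
  have hP' : Nat.card (P' : Subgroup K) = p ^ (Nat.card K).factorization p :=
    Sylow.card_eq_multiplicity P'
  let PG : Subgroup G := (P' : Subgroup K).map K.subtype
  have hPG : Nat.card PG = p ^ (Nat.card G).factorization p := by
    rw [hK, ← hP']
    exact (Nat.card_congr
      ((P' : Subgroup K).equivMapOfInjective K.subtype K.subtype_injective).toEquiv).symm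
  have hPGK : PG ≤ K := by
    rintro _ ⟨k, -, rfl⟩
    exact k.2
  let P : Sylow p G := Sylow.ofCard PG hPG
  obtain ⟨Q, hQ⟩ := hR.exists_le_sylow
  obtain ⟨c, hc⟩ := MulAction.exists_smul_eq G Q P
  refine ⟨c, fun z hz => hPGK ?_⟩
  have hzQ : z ∈ (Q : Subgroup G) := hQ hz
  have h1 : c * z * c⁻¹ ∈ ((c • Q : Sylow p G) : Subgroup G) := by
    rw [Sylow.coe_subgroup_smul]
    have := Subgroup.smul_mem_pointwise_smul z (MulAut.conj c) (Q : Subgroup G) hzQ
    simpa [MulAut.smul_def, MulAut.conj_apply] using this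
  rw [hc] at h1
  exact h1

/-- Element version: an element whose order is a power of `p` is conjugate into `K`. -/
theorem exists_conj_mem {G : Type*} [Group G] [Finite G] (K : Subgroup G) (p : ℕ) [Fact p.Prime]
    (hK : (Nat.card G).factorization p = (Nat.card K).factorization p) (z : G) (k : ℕ)
    (hz : orderOf z = p ^ k) : ∃ c : G, c * z * c⁻¹ ∈ K := by
  have hR : IsPGroup p (zpowers z) := by
    rw [IsPGroup.iff_card, Nat.card_zpowers, hz]
    exact ⟨k, rfl⟩
  obtain ⟨c, hc⟩ := exists_conj_le K p hK (zpowers z) hR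
  exact ⟨c, hc z (mem_zpowers z)⟩

end Cfsg.Agent.Lib.Helper91_RH_SylConj
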