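import Mathlib
import Cfsg.Agent.Lib.Helper37_RHDefs
import Cfsg.Agent.Lib.Helper26_RHTorDefs
import Cfsg.Agent.Lib.Helper91_RH_SylConj
import Cfsg.Agent.Lib.Helper10_RH_ARITH

/-!
# REEHALL package SIGCONJ (architect helper37): elements with all prime divisors of the order
dividing `(q + 1) / 4` are conjugate into the torus `T`
-/

set_option autoImplicit false

namespace Cfsg.Agent.Lib.Helper91_RH_SIGCONJ

open MulAction Subgroup Cfsg.Agent.Lib.Helper37_RHDefs
open scoped Pointwise

variable {G : Type*} [Group G] [Finite G] {Ω : Type*} [MulAction G Ω] {m : ℕ}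

/-- PK SIGCONJ.  A non-trivial element all of whose prime divisors divide `(q + 1) / 4` is conjugate into `T`. -/
theorem sig_conj (h : RH G Ω m) (D T V : Subgroup G) (hT : TorT m D T V) (g : G) (hg1 : g ≠ 1)
    (hg : ∀ p : ℕ, p.Prime → p ∣ orderOf g → p ∣ (Q m + 1) / 4) : ∃ c : G, c * g * c⁻¹ ∈ T := by
  obtain ⟨-, -, -, h4, hodd, -, -, -, -, -, -, -, -, -⟩ := Cfsg.Agent.Lib.Helper10_RH_ARITH.arith m h.hm
  have hn0 : 0 < orderOf g := orderOf_pos g
  have hn1 : orderOf g ≠ 1 := fun e => hg1 (orderOf_eq_one_iff.mp e)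
  -- a prime divisor `s` of the order
  obtain ⟨s, hs, hsd⟩ := Nat.exists_prime_and_dvd hn1
  have hsT : s ∣ (Q m + 1) / 4 := hg s hs hsd
  have hs2 : s ≠ 2 := by
    rintro rfl
    omega
  have hsq : s ∣ Q m + 1 := by
    rw [← h4]
    exact Dvd.dvd.mul_left hsT 4
  obtain ⟨-, -, h3, -, -⟩ := Cfsg.Agent.Lib.Helper10_RH_ARITH.arith_primes m h.hm s hs
  obtain ⟨-, -, -, hfac⟩ := h3 hs2 hsq
  have : Fact s.Prime := ⟨hs⟩
  -- the element of order `s`
  set k := orderOf g / s with hk
  have hks : k * s = orderOf g := Nat.div_mul_cancel hsd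
  have hz : orderOf (g ^ k) = s ^ 1 := by
    rw [pow_one]
    have hk0 : k ≠ 0 := by
      rintro h0
      rw [h0, zero_mul] at hks
      omega
    rw [orderOf_pow' g hk0, Nat.gcd_eq_right ⟨s, by rw [← hks]⟩]
    exact Nat.div_eq_of_eq_mul_right (Nat.pos_of_ne_zero hk0) hks.symm
  have hK : (Nat.card G).factorization s = (Nat.card T).factorization s := by
    rw [h.card_G, hT.card_T]
    exact hfac
  obtain ⟨c, hc⟩ := Cfsg.Agent.Lib.Helper91_RH_SylConj.exists_conj_mem T s hK (g ^ k) 1 hz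
  refine ⟨c, ?_⟩
  -- the conjugate of `g ^ k` is a nontrivial element of `T`
  have ht1 : c * g ^ k * c⁻¹ ≠ 1 := by
    intro e
    have : g ^ k = 1 := by
      have := congrArg (fun x => c⁻¹ * x * c) e
      simpa [mul_assoc] using this
    rw [this, orderOf_one, pow_one] at hz
    exact hs.one_lt.ne hz
  have hcent := hT.cent _ hc ht1
  -- `c g c⁻¹` centralises it, so lies in `D`
  have hD : c * g * c⁻¹ ∈ D := by
    rw [← hcent, mem_centralizer_iff]
    intro y hy
    rw [Set.mem_singleton_iff] at hy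
    subst hy
    have e1 : c * g ^ k * c⁻¹ * (c * g * c⁻¹) = c * (g ^ k * g) * c⁻¹ := by group
    have e2 : c * g * c⁻¹ * (c * g ^ k * c⁻¹) = c * (g * g ^ k) * c⁻¹ := by group
    rw [e1, e2, ← pow_succ, ← pow_succ']
  -- its order is odd
  apply hT.mem_T _ hD
  have hord : orderOf (c * g * c⁻¹) = orderOf g := by
    have := orderOf_injective (MulAut.conj c).toMonoidHom (MulAut.conj c).injective g
    simpa [MulAut.conj_apply] using this
  rw [hord, ← Nat.not_even_iff_odd]
  intro hev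
  have h2 : 2 ∣ (Q m + 1) / 4 := hg 2 Nat.prime_two hev.two_dvd
  omega

end Cfsg.Agent.Lib.Helper91_RH_SIGCONJ
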