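import Mathlib
import Cfsg.Agent.Lib.Helper37_RHDefs
import Cfsg.Agent.Lib.Helper10_RH_ARITH
import Cfsg.Agent.Lib.Helper86_RH_SYL3
import Cfsg.Agent.Lib.Helper91_RH_INH
import Cfsg.Agent.Lib.Helper55_RH_FIX2

set_option autoImplicit false

namespace Cfsg.Agent.Lib.Helper92_RH_PICENT

open MulAction Subgroup Cfsg.Agent.Lib.Helper37_RHDefs

variable {G : Type*} [Group G] [Finite G] {Ω : Type*} [MulAction G Ω] {m : ℕ}


/-- `Ω` is finite. -/
theorem finite_Ω (h : RH G Ω m) : Finite Ω := by
  apply Nat.finite_of_card_ne_zero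
  rw [h.card_Ω]
  exact Nat.succ_ne_zero _

theorem transitive (h : RH G Ω m) (x x' : Ω) : ∃ g : G, g • x = x' := by
  by_cases hxx : x = x'
  · exact ⟨1, by simp [hxx]⟩
  · obtain ⟨g, hg, _⟩ := h.two_trans x x' x' x hxx (Ne.symm hxx)
    exact ⟨g, hg⟩

/-- Point stabilisers have order `q ^ 3 (q - 1)`. -/
theorem card_stabilizer (h : RH G Ω m) (x : Ω) :
    Nat.card ↥(stabilizer G x) = (Q m) ^ 3 * (Q m - 1) := by
  have hpre : MulAction.IsPretransitive G Ω := ⟨transitive h⟩
  have h1 := Subgroup.card_mul_index (stabilizer G x)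
  rw [MulAction.index_stabilizer_of_transitive G x, h.card_Ω, h.card_G] at h1
  exact Nat.eq_of_mul_eq_mul_right (Nat.succ_pos _) h1

omit [Finite G] in
theorem eq_one_of_orderOf_dvd {x : G} {a b : ℕ} (hab : Nat.Coprime a b) (ha : orderOf x ∣ a)
    (hb : orderOf x ∣ b) : x = 1 :=
  orderOf_eq_one_iff.1 (Nat.eq_one_of_dvd_coprimes hab ha hb)

omit [Finite G] in
theorem orderOf_conj' (c x : G) : orderOf (c * x * c⁻¹) = orderOf x :=
  orderOf_injective (MulAut.conj c).toMonoidHom (MulAut.conj c).injective x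

/-- `N` is coprime to the order of a point stabiliser. -/
theorem coprime_N_stab (hm : 1 ≤ m) :
    ((Q m) ^ 2 - Q m + 1).Coprime ((Q m) ^ 3 * (Q m - 1)) := by
  obtain ⟨_, _, _, _, _, _, _, _, _, _, hcop, hfac, _, _⟩ := Helper10_RH_ARITH.arith m hm
  have h1 : ((Q m) ^ 2 - Q m + 1).Coprime (Q m) :=
    Nat.Coprime.coprime_dvd_right (Dvd.intro _ rfl) hcop
  have h2 : ((Q m) ^ 2 - Q m + 1).Coprime (Q m - 1) := by
    apply Nat.Coprime.coprime_dvd_right _ hcop
    rw [hfac]
    exact Dvd.dvd.mul_left (Dvd.intro _ rfl) _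
  exact Nat.Coprime.mul_right (Nat.Coprime.pow_right 3 h1) h2

theorem coprime_N_succ (hm : 1 ≤ m) :
    ((Q m) ^ 2 - Q m + 1).Coprime (Q m + 1) := by
  obtain ⟨_, _, _, _, _, _, _, _, _, _, hcop, hfac, _, _⟩ := Helper10_RH_ARITH.arith m hm
  apply Nat.Coprime.coprime_dvd_right _ hcop
  rw [hfac]
  exact Dvd.dvd.mul_left (Dvd.intro_left _ rfl) _

/-- A `π`-element fixing a point is trivial. -/
theorem eq_one_of_fix (h : RH G Ω m) {x : G} (hx : orderOf x ∣ (Q m) ^ 2 - Q m + 1) (y : Ω)
    (hy : x • y = y) : x = 1 := by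
  have hmem : x ∈ stabilizer G y := hy
  have h1 := Subgroup.orderOf_dvd_natCard _ hmem
  rw [card_stabilizer h] at h1
  exact eq_one_of_orderOf_dvd (coprime_N_stab h.hm) hx h1

theorem cent_pi (h : RH G Ω m) (x : G) (hx : IsPi m x) (g : G) (hg : g ∈ centralizer ({x} : Set G)) (hg1 : g ≠ 1) :
    IsPi m g := by
  obtain ⟨hx1, hxN⟩ := hx
  refine ⟨hg1, ?_⟩
  have hcomm : g * x = x * g := by
    have := Subgroup.mem_centralizer_iff.1 hg x (Set.mem_singleton x)
    exact this.symm
  obtain ⟨_, _, _, _, _, _, _, _, _, hq3, hcop, hfac, _, _⟩ := Helper10_RH_ARITH.arith m h.hm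
  set N := (Q m) ^ 2 - Q m + 1 with hN
  set M := (Q m) ^ 3 * (Q m - 1) * (Q m + 1) with hM
  have hG : Nat.card G = N * M := by
    rw [h.card_G, hq3, hN, hM]; ring
  have hNM : Nat.Coprime N M := by
    rw [hM]
    exact Nat.Coprime.mul_right (coprime_N_stab h.hm) (coprime_N_succ h.hm)
  have hd : orderOf g ∣ N * M := by
    rw [← hG]; exact orderOf_dvd_natCard g
  by_cases hgM : Nat.gcd (orderOf g) M = 1
  · exact (Nat.Coprime.dvd_mul_right hgM).1 hd
  · exfalso
    obtain ⟨s, hs, hsdvd⟩ := Nat.exists_prime_and_dvd hgM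
    have hsg : s ∣ orderOf g := hsdvd.trans (Nat.gcd_dvd_left _ _)
    have hsM : s ∣ M := hsdvd.trans (Nat.gcd_dvd_right _ _)
    have hsq : s ∣ Q m * ((Q m) ^ 2 - 1) := by
      rw [hM] at hsM
      rw [hfac]
      rcases (Nat.Prime.dvd_mul hs).1 hsM with h1 | h1
      · rcases (Nat.Prime.dvd_mul hs).1 h1 with h2 | h2
        · exact Dvd.dvd.mul_right (hs.dvd_of_dvd_pow h2) _
        · exact Dvd.dvd.mul_left (Dvd.dvd.mul_right h2 _) _
      · exact Dvd.dvd.mul_left (Dvd.dvd.mul_left h1 _) _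
    have hg0 : orderOf g ≠ 0 := (orderOf_pos g).ne'
    set g' := g ^ (orderOf g / s) with hg'
    have hg's : orderOf g' = s := orderOf_pow_orderOf_div hg0 hsg
    have hg'1 : g' ≠ 1 := by
      intro h1
      rw [h1, orderOf_one] at hg's
      exact hs.one_lt.ne hg's
    have hcomm' : g' * x = x * g' := by
      have : Commute g x := hcomm
      exact (this.pow_left _).eq
    have hxg' : ∀ y : Ω, g' • y = y → g' • (x • y) = x • y := by
      intro y hy
      rw [smul_smul, hcomm', ← smul_smul, hy]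
    rcases (Helper10_RH_ARITH.arith_primes m h.hm s hs).1 hsq with h2 | h3 | ⟨hs2, hsm⟩ | ⟨hs2, hsp⟩
    · -- s = 2
      obtain ⟨a, ha2, haconj, hacard, _, _⟩ := h.invol
      obtain ⟨c, hc⟩ := haconj g' (by rw [hg's, h2])
      have hmem : c⁻¹ * x * c ∈ centralizer ({a} : Set G) := by
        rw [Subgroup.mem_centralizer_iff]
        intro y hy
        rw [Set.mem_singleton_iff] at hy
        subst hy
        have hy' : y = c⁻¹ * g' * c := by rw [← hc]; group
        rw [hy']
        have e1 : c⁻¹ * g' * c * (c⁻¹ * x * c) = c⁻¹ * (g' * x) * c := by group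
        have e2 : c⁻¹ * x * c * (c⁻¹ * g' * c) = c⁻¹ * (x * g') * c := by group
        rw [e1, e2, hcomm']
      have h1 := Subgroup.orderOf_dvd_natCard _ hmem
      rw [hacard] at h1
      have h2' : orderOf (c⁻¹ * x * c) = orderOf x := by
        have := orderOf_conj' c⁻¹ x
        rwa [inv_inv] at this
      rw [h2'] at h1
      exact hx1 (eq_one_of_orderOf_dvd hcop hxN h1)
    · -- s = 3
      have hpow : g' ^ 3 ^ 1 = 1 := by
        rw [pow_one, ← h3, ← hg's]; exact pow_orderOf_eq_one g'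
      obtain ⟨⟨o, ho, houniq⟩, _⟩ := Helper86_RH_SYL3.three_elt h g' 1 hpow hg'1
      have hxo : x • o = o := houniq _ (hxg' o ho)
      exact hx1 (eq_one_of_fix h hxN o hxo)
    · -- s odd, s ∣ q - 1
      have hs3 : 2 < orderOf g' := by
        rw [hg's]
        have := hs.two_le
        omega
      obtain ⟨y, z, hyz, hy, hz⟩ := Helper91_RH_INH.mem_stab2_of_order h g' (by rw [hg's]; exact hsm) hs3
      have hgg : g' * g' ≠ 1 := by
        intro h1
        have : orderOf g' ∣ 2 := orderOf_dvd_of_pow_eq_one (by rw [pow_two]; exact h1)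
        have := Nat.le_of_dvd (by norm_num) this
        omega
      obtain ⟨hfix, _⟩ := Helper55_RH_FIX2.fixedBy_of_stab2 h y z hyz g' hy hz hgg
      -- x * x fixes y
      have hxxy : (x * x) • y = y := by
        rcases (hfix (x • y)).1 (hxg' y hy) with h1 | h1
        · rw [mul_smul, h1, h1]
        · rcases (hfix (x • z)).1 (hxg' z hz) with h2 | h2
          · rw [mul_smul, h1, h2]
          · exfalso
            apply hyz
            have : x • y = x • z := by rw [h1, h2]
            exact MulAction.injective x this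
      have hxx1 : x * x = 1 := by
        apply eq_one_of_fix h _ y hxxy
        have : orderOf (x * x) ∣ orderOf x := by
          rw [← pow_two]; exact orderOf_pow_dvd 2
        exact this.trans hxN
      -- order of x divides 2 and N (odd)
      have h2N : Nat.Coprime N 2 := by
        apply Nat.Coprime.coprime_dvd_right _ hcop
        -- 2 ∣ q (q^2 - 1)
        obtain ⟨_, hq8, _⟩ := Helper10_RH_ARITH.arith m h.hm
        rw [hfac]
        have : 2 ∣ Q m - 1 := by omega
        exact Dvd.dvd.mul_left (Dvd.dvd.mul_right this _) _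
      have hx2 : orderOf x ∣ 2 := orderOf_dvd_of_pow_eq_one (by rw [pow_two]; exact hxx1)
      exact hx1 (eq_one_of_orderOf_dvd h2N hxN hx2)
    · -- s odd, s ∣ q + 1
      obtain ⟨_, hcard, _⟩ := h.main2 s hs hs2 hsp g' hg's
      have hmem : x ∈ centralizer ({g'} : Set G) := by
        rw [Subgroup.mem_centralizer_iff]
        intro y hy
        rw [Set.mem_singleton_iff] at hy
        subst hy
        exact hcomm'
      have h1 := Subgroup.orderOf_dvd_natCard _ hmem
      rw [hcard] at h1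
      exact hx1 (eq_one_of_orderOf_dvd (coprime_N_succ h.hm) hxN h1)

end Cfsg.Agent.Lib.Helper92_RH_PICENT
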