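import Mathlib
import Cfsg.Agent.Lib.Helper37_RHDefs
import Cfsg.Agent.Lib.Helper10_RH_ARITH
import Cfsg.Agent.Lib.Helper86_RH_SYL3
import Cfsg.Agent.Lib.Helper91_RH_INH
import Cfsg.Agent.Lib.Helper60_RH_CENTH
import Cfsg.Agent.Lib.Helper91_RH_SIGCONJ
import Cfsg.Agent.Lib.Helper31_RH_FIXINV
import Cfsg.Agent.Lib.Helper92_RH_PICENT

set_option autoImplicit false

namespace Cfsg.Agent.Lib.Helper92_RH_NOFIX

open MulAction Subgroup Cfsg.Agent.Lib.Helper37_RHDefs Cfsg.Agent.Lib.Helper92_RH_PICENT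

variable {G : Type*} [Group G] [Finite G] {Ω : Type*} [MulAction G Ω] {m : ℕ}

/-- `fixN Ω g = 0` iff `g` has no fixed point. -/
theorem fixN_eq_zero_iff (h : RH G Ω m) (g : G) : fixN Ω g = 0 ↔ ∀ y : Ω, g • y ≠ y := by
  have := finite_Ω h
  unfold fixN
  rw [Nat.card_eq_zero]
  constructor
  · rintro (h1 | h1)
    · intro y hy
      exact h1.false ⟨y, hy⟩
    · exfalso
      exact not_finite ↥(fixedBy Ω g)
  · intro h1
    left
    exact ⟨fun ⟨y, hy⟩ => h1 y hy⟩

theorem nofix_of_pi (h : RH G Ω m) (g : G) (hg : IsPi m g) : fixN Ω g = 0 := by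
  rw [fixN_eq_zero_iff h]
  intro y hy
  exact hg.1 (eq_one_of_fix h hg.2 y hy)

theorem gcd_dvd_two (hm : 1 ≤ m) : Nat.gcd (Q m + 1) ((Q m) ^ 3 * (Q m - 1)) ∣ 2 := by
  obtain ⟨_, hq8, _, h4t, _, _, _, _, _, _, _, _, _, hcop⟩ := Helper10_RH_ARITH.arith m hm
  set e := Nat.gcd (Q m + 1) ((Q m) ^ 3 * (Q m - 1)) with he
  have he1 : e ∣ Q m + 1 := Nat.gcd_dvd_left _ _
  have he2 : e ∣ (Q m) ^ 3 * (Q m - 1) := Nat.gcd_dvd_right _ _
  have hcop' : Nat.Coprime e ((Q m + 1) / 4) :=
    Nat.Coprime.coprime_dvd_left he2 hcop.symm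
  have he4 : e ∣ 4 := by
    rw [← h4t] at he1
    exact hcop'.dvd_of_dvd_mul_right he1
  have hmod : (Q m) ^ 3 * (Q m - 1) % 4 = 2 := by
    have h1 : Q m % 4 = 3 := by omega
    have h2 : (Q m - 1) % 4 = 2 := by omega
    rw [Nat.mul_mod, Nat.pow_mod, h1, h2]
  have hle : e ≤ 4 := Nat.le_of_dvd (by norm_num) he4
  interval_cases e
  · simp at he4
  · exact one_dvd 2
  · exact dvd_refl 2
  · norm_num at he4
  · exfalso
    have := Nat.mod_eq_zero_of_dvd he2
    omega

theorem nofix_of_sig (h : RH G Ω m) (D T V : Subgroup G) (hT : TorT m D T V) (g : G) (hg : IsSig D V g) :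
    fixN Ω g = 0 ∧ ¬ IsPi m g := by
  obtain ⟨c, hcD, hcV⟩ := hg
  have hord : orderOf (c * g * c⁻¹) = orderOf g := orderOf_conj' c g
  have hgg : (c * g * c⁻¹) * (c * g * c⁻¹) ≠ 1 := fun h1 => hcV (hT.mem_V _ hcD h1)
  have hdq : orderOf g ∣ Q m + 1 := by
    rw [← hord, ← hT.card_D]
    exact Subgroup.orderOf_dvd_natCard _ hcD
  have hn2 : ¬ orderOf g ∣ 2 := by
    intro h2
    apply hgg
    rw [← hord] at h2
    have := orderOf_dvd_iff_pow_eq_one.1 h2
    rwa [pow_two] at this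
  constructor
  · rw [fixN_eq_zero_iff h]
    intro y hy
    apply hn2
    have hmem : g ∈ stabilizer G y := hy
    have h1 := Subgroup.orderOf_dvd_natCard _ hmem
    rw [card_stabilizer h] at h1
    exact (Nat.dvd_gcd hdq h1).trans (gcd_dvd_two h.hm)
  · rintro ⟨_, hN⟩
    apply hn2
    have := Nat.eq_one_of_dvd_coprimes (coprime_N_succ h.hm) hN hdq
    rw [this]
    exact one_dvd 2

theorem coprime_N_two (hm : 1 ≤ m) : Nat.Coprime ((Q m) ^ 2 - Q m + 1) 2 := by
  obtain ⟨_, hq8, _, _, _, _, _, _, _, _, hcop, hfac, _, _⟩ := Helper10_RH_ARITH.arith m hm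
  apply Nat.Coprime.coprime_dvd_right _ hcop
  rw [hfac]
  have : 2 ∣ Q m - 1 := by omega
  exact Dvd.dvd.mul_left (Dvd.dvd.mul_right this _) _

/-- No element of order divisible by 4. -/
theorem not_four_dvd_orderOf (h : RH G Ω m) (g : G) : ¬ 4 ∣ orderOf g := by
  intro h4
  have hg0 : orderOf g ≠ 0 := (orderOf_pos g).ne'
  have hu : orderOf (g ^ (orderOf g / 4)) = 4 := orderOf_pow_orderOf_div hg0 h4
  have hp : IsPGroup 2 ↥(zpowers (g ^ (orderOf g / 4))) := by
    apply IsPGroup.of_card (n := 2)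
    rw [Nat.card_zpowers, hu]
    norm_num
  have : Fact (Nat.Prime 2) := ⟨Nat.prime_two⟩
  obtain ⟨S, hS⟩ := hp.exists_le_sylow
  obtain ⟨_, hsq, _, _⟩ := h.syl2 S
  have := hsq _ (hS (mem_zpowers _))
  have h2 : orderOf (g ^ (orderOf g / 4)) ∣ 2 :=
    orderOf_dvd_of_pow_eq_one (by rw [pow_two]; exact this)
  rw [hu] at h2
  norm_num at h2

theorem nofix_cases (h : RH G Ω m) (D T V : Subgroup G) (hT : TorT m D T V) (g : G) (hg : fixN Ω g = 0) :
    IsPi m g ∨ IsSig D V g := by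
  have hfix := (fixN_eq_zero_iff h g).1 hg
  have hg1 : g ≠ 1 := by
    rintro rfl
    obtain ⟨o, _⟩ := h.unip
    exact hfix o (one_smul _ _)
  have hg0 : orderOf g ≠ 0 := (orderOf_pos g).ne'
  have h3 : ¬ 3 ∣ orderOf g := by
    intro h3
    obtain ⟨y, hy, _⟩ := Helper86_RH_SYL3.fix_of_three_dvd h g h3
    exact hfix y hy
  have hminus : ∀ s : ℕ, s.Prime → s ≠ 2 → s ∣ Q m - 1 → ¬ s ∣ orderOf g := by
    intro s hs hs2 hsq hsg
    have hg's : orderOf (g ^ (orderOf g / s)) = s := orderOf_pow_orderOf_div hg0 hsg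
    have hs3 : 2 < orderOf (g ^ (orderOf g / s)) := by
      rw [hg's]
      have := hs.two_le
      omega
    obtain ⟨y, z, hyz, hy, hz⟩ :=
      Helper91_RH_INH.mem_stab2_of_order h (g ^ (orderOf g / s)) (by rw [hg's]; exact hsq) hs3
    have hgg : g ^ (orderOf g / s) * g ^ (orderOf g / s) ≠ 1 := by
      intro h1
      have : orderOf (g ^ (orderOf g / s)) ∣ 2 :=
        orderOf_dvd_of_pow_eq_one (by rw [pow_two]; exact h1)
      have := Nat.le_of_dvd (by norm_num) this
      omega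
    have hcent := Helper60_RH_CENTH.cent_of_stab2 h y z hyz _ hy hz hgg
    have hmem : g ∈ centralizer ({g ^ (orderOf g / s)} : Set G) := by
      rw [Subgroup.mem_centralizer_iff]
      intro w hw
      rw [Set.mem_singleton_iff] at hw
      subst hw
      exact ((Commute.refl g).pow_left _).eq
    rw [hcent] at hmem
    exact hfix y (Subgroup.mem_inf.1 hmem).1
  by_cases hplus : ∃ s : ℕ, s.Prime ∧ s ≠ 2 ∧ s ∣ Q m + 1 ∧ s ∣ orderOf g
  · right
    obtain ⟨s, hs, hs2, hsq, hsg⟩ := hplus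
    have hg's : orderOf (g ^ (orderOf g / s)) = s := orderOf_pow_orderOf_div hg0 hsg
    have hg'1 : g ^ (orderOf g / s) ≠ 1 := by
      intro h1
      rw [h1, orderOf_one] at hg's
      exact hs.one_lt.ne hg's
    obtain ⟨_, _, hs4, _⟩ := (Helper10_RH_ARITH.arith_primes m h.hm s hs).2.2.1 hs2 hsq
    obtain ⟨c, hc⟩ := Helper91_RH_SIGCONJ.sig_conj h D T V hT (g ^ (orderOf g / s)) hg'1 (by
      intro p hp hpd
      rw [hg's] at hpd
      have : p = s := (Nat.prime_dvd_prime_iff_eq hp hs).1 hpd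
      rw [this]
      exact hs4)
    have hc1 : c * g ^ (orderOf g / s) * c⁻¹ ≠ 1 := by
      intro h1
      apply hg'1
      have : g ^ (orderOf g / s) = c⁻¹ * (c * g ^ (orderOf g / s) * c⁻¹) * c := by group
      rw [this, h1]
      group
    have hcent := hT.cent _ hc hc1
    refine ⟨c, ?_, ?_⟩
    · rw [← hcent, Subgroup.mem_centralizer_iff]
      intro w hw
      rw [Set.mem_singleton_iff] at hw
      subst hw
      have hcomm : g ^ (orderOf g / s) * g = g * g ^ (orderOf g / s) :=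
        ((Commute.refl g).pow_left _).eq
      have e1 : c * g ^ (orderOf g / s) * c⁻¹ * (c * g * c⁻¹) =
          c * (g ^ (orderOf g / s) * g) * c⁻¹ := by group
      have e2 : c * g * c⁻¹ * (c * g ^ (orderOf g / s) * c⁻¹) =
          c * (g * g ^ (orderOf g / s)) * c⁻¹ := by group
      rw [e1, e2, hcomm]
    · intro hV
      have h1 := hT.V_sq _ hV
      have h2 : orderOf (c * g * c⁻¹) ∣ 2 :=
        orderOf_dvd_of_pow_eq_one (by rw [pow_two]; exact h1)
      rw [orderOf_conj'] at h2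
      exact hs2 ((Nat.prime_dvd_prime_iff_eq hs Nat.prime_two).1 (hsg.trans h2))
  · left
    refine ⟨hg1, ?_⟩
    obtain ⟨_, _, _, _, _, _, _, _, _, hq3, hcop, hfac, _, _⟩ := Helper10_RH_ARITH.arith m h.hm
    have hprimes : ∀ s : ℕ, s.Prime → s ∣ orderOf g → s = 2 ∨ s ∣ (Q m) ^ 2 - Q m + 1 := by
      intro s hs hsg
      have hsG : s ∣ (Q m) ^ 3 * (Q m - 1) * ((Q m) ^ 3 + 1) := by
        rw [← h.card_G]
        exact hsg.trans (orderOf_dvd_natCard g)
      by_cases hsq : s ∣ Q m * ((Q m) ^ 2 - 1)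
      · rcases (Helper10_RH_ARITH.arith_primes m h.hm s hs).1 hsq with h2 | h3' | ⟨hs2, hsm⟩ | ⟨hs2, hsp⟩
        · left
          exact h2
        · exfalso
          rw [h3'] at hsg
          exact h3 hsg
        · exfalso
          exact hminus s hs hs2 hsm hsg
        · exfalso
          exact hplus ⟨s, hs, hs2, hsp, hsg⟩
      · right
        exact (Helper10_RH_ARITH.arith_primes m h.hm s hs).2.2.2.2 hsG hsq
    have hG : Nat.card G = ((Q m) ^ 2 - Q m + 1) * ((Q m) ^ 3 * (Q m - 1) * (Q m + 1)) := by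
      rw [h.card_G, hq3]
      ring
    have hNM : Nat.Coprime ((Q m) ^ 2 - Q m + 1) ((Q m) ^ 3 * (Q m - 1) * (Q m + 1)) :=
      Nat.Coprime.mul_right (coprime_N_stab h.hm) (coprime_N_succ h.hm)
    -- odd divisors of the order divide N
    have hodd : ∀ n : ℕ, n ∣ orderOf g → ¬ 2 ∣ n → n ∣ (Q m) ^ 2 - Q m + 1 := by
      intro n hn hn2
      have hd : n ∣ ((Q m) ^ 2 - Q m + 1) * ((Q m) ^ 3 * (Q m - 1) * (Q m + 1)) := by
        rw [← hG]
        exact hn.trans (orderOf_dvd_natCard g)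
      by_cases hgM : Nat.gcd n ((Q m) ^ 3 * (Q m - 1) * (Q m + 1)) = 1
      · exact (Nat.Coprime.dvd_mul_right hgM).1 hd
      · exfalso
        obtain ⟨s, hs, hsdvd⟩ := Nat.exists_prime_and_dvd hgM
        have hsn : s ∣ n := hsdvd.trans (Nat.gcd_dvd_left _ _)
        have hsM : s ∣ (Q m) ^ 3 * (Q m - 1) * (Q m + 1) := hsdvd.trans (Nat.gcd_dvd_right _ _)
        rcases hprimes s hs (hsn.trans hn) with h2 | hsN
        · rw [h2] at hsn
          exact hn2 hsn
        · have := Nat.eq_one_of_dvd_coprimes hNM hsN hsM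
          exact hs.one_lt.ne' this
    by_cases h2 : 2 ∣ orderOf g
    · exfalso
      obtain ⟨d', hd'⟩ := h2
      have hd'2 : ¬ 2 ∣ d' := by
        rintro ⟨e, he⟩
        apply not_four_dvd_orderOf h g
        rw [hd', he]
        exact ⟨e, by ring⟩
      have hd'N := hodd d' ⟨2, by rw [hd']; ring⟩ hd'2
      by_cases hd'1 : d' = 1
      · -- involution
        rw [hd'1] at hd'
        have := (Helper31_RH_FIXINV.invol_fix h g g hd' hd').2
        omega
      · -- x = g ^ 2 is a non-trivial π-element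
        have hx1 : g ^ 2 ≠ 1 := by
          intro h1
          have := orderOf_dvd_of_pow_eq_one h1
          rw [hd'] at this
          have hpos : 0 < d' := by
            rcases Nat.eq_zero_or_pos d' with h0 | h0
            · rw [h0] at hd'; exact absurd hd' hg0
            · exact h0
          have := Nat.le_of_dvd (by norm_num) this
          omega
        have hxN : orderOf (g ^ 2) ∣ (Q m) ^ 2 - Q m + 1 := by
          apply dvd_trans _ hd'N
          apply orderOf_dvd_of_pow_eq_one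
          rw [← pow_mul, ← hd']
          exact pow_orderOf_eq_one g
        have hmem : g ∈ centralizer ({g ^ 2} : Set G) := by
          rw [Subgroup.mem_centralizer_iff]
          intro w hw
          rw [Set.mem_singleton_iff] at hw
          subst hw
          exact ((Commute.refl g).pow_left _).eq
        have hpi := cent_pi h (g ^ 2) ⟨hx1, hxN⟩ g hmem hg1
        have h2N : 2 ∣ (Q m) ^ 2 - Q m + 1 := dvd_trans ⟨d', hd'⟩ hpi.2
        have := Nat.eq_one_of_dvd_coprimes (coprime_N_two h.hm) h2N (dvd_refl 2)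
        omega
    · exact hodd _ (dvd_refl _) h2

end Cfsg.Agent.Lib.Helper92_RH_NOFIX
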