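import Mathlib
import Cfsg.Agent.Lib.Helper37_RHDefs
import Cfsg.Agent.Lib.Helper26_RH_CARDPIaux
import Cfsg.Agent.Lib.Helper92_RH_NOFIX
import Cfsg.Agent.Lib.Helper3_RH_SIGCOUNT

/-!
# Helper26_RH_CARDPI: REEHALL package CARDPI (the census: the number of non-trivial `π`-elements)
-/

set_option autoImplicit false

namespace Cfsg.Agent.Lib.Helper26_RH_CARDPI

open MulAction Subgroup Cfsg.Agent.Lib.Helper37_RHDefs Cfsg.Agent.Lib

variable {G : Type*} [Group G] [Finite G] {Ω : Type*} [MulAction G Ω] {m : ℕ}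

/-- PK CARDPI.  The census: the number of non-trivial `π`-elements. -/
theorem card_pi (h : RH G Ω m) :
    3 * Nat.card {g : G // g ≠ 1 ∧ orderOf g ∣ (3 ^ (2 * m + 1)) ^ 2 - 3 ^ (2 * m + 1) + 1} =
      (3 ^ (2 * m + 1)) ^ 4 * (3 ^ (2 * m + 1) + 1) * (3 ^ (2 * m + 1) - 1) * (3 ^ (2 * m + 1) - 2) :=
  Helper26_RH_CARDPIaux.card_pi_of h
    (fun D T V hT g hg => Helper92_RH_NOFIX.nofix_cases h D T V hT g hg)
    (fun g hg => Helper92_RH_NOFIX.nofix_of_pi h g hg)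
    (fun D T V hT g hg => Helper92_RH_NOFIX.nofix_of_sig h D T V hT g hg)
    (fun D T V hT => Helper3_RH_SIGCOUNT.card_sig h D T V hT)

/-- PK CARDPI (second part): by-products of the census. -/
theorem card_fix_one (h : RH G Ω m) :
    Nat.card {g : G // fixN Ω g = 1} = ((Q m) ^ 3 + 1) * (2 * (Q m) ^ 3 - (Q m) ^ 2 - 1) ∧
      ∀ t : G, orderOf t = 2 → fixN Ω t = Q m + 1 :=
  Helper26_RH_CARDPIaux.card_fix_one h

end Cfsg.Agent.Lib.Helper26_RH_CARDPI
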