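import Mathlib
import Cfsg.Agent.Lib.Helper26_RHTorDefs
import Cfsg.Agent.Lib.Helper82_RH_TOR1

set_option autoImplicit false

open Cfsg.Agent.Lib.Helper26_RHTorDefs

/-!
# REEHALL market, wave 2 (architect helper26), package TOR4

Tori are Hall subgroups; two tori whose orders are not coprime are conjugate.
-/

namespace Cfsg.Agent.Lib.Helper82_RH_TOR4

open Cfsg.Agent.Lib.Helper82_RH_TOR1

open scoped Pointwise

/-- the cyclic group generated by an element of prime order `s` is an `s`-group -/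
theorem isPGroup_zpowers {G : Type*} [Group G] (s : ℕ) (y : G) (hy : orderOf y = s) :
    IsPGroup s ↥(Subgroup.zpowers y) := by
  apply IsPGroup.of_card (n := 1)
  rw [Nat.card_zpowers, hy, pow_one]

/-- two elements of a cyclic subgroup commute -/
theorem comm_of_isCyclic {G : Type*} [Group G] (P : Subgroup G) (hcyc : IsCyclic ↥P) {g y : G}
    (hg : g ∈ P) (hy : y ∈ P) : g * y = y * g := by
  obtain ⟨z, hz⟩ := hcyc.exists_generator
  obtain ⟨a, ha⟩ := Subgroup.mem_zpowers_iff.mp (hz ⟨g, hg⟩)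
  obtain ⟨b, hb⟩ := Subgroup.mem_zpowers_iff.mp (hz ⟨y, hy⟩)
  have h : (⟨g, hg⟩ : ↥P) * ⟨y, hy⟩ = ⟨y, hy⟩ * ⟨g, hg⟩ := by
    rw [← ha, ← hb, ← zpow_add, ← zpow_add, add_comm]
  exact congrArg Subtype.val h

/-- a torus of order divisible by the prime `s` contains an element `y` of order `s`, and every Sylow
`s`-subgroup through `y` lies in the torus -/
theorem exists_elt_sylow_le {G : Type*} [Group G] [Finite G] {N M : ℕ} (H : TorHyp G N M)
    {C : Subgroup G} (hC : IsTorus N C) (s : ℕ) [Fact s.Prime] (hs : s ∣ Nat.card ↥C) :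
    ∃ y : G, y ∈ C ∧ orderOf y = s ∧ y ≠ 1 ∧ ∀ P : Sylow s G, y ∈ P → (P : Subgroup G) ≤ C := by
  obtain ⟨y, hy⟩ := exists_prime_orderOf_dvd_card' (G := ↥C) s hs
  have hyo : orderOf (y : G) = s := by
    rw [Subgroup.orderOf_coe]
    exact hy
  have hy1 : (y : G) ≠ 1 := by
    intro h
    rw [h, orderOf_one] at hyo
    exact (Fact.out : s.Prime).one_lt.ne hyo
  have hsN : s ∣ N := hs.trans (card_dvd H hC)
  refine ⟨y, y.2, hyo, hy1, fun P hyP => ?_⟩
  have hcyc : IsCyclic ↥(P : Subgroup G) := H.syl s hsN P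
  intro g hg
  rw [← centralizer_eq H hC y.2 hy1, Subgroup.mem_centralizer_singleton_iff]
  exact comm_of_isCyclic (P : Subgroup G) hcyc hg hyP

/-- A torus contains a full Sylow `s`-subgroup of `G` for every prime `s` dividing its order. -/
theorem sylow_le {G : Type*} [Group G] [Finite G] {N M : ℕ} (H : TorHyp G N M)
    {C : Subgroup G} (hC : IsTorus N C) (s : ℕ) [Fact s.Prime] (hs : s ∣ Nat.card ↥C) :
    ∃ P : Sylow s G, (P : Subgroup G) ≤ C := by
  obtain ⟨y, _, hyo, _, hyP⟩ := exists_elt_sylow_le H hC s hs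
  obtain ⟨P, hP⟩ := (isPGroup_zpowers s y hyo).exists_le_sylow
  exact ⟨P, hyP P (hP (Subgroup.mem_zpowers y))⟩

/-- Two tori whose orders are not coprime are conjugate. -/
theorem conj_of_not_coprime {G : Type*} [Group G] [Finite G] {N M : ℕ} (H : TorHyp G N M)
    {C C' : Subgroup G} (hC : IsTorus N C) (hC' : IsTorus N C')
    (h : ¬ Nat.Coprime (Nat.card ↥C) (Nat.card ↥C')) :
    ∃ g : G, C' = C.map (MulAut.conj g).toMonoidHom := by
  obtain ⟨s, hs, hsC, hsC'⟩ := Nat.Prime.not_coprime_iff_dvd.mp h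
  have : Fact s.Prime := ⟨hs⟩
  obtain ⟨y, hyC, hyo, hy1, hyP⟩ := exists_elt_sylow_le H hC s hsC
  obtain ⟨y', hyC', hyo', hy1', hyP'⟩ := exists_elt_sylow_le H hC' s hsC'
  obtain ⟨P, hP⟩ := (isPGroup_zpowers s y hyo).exists_le_sylow
  obtain ⟨P', hP'⟩ := (isPGroup_zpowers s y' hyo').exists_le_sylow
  obtain ⟨g, hg⟩ := MulAction.exists_smul_eq G P P'
  refine ⟨g, ?_⟩
  have hmem : g * y * g⁻¹ ∈ (P' : Subgroup G) := by
    have h1 : MulAut.conj g • y ∈ MulAut.conj g • (P : Subgroup G) :=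
      Subgroup.smul_mem_pointwise_smul _ _ _ (hP (Subgroup.mem_zpowers y))
    rw [MulAut.smul_def, MulAut.conj_apply, ← Sylow.pointwise_smul_def, ← Sylow.smul_def, hg] at h1
    exact h1
  have hmemC' : g * y * g⁻¹ ∈ C' := hyP' P' (hP' (Subgroup.mem_zpowers y')) hmem
  have hmemC : g * y * g⁻¹ ∈ C.map (MulAut.conj g).toMonoidHom := ⟨y, hyC, rfl⟩
  have hne : g * y * g⁻¹ ≠ 1 := by
    intro h0
    apply hy1
    have e : y = g⁻¹ * (g * y * g⁻¹) * g := by group
    rw [e, h0]
    group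
  exact (eq_of_mem_of_mem H (isTorus_map_conj hC g) hC' hmemC hmemC' hne).symm

/-- Tori are Hall subgroups: `N.factorization s = (card C).factorization s` for `s ∣ card C`. -/
theorem factorization_eq {G : Type*} [Group G] [Finite G] {N M : ℕ} (H : TorHyp G N M)
    {C : Subgroup G} (hC : IsTorus N C) (s : ℕ) (hs : s.Prime) (hsC : s ∣ Nat.card ↥C) :
    (Nat.card ↥C).factorization s = N.factorization s := by
  have : Fact s.Prime := ⟨hs⟩
  have hdvd := card_dvd H hC
  have hG0 : Nat.card G ≠ 0 := Nat.card_pos.ne'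
  have hN0 : N ≠ 0 := by
    intro h0
    rw [H.card, h0, zero_mul] at hG0
    exact hG0 rfl
  have hM0 : M ≠ 0 := by
    intro h0
    rw [H.card, h0, mul_zero] at hG0
    exact hG0 rfl
  have hC0 : Nat.card ↥C ≠ 0 := Nat.card_pos.ne'
  apply le_antisymm
  · exact (Nat.factorization_le_iff_dvd hC0 hN0).mpr hdvd s
  · obtain ⟨P, hP⟩ := sylow_le H hC s hsC
    have h1 : Nat.card ↥(P : Subgroup G) ∣ Nat.card ↥C := Subgroup.card_dvd_of_le hP
    rw [P.card_eq_multiplicity, H.card, Nat.factorization_mul hN0 hM0, Finsupp.add_apply] at h1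
    have h2 : s ^ (N.factorization s) ∣ Nat.card ↥C :=
      (pow_dvd_pow s (Nat.le_add_right _ _)).trans h1
    exact (hs.pow_dvd_iff_le_factorization hC0).mp h2

end Cfsg.Agent.Lib.Helper82_RH_TOR4
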