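import Mathlib
import Cfsg.Agent.Lib.Helper26_RHTorDefs
import Cfsg.Agent.Lib.Helper82_RH_TOR1
import Cfsg.Agent.Lib.Helper82_RH_TOR4

set_option autoImplicit false

/-!
# REEHALL package TOR6A (architect helper26): the product of the distinct orders of tori is `N`.
-/

open Cfsg.Agent.Lib.Helper26_RHTorDefs

namespace Cfsg.Agent.Lib.Helper50_RH_TOR6A

/-- The product of the distinct orders of tori is `N`. -/
theorem prod_orders {G : Type*} [Group G] [Finite G] {N M : ℕ} (H : TorHyp G N M)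
    (s : Finset ℕ) (hs : ∀ i, i ∈ s ↔ ∃ C : Subgroup G, IsTorus N C ∧ Nat.card ↥C = i) :
    ∏ i ∈ s, i = N := by
  classical
  have hN0 : N ≠ 0 := by
    intro h
    have h1 := H.card
    rw [h, zero_mul] at h1
    exact (Nat.card_pos (α := G)).ne' h1
  have hs0 : ∀ i ∈ s, i ≠ 0 := by
    intro i hi
    obtain ⟨C, -, rfl⟩ := (hs i).mp hi
    exact (Nat.card_pos (α := ↥C)).ne'
  have hsN : ∀ i ∈ s, i ∣ N := by
    intro i hi
    obtain ⟨C, hC, rfl⟩ := (hs i).mp hi
    exact Cfsg.Agent.Lib.Helper82_RH_TOR1.card_dvd H hC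
  have hprod0 : ∏ i ∈ s, i ≠ 0 := Finset.prod_ne_zero_iff.mpr hs0
  apply Nat.eq_of_factorization_eq hprod0 hN0
  intro p
  rw [Nat.factorization_prod hs0, Finsupp.finsetSum_apply]
  by_cases hp : p.Prime
  swap
  · rw [Nat.factorization_eq_zero_of_not_prime N hp]
    exact Finset.sum_eq_zero fun i _ => Nat.factorization_eq_zero_of_not_prime i hp
  by_cases hpN : p ∣ N
  swap
  · rw [Nat.factorization_eq_zero_of_not_dvd hpN]
    apply Finset.sum_eq_zero
    intro i hi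
    exact Nat.factorization_eq_zero_of_not_dvd fun h => hpN (h.trans (hsN i hi))
  -- an element of order `p`
  have hfact : Fact p.Prime := ⟨hp⟩
  have hpG : p ∣ Nat.card G := by rw [H.card]; exact hpN.mul_right M
  obtain ⟨x, hx⟩ := exists_prime_orderOf_dvd_card' p hpG
  set C₀ : Subgroup G := Subgroup.centralizer ({x} : Set G) with hC₀def
  have hC₀ : IsTorus N C₀ := ⟨p, x, hp, hpN, hx, rfl⟩
  have hxmem : x ∈ C₀ := Subgroup.mem_centralizer_singleton_iff.mpr rfl
  have hpC₀ : p ∣ Nat.card ↥C₀ := by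
    have h1 : orderOf (⟨x, hxmem⟩ : ↥C₀) ∣ Nat.card ↥C₀ := orderOf_dvd_natCard _
    rwa [Subgroup.orderOf_mk, hx] at h1
  have hi₀ : Nat.card ↥C₀ ∈ s := (hs _).mpr ⟨C₀, hC₀, rfl⟩
  rw [Finset.sum_eq_single_of_mem (Nat.card ↥C₀) hi₀]
  · exact Cfsg.Agent.Lib.Helper82_RH_TOR4.factorization_eq H hC₀ p hp hpC₀
  · intro i hi hne
    apply Nat.factorization_eq_zero_of_not_dvd
    intro hpi
    apply hne
    obtain ⟨C, hC, rfl⟩ := (hs i).mp hi
    have hnc : ¬ Nat.Coprime (Nat.card ↥C₀) (Nat.card ↥C) := by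
      intro hcop
      have := Nat.eq_one_of_dvd_coprimes hcop hpC₀ hpi
      exact hp.one_lt.ne' this
    obtain ⟨g, rfl⟩ := Cfsg.Agent.Lib.Helper82_RH_TOR4.conj_of_not_coprime H hC₀ hC hnc
    exact (Nat.card_congr (C₀.equivMapOfInjective _ (MulAut.conj g).injective).toEquiv).symm

end Cfsg.Agent.Lib.Helper50_RH_TOR6A
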