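import Mathlib
import Cfsg.Agent.Lib.Helper26_RHTorDefs
import Cfsg.Agent.Lib.Helper82_RH_TOR1
import Cfsg.Agent.Lib.Helper82_RH_TOR4

set_option autoImplicit false

/-!
# REEHALL package TOR6B (architect helper26): the number of tori of the same order as `C` is `|G : N(C)|`.
-/

open Cfsg.Agent.Lib.Helper26_RHTorDefs

namespace Cfsg.Agent.Lib.Helper50_RH_TOR6B

/-- `C` is fixed by conjugation with `n` iff `n` normalises `C`. -/
theorem map_conj_eq_self_iff {G : Type*} [Group G] (C : Subgroup G) (n : G) :
    C.map (MulAut.conj n).toMonoidHom = C ↔ n ∈ Subgroup.normalizer (C : Set G) := by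
  rw [Subgroup.mem_normalizer_iff]
  constructor
  · intro h x
    constructor
    · intro hx
      rw [← h]
      exact ⟨x, hx, by simp [MulAut.conj_apply]⟩
    · intro hx
      rw [← h] at hx
      obtain ⟨c, hc, hc2⟩ := hx
      have : c = x := by
        have h2 : n * c * n⁻¹ = n * x * n⁻¹ := by simpa [MulAut.conj_apply] using hc2
        exact mul_left_cancel (mul_right_cancel h2)
      rw [← this]
      exact hc
  · intro h
    ext x
    constructor
    · rintro ⟨c, hc, rfl⟩
      have := (h c).mp hc
      simpa [MulAut.conj_apply] using this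
    · intro hx
      refine ⟨n⁻¹ * x * n, ?_, by simp [MulAut.conj_apply, mul_assoc]⟩
      show n⁻¹ * x * n ∈ C
      rw [h]
      simpa [mul_assoc] using hx

/-- Conjugates by `g` and `g'` agree iff `g⁻¹ g'` normalises `C`. -/
theorem map_conj_eq_iff {G : Type*} [Group G] (C : Subgroup G) (g g' : G) :
    C.map (MulAut.conj g).toMonoidHom = C.map (MulAut.conj g').toMonoidHom ↔
      g⁻¹ * g' ∈ Subgroup.normalizer (C : Set G) := by
  rw [← map_conj_eq_self_iff]
  have h1 : C.map (MulAut.conj g').toMonoidHom =
      (C.map (MulAut.conj (g⁻¹ * g')).toMonoidHom).map (MulAut.conj g).toMonoidHom := by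
    rw [Subgroup.map_map]
    congr 1
    ext x
    simp [MulAut.conj_apply, mul_assoc]
  rw [h1]
  have hinj : Function.Injective (Subgroup.map (MulAut.conj g).toMonoidHom) :=
    Subgroup.map_injective (MulAut.conj g).injective
  constructor
  · intro h
    exact (hinj h).symm
  · intro h
    rw [h]

/-- The number of tori of the same order as `C` is `|G : N(C)|`. -/
theorem card_tori_of_order {G : Type*} [Group G] [Finite G] {N M : ℕ} (H : TorHyp G N M)
    {C : Subgroup G} (hC : IsTorus N C) :
    Nat.card {C' : Subgroup G // IsTorus N C' ∧ Nat.card ↥C' = Nat.card ↥C} *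
      Nat.card ↥(Subgroup.normalizer (C : Set G)) = Nat.card G := by
  classical
  set NC : Subgroup G := Subgroup.normalizer (C : Set G) with hNC
  -- card of a conjugate
  have hcard : ∀ g : G, Nat.card ↥(C.map (MulAut.conj g).toMonoidHom) = Nat.card ↥C := by
    intro g
    exact (Nat.card_congr (C.equivMapOfInjective _ (MulAut.conj g).injective).toEquiv).symm
  -- `1 < card C`
  have hC1 : 1 < Nat.card ↥C := by
    obtain ⟨p, x, hp, -, hx, rfl⟩ := hC
    have hxmem : x ∈ Subgroup.centralizer ({x} : Set G) :=
      Subgroup.mem_centralizer_singleton_iff.mpr rfl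
    have hx1 : x ≠ 1 := by
      intro h
      rw [h, orderOf_one] at hx
      exact hp.one_lt.ne hx
    rw [Finite.one_lt_card_iff_nontrivial]
    exact ⟨⟨⟨x, hxmem⟩, 1, fun h => hx1 (congrArg Subtype.val h)⟩⟩
  -- the map from cosets
  let T := {C' : Subgroup G // IsTorus N C' ∧ Nat.card ↥C' = Nat.card ↥C}
  let f : G ⧸ NC → T := fun q =>
    Quotient.liftOn' q (fun g => (⟨C.map (MulAut.conj g).toMonoidHom,
      Cfsg.Agent.Lib.Helper82_RH_TOR1.isTorus_map_conj hC g, hcard g⟩ : T)) (by
        intro a b hab
        apply Subtype.ext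
        show C.map (MulAut.conj a).toMonoidHom = C.map (MulAut.conj b).toMonoidHom
        rw [map_conj_eq_iff]
        exact QuotientGroup.leftRel_apply.mp hab)
  have hf : Function.Bijective f := by
    constructor
    · intro q q'
      induction q using Quotient.inductionOn' with | _ a => ?_
      induction q' using Quotient.inductionOn' with | _ b => ?_
      intro h
      have h2 : C.map (MulAut.conj a).toMonoidHom = C.map (MulAut.conj b).toMonoidHom :=
        congrArg Subtype.val h
      rw [map_conj_eq_iff] at h2
      exact Quotient.sound' (QuotientGroup.leftRel_apply.mpr h2)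
    · rintro ⟨C', hC', hcard'⟩
      have hnc : ¬ Nat.Coprime (Nat.card ↥C) (Nat.card ↥C') := by
        rw [hcard', Nat.coprime_self]
        exact hC1.ne'
      obtain ⟨g, hg⟩ := Cfsg.Agent.Lib.Helper82_RH_TOR4.conj_of_not_coprime H hC hC' hnc
      refine ⟨QuotientGroup.mk g, ?_⟩
      apply Subtype.ext
      exact hg.symm
  have h1 : Nat.card T = NC.index := by
    rw [Subgroup.index, ← Nat.card_congr (Equiv.ofBijective f hf)]
  rw [h1]
  exact Subgroup.index_mul_card NC

end Cfsg.Agent.Lib.Helper50_RH_TOR6B
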