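import Mathlib
import Cfsg.Agent.Lib.Helper26_RHTorDefs
import Cfsg.Agent.Lib.Helper20_RH_TOR3
import Cfsg.Agent.Lib.Helper20_RH_TOR5
import Cfsg.Agent.Lib.Helper50_RH_TOR6A
import Cfsg.Agent.Lib.Helper50_RH_TOR6B

/-!
# Helper26_RH_TOR6: REEHALL package TOR6 (class data of the tori in the shape of `RH_DIOPH.dioph`)
-/

set_option autoImplicit false

open Cfsg.Agent.Lib.Helper26_RHTorDefs

namespace Cfsg.Agent.Lib.Helper26_RH_TOR6

open Cfsg.Agent.Lib

theorem one_lt_card_torus {G : Type*} [Group G] [Finite G] {N : ℕ} {C : Subgroup G}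
    (hC : IsTorus N C) : 1 < Nat.card ↥C := by
  obtain ⟨p, x, hp, -, hx, rfl⟩ := hC
  rw [Subgroup.one_lt_card_iff_ne_bot]
  intro hbot
  have hxm : x ∈ Subgroup.centralizer ({x} : Set G) := by
    rw [Subgroup.mem_centralizer_iff]
    intro y hy
    rw [Set.mem_singleton_iff] at hy
    rw [hy]
  rw [hbot, Subgroup.mem_bot] at hxm
  rw [hxm, orderOf_one] at hx
  exact hp.one_lt.ne hx

/-- The class data of the tori, in the shape of `RH_DIOPH.dioph` (with `c i = i`). -/
theorem class_data {G : Type*} [Group G] [Finite G] {N M : ℕ} (H : TorHyp G N M) :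
    ∃ (s : Finset ℕ) (n k : ℕ → ℕ), (∀ i ∈ s, 1 < i) ∧ ∏ i ∈ s, i = N ∧ (∀ i ∈ s, n i ∣ 6) ∧
      (∀ i ∈ s, k i * (n i * i) = Nat.card G) ∧
      ∑ i ∈ s, (i - 1) * k i = Nat.card {g : G // g ≠ 1 ∧ orderOf g ∣ N} ∧
      (∀ i ∈ s, ∃ C : Subgroup G, IsTorus N C ∧ Nat.card ↥C = i ∧
        Nat.card ↥(Subgroup.normalizer (C : Set G)) = n i * i) ∧
      (∀ C : Subgroup G, IsTorus N C → Nat.card ↥C ∈ s) := by
  classical
  have hfin : {C : Subgroup G | IsTorus N C}.Finite := Set.toFinite _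
  set T : Finset (Subgroup G) := hfin.toFinset with hT
  have hTmem : ∀ C, C ∈ T ↔ IsTorus N C := by
    intro C
    rw [hT, Set.Finite.mem_toFinset]
    exact Iff.rfl
  set s : Finset ℕ := T.image (fun C : Subgroup G => Nat.card ↥C) with hs
  have hsmem : ∀ i, i ∈ s ↔ ∃ C : Subgroup G, IsTorus N C ∧ Nat.card ↥C = i := by
    intro i
    rw [hs, Finset.mem_image]
    constructor
    · rintro ⟨C, hC, rfl⟩
      exact ⟨C, (hTmem C).mp hC, rfl⟩
    · rintro ⟨C, hC, rfl⟩
      exact ⟨C, (hTmem C).mpr hC, rfl⟩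
  -- representatives
  let rep : ℕ → Subgroup G := fun i =>
    if h : ∃ C : Subgroup G, IsTorus N C ∧ Nat.card ↥C = i then Classical.choose h else ⊥
  have hrep : ∀ i ∈ s, IsTorus N (rep i) ∧ Nat.card ↥(rep i) = i := by
    intro i hi
    have h := (hsmem i).mp hi
    have : rep i = Classical.choose h := dif_pos h
    rw [this]
    exact Classical.choose_spec h
  refine ⟨s, fun i => Nat.card ↥(Subgroup.normalizer (rep i : Set G)) / i,
    fun i => Nat.card {C' : Subgroup G // IsTorus N C' ∧ Nat.card ↥C' = i}, ?_, ?_, ?_, ?_, ?_, ?_, ?_⟩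
  · intro i hi
    obtain ⟨hC, hcard⟩ := hrep i hi
    rw [← hcard]
    exact one_lt_card_torus hC
  · exact Helper50_RH_TOR6A.prod_orders H s hsmem
  · intro i hi
    obtain ⟨hC, hcard⟩ := hrep i hi
    have h6 := Helper20_RH_TOR3.card_normalizer_dvd H hC
    have hle : Nat.card ↥(rep i) ∣ Nat.card ↥(Subgroup.normalizer (rep i : Set G)) :=
      Subgroup.card_dvd_of_le Subgroup.le_normalizer
    rw [hcard] at h6 hle
    obtain ⟨c, hc⟩ := hle
    have hi0 : 0 < i := by
      have := one_lt_card_torus hC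
      omega
    show Nat.card ↥(Subgroup.normalizer (rep i : Set G)) / i ∣ 6
    rw [hc, Nat.mul_div_cancel_left _ hi0]
    rw [hc, mul_comm 6 i] at h6
    exact Nat.dvd_of_mul_dvd_mul_left hi0 h6
  · intro i hi
    obtain ⟨hC, hcard⟩ := hrep i hi
    have hle : Nat.card ↥(rep i) ∣ Nat.card ↥(Subgroup.normalizer (rep i : Set G)) :=
      Subgroup.card_dvd_of_le Subgroup.le_normalizer
    rw [hcard] at hle
    have h6B := Helper50_RH_TOR6B.card_tori_of_order H hC
    rw [hcard] at h6B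
    show Nat.card {C' : Subgroup G // IsTorus N C' ∧ Nat.card ↥C' = i} *
      (Nat.card ↥(Subgroup.normalizer (rep i : Set G)) / i * i) = Nat.card G
    rw [Nat.div_mul_cancel hle]
    exact h6B
  · rw [Helper20_RH_TOR5.card_pi_elements H]
    have h1 : (∑ᶠ (C : Subgroup G) (_ : IsTorus N C), (Nat.card ↥C - 1)) =
        ∑ C ∈ T, (Nat.card ↥C - 1) :=
      finsum_mem_eq_finite_toFinset_sum (fun C : Subgroup G => Nat.card ↥C - 1) hfin
    rw [h1]
    rw [← Finset.sum_fiberwise_of_maps_to (s := T) (t := s) (g := fun C : Subgroup G => Nat.card ↥C)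
      (fun C hC => Finset.mem_image_of_mem _ hC)]
    apply Finset.sum_congr rfl
    intro i hi
    have : ∀ C ∈ T.filter (fun C : Subgroup G => Nat.card ↥C = i), (Nat.card ↥C - 1) = i - 1 := by
      intro C hC
      rw [Finset.mem_filter] at hC
      rw [hC.2]
    rw [Finset.sum_congr rfl this, Finset.sum_const, smul_eq_mul, mul_comm]
    congr 1
    show Nat.card ↥{C' : Subgroup G | IsTorus N C' ∧ Nat.card ↥C' = i} = _
    rw [Nat.card_coe_set_eq, ← Set.ncard_coe_finset]
    congr 1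
    ext C
    simp only [Finset.coe_filter, Set.mem_ofPred_eq, hTmem]
  · intro i hi
    obtain ⟨hC, hcard⟩ := hrep i hi
    have hle : Nat.card ↥(rep i) ∣ Nat.card ↥(Subgroup.normalizer (rep i : Set G)) :=
      Subgroup.card_dvd_of_le Subgroup.le_normalizer
    rw [hcard] at hle
    refine ⟨rep i, hC, hcard, ?_⟩
    show _ = Nat.card ↥(Subgroup.normalizer (rep i : Set G)) / i * i
    rw [Nat.div_mul_cancel hle]
  · intro C hC
    exact (hsmem _).mpr ⟨C, hC, rfl⟩

end Cfsg.Agent.Lib.Helper26_RH_TOR6
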