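import Mathlib

set_option autoImplicit false

namespace Cfsg.Agent.Lib.Helper57_RH_DIOPH

/-- The order `G = P * N` and the census `T`, as polynomial identities in `t = q - 2`. -/
theorem G_eq (t : ℕ) : (t + 2) ^ 3 * ((t + 2) ^ 3 + 1) * (t + 1) =
    (t + 2) ^ 4 * (t + 3) * (t + 1) * t + (t + 2) ^ 3 * (t + 3) ^ 2 * (t + 1) := by
  ring

theorem term_ge (c n k G : ℕ) (hc : 7 ≤ c) (hn : n ≤ 6) (hk : k * (n * c) = G) :
    G ≤ 7 * ((c - 1) * k) := by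
  obtain ⟨d, rfl⟩ : ∃ d, c = d + 1 := ⟨c - 1, by omega⟩
  have h1 : n * (d + 1) ≤ 7 * d := by nlinarith
  have h2 := Nat.mul_le_mul_left k h1
  rw [← hk]
  have : d + 1 - 1 = d := by omega
  rw [this]
  nlinarith

theorem term_ge2 (c n k G : ℕ) (hc : 7 ≤ c) (hn : n ≤ 3) (hk : k * (n * c) = G) :
    2 * G ≤ 7 * ((c - 1) * k) := by
  obtain ⟨d, rfl⟩ : ∃ d, c = d + 1 := ⟨c - 1, by omega⟩
  have h1 : 2 * (n * (d + 1)) ≤ 7 * d := by nlinarith
  have h2 := Nat.mul_le_mul_left k h1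
  rw [← hk]
  have : d + 1 - 1 = d := by omega
  rw [this]
  nlinarith

theorem dvd_six_cases (n : ℕ) (h : n ∣ 6) : n = 1 ∨ n = 2 ∨ n = 3 ∨ n = 6 := by
  have hle : n ≤ 6 := Nat.le_of_dvd (by norm_num) h
  interval_cases n <;> simp_all

/-- abstract core, with `q = t + 2`, `r * r = 3 * q`. -/
theorem core {ι : Type*} [DecidableEq ι] (s : Finset ι) (c n k : ι → ℕ) (t r : ℕ)
    (ht : 25 ≤ t) (hr : r * r = 3 * (t + 2))
    (h2 : ¬ 2 ∣ t ^ 2 + 3 * t + 3) (h3 : ¬ 3 ∣ t ^ 2 + 3 * t + 3) (h5 : ¬ 5 ∣ t ^ 2 + 3 * t + 3)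
    (hc : ∀ i ∈ s, 1 < c i)
    (hprod : ∏ i ∈ s, c i = t ^ 2 + 3 * t + 3)
    (hn : ∀ i ∈ s, n i ∣ 6)
    (hk : ∀ i ∈ s, k i * (n i * c i) = (t + 2) ^ 3 * ((t + 2) ^ 3 + 1) * (t + 1))
    (hsum : 3 * ∑ i ∈ s, (c i - 1) * k i = (t + 2) ^ 4 * (t + 3) * (t + 1) * t) :
    ∃ i ∈ s, ∃ j ∈ s, i ≠ j ∧ s = {i, j} ∧ n i = 6 ∧ n j = 6 ∧
      c i + r = t + 3 ∧ c j = t + 3 + r := by
  set G := (t + 2) ^ 3 * ((t + 2) ^ 3 + 1) * (t + 1) with hG
  set T := (t + 2) ^ 4 * (t + 3) * (t + 1) * t with hT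
  have hGT : G = T + (t + 2) ^ 3 * (t + 3) ^ 2 * (t + 1) := G_eq t
  have hpos : 0 < (t + 2) ^ 3 * (t + 3) ^ 2 * (t + 1) := by positivity
  have hTG : T < G := by omega
  -- every c i is at least 7
  have hc7 : ∀ i ∈ s, 7 ≤ c i := by
    intro i hi
    have hdvd : c i ∣ t ^ 2 + 3 * t + 3 := hprod ▸ Finset.dvd_prod_of_mem c hi
    have h1 := hc i hi
    by_contra hlt
    have hcases : c i = 2 ∨ c i = 3 ∨ c i = 4 ∨ c i = 5 ∨ c i = 6 := by omega
    rcases hcases with h | h | h | h | h <;> rw [h] at hdvd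
    · exact h2 hdvd
    · exact h3 hdvd
    · exact h2 (dvd_trans (by norm_num) hdvd)
    · exact h5 hdvd
    · exact h2 (dvd_trans (by norm_num) hdvd)
  have hn6 : ∀ i ∈ s, n i ≤ 6 := fun i hi => Nat.le_of_dvd (by norm_num) (hn i hi)
  have hterm : ∀ i ∈ s, G ≤ 7 * ((c i - 1) * k i) := fun i hi =>
    term_ge (c i) (n i) (k i) G (hc7 i hi) (hn6 i hi) (hk i hi)
  -- at most two classes
  have hcard : s.card ≤ 2 := by
    by_contra hgt
    have h3c : 3 ≤ s.card := by omega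
    have hs : s.card * G ≤ 7 * ∑ i ∈ s, (c i - 1) * k i := by
      rw [Finset.mul_sum]
      calc s.card * G = ∑ _i ∈ s, G := by rw [Finset.sum_const, smul_eq_mul]
        _ ≤ ∑ i ∈ s, 7 * ((c i - 1) * k i) := Finset.sum_le_sum hterm
    have : 3 * G ≤ s.card * G := Nat.mul_le_mul_right G h3c
    omega
  have hN7 : 7 ≤ t ^ 2 + 3 * t + 3 := by nlinarith
  have hcard' : s.card = 0 ∨ s.card = 1 ∨ s.card = 2 := by omega
  rcases hcard' with h0 | h1 | h2'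
  · -- no class
    rw [Finset.card_eq_zero] at h0
    rw [h0, Finset.prod_empty] at hprod
    omega
  · -- one class
    exfalso
    obtain ⟨i, rfl⟩ := Finset.card_eq_one.mp h1
    rw [Finset.prod_singleton] at hprod
    rw [Finset.sum_singleton] at hsum
    have hki := hk i (Finset.mem_singleton_self i)
    have hni := dvd_six_cases (n i) (hn i (Finset.mem_singleton_self i))
    have hc1 : c i - 1 = t ^ 2 + 3 * t + 2 := by omega
    rw [hc1] at hsum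
    rw [hprod] at hki
    have hkiZ : (k i : ℤ) * ((n i : ℤ) * ((t : ℤ) ^ 2 + 3 * t + 3)) =
        ((t : ℤ) + 2) ^ 3 * (((t : ℤ) + 2) ^ 3 + 1) * (t + 1) := by exact_mod_cast hki
    have hsumZ : 3 * ((((t : ℤ) ^ 2 + 3 * t + 2)) * (k i : ℤ)) =
        ((t : ℤ) + 2) ^ 4 * (t + 3) * (t + 1) * t := by exact_mod_cast hsum
    have key : ((t : ℤ) + 2) ^ 4 * (t + 3) * (t + 1) * ((t : ℤ) ^ 2 + 3 * t + 3) *
        ((n i : ℤ) * t - 3 * (t + 1)) = 0 := by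
      linear_combination 3 * ((t : ℤ) ^ 2 + 3 * t + 2) * hkiZ -
        ((n i : ℤ) * ((t : ℤ) ^ 2 + 3 * t + 3)) * hsumZ
    have hne : ((t : ℤ) + 2) ^ 4 * (t + 3) * (t + 1) * ((t : ℤ) ^ 2 + 3 * t + 3) ≠ 0 := by
      positivity
    have h0 : (n i : ℤ) * t - 3 * (t + 1) = 0 := by
      rcases mul_eq_zero.mp key with h | h
      · exact absurd h hne
      · exact h
    have h0' : n i * t = 3 * (t + 1) := by
      have : (n i : ℤ) * t = 3 * (t + 1) := by linarith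
      exact_mod_cast this
    rcases hni with h | h | h | h <;> rw [h] at h0' <;> omega
  · -- two classes
    obtain ⟨i, j, hij, rfl⟩ := Finset.card_eq_two.mp h2'
    have hi : i ∈ ({i, j} : Finset ι) := by simp
    have hj : j ∈ ({i, j} : Finset ι) := by simp
    rw [Finset.prod_pair hij] at hprod
    rw [Finset.sum_pair hij] at hsum
    have hti := hterm i hi
    have htj := hterm j hj
    have hni6 : n i = 6 := by
      by_contra hne
      have hle : n i ≤ 3 := by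
        rcases dvd_six_cases (n i) (hn i hi) with h | h | h | h <;> omega
      have := term_ge2 (c i) (n i) (k i) G (hc7 i hi) hle (hk i hi)
      omega
    have hnj6 : n j = 6 := by
      by_contra hne
      have hle : n j ≤ 3 := by
        rcases dvd_six_cases (n j) (hn j hj) with h | h | h | h <;> omega
      have := term_ge2 (c j) (n j) (k j) G (hc7 j hj) hle (hk j hj)
      omega
    have hki := hk i hi
    have hkj := hk j hj
    rw [hni6] at hki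
    rw [hnj6] at hkj
    have hci7 := hc7 i hi
    have hcj7 := hc7 j hj
    -- integer versions
    have hNZ : (c i : ℤ) * (c j : ℤ) = (t : ℤ) ^ 2 + 3 * t + 3 := by exact_mod_cast hprod
    have hkiZ : (k i : ℤ) * (6 * (c i : ℤ)) =
        ((t : ℤ) + 2) ^ 3 * (((t : ℤ) + 2) ^ 3 + 1) * (t + 1) := by exact_mod_cast hki
    have hkjZ : (k j : ℤ) * (6 * (c j : ℤ)) =
        ((t : ℤ) + 2) ^ 3 * (((t : ℤ) + 2) ^ 3 + 1) * (t + 1) := by exact_mod_cast hkj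
    have hsumZ : 3 * (((c i : ℤ) - 1) * (k i : ℤ) + ((c j : ℤ) - 1) * (k j : ℤ)) =
        ((t : ℤ) + 2) ^ 4 * (t + 3) * (t + 1) * t := by
      have h1 : ((c i - 1 : ℕ) : ℤ) = (c i : ℤ) - 1 := by
        rw [Nat.cast_sub (by omega)]; simp
      have h2 : ((c j - 1 : ℕ) : ℤ) = (c j : ℤ) - 1 := by
        rw [Nat.cast_sub (by omega)]; simp
      rw [← h1, ← h2]
      exact_mod_cast hsum
    have key : 3 * (((t : ℤ) + 2) ^ 3 * (t + 3) * (t + 1)) * ((t : ℤ) ^ 2 + 3 * t + 3) *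
        (2 * (t : ℤ) + 6 - (c i : ℤ) - (c j : ℤ)) = 0 := by
      linear_combination (6 * (c i : ℤ) * (c j : ℤ)) * hsumZ
        - 3 * ((c i : ℤ) - 1) * (c j : ℤ) * hkiZ - 3 * ((c j : ℤ) - 1) * (c i : ℤ) * hkjZ
        - (6 * (((t : ℤ) + 2) ^ 3 * (((t : ℤ) + 2) ^ 3 + 1) * (t + 1))
            - 6 * (((t : ℤ) + 2) ^ 4 * (t + 3) * (t + 1) * t)) * hNZ
    have hne : 3 * (((t : ℤ) + 2) ^ 3 * (t + 3) * (t + 1)) * ((t : ℤ) ^ 2 + 3 * t + 3) ≠ 0 := by
      positivity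
    have hsumc : (c i : ℤ) + (c j : ℤ) = 2 * t + 6 := by
      rcases mul_eq_zero.mp key with h | h
      · exact absurd h hne
      · linarith
    have hrZ : (r : ℤ) * r = 3 * ((t : ℤ) + 2) := by exact_mod_cast hr
    have hquad : ((c i : ℤ) - ((t : ℤ) + 3 - r)) * ((c i : ℤ) - ((t : ℤ) + 3 + r)) = 0 := by
      have hcj : (c j : ℤ) = 2 * t + 6 - c i := by linarith
      rw [hcj] at hNZ
      linear_combination -hNZ - hrZ
    rcases mul_eq_zero.mp hquad with h | h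
    · refine ⟨i, hi, j, hj, hij, rfl, hni6, hnj6, ?_, ?_⟩
      · have : (c i : ℤ) + r = t + 3 := by linarith
        exact_mod_cast this
      · have : (c j : ℤ) = t + 3 + r := by linarith
        exact_mod_cast this
    · refine ⟨j, hj, i, hi, Ne.symm hij, Finset.pair_comm i j, hnj6, hni6, ?_, ?_⟩
      · have : (c j : ℤ) + r = t + 3 := by linarith
        exact_mod_cast this
      · have : (c i : ℤ) = t + 3 + r := by linarith
        exact_mod_cast this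

theorem nine_pow_mod_five (m : ℕ) : 9 ^ m % 5 = 1 ∨ 9 ^ m % 5 = 4 := by
  induction m with
  | zero => left; norm_num
  | succ m ih =>
    rw [pow_succ, Nat.mul_mod]
    rcases ih with h | h <;> rw [h] <;> norm_num

/-- The class equation of the tori of order dividing `q² - q + 1 = (q - r + 1)(q + r + 1)`:
there are exactly two classes, of orders `q ∓ r + 1`, both with `|N : C| = 6`. -/
theorem dioph {ι : Type*} [DecidableEq ι] (s : Finset ι) (c n k : ι → ℕ) {m : ℕ} (hm : 1 ≤ m)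
    (hc : ∀ i ∈ s, 1 < c i)
    (hprod : ∏ i ∈ s, c i = (3 ^ (2 * m + 1)) ^ 2 - 3 ^ (2 * m + 1) + 1)
    (hn : ∀ i ∈ s, n i ∣ 6)
    (hk : ∀ i ∈ s, k i * (n i * c i) =
      (3 ^ (2 * m + 1)) ^ 3 * ((3 ^ (2 * m + 1)) ^ 3 + 1) * (3 ^ (2 * m + 1) - 1))
    (hsum : 3 * ∑ i ∈ s, (c i - 1) * k i =
      (3 ^ (2 * m + 1)) ^ 4 * (3 ^ (2 * m + 1) + 1) * (3 ^ (2 * m + 1) - 1) *
        (3 ^ (2 * m + 1) - 2)) :
    ∃ i ∈ s, ∃ j ∈ s, i ≠ j ∧ s = {i, j} ∧ n i = 6 ∧ n j = 6 ∧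
      c i = 3 ^ (2 * m + 1) - 3 ^ (m + 1) + 1 ∧ c j = 3 ^ (2 * m + 1) + 3 ^ (m + 1) + 1 := by
  have hq27 : 27 ≤ 3 ^ (2 * m + 1) := by
    calc 27 = 3 ^ 3 := by norm_num
      _ ≤ 3 ^ (2 * m + 1) := Nat.pow_le_pow_right (by norm_num) (by omega)
  have hrr : 3 ^ (m + 1) * 3 ^ (m + 1) = 3 * 3 ^ (2 * m + 1) := by
    rw [← pow_add, ← pow_succ']
    congr 1
    omega
  have hq3 : 3 ^ (2 * m + 1) % 3 = 0 := by
    rw [pow_succ]; simp
  have hq5 : 3 ^ (2 * m + 1) % 5 = 3 ∨ 3 ^ (2 * m + 1) % 5 = 2 := by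
    have : 3 ^ (2 * m + 1) = 9 ^ m * 3 := by rw [pow_succ, pow_mul]; norm_num
    rw [this, Nat.mul_mod]
    rcases nine_pow_mod_five m with h | h <;> rw [h] <;> norm_num
  generalize hq : 3 ^ (2 * m + 1) = q at *
  generalize hr : 3 ^ (m + 1) = r at *
  obtain ⟨t, rfl⟩ : ∃ t, q = t + 2 := ⟨q - 2, by omega⟩
  have ht : 25 ≤ t := by omega
  have e1 : (t + 2) ^ 2 - (t + 2) + 1 = t ^ 2 + 3 * t + 3 := by
    have : (t + 2) ^ 2 = t ^ 2 + 3 * t + 2 + (t + 2) := by ring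
    omega
  have e2 : t + 2 - 1 = t + 1 := by omega
  have e3 : t + 2 - 2 = t := by omega
  have e4 : t + 2 + 1 = t + 3 := by omega
  rw [e1] at hprod
  rw [e2] at hk hsum
  rw [e3, e4] at hsum
  have ht3 : t % 3 = 1 := by omega
  have ht5 : t % 5 = 1 ∨ t % 5 = 0 := by omega
  have h2 : ¬ 2 ∣ t ^ 2 + 3 * t + 3 := by
    rw [Nat.dvd_iff_mod_eq_zero]
    rcases Nat.mod_two_eq_zero_or_one t with h | h <;>
      simp [Nat.add_mod, Nat.mul_mod, Nat.pow_mod, h]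
  have h3 : ¬ 3 ∣ t ^ 2 + 3 * t + 3 := by
    rw [Nat.dvd_iff_mod_eq_zero]
    simp [Nat.add_mod, Nat.pow_mod, ht3]
  have h5 : ¬ 5 ∣ t ^ 2 + 3 * t + 3 := by
    rw [Nat.dvd_iff_mod_eq_zero]
    rcases ht5 with h | h <;> simp [Nat.add_mod, Nat.mul_mod, Nat.pow_mod, h]
  obtain ⟨i, hi, j, hj, hij, hs, hni, hnj, hci, hcj⟩ :=
    core s c n k t r ht hrr h2 h3 h5 hc hprod hn hk hsum
  refine ⟨i, hi, j, hj, hij, hs, hni, hnj, ?_, ?_⟩
  · have hrle : r ≤ t + 2 := by nlinarith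
    omega
  · omega

end Cfsg.Agent.Lib.Helper57_RH_DIOPH
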