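import Mathlib
import Cfsg.Agent.Lib.Helper26_RHTorDefs
import Cfsg.Agent.Lib.Helper57_RH_DIOPH
import Cfsg.Agent.Lib.Helper26_RH_TOR6

/-!
# Helper26_RH_TOR7: REEHALL package TOR7 (the two classes of tori of the small Ree groups)
-/

set_option autoImplicit false

open Cfsg.Agent.Lib.Helper26_RHTorDefs

namespace Cfsg.Agent.Lib.Helper26_RH_TOR7

open Cfsg.Agent.Lib

/-- The two classes of tori of the small Ree groups. -/
theorem two_classes {G : Type*} [Group G] [Finite G] {m : ℕ} (hm : 1 ≤ m)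
    (H : TorHyp G ((3 ^ (2 * m + 1)) ^ 2 - 3 ^ (2 * m + 1) + 1)
      ((3 ^ (2 * m + 1)) ^ 3 * (3 ^ (2 * m + 1) + 1) * (3 ^ (2 * m + 1) - 1)))
    (hT : 3 * Nat.card {g : G // g ≠ 1 ∧ orderOf g ∣ (3 ^ (2 * m + 1)) ^ 2 - 3 ^ (2 * m + 1) + 1} =
      (3 ^ (2 * m + 1)) ^ 4 * (3 ^ (2 * m + 1) + 1) * (3 ^ (2 * m + 1) - 1) *
        (3 ^ (2 * m + 1) - 2)) :
    (∀ c ∈ ({3 ^ (2 * m + 1) - 3 ^ (m + 1) + 1, 3 ^ (2 * m + 1) + 3 ^ (m + 1) + 1} : Set ℕ),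
      ∃ A : Subgroup G, IsTorus ((3 ^ (2 * m + 1)) ^ 2 - 3 ^ (2 * m + 1) + 1) A ∧
        Nat.card ↥A = c ∧ Nat.card ↥(Subgroup.normalizer (A : Set G)) = 6 * c) ∧
    (∀ C : Subgroup G, IsTorus ((3 ^ (2 * m + 1)) ^ 2 - 3 ^ (2 * m + 1) + 1) C →
      Nat.card ↥C = 3 ^ (2 * m + 1) - 3 ^ (m + 1) + 1 ∨
      Nat.card ↥C = 3 ^ (2 * m + 1) + 3 ^ (m + 1) + 1) := by
  obtain ⟨s, n, k, h1, hprod, hn, hk, hsum, hex, hall⟩ := Helper26_RH_TOR6.class_data H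
  have hcard : Nat.card G = (3 ^ (2 * m + 1)) ^ 3 * ((3 ^ (2 * m + 1)) ^ 3 + 1) *
      (3 ^ (2 * m + 1) - 1) := by
    rw [H.card]
    have h3 : 1 ≤ 3 ^ (2 * m + 1) := Nat.one_le_pow _ _ (by norm_num)
    have hle : 3 ^ (2 * m + 1) ≤ (3 ^ (2 * m + 1)) ^ 2 := by nlinarith
    zify [h3, hle]
    ring
  obtain ⟨i, hi, j, hj, hij, hs, hni, hnj, hci, hcj⟩ :=
    Helper57_RH_DIOPH.dioph s (fun i => i) n k hm h1 hprod hn
      (fun i hi => by rw [hk i hi, hcard]) (by rw [hsum]; exact hT)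
  constructor
  · intro c hc
    rcases hc with rfl | hc
    · obtain ⟨A, hA, hAc, hAn⟩ := hex i hi
      refine ⟨A, hA, by rw [hAc, hci], ?_⟩
      rw [hAn, hni, hci]
    · rw [Set.mem_singleton_iff] at hc
      subst hc
      obtain ⟨A, hA, hAc, hAn⟩ := hex j hj
      refine ⟨A, hA, by rw [hAc, hcj], ?_⟩
      rw [hAn, hnj, hcj]
  · intro C hC
    have := hall C hC
    rw [hs, Finset.mem_insert, Finset.mem_singleton] at this
    rcases this with h | h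
    · left; rw [h, hci]
    · right; rw [h, hcj]

end Cfsg.Agent.Lib.Helper26_RH_TOR7
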