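import Mathlib
import Cfsg.Agent.Lib.Helper26_RHTorDefs
import Cfsg.Agent.Lib.Helper79_RH_TOR2
import Cfsg.Agent.Lib.Helper20_RH_TOR3
import Cfsg.Agent.Lib.Helper26_RH_TOR7

/-!
# Helper26_RH_TOR8A: REEHALL package TOR8A (shape of S1158 (iii), (iv))
-/

set_option autoImplicit false

open Cfsg.Agent.Lib.Helper26_RHTorDefs

namespace Cfsg.Agent.Lib.Helper26_RH_TOR8A

open Cfsg.Agent.Lib

/-- Shape of S1158 (iii), (iv). -/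
theorem hall_subgroups {G : Type*} [Group G] [Finite G] {m : ℕ} (hm : 1 ≤ m)
    (H : TorHyp G ((3 ^ (2 * m + 1)) ^ 2 - 3 ^ (2 * m + 1) + 1)
      ((3 ^ (2 * m + 1)) ^ 3 * (3 ^ (2 * m + 1) + 1) * (3 ^ (2 * m + 1) - 1)))
    (hT : 3 * Nat.card {g : G // g ≠ 1 ∧ orderOf g ∣ (3 ^ (2 * m + 1)) ^ 2 - 3 ^ (2 * m + 1) + 1} =
      (3 ^ (2 * m + 1)) ^ 4 * (3 ^ (2 * m + 1) + 1) * (3 ^ (2 * m + 1) - 1) *
        (3 ^ (2 * m + 1) - 2)) :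
    ∀ c ∈ ({3 ^ (2 * m + 1) - 3 ^ (m + 1) + 1, 3 ^ (2 * m + 1) + 3 ^ (m + 1) + 1} : Set ℕ),
      ∃ A : Subgroup G, IsCyclic ↥A ∧ Nat.card ↥A = c ∧
        Nat.card ↥(Subgroup.normalizer (A : Set G)) = 6 * c ∧
        ∀ A₀ : Subgroup G, A₀ ≤ A → A₀ ≠ ⊥ →
          Subgroup.normalizer (A₀ : Set G) = Subgroup.normalizer (A : Set G) := by
  intro c hc
  obtain ⟨A, hA, hAc, hAn⟩ := (Helper26_RH_TOR7.two_classes hm H hT).1 c hc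
  exact ⟨A, Helper79_RH_TOR2.isCyclic H hA, hAc, hAn,
    fun A₀ hle hne => Helper20_RH_TOR3.normalizer_eq H hA A₀ hle hne⟩

end Cfsg.Agent.Lib.Helper26_RH_TOR8A
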