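import Mathlib
import Cfsg.Agent.Lib.Helper37_RHDefs
import Cfsg.Agent.Lib.Helper31_RH_STAB2
import Cfsg.Agent.Lib.Helper55_RH_FIX2

/-!
# REEHALL market (architect helper37), package NORMH

The normaliser of a subgroup `A` of a two-point stabiliser containing an element of order `> 2` is the setwise
stabiliser of the two points, of order `2 (q - 1)`.
-/

set_option autoImplicit false

namespace Cfsg.Agent.Lib.Helper88_RH_NORMH

open MulAction Subgroup Cfsg.Agent.Lib.Helper37_RHDefs
open scoped Pointwise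

variable {G : Type*} [Group G] [Finite G] {Ω : Type*} [MulAction G Ω] {m : ℕ}

omit [Finite G] in
theorem smul_pair (g : G) (x y : Ω) : g • ({x, y} : Set Ω) = {g • x, g • y} := by
  rw [Set.smul_set_insert, Set.smul_set_singleton]

omit [Finite G] in
/-- an element of the setwise stabiliser of a pair fixes both points or exchanges them -/
theorem cases_of_mem_stab_pair (x y : Ω) (hxy : x ≠ y) (g : G)
    (hg : g ∈ stabilizer G ({x, y} : Set Ω)) :
    (g • x = x ∧ g • y = y) ∨ (g • x = y ∧ g • y = x) := by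
  rw [mem_stabilizer_iff, smul_pair] at hg
  have h1 : g • x ∈ ({x, y} : Set Ω) := by rw [← hg]; exact Set.mem_insert _ _
  have h2 : g • y ∈ ({x, y} : Set Ω) := by rw [← hg]; exact Set.mem_insert_of_mem _ rfl
  have hne : g • x ≠ g • y := fun e => hxy (MulAction.injective g e)
  rcases h1 with h1 | h1 <;> rcases h2 with h2 | h2
  · exact absurd (h1.trans h2.symm) hne
  · exact Or.inl ⟨h1, h2⟩
  · exact Or.inr ⟨h1, h2⟩
  · exact absurd (h1.trans h2.symm) hne

omit [Finite G] in
theorem mem_stab_pair_of_fix (x y : Ω) (g : G) (hx : g • x = x) (hy : g • y = y) :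
    g ∈ stabilizer G ({x, y} : Set Ω) := by
  rw [mem_stabilizer_iff, smul_pair, hx, hy]

omit [Finite G] in
theorem mem_stab_pair_of_swap (x y : Ω) (g : G) (hx : g • x = y) (hy : g • y = x) :
    g ∈ stabilizer G ({x, y} : Set Ω) := by
  rw [mem_stabilizer_iff, smul_pair, hx, hy, Set.pair_comm]

omit [Finite G] in
/-- conjugation by an element of the setwise stabiliser preserves the two-point stabiliser -/
theorem conj_mem_stab2 (x y : Ω) (hxy : x ≠ y) (s : G) (hs : s ∈ stabilizer G ({x, y} : Set Ω))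
    (a : G) (ha : a ∈ stabilizer G x ⊓ stabilizer G y) :
    s * a * s⁻¹ ∈ stabilizer G x ⊓ stabilizer G y := by
  rw [Subgroup.mem_inf, mem_stabilizer_iff, mem_stabilizer_iff] at ha ⊢
  have hinv : ∀ z w : Ω, s • z = w → s⁻¹ • w = z := by
    intro z w e; rw [← e, inv_smul_smul]
  rcases cases_of_mem_stab_pair x y hxy s hs with ⟨h1, h2⟩ | ⟨h1, h2⟩
  · constructor
    · rw [mul_smul, mul_smul, hinv x x h1, ha.1, h1]
    · rw [mul_smul, mul_smul, hinv y y h2, ha.2, h2]
  · constructor
    · rw [mul_smul, mul_smul, hinv y x h2, ha.2, h2]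
    · rw [mul_smul, mul_smul, hinv x y h1, ha.1, h1]

omit [Finite G] in
/-- in a cyclic two-point stabiliser every subgroup is normalised by the setwise stabiliser -/
theorem conj_mem_of_cyclic (x y : Ω) (hxy : x ≠ y)
    (hcyc : IsCyclic ↥(stabilizer G x ⊓ stabilizer G y)) (A : Subgroup G)
    (hA : A ≤ stabilizer G x ⊓ stabilizer G y) (s : G) (hs : s ∈ stabilizer G ({x, y} : Set Ω))
    (a : G) (ha : a ∈ A) : s * a * s⁻¹ ∈ A := by
  obtain ⟨z, hz⟩ := hcyc.exists_generator
  -- `s z s⁻¹ = z ^ k`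
  have h1 := conj_mem_stab2 x y hxy s hs z.1 z.2
  obtain ⟨k, hk⟩ := hz ⟨s * z.1 * s⁻¹, h1⟩
  have hk' : z.1 ^ k = s * z.1 * s⁻¹ := by
    have := congrArg Subtype.val hk
    simpa using this
  obtain ⟨j, hj⟩ := hz ⟨a, hA ha⟩
  have hj' : z.1 ^ j = a := by
    have := congrArg Subtype.val hj
    simpa using this
  have e : s * a * s⁻¹ = a ^ k := by
    rw [← hj', ← zpow_mul, mul_comm, zpow_mul, hk']
    simp [conj_zpow]
  rw [e]
  exact A.zpow_mem ha k

/-- PK NORMH, hypothesis form: `hfix` is FIX2 (`fixedBy_of_stab2`, first part), `hcyc`/`hcard` are STAB2 -/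
theorem normalizer_of_le_stab2_of (h : RH G Ω m) (x y : Ω) (hxy : x ≠ y) (A : Subgroup G)
    (hA : A ≤ stabilizer G x ⊓ stabilizer G y) (hA2 : ∃ g ∈ A, g * g ≠ 1)
    (hfix : ∀ g : G, g • x = x → g • y = y → g * g ≠ 1 → ∀ z : Ω, g • z = z ↔ z = x ∨ z = y)
    (hcyc : IsCyclic ↥(stabilizer G x ⊓ stabilizer G y))
    (hcard : Nat.card ↥(stabilizer G x ⊓ stabilizer G y) = Q m - 1) :
    normalizer (A : Set G) = stabilizer G ({x, y} : Set Ω) ∧
      Nat.card ↥(stabilizer G ({x, y} : Set Ω)) = 2 * (Q m - 1) := by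
  constructor
  · apply le_antisymm
    · intro n hn
      obtain ⟨g, hgA, hg2⟩ := hA2
      have hgH := hA hgA
      rw [Subgroup.mem_inf, mem_stabilizer_iff, mem_stabilizer_iff] at hgH
      have h1 : n * g * n⁻¹ ∈ A := (mem_normalizer_iff.mp hn g).mp hgA
      have h2 := hA h1
      rw [Subgroup.mem_inf, mem_stabilizer_iff, mem_stabilizer_iff] at h2
      have hf := hfix g hgH.1 hgH.2 hg2
      -- `g` fixes `n⁻¹ x` and `n⁻¹ y`
      have h3 : ∀ w : Ω, (n * g * n⁻¹) • w = w → g • (n⁻¹ • w) = n⁻¹ • w := by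
        intro w hw
        rw [mul_smul, mul_smul] at hw
        have := congrArg (fun v => n⁻¹ • v) hw
        simpa using this
      have hx' := (hf _).mp (h3 x h2.1)
      have hy' := (hf _).mp (h3 y h2.2)
      have hne : n⁻¹ • x ≠ n⁻¹ • y := fun e => hxy (MulAction.injective n⁻¹ e)
      have hmem : n⁻¹ ∈ stabilizer G ({x, y} : Set Ω) := by
        rcases hx' with hx' | hx' <;> rcases hy' with hy' | hy'
        · exact absurd (hx'.trans hy'.symm) hne
        · exact mem_stab_pair_of_fix x y _ hx' hy'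
        · exact mem_stab_pair_of_swap x y _ hx' hy'
        · exact absurd (hx'.trans hy'.symm) hne
      have := Subgroup.inv_mem _ hmem
      rwa [inv_inv] at this
    · intro s hs
      rw [mem_normalizer_iff]
      intro a
      constructor
      · exact conj_mem_of_cyclic x y hxy hcyc A hA s hs a
      · intro ha
        have hs' := Subgroup.inv_mem _ hs
        have := conj_mem_of_cyclic x y hxy hcyc A hA s⁻¹ hs' _ ha
        have e : s⁻¹ * (s * a * s⁻¹) * s⁻¹⁻¹ = a := by group
        rwa [e] at this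
  · -- the two-point stabiliser has index two in the setwise stabiliser
    set S := stabilizer G ({x, y} : Set Ω) with hS
    set H := stabilizer G x ⊓ stabilizer G y with hH
    have hHS : H ≤ S := by
      intro g hg
      rw [hH, Subgroup.mem_inf, mem_stabilizer_iff, mem_stabilizer_iff] at hg
      exact mem_stab_pair_of_fix x y g hg.1 hg.2
    obtain ⟨t, ht1, ht2⟩ := h.two_trans x y y x hxy hxy.symm
    have htS : t ∈ S := mem_stab_pair_of_swap x y t ht1 ht2
    have hidx : (H.subgroupOf S).index = 2 := by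
      rw [Subgroup.index_eq_two_iff]
      refine ⟨⟨t, htS⟩, fun b => ?_⟩
      rw [Subgroup.mem_subgroupOf, Subgroup.mem_subgroupOf]
      have hb := cases_of_mem_stab_pair x y hxy b.1 b.2
      show Xor (b.1 * t ∈ H) (b.1 ∈ H)
      rw [hH, Subgroup.mem_inf, Subgroup.mem_inf, mem_stabilizer_iff, mem_stabilizer_iff,
        mem_stabilizer_iff, mem_stabilizer_iff, mul_smul, mul_smul, ht1, ht2]
      rcases hb with ⟨h1, h2⟩ | ⟨h1, h2⟩
      · right
        refine ⟨⟨h1, h2⟩, ?_⟩
        rintro ⟨h3, -⟩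
        exact hxy (h3.symm.trans h2)
      · left
        refine ⟨⟨h2, h1⟩, ?_⟩
        rintro ⟨h3, -⟩
        exact hxy (h3.symm.trans h1)
    have h1 := (H.subgroupOf S).card_mul_index
    rw [hidx, Nat.card_congr (Subgroup.subgroupOfEquivOfLe hHS).toEquiv, hcard] at h1
    rw [← h1, mul_comm]

/-- PK NORMH.  The normaliser of a subgroup `A` of a two-point stabiliser containing an element of order `> 2` is the
setwise stabiliser of the two points, of order `2 (q - 1)`. -/
theorem normalizer_of_le_stab2 (h : RH G Ω m) (x y : Ω) (hxy : x ≠ y) (A : Subgroup G)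
    (hA : A ≤ stabilizer G x ⊓ stabilizer G y) (hA2 : ∃ g ∈ A, g * g ≠ 1) :
    normalizer (A : Set G) = stabilizer G ({x, y} : Set Ω) ∧
      Nat.card ↥(stabilizer G ({x, y} : Set Ω)) = 2 * (Q m - 1) :=
  normalizer_of_le_stab2_of h x y hxy A hA hA2
    (fun g hx hy hg => (Cfsg.Agent.Lib.Helper55_RH_FIX2.fixedBy_of_stab2 h x y hxy g hx hy hg).1)
    (Cfsg.Agent.Lib.Helper31_RH_STAB2.stab2_all h x y hxy).1
    (Cfsg.Agent.Lib.Helper31_RH_STAB2.stab2_all h x y hxy).2

end Cfsg.Agent.Lib.Helper88_RH_NORMH
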