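import Mathlib
import Cfsg.Agent.Lib.Helper37_RHDefs
import Cfsg.Agent.Lib.Helper26_RHTorDefs
import Cfsg.Agent.Lib.Helper10_RH_ARITH
import Cfsg.Agent.Lib.Helper88_RH_NORMH
import Cfsg.Agent.Lib.Helper60_RH_TORT
import Cfsg.Agent.Lib.Helper26_RH_TOR8A

/-!
# Helper26_RH_F1158aux: REEHALL package F1158 (S1158 for an abstract `G`), with NORMT, TORHYP and CARDPI's
`card_pi` as hypotheses (`f1158_of`); cases (i), (ii) as separate lemmas.
-/

set_option autoImplicit false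

namespace Cfsg.Agent.Lib.Helper26_RH_F1158aux

open MulAction Subgroup Cfsg.Agent.Lib.Helper37_RHDefs Cfsg.Agent.Lib
open Cfsg.Agent.Lib.Helper26_RHTorDefs
open scoped Pointwise

variable {G : Type*} [Group G] [Finite G] {Ω : Type*} [MulAction G Ω] {m : ℕ}

/-- An element of odd order whose square is 1 is 1. -/
theorem eq_one_of_sq_of_odd {G : Type*} [Group G] {g : G} (h2 : g * g = 1) (ho : Odd (orderOf g)) :
    g = 1 := by
  have hd : orderOf g ∣ 2 := orderOf_dvd_of_pow_eq_one (by rw [pow_two]; exact h2)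
  rcases (Nat.dvd_prime Nat.prime_two).mp hd with h1 | h1
  · exact orderOf_eq_one_iff.mp h1
  · rw [h1] at ho
    exact absurd ho (by decide)

/-- Case (i): the subgroup of order `(q - 1) / 2` of a two-point stabiliser. -/
theorem case_one (h : RH G Ω m) :
    ∃ A : Subgroup G, IsCyclic A ∧ Nat.card A = (3 ^ (2 * m + 1) - 1) / 2 ∧
      Nat.card (Subgroup.normalizer (A : Set G)) = 2 * (3 ^ (2 * m + 1) - 1) ∧
      ∀ A₀ : Subgroup G, A₀ ≤ A → A₀ ≠ ⊥ →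
        Subgroup.normalizer (A₀ : Set G) = Subgroup.normalizer (A : Set G) := by
  obtain ⟨x, y, hxy, hcyc, hcard⟩ := h.stab2
  obtain ⟨hq27, -, -, -, -, -, -, hhalf, hodd, -⟩ := Helper10_RH_ARITH.arith m h.hm
  obtain ⟨⟨g, hgH⟩, hgen⟩ := hcyc.exists_generator
  have hog : orderOf g = Q m - 1 := by
    have h1 : orderOf (⟨g, hgH⟩ : ↥(stabilizer G x ⊓ stabilizer G y)) = Q m - 1 := by
      rw [orderOf_eq_card_of_forall_mem_zpowers hgen, hcard]
    rw [← h1]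
    exact (Subgroup.orderOf_mk g hgH).symm
  have hcardA : Nat.card ↥(zpowers (g ^ 2)) = (Q m - 1) / 2 := by
    rw [Nat.card_zpowers, orderOf_pow, hog]
    congr 1
    apply Nat.gcd_eq_right
    exact ⟨(Q m - 1) / 2, hhalf.symm⟩
  have hAle : zpowers (g ^ 2) ≤ stabilizer G x ⊓ stabilizer G y := by
    rw [zpowers_le]
    exact pow_mem hgH 2
  have hoddA : ∀ k ∈ zpowers (g ^ 2), Odd (orderOf k) := by
    intro k hk
    have hdvd : orderOf k ∣ (Q m - 1) / 2 := by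
      rw [← hcardA]
      have := orderOf_dvd_natCard (⟨k, hk⟩ : ↥(zpowers (g ^ 2)))
      rwa [Subgroup.orderOf_mk] at this
    have hodd' : Odd ((Q m - 1) / 2) := Nat.odd_iff.mpr hodd
    exact hodd'.of_dvd_nat hdvd
  have hnorm : ∀ A₀ : Subgroup G, A₀ ≤ zpowers (g ^ 2) → A₀ ≠ ⊥ →
      normalizer (A₀ : Set G) = stabilizer G ({x, y} : Set Ω) := by
    intro A₀ hle hne
    obtain ⟨k, hk1⟩ := (Subgroup.ne_bot_iff_exists_ne_one).mp hne
    have hkA : (k : G) ∈ zpowers (g ^ 2) := hle k.2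
    refine (Helper88_RH_NORMH.normalizer_of_le_stab2 h x y hxy A₀ (hle.trans hAle)
      ⟨k, k.2, fun h2 => ?_⟩).1
    apply hk1
    exact Subtype.ext (eq_one_of_sq_of_odd h2 (hoddA _ hkA))
  have hAne : zpowers (g ^ 2) ≠ ⊥ := by
    intro hbot
    have : Nat.card ↥(zpowers (g ^ 2)) = 1 := by rw [hbot]; exact Subgroup.card_bot
    rw [hcardA] at this
    omega
  have hcardN := (Helper88_RH_NORMH.normalizer_of_le_stab2 h x y hxy (zpowers (g ^ 2)) hAle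
    (by
      obtain ⟨k, hk1⟩ := (Subgroup.ne_bot_iff_exists_ne_one).mp hAne
      exact ⟨k, k.2, fun h2 => hk1 (Subtype.ext (eq_one_of_sq_of_odd h2 (hoddA _ k.2)))⟩)).2
  refine ⟨zpowers (g ^ 2), ?_, hcardA, ?_, ?_⟩
  · infer_instance
  · rw [hnorm _ le_rfl hAne]
    exact hcardN
  · intro A₀ hle hne
    rw [hnorm A₀ hle hne, hnorm _ le_rfl hAne]

/-- Case (ii): the torus of order `(q + 1) / 4`. -/
theorem case_two (h : RH G Ω m)
    (hNormT : ∀ (D T V : Subgroup G), TorT m D T V → ∀ A₀ : Subgroup G, A₀ ≤ T → A₀ ≠ ⊥ →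
      normalizer (A₀ : Set G) = normalizer (V : Set G) ∧
        normalizer (D : Set G) = normalizer (V : Set G) ∧
        Nat.card ↥(normalizer (V : Set G)) = 6 * (Q m + 1)) :
    ∃ A : Subgroup G, IsCyclic A ∧ Nat.card A = (3 ^ (2 * m + 1) + 1) / 4 ∧
      Nat.card (Subgroup.normalizer (A : Set G)) = 6 * (3 ^ (2 * m + 1) + 1) ∧
      ∀ A₀ : Subgroup G, A₀ ≤ A → A₀ ≠ ⊥ →
        Subgroup.normalizer (A₀ : Set G) = Subgroup.normalizer (A : Set G) := by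
  obtain ⟨D, T, V, hT⟩ := Helper60_RH_TORT.exists_torT (Ω := Ω) h
  obtain ⟨-, -, -, -, -, h7, -⟩ := Helper10_RH_ARITH.arith m h.hm
  have hTne : T ≠ ⊥ := by
    intro hbot
    have : Nat.card ↥T = 1 := by rw [hbot]; exact Subgroup.card_bot
    rw [hT.card_T] at this
    omega
  obtain ⟨hNT, -, hcardN⟩ := hNormT D T V hT T le_rfl hTne
  refine ⟨T, hT.cyc, hT.card_T, ?_, ?_⟩
  · rw [hNT]
    exact hcardN
  · intro A₀ hle hne
    rw [(hNormT D T V hT A₀ hle hne).1, hNT]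

/-- PK F1158 with NORMT, TORHYP, CARDPI as hypotheses. -/
theorem f1158_of (h : RH G Ω m)
    (hNormT : ∀ (D T V : Subgroup G), TorT m D T V → ∀ A₀ : Subgroup G, A₀ ≤ T → A₀ ≠ ⊥ →
      normalizer (A₀ : Set G) = normalizer (V : Set G) ∧
        normalizer (D : Set G) = normalizer (V : Set G) ∧
        Nat.card ↥(normalizer (V : Set G)) = 6 * (Q m + 1))
    (hH : TorHyp G ((3 ^ (2 * m + 1)) ^ 2 - 3 ^ (2 * m + 1) + 1)
      ((3 ^ (2 * m + 1)) ^ 3 * (3 ^ (2 * m + 1) + 1) * (3 ^ (2 * m + 1) - 1)))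
    (hT : 3 * Nat.card {g : G // g ≠ 1 ∧ orderOf g ∣ (3 ^ (2 * m + 1)) ^ 2 - 3 ^ (2 * m + 1) + 1} =
      (3 ^ (2 * m + 1)) ^ 4 * (3 ^ (2 * m + 1) + 1) * (3 ^ (2 * m + 1) - 1) *
        (3 ^ (2 * m + 1) - 2)) :
    ∀ kn ∈ ({((3 ^ (2 * m + 1) - 1) / 2, 2 * (3 ^ (2 * m + 1) - 1)),
        ((3 ^ (2 * m + 1) + 1) / 4, 6 * (3 ^ (2 * m + 1) + 1)),
        (3 ^ (2 * m + 1) - 3 ^ (m + 1) + 1, 6 * (3 ^ (2 * m + 1) - 3 ^ (m + 1) + 1)),
        (3 ^ (2 * m + 1) + 3 ^ (m + 1) + 1, 6 * (3 ^ (2 * m + 1) + 3 ^ (m + 1) + 1))} : Set (ℕ × ℕ)),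
      ∃ A : Subgroup G, IsCyclic A ∧ Nat.card A = kn.1 ∧
        Nat.card (Subgroup.normalizer (A : Set G)) = kn.2 ∧
        ∀ A₀ : Subgroup G, A₀ ≤ A → A₀ ≠ ⊥ →
          Subgroup.normalizer (A₀ : Set G) = Subgroup.normalizer (A : Set G) := by
  intro kn hkn
  rcases hkn with rfl | rfl | rfl | hkn
  · exact case_one h
  · exact case_two h hNormT
  · exact Helper26_RH_TOR8A.hall_subgroups h.hm hH hT _ (Or.inl rfl)
  · rw [Set.mem_singleton_iff] at hkn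
    subst hkn
    exact Helper26_RH_TOR8A.hall_subgroups h.hm hH hT _ (Or.inr rfl)

end Cfsg.Agent.Lib.Helper26_RH_F1158aux
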