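import Mathlib

/-!
# REEHALL market (architect helper26), package ORD6: arithmetic of `N = q² - q + 1 = a b`,
`q = 3^(2m+1)`, `a = q + r + 1`, `b = q - r + 1`, `r = 3^(m+1)`.
-/

set_option autoImplicit false

namespace Cfsg.Agent.Lib.Helper71_RH_ORD6

/-- basic facts on `q = 3^(2m+1)` and `r = 3^(m+1)` -/
theorem qr_facts (m : ℕ) : (3 ^ (m + 1)) * (3 ^ (m + 1)) = 3 * 3 ^ (2 * m + 1) ∧
    3 ^ (m + 1) ≤ 3 ^ (2 * m + 1) ∧ 3 ≤ 3 ^ (2 * m + 1) ∧ 3 ∣ 3 ^ (2 * m + 1) ∧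
    3 ∣ 3 ^ (m + 1) ∧ 3 ^ (2 * m + 1) % 2 = 1 ∧ 3 ^ (m + 1) % 2 = 1 := by
  refine ⟨by ring, Nat.pow_le_pow_right (by norm_num) (by omega), ?_, ?_, ?_, ?_, ?_⟩
  · calc 3 = 3 ^ 1 := by norm_num
      _ ≤ 3 ^ (2 * m + 1) := Nat.pow_le_pow_right (by norm_num) (by omega)
  · exact dvd_pow_self 3 (by omega)
  · exact dvd_pow_self 3 (by omega)
  · rw [Nat.pow_mod]; norm_num
  · rw [Nat.pow_mod]; norm_num

theorem N_eq_aux (q r : ℕ) (h1 : r * r = 3 * q) (h2 : r ≤ q) :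
    q ^ 2 - q + 1 = (q - r + 1) * (q + r + 1) := by
  have h4 : q ≤ q ^ 2 := by nlinarith
  zify [h2, h4]
  have h1' : (r : ℤ) * r = 3 * q := by exact_mod_cast h1
  linear_combination h1'

theorem N_eq (m : ℕ) : (3 ^ (2 * m + 1)) ^ 2 - 3 ^ (2 * m + 1) + 1 =
    (3 ^ (2 * m + 1) - 3 ^ (m + 1) + 1) * (3 ^ (2 * m + 1) + 3 ^ (m + 1) + 1) := by
  obtain ⟨h1, h2, -, -, -, -, -⟩ := qr_facts m
  exact N_eq_aux _ _ h1 h2

theorem coprime_ab_aux (q r : ℕ) (h2 : r ≤ q) (h4 : 3 ∣ q) (h5 : 3 ∣ r) (h6 : q % 2 = 1)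
    (h7 : r % 2 = 1) (hr : ∀ p : ℕ, p.Prime → p ∣ r → p = 3) :
    Nat.Coprime (q - r + 1) (q + r + 1) := by
  apply Nat.coprime_of_dvd
  intro p hp hpb hpa
  have h8 : p ∣ 2 * r := by
    have : 2 * r = (q + r + 1) - (q - r + 1) := by omega
    rw [this]
    exact Nat.dvd_sub hpa hpb
  obtain ⟨c, hc⟩ := hpa
  rcases (Nat.Prime.dvd_mul hp).mp h8 with h9 | h9
  · have : p = 2 := (Nat.prime_dvd_prime_iff_eq hp Nat.prime_two).mp h9
    subst this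
    omega
  · have : p = 3 := hr p hp h9
    subst this
    omega

theorem coprime_ab (m : ℕ) :
    Nat.Coprime (3 ^ (2 * m + 1) - 3 ^ (m + 1) + 1) (3 ^ (2 * m + 1) + 3 ^ (m + 1) + 1) := by
  obtain ⟨-, h2, -, h4, h5, h6, h7⟩ := qr_facts m
  refine coprime_ab_aux _ _ h2 h4 h5 h6 h7 ?_
  intro p hp hpr
  exact (Nat.prime_dvd_prime_iff_eq hp Nat.prime_three).mp (hp.dvd_of_dvd_pow hpr)

/-- `N` is prime to `2, 3, q, q - 1, q + 1`, in terms of prime divisors -/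
theorem prime_dvd_N_aux0 (q : ℕ) (h3 : 3 ≤ q) (h4 : 3 ∣ q) (hq3 : ∀ p : ℕ, p.Prime → p ∣ q → p = 3)
    {p : ℕ} (hp : p.Prime) (h : p ∣ q ^ 2 - q + 1) :
    ¬ p ∣ 2 ∧ ¬ p ∣ 3 ∧ ¬ p ∣ q ∧ ¬ p ∣ q - 1 ∧ ¬ p ∣ q + 1 := by
  have hN : q ^ 2 - q + 1 = q * (q - 1) + 1 := by
    have : q ^ 2 = q * (q - 1) + q := by
      obtain ⟨k, rfl⟩ : ∃ k, q = k + 1 := ⟨q - 1, by omega⟩
      simp only [Nat.add_sub_cancel]
      ring
    omega
  have h2' : ¬ p ∣ 2 := by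
    intro h2
    have : p = 2 := (Nat.prime_dvd_prime_iff_eq hp Nat.prime_two).mp h2
    subst this
    rw [hN] at h
    obtain ⟨k, hk⟩ := Nat.even_mul_pred_self q
    omega
  have h3' : ¬ p ∣ 3 := by
    intro h3d
    have : p = 3 := (Nat.prime_dvd_prime_iff_eq hp Nat.prime_three).mp h3d
    subst this
    rw [hN] at h
    have h5 : 3 ∣ q * (q - 1) := Dvd.dvd.mul_right h4 _
    omega
  refine ⟨h2', h3', ?_, ?_, ?_⟩
  · intro hq'
    apply h3'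
    rw [hq3 p hp hq']
  · intro hq1
    have h5 : p ∣ q * (q - 1) := Dvd.dvd.mul_left hq1 _
    rw [hN] at h
    have h6' : p ∣ 1 := (Nat.dvd_add_right h5).mp h
    exact hp.one_lt.ne' (Nat.dvd_one.mp h6')
  · intro hq1
    have h5 : q ^ 2 - q + 1 = (q + 1) * (q - 2) + 3 := by
      obtain ⟨k, rfl⟩ : ∃ k, q = k + 2 := ⟨q - 2, by omega⟩
      simp only [Nat.add_sub_cancel]
      have : (k + 2) ^ 2 = (k + 2 + 1) * k + (k + 2) + 2 := by ring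
      omega
    rw [h5] at h
    have h6' : p ∣ 3 := (Nat.dvd_add_right (Dvd.dvd.mul_right hq1 _)).mp h
    exact h3' h6'

theorem prime_dvd_N_aux {m p : ℕ} (hp : p.Prime)
    (h : p ∣ (3 ^ (2 * m + 1)) ^ 2 - 3 ^ (2 * m + 1) + 1) :
    ¬ p ∣ 2 ∧ ¬ p ∣ 3 ∧ ¬ p ∣ 3 ^ (2 * m + 1) ∧ ¬ p ∣ 3 ^ (2 * m + 1) - 1 ∧
      ¬ p ∣ 3 ^ (2 * m + 1) + 1 := by
  obtain ⟨-, -, h3, h4, -, -, -⟩ := qr_facts m
  refine prime_dvd_N_aux0 _ h3 h4 ?_ hp h
  intro p' hp' hpq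
  exact (Nat.prime_dvd_prime_iff_eq hp' Nat.prime_three).mp (hp'.dvd_of_dvd_pow hpq)

theorem coprime_N (m : ℕ) :
    Nat.Coprime ((3 ^ (2 * m + 1)) ^ 2 - 3 ^ (2 * m + 1) + 1)
      (2 * 3 * 3 ^ (2 * m + 1) * (3 ^ (2 * m + 1) - 1) * (3 ^ (2 * m + 1) + 1)) := by
  apply Nat.coprime_of_dvd
  intro p hp hpN hpM
  obtain ⟨h2, h3, hq, hq1, hq2⟩ := prime_dvd_N_aux hp hpN
  rcases (Nat.Prime.dvd_mul hp).mp hpM with h | h
  · rcases (Nat.Prime.dvd_mul hp).mp h with h | h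
    · rcases (Nat.Prime.dvd_mul hp).mp h with h | h
      · rcases (Nat.Prime.dvd_mul hp).mp h with h | h
        · exact h2 h
        · exact h3 h
      · exact hq h
    · exact hq1 h
  · exact hq2 h

theorem prime_dvd_N_core (q : ℕ) (hq3 : 3 ≤ q) {p : ℕ} (hp : p.Prime)
    (h : p ∣ q ^ 2 - q + 1) (h2 : ¬ p ∣ 2) (h3 : ¬ p ∣ 3) (hq : ¬ p ∣ q) :
    7 ≤ p ∧ orderOf ((q : ℕ) : ZMod p) = 6 := by
  have : Fact p.Prime := ⟨hp⟩
  have hle : q ≤ q ^ 2 := by nlinarith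
  have h0 : ((q : ZMod p)) ^ 2 - q + 1 = 0 := by
    have := (ZMod.natCast_eq_zero_iff (q ^ 2 - q + 1) p).mpr h
    rw [Nat.cast_add, Nat.cast_sub hle, Nat.cast_pow, Nat.cast_one] at this
    exact this
  have h2z : (2 : ZMod p) ≠ 0 := by
    intro h2'
    apply h2
    exact (ZMod.natCast_eq_zero_iff 2 p).mp (by exact_mod_cast h2')
  have h3z : (3 : ZMod p) ≠ 0 := by
    intro h3'
    apply h3
    exact (ZMod.natCast_eq_zero_iff 3 p).mp (by exact_mod_cast h3')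
  have hq0 : (q : ZMod p) ≠ 0 := by
    intro h'
    exact hq ((ZMod.natCast_eq_zero_iff q p).mp h')
  have hc : ((q : ZMod p)) ^ 3 = -1 := by linear_combination ((q : ZMod p) + 1) * h0
  have h6 : ((q : ZMod p)) ^ 6 = 1 := by
    have : ((q : ZMod p)) ^ 6 = (((q : ZMod p)) ^ 3) ^ 2 := by ring
    rw [this, hc]
    ring
  have hn3 : ((q : ZMod p)) ^ 3 ≠ 1 := by
    intro h'
    rw [hc] at h'
    apply h2z
    linear_combination -h'
  have hn2 : ((q : ZMod p)) ^ 2 ≠ 1 := by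
    intro h'
    have hq2 : (q : ZMod p) = 2 := by linear_combination h' - h0
    rw [hq2] at h'
    apply h3z
    linear_combination h'
  have hord : orderOf (q : ZMod p) = 6 := by
    apply orderOf_eq_of_pow_and_pow_div_prime (by norm_num) h6
    intro r hr hr6
    have hr' : r = 2 ∨ r = 3 := by
      have hle6 : r ≤ 6 := Nat.le_of_dvd (by norm_num) hr6
      interval_cases r
      · exact absurd hr (by decide)
      · exact absurd hr (by decide)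
      · left; rfl
      · right; rfl
      · exact absurd hr6 (by decide)
      · exact absurd hr6 (by decide)
      · exact absurd hr (by decide)
    rcases hr' with rfl | rfl
    · exact hn3
    · exact hn2
  refine ⟨?_, hord⟩
  have hdvd : 6 ∣ p - 1 := by
    rw [← hord]
    exact ZMod.orderOf_dvd_card_sub_one hq0
  have hp2 := hp.two_le
  obtain ⟨k, hk⟩ := hdvd
  have hk0 : k ≠ 0 := by
    rintro rfl
    omega
  omega

theorem prime_dvd_N {m p : ℕ} (hp : p.Prime)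
    (h : p ∣ (3 ^ (2 * m + 1)) ^ 2 - 3 ^ (2 * m + 1) + 1) :
    7 ≤ p ∧ orderOf (((3 ^ (2 * m + 1) : ℕ) : ZMod p)) = 6 := by
  obtain ⟨h2, h3, hq, -, -⟩ := prime_dvd_N_aux hp h
  obtain ⟨-, -, hq3, -, -, -, -⟩ := qr_facts m
  exact prime_dvd_N_core _ hq3 hp h h2 h3 hq

end Cfsg.Agent.Lib.Helper71_RH_ORD6
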