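/-
helper79 — package TORHYP of helper37's REEHALL market (S1158, S1159, S2357, S2358, S2361):
the hypotheses of helper26's abstract theory of `π`-tori, from `RH G Ω m` and the statement of
PICENT (`cent_pi`) taken as a hypothesis.
-/
import Mathlib
import Cfsg.Agent.Lib.Helper37_RHDefs
import Cfsg.Agent.Lib.Helper26_RHTorDefs
import Cfsg.Agent.Lib.Helper71_RH_ORD6

set_option autoImplicit false

namespace Cfsg.Agent.Lib.Helper79_RH_TORHYPaux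

open MulAction Subgroup Cfsg.Agent.Lib.Helper37_RHDefs Cfsg.Agent.Lib.Helper26_RHTorDefs

variable {G : Type*} [Group G] [Finite G] {Ω : Type*} [MulAction G Ω] {m : ℕ}

/-- the arithmetic identity `q³ (q - 1) (q³ + 1) = (q² - q + 1) (q³ (q + 1) (q - 1))` -/
theorem card_arith (q : ℕ) (hq : 3 ≤ q) :
    q ^ 3 * (q - 1) * (q ^ 3 + 1) = (q ^ 2 - q + 1) * (q ^ 3 * (q + 1) * (q - 1)) := by
  obtain ⟨k, rfl⟩ : ∃ k, q = k + 3 := ⟨q - 3, by omega⟩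
  have e2 : k + 3 - 1 = k + 2 := by omega
  have e3 : (k + 3) ^ 2 - (k + 3) + 1 = k ^ 2 + 5 * k + 7 := by
    have : (k + 3) ^ 2 = (k ^ 2 + 5 * k + 6) + (k + 3) := by ring
    rw [this, Nat.add_sub_cancel]
  rw [e2, e3]
  ring

/-- TORHYP, with the statement of PICENT as a hypothesis. -/
theorem torHyp_of (h : RH G Ω m)
    (hcent : ∀ x : G, IsPi m x → ∀ g : G, g ∈ centralizer ({x} : Set G) → g ≠ 1 → IsPi m g) :
    TorHyp G ((3 ^ (2 * m + 1)) ^ 2 - 3 ^ (2 * m + 1) + 1)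
      ((3 ^ (2 * m + 1)) ^ 3 * (3 ^ (2 * m + 1) + 1) * (3 ^ (2 * m + 1) - 1)) := by
  have hq3 : 3 ≤ 3 ^ (2 * m + 1) := (Cfsg.Agent.Lib.Helper71_RH_ORD6.qr_facts m).2.2.1
  have hcopN := Cfsg.Agent.Lib.Helper71_RH_ORD6.coprime_N m
  have hcop : Nat.Coprime ((3 ^ (2 * m + 1)) ^ 2 - 3 ^ (2 * m + 1) + 1)
      ((3 ^ (2 * m + 1)) ^ 3 * (3 ^ (2 * m + 1) + 1) * (3 ^ (2 * m + 1) - 1)) := by
    have h1 : Nat.Coprime ((3 ^ (2 * m + 1)) ^ 2 - 3 ^ (2 * m + 1) + 1) (3 ^ (2 * m + 1)) :=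
      hcopN.coprime_dvd_right ⟨2 * 3 * ((3 ^ (2 * m + 1) - 1) * (3 ^ (2 * m + 1) + 1)), by ring⟩
    have h2 : Nat.Coprime ((3 ^ (2 * m + 1)) ^ 2 - 3 ^ (2 * m + 1) + 1) (3 ^ (2 * m + 1) + 1) :=
      hcopN.coprime_dvd_right ⟨2 * 3 * 3 ^ (2 * m + 1) * (3 ^ (2 * m + 1) - 1), by ring⟩
    have h3 : Nat.Coprime ((3 ^ (2 * m + 1)) ^ 2 - 3 ^ (2 * m + 1) + 1) (3 ^ (2 * m + 1) - 1) :=
      hcopN.coprime_dvd_right ⟨2 * 3 * 3 ^ (2 * m + 1) * (3 ^ (2 * m + 1) + 1), by ring⟩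
    exact ((h1.pow_right 3).mul_right h2).mul_right h3
  refine ⟨?_, hcop, ?_, ?_, ?_, ?_⟩
  · rw [h.card_G]
    exact card_arith _ hq3
  · intro p x hp hpN hx
    exact h.gl7_cent p hp hpN x hx
  · intro p x hp hpN hx
    by_contra hnc
    obtain ⟨s, hs, hsC, hsM⟩ := Nat.Prime.not_coprime_iff_dvd.1 hnc
    haveI : Fact s.Prime := ⟨hs⟩
    obtain ⟨g, hg⟩ := exists_prime_orderOf_dvd_card' s hsC
    have hg1 : (g : G) ≠ 1 := by
      intro h1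
      have h2 : g = 1 := Subtype.ext h1
      rw [h2, orderOf_one] at hg
      exact hs.one_lt.ne hg
    have hx1 : x ≠ 1 := by
      rintro rfl
      rw [orderOf_one] at hx
      exact hp.one_lt.ne hx
    have hxpi : IsPi m x := ⟨hx1, by rw [hx]; exact hpN⟩
    have hgpi := hcent x hxpi (g : G) g.2 hg1
    have hs' : s ∣ (3 ^ (2 * m + 1)) ^ 2 - 3 ^ (2 * m + 1) + 1 := by
      have : orderOf (g : G) = s := by rw [Subgroup.orderOf_coe]; exact hg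
      rw [← this]
      exact hgpi.2
    have := Nat.dvd_gcd hs' hsM
    rw [hcop] at this
    exact hs.one_lt.ne' (Nat.dvd_one.1 this)
  · intro p x hp hpN hx
    exact h.gl7_norm p hp hpN x hx
  · intro p _ hpN P
    have hp : p.Prime := Fact.out
    have h7 := (Cfsg.Agent.Lib.Helper71_RH_ORD6.prime_dvd_N hp hpN).1
    exact h.sylp p (by omega) P

end Cfsg.Agent.Lib.Helper79_RH_TORHYPaux
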