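import Mathlib
import Cfsg.Agent.Lib.Helper37_RHDefs
import Cfsg.Agent.Lib.Helper26_RHTorDefs
import Cfsg.Agent.Lib.Helper26_RH_F1158aux
import Cfsg.Agent.Lib.Helper26_RH_CARDPI
import Cfsg.Agent.Lib.Helper3_RH_NORMT
import Cfsg.Agent.Lib.Helper79_RH_TORHYPaux
import Cfsg.Agent.Lib.Helper92_RH_PICENT

/-!
# Helper26_RH_F1158: REEHALL package F1158 (the statement of S1158 for an abstract `G` with `RH G Ω m`)
-/

set_option autoImplicit false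

namespace Cfsg.Agent.Lib.Helper26_RH_F1158

open MulAction Subgroup Cfsg.Agent.Lib.Helper37_RHDefs Cfsg.Agent.Lib
open Cfsg.Agent.Lib.Helper26_RHTorDefs

variable {G : Type*} [Group G] [Finite G] {Ω : Type*} [MulAction G Ω] {m : ℕ}

/-- PK TORHYP (via `Helper79_RH_TORHYPaux.torHyp_of` and `Helper92_RH_PICENT.cent_pi`). -/
theorem torHyp' (h : RH G Ω m) :
    TorHyp G ((3 ^ (2 * m + 1)) ^ 2 - 3 ^ (2 * m + 1) + 1)
      ((3 ^ (2 * m + 1)) ^ 3 * (3 ^ (2 * m + 1) + 1) * (3 ^ (2 * m + 1) - 1)) :=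
  Helper79_RH_TORHYPaux.torHyp_of h (fun x hx g hg hg1 => Helper92_RH_PICENT.cent_pi h x hx g hg hg1)

/-- PK F1158.  The statement of S1158 for an abstract `G`. -/
theorem f1158 (h : RH G Ω m) :
    ∀ kn ∈ ({((3 ^ (2 * m + 1) - 1) / 2, 2 * (3 ^ (2 * m + 1) - 1)),
        ((3 ^ (2 * m + 1) + 1) / 4, 6 * (3 ^ (2 * m + 1) + 1)),
        (3 ^ (2 * m + 1) - 3 ^ (m + 1) + 1, 6 * (3 ^ (2 * m + 1) - 3 ^ (m + 1) + 1)),
        (3 ^ (2 * m + 1) + 3 ^ (m + 1) + 1, 6 * (3 ^ (2 * m + 1) + 3 ^ (m + 1) + 1))} : Set (ℕ × ℕ)),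
      ∃ A : Subgroup G, IsCyclic A ∧ Nat.card A = kn.1 ∧
        Nat.card (Subgroup.normalizer (A : Set G)) = kn.2 ∧
        ∀ A₀ : Subgroup G, A₀ ≤ A → A₀ ≠ ⊥ →
          Subgroup.normalizer (A₀ : Set G) = Subgroup.normalizer (A : Set G) :=
  Helper26_RH_F1158aux.f1158_of h
    (fun D T V hT A₀ hA hA1 => Helper3_RH_NORMT.normalizer_torT h D T V hT A₀ hA hA1)
    (torHyp' h) (Helper26_RH_CARDPI.card_pi h)

end Cfsg.Agent.Lib.Helper26_RH_F1158
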