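import Mathlib
import Cfsg.Agent.Lib.Helper37_RHDefs
import Cfsg.Agent.Lib.Helper26_RHTorDefs
import Cfsg.Agent.Lib.Helper71_RH_ORD6

/-!
# Helper26_RH_F2357Daux: REEHALL package F2357D with TORHYP, CARDPI's `card_pi` and TOR8C's `card_order_eq`
(applied to them) as hypotheses (`f2357d_of`); `card_G_eq : |G| = q³ (q² - 1) a b`.
-/

set_option autoImplicit false

namespace Cfsg.Agent.Lib.Helper26_RH_F2357Daux

open MulAction Subgroup Cfsg.Agent.Lib.Helper37_RHDefs Cfsg.Agent.Lib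
open Cfsg.Agent.Lib.Helper26_RHTorDefs

variable {G : Type*} [Group G] [Finite G] {Ω : Type*} [MulAction G Ω] {m : ℕ}

/-- `|G| = q³ (q² - 1) a b`. -/
theorem card_G_eq (m : ℕ) :
    (3 ^ (2 * m + 1)) ^ 3 * (3 ^ (2 * m + 1) - 1) * ((3 ^ (2 * m + 1)) ^ 3 + 1) =
      (3 ^ (2 * m + 1)) ^ 3 * ((3 ^ (2 * m + 1)) ^ 2 - 1) *
        ((3 ^ (2 * m + 1) - 3 ^ (m + 1) + 1) * (3 ^ (2 * m + 1) + 3 ^ (m + 1) + 1)) := by
  rw [← Helper71_RH_ORD6.N_eq m]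
  have h1 : 1 ≤ 3 ^ (2 * m + 1) := Nat.one_le_pow _ _ (by norm_num)
  have h2 : 3 ^ (2 * m + 1) ≤ (3 ^ (2 * m + 1)) ^ 2 := by nlinarith
  have h3 : 1 ≤ (3 ^ (2 * m + 1)) ^ 2 := by nlinarith
  zify [h1, h2, h3]
  ring

/-- PK F2357D with the conclusion of `TOR8C.card_order_eq h.hm (torHyp h) (card_pi h)` as hypothesis. -/
theorem f2357d_of (h : RH G Ω m)
    (h8C : ∀ c ∈ ({3 ^ (2 * m + 1) - 3 ^ (m + 1) + 1, 3 ^ (2 * m + 1) + 3 ^ (m + 1) + 1} : Set ℕ),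
      ∀ i : ℕ, 1 < i → i ∣ c →
        6 * c * Nat.card {g : G // orderOf g = i} = Nat.totient i * Nat.card G) :
    (∀ i : ℕ, 1 < i → i ∣ 3 ^ (2 * m + 1) - 3 ^ (m + 1) + 1 →
      6 * Nat.card {g : G // orderOf g = i} =
        Nat.totient i * (3 ^ (2 * m + 1)) ^ 3 * ((3 ^ (2 * m + 1)) ^ 2 - 1) *
          (3 ^ (2 * m + 1) + 3 ^ (m + 1) + 1)) ∧
    (∀ i : ℕ, 1 < i → i ∣ 3 ^ (2 * m + 1) + 3 ^ (m + 1) + 1 →
      6 * Nat.card {g : G // orderOf g = i} =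
        Nat.totient i * (3 ^ (2 * m + 1)) ^ 3 * ((3 ^ (2 * m + 1)) ^ 2 - 1) *
          (3 ^ (2 * m + 1) - 3 ^ (m + 1) + 1)) := by
  have hcard : Nat.card G = (3 ^ (2 * m + 1)) ^ 3 * ((3 ^ (2 * m + 1)) ^ 2 - 1) *
        ((3 ^ (2 * m + 1) - 3 ^ (m + 1) + 1) * (3 ^ (2 * m + 1) + 3 ^ (m + 1) + 1)) := by
    rw [h.card_G]
    exact card_G_eq m
  constructor
  · intro i hi hd
    have key := h8C (3 ^ (2 * m + 1) - 3 ^ (m + 1) + 1)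
      (Or.inl rfl) i hi hd
    rw [hcard] at key
    have hpos : 0 < 3 ^ (2 * m + 1) - 3 ^ (m + 1) + 1 := Nat.succ_pos _
    apply Nat.eq_of_mul_eq_mul_left hpos
    rw [show (3 ^ (2 * m + 1) - 3 ^ (m + 1) + 1) * (6 * Nat.card {g : G // orderOf g = i}) =
      6 * (3 ^ (2 * m + 1) - 3 ^ (m + 1) + 1) * Nat.card {g : G // orderOf g = i} by ring, key]
    ring
  · intro i hi hd
    have key := h8C (3 ^ (2 * m + 1) + 3 ^ (m + 1) + 1)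
      (Or.inr rfl) i hi hd
    rw [hcard] at key
    have hpos : 0 < 3 ^ (2 * m + 1) + 3 ^ (m + 1) + 1 := Nat.succ_pos _
    apply Nat.eq_of_mul_eq_mul_left hpos
    rw [show (3 ^ (2 * m + 1) + 3 ^ (m + 1) + 1) * (6 * Nat.card {g : G // orderOf g = i}) =
      6 * (3 ^ (2 * m + 1) + 3 ^ (m + 1) + 1) * Nat.card {g : G // orderOf g = i} by ring, key]
    ring

end Cfsg.Agent.Lib.Helper26_RH_F2357Daux
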