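import Mathlib
import Cfsg.Agent.Lib.Helper26_RHTorDefs
import Cfsg.Agent.Lib.Helper82_RH_TOR1

/-!
# REEHALL market (architect helper26), common core of the packages TOR8B, TOR8C, TOR8D

Abstract form: `N = a * b` with `a`, `b` coprime and every torus of order `a` or `b`.
-/

set_option autoImplicit false

open Cfsg.Agent.Lib.Helper26_RHTorDefs

namespace Cfsg.Agent.Lib.Helper39_RH_TOR8Core

/-- In a finite cyclic group, two subgroups of the same order are equal. -/
theorem cyc_unique {H : Type*} [Group H] [Finite H] [IsCyclic H] (K1 K2 : Subgroup H)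
    (h : Nat.card ↥K1 = Nat.card ↥K2) : K1 = K2 := by
  classical
  have := Fintype.ofFinite H
  have hdpos : 0 < Nat.card ↥K1 := Nat.card_pos
  have key : ∀ K : Subgroup H, Nat.card ↥K = Nat.card ↥K1 →
      (K : Set H) = {a : H | a ^ Nat.card ↥K1 = 1} := by
    intro K hK
    apply Set.eq_of_subset_of_ncard_le
    · intro x hx
      have h1 : (⟨x, hx⟩ : ↥K) ^ Nat.card ↥K = 1 := pow_card_eq_one'
      rw [hK] at h1
      have h2 := congrArg Subtype.val h1
      simpa using h2
    · have h3 : ({a : H | a ^ Nat.card ↥K1 = 1} : Set H).ncard =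
          (Finset.univ.filter (fun a : H => a ^ Nat.card ↥K1 = 1)).card := by
        rw [← Set.ncard_coe_finset]
        congr 1
        ext x
        simp
      rw [h3]
      have h4 : (K : Set H).ncard = Nat.card ↥K1 := by
        rw [← hK]
        exact (Nat.card_coe_set_eq (K : Set H)).symm
      rw [h4]
      exact IsCyclic.card_pow_eq_one_le hdpos
    · exact Set.toFinite _
  exact SetLike.coe_injective ((key K1 rfl).trans (key K2 h.symm).symm)

/-- Inside a cyclic subgroup `T` of a finite group, two subgroups of the same order are equal. -/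
theorem cyc_unique_le {G : Type*} [Group G] [Finite G] (T : Subgroup G) [IsCyclic ↥T]
    (K1 K2 : Subgroup G) (h1 : K1 ≤ T) (h2 : K2 ≤ T) (h : Nat.card ↥K1 = Nat.card ↥K2) :
    K1 = K2 := by
  have e1 : Nat.card ↥(K1.subgroupOf T) = Nat.card ↥K1 :=
    Nat.card_congr (Subgroup.subgroupOfEquivOfLe h1).toEquiv
  have e2 : Nat.card ↥(K2.subgroupOf T) = Nat.card ↥K2 :=
    Nat.card_congr (Subgroup.subgroupOfEquivOfLe h2).toEquiv
  have h3 : K1.subgroupOf T = K2.subgroupOf T := cyc_unique _ _ (by rw [e1, e2, h])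
  have h4 := Subgroup.subgroupOf_inj.mp h3
  rwa [inf_of_le_left h1, inf_of_le_left h2] at h4

/-- A non-trivial element of order dividing `c ∈ {a, b}` has as centraliser a torus of order `c`. -/
theorem card_centralizer {G : Type*} [Group G] [Finite G] {N M a b : ℕ} (H : TorHyp G N M)
    (hab : Nat.Coprime a b) (hN : N = a * b)
    (h2 : ∀ C : Subgroup G, IsTorus N C → Nat.card ↥C = a ∨ Nat.card ↥C = b)
    {c : ℕ} (hc : c = a ∨ c = b) {g : G} (hg1 : g ≠ 1) (hg : orderOf g ∣ c) :
    IsTorus N (Subgroup.centralizer ({g} : Set G)) ∧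
      Nat.card ↥(Subgroup.centralizer ({g} : Set G)) = c := by
  have hcN : c ∣ N := by
    rcases hc with rfl | rfl
    · exact hN ▸ Dvd.intro _ rfl
    · exact hN ▸ Dvd.intro_left _ rfl
  have hT : IsTorus N (Subgroup.centralizer ({g} : Set G)) :=
    Helper82_RH_TOR1.isTorus_centralizer H g hg1 (hg.trans hcN)
  refine ⟨hT, ?_⟩
  have hmem : g ∈ Subgroup.centralizer ({g} : Set G) := by
    rw [Subgroup.mem_centralizer_iff]
    intro x hx
    rw [Set.mem_singleton_iff.mp hx]
  have hdvd : orderOf g ∣ Nat.card ↥(Subgroup.centralizer ({g} : Set G)) := by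
    have := orderOf_dvd_natCard (⟨g, hmem⟩ : ↥(Subgroup.centralizer ({g} : Set G)))
    rwa [Subgroup.orderOf_mk] at this
  have hne : orderOf g ≠ 1 := by
    intro h
    exact hg1 (orderOf_eq_one_iff.mp h)
  rcases h2 _ hT with h | h <;> rcases hc with rfl | rfl
  · exact h
  · exfalso
    rw [h] at hdvd
    exact hne (Nat.eq_one_of_dvd_coprimes hab hdvd hg)
  · exfalso
    rw [h] at hdvd
    exact hne (Nat.eq_one_of_dvd_coprimes hab hg hdvd)
  · exact h

end Cfsg.Agent.Lib.Helper39_RH_TOR8Core
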