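import Mathlib
import Cfsg.Agent.Lib.Helper26_RHTorDefs
import Cfsg.Agent.Lib.Helper71_RH_ORD6
import Cfsg.Agent.Lib.Helper39_RH_TOR8Core
import Cfsg.Agent.Lib.Helper82_RH_TOR1
import Cfsg.Agent.Lib.Helper79_RH_TOR2
import Cfsg.Agent.Lib.Helper82_RH_TOR4
import Cfsg.Agent.Lib.Helper50_RH_TOR6B
import Cfsg.Agent.Lib.Helper26_RH_TOR7

/-!
# REEHALL market (architect helper26), package TOR8C: the number of elements of order `i ∣ c`
-/

set_option autoImplicit false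

open Cfsg.Agent.Lib.Helper26_RHTorDefs

namespace Cfsg.Agent.Lib.Helper39_RH_TOR8C

open Cfsg.Agent.Lib.Helper39_RH_TOR8Core

/-- A finite cyclic group has `φ(i)` elements of order `i` for each `i` dividing its order. -/
theorem card_orderOf_cyclic {H : Type*} [Group H] [Finite H] [IsCyclic H] {i : ℕ}
    (hi : i ∣ Nat.card H) : Nat.card {x : H // orderOf x = i} = Nat.totient i := by
  classical
  have := Fintype.ofFinite H
  rw [Nat.card_eq_fintype_card, Fintype.card_subtype]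
  exact IsCyclic.card_orderOf_eq_totient (by rwa [← Nat.card_eq_fintype_card])

/-- Abstract form of TOR8C. -/
theorem card_order_eq_abs {G : Type*} [Group G] [Finite G] {N M a b : ℕ} (H : TorHyp G N M)
    (hab : Nat.Coprime a b) (hN : N = a * b)
    (h2 : ∀ C : Subgroup G, IsTorus N C → Nat.card ↥C = a ∨ Nat.card ↥C = b)
    {c : ℕ} (hc : c = a ∨ c = b)
    (h1 : ∃ A : Subgroup G, IsTorus N A ∧ Nat.card ↥A = c ∧
      Nat.card ↥(Subgroup.normalizer (A : Set G)) = 6 * c)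
    (i : ℕ) (hi : 1 < i) (hic : i ∣ c) :
    6 * c * Nat.card {g : G // orderOf g = i} = Nat.totient i * Nat.card G := by
  classical
  obtain ⟨A, hA, hAc, hAn⟩ := h1
  have hcount := Helper50_RH_TOR6B.card_tori_of_order H hA
  rw [hAc, hAn] at hcount
  -- the sigma type
  have hbij : Nat.card {g : G // orderOf g = i} =
      Nat.card (Σ C' : {C' : Subgroup G // IsTorus N C' ∧ Nat.card ↥C' = c},
        {x : ↥C'.1 // orderOf x = i}) := by
    symm
    refine Nat.card_congr (Equiv.ofBijective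
      (fun p => ⟨(p.2.1 : G), by rw [Subgroup.orderOf_coe]; exact p.2.2⟩) ⟨?_, ?_⟩)
    · rintro ⟨⟨C', hC', hC'c⟩, ⟨⟨x, hx⟩, hxo⟩⟩ ⟨⟨C'', hC'', hC''c⟩, ⟨⟨y, hy⟩, hyo⟩⟩ h
      have hxy : x = y := congrArg Subtype.val h
      subst hxy
      have hx1 : x ≠ 1 := by
        rintro rfl
        have : orderOf (⟨1, hx⟩ : ↥C') = 1 := orderOf_eq_one_iff.mpr rfl
        omega
      have hCC : C' = C'' := Helper82_RH_TOR1.eq_of_mem_of_mem H hC' hC'' hx hy hx1
      subst hCC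
      rfl
    · rintro ⟨g, hg⟩
      have hg1 : g ≠ 1 := by
        rintro rfl
        rw [orderOf_one] at hg
        omega
      obtain ⟨hT, hTc⟩ := card_centralizer H hab hN h2 hc hg1 (hg ▸ hic)
      have hmem : g ∈ Subgroup.centralizer ({g} : Set G) := by
        rw [Subgroup.mem_centralizer_iff]
        intro x hx
        rw [Set.mem_singleton_iff.mp hx]
      exact ⟨⟨⟨_, hT, hTc⟩, ⟨⟨g, hmem⟩, by rw [Subgroup.orderOf_mk]; exact hg⟩⟩, rfl⟩
  haveI : Fintype {C' : Subgroup G // IsTorus N C' ∧ Nat.card ↥C' = c} := Fintype.ofFinite _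
  have hsum : Nat.card (Σ C' : {C' : Subgroup G // IsTorus N C' ∧ Nat.card ↥C' = c},
        {x : ↥C'.1 // orderOf x = i}) =
      Nat.card {C' : Subgroup G // IsTorus N C' ∧ Nat.card ↥C' = c} * Nat.totient i := by
    rw [Nat.card_sigma]
    have : ∀ C' : {C' : Subgroup G // IsTorus N C' ∧ Nat.card ↥C' = c},
        Nat.card {x : ↥C'.1 // orderOf x = i} = Nat.totient i := by
      intro C'
      haveI : IsCyclic ↥C'.1 := Helper79_RH_TOR2.isCyclic H C'.2.1
      exact card_orderOf_cyclic (by rw [C'.2.2]; exact hic)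
    simp only [this, Finset.sum_const, Finset.card_univ, smul_eq_mul, Nat.card_eq_fintype_card]
  rw [hbij, hsum, ← hcount]
  ring

/-- Shape of the last two clauses of S2357. -/
theorem card_order_eq {G : Type*} [Group G] [Finite G] {m : ℕ} (hm : 1 ≤ m)
    (H : TorHyp G ((3 ^ (2 * m + 1)) ^ 2 - 3 ^ (2 * m + 1) + 1)
      ((3 ^ (2 * m + 1)) ^ 3 * (3 ^ (2 * m + 1) + 1) * (3 ^ (2 * m + 1) - 1)))
    (hT : 3 * Nat.card {g : G // g ≠ 1 ∧ orderOf g ∣ (3 ^ (2 * m + 1)) ^ 2 - 3 ^ (2 * m + 1) + 1} =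
      (3 ^ (2 * m + 1)) ^ 4 * (3 ^ (2 * m + 1) + 1) * (3 ^ (2 * m + 1) - 1) *
        (3 ^ (2 * m + 1) - 2)) (c : ℕ)
    (hc : c ∈ ({3 ^ (2 * m + 1) - 3 ^ (m + 1) + 1, 3 ^ (2 * m + 1) + 3 ^ (m + 1) + 1} : Set ℕ))
    (i : ℕ) (hi : 1 < i) (hic : i ∣ c) :
    6 * c * Nat.card {g : G // orderOf g = i} = Nat.totient i * Nat.card G := by
  obtain ⟨h1, h2⟩ := Helper26_RH_TOR7.two_classes hm H hT
  have hc' : c = 3 ^ (2 * m + 1) - 3 ^ (m + 1) + 1 ∨ c = 3 ^ (2 * m + 1) + 3 ^ (m + 1) + 1 := by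
    simpa using hc
  exact card_order_eq_abs H (Helper71_RH_ORD6.coprime_ab m) (Helper71_RH_ORD6.N_eq m) h2 hc'
    (h1 c hc) i hi hic

end Cfsg.Agent.Lib.Helper39_RH_TOR8C
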