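import Mathlib
import Cfsg.Agent.Lib.Helper37_RHDefs
import Cfsg.Agent.Lib.Helper26_RHTorDefs
import Cfsg.Agent.Lib.Helper26_RH_F2357Daux
import Cfsg.Agent.Lib.Helper26_RH_F1158
import Cfsg.Agent.Lib.Helper39_RH_TOR8C

/-!
# Helper26_RH_F2357D: REEHALL package F2357D (the last two clauses of S2357 for an abstract `G`)
-/

set_option autoImplicit false

namespace Cfsg.Agent.Lib.Helper26_RH_F2357D

open MulAction Subgroup Cfsg.Agent.Lib.Helper37_RHDefs Cfsg.Agent.Lib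
open Cfsg.Agent.Lib.Helper26_RHTorDefs

variable {G : Type*} [Group G] [Finite G] {Ω : Type*} [MulAction G Ω] {m : ℕ}

/-- PK F2357D.  The numbers of elements of order `i ∣ q ∓ r + 1`, `i > 1`. -/
theorem f2357d (h : RH G Ω m) :
    (∀ i : ℕ, 1 < i → i ∣ 3 ^ (2 * m + 1) - 3 ^ (m + 1) + 1 →
      6 * Nat.card {g : G // orderOf g = i} =
        Nat.totient i * (3 ^ (2 * m + 1)) ^ 3 * ((3 ^ (2 * m + 1)) ^ 2 - 1) *
          (3 ^ (2 * m + 1) + 3 ^ (m + 1) + 1)) ∧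
    (∀ i : ℕ, 1 < i → i ∣ 3 ^ (2 * m + 1) + 3 ^ (m + 1) + 1 →
      6 * Nat.card {g : G // orderOf g = i} =
        Nat.totient i * (3 ^ (2 * m + 1)) ^ 3 * ((3 ^ (2 * m + 1)) ^ 2 - 1) *
          (3 ^ (2 * m + 1) - 3 ^ (m + 1) + 1)) :=
  Helper26_RH_F2357Daux.f2357d_of h
    (fun c hc i hi hic => Helper39_RH_TOR8C.card_order_eq h.hm (Helper26_RH_F1158.torHyp' h)
      (Helper26_RH_CARDPI.card_pi h) c hc i hi hic)

end Cfsg.Agent.Lib.Helper26_RH_F2357D
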