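import Mathlib
import Cfsg.Prelude.Def_Spor_Ru

/-!
A `ℤ[i]`-basis (in Hermite normal form) of the scaled Conway–Wales lattice `ruLattice`, with the
coefficient tables expressing the images of the basis vectors under the four monomial maps and the
twenty generating vectors.  Generated data; checked by kernel evaluation.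
-/

set_option autoImplicit false
set_option maxRecDepth 100000
open Cfsg Cfsg.Spor

namespace Cfsg.Agent.Lib.Helper26_Ru

/-- The basis vectors, as a list. -/
def rBL : List RuVec := [
  ruOfArray ![![⟨-1, 0⟩, ⟨0, 0⟩, ⟨0, 0⟩, ⟨0, -1⟩],
      ![⟨0, 0⟩, ⟨-1, 0⟩, ⟨0, 0⟩, ⟨1, 0⟩],
      ![⟨0, 0⟩, ⟨0, 0⟩, ⟨-1, -1⟩, ⟨0, -2⟩],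
      ![⟨0, 1⟩, ⟨0, 0⟩, ⟨0, 0⟩, ⟨0, 1⟩],
      ![⟨0, 0⟩, ⟨1, 1⟩, ⟨1, 0⟩, ⟨1, -2⟩],
      ![⟨0, 1⟩, ⟨0, 1⟩, ⟨0, 2⟩, ⟨1, 1⟩],
      ![⟨0, 1⟩, ⟨1, 1⟩, ⟨1, 0⟩, ⟨-2, -2⟩]],
  ruOfArray ![![⟨0, 0⟩, ⟨-1, 0⟩, ⟨0, 0⟩, ⟨0, -1⟩],
      ![⟨0, 0⟩, ⟨-1, 0⟩, ⟨-1, 0⟩, ⟨0, 0⟩],
      ![⟨0, 0⟩, ⟨0, -1⟩, ⟨-1, -1⟩, ⟨1, 0⟩],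
      ![⟨0, 1⟩, ⟨-1, 0⟩, ⟨-1, 0⟩, ⟨0, -1⟩],
      ![⟨0, -1⟩, ⟨1, 1⟩, ⟨0, 0⟩, ⟨-1, 0⟩],
      ![⟨0, 0⟩, ⟨-1, -1⟩, ⟨0, -1⟩, ⟨2, 1⟩],
      ![⟨0, 0⟩, ⟨1, -1⟩, ⟨1, 0⟩, ⟨-2, 1⟩]],
  ruOfArray ![![⟨0, 0⟩, ⟨0, 0⟩, ⟨-1, 0⟩, ⟨0, -1⟩],
      ![⟨0, 0⟩, ⟨0, 0⟩, ⟨-1, 0⟩, ⟨1, 0⟩],
      ![⟨0, 0⟩, ⟨0, -1⟩, ⟨-1, -1⟩, ⟨0, 1⟩],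
      ![⟨0, 0⟩, ⟨0, 1⟩, ⟨0, -1⟩, ⟨0, 2⟩],
      ![⟨0, 0⟩, ⟨0, 1⟩, ⟨1, 1⟩, ⟨1, 0⟩],
      ![⟨1, 1⟩, ⟨1, -1⟩, ⟨1, 1⟩, ⟨2, 0⟩],
      ![⟨0, 0⟩, ⟨-2, 1⟩, ⟨2, -1⟩, ⟨-1, 1⟩]],
  ruOfArray ![![⟨0, 0⟩, ⟨0, 0⟩, ⟨0, 0⟩, ⟨1, 1⟩],
      ![⟨0, 0⟩, ⟨-1, 0⟩, ⟨-1, 0⟩, ⟨1, 1⟩],
      ![⟨0, 0⟩, ⟨0, 0⟩, ⟨-1, 0⟩, ⟨0, -1⟩],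
      ![⟨0, 0⟩, ⟨0, 0⟩, ⟨0, -1⟩, ⟨0, -1⟩],
      ![⟨0, -1⟩, ⟨1, -1⟩, ⟨1, 0⟩, ⟨-2, 0⟩],
      ![⟨1, 0⟩, ⟨-1, -1⟩, ⟨1, 1⟩, ⟨2, 1⟩],
      ![⟨2, 0⟩, ⟨-2, -1⟩, ⟨-1, -1⟩, ⟨-1, 0⟩]],
  ruOfArray ![![⟨0, 0⟩, ⟨0, 0⟩, ⟨0, 0⟩, ⟨0, 0⟩],
      ![⟨1, 0⟩, ⟨-1, 0⟩, ⟨-1, 0⟩, ⟨0, 1⟩],
      ![⟨0, 0⟩, ⟨0, 0⟩, ⟨-1, -1⟩, ⟨1, -1⟩],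
      ![⟨0, 0⟩, ⟨-1, 1⟩, ⟨0, 0⟩, ⟨1, 1⟩],
      ![⟨0, -1⟩, ⟨1, 0⟩, ⟨1, 0⟩, ⟨1, -2⟩],
      ![⟨1, 1⟩, ⟨0, 0⟩, ⟨1, 1⟩, ⟨0, -2⟩],
      ![⟨2, 0⟩, ⟨1, -1⟩, ⟨2, 0⟩, ⟨-1, -1⟩]],
  ruOfArray ![![⟨0, 0⟩, ⟨0, 0⟩, ⟨0, 0⟩, ⟨0, 0⟩],
      ![⟨0, 0⟩, ⟨1, -1⟩, ⟨0, 0⟩, ⟨1, 1⟩],
      ![⟨0, 0⟩, ⟨0, 0⟩, ⟨0, 0⟩, ⟨0, -2⟩],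
      ![⟨0, 1⟩, ⟨0, 1⟩, ⟨-1, 0⟩, ⟨0, -1⟩],
      ![⟨0, 0⟩, ⟨0, 0⟩, ⟨1, 1⟩, ⟨1, 1⟩],
      ![⟨0, 1⟩, ⟨-1, 0⟩, ⟨0, -1⟩, ⟨2, -1⟩],
      ![⟨2, 0⟩, ⟨-2, -2⟩, ⟨0, 2⟩, ⟨-2, -2⟩]],
  ruOfArray ![![⟨0, 0⟩, ⟨0, 0⟩, ⟨0, 0⟩, ⟨0, 0⟩],
      ![⟨0, 0⟩, ⟨0, 0⟩, ⟨1, -1⟩, ⟨1, 1⟩],
      ![⟨0, 0⟩, ⟨0, 0⟩, ⟨-1, -1⟩, ⟨1, -1⟩],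
      ![⟨0, 1⟩, ⟨0, 1⟩, ⟨0, -1⟩, ⟨1, 0⟩],
      ![⟨0, 0⟩, ⟨1, -1⟩, ⟨1, 1⟩, ⟨0, -2⟩],
      ![⟨1, 0⟩, ⟨-1, 0⟩, ⟨0, 1⟩, ⟨-1, 0⟩],
      ![⟨0, 0⟩, ⟨1, -1⟩, ⟨0, 2⟩, ⟨1, -1⟩]],
  ruOfArray ![![⟨0, 0⟩, ⟨0, 0⟩, ⟨0, 0⟩, ⟨0, 0⟩],
      ![⟨0, 0⟩, ⟨0, 0⟩, ⟨0, 0⟩, ⟨-2, 0⟩],
      ![⟨0, 0⟩, ⟨0, 0⟩, ⟨-1, -1⟩, ⟨1, -1⟩],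
      ![⟨0, 0⟩, ⟨0, 0⟩, ⟨0, 0⟩, ⟨0, 2⟩],
      ![⟨0, -1⟩, ⟨0, -1⟩, ⟨0, 1⟩, ⟨-1, 0⟩],
      ![⟨1, 0⟩, ⟨0, 1⟩, ⟨0, 1⟩, ⟨2, 1⟩],
      ![⟨1, 1⟩, ⟨-2, 0⟩, ⟨1, 1⟩, ⟨0, 0⟩]],
  ruOfArray ![![⟨0, 0⟩, ⟨0, 0⟩, ⟨0, 0⟩, ⟨0, 0⟩],
      ![⟨0, 0⟩, ⟨0, 0⟩, ⟨0, 0⟩, ⟨0, 0⟩],
      ![⟨0, 1⟩, ⟨0, -1⟩, ⟨-1, 0⟩, ⟨0, 1⟩],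
      ![⟨0, 0⟩, ⟨0, 0⟩, ⟨0, 0⟩, ⟨0, 0⟩],
      ![⟨0, -1⟩, ⟨-1, 0⟩, ⟨0, 1⟩, ⟨0, 1⟩],
      ![⟨1, 0⟩, ⟨1, 0⟩, ⟨1, 0⟩, ⟨0, -1⟩],
      ![⟨0, 1⟩, ⟨-1, 0⟩, ⟨-1, 0⟩, ⟨-1, 0⟩]],
  ruOfArray ![![⟨0, 0⟩, ⟨0, 0⟩, ⟨0, 0⟩, ⟨0, 0⟩],
      ![⟨0, 0⟩, ⟨0, 0⟩, ⟨0, 0⟩, ⟨0, 0⟩],
      ![⟨0, 0⟩, ⟨1, 1⟩, ⟨0, 0⟩, ⟨1, -1⟩],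
      ![⟨0, 0⟩, ⟨0, 0⟩, ⟨0, 0⟩, ⟨0, 2⟩],
      ![⟨0, -1⟩, ⟨0, 1⟩, ⟨1, 0⟩, ⟨-2, 1⟩],
      ![⟨0, 0⟩, ⟨0, -2⟩, ⟨-1, 1⟩, ⟨-1, -1⟩],
      ![⟨0, 1⟩, ⟨-1, 0⟩, ⟨2, -1⟩, ⟨0, -1⟩]],
  ruOfArray ![![⟨0, 0⟩, ⟨0, 0⟩, ⟨0, 0⟩, ⟨0, 0⟩],
      ![⟨0, 0⟩, ⟨0, 0⟩, ⟨0, 0⟩, ⟨0, 0⟩],
      ![⟨0, 0⟩, ⟨0, 0⟩, ⟨2, 0⟩, ⟨0, -2⟩],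
      ![⟨0, 0⟩, ⟨0, 0⟩, ⟨0, 0⟩, ⟨0, 0⟩],
      ![⟨0, 0⟩, ⟨2, 0⟩, ⟨0, 0⟩, ⟨0, -2⟩],
      ![⟨0, 0⟩, ⟨0, -2⟩, ⟨0, 2⟩, ⟨0, 0⟩],
      ![⟨0, 0⟩, ⟨0, -2⟩, ⟨0, 0⟩, ⟨0, -2⟩]],
  ruOfArray ![![⟨0, 0⟩, ⟨0, 0⟩, ⟨0, 0⟩, ⟨0, 0⟩],
      ![⟨0, 0⟩, ⟨0, 0⟩, ⟨0, 0⟩, ⟨0, 0⟩],
      ![⟨0, 0⟩, ⟨0, 0⟩, ⟨0, 0⟩, ⟨2, 2⟩],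
      ![⟨0, 0⟩, ⟨0, 0⟩, ⟨0, 0⟩, ⟨0, 0⟩],
      ![⟨0, 0⟩, ⟨0, 0⟩, ⟨0, 0⟩, ⟨-2, -2⟩],
      ![⟨1, 1⟩, ⟨1, -1⟩, ⟨1, 1⟩, ⟨1, 1⟩],
      ![⟨1, -1⟩, ⟨-1, 1⟩, ⟨-1, 1⟩, ⟨-1, -1⟩]],
  ruOfArray ![![⟨0, 0⟩, ⟨0, 0⟩, ⟨0, 0⟩, ⟨0, 0⟩],
      ![⟨0, 0⟩, ⟨0, 0⟩, ⟨0, 0⟩, ⟨0, 0⟩],
      ![⟨0, 0⟩, ⟨0, 0⟩, ⟨0, 0⟩, ⟨0, 0⟩],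
      ![⟨-1, -1⟩, ⟨-1, 1⟩, ⟨-1, -1⟩, ⟨1, 1⟩],
      ![⟨0, 0⟩, ⟨0, 0⟩, ⟨0, 0⟩, ⟨0, 0⟩],
      ![⟨0, 0⟩, ⟨0, -2⟩, ⟨0, 2⟩, ⟨2, -2⟩],
      ![⟨1, -1⟩, ⟨1, 1⟩, ⟨1, 1⟩, ⟨-1, -1⟩]],
  ruOfArray ![![⟨0, 0⟩, ⟨0, 0⟩, ⟨0, 0⟩, ⟨0, 0⟩],
      ![⟨0, 0⟩, ⟨0, 0⟩, ⟨0, 0⟩, ⟨0, 0⟩],
      ![⟨0, 0⟩, ⟨0, 0⟩, ⟨0, 0⟩, ⟨0, 0⟩],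
      ![⟨0, 0⟩, ⟨0, -2⟩, ⟨0, 0⟩, ⟨0, 2⟩],
      ![⟨0, 0⟩, ⟨0, 0⟩, ⟨0, 0⟩, ⟨-2, -2⟩],
      ![⟨0, 0⟩, ⟨0, 0⟩, ⟨0, 0⟩, ⟨0, 0⟩],
      ![⟨2, 0⟩, ⟨0, -2⟩, ⟨2, 2⟩, ⟨0, 0⟩]],
  ruOfArray ![![⟨0, 0⟩, ⟨0, 0⟩, ⟨0, 0⟩, ⟨0, 0⟩],
      ![⟨0, 0⟩, ⟨0, 0⟩, ⟨0, 0⟩, ⟨0, 0⟩],
      ![⟨0, 0⟩, ⟨0, 0⟩, ⟨0, 0⟩, ⟨0, 0⟩],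
      ![⟨0, 0⟩, ⟨0, 0⟩, ⟨2, 0⟩, ⟨0, 2⟩],
      ![⟨0, 0⟩, ⟨0, 0⟩, ⟨0, 0⟩, ⟨0, 0⟩],
      ![⟨1, 1⟩, ⟨1, -1⟩, ⟨-1, 1⟩, ⟨-1, 1⟩],
      ![⟨1, -1⟩, ⟨-1, 1⟩, ⟨1, 1⟩, ⟨-1, 1⟩]],
  ruOfArray ![![⟨0, 0⟩, ⟨0, 0⟩, ⟨0, 0⟩, ⟨0, 0⟩],
      ![⟨0, 0⟩, ⟨0, 0⟩, ⟨0, 0⟩, ⟨0, 0⟩],
      ![⟨0, 0⟩, ⟨0, 0⟩, ⟨0, 0⟩, ⟨0, 0⟩],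
      ![⟨0, 0⟩, ⟨0, 0⟩, ⟨0, 0⟩, ⟨-2, -2⟩],
      ![⟨0, 0⟩, ⟨2, 0⟩, ⟨0, 0⟩, ⟨0, -2⟩],
      ![⟨1, 1⟩, ⟨1, -1⟩, ⟨-1, 1⟩, ⟨-1, 1⟩],
      ![⟨1, -1⟩, ⟨-1, -1⟩, ⟨1, 1⟩, ⟨-1, -1⟩]],
  ruOfArray ![![⟨0, 0⟩, ⟨0, 0⟩, ⟨0, 0⟩, ⟨0, 0⟩],
      ![⟨0, 0⟩, ⟨0, 0⟩, ⟨0, 0⟩, ⟨0, 0⟩],
      ![⟨0, 0⟩, ⟨0, 0⟩, ⟨0, 0⟩, ⟨0, 0⟩],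
      ![⟨0, 0⟩, ⟨0, 0⟩, ⟨0, 0⟩, ⟨0, 0⟩],
      ![⟨1, 1⟩, ⟨1, 1⟩, ⟨1, 1⟩, ⟨-1, 1⟩],
      ![⟨0, 0⟩, ⟨0, 0⟩, ⟨0, 2⟩, ⟨2, 0⟩],
      ![⟨1, 1⟩, ⟨1, 1⟩, ⟨-1, -1⟩, ⟨1, -1⟩]],
  ruOfArray ![![⟨0, 0⟩, ⟨0, 0⟩, ⟨0, 0⟩, ⟨0, 0⟩],
      ![⟨0, 0⟩, ⟨0, 0⟩, ⟨0, 0⟩, ⟨0, 0⟩],
      ![⟨0, 0⟩, ⟨0, 0⟩, ⟨0, 0⟩, ⟨0, 0⟩],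
      ![⟨0, 0⟩, ⟨0, 0⟩, ⟨0, 0⟩, ⟨0, 0⟩],
      ![⟨0, 0⟩, ⟨-2, 2⟩, ⟨0, 0⟩, ⟨-2, -2⟩],
      ![⟨0, 0⟩, ⟨0, 0⟩, ⟨0, 0⟩, ⟨0, 0⟩],
      ![⟨2, 0⟩, ⟨-2, 0⟩, ⟨0, 2⟩, ⟨-2, 0⟩]],
  ruOfArray ![![⟨0, 0⟩, ⟨0, 0⟩, ⟨0, 0⟩, ⟨0, 0⟩],
      ![⟨0, 0⟩, ⟨0, 0⟩, ⟨0, 0⟩, ⟨0, 0⟩],
      ![⟨0, 0⟩, ⟨0, 0⟩, ⟨0, 0⟩, ⟨0, 0⟩],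
      ![⟨0, 0⟩, ⟨0, 0⟩, ⟨0, 0⟩, ⟨0, 0⟩],
      ![⟨0, 0⟩, ⟨0, 0⟩, ⟨-2, 0⟩, ⟨-2, 0⟩],
      ![⟨1, 1⟩, ⟨1, -1⟩, ⟨-1, 1⟩, ⟨-1, 1⟩],
      ![⟨1, -1⟩, ⟨-1, -1⟩, ⟨1, -1⟩, ⟨-1, 1⟩]],
  ruOfArray ![![⟨0, 0⟩, ⟨0, 0⟩, ⟨0, 0⟩, ⟨0, 0⟩],
      ![⟨0, 0⟩, ⟨0, 0⟩, ⟨0, 0⟩, ⟨0, 0⟩],
      ![⟨0, 0⟩, ⟨0, 0⟩, ⟨0, 0⟩, ⟨0, 0⟩],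
      ![⟨0, 0⟩, ⟨0, 0⟩, ⟨0, 0⟩, ⟨0, 0⟩],
      ![⟨0, 0⟩, ⟨0, 0⟩, ⟨0, 0⟩, ⟨4, 0⟩],
      ![⟨0, 0⟩, ⟨0, 0⟩, ⟨0, 0⟩, ⟨0, 0⟩],
      ![⟨0, 0⟩, ⟨0, 0⟩, ⟨0, 0⟩, ⟨0, 0⟩]],
  ruOfArray ![![⟨0, 0⟩, ⟨0, 0⟩, ⟨0, 0⟩, ⟨0, 0⟩],
      ![⟨0, 0⟩, ⟨0, 0⟩, ⟨0, 0⟩, ⟨0, 0⟩],
      ![⟨0, 0⟩, ⟨0, 0⟩, ⟨0, 0⟩, ⟨0, 0⟩],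
      ![⟨0, 0⟩, ⟨0, 0⟩, ⟨0, 0⟩, ⟨0, 0⟩],
      ![⟨0, 0⟩, ⟨0, 0⟩, ⟨0, 0⟩, ⟨0, 0⟩],
      ![⟨-2, 0⟩, ⟨0, -2⟩, ⟨0, 2⟩, ⟨0, -2⟩],
      ![⟨0, 0⟩, ⟨-2, -2⟩, ⟨0, 0⟩, ⟨-2, -2⟩]],
  ruOfArray ![![⟨0, 0⟩, ⟨0, 0⟩, ⟨0, 0⟩, ⟨0, 0⟩],
      ![⟨0, 0⟩, ⟨0, 0⟩, ⟨0, 0⟩, ⟨0, 0⟩],
      ![⟨0, 0⟩, ⟨0, 0⟩, ⟨0, 0⟩, ⟨0, 0⟩],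
      ![⟨0, 0⟩, ⟨0, 0⟩, ⟨0, 0⟩, ⟨0, 0⟩],
      ![⟨0, 0⟩, ⟨0, 0⟩, ⟨0, 0⟩, ⟨0, 0⟩],
      ![⟨0, 0⟩, ⟨2, 2⟩, ⟨0, 0⟩, ⟨2, -2⟩],
      ![⟨0, 0⟩, ⟨-2, -2⟩, ⟨2, 2⟩, ⟨0, 0⟩]],
  ruOfArray ![![⟨0, 0⟩, ⟨0, 0⟩, ⟨0, 0⟩, ⟨0, 0⟩],
      ![⟨0, 0⟩, ⟨0, 0⟩, ⟨0, 0⟩, ⟨0, 0⟩],
      ![⟨0, 0⟩, ⟨0, 0⟩, ⟨0, 0⟩, ⟨0, 0⟩],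
      ![⟨0, 0⟩, ⟨0, 0⟩, ⟨0, 0⟩, ⟨0, 0⟩],
      ![⟨0, 0⟩, ⟨0, 0⟩, ⟨0, 0⟩, ⟨0, 0⟩],
      ![⟨0, 0⟩, ⟨0, 0⟩, ⟨-2, -2⟩, ⟨2, -2⟩],
      ![⟨2, 0⟩, ⟨0, -2⟩, ⟨2, 0⟩, ⟨-2, 0⟩]],
  ruOfArray ![![⟨0, 0⟩, ⟨0, 0⟩, ⟨0, 0⟩, ⟨0, 0⟩],
      ![⟨0, 0⟩, ⟨0, 0⟩, ⟨0, 0⟩, ⟨0, 0⟩],
      ![⟨0, 0⟩, ⟨0, 0⟩, ⟨0, 0⟩, ⟨0, 0⟩],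
      ![⟨0, 0⟩, ⟨0, 0⟩, ⟨0, 0⟩, ⟨0, 0⟩],
      ![⟨0, 0⟩, ⟨0, 0⟩, ⟨0, 0⟩, ⟨0, 0⟩],
      ![⟨0, 0⟩, ⟨0, 0⟩, ⟨0, 0⟩, ⟨0, 4⟩],
      ![⟨0, 0⟩, ⟨0, 0⟩, ⟨0, 0⟩, ⟨0, 0⟩]],
  ruOfArray ![![⟨0, 0⟩, ⟨0, 0⟩, ⟨0, 0⟩, ⟨0, 0⟩],
      ![⟨0, 0⟩, ⟨0, 0⟩, ⟨0, 0⟩, ⟨0, 0⟩],
      ![⟨0, 0⟩, ⟨0, 0⟩, ⟨0, 0⟩, ⟨0, 0⟩],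
      ![⟨0, 0⟩, ⟨0, 0⟩, ⟨0, 0⟩, ⟨0, 0⟩],
      ![⟨0, 0⟩, ⟨0, 0⟩, ⟨0, 0⟩, ⟨0, 0⟩],
      ![⟨0, 0⟩, ⟨0, 0⟩, ⟨0, 0⟩, ⟨0, 0⟩],
      ![⟨-2, 2⟩, ⟨-2, -2⟩, ⟨2, 2⟩, ⟨-2, -2⟩]],
  ruOfArray ![![⟨0, 0⟩, ⟨0, 0⟩, ⟨0, 0⟩, ⟨0, 0⟩],
      ![⟨0, 0⟩, ⟨0, 0⟩, ⟨0, 0⟩, ⟨0, 0⟩],
      ![⟨0, 0⟩, ⟨0, 0⟩, ⟨0, 0⟩, ⟨0, 0⟩],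
      ![⟨0, 0⟩, ⟨0, 0⟩, ⟨0, 0⟩, ⟨0, 0⟩],
      ![⟨0, 0⟩, ⟨0, 0⟩, ⟨0, 0⟩, ⟨0, 0⟩],
      ![⟨0, 0⟩, ⟨0, 0⟩, ⟨0, 0⟩, ⟨0, 0⟩],
      ![⟨0, 0⟩, ⟨4, 0⟩, ⟨0, 0⟩, ⟨0, 0⟩]],
  ruOfArray ![![⟨0, 0⟩, ⟨0, 0⟩, ⟨0, 0⟩, ⟨0, 0⟩],
      ![⟨0, 0⟩, ⟨0, 0⟩, ⟨0, 0⟩, ⟨0, 0⟩],
      ![⟨0, 0⟩, ⟨0, 0⟩, ⟨0, 0⟩, ⟨0, 0⟩],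
      ![⟨0, 0⟩, ⟨0, 0⟩, ⟨0, 0⟩, ⟨0, 0⟩],
      ![⟨0, 0⟩, ⟨0, 0⟩, ⟨0, 0⟩, ⟨0, 0⟩],
      ![⟨0, 0⟩, ⟨0, 0⟩, ⟨0, 0⟩, ⟨0, 0⟩],
      ![⟨0, 0⟩, ⟨0, 0⟩, ⟨-4, 0⟩, ⟨0, 0⟩]],
  ruOfArray ![![⟨0, 0⟩, ⟨0, 0⟩, ⟨0, 0⟩, ⟨0, 0⟩],
      ![⟨0, 0⟩, ⟨0, 0⟩, ⟨0, 0⟩, ⟨0, 0⟩],
      ![⟨0, 0⟩, ⟨0, 0⟩, ⟨0, 0⟩, ⟨0, 0⟩],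
      ![⟨0, 0⟩, ⟨0, 0⟩, ⟨0, 0⟩, ⟨0, 0⟩],
      ![⟨0, 0⟩, ⟨0, 0⟩, ⟨0, 0⟩, ⟨0, 0⟩],
      ![⟨0, 0⟩, ⟨0, 0⟩, ⟨0, 0⟩, ⟨0, 0⟩],
      ![⟨0, 0⟩, ⟨0, 0⟩, ⟨0, 0⟩, ⟨4, 0⟩]]
]

/-- The `p`-th basis vector. -/
def rB (p : Fin 28) : RuVec := rBL.getD p.1 0

/-- A `ℤ[i]`-linear combination of basis vectors given by a coefficient list. -/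
def comb (L : List (GaussianInt × Fin 28)) : RuVec := (L.map fun a => a.1 • rB a.2).sum

/-- Coefficients of the image of the basis under `ruRj`. -/
def cRj : List (List (GaussianInt × Fin 28)) := [
  [(⟨0, 1⟩, 1), (⟨0, 1⟩, 2), (⟨-1, 1⟩, 3), (⟨0, -1⟩, 4), (⟨-1, 0⟩, 5), (⟨-1, 1⟩, 6), (⟨-2, 0⟩, 7), (⟨-1, 1⟩, 9), (⟨-3, -1⟩, 10), (⟨-2, -5⟩, 11), (⟨-2, 0⟩, 12), (⟨-2, -1⟩, 13), (⟨-3, -1⟩, 14), (⟨-4, -4⟩, 15), (⟨-3, 0⟩, 16), (⟨-3, -7⟩, 17), (⟨-5, -1⟩, 18), (⟨1, -12⟩, 19), (⟨-3, -12⟩, 20), (⟨6, -15⟩, 21), (⟨1, -21⟩, 22), (⟨21, -20⟩, 23), (⟨4, -26⟩, 24), (⟨35, -31⟩, 25), (⟨29,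 -30⟩, 26), (⟨17, -38⟩, 27)],
  [(⟨0, 1⟩, 0), (⟨0, 1⟩, 2), (⟨-1, 1⟩, 3), (⟨0, -1⟩, 4), (⟨-1, 0⟩, 5), (⟨-1, 0⟩, 6), (⟨-2, 0⟩, 7), (⟨0, -1⟩, 8), (⟨-2, -1⟩, 10), (⟨-1, -3⟩, 11), (⟨-1, 0⟩, 12), (⟨-1, -1⟩, 13), (⟨-2, -2⟩, 14), (⟨-2, -3⟩, 15), (⟨-1, -1⟩, 16), (⟨-2, -4⟩, 17), (⟨-1, -2⟩, 18), (⟨2, -9⟩, 19), (⟨-1, -8⟩, 20), (⟨7, -8⟩, 21), (⟨3, -11⟩, 22), (⟨14, -9⟩, 23), (⟨4, -16⟩, 24), (⟨24, -15⟩, 25), (⟨22, -17⟩, 26), (⟨13, -22⟩, 27)],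
  [(⟨0, 1⟩, 2), (⟨0, 1⟩, 6), (⟨-1, 1⟩, 7), (⟨0, -1⟩, 8), (⟨-2, 1⟩, 10), (⟨-2, -1⟩, 11), (⟨0, 1⟩, 13), (⟨-1, 1⟩, 14), (⟨-3, 1⟩, 15), (⟨-1, 0⟩, 16), (⟨-4, -1⟩, 17), (⟨-2, 0⟩, 18), (⟨-6, -6⟩, 19), (⟨-6, -3⟩, 20), (⟨-3, -8⟩, 21), (⟨-7, -8⟩, 22), (⟨2, -15⟩, 23), (⟨-6, -9⟩, 24), (⟨1, -22⟩, 25), (⟨-1, -18⟩, 26), (⟨-8, -18⟩, 27)],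
  [(⟨-1, -1⟩, 2), (⟨0, -1⟩, 3), (⟨0, -1⟩, 4), (⟨1, -1⟩, 5), (⟨1, -1⟩, 6), (⟨2, -1⟩, 7), (⟨0, -1⟩, 9), (⟨3, -2⟩, 10), (⟨6, 2⟩, 11), (⟨2, 0⟩, 12), (⟨2, -1⟩, 13), (⟨3, 0⟩, 14), (⟨5, 0⟩, 15), (⟨4, -1⟩, 16), (⟨7, 3⟩, 17), (⟨6, 0⟩, 18), (⟨11, 12⟩, 19), (⟨11, 9⟩, 20), (⟨4, 19⟩, 21), (⟨10, 20⟩, 22), (⟨-10, 32⟩, 23), (⟨12, 24⟩, 24), (⟨-12, 48⟩, 25), (⟨-7, 45⟩, 26), (⟨10, 44⟩, 27)],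
  [(⟨0, -1⟩, 4), (⟨1, -1⟩, 10), (⟨2, 0⟩, 11), (⟨1, 0⟩, 12), (⟨1, 0⟩, 13), (⟨1, 1⟩, 14), (⟨1, 1⟩, 15), (⟨1, 0⟩, 16), (⟨1, 1⟩, 17), (⟨0, 1⟩, 18), (⟨2, 4⟩, 19), (⟨1, 3⟩, 20), (⟨-1, 5⟩, 21), (⟨1, 4⟩, 22), (⟨-4, 6⟩, 23), (⟨2, 5⟩, 24), (⟨-6, 10⟩, 25), (⟨-4, 10⟩, 26), (⟨0, 10⟩, 27)],
  [(⟨1, 1⟩, 4), (⟨0, 1⟩, 5), (⟨0, 2⟩, 6), (⟨-2, 2⟩, 7), (⟨-3, 1⟩, 10), (⟨-5, -1⟩, 11), (⟨-1, 1⟩, 12), (⟨-1, 2⟩, 13), (⟨-2, 0⟩, 14), (⟨-4, 1⟩, 15), (⟨-2, 1⟩, 16), (⟨-5, -1⟩, 17), (⟨-4, 0⟩, 18), (⟨-11, -8⟩, 19), (⟨-9, -4⟩, 20), (⟨-4, -14⟩, 21), (⟨-11, -12⟩, 22), (⟨4, -23⟩, 23), (⟨-14, -14⟩, 24), (⟨-1,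 -36⟩, 25), (⟨-4, -31⟩, 26), (⟨-16, -30⟩, 27)],
  [(⟨0, 1⟩, 6), (⟨1, 0⟩, 16), (⟨0, 1⟩, 17), (⟨0, 2⟩, 18), (⟨-1, 1⟩, 19), (⟨-1, 2⟩, 20), (⟨-2, 1⟩, 21), (⟨-2, 1⟩, 22), (⟨-3, 0⟩, 23), (⟨-2, 1⟩, 24), (⟨-6, -1⟩, 25), (⟨-5, 0⟩, 26), (⟨-4, 1⟩, 27)],
  [(⟨-1, -1⟩, 6), (⟨0, -1⟩, 7), (⟨1, -2⟩, 10), (⟨3, -1⟩, 11), (⟨0, -1⟩, 12), (⟨0, -1⟩, 13), (⟨1, 0⟩, 14), (⟨1, -1⟩, 15), (⟨1, -1⟩, 16), (⟨2, -1⟩, 17), (⟨2, -1⟩, 18), (⟨7, 0⟩, 19), (⟨5, 1⟩, 20), (⟨5, 6⟩, 21), (⟨7, 3⟩, 22), (⟨3, 12⟩, 23), (⟨8, 4⟩, 24), (⟨6, 17⟩, 25), (⟨7, 13⟩, 26), (⟨12, 10⟩, 27)],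
  [(⟨0, -1⟩, 8), (⟨0, -1⟩, 16), (⟨1, -1⟩, 18), (⟨0, -1⟩, 19), (⟨1, -1⟩, 20), (⟨2, 1⟩, 21), (⟨2, 0⟩, 22), (⟨2, 2⟩, 23), (⟨2, 1⟩, 24), (⟨2, 4⟩, 25), (⟨2, 3⟩, 26), (⟨3, 1⟩, 27)],
  [(⟨1, 1⟩, 8), (⟨0, 1⟩, 9), (⟨1, 0⟩, 10), (⟨0, 1⟩, 14), (⟨-1, 1⟩, 15), (⟨-1, 2⟩, 16), (⟨-2, -1⟩, 17), (⟨-1, 1⟩, 18), (⟨-1, 0⟩, 19), (⟨-3, 1⟩, 20), (⟨-4, -1⟩, 21), (⟨-4, -1⟩, 22), (⟨-4, -5⟩, 23), (⟨-5, -3⟩, 24), (⟨-5, -9⟩, 25), (⟨-4, -7⟩, 26), (⟨-7, -5⟩, 27)],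
  [(⟨0, -1⟩, 10), (⟨1, 1⟩, 16), (⟨0, 2⟩, 18), (⟨1, 1⟩, 19), (⟨-2, 1⟩, 20), (⟨-2, -1⟩, 21), (⟨-2, 0⟩, 22), (⟨-3, -2⟩, 23), (⟨-2, 0⟩, 24), (⟨-3, -4⟩, 25), (⟨-2, -2⟩, 26), (⟨-3, -1⟩, 27)],
  [(⟨1, 1⟩, 10), (⟨0, 1⟩, 11), (⟨0, 1⟩, 17), (⟨1, 1⟩, 18), (⟨-1, 2⟩, 19), (⟨-1, 1⟩, 20), (⟨-2, 2⟩, 21), (⟨-2, 2⟩, 22), (⟨-5, 0⟩, 23), (⟨-2, 2⟩, 24), (⟨-6, 1⟩, 25), (⟨-5, 1⟩, 26), (⟨-4, 2⟩, 27)],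
  [(⟨1, 0⟩, 12), (⟨1, 1⟩, 13), (⟨1, 1⟩, 14), (⟨0, 2⟩, 15), (⟨-1, 1⟩, 17), (⟨-2, 1⟩, 19), (⟨-2, 2⟩, 20), (⟨-3, 1⟩, 21), (⟨-3, 2⟩, 22), (⟨-5, -1⟩, 23), (⟨-2, 2⟩, 24), (⟨-8, -1⟩, 25), (⟨-6, 2⟩, 26), (⟨-6, 2⟩, 27)],
  [(⟨-1, 1⟩, 12), (⟨-1, 0⟩, 13), (⟨-1, 1⟩, 14), (⟨-2, 0⟩, 15), (⟨-1, -1⟩, 17), (⟨1, 1⟩, 18), (⟨0, -2⟩, 19), (⟨-2, 0⟩, 20), (⟨-3, -2⟩, 21), (⟨-3, -2⟩, 22), (⟨-2, -5⟩, 23), (⟨-3, -3⟩, 24), (⟨-1, -8⟩, 25), (⟨-3, -8⟩, 26), (⟨-4, -6⟩, 27)],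
  [(⟨0, 1⟩, 14), (⟨-1, 0⟩, 20), (⟨-1, 0⟩, 21), (⟨-1, -1⟩, 22), (⟨-1, -2⟩, 23), (⟨0, -1⟩, 25), (⟨-1, -1⟩, 26), (⟨-1, -1⟩, 27)],
  [(⟨-1, -1⟩, 14), (⟨0, -1⟩, 15), (⟨1, 1⟩, 16), (⟨0, 2⟩, 18), (⟨1, 1⟩, 19), (⟨-1, -1⟩, 20), (⟨0, -1⟩, 21), (⟨0, -1⟩, 22), (⟨0, -1⟩, 23), (⟨-1, 0⟩, 24), (⟨0, -2⟩, 25), (⟨1, -2⟩, 26), (⟨-1, -2⟩, 27)],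
  [(⟨0, 1⟩, 16), (⟨-1, 1⟩, 22), (⟨-2, 0⟩, 23), (⟨-1, 0⟩, 24), (⟨-1, -1⟩, 25), (⟨-1, 0⟩, 26), (⟨-1, 0⟩, 27)],
  [(⟨-2, 0⟩, 16), (⟨0, -1⟩, 17), (⟨-1, -1⟩, 22), (⟨0, -2⟩, 23), (⟨0, -2⟩, 24), (⟨2, -1⟩, 25), (⟨2, -1⟩, 26), (⟨1, -3⟩, 27)],
  [(⟨1, 0⟩, 18), (⟨1, 0⟩, 19), (⟨0, 1⟩, 21), (⟨-1, 0⟩, 23), (⟨0, 1⟩, 25)],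
  [(⟨-2, 0⟩, 18), (⟨-1, 0⟩, 19), (⟨-1, -1⟩, 20), (⟨0, -2⟩, 21), (⟨0, -2⟩, 22), (⟨2, -2⟩, 23), (⟨0, -1⟩, 24), (⟨2, -3⟩, 25), (⟨1, -2⟩, 26), (⟨0, -2⟩, 27)],
  [(⟨-1, 0⟩, 20), (⟨-1, -1⟩, 21), (⟨-1, -1⟩, 23), (⟨-1, 0⟩, 24), (⟨-1, -2⟩, 25), (⟨0, -1⟩, 26), (⟨-1, -1⟩, 27)],
  [(⟨1, -1⟩, 20), (⟨1, 0⟩, 21), (⟨1, 1⟩, 22), (⟨1, 1⟩, 23), (⟨-1, 1⟩, 24), (⟨0, 1⟩, 25), (⟨0, 1⟩, 26)],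
  [(⟨0, 1⟩, 22), (⟨-1, 0⟩, 24), (⟨-1, 0⟩, 25), (⟨-1, 0⟩, 27)],
  [(⟨-1, -1⟩, 22), (⟨0, -1⟩, 23), (⟨0, -1⟩, 24), (⟨1, -1⟩, 25), (⟨0, -1⟩, 26), (⟨0, -1⟩, 27)],
  [(⟨-1, 0⟩, 24), (⟨-1, -1⟩, 25), (⟨-1, -1⟩, 27)],
  [(⟨1, -1⟩, 24), (⟨1, 0⟩, 25), (⟨1, 0⟩, 26), (⟨1, 0⟩, 27)],
  [(⟨1, 0⟩, 27)],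
  [(⟨-1, 0⟩, 26)]
]

/-- Coefficients of the image of the basis under `ruRk`. -/
def cRk : List (List (GaussianInt × Fin 28)) := [
  [(⟨0, -1⟩, 1), (⟨0, 1⟩, 2), (⟨0, -1⟩, 5), (⟨1, 0⟩, 7), (⟨-1, -1⟩, 8), (⟨1, 0⟩, 9), (⟨1, 1⟩, 11), (⟨1, -1⟩, 12), (⟨2, 0⟩, 13), (⟨0, -1⟩, 14), (⟨2, 2⟩, 15), (⟨2, 0⟩, 16), (⟨1, 3⟩, 17), (⟨2, 1⟩, 18), (⟨1, 5⟩, 19), (⟨2, 4⟩, 20), (⟨-2, 5⟩, 21), (⟨0, 8⟩, 22), (⟨-6, 7⟩, 23), (⟨0, 9⟩, 24), (⟨-11, 13⟩, 25), (⟨-6, 12⟩, 26), (⟨-4, 14⟩, 27)],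
  [(⟨0, -1⟩, 1), (⟨0, -1⟩, 4), (⟨1, -1⟩, 5), (⟨1, -1⟩, 6), (⟨3, 0⟩, 7), (⟨-1, -1⟩, 8), (⟨0, -1⟩, 9), (⟨3, 0⟩, 10), (⟨4, 4⟩, 11), (⟨3, 0⟩, 12), (⟨3, 0⟩, 13), (⟨2, 1⟩, 14), (⟨5, 3⟩, 15), (⟨3, -1⟩, 16), (⟨5, 6⟩, 17), (⟨4, 1⟩, 18), (⟨3, 15⟩, 19), (⟨5, 11⟩, 20), (⟨-5, 16⟩, 21), (⟨2, 20⟩, 22), (⟨-19, 22⟩, 23), (⟨4, 25⟩, 24), (⟨-26, 37⟩, 25), (⟨-20, 37⟩, 26), (⟨-6, 41⟩, 27)],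
  [(⟨0, 1⟩, 0), (⟨0, -1⟩, 1), (⟨0, -1⟩, 4), (⟨0, -1⟩, 5), (⟨1, -1⟩, 6), (⟨2, 0⟩, 7), (⟨-1, -1⟩, 8), (⟨0, -2⟩, 9), (⟨2, 0⟩, 10), (⟨3, 3⟩, 11), (⟨1, 0⟩, 12), (⟨3, -1⟩, 13), (⟨1, 0⟩, 14), (⟨4, 1⟩, 15), (⟨3, -1⟩, 16), (⟨5, 5⟩, 17), (⟨4, 0⟩, 18), (⟨4, 11⟩, 19), (⟨6, 6⟩, 20), (⟨0, 11⟩, 21), (⟨5, 15⟩, 22), (⟨-11, 17⟩, 23), (⟨6, 19⟩, 24), (⟨-12, 32⟩, 25), (⟨-9, 29⟩, 26), (⟨0, 32⟩, 27)],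
  [(⟨1, 1⟩, 1), (⟨0, 1⟩, 3), (⟨0, -1⟩, 4), (⟨0, 1⟩, 6), (⟨0, 1⟩, 7), (⟨-1, 0⟩, 8), (⟨0, 1⟩, 9), (⟨-1, 2⟩, 10), (⟨-3, 1⟩, 11), (⟨-1, 2⟩, 12), (⟨-2, 1⟩, 13), (⟨-2, 1⟩, 14), (⟨-4, 0⟩, 15), (⟨-1, 2⟩, 16), (⟨-5, -1⟩, 17), (⟨-3, 1⟩, 18), (⟨-7, -4⟩, 19), (⟨-7, -4⟩, 20), (⟨-6, -9⟩, 21), (⟨-10, -8⟩, 22), (⟨-4, -18⟩, 23), (⟨-13, -11⟩, 24), (⟨-3, -31⟩, 25), (⟨-7, -28⟩, 26), (⟨-15, -23⟩, 27)],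
  [(⟨0, -1⟩, 4), (⟨1, -1⟩, 5), (⟨2, 0⟩, 7), (⟨-1, -1⟩, 8), (⟨1, 0⟩, 10), (⟨2, 2⟩, 11), (⟨1, 0⟩, 12), (⟨2, -1⟩, 13), (⟨1, 0⟩, 14), (⟨3, 1⟩, 15), (⟨2, 0⟩, 16), (⟨3, 3⟩, 17), (⟨2, 1⟩, 18), (⟨3, 8⟩, 19), (⟨4, 5⟩, 20), (⟨-1, 9⟩, 21), (⟨1, 10⟩, 22), (⟨-9, 12⟩, 23), (⟨4, 12⟩, 24), (⟨-9, 21⟩, 25), (⟨-7, 20⟩, 26), (⟨0, 21⟩, 27)],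
  [(⟨0, -1⟩, 5), (⟨1, 1⟩, 9), (⟨1, 0⟩, 12), (⟨0, 1⟩, 15), (⟨0, 2⟩, 16), (⟨-2, 1⟩, 17), (⟨0, 1⟩, 18), (⟨-1, 1⟩, 19), (⟨-1, 1⟩, 20), (⟨-2, 2⟩, 21), (⟨-3, 2⟩, 22), (⟨-4, 0⟩, 23), (⟨-4, 0⟩, 24), (⟨-6, -3⟩, 25), (⟨-4, -2⟩, 26), (⟨-6, -1⟩, 27)],
  [(⟨1, 1⟩, 4), (⟨0, 1⟩, 6), (⟨-1, 1⟩, 7), (⟨-1, -1⟩, 8), (⟨-2, 1⟩, 10), (⟨-3, 0⟩, 11), (⟨-1, 1⟩, 12), (⟨-1, 1⟩, 13), (⟨-2, 0⟩, 14), (⟨-3, 0⟩, 15), (⟨-1, 1⟩, 16), (⟨-3, -1⟩, 17), (⟨-1, 0⟩, 18), (⟨-6, -5⟩, 19), (⟨-5, -3⟩, 20), (⟨-2, -9⟩, 21), (⟨-7, -7⟩, 22), (⟨2, -14⟩, 23), (⟨-7, -8⟩, 24), (⟨1, -22⟩, 25), (⟨-1, -19⟩, 26), (⟨-9, -18⟩,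 27)],
  [(⟨1, 1⟩, 5), (⟨0, 1⟩, 7), (⟨-1, -1⟩, 8), (⟨-1, 0⟩, 10), (⟨-1, 1⟩, 11), (⟨0, 1⟩, 12), (⟨1, 1⟩, 13), (⟨0, 1⟩, 14), (⟨-1, 2⟩, 15), (⟨-1, 0⟩, 16), (⟨-2, 0⟩, 17), (⟨-1, 0⟩, 18), (⟨-4, -1⟩, 19), (⟨-4, 1⟩, 20), (⟨-5, -3⟩, 21), (⟨-7, -3⟩, 22), (⟨-5, -9⟩, 23), (⟨-4, -2⟩, 24), (⟨-5, -10⟩, 25), (⟨-7, -7⟩, 26), (⟨-10, -5⟩, 27)],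
  [(⟨-1, 0⟩, 8), (⟨-1, -1⟩, 9), (⟨-1, 0⟩, 10), (⟨0, -1⟩, 11), (⟨0, -1⟩, 15), (⟨-1, -1⟩, 16), (⟨1, -1⟩, 17), (⟨-1, -2⟩, 18), (⟨0, -2⟩, 19), (⟨1, -3⟩, 20), (⟨4, -3⟩, 21), (⟨3, -4⟩, 22), (⟨7, -1⟩, 23), (⟨5, -3⟩, 24), (⟨12, 0⟩, 25), (⟨9, 0⟩, 26), (⟨8, -4⟩, 27)],
  [(⟨0, 1⟩, 9), (⟨1, 0⟩, 13), (⟨0, 1⟩, 15), (⟨0, 1⟩, 16), (⟨-2, 0⟩, 17), (⟨-1, 1⟩, 18), (⟨-1, 1⟩, 19), (⟨-1, 1⟩, 20), (⟨-2, 0⟩, 21), (⟨-3, 0⟩, 22), (⟨-3, -2⟩, 23), (⟨-3, -2⟩, 24), (⟨-4, -4⟩, 25), (⟨-2, -3⟩, 26), (⟨-5, -2⟩, 27)],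
  [(⟨2, 0⟩, 8), (⟨2, 2⟩, 9), (⟨1, 0⟩, 10), (⟨-1, 1⟩, 11), (⟨0, 2⟩, 15), (⟨1, 3⟩, 16), (⟨-3, 1⟩, 17), (⟨0, 4⟩, 18), (⟨-1, 2⟩, 19), (⟨-2, 3⟩, 20), (⟨-6, 3⟩, 21), (⟨-7, 4⟩, 22), (⟨-10, -3⟩, 23), (⟨-11, 2⟩, 24), (⟨-17, -6⟩, 25), (⟨-13, -5⟩, 26), (⟨-15, 0⟩, 27)],
  [(⟨-2, 0⟩, 9), (⟨0, -1⟩, 11), (⟨-1, -1⟩, 15), (⟨-1, -1⟩, 16), (⟨1, -3⟩, 17), (⟨-1, -1⟩, 18), (⟨1, -2⟩, 19), (⟨1, -3⟩, 20), (⟨2, -3⟩, 21), (⟨3, -5⟩, 22), (⟨7, -2⟩, 23), (⟨6, -4⟩, 24), (⟨12, -1⟩, 25), (⟨9, -1⟩, 26), (⟨9, -5⟩, 27)],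
  [(⟨0, 1⟩, 12), (⟨1, 0⟩, 20), (⟨0, 2⟩, 21), (⟨0, 1⟩, 22), (⟨-2, 2⟩, 23), (⟨0, 1⟩, 24), (⟨-1, 2⟩, 25), (⟨-2, 2⟩, 26), (⟨0, 2⟩, 27)],
  [(⟨1, 0⟩, 13), (⟨1, 1⟩, 15), (⟨0, 1⟩, 19), (⟨0, 1⟩, 20), (⟨-1, 1⟩, 21), (⟨-1, 1⟩, 22), (⟨-2, 0⟩, 23), (⟨1, 1⟩, 24), (⟨-2, 2⟩, 25), (⟨-1, 2⟩, 26), (⟨-1, 2⟩, 27)],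
  [(⟨-1, -1⟩, 12), (⟨1, -1⟩, 13), (⟨0, -1⟩, 14), (⟨1, -1⟩, 15), (⟨1, 0⟩, 17), (⟨2, 1⟩, 19), (⟨2, 0⟩, 20), (⟨2, 0⟩, 21), (⟨2, 0⟩, 22), (⟨2, 1⟩, 23), (⟨3, 0⟩, 24), (⟨5, 5⟩, 25), (⟨5, 2⟩, 26), (⟨4, 2⟩, 27)],
  [(⟨-1, 1⟩, 13), (⟨-1, 0⟩, 15), (⟨0, -1⟩, 17), (⟨0, -1⟩, 19), (⟨0, -1⟩, 21), (⟨0, -1⟩, 22), (⟨1, -1⟩, 23), (⟨0, -1⟩, 24), (⟨1, -2⟩, 25), (⟨0, -2⟩, 26), (⟨0, -2⟩, 27)],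
  [(⟨0, 1⟩, 16), (⟨-1, 0⟩, 17), (⟨1, 0⟩, 20), (⟨0, 1⟩, 21), (⟨0, 1⟩, 22), (⟨-1, 1⟩, 23), (⟨-2, 0⟩, 24), (⟨-2, 0⟩, 25), (⟨-1, -1⟩, 26), (⟨-1, 0⟩, 27)],
  [(⟨0, -1⟩, 17), (⟨1, 0⟩, 24), (⟨1, 0⟩, 25), (⟨1, 0⟩, 26)],
  [(⟨-1, -1⟩, 16), (⟨0, -1⟩, 17), (⟨0, -1⟩, 18), (⟨0, -1⟩, 19), (⟨1, 0⟩, 20), (⟨1, 0⟩, 21), (⟨1, -1⟩, 22), (⟨2, 0⟩, 23), (⟨2, -2⟩, 24), (⟨4, 1⟩, 25), (⟨3, 0⟩, 26), (⟨3, -1⟩, 27)],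
  [(⟨1, 1⟩, 17), (⟨0, 1⟩, 19), (⟨0, 1⟩, 24), (⟨0, 1⟩, 25), (⟨-1, 1⟩, 26), (⟨0, 1⟩, 27)],
  [(⟨1, 0⟩, 20), (⟨1, 1⟩, 21), (⟨1, 1⟩, 22), (⟨0, 2⟩, 23), (⟨0, 1⟩, 24), (⟨0, 3⟩, 25), (⟨0, 2⟩, 26), (⟨0, 1⟩, 27)],
  [(⟨0, 1⟩, 21), (⟨1, 0⟩, 24), (⟨0, 1⟩, 25), (⟨0, 1⟩, 26)],
  [(⟨-1, 1⟩, 20), (⟨-1, 1⟩, 21), (⟨-1, 0⟩, 22), (⟨-2, 0⟩, 23), (⟨0, -1⟩, 24), (⟨-1, -1⟩, 25), (⟨-1, -1⟩, 26), (⟨-1, -1⟩, 27)],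
  [(⟨-1, -1⟩, 21), (⟨0, -1⟩, 23), (⟨0, -1⟩, 25), (⟨0, -1⟩, 26)],
  [(⟨1, 0⟩, 24), (⟨1, 1⟩, 25), (⟨1, 1⟩, 26)],
  [(⟨1, 0⟩, 27)],
  [(⟨-1, 1⟩, 24), (⟨-1, 0⟩, 25), (⟨-1, 0⟩, 26), (⟨-1, 0⟩, 27)],
  [(⟨-1, 0⟩, 25)]
]

/-- Coefficients of the image of the basis under `ruSign`. -/
def cSign : List (List (GaussianInt × Fin 28)) := [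
  [(⟨-1, 0⟩, 0), (⟨-1, -1⟩, 5), (⟨-1, -1⟩, 7), (⟨-1, -2⟩, 10), (⟨0, -4⟩, 11), (⟨0, -1⟩, 12), (⟨0, -1⟩, 13), (⟨0, -1⟩, 14), (⟨1, -2⟩, 15), (⟨0, -1⟩, 16), (⟨2, -3⟩, 17), (⟨0, -2⟩, 18), (⟨7, -5⟩, 19), (⟨5, -5⟩, 20), (⟨10, -1⟩, 21), (⟨9, -4⟩, 22), (⟨16, 5⟩, 23), (⟨11, -5⟩, 24), (⟨22, 7⟩, 25), (⟨22, 5⟩, 26), (⟨21, -4⟩, 27)],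
  [(⟨-1, 0⟩, 1), (⟨-1, -1⟩, 5), (⟨-1, -1⟩, 6), (⟨0, -2⟩, 7), (⟨-1, -1⟩, 9), (⟨0, -3⟩, 10), (⟨4, -4⟩, 11), (⟨0, -2⟩, 12), (⟨0, -2⟩, 13), (⟨1, -2⟩, 14), (⟨3, -4⟩, 15), (⟨0, -3⟩, 16), (⟨6, -4⟩, 17), (⟨2, -4⟩, 18), (⟨13, -2⟩, 19), (⟨12, -4⟩, 20), (⟨16, 6⟩, 21), (⟨20, 0⟩, 22), (⟨20, 21⟩, 23), (⟨24, 1⟩, 24), (⟨32, 31⟩, 25), (⟨32, 24⟩, 26), (⟨39, 11⟩, 27)],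
  [(⟨-1, 0⟩, 2), (⟨-1, -1⟩, 6), (⟨-1, -1⟩, 7), (⟨-1, -1⟩, 9), (⟨-1, -3⟩, 10), (⟨3, -3⟩, 11), (⟨0, -1⟩, 12), (⟨0, -1⟩, 13), (⟨1, -1⟩, 14), (⟨1, -3⟩, 15), (⟨0, -2⟩, 16), (⟨4, -4⟩, 17), (⟨0, -4⟩, 18), (⟨10, -4⟩, 19), (⟨7, -4⟩, 20), (⟨12, 1⟩, 21), (⟨14, -4⟩, 22), (⟨17, 12⟩, 23), (⟨18, -2⟩, 24), (⟨28, 17⟩, 25), (⟨25, 13⟩, 26), (⟨29, 3⟩, 27)],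
  [(⟨-1, 0⟩, 3), (⟨-1, -1⟩, 5), (⟨-1, -1⟩, 6), (⟨-1, -3⟩, 7), (⟨0, -3⟩, 10), (⟨3, -4⟩, 11), (⟨0, -2⟩, 12), (⟨0, -2⟩, 13), (⟨1, -2⟩, 14), (⟨3, -4⟩, 15), (⟨0, -3⟩, 16), (⟨4, -3⟩, 17), (⟨2, -4⟩, 18), (⟨11, -3⟩, 19), (⟨11, -5⟩, 20), (⟨16, 6⟩, 21), (⟨19, -1⟩, 22), (⟨21, 19⟩, 23), (⟨22, -1⟩, 24), (⟨31, 28⟩, 25), (⟨32, 20⟩, 26), (⟨37, 8⟩, 27)],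
  [(⟨1, 0⟩, 4), (⟨1, 1⟩, 13), (⟨1, 1⟩, 15), (⟨0, 1⟩, 17), (⟨-1, 2⟩, 19), (⟨1, 2⟩, 20), (⟨-1, 2⟩, 21), (⟨0, 2⟩, 22), (⟨-1, 2⟩, 23), (⟨0, 4⟩, 24), (⟨-6, 6⟩, 25), (⟨-3, 5⟩, 26), (⟨-2, 6⟩, 27)],
  [(⟨1, 0⟩, 5), (⟨1, 1⟩, 12), (⟨1, 1⟩, 13), (⟨1, 1⟩, 14), (⟨0, 2⟩, 15), (⟨-1, 1⟩, 17), (⟨-2, 1⟩, 19), (⟨-1, 3⟩, 20), (⟨-3, 2⟩, 21), (⟨-4, 2⟩, 22), (⟨-5, 1⟩, 23), (⟨-2, 3⟩, 24), (⟨-8, 1⟩, 25), (⟨-8, 4⟩, 26), (⟨-6, 5⟩, 27)],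
  [(⟨1, 0⟩, 6), (⟨1, 1⟩, 12), (⟨1, 1⟩, 13), (⟨0, 2⟩, 14), (⟨0, 2⟩, 15), (⟨-1, 1⟩, 17), (⟨-2, 1⟩, 19), (⟨-1, 2⟩, 20), (⟨-3, 1⟩, 21), (⟨-3, 2⟩, 22), (⟨-4, -1⟩, 23), (⟨-3, 3⟩, 24), (⟨-9, 0⟩, 25), (⟨-8, 3⟩, 26), (⟨-7, 4⟩, 27)],
  [(⟨1, 0⟩, 7), (⟨1, 1⟩, 15), (⟨0, 1⟩, 17), (⟨-1, 1⟩, 19), (⟨1, 1⟩, 20), (⟨-1, 1⟩, 21), (⟨0, 2⟩, 22), (⟨-2, 2⟩, 23), (⟨-1, 3⟩, 24), (⟨-3, 3⟩, 25), (⟨-3, 3⟩, 26), (⟨-2, 4⟩, 27)],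
  [(⟨1, 0⟩, 8), (⟨1, 0⟩, 20), (⟨0, 1⟩, 21), (⟨1, 0⟩, 22), (⟨1, 1⟩, 23), (⟨0, 1⟩, 24), (⟨0, 2⟩, 25), (⟨-1, 1⟩, 26), (⟨1, 1⟩, 27)],
  [(⟨1, 0⟩, 9), (⟨1, 1⟩, 15), (⟨0, 1⟩, 17), (⟨-1, 1⟩, 19), (⟨0, 1⟩, 20), (⟨0, 2⟩, 21), (⟨-1, 2⟩, 22), (⟨-2, 1⟩, 23), (⟨-2, 2⟩, 24), (⟨-4, 2⟩, 25), (⟨-3, 2⟩, 26), (⟨-3, 3⟩, 27)],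
  [(⟨1, 0⟩, 10), (⟨1, 1⟩, 21), (⟨1, 1⟩, 22), (⟨0, 2⟩, 23), (⟨0, 1⟩, 24), (⟨-1, 3⟩, 25), (⟨0, 2⟩, 26), (⟨0, 2⟩, 27)],
  [(⟨1, 0⟩, 11), (⟨1, 1⟩, 20), (⟨0, 2⟩, 21), (⟨1, 1⟩, 22), (⟨-1, 3⟩, 23), (⟨1, 1⟩, 24), (⟨-1, 3⟩, 25), (⟨-1, 3⟩, 26), (⟨1, 3⟩, 27)],
  [(⟨-1, 0⟩, 12)],
  [(⟨-1, 0⟩, 13), (⟨-1, -1⟩, 19)],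
  [(⟨-1, 0⟩, 14)],
  [(⟨-1, 0⟩, 15), (⟨-1, -1⟩, 17), (⟨0, -2⟩, 19), (⟨0, -1⟩, 24), (⟨0, -1⟩, 25), (⟨1, -1⟩, 26), (⟨0, -1⟩, 27)],
  [(⟨1, 0⟩, 16), (⟨1, 1⟩, 22), (⟨0, 2⟩, 23), (⟨0, 2⟩, 24), (⟨-2, 1⟩, 25), (⟨-1, 1⟩, 26), (⟨-1, 2⟩, 27)],
  [(⟨1, 0⟩, 17), (⟨1, 1⟩, 24), (⟨1, 1⟩, 25), (⟨0, 2⟩, 26), (⟨1, 1⟩, 27)],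
  [(⟨1, 0⟩, 18), (⟨1, 1⟩, 20), (⟨0, 2⟩, 21), (⟨0, 2⟩, 22), (⟨-2, 2⟩, 23), (⟨0, 1⟩, 24), (⟨-2, 3⟩, 25), (⟨-1, 2⟩, 26), (⟨0, 2⟩, 27)],
  [(⟨1, 0⟩, 19)],
  [(⟨-1, 0⟩, 20)],
  [(⟨-1, 0⟩, 21)],
  [(⟨-1, 0⟩, 22)],
  [(⟨-1, 0⟩, 23)],
  [(⟨-1, 0⟩, 24)],
  [(⟨-1, 0⟩, 25)],
  [(⟨-1, 0⟩, 26)],
  [(⟨-1, 0⟩, 27)]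
]

/-- Coefficients of the image of the basis under `ruShift`. -/
def cShift : List (List (GaussianInt × Fin 28)) := [
  [(⟨1, 0⟩, 1), (⟨1, 0⟩, 3), (⟨1, 1⟩, 5), (⟨1, 0⟩, 6), (⟨1, 3⟩, 7), (⟨1, 0⟩, 8), (⟨1, 1⟩, 9), (⟨1, 3⟩, 10), (⟨-3, 5⟩, 11), (⟨1, 2⟩, 12), (⟨0, 3⟩, 13), (⟨1, 3⟩, 14), (⟨-3, 7⟩, 15), (⟨1, 5⟩, 16), (⟨-7, 5⟩, 17), (⟨-2, 5⟩, 18), (⟨-14, 5⟩, 19), (⟨-12, 8⟩, 20), (⟨-19, -2⟩, 21), (⟨-23, 6⟩, 22), (⟨-30, -16⟩, 23), (⟨-29, 6⟩, 24), (⟨-46, -27⟩, 25), (⟨-44, -18⟩, 26), (⟨-48, -3⟩, 27)],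
  [(⟨1, 0⟩, 1), (⟨1, 0⟩, 2), (⟨1, 1⟩, 3), (⟨1, 1⟩, 5), (⟨1, 1⟩, 6), (⟨0, 3⟩, 7), (⟨1, 0⟩, 8), (⟨1, 2⟩, 9), (⟨0, 4⟩, 10), (⟨-6, 4⟩, 11), (⟨1, 3⟩, 12), (⟨0, 4⟩, 13), (⟨-1, 4⟩, 14), (⟨-5, 7⟩, 15), (⟨-1, 5⟩, 16), (⟨-10, 5⟩, 17), (⟨-3, 7⟩, 18), (⟨-19, 3⟩, 19), (⟨-17, 7⟩, 20), (⟨-24, -7⟩, 21), (⟨-31, 0⟩, 22), (⟨-30, -29⟩, 23), (⟨-37, -2⟩, 24), (⟨-50, -46⟩, 25), (⟨-48, -35⟩, 26), (⟨-57, -18⟩, 27)],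
  [(⟨1, 0⟩, 2), (⟨1, 0⟩, 3), (⟨1, 0⟩, 5), (⟨1, 0⟩, 6), (⟨2, 1⟩, 7), (⟨1, 1⟩, 9), (⟨2, 2⟩, 10), (⟨0, 5⟩, 11), (⟨1, 1⟩, 12), (⟨1, 1⟩, 13), (⟨1, 3⟩, 14), (⟨0, 6⟩, 15), (⟨2, 3⟩, 16), (⟨-4, 6⟩, 17), (⟨1, 5⟩, 18), (⟨-8, 9⟩, 19), (⟨-6, 12⟩, 20), (⟨-18, 8⟩, 21), (⟨-16, 14⟩, 22), (⟨-31, -1⟩, 23), (⟨-20, 14⟩, 24), (⟨-47, -4⟩, 25), (⟨-41, 1⟩, 26), (⟨-38, 16⟩, 27)],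
  [(⟨1, 0⟩, 1), (⟨1, 0⟩, 2), (⟨2, 1⟩, 3), (⟨1, 2⟩, 5), (⟨1, 2⟩, 6), (⟨0, 5⟩, 7), (⟨1, 1⟩, 9), (⟨-1, 5⟩, 10), (⟨-8, 5⟩, 11), (⟨0, 4⟩, 12), (⟨0, 5⟩, 13), (⟨-2, 5⟩, 14), (⟨-7, 8⟩, 15), (⟨-1, 5⟩, 16), (⟨-11, 6⟩, 17), (⟨-5, 6⟩, 18), (⟨-24, 1⟩, 19), (⟨-23, 6⟩, 20), (⟨-28, -14⟩, 21), (⟨-36, -5⟩, 22), (⟨-33, -40⟩, 23), (⟨-43, -4⟩, 24), (⟨-53, -60⟩, 25), (⟨-56, -48⟩, 26), (⟨-68, -27⟩, 27)],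
  [(⟨-1, 0⟩, 0), (⟨1, 0⟩, 1), (⟨1, 0⟩, 2), (⟨1, 1⟩, 3), (⟨0, 1⟩, 5), (⟨1, 1⟩, 6), (⟨-1, 3⟩, 7), (⟨1, 2⟩, 9), (⟨-1, 3⟩, 10), (⟨-6, 2⟩, 11), (⟨0, 2⟩, 12), (⟨0, 3⟩, 13), (⟨-1, 3⟩, 14), (⟨-5, 6⟩, 15), (⟨-1, 4⟩, 16), (⟨-9, 3⟩, 17), (⟨-4, 4⟩, 18), (⟨-16, -2⟩, 19), (⟨-16, 2⟩, 20), (⟨-17, -11⟩, 21), (⟨-26, -6⟩, 22), (⟨-19, -31⟩, 23), (⟨-30, -9⟩, 24), (⟨-31, -47⟩, 25), (⟨-32, -38⟩, 26), (⟨-45, -27⟩, 27)],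
  [(⟨-1, 1⟩, 1), (⟨-1, 0⟩, 5), (⟨-1, 0⟩, 6), (⟨-1, 0⟩, 7), (⟨1, 0⟩, 8), (⟨0, 1⟩, 9), (⟨-2, -1⟩, 10), (⟨-2, -4⟩, 11), (⟨-2, -1⟩, 12), (⟨-2, -2⟩, 13), (⟨-1, -1⟩, 14), (⟨-2, -3⟩, 15), (⟨-1, 1⟩, 16), (⟨-2, -5⟩, 17), (⟨-2, 0⟩, 18), (⟨4, -10⟩, 19), (⟨-1, -8⟩, 20), (⟨4, -9⟩, 21), (⟨2, -13⟩, 22), (⟨14, -12⟩, 23), (⟨3, -17⟩, 24), (⟨25, -20⟩, 25), (⟨21, -21⟩, 26), (⟨13, -25⟩, 27)],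
  [(⟨-1, 1⟩, 2), (⟨-1, -1⟩, 6), (⟨-1, 0⟩, 7), (⟨1, 0⟩, 8), (⟨0, 1⟩, 9), (⟨-1, -2⟩, 10), (⟨1, -3⟩, 11), (⟨0, -1⟩, 12), (⟨1, -1⟩, 14), (⟨-1, 0⟩, 15), (⟨-1, -3⟩, 17), (⟨-1, -1⟩, 18), (⟨4, -5⟩, 19), (⟨1, -3⟩, 20), (⟨4, -3⟩, 21), (⟨3, -6⟩, 22), (⟨9, -2⟩, 23), (⟨5, -7⟩, 24), (⟨14, -3⟩, 25), (⟨13, -3⟩, 26), (⟨11, -8⟩, 27)],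
  [(⟨-1, 1⟩, 3), (⟨-1, 0⟩, 5), (⟨-1, -1⟩, 6), (⟨-2, -1⟩, 7), (⟨-1, -2⟩, 10), (⟨1, -3⟩, 11), (⟨0, -1⟩, 12), (⟨0, -1⟩, 13), (⟨0, -1⟩, 14), (⟨1, -3⟩, 15), (⟨-1, -2⟩, 16), (⟨2, -3⟩, 17), (⟨0, -4⟩, 18), (⟨7, -4⟩, 19), (⟨4, -6⟩, 20), (⟨10, 0⟩, 21), (⟨10, -6⟩, 22), (⟨15, 4⟩, 23), (⟨12, -7⟩, 24), (⟨24, 7⟩, 25), (⟨23, 3⟩, 26), (⟨23, -6⟩, 27)],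
  [(⟨0, 1⟩, 4), (⟨-1, 0⟩, 6), (⟨-1, -1⟩, 7), (⟨-1, -1⟩, 10), (⟨0, -2⟩, 11), (⟨-1, 0⟩, 13), (⟨-1, -1⟩, 15), (⟨0, -1⟩, 16), (⟨-1, -2⟩, 17), (⟨0, -1⟩, 18), (⟨1, -6⟩, 19), (⟨0, -3⟩, 20), (⟨3, -2⟩, 21), (⟨3, -5⟩, 22), (⟨8, 0⟩, 23), (⟨4, -5⟩, 24), (⟨10, -4⟩, 25), (⟨9, -4⟩, 26), (⟨8, -7⟩, 27)],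
  [(⟨0, 1⟩, 5), (⟨-1, 1⟩, 7), (⟨-1, 0⟩, 10), (⟨-1, 0⟩, 11), (⟨0, 1⟩, 12), (⟨-1, 1⟩, 13), (⟨0, 1⟩, 14), (⟨-2, 0⟩, 15), (⟨-1, 0⟩, 16), (⟨-2, -1⟩, 17), (⟨-1, -1⟩, 18), (⟨-3, -4⟩, 19), (⟨-3, -2⟩, 20), (⟨-1, -4⟩, 21), (⟨-3, -4⟩, 22), (⟨0, -7⟩, 23), (⟨-4, -5⟩, 24), (⟨1, -12⟩, 25), (⟨-2, -10⟩, 26), (⟨-4, -10⟩, 27)],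
  [(⟨1, 1⟩, 6), (⟨0, 2⟩, 7), (⟨-1, 2⟩, 10), (⟨-3, 1⟩, 11), (⟨0, 1⟩, 12), (⟨0, 2⟩, 13), (⟨-1, 1⟩, 14), (⟨-2, 3⟩, 15), (⟨-1, 1⟩, 16), (⟨-4, 2⟩, 17), (⟨-2, 0⟩, 18), (⟨-10, -1⟩, 19), (⟨-6, 0⟩, 20), (⟨-7, -7⟩, 21), (⟨-10, -3⟩, 22), (⟨-6, -15⟩, 23), (⟨-13, -4⟩, 24), (⟨-12, -21⟩, 25), (⟨-14, -17⟩, 26), (⟨-19, -12⟩, 27)],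
  [(⟨-1, -1⟩, 7), (⟨0, -1⟩, 10), (⟨1, -1⟩, 11), (⟨1, -1⟩, 15), (⟨1, -1⟩, 16), (⟨1, 0⟩, 17), (⟨1, -1⟩, 18), (⟨3, 0⟩, 19), (⟨2, 0⟩, 20), (⟨3, 3⟩, 21), (⟨4, 0⟩, 22), (⟨3, 6⟩, 23), (⟨5, 1⟩, 24), (⟨4, 8⟩, 25), (⟨4, 6⟩, 26), (⟨7, 4⟩, 27)],
  [(⟨-1, 1⟩, 8), (⟨-1, 1⟩, 9), (⟨-1, 0⟩, 10), (⟨0, -1⟩, 11), (⟨-1, 0⟩, 15), (⟨-2, 0⟩, 16), (⟨-1, -2⟩, 17), (⟨-2, -2⟩, 18), (⟨0, -3⟩, 19), (⟨-1, -2⟩, 20), (⟨1, -4⟩, 21), (⟨-1, -5⟩, 22), (⟨4, -4⟩, 23), (⟨1, -8⟩, 24), (⟨9, -9⟩, 25), (⟨7, -7⟩, 26), (⟨3, -10⟩, 27)],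
  [(⟨-1, -1⟩, 9), (⟨1, 0⟩, 11), (⟨1, -1⟩, 15), (⟨0, -1⟩, 16), (⟨2, 0⟩, 17), (⟨0, -1⟩, 18), (⟨1, 1⟩, 19), (⟨1, 0⟩, 20), (⟨1, 0⟩, 21), (⟨2, 0⟩, 22), (⟨1, 2⟩, 23), (⟨4, 1⟩, 24), (⟨4, 4⟩, 25), (⟨2, 4⟩, 26), (⟨5, 3⟩, 27)],
  [(⟨1, 0⟩, 10), (⟨1, 1⟩, 11), (⟨1, 0⟩, 16), (⟨0, 1⟩, 17), (⟨1, 0⟩, 18), (⟨0, 2⟩, 19), (⟨0, 2⟩, 20), (⟨-1, 3⟩, 21), (⟨0, 3⟩, 22), (⟨-4, 4⟩, 23), (⟨-1, 3⟩, 24), (⟨-6, 4⟩, 25), (⟨-5, 3⟩, 26), (⟨-3, 5⟩, 27)],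
  [(⟨-1, 0⟩, 11), (⟨0, 1⟩, 13), (⟨0, 1⟩, 15), (⟨1, 0⟩, 16), (⟨-1, 1⟩, 17), (⟨1, 0⟩, 18), (⟨-2, 0⟩, 19), (⟨-1, 1⟩, 20), (⟨-2, 0⟩, 21), (⟨-2, 1⟩, 22), (⟨-3, -1⟩, 23), (⟨-3, 1⟩, 24), (⟨-6, -2⟩, 25), (⟨-5, -2⟩, 26), (⟨-5, 0⟩, 27)],
  [(⟨-1, 0⟩, 12), (⟨-1, 0⟩, 13), (⟨-1, -1⟩, 15), (⟨0, -1⟩, 17), (⟨0, -1⟩, 18), (⟨1, -2⟩, 19), (⟨0, -2⟩, 20), (⟨2, -2⟩, 21), (⟨2, -2⟩, 22), (⟨3, -1⟩, 23), (⟨1, -2⟩, 24), (⟨6, -2⟩, 25), (⟨4, -3⟩, 26), (⟨3, -4⟩, 27)],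
  [(⟨-1, -1⟩, 13), (⟨1, -1⟩, 15), (⟨1, 0⟩, 17), (⟨1, 0⟩, 19), (⟨0, 1⟩, 21), (⟨-1, 1⟩, 23), (⟨1, -1⟩, 24), (⟨2, 0⟩, 25), (⟨1, 0⟩, 26), (⟨2, 0⟩, 27)],
  [(⟨-1, 0⟩, 14), (⟨0, -1⟩, 15), (⟨1, 0⟩, 16), (⟨1, 0⟩, 18), (⟨1, 0⟩, 19), (⟨1, 1⟩, 22), (⟨0, 2⟩, 23), (⟨0, 1⟩, 24), (⟨-1, 1⟩, 25), (⟨0, 1⟩, 27)],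
  [(⟨-1, 1⟩, 15), (⟨-1, 0⟩, 17), (⟨-1, -1⟩, 19), (⟨-1, 0⟩, 20), (⟨-1, -1⟩, 21), (⟨-1, -1⟩, 22), (⟨0, -2⟩, 23), (⟨-1, -1⟩, 24), (⟨-1, -3⟩, 25), (⟨-1, -3⟩, 26), (⟨-2, -2⟩, 27)],
  [(⟨-1, 1⟩, 16), (⟨-1, 0⟩, 17), (⟨-1, -1⟩, 18), (⟨-1, -1⟩, 19), (⟨0, -1⟩, 20), (⟨0, -1⟩, 21), (⟨0, -1⟩, 22), (⟨0, -1⟩, 23), (⟨-1, -2⟩, 24), (⟨2, -3⟩, 25), (⟨1, -3⟩, 26), (⟨0, -3⟩, 27)],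
  [(⟨0, -1⟩, 17), (⟨1, -1⟩, 19), (⟨-1, 0⟩, 21), (⟨-1, 0⟩, 22), (⟨-1, -1⟩, 23), (⟨0, -1⟩, 24), (⟨0, -2⟩, 25), (⟨0, -1⟩, 26), (⟨0, -1⟩, 27)],
  [(⟨1, 1⟩, 18), (⟨1, 0⟩, 19), (⟨-1, 1⟩, 20), (⟨-2, 0⟩, 21), (⟨-2, 1⟩, 22), (⟨-3, -1⟩, 23), (⟨-1, 0⟩, 24), (⟨-3, -2⟩, 25), (⟨-2, -1⟩, 26), (⟨-2, 0⟩, 27)],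
  [(⟨0, 1⟩, 19)],
  [(⟨1, -1⟩, 20), (⟨1, 0⟩, 25), (⟨1, 0⟩, 27)],
  [(⟨1, -1⟩, 21), (⟨1, 0⟩, 23), (⟨1, 0⟩, 25), (⟨1, 0⟩, 26)],
  [(⟨1, -1⟩, 22), (⟨1, 0⟩, 23), (⟨1, 0⟩, 24), (⟨1, 1⟩, 25), (⟨1, 0⟩, 26), (⟨1, 0⟩, 27)],
  [(⟨0, -1⟩, 23)]
]

/-- Coefficients of the generating vectors. -/
def cTab : List (List (GaussianInt × Fin 28)) := [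
  [(⟨-4, 0⟩, 0), (⟨-2, -2⟩, 3), (⟨-2, -4⟩, 5), (⟨0, -2⟩, 6), (⟨0, -6⟩, 7), (⟨1, -7⟩, 10), (⟨7, -9⟩, 11), (⟨0, -6⟩, 12), (⟨2, -6⟩, 13), (⟨4, -6⟩, 14), (⟨10, -8⟩, 15), (⟨3, -5⟩, 16), (⟨13, -6⟩, 17), (⟨6, -6⟩, 18), (⟨32, -2⟩, 19), (⟨29, -9⟩, 20), (⟨37, 18⟩, 21), (⟨42, 5⟩, 22), (⟨45, 47⟩, 23), (⟨53, 3⟩, 24), (⟨69, 75⟩, 25), (⟨73, 61⟩, 26), (⟨84, 28⟩, 27)],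
  [(⟨0, 1⟩, 0), (⟨-1, 0⟩, 1), (⟨-1, 0⟩, 2), (⟨-1, -1⟩, 3), (⟨-1, -1⟩, 5), (⟨-1, -2⟩, 6), (⟨0, -3⟩, 7), (⟨-1, -1⟩, 9), (⟨0, -4⟩, 10), (⟨5, -4⟩, 11), (⟨-1, -2⟩, 12), (⟨-1, -3⟩, 13), (⟨1, -3⟩, 14), (⟨3, -6⟩, 15), (⟨1, -4⟩, 16), (⟨7, -6⟩, 17), (⟨3, -5⟩, 18), (⟨17, -5⟩, 19), (⟨13, -7⟩, 20), (⟨19, 4⟩, 21), (⟨25, -2⟩, 22), (⟨26, 21⟩, 23), (⟨30, -2⟩, 24), (⟨44, 31⟩, 25), (⟨42, 24⟩, 26), (⟨48, 10⟩, 27)],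
  [(⟨0, 1⟩, 0), (⟨-1, 0⟩, 1), (⟨1, 0⟩, 2), (⟨-1, 1⟩, 3), (⟨-2, 0⟩, 5), (⟨-1, 0⟩, 6), (⟨-2, -1⟩, 7), (⟨-2, -1⟩, 10), (⟨-2, -4⟩, 11), (⟨-3, -1⟩, 12), (⟨-2, -3⟩, 13), (⟨-3, -2⟩, 14), (⟨-1, -5⟩, 15), (⟨-2, -2⟩, 16), (⟨0, -5⟩, 17), (⟨-1, -3⟩, 18), (⟨4, -11⟩, 19), (⟨1, -11⟩, 20), (⟨10, -10⟩, 21), (⟨8, -14⟩, 22), (⟨22, -10⟩, 23), (⟨8, -19⟩, 24), (⟨36, -14⟩, 25), (⟨32, -20⟩, 26), (⟨22, -26⟩, 27)],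
  [(⟨0, 1⟩, 0), (⟨1, 0⟩, 1), (⟨-1, 0⟩, 2), (⟨-1, 1⟩, 3), (⟨-1, 1⟩, 5), (⟨-1, 0⟩, 6), (⟨-3, 0⟩, 7), (⟨-3, -1⟩, 10), (⟨-3, -3⟩, 11), (⟨-2, 1⟩, 12), (⟨-3, 1⟩, 13), (⟨-2, -2⟩, 14), (⟨-5, -4⟩, 15), (⟨-2, -1⟩, 16), (⟨-3, -6⟩, 17), (⟨-3, -3⟩, 18), (⟨-1, -14⟩, 19), (⟨-5, -13⟩, 20), (⟨8, -17⟩, 21), (⟨2, -20⟩, 22), (⟨21, -19⟩, 23), (⟨1, -23⟩, 24), (⟨32, -32⟩, 25), (⟨25, -32⟩, 26), (⟨12, -38⟩, 27)],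
  [(⟨0, 1⟩, 0), (⟨1, 0⟩, 1), (⟨1, 0⟩, 2), (⟨1, 1⟩, 3), (⟨0, 2⟩, 5), (⟨1, 2⟩, 6), (⟨-1, 4⟩, 7), (⟨1, 1⟩, 9), (⟨-2, 5⟩, 10), (⟨-9, 4⟩, 11), (⟨-2, 4⟩, 12), (⟨-2, 3⟩, 13), (⟨-4, 3⟩, 14), (⟨-8, 4⟩, 15), (⟨-2, 4⟩, 16), (⟨-11, 2⟩, 17), (⟨-5, 5⟩, 18), (⟨-22, -6⟩, 19), (⟨-22, -1⟩, 20), (⟨-21, -20⟩, 21), (⟨-32, -12⟩, 22), (⟨-21, -45⟩, 23), (⟨-39, -16⟩, 24), (⟨-31, -70⟩, 25), (⟨-37, -60⟩, 26), (⟨-56, -43⟩, 27)],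
  [(⟨-1, 0⟩, 0), (⟨-1, 0⟩, 1), (⟨-1, 0⟩, 2), (⟨-1, -2⟩, 3), (⟨1, 0⟩, 4), (⟨0, -2⟩, 5), (⟨0, -2⟩, 6), (⟨2, -3⟩, 7), (⟨0, -1⟩, 8), (⟨-1, -1⟩, 9), (⟨2, -4⟩, 10), (⟨7, -2⟩, 11), (⟨1, -3⟩, 12), (⟨2, -3⟩, 13), (⟨3, -3⟩, 14), (⟨7, -3⟩, 15), (⟨4, -4⟩, 16), (⟨10, -1⟩, 17), (⟨7, -3⟩, 18), (⟨19, 6⟩, 19), (⟨19, 2⟩, 20), (⟨16, 18⟩, 21), (⟨26, 14⟩, 22), (⟨14, 39⟩, 23), (⟨33, 18⟩, 24), (⟨22, 63⟩, 25), (⟨27, 55⟩, 26), (⟨43, 42⟩, 27)],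
  [(⟨-1, 0⟩, 0), (⟨-1, 0⟩, 1), (⟨-1, 0⟩, 2), (⟨-1, -2⟩, 3), (⟨-1, -3⟩, 5), (⟨-1, -2⟩, 6), (⟨1, -5⟩, 7), (⟨-1, -1⟩, 9), (⟨1, -6⟩, 10), (⟨9, -6⟩, 11), (⟨1, -5⟩, 12), (⟨1, -5⟩, 13), (⟨4, -5⟩, 14), (⟨9, -7⟩, 15), (⟨3, -5⟩, 16), (⟨13, -5⟩, 17), (⟨6, -6⟩, 18), (⟨28, 1⟩, 19), (⟨27, -4⟩, 20), (⟨30, 19⟩, 21), (⟨40, 10⟩, 22), (⟨34, 50⟩, 23), (⟨49, 11⟩, 24), (⟨53, 75⟩, 25), (⟨57, 63⟩, 26), (⟨74, 39⟩, 27)],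
  [(⟨-1, 0⟩, 0), (⟨-1, 0⟩, 1), (⟨-1, 0⟩, 2), (⟨-1, -2⟩, 3), (⟨-1, -2⟩, 5), (⟨-1, -3⟩, 6), (⟨1, -5⟩, 7), (⟨-1, -1⟩, 9), (⟨2, -6⟩, 10), (⟨9, -5⟩, 11), (⟨0, -5⟩, 12), (⟨1, -6⟩, 13), (⟨4, -5⟩, 14), (⟨9, -8⟩, 15), (⟨3, -5⟩, 16), (⟨14, -5⟩, 17), (⟨6, -6⟩, 18), (⟨30, 2⟩, 19), (⟨26, -5⟩, 20), (⟨30, 18⟩, 21), (⟨41, 9⟩, 22), (⟨33, 49⟩, 23), (⟨50, 11⟩, 24), (⟨56, 76⟩, 25), (⟨59, 62⟩, 26), (⟨75, 39⟩, 27)],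
  [(⟨-1, 0⟩, 0), (⟨-1, 0⟩, 1), (⟨1, 0⟩, 2), (⟨-1, 0⟩, 3), (⟨-1, -1⟩, 5), (⟨-1, 0⟩, 6), (⟨-1, -2⟩, 7), (⟨-1, -2⟩, 10), (⟨1, -5⟩, 11), (⟨-1, -3⟩, 12), (⟨1, -3⟩, 13), (⟨0, -3⟩, 14), (⟨4, -4⟩, 15), (⟨-1, -3⟩, 16), (⟨4, -3⟩, 17), (⟨1, -3⟩, 18), (⟨10, -4⟩, 19), (⟨10, -6⟩, 20), (⟨15, 3⟩, 21), (⟨16, -4⟩, 22), (⟨23, 11⟩, 23), (⟨20, -6⟩, 24), (⟨34, 21⟩, 25), (⟨35, 13⟩, 26), (⟨35, 0⟩, 27)],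
  [(⟨-1, 0⟩, 0), (⟨-1, 0⟩, 1), (⟨1, 0⟩, 2), (⟨-1, 0⟩, 3), (⟨-1, -2⟩, 5), (⟨-1, -1⟩, 6), (⟨0, -3⟩, 7), (⟨0, -3⟩, 10), (⟨3, -5⟩, 11), (⟨-1, -4⟩, 12), (⟨1, -4⟩, 13), (⟨1, -4⟩, 14), (⟨6, -5⟩, 15), (⟨0, -2⟩, 16), (⟨6, -3⟩, 17), (⟨2, -3⟩, 18), (⟨15, -1⟩, 19), (⟨15, -5⟩, 20), (⟨19, 8⟩, 21), (⟨22, 1⟩, 22), (⟨24, 22⟩, 23), (⟨26, -1⟩, 24), (⟨38, 36⟩, 25), (⟨41, 26⟩, 26), (⟨44, 11⟩, 27)],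
  [(⟨-1, 0⟩, 0), (⟨-1, 0⟩, 1), (⟨1, 0⟩, 2), (⟨-1, 0⟩, 3), (⟨1, 0⟩, 4), (⟨-1, -1⟩, 5), (⟨-1, -1⟩, 7), (⟨-1, 0⟩, 8), (⟨-1, -1⟩, 10), (⟨0, -3⟩, 11), (⟨-1, -2⟩, 12), (⟨1, -2⟩, 13), (⟨0, -2⟩, 14), (⟨3, -2⟩, 15), (⟨-1, -2⟩, 16), (⟨3, -1⟩, 17), (⟨1, -3⟩, 18), (⟨5, -1⟩, 19), (⟨7, -4⟩, 20), (⟨10, 2⟩, 21), (⟨10, -2⟩, 22), (⟨15, 6⟩, 23), (⟨13, -4⟩, 24), (⟨22, 15⟩, 25), (⟨23, 9⟩, 26), (⟨22, 0⟩, 27)],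
  [(⟨-1, 0⟩, 0), (⟨-1, 0⟩, 1), (⟨1, 0⟩, 2), (⟨-1, 0⟩, 3), (⟨0, -1⟩, 4), (⟨-1, -2⟩, 5), (⟨0, -1⟩, 6), (⟨1, -3⟩, 7), (⟨0, -1⟩, 8), (⟨1, -1⟩, 9), (⟨2, -3⟩, 10), (⟨5, -2⟩, 11), (⟨0, -3⟩, 12), (⟨2, -4⟩, 13), (⟨1, -2⟩, 14), (⟨8, -3⟩, 15), (⟨3, -3⟩, 16), (⟨8, 2⟩, 17), (⟨6, -2⟩, 18), (⟨16, 7⟩, 19), (⟨16, 2⟩, 20), (⟨14, 18⟩, 21), (⟨21, 13⟩, 22), (⟨9, 32⟩, 23), (⟨24, 15⟩, 24), (⟨16, 55⟩, 25), (⟨21, 43⟩, 26), (⟨34, 35⟩, 27)],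
  [(⟨-1, 0⟩, 0), (⟨1, 0⟩, 1), (⟨-1, 0⟩, 2), (⟨-1, 0⟩, 3), (⟨0, -1⟩, 4), (⟨0, -1⟩, 5), (⟨0, -1⟩, 6), (⟨0, -1⟩, 7), (⟨1, -2⟩, 10), (⟨3, -1⟩, 11), (⟨1, -1⟩, 12), (⟨1, -1⟩, 13), (⟨2, -2⟩, 14), (⟨3, -2⟩, 15), (⟨1, -1⟩, 16), (⟨4, -1⟩, 17), (⟨1, -2⟩, 18), (⟨9, 3⟩, 19), (⟨8, -1⟩, 20), (⟨10, 7⟩, 21), (⟨11, 4⟩, 22), (⟨8, 16⟩, 23), (⟨14, 4⟩, 24), (⟨14, 25⟩, 25), (⟨16, 22⟩, 26), (⟨21, 13⟩, 27)],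
  [(⟨-1, 0⟩, 0), (⟨1, 0⟩, 1), (⟨-1, 0⟩, 2), (⟨-1, 0⟩, 3), (⟨-1, 0⟩, 4), (⟨-1, -1⟩, 5), (⟨-1, -1⟩, 6), (⟨-2, -3⟩, 7), (⟨-1, -5⟩, 10), (⟨3, -6⟩, 11), (⟨0, -2⟩, 12), (⟨-1, -2⟩, 13), (⟨2, -3⟩, 14), (⟨2, -6⟩, 15), (⟨0, -3⟩, 16), (⟨5, -6⟩, 17), (⟨1, -5⟩, 18), (⟨16, -8⟩, 19), (⟨12, -10⟩, 20), (⟨23, 2⟩, 21), (⟨22, -7⟩, 22), (⟨31, 17⟩, 23), (⟨27, -9⟩, 24), (⟨49, 23⟩, 25), (⟨46, 17⟩, 26), (⟨49, -3⟩, 27)],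
  [(⟨-1, 0⟩, 0), (⟨1, 0⟩, 1), (⟨-1, 0⟩, 2), (⟨-1, 0⟩, 3), (⟨-1, 0⟩, 5), (⟨-1, -1⟩, 6), (⟨-2, -2⟩, 7), (⟨0, -1⟩, 8), (⟨1, -1⟩, 9), (⟨-1, -4⟩, 10), (⟨2, -4⟩, 11), (⟨-1, -2⟩, 12), (⟨-1, -2⟩, 13), (⟨1, -3⟩, 14), (⟨2, -6⟩, 15), (⟨1, -3⟩, 16), (⟨5, -4⟩, 17), (⟨2, -5⟩, 18), (⟨14, -7⟩, 19), (⟨10, -9⟩, 20), (⟨21, 1⟩, 21), (⟨20, -6⟩, 22), (⟨27, 14⟩, 23), (⟨23, -5⟩, 24), (⟨42, 23⟩, 25), (⟨39, 14⟩, 26), (⟨41, -1⟩, 27)],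
  [(⟨-1, 0⟩, 0), (⟨1, 0⟩, 1), (⟨-1, 0⟩, 2), (⟨-1, 0⟩, 3), (⟨0, -1⟩, 6), (⟨-1, -1⟩, 7), (⟨-1, 0⟩, 8), (⟨-1, -2⟩, 10), (⟨1, -2⟩, 11), (⟨1, -1⟩, 14), (⟨0, -2⟩, 15), (⟨0, -2⟩, 16), (⟨2, -3⟩, 17), (⟨0, -3⟩, 18), (⟨6, -4⟩, 19), (⟨3, -5⟩, 20), (⟨9, -2⟩, 21), (⟨7, -5⟩, 22), (⟨13, 3⟩, 23), (⟨11, -5⟩, 24), (⟨21, 5⟩, 25), (⟨19, 5⟩, 26), (⟨18, -4⟩, 27)],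
  [(⟨-1, 0⟩, 0), (⟨1, 0⟩, 1), (⟨1, 0⟩, 2), (⟨1, 0⟩, 3), (⟨0, 1⟩, 5), (⟨2, 2⟩, 6), (⟨0, 3⟩, 7), (⟨-1, 0⟩, 8), (⟨-1, 4⟩, 10), (⟨-6, 3⟩, 11), (⟨0, 3⟩, 12), (⟨0, 3⟩, 13), (⟨-2, 4⟩, 14), (⟨-5, 5⟩, 15), (⟨-1, 2⟩, 16), (⟨-6, 3⟩, 17), (⟨-3, 3⟩, 18), (⟨-16, -1⟩, 19), (⟨-14, 2⟩, 20), (⟨-16, -11⟩, 21), (⟨-23, -5⟩, 22), (⟨-17, -28⟩, 23), (⟨-25, -5⟩, 24), (⟨-28, -40⟩, 25), (⟨-32, -31⟩, 26), (⟨-41, -21⟩, 27)],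
  [(⟨-1, 0⟩, 0), (⟨1, 0⟩, 1), (⟨1, 0⟩, 2), (⟨1, 0⟩, 3), (⟨2, 1⟩, 6), (⟨1, 2⟩, 7), (⟨0, 1⟩, 8), (⟨1, 1⟩, 9), (⟨1, 4⟩, 10), (⟨-4, 4⟩, 11), (⟨1, 1⟩, 12), (⟨2, 2⟩, 13), (⟨0, 3⟩, 14), (⟨-1, 6⟩, 15), (⟨0, 4⟩, 16), (⟨-5, 6⟩, 17), (⟨-2, 5⟩, 18), (⟨-13, 7⟩, 19), (⟨-10, 7⟩, 20), (⟨-17, -1⟩, 21), (⟨-21, 6⟩, 22), (⟨-25, -16⟩, 23), (⟨-25, 5⟩, 24), (⟨-41, -21⟩, 25), (⟨-37, -14⟩, 26), (⟨-42, -2⟩, 27)],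
  [(⟨-1, 0⟩, 0), (⟨1, 0⟩, 1), (⟨1, 0⟩, 2), (⟨1, 0⟩, 3), (⟨0, -1⟩, 4), (⟨1, 0⟩, 5), (⟨2, 1⟩, 6), (⟨2, 2⟩, 7), (⟨1, 1⟩, 9), (⟨2, 4⟩, 10), (⟨-3, 6⟩, 11), (⟨1, 2⟩, 12), (⟨2, 2⟩, 13), (⟨0, 3⟩, 14), (⟨-1, 6⟩, 15), (⟨2, 3⟩, 16), (⟨-4, 7⟩, 17), (⟨0, 6⟩, 18), (⟨-12, 10⟩, 19), (⟨-9, 10⟩, 20), (⟨-19, 3⟩, 21), (⟨-21, 11⟩, 22), (⟨-31, -10⟩, 23), (⟨-24, 12⟩, 24), (⟨-48, -12⟩, 25), (⟨-44, -6⟩, 26), (⟨-45, 9⟩, 27)],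
  [(⟨-1, 0⟩, 0), (⟨1, 0⟩, 1), (⟨1, 0⟩, 2), (⟨1, 0⟩, 3), (⟨1, 0⟩, 4), (⟨1, 1⟩, 5), (⟨2, 2⟩, 6), (⟨0, 4⟩, 7), (⟨1, 1⟩, 9), (⟨0, 5⟩, 10), (⟨-7, 5⟩, 11), (⟨0, 3⟩, 12), (⟨1, 4⟩, 13), (⟨-1, 4⟩, 14), (⟨-5, 8⟩, 15), (⟨-1, 4⟩, 16), (⟨-9, 6⟩, 17), (⟨-3, 5⟩, 18), (⟨-22, 3⟩, 19), (⟨-17, 7⟩, 20), (⟨-23, -8⟩, 21), (⟨-31, 0⟩, 22), (⟨-29, -31⟩, 23), (⟨-36, -1⟩, 24), (⟨-49, -43⟩, 25), (⟨-49, -33⟩, 26), (⟨-59, -17⟩, 27)]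
]

theorem rj_eq : ∀ p : Fin 28, ruRj (rB p) = comb (cRj.getD p.1 []) := by decide +kernel
theorem rk_eq : ∀ p : Fin 28, ruRk (rB p) = comb (cRk.getD p.1 []) := by decide +kernel
theorem sign_eq : ∀ p : Fin 28, ruSign (rB p) = comb (cSign.getD p.1 []) := by decide +kernel
theorem shift_eq : ∀ p : Fin 28, ruShift (rB p) = comb (cShift.getD p.1 []) := by decide +kernel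
theorem tab_eq : ∀ i : Fin 20, ruTable.getD i.1 0 = comb (cTab.getD i.1 []) := by decide +kernel

end Cfsg.Agent.Lib.Helper26_Ru
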