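import Mathlib
import Cfsg.Prelude.Def_Spor_Ru
import Cfsg.Agent.Lib.Helper26_RuData

/-!
The scaled Conway–Wales lattice `ruLattice` lies in the `ℤ[i]`-span `Slat` of the explicit basis
`rB`; Hermitian products of vectors of `Slat` are divisible by `4` and their norms by `8`.
-/

set_option autoImplicit false
set_option maxRecDepth 100000
set_option linter.unnecessarySeqFocus false
open Cfsg Cfsg.Spor

namespace Cfsg.Agent.Lib.Helper26_Ru

/-- The Hermitian product `Σ x_p conj(y_p)`. -/
def herm (x y : RuVec) : GaussianInt := ∑ p, x p * star (y p)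

/-- The `ℤ[i]`-span of the basis. -/
def Slat : Submodule GaussianInt RuVec := Submodule.span GaussianInt (Set.range rB)

theorem rB_mem (p : Fin 28) : rB p ∈ Slat := Submodule.subset_span ⟨p, rfl⟩

theorem comb_mem (L : List (GaussianInt × Fin 28)) : comb L ∈ Slat := by
  unfold comb
  apply list_sum_mem
  intro x hx
  obtain ⟨a, _, rfl⟩ := List.mem_map.1 hx
  exact Submodule.smul_mem _ _ (rB_mem a.2)

theorem rj_add (x y : RuVec) : ruRj (x + y) = ruRj x + ruRj y := by
  funext ⟨n, t⟩
  fin_cases t <;> simp [ruRj, mul_add] <;> ring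

theorem rj_smul (a : GaussianInt) (x : RuVec) : ruRj (a • x) = a • ruRj x := by
  funext ⟨n, t⟩
  fin_cases t <;> simp [ruRj] <;> ring

theorem rk_add (x y : RuVec) : ruRk (x + y) = ruRk x + ruRk y := by
  funext ⟨n, t⟩
  fin_cases t <;> simp [ruRk, mul_add] <;> ring

theorem rk_smul (a : GaussianInt) (x : RuVec) : ruRk (a • x) = a • ruRk x := by
  funext ⟨n, t⟩
  fin_cases t <;> simp [ruRk] <;> ring

theorem sign_add (x y : RuVec) : ruSign (x + y) = ruSign x + ruSign y := by
  funext p
  simp only [ruSign, Pi.add_apply]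
  split_ifs <;> ring

theorem sign_smul (a : GaussianInt) (x : RuVec) : ruSign (a • x) = a • ruSign x := by
  funext p
  simp only [ruSign, Pi.smul_apply, smul_eq_mul]
  split_ifs <;> ring

theorem shift_add (x y : RuVec) : ruShift (x + y) = ruShift x + ruShift y := by
  funext p
  simp [ruShift]

theorem shift_smul (a : GaussianInt) (x : RuVec) : ruShift (a • x) = a • ruShift x := by
  funext p
  simp [ruShift]

theorem map_mem (m : RuVec → RuVec) (hadd : ∀ x y, m (x + y) = m x + m y)
    (hsmul : ∀ (a : GaussianInt) x, m (a • x) = a • m x) (hb : ∀ p, m (rB p) ∈ Slat) :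
    ∀ v ∈ Slat, m v ∈ Slat := by
  intro v hv
  unfold Slat at hv
  induction hv using Submodule.span_induction with
  | mem x hx =>
    obtain ⟨p, rfl⟩ := hx
    exact hb p
  | zero =>
    have h0 : m 0 = 0 := by
      have := hsmul 0 0
      simpa using this
    rw [h0]
    exact Slat.zero_mem
  | add x y _ _ hx hy =>
    rw [hadd]
    exact Slat.add_mem hx hy
  | smul a x _ hx =>
    rw [hsmul]
    exact Slat.smul_mem a hx

theorem table_mem : ∀ v ∈ ruTable, v ∈ Slat := by
  intro v hv
  obtain ⟨i, hi, rfl⟩ := List.mem_iff_getElem.1 hv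
  have hlen : ruTable.length = 20 := rfl
  have h := tab_eq ⟨i, by omega⟩
  simp only [List.getD_eq_getElem?_getD] at h
  rw [List.getElem?_eq_getElem hi] at h
  simp only [Option.getD_some] at h
  rw [h]
  exact comb_mem _

theorem slat_closed : Slat.toAddSubgroup ∈ ruClosed := by
  refine ⟨fun v hv => table_mem v hv, fun v hv => ⟨?_, ?_, ?_, ?_, ?_⟩⟩
  · exact Slat.smul_mem gI hv
  · exact map_mem ruRj rj_add rj_smul (fun p => by rw [rj_eq]; exact comb_mem _) v hv
  · exact map_mem ruRk rk_add rk_smul (fun p => by rw [rk_eq]; exact comb_mem _) v hv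
  · exact map_mem ruSign sign_add sign_smul (fun p => by rw [sign_eq]; exact comb_mem _) v hv
  · exact map_mem ruShift shift_add shift_smul (fun p => by rw [shift_eq]; exact comb_mem _) v hv

/-- The lattice lies in the span of the basis. -/
theorem ruLattice_le : ∀ x ∈ ruLattice, x ∈ Slat := by
  intro x hx
  have h : ruLattice ≤ Slat.toAddSubgroup := sInf_le slat_closed
  exact h hx

/-! ### Hermitian products -/

theorem herm_add_left (x y z : RuVec) : herm (x + y) z = herm x z + herm y z := by
  simp only [herm, Pi.add_apply, add_mul, Finset.sum_add_distrib]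

theorem herm_smul_left (a : GaussianInt) (x z : RuVec) : herm (a • x) z = a * herm x z := by
  simp only [herm, Pi.smul_apply, smul_eq_mul, Finset.mul_sum, mul_assoc]

theorem herm_add_right (x y z : RuVec) : herm x (y + z) = herm x y + herm x z := by
  simp only [herm, Pi.add_apply, star_add, mul_add, Finset.sum_add_distrib]

theorem herm_smul_right (a : GaussianInt) (x z : RuVec) : herm x (a • z) = star a * herm x z := by
  simp only [herm, Pi.smul_apply, smul_eq_mul, Finset.mul_sum, star_mul']
  refine Finset.sum_congr rfl fun p _ => ?_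
  ring

theorem herm_zero_left (z : RuVec) : herm 0 z = 0 := by simp [herm]

theorem herm_zero_right (z : RuVec) : herm z 0 = 0 := by simp [herm]

theorem four_dvd_iff (z : GaussianInt) : (4 : GaussianInt) ∣ z ↔ z.re % 4 = 0 ∧ z.im % 4 = 0 := by
  have h : (4 : GaussianInt) = ((4 : ℤ) : GaussianInt) := by norm_num
  rw [h, Zsqrtd.intCast_dvd]
  constructor
  · rintro ⟨h1, h2⟩
    exact ⟨Int.emod_eq_zero_of_dvd h1, Int.emod_eq_zero_of_dvd h2⟩
  · rintro ⟨h1, h2⟩
    exact ⟨Int.dvd_of_emod_eq_zero h1, Int.dvd_of_emod_eq_zero h2⟩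

theorem gram : ∀ p q : Fin 28,
    (herm (rB p) (rB q)).re % 4 = 0 ∧ (herm (rB p) (rB q)).im % 4 = 0 := by decide +kernel

theorem norm_rB : ∀ p : Fin 28, ruNorm (rB p) % 8 = 0 := by decide +kernel

theorem herm_dvd_left (q : Fin 28) : ∀ x ∈ Slat, (4 : GaussianInt) ∣ herm x (rB q) := by
  intro x hx
  unfold Slat at hx
  induction hx using Submodule.span_induction with
  | mem x hx =>
    obtain ⟨p, rfl⟩ := hx
    exact (four_dvd_iff _).2 (gram p q)
  | zero => rw [herm_zero_left]; exact dvd_zero _
  | add x y _ _ hx hy => rw [herm_add_left]; exact dvd_add hx hy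
  | smul a x _ hx => rw [herm_smul_left]; exact Dvd.dvd.mul_left hx a

/-- Hermitian products of vectors of the span are divisible by `4`. -/
theorem herm_dvd : ∀ x ∈ Slat, ∀ y ∈ Slat, (4 : GaussianInt) ∣ herm x y := by
  intro x hx y hy
  unfold Slat at hy
  induction hy using Submodule.span_induction with
  | mem y hy =>
    obtain ⟨q, rfl⟩ := hy
    exact herm_dvd_left q x hx
  | zero => rw [herm_zero_right]; exact dvd_zero _
  | add y z _ _ hy hz => rw [herm_add_right]; exact dvd_add hy hz
  | smul a y _ hy => rw [herm_smul_right]; exact Dvd.dvd.mul_left hy (star a)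

theorem re_sum {ι : Type*} (s : Finset ι) (f : ι → GaussianInt) :
    (∑ p ∈ s, f p).re = ∑ p ∈ s, (f p).re := by
  classical
  induction s using Finset.induction_on with
  | empty => simp
  | insert a s ha ih => rw [Finset.sum_insert ha, Finset.sum_insert ha, Zsqrtd.re_add, ih]

theorem norm_add (x y : RuVec) :
    ruNorm (x + y) = ruNorm x + ruNorm y + 2 * (herm x y).re := by
  unfold ruNorm herm
  rw [re_sum, Finset.mul_sum, ← Finset.sum_add_distrib, ← Finset.sum_add_distrib]
  refine Finset.sum_congr rfl fun p _ => ?_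
  simp only [Pi.add_apply, Zsqrtd.norm_def, Zsqrtd.re_add, Zsqrtd.im_add, Zsqrtd.re_mul,
    Zsqrtd.re_star, Zsqrtd.im_star]
  ring

theorem norm_smul (a : GaussianInt) (x : RuVec) : ruNorm (a • x) = a.norm * ruNorm x := by
  unfold ruNorm
  rw [Finset.mul_sum]
  refine Finset.sum_congr rfl fun p _ => ?_
  rw [Pi.smul_apply, smul_eq_mul, Zsqrtd.norm_mul]

theorem norm_zero : ruNorm 0 = 0 := by simp [ruNorm, Zsqrtd.norm_def]

/-- Norms of vectors of the span are divisible by `8`. -/
theorem norm_dvd : ∀ x ∈ Slat, (8 : ℤ) ∣ ruNorm x := by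
  intro x hx
  have hS := hx
  unfold Slat at hx
  induction hx using Submodule.span_induction with
  | mem x hx =>
    obtain ⟨p, rfl⟩ := hx
    exact Int.dvd_of_emod_eq_zero (norm_rB p)
  | zero => rw [norm_zero]; exact dvd_zero _
  | add x y hx hy ihx ihy =>
    rw [norm_add]
    have h4 := (four_dvd_iff _).1 (herm_dvd x hx y hy)
    have h1 := ihx hx
    have h2 := ihy hy
    omega
  | smul a x hx ih =>
    rw [norm_smul]
    exact Dvd.dvd.mul_left (ih hx) _

end Cfsg.Agent.Lib.Helper26_Ru
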