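import Mathlib
import Cfsg.Prelude.Def_Spor_Ru
import Cfsg.Agent.Lib.Helper26_RuBasis

/-!
Reduction modulo `1 + i` on the Gaussian integers, parity relations from Hermitian products, and
single-coordinate tests, for the minimum of the scaled Conway–Wales lattice.
-/

set_option autoImplicit false
set_option maxRecDepth 100000
set_option linter.unnecessarySeqFocus false
open Cfsg Cfsg.Spor

namespace Cfsg.Agent.Lib.Helper26_Ru

/-! ### Reduction modulo `1 + i` -/

/-- The ring homomorphism `ℤ[i] → ℤ/2`, `a + bi ↦ a + b`. -/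
def par : GaussianInt →+* ZMod 2 := Zsqrtd.lift ⟨(1 : ZMod 2), by decide⟩

theorem par_apply (z : GaussianInt) : par z = ((z.re : ZMod 2) + (z.im : ZMod 2)) := by
  unfold par
  rw [Zsqrtd.lift_apply_apply]
  simp

theorem zmod2_sq (a : ZMod 2) : a * a = a := by
  revert a
  decide

theorem par_star (z : GaussianInt) : par (star z) = par z := by
  rw [par_apply, par_apply, Zsqrtd.re_star, Zsqrtd.im_star, Int.cast_neg]
  congr 1
  exact CharTwo.neg_eq _

theorem par_eq_norm (z : GaussianInt) : par z = ((z.norm : ℤ) : ZMod 2) := by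
  rw [par_apply, Zsqrtd.norm_def]
  have h1 := zmod2_sq (z.re : ZMod 2)
  have h2 := zmod2_sq (z.im : ZMod 2)
  calc (z.re : ZMod 2) + (z.im : ZMod 2)
      = (z.re : ZMod 2) * z.re + (z.im : ZMod 2) * z.im := by rw [h1, h2]
    _ = ((z.re * z.re - -1 * z.im * z.im : ℤ) : ZMod 2) := by
        push_cast
        ring

theorem par_zero_iff (z : GaussianInt) : par z = 0 ↔ (2 : ℤ) ∣ z.norm := by
  rw [par_eq_norm]
  exact ZMod.intCast_zmod_eq_zero_iff_dvd _ 2

theorem gnorm_nonneg (z : GaussianInt) : 0 ≤ z.norm := Zsqrtd.norm_nonneg (by norm_num) z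

theorem gnorm_eq_zero (z : GaussianInt) : z.norm = 0 ↔ z = 0 :=
  Zsqrtd.norm_eq_zero_iff (by norm_num) z

theorem par_one_or (z : GaussianInt) : par z = 0 ∨ par z = 1 := by
  generalize par z = a
  revert a
  decide

theorem norm_pos_of_par {z : GaussianInt} (h : par z = 1) : 1 ≤ z.norm := by
  have h0 := gnorm_nonneg z
  by_contra hlt
  have hz : z.norm = 0 := by omega
  rw [par_eq_norm, hz] at h
  simp at h

theorem par_of_norm_one {z : GaussianInt} (h : z.norm = 1) : par z = 1 := by
  rw [par_eq_norm, h]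
  simp

/-- An element of even norm is divisible by `1 + i`. -/
theorem exists_div {z : GaussianInt} (h : par z = 0) :
    ∃ z' : GaussianInt, z = (⟨1, 1⟩ : GaussianInt) * z' ∧ z.norm = 2 * z'.norm := by
  rw [par_apply, ← Int.cast_add, ZMod.intCast_zmod_eq_zero_iff_dvd] at h
  obtain ⟨k, hk⟩ := h
  refine ⟨⟨k, k - z.re⟩, ?_, ?_⟩
  · apply Zsqrtd.ext
    · simp only [Zsqrtd.re_mul]
      ring
    · simp only [Zsqrtd.im_mul]
      push_cast at hk
      linarith
  · rw [Zsqrtd.norm_def, Zsqrtd.norm_def]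
    push_cast at hk
    have hi : z.im = 2 * k - z.re := by linarith
    rw [hi]
    ring

theorem exists_div_vec {x : RuVec} (h : ∀ p, par (x p) = 0) :
    ∃ x' : RuVec, x = (⟨1, 1⟩ : GaussianInt) • x' ∧ ruNorm x = 2 * ruNorm x' := by
  choose f hf using fun p => exists_div (h p)
  refine ⟨f, ?_, ?_⟩
  · funext p
    rw [Pi.smul_apply, smul_eq_mul]
    exact (hf p).1
  · unfold ruNorm
    rw [Finset.mul_sum]
    exact Finset.sum_congr rfl fun p _ => (hf p).2

theorem even_norm (w h c : GaussianInt) (hc : w * h = 4 * c) (hw : w.norm = 8 ∨ w.norm = 4) :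
    (2 : ℤ) ∣ h.norm := by
  have h1 := congrArg Zsqrtd.norm hc
  rw [Zsqrtd.norm_mul, Zsqrtd.norm_mul] at h1
  have h4 : (4 : GaussianInt).norm = 16 := by decide
  rw [h4] at h1
  rcases hw with hw | hw <;> rw [hw] at h1 <;> omega

/-- The parity relation coming from a divisibility of Hermitian products. -/
theorem parity (a b : GaussianInt) (hab : (a * star b).norm = 8 ∨ (a * star b).norm = 4)
    (x' y : RuVec) (h : (4 : GaussianInt) ∣ herm (a • x') (b • y)) :
    ∑ p, par (x' p) * par (y p) = 0 := by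
  rw [herm_smul_left, herm_smul_right, ← mul_assoc] at h
  obtain ⟨c, hc⟩ := h
  have h2 := even_norm (a * star b) (herm x' y) c hc hab
  have hp : par (herm x' y) = 0 := (par_zero_iff _).2 h2
  rw [herm, map_sum] at hp
  rw [← hp]
  refine Finset.sum_congr rfl fun p _ => ?_
  rw [map_mul, par_star]

/-- The number of odd coordinates is at most the norm. -/
theorem card_odd_le (x : RuVec) :
    ((Finset.univ.filter (fun p => par (x p) = 1)).card : ℤ) ≤ ruNorm x := by
  unfold ruNorm
  calc ((Finset.univ.filter (fun p => par (x p) = 1)).card : ℤ)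
      = ∑ p ∈ Finset.univ.filter (fun p => par (x p) = 1), (1 : ℤ) := by simp
    _ ≤ ∑ p ∈ Finset.univ.filter (fun p => par (x p) = 1), (x p).norm :=
        Finset.sum_le_sum fun p hp => norm_pos_of_par (Finset.mem_filter.1 hp).2
    _ ≤ ∑ p, (x p).norm :=
        Finset.sum_le_sum_of_subset_of_nonneg (Finset.filter_subset _ _)
          fun p _ _ => gnorm_nonneg _

/-- If the parity pattern of `x` is the indicator of a set with as many elements as the norm, the
entries on the set have norm `1` and the others vanish. -/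
theorem tight (x : RuVec) (T : RuIdx → Prop) [DecidablePred T] (N : ℕ)
    (hpar : ∀ p, par (x p) = if T p then 1 else 0)
    (hcard : (Finset.univ.filter T).card = N) (hnorm : ruNorm x = N) :
    ∀ p, (x p).norm = if T p then 1 else 0 := by
  have hnn : ∀ p ∈ Finset.univ, 0 ≤ (x p).norm - (if T p then 1 else 0) := by
    intro p _
    by_cases hT : T p
    · have := norm_pos_of_par (by rw [hpar p, if_pos hT] : par (x p) = 1)
      rw [if_pos hT]
      omega
    · rw [if_neg hT]
      have := gnorm_nonneg (x p)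
      omega
  have hsum : ∑ p, ((x p).norm - (if T p then 1 else 0)) = 0 := by
    rw [Finset.sum_sub_distrib]
    have h1 : ∑ p : RuIdx, (if T p then (1 : ℤ) else 0) = N := by
      rw [← hcard, Finset.card_filter]
      push_cast
      rfl
    have h2 : ∑ p, (x p).norm = (N : ℤ) := hnorm
    rw [h1, h2, sub_self]
  intro p
  have := (Finset.sum_eq_zero_iff_of_nonneg hnn).1 hsum p (Finset.mem_univ p)
  omega

/-! ### Single-coordinate tests -/

theorem herm_single (x g : RuVec) (p0 : RuIdx) (h : ∀ p, p ≠ p0 → x p = 0 ∨ g p = 0) :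
    herm x g = x p0 * star (g p0) := by
  unfold herm
  rw [Finset.sum_eq_single p0]
  · intro p _ hp
    rcases h p hp with h0 | h0 <;> rw [h0] <;> simp
  · intro h0
    exact absurd (Finset.mem_univ p0) h0

theorem single_kill (x g : RuVec) (p0 : RuIdx) (h : ∀ p, p ≠ p0 → x p = 0 ∨ g p = 0)
    (hd : (4 : GaussianInt) ∣ herm x g) : (16 : ℤ) ∣ (x p0).norm * (g p0).norm := by
  rw [herm_single x g p0 h] at hd
  obtain ⟨c, hc⟩ := hd
  have h1 := congrArg Zsqrtd.norm hc
  rw [Zsqrtd.norm_mul, Zsqrtd.norm_mul] at h1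
  have h4 : (4 : GaussianInt).norm = 16 := by decide
  have hs : (star (g p0)).norm = (g p0).norm := by
    rw [Zsqrtd.norm_def, Zsqrtd.norm_def, Zsqrtd.re_star, Zsqrtd.im_star]
    ring
  rw [h4, hs] at h1
  exact ⟨c.norm, h1⟩

/-! ### Systematic form of a binary code -/

theorem sys_eq {ι : Type*} [Fintype ι] [DecidableEq ι] {k : ℕ} (info : Fin k → ι)
    (G : Fin k → ι → ZMod 2) (hG : ∀ i j, G i (info j) = if i = j then 1 else 0)
    (c : ι → ZMod 2) (hpar : ∀ q, (∀ i, q ≠ info i) → c q = ∑ i, c (info i) * G i q) :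
    c = fun p => ∑ i, c (info i) * G i p := by
  funext p
  by_cases h : ∃ j, p = info j
  · obtain ⟨j, rfl⟩ := h
    simp [hG]
  · exact hpar p (fun i hi => h ⟨i, hi⟩)

theorem par_sum_eq {ι : Type*} [Fintype ι] [DecidableEq ι] {k : ℕ} (info : Fin k → ι)
    (G : Fin k → ι → ZMod 2) (c : ι → ZMod 2) (q : ι) :
    ∑ p, c p * ((if p = q then 1 else 0) + ∑ i, (if p = info i then G i q else 0)) =
      c q + ∑ i, c (info i) * G i q := by
  simp only [mul_add, Finset.sum_add_distrib, Finset.mul_sum]
  congr 1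
  · simp
  · rw [Finset.sum_comm]
    refine Finset.sum_congr rfl fun i _ => ?_
    simp

end Cfsg.Agent.Lib.Helper26_Ru
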