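import Mathlib
import Cfsg.Prelude.Def_Spor_Ru
import Cfsg.Agent.Lib.Helper26_RuPar

/-!
Data for the minimum of the scaled Conway–Wales lattice: systematic generator matrices of the two
layer codes, parity test vectors, single-coordinate test vectors, with their kernel-checked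
specifications.  Generated.
-/

set_option autoImplicit false
set_option maxRecDepth 100000
open Cfsg Cfsg.Spor

namespace Cfsg.Agent.Lib.Helper26_Ru

/-- Information positions of the first layer code. -/
def info1L : List RuIdx := [(0, 0), (0, 1), (0, 2), (1, 0), (1, 1), (2, 0), (3, 0), (4, 0), (5, 0)]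
/-- Information positions of the second layer code. -/
def info2L : List RuIdx := [(0, 0), (0, 1), (0, 2), (1, 0), (1, 1), (2, 0), (3, 0), (4, 0), (5, 0), (6, 0)]
/-- Generator masks (systematic form) of the first layer code. -/
def g1L : List ℕ := [262581449, 111986186, 101345996, 90885264, 174771296, 251662080, 251719680, 252641280, 267386880]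
/-- Generator masks (systematic form) of the second layer code. -/
def g2L : List ℕ := [10923209, 111986186, 101345996, 174771344, 174771296, 3840, 61440, 983040, 15728640, 251658240]
/-- Test vectors for the first parity stage (indexed by position; zero at information positions). -/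
def y0L : List RuVec := [
  ruOfArray ![![⟨0, 0⟩, ⟨0, 0⟩, ⟨0, 0⟩, ⟨0, 0⟩], ![⟨0, 0⟩, ⟨0, 0⟩, ⟨0, 0⟩, ⟨0, 0⟩], ![⟨0, 0⟩, ⟨0, 0⟩, ⟨0, 0⟩, ⟨0, 0⟩], ![⟨0, 0⟩, ⟨0, 0⟩, ⟨0, 0⟩, ⟨0, 0⟩], ![⟨0, 0⟩, ⟨0, 0⟩, ⟨0, 0⟩, ⟨0, 0⟩], ![⟨0, 0⟩, ⟨0, 0⟩, ⟨0, 0⟩, ⟨0, 0⟩], ![⟨0, 0⟩, ⟨0, 0⟩, ⟨0, 0⟩, ⟨0, 0⟩]],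
  ruOfArray ![![⟨0, 0⟩, ⟨0, 0⟩, ⟨0, 0⟩, ⟨0, 0⟩], ![⟨0, 0⟩, ⟨0, 0⟩, ⟨0, 0⟩, ⟨0, 0⟩], ![⟨0, 0⟩, ⟨0, 0⟩, ⟨0, 0⟩, ⟨0, 0⟩], ![⟨0, 0⟩, ⟨0, 0⟩, ⟨0, 0⟩, ⟨0, 0⟩], ![⟨0, 0⟩, ⟨0, 0⟩, ⟨0, 0⟩, ⟨0, 0⟩], ![⟨0, 0⟩, ⟨0, 0⟩, ⟨0, 0⟩, ⟨0, 0⟩], ![⟨0, 0⟩, ⟨0, 0⟩, ⟨0, 0⟩, ⟨0, 0⟩]],
  ruOfArray ![![⟨0, 0⟩, ⟨0, 0⟩, ⟨0, 0⟩, ⟨0, 0⟩], ![⟨0, 0⟩, ⟨0, 0⟩, ⟨0, 0⟩, ⟨0, 0⟩], ![⟨0, 0⟩, ⟨0, 0⟩, ⟨0, 0⟩, ⟨0, 0⟩], ![⟨0, 0⟩, ⟨0, 0⟩, ⟨0, 0⟩, ⟨0, 0⟩], ![⟨0, 0⟩, ⟨0, 0⟩, ⟨0, 0⟩, ⟨0, 0⟩], ![⟨0, 0⟩, ⟨0, 0⟩, ⟨0, 0⟩, ⟨0, 0⟩], ![⟨0, 0⟩, ⟨0, 0⟩, ⟨0, 0⟩, ⟨0, 0⟩]],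
  ruOfArray ![![⟨1, 0⟩, ⟨1, 0⟩, ⟨1, 0⟩, ⟨1, 0⟩], ![⟨0, 0⟩, ⟨0, 0⟩, ⟨0, 0⟩, ⟨0, 0⟩], ![⟨0, 0⟩, ⟨0, 0⟩, ⟨0, 0⟩, ⟨0, 0⟩], ![⟨0, 0⟩, ⟨0, 0⟩, ⟨0, 0⟩, ⟨0, 0⟩], ![⟨0, 0⟩, ⟨0, 0⟩, ⟨0, 0⟩, ⟨0, 0⟩], ![⟨0, 0⟩, ⟨0, 0⟩, ⟨0, 0⟩, ⟨0, 0⟩], ![⟨0, 0⟩, ⟨0, 0⟩, ⟨0, 0⟩, ⟨0, 0⟩]],
  ruOfArray ![![⟨0, 0⟩, ⟨0, 0⟩, ⟨0, 0⟩, ⟨0, 0⟩], ![⟨0, 0⟩, ⟨0, 0⟩, ⟨0, 0⟩, ⟨0, 0⟩], ![⟨0, 0⟩, ⟨0, 0⟩, ⟨0, 0⟩, ⟨0, 0⟩], ![⟨0, 0⟩, ⟨0, 0⟩, ⟨0, 0⟩, ⟨0, 0⟩], ![⟨0, 0⟩, ⟨0, 0⟩, ⟨0, 0⟩, ⟨0, 0⟩], ![⟨0, 0⟩, ⟨0, 0⟩, ⟨0, 0⟩, ⟨0, 0⟩], ![⟨0, 0⟩, ⟨0, 0⟩, ⟨0, 0⟩, ⟨0, 0⟩]],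
  ruOfArray ![![⟨0, 0⟩, ⟨0, 0⟩, ⟨0, 0⟩, ⟨0, 0⟩], ![⟨0, 0⟩, ⟨0, 0⟩, ⟨0, 0⟩, ⟨0, 0⟩], ![⟨0, 0⟩, ⟨0, 0⟩, ⟨0, 0⟩, ⟨0, 0⟩], ![⟨0, 0⟩, ⟨0, 0⟩, ⟨0, 0⟩, ⟨0, 0⟩], ![⟨0, 0⟩, ⟨0, 0⟩, ⟨0, 0⟩, ⟨0, 0⟩], ![⟨0, 0⟩, ⟨0, 0⟩, ⟨0, 0⟩, ⟨0, 0⟩], ![⟨0, 0⟩, ⟨0, 0⟩, ⟨0, 0⟩, ⟨0, 0⟩]],
  ruOfArray ![![⟨1, 0⟩, ⟨0, 0⟩, ⟨1, 0⟩, ⟨0, 0⟩], ![⟨0, 0⟩, ⟨1, 0⟩, ⟨1, 0⟩, ⟨0, 0⟩], ![⟨0, 0⟩, ⟨0, 0⟩, ⟨0, 0⟩, ⟨0, 0⟩], ![⟨0, 0⟩, ⟨0, 0⟩, ⟨0, 0⟩, ⟨0, 0⟩], ![⟨0, 0⟩, ⟨0, 0⟩, ⟨0, 0⟩, ⟨0, 0⟩], ![⟨0, 0⟩, ⟨0, 0⟩, ⟨0, 0⟩, ⟨0, 0⟩], ![⟨0, 0⟩, ⟨0, 0⟩, ⟨0, 0⟩, ⟨0, 0⟩]],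
  ruOfArray ![![⟨1, 0⟩, ⟨0, 0⟩, ⟨1, 0⟩, ⟨0, 0⟩], ![⟨1, 0⟩, ⟨0, 0⟩, ⟨0, 0⟩, ⟨1, 0⟩], ![⟨0, 0⟩, ⟨0, 0⟩, ⟨0, 0⟩, ⟨0, 0⟩], ![⟨0, 0⟩, ⟨0, 0⟩, ⟨0, 0⟩, ⟨0, 0⟩], ![⟨0, 0⟩, ⟨0, 0⟩, ⟨0, 0⟩, ⟨0, 0⟩], ![⟨0, 0⟩, ⟨0, 0⟩, ⟨0, 0⟩, ⟨0, 0⟩], ![⟨0, 0⟩, ⟨0, 0⟩, ⟨0, 0⟩, ⟨0, 0⟩]],
  ruOfArray ![![⟨0, 0⟩, ⟨0, 0⟩, ⟨0, 0⟩, ⟨0, 0⟩], ![⟨0, 0⟩, ⟨0, 0⟩, ⟨0, 0⟩, ⟨0, 0⟩], ![⟨0, 0⟩, ⟨0, 0⟩, ⟨0, 0⟩, ⟨0, 0⟩], ![⟨0, 0⟩, ⟨0, 0⟩, ⟨0, 0⟩, ⟨0, 0⟩], ![⟨0, 0⟩, ⟨0, 0⟩, ⟨0, 0⟩, ⟨0, 0⟩], ![⟨0, 0⟩, ⟨0, 0⟩, ⟨0, 0⟩, ⟨0, 0⟩], ![⟨0, 0⟩, ⟨0, 0⟩, ⟨0, 0⟩, ⟨0, 0⟩]],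
  ruOfArray ![![⟨0, 0⟩, ⟨1, 0⟩, ⟨1, 0⟩, ⟨0, 0⟩], ![⟨0, 0⟩, ⟨0, 0⟩, ⟨0, 0⟩, ⟨0, 0⟩], ![⟨1, 0⟩, ⟨1, 0⟩, ⟨0, 0⟩, ⟨0, 0⟩], ![⟨0, 0⟩, ⟨0, 0⟩, ⟨0, 0⟩, ⟨0, 0⟩], ![⟨0, 0⟩, ⟨0, 0⟩, ⟨0, 0⟩, ⟨0, 0⟩], ![⟨0, 0⟩, ⟨0, 0⟩, ⟨0, 0⟩, ⟨0, 0⟩], ![⟨0, 0⟩, ⟨0, 0⟩, ⟨0, 0⟩, ⟨0, 0⟩]],
  ruOfArray ![![⟨1, 0⟩, ⟨1, 0⟩, ⟨0, 0⟩, ⟨0, 0⟩], ![⟨1, 0⟩, ⟨1, 0⟩, ⟨0, 0⟩, ⟨0, 0⟩], ![⟨1, 0⟩, ⟨0, 0⟩, ⟨1, 0⟩, ⟨0, 0⟩], ![⟨0, 0⟩, ⟨0, 0⟩, ⟨0, 0⟩, ⟨0, 0⟩], ![⟨0, 0⟩, ⟨0, 0⟩, ⟨0, 0⟩, ⟨0, 0⟩], ![⟨0, 0⟩, ⟨0, 0⟩, ⟨0, 0⟩, ⟨0, 0⟩], ![⟨0, 0⟩, ⟨0, 0⟩, ⟨0, 0⟩, ⟨0, 0⟩]],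
  ruOfArray ![![⟨1, 0⟩, ⟨0, 0⟩, ⟨1, 0⟩, ⟨0, 0⟩], ![⟨1, 0⟩, ⟨1, 0⟩, ⟨0, 0⟩, ⟨0, 0⟩], ![⟨1, 0⟩, ⟨0, 0⟩, ⟨0, 0⟩, ⟨1, 0⟩], ![⟨0, 0⟩, ⟨0, 0⟩, ⟨0, 0⟩, ⟨0, 0⟩], ![⟨0, 0⟩, ⟨0, 0⟩, ⟨0, 0⟩, ⟨0, 0⟩], ![⟨0, 0⟩, ⟨0, 0⟩, ⟨0, 0⟩, ⟨0, 0⟩], ![⟨0, 0⟩, ⟨0, 0⟩, ⟨0, 0⟩, ⟨0, 0⟩]],
  ruOfArray ![![⟨0, 0⟩, ⟨0, 0⟩, ⟨0, 0⟩, ⟨0, 0⟩], ![⟨0, 0⟩, ⟨0, 0⟩, ⟨0, 0⟩, ⟨0, 0⟩], ![⟨0, 0⟩, ⟨0, 0⟩, ⟨0, 0⟩, ⟨0, 0⟩], ![⟨0, 0⟩, ⟨0, 0⟩, ⟨0, 0⟩, ⟨0, 0⟩], ![⟨0, 0⟩, ⟨0, 0⟩, ⟨0, 0⟩, ⟨0, 0⟩], ![⟨0, 0⟩, ⟨0, 0⟩, ⟨0, 0⟩, ⟨0, 0⟩], ![⟨0, 0⟩, ⟨0, 0⟩, ⟨0, 0⟩, ⟨0, 0⟩]],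
  ruOfArray ![![⟨1, 0⟩, ⟨0, 0⟩, ⟨1, 0⟩, ⟨0, 0⟩], ![⟨0, 0⟩, ⟨0, 0⟩, ⟨0, 0⟩, ⟨0, 0⟩], ![⟨0, 0⟩, ⟨0, 0⟩, ⟨0, 0⟩, ⟨0, 0⟩], ![⟨1, 0⟩, ⟨1, 0⟩, ⟨0, 0⟩, ⟨0, 0⟩], ![⟨0, 0⟩, ⟨0, 0⟩, ⟨0, 0⟩, ⟨0, 0⟩], ![⟨0, 0⟩, ⟨0, 0⟩, ⟨0, 0⟩, ⟨0, 0⟩], ![⟨0, 0⟩, ⟨0, 0⟩, ⟨0, 0⟩, ⟨0, 0⟩]],
  ruOfArray ![![⟨0, 0⟩, ⟨1, 0⟩, ⟨1, 0⟩, ⟨0, 0⟩], ![⟨1, 0⟩, ⟨1, 0⟩, ⟨0, 0⟩, ⟨0, 0⟩], ![⟨0, 0⟩, ⟨0, 0⟩, ⟨0, 0⟩, ⟨0, 0⟩], ![⟨1, 0⟩, ⟨0, 0⟩, ⟨1, 0⟩, ⟨0, 0⟩], ![⟨0, 0⟩, ⟨0, 0⟩, ⟨0, 0⟩, ⟨0, 0⟩], ![⟨0, 0⟩, ⟨0, 0⟩, ⟨0, 0⟩, ⟨0, 0⟩], ![⟨0, 0⟩, ⟨0, 0⟩, ⟨0, 0⟩, ⟨0, 0⟩]],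
  ruOfArray ![![⟨1, 0⟩, ⟨1, 0⟩, ⟨0, 0⟩, ⟨0, 0⟩], ![⟨1, 0⟩, ⟨1, 0⟩, ⟨0, 0⟩, ⟨0, 0⟩], ![⟨0, 0⟩, ⟨0, 0⟩, ⟨0, 0⟩, ⟨0, 0⟩], ![⟨1, 0⟩, ⟨0, 0⟩, ⟨0, 0⟩, ⟨1, 0⟩], ![⟨0, 0⟩, ⟨0, 0⟩, ⟨0, 0⟩, ⟨0, 0⟩], ![⟨0, 0⟩, ⟨0, 0⟩, ⟨0, 0⟩, ⟨0, 0⟩], ![⟨0, 0⟩, ⟨0, 0⟩, ⟨0, 0⟩, ⟨0, 0⟩]],
  ruOfArray ![![⟨0, 0⟩, ⟨0, 0⟩, ⟨0, 0⟩, ⟨0, 0⟩], ![⟨0, 0⟩, ⟨0, 0⟩, ⟨0, 0⟩, ⟨0, 0⟩], ![⟨0, 0⟩, ⟨0, 0⟩, ⟨0, 0⟩, ⟨0, 0⟩], ![⟨0, 0⟩, ⟨0, 0⟩, ⟨0, 0⟩, ⟨0, 0⟩], ![⟨0, 0⟩, ⟨0, 0⟩, ⟨0, 0⟩, ⟨0, 0⟩], ![⟨0, 0⟩, ⟨0, 0⟩, ⟨0, 0⟩, ⟨0, 0⟩], ![⟨0, 0⟩, ⟨0, 0⟩, ⟨0, 0⟩, ⟨0, 0⟩]],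
  ruOfArray ![![⟨1, 0⟩, ⟨0, 0⟩, ⟨1, 0⟩, ⟨0, 0⟩], ![⟨1, 0⟩, ⟨1, 0⟩, ⟨0, 0⟩, ⟨0, 0⟩], ![⟨0, 0⟩, ⟨0, 0⟩, ⟨0, 0⟩, ⟨0, 0⟩], ![⟨0, 0⟩, ⟨0, 0⟩, ⟨0, 0⟩, ⟨0, 0⟩], ![⟨1, 0⟩, ⟨1, 0⟩, ⟨0, 0⟩, ⟨0, 0⟩], ![⟨0, 0⟩, ⟨0, 0⟩, ⟨0, 0⟩, ⟨0, 0⟩], ![⟨0, 0⟩, ⟨0, 0⟩, ⟨0, 0⟩, ⟨0, 0⟩]],
  ruOfArray ![![⟨1, 0⟩, ⟨1, 0⟩, ⟨0, 0⟩, ⟨0, 0⟩], ![⟨0, 0⟩, ⟨0, 0⟩, ⟨0, 0⟩, ⟨0, 0⟩], ![⟨0, 0⟩, ⟨0, 0⟩, ⟨0, 0⟩, ⟨0, 0⟩], ![⟨0, 0⟩, ⟨0, 0⟩, ⟨0, 0⟩, ⟨0, 0⟩], ![⟨1, 0⟩, ⟨0, 0⟩, ⟨1, 0⟩, ⟨0, 0⟩], ![⟨0, 0⟩, ⟨0, 0⟩, ⟨0, 0⟩, ⟨0, 0⟩], ![⟨0, 0⟩, ⟨0, 0⟩, ⟨0, 0⟩, ⟨0, 0⟩]],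
  ruOfArray ![![⟨0, 0⟩, ⟨1, 0⟩, ⟨1, 0⟩, ⟨0, 0⟩], ![⟨1, 0⟩, ⟨1, 0⟩, ⟨0, 0⟩, ⟨0, 0⟩], ![⟨0, 0⟩, ⟨0, 0⟩, ⟨0, 0⟩, ⟨0, 0⟩], ![⟨0, 0⟩, ⟨0, 0⟩, ⟨0, 0⟩, ⟨0, 0⟩], ![⟨1, 0⟩, ⟨0, 0⟩, ⟨0, 0⟩, ⟨1, 0⟩], ![⟨0, 0⟩, ⟨0, 0⟩, ⟨0, 0⟩, ⟨0, 0⟩], ![⟨0, 0⟩, ⟨0, 0⟩, ⟨0, 0⟩, ⟨0, 0⟩]],
  ruOfArray ![![⟨0, 0⟩, ⟨0, 0⟩, ⟨0, 0⟩, ⟨0, 0⟩], ![⟨0, 0⟩, ⟨0, 0⟩, ⟨0, 0⟩, ⟨0, 0⟩], ![⟨0, 0⟩, ⟨0, 0⟩, ⟨0, 0⟩, ⟨0, 0⟩], ![⟨0, 0⟩, ⟨0, 0⟩, ⟨0, 0⟩, ⟨0, 0⟩], ![⟨0, 0⟩, ⟨0, 0⟩, ⟨0, 0⟩, ⟨0, 0⟩], ![⟨0, 0⟩, ⟨0, 0⟩, ⟨0, 0⟩, ⟨0, 0⟩], ![⟨0, 0⟩, ⟨0, 0⟩, ⟨0, 0⟩, ⟨0, 0⟩]],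
  ruOfArray ![![⟨1, 0⟩, ⟨1, 0⟩, ⟨0, 0⟩, ⟨0, 0⟩], ![⟨1, 0⟩, ⟨1, 0⟩, ⟨0, 0⟩, ⟨0, 0⟩], ![⟨0, 0⟩, ⟨0, 0⟩, ⟨0, 0⟩, ⟨0, 0⟩], ![⟨0, 0⟩, ⟨0, 0⟩, ⟨0, 0⟩, ⟨0, 0⟩], ![⟨0, 0⟩, ⟨0, 0⟩, ⟨0, 0⟩, ⟨0, 0⟩], ![⟨1, 0⟩, ⟨1, 0⟩, ⟨0, 0⟩, ⟨0, 0⟩], ![⟨0, 0⟩, ⟨0, 0⟩, ⟨0, 0⟩, ⟨0, 0⟩]],
  ruOfArray ![![⟨0, 0⟩, ⟨0, 0⟩, ⟨0, 0⟩, ⟨0, 0⟩], ![⟨1, 0⟩, ⟨1, 0⟩, ⟨0, 0⟩, ⟨0, 0⟩], ![⟨0, 0⟩, ⟨0, 0⟩, ⟨0, 0⟩, ⟨0, 0⟩], ![⟨0, 0⟩, ⟨0, 0⟩, ⟨0, 0⟩, ⟨0, 0⟩], ![⟨0, 0⟩, ⟨0, 0⟩, ⟨0, 0⟩, ⟨0, 0⟩], ![⟨1, 0⟩, ⟨0, 0⟩, ⟨1, 0⟩, ⟨0, 0⟩], ![⟨0, 0⟩, ⟨0, 0⟩, ⟨0, 0⟩, ⟨0, 0⟩]],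
  ruOfArray ![![⟨1, 0⟩, ⟨1, 0⟩, ⟨0, 0⟩, ⟨0, 0⟩], ![⟨0, 0⟩, ⟨0, 0⟩, ⟨0, 0⟩, ⟨0, 0⟩], ![⟨0, 0⟩, ⟨0, 0⟩, ⟨0, 0⟩, ⟨0, 0⟩], ![⟨0, 0⟩, ⟨0, 0⟩, ⟨0, 0⟩, ⟨0, 0⟩], ![⟨0, 0⟩, ⟨0, 0⟩, ⟨0, 0⟩, ⟨0, 0⟩], ![⟨1, 0⟩, ⟨0, 0⟩, ⟨0, 0⟩, ⟨1, 0⟩], ![⟨0, 0⟩, ⟨0, 0⟩, ⟨0, 0⟩, ⟨0, 0⟩]],
  ruOfArray ![![⟨1, 0⟩, ⟨0, 0⟩, ⟨0, 0⟩, ⟨0, 0⟩], ![⟨1, 0⟩, ⟨0, 0⟩, ⟨0, 0⟩, ⟨0, 0⟩], ![⟨1, 0⟩, ⟨0, 0⟩, ⟨0, 0⟩, ⟨0, 0⟩], ![⟨1, 0⟩, ⟨0, 0⟩, ⟨0, 0⟩, ⟨0, 0⟩], ![⟨1, 0⟩, ⟨0, 0⟩, ⟨0, 0⟩, ⟨0, 0⟩], ![⟨1, 0⟩, ⟨0, 0⟩, ⟨0, 0⟩, ⟨0, 0⟩], ![⟨1, 0⟩, ⟨0, 0⟩, ⟨0, 0⟩, ⟨0, 0⟩]],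
  ruOfArray ![![⟨1, 0⟩, ⟨1, 0⟩, ⟨1, 0⟩, ⟨0, 0⟩], ![⟨0, 0⟩, ⟨1, 0⟩, ⟨0, 0⟩, ⟨0, 0⟩], ![⟨1, 0⟩, ⟨0, 0⟩, ⟨0, 0⟩, ⟨0, 0⟩], ![⟨1, 0⟩, ⟨0, 0⟩, ⟨0, 0⟩, ⟨0, 0⟩], ![⟨1, 0⟩, ⟨0, 0⟩, ⟨0, 0⟩, ⟨0, 0⟩], ![⟨1, 0⟩, ⟨0, 0⟩, ⟨0, 0⟩, ⟨0, 0⟩], ![⟨0, 0⟩, ⟨1, 0⟩, ⟨0, 0⟩, ⟨0, 0⟩]],
  ruOfArray ![![⟨1, 0⟩, ⟨1, 0⟩, ⟨1, 0⟩, ⟨0, 0⟩], ![⟨1, 0⟩, ⟨0, 0⟩, ⟨0, 0⟩, ⟨0, 0⟩], ![⟨1, 0⟩, ⟨0, 0⟩, ⟨0, 0⟩, ⟨0, 0⟩], ![⟨1, 0⟩, ⟨0, 0⟩, ⟨0, 0⟩, ⟨0, 0⟩], ![⟨1, 0⟩, ⟨0, 0⟩, ⟨0, 0⟩, ⟨0, 0⟩], ![⟨1, 0⟩, ⟨0, 0⟩, ⟨0, 0⟩, ⟨0, 0⟩], ![⟨0, 0⟩, ⟨0, 0⟩, ⟨1, 0⟩, ⟨0, 0⟩]],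
  ruOfArray ![![⟨1, 0⟩, ⟨0, 0⟩, ⟨0, 0⟩, ⟨0, 0⟩], ![⟨0, 0⟩, ⟨1, 0⟩, ⟨0, 0⟩, ⟨0, 0⟩], ![⟨1, 0⟩, ⟨0, 0⟩, ⟨0, 0⟩, ⟨0, 0⟩], ![⟨1, 0⟩, ⟨0, 0⟩, ⟨0, 0⟩, ⟨0, 0⟩], ![⟨1, 0⟩, ⟨0, 0⟩, ⟨0, 0⟩, ⟨0, 0⟩], ![⟨1, 0⟩, ⟨0, 0⟩, ⟨0, 0⟩, ⟨0, 0⟩], ![⟨0, 0⟩, ⟨0, 0⟩, ⟨0, 0⟩, ⟨1, 0⟩]]]
/-- Coefficients of `(-2+2i) • y0`. -/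
def cY0 : List (List (GaussianInt × Fin 28)) := [
  [],
  [],
  [],
  [(⟨2, -2⟩, 0), (⟨2, -2⟩, 1), (⟨2, -2⟩, 2), (⟨6, 2⟩, 3), (⟨6, 4⟩, 5), (⟨6, 4⟩, 6), (⟨6, 12⟩, 7), (⟨4, 0⟩, 9), (⟨7, 15⟩, 10), (⟨-9, 27⟩, 11), (⟨6, 10⟩, 12), (⟨6, 12⟩, 13), (⟨0, 16⟩, 14), (⟨-6, 28⟩, 15), (⟨3, 15⟩, 16), (⟨-17, 32⟩, 17), (⟨-2, 22⟩, 18), (⟨-59, 45⟩, 19), (⟨-45, 51⟩, 20), (⟨-88, 11⟩, 21), (⟨-94, 47⟩, 22), (⟨-145, -43⟩, 23), (⟨-115, 60⟩, 24), (⟨-228, -59⟩, 25), (⟨-216, -31⟩, 26), (⟨-210, 44⟩, 27)],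
  [],
  [],
  [(⟨2, -2⟩, 0), (⟨2, -2⟩, 2), (⟨4, 0⟩, 3), (⟨2, 2⟩, 5), (⟨2, 2⟩, 6), (⟨4, 4⟩, 7), (⟨2, 0⟩, 9), (⟨6, 6⟩, 10), (⟨-1, 13⟩, 11), (⟨2, 4⟩, 12), (⟨2, 4⟩, 13), (⟨0, 8⟩, 14), (⟨0, 12⟩, 15), (⟨3, 7⟩, 16), (⟨-4, 17⟩, 17), (⟨2, 10⟩, 18), (⟨-21, 27⟩, 19), (⟨-14, 27⟩, 20), (⟨-38, 16⟩, 21), (⟨-34, 30⟩, 22), (⟨-69, -1⟩, 23), (⟨-46, 40⟩, 24), (⟨-108, -1⟩, 25), (⟨-102, 5⟩, 26), (⟨-88, 42⟩, 27)],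
  [(⟨2, -2⟩, 0), (⟨2, -2⟩, 2), (⟨4, 0⟩, 3), (⟨-2, 2⟩, 4), (⟨2, 2⟩, 5), (⟨2, 2⟩, 6), (⟨4, 2⟩, 7), (⟨2, 0⟩, 9), (⟨5, 5⟩, 10), (⟨-1, 11⟩, 11), (⟨2, 4⟩, 12), (⟨0, 4⟩, 13), (⟨0, 8⟩, 14), (⟨-1, 11⟩, 15), (⟨2, 6⟩, 16), (⟨-5, 14⟩, 17), (⟨2, 10⟩, 18), (⟨-20, 20⟩, 19), (⟨-15, 24⟩, 20), (⟨-36, 13⟩, 21), (⟨-33, 25⟩, 22), (⟨-63, -3⟩, 23), (⟨-44, 33⟩, 24), (⟨-98, -11⟩, 25), (⟨-94, -1⟩, 26), (⟨-82, 32⟩, 27)],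
  [],
  [(⟨2, -2⟩, 1), (⟨2, -2⟩, 2), (⟨4, 0⟩, 3), (⟨4, 2⟩, 5), (⟨6, 2⟩, 6), (⟨6, 8⟩, 7), (⟨2, 2⟩, 8), (⟨4, 4⟩, 9), (⟨8, 12⟩, 10), (⟨-8, 22⟩, 11), (⟨5, 7⟩, 12), (⟨6, 8⟩, 13), (⟨2, 12⟩, 14), (⟨-3, 25⟩, 15), (⟨3, 15⟩, 16), (⟨-16, 25⟩, 17), (⟨-2, 22⟩, 18), (⟨-46, 39⟩, 19), (⟨-36, 43⟩, 20), (⟨-76, 13⟩, 21), (⟨-81, 43⟩, 22), (⟨-123, -36⟩, 23), (⟨-98, 46⟩, 24), (⟨-192, -52⟩, 25), (⟨-176, -25⟩, 26), (⟨-177, 36⟩, 27)],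
  [(⟨2, -2⟩, 0), (⟨2, -2⟩, 1), (⟨4, 0⟩, 3), (⟨-2, 2⟩, 4), (⟨2, 2⟩, 5), (⟨2, 2⟩, 6), (⟨2, 4⟩, 7), (⟨2, 2⟩, 8), (⟨2, 2⟩, 9), (⟨3, 7⟩, 10), (⟨-4, 10⟩, 11), (⟨4, 4⟩, 12), (⟨1, 7⟩, 13), (⟨1, 7⟩, 14), (⟨-6, 14⟩, 15), (⟨1, 9⟩, 16), (⟨-12, 12⟩, 17), (⟨-4, 12⟩, 18), (⟨-28, 14⟩, 19), (⟨-25, 21⟩, 20), (⟨-43, 0⟩, 21), (⟨-46, 16⟩, 22), (⟨-63, -24⟩, 23), (⟨-59, 19⟩, 24), (⟨-106, -48⟩, 25), (⟨-99, -29⟩, 26), (⟨-100, 4⟩, 27)],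
  [(⟨2, -2⟩, 0), (⟨2, -2⟩, 2), (⟨4, 0⟩, 3), (⟨-2, 2⟩, 4), (⟨0, 2⟩, 5), (⟨2, 2⟩, 6), (⟨2, 2⟩, 7), (⟨2, 2⟩, 8), (⟨2, 2⟩, 9), (⟨5, 5⟩, 10), (⟨-3, 9⟩, 11), (⟨1, 3⟩, 12), (⟨-1, 3⟩, 13), (⟨-1, 7⟩, 14), (⟨-3, 9⟩, 15), (⟨0, 8⟩, 16), (⟨-7, 10⟩, 17), (⟨-2, 10⟩, 18), (⟨-19, 15⟩, 19), (⟨-17, 17⟩, 20), (⟨-33, 5⟩, 21), (⟨-32, 15⟩, 22), (⟨-51, -14⟩, 23), (⟨-46, 18⟩, 24), (⟨-82, -30⟩, 25), (⟨-79, -21⟩, 26), (⟨-76, 9⟩, 27)],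
  [],
  [(⟨2, -2⟩, 0), (⟨2, -2⟩, 2), (⟨4, 0⟩, 3), (⟨4, 2⟩, 5), (⟨4, 2⟩, 6), (⟨6, 6⟩, 7), (⟨2, 0⟩, 9), (⟨7, 9⟩, 10), (⟨-2, 18⟩, 11), (⟨4, 4⟩, 12), (⟨4, 4⟩, 13), (⟨2, 10⟩, 14), (⟨2, 16⟩, 15), (⟨3, 9⟩, 16), (⟨-5, 22⟩, 17), (⟨2, 14⟩, 18), (⟨-29, 37⟩, 19), (⟨-18, 38⟩, 20), (⟨-52, 22⟩, 21), (⟨-48, 43⟩, 22), (⟨-95, -3⟩, 23), (⟨-60, 52⟩, 24), (⟨-145, 0⟩, 25), (⟨-133, 12⟩, 26), (⟨-117, 59⟩, 27)],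
  [(⟨2, -2⟩, 1), (⟨2, -2⟩, 2), (⟨4, 0⟩, 3), (⟨-2, 2⟩, 4), (⟨0, 2⟩, 5), (⟨4, 2⟩, 6), (⟨2, 4⟩, 7), (⟨4, 0⟩, 9), (⟨4, 6⟩, 10), (⟨-6, 12⟩, 11), (⟨2, 2⟩, 12), (⟨2, 4⟩, 13), (⟨0, 8⟩, 14), (⟨-2, 12⟩, 15), (⟨3, 7⟩, 16), (⟨-7, 16⟩, 17), (⟨1, 11⟩, 18), (⟨-24, 18⟩, 19), (⟨-21, 21⟩, 20), (⟨-35, 4⟩, 21), (⟨-41, 22⟩, 22), (⟨-61, -19⟩, 23), (⟨-54, 27⟩, 24), (⟨-100, -27⟩, 25), (⟨-94, -17⟩, 26), (⟨-96, 16⟩, 27)],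
  [(⟨2, -2⟩, 0), (⟨2, -2⟩, 1), (⟨4, 0⟩, 3), (⟨-2, 2⟩, 4), (⟨2, 2⟩, 5), (⟨2, 2⟩, 6), (⟨2, 4⟩, 7), (⟨2, 0⟩, 9), (⟨3, 5⟩, 10), (⟨-2, 10⟩, 11), (⟨4, 2⟩, 12), (⟨2, 6⟩, 13), (⟨2, 6⟩, 14), (⟨-3, 11⟩, 15), (⟨2, 6⟩, 16), (⟨-6, 13⟩, 17), (⟨-1, 9⟩, 18), (⟨-21, 17⟩, 19), (⟨-18, 21⟩, 20), (⟨-32, 5⟩, 21), (⟨-34, 20⟩, 22), (⟨-55, -9⟩, 23), (⟨-44, 27⟩, 24), (⟨-92, -19⟩, 25), (⟨-85, -6⟩, 26), (⟨-80, 20⟩, 27)],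
  [],
  [(⟨2, -2⟩, 0), (⟨2, -2⟩, 2), (⟨4, 0⟩, 3), (⟨-2, 2⟩, 4), (⟨0, 2⟩, 5), (⟨2, 2⟩, 6), (⟨2, 2⟩, 7), (⟨2, 0⟩, 9), (⟨4, 4⟩, 10), (⟨-2, 8⟩, 11), (⟨1, 3⟩, 12), (⟨-1, 3⟩, 13), (⟨-1, 7⟩, 14), (⟨-2, 8⟩, 15), (⟨1, 7⟩, 16), (⟨-4, 11⟩, 17), (⟨0, 8⟩, 18), (⟨-16, 15⟩, 19), (⟨-14, 16⟩, 20), (⟨-27, 6⟩, 21), (⟨-27, 16⟩, 22), (⟨-47, -8⟩, 23), (⟨-39, 22⟩, 24), (⟨-74, -19⟩, 25), (⟨-73, -11⟩, 26), (⟨-67, 15⟩, 27)],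
  [(⟨2, -2⟩, 0), (⟨2, -2⟩, 1), (⟨4, 0⟩, 3), (⟨6, 2⟩, 5), (⟨4, 2⟩, 6), (⟨6, 8⟩, 7), (⟨2, 0⟩, 9), (⟨6, 10⟩, 10), (⟨-2, 20⟩, 11), (⟨7, 7⟩, 12), (⟨6, 10⟩, 13), (⟨3, 11⟩, 14), (⟨-3, 23⟩, 15), (⟨4, 12⟩, 16), (⟨-12, 24⟩, 17), (⟨0, 16⟩, 18), (⟨-40, 37⟩, 19), (⟨-29, 43⟩, 20), (⟨-66, 16⟩, 21), (⟨-66, 44⟩, 22), (⟨-113, -16⟩, 23), (⟨-79, 54⟩, 24), (⟨-177, -26⟩, 25), (⟨-163, -1⟩, 26), (⟨-151, 52⟩, 27)],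
  [(⟨2, -2⟩, 1), (⟨2, -2⟩, 2), (⟨4, 0⟩, 3), (⟨-2, 2⟩, 4), (⟨0, 2⟩, 5), (⟨4, 2⟩, 6), (⟨2, 4⟩, 7), (⟨4, 0⟩, 9), (⟨4, 6⟩, 10), (⟨-6, 12⟩, 11), (⟨2, 4⟩, 12), (⟨1, 5⟩, 13), (⟨0, 8⟩, 14), (⟨-3, 13⟩, 15), (⟨3, 9⟩, 16), (⟨-9, 16⟩, 17), (⟨0, 12⟩, 18), (⟨-27, 18⟩, 19), (⟨-23, 21⟩, 20), (⟨-38, 3⟩, 21), (⟨-45, 22⟩, 22), (⟨-66, -22⟩, 23), (⟨-60, 26⟩, 24), (⟨-106, -37⟩, 25), (⟨-101, -23⟩, 26), (⟨-104, 12⟩, 27)],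
  [],
  [(⟨2, -2⟩, 0), (⟨2, -2⟩, 1), (⟨4, 0⟩, 3), (⟨-2, 2⟩, 4), (⟨2, 2⟩, 5), (⟨2, 2⟩, 6), (⟨2, 4⟩, 7), (⟨2, 0⟩, 9), (⟨3, 5⟩, 10), (⟨-2, 10⟩, 11), (⟨4, 4⟩, 12), (⟨1, 7⟩, 13), (⟨1, 7⟩, 14), (⟨-5, 13⟩, 15), (⟨2, 6⟩, 16), (⟨-8, 13⟩, 17), (⟨-1, 9⟩, 18), (⟨-24, 15⟩, 19), (⟨-20, 20⟩, 20), (⟨-35, 4⟩, 21), (⟨-37, 18⟩, 22), (⟨-57, -13⟩, 23), (⟨-48, 26⟩, 24), (⟨-96, -27⟩, 25), (⟨-92, -12⟩, 26), (⟨-86, 16⟩, 27)],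
  [(⟨-2, 2⟩, 4), (⟨-4, 0⟩, 5), (⟨-2, 0⟩, 6), (⟨-4, -4⟩, 7), (⟨-3, -5⟩, 10), (⟨0, -10⟩, 11), (⟨-3, -3⟩, 12), (⟨-5, -3⟩, 13), (⟨-2, -4⟩, 14), (⟨-2, -10⟩, 15), (⟨-2, -4⟩, 16), (⟨3, -11⟩, 17), (⟨-1, -7⟩, 18), (⟨16, -22⟩, 19), (⟨9, -23⟩, 20), (⟨31, -13⟩, 21), (⟨28, -26⟩, 22), (⟨55, 2⟩, 23), (⟨29, -29⟩, 24), (⟨81, -4⟩, 25), (⟨71, -14⟩, 26), (⟨63, -38⟩, 27)],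
  [(⟨2, -2⟩, 0), (⟨2, -2⟩, 1), (⟨4, 0⟩, 3), (⟨6, 2⟩, 5), (⟨4, 2⟩, 6), (⟨6, 8⟩, 7), (⟨2, 0⟩, 9), (⟨6, 10⟩, 10), (⟨-2, 20⟩, 11), (⟨7, 7⟩, 12), (⟨6, 10⟩, 13), (⟨3, 11⟩, 14), (⟨-3, 23⟩, 15), (⟨4, 10⟩, 16), (⟨-11, 24⟩, 17), (⟨0, 16⟩, 18), (⟨-40, 37⟩, 19), (⟨-28, 42⟩, 20), (⟨-65, 16⟩, 21), (⟨-64, 43⟩, 22), (⟨-109, -15⟩, 23), (⟨-76, 55⟩, 24), (⟨-174, -22⟩, 25), (⟨-161, 2⟩, 26), (⟨-147, 54⟩, 27)],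
  [(⟨2, -2⟩, 0), (⟨2, 0⟩, 3), (⟨-2, 2⟩, 4), (⟨1, 1⟩, 5), (⟨-1, 1⟩, 6), (⟨2, 2⟩, 8), (⟨0, 2⟩, 9), (⟨1, 1⟩, 10), (⟨1, -1⟩, 12), (⟨-1, 1⟩, 13), (⟨1, 1⟩, 14), (⟨-2, 2⟩, 15), (⟨-2, 6⟩, 16), (⟨-5, 0⟩, 17), (⟨-5, 5⟩, 18), (⟨-5, 1⟩, 19), (⟨-6, 3⟩, 20), (⟨-9, -2⟩, 21), (⟨-10, -1⟩, 22), (⟨-10, -6⟩, 23), (⟨-15, -3⟩, 24), (⟨-18, -21⟩, 25), (⟨-16, -15⟩, 26), (⟨-18, -9⟩, 27)],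
  [(⟨2, -2⟩, 0), (⟨2, -2⟩, 1), (⟨2, -2⟩, 2), (⟨6, 0⟩, 3), (⟨5, 3⟩, 5), (⟨7, 3⟩, 6), (⟨8, 10⟩, 7), (⟨2, 2⟩, 8), (⟨4, 2⟩, 9), (⟨11, 15⟩, 10), (⟨-6, 28⟩, 11), (⟨7, 7⟩, 12), (⟨8, 10⟩, 13), (⟨3, 15⟩, 14), (⟨-1, 29⟩, 15), (⟨5, 19⟩, 16), (⟨-15, 34⟩, 17), (⟨-2, 26⟩, 18), (⟨-53, 56⟩, 19), (⟨-38, 56⟩, 20), (⟨-89, 23⟩, 21), (⟨-89, 61⟩, 22), (⟨-152, -26⟩, 23), (⟨-113, 72⟩, 24), (⟨-241, -35⟩, 25), (⟨-219, -8⟩, 26), (⟨-208, 68⟩, 27)],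
  [(⟨2, -2⟩, 0), (⟨2, -2⟩, 1), (⟨2, -2⟩, 2), (⟨6, 0⟩, 3), (⟨-2, 2⟩, 4), (⟨5, 3⟩, 5), (⟨5, 3⟩, 6), (⟨6, 8⟩, 7), (⟨2, 2⟩, 8), (⟨4, 2⟩, 9), (⟨8, 12⟩, 10), (⟨-6, 22⟩, 11), (⟨6, 6⟩, 12), (⟨5, 9⟩, 13), (⟨3, 13⟩, 14), (⟨-3, 25⟩, 15), (⟨3, 17⟩, 16), (⟨-16, 27⟩, 17), (⟨-3, 23⟩, 18), (⟨-47, 40⟩, 19), (⟨-36, 46⟩, 20), (⟨-76, 15⟩, 21), (⟨-80, 46⟩, 22), (⟨-127, -28⟩, 23), (⟨-101, 53⟩, 24), (⟨-201, -48⟩, 25), (⟨-185, -21⟩, 26), (⟨-180, 43⟩, 27)],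
  [(⟨2, -2⟩, 0), (⟨2, 0⟩, 3), (⟨1, 1⟩, 5), (⟨1, 1⟩, 6), (⟨2, 2⟩, 7), (⟨2, 2⟩, 8), (⟨0, 2⟩, 9), (⟨4, 4⟩, 10), (⟨0, 6⟩, 11), (⟨2, 0⟩, 12), (⟨2, 2⟩, 13), (⟨1, 3⟩, 14), (⟨0, 6⟩, 15), (⟨0, 8⟩, 16), (⟨-4, 7⟩, 17), (⟨-4, 8⟩, 18), (⟨-11, 17⟩, 19), (⟨-8, 13⟩, 20), (⟨-22, 6⟩, 21), (⟨-19, 14⟩, 22), (⟨-35, -4⟩, 23), (⟨-28, 16⟩, 24), (⟨-58, -9⟩, 25), (⟨-50, -3⟩, 26), (⟨-47, 16⟩, 27)]]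
/-- Test vectors for the second parity stage. -/
def y1L : List RuVec := [
  ruOfArray ![![⟨0, 0⟩, ⟨0, 0⟩, ⟨0, 0⟩, ⟨0, 0⟩], ![⟨0, 0⟩, ⟨0, 0⟩, ⟨0, 0⟩, ⟨0, 0⟩], ![⟨0, 0⟩, ⟨0, 0⟩, ⟨0, 0⟩, ⟨0, 0⟩], ![⟨0, 0⟩, ⟨0, 0⟩, ⟨0, 0⟩, ⟨0, 0⟩], ![⟨0, 0⟩, ⟨0, 0⟩, ⟨0, 0⟩, ⟨0, 0⟩], ![⟨0, 0⟩, ⟨0, 0⟩, ⟨0, 0⟩, ⟨0, 0⟩], ![⟨0, 0⟩, ⟨0, 0⟩, ⟨0, 0⟩, ⟨0, 0⟩]],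
  ruOfArray ![![⟨0, 0⟩, ⟨0, 0⟩, ⟨0, 0⟩, ⟨0, 0⟩], ![⟨0, 0⟩, ⟨0, 0⟩, ⟨0, 0⟩, ⟨0, 0⟩], ![⟨0, 0⟩, ⟨0, 0⟩, ⟨0, 0⟩, ⟨0, 0⟩], ![⟨0, 0⟩, ⟨0, 0⟩, ⟨0, 0⟩, ⟨0, 0⟩], ![⟨0, 0⟩, ⟨0, 0⟩, ⟨0, 0⟩, ⟨0, 0⟩], ![⟨0, 0⟩, ⟨0, 0⟩, ⟨0, 0⟩, ⟨0, 0⟩], ![⟨0, 0⟩, ⟨0, 0⟩, ⟨0, 0⟩, ⟨0, 0⟩]],
  ruOfArray ![![⟨0, 0⟩, ⟨0, 0⟩, ⟨0, 0⟩, ⟨0, 0⟩], ![⟨0, 0⟩, ⟨0, 0⟩, ⟨0, 0⟩, ⟨0, 0⟩], ![⟨0, 0⟩, ⟨0, 0⟩, ⟨0, 0⟩, ⟨0, 0⟩], ![⟨0, 0⟩, ⟨0, 0⟩, ⟨0, 0⟩, ⟨0, 0⟩], ![⟨0, 0⟩, ⟨0, 0⟩, ⟨0, 0⟩, ⟨0, 0⟩], ![⟨0, 0⟩, ⟨0, 0⟩, ⟨0, 0⟩, ⟨0, 0⟩], ![⟨0, 0⟩, ⟨0, 0⟩, ⟨0, 0⟩, ⟨0, 0⟩]],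
  ruOfArray ![![⟨1, 0⟩, ⟨1, 0⟩, ⟨2, 1⟩, ⟨1, 0⟩], ![⟨1, 1⟩, ⟨1, 1⟩, ⟨0, 0⟩, ⟨0, 0⟩], ![⟨0, 0⟩, ⟨0, 0⟩, ⟨0, 0⟩, ⟨0, 0⟩], ![⟨0, 0⟩, ⟨0, 0⟩, ⟨0, 0⟩, ⟨0, 0⟩], ![⟨0, 0⟩, ⟨0, 0⟩, ⟨0, 0⟩, ⟨0, 0⟩], ![⟨0, 0⟩, ⟨0, 0⟩, ⟨0, 0⟩, ⟨0, 0⟩], ![⟨0, 0⟩, ⟨0, 0⟩, ⟨0, 0⟩, ⟨0, 0⟩]],
  ruOfArray ![![⟨0, 0⟩, ⟨0, 0⟩, ⟨0, 0⟩, ⟨0, 0⟩], ![⟨0, 0⟩, ⟨0, 0⟩, ⟨0, 0⟩, ⟨0, 0⟩], ![⟨0, 0⟩, ⟨0, 0⟩, ⟨0, 0⟩, ⟨0, 0⟩], ![⟨0, 0⟩, ⟨0, 0⟩, ⟨0, 0⟩, ⟨0, 0⟩], ![⟨0, 0⟩, ⟨0, 0⟩, ⟨0, 0⟩, ⟨0, 0⟩], ![⟨0, 0⟩, ⟨0, 0⟩, ⟨0, 0⟩, ⟨0, 0⟩], ![⟨0, 0⟩, ⟨0, 0⟩, ⟨0, 0⟩, ⟨0, 0⟩]],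
  ruOfArray ![![⟨0, 0⟩, ⟨0, 0⟩, ⟨0, 0⟩, ⟨0, 0⟩], ![⟨0, 0⟩, ⟨0, 0⟩, ⟨0, 0⟩, ⟨0, 0⟩], ![⟨0, 0⟩, ⟨0, 0⟩, ⟨0, 0⟩, ⟨0, 0⟩], ![⟨0, 0⟩, ⟨0, 0⟩, ⟨0, 0⟩, ⟨0, 0⟩], ![⟨0, 0⟩, ⟨0, 0⟩, ⟨0, 0⟩, ⟨0, 0⟩], ![⟨0, 0⟩, ⟨0, 0⟩, ⟨0, 0⟩, ⟨0, 0⟩], ![⟨0, 0⟩, ⟨0, 0⟩, ⟨0, 0⟩, ⟨0, 0⟩]],
  ruOfArray ![![⟨2, 1⟩, ⟨1, 1⟩, ⟨1, 0⟩, ⟨0, 0⟩], ![⟨0, 0⟩, ⟨1, 0⟩, ⟨1, 0⟩, ⟨0, 0⟩], ![⟨0, 0⟩, ⟨0, 0⟩, ⟨0, 0⟩, ⟨0, 0⟩], ![⟨1, 1⟩, ⟨0, 0⟩, ⟨0, 0⟩, ⟨0, 0⟩], ![⟨0, 0⟩, ⟨0, 0⟩, ⟨0, 0⟩, ⟨0, 0⟩], ![⟨0, 0⟩, ⟨0, 0⟩, ⟨0, 0⟩, ⟨0, 0⟩], ![⟨0, 0⟩, ⟨0, 0⟩, ⟨0, 0⟩, ⟨0, 0⟩]],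
  ruOfArray ![![⟨1, 0⟩, ⟨0, 0⟩, ⟨1, 0⟩, ⟨0, 0⟩], ![⟨1, 0⟩, ⟨1, 1⟩, ⟨0, 0⟩, ⟨1, 0⟩], ![⟨0, 0⟩, ⟨0, 0⟩, ⟨0, 0⟩, ⟨0, 0⟩], ![⟨1, 1⟩, ⟨0, 0⟩, ⟨0, 0⟩, ⟨0, 0⟩], ![⟨0, 0⟩, ⟨0, 0⟩, ⟨0, 0⟩, ⟨0, 0⟩], ![⟨0, 0⟩, ⟨0, 0⟩, ⟨0, 0⟩, ⟨0, 0⟩], ![⟨0, 0⟩, ⟨0, 0⟩, ⟨0, 0⟩, ⟨0, 0⟩]],
  ruOfArray ![![⟨0, 0⟩, ⟨0, 0⟩, ⟨0, 0⟩, ⟨0, 0⟩], ![⟨0, 0⟩, ⟨0, 0⟩, ⟨0, 0⟩, ⟨0, 0⟩], ![⟨0, 0⟩, ⟨0, 0⟩, ⟨0, 0⟩, ⟨0, 0⟩], ![⟨0, 0⟩, ⟨0, 0⟩, ⟨0, 0⟩, ⟨0, 0⟩], ![⟨0, 0⟩, ⟨0, 0⟩, ⟨0, 0⟩, ⟨0, 0⟩], ![⟨0, 0⟩, ⟨0, 0⟩, ⟨0, 0⟩, ⟨0, 0⟩], ![⟨0, 0⟩, ⟨0, 0⟩, ⟨0, 0⟩, ⟨0, 0⟩]],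
  ruOfArray ![![⟨0, 0⟩, ⟨2, 1⟩, ⟨2, 1⟩, ⟨0, 0⟩], ![⟨1, 1⟩, ⟨0, 0⟩, ⟨0, 0⟩, ⟨0, 0⟩], ![⟨1, 0⟩, ⟨1, 0⟩, ⟨0, 0⟩, ⟨0, 0⟩], ![⟨1, 1⟩, ⟨0, 0⟩, ⟨0, 0⟩, ⟨0, 0⟩], ![⟨1, 1⟩, ⟨0, 0⟩, ⟨0, 0⟩, ⟨0, 0⟩], ![⟨1, 1⟩, ⟨0, 0⟩, ⟨0, 0⟩, ⟨0, 0⟩], ![⟨0, 0⟩, ⟨0, 0⟩, ⟨0, 0⟩, ⟨0, 0⟩]],
  ruOfArray ![![⟨2, 1⟩, ⟨1, 0⟩, ⟨1, 1⟩, ⟨0, 0⟩], ![⟨1, 0⟩, ⟨2, 1⟩, ⟨0, 0⟩, ⟨0, 0⟩], ![⟨1, 0⟩, ⟨0, 0⟩, ⟨1, 0⟩, ⟨0, 0⟩], ![⟨0, 0⟩, ⟨0, 0⟩, ⟨0, 0⟩, ⟨0, 0⟩], ![⟨0, 0⟩, ⟨0, 0⟩, ⟨0, 0⟩, ⟨0, 0⟩], ![⟨1, 1⟩, ⟨0, 0⟩, ⟨0, 0⟩, ⟨0, 0⟩], ![⟨0, 0⟩, ⟨0, 0⟩, ⟨0, 0⟩, ⟨0, 0⟩]],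
  ruOfArray ![![⟨2, 1⟩, ⟨0, 0⟩, ⟨2, 1⟩, ⟨0, 0⟩], ![⟨1, 0⟩, ⟨1, 0⟩, ⟨0, 0⟩, ⟨0, 0⟩], ![⟨2, 1⟩, ⟨0, 0⟩, ⟨0, 0⟩, ⟨1, 0⟩], ![⟨1, 1⟩, ⟨0, 0⟩, ⟨0, 0⟩, ⟨0, 0⟩], ![⟨1, 1⟩, ⟨0, 0⟩, ⟨0, 0⟩, ⟨0, 0⟩], ![⟨0, 0⟩, ⟨0, 0⟩, ⟨0, 0⟩, ⟨0, 0⟩], ![⟨0, 0⟩, ⟨0, 0⟩, ⟨0, 0⟩, ⟨0, 0⟩]],
  ruOfArray ![![⟨0, 0⟩, ⟨0, 0⟩, ⟨0, 0⟩, ⟨0, 0⟩], ![⟨0, 0⟩, ⟨0, 0⟩, ⟨0, 0⟩, ⟨0, 0⟩], ![⟨0, 0⟩, ⟨0, 0⟩, ⟨0, 0⟩, ⟨0, 0⟩], ![⟨0, 0⟩, ⟨0, 0⟩, ⟨0, 0⟩, ⟨0, 0⟩], ![⟨0, 0⟩, ⟨0, 0⟩, ⟨0, 0⟩, ⟨0, 0⟩], ![⟨0, 0⟩, ⟨0, 0⟩, ⟨0, 0⟩, ⟨0, 0⟩], ![⟨0, 0⟩, ⟨0, 0⟩, ⟨0, 0⟩, ⟨0, 0⟩]],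
  ruOfArray ![![⟨2, 1⟩, ⟨1, 1⟩, ⟨2, 1⟩, ⟨0, 0⟩], ![⟨1, 1⟩, ⟨0, 0⟩, ⟨0, 0⟩, ⟨0, 0⟩], ![⟨0, 0⟩, ⟨0, 0⟩, ⟨0, 0⟩, ⟨0, 0⟩], ![⟨1, 0⟩, ⟨1, 0⟩, ⟨0, 0⟩, ⟨0, 0⟩], ![⟨0, 0⟩, ⟨0, 0⟩, ⟨0, 0⟩, ⟨0, 0⟩], ![⟨0, 0⟩, ⟨0, 0⟩, ⟨0, 0⟩, ⟨0, 0⟩], ![⟨0, 0⟩, ⟨0, 0⟩, ⟨0, 0⟩, ⟨0, 0⟩]],
  ruOfArray ![![⟨0, 0⟩, ⟨1, 0⟩, ⟨2, 1⟩, ⟨0, 0⟩], ![⟨2, 1⟩, ⟨2, 1⟩, ⟨0, 0⟩, ⟨0, 0⟩], ![⟨0, 0⟩, ⟨0, 0⟩, ⟨0, 0⟩, ⟨0, 0⟩], ![⟨1, 0⟩, ⟨0, 0⟩, ⟨1, 0⟩, ⟨0, 0⟩], ![⟨0, 0⟩, ⟨0, 0⟩, ⟨0, 0⟩, ⟨0, 0⟩], ![⟨0, 0⟩, ⟨0, 0⟩, ⟨0, 0⟩, ⟨0, 0⟩], ![⟨0, 0⟩, ⟨0, 0⟩, ⟨0, 0⟩, ⟨0, 0⟩]],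
  ruOfArray ![![⟨1, 0⟩, ⟨1, 0⟩, ⟨0, 0⟩, ⟨0, 0⟩], ![⟨1, 0⟩, ⟨2, 1⟩, ⟨0, 0⟩, ⟨0, 0⟩], ![⟨0, 0⟩, ⟨0, 0⟩, ⟨0, 0⟩, ⟨0, 0⟩], ![⟨2, 1⟩, ⟨0, 0⟩, ⟨0, 0⟩, ⟨1, 0⟩], ![⟨0, 0⟩, ⟨0, 0⟩, ⟨0, 0⟩, ⟨0, 0⟩], ![⟨0, 0⟩, ⟨0, 0⟩, ⟨0, 0⟩, ⟨0, 0⟩], ![⟨0, 0⟩, ⟨0, 0⟩, ⟨0, 0⟩, ⟨0, 0⟩]],
  ruOfArray ![![⟨0, 0⟩, ⟨0, 0⟩, ⟨0, 0⟩, ⟨0, 0⟩], ![⟨0, 0⟩, ⟨0, 0⟩, ⟨0, 0⟩, ⟨0, 0⟩], ![⟨0, 0⟩, ⟨0, 0⟩, ⟨0, 0⟩, ⟨0, 0⟩], ![⟨0, 0⟩, ⟨0, 0⟩, ⟨0, 0⟩, ⟨0, 0⟩], ![⟨0, 0⟩, ⟨0, 0⟩, ⟨0, 0⟩, ⟨0, 0⟩], ![⟨0, 0⟩, ⟨0, 0⟩, ⟨0, 0⟩, ⟨0, 0⟩], ![⟨0, 0⟩, ⟨0, 0⟩, ⟨0, 0⟩, ⟨0, 0⟩]],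
  ruOfArray ![![⟨1, 0⟩, ⟨1, 1⟩, ⟨2, 1⟩, ⟨0, 0⟩], ![⟨2, 1⟩, ⟨1, 0⟩, ⟨0, 0⟩, ⟨0, 0⟩], ![⟨1, 1⟩, ⟨0, 0⟩, ⟨0, 0⟩, ⟨0, 0⟩], ![⟨1, 1⟩, ⟨0, 0⟩, ⟨0, 0⟩, ⟨0, 0⟩], ![⟨1, 0⟩, ⟨1, 0⟩, ⟨0, 0⟩, ⟨0, 0⟩], ![⟨0, 0⟩, ⟨0, 0⟩, ⟨0, 0⟩, ⟨0, 0⟩], ![⟨0, 0⟩, ⟨0, 0⟩, ⟨0, 0⟩, ⟨0, 0⟩]],
  ruOfArray ![![⟨1, 0⟩, ⟨2, 1⟩, ⟨1, 1⟩, ⟨0, 0⟩], ![⟨1, 1⟩, ⟨1, 1⟩, ⟨0, 0⟩, ⟨0, 0⟩], ![⟨0, 0⟩, ⟨0, 0⟩, ⟨0, 0⟩, ⟨0, 0⟩], ![⟨0, 0⟩, ⟨0, 0⟩, ⟨0, 0⟩, ⟨0, 0⟩], ![⟨2, 1⟩, ⟨0, 0⟩, ⟨1, 0⟩, ⟨0, 0⟩], ![⟨1, 1⟩, ⟨0, 0⟩, ⟨0, 0⟩, ⟨0, 0⟩], ![⟨0, 0⟩, ⟨0, 0⟩, ⟨0, 0⟩, ⟨0, 0⟩]],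
  ruOfArray ![![⟨0, 0⟩, ⟨1, 0⟩, ⟨1, 0⟩, ⟨0, 0⟩], ![⟨2, 1⟩, ⟨1, 0⟩, ⟨0, 0⟩, ⟨0, 0⟩], ![⟨1, 1⟩, ⟨0, 0⟩, ⟨0, 0⟩, ⟨0, 0⟩], ![⟨1, 1⟩, ⟨0, 0⟩, ⟨0, 0⟩, ⟨0, 0⟩], ![⟨1, 0⟩, ⟨0, 0⟩, ⟨0, 0⟩, ⟨1, 0⟩], ![⟨1, 1⟩, ⟨0, 0⟩, ⟨0, 0⟩, ⟨0, 0⟩], ![⟨0, 0⟩, ⟨0, 0⟩, ⟨0, 0⟩, ⟨0, 0⟩]],
  ruOfArray ![![⟨0, 0⟩, ⟨0, 0⟩, ⟨0, 0⟩, ⟨0, 0⟩], ![⟨0, 0⟩, ⟨0, 0⟩, ⟨0, 0⟩, ⟨0, 0⟩], ![⟨0, 0⟩, ⟨0, 0⟩, ⟨0, 0⟩, ⟨0, 0⟩], ![⟨0, 0⟩, ⟨0, 0⟩, ⟨0, 0⟩, ⟨0, 0⟩], ![⟨0, 0⟩, ⟨0, 0⟩, ⟨0, 0⟩, ⟨0, 0⟩], ![⟨0, 0⟩, ⟨0, 0⟩, ⟨0, 0⟩, ⟨0, 0⟩], ![⟨0, 0⟩, ⟨0, 0⟩, ⟨0, 0⟩, ⟨0, 0⟩]],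
  ruOfArray ![![⟨1, 0⟩, ⟨1, 0⟩, ⟨0, 0⟩, ⟨0, 0⟩], ![⟨2, 1⟩, ⟨1, 0⟩, ⟨0, 0⟩, ⟨0, 0⟩], ![⟨1, 1⟩, ⟨0, 0⟩, ⟨0, 0⟩, ⟨0, 0⟩], ![⟨1, 1⟩, ⟨0, 0⟩, ⟨0, 0⟩, ⟨0, 0⟩], ![⟨0, 0⟩, ⟨0, 0⟩, ⟨0, 0⟩, ⟨0, 0⟩], ![⟨2, 1⟩, ⟨1, 0⟩, ⟨0, 0⟩, ⟨0, 0⟩], ![⟨0, 0⟩, ⟨0, 0⟩, ⟨0, 0⟩, ⟨0, 0⟩]],
  ruOfArray ![![⟨0, 0⟩, ⟨1, 1⟩, ⟨0, 0⟩, ⟨0, 0⟩], ![⟨2, 1⟩, ⟨1, 0⟩, ⟨0, 0⟩, ⟨0, 0⟩], ![⟨1, 1⟩, ⟨0, 0⟩, ⟨0, 0⟩, ⟨0, 0⟩], ![⟨1, 1⟩, ⟨0, 0⟩, ⟨0, 0⟩, ⟨0, 0⟩], ![⟨1, 1⟩, ⟨0, 0⟩, ⟨0, 0⟩, ⟨0, 0⟩], ![⟨1, 0⟩, ⟨0, 0⟩, ⟨1, 0⟩, ⟨0, 0⟩], ![⟨0, 0⟩, ⟨0, 0⟩, ⟨0, 0⟩, ⟨0, 0⟩]],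
  ruOfArray ![![⟨1, 0⟩, ⟨1, 0⟩, ⟨1, 1⟩, ⟨0, 0⟩], ![⟨0, 0⟩, ⟨0, 0⟩, ⟨0, 0⟩, ⟨0, 0⟩], ![⟨0, 0⟩, ⟨0, 0⟩, ⟨0, 0⟩, ⟨0, 0⟩], ![⟨0, 0⟩, ⟨0, 0⟩, ⟨0, 0⟩, ⟨0, 0⟩], ![⟨1, 1⟩, ⟨0, 0⟩, ⟨0, 0⟩, ⟨0, 0⟩], ![⟨1, 0⟩, ⟨0, 0⟩, ⟨0, 0⟩, ⟨1, 0⟩], ![⟨0, 0⟩, ⟨0, 0⟩, ⟨0, 0⟩, ⟨0, 0⟩]],
  ruOfArray ![![⟨0, 0⟩, ⟨0, 0⟩, ⟨0, 0⟩, ⟨0, 0⟩], ![⟨0, 0⟩, ⟨0, 0⟩, ⟨0, 0⟩, ⟨0, 0⟩], ![⟨0, 0⟩, ⟨0, 0⟩, ⟨0, 0⟩, ⟨0, 0⟩], ![⟨0, 0⟩, ⟨0, 0⟩, ⟨0, 0⟩, ⟨0, 0⟩], ![⟨0, 0⟩, ⟨0, 0⟩, ⟨0, 0⟩, ⟨0, 0⟩], ![⟨0, 0⟩, ⟨0, 0⟩, ⟨0, 0⟩, ⟨0, 0⟩], ![⟨0, 0⟩, ⟨0, 0⟩, ⟨0, 0⟩, ⟨0, 0⟩]],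
  ruOfArray ![![⟨1, 1⟩, ⟨2, 1⟩, ⟨2, 1⟩, ⟨0, 0⟩], ![⟨1, 0⟩, ⟨1, 0⟩, ⟨0, 0⟩, ⟨0, 0⟩], ![⟨0, 0⟩, ⟨0, 0⟩, ⟨0, 0⟩, ⟨0, 0⟩], ![⟨1, 1⟩, ⟨0, 0⟩, ⟨0, 0⟩, ⟨0, 0⟩], ![⟨1, 1⟩, ⟨0, 0⟩, ⟨0, 0⟩, ⟨0, 0⟩], ![⟨0, 0⟩, ⟨0, 0⟩, ⟨0, 0⟩, ⟨0, 0⟩], ![⟨1, 0⟩, ⟨1, 0⟩, ⟨0, 0⟩, ⟨0, 0⟩]],
  ruOfArray ![![⟨0, 0⟩, ⟨2, 1⟩, ⟨2, 1⟩, ⟨0, 0⟩], ![⟨1, 1⟩, ⟨1, 1⟩, ⟨0, 0⟩, ⟨0, 0⟩], ![⟨1, 1⟩, ⟨0, 0⟩, ⟨0, 0⟩, ⟨0, 0⟩], ![⟨0, 0⟩, ⟨0, 0⟩, ⟨0, 0⟩, ⟨0, 0⟩], ![⟨0, 0⟩, ⟨0, 0⟩, ⟨0, 0⟩, ⟨0, 0⟩], ![⟨0, 0⟩, ⟨0, 0⟩, ⟨0, 0⟩, ⟨0, 0⟩], ![⟨1, 0⟩, ⟨0, 0⟩, ⟨1, 0⟩, ⟨0, 0⟩]],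
  ruOfArray ![![⟨1, 1⟩, ⟨0, 0⟩, ⟨1, 1⟩, ⟨0, 0⟩], ![⟨1, 0⟩, ⟨2, 1⟩, ⟨0, 0⟩, ⟨0, 0⟩], ![⟨0, 0⟩, ⟨0, 0⟩, ⟨0, 0⟩, ⟨0, 0⟩], ![⟨0, 0⟩, ⟨0, 0⟩, ⟨0, 0⟩, ⟨0, 0⟩], ![⟨0, 0⟩, ⟨0, 0⟩, ⟨0, 0⟩, ⟨0, 0⟩], ![⟨1, 1⟩, ⟨0, 0⟩, ⟨0, 0⟩, ⟨0, 0⟩], ![⟨1, 0⟩, ⟨0, 0⟩, ⟨0, 0⟩, ⟨1, 0⟩]]]
/-- Coefficients of `(2i) • y1`. -/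
def cY1 : List (List (GaussianInt × Fin 28)) := [
  [],
  [],
  [],
  [(⟨0, -2⟩, 0), (⟨0, -2⟩, 1), (⟨2, -4⟩, 2), (⟨6, -2⟩, 3), (⟨-2, 2⟩, 4), (⟨2, 0⟩, 5), (⟨6, 0⟩, 6), (⟨8, 2⟩, 7), (⟨4, -2⟩, 9), (⟨12, 4⟩, 10), (⟨6, 18⟩, 11), (⟨6, 2⟩, 12), (⟨6, 2⟩, 13), (⟨6, 10⟩, 14), (⟨10, 16⟩, 15), (⟨9, 7⟩, 16), (⟨7, 26⟩, 17), (⟨11, 13⟩, 18), (⟨-8, 49⟩, 19), (⟨0, 45⟩, 20), (⟨-37, 47⟩, 21), (⟨-25, 68⟩, 22), (⟨-93, 46⟩, 23), (⟨-36, 85⟩, 24), (⟨-144, 73⟩, 25), (⟨-128, 78⟩, 26), (⟨-91, 116⟩, 27)],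
  [],
  [],
  [(⟨2, -4⟩, 0), (⟨2, -2⟩, 1), (⟨0, -2⟩, 2), (⟨6, -2⟩, 3), (⟨8, 2⟩, 5), (⟨6, 2⟩, 6), (⟨10, 8⟩, 7), (⟨3, -1⟩, 9), (⟨12, 10⟩, 10), (⟨4, 27⟩, 11), (⟨10, 6⟩, 12), (⟨10, 10⟩, 13), (⟨8, 14⟩, 14), (⟨5, 28⟩, 15), (⟨9, 12⟩, 16), (⟨-3, 35⟩, 17), (⟨6, 20⟩, 18), (⟨-35, 63⟩, 19), (⟨-20, 64⟩, 20), (⟨-74, 45⟩, 21), (⟨-64, 77⟩, 22), (⟨-144, 22⟩, 23), (⟨-76, 99⟩, 24), (⟨-227, 39⟩, 25), (⟨-205, 61⟩, 26), (⟨-166, 123⟩, 27)],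
  [(⟨0, -2⟩, 0), (⟨0, -2⟩, 2), (⟨2, -2⟩, 3), (⟨0, 2⟩, 4), (⟨2, 0⟩, 6), (⟨2, -2⟩, 7), (⟨1, -1⟩, 9), (⟨5, -1⟩, 10), (⟨5, 4⟩, 11), (⟨2, -2⟩, 12), (⟨2, 0⟩, 13), (⟨4, 2⟩, 14), (⟨7, 2⟩, 15), (⟨4, 1⟩, 16), (⟨8, 8⟩, 17), (⟨6, 2⟩, 18), (⟨7, 19⟩, 19), (⟨10, 14⟩, 20), (⟨0, 24⟩, 21), (⟨8, 26⟩, 22), (⟨-17, 36⟩, 23), (⟨6, 35⟩, 24), (⟨-32, 56⟩, 25), (⟨-24, 52⟩, 26), (⟨-3, 55⟩, 27)],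
  [],
  [(⟨2, -4⟩, 1), (⟨2, -4⟩, 2), (⟨6, -2⟩, 3), (⟨-2, 2⟩, 4), (⟨5, 1⟩, 5), (⟨8, 0⟩, 6), (⟨10, 6⟩, 7), (⟨2, 0⟩, 8), (⟨8, 0⟩, 9), (⟨14, 9⟩, 10), (⟨1, 29⟩, 11), (⟨9, 4⟩, 12), (⟨10, 6⟩, 13), (⟨9, 13⟩, 14), (⟨10, 29⟩, 15), (⟨12, 16⟩, 16), (⟨-5, 39⟩, 17), (⟨10, 26⟩, 18), (⟨-33, 65⟩, 19), (⟨-19, 66⟩, 20), (⟨-74, 52⟩, 21), (⟨-69, 91⟩, 22), (⟨-156, 24⟩, 23), (⟨-90, 105⟩, 24), (⟨-243, 40⟩, 25), (⟨-213, 61⟩, 26), (⟨-184, 130⟩, 27)],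
  [(⟨2, -4⟩, 0), (⟨0, -2⟩, 1), (⟨2, -2⟩, 2), (⟨6, -2⟩, 3), (⟨0, 2⟩, 4), (⟨4, 2⟩, 5), (⟨6, 2⟩, 6), (⟨8, 6⟩, 7), (⟨2, 0⟩, 8), (⟨4, 0⟩, 9), (⟨12, 10⟩, 10), (⟨1, 23⟩, 11), (⟨7, 5⟩, 12), (⟨7, 8⟩, 13), (⟨4, 13⟩, 14), (⟨4, 25⟩, 15), (⟨8, 12⟩, 16), (⟨-5, 32⟩, 17), (⟨6, 20⟩, 18), (⟨-34, 54⟩, 19), (⟨-19, 54⟩, 20), (⟨-68, 39⟩, 21), (⟨-57, 67⟩, 22), (⟨-126, 14⟩, 23), (⟨-76, 86⟩, 24), (⟨-207, 25⟩, 25), (⟨-186, 41⟩, 26), (⟨-155, 101⟩, 27)],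
  [(⟨2, -4⟩, 0), (⟨2, -4⟩, 2), (⟨6, -2⟩, 3), (⟨0, 2⟩, 4), (⟨5, 3⟩, 5), (⟨6, 2⟩, 6), (⟨8, 6⟩, 7), (⟨4, 2⟩, 8), (⟨4, 2⟩, 9), (⟨13, 10⟩, 10), (⟨0, 24⟩, 11), (⟨6, 5⟩, 12), (⟨6, 7⟩, 13), (⟨5, 14⟩, 14), (⟨4, 24⟩, 15), (⟨6, 18⟩, 16), (⟨-8, 30⟩, 17), (⟨2, 24⟩, 18), (⟨-35, 56⟩, 19), (⟨-23, 56⟩, 20), (⟨-74, 38⟩, 21), (⟨-66, 65⟩, 22), (⟨-135, 5⟩, 23), (⟨-87, 79⟩, 24), (⟨-214, 6⟩, 25), (⟨-193, 26⟩, 26), (⟨-167, 91⟩, 27)],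
  [],
  [(⟨2, -4⟩, 0), (⟨2, -2⟩, 1), (⟨2, -4⟩, 2), (⟨8, -2⟩, 3), (⟨-2, 2⟩, 4), (⟨8, 2⟩, 5), (⟨8, 2⟩, 6), (⟨12, 8⟩, 7), (⟨5, -1⟩, 9), (⟨15, 12⟩, 10), (⟨3, 32⟩, 11), (⟨10, 8⟩, 12), (⟨8, 10⟩, 13), (⟨8, 18⟩, 14), (⟨5, 32⟩, 15), (⟨10, 15⟩, 16), (⟨-5, 41⟩, 17), (⟨9, 25⟩, 18), (⟨-42, 70⟩, 19), (⟨-25, 74⟩, 20), (⟨-88, 53⟩, 21), (⟨-78, 91⟩, 22), (⟨-173, 23⟩, 23), (⟨-97, 113⟩, 24), (⟨-268, 34⟩, 25), (⟨-245, 60⟩, 26), (⟨-202, 137⟩, 27)],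
  [(⟨0, -2⟩, 1), (⟨2, -4⟩, 2), (⟨4, -2⟩, 3), (⟨-2, 4⟩, 4), (⟨-2, 2⟩, 5), (⟨4, 0⟩, 6), (⟨2, 0⟩, 7), (⟨4, -2⟩, 9), (⟨6, 1⟩, 10), (⟨0, 9⟩, 11), (⟨2, 6⟩, 14), (⟨4, 6⟩, 15), (⟨5, 3⟩, 16), (⟨4, 13⟩, 17), (⟨7, 6⟩, 18), (⟨-4, 18⟩, 19), (⟨-3, 18⟩, 20), (⟨-14, 17⟩, 21), (⟨-11, 29⟩, 22), (⟨-39, 16⟩, 23), (⟨-22, 38⟩, 24), (⟨-64, 25⟩, 25), (⟨-60, 24⟩, 26), (⟨-48, 45⟩, 27)],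
  [(⟨0, -2⟩, 0), (⟨0, -2⟩, 1), (⟨2, -2⟩, 3), (⟨0, 2⟩, 4), (⟨2, 0⟩, 6), (⟨2, 0⟩, 7), (⟨1, -1⟩, 9), (⟨4, 0⟩, 10), (⟨4, 4⟩, 11), (⟨2, -4⟩, 12), (⟨4, 0⟩, 13), (⟨4, 0⟩, 14), (⟨6, 3⟩, 15), (⟨4, 1⟩, 16), (⟨7, 8⟩, 17), (⟨4, 3⟩, 18), (⟨5, 18⟩, 19), (⟨7, 14⟩, 20), (⟨-2, 18⟩, 21), (⟨5, 24⟩, 22), (⟨-16, 29⟩, 23), (⟨3, 32⟩, 24), (⟨-33, 49⟩, 25), (⟨-22, 45⟩, 26), (⟨-8, 48⟩, 27)],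
  [],
  [(⟨0, -2⟩, 0), (⟨2, -2⟩, 1), (⟨2, -4⟩, 2), (⟨6, -2⟩, 3), (⟨-2, 4⟩, 4), (⟨3, 3⟩, 5), (⟨6, 2⟩, 6), (⟨5, 5⟩, 7), (⟨2, 2⟩, 8), (⟨5, 1⟩, 9), (⟨9, 8⟩, 10), (⟨-4, 19⟩, 11), (⟨5, 4⟩, 12), (⟨4, 7⟩, 13), (⟨5, 12⟩, 14), (⟨1, 21⟩, 15), (⟨6, 14⟩, 16), (⟨-8, 25⟩, 17), (⟨2, 20⟩, 18), (⟨-32, 38⟩, 19), (⟨-25, 43⟩, 20), (⟨-59, 23⟩, 21), (⟨-61, 49⟩, 22), (⟨-108, -6⟩, 23), (⟨-79, 59⟩, 24), (⟨-175, -14⟩, 25), (⟨-160, 7⟩, 26), (⟨-148, 58⟩, 27)],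
  [(⟨0, -2⟩, 0), (⟨2, -4⟩, 1), (⟨2, -2⟩, 2), (⟨6, -2⟩, 3), (⟨-2, 2⟩, 4), (⟨4, 0⟩, 5), (⟨7, 1⟩, 6), (⟨9, 5⟩, 7), (⟨5, -1⟩, 9), (⟨12, 8⟩, 10), (⟨3, 23⟩, 11), (⟨9, 4⟩, 12), (⟨9, 7⟩, 13), (⟨7, 12⟩, 14), (⟨7, 26⟩, 15), (⟨11, 13⟩, 16), (⟨-3, 34⟩, 17), (⟨8, 20⟩, 18), (⟨-28, 56⟩, 19), (⟨-15, 56⟩, 20), (⟨-62, 44⟩, 21), (⟨-55, 77⟩, 22), (⟨-129, 27⟩, 23), (⟨-72, 93⟩, 24), (⟨-206, 40⟩, 25), (⟨-182, 59⟩, 26), (⟨-152, 114⟩, 27)],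
  [(⟨0, -2⟩, 1), (⟨0, -2⟩, 2), (⟨2, -2⟩, 3), (⟨-2, 4⟩, 4), (⟨-1, 1⟩, 5), (⟨1, -1⟩, 6), (⟨0, -2⟩, 7), (⟨2, 2⟩, 8), (⟨2, 0⟩, 9), (⟨3, -2⟩, 10), (⟨2, 1⟩, 11), (⟨1, -3⟩, 12), (⟨0, -1⟩, 13), (⟨4, 0⟩, 14), (⟨4, 1⟩, 15), (⟨3, 3⟩, 16), (⟨3, 3⟩, 17), (⟨2, 4⟩, 18), (⟨6, 6⟩, 19), (⟨4, 6⟩, 20), (⟨2, 10⟩, 21), (⟨4, 14⟩, 22), (⟨-6, 19⟩, 23), (⟨-2, 16⟩, 24), (⟨-16, 21⟩, 25), (⟨-10, 21⟩, 26), (⟨-5, 23⟩, 27)],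
  [],
  [(⟨0, -2⟩, 0), (⟨0, -2⟩, 1), (⟨2, -2⟩, 3), (⟨-2, 4⟩, 4), (⟨0, -2⟩, 7), (⟨2, 2⟩, 8), (⟨1, 1⟩, 9), (⟨2, -2⟩, 10), (⟨3, -2⟩, 11), (⟨2, -4⟩, 12), (⟨1, 0⟩, 13), (⟨4, -1⟩, 14), (⟨3, 2⟩, 15), (⟨1, 2⟩, 16), (⟨2, 1⟩, 17), (⟨0, 3⟩, 18), (⟨6, 3⟩, 19), (⟨5, 4⟩, 20), (⟨4, 9⟩, 21), (⟨6, 8⟩, 22), (⟨3, 19⟩, 23), (⟨4, 10⟩, 24), (⟨-6, 21⟩, 25), (⟨0, 22⟩, 26), (⟨6, 16⟩, 27)],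
  [(⟨2, -2⟩, 1), (⟨2, 0⟩, 3), (⟨-2, 4⟩, 4), (⟨-1, 3⟩, 5), (⟨0, 2⟩, 6), (⟨-4, 2⟩, 7), (⟨2, 2⟩, 8), (⟨2, 2⟩, 9), (⟨-3, 2⟩, 10), (⟨-9, -1⟩, 11), (⟨-1, 0⟩, 12), (⟨-3, 4⟩, 13), (⟨-1, 1⟩, 14), (⟨-9, 3⟩, 15), (⟨-3, 7⟩, 16), (⟨-13, -2⟩, 17), (⟨-9, 6⟩, 18), (⟨-18, -15⟩, 19), (⟨-23, -7⟩, 20), (⟨-12, -27⟩, 21), (⟨-28, -22⟩, 22), (⟨-2, -47⟩, 23), (⟨-37, -28⟩, 24), (⟨-13, -83⟩, 25), (⟨-17, -70⟩, 26), (⟨-44, -63⟩, 27)],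
  [(⟨0, -2⟩, 0), (⟨0, -2⟩, 1), (⟨2, -2⟩, 2), (⟨4, -2⟩, 3), (⟨5, -1⟩, 5), (⟨6, 0⟩, 6), (⟨10, 4⟩, 7), (⟨3, -1⟩, 9), (⟨12, 7⟩, 10), (⟨6, 21⟩, 11), (⟨8, 3⟩, 12), (⟨10, 4⟩, 13), (⟨7, 10⟩, 14), (⟨11, 22⟩, 15), (⟨9, 10⟩, 16), (⟨2, 30⟩, 17), (⟨9, 17⟩, 18), (⟨-19, 58⟩, 19), (⟨-5, 54⟩, 20), (⟨-54, 50⟩, 21), (⟨-41, 76⟩, 22), (⟨-116, 38⟩, 23), (⟨-50, 91⟩, 24), (⟨-179, 65⟩, 25), (⟨-155, 78⟩, 26), (⟨-119, 125⟩, 27)],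
  [],
  [(⟨2, -2⟩, 0), (⟨2, -4⟩, 1), (⟨2, -4⟩, 2), (⟨8, -2⟩, 3), (⟨0, 2⟩, 4), (⟨8, 4⟩, 5), (⟨10, 2⟩, 6), (⟨12, 12⟩, 7), (⟨6, -2⟩, 9), (⟨15, 16⟩, 10), (⟨-2, 39⟩, 11), (⟨11, 9⟩, 12), (⟨12, 13⟩, 13), (⟨8, 20⟩, 14), (⟨5, 39⟩, 15), (⟨11, 19⟩, 16), (⟨-10, 49⟩, 17), (⟨7, 30⟩, 18), (⟨-60, 80⟩, 19), (⟨-39, 84⟩, 20), (⟨-109, 48⟩, 21), (⟨-103, 100⟩, 22), (⟨-205, 1⟩, 23), (⟨-127, 123⟩, 24), (⟨-321, 11⟩, 25), (⟨-291, 44⟩, 26), (⟨-258, 140⟩, 27)],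
  [(⟨2, -4⟩, 1), (⟨2, -4⟩, 2), (⟨6, -2⟩, 3), (⟨-2, 2⟩, 4), (⟨3, 1⟩, 5), (⟨8, 0⟩, 6), (⟨9, 5⟩, 7), (⟨2, 2⟩, 8), (⟨6, 0⟩, 9), (⟨14, 9⟩, 10), (⟨1, 26⟩, 11), (⟨8, 5⟩, 12), (⟨8, 6⟩, 13), (⟨7, 13⟩, 14), (⟨7, 26⟩, 15), (⟨10, 13⟩, 16), (⟨-3, 34⟩, 17), (⟨8, 22⟩, 18), (⟨-30, 58⟩, 19), (⟨-19, 58⟩, 20), (⟨-68, 44⟩, 21), (⟨-61, 79⟩, 22), (⟨-138, 20⟩, 23), (⟨-80, 92⟩, 24), (⟨-216, 31⟩, 25), (⟨-192, 50⟩, 26), (⟨-165, 113⟩, 27)],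
  [(⟨2, -2⟩, 0), (⟨2, -2⟩, 2), (⟨4, 0⟩, 3), (⟨0, 2⟩, 4), (⟨0, 4⟩, 5), (⟨3, 3⟩, 6), (⟨1, 5⟩, 7), (⟨2, 0⟩, 9), (⟨3, 7⟩, 10), (⟨-7, 11⟩, 11), (⟨0, 5⟩, 12), (⟨-1, 6⟩, 13), (⟨-3, 9⟩, 14), (⟨-6, 11⟩, 15), (⟨0, 7⟩, 16), (⟨-9, 13⟩, 17), (⟨-2, 9⟩, 18), (⟨-30, 14⟩, 19), (⟨-24, 16⟩, 20), (⟨-38, -4⟩, 21), (⟨-41, 10⟩, 22), (⟨-55, -31⟩, 23), (⟨-56, 18⟩, 24), (⟨-93, -46⟩, 25), (⟨-94, -36⟩, 26), (⟨-95, 0⟩, 27)]]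
/-- Test vectors for pairs of blocks (index `7 * n1 + n2`). -/
def gAL : List RuVec := [
  ruOfArray ![![⟨0, 0⟩, ⟨0, 0⟩, ⟨0, 0⟩, ⟨0, 0⟩], ![⟨0, 0⟩, ⟨0, 0⟩, ⟨0, 0⟩, ⟨0, 0⟩], ![⟨0, 0⟩, ⟨0, 0⟩, ⟨0, 0⟩, ⟨0, 0⟩], ![⟨0, 0⟩, ⟨0, 0⟩, ⟨0, 0⟩, ⟨0, 0⟩], ![⟨0, 0⟩, ⟨0, 0⟩, ⟨0, 0⟩, ⟨0, 0⟩], ![⟨0, 0⟩, ⟨0, 0⟩, ⟨0, 0⟩, ⟨0, 0⟩], ![⟨0, 0⟩, ⟨0, 0⟩, ⟨0, 0⟩, ⟨0, 0⟩]],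
  ruOfArray ![![⟨0, 2⟩, ⟨0, 0⟩, ⟨0, 0⟩, ⟨0, 0⟩], ![⟨0, 0⟩, ⟨0, 0⟩, ⟨0, 0⟩, ⟨0, 0⟩], ![⟨0, 0⟩, ⟨0, 0⟩, ⟨1, -1⟩, ⟨1, -1⟩], ![⟨-1, -1⟩, ⟨1, -1⟩, ⟨1, -1⟩, ⟨1, -1⟩], ![⟨-1, 0⟩, ⟨-1, 0⟩, ⟨1, -2⟩, ⟨-2, -1⟩], ![⟨0, 1⟩, ⟨1, 0⟩, ⟨1, -2⟩, ⟨1, 0⟩], ![⟨-1, -1⟩, ⟨0, 0⟩, ⟨-1, -1⟩, ⟨-2, -2⟩]],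
  ruOfArray ![![⟨2, 0⟩, ⟨0, 0⟩, ⟨0, 0⟩, ⟨0, 0⟩], ![⟨-1, 0⟩, ⟨0, -1⟩, ⟨-2, 1⟩, ⟨0, 1⟩], ![⟨0, 0⟩, ⟨0, 0⟩, ⟨0, 0⟩, ⟨0, 0⟩], ![⟨1, -1⟩, ⟨-2, 0⟩, ⟨-2, -2⟩, ⟨1, 1⟩], ![⟨-1, -2⟩, ⟨-1, -2⟩, ⟨-2, -1⟩, ⟨1, 0⟩], ![⟨-1, 1⟩, ⟨-1, 1⟩, ⟨-2, 0⟩, ⟨-2, -2⟩], ![⟨-2, -2⟩, ⟨-2, -2⟩, ⟨-2, 0⟩, ⟨-2, -2⟩]],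
  ruOfArray ![![⟨0, 2⟩, ⟨0, 0⟩, ⟨0, 0⟩, ⟨0, 0⟩], ![⟨-1, -1⟩, ⟨1, -1⟩, ⟨1, 1⟩, ⟨-1, -1⟩], ![⟨0, 0⟩, ⟨0, 0⟩, ⟨-1, -1⟩, ⟨-1, -1⟩], ![⟨0, 0⟩, ⟨0, 0⟩, ⟨0, 0⟩, ⟨0, 0⟩], ![⟨-2, -1⟩, ⟨-2, 1⟩, ⟨-2, -1⟩, ⟨-1, 0⟩], ![⟨-1, 0⟩, ⟨0, -1⟩, ⟨0, 1⟩, ⟨0, 1⟩], ![⟨1, 1⟩, ⟨-2, 0⟩, ⟨1, 1⟩, ⟨-2, 0⟩]],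
  ruOfArray ![![⟨0, 2⟩, ⟨0, 0⟩, ⟨0, 0⟩, ⟨0, 0⟩], ![⟨-1, -2⟩, ⟨1, 0⟩, ⟨0, 1⟩, ⟨-1, 0⟩], ![⟨0, 0⟩, ⟨0, 0⟩, ⟨1, -1⟩, ⟨-1, 1⟩], ![⟨1, 0⟩, ⟨-2, 1⟩, ⟨-1, 0⟩, ⟨-1, 0⟩], ![⟨0, 0⟩, ⟨0, 0⟩, ⟨0, 0⟩, ⟨0, 0⟩], ![⟨-1, 1⟩, ⟨1, -1⟩, ⟨-1, -1⟩, ⟨1, -1⟩], ![⟨1, 1⟩, ⟨-2, 0⟩, ⟨-1, 1⟩, ⟨0, 0⟩]],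
  ruOfArray ![![⟨0, 2⟩, ⟨0, 0⟩, ⟨0, 0⟩, ⟨0, 0⟩], ![⟨-2, -2⟩, ⟨1, 1⟩, ⟨1, 1⟩, ⟨-2, -2⟩], ![⟨-1, -2⟩, ⟨1, -2⟩, ⟨0, -1⟩, ⟨1, -2⟩], ![⟨1, -1⟩, ⟨-1, -1⟩, ⟨0, 0⟩, ⟨-2, 0⟩], ![⟨1, -1⟩, ⟨1, -1⟩, ⟨1, 1⟩, ⟨1, -1⟩], ![⟨0, 0⟩, ⟨0, 0⟩, ⟨0, 0⟩, ⟨0, 0⟩], ![⟨0, -1⟩, ⟨1, -2⟩, ⟨-1, -2⟩, ⟨1, -2⟩]],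
  ruOfArray ![![⟨-2, 0⟩, ⟨0, 0⟩, ⟨0, 0⟩, ⟨0, 0⟩], ![⟨-1, -1⟩, ⟨1, -1⟩, ⟨0, -2⟩, ⟨-2, -2⟩], ![⟨-1, 1⟩, ⟨1, -1⟩, ⟨1, -1⟩, ⟨-1, 1⟩], ![⟨-2, -1⟩, ⟨0, 1⟩, ⟨0, -1⟩, ⟨-1, -2⟩], ![⟨-2, 1⟩, ⟨-1, 0⟩, ⟨-1, -2⟩, ⟨1, 0⟩], ![⟨-2, -2⟩, ⟨-1, 1⟩, ⟨0, 0⟩, ⟨-1, 1⟩], ![⟨0, 0⟩, ⟨0, 0⟩, ⟨0, 0⟩, ⟨0, 0⟩]],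
  ruOfArray ![![⟨0, 0⟩, ⟨0, 0⟩, ⟨0, 0⟩, ⟨0, 0⟩], ![⟨0, 0⟩, ⟨0, 0⟩, ⟨0, 0⟩, ⟨0, 0⟩], ![⟨0, 0⟩, ⟨0, 0⟩, ⟨0, 0⟩, ⟨0, 0⟩], ![⟨0, 0⟩, ⟨0, 0⟩, ⟨0, 0⟩, ⟨0, 0⟩], ![⟨0, 0⟩, ⟨0, 0⟩, ⟨0, 0⟩, ⟨0, 0⟩], ![⟨0, 0⟩, ⟨0, 0⟩, ⟨0, 0⟩, ⟨0, 0⟩], ![⟨0, 0⟩, ⟨0, 0⟩, ⟨0, 0⟩, ⟨0, 0⟩]],
  ruOfArray ![![⟨0, 0⟩, ⟨0, 0⟩, ⟨0, 0⟩, ⟨0, 0⟩], ![⟨0, 0⟩, ⟨0, 0⟩, ⟨0, 0⟩, ⟨0, 0⟩], ![⟨0, 0⟩, ⟨0, 0⟩, ⟨0, 0⟩, ⟨0, 0⟩], ![⟨0, 0⟩, ⟨0, 0⟩, ⟨0, 0⟩, ⟨0, 0⟩], ![⟨0, 0⟩, ⟨0, 0⟩, ⟨0, 0⟩, ⟨0, 0⟩], ![⟨0, 0⟩, ⟨0, 0⟩, ⟨0, 0⟩, ⟨0, 0⟩], ![⟨0, 0⟩, ⟨0, 0⟩, ⟨0, 0⟩, ⟨0, 0⟩]],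
  ruOfArray ![![⟨-2, 1⟩, ⟨0, -1⟩, ⟨0, 1⟩, ⟨-1, 0⟩], ![⟨2, 0⟩, ⟨0, 0⟩, ⟨0, 0⟩, ⟨0, 0⟩], ![⟨0, 0⟩, ⟨0, 0⟩, ⟨0, 0⟩, ⟨0, 0⟩], ![⟨-1, 1⟩, ⟨-2, 0⟩, ⟨0, -2⟩, ⟨1, -1⟩], ![⟨1, -1⟩, ⟨1, 1⟩, ⟨1, 1⟩, ⟨1, -1⟩], ![⟨1, -1⟩, ⟨-1, -1⟩, ⟨0, 0⟩, ⟨-2, -2⟩], ![⟨-2, -1⟩, ⟨-1, 0⟩, ⟨-2, -1⟩, ⟨0, 1⟩]],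
  ruOfArray ![![⟨-2, -2⟩, ⟨-2, -2⟩, ⟨0, 0⟩, ⟨-2, 0⟩], ![⟨0, -2⟩, ⟨0, 0⟩, ⟨0, 0⟩, ⟨0, 0⟩], ![⟨0, 0⟩, ⟨1, 1⟩, ⟨0, -2⟩, ⟨1, -1⟩], ![⟨0, 0⟩, ⟨0, 0⟩, ⟨0, 0⟩, ⟨0, 0⟩], ![⟨0, 1⟩, ⟨0, 1⟩, ⟨1, 0⟩, ⟨0, -1⟩], ![⟨-1, 1⟩, ⟨1, -1⟩, ⟨-2, -2⟩, ⟨-2, -2⟩], ![⟨0, -1⟩, ⟨-1, -2⟩, ⟨0, -1⟩, ⟨0, -1⟩]],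
  ruOfArray ![![⟨-1, 0⟩, ⟨-1, -2⟩, ⟨-2, 1⟩, ⟨1, -2⟩], ![⟨0, -2⟩, ⟨0, 0⟩, ⟨0, 0⟩, ⟨0, 0⟩], ![⟨0, -2⟩, ⟨-2, -2⟩, ⟨-2, 0⟩, ⟨0, 0⟩], ![⟨-2, 1⟩, ⟨-2, 1⟩, ⟨0, -1⟩, ⟨1, -2⟩], ![⟨0, 0⟩, ⟨0, 0⟩, ⟨0, 0⟩, ⟨0, 0⟩], ![⟨0, 0⟩, ⟨-1, -1⟩, ⟨-2, -2⟩, ⟨-1, -1⟩], ![⟨-1, -1⟩, ⟨0, 0⟩, ⟨0, -2⟩, ⟨-1, 1⟩]],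
  ruOfArray ![![⟨-1, 0⟩, ⟨-2, -1⟩, ⟨-2, -1⟩, ⟨-2, 1⟩], ![⟨2, 0⟩, ⟨0, 0⟩, ⟨0, 0⟩, ⟨0, 0⟩], ![⟨-1, -1⟩, ⟨0, -2⟩, ⟨0, -2⟩, ⟨-1, 1⟩], ![⟨-2, -1⟩, ⟨-2, -1⟩, ⟨-1, -2⟩, ⟨-2, -1⟩], ![⟨0, 0⟩, ⟨-2, -2⟩, ⟨-1, -1⟩, ⟨-1, 1⟩], ![⟨0, 0⟩, ⟨0, 0⟩, ⟨0, 0⟩, ⟨0, 0⟩], ![⟨-1, -1⟩, ⟨1, -1⟩, ⟨-1, 1⟩, ⟨-1, 1⟩]],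
  ruOfArray ![![⟨-1, -2⟩, ⟨0, 1⟩, ⟨-1, 0⟩, ⟨1, -2⟩], ![⟨-2, 0⟩, ⟨0, 0⟩, ⟨0, 0⟩, ⟨0, 0⟩], ![⟨0, 1⟩, ⟨-1, -2⟩, ⟨-1, -2⟩, ⟨-1, -2⟩], ![⟨-2, -2⟩, ⟨1, 1⟩, ⟨-2, -2⟩, ⟨-1, 1⟩], ![⟨-2, -2⟩, ⟨-1, -1⟩, ⟨1, 1⟩, ⟨-2, -2⟩], ![⟨1, 1⟩, ⟨1, 1⟩, ⟨1, 1⟩, ⟨-1, -1⟩], ![⟨0, 0⟩, ⟨0, 0⟩, ⟨0, 0⟩, ⟨0, 0⟩]],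
  ruOfArray ![![⟨0, 0⟩, ⟨0, 0⟩, ⟨0, 0⟩, ⟨0, 0⟩], ![⟨0, 0⟩, ⟨0, 0⟩, ⟨0, 0⟩, ⟨0, 0⟩], ![⟨0, 0⟩, ⟨0, 0⟩, ⟨0, 0⟩, ⟨0, 0⟩], ![⟨0, 0⟩, ⟨0, 0⟩, ⟨0, 0⟩, ⟨0, 0⟩], ![⟨0, 0⟩, ⟨0, 0⟩, ⟨0, 0⟩, ⟨0, 0⟩], ![⟨0, 0⟩, ⟨0, 0⟩, ⟨0, 0⟩, ⟨0, 0⟩], ![⟨0, 0⟩, ⟨0, 0⟩, ⟨0, 0⟩, ⟨0, 0⟩]],
  ruOfArray ![![⟨0, 0⟩, ⟨0, 0⟩, ⟨0, 0⟩, ⟨0, 0⟩], ![⟨0, 0⟩, ⟨0, 0⟩, ⟨0, 0⟩, ⟨0, 0⟩], ![⟨0, 0⟩, ⟨0, 0⟩, ⟨0, 0⟩, ⟨0, 0⟩], ![⟨0, 0⟩, ⟨0, 0⟩, ⟨0, 0⟩, ⟨0, 0⟩], ![⟨0, 0⟩, ⟨0, 0⟩, ⟨0, 0⟩, ⟨0, 0⟩], ![⟨0, 0⟩, ⟨0, 0⟩, ⟨0, 0⟩, ⟨0, 0⟩], ![⟨0, 0⟩, ⟨0, 0⟩, ⟨0, 0⟩, ⟨0, 0⟩]],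
  ruOfArray ![![⟨0, 0⟩, ⟨0, 0⟩, ⟨0, 0⟩, ⟨0, 0⟩], ![⟨0, 0⟩, ⟨0, 0⟩, ⟨0, 0⟩, ⟨0, 0⟩], ![⟨0, 0⟩, ⟨0, 0⟩, ⟨0, 0⟩, ⟨0, 0⟩], ![⟨0, 0⟩, ⟨0, 0⟩, ⟨0, 0⟩, ⟨0, 0⟩], ![⟨0, 0⟩, ⟨0, 0⟩, ⟨0, 0⟩, ⟨0, 0⟩], ![⟨0, 0⟩, ⟨0, 0⟩, ⟨0, 0⟩, ⟨0, 0⟩], ![⟨0, 0⟩, ⟨0, 0⟩, ⟨0, 0⟩, ⟨0, 0⟩]],
  ruOfArray ![![⟨0, -2⟩, ⟨-1, 1⟩, ⟨1, 1⟩, ⟨-2, 0⟩], ![⟨-1, -2⟩, ⟨-1, 0⟩, ⟨-2, -1⟩, ⟨-1, -2⟩], ![⟨2, 0⟩, ⟨0, 0⟩, ⟨0, 0⟩, ⟨0, 0⟩], ![⟨0, 0⟩, ⟨0, 0⟩, ⟨0, 0⟩, ⟨0, 0⟩], ![⟨0, 1⟩, ⟨0, -1⟩, ⟨0, 1⟩, ⟨1, -2⟩], ![⟨1, -1⟩, ⟨-1, 1⟩, ⟨-1, -1⟩, ⟨1, -1⟩], ![⟨-2, 0⟩, ⟨1, 1⟩, ⟨0, 0⟩, ⟨1,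 -1⟩]],
  ruOfArray ![![⟨-2, -2⟩, ⟨-2, -2⟩, ⟨-1, -1⟩, ⟨-1, -1⟩], ![⟨1, -1⟩, ⟨-1, 1⟩, ⟨1, 1⟩, ⟨-1, -1⟩], ![⟨0, -2⟩, ⟨0, 0⟩, ⟨0, 0⟩, ⟨0, 0⟩], ![⟨-2, 1⟩, ⟨-1, -2⟩, ⟨-1, 0⟩, ⟨-1, -2⟩], ![⟨0, 0⟩, ⟨0, 0⟩, ⟨0, 0⟩, ⟨0, 0⟩], ![⟨0, -2⟩, ⟨-1, -1⟩, ⟨1, 1⟩, ⟨0, 0⟩], ![⟨1, -2⟩, ⟨1, -2⟩, ⟨0, 1⟩, ⟨-1, -2⟩]],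
  ruOfArray ![![⟨0, -1⟩, ⟨-1, 0⟩, ⟨1, -2⟩, ⟨-1, -2⟩], ![⟨0, -2⟩, ⟨-1, 1⟩, ⟨-2, -2⟩, ⟨1, -1⟩], ![⟨2, 0⟩, ⟨0, 0⟩, ⟨0, 0⟩, ⟨0, 0⟩], ![⟨-1, 1⟩, ⟨-1, 1⟩, ⟨1, -1⟩, ⟨1, 1⟩], ![⟨0, 0⟩, ⟨-2, -2⟩, ⟨1, -1⟩, ⟨-1, 1⟩], ![⟨0, 0⟩, ⟨0, 0⟩, ⟨0, 0⟩, ⟨0, 0⟩], ![⟨-2, 1⟩, ⟨-2, -1⟩, ⟨0, -1⟩, ⟨1, 0⟩]],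
  ruOfArray ![![⟨-2, 0⟩, ⟨0, -2⟩, ⟨-2, 0⟩, ⟨0, 0⟩], ![⟨0, -1⟩, ⟨-2, 1⟩, ⟨0, -1⟩, ⟨1, 0⟩], ![⟨0, 2⟩, ⟨0, 0⟩, ⟨0, 0⟩, ⟨0, 0⟩], ![⟨0, 0⟩, ⟨-1, -1⟩, ⟨0, 0⟩, ⟨-1, 1⟩], ![⟨-1, -1⟩, ⟨-2, -2⟩, ⟨-2, -2⟩, ⟨-1, 1⟩], ![⟨0, -1⟩, ⟨0, -1⟩, ⟨1, -2⟩, ⟨0, 1⟩], ![⟨0, 0⟩, ⟨0, 0⟩, ⟨0, 0⟩, ⟨0, 0⟩]],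
  ruOfArray ![![⟨0, 0⟩, ⟨0, 0⟩, ⟨0, 0⟩, ⟨0, 0⟩], ![⟨0, 0⟩, ⟨0, 0⟩, ⟨0, 0⟩, ⟨0, 0⟩], ![⟨0, 0⟩, ⟨0, 0⟩, ⟨0, 0⟩, ⟨0, 0⟩], ![⟨0, 0⟩, ⟨0, 0⟩, ⟨0, 0⟩, ⟨0, 0⟩], ![⟨0, 0⟩, ⟨0, 0⟩, ⟨0, 0⟩, ⟨0, 0⟩], ![⟨0, 0⟩, ⟨0, 0⟩, ⟨0, 0⟩, ⟨0, 0⟩], ![⟨0, 0⟩, ⟨0, 0⟩, ⟨0, 0⟩, ⟨0, 0⟩]],
  ruOfArray ![![⟨0, 0⟩, ⟨0, 0⟩, ⟨0, 0⟩, ⟨0, 0⟩], ![⟨0, 0⟩, ⟨0, 0⟩, ⟨0, 0⟩, ⟨0, 0⟩], ![⟨0, 0⟩, ⟨0, 0⟩, ⟨0, 0⟩, ⟨0, 0⟩], ![⟨0, 0⟩, ⟨0, 0⟩, ⟨0, 0⟩, ⟨0, 0⟩], ![⟨0, 0⟩, ⟨0, 0⟩, ⟨0, 0⟩, ⟨0, 0⟩], ![⟨0, 0⟩, ⟨0, 0⟩, ⟨0, 0⟩, ⟨0, 0⟩], ![⟨0, 0⟩, ⟨0, 0⟩, ⟨0, 0⟩, ⟨0, 0⟩]],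
  ruOfArray ![![⟨0, 0⟩, ⟨0, 0⟩, ⟨0, 0⟩, ⟨0, 0⟩], ![⟨0, 0⟩, ⟨0, 0⟩, ⟨0, 0⟩, ⟨0, 0⟩], ![⟨0, 0⟩, ⟨0, 0⟩, ⟨0, 0⟩, ⟨0, 0⟩], ![⟨0, 0⟩, ⟨0, 0⟩, ⟨0, 0⟩, ⟨0, 0⟩], ![⟨0, 0⟩, ⟨0, 0⟩, ⟨0, 0⟩, ⟨0, 0⟩], ![⟨0, 0⟩, ⟨0, 0⟩, ⟨0, 0⟩, ⟨0, 0⟩], ![⟨0, 0⟩, ⟨0, 0⟩, ⟨0, 0⟩, ⟨0, 0⟩]],
  ruOfArray ![![⟨0, 0⟩, ⟨0, 0⟩, ⟨0, 0⟩, ⟨0, 0⟩], ![⟨0, 0⟩, ⟨0, 0⟩, ⟨0, 0⟩, ⟨0, 0⟩], ![⟨0, 0⟩, ⟨0, 0⟩, ⟨0, 0⟩, ⟨0, 0⟩], ![⟨0, 0⟩, ⟨0, 0⟩, ⟨0, 0⟩, ⟨0, 0⟩], ![⟨0, 0⟩, ⟨0, 0⟩, ⟨0, 0⟩, ⟨0, 0⟩], ![⟨0, 0⟩, ⟨0, 0⟩, ⟨0, 0⟩, ⟨0, 0⟩], ![⟨0, 0⟩, ⟨0, 0⟩, ⟨0, 0⟩, ⟨0, 0⟩]],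
  ruOfArray ![![⟨-2, 0⟩, ⟨0, -2⟩, ⟨1, 1⟩, ⟨-1, -1⟩], ![⟨-1, -2⟩, ⟨0, 1⟩, ⟨1, 0⟩, ⟨-1, -2⟩], ![⟨-2, -1⟩, ⟨0, -1⟩, ⟨0, 1⟩, ⟨1, 0⟩], ![⟨-2, 0⟩, ⟨0, 0⟩, ⟨0, 0⟩, ⟨0, 0⟩], ![⟨0, 0⟩, ⟨0, 0⟩, ⟨0, 0⟩, ⟨0, 0⟩], ![⟨-1, -1⟩, ⟨-2, -2⟩, ⟨0, 0⟩, ⟨-1, -1⟩], ![⟨1, 1⟩, ⟨1, -1⟩, ⟨-1, 1⟩, ⟨-1, -1⟩]],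
  ruOfArray ![![⟨-1, 1⟩, ⟨1, 1⟩, ⟨-2, -2⟩, ⟨-2, 0⟩], ![⟨-2, 1⟩, ⟨-1, -2⟩, ⟨0, 1⟩, ⟨-2, -1⟩], ![⟨-2, 0⟩, ⟨0, 0⟩, ⟨-2, -2⟩, ⟨0, 0⟩], ![⟨2, 0⟩, ⟨0, 0⟩, ⟨0, 0⟩, ⟨0, 0⟩], ![⟨1, 1⟩, ⟨0, -2⟩, ⟨1, -1⟩, ⟨-2, 0⟩], ![⟨0, 0⟩, ⟨0, 0⟩, ⟨0, 0⟩, ⟨0, 0⟩], ![⟨1, -2⟩, ⟨1, 0⟩, ⟨-2, -1⟩, ⟨-1, 0⟩]],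
  ruOfArray ![![⟨-2, 0⟩, ⟨1, 1⟩, ⟨-1, 1⟩, ⟨-2, 0⟩], ![⟨1, -2⟩, ⟨1, -2⟩, ⟨0, -1⟩, ⟨-1, 0⟩], ![⟨1, 1⟩, ⟨1, -1⟩, ⟨0, 0⟩, ⟨-2, -2⟩], ![⟨-2, 0⟩, ⟨0, 0⟩, ⟨0, 0⟩, ⟨0, 0⟩], ![⟨-1, 1⟩, ⟨1, -1⟩, ⟨1, -1⟩, ⟨1, -1⟩], ![⟨-1, -2⟩, ⟨0, 1⟩, ⟨0, 1⟩, ⟨0, -1⟩], ![⟨0, 0⟩, ⟨0, 0⟩, ⟨0, 0⟩, ⟨0, 0⟩]],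
  ruOfArray ![![⟨0, 0⟩, ⟨0, 0⟩, ⟨0, 0⟩, ⟨0, 0⟩], ![⟨0, 0⟩, ⟨0, 0⟩, ⟨0, 0⟩, ⟨0, 0⟩], ![⟨0, 0⟩, ⟨0, 0⟩, ⟨0, 0⟩, ⟨0, 0⟩], ![⟨0, 0⟩, ⟨0, 0⟩, ⟨0, 0⟩, ⟨0, 0⟩], ![⟨0, 0⟩, ⟨0, 0⟩, ⟨0, 0⟩, ⟨0, 0⟩], ![⟨0, 0⟩, ⟨0, 0⟩, ⟨0, 0⟩, ⟨0, 0⟩], ![⟨0, 0⟩, ⟨0, 0⟩, ⟨0, 0⟩, ⟨0, 0⟩]],
  ruOfArray ![![⟨0, 0⟩, ⟨0, 0⟩, ⟨0, 0⟩, ⟨0, 0⟩], ![⟨0, 0⟩, ⟨0, 0⟩, ⟨0, 0⟩, ⟨0, 0⟩], ![⟨0, 0⟩, ⟨0, 0⟩, ⟨0, 0⟩, ⟨0, 0⟩], ![⟨0, 0⟩, ⟨0, 0⟩, ⟨0, 0⟩, ⟨0, 0⟩], ![⟨0, 0⟩, ⟨0, 0⟩, ⟨0, 0⟩, ⟨0, 0⟩], ![⟨0, 0⟩, ⟨0, 0⟩, ⟨0, 0⟩, ⟨0, 0⟩], ![⟨0, 0⟩, ⟨0, 0⟩, ⟨0, 0⟩, ⟨0, 0⟩]],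
  ruOfArray ![![⟨0, 0⟩, ⟨0, 0⟩, ⟨0, 0⟩, ⟨0, 0⟩], ![⟨0, 0⟩, ⟨0, 0⟩, ⟨0, 0⟩, ⟨0, 0⟩], ![⟨0, 0⟩, ⟨0, 0⟩, ⟨0, 0⟩, ⟨0, 0⟩], ![⟨0, 0⟩, ⟨0, 0⟩, ⟨0, 0⟩, ⟨0, 0⟩], ![⟨0, 0⟩, ⟨0, 0⟩, ⟨0, 0⟩, ⟨0, 0⟩], ![⟨0, 0⟩, ⟨0, 0⟩, ⟨0, 0⟩, ⟨0, 0⟩], ![⟨0, 0⟩, ⟨0, 0⟩, ⟨0, 0⟩, ⟨0, 0⟩]],
  ruOfArray ![![⟨0, 0⟩, ⟨0, 0⟩, ⟨0, 0⟩, ⟨0, 0⟩], ![⟨0, 0⟩, ⟨0, 0⟩, ⟨0, 0⟩, ⟨0, 0⟩], ![⟨0, 0⟩, ⟨0, 0⟩, ⟨0, 0⟩, ⟨0, 0⟩], ![⟨0, 0⟩, ⟨0, 0⟩, ⟨0, 0⟩, ⟨0, 0⟩], ![⟨0, 0⟩, ⟨0, 0⟩, ⟨0, 0⟩, ⟨0, 0⟩], ![⟨0, 0⟩, ⟨0, 0⟩, ⟨0, 0⟩, ⟨0, 0⟩], ![⟨0, 0⟩, ⟨0, 0⟩, ⟨0, 0⟩, ⟨0, 0⟩]],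
  ruOfArray ![![⟨0, 0⟩, ⟨0, 0⟩, ⟨0, 0⟩, ⟨0, 0⟩], ![⟨0, 0⟩, ⟨0, 0⟩, ⟨0, 0⟩, ⟨0, 0⟩], ![⟨0, 0⟩, ⟨0, 0⟩, ⟨0, 0⟩, ⟨0, 0⟩], ![⟨0, 0⟩, ⟨0, 0⟩, ⟨0, 0⟩, ⟨0, 0⟩], ![⟨0, 0⟩, ⟨0, 0⟩, ⟨0, 0⟩, ⟨0, 0⟩], ![⟨0, 0⟩, ⟨0, 0⟩, ⟨0, 0⟩, ⟨0, 0⟩], ![⟨0, 0⟩, ⟨0, 0⟩, ⟨0, 0⟩, ⟨0, 0⟩]],
  ruOfArray ![![⟨-2, 0⟩, ⟨-2, -2⟩, ⟨0, 0⟩, ⟨0, 0⟩], ![⟨1, 0⟩, ⟨0, 1⟩, ⟨-2, -1⟩, ⟨0, -1⟩], ![⟨0, 0⟩, ⟨-1, -1⟩, ⟨-2, 0⟩, ⟨1, 1⟩], ![⟨-1, 1⟩, ⟨-2, 0⟩, ⟨-2, -2⟩, ⟨-1, 1⟩], ![⟨0, -2⟩, ⟨0, 0⟩, ⟨0, 0⟩, ⟨0, 0⟩], ![⟨0, 0⟩, ⟨0, 0⟩, ⟨0, 0⟩, ⟨0, 0⟩], ![⟨-2, 1⟩, ⟨-1, 0⟩, ⟨-2, -1⟩, ⟨-2,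 1⟩]],
  ruOfArray ![![⟨-2, -1⟩, ⟨0, 1⟩, ⟨-1, -2⟩, ⟨-2, 1⟩], ![⟨-1, 1⟩, ⟨-1, 1⟩, ⟨0, 0⟩, ⟨0, 0⟩], ![⟨-1, -2⟩, ⟨-2, 1⟩, ⟨-1, -2⟩, ⟨1, -2⟩], ![⟨-2, 0⟩, ⟨0, -2⟩, ⟨0, 0⟩, ⟨-2, 0⟩], ![⟨0, -2⟩, ⟨0, 0⟩, ⟨0, 0⟩, ⟨0, 0⟩], ![⟨1, 1⟩, ⟨-2, 0⟩, ⟨1, 1⟩, ⟨-2, -2⟩], ![⟨0, 0⟩, ⟨0, 0⟩, ⟨0, 0⟩, ⟨0, 0⟩]],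
  ruOfArray ![![⟨0, 0⟩, ⟨0, 0⟩, ⟨0, 0⟩, ⟨0, 0⟩], ![⟨0, 0⟩, ⟨0, 0⟩, ⟨0, 0⟩, ⟨0, 0⟩], ![⟨0, 0⟩, ⟨0, 0⟩, ⟨0, 0⟩, ⟨0, 0⟩], ![⟨0, 0⟩, ⟨0, 0⟩, ⟨0, 0⟩, ⟨0, 0⟩], ![⟨0, 0⟩, ⟨0, 0⟩, ⟨0, 0⟩, ⟨0, 0⟩], ![⟨0, 0⟩, ⟨0, 0⟩, ⟨0, 0⟩, ⟨0, 0⟩], ![⟨0, 0⟩, ⟨0, 0⟩, ⟨0, 0⟩, ⟨0, 0⟩]],
  ruOfArray ![![⟨0, 0⟩, ⟨0, 0⟩, ⟨0, 0⟩, ⟨0, 0⟩], ![⟨0, 0⟩, ⟨0, 0⟩, ⟨0, 0⟩, ⟨0, 0⟩], ![⟨0, 0⟩, ⟨0, 0⟩, ⟨0, 0⟩, ⟨0, 0⟩], ![⟨0, 0⟩, ⟨0, 0⟩, ⟨0, 0⟩, ⟨0, 0⟩], ![⟨0, 0⟩, ⟨0, 0⟩, ⟨0, 0⟩, ⟨0, 0⟩], ![⟨0, 0⟩, ⟨0, 0⟩, ⟨0, 0⟩, ⟨0, 0⟩], ![⟨0, 0⟩, ⟨0, 0⟩, ⟨0, 0⟩, ⟨0, 0⟩]],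
  ruOfArray ![![⟨0, 0⟩, ⟨0, 0⟩, ⟨0, 0⟩, ⟨0, 0⟩], ![⟨0, 0⟩, ⟨0, 0⟩, ⟨0, 0⟩, ⟨0, 0⟩], ![⟨0, 0⟩, ⟨0, 0⟩, ⟨0, 0⟩, ⟨0, 0⟩], ![⟨0, 0⟩, ⟨0, 0⟩, ⟨0, 0⟩, ⟨0, 0⟩], ![⟨0, 0⟩, ⟨0, 0⟩, ⟨0, 0⟩, ⟨0, 0⟩], ![⟨0, 0⟩, ⟨0, 0⟩, ⟨0, 0⟩, ⟨0, 0⟩], ![⟨0, 0⟩, ⟨0, 0⟩, ⟨0, 0⟩, ⟨0, 0⟩]],
  ruOfArray ![![⟨0, 0⟩, ⟨0, 0⟩, ⟨0, 0⟩, ⟨0, 0⟩], ![⟨0, 0⟩, ⟨0, 0⟩, ⟨0, 0⟩, ⟨0, 0⟩], ![⟨0, 0⟩, ⟨0, 0⟩, ⟨0, 0⟩, ⟨0, 0⟩], ![⟨0, 0⟩, ⟨0, 0⟩, ⟨0, 0⟩, ⟨0, 0⟩], ![⟨0, 0⟩, ⟨0, 0⟩, ⟨0, 0⟩, ⟨0, 0⟩], ![⟨0, 0⟩, ⟨0, 0⟩, ⟨0, 0⟩, ⟨0, 0⟩], ![⟨0, 0⟩, ⟨0, 0⟩, ⟨0, 0⟩, ⟨0, 0⟩]],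
  ruOfArray ![![⟨0, 0⟩, ⟨0, 0⟩, ⟨0, 0⟩, ⟨0, 0⟩], ![⟨0, 0⟩, ⟨0, 0⟩, ⟨0, 0⟩, ⟨0, 0⟩], ![⟨0, 0⟩, ⟨0, 0⟩, ⟨0, 0⟩, ⟨0, 0⟩], ![⟨0, 0⟩, ⟨0, 0⟩, ⟨0, 0⟩, ⟨0, 0⟩], ![⟨0, 0⟩, ⟨0, 0⟩, ⟨0, 0⟩, ⟨0, 0⟩], ![⟨0, 0⟩, ⟨0, 0⟩, ⟨0, 0⟩, ⟨0, 0⟩], ![⟨0, 0⟩, ⟨0, 0⟩, ⟨0, 0⟩, ⟨0, 0⟩]],
  ruOfArray ![![⟨0, 0⟩, ⟨0, 0⟩, ⟨0, 0⟩, ⟨0, 0⟩], ![⟨0, 0⟩, ⟨0, 0⟩, ⟨0, 0⟩, ⟨0, 0⟩], ![⟨0, 0⟩, ⟨0, 0⟩, ⟨0, 0⟩, ⟨0, 0⟩], ![⟨0, 0⟩, ⟨0, 0⟩, ⟨0, 0⟩, ⟨0, 0⟩], ![⟨0, 0⟩, ⟨0, 0⟩, ⟨0, 0⟩, ⟨0, 0⟩], ![⟨0, 0⟩, ⟨0, 0⟩, ⟨0, 0⟩, ⟨0, 0⟩], ![⟨0, 0⟩, ⟨0, 0⟩, ⟨0, 0⟩, ⟨0, 0⟩]],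
  ruOfArray ![![⟨0, -1⟩, ⟨-1, 0⟩, ⟨0, -1⟩, ⟨0, 1⟩], ![⟨1, -1⟩, ⟨1, 1⟩, ⟨-1, 1⟩, ⟨1, 1⟩], ![⟨-1, 0⟩, ⟨-2, -1⟩, ⟨-2, 1⟩, ⟨-2, 1⟩], ![⟨0, -2⟩, ⟨-1, -1⟩, ⟨-2, 0⟩, ⟨1, -1⟩], ![⟨-2, -2⟩, ⟨-1, 1⟩, ⟨1, -1⟩, ⟨0, 0⟩], ![⟨-2, 0⟩, ⟨0, 0⟩, ⟨0, 0⟩, ⟨0, 0⟩], ![⟨0, 0⟩, ⟨0, 0⟩, ⟨0, 0⟩, ⟨0, 0⟩]],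
  ruOfArray ![![⟨0, 0⟩, ⟨0, 0⟩, ⟨0, 0⟩, ⟨0, 0⟩], ![⟨0, 0⟩, ⟨0, 0⟩, ⟨0, 0⟩, ⟨0, 0⟩], ![⟨0, 0⟩, ⟨0, 0⟩, ⟨0, 0⟩, ⟨0, 0⟩], ![⟨0, 0⟩, ⟨0, 0⟩, ⟨0, 0⟩, ⟨0, 0⟩], ![⟨0, 0⟩, ⟨0, 0⟩, ⟨0, 0⟩, ⟨0, 0⟩], ![⟨0, 0⟩, ⟨0, 0⟩, ⟨0, 0⟩, ⟨0, 0⟩], ![⟨0, 0⟩, ⟨0, 0⟩, ⟨0, 0⟩, ⟨0, 0⟩]],
  ruOfArray ![![⟨0, 0⟩, ⟨0, 0⟩, ⟨0, 0⟩, ⟨0, 0⟩], ![⟨0, 0⟩, ⟨0, 0⟩, ⟨0, 0⟩, ⟨0, 0⟩], ![⟨0, 0⟩, ⟨0, 0⟩, ⟨0, 0⟩, ⟨0, 0⟩], ![⟨0, 0⟩, ⟨0, 0⟩, ⟨0, 0⟩, ⟨0, 0⟩], ![⟨0, 0⟩, ⟨0, 0⟩, ⟨0, 0⟩, ⟨0, 0⟩], ![⟨0, 0⟩, ⟨0, 0⟩, ⟨0, 0⟩, ⟨0, 0⟩], ![⟨0, 0⟩, ⟨0, 0⟩, ⟨0, 0⟩, ⟨0, 0⟩]],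
  ruOfArray ![![⟨0, 0⟩, ⟨0, 0⟩, ⟨0, 0⟩, ⟨0, 0⟩], ![⟨0, 0⟩, ⟨0, 0⟩, ⟨0, 0⟩, ⟨0, 0⟩], ![⟨0, 0⟩, ⟨0, 0⟩, ⟨0, 0⟩, ⟨0, 0⟩], ![⟨0, 0⟩, ⟨0, 0⟩, ⟨0, 0⟩, ⟨0, 0⟩], ![⟨0, 0⟩, ⟨0, 0⟩, ⟨0, 0⟩, ⟨0, 0⟩], ![⟨0, 0⟩, ⟨0, 0⟩, ⟨0, 0⟩, ⟨0, 0⟩], ![⟨0, 0⟩, ⟨0, 0⟩, ⟨0, 0⟩, ⟨0, 0⟩]],
  ruOfArray ![![⟨0, 0⟩, ⟨0, 0⟩, ⟨0, 0⟩, ⟨0, 0⟩], ![⟨0, 0⟩, ⟨0, 0⟩, ⟨0, 0⟩, ⟨0, 0⟩], ![⟨0, 0⟩, ⟨0, 0⟩, ⟨0, 0⟩, ⟨0, 0⟩], ![⟨0, 0⟩, ⟨0, 0⟩, ⟨0, 0⟩, ⟨0, 0⟩], ![⟨0, 0⟩, ⟨0, 0⟩, ⟨0, 0⟩, ⟨0, 0⟩], ![⟨0, 0⟩, ⟨0, 0⟩, ⟨0, 0⟩, ⟨0, 0⟩], ![⟨0, 0⟩, ⟨0, 0⟩, ⟨0, 0⟩, ⟨0, 0⟩]],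
  ruOfArray ![![⟨0, 0⟩, ⟨0, 0⟩, ⟨0, 0⟩, ⟨0, 0⟩], ![⟨0, 0⟩, ⟨0, 0⟩, ⟨0, 0⟩, ⟨0, 0⟩], ![⟨0, 0⟩, ⟨0, 0⟩, ⟨0, 0⟩, ⟨0, 0⟩], ![⟨0, 0⟩, ⟨0, 0⟩, ⟨0, 0⟩, ⟨0, 0⟩], ![⟨0, 0⟩, ⟨0, 0⟩, ⟨0, 0⟩, ⟨0, 0⟩], ![⟨0, 0⟩, ⟨0, 0⟩, ⟨0, 0⟩, ⟨0, 0⟩], ![⟨0, 0⟩, ⟨0, 0⟩, ⟨0, 0⟩, ⟨0, 0⟩]],
  ruOfArray ![![⟨0, 0⟩, ⟨0, 0⟩, ⟨0, 0⟩, ⟨0, 0⟩], ![⟨0, 0⟩, ⟨0, 0⟩, ⟨0, 0⟩, ⟨0, 0⟩], ![⟨0, 0⟩, ⟨0, 0⟩, ⟨0, 0⟩, ⟨0, 0⟩], ![⟨0, 0⟩, ⟨0, 0⟩, ⟨0, 0⟩, ⟨0, 0⟩], ![⟨0, 0⟩, ⟨0, 0⟩, ⟨0, 0⟩, ⟨0, 0⟩], ![⟨0, 0⟩, ⟨0, 0⟩, ⟨0, 0⟩, ⟨0, 0⟩], ![⟨0, 0⟩, ⟨0, 0⟩, ⟨0, 0⟩, ⟨0, 0⟩]],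
  ruOfArray ![![⟨0, 0⟩, ⟨0, 0⟩, ⟨0, 0⟩, ⟨0, 0⟩], ![⟨0, 0⟩, ⟨0, 0⟩, ⟨0, 0⟩, ⟨0, 0⟩], ![⟨0, 0⟩, ⟨0, 0⟩, ⟨0, 0⟩, ⟨0, 0⟩], ![⟨0, 0⟩, ⟨0, 0⟩, ⟨0, 0⟩, ⟨0, 0⟩], ![⟨0, 0⟩, ⟨0, 0⟩, ⟨0, 0⟩, ⟨0, 0⟩], ![⟨0, 0⟩, ⟨0, 0⟩, ⟨0, 0⟩, ⟨0, 0⟩], ![⟨0, 0⟩, ⟨0, 0⟩, ⟨0, 0⟩, ⟨0, 0⟩]]]
/-- Coefficients of the pair test vectors. -/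
def cAL : List (List (GaussianInt × Fin 28)) := [
  [],
  [(⟨0, -2⟩, 0), (⟨1, -1⟩, 3), (⟨2, -1⟩, 5), (⟨1, 0⟩, 6), (⟨3, 0⟩, 7), (⟨4, 0⟩, 10), (⟨5, 3⟩, 11), (⟨4, 0⟩, 12), (⟨4, 2⟩, 13), (⟨4, 2⟩, 14), (⟨5, 7⟩, 15), (⟨2, 2⟩, 16), (⟨3, 8⟩, 17), (⟨2, 4⟩, 18), (⟨-1, 19⟩, 19), (⟨4, 16⟩, 20), (⟨-10, 20⟩, 21), (⟨-4, 23⟩, 22), (⟨-26, 23⟩, 23), (⟨-3, 30⟩, 24), (⟨-44, 37⟩, 25), (⟨-35, 42⟩, 26), (⟨-18, 46⟩, 27)],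
  [(⟨-2, 0⟩, 0), (⟨-1, -1⟩, 3), (⟨-1, 0⟩, 4), (⟨-1, -3⟩, 5), (⟨-2, -2⟩, 6), (⟨0, -6⟩, 7), (⟨1, -7⟩, 10), (⟨8, -8⟩, 11), (⟨0, -4⟩, 12), (⟨0, -6⟩, 13), (⟨2, -6⟩, 14), (⟨7, -9⟩, 15), (⟨1, -5⟩, 16), (⟨11, -7⟩, 17), (⟨6, -6⟩, 18), (⟨31, -5⟩, 19), (⟨26, -10⟩, 20), (⟨35, 16⟩, 21), (⟨41, 1⟩, 22), (⟨42, 46⟩, 23), (⟨50, 1⟩, 24), (⟨69, 66⟩, 25), (⟨70, 51⟩, 26), (⟨81, 22⟩, 27)],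
  [(⟨0, -2⟩, 0), (⟨1, -1⟩, 3), (⟨-1, -1⟩, 4), (⟨3, -2⟩, 5), (⟨1, 0⟩, 6), (⟨5, 0⟩, 7), (⟨4, 0⟩, 10), (⟨6, 4⟩, 11), (⟨4, 0⟩, 12), (⟨4, 0⟩, 13), (⟨4, 2⟩, 14), (⟨6, 6⟩, 15), (⟨2, 2⟩, 16), (⟨5, 7⟩, 17), (⟨4, 4⟩, 18), (⟨4, 20⟩, 19), (⟨8, 18⟩, 20), (⟨-10, 24⟩, 21), (⟨-3, 27⟩, 22), (⟨-29, 29⟩, 23), (⟨1, 31⟩, 24), (⟨-40, 45⟩, 25), (⟨-33, 48⟩, 26), (⟨-12, 53⟩, 27)],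
  [(⟨0, -2⟩, 0), (⟨1, -1⟩, 3), (⟨-1, -2⟩, 4), (⟨3, -2⟩, 5), (⟨1, -1⟩, 6), (⟨6, -1⟩, 7), (⟨7, -1⟩, 10), (⟨10, 6⟩, 11), (⟨4, 0⟩, 12), (⟨4, -2⟩, 13), (⟨4, 2⟩, 14), (⟨8, 4⟩, 15), (⟨5, 1⟩, 16), (⟨9, 8⟩, 17), (⟨6, 4⟩, 18), (⟨12, 26⟩, 19), (⟨13, 20⟩, 20), (⟨-7, 32⟩, 21), (⟨7, 35⟩, 22), (⟨-31, 46⟩, 23), (⟨10, 43⟩, 24), (⟨-40, 71⟩, 25), (⟨-31, 68⟩, 26), (⟨-2, 75⟩, 27)],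
  [(⟨0, -2⟩, 0), (⟨1, -1⟩, 3), (⟨-2, -2⟩, 4), (⟨2, -2⟩, 5), (⟨1, -1⟩, 6), (⟨6, -1⟩, 7), (⟨-2, 1⟩, 8), (⟨-2, -2⟩, 9), (⟨5, -1⟩, 10), (⟨10, 2⟩, 11), (⟨4, 0⟩, 12), (⟨4, -2⟩, 13), (⟨4, 2⟩, 14), (⟨8, 2⟩, 15), (⟨3, -3⟩, 16), (⟨12, 5⟩, 17), (⟨4, -2⟩, 18), (⟨15, 19⟩, 19), (⟨16, 13⟩, 20), (⟨3, 26⟩, 21), (⟨16, 26⟩, 22), (⟨-13, 47⟩, 23), (⟨23, 35⟩, 24), (⟨-11, 72⟩, 25), (⟨-9, 70⟩, 26), (⟨20, 65⟩, 27)],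
  [(⟨2, 0⟩, 0), (⟨1, 1⟩, 3), (⟨-1, -1⟩, 4), (⟨2, 1⟩, 5), (⟨1, -1⟩, 6), (⟨4, 3⟩, 7), (⟨1, 1⟩, 8), (⟨4, 4⟩, 10), (⟨1, 9⟩, 11), (⟨4, 2⟩, 12), (⟨2, 2⟩, 13), (⟨2, 4⟩, 14), (⟨2, 8⟩, 15), (⟨0, 6⟩, 16), (⟨-3, 9⟩, 17), (⟨-2, 8⟩, 18), (⟨-13, 20⟩, 19), (⟨-9, 20⟩, 20), (⟨-28, 12⟩, 21), (⟨-24, 23⟩, 22), (⟨-52, 0⟩, 23), (⟨-31, 24⟩, 24), (⟨-74, -3⟩, 25), (⟨-65, 7⟩, 26), (⟨-57, 31⟩, 27)],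
  [],
  [],
  [(⟨2, -1⟩, 0), (⟨0, 1⟩, 1), (⟨0, -1⟩, 2), (⟨1, 1⟩, 3), (⟨2, 0⟩, 4), (⟨2, 3⟩, 5), (⟨1, 2⟩, 6), (⟨0, 5⟩, 7), (⟨0, 6⟩, 10), (⟨-6, 8⟩, 11), (⟨0, 4⟩, 12), (⟨0, 4⟩, 13), (⟨-2, 4⟩, 14), (⟨-4, 6⟩, 15), (⟨-2, 4⟩, 16), (⟨-7, 7⟩, 17), (⟨-4, 4⟩, 18), (⟨-24, 8⟩, 19), (⟨-18, 10⟩, 20), (⟨-27, -7⟩, 21), (⟨-30, 2⟩, 22), (⟨-37, -28⟩, 23), (⟨-37, 6⟩, 24), (⟨-59, -39⟩, 25), (⟨-58, -31⟩, 26), (⟨-63, -7⟩, 27)],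
  [(⟨2, 2⟩, 0), (⟨2, 2⟩, 1), (⟨-1, 5⟩, 3), (⟨0, -2⟩, 4), (⟨-2, 5⟩, 5), (⟨-2, 3⟩, 6), (⟨-7, 5⟩, 7), (⟨1, 2⟩, 9), (⟨-8, 4⟩, 10), (⟨-16, -2⟩, 11), (⟨-6, 6⟩, 12), (⟨-8, 4⟩, 13), (⟨-10, 2⟩, 14), (⟨-18, -4⟩, 15), (⟨-8, 4⟩, 16), (⟨-19, -9⟩, 17), (⟨-14, 0⟩, 18), (⟨-27, -31⟩, 19), (⟨-34, -26⟩, 20), (⟨-10, -54⟩, 21), (⟨-32, -54⟩, 22), (⟨15, -90⟩, 23), (⟨-44, -63⟩, 24), (⟨24, -141⟩, 25), (⟨5, -133⟩, 26), (⟨-39, -122⟩, 27)],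
  [(⟨1, 0⟩, 0), (⟨1, 2⟩, 1), (⟨2, -1⟩, 2), (⟨1, 1⟩, 3), (⟨0, -2⟩, 4), (⟨1, 2⟩, 5), (⟨2, 2⟩, 6), (⟨2, 4⟩, 7), (⟨-2, 0⟩, 8), (⟨-2, 1⟩, 9), (⟨0, 7⟩, 10), (⟨-7, 7⟩, 11), (⟨0, 4⟩, 12), (⟨0, 2⟩, 13), (⟨-2, 6⟩, 14), (⟨-4, 6⟩, 15), (⟨-3, 3⟩, 16), (⟨-7, 6⟩, 17), (⟨-4, 4⟩, 18), (⟨-23, 7⟩, 19), (⟨-17, 7⟩, 20), (⟨-27, -8⟩, 21), (⟨-30, -1⟩, 22), (⟨-35, -32⟩, 23), (⟨-33, -1⟩, 24), (⟨-47, -43⟩, 25), (⟨-50, -34⟩, 26), (⟨-56, -14⟩, 27)],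
  [(⟨1, 0⟩, 0), (⟨2, 1⟩, 1), (⟨2, 1⟩, 2), (⟨1, 5⟩, 3), (⟨2, 0⟩, 4), (⟨0, 6⟩, 5), (⟨0, 7⟩, 6), (⟨-7, 11⟩, 7), (⟨-1, 1⟩, 8), (⟨-1, 2⟩, 9), (⟨-10, 12⟩, 10), (⟨-25, 3⟩, 11), (⟨-4, 8⟩, 12), (⟨-4, 10⟩, 13), (⟨-12, 6⟩, 14), (⟨-22, 6⟩, 15), (⟨-12, 8⟩, 16), (⟨-28, 0⟩, 17), (⟨-20, 6⟩, 18), (⟨-59, -23⟩, 19), (⟨-55, -14⟩, 20), (⟨-41, -65⟩, 21), (⟨-72, -55⟩, 22), (⟨-19, -128⟩, 23), (⟨-85, -63⟩, 24), (⟨-39, -190⟩, 25), (⟨-56, -169⟩, 26), (⟨-111, -140⟩, 27)],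
  [(⟨1, 2⟩, 0), (⟨0, -1⟩, 1), (⟨1, 0⟩, 2), (⟨-2, 0⟩, 4), (⟨-1, 0⟩, 5), (⟨0, -1⟩, 6), (⟨1, -1⟩, 7), (⟨1, 0⟩, 8), (⟨1, -1⟩, 10), (⟨2, 0⟩, 12), (⟨1, 1⟩, 15), (⟨-1, -1⟩, 16), (⟨-1, -1⟩, 19), (⟨-1, -1⟩, 20), (⟨1, 0⟩, 21), (⟨1, 1⟩, 22), (⟨0, 2⟩, 23), (⟨2, -1⟩, 25), (⟨2, 2⟩, 26), (⟨1, 1⟩, 27)],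
  [],
  [],
  [],
  [(⟨0, 2⟩, 0), (⟨1, -1⟩, 1), (⟨-1, -1⟩, 2), (⟨-1, 1⟩, 3), (⟨-1, -2⟩, 4), (⟨-1, -1⟩, 5), (⟨0, -4⟩, 6), (⟨2, -2⟩, 7), (⟨0, -2⟩, 8), (⟨2, -2⟩, 9), (⟨4, -4⟩, 10), (⟨7, 3⟩, 11), (⟨2, -2⟩, 12), (⟨2, -4⟩, 13), (⟨4, -2⟩, 14), (⟨9, -3⟩, 15), (⟨6, -2⟩, 16), (⟨10, 5⟩, 17), (⟨8, -2⟩, 18), (⟨19, 13⟩, 19), (⟨16, 6⟩, 20), (⟨14, 24⟩, 21), (⟨22, 25⟩, 22), (⟨-6, 43⟩, 23), (⟨21, 30⟩, 24), (⟨0, 70⟩, 25), (⟨8, 58⟩, 26), (⟨25, 55⟩, 27)],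
  [(⟨2, 2⟩, 0), (⟨2, 2⟩, 1), (⟨1, 1⟩, 2), (⟨-1, 5⟩, 3), (⟨1, -1⟩, 4), (⟨-3, 6⟩, 5), (⟨-2, 6⟩, 6), (⟨-9, 8⟩, 7), (⟨-2, 0⟩, 8), (⟨-1, 2⟩, 9), (⟨-13, 9⟩, 10), (⟨-25, -3⟩, 11), (⟨-8, 6⟩, 12), (⟨-8, 6⟩, 13), (⟨-14, 2⟩, 14), (⟨-23, -3⟩, 15), (⟨-13, 3⟩, 16), (⟨-26, -10⟩, 17), (⟨-20, -2⟩, 18), (⟨-46, -42⟩, 19), (⟨-48, -33⟩, 20), (⟨-18, -77⟩, 21), (⟨-50, -75⟩, 22), (⟨21, -131⟩, 23), (⟨-61, -90⟩, 24), (⟨29, -198⟩, 25), (⟨4, -185⟩, 26), (⟨-60, -172⟩, 27)],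
  [(⟨0, 1⟩, 0), (⟨1, 0⟩, 1), (⟨-1, 2⟩, 2), (⟨-3, 1⟩, 3), (⟨0, -2⟩, 4), (⟨-2, -1⟩, 5), (⟨-2, -3⟩, 6), (⟨-2, -3⟩, 7), (⟨0, -2⟩, 8), (⟨-1, -5⟩, 10), (⟨4, -6⟩, 11), (⟨0, -4⟩, 12), (⟨0, -4⟩, 13), (⟨2, -6⟩, 14), (⟨4, -8⟩, 15), (⟨1, -5⟩, 16), (⟨6, -5⟩, 17), (⟨2, -6⟩, 18), (⟨19, -6⟩, 19), (⟨15, -12⟩, 20), (⟨27, 4⟩, 21), (⟨30, -6⟩, 22), (⟨35, 21⟩, 23), (⟨35, -8⟩, 24), (⟨56, 36⟩, 25), (⟨60, 24⟩, 26), (⟨62, 3⟩, 27)],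
  [(⟨2, 0⟩, 0), (⟨0, 2⟩, 1), (⟨2, 0⟩, 2), (⟨1, 3⟩, 3), (⟨0, -1⟩, 4), (⟨-2, 3⟩, 5), (⟨0, 3⟩, 6), (⟨-3, 4⟩, 7), (⟨2, 0⟩, 8), (⟨1, 3⟩, 9), (⟨-2, 6⟩, 10), (⟨-12, 2⟩, 11), (⟨-4, 4⟩, 12), (⟨-4, 2⟩, 13), (⟨-8, 4⟩, 14), (⟨-11, 1⟩, 15), (⟨-6, 6⟩, 16), (⟨-15, 0⟩, 17), (⟨-8, 6⟩, 18), (⟨-25, -9⟩, 19), (⟨-26, -7⟩, 20), (⟨-23, -27⟩, 21), (⟨-34, -24⟩, 22), (⟨-15, -62⟩, 23), (⟨-47, -31⟩, 24), (⟨-24, -94⟩, 25), (⟨-31, -89⟩, 26), (⟨-56, -68⟩, 27)],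
  [],
  [],
  [],
  [],
  [(⟨2, 0⟩, 0), (⟨0, 2⟩, 1), (⟨-1, -1⟩, 2), (⟨-1, 1⟩, 3), (⟨-1, -2⟩, 4), (⟨-1, 1⟩, 5), (⟨-1, -1⟩, 6), (⟨0, -1⟩, 7), (⟨-1, 2⟩, 8), (⟨-3, 0⟩, 9), (⟨2, -2⟩, 11), (⟨-2, -2⟩, 13), (⟨0, -6⟩, 15), (⟨-4, -2⟩, 16), (⟨4, -6⟩, 17), (⟨-4, -6⟩, 18), (⟨7, -3⟩, 19), (⟨5, -9⟩, 20), (⟨10, -4⟩, 21), (⟨14, -10⟩, 22), (⟨17, 3⟩, 23), (⟨16, -13⟩, 24), (⟨36, 1⟩, 25), (⟨30, -2⟩, 26), (⟨32, -10⟩, 27)],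
  [(⟨1, -1⟩, 0), (⟨-1, -1⟩, 1), (⟨2, 2⟩, 2), (⟨0, 2⟩, 3), (⟨-2, 1⟩, 4), (⟨-1, -2⟩, 5), (⟨-3, 2⟩, 6), (⟨-1, -1⟩, 7), (⟨0, 2⟩, 8), (⟨-1, 2⟩, 9), (⟨-4, 0⟩, 10), (⟨-2, -8⟩, 11), (⟨-2, -2⟩, 12), (⟨-2, -2⟩, 13), (⟨-4, -4⟩, 14), (⟨-3, -3⟩, 15), (⟨-4, 0⟩, 16), (⟨-5, -6⟩, 17), (⟨-6, 0⟩, 18), (⟨-1, -15⟩, 19), (⟨-2, -11⟩, 20), (⟨5, -15⟩, 21), (⟨2, -20⟩, 22), (⟨24, -15⟩, 23), (⟨0, -29⟩, 24), (⟨34, -35⟩, 25), (⟨32, -36⟩, 26), (⟨17, -43⟩, 27)],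
  [(⟨2, 0⟩, 0), (⟨-1, -1⟩, 1), (⟨1, -1⟩, 2), (⟨1, 1⟩, 3), (⟨1, -2⟩, 4), (⟨4, 0⟩, 5), (⟨3, -1⟩, 6), (⟨7, 4⟩, 7), (⟨1, -1⟩, 8), (⟨2, -2⟩, 9), (⟨8, 6⟩, 10), (⟨3, 17⟩, 11), (⟨6, 2⟩, 12), (⟨8, 2⟩, 13), (⟨4, 6⟩, 14), (⟨10, 14⟩, 15), (⟨6, 6⟩, 16), (⟨1, 23⟩, 17), (⟨6, 12⟩, 18), (⟨-17, 44⟩, 19), (⟨-4, 41⟩, 20), (⟨-41, 37⟩, 21), (⟨-30, 57⟩, 22), (⟨-90, 25⟩, 23), (⟨-39, 67⟩, 24), (⟨-136, 49⟩, 25), (⟨-114, 54⟩, 26), (⟨-89, 95⟩, 27)],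
  [],
  [],
  [],
  [],
  [],
  [(⟨2, 0⟩, 0), (⟨2, 2⟩, 1), (⟨1, 3⟩, 3), (⟨1, 0⟩, 4), (⟨0, 6⟩, 5), (⟨-1, 3⟩, 6), (⟨-5, 7⟩, 7), (⟨-1, 2⟩, 9), (⟨-7, 7⟩, 10), (⟨-16, 2⟩, 11), (⟨-4, 6⟩, 12), (⟨-6, 6⟩, 13), (⟨-8, 4⟩, 14), (⟨-18, 0⟩, 15), (⟨-9, 5⟩, 16), (⟨-19, -6⟩, 17), (⟨-14, 2⟩, 18), (⟨-34, -23⟩, 19), (⟨-37, -16⟩, 20), (⟨-22, -49⟩, 21), (⟨-42, -46⟩, 22), (⟨-3, -88⟩, 23), (⟨-50, -51⟩, 24), (⟨-5, -135⟩, 25), (⟨-21, -122⟩, 26), (⟨-60, -106⟩, 27)],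
  [(⟨2, 1⟩, 0), (⟨0, -1⟩, 1), (⟨1, 2⟩, 2), (⟨0, 4⟩, 3), (⟨-1, 1⟩, 4), (⟨-3, 3⟩, 5), (⟨-3, 3⟩, 6), (⟨-7, 3⟩, 7), (⟨-2, 1⟩, 8), (⟨-2, 2⟩, 9), (⟨-10, 2⟩, 10), (⟨-13, -9⟩, 11), (⟨-4, 0⟩, 12), (⟨-4, 2⟩, 13), (⟨-8, -2⟩, 14), (⟨-13, -5⟩, 15), (⟨-12, -2⟩, 16), (⟨-12, -13⟩, 17), (⟨-14, -6⟩, 18), (⟨-17, -34⟩, 19), (⟨-23, -29⟩, 20), (⟨5, -51⟩, 21), (⟨-14, -57⟩, 22), (⟨42, -72⟩, 23), (⟨-14, -69⟩, 24), (⟨63, -111⟩, 25), (⟨47, -106⟩, 26), (⟨5, -117⟩, 27)],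
  [],
  [],
  [],
  [],
  [],
  [],
  [(⟨0, 1⟩, 0), (⟨1, 0⟩, 1), (⟨0, 1⟩, 2), (⟨0, 2⟩, 3), (⟨1, -1⟩, 4), (⟨0, 3⟩, 5), (⟨-1, 2⟩, 6), (⟨-4, 4⟩, 7), (⟨0, 1⟩, 8), (⟨-2, 2⟩, 9), (⟨-6, 4⟩, 10), (⟨-11, -1⟩, 11), (⟨-2, 4⟩, 12), (⟨-2, 4⟩, 13), (⟨-6, 2⟩, 14), (⟨-13, 1⟩, 15), (⟨-8, 2⟩, 16), (⟨-13, -8⟩, 17), (⟨-12, 0⟩, 18), (⟨-22, -20⟩, 19), (⟨-25, -15⟩, 20), (⟨-13, -39⟩, 21), (⟨-28, -39⟩, 22), (⟨10, -67⟩, 23), (⟨-27, -45⟩, 24), (⟨15, -99⟩, 25), (⟨1, -88⟩, 26), (⟨-30, -84⟩, 27)],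
  [],
  [],
  [],
  [],
  [],
  [],
  []]
/-- Test vectors for single blocks. -/
def gBL : List RuVec := [
  ruOfArray ![![⟨-1, 1⟩, ⟨0, 0⟩, ⟨0, 0⟩, ⟨0, 0⟩], ![⟨0, 0⟩, ⟨-2, 1⟩, ⟨-1, 0⟩, ⟨-2, 0⟩], ![⟨0, 0⟩, ⟨0, 0⟩, ⟨1, 0⟩, ⟨-2, 1⟩], ![⟨1, 1⟩, ⟨0, 0⟩, ⟨0, -1⟩, ⟨1, 0⟩], ![⟨0, -1⟩, ⟨-1, -1⟩, ⟨-2, -1⟩, ⟨1, 1⟩], ![⟨-2, 1⟩, ⟨0, 0⟩, ⟨-1, -1⟩, ⟨0, 1⟩], ![⟨-1, 1⟩, ⟨0, -1⟩, ⟨0, -2⟩, ⟨-1, 0⟩]],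
  ruOfArray ![![⟨1, 1⟩, ⟨1, -2⟩, ⟨1, 1⟩, ⟨1, 0⟩], ![⟨1, -1⟩, ⟨0, 0⟩, ⟨0, 0⟩, ⟨0, 0⟩], ![⟨0, 0⟩, ⟨1, -2⟩, ⟨0, -1⟩, ⟨-2, 0⟩], ![⟨-1, -2⟩, ⟨-2, -1⟩, ⟨0, -2⟩, ⟨-1, 1⟩], ![⟨1, -1⟩, ⟨0, 0⟩, ⟨1, 0⟩, ⟨-2, -1⟩], ![⟨0, 1⟩, ⟨1, 1⟩, ⟨-1, -2⟩, ⟨-2, -2⟩], ![⟨1, 1⟩, ⟨-2, -1⟩, ⟨0, 1⟩, ⟨-1, -1⟩]],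
  ruOfArray ![![⟨-1, 1⟩, ⟨0, -1⟩, ⟨1, 0⟩, ⟨-2, 0⟩], ![⟨0, 0⟩, ⟨0, -1⟩, ⟨-2, -2⟩, ⟨-2, -1⟩], ![⟨1, 1⟩, ⟨0, 0⟩, ⟨0, 0⟩, ⟨0, 0⟩], ![⟨0, 1⟩, ⟨0, -2⟩, ⟨1, 1⟩, ⟨-1, 0⟩], ![⟨1, 0⟩, ⟨0, -1⟩, ⟨0, 0⟩, ⟨1, -1⟩], ![⟨0, 0⟩, ⟨0, 0⟩, ⟨1, 0⟩, ⟨-1, -2⟩], ![⟨0, 0⟩, ⟨-1, 0⟩, ⟨0, -2⟩, ⟨0, 1⟩]],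
  ruOfArray ![![⟨1, -2⟩, ⟨1, -1⟩, ⟨0, -1⟩, ⟨0, 0⟩], ![⟨0, 0⟩, ⟨0, 1⟩, ⟨-2, -1⟩, ⟨0, -2⟩], ![⟨0, 0⟩, ⟨-2, 1⟩, ⟨-1, -1⟩, ⟨1, -2⟩], ![⟨1, -1⟩, ⟨0, 0⟩, ⟨0, 0⟩, ⟨0, 0⟩], ![⟨0, -2⟩, ⟨0, 1⟩, ⟨-2, -1⟩, ⟨-1, -1⟩], ![⟨0, 0⟩, ⟨0, -2⟩, ⟨0, 1⟩, ⟨-1, 0⟩], ![⟨-2, 1⟩, ⟨-1, -2⟩, ⟨-1, 1⟩, ⟨1, 1⟩]],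
  ruOfArray ![![⟨0, -2⟩, ⟨0, 0⟩, ⟨1, -2⟩, ⟨1, 0⟩], ![⟨1, 0⟩, ⟨1, 1⟩, ⟨-2, 1⟩, ⟨0, 0⟩], ![⟨0, 0⟩, ⟨-2, 1⟩, ⟨-2, -1⟩, ⟨0, 0⟩], ![⟨-2, 0⟩, ⟨1, 0⟩, ⟨-1, -1⟩, ⟨0, 1⟩], ![⟨1, 1⟩, ⟨0, 0⟩, ⟨0, 0⟩, ⟨0, 0⟩], ![⟨-2, -1⟩, ⟨-2, 0⟩, ⟨-1, 1⟩, ⟨-1, 0⟩], ![⟨0, -2⟩, ⟨0, 0⟩, ⟨1, 0⟩, ⟨0, -1⟩]],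
  ruOfArray ![![⟨1, 1⟩, ⟨1, -1⟩, ⟨1, 0⟩, ⟨-2, -1⟩], ![⟨1, 1⟩, ⟨0, 0⟩, ⟨0, -1⟩, ⟨-1, 0⟩], ![⟨0, 0⟩, ⟨1, -2⟩, ⟨-2, -2⟩, ⟨-2, 1⟩], ![⟨0, -2⟩, ⟨-1, -2⟩, ⟨0, -1⟩, ⟨1, -1⟩], ![⟨1, -1⟩, ⟨-1, 0⟩, ⟨0, -2⟩, ⟨-2, 1⟩], ![⟨1, -1⟩, ⟨0, 0⟩, ⟨0, 0⟩, ⟨0, 0⟩], ![⟨1, -1⟩, ⟨1, 0⟩, ⟨0, -1⟩, ⟨1, -1⟩]],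
  ruOfArray ![![⟨-1, 1⟩, ⟨0, 1⟩, ⟨-1, 0⟩, ⟨-1, -1⟩], ![⟨1, -2⟩, ⟨1, 0⟩, ⟨1, -1⟩, ⟨1, 1⟩], ![⟨0, 0⟩, ⟨-1, -1⟩, ⟨0, 1⟩, ⟨1, -2⟩], ![⟨-2, 1⟩, ⟨1, 1⟩, ⟨0, -1⟩, ⟨-1, 1⟩], ![⟨1, -2⟩, ⟨1, 1⟩, ⟨0, -2⟩, ⟨-1, -2⟩], ![⟨-2, 1⟩, ⟨0, 0⟩, ⟨-2, -1⟩, ⟨-1, 1⟩], ![⟨1, 1⟩, ⟨0, 0⟩, ⟨0, 0⟩, ⟨0, 0⟩]]]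
/-- Coefficients of the block test vectors. -/
def cBL : List (List (GaussianInt × Fin 28)) := [
  [(⟨1, -1⟩, 0), (⟨1, 0⟩, 3), (⟨2, 0⟩, 7), (⟨3, 1⟩, 10), (⟨2, 4⟩, 11), (⟨1, 1⟩, 15), (⟨1, 1⟩, 16), (⟨2, 4⟩, 17), (⟨2, 2⟩, 18), (⟨0, 10⟩, 19), (⟨2, 6⟩, 20), (⟨-5, 8⟩, 21), (⟨1, 11⟩, 22), (⟨-13, 11⟩, 23), (⟨-3, 15⟩, 24), (⟨-20, 17⟩, 25), (⟨-17, 14⟩, 26), (⟨-9, 21⟩, 27)],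
  [(⟨-1, -1⟩, 0), (⟨-1, 2⟩, 1), (⟨-1, -1⟩, 2), (⟨-1, -2⟩, 3), (⟨1, -1⟩, 4), (⟨0, -2⟩, 5), (⟨0, -2⟩, 6), (⟨2, -4⟩, 7), (⟨-2, -2⟩, 9), (⟨3, -5⟩, 10), (⟨9, -3⟩, 11), (⟨2, -2⟩, 12), (⟨2, -4⟩, 13), (⟨4, -2⟩, 14), (⟨10, -6⟩, 15), (⟨3, -5⟩, 16), (⟨15, -2⟩, 17), (⟨6, -6⟩, 18), (⟨25, 9⟩, 19), (⟨26, 0⟩, 20), (⟨25, 24⟩, 21), (⟨38, 15⟩, 22), (⟨22, 54⟩, 23), (⟨47, 22⟩, 24), (⟨37, 85⟩, 25), (⟨40, 74⟩, 26), (⟨65, 54⟩, 27)],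
  [(⟨1, -1⟩, 0), (⟨0, 1⟩, 1), (⟨-1, 0⟩, 2), (⟨-1, 1⟩, 3), (⟨-2, -2⟩, 6), (⟨0, -2⟩, 7), (⟨1, -1⟩, 8), (⟨1, -3⟩, 10), (⟨4, -2⟩, 11), (⟨0, -2⟩, 12), (⟨0, -2⟩, 13), (⟨2, -2⟩, 14), (⟨4, -4⟩, 15), (⟨1, -1⟩, 16), (⟨4, -1⟩, 17), (⟨2, -2⟩, 18), (⟨12, 2⟩, 19), (⟨10, -1⟩, 20), (⟨11, 10⟩, 21), (⟨16, 4⟩, 22), (⟨8, 21⟩, 23), (⟨16, 6⟩, 24), (⟨15, 31⟩, 25), (⟨19, 24⟩, 26), (⟨28, 17⟩, 27)],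
  [(⟨-1, 2⟩, 0), (⟨-1, 1⟩, 1), (⟨0, 1⟩, 2), (⟨-3, 1⟩, 3), (⟨-5, 0⟩, 5), (⟨-4, -2⟩, 6), (⟨-6, -4⟩, 7), (⟨-2, 2⟩, 9), (⟨-7, -7⟩, 10), (⟨-3, -17⟩, 11), (⟨-6, -4⟩, 12), (⟨-6, -6⟩, 13), (⟨-4, -8⟩, 14), (⟨-4, -16⟩, 15), (⟨-7, -7⟩, 16), (⟨2, -23⟩, 17), (⟨-4, -12⟩, 18), (⟨23, -39⟩, 19), (⟨11, -39⟩, 20), (⟨44, -29⟩, 21), (⟨37, -50⟩, 22), (⟨88, -17⟩, 23), (⟨47, -63⟩, 24), (⟨141, -27⟩, 25), (⟨127, -40⟩, 26), (⟨102, -79⟩, 27)],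
  [(⟨0, 2⟩, 0), (⟨-1, 2⟩, 2), (⟨-2, 1⟩, 3), (⟨1, 0⟩, 4), (⟨-2, 2⟩, 5), (⟨-4, 0⟩, 6), (⟨-6, 0⟩, 7), (⟨-2, 2⟩, 9), (⟨-9, -3⟩, 10), (⟨-7, -11⟩, 11), (⟨-4, -2⟩, 12), (⟨-4, 0⟩, 13), (⟨-4, -6⟩, 14), (⟨-9, -9⟩, 15), (⟨-5, -3⟩, 16), (⟨-7, -17⟩, 17), (⟨-8, -6⟩, 18), (⟨2, -35⟩, 19), (⟨-6, -29⟩, 20), (⟨20, -37⟩, 21), (⟨9, -48⟩, 22), (⟨58, -40⟩, 23), (⟨13, -57⟩, 24), (⟨85, -64⟩, 25), (⟨74, -66⟩, 26), (⟨43, -87⟩, 27)],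
  [(⟨-1, -1⟩, 0), (⟨-1, 1⟩, 1), (⟨-1, 0⟩, 2), (⟨-3, -1⟩, 3), (⟨1, 1⟩, 4), (⟨-2, -2⟩, 5), (⟨-2, -2⟩, 6), (⟨-2, -6⟩, 7), (⟨-2, -2⟩, 9), (⟨-2, -8⟩, 10), (⟨7, -11⟩, 11), (⟨0, -4⟩, 12), (⟨0, -4⟩, 13), (⟨2, -6⟩, 14), (⟨8, -10⟩, 15), (⟨0, -8⟩, 16), (⟨13, -9⟩, 17), (⟨4, -10⟩, 18), (⟨28, -8⟩, 19), (⟨26, -13⟩, 20), (⟨38, 10⟩, 21), (⟨46, -7⟩, 22), (⟨55, 40⟩, 23), (⟨57, -5⟩, 24), (⟨81, 62⟩, 25), (⟨81, 49⟩, 26), (⟨94, 15⟩, 27)],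
  [(⟨1, -1⟩, 0), (⟨0, -1⟩, 1), (⟨1, 0⟩, 2), (⟨1, 0⟩, 3), (⟨1, -2⟩, 4), (⟨4, 0⟩, 5), (⟨4, 0⟩, 6), (⟨6, 4⟩, 7), (⟨7, 7⟩, 10), (⟨2, 14⟩, 11), (⟨6, 2⟩, 12), (⟨8, 4⟩, 13), (⟨4, 6⟩, 14), (⟨6, 14⟩, 15), (⟨3, 3⟩, 16), (⟨1, 18⟩, 17), (⟨4, 10⟩, 18), (⟨-18, 38⟩, 19), (⟨-5, 34⟩, 20), (⟨-38, 29⟩, 21), (⟨-28, 44⟩, 22), (⟨-73, 16⟩, 23), (⟨-31, 53⟩, 24), (⟨-115, 38⟩, 25), (⟨-97, 46⟩, 26), (⟨-75, 75⟩, 27)]]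
/-- For each position a basis vector with odd entry there. -/
def kOddL : List ℕ := [0, 1, 2, 0, 4, 0, 1, 0, 8, 1, 3, 1, 0, 1, 1, 0, 1, 2, 0, 0, 0, 0, 1, 1, 0, 2, 0, 1]
/-- For each pair of positions a basis vector whose entries there have different parity (index `28 * p + q`). -/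
def kDiffL : List ℕ := [0, 0, 0, 1, 0, 1, 0, 2, 0, 0, 0, 0, 1, 0, 0, 1, 0, 0, 3, 1, 3, 5, 0, 0, 8, 0, 1, 0, 0, 0, 1, 0, 1, 0, 2, 0, 1, 2, 1, 2, 0, 2, 2, 0, 3, 1, 0, 0, 0, 0, 5, 3, 0, 1, 0, 3, 0, 1, 0, 0, 2, 0, 1, 0, 2, 1, 2, 1, 0, 1, 1, 0, 1, 4, 0, 0, 0, 0, 1, 1, 0, 3, 0, 1, 1, 0, 0, 0, 0, 2, 0, 1, 0, 0, 0, 0, 2, 0, 0, 2, 0, 0, 1, 4, 1, 1, 0, 0, 1, 0, 8, 0, 0, 1, 2, 0, 0, 0, 1, 0, 4, 1, 3, 1, 0, 1, 1, 0, 1, 2, 0, 0, 0, 0, 1, 1, 0, 2, 0, 1, 1, 0, 0, 2, 0, 0, 0, 1, 0, 0, 0, 0, 3, 0, 0, 4, 0, 0, 1, 2, 1, 1, 0, 0, 1, 0, 2, 0, 0, 2,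 1, 0, 1, 0, 0, 0, 1, 3, 1, 4, 0, 3, 4, 0, 2, 1, 0, 0, 0, 0, 2, 2, 0, 1, 0, 2, 2, 0, 0, 1, 0, 1, 0, 0, 0, 0, 0, 0, 1, 0, 0, 1, 0, 0, 2, 1, 2, 2, 0, 0, 2, 0, 1, 0, 0, 1, 2, 0, 4, 0, 1, 0, 0, 1, 3, 1, 0, 1, 1, 0, 1, 2, 0, 0, 0, 0, 1, 1, 0, 2, 0, 1, 0, 2, 1, 0, 1, 0, 3, 0, 1, 0, 1, 3, 0, 5, 3, 0, 2, 1, 0, 0, 0, 0, 2, 2, 0, 1, 0, 2, 0, 1, 2, 0, 3, 0, 1, 0, 3, 1, 0, 1, 0, 1, 1, 0, 1, 2, 0, 0, 0, 0, 1, 1, 0, 2, 0, 1, 0, 2, 1, 0, 1, 0, 4, 0, 1, 3, 1, 0, 0, 3, 5, 0, 2, 1, 0, 0, 0, 0, 2, 2, 0, 1, 0, 2, 1, 0, 0, 2, 0, 3, 0, 1, 0, 0, 0, 0,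 0, 0, 0, 3, 0, 0, 1, 2, 1, 1, 0, 0, 1, 0, 2, 0, 0, 2, 1, 0, 1, 0, 3, 0, 1, 5, 1, 3, 0, 0, 3, 0, 2, 1, 0, 0, 0, 0, 2, 2, 0, 1, 0, 2, 0, 2, 1, 0, 1, 0, 4, 0, 1, 3, 1, 5, 0, 3, 0, 0, 2, 1, 0, 0, 0, 0, 2, 2, 0, 1, 0, 2, 1, 0, 0, 2, 0, 4, 0, 1, 0, 0, 0, 0, 3, 0, 0, 0, 0, 0, 1, 2, 1, 1, 0, 0, 1, 0, 2, 0, 0, 3, 1, 0, 1, 0, 2, 0, 1, 2, 1, 2, 0, 2, 2, 0, 0, 1, 0, 0, 0, 0, 3, 4, 0, 1, 0, 4, 0, 1, 4, 0, 2, 0, 1, 0, 2, 1, 2, 1, 0, 1, 1, 0, 1, 0, 0, 0, 0, 0, 1, 1, 0, 3, 0, 1, 3, 0, 0, 1, 0, 1, 0, 2, 0, 0, 0, 0, 1, 0, 0, 1, 0, 0, 0, 1, 4, 3,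 0, 0, 3, 0, 1, 0, 1, 0, 0, 4, 0, 2, 0, 1, 0, 0, 0, 0, 2, 0, 0, 2, 0, 0, 1, 0, 1, 1, 0, 0, 1, 0, 4, 0, 3, 0, 0, 1, 0, 1, 0, 2, 0, 0, 0, 0, 1, 0, 0, 1, 0, 0, 4, 1, 0, 3, 0, 0, 3, 0, 1, 0, 5, 0, 0, 1, 0, 1, 0, 2, 0, 0, 0, 0, 1, 0, 0, 1, 0, 0, 3, 1, 3, 0, 0, 0, 5, 0, 1, 0, 0, 5, 1, 0, 1, 0, 2, 0, 1, 2, 1, 2, 0, 2, 2, 0, 3, 1, 0, 0, 0, 0, 0, 3, 0, 1, 0, 3, 0, 3, 1, 0, 1, 0, 2, 0, 1, 2, 1, 2, 0, 2, 2, 0, 4, 1, 0, 0, 0, 0, 3, 0, 0, 1, 0, 5, 8, 0, 0, 1, 0, 1, 0, 2, 0, 0, 0, 0, 1, 0, 0, 1, 0, 0, 3, 1, 3, 5, 0, 0, 0, 0, 1, 0, 0, 1, 3, 0,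 2, 0, 1, 0, 2, 1, 2, 1, 0, 1, 1, 0, 1, 3, 0, 0, 0, 0, 1, 1, 0, 0, 0, 1, 1, 0, 0, 8, 0, 2, 0, 1, 0, 0, 0, 0, 2, 0, 0, 2, 0, 0, 1, 4, 1, 1, 0, 0, 1, 0, 0, 0, 0, 3, 1, 0, 1, 0, 2, 0, 1, 2, 1, 2, 0, 2, 2, 0, 4, 1, 0, 0, 0, 0, 3, 5, 0, 1, 0, 0]

/-- Position number of an index. -/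
def idx (p : RuIdx) : ℕ := 4 * p.1.1 + p.2.1

def info1 (i : Fin 9) : RuIdx := info1L.getD i.1 (0, 0)
def info2 (i : Fin 10) : RuIdx := info2L.getD i.1 (0, 0)
def G1 (i : Fin 9) (p : RuIdx) : ZMod 2 := if (g1L.getD i.1 0).testBit (idx p) then 1 else 0
def G2 (i : Fin 10) (p : RuIdx) : ZMod 2 := if (g2L.getD i.1 0).testBit (idx p) then 1 else 0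
def y0 (q : RuIdx) : RuVec := y0L.getD (idx q) 0
def y1 (q : RuIdx) : RuVec := y1L.getD (idx q) 0
def gA (n1 n2 : Fin 7) : RuVec := gAL.getD (7 * n1.1 + n2.1) 0
def gB (n : Fin 7) : RuVec := gBL.getD n.1 0
def kOdd (p : RuIdx) : Fin 28 := ⟨kOddL.getD (idx p) 0 % 28, Nat.mod_lt _ (by norm_num)⟩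
def kDiff (p q : RuIdx) : Fin 28 :=
  ⟨kDiffL.getD (28 * idx p + idx q) 0 % 28, Nat.mod_lt _ (by norm_num)⟩

def word1 (s : Fin 9 → ZMod 2) : RuIdx → ZMod 2 := fun p => ∑ i, s i * G1 i p
def word2 (s : Fin 10 → ZMod 2) : RuIdx → ZMod 2 := fun p => ∑ i, s i * G2 i p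

theorem hG1 : ∀ i j : Fin 9, G1 i (info1 j) = if i = j then 1 else 0 := by decide +kernel
theorem hG2 : ∀ i j : Fin 10, G2 i (info2 j) = if i = j then 1 else 0 := by decide +kernel

theorem y0_mem : ∀ q : RuIdx, (∀ i, q ≠ info1 i) →
    (⟨-2, 2⟩ : GaussianInt) • y0 q = comb (cY0.getD (idx q) []) := by decide +kernel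

theorem y0_par : ∀ q : RuIdx, (∀ i, q ≠ info1 i) → ∀ p : RuIdx,
    par (y0 q p) = (if p = q then 1 else 0) + ∑ i, (if p = info1 i then G1 i q else 0) := by
  decide +kernel

theorem y1_mem : ∀ q : RuIdx, (∀ i, q ≠ info2 i) →
    (⟨0, 2⟩ : GaussianInt) • y1 q = comb (cY1.getD (idx q) []) := by decide +kernel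

theorem y1_par : ∀ q : RuIdx, (∀ i, q ≠ info2 i) → ∀ p : RuIdx,
    par (y1 q p) = (if p = q then 1 else 0) + ∑ i, (if p = info2 i then G2 i q else 0) := by
  decide +kernel

theorem dec1 : ∀ s : Fin 9 → ZMod 2,
    (Finset.univ.filter (fun p => word1 s p = 1)).card ≤ 8 →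
    (∀ p, word1 s p = 0) ∨ ∃ n1 n2 : Fin 7, n1 < n2 ∧
      ∀ p : RuIdx, word1 s p = if p.1 = n1 ∨ p.1 = n2 then 1 else 0 := by decide +kernel

theorem dec2 : ∀ s : Fin 10 → ZMod 2,
    (Finset.univ.filter (fun p => word2 s p = 1)).card ≤ 4 →
    (∀ p, word2 s p = 0) ∨ ∃ n : Fin 7,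
      ∀ p : RuIdx, word2 s p = if p.1 = n then 1 else 0 := by decide +kernel

theorem gA_spec : ∀ n1 n2 : Fin 7, n1 < n2 →
    gA n1 n2 = comb (cAL.getD (7 * n1.1 + n2.1) []) ∧ (gA n1 n2 (n1, 0)).norm = 4 ∧
      ∀ p : RuIdx, (p.1 = n1 ∨ p.1 = n2) → p ≠ (n1, 0) → gA n1 n2 p = 0 := by decide +kernel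

theorem gB_spec : ∀ n : Fin 7,
    gB n = comb (cBL.getD n.1 []) ∧ (gB n (n, 0)).norm = 2 ∧
      ∀ p : RuIdx, p.1 = n → p ≠ (n, 0) → gB n p = 0 := by decide +kernel

theorem kOdd_spec : ∀ p : RuIdx, (rB (kOdd p) p).norm % 2 = 1 := by decide +kernel

theorem kDiff_spec : ∀ p q : RuIdx, p ≠ q →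
    par (rB (kDiff p q) p) ≠ par (rB (kDiff p q) q) := by decide +kernel

theorem card_pair : ∀ n1 n2 : Fin 7, n1 < n2 →
    (Finset.univ.filter (fun p : RuIdx => p.1 = n1 ∨ p.1 = n2)).card = 8 := by decide +kernel

theorem card_block : ∀ n : Fin 7,
    (Finset.univ.filter (fun p : RuIdx => p.1 = n)).card = 4 := by decide +kernel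

end Cfsg.Agent.Lib.Helper26_Ru
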