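import Mathlib
import Cfsg.Prelude.Def_Spor_Ru
import Cfsg.Agent.Lib.Helper26_RuMinData

/-!
The scaled Conway–Wales lattice has no vector of (stored) norm `8`: reduction modulo `1 + i`
through two layer codes (parity stages), then single-coordinate test vectors.
-/

set_option autoImplicit false
set_option maxRecDepth 100000
open Cfsg Cfsg.Spor

namespace Cfsg.Agent.Lib.Helper26_Ru

theorem dual {x : RuVec} (hx : x ∈ ruLattice) {g : RuVec} (hg : g ∈ Slat) :
    (4 : GaussianInt) ∣ herm x g :=
  herm_dvd x (ruLattice_le x hx) g hg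

/-- First parity stage: the parity pattern of a lattice vector of norm `8` is zero or the indicator
of two blocks. -/
theorem stage0 {x : RuVec} (hx : x ∈ ruLattice) (hn : ruNorm x = 8) :
    (∀ p, par (x p) = 0) ∨ ∃ n1 n2 : Fin 7, n1 < n2 ∧
      ∀ p : RuIdx, par (x p) = if p.1 = n1 ∨ p.1 = n2 then 1 else 0 := by
  have hsys : (fun p => par (x p)) =
      fun p => ∑ i, (fun p => par (x p)) (info1 i) * G1 i p := by
    apply sys_eq info1 G1 hG1
    intro q hq
    have hmem : (⟨-2, 2⟩ : GaussianInt) • y0 q ∈ Slat := by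
      rw [y0_mem q hq]
      exact comb_mem _
    have hd := dual hx hmem
    have hpar := parity 1 ⟨-2, 2⟩ (by left; decide) x (y0 q) (by rwa [one_smul])
    have h2 : ∑ p, (fun p => par (x p)) p *
        ((if p = q then 1 else 0) + ∑ i, (if p = info1 i then G1 i q else 0)) = 0 := by
      rw [show (∑ p, (fun p => par (x p)) p *
          ((if p = q then 1 else 0) + ∑ i, (if p = info1 i then G1 i q else 0))) =
          ∑ p, par (x p) * par (y0 q p) from
        Finset.sum_congr rfl fun p _ => by rw [y0_par q hq p]]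
      exact hpar
    rw [par_sum_eq] at h2
    exact CharTwo.add_eq_zero.1 h2
  have heq : word1 (fun i => par (x (info1 i))) = fun p => par (x p) := hsys.symm
  have hw : (Finset.univ.filter
      (fun p => word1 (fun i => par (x (info1 i))) p = 1)).card ≤ 8 := by
    have h := card_odd_le x
    rw [hn] at h
    rw [heq]
    exact_mod_cast h
  rcases dec1 _ hw with h | ⟨n1, n2, hlt, h⟩
  · left
    intro p
    have := h p
    rwa [heq] at this
  · right
    refine ⟨n1, n2, hlt, fun p => ?_⟩
    have := h p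
    rwa [heq] at this

/-- Second parity stage. -/
theorem stage1 {x1 : RuVec} (hx : (⟨1, 1⟩ : GaussianInt) • x1 ∈ ruLattice) (hn : ruNorm x1 = 4) :
    (∀ p, par (x1 p) = 0) ∨ ∃ n : Fin 7,
      ∀ p : RuIdx, par (x1 p) = if p.1 = n then 1 else 0 := by
  have hsys : (fun p => par (x1 p)) =
      fun p => ∑ i, (fun p => par (x1 p)) (info2 i) * G2 i p := by
    apply sys_eq info2 G2 hG2
    intro q hq
    have hmem : (⟨0, 2⟩ : GaussianInt) • y1 q ∈ Slat := by
      rw [y1_mem q hq]
      exact comb_mem _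
    have hd := dual hx hmem
    have hpar := parity ⟨1, 1⟩ ⟨0, 2⟩ (by left; decide) x1 (y1 q) hd
    have h2 : ∑ p, (fun p => par (x1 p)) p *
        ((if p = q then 1 else 0) + ∑ i, (if p = info2 i then G2 i q else 0)) = 0 := by
      rw [show (∑ p, (fun p => par (x1 p)) p *
          ((if p = q then 1 else 0) + ∑ i, (if p = info2 i then G2 i q else 0))) =
          ∑ p, par (x1 p) * par (y1 q p) from
        Finset.sum_congr rfl fun p _ => by rw [y1_par q hq p]]
      exact hpar
    rw [par_sum_eq] at h2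
    exact CharTwo.add_eq_zero.1 h2
  have heq : word2 (fun i => par (x1 (info2 i))) = fun p => par (x1 p) := hsys.symm
  have hw : (Finset.univ.filter
      (fun p => word2 (fun i => par (x1 (info2 i))) p = 1)).card ≤ 4 := by
    have h := card_odd_le x1
    rw [hn] at h
    rw [heq]
    exact_mod_cast h
  rcases dec2 _ hw with h | ⟨n, h⟩
  · left
    intro p
    have := h p
    rwa [heq] at this
  · right
    refine ⟨n, fun p => ?_⟩
    have := h p
    rwa [heq] at this

/-- Units on two blocks, zero elsewhere: not in the lattice. -/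
theorem caseA {x : RuVec} (hx : x ∈ ruLattice) (hn : ruNorm x = 8) (n1 n2 : Fin 7) (hlt : n1 < n2)
    (hp : ∀ p : RuIdx, par (x p) = if p.1 = n1 ∨ p.1 = n2 then 1 else 0) : False := by
  have ht := tight x (fun p => p.1 = n1 ∨ p.1 = n2) 8 hp (card_pair n1 n2 hlt) (by rw [hn]; rfl)
  obtain ⟨hg, hg0, hgz⟩ := gA_spec n1 n2 hlt
  have hmem : gA n1 n2 ∈ Slat := by
    rw [hg]
    exact comb_mem _
  have hd := dual hx hmem
  have hk := single_kill x (gA n1 n2) (n1, 0) (fun p hp0 => by
    by_cases hT : p.1 = n1 ∨ p.1 = n2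
    · right
      exact hgz p hT hp0
    · left
      have := ht p
      rw [if_neg hT] at this
      exact (gnorm_eq_zero _).1 this) hd
  have h1 := ht (n1, 0)
  rw [if_pos (Or.inl rfl)] at h1
  rw [h1, hg0] at hk
  omega

/-- `1 + i` times units on one block, zero elsewhere: not in the lattice. -/
theorem caseB {x1 : RuVec} (hx : (⟨1, 1⟩ : GaussianInt) • x1 ∈ ruLattice) (hn : ruNorm x1 = 4)
    (n : Fin 7) (hp : ∀ p : RuIdx, par (x1 p) = if p.1 = n then 1 else 0) : False := by
  have ht := tight x1 (fun p => p.1 = n) 4 hp (card_block n) (by rw [hn]; rfl)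
  obtain ⟨hg, hg0, hgz⟩ := gB_spec n
  have hmem : gB n ∈ Slat := by
    rw [hg]
    exact comb_mem _
  have hd := dual hx hmem
  have hk := single_kill ((⟨1, 1⟩ : GaussianInt) • x1) (gB n) (n, 0) (fun p hp0 => by
    by_cases hT : p.1 = n
    · right
      exact hgz p hT hp0
    · left
      have := ht p
      rw [if_neg hT] at this
      rw [Pi.smul_apply, (gnorm_eq_zero _).1 this, smul_zero]) hd
  have h1 := ht (n, 0)
  rw [if_pos rfl] at h1
  rw [Pi.smul_apply, smul_eq_mul, Zsqrtd.norm_mul, h1, hg0] at hk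
  have h11 : (⟨1, 1⟩ : GaussianInt).norm = 2 := by decide
  rw [h11] at hk
  omega

/-- The structure of a vector of norm `2`. -/
theorem norm_two {x2 : RuVec} (hn : ruNorm x2 = 2) :
    (∃ p, (x2 p).norm = 2 ∧ ∀ r, r ≠ p → x2 r = 0) ∨
    ∃ p q, p ≠ q ∧ (x2 p).norm = 1 ∧ (x2 q).norm = 1 ∧ ∀ r, r ≠ p → r ≠ q → x2 r = 0 := by
  have hnn : ∀ r, 0 ≤ (x2 r).norm := fun r => gnorm_nonneg _
  unfold ruNorm at hn
  have hex : ∃ p, (x2 p).norm ≠ 0 := by
    by_contra h
    push Not at h
    rw [Finset.sum_eq_zero (fun r _ => h r)] at hn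
    omega
  obtain ⟨p, hp⟩ := hex
  have hsplit := Finset.add_sum_erase Finset.univ (fun r => (x2 r).norm) (Finset.mem_univ p)
  have hrest : 0 ≤ ∑ r ∈ Finset.univ.erase p, (x2 r).norm :=
    Finset.sum_nonneg fun r _ => hnn r
  have hp0 := hnn p
  have hcases : (x2 p).norm = 2 ∨ (x2 p).norm = 1 := by
    omega
  rcases hcases with h2 | h1
  · left
    refine ⟨p, h2, fun r hr => ?_⟩
    have hz : ∑ r ∈ Finset.univ.erase p, (x2 r).norm = 0 := by
        omega
    have := (Finset.sum_eq_zero_iff_of_nonneg (fun r _ => hnn r)).1 hz r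
      (Finset.mem_erase.2 ⟨hr, Finset.mem_univ r⟩)
    exact (gnorm_eq_zero _).1 this
  · right
    have hone : ∑ r ∈ Finset.univ.erase p, (x2 r).norm = 1 := by
        omega
    have hex2 : ∃ q ∈ Finset.univ.erase p, (x2 q).norm ≠ 0 := by
      by_contra h
      push Not at h
      rw [Finset.sum_eq_zero h] at hone
      omega
    obtain ⟨q, hqm, hq⟩ := hex2
    have hqp : q ≠ p := (Finset.mem_erase.1 hqm).1
    have hsplit2 := Finset.add_sum_erase (Finset.univ.erase p) (fun r => (x2 r).norm) hqm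
    have hrest2 : 0 ≤ ∑ r ∈ (Finset.univ.erase p).erase q, (x2 r).norm :=
      Finset.sum_nonneg fun r _ => hnn r
    have hq0 := hnn q
    have hq1 : (x2 q).norm = 1 := by omega
    have hz : ∑ r ∈ (Finset.univ.erase p).erase q, (x2 r).norm = 0 := by omega
    refine ⟨p, q, hqp.symm, h1, hq1, fun r hrp hrq => ?_⟩
    have := (Finset.sum_eq_zero_iff_of_nonneg (fun r _ => hnn r)).1 hz r
      (Finset.mem_erase.2 ⟨hrq, Finset.mem_erase.2 ⟨hrp, Finset.mem_univ r⟩⟩)
    exact (gnorm_eq_zero _).1 this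

/-- `2i` times a vector of norm `2`: not in the lattice. -/
theorem caseC {x2 : RuVec} (hx : (⟨0, 2⟩ : GaussianInt) • x2 ∈ ruLattice) (hn : ruNorm x2 = 2) :
    False := by
  rcases norm_two hn with ⟨p, hp2, hz⟩ | ⟨p, q, hpq, hp1, hq1, hz⟩
  · have hd := dual hx (rB_mem (kOdd p))
    have hk := single_kill ((⟨0, 2⟩ : GaussianInt) • x2) (rB (kOdd p)) p (fun r hr => by
      left
      rw [Pi.smul_apply, hz r hr, smul_zero]) hd
    rw [Pi.smul_apply, smul_eq_mul, Zsqrtd.norm_mul, hp2] at hk
    have h02 : (⟨0, 2⟩ : GaussianInt).norm = 4 := by decide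
    rw [h02] at hk
    have hodd := kOdd_spec p
    omega
  · have hd := dual hx (rB_mem (kDiff p q))
    have hpar := parity ⟨0, 2⟩ 1 (by right; decide) x2 (rB (kDiff p q)) (by rwa [one_smul])
    have hsum : ∑ r, par (x2 r) * par (rB (kDiff p q) r) =
        par (rB (kDiff p q) p) + par (rB (kDiff p q) q) := by
      rw [← Finset.add_sum_erase Finset.univ _ (Finset.mem_univ p),
        ← Finset.add_sum_erase (Finset.univ.erase p) _
          (Finset.mem_erase.2 ⟨hpq.symm, Finset.mem_univ q⟩),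
        par_of_norm_one hp1, par_of_norm_one hq1, one_mul, one_mul, Finset.sum_eq_zero, add_zero]
      intro r hr
      have hrq : r ≠ q := (Finset.mem_erase.1 hr).1
      have hrp : r ≠ p := (Finset.mem_erase.1 (Finset.mem_erase.1 hr).2).1
      rw [hz r hrp hrq, map_zero, zero_mul]
    rw [hsum] at hpar
    exact kDiff_spec p q hpq (CharTwo.add_eq_zero.1 hpar)

/-- No lattice vector has norm `8`. -/
theorem norm_ne_eight {x : RuVec} (hx : x ∈ ruLattice) : ruNorm x ≠ 8 := by
  intro hn
  rcases stage0 hx hn with h0 | ⟨n1, n2, hlt, hp⟩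
  · obtain ⟨x1, rfl, hn1⟩ := exists_div_vec h0
    have hn1' : ruNorm x1 = 4 := by omega
    rcases stage1 hx hn1' with h1 | ⟨n, hp⟩
    · obtain ⟨x2, rfl, hn2⟩ := exists_div_vec h1
      have hn2' : ruNorm x2 = 2 := by omega
      rw [smul_smul] at hx
      have h2i : (⟨1, 1⟩ : GaussianInt) * ⟨1, 1⟩ = ⟨0, 2⟩ := by decide
      rw [h2i] at hx
      exact caseC hx hn2'
    · exact caseB hx hn1' n hp
  · exact caseA hx hn n1 n2 hlt hp

end Cfsg.Agent.Lib.Helper26_Ru
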