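import Mathlib
import Cfsg.Agent.Lib.Helper94_Herm
import Cfsg.Agent.Lib.Helper94_HermTrans
import Cfsg.Agent.Lib.Helper94_HermEich
import Cfsg.Agent.Lib.Helper13_SUGen
import Cfsg.Agent.Lib.Helper33_U2Defs

set_option autoImplicit false

/-!
Geometric definitions for S2153: the subgroup `Q_v` of Eichler elements centred at an isotropic
vector `v` of a nondegenerate subspace `U` of a hermitian space, and the ambient `QDat`.
-/

namespace Cfsg.Agent.Lib.Helper33_U2Geo

open Module Cfsg.Agent.Lib.Helper94_Symp Cfsg.Agent.Lib.Helper94_Herm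
  Cfsg.Agent.Lib.Helper94_HermTrans Cfsg.Agent.Lib.Helper94_HermEich
  Cfsg.Agent.Lib.Helper33_U2Defs

variable {F V : Type*} [Field F] [AddCommGroup V] [Module F V] {σ : F →+* F}

/-- `W = U ∩ ⟨v, v'⟩^⊥`. -/
def Wsub (B : V →ₗ[F] V →ₛₗ[σ] F) (U : Submodule F V) (v v' : V) : Submodule F V :=
  U ⊓ orthV B v ⊓ orthV B v'

/-- The subgroup `Q_v`: generated by the Eichler elements `x ↦ x + B x v • y - B x y • v + c * B x v • v`
with `y ∈ U ∩ v^⊥` and `c + σ c = - B y y`. -/
def QSub (B : V →ₗ[F] V →ₛₗ[σ] F) (U : Submodule F V) (v : V) : Subgroup (V ≃ₗ[F] V) :=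
  Subgroup.closure {g | ∃ y ∈ U ⊓ orthV B v, ∃ c : F, c + σ c = -(B y y) ∧ g = eich B v y c}

/-- The elements of `tvGroup B U` stabilising the two lines `F v` and `F v'`. -/
def KFull (B : V →ₗ[F] V →ₛₗ[σ] F) (U : Submodule F V) (v v' : V) : Subgroup (V ≃ₗ[F] V) :=
  tvGroup B U ⊓ stab (Submodule.span F {v}) ⊓ stab (Submodule.span F {v'})

/-- The component of `y` in `⟨v, v'⟩^⊥` for a hyperbolic pair `v, v'`. -/
def projW (B : V →ₗ[F] V →ₛₗ[σ] F) (v v' : V) (y : V) : V :=
  y - B y v' • v - B y v • v'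

/-- The trace `x + σ x`, read in `ZMod 2` (`0` iff the trace vanishes). -/
noncomputable def tr2 (σ : F →+* F) (x : F) : ZMod 2 :=
  open Classical in if x + σ x = 0 then 0 else 1

/-- `0` iff `x = 0`, read in `ZMod 2`. -/
noncomputable def nz2 (x : F) : ZMod 2 :=
  open Classical in if x = 0 then 0 else 1

open Classical in
/-- The ambient `Q_v`-datum, with `K` a parameter (`tvGroup B (Wsub B U v v')` in the induction step,
`KFull B U v v'` in the base case). -/
noncomputable def qdatA (B : V →ₗ[F] V →ₛₗ[σ] F) (U : Submodule F V) (v v' : V)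
    (K : Subgroup (V ≃ₗ[F] V)) : QDat (V ≃ₗ[F] V) ↥(Wsub B U v v') where
  Q := QSub B U v
  K := K
  t := utv B v 1
  π g := if h : projW B v v' (g v' - v') ∈ Wsub B U v v' then ⟨_, h⟩ else 0
  β w u := tr2 σ (B (w : V) (u : V))
  qf w := nz2 (B (w : V) (w : V))
  ρ k w := if h : σ (B (k v) v') • k (w : V) ∈ Wsub B U v v' then ⟨_, h⟩ else w

/-- Pull a datum back to a subgroup `G0` of the ambient group. -/
noncomputable def comapDat {G : Type*} [Group G] {W : Type*}
    [AddCommGroup W] (D : QDat G W) (G0 : Subgroup G) : QDat ↥G0 W where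
  Q := D.Q.subgroupOf G0
  K := D.K.subgroupOf G0
  t := open Classical in if h : D.t ∈ G0 then ⟨D.t, h⟩ else 1
  π g := D.π (g : G)
  β := D.β
  qf := D.qf
  ρ k := D.ρ (k : G)

end Cfsg.Agent.Lib.Helper33_U2Geo
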