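import Mathlib
import Cfsg.Agent.Lib.Helper94_Herm
import Cfsg.Agent.Lib.Helper33_U2Geo

set_option autoImplicit false

/-!
S2153-F4: facts on the field with 4 elements and its involution.
-/

namespace Cfsg.Agent.Lib.Helper33_S2153_F4

open Cfsg.Agent.Lib.Helper94_Herm Cfsg.Agent.Lib.Helper33_U2Geo

variable {F : Type*} [Field F] [Fintype F] {σ : F →+* F}

lemma two_eq_zero (hF : Fintype.card F = 4) : (2 : F) = 0 := by
  have h4 : ((Fintype.card F : ℕ) : F) = 0 := Nat.cast_card_eq_zero F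
  rw [hF] at h4
  have : (2 : F) * 2 = 0 := by
    have e : ((4 : ℕ) : F) = 2 * 2 := by norm_num
    rw [← e]; exact h4
  rcases mul_eq_zero.mp this with h | h <;> exact h

lemma add_self (hF : Fintype.card F = 4) (x : F) : x + x = 0 := by
  have := two_eq_zero hF
  linear_combination x * this

lemma pow_four (hF : Fintype.card F = 4) (x : F) : x ^ 4 = x := by
  have := FiniteField.pow_card x
  rwa [hF] at this

lemma cases_of_root (hF : Fintype.card F = 4) {θ : F} (hθ : θ ^ 2 + θ + 1 = 0) (x : F) :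
    x = 0 ∨ x = 1 ∨ x = θ ∨ x = θ + 1 := by
  have h2 := two_eq_zero hF
  have h4 := pow_four hF x
  have hfac : x * ((x - 1) * ((x - θ) * (x - (θ + 1)))) = 0 := by
    linear_combination h4 + (-x ^ 2 + x) * hθ +
      (-(θ + 1) * x ^ 3 + (θ ^ 2 + 2 * θ + 1) * x ^ 2 - (θ ^ 2 + θ) * x) * h2
  rcases mul_eq_zero.mp hfac with h | h
  · left; exact h
  rcases mul_eq_zero.mp h with h | h
  · right; left; exact sub_eq_zero.mp h
  rcases mul_eq_zero.mp h with h | h
  · right; right; left; exact sub_eq_zero.mp h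
  · right; right; right; exact sub_eq_zero.mp h

lemma neg_eq (hF : Fintype.card F = 4) (x : F) : -x = x := by
  have := add_self hF x
  exact neg_eq_of_add_eq_zero_left this

/-- S2153-F4 (S).  Facts on the field with 4 elements and its involution. -/
theorem F4 (hF : Fintype.card F = 4) (hσ : Invol σ) :
    (∀ x : F, x + x = 0) ∧ (∀ x : F, σ x = x ^ 2) ∧ (∀ a : F, σ a = a → a = 0 ∨ a = 1) ∧
    (∀ a : F, a ≠ 0 → a * σ a = 1) ∧
    (∃ ω : F, ω ^ 2 + ω + 1 = 0 ∧ σ ω = ω + 1 ∧ ω ≠ 0 ∧ ω ≠ 1 ∧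
      ∀ x : F, x = 0 ∨ x = 1 ∨ x = ω ∨ x = ω + 1) ∧
    (∀ x y : F, tr2 σ (x + y) = tr2 σ x + tr2 σ y) ∧ (∀ x : F, tr2 σ (σ x) = tr2 σ x) ∧
    (∀ a b : F, σ a = a → σ b = b → nz2 (a + b) = nz2 a + nz2 b) ∧
    (∀ x : F, tr2 σ x = nz2 (x + σ x)) := by
  classical
  have h2 := two_eq_zero hF
  obtain ⟨θ, hθ⟩ := hσ.ne_id
  have hθ0 : θ ≠ 0 := by
    rintro rfl
    exact hθ (map_zero σ)
  have hθ1 : θ ≠ 1 := by
    rintro rfl
    exact hθ (map_one σ)
  have hθroot : θ ^ 2 + θ + 1 = 0 := by
    have h4 := pow_four hF θ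
    have hfac : θ * ((θ - 1) * (θ ^ 2 + θ + 1)) = 0 := by linear_combination h4
    rcases mul_eq_zero.mp hfac with h | h
    · exact absurd h hθ0
    rcases mul_eq_zero.mp h with h | h
    · exact absurd (sub_eq_zero.mp h) hθ1
    · exact h
  have hall := cases_of_root hF hθroot
  have hσθ : σ θ = θ + 1 := by
    have hr : (σ θ) ^ 2 + σ θ + 1 = 0 := by
      have := congrArg σ hθroot
      simpa only [map_add, map_pow, map_one, map_zero] using this
    rcases hall (σ θ) with h | h | h | h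
    · exfalso
      have : σ (σ θ) = 0 := by rw [h, map_zero]
      rw [hσ.invol] at this
      exact hθ0 this
    · exfalso
      have : σ (σ θ) = 1 := by rw [h, map_one]
      rw [hσ.invol] at this
      exact hθ1 this
    · exact absurd h hθ
    · exact h
  have hθsq : θ ^ 2 = θ + 1 := by linear_combination hθroot - (θ + 1) * h2
  have hsq : ∀ x : F, σ x = x ^ 2 := by
    intro x
    rcases hall x with rfl | rfl | rfl | rfl
    · simp
    · simp
    · rw [hσθ, hθsq]
    · rw [map_add, map_one, hσθ]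
      linear_combination -hθroot + h2
  have hfix : ∀ a : F, σ a = a → a = 0 ∨ a = 1 := by
    intro a ha
    rw [hsq] at ha
    have : a * (a - 1) = 0 := by linear_combination ha
    rcases mul_eq_zero.mp this with h | h
    · left; exact h
    · right; exact sub_eq_zero.mp h
  have hnorm : ∀ a : F, a ≠ 0 → a * σ a = 1 := by
    intro a ha
    rw [hsq]
    have h4 := pow_four hF a
    have : a * (a * a ^ 2 - 1) = 0 := by linear_combination h4
    rcases mul_eq_zero.mp this with h | h
    · exact absurd h ha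
    · exact sub_eq_zero.mp h
  have hnz : ∀ a b : F, σ a = a → σ b = b → nz2 (a + b) = nz2 a + nz2 b := by
    intro a b ha hb
    have h10 : (1 : F) ≠ 0 := one_ne_zero
    have h11 : (1 : F) + 1 = 0 := add_self hF 1
    rcases hfix a ha with rfl | rfl <;> rcases hfix b hb with rfl | rfl
    · simp [nz2]
    · simp [nz2]
    · simp [nz2]
    · simp only [nz2, h11, if_true, if_neg h10]
      decide
  have htrfix : ∀ x : F, σ (x + σ x) = x + σ x := by
    intro x
    rw [map_add, hσ.invol, add_comm]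
  have htrdef : ∀ x : F, tr2 σ x = nz2 (x + σ x) := by
    intro x
    simp only [tr2, nz2]
  refine ⟨add_self hF, hsq, hfix, hnorm, ⟨θ, hθroot, hσθ, hθ0, hθ1, hall⟩, ?_, ?_, hnz, htrdef⟩
  · intro x y
    rw [htrdef, htrdef, htrdef, ← hnz _ _ (htrfix x) (htrfix y)]
    congr 1
    rw [map_add]; ring
  · intro x
    rw [htrdef, htrdef, hσ.invol, add_comm]

end Cfsg.Agent.Lib.Helper33_S2153_F4
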