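import Mathlib
import Cfsg.Agent.Lib.Helper94_Herm
import Cfsg.Agent.Lib.Helper94_HermTrans
import Cfsg.Agent.Lib.Helper94_HermEich
import Cfsg.Agent.Lib.Helper94_HermPara
import Cfsg.Agent.Lib.Helper94_HermWitt
import Cfsg.Agent.Lib.Helper94_HermIrr
import Cfsg.Agent.Lib.Helper13_SUGen
import Cfsg.Agent.Lib.Helper33_U2Defs
import Cfsg.Agent.Lib.Helper33_U2Geo
import Cfsg.Agent.Lib.Helper33_S2153_F4

set_option autoImplicit false

/-!
S2153-GORB: `K = tvGroup B W` has two orbits on `W - 0`, `W` is irreducible, and `K ≤ KFull`.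
-/

open Module Cfsg.Agent.Lib.Helper94_Symp Cfsg.Agent.Lib.Helper94_Herm
  Cfsg.Agent.Lib.Helper94_HermTrans Cfsg.Agent.Lib.Helper94_HermEich
  Cfsg.Agent.Lib.Helper13_SUGen
  Cfsg.Agent.Lib.Helper33_U2Defs Cfsg.Agent.Lib.Helper33_U2Geo

namespace Cfsg.Agent.Lib.Helper26_S2153_GORB

variable {F V : Type*} [Field F] [Fintype F] [AddCommGroup V] [Module F V] [FiniteDimensional F V]
variable {σ : F →+* F} {B : V →ₗ[F] V →ₛₗ[σ] F}

omit [Fintype F] [FiniteDimensional F V] in
/-- Elements of `tvGroup B W` fix `v`. -/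
lemma fix_left (hB : IsHerm B) {U : Submodule F V} {v v' : V} {k : V ≃ₗ[F] V}
    (hk : k ∈ tvGroup B (Wsub B U v v')) : k v = v := by
  apply tvGroup_fix (U := Wsub B U v v') _ hk
  intro a ha
  have : B a v = 0 := mem_orthV.mp ha.1.2
  exact herm_eq_zero hB this

omit [Fintype F] [FiniteDimensional F V] in
/-- Elements of `tvGroup B W` fix `v'`. -/
lemma fix_right (hB : IsHerm B) {U : Submodule F V} {v v' : V} {k : V ≃ₗ[F] V}
    (hk : k ∈ tvGroup B (Wsub B U v v')) : k v' = v' := by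
  apply tvGroup_fix (U := Wsub B U v v') _ hk
  intro a ha
  have : B a v' = 0 := mem_orthV.mp ha.2
  exact herm_eq_zero hB this

omit [Fintype F] in
/-- The action `ρ` of `k ∈ tvGroup B W` on `W` is the plain action. -/
lemma rho_eq (hB : IsHerm B) {U : Submodule F V} {v v' : V} (h : HypPair B v v')
    {k : V ≃ₗ[F] V} (hk : k ∈ tvGroup B (Wsub B U v v')) (K : Subgroup (V ≃ₗ[F] V))
    (w : ↥(Wsub B U v v')) :
    (((qdatA B U v v' K).ρ k w : ↥(Wsub B U v v')) : V) = k (w : V) := by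
  have hkw : k (w : V) ∈ Wsub B U v v' := tvGroup_map_mem hk _ w.2
  have hsc : σ (B (k v) v') • k (w : V) = k (w : V) := by
    rw [fix_left hB hk, h.ef, map_one, one_smul]
  have hmem : σ (B (k v) v') • k (w : V) ∈ Wsub B U v v' := by rw [hsc]; exact hkw
  have hρ : (qdatA B U v v' K).ρ k w = ⟨_, hmem⟩ := by
    unfold qdatA
    exact dif_pos hmem
  rw [hρ]
  exact hsc

theorem GORB (hF : Fintype.card F = 4) (hσ : Invol σ) (hB : IsHerm B) {U : Submodule F V}
    (hU : NondegOn B U) {v v' : V} (hvU : v ∈ U) (hv'U : v' ∈ U) (h : HypPair B v v')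
    (h4 : 4 ≤ finrank F (Wsub B U v v')) :
    (∀ w w' : ↥(Wsub B U v v'), w ≠ 0 → w' ≠ 0 →
      (qdatA B U v v' (tvGroup B (Wsub B U v v'))).qf w =
        (qdatA B U v v' (tvGroup B (Wsub B U v v'))).qf w' →
      ∃ k ∈ tvGroup B (Wsub B U v v'),
        (qdatA B U v v' (tvGroup B (Wsub B U v v'))).ρ k w = w') ∧
    (∀ I : AddSubgroup ↥(Wsub B U v v'),
      (∀ k ∈ tvGroup B (Wsub B U v v'), ∀ w ∈ I,
        (qdatA B U v v' (tvGroup B (Wsub B U v v'))).ρ k w ∈ I) → I = ⊥ ∨ I = ⊤) ∧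
    tvGroup B (Wsub B U v v') ≤ KFull B U v v' := by
  have hW : NondegOn B (Wsub B U v v') := nondegOn_pair hB hU hvU hv'U h.ee h.ff h.ef
  refine ⟨?_, ?_, ?_⟩
  · -- two orbits
    intro w w' hw0 hw'0 hq
    have hwV : (w : V) ≠ 0 := fun hh => hw0 (Subtype.ext hh)
    have hw'V : (w' : V) ≠ 0 := fun hh => hw'0 (Subtype.ext hh)
    have hq' : nz2 (B (w : V) (w : V)) = nz2 (B (w' : V) (w' : V)) := hq
    have key : ∃ k ∈ tvGroup B (Wsub B U v v'), k (w : V) = (w' : V) := by
      by_cases hiso : B (w : V) (w : V) = 0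
      · have hiso' : B (w' : V) (w' : V) = 0 := by
          by_contra hne
          unfold nz2 at hq'
          rw [if_pos hiso, if_neg hne] at hq'
          exact zero_ne_one hq'
        exact Cfsg.Agent.Lib.Helper94_HermWitt.exists_tv_iso hσ hB hW (by omega) w.2 w'.2
          hwV hw'V hiso hiso'
      · have hne' : B (w' : V) (w' : V) ≠ 0 := by
          intro hz
          unfold nz2 at hq'
          rw [if_neg hiso, if_pos hz] at hq'
          exact one_ne_zero hq'
        have hfix := (Cfsg.Agent.Lib.Helper33_S2153_F4.F4 hF hσ).2.2.1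
        have h1 : B (w : V) (w : V) = 1 := by
          rcases hfix _ (herm_self hB (w : V)) with h0 | h1
          · exact absurd h0 hiso
          · exact h1
        have h1' : B (w' : V) (w' : V) = 1 := by
          rcases hfix _ (herm_self hB (w' : V)) with h0 | h1
          · exact absurd h0 hne'
          · exact h1
        exact Cfsg.Agent.Lib.Helper94_HermWitt.exists_tv_aniso hσ hB hW h4 w.2 w'.2 hiso
          (by rw [h1, h1'])
    obtain ⟨k, hk, hkw⟩ := key
    refine ⟨k, hk, Subtype.ext ?_⟩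
    rw [rho_eq hB h hk]
    exact hkw
  · -- irreducibility
    intro I hI
    by_cases hbot : I = ⊥
    · exact Or.inl hbot
    right
    have h3 : ∀ x y : V, ∃ z ∈ Wsub B U v v', z ∉ Submodule.span F {x, y} :=
      fun x y => Cfsg.Agent.Lib.Helper94_HermWitt.exists_notMem_span2 (by omega) x y
    have hinv : ∀ a ∈ Wsub B U v v', B a a = 0 → ∀ c, σ c = -c →
        ∀ x ∈ I.map (Wsub B U v v').subtype.toAddMonoidHom, utv B a c x ∈
          I.map (Wsub B U v v').subtype.toAddMonoidHom := by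
      intro a haW ha c hc x hx
      obtain ⟨w, hwI, rfl⟩ := hx
      have hk : utv B a c ∈ tvGroup B (Wsub B U v v') := utv_mem_tvGroup haW ha hc
      refine ⟨_, hI _ hk w hwI, ?_⟩
      exact rho_eq hB h hk _ w
    have hne : ∃ x ∈ I.map (Wsub B U v v').subtype.toAddMonoidHom,
        x ∈ Wsub B U v v' ∧ x ≠ 0 := by
      obtain ⟨⟨w, hwI⟩, hw0⟩ := (AddSubgroup.ne_bot_iff_exists_ne_zero).mp hbot
      refine ⟨(w : V), ⟨w, hwI, rfl⟩, w.2, ?_⟩
      intro hz
      apply hw0
      exact Subtype.ext (Subtype.ext hz)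
    have hall := Cfsg.Agent.Lib.Helper94_HermIrr.mem_of_utv_invariant hσ hB hW h3 _ hinv hne
    rw [eq_top_iff]
    intro w _
    obtain ⟨w1, hw1I, hw1⟩ := hall (w : V) w.2
    have : w1 = w := Subtype.ext hw1
    rw [← this]; exact hw1I
  · -- containment in `KFull`
    intro k hk
    have hle : Wsub B U v v' ≤ U := fun x hx => hx.1.1
    refine ⟨⟨tvGroup_mono hle hk, ?_⟩, ?_⟩
    · apply mem_stab_of_forall_mem
      intro x hx
      obtain ⟨a, rfl⟩ := Submodule.mem_span_singleton.mp hx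
      rw [map_smul, fix_left hB hk]
      exact Submodule.smul_mem _ _ (Submodule.mem_span_singleton_self v)
    · apply mem_stab_of_forall_mem
      intro x hx
      obtain ⟨a, rfl⟩ := Submodule.mem_span_singleton.mp hx
      rw [map_smul, fix_right hB hk]
      exact Submodule.smul_mem _ _ (Submodule.mem_span_singleton_self v')

end Cfsg.Agent.Lib.Helper26_S2153_GORB
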