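import Mathlib
import Cfsg.Agent.Lib.Helper30_S2316Defs

/-!
# S2316 (market `s2316_packages`, architect helper30): package STONE (helper26)

The degree of the Steinberg character of `Sp_{2m}(F)`: `St 1 = q^(m²)`.
-/

set_option autoImplicit false
set_option linter.unusedSectionVars false
set_option linter.unusedVariables false

namespace Cfsg.Agent.Lib.Helper30_S2316

open Matrix Cfsg Cfsg.Agent.Lib.Helper68_MatGrp Cfsg.Agent.Lib.Helper5_SpPerfect
  Cfsg.Agent.Lib.Helper68_StSpDefs Cfsg.Agent.Lib.Helper68_StSp Cfsg.Agent.Lib.Helper44_SpUT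
  Cfsg.Agent.Lib.Helper68_StAbs Cfsg.Agent.Lib.Helper6_Word Cfsg.Agent.Lib.Helper6_BNPair
  Cfsg.Agent.Lib.Helper81_BNSteinberg Cfsg.Agent.Lib.Helper81_BNIndex Cfsg.Agent.Lib.Helper81_BNBorel

section sp

variable {m : ℕ} {F : Type*} [Field F]

theorem St_one_sp [Fintype F] (p : ℕ) [Fact p.Prime] [CharP F p] (hm : 0 < m)
    [Fintype ↥(symplecticGroup (Fin m) F)] :
    St (bnPair (spRDat (F := F) hm)) Finset.univ ss 1 = ((Fintype.card F ^ m ^ 2 : ℕ) : ℂ) := by
  classical
  obtain ⟨f, -, hf⟩ := FiniteField.card F p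
  have hs : (spRDat (F := F) hm).s '' ((Finset.univ : Finset (Fin m)) : Set (Fin m)) =
      (bnPair (spRDat (F := F) hm)).S := by
    rw [Finset.coe_univ, Set.image_univ]
    rfl
  obtain ⟨w', hw', hcs⟩ := exists_top (spRDat (F := F) hm) (p ^ ((f : ℕ) * m ^ 2))
    (by
      show Nat.card (Bsp m F) = Nat.card ↥(Bsp m F ⊓ Nsp m F) * _
      rw [Bsp_inf_Nsp, card_Bsp, hf, ← pow_mul])
    (SymplecticGroup.symJ (Fin m) F)
    (by
      intro b hb hc
      have hD : b ∈ Tsp m F := by
        apply mem_Diag_of_conj_rev (φ m F) (ht m) (ht_injective m) symJ_isMono _ hb hc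
        intro a c hac
        show ht m (Sum.swap c) < ht m (Sum.swap a)
        rw [ht_swap, ht_swap]
        have := ht_lt m a
        have := ht_lt m c
        omega
      exact (le_sup_right : Tsp m F ≤ Nsp m F) hD)
  have h1 := St_apply_of_mem_B (bnPair (spRDat (F := F) hm)) Finset.univ
    (spRDat (F := F) hm).s hs (bnPair (spRDat (F := F) hm)).B.one_mem hw'
  rw [fixCell_one, hcs] at h1
  rw [hf, ← pow_mul]
  exact h1

end sp

end Cfsg.Agent.Lib.Helper30_S2316
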