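import Mathlib
import Cfsg.Agent.Lib.Helper81_UceA

set_option autoImplicit false
set_option linter.unusedSectionVars false

/-!
S2400-TWODEC (architect helper72): Milnor's trick with two decompositions, characteristic three.
-/

namespace Cfsg.Agent.Lib.Helper26_S2400_TWODEC

open Cfsg.Agent.Lib.Helper81_UceA

variable {E Γ : Type*} [Group E] [Group Γ] {ψ : E →* Γ}

section general

/-- the commutator of the chosen lifts of `g`, `h` -/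
noncomputable def cmm (hs : Function.Surjective ψ) (g h : Γ) : E :=
  Function.surjInv hs g * Function.surjInv hs h * (Function.surjInv hs g)⁻¹ *
    (Function.surjInv hs h)⁻¹

theorem cmm_eq (hc : CExt ψ) {g h : Γ} {a b : E} (ha : ψ a = g) (hb : ψ b = h) :
    cmm hc.surj g h = a * b * a⁻¹ * b⁻¹ := by
  unfold cmm
  apply hc.commutator_eq
  · rw [Function.surjInv_eq hc.surj, ha]
  · rw [Function.surjInv_eq hc.surj, hb]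

theorem map_cmm (hc : CExt ψ) (g h : Γ) : ψ (cmm hc.surj g h) = g * h * g⁻¹ * h⁻¹ := by
  unfold cmm
  simp only [map_mul, map_inv, Function.surjInv_eq hc.surj]

theorem cmm_central (hc : CExt ψ) {g h : Γ} (hgh : g * h = h * g) (e : E) :
    cmm hc.surj g h * e = e * cmm hc.surj g h := by
  apply hc.comm_of_ker
  rw [map_cmm hc, hgh]
  group

theorem cmm_mul_left (hc : CExt ψ) {g g' h : Γ} (hgh : g' * h = h * g') :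
    cmm hc.surj (g * g') h = cmm hc.surj g h * cmm hc.surj g' h := by
  obtain ⟨a, ha⟩ := hc.surj g
  obtain ⟨a', ha'⟩ := hc.surj g'
  obtain ⟨b, hb⟩ := hc.surj h
  have hcen := cmm_central hc hgh
  rw [cmm_eq hc ha' hb] at hcen
  rw [cmm_eq hc (a := a * a') (b := b) (by rw [map_mul, ha, ha']) hb, cmm_eq hc ha hb,
    cmm_eq hc ha' hb]
  calc a * a' * b * (a * a')⁻¹ * b⁻¹ = a * ((a' * b * a'⁻¹ * b⁻¹) * (b * a⁻¹ * b⁻¹)) := by group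
    _ = a * ((b * a⁻¹ * b⁻¹) * (a' * b * a'⁻¹ * b⁻¹)) := by rw [hcen]
    _ = _ := by group

theorem cmm_mul_right (hc : CExt ψ) {g h h' : Γ} (hgh : g * h' = h' * g) :
    cmm hc.surj g (h * h') = cmm hc.surj g h * cmm hc.surj g h' := by
  obtain ⟨a, ha⟩ := hc.surj g
  obtain ⟨b, hb⟩ := hc.surj h
  obtain ⟨b', hb'⟩ := hc.surj h'
  have hcen := cmm_central hc hgh
  rw [cmm_eq hc ha hb'] at hcen
  rw [cmm_eq hc (a := a) (b := b * b') ha (by rw [map_mul, hb, hb']), cmm_eq hc ha hb,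
    cmm_eq hc ha hb']
  calc a * (b * b') * a⁻¹ * (b * b')⁻¹ = a * b * a⁻¹ * b⁻¹ * (b * (a * b' * a⁻¹ * b'⁻¹)) * b⁻¹ := by
        group
    _ = a * b * a⁻¹ * b⁻¹ * ((a * b' * a⁻¹ * b'⁻¹) * b) * b⁻¹ := by rw [hcen]
    _ = _ := by group

theorem cmm_one_left (hc : CExt ψ) (h : Γ) : cmm hc.surj 1 h = 1 := by
  obtain ⟨b, hb⟩ := hc.surj h
  rw [cmm_eq hc (a := 1) (b := b) (map_one ψ) hb]
  group

theorem cmm_one_right (hc : CExt ψ) (g : Γ) : cmm hc.surj g 1 = 1 := by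
  obtain ⟨a, ha⟩ := hc.surj g
  rw [cmm_eq hc (a := a) (b := 1) ha (map_one ψ)]
  group

end general

/-- an additive family sends `0` to `1` -/
theorem fam_zero {F : Type*} [Field F] {X : F → Γ} (hX : ∀ t u : F, X (t + u) = X t * X u) :
    X 0 = 1 := by
  have h := hX 0 0
  rw [add_zero] at h
  exact mul_left_cancel (a := X 0) (by rw [mul_one]; exact h.symm)

/-- an additive family sends `-t` to the inverse -/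
theorem fam_neg {F : Type*} [Field F] {X : F → Γ} (hX : ∀ t u : F, X (t + u) = X t * X u) (t : F) :
    X (-t) = (X t)⁻¹ := by
  have h := hX t (-t)
  rw [add_neg_cancel, fam_zero hX] at h
  exact eq_inv_of_mul_eq_one_right h.symm

section pairing

variable {F : Type*} [Field F] (hc : CExt ψ) {Xq Xy : F → Γ}
  (hy : ∀ t u : F, Xy (t + u) = Xy t * Xy u) (hq : ∀ t u : F, Xq (t + u) = Xq t * Xq u)
  (hyq : ∀ t u : F, Xy t * Xq u = Xq u * Xy t)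

/-- the pairing `φ(α, β)` = commutator of lifts of `Xq α` and `Xy β` -/
noncomputable def phi (hc : CExt ψ) (Xq Xy : F → Γ) (α β : F) : E := cmm hc.surj (Xq α) (Xy β)

include hyq in
theorem phi_central (α β : F) (e : E) : phi hc Xq Xy α β * e = e * phi hc Xq Xy α β :=
  cmm_central hc (hyq β α).symm e

include hq hyq in
theorem phi_add_left (α α' β : F) :
    phi hc Xq Xy (α + α') β = phi hc Xq Xy α β * phi hc Xq Xy α' β := by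
  unfold phi
  rw [hq, cmm_mul_left hc (hyq β α').symm]

include hy hyq in
theorem phi_add_right (α β β' : F) :
    phi hc Xq Xy α (β + β') = phi hc Xq Xy α β * phi hc Xq Xy α β' := by
  unfold phi
  rw [hy, cmm_mul_right hc (hyq β' α).symm]

include hq in
theorem phi_zero_left (β : F) : phi hc Xq Xy 0 β = 1 := by
  unfold phi
  rw [fam_zero hq, cmm_one_left hc]

include hy in
theorem phi_zero_right (α : F) : phi hc Xq Xy α 0 = 1 := by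
  unfold phi
  rw [fam_zero hy, cmm_one_right hc]

include hq hyq in
theorem phi_neg_left (α β : F) : phi hc Xq Xy (-α) β = (phi hc Xq Xy α β)⁻¹ := by
  have h := phi_add_left hc hq hyq α (-α) β
  rw [add_neg_cancel, phi_zero_left hc hq] at h
  exact eq_inv_of_mul_eq_one_right h.symm

include hy hyq in
theorem phi_neg_right (α β : F) : phi hc Xq Xy α (-β) = (phi hc Xq Xy α β)⁻¹ := by
  have h := phi_add_right hc hy hyq α β (-β)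
  rw [add_neg_cancel, phi_zero_right hc hy] at h
  exact eq_inv_of_mul_eq_one_right h.symm

include hy hq hyq in
/-- a sign moves from one side to the other -/
theorem phi_sign (c : F) (hcs : c = 1 ∨ c = -1) (α β : F) :
    phi hc Xq Xy (c * α) β = phi hc Xq Xy α (c * β) := by
  rcases hcs with rfl | rfl
  · rw [one_mul, one_mul]
  · rw [neg_one_mul, neg_one_mul, phi_neg_left hc hq hyq, phi_neg_right hc hy hyq]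

include hq hyq in
theorem phi_cube (h3 : (3 : F) = 0) (α β : F) : phi hc Xq Xy α β ^ 3 = 1 := by
  have h0 : α + α + α = 0 := by
    have : α + α + α = 3 * α := by ring
    rw [this, h3, zero_mul]
  have h := phi_add_left hc hq hyq (α + α) α β
  rw [phi_add_left hc hq hyq α α β, h0, phi_zero_left hc hq] at h
  rw [pow_succ, pow_two]
  exact h.symm

end pairing

section calcs

/-- the group calculation of (R1) -/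
theorem r1_calc (Y A B κ : E) (hYB : Y * B = B * Y) (hκ : ∀ e, κ * e = e * κ)
    (hκdef : κ = B * (Y⁻¹ * A⁻¹ * Y * A)⁻¹ * B⁻¹ * (Y⁻¹ * A⁻¹ * Y * A))
    (hZW : (Y⁻¹ * A⁻¹ * Y * A) * (B⁻¹ * A⁻¹ * B * A) = (B⁻¹ * A⁻¹ * B * A) * (Y⁻¹ * A⁻¹ * Y * A)) :
    Y⁻¹ * (B⁻¹ * A⁻¹ * B * A) * Y * (B⁻¹ * A⁻¹ * B * A)⁻¹ = κ := by
  have h1 : Y⁻¹ * B * Y = B := by
    rw [mul_assoc, ← hYB, ← mul_assoc, inv_mul_cancel, one_mul]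
  have h1' : Y⁻¹ * B⁻¹ * Y = B⁻¹ := by
    calc Y⁻¹ * B⁻¹ * Y = (Y⁻¹ * B * Y)⁻¹ := by group
      _ = B⁻¹ := by rw [h1]
  calc Y⁻¹ * (B⁻¹ * A⁻¹ * B * A) * Y * (B⁻¹ * A⁻¹ * B * A)⁻¹
      = (Y⁻¹ * B⁻¹ * Y) * (Y⁻¹ * A⁻¹ * Y * A) * A⁻¹ * (Y⁻¹ * B * Y) * A *
          (Y⁻¹ * A⁻¹ * Y * A)⁻¹ * (B⁻¹ * A⁻¹ * B * A)⁻¹ := by group
    _ = B⁻¹ * (Y⁻¹ * A⁻¹ * Y * A) * A⁻¹ * B * A *
          (Y⁻¹ * A⁻¹ * Y * A)⁻¹ * (B⁻¹ * A⁻¹ * B * A)⁻¹ := by rw [h1, h1']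
    _ = ((Y⁻¹ * A⁻¹ * Y * A) * B⁻¹) * (B * (Y⁻¹ * A⁻¹ * Y * A)⁻¹ * B⁻¹ * (Y⁻¹ * A⁻¹ * Y * A)) *
          A⁻¹ * B * A * (Y⁻¹ * A⁻¹ * Y * A)⁻¹ * (B⁻¹ * A⁻¹ * B * A)⁻¹ := by group
    _ = ((Y⁻¹ * A⁻¹ * Y * A) * B⁻¹) * κ *
          A⁻¹ * B * A * (Y⁻¹ * A⁻¹ * Y * A)⁻¹ * (B⁻¹ * A⁻¹ * B * A)⁻¹ := by rw [← hκdef]
    _ = κ * ((Y⁻¹ * A⁻¹ * Y * A) * B⁻¹) *
          A⁻¹ * B * A * (Y⁻¹ * A⁻¹ * Y * A)⁻¹ * (B⁻¹ * A⁻¹ * B * A)⁻¹ := by rw [hκ]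
    _ = κ * ((Y⁻¹ * A⁻¹ * Y * A) * (B⁻¹ * A⁻¹ * B * A)) *
          (Y⁻¹ * A⁻¹ * Y * A)⁻¹ * (B⁻¹ * A⁻¹ * B * A)⁻¹ := by group
    _ = κ * ((B⁻¹ * A⁻¹ * B * A) * (Y⁻¹ * A⁻¹ * Y * A)) *
          (Y⁻¹ * A⁻¹ * Y * A)⁻¹ * (B⁻¹ * A⁻¹ * B * A)⁻¹ := by rw [hZW]
    _ = κ := by group

/-- the group calculation of (R2) -/
theorem r2_calc (Y A B κ : E) (hYA : Y * A = A * Y) (hκ : ∀ e, κ * e = e * κ)
    (hκdef : κ = (Y⁻¹ * B⁻¹ * Y * B) * A⁻¹ * (Y⁻¹ * B⁻¹ * Y * B)⁻¹ * A)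
    (hZW : (Y⁻¹ * B⁻¹ * Y * B) * (B⁻¹ * A⁻¹ * B * A) = (B⁻¹ * A⁻¹ * B * A) * (Y⁻¹ * B⁻¹ * Y * B)) :
    Y⁻¹ * (B⁻¹ * A⁻¹ * B * A) * Y * (B⁻¹ * A⁻¹ * B * A)⁻¹ = κ := by
  have h1 : Y⁻¹ * A * Y = A := by
    rw [mul_assoc, ← hYA, ← mul_assoc, inv_mul_cancel, one_mul]
  have h1' : Y⁻¹ * A⁻¹ * Y = A⁻¹ := by
    calc Y⁻¹ * A⁻¹ * Y = (Y⁻¹ * A * Y)⁻¹ := by group
      _ = A⁻¹ := by rw [h1]
  calc Y⁻¹ * (B⁻¹ * A⁻¹ * B * A) * Y * (B⁻¹ * A⁻¹ * B * A)⁻¹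
      = (Y⁻¹ * B⁻¹ * Y * B) * B⁻¹ * (Y⁻¹ * A⁻¹ * Y) * B * (Y⁻¹ * B⁻¹ * Y * B)⁻¹ * (Y⁻¹ * A * Y) *
          (B⁻¹ * A⁻¹ * B * A)⁻¹ := by group
    _ = (Y⁻¹ * B⁻¹ * Y * B) * B⁻¹ * A⁻¹ * B * (Y⁻¹ * B⁻¹ * Y * B)⁻¹ * A *
          (B⁻¹ * A⁻¹ * B * A)⁻¹ := by rw [h1, h1']
    _ = (Y⁻¹ * B⁻¹ * Y * B) * B⁻¹ * A⁻¹ * B * (A * (Y⁻¹ * B⁻¹ * Y * B)⁻¹ *
          ((Y⁻¹ * B⁻¹ * Y * B) * A⁻¹ * (Y⁻¹ * B⁻¹ * Y * B)⁻¹ * A)) *
          (B⁻¹ * A⁻¹ * B * A)⁻¹ := by group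
    _ = (Y⁻¹ * B⁻¹ * Y * B) * B⁻¹ * A⁻¹ * B * (A * (Y⁻¹ * B⁻¹ * Y * B)⁻¹ * κ) *
          (B⁻¹ * A⁻¹ * B * A)⁻¹ := by rw [← hκdef]
    _ = ((Y⁻¹ * B⁻¹ * Y * B) * (B⁻¹ * A⁻¹ * B * A)) * (Y⁻¹ * B⁻¹ * Y * B)⁻¹ *
          (κ * (B⁻¹ * A⁻¹ * B * A)⁻¹) := by group
    _ = ((B⁻¹ * A⁻¹ * B * A) * (Y⁻¹ * B⁻¹ * Y * B)) * (Y⁻¹ * B⁻¹ * Y * B)⁻¹ *
          ((B⁻¹ * A⁻¹ * B * A)⁻¹ * κ) := by rw [hZW, hκ]
    _ = κ := by group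

end calcs

section main

variable {F : Type*} [Field F]

/-- (R1) -/
theorem R1 (hψ : CExt ψ) (Xr Xx Xp Xq Xy : F → Γ)
    (hy : ∀ t u : F, Xy (t + u) = Xy t * Xy u)
    (c1 c2 : F)
    (T1 : ∀ t u : F, (Xq u)⁻¹ * (Xp t)⁻¹ * Xq u * Xp t = Xr (c1 * (-t) * u))
    (T2 : ∀ t u : F, (Xx u)⁻¹ * (Xp t)⁻¹ * Xx u * Xp t = Xy (c2 * (-t) * u))
    (hyq : ∀ t u : F, Xy t * Xq u = Xq u * Xy t)
    (Lxq : ∀ (a b : E) (t u : F), ψ a = Xx t → ψ b = Xq u → a * b = b * a)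
    (Lyr : ∀ (a b : E) (t u : F), ψ a = Xy t → ψ b = Xr u → a * b = b * a)
    {Y A B : E} {u t v : F} (hY : ψ Y = Xx u) (hA : ψ A = Xp t) (hB : ψ B = Xq v) :
    Y⁻¹ * (B⁻¹ * A⁻¹ * B * A) * Y * (B⁻¹ * A⁻¹ * B * A)⁻¹ = phi hψ Xq Xy v (c2 * t * u) := by
  have hZ1 : ψ (Y⁻¹ * A⁻¹ * Y * A) = Xy (c2 * (-t) * u) := by
    rw [map_mul, map_mul, map_mul, map_inv, map_inv, hY, hA]
    exact T2 t u
  have hW : ψ (B⁻¹ * A⁻¹ * B * A) = Xr (c1 * (-t) * v) := by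
    rw [map_mul, map_mul, map_mul, map_inv, map_inv, hB, hA]
    exact T1 t v
  have hZ1i : ψ (Y⁻¹ * A⁻¹ * Y * A)⁻¹ = Xy (c2 * t * u) := by
    rw [map_inv, hZ1, ← fam_neg hy]
    congr 1
    ring
  apply r1_calc Y A B _ (Lxq Y B u v hY hB) (phi_central hψ hyq v (c2 * t * u))
  · unfold phi
    rw [cmm_eq hψ hB hZ1i, inv_inv]
  · exact Lyr _ _ _ _ hZ1 hW

/-- (R2) -/
theorem R2 (hψ : CExt ψ) (Xr Xx Xq Xy Xq' : F → Γ)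
    (hy : ∀ t u : F, Xy (t + u) = Xy t * Xy u)
    (c3 c4 : F)
    (T3 : ∀ t u : F, (Xq' u)⁻¹ * (Xy t)⁻¹ * Xq' u * Xy t = Xr (c3 * (-t) * u))
    (T4 : ∀ t u : F, (Xx u)⁻¹ * (Xq' t)⁻¹ * Xx u * Xq' t = Xq (c4 * (-t) * u))
    (hyq : ∀ t u : F, Xy t * Xq u = Xq u * Xy t)
    (Lxy : ∀ (a b : E) (t u : F), ψ a = Xx t → ψ b = Xy u → a * b = b * a)
    (Lqr : ∀ (a b : E) (t u : F), ψ a = Xq t → ψ b = Xr u → a * b = b * a)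
    {Y A B : E} {u t v : F} (hY : ψ Y = Xx u) (hA : ψ A = Xy t) (hB : ψ B = Xq' v) :
    Y⁻¹ * (B⁻¹ * A⁻¹ * B * A) * Y * (B⁻¹ * A⁻¹ * B * A)⁻¹ =
      phi hψ Xq Xy (c4 * (-v) * u) (-t) := by
  have hZ2 : ψ (Y⁻¹ * B⁻¹ * Y * B) = Xq (c4 * (-v) * u) := by
    rw [map_mul, map_mul, map_mul, map_inv, map_inv, hY, hB]
    exact T4 v u
  have hW : ψ (B⁻¹ * A⁻¹ * B * A) = Xr (c3 * (-t) * v) := by
    rw [map_mul, map_mul, map_mul, map_inv, map_inv, hB, hA]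
    exact T3 t v
  have hAi : ψ A⁻¹ = Xy (-t) := by
    rw [map_inv, hA, fam_neg hy]
  apply r2_calc Y A B _ (Lxy Y A u t hY hA) (phi_central hψ hyq _ _)
  · unfold phi
    rw [cmm_eq hψ hZ2 hAi, inv_inv]
  · exact Lqr _ _ _ _ hZ2 hW

/-- TWODEC (L): Milnor's trick with two decompositions, characteristic three.  Six one-parameter families in `Γ`
(`Xr`, `Xx` the commuting pair; `Xp`, `Xq`, `Xy`, `Xq'` auxiliary), four commutator relations with signs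
`c1 .. c4 = ±1` such that `c1 * c2 + c3 * c4 = 0`; lifts of `Xx`/`Xq`, of `Xy`/`Xr`, of `Xx`/`Xy` and of `Xq`/`Xr`
commute and `Xy`, `Xq` commute in `Γ`.  Then lifts of `Xx` and `Xr` commute. -/
theorem TWODEC {F : Type*} [Field F] (h3 : (3 : F) = 0) (hψ : CExt ψ) (Xr Xx Xp Xq Xy Xq' : F → Γ)
    (hy : ∀ t u : F, Xy (t + u) = Xy t * Xy u) (hq : ∀ t u : F, Xq (t + u) = Xq t * Xq u)
    (c1 c2 c3 c4 : F) (hc1 : c1 = 1 ∨ c1 = -1) (hc2 : c2 = 1 ∨ c2 = -1) (hc3 : c3 = 1 ∨ c3 = -1)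
    (hc4 : c4 = 1 ∨ c4 = -1) (hsign : c1 * c2 + c3 * c4 = 0)
    (T1 : ∀ t u : F, (Xq u)⁻¹ * (Xp t)⁻¹ * Xq u * Xp t = Xr (c1 * (-t) * u))
    (T2 : ∀ t u : F, (Xx u)⁻¹ * (Xp t)⁻¹ * Xx u * Xp t = Xy (c2 * (-t) * u))
    (T3 : ∀ t u : F, (Xq' u)⁻¹ * (Xy t)⁻¹ * Xq' u * Xy t = Xr (c3 * (-t) * u))
    (T4 : ∀ t u : F, (Xx u)⁻¹ * (Xq' t)⁻¹ * Xx u * Xq' t = Xq (c4 * (-t) * u))
    (hyq : ∀ t u : F, Xy t * Xq u = Xq u * Xy t)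
    (Lxq : ∀ (a b : E) (t u : F), ψ a = Xx t → ψ b = Xq u → a * b = b * a)
    (Lyr : ∀ (a b : E) (t u : F), ψ a = Xy t → ψ b = Xr u → a * b = b * a)
    (Lxy : ∀ (a b : E) (t u : F), ψ a = Xx t → ψ b = Xy u → a * b = b * a)
    (Lqr : ∀ (a b : E) (t u : F), ψ a = Xq t → ψ b = Xr u → a * b = b * a) :
    ∀ (a b : E) (t u : F), ψ a = Xx t → ψ b = Xr u → a * b = b * a := by
  have hc1sq : c1 * c1 = 1 := by rcases hc1 with rfl | rfl <;> ring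
  have hc2sq : c2 * c2 = 1 := by rcases hc2 with rfl | rfl <;> ring
  have hc3sq : c3 * c3 = 1 := by rcases hc3 with rfl | rfl <;> ring
  have hc4' : -c4 = 1 ∨ -c4 = -1 := by
    rcases hc4 with rfl | rfl
    · right; rfl
    · left; ring
  -- Step 1: `φ(1, τ) = 1`
  have hphi1 : ∀ τ : F, phi hψ Xq Xy 1 τ = 1 := by
    intro τ
    obtain ⟨Y, hY⟩ := hψ.surj (Xx 1)
    obtain ⟨A, hA⟩ := hψ.surj (Xp (-c1 * (c1 * c2 * τ)))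
    obtain ⟨B, hB⟩ := hψ.surj (Xq 1)
    obtain ⟨A', hA'⟩ := hψ.surj (Xy (-c3 * (c1 * c2 * τ)))
    obtain ⟨B', hB'⟩ := hψ.surj (Xq' 1)
    have r1 := R1 hψ Xr Xx Xp Xq Xy hy c1 c2 T1 T2 hyq Lxq Lyr hY hA hB
    have r2 := R2 hψ Xr Xx Xq Xy Xq' hy c3 c4 T3 T4 hyq Lxy Lqr hY hA' hB'
    have hW : ψ (B⁻¹ * A⁻¹ * B * A) = Xr (c1 * c2 * τ) := by
      rw [map_mul, map_mul, map_mul, map_inv, map_inv, hB, hA, T1]
      congr 1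
      linear_combination (c1 * c2 * τ) * hc1sq
    have hW' : ψ (B'⁻¹ * A'⁻¹ * B' * A') = Xr (c1 * c2 * τ) := by
      rw [map_mul, map_mul, map_mul, map_inv, map_inv, hB', hA', T3]
      congr 1
      linear_combination (c1 * c2 * τ) * hc3sq
    have heq : Y⁻¹ * (B⁻¹ * A⁻¹ * B * A) * Y * (B⁻¹ * A⁻¹ * B * A)⁻¹ =
        Y⁻¹ * (B'⁻¹ * A'⁻¹ * B' * A') * Y * (B'⁻¹ * A'⁻¹ * B' * A')⁻¹ := by
      have := hψ.commutator_eq (a := Y⁻¹) (a' := Y⁻¹) (b := B⁻¹ * A⁻¹ * B * A)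
        (b' := B'⁻¹ * A'⁻¹ * B' * A') rfl (hW.trans hW'.symm)
      rw [inv_inv] at this
      exact this
    rw [r1, r2] at heq
    -- left side: `φ(1, -τ)`
    have e1 : c2 * (-c1 * (c1 * c2 * τ)) * 1 = -τ := by
      linear_combination (-c2 * c2 * τ) * hc1sq + (-τ) * hc2sq
    -- right side: `φ(-c4, c3 * (c1 c2 τ))`
    have e2 : c4 * (-1) * 1 = (-c4) * 1 := by ring
    have e3 : -(-c3 * (c1 * c2 * τ)) = c3 * (c1 * c2 * τ) := by ring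
    rw [e1, e2, e3, phi_sign hψ hy hq hyq (-c4) hc4' 1 _, phi_neg_right hψ hy hyq] at heq
    have e4 : -c4 * (c3 * (c1 * c2 * τ)) = τ := by
      linear_combination (-(c1 * c2 * τ)) * hsign + (c2 * c2 * τ) * hc1sq + τ * hc2sq
    rw [e4] at heq
    -- `x⁻¹ = x` and `x ^ 3 = 1`
    have hcube := phi_cube hψ hq hyq h3 1 τ
    have hsq : phi hψ Xq Xy 1 τ * phi hψ Xq Xy 1 τ = 1 := by
      nth_rewrite 1 [← heq]
      exact inv_mul_cancel _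
    rw [pow_succ, pow_two, hsq, one_mul] at hcube
    exact hcube
  -- Step 2
  intro a b t u ha hb
  obtain ⟨A, hA⟩ := hψ.surj (Xp (-c1 * u))
  obtain ⟨B, hB⟩ := hψ.surj (Xq 1)
  have r1 := R1 hψ Xr Xx Xp Xq Xy hy c1 c2 T1 T2 hyq Lxq Lyr ha hA hB
  rw [hphi1] at r1
  have hW : ψ (B⁻¹ * A⁻¹ * B * A) = Xr u := by
    rw [map_mul, map_mul, map_mul, map_inv, map_inv, hB, hA, T1]
    congr 1
    linear_combination u * hc1sq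
  have hcomm : a * (B⁻¹ * A⁻¹ * B * A) = (B⁻¹ * A⁻¹ * B * A) * a := by
    have h1 : a⁻¹ * (B⁻¹ * A⁻¹ * B * A) * a = B⁻¹ * A⁻¹ * B * A := by
      calc a⁻¹ * (B⁻¹ * A⁻¹ * B * A) * a
          = (a⁻¹ * (B⁻¹ * A⁻¹ * B * A) * a * (B⁻¹ * A⁻¹ * B * A)⁻¹) * (B⁻¹ * A⁻¹ * B * A) := by group
        _ = B⁻¹ * A⁻¹ * B * A := by rw [r1, one_mul]
    calc a * (B⁻¹ * A⁻¹ * B * A) = a * (a⁻¹ * (B⁻¹ * A⁻¹ * B * A) * a) := by rw [h1]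
      _ = (B⁻¹ * A⁻¹ * B * A) * a := by group
  obtain ⟨z, hz, rfl⟩ := hψ.exists_mul_of_eq (hW.trans hb.symm)
  have hza := hψ.comm_of_ker hz a
  calc a * (B⁻¹ * A⁻¹ * B * A * z) = (a * (B⁻¹ * A⁻¹ * B * A)) * z := by group
    _ = (B⁻¹ * A⁻¹ * B * A) * a * z := by rw [hcomm]
    _ = (B⁻¹ * A⁻¹ * B * A) * (a * z) := by group
    _ = (B⁻¹ * A⁻¹ * B * A) * (z * a) := by rw [hza]
    _ = _ := by group

end main

end Cfsg.Agent.Lib.Helper26_S2400_TWODEC
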