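import Mathlib
import Cfsg.Agent.Lib.Helper81_UceA

set_option autoImplicit false

/-!
S2400-WBIADD (architect helper72): the commutator of two additive families, commuting with both
families, is biadditive; over the field with three elements it depends only on the product.
-/

namespace Cfsg.Agent.Lib.Helper26_S2400_WBIADD

open Cfsg.Agent.Lib.Helper81_UceA

variable {E Γ : Type*} [Group E] [Group Γ] {ψ : E →* Γ}

/-- WBIADD (M): the commutator `W t u = (B u)⁻¹ (A t)⁻¹ B u A t` of two additive families, commuting with both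
families, is biadditive; over the field with three elements it depends only on `t * u`. -/
theorem WBIADD {F : Type*} [Field F] (A B : F → E)
    (hA : ∀ t u : F, A (t + u) = A t * A u) (hB : ∀ t u : F, B (t + u) = B t * B u)
    (hWA : ∀ t u t' : F, ((B u)⁻¹ * (A t)⁻¹ * B u * A t) * A t' = A t' * ((B u)⁻¹ * (A t)⁻¹ * B u * A t))
    (hWB : ∀ t u u' : F, ((B u)⁻¹ * (A t)⁻¹ * B u * A t) * B u' = B u' * ((B u)⁻¹ * (A t)⁻¹ * B u * A t)) :
    (∀ t t' u : F, (B u)⁻¹ * (A (t + t'))⁻¹ * B u * A (t + t') =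
      ((B u)⁻¹ * (A t)⁻¹ * B u * A t) * ((B u)⁻¹ * (A t')⁻¹ * B u * A t')) ∧
    (∀ t u u' : F, (B (u + u'))⁻¹ * (A t)⁻¹ * B (u + u') * A t =
      ((B u)⁻¹ * (A t)⁻¹ * B u * A t) * ((B u')⁻¹ * (A t)⁻¹ * B u' * A t)) ∧
    ((∀ t : F, t = 0 ∨ t = 1 ∨ t = -1) → ∀ t u : F, (B u)⁻¹ * (A t)⁻¹ * B u * A t =
      (B 1)⁻¹ * (A (t * u))⁻¹ * B 1 * A (t * u)) := by
  have hA0 : A 0 = 1 := by
    have h := hA 0 0
    rw [add_zero] at h
    exact mul_left_cancel (a := A 0) (by rw [mul_one]; exact h.symm)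
  have hB0 : B 0 = 1 := by
    have h := hB 0 0
    rw [add_zero] at h
    exact mul_left_cancel (a := B 0) (by rw [mul_one]; exact h.symm)
  have P1 : ∀ t t' u : F, (B u)⁻¹ * (A (t + t'))⁻¹ * B u * A (t + t') =
      ((B u)⁻¹ * (A t)⁻¹ * B u * A t) * ((B u)⁻¹ * (A t')⁻¹ * B u * A t') := by
    intro t t' u
    rw [add_comm t t', hA t' t]
    have h := hWA t' u t
    calc (B u)⁻¹ * (A t' * A t)⁻¹ * B u * (A t' * A t)
        = (B u)⁻¹ * (A t)⁻¹ * B u * (((B u)⁻¹ * (A t')⁻¹ * B u * A t') * A t) := by group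
      _ = (B u)⁻¹ * (A t)⁻¹ * B u * (A t * ((B u)⁻¹ * (A t')⁻¹ * B u * A t')) := by rw [h]
      _ = _ := by group
  have P2 : ∀ t u u' : F, (B (u + u'))⁻¹ * (A t)⁻¹ * B (u + u') * A t =
      ((B u)⁻¹ * (A t)⁻¹ * B u * A t) * ((B u')⁻¹ * (A t)⁻¹ * B u' * A t) := by
    intro t u u'
    rw [hB u u']
    have h := hWB t u u'
    have h' : (B u')⁻¹ * ((B u)⁻¹ * (A t)⁻¹ * B u * A t) =
        ((B u)⁻¹ * (A t)⁻¹ * B u * A t) * (B u')⁻¹ := by
      calc (B u')⁻¹ * ((B u)⁻¹ * (A t)⁻¹ * B u * A t)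
          = (B u')⁻¹ * (((B u)⁻¹ * (A t)⁻¹ * B u * A t) * B u') * (B u')⁻¹ := by group
        _ = (B u')⁻¹ * (B u' * ((B u)⁻¹ * (A t)⁻¹ * B u * A t)) * (B u')⁻¹ := by rw [h]
        _ = _ := by group
    calc (B u * B u')⁻¹ * (A t)⁻¹ * (B u * B u') * A t
        = ((B u')⁻¹ * ((B u)⁻¹ * (A t)⁻¹ * B u * A t)) * (A t)⁻¹ * B u' * A t := by group
      _ = (((B u)⁻¹ * (A t)⁻¹ * B u * A t) * (B u')⁻¹) * (A t)⁻¹ * B u' * A t := by rw [h']
      _ = _ := by group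
  refine ⟨P1, P2, ?_⟩
  intro hF t u
  have W0u : ∀ u : F, (B u)⁻¹ * (A 0)⁻¹ * B u * A 0 = 1 := by
    intro u; rw [hA0]; group
  have Wt0 : ∀ t : F, (B 0)⁻¹ * (A t)⁻¹ * B 0 * A t = 1 := by
    intro t; rw [hB0]; group
  rcases hF u with rfl | rfl | rfl
  · rw [mul_zero, Wt0, W0u]
  · rw [mul_one]
  · -- `u = -1`
    have e1 : ((B 1)⁻¹ * (A t)⁻¹ * B 1 * A t) * ((B (-1))⁻¹ * (A t)⁻¹ * B (-1) * A t) = 1 := by
      rw [← P2 t 1 (-1), add_neg_cancel, Wt0]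
    have e2 : ((B 1)⁻¹ * (A t)⁻¹ * B 1 * A t) * ((B 1)⁻¹ * (A (-t))⁻¹ * B 1 * A (-t)) = 1 := by
      rw [← P1 t (-t) 1, add_neg_cancel, W0u]
    rw [mul_neg_one]
    exact mul_left_cancel (e1.trans e2.symm)

end Cfsg.Agent.Lib.Helper26_S2400_WBIADD
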