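import Mathlib
import Cfsg.Agent.Lib.Helper40_GLClassDefs

/-!
# S2478 package CARD (architect helper40): the number of monic polynomials of degree `d` with nonzero
constant term over a finite field
-/

set_option autoImplicit false

namespace Cfsg.Agent.Lib.Helper55_S2478_CARD

open Polynomial DirectSum Cfsg.Agent.Lib.Helper40_GLClassDefs

universe u

/-- the polynomial with prescribed lower coefficients -/
noncomputable def mkPoly {F : Type u} [Field F] (k : ℕ) (c : Fin (k + 1) → F) : F[X] :=
  X ^ (k + 1) + ∑ i : Fin (k + 1), C (c i) * X ^ (i : ℕ)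

theorem mkPoly_monic {F : Type u} [Field F] (k : ℕ) (c : Fin (k + 1) → F) : (mkPoly k c).Monic :=
  monic_X_pow_add (degree_sum_fin_lt c)

theorem mkPoly_natDegree {F : Type u} [Field F] (k : ℕ) (c : Fin (k + 1) → F) :
    (mkPoly k c).natDegree = k + 1 := by
  unfold mkPoly
  rw [natDegree_add_eq_left_of_degree_lt, natDegree_X_pow]
  rw [degree_X_pow]
  exact degree_sum_fin_lt c

theorem mkPoly_coeff {F : Type u} [Field F] (k : ℕ) (c : Fin (k + 1) → F) (i : Fin (k + 1)) :
    (mkPoly k c).coeff (i : ℕ) = c i := by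
  unfold mkPoly
  rw [coeff_add, coeff_X_pow, if_neg (by have := i.2; omega), zero_add, finsetSum_coeff]
  rw [Finset.sum_eq_single i]
  · rw [coeff_C_mul_X_pow, if_pos rfl]
  · intro j _ hj
    rw [coeff_C_mul_X_pow, if_neg]
    intro h
    exact hj (Fin.ext h.symm)
  · intro h
    exact absurd (Finset.mem_univ i) h

theorem card_monicNZ {F : Type u} [Field F] [Fintype F] (d : ℕ) :
    (MonicNZ F d).Finite ∧ Nat.card (MonicNZ F d) = Nq (Fintype.card F) d := by
  classical
  rcases Nat.eq_zero_or_pos d with rfl | hd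
  · have h : MonicNZ F 0 = {1} := by
      ext f
      constructor
      · rintro ⟨hm, hn, -⟩
        exact hm.natDegree_eq_zero.mp hn
      · intro hf
        rw [Set.mem_singleton_iff] at hf
        rw [hf]
        exact ⟨monic_one, natDegree_one, by simp⟩
    rw [h]
    refine ⟨Set.finite_singleton _, ?_⟩
    rw [Nat.card_coe_set_eq, Set.ncard_singleton]
    simp [Nq]
  · obtain ⟨k, rfl⟩ : ∃ k, d = k + 1 := ⟨d - 1, by omega⟩
    let Φ : MonicNZ F (k + 1) → {c : Fin (k + 1) → F // c 0 ≠ 0} := fun f =>
      ⟨fun i => f.1.coeff (i : ℕ), f.2.2.2⟩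
    have hinj : Function.Injective Φ := by
      intro f f' h
      obtain ⟨f, hm, hn, h0⟩ := f
      obtain ⟨f', hm', hn', h0'⟩ := f'
      apply Subtype.ext
      show f = f'
      have h1 : ∀ i : Fin (k + 1), f.coeff (i : ℕ) = f'.coeff (i : ℕ) := fun i =>
        congrFun (congrArg Subtype.val h) i
      ext i
      rcases lt_trichotomy i (k + 1) with hi | hi | hi
      · exact h1 ⟨i, hi⟩
      · rw [hi]
        have e1 := hm.coeff_natDegree
        have e2 := hm'.coeff_natDegree
        rw [hn] at e1
        rw [hn'] at e2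
        rw [e1, e2]
      · rw [coeff_eq_zero_of_natDegree_lt (by rw [hn]; exact hi),
          coeff_eq_zero_of_natDegree_lt (by rw [hn']; exact hi)]
    have hsurj : Function.Surjective Φ := by
      rintro ⟨c, hc⟩
      refine ⟨⟨mkPoly k c, mkPoly_monic k c, mkPoly_natDegree k c, ?_⟩, ?_⟩
      · have := mkPoly_coeff k c 0
        rw [Fin.val_zero] at this
        rw [this]
        exact hc
      · apply Subtype.ext
        funext i
        exact mkPoly_coeff k c i
    have hfin : Finite ↥(MonicNZ F (k + 1)) := Finite.of_injective Φ hinj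
    refine ⟨Set.toFinite _, ?_⟩
    rw [Nat.card_congr (Equiv.ofBijective Φ ⟨hinj, hsurj⟩)]
    -- count
    let e : {c : Fin (k + 1) → F // c 0 ≠ 0} ≃ {a : F // a ≠ 0} × (Fin k → F) :=
      { toFun := fun c => (⟨c.1 0, c.2⟩, fun i => c.1 i.succ)
        invFun := fun p => ⟨Fin.cons p.1.1 p.2, by
          rw [Fin.cons_zero]; exact p.1.2⟩
        left_inv := by
          rintro ⟨c, hc⟩
          apply Subtype.ext
          exact Fin.cons_self_tail c
        right_inv := by
          rintro ⟨⟨a, ha⟩, b⟩
          simp }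
    rw [Nat.card_congr e, Nat.card_prod, Nat.card_eq_fintype_card, Nat.card_eq_fintype_card,
      Fintype.card_subtype_compl, Fintype.card_subtype_eq, Fintype.card_fun, Fintype.card_fin]
    unfold Nq
    rw [if_neg (by omega), Nat.add_sub_cancel]

end Cfsg.Agent.Lib.Helper55_S2478_CARD
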