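import Mathlib
import Cfsg.Agent.Lib.Helper40_GLClassDefs
import Cfsg.Agent.Lib.Helper40_SLClassDefs
import Cfsg.Agent.Lib.Helper55_S2478_CARD

set_option autoImplicit false

/-!
S2479-CONST: the number of monic polynomials of degree `d ≥ 1` with a given constant term is
`q^(d-1)`.
-/

namespace Cfsg.Agent.Lib.Helper26_S2479_CONST

open Polynomial DirectSum Cfsg.Agent.Lib.Helper40_GLClassDefs Cfsg.Agent.Lib.Helper40_SLClassDefs
open Cfsg.Agent.Lib.Helper55_S2478_CARD

universe u v

theorem card_monic_const {F : Type u} [Field F] [Fintype F] (d : ℕ) (hd : 1 ≤ d) (c : F) :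
    {f : F[X] | f.Monic ∧ f.natDegree = d ∧ f.coeff 0 = c}.Finite ∧
      Nat.card {f : F[X] // f.Monic ∧ f.natDegree = d ∧ f.coeff 0 = c} =
        Fintype.card F ^ (d - 1) := by
  classical
  obtain ⟨k, rfl⟩ : ∃ k, d = k + 1 := ⟨d - 1, by omega⟩
  let Φ : {f : F[X] // f.Monic ∧ f.natDegree = k + 1 ∧ f.coeff 0 = c} → (Fin k → F) :=
    fun f i => f.1.coeff ((i : ℕ) + 1)
  have hinj : Function.Injective Φ := by
    intro f f' h
    obtain ⟨f, hm, hn, h0⟩ := f
    obtain ⟨f', hm', hn', h0'⟩ := f'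
    apply Subtype.ext
    show f = f'
    have h1 : ∀ i : Fin k, f.coeff ((i : ℕ) + 1) = f'.coeff ((i : ℕ) + 1) := fun i =>
      congrFun h i
    ext i
    rcases lt_trichotomy i (k + 1) with hi | hi | hi
    · rcases Nat.eq_zero_or_pos i with rfl | hipos
      · rw [h0, h0']
      · obtain ⟨j, rfl⟩ : ∃ j, i = j + 1 := ⟨i - 1, by omega⟩
        exact h1 ⟨j, by omega⟩
    · rw [hi]
      have e1 := hm.coeff_natDegree
      have e2 := hm'.coeff_natDegree
      rw [hn] at e1
      rw [hn'] at e2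
      rw [e1, e2]
    · rw [coeff_eq_zero_of_natDegree_lt (by rw [hn]; exact hi),
        coeff_eq_zero_of_natDegree_lt (by rw [hn']; exact hi)]
  have hsurj : Function.Surjective Φ := by
    intro b
    refine ⟨⟨mkPoly k (Fin.cons c b), mkPoly_monic k _, mkPoly_natDegree k _, ?_⟩, ?_⟩
    · have := mkPoly_coeff k (Fin.cons c b : Fin (k + 1) → F) 0
      rw [Fin.val_zero, Fin.cons_zero] at this
      exact this
    · funext i
      have := mkPoly_coeff k (Fin.cons c b : Fin (k + 1) → F) i.succ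
      rw [Fin.cons_succ, Fin.val_succ] at this
      exact this
  have hfin : Finite {f : F[X] // f.Monic ∧ f.natDegree = k + 1 ∧ f.coeff 0 = c} :=
    Finite.of_injective Φ hinj
  have hfin' : Finite ↑{f : F[X] | f.Monic ∧ f.natDegree = k + 1 ∧ f.coeff 0 = c} := hfin
  refine ⟨Set.toFinite _, ?_⟩
  rw [Nat.card_congr (Equiv.ofBijective Φ ⟨hinj, hsurj⟩), Nat.card_eq_fintype_card,
    Fintype.card_fun, Fintype.card_fin, Nat.add_sub_cancel]

end Cfsg.Agent.Lib.Helper26_S2479_CONST
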