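import Mathlib
import Cfsg.Agent.Lib.Helper40_GLClassDefs
import Cfsg.Agent.Lib.Helper40_SLClassDefs

set_option autoImplicit false

/-!
S2479-DETX: the determinant of multiplication by `X` on `F[X] ⧸ (f)` is `(-1)^(deg f) * f(0)`.
-/

namespace Cfsg.Agent.Lib.Helper26_S2479_DETX

open Polynomial DirectSum Cfsg.Agent.Lib.Helper40_GLClassDefs Cfsg.Agent.Lib.Helper40_SLClassDefs

universe u v

theorem det_X_quot {F : Type u} [Field F] (f : F[X]) (hf : f.Monic) :
    LinearMap.det (DistribSMul.toLinearMap F (F[X] ⧸ Submodule.span F[X] {f}) (X : F[X])) =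
      (-1) ^ f.natDegree * f.coeff 0 := by
  have h1 : (DistribSMul.toLinearMap F (F[X] ⧸ Submodule.span F[X] {f}) (X : F[X])) =
      (LinearMap.mul F (AdjoinRoot f) (AdjoinRoot.root f)) := by
    apply LinearMap.ext
    intro x
    obtain ⟨g, rfl⟩ := Submodule.Quotient.mk_surjective _ x
    rfl
  rw [h1]
  have h2 := Algebra.PowerBasis.norm_gen_eq_coeff_zero_minpoly (AdjoinRoot.powerBasis hf.ne_zero)
  rw [AdjoinRoot.minpoly_powerBasis_gen_of_monic hf, AdjoinRoot.powerBasis_dim,
    AdjoinRoot.powerBasis_gen, Algebra.norm_apply] at h2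
  exact h2

end Cfsg.Agent.Lib.Helper26_S2479_DETX
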