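import Mathlib
import Cfsg.Agent.Lib.Helper76_S2647Defs

set_option autoImplicit false

/-! S2647-OMDET: the determinant of a monomial matrix. -/

open Matrix Cfsg.Agent.Lib.Helper76_S2647Defs

namespace Cfsg.Agent.Lib.Helper26_S2647_OMDET

variable {F : Type*} [Field F]

theorem det_monM (ε : Fin 7 → ℤˣ) (π : Equiv.Perm (Fin 7)) :
    (monM F ε π).det = (((Equiv.Perm.sign π : ℤˣ) : ℤ) : F) * ((((∏ j, ε j : ℤˣ)) : ℤ) : F) := by
  unfold monM
  rw [Matrix.det_mul, Matrix.det_permutation, Matrix.det_diagonal, Equiv.Perm.sign_inv]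
  congr 1
  unfold sgnF
  push_cast
  rfl

end Cfsg.Agent.Lib.Helper26_S2647_OMDET
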