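import Mathlib
import Cfsg.Agent.Lib.Helper76_S2647Defs

set_option autoImplicit false

/-! S2647-SQ2: for `q ≡ ±3 mod 8`, `2 ≠ 0` and `2` is a nonsquare. -/

open Matrix Cfsg.Agent.Lib.Helper76_S2647Defs

namespace Cfsg.Agent.Lib.Helper26_S2647_SQ2

variable {F : Type*} [Field F] [Fintype F]

theorem sq2 (hq : Fintype.card F % 8 = 3 ∨ Fintype.card F % 8 = 5) :
    (2 : F) ≠ 0 ∧ ¬ IsSquare (2 : F) := by
  have h2 : (2 : F) ≠ 0 := by
    intro h
    have hc : ringChar F = 2 := by
      have : ringChar F ∣ 2 := by
        have := (ringChar.spec F 2).mp (by exact_mod_cast h)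
        exact this
      rcases (Nat.dvd_prime Nat.prime_two).mp this with h1 | h1
      · exfalso
        have := CharP.ringChar_ne_one (R := F)
        exact this h1
      · exact h1
    have heven := FiniteField.even_card_of_char_two hc
    rcases hq with hq | hq <;> omega
  refine ⟨h2, ?_⟩
  rw [FiniteField.isSquare_two_iff]
  rcases hq with hq | hq <;> omega

end Cfsg.Agent.Lib.Helper26_S2647_SQ2
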