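import Mathlib
import Cfsg.Agent.Lib.Helper56_S3390Defs

set_option autoImplicit false
set_option linter.unusedVariables false

/-!
S3390 (Magaard–Waldecker, fixity 2), package FROBBP: no element of odd prime order fixes two
points of one `N`-orbit.
-/

open Cfsg.Agent.Lib.Helper56_S3390Defs

namespace Cfsg.Agent.Lib.Helper26_S3390_FROBBP

variable {G : Type*} [Group G] {Ω : Type*} [MulAction G Ω]

/-- an element of odd order commuting with a nonidentity element `a` that fixes two distinct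
points fixes both of them -/
lemma fixes_of_commute (h2 : Fix2 G Ω) {a b : G} (ha : a ≠ 1) (hab : a * b = b * a) {ω δ : Ω}
    (hne : ω ≠ δ) (haω : a • ω = ω) (haδ : a • δ = δ) (hodd : Odd (orderOf b)) :
    b • ω = ω ∧ b • δ = δ := by
  have h1 : ∀ γ : Ω, a • γ = γ → a • (b • γ) = b • γ := by
    intro γ hγ
    rw [← mul_smul, hab, mul_smul, hγ]
  have hω : b • ω = ω ∨ b • ω = δ := by
    rcases h2 a ha ω δ (b • ω) haω haδ (h1 ω haω) with h | h | h
    · exact absurd h hne
    · exact Or.inl h.symm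
    · exact Or.inr h.symm
  have hδ : b • δ = ω ∨ b • δ = δ := by
    rcases h2 a ha ω δ (b • δ) haω haδ (h1 δ haδ) with h | h | h
    · exact absurd h hne
    · exact Or.inl h.symm
    · exact Or.inr h.symm
  have hinj : b • ω ≠ b • δ := fun h => hne (MulAction.injective b h)
  have hswap : ¬ (b • ω = δ ∧ b • δ = ω) := by
    rintro ⟨h3, h4⟩
    obtain ⟨j, hj⟩ := hodd
    have hsδ : b ^ 2 ∈ MulAction.stabilizer G δ := by
      rw [MulAction.mem_stabilizer_iff, pow_two, mul_smul, h4, h3]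
    have h5 : (b ^ 2) ^ j ∈ MulAction.stabilizer G δ := Subgroup.pow_mem _ hsδ j
    have h6 : b ^ (2 * j + 1) = 1 := by
      rw [← hj]
      exact pow_orderOf_eq_one b
    have h7 : b ^ (2 * j + 1) • ω = δ := by
      rw [pow_succ, pow_mul, mul_smul, h3]
      exact MulAction.mem_stabilizer_iff.mp h5
    rw [h6, one_smul] at h7
    exact hne h7
  rcases hω with h3 | h3
  · refine ⟨h3, ?_⟩
    rcases hδ with h4 | h4
    · exact absurd (h3.trans h4.symm) hinj
    · exact h4
  · rcases hδ with h4 | h4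
    · exact absurd ⟨h3, h4⟩ hswap
    · exact absurd (h3.trans h4.symm) hinj

theorem no_two_fixed_odd [Finite G] (h2 : Fix2 G Ω)
    (N : Subgroup G) (hN : N.Normal) (hNi : N.index = 2)
    (hstab : ∀ x : G, ∀ ω : Ω, x • ω = ω → x ∈ N) (s : G) (hsN : s ∉ N)
    (p : ℕ) [Fact p.Prime] (hp : p ≠ 2) (x : G) (hx : orderOf x = p) (ω : Ω) (g : G) (hg : g ∈ N)
    (hgω : g • ω ≠ ω) (hxω : x • ω = ω) (hxg : x • (g • ω) = g • ω) : False := by
  have hpp : p.Prime := Fact.out
  have hpodd : Odd p := hpp.odd_of_ne_two hp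
  have hx1 : x ≠ 1 := by
    intro h
    rw [h, orderOf_one] at hx
    exact hpp.one_lt.ne hx
  have hne : ω ≠ g • ω := fun h => hgω h.symm
  -- a Sylow `p`-subgroup containing `x`
  have hzp : IsPGroup p (Subgroup.zpowers x) := by
    apply IsPGroup.of_card (n := 1)
    rw [Nat.card_zpowers, hx, pow_one]
  obtain ⟨P, hP⟩ := hzp.exists_le_sylow
  have hxP : x ∈ (P : Subgroup G) := hP (Subgroup.mem_zpowers x)
  have hoddP : ∀ n ∈ (P : Subgroup G), Odd (orderOf n) := by
    intro n hn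
    obtain ⟨k, hk⟩ := P.isPGroup' ⟨n, hn⟩
    have h1 : n ^ p ^ k = 1 := by
      have := congrArg Subtype.val hk
      simpa using this
    exact Odd.of_dvd_nat hpodd.pow (orderOf_dvd_of_pow_eq_one h1)
  -- a nontrivial central element of `P`
  have : Nontrivial ↥(P : Subgroup G) :=
    ⟨⟨⟨x, hxP⟩, 1, fun h => hx1 (congrArg Subtype.val h)⟩⟩
  have := P.isPGroup'.center_nontrivial
  obtain ⟨z, hz1⟩ := exists_ne (1 : ↥(Subgroup.center ↥(P : Subgroup G)))
  have hzP : ((z : ↥(P : Subgroup G)) : G) ∈ (P : Subgroup G) := (z : ↥(P : Subgroup G)).2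
  have hz1' : ((z : ↥(P : Subgroup G)) : G) ≠ 1 := by
    intro h
    apply hz1
    apply Subtype.ext
    apply Subtype.ext
    simpa using h
  have hzc : ∀ n ∈ (P : Subgroup G), ((z : ↥(P : Subgroup G)) : G) * n =
      n * ((z : ↥(P : Subgroup G)) : G) := by
    intro n hn
    have h1 := Subgroup.mem_center_iff.mp z.2 ⟨n, hn⟩
    have h3 := congrArg Subtype.val h1
    simpa using h3.symm
  -- `z` fixes `ω` and `g • ω`
  obtain ⟨hzω, hzδ⟩ := fixes_of_commute h2 hx1 (hzc x hxP).symm hne hxω hxg (hoddP _ hzP)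
  -- hence so does all of `P`
  have hPfix : ∀ n ∈ (P : Subgroup G), n • ω = ω ∧ n • (g • ω) = g • ω := fun n hn =>
    fixes_of_commute h2 hz1' (hzc n hn) hne hzω hzδ (hoddP n hn)
  have hPN : (P : Subgroup G) ≤ N := fun n hn => hstab n ω (hPfix n hn).1
  -- Frattini
  have := hN
  have hfr := Sylow.normalizer_sup_eq_top' P hPN
  have hs : s ∈ (Subgroup.normalizer (P : Set G) ⊔ N : Subgroup G) := by
    rw [hfr]
    exact Subgroup.mem_top s
  rw [← SetLike.mem_coe, Subgroup.mul_normal] at hs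
  obtain ⟨n, hn, k, hk, rfl⟩ := Set.mem_mul.mp hs
  apply hsN
  refine N.mul_mem ?_ hk
  have hy : n * x * n⁻¹ ∈ (P : Subgroup G) := (Subgroup.mem_normalizer_iff.mp hn x).mp hxP
  have hy1 : n * x * n⁻¹ ≠ 1 := by
    intro h
    exact hx1 (conj_eq_one_iff.mp h)
  obtain ⟨hyω, hyδ⟩ := hPfix _ hy
  have hyn : (n * x * n⁻¹) • (n • ω) = n • ω := by
    rw [← mul_smul, inv_mul_cancel_right, mul_smul, hxω]
  rcases h2 _ hy1 ω (g • ω) (n • ω) hyω hyδ hyn with h | h | h
  · exact absurd h hne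
  · exact hstab n ω h.symm
  · have h3 : (g⁻¹ * n) • ω = ω := by
      rw [mul_smul, ← h, ← mul_smul, inv_mul_cancel, one_smul]
    have h4 := hstab _ ω h3
    have h5 := N.mul_mem hg h4
    rwa [mul_inv_cancel_left] at h5

end Cfsg.Agent.Lib.Helper26_S3390_FROBBP
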