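import Mathlib
import Cfsg.Prelude.Def_Classical
import Cfsg.Agent.Lib.Helper13_Herm
import Cfsg.Agent.Lib.Helper5_SUCenter
import Cfsg.Agent.Lib.Helper44_PSLnUT
import Cfsg.Agent.Lib.Helper32_PGroup
import Cfsg.Agent.Lib.Helper88_PSLnFusDefs
import Cfsg.Agent.Lib.Helper88_PSUFusDefs

/-!
# S5172 package A3 (helper26, architect helper88): the diagonal elements of `GJ`, `hhJ ∈ GJ`
-/

set_option autoImplicit false

namespace Cfsg.Agent.Lib.Helper26_S5172_A3

open Matrix Cfsg.Agent.Lib.Helper44_PSLnUT Cfsg.Agent.Lib.Helper88_PSLnFus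
  Cfsg.Agent.Lib.Helper88_PSUFus

variable {F : Type*} [Field F] [Fintype F] {q : ℕ}

omit [Fintype F] in
/-- `hermJ` after a diagonal matrix -/
theorem hermJ_diag {n : ℕ} (d : Fin n → F) (u v : Fin n → F) :
    hermJ n F q (Matrix.diagonal d *ᵥ u) (Matrix.diagonal d *ᵥ v) =
      ∑ i, (d i * (d (Fin.rev i)) ^ q) * (u i * (v (Fin.rev i)) ^ q) := by
  unfold hermJ
  refine Finset.sum_congr rfl fun i _ => ?_
  rw [Matrix.mulVec_diagonal, Matrix.mulVec_diagonal, mul_pow]
  ring

/-- **A3**  diagonal elements of `GJ`; in particular `hhJ ∈ GJ`. -/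
theorem A3_diag (hF : Fintype.card F = q ^ 2) {n : ℕ} (g : SpecialLinearGroup (Fin n) F)
    (d : Fin n → F) (hg : g.1 = Matrix.diagonal d) :
    g ∈ GJ n F q ↔ ∀ k : Fin n, d k * (d (Fin.rev k)) ^ q = 1 := by
  have hq : q ≠ 0 := by
    have := Cfsg.Agent.Lib.Helper13_Herm.two_le_q hF
    omega
  rw [mem_GJ]
  constructor
  · intro h k
    have h1 := h (Pi.single k 1) (Pi.single (Fin.rev k) 1)
    rw [hg, hermJ_diag] at h1
    have e1 : ∀ (c : Fin n → F), (∑ i, c i * ((Pi.single k 1 : Fin n → F) i *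
        ((Pi.single (Fin.rev k) 1 : Fin n → F) (Fin.rev i)) ^ q)) = c k := by
      intro c
      rw [Finset.sum_eq_single k]
      · rw [Pi.single_eq_same, Pi.single_eq_same, one_pow, mul_one, mul_one]
      · intro b _ hb
        rw [Pi.single_eq_of_ne hb, zero_mul, mul_zero]
      · intro hk; exact absurd (Finset.mem_univ _) hk
    rw [e1 (fun i => d i * d (Fin.rev i) ^ q)] at h1
    have e2 := e1 (fun _ => 1)
    simp only [one_mul] at e2
    unfold hermJ at h1
    rw [e2] at h1
    exact h1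
  · intro h u v
    rw [hg, hermJ_diag]
    unfold hermJ
    refine Finset.sum_congr rfl fun i _ => ?_
    rw [h i, one_mul]

theorem A3_hhJ (hF : Fintype.card F = q ^ 2) {n : ℕ} {i j : Fin n} (hij : i ≠ j)
    (hi : i ≠ Fin.rev i) (hj : j ≠ Fin.rev j) (hij' : i ≠ Fin.rev j) (s : Fˣ) :
    hhJ q hij s ∈ GJ n F q := by
  have hji' : j ≠ Fin.rev i := fun e => hij' (by rw [e, Fin.rev_rev])
  have hrr : Fin.rev i ≠ Fin.rev j := fun e => hij (Fin.rev_injective e)
  have hqq : ((s : F) ^ q) ^ q = (s : F) := Cfsg.Agent.Lib.Helper13_Herm.pow_q_pow_q hF _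
  have hs0 : (s : F) ≠ 0 := s.ne_zero
  have hcoe : (hhJ q hij s).1 = Matrix.diagonal
      (fun k => hhFun i j s k * hhFun (Fin.rev j) (Fin.rev i) (s ^ q) k) := by
    show (hh hij s).1 * (hh (rev_ne hij) (s ^ q)).1 = _
    rw [hh_coe, hh_coe, Matrix.diagonal_mul_diagonal]
  rw [A3_diag hF _ _ hcoe]
  intro k
  have key : ∀ x : Fin n, hhFun i j s x * hhFun (Fin.rev j) (Fin.rev i) (s ^ q) x =
      if x = i then (s : F) else if x = j then (s : F)⁻¹ else if x = Fin.rev j then (s : F) ^ q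
        else if x = Fin.rev i then ((s : F) ^ q)⁻¹ else 1 := by
    intro x
    unfold hhFun
    by_cases h1 : x = i
    · subst h1
      rw [if_pos rfl, if_neg hij', if_neg hi, mul_one, if_pos rfl]
    · by_cases h2 : x = j
      · subst h2
        rw [if_neg h1, if_pos rfl, if_neg hj, if_neg hji', mul_one, if_neg h1, if_pos rfl,
          Units.val_inv_eq_inv_val]
      · by_cases h3 : x = Fin.rev j
        · subst h3
          rw [if_neg h1, if_neg h2, if_pos rfl, one_mul, if_neg h1, if_neg h2, if_pos rfl,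
            Units.val_pow_eq_pow_val]
        · by_cases h4 : x = Fin.rev i
          · subst h4
            rw [if_neg h1, if_neg h2, if_neg h3, if_pos rfl, one_mul, if_neg h1, if_neg h2,
              if_neg h3, if_pos rfl, Units.val_inv_eq_inv_val, Units.val_pow_eq_pow_val]
          · rw [if_neg h1, if_neg h2, if_neg h3, if_neg h4, one_mul, if_neg h1, if_neg h2,
              if_neg h3, if_neg h4]
  show hhFun i j s k * hhFun (Fin.rev j) (Fin.rev i) (s ^ q) k *
    (hhFun i j s (Fin.rev k) * hhFun (Fin.rev j) (Fin.rev i) (s ^ q) (Fin.rev k)) ^ q = 1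
  rw [key, key]
  by_cases h1 : k = i
  · subst h1
    rw [if_pos rfl, if_neg hi.symm, if_neg hji'.symm, if_neg hrr, if_pos rfl, inv_pow, hqq]
    exact mul_inv_cancel₀ hs0
  · have h1' : Fin.rev k ≠ Fin.rev i := fun e => h1 (Fin.rev_injective e)
    by_cases h2 : k = j
    · subst h2
      rw [if_neg h1, if_pos rfl, if_neg hij'.symm, if_neg hj.symm, if_pos rfl, hqq]
      exact inv_mul_cancel₀ hs0
    · have h2' : Fin.rev k ≠ Fin.rev j := fun e => h2 (Fin.rev_injective e)
      by_cases h3 : k = Fin.rev j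
      · subst h3
        rw [if_neg h1, if_neg h2, if_pos rfl, Fin.rev_rev, if_neg hij.symm, if_pos rfl, inv_pow]
        exact mul_inv_cancel₀ (pow_ne_zero _ hs0)
      · have h3' : Fin.rev k ≠ j := fun e => h3 (by rw [← e, Fin.rev_rev])
        by_cases h4 : k = Fin.rev i
        · subst h4
          rw [if_neg h1, if_neg h2, if_neg h3, if_pos rfl, Fin.rev_rev, if_pos rfl]
          exact inv_mul_cancel₀ (pow_ne_zero _ hs0)
        · have h4' : Fin.rev k ≠ i := fun e => h4 (by rw [← e, Fin.rev_rev])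
          rw [if_neg h1, if_neg h2, if_neg h3, if_neg h4, if_neg h4', if_neg h3', if_neg h2',
            if_neg h1', one_pow, mul_one]

end Cfsg.Agent.Lib.Helper26_S5172_A3
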