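import Mathlib
import Cfsg.Prelude.Def_Classical
import Cfsg.Agent.Lib.Helper42_SL2Class

/-!
# Definitions for S5320 (the 2-fusion system of `PSp₄(q)`, `q` odd, is simple)  (helper76)

Index order of `Fin 2 ⊕ Fin 2`: `inl 0, inl 1, inr 0, inr 1`; Mathlib's `J = [0 -1; 1 0]` pairs `inl i` with
`inr i`, so `V₁ = ⟨inl 0, inr 0⟩`, `V₂ = ⟨inl 1, inr 1⟩` are two orthogonal hyperbolic planes.

* `blkM A B` acts as `A` on `V₁` and as `B` on `V₂`; `blk : SL₂ × SL₂ →* Sp₄`.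
* `tau` swaps `V₁` and `V₂`; `negOne = -1`; `zt = blk (-1, 1)`.
* `Ht = blk(SL₂ × SL₂)⟨tau⟩`, `St Q = blk(Q × Q)⟨tau⟩`, `Rt Q = ⟨blk(c,c) (c ∈ Q), tau, zt⟩`.
* `X a b h`, `Y` generate a quaternion group `Q8 a b h ≤ SL₂(F)` (`a² + b² = -1`), `om` is an element of
  order 3 normalizing it.
* `FusLocalFamMod N S Q`: the hypotheses of `Helper88_FusFam.FusLocalFam` read modulo a normal subgroup `N ≤ S`.
-/

set_option autoImplicit false

namespace Cfsg.Agent.Lib.Helper76_S5320Defs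

open Matrix Cfsg.Agent.Lib.Helper42_SL2Class

/-- `SL₂(F)` -/
abbrev SL2 (F : Type*) [Field F] := Matrix.SpecialLinearGroup (Fin 2) F

/-- `Sp₄(F)` -/
abbrev Sp4 (F : Type*) [Field F] := ↥(Matrix.symplecticGroup (Fin 2) F)

variable {F : Type*} [Field F]

/-- the block matrix acting as `A` on `⟨inl 0, inr 0⟩` and as `B` on `⟨inl 1, inr 1⟩` -/
def blkM (A B : Matrix (Fin 2) (Fin 2) F) : Matrix (Fin 2 ⊕ Fin 2) (Fin 2 ⊕ Fin 2) F :=
  Matrix.fromBlocks (Matrix.diagonal ![A 0 0, B 0 0]) (Matrix.diagonal ![A 0 1, B 0 1])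
    (Matrix.diagonal ![A 1 0, B 1 0]) (Matrix.diagonal ![A 1 1, B 1 1])

theorem blkM_mul (A B A' B' : Matrix (Fin 2) (Fin 2) F) :
    blkM A B * blkM A' B' = blkM (A * A') (B * B') := by
  unfold blkM
  rw [Matrix.fromBlocks_multiply]
  simp only [Matrix.diagonal_mul_diagonal, Matrix.diagonal_add, Matrix.mul_apply, Fin.sum_univ_two]
  congr 1 <;> · congr 1; ext i; fin_cases i <;> simp

theorem blkM_one : blkM (1 : Matrix (Fin 2) (Fin 2) F) 1 = 1 := by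
  unfold blkM
  rw [← Matrix.fromBlocks_one]
  congr 1 <;> · ext i j; fin_cases i <;> fin_cases j <;> simp

theorem blkM_mem (A B : Matrix (Fin 2) (Fin 2) F) (hA : A.det = 1) (hB : B.det = 1) :
    blkM A B ∈ Matrix.symplecticGroup (Fin 2) F := by
  rw [SymplecticGroup.mem_iff]
  rw [Matrix.det_fin_two] at hA hB
  unfold blkM Matrix.J
  rw [Matrix.fromBlocks_multiply, Matrix.fromBlocks_transpose, Matrix.fromBlocks_multiply]
  simp only [Matrix.diagonal_transpose, Matrix.mul_zero, Matrix.mul_one, Matrix.mul_neg, zero_add,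
    add_zero, Matrix.diagonal_mul_diagonal, Matrix.neg_mul]
  congr 1
  all_goals
    ext i j
    fin_cases i <;> fin_cases j <;> simp
  all_goals
    first
      | linear_combination hA
      | linear_combination hB
      | linear_combination -hA
      | linear_combination -hB
      | ring

/-- `SL₂ × SL₂ → Sp₄`, block diagonal on `V₁ ⊥ V₂` -/
def blk : SL2 F × SL2 F →* Sp4 F where
  toFun p := ⟨blkM p.1.1 p.2.1, blkM_mem _ _ p.1.2 p.2.2⟩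
  map_one' := by
    apply Subtype.ext
    show blkM (1 : SL2 F).1 (1 : SL2 F).1 = 1
    exact blkM_one
  map_mul' p p' := by
    apply Subtype.ext
    show blkM (p.1 * p'.1).1 (p.2 * p'.2).1 = blkM p.1.1 p.2.1 * blkM p'.1.1 p'.2.1
    rw [blkM_mul]
    rfl

theorem blk_coe (p : SL2 F × SL2 F) :
    ((blk p : Sp4 F) : Matrix (Fin 2 ⊕ Fin 2) (Fin 2 ⊕ Fin 2) F) = blkM p.1.1 p.2.1 := rfl

/-- the matrix swapping `V₁` and `V₂` -/
def tauM : Matrix (Fin 2 ⊕ Fin 2) (Fin 2 ⊕ Fin 2) F :=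
  Matrix.fromBlocks !![0, 1; 1, 0] 0 0 !![0, 1; 1, 0]

theorem tauM_mem : (tauM : Matrix (Fin 2 ⊕ Fin 2) (Fin 2 ⊕ Fin 2) F) ∈ Matrix.symplecticGroup (Fin 2) F := by
  rw [SymplecticGroup.mem_iff]
  unfold tauM Matrix.J
  rw [Matrix.fromBlocks_multiply, Matrix.fromBlocks_transpose, Matrix.fromBlocks_multiply]
  congr 1
  all_goals
    ext i j
    fin_cases i <;> fin_cases j <;>
      simp [Fin.sum_univ_two, Matrix.vecMul, dotProduct]

/-- the swap of `V₁` and `V₂`, an involution of `Sp₄` -/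
def tau : Sp4 F := ⟨tauM, tauM_mem⟩

/-- `-1 ∈ Sp₄` -/
def negOne : Sp4 F := ⟨-1, SymplecticGroup.neg_mem (one_mem _)⟩

/-- `zt = blk (-1, 1)`: the involution `-1` on `V₁`, `1` on `V₂` -/
def zt : Sp4 F := blk (negS 1, 1)

/-- `Ht = blk(SL₂ × SL₂)⟨tau⟩`, the stabilizer of the decomposition `{V₁, V₂}` -/
def Ht : Subgroup (Sp4 F) := (blk (F := F)).range ⊔ Subgroup.zpowers tau

/-- `St Q = blk(Q × Q)⟨tau⟩` -/
def St (Q : Subgroup (SL2 F)) : Subgroup (Sp4 F) := (Q.prod Q).map blk ⊔ Subgroup.zpowers tau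

/-- `Rt Q = ⟨blk(c,c) (c ∈ Q), tau, zt⟩` (for `Q = Q₈` this is `Q₈ ∘ D₈ = 2^{1+4}_-`) -/
def Rt (Q : Subgroup (SL2 F)) : Subgroup (Sp4 F) :=
  Subgroup.closure ({g | ∃ c ∈ Q, g = blk (c, c)} ∪ {tau, zt})

/-- `X = [a b; b -a]`, of order 4 when `a² + b² = -1` -/
def X (a b : F) (h : a * a + b * b = -1) : SL2 F :=
  ⟨!![a, b; b, -a], by rw [Matrix.det_fin_two_of]; linear_combination -h⟩

/-- `Y = [0 -1; 1 0]` -/
def Y : SL2 F := ⟨!![0, -1; 1, 0], by rw [Matrix.det_fin_two_of]; ring⟩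

/-- the quaternion group `⟨X, Y⟩` -/
def Q8 (a b : F) (h : a * a + b * b = -1) : Subgroup (SL2 F) := Subgroup.closure {X a b h, Y}

/-- `ω = (-1 + X + Y + XY)/2`, an element of order 3 with `ω X ω⁻¹ = XY`, `ω Y ω⁻¹ = X` -/
def om (a b : F) (h : a * a + b * b = -1) (h2 : (2 : F) ≠ 0) : SL2 F :=
  ⟨!![(-1 + a + b) / 2, (b - 1 - a) / 2; (b + 1 - a) / 2, (-1 - a - b) / 2], by
    rw [Matrix.det_fin_two_of]
    field_simp
    linear_combination -2 * h⟩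

/-- `c` is one of the eight elements `±1, ±X, ±Y, ±XY` -/
def E8 (a b : F) (h : a * a + b * b = -1) (c : SL2 F) : Prop :=
  c = 1 ∨ c = negS 1 ∨ c = X a b h ∨ c = negS (X a b h) ∨ c = Y ∨ c = negS Y ∨
    c = X a b h * Y ∨ c = negS (X a b h * Y)

/-- The hypotheses of `Helper88_FusFam.FusLocalFam`, read modulo a subgroup `N ≤ S` (in use `N` is the centre). -/
def FusLocalFamMod {G : Type*} [Group G] {ι : Type*} (N S : Subgroup G) (Q : ι → Subgroup G) : Prop :=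
  N ≤ S ∧ (∃ s ∈ S, s ∉ N) ∧
  (∀ T : Subgroup G, N ≤ T → T ≤ S → T ≠ N →
    (∀ t ∈ T, ∀ g : G, g * t * g⁻¹ ∈ S → g * t * g⁻¹ ∈ T) → T = S) ∧
  (∀ i, N ≤ Q i ∧ Q i ≤ S) ∧
  (∀ i, ∀ n : G, (∀ s ∈ S, n * s * n⁻¹ ∈ S) → ∀ q ∈ Q i, n * q * n⁻¹ ∈ Q i) ∧
  (∀ i, ∀ c : G, (∀ q ∈ Q i, c * q * c⁻¹ * q⁻¹ ∈ N) → c ∈ S) ∧
  (∀ n : G, (∀ s ∈ S, n * s * n⁻¹ ∈ S) →
    n ∈ Subgroup.closure {x : G | (∀ s ∈ S, x * s * x⁻¹ ∈ S) ∧
      ∃ i, x ∈ Subgroup.closure {y : G | ∃ m : G, (∀ q ∈ Q i, m * q * m⁻¹ ∈ Q i) ∧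
        ∃ s ∈ S, y = m * s * m⁻¹}})

end Cfsg.Agent.Lib.Helper76_S5320Defs
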