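import Mathlib
import Cfsg.Agent.Lib.Helper76_S5320Defs
import Cfsg.Agent.S0246

/-!
# Basic API for the S5320 definitions (helper76)
-/

set_option autoImplicit false

namespace Cfsg.Agent.Lib.Helper76_S5320Bas

open Matrix Cfsg.Agent.Lib.Helper42_SL2Class Cfsg.Agent.Lib.Helper76_S5320Defs

variable {F : Type*} [Field F]

theorem blkM_apply_inl_inl (A B : Matrix (Fin 2) (Fin 2) F) (i j : Fin 2) :
    blkM A B (Sum.inl i) (Sum.inl j) = Matrix.diagonal ![A 0 0, B 0 0] i j := rfl

theorem blkM_apply_inl_inr (A B : Matrix (Fin 2) (Fin 2) F) (i j : Fin 2) :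
    blkM A B (Sum.inl i) (Sum.inr j) = Matrix.diagonal ![A 0 1, B 0 1] i j := rfl

theorem blkM_apply_inr_inl (A B : Matrix (Fin 2) (Fin 2) F) (i j : Fin 2) :
    blkM A B (Sum.inr i) (Sum.inl j) = Matrix.diagonal ![A 1 0, B 1 0] i j := rfl

theorem blkM_apply_inr_inr (A B : Matrix (Fin 2) (Fin 2) F) (i j : Fin 2) :
    blkM A B (Sum.inr i) (Sum.inr j) = Matrix.diagonal ![A 1 1, B 1 1] i j := rfl

theorem blkM_injective {A B A' B' : Matrix (Fin 2) (Fin 2) F} (h : blkM A B = blkM A' B') :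
    A = A' ∧ B = B' := by
  have h00 := congrFun (congrFun h (Sum.inl 0)) (Sum.inl 0)
  have h11 := congrFun (congrFun h (Sum.inl 1)) (Sum.inl 1)
  have h02 := congrFun (congrFun h (Sum.inl 0)) (Sum.inr 0)
  have h13 := congrFun (congrFun h (Sum.inl 1)) (Sum.inr 1)
  have h20 := congrFun (congrFun h (Sum.inr 0)) (Sum.inl 0)
  have h31 := congrFun (congrFun h (Sum.inr 1)) (Sum.inl 1)
  have h22 := congrFun (congrFun h (Sum.inr 0)) (Sum.inr 0)
  have h33 := congrFun (congrFun h (Sum.inr 1)) (Sum.inr 1)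
  simp only [blkM_apply_inl_inl, blkM_apply_inl_inr, blkM_apply_inr_inl, blkM_apply_inr_inr,
    Matrix.diagonal_apply_eq, Matrix.cons_val_zero, Matrix.cons_val_one] at h00 h11 h02 h13 h20 h31 h22 h33
  constructor
  · ext i j; fin_cases i <;> fin_cases j <;> assumption
  · ext i j; fin_cases i <;> fin_cases j <;> assumption

theorem blk_injective : Function.Injective (blk (F := F)) := by
  intro p p' h
  have h' := congrArg Subtype.val h
  rw [blk_coe, blk_coe] at h'
  obtain ⟨h1, h2⟩ := blkM_injective h'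
  exact Prod.ext (Subtype.ext h1) (Subtype.ext h2)

theorem tauM_mul_tauM : (tauM : Matrix (Fin 2 ⊕ Fin 2) (Fin 2 ⊕ Fin 2) F) * tauM = 1 := by
  unfold tauM
  rw [Matrix.fromBlocks_multiply, ← Matrix.fromBlocks_one]
  congr 1
  all_goals
    ext i j
    fin_cases i <;> fin_cases j <;> simp

theorem tau_mul_tau : (tau : Sp4 F) * tau = 1 := Subtype.ext tauM_mul_tauM

theorem tau_inv : (tau : Sp4 F)⁻¹ = tau := inv_eq_of_mul_eq_one_left tau_mul_tau

theorem tauM_mul_blkM (A B : Matrix (Fin 2) (Fin 2) F) : tauM * blkM A B = blkM B A * tauM := by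
  unfold tauM blkM
  rw [Matrix.fromBlocks_multiply, Matrix.fromBlocks_multiply]
  congr 1
  all_goals
    ext i j
    fin_cases i <;> fin_cases j <;>
      simp [Matrix.mul_apply, Matrix.vecMul, dotProduct, Matrix.diagonal_apply]

theorem tau_mul_blk (c d : SL2 F) : tau * blk (c, d) = blk (d, c) * tau :=
  Subtype.ext (tauM_mul_blkM c.1 d.1)

theorem tau_conj_blk (c d : SL2 F) : tau * blk (c, d) * tau⁻¹ = blk (d, c) := by
  rw [tau_mul_blk, mul_assoc, mul_inv_cancel, mul_one]

theorem blk_mul (c d c' d' : SL2 F) : blk (c, d) * blk (c', d') = blk (c * c', d * d') := by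
  rw [← map_mul]; rfl

theorem blk_inv (c d : SL2 F) : (blk (c, d))⁻¹ = blk (c⁻¹, d⁻¹) := by
  rw [← map_inv]; rfl

theorem blk_one : blk ((1 : SL2 F), (1 : SL2 F)) = 1 := map_one blk

theorem negOne_coe : ((negOne : Sp4 F) : Matrix (Fin 2 ⊕ Fin 2) (Fin 2 ⊕ Fin 2) F) = -1 := rfl

theorem negOne_eq_blk : (negOne : Sp4 F) = blk (negS 1, negS 1) := by
  apply Subtype.ext
  rw [blk_coe, negOne_coe]
  show (-1 : Matrix (Fin 2 ⊕ Fin 2) (Fin 2 ⊕ Fin 2) F) = blkM (-(1 : Matrix (Fin 2) (Fin 2) F)) (-(1 : Matrix (Fin 2) (Fin 2) F))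
  unfold blkM
  rw [← Matrix.fromBlocks_one, Matrix.fromBlocks_neg]
  congr 1
  all_goals
    ext i j
    fin_cases i <;> fin_cases j <;> simp

theorem negOne_mul_negOne : (negOne : Sp4 F) * negOne = 1 := by
  apply Subtype.ext
  show (-1 : Matrix (Fin 2 ⊕ Fin 2) (Fin 2 ⊕ Fin 2) F) * -1 = 1
  simp

theorem negOne_mul_comm (g : Sp4 F) : negOne * g = g * negOne := by
  apply Subtype.ext
  show (-1 : Matrix (Fin 2 ⊕ Fin 2) (Fin 2 ⊕ Fin 2) F) * g.1 = g.1 * -1
  simp

theorem negOne_mem_center : (negOne : Sp4 F) ∈ Subgroup.center (Sp4 F) := by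
  rw [Subgroup.mem_center_iff]
  intro g
  exact (negOne_mul_comm g).symm

theorem mem_center_iff (z : Sp4 F) : z ∈ Subgroup.center (Sp4 F) ↔ z = 1 ∨ z = negOne := by
  constructor
  · intro hz
    rcases Cfsg.Agent.S0246.center_eq_one_or_neg_one 2 (by norm_num) z hz with h | h
    · left; exact Subtype.ext h
    · right; exact Subtype.ext h
  · rintro (rfl | rfl)
    · exact Subgroup.one_mem _
    · exact negOne_mem_center

theorem negS_mul_negS : negS 1 * negS 1 = (1 : SL2 F) := by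
  apply Subtype.ext
  show (-(1 : Matrix (Fin 2) (Fin 2) F)) * (-(1 : Matrix (Fin 2) (Fin 2) F)) = 1
  simp

theorem negS_eq (c : SL2 F) : negS c = negS 1 * c := by
  apply Subtype.ext
  show -c.1 = (-(1 : Matrix (Fin 2) (Fin 2) F)) * c.1
  simp

theorem negS_eq' (c : SL2 F) : negS c = c * negS 1 := by
  apply Subtype.ext
  show -c.1 = c.1 * (-(1 : Matrix (Fin 2) (Fin 2) F))
  simp

theorem negOne_mul_blk (c d : SL2 F) : negOne * blk (c, d) = blk (negS c, negS d) := by
  rw [negOne_eq_blk, blk_mul, ← negS_eq, ← negS_eq]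

/-- `blk p` and `blk p' * tau` have different shapes. -/
theorem blk_ne_blk_mul_tau (p p' : SL2 F × SL2 F) : blk p ≠ blk p' * tau := by
  intro h
  have h' := congrArg Subtype.val h
  have e : ((blk p' * tau : Sp4 F) : Matrix (Fin 2 ⊕ Fin 2) (Fin 2 ⊕ Fin 2) F) = blkM p'.1.1 p'.2.1 * tauM := rfl
  rw [blk_coe, e] at h'
  -- compare the `(inl 0, inl 0)`, `(inl 0, inr 0)`, `(inl 0, inl 1)`, `(inl 0, inr 1)` entries
  have h00 := congrFun (congrFun h' (Sum.inl 0)) (Sum.inl 0)
  have h02 := congrFun (congrFun h' (Sum.inl 0)) (Sum.inr 0)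
  have h20 := congrFun (congrFun h' (Sum.inr 0)) (Sum.inl 0)
  have h22 := congrFun (congrFun h' (Sum.inr 0)) (Sum.inr 0)
  unfold tauM blkM at h00 h02 h20 h22
  rw [Matrix.fromBlocks_multiply] at h00 h02 h20 h22
  simp [Matrix.mul_apply, Fin.sum_univ_two] at h00 h02 h20 h22
  have hdet := p.1.2
  rw [Matrix.det_fin_two, h00, h02, h20, h22] at hdet
  simp at hdet

theorem mem_Ht_iff (g : Sp4 F) : g ∈ Ht ↔ ∃ p : SL2 F × SL2 F, g = blk p ∨ g = blk p * tau := by
  constructor
  · intro hg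
    -- the set of such elements is a subgroup containing the generators
    let K : Subgroup (Sp4 F) :=
      { carrier := {g | ∃ p : SL2 F × SL2 F, g = blk p ∨ g = blk p * tau}
        one_mem' := ⟨1, Or.inl (map_one blk).symm⟩
        mul_mem' := by
          rintro x y ⟨p, hp⟩ ⟨p', hp'⟩
          rcases hp with rfl | rfl <;> rcases hp' with rfl | rfl
          · exact ⟨p * p', Or.inl (map_mul blk p p').symm⟩
          · exact ⟨p * p', Or.inr (by rw [map_mul, mul_assoc])⟩
          · refine ⟨p * (p'.2, p'.1), Or.inr ?_⟩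
            rw [map_mul, mul_assoc, mul_assoc]
            congr 1
            exact tau_mul_blk p'.1 p'.2
          · refine ⟨p * (p'.2, p'.1), Or.inl ?_⟩
            rw [map_mul, mul_assoc]
            congr 1
            rw [← mul_assoc, show tau * blk p' = blk (p'.2, p'.1) * tau from tau_mul_blk p'.1 p'.2,
              mul_assoc, tau_mul_tau, mul_one]
        inv_mem' := by
          rintro x ⟨p, hp⟩
          rcases hp with rfl | rfl
          · exact ⟨p⁻¹, Or.inl (map_inv blk p).symm⟩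
          · refine ⟨(p.2⁻¹, p.1⁻¹), Or.inr ?_⟩
            rw [_root_.mul_inv_rev, tau_inv, ← map_inv]
            exact tau_mul_blk p.1⁻¹ p.2⁻¹ }
    have hle : Ht ≤ K := by
      unfold Ht
      rw [sup_le_iff]
      constructor
      · rintro _ ⟨p, rfl⟩
        exact ⟨p, Or.inl rfl⟩
      · rw [Subgroup.zpowers_le]
        exact ⟨1, Or.inr (by rw [map_one, one_mul])⟩
    exact hle hg
  · rintro ⟨p, rfl | rfl⟩
    · exact (le_sup_left : (blk (F := F)).range ≤ Ht) ⟨p, rfl⟩
    · exact Subgroup.mul_mem _ ((le_sup_left : (blk (F := F)).range ≤ Ht) ⟨p, rfl⟩)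
        ((le_sup_right : Subgroup.zpowers tau ≤ Ht) (Subgroup.mem_zpowers tau))

theorem mem_St_iff (Q : Subgroup (SL2 F)) (g : Sp4 F) :
    g ∈ St Q ↔ ∃ c ∈ Q, ∃ d ∈ Q, g = blk (c, d) ∨ g = blk (c, d) * tau := by
  constructor
  · intro hg
    let K : Subgroup (Sp4 F) :=
      { carrier := {g | ∃ c ∈ Q, ∃ d ∈ Q, g = blk (c, d) ∨ g = blk (c, d) * tau}
        one_mem' := ⟨1, Q.one_mem, 1, Q.one_mem, Or.inl (map_one blk).symm⟩
        mul_mem' := by
          rintro x y ⟨c, hc, d, hd, hp⟩ ⟨c', hc', d', hd', hp'⟩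
          rcases hp with rfl | rfl <;> rcases hp' with rfl | rfl
          · exact ⟨c * c', Q.mul_mem hc hc', d * d', Q.mul_mem hd hd', Or.inl (blk_mul c d c' d')⟩
          · exact ⟨c * c', Q.mul_mem hc hc', d * d', Q.mul_mem hd hd',
              Or.inr (by rw [← blk_mul, mul_assoc])⟩
          · refine ⟨c * d', Q.mul_mem hc hd', d * c', Q.mul_mem hd hc', Or.inr ?_⟩
            rw [← blk_mul, mul_assoc, mul_assoc, tau_mul_blk]
          · refine ⟨c * d', Q.mul_mem hc hd', d * c', Q.mul_mem hd hc', Or.inl ?_⟩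
            rw [← blk_mul, mul_assoc]
            congr 1
            rw [← mul_assoc, tau_mul_blk, mul_assoc, tau_mul_tau, mul_one]
        inv_mem' := by
          rintro x ⟨c, hc, d, hd, hp⟩
          rcases hp with rfl | rfl
          · exact ⟨c⁻¹, Q.inv_mem hc, d⁻¹, Q.inv_mem hd, Or.inl (blk_inv c d)⟩
          · refine ⟨d⁻¹, Q.inv_mem hd, c⁻¹, Q.inv_mem hc, Or.inr ?_⟩
            rw [_root_.mul_inv_rev, tau_inv, blk_inv, tau_mul_blk] }
    have hle : St Q ≤ K := by
      unfold St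
      rw [sup_le_iff]
      constructor
      · rintro _ ⟨p, hp, rfl⟩
        exact ⟨p.1, hp.1, p.2, hp.2, Or.inl rfl⟩
      · rw [Subgroup.zpowers_le]
        exact ⟨1, Q.one_mem, 1, Q.one_mem, Or.inr (by rw [blk_one, one_mul])⟩
    exact hle hg
  · rintro ⟨c, hc, d, hd, rfl | rfl⟩
    · exact (le_sup_left : (Q.prod Q).map blk ≤ St Q) ⟨(c, d), ⟨hc, hd⟩, rfl⟩
    · exact Subgroup.mul_mem _ ((le_sup_left : (Q.prod Q).map blk ≤ St Q) ⟨(c, d), ⟨hc, hd⟩, rfl⟩)
        ((le_sup_right : Subgroup.zpowers tau ≤ St Q) (Subgroup.mem_zpowers tau))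

theorem blk_mem_St_iff (Q : Subgroup (SL2 F)) (c d : SL2 F) : blk (c, d) ∈ St Q ↔ c ∈ Q ∧ d ∈ Q := by
  constructor
  · intro h
    obtain ⟨c', hc', d', hd', h' | h'⟩ := (mem_St_iff Q _).mp h
    · have := blk_injective h'
      rw [Prod.mk.injEq] at this
      rw [this.1, this.2]
      exact ⟨hc', hd'⟩
    · exact absurd h' (blk_ne_blk_mul_tau _ _)
  · rintro ⟨hc, hd⟩
    exact (mem_St_iff Q _).mpr ⟨c, hc, d, hd, Or.inl rfl⟩

theorem blk_mul_tau_mem_St_iff (Q : Subgroup (SL2 F)) (c d : SL2 F) :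
    blk (c, d) * tau ∈ St Q ↔ c ∈ Q ∧ d ∈ Q := by
  have htau : (tau : Sp4 F) ∈ St Q :=
    (le_sup_right : Subgroup.zpowers tau ≤ St Q) (Subgroup.mem_zpowers tau)
  rw [← blk_mem_St_iff]
  constructor
  · intro h
    have := Subgroup.mul_mem _ h htau
    rwa [mul_assoc, tau_mul_tau, mul_one] at this
  · intro h
    exact Subgroup.mul_mem _ h htau

theorem tau_mem_St (Q : Subgroup (SL2 F)) : (tau : Sp4 F) ∈ St Q :=
  (le_sup_right : Subgroup.zpowers tau ≤ St Q) (Subgroup.mem_zpowers tau)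

theorem St_le_Ht (Q : Subgroup (SL2 F)) : St Q ≤ Ht := by
  intro g hg
  obtain ⟨c, -, d, -, h⟩ := (mem_St_iff Q g).mp hg
  exact (mem_Ht_iff g).mpr ⟨(c, d), h⟩

theorem tau_ne_one : (tau : Sp4 F) ≠ 1 := by
  intro h
  have := blk_ne_blk_mul_tau (F := F) 1 1
  rw [map_one, one_mul, h] at this
  exact this rfl

theorem tau_ne_negOne : (tau : Sp4 F) ≠ negOne := by
  intro h
  have := blk_ne_blk_mul_tau (F := F) (negS 1, negS 1) 1
  rw [map_one, one_mul, h, negOne_eq_blk] at this
  exact this rfl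

theorem tau_not_mem_center : (tau : Sp4 F) ∉ Subgroup.center (Sp4 F) := by
  rw [mem_center_iff]
  rintro (h | h)
  · exact tau_ne_one h
  · exact tau_ne_negOne h

theorem center_le_St (Q : Subgroup (SL2 F)) (hQ : negS 1 ∈ Q) : Subgroup.center (Sp4 F) ≤ St Q := by
  intro z hz
  rcases (mem_center_iff z).mp hz with rfl | rfl
  · exact Subgroup.one_mem _
  · rw [negOne_eq_blk, blk_mem_St_iff]
    exact ⟨hQ, hQ⟩

theorem zt_mem_St (Q : Subgroup (SL2 F)) (hQ : negS 1 ∈ Q) : (zt : Sp4 F) ∈ St Q := by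
  unfold zt
  rw [blk_mem_St_iff]
  exact ⟨hQ, Q.one_mem⟩

/-! ### The quaternion group `⟨X, Y⟩` -/

theorem exists_ab [Fintype F] : ∃ a b : F, a * a + b * b = -1 := by
  classical
  by_cases h2 : ringChar F = 2
  · refine ⟨1, 0, ?_⟩
    have : (2 : F) = 0 := by
      have := CharP.cast_eq_zero F (ringChar F)
      rw [h2] at this
      exact_mod_cast this
    linear_combination this
  · obtain ⟨a, b, hab⟩ := FiniteField.exists_root_sum_quadratic (R := F)
      (f := Polynomial.X ^ 2) (g := Polynomial.X ^ 2 + Polynomial.C 1)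
      (by simp) (by rw [Polynomial.degree_X_pow_add_C (by norm_num) (1 : F)]; rfl)
      (by
        have : Fintype.card F % 2 = 1 := by
          rcases Nat.mod_two_eq_zero_or_one (Fintype.card F) with h | h
          · exfalso
            have h3 : ringChar F ∣ Fintype.card F := by
              obtain ⟨n, hp, hn⟩ := FiniteField.card F (ringChar F)
              rw [hn]
              exact dvd_pow_self _ n.ne_zero
            obtain ⟨n, hp, hn⟩ := FiniteField.card F (ringChar F)
            have : 2 ∣ ringChar F ^ (n : ℕ) := by rw [← hn]; omega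
            have := (Nat.Prime.dvd_of_dvd_pow Nat.prime_two this)
            exact h2 ((Nat.prime_dvd_prime_iff_eq Nat.prime_two hp).mp this).symm
          · exact h
        exact this)
    refine ⟨a, b, ?_⟩
    simp only [Polynomial.eval_pow, Polynomial.eval_X, Polynomial.eval_add, Polynomial.eval_C] at hab
    linear_combination hab

variable (a b : F) (h : a * a + b * b = -1)

theorem X_mul_X : X a b h * X a b h = negS 1 := by
  apply Subtype.ext
  show !![a, b; b, -a] * !![a, b; b, -a] = -(1 : Matrix (Fin 2) (Fin 2) F)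
  ext i j
  fin_cases i <;> fin_cases j <;> simp [Matrix.mul_apply, Fin.sum_univ_two]
  all_goals first | linear_combination h | linear_combination -h | ring

theorem Y_mul_Y : (Y : SL2 F) * Y = negS 1 := by
  apply Subtype.ext
  show !![0, -1; 1, 0] * !![0, -1; 1, 0] = -(1 : Matrix (Fin 2) (Fin 2) F)
  ext i j
  fin_cases i <;> fin_cases j <;> simp [Matrix.mul_apply, Fin.sum_univ_two]

theorem Y_mul_X : Y * X a b h = negS (X a b h * Y) := by
  apply Subtype.ext
  show !![0, -1; 1, 0] * !![a, b; b, -a] = -(!![a, b; b, -a] * !![0, -1; 1, 0])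
  ext i j
  fin_cases i <;> fin_cases j <;> simp [Matrix.mul_apply, Fin.sum_univ_two]

theorem negS_one_ne_one (h2 : (2 : F) ≠ 0) : negS (1 : SL2 F) ≠ 1 := by
  intro h'
  have := congrFun (congrFun (congrArg Subtype.val h') 0) 0
  simp [negS_coe] at this
  apply h2
  linear_combination -this

theorem negS_one_mem (Q : Subgroup (SL2 F)) (hX : X a b h ∈ Q) : negS 1 ∈ Q := by
  rw [← X_mul_X a b h]
  exact Q.mul_mem hX hX

theorem XY_coe : ((X a b h * Y : SL2 F) : Matrix (Fin 2) (Fin 2) F) = !![b, -a; -a, -b] := by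
  show !![a, b; b, -a] * !![0, -1; 1, 0] = !![b, -a; -a, -b]
  ext i j
  fin_cases i <;> fin_cases j <;> simp [Matrix.mul_apply, Fin.sum_univ_two]

theorem X_mul_Y_ne (h2 : (2 : F) ≠ 0) : X a b h * Y ≠ Y * X a b h := by
  intro h'
  rw [Y_mul_X] at h'
  have h'' := congrArg Subtype.val h'
  rw [negS_coe, XY_coe] at h''
  have h00 := congrFun (congrFun h'' 0) 0
  have h01 := congrFun (congrFun h'' 0) 1
  simp at h00 h01
  have hb : b = 0 := by
    have : (2 : F) * b = 0 := by linear_combination h00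
    rcases mul_eq_zero.mp this with h3 | h3
    · exact absurd h3 h2
    · exact h3
  have ha : a = 0 := by
    have : (2 : F) * a = 0 := by linear_combination -h01
    rcases mul_eq_zero.mp this with h3 | h3
    · exact absurd h3 h2
    · exact h3
  rw [ha, hb] at h
  simp at h

end Cfsg.Agent.Lib.Helper76_S5320Bas
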