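import Mathlib
import Cfsg.Agent.Lib.Helper76_S5320Defs
import Cfsg.Agent.Lib.Helper76_S5320Bas

/-!
# S5320 package SLQS (helper26, architect helper76): `X`, `Y` lie in a common Sylow 2-subgroup of `SL₂(F)`
-/

set_option autoImplicit false
open Matrix Cfsg.Agent.Lib.Helper42_SL2Class Cfsg.Agent.Lib.Helper76_S5320Defs Cfsg.Agent.Lib.Helper76_S5320Bas

namespace Cfsg.Agent.Lib.Helper26_S5320_SLQS

variable {F : Type*} [Field F]

theorem X_mul_Y_mul_X (a b : F) (h : a * a + b * b = -1) : X a b h * Y * X a b h = Y := by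
  apply Subtype.ext
  show (!![a, b; b, -a] : Matrix (Fin 2) (Fin 2) F) * !![0, -1; 1, 0] * !![a, b; b, -a] = !![0, -1; 1, 0]
  ext i j
  fin_cases i <;> fin_cases j <;> simp <;>
    first | ring1 | linear_combination h | linear_combination -h

theorem X_pow_four (a b : F) (h : a * a + b * b = -1) : X a b h ^ 4 = 1 := by
  rw [show X a b h ^ 4 = (X a b h * X a b h) * (X a b h * X a b h) by simp only [pow_succ, pow_zero, one_mul, mul_assoc], X_mul_X, negS_mul_negS]

theorem Y_pow_four : (Y : SL2 F) ^ 4 = 1 := by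
  rw [show (Y : SL2 F) ^ 4 = (Y * Y) * (Y * Y) by simp only [pow_succ, pow_zero, one_mul, mul_assoc], Y_mul_Y, negS_mul_negS]

/-- `Y X Y⁻¹ = X⁻¹` -/
theorem Y_conj_X (a b : F) (h : a * a + b * b = -1) : Y * X a b h * Y⁻¹ = (X a b h)⁻¹ := by
  have e := X_mul_Y_mul_X a b h
  rw [mul_inv_eq_iff_eq_mul, eq_inv_mul_iff_mul_eq, ← mul_assoc]
  exact e

theorem isPGroup_zpowers {G : Type*} [Group G] (g : G) (hg : g ^ 4 = 1) :
    IsPGroup 2 (Subgroup.zpowers g) := by
  rintro ⟨x, hx⟩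
  obtain ⟨k, rfl⟩ := Subgroup.mem_zpowers_iff.mp hx
  refine ⟨2, Subtype.ext ?_⟩
  show (g ^ k) ^ 2 ^ 2 = 1
  rw [← zpow_natCast, ← _root_.zpow_mul, mul_comm, _root_.zpow_mul, zpow_natCast]
  norm_num
  rw [hg, _root_.one_zpow]

theorem Y_mem_normalizer (a b : F) (h : a * a + b * b = -1) :
    (Y : SL2 F) ∈ Subgroup.normalizer (Subgroup.zpowers (X a b h) : Set (SL2 F)) := by
  rw [Subgroup.mem_normalizer_iff]
  have key : ∀ k : ℤ, Y * X a b h ^ k * Y⁻¹ = ((X a b h)⁻¹) ^ k := by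
    intro k
    have := (MulAut.conj (Y : SL2 F)).toMonoidHom.map_zpow (X a b h) k
    simp only [MulEquiv.coe_toMonoidHom, MulAut.conj_apply] at this
    rw [this, Y_conj_X]
  intro x
  constructor
  · intro hx
    obtain ⟨k, rfl⟩ := Subgroup.mem_zpowers_iff.mp hx
    rw [key]
    exact Subgroup.zpow_mem _ (Subgroup.inv_mem _ (Subgroup.mem_zpowers _)) k
  · intro hx
    obtain ⟨k, hk⟩ := Subgroup.mem_zpowers_iff.mp hx
    have e : x = Y⁻¹ * (X a b h ^ k) * Y := by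
      rw [hk]; group
    have e2 : Y⁻¹ * (X a b h ^ k) * Y = ((X a b h)⁻¹) ^ k := by
      have h1 := key (-k)
      rw [_root_.inv_zpow, _root_.zpow_neg, inv_inv] at h1
      rw [← h1]
      group
    rw [e, e2]
    exact Subgroup.zpow_mem _ (Subgroup.inv_mem _ (Subgroup.mem_zpowers _)) k

variable [Fintype F]

theorem exists_sylow (a b : F) (h : a * a + b * b = -1) :
    ∃ Q : Sylow 2 (SL2 F), X a b h ∈ Q ∧ Y ∈ Q := by
  have hp : IsPGroup 2 (Subgroup.zpowers (Y : SL2 F) ⊔ Subgroup.zpowers (X a b h) : Subgroup (SL2 F)) := by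
    apply IsPGroup.to_sup_of_normal_right' (isPGroup_zpowers _ Y_pow_four)
      (isPGroup_zpowers _ (X_pow_four a b h))
    rw [Subgroup.zpowers_le]
    exact Y_mem_normalizer a b h
  obtain ⟨Q, hQ⟩ := hp.exists_le_sylow
  exact ⟨Q, hQ (le_sup_right (a := Subgroup.zpowers (Y : SL2 F)) (Subgroup.mem_zpowers _)),
    hQ (le_sup_left (b := Subgroup.zpowers (X a b h)) (Subgroup.mem_zpowers _))⟩

end Cfsg.Agent.Lib.Helper26_S5320_SLQS
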