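import Mathlib
import Cfsg.Agent.Lib.Helper76_S5320Defs
import Cfsg.Agent.Lib.Helper76_S5320Bas
import Cfsg.Agent.Lib.Helper5_PSLCard
import Cfsg.Agent.Lib.Helper26_S5320_SLQS

/-!
# S5320 package SLE8 (helper26, architect helper76): when `16 ∤ q² - 1` a Sylow 2-subgroup of `SL₂(q)`
containing `X`, `Y` is `{±1, ±X, ±Y, ±XY}`, and conjugation inside it is `±`
-/

set_option autoImplicit false
open Matrix Cfsg.Agent.Lib.Helper42_SL2Class Cfsg.Agent.Lib.Helper76_S5320Defs Cfsg.Agent.Lib.Helper76_S5320Bas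

namespace Cfsg.Agent.Lib.Helper26_S5320_SLE8

open Cfsg.Agent.Lib.Helper26_S5320_SLQS

/-- elements of a cyclic group generated by an element with `g ^ 4 = 1` -/
theorem mem_zpowers_four {G : Type*} [Group G] (g x : G) (hg : g ^ 4 = 1)
    (hx : x ∈ Subgroup.zpowers g) : x = 1 ∨ x = g ∨ x = g ^ 2 ∨ x = g ^ 3 := by
  obtain ⟨k, rfl⟩ := Subgroup.mem_zpowers_iff.mp hx
  have h4 : g ^ (4 : ℤ) = 1 := by
    rw [show (4 : ℤ) = ((4 : ℕ) : ℤ) from rfl, zpow_natCast, hg]
  have e : g ^ k = g ^ (k % 4) := by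
    conv_lhs => rw [← Int.emod_add_mul_ediv k 4]
    rw [_root_.zpow_add, _root_.zpow_mul, h4, _root_.one_zpow, mul_one]
  have h0 : 0 ≤ k % 4 := Int.emod_nonneg k (by norm_num)
  have h1 : k % 4 < 4 := Int.emod_lt_of_pos k (by norm_num)
  rw [e]
  generalize k % 4 = r at h0 h1
  interval_cases r
  · left; exact _root_.zpow_zero g
  · right; left; exact _root_.zpow_one g
  · right; right; left; exact zpow_natCast g 2
  · right; right; right; exact zpow_natCast g 3

/-- elements of a cyclic group generated by an element with `g ^ 2 = 1` -/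
theorem mem_zpowers_two {G : Type*} [Group G] (g x : G) (hg : g * g = 1)
    (hx : x ∈ Subgroup.zpowers g) : x = 1 ∨ x = g := by
  have hg4 : g ^ 4 = 1 := by
    rw [show g ^ 4 = (g * g) * (g * g) by simp only [pow_succ, pow_zero, one_mul, mul_assoc], hg,
      one_mul]
  rcases mem_zpowers_four g x hg4 hx with h | h | h | h
  · left; exact h
  · right; exact h
  · left; rw [h, pow_two, hg]
  · right; rw [h, pow_succ, pow_two, hg, one_mul]

/-- in a group of order 8 with a central involution `z`, conjugation is the identity mod `z` -/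
theorem conj_of_card_eight {G : Type*} [Group G] (hG : Nat.card G = 8) (z : G) (hz1 : z ≠ 1)
    (hz2 : z * z = 1) (hcent : ∀ c : G, z * c = c * z) (c d : G) :
    d * c * d⁻¹ = c ∨ d * c * d⁻¹ = z * c := by
  have : Fact (Nat.Prime 2) := ⟨Nat.prime_two⟩
  have : Finite G := Nat.finite_of_card_ne_zero (by rw [hG]; norm_num)
  let Z : Subgroup G := Subgroup.zpowers z
  have hZn : Z.Normal := by
    refine ⟨fun n hn g => ?_⟩
    rcases mem_zpowers_two z n hz2 hn with hn1 | hn1
    · rw [hn1, mul_one, mul_inv_cancel]; exact Subgroup.one_mem _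
    · rw [hn1, ← hcent, mul_assoc, mul_inv_cancel, mul_one]; exact Subgroup.mem_zpowers z
  have hcardZ : Nat.card Z = 2 := by
    rw [Nat.card_zpowers]
    have := orderOf_eq_prime_pow (x := z) (p := 2) (n := 0) (by simpa using hz1)
      (by simpa [pow_two] using hz2)
    simpa using this
  have hquot : Nat.card (G ⧸ Z) = 2 ^ 2 := by
    have h1 := Subgroup.card_eq_card_quotient_mul_card_subgroup Z
    rw [hG, hcardZ] at h1
    omega
  have hcomm := (IsPGroup.isMulCommutative_of_card_eq_prime_sq hquot).is_comm.comm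
  have h2 := hcomm (QuotientGroup.mk d : G ⧸ Z) (QuotientGroup.mk c)
  rw [← QuotientGroup.mk_mul, ← QuotientGroup.mk_mul, QuotientGroup.eq] at h2
  -- `(d c)⁻¹ (c d) ∈ Z`
  rcases mem_zpowers_two z _ hz2 h2 with h3 | h3
  · left
    have : d * c = c * d := by
      have := congrArg (fun t => d * c * t) h3
      simpa [mul_assoc] using this.symm
    rw [this, mul_assoc, mul_inv_cancel, mul_one]
  · right
    have h4 : c * d = d * c * z := by
      have := congrArg (fun t => d * c * t) h3
      simpa [mul_assoc] using this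
    have h5 : d * c = z * (c * d) := by
      rw [h4, hcent, mul_assoc (d * c), hz2, mul_one]
    rw [h5, mul_assoc, mul_assoc, mul_inv_cancel, mul_one]

variable {F : Type*} [Field F] [Fintype F]

theorem two_ne_zero_of_odd (hodd : Fintype.card F % 2 = 1) : (2 : F) ≠ 0 := by
  intro h2
  have h3 : ringChar F = 2 := CharP.ringChar_of_prime_eq_zero Nat.prime_two (by exact_mod_cast h2)
  have := FiniteField.even_card_iff_char_two.mp h3
  omega

theorem negS_one_ne_one' (hodd : Fintype.card F % 2 = 1) : negS (1 : SL2 F) ≠ 1 :=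
  negS_one_ne_one (two_ne_zero_of_odd hodd)

theorem card_sylow (hodd : Fintype.card F % 2 = 1) (h16 : ¬ 16 ∣ Fintype.card F ^ 2 - 1)
    (Q : Sylow 2 (SL2 F)) : Nat.card Q = 8 := by
  have : Fact (Nat.Prime 2) := ⟨Nat.prime_two⟩
  have hc : Nat.card (SL2 F) = Fintype.card F * (Fintype.card F ^ 2 - 1) :=
    Cfsg.Agent.Lib.Helper5_PSLCard.card_SL_two
  set q := Fintype.card F with hq
  -- `q ^ 2 - 1 = 8 * t`, `t` odd
  have hq8 : q ^ 2 % 8 = 1 := by
    rw [Nat.pow_mod]
    have : q % 8 = 1 ∨ q % 8 = 3 ∨ q % 8 = 5 ∨ q % 8 = 7 := by omega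
    rcases this with h | h | h | h <;> rw [h]
  obtain ⟨t, ht⟩ : ∃ t, q ^ 2 - 1 = 8 * t := ⟨q ^ 2 / 8, by omega⟩
  have htodd : t % 2 = 1 := by
    by_contra hcon
    apply h16
    rw [ht]
    have : t % 2 = 0 := by omega
    obtain ⟨s, hs⟩ : ∃ s, t = 2 * s := ⟨t / 2, by omega⟩
    exact ⟨s, by rw [hs]; ring⟩
  have hqt : (q * t) % 2 = 1 := by rw [Nat.mul_mod, hodd, htodd]
  have hcard : Nat.card (SL2 F) = 2 ^ 3 * (q * t) := by rw [hc, ht]; ring
  have h8 : 2 ^ 3 ∣ Nat.card Q := Q.pow_dvd_card_of_pow_dvd_card ⟨q * t, hcard⟩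
  obtain ⟨n, hn⟩ := IsPGroup.iff_card.mp Q.2
  have hdvd : Nat.card Q ∣ Nat.card (SL2 F) := Subgroup.card_subgroup_dvd_card _
  rw [hcard, hn] at hdvd
  have hcop : Nat.Coprime (2 ^ n) (q * t) := by
    apply Nat.Coprime.pow_left
    exact (Nat.Prime.coprime_iff_not_dvd Nat.prime_two).mpr (by omega)
  have h9 : 2 ^ n ∣ 2 ^ 3 := hcop.dvd_of_dvd_mul_right hdvd
  rw [hn] at h8 ⊢
  exact Nat.dvd_antisymm h9 h8

theorem eight (hodd : Fintype.card F % 2 = 1) (h16 : ¬ 16 ∣ Fintype.card F ^ 2 - 1)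
    (a b : F) (h : a * a + b * b = -1) (Q : Sylow 2 (SL2 F)) (hX : X a b h ∈ Q) (hY : Y ∈ Q)
    (c : SL2 F) : c ∈ Q ↔ E8 a b h c := by
  have : Fact (Nat.Prime 2) := ⟨Nat.prime_two⟩
  have h2 : (2 : F) ≠ 0 := two_ne_zero_of_odd hodd
  have hcardQ := card_sylow hodd h16 Q
  have hX2 : X a b h * X a b h = negS 1 := X_mul_X a b h
  have hX4 : X a b h ^ 4 = 1 := X_pow_four a b h
  have hz : negS (1 : SL2 F) ∈ Q := by rw [← hX2]; exact Subgroup.mul_mem _ hX hX
  have hpow2 : X a b h ^ 2 = negS 1 := by rw [pow_two, hX2]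
  have hpow3 : X a b h ^ 3 = negS (X a b h) := by rw [pow_succ, hpow2, ← negS_eq]
  constructor
  · intro hc
    let H : Subgroup (SL2 F) := Subgroup.zpowers (X a b h)
    have hHQ : H ≤ Q := by
      rw [Subgroup.zpowers_le]; exact hX
    have hcardH : Nat.card H = 4 := by
      rw [Nat.card_zpowers]
      have := orderOf_eq_prime_pow (x := X a b h) (p := 2) (n := 1)
        (by rw [pow_one, hpow2]; exact negS_one_ne_one' hodd) (by simpa using hX4)
      simpa using this
    have hidx : (H.subgroupOf Q).index = 2 := by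
      have h1 := Subgroup.card_mul_index (H.subgroupOf (Q : Subgroup (SL2 F)))
      have h3 : Nat.card (H.subgroupOf (Q : Subgroup (SL2 F))) = Nat.card H :=
        Nat.card_congr (Subgroup.subgroupOfEquivOfLe hHQ).toEquiv
      rw [h3, hcardH] at h1
      have h4 : Nat.card (Q : Subgroup (SL2 F)) = 8 := hcardQ
      rw [h4] at h1
      omega
    have hYH : Y ∉ H := by
      intro hy
      have e01 : (Y : SL2 F).1 0 1 = -1 := by simp [Y]
      have e10 : (Y : SL2 F).1 1 0 = 1 := by simp [Y]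
      have e00 : (Y : SL2 F).1 0 0 = 0 := by simp [Y]
      rcases mem_zpowers_four _ _ hX4 hy with hy | hy | hy | hy
      · rw [hy] at e00
        simp at e00
      · rw [hy] at e01 e10
        simp [X] at e01 e10
        apply h2
        linear_combination e01 - e10
      · rw [hy, hpow2, negS_coe] at e00
        simp at e00
      · rw [hy, hpow3, negS_coe] at e01 e10
        simp [X] at e01 e10
        apply h2
        linear_combination -e01 - e10
    by_cases hcH : c ∈ H
    · rcases mem_zpowers_four _ _ hX4 hcH with hy | hy | hy | hy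
      · exact Or.inl hy
      · exact Or.inr (Or.inr (Or.inl hy))
      · rw [hpow2] at hy; exact Or.inr (Or.inl hy)
      · rw [hpow3] at hy; exact Or.inr (Or.inr (Or.inr (Or.inl hy)))
    · have h5 := Subgroup.mul_mem_iff_of_index_two hidx
        (a := (⟨c, hc⟩ : ↥(Q : Subgroup (SL2 F)))) (b := (⟨Y, hY⟩ : ↥(Q : Subgroup (SL2 F)))⁻¹)
      have h6 : (⟨c, hc⟩ : ↥(Q : Subgroup (SL2 F))) * (⟨Y, hY⟩ : ↥(Q : Subgroup (SL2 F)))⁻¹ ∈
          H.subgroupOf Q := by
        rw [h5, Subgroup.inv_mem_iff, Subgroup.mem_subgroupOf, Subgroup.mem_subgroupOf]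
        exact ⟨fun hh => absurd hh hcH, fun hh => absurd hh hYH⟩
      rw [Subgroup.mem_subgroupOf] at h6
      have h7 : c * Y⁻¹ ∈ H := h6
      have hcy : ∀ w : SL2 F, c * Y⁻¹ = w → c = w * Y := fun w hw => by
        rw [← hw, inv_mul_cancel_right]
      rcases mem_zpowers_four _ _ hX4 h7 with hy | hy | hy | hy
      · right; right; right; right; left
        rw [hcy _ hy, one_mul]
      · right; right; right; right; right; right; left
        exact hcy _ hy
      · right; right; right; right; right; left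
        rw [hcy _ hy, hpow2, ← negS_eq]
      · right; right; right; right; right; right; right
        rw [hcy _ hy, hpow3, negS_eq (X a b h), mul_assoc, ← negS_eq]
  · rintro (rfl | rfl | rfl | rfl | rfl | rfl | rfl | rfl)
    · exact Subgroup.one_mem _
    · exact hz
    · exact hX
    · rw [negS_eq]; exact Subgroup.mul_mem _ hz hX
    · exact hY
    · rw [negS_eq]; exact Subgroup.mul_mem _ hz hY
    · exact Subgroup.mul_mem _ hX hY
    · rw [negS_eq]; exact Subgroup.mul_mem _ hz (Subgroup.mul_mem _ hX hY)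

/-- conjugation inside `Q` is `±` (e.g. from `eight` and the relations, or: `Q/⟨-1⟩` has order 4) -/
theorem eight_comm (hodd : Fintype.card F % 2 = 1) (h16 : ¬ 16 ∣ Fintype.card F ^ 2 - 1)
    (a b : F) (h : a * a + b * b = -1) (Q : Sylow 2 (SL2 F)) (hX : X a b h ∈ Q) (hY : Y ∈ Q) :
    ∀ c ∈ Q, ∀ d ∈ Q, d * c * d⁻¹ = c ∨ d * c * d⁻¹ = negS c := by
  intro c hc d hd
  have hcardQ := card_sylow hodd h16 Q
  have hz : negS (1 : SL2 F) ∈ Q := by
    rw [← X_mul_X a b h]; exact Subgroup.mul_mem _ hX hX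
  have key := conj_of_card_eight (G := ↥(Q : Subgroup (SL2 F))) hcardQ ⟨negS 1, hz⟩
    (fun e => negS_one_ne_one' hodd (congrArg Subtype.val e))
    (Subtype.ext negS_mul_negS)
    (fun x => Subtype.ext (by
      show negS 1 * x.1 = x.1 * negS 1
      rw [← negS_eq, ← negS_eq']))
    ⟨c, hc⟩ ⟨d, hd⟩
  rcases key with k | k
  · left; exact congrArg Subtype.val k
  · right
    have := congrArg Subtype.val k
    rw [negS_eq]
    exact this

end Cfsg.Agent.Lib.Helper26_S5320_SLE8
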