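import Mathlib
import Cfsg.Prelude.Def_GeometricClasses

/-!
# Explicit elements of `SL₄(F)` (helper27, package S6000-PKG-ELTS for helper42)

A transvection of order `p`, an element of order 3 with `tr x * tr x⁻¹ = 7`, an element of order 5
with both traces `τ + 2`, and a primitive cube root of unity in the prime field with `p % 3 = 1`.
-/

set_option autoImplicit false

open scoped MatrixGroups
open Matrix

namespace Cfsg.Agent.Lib.Helper27_S6000_ELTS

variable {F : Type*} [Field F]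

/-- a block matrix: a `2 × 2` block and the identity -/
def blk (a b c d : F) : Matrix (Fin 4) (Fin 4) F :=
  !![a, b, 0, 0; c, d, 0, 0; 0, 0, 1, 0; 0, 0, 0, 1]

theorem blk_mul (a b c d a' b' c' d' : F) :
    blk a b c d * blk a' b' c' d' =
      blk (a * a' + b * c') (a * b' + b * d') (c * a' + d * c') (c * b' + d * d') := by
  unfold blk
  ext i j
  fin_cases i <;> fin_cases j <;> simp [Matrix.mul_apply, Fin.sum_univ_four]

theorem blk_one : blk (1 : F) 0 0 1 = 1 := by
  unfold blk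
  ext i j
  fin_cases i <;> fin_cases j <;> simp

theorem det_blk (a b c d : F) : (blk a b c d).det = a * d - b * c := by
  unfold blk
  rw [Matrix.det_succ_row_zero]
  simp [Fin.sum_univ_four, Matrix.det_fin_three, Fin.succAbove]
  ring

theorem trace_blk (a b c d : F) : Matrix.trace (blk a b c d) = a + d + 2 := by
  unfold blk
  simp [Matrix.trace, Fin.sum_univ_four]
  ring

/-- the block matrix as an element of the general linear group -/
def blkGL (a b c d : F) (h : a * d - b * c = 1) : GL (Fin 4) F where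
  val := blk a b c d
  inv := blk d (-b) (-c) a
  val_inv := by
    rw [blk_mul, ← blk_one]
    congr 1 <;> first | ring1 | linear_combination h
  inv_val := by
    rw [blk_mul, ← blk_one]
    congr 1 <;> first | ring1 | linear_combination h

theorem blkGL_val (a b c d : F) (h : a * d - b * c = 1) :
    ((blkGL a b c d h : GL (Fin 4) F) : Matrix (Fin 4) (Fin 4) F) = blk a b c d := rfl

theorem blkGL_inv_val (a b c d : F) (h : a * d - b * c = 1) :
    (((blkGL a b c d h)⁻¹ : GL (Fin 4) F) : Matrix (Fin 4) (Fin 4) F) = blk d (-b) (-c) a := rfl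

theorem mem_specialLinear_iff (x : GL (Fin 4) F) :
    x ∈ Cfsg.Geo.specialLinear (Fin 4) F ↔ (x : Matrix (Fin 4) (Fin 4) F).det = 1 := by
  unfold Cfsg.Geo.specialLinear
  rw [MonoidHom.mem_ker]
  constructor
  · intro h
    have := congrArg Units.val h
    simpa using this
  · intro h
    apply Units.ext
    simpa using h

theorem blkGL_mem (a b c d : F) (h : a * d - b * c = 1) :
    blkGL a b c d h ∈ Cfsg.Geo.specialLinear (Fin 4) F := by
  rw [mem_specialLinear_iff, blkGL_val, det_blk, h]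

theorem blk_apply_zero_one (a b c d : F) : blk a b c d 0 1 = b := by
  unfold blk
  simp

theorem blk_not_scalar (a b c d : F) (hb : b ≠ 0) (z : F) :
    blk a b c d ≠ z • (1 : Matrix (Fin 4) (Fin 4) F) := by
  intro h
  have := congrFun (congrFun h 0) 1
  rw [blk_apply_zero_one] at this
  simp at this
  exact hb this

theorem blkGL_pow_val (a b c d : F) (h : a * d - b * c = 1) (k : ℕ) :
    ((blkGL a b c d h ^ k : GL (Fin 4) F) : Matrix (Fin 4) (Fin 4) F) = blk a b c d ^ k := by
  rw [Units.val_pow_eq_pow_val, blkGL_val]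

theorem tv_pow (k : ℕ) : blk (1 : F) 1 0 1 ^ k = blk 1 (k : F) 0 1 := by
  induction k with
  | zero => rw [pow_zero, Nat.cast_zero, blk_one]
  | succ k ih =>
    rw [pow_succ, ih, blk_mul]
    congr 1 <;> push_cast <;> ring

theorem exists_transvection (p : ℕ) [CharP F p] :
    ∃ t : GL (Fin 4) F, t ∈ Cfsg.Geo.specialLinear (Fin 4) F ∧ t ^ p = 1 ∧
      (∀ z : F, (t : Matrix (Fin 4) (Fin 4) F) ≠ z • (1 : Matrix (Fin 4) (Fin 4) F)) ∧
      ∃ f : (Fin 4 → F) →ₗ[F] F, ∀ v, f v = 0 → (t : Matrix (Fin 4) (Fin 4) F) *ᵥ v = v := by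
  refine ⟨blkGL 1 1 0 1 (by ring), blkGL_mem _ _ _ _ _, ?_, ?_, ?_⟩
  · apply Units.ext
    rw [blkGL_pow_val, tv_pow, CharP.cast_eq_zero, blk_one, Units.val_one]
  · intro z
    rw [blkGL_val]
    exact blk_not_scalar _ _ _ _ one_ne_zero z
  · refine ⟨LinearMap.proj 1, ?_⟩
    intro v hv
    have hv1 : v 1 = 0 := hv
    rw [blkGL_val]
    unfold blk
    ext i
    fin_cases i <;> simp [Matrix.mulVec, dotProduct, Fin.sum_univ_four, hv1]

/-- the diagonal matrix -/
def dg (a b : F) : Matrix (Fin 4) (Fin 4) F := Matrix.diagonal ![a, a, a, b]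

theorem dg_mul (a b a' b' : F) : dg a b * dg a' b' = dg (a * a') (b * b') := by
  unfold dg
  rw [Matrix.diagonal_mul_diagonal]
  congr 1
  ext i
  fin_cases i <;> simp

theorem dg_one : dg (1 : F) 1 = 1 := by
  unfold dg
  rw [← Matrix.diagonal_one]
  congr 1
  ext i
  fin_cases i <;> simp

theorem exists_order3 (h3 : (3 : F) ≠ 0) (ω : F) (hω : ω ^ 2 + ω + 1 = 0) :
    ∃ x : GL (Fin 4) F, x ∈ Cfsg.Geo.specialLinear (Fin 4) F ∧ x ^ 3 = 1 ∧
      (∀ z : F, (x : Matrix (Fin 4) (Fin 4) F) ≠ z • (1 : Matrix (Fin 4) (Fin 4) F)) ∧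
      Matrix.trace (x : Matrix (Fin 4) (Fin 4) F) *
        Matrix.trace ((x⁻¹ : GL (Fin 4) F) : Matrix (Fin 4) (Fin 4) F) = 7 := by
  have hω3 : ω ^ 3 = 1 := by linear_combination (ω - 1) * hω
  have hinv : ω * ω ^ 2 = 1 := by linear_combination hω3
  have hinv' : ω ^ 2 * ω = 1 := by linear_combination hω3
  let x : GL (Fin 4) F :=
    { val := dg ω 1
      inv := dg (ω ^ 2) 1
      val_inv := by rw [dg_mul, hinv, mul_one, dg_one]
      inv_val := by rw [dg_mul, hinv', mul_one, dg_one] }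
  have hxv : (x : Matrix (Fin 4) (Fin 4) F) = dg ω 1 := rfl
  have hxi : ((x⁻¹ : GL (Fin 4) F) : Matrix (Fin 4) (Fin 4) F) = dg (ω ^ 2) 1 := rfl
  refine ⟨x, ?_, ?_, ?_, ?_⟩
  · rw [mem_specialLinear_iff, hxv]
    unfold dg
    rw [Matrix.det_diagonal, Fin.prod_univ_four]
    simp
    linear_combination hω3
  · apply Units.ext
    rw [Units.val_pow_eq_pow_val, hxv, pow_succ, pow_two, dg_mul, dg_mul]
    have : ω * ω * ω = 1 := by linear_combination hω3
    rw [this, mul_one, mul_one, dg_one, Units.val_one]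
  · intro z hz
    rw [hxv] at hz
    have h00 := congrFun (congrFun hz 0) 0
    have h33 := congrFun (congrFun hz 3) 3
    unfold dg at h00 h33
    simp at h00 h33
    have hω1 : ω = 1 := by rw [h00, ← h33]
    rw [hω1] at hω
    apply h3
    linear_combination hω
  · rw [hxv, hxi]
    unfold dg
    simp [Matrix.trace, Fin.sum_univ_four]
    linear_combination 9 * hω3 + 3 * hω

theorem exists_order5 (τ : F) (hτ : τ ^ 2 + τ - 1 = 0) :
    ∃ x : GL (Fin 4) F, x ∈ Cfsg.Geo.specialLinear (Fin 4) F ∧ x ^ 5 = 1 ∧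
      (∀ z : F, (x : Matrix (Fin 4) (Fin 4) F) ≠ z • (1 : Matrix (Fin 4) (Fin 4) F)) ∧
      Matrix.trace (x : Matrix (Fin 4) (Fin 4) F) = τ + 2 ∧
      Matrix.trace ((x⁻¹ : GL (Fin 4) F) : Matrix (Fin 4) (Fin 4) F) = τ + 2 := by
  refine ⟨blkGL 0 (-1) 1 τ (by ring), blkGL_mem _ _ _ _ _, ?_, ?_, ?_, ?_⟩
  · apply Units.ext
    rw [blkGL_pow_val]
    have h5 : blk (0 : F) (-1) 1 τ ^ 5 = blk 0 (-1) 1 τ * blk 0 (-1) 1 τ * blk 0 (-1) 1 τ *
        blk 0 (-1) 1 τ * blk 0 (-1) 1 τ := by
      simp only [pow_succ, pow_zero, one_mul]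
    rw [h5, blk_mul, blk_mul, blk_mul, blk_mul, Units.val_one, ← blk_one]
    congr 1
    · linear_combination (-τ + 1) * hτ
    · linear_combination (-τ ^ 2 + τ + 1) * hτ
    · linear_combination (τ ^ 2 - τ - 1) * hτ
    · linear_combination (τ ^ 3 - τ ^ 2 - 2 * τ + 1) * hτ
  · intro z
    rw [blkGL_val]
    exact blk_not_scalar _ _ _ _ (neg_ne_zero.2 one_ne_zero) z
  · rw [blkGL_val, trace_blk]
    ring
  · rw [blkGL_inv_val, trace_blk]
    ring

/-- 3 ∣ p - 1 = |Fˣ|: Cauchy gives u of order 3, (u-1)(u²+u+1) = 0 -/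
theorem exists_omega [Fintype F] {p : ℕ} [Fact p.Prime] [CharP F p]
    (hF : Fintype.card F = p) (hp3 : p % 3 = 1) : ∃ ω : F, ω ^ 2 + ω + 1 = 0 := by
  classical
  have hcard : Fintype.card Fˣ = p - 1 := by rw [Fintype.card_units, hF]
  have h3 : 3 ∣ Fintype.card Fˣ := by
    rw [hcard]
    have hp : 1 ≤ p := (Fact.out : p.Prime).one_lt.le
    omega
  have : Fact (Nat.Prime 3) := ⟨by norm_num⟩
  obtain ⟨u, hu⟩ := exists_prime_orderOf_dvd_card 3 h3
  have hu3 : u ^ 3 = 1 := by rw [← hu]; exact pow_orderOf_eq_one u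
  have hu1 : u ≠ 1 := by
    rintro rfl
    rw [orderOf_one] at hu
    omega
  refine ⟨(u : F), ?_⟩
  have h1 : ((u : F) - 1) * ((u : F) ^ 2 + (u : F) + 1) = 0 := by
    have : (u : F) ^ 3 = 1 := by
      have := congrArg Units.val hu3
      simpa using this
    linear_combination this
  rcases mul_eq_zero.1 h1 with h | h
  · exfalso
    apply hu1
    apply Units.ext
    rw [Units.val_one]
    linear_combination h
  · exact h

end Cfsg.Agent.Lib.Helper27_S6000_ELTS
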