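import Mathlib

/-!
# The extraspecial group `2^{1+4}_-` as an explicit finite group (helper42)

`E32` has elements `(i, j, k, l, s)` standing for `z^s a^i b^j c^k d^l` with `a² = b² = z`, `ba = z ab`
(a quaternion group), `c² = d² = 1`, `dc = z cd` (a dihedral group), the two commuting, `z` central.
`alpha` is an explicit automorphism of order 5.
-/

set_option autoImplicit false

namespace Cfsg.Agent.Lib.Helper42_E32

/-- the extraspecial group of order 32 of minus type -/
@[ext]
structure E32 where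
  i : ZMod 2
  j : ZMod 2
  k : ZMod 2
  l : ZMod 2
  s : ZMod 2
deriving DecidableEq, Fintype

namespace E32

instance : Mul E32 :=
  ⟨fun x y => ⟨x.i + y.i, x.j + y.j, x.k + y.k, x.l + y.l,
    x.s + y.s + (x.j * y.i + x.i * y.i + x.j * y.j + x.l * y.k)⟩⟩

instance : One E32 := ⟨⟨0, 0, 0, 0, 0⟩⟩

instance : Inv E32 :=
  ⟨fun x => ⟨x.i, x.j, x.k, x.l, x.s + (x.j * x.i + x.i * x.i + x.j * x.j + x.l * x.k)⟩⟩

theorem mul_def (x y : E32) : x * y = ⟨x.i + y.i, x.j + y.j, x.k + y.k, x.l + y.l,
    x.s + y.s + (x.j * y.i + x.i * y.i + x.j * y.j + x.l * y.k)⟩ := rfl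

theorem one_def : (1 : E32) = ⟨0, 0, 0, 0, 0⟩ := rfl

theorem inv_def (x : E32) : x⁻¹ =
    ⟨x.i, x.j, x.k, x.l, x.s + (x.j * x.i + x.i * x.i + x.j * x.j + x.l * x.k)⟩ := rfl

theorem two_mul_zmod (a : ZMod 2) : a + a = 0 := by
  have : (2 : ZMod 2) = 0 := rfl
  linear_combination a * this

instance : Group E32 where
  mul_assoc x y z := by
    ext <;> simp only [mul_def] <;> ring
  one_mul x := by
    ext <;> simp [mul_def, one_def]
  mul_one x := by
    ext <;> simp [mul_def, one_def]
  inv_mul_cancel x := by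
    ext
    · simp only [mul_def, inv_def, one_def]; exact two_mul_zmod _
    · simp only [mul_def, inv_def, one_def]; exact two_mul_zmod _
    · simp only [mul_def, inv_def, one_def]; exact two_mul_zmod _
    · simp only [mul_def, inv_def, one_def]; exact two_mul_zmod _
    · simp only [mul_def, inv_def, one_def]
      have h2 : (2 : ZMod 2) = 0 := rfl
      linear_combination (x.s + x.j * x.i + x.i * x.i + x.j * x.j + x.l * x.k) * h2

/-- generators -/
def eA : E32 := ⟨1, 0, 0, 0, 0⟩
def eB : E32 := ⟨0, 1, 0, 0, 0⟩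
def eC : E32 := ⟨0, 0, 1, 0, 0⟩
def eD : E32 := ⟨0, 0, 0, 1, 0⟩
def eZ : E32 := ⟨0, 0, 0, 0, 1⟩

/-- `g ^ e` for an exponent in `ZMod 2` -/
def gpow {G : Type*} [One G] (g : G) (e : ZMod 2) : G := if e = 0 then 1 else g

@[simp] theorem gpow_zero {G : Type*} [One G] (g : G) : gpow g 0 = 1 := rfl
@[simp] theorem gpow_one {G : Type*} [One G] (g : G) : gpow g 1 = g := rfl

theorem card_eq : Fintype.card E32 = 32 := by decide

theorem normal_form (x : E32) :
    x = gpow eZ x.s * (gpow eA x.i * gpow eB x.j * (gpow eC x.k * gpow eD x.l)) := by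
  revert x; decide +kernel

/-- the automorphism of order 5, on elements -/
def alphaFun (x : E32) : E32 :=
  gpow eZ x.s * (gpow (⟨0, 0, 1, 1, 0⟩ : E32) x.i * gpow (⟨0, 1, 0, 1, 0⟩ : E32) x.j *
    (gpow (⟨1, 0, 1, 1, 0⟩ : E32) x.k * gpow (⟨1, 1, 1, 1, 0⟩ : E32) x.l))

theorem alphaFun_mul : ∀ x y : E32, alphaFun (x * y) = alphaFun x * alphaFun y := by decide +kernel

theorem alphaFun_iter : ∀ x : E32, alphaFun (alphaFun (alphaFun (alphaFun (alphaFun x)))) = x := by
  decide +kernel

theorem alphaFun_fix : ∀ x : E32, alphaFun x = x → x = 1 ∨ x = eZ := by decide +kernel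

theorem alphaFun_ne_neg : ∀ x : E32, alphaFun x ≠ eZ * x := by decide +kernel

/-- the automorphism of order 5 -/
def alpha : E32 →* E32 where
  toFun := alphaFun
  map_one' := by decide +kernel
  map_mul' := alphaFun_mul

theorem alpha_apply (x : E32) : alpha x = alphaFun x := rfl

theorem center_or : ∀ x : E32, x = 1 ∨ x = eZ ∨ ∃ y : E32, x * y = eZ * (y * x) := by decide +kernel

theorem card_sq_eq_one : Fintype.card {x : E32 // x * x = 1} = 12 := by decide +kernel

theorem sq_cases : ∀ x : E32, x * x = 1 ∨ x * x = eZ := by decide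

theorem comm_cases : ∀ x y : E32, x * y = y * x ∨ x * y = eZ * (y * x) := by decide +kernel

theorem eZ_central : ∀ x : E32, x * eZ = eZ * x := by decide

theorem eZ_ne_one : eZ ≠ 1 := by decide

theorem eZ_mul_self : eZ * eZ = 1 := by decide

end E32

end Cfsg.Agent.Lib.Helper42_E32
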