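import Mathlib
import Cfsg.Agent.Lib.Helper42_E32

/-!
# Automorphisms of `E32` whose commutators are all singular (helper42)

If `θ` is an injective endomorphism of `E32` fixing the centre such that every `θ(e)⁻¹ e` is an
involution different from the central one (or trivial), then `θ` is an involution. This is the
group-theoretic form of: a totally singular subspace of the minus-type quadratic space of dimension 4
has dimension at most one.
-/

set_option autoImplicit false

namespace Cfsg.Agent.Lib.Helper42_E32Sing

open Cfsg.Agent.Lib.Helper42_E32 Cfsg.Agent.Lib.Helper42_E32.E32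

/-- singular elements -/
def Sing (x : E32) : Prop := x * x = 1 ∧ x ≠ eZ

instance (x : E32) : Decidable (Sing x) := by unfold Sing; infer_instance

theorem sing_comm : ∀ a b : E32, Sing a → Sing b → (Sing (a * b) ∨ Sing (eZ * (a * b))) →
    a * b = b * a := by decide +kernel

theorem sing_pair : ∀ a b : E32, Sing a → Sing b → a * b = b * a → a ≠ 1 → b ≠ 1 →
    b = a ∨ b = eZ * a := by decide +kernel

theorem conj_cases (x s : E32) : s⁻¹ * x * s = x ∨ s⁻¹ * x * s = eZ * x := by
  rcases comm_cases x s with h | h
  · left
    rw [mul_assoc, h, ← mul_assoc, inv_mul_cancel, one_mul]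
  · right
    rw [mul_assoc, h, ← eZ_central, ← mul_assoc, ← mul_assoc, inv_mul_cancel, one_mul, eZ_central]

theorem invol_of_sing (θ : E32 → E32) (hmul : ∀ x y, θ (x * y) = θ x * θ y)
    (hinj : Function.Injective θ) (hZ : θ eZ = eZ)
    (hs : ∀ e, Sing ((θ e)⁻¹ * e)) : ∀ e, θ (θ e) = e := by
  have h1 : θ 1 = 1 := by
    have := hmul 1 1
    rw [mul_one] at this
    exact (mul_eq_left.mp this.symm)
  set w : E32 → E32 := fun e => (θ e)⁻¹ * e with hw
  have hwmul : ∀ t s, w (t * s) = w s * (s⁻¹ * w t * s) := by
    intro t s
    simp only [hw, hmul]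
    group
  have hcomm : ∀ t s, w s * w t = w t * w s := by
    intro t s
    apply sing_comm _ _ (hs s) (hs t)
    have h := hs (t * s)
    change Sing (w (t * s)) at h
    rw [hwmul] at h
    rcases conj_cases (w t) s with h2 | h2
    · left; rwa [h2] at h
    · right
      rw [h2, ← mul_assoc, eZ_central, mul_assoc] at h
      exact h
  have hsq : ∀ e, θ e = e * w e := by
    intro e
    have h := (hs e).1
    change w e * w e = 1 at h
    have : (w e)⁻¹ = w e := inv_eq_of_mul_eq_one_left h
    calc θ e = e * (w e)⁻¹ := by simp only [hw]; group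
      _ = e * w e := by rw [this]
  by_cases hall : ∀ e, w e = 1
  · intro e
    have h1 := hsq e
    rw [hall e, mul_one] at h1
    rw [h1, h1]
  · push Not at hall
    obtain ⟨e₀, he₀⟩ := hall
    have hcases : ∀ e, w e = 1 ∨ w e = w e₀ ∨ w e = eZ * w e₀ := by
      intro e
      by_cases h : w e = 1
      · left; exact h
      · right
        exact sing_pair _ _ (hs e₀) (hs e) (hcomm e e₀) he₀ h
    have hfix0 : θ (w e₀) = w e₀ := by
      rcases hcases (w e₀) with h | h | h
      · have h2 := hsq (w e₀)
        rw [h, mul_one] at h2
        exact h2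
      · exfalso
        have h2 : θ (w e₀) = 1 := by
          have : (θ (w e₀))⁻¹ * w e₀ = w e₀ := h
          have h3 := mul_eq_right.mp this
          exact inv_eq_one.mp h3
        rw [← h1] at h2
        exact he₀ (hinj h2)
      · exfalso
        have h2 : θ (w e₀) = eZ := by
          have : (θ (w e₀))⁻¹ * w e₀ = eZ * w e₀ := h
          have h3 := mul_right_cancel this
          have h4 : θ (w e₀) = eZ⁻¹ := by rw [← h3, inv_inv]
          rw [h4]
          exact inv_eq_of_mul_eq_one_left eZ_mul_self
        rw [← hZ] at h2
        exact (hs e₀).2 (hinj h2)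
    have hfix : ∀ e, θ (w e) = w e := by
      intro e
      rcases hcases e with h | h | h
      · rw [h, h1]
      · rw [h, hfix0]
      · rw [h, hmul, hZ, hfix0]
    intro e
    have h := (hs e).1
    change w e * w e = 1 at h
    calc θ (θ e) = θ (e * w e) := by rw [← hsq e]
      _ = θ e * θ (w e) := hmul _ _
      _ = (e * w e) * w e := by rw [hfix, ← hsq e]
      _ = e := by rw [mul_assoc, h, mul_one]

end Cfsg.Agent.Lib.Helper42_E32Sing
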