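import Mathlib
import Cfsg.Agent.Lib.Helper42_E32

/-!
# Recognising `2^{1+4}_-` (helper42)

A subgroup `R` of order 32 of a group `G` with a central involution `z` such that all squares and
commutators of `R` lie in `{1, z}`, centre `{1, z}`, and no elementary abelian subgroup of order 8, is
the image of an injective homomorphism from the explicit group `E32`.
-/

set_option autoImplicit false
set_option linter.unusedSimpArgs false

namespace Cfsg.Agent.Lib.Helper42_ES32

open Cfsg.Agent.Lib.Helper42_E32 Cfsg.Agent.Lib.Helper42_E32.E32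

variable {G : Type*} [Group G]

theorem zmod2_cases (e : ZMod 2) : e = 0 ∨ e = 1 := by
  revert e; decide

/-- the hypotheses: all squares and commutators in `{1,z}`, centre `{1,z}` -/
structure ESHyp (R : Subgroup G) (z : G) : Prop where
  z_mem : z ∈ R
  z_ne : z ≠ 1
  z_sq : z * z = 1
  z_comm : ∀ g ∈ R, g * z = z * g
  sq : ∀ g ∈ R, g * g = 1 ∨ g * g = z
  comm : ∀ g ∈ R, ∀ h ∈ R, g * h = h * g ∨ g * h = z * (h * g)
  center : ∀ g ∈ R, (∀ h ∈ R, g * h = h * g) → g = 1 ∨ g = z

section basic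

variable {R : Subgroup G} {z : G}

theorem gpow_add (hz : z * z = 1) (e e' : ZMod 2) : gpow z (e + e') = gpow z e * gpow z e' := by
  rcases zmod2_cases e with rfl | rfl <;> rcases zmod2_cases e' with rfl | rfl
  · simp
  · simp
  · simp
  · have : (1 : ZMod 2) + 1 = 0 := by decide
    rw [this]; simp [hz]

theorem gpow_mem {g : G} (hg : g ∈ R) (e : ZMod 2) : gpow g e ∈ R := by
  rcases zmod2_cases e with rfl | rfl
  · simp [R.one_mem]
  · simpa using hg

theorem gpow_inj (hz : z ≠ 1) {e e' : ZMod 2} (h : gpow z e = gpow z e') : e = e' := by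
  rcases zmod2_cases e with rfl | rfl <;> rcases zmod2_cases e' with rfl | rfl
  · rfl
  · simp at h; exact absurd h.symm hz
  · simp at h; exact absurd h hz
  · rfl

theorem gpow_comm (H : ESHyp R z) {g : G} (hg : g ∈ R) (e : ZMod 2) :
    g * gpow z e = gpow z e * g := by
  rcases zmod2_cases e with rfl | rfl
  · simp
  · simpa using H.z_comm g hg

open Classical in
/-- the commutator pairing -/
noncomputable def kap (g h : G) : ZMod 2 := if g * h = h * g then 0 else 1

open Classical in
/-- the squaring map -/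
noncomputable def qq (g : G) : ZMod 2 := if g * g = 1 then 0 else 1

theorem kap_spec (H : ESHyp R z) {g h : G} (hg : g ∈ R) (hh : h ∈ R) :
    g * h = gpow z (kap g h) * (h * g) := by
  unfold kap
  split_ifs with hc
  · simpa using hc
  · rcases H.comm g hg h hh with h1 | h1
    · exact absurd h1 hc
    · simpa using h1

theorem qq_spec (H : ESHyp R z) {g : G} (hg : g ∈ R) : g * g = gpow z (qq g) := by
  unfold qq
  split_ifs with hc
  · simpa using hc
  · rcases H.sq g hg with h1 | h1
    · exact absurd h1 hc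
    · simpa using h1

theorem kap_eq_zero_iff {g h : G} : kap g h = 0 ↔ g * h = h * g := by
  unfold kap
  split_ifs with hc
  · simp [hc]
  · simp [hc]

theorem qq_eq_zero_iff {g : G} : qq g = 0 ↔ g * g = 1 := by
  unfold qq
  split_ifs with hc
  · simp [hc]
  · simp [hc]

/-- uniqueness of the sign -/
theorem kap_unique (H : ESHyp R z) {g h : G} (hg : g ∈ R) (hh : h ∈ R) (e : ZMod 2)
    (he : g * h = gpow z e * (h * g)) : kap g h = e := by
  have h1 := kap_spec H hg hh
  rw [he] at h1
  exact (gpow_inj H.z_ne (mul_right_cancel h1)).symm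

theorem qq_unique (H : ESHyp R z) {g : G} (hg : g ∈ R) (e : ZMod 2)
    (he : g * g = gpow z e) : qq g = e := by
  have h1 := qq_spec H hg
  rw [he] at h1
  exact (gpow_inj H.z_ne h1).symm

theorem kap_mul_left (H : ESHyp R z) {g g' h : G} (hg : g ∈ R) (hg' : g' ∈ R) (hh : h ∈ R) :
    kap (g * g') h = kap g h + kap g' h := by
  apply kap_unique H (R.mul_mem hg hg') hh
  have h1 := kap_spec H hg hh
  have h2 := kap_spec H hg' hh
  have hz1 := gpow_mem (R := R) H.z_mem (kap g' h)
  calc g * g' * h = g * (g' * h) := by rw [mul_assoc]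
    _ = g * (gpow z (kap g' h) * (h * g')) := by rw [h2]
    _ = gpow z (kap g' h) * (g * h) * g' := by
        rw [← mul_assoc g, gpow_comm H hg, mul_assoc, mul_assoc, mul_assoc]
    _ = gpow z (kap g' h) * (gpow z (kap g h) * (h * g)) * g' := by rw [h1]
    _ = gpow z (kap g h + kap g' h) * (h * (g * g')) := by
        rw [gpow_add H.z_sq, mul_comm_of_gpow H.z_sq]
        simp only [mul_assoc]
where
  mul_comm_of_gpow {z : G} (hz : z * z = 1) {e e' : ZMod 2} :
      gpow z e * gpow z e' = gpow z e' * gpow z e := by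
    rcases zmod2_cases e with rfl | rfl <;> rcases zmod2_cases e' with rfl | rfl <;> simp

theorem kap_symm (H : ESHyp R z) {g h : G} (hg : g ∈ R) (hh : h ∈ R) : kap g h = kap h g := by
  apply kap_unique H hg hh
  have h1 := kap_spec H hh hg
  have hz1 := gpow_mem (R := R) H.z_mem (kap h g)
  calc g * h = gpow z (kap h g) * (gpow z (kap h g) * (g * h)) := by
        rw [← mul_assoc, ← gpow_add H.z_sq, two_mul_zmod]; simp
    _ = gpow z (kap h g) * (h * g) := by rw [← h1]

theorem kap_mul_right (H : ESHyp R z) {g h h' : G} (hg : g ∈ R) (hh : h ∈ R) (hh' : h' ∈ R) :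
    kap g (h * h') = kap g h + kap g h' := by
  rw [kap_symm H hg (R.mul_mem hh hh'), kap_mul_left H hh hh' hg, kap_symm H hh hg,
    kap_symm H hh' hg]

theorem kap_self (g : G) : kap g g = 0 := kap_eq_zero_iff.mpr rfl

theorem kap_one_left (g : G) : kap 1 g = 0 := kap_eq_zero_iff.mpr (by simp)

theorem kap_z_left (H : ESHyp R z) {g : G} (hg : g ∈ R) : kap z g = 0 :=
  kap_eq_zero_iff.mpr (H.z_comm g hg).symm

theorem kap_gpow_left (g h : G) (e : ZMod 2) :
    kap (gpow g e) h = e * kap g h := by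
  rcases zmod2_cases e with rfl | rfl
  · simp [kap_one_left]
  · simp

theorem qq_mul (H : ESHyp R z) {g h : G} (hg : g ∈ R) (hh : h ∈ R) :
    qq (g * h) = qq g + qq h + kap g h := by
  apply qq_unique H (R.mul_mem hg hh)
  have h1 := kap_spec H hh hg
  have h2 := qq_spec H hg
  have h3 := qq_spec H hh
  calc g * h * (g * h) = g * (h * g) * h := by simp only [mul_assoc]
    _ = g * (gpow z (kap h g) * (g * h)) * h := by rw [h1]
    _ = gpow z (kap h g) * ((g * g) * (h * h)) := by
        rw [← mul_assoc g, gpow_comm H hg]; simp only [mul_assoc]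
    _ = gpow z (qq g + qq h + kap g h) := by
        rw [h2, h3, kap_symm H hh hg, ← gpow_add H.z_sq, ← gpow_add H.z_sq]
        congr 1; ring

theorem qq_one : qq (1 : G) = 0 := qq_eq_zero_iff.mpr (by simp)

theorem qq_z (H : ESHyp R z) : qq z = 0 := qq_eq_zero_iff.mpr H.z_sq

/-- an element of `R` pairing trivially with all of `R` is `1` or `z` -/
theorem eq_one_or_of_kap (H : ESHyp R z) {g : G} (hg : g ∈ R) (hk : ∀ h ∈ R, kap g h = 0) :
    g = 1 ∨ g = z :=
  H.center g hg (fun h hh => kap_eq_zero_iff.mp (hk h hh))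

theorem exists_kap_eq_one (H : ESHyp R z) {g : G} (hg : g ∈ R) (h1 : g ≠ 1) (hz : g ≠ z) :
    ∃ h ∈ R, kap g h = 1 := by
  by_contra hcon
  push Not at hcon
  have hall : ∀ h ∈ R, kap g h = 0 := by
    intro h hh
    rcases zmod2_cases (kap g h) with h0 | h0
    · exact h0
    · exact absurd h0 (hcon h hh)
  rcases eq_one_or_of_kap H hg hall with h | h
  · exact h1 h
  · exact hz h

end basic

section gens

variable {R : Subgroup G} {z : G}

/-- a standard generating tuple -/
structure Gens (R : Subgroup G) (a b c d : G) : Prop where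
  ha : a ∈ R
  hb : b ∈ R
  hc : c ∈ R
  hd : d ∈ R
  qa : qq a = 1
  qb : qq b = 1
  kab : kap a b = 1
  qc : qq c = 0
  qd : qq d = 0
  kcd : kap c d = 1
  kac : kap a c = 0
  kad : kap a d = 0
  kbc : kap b c = 0
  kbd : kap b d = 0

/-- the correction of `h` by the pair `g1, g2` -/
noncomputable def corr (g1 g2 h : G) : G := h * (gpow g2 (kap h g1) * gpow g1 (kap h g2))

theorem corr_mem {g1 g2 h : G} (h1 : g1 ∈ R) (h2 : g2 ∈ R) (hh : h ∈ R) : corr g1 g2 h ∈ R :=
  R.mul_mem hh (R.mul_mem (gpow_mem h2 _) (gpow_mem h1 _))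

theorem kap_corr (H : ESHyp R z) {g1 g2 h w : G} (h1 : g1 ∈ R) (h2 : g2 ∈ R) (hh : h ∈ R)
    (hw : w ∈ R) :
    kap (corr g1 g2 h) w = kap h w + kap h g1 * kap g2 w + kap h g2 * kap g1 w := by
  unfold corr
  rw [kap_mul_left H hh (R.mul_mem (gpow_mem h2 _) (gpow_mem h1 _)) hw,
    kap_mul_left H (gpow_mem h2 _) (gpow_mem h1 _) hw, kap_gpow_left, kap_gpow_left]
  ring

theorem kap_corr_left (H : ESHyp R z) {g1 g2 h : G} (h1 : g1 ∈ R) (h2 : g2 ∈ R)
    (h12 : kap g1 g2 = 1) (hh : h ∈ R) : kap (corr g1 g2 h) g1 = 0 := by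
  rw [kap_corr H h1 h2 hh h1, kap_symm H h2 h1, h12, kap_self]
  have := two_mul_zmod (kap h g1)
  linear_combination this

theorem kap_corr_right (H : ESHyp R z) {g1 g2 h : G} (h1 : g1 ∈ R) (h2 : g2 ∈ R)
    (h12 : kap g1 g2 = 1) (hh : h ∈ R) : kap (corr g1 g2 h) g2 = 0 := by
  rw [kap_corr H h1 h2 hh h2, h12, kap_self]
  have := two_mul_zmod (kap h g2)
  linear_combination this

/-- a dihedral pair has generators that are involutions -/
theorem dihedral_gens (H : ESHyp R z) {u v : G} (hu : u ∈ R) (hv : v ∈ R) (huv : kap u v = 1)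
    (hq : ¬ (qq u = 1 ∧ qq v = 1)) :
    ∃ c ∈ R, ∃ d ∈ R, qq c = 0 ∧ qq d = 0 ∧ kap c d = 1 ∧
      ∀ w ∈ R, kap u w = 0 → kap v w = 0 → kap c w = 0 ∧ kap d w = 0 := by
  rcases zmod2_cases (qq u) with hqu | hqu <;> rcases zmod2_cases (qq v) with hqv | hqv
  · exact ⟨u, hu, v, hv, hqu, hqv, huv, fun w _ h1 h2 => ⟨h1, h2⟩⟩
  · refine ⟨u, hu, u * v, R.mul_mem hu hv, hqu, ?_, ?_, fun w hw h1 h2 => ⟨h1, ?_⟩⟩
    · rw [qq_mul H hu hv, hqu, hqv, huv]; decide
    · rw [kap_mul_right H hu hu hv, kap_self, huv]; decide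
    · rw [kap_mul_left H hu hv hw, h1, h2]; decide
  · refine ⟨v, hv, u * v, R.mul_mem hu hv, hqv, ?_, ?_, fun w hw h1 h2 => ⟨h2, ?_⟩⟩
    · rw [qq_mul H hu hv, hqu, hqv, huv]; decide
    · rw [kap_mul_right H hv hu hv, kap_self, kap_symm H hv hu, huv]; decide
    · rw [kap_mul_left H hu hv hw, h1, h2]; decide
  · exact absurd ⟨hqu, hqv⟩ hq

/-- existence of an element of `R` outside a set of at most 8 elements -/
theorem exists_not_range (hcard : Nat.card R = 32) (F : ZMod 2 × ZMod 2 × ZMod 2 → G) :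
    ∃ h ∈ R, ∀ t, h ≠ F t := by
  by_contra hcon
  push Not at hcon
  have hex : ∀ h : R, ∃ t, (h : G) = F t := fun h => hcon h.1 h.2
  have hinj : Function.Injective (fun h : R => Classical.choose (hex h)) := by
    intro h h' hhh
    apply Subtype.ext
    rw [Classical.choose_spec (hex h), Classical.choose_spec (hex h')]
    exact congrArg F hhh
  have h1 := Nat.card_le_card_of_injective _ hinj
  rw [hcard] at h1
  have h2 : Nat.card (ZMod 2 × ZMod 2 × ZMod 2) = 8 := by
    rw [Nat.card_eq_fintype_card]; decide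
  omega

theorem exists_gens (H : ESHyp R z) (hcard : Nat.card R = 32)
    (hM : ∀ u ∈ R, ∀ v ∈ R, qq u = 0 → qq v = 0 → kap u v = 0 → (∃ w ∈ R, kap u w = 1) →
      (∃ w ∈ R, kap v w = 1) → (∃ w ∈ R, kap (u * v) w = 1) → False) :
    ∃ a b c d : G, Gens R a b c d := by
  -- first pair
  obtain ⟨g1, h1, hg1⟩ := exists_not_range hcard (fun t : ZMod 2 × ZMod 2 × ZMod 2 => gpow z t.1)
  have hg1one : g1 ≠ 1 := by simpa using hg1 (0, 0, 0)
  have hg1z : g1 ≠ z := by simpa using hg1 (1, 0, 0)
  obtain ⟨g2, h2, h12⟩ := exists_kap_eq_one H h1 hg1one hg1z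
  -- second pair
  obtain ⟨h, hh, hhF⟩ := exists_not_range hcard
    (fun t : ZMod 2 × ZMod 2 × ZMod 2 => gpow z t.1 * (gpow g2 t.2.1 * gpow g1 t.2.2)⁻¹)
  set g3 := corr g1 g2 h with hg3
  have h3 : g3 ∈ R := corr_mem h1 h2 hh
  have h31 : kap g3 g1 = 0 := kap_corr_left H h1 h2 h12 hh
  have h32 : kap g3 g2 = 0 := kap_corr_right H h1 h2 h12 hh
  have hg3one : g3 ≠ 1 := by
    intro h0
    apply hhF (0, kap h g1, kap h g2)
    simp only [gpow_zero, one_mul]
    rw [eq_inv_iff_mul_eq_one]
    exact h0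
  have hg3z : g3 ≠ z := by
    intro h0
    apply hhF (1, kap h g1, kap h g2)
    simp only [gpow_one]
    rw [eq_mul_inv_iff_mul_eq]
    exact h0
  obtain ⟨h', hh', h3h'⟩ := exists_kap_eq_one H h3 hg3one hg3z
  set g4 := corr g1 g2 h' with hg4
  have h4 : g4 ∈ R := corr_mem h1 h2 hh'
  have h41 : kap g4 g1 = 0 := kap_corr_left H h1 h2 h12 hh'
  have h42 : kap g4 g2 = 0 := kap_corr_right H h1 h2 h12 hh'
  have h34 : kap g3 g4 = 1 := by
    rw [kap_symm H h3 h4, kap_corr H h1 h2 hh' h3, kap_symm H h2 h3, kap_symm H h1 h3, h31, h32,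
      kap_symm H hh' h3, h3h']
    ring
  have h13 : kap g1 g3 = 0 := by rw [kap_symm H h1 h3, h31]
  have h23 : kap g2 g3 = 0 := by rw [kap_symm H h2 h3, h32]
  have h14 : kap g1 g4 = 0 := by rw [kap_symm H h1 h4, h41]
  have h24 : kap g2 g4 = 0 := by rw [kap_symm H h2 h4, h42]
  have h21 : kap g2 g1 = 1 := by rw [kap_symm H h2 h1, h12]
  have h43 : kap g4 g3 = 1 := by rw [kap_symm H h4 h3, h34]
  by_cases hQ1 : qq g1 = 1 ∧ qq g2 = 1
  · by_cases hQ2 : qq g3 = 1 ∧ qq g4 = 1
    · -- both quaternion: contradiction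
      exfalso
      refine hM (g1 * g3) (R.mul_mem h1 h3) (g2 * g4) (R.mul_mem h2 h4) ?_ ?_ ?_
        ⟨g2, h2, ?_⟩ ⟨g1, h1, ?_⟩ ⟨g1, h1, ?_⟩
      · rw [qq_mul H h1 h3, hQ1.1, hQ2.1, h13]; decide
      · rw [qq_mul H h2 h4, hQ1.2, hQ2.2, h24]; decide
      · rw [kap_mul_left H h1 h3 (R.mul_mem h2 h4), kap_mul_right H h1 h2 h4,
          kap_mul_right H h3 h2 h4, h12, h14, h32, h34]; decide
      · rw [kap_mul_left H h1 h3 h2, h12, h32]; decide
      · rw [kap_mul_left H h2 h4 h1, h21, h41]; decide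
      · rw [kap_mul_left H (R.mul_mem h1 h3) (R.mul_mem h2 h4) h1, kap_mul_left H h1 h3 h1,
          kap_mul_left H h2 h4 h1, kap_self, h31, h21, h41]; decide
    · obtain ⟨c, hc, d, hd, qc, qd, kcd, hcd⟩ := dihedral_gens H h3 h4 h34 hQ2
      have hc1 := hcd g1 h1 h31 h41
      have hc2 := hcd g2 h2 h32 h42
      exact ⟨g1, g2, c, d, ⟨h1, h2, hc, hd, hQ1.1, hQ1.2, h12, qc, qd, kcd,
        by rw [kap_symm H h1 hc, hc1.1], by rw [kap_symm H h1 hd, hc1.2],
        by rw [kap_symm H h2 hc, hc2.1], by rw [kap_symm H h2 hd, hc2.2]⟩⟩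
  · obtain ⟨c, hc, d, hd, qc, qd, kcd, hcd⟩ := dihedral_gens H h1 h2 h12 hQ1
    have hc3 := hcd g3 h3 h13 h23
    have hc4 := hcd g4 h4 h14 h24
    by_cases hQ2 : qq g3 = 1 ∧ qq g4 = 1
    · exact ⟨g3, g4, c, d, ⟨h3, h4, hc, hd, hQ2.1, hQ2.2, h34, qc, qd, kcd,
        by rw [kap_symm H h3 hc, hc3.1], by rw [kap_symm H h3 hd, hc3.2],
        by rw [kap_symm H h4 hc, hc4.1], by rw [kap_symm H h4 hd, hc4.2]⟩⟩
    · -- both dihedral: contradiction
      exfalso
      obtain ⟨c', hc', d', hd', qc', qd', kcd', hcd'⟩ := dihedral_gens H h3 h4 h34 hQ2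
      have e1 := hcd' g1 h1 h31 h41
      have e2 := hcd' g2 h2 h32 h42
      -- c', d' commute with c, d
      have hcc' : kap c c' = 0 := (hcd c' hc' (by rw [kap_symm H h1 hc', e1.1])
        (by rw [kap_symm H h2 hc', e2.1])).1
      have hdc' : kap d c' = 0 := (hcd c' hc' (by rw [kap_symm H h1 hc', e1.1])
        (by rw [kap_symm H h2 hc', e2.1])).2
      refine hM c hc c' hc' qc qc' hcc' ⟨d, hd, kcd⟩ ⟨d', hd', kcd'⟩ ⟨d, hd, ?_⟩
      rw [kap_mul_left H hc hc' hd, kcd, kap_symm H hc' hd, hdc']; decide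

end gens

section hom

/-- the defining relations of `2^{1+4}_-` -/
structure Rel (z a b c d : G) : Prop where
  zz : z * z = 1
  za : a * z = z * a
  zb : b * z = z * b
  zc : c * z = z * c
  zd : d * z = z * d
  aa : a * a = z
  bb : b * b = z
  ba : b * a = z * (a * b)
  cc : c * c = 1
  dd : d * d = 1
  dc : d * c = z * (c * d)
  ca : c * a = a * c
  cb : c * b = b * c
  da : d * a = a * d
  db : d * b = b * d

variable {z a b c d : G}

/-- quaternion part -/
def qa (a b : G) (i j : ZMod 2) : G := gpow a i * gpow b j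

/-- the map `E32 → G` -/
def phi (z a b c d : G) (x : E32) : G := gpow z x.s * (qa a b x.i x.j * qa c d x.k x.l)

theorem h11 : (1 : ZMod 2) + 1 = 0 := by decide

theorem qa_mul (h : Rel z a b c d) (i j i' j' : ZMod 2) :
    qa a b i j * qa a b i' j' = gpow z (j * i' + i * i' + j * j') * qa a b (i + i') (j + j') := by
  have e1 : ∀ w, b * (a * w) = z * (a * (b * w)) := fun w => by
    rw [← mul_assoc, h.ba]; simp only [mul_assoc]
  have e2 : ∀ w, a * (a * w) = z * w := fun w => by rw [← mul_assoc, h.aa]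
  have e3 : ∀ w, b * (b * w) = z * w := fun w => by rw [← mul_assoc, h.bb]
  have e4 : ∀ w, a * (z * w) = z * (a * w) := fun w => by
    rw [← mul_assoc, h.za, mul_assoc]
  have e5 : ∀ w, b * (z * w) = z * (b * w) := fun w => by
    rw [← mul_assoc, h.zb, mul_assoc]
  have e6 : ∀ w, z * (z * w) = w := fun w => by rw [← mul_assoc, h.zz, one_mul]
  rcases zmod2_cases i with rfl | rfl <;> rcases zmod2_cases j with rfl | rfl <;>
    rcases zmod2_cases i' with rfl | rfl <;> rcases zmod2_cases j' with rfl | rfl <;>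
    simp only [qa, gpow_zero, gpow_one, mul_one, one_mul, mul_zero, zero_mul, add_zero, zero_add,
      h11, mul_assoc, e1, e2, e3, e4, e5, e6, h.ba, h.aa, h.bb, h.za, h.zb, h.zz]

theorem qd_mul (h : Rel z a b c d) (k l k' l' : ZMod 2) :
    qa c d k l * qa c d k' l' = gpow z (l * k') * qa c d (k + k') (l + l') := by
  have e1 : ∀ w, d * (c * w) = z * (c * (d * w)) := fun w => by
    rw [← mul_assoc, h.dc]; simp only [mul_assoc]
  have e2 : ∀ w, c * (c * w) = w := fun w => by rw [← mul_assoc, h.cc, one_mul]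
  have e3 : ∀ w, d * (d * w) = w := fun w => by rw [← mul_assoc, h.dd, one_mul]
  have e4 : ∀ w, c * (z * w) = z * (c * w) := fun w => by
    rw [← mul_assoc, h.zc, mul_assoc]
  have e5 : ∀ w, d * (z * w) = z * (d * w) := fun w => by
    rw [← mul_assoc, h.zd, mul_assoc]
  have e6 : ∀ w, z * (z * w) = w := fun w => by rw [← mul_assoc, h.zz, one_mul]
  rcases zmod2_cases k with rfl | rfl <;> rcases zmod2_cases l with rfl | rfl <;>
    rcases zmod2_cases k' with rfl | rfl <;> rcases zmod2_cases l' with rfl | rfl <;>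
    simp only [qa, gpow_zero, gpow_one, mul_one, one_mul, mul_zero, zero_mul, add_zero, zero_add,
      h11, mul_assoc, e1, e2, e3, e4, e5, e6, h.dc, h.cc, h.dd, h.zc, h.zd, h.zz]

theorem gpow_commute {g h : G} (hc : Commute g h) (e e' : ZMod 2) :
    Commute (gpow g e) (gpow h e') := by
  rcases zmod2_cases e with rfl | rfl <;> rcases zmod2_cases e' with rfl | rfl <;>
    simp [hc]

theorem qa_commute {g1 g2 h1 h2 : G} (c11 : Commute g1 h1) (c12 : Commute g1 h2)
    (c21 : Commute g2 h1) (c22 : Commute g2 h2) (i j k l : ZMod 2) :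
    Commute (qa g1 g2 i j) (qa h1 h2 k l) := by
  unfold qa
  exact ((gpow_commute c11 i k).mul_right (gpow_commute c12 i l)).mul_left
    ((gpow_commute c21 j k).mul_right (gpow_commute c22 j l))

theorem gpow_z_commute_qa {g1 g2 : G} (c1 : Commute z g1) (c2 : Commute z g2) (e i j : ZMod 2) :
    Commute (gpow z e) (qa g1 g2 i j) := by
  unfold qa
  exact (gpow_commute c1 e i).mul_right (gpow_commute c2 e j)

theorem phi_mul (h : Rel z a b c d) (x y : E32) :
    phi z a b c d (x * y) = phi z a b c d x * phi z a b c d y := by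
  have cza : Commute z a := h.za.symm
  have czb : Commute z b := h.zb.symm
  have czc : Commute z c := h.zc.symm
  have czd : Commute z d := h.zd.symm
  have c1 : Commute (qa c d x.k x.l) (qa a b y.i y.j) :=
    qa_commute h.ca h.cb h.da h.db _ _ _ _
  have c2 : Commute (gpow z y.s) (qa a b x.i x.j * qa c d x.k x.l) :=
    (gpow_z_commute_qa cza czb _ _ _).mul_right (gpow_z_commute_qa czc czd _ _ _)
  have c3 : Commute (gpow z (x.l * y.k)) (qa a b (x.i + y.i) (x.j + y.j)) :=
    gpow_z_commute_qa cza czb _ _ _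
  symm
  calc phi z a b c d x * phi z a b c d y
      = gpow z x.s * ((qa a b x.i x.j * qa c d x.k x.l) * gpow z y.s) *
          (qa a b y.i y.j * qa c d y.k y.l) := by
        unfold phi; simp only [mul_assoc]
    _ = gpow z x.s * (gpow z y.s * (qa a b x.i x.j * qa c d x.k x.l)) *
          (qa a b y.i y.j * qa c d y.k y.l) := by rw [c2.eq]
    _ = gpow z x.s * gpow z y.s * (qa a b x.i x.j * (qa c d x.k x.l * qa a b y.i y.j) *
          qa c d y.k y.l) := by simp only [mul_assoc]
    _ = gpow z x.s * gpow z y.s * (qa a b x.i x.j * (qa a b y.i y.j * qa c d x.k x.l) *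
          qa c d y.k y.l) := by rw [c1.eq]
    _ = gpow z x.s * gpow z y.s * ((qa a b x.i x.j * qa a b y.i y.j) *
          (qa c d x.k x.l * qa c d y.k y.l)) := by simp only [mul_assoc]
    _ = gpow z x.s * gpow z y.s * ((gpow z (x.j * y.i + x.i * y.i + x.j * y.j) *
          qa a b (x.i + y.i) (x.j + y.j)) * (gpow z (x.l * y.k) *
          qa c d (x.k + y.k) (x.l + y.l))) := by rw [qa_mul h, qd_mul h]
    _ = gpow z x.s * gpow z y.s * (gpow z (x.j * y.i + x.i * y.i + x.j * y.j) *
          ((qa a b (x.i + y.i) (x.j + y.j) * gpow z (x.l * y.k)) *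
          qa c d (x.k + y.k) (x.l + y.l))) := by simp only [mul_assoc]
    _ = gpow z x.s * gpow z y.s * (gpow z (x.j * y.i + x.i * y.i + x.j * y.j) *
          ((gpow z (x.l * y.k) * qa a b (x.i + y.i) (x.j + y.j)) *
          qa c d (x.k + y.k) (x.l + y.l))) := by rw [c3.eq]
    _ = (gpow z x.s * gpow z y.s * (gpow z (x.j * y.i + x.i * y.i + x.j * y.j) *
          gpow z (x.l * y.k))) * (qa a b (x.i + y.i) (x.j + y.j) *
          qa c d (x.k + y.k) (x.l + y.l)) := by simp only [mul_assoc]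
    _ = phi z a b c d (x * y) := by
        rw [← gpow_add h.zz, ← gpow_add h.zz, ← gpow_add h.zz]
        unfold phi
        simp only [E32.mul_def]

theorem phi_one : phi z a b c d 1 = 1 := by
  simp [phi, qa, E32.one_def]

/-- the homomorphism `E32 →* G` attached to a tuple satisfying the relations -/
def phiHom (h : Rel z a b c d) : E32 →* G where
  toFun := phi z a b c d
  map_one' := phi_one
  map_mul' := phi_mul h

theorem phiHom_apply (h : Rel z a b c d) (x : E32) : phiHom h x = phi z a b c d x := rfl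

theorem phiHom_eZ (h : Rel z a b c d) : phiHom h eZ = z := by
  simp [phiHom_apply, phi, qa, eZ]

theorem phiHom_eA (h : Rel z a b c d) : phiHom h eA = a := by
  simp [phiHom_apply, phi, qa, eA]

theorem phiHom_eB (h : Rel z a b c d) : phiHom h eB = b := by
  simp [phiHom_apply, phi, qa, eB]

theorem phiHom_eC (h : Rel z a b c d) : phiHom h eC = c := by
  simp [phiHom_apply, phi, qa, eC]

theorem phiHom_eD (h : Rel z a b c d) : phiHom h eD = d := by
  simp [phiHom_apply, phi, qa, eD]

theorem phiHom_injective (h : Rel z a b c d) (hz : z ≠ 1) : Function.Injective (phiHom h) := by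
  rw [injective_iff_map_eq_one]
  intro x hx
  rcases E32.center_or x with h1 | h1 | ⟨y, hy⟩
  · exact h1
  · exfalso; rw [h1, phiHom_eZ] at hx; exact hz hx
  · exfalso
    have := congrArg (phiHom h) hy
    rw [map_mul, map_mul, map_mul, hx, phiHom_eZ, one_mul, mul_one] at this
    apply hz
    have h2 : z * phiHom h y = 1 * phiHom h y := by rw [one_mul]; exact this.symm
    exact mul_right_cancel h2

end hom

section main

variable {R : Subgroup G} {z : G}

theorem rel_of_gens (H : ESHyp R z) {a b c d : G} (g : Gens R a b c d) : Rel z a b c d := by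
  have k1 : ∀ {u v : G}, u ∈ R → v ∈ R → kap u v = 1 → v * u = z * (u * v) := by
    intro u v hu hv h
    have := kap_spec H hv hu
    rw [kap_symm H hv hu, h] at this
    simpa using this
  have k0 : ∀ {u v : G}, kap u v = 0 → v * u = u * v := fun h => (kap_eq_zero_iff.mp h).symm
  have q1 : ∀ {u : G}, u ∈ R → qq u = 1 → u * u = z := by
    intro u hu h
    have := qq_spec H hu
    rw [h] at this
    simpa using this
  exact ⟨H.z_sq, H.z_comm a g.ha, H.z_comm b g.hb, H.z_comm c g.hc, H.z_comm d g.hd,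
    q1 g.ha g.qa, q1 g.hb g.qb, k1 g.ha g.hb g.kab, qq_eq_zero_iff.mp g.qc, qq_eq_zero_iff.mp g.qd,
    k1 g.hc g.hd g.kcd, k0 g.kac, k0 g.kbc, k0 g.kad, k0 g.kbd⟩

theorem phi_mem (H : ESHyp R z) {a b c d : G} (g : Gens R a b c d) (x : E32) :
    phi z a b c d x ∈ R := by
  unfold phi qa
  exact R.mul_mem (gpow_mem H.z_mem _) (R.mul_mem (R.mul_mem (gpow_mem g.ha _) (gpow_mem g.hb _))
    (R.mul_mem (gpow_mem g.hc _) (gpow_mem g.hd _)))

/-- Main recognition theorem. -/
theorem exists_phi [Finite G] (H : ESHyp R z) (hcard : Nat.card R = 32)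
    (hM : ∀ u ∈ R, ∀ v ∈ R, qq u = 0 → qq v = 0 → kap u v = 0 → (∃ w ∈ R, kap u w = 1) →
      (∃ w ∈ R, kap v w = 1) → (∃ w ∈ R, kap (u * v) w = 1) → False) :
    ∃ φ : E32 →* G, Function.Injective φ ∧ φ.range = R ∧ φ eZ = z := by
  obtain ⟨a, b, c, d, g⟩ := exists_gens H hcard hM
  have hrel := rel_of_gens H g
  refine ⟨phiHom hrel, phiHom_injective hrel H.z_ne, ?_, phiHom_eZ hrel⟩
  have hle : (phiHom hrel).range ≤ R := by
    rintro _ ⟨x, rfl⟩
    exact phi_mem H g x
  apply Subgroup.eq_of_le_of_card_ge hle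
  rw [hcard]
  have : Nat.card (phiHom hrel).range = Nat.card E32 :=
    (Nat.card_congr (Equiv.ofInjective _ (phiHom_injective hrel H.z_ne))).symm
  rw [this, Nat.card_eq_fintype_card, E32.card_eq]

/-- the minus-type hypothesis in terms of the pairing -/
theorem hM_of_minus [Finite G] (H : ESHyp R z) (hcard : Nat.card R = 32)
    (hminus : ∀ A : Subgroup R, IsMulCommutative A → (∀ x ∈ A, x * x = 1) → Nat.card A < 8) :
    ∀ u ∈ R, ∀ v ∈ R, qq u = 0 → qq v = 0 → kap u v = 0 → (∃ w ∈ R, kap u w = 1) →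
      (∃ w ∈ R, kap v w = 1) → (∃ w ∈ R, kap (u * v) w = 1) → False := by
  intro u hu v hv qu qv kuv ⟨w1, hw1, k1⟩ ⟨w2, hw2, k2⟩ ⟨w3, hw3, k3⟩
  have huu : u * u = 1 := qq_eq_zero_iff.mp qu
  have hvv : v * v = 1 := qq_eq_zero_iff.mp qv
  have huv : u * v = v * u := kap_eq_zero_iff.mp kuv
  -- noncentrality consequences
  have ne1 : ∀ {g w : G}, kap g w = 1 → g ≠ 1 := by
    rintro g w h rfl
    rw [kap_one_left] at h; exact zero_ne_one h
  have nez : ∀ {g w : G}, w ∈ R → kap g w = 1 → g ≠ z := by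
    rintro g w hw h rfl
    rw [kap_z_left H hw] at h; exact zero_ne_one h
  set z' : R := ⟨z, H.z_mem⟩ with hz'
  set u' : R := ⟨u, hu⟩ with hu'
  set v' : R := ⟨v, hv⟩ with hv'
  set A : Subgroup R := Subgroup.closure {z', u', v'} with hA
  have hcommA : IsMulCommutative A := by
    apply Subgroup.isMulCommutative_closure
    have c1 : z' * u' = u' * z' := Subtype.ext (H.z_comm u hu).symm
    have c2 : z' * v' = v' * z' := Subtype.ext (H.z_comm v hv).symm
    have c3 : u' * v' = v' * u' := Subtype.ext huv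
    intro x hx y hy
    simp only [Set.mem_insert_iff, Set.mem_singleton_iff] at hx hy
    rcases hx with rfl | rfl | rfl <;> rcases hy with rfl | rfl | rfl <;>
      first | rfl | exact c1 | exact c2 | exact c3 | exact c1.symm | exact c2.symm | exact c3.symm
  have hsqA : ∀ x ∈ A, x * x = 1 := by
    intro x hx
    induction hx using Subgroup.closure_induction with
    | mem x hx =>
      simp only [Set.mem_insert_iff, Set.mem_singleton_iff] at hx
      rcases hx with rfl | rfl | rfl
      · exact Subtype.ext H.z_sq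
      · exact Subtype.ext huu
      · exact Subtype.ext hvv
    | one => simp
    | mul x y hx hy hxx hyy =>
      have hc : x * y = y * x := by
        have := hcommA.is_comm.comm (⟨x, hx⟩ : A) ⟨y, hy⟩
        exact congrArg Subtype.val this
      calc x * y * (x * y) = x * (y * x) * y := by simp only [mul_assoc]
        _ = x * (x * y) * y := by rw [hc]
        _ = (x * x) * (y * y) := by simp only [mul_assoc]
        _ = 1 := by rw [hxx, hyy, one_mul]
    | inv x hx hxx =>
      have : x⁻¹ = x := inv_eq_of_mul_eq_one_left hxx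
      rw [this, hxx]
  have hlt := hminus A hcommA hsqA
  have hdvd : Nat.card A ∣ 32 := by
    rw [← hcard]; exact Subgroup.card_subgroup_dvd_card A
  -- five distinct elements
  have hz'A : z' ∈ A := Subgroup.subset_closure (by simp)
  have hu'A : u' ∈ A := Subgroup.subset_closure (by simp)
  have hv'A : v' ∈ A := Subgroup.subset_closure (by simp)
  have h5 : 5 ≤ Nat.card A := by
    classical
    have hfinA : Finite A := inferInstance
    let _ : Fintype A := Fintype.ofFinite A
    rw [Nat.card_eq_fintype_card]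
    let S : Finset A := {⟨1, A.one_mem⟩, ⟨z', hz'A⟩, ⟨u', hu'A⟩, ⟨v', hv'A⟩, ⟨u' * v', A.mul_mem hu'A hv'A⟩}
    have hS : S.card = 5 := by
      have d1 : z ≠ 1 := H.z_ne
      have d2 : u ≠ 1 := ne1 k1
      have d3 : u ≠ z := nez hw1 k1
      have d4 : v ≠ 1 := ne1 k2
      have d5 : v ≠ z := nez hw2 k2
      have d6 : u * v ≠ 1 := ne1 k3
      have d7 : u * v ≠ z := nez hw3 k3
      have d8 : u ≠ v := by
        rintro rfl; exact d6 huu
      have d9 : u ≠ u * v := by
        intro h; apply d4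
        have : u * 1 = u * v := by rw [mul_one]; exact h
        exact (mul_left_cancel this).symm
      have d10 : v ≠ u * v := by
        intro h; apply d2
        have : 1 * v = u * v := by rw [one_mul]; exact h
        exact (mul_right_cancel this).symm
      have e : ∀ (a b : G) (ha : a ∈ R) (hb : b ∈ R) (haA : (⟨a, ha⟩ : R) ∈ A) (hbA : (⟨b, hb⟩ : R) ∈ A),
          a ≠ b → (⟨⟨a, ha⟩, haA⟩ : A) ≠ ⟨⟨b, hb⟩, hbA⟩ := by
        intro a b ha hb haA hbA hab h
        apply hab
        exact congrArg (fun t : A => ((t : R) : G)) h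
      rw [Finset.card_insert_of_notMem, Finset.card_insert_of_notMem, Finset.card_insert_of_notMem,
        Finset.card_insert_of_notMem, Finset.card_singleton]
      · simp only [Finset.mem_singleton]
        exact e v (u * v) hv (R.mul_mem hu hv) hv'A (A.mul_mem hu'A hv'A) d10
      · simp only [Finset.mem_insert, Finset.mem_singleton, not_or]
        exact ⟨e u v hu hv hu'A hv'A d8, e u (u * v) hu (R.mul_mem hu hv) hu'A (A.mul_mem hu'A hv'A) d9⟩
      · simp only [Finset.mem_insert, Finset.mem_singleton, not_or]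
        exact ⟨e z u H.z_mem hu hz'A hu'A d3.symm, e z v H.z_mem hv hz'A hv'A d5.symm,
          e z (u * v) H.z_mem (R.mul_mem hu hv) hz'A (A.mul_mem hu'A hv'A) d7.symm⟩
      · simp only [Finset.mem_insert, Finset.mem_singleton, not_or]
        exact ⟨e 1 z R.one_mem H.z_mem A.one_mem hz'A d1.symm, e 1 u R.one_mem hu A.one_mem hu'A d2.symm,
          e 1 v R.one_mem hv A.one_mem hv'A d4.symm,
          e 1 (u * v) R.one_mem (R.mul_mem hu hv) A.one_mem (A.mul_mem hu'A hv'A) d6.symm⟩
    rw [← hS]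
    exact Finset.card_le_univ S
  have hle : Nat.card A ≤ 32 := Nat.le_of_dvd (by norm_num) hdvd
  interval_cases (Nat.card A) <;> omega

end main

end Cfsg.Agent.Lib.Helper42_ES32
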