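import Mathlib
import Cfsg.Prelude.Def_PLocal
import Cfsg.Prelude.Def_Transfer
import Cfsg.Agent.Lib.Helper20_PGroupOdd

/-!
# Self-centralizing cyclic normal subgroups of p-groups (helper4)

`SCCp p a n`: the cyclic subgroup `U = ⟨a⟩` of order `p ^ n` (`n ≥ 2`) is normal and equal to its
own centralizer.  With `z = a ^ p ^ (n - 1)` and `M = C(⟨a ^ p⟩)`: the elements of `M` act on `a` by
`a ↦ a ζ`, `ζ ∈ ⟨z⟩`; `|M : U| = p` as soon as `M ≠ U`; normal subgroups of exponent `p` lie in `M`;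
`Ω₁(M)` is characteristic as soon as it has exponent `p`.
-/

set_option autoImplicit false
set_option linter.unusedSectionVars false

namespace Cfsg.Agent.Lib.Helper4_CyclicNormalP

variable {S : Type*} [Group S]

/-- `⟨a⟩` is a normal, self-centralizing cyclic subgroup of order `p ^ n`, `n ≥ 2`. -/
structure SCCp (p : ℕ) (a : S) (n : ℕ) : Prop where
  normal : (Subgroup.zpowers a).Normal
  cent : Subgroup.centralizer (Subgroup.zpowers a : Set S) = Subgroup.zpowers a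
  order : orderOf a = p ^ n
  two_le : 2 ≤ n

/-- The element of order `p` of `⟨a⟩`. -/
def zp (p : ℕ) (a : S) (n : ℕ) : S := a ^ p ^ (n - 1)

/-- The centralizer of `⟨a ^ p⟩`. -/
def cM (p : ℕ) (a : S) : Subgroup S := Subgroup.centralizer (Subgroup.zpowers (a ^ p) : Set S)

theorem mem_cM_iff {p : ℕ} {a s : S} : s ∈ cM p a ↔ s * a ^ p * s⁻¹ = a ^ p := by
  rw [cM, Subgroup.mem_centralizer_iff]
  constructor
  · intro h
    have := h (a ^ p) (Subgroup.mem_zpowers _)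
    rw [mul_inv_eq_iff_eq_mul]
    exact this.symm
  · intro h x hx
    obtain ⟨k, rfl⟩ := Subgroup.mem_zpowers_iff.mp hx
    have hc : Commute s (a ^ p) := by
      rw [mul_inv_eq_iff_eq_mul] at h
      exact h
    exact (hc.zpow_right k).eq.symm

theorem le_cM {p : ℕ} {a : S} : Subgroup.zpowers a ≤ cM p a := by
  intro x hx
  obtain ⟨k, rfl⟩ := Subgroup.mem_zpowers_iff.mp hx
  rw [mem_cM_iff, mul_inv_eq_iff_eq_mul]
  exact (((Commute.refl a).pow_right p).zpow_left k).eq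

theorem powerClosure_zpowers (p : ℕ) (a : S) :
    Cfsg.powerClosure p 1 (Subgroup.zpowers a) = Subgroup.zpowers (a ^ p) := by
  unfold Cfsg.powerClosure
  apply le_antisymm
  · rw [Subgroup.closure_le]
    rintro y ⟨x, hx, rfl⟩
    obtain ⟨k, rfl⟩ := Subgroup.mem_zpowers_iff.mp hx
    rw [pow_one]
    refine Subgroup.mem_zpowers_iff.mpr ⟨k, ?_⟩
    rw [← zpow_natCast, ← zpow_natCast, ← zpow_mul, ← zpow_mul, mul_comm]
  · rw [Subgroup.zpowers_le]
    apply Subgroup.subset_closure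
    exact ⟨a, Subgroup.mem_zpowers a, by rw [pow_one]⟩

namespace SCCp

variable {p : ℕ} [hp : Fact p.Prime] {a : S} {n : ℕ}

theorem pow_pred_mul (_h : SCCp p a n) : p ^ (n - 1) * p = p ^ n := by
  have := _h.two_le
  rw [← pow_succ]
  congr 1
  omega

theorem z_pow (h : SCCp p a n) : (zp p a n) ^ p = 1 := by
  rw [zp, ← pow_mul, h.pow_pred_mul, ← h.order]
  exact pow_orderOf_eq_one a

theorem z_ne_one (h : SCCp p a n) : zp p a n ≠ 1 := by
  rw [zp]
  apply pow_ne_one_of_lt_orderOf (pow_pos hp.out.pos _).ne'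
  rw [h.order]
  exact Nat.pow_lt_pow_right hp.out.one_lt (by have := h.two_le; omega)

theorem orderOf_z (h : SCCp p a n) : orderOf (zp p a n) = p :=
  orderOf_eq_prime h.z_pow h.z_ne_one

theorem z_mem (_h : SCCp p a n) : zp p a n ∈ Subgroup.zpowers a :=
  Subgroup.pow_mem _ (Subgroup.mem_zpowers a) _

theorem z_mem_pow (h : SCCp p a n) : zp p a n ∈ Subgroup.zpowers (a ^ p) := by
  refine Subgroup.mem_zpowers_iff.mpr ⟨((p ^ (n - 2) : ℕ) : ℤ), ?_⟩
  rw [zpow_natCast, ← pow_mul, zp, ← pow_succ']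
  congr 2
  have := h.two_le
  omega

theorem zeta_pow (h : SCCp p a n) {ζ : S} (hζ : ζ ∈ Subgroup.zpowers (zp p a n)) : ζ ^ p = 1 := by
  obtain ⟨i, rfl⟩ := Subgroup.mem_zpowers_iff.mp hζ
  rw [← zpow_natCast, ← zpow_mul, mul_comm, zpow_mul, zpow_natCast, h.z_pow, one_zpow]

theorem zeta_mem (h : SCCp p a n) {ζ : S} (hζ : ζ ∈ Subgroup.zpowers (zp p a n)) :
    ζ ∈ Subgroup.zpowers a :=
  (Subgroup.zpowers_le.mpr h.z_mem) hζ

theorem zeta_mem_pow (h : SCCp p a n) {ζ : S} (hζ : ζ ∈ Subgroup.zpowers (zp p a n)) :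
    ζ ∈ Subgroup.zpowers (a ^ p) :=
  (Subgroup.zpowers_le.mpr h.z_mem_pow) hζ

/-- Elements of `M` commute with the elements of `⟨z⟩`. -/
theorem zeta_comm (h : SCCp p a n) {ζ s : S} (hζ : ζ ∈ Subgroup.zpowers (zp p a n))
    (hs : s ∈ cM p a) : s * ζ = ζ * s := by
  rw [cM, Subgroup.mem_centralizer_iff] at hs
  exact (hs ζ (h.zeta_mem_pow hζ)).symm

/-- Elements of `⟨a⟩` commute. -/
theorem comm_of_mem (_h : SCCp p a n) {u v : S} (hu : u ∈ Subgroup.zpowers a)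
    (hv : v ∈ Subgroup.zpowers a) : u * v = v * u := by
  obtain ⟨i, rfl⟩ := Subgroup.mem_zpowers_iff.mp hu
  obtain ⟨j, rfl⟩ := Subgroup.mem_zpowers_iff.mp hv
  exact (((Commute.refl a).zpow_left i).zpow_right j).eq

/-- An element of `⟨a⟩` of order dividing `p` lies in `⟨z⟩`. -/
theorem mem_zpowers_z_of_pow (h : SCCp p a n) {u : S} (hu : u ∈ Subgroup.zpowers a)
    (hup : u ^ p = 1) : u ∈ Subgroup.zpowers (zp p a n) := by
  obtain ⟨k, rfl⟩ := Subgroup.mem_zpowers_iff.mp hu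
  rw [← zpow_natCast, ← zpow_mul] at hup
  have h1 := orderOf_dvd_iff_zpow_eq_one.mpr hup
  rw [h.order, ← h.pow_pred_mul] at h1
  push_cast at h1
  have hp0 : (p : ℤ) ≠ 0 := by exact_mod_cast hp.out.ne_zero
  have h2 : ((p : ℤ) ^ (n - 1)) ∣ k := (mul_dvd_mul_iff_right hp0).mp h1
  obtain ⟨m, rfl⟩ := h2
  refine Subgroup.mem_zpowers_iff.mpr ⟨m, ?_⟩
  rw [zp, ← zpow_natCast, ← zpow_mul]
  push_cast
  rfl

theorem conj_exists (h : SCCp p a n) (s : S) : ∃ k : ℤ, s * a * s⁻¹ = a ^ k := by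
  obtain ⟨k, hk⟩ := Subgroup.mem_zpowers_iff.mp (h.normal.conj_mem a (Subgroup.mem_zpowers a) s)
  exact ⟨k, hk.symm⟩

theorem mem_of_conj (h : SCCp p a n) (s : S) (hs : s * a * s⁻¹ = a) : s ∈ Subgroup.zpowers a := by
  rw [← h.cent, Subgroup.mem_centralizer_iff]
  intro x hx
  obtain ⟨k, rfl⟩ := Subgroup.mem_zpowers_iff.mp hx
  have hc : Commute s a := by
    rw [mul_inv_eq_iff_eq_mul] at hs
    exact hs
  exact (hc.zpow_right k).eq.symm

theorem conj_of_mem (_h : SCCp p a n) (c : S) (hc : c ∈ Subgroup.zpowers a) :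
    c * a * c⁻¹ = a := by
  obtain ⟨k, rfl⟩ := Subgroup.mem_zpowers_iff.mp hc
  rw [mul_inv_eq_iff_eq_mul]
  exact ((Commute.refl a).zpow_left k).eq

/-- Elements of `M` act on `a` by `a ↦ a ζ` with `ζ ∈ ⟨z⟩`. -/
theorem conj_of_mem_cM (h : SCCp p a n) {s : S} (hs : s ∈ cM p a) :
    ∃ ζ ∈ Subgroup.zpowers (zp p a n), s * a * s⁻¹ = a * ζ := by
  refine ⟨a⁻¹ * (s * a * s⁻¹), ?_, by rw [mul_inv_cancel_left]⟩
  have hmem : a⁻¹ * (s * a * s⁻¹) ∈ Subgroup.zpowers a :=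
    Subgroup.mul_mem _ (Subgroup.inv_mem _ (Subgroup.mem_zpowers a))
      (h.normal.conj_mem a (Subgroup.mem_zpowers a) s)
  apply h.mem_zpowers_z_of_pow hmem
  have hc : Commute a⁻¹ (s * a * s⁻¹) :=
    h.comm_of_mem (Subgroup.inv_mem _ (Subgroup.mem_zpowers a))
      (h.normal.conj_mem a (Subgroup.mem_zpowers a) s)
  rw [hc.mul_pow, conj_pow, mem_cM_iff.mp hs, inv_pow, inv_mul_cancel]

/-- Conversely. -/
theorem mem_cM_of_conj (h : SCCp p a n) {s ζ : S} (hζ : ζ ∈ Subgroup.zpowers (zp p a n))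
    (hs : s * a * s⁻¹ = a * ζ) : s ∈ cM p a := by
  rw [mem_cM_iff, ← conj_pow, hs]
  have hc : Commute a ζ := h.comm_of_mem (Subgroup.mem_zpowers a) (h.zeta_mem hζ)
  rw [hc.mul_pow, h.zeta_pow hζ, mul_one]

/-- The action of `M` on `⟨a⟩`: commutators lie in `⟨z⟩`. -/
theorem comm_mem (h : SCCp p a n) {u y : S} (hu : u ∈ Subgroup.zpowers a) (hy : y ∈ cM p a) :
    y * u * y⁻¹ * u⁻¹ ∈ Subgroup.zpowers (zp p a n) := by
  obtain ⟨ζ, hζ, hya⟩ := h.conj_of_mem_cM hy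
  obtain ⟨i, rfl⟩ := Subgroup.mem_zpowers_iff.mp hu
  have hc : Commute a ζ := h.comm_of_mem (Subgroup.mem_zpowers a) (h.zeta_mem hζ)
  rw [← conj_zpow, hya, hc.mul_zpow]
  have hc2 : Commute (a ^ i) (ζ ^ i) := (hc.zpow_left i).zpow_right i
  rw [hc2.eq, mul_assoc, mul_inv_cancel, mul_one]
  exact Subgroup.zpow_mem _ hζ i

/-- The homomorphism `M → ⟨z⟩`, `s ↦ a⁻¹ (s a s⁻¹)`. -/
noncomputable def phi (h : SCCp p a n) : cM p a →* S :=
  MonoidHom.mk' (fun s => a⁻¹ * (s.1 * a * s.1⁻¹)) (by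
    intro s t
    obtain ⟨ζ, hζ, hs⟩ := h.conj_of_mem_cM s.2
    obtain ⟨ξ, hξ, ht⟩ := h.conj_of_mem_cM t.2
    have h1 : (s * t : cM p a).1 * a * ((s * t : cM p a).1)⁻¹ = s.1 * (t.1 * a * t.1⁻¹) * s.1⁻¹ := by
      rw [Subgroup.coe_mul]; group
    have h2 : s.1 * (a * ξ) * s.1⁻¹ = (s.1 * a * s.1⁻¹) * ξ := by
      calc s.1 * (a * ξ) * s.1⁻¹ = s.1 * a * (ξ * s.1⁻¹) := by simp only [mul_assoc]
        _ = s.1 * a * (s.1⁻¹ * ξ) := by rw [h.zeta_comm hξ (Subgroup.inv_mem _ s.2)]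
        _ = (s.1 * a * s.1⁻¹) * ξ := by simp only [mul_assoc]
    rw [h1, ht, h2, hs, mul_assoc a ζ ξ, inv_mul_cancel_left, inv_mul_cancel_left,
      inv_mul_cancel_left])

theorem phi_apply (h : SCCp p a n) (s : cM p a) : h.phi s = a⁻¹ * (s.1 * a * s.1⁻¹) := rfl

theorem phi_mem (h : SCCp p a n) (s : cM p a) : h.phi s ∈ Subgroup.zpowers (zp p a n) := by
  obtain ⟨ζ, hζ, hs⟩ := h.conj_of_mem_cM s.2
  rw [phi_apply, hs, inv_mul_cancel_left]
  exact hζ

theorem phi_eq_one_iff (h : SCCp p a n) (s : cM p a) : h.phi s = 1 ↔ s.1 ∈ Subgroup.zpowers a := by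
  rw [phi_apply, inv_mul_eq_one]
  constructor
  · intro h1
    exact h.mem_of_conj _ h1.symm
  · intro h1
    exact (h.conj_of_mem _ h1).symm

theorem phi_ker (h : SCCp p a n) : h.phi.ker = (Subgroup.zpowers a).subgroupOf (cM p a) := by
  ext s
  rw [MonoidHom.mem_ker, h.phi_eq_one_iff, Subgroup.mem_subgroupOf]

theorem phi_range_le (h : SCCp p a n) : h.phi.range ≤ Subgroup.zpowers (zp p a n) := by
  rintro x ⟨s, rfl⟩
  exact h.phi_mem s

/-- `|M : U| = p` as soon as `M ≠ U`. -/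
theorem relIndex_eq (h : SCCp p a n) {b : S} (hb : b ∈ cM p a) (hbU : b ∉ Subgroup.zpowers a) :
    (Subgroup.zpowers a).relIndex (cM p a) = p := by
  rw [Subgroup.relIndex, ← h.phi_ker, Subgroup.index_ker]
  have hfin : Finite (Subgroup.zpowers (zp p a n)) := by
    apply Nat.finite_of_card_ne_zero
    rw [Nat.card_zpowers, h.orderOf_z]
    exact hp.out.ne_zero
  have h1 : Nat.card h.phi.range ∣ Nat.card (Subgroup.zpowers (zp p a n)) :=
    Subgroup.card_dvd_of_le h.phi_range_le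
  rw [Nat.card_zpowers, h.orderOf_z] at h1
  rcases (Nat.dvd_prime hp.out).mp h1 with h2 | h2
  · exfalso
    have : Finite h.phi.range := Finite.of_injective
      (fun x : h.phi.range => (⟨x.1, h.phi_range_le x.2⟩ : Subgroup.zpowers (zp p a n)))
      (fun x y hxy => Subtype.ext (by simpa using congrArg Subtype.val hxy))
    rw [Subgroup.card_eq_one] at h2
    apply hbU
    rw [← h.phi_eq_one_iff ⟨b, hb⟩]
    have : h.phi ⟨b, hb⟩ ∈ h.phi.range := ⟨_, rfl⟩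
    rw [h2, Subgroup.mem_bot] at this
    exact this
  · exact h2

/-- `⟨a ^ p⟩` is normal. -/
theorem pow_normal (h : SCCp p a n) : (Subgroup.zpowers (a ^ p)).Normal := by
  constructor
  intro x hx g
  obtain ⟨k, rfl⟩ := Subgroup.mem_zpowers_iff.mp hx
  obtain ⟨m, hm⟩ := h.conj_exists g
  rw [← conj_zpow, ← conj_pow, hm]
  refine Subgroup.mem_zpowers_iff.mpr ⟨m * k, ?_⟩
  rw [← zpow_natCast, ← zpow_natCast, ← zpow_mul, ← zpow_mul, ← zpow_mul]
  congr 1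
  ring

/-- `M` is normal. -/
theorem cM_normal (h : SCCp p a n) : (cM p a).Normal := by
  have := h.pow_normal
  exact Subgroup.normal_centralizer

/-- A normal subgroup of exponent `p` lies in `M`. -/
theorem le_cM_of_normal_exp (h : SCCp p a n) (A : Subgroup S) (hA : A.Normal)
    (hexp : ∀ x ∈ A, x ^ p = 1) : A ≤ cM p a := by
  intro x hx
  have h1 : a * x * a⁻¹ * x⁻¹ ∈ A := A.mul_mem (hA.conj_mem x hx a) (A.inv_mem hx)
  have h2 : a * x * a⁻¹ * x⁻¹ ∈ Subgroup.zpowers a := by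
    have : a * x * a⁻¹ * x⁻¹ = a * (x * a⁻¹ * x⁻¹) := by group
    rw [this]
    exact Subgroup.mul_mem _ (Subgroup.mem_zpowers a)
      (h.normal.conj_mem _ (Subgroup.inv_mem _ (Subgroup.mem_zpowers a)) x)
  have h3 := h.mem_zpowers_z_of_pow h2 (hexp _ h1)
  apply h.mem_cM_of_conj (Subgroup.inv_mem _ h3)
  have : x * a * x⁻¹ = (a * x * a⁻¹ * x⁻¹)⁻¹ * a := by group
  rw [this]
  exact h.comm_of_mem (Subgroup.inv_mem _ h2) (Subgroup.mem_zpowers a)

/-- `Ω₁(M)` is normal. -/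
theorem omegaOne_normal (h : SCCp p a n) : (Cfsg.omegaOne p (cM p a)).Normal := by
  have hM := h.cM_normal
  constructor
  intro x hx g
  unfold Cfsg.omegaOne at hx ⊢
  induction hx using Subgroup.closure_induction with
  | mem y hy =>
    apply Subgroup.subset_closure
    exact ⟨hM.conj_mem y hy.1 g, by rw [conj_pow, hy.2, mul_one, mul_inv_cancel]⟩
  | one => simp
  | mul y w _ _ hy hw =>
    have : g * (y * w) * g⁻¹ = (g * y * g⁻¹) * (g * w * g⁻¹) := by group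
    rw [this]
    exact Subgroup.mul_mem _ hy hw
  | inv y _ hy =>
    have : g * y⁻¹ * g⁻¹ = (g * y * g⁻¹)⁻¹ := by group
    rw [this]
    exact Subgroup.inv_mem _ hy

/-- `Ω₁(M)` is characteristic as soon as it has exponent `p`. -/
theorem omegaOne_characteristic (h : SCCp p a n)
    (hexp : ∀ x ∈ Cfsg.omegaOne p (cM p a), x ^ p = 1) :
    (Cfsg.omegaOne p (cM p a)).Characteristic := by
  rw [Subgroup.characteristic_iff_map_le]
  intro σ
  have hN : ((Cfsg.omegaOne p (cM p a)).map σ.toMonoidHom).Normal :=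
    h.omegaOne_normal.map σ.toMonoidHom σ.surjective
  have hexp' : ∀ x ∈ (Cfsg.omegaOne p (cM p a)).map σ.toMonoidHom, x ^ p = 1 := by
    rintro x ⟨y, hy, rfl⟩
    rw [← map_pow, hexp y hy, map_one]
  intro x hx
  apply Subgroup.subset_closure
  exact ⟨h.le_cM_of_normal_exp _ hN hexp' hx, hexp' x hx⟩

/-- `Ω₁(M) = A` for a subgroup `A ≤ M` of exponent `p` containing all elements of order dividing
`p` of `M`. -/
theorem omegaOne_eq (A : Subgroup S) (hA : A ≤ cM p a) (hexp : ∀ x ∈ A, x ^ p = 1)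
    (hsub : ∀ x ∈ cM p a, x ^ p = 1 → x ∈ A) : Cfsg.omegaOne p (cM p a) = A := by
  apply le_antisymm
  · unfold Cfsg.omegaOne
    rw [Subgroup.closure_le]
    intro x hx
    exact hsub x hx.1 hx.2
  · intro x hx
    exact Subgroup.subset_closure ⟨hA hx, hexp x hx⟩

/-- The second alternative of the theorem, from a subgroup `A ≤ M` of order `p²` and exponent `p`
containing all elements of order dividing `p` of `M`. -/
theorem second_alternative (h : SCCp p a n) (A : Subgroup S) (hA : A ≤ cM p a)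
    (hcomm : ∀ x ∈ A, ∀ y ∈ A, x * y = y * x)
    (hexp : ∀ x ∈ A, x ^ p = 1) (hcard : Nat.card A = p ^ 2)
    (hsub : ∀ x ∈ cM p a, x ^ p = 1 → x ∈ A) {b : S} (hb : b ∈ cM p a)
    (hbU : b ∉ Subgroup.zpowers a) :
    (Subgroup.zpowers a).relIndex (cM p a) = p ∧
      Cfsg.IsElementaryAbelian p (Cfsg.omegaOne p (cM p a)) ∧
      Nat.card ↥(Cfsg.omegaOne p (cM p a)) = p ^ 2 ∧
      (Cfsg.omegaOne p (cM p a)).Characteristic := by
  have heq : Cfsg.omegaOne p (cM p a) = A := omegaOne_eq A hA hexp hsub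
  refine ⟨h.relIndex_eq hb hbU, ?_, ?_, ?_⟩
  · rw [heq]
    exact ⟨⟨⟨fun x y => Subtype.ext (hcomm x x.2 y y.2)⟩⟩, hexp⟩
  · rw [heq]; exact hcard
  · apply h.omegaOne_characteristic
    rw [heq]; exact hexp

/-- `M = U ⟨t⟩` for every `t ∈ M` outside `U`. -/
theorem exists_zpow_mul_mem (h : SCCp p a n) {t : S} (ht : t ∈ cM p a)
    (htU : t ∉ Subgroup.zpowers a) {x : S} (hx : x ∈ cM p a) :
    ∃ j : ℤ, x * (t ^ j)⁻¹ ∈ Subgroup.zpowers a := by
  have h1 : h.phi ⟨t, ht⟩ ≠ 1 := by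
    intro h'
    exact htU ((h.phi_eq_one_iff ⟨t, ht⟩).mp h')
  have h2 := Cfsg.Agent.Lib.Helper20_PGroupOdd.zpowers_eq_of_mem_of_ne_one h.orderOf_z
    (h.phi_mem ⟨t, ht⟩) h1
  have h3 : h.phi ⟨x, hx⟩ ∈ Subgroup.zpowers (h.phi ⟨t, ht⟩) := by
    rw [h2]; exact h.phi_mem _
  obtain ⟨j, hj⟩ := Subgroup.mem_zpowers_iff.mp h3
  refine ⟨j, ?_⟩
  have h4 : h.phi (⟨x, hx⟩ * (⟨t, ht⟩ ^ j)⁻¹) = 1 := by
    rw [map_mul, map_inv, map_zpow, hj, mul_inv_cancel]
  have h5 := (h.phi_eq_one_iff _).mp h4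
  simpa using h5

/-- For `p` odd, `x ↦ x ^ p` is multiplicative on `U × M`. -/
theorem mul_pow_of_mem (h : SCCp p a n) (hp2 : p ≠ 2) {u y : S} (hu : u ∈ Subgroup.zpowers a)
    (hy : y ∈ cM p a) : (u * y) ^ p = u ^ p * y ^ p := by
  have hc := h.comm_mem hu hy
  have h1 : y * u = (y * u * y⁻¹ * u⁻¹) * u * y := by group
  have c1 : Commute (y * u * y⁻¹ * u⁻¹) u := h.comm_of_mem (h.zeta_mem hc) hu
  have c2 : Commute (y * u * y⁻¹ * u⁻¹) y := (h.zeta_comm hc hy).symm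
  exact Cfsg.Agent.Lib.Helper20_PGroupOdd.mul_pow_prime_of_comm hp.out hp2 h1 c1 c2
    (h.zeta_pow hc)

/-- A normal subgroup of exponent `p` not contained in `U` contains `z`. -/
theorem z_mem_of_normal (h : SCCp p a n) (A : Subgroup S) (hA : A.Normal)
    (hexp : ∀ x ∈ A, x ^ p = 1) {t : S} (htA : t ∈ A) (htU : t ∉ Subgroup.zpowers a) :
    zp p a n ∈ A := by
  have h1 : a * t * a⁻¹ * t⁻¹ ∈ A := A.mul_mem (hA.conj_mem t htA a) (A.inv_mem htA)
  have h2 : a * t * a⁻¹ * t⁻¹ ∈ Subgroup.zpowers a := by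
    have : a * t * a⁻¹ * t⁻¹ = a * (t * a⁻¹ * t⁻¹) := by group
    rw [this]
    exact Subgroup.mul_mem _ (Subgroup.mem_zpowers a)
      (h.normal.conj_mem _ (Subgroup.inv_mem _ (Subgroup.mem_zpowers a)) t)
  have h3 := h.mem_zpowers_z_of_pow h2 (hexp _ h1)
  have h4 : a * t * a⁻¹ * t⁻¹ ≠ 1 := by
    intro h'
    apply htU
    apply h.mem_of_conj
    have : t * a * t⁻¹ = (a * t * a⁻¹ * t⁻¹)⁻¹ * a := by group
    rw [this, h', inv_one, one_mul]
  have h5 := Cfsg.Agent.Lib.Helper20_PGroupOdd.zpowers_eq_of_mem_of_ne_one h.orderOf_z h3 h4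
  have h6 : zp p a n ∈ Subgroup.zpowers (a * t * a⁻¹ * t⁻¹) := by
    rw [h5]; exact Subgroup.mem_zpowers _
  exact (Subgroup.zpowers_le.mpr h1) h6

/-- For `p` odd: a subgroup `A ≤ M` of exponent `p` containing `z` and some `t ∉ U` contains all
elements of `M` of order dividing `p`. -/
theorem mem_of_pow_eq_one_odd (h : SCCp p a n) (hp2 : p ≠ 2) (A : Subgroup S) (hA : A ≤ cM p a)
    (hexp : ∀ x ∈ A, x ^ p = 1) (hz : zp p a n ∈ A) {t : S} (htA : t ∈ A)
    (htU : t ∉ Subgroup.zpowers a) {x : S} (hx : x ∈ cM p a) (hxp : x ^ p = 1) : x ∈ A := by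
  obtain ⟨j, hj⟩ := h.exists_zpow_mul_mem (hA htA) htU hx
  have hyA : t ^ j ∈ A := A.zpow_mem htA j
  have hx' : x = (x * (t ^ j)⁻¹) * t ^ j := by group
  have h1 : (x * (t ^ j)⁻¹) ^ p = 1 := by
    have := h.mul_pow_of_mem hp2 hj (hA hyA)
    rw [← hx', hxp, hexp _ hyA, mul_one] at this
    exact this.symm
  have h2 := h.mem_zpowers_z_of_pow hj h1
  rw [hx']
  exact A.mul_mem ((Subgroup.zpowers_le.mpr hz) h2) hyA

end SCCp

end Cfsg.Agent.Lib.Helper4_CyclicNormalP
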