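import Mathlib
import Cfsg.Prelude.Def_CaseTheorems
import Cfsg.Agent.Lib.Helper4_CyclicNormal
import Cfsg.Agent.Lib.Helper4_CyclicNormalP
import Cfsg.Agent.Lib.Helper50_UniqueInv
import Cfsg.Agent.Lib.Helper54_TwoGroups

/-!
# 2-groups with a self-centralizing cyclic normal subgroup (helper4)

Continuation of `Helper4_CyclicNormal`: if nobody acts on `⟨a⟩` by `a ↦ a z`, the group is dihedral,
generalized quaternion or quasidihedral; otherwise the involutions of `C(⟨a²⟩)` form a four-group.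
-/

set_option autoImplicit false

namespace Cfsg.Agent.Lib.Helper4_CyclicNormal2

open Cfsg.Agent.Lib.Helper4_NormalFour Cfsg.Agent.Lib.Helper4_CyclicNormal
open Cfsg.Agent.Lib.Helper4_CyclicNormalP

variable {S : Type*} [Group S] {a : S} {n : ℕ}

/-- If nobody acts by `a ↦ a z`, every square centralizes `a` (`n ≥ 3`). -/
theorem sq_conj' [Finite S] (hS : IsPGroup 2 S) (h : SCC a n) (hn3 : 3 ≤ n)
    (hmod : ∀ s : S, s * a * s⁻¹ ≠ a * zz a n) (s : S) : (s * s) * a * (s * s)⁻¹ = a := by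
  classical
  obtain ⟨m, hm⟩ := hS s
  have hex : ∃ j : ℕ, s ^ 2 ^ j ∈ Subgroup.zpowers a := ⟨m, by rw [hm]; exact Subgroup.one_mem _⟩
  have hspec := Nat.find_spec hex
  have hmin := fun j => Nat.find_min hex (m := j)
  set j₀ := Nat.find hex with hj₀
  by_cases hle : j₀ ≤ 1
  · have hs2 : s * s ∈ Subgroup.zpowers a := by
      have hj : j₀ = 0 ∨ j₀ = 1 := by omega
      rcases hj with hj | hj
      · rw [hj, pow_zero, pow_one] at hspec
        exact Subgroup.mul_mem _ hspec hspec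
      · rw [hj, pow_one, pow_two] at hspec
        exact hspec
    exact h.conj_of_mem _ hs2
  · exfalso
    have hj2 : 2 ≤ j₀ := by omega
    set u := s ^ 2 ^ (j₀ - 1) with hu
    set v := s ^ 2 ^ (j₀ - 2) with hv
    have huA : u ∉ Subgroup.zpowers a := hmin (j₀ - 1) (by omega)
    have huu : u * u = s ^ 2 ^ j₀ := by
      rw [hu, ← pow_add, ← two_mul, ← pow_succ']
      congr 2
      omega
    have hvv : v * v = u := by
      rw [hv, hu, ← pow_add, ← two_mul, ← pow_succ']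
      congr 2
      omega
    have huuA : u * u ∈ Subgroup.zpowers a := by rw [huu]; exact hspec
    have he : u * (u * a * u⁻¹) * u⁻¹ = a := by
      have h1 : u * (u * a * u⁻¹) * u⁻¹ = (u * u) * a * (u * u)⁻¹ := by group
      rw [h1]
      exact h.conj_of_mem _ huuA
    have hD1 := h.sq_conj_ne hn3 v
    rw [hvv] at hD1
    rcases h.conj_cases' u he with (h1 | h1) | (h1 | h1)
    · exact huA (h.mem_of_conj u h1)
    · exact hmod u h1
    · exact hD1.1 h1
    · exact hD1.2 h1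

/-- If nobody acts by `a ↦ a z`, every element acts by `a ↦ a`, `a⁻¹` or `a⁻¹ z` (`n ≥ 3`). -/
theorem conj_three' [Finite S] (hS : IsPGroup 2 S) (h : SCC a n) (hn3 : 3 ≤ n)
    (hmod : ∀ s : S, s * a * s⁻¹ ≠ a * zz a n) (s : S) :
    s * a * s⁻¹ = a ∨ s * a * s⁻¹ = a⁻¹ ∨ s * a * s⁻¹ = a⁻¹ * zz a n := by
  have he : s * (s * a * s⁻¹) * s⁻¹ = a := by
    have h1 : s * (s * a * s⁻¹) * s⁻¹ = (s * s) * a * (s * s)⁻¹ := by group
    rw [h1]
    exact sq_conj' hS h hn3 hmod s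
  rcases h.conj_cases' s he with (h1 | h1) | (h1 | h1)
  · exact Or.inl h1
  · exact absurd h1 (hmod s)
  · exact Or.inr (Or.inl h1)
  · exact Or.inr (Or.inr h1)

/-- If nobody acts by `a ↦ a z`, then `⟨a⟩` has index at most two (`n ≥ 3`). -/
theorem mul_mem_of_notMem' [Finite S] (hS : IsPGroup 2 S) (h : SCC a n) (hn3 : 3 ≤ n)
    (hmod : ∀ s : S, s * a * s⁻¹ ≠ a * zz a n) (s t : S) (hs : s ∉ Subgroup.zpowers a)
    (ht : t ∉ Subgroup.zpowers a) : s * t ∈ Subgroup.zpowers a := by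
  have key : ∀ x : S, x ∉ Subgroup.zpowers a →
      ∃ ζ ∈ Subgroup.zpowers (zz a n), x * a * x⁻¹ = ζ * a⁻¹ := by
    intro x hx
    rcases conj_three' hS h hn3 hmod x with h1 | h1 | h1
    · exact absurd (h.mem_of_conj x h1) hx
    · exact ⟨1, Subgroup.one_mem _, by rw [h1, one_mul]⟩
    · exact ⟨zz a n, Subgroup.mem_zpowers _, by rw [h1]; exact h.z_comm a⁻¹⟩
  obtain ⟨ζ₁, hζ₁, h1⟩ := key s hs
  obtain ⟨ζ₂, hζ₂, h2⟩ := key t ht
  have hcomm₂ : ∀ x : S, x * ζ₂ = ζ₂ * x := by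
    intro x
    rcases (mem_zpowers_of_sq_eq_one h.z_sq).mp hζ₂ with rfl | rfl
    · simp
    · exact h.z_comm x
  have hprod : (s * t) * a * (s * t)⁻¹ = a * (ζ₂ * ζ₁⁻¹) := by
    have hexp : (s * t) * a * (s * t)⁻¹ = s * (t * a * t⁻¹) * s⁻¹ := by group
    rw [hexp, h2]
    have h3 : s * (ζ₂ * a⁻¹) * s⁻¹ = ζ₂ * (s * a * s⁻¹)⁻¹ := by
      rw [← mul_assoc, hcomm₂ s]
      group
    rw [h3, h1, mul_inv_rev, inv_inv, ← mul_assoc, ← hcomm₂ a, mul_assoc]
  have hζ : ζ₂ * ζ₁⁻¹ ∈ Subgroup.zpowers (zz a n) :=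
    Subgroup.mul_mem _ hζ₂ (Subgroup.inv_mem _ hζ₁)
  rcases (mem_zpowers_of_sq_eq_one h.z_sq).mp hζ with h' | h'
  · rw [h', mul_one] at hprod
    exact h.mem_of_conj _ hprod
  · rw [h'] at hprod
    exact absurd hprod (hmod _)

/-- For `n = 2`, the elements outside `⟨a⟩` invert `a`. -/
theorem conj_eq_inv_of_two [Finite S] (h : SCC a 2) (s : S) (hs : s ∉ Subgroup.zpowers a) :
    s * a * s⁻¹ = a⁻¹ := by
  have hord := h.order
  have hz : zz a 2 = a ^ 2 := by simp [zz]
  have ha4 : a ^ 4 = 1 := by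
    have := pow_orderOf_eq_one a
    rw [hord] at this
    exact this
  obtain ⟨k, hk⟩ := h.conj_exists s
  have hk4 : a ^ k = a ^ (k % 4) := by
    have := zpow_mod_orderOf a k
    rw [hord] at this
    rw [← this]
    norm_num
  have hlt : 0 ≤ k % 4 ∧ k % 4 < 4 :=
    ⟨Int.emod_nonneg _ (by norm_num), Int.emod_lt_of_pos _ (by norm_num)⟩
  have hcases : k % 4 = 0 ∨ k % 4 = 1 ∨ k % 4 = 2 ∨ k % 4 = 3 := by omega
  rw [hk4] at hk
  rcases hcases with h0 | h0 | h0 | h0
  · exfalso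
    rw [h0, zpow_zero, conj_eq_one_iff] at hk
    rw [hk, orderOf_one] at hord
    omega
  · exfalso
    rw [h0, zpow_one] at hk
    exact hs (h.mem_of_conj s hk)
  · exfalso
    rw [h0] at hk
    have h2 : a ^ (2 : ℤ) = zz a 2 := by rw [hz]; norm_cast
    rw [h2] at hk
    have h3 : a = s⁻¹ * zz a 2 * s := by
      rw [← hk]; group
    have h4 : s⁻¹ * zz a 2 * s = zz a 2 := by
      have := h.z_conj s⁻¹
      rw [inv_inv] at this
      exact this
    rw [h4] at h3
    have h5 : a ^ 2 = 1 := by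
      have := h.z_sq
      rw [← h3] at this
      exact this
    have := orderOf_dvd_of_pow_eq_one h5
    rw [hord] at this
    omega
  · rw [hk, h0, eq_inv_iff_mul_eq_one]
    have : a ^ (3 : ℤ) = a ^ 3 := by norm_cast
    rw [this, ← pow_succ]
    exact ha4

/-- `a⁻¹ z = a ^ (2 ^ (n - 1) - 1)`. -/
theorem inv_mul_z_eq (a : S) (n : ℕ) : a⁻¹ * zz a n = a ^ (2 ^ (n - 1) - 1) := by
  have hpos : 1 ≤ 2 ^ (n - 1) := Nat.one_le_two_pow
  have h2 : a ^ (2 ^ (n - 1) - 1) * a = zz a n := by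
    rw [← pow_succ, Nat.sub_add_cancel hpos, zz]
  rw [← h2, ← mul_assoc]
  have hc : a⁻¹ * a ^ (2 ^ (n - 1) - 1) = a ^ (2 ^ (n - 1) - 1) * a⁻¹ :=
    ((Commute.refl a).inv_left.pow_right _).eq
  rw [hc, inv_mul_cancel_right]

/-- For `n ≥ 3`, `a ^ (2 (2 r + 1)) ≠ z`. -/
theorem zpow_ne_z (h : SCC a n) (hn3 : 3 ≤ n) (r : ℤ) : a ^ (2 * (2 * r + 1)) ≠ zz a n := by
  intro h1
  have h2 : a ^ (4 * (2 * r + 1)) = 1 := by
    have : (4 : ℤ) * (2 * r + 1) = 2 * (2 * r + 1) + 2 * (2 * r + 1) := by ring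
    rw [this, zpow_add, h1]
    exact h.z_mul_self
  have h3 := orderOf_dvd_iff_zpow_eq_one.mpr h2
  rw [h.order] at h3
  have h8 : (8 : ℤ) ∣ 2 ^ n := by
    have : (2 : ℤ) ^ 3 ∣ 2 ^ n := pow_dvd_pow 2 hn3
    norm_num at this
    exact this
  have h4 : (8 : ℤ) ∣ 4 * (2 * r + 1) := by
    refine dvd_trans h8 ?_
    exact_mod_cast h3
  omega

/-- Inversion on `⟨a⟩`. -/
theorem conj_inv_of_mem {t : S} (ht : t * a * t⁻¹ = a⁻¹) {c : S}
    (hc : c ∈ Subgroup.zpowers a) : t * c * t⁻¹ = c⁻¹ := by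
  obtain ⟨k, rfl⟩ := Subgroup.mem_zpowers_iff.mp hc
  rw [← conj_zpow, ht, inv_zpow]

/-- If `⟨a⟩` has index two and the elements outside act by `a ↦ a⁻¹` or `a ↦ a⁻¹ z`, the group
is dihedral, generalized quaternion or quasidihedral. -/
theorem classify [Finite S] (h : SCC a n) (hn2 : 2 ≤ n)
    (hidx : ∀ s t : S, s ∉ Subgroup.zpowers a → t ∉ Subgroup.zpowers a →
      s * t ∈ Subgroup.zpowers a)
    (t : S) (ht : t ∉ Subgroup.zpowers a)
    (hact : t * a * t⁻¹ = a⁻¹ ∨ (3 ≤ n ∧ t * a * t⁻¹ = a⁻¹ * zz a n)) :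
    Nat.card S = 2 ^ (n + 1) ∧
      ((∃ m : ℕ, Nonempty (S ≃* DihedralGroup m)) ∨
        (∃ m : ℕ, Nonempty (S ≃* QuaternionGroup m)) ∨ Cfsg.IsQuasiDihedral S) := by
  have hidx2 : (Subgroup.zpowers a).index = 2 := by
    rw [Subgroup.index_eq_two_iff_exists_notMem_and]
    refine ⟨t, ht, fun b => ?_⟩
    by_cases hb : b ∈ Subgroup.zpowers a
    · exact Or.inr hb
    · exact Or.inl (hidx b t hb ht)
  have hcard : Nat.card S = 2 * 2 ^ n := by
    rw [← Subgroup.card_mul_index (Subgroup.zpowers a), hidx2, Nat.card_zpowers, h.order, mul_comm]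
  have hcard' : Nat.card S = 2 ^ (n + 1) := by rw [hcard, pow_succ, mul_comm]
  refine ⟨hcard', ?_⟩
  have htt : t * t ∈ Subgroup.zpowers a := hidx t t ht ht
  have htt_conj : t * (t * t) * t⁻¹ = t * t := by group
  have ht1 : t ≠ 1 := fun h' => ht (h' ▸ Subgroup.one_mem _)
  have hsq : t * t = 1 ∨ t * t = zz a n := by
    by_cases h1 : t * t = 1
    · exact Or.inl h1
    · right
      apply h.uniq _ htt _ h1
      rcases hact with hinv | ⟨hn3, hsd⟩
      · have := conj_inv_of_mem hinv htt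
        rw [htt_conj] at this
        rw [pow_two]
        exact mul_eq_one_iff_eq_inv.mpr this
      · obtain ⟨i, hi⟩ := Subgroup.mem_zpowers_iff.mp htt
        have hconj : t * a ^ i * t⁻¹ = (a⁻¹) ^ i * (zz a n) ^ i := by
          rw [← conj_zpow, hsd]
          exact (show Commute a⁻¹ (zz a n) from h.z_comm a⁻¹).mul_zpow i
        rcases Int.even_or_odd' i with ⟨r, rfl | rfl⟩
        · have hz : zz a n ^ (2 * r) = 1 := by rw [zpow_mul, zpow_ofNat, h.z_sq, one_zpow]
          rw [hz, mul_one, inv_zpow, hi, htt_conj] at hconj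
          rw [pow_two]
          exact mul_eq_one_iff_eq_inv.mpr hconj
        · exfalso
          have hz : zz a n ^ (2 * r + 1) = zz a n := by
            rw [zpow_add, zpow_mul, zpow_ofNat, h.z_sq, one_zpow, one_mul, zpow_one]
          rw [hz, inv_zpow, hi, htt_conj] at hconj
          apply zpow_ne_z h hn3 r
          have : (2 : ℤ) * (2 * r + 1) = (2 * r + 1) + (2 * r + 1) := by ring
          rw [this, zpow_add, hi]
          calc t * t * (t * t) = t * t * ((t * t)⁻¹ * zz a n) := by rw [← hconj]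
            _ = zz a n := by rw [mul_inv_cancel_left]
  have h2n : 2 ^ n = 2 * 2 ^ (n - 1) := by
    rw [← pow_succ']
    congr 1
    omega
  rcases hact with hinv | ⟨hn3, hsd⟩
  · rcases hsq with h1 | h1
    · left
      exact ⟨2 ^ n, Cfsg.Agent.Lib.Helper54_TwoGroups.nonempty_mulEquiv_dihedralGroup (2 ^ n) a t
        h.order h1 hinv ht hcard⟩
    · right; left
      refine ⟨2 ^ (n - 1),
        Cfsg.Agent.Lib.Helper50_UniqueInv.nonempty_mulEquiv_quaternionGroup (2 ^ (n - 1)) a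
          ?_ t ?_ ?_ hinv ?_⟩
      · calc 2 = 2 ^ 1 := rfl
          _ ≤ 2 ^ (n - 1) := Nat.pow_le_pow_right (by norm_num) (by omega)
      · rw [h.order, h2n]
      · rw [pow_two, h1]; rfl
      · rw [hcard, h2n]; ring
  · right; right
    rcases hsq with h1 | h1
    · refine ⟨n, hn3, hcard', a, t, h.order,
        orderOf_eq_prime (by rw [pow_two]; exact h1) ht1, ?_⟩
      rw [hsd, inv_mul_z_eq]
    · have ht' : a * t ∉ Subgroup.zpowers a := fun h' => ht (by
        have := Subgroup.mul_mem _ (Subgroup.inv_mem _ (Subgroup.mem_zpowers a)) h'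
        rwa [inv_mul_cancel_left] at this)
      have hconj' : (a * t) * a * (a * t)⁻¹ = a⁻¹ * zz a n := by
        have : (a * t) * a * (a * t)⁻¹ = a * (t * a * t⁻¹) * a⁻¹ := by group
        rw [this, hsd, mul_inv_cancel_left]
        exact (h.z_comm a⁻¹).symm
      have hsq' : (a * t) * (a * t) = 1 := by
        have : (a * t) * (a * t) = a * (t * a * t⁻¹) * (t * t) := by group
        rw [this, hsd, h1, mul_inv_cancel_left, h.z_mul_self]
      have ht'1 : a * t ≠ 1 := fun h' => ht' (h' ▸ Subgroup.one_mem _)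
      refine ⟨n, hn3, hcard', a, a * t, h.order,
        orderOf_eq_prime (by rw [pow_two]; exact hsq') ht'1, ?_⟩
      rw [hconj', inv_mul_z_eq]

/-- The involutions of `M = C(⟨a²⟩)` when `t ∉ ⟨a⟩` is an involution acting by `a ↦ a z`
(`n ≥ 3`). -/
theorem involution_of_cM [Finite S] (h : SCC a n) (hn3 : 3 ≤ n) (t : S) (ht2 : t * t = 1)
    (hta : t * a * t⁻¹ = a * zz a n) (x : S) (hxa : x * a * x⁻¹ = a ∨ x * a * x⁻¹ = a * zz a n)
    (hx2 : x * x = 1) : x = 1 ∨ x = zz a n ∨ x = t ∨ x = t * zz a n := by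
  have htinv : t⁻¹ = t := by rw [inv_eq_iff_mul_eq_one]; exact ht2
  rcases hxa with h1 | h1
  · have hxU := h.mem_of_conj x h1
    by_cases hx1 : x = 1
    · exact Or.inl hx1
    · right; left
      exact h.uniq x hxU (by rw [pow_two]; exact hx2) hx1
  · -- `u = x t` lies in `⟨a⟩`
    have huU : x * t ∈ Subgroup.zpowers a := by
      apply h.mem_of_conj
      have e : x * t * a * (x * t)⁻¹ = x * (t * a * t⁻¹) * x⁻¹ := by group
      rw [e, hta]
      have e2 : x * (a * zz a n) * x⁻¹ = (x * a * x⁻¹) * (x * zz a n * x⁻¹) := by group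
      rw [e2, h1, h.z_conj x, mul_assoc, h.z_mul_self, mul_one]
    obtain ⟨i, hi⟩ := Subgroup.mem_zpowers_iff.mp huU
    -- `x = u t`
    have hxu : x = a ^ i * t := by rw [hi, mul_assoc, ht2, mul_one]
    have htu : t * a ^ i * t⁻¹ = a ^ i * zz a n ^ i := by
      rw [← conj_zpow, hta]
      exact (show Commute a (zz a n) from h.z_comm a).mul_zpow i
    have hprod : a ^ i * (a ^ i * zz a n ^ i) = 1 := by
      rw [← htu, htinv]
      calc a ^ i * (t * a ^ i * t) = (a ^ i * t) * (a ^ i * t) := by simp only [mul_assoc]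
        _ = 1 := by rw [← hxu]; exact hx2
    rcases Int.even_or_odd' i with ⟨r, rfl | rfl⟩
    · have hz : zz a n ^ (2 * r) = 1 := by rw [zpow_mul, zpow_ofNat, h.z_sq, one_zpow]
      rw [hz, mul_one] at hprod
      by_cases hu1 : a ^ (2 * r) = 1
      · right; right; left
        rw [hxu, hu1, one_mul]
      · right; right; right
        have := h.uniq _ (Subgroup.zpow_mem _ (Subgroup.mem_zpowers a) _)
          (by rw [pow_two]; exact hprod) hu1
        rw [hxu, this]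
        exact (h.z_comm t).symm
    · exfalso
      have hz : zz a n ^ (2 * r + 1) = zz a n := by
        rw [zpow_add, zpow_mul, zpow_ofNat, h.z_sq, one_zpow, one_mul, zpow_one]
      rw [hz, ← mul_assoc, mul_eq_one_iff_eq_inv, h.z_inv] at hprod
      apply zpow_ne_z h hn3 r
      have : (2 : ℤ) * (2 * r + 1) = (2 * r + 1) + (2 * r + 1) := by ring
      rw [this, zpow_add]
      exact hprod

end Cfsg.Agent.Lib.Helper4_CyclicNormal2
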