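import Mathlib
import Cfsg.Prelude.Def_Transfer
import Cfsg.Prelude.Def_CaseTheorems
import Cfsg.Agent.Lib.Helper89_SympBasics

set_option autoImplicit false

namespace Cfsg.Agent.Lib.Helper89_Symplectic

open scoped commutatorElement
open Cfsg.Agent.Lib.Helper89_SympBasics

variable {G : Type*} [Group G]

/-- a central product of a group `E` with `E² ≤ Z₀`, `Z(E) ≤ Z₀` and a dihedral or quaternion group `R`
of order eight (given by generators and relations) with `Z₀ = ⟨a²⟩` is extraspecial. -/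
theorem extraspecial_top [Finite G] (hG : IsPGroup 2 G) (a : G) (ha : orderOf a = 2 ^ 2)
    (E R : Subgroup G)
    (hEsq : ∀ e ∈ E, e ^ 2 ∈ Subgroup.zpowers (a ^ 2))
    (hEcen : ∀ x ∈ E, (∀ y ∈ E, x * y = y * x) → x ∈ Subgroup.zpowers (a ^ 2))
    (hER : ∀ e ∈ E, ∀ r ∈ R, e * r = r * e)
    (hprod : ∀ g : G, ∃ e ∈ E, ∃ r ∈ R, g = e * r)
    (haR : a ∈ R)
    (hinv : ∀ r ∈ R, r ∉ Subgroup.zpowers a → r * a * r⁻¹ = a⁻¹)
    (hidx : ∀ r ∈ R, ∀ s ∈ R, r ∉ Subgroup.zpowers a → s ∉ Subgroup.zpowers a →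
      r * s ∈ Subgroup.zpowers a)
    (hr0 : ∃ r ∈ R, r ∉ Subgroup.zpowers a) :
    Cfsg.IsExtraspecial 2 ↥(⊤ : Subgroup G) := by
  have : Fact (Nat.Prime 2) := ⟨Nat.prime_two⟩
  have ha4 : a ^ 4 = 1 := by
    have := pow_orderOf_eq_one a
    rwa [ha] at this
  have hz2 : (a ^ 2) ^ 2 = 1 := by rw [← pow_mul]; exact ha4
  have hz1 : a ^ 2 ≠ 1 := by
    apply pow_ne_one_of_lt_orderOf (by norm_num)
    rw [ha]; norm_num
  have hzord : orderOf (a ^ 2) = 2 := orderOf_eq_prime hz2 hz1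
  have hainv : a⁻¹ ≠ a := by
    intro h
    apply hz1
    rw [pow_two]
    nth_rewrite 1 [← h]
    exact inv_mul_cancel a
  have hzR : a ^ 2 ∈ R := R.pow_mem haR 2
  -- `z` commutes with `R`
  have hzr : ∀ r ∈ R, r * a ^ 2 = a ^ 2 * r := by
    intro r hr
    by_cases hra : r ∈ Subgroup.zpowers a
    · obtain ⟨k, rfl⟩ := Subgroup.mem_zpowers_iff.mp hra
      exact (((Commute.refl a).zpow_left k).pow_right 2).eq
    · have h1 := hinv r hr hra
      have h2 : r * a ^ 2 * r⁻¹ = a ^ 2 := by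
        rw [← conj_pow, h1, inv_pow, inv_eq_iff_mul_eq_one, ← pow_add]
        exact ha4
      calc r * a ^ 2 = (r * a ^ 2 * r⁻¹) * r := by group
        _ = a ^ 2 * r := by rw [h2]
  have hzc : ∀ g : G, a ^ 2 * g = g * a ^ 2 := by
    intro g
    obtain ⟨e, he, r, hr, rfl⟩ := hprod g
    have h1 : e * a ^ 2 = a ^ 2 * e := hER e he _ hzR
    rw [← mul_assoc, ← h1, mul_assoc, mul_assoc, hzr r hr]
  have hZc : ∀ w ∈ Subgroup.zpowers (a ^ 2), ∀ g : G, w * g = g * w := by
    intro w hw g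
    obtain ⟨k, rfl⟩ := Subgroup.mem_zpowers_iff.mp hw
    exact ((show Commute (a ^ 2) g from hzc g).zpow_left k).eq
  -- squares in `R`
  have hRsq : ∀ r ∈ R, r ^ 2 ∈ Subgroup.zpowers (a ^ 2) := by
    intro r hr
    by_cases hra : r ∈ Subgroup.zpowers a
    · obtain ⟨k, rfl⟩ := Subgroup.mem_zpowers_iff.mp hra
      refine Subgroup.mem_zpowers_iff.mpr ⟨k, ?_⟩
      rw [← zpow_natCast, ← zpow_natCast, ← zpow_mul, ← zpow_mul, mul_comm]
    · have h1 := hinv r hr hra
      have h2 : r * r ∈ Subgroup.zpowers a := hidx r hr r hr hra hra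
      obtain ⟨k, hk⟩ := Subgroup.mem_zpowers_iff.mp h2
      have h3 : r * (a ^ k) * r⁻¹ = (a ^ k)⁻¹ := by
        rw [← conj_zpow, h1, inv_zpow]
      have h4 : r * (a ^ k) * r⁻¹ = a ^ k := by
        rw [hk]; group
      have h5 : (a ^ k) ^ 2 ^ 1 = 1 := by
        rw [pow_one, pow_two]
        nth_rewrite 1 [← h4]
        rw [h3, inv_mul_cancel]
      have h6 := mem_zpowers_pow_sub Nat.prime_two ha (k := 1) (by norm_num)
        (Subgroup.zpow_mem_zpowers a k) h5
      have h7 : r ^ 2 = a ^ k := by rw [hk, pow_two]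
      rw [h7]
      exact h6
  have hsq : ∀ g : G, g ^ 2 ∈ Subgroup.zpowers (a ^ 2) := by
    intro g
    obtain ⟨e, he, r, hr, rfl⟩ := hprod g
    rw [(show Commute e r from hER e he r hr).mul_pow]
    exact Subgroup.mul_mem _ (hEsq e he) (hRsq r hr)
  obtain ⟨r0, hr0R, hr0a⟩ := hr0
  apply isExtraspecial_of hG (⊤ : Subgroup G) (Subgroup.zpowers (a ^ 2)) le_top
  · rw [Nat.card_zpowers, hzord]
  · -- centre
    intro x _ hx
    obtain ⟨e, he, r, hr, rfl⟩ := hprod x
    have heZ : e ∈ Subgroup.zpowers (a ^ 2) := by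
      apply hEcen e he
      intro y hy
      have h1 := hx y (Subgroup.mem_top y)
      have h2 : y * r = r * y := hER y hy r hr
      have h3 : e * r = r * e := hER e he r hr
      have h4 : e * y * r = y * e * r := by
        calc e * y * r = e * (y * r) := by group
          _ = e * (r * y) := by rw [h2]
          _ = (e * r) * y := by group
          _ = y * (e * r) := h1
          _ = y * e * r := by group
      exact mul_right_cancel h4
    have hrc : ∀ y : G, r * y = y * r := by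
      intro y
      have h1 := hx y (Subgroup.mem_top y)
      have h2 := hZc e heZ
      have h3 : e * (r * y) = e * (y * r) := by
        calc e * (r * y) = (e * r) * y := by group
          _ = y * (e * r) := h1
          _ = (y * e) * r := by group
          _ = (e * y) * r := by rw [h2 y]
          _ = e * (y * r) := by group
      exact mul_left_cancel h3
    have hra : r ∈ Subgroup.zpowers a := by
      by_contra hra
      have h1 := hinv r hr hra
      rw [hrc a, mul_inv_cancel_right] at h1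
      exact hainv h1.symm
    obtain ⟨k, rfl⟩ := Subgroup.mem_zpowers_iff.mp hra
    have h1 : r0 * (a ^ k) * r0⁻¹ = (a ^ k)⁻¹ := by
      rw [← conj_zpow, hinv r0 hr0R hr0a, inv_zpow]
    have h2 : r0 * (a ^ k) * r0⁻¹ = a ^ k := by
      rw [← hrc r0, mul_inv_cancel_right]
    have h5 : (a ^ k) ^ 2 ^ 1 = 1 := by
      rw [pow_one, pow_two]
      nth_rewrite 1 [← h2]
      rw [h1, inv_mul_cancel]
    have h6 := mem_zpowers_pow_sub Nat.prime_two ha (k := 1) (by norm_num)
      (Subgroup.zpow_mem_zpowers a k) h5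
    exact Subgroup.mul_mem _ heZ h6
  · intro w hw y _
    exact hZc w hw y
  · intro x _
    exact hsq x
  · intro x _ y _
    have hx2 : ∀ w : G, (x ^ 2)⁻¹ * w = w * (x ^ 2)⁻¹ :=
      hZc _ (Subgroup.inv_mem _ (hsq x))
    have h1 : x * y * x⁻¹ * y⁻¹ = (x * y) ^ 2 * (x ^ 2)⁻¹ * (y ^ 2)⁻¹ := by
      calc x * y * x⁻¹ * y⁻¹ = x * y * x * ((x ^ 2)⁻¹ * y) * (y ^ 2)⁻¹ := by group
        _ = x * y * x * (y * (x ^ 2)⁻¹) * (y ^ 2)⁻¹ := by rw [hx2 y]
        _ = (x * y) ^ 2 * (x ^ 2)⁻¹ * (y ^ 2)⁻¹ := by rw [pow_two (x * y)]; group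
    rw [h1]
    exact Subgroup.mul_mem _ (Subgroup.mul_mem _ (hsq _) (Subgroup.inv_mem _ (hsq x)))
      (Subgroup.inv_mem _ (hsq y))
  · refine ⟨r0, Subgroup.mem_top _, a, Subgroup.mem_top _, ?_⟩
    intro h
    have h1 := hinv r0 hr0R hr0a
    rw [h, mul_inv_cancel_right] at h1
    exact hainv h1.symm

end Cfsg.Agent.Lib.Helper89_Symplectic
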