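import Mathlib
import Cfsg.Prelude.Def_Transfer
import Cfsg.Agent.Lib.Helper32_PGroup
import Cfsg.Agent.S0110
import Cfsg.Agent.Lib.Helper20_PGroupOdd
import Cfsg.Agent.Lib.Helper89_SympBasics

set_option autoImplicit false

namespace Cfsg.Agent.Lib.Helper89_Symplectic

open scoped commutatorElement

variable {G : Type*} [Group G]

theorem char_mem_iff (H : Subgroup G) [hH : H.Characteristic] (ϕ : G ≃* G) (x : G) :
    ϕ x ∈ H ↔ x ∈ H := by
  have := Subgroup.characteristic_iff_comap_eq.mp hH ϕ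
  conv_rhs => rw [← this]
  rfl

/-- the subgroup `C` with `C/H = Ω₁(Z(G/H)) ∩ C_G(H)/H` -/
def critC (p : ℕ) (H : Subgroup G) [hH : H.Normal] : Subgroup G where
  carrier := {x | x ∈ Subgroup.centralizer (H : Set G) ∧ x ^ p ∈ H ∧
    ∀ g : G, g * x * g⁻¹ * x⁻¹ ∈ H}
  one_mem' := ⟨Subgroup.one_mem _, by rw [one_pow]; exact H.one_mem,
    fun g => by simp [H.one_mem]⟩
  mul_mem' := by
    rintro x y ⟨hx1, hx2, hx3⟩ ⟨hy1, hy2, hy3⟩
    refine ⟨Subgroup.mul_mem _ hx1 hy1, ?_, ?_⟩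
    · rw [← QuotientGroup.eq_one_iff]
      have hc : Commute (y : G ⧸ H) (x : G ⧸ H) := by
        have := (QuotientGroup.eq_one_iff _).mpr (hx3 y)
        simp only [QuotientGroup.mk_mul, QuotientGroup.mk_inv] at this
        exact commutatorElement_eq_one_iff_mul_comm.mp this
      have h1 : ((x : G ⧸ H)) ^ p = 1 := by
        rw [← QuotientGroup.mk_pow]; exact (QuotientGroup.eq_one_iff _).mpr hx2
      have h2 : ((y : G ⧸ H)) ^ p = 1 := by
        rw [← QuotientGroup.mk_pow]; exact (QuotientGroup.eq_one_iff _).mpr hy2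
      rw [QuotientGroup.mk_pow, QuotientGroup.mk_mul, hc.symm.mul_pow, h1, h2, one_mul]
    · intro g
      have : g * (x * y) * g⁻¹ * (x * y)⁻¹ =
          (g * x * g⁻¹ * x⁻¹) * (x * (g * y * g⁻¹ * y⁻¹) * x⁻¹) := by group
      rw [this]
      exact H.mul_mem (hx3 g) (hH.conj_mem _ (hy3 g) x)
  inv_mem' := by
    rintro x ⟨hx1, hx2, hx3⟩
    refine ⟨Subgroup.inv_mem _ hx1, ?_, ?_⟩
    · rw [inv_pow]; exact H.inv_mem hx2
    · intro g
      have : g * x⁻¹ * g⁻¹ * x⁻¹⁻¹ = x⁻¹ * (g * x * g⁻¹ * x⁻¹)⁻¹ * x⁻¹⁻¹ := by group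
      rw [this]
      exact hH.conj_mem _ (H.inv_mem (hx3 g)) x⁻¹

theorem mem_critC {p : ℕ} {H : Subgroup G} [H.Normal] {x : G} :
    x ∈ critC p H ↔ x ∈ Subgroup.centralizer (H : Set G) ∧ x ^ p ∈ H ∧
      ∀ g : G, g * x * g⁻¹ * x⁻¹ ∈ H := Iff.rfl

theorem le_critC {p : ℕ} {H : Subgroup G} [hH : H.Normal] (hab : IsMulCommutative H) :
    H ≤ critC p H := by
  intro h hh
  refine ⟨Subgroup.le_centralizer_iff_isMulCommutative.mpr hab hh, H.pow_mem hh p, fun g => ?_⟩
  exact H.mul_mem (hH.conj_mem h hh g) (H.inv_mem hh)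

instance critC_char (p : ℕ) (H : Subgroup G) [hH : H.Characteristic] :
    (critC p H).Characteristic := by
  rw [Subgroup.characteristic_iff_map_le]
  intro ϕ y hy
  obtain ⟨x, ⟨hx1, hx2, hx3⟩, rfl⟩ := Subgroup.mem_map.mp hy
  refine ⟨?_, ?_, ?_⟩
  · rw [Subgroup.mem_centralizer_iff]
    intro h hh
    have h1 : ϕ.symm h ∈ H := by
      rw [← char_mem_iff H ϕ]; simpa using hh
    have h2 := Subgroup.mem_centralizer_iff.mp hx1 _ h1
    have := congrArg ϕ h2
    simpa using this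
  · change (ϕ x) ^ p ∈ H
    rw [← map_pow, char_mem_iff]; exact hx2
  · intro g
    have h1 := hx3 (ϕ.symm g)
    rw [← char_mem_iff H ϕ] at h1
    simpa using h1

/-- a normal subgroup of `C_G(H)` not inside `H` contains an element of `critC p H` outside `H`. -/
theorem exists_mem_of_normal [Finite G] {p : ℕ} [hp : Fact p.Prime] (hG : IsPGroup p G)
    (H : Subgroup G) [hH : H.Normal] (N : Subgroup G) [hN : N.Normal]
    (hNH : N ≤ Subgroup.centralizer (H : Set G)) (hne : ¬ N ≤ H) :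
    ∃ w ∈ N, w ∈ critC p H ∧ w ∉ H := by
  classical
  obtain ⟨d, hdN, hdH⟩ := SetLike.not_le_iff_exists.mp hne
  let π := QuotientGroup.mk' H
  have hsurj : Function.Surjective π := QuotientGroup.mk'_surjective H
  have hNn : (N.map π).Normal := hN.map π hsurj
  have hNne : N.map π ≠ ⊥ := by
    intro h
    have : π d ∈ N.map π := Subgroup.mem_map_of_mem _ hdN
    rw [h, Subgroup.mem_bot] at this
    exact hdH ((QuotientGroup.eq_one_iff d).mp this)
  have hq : IsPGroup p (G ⧸ H) := hG.to_quotient H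
  obtain ⟨z, hzN, hzc, hz1⟩ :=
    Cfsg.Agent.Lib.Helper32_PGroup.exists_mem_center_of_normal hq (N.map π) hNne
  obtain ⟨k, hk⟩ := IsPGroup.iff_orderOf.mp hq z
  have hk1 : 1 ≤ k := by
    rcases Nat.eq_zero_or_pos k with h0 | h0
    · rw [h0, pow_zero, orderOf_eq_one_iff] at hk
      exact absurd hk hz1
    · exact h0
  set w' := z ^ p ^ (k - 1) with hw'
  have hw'p : w' ^ p = 1 := by
    rw [hw', ← pow_mul, ← pow_succ, Nat.sub_add_cancel hk1, ← hk, pow_orderOf_eq_one]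
  have hw'1 : w' ≠ 1 := by
    intro h
    have h1 := orderOf_dvd_of_pow_eq_one h
    rw [hk] at h1
    have h2 := Nat.pow_dvd_pow_iff_le_right hp.out.one_lt |>.mp h1
    omega
  have hw'N : w' ∈ N.map π := Subgroup.pow_mem _ hzN _
  have hw'c : w' ∈ Subgroup.center (G ⧸ H) := Subgroup.pow_mem _ hzc _
  obtain ⟨w, hwN, hw⟩ := Subgroup.mem_map.mp hw'N
  refine ⟨w, hwN, ⟨hNH hwN, ?_, ?_⟩, ?_⟩
  · rw [← QuotientGroup.eq_one_iff]
    change π (w ^ p) = 1
    rw [map_pow, hw, hw'p]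
  · intro g
    rw [← QuotientGroup.eq_one_iff]
    change π (g * w * g⁻¹ * w⁻¹) = 1
    rw [map_mul, map_mul, map_mul, map_inv, map_inv, hw]
    have := Subgroup.mem_center_iff.mp hw'c (π g)
    rw [this]; group
  · intro h
    apply hw'1
    rw [← hw]
    exact (QuotientGroup.eq_one_iff w).mpr h

/-- the package of properties of the critical subgroup above a maximal characteristic abelian
subgroup. -/
structure Crit (p : ℕ) (H C : Subgroup G) : Prop where
  hchar : H.Characteristic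
  cchar : C.Characteristic
  le : H ≤ C
  ne : ∃ x ∈ C, x ∉ H
  cent : ∀ x ∈ C, ∀ h ∈ H, x * h = h * x
  pow : ∀ x ∈ C, x ^ p ∈ H
  comm : ∀ x ∈ C, ∀ g : G, g * x * g⁻¹ * x⁻¹ ∈ H
  zc : ∀ x ∈ C, (∀ y ∈ C, x * y = y * x) → x ∈ H
  cc : ∀ g : G, (∀ y ∈ C, g * y = y * g) → g ∈ H

theorem exists_crit [Finite G] {p : ℕ} [hp : Fact p.Prime] (hG : IsPGroup p G)
    (H : Subgroup G) [hH : H.Characteristic] (hab : IsMulCommutative H)
    (hmax : ∀ H' : Subgroup G, H'.Characteristic → IsMulCommutative H' → H ≤ H' → H' = H)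
    (hne : ¬ Subgroup.centralizer (H : Set G) ≤ H) : Crit p H (critC p H) := by
  have hle : H ≤ critC p H := le_critC hab
  have hcent : ∀ x ∈ critC p H, ∀ h ∈ H, x * h = h * x := by
    intro x hx h hh
    exact (Subgroup.mem_centralizer_iff.mp hx.1 h hh).symm
  -- the centre of `C`
  have hzc : ∀ x ∈ critC p H, (∀ y ∈ critC p H, x * y = y * x) → x ∈ H := by
    set Z := critC p H ⊓ Subgroup.centralizer (critC p H : Set G) with hZ
    have hZc : Z.Characteristic := inferInstance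
    have hZab : IsMulCommutative Z := by
      refine ⟨⟨?_⟩⟩
      rintro ⟨x, hx⟩ ⟨y, hy⟩
      apply Subtype.ext
      exact (Subgroup.mem_centralizer_iff.mp hx.2 y hy.1).symm
    have hHZ : H ≤ Z := by
      intro h hh
      refine Subgroup.mem_inf.mpr ⟨hle hh, ?_⟩
      rw [Subgroup.mem_centralizer_iff]
      intro y hy
      exact hcent y hy h hh
    have hZH := hmax Z hZc hZab hHZ
    intro x hx hxc
    rw [← hZH]
    refine Subgroup.mem_inf.mpr ⟨hx, ?_⟩
    rw [Subgroup.mem_centralizer_iff]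
    intro y hy
    exact (hxc y hy).symm
  refine ⟨hH, inferInstance, hle, ?_, hcent, fun x hx => hx.2.1, fun x hx => hx.2.2, hzc, ?_⟩
  · obtain ⟨w, -, hwC, hwH⟩ := exists_mem_of_normal hG H
      (Subgroup.centralizer (H : Set G)) le_rfl hne
    exact ⟨w, hwC, hwH⟩
  · by_contra hcon
    push Not at hcon
    obtain ⟨g, hg, hgH⟩ := hcon
    have hDH : Subgroup.centralizer (critC p H : Set G) ≤ Subgroup.centralizer (H : Set G) :=
      Subgroup.centralizer_le hle
    have hD : ¬ Subgroup.centralizer (critC p H : Set G) ≤ H := by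
      intro h
      apply hgH
      apply h
      rw [Subgroup.mem_centralizer_iff]
      intro y hy
      exact (hg y hy).symm
    obtain ⟨w, hwD, hwC, hwH⟩ := exists_mem_of_normal hG H
      (Subgroup.centralizer (critC p H : Set G)) hDH hD
    apply hwH
    apply hzc w hwC
    intro y hy
    exact (Subgroup.mem_centralizer_iff.mp hwD y hy).symm


theorem comm_mul_right_of_commute {x k k' : G}
    (hc : Commute (x * k' * x⁻¹ * k'⁻¹) k) :
    x * (k * k') * x⁻¹ * (k * k')⁻¹ = (x * k * x⁻¹ * k⁻¹) * (x * k' * x⁻¹ * k'⁻¹) := by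
  calc x * (k * k') * x⁻¹ * (k * k')⁻¹
      = (x * k * x⁻¹) * ((x * k' * x⁻¹ * k'⁻¹) * k⁻¹) := by group
    _ = (x * k * x⁻¹) * (k⁻¹ * (x * k' * x⁻¹ * k'⁻¹)) := by rw [hc.inv_right.eq]
    _ = _ := by group

theorem comm_mul_left_of_commute {x y k : G}
    (hc : Commute (y * k * y⁻¹ * k⁻¹) x) :
    (x * y) * k * (x * y)⁻¹ * k⁻¹ = (y * k * y⁻¹ * k⁻¹) * (x * k * x⁻¹ * k⁻¹) := by
  calc (x * y) * k * (x * y)⁻¹ * k⁻¹
      = (x * (y * k * y⁻¹ * k⁻¹)) * (k * x⁻¹ * k⁻¹) := by group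
    _ = ((y * k * y⁻¹ * k⁻¹) * x) * (k * x⁻¹ * k⁻¹) := by rw [hc.eq]
    _ = _ := by group

/-- counting lemma: if `C` acts on `K/H` with commutators in a central subgroup `Z0` of prime order
and only `H` centralizes `K`, then `|C| ≤ |K|`. -/
theorem card_le_of_pairing [Finite G] {p : ℕ} [hp : Fact p.Prime] (C K H Z0 : Subgroup G)
    [hH : H.Normal] (hHK : H ≤ K) (hKC : K ≤ C) (hcard : Nat.card Z0 = p)
    (hcomm : ∀ x ∈ C, ∀ k ∈ K, x * k * x⁻¹ * k⁻¹ ∈ Z0)
    (hZ0c : ∀ z ∈ Z0, ∀ y ∈ C, z * y = y * z)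
    (hHc : ∀ x ∈ C, ∀ h ∈ H, x * h = h * x)
    (hker : ∀ x ∈ C, (∀ k ∈ K, x * k = k * x) → x ∈ H) : Nat.card C ≤ Nat.card K := by
  classical
  have hcyc : IsCyclic Z0 := by
    have : Fact (Nat.card Z0).Prime := by rw [hcard]; exact hp
    exact isCyclic_of_prime_card rfl
  let _ : CommGroup Z0 := IsCyclic.commGroup
  -- the homomorphisms `k ↦ [x, k]`
  let f : C → (K →* Z0) := fun x =>
    { toFun := fun k => ⟨(x : G) * k * (x : G)⁻¹ * (k : G)⁻¹, hcomm x x.2 k k.2⟩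
      map_one' := by
        apply Subtype.ext
        simp
      map_mul' := by
        intro k k'
        apply Subtype.ext
        exact comm_mul_right_of_commute (hZ0c _ (hcomm x x.2 k' k'.2) k (hKC k.2)) }
  have hfker : ∀ x : C, H.subgroupOf K ≤ (f x).ker := by
    intro x k hk
    rw [MonoidHom.mem_ker]
    apply Subtype.ext
    change (x : G) * k * (x : G)⁻¹ * (k : G)⁻¹ = 1
    rw [hHc x x.2 k (Subgroup.mem_subgroupOf.mp hk)]
    group
  let g : C → (K ⧸ H.subgroupOf K →* Z0) := fun x => QuotientGroup.lift _ (f x) (hfker x)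
  have hg_apply : ∀ (x : C) (k : K), ((g x (QuotientGroup.mk k) : Z0) : G) =
      (x : G) * k * (x : G)⁻¹ * (k : G)⁻¹ := fun x k => rfl
  let Ψ : C →* (K ⧸ H.subgroupOf K →* Z0) :=
    { toFun := g
      map_one' := by
        refine MonoidHom.ext fun q => ?_
        obtain ⟨k, rfl⟩ := QuotientGroup.mk_surjective q
        apply Subtype.ext
        rw [hg_apply]
        simp
      map_mul' := by
        intro x y
        refine MonoidHom.ext fun q => ?_
        obtain ⟨k, rfl⟩ := QuotientGroup.mk_surjective q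
        rw [MonoidHom.mul_apply, mul_comm]
        apply Subtype.ext
        rw [Subgroup.coe_mul, hg_apply, hg_apply, hg_apply]
        exact comm_mul_left_of_commute (hZ0c _ (hcomm y y.2 k k.2) x x.2) }
  have hΨker : Ψ.ker ≤ H.subgroupOf C := by
    intro x hx
    rw [Subgroup.mem_subgroupOf]
    apply hker x x.2
    intro k hk
    have h1 : g x (QuotientGroup.mk ⟨k, hk⟩) = 1 := by
      have : Ψ x = 1 := hx
      change (Ψ x) _ = 1
      rw [this]; rfl
    have h2 := congrArg (fun t : Z0 => (t : G)) h1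
    simp only [hg_apply, Subgroup.coe_one] at h2
    exact commutatorElement_eq_one_iff_mul_comm.mp h2
  have hfinT : Finite (K ⧸ H.subgroupOf K →* Z0) := DFunLike.finite _
  have h1 : Nat.card C = Nat.card (C ⧸ Ψ.ker) * Nat.card Ψ.ker :=
    Subgroup.card_eq_card_quotient_mul_card_subgroup _
  have h2 : Nat.card (C ⧸ Ψ.ker) ≤ Nat.card (K ⧸ H.subgroupOf K →* Z0) :=
    Nat.card_le_card_of_injective _ (QuotientGroup.kerLift_injective Ψ)
  have h3 : Nat.card (K ⧸ H.subgroupOf K →* Z0) ≤ Nat.card (K ⧸ H.subgroupOf K) := by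
    refine le_trans (Cfsg.Agent.S0110.card_monoidHom_le hcard) ?_
    exact Nat.le_of_dvd Nat.card_pos (Subgroup.index_dvd_card _)
  have h4 : Nat.card Ψ.ker ≤ Nat.card H := by
    refine le_trans (Subgroup.card_le_of_le hΨker) ?_
    rw [Nat.card_congr (Subgroup.subgroupOfEquivOfLe (hHK.trans hKC)).toEquiv]
  have h5 : Nat.card K = Nat.card (K ⧸ H.subgroupOf K) * Nat.card H := by
    rw [Subgroup.card_eq_card_quotient_mul_card_subgroup (H.subgroupOf K),
      Nat.card_congr (Subgroup.subgroupOfEquivOfLe hHK).toEquiv]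
  rw [h1, h5]
  exact Nat.mul_le_mul (h2.trans h3) h4


section CritCalc

open Cfsg.Agent.Lib.Helper89_SympBasics Cfsg.Agent.Lib.Helper20_PGroupOdd

variable {p : ℕ} {H C : Subgroup G}

namespace Crit

theorem comm_mem (hC : Crit p H C) {x y : G} (hx : x ∈ C) (_hy : y ∈ C) :
    y * x * y⁻¹ * x⁻¹ ∈ H := hC.comm x hx y

theorem commute_of_mem (hC : Crit p H C) {h x : G} (hh : h ∈ H) (hx : x ∈ C) : Commute h x :=
  (hC.cent x hx h hh).symm

theorem comm_pow (hC : Crit p H C) {x y : G} (hx : x ∈ C) (hy : y ∈ C) :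
    (y * x * y⁻¹ * x⁻¹) ^ p = 1 := by
  set c := y * x * y⁻¹ * x⁻¹ with hc
  have hcH : c ∈ H := hC.comm_mem hx hy
  have h1 : y * x = c * x * y := by rw [hc]; group
  have hcy : Commute c y := hC.commute_of_mem hcH hy
  have h2 := pow_mul_eq_of_comm h1 hcy p
  have h3 : Commute (y ^ p) x := hC.commute_of_mem (hC.pow y hy) hx
  rw [h3.eq, mul_assoc] at h2
  exact (mul_eq_right.mp h2.symm)

theorem mul_pow (hC : Crit p H C) {x y : G} (hx : x ∈ C) (hy : y ∈ C) :
    ∃ d ∈ H, d ^ p = 1 ∧ (x * y) ^ p = d * x ^ p * y ^ p := by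
  set c := y * x * y⁻¹ * x⁻¹ with hc
  have hcH : c ∈ H := hC.comm_mem hx hy
  have h1 : y * x = c * x * y := by rw [hc]; group
  have hcy : Commute c y := hC.commute_of_mem hcH hy
  have hcx : Commute c x := hC.commute_of_mem hcH hx
  refine ⟨c ^ (p.choose 2), H.pow_mem hcH _, ?_, mul_pow_eq_of_comm h1 hcx hcy p⟩
  rw [← pow_mul, mul_comm, pow_mul, hC.comm_pow hx hy, one_pow]

variable [hp : Fact p.Prime] {a : G} {n : ℕ}

theorem mul_pow' (hC : Crit p H C) (hHa : H = Subgroup.zpowers a) (ha : orderOf a = p ^ n)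
    (hn : 2 ≤ n) {x y : G} (hx : x ∈ C) (hy : y ∈ C) :
    ∃ e ∈ H, (x * y) ^ p = e ^ p * x ^ p * y ^ p := by
  obtain ⟨d, hdH, hdp, hd⟩ := hC.mul_pow hx hy
  rw [hHa] at hdH
  obtain ⟨e, heH, he⟩ := exists_pth_root hp.out ha (k := 1) (by omega) hdH (by rwa [pow_one])
  refine ⟨e, hHa ▸ heH, ?_⟩
  rw [he, hd]

omit hp in
/-- `H` is abelian. -/
theorem commute_H (hC : Crit p H C) {h h' : G} (hh : h ∈ H) (hh' : h' ∈ H) : Commute h h' :=
  hC.commute_of_mem hh (hC.le hh')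

/-- the subgroup of elements of `C` whose `p`-th power is a `p`-th power in `H`. -/
def Ksub (hC : Crit p H C) (hHa : H = Subgroup.zpowers a) (ha : orderOf a = p ^ n) (hn : 2 ≤ n) :
    Subgroup G where
  carrier := {x | x ∈ C ∧ ∃ h ∈ H, x ^ p = h ^ p}
  one_mem' := ⟨C.one_mem, 1, H.one_mem, by simp⟩
  mul_mem' := by
    rintro x y ⟨hx, h1, hh1, hx1⟩ ⟨hy, h2, hh2, hy2⟩
    refine ⟨C.mul_mem hx hy, ?_⟩
    obtain ⟨e, heH, he⟩ := hC.mul_pow' hHa ha hn hx hy
    refine ⟨e * h1 * h2, H.mul_mem (H.mul_mem heH hh1) hh2, ?_⟩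
    rw [he, hx1, hy2, ((hC.commute_H heH hh2).mul_left (hC.commute_H hh1 hh2)).mul_pow,
      (hC.commute_H heH hh1).mul_pow]
  inv_mem' := by
    rintro x ⟨hx, h, hh, hxh⟩
    exact ⟨C.inv_mem hx, h⁻¹, H.inv_mem hh, by rw [inv_pow, inv_pow, hxh]⟩

theorem mem_Ksub (hC : Crit p H C) (hHa : H = Subgroup.zpowers a) (ha : orderOf a = p ^ n)
    (hn : 2 ≤ n) {x : G} : x ∈ hC.Ksub hHa ha hn ↔ x ∈ C ∧ ∃ h ∈ H, x ^ p = h ^ p := Iff.rfl

theorem Ksub_le (hC : Crit p H C) (hHa : H = Subgroup.zpowers a) (ha : orderOf a = p ^ n)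
    (hn : 2 ≤ n) : hC.Ksub hHa ha hn ≤ C := fun _ hx => hx.1

theorem le_Ksub (hC : Crit p H C) (hHa : H = Subgroup.zpowers a) (ha : orderOf a = p ^ n)
    (hn : 2 ≤ n) : H ≤ hC.Ksub hHa ha hn := fun h hh => ⟨hC.le hh, h, hh, rfl⟩

theorem Ksub_char (hC : Crit p H C) (hHa : H = Subgroup.zpowers a) (ha : orderOf a = p ^ n)
    (hn : 2 ≤ n) : (hC.Ksub hHa ha hn).Characteristic := by
  have hHc := hC.hchar
  have hCc := hC.cchar
  rw [Subgroup.characteristic_iff_map_le]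
  intro ϕ y hy
  obtain ⟨x, ⟨hx, h, hh, hxh⟩, rfl⟩ := Subgroup.mem_map.mp hy
  refine ⟨(char_mem_iff C ϕ x).mpr hx, ϕ h, (char_mem_iff H ϕ h).mpr hh, ?_⟩
  change (ϕ x) ^ p = (ϕ h) ^ p
  rw [← map_pow, ← map_pow, hxh]

/-- the generator of `H` is not a `p`-th power of an element of `H`. -/
theorem gen_not_pth_power (ha : orderOf a = p ^ n) (hn : 1 ≤ n) {b : G}
    (hb : b ∈ Subgroup.zpowers a) : b ^ p ≠ a := by
  intro h
  have h1 : a ^ p ^ (n - 1) = 1 := by
    rw [← h, ← pow_mul, ← pow_succ', Nat.sub_add_cancel hn, ← ha]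
    obtain ⟨s, rfl⟩ := Subgroup.mem_zpowers_iff.mp hb
    rw [← zpow_natCast, ← zpow_mul, mul_comm, zpow_mul, zpow_natCast, pow_orderOf_eq_one, one_zpow]
  have h2 : p ^ (n - 1) < orderOf a := by
    rw [ha]; exact Nat.pow_lt_pow_right hp.out.one_lt (by omega)
  exact pow_ne_one_of_lt_orderOf (pow_pos hp.out.pos _).ne' h2 h1

/-- key step: in a group of symplectic type, every `p`-th power of an element of `C` is a `p`-th
power of an element of `H` (when `|H| ≥ p²`). -/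
theorem pow_eq_pow [Finite G] (hC : Crit p H C) (hHa : H = Subgroup.zpowers a)
    (ha : orderOf a = p ^ n) (hn : 2 ≤ n) (hG : IsPGroup p G)
    (hsymp : ∀ A : Subgroup G, A.Characteristic → IsMulCommutative A → IsCyclic A)
    {w : G} (hw : w ∈ C) : ∃ h ∈ H, w ^ p = h ^ p := by
  classical
  by_contra hcon
  set K := hC.Ksub hHa ha hn with hKdef
  have hKC : K ≤ C := hC.Ksub_le hHa ha hn
  have hHK : H ≤ K := hC.le_Ksub hHa ha hn
  have hwK : w ∉ K := fun h => hcon h.2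
  have haH : a ∈ H := hHa ▸ Subgroup.mem_zpowers a
  -- every element of `C` is in `K w'^j` for `w' ∉ K`
  have hj : ∀ w' ∈ C, w' ∉ K → ∀ x ∈ C, ∃ j : ℕ, x * (w' ^ j)⁻¹ ∈ K := by
    intro w' hw' hw'K x hx
    have h1 : w' ^ p ∈ Subgroup.zpowers a := hHa ▸ hC.pow w' hw'
    have h2 : ¬ ∃ h' ∈ Subgroup.zpowers a, h' ^ p = w' ^ p := by
      rintro ⟨h', hh', e⟩
      exact hw'K ⟨hw', h', hHa ▸ hh', e.symm⟩
    have h3 : a ∈ Subgroup.zpowers (w' ^ p) := mem_zpowers_of_not_pth_power hp.out ha h1 h2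
    have h4 : x ^ p ∈ Subgroup.zpowers (w' ^ p) :=
      (Subgroup.zpowers_le.mpr h3) (hHa ▸ hC.pow x hx)
    obtain ⟨j, hj⟩ := exists_pow_of_mem_zpowers (orderOf_pos _) h4
    have hwj : (w' ^ j)⁻¹ ∈ C := C.inv_mem (C.pow_mem hw' j)
    refine ⟨j, C.mul_mem hx hwj, ?_⟩
    obtain ⟨e, heH, he⟩ := hC.mul_pow' hHa ha hn hx hwj
    refine ⟨e, heH, ?_⟩
    rw [he, inv_pow, ← pow_mul, mul_comm j p, pow_mul, hj, mul_assoc, mul_inv_cancel, mul_one]
  -- the centralizer of `K` in `C`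
  set D := C ⊓ Subgroup.centralizer (K : Set G) with hDdef
  have hKchar : K.Characteristic := hC.Ksub_char hHa ha hn
  have hCchar : C.Characteristic := hC.cchar
  have hDchar : D.Characteristic := inferInstance
  have hcommD : ∀ d ∈ D, ∀ k ∈ K, Commute d k := by
    intro d hd k hk
    exact (Subgroup.mem_centralizer_iff.mp (Subgroup.mem_inf.mp hd).2 k hk).symm
  have hcomm_of : ∀ w' ∈ D, w' ∉ K → ∀ y ∈ C, Commute w' y := by
    intro w' hw' hw'K y hy
    obtain ⟨j, hjk⟩ := hj w' (Subgroup.mem_inf.mp hw').1 hw'K y hy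
    have h1 : Commute w' (y * (w' ^ j)⁻¹) := hcommD w' hw' _ hjk
    have h2 : Commute w' (w' ^ j) := (Commute.refl w').pow_right j
    have h3 : y = (y * (w' ^ j)⁻¹) * w' ^ j := by group
    rw [h3]
    exact h1.mul_right h2
  have hDab : IsMulCommutative D := by
    refine ⟨⟨?_⟩⟩
    rintro ⟨d1, hd1⟩ ⟨d2, hd2⟩
    apply Subtype.ext
    change d1 * d2 = d2 * d1
    by_cases h1 : d1 ∈ K
    · exact ((hcommD d2 hd2 d1 h1).eq).symm
    · exact (hcomm_of d1 hd1 h1 d2 (Subgroup.mem_inf.mp hd2).1).eq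
  have hDcyc : IsCyclic D := hsymp D hDchar hDab
  obtain ⟨u, hu⟩ := hDcyc.exists_generator
  have hHD : H ≤ D := by
    intro h hh
    refine Subgroup.mem_inf.mpr ⟨hC.le hh, ?_⟩
    rw [Subgroup.mem_centralizer_iff]
    intro k hk
    exact hC.cent k (hKC hk) h hh
  have huC : (u : G) ∈ C := (Subgroup.mem_inf.mp u.2).1
  have hzD : ∀ d ∈ D, d ∈ Subgroup.zpowers (u : G) := by
    intro d hd
    obtain ⟨m, hm⟩ := Subgroup.mem_zpowers_iff.mp (hu ⟨d, hd⟩)
    refine Subgroup.mem_zpowers_iff.mpr ⟨m, ?_⟩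
    have := congrArg Subtype.val hm
    simpa using this
  have huH : (u : G) ∈ H := by
    by_cases huK : (u : G) ∈ K
    · obtain ⟨-, h, hh, huh⟩ := huK
      obtain ⟨m, hm⟩ := exists_pow_of_mem_zpowers (orderOf_pos (u : G)) (hzD a (hHD haH))
      by_cases hpm : p ∣ m
      · exfalso
        obtain ⟨t, rfl⟩ := hpm
        rw [pow_mul, huh, ← pow_mul, mul_comm, pow_mul] at hm
        exact gen_not_pth_power ha (by omega) (hHa ▸ H.pow_mem hh t) hm
      · obtain ⟨N, hN⟩ := IsPGroup.iff_orderOf.mp hG (u : G)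
        have := mem_zpowers_pow_of_not_dvd hp.out hN hpm
        rw [hm] at this
        rw [hHa]; exact this
    · apply hC.zc _ huC
      intro y hy
      exact (hcomm_of _ u.2 huK y hy).eq
  have hDH : ∀ x ∈ C, (∀ k ∈ K, x * k = k * x) → x ∈ H := by
    intro x hx hxk
    have hxD : x ∈ D := by
      refine Subgroup.mem_inf.mpr ⟨hx, ?_⟩
      rw [Subgroup.mem_centralizer_iff]
      intro k hk
      exact (hxk k hk).symm
    obtain ⟨m, hm⟩ := Subgroup.mem_zpowers_iff.mp (hzD x hxD)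
    rw [← hm]
    exact H.zpow_mem huH m
  -- the subgroup of order `p`
  have hn1 : n - 1 + 1 = n := by omega
  set z := a ^ p ^ (n - 1) with hz
  have hzord : orderOf z = p := by
    rw [hz, orderOf_pow' a (pow_pos hp.out.pos _).ne', ha,
      Nat.gcd_eq_right (pow_dvd_pow p (Nat.sub_le n 1)), Nat.pow_div (Nat.sub_le n 1) hp.out.pos]
    have : n - (n - 1) = 1 := by omega
    rw [this, pow_one]
  have hZ0card : Nat.card (Subgroup.zpowers z) = p := by rw [Nat.card_zpowers, hzord]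
  have hZ0H : Subgroup.zpowers z ≤ H := by
    rw [Subgroup.zpowers_le, hz]
    exact H.pow_mem haH _
  have hHn : H.Normal := by
    have := hC.hchar
    infer_instance
  have hle := card_le_of_pairing C K H (Subgroup.zpowers z) hHK hKC hZ0card
    (fun x hx k hk => by
      have h1 : x * k * x⁻¹ * k⁻¹ ∈ Subgroup.zpowers a := hHa ▸ hC.comm_mem (hKC hk) hx
      have h2 := hC.comm_pow (hKC hk) hx
      have := mem_zpowers_pow_sub hp.out ha (k := 1) (by omega) h1 (by rwa [pow_one])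
      exact this)
    (fun z' hz' y hy => (hC.commute_of_mem (hZ0H hz') hy).eq)
    hC.cent hDH
  have hKeq : K = C := Subgroup.eq_of_le_of_card_ge hKC hle
  exact hwK (hKeq ▸ hw)

end Crit


end CritCalc

end Cfsg.Agent.Lib.Helper89_Symplectic
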