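import Mathlib
import Cfsg.Prelude.Def_Transfer
import Cfsg.Agent.Lib.Helper20_PGroupOdd
import Cfsg.Agent.Lib.Helper63_PGroup
import Cfsg.Agent.Lib.Helper89_SympBasics
import Cfsg.Agent.Lib.Helper89_Symplectic

set_option autoImplicit false

namespace Cfsg.Agent.Lib.Helper89_Symplectic

open scoped commutatorElement
open Cfsg.Agent.Lib.Helper89_SympBasics Cfsg.Agent.Lib.Helper20_PGroupOdd

variable {G : Type*} [Group G] {p : ℕ} {H C : Subgroup G}

/-- the data of a complement-like subgroup `E` with `C = E H`, `E ∩ H = Z0`. -/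
structure EData (H C E Z0 : Subgroup G) : Prop where
  leC : E ≤ C
  Z0le : Z0 ≤ E
  inter : E ⊓ H ≤ Z0
  prod : C ≤ E ⊔ H

namespace Crit

variable [hp : Fact p.Prime] {a : G} {n : ℕ}

/-- elements of `H` killed by `p` lie in `Z0`. -/
theorem mem_Z0 (_hC : Crit p H C) (hHa : H = Subgroup.zpowers a) (ha : orderOf a = p ^ n)
    (hn : 1 ≤ n) {h : G} (hh : h ∈ H) (hhp : h ^ p = 1) :
    h ∈ Subgroup.zpowers (a ^ p ^ (n - 1)) :=
  mem_zpowers_pow_sub hp.out ha (k := 1) hn (hHa ▸ hh) (by rwa [pow_one])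

omit hp in
theorem Z0_le (_hC : Crit p H C) (hHa : H = Subgroup.zpowers a) :
    Subgroup.zpowers (a ^ p ^ (n - 1)) ≤ H := by
  rw [Subgroup.zpowers_le, hHa]
  exact Subgroup.pow_mem _ (Subgroup.mem_zpowers a) _

omit hp in
theorem Z0_pow (_hC : Crit p H C) (ha : orderOf a = p ^ n) (hn : 1 ≤ n) {z : G}
    (hz : z ∈ Subgroup.zpowers (a ^ p ^ (n - 1))) : z ^ p = 1 := by
  obtain ⟨k, rfl⟩ := Subgroup.mem_zpowers_iff.mp hz
  rw [← zpow_natCast, ← zpow_mul, mul_comm, zpow_mul, zpow_natCast, ← pow_mul, ← pow_succ,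
    Nat.sub_add_cancel hn, ← ha, pow_orderOf_eq_one, one_zpow]

/-- commutators of elements of `C` lie in `Z0`. -/
theorem comm_mem_Z0 (hC : Crit p H C) (hHa : H = Subgroup.zpowers a) (ha : orderOf a = p ^ n)
    (hn : 1 ≤ n) {x y : G} (hx : x ∈ C) (hy : y ∈ C) :
    y * x * y⁻¹ * x⁻¹ ∈ Subgroup.zpowers (a ^ p ^ (n - 1)) :=
  hC.mem_Z0 hHa ha hn (hC.comm_mem hx hy) (hC.comm_pow hx hy)

end Crit

namespace EData

variable [hp : Fact p.Prime] {a : G} {n : ℕ} {E : Subgroup G}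

/-- `E` is normalized by `C`. -/
theorem conj_mem (hE : EData H C E (Subgroup.zpowers (a ^ p ^ (n - 1)))) (hC : Crit p H C)
    (hHa : H = Subgroup.zpowers a) (ha : orderOf a = p ^ n) (hn : 1 ≤ n) {y e : G} (hy : y ∈ C)
    (he : e ∈ E) : y * e * y⁻¹ ∈ E := by
  have h1 : y * e * y⁻¹ = (y * e * y⁻¹ * e⁻¹) * e := by group
  rw [h1]
  exact E.mul_mem (hE.Z0le (hC.comm_mem_Z0 hHa ha hn (hE.leC he) hy)) he

theorem le_normalizer (hE : EData H C E (Subgroup.zpowers (a ^ p ^ (n - 1)))) (hC : Crit p H C)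
    (hHa : H = Subgroup.zpowers a) (ha : orderOf a = p ^ n) (hn : 1 ≤ n) :
    C ≤ Subgroup.normalizer (E : Set G) := by
  intro y hy
  rw [Subgroup.mem_normalizer_iff]
  intro e
  constructor
  · intro he
    exact hE.conj_mem hC hHa ha hn hy he
  · intro he
    have := hE.conj_mem hC hHa ha hn (C.inv_mem hy) he
    have h2 : y⁻¹ * (y * e * y⁻¹) * y⁻¹⁻¹ = e := by group
    rwa [h2] at this

theorem exists_mul (hE : EData H C E (Subgroup.zpowers (a ^ p ^ (n - 1)))) (hC : Crit p H C)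
    (hHa : H = Subgroup.zpowers a) (ha : orderOf a = p ^ n) (hn : 1 ≤ n) {x : G} (hx : x ∈ C) :
    ∃ e ∈ E, ∃ h ∈ H, x = e * h := by
  have h1 : H ≤ Subgroup.normalizer (E : Set G) := hC.le.trans (hE.le_normalizer hC hHa ha hn)
  have h2 := Subgroup.coe_mul_of_right_le_normalizer_left E H h1
  have h3 : x ∈ ((E ⊔ H : Subgroup G) : Set G) := hE.prod hx
  rw [h2] at h3
  obtain ⟨e, he, h, hh, rfl⟩ := Set.mem_mul.mp h3
  exact ⟨e, he, h, hh, rfl⟩

/-- elements of `G` centralizing `E` and `H` lie in `H`. -/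
theorem mem_of_centralizes (hE : EData H C E (Subgroup.zpowers (a ^ p ^ (n - 1))))
    (hC : Crit p H C) (hHa : H = Subgroup.zpowers a) (ha : orderOf a = p ^ n) (hn : 1 ≤ n) {g : G}
    (h1 : ∀ e ∈ E, g * e = e * g) (h2 : ∀ h ∈ H, g * h = h * g) : g ∈ H := by
  apply hC.cc
  intro y hy
  obtain ⟨e, he, h, hh, rfl⟩ := hE.exists_mul hC hHa ha hn hy
  rw [← mul_assoc, h1 e he, mul_assoc, h2 h hh, mul_assoc]

theorem isExtraspecial [Finite G] (hE : EData H C E (Subgroup.zpowers (a ^ p ^ (n - 1))))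
    (hC : Crit p H C) (hHa : H = Subgroup.zpowers a) (ha : orderOf a = p ^ n) (hn : 1 ≤ n)
    (hG : IsPGroup p G) : Cfsg.IsExtraspecial p ↥E := by
  have hcard : Nat.card (Subgroup.zpowers (a ^ p ^ (n - 1))) = p := by
    rw [Nat.card_zpowers, orderOf_pow' a (pow_pos hp.out.pos _).ne', ha,
      Nat.gcd_eq_right (pow_dvd_pow p (Nat.sub_le n 1)), Nat.pow_div (Nat.sub_le n 1) hp.out.pos]
    have : n - (n - 1) = 1 := by omega
    rw [this, pow_one]
  have hcen1 : ∀ x ∈ E, (∀ y ∈ E, x * y = y * x) → x ∈ Subgroup.zpowers (a ^ p ^ (n - 1)) := by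
    intro x hx hxE
    have hxC := hE.leC hx
    apply hE.inter
    refine Subgroup.mem_inf.mpr ⟨hx, ?_⟩
    exact hE.mem_of_centralizes hC hHa ha hn hxE (hC.cent x hxC)
  apply isExtraspecial_of hG E _ hE.Z0le hcard hcen1
  · intro z hz y hy
    exact (hC.commute_of_mem (hC.Z0_le hHa hz) (hE.leC hy)).eq
  · intro x hx
    apply hE.inter
    exact Subgroup.mem_inf.mpr ⟨E.pow_mem hx p, hC.pow x (hE.leC hx)⟩
  · intro x hx y hy
    exact hC.comm_mem_Z0 hHa ha hn (hE.leC hy) (hE.leC hx)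
  · by_contra hcon
    push Not at hcon
    obtain ⟨x0, hx0C, hx0H⟩ := hC.ne
    apply hx0H
    obtain ⟨e, he, h, hh, rfl⟩ := hE.exists_mul hC hHa ha hn hx0C
    have heH : e ∈ H := hE.mem_of_centralizes hC hHa ha hn (fun y hy => hcon e he y hy)
      (hC.cent e (hE.leC he))
    exact H.mul_mem heH hh

end EData

namespace Crit

variable [hp : Fact p.Prime] {a : G} {n : ℕ}

omit hp in
/-- the case `|H| = p`: take `E = C`. -/
theorem eData_one (hC : Crit p H C) (hHa : H = Subgroup.zpowers a) (hn : n = 1) :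
    EData H C C (Subgroup.zpowers (a ^ p ^ (n - 1))) := by
  subst hn
  have : Subgroup.zpowers (a ^ p ^ (1 - 1)) = H := by
    rw [hHa]; simp
  rw [this]
  exact ⟨le_rfl, hC.le, inf_le_right, le_sup_left⟩

/-- `Ω₁(C)` for odd `p`. -/
def omegaSub (hC : Crit p H C) (hp2 : p ≠ 2) : Subgroup G where
  carrier := {x | x ∈ C ∧ x ^ p = 1}
  one_mem' := ⟨C.one_mem, one_pow _⟩
  mul_mem' := by
    rintro x y ⟨hx, hx1⟩ ⟨hy, hy1⟩
    refine ⟨C.mul_mem hx hy, ?_⟩
    set c := y * x * y⁻¹ * x⁻¹ with hc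
    have hcH : c ∈ H := hC.comm_mem hx hy
    have h1 : y * x = c * x * y := by rw [hc]; group
    rw [mul_pow_prime_of_comm hp.out hp2 h1 (hC.commute_of_mem hcH hx) (hC.commute_of_mem hcH hy)
      (hC.comm_pow hx hy), hx1, hy1, one_mul]
  inv_mem' := by
    rintro x ⟨hx, hx1⟩
    exact ⟨C.inv_mem hx, by rw [inv_pow, hx1, inv_one]⟩

theorem omegaSub_char (hC : Crit p H C) (hp2 : p ≠ 2) : (hC.omegaSub hp2).Characteristic := by
  have hCc := hC.cchar
  rw [Subgroup.characteristic_iff_map_le]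
  intro ϕ y hy
  obtain ⟨x, ⟨hx, hx1⟩, rfl⟩ := Subgroup.mem_map.mp hy
  refine ⟨(char_mem_iff C ϕ x).mpr hx, ?_⟩
  change (ϕ x) ^ p = 1
  rw [← map_pow, hx1, map_one]

theorem eData_odd [Finite G] (hC : Crit p H C) (hHa : H = Subgroup.zpowers a)
    (ha : orderOf a = p ^ n) (hn : 2 ≤ n) (hG : IsPGroup p G)
    (hsymp : ∀ A : Subgroup G, A.Characteristic → IsMulCommutative A → IsCyclic A)
    (hp2 : p ≠ 2) : EData H C (hC.omegaSub hp2) (Subgroup.zpowers (a ^ p ^ (n - 1))) := by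
  refine ⟨fun x hx => hx.1, ?_, ?_, ?_⟩
  · intro z hz
    exact ⟨hC.le (hC.Z0_le hHa hz), hC.Z0_pow ha (by omega) hz⟩
  · intro x hx
    obtain ⟨hxE, hxH⟩ := Subgroup.mem_inf.mp hx
    exact hC.mem_Z0 hHa ha (by omega) hxH hxE.2
  · intro x hx
    obtain ⟨h, hh, hxh⟩ := hC.pow_eq_pow hHa ha hn hG hsymp hx
    have h1 : x = (x * h⁻¹) * h := by group
    rw [h1]
    refine Subgroup.mul_mem _ (Subgroup.mem_sup_left ?_) (Subgroup.mem_sup_right hh)
    refine ⟨C.mul_mem hx (C.inv_mem (hC.le hh)), ?_⟩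
    have hc : Commute x h⁻¹ := (hC.commute_of_mem (H.inv_mem hh) hx).symm
    rw [hc.mul_pow, inv_pow, hxh, mul_inv_cancel]

theorem eData_max [Finite G] (hC : Crit p H C) (hHa : H = Subgroup.zpowers a)
    (ha : orderOf a = p ^ n) (hn : 2 ≤ n) (hG : IsPGroup p G)
    (hsymp : ∀ A : Subgroup G, A.Characteristic → IsMulCommutative A → IsCyclic A) :
    ∃ E : Subgroup G, EData H C E (Subgroup.zpowers (a ^ p ^ (n - 1))) := by
  classical
  set Z0 := Subgroup.zpowers (a ^ p ^ (n - 1)) with hZ0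
  have hn1 : 1 ≤ n := by omega
  let 𝒮 := {E : Subgroup G // E ≤ C ∧ Z0 ≤ E ∧ E ⊓ H ≤ Z0}
  have hne : Nonempty 𝒮 := ⟨⟨Z0, (hC.Z0_le hHa).trans hC.le, le_rfl, inf_le_left⟩⟩
  obtain ⟨⟨E, hEC, hZE, hEH⟩, hmax⟩ := Finite.exists_max (fun E : 𝒮 => Nat.card E.1)
  refine ⟨E, hEC, hZE, hEH, ?_⟩
  by_contra hcon
  obtain ⟨x, hxC, hxEH⟩ := SetLike.not_le_iff_exists.mp hcon
  obtain ⟨h, hh, hxh⟩ := hC.pow_eq_pow hHa ha hn hG hsymp hxC
  set x' := x * h⁻¹ with hx'
  have hx'C : x' ∈ C := C.mul_mem hxC (C.inv_mem (hC.le hh))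
  have hx'p : x' ^ p = 1 := by
    have hc : Commute x h⁻¹ := (hC.commute_of_mem (H.inv_mem hh) hxC).symm
    rw [hx', hc.mul_pow, inv_pow, hxh, mul_inv_cancel]
  have hx'EH : x' ∉ E ⊔ H := by
    intro hmem
    apply hxEH
    have h1 : x = x' * h := by rw [hx']; group
    rw [h1]
    exact Subgroup.mul_mem _ hmem (Subgroup.mem_sup_right hh)
  -- `C` normalizes `E`
  have hnorm : ∀ y ∈ C, ∀ e ∈ E, y * e * y⁻¹ ∈ E := by
    intro y hy e he
    have h1 : y * e * y⁻¹ = (y * e * y⁻¹ * e⁻¹) * e := by group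
    rw [h1]
    exact E.mul_mem (hZE (hC.comm_mem_Z0 hHa ha hn1 (hEC he) hy)) he
  have hx'N : Subgroup.zpowers x' ≤ Subgroup.normalizer (E : Set G) := by
    rw [Subgroup.zpowers_le, Subgroup.mem_normalizer_iff]
    intro e
    constructor
    · exact hnorm x' hx'C e
    · intro he
      have := hnorm x'⁻¹ (C.inv_mem hx'C) _ he
      have h2 : x'⁻¹ * (x' * e * x'⁻¹) * x'⁻¹⁻¹ = e := by group
      rwa [h2] at this
  set E1 := E ⊔ Subgroup.zpowers x' with hE1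
  have hE1C : E1 ≤ C := sup_le hEC (Subgroup.zpowers_le.mpr hx'C)
  have hE1H : E1 ⊓ H ≤ Z0 := by
    intro g hg
    obtain ⟨hgE1, hgH⟩ := Subgroup.mem_inf.mp hg
    have h3 : g ∈ ((E ⊔ Subgroup.zpowers x' : Subgroup G) : Set G) := hgE1
    rw [Subgroup.coe_mul_of_right_le_normalizer_left E _ hx'N] at h3
    obtain ⟨e, he, y, hy, rfl⟩ := Set.mem_mul.mp h3
    obtain ⟨j, rfl⟩ := exists_pow_of_mem_zpowers (orderOf_pos x') hy
    by_cases hpj : p ∣ j
    · obtain ⟨t, rfl⟩ := hpj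
      rw [pow_mul, hx'p, one_pow, mul_one] at hgH ⊢
      exact hEH (Subgroup.mem_inf.mpr ⟨he, hgH⟩)
    · exfalso
      apply hx'EH
      obtain ⟨N, hN⟩ := IsPGroup.iff_orderOf.mp hG x'
      have h4 := mem_zpowers_pow_of_not_dvd hp.out hN hpj
      have h5 : x' ^ j ∈ E ⊔ H := by
        have : x' ^ j = e⁻¹ * (e * x' ^ j) := by group
        rw [this]
        exact Subgroup.mul_mem _ (Subgroup.mem_sup_left (E.inv_mem he)) (Subgroup.mem_sup_right hgH)
      exact (Subgroup.zpowers_le.mpr h5) h4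
  have hcard := hmax ⟨E1, hE1C, hZE.trans le_sup_left, hE1H⟩
  have heq : E = E1 := Subgroup.eq_of_le_of_card_ge le_sup_left hcard
  apply hx'EH
  apply Subgroup.mem_sup_left
  rw [heq]
  exact Subgroup.mem_sup_right (Subgroup.mem_zpowers x')

end Crit

end Cfsg.Agent.Lib.Helper89_Symplectic
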