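import Mathlib
import Cfsg.Prelude.Def_Transfer
import Cfsg.Prelude.Def_CaseTheorems
import Cfsg.Agent.S0110
import Cfsg.Agent.S3761
import Cfsg.Agent.Lib.Helper63_PGroup
import Cfsg.Agent.Lib.Helper89_SympBasics
import Cfsg.Agent.Lib.Helper89_Symplectic
import Cfsg.Agent.Lib.Helper89_SympE

set_option autoImplicit false

namespace Cfsg.Agent.Lib.Helper89_Symplectic

open scoped commutatorElement
open Cfsg.Agent.Lib.Helper89_SympBasics

variable {G : Type*} [Group G] {p : ℕ} {H C : Subgroup G}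

namespace Crit

variable [hp : Fact p.Prime] {a : G} {n : ℕ}

theorem card_Z0 (_hC : Crit p H C) (ha : orderOf a = p ^ n) (hn : 1 ≤ n) :
    Nat.card (Subgroup.zpowers (a ^ p ^ (n - 1))) = p := by
  rw [Nat.card_zpowers, orderOf_pow' a (pow_pos hp.out.pos _).ne', ha,
    Nat.gcd_eq_right (pow_dvd_pow p (Nat.sub_le n 1)), Nat.pow_div (Nat.sub_le n 1) hp.out.pos]
  have : n - (n - 1) = 1 := by omega
  rw [this, pow_one]

omit hp in
theorem H_normal (hC : Crit p H C) : H.Normal := by
  have := hC.hchar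
  infer_instance

theorem Z0_normal (hC : Crit p H C) (hHa : H = Subgroup.zpowers a) (ha : orderOf a = p ^ n)
    (hn : 1 ≤ n) : (Subgroup.zpowers (a ^ p ^ (n - 1))).Normal := by
  have hHn := hC.H_normal
  refine ⟨fun z hz g => ?_⟩
  apply hC.mem_Z0 hHa ha hn (hHn.conj_mem z (hC.Z0_le hHa hz) g)
  rw [conj_pow, hC.Z0_pow ha hn hz, mul_one, mul_inv_cancel]

theorem Z0_central [Finite G] (hC : Crit p H C) (hHa : H = Subgroup.zpowers a)
    (ha : orderOf a = p ^ n) (hn : 1 ≤ n) (hG : IsPGroup p G) {z : G}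
    (hz : z ∈ Subgroup.zpowers (a ^ p ^ (n - 1))) (g : G) : g * z = z * g := by
  have hN := hC.Z0_normal hHa ha hn
  have := Cfsg.Agent.Lib.Helper63_PGroup.IsPGroup.le_center_of_normal_of_card_eq hG
    (Subgroup.zpowers (a ^ p ^ (n - 1))) (hC.card_Z0 ha hn)
  exact Subgroup.mem_center_iff.mp (this hz) g

end Crit

namespace EData

variable [hp : Fact p.Prime] {a : G} {n : ℕ} {E : Subgroup G}

theorem comm_mem_Z0' [Finite G] (hE : EData H C E (Subgroup.zpowers (a ^ p ^ (n - 1))))
    (hC : Crit p H C) (hHa : H = Subgroup.zpowers a) (ha : orderOf a = p ^ n) (hn : 1 ≤ n)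
    (hG : IsPGroup p G) (g : G) {e : G} (he : e ∈ E) :
    g * e * g⁻¹ * e⁻¹ ∈ Subgroup.zpowers (a ^ p ^ (n - 1)) := by
  have heC := hE.leC he
  set c := g * e * g⁻¹ * e⁻¹ with hc
  have hcH : c ∈ H := hC.comm e heC g
  apply hC.mem_Z0 hHa ha hn hcH
  have hepZ : e ^ p ∈ Subgroup.zpowers (a ^ p ^ (n - 1)) :=
    hE.inter (Subgroup.mem_inf.mpr ⟨E.pow_mem he p, hC.pow e heC⟩)
  have h1 : g * e * g⁻¹ = c * e := by rw [hc]; group
  have h2 : (g * e * g⁻¹) ^ p = e ^ p := by
    rw [conj_pow, hC.Z0_central hHa ha hn hG hepZ g, mul_inv_cancel_right]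
  rw [h1, (hC.commute_of_mem hcH heC).mul_pow] at h2
  exact mul_eq_right.mp h2

theorem commutator_le [Finite G] (hE : EData H C E (Subgroup.zpowers (a ^ p ^ (n - 1))))
    (hC : Crit p H C) (hHa : H = Subgroup.zpowers a) (ha : orderOf a = p ^ n) (hn : 1 ≤ n)
    (hG : IsPGroup p G) : ⁅(⊤ : Subgroup G), E⁆ ≤ E ⊓ Subgroup.centralizer (E : Set G) := by
  rw [Subgroup.commutator_le]
  intro g _ e he
  have h1 := hE.comm_mem_Z0' hC hHa ha hn hG g he
  rw [commutatorElement_def]
  refine Subgroup.mem_inf.mpr ⟨hE.Z0le h1, ?_⟩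
  rw [Subgroup.mem_centralizer_iff]
  intro y _
  exact hC.Z0_central hHa ha hn hG h1 y

theorem sup_centralizer [Finite G] (hE : EData H C E (Subgroup.zpowers (a ^ p ^ (n - 1))))
    (hC : Crit p H C) (hHa : H = Subgroup.zpowers a) (ha : orderOf a = p ^ n) (hn : 1 ≤ n)
    (hG : IsPGroup p G) : E ⊔ Subgroup.centralizer (E : Set G) = ⊤ :=
  Cfsg.Agent.S0110.result hG E (hE.isExtraspecial hC hHa ha hn hG)
    (hE.commutator_le hC hHa ha hn hG)

omit hp in
theorem H_le_centralizer (hE : EData H C E (Subgroup.zpowers (a ^ p ^ (n - 1))))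
    (hC : Crit p H C) : H ≤ Subgroup.centralizer (E : Set G) := by
  intro h hh
  rw [Subgroup.mem_centralizer_iff]
  intro e he
  exact hC.cent e (hE.leC he) h hh

theorem mem_H_of_mem_centralizer (hE : EData H C E (Subgroup.zpowers (a ^ p ^ (n - 1))))
    (hC : Crit p H C) (hHa : H = Subgroup.zpowers a) (ha : orderOf a = p ^ n) (hn : 1 ≤ n)
    {r : G} (hr : r ∈ Subgroup.centralizer (E : Set G)) (hrH : ∀ h ∈ H, r * h = h * r) :
    r ∈ H :=
  hE.mem_of_centralizes hC hHa ha hn
    (fun e he => (Subgroup.mem_centralizer_iff.mp hr e he).symm) hrH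

end EData

/-- a characteristic subgroup `T` of a group of symplectic type with a self-centralizing cyclic
normal subgroup `H` is `H` itself, or `p = 2` and `T` is dihedral, quaternion or quasidihedral. -/
theorem selfcentralizing_char [Finite G] [hp : Fact p.Prime] (hG : IsPGroup p G)
    (hsymp : ∀ A : Subgroup G, A.Characteristic → IsMulCommutative A → IsCyclic A)
    (T H : Subgroup G) [hT : T.Characteristic] [hH : H.Normal] (hHT : H ≤ T) (hcyc : IsCyclic H)
    (hsc : ∀ t ∈ T, (∀ h ∈ H, t * h = h * t) → t ∈ H) :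
    T ≤ H ∨ (p = 2 ∧ Nat.card T = 2 * Nat.card H ∧
      ((∃ m : ℕ, Nonempty (↥T ≃* DihedralGroup m)) ∨
        (∃ m : ℕ, Nonempty (↥T ≃* QuaternionGroup m)) ∨ Cfsg.IsQuasiDihedral ↥T)) := by
  classical
  by_cases hab : IsMulCommutative ↥T
  · left
    intro t ht
    apply hsc t ht
    intro h hh
    have := hab.is_comm.comm (⟨t, ht⟩ : T) ⟨h, hHT hh⟩
    exact congrArg Subtype.val this
  · obtain ⟨n, hn⟩ := (hG.to_subgroup H).exists_card_eq
    have hUcard : Nat.card (H.subgroupOf T) = p ^ n := by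
      rw [Nat.card_congr (Subgroup.subgroupOfEquivOfLe hHT).toEquiv, hn]
    have hUcyc : IsCyclic (H.subgroupOf T) :=
      isCyclic_of_surjective (Subgroup.subgroupOfEquivOfLe hHT).symm
        (Subgroup.subgroupOfEquivOfLe hHT).symm.surjective
    have hUC : Subgroup.centralizer ((H.subgroupOf T : Subgroup T) : Set T) = H.subgroupOf T := by
      ext ⟨t, ht⟩
      rw [Subgroup.mem_centralizer_iff, Subgroup.mem_subgroupOf]
      constructor
      · intro h
        apply hsc t ht
        intro y hy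
        have := h ⟨y, hHT hy⟩ (Subgroup.mem_subgroupOf.mpr hy)
        exact (congrArg Subtype.val this).symm
      · intro htH u hu
        apply Subtype.ext
        have hab' : IsMulCommutative H := by
          have := hcyc
          exact ⟨⟨fun x y => (IsCyclic.commGroup (α := H)).mul_comm x y⟩⟩
        have := hab'.is_comm.comm (⟨u.1, Subgroup.mem_subgroupOf.mp hu⟩ : H) ⟨t, htH⟩
        exact congrArg (fun y : H => (y : G)) this
    rcases Cfsg.Agent.S3761.result (hG.to_subgroup T) hab (H.subgroupOf T) hUcyc n hUcard hUC with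
      ⟨hp2, hcard, hiso⟩ | ⟨-, hel, hVcard, hVchar⟩
    · right
      refine ⟨hp2, ?_, hiso⟩
      rw [hcard, hn, hp2, pow_succ, mul_comm]
    · exfalso
      set V := Cfsg.omegaOne p (Subgroup.centralizer
        (Cfsg.powerClosure p 1 (H.subgroupOf T) : Set T)) with hV
      have hV'char : (V.map T.subtype).Characteristic := inferInstance
      have hV'ab : IsMulCommutative (V.map T.subtype) := by
        refine ⟨⟨?_⟩⟩
        rintro ⟨x, hx⟩ ⟨y, hy⟩
        apply Subtype.ext
        obtain ⟨x', hx', rfl⟩ := Subgroup.mem_map.mp hx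
        obtain ⟨y', hy', rfl⟩ := Subgroup.mem_map.mp hy
        have := hel.1.is_comm.comm (⟨x', hx'⟩ : V) ⟨y', hy'⟩
        have h2 := congrArg (fun t : V => ((t : T) : G)) this
        exact h2
      have hV'cyc := hsymp _ hV'char hV'ab
      have hV'card : Nat.card (V.map T.subtype) = p ^ 2 := by
        rw [Subgroup.card_map_of_injective (Subgroup.subtype_injective T), hVcard]
      have hV'pow : ∀ v : V.map T.subtype, v ^ p = 1 := by
        rintro ⟨v, hv⟩
        obtain ⟨v', hv', rfl⟩ := Subgroup.mem_map.mp hv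
        apply Subtype.ext
        have := hel.2 v' hv'
        have h2 := congrArg (fun t : T => (t : G)) this
        simpa using h2
      have := card_le_of_isCyclic_of_pow hp.out.pos hV'pow
      rw [hV'card] at this
      have h1 := hp.out.one_lt
      nlinarith

end Cfsg.Agent.Lib.Helper89_Symplectic
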