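import Mathlib
import Cfsg.Prelude.Def_CaseTheorems

set_option autoImplicit false

namespace Cfsg.Agent.Lib.Helper89_SympDQ

theorem dihedral_central_sq {m : ℕ} (x : DihedralGroup m) (hx : ∀ s, x * s = s * x) :
    x ^ 2 = 1 := by
  cases x with
  | r k =>
    have h := hx (DihedralGroup.sr 0)
    rw [DihedralGroup.r_mul_sr, DihedralGroup.sr_mul_r] at h
    have h2 : (0 : ZMod m) - k = 0 + k := by
      injection h
    rw [pow_two, DihedralGroup.r_mul_r, DihedralGroup.one_def]
    congr 1
    have : k + k = (0 + k) - ((0 : ZMod m) - k) := by ring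
    rw [this, h2, sub_self]
  | sr k =>
    rw [pow_two, DihedralGroup.sr_mul_sr, sub_self, DihedralGroup.one_def]

theorem quaternion_central_sq {m : ℕ} (hm : 2 ≤ m) (x : QuaternionGroup m)
    (hx : ∀ s, x * s = s * x) : x ^ 2 = 1 := by
  cases x with
  | a k =>
    have h := hx (QuaternionGroup.xa 0)
    rw [QuaternionGroup.a_mul_xa, QuaternionGroup.xa_mul_a] at h
    have h2 : (0 : ZMod (2 * m)) - k = 0 + k := by
      injection h
    rw [pow_two, QuaternionGroup.a_mul_a, QuaternionGroup.one_def]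
    congr 1
    have : k + k = (0 + k) - ((0 : ZMod (2 * m)) - k) := by ring
    rw [this, h2, sub_self]
  | xa k =>
    exfalso
    have h := hx (QuaternionGroup.a 1)
    rw [QuaternionGroup.xa_mul_a, QuaternionGroup.a_mul_xa] at h
    have h2 : k + 1 = k - 1 := by
      injection h
    have h3 : ((2 : ℕ) : ZMod (2 * m)) = 0 := by
      have : (2 : ZMod (2 * m)) = (k + 1) - (k - 1) := by ring
      rw [Nat.cast_ofNat, this, h2, sub_self]
    rw [ZMod.natCast_eq_zero_iff] at h3
    have := Nat.le_of_dvd (by norm_num) h3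
    omega

theorem quasiDihedral_central_sq {S : Type*} [Group S] (h : Cfsg.IsQuasiDihedral S) (i : S)
    (hi : ∀ s, i * s = s * i) : i ^ 2 = 1 := by
  obtain ⟨n, hn3, hcard, x, y, hx, hy, hyx⟩ := h
  have hfin : Finite S := Nat.finite_of_card_ne_zero (by rw [hcard]; positivity)
  have hXcard : Nat.card (Subgroup.zpowers x) = 2 ^ n := by rw [Nat.card_zpowers, hx]
  have hidx : (Subgroup.zpowers x).index = 2 := by
    have h1 := (Subgroup.zpowers x).index_mul_card
    rw [hXcard, hcard, pow_succ] at h1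
    have h2 : 0 < 2 ^ n := by positivity
    have h3 : (Subgroup.zpowers x).index * 2 ^ n = 2 * 2 ^ n := by rw [h1]; ring
    exact Nat.eq_of_mul_eq_mul_right h2 h3
  obtain ⟨d, hd⟩ : ∃ d, n = d + 3 := ⟨n - 3, by omega⟩
  subst hd
  have hpow : (2 : ℕ) ^ (d + 3 - 1) - 1 = 2 * (2 ^ (d + 1) - 1) + 1 := by
    have h1 : d + 3 - 1 = (d + 1) + 1 := by omega
    have h2 : 1 ≤ 2 ^ (d + 1) := Nat.one_le_two_pow
    rw [h1, pow_succ]
    omega
  by_cases hiX : i ∈ Subgroup.zpowers x
  · have h1 : y * i * y⁻¹ = i := by rw [← hi y, mul_inv_cancel_right]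
    have h2 : y * i * y⁻¹ = i ^ (2 ^ (d + 3 - 1) - 1) := by
      obtain ⟨k, rfl⟩ := Subgroup.mem_zpowers_iff.mp hiX
      rw [← conj_zpow, hyx, ← zpow_natCast, ← zpow_natCast, ← zpow_mul, ← zpow_mul, mul_comm]
    rw [h1, hpow, pow_succ, pow_mul] at h2
    have h3 : (i ^ 2) ^ (2 ^ (d + 1) - 1) = 1 := by
      have := h2.symm
      rwa [mul_eq_right] at this
    have h4 : (i ^ 2) ^ (2 ^ (d + 3)) = 1 := by
      obtain ⟨k, rfl⟩ := Subgroup.mem_zpowers_iff.mp hiX
      rw [← hx, ← pow_mul, mul_comm, pow_mul, zpow_pow_orderOf, one_pow]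
    have h5 := orderOf_dvd_of_pow_eq_one h3
    have h6 := orderOf_dvd_of_pow_eq_one h4
    have hcop : Nat.Coprime (2 ^ (d + 1) - 1) (2 ^ (d + 3)) := by
      apply Nat.Coprime.pow_right
      apply Odd.coprime_two_right
      have h2 : 1 ≤ 2 ^ (d + 1) := Nat.one_le_two_pow
      refine ⟨2 ^ d - 1, ?_⟩
      have h7 : 1 ≤ 2 ^ d := Nat.one_le_two_pow
      rw [pow_succ]
      omega
    have h7 : orderOf (i ^ 2) = 1 := Nat.eq_one_of_dvd_coprimes hcop h5 h6
    exact orderOf_eq_one_iff.mp h7
  · exfalso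
    have hyc : y * x = x * y := by
      by_cases hyX : y ∈ Subgroup.zpowers x
      · obtain ⟨k, rfl⟩ := Subgroup.mem_zpowers_iff.mp hyX
        exact ((Commute.refl x).zpow_left k).eq
      · have h1 : i * y ∈ Subgroup.zpowers x :=
          (Subgroup.mul_mem_iff_of_index_two hidx).mpr ⟨fun h => absurd h hiX, fun h => absurd h hyX⟩
        obtain ⟨k, hk⟩ := Subgroup.mem_zpowers_iff.mp h1
        have h2 : y = i⁻¹ * x ^ k := by rw [hk]; group
        have hic : Commute i⁻¹ x := (Commute.inv_left (hi x))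
        rw [h2]
        exact (hic.mul_left ((Commute.refl x).zpow_left k)).eq
    have h1 : y * x * y⁻¹ = x := by rw [hyc, mul_inv_cancel_right]
    rw [h1, hpow, pow_succ] at hyx
    have h2 : x ^ (2 * (2 ^ (d + 1) - 1)) = 1 := by
      have := hyx
      rwa [eq_comm, mul_eq_right] at this
    have h3 := orderOf_dvd_of_pow_eq_one h2
    rw [hx] at h3
    have h4 : 1 ≤ 2 ^ d := Nat.one_le_two_pow
    have h5 : 2 ^ (d + 1) = 2 * 2 ^ d := by rw [pow_succ]; ring
    have h6 : 2 ^ (d + 3) = 8 * 2 ^ d := by rw [pow_add]; ring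
    have h7 := Nat.le_of_dvd (by omega) h3
    omega

/-- central elements of dihedral, generalized quaternion (of order at least `8`) and quasidihedral
groups have order at most two. -/
theorem central_sq_eq_one {S : Type*} [Group S]
    (h : (∃ m : ℕ, Nonempty (S ≃* DihedralGroup m)) ∨
      (∃ m : ℕ, Nonempty (S ≃* QuaternionGroup m)) ∨ Cfsg.IsQuasiDihedral S)
    (hcard : 8 ≤ Nat.card S) (i : S) (hi : ∀ s, i * s = s * i) : i ^ 2 = 1 := by
  rcases h with ⟨m, ⟨f⟩⟩ | ⟨m, ⟨f⟩⟩ | h
  · have h1 : (f i) ^ 2 = 1 := by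
      apply dihedral_central_sq
      intro s
      obtain ⟨t, rfl⟩ := f.surjective s
      rw [← map_mul, ← map_mul, hi t]
    rw [← map_pow] at h1
    exact f.injective (by rw [h1, map_one])
  · have hm : 2 ≤ m := by
      by_cases hm0 : m = 0
      · exfalso
        subst hm0
        have hfS : Finite S := Nat.finite_of_card_ne_zero (by omega)
        have hfQ : Finite (QuaternionGroup 0) := Finite.of_equiv S f.toEquiv
        have hinj : Function.Injective
            (fun k : ZMod (2 * 0) => (QuaternionGroup.a k : QuaternionGroup 0)) := by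
          intro k l h
          injection h
        have hinf : Infinite (ZMod (2 * 0)) := (inferInstance : Infinite ℤ)
        have := Finite.of_injective _ hinj
        exact not_finite (ZMod (2 * 0))
      · have : NeZero m := ⟨hm0⟩
        have h1 : Nat.card S = 4 * m := by
          rw [Nat.card_congr f.toEquiv, Nat.card_eq_fintype_card, QuaternionGroup.card]
        omega
    have h1 : (f i) ^ 2 = 1 := by
      apply quaternion_central_sq hm
      intro s
      obtain ⟨t, rfl⟩ := f.surjective s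
      rw [← map_mul, ← map_mul, hi t]
    rw [← map_pow] at h1
    exact f.injective (by rw [h1, map_one])
  · exact quasiDihedral_central_sq h i hi

end Cfsg.Agent.Lib.Helper89_SympDQ
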