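import Mathlib
import Cfsg.Prelude.Def_Transfer
import Cfsg.Prelude.Def_CaseTheorems
import Cfsg.Agent.Lib.Helper89_SympBasics
import Cfsg.Agent.Lib.Helper89_Symplectic
import Cfsg.Agent.Lib.Helper89_SympE
import Cfsg.Agent.Lib.Helper89_SympR
import Cfsg.Agent.Lib.Helper89_SympDQ
import Cfsg.Agent.Lib.Helper4_CyclicNormal
import Cfsg.Agent.Lib.Helper4_CyclicNormal2

set_option autoImplicit false

namespace Cfsg.Agent.Lib.Helper89_Symplectic

open scoped commutatorElement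
open Cfsg.Agent.Lib.Helper89_SympBasics

variable {G : Type*} [Group G] {H C : Subgroup G}

namespace Crit

/-- elements of `C` of order dividing `4` (for `p = 2`). -/
def fourSub (hC : Crit 2 H C) : Subgroup G where
  carrier := {x | x ∈ C ∧ x ^ 4 = 1}
  one_mem' := ⟨C.one_mem, one_pow _⟩
  mul_mem' := by
    rintro x y ⟨hx, hx4⟩ ⟨hy, hy4⟩
    refine ⟨C.mul_mem hx hy, ?_⟩
    obtain ⟨d, hdH, hd2, hd⟩ := hC.mul_pow hx hy
    have hx2 := hC.pow x hx
    have hy2 := hC.pow y hy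
    have h4 : (4 : ℕ) = 2 * 2 := rfl
    rw [h4, pow_mul, hd, ((hC.commute_H hdH hy2).mul_left (hC.commute_H hx2 hy2)).mul_pow,
      (hC.commute_H hdH hx2).mul_pow, hd2, ← pow_mul, ← pow_mul, ← h4, hx4, hy4, one_mul, one_mul]
  inv_mem' := by
    rintro x ⟨hx, hx4⟩
    exact ⟨C.inv_mem hx, by rw [inv_pow, hx4, inv_one]⟩

theorem fourSub_char (hC : Crit 2 H C) : hC.fourSub.Characteristic := by
  have hCc := hC.cchar
  rw [Subgroup.characteristic_iff_map_le]
  intro ϕ y hy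
  obtain ⟨x, ⟨hx, hx1⟩, rfl⟩ := Subgroup.mem_map.mp hy
  refine ⟨(char_mem_iff C ϕ x).mpr hx, ?_⟩
  change (ϕ x) ^ 4 = 1
  rw [← map_pow, hx1, map_one]

end Crit

namespace EData

variable {a : G} {n : ℕ} {E : Subgroup G}

/-- the element of order four of `H`. -/
theorem four_pow (ha : orderOf a = 2 ^ n) (hn : 2 ≤ n) : (a ^ 2 ^ (n - 2)) ^ 4 = 1 := by
  have h4 : (4 : ℕ) = 2 ^ 2 := rfl
  rw [← pow_mul, h4, ← pow_add, Nat.sub_add_cancel hn, ← ha, pow_orderOf_eq_one]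

theorem four_sq (hn : 2 ≤ n) : (a ^ 2 ^ (n - 2)) ^ 2 = a ^ 2 ^ (n - 1) := by
  rw [← pow_mul, ← pow_succ]
  congr 2
  omega

theorem four_sq_ne_one (ha : orderOf a = 2 ^ n) (hn : 2 ≤ n) : (a ^ 2 ^ (n - 2)) ^ 2 ≠ 1 := by
  rw [four_sq hn]
  apply pow_ne_one_of_lt_orderOf (by positivity)
  rw [ha]
  exact Nat.pow_lt_pow_right (by norm_num) (by omega)

/-- In the `p = 2` case, the centralizer of `Ω₂(C)` is `H`. -/
theorem centralizer_fourSub_le [Finite G]
    (hE : EData H C E (Subgroup.zpowers (a ^ 2 ^ (n - 1)))) (hC : Crit 2 H C)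
    (hHa : H = Subgroup.zpowers a) (ha : orderOf a = 2 ^ n) (hn : 2 ≤ n) (hG : IsPGroup 2 G)
    (hsymp : ∀ A : Subgroup G, A.Characteristic → IsMulCommutative A → IsCyclic A) :
    Subgroup.centralizer (hC.fourSub : Set G) ≤ H := by
  have hn1 : 1 ≤ n := by omega
  have hFchar := hC.fourSub_char
  have hHn := hC.H_normal
  set T := Subgroup.centralizer (hC.fourSub : Set G) with hT
  have hTchar : T.Characteristic := inferInstance
  have hHT : H ≤ T := by
    intro h hh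
    rw [hT, Subgroup.mem_centralizer_iff]
    intro x hx
    exact hC.cent x hx.1 h hh
  have hcyc : IsCyclic H := by
    rw [hHa]; infer_instance
  have hEF : E ≤ hC.fourSub := by
    intro e he
    refine ⟨hE.leC he, ?_⟩
    have h1 : e ^ 2 ∈ Subgroup.zpowers (a ^ 2 ^ (n - 1)) :=
      hE.inter (Subgroup.mem_inf.mpr ⟨E.pow_mem he 2, hC.pow e (hE.leC he)⟩)
    have h4 : (4 : ℕ) = 2 * 2 := rfl
    rw [h4, pow_mul]
    exact hC.Z0_pow ha hn1 h1
  have hsc : ∀ t ∈ T, (∀ h ∈ H, t * h = h * t) → t ∈ H := by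
    intro t ht hth
    apply hE.mem_of_centralizes hC hHa ha hn1 _ hth
    intro e he
    exact (Subgroup.mem_centralizer_iff.mp ht e (hEF he)).symm
  rcases selfcentralizing_char hG hsymp T H hHT hcyc hsc with h | ⟨-, hcard, hiso⟩
  · exact h
  · exfalso
    have hiH : a ^ 2 ^ (n - 2) ∈ H := by
      rw [hHa]; exact Subgroup.pow_mem _ (Subgroup.mem_zpowers a) _
    have hiF : a ^ 2 ^ (n - 2) ∈ hC.fourSub := ⟨hC.le hiH, four_pow ha hn⟩
    have hcard8 : 8 ≤ Nat.card T := by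
      rw [hcard, hHa, Nat.card_zpowers, ha]
      have : 2 ^ 2 ≤ 2 ^ n := Nat.pow_le_pow_right (by norm_num) hn
      omega
    have := Cfsg.Agent.Lib.Helper89_SympDQ.central_sq_eq_one hiso hcard8
      (⟨a ^ 2 ^ (n - 2), hHT hiH⟩ : T) (by
        rintro ⟨s, hs⟩
        apply Subtype.ext
        exact Subgroup.mem_centralizer_iff.mp hs _ hiF)
    have h2 := congrArg (fun t : T => (t : G)) this
    simp only [Subgroup.coe_pow, Subgroup.coe_one] at h2
    exact four_sq_ne_one ha hn h2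

/-- elements of `H` of order dividing four are powers of `i = a^(2^(n-2))`. -/
theorem mem_zpowers_four (ha : orderOf a = 2 ^ n) (hn : 2 ≤ n) {h : G}
    (hh : h ∈ Subgroup.zpowers a) (h4 : h ^ 4 = 1) : h ∈ Subgroup.zpowers (a ^ 2 ^ (n - 2)) :=
  mem_zpowers_pow_sub Nat.prime_two ha (k := 2) hn hh h4

/-- (R1) an element of `C_G(E)` centralizing `i` lies in `H`. -/
theorem mem_H_of_comm_four [Finite G]
    (hE : EData H C E (Subgroup.zpowers (a ^ 2 ^ (n - 1)))) (hC : Crit 2 H C)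
    (hHa : H = Subgroup.zpowers a) (ha : orderOf a = 2 ^ n) (hn : 2 ≤ n) (hG : IsPGroup 2 G)
    (hsymp : ∀ A : Subgroup G, A.Characteristic → IsMulCommutative A → IsCyclic A)
    {r : G} (hr : r ∈ Subgroup.centralizer (E : Set G))
    (hri : r * a ^ 2 ^ (n - 2) = a ^ 2 ^ (n - 2) * r) : r ∈ H := by
  have hn1 : 1 ≤ n := by omega
  apply hE.centralizer_fourSub_le hC hHa ha hn hG hsymp
  rw [Subgroup.mem_centralizer_iff]
  rintro x ⟨hxC, hx4⟩
  obtain ⟨e, he, h, hh, rfl⟩ := hE.exists_mul hC hHa ha hn1 hxC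
  have hec : Commute e h := (hC.commute_of_mem hh (hE.leC he)).symm
  have he4 : e ^ 4 = 1 := by
    have h1 : e ^ 2 ∈ Subgroup.zpowers (a ^ 2 ^ (n - 1)) :=
      hE.inter (Subgroup.mem_inf.mpr ⟨E.pow_mem he 2, hC.pow e (hE.leC he)⟩)
    have h4 : (4 : ℕ) = 2 * 2 := rfl
    rw [h4, pow_mul]
    exact hC.Z0_pow ha hn1 h1
  rw [hec.mul_pow, he4, one_mul] at hx4
  have hhi := mem_zpowers_four ha hn (hHa ▸ hh) hx4
  obtain ⟨k, rfl⟩ := Subgroup.mem_zpowers_iff.mp hhi
  have h1 : Commute r e := (Subgroup.mem_centralizer_iff.mp hr e he).symm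
  have h2 : Commute r ((a ^ 2 ^ (n - 2)) ^ k) := (show Commute r (a ^ 2 ^ (n - 2)) from hri).zpow_right k
  exact ((h1.mul_right h2).eq).symm

/-- (R2) every element of `G` centralizes or inverts `i`. -/
theorem conj_four [Finite G]
    (_hE : EData H C E (Subgroup.zpowers (a ^ 2 ^ (n - 1)))) (hC : Crit 2 H C)
    (hHa : H = Subgroup.zpowers a) (ha : orderOf a = 2 ^ n) (hn : 2 ≤ n) (hG : IsPGroup 2 G)
    (g : G) : g * a ^ 2 ^ (n - 2) * g⁻¹ = a ^ 2 ^ (n - 2) ∨
      g * a ^ 2 ^ (n - 2) * g⁻¹ = (a ^ 2 ^ (n - 2))⁻¹ := by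
  have hn1 : 1 ≤ n := by omega
  have hHn := hC.H_normal
  set i := a ^ 2 ^ (n - 2) with hi
  have hiH : i ∈ H := by
    rw [hHa]; exact Subgroup.pow_mem _ (Subgroup.mem_zpowers a) _
  have hi2 : i ^ 2 = a ^ 2 ^ (n - 1) := four_sq hn
  have hi2Z : i ^ 2 ∈ Subgroup.zpowers (a ^ 2 ^ (n - 1)) := by
    rw [hi2]; exact Subgroup.mem_zpowers _
  have hgi : g * i * g⁻¹ ∈ H := hHn.conj_mem i hiH g
  set c := g * i * g⁻¹ * i⁻¹ with hc
  have hcH : c ∈ H := H.mul_mem hgi (H.inv_mem hiH)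
  have hc2 : c ^ 2 = 1 := by
    rw [hc, (hC.commute_H hgi (H.inv_mem hiH)).mul_pow, conj_pow, inv_pow,
      hC.Z0_central hHa ha hn1 hG hi2Z g, mul_inv_cancel_right, mul_inv_cancel]
  have hcZ := hC.mem_Z0 hHa ha hn1 hcH hc2
  obtain ⟨k, hk⟩ := Subgroup.mem_zpowers_iff.mp hcZ
  have hz2 : (a ^ 2 ^ (n - 1)) ^ 2 = 1 := hC.Z0_pow ha hn1 (Subgroup.mem_zpowers _)
  have h1 : g * i * g⁻¹ = c * i := by rw [hc]; group
  rcases Int.even_or_odd k with ⟨m, hm⟩ | ⟨m, hm⟩
  · left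
    have : c = 1 := by
      rw [← hk, hm, ← two_mul, zpow_mul, zpow_ofNat, hz2, one_zpow]
    rw [h1, this, one_mul]
  · right
    have : c = i ^ 2 := by
      rw [← hk, hm, zpow_add, zpow_mul, zpow_ofNat, hz2, one_zpow, one_mul, zpow_one, hi2]
    rw [h1, this]
    have h4 : i ^ 4 = 1 := four_pow ha hn
    rw [eq_inv_iff_mul_eq_one, ← pow_succ, ← pow_succ]
    exact h4

/-- (R3) `H` has index at most two in `C_G(E)`. -/
theorem mul_mem_H [Finite G]
    (hE : EData H C E (Subgroup.zpowers (a ^ 2 ^ (n - 1)))) (hC : Crit 2 H C)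
    (hHa : H = Subgroup.zpowers a) (ha : orderOf a = 2 ^ n) (hn : 2 ≤ n) (hG : IsPGroup 2 G)
    (hsymp : ∀ A : Subgroup G, A.Characteristic → IsMulCommutative A → IsCyclic A)
    {r₁ r₂ : G} (hr₁ : r₁ ∈ Subgroup.centralizer (E : Set G))
    (hr₂ : r₂ ∈ Subgroup.centralizer (E : Set G)) (h₁ : r₁ ∉ H) (h₂ : r₂ ∉ H) : r₁ * r₂ ∈ H := by
  set i := a ^ 2 ^ (n - 2) with hi
  have key : ∀ r ∈ Subgroup.centralizer (E : Set G), r ∉ H → r * i * r⁻¹ = i⁻¹ := by
    intro r hr hrH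
    rcases hE.conj_four hC hHa ha hn hG r with h | h
    · exfalso
      apply hrH
      apply hE.mem_H_of_comm_four hC hHa ha hn hG hsymp hr
      calc r * a ^ 2 ^ (n - 2) = (r * a ^ 2 ^ (n - 2) * r⁻¹) * r := by group
        _ = a ^ 2 ^ (n - 2) * r := by rw [h]
    · exact h
  apply hE.mem_H_of_comm_four hC hHa ha hn hG hsymp (Subgroup.mul_mem _ hr₁ hr₂)
  have h3 : r₁ * r₂ * i * (r₁ * r₂)⁻¹ = i := by
    have : r₁ * r₂ * i * (r₁ * r₂)⁻¹ = r₁ * (r₂ * i * r₂⁻¹) * r₁⁻¹ := by group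
    rw [this, key r₂ hr₂ h₂, ← conj_inv, key r₁ hr₁ h₁, inv_inv]
  rw [← hi]
  nth_rewrite 2 [← h3]
  group

open Cfsg.Agent.Lib.Helper4_CyclicNormal Cfsg.Agent.Lib.Helper4_CyclicNormal2 in
/-- the structure of `R = C_G(E)` for `p = 2`. -/
theorem R_structure [Finite G]
    (hE : EData H C E (Subgroup.zpowers (a ^ 2 ^ (n - 1)))) (hC : Crit 2 H C)
    (hHa : H = Subgroup.zpowers a) (ha : orderOf a = 2 ^ n) (hn : 2 ≤ n) (hG : IsPGroup 2 G)
    (hsymp : ∀ A : Subgroup G, A.Characteristic → IsMulCommutative A → IsCyclic A) :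
    Subgroup.centralizer (E : Set G) ≤ H ∨
      (Nat.card (Subgroup.centralizer (E : Set G)) = 2 ^ (n + 1) ∧
        ((∃ m : ℕ, Nonempty (↥(Subgroup.centralizer (E : Set G)) ≃* DihedralGroup m)) ∨
          (∃ m : ℕ, Nonempty (↥(Subgroup.centralizer (E : Set G)) ≃* QuaternionGroup m)) ∨
          Cfsg.IsQuasiDihedral ↥(Subgroup.centralizer (E : Set G)))) := by
  classical
  have hn1 : 1 ≤ n := by omega
  by_cases hRH : Subgroup.centralizer (E : Set G) ≤ H
  · exact Or.inl hRH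
  right
  obtain ⟨r0, hr0, hr0H⟩ := SetLike.not_le_iff_exists.mp hRH
  set R := Subgroup.centralizer (E : Set G) with hR
  have hHn := hC.H_normal
  have haH : a ∈ H := hHa ▸ Subgroup.mem_zpowers a
  have haR : a ∈ R := hE.H_le_centralizer hC haH
  set a' : R := ⟨a, haR⟩ with ha'
  have hzp : ∀ x : R, x ∈ Subgroup.zpowers a' ↔ (x : G) ∈ H := by
    intro x
    constructor
    · intro hx
      obtain ⟨k, rfl⟩ := Subgroup.mem_zpowers_iff.mp hx
      rw [Subgroup.coe_zpow]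
      exact H.zpow_mem haH k
    · intro hx
      rw [hHa] at hx
      obtain ⟨k, hk⟩ := Subgroup.mem_zpowers_iff.mp hx
      refine Subgroup.mem_zpowers_iff.mpr ⟨k, ?_⟩
      apply Subtype.ext
      rw [Subgroup.coe_zpow]
      exact hk
  have hnorm : (Subgroup.zpowers a').Normal := by
    refine ⟨fun x hx g => ?_⟩
    rw [hzp] at hx ⊢
    exact hHn.conj_mem _ hx _
  have hcent : Subgroup.centralizer (Subgroup.zpowers a' : Set R) = Subgroup.zpowers a' := by
    ext x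
    rw [Subgroup.mem_centralizer_iff]
    constructor
    · intro hx
      rw [hzp]
      apply hE.mem_H_of_mem_centralizer hC hHa ha hn1 x.2
      intro h hh
      have := hx ⟨h, hE.H_le_centralizer hC hh⟩ ((hzp _).mpr hh)
      exact (congrArg Subtype.val this).symm
    · intro hx y hy
      obtain ⟨k, rfl⟩ := Subgroup.mem_zpowers_iff.mp hx
      obtain ⟨l, rfl⟩ := Subgroup.mem_zpowers_iff.mp hy
      exact (((Commute.refl a').zpow_left l).zpow_right k).eq
  have hord : orderOf a' = 2 ^ n := by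
    rw [← ha, ha', Subgroup.orderOf_mk]
  have h' : SCC a' n := ⟨hnorm, hcent, hord, hn1⟩
  have hidx : ∀ s t : R, s ∉ Subgroup.zpowers a' → t ∉ Subgroup.zpowers a' →
      s * t ∈ Subgroup.zpowers a' := by
    intro s t hs ht
    rw [hzp] at hs ht ⊢
    exact hE.mul_mem_H hC hHa ha hn hG hsymp s.2 t.2 hs ht
  set t : R := ⟨r0, hr0⟩ with htdef
  have ht : t ∉ Subgroup.zpowers a' := by
    rw [hzp]; exact hr0H
  have he : t * (t * a' * t⁻¹) * t⁻¹ = a' := by
    have h1 := h'.conj_of_mem (t * t) (hidx t t ht ht)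
    have e : t * (t * a' * t⁻¹) * t⁻¹ = t * t * a' * (t * t)⁻¹ := by group
    rw [e, h1]
  -- `t` does not centralize `i`
  have hti : ∀ x : R, t * a' * t⁻¹ = x → x ^ 2 ^ (n - 2) = a' ^ 2 ^ (n - 2) → False := by
    intro x hx hxi
    apply hr0H
    apply hE.mem_H_of_comm_four hC hHa ha hn hG hsymp hr0
    have h1 : t * a' ^ 2 ^ (n - 2) * t⁻¹ = a' ^ 2 ^ (n - 2) := by
      rw [← conj_pow, hx, hxi]
    have h2 := congrArg (fun y : R => (y : G)) h1
    simp only [Subgroup.coe_mul, Subgroup.coe_pow, Subgroup.coe_inv] at h2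
    calc r0 * a ^ 2 ^ (n - 2) = (r0 * a ^ 2 ^ (n - 2) * r0⁻¹) * r0 := by group
      _ = a ^ 2 ^ (n - 2) * r0 := by rw [h2]
  have hact : t * a' * t⁻¹ = a'⁻¹ ∨ (3 ≤ n ∧ t * a' * t⁻¹ = a'⁻¹ * zz a' n) := by
    rcases h'.conj_cases' t he with (h1 | h1) | (h1 | h1)
    · exact absurd (h'.mem_of_conj t h1) ht
    · by_cases hn3 : 3 ≤ n
      · exfalso
        apply hti _ h1
        have hc : Commute a' (zz a' n) := by
          rw [zz]; exact (Commute.refl a').pow_right _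
        rw [hc.mul_pow]
        obtain ⟨d, hd⟩ : ∃ d, n - 2 = d + 1 := ⟨n - 3, by omega⟩
        have hz2 : (zz a' n) ^ (2 ^ d * 2) = 1 := by
          rw [mul_comm, pow_mul, h'.z_sq, one_pow]
        rw [hd, pow_succ, hz2, mul_one]
      · left
        have hn2 : n = 2 := by omega
        subst hn2
        rw [h1, zz]
        have h4 : a' ^ 4 = 1 := by
          have := pow_orderOf_eq_one a'
          rwa [hord] at this
        rw [eq_inv_iff_mul_eq_one]
        have : a' * a' ^ 2 ^ (2 - 1) * a' = a' ^ 4 := by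
          simp only [Nat.add_one_sub_one, pow_one]
          group
        rw [this, h4]
    · exact Or.inl h1
    · by_cases hn3 : 3 ≤ n
      · exact Or.inr ⟨hn3, h1⟩
      · exfalso
        have hn2 : n = 2 := by omega
        subst hn2
        apply ht
        apply h'.mem_of_conj t
        rw [h1, zz]
        simp only [Nat.add_one_sub_one, pow_one]
        group
  exact classify h' hn hidx t ht hact

end EData

end Cfsg.Agent.Lib.Helper89_Symplectic
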