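import Mathlib
import Cfsg.Agent.S3762
import Cfsg.Agent.Lib.Helper1_Frattini

/-!
# 2-groups of symplectic type and exponent 4 (helper42)

In a finite 2-group of symplectic type of exponent dividing 4, squares and commutators are central.
-/

set_option autoImplicit false

namespace Cfsg.Agent.Lib.Helper42_SympTypeQ

open Subgroup
open scoped commutatorElement

theorem sq_comm_mem_center {P : Type*} [Group P] [Finite P] (hP : IsPGroup 2 P)
    (hsymp : ∀ A : Subgroup P, A.Characteristic → IsMulCommutative A → IsCyclic A)
    (hexp : ∀ g : P, g ^ 4 = 1) :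
    (∀ g : P, g * g ∈ center P) ∧ (∀ g h : P, g * h * g⁻¹ * h⁻¹ ∈ center P) := by
  have : Fact (Nat.Prime 2) := ⟨Nat.prime_two⟩
  obtain ⟨E, S, hcomm, hsup, hE, hS⟩ := Cfsg.Agent.S3762.result hP hsymp
  -- S is cyclic
  have hcyc : IsCyclic S := by
    rcases hS with h | ⟨_, h16, hbig⟩
    · exact h
    · exfalso
      have key : ∀ s : S, orderOf s ∣ 4 := by
        intro s
        apply orderOf_dvd_of_pow_eq_one
        apply Subtype.ext
        simpa using hexp (s : P)
      rcases hbig with ⟨m, ⟨e⟩⟩ | ⟨m, ⟨e⟩⟩ | ⟨n, hn, _, x, _, hx, _⟩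
      · have hc : Nat.card S = 2 * m := by
          rw [Nat.card_congr e.toEquiv, DihedralGroup.nat_card]
        have h1 := key (e.symm (DihedralGroup.r 1))
        rw [MulEquiv.orderOf_eq e.symm, DihedralGroup.orderOf_r_one] at h1
        have := Nat.le_of_dvd (by norm_num) h1
        omega
      · have h1 := key (e.symm (QuaternionGroup.a 1))
        rw [MulEquiv.orderOf_eq e.symm, QuaternionGroup.orderOf_a_one] at h1
        have h2 := Nat.le_of_dvd (by norm_num) h1
        have hm0 : NeZero m := ⟨by rintro rfl; simp at h1⟩
        have hc : Nat.card S = 4 * m := by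
          rw [Nat.card_congr e.toEquiv, Nat.card_eq_fintype_card, QuaternionGroup.card]
        omega
      · have h1 := key x
        rw [hx] at h1
        have := Nat.le_of_dvd (by norm_num) h1
        have h8 : 2 ^ 3 ≤ 2 ^ n := Nat.pow_le_pow_right (by norm_num) hn
        omega
  -- S is central
  have hScomm : ∀ s ∈ S, ∀ s' ∈ S, s * s' = s' * s := by
    intro s hs s' hs'
    have := (IsCyclic.commGroup (α := S)).mul_comm ⟨s, hs⟩ ⟨s', hs'⟩
    exact congrArg Subtype.val this
  have hScent : ∀ s ∈ S, s ∈ center P := by
    intro s hs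
    have h1 : E ≤ centralizer {s} := by
      intro e he
      rw [mem_centralizer_singleton_iff]
      exact (hcomm e he s hs)
    have h2 : S ≤ centralizer {s} := by
      intro s' hs'
      rw [mem_centralizer_singleton_iff]
      exact hScomm s' hs' s hs
    have h3 : (⊤ : Subgroup P) ≤ centralizer {s} := by
      rw [← hsup]; exact sup_le h1 h2
    rw [mem_center_iff]
    intro g
    have := h3 (mem_top g)
    rw [mem_centralizer_singleton_iff] at this
    exact this
  have : S.Normal := by
    constructor
    intro s hs g
    have := hScent s hs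
    rw [mem_center_iff] at this
    rw [this g, mul_inv_cancel_right]
    exact hs
  have hdecomp : ∀ g : P, ∃ e ∈ E, ∃ s ∈ S, g = e * s := by
    intro g
    have hg : g ∈ ((E ⊔ S : Subgroup P) : Set P) := by rw [hsup]; trivial
    rw [mul_normal] at hg
    obtain ⟨e, he, s, hs, rfl⟩ := hg
    exact ⟨e, he, s, hs, rfl⟩
  -- squares and commutators of E are central in P
  have hEfacts : (∀ e ∈ E, e * e ∈ center P) ∧ (∀ e ∈ E, ∀ e' ∈ E, e * e' * e⁻¹ * e'⁻¹ ∈ center P) := by
    rcases hE with hbot | hext
    · subst hbot
      constructor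
      · intro e he
        rw [mem_bot] at he; subst he; simp
      · intro e he e' he'
        rw [mem_bot] at he he'; subst he; subst he'; simp
    · obtain ⟨⟨hEp, hfr, hcm⟩, _⟩ := hext
      have hcenE : ∀ c : E, c ∈ center E → (c : P) ∈ center P := by
        intro c hc
        rw [mem_center_iff] at hc
        have h1 : E ≤ centralizer {(c : P)} := by
          intro e he
          rw [mem_centralizer_singleton_iff]
          have := hc ⟨e, he⟩
          exact (congrArg Subtype.val this)
        have h2 : S ≤ centralizer {(c : P)} := by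
          intro s hs
          rw [mem_centralizer_singleton_iff]
          exact (hcomm c c.2 s hs).symm
        have h3 : (⊤ : Subgroup P) ≤ centralizer {(c : P)} := by
          rw [← hsup]; exact sup_le h1 h2
        rw [mem_center_iff]
        intro g
        have := h3 (mem_top g)
        rw [mem_centralizer_singleton_iff] at this
        exact this
      constructor
      · intro e he
        have h1 := Cfsg.Agent.Lib.Helper1_Frattini.pow_mem_frattini_of_isPGroup hEp (⟨e, he⟩ : E)
        rw [hfr] at h1
        have := hcenE _ h1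
        simpa [pow_two] using this
      · intro e he e' he'
        have h1 : ⁅(⟨e, he⟩ : E), (⟨e', he'⟩ : E)⁆ ∈ commutator E :=
          Subgroup.commutator_mem_commutator (mem_top _) (mem_top _)
        rw [hcm] at h1
        have := hcenE _ h1
        simpa [commutatorElement_def] using this
  constructor
  · intro g
    obtain ⟨e, he, s, hs, rfl⟩ := hdecomp g
    have hsc := hScent s hs
    have h1 : e * s * (e * s) = (e * e) * (s * s) := by
      rw [mem_center_iff] at hsc
      calc e * s * (e * s) = e * (s * e) * s := by simp only [mul_assoc]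
        _ = e * (e * s) * s := by rw [← hsc e]
        _ = e * e * (s * s) := by simp only [mul_assoc]
    rw [h1]
    exact (center P).mul_mem (hEfacts.1 e he) ((center P).mul_mem hsc hsc)
  · intro g h
    obtain ⟨e, he, s, hs, rfl⟩ := hdecomp g
    obtain ⟨e', he', s', hs', rfl⟩ := hdecomp h
    have hsc := hScent s hs
    have hsc' := hScent s' hs'
    rw [mem_center_iff] at hsc hsc'
    have h1 : e * s * (e' * s') * (e * s)⁻¹ * (e' * s')⁻¹ = e * e' * e⁻¹ * e'⁻¹ := by
      have c1 : e * s * (e' * s') * (e * s)⁻¹ = e * (e' * s') * e⁻¹ := by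
        rw [mul_inv_rev, mul_assoc e s (e' * s'), ← hsc (e' * s')]
        group
      rw [c1]
      have c2 : e * (e' * s') * e⁻¹ = e * e' * e⁻¹ * s' := by
        rw [mul_assoc e (e' * s'), mul_assoc e' s', ← hsc' e⁻¹]
        group
      rw [c2]
      group
    rw [h1]
    exact hEfacts.2 e he e' he'

end Cfsg.Agent.Lib.Helper42_SympTypeQ
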