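import Mathlib
import Cfsg.Prelude.Def_GeometricClasses
import Cfsg.Prelude.Def_ClassicalGeometry
import Cfsg.Agent.Lib.Helper42_ES32
import Cfsg.Agent.Lib.Helper42_SympTypeQ
import Cfsg.Agent.Lib.Helper99_Singer

/-!
# The extraspecial group `2^{1+4}_-` inside `Sp_4(F)` (helper42)

From the hypotheses of the class-6 symplectic rows to the abstract recognition theorem.
-/

set_option autoImplicit false
open scoped MatrixGroups

namespace Cfsg.Agent.Lib.Helper42_ES32Mat

open Cfsg.Agent.Lib.Helper42_E32 Cfsg.Agent.Lib.Helper42_E32.E32 Cfsg.Agent.Lib.Helper42_ES32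

variable {F : Type*} [Field F]

abbrev I4 := Fin 2 ⊕ Fin 2

theorem sympForm_basis : Cfsg.sympForm 2 F (Pi.single (Sum.inr 0) 1) (Pi.single (Sum.inl 0) 1) = 1 := by
  simp [Cfsg.sympForm, Matrix.J, Matrix.fromBlocks_mulVec, dotProduct, Fintype.sum_sum_type,
    Matrix.mulVec, Pi.single_apply]

/-- a scalar matrix in the symplectic group is `±1` -/
theorem scalar_of_mem_sp {g : GL I4 F} (hg : g ∈ Cfsg.spGL 2 F) {c : F}
    (hc : (g : Matrix I4 I4 F) = c • (1 : Matrix I4 I4 F)) : c = 1 ∨ c = -1 := by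
  have h := hg (Pi.single (Sum.inr 0) 1) (Pi.single (Sum.inl 0) 1)
  have e : (Cfsg.glToMat I4 F) g = c • (1 : Matrix I4 I4 F) := hc
  rw [e, sympForm_basis] at h
  simp only [Matrix.smul_mulVec, Matrix.one_mulVec] at h
  have h2 : c * c = 1 := by
    have : Cfsg.sympForm 2 F (c • Pi.single (Sum.inr 0) 1) (c • Pi.single (Sum.inl 0) 1)
        = c * c * Cfsg.sympForm 2 F (Pi.single (Sum.inr 0) 1) (Pi.single (Sum.inl 0) 1) := by
      simp only [Cfsg.sympForm, Matrix.mulVec_smul, smul_dotProduct, dotProduct_smul, smul_eq_mul]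
      ring
    rw [this, sympForm_basis, mul_one] at h
    exact h
  have : (c - 1) * (c + 1) = 0 := by linear_combination h2
  rcases mul_eq_zero.mp this with h | h
  · left; linear_combination h
  · right; linear_combination h

theorem gl_ext_scalar {g : GL I4 F} {c : F} (hc : (g : Matrix I4 I4 F) = c • (1 : Matrix I4 I4 F))
    (h1 : c = 1) : g = 1 := by
  apply Units.ext
  rw [hc, h1, one_smul]; rfl

theorem gl_ext_neg {g : GL I4 F} {c : F} (hc : (g : Matrix I4 I4 F) = c • (1 : Matrix I4 I4 F))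
    (h1 : c = -1) : g = -1 := by
  apply Units.ext
  rw [hc, h1]; simp

section setup

variable (R : Subgroup (GL I4 F)) (hRi : Cfsg.Geo.ActsAbsolutelyIrreducibly (Cfsg.Geo.matrixSet R))
  (hRf : R ≤ Cfsg.spGL 2 F)

include hRi hRf in
/-- an element of `R` commuting with all of `R` is `±1` -/
theorem central_eq {g : GL I4 F} (hg : g ∈ R) (hc : ∀ h ∈ R, g * h = h * g) : g = 1 ∨ g = -1 := by
  obtain ⟨c, hcc⟩ := hRi.2 (g : Matrix I4 I4 F) (by
    rintro s ⟨h, hh, rfl⟩
    have := congrArg (fun u : GL I4 F => (u : Matrix I4 I4 F)) (hc h hh)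
    simpa using this)
  rcases scalar_of_mem_sp (hRf hg) hcc with h | h
  · exact Or.inl (gl_ext_scalar hcc h)
  · exact Or.inr (gl_ext_neg hcc h)

include hRi hRf in
theorem center_eq {c : R} (hc : c ∈ Subgroup.center R) : (c : GL I4 F) = 1 ∨ (c : GL I4 F) = -1 := by
  apply central_eq R hRi hRf c.2
  intro h hh
  rw [Subgroup.mem_center_iff] at hc
  have := hc ⟨h, hh⟩
  exact (congrArg Subtype.val this).symm

include hRi hRf in
theorem neg_one_mem (hRZ : Nat.card (Subgroup.center R) = 2) : (-1 : GL I4 F) ∈ R := by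
  have hfin : Finite (Subgroup.center R) := Nat.finite_of_card_ne_zero (by rw [hRZ]; norm_num)
  have : Nontrivial (Subgroup.center R) := by
    rw [← Finite.one_lt_card_iff_nontrivial, hRZ]; norm_num
  obtain ⟨c, hc⟩ := exists_ne (1 : Subgroup.center R)
  rcases center_eq R hRi hRf c.2 with h | h
  · exfalso; apply hc
    apply Subtype.ext; apply Subtype.ext; exact h
  · rw [← h]; exact c.1.2

include hRi hRf in
theorem esHyp [Finite F] (h2 : (2 : F) ≠ 0) (hRs : Cfsg.Geo.IsSymplecticTypeGroup 2 R)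
    (hRZ : Nat.card (Subgroup.center R) = 2) : ESHyp R (-1 : GL I4 F) := by
  have hfin : Finite (GL I4 F) := inferInstance
  have hexp : ∀ g : R, g ^ 4 = 1 := by
    intro g
    have := Monoid.pow_exponent_eq_one g
    rwa [hRs.exponent_eq] at this
  obtain ⟨hsq, hcm⟩ := Cfsg.Agent.Lib.Helper42_SympTypeQ.sq_comm_mem_center hRs.pGroup
    hRs.cyclic_of_characteristic hexp
  refine ⟨neg_one_mem R hRi hRf hRZ, ?_, by simp, fun g _ => by simp, ?_, ?_, ?_⟩
  · intro h
    have := congrArg (fun u : GL I4 F => (u : Matrix I4 I4 F) (Sum.inl 0) (Sum.inl 0)) h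
    simp at this
    apply h2
    linear_combination -this
  · intro g hg
    have := center_eq R hRi hRf (hsq ⟨g, hg⟩)
    simpa using this
  · intro g hg h hh
    have := center_eq R hRi hRf (hcm ⟨g, hg⟩ ⟨h, hh⟩)
    rcases this with h1 | h1
    · left
      have h1' : g * h * g⁻¹ * h⁻¹ = 1 := by simpa using h1
      calc g * h = (g * h * g⁻¹ * h⁻¹) * (h * g) := by group
        _ = h * g := by rw [h1', one_mul]
    · right
      have h1' : g * h * g⁻¹ * h⁻¹ = -1 := by simpa using h1
      calc g * h = (g * h * g⁻¹ * h⁻¹) * (h * g) := by group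
        _ = -1 * (h * g) := by rw [h1']
  · intro g hg hc
    exact central_eq R hRi hRf hg hc

include hRi hRf in
/-- the recognition theorem in the matrix setting -/
theorem exists_phi_mat [Finite F] (h2 : (2 : F) ≠ 0) (hRs : Cfsg.Geo.IsSymplecticTypeGroup 2 R)
    (hR5 : Nat.card R = 2 ^ 5) (hRZ : Nat.card (Subgroup.center R) = 2)
    (hRm : Cfsg.Geo.IsOfMinusType 2 R) :
    ∃ φ : E32 →* GL I4 F, Function.Injective φ ∧ φ.range = R ∧ φ eZ = -1 := by
  have hfin : Finite (GL I4 F) := inferInstance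
  have H := esHyp R hRi hRf h2 hRs hRZ
  have hcard : Nat.card R = 32 := by rw [hR5]; norm_num
  exact exists_phi H hcard (hM_of_minus H hcard (fun A hA hx => by
    have := hRm A hA hx
    norm_num at this
    exact this))

end setup

section trace

variable {φ : E32 →* GL I4 F} (hφ : Function.Injective φ) (hz : φ eZ = -1)

include hz in
theorem trace_phi_eq_zero (h2 : (2 : F) ≠ 0) {x : E32} (h1 : x ≠ 1) (hx : x ≠ eZ) :
    Matrix.trace ((φ x : GL I4 F) : Matrix I4 I4 F) = 0 := by
  rcases E32.center_or x with h | h | ⟨y, hy⟩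
  · exact absurd h h1
  · exact absurd h hx
  · have e1 := congrArg φ hy
    rw [map_mul, map_mul, map_mul, hz] at e1
    have e2 : φ x = -1 * (φ y * φ x * (φ y)⁻¹) := by
      calc φ x = (φ x * φ y) * (φ y)⁻¹ := by group
        _ = (-1 * (φ y * φ x)) * (φ y)⁻¹ := by rw [e1]
        _ = -1 * (φ y * φ x * (φ y)⁻¹) := by group
    have e3 := congrArg (fun u : GL I4 F => Matrix.trace (u : Matrix I4 I4 F)) e2
    simp only [Units.val_mul, Units.val_neg, Units.val_one, neg_mul, one_mul, Matrix.trace_neg] at e3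
    rw [Matrix.trace_mul_cycle, ← Units.val_mul, inv_mul_cancel, Units.val_one, one_mul] at e3
    have : (2 : F) * Matrix.trace ((φ x : GL I4 F) : Matrix I4 I4 F) = 0 := by linear_combination e3
    rcases mul_eq_zero.mp this with h | h
    · exact absurd h h2
    · exact h

include hz in
theorem trace_phi_eZ : Matrix.trace ((φ eZ : GL I4 F) : Matrix I4 I4 F) = -4 := by
  rw [hz]
  simp [Matrix.trace, Fintype.sum_sum_type]

theorem trace_phi_one : Matrix.trace ((φ 1 : GL I4 F) : Matrix I4 I4 F) = 4 := by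
  rw [map_one]
  simp [Matrix.trace, Fintype.sum_sum_type]

/-- the averaging operator -/
noncomputable def avg (φ : E32 →* GL I4 F) (M : Matrix I4 I4 F) : Matrix I4 I4 F :=
  ∑ x : E32, ((φ x : GL I4 F) : Matrix I4 I4 F) * M * (((φ x)⁻¹ : GL I4 F) : Matrix I4 I4 F)

theorem avg_comm (M : Matrix I4 I4 F) (y : E32) :
    ((φ y : GL I4 F) : Matrix I4 I4 F) * avg φ M = avg φ M * ((φ y : GL I4 F) : Matrix I4 I4 F) := by
  unfold avg
  rw [Finset.mul_sum, Finset.sum_mul]
  apply Fintype.sum_equiv (Equiv.mulLeft y)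
  intro x
  simp only [Equiv.coe_mulLeft, map_mul, mul_inv_rev, Units.val_mul]
  have : ((φ y)⁻¹ : GL I4 F).val * (φ y : GL I4 F).val = 1 := by
    rw [← Units.val_mul, inv_mul_cancel, Units.val_one]
  simp only [Matrix.mul_assoc, this, Matrix.mul_one]

theorem trace_avg (M : Matrix I4 I4 F) : Matrix.trace (avg φ M) = 32 * Matrix.trace M := by
  unfold avg
  rw [Matrix.trace_sum]
  have : ∀ x : E32, Matrix.trace (((φ x : GL I4 F) : Matrix I4 I4 F) * M *
      (((φ x)⁻¹ : GL I4 F) : Matrix I4 I4 F)) = Matrix.trace M := by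
    intro x
    rw [Matrix.trace_mul_cycle, ← Units.val_mul, inv_mul_cancel, Units.val_one, Matrix.one_mul]
  simp only [this, Finset.sum_const, Finset.card_univ, E32.card_eq]
  simp

theorem avg_eq (R : Subgroup (GL I4 F))
    (hRi : Cfsg.Geo.ActsAbsolutelyIrreducibly (Cfsg.Geo.matrixSet R)) (hR : φ.range = R)
    (h2 : (2 : F) ≠ 0) (M : Matrix I4 I4 F) :
    avg φ M = (8 * Matrix.trace M) • (1 : Matrix I4 I4 F) := by
  obtain ⟨c, hc⟩ := hRi.2 (avg φ M) (by
    rintro s ⟨g, hg, rfl⟩
    rw [SetLike.mem_coe, ← hR] at hg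
    obtain ⟨y, rfl⟩ := hg
    exact (avg_comm M y).symm)
  have h1 := trace_avg (φ := φ) M
  rw [hc, Matrix.trace_smul] at h1
  have h4 : Matrix.trace (1 : Matrix I4 I4 F) = 4 := by
    simp [Matrix.trace, Fintype.sum_sum_type]
  rw [h4, smul_eq_mul] at h1
  have h40 : (4 : F) ≠ 0 := by
    have : (4 : F) = 2 * 2 := by norm_num
    rw [this]; exact mul_ne_zero h2 h2
  have : c = 8 * Matrix.trace M := by
    apply mul_right_cancel₀ h40
    linear_combination h1
  rw [hc, this]

end trace

section norm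

variable {φ : E32 →* GL I4 F} (hφ : Function.Injective φ) (hz : φ eZ = -1)
variable (n : GL I4 F) (hn : ∀ x : E32, ∃ y : E32, n * φ x * n⁻¹ = φ y)

/-- the automorphism of `E32` induced by a normalizing element -/
noncomputable def theta : E32 → E32 := fun x => Classical.choose (hn x)

theorem phi_theta (x : E32) : φ (theta n hn x) = n * φ x * n⁻¹ :=
  (Classical.choose_spec (hn x)).symm

include hφ in
theorem theta_mul (x y : E32) : theta n hn (x * y) = theta n hn x * theta n hn y := by
  apply hφ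
  rw [map_mul, phi_theta, phi_theta, phi_theta, map_mul]
  group

include hφ in
theorem theta_one : theta n hn 1 = 1 := by
  apply hφ
  rw [phi_theta, map_one]; group

include hφ hz in
theorem theta_eZ : theta n hn eZ = eZ := by
  apply hφ
  rw [phi_theta, hz]
  simp

include hφ in
theorem theta_injective : Function.Injective (theta n hn) := by
  intro x y h
  have := congrArg φ h
  rw [phi_theta, phi_theta] at this
  apply hφ
  have h2 : n⁻¹ * (n * φ x * n⁻¹) * n = n⁻¹ * (n * φ y * n⁻¹) * n := by rw [this]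
  simpa [mul_assoc] using h2

/-- the permutation of `E32` induced by a normalizing element -/
noncomputable def sigma : Equiv.Perm E32 :=
  Equiv.ofBijective (theta n hn) (Finite.injective_iff_bijective.mp (theta_injective hφ n hn))

theorem sigma_apply (x : E32) : sigma hφ n hn x = theta n hn x := rfl

theorem phi_sigma_pow (k : ℕ) (x : E32) :
    φ ((sigma hφ n hn ^ k) x) = n ^ k * φ x * (n ^ k)⁻¹ := by
  induction k generalizing x with
  | zero => simp
  | succ k ih =>
    rw [pow_succ', Equiv.Perm.mul_apply, sigma_apply, phi_theta, ih, pow_succ']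
    group

theorem sigma_pow_eq_one {r : ℕ} {c : F}
    (hc : ((n ^ r : GL I4 F) : Matrix I4 I4 F) = c • (1 : Matrix I4 I4 F)) :
    sigma hφ n hn ^ r = 1 := by
  apply Equiv.ext
  intro x
  rw [Equiv.Perm.one_apply]
  apply hφ
  rw [phi_sigma_pow]
  have hcomm : n ^ r * φ x = φ x * n ^ r := by
    apply Units.ext
    rw [Units.val_mul, Units.val_mul, hc]
    simp
  rw [hcomm]; group

theorem sigma_eq_iff (x : E32) : sigma hφ n hn x = x ↔ n * φ x * n⁻¹ = φ x := by
  rw [sigma_apply]
  constructor
  · intro h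
    rw [← phi_theta n hn x, h]
  · intro h
    apply hφ
    rw [phi_theta, h]

/-- the fixed points as a subgroup -/
noncomputable def fixSub : Subgroup E32 where
  carrier := {x | theta n hn x = x}
  mul_mem' {a b} ha hb := by
    simp only [Set.mem_ofPred_eq] at *
    rw [theta_mul hφ, ha, hb]
  one_mem' := theta_one hφ n hn
  inv_mem' {a} ha := by
    simp only [Set.mem_ofPred_eq] at *
    have h1 : theta n hn a⁻¹ * theta n hn a = 1 := by
      rw [← theta_mul hφ, inv_mul_cancel, theta_one hφ]
    rw [ha] at h1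
    exact eq_inv_of_mul_eq_one_left h1

open Classical in
theorem card_fix_dvd : Fintype.card {x : E32 // sigma hφ n hn x = x} ∣ 32 := by
  have h1 := Subgroup.card_subgroup_dvd_card (fixSub hφ n hn)
  rw [Nat.card_eq_fintype_card (α := E32), E32.card_eq] at h1
  have h2 : Nat.card (fixSub hφ n hn) = Fintype.card {x : E32 // sigma hφ n hn x = x} := by
    rw [← Nat.card_eq_fintype_card]
    rfl
  rwa [h2] at h1

include hz in
open Classical in
/-- orbit counting for the action of a normalizing element of odd prime order modulo scalars -/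
theorem card_fix_facts {r : ℕ} (hr : r.Prime) {c : F}
    (hc : ((n ^ r : GL I4 F) : Matrix I4 I4 F) = c • (1 : Matrix I4 I4 F)) :
    32 ≡ Fintype.card {x : E32 // sigma hφ n hn x = x} [MOD r] ∧
    ∃ k, 2 ≤ k ∧ k ≤ Fintype.card {x : E32 // sigma hφ n hn x = x} ∧ 12 ≡ k [MOD r] := by
  have hσ := sigma_pow_eq_one hφ n hn hc
  constructor
  · have := Cfsg.Agent.Lib.Helper99_Singer.card_modEq_card_fixed (sigma hφ n hn) hr hσ
    rwa [Nat.card_eq_fintype_card, E32.card_eq, Nat.card_eq_fintype_card] at this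
  · have hp : ∀ x : E32, (sigma hφ n hn x) * (sigma hφ n hn x) = 1 ↔ x * x = 1 := by
      intro x
      rw [sigma_apply, ← theta_mul hφ]
      constructor
      · intro h
        apply theta_injective hφ n hn
        rw [h, theta_one hφ]
      · intro h
        rw [h, theta_one hφ]
    set τ : Equiv.Perm {x : E32 // x * x = 1} := (sigma hφ n hn).subtypePerm hp with hτ
    have hτr : τ ^ r = 1 := by
      apply Equiv.ext
      intro t
      apply Subtype.ext
      rw [hτ, Equiv.Perm.subtypePerm_pow, Equiv.Perm.subtypePerm_apply]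
      show (sigma hφ n hn ^ r) ↑t = ↑t
      rw [hσ]; rfl
    have h1 := Cfsg.Agent.Lib.Helper99_Singer.card_modEq_card_fixed τ hr hτr
    rw [Nat.card_eq_fintype_card, Nat.card_eq_fintype_card] at h1
    have h12 : Fintype.card {x : E32 // x * x = 1} = 12 := by
      rw [← E32.card_sq_eq_one]
    rw [h12] at h1
    refine ⟨_, ?_, ?_, h1⟩
    · -- contains 1 and eZ
      have e1 : τ ⟨1, by simp⟩ = ⟨1, by simp⟩ := by
        apply Subtype.ext
        rw [hτ, Equiv.Perm.subtypePerm_apply]
        exact theta_one hφ n hn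
      have e2 : τ ⟨eZ, E32.eZ_mul_self⟩ = ⟨eZ, E32.eZ_mul_self⟩ := by
        apply Subtype.ext
        rw [hτ, Equiv.Perm.subtypePerm_apply]
        exact theta_eZ hφ hz n hn
      have hne : (⟨⟨1, by simp⟩, e1⟩ : {t : {x : E32 // x * x = 1} // τ t = t}) ≠ ⟨⟨eZ, E32.eZ_mul_self⟩, e2⟩ := by
        intro h
        have := congrArg (fun t : {t : {x : E32 // x * x = 1} // τ t = t} => ((t : {x : E32 // x * x = 1}) : E32)) h
        exact E32.eZ_ne_one this.symm
      exact Fintype.one_lt_card_iff.mpr ⟨_, _, hne⟩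
    · apply Fintype.card_le_of_injective
        (fun t : {t : {x : E32 // x * x = 1} // τ t = t} =>
          (⟨(t : {x : E32 // x * x = 1}), by
            have := congrArg Subtype.val t.2
            exact this⟩ : {x : E32 // sigma hφ n hn x = x}))
      intro t t' h
      have h' : ((t : {x : E32 // x * x = 1}) : E32) = ((t' : {x : E32 // x * x = 1}) : E32) := by
        simpa using congrArg Subtype.val h
      exact Subtype.ext (Subtype.ext h')

include hφ hz in
theorem theta_ne_neg {r : ℕ} (hodd : Odd r) {c : F}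
    (hc : ((n ^ r : GL I4 F) : Matrix I4 I4 F) = c • (1 : Matrix I4 I4 F)) (x : E32) :
    theta n hn x ≠ eZ * x := by
  intro h
  have hσ := sigma_pow_eq_one hφ n hn hc
  have key : ∀ k : ℕ, (sigma hφ n hn ^ k) x = eZ ^ k * x := by
    intro k
    induction k with
    | zero => simp
    | succ k ih =>
      rw [pow_succ', Equiv.Perm.mul_apply, ih, sigma_apply, theta_mul hφ, h, pow_succ']
      have : theta n hn (eZ ^ k) = eZ ^ k := by
        clear ih
        induction k with
        | zero => simpa using theta_one hφ n hn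
        | succ k ih => rw [pow_succ, theta_mul hφ, ih, theta_eZ hφ hz]
      rw [this]
      have hcomm : ∀ y : E32, y * eZ = eZ * y := E32.eZ_central
      rw [mul_assoc, ← mul_assoc (eZ ^ k) eZ x, mul_assoc]
      have : eZ ^ k * eZ = eZ * eZ ^ k := by
        clear ih this
        induction k with
        | zero => simp
        | succ k ih => rw [pow_succ, hcomm]
      rw [← mul_assoc (eZ ^ k), this, mul_assoc]
  have h1 := key r
  rw [hσ, Equiv.Perm.one_apply] at h1
  obtain ⟨m, rfl⟩ := hodd
  have h2 : eZ ^ (2 * m + 1) = eZ := by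
    rw [pow_succ, pow_mul, pow_two, E32.eZ_mul_self, one_pow, one_mul]
  rw [h2] at h1
  have : (1 : E32) * x = eZ * x := by rw [one_mul]; exact h1
  exact E32.eZ_ne_one (mul_right_cancel this).symm

include hz in
open Classical in
/-- the trace formula -/
theorem trace_formula (R : Subgroup (GL I4 F))
    (hRi : Cfsg.Geo.ActsAbsolutelyIrreducibly (Cfsg.Geo.matrixSet R)) (hR : φ.range = R)
    (h2 : (2 : F) ≠ 0) (hneg : ∀ x, theta n hn x ≠ eZ * x) :
    2 * Matrix.trace (n : Matrix I4 I4 F) * Matrix.trace ((n⁻¹ : GL I4 F) : Matrix I4 I4 F) =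
      (Fintype.card {x : E32 // sigma hφ n hn x = x} : F) := by
  have h1 := avg_eq R hRi hR h2 (n : Matrix I4 I4 F)
  have h3 := congrArg (fun M : Matrix I4 I4 F => Matrix.trace (M * ((n⁻¹ : GL I4 F) : Matrix I4 I4 F))) h1
  simp only [Matrix.smul_mul, Matrix.one_mul, Matrix.trace_smul, smul_eq_mul] at h3
  have hterm : ∀ x : E32, Matrix.trace (((φ x : GL I4 F) : Matrix I4 I4 F) * (n : Matrix I4 I4 F) *
      (((φ x)⁻¹ : GL I4 F) : Matrix I4 I4 F) * ((n⁻¹ : GL I4 F) : Matrix I4 I4 F)) =
      if sigma hφ n hn x = x then 4 else 0 := by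
    intro x
    have e1 : ((φ x : GL I4 F) : Matrix I4 I4 F) * (n : Matrix I4 I4 F) *
        (((φ x)⁻¹ : GL I4 F) : Matrix I4 I4 F) * ((n⁻¹ : GL I4 F) : Matrix I4 I4 F)
        = ((φ (x * (theta n hn x)⁻¹) : GL I4 F) : Matrix I4 I4 F) := by
      rw [map_mul, map_inv, phi_theta]
      simp only [Units.val_mul, mul_inv_rev, inv_inv, Matrix.mul_assoc]
    rw [e1]
    by_cases hx : sigma hφ n hn x = x
    · rw [if_pos hx]
      rw [sigma_apply] at hx
      rw [hx, mul_inv_cancel]
      exact trace_phi_one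
    · rw [if_neg hx]
      apply trace_phi_eq_zero hz h2
      · intro h
        apply hx
        rw [sigma_apply]
        exact (mul_inv_eq_one.mp h).symm
      · intro h
        apply hneg x
        have : x = eZ * theta n hn x := mul_inv_eq_iff_eq_mul.mp h
        calc theta n hn x = eZ * (eZ * theta n hn x) := by
              rw [← mul_assoc, E32.eZ_mul_self, one_mul]
          _ = eZ * x := by rw [← this]
  have hsum : Matrix.trace (avg φ (n : Matrix I4 I4 F) * ((n⁻¹ : GL I4 F) : Matrix I4 I4 F)) =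
      4 * (Fintype.card {x : E32 // sigma hφ n hn x = x} : F) := by
    unfold avg
    rw [Finset.sum_mul, Matrix.trace_sum]
    simp only [hterm]
    rw [Finset.sum_ite, Finset.sum_const_zero, add_zero, Finset.sum_const, nsmul_eq_mul,
      Fintype.card_subtype]
    ring
  rw [hsum] at h3
  have h40 : (4 : F) ≠ 0 := by
    have : (4 : F) = 2 * 2 := by norm_num
    rw [this]; exact mul_ne_zero h2 h2
  apply mul_left_cancel₀ h40
  linear_combination -h3

open Classical in
/-- if all of `E32` is fixed, the element is a scalar -/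
theorem scalar_of_card_fix (R : Subgroup (GL I4 F))
    (hRi : Cfsg.Geo.ActsAbsolutelyIrreducibly (Cfsg.Geo.matrixSet R)) (hR : φ.range = R)
    (h32 : Fintype.card {x : E32 // sigma hφ n hn x = x} = 32) :
    ∃ c : F, (n : Matrix I4 I4 F) = c • (1 : Matrix I4 I4 F) := by
  have hall : ∀ x : E32, sigma hφ n hn x = x := by
    have h1 : Fintype.card {x : E32 // sigma hφ n hn x = x} = Fintype.card E32 := by
      rw [h32, E32.card_eq]
    intro x
    by_contra hx
    have := Fintype.card_subtype_lt (p := fun x : E32 => sigma hφ n hn x = x) hx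
    omega
  apply hRi.2
  rintro s ⟨g, hg, rfl⟩
  rw [SetLike.mem_coe, ← hR] at hg
  obtain ⟨x, rfl⟩ := hg
  have := (sigma_eq_iff hφ n hn x).mp (hall x)
  have h2 : n * φ x = φ x * n := by
    calc n * φ x = (n * φ x * n⁻¹) * n := by group
      _ = φ x * n := by rw [this]
  have := congrArg (fun u : GL I4 F => (u : Matrix I4 I4 F)) h2
  simpa using this

end norm

section arith

theorem arith_ge7 (r cC k : ℕ) (hr : r.Prime) (h7 : 7 ≤ r) (hd : cC ∣ 32) (hk : 2 ≤ k)
    (hkc : k ≤ cC) (h1 : 32 ≡ cC [MOD r]) (h2 : 12 ≡ k [MOD r]) : cC = 32 := by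
  have hc32 : cC ≤ 32 := Nat.le_of_dvd (by norm_num) hd
  have h1' : r ∣ 32 - cC := (Nat.modEq_iff_dvd' hc32).mp h1.symm
  have hk12 : k ≤ 12 ∨ 12 < k := le_or_gt k 12
  interval_cases cC <;> try omega
  · -- cC = 2
    have := Nat.le_of_dvd (by norm_num) h1'
    interval_cases r <;> first | omega | (exfalso; norm_num at hr)
  · -- cC = 4
    have := Nat.le_of_dvd (by norm_num) h1'
    have hr7 : r = 7 := by
      interval_cases r <;> first | omega | (exfalso; norm_num at hr)
    subst hr7
    unfold Nat.ModEq at h2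
    omega
  · have := Nat.le_of_dvd (by norm_num) h1'
    interval_cases r <;> first | omega | (exfalso; norm_num at hr)
  · have := Nat.le_of_dvd (by norm_num) h1'
    interval_cases r <;> first | omega | (exfalso; norm_num at hr)

theorem arith_3 (cC k : ℕ) (hd : cC ∣ 32) (hk : 2 ≤ k)
    (hkc : k ≤ cC) (h1 : 32 ≡ cC [MOD 3]) (h2 : 12 ≡ k [MOD 3]) : cC = 8 ∨ cC = 32 := by
  have hc32 : cC ≤ 32 := Nat.le_of_dvd (by norm_num) hd
  unfold Nat.ModEq at h1 h2
  interval_cases cC <;> omega

theorem arith_5 (cC k : ℕ) (hd : cC ∣ 32) (hk : 2 ≤ k)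
    (hkc : k ≤ cC) (h1 : 32 ≡ cC [MOD 5]) : cC = 2 ∨ cC = 32 := by
  have hc32 : cC ≤ 32 := Nat.le_of_dvd (by norm_num) hd
  unfold Nat.ModEq at h1
  interval_cases cC <;> omega

end arith

end Cfsg.Agent.Lib.Helper42_ES32Mat
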