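import Mathlib
import Cfsg.Prelude.Def_ClassicalGeometry

/-!
# Explicit elements of `Sp_4(F)` (helper42)

The block embedding of `SL_2(F)` on the first hyperbolic pair, elements of order 3 and 5 with a
2-dimensional fixed space, transvections, and the fixed-vector lemma for products of two transvections.
-/

set_option autoImplicit false
set_option linter.unusedSimpArgs false
open scoped MatrixGroups
open Matrix

namespace Cfsg.Agent.Lib.Helper42_Sp4Elts

variable {F : Type*} [Field F]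

abbrev I4 := Fin 2 ⊕ Fin 2

/-- a `2 × 2` matrix acting on the first hyperbolic pair -/
def blkMat (a b c d : F) : Matrix I4 I4 F :=
  Matrix.fromBlocks !![a, 0; 0, 1] !![b, 0; 0, 0] !![c, 0; 0, 0] !![d, 0; 0, 1]

theorem blkMat_mul (a b c d a' b' c' d' : F) :
    blkMat a b c d * blkMat a' b' c' d' =
      blkMat (a * a' + b * c') (a * b' + b * d') (c * a' + d * c') (c * b' + d * d') := by
  unfold blkMat
  rw [Matrix.fromBlocks_multiply]
  congr 1 <;>
  · ext i j
    fin_cases i <;> fin_cases j <;> simp [Matrix.mul_apply, Fin.sum_univ_two]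

theorem blkMat_one : blkMat (1 : F) 0 0 1 = 1 := by
  unfold blkMat
  rw [← Matrix.fromBlocks_one]
  congr 1 <;>
  · ext i j
    fin_cases i <;> fin_cases j <;> simp

theorem trace_blkMat (a b c d : F) : Matrix.trace (blkMat a b c d) = a + d + 2 := by
  simp [blkMat, Matrix.trace, Fintype.sum_sum_type, Fin.sum_univ_two]
  ring

/-- the block embedding of a matrix of determinant one -/
def blkGL (a b c d : F) (h : a * d - b * c = 1) : GL I4 F where
  val := blkMat a b c d
  inv := blkMat d (-b) (-c) a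
  val_inv := by
    rw [blkMat_mul, ← blkMat_one]
    congr 1 <;> first | linear_combination h | ring
  inv_val := by
    rw [blkMat_mul, ← blkMat_one]
    congr 1 <;> first | linear_combination h | ring

theorem blkGL_val (a b c d : F) (h : a * d - b * c = 1) :
    ((blkGL a b c d h : GL I4 F) : Matrix I4 I4 F) = blkMat a b c d := rfl

theorem blkGL_inv_val (a b c d : F) (h : a * d - b * c = 1) :
    (((blkGL a b c d h)⁻¹ : GL I4 F) : Matrix I4 I4 F) = blkMat d (-b) (-c) a := rfl

theorem blkGL_mem_sp (a b c d : F) (h : a * d - b * c = 1) :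
    blkGL a b c d h ∈ Cfsg.spGL 2 F := by
  intro u v
  show Cfsg.sympForm 2 F (blkMat a b c d *ᵥ u) (blkMat a b c d *ᵥ v) = Cfsg.sympForm 2 F u v
  simp only [Cfsg.sympForm, Matrix.J, blkMat, Matrix.fromBlocks_mulVec, dotProduct,
    Fintype.sum_sum_type, Fin.sum_univ_two, Sum.elim_inl, Sum.elim_inr, Matrix.mulVec, Pi.add_apply,
    Matrix.of_apply, Matrix.cons_val', Matrix.cons_val_zero, Matrix.cons_val_one,
    Matrix.empty_val', Matrix.cons_val_fin_one, Matrix.zero_apply, Matrix.neg_apply,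
    Matrix.one_apply_eq, Matrix.one_apply_ne, Function.comp_apply, ne_eq, zero_ne_one,
    one_ne_zero, not_false_eq_true, Fin.isValue]
  simp
  linear_combination (u (Sum.inr 0) * v (Sum.inl 0) - u (Sum.inl 0) * v (Sum.inr 0)) * h

theorem blkMat_apply_inl_inr (a b c d : F) : blkMat a b c d (Sum.inl 0) (Sum.inr 0) = b := by
  simp [blkMat]

theorem blkGL_not_scalar (a b c d : F) (h : a * d - b * c = 1) (hb : b ≠ 0) (z : F) :
    ((blkGL a b c d h : GL I4 F) : Matrix I4 I4 F) ≠ z • (1 : Matrix I4 I4 F) := by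
  intro e
  have := congrFun (congrFun e (Sum.inl 0)) (Sum.inr 0)
  rw [blkGL_val, blkMat_apply_inl_inr] at this
  simp at this
  exact hb this

/-- the element with block `[[0,-1],[1,τ]]` -/
def ordElt (τ : F) : GL I4 F := blkGL 0 (-1) 1 τ (by ring)

theorem ordElt_mem_sp (τ : F) : ordElt τ ∈ Cfsg.spGL 2 F := blkGL_mem_sp _ _ _ _ _

theorem trace_ordElt (τ : F) : Matrix.trace ((ordElt τ : GL I4 F) : Matrix I4 I4 F) = τ + 2 := by
  rw [ordElt, blkGL_val, trace_blkMat]; ring

theorem trace_ordElt_inv (τ : F) :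
    Matrix.trace (((ordElt τ)⁻¹ : GL I4 F) : Matrix I4 I4 F) = τ + 2 := by
  rw [ordElt, blkGL_inv_val, trace_blkMat]; ring

theorem ordElt_not_scalar (τ : F) (z : F) :
    ((ordElt τ : GL I4 F) : Matrix I4 I4 F) ≠ z • (1 : Matrix I4 I4 F) :=
  blkGL_not_scalar _ _ _ _ _ (by simp) z

theorem ordElt_pow_three : (ordElt (-1 : F)) ^ 3 = 1 := by
  apply Units.ext
  rw [pow_succ, pow_succ, pow_one, Units.val_mul, Units.val_mul, Units.val_one, ordElt, blkGL_val,
    blkMat_mul, blkMat_mul, ← blkMat_one]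
  congr 1 <;> ring

theorem ordElt_pow_five {τ : F} (hτ : τ ^ 2 + τ - 1 = 0) : (ordElt τ) ^ 5 = 1 := by
  apply Units.ext
  rw [pow_succ, pow_succ, pow_succ, pow_succ, pow_one, Units.val_mul, Units.val_mul, Units.val_mul,
    Units.val_mul, Units.val_one, ordElt, blkGL_val,
    blkMat_mul, blkMat_mul, blkMat_mul, blkMat_mul, ← blkMat_one]
  congr 1
  · linear_combination (-(τ - 1)) * hτ
  · linear_combination (-(τ ^ 2 - τ - 1)) * hτ
  · linear_combination (τ ^ 2 - τ - 1) * hτ
  · linear_combination (τ ^ 3 - τ ^ 2 - 2 * τ + 1) * hτ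

/-- the transvection -/
def tv : GL I4 F := blkGL 1 1 0 1 (by ring)

theorem tv_mem_sp : (tv : GL I4 F) ∈ Cfsg.spGL 2 F := blkGL_mem_sp _ _ _ _ _

theorem tv_not_scalar (z : F) : ((tv : GL I4 F) : Matrix I4 I4 F) ≠ z • (1 : Matrix I4 I4 F) :=
  blkGL_not_scalar _ _ _ _ _ one_ne_zero z

theorem tv_pow (k : ℕ) : ((tv : GL I4 F) ^ k : GL I4 F).val = blkMat 1 (k : F) 0 1 := by
  induction k with
  | zero => simp [blkMat_one]
  | succ k ih =>
    rw [pow_succ, Units.val_mul, ih, tv, blkGL_val, blkMat_mul]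
    congr 1 <;> (push_cast; ring)

theorem tv_pow_char (p : ℕ) [CharP F p] : (tv : GL I4 F) ^ p = 1 := by
  apply Units.ext
  rw [tv_pow, CharP.cast_eq_zero, blkMat_one, Units.val_one]

/-! ### elements fixing a hyperplane pointwise -/

/-- `n` fixes the kernel of a linear functional pointwise -/
def FixesHyp (n : GL I4 F) : Prop :=
  ∃ f : (I4 → F) →ₗ[F] F, ∀ v, f v = 0 → (n : Matrix I4 I4 F) *ᵥ v = v

theorem tv_fixesHyp : FixesHyp (tv : GL I4 F) := by
  refine ⟨LinearMap.proj (Sum.inr 0), ?_⟩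
  intro v hv
  rw [LinearMap.proj_apply] at hv
  rw [tv, blkGL_val]
  ext i
  rcases i with i | i <;> fin_cases i <;>
    simp [blkMat, Matrix.mulVec, dotProduct, Fintype.sum_sum_type, Fin.sum_univ_two, hv]

theorem conj_fixesHyp {n : GL I4 F} (g : GL I4 F) (h : FixesHyp n) : FixesHyp (g⁻¹ * n * g) := by
  obtain ⟨f, hf⟩ := h
  refine ⟨f.comp (Matrix.toLin' (g : Matrix I4 I4 F)), ?_⟩
  intro v hv
  rw [LinearMap.comp_apply, Matrix.toLin'_apply] at hv
  have := hf _ hv
  rw [Units.val_mul, Units.val_mul, ← Matrix.mulVec_mulVec, ← Matrix.mulVec_mulVec, this,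
    Matrix.mulVec_mulVec, ← Units.val_mul, inv_mul_cancel, Units.val_one, Matrix.one_mulVec]

theorem inv_fixesHyp {n : GL I4 F} (h : FixesHyp n) : FixesHyp n⁻¹ := by
  obtain ⟨f, hf⟩ := h
  refine ⟨f, ?_⟩
  intro v hv
  have := hf v hv
  nth_rewrite 1 [← this]
  rw [Matrix.mulVec_mulVec, ← Units.val_mul, inv_mul_cancel, Units.val_one, Matrix.one_mulVec]

/-- the product of two elements fixing hyperplanes has a nonzero fixed vector -/
theorem exists_fixed_of_fixesHyp {a b : GL I4 F} (ha : FixesHyp a) (hb : FixesHyp b) :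
    ∃ v : I4 → F, v ≠ 0 ∧ ((a * b : GL I4 F) : Matrix I4 I4 F) *ᵥ v = v := by
  obtain ⟨f, hf⟩ := ha
  obtain ⟨k, hk⟩ := hb
  have hker : LinearMap.ker (f.prod k) ≠ ⊥ := by
    apply LinearMap.ker_ne_bot_of_finrank_lt
    rw [Module.finrank_prod, Module.finrank_self, Module.finrank_pi, Fintype.card_sum,
      Fintype.card_fin]
    norm_num
  obtain ⟨v, hv, hv0⟩ := (Submodule.ne_bot_iff _).mp hker
  refine ⟨v, hv0, ?_⟩
  rw [LinearMap.mem_ker, LinearMap.prod_apply] at hv
  have hv := Prod.mk_eq_zero.mp hv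
  rw [Units.val_mul, ← Matrix.mulVec_mulVec, hk v hv.2, hf v hv.1]

end Cfsg.Agent.Lib.Helper42_Sp4Elts
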