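import Mathlib
import Cfsg.Agent.Lib.Helper42_ES32Mat
import Cfsg.Agent.Lib.Helper42_Sp4Elts
import Cfsg.Agent.Lib.Helper42_E32Sing

/-!
# S6002, the negative cases (helper42)

The master lemma on elements of odd prime order modulo scalars normalizing `R = φ(E32)`.
-/

set_option autoImplicit false
set_option linter.unusedSimpArgs false
open scoped MatrixGroups
open Matrix

namespace Cfsg.Agent.Lib.Helper42_S6002Fwd

open Cfsg.Agent.Lib.Helper42_E32 Cfsg.Agent.Lib.Helper42_E32.E32 Cfsg.Agent.Lib.Helper42_ES32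
  Cfsg.Agent.Lib.Helper42_ES32Mat Cfsg.Agent.Lib.Helper42_E32Sing
open Cfsg.Agent.Lib.Helper42_Sp4Elts hiding I4

variable {F : Type*} [Field F]

theorem hn_of_mem_normalizer {R : Subgroup (GL I4 F)} {φ : E32 →* GL I4 F} (hR : φ.range = R)
    {n : GL I4 F} (hn : n ∈ Cfsg.Geo.subgroupNormalizer R) :
    ∀ x : E32, ∃ y : E32, n * φ x * n⁻¹ = φ y := by
  intro x
  have h1 : φ x ∈ (R : Set (GL I4 F)) := by
    rw [SetLike.mem_coe, ← hR]; exact ⟨x, rfl⟩
  have h2 := (Subgroup.mem_set_normalizer_iff.mp hn (φ x)).mp h1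
  rw [SetLike.mem_coe, ← hR] at h2
  obtain ⟨y, hy⟩ := h2
  exact ⟨y, hy.symm⟩

/-- an element of `φ(E32)` with a nonzero fixed vector is singular -/
theorem sing_of_fixed {φ : E32 →* GL I4 F} (hz : φ eZ = -1) (h2 : (2 : F) ≠ 0) {w : E32}
    {v : I4 → F} (hv : v ≠ 0) (hfix : ((φ w : GL I4 F) : Matrix I4 I4 F) *ᵥ v = v) : Sing w := by
  have hneg : ∀ u : I4 → F, u = -u → u = 0 := by
    intro u hu
    have h3 : (2 : F) • u = 0 := by
      rw [two_smul]
      nth_rewrite 2 [hu]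
      exact add_neg_cancel u
    rcases smul_eq_zero.mp h3 with h | h
    · exact absurd h h2
    · exact h
  have hZv : ((φ eZ : GL I4 F) : Matrix I4 I4 F) *ᵥ v = -v := by
    rw [hz, Units.val_neg, Units.val_one, Matrix.neg_mulVec, Matrix.one_mulVec]
  constructor
  · rcases sq_cases w with h | h
    · exact h
    · exfalso
      have h3 : ((φ (w * w) : GL I4 F) : Matrix I4 I4 F) *ᵥ v = v := by
        rw [map_mul, Units.val_mul, ← Matrix.mulVec_mulVec, hfix, hfix]
      rw [h, hZv] at h3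
      exact hv (hneg v h3.symm)
  · intro h
    rw [h, hZv] at hfix
    exact hv (hneg v hfix.symm)

section master

variable (R : Subgroup (GL I4 F))
  (hRi : Cfsg.Geo.ActsAbsolutelyIrreducibly (Cfsg.Geo.matrixSet R))
  {φ : E32 →* GL I4 F} (hφ : Function.Injective φ) (hR : φ.range = R) (hz : φ eZ = -1)
  (h2 : (2 : F) ≠ 0)

include hRi hφ hR hz h2 in
/-- the master lemma -/
theorem master {n : GL I4 F} (hnN : n ∈ Cfsg.Geo.subgroupNormalizer R)
    {r : ℕ} (hr : r.Prime) (hodd : Odd r) {c : F}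
    (hc : ((n ^ r : GL I4 F) : Matrix I4 I4 F) = c • (1 : Matrix I4 I4 F))
    (hns : ∀ z : F, (n : Matrix I4 I4 F) ≠ z • (1 : Matrix I4 I4 F)) :
    ∃ cC : ℕ, cC ∣ 32 ∧ cC ≠ 32 ∧ 32 ≡ cC [MOD r] ∧ (∃ k, 2 ≤ k ∧ k ≤ cC ∧ 12 ≡ k [MOD r]) ∧
      2 * Matrix.trace (n : Matrix I4 I4 F) * Matrix.trace ((n⁻¹ : GL I4 F) : Matrix I4 I4 F) =
        (cC : F) ∧ ¬ FixesHyp n := by
  classical
  have hn := hn_of_mem_normalizer hR hnN
  have hne32 : Fintype.card {x : E32 // Helper42_ES32Mat.sigma hφ n hn x = x} ≠ 32 := by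
    intro h32
    obtain ⟨c', hc'⟩ := scalar_of_card_fix hφ n hn R hRi hR h32
    exact hns c' hc'
  refine ⟨Fintype.card {x : E32 // Helper42_ES32Mat.sigma hφ n hn x = x}, card_fix_dvd hφ n hn, hne32,
    (card_fix_facts hφ hz n hn hr hc).1, (card_fix_facts hφ hz n hn hr hc).2,
    trace_formula hφ hz n hn R hRi hR h2 (theta_ne_neg hφ hz n hn hodd hc), ?_⟩
  intro hfh
  -- every commutator is singular
  have hsing : ∀ e : E32, Sing ((theta n hn e)⁻¹ * e) := by
    intro e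
    have hb : FixesHyp ((φ e)⁻¹ * n⁻¹ * φ e) := conj_fixesHyp (φ e) (inv_fixesHyp hfh)
    obtain ⟨v, hv, hfix⟩ := exists_fixed_of_fixesHyp hfh hb
    have heq : φ ((theta n hn e)⁻¹ * e) = n * ((φ e)⁻¹ * n⁻¹ * φ e) := by
      rw [map_mul, map_inv, phi_theta]
      group
    rw [← heq] at hfix
    exact sing_of_fixed hz h2 hv hfix
  have hinv := invol_of_sing (theta n hn) (theta_mul hφ n hn) (theta_injective hφ n hn)
    (theta_eZ hφ hz n hn) hsing
  have hσ2 : Helper42_ES32Mat.sigma hφ n hn ^ 2 = 1 := by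
    apply Equiv.ext
    intro x
    rw [pow_two, Equiv.Perm.mul_apply, sigma_apply, sigma_apply, Equiv.Perm.one_apply]
    exact hinv x
  have hσr := sigma_pow_eq_one hφ n hn hc
  have hσ1 : Helper42_ES32Mat.sigma hφ n hn = 1 := by
    have h1 : orderOf (Helper42_ES32Mat.sigma hφ n hn) ∣ 2 := orderOf_dvd_of_pow_eq_one hσ2
    have h3 : orderOf (Helper42_ES32Mat.sigma hφ n hn) ∣ r := orderOf_dvd_of_pow_eq_one hσr
    have h4 : orderOf (Helper42_ES32Mat.sigma hφ n hn) ∣ Nat.gcd 2 r := Nat.dvd_gcd h1 h3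
    have h5 : Nat.gcd 2 r = 1 := Nat.coprime_two_left.mpr hodd
    rw [h5, Nat.dvd_one, orderOf_eq_one_iff] at h4
    exact h4
  apply hne32
  have : ∀ x : E32, Helper42_ES32Mat.sigma hφ n hn x = x := by
    intro x; rw [hσ1, Equiv.Perm.one_apply]
  rw [← E32.card_eq]
  exact Fintype.card_of_subtype Finset.univ (fun x => by simp [this x])

end master

section conj

theorem conj_pow_scalar {x g : GL I4 F} {r : ℕ} {c : F}
    (hc : ((x ^ r : GL I4 F) : Matrix I4 I4 F) = c • (1 : Matrix I4 I4 F)) :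
    (((g⁻¹ * x * g) ^ r : GL I4 F) : Matrix I4 I4 F) = c • (1 : Matrix I4 I4 F) := by
  have h1 : (g⁻¹ * x * g) ^ r = g⁻¹ * x ^ r * g := by
    have := conj_pow (a := g⁻¹) (b := x) (i := r)
    rw [inv_inv] at this
    exact this
  rw [h1, Units.val_mul, Units.val_mul, hc, Matrix.mul_smul, Matrix.mul_one, Matrix.smul_mul,
    ← Units.val_mul, inv_mul_cancel, Units.val_one]

theorem conj_not_scalar {x g : GL I4 F}
    (hns : ∀ z : F, (x : Matrix I4 I4 F) ≠ z • (1 : Matrix I4 I4 F)) :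
    ∀ z : F, ((g⁻¹ * x * g : GL I4 F) : Matrix I4 I4 F) ≠ z • (1 : Matrix I4 I4 F) := by
  intro z hz
  apply hns z
  have h1 : x = g * (g⁻¹ * x * g) * g⁻¹ := by group
  rw [h1, Units.val_mul, Units.val_mul, hz, Matrix.mul_smul, Matrix.mul_one, Matrix.smul_mul,
    ← Units.val_mul, mul_inv_cancel, Units.val_one]

theorem trace_conj (x g : GL I4 F) :
    Matrix.trace ((g⁻¹ * x * g : GL I4 F) : Matrix I4 I4 F) = Matrix.trace (x : Matrix I4 I4 F) := by
  rw [Units.val_mul, Units.val_mul]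
  exact Matrix.trace_units_conj' g _

theorem trace_conj_inv (x g : GL I4 F) :
    Matrix.trace (((g⁻¹ * x * g)⁻¹ : GL I4 F) : Matrix I4 I4 F) =
      Matrix.trace ((x⁻¹ : GL I4 F) : Matrix I4 I4 F) := by
  have : (g⁻¹ * x * g)⁻¹ = g⁻¹ * x⁻¹ * g := by group
  rw [this]
  exact trace_conj _ _

end conj

section cases

variable {p : ℕ} [Fact p.Prime] [CharP F p]
  (R : Subgroup (GL I4 F))
  (hRi : Cfsg.Geo.ActsAbsolutelyIrreducibly (Cfsg.Geo.matrixSet R))
  {φ : E32 →* GL I4 F} (hφ : Function.Injective φ) (hR : φ.range = R) (hz : φ eZ = -1)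

theorem two_ne_zero_of_odd (hodd : Odd p) : (2 : F) ≠ 0 := by
  intro h
  have h1 : ((2 : ℕ) : F) = 0 := by exact_mod_cast h
  rw [CharP.cast_eq_zero_iff F p] at h1
  have hp : p.Prime := Fact.out
  have : p = 2 := (Nat.prime_dvd_prime_iff_eq hp Nat.prime_two).mp h1
  rw [this] at hodd
  exact absurd hodd (by decide)

include hRi hφ hR hz in
/-- a transvection has no conjugate in the normalizer -/
theorem tv_case (hodd : Odd p) (g : GL I4 F) :
    g⁻¹ * (tv : GL I4 F) * g ∉ Cfsg.Geo.subgroupNormalizer R := by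
  intro hmem
  have hp : p.Prime := Fact.out
  have h2 := two_ne_zero_of_odd (F := F) hodd
  have hc : (((tv : GL I4 F) ^ p : GL I4 F) : Matrix I4 I4 F) = (1 : F) • (1 : Matrix I4 I4 F) := by
    rw [tv_pow_char p, one_smul, Units.val_one]
  obtain ⟨cC, -, -, -, -, -, hfh⟩ := master R hRi hφ hR hz h2 hmem hp hodd (conj_pow_scalar (g := g) hc)
    (conj_not_scalar tv_not_scalar)
  exact hfh (conj_fixesHyp g tv_fixesHyp)

include hRi hφ hR hz in
/-- the order 3 element -/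
theorem three_case (hodd : Odd p) (hp3 : p ≠ 3) (g : GL I4 F) :
    g⁻¹ * (ordElt (-1 : F)) * g ∉ Cfsg.Geo.subgroupNormalizer R := by
  intro hmem
  have hp : p.Prime := Fact.out
  have h2 := two_ne_zero_of_odd (F := F) hodd
  have hc : (((ordElt (-1 : F)) ^ 3 : GL I4 F) : Matrix I4 I4 F) = (1 : F) • (1 : Matrix I4 I4 F) := by
    rw [ordElt_pow_three, one_smul, Units.val_one]
  obtain ⟨cC, hd, hne, h32, ⟨k, hk2, hkc, hk12⟩, htr, -⟩ := master R hRi hφ hR hz h2 hmem
    Nat.prime_three (by decide) (conj_pow_scalar (g := g) hc) (conj_not_scalar (ordElt_not_scalar _))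
  rw [trace_conj, trace_conj_inv, trace_ordElt, trace_ordElt_inv] at htr
  rcases arith_3 cC k hd hk2 hkc h32 hk12 with h | h
  · rw [h] at htr
    have h6 : ((6 : ℕ) : F) = 0 := by
      push_cast
      linear_combination -htr
    rw [CharP.cast_eq_zero_iff F p] at h6
    have h6' : p ∣ 2 * 3 := h6
    rcases (Nat.Prime.dvd_mul hp).mp h6' with h' | h'
    · have : p = 2 := (Nat.prime_dvd_prime_iff_eq hp Nat.prime_two).mp h'
      rw [this] at hodd
      exact absurd hodd (by decide)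
    · exact hp3 ((Nat.prime_dvd_prime_iff_eq hp Nat.prime_three).mp h')
  · exact hne h

include hRi hφ hR hz in
/-- the order 5 element -/
theorem five_case (hodd : Odd p) (hp5 : p ≠ 5) {τ : F} (hτ : τ ^ 2 + τ - 1 = 0) (g : GL I4 F) :
    g⁻¹ * (ordElt τ) * g ∉ Cfsg.Geo.subgroupNormalizer R := by
  intro hmem
  have hp : p.Prime := Fact.out
  have h2 := two_ne_zero_of_odd (F := F) hodd
  have hc : (((ordElt τ) ^ 5 : GL I4 F) : Matrix I4 I4 F) = (1 : F) • (1 : Matrix I4 I4 F) := by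
    rw [ordElt_pow_five hτ, one_smul, Units.val_one]
  obtain ⟨cC, hd, hne, h32, ⟨k, hk2, hkc, hk12⟩, htr, -⟩ := master R hRi hφ hR hz h2 hmem
    (by norm_num : Nat.Prime 5) (by decide) (conj_pow_scalar (g := g) hc)
    (conj_not_scalar (ordElt_not_scalar _))
  rw [trace_conj, trace_conj_inv, trace_ordElt, trace_ordElt_inv] at htr
  rcases arith_5 cC k hd hk2 hkc h32 with h | h
  · rw [h] at htr
    have hA : (τ + 2) ^ 2 - 1 = 0 := by
      have : (2 : F) * ((τ + 2) ^ 2 - 1) = 0 := by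
        push_cast at htr
        linear_combination htr
      rcases mul_eq_zero.mp this with h' | h'
      · exact absurd h' h2
      · exact h'
    have h5 : ((5 : ℕ) : F) = 0 := by
      push_cast
      linear_combination (3 * τ - 1) * (hA - hτ) - 9 * hτ
    rw [CharP.cast_eq_zero_iff F p] at h5
    exact hp5 ((Nat.prime_dvd_prime_iff_eq hp (by norm_num)).mp h5)
  · exact hne h

include hRi hφ hR hz in
/-- primes at least 7 -/
theorem ge7_case [Finite F] (hodd : Odd p) {r : ℕ} (hr : r.Prime) (h7 : 7 ≤ r)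
    (hdvd : r ∣ Nat.card (Cfsg.spGL 2 F)) :
    ∃ x ∈ Cfsg.spGL 2 F, (∃ z : F, ((x ^ r : GL I4 F) : Matrix I4 I4 F) = z • (1 : Matrix I4 I4 F)) ∧
      (∀ z : F, (x : Matrix I4 I4 F) ≠ z • (1 : Matrix I4 I4 F)) ∧
      ∀ g : GL I4 F, g⁻¹ * x * g ∉ Cfsg.Geo.subgroupNormalizer R := by
  have h2 := two_ne_zero_of_odd (F := F) hodd
  haveI : Fact r.Prime := ⟨hr⟩
  have hfin : Finite (GL I4 F) := inferInstance
  obtain ⟨x, hx⟩ := exists_prime_orderOf_dvd_card' (G := ↥(Cfsg.spGL 2 F)) r hdvd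
  have hxr : ((x : GL I4 F) ^ r : GL I4 F) = 1 := by
    have := pow_orderOf_eq_one x
    rw [hx] at this
    have h3 := congrArg (fun y : ↥(Cfsg.spGL 2 F) => (y : GL I4 F)) this
    simpa using h3
  have hc : (((x : GL I4 F) ^ r : GL I4 F) : Matrix I4 I4 F) = (1 : F) • (1 : Matrix I4 I4 F) := by
    rw [hxr, one_smul, Units.val_one]
  have hns : ∀ z : F, ((x : GL I4 F) : Matrix I4 I4 F) ≠ z • (1 : Matrix I4 I4 F) := by
    intro z hzz
    have hsq : (x : GL I4 F) ^ 2 = 1 := by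
      apply Units.ext
      rw [pow_two, Units.val_mul, hzz, Units.val_one, Matrix.smul_mul, Matrix.one_mul, smul_smul]
      rcases scalar_of_mem_sp x.2 hzz with h | h <;> rw [h] <;> simp
    have hsq' : x ^ 2 = 1 := by
      apply Subtype.ext
      simpa using hsq
    have := orderOf_dvd_of_pow_eq_one hsq'
    rw [hx] at this
    have := Nat.le_of_dvd (by norm_num) this
    omega
  refine ⟨x, x.2, ⟨1, hc⟩, hns, ?_⟩
  intro g hmem
  have hodd' : Odd r := hr.odd_of_ne_two (by omega)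
  obtain ⟨cC, hd, hne, h32, ⟨k, hk2, hkc, hk12⟩, -, -⟩ := master R hRi hφ hR hz h2 hmem
    hr hodd' (conj_pow_scalar (g := g) hc) (conj_not_scalar hns)
  exact hne (arith_ge7 r cC k hr h7 hd hk2 hkc h32 hk12)

omit [Fact p.Prime] [CharP F p] in
theorem isSquare_zmod5 : ∀ a : ZMod 5, a ≠ 0 → orderOf a ≠ 4 → IsSquare a := by
  intro a ha hord
  have key : ∀ a : ZMod 5, a ≠ 0 → a = 1 ∨ a = 4 ∨ (a ^ 4 = 1 ∧ a ^ 2 ≠ 1) := by decide
  rcases key a ha with h | h | ⟨h4, h2⟩
  · rw [h]; exact ⟨1, by decide⟩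
  · rw [h]; exact ⟨2, by decide⟩
  · exfalso
    apply hord
    have hd : orderOf a ∣ 4 := orderOf_dvd_of_pow_eq_one h4
    have hnd : ¬ orderOf a ∣ 2 := fun h => h2 (orderOf_dvd_iff_pow_eq_one.mp h)
    have hle := Nat.le_of_dvd (by norm_num) hd
    interval_cases h : orderOf a
    · simp at hd
    · exact absurd (one_dvd 2) hnd
    · exact absurd (dvd_refl 2) hnd
    · norm_num at hd
    · rfl

/-- the golden ratio in `F` -/
theorem exists_tau (hodd : Odd p) (hp5 : p ≠ 5) (hord : orderOf (p : ZMod 5) ≠ 4) :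
    ∃ τ : F, τ ^ 2 + τ - 1 = 0 := by
  have hp : p.Prime := Fact.out
  have h2 := two_ne_zero_of_odd (F := F) hodd
  haveI : Fact (Nat.Prime 5) := ⟨by norm_num⟩
  have hp0 : (p : ZMod 5) ≠ 0 := by
    intro h
    rw [ZMod.natCast_eq_zero_iff] at h
    exact hp5 ((Nat.prime_dvd_prime_iff_eq (by norm_num) hp).mp h).symm
  have hsq5 : IsSquare ((p : ℕ) : ZMod 5) := isSquare_zmod5 _ hp0 hord
  have hp2 : p ≠ 2 := by
    intro h; rw [h] at hodd; exact absurd hodd (by decide)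
  have hsq : IsSquare ((5 : ℕ) : ZMod p) :=
    (ZMod.exists_sq_eq_prime_iff_of_mod_four_eq_one (p := 5) (q := p) (by norm_num) hp2).mp hsq5
  obtain ⟨s, hs⟩ := hsq
  set s' : F := ZMod.castHom (dvd_refl p) F s with hs'
  have hss : s' * s' = 5 := by
    rw [hs', ← map_mul, ← hs, map_natCast]
    norm_num
  refine ⟨(s' - 1) / 2, ?_⟩
  field_simp
  linear_combination hss

include hRi hφ hR hz in
/-- the negative cases of S6002 -/
theorem forward [Finite F] (hodd : Odd p) {r : ℕ} (hr : r.Prime)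
    (hdvd : r ∣ Nat.card (Cfsg.spGL 2 F)) (hr2 : r ≠ 2)
    (hr5 : ¬ (r = 5 ∧ orderOf (p : ZMod 5) = 4)) :
    ∃ x ∈ Cfsg.spGL 2 F, (∃ z : F, ((x ^ r : GL I4 F) : Matrix I4 I4 F) = z • (1 : Matrix I4 I4 F)) ∧
      (∀ z : F, (x : Matrix I4 I4 F) ≠ z • (1 : Matrix I4 I4 F)) ∧
      ∀ g : GL I4 F, g⁻¹ * x * g ∉ Cfsg.Geo.subgroupNormalizer R := by
  have hr2' := hr.two_le
  by_cases h3 : r = 3
  · subst h3
    by_cases hp3 : p = 3
    · refine ⟨tv, tv_mem_sp, ⟨1, ?_⟩, tv_not_scalar, fun g => tv_case R hRi hφ hR hz hodd g⟩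
      have := tv_pow_char (F := F) p
      rw [hp3] at this
      rw [this, one_smul, Units.val_one]
    · refine ⟨ordElt (-1), ordElt_mem_sp _, ⟨1, ?_⟩, ordElt_not_scalar _,
        fun g => three_case R hRi hφ hR hz hodd hp3 g⟩
      rw [ordElt_pow_three, one_smul, Units.val_one]
  by_cases h5 : r = 5
  · subst h5
    by_cases hp5 : p = 5
    · refine ⟨tv, tv_mem_sp, ⟨1, ?_⟩, tv_not_scalar, fun g => tv_case R hRi hφ hR hz hodd g⟩
      have := tv_pow_char (F := F) p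
      rw [hp5] at this
      rw [this, one_smul, Units.val_one]
    · have hord : orderOf (p : ZMod 5) ≠ 4 := fun h => hr5 ⟨rfl, h⟩
      obtain ⟨τ, hτ⟩ := exists_tau (F := F) hodd hp5 hord
      refine ⟨ordElt τ, ordElt_mem_sp _, ⟨1, ?_⟩, ordElt_not_scalar _,
        fun g => five_case R hRi hφ hR hz hodd hp5 hτ g⟩
      rw [ordElt_pow_five hτ, one_smul, Units.val_one]
  have h7 : 7 ≤ r := by
    by_contra hlt
    push Not at hlt
    interval_cases r <;> first | omega | (exfalso; norm_num at hr)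
  exact ge7_case R hRi hφ hR hz hodd hr h7 hdvd

end cases

end Cfsg.Agent.Lib.Helper42_S6002Fwd
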