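import Mathlib
import Cfsg.Prelude.Def_GeometricClasses
import Cfsg.Prelude.Def_LieClassical
import Cfsg.Agent.Lib.Helper27_S6000_ELTS
import Cfsg.Agent.Lib.Helper5_SUCenter
import Cfsg.Agent.Lib.Helper13_SU3Graph
import Cfsg.Agent.Lib.Helper42_S6002Fwd

/-!
# Explicit elements of `SU₄(p)` (helper26, package S6001-PKG-UELTS for helper42)

A unitary transvection of order `p`, an element of order 3 with `tr x * tr x⁻¹ = 7` (`p ≡ 2 mod 3`),
an element of order 5 with both traces `τ + 2`, and the golden ratio in the prime field.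
-/

set_option autoImplicit false
set_option linter.unusedSectionVars false
set_option linter.unusedVariables false

open scoped MatrixGroups
open Matrix

namespace Cfsg.Agent.Lib.Helper26_S6001_UELTS

open Cfsg.Agent.Lib.Helper27_S6000_ELTS Cfsg.Agent.Lib.Helper13_Herm
open Cfsg.Agent.Lib.Helper5_GUOrder (IsU mem_GU_iff)
open Cfsg.Agent.Lib.Helper5_SUOrder (isU_diagonal)

variable {F : Type*} [Field F]

theorem blk_mulVec (a b c d : F) (x : Fin 4 → F) :
    blk a b c d *ᵥ x = ![a * x 0 + b * x 1, c * x 0 + d * x 1, x 2, x 3] := by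
  unfold blk
  ext i
  fin_cases i <;> simp [Matrix.mulVec, dotProduct, Fin.sum_univ_four]

/-- the unitarity conditions for a block matrix -/
theorem isU_blk [Fintype F] {q : ℕ} (hF : Fintype.card F = q ^ 2) (a b c d : F)
    (h1 : a * a ^ q + c * c ^ q = 1) (h2 : a * b ^ q + c * d ^ q = 0)
    (h3 : b * a ^ q + d * c ^ q = 0) (h4 : b * b ^ q + d * d ^ q = 1) :
    IsU 4 q (blk a b c d) := by
  intro u v
  unfold Cfsg.hermForm
  rw [Fin.sum_univ_four, Fin.sum_univ_four, blk_mulVec, blk_mulVec]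
  simp only [Matrix.cons_val_zero, Matrix.cons_val_one, Matrix.cons_val_two, Matrix.cons_val_three,
    Matrix.head_cons, Matrix.tail_cons]
  rw [add_pow_q hF, add_pow_q hF, mul_pow, mul_pow, mul_pow, mul_pow]
  linear_combination (u 0 * v 0 ^ q) * h1 + (u 0 * v 1 ^ q) * h2 + (u 1 * v 0 ^ q) * h3 +
    (u 1 * v 1 ^ q) * h4

theorem mem_of_isU_blk [Fintype F] {q : ℕ} (a b c d : F) (h : a * d - b * c = 1)
    (hU : IsU 4 q (blk a b c d)) :
    blkGL a b c d h ∈ Cfsg.GU 4 F q ⊓ Cfsg.Geo.specialLinear (Fin 4) F :=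
  ⟨(mem_GU_iff _).2 (by rw [blkGL_val]; exact hU), blkGL_mem _ _ _ _ _⟩

/-- the product of two transvections with the same isotropic vector -/
theorem tvu_mul (β β' a b : F) (hβ : β * β' = -1) :
    blk (1 + a) (a * β') (a * β) (1 - a) * blk (1 + b) (b * β') (b * β) (1 - b) =
      blk (1 + (a + b)) ((a + b) * β') ((a + b) * β) (1 - (a + b)) := by
  rw [blk_mul]
  congr 1
  · linear_combination (a * b) * hβ
  · ring
  · ring
  · linear_combination (a * b) * hβ

theorem tvu_pow (β β' a : F) (hβ : β * β' = -1) (k : ℕ) :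
    blk (1 + a) (a * β') (a * β) (1 - a) ^ k =
      blk (1 + (k : F) * a) ((k : F) * a * β') ((k : F) * a * β) (1 - (k : F) * a) := by
  induction k with
  | zero =>
    rw [pow_zero, Nat.cast_zero, ← blk_one]
    congr 1 <;> ring
  | succ k ih =>
    rw [pow_succ, ih, tvu_mul β β' _ _ hβ]
    congr 1 <;> push_cast <;> ring

theorem exists_transvection_U {F : Type*} [Field F] [Fintype F] {p : ℕ} [Fact p.Prime] [CharP F p]
    (hF : Fintype.card F = p ^ 2) :
    ∃ t : GL (Fin 4) F, t ∈ Cfsg.GU 4 F p ⊓ Cfsg.Geo.specialLinear (Fin 4) F ∧ t ^ p = 1 ∧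
      (∀ z : F, (t : Matrix (Fin 4) (Fin 4) F) ≠ z • (1 : Matrix (Fin 4) (Fin 4) F)) ∧
      ∃ f : (Fin 4 → F) →ₗ[F] F, ∀ v, f v = 0 → (t : Matrix (Fin 4) (Fin 4) F) *ᵥ v = v := by
  obtain ⟨β, hβ⟩ := Cfsg.Agent.Lib.Helper5_SUCenter.exists_norm_neg_one hF
  obtain ⟨a, ha0, ha⟩ := Cfsg.Agent.Lib.Helper5_SUCenter.exists_trace_zero hF
  have hap : a ^ p = -a := by linear_combination ha
  have hββ : (β ^ p) ^ p = β := pow_q_pow_q hF β
  have hβ0 : β ≠ 0 := by
    rintro rfl
    rw [zero_mul] at hβ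
    exact one_ne_zero (neg_eq_zero.1 hβ.symm)
  have hβp0 : β ^ p ≠ 0 := pow_ne_zero _ hβ0
  have hdet : (1 + a) * (1 - a) - a * β ^ p * (a * β) = 1 := by
    linear_combination (-(a * a)) * hβ
  have hU : IsU 4 p (blk (1 + a) (a * β ^ p) (a * β) (1 - a)) := by
    apply isU_blk hF
    · rw [add_pow_q hF, mul_pow, one_pow, hap]
      linear_combination (-(a * a)) * hβ
    · rw [mul_pow, sub_pow_q hF, one_pow, hap, hββ]
      ring
    · rw [add_pow_q hF, mul_pow, one_pow, hap]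
      ring
    · rw [mul_pow, sub_pow_q hF, one_pow, hap, hββ]
      linear_combination (-(a * a)) * hβ
  refine ⟨blkGL _ _ _ _ hdet, mem_of_isU_blk _ _ _ _ hdet hU, ?_, ?_, ?_⟩
  · apply Units.ext
    rw [blkGL_pow_val, tvu_pow β (β ^ p) a hβ, CharP.cast_eq_zero, Units.val_one, ← blk_one]
    congr 1 <;> ring
  · intro z
    rw [blkGL_val]
    exact blk_not_scalar _ _ _ _ (mul_ne_zero ha0 hβp0) z
  · refine ⟨(LinearMap.proj 0 : (Fin 4 → F) →ₗ[F] F) + (β ^ p) • (LinearMap.proj 1 : (Fin 4 → F) →ₗ[F] F), ?_⟩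
    intro v hv
    have hv1 : v 0 + β ^ p * v 1 = 0 := by simpa using hv
    have hv0 : v 0 = -(β ^ p * v 1) := by linear_combination hv1
    rw [blkGL_val, blk_mulVec]
    ext i
    fin_cases i
    · show (1 + a) * v 0 + a * β ^ p * v 1 = v 0
      linear_combination a * hv1
    · show a * β * v 0 + (1 - a) * v 1 = v 1
      rw [hv0]
      linear_combination (-(a * v 1)) * hβ
    · rfl
    · rfl

/-- a primitive cube root of unity of norm one when `p ≡ 2 mod 3` -/
theorem exists_omega_U {F : Type*} [Field F] [Fintype F] {p : ℕ} [Fact p.Prime] [CharP F p]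
    (hF : Fintype.card F = p ^ 2) (hp3 : p % 3 = 2) :
    ∃ ω : F, ω ^ 2 + ω + 1 = 0 ∧ ω * ω ^ p = 1 := by
  classical
  have hp : p.Prime := Fact.out
  have hcard : Fintype.card Fˣ = p ^ 2 - 1 := by rw [Fintype.card_units, hF]
  have hp1 : 1 ≤ p ^ 2 := Nat.one_le_pow _ _ hp.pos
  have h3 : 3 ∣ Fintype.card Fˣ := by
    rw [hcard]
    have e : p ^ 2 - 1 = (p - 1) * (p + 1) := by
      have := hp.one_lt
      zify [hp1, this.le]
      ring
    rw [e]
    exact Dvd.dvd.mul_left (by omega) _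
  have : Fact (Nat.Prime 3) := ⟨by norm_num⟩
  obtain ⟨u, hu⟩ := exists_prime_orderOf_dvd_card 3 h3
  have hu3 : u ^ 3 = 1 := by rw [← hu]; exact pow_orderOf_eq_one u
  have hu1 : u ≠ 1 := by
    rintro rfl
    rw [orderOf_one] at hu
    omega
  have hu3' : (u : F) ^ 3 = 1 := by
    have := congrArg Units.val hu3
    simpa using this
  refine ⟨(u : F), ?_, ?_⟩
  · have h1 : ((u : F) - 1) * ((u : F) ^ 2 + (u : F) + 1) = 0 := by linear_combination hu3'
    rcases mul_eq_zero.1 h1 with h | h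
    · exfalso
      apply hu1
      apply Units.ext
      rw [Units.val_one]
      linear_combination h
    · exact h
  · rw [← pow_succ']
    obtain ⟨k, hk⟩ : 3 ∣ p + 1 := by omega
    rw [hk, pow_mul, hu3', one_pow]

theorem exists_order3_U {F : Type*} [Field F] [Fintype F] {p : ℕ} [Fact p.Prime] [CharP F p]
    (hF : Fintype.card F = p ^ 2) (hp3 : p % 3 = 2) :
    ∃ x : GL (Fin 4) F, x ∈ Cfsg.GU 4 F p ⊓ Cfsg.Geo.specialLinear (Fin 4) F ∧ x ^ 3 = 1 ∧
      (∀ z : F, (x : Matrix (Fin 4) (Fin 4) F) ≠ z • (1 : Matrix (Fin 4) (Fin 4) F)) ∧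
      Matrix.trace (x : Matrix (Fin 4) (Fin 4) F) *
        Matrix.trace ((x⁻¹ : GL (Fin 4) F) : Matrix (Fin 4) (Fin 4) F) = 7 := by
  have hp : p.Prime := Fact.out
  obtain ⟨ω, hω, hωN⟩ := exists_omega_U hF hp3
  have h3 : (3 : F) ≠ 0 := by
    intro h
    have h' : ((3 : ℕ) : F) = 0 := by exact_mod_cast h
    rw [CharP.cast_eq_zero_iff F p] at h'
    have := (Nat.prime_dvd_prime_iff_eq hp (by norm_num)).1 h'
    omega
  have hω3 : ω ^ 3 = 1 := by linear_combination (ω - 1) * hω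
  have hinv : ω * ω ^ 2 = 1 := by linear_combination hω3
  have hinv' : ω ^ 2 * ω = 1 := by linear_combination hω3
  let x : GL (Fin 4) F :=
    { val := dg ω 1
      inv := dg (ω ^ 2) 1
      val_inv := by rw [dg_mul, hinv, mul_one, dg_one]
      inv_val := by rw [dg_mul, hinv', mul_one, dg_one] }
  have hxv : (x : Matrix (Fin 4) (Fin 4) F) = dg ω 1 := rfl
  have hxi : ((x⁻¹ : GL (Fin 4) F) : Matrix (Fin 4) (Fin 4) F) = dg (ω ^ 2) 1 := rfl
  refine ⟨x, Subgroup.mem_inf.2 ⟨?_, ?_⟩, ?_, ?_, ?_⟩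
  · rw [mem_GU_iff, hxv]
    unfold dg
    apply isU_diagonal
    intro i
    fin_cases i
    · simpa using hωN
    · simpa using hωN
    · simpa using hωN
    · simp
  · rw [mem_specialLinear_iff, hxv]
    unfold dg
    rw [Matrix.det_diagonal, Fin.prod_univ_four]
    simp
    linear_combination hω3
  · apply Units.ext
    rw [Units.val_pow_eq_pow_val, hxv, pow_succ, pow_two, dg_mul, dg_mul]
    have : ω * ω * ω = 1 := by linear_combination hω3
    rw [this, mul_one, mul_one, dg_one, Units.val_one]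
  · intro z hz
    rw [hxv] at hz
    have h00 := congrFun (congrFun hz 0) 0
    have h33 := congrFun (congrFun hz 3) 3
    unfold dg at h00 h33
    simp at h00 h33
    have hω1 : ω = 1 := by rw [h00, ← h33]
    rw [hω1] at hω
    apply h3
    linear_combination hω
  · rw [hxv, hxi]
    unfold dg
    simp [Matrix.trace, Fin.sum_univ_four]
    linear_combination 9 * hω3 + 3 * hω

/-- one step of the powers of a block matrix of determinant one -/
theorem pw_step (a b c t u v : F) (ht : 2 * a = t) (h : b * c = a ^ 2 - 1) :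
    blk (u * a - v) (u * b) (u * c) (u * a - v) * blk a b c a =
      blk ((t * u - v) * a - u) ((t * u - v) * b) ((t * u - v) * c) ((t * u - v) * a - u) := by
  subst ht
  rw [blk_mul]
  congr 1
  · linear_combination u * h
  · ring
  · ring
  · linear_combination u * h

theorem exists_order5_U {F : Type*} [Field F] [Fintype F] {p : ℕ} [Fact p.Prime] [CharP F p]
    (hF : Fintype.card F = p ^ 2) (h2 : (2 : F) ≠ 0) (h5 : (5 : F) ≠ 0)
    (τ : F) (hτ : τ ^ 2 + τ - 1 = 0) (hτp : τ ^ p = τ) :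
    ∃ x : GL (Fin 4) F, x ∈ Cfsg.GU 4 F p ⊓ Cfsg.Geo.specialLinear (Fin 4) F ∧ x ^ 5 = 1 ∧
      (∀ z : F, (x : Matrix (Fin 4) (Fin 4) F) ≠ z • (1 : Matrix (Fin 4) (Fin 4) F)) ∧
      Matrix.trace (x : Matrix (Fin 4) (Fin 4) F) = τ + 2 ∧
      Matrix.trace ((x⁻¹ : GL (Fin 4) F) : Matrix (Fin 4) (Fin 4) F) = τ + 2 := by
  have hp : p.Prime := Fact.out
  -- `a = τ / 2`, `b * b ^ p = 1 - a ^ 2`
  set a : F := τ / 2 with ha
  have h2p : (2 : F) ^ p = 2 := by
    have : ((2 : ℕ) : F) ^ p = ((2 : ℕ) : F) := by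
      rw [← frobenius_def, map_natCast]
    exact_mod_cast this
  have hap : a ^ p = a := by rw [ha, div_pow, hτp, h2p]
  have h2a : 2 * a = τ := by rw [ha]; field_simp
  have hc0 : 1 - a ^ 2 ≠ 0 := by
    intro h
    -- `4 - τ ^ 2 = 0` and `τ ^ 2 = 1 - τ` give `τ = -3`, then `5 = 0`
    have e1 : τ ^ 2 = 4 := by
      have : (2 * a) ^ 2 = 4 := by linear_combination (-4 : F) * h
      rwa [h2a] at this
    have e2 : τ = -3 := by linear_combination hτ - e1
    apply h5
    rw [e2] at e1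
    linear_combination e1
  have hcq : (1 - a ^ 2) ^ p = 1 - a ^ 2 := by
    rw [sub_pow_q hF, one_pow, ← pow_mul, mul_comm, pow_mul, hap]
  obtain ⟨b, hb⟩ := Cfsg.Agent.Lib.Helper13_SU3Graph.exists_norm_eq hF hc0 hcq
  have hbb : (b ^ p) ^ p = b := pow_q_pow_q hF b
  have hb0 : b ≠ 0 := by
    rintro rfl
    rw [zero_mul] at hb
    exact hc0 hb.symm
  have hdet : a * a - b * (-(b ^ p)) = 1 := by linear_combination hb
  have hU : IsU 4 p (blk a b (-(b ^ p)) a) := by
    apply isU_blk hF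
    · rw [hap, neg_pow_q hF, hbb]
      linear_combination hb
    · rw [hap]
      ring
    · rw [hap, neg_pow_q hF, hbb]
      ring
    · rw [hap]
      linear_combination hb
  -- `M ^ (k + 1) = u M - v`
  have hbc : b * (-(b ^ p)) = a ^ 2 - 1 := by linear_combination -hb
  refine ⟨blkGL _ _ _ _ hdet, mem_of_isU_blk _ _ _ _ hdet hU, ?_, ?_, ?_, ?_⟩
  · apply Units.ext
    rw [blkGL_pow_val]
    set c : F := -(b ^ p) with hc
    have p1 : blk a b c a ^ 1 = blk (1 * a - 0) (1 * b) (1 * c) (1 * a - 0) := by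
      rw [pow_one]; congr 1 <;> ring
    have p2 := pw_step a b c τ 1 0 h2a hbc
    have p3 := pw_step a b c τ (τ * 1 - 0) 1 h2a hbc
    have p4 := pw_step a b c τ (τ * (τ * 1 - 0) - 1) (τ * 1 - 0) h2a hbc
    have p5 := pw_step a b c τ (τ * (τ * (τ * 1 - 0) - 1) - (τ * 1 - 0)) (τ * (τ * 1 - 0) - 1) h2a hbc
    have e5 : blk a b c a ^ 5 = blk a b c a ^ 1 * blk a b c a * blk a b c a * blk a b c a *
        blk a b c a := by
      simp only [pow_succ, pow_zero, one_mul]
    rw [e5, p1, p2, p3, p4, p5, Units.val_one, ← blk_one]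
    congr 1
    · linear_combination (a * (τ ^ 2 - τ - 1) - (τ - 1)) * hτ
    · linear_combination (b * (τ ^ 2 - τ - 1)) * hτ
    · linear_combination (c * (τ ^ 2 - τ - 1)) * hτ
    · linear_combination (a * (τ ^ 2 - τ - 1) - (τ - 1)) * hτ
  · intro z
    rw [blkGL_val]
    exact blk_not_scalar _ _ _ _ hb0 z
  · rw [blkGL_val, trace_blk]
    linear_combination h2a
  · rw [blkGL_inv_val, trace_blk]
    linear_combination h2a

theorem exists_tau_U {F : Type*} [Field F] {p : ℕ} [Fact p.Prime] [CharP F p]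
    (hodd : Odd p) (hp5 : p ≠ 5) (hord : orderOf (p : ZMod 5) ≠ 4) :
    ∃ τ : F, τ ^ 2 + τ - 1 = 0 ∧ τ ^ p = τ := by
  have hp : p.Prime := Fact.out
  have h2 := Cfsg.Agent.Lib.Helper42_S6002Fwd.two_ne_zero_of_odd (F := F) hodd
  have : Fact (Nat.Prime 5) := ⟨by norm_num⟩
  have hp0 : (p : ZMod 5) ≠ 0 := by
    intro h
    rw [ZMod.natCast_eq_zero_iff] at h
    exact hp5 ((Nat.prime_dvd_prime_iff_eq (by norm_num) hp).mp h).symm
  have hsq5 : IsSquare ((p : ℕ) : ZMod 5) :=
    Cfsg.Agent.Lib.Helper42_S6002Fwd.isSquare_zmod5 _ hp0 hord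
  have hp2 : p ≠ 2 := by
    intro h; rw [h] at hodd; exact absurd hodd (by decide)
  have hsq : IsSquare ((5 : ℕ) : ZMod p) :=
    (ZMod.exists_sq_eq_prime_iff_of_mod_four_eq_one (p := 5) (q := p) (by norm_num) hp2).mp hsq5
  obtain ⟨s, hs⟩ := hsq
  set s' : F := ZMod.castHom (dvd_refl p) F s with hs'
  have hss : s' * s' = 5 := by
    rw [hs', ← map_mul, ← hs, map_natCast]
    norm_num
  have hsp : s' ^ p = s' := by
    rw [hs', ← map_pow, ZMod.pow_card]
  have h2p : (2 : F) ^ p = 2 := by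
    have : ((2 : ℕ) : F) ^ p = ((2 : ℕ) : F) := by
      rw [← frobenius_def, map_natCast]
    exact_mod_cast this
  refine ⟨(s' - 1) / 2, ?_, ?_⟩
  · field_simp
    linear_combination hss
  · rw [div_pow, sub_pow_char, one_pow, hsp, h2p]

end Cfsg.Agent.Lib.Helper26_S6001_UELTS
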