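import Mathlib

/-!
# The group `4 ∘ 2^{1+4}` of order 64 as an explicit finite group (helper42)

`E64` has elements `(t, i, j, k, l, s)` standing for `ι^t z^s a^i b^j c^k d^l` with `ι` central,
`ι² = z`, `a² = b² = z`, `ba = z ab`, `c² = d² = 1`, `dc = z cd`, the pairs commuting, `z` central.
-/

set_option autoImplicit false

namespace Cfsg.Agent.Lib.Helper42_E64

/-- the central product of `Z_4` with an extraspecial group of order 32 -/
@[ext]
structure E64 where
  t : ZMod 2
  i : ZMod 2
  j : ZMod 2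
  k : ZMod 2
  l : ZMod 2
  s : ZMod 2
deriving DecidableEq

namespace E64

/-- the equivalence with a product, used for the `Fintype` instance -/
def equivProd : (ZMod 2 × ZMod 2 × ZMod 2) × (ZMod 2 × ZMod 2 × ZMod 2) ≃ E64 where
  toFun p := ⟨p.1.1, p.1.2.1, p.1.2.2, p.2.1, p.2.2.1, p.2.2.2⟩
  invFun x := ((x.t, x.i, x.j), (x.k, x.l, x.s))
  left_inv _ := rfl
  right_inv _ := rfl

instance : Fintype E64 := Fintype.ofEquiv _ equivProd

instance : Mul E64 :=
  ⟨fun x y => ⟨x.t + y.t, x.i + y.i, x.j + y.j, x.k + y.k, x.l + y.l,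
    x.s + y.s + (x.j * y.i + x.i * y.i + x.j * y.j + x.l * y.k + x.t * y.t)⟩⟩

instance : One E64 := ⟨⟨0, 0, 0, 0, 0, 0⟩⟩

instance : Inv E64 :=
  ⟨fun x => ⟨x.t, x.i, x.j, x.k, x.l,
    x.s + (x.j * x.i + x.i * x.i + x.j * x.j + x.l * x.k + x.t * x.t)⟩⟩

theorem mul_def (x y : E64) : x * y = ⟨x.t + y.t, x.i + y.i, x.j + y.j, x.k + y.k, x.l + y.l,
    x.s + y.s + (x.j * y.i + x.i * y.i + x.j * y.j + x.l * y.k + x.t * y.t)⟩ := rfl

theorem one_def : (1 : E64) = ⟨0, 0, 0, 0, 0, 0⟩ := rfl

theorem inv_def (x : E64) : x⁻¹ = ⟨x.t, x.i, x.j, x.k, x.l,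
    x.s + (x.j * x.i + x.i * x.i + x.j * x.j + x.l * x.k + x.t * x.t)⟩ := rfl

theorem two_mul_zmod (a : ZMod 2) : a + a = 0 := by
  have : (2 : ZMod 2) = 0 := rfl
  linear_combination a * this

instance : Group E64 where
  mul_assoc x y z := by
    ext <;> simp only [mul_def] <;> ring
  one_mul x := by
    ext <;> simp [mul_def, one_def]
  mul_one x := by
    ext <;> simp [mul_def, one_def]
  inv_mul_cancel x := by
    ext
    · simp only [mul_def, inv_def, one_def]; exact two_mul_zmod _
    · simp only [mul_def, inv_def, one_def]; exact two_mul_zmod _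
    · simp only [mul_def, inv_def, one_def]; exact two_mul_zmod _
    · simp only [mul_def, inv_def, one_def]; exact two_mul_zmod _
    · simp only [mul_def, inv_def, one_def]; exact two_mul_zmod _
    · simp only [mul_def, inv_def, one_def]
      have h2 : (2 : ZMod 2) = 0 := rfl
      linear_combination (x.s + x.j * x.i + x.i * x.i + x.j * x.j + x.l * x.k + x.t * x.t) * h2

/-- generators -/
def fT : E64 := ⟨1, 0, 0, 0, 0, 0⟩
def fA : E64 := ⟨0, 1, 0, 0, 0, 0⟩
def fB : E64 := ⟨0, 0, 1, 0, 0, 0⟩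
def fC : E64 := ⟨0, 0, 0, 1, 0, 0⟩
def fD : E64 := ⟨0, 0, 0, 0, 1, 0⟩
def fZ : E64 := ⟨0, 0, 0, 0, 0, 1⟩

/-- central elements -/
def IsCen (x : E64) : Prop := x.i = 0 ∧ x.j = 0 ∧ x.k = 0 ∧ x.l = 0

instance (x : E64) : Decidable (IsCen x) := by unfold IsCen; infer_instance

theorem card_eq : Fintype.card E64 = 64 := by decide

theorem center_or : ∀ x : E64, IsCen x ∨ ∃ y : E64, x * y = fZ * (y * x) := by decide +kernel

theorem isCen_cases : ∀ x : E64, IsCen x → x = 1 ∨ x = fT ∨ x = fZ ∨ x = fT * fZ := by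
  decide +kernel

theorem isCen_comm : ∀ x y : E64, IsCen x → x * y = y * x := by decide +kernel

theorem sq_cases : ∀ x : E64, x * x = 1 ∨ x * x = fZ := by decide +kernel

theorem comm_cases : ∀ x y : E64, x * y = y * x ∨ x * y = fZ * (y * x) := by decide +kernel

theorem fZ_central : ∀ x : E64, x * fZ = fZ * x := by decide

theorem fT_central : ∀ x : E64, x * fT = fT * x := by decide

theorem fZ_ne_one : fZ ≠ 1 := by decide

theorem fZ_mul_self : fZ * fZ = 1 := by decide

theorem fT_mul_self : fT * fT = fZ := by decide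

theorem card_sq_eq_one : Fintype.card {x : E64 // x * x = 1} = 32 := by decide +kernel

/-- singular elements: involutions different from the central one, or trivial -/
def Sing (x : E64) : Prop := x * x = 1 ∧ x ≠ fZ

instance (x : E64) : Decidable (Sing x) := by unfold Sing; infer_instance

theorem sing_comm : ∀ a b : E64, Sing a → Sing b → (Sing (a * b) ∨ Sing (fZ * (a * b))) →
    a * b = b * a := by decide +kernel

theorem card_sing_comm : ∀ a : E64, Sing a → a ≠ 1 →
    Fintype.card {b : E64 // Sing b ∧ a * b = b * a} = 15 := by decide +kernel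

theorem card_centralizer : ∀ v : E64, ¬ IsCen v →
    Fintype.card {x : E64 // x * v = v * x} = 32 := by decide +kernel

end E64

end Cfsg.Agent.Lib.Helper42_E64
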