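import Mathlib
import Cfsg.Prelude.Def_GeometricClasses
import Cfsg.Agent.Lib.Helper42_E64

/-!
# A reflection in the normalizer of `4 ∘ 2^{1+4}` (package S6000-PKG-REFL of helper42) — helper31

For an embedding `ψ` of `E64 = 4 ∘ 2^{1+4}` into `GL_4(F)` with `ψ fT = ι • 1`, `ι² = -1`, the matrix
`s = 1 - (1 + a)(1 + c)/2` (`a = ψ (fT * fA)`, `c = ψ fC` commuting involutions) satisfies `s * s = 1`, has
trace `2` and normalizes the image of `ψ`.
-/

set_option autoImplicit false
set_option linter.unusedSimpArgs false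
set_option linter.unusedVariables false

namespace Cfsg.Agent.Lib.Helper31_S6000_REFL

open scoped MatrixGroups
open Cfsg.Agent.Lib.Helper42_E64 Cfsg.Agent.Lib.Helper42_E64.E64

section Alg

variable {F : Type*} [Field F] {n : Type*} [Fintype n] [DecidableEq n]

/-- moving `X` across `1 - (1 + A)(1 + C)/2` when `X` commutes with `A`, `C` up to signs -/
theorem move_across (A C X : Matrix n n F) (εA εC : F) (hA : X * A = εA • (A * X))
    (hC : X * C = εC • (C * X)) :
    X * (1 - (2 : F)⁻¹ • (1 + A + C + A * C)) =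
      (1 - (2 : F)⁻¹ • (1 + εA • A + εC • C + (εA * εC) • (A * C))) * X := by
  have hAC : X * (A * C) = (εA * εC) • (A * C * X) := by
    rw [← mul_assoc, hA, smul_mul_assoc, mul_assoc, hC, mul_smul_comm, smul_smul, mul_assoc]
  simp only [mul_sub, sub_mul, mul_add, add_mul, mul_one, one_mul, mul_smul_comm, smul_mul_assoc,
    hA, hC, hAC]

variable (A C : Matrix n n F) (h2 : (2 : F) ≠ 0) (hAA : A * A = 1) (hCC : C * C = 1)
  (hAC : A * C = C * A)
include h2 hAA hCC hAC

theorem refl_pp : (1 - (2 : F)⁻¹ • (1 + A + C + A * C)) *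
    (1 - (2 : F)⁻¹ • (1 + (1 : F) • A + (1 : F) • C + ((1 : F) * 1) • (A * C))) = 1 := by
  have hCA : C * A = A * C := hAC.symm
  have r1 : ∀ x, A * (A * x) = x := fun x => by rw [← mul_assoc, hAA, one_mul]
  have r2 : ∀ x, C * (C * x) = x := fun x => by rw [← mul_assoc, hCC, one_mul]
  have r3 : ∀ x, C * (A * x) = A * (C * x) := fun x => by rw [← mul_assoc, hCA, mul_assoc]
  simp only [mul_sub, sub_mul, mul_add, add_mul, mul_one, one_mul, mul_smul_comm, smul_mul_assoc,
    mul_assoc, hAA, hCC, hCA, r1, r2, r3, one_smul]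
  match_scalars <;> field_simp <;> ring

theorem refl_mp : (1 - (2 : F)⁻¹ • (1 + A + C + A * C)) *
    (1 - (2 : F)⁻¹ • (1 + (-1 : F) • A + (1 : F) • C + ((-1 : F) * 1) • (A * C))) = -C := by
  have hCA : C * A = A * C := hAC.symm
  have r1 : ∀ x, A * (A * x) = x := fun x => by rw [← mul_assoc, hAA, one_mul]
  have r2 : ∀ x, C * (C * x) = x := fun x => by rw [← mul_assoc, hCC, one_mul]
  have r3 : ∀ x, C * (A * x) = A * (C * x) := fun x => by rw [← mul_assoc, hCA, mul_assoc]
  simp only [mul_sub, sub_mul, mul_add, add_mul, mul_one, one_mul, mul_smul_comm, smul_mul_assoc,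
    mul_assoc, hAA, hCC, hCA, r1, r2, r3, one_smul]
  match_scalars <;> field_simp <;> ring

theorem refl_pm : (1 - (2 : F)⁻¹ • (1 + A + C + A * C)) *
    (1 - (2 : F)⁻¹ • (1 + (1 : F) • A + (-1 : F) • C + ((1 : F) * (-1)) • (A * C))) = -A := by
  have hCA : C * A = A * C := hAC.symm
  have r1 : ∀ x, A * (A * x) = x := fun x => by rw [← mul_assoc, hAA, one_mul]
  have r2 : ∀ x, C * (C * x) = x := fun x => by rw [← mul_assoc, hCC, one_mul]
  have r3 : ∀ x, C * (A * x) = A * (C * x) := fun x => by rw [← mul_assoc, hCA, mul_assoc]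
  simp only [mul_sub, sub_mul, mul_add, add_mul, mul_one, one_mul, mul_smul_comm, smul_mul_assoc,
    mul_assoc, hAA, hCC, hCA, r1, r2, r3, one_smul]
  match_scalars <;> field_simp <;> ring

theorem refl_mm : (1 - (2 : F)⁻¹ • (1 + A + C + A * C)) *
    (1 - (2 : F)⁻¹ • (1 + (-1 : F) • A + (-1 : F) • C + ((-1 : F) * (-1)) • (A * C))) = -(A * C) := by
  have hCA : C * A = A * C := hAC.symm
  have r1 : ∀ x, A * (A * x) = x := fun x => by rw [← mul_assoc, hAA, one_mul]
  have r2 : ∀ x, C * (C * x) = x := fun x => by rw [← mul_assoc, hCC, one_mul]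
  have r3 : ∀ x, C * (A * x) = A * (C * x) := fun x => by rw [← mul_assoc, hCA, mul_assoc]
  simp only [mul_sub, sub_mul, mul_add, add_mul, mul_one, one_mul, mul_smul_comm, smul_mul_assoc,
    mul_assoc, hAA, hCC, hCA, r1, r2, r3, one_smul]
  match_scalars <;> field_simp <;> ring

end Alg

theorem exists_reflection {F : Type*} [Field F] (h2 : (2 : F) ≠ 0) (R : Subgroup (GL (Fin 4) F))
    (ψ : E64 →* GL (Fin 4) F) (ι : F) (hψ : Function.Injective ψ) (hR : ψ.range = R)
    (hι : ι * ι = -1)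
    (hT : ((ψ fT : GL (Fin 4) F) : Matrix (Fin 4) (Fin 4) F) = ι • (1 : Matrix (Fin 4) (Fin 4) F)) :
    ∃ s ∈ Cfsg.Geo.subgroupNormalizer R,
      (s : Matrix (Fin 4) (Fin 4) F) * (s : Matrix (Fin 4) (Fin 4) F) = 1 ∧
      Matrix.trace (s : Matrix (Fin 4) (Fin 4) F) = 2 := by
  -- the matrices of the elements of `E64`
  let M : E64 → Matrix (Fin 4) (Fin 4) F := fun g => ((ψ g : GL (Fin 4) F) : Matrix (Fin 4) (Fin 4) F)
  have hM_mul : ∀ g g' : E64, M (g * g') = M g * M g' := by
    intro g g'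
    show ((ψ (g * g') : GL (Fin 4) F) : Matrix (Fin 4) (Fin 4) F) = _
    rw [map_mul]
    rfl
  have hM_one : M 1 = 1 := by
    show ((ψ 1 : GL (Fin 4) F) : Matrix (Fin 4) (Fin 4) F) = 1
    rw [map_one]
    rfl
  have hMZ : M fZ = -1 := by
    rw [← E64.fT_mul_self, hM_mul]
    show ((ψ fT : GL (Fin 4) F) : Matrix (Fin 4) (Fin 4) F) *
      ((ψ fT : GL (Fin 4) F) : Matrix (Fin 4) (Fin 4) F) = -1
    rw [hT, smul_mul_smul_comm, hι, mul_one, neg_smul, one_smul]
  have hMinv : ∀ g : E64, M g * M g⁻¹ = 1 := by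
    intro g
    rw [← hM_mul, mul_inv_cancel, hM_one]
  have hMinv' : ∀ g : E64, M g⁻¹ * M g = 1 := by
    intro g
    rw [← hM_mul, inv_mul_cancel, hM_one]
  -- non-central elements have trace zero
  have htr : ∀ g : E64, ¬ IsCen g → Matrix.trace (M g) = 0 := by
    intro g hg
    rcases E64.center_or g with h | ⟨y, hy⟩
    · exact absurd h hg
    · have h1 : g = fZ * (y * (g * y⁻¹)) := by
        calc g = (g * y) * y⁻¹ := by group
          _ = fZ * (y * g) * y⁻¹ := by rw [hy]
          _ = fZ * (y * (g * y⁻¹)) := by group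
      have h3 : M g = -(M y * (M g * M y⁻¹)) := by
        conv_lhs => rw [h1]
        rw [hM_mul, hMZ, hM_mul, hM_mul, neg_one_mul]
      have h4 : Matrix.trace (M g) = -Matrix.trace (M g) := by
        conv_lhs => rw [h3]
        rw [Matrix.trace_neg, Matrix.trace_mul_comm, mul_assoc, hMinv', mul_one]
      have h5 : (2 : F) * Matrix.trace (M g) = 0 := by
        rw [two_mul]
        nth_rewrite 1 [h4]
        exact neg_add_cancel _
      rcases mul_eq_zero.1 h5 with h | h
      · exact absurd h h2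
      · exact h
  -- the two commuting involutions
  have hAA : M (fT * fA) * M (fT * fA) = 1 := by
    rw [← hM_mul, show (fT * fA) * (fT * fA) = (1 : E64) by decide, hM_one]
  have hCC : M fC * M fC = 1 := by
    rw [← hM_mul, show fC * fC = (1 : E64) by decide, hM_one]
  have hAC : M (fT * fA) * M fC = M fC * M (fT * fA) := by
    rw [← hM_mul, ← hM_mul, show (fT * fA) * fC = fC * (fT * fA) by decide]
  -- the reflection
  have hss := refl_pp (M (fT * fA)) (M fC) h2 hAA hCC hAC
  simp only [one_smul, mul_one] at hss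
  set S : Matrix (Fin 4) (Fin 4) F :=
    1 - (2 : F)⁻¹ • (1 + M (fT * fA) + M fC + M (fT * fA) * M fC) with hS
  -- conjugates of the elements of `E64`
  have hkey : ∀ e : E64, ∃ e' : E64, S * M e * S = M e' := by
    intro e
    have hcA : ∀ e : E64, (M e * M (fT * fA) = (1 : F) • (M (fT * fA) * M e)) ∨
        (M e * M (fT * fA) = (-1 : F) • (M (fT * fA) * M e)) := by
      intro e
      rcases E64.comm_cases e (fT * fA) with h | h
      · left; rw [one_smul, ← hM_mul, ← hM_mul, h]
      · right; rw [← hM_mul, h, hM_mul, hMZ, hM_mul, neg_one_mul, neg_smul, one_smul]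
    have hcC : ∀ e : E64, (M e * M fC = (1 : F) • (M fC * M e)) ∨
        (M e * M fC = (-1 : F) • (M fC * M e)) := by
      intro e
      rcases E64.comm_cases e fC with h | h
      · left; rw [one_smul, ← hM_mul, ← hM_mul, h]
      · right; rw [← hM_mul, h, hM_mul, hMZ, hM_mul, neg_one_mul, neg_smul, one_smul]
    rcases hcA e with hA | hA <;> rcases hcC e with hC | hC
    · refine ⟨e, ?_⟩
      rw [mul_assoc, move_across _ _ _ _ _ hA hC, ← mul_assoc,
        refl_pp (M (fT * fA)) (M fC) h2 hAA hCC hAC, one_mul]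
    · refine ⟨fZ * (fT * fA) * e, ?_⟩
      rw [mul_assoc, move_across _ _ _ _ _ hA hC, ← mul_assoc,
        refl_pm (M (fT * fA)) (M fC) h2 hAA hCC hAC, hM_mul (fZ * (fT * fA)) e,
        hM_mul fZ (fT * fA), hMZ, neg_one_mul]
    · refine ⟨fZ * fC * e, ?_⟩
      rw [mul_assoc, move_across _ _ _ _ _ hA hC, ← mul_assoc,
        refl_mp (M (fT * fA)) (M fC) h2 hAA hCC hAC, hM_mul (fZ * fC) e, hM_mul fZ fC, hMZ,
        neg_one_mul]
    · refine ⟨fZ * ((fT * fA) * fC) * e, ?_⟩
      rw [mul_assoc, move_across _ _ _ _ _ hA hC, ← mul_assoc,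
        refl_mm (M (fT * fA)) (M fC) h2 hAA hCC hAC, hM_mul (fZ * ((fT * fA) * fC)) e,
        hM_mul fZ ((fT * fA) * fC), hM_mul (fT * fA) fC, hMZ, neg_one_mul]
  -- the element of `GL`
  let s : GL (Fin 4) F := ⟨S, S, hss, hss⟩
  have hsinv : s⁻¹ = s := by
    apply Units.ext
    rfl
  have hconj : ∀ r ∈ R, s * r * s⁻¹ ∈ R := by
    intro r hr
    rw [← hR] at hr ⊢
    obtain ⟨e, rfl⟩ := hr
    obtain ⟨e', he'⟩ := hkey e
    refine ⟨e', ?_⟩
    apply Units.ext
    rw [hsinv]
    exact he'.symm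
  refine ⟨s, ?_, hss, ?_⟩
  · show s ∈ Subgroup.normalizer (R : Set (GL (Fin 4) F))
    rw [Subgroup.mem_set_normalizer_iff]
    intro r
    constructor
    · exact hconj r
    · intro h
      have h1 := hconj _ h
      have h3 : s * (s * r * s⁻¹) * s⁻¹ = r := by
        have hs2 : s * s = 1 := Units.ext hss
        rw [hsinv]
        calc s * (s * r * s) * s = (s * s) * r * (s * s) := by group
          _ = r := by rw [hs2, one_mul, mul_one]
      rwa [h3] at h1
  · show Matrix.trace S = 2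
    have hAC0 : Matrix.trace (M (fT * fA) * M fC) = 0 := by
      rw [← hM_mul]
      exact htr _ (by decide)
    rw [hS, Matrix.trace_sub, Matrix.trace_smul, Matrix.trace_add, Matrix.trace_add,
      Matrix.trace_add, hAC0, htr (fT * fA) (by decide), htr fC (by decide), Matrix.trace_one,
      Fintype.card_fin, smul_eq_mul]
    field_simp
    norm_num

end Cfsg.Agent.Lib.Helper31_S6000_REFL
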