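import Mathlib
import Cfsg.Prelude.Def_GeometricClasses
import Cfsg.Prelude.Def_LieClassical
import Cfsg.Agent.Lib.Helper42_E64
import Cfsg.Agent.Lib.Helper31_S6000_REFL
import Cfsg.Agent.Lib.Helper5_GUOrder

/-!
# A unitary reflection in the normalizer of `4 ∘ 2^{1+4}` (helper26, package S6001-PKG-UREFL for helper42)

The unitary twin of `Helper31_S6000_REFL.exists_reflection`: when the image of `ψ` lies in `GU_4(p)` the
reflection `s = 1 - (1 + a)(1 + c)/2` is unitary (the involutions `a`, `c` are self-adjoint for the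
Hermitian form) and not a scalar.
-/

set_option autoImplicit false
set_option linter.unusedSimpArgs false
set_option linter.unusedVariables false
set_option linter.unusedSectionVars false

namespace Cfsg.Agent.Lib.Helper26_S6001_UREFL

open scoped MatrixGroups
open Matrix
open Cfsg.Agent.Lib.Helper42_E64 Cfsg.Agent.Lib.Helper42_E64.E64
open Cfsg.Agent.Lib.Helper31_S6000_REFL
open Cfsg.Agent.Lib.Helper13_Herm
open Cfsg.Agent.Lib.Helper5_GUOrder (IsU mem_GU_iff)

section SA

variable {F : Type*} [Field F] [Fintype F] {q : ℕ} {n : ℕ}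

/-- self-adjoint matrices for the Hermitian form -/
def SA (n q : ℕ) (X : Matrix (Fin n) (Fin n) F) : Prop :=
  ∀ u v, Cfsg.hermForm n F q (X *ᵥ u) v = Cfsg.hermForm n F q u (X *ᵥ v)

theorem sa_of_isU_invol {X : Matrix (Fin n) (Fin n) F} (hU : IsU n q X) (hX : X * X = 1) :
    SA n q X := by
  intro u v
  have h1 : X *ᵥ (X *ᵥ v) = v := by rw [Matrix.mulVec_mulVec, hX, Matrix.one_mulVec]
  calc Cfsg.hermForm n F q (X *ᵥ u) v = Cfsg.hermForm n F q (X *ᵥ u) (X *ᵥ (X *ᵥ v)) := by rw [h1]
    _ = Cfsg.hermForm n F q u (X *ᵥ v) := hU u (X *ᵥ v)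

theorem sa_one : SA n q (1 : Matrix (Fin n) (Fin n) F) := by
  intro u v
  rw [Matrix.one_mulVec, Matrix.one_mulVec]

theorem sa_add (hF : Fintype.card F = q ^ 2) {X Y : Matrix (Fin n) (Fin n) F} (hX : SA n q X)
    (hY : SA n q Y) : SA n q (X + Y) := by
  intro u v
  rw [Matrix.add_mulVec, Matrix.add_mulVec, hermForm_add_left, hermForm_add_right n hF, hX, hY]

theorem sa_smul {X : Matrix (Fin n) (Fin n) F} (c : F) (hc : c ^ q = c) (hX : SA n q X) :
    SA n q (c • X) := by
  intro u v
  rw [Matrix.smul_mulVec, Matrix.smul_mulVec, hermForm_smul_left, hermForm_smul_right, hc, hX]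

theorem sa_mul {X Y : Matrix (Fin n) (Fin n) F} (hX : SA n q X) (hY : SA n q Y)
    (hXY : X * Y = Y * X) : SA n q (X * Y) := by
  intro u v
  rw [← Matrix.mulVec_mulVec, hX, hY, Matrix.mulVec_mulVec, hXY]

theorem isU_of_sa_invol {X : Matrix (Fin n) (Fin n) F} (hX : SA n q X) (hXX : X * X = 1) :
    IsU n q X := by
  intro u v
  rw [hX, Matrix.mulVec_mulVec, hXX, Matrix.one_mulVec]

end SA

theorem exists_reflection_U {F : Type*} [Field F] [Fintype F] {p : ℕ} [Fact p.Prime] [CharP F p]
    (hF : Fintype.card F = p ^ 2) (h2 : (2 : F) ≠ 0) (R : Subgroup (GL (Fin 4) F))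
    (hRU : R ≤ Cfsg.GU 4 F p)
    (ψ : E64 →* GL (Fin 4) F) (ι : F) (hψ : Function.Injective ψ) (hR : ψ.range = R)
    (hι : ι * ι = -1)
    (hT : ((ψ fT : GL (Fin 4) F) : Matrix (Fin 4) (Fin 4) F) = ι • (1 : Matrix (Fin 4) (Fin 4) F)) :
    ∃ s ∈ Cfsg.Geo.subgroupNormalizer R, s ∈ Cfsg.GU 4 F p ∧
      (s : Matrix (Fin 4) (Fin 4) F) * (s : Matrix (Fin 4) (Fin 4) F) = 1 ∧
      Matrix.trace (s : Matrix (Fin 4) (Fin 4) F) = 2 ∧
      ∀ c : F, (s : Matrix (Fin 4) (Fin 4) F) ≠ c • (1 : Matrix (Fin 4) (Fin 4) F) := by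
  -- the matrices of the elements of `E64`
  let M : E64 → Matrix (Fin 4) (Fin 4) F := fun g => ((ψ g : GL (Fin 4) F) : Matrix (Fin 4) (Fin 4) F)
  have hM_mul : ∀ g g' : E64, M (g * g') = M g * M g' := by
    intro g g'
    show ((ψ (g * g') : GL (Fin 4) F) : Matrix (Fin 4) (Fin 4) F) = _
    rw [map_mul]
    rfl
  have hM_one : M 1 = 1 := by
    show ((ψ 1 : GL (Fin 4) F) : Matrix (Fin 4) (Fin 4) F) = 1
    rw [map_one]
    rfl
  have hMU : ∀ g : E64, IsU 4 p (M g) := by
    intro g
    have : ψ g ∈ Cfsg.GU 4 F p := hRU (by rw [← hR]; exact ⟨g, rfl⟩)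
    exact (mem_GU_iff _).1 this
  have hMZ : M fZ = -1 := by
    rw [← E64.fT_mul_self, hM_mul]
    show ((ψ fT : GL (Fin 4) F) : Matrix (Fin 4) (Fin 4) F) *
      ((ψ fT : GL (Fin 4) F) : Matrix (Fin 4) (Fin 4) F) = -1
    rw [hT, smul_mul_smul_comm, hι, mul_one, neg_smul, one_smul]
  have hMinv : ∀ g : E64, M g * M g⁻¹ = 1 := by
    intro g
    rw [← hM_mul, mul_inv_cancel, hM_one]
  have hMinv' : ∀ g : E64, M g⁻¹ * M g = 1 := by
    intro g
    rw [← hM_mul, inv_mul_cancel, hM_one]
  -- non-central elements have trace zero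
  have htr : ∀ g : E64, ¬ IsCen g → Matrix.trace (M g) = 0 := by
    intro g hg
    rcases E64.center_or g with h | ⟨y, hy⟩
    · exact absurd h hg
    · have h1 : g = fZ * (y * (g * y⁻¹)) := by
        calc g = (g * y) * y⁻¹ := by group
          _ = fZ * (y * g) * y⁻¹ := by rw [hy]
          _ = fZ * (y * (g * y⁻¹)) := by group
      have h3 : M g = -(M y * (M g * M y⁻¹)) := by
        conv_lhs => rw [h1]
        rw [hM_mul, hMZ, hM_mul, hM_mul, neg_one_mul]
      have h4 : Matrix.trace (M g) = -Matrix.trace (M g) := by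
        conv_lhs => rw [h3]
        rw [Matrix.trace_neg, Matrix.trace_mul_comm, mul_assoc, hMinv', mul_one]
      have h5 : (2 : F) * Matrix.trace (M g) = 0 := by
        rw [two_mul]
        nth_rewrite 1 [h4]
        exact neg_add_cancel _
      rcases mul_eq_zero.1 h5 with h | h
      · exact absurd h h2
      · exact h
  -- the two commuting involutions
  have hAA : M (fT * fA) * M (fT * fA) = 1 := by
    rw [← hM_mul, show (fT * fA) * (fT * fA) = (1 : E64) by decide, hM_one]
  have hCC : M fC * M fC = 1 := by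
    rw [← hM_mul, show fC * fC = (1 : E64) by decide, hM_one]
  have hAC : M (fT * fA) * M fC = M fC * M (fT * fA) := by
    rw [← hM_mul, ← hM_mul, show (fT * fA) * fC = fC * (fT * fA) by decide]
  -- the reflection
  have hss := refl_pp (M (fT * fA)) (M fC) h2 hAA hCC hAC
  simp only [one_smul, mul_one] at hss
  set S : Matrix (Fin 4) (Fin 4) F :=
    1 - (2 : F)⁻¹ • (1 + M (fT * fA) + M fC + M (fT * fA) * M fC) with hS
  -- conjugates of the elements of `E64`
  have hkey : ∀ e : E64, ∃ e' : E64, S * M e * S = M e' := by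
    intro e
    have hcA : ∀ e : E64, (M e * M (fT * fA) = (1 : F) • (M (fT * fA) * M e)) ∨
        (M e * M (fT * fA) = (-1 : F) • (M (fT * fA) * M e)) := by
      intro e
      rcases E64.comm_cases e (fT * fA) with h | h
      · left; rw [one_smul, ← hM_mul, ← hM_mul, h]
      · right; rw [← hM_mul, h, hM_mul, hMZ, hM_mul, neg_one_mul, neg_smul, one_smul]
    have hcC : ∀ e : E64, (M e * M fC = (1 : F) • (M fC * M e)) ∨
        (M e * M fC = (-1 : F) • (M fC * M e)) := by
      intro e
      rcases E64.comm_cases e fC with h | h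
      · left; rw [one_smul, ← hM_mul, ← hM_mul, h]
      · right; rw [← hM_mul, h, hM_mul, hMZ, hM_mul, neg_one_mul, neg_smul, one_smul]
    rcases hcA e with hA | hA <;> rcases hcC e with hC | hC
    · refine ⟨e, ?_⟩
      rw [mul_assoc, move_across _ _ _ _ _ hA hC, ← mul_assoc,
        refl_pp (M (fT * fA)) (M fC) h2 hAA hCC hAC, one_mul]
    · refine ⟨fZ * (fT * fA) * e, ?_⟩
      rw [mul_assoc, move_across _ _ _ _ _ hA hC, ← mul_assoc,
        refl_pm (M (fT * fA)) (M fC) h2 hAA hCC hAC, hM_mul (fZ * (fT * fA)) e,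
        hM_mul fZ (fT * fA), hMZ, neg_one_mul]
    · refine ⟨fZ * fC * e, ?_⟩
      rw [mul_assoc, move_across _ _ _ _ _ hA hC, ← mul_assoc,
        refl_mp (M (fT * fA)) (M fC) h2 hAA hCC hAC, hM_mul (fZ * fC) e, hM_mul fZ fC, hMZ,
        neg_one_mul]
    · refine ⟨fZ * ((fT * fA) * fC) * e, ?_⟩
      rw [mul_assoc, move_across _ _ _ _ _ hA hC, ← mul_assoc,
        refl_mm (M (fT * fA)) (M fC) h2 hAA hCC hAC, hM_mul (fZ * ((fT * fA) * fC)) e,
        hM_mul fZ ((fT * fA) * fC), hM_mul (fT * fA) fC, hMZ, neg_one_mul]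
  -- the element of `GL`
  let s : GL (Fin 4) F := ⟨S, S, hss, hss⟩
  have hsinv : s⁻¹ = s := by
    apply Units.ext
    rfl
  have hconj : ∀ r ∈ R, s * r * s⁻¹ ∈ R := by
    intro r hr
    rw [← hR] at hr ⊢
    obtain ⟨e, rfl⟩ := hr
    obtain ⟨e', he'⟩ := hkey e
    refine ⟨e', ?_⟩
    apply Units.ext
    rw [hsinv]
    exact he'.symm
  -- traces
  have hAC0 : Matrix.trace (M (fT * fA) * M fC) = 0 := by
    rw [← hM_mul]
    exact htr _ (by decide)
  have h4 : (4 : F) ≠ 0 := by
    have : (4 : F) = 2 * 2 := by norm_num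
    rw [this]
    exact mul_ne_zero h2 h2
  -- self-adjointness
  have h2p : (2 : F) ^ p = 2 := by
    have : ((2 : ℕ) : F) ^ p = ((2 : ℕ) : F) := by
      rw [← frobenius_def, map_natCast]
    exact_mod_cast this
  have hcp : (-(2 : F)⁻¹) ^ p = -(2 : F)⁻¹ := by
    rw [neg_pow_q hF, inv_pow, h2p]
  have hSA : SA 4 p S := by
    have e : S = 1 + (-(2 : F)⁻¹) • (1 + M (fT * fA) + M fC + M (fT * fA) * M fC) := by
      rw [hS, neg_smul, sub_eq_add_neg]
    rw [e]
    have sA := sa_of_isU_invol (hMU (fT * fA)) hAA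
    have sC := sa_of_isU_invol (hMU fC) hCC
    exact sa_add hF sa_one (sa_smul _ hcp (sa_add hF (sa_add hF (sa_add hF sa_one sA) sC)
      (sa_mul sA sC hAC)))
  refine ⟨s, ?_, ?_, hss, ?_, ?_⟩
  · show s ∈ Subgroup.normalizer (R : Set (GL (Fin 4) F))
    rw [Subgroup.mem_set_normalizer_iff]
    intro r
    constructor
    · exact hconj r
    · intro h
      have h1 := hconj _ h
      have h3 : s * (s * r * s⁻¹) * s⁻¹ = r := by
        have hs2 : s * s = 1 := Units.ext hss
        rw [hsinv]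
        calc s * (s * r * s) * s = (s * s) * r * (s * s) := by group
          _ = r := by rw [hs2, one_mul, mul_one]
      rwa [h3] at h1
  · rw [mem_GU_iff]
    exact isU_of_sa_invol hSA hss
  · show Matrix.trace S = 2
    rw [hS, Matrix.trace_sub, Matrix.trace_smul, Matrix.trace_add, Matrix.trace_add,
      Matrix.trace_add, hAC0, htr (fT * fA) (by decide), htr fC (by decide), Matrix.trace_one,
      Fintype.card_fin, smul_eq_mul]
    field_simp
    norm_num
  · intro c hc
    have hc' : S = c • (1 : Matrix (Fin 4) (Fin 4) F) := hc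
    -- `Y = 1 + A + C + A C` is the scalar `y = 2 (1 - c)`
    have hY : 1 + M (fT * fA) + M fC + M (fT * fA) * M fC =
        (2 * (1 - c)) • (1 : Matrix (Fin 4) (Fin 4) F) := by
      have e1 : (2 : F)⁻¹ • (1 + M (fT * fA) + M fC + M (fT * fA) * M fC) =
          (1 - c) • (1 : Matrix (Fin 4) (Fin 4) F) := by
        rw [sub_smul, one_smul, ← hc', hS]
        abel
      have e2 := congrArg (fun X => (2 : F) • X) e1
      simp only [smul_smul] at e2
      rwa [mul_inv_cancel₀ h2, one_smul] at e2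
    -- the trace gives `y = 1`
    have hy : 2 * (1 - c) = 1 := by
      have e3 := congrArg Matrix.trace hY
      rw [Matrix.trace_add, Matrix.trace_add, Matrix.trace_add, hAC0, htr (fT * fA) (by decide),
        htr fC (by decide), Matrix.trace_one, Matrix.trace_smul, Matrix.trace_one, Fintype.card_fin,
        smul_eq_mul] at e3
      have e4 : (4 : F) * (2 * (1 - c)) = 4 * 1 := by
        push_cast at e3
        linear_combination -e3
      exact mul_left_cancel₀ h4 e4
    rw [hy, one_smul] at hY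
    -- `A + C + A C = 0`, times `A`: `1 + C + A C = 0`, so `A = 1`
    have e5 : M (fT * fA) + M fC + M (fT * fA) * M fC = 0 := by
      have h := hY
      rw [add_assoc, add_assoc] at h
      have h' : 1 + (M (fT * fA) + (M fC + M (fT * fA) * M fC)) = 1 + 0 := by
        rw [add_zero]; exact h
      rw [add_assoc]
      exact add_left_cancel h'
    have e6 : 1 + M (fT * fA) * M fC + M fC = 0 := by
      have := congrArg (fun X => M (fT * fA) * X) e5
      simp only [mul_add, mul_zero, ← mul_assoc, hAA, one_mul] at this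
      exact this
    have e7 : M (fT * fA) = 1 := by
      have : M (fT * fA) - 1 = 0 := by
        calc M (fT * fA) - 1 = (M (fT * fA) + M fC + M (fT * fA) * M fC) -
            (1 + M (fT * fA) * M fC + M fC) := by abel
          _ = 0 := by rw [e5, e6, sub_zero]
      exact sub_eq_zero.1 this
    have e8 : ψ (fT * fA) = ψ 1 := by
      apply Units.ext
      rw [map_one]
      exact e7
    exact absurd (hψ e8) (by decide)

end Cfsg.Agent.Lib.Helper26_S6001_UREFL
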