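import Mathlib
import Cfsg.Agent.Lib.Helper74_S94Defs2
import Cfsg.Agent.Lib.Helper66_S96Asm
import Cfsg.Agent.Lib.Helper66_S96Rank
import Cfsg.Agent.Lib.Helper5_SLPresA
import Cfsg.Agent.Lib.Helper41_S96_RESTRICT

set_option autoImplicit false
set_option linter.unusedVariables false
set_option linter.unusedSectionVars false

/-!
# S2094 / S2099 (market `s94_packages`, helper74): package B_RESTRICT (helper26)

The Levi factor `LsB X XS (inl o0)` carries a `BSt` family on the indices `≠ o0`, acting on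
`K^(κ ⊕ κ) × L`, `κ = {i // i ≠ o0}`, by restriction of the action on `K^(ι ⊕ ι) × L`
(port of `Helper41_S96_RESTRICT`).
-/

namespace Cfsg.Agent.Lib.Helper74_S94

open Cfsg.Agent.Lib.Helper5_SteinbergA Cfsg.Agent.Lib.Helper5_SLPresA Cfsg.Agent.Lib.Helper66_StCalc
  Cfsg.Agent.Lib.Helper66_S92 Cfsg.Agent.Lib.Helper66_S96

section field

variable {ι : Type*} [DecidableEq ι] {K : Type*} [Field K] {L : Type*} [Field L] [Algebra K L]
  {G : Type*} [Group G] {Q0 : QuadraticForm K L} {σ : L → L}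
  {X : ι ⊕ ι → ι ⊕ ι → K → G} {XS : ι ⊕ ι → L → G}

/-! ### pulling back a family along an injective map of indices -/

omit [DecidableEq ι] in
theorem h26_BSt_comap {κ : Type*} (h : BSt Q0 σ X XS) (f : κ → ι) (hf : Function.Injective f) :
    BSt Q0 σ (fun (a c : κ ⊕ κ) (t : K) => X (Sum.map f f a) (Sum.map f f c) t)
      (fun (a : κ ⊕ κ) (v : L) => XS (Sum.map f f a) v) := by
  have hF := h41_smap_inj f hf
  have hne : ∀ a c : κ ⊕ κ, a ≠ c → Sum.map f f a ≠ Sum.map f f c :=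
    fun a c h1 h2 => h1 (hF h2)
  have hne' : ∀ a c : κ ⊕ κ, a ≠ ng c → Sum.map f f a ≠ ng (Sum.map f f c) :=
    fun a c h1 h2 => h1 (hF (by rw [h2, h41_smap_ng]))
  have hD : DSt X := { toDStAB := h.long, rank1 := h.rank1 }
  have hD' := h41_DSt_comap hD f hf
  refine { long := hD'.toDStAB, sadd := ?_, scomm := ?_, ss := ?_, ls := ?_, rank1 := hD'.rank1,
           rank1S := ?_ }
  · intro a v w
    exact h.sadd _ _ _
  · intro a d e v t h1 h2
    exact h.scomm _ _ _ _ _ (hne' _ _ h1) (hne' _ _ h2)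
  · intro a c v w h1 h2
    exact h.ss _ _ _ _ (hne _ _ h1) (hne' _ _ h2)
  · intro a c t v h1 h2
    show X _ _ t * XS (Sum.map f f (ng c)) v * (X _ _ t)⁻¹ * (XS (Sum.map f f (ng c)) v)⁻¹ =
      XS _ (t • v) * X _ (Sum.map f f (ng c)) (t * Q0 v)
    rw [h41_smap_ng]
    exact h.ls _ _ _ _ (hne _ _ h1) (hne' _ _ h2)
  · intro a
    have h3 := h.rank1S (Sum.map f f a)
    have e : pairS σ (fun (a : κ ⊕ κ) (v : L) => XS (Sum.map f f a) v) a =
        pairS σ XS (Sum.map f f a) := by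
      funext b t
      cases b
      · show XS (Sum.map f f (ng a)) (-σ t) = XS (ng _) (-σ t)
        rw [h41_smap_ng]
      · rfl
    rw [e]
    exact h3

/-- a family which maps to a `BSt` family under an injective homomorphism is a `BSt` family -/
theorem h26_BSt_of_injective {H : Type*} [Group H] (φ : H →* G) (hφ : Function.Injective φ)
    {κ : Type*} {Y : κ ⊕ κ → κ ⊕ κ → K → G} {YS : κ ⊕ κ → L → G}
    {X' : κ ⊕ κ → κ ⊕ κ → K → H} {XS' : κ ⊕ κ → L → H}
    (hX' : ∀ a c t, φ (X' a c t) = Y a c t) (hXS' : ∀ a v, φ (XS' a v) = YS a v)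
    (h : BSt Q0 σ Y YS) : BSt Q0 σ X' XS' := by
  have hD : DSt Y := { toDStAB := h.long, rank1 := h.rank1 }
  have hD' : DSt X' := h41_DSt_of_injective φ hφ hX' hD
  refine { long := hD'.toDStAB, sadd := ?_, scomm := ?_, ss := ?_, ls := ?_, rank1 := hD'.rank1,
           rank1S := ?_ }
  · intro a v w
    apply hφ
    rw [map_mul, hXS', hXS', hXS']
    exact h.sadd a v w
  · intro a d e v t h1 h2
    apply hφ
    rw [map_mul, map_mul, hXS', hX']
    exact h.scomm a d e v t h1 h2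
  · intro a c v w h1 h2
    apply hφ
    rw [map_mul, map_mul, map_mul, map_inv, map_inv, hXS', hXS', hX']
    exact h.ss a c v w h1 h2
  · intro a c t v h1 h2
    apply hφ
    rw [map_mul, map_mul, map_mul, map_mul, map_inv, map_inv, hXS', hXS', hX', hX']
    exact h.ls a c t v h1 h2
  · intro a
    have h3 := h.rank1S a
    have e : ∀ b t, φ (pairS σ XS' a b t) = pairS σ YS a b t := by
      intro b t
      cases b
      · exact hXS' _ _
      · exact hXS' _ _
    exact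
      { add := fun b t u => hφ (by rw [map_mul, e, e, e]; exact h3.add b t u)
        conj := fun b t u ht => hφ (by
          simp only [map_mul, map_inv, e]
          exact h3.conj b t u ht) }

/-! ## B_RESTRICT : the Levi factor `LsB X XS (inl o0)` carries a `BSt` family on `{i // i ≠ o0}` -/

theorem exists_restrictB [Fintype ι] (h : BSt Q0 σ X XS)
    (ρ : G →* Module.End K ((ι ⊕ ι → K) × L)) (hρ : IsActB Q0 X XS ρ) (o0 : ι) :
    ∃ (X' : {i : ι // i ≠ o0} ⊕ {i : ι // i ≠ o0} → {i : ι // i ≠ o0} ⊕ {i : ι // i ≠ o0} → K →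
        ↥(LsB X XS (Sum.inl o0)))
      (XS' : {i : ι // i ≠ o0} ⊕ {i : ι // i ≠ o0} → L → ↥(LsB X XS (Sum.inl o0)))
      (ρ' : ↥(LsB X XS (Sum.inl o0)) →*
        Module.End K (({i : ι // i ≠ o0} ⊕ {i : ι // i ≠ o0} → K) × L)),
      BSt Q0 σ X' XS' ∧
      Subgroup.closure ({g | ∃ a c t, g = X' a c t} ∪ {g | ∃ a v, g = XS' a v}) = ⊤ ∧
      IsActB Q0 X' XS' ρ' ∧
      (∀ a c t, ((X' a c t : ↥(LsB X XS (Sum.inl o0))) : G) =
        X (Sum.map Subtype.val Subtype.val a) (Sum.map Subtype.val Subtype.val c) t) ∧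
      (∀ a v, ((XS' a v : ↥(LsB X XS (Sum.inl o0))) : G) =
        XS (Sum.map Subtype.val Subtype.val a) v) ∧
      ∀ l : ↥(LsB X XS (Sum.inl o0)), ρ (l : G) = 1 → ρ' l = 1 := by
  have hA := h.long
  have hB := h.toBStAB
  -- the index map
  have hFinj : Function.Injective
      (Sum.map Subtype.val Subtype.val : {i : ι // i ≠ o0} ⊕ {i : ι // i ≠ o0} → ι ⊕ ι) :=
    h41_smap_inj _ Subtype.val_injective
  have hFng : ∀ a : {i : ι // i ≠ o0} ⊕ {i : ι // i ≠ o0},
      Sum.map Subtype.val Subtype.val (ng a) = ng (Sum.map Subtype.val Subtype.val a : ι ⊕ ι) :=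
    h41_smap_ng _
  have hFo : ∀ a : {i : ι // i ≠ o0} ⊕ {i : ι // i ≠ o0},
      (Sum.map Subtype.val Subtype.val a : ι ⊕ ι) ≠ Sum.inl o0 ∧
      (Sum.map Subtype.val Subtype.val a : ι ⊕ ι) ≠ ng (Sum.inl o0) := by
    rintro (⟨i, hi⟩ | ⟨i, hi⟩)
    · refine ⟨fun h1 => hi (Sum.inl_injective h1), fun h1 => ?_⟩
      exact Sum.inl_ne_inr h1
    · refine ⟨fun h1 => Sum.inr_ne_inl h1, fun h1 => hi ?_⟩
      exact Sum.inr_injective h1
  have hrange : ∀ x : ι ⊕ ι, x ≠ Sum.inl o0 → x ≠ ng (Sum.inl o0) →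
      ∃ a : {i : ι // i ≠ o0} ⊕ {i : ι // i ≠ o0}, Sum.map Subtype.val Subtype.val a = x := by
    rintro (i | i) h1 h2
    · exact ⟨Sum.inl ⟨i, fun h3 => h1 (by rw [h3])⟩, rfl⟩
    · exact ⟨Sum.inr ⟨i, fun h3 => h2 (by rw [h3]; rfl)⟩, rfl⟩
  have hmem : ∀ (a c : {i : ι // i ≠ o0} ⊕ {i : ι // i ≠ o0}) (t : K),
      X (Sum.map Subtype.val Subtype.val a) (Sum.map Subtype.val Subtype.val c) t ∈
        LsB X XS (Sum.inl o0) :=
    fun a c t => X_mem_LsB _ _ _ t (hFo a).1 (hFo a).2 (hFo c).1 (hFo c).2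
  have hmemS : ∀ (a : {i : ι // i ≠ o0} ⊕ {i : ι // i ≠ o0}) (v : L),
      XS (Sum.map Subtype.val Subtype.val a) v ∈ LsB X XS (Sum.inl o0) :=
    fun a v => XS_mem_LsB _ _ v (hFo a).1 (hFo a).2
  -- extension by zero and restriction
  have ext_F : ∀ (v : {i : ι // i ≠ o0} ⊕ {i : ι // i ≠ o0} → K) a,
      Function.ExtendByZero.linearMap K
        (Sum.map Subtype.val Subtype.val : {i : ι // i ≠ o0} ⊕ {i : ι // i ≠ o0} → ι ⊕ ι) v
        (Sum.map Subtype.val Subtype.val a) = v a := by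
    intro v a
    rw [Function.ExtendByZero.linearMap_apply]
    exact hFinj.extend_apply v 0 a
  have ext_o : ∀ (v : {i : ι // i ≠ o0} ⊕ {i : ι // i ≠ o0} → K),
      Function.ExtendByZero.linearMap K
        (Sum.map Subtype.val Subtype.val : {i : ι // i ≠ o0} ⊕ {i : ι // i ≠ o0} → ι ⊕ ι) v
        (Sum.inl o0) = 0 ∧
      Function.ExtendByZero.linearMap K
        (Sum.map Subtype.val Subtype.val : {i : ι // i ≠ o0} ⊕ {i : ι // i ≠ o0} → ι ⊕ ι) v
        (ng (Sum.inl o0)) = 0 := by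
    intro v
    rw [Function.ExtendByZero.linearMap_apply]
    constructor
    · exact Function.extend_apply' _ _ _ (by rintro ⟨a, ha⟩; exact (hFo a).1 ha)
    · exact Function.extend_apply' _ _ _ (by rintro ⟨a, ha⟩; exact (hFo a).2 ha)
  have ext_res : ∀ w : ι ⊕ ι → K, w (Sum.inl o0) = 0 → w (ng (Sum.inl o0)) = 0 →
      Function.ExtendByZero.linearMap K
        (Sum.map Subtype.val Subtype.val : {i : ι // i ≠ o0} ⊕ {i : ι // i ≠ o0} → ι ⊕ ι)
        (LinearMap.funLeft K K (Sum.map Subtype.val Subtype.val) w) = w := by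
    intro w h1 h2
    funext x
    by_cases hx1 : x = Sum.inl o0
    · rw [hx1, (ext_o _).1, h1]
    by_cases hx2 : x = ng (Sum.inl o0)
    · rw [hx2, (ext_o _).2, h2]
    obtain ⟨a, rfl⟩ := hrange x hx1 hx2
    rw [ext_F]
    rfl
  -- invariance of the subspace
  have hinv : ∀ g ∈ LsB X XS (Sum.inl o0), ∀ w : (ι ⊕ ι → K) × L, w.1 (Sum.inl o0) = 0 →
      w.1 (ng (Sum.inl o0)) = 0 →
      (ρ g w).1 (Sum.inl o0) = 0 ∧ (ρ g w).1 (ng (Sum.inl o0)) = 0 := by
    have hgen : ∀ (a c : ι ⊕ ι) (t : K), a ≠ Sum.inl o0 → a ≠ ng (Sum.inl o0) → c ≠ Sum.inl o0 →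
        c ≠ ng (Sum.inl o0) → ∀ w : (ι ⊕ ι → K) × L, w.1 (Sum.inl o0) = 0 →
        w.1 (ng (Sum.inl o0)) = 0 →
        (ρ (X a c t) w).1 (Sum.inl o0) = 0 ∧ (ρ (X a c t) w).1 (ng (Sum.inl o0)) = 0 := by
      intro a c t ha1 ha2 hc1 hc2 w h1 h2
      rw [hρ.long a c t w]
      show xactD a c t w.1 (Sum.inl o0) = 0 ∧ xactD a c t w.1 (ng (Sum.inl o0)) = 0
      unfold xactD
      split_ifs with hc
      · exact ⟨h1, h2⟩
      · simp only [Pi.add_apply, Pi.sub_apply]
        rw [Pi.single_eq_of_ne (Ne.symm ha1), Pi.single_eq_of_ne (Ne.symm hc1),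
          Pi.single_eq_of_ne (Ne.symm ha2), Pi.single_eq_of_ne (Ne.symm hc2), h1, h2]
        simp
    have hgenS : ∀ (a : ι ⊕ ι) (v : L), a ≠ Sum.inl o0 → a ≠ ng (Sum.inl o0) →
        ∀ w : (ι ⊕ ι → K) × L, w.1 (Sum.inl o0) = 0 → w.1 (ng (Sum.inl o0)) = 0 →
        (ρ (XS a v) w).1 (Sum.inl o0) = 0 ∧ (ρ (XS a v) w).1 (ng (Sum.inl o0)) = 0 := by
      intro a v ha1 ha2 w h1 h2
      rw [hρ.short a v w]
      unfold xactS
      simp only [Pi.add_apply]
      rw [Pi.single_eq_of_ne (Ne.symm ha1), Pi.single_eq_of_ne (Ne.symm ha2), h1, h2]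
      simp
    intro g hg
    unfold LsB at hg
    induction hg using Subgroup.closure_induction'' with
    | mem x hx =>
      rcases hx with ⟨a, c, t, ha1, ha2, hc1, hc2, rfl⟩ | ⟨a, v, ha1, ha2, rfl⟩
      · exact hgen a c t ha1 ha2 hc1 hc2
      · exact hgenS a v ha1 ha2
    | inv_mem x hx =>
      rcases hx with ⟨a, c, t, ha1, ha2, hc1, hc2, rfl⟩ | ⟨a, v, ha1, ha2, rfl⟩
      · rw [hA.X_inv]
        exact hgen a c (-t) ha1 ha2 hc1 hc2
      · rw [hB.XS_inv]
        exact hgenS a (-v) ha1 ha2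
    | one =>
      intro w h1 h2
      rw [map_one]
      exact ⟨h1, h2⟩
    | mul x y _ _ ihx ihy =>
      intro w h1 h2
      rw [map_mul, Module.End.mul_apply]
      exact ihx _ (ihy w h1 h2).1 (ihy w h1 h2).2
  -- the two linear maps
  let Ext : (({i : ι // i ≠ o0} ⊕ {i : ι // i ≠ o0} → K) × L) →ₗ[K] ((ι ⊕ ι → K) × L) :=
    LinearMap.prodMap
      (Function.ExtendByZero.linearMap K
        (Sum.map Subtype.val Subtype.val : {i : ι // i ≠ o0} ⊕ {i : ι // i ≠ o0} → ι ⊕ ι))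
      LinearMap.id
  let Res : ((ι ⊕ ι → K) × L) →ₗ[K] (({i : ι // i ≠ o0} ⊕ {i : ι // i ≠ o0} → K) × L) :=
    LinearMap.prodMap
      (LinearMap.funLeft K K
        (Sum.map Subtype.val Subtype.val : {i : ι // i ≠ o0} ⊕ {i : ι // i ≠ o0} → ι ⊕ ι))
      LinearMap.id
  have hExt1 : ∀ x, (Ext x).1 = Function.ExtendByZero.linearMap K
      (Sum.map Subtype.val Subtype.val : {i : ι // i ≠ o0} ⊕ {i : ι // i ≠ o0} → ι ⊕ ι) x.1 :=
    fun x => rfl
  have hExt2 : ∀ x, (Ext x).2 = x.2 := fun x => rfl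
  have hRes1 : ∀ (w : (ι ⊕ ι → K) × L) (a : {i : ι // i ≠ o0} ⊕ {i : ι // i ≠ o0}),
      (Res w).1 a = w.1 (Sum.map Subtype.val Subtype.val a) := fun w a => rfl
  have hRes2 : ∀ w, (Res w).2 = w.2 := fun w => rfl
  have hRE : ∀ x, Res (Ext x) = x := by
    intro x
    refine Prod.ext ?_ rfl
    funext a
    rw [hRes1, hExt1, ext_F]
  have hER : ∀ w : (ι ⊕ ι → K) × L, w.1 (Sum.inl o0) = 0 → w.1 (ng (Sum.inl o0)) = 0 →
      Ext (Res w) = w := by
    intro w h1 h2
    refine Prod.ext ?_ rfl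
    exact ext_res w.1 h1 h2
  have hExt_o : ∀ x, (Ext x).1 (Sum.inl o0) = 0 ∧ (Ext x).1 (ng (Sum.inl o0)) = 0 :=
    fun x => ext_o x.1
  -- the restricted action
  let ρ' : ↥(LsB X XS (Sum.inl o0)) →*
      Module.End K (({i : ι // i ≠ o0} ⊕ {i : ι // i ≠ o0} → K) × L) :=
    { toFun := fun l => Res.comp ((ρ (l : G)).comp Ext)
      map_one' := by
        apply LinearMap.ext
        intro v
        show Res (ρ ((1 : ↥(LsB X XS (Sum.inl o0))) : G) (Ext v)) = v
        rw [Subgroup.coe_one, map_one, Module.End.one_apply, hRE]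
      map_mul' := by
        intro l l'
        apply LinearMap.ext
        intro v
        show Res (ρ ((l * l' : ↥(LsB X XS (Sum.inl o0))) : G) (Ext v)) =
          Res (ρ (l : G) (Ext (Res (ρ (l' : G) (Ext v)))))
        have h3 := hinv (l' : G) l'.2 _ (hExt_o v).1 (hExt_o v).2
        rw [hER _ h3.1 h3.2, Subgroup.coe_mul, map_mul, Module.End.mul_apply] }
  have hρ'_apply : ∀ (l : ↥(LsB X XS (Sum.inl o0)))
      (v : ({i : ι // i ≠ o0} ⊕ {i : ι // i ≠ o0} → K) × L),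
      ρ' l v = Res (ρ (l : G) (Ext v)) := fun l v => rfl
  refine ⟨fun a c t => ⟨X (Sum.map Subtype.val Subtype.val a) (Sum.map Subtype.val Subtype.val c) t,
    hmem a c t⟩, fun a v => ⟨XS (Sum.map Subtype.val Subtype.val a) v, hmemS a v⟩, ρ',
    ?_, ?_, ?_, ?_, ?_, ?_⟩
  · -- `BSt`
    exact h26_BSt_of_injective (LsB X XS (Sum.inl o0)).subtype Subtype.val_injective
      (fun a c t => rfl) (fun a v => rfl) (h26_BSt_comap h Subtype.val Subtype.val_injective)
  · -- generation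
    have h4 := Subgroup.closure_closure_coe_preimage
      (k := {g : G | ∃ a c t, a ≠ Sum.inl o0 ∧ a ≠ ng (Sum.inl o0) ∧ c ≠ Sum.inl o0 ∧
        c ≠ ng (Sum.inl o0) ∧ g = X a c t} ∪
        {g : G | ∃ a v, a ≠ Sum.inl o0 ∧ a ≠ ng (Sum.inl o0) ∧ g = XS a v})
    have h5 : ({g : ↥(LsB X XS (Sum.inl o0)) |
        ∃ (a c : {i : ι // i ≠ o0} ⊕ {i : ι // i ≠ o0}) (t : K),
        g = ⟨X (Sum.map Subtype.val Subtype.val a) (Sum.map Subtype.val Subtype.val c) t,
          hmem a c t⟩} ∪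
        {g : ↥(LsB X XS (Sum.inl o0)) | ∃ (a : {i : ι // i ≠ o0} ⊕ {i : ι // i ≠ o0}) (v : L),
        g = ⟨XS (Sum.map Subtype.val Subtype.val a) v, hmemS a v⟩}) =
        ((↑) : ↥(LsB X XS (Sum.inl o0)) → G) ⁻¹' ({g : G | ∃ a c t, a ≠ Sum.inl o0 ∧
          a ≠ ng (Sum.inl o0) ∧ c ≠ Sum.inl o0 ∧ c ≠ ng (Sum.inl o0) ∧ g = X a c t} ∪
          {g : G | ∃ a v, a ≠ Sum.inl o0 ∧ a ≠ ng (Sum.inl o0) ∧ g = XS a v}) := by
      ext g
      constructor
      · rintro (⟨a, c, t, rfl⟩ | ⟨a, v, rfl⟩)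
        · exact Or.inl ⟨_, _, t, (hFo a).1, (hFo a).2, (hFo c).1, (hFo c).2, rfl⟩
        · exact Or.inr ⟨_, v, (hFo a).1, (hFo a).2, rfl⟩
      · rintro (⟨a, c, t, ha1, ha2, hc1, hc2, e⟩ | ⟨a, v, ha1, ha2, e⟩)
        · obtain ⟨a', rfl⟩ := hrange a ha1 ha2
          obtain ⟨c', rfl⟩ := hrange c hc1 hc2
          exact Or.inl ⟨a', c', t, Subtype.ext e⟩
        · obtain ⟨a', rfl⟩ := hrange a ha1 ha2
          exact Or.inr ⟨a', v, Subtype.ext e⟩
    rw [h5]
    exact h4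
  · -- the action
    refine { long := ?_, short := ?_ }
    · intro a c t v
      rw [hρ'_apply]
      show Res (ρ (X (Sum.map Subtype.val Subtype.val a) (Sum.map Subtype.val Subtype.val c) t)
        (Ext v)) = _
      rw [hρ.long]
      refine Prod.ext ?_ rfl
      funext x
      show xactD (Sum.map Subtype.val Subtype.val a) (Sum.map Subtype.val Subtype.val c) t
        (Ext v).1 (Sum.map Subtype.val Subtype.val x) = xactD a c t v.1 x
      rw [hExt1]
      unfold xactD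
      by_cases hc : c = ng a
      · rw [if_pos hc, if_pos (by rw [hc, hFng]), ext_F]
      · rw [if_neg hc, if_neg (fun h6 => hc (hFinj (by rw [h6, hFng])))]
        simp only [Pi.add_apply, Pi.sub_apply, Pi.single_apply, hFinj.eq_iff, ← hFng, ext_F]
    · intro a w v
      rw [hρ'_apply]
      show Res (ρ (XS (Sum.map Subtype.val Subtype.val a) w) (Ext v)) = _
      rw [hρ.short]
      unfold xactS
      refine Prod.ext ?_ ?_
      · funext x
        show ((Ext v).1 + Pi.single (Sum.map Subtype.val Subtype.val a)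
          (QuadraticMap.polar Q0 (Ext v).2 w - Q0 w * (Ext v).1
            (ng (Sum.map Subtype.val Subtype.val a))) : ι ⊕ ι → K)
            (Sum.map Subtype.val Subtype.val x) =
          (v.1 + Pi.single a (QuadraticMap.polar Q0 v.2 w - Q0 w * v.1 (ng a)) :
            {i : ι // i ≠ o0} ⊕ {i : ι // i ≠ o0} → K) x
        rw [hExt1, hExt2]
        simp only [Pi.add_apply, Pi.single_apply, hFinj.eq_iff, ← hFng, ext_F]
      · show (Ext v).2 - (Ext v).1 (ng (Sum.map Subtype.val Subtype.val a)) • w =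
          v.2 - v.1 (ng a) • w
        rw [hExt1, hExt2, ← hFng, ext_F]
  · intro a c t
    rfl
  · intro a v
    rfl
  · intro l hl
    apply LinearMap.ext
    intro v
    rw [hρ'_apply, hl, Module.End.one_apply, hRE]
    rfl

end field

end Cfsg.Agent.Lib.Helper74_S94
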