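import Mathlib
import Cfsg.Agent.Lib.Helper41_SLRDefs

/-!
# SLR market (sub-market of S4613 package PSL; sub-architect helper41): package OPP (helper26)

In the 2x2 block of the `j`-th simple root: `s⁻¹ x(t) s = s x(t) s⁻¹ = y(-t)`.
Proof by the calculus of the two matrix units `E = E_{ab}`, `E' = E_{ba}` (`E² = E'² = 0`,
`E E' E = E`, `E' E E' = E'`), done in an arbitrary algebra.
-/

set_option autoImplicit false
set_option linter.unusedSectionVars false
set_option linter.unusedVariables false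

namespace Cfsg.Agent.Lib.Helper26_SLR_OPP

open Matrix Cfsg.Agent.Lib.Helper68_MatGrp Cfsg.Agent.Lib.Helper41_SLRDefs

section calculus

variable {R : Type*} [Ring R] {E E' : R}

/-- `S E = - E' E` for `S = (1 + E)(1 - E')(1 + E)` -/
theorem h26_S_mul_E (h1 : E * E = 0) (h3 : E * E' * E = E) :
    (1 + E) * (1 - E') * (1 + E) * E = -(E' * E) := by
  have a1 : (1 + E) * E = E := by rw [add_mul, one_mul, h1, add_zero]
  have a2 : (1 - E') * E = E - E' * E := by rw [sub_mul, one_mul]
  have a3 : (1 + E) * (E - E' * E) = -(E' * E) := by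
    rw [mul_sub, add_mul, add_mul, one_mul, one_mul, h1, ← mul_assoc, h3]
    abel
  rw [mul_assoc, a1, mul_assoc, a2, a3]

/-- `E' S = E' E` -/
theorem h26_E'_mul_S (h1 : E * E = 0) (h2 : E' * E' = 0) (h4 : E' * E * E' = E') :
    E' * ((1 + E) * (1 - E') * (1 + E)) = E' * E := by
  have a1 : E' * (1 + E) = E' + E' * E := by rw [mul_add, mul_one]
  have a2 : (E' + E' * E) * (1 - E') = E' * E := by
    rw [mul_sub, mul_one, add_mul, h2, h4]
    abel
  have a3 : E' * E * (1 + E) = E' * E := by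
    rw [mul_add, mul_one, mul_assoc, h1, mul_zero, add_zero]
  rw [← mul_assoc, ← mul_assoc, a1, a2, a3]

/-- `E S = - E E'` -/
theorem h26_E_mul_S (h1 : E * E = 0) (h3 : E * E' * E = E) :
    E * ((1 + E) * (1 - E') * (1 + E)) = -(E * E') := by
  have a1 : E * (1 + E) = E := by rw [mul_add, mul_one, h1, add_zero]
  have a2 : E * (1 - E') = E - E * E' := by rw [mul_sub, mul_one]
  have a3 : (E - E * E') * (1 + E) = -(E * E') := by
    rw [mul_add, mul_one, sub_mul, h1, h3]
    abel
  rw [← mul_assoc, ← mul_assoc, a1, a2, a3]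

/-- `S E' = E E'` -/
theorem h26_S_mul_E' (h1 : E * E = 0) (h2 : E' * E' = 0) (h4 : E' * E * E' = E') :
    (1 + E) * (1 - E') * (1 + E) * E' = E * E' := by
  have a1 : (1 + E) * E' = E' + E * E' := by rw [add_mul, one_mul]
  have a2 : (1 - E') * (E' + E * E') = E * E' := by
    rw [sub_mul, one_mul, mul_add, h2, ← mul_assoc, h4]
    abel
  have a3 : (1 + E) * (E * E') = E * E' := by
    rw [add_mul, one_mul, ← mul_assoc, h1, zero_mul, add_zero]
  rw [mul_assoc, a1, mul_assoc, a2, a3]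

/-- `S (1 + t E) = (1 - t E') S` -/
theorem h26_comm1 {F : Type*} [CommRing F] [Algebra F R] (h1 : E * E = 0) (h2 : E' * E' = 0)
    (h3 : E * E' * E = E) (h4 : E' * E * E' = E') (t : F) :
    (1 + E) * (1 - E') * (1 + E) * (1 + t • E) =
      (1 + (-t) • E') * ((1 + E) * (1 - E') * (1 + E)) := by
  have hA := h26_S_mul_E (E' := E') h1 h3
  have hB := h26_E'_mul_S h1 h2 h4
  generalize (1 + E) * (1 - E') * (1 + E) = S at *
  rw [mul_add, mul_one, mul_smul_comm, hA, add_mul, one_mul, smul_mul_assoc, hB, neg_smul,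
    smul_neg]

/-- `(1 + t E) S = S (1 - t E')` -/
theorem h26_comm2 {F : Type*} [CommRing F] [Algebra F R] (h1 : E * E = 0) (h2 : E' * E' = 0)
    (h3 : E * E' * E = E) (h4 : E' * E * E' = E') (t : F) :
    (1 + t • E) * ((1 + E) * (1 - E') * (1 + E)) =
      (1 + E) * (1 - E') * (1 + E) * (1 + (-t) • E') := by
  have hA := h26_E_mul_S (E' := E') h1 h3
  have hB := h26_S_mul_E' h1 h2 h4
  generalize (1 + E) * (1 - E') * (1 + E) = S at *
  rw [add_mul, one_mul, smul_mul_assoc, hA, mul_add, mul_one, mul_smul_comm, hB, neg_smul,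
    smul_neg]

end calculus

variable {n : ℕ} {F : Type*} [Field F]

theorem h26_Eu_sq (j : Fin (n - 1)) :
    (Matrix.single (lo j) (hi j) 1 : Matrix (Fin n) (Fin n) F) * Matrix.single (lo j) (hi j) 1
      = 0 := by
  rw [Matrix.single_mul_single_of_ne _ _ _ _ (hi_ne_lo j)]

theorem h26_El_sq (j : Fin (n - 1)) :
    (Matrix.single (hi j) (lo j) 1 : Matrix (Fin n) (Fin n) F) * Matrix.single (hi j) (lo j) 1
      = 0 := by
  rw [Matrix.single_mul_single_of_ne _ _ _ _ (lo_ne_hi j)]

theorem h26_EuElEu (j : Fin (n - 1)) :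
    (Matrix.single (lo j) (hi j) 1 : Matrix (Fin n) (Fin n) F) * Matrix.single (hi j) (lo j) 1 *
      Matrix.single (lo j) (hi j) 1 = Matrix.single (lo j) (hi j) 1 := by
  rw [Matrix.single_mul_single_same, Matrix.single_mul_single_same, mul_one, mul_one]

theorem h26_ElEuEl (j : Fin (n - 1)) :
    (Matrix.single (hi j) (lo j) 1 : Matrix (Fin n) (Fin n) F) * Matrix.single (lo j) (hi j) 1 *
      Matrix.single (hi j) (lo j) 1 = Matrix.single (hi j) (lo j) 1 := by
  rw [Matrix.single_mul_single_same, Matrix.single_mul_single_same, mul_one, mul_one]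

theorem h26_single_eq_smul (a b : Fin n) (t : F) :
    (Matrix.single a b t : Matrix (Fin n) (Fin n) F) = t • Matrix.single a b 1 := by
  rw [Matrix.smul_single, smul_eq_mul, mul_one]

/-- the matrix of `ss j` -/
theorem h26_ss_val (j : Fin (n - 1)) :
    (ss j : Matrix.SpecialLinearGroup (Fin n) F).1 =
      (1 + Matrix.single (lo j) (hi j) 1) * (1 - Matrix.single (hi j) (lo j) 1) *
        (1 + Matrix.single (lo j) (hi j) 1) := by
  show (xs j 1).1 * (ys j (-1)).1 * (xs j 1).1 = _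
  rw [xs_val, ys_val, h26_single_eq_smul (hi j) (lo j) (-1), neg_one_smul, ← sub_eq_add_neg]

/-- `s x(t) = y(-t) s` -/
theorem h26_ss_mul_xs (j : Fin (n - 1)) (t : F) :
    (ss j : Matrix.SpecialLinearGroup (Fin n) F) * xs j t = ys j (-t) * ss j := by
  apply Subtype.ext
  show (ss j : Matrix.SpecialLinearGroup (Fin n) F).1 * (xs j t).1 = (ys j (-t)).1 * (ss j).1
  rw [xs_val, ys_val, h26_single_eq_smul (lo j) (hi j) t, h26_single_eq_smul (hi j) (lo j) (-t),
    h26_ss_val]
  exact h26_comm1 (h26_Eu_sq j) (h26_El_sq j) (h26_EuElEu j) (h26_ElEuEl j) t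

/-- `x(t) s = s y(-t)` -/
theorem h26_xs_mul_ss (j : Fin (n - 1)) (t : F) :
    (xs j t : Matrix.SpecialLinearGroup (Fin n) F) * ss j = ss j * ys j (-t) := by
  apply Subtype.ext
  show (xs j t : Matrix.SpecialLinearGroup (Fin n) F).1 * (ss j).1 = (ss j).1 * (ys j (-t)).1
  rw [xs_val, ys_val, h26_single_eq_smul (lo j) (hi j) t, h26_single_eq_smul (hi j) (lo j) (-t),
    h26_ss_val]
  exact h26_comm2 (h26_Eu_sq j) (h26_El_sq j) (h26_EuElEu j) (h26_ElEuEl j) t

/-- **SLR-OPP** [M] (two statements, one file) in the 2x2 block: `s⁻¹ x(t) s = s x(t) s⁻¹ = y(-t)`.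
Suggested: prove `ss j * xs j t = ys j (-t) * ss j` and `xs j t * ss j = ss j * ys j (-t)` as matrix identities (`Subtype.ext`, entrywise with `ss_apply`,
or by the `Matrix.single` calculus on `1 - E_aa - E_bb + E_ab - E_ba`). -/
theorem opp (j : Fin (n - 1)) (t : F) :
    (ss j : Matrix.SpecialLinearGroup (Fin n) F)⁻¹ * xs j t * ss j = ys j (-t) := by
  rw [mul_assoc, h26_xs_mul_ss, inv_mul_cancel_left]

theorem opp' (j : Fin (n - 1)) (t : F) :
    (ss j : Matrix.SpecialLinearGroup (Fin n) F) * xs j t * (ss j)⁻¹ = ys j (-t) := by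
  rw [h26_ss_mul_xs, mul_inv_cancel_right]

end Cfsg.Agent.Lib.Helper26_SLR_OPP
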