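import Mathlib
import Cfsg.Agent.Lib.Helper26_M24Orbit
import Cfsg.Agent.Lib.Helper26_M24Act

/-!
Sets of sets of points (trios, sextets, pairs of dodecads, ...) coded as packed lists of bitmasks,
and a uniform treatment of orbit certificates for objects coded by natural numbers.
-/

set_option autoImplicit false
set_option linter.constructorNameAsVariable false
open Cfsg
open scoped Pointwise
open Cfsg.Agent.Lib.Helper26_Golay

namespace Cfsg.Agent.Lib.Helper93_M24Obj

/-! ### Packed lists of masks -/

/-- The `k` members (24 bits each) of a packed code. -/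
def mems (k c : ℕ) : List ℕ := (List.range k).map (get24 c)

theorem get24_lt' (A j : ℕ) : get24 A j < 2 ^ 24 :=
  lt_of_le_of_lt Nat.and_le_right (by norm_num)

theorem lt_of_mem_mems {k c m : ℕ} (h : m ∈ mems k c) : m < 2 ^ 24 := by
  unfold mems at h
  rw [List.mem_map] at h
  obtain ⟨i, _, rfl⟩ := h
  exact get24_lt' c i

/-- The set of sets of points coded by `c` (with `k` members). -/
def setOf (k c : ℕ) : Finset (Finset GolayPt) := ((mems k c).map dec).toFinset

theorem mem_setOf (k c : ℕ) (s : Finset GolayPt) : s ∈ setOf k c ↔ enc s ∈ mems k c := by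
  unfold setOf
  rw [List.mem_toFinset, List.mem_map]
  constructor
  · rintro ⟨m, hm, rfl⟩
    rwa [enc_dec m (lt_of_mem_mems hm)]
  · intro h
    exact ⟨enc s, h, dec_enc s⟩

theorem dec_mem_setOf {k c m : ℕ} (h : m ∈ mems k c) : dec m ∈ setOf k c := by
  rw [mem_setOf, enc_dec m (lt_of_mem_mems h)]
  exact h

/-- Two lists have the same members. -/
def sameSet (l₁ l₂ : List ℕ) : Bool :=
  l₁.all (fun m => l₂.contains m) && l₂.all (fun m => l₁.contains m)

theorem sameSet_iff (l₁ l₂ : List ℕ) : sameSet l₁ l₂ = true ↔ ∀ m, m ∈ l₁ ↔ m ∈ l₂ := by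
  unfold sameSet
  simp only [Bool.and_eq_true, List.all_eq_true, List.contains_iff_mem]
  constructor
  · rintro ⟨h1, h2⟩ m
    exact ⟨h1 m, h2 m⟩
  · intro h
    exact ⟨fun m hm => (h m).mp hm, fun m hm => (h m).mpr hm⟩

theorem smul_dec {σ : Equiv.Perm GolayPt} {T : ℕ} (h : Represents σ T) {m : ℕ} (hm : m < 2 ^ 24) :
    σ • dec m = dec (permMask T m) := by
  apply enc_injective
  rw [enc_smul h, enc_dec m hm, enc_dec _ (permMask_lt_of_represents h m hm)]

theorem smul_setOf {σ : Equiv.Perm GolayPt} {T : ℕ} (h : Represents σ T) (k c : ℕ) :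
    σ • setOf k c = (((mems k c).map (permMask T)).map dec).toFinset := by
  ext s
  rw [Finset.mem_smul_finset, List.mem_toFinset, List.mem_map]
  constructor
  · rintro ⟨t, ht, rfl⟩
    rw [mem_setOf] at ht
    refine ⟨permMask T (enc t), List.mem_map.mpr ⟨enc t, ht, rfl⟩, ?_⟩
    rw [← smul_dec h (enc_lt t), dec_enc]
  · rintro ⟨m, hm, rfl⟩
    rw [List.mem_map] at hm
    obtain ⟨m', hm', rfl⟩ := hm
    exact ⟨dec m', dec_mem_setOf hm', smul_dec h (lt_of_mem_mems hm')⟩

theorem smul_setOf_eq {σ : Equiv.Perm GolayPt} {T : ℕ} (h : Represents σ T) (k b c : ℕ)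
    (hs : sameSet ((mems k b).map (permMask T)) (mems k c) = true) :
    σ • setOf k b = setOf k c := by
  rw [smul_setOf h]
  rw [sameSet_iff] at hs
  ext s
  unfold setOf
  rw [List.mem_toFinset, List.mem_toFinset, List.mem_map, List.mem_map]
  constructor
  · rintro ⟨m, hm, rfl⟩
    exact ⟨m, (hs m).mp hm, rfl⟩
  · rintro ⟨m, hm, rfl⟩
    exact ⟨m, (hs m).mpr hm, rfl⟩

/-! ### Canonical codes -/

/-- A code is canonical when it has no bits beyond its `k` members and the members are strictly
increasing. -/
def canon (k c : ℕ) : Bool :=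
  decide (c < 2 ^ (24 * k)) && allFold (fun i => decide (get24 c i < get24 c (i + 1))) (k - 1)

theorem testBit_get24 (c i t : ℕ) (ht : t < 24) :
    (get24 c i).testBit t = c.testBit (24 * i + t) := by
  unfold get24
  rw [Nat.testBit_and, Nat.testBit_shiftRight]
  have : (16777215 : ℕ).testBit t = true := by
    have h : (16777215 : ℕ) = 2 ^ 24 - 1 := by norm_num
    rw [h, Nat.testBit_two_pow_sub_one]
    simpa using ht
  rw [this, Bool.and_true]

theorem eq_of_get24_eq {k c c' : ℕ} (hc : c < 2 ^ (24 * k)) (hc' : c' < 2 ^ (24 * k))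
    (h : ∀ i < k, get24 c i = get24 c' i) : c = c' := by
  apply Nat.eq_of_testBit_eq
  intro b
  by_cases hb : b < 24 * k
  · have h1 : b = 24 * (b / 24) + b % 24 := (Nat.div_add_mod b 24).symm
    have h2 : b % 24 < 24 := Nat.mod_lt _ (by norm_num)
    have h3 : b / 24 < k := by
      rw [Nat.div_lt_iff_lt_mul (by norm_num)]; omega
    rw [h1, ← testBit_get24 c _ _ h2, ← testBit_get24 c' _ _ h2, h _ h3]
  · rw [not_lt] at hb
    have e1 : c.testBit b = false :=
      Nat.testBit_lt_two_pow (lt_of_lt_of_le hc (Nat.pow_le_pow_right (by norm_num) hb))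
    have e2 : c'.testBit b = false :=
      Nat.testBit_lt_two_pow (lt_of_lt_of_le hc' (Nat.pow_le_pow_right (by norm_num) hb))
    rw [e1, e2]

theorem mems_pairwise {k c : ℕ} (h : canon k c = true) : (mems k c).Pairwise (· < ·) := by
  unfold canon at h
  rw [Bool.and_eq_true, allFold_eq_true] at h
  have hstep : ∀ i, i + 1 < k → get24 c i < get24 c (i + 1) := by
    intro i hi
    have := h.2 i (by omega)
    simpa using this
  have hmono : ∀ i j, i < j → j < k → get24 c i < get24 c j := by
    intro i j hij
    induction j with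
    | zero => omega
    | succ j ih =>
      intro hj
      by_cases hij' : i = j
      · subst hij'; exact hstep i hj
      · exact lt_trans (ih (by omega) (by omega)) (hstep j hj)
  unfold mems
  rw [List.pairwise_map]
  have := List.pairwise_lt_range (n := k)
  refine List.Pairwise.imp_of_mem ?_ this
  intro a b ha hb hab
  rw [List.mem_range] at ha hb
  exact hmono a b hab hb

theorem mems_nodup {k c : ℕ} (h : canon k c = true) : (mems k c).Nodup :=
  (mems_pairwise h).imp (fun hab => ne_of_lt hab)

theorem mems_length (k c : ℕ) : (mems k c).length = k := by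
  simp [mems]

/-- Canonical codes are determined by the set they describe. -/
theorem canon_inj {k c c' : ℕ} (hc : canon k c = true) (hc' : canon k c' = true)
    (h : setOf k c = setOf k c') : c = c' := by
  have hl : mems k c = mems k c' := by
    apply List.Pairwise.eq_of_mem_iff (mems_pairwise hc) (mems_pairwise hc')
    intro m
    constructor
    · intro hm
      have := dec_mem_setOf hm
      rw [h, mem_setOf, enc_dec m (lt_of_mem_mems hm)] at this
      exact this
    · intro hm
      have := dec_mem_setOf hm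
      rw [← h, mem_setOf, enc_dec m (lt_of_mem_mems hm)] at this
      exact this
  have h1 : c < 2 ^ (24 * k) := by
    unfold canon at hc
    rw [Bool.and_eq_true, decide_eq_true_eq] at hc
    exact hc.1
  have h2 : c' < 2 ^ (24 * k) := by
    unfold canon at hc'
    rw [Bool.and_eq_true, decide_eq_true_eq] at hc'
    exact hc'.1
  apply eq_of_get24_eq h1 h2
  intro i hi
  unfold mems at hl
  have := List.map_inj_left.mp hl i (List.mem_range.mpr hi)
  exact this

theorem card_setOf {k c : ℕ} (h : canon k c = true) : (setOf k c).card = k := by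
  unfold setOf
  rw [List.toFinset_card_of_nodup, List.length_map, mems_length]
  apply List.Nodup.map_on _ (mems_nodup h)
  intro a ha b hb hab
  exact dec_injOn (lt_of_mem_mems ha) (lt_of_mem_mems hb) hab

/-! ### Codings of objects by natural numbers -/

/-- A coding of (some of) the objects of a type acted on by the permutations of the 24 points:
a decoding function, and a Boolean test `step T b c` certifying that the permutation with table `T`
maps the object coded by `b` to the object coded by `c`. -/
structure Coding (Ω : Type*) [MulAction (Equiv.Perm GolayPt) Ω] where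
  decode : ℕ → Ω
  step : ℕ → ℕ → ℕ → Bool
  sound : ∀ (σ : Equiv.Perm GolayPt) (T b c : ℕ), Represents σ T → step T b c = true →
    σ • decode b = decode c

/-- Sets of points coded by bitmasks. -/
def maskCoding : Coding (Finset GolayPt) where
  decode := dec
  step := fun T b c => decide (b < 2 ^ 24) && (permMask T b == c)
  sound := by
    intro σ T b c h hs
    rw [Bool.and_eq_true, decide_eq_true_eq, beq_iff_eq] at hs
    rw [smul_dec h hs.1, hs.2]

/-- Sets of `k` sets of points coded by packed lists of bitmasks. -/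
def objCoding (k : ℕ) : Coding (Finset (Finset GolayPt)) where
  decode := setOf k
  step := fun T b c => sameSet ((mems k b).map (permMask T)) (mems k c)
  sound := by
    intro σ T b c h hs
    exact smul_setOf_eq h k b c hs

variable {Ω : Type*} [MulAction (Equiv.Perm GolayPt) Ω]

/-- Generators of the stabiliser in `M24` of a coded object, from a Boolean check. -/
theorem gensIn_stab' (C : Coding Ω) (r₀ : ℕ) (TT n : ℕ)
    (h : allFold (fun g => tblInM24 (get120 TT g) && C.step (get120 TT g) r₀ r₀) n = true) :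
    GensIn (M24 ⊓ MulAction.stabilizer (Equiv.Perm GolayPt) (C.decode r₀)) TT n := by
  rw [allFold_eq_true] at h
  intro g hg
  have h1 := h g hg
  rw [Bool.and_eq_true] at h1
  obtain ⟨σ, hσ, hT⟩ := exists_of_tblInM24 h1.1
  refine ⟨σ, Subgroup.mem_inf.mpr ⟨hσ, ?_⟩, hT⟩
  rw [MulAction.mem_stabilizer_iff]
  exact C.sound σ _ _ _ hT h1.2

/-- The step function of orbit certificates for a coding. -/
def stepOk (C : Coding Ω) (TT r : ℕ) (g b c : ℕ) : Bool :=
  decide (g < r) && C.step (get120 TT g) b c

/-- Soundness of orbit certificates for coded objects. -/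
theorem forest' (C : Coding Ω) (H : Subgroup (Equiv.Perm GolayPt)) (TT r : ℕ)
    (hg : GensIn H TT r) (tAt : ℕ → ℕ) (P G D R n : ℕ)
    (h : forestCheck (stepOk C TT r) tAt P G D R n = true) :
    ∀ j < n, get16 R j < n ∧
      ∃ x ∈ H, x • C.decode (tAt (get16 R j)) = C.decode (tAt j) := by
  have key := forest_sound (fun a b => ∃ x ∈ H, x • C.decode a = C.decode b)
    (fun a => ⟨1, H.one_mem, one_smul _ _⟩) (stepOk C TT r) ?_ tAt P G D R n h
  · intro j hj
    exact ⟨(key j hj).1, (key j hj).2.2⟩
  · intro a b c g hab hs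
    unfold stepOk at hs
    rw [Bool.and_eq_true, decide_eq_true_eq] at hs
    obtain ⟨σ, hσ, hT⟩ := hg g hs.1
    obtain ⟨x, hx, hxab⟩ := hab
    refine ⟨σ * x, H.mul_mem hσ hx, ?_⟩
    rw [mul_smul, hxab]
    exact C.sound σ _ _ _ hT hs.2

/-- Two nodes with the same root are related. -/
theorem rel_of_same_root (C : Coding Ω) (H : Subgroup (Equiv.Perm GolayPt)) (TT r : ℕ)
    (hg : GensIn H TT r) (tAt : ℕ → ℕ) (P G D R n : ℕ)
    (h : forestCheck (stepOk C TT r) tAt P G D R n = true) {j j' : ℕ} (hj : j < n) (hj' : j' < n)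
    (hR : get16 R j = get16 R j') : ∃ x ∈ H, x • C.decode (tAt j) = C.decode (tAt j') := by
  obtain ⟨_, x, hx, hxj⟩ := forest' C H TT r hg tAt P G D R n h j hj
  obtain ⟨_, y, hy, hyj⟩ := forest' C H TT r hg tAt P G D R n h j' hj'
  rw [← hR] at hyj
  refine ⟨y * x⁻¹, H.mul_mem hy (H.inv_mem hx), ?_⟩
  rw [mul_smul, ← hxj, inv_smul_smul, hyj]

/-! ### Enumerations of families -/

/-- The family `Fam` is enumerated without repetition by the codes `tAt j`, `j < n`. -/
structure Enum (C : Coding Ω) (Fam : Set Ω) (tAt : ℕ → ℕ) (n : ℕ) : Prop where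
  mem : ∀ j < n, C.decode (tAt j) ∈ Fam
  surj : ∀ X ∈ Fam, ∃ j < n, C.decode (tAt j) = X
  inj : ∀ j < n, ∀ j' < n, C.decode (tAt j) = C.decode (tAt j') → j = j'

/-- An enumeration from an injective family of members and the cardinality. -/
theorem Enum.of_card (C : Coding Ω) (Fam : Set Ω) (tAt : ℕ → ℕ) (n : ℕ)
    (hmem : ∀ j < n, C.decode (tAt j) ∈ Fam)
    (hinj : ∀ j < n, ∀ j' < n, C.decode (tAt j) = C.decode (tAt j') → j = j')
    (hcard : Fam.ncard = n) (hfin : Fam.Finite) : Enum C Fam tAt n := by
  classical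
  refine ⟨hmem, ?_, hinj⟩
  let img : Finset Ω := (Finset.range n).image (fun j => C.decode (tAt j))
  have himg_card : img.card = n := by
    rw [Finset.card_image_of_injOn, Finset.card_range]
    intro j hj j' hj' hjj
    exact hinj j (Finset.mem_range.mp (Finset.mem_coe.mp hj)) j'
      (Finset.mem_range.mp (Finset.mem_coe.mp hj')) hjj
  have hsub : (img : Set Ω) ⊆ Fam := by
    intro X hX
    rw [Finset.mem_coe, Finset.mem_image] at hX
    obtain ⟨j, hj, rfl⟩ := hX
    exact hmem j (Finset.mem_range.mp hj)
  have heq : (img : Set Ω) = Fam := by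
    apply Set.eq_of_subset_of_ncard_le hsub _ hfin
    rw [Set.ncard_coe_finset, himg_card, hcard]
  intro X hX
  rw [← heq, Finset.mem_coe, Finset.mem_image] at hX
  obtain ⟨j, hj, rfl⟩ := hX
  exact ⟨j, Finset.mem_range.mp hj, rfl⟩

/-- Counting the members of an enumerated family with a property, on codes. -/
theorem Enum.ncard_filter {C : Coding Ω} {Fam : Set Ω} {tAt : ℕ → ℕ} {n : ℕ}
    (E : Enum C Fam tAt n) (P : Ω → Prop) (Q : ℕ → Bool)
    (h : ∀ j < n, P (C.decode (tAt j)) ↔ Q (tAt j) = true) :
    {X | X ∈ Fam ∧ P X}.ncard = sumFold (fun j => if Q (tAt j) = true then 1 else 0) n := by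
  classical
  rw [sumFold_eq, ← Finset.card_filter]
  have : {X | X ∈ Fam ∧ P X} =
      ((((Finset.range n).filter (fun j => Q (tAt j) = true)).image
        (fun j => C.decode (tAt j)) : Finset Ω) : Set Ω) := by
    ext X
    rw [Finset.mem_coe, Finset.mem_image]
    constructor
    · rintro ⟨hX, hP⟩
      obtain ⟨j, hj, rfl⟩ := E.surj X hX
      exact ⟨j, Finset.mem_filter.mpr ⟨Finset.mem_range.mpr hj, (h j hj).mp hP⟩, rfl⟩
    · rintro ⟨j, hj, rfl⟩
      rw [Finset.mem_filter, Finset.mem_range] at hj
      exact ⟨E.mem j hj.1, (h j hj.1).mpr hj.2⟩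
  rw [this, Set.ncard_coe_finset, Finset.card_image_of_injOn]
  intro j hj j' hj' hjj
  rw [Finset.mem_coe, Finset.mem_filter, Finset.mem_range] at hj hj'
  exact E.inj j hj.1 j' hj'.1 hjj

end Cfsg.Agent.Lib.Helper93_M24Obj
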