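import Mathlib
import Cfsg.Agent.Lib.Helper93_M24Obj

/-!
Orbits of stabilisers in `M24`, separated by an invariant: generic lemmas.
-/

set_option autoImplicit false
set_option linter.constructorNameAsVariable false
open Cfsg
open scoped Pointwise
open Cfsg.Agent.Lib.Helper26_Golay

namespace Cfsg.Agent.Lib.Helper93_M24Obj

/-! ### The invariant -/

/-- An invariant of a pair of sets of sets of points. -/
def inv (R X : Finset (Finset GolayPt)) : ℕ := ∑ a ∈ R, ∑ b ∈ X, 5 ^ (a ∩ b).card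

theorem inv_smul (g : Equiv.Perm GolayPt) (R X : Finset (Finset GolayPt)) :
    inv (g • R) (g • X) = inv R X := by
  unfold inv
  have e1 : g • R = R.image (fun a => g • a) := rfl
  have e2 : g • X = X.image (fun a => g • a) := rfl
  rw [e1, e2, Finset.sum_image (fun a _ b _ h => MulAction.injective g h)]
  apply Finset.sum_congr rfl
  intro a _
  rw [Finset.sum_image (fun a _ b _ h => MulAction.injective g h)]
  apply Finset.sum_congr rfl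
  intro b _
  rw [← Finset.smul_finset_inter, Finset.card_smul_finset]

/-- The invariant on lists of bitmasks. -/
def invL (r x : List ℕ) : ℕ := (r.map (fun a => (x.map (fun b => 5 ^ pop (a &&& b))).sum)).sum

theorem nodup_map_dec {k c : ℕ} (h : canon k c = true) : ((mems k c).map dec).Nodup := by
  apply List.Nodup.map_on _ (mems_nodup h)
  intro a ha b hb hab
  exact dec_injOn (lt_of_mem_mems ha) (lt_of_mem_mems hb) hab

theorem inv_setOf {k₁ c₁ k₂ c₂ : ℕ} (h₁ : canon k₁ c₁ = true) (h₂ : canon k₂ c₂ = true) :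
    inv (setOf k₁ c₁) (setOf k₂ c₂) = invL (mems k₁ c₁) (mems k₂ c₂) := by
  unfold inv invL setOf
  rw [List.sum_toFinset _ (nodup_map_dec h₁), List.map_map]
  congr 1
  apply List.map_congr_left
  intro a ha
  rw [Function.comp_apply, List.sum_toFinset _ (nodup_map_dec h₂), List.map_map]
  congr 1
  apply List.map_congr_left
  intro b hb
  rw [Function.comp_apply, card_inter_eq_pop, enc_dec a (lt_of_mem_mems ha),
    enc_dec b (lt_of_mem_mems hb)]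

theorem setOf_one {m : ℕ} (hm : m < 2 ^ 24) : setOf 1 m = {dec m} := by
  have : get24 m 0 = m := by
    unfold get24
    rw [Nat.mul_zero, Nat.shiftRight_zero]
    have h : (16777215 : ℕ) = 2 ^ 24 - 1 := by norm_num
    rw [h, Nat.and_two_pow_sub_one_eq_mod, Nat.mod_eq_of_lt hm]
  unfold setOf mems
  simp [this]

theorem canon_one {m : ℕ} (hm : m < 2 ^ 24) : canon 1 m = true := by
  unfold canon
  rw [Bool.and_eq_true, decide_eq_true_eq]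
  exact ⟨by simpa using hm, rfl⟩

/-! ### Generic orbit lemmas -/

section Generic

variable {Ω₁ Ω₂ : Type*} [MulAction (Equiv.Perm GolayPt) Ω₁] [MulAction (Equiv.Perm GolayPt) Ω₂]

/-- Membership in an orbit of the stabiliser of `R` in `M24`. -/
theorem mem_orbit_stab_iff (R : Ω₁) (X Y : Ω₂) :
    Y ∈ MulAction.orbit ↥(MulAction.stabilizer ↥M24 R) X ↔
      ∃ h ∈ M24, h • R = R ∧ h • X = Y := by
  constructor
  · rintro ⟨⟨⟨h, hM⟩, hstab⟩, rfl⟩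
    exact ⟨h, hM, MulAction.mem_stabilizer_iff.mp hstab, rfl⟩
  · rintro ⟨h, hM, hR, rfl⟩
    exact ⟨⟨⟨h, hM⟩, MulAction.mem_stabilizer_iff.mpr hR⟩, rfl⟩

/-- The orbit classification property: two members of the family with the same invariant are
conjugate under the stabiliser of `R`. -/
def Classifies (I : Ω₁ → Ω₂ → ℕ) (Fam : Set Ω₂) (R : Ω₁) : Prop :=
  ∀ X ∈ Fam, ∀ Y ∈ Fam, I R X = I R Y → ∃ h ∈ M24, h • R = R ∧ h • X = Y

theorem Classifies.smul {I : Ω₁ → Ω₂ → ℕ} (hI : ∀ (g : Equiv.Perm GolayPt) R X, I (g • R) (g • X) = I R X)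
    {Fam : Set Ω₂} (hFam : ∀ g ∈ M24, ∀ X ∈ Fam, g • X ∈ Fam) {R : Ω₁}
    (h0 : Classifies I Fam R) {g : Equiv.Perm GolayPt} (hg : g ∈ M24) :
    Classifies I Fam (g • R) := by
  intro X hX Y hY hXY
  have hX' := hFam g⁻¹ (M24.inv_mem hg) X hX
  have hY' := hFam g⁻¹ (M24.inv_mem hg) Y hY
  have e1 : I R (g⁻¹ • X) = I (g • R) X := by
    rw [← hI g R (g⁻¹ • X), smul_inv_smul]
  have e2 : I R (g⁻¹ • Y) = I (g • R) Y := by
    rw [← hI g R (g⁻¹ • Y), smul_inv_smul]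
  obtain ⟨h, hh, hR, hXY'⟩ := h0 _ hX' _ hY' (by rw [e1, e2, hXY])
  refine ⟨g * h * g⁻¹, M24.mul_mem (M24.mul_mem hg hh) (M24.inv_mem hg), ?_, ?_⟩
  · rw [mul_smul, mul_smul, inv_smul_smul, hR]
  · rw [mul_smul, mul_smul, hXY', smul_inv_smul]

theorem ncard_class_smul {I : Ω₁ → Ω₂ → ℕ}
    (hI : ∀ (g : Equiv.Perm GolayPt) R X, I (g • R) (g • X) = I R X)
    {Fam : Set Ω₂} (hFam : ∀ g ∈ M24, ∀ X ∈ Fam, g • X ∈ Fam) (R : Ω₁)
    {g : Equiv.Perm GolayPt} (hg : g ∈ M24) (v : ℕ) :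
    {Y | Y ∈ Fam ∧ I (g • R) Y = v}.ncard = {Y | Y ∈ Fam ∧ I R Y = v}.ncard := by
  have : {Y | Y ∈ Fam ∧ I (g • R) Y = v} = (fun Y => g • Y) '' {Y | Y ∈ Fam ∧ I R Y = v} := by
    ext Y
    constructor
    · rintro ⟨hY, hv⟩
      refine ⟨g⁻¹ • Y, ⟨hFam _ (M24.inv_mem hg) Y hY, ?_⟩, smul_inv_smul g Y⟩
      rw [← hI g R (g⁻¹ • Y), smul_inv_smul]
      exact hv
    · rintro ⟨Z, ⟨hZ, hv⟩, rfl⟩
      exact ⟨hFam g hg Z hZ, by rw [hI]; exact hv⟩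
  rw [this, Set.ncard_image_of_injective _ (MulAction.injective g)]

/-- Under the classification property the orbits of the stabiliser are the classes of the
invariant. -/
theorem orbit_eq_class {I : Ω₁ → Ω₂ → ℕ}
    (hI : ∀ (g : Equiv.Perm GolayPt) R X, I (g • R) (g • X) = I R X)
    {Fam : Set Ω₂} (hFam : ∀ g ∈ M24, ∀ X ∈ Fam, g • X ∈ Fam) {R : Ω₁}
    (hc : Classifies I Fam R) {X : Ω₂} (hX : X ∈ Fam) :
    MulAction.orbit ↥(MulAction.stabilizer ↥M24 R) X = {Y | Y ∈ Fam ∧ I R Y = I R X} := by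
  ext Y
  rw [mem_orbit_stab_iff]
  constructor
  · rintro ⟨h, hh, hR, rfl⟩
    refine ⟨hFam h hh X hX, ?_⟩
    conv_lhs => rw [← hR]
    exact hI h R X
  · rintro ⟨hY, hv⟩
    exact hc X hX Y hY hv.symm

end Generic

/-! ### Assembling orbit decompositions -/

section Assemble

variable {G Ω : Type*} [Group G] [MulAction G Ω]

theorem mem_values_of_count (Fam : Set Ω) (hfin : Fam.Finite) (J : Ω → ℕ) (V : Finset ℕ)
    (hcount : ∑ v ∈ V, {Y | Y ∈ Fam ∧ J Y = v}.ncard = Fam.ncard) : ∀ Y ∈ Fam, J Y ∈ V := by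
  classical
  set F := hfin.toFinset with hF
  have hmemF : ∀ Y, Y ∈ F ↔ Y ∈ Fam := fun Y => hfin.mem_toFinset
  have h1 : ∀ v, {Y | Y ∈ Fam ∧ J Y = v}.ncard = (F.filter (fun Y => J Y = v)).card := by
    intro v
    rw [← Set.ncard_coe_finset]
    congr 1
    ext Y
    simp [hmemF]
  have h2 : Fam.ncard = F.card := by
    rw [← Set.ncard_coe_finset, hfin.coe_toFinset]
  have h3 : ∑ v ∈ V, (F.filter (fun Y => J Y = v)).card = (F.filter (fun Y => J Y ∈ V)).card := by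
    have hmaps : Set.MapsTo J ((F.filter (fun Y => J Y ∈ V) : Finset Ω) : Set Ω) (V : Set ℕ) :=
      fun Y hY => (Finset.mem_filter.mp (Finset.mem_coe.mp hY)).2
    rw [Finset.card_eq_sum_card_fiberwise hmaps]
    apply Finset.sum_congr rfl
    intro v hv
    congr 1
    ext Y
    simp only [Finset.mem_filter]
    constructor
    · rintro ⟨hY, rfl⟩; exact ⟨⟨hY, hv⟩, rfl⟩
    · rintro ⟨⟨hY, _⟩, h⟩; exact ⟨hY, h⟩
  have h4 : (F.filter (fun Y => J Y ∈ V)).card = F.card := by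
    rw [← h3, ← h2, ← hcount]
    exact Finset.sum_congr rfl (fun v _ => (h1 v).symm)
  have h5 : F.filter (fun Y => J Y ∈ V) = F :=
    Finset.eq_of_subset_of_card_le (Finset.filter_subset _ _) (le_of_eq h4.symm)
  intro Y hY
  have : Y ∈ F.filter (fun Y => J Y ∈ V) := by rw [h5]; exact (hmemF Y).mpr hY
  exact (Finset.mem_filter.mp this).2

theorem exists_of_ncard_pos {S : Set Ω} (h : 0 < S.ncard) : ∃ X, X ∈ S := by
  by_contra hne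
  rw [not_exists] at hne
  have : S = ∅ := Set.eq_empty_of_forall_notMem hne
  rw [this, Set.ncard_empty] at h
  exact lt_irrefl _ h

theorem assemble3 (Fam : Set Ω) (hfin : Fam.Finite) (J : Ω → ℕ)
    (horb : ∀ X ∈ Fam, MulAction.orbit G X = {Y | Y ∈ Fam ∧ J Y = J X})
    (v₁ v₂ v₃ N₁ N₂ N₃ : ℕ) (hv : v₁ ≠ v₂ ∧ v₁ ≠ v₃ ∧ v₂ ≠ v₃)
    (h₁ : {Y | Y ∈ Fam ∧ J Y = v₁}.ncard = N₁) (h₂ : {Y | Y ∈ Fam ∧ J Y = v₂}.ncard = N₂)
    (h₃ : {Y | Y ∈ Fam ∧ J Y = v₃}.ncard = N₃)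
    (hpos : 0 < N₁ ∧ 0 < N₂ ∧ 0 < N₃) (htot : Fam.ncard = N₁ + N₂ + N₃) :
    ∃ X₁ ∈ Fam, ∃ X₂ ∈ Fam, ∃ X₃ ∈ Fam, (MulAction.orbit G X₁).ncard = N₁ ∧
      (MulAction.orbit G X₂).ncard = N₂ ∧ (MulAction.orbit G X₃).ncard = N₃ ∧
      Fam = MulAction.orbit G X₁ ∪ MulAction.orbit G X₂ ∪ MulAction.orbit G X₃ := by
  obtain ⟨X₁, hX₁, hJ₁⟩ := exists_of_ncard_pos (by rw [h₁]; exact hpos.1)
  obtain ⟨X₂, hX₂, hJ₂⟩ := exists_of_ncard_pos (by rw [h₂]; exact hpos.2.1)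
  obtain ⟨X₃, hX₃, hJ₃⟩ := exists_of_ncard_pos (by rw [h₃]; exact hpos.2.2)
  refine ⟨X₁, hX₁, X₂, hX₂, X₃, hX₃, ?_, ?_, ?_, ?_⟩
  · rw [horb X₁ hX₁, hJ₁, h₁]
  · rw [horb X₂ hX₂, hJ₂, h₂]
  · rw [horb X₃ hX₃, hJ₃, h₃]
  · have hV := mem_values_of_count Fam hfin J {v₁, v₂, v₃} (by
      rw [Finset.sum_insert (by simp [hv.1, hv.2.1]), Finset.sum_insert (by simp [hv.2.2]),
        Finset.sum_singleton, h₁, h₂, h₃, htot]; ring)
    rw [horb X₁ hX₁, horb X₂ hX₂, horb X₃ hX₃, hJ₁, hJ₂, hJ₃]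
    ext Y
    simp only [Set.mem_union, Set.mem_ofPred_eq]
    constructor
    · intro hY
      have := hV Y hY
      simp only [Finset.mem_insert, Finset.mem_singleton] at this
      rcases this with h | h | h
      · exact Or.inl (Or.inl ⟨hY, h⟩)
      · exact Or.inl (Or.inr ⟨hY, h⟩)
      · exact Or.inr ⟨hY, h⟩
    · rintro ((h | h) | h) <;> exact h.1

theorem assemble4 (Fam : Set Ω) (hfin : Fam.Finite) (J : Ω → ℕ)
    (horb : ∀ X ∈ Fam, MulAction.orbit G X = {Y | Y ∈ Fam ∧ J Y = J X})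
    (v₁ v₂ v₃ v₄ N₁ N₂ N₃ N₄ : ℕ)
    (hv : v₁ ≠ v₂ ∧ v₁ ≠ v₃ ∧ v₁ ≠ v₄ ∧ v₂ ≠ v₃ ∧ v₂ ≠ v₄ ∧ v₃ ≠ v₄)
    (h₁ : {Y | Y ∈ Fam ∧ J Y = v₁}.ncard = N₁) (h₂ : {Y | Y ∈ Fam ∧ J Y = v₂}.ncard = N₂)
    (h₃ : {Y | Y ∈ Fam ∧ J Y = v₃}.ncard = N₃) (h₄ : {Y | Y ∈ Fam ∧ J Y = v₄}.ncard = N₄)
    (hpos : 0 < N₁ ∧ 0 < N₂ ∧ 0 < N₃ ∧ 0 < N₄) (htot : Fam.ncard = N₁ + N₂ + N₃ + N₄) :
    ∃ X₁ ∈ Fam, ∃ X₂ ∈ Fam, ∃ X₃ ∈ Fam, ∃ X₄ ∈ Fam, (MulAction.orbit G X₁).ncard = N₁ ∧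
      (MulAction.orbit G X₂).ncard = N₂ ∧ (MulAction.orbit G X₃).ncard = N₃ ∧
      (MulAction.orbit G X₄).ncard = N₄ ∧
      Fam = MulAction.orbit G X₁ ∪ MulAction.orbit G X₂ ∪ MulAction.orbit G X₃ ∪
        MulAction.orbit G X₄ := by
  obtain ⟨X₁, hX₁, hJ₁⟩ := exists_of_ncard_pos (by rw [h₁]; exact hpos.1)
  obtain ⟨X₂, hX₂, hJ₂⟩ := exists_of_ncard_pos (by rw [h₂]; exact hpos.2.1)
  obtain ⟨X₃, hX₃, hJ₃⟩ := exists_of_ncard_pos (by rw [h₃]; exact hpos.2.2.1)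
  obtain ⟨X₄, hX₄, hJ₄⟩ := exists_of_ncard_pos (by rw [h₄]; exact hpos.2.2.2)
  refine ⟨X₁, hX₁, X₂, hX₂, X₃, hX₃, X₄, hX₄, ?_, ?_, ?_, ?_, ?_⟩
  · rw [horb X₁ hX₁, hJ₁, h₁]
  · rw [horb X₂ hX₂, hJ₂, h₂]
  · rw [horb X₃ hX₃, hJ₃, h₃]
  · rw [horb X₄ hX₄, hJ₄, h₄]
  · have hV := mem_values_of_count Fam hfin J {v₁, v₂, v₃, v₄} (by
      rw [Finset.sum_insert (by simp [hv.1, hv.2.1, hv.2.2.1]),
        Finset.sum_insert (by simp [hv.2.2.2.1, hv.2.2.2.2.1]),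
        Finset.sum_insert (by simp [hv.2.2.2.2.2]),
        Finset.sum_singleton, h₁, h₂, h₃, h₄, htot]; ring)
    rw [horb X₁ hX₁, horb X₂ hX₂, horb X₃ hX₃, horb X₄ hX₄, hJ₁, hJ₂, hJ₃, hJ₄]
    ext Y
    simp only [Set.mem_union, Set.mem_ofPred_eq]
    constructor
    · intro hY
      have := hV Y hY
      simp only [Finset.mem_insert, Finset.mem_singleton] at this
      rcases this with h | h | h | h
      · exact Or.inl (Or.inl (Or.inl ⟨hY, h⟩))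
      · exact Or.inl (Or.inl (Or.inr ⟨hY, h⟩))
      · exact Or.inl (Or.inr ⟨hY, h⟩)
      · exact Or.inr ⟨hY, h⟩
    · rintro (((h | h) | h) | h) <;> exact h.1

end Assemble

/-! ### Classification from certificates -/

section Cert

variable {Ω₁ Ω₂ : Type*} [MulAction (Equiv.Perm GolayPt) Ω₁] [MulAction (Equiv.Perm GolayPt) Ω₂]

/-- From an orbit certificate whose roots are determined by the invariant: the classification
property for the base object. -/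
theorem classifies_of_forest (C₁ : Coding Ω₁) (C₂ : Coding Ω₂) (r₀ : ℕ) (TT r : ℕ)
    (hgens : allFold (fun g => tblInM24 (get120 TT g) && C₁.step (get120 TT g) r₀ r₀) r = true)
    (Fam : Set Ω₂) (tAt : ℕ → ℕ) (n : ℕ) (E : Enum C₂ Fam tAt n) (P G D R : ℕ)
    (hforest : forestCheck (stepOk C₂ TT r) tAt P G D R n = true)
    (I : Ω₁ → Ω₂ → ℕ) (invC : ℕ → ℕ)
    (hinv : ∀ j < n, I (C₁.decode r₀) (C₂.decode (tAt j)) = invC (tAt j))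
    (rootSel : ℕ → ℕ)
    (hroot : allFold (fun j => get16 R j == rootSel (invC (tAt j))) n = true) :
    Classifies I Fam (C₁.decode r₀) := by
  intro X hX Y hY hXY
  obtain ⟨j, hj, rfl⟩ := E.surj X hX
  obtain ⟨j', hj', rfl⟩ := E.surj Y hY
  rw [hinv j hj, hinv j' hj'] at hXY
  have hR : get16 R j = get16 R j' := by
    have h1 := (allFold_eq_true _ _).mp hroot j hj
    have h2 := (allFold_eq_true _ _).mp hroot j' hj'
    rw [beq_iff_eq] at h1 h2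
    rw [h1, h2, hXY]
  obtain ⟨x, hx, hxy⟩ := rel_of_same_root C₂ _ TT r (gensIn_stab' C₁ r₀ TT r hgens) tAt P G D R n
    hforest hj hj' hR
  exact ⟨x, (Subgroup.mem_inf.mp hx).1, MulAction.mem_stabilizer_iff.mp (Subgroup.mem_inf.mp hx).2,
    hxy⟩

end Cert

/-! ### Orbit decompositions for an arbitrary object conjugate to the base object -/

section Final

variable {Ω₁ Ω₂ : Type*} [MulAction (Equiv.Perm GolayPt) Ω₁] [MulAction (Equiv.Perm GolayPt) Ω₂]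

theorem orbits3 (I : Ω₁ → Ω₂ → ℕ)
    (hI : ∀ (g : Equiv.Perm GolayPt) R X, I (g • R) (g • X) = I R X)
    (Fam : Set Ω₂) (hFam : ∀ g ∈ M24, ∀ X ∈ Fam, g • X ∈ Fam) (hfin : Fam.Finite)
    (R₀ : Ω₁) (hc : Classifies I Fam R₀) (v₁ v₂ v₃ N₁ N₂ N₃ : ℕ)
    (hv : v₁ ≠ v₂ ∧ v₁ ≠ v₃ ∧ v₂ ≠ v₃)
    (h₁ : {Y | Y ∈ Fam ∧ I R₀ Y = v₁}.ncard = N₁) (h₂ : {Y | Y ∈ Fam ∧ I R₀ Y = v₂}.ncard = N₂)
    (h₃ : {Y | Y ∈ Fam ∧ I R₀ Y = v₃}.ncard = N₃)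
    (hpos : 0 < N₁ ∧ 0 < N₂ ∧ 0 < N₃) (htot : Fam.ncard = N₁ + N₂ + N₃)
    (R : Ω₁) (hR : ∃ g ∈ M24, g • R₀ = R) :
    ∃ X₁ ∈ Fam, ∃ X₂ ∈ Fam, ∃ X₃ ∈ Fam,
      (MulAction.orbit ↥(MulAction.stabilizer ↥M24 R) X₁).ncard = N₁ ∧
      (MulAction.orbit ↥(MulAction.stabilizer ↥M24 R) X₂).ncard = N₂ ∧
      (MulAction.orbit ↥(MulAction.stabilizer ↥M24 R) X₃).ncard = N₃ ∧
      Fam = MulAction.orbit ↥(MulAction.stabilizer ↥M24 R) X₁ ∪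
        MulAction.orbit ↥(MulAction.stabilizer ↥M24 R) X₂ ∪
        MulAction.orbit ↥(MulAction.stabilizer ↥M24 R) X₃ := by
  obtain ⟨g, hg, rfl⟩ := hR
  have hc' := hc.smul hI hFam hg
  exact assemble3 Fam hfin (I (g • R₀)) (fun X hX => orbit_eq_class hI hFam hc' hX)
    v₁ v₂ v₃ N₁ N₂ N₃ hv
    (by rw [ncard_class_smul hI hFam R₀ hg, h₁]) (by rw [ncard_class_smul hI hFam R₀ hg, h₂])
    (by rw [ncard_class_smul hI hFam R₀ hg, h₃]) hpos htot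

theorem orbits4 (I : Ω₁ → Ω₂ → ℕ)
    (hI : ∀ (g : Equiv.Perm GolayPt) R X, I (g • R) (g • X) = I R X)
    (Fam : Set Ω₂) (hFam : ∀ g ∈ M24, ∀ X ∈ Fam, g • X ∈ Fam) (hfin : Fam.Finite)
    (R₀ : Ω₁) (hc : Classifies I Fam R₀) (v₁ v₂ v₃ v₄ N₁ N₂ N₃ N₄ : ℕ)
    (hv : v₁ ≠ v₂ ∧ v₁ ≠ v₃ ∧ v₁ ≠ v₄ ∧ v₂ ≠ v₃ ∧ v₂ ≠ v₄ ∧ v₃ ≠ v₄)
    (h₁ : {Y | Y ∈ Fam ∧ I R₀ Y = v₁}.ncard = N₁) (h₂ : {Y | Y ∈ Fam ∧ I R₀ Y = v₂}.ncard = N₂)
    (h₃ : {Y | Y ∈ Fam ∧ I R₀ Y = v₃}.ncard = N₃) (h₄ : {Y | Y ∈ Fam ∧ I R₀ Y = v₄}.ncard = N₄)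
    (hpos : 0 < N₁ ∧ 0 < N₂ ∧ 0 < N₃ ∧ 0 < N₄) (htot : Fam.ncard = N₁ + N₂ + N₃ + N₄)
    (R : Ω₁) (hR : ∃ g ∈ M24, g • R₀ = R) :
    ∃ X₁ ∈ Fam, ∃ X₂ ∈ Fam, ∃ X₃ ∈ Fam, ∃ X₄ ∈ Fam,
      (MulAction.orbit ↥(MulAction.stabilizer ↥M24 R) X₁).ncard = N₁ ∧
      (MulAction.orbit ↥(MulAction.stabilizer ↥M24 R) X₂).ncard = N₂ ∧
      (MulAction.orbit ↥(MulAction.stabilizer ↥M24 R) X₃).ncard = N₃ ∧
      (MulAction.orbit ↥(MulAction.stabilizer ↥M24 R) X₄).ncard = N₄ ∧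
      Fam = MulAction.orbit ↥(MulAction.stabilizer ↥M24 R) X₁ ∪
        MulAction.orbit ↥(MulAction.stabilizer ↥M24 R) X₂ ∪
        MulAction.orbit ↥(MulAction.stabilizer ↥M24 R) X₃ ∪
        MulAction.orbit ↥(MulAction.stabilizer ↥M24 R) X₄ := by
  obtain ⟨g, hg, rfl⟩ := hR
  have hc' := hc.smul hI hFam hg
  exact assemble4 Fam hfin (I (g • R₀)) (fun X hX => orbit_eq_class hI hFam hc' hX)
    v₁ v₂ v₃ v₄ N₁ N₂ N₃ N₄ hv
    (by rw [ncard_class_smul hI hFam R₀ hg, h₁]) (by rw [ncard_class_smul hI hFam R₀ hg, h₂])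
    (by rw [ncard_class_smul hI hFam R₀ hg, h₃]) (by rw [ncard_class_smul hI hFam R₀ hg, h₄])
    hpos htot

end Final

end Cfsg.Agent.Lib.Helper93_M24Obj
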