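import Mathlib
import Cfsg.Agent.Lib.Helper93_M24Orbits
import Cfsg.Agent.Lib.Helper26_Maximal

/-!
Orbits of the stabiliser in `M24` of a member `R` of a family on the family itself, from the
classification property of helper93's `Helper93_M24Orbits`: the decomposition
`Fam = {R} ∪ orbit X₁ ∪ ...` and maximality of the stabiliser from the orbit counts.
-/

set_option autoImplicit false
set_option linter.constructorNameAsVariable false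
open Cfsg
open scoped Pointwise
open Cfsg.Agent.Lib.Helper93_M24Obj

namespace Cfsg.Agent.Lib.Helper26_Golay

section Self

variable {Ω : Type*} [MulAction (Equiv.Perm GolayPt) Ω]

omit [MulAction (Equiv.Perm GolayPt) Ω] in
/-- The class of the base point itself is a singleton when it has one element. -/
theorem class_self_eq_singleton {I : Ω → Ω → ℕ} {Fam : Set Ω} {R : Ω} (hR : R ∈ Fam) {v₀ : ℕ}
    (hself : I R R = v₀) (h₀ : {Y | Y ∈ Fam ∧ I R Y = v₀}.ncard = 1) :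
    {Y | Y ∈ Fam ∧ I R Y = v₀} = {R} := by
  obtain ⟨a, ha⟩ := Set.ncard_eq_one.mp h₀
  have hmem : R ∈ {Y | Y ∈ Fam ∧ I R Y = v₀} := ⟨hR, hself⟩
  rw [ha, Set.mem_singleton_iff] at hmem
  rw [ha, hmem]

theorem self3 (I : Ω → Ω → ℕ)
    (hI : ∀ (g : Equiv.Perm GolayPt) R X, I (g • R) (g • X) = I R X)
    (Fam : Set Ω) (hFam : ∀ g ∈ M24, ∀ X ∈ Fam, g • X ∈ Fam) (hfin : Fam.Finite)
    (R₀ : Ω) (hR₀ : R₀ ∈ Fam) (hc : Classifies I Fam R₀) (v₀ v₁ v₂ v₃ N₁ N₂ N₃ : ℕ)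
    (hv : v₀ ≠ v₁ ∧ v₀ ≠ v₂ ∧ v₀ ≠ v₃ ∧ v₁ ≠ v₂ ∧ v₁ ≠ v₃ ∧ v₂ ≠ v₃)
    (hself : I R₀ R₀ = v₀)
    (h₀ : {Y | Y ∈ Fam ∧ I R₀ Y = v₀}.ncard = 1)
    (h₁ : {Y | Y ∈ Fam ∧ I R₀ Y = v₁}.ncard = N₁) (h₂ : {Y | Y ∈ Fam ∧ I R₀ Y = v₂}.ncard = N₂)
    (h₃ : {Y | Y ∈ Fam ∧ I R₀ Y = v₃}.ncard = N₃)
    (hpos : 0 < N₁ ∧ 0 < N₂ ∧ 0 < N₃) (htot : Fam.ncard = 1 + N₁ + N₂ + N₃)
    (R : Ω) (hR : ∃ g ∈ M24, g • R₀ = R) :
    ∃ X₁ ∈ Fam, ∃ X₂ ∈ Fam, ∃ X₃ ∈ Fam,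
      (MulAction.orbit ↥(MulAction.stabilizer ↥M24 R) X₁).ncard = N₁ ∧
      (MulAction.orbit ↥(MulAction.stabilizer ↥M24 R) X₂).ncard = N₂ ∧
      (MulAction.orbit ↥(MulAction.stabilizer ↥M24 R) X₃).ncard = N₃ ∧
      Fam = {R} ∪ MulAction.orbit ↥(MulAction.stabilizer ↥M24 R) X₁ ∪
        MulAction.orbit ↥(MulAction.stabilizer ↥M24 R) X₂ ∪
        MulAction.orbit ↥(MulAction.stabilizer ↥M24 R) X₃ := by
  obtain ⟨g, hg, rfl⟩ := hR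
  have hc' := hc.smul hI hFam hg
  have hRF : g • R₀ ∈ Fam := hFam g hg R₀ hR₀
  have horb := fun X (hX : X ∈ Fam) => orbit_eq_class hI hFam hc' hX
  have k₀ : {Y | Y ∈ Fam ∧ I (g • R₀) Y = v₀}.ncard = 1 := by
    rw [ncard_class_smul hI hFam R₀ hg, h₀]
  have k₁ : {Y | Y ∈ Fam ∧ I (g • R₀) Y = v₁}.ncard = N₁ := by
    rw [ncard_class_smul hI hFam R₀ hg, h₁]
  have k₂ : {Y | Y ∈ Fam ∧ I (g • R₀) Y = v₂}.ncard = N₂ := by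
    rw [ncard_class_smul hI hFam R₀ hg, h₂]
  have k₃ : {Y | Y ∈ Fam ∧ I (g • R₀) Y = v₃}.ncard = N₃ := by
    rw [ncard_class_smul hI hFam R₀ hg, h₃]
  have hself' : I (g • R₀) (g • R₀) = v₀ := by rw [hI, hself]
  have hsing := class_self_eq_singleton hRF hself' k₀
  obtain ⟨X₁, hX₁, hJ₁⟩ := exists_of_ncard_pos (by rw [k₁]; exact hpos.1)
  obtain ⟨X₂, hX₂, hJ₂⟩ := exists_of_ncard_pos (by rw [k₂]; exact hpos.2.1)
  obtain ⟨X₃, hX₃, hJ₃⟩ := exists_of_ncard_pos (by rw [k₃]; exact hpos.2.2)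
  refine ⟨X₁, hX₁, X₂, hX₂, X₃, hX₃, ?_, ?_, ?_, ?_⟩
  · rw [horb X₁ hX₁, hJ₁, k₁]
  · rw [horb X₂ hX₂, hJ₂, k₂]
  · rw [horb X₃ hX₃, hJ₃, k₃]
  · have hV := mem_values_of_count Fam hfin (I (g • R₀)) {v₀, v₁, v₂, v₃} (by
      rw [Finset.sum_insert (by simp [hv.1, hv.2.1, hv.2.2.1]),
        Finset.sum_insert (by simp [hv.2.2.2.1, hv.2.2.2.2.1]),
        Finset.sum_insert (by simp [hv.2.2.2.2.2]),
        Finset.sum_singleton, k₀, k₁, k₂, k₃, htot]; ring)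
    rw [horb X₁ hX₁, horb X₂ hX₂, horb X₃ hX₃, hJ₁, hJ₂, hJ₃, ← hsing]
    ext Y
    simp only [Set.mem_union, Set.mem_ofPred_eq]
    constructor
    · intro hY
      have := hV Y hY
      simp only [Finset.mem_insert, Finset.mem_singleton] at this
      rcases this with h | h | h | h
      · exact Or.inl (Or.inl (Or.inl ⟨hY, h⟩))
      · exact Or.inl (Or.inl (Or.inr ⟨hY, h⟩))
      · exact Or.inl (Or.inr ⟨hY, h⟩)
      · exact Or.inr ⟨hY, h⟩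
    · rintro (((h | h) | h) | h) <;> exact h.1

theorem self4 (I : Ω → Ω → ℕ)
    (hI : ∀ (g : Equiv.Perm GolayPt) R X, I (g • R) (g • X) = I R X)
    (Fam : Set Ω) (hFam : ∀ g ∈ M24, ∀ X ∈ Fam, g • X ∈ Fam) (hfin : Fam.Finite)
    (R₀ : Ω) (hR₀ : R₀ ∈ Fam) (hc : Classifies I Fam R₀) (v₀ v₁ v₂ v₃ v₄ N₁ N₂ N₃ N₄ : ℕ)
    (hv : v₀ ≠ v₁ ∧ v₀ ≠ v₂ ∧ v₀ ≠ v₃ ∧ v₀ ≠ v₄ ∧ v₁ ≠ v₂ ∧ v₁ ≠ v₃ ∧ v₁ ≠ v₄ ∧ v₂ ≠ v₃ ∧
      v₂ ≠ v₄ ∧ v₃ ≠ v₄)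
    (hself : I R₀ R₀ = v₀)
    (h₀ : {Y | Y ∈ Fam ∧ I R₀ Y = v₀}.ncard = 1)
    (h₁ : {Y | Y ∈ Fam ∧ I R₀ Y = v₁}.ncard = N₁) (h₂ : {Y | Y ∈ Fam ∧ I R₀ Y = v₂}.ncard = N₂)
    (h₃ : {Y | Y ∈ Fam ∧ I R₀ Y = v₃}.ncard = N₃) (h₄ : {Y | Y ∈ Fam ∧ I R₀ Y = v₄}.ncard = N₄)
    (hpos : 0 < N₁ ∧ 0 < N₂ ∧ 0 < N₃ ∧ 0 < N₄) (htot : Fam.ncard = 1 + N₁ + N₂ + N₃ + N₄)
    (R : Ω) (hR : ∃ g ∈ M24, g • R₀ = R) :
    ∃ X₁ ∈ Fam, ∃ X₂ ∈ Fam, ∃ X₃ ∈ Fam, ∃ X₄ ∈ Fam,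
      (MulAction.orbit ↥(MulAction.stabilizer ↥M24 R) X₁).ncard = N₁ ∧
      (MulAction.orbit ↥(MulAction.stabilizer ↥M24 R) X₂).ncard = N₂ ∧
      (MulAction.orbit ↥(MulAction.stabilizer ↥M24 R) X₃).ncard = N₃ ∧
      (MulAction.orbit ↥(MulAction.stabilizer ↥M24 R) X₄).ncard = N₄ ∧
      Fam = {R} ∪ MulAction.orbit ↥(MulAction.stabilizer ↥M24 R) X₁ ∪
        MulAction.orbit ↥(MulAction.stabilizer ↥M24 R) X₂ ∪
        MulAction.orbit ↥(MulAction.stabilizer ↥M24 R) X₃ ∪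
        MulAction.orbit ↥(MulAction.stabilizer ↥M24 R) X₄ := by
  obtain ⟨g, hg, rfl⟩ := hR
  have hc' := hc.smul hI hFam hg
  have hRF : g • R₀ ∈ Fam := hFam g hg R₀ hR₀
  have horb := fun X (hX : X ∈ Fam) => orbit_eq_class hI hFam hc' hX
  have k₀ : {Y | Y ∈ Fam ∧ I (g • R₀) Y = v₀}.ncard = 1 := by
    rw [ncard_class_smul hI hFam R₀ hg, h₀]
  have k₁ : {Y | Y ∈ Fam ∧ I (g • R₀) Y = v₁}.ncard = N₁ := by
    rw [ncard_class_smul hI hFam R₀ hg, h₁]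
  have k₂ : {Y | Y ∈ Fam ∧ I (g • R₀) Y = v₂}.ncard = N₂ := by
    rw [ncard_class_smul hI hFam R₀ hg, h₂]
  have k₃ : {Y | Y ∈ Fam ∧ I (g • R₀) Y = v₃}.ncard = N₃ := by
    rw [ncard_class_smul hI hFam R₀ hg, h₃]
  have k₄ : {Y | Y ∈ Fam ∧ I (g • R₀) Y = v₄}.ncard = N₄ := by
    rw [ncard_class_smul hI hFam R₀ hg, h₄]
  have hself' : I (g • R₀) (g • R₀) = v₀ := by rw [hI, hself]
  have hsing := class_self_eq_singleton hRF hself' k₀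
  obtain ⟨X₁, hX₁, hJ₁⟩ := exists_of_ncard_pos (by rw [k₁]; exact hpos.1)
  obtain ⟨X₂, hX₂, hJ₂⟩ := exists_of_ncard_pos (by rw [k₂]; exact hpos.2.1)
  obtain ⟨X₃, hX₃, hJ₃⟩ := exists_of_ncard_pos (by rw [k₃]; exact hpos.2.2.1)
  obtain ⟨X₄, hX₄, hJ₄⟩ := exists_of_ncard_pos (by rw [k₄]; exact hpos.2.2.2)
  refine ⟨X₁, hX₁, X₂, hX₂, X₃, hX₃, X₄, hX₄, ?_, ?_, ?_, ?_, ?_⟩
  · rw [horb X₁ hX₁, hJ₁, k₁]
  · rw [horb X₂ hX₂, hJ₂, k₂]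
  · rw [horb X₃ hX₃, hJ₃, k₃]
  · rw [horb X₄ hX₄, hJ₄, k₄]
  · have hV := mem_values_of_count Fam hfin (I (g • R₀)) {v₀, v₁, v₂, v₃, v₄} (by
      rw [Finset.sum_insert (by simp [hv.1, hv.2.1, hv.2.2.1, hv.2.2.2.1]),
        Finset.sum_insert (by simp [hv.2.2.2.2.1, hv.2.2.2.2.2.1, hv.2.2.2.2.2.2.1]),
        Finset.sum_insert (by simp [hv.2.2.2.2.2.2.2.1, hv.2.2.2.2.2.2.2.2.1]),
        Finset.sum_insert (by simp [hv.2.2.2.2.2.2.2.2.2]),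
        Finset.sum_singleton, k₀, k₁, k₂, k₃, k₄, htot]; ring)
    rw [horb X₁ hX₁, horb X₂ hX₂, horb X₃ hX₃, horb X₄ hX₄, hJ₁, hJ₂, hJ₃, hJ₄, ← hsing]
    ext Y
    simp only [Set.mem_union, Set.mem_ofPred_eq]
    constructor
    · intro hY
      have := hV Y hY
      simp only [Finset.mem_insert, Finset.mem_singleton] at this
      rcases this with h | h | h | h | h
      · exact Or.inl (Or.inl (Or.inl (Or.inl ⟨hY, h⟩)))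
      · exact Or.inl (Or.inl (Or.inl (Or.inr ⟨hY, h⟩)))
      · exact Or.inl (Or.inl (Or.inr ⟨hY, h⟩))
      · exact Or.inl (Or.inr ⟨hY, h⟩)
      · exact Or.inr ⟨hY, h⟩
    · rintro ((((h | h) | h) | h) | h) <;> exact h.1

/-- Maximality of the stabiliser of a member of a family on which `M24` is transitive, from the
classification property and the orbit counts. -/
theorem isCoatom_of_classifies (I : Ω → Ω → ℕ)
    (hI : ∀ (g : Equiv.Perm GolayPt) R X, I (g • R) (g • X) = I R X)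
    (Fam : Set Ω) (hFam : ∀ g ∈ M24, ∀ X ∈ Fam, g • X ∈ Fam) (hfin : Fam.Finite)
    (R₀ : Ω) (hR₀ : R₀ ∈ Fam) (htrans : ∀ S ∈ Fam, ∃ g ∈ M24, g • R₀ = S)
    (hc : Classifies I Fam R₀) (vs : Finset ℕ) (N : ℕ → ℕ)
    (hN : ∀ v ∈ vs, {Y | Y ∈ Fam ∧ I R₀ Y = v}.ncard = N v)
    (htot : ∑ v ∈ vs, N v = Fam.ncard)
    (hdiv : ∀ V : Finset ℕ, V ⊆ vs → I R₀ R₀ ∈ V → (∑ v ∈ V, N v) ∣ Fam.ncard →
      (∑ v ∈ V, N v) = 1 ∨ (∑ v ∈ V, N v) = Fam.ncard)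
    (hcard : 1 < Fam.ncard) (R : Ω) (hR : R ∈ Fam) :
    IsCoatom (MulAction.stabilizer ↥M24 R) := by
  classical
  obtain ⟨g, hg, rfl⟩ := htrans R hR
  have hc' := hc.smul hI hFam hg
  have hXcard : hfin.toFinset.card = Fam.ncard := by
    rw [← Set.ncard_coe_finset, hfin.coe_toFinset]
  have hfilter : ∀ v, (hfin.toFinset.filter (fun y => I (g • R₀) y = v)).card =
      {Y | Y ∈ Fam ∧ I (g • R₀) Y = v}.ncard := by
    intro v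
    rw [← Set.ncard_coe_finset]
    apply congrArg Set.ncard
    ext Y
    simp [Set.Finite.mem_toFinset]
  apply isCoatom_stabilizer_of_counts (G := ↥M24) (α := Ω) (g • R₀) hfin.toFinset ?_
    (fun y => I (g • R₀) y) vs N
  · intro y hy z hz hyz
    rw [Set.Finite.mem_toFinset] at hy hz
    obtain ⟨h, hh, hhR, hhy⟩ := hc' y hy z hz hyz
    exact ⟨⟨h, hh⟩, MulAction.mem_stabilizer_iff.mpr hhR, hhy⟩
  · intro y hy
    rw [Set.Finite.mem_toFinset] at hy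
    apply mem_values_of_count Fam hfin (I (g • R₀)) vs ?_ y hy
    rw [← htot]
    apply Finset.sum_congr rfl
    intro v hv
    rw [ncard_class_smul hI hFam R₀ hg, hN v hv]
  · intro v hv
    rw [hfilter, ncard_class_smul hI hFam R₀ hg, hN v hv]
  · intro V hV hself hd
    rw [hXcard] at hd ⊢
    have : I R₀ R₀ ∈ V := by
      have h2 : I (g • R₀) (g • R₀) = I R₀ R₀ := hI g R₀ R₀
      rw [← h2]; exact hself
    exact hdiv V hV this hd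
  · rw [hXcard]; exact hcard
  · intro y
    rw [Set.Finite.mem_toFinset]
    constructor
    · intro hy
      obtain ⟨g', hg', rfl⟩ := htrans y hy
      refine ⟨⟨g' * g⁻¹, M24.mul_mem hg' (M24.inv_mem hg)⟩, ?_⟩
      show (g' * g⁻¹) • g • R₀ = g' • R₀
      rw [mul_smul, inv_smul_smul]
    · rintro ⟨k, rfl⟩
      exact hFam k.1 k.2 _ (hFam g hg R₀ hR₀)

end Self

end Cfsg.Agent.Lib.Helper26_Golay
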