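import Mathlib
import Cfsg.Agent.Lib.Helper93_M24Orbits
import Cfsg.Agent.Lib.Helper93_M24Sextets

/-!
The families (octads, trios, sextets) as `M24`-invariant enumerated families, and the invariants
used to separate orbits of stabilisers.
-/

set_option autoImplicit false
set_option linter.constructorNameAsVariable false
open Cfsg
open scoped Pointwise
open Cfsg.Agent.Lib.Helper26_Golay

namespace Cfsg.Agent.Lib.Helper93_M24Obj

theorem smul_mem_trios {g : Equiv.Perm GolayPt} (hg : g ∈ M24) {T : Finset (Finset GolayPt)}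
    (hT : T ∈ trios) : g • T ∈ trios := by
  obtain ⟨hc, hoct, hdis⟩ := hT
  refine ⟨by rw [Finset.card_smul_finset, hc], ?_, ?_⟩
  · intro o ho
    rw [Finset.mem_smul_finset] at ho
    obtain ⟨o', ho', rfl⟩ := ho
    exact smul_mem_octads hg (hoct o' ho')
  · intro o ho o' ho' hne
    rw [Finset.mem_smul_finset] at ho ho'
    obtain ⟨a, ha, rfl⟩ := ho
    obtain ⟨b, hb, rfl⟩ := ho'
    have hab : a ≠ b := fun h => hne (by rw [h])
    have := hdis a ha b hb hab
    rw [Finset.disjoint_iff_inter_eq_empty] at this ⊢
    rw [← Finset.smul_finset_inter, this, Finset.smul_finset_empty]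

theorem smul_mem_sextets {g : Equiv.Perm GolayPt} (hg : g ∈ M24) {S : Finset (Finset GolayPt)}
    (hS : S ∈ sextets) : g • S ∈ sextets := by
  obtain ⟨hc, h4, hoct⟩ := hS
  refine ⟨by rw [Finset.card_smul_finset, hc], ?_, ?_⟩
  · intro t ht
    rw [Finset.mem_smul_finset] at ht
    obtain ⟨t', ht', rfl⟩ := ht
    rw [Finset.card_smul_finset]
    exact h4 t' ht'
  · intro t ht u hu hne
    rw [Finset.mem_smul_finset] at ht hu
    obtain ⟨a, ha, rfl⟩ := ht
    obtain ⟨b, hb, rfl⟩ := hu
    have hab : a ≠ b := fun h => hne (by rw [h])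
    rw [← Finset.smul_finset_union]
    exact smul_mem_octads hg (hoct a ha b hb hab)

/-- The octads are enumerated by the table `octAt`. -/
theorem octEnum : Enum maskCoding octads octAt 759 := by
  refine ⟨?_, ?_, ?_⟩
  · intro j hj
    show dec (octAt j) ∈ octads
    rw [mem_octads_iff, enc_dec _ (octAt_lt j)]
    exact List.mem_map.mpr ⟨j, List.mem_range.mpr hj, rfl⟩
  · intro X hX
    rw [mem_octads_iff] at hX
    obtain ⟨j, hj, hjX⟩ := List.mem_map.mp hX
    refine ⟨j, List.mem_range.mp hj, ?_⟩
    show dec (octAt j) = X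
    rw [hjX, dec_enc]
  · intro j hj j' hj' h
    have h1 : octAt j = octAt j' := dec_injOn (octAt_lt j) (octAt_lt j') h
    have hnd := octList_nodup
    unfold octList at hnd
    exact List.inj_on_of_nodup_map hnd (List.mem_range.mpr hj) (List.mem_range.mpr hj') h1

/-- Invariant of (set of points, set of sets of points). -/
def invPS (o : Finset GolayPt) (X : Finset (Finset GolayPt)) : ℕ := inv {o} X

/-- Invariant of (set of sets of points, set of points). -/
def invSP (R : Finset (Finset GolayPt)) (o : Finset GolayPt) : ℕ := inv R {o}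

theorem invPS_smul (g : Equiv.Perm GolayPt) (o : Finset GolayPt) (X : Finset (Finset GolayPt)) :
    invPS (g • o) (g • X) = invPS o X := by
  unfold invPS
  rw [← Finset.smul_finset_singleton, inv_smul]

theorem invSP_smul (g : Equiv.Perm GolayPt) (R : Finset (Finset GolayPt)) (o : Finset GolayPt) :
    invSP (g • R) (g • o) = invSP R o := by
  unfold invSP
  rw [← Finset.smul_finset_singleton, inv_smul]

theorem mems_one {m : ℕ} (hm : m < 2 ^ 24) : mems 1 m = [m] := by
  have : get24 m 0 = m := by
    unfold get24
    rw [Nat.mul_zero, Nat.shiftRight_zero]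
    have h : (16777215 : ℕ) = 2 ^ 24 - 1 := by norm_num
    rw [h, Nat.and_two_pow_sub_one_eq_mod, Nat.mod_eq_of_lt hm]
  unfold mems
  simp [this]

theorem invPS_code {m k c : ℕ} (hm : m < 2 ^ 24) (hc : canon k c = true) :
    invPS (dec m) (setOf k c) = invL [m] (mems k c) := by
  unfold invPS
  rw [← setOf_one hm, inv_setOf (canon_one hm) hc, mems_one hm]

theorem invSP_code {m k c : ℕ} (hm : m < 2 ^ 24) (hc : canon k c = true) :
    invSP (setOf k c) (dec m) = invL (mems k c) [m] := by
  unfold invSP
  rw [← setOf_one hm, inv_setOf hc (canon_one hm), mems_one hm]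

theorem trios_finite : trios.Finite := Set.toFinite _
theorem sextets_finite : sextets.Finite := Set.toFinite _
theorem octads_finite : octads.Finite := Set.toFinite _

end Cfsg.Agent.Lib.Helper93_M24Obj
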