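import Mathlib
import Cfsg.Agent.Lib.Helper26_FamStab
import Cfsg.Agent.Lib.Helper26_SextStabData
import Cfsg.Agent.Lib.Helper93_M24Fams
import Cfsg.Agent.S1550

/-!
Structure of the stabiliser of a sextet in `M24`: it induces the full symmetric group on the six
tetrads, the kernel has order 192, and the elements acting on each tetrad as the identity or a
double transposition form a normal elementary abelian subgroup of order 64.
-/

set_option autoImplicit false
set_option linter.constructorNameAsVariable false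
open Cfsg
open scoped Pointwise
open Cfsg.Agent.Lib.Helper93_M24Obj

namespace Cfsg.Agent.Lib.Helper26_Golay

open Cfsg.Agent.Lib.Helper26_SextStab

/-! ### General facts on sextets -/

theorem sextet_disjoint {S : FF} (hS : S ∈ sextets) {t u : Finset GolayPt} (ht : t ∈ S)
    (hu : u ∈ S) (htu : t ≠ u) : Disjoint t u := by
  obtain ⟨_, h4, ho⟩ := hS
  have h8 : (t ∪ u).card = 8 := (ho t ht u hu htu).2
  rw [← Finset.card_union_eq_card_add_card, h8, h4 t ht, h4 u hu]

theorem sextet_cover {S : FF} (hS : S ∈ sextets) (x : GolayPt) : ∃ t ∈ S, x ∈ t := by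
  have hcard : (S.biUnion id).card = 24 := by
    rw [Finset.card_biUnion]
    · have : ∀ t ∈ S, (id t : Finset GolayPt).card = 4 := hS.2.1
      rw [Finset.sum_congr rfl this, Finset.sum_const, hS.1]
      rfl
    · intro t ht u hu htu
      exact sextet_disjoint hS ht hu htu
  have huniv : S.biUnion id = Finset.univ := by
    apply Finset.eq_univ_of_card
    rw [hcard]
    rfl
  have : x ∈ S.biUnion id := by rw [huniv]; exact Finset.mem_univ x
  rw [Finset.mem_biUnion] at this
  obtain ⟨t, ht, hx⟩ := this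
  exact ⟨t, ht, hx⟩

theorem orbit_eq_sextets {S : FF} (hS : S ∈ sextets) : MulAction.orbit (↥M24) S = sextets := by
  ext y
  constructor
  · rintro ⟨g, rfl⟩
    exact smul_mem_sextets g.2 hS
  · intro hy
    obtain ⟨g, hg, rfl⟩ := exists_smul_sext0_eq hS
    obtain ⟨g', hg', rfl⟩ := exists_smul_sext0_eq hy
    refine ⟨⟨g' * g⁻¹, M24.mul_mem hg' (M24.inv_mem hg)⟩, ?_⟩
    show (g' * g⁻¹) • g • sext0 = g' • sext0
    rw [mul_smul, inv_smul_smul]

theorem card_stabilizer_sextet {S : FF} (hS : S ∈ sextets) :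
    Nat.card (MulAction.stabilizer (↥M24) S) = 138240 := by
  have h1 := Subgroup.card_mul_index (MulAction.stabilizer (↥M24) S)
  rw [MulAction.index_stabilizer, Cfsg.Agent.S0364.result, orbit_eq_sextets hS,
    Cfsg.Agent.S1550.sextets_ncard] at h1
  omega

/-! ### The base sextet -/

theorem mem_sext0_iff (t : Finset GolayPt) : t ∈ sext0 ↔ ∃ i < 6, t = dec (get24 c0 i) := by
  unfold sext0
  rw [mem_setOf]
  constructor
  · intro h
    obtain ⟨i, hi, hti⟩ := exists_of_mem_mems h
    exact ⟨i, hi, by rw [← dec_enc t, hti]; rfl⟩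
  · rintro ⟨i, hi, rfl⟩
    rw [enc_dec _ (get24_lt' _ _)]
    unfold mems
    exact List.mem_map.mpr ⟨i, List.mem_range.mpr hi, rfl⟩

theorem swap0 (a : Finset GolayPt) (ha : a ∈ sext0) (b : Finset GolayPt) (hb : b ∈ sext0)
    (hab : a ≠ b) : ∃ σ ∈ M24, σ • a = b ∧ σ • b = a ∧
      ∀ t ∈ sext0, t ≠ a → t ≠ b → σ • t = t := by
  obtain ⟨i, hi, rfl⟩ := (mem_sext0_iff a).mp ha
  obtain ⟨j, hj, rfl⟩ := (mem_sext0_iff b).mp hb
  have hij : i ≠ j := by
    rintro rfl
    exact hab rfl
  have h1 := (allFold_eq_true _ _).mp ((allFold_eq_true _ _).mp swapTab_ok i hi) j hj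
  rw [Bool.or_eq_true, beq_iff_eq] at h1
  rcases h1 with h1 | h1
  · exact absurd h1 hij
  unfold swapOK at h1
  rw [Bool.and_eq_true, allFold_eq_true] at h1
  obtain ⟨hT, hk⟩ := h1
  obtain ⟨σ, hσ, hR⟩ := exists_of_tblInM24 hT
  have key : ∀ k < 6, σ • dec (get24 c0 k) =
      dec (get24 c0 (if k == i then j else if k == j then i else k)) := by
    intro k hk6
    have := hk k hk6
    rw [beq_iff_eq] at this
    rw [smul_dec hR (get24_lt' _ _), this]
  refine ⟨σ, hσ, ?_, ?_, ?_⟩
  · rw [key i hi]; simp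
  · rw [key j hj]
    have : (j == i) = false := by simpa using (Ne.symm hij)
    simp [this]
  · intro t ht hta htb
    obtain ⟨k, hk6, rfl⟩ := (mem_sext0_iff t).mp ht
    have hki : (k == i) = false := by
      simp only [beq_eq_false_iff_ne]
      rintro rfl
      exact hta rfl
    have hkj : (k == j) = false := by
      simp only [beq_eq_false_iff_ne]
      rintro rfl
      exact htb rfl
    rw [key k hk6, hki, hkj]
    simp

theorem swapS {S : FF} (hS : S ∈ sextets) (a : Finset GolayPt) (ha : a ∈ S)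
    (b : Finset GolayPt) (hb : b ∈ S) (hab : a ≠ b) : ∃ σ ∈ M24, σ • a = b ∧ σ • b = a ∧
      ∀ t ∈ S, t ≠ a → t ≠ b → σ • t = t := by
  obtain ⟨g, hg, rfl⟩ := exists_smul_sext0_eq hS
  rw [Finset.mem_smul_finset] at ha hb
  obtain ⟨a₀, ha₀, rfl⟩ := ha
  obtain ⟨b₀, hb₀, rfl⟩ := hb
  have hab₀ : a₀ ≠ b₀ := fun h => hab (by rw [h])
  obtain ⟨σ, hσ, h1, h2, h3⟩ := swap0 a₀ ha₀ b₀ hb₀ hab₀
  refine ⟨g * σ * g⁻¹, M24.mul_mem (M24.mul_mem hg hσ) (M24.inv_mem hg), ?_, ?_, ?_⟩
  · show (g * σ * g⁻¹) • g • a₀ = g • b₀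
    rw [mul_smul, mul_smul, inv_smul_smul, h1]
  · show (g * σ * g⁻¹) • g • b₀ = g • a₀
    rw [mul_smul, mul_smul, inv_smul_smul, h2]
  · intro t ht hta htb
    rw [Finset.mem_smul_finset] at ht
    obtain ⟨t₀, ht₀, rfl⟩ := ht
    show (g * σ * g⁻¹) • g • t₀ = g • t₀
    rw [mul_smul, mul_smul, inv_smul_smul,
      h3 t₀ ht₀ (fun h => hta (by rw [h])) (fun h => htb (by rw [h]))]

theorem famHom_surjective_sextet {S : FF} (hS : S ∈ sextets) : Function.Surjective (famHom S) :=
  famHom_surjective_of_swaps S (swapS hS)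

theorem card_ker_sextet {S : FF} (hS : S ∈ sextets) : Nat.card (famHom S).ker = 192 := by
  have h := card_ker_famHom S (famHom_surjective_sextet hS)
  rw [card_stabilizer_sextet hS, hS.1] at h
  have h6 : (6 : ℕ).factorial = 720 := by decide
  rw [h6] at h
  omega

/-! ### The normal subgroup of order 64 -/

/-- A permutation acting on a 4-set as the identity or as a fixed-point-free involution maps each
2-subset to itself or to its complement. -/
theorem bis_of_pointwise {σ : Equiv.Perm GolayPt} {t : Finset GolayPt} (hσt : σ • t = t)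
    (hp : (∀ x ∈ t, σ x = x) ∨ (∀ x ∈ t, σ x ≠ x ∧ σ (σ x) = x))
    (u : Finset GolayPt) (hut : u ⊆ t) (hu : u.card = 2) (hc : (t \ u).card = 2) :
    σ • u = u ∨ σ • u = t \ u := by
  have hmem : ∀ x ∈ t, σ x ∈ t := by
    intro x hx
    have : σ x ∈ σ • t := by
      rw [← Equiv.Perm.smul_def]; exact Finset.smul_mem_smul_finset hx
    rwa [hσt] at this
  rcases hp with hp | hp
  · left
    ext y
    rw [Finset.mem_smul_finset]
    constructor
    · rintro ⟨x, hx, rfl⟩
      rw [Equiv.Perm.smul_def, hp x (hut hx)]; exact hx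
    · intro hy
      exact ⟨y, hy, by rw [Equiv.Perm.smul_def, hp y (hut hy)]⟩
  · obtain ⟨x, y, hxy, rfl⟩ := Finset.card_eq_two.mp hu
    have hxt : x ∈ t := hut (by simp)
    have hyt : y ∈ t := hut (by simp)
    have himg : σ • ({x, y} : Finset GolayPt) = {σ x, σ y} := by
      ext z
      rw [Finset.mem_smul_finset]
      constructor
      · rintro ⟨w, hw, rfl⟩
        rw [Finset.mem_insert, Finset.mem_singleton] at hw
        rcases hw with rfl | rfl <;> simp [Equiv.Perm.smul_def]
      · intro hz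
        rw [Finset.mem_insert, Finset.mem_singleton] at hz
        rcases hz with rfl | rfl
        · exact ⟨x, by simp, rfl⟩
        · exact ⟨y, by simp, rfl⟩
    by_cases hxy' : σ x = y
    · left
      have : σ y = x := by rw [← hxy']; exact (hp x hxt).2
      rw [himg, hxy', this, Finset.pair_comm]
    · right
      rw [himg]
      apply Finset.eq_of_subset_of_card_le
      · intro z hz
        rw [Finset.mem_insert, Finset.mem_singleton] at hz
        rw [Finset.mem_sdiff, Finset.mem_insert, Finset.mem_singleton]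
        rcases hz with rfl | rfl
        · refine ⟨hmem x hxt, ?_⟩
          rintro (h | h)
          · exact (hp x hxt).1 h
          · exact hxy' h
        · refine ⟨hmem y hyt, ?_⟩
          rintro (h | h)
          · apply hxy'
            have := (hp y hyt).2
            rw [h] at this
            exact this
          · exact (hp y hyt).1 h
      · rw [hc, Finset.card_pair]
        exact fun h => hxy (σ.injective h)

/-- The elements of the normal subgroup for the base sextet. -/
theorem n0 (k : ℕ) (hk : k < 64) :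
    ∃ ν ∈ M24, Represents ν (get120 nTab k) ∧ InN sext0 ν := by
  have h1 := (allFold_eq_true _ _).mp nTab_ok k hk
  unfold nOK at h1
  rw [Bool.and_eq_true, allFold_eq_true] at h1
  obtain ⟨hT, hi⟩ := h1
  obtain ⟨ν, hν, hR⟩ := exists_of_tblInM24 hT
  refine ⟨ν, hν, hR, ?_⟩
  intro t ht
  obtain ⟨i, hi6, rfl⟩ := (mem_sext0_iff t).mp ht
  have h2 := hi i hi6
  rw [Bool.and_eq_true, beq_iff_eq, Bool.or_eq_true, allFold_eq_true, allFold_eq_true] at h2
  obtain ⟨hfix, hpt⟩ := h2
  have hνt : ν • dec (get24 c0 i) = dec (get24 c0 i) := by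
    rw [smul_dec hR (get24_lt' _ _), hfix]
  refine ⟨hνt, bis_of_pointwise hνt ?_⟩
  rcases hpt with hpt | hpt
  · left
    intro x hx
    rw [mem_dec] at hx
    have := hpt (idx x) (idx_lt x)
    rw [hx] at this
    simp only [Bool.not_true, Bool.false_or, beq_iff_eq] at this
    apply idx_injective
    rw [hR x, this]
  · right
    intro x hx
    rw [mem_dec] at hx
    have := hpt (idx x) (idx_lt x)
    rw [hx] at this
    simp only [Bool.not_true, Bool.false_or, Bool.and_eq_true, bne_iff_ne, ne_eq,
      beq_iff_eq] at this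
    constructor
    · intro h
      apply this.1
      rw [← hR x, h]
    · apply idx_injective
      rw [hR (ν x), hR x, this.2]

theorem nKey_eq_of_represents {ν : Equiv.Perm GolayPt} {T T' : ℕ} (h : Represents ν T)
    (h' : Represents ν T') : nKey T = nKey T' := by
  have key : ∀ p < 24, img T p = img T' p := by
    intro p hp
    have h1 := h (pt p)
    have h2 := h' (pt p)
    rw [idx_pt p hp] at h1 h2
    rw [← h1, ← h2]
  unfold nKey
  rw [key 3 (by norm_num), key 8 (by norm_num), key 9 (by norm_num)]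

theorem nKey_strictMono {k l : ℕ} (hl : l < 64) (h : k < l) :
    nKey (get120 nTab k) < nKey (get120 nTab l) := by
  have hstep : ∀ i, i < 63 → nKey (get120 nTab i) < nKey (get120 nTab (i + 1)) := by
    intro i hi
    have := (allFold_eq_true _ _).mp nTab_lt i hi
    simpa using this
  induction l with
  | zero => omega
  | succ l ih =>
    by_cases hkl : k = l
    · subst hkl; exact hstep k (by omega)
    · exact lt_trans (ih (by omega) (by omega)) (hstep l (by omega))

/-- Lower bound for the order of the normal subgroup. -/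
theorem card_bisN_ge {S : FF} (hS : S ∈ sextets) : 64 ≤ Nat.card (bisN S) := by
  classical
  obtain ⟨g, hg, rfl⟩ := exists_smul_sext0_eq hS
  have hInN : ∀ k : Fin 64, InN (g • sext0) (g * (n0 k k.2).choose * g⁻¹) :=
    fun k => ((n0 k k.2).choose_spec.2.2).conj g
  have hM : ∀ k : Fin 64, g * (n0 k k.2).choose * g⁻¹ ∈ M24 :=
    fun k => M24.mul_mem (M24.mul_mem hg (n0 k k.2).choose_spec.1) (M24.inv_mem hg)
  have hstab : ∀ k : Fin 64, (⟨_, hM k⟩ : ↥M24) ∈ MulAction.stabilizer ↥M24 (g • sext0) := by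
    intro k
    rw [MulAction.mem_stabilizer_iff]
    apply smul_eq_of_maps_to
    intro t ht
    show (g * (n0 k k.2).choose * g⁻¹) • t ∈ _
    rw [(hInN k t ht).1]
    exact ht
  let f : Fin 64 → ↥(bisN (g • sext0)) := fun k => ⟨⟨⟨_, hM k⟩, hstab k⟩, hInN k⟩
  have hf : Function.Injective f := by
    intro k l hkl
    have h1 : g * (n0 k k.2).choose * g⁻¹ = g * (n0 l l.2).choose * g⁻¹ :=
      congrArg (fun x : ↥(bisN (g • sext0)) =>
        (((x : ↥(MulAction.stabilizer ↥M24 (g • sext0))) : ↥M24) : Equiv.Perm GolayPt)) hkl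
    have h2 : (n0 k k.2).choose = (n0 l l.2).choose := by
      have := mul_right_cancel h1
      exact mul_left_cancel this
    have h3 := nKey_eq_of_represents (n0 k k.2).choose_spec.2.1
      (h2 ▸ (n0 l l.2).choose_spec.2.1)
    apply Fin.ext
    rcases lt_trichotomy k.1 l.1 with h | h | h
    · exact absurd h3 (ne_of_lt (nKey_strictMono l.2 h))
    · exact h
    · exact absurd h3.symm (ne_of_lt (nKey_strictMono k.2 h))
  have := Nat.card_le_card_of_injective f hf
  rwa [Nat.card_eq_fintype_card, Fintype.card_fin] at this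

theorem card_bisN {S : FF} (hS : S ∈ sextets) : Nat.card (bisN S) = 64 := by
  obtain ⟨k, hk, hdvd⟩ := card_bisN_dvd hS.2.1 (sextet_cover hS)
  rw [card_ker_sextet hS] at hdvd
  have hge := card_bisN_ge hS
  rw [hk] at hge ⊢
  have hk6 : k ≤ 6 := by
    by_contra hcon
    push Not at hcon
    have : 2 ^ 7 ∣ 2 ^ k := pow_dvd_pow 2 hcon
    have h2 := dvd_trans this hdvd
    norm_num at h2
  have hk6' : 6 ≤ k := by
    by_contra hcon
    push Not at hcon
    have : 2 ^ k ≤ 2 ^ 5 := Nat.pow_le_pow_right (by norm_num) (by omega)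
    omega
  have : k = 6 := le_antisymm hk6 hk6'
  rw [this]
  norm_num

theorem bisN_mul_self {S : FF} (hS : S ∈ sextets) (x : ↥(MulAction.stabilizer ↥M24 S))
    (hx : x ∈ bisN S) : x * x = 1 := by
  apply Subtype.ext
  apply Subtype.ext
  exact InN.mul_self hS.2.1 (sextet_cover hS) hx

end Cfsg.Agent.Lib.Helper26_Golay
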