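import Mathlib
import Cfsg.Agent.Lib.Helper67_Tens2Defs

set_option autoImplicit false
set_option linter.unusedSectionVars false
set_option linter.unusedVariables false

/-!
# TENS2 package KAP2 (helper93): the commutator `κ = [ux 1, g (ux 1) g⁻¹]`
-/

open Module
open Cfsg.Agent.Lib.Helper94_Symp Cfsg.Agent.Lib.Helper67_Tens2Defs

namespace Cfsg.Agent.Lib.Helper93_T2_KAP2

variable {F B : Type*} [Field F] [AddCommGroup B] [Module F B]

/-- `A x = (x.2, 0)` (so `ux (t • 1) = 1 + t A`) -/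
def Amap (F B : Type*) [Field F] [AddCommGroup B] [Module F B] : (B × B) →ₗ[F] (B × B) :=
  (LinearMap.inl F B B) ∘ₗ (LinearMap.snd F B B)

theorem Amap_apply (x : B × B) : Amap F B x = (x.2, 0) := rfl

/-- `C = g A g⁻¹` -/
def Cmap (g : (B × B) ≃ₗ[F] (B × B)) : (B × B) →ₗ[F] (B × B) :=
  g.toLinearMap ∘ₗ Amap F B ∘ₗ (g⁻¹ : (B × B) ≃ₗ[F] (B × B)).toLinearMap

theorem Cmap_apply (g : (B × B) ≃ₗ[F] (B × B)) (x : B × B) :
    Cmap g x = g (Amap F B (g⁻¹ x)) := rfl

theorem ux_smul_id_apply (t : F) (x : B × B) :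
    ux (t • (LinearMap.id : B →ₗ[F] B)) x = x + t • Amap F B x := by
  rw [ux_apply, Amap_apply]
  ext
  · simp
  · simp

theorem conj_apply (g : (B × B) ≃ₗ[F] (B × B)) (t : F) (x : B × B) :
    (g * ux (t • (LinearMap.id : B →ₗ[F] B)) * g⁻¹) x = x + t • Cmap g x := by
  rw [LinearEquiv.mul_apply, LinearEquiv.mul_apply, ux_smul_id_apply, map_add, map_smul,
    apply_inv_apply', Cmap_apply]

theorem Amap_Amap (x : B × B) : Amap F B (Amap F B x) = 0 := by
  rw [Amap_apply, Amap_apply]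
  rfl

theorem Cmap_Cmap (g : (B × B) ≃ₗ[F] (B × B)) (x : B × B) : Cmap g (Cmap g x) = 0 := by
  rw [Cmap_apply, Cmap_apply, inv_apply_apply', Amap_Amap, map_zero]

theorem Cmap_mem_Lg (g : (B × B) ≃ₗ[F] (B × B)) (x : B × B) : Cmap g x ∈ Lg g := by
  rw [Cmap_apply, Amap_apply]
  exact mem_Lg.mpr ⟨_, rfl⟩

theorem Cmap_eq_zero_iff (g : (B × B) ≃ₗ[F] (B × B)) (x : B × B) :
    Cmap g x = 0 ↔ x ∈ Lg g := by
  rw [mem_Lg', Cmap_apply, Amap_apply]
  constructor
  · intro h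
    have h1 : ((g⁻¹ x).2, (0 : B)) = 0 := by
      have := congrArg (g⁻¹ : (B × B) ≃ₗ[F] (B × B)) h
      rwa [inv_apply_apply', map_zero] at this
    exact congrArg Prod.fst h1
  · intro h
    rw [h]
    exact map_zero g

/-- `A` is `tf`-skew -/
theorem Amap_skew (β : LinearMap.BilinForm F B) (x y : B × B) :
    tf β (Amap F B x) y = - tf β x (Amap F B y) := by
  simp only [tf_apply, Amap_apply, map_zero, LinearMap.zero_apply]
  ring

/-- `C` is `tf`-skew -/
theorem Cmap_skew (β : LinearMap.BilinForm F B) (g : (B × B) ≃ₗ[F] (B × B))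
    (hg : g ∈ isoGroup (tf β)) (x y : B × B) :
    tf β (Cmap g x) y = - tf β x (Cmap g y) := by
  rw [Cmap_apply, Cmap_apply]
  have h1 : tf β (g (Amap F B (g⁻¹ x))) y = tf β (Amap F B (g⁻¹ x)) (g⁻¹ y) := by
    have := hg (Amap F B (g⁻¹ x)) (g⁻¹ y)
    rw [apply_inv_apply'] at this
    exact this
  have h2 : tf β x (g (Amap F B (g⁻¹ y))) = tf β (g⁻¹ x) (Amap F B (g⁻¹ y)) := by
    have := hg (g⁻¹ x) (Amap F B (g⁻¹ y))
    rw [apply_inv_apply'] at this
    exact this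
  rw [h1, h2, Amap_skew]

/-- the commutator on vectors killed by `A` -/
theorem kappa_apply (g : (B × B) ≃ₗ[F] (B × B)) (x : B × B) (hx : Amap F B x = 0) :
    (ux ((1 : F) • (LinearMap.id : B →ₗ[F] B)) *
      (g * ux ((1 : F) • (LinearMap.id : B →ₗ[F] B)) * g⁻¹) *
      ux ((-1 : F) • (LinearMap.id : B →ₗ[F] B)) *
      (g * ux ((-1 : F) • (LinearMap.id : B →ₗ[F] B)) * g⁻¹)) x =
    x + Amap F B (Cmap g x) + Cmap g (Amap F B (Cmap g x)) + Amap F B (Cmap g (Amap F B (Cmap g x))) := by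
  have e : ∀ (a b c d : (B × B) ≃ₗ[F] (B × B)) (x : B × B),
      (a * b * c * d) x = a (b (c (d x))) := fun _ _ _ _ _ => rfl
  rw [e, conj_apply, ux_smul_id_apply, conj_apply, ux_smul_id_apply]
  simp only [map_add, map_smul, map_neg,
    Cmap_Cmap, Amap_Amap, hx, one_smul, neg_smul, smul_zero, neg_zero, add_zero, map_zero]
  abel

theorem kappa_inv_apply (g : (B × B) ≃ₗ[F] (B × B)) (x : B × B) (hx : Amap F B x = 0) :
    ((g * ux ((1 : F) • (LinearMap.id : B →ₗ[F] B)) * g⁻¹) *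
      ux ((1 : F) • (LinearMap.id : B →ₗ[F] B)) *
      (g * ux ((-1 : F) • (LinearMap.id : B →ₗ[F] B)) * g⁻¹) *
      ux ((-1 : F) • (LinearMap.id : B →ₗ[F] B))) x =
    x - Amap F B (Cmap g x) - Cmap g (Amap F B (Cmap g x)) := by
  have e : ∀ (a b c d : (B × B) ≃ₗ[F] (B × B)) (x : B × B),
      (a * b * c * d) x = a (b (c (d x))) := fun _ _ _ _ _ => rfl
  rw [e, conj_apply, ux_smul_id_apply, conj_apply, ux_smul_id_apply]
  simp only [map_add, map_smul, map_neg,
    Cmap_Cmap, Amap_Amap, hx, one_smul, neg_smul, smul_zero, neg_zero, add_zero, map_zero]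
  abel

theorem conj_inv (g : (B × B) ≃ₗ[F] (B × B)) :
    (g * ux ((1 : F) • (LinearMap.id : B →ₗ[F] B)) * g⁻¹)⁻¹ =
      g * ux ((-1 : F) • (LinearMap.id : B →ₗ[F] B)) * g⁻¹ := by
  rw [mul_inv_rev, mul_inv_rev, inv_inv, ux_inv, mul_assoc]
  congr 3
  rw [neg_smul, one_smul]

theorem comm_inv_aux {G : Type*} [Group G] (a b a' b' : G) (ha : a' = a⁻¹) (hb : b' = b⁻¹) :
    (a * b * a' * b')⁻¹ = b * a * b' * a' := by
  subst ha hb; group

theorem kappa_inv (g : (B × B) ≃ₗ[F] (B × B)) :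
    (ux ((1 : F) • (LinearMap.id : B →ₗ[F] B)) *
      (g * ux ((1 : F) • (LinearMap.id : B →ₗ[F] B)) * g⁻¹) *
      ux ((-1 : F) • (LinearMap.id : B →ₗ[F] B)) *
      (g * ux ((-1 : F) • (LinearMap.id : B →ₗ[F] B)) * g⁻¹))⁻¹ =
    (g * ux ((1 : F) • (LinearMap.id : B →ₗ[F] B)) * g⁻¹) *
      ux ((1 : F) • (LinearMap.id : B →ₗ[F] B)) *
      (g * ux ((-1 : F) • (LinearMap.id : B →ₗ[F] B)) * g⁻¹) *
      ux ((-1 : F) • (LinearMap.id : B →ₗ[F] B)) := by
  have e2 : ux ((-1 : F) • (LinearMap.id : B →ₗ[F] B)) =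
      (ux ((1 : F) • (LinearMap.id : B →ₗ[F] B)))⁻¹ := by
    rw [ux_inv]; congr 1; rw [neg_smul, one_smul]
  have e3 := (conj_inv g).symm
  exact comm_inv_aux _ _ _ _ e2 e3

/-- KAP2 : the commutator `κ = [ux 1, g (ux 1) g⁻¹]` -/
theorem kap2 {F B : Type*} [Field F] [Fintype F] [AddCommGroup B] [Module F B]
    [FiniteDimensional F B] (β : LinearMap.BilinForm F B) (hs : ∀ u v, β u v = β v u)
    (hn : β.Nondegenerate) (h2 : (2 : F) ≠ 0)
    (M : Subgroup ((B × B) ≃ₗ[F] (B × B))) (hM : HypM β M)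
    (g : (B × B) ≃ₗ[F] (B × B)) (hg : g ∈ M) (hne : Lg g ≠ (G0 : Submodule F (B × B)))
    (hD : ∀ u ∈ DI g, (∀ w ∈ DI g, β u w = 0) → u = 0)
    (ν : F) (hν : ∀ c : F, ∀ u ∈ DI g, ∀ u' ∈ DI g,
      (g * ux (c • (LinearMap.id : B →ₗ[F] B)) * g⁻¹) (u, u') = (u + (c * ν) • u', u')) :
    ∃ κ ∈ M, (∀ u ∈ DI g, ∀ u' ∈ DI g, κ (u, u') = (u, u')) ∧
      ∃ z : B, (∀ w ∈ DI g, β z w = 0) ∧ β ((κ (z, 0) - κ⁻¹ (z, 0)).2) z ≠ 0 := by
  classical
  have hgiso : g ∈ isoGroup (tf β) := hM.le hg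
  -- `C` on `D × D`
  have hC_DD : ∀ u ∈ DI g, ∀ u' ∈ DI g, Cmap g (u, u') = (ν • u', 0) := by
    intro u hu u' hu'
    have h := hν 1 u hu u' hu'
    rw [conj_apply, one_smul, one_mul] at h
    have h' : Cmap g (u, u') = (u + ν • u', u') - (u, u') := by
      rw [← h]; abel
    rw [h']
    ext <;> simp
  have hC_D0 : ∀ u ∈ DI g, Cmap g (u, 0) = 0 := by
    intro u hu
    rw [hC_DD u hu 0 (zero_mem _), smul_zero]
    rfl
  have hC_0D : ∀ w ∈ DI g, Cmap g (0, w) = (ν • w, 0) :=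
    fun w hw => hC_DD 0 (zero_mem _) w hw
  -- components of `C x` against `D`
  have hC2 : ∀ x : B × B, ∀ w ∈ DI g, β (Cmap g x).2 w = 0 := by
    intro x w hw
    have h := Cmap_skew β g hgiso x (w, 0)
    rw [hC_D0 w hw] at h
    simp only [tf_apply, map_zero, LinearMap.zero_apply, Prod.fst_zero, Prod.snd_zero, zero_sub,
      sub_zero, neg_zero] at h
    exact neg_eq_zero.mp h
  have hC1 : ∀ x : B × B, (∀ w ∈ DI g, β x.2 w = 0) → ∀ w ∈ DI g, β (Cmap g x).1 w = 0 := by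
    intro x hx w hw
    have h := Cmap_skew β g hgiso x (0, w)
    rw [hC_0D w hw] at h
    simp only [tf_apply, map_zero, LinearMap.zero_apply, zero_sub, sub_zero, map_smul,
      smul_eq_mul, hx w hw, mul_zero, neg_zero] at h
    exact h
  -- the map `ψ`
  set ψ : B →ₗ[F] B := (LinearMap.snd F B B) ∘ₗ (Cmap g) ∘ₗ (LinearMap.inl F B B) with hψ
  have hψa : ∀ u, ψ u = (Cmap g (u, 0)).2 := fun u => rfl
  have hψsa : ∀ u w, β (ψ u) w = β u (ψ w) := by
    intro u w
    have h := Cmap_skew β g hgiso (u, 0) (w, 0)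
    simp only [tf_apply, map_zero, LinearMap.zero_apply, zero_sub, sub_zero] at h
    rw [hψa, hψa]
    exact neg_injective h
  -- the orthogonal complement
  set E : Submodule F B := β.orthogonal (DI g) with hE
  have hEmem : ∀ z, z ∈ E ↔ ∀ w ∈ DI g, β z w = 0 := by
    intro z
    rw [hE, LinearMap.BilinForm.mem_orthogonal_iff]
    constructor
    · intro h w hw
      rw [hs]; exact h w hw
    · intro h w hw
      show β w z = 0
      rw [hs]; exact h w hw
  have hψE : ∀ u, ψ u ∈ E := fun u => (hEmem _).mpr (fun w hw => hC2 _ w hw)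
  have hψinj : ∀ u ∈ E, ψ u = 0 → u = 0 := by
    intro u hu h0
    have hp : (Cmap g (u, 0)).1 ∈ E :=
      (hEmem _).mpr (hC1 (u, 0) (fun w hw => by simp))
    have hCx : Cmap g (u, 0) = ((Cmap g (u, 0)).1, 0) := Prod.ext rfl h0
    have hpD : (Cmap g (u, 0)).1 ∈ DI g := by
      rw [mem_DI, ← hCx]
      exact Cmap_mem_Lg g (u, 0)
    have hp0 : (Cmap g (u, 0)).1 = 0 := hD _ hpD ((hEmem _).mp hp)
    have hC0 : Cmap g (u, 0) = 0 := by
      rw [hCx, hp0]; rfl
    have huD : u ∈ DI g := by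
      rw [mem_DI]
      exact (Cmap_eq_zero_iff g (u, 0)).mp hC0
    exact hD u huD ((hEmem u).mp hu)
  let ψE : E →ₗ[F] E := ψ.restrict (fun u _ => hψE u)
  have hψEinj : Function.Injective ψE := by
    rw [injective_iff_map_eq_zero]
    intro u hu
    apply Subtype.ext
    apply hψinj u.1 u.2
    have := congrArg Subtype.val hu
    simpa [ψE] using this
  have hψEsurj : Function.Surjective ψE := LinearMap.injective_iff_surjective.mp hψEinj
  -- `D` and `E` are complements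
  have hrefl : β.IsRefl := fun x y h => by rw [hs]; exact h
  have hDnd : (β.restrict (DI g)).Nondegenerate := by
    refine ⟨?_, ?_⟩
    · intro x hx
      apply Subtype.ext
      apply hD x.1 x.2
      intro w hw
      have := hx ⟨w, hw⟩
      simpa using this
    · intro y hy
      apply Subtype.ext
      apply hD y.1 y.2
      intro w hw
      have := hy ⟨w, hw⟩
      rw [hs]
      simpa using this
  have hcompl : IsCompl (DI g) E :=
    LinearMap.BilinForm.isCompl_orthogonal_of_restrict_nondegenerate hrefl hDnd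
  have hDtop : DI g ≠ ⊤ := by
    intro htop
    apply hne
    symm
    apply Submodule.eq_of_le_of_finrank_eq
    · intro x hx
      have hx' : x = (x.1, 0) := Prod.ext rfl (mem_G0.mp hx)
      rw [hx']
      apply mem_DI.mp
      rw [htop]
      trivial
    · exact (LinearEquiv.finrank_map_eq g G0).symm
  have hz0 : ∃ z₀ ∈ E, β z₀ z₀ ≠ 0 := by
    by_contra hcon
    push Not at hcon
    have hEE : ∀ e ∈ E, ∀ e' ∈ E, β e e' = 0 := by
      intro e he e' he'
      have h1 := hcon (e + e') (E.add_mem he he')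
      simp only [map_add, LinearMap.add_apply] at h1
      rw [hcon e he, hcon e' he', hs e' e] at h1
      have : (2 : F) * β e e' = 0 := by linear_combination h1
      exact (mul_eq_zero.mp this).resolve_left h2
    have hEbot : E = ⊥ := by
      rw [eq_bot_iff]
      intro e he
      rw [Submodule.mem_bot]
      apply hn.1 e
      intro y
      have hy : y ∈ DI g ⊔ E := by rw [hcompl.sup_eq_top]; trivial
      obtain ⟨d, hd, e', he', rfl⟩ := Submodule.mem_sup.mp hy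
      rw [map_add, (hEmem e).mp he d hd, hEE e he e' he', add_zero]
    apply hDtop
    have := hcompl.sup_eq_top
    rw [hEbot, sup_bot_eq] at this
    exact this
  obtain ⟨z₀, hz₀E, hz₀⟩ := hz0
  obtain ⟨⟨z, hzE⟩, hz⟩ := hψEsurj ⟨z₀, hz₀E⟩
  have hψz : ψ z = z₀ := by
    have := congrArg Subtype.val hz
    simpa [ψE] using this
  -- the commutator
  have hconjM : ∀ t : F, g * ux (t • (LinearMap.id : B →ₗ[F] B)) * g⁻¹ ∈ M := fun t =>
    M.mul_mem (M.mul_mem hg (hM.ux_mem t)) (M.inv_mem hg)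
  refine ⟨ux ((1 : F) • (LinearMap.id : B →ₗ[F] B)) *
      (g * ux ((1 : F) • (LinearMap.id : B →ₗ[F] B)) * g⁻¹) *
      ux ((-1 : F) • (LinearMap.id : B →ₗ[F] B)) *
      (g * ux ((-1 : F) • (LinearMap.id : B →ₗ[F] B)) * g⁻¹),
    M.mul_mem (M.mul_mem (M.mul_mem (hM.ux_mem 1) (hconjM 1)) (hM.ux_mem (-1))) (hconjM (-1)),
    ?_, z, (hEmem z).mp hzE, ?_⟩
  · intro u hu u' hu'
    have e : ∀ (a b c d : (B × B) ≃ₗ[F] (B × B)) (x : B × B),
        (a * b * c * d) x = a (b (c (d x))) := fun _ _ _ _ _ => rfl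
    rw [e, hν (-1) u hu u' hu']
    have hw : u + (-1 * ν) • u' - u' ∈ DI g :=
      (DI g).sub_mem ((DI g).add_mem hu ((DI g).smul_mem _ hu')) hu'
    have e1 : ux ((-1 : F) • (LinearMap.id : B →ₗ[F] B)) (u + (-1 * ν) • u', u') =
        (u + (-1 * ν) • u' - u', u') := by
      rw [ux_apply]
      ext
      · simp [sub_eq_add_neg]
      · rfl
    rw [e1, hν 1 _ hw u' hu', ux_apply]
    ext
    · simp only [LinearMap.smul_apply, LinearMap.id_apply]
      module
    · rfl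
  · rw [kappa_inv g, kappa_apply g (z, 0) rfl, kappa_inv_apply g (z, 0) rfl]
    have hx2 : ((z, (0 : B)) + Amap F B (Cmap g (z, 0)) + Cmap g (Amap F B (Cmap g (z, 0))) +
        Amap F B (Cmap g (Amap F B (Cmap g (z, 0)))) -
        ((z, (0 : B)) - Amap F B (Cmap g (z, 0)) - Cmap g (Amap F B (Cmap g (z, 0))))).2 =
        (2 : F) • ψ (ψ z) := by
      have e1 : Amap F B (Cmap g (z, 0)) = (ψ z, 0) := rfl
      rw [e1]
      have e2 : (Cmap g (ψ z, 0)).2 = ψ (ψ z) := rfl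
      simp only [Prod.snd_sub, Prod.snd_add, Amap_apply, e2]
      module
    rw [hx2, map_smul, LinearMap.smul_apply, smul_eq_mul, hψsa, hψz]
    exact mul_ne_zero h2 hz₀

end Cfsg.Agent.Lib.Helper93_T2_KAP2
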