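import Mathlib
import Cfsg.Agent.Lib.Helper67_T2ODefs
import Cfsg.Agent.Lib.Helper94_OrthNondeg
import Cfsg.Agent.Lib.Helper82_T2_KR
import Cfsg.Agent.Lib.Helper9_T2_BR
import Cfsg.Agent.Lib.Helper78_UT2_NEXA
import Cfsg.Agent.Lib.Helper93_T2_KAP2

set_option autoImplicit false
set_option linter.unusedSectionVars false
set_option linter.unusedVariables false

/-!
# TENS2O package KAP1O (helper26, architect helper67)

`g (ux (c • 1)) g⁻¹` acts on `DI g × DI g` as `ux ((c * ν) • 1)`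
(twin of `Helper42_UT2_KAP1U`; the eigenvector lemma EIGO is proved here from
`LinearMap.exists_eq_smul_id_of_forall_notLinearIndependent`).
-/

open Module
open Cfsg.Agent.Lib.Helper94_Symp Cfsg.Agent.Lib.Helper94_OrthSmall
  Cfsg.Agent.Lib.Helper94_OrthSiegel Cfsg.Agent.Lib.Helper94_OrthNondeg
  Cfsg.Agent.Lib.Helper67_Tens2Defs Cfsg.Agent.Lib.Helper67_T2ODefs
open Cfsg.Agent.Lib.Helper93_T2_KAP2

namespace Cfsg.Agent.Lib.Helper26_T2O_KAP1O

variable {F W : Type*} [Field F] [Finite F] [AddCommGroup W] [Module F W] [FiniteDimensional F W]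
variable {ω : LinearMap.BilinForm F W}

/-- a linear map having every vector of the subspace `D` as an eigenvector is scalar on `D` -/
theorem h26_eig_all (D : Submodule F W) (T : W →ₗ[F] W)
    (hT : ∀ y ∈ D, ∃ l : F, T y = l • y) : ∃ c : F, ∀ u ∈ D, T u = c • u := by
  have hTD : ∀ y ∈ D, T y ∈ D := by
    intro y hy
    obtain ⟨l, hl⟩ := hT y hy
    rw [hl]
    exact D.smul_mem l hy
  obtain ⟨a, ha⟩ := LinearMap.exists_eq_smul_id_of_forall_notLinearIndependent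
    (f := T.restrict hTD) (by
      intro v hv
      obtain ⟨l, hl⟩ := hT v v.2
      rw [LinearIndependent.pair_iff] at hv
      have h1 : T.restrict hTD v = l • v := Subtype.ext (by
        rw [LinearMap.coe_restrict_apply, hl]
        rfl)
      have := hv l (-1) (by rw [h1]; simp)
      exact absurd this.2 (by norm_num))
  refine ⟨a, fun u hu => ?_⟩
  have h2 := congrArg (fun f : D →ₗ[F] D => ((f ⟨u, hu⟩ : D) : W)) ha
  simpa using h2

/-- KAP1O, with the eigenvector lemma EIGO as an explicit hypothesis -/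
theorem kap1o_of (halt : ω.IsAlt) (hN : ω.Nondegenerate)
    (hEIG : ∀ (D : Submodule F W) (T : W →ₗ[F] W),
      (∀ y ∈ D, ∃ l : F, T y = l • y) → ∃ c : F, ∀ u ∈ D, T u = c • u)
    (M : Subgroup ((W × W) ≃ₗ[F] (W × W))) (hM : HypO ω M)
    (g : (W × W) ≃ₗ[F] (W × W)) (hg : g ∈ M)
    (hCOMM : ∀ y ∈ DI g, ∀ s c : F,
      oE (stv ω halt y s) * (g * ux (c • (LinearMap.id : W →ₗ[F] W)) * g⁻¹) =
        (g * ux (c • (LinearMap.id : W →ₗ[F] W)) * g⁻¹) * oE (stv ω halt y s)) :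
    ∃ ν : F, ∀ c : F, ∀ u ∈ DI g, ∀ u' ∈ DI g,
      (g * ux (c • (LinearMap.id : W →ₗ[F] W)) * g⁻¹) (u, u') = (u + (c * ν) • u', u') := by
  -- `C` commutes with `1 ⊗ t`
  have hTC : ∀ y ∈ DI g, ∀ x : W × W,
      oE (stv ω halt y 1) (Cmap g x) = Cmap g (oE (stv ω halt y 1) x) := by
    intro y hy x
    have h := congrArg (fun f : (W × W) ≃ₗ[F] (W × W) => f x) (hCOMM y hy 1 1)
    simp only [LinearEquiv.mul_apply] at h
    have e1 := conj_apply g (1 : F) x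
    have e2 := conj_apply g (1 : F) (oE (stv ω halt y 1) x)
    simp only [LinearEquiv.mul_apply] at e1 e2
    rw [e1, e2, map_add, one_smul, one_smul] at h
    exact add_left_cancel h
  -- `C (u, 0) = 0` for `u ∈ D`
  have hC_D0 : ∀ u ∈ DI g, Cmap g (u, 0) = 0 := fun u hu =>
    (Cmap_eq_zero_iff g (u, 0)).mpr (mem_DI.mp hu)
  -- the two components of `u' ↦ C (0, u')`
  obtain ⟨T0, hT0⟩ : ∃ T0 : W →ₗ[F] W,
      T0 = (LinearMap.fst F W W) ∘ₗ (Cmap g) ∘ₗ (LinearMap.inr F W W) := ⟨_, rfl⟩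
  obtain ⟨T1, hT1⟩ : ∃ T1 : W →ₗ[F] W,
      T1 = (LinearMap.snd F W W) ∘ₗ (Cmap g) ∘ₗ (LinearMap.inr F W W) := ⟨_, rfl⟩
  have hT0a : ∀ u, T0 u = (Cmap g (0, u)).1 := fun u => by rw [hT0]; rfl
  have hT1a : ∀ u, T1 u = (Cmap g (0, u)).2 := fun u => by rw [hT1]; rfl
  have key : ∀ y ∈ DI g, ∀ u' : W,
      Cmap g (0, u') + (ω u' y) • Cmap g (0, y) = oE (stv ω halt y 1) (Cmap g (0, u')) := by
    intro y hy u'
    rw [hTC y hy, ← map_smul, ← map_add]
    congr 1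
    rw [oE_apply, stv_apply, stv_apply]
    ext <;> simp
  have keyT0 : ∀ y ∈ DI g, ∀ u' : W, (ω u' y) • T0 y = (ω (T0 u') y) • y := by
    intro y hy u'
    have h1 := congrArg Prod.fst (key y hy u')
    simp only [oE_apply, Prod.fst_add, Prod.smul_fst] at h1
    rw [stv_apply, ← hT0a, ← hT0a, one_mul] at h1
    exact add_left_cancel h1
  have keyT1 : ∀ y ∈ DI g, ∀ u' : W, (ω u' y) • T1 y = (ω (T1 u') y) • y := by
    intro y hy u'
    have h1 := congrArg Prod.snd (key y hy u')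
    simp only [oE_apply, Prod.snd_add, Prod.smul_snd] at h1
    rw [stv_apply, ← hT1a, ← hT1a, one_mul] at h1
    exact add_left_cancel h1
  -- the vectors of `D` are eigenvectors
  have heig : ∀ T : W →ₗ[F] W, (∀ y ∈ DI g, ∀ u' : W, (ω u' y) • T y = (ω (T u') y) • y) →
      ∀ y ∈ DI g, ∃ l : F, T y = l • y := by
    intro T hT y hy
    by_cases hyz : y = 0
    · exact ⟨0, by rw [hyz, map_zero, smul_zero]⟩
    · have hex : ∃ u' : W, ω u' y ≠ 0 := by
        by_contra hcon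
        push Not at hcon
        exact hyz (hN.2 y hcon)
      obtain ⟨u', hu'⟩ := hex
      refine ⟨(ω u' y)⁻¹ * (ω (T u') y), ?_⟩
      rw [mul_smul, ← hT y hy u', smul_smul, inv_mul_cancel₀ hu', one_smul]
  obtain ⟨ν, hν⟩ := hEIG (DI g) T0 (heig T0 keyT0)
  obtain ⟨c₁, hc₁⟩ := hEIG (DI g) T1 (heig T1 keyT1)
  have hC0 : ∀ u' ∈ DI g, Cmap g (0, u') = (ν • u', c₁ • u') := by
    intro u' hu'
    ext
    · rw [← hT0a, hν u' hu']
    · rw [← hT1a, hc₁ u' hu']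
  -- `c₁ • u' = 0` for `u' ∈ D`
  have hc₁0 : ∀ u' ∈ DI g, c₁ • u' = 0 := by
    intro w hwD
    have h1 := Cmap_Cmap g (0, w)
    rw [hC0 w hwD] at h1
    have hsplit : ((ν • w, c₁ • w) : W × W) = (ν • w, 0) + c₁ • (0, w) := by
      ext <;> simp
    rw [hsplit, map_add, map_smul, hC_D0 _ ((DI g).smul_mem ν hwD), zero_add, hC0 w hwD] at h1
    have h2 := congrArg Prod.snd h1
    simp only [Prod.smul_snd, Prod.snd_zero, smul_smul] at h2
    rcases smul_eq_zero.mp h2 with h3 | h3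
    · rw [mul_self_eq_zero.mp h3, zero_smul]
    · rw [h3, smul_zero]
  refine ⟨ν, ?_⟩
  intro c u hu u' hu'
  rw [conj_apply]
  have hsplit : ((u, u') : W × W) = (u, 0) + (0, u') := by
    ext <;> simp
  have hCuu : Cmap g (u, u') = (ν • u', 0) := by
    rw [hsplit, map_add, hC_D0 u hu, zero_add, hC0 u' hu', hc₁0 u' hu']
  rw [hCuu]
  ext
  · simp [smul_smul]
  · simp

/-- KAP1O : `g (ux (c • 1)) g⁻¹` acts on `DI g × DI g` as `ux ((c * ν) • 1)` -/
theorem kap1o (halt : ω.IsAlt) (hN : ω.Nondegenerate)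
    (M : Subgroup ((W × W) ≃ₗ[F] (W × W))) (hM : HypO ω M)
    (g : (W × W) ≃ₗ[F] (W × W)) (hg : g ∈ M)
    (hCOMM : ∀ y ∈ DI g, ∀ s c : F,
      oE (stv ω halt y s) * (g * ux (c • (LinearMap.id : W →ₗ[F] W)) * g⁻¹) =
        (g * ux (c • (LinearMap.id : W →ₗ[F] W)) * g⁻¹) * oE (stv ω halt y s)) :
    ∃ ν : F, ∀ c : F, ∀ u ∈ DI g, ∀ u' ∈ DI g,
      (g * ux (c • (LinearMap.id : W →ₗ[F] W)) * g⁻¹) (u, u') = (u + (c * ν) • u', u') :=
  kap1o_of halt hN (fun D T hT => h26_eig_all D T hT) M hM g hg hCOMM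

end Cfsg.Agent.Lib.Helper26_T2O_KAP1O
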