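import Mathlib
import Cfsg.Agent.Lib.Helper75_TZDefs

/-!
# Helper26_TZ_REP2: package REP2 of the TZ market (S2524, architect helper75): Schur's lemma
-/

set_option autoImplicit false

namespace Cfsg.Agent.Lib.Helper75_TZ

open Matrix Module
open Cfsg.Agent.Lib.Helper5_SpPerfect Cfsg.Agent.Lib.Helper81_SpWeights
  Cfsg.Agent.Lib.Helper81_JointEigen Cfsg.Agent.Lib.Helper81_Heis Cfsg.Agent.Lib.Helper81_WeilLin
  Cfsg.Agent.Lib.Helper81_Schrodinger

section REP

variable {K : Type*} [Field K] {Γ : Type*} [Group Γ] {M : Type*} [AddCommGroup M] [Module K M]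
  {M₁ : Type*} [AddCommGroup M₁] [Module K M₁] {M₂ : Type*} [AddCommGroup M₂] [Module K M₂]
  {M₃ : Type*} [AddCommGroup M₃] [Module K M₃]

namespace REP2aux

/-- the kernel of an equivariant map is invariant -/
theorem ker_inv {R₁ : Γ →* Module.End K M₁} {R₂ : Γ →* Module.End K M₂}
    (f : M₁ →ₗ[K] M₂) (hf : ∀ g x, f (R₁ g x) = R₂ g (f x)) :
    ∀ g, ∀ v ∈ LinearMap.ker f, R₁ g v ∈ LinearMap.ker f := by
  intro g v hv
  rw [LinearMap.mem_ker] at hv ⊢
  rw [hf, hv, map_zero]

/-- the range of an equivariant map is invariant -/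
theorem range_inv {R₁ : Γ →* Module.End K M₁} {R₂ : Γ →* Module.End K M₂}
    (f : M₁ →ₗ[K] M₂) (hf : ∀ g x, f (R₁ g x) = R₂ g (f x)) :
    ∀ g, ∀ v ∈ LinearMap.range f, R₂ g v ∈ LinearMap.range f := by
  rintro g v ⟨x, rfl⟩
  exact ⟨R₁ g x, hf g x⟩

end REP2aux

/-- an equivariant map out of an irreducible representation is zero or injective -/
theorem irr_injective {R₁ : Γ →* Module.End K M₁} {R₂ : Γ →* Module.End K M₂} (h₁ : IrrRep R₁)
    (f : M₁ →ₗ[K] M₂) (hf : ∀ g x, f (R₁ g x) = R₂ g (f x)) (hne : f ≠ 0) : Function.Injective f := by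
  rw [← LinearMap.ker_eq_bot]
  rcases h₁.2 (LinearMap.ker f) (REP2aux.ker_inv f hf) with h | h
  · exact h
  · exact absurd (LinearMap.ker_eq_top.mp h) hne

/-- PACKAGE REP2: Schur.  A non-zero equivariant map between irreducible representations is an isomorphism -/
theorem schur_iso {R₁ : Γ →* Module.End K M₁} {R₂ : Γ →* Module.End K M₂} (h₁ : IrrRep R₁)
    (h₂ : IrrRep R₂) (f : M₁ →ₗ[K] M₂) (hf : ∀ g x, f (R₁ g x) = R₂ g (f x)) (hne : f ≠ 0) :
    IsoRep R₁ R₂ := by
  have hinj := irr_injective h₁ f hf hne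
  have hsurj : Function.Surjective f := by
    rw [← LinearMap.range_eq_top]
    rcases h₂.2 (LinearMap.range f) (REP2aux.range_inv f hf) with h | h
    · exact absurd (LinearMap.range_eq_bot.mp h) hne
    · exact h
  exact ⟨LinearEquiv.ofBijective f ⟨hinj, hsurj⟩, fun g x => hf g x⟩

/-- Schur over an algebraically closed field: an endomorphism commuting with an irreducible representation is a
scalar -/
theorem schur_scalar [IsAlgClosed K] [FiniteDimensional K M] {R : Γ →* Module.End K M} (h : IrrRep R)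
    (f : Module.End K M) (hf : ∀ g x, f (R g x) = R g (f x)) : ∃ c : K, ∀ x, f x = c • x := by
  have : Nontrivial M := h.1
  obtain ⟨c, hc⟩ := Module.End.exists_eigenvalue f
  refine ⟨c, fun x => ?_⟩
  have hinv : ∀ g, ∀ v ∈ Module.End.eigenspace f c, R g v ∈ Module.End.eigenspace f c := by
    intro g v hv
    rw [Module.End.mem_eigenspace_iff] at hv ⊢
    rw [hf, hv, map_smul]
  rcases h.2 _ hinv with h0 | h0
  · exact absurd h0 hc
  · have : x ∈ Module.End.eigenspace f c := by rw [h0]; trivial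
    exact Module.End.mem_eigenspace_iff.mp this

end REP

end Cfsg.Agent.Lib.Helper75_TZ
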