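import Mathlib
import Cfsg.Agent.Lib.Helper75_TZDefs
import Cfsg.Agent.Lib.Helper3_RepDecomp

/-!
# Helper26_TZ_REP3: package REP3 of the TZ market (S2524, architect helper75): Maschke
-/

set_option autoImplicit false

namespace Cfsg.Agent.Lib.Helper75_TZ

open Matrix Module
open Cfsg.Agent.Lib.Helper5_SpPerfect Cfsg.Agent.Lib.Helper81_SpWeights
  Cfsg.Agent.Lib.Helper81_JointEigen Cfsg.Agent.Lib.Helper81_Heis Cfsg.Agent.Lib.Helper81_WeilLin
  Cfsg.Agent.Lib.Helper81_Schrodinger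

section REP

variable {K : Type*} [Field K] {Γ : Type*} [Group Γ] {M : Type*} [AddCommGroup M] [Module K M]
  {M₁ : Type*} [AddCommGroup M₁] [Module K M₁] {M₂ : Type*} [AddCommGroup M₂] [Module K M₂]
  {M₃ : Type*} [AddCommGroup M₃] [Module K M₃]

/-- PACKAGE REP3: Maschke (from `Helper3_RepDecomp.exists_isInv_isCompl`) -/
theorem maschke [Finite Γ] [CharZero K] (R : Γ →* Module.End K M) (N : Submodule K M)
    (hN : ∀ g, ∀ v ∈ N, R g v ∈ N) :
    ∃ N' : Submodule K M, (∀ g, ∀ v ∈ N', R g v ∈ N') ∧ IsCompl N N' := by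
  have : NeZero (Nat.card Γ : K) := ⟨Nat.cast_ne_zero.mpr Nat.card_pos.ne'⟩
  obtain ⟨W', hW', hc⟩ := Cfsg.Agent.Lib.Helper3_RepDecomp.exists_isInv_isCompl
    (show Representation K Γ M from R) N (fun g w hw => hN g w hw)
  exact ⟨W', fun g v hv => hW' g v hv, hc⟩

/-- relative version: a complement inside an invariant subspace `B` -/
theorem maschke_rel [Finite Γ] [CharZero K] (R : Γ →* Module.End K M) (N B : Submodule K M)
    (hN : ∀ g, ∀ v ∈ N, R g v ∈ N) (hB : ∀ g, ∀ v ∈ B, R g v ∈ B) (hNB : N ≤ B) :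
    ∃ N' : Submodule K M, (∀ g, ∀ v ∈ N', R g v ∈ N') ∧ N' ≤ B ∧ N ⊓ N' = ⊥ ∧ N ⊔ N' = B := by
  obtain ⟨N'', hN'', hc⟩ := maschke R N hN
  refine ⟨N'' ⊓ B, ?_, inf_le_right, ?_, ?_⟩
  · intro g v hv
    exact ⟨hN'' g v hv.1, hB g v hv.2⟩
  · rw [← inf_assoc, hc.inf_eq_bot, bot_inf_eq]
  · rw [← sup_inf_assoc_of_le N'' hNB, hc.sup_eq_top, top_inf_eq]

/-- an equivariant projection onto an invariant subspace -/
theorem exists_equivariant_proj [Finite Γ] [CharZero K] (R : Γ →* Module.End K M) (N : Submodule K M)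
    (hN : ∀ g, ∀ v ∈ N, R g v ∈ N) :
    ∃ π : Module.End K M, (∀ x, π x ∈ N) ∧ (∀ x ∈ N, π x = x) ∧ ∀ g x, π (R g x) = R g (π x) := by
  obtain ⟨N', hN', hc⟩ := maschke R N hN
  refine ⟨N.subtype.comp (Submodule.projectionOnto N N' hc), ?_, ?_, ?_⟩
  · intro x
    exact (Submodule.projectionOnto N N' hc x).2
  · intro x hx
    show ((Submodule.projectionOnto N N' hc x : N) : M) = x
    have := Submodule.projectionOnto_apply_left hc (⟨x, hx⟩ : N)
    exact congrArg Subtype.val this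
  · intro g x
    have hx : x ∈ N ⊔ N' := by rw [hc.sup_eq_top]; trivial
    obtain ⟨n, hn, n', hn', rfl⟩ := Submodule.mem_sup.mp hx
    show ((Submodule.projectionOnto N N' hc (R g (n + n')) : N) : M) =
      R g ((Submodule.projectionOnto N N' hc (n + n') : N) : M)
    have e1 : Submodule.projectionOnto N N' hc (n + n') = ⟨n, hn⟩ := by
      rw [map_add, Submodule.projectionOnto_apply_of_mem_right hc hn', add_zero]
      exact Submodule.projectionOnto_apply_left hc (⟨n, hn⟩ : N)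
    have e2 : Submodule.projectionOnto N N' hc (R g (n + n')) = ⟨R g n, hN g n hn⟩ := by
      rw [map_add, map_add, Submodule.projectionOnto_apply_of_mem_right hc (hN' g n' hn'), add_zero]
      exact Submodule.projectionOnto_apply_left hc (⟨R g n, hN g n hn⟩ : N)
    rw [e1, e2]

/-- every non-zero invariant subspace of a finite-dimensional representation contains an irreducible one -/
theorem exists_irr_sub [FiniteDimensional K M] (R : Γ →* Module.End K M) (N : Submodule K M)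
    (hN : ∀ g, ∀ v ∈ N, R g v ∈ N) (hne : N ≠ ⊥) :
    ∃ (D : Submodule K M) (hD : ∀ g, ∀ v ∈ D, R g v ∈ D), D ≤ N ∧ IrrRep (subRep R D hD) := by
  classical
  have hex : ∃ d : ℕ, ∃ D : Submodule K M, (∀ g, ∀ v ∈ D, R g v ∈ D) ∧ D ≤ N ∧ D ≠ ⊥ ∧
      finrank K D = d := ⟨_, N, hN, le_rfl, hne, rfl⟩
  obtain ⟨D, hD, hDN, hD0, hDd⟩ := Nat.find_spec hex
  have hmin : ∀ U : Submodule K M, (∀ g, ∀ v ∈ U, R g v ∈ U) → U ≤ D → U ≠ ⊥ → U = D := by
    intro U hU hUD hU0
    have hle : finrank K D ≤ finrank K U := by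
      rw [hDd]
      exact Nat.find_min' hex ⟨U, hU, hUD.trans hDN, hU0, rfl⟩
    exact Submodule.eq_of_le_of_finrank_le hUD hle
  refine ⟨D, hD, hDN, ?_, ?_⟩
  · exact Submodule.nontrivial_iff_ne_bot.mpr hD0
  · intro N₀ hN₀
    by_cases h0 : N₀ = ⊥
    · exact Or.inl h0
    · right
      have hU : ∀ g, ∀ v ∈ N₀.map D.subtype, R g v ∈ N₀.map D.subtype := by
        rintro g v ⟨w, hw, rfl⟩
        exact ⟨subRep R D hD g w, hN₀ g w hw, rfl⟩
      have hU0 : N₀.map D.subtype ≠ ⊥ := by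
        intro hbot
        apply h0
        apply Submodule.map_injective_of_injective D.injective_subtype
        rw [hbot, Submodule.map_bot]
      have hUD := hmin _ hU (Submodule.map_subtype_le D N₀) hU0
      rw [eq_top_iff]
      intro w _
      have hw : (w : M) ∈ N₀.map D.subtype := by rw [hUD]; exact w.2
      obtain ⟨w', hw', hww'⟩ := hw
      have : w' = w := Subtype.ext hww'
      rw [← this]
      exact hw'

end REP

end Cfsg.Agent.Lib.Helper75_TZ
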