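import Mathlib
import Cfsg.Agent.Lib.Helper75_TZDefs

set_option autoImplicit false

/-!
# S2524 market (architect helper75), package GRP-EMB (helper54, parallel attempt):
`emb` on Siegel and Levi elements, and `-1`.  (Proofs as in helper10's `S6aux` / helper87's
`S5iiibaux` local copies.)
-/

namespace Cfsg.Agent.Lib.Helper75_TZ

open Matrix Module
open Cfsg.Agent.Lib.Helper5_SpPerfect Cfsg.Agent.Lib.Helper81_SpWeights
  Cfsg.Agent.Lib.Helper81_JointEigen Cfsg.Agent.Lib.Helper81_Heis Cfsg.Agent.Lib.Helper81_WeilLin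
  Cfsg.Agent.Lib.Helper81_Schrodinger

section GRP

variable {F : Type*} [Field F] {m : ℕ}

/-- PACKAGE GRP-EMB: `emb` on Siegel and Levi elements, and `-1` -/
theorem emb_xs (S : symSub m F) : emb (xs S) = xs (emS S) := by
  apply Subtype.ext
  show embC 1 0 0 1 (Xmat S.1) = Xmat (ext0 0 S.1)
  unfold Xmat
  rw [embC_fromBlocks, ext0_one, ext0_zero]

theorem emb_lgH (A : GL (Fin m) F) : emb (lgH A) = lgH (ext0GL A) := by
  apply Subtype.ext
  rw [emb_val, lgH_val, lgH_val, embC_fromBlocks, ext0_zero, ← ext0_transpose]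
  rfl

theorem negOne_eq : (negOne : SpG (m + 1) F) = ds (-1) * emb negOne := by
  apply Subtype.ext
  show (-1 : Matrix (Fin (m + 1) ⊕ Fin (m + 1)) (Fin (m + 1) ⊕ Fin (m + 1)) F) =
    Lmat (dA ((-1 : Fˣ) : F)) (dA (((-1 : Fˣ)⁻¹ : Fˣ) : F)) *
      embC 1 0 0 1 (-1 : Matrix (Fin m ⊕ Fin m) (Fin m ⊕ Fin m) F)
  have h1 : Lmat (dA ((-1 : Fˣ) : F)) (dA (((-1 : Fˣ)⁻¹ : Fˣ) : F)) =
      (embC (-1) 0 0 (-1) 1 : Matrix (Fin (m + 1) ⊕ Fin (m + 1)) (Fin (m + 1) ⊕ Fin (m + 1)) F) := by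
    rw [← fromBlocks_one, embC_fromBlocks, ext0_zero, inv_neg_one, Units.val_neg, Units.val_one]
    unfold Lmat dA
    rw [ext0_transpose, transpose_one]
  rw [h1, embC_mul]
  have h2 : (-1 : Matrix (Fin m ⊕ Fin m) (Fin m ⊕ Fin m) F) = fromBlocks (-1) 0 0 (-1) := by
    rw [← fromBlocks_one, fromBlocks_neg, neg_zero]
  have h3 : (-1 : Matrix (Fin (m + 1) ⊕ Fin (m + 1)) (Fin (m + 1) ⊕ Fin (m + 1)) F) =
      fromBlocks (-1) 0 0 (-1) := by
    rw [← fromBlocks_one, fromBlocks_neg, neg_zero]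
  rw [one_mul, h2, embC_fromBlocks, h3]
  have e1 : (-1 : F) * 1 + 0 * 0 = -1 := by ring
  have e2 : (-1 : F) * 0 + 0 * 1 = 0 := by ring
  have e3 : (0 : F) * 1 + -1 * 0 = 0 := by ring
  have e4 : (0 : F) * 0 + -1 * 1 = -1 := by ring
  rw [e1, e2, e3, e4, ext0_zero, ext0_neg, ext0_one]

theorem negOne_comm (g : SpG m F) : negOne * g = g * negOne := by
  apply Subtype.ext
  show (-1 : Matrix (Fin m ⊕ Fin m) (Fin m ⊕ Fin m) F) * g.1 = g.1 * (-1)
  rw [neg_one_mul, mul_neg_one]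

end GRP

end Cfsg.Agent.Lib.Helper75_TZ
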