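import Mathlib
import Cfsg.Agent.Lib.Helper75_TZDefs
import Cfsg.Agent.Lib.Helper61_TZ_S3p

set_option autoImplicit false

/-!
S2524 market TZ (architect helper75), package S4: the elementary matrices are trivial on `M^Q`
(immediate from S3': a vector of weight `0` is fixed by all `xs S`, in particular by `Z_j`).
-/

namespace Cfsg.Agent.Lib.Helper75_TZ

open Matrix Module
open Cfsg.Agent.Lib.Helper5_SpPerfect Cfsg.Agent.Lib.Helper81_SpWeights
  Cfsg.Agent.Lib.Helper81_JointEigen Cfsg.Agent.Lib.Helper81_Heis Cfsg.Agent.Lib.Helper81_WeilLin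
  Cfsg.Agent.Lib.Helper81_Schrodinger

section S

variable {F : Type*} [Field F] [Fintype F] [DecidableEq F] {m : ℕ} {K : Type*} [Field K]
  [IsAlgClosed K] [CharZero K] {M : Type*} [AddCommGroup M] [Module K M] [FiniteDimensional K M]

namespace S4aux

/-- a vector of weight `0` is fixed by the whole Siegel radical -/
theorem xs_fix_of_wsp_zero {n : ℕ} (ψ₀ : AddChar F K) (R : SpG n F →* Module.End K M) (v : M)
    (hv : v ∈ wsp R ψ₀ 0) (S : symSub n F) : R (xs S) v = v := by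
  rw [(mem_wsp R ψ₀ 0 v).1 hv S, map_zero, AddChar.map_zero_eq_one, one_smul]

end S4aux

/-- PACKAGE S4: the elementary matrices are trivial on `M^Q` -/
theorem elem_fix_Q (ψ₀ : AddChar F K) (hψ₀ : ψ₀ ≠ 1) (hodd : Odd (Fintype.card F))
    (R : SpG (m + 1) F →* Module.End K M) (hrk : RankLeOne R ψ₀) (v : M) (hv : v ∈ wsp R ψ₀ 0)
    (j k : Fin (m + 1)) (hjk : j ≠ k) (s : F) : R (lgH (elemGL j k hjk s)) v = v :=
  elem_fix_of_Zj ψ₀ hψ₀ hodd R hrk j k hjk v (fun _ => S4aux.xs_fix_of_wsp_zero ψ₀ R v hv _) s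

end S

end Cfsg.Agent.Lib.Helper75_TZ
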