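import Mathlib
import Cfsg.Agent.Lib.Helper75_TZDefs

/-!
# S2524 market (architect helper75), package S-RES: weights of `Q` versus weights of `Q₂` on `M^Z`

All theorems of the package except `wsp_of_res` (which needs the package S2 `xb_fix`; it is in `Helper63_TZ_SRES2`;
here: `SRESaux.wsp_of_res_of`, with the conclusion of `xb_fix` for `v` as a hypothesis).
-/

set_option autoImplicit false
set_option linter.unusedSectionVars false
set_option linter.unusedSimpArgs false

namespace Cfsg.Agent.Lib.Helper75_TZ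

open Matrix Module
open Cfsg.Agent.Lib.Helper5_SpPerfect Cfsg.Agent.Lib.Helper81_SpWeights
  Cfsg.Agent.Lib.Helper81_JointEigen Cfsg.Agent.Lib.Helper81_Heis Cfsg.Agent.Lib.Helper81_WeilLin
  Cfsg.Agent.Lib.Helper81_Schrodinger

namespace SRESaux

variable {F : Type*} [Field F] {m : ℕ}

/-- the trace of a block matrix `[[c,0],[0,A]]` -/
theorem trace_ext0 (c : F) (A : Matrix (Fin m) (Fin m) F) : Matrix.trace (ext0 c A) = c + Matrix.trace A := by
  unfold Matrix.trace
  rw [Fin.sum_univ_succ]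
  rfl

/-- `emb (xs S) = xs (emS S)` (a private copy of GRP-EMB `emb_xs`) -/
theorem emb_xs' (S : symSub m F) : emb (xs S) = xs (emS S) := by
  apply Subtype.ext
  show embC 1 0 0 1 (Xmat S.1) = Xmat (ext0 0 S.1)
  unfold Xmat
  rw [embC_fromBlocks, ext0_one, ext0_zero]

/-- the lower right block of a symmetric matrix -/
def lowS (S : symSub (m + 1) F) : symSub m F :=
  ⟨Matrix.of fun (i j : Fin m) => S.1 i.succ j.succ, by
    show (Matrix.of fun (i j : Fin m) => S.1 i.succ j.succ)ᵀ = _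
    ext i j
    have := congrFun (congrFun (mem_symSub.mp S.2) i.succ) j.succ
    rw [Matrix.transpose_apply] at this
    simpa using this⟩

theorem lowS_apply (S : symSub (m + 1) F) (i j : Fin m) : (lowS S).1 i j = S.1 i.succ j.succ := rfl

/-- `S = S₀₀ E₀₀ + (e₀ bᵀ + b e₀ᵀ) + (0 ⊕ S₂)` -/
theorem sym_decomp (S : symSub (m + 1) F) :
    S = zS (S.1 0 0) + xS (fun j => S.1 0 j.succ) + emS (lowS S) := by
  apply Subtype.ext
  show S.1 = Matrix.single 0 0 (S.1 0 0)
    + (vecMulVec e0 (c0 fun j => S.1 0 j.succ) + vecMulVec (c0 fun j => S.1 0 j.succ) e0)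
    + ext0 0 (lowS S).1
  have hsym : ∀ i j, S.1 j i = S.1 i j := by
    intro i j
    have := congrFun (congrFun (mem_symSub.mp S.2) i) j
    rw [Matrix.transpose_apply] at this
    exact this
  ext i j
  refine Fin.cases ?_ (fun i' => ?_) i <;> refine Fin.cases ?_ (fun j' => ?_) j
  · simp [e0, Matrix.vecMulVec_apply, Matrix.single_apply]
  · simp [e0, Matrix.vecMulVec_apply, Matrix.single_apply, (Fin.succ_ne_zero _).symm]
  · simp [e0, Matrix.vecMulVec_apply, Matrix.single_apply, (Fin.succ_ne_zero _).symm, Fin.succ_ne_zero,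
      hsym 0 i'.succ]
  · simp [e0, Matrix.vecMulVec_apply, Matrix.single_apply, (Fin.succ_ne_zero _).symm, Fin.succ_ne_zero,
      lowS_apply]

/-- `tr (S (0 ⊕ T₂)) = tr (S₂ T₂)` -/
theorem trP_emS_right (S : symSub (m + 1) F) (T₂ : symSub m F) : trP S (emS T₂) = trP (lowS S) T₂ := by
  rw [trP_apply, trP_apply]
  show Matrix.trace (S.1 * ext0 0 T₂.1) = Matrix.trace ((lowS S).1 * T₂.1)
  unfold Matrix.trace
  rw [Fin.sum_univ_succ]
  have h0 : Matrix.diag (S.1 * ext0 0 T₂.1) 0 = 0 := by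
    rw [Matrix.diag_apply, Matrix.mul_apply, Fin.sum_univ_succ]
    simp
  rw [h0, zero_add]
  apply Finset.sum_congr rfl
  intro i _
  rw [Matrix.diag_apply, Matrix.diag_apply, Matrix.mul_apply, Matrix.mul_apply, Fin.sum_univ_succ]
  simp [lowS_apply]

end SRESaux

section S2

variable {F : Type*} [Field F] [Fintype F] [DecidableEq F] {m : ℕ} {K : Type*} [Field K]
  [IsAlgClosed K] [CharZero K] {M : Type*} [AddCommGroup M] [Module K M] [FiniteDimensional K M]

/-- PACKAGE S-RES: weights of `Q` versus weights of `Q₂` on `M^Z` -/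
theorem trP_emS (S T : symSub m F) : trP (emS S) (emS T) = trP S T := by
  rw [trP_apply, trP_apply]
  show Matrix.trace (ext0 0 S.1 * ext0 0 T.1) = Matrix.trace (S.1 * T.1)
  rw [ext0_mul, SRESaux.trace_ext0, mul_zero, zero_add]

theorem Ta_eq_rk1S (a : F) : (Ta a : symSub (m + 1) F) = rk1S a (Pi.single 0 1) := by
  apply Subtype.ext
  show Matrix.single 0 0 a = a • vecMulVec (Pi.single 0 1) (Pi.single 0 1)
  ext i j
  rw [Matrix.smul_apply, Matrix.vecMulVec_apply, Matrix.single_apply, Pi.single_apply, Pi.single_apply]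
  by_cases hi : i = 0
  · by_cases hj : j = 0
    · simp [hi, hj]
    · have : ¬ (0 = i ∧ 0 = j) := fun h => hj h.2.symm
      simp [hj, this]
  · have : ¬ (0 = i ∧ 0 = j) := fun h => hi h.1.symm
    simp [hi, this]

theorem emS_rk1S (a : F) (x : Fin m → F) : emS (rk1S a x) = rk1S a (c0 x) := by
  apply Subtype.ext
  show ext0 0 (a • vecMulVec x x) = a • vecMulVec (c0 x) (c0 x)
  ext i j
  refine Fin.cases ?_ (fun i' => ?_) i <;> refine Fin.cases ?_ (fun j' => ?_) j <;>
    simp [Matrix.vecMulVec_apply]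

theorem cong_rk1S {n : ℕ} (B : Matrix (Fin n) (Fin n) F) (a : F) (x : Fin n → F) :
    cong B (rk1S a x) = rk1S a (B *ᵥ x) := by
  apply Subtype.ext
  show B * (a • vecMulVec x x) * Bᵀ = a • vecMulVec (B *ᵥ x) (B *ᵥ x)
  rw [Matrix.mul_smul, Matrix.smul_mul, Matrix.mul_vecMulVec, Matrix.vecMulVec_mul,
    Matrix.vecMul_transpose]

theorem cong_zero {n : ℕ} (B : Matrix (Fin n) (Fin n) F) : cong B (0 : symSub n F) = 0 := by
  apply Subtype.ext
  show B * (0 : Matrix (Fin n) (Fin n) F) * Bᵀ = 0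
  rw [Matrix.mul_zero, Matrix.zero_mul]

theorem emS_injective : Function.Injective (emS : symSub m F → symSub (m + 1) F) := by
  intro S S' h
  apply Subtype.ext
  ext i j
  have h1 := congrArg (fun T : symSub (m + 1) F => T.1 i.succ j.succ) h
  exact h1

/-- `xs S = z(S₀₀) x(S₀,₁..) xs(0 ⊕ S₂)` -/
theorem xs_decomp (S : symSub (m + 1) F) :
    ∃ S₂ : symSub m F, xs S = zc (S.1 0 0) * xb (fun j => S.1 0 j.succ) * xs (emS S₂) := by
  refine ⟨SRESaux.lowS S, ?_⟩
  unfold zc xb
  rw [← xs_add, ← xs_add, ← SRESaux.sym_decomp]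

theorem wsp_res (ψ₀ : AddChar F K) (R : SpG (m + 1) F →* Module.End K M) (T₂ : symSub m F) (v : M)
    (hv : v ∈ wsp R ψ₀ (emS T₂)) : v ∈ wsp (R.comp emb) ψ₀ T₂ := by
  rw [mem_wsp] at hv ⊢
  intro S
  rw [MonoidHom.comp_apply, SRESaux.emb_xs', hv (emS S), trP_emS]

/-- `wsp_of_res` with the conclusion of S2 (`xb_fix`) for `v` as a hypothesis -/
theorem SRESaux.wsp_of_res_of (ψ₀ : AddChar F K)
    (R : SpG (m + 1) F →* Module.End K M) (T₂ : symSub m F) (v : M)
    (hxb : ∀ b : Fin m → F, R (xb b) v = v)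
    (hv0 : v ∈ zsp R ψ₀ 0) (hv : v ∈ wsp (R.comp emb) ψ₀ T₂) : v ∈ wsp R ψ₀ (emS T₂) := by
  rw [mem_wsp] at hv ⊢
  intro S
  have h1 : xs S = zc (S.1 0 0) * xb (fun j => S.1 0 j.succ) * xs (emS (SRESaux.lowS S)) := by
    unfold zc xb
    rw [← xs_add, ← xs_add, ← SRESaux.sym_decomp]
  have h2 : R (xs (emS (SRESaux.lowS S))) v = ψ₀ (trP (SRESaux.lowS S) T₂) • v := by
    have := hv (SRESaux.lowS S)
    rw [MonoidHom.comp_apply, SRESaux.emb_xs'] at this
    exact this
  have h3 : R (xb (fun j => S.1 0 j.succ)) v = v := hxb _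
  have h4 : R (zc (S.1 0 0)) v = v := by
    have := (mem_zsp R ψ₀ 0 v).mp hv0 (S.1 0 0)
    rw [mul_zero, AddChar.map_zero_eq_one, one_smul] at this
    exact this
  rw [h1, map_mul, map_mul, Module.End.mul_apply, Module.End.mul_apply, h2, map_smul, map_smul, h3, h4,
    SRESaux.trP_emS_right]

theorem wsp_le_zsp (ψ₀ : AddChar F K) (R : SpG (m + 1) F →* Module.End K M) (T : symSub (m + 1) F) :
    wsp R ψ₀ T ≤ zsp R ψ₀ (T.1 0 0) := by
  intro v hv
  rw [mem_wsp] at hv
  rw [mem_zsp]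
  intro c
  have h1 := hv (zS c)
  have h2 : trP (zS c) T = c * T.1 0 0 := by
    rw [trP_apply]
    show Matrix.trace (Matrix.single 0 0 c * T.1) = c * T.1 0 0
    rw [Matrix.trace_single_mul, smul_eq_mul]
  rw [h2] at h1
  exact h1

theorem mem_wsp_subRep {k : ℕ} (ψ₀ : AddChar F K) (R : SpG k F →* Module.End K M) (D : Submodule K M)
    (hD : ∀ g, ∀ v ∈ D, R g v ∈ D) (T : symSub k F) (x : D) :
    x ∈ wsp (subRep R D hD) ψ₀ T ↔ x.1 ∈ wsp R ψ₀ T := by
  rw [mem_wsp, mem_wsp]
  constructor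
  · intro h S
    have := congrArg Subtype.val (h S)
    rw [subRep_apply] at this
    exact this
  · intro h S
    apply Subtype.ext
    rw [subRep_apply]
    exact h S

end S2

end Cfsg.Agent.Lib.Helper75_TZ
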