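import Mathlib
import Cfsg.Agent.Lib.Helper75_TZDefs
import Cfsg.Agent.Lib.Helper27_TZ_S2
import Cfsg.Agent.Lib.Helper61_TZ_S4
import Cfsg.Agent.Lib.Helper54_TZ_GRP_EMB
import Cfsg.Agent.Lib.Helper63_TZ_SRES
import Cfsg.Agent.Lib.Helper11_TZ_GEN1
import Cfsg.Agent.Lib.Helper25_TZ_GEN3

set_option autoImplicit false
set_option linter.unusedSectionVars false

namespace Cfsg.Agent.Lib.Helper75_TZ

open Matrix Module
open Cfsg.Agent.Lib.Helper5_SpPerfect Cfsg.Agent.Lib.Helper81_SpWeights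
  Cfsg.Agent.Lib.Helper81_JointEigen Cfsg.Agent.Lib.Helper81_Heis Cfsg.Agent.Lib.Helper81_WeilLin
  Cfsg.Agent.Lib.Helper81_Schrodinger

section S

variable {F : Type*} [Field F] [Fintype F] [DecidableEq F] {m : ℕ} {K : Type*} [Field K]
  [IsAlgClosed K] [CharZero K] {M : Type*} [AddCommGroup M] [Module K M] [FiniteDimensional K M]

namespace S7aux

/-- the stabiliser of a vector, as a subgroup -/
def stab {Γ : Type*} [Group Γ] (R : Γ →* Module.End K M) (d : M) : Subgroup Γ where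
  carrier := {g | R g d = d}
  one_mem' := by
    show R 1 d = d
    rw [map_one]; rfl
  mul_mem' := by
    intro a b ha hb
    show R (a * b) d = d
    rw [map_mul, Module.End.mul_apply]
    rw [show R b d = d from hb]
    exact ha
  inv_mem' := by
    intro a ha
    show R a⁻¹ d = d
    have h : R a⁻¹ (R a d) = d := by
      rw [← Module.End.mul_apply, ← map_mul, inv_mul_cancel, map_one]; rfl
    rw [show R a d = d from ha] at h
    exact h

theorem mem_stab {Γ : Type*} [Group Γ] (R : Γ →* Module.End K M) (d : M) (g : Γ) :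
    g ∈ stab R d ↔ R g d = d := Iff.rfl

end S7aux

/-- PACKAGE S7: no `G₂`-fixed vectors in `M^Z` -/
theorem no_fixed (ψ₀ : AddChar F K) (hψ₀ : ψ₀ ≠ 1) (hodd : Odd (Fintype.card F))
    (R : SpG (m + 1) F →* Module.End K M) (hrk : RankLeOne R ψ₀) (hm : 1 ≤ m)
    (hirr : IrrRep R) (hnt : ∃ g, R g ≠ 1) (d : M) (hd : d ∈ zsp R ψ₀ 0)
    (hfix : ∀ g : SpG m F, R (emb g) d = d) : d = 0 := by
  -- Step 1: `d` is fixed by `Q`
  have hQ : ∀ S : symSub (m + 1) F, R (xs S) d = d := by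
    intro S
    obtain ⟨S₂, hS⟩ := xs_decomp S
    rw [hS, map_mul, map_mul, Module.End.mul_apply, Module.End.mul_apply, ← emb_xs, hfix,
      xb_fix ψ₀ hψ₀ hodd R hrk d hd, (mem_zsp R ψ₀ 0 d).mp hd, mul_zero,
      AddChar.map_zero_eq_one, one_smul]
  have hd0 : d ∈ wsp R ψ₀ 0 := by
    rw [mem_wsp]
    intro S
    rw [hQ S, map_zero, AddChar.map_zero_eq_one, one_smul]
  -- Step 2: `d` is fixed by `L`
  have hL : ∀ A : GL (Fin (m + 1)) F, R (lgH A) d = d := by
    intro A
    have hA : A ∈ (S7aux.stab (R.comp lgH) d) := by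
      have htop : S7aux.stab (R.comp (lgH : GL (Fin (m + 1)) F →* SpG (m + 1) F)) d = ⊤ := by
        rw [eq_top_iff, ← closure_elem_ext0 (F := F) hm, Subgroup.closure_le]
        rintro B (⟨j, k, hjk, s, rfl⟩ | ⟨A₂, rfl⟩)
        · exact elem_fix_Q ψ₀ hψ₀ hodd R hrk d hd0 j k hjk s
        · show R (lgH (ext0GL A₂)) d = d
          rw [← emb_lgH, hfix]
      rw [htop]; exact Subgroup.mem_top _
    exact hA
  -- Step 3: `d` is fixed by `G`
  have hG : ∀ g : SpG (m + 1) F, R g d = d := by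
    intro g
    have hg : g ∈ S7aux.stab R d := by
      have htop : S7aux.stab R d = ⊤ := by
        rw [eq_top_iff, ← closure_P_G2 (F := F) hm, Subgroup.closure_le]
        rintro h ((⟨S, rfl⟩ | ⟨A, rfl⟩) | ⟨g₂, rfl⟩)
        · exact hQ S
        · exact hL A
        · exact hfix g₂
      rw [htop]; exact Subgroup.mem_top _
    exact hg
  -- Step 4: the line `K d` is invariant
  by_contra hne
  obtain ⟨_, hirr'⟩ := hirr
  have hinv : ∀ g, ∀ v ∈ (K ∙ d), R g v ∈ (K ∙ d) := by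
    intro g v hv
    obtain ⟨c, rfl⟩ := Submodule.mem_span_singleton.mp hv
    rw [map_smul, hG g]
    exact Submodule.smul_mem _ _ (Submodule.mem_span_singleton_self d)
  rcases hirr' (K ∙ d) hinv with h | h
  · exact hne ((Submodule.span_singleton_eq_bot).mp h)
  · obtain ⟨g, hg⟩ := hnt
    apply hg
    ext v
    have hv : v ∈ (K ∙ d) := h ▸ Submodule.mem_top
    obtain ⟨c, rfl⟩ := Submodule.mem_span_singleton.mp hv
    rw [map_smul, hG g]; rfl

end S

end Cfsg.Agent.Lib.Helper75_TZ
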