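import Mathlib
import Cfsg.Agent.Lib.Helper75_TZDefs
import Cfsg.Agent.Lib.Helper57_TZ_GEN2
import Cfsg.Agent.Lib.Helper27_TZ_S2
import Cfsg.Agent.Lib.Helper11_TZ_GRPW0
import Cfsg.Agent.Lib.Helper54_TZ_GRP_EMB
import Cfsg.Agent.Lib.Helper27_TZ_S7

set_option autoImplicit false
set_option linter.unusedSectionVars false
set_option linter.unusedVariables false

namespace Cfsg.Agent.Lib.Helper75_TZ

open Matrix Module
open Cfsg.Agent.Lib.Helper5_SpPerfect Cfsg.Agent.Lib.Helper81_SpWeights
  Cfsg.Agent.Lib.Helper81_JointEigen Cfsg.Agent.Lib.Helper81_Heis Cfsg.Agent.Lib.Helper81_WeilLin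
  Cfsg.Agent.Lib.Helper81_Schrodinger

namespace S8baux

section

variable {F : Type*} [Field F] {m : ℕ}

theorem two_ne_zero_of_odd [Fintype F] (hodd : Odd (Fintype.card F)) : (2 : F) ≠ 0 := by
  intro h2
  have h3 : ringChar F ∣ 2 := ringChar.dvd (by exact_mod_cast h2)
  have h4 : ringChar F = 2 := by
    rcases (Nat.dvd_prime Nat.prime_two).mp h3 with h | h
    · exact absurd h CharP.ringChar_ne_one
    · exact h
  have h5 := FiniteField.even_card_of_char_two h4
  rcases hodd with ⟨k, hk⟩
  omega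

theorem lowL_neg (b : Fin m → F) : (lowL (-b) : SpG (m + 1) F) = (lowL b)⁻¹ := by
  unfold lowL
  rw [← map_inv]
  congr 1
  apply Units.ext
  rfl

theorem emS_add (S S' : symSub m F) : emS (S + S') = emS S + emS S' := by
  apply Subtype.ext
  show ext0 0 (S.1 + S'.1) = ext0 0 S.1 + ext0 0 S'.1
  rw [← ext0_add, add_zero]

theorem smul_symBB (c : F) (b b' : Fin m → F) : c • symBB b b' = symBB (c • b) b' := by
  apply Subtype.ext
  show c • (vecMulVec b b' + vecMulVec b' b) = vecMulVec (c • b) b' + vecMulVec b' (c • b)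
  rw [smul_add, smul_vecMulVec, vecMulVec_smul]

end

end S8baux

section S2

variable {F : Type*} [Field F] [Fintype F] [DecidableEq F] {m : ℕ} {K : Type*} [Field K]
  [IsAlgClosed K] [CharZero K] {M : Type*} [AddCommGroup M] [Module K M] [FiniteDimensional K M]

/-- PACKAGE S8b: `R(w0)` cannot map a non-zero `G₂`-submodule of `M^Z` into `M^Z`.
(Otherwise every `d ∈ D` is fixed by `x(b')` and by `w0⁻¹ x(b) w0 = lowL (±b)`, hence by the commutators
`xs (0 ⊕ symBB b b')`, hence by `Q₂` (`symBB_span`), hence `G₂` is trivial on `D` (`hom_trivial_of_xs`): `no_fixed`.) -/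
theorem w0_not_fix (ψ₀ : AddChar F K) (hψ₀ : ψ₀ ≠ 1) (hodd : Odd (Fintype.card F))
    (R : SpG (m + 1) F →* Module.End K M) (hrk : RankLeOne R ψ₀) (hm : 1 ≤ m)
    (hirr : IrrRep R) (hnt : ∃ g, R g ≠ 1) (D : Submodule K M) (hD0 : D ≤ zsp R ψ₀ 0)
    (hD : ∀ g : SpG m F, ∀ v ∈ D, (R.comp emb) g v ∈ D) (hDne : D ≠ ⊥) :
    ¬ ∀ d ∈ D, R w0 d ∈ zsp R ψ₀ 0 := by
  intro hw
  have h2 : (2 : F) ≠ 0 := S8baux.two_ne_zero_of_odd hodd
  -- a fixed vector is fixed by the inverse
  have hinv : ∀ (g : SpG (m + 1) F) (d : M), R g d = d → R g⁻¹ d = d := by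
    intro g d hgd
    have h1 : R g⁻¹ (R g d) = d := by
      rw [← Module.End.mul_apply, ← map_mul, inv_mul_cancel, map_one]; rfl
    rw [hgd] at h1
    exact h1
  -- every `d ∈ D` is fixed by all `xb b'`
  have hxb : ∀ d ∈ D, ∀ b' : Fin m → F, R (xb b') d = d := fun d hd b' =>
    xb_fix ψ₀ hψ₀ hodd R hrk d (hD0 hd) b'
  -- every `d ∈ D` is fixed by the conjugates `w0⁻¹ xb b w0`
  have hconj : ∀ d ∈ D, ∀ b : Fin m → F, R ((w0 : SpG (m + 1) F)⁻¹ * xb b * w0) d = d := by
    intro d hd b
    rw [map_mul, map_mul, Module.End.mul_apply, Module.End.mul_apply,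
      xb_fix ψ₀ hψ₀ hodd R hrk (R w0 d) (hw d hd) b, ← Module.End.mul_apply, ← map_mul,
      inv_mul_cancel, map_one]
    rfl
  -- hence by all `lowL b`
  have hlow : ∀ d ∈ D, ∀ b : Fin m → F, R (lowL b) d = d := by
    intro d hd b
    rcases w0_conj_xb b with h | h
    · rw [← h]; exact hconj d hd b
    · have h3 : R (lowL (-b)) d = d := by rw [← h]; exact hconj d hd b
      have h4 := hinv _ _ h3
      rw [S8baux.lowL_neg, inv_inv] at h4
      exact h4
  -- hence by the commutators
  have hcomm : ∀ d ∈ D, ∀ b b' : Fin m → F, R (xs (emS (symBB b b'))) d = d := by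
    intro d hd b b'
    rw [← lowL_comm_xb, map_mul, map_mul, map_mul, Module.End.mul_apply, Module.End.mul_apply,
      Module.End.mul_apply, hinv _ _ (hxb d hd b'), hinv _ _ (hlow d hd b), hxb d hd b',
      hlow d hd b]
  -- hence by all of `Q₂`
  have hQ2 : ∀ d ∈ D, ∀ S : symSub m F, R (xs (emS S)) d = d := by
    intro d hd S
    have hS : S ∈ Submodule.span F
        (Set.range fun p : (Fin m → F) × (Fin m → F) => symBB p.1 p.2) := by
      rw [symBB_span h2]; exact Submodule.mem_top
    have key : ∀ c : F, R (xs (emS (c • S))) d = d := by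
      induction hS using Submodule.span_induction with
      | mem x hx =>
        obtain ⟨p, rfl⟩ := hx
        intro c
        show R (xs (emS (c • symBB p.1 p.2))) d = d
        rw [S8baux.smul_symBB]
        exact hcomm d hd _ _
      | zero =>
        intro c
        rw [smul_zero]
        have : emS (0 : symSub m F) = 0 := by
          apply Subtype.ext
          show ext0 0 (0 : Matrix (Fin m) (Fin m) F) = 0
          exact ext0_zero
        rw [this, xs_zero, map_one]; rfl
      | add x y _ _ hx hy =>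
        intro c
        rw [smul_add, S8baux.emS_add, xs_add, map_mul, Module.End.mul_apply, hy c, hx c]
      | smul a x _ hx =>
        intro c
        rw [smul_smul]
        exact hx (c * a)
    have := key 1
    rw [one_smul] at this
    exact this
  -- `G₂` acts trivially on `D`
  have htriv : ∀ g : SpG m F, subRep (R.comp emb) D hD g = 1 := by
    apply hom_trivial_of_xs hm
    intro S
    apply LinearMap.ext
    intro x
    apply Subtype.ext
    show R (emb (xs S)) x.1 = x.1
    rw [emb_xs]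
    exact hQ2 x.1 x.2 S
  -- contradiction with `no_fixed`
  apply hDne
  rw [Submodule.eq_bot_iff]
  intro d hd
  apply no_fixed ψ₀ hψ₀ hodd R hrk hm hirr hnt d (hD0 hd)
  intro g
  have := congrArg (fun f : Module.End K D => ((f ⟨d, hd⟩ : D) : M)) (htriv g)
  exact this

end S2

end Cfsg.Agent.Lib.Helper75_TZ
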