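import Mathlib
import Cfsg.Agent.Lib.Helper75_TZDefs
import Cfsg.Agent.Lib.Helper31_TZ_GRP_COMM
import Cfsg.Agent.Lib.Helper26_TZ_REP2
import Cfsg.Agent.Lib.Helper85_TZ_SZPROJ
import Cfsg.Agent.Lib.Helper57_TZ_S8b

/-!
# Helper26_TZ_S8a: package S8a of the TZ market (S2524, architect helper75)
-/

set_option autoImplicit false

namespace Cfsg.Agent.Lib.Helper75_TZ

open Matrix Module
open Cfsg.Agent.Lib.Helper5_SpPerfect Cfsg.Agent.Lib.Helper81_SpWeights
  Cfsg.Agent.Lib.Helper81_JointEigen Cfsg.Agent.Lib.Helper81_Heis Cfsg.Agent.Lib.Helper81_WeilLin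
  Cfsg.Agent.Lib.Helper81_Schrodinger

section S2

variable {F : Type*} [Field F] [Fintype F] [DecidableEq F] {m : ℕ} {K : Type*} [Field K]
  [IsAlgClosed K] [CharZero K] {M : Type*} [AddCommGroup M] [Module K M] [FiniteDimensional K M]

/-- PACKAGE S8a: an irreducible `G₂`-submodule of `M^Z` embeds into some `M_(Z,a)`, `a ≠ 0`
(`f = zproj a ∘ R(w0)`, which commutes with `G₂`) -/
theorem exists_embed (ψ₀ : AddChar F K) (hψ₀ : ψ₀ ≠ 1) (hodd : Odd (Fintype.card F))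
    (R : SpG (m + 1) F →* Module.End K M) (hrk : RankLeOne R ψ₀) (hm : 1 ≤ m)
    (hirr : IrrRep R) (hnt : ∃ g, R g ≠ 1) (D : Submodule K M) (hD0 : D ≤ zsp R ψ₀ 0)
    (hD : ∀ g : SpG m F, ∀ v ∈ D, (R.comp emb) g v ∈ D)
    (hDirr : IrrRep (subRep (R.comp emb) D hD)) :
    ∃ (a : F) (f : D →ₗ[K] M), a ≠ 0 ∧ Function.Injective f ∧ (∀ x, f x ∈ zsp R ψ₀ a) ∧
      ∀ (g : SpG m F) (x : D), f (subRep (R.comp emb) D hD g x) = R (emb g) (f x) := by
  classical
  have hDne : D ≠ ⊥ := by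
    have := hDirr.1
    exact Submodule.nontrivial_iff_ne_bot.mp this
  have hnot := w0_not_fix ψ₀ hψ₀ hodd R hrk hm hirr hnt D hD0 hD hDne
  push Not at hnot
  obtain ⟨d, hdD, hd⟩ := hnot
  -- some `a ≠ 0` with `zproj a (R w0 d) ≠ 0`
  have hex : ∃ a : F, a ≠ 0 ∧ zproj R ψ₀ a (R w0 d) ≠ 0 := by
    by_contra hcon
    push Not at hcon
    apply hd
    have hsum := sum_zproj ψ₀ hψ₀ R (R w0 d)
    rw [← Finset.add_sum_erase Finset.univ _ (Finset.mem_univ (0 : F))] at hsum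
    have hz : ∑ a ∈ Finset.univ.erase (0 : F), zproj R ψ₀ a (R w0 d) = 0 := by
      apply Finset.sum_eq_zero
      intro a ha
      exact hcon a (Finset.ne_of_mem_erase ha)
    rw [hz, add_zero] at hsum
    rw [← hsum]
    exact zproj_mem ψ₀ R 0 _
  obtain ⟨a, ha, hne⟩ := hex
  let f : D →ₗ[K] M := (zproj R ψ₀ a).comp ((R w0).comp D.subtype)
  have hfapp : ∀ x : D, f x = zproj R ψ₀ a (R w0 x.1) := fun x => rfl
  have hequiv : ∀ (g : SpG m F) (x : D), f (subRep (R.comp emb) D hD g x) = R (emb g) (f x) := by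
    intro g x
    rw [hfapp, hfapp]
    have h1 : ((subRep (R.comp emb) D hD g x : D) : M) = R (emb g) x.1 := rfl
    rw [h1]
    have h2 : R w0 (R (emb g) x.1) = R (emb g) (R w0 x.1) := by
      rw [← Module.End.mul_apply, ← map_mul, w0_comm_emb, map_mul, Module.End.mul_apply]
    rw [h2]
    exact zproj_comm ψ₀ R a (emb g) (fun c => (zc_comm_emb c g).symm) _
  have hf0 : f ≠ 0 := by
    intro h0
    apply hne
    have := congrArg (fun φ : D →ₗ[K] M => φ ⟨d, hdD⟩) h0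
    exact this
  have hinj : Function.Injective f :=
    irr_injective (R₁ := subRep (R.comp emb) D hD) (R₂ := R.comp emb) hDirr f
      (fun g x => hequiv g x) hf0
  exact ⟨a, f, ha, hinj, fun x => zproj_mem ψ₀ R a _, hequiv⟩

end S2

end Cfsg.Agent.Lib.Helper75_TZ
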