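import Mathlib
import Cfsg.Agent.Lib.Helper81_TZW_Defs

/-!
S2524 Part W, tool package PROJ (helper9, for helper81): the isotypic projections of the
multiplication operators `mS S` preserve every `mS`-stable subspace.
-/

set_option autoImplicit false
set_option linter.unusedSectionVars false

namespace Cfsg.Agent.Lib.Helper9_TZW_PROJ

open Matrix Module
open Cfsg.Agent.Lib.Helper5_SpPerfect Cfsg.Agent.Lib.Helper81_SpWeights
  Cfsg.Agent.Lib.Helper81_Heis Cfsg.Agent.Lib.Helper81_WeilLin Cfsg.Agent.Lib.Helper81_Schrodinger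
  Cfsg.Agent.Lib.Helper75_TZ Cfsg.Agent.Lib.Helper81_TZW

variable {F : Type*} [Field F] [Fintype F] [DecidableEq F] {K : Type*} [Field K] [IsAlgClosed K] [CharZero K]

/-- `tr (S (a t tᵀ)) = a (tᵀ S t)` -/
theorem trP_rk1S' {k : ℕ} (a : F) (S : symSub k F) (t : Fin k → F) :
    trP S (rk1S a t) = a * (t ⬝ᵥ S.1 *ᵥ t) := by
  rw [trP_apply]
  show Matrix.trace (S.1 * (a • vecMulVec t t)) = _
  rw [Matrix.mul_smul, Matrix.trace_smul, Matrix.mul_vecMulVec, Matrix.trace_vecMulVec,
    dotProduct_comm, smul_eq_mul]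

/-- `a s sᵀ = a t tᵀ` forces `t = ± s` -/
theorem rk1S_inj' {k : ℕ} {a : F} (ha : a ≠ 0) {s t : Fin k → F}
    (h : rk1S a s = rk1S a t) : t = s ∨ t = -s := by
  have h1 : ∀ i j, s i * s j = t i * t j := by
    intro i j
    have h2 := congrArg (fun T : symSub k F => T.1 i j) h
    simp only [rk1S, Matrix.smul_apply, vecMulVec_apply, smul_eq_mul] at h2
    exact mul_left_cancel₀ ha h2
  by_cases hs : s = 0
  · left
    subst hs
    funext i
    have := h1 i i
    simp only [Pi.zero_apply, mul_zero] at this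
    rcases mul_self_eq_zero.1 this.symm with h0
    exact h0
  · obtain ⟨i, hi⟩ : ∃ i, s i ≠ 0 := by
      by_contra hcon
      push Not at hcon
      exact hs (funext hcon)
    have hii := h1 i i
    have hcases : t i = s i ∨ t i = -s i := by
      have : (t i - s i) * (t i + s i) = 0 := by linear_combination -hii
      rcases mul_eq_zero.1 this with h0 | h0
      · left; exact sub_eq_zero.1 h0
      · right; exact eq_neg_of_add_eq_zero_left h0
    rcases hcases with hc | hc
    · left
      funext j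
      have := h1 i j
      rw [hc] at this
      exact (mul_left_cancel₀ hi this).symm
    · right
      funext j
      have := h1 i j
      rw [hc] at this
      rw [Pi.neg_apply]
      have h3 : s i * s j = s i * (-t j) := by rw [this]; ring
      have := mul_left_cancel₀ hi h3
      rw [this, neg_neg]

theorem rk1S_neg' {k : ℕ} (a : F) (s : Fin k → F) : rk1S a (-s) = rk1S a s := by
  apply Subtype.ext
  show a • vecMulVec (-s) (-s) = a • vecMulVec s s
  congr 1
  ext i j
  simp [vecMulVec_apply]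

/-- a non-trivial character of the symmetric matrices sums to zero -/
theorem sum_char_trP (h2 : (2 : F) ≠ 0) {ψ₀ : AddChar F K} (hψ₀ : ψ₀ ≠ 1) {k : ℕ}
    (T : symSub k F) (hT : T ≠ 0) : ∑ S : symSub k F, ψ₀ (trP S T) = 0 := by
  obtain ⟨b, hb⟩ : ∃ b, ψ₀ b ≠ 1 := by
    by_contra hcon
    push Not at hcon
    apply hψ₀
    ext b
    rw [hcon b]; rfl
  obtain ⟨S₁, hS₁⟩ := trP_nondeg h2 T hT
  set S₀ : symSub k F := (b / trP S₁ T) • S₁ with hS₀
  have h1 : trP S₀ T = b := by
    rw [hS₀, map_smul, LinearMap.smul_apply, smul_eq_mul]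
    field_simp
  have h3 : ∑ S : symSub k F, ψ₀ (trP S T) = ψ₀ b * ∑ S : symSub k F, ψ₀ (trP S T) := by
    rw [Finset.mul_sum]
    conv_lhs => rw [← Equiv.sum_comp (Equiv.addRight S₀) (fun S => ψ₀ (trP S T))]
    refine Finset.sum_congr rfl fun S _ => ?_
    rw [Equiv.coe_addRight, map_add, LinearMap.add_apply, h1, AddChar.map_add_eq_mul, mul_comm]
  have h4 : (1 - ψ₀ b) * ∑ S : symSub k F, ψ₀ (trP S T) = 0 := by
    rw [sub_mul, one_mul, ← h3, sub_self]
  rcases mul_eq_zero.mp h4 with h5 | h5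
  · exact absurd (sub_eq_zero.mp h5).symm hb
  · exact h5

/-- the multiplication operators in terms of the trace pairing -/
theorem mS_psiA_apply' (h2 : (2 : F) ≠ 0) (ψ₀ : AddChar F K) (a : F) {k : ℕ} (S : symSub k F)
    (f : (Fin k → F) → K) (t : Fin k → F) :
    mS (psiA ψ₀ a) (2⁻¹ : F) S.1 f t = ψ₀ (trP S (rk1S a t)) * f t := by
  rw [mS_apply, psiA_apply, trP_rk1S']
  congr 2
  have := two_mul_half h2
  linear_combination (a * (t ⬝ᵥ S.1 *ᵥ t)) * this

theorem proj_mem_of_mS_stable (h2 : (2 : F) ≠ 0) {ψ₀ : AddChar F K} (hψ₀ : ψ₀ ≠ 1) {a : F} (ha : a ≠ 0)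
    {k : ℕ} (N : Submodule K ((Fin k → F) → K))
    (hN : ∀ S : symSub k F, ∀ f ∈ N, mS (psiA ψ₀ a) (2⁻¹ : F) S.1 f ∈ N) (f : (Fin k → F) → K)
    (hf : f ∈ N) (s : Fin k → F) :
    (fun t => if t = s ∨ t = -s then f t else 0) ∈ N := by
  classical
  set c : K := (Fintype.card (symSub k F) : K) with hc
  have hc0 : c ≠ 0 := by
    rw [hc]
    exact Nat.cast_ne_zero.2 Fintype.card_ne_zero
  set g : (Fin k → F) → K :=
    c⁻¹ • ∑ S : symSub k F, ψ₀ (-(trP S (rk1S a s))) • mS (psiA ψ₀ a) (2⁻¹ : F) S.1 f with hg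
  have hgN : g ∈ N := by
    rw [hg]
    apply N.smul_mem
    apply N.sum_mem
    intro S _
    exact N.smul_mem _ (hN S f hf)
  have hgf : g = fun t => if t = s ∨ t = -s then f t else 0 := by
    funext t
    rw [hg, Pi.smul_apply, Finset.sum_apply, smul_eq_mul]
    have h1 : ∀ S : symSub k F,
        (ψ₀ (-(trP S (rk1S a s))) • mS (psiA ψ₀ a) (2⁻¹ : F) S.1 f) t =
          ψ₀ (trP S (rk1S a t - rk1S a s)) * f t := by
      intro S
      rw [Pi.smul_apply, smul_eq_mul, mS_psiA_apply' h2, ← mul_assoc, ← AddChar.map_add_eq_mul,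
        map_sub]
      congr 2
      ring
    rw [Finset.sum_congr rfl (fun S _ => h1 S), ← Finset.sum_mul]
    by_cases hts : t = s ∨ t = -s
    · rw [if_pos hts]
      have h0 : rk1S a t - rk1S a s = 0 := by
        rcases hts with rfl | rfl
        · exact sub_self _
        · rw [rk1S_neg', sub_self]
      rw [h0]
      simp only [map_zero, AddChar.map_zero_eq_one, Finset.sum_const, Finset.card_univ,
        nsmul_eq_mul, mul_one]
      rw [← hc, ← mul_assoc, inv_mul_cancel₀ hc0, one_mul]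
    · rw [if_neg hts]
      have h0 : rk1S a t - rk1S a s ≠ 0 := by
        intro h0
        apply hts
        exact rk1S_inj' ha (sub_eq_zero.1 h0).symm
      rw [sum_char_trP h2 hψ₀ _ h0, zero_mul, mul_zero]
  rw [← hgf]
  exact hgN

end Cfsg.Agent.Lib.Helper9_TZW_PROJ
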