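import Mathlib
import Cfsg.Agent.Lib.Helper81_TZW_Defs
import Cfsg.Agent.Lib.Helper81_TZ_W1
import Cfsg.Agent.Lib.Helper9_TZW_PROJ
import Cfsg.Agent.Lib.Helper2_TZ_W2
import Cfsg.Agent.Lib.Helper25_TZ_GEN4
set_option autoImplicit false
set_option linter.unusedVariables false
set_option linter.unusedSectionVars false

/-!
S2524 part W, package SPAN (architect helper81, market `tzw_packages` v2): the common core of the two
irreducibility proofs: a stable subspace containing a function `f` with `f (-t) = ε f t` and `f s ≠ 0`, `s ≠ 0`,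
contains all `δ_t + ε δ_{-t}`, `t ≠ 0`.
-/

namespace Cfsg.Agent.Lib.Helper2_TZW_SPAN
open Matrix Module
open Cfsg.Agent.Lib.Helper5_SpPerfect Cfsg.Agent.Lib.Helper81_SpWeights
  Cfsg.Agent.Lib.Helper81_Heis Cfsg.Agent.Lib.Helper81_WeilLin Cfsg.Agent.Lib.Helper81_Schrodinger
  Cfsg.Agent.Lib.Helper75_TZ Cfsg.Agent.Lib.Helper81_TZW
variable {F : Type*} [Field F] [Fintype F] [DecidableEq F] {K : Type*} [Field K] [IsAlgClosed K]
  [CharZero K]

/-- (GLT, proved locally so that this file only depends on landed files) -/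
theorem exists_GL_inv_transpose_mulVec_eq' {k : ℕ} (s t : Fin k → F) (hs : s ≠ 0) (ht : t ≠ 0) :
    ∃ A : GL (Fin k) F, (A⁻¹.1)ᵀ *ᵥ s = t := by
  obtain ⟨B, hB⟩ := exists_GL_mulVec s t hs ht
  have h1 : (B⁻¹.1)ᵀ * (B.1)ᵀ = 1 := by
    rw [← Matrix.transpose_mul, ← Units.val_mul, mul_inv_cancel, Units.val_one, Matrix.transpose_one]
  have h2 : (B.1)ᵀ * (B⁻¹.1)ᵀ = 1 := by
    rw [← Matrix.transpose_mul, ← Units.val_mul, inv_mul_cancel, Units.val_one, Matrix.transpose_one]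
  refine ⟨⟨(B⁻¹.1)ᵀ, (B.1)ᵀ, h1, h2⟩, ?_⟩
  show (((⟨(B⁻¹.1)ᵀ, (B.1)ᵀ, h1, h2⟩ : GL (Fin k) F)⁻¹ : GL (Fin k) F).1)ᵀ *ᵥ s = t
  rw [Units.inv_mk]
  show ((B.1)ᵀ)ᵀ *ᵥ s = t
  rw [Matrix.transpose_transpose]
  exact hB

/-- `s ≠ -s` for `s ≠ 0` in odd characteristic -/
theorem ne_neg_self (h2 : (2 : F) ≠ 0) {k : ℕ} {s : Fin k → F} (hs : s ≠ 0) : s ≠ -s := by
  intro h
  apply hs
  funext i
  have h1 : s i = -s i := congrFun h i
  have h3 : (2 : F) * s i = 0 := by linear_combination h1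
  rcases mul_eq_zero.mp h3 with h4 | h4
  · exact absurd h4 h2
  · exact h4

/-- the `{s, -s}`-part of an `ε`-symmetric function -/
theorem restrict_eq (h2 : (2 : F) ≠ 0) {k : ℕ} (ε : K) (f : (Fin k → F) → K)
    (hfε : ∀ t, f (-t) = ε * f t) (s : Fin k → F) (hs : s ≠ 0) :
    (fun t => if t = s ∨ t = -s then f t else 0) =
      f s • ((Pi.single s (1 : K) : (Fin k → F) → K) + ε • Pi.single (-s) (1 : K)) := by
  have hne : s ≠ -s := ne_neg_self h2 hs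
  funext u
  rw [Pi.smul_apply, Pi.add_apply, Pi.smul_apply, smul_eq_mul, smul_eq_mul]
  by_cases h1 : u = s
  · subst h1
    rw [if_pos (Or.inl rfl), Pi.single_eq_same, Pi.single_eq_of_ne hne, mul_zero, add_zero, mul_one]
  · by_cases h3 : u = -s
    · subst h3
      rw [if_pos (Or.inr rfl), Pi.single_eq_same, Pi.single_eq_of_ne h1, zero_add, mul_one, hfε, mul_comm]
    · rw [if_neg (by tauto), Pi.single_eq_of_ne h1, Pi.single_eq_of_ne h3, mul_zero, add_zero, mul_zero]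

theorem span_of_stable (ψ₀ : AddChar F K) (hψ₀ : ψ₀ ≠ 1) (h2 : (2 : F) ≠ 0) {a : F} (ha : a ≠ 0) {k : ℕ}
    (N : Submodule K ((Fin k → F) → K)) (hN : ∀ g, ∀ f ∈ N, weilA ψ₀ a k g f ∈ N) (ε : K)
    (f : (Fin k → F) → K) (hf : f ∈ N) (hfε : ∀ t, f (-t) = ε * f t) (s : Fin k → F) (hs : s ≠ 0)
    (hfs : f s ≠ 0) (t : Fin k → F) (ht : t ≠ 0) :
    ((Pi.single t (1 : K) : (Fin k → F) → K) + ε • Pi.single (-t) (1 : K)) ∈ N := by
  have hN' : ∀ S : symSub k F, ∀ f ∈ N, mS (psiA ψ₀ a) (2⁻¹ : F) S.1 f ∈ N := by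
    intro S g hg
    rw [← W1aux.weilA_xs_op ψ₀ hψ₀ h2 ha S]
    exact hN (xs S) g hg
  have h1 := Cfsg.Agent.Lib.Helper9_TZW_PROJ.proj_mem_of_mS_stable h2 hψ₀ ha N hN' f hf s
  rw [restrict_eq h2 ε f hfε s hs] at h1
  have h3 : ((Pi.single s (1 : K) : (Fin k → F) → K) + ε • Pi.single (-s) (1 : K)) ∈ N := by
    have := N.smul_mem (f s)⁻¹ h1
    rwa [smul_smul, inv_mul_cancel₀ hfs, one_smul] at this
  obtain ⟨A, hA⟩ := exists_GL_inv_transpose_mulVec_eq' s t hs ht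
  have h4 := hN (lgH A) _ h3
  rw [map_add, map_smul, W2aux.weilA_lgH_single ψ₀ hψ₀ h2 ha A s, W2aux.weilA_lgH_single ψ₀ hψ₀ h2 ha A (-s),
    Matrix.mulVec_neg, hA, smul_comm ε, ← smul_add] at h4
  have := N.smul_mem (cA ψ₀ a k A)⁻¹ h4
  rwa [smul_smul, inv_mul_cancel₀ (cA_ne_zero ψ₀ hψ₀ h2 ha A), one_smul] at this

end Cfsg.Agent.Lib.Helper2_TZW_SPAN
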