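import Mathlib
import Cfsg.Agent.Lib.Helper81_TZW_Defs

/-!
S2524 Part W, tool package JCONST (helper9, for helper81): the Weil operator of the Weyl element `J`
maps `δ₀` to a non-zero constant `c`, and `δ_x` to `c • (t ↦ ψ (x·t))`.
-/

set_option autoImplicit false
set_option linter.unusedSectionVars false

namespace Cfsg.Agent.Lib.Helper9_TZW_JCONST

open Matrix Module
open Cfsg.Agent.Lib.Helper5_SpPerfect Cfsg.Agent.Lib.Helper81_SpWeights
  Cfsg.Agent.Lib.Helper81_Heis Cfsg.Agent.Lib.Helper81_WeilLin Cfsg.Agent.Lib.Helper81_Schrodinger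
  Cfsg.Agent.Lib.Helper75_TZ Cfsg.Agent.Lib.Helper81_TZW

variable {F : Type*} [Field F] [Fintype F] [DecidableEq F] {K : Type*} [Field K] [IsAlgClosed K] [CharZero K]

/-- `hs (y ; x) = hsXY x y` -/
theorem hs_elim (ψ : AddChar F K) (h : F) {k : ℕ} (x y : Fin k → F) :
    (hs ψ h (Sum.elim y x) : Module.End K ((Fin k → F) → K)) = hsXY ψ h x y := by
  unfold hs
  rw [Sum.elim_comp_inr, Sum.elim_comp_inl]

/-- `J (y ; x) = (-x ; y)` -/
theorem J_mulVec_elim {k : ℕ} (x y : Fin k → F) :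
    (J (Fin k) F) *ᵥ (Sum.elim y x) = Sum.elim (-x) y := by
  unfold J
  rw [Matrix.fromBlocks_mulVec, Sum.elim_comp_inr, Sum.elim_comp_inl]
  rw [Matrix.zero_mulVec, Matrix.zero_mulVec, Matrix.one_mulVec, Matrix.neg_mulVec,
    Matrix.one_mulVec, zero_add, add_zero]

/-- the intertwining relation for `J`: `ω(J) hsXY(x,y) = hsXY(y,-x) ω(J)` -/
theorem weilA_J_int (ψ₀ : AddChar F K) (hψ₀ : ψ₀ ≠ 1) (h2 : (2 : F) ≠ 0) {a : F} (ha : a ≠ 0) (k : ℕ)
    (x y : Fin k → F) :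
    weilA ψ₀ a k (Jg k) * hsXY (psiA ψ₀ a) (2⁻¹ : F) x y =
      hsXY (psiA ψ₀ a) (2⁻¹ : F) y (-x) * weilA ψ₀ a k (Jg k) := by
  have := weilA_int ψ₀ hψ₀ h2 ha k (Jg k) (Sum.elim y x)
  rw [Jg_val, J_mulVec_elim, hs_elim, hs_elim] at this
  exact this

theorem weilA_J_single (ψ₀ : AddChar F K) (hψ₀ : ψ₀ ≠ 1) (h2 : (2 : F) ≠ 0) {a : F} (ha : a ≠ 0) (k : ℕ) :
    ∃ c : K, c ≠ 0 ∧ ∃ ε : F, (ε = 1 ∨ ε = -1) ∧ ∀ x t : Fin k → F,
      weilA ψ₀ a k (Jg k) (Pi.single x 1) t = c * psiA ψ₀ a (ε * (x ⬝ᵥ t)) := by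
  set ω := weilA ψ₀ a k (Jg k) with hω
  set ψ := psiA ψ₀ a with hψ
  have hh : (2⁻¹ : F) + 2⁻¹ = 1 := half_add h2
  set δ₀ : (Fin k → F) → K := Pi.single 0 1 with hδ₀
  set φ := ω δ₀ with hφ
  -- `δ₀` is fixed by the modulations
  have hmod : ∀ y : Fin k → F, hsXY ψ (2⁻¹ : F) 0 y δ₀ = δ₀ := by
    intro y
    rw [hδ₀, hsXY_single ψ _ hh]
    simp
  -- so `φ` is fixed by the translations
  have htr : ∀ y : Fin k → F, hsXY ψ (2⁻¹ : F) y 0 φ = φ := by
    intro y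
    have h1 := congrArg (fun T : Module.End K ((Fin k → F) → K) => T δ₀)
      (weilA_J_int ψ₀ hψ₀ h2 ha k 0 y)
    simp only [Module.End.mul_apply] at h1
    rw [hmod y, neg_zero] at h1
    exact h1.symm
  have hconst : ∀ t : Fin k → F, φ t = φ 0 := by
    intro t
    have h1 := congrFun (htr t) 0
    rw [hsXY_apply] at h1
    simp only [dotProduct_zero, mul_zero, add_zero, zero_add,
      AddChar.map_zero_eq_one, one_mul] at h1
    exact h1
  have hφ0 : φ 0 ≠ 0 := by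
    intro h0
    have hφz : φ = 0 := by
      funext t
      rw [hconst t, h0]
      rfl
    obtain ⟨u, hu⟩ := weilA_isUnit ψ₀ a k (Jg k)
    have hinj : Function.Injective ω := by
      intro v w hvw
      have h1 : (↑u⁻¹ : Module.End K ((Fin k → F) → K)) (ω v) = (↑u⁻¹ : Module.End K _) (ω w) := by
        rw [hvw]
      have h2 : ∀ z, (↑u⁻¹ : Module.End K ((Fin k → F) → K)) (ω z) = z := by
        intro z
        rw [hω, ← hu, ← Module.End.mul_apply, Units.inv_mul]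
        rfl
      rwa [h2, h2] at h1
    have hδz : δ₀ = 0 := hinj (by rw [← hφ, hφz, map_zero])
    have := congrFun hδz 0
    rw [hδ₀, Pi.single_eq_same] at this
    exact one_ne_zero this
  refine ⟨φ 0, hφ0, 1, Or.inl rfl, ?_⟩
  intro x t
  have hδx : (Pi.single x 1 : (Fin k → F) → K) = hsXY ψ (2⁻¹ : F) (-x) 0 δ₀ := by
    rw [hδ₀, hsXY_single ψ _ hh]
    simp
  rw [hδx]
  have h1 := congrArg (fun T : Module.End K ((Fin k → F) → K) => T δ₀)
    (weilA_J_int ψ₀ hψ₀ h2 ha k (-x) 0)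
  simp only [Module.End.mul_apply] at h1
  rw [h1, neg_neg, hsXY_apply]
  simp only [zero_dotProduct, mul_zero, zero_add, add_zero, one_mul]
  rw [← hφ, hconst t, mul_comm]

end Cfsg.Agent.Lib.Helper9_TZW_JCONST
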