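import Mathlib
import Cfsg.Agent.Lib.Helper75_TZDefs
import Cfsg.Agent.Lib.Helper81_TZW_Defs
import Cfsg.Agent.Lib.Helper81_TZ_W1
import Cfsg.Agent.Lib.Helper9_TZW_PROJ
import Cfsg.Agent.Lib.Helper9_TZW_JCONST
import Cfsg.Agent.Lib.Helper2_TZW_SPAN
set_option autoImplicit false
set_option linter.unusedVariables false
set_option linter.unusedSectionVars false

/-!
S2524, package W4b (architect helper75; sub-architect helper81, market `tzw_packages` v2): the even part of the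
Weil module is irreducible (`k ≥ 1`).
-/

namespace Cfsg.Agent.Lib.Helper75_TZ
open Matrix Module
open Cfsg.Agent.Lib.Helper5_SpPerfect Cfsg.Agent.Lib.Helper81_SpWeights Cfsg.Agent.Lib.Helper81_JointEigen
  Cfsg.Agent.Lib.Helper81_Heis Cfsg.Agent.Lib.Helper81_WeilLin Cfsg.Agent.Lib.Helper81_Schrodinger
open Cfsg.Agent.Lib.Helper81_TZW

variable {F : Type*} [Field F] [Fintype F] [DecidableEq F] {K : Type*} [Field K] [IsAlgClosed K]
  [CharZero K] {k : ℕ}

namespace W4baux

/-- `δ_t + δ_{-t}` is even -/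
theorem dadd_mem (t : Fin k → F) :
    ((Pi.single t (1 : K) : (Fin k → F) → K) + (1 : K) • Pi.single (-t) (1 : K)) ∈
      funP k F K false := by
  rw [mem_funP_false]
  intro u
  simp only [Pi.add_apply, Pi.smul_apply, smul_eq_mul, Pi.single_apply]
  have e1 : (-u = t) ↔ (u = -t) := neg_eq_iff_eq_neg
  have e2 : (-u = -t) ↔ (u = t) := neg_inj
  simp only [e1, e2]
  split_ifs <;> ring

/-- `δ₀` is even -/
theorem dzero_mem : (Pi.single 0 (1 : K) : (Fin k → F) → K) ∈ funP k F K false := by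
  rw [mem_funP_false]
  intro u
  simp only [Pi.single_apply]
  have e1 : (-u = 0) ↔ (u = 0) := neg_eq_zero
  simp only [e1]

/-- an even function is a combination of the `δ_t + δ_{-t}` -/
theorem even_eq_sum (g : (Fin k → F) → K) (hg : ∀ t, g (-t) = g t) :
    g = (2 : K)⁻¹ • ∑ t : Fin k → F, g t •
      ((Pi.single t (1 : K) : (Fin k → F) → K) + (1 : K) • Pi.single (-t) (1 : K)) := by
  funext u
  rw [Pi.smul_apply, Finset.sum_apply, smul_eq_mul]
  have h1 : ∀ t : Fin k → F, ((g t • ((Pi.single t (1 : K) : (Fin k → F) → K) +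
      (1 : K) • (Pi.single (-t) (1 : K) : (Fin k → F) → K)) : (Fin k → F) → K) u) =
      (if u = t then g t else 0) + (if u = -t then g t else 0) := by
    intro t
    simp only [Pi.add_apply, Pi.smul_apply, smul_eq_mul, Pi.single_apply]
    split_ifs <;> ring
  rw [Finset.sum_congr rfl (fun t _ => h1 t), Finset.sum_add_distrib,
    Finset.sum_ite_eq Finset.univ u, if_pos (Finset.mem_univ u)]
  have h3 : ∑ t : Fin k → F, (if u = -t then g t else 0) = g (-u) := by
    rw [Finset.sum_eq_single (-u)]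
    · rw [neg_neg, if_pos rfl]
    · intro t _ ht
      rw [if_neg]
      intro e
      exact ht (by rw [e, neg_neg])
    · intro h
      exact absurd (Finset.mem_univ _) h
  rw [h3, hg u]
  have h4 : (2 : K) ≠ 0 := two_ne_zero
  field_simp
  ring

/-- a non-zero vector for `k ≥ 1` -/
theorem exists_ne_zero (hk : 1 ≤ k) : ∃ x : Fin k → F, x ≠ 0 := by
  refine ⟨Pi.single ⟨0, by omega⟩ 1, ?_⟩
  intro h
  have := congrFun h ⟨0, by omega⟩
  simp at this

/-- the core: a non-zero stable subspace of functions containing a non-zero even function contains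
`δ₀` and all `δ_t + δ_{-t}` -/
theorem core (ψ₀ : AddChar F K) (hψ₀ : ψ₀ ≠ 1) (h2 : (2 : F) ≠ 0) {a : F} (ha : a ≠ 0) (hk : 1 ≤ k)
    (N' : Submodule K ((Fin k → F) → K)) (hstab : ∀ g, ∀ f ∈ N', weilA ψ₀ a k g f ∈ N')
    (f : (Fin k → F) → K) (hf : f ∈ N') (hfe : ∀ t, f (-t) = f t) (hf0 : f ≠ 0) :
    (Pi.single 0 (1 : K) : (Fin k → F) → K) ∈ N' ∧ ∀ t : Fin k → F, t ≠ 0 →
      ((Pi.single t (1 : K) : (Fin k → F) → K) + (1 : K) • Pi.single (-t) (1 : K)) ∈ N' := by
  obtain ⟨c, hc, ε, hε, hJ⟩ := Cfsg.Agent.Lib.Helper9_TZW_JCONST.weilA_J_single (K := K) ψ₀ hψ₀ h2 ha k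
  obtain ⟨x, hx⟩ := exists_ne_zero (F := F) hk
  -- Case A for some function
  have hA : ∃ f' : (Fin k → F) → K, f' ∈ N' ∧ (∀ t, f' (-t) = f' t) ∧ ∃ s, s ≠ 0 ∧ f' s ≠ 0 := by
    by_cases hcase : ∃ s, s ≠ 0 ∧ f s ≠ 0
    · exact ⟨f, hf, hfe, hcase⟩
    · push Not at hcase
      have hf00 : f 0 ≠ 0 := by
        intro h0
        apply hf0
        funext t
        by_cases ht : t = 0
        · rw [ht, h0]; rfl
        · exact hcase t ht
      have hfd : f = f 0 • (Pi.single 0 (1 : K) : (Fin k → F) → K) := by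
        funext t
        rw [Pi.smul_apply, smul_eq_mul]
        by_cases ht : t = 0
        · rw [ht, Pi.single_eq_same, mul_one]
        · rw [Pi.single_eq_of_ne ht, mul_zero]
          exact hcase t ht
      have hd0 : (Pi.single 0 (1 : K) : (Fin k → F) → K) ∈ N' := by
        have := N'.smul_mem (f 0)⁻¹ hf
        rw [hfd, Pi.smul_apply, Pi.single_eq_same, smul_eq_mul, mul_one, smul_smul,
          inv_mul_cancel₀ hf00, one_smul] at this
        exact this
      have hφ := hstab (Jg k) _ hd0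
      have hφc : ∀ t, weilA ψ₀ a k (Jg k) (Pi.single 0 (1 : K)) t = c := by
        intro t
        rw [hJ 0 t, zero_dotProduct, mul_zero, AddChar.map_zero_eq_one, mul_one]
      refine ⟨_, hφ, fun t => by rw [hφc, hφc], x, hx, by rw [hφc]; exact hc⟩
  obtain ⟨f', hf', hfe', s, hs, hfs⟩ := hA
  have hall : ∀ t : Fin k → F, t ≠ 0 →
      ((Pi.single t (1 : K) : (Fin k → F) → K) + (1 : K) • Pi.single (-t) (1 : K)) ∈ N' := by
    intro t ht
    exact Cfsg.Agent.Lib.Helper2_TZW_SPAN.span_of_stable ψ₀ hψ₀ h2 ha N' hstab 1 f' hf'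
      (fun u => by rw [hfe' u, one_mul]) s hs hfs t ht
  refine ⟨?_, hall⟩
  -- `δ₀ ∈ N'`
  have hg := hstab (Jg k) _ (hall x hx)
  set g : (Fin k → F) → K := weilA ψ₀ a k (Jg k)
    ((Pi.single x (1 : K) : (Fin k → F) → K) + (1 : K) • Pi.single (-x) (1 : K)) with hgdef
  have hg0 : g 0 = 2 * c := by
    rw [hgdef, map_add, map_smul, Pi.add_apply, Pi.smul_apply, hJ x 0, hJ (-x) 0, dotProduct_zero,
      dotProduct_zero, mul_zero, AddChar.map_zero_eq_one, mul_one, one_smul]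
    ring
  have hN'' : ∀ S : symSub k F, ∀ f ∈ N', mS (psiA ψ₀ a) (2⁻¹ : F) S.1 f ∈ N' := by
    intro S g hg
    rw [← W1aux.weilA_xs_op ψ₀ hψ₀ h2 ha S]
    exact hstab (xs S) g hg
  have h1 := Cfsg.Agent.Lib.Helper9_TZW_PROJ.proj_mem_of_mS_stable h2 hψ₀ ha N' hN'' g hg 0
  have h3 : (fun t : Fin k → F => if t = 0 ∨ t = -0 then g t else 0) =
      (2 * c) • (Pi.single 0 (1 : K) : (Fin k → F) → K) := by
    funext t
    rw [Pi.smul_apply, smul_eq_mul, neg_zero]
    by_cases ht : t = 0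
    · rw [if_pos (Or.inl ht), ht, Pi.single_eq_same, mul_one, hg0]
    · rw [if_neg (by tauto), Pi.single_eq_of_ne ht, mul_zero]
  rw [h3] at h1
  have h2c : (2 * c : K) ≠ 0 := mul_ne_zero two_ne_zero hc
  have := N'.smul_mem (2 * c)⁻¹ h1
  rwa [smul_smul, inv_mul_cancel₀ h2c, one_smul] at this

end W4baux

theorem weilP_irr_even (ψ₀ : AddChar F K) (hψ₀ : ψ₀ ≠ 1) (h2 : (2 : F) ≠ 0) {a : F} (ha : a ≠ 0)
    (hk : 1 ≤ k) : IrrRep (weilP ψ₀ hψ₀ h2 a ha k false) := by
  refine ⟨?_, ?_⟩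
  · -- nontrivial
    refine ⟨⟨⟨_, W4baux.dzero_mem (F := F) (K := K) (k := k)⟩, 0, ?_⟩⟩
    intro h
    have h1 := congrArg (fun f : funP k F K false => (f : (Fin k → F) → K) 0) h
    simp only [Pi.single_eq_same, ZeroMemClass.coe_zero, Pi.zero_apply] at h1
    exact one_ne_zero h1
  · intro N hN
    by_cases hbot : N = ⊥
    · exact Or.inl hbot
    right
    set N' : Submodule K ((Fin k → F) → K) := N.map (funP k F K false).subtype with hN'
    have hstab : ∀ g, ∀ f ∈ N', weilA ψ₀ a k g f ∈ N' := by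
      intro g f hf
      obtain ⟨y, hy, rfl⟩ := Submodule.mem_map.mp hf
      refine Submodule.mem_map.mpr ⟨weilP ψ₀ hψ₀ h2 a ha k false g y, hN g y hy, ?_⟩
      rfl
    obtain ⟨y, hy, hy0⟩ := (Submodule.ne_bot_iff N).mp hbot
    have hyev : ∀ t, y.1 (-t) = y.1 t := (mem_funP_false y.1).mp y.2
    have hy1 : y.1 ≠ 0 := fun h => hy0 (Subtype.ext h)
    have hyN' : y.1 ∈ N' := Submodule.mem_map.mpr ⟨y, hy, rfl⟩
    obtain ⟨hd0, hall⟩ := W4baux.core ψ₀ hψ₀ h2 ha hk N' hstab y.1 hyN' hyev hy1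
    rw [eq_top_iff]
    intro z _
    have hzev : ∀ t, z.1 (-t) = z.1 t := (mem_funP_false z.1).mp z.2
    have hzN' : z.1 ∈ N' := by
      rw [W4baux.even_eq_sum z.1 hzev]
      apply Submodule.smul_mem
      apply Submodule.sum_mem
      intro t _
      by_cases ht : t = 0
      · rw [ht, neg_zero, one_smul]
        exact Submodule.smul_mem _ _ (Submodule.add_mem _ hd0 hd0)
      · exact Submodule.smul_mem _ _ (hall t ht)
    obtain ⟨w, hw, hwz⟩ := Submodule.mem_map.mp hzN'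
    have : w = z := Subtype.ext hwz
    rwa [this] at hw

end Cfsg.Agent.Lib.Helper75_TZ
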