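import Mathlib
import Cfsg.Agent.Lib.Helper81_TZW_Defs

/-!
# S2524 part W (architect helper81), package WTFUN: the weight spaces of the multiplication
operators `mS S` on all functions
-/

set_option autoImplicit false
set_option linter.unusedSectionVars false
namespace Cfsg.Agent.Lib.Helper42_TZW_WTFUN
open Matrix Module
open Cfsg.Agent.Lib.Helper5_SpPerfect Cfsg.Agent.Lib.Helper81_SpWeights
  Cfsg.Agent.Lib.Helper81_Heis Cfsg.Agent.Lib.Helper81_WeilLin Cfsg.Agent.Lib.Helper81_Schrodinger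
  Cfsg.Agent.Lib.Helper75_TZ Cfsg.Agent.Lib.Helper81_TZW
variable {F : Type*} [Field F] [Fintype F] [DecidableEq F] {K : Type*} [Field K] [IsAlgClosed K]
  [CharZero K]

theorem trP_rk1S {k : ℕ} (a : F) (S : symSub k F) (t : Fin k → F) :
    trP S (rk1S a t) = a * (t ⬝ᵥ S.1 *ᵥ t) := by
  rw [trP_apply]
  show Matrix.trace (S.1 * (a • vecMulVec t t)) = a * (t ⬝ᵥ S.1 *ᵥ t)
  rw [Matrix.mul_smul, Matrix.trace_smul, Matrix.mul_vecMulVec, Matrix.trace_vecMulVec,
    dotProduct_comm, smul_eq_mul]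

theorem mS_psiA_apply (h2 : (2 : F) ≠ 0) (ψ₀ : AddChar F K) (a : F) {k : ℕ} (S : symSub k F)
    (f : (Fin k → F) → K) (t : Fin k → F) :
    mS (psiA ψ₀ a) (2⁻¹ : F) S.1 f t = ψ₀ (trP S (rk1S a t)) * f t := by
  rw [mS_apply, psiA_apply, trP_rk1S]
  congr 2
  have h := two_mul_half (F := F) h2
  linear_combination (a * (t ⬝ᵥ S.1 *ᵥ t)) * h

theorem mS_weight_iff (h2 : (2 : F) ≠ 0) {ψ₀ : AddChar F K} (hψ₀ : ψ₀ ≠ 1) (a : F) {k : ℕ}
    (T : symSub k F) (f : (Fin k → F) → K) :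
    (∀ S : symSub k F, mS (psiA ψ₀ a) (2⁻¹ : F) S.1 f = ψ₀ (trP S T) • f) ↔
      ∀ t, f t ≠ 0 → T = rk1S a t := by
  constructor
  · intro h t ht
    have hψne : ∃ x, ψ₀ x ≠ 1 := (AddChar.ne_one_iff).mp hψ₀
    have hinj := Cfsg.Agent.Lib.Helper81_AddCharDual.pairing_injective (K := K)
      (W := symSub k F) (W' := symSub k F) (fun x => ψ₀ x)
      (AddChar.map_zero_eq_one ψ₀) (fun x y => AddChar.map_add_eq_mul ψ₀ x y) hψne
      (trP (n := k) (F := F)) (trP_nondeg h2)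
    symm
    apply hinj
    funext S
    have h1 := congrFun (h S) t
    rw [mS_psiA_apply h2, Pi.smul_apply, smul_eq_mul] at h1
    exact mul_right_cancel₀ ht h1
  · intro h S
    funext t
    rw [mS_psiA_apply h2, Pi.smul_apply, smul_eq_mul]
    by_cases ht : f t = 0
    · rw [ht, mul_zero, mul_zero]
    · rw [← h t ht]

end Cfsg.Agent.Lib.Helper42_TZW_WTFUN
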