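import Mathlib
import Cfsg.Agent.Lib.Helper81_TZW_Defs
import Cfsg.Agent.Lib.Helper2_TZ_W2

set_option autoImplicit false

/-!
# S2524, package W3: `ω_a (-1) = κ • par`, `κ² = 1` (helper81)
-/

namespace Cfsg.Agent.Lib.Helper75_TZ

open Matrix Module
open Cfsg.Agent.Lib.Helper5_SpPerfect Cfsg.Agent.Lib.Helper81_SpWeights
  Cfsg.Agent.Lib.Helper81_JointEigen Cfsg.Agent.Lib.Helper81_Heis Cfsg.Agent.Lib.Helper81_WeilLin
  Cfsg.Agent.Lib.Helper81_Schrodinger Cfsg.Agent.Lib.Helper81_TZW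

variable {F : Type*} [Field F] [Fintype F] [DecidableEq F] {K : Type*} [Field K] [IsAlgClosed K]
  [CharZero K] {k : ℕ}

namespace W3aux

theorem negOne_eq_lgH' : (negOne : SpG k F) = lgH (-1 : GL (Fin k) F) := by
  apply Subtype.ext
  rw [lgH_val]
  show (-1 : Matrix (Fin k ⊕ Fin k) (Fin k ⊕ Fin k) F) = _
  rw [inv_neg, inv_one, Units.val_neg, Units.val_one, Matrix.transpose_neg, Matrix.transpose_one,
    ← Matrix.fromBlocks_one, Matrix.fromBlocks_neg]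
  simp

theorem subA_neg_one :
    (subA ((-1 : GL (Fin k) F)).1 : Module.End K ((Fin k → F) → K)) = par k F K := by
  apply LinearMap.ext
  intro f
  funext t
  rw [subA_apply, par_apply, Units.val_neg, Units.val_one, Matrix.transpose_neg,
    Matrix.transpose_one, Matrix.neg_mulVec, Matrix.one_mulVec]

theorem kap_eq_cA (ψ₀ : AddChar F K) (a : F) : kap ψ₀ a k = cA ψ₀ a k (-1 : GL (Fin k) F) := by
  unfold kap cA
  rw [negOne_eq_lgH']

theorem cA_one (ψ₀ : AddChar F K) (a : F) : cA ψ₀ a k (1 : GL (Fin k) F) = 1 := by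
  unfold cA
  rw [map_one, map_one, Module.End.one_apply, Pi.single_eq_same]

end W3aux

/-- PACKAGE W3: `ω (-1) = κ • par`, `κ² = 1` -/
theorem weilA_negOne (ψ₀ : AddChar F K) (hψ₀ : ψ₀ ≠ 1) (h2 : (2 : F) ≠ 0) {a : F} (ha : a ≠ 0) :
    weilA ψ₀ a k negOne = kap ψ₀ a k • par k F K := by
  rw [W3aux.kap_eq_cA, W3aux.negOne_eq_lgH', W2aux.weilA_lgH_op ψ₀ hψ₀ h2 ha, W3aux.subA_neg_one]

theorem kap_sq (ψ₀ : AddChar F K) (hψ₀ : ψ₀ ≠ 1) (h2 : (2 : F) ≠ 0) {a : F} (ha : a ≠ 0) :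
    kap ψ₀ a k * kap ψ₀ a k = 1 := by
  rw [W3aux.kap_eq_cA, ← cA_mul ψ₀ hψ₀ h2 ha, neg_mul_neg, one_mul, W3aux.cA_one]

end Cfsg.Agent.Lib.Helper75_TZ
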