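import Mathlib
import Cfsg.Agent.Lib.Helper75_TZDefs

/-!
# S2524 (architect helper75; Part W sub-architect helper81), package W4c (helper95)

Dimensions of the even and odd functions on `F^k`.
-/

set_option autoImplicit false

namespace Cfsg.Agent.Lib.Helper75_TZ

open Matrix Module
open Cfsg.Agent.Lib.Helper5_SpPerfect Cfsg.Agent.Lib.Helper81_SpWeights
  Cfsg.Agent.Lib.Helper81_JointEigen Cfsg.Agent.Lib.Helper81_Heis Cfsg.Agent.Lib.Helper81_WeilLin
  Cfsg.Agent.Lib.Helper81_Schrodinger

variable {F : Type*} [Field F] [Fintype F] [DecidableEq F] {K : Type*} [Field K] [IsAlgClosed K]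
  [CharZero K] {k : ℕ}

/-- PACKAGE W4c: dimensions -/
theorem finrank_funP (hodd : Odd (Fintype.card F)) (p : Bool) :
    2 * finrank K (funP k F K p) + (if p then 1 else 0) = Fintype.card F ^ k + (if p then 0 else 1) := by
  have h2 : (2 : F) ≠ 0 := two_ne_zero_of_odd hodd
  have h1 : 2 * finrank K (Wm (par k F K)) + 1 = finrank K ((Fin k → F) → K) :=
    finrank_add_eq (J := par k F K) par_mul_par (trace_par h2)
  have h3 : finrank K (Wp (par k F K)) = finrank K (Wm (par k F K)) + 1 :=
    finrank_Wp_eq (J := par k F K) par_mul_par (trace_par h2)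
  rw [Module.finrank_fintype_fun_eq_card, Fintype.card_fun, Fintype.card_fin] at h1
  have e0 : funP k F K false = Wp (par k F K) := rfl
  have e1 : funP k F K true = Wm (par k F K) := rfl
  cases p
  · rw [e0]
    simp only [Bool.false_eq_true, if_false]
    omega
  · rw [e1]
    simp only [if_true]
    omega

end Cfsg.Agent.Lib.Helper75_TZ
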