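import Mathlib
import Cfsg.Agent.Lib.Helper81_TZW_Defs
import Cfsg.Agent.Lib.Helper25_TZ_GEN4
import Cfsg.Agent.Lib.Helper2_TZW_TAU
import Cfsg.Agent.Lib.Helper2_TZ_W2
import Cfsg.Agent.Lib.Helper42_TZW_WTFUN
import Cfsg.Agent.Lib.Helper9_TZW_PROJ
import Cfsg.Agent.Lib.Helper9_TZW_JCONST
import Cfsg.Agent.Lib.Helper95_TZ_W4c
import Cfsg.Agent.Lib.Helper81_TZ_W1
import Cfsg.Agent.Lib.Helper81_TZ_W3

/-!
# S2524 Part W: the tools assembled (helper81)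

All tool statements of `pending/helper81/S2524_W_packages.lean.txt` (v2) in the namespace
`Cfsg.Agent.Lib.Helper81_TZW`, re-exported from the package files (helper2: TAU, W2; helper42: WTFUN; helper9: PROJ,
JCONST; helper95: W4c; helper25: GEN4), plus VV / GLT proved here.  The deliverables W1, W2, W3, W4c
(`weilA_xs`, `weilA_lgH`, `cA_mul`, `cA_ne_zero`, `weilA_negOne`, `kap_sq`, `finrank_funP`) are available in the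
namespace `Cfsg.Agent.Lib.Helper75_TZ` through the imports.  `span_of_stable` is in `Helper81_TZW_W1S`.
-/

set_option autoImplicit false

namespace Cfsg.Agent.Lib.Helper81_TZW

open Matrix Module
open Cfsg.Agent.Lib.Helper5_SpPerfect Cfsg.Agent.Lib.Helper81_SpWeights
  Cfsg.Agent.Lib.Helper81_Heis Cfsg.Agent.Lib.Helper81_WeilLin Cfsg.Agent.Lib.Helper81_Schrodinger
  Cfsg.Agent.Lib.Helper75_TZ

variable {F : Type*} [Field F] [Fintype F] [DecidableEq F] {K : Type*} [Field K] [IsAlgClosed K]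
  [CharZero K]

/-! ### TAU -/

theorem detp_eq_detm_of_diag (h2 : (2 : F) ≠ 0) (k : ℕ) (d : (Fin k → F) → K)
    (hd : ∀ t, d (-t) = d t) (hd0 : d 0 = 1) (T : Module.End K ((Fin k → F) → K))
    (hT : ∀ f t, T f t = d t * f t) (hc : Commute T (par k F K)) :
    detp T hc = detm T hc :=
  Cfsg.Agent.Lib.Helper2_TZW_TAU.detp_eq_detm_of_diag h2 k d hd hd0 T hT hc

/-! ### W2 (operator forms) -/

theorem subA_int (ψ : AddChar F K) (h : F) {k : ℕ} (A : GL (Fin k) F) (u : Fin k ⊕ Fin k → F) :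
    (subA A.1 : Module.End K ((Fin k → F) → K)) * hs ψ h u = hs ψ h ((lgH A).1 *ᵥ u) * subA A.1 :=
  W2aux.subA_int ψ h A u

theorem weilA_lgH_op (ψ₀ : AddChar F K) (hψ₀ : ψ₀ ≠ 1) (h2 : (2 : F) ≠ 0) {a : F} (ha : a ≠ 0) {k : ℕ}
    (A : GL (Fin k) F) :
    weilA ψ₀ a k (lgH A) = cA ψ₀ a k A • (subA A.1 : Module.End K ((Fin k → F) → K)) :=
  W2aux.weilA_lgH_op ψ₀ hψ₀ h2 ha A

theorem weilA_lgH_apply (ψ₀ : AddChar F K) (hψ₀ : ψ₀ ≠ 1) (h2 : (2 : F) ≠ 0) {a : F} (ha : a ≠ 0) {k : ℕ}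
    (A : GL (Fin k) F) (f : (Fin k → F) → K) (t : Fin k → F) :
    weilA ψ₀ a k (lgH A) f t = cA ψ₀ a k A * f (A.1ᵀ *ᵥ t) :=
  W2aux.weilA_lgH_apply ψ₀ hψ₀ h2 ha A f t

theorem weilA_lgH_single (ψ₀ : AddChar F K) (hψ₀ : ψ₀ ≠ 1) (h2 : (2 : F) ≠ 0) {a : F} (ha : a ≠ 0) {k : ℕ}
    (A : GL (Fin k) F) (s : Fin k → F) :
    weilA ψ₀ a k (lgH A) (Pi.single s 1) =
      cA ψ₀ a k A • (Pi.single ((A⁻¹.1)ᵀ *ᵥ s) (1 : K) : (Fin k → F) → K) :=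
  W2aux.weilA_lgH_single ψ₀ hψ₀ h2 ha A s

/-! ### VV -/

theorem rk1S_inj (h2 : (2 : F) ≠ 0) {k : ℕ} {a : F} (ha : a ≠ 0) {s t : Fin k → F}
    (h : rk1S a s = rk1S a t) : t = s ∨ t = -s :=
  Cfsg.Agent.Lib.Helper9_TZW_PROJ.rk1S_inj' ha h

theorem vecMulVec_self_inj (h2 : (2 : F) ≠ 0) {k : ℕ} {s t : Fin k → F}
    (h : vecMulVec s s = vecMulVec t t) : t = s ∨ t = -s := by
  apply rk1S_inj h2 (one_ne_zero : (1 : F) ≠ 0)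
  apply Subtype.ext
  show (1 : F) • vecMulVec s s = (1 : F) • vecMulVec t t
  rw [h]

theorem rk1S_neg {k : ℕ} (a : F) (s : Fin k → F) : rk1S a (-s) = rk1S a s :=
  Cfsg.Agent.Lib.Helper9_TZW_PROJ.rk1S_neg' a s

theorem Ta_eq_rk1S {m : ℕ} (a : F) : (Ta a : symSub (m + 1) F) = rk1S a e0 := by
  apply Subtype.ext
  show Matrix.single 0 0 a = a • vecMulVec (e0 : Fin (m + 1) → F) e0
  ext i j
  unfold e0
  rw [Matrix.smul_apply, vecMulVec_apply, Matrix.single_apply, smul_eq_mul]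
  by_cases hi : i = 0
  · by_cases hj : j = 0
    · subst hi; subst hj; simp
    · subst hi
      rw [Pi.single_eq_of_ne hj, mul_zero, mul_zero, if_neg]
      intro h; exact hj h.2.symm
  · rw [Pi.single_eq_of_ne hi, zero_mul, mul_zero, if_neg]
    intro h; exact hi h.1.symm

/-! ### GLT -/

theorem exists_GL_inv_transpose_mulVec_eq {k : ℕ} (s t : Fin k → F) (hs : s ≠ 0) (ht : t ≠ 0) :
    ∃ A : GL (Fin k) F, (A⁻¹.1)ᵀ *ᵥ s = t := by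
  obtain ⟨B, hB⟩ := exists_GL_mulVec s t hs ht
  refine ⟨⟨(B⁻¹.1)ᵀ, (B.1)ᵀ, ?_, ?_⟩, ?_⟩
  · rw [← Matrix.transpose_mul, ← Units.val_mul, mul_inv_cancel, Units.val_one, Matrix.transpose_one]
  · rw [← Matrix.transpose_mul, ← Units.val_mul, inv_mul_cancel, Units.val_one, Matrix.transpose_one]
  · show ((B.1)ᵀ)ᵀ *ᵥ s = t
    rw [Matrix.transpose_transpose]
    exact hB

/-! ### WTFUN -/

theorem trP_rk1S {k : ℕ} (a : F) (S : symSub k F) (t : Fin k → F) :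
    trP S (rk1S a t) = a * (t ⬝ᵥ S.1 *ᵥ t) :=
  Cfsg.Agent.Lib.Helper42_TZW_WTFUN.trP_rk1S a S t

theorem mS_psiA_apply (h2 : (2 : F) ≠ 0) (ψ₀ : AddChar F K) (a : F) {k : ℕ} (S : symSub k F)
    (f : (Fin k → F) → K) (t : Fin k → F) :
    mS (psiA ψ₀ a) (2⁻¹ : F) S.1 f t = ψ₀ (trP S (rk1S a t)) * f t :=
  Cfsg.Agent.Lib.Helper42_TZW_WTFUN.mS_psiA_apply h2 ψ₀ a S f t

theorem mS_weight_iff (h2 : (2 : F) ≠ 0) {ψ₀ : AddChar F K} (hψ₀ : ψ₀ ≠ 1) (a : F) {k : ℕ}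
    (T : symSub k F) (f : (Fin k → F) → K) :
    (∀ S : symSub k F, mS (psiA ψ₀ a) (2⁻¹ : F) S.1 f = ψ₀ (trP S T) • f) ↔
      ∀ t, f t ≠ 0 → T = rk1S a t :=
  Cfsg.Agent.Lib.Helper42_TZW_WTFUN.mS_weight_iff h2 hψ₀ a T f

/-! ### PROJ -/

theorem proj_mem_of_mS_stable (h2 : (2 : F) ≠ 0) {ψ₀ : AddChar F K} (hψ₀ : ψ₀ ≠ 1) {a : F} (ha : a ≠ 0)
    {k : ℕ} (N : Submodule K ((Fin k → F) → K))
    (hN : ∀ S : symSub k F, ∀ f ∈ N, mS (psiA ψ₀ a) (2⁻¹ : F) S.1 f ∈ N) (f : (Fin k → F) → K)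
    (hf : f ∈ N) (s : Fin k → F) :
    (fun t => if t = s ∨ t = -s then f t else 0) ∈ N :=
  Cfsg.Agent.Lib.Helper9_TZW_PROJ.proj_mem_of_mS_stable h2 hψ₀ ha N hN f hf s

/-! ### JCONST -/

theorem weilA_J_single (ψ₀ : AddChar F K) (hψ₀ : ψ₀ ≠ 1) (h2 : (2 : F) ≠ 0) {a : F} (ha : a ≠ 0) (k : ℕ) :
    ∃ c : K, c ≠ 0 ∧ ∃ ε : F, (ε = 1 ∨ ε = -1) ∧ ∀ x t : Fin k → F,
      weilA ψ₀ a k (Jg k) (Pi.single x 1) t = c * psiA ψ₀ a (ε * (x ⬝ᵥ t)) :=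
  Cfsg.Agent.Lib.Helper9_TZW_JCONST.weilA_J_single ψ₀ hψ₀ h2 ha k

/-! ### XS, NEG -/

theorem weilA_xs_op (ψ₀ : AddChar F K) (hψ₀ : ψ₀ ≠ 1) (h2 : (2 : F) ≠ 0) {a : F} (ha : a ≠ 0) {k : ℕ}
    (S : symSub k F) : weilA ψ₀ a k (xs S) = mS (psiA ψ₀ a) (2⁻¹ : F) S.1 :=
  W1aux.weilA_xs_op ψ₀ hψ₀ h2 ha S

theorem weilA_xs_apply (ψ₀ : AddChar F K) (hψ₀ : ψ₀ ≠ 1) (h2 : (2 : F) ≠ 0) {a : F} (ha : a ≠ 0) {k : ℕ}
    (S : symSub k F) (f : (Fin k → F) → K) (t : Fin k → F) :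
    weilA ψ₀ a k (xs S) f t = ψ₀ (trP S (rk1S a t)) * f t := by
  rw [weilA_xs_op ψ₀ hψ₀ h2 ha, mS_psiA_apply h2]

theorem negOne_eq_lgH {k : ℕ} : (negOne : SpG k F) = lgH (-1 : GL (Fin k) F) :=
  W3aux.negOne_eq_lgH'

end Cfsg.Agent.Lib.Helper81_TZW
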