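import Mathlib
import Cfsg.Agent.Lib.Helper81_TZW_W1
import Cfsg.Agent.Lib.Helper2_TZW_SPAN

/-!
# S2524 Part W: `Helper81_TZW_W1` + `span_of_stable` (helper2's SPAN package), for W4a / W4b (helper81)
-/

set_option autoImplicit false

namespace Cfsg.Agent.Lib.Helper81_TZW

open Matrix Module
open Cfsg.Agent.Lib.Helper5_SpPerfect Cfsg.Agent.Lib.Helper81_SpWeights
  Cfsg.Agent.Lib.Helper81_Heis Cfsg.Agent.Lib.Helper81_WeilLin Cfsg.Agent.Lib.Helper81_Schrodinger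
  Cfsg.Agent.Lib.Helper75_TZ

variable {F : Type*} [Field F] [Fintype F] [DecidableEq F] {K : Type*} [Field K] [IsAlgClosed K]
  [CharZero K]

theorem span_of_stable (ψ₀ : AddChar F K) (hψ₀ : ψ₀ ≠ 1) (h2 : (2 : F) ≠ 0) {a : F} (ha : a ≠ 0) {k : ℕ}
    (N : Submodule K ((Fin k → F) → K)) (hN : ∀ g, ∀ f ∈ N, weilA ψ₀ a k g f ∈ N) (ε : K)
    (f : (Fin k → F) → K) (hf : f ∈ N) (hfε : ∀ t, f (-t) = ε * f t) (s : Fin k → F) (hs : s ≠ 0)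
    (hfs : f s ≠ 0) (t : Fin k → F) (ht : t ≠ 0) :
    ((Pi.single t (1 : K) : (Fin k → F) → K) + ε • Pi.single (-t) (1 : K)) ∈ N :=
  Cfsg.Agent.Lib.Helper2_TZW_SPAN.span_of_stable ψ₀ hψ₀ h2 ha N hN ε f hf hfε s hs hfs t ht

end Cfsg.Agent.Lib.Helper81_TZW
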