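import Mathlib
import Cfsg.Agent.Lib.Helper81_TZW_Defs

/-!
# S2524 Part W, package W4a (helper95): the odd part of the Weil module is irreducible -- core

`weilP_irr_odd_of`: the statement of W4a with the statement of the tool `span_of_stable`
(helper81's package SPAN) as an explicit hypothesis.
-/

set_option autoImplicit false

namespace Cfsg.Agent.Lib.Helper75_TZ

open Matrix Module
open Cfsg.Agent.Lib.Helper5_SpPerfect Cfsg.Agent.Lib.Helper81_SpWeights
  Cfsg.Agent.Lib.Helper81_JointEigen Cfsg.Agent.Lib.Helper81_Heis Cfsg.Agent.Lib.Helper81_WeilLin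
  Cfsg.Agent.Lib.Helper81_Schrodinger Cfsg.Agent.Lib.Helper81_TZW

variable {F : Type*} [Field F] [Fintype F] [DecidableEq F] {K : Type*} [Field K] [IsAlgClosed K]
  [CharZero K] {k : ℕ}

namespace W4aaux

omit [Fintype F] [DecidableEq F] [IsAlgClosed K] [CharZero K] in
theorem neg_ne_self (h2 : (2 : F) ≠ 0) {x : Fin k → F} (hx : x ≠ 0) : -x ≠ x := by
  intro h
  apply hx
  funext i
  have h1 : -x i = x i := congrFun h i
  have h3 : (2 : F) * x i = 0 := by
    rw [two_mul]
    nth_rewrite 1 [← h1]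
    exact neg_add_cancel (x i)
  rcases mul_eq_zero.mp h3 with h4 | h4
  · exact absurd h4 h2
  · exact h4

/-- `δ_t - δ_{-t}` is odd -/
theorem dsub_mem (t : Fin k → F) :
    ((Pi.single t (1 : K) : (Fin k → F) → K) + (-1 : K) • Pi.single (-t) (1 : K)) ∈
      funP k F K true := by
  rw [mem_funP_true]
  intro u
  simp only [Pi.add_apply, Pi.smul_apply, smul_eq_mul, Pi.single_apply]
  have e1 : (-u = t) ↔ (u = -t) := neg_eq_iff_eq_neg
  have e2 : (-u = -t) ↔ (u = t) := neg_inj
  simp only [e1, e2]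
  split_ifs <;> ring

omit [IsAlgClosed K] in
/-- an odd function is a combination of the `δ_t - δ_{-t}` -/
theorem odd_eq_sum (g : (Fin k → F) → K) (hg : ∀ t, g (-t) = -g t) :
    g = (2 : K)⁻¹ • ∑ t : Fin k → F, g t •
      ((Pi.single t (1 : K) : (Fin k → F) → K) + (-1 : K) • Pi.single (-t) (1 : K)) := by
  funext u
  rw [Pi.smul_apply, Finset.sum_apply, smul_eq_mul]
  have h1 : ∀ t : Fin k → F, ((g t • ((Pi.single t (1 : K) : (Fin k → F) → K) +
      (-1 : K) • (Pi.single (-t) (1 : K) : (Fin k → F) → K)) : (Fin k → F) → K) u) =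
      (if u = t then g t else 0) + (if u = -t then -g t else 0) := by
    intro t
    simp only [Pi.add_apply, Pi.smul_apply, smul_eq_mul, Pi.single_apply]
    split_ifs <;> ring
  rw [Finset.sum_congr rfl (fun t _ => h1 t), Finset.sum_add_distrib,
    Finset.sum_ite_eq Finset.univ u, if_pos (Finset.mem_univ u)]
  have h3 : ∑ t : Fin k → F, (if u = -t then -g t else 0) = -g (-u) := by
    rw [Finset.sum_eq_single (-u)]
    · rw [neg_neg, if_pos rfl]
    · intro t _ ht
      rw [if_neg]
      intro e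
      exact ht (by rw [e, neg_neg])
    · intro h
      exact absurd (Finset.mem_univ _) h
  rw [h3, hg u, neg_neg]
  have h4 : (2 : K) ≠ 0 := two_ne_zero
  field_simp
  ring

/-- the statement of helper81's tool `span_of_stable` -/
def SpanStmt (ψ₀ : AddChar F K) (a : F) (k : ℕ) : Prop :=
  ∀ (N : Submodule K ((Fin k → F) → K)), (∀ g, ∀ f ∈ N, weilA ψ₀ a k g f ∈ N) → ∀ (ε : K)
    (f : (Fin k → F) → K), f ∈ N → (∀ t, f (-t) = ε * f t) → ∀ (s : Fin k → F), s ≠ 0 →
    f s ≠ 0 → ∀ (t : Fin k → F), t ≠ 0 →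
    ((Pi.single t (1 : K) : (Fin k → F) → K) + ε • Pi.single (-t) (1 : K)) ∈ N

theorem weilP_irr_odd_of (ψ₀ : AddChar F K) (hψ₀ : ψ₀ ≠ 1) (h2 : (2 : F) ≠ 0) {a : F} (ha : a ≠ 0)
    (hk : 1 ≤ k) (hspan : SpanStmt ψ₀ a k) : IrrRep (weilP ψ₀ hψ₀ h2 a ha k true) := by
  refine ⟨?_, ?_⟩
  · -- nontrivial
    let i0 : Fin k := ⟨0, by omega⟩
    let x : Fin k → F := Pi.single i0 1
    have hx : x ≠ 0 := by
      intro h
      have := congrFun h i0
      simp [x] at this
    refine ⟨⟨⟨_, dsub_mem x⟩, 0, ?_⟩⟩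
    intro h
    have h1 := congrArg (fun f : funP k F K true => (f : (Fin k → F) → K) x) h
    simp only [Pi.add_apply, Pi.smul_apply, smul_eq_mul, Pi.single_apply, ZeroMemClass.coe_zero,
      Pi.zero_apply] at h1
    have h3 : x ≠ -x := fun e => neg_ne_self h2 hx e.symm
    simp [h3] at h1
  · intro N hN
    by_cases hbot : N = ⊥
    · exact Or.inl hbot
    right
    -- the image of `N` in the space of all functions
    set N' : Submodule K ((Fin k → F) → K) := N.map (funP k F K true).subtype with hN'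
    have hstab : ∀ g, ∀ f ∈ N', weilA ψ₀ a k g f ∈ N' := by
      intro g f hf
      obtain ⟨y, hy, rfl⟩ := Submodule.mem_map.mp hf
      refine Submodule.mem_map.mpr ⟨weilP ψ₀ hψ₀ h2 a ha k true g y, hN g y hy, ?_⟩
      rfl
    -- a non-zero element
    obtain ⟨y, hy, hy0⟩ := (Submodule.ne_bot_iff N).mp hbot
    have hyodd : ∀ t, y.1 (-t) = -y.1 t := (mem_funP_true y.1).mp y.2
    have hy1 : y.1 ≠ 0 := fun h => hy0 (Subtype.ext h)
    obtain ⟨s, hs⟩ : ∃ s, y.1 s ≠ 0 := by
      by_contra hcon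
      push Not at hcon
      exact hy1 (funext hcon)
    have hs0 : s ≠ 0 := by
      intro h
      apply hs
      rw [h]
      have h1 := hyodd 0
      rw [neg_zero] at h1
      have h3 : (2 : K) * y.1 0 = 0 := by
        rw [two_mul]
        nth_rewrite 1 [h1]
        exact neg_add_cancel _
      rcases mul_eq_zero.mp h3 with h4 | h4
      · exact absurd h4 two_ne_zero
      · exact h4
    have hyN' : y.1 ∈ N' := Submodule.mem_map.mpr ⟨y, hy, rfl⟩
    have hall : ∀ t : Fin k → F, t ≠ 0 →
        ((Pi.single t (1 : K) : (Fin k → F) → K) + (-1 : K) • Pi.single (-t) (1 : K)) ∈ N' := by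
      intro t ht
      exact hspan N' hstab (-1) y.1 hyN' (fun u => by rw [hyodd u, neg_one_mul]) s hs0 hs t ht
    rw [eq_top_iff]
    intro z _
    have hzodd : ∀ t, z.1 (-t) = -z.1 t := (mem_funP_true z.1).mp z.2
    have hz0 : z.1 0 = 0 := by
      have h1 := hzodd 0
      rw [neg_zero] at h1
      have h3 : (2 : K) * z.1 0 = 0 := by
        rw [two_mul]
        nth_rewrite 1 [h1]
        exact neg_add_cancel _
      rcases mul_eq_zero.mp h3 with h4 | h4
      · exact absurd h4 two_ne_zero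
      · exact h4
    have hzN' : z.1 ∈ N' := by
      rw [odd_eq_sum z.1 hzodd]
      apply Submodule.smul_mem
      apply Submodule.sum_mem
      intro t _
      by_cases ht : t = 0
      · rw [ht, hz0, zero_smul]
        exact Submodule.zero_mem _
      · exact Submodule.smul_mem _ _ (hall t ht)
    obtain ⟨w, hw, hwz⟩ := Submodule.mem_map.mp hzN'
    have : w = z := Subtype.ext hwz
    rwa [this] at hw

end W4aaux

end Cfsg.Agent.Lib.Helper75_TZ
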