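import Mathlib
import Cfsg.Agent.Lib.Helper75_TZDefs
import Cfsg.Agent.Lib.Helper81_TZW_W1S
import Cfsg.Agent.Lib.Helper95_TZ_W4aaux

/-!
# S2524 Part W, package W4a (helper95): the odd part of the Weil module is irreducible
-/

set_option autoImplicit false

namespace Cfsg.Agent.Lib.Helper75_TZ

open Matrix Module
open Cfsg.Agent.Lib.Helper5_SpPerfect Cfsg.Agent.Lib.Helper81_SpWeights
  Cfsg.Agent.Lib.Helper81_JointEigen Cfsg.Agent.Lib.Helper81_Heis Cfsg.Agent.Lib.Helper81_WeilLin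
  Cfsg.Agent.Lib.Helper81_Schrodinger Cfsg.Agent.Lib.Helper81_TZW

variable {F : Type*} [Field F] [Fintype F] [DecidableEq F] {K : Type*} [Field K] [IsAlgClosed K]
  [CharZero K] {k : ℕ}

/-- PACKAGE W4a: the odd part is irreducible (already under `P`), `k ≥ 1` -/
theorem weilP_irr_odd (ψ₀ : AddChar F K) (hψ₀ : ψ₀ ≠ 1) (h2 : (2 : F) ≠ 0) {a : F} (ha : a ≠ 0)
    (hk : 1 ≤ k) : IrrRep (weilP ψ₀ hψ₀ h2 a ha k true) :=
  W4aaux.weilP_irr_odd_of ψ₀ hψ₀ h2 ha hk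
    (fun N hN ε f hf hfε s hs hfs t ht => span_of_stable ψ₀ hψ₀ h2 ha N hN ε f hf hfε s hs hfs t ht)

end Cfsg.Agent.Lib.Helper75_TZ
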