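import Mathlib
import Cfsg.Agent.Lib.Helper75_TZDefs
import Cfsg.Agent.Lib.Helper26_TZ_REP2
import Cfsg.Agent.Lib.Helper26_TZ_REP3
import Cfsg.Agent.Lib.Helper25_TZ_S5i
import Cfsg.Agent.Lib.Helper87_TZ_S5iiib
import Cfsg.Agent.Lib.Helper95_TZ_W4a
import Cfsg.Agent.Lib.Helper2_TZ_W4b

/-!
# Helper26_TZ_S8c: package S8c of the TZ market (S2524, architect helper75)
-/

set_option autoImplicit false

namespace Cfsg.Agent.Lib.Helper75_TZ

open Matrix Module
open Cfsg.Agent.Lib.Helper5_SpPerfect Cfsg.Agent.Lib.Helper81_SpWeights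
  Cfsg.Agent.Lib.Helper81_JointEigen Cfsg.Agent.Lib.Helper81_Heis Cfsg.Agent.Lib.Helper81_WeilLin
  Cfsg.Agent.Lib.Helper81_Schrodinger

namespace S8caux

/-- even/odd decomposition of a function -/
theorem exists_decomp {F K : Type*} [Field F] [Field K] [CharZero K] (k : ℕ)
    (φ : (Fin k → F) → K) :
    ∃ φe ∈ funP k F K false, ∃ φo ∈ funP k F K true, φ = φe + φo := by
  have h2 : (2 : K) ≠ 0 := two_ne_zero
  have hpp : ∀ ψ : (Fin k → F) → K, par k F K (par k F K ψ) = ψ := by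
    intro ψ
    have := congrArg (fun T : Module.End K ((Fin k → F) → K) => T ψ) (par_mul_par (n := k) (F := F) (K := K))
    simpa [Module.End.mul_apply] using this
  refine ⟨(2 : K)⁻¹ • (φ + par k F K φ), ?_, (2 : K)⁻¹ • (φ - par k F K φ), ?_, ?_⟩
  · show _ ∈ (if false = true then Wm (par k F K) else Wp (par k F K))
    rw [if_neg (by decide), mem_Wp, map_smul, map_add, hpp, add_comm]
  · show _ ∈ (if true = true then Wm (par k F K) else Wp (par k F K))
    rw [if_pos rfl, mem_Wm, map_smul, map_sub, hpp, ← smul_neg, neg_sub]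
  · rw [← smul_add, add_add_sub_cancel, ← two_smul K φ, smul_smul, inv_mul_cancel₀ h2, one_smul]

end S8caux

section S2

variable {F : Type*} [Field F] [Fintype F] [DecidableEq F] {m : ℕ} {K : Type*} [Field K]
  [IsAlgClosed K] [CharZero K] {M : Type*} [AddCommGroup M] [Module K M] [FiniteDimensional K M]

/-- PACKAGE S8c: an irreducible `G₂`-module which embeds into `M_(Z,a)` is a Weil module `Fun^p (ω_a^(m))`.
(`M_(Z,a) = ∑_v f_v(Fun^e) + f_v(Fun^o)`, `zsp_eq_sum_fv`, `fv_weil`; equivariant projection onto the image + Schur.) -/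
theorem embed_iso (ψ₀ : AddChar F K) (hψ₀ : ψ₀ ≠ 1) (h2 : (2 : F) ≠ 0) (hodd : Odd (Fintype.card F))
    (R : SpG (m + 1) F →* Module.End K M) (hrk : RankLeOne R ψ₀) (hm : 1 ≤ m) {a : F} (ha : a ≠ 0)
    {D : Type*} [AddCommGroup D] [Module K D] [FiniteDimensional K D]
    (R₂ : SpG m F →* Module.End K D) (hirr : IrrRep R₂) (f : D →ₗ[K] M)
    (hf : Function.Injective f) (hfa : ∀ x, f x ∈ zsp R ψ₀ a)
    (hfg : ∀ g x, f (R₂ g x) = R (emb g) (f x)) :
    ∃ p : Bool, IsoRep (weilP ψ₀ hψ₀ h2 a ha m p) R₂ := by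
  classical
  have hfin : Finite (SpG m F) := inferInstance
  -- the image of `f` is `G₂`-invariant
  have hE : ∀ g : SpG m F, ∀ y ∈ LinearMap.range f, (R.comp emb) g y ∈ LinearMap.range f := by
    rintro g y ⟨x, rfl⟩
    exact ⟨R₂ g x, hfg g x⟩
  obtain ⟨π, hπmem, hπid, hπeq⟩ := exists_equivariant_proj (R.comp emb) (LinearMap.range f) hE
  -- a non-zero vector of the image
  have hnt : Nontrivial D := hirr.1
  obtain ⟨x₀, hx₀⟩ := exists_ne (0 : D)
  have hw0 : f x₀ ≠ 0 := fun h => hx₀ (hf (by rw [h, map_zero]))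
  obtain ⟨vs, hvs, hsum⟩ := zsp_eq_sum_fv ψ₀ hψ₀ hodd R hrk ha (f x₀) (hfa x₀)
  have hπw : π (f x₀) = f x₀ := hπid _ ⟨x₀, rfl⟩
  have hex : ∃ s : Fin m → F, π (fv R (vs s) (dl s)) ≠ 0 := by
    by_contra hcon
    push Not at hcon
    apply hw0
    rw [← hπw, hsum, map_sum]
    exact Finset.sum_eq_zero (fun s _ => hcon s)
  obtain ⟨s, hs⟩ := hex
  obtain ⟨φe, hφe, φo, hφo, hdec⟩ := S8caux.exists_decomp (F := F) (K := K) m (dl s)
  have hex2 : ∃ (p : Bool) (ψ : funP m F K p), π (fv R (vs s) ψ.1) ≠ 0 := by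
    by_contra hcon
    push Not at hcon
    apply hs
    rw [hdec, map_add, map_add, hcon false ⟨φe, hφe⟩, hcon true ⟨φo, hφo⟩, add_zero]
  obtain ⟨p, ψ, hψ⟩ := hex2
  refine ⟨p, ?_⟩
  -- the map `funP p → D`
  let e : D ≃ₗ[K] LinearMap.range f := LinearEquiv.ofInjective f hf
  let π' : M →ₗ[K] LinearMap.range f := π.codRestrict (LinearMap.range f) hπmem
  let h : funP m F K p →ₗ[K] D :=
    e.symm.toLinearMap ∘ₗ π' ∘ₗ (fv R (vs s)) ∘ₗ (funP m F K p).subtype
  have hfh : ∀ χ : funP m F K p, f (h χ) = π (fv R (vs s) χ.1) := by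
    intro χ
    have h1 : (e (h χ) : M) = f (h χ) := rfl
    rw [← h1]
    show ((e (e.symm (π' (fv R (vs s) χ.1))) : LinearMap.range f) : M) = _
    rw [LinearEquiv.apply_symm_apply]
    rfl
  have hirrW : IrrRep (weilP ψ₀ hψ₀ h2 a ha m p) := by
    cases p
    · exact weilP_irr_even ψ₀ hψ₀ h2 ha hm
    · exact weilP_irr_odd ψ₀ hψ₀ h2 ha hm
  apply schur_iso hirrW hirr h
  · intro g χ
    apply hf
    rw [hfh, hfg, hfh]
    have h1 : ((weilP ψ₀ hψ₀ h2 a ha m p g χ : funP m F K p) : (Fin m → F) → K) =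
        weilA ψ₀ a m g χ.1 := rfl
    rw [h1, fv_weil ψ₀ hψ₀ hodd R hrk hm ha (vs s) (hvs s) g χ.1]
    exact hπeq g _
  · intro h0
    apply hψ
    rw [← hfh, h0, LinearMap.zero_apply, map_zero]

end S2

end Cfsg.Agent.Lib.Helper75_TZ
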