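import Mathlib
import Cfsg.Agent.Lib.Helper26_FamSwap
import Cfsg.Agent.Lib.Helper93_M24Sextets
import Cfsg.Agent.Lib.Helper93_M24Trios

/-!
Data for the structure of the stabiliser of the base trio: elements of `M24` inducing each
transposition of its three octads, the seven sextets refining the trio labelled by the nonzero
vectors of a 3-space over the field with two elements, and Boolean checks of their incidence
properties.  (Generated by `scratch/py/gen_triostab_lean.py`.)
-/

set_option autoImplicit false
open Cfsg
open Cfsg.Agent.Lib.Helper26_Golay Cfsg.Agent.Lib.Helper93_M24Obj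

namespace Cfsg.Agent.Lib.Helper26_TrioStab

/-- The code of the base trio. -/
def c0 : ℕ := trioAt 0

/-- Tables of elements inducing the transposition of octads `i` and `j` (entry `3 * i + j`). -/
def swapTab : ℕ := 0xbdab49ca307b9ac5a928398a418820489f5a4d6d816460b948bb23600c87ad84525e2651d6c9c02073d0d1c934489f5a4d6d816460b948bb23600c87bdab49ca307b9ac5a928398a418820bbce30a50cb35d05aa51a98a4a0a60ad84525e2651d6c9c02073d0d1c934bbce30a50cb35d05aa51a98a4a0a60bdab49ca307b9ac5a928398a418820

theorem swapTab_ok : allFold (fun i => allFold (fun j => (i == j) ||
    swapOKg 3 c0 (get120 swapTab (3 * i + j)) i j) 3) 3 = true := by decide +kernel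

/-- Indices (in the table of sextets) of the seven refining sextets, by label `1..7`. -/
def refTab : ℕ := 0x8900ad00b9008600d2001a000b0000

/-- The index of the refining sextet with label `k`. -/
def refIdx (k : ℕ) : ℕ := get16 refTab k

/-- The code of the refining sextet with label `k`. -/
def rc (k : ℕ) : ℕ := sextAt (refIdx k)

/-- The sextet with code `c` refines the base trio. -/
def refOK (c : ℕ) : Bool :=
  allFold (fun i => anyFold (fun l => (get24 c i &&& get24 c0 l) == get24 c i) 3) 6

/-- The sextet number `j` is one of the seven labelled ones. -/
def isRef (j : ℕ) : Bool := anyFold (fun k => decide (0 < k) && (refIdx k == j)) 8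

theorem ref_ok : allFold (fun j => !(refOK (sextAt j)) || isRef j) 1771 = true := by decide +kernel

theorem ref_ok' : allFold (fun k => (k == 0) || (refOK (rc k) && decide (refIdx k < 1771))) 8 =
    true := by decide +kernel

theorem refIdx_inj : allFold (fun k => allFold (fun l => (k == 0) || (l == 0) || (k == l) ||
    !(refIdx k == refIdx l)) 8) 8 = true := by decide +kernel

/-- Collinearity of three coded sextets. -/
def colB (c1 c2 c3 : ℕ) : Bool :=
  anyFold (fun i => anyFold (fun j => (pop (get24 c1 i &&& get24 c2 j) == 2) &&
    (mems 6 c3).contains (get24 c1 i ^^^ get24 c2 j)) 6) 6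

theorem col_ok : allFold (fun k => allFold (fun l => allFold (fun m => (k == 0) || (l == 0) ||
    (m == 0) || (k == l) || (colB (rc k) (rc l) (rc m) == (m == k ^^^ l))) 8) 8) 8 = true := by
  decide +kernel

/-- Two points lie in a common octad of the base trio. -/
def sameOct (p q : ℕ) : Bool :=
  anyFold (fun l => (get24 c0 l).testBit p && (get24 c0 l).testBit q) 3

/-- The tetrads (of the refining sextets) through two points of an octad meet in these two points
only. -/
def f4 : Bool :=
  allFold (fun p => allFold (fun q => (p == q) || !(sameOct p q) ||
    allFold (fun z => (z == p) || (z == q) ||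
      anyFold (fun k => decide (0 < k) && anyFold (fun i =>
        (get24 (rc k) i).testBit p && (get24 (rc k) i).testBit q &&
          !((get24 (rc k) i).testBit z)) 6) 8) 24) 24) 24

theorem f4_ok : f4 = true := by decide +kernel

theorem cover_ok : allFold (fun p => anyFold (fun l => (get24 c0 l).testBit p) 3) 24 = true := by
  decide +kernel

/-- Two base points, in the first and the second octad. -/
def x1 : ℕ := 8
def x2 : ℕ := 1

theorem x_ok : ((get24 c0 0).testBit x1 && (get24 c0 1).testBit x2 &&
    !((get24 c0 0).testBit x2)) = true := by decide +kernel

theorem oct_ok : allFold (fun l => isOct (get24 c0 l)) 3 = true := by decide +kernel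

end Cfsg.Agent.Lib.Helper26_TrioStab
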