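import Mathlib
import Cfsg.Agent.Lib.Helper26_FamStab
import Cfsg.Agent.Lib.Helper26_FamSwap
import Cfsg.Agent.Lib.Helper26_SextStab
import Cfsg.Agent.Lib.Helper26_TrioStabData
import Cfsg.Agent.Lib.Helper26_OctSplit
import Cfsg.Agent.Lib.Helper93_M24Fams
import Cfsg.Agent.S1557

/-!
Structure of the stabiliser of the base trio in `M24`: the action on the seven sextets refining
the trio, which form the nonzero vectors of a 3-space over the field with two elements.
-/

set_option autoImplicit false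
set_option linter.constructorNameAsVariable false
open Cfsg
open scoped Pointwise
open Cfsg.Agent.Lib.Helper93_M24Obj

namespace Cfsg.Agent.Lib.Helper26_Golay

open Cfsg.Agent.Lib.Helper26_TrioStab

/-! ### Refinement and collinearity -/

/-- Every member of `S` lies in a member of `T`. -/
def Refines (S T : FF) : Prop := ∀ t ∈ S, ∃ o ∈ T, t ⊆ o

theorem Refines.smul {S T : FF} (h : Refines S T) (g : Equiv.Perm GolayPt) :
    Refines (g • S) (g • T) := by
  intro t ht
  rw [Finset.mem_smul_finset] at ht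
  obtain ⟨t₀, ht₀, rfl⟩ := ht
  obtain ⟨o, ho, hto⟩ := h t₀ ht₀
  exact ⟨g • o, Finset.smul_mem_smul_finset ho, Finset.smul_finset_subset_smul_finset hto⟩

/-- Collinearity of three sets of sets: some members of the first two meet in two points and have
their symmetric difference in the third. -/
def Col (A B C : FF) : Prop :=
  ∃ a ∈ A, ∃ b ∈ B, (a ∩ b).card = 2 ∧ symmDiff a b ∈ C

theorem Col.smul {A B C : FF} (h : Col A B C) (g : Equiv.Perm GolayPt) :
    Col (g • A) (g • B) (g • C) := by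
  obtain ⟨a, ha, b, hb, hc, hs⟩ := h
  refine ⟨g • a, Finset.smul_mem_smul_finset ha, g • b, Finset.smul_mem_smul_finset hb, ?_, ?_⟩
  · rw [← Finset.smul_finset_inter, Finset.card_smul_finset]; exact hc
  · rw [← Finset.smul_finset_symmDiff]; exact Finset.smul_mem_smul_finset hs

/-- The refining sextet with label `k`. -/
def Rk (k : ℕ) : FF := Helper93_M24Obj.setOf 6 (rc k)

theorem trio0_eq : trio0 = Helper93_M24Obj.setOf 3 c0 := rfl

theorem refOK_of_refines {c : ℕ} (h : Refines (Helper93_M24Obj.setOf 6 c) trio0) : refOK c = true := by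
  unfold refOK
  rw [allFold_eq_true]
  intro i hi
  rw [anyFold_eq_true]
  have hmem : dec (get24 c i) ∈ Helper93_M24Obj.setOf 6 c :=
    (mem_setOf_iff_exists 6 c _).mpr ⟨i, hi, rfl⟩
  obtain ⟨o, ho, hsub⟩ := h _ hmem
  rw [trio0_eq, mem_setOf_iff_exists] at ho
  obtain ⟨l, hl, rfl⟩ := ho
  refine ⟨l, hl, ?_⟩
  rw [beq_iff_eq]
  have := (subset_iff_enc _ _).mp hsub
  rwa [enc_dec _ (get24_lt' _ _), enc_dec _ (get24_lt' _ _)] at this

theorem refines_of_refOK {c : ℕ} (h : refOK c = true) : Refines (Helper93_M24Obj.setOf 6 c) trio0 := by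
  unfold refOK at h
  rw [allFold_eq_true] at h
  intro t ht
  obtain ⟨i, hi, rfl⟩ := (mem_setOf_iff_exists 6 c t).mp ht
  have h1 := h i hi
  rw [anyFold_eq_true] at h1
  obtain ⟨l, hl, h2⟩ := h1
  rw [beq_iff_eq] at h2
  refine ⟨dec (get24 c0 l), (mem_setOf_iff_exists 3 c0 _).mpr ⟨l, hl, rfl⟩, ?_⟩
  rw [subset_iff_enc, enc_dec _ (get24_lt' _ _), enc_dec _ (get24_lt' _ _)]
  exact h2

theorem label_cases {k : ℕ} (hk : 1 ≤ k ∧ k ≤ 7) : k < 8 ∧ (k == 0) = false := by
  refine ⟨by omega, ?_⟩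
  simp only [beq_eq_false_iff_ne]
  omega

theorem refIdx_lt {k : ℕ} (hk : 1 ≤ k ∧ k ≤ 7) : refIdx k < 1771 := by
  have h := (allFold_eq_true _ _).mp ref_ok' k (label_cases hk).1
  rw [(label_cases hk).2, Bool.false_or, Bool.and_eq_true, decide_eq_true_eq] at h
  exact h.2

theorem Rk_mem {k : ℕ} (hk : 1 ≤ k ∧ k ≤ 7) : Rk k ∈ sextets :=
  sextEnum.mem (refIdx k) (refIdx_lt hk)

theorem Rk_refines {k : ℕ} (hk : 1 ≤ k ∧ k ≤ 7) : Refines (Rk k) trio0 := by
  have h := (allFold_eq_true _ _).mp ref_ok' k (label_cases hk).1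
  rw [(label_cases hk).2, Bool.false_or, Bool.and_eq_true] at h
  exact refines_of_refOK h.1

theorem eq_Rk_of_refines {S : FF} (hS : S ∈ sextets) (h : Refines S trio0) :
    ∃ k, (1 ≤ k ∧ k ≤ 7) ∧ S = Rk k := by
  obtain ⟨j, hj, rfl⟩ := sextEnum.surj S hS
  have h1 : refOK (sextAt j) = true := refOK_of_refines h
  have h2 := (allFold_eq_true _ _).mp ref_ok j hj
  rw [h1, Bool.not_true, Bool.false_or] at h2
  unfold isRef at h2
  rw [anyFold_eq_true] at h2
  obtain ⟨k, hk8, h3⟩ := h2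
  rw [Bool.and_eq_true, decide_eq_true_eq, beq_iff_eq] at h3
  refine ⟨k, ⟨h3.1, by omega⟩, ?_⟩
  show Helper93_M24Obj.setOf 6 (sextAt j) = Helper93_M24Obj.setOf 6 (sextAt (refIdx k))
  rw [h3.2]

theorem Rk_injective {k l : ℕ} (hk : 1 ≤ k ∧ k ≤ 7) (hl : 1 ≤ l ∧ l ≤ 7) (h : Rk k = Rk l) :
    k = l := by
  have h1 : refIdx k = refIdx l := sextEnum.inj _ (refIdx_lt hk) _ (refIdx_lt hl) h
  by_contra hne
  have h2 := (allFold_eq_true _ _).mp ((allFold_eq_true _ _).mp refIdx_inj k (label_cases hk).1) l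
    (label_cases hl).1
  rw [(label_cases hk).2, (label_cases hl).2] at h2
  have : (k == l) = false := by simpa using hne
  rw [this] at h2
  simp only [Bool.false_or, Bool.not_eq_true', beq_eq_false_iff_ne] at h2
  exact h2 h1

theorem colB_iff (c1 c2 c3 : ℕ) :
    colB c1 c2 c3 = true ↔ Col (Helper93_M24Obj.setOf 6 c1) (Helper93_M24Obj.setOf 6 c2) (Helper93_M24Obj.setOf 6 c3) := by
  unfold colB Col
  rw [anyFold_eq_true]
  constructor
  · rintro ⟨i, hi, h⟩
    rw [anyFold_eq_true] at h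
    obtain ⟨j, hj, h⟩ := h
    rw [Bool.and_eq_true, beq_iff_eq, List.contains_iff_mem] at h
    refine ⟨dec (get24 c1 i), (mem_setOf_iff_exists 6 c1 _).mpr ⟨i, hi, rfl⟩,
      dec (get24 c2 j), (mem_setOf_iff_exists 6 c2 _).mpr ⟨j, hj, rfl⟩, ?_, ?_⟩
    · rw [card_inter_eq_pop, enc_dec _ (get24_lt' _ _), enc_dec _ (get24_lt' _ _)]
      exact h.1
    · rw [mem_setOf, enc_symmDiff, enc_dec _ (get24_lt' _ _), enc_dec _ (get24_lt' _ _)]
      exact h.2
  · rintro ⟨a, ha, b, hb, hc, hs⟩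
    obtain ⟨i, hi, rfl⟩ := (mem_setOf_iff_exists 6 c1 a).mp ha
    obtain ⟨j, hj, rfl⟩ := (mem_setOf_iff_exists 6 c2 b).mp hb
    refine ⟨i, hi, ?_⟩
    rw [anyFold_eq_true]
    refine ⟨j, hj, ?_⟩
    rw [Bool.and_eq_true, beq_iff_eq, List.contains_iff_mem]
    rw [card_inter_eq_pop, enc_dec _ (get24_lt' _ _), enc_dec _ (get24_lt' _ _)] at hc
    rw [mem_setOf, enc_symmDiff, enc_dec _ (get24_lt' _ _), enc_dec _ (get24_lt' _ _)] at hs
    exact ⟨hc, hs⟩

theorem col_iff {k l m : ℕ} (hk : 1 ≤ k ∧ k ≤ 7) (hl : 1 ≤ l ∧ l ≤ 7) (hm : 1 ≤ m ∧ m ≤ 7)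
    (hkl : k ≠ l) : Col (Rk k) (Rk l) (Rk m) ↔ m = k ^^^ l := by
  have h := (allFold_eq_true _ _).mp ((allFold_eq_true _ _).mp
    ((allFold_eq_true _ _).mp col_ok k (label_cases hk).1) l (label_cases hl).1) m
    (label_cases hm).1
  rw [(label_cases hk).2, (label_cases hl).2, (label_cases hm).2] at h
  have : (k == l) = false := by simpa using hkl
  rw [this] at h
  simp only [Bool.false_or, beq_iff_eq] at h
  unfold Rk
  rw [← colB_iff]
  constructor
  · intro h1
    rw [h1] at h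
    simpa using h.symm
  · intro h1
    rw [← h1] at h
    simpa using h

/-! ### Labels by vectors -/

/-- The 3-space over the field with two elements. -/
abbrev V3 := Fin 3 → ZMod 2

/-- The number of a vector. -/
def num (v : V3) : ℕ := (v 0).val + 2 * (v 1).val + 4 * (v 2).val

theorem num_lt : ∀ v : V3, num v < 8 := by decide

theorem num_eq_zero_iff : ∀ v : V3, num v = 0 ↔ v = 0 := by decide

theorem num_injective : Function.Injective num := by
  have : ∀ u v : V3, num u = num v → u = v := by decide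
  exact fun u v h => this u v h

theorem num_add : ∀ u v : V3, num (u + v) = num u ^^^ num v := by decide

theorem add_self_V3 : ∀ u : V3, u + u = 0 := by decide

theorem exists_num_eq : ∀ k < 8, ∃ v : V3, num v = k := by decide

theorem num_range {v : V3} (hv : v ≠ 0) : 1 ≤ num v ∧ num v ≤ 7 := by
  have h1 := num_lt v
  have h2 : num v ≠ 0 := fun h => hv ((num_eq_zero_iff v).mp h)
  omega

/-- Permutations in the stabiliser of the base trio. -/
def TrioStabP (σ : Equiv.Perm GolayPt) : Prop := σ ∈ M24 ∧ σ • trio0 = trio0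

theorem TrioStabP.one : TrioStabP 1 := ⟨M24.one_mem, one_smul _ _⟩

theorem TrioStabP.mul {σ τ : Equiv.Perm GolayPt} (hσ : TrioStabP σ) (hτ : TrioStabP τ) :
    TrioStabP (σ * τ) := ⟨M24.mul_mem hσ.1 hτ.1, by rw [mul_smul, hτ.2, hσ.2]⟩

theorem TrioStabP.inv {σ : Equiv.Perm GolayPt} (hσ : TrioStabP σ) : TrioStabP σ⁻¹ :=
  ⟨M24.inv_mem hσ.1, by rw [inv_smul_eq_iff, hσ.2]⟩

theorem exists_label_smul {σ : Equiv.Perm GolayPt} (hσ : TrioStabP σ) {k : ℕ}
    (hk : 1 ≤ k ∧ k ≤ 7) : ∃ k', (1 ≤ k' ∧ k' ≤ 7) ∧ σ • Rk k = Rk k' := by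
  have h1 : σ • Rk k ∈ sextets := smul_mem_sextets hσ.1 (Rk_mem hk)
  have h2 : Refines (σ • Rk k) trio0 := by
    have := (Rk_refines hk).smul σ
    rwa [hσ.2] at this
  exact eq_Rk_of_refines h1 h2

/-- The permutation of the vectors induced by a permutation of the points. -/
noncomputable def piFun (σ : Equiv.Perm GolayPt) (v : V3) : V3 :=
  if v = 0 then 0 else
    if h : ∃ w : V3, w ≠ 0 ∧ σ • Rk (num v) = Rk (num w) then h.choose else 0

theorem piFun_zero (σ : Equiv.Perm GolayPt) : piFun σ 0 = 0 := by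
  unfold piFun
  rw [if_pos rfl]

theorem piFun_spec {σ : Equiv.Perm GolayPt} (hσ : TrioStabP σ) {v : V3} (hv : v ≠ 0) :
    piFun σ v ≠ 0 ∧ σ • Rk (num v) = Rk (num (piFun σ v)) := by
  have hex : ∃ w : V3, w ≠ 0 ∧ σ • Rk (num v) = Rk (num w) := by
    obtain ⟨k', hk', h⟩ := exists_label_smul hσ (num_range hv)
    obtain ⟨w, hw⟩ := exists_num_eq k' (by omega)
    refine ⟨w, ?_, by rw [hw]; exact h⟩
    rintro rfl
    have : num (0 : V3) = 0 := (num_eq_zero_iff 0).mpr rfl
    omega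
  unfold piFun
  rw [if_neg hv, dif_pos hex]
  exact hex.choose_spec

theorem piFun_unique {σ : Equiv.Perm GolayPt} (hσ : TrioStabP σ) {v w : V3} (hv : v ≠ 0)
    (hw : w ≠ 0) (h : σ • Rk (num v) = Rk (num w)) : piFun σ v = w := by
  obtain ⟨h1, h2⟩ := piFun_spec hσ hv
  rw [h] at h2
  exact (num_injective (Rk_injective (num_range hw) (num_range h1) h2)).symm

theorem piFun_one (v : V3) : piFun 1 v = v := by
  by_cases hv : v = 0
  · rw [hv, piFun_zero]
  · exact piFun_unique TrioStabP.one hv hv (one_smul _ _)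

theorem piFun_mul {σ τ : Equiv.Perm GolayPt} (hσ : TrioStabP σ) (hτ : TrioStabP τ) (v : V3) :
    piFun (σ * τ) v = piFun σ (piFun τ v) := by
  by_cases hv : v = 0
  · rw [hv, piFun_zero, piFun_zero, piFun_zero]
  · obtain ⟨h1, h2⟩ := piFun_spec hτ hv
    obtain ⟨h3, h4⟩ := piFun_spec hσ h1
    apply piFun_unique (hσ.mul hτ) hv h3
    rw [mul_smul, h2, h4]

theorem piFun_injective {σ : Equiv.Perm GolayPt} (hσ : TrioStabP σ) :
    Function.Injective (piFun σ) := by
  intro u v h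
  have := congrArg (piFun σ⁻¹) h
  rwa [← piFun_mul hσ.inv hσ, ← piFun_mul hσ.inv hσ, inv_mul_cancel, piFun_one, piFun_one] at this

theorem piFun_add {σ : Equiv.Perm GolayPt} (hσ : TrioStabP σ) (u v : V3) :
    piFun σ (u + v) = piFun σ u + piFun σ v := by
  by_cases hu : u = 0
  · rw [hu, zero_add, piFun_zero, zero_add]
  by_cases hv : v = 0
  · rw [hv, add_zero, piFun_zero, add_zero]
  by_cases huv : u = v
  · rw [huv, add_self_V3, piFun_zero, add_self_V3]
  have hw : u + v ≠ 0 := by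
    intro h
    apply huv
    have : u + v + v = v := by rw [h, zero_add]
    rwa [add_assoc, add_self_V3, add_zero] at this
  obtain ⟨hu1, hu2⟩ := piFun_spec hσ hu
  obtain ⟨hv1, hv2⟩ := piFun_spec hσ hv
  obtain ⟨hw1, hw2⟩ := piFun_spec hσ hw
  have hne : num u ≠ num v := fun h => huv (num_injective h)
  have hcol : Col (Rk (num u)) (Rk (num v)) (Rk (num (u + v))) :=
    (col_iff (num_range hu) (num_range hv) (num_range hw) hne).mpr (num_add u v)
  have hcol' := hcol.smul σ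
  rw [hu2, hv2, hw2] at hcol'
  have hne' : num (piFun σ u) ≠ num (piFun σ v) :=
    fun h => huv (piFun_injective hσ (num_injective h))
  have := (col_iff (num_range hu1) (num_range hv1) (num_range hw1) hne').mp hcol'
  rw [← num_add] at this
  exact num_injective this

/-! ### The kernel -/

/-- Permutations in the kernel: they fix the three octads and the seven refining sextets. -/
def KerP (σ : Equiv.Perm GolayPt) : Prop :=
  TrioStabP σ ∧ (∀ k, 1 ≤ k ∧ k ≤ 7 → σ • Rk k = Rk k) ∧ ∀ o ∈ trio0, σ • o = o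

theorem KerP.mul {σ τ : Equiv.Perm GolayPt} (hσ : KerP σ) (hτ : KerP τ) : KerP (σ * τ) :=
  ⟨hσ.1.mul hτ.1, fun k hk => by rw [mul_smul, hτ.2.1 k hk, hσ.2.1 k hk],
    fun o ho => by rw [mul_smul, hτ.2.2 o ho, hσ.2.2 o ho]⟩

theorem KerP.inv {σ : Equiv.Perm GolayPt} (hσ : KerP σ) : KerP σ⁻¹ :=
  ⟨hσ.1.inv, fun k hk => by rw [inv_smul_eq_iff, hσ.2.1 k hk],
    fun o ho => by rw [inv_smul_eq_iff, hσ.2.2 o ho]⟩

theorem mem_trio0_iff (o : Finset GolayPt) : o ∈ trio0 ↔ ∃ l < 3, o = dec (get24 c0 l) :=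
  mem_setOf_iff_exists 3 c0 o

theorem trio0_cover (x : GolayPt) : ∃ o ∈ trio0, x ∈ o := by
  have h := (allFold_eq_true _ _).mp cover_ok (idx x) (idx_lt x)
  rw [anyFold_eq_true] at h
  obtain ⟨l, hl, h⟩ := h
  exact ⟨dec (get24 c0 l), (mem_trio0_iff _).mpr ⟨l, hl, rfl⟩, (mem_dec _ _).mpr h⟩

theorem f4_spec {x w z : GolayPt} (hxw : x ≠ w) (hoct : ∃ o ∈ trio0, x ∈ o ∧ w ∈ o)
    (hzx : z ≠ x) (hzw : z ≠ w) :
    ∃ k, (1 ≤ k ∧ k ≤ 7) ∧ ∃ t ∈ Rk k, x ∈ t ∧ w ∈ t ∧ z ∉ t := by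
  have h := f4_ok
  unfold f4 at h
  have h1 := (allFold_eq_true _ _).mp ((allFold_eq_true _ _).mp h (idx x) (idx_lt x)) (idx w)
    (idx_lt w)
  have hne : (idx x == idx w) = false := by
    simp only [beq_eq_false_iff_ne]
    exact fun h => hxw (idx_injective h)
  have hso : sameOct (idx x) (idx w) = true := by
    obtain ⟨o, ho, hx, hw⟩ := hoct
    obtain ⟨l, hl, rfl⟩ := (mem_trio0_iff o).mp ho
    unfold sameOct
    rw [anyFold_eq_true]
    exact ⟨l, hl, by rw [Bool.and_eq_true]; exact ⟨(mem_dec _ _).mp hx, (mem_dec _ _).mp hw⟩⟩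
  rw [hne, hso] at h1
  simp only [Bool.not_true, Bool.false_or] at h1
  have h2 := (allFold_eq_true _ _).mp h1 (idx z) (idx_lt z)
  have hzx' : (idx z == idx x) = false := by
    simp only [beq_eq_false_iff_ne]
    exact fun h => hzx (idx_injective h)
  have hzw' : (idx z == idx w) = false := by
    simp only [beq_eq_false_iff_ne]
    exact fun h => hzw (idx_injective h)
  rw [hzx', hzw'] at h2
  simp only [Bool.false_or] at h2
  rw [anyFold_eq_true] at h2
  obtain ⟨k, hk8, h3⟩ := h2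
  rw [Bool.and_eq_true, decide_eq_true_eq, anyFold_eq_true] at h3
  obtain ⟨hk0, i, hi, h4⟩ := h3
  simp only [Bool.and_eq_true, Bool.not_eq_true'] at h4
  refine ⟨k, ⟨hk0, by omega⟩, dec (get24 (rc k) i),
    (mem_setOf_iff_exists 6 (rc k) _).mpr ⟨i, hi, rfl⟩, (mem_dec _ _).mpr h4.1.1,
    (mem_dec _ _).mpr h4.1.2, ?_⟩
  rw [mem_dec, h4.2]
  exact Bool.false_ne_true

theorem smul_tetrad_eq {σ : Equiv.Perm GolayPt} (hσ : KerP σ) {k : ℕ} (hk : 1 ≤ k ∧ k ≤ 7)
    {t : Finset GolayPt} (ht : t ∈ Rk k) {y : GolayPt} (hy : y ∈ t) (hy' : y ∈ σ • t) :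
    σ • t = t := by
  by_contra hne
  have hmem : σ • t ∈ Rk k := by
    have := Finset.smul_mem_smul_finset (a := σ) ht
    rwa [hσ.2.1 k hk] at this
  have hd := sextet_disjoint (Rk_mem hk) hmem ht hne
  exact (Finset.disjoint_left.mp hd hy') hy

theorem mem_of_smul_eq {σ : Equiv.Perm GolayPt} {o : Finset GolayPt} (h : σ • o = o)
    {x : GolayPt} (hx : x ∈ o) : σ x ∈ o := by
  have : σ x ∈ σ • o := by
    rw [← Equiv.Perm.smul_def]; exact Finset.smul_mem_smul_finset hx
  rwa [h] at this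

theorem kerP_fix {σ : Equiv.Perm GolayPt} (hσ : KerP σ) {x w : GolayPt} (hx : σ x = x)
    (hoct : ∃ o ∈ trio0, x ∈ o ∧ w ∈ o) : σ w = w := by
  by_cases hwx : w = x
  · rw [hwx]; exact hx
  by_contra hz
  have hzx : σ w ≠ x := by
    intro h
    apply hwx
    apply σ.injective
    rw [h, hx]
  obtain ⟨k, hk, t, ht, hxt, hwt, hzt⟩ := f4_spec (Ne.symm hwx) hoct hzx hz
  have hx' : x ∈ σ • t := by
    have : σ x ∈ σ • t := by
      rw [← Equiv.Perm.smul_def]; exact Finset.smul_mem_smul_finset hxt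
    rwa [hx] at this
  have hst := smul_tetrad_eq hσ hk ht hxt hx'
  exact hzt (mem_of_smul_eq hst hwt)

theorem kerP_apply_apply {σ : Equiv.Perm GolayPt} (hσ : KerP σ) (x : GolayPt) :
    σ (σ x) = x := by
  obtain ⟨o, ho, hxo⟩ := trio0_cover x
  have hyo : σ x ∈ o := mem_of_smul_eq (hσ.2.2 o ho) hxo
  by_cases hyx : σ x = x
  · rw [hyx, hyx]
  by_contra hz
  have hzy : σ (σ x) ≠ σ x := fun h => hyx (σ.injective h)
  obtain ⟨k, hk, t, ht, hxt, hyt, hzt⟩ :=
    f4_spec (Ne.symm hyx) ⟨o, ho, hxo, hyo⟩ hz hzy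
  have hy' : σ x ∈ σ • t := by
    rw [← Equiv.Perm.smul_def]; exact Finset.smul_mem_smul_finset hxt
  have hst := smul_tetrad_eq hσ hk ht hyt hy'
  exact hzt (mem_of_smul_eq hst hyt)

/-- The first octad of the base trio. -/
def oA : Finset GolayPt := dec (get24 c0 0)

/-- The second octad of the base trio. -/
def oB : Finset GolayPt := dec (get24 c0 1)

theorem oA_mem : oA ∈ trio0 := (mem_trio0_iff _).mpr ⟨0, by norm_num, rfl⟩

theorem oB_mem : oB ∈ trio0 := (mem_trio0_iff _).mpr ⟨1, by norm_num, rfl⟩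

theorem oA_octad : oA ∈ octads := by
  have := (allFold_eq_true _ _).mp oct_ok 0 (by norm_num)
  exact dec_mem_octads this

theorem x_facts : pt x1 ∈ oA ∧ pt x2 ∈ oB ∧ pt x2 ∉ oA := by
  have h := x_ok
  simp only [Bool.and_eq_true, Bool.not_eq_true'] at h
  have e1 : idx (pt x1) = x1 := idx_pt x1 (by decide)
  have e2 : idx (pt x2) = x2 := idx_pt x2 (by decide)
  refine ⟨?_, ?_, ?_⟩
  · rw [oA, mem_dec, e1]; exact h.1.1
  · rw [oB, mem_dec, e2]; exact h.1.2
  · rw [oA, mem_dec, e2, h.2]; exact Bool.false_ne_true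

/-- An element of the kernel fixing the two base points is trivial. -/
theorem kerP_eq_one {σ : Equiv.Perm GolayPt} (hσ : KerP σ) (h1 : σ (pt x1) = pt x1)
    (h2 : σ (pt x2) = pt x2) : σ = 1 := by
  have hfix : ∀ p ∈ oA, σ p = p := fun p hp => kerP_fix hσ h1 ⟨oA, oA_mem, x_facts.1, hp⟩
  have hA : σ ∈ ptStab oA := (mem_ptStab_iff oA σ).mpr ⟨hσ.1.1, hfix⟩
  have hB : σ ∈ setPtStab oA (pt x2) := by
    rw [mem_setPtStab_iff, mem_setStab_iff]
    exact ⟨⟨hσ.1.1, hσ.2.2 oA oA_mem⟩, h2⟩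
  have hmem : σ ∈ ptStab oA ⊓ setPtStab oA (pt x2) := Subgroup.mem_inf.mpr ⟨hA, hB⟩
  rw [ptStab_inf_setPtStab oA_octad x_facts.2.2, Subgroup.mem_bot] at hmem
  exact hmem

/-! ### The homomorphism onto `GL(3, 2) × S₃` -/

/-- The linear automorphisms of the 3-space, as matrices. -/
noncomputable def linGL : (V3 ≃ₗ[ZMod 2] V3) ≃* GL (Fin 3) (ZMod 2) :=
  (LinearMap.GeneralLinearGroup.generalLinearEquiv (ZMod 2) V3).symm.trans
    Matrix.GeneralLinearGroup.toLin.symm

theorem card_GL3 : Nat.card (GL (Fin 3) (ZMod 2)) = 168 := by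
  rw [Matrix.card_GL_field, ZMod.card, Fin.prod_univ_three]
  rfl

theorem card_lin : Nat.card (V3 ≃ₗ[ZMod 2] V3) = 168 := by
  rw [Nat.card_congr linGL.toEquiv, card_GL3]

instance finite_lin : Finite (V3 ≃ₗ[ZMod 2] V3) :=
  Nat.finite_of_card_ne_zero (by rw [card_lin]; norm_num)

/-- The stabiliser of the base trio. -/
abbrev H0 : Subgroup ↥M24 := MulAction.stabilizer ↥M24 trio0

theorem trioStabP_coe (h : ↥H0) : TrioStabP ((h : ↥M24) : Equiv.Perm GolayPt) :=
  ⟨(h : ↥M24).2, MulAction.mem_stabilizer_iff.mp h.2⟩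

/-- The linear automorphism induced by an element of the stabiliser. -/
noncomputable def piLin (h : ↥H0) : V3 ≃ₗ[ZMod 2] V3 :=
  { toFun := piFun ((h : ↥M24) : Equiv.Perm GolayPt)
    map_add' := piFun_add (trioStabP_coe h)
    map_smul' := fun c x => ZMod.map_smul
      (AddMonoidHom.mk' (piFun ((h : ↥M24) : Equiv.Perm GolayPt)) (piFun_add (trioStabP_coe h))) c x
    invFun := piFun (((h : ↥M24) : Equiv.Perm GolayPt))⁻¹
    left_inv := fun v => by
      rw [← piFun_mul (trioStabP_coe h).inv (trioStabP_coe h), inv_mul_cancel, piFun_one]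
    right_inv := fun v => by
      rw [← piFun_mul (trioStabP_coe h) (trioStabP_coe h).inv, mul_inv_cancel, piFun_one] }

theorem piLin_apply (h : ↥H0) (v : V3) :
    piLin h v = piFun ((h : ↥M24) : Equiv.Perm GolayPt) v := rfl

/-- The action on the seven refining sextets, as linear automorphisms. -/
noncomputable def phi1 : ↥H0 →* (V3 ≃ₗ[ZMod 2] V3) where
  toFun := piLin
  map_one' := LinearEquiv.ext fun v => piFun_one v
  map_mul' a b := LinearEquiv.ext fun v => piFun_mul (trioStabP_coe a) (trioStabP_coe b) v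

/-- The members of the base trio, numbered. -/
noncomputable def trioEquiv : ↥trio0 ≃ Fin 3 :=
  Fintype.equivFinOfCardEq (by rw [Fintype.card_coe]; exact trio0_mem.1)

/-- The action on the three octads. -/
noncomputable def phi2 : ↥H0 →* Equiv.Perm (Fin 3) :=
  (trioEquiv.permCongrHom.toMonoidHom).comp (famHom trio0)

/-- The product homomorphism. -/
noncomputable def Phi : ↥H0 →* (V3 ≃ₗ[ZMod 2] V3) × Equiv.Perm (Fin 3) := phi1.prod phi2

theorem kerP_of_mem_ker {h : ↥H0} (hh : h ∈ Phi.ker) :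
    KerP ((h : ↥M24) : Equiv.Perm GolayPt) := by
  rw [MonoidHom.mem_ker] at hh
  have h1 : phi1 h = 1 := congrArg Prod.fst hh
  have h2 : phi2 h = 1 := congrArg Prod.snd hh
  refine ⟨trioStabP_coe h, ?_, ?_⟩
  · intro k hk
    obtain ⟨v, hv⟩ := exists_num_eq k (by omega)
    have hv0 : v ≠ 0 := by
      rintro rfl
      have : num (0 : V3) = 0 := (num_eq_zero_iff 0).mpr rfl
      omega
    have h3 := (piFun_spec (trioStabP_coe h) hv0).2
    have h4 : piFun ((h : ↥M24) : Equiv.Perm GolayPt) v = v := by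
      have := congrArg (fun l : V3 ≃ₗ[ZMod 2] V3 => l v) h1
      exact this
    rw [h4, hv] at h3
    exact h3
  · have h5 : famHom trio0 h = 1 := by
      have : trioEquiv.permCongrHom (famHom trio0 h) = 1 := h2
      rwa [MulEquiv.map_eq_one_iff] at this
    exact (mem_ker_famHom trio0 h).mp h5

theorem ker_mul_self (x : ↥H0) (hx : x ∈ Phi.ker) : x * x = 1 := by
  apply Subtype.ext
  apply Subtype.ext
  apply Equiv.ext
  intro p
  exact kerP_apply_apply (kerP_of_mem_ker hx) p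

theorem card_ker_le : Nat.card Phi.ker ≤ 64 := by
  classical
  let j : ↥Phi.ker → ↥(oA ×ˢ oB) := fun h =>
    ⟨Prod.mk ((((h : ↥H0) : ↥M24) : Equiv.Perm GolayPt) (pt x1))
      ((((h : ↥H0) : ↥M24) : Equiv.Perm GolayPt) (pt x2)), by
      have hk := kerP_of_mem_ker h.2
      rw [Finset.mem_product]
      exact ⟨mem_of_smul_eq (hk.2.2 oA oA_mem) x_facts.1,
        mem_of_smul_eq (hk.2.2 oB oB_mem) x_facts.2.1⟩⟩
  have hj : Function.Injective j := by
    intro a b hab
    have hab' := congrArg Subtype.val hab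
    have e1 : (((a : ↥H0) : ↥M24) : Equiv.Perm GolayPt) (pt x1) =
        (((b : ↥H0) : ↥M24) : Equiv.Perm GolayPt) (pt x1) := congrArg Prod.fst hab'
    have e2 : (((a : ↥H0) : ↥M24) : Equiv.Perm GolayPt) (pt x2) =
        (((b : ↥H0) : ↥M24) : Equiv.Perm GolayPt) (pt x2) := congrArg Prod.snd hab'
    have hk := (kerP_of_mem_ker b.2).inv.mul (kerP_of_mem_ker a.2)
    have h1 := kerP_eq_one hk (by
      rw [Equiv.Perm.mul_apply, e1]; simp) (by
      rw [Equiv.Perm.mul_apply, e2]; simp)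
    have h2 : (((a : ↥H0) : ↥M24) : Equiv.Perm GolayPt) =
        (((b : ↥H0) : ↥M24) : Equiv.Perm GolayPt) := by
      rw [inv_mul_eq_one] at h1
      exact h1.symm
    exact Subtype.ext (Subtype.ext (Subtype.ext h2))
  have h := Nat.card_le_card_of_injective j hj
  have hc : Nat.card ↥(oA ×ˢ oB) = 64 := by
    rw [Nat.card_eq_fintype_card, Fintype.card_coe, Finset.card_product, oA_octad.2]
    have : oB ∈ octads := by
      have := (allFold_eq_true _ _).mp oct_ok 1 (by norm_num)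
      exact dec_mem_octads this
    rw [this.2]
  rwa [hc] at h

theorem orbit_eq_trios {T : FF} (hT : T ∈ trios) : MulAction.orbit (↥M24) T = trios := by
  ext y
  constructor
  · rintro ⟨g, rfl⟩
    exact smul_mem_trios g.2 hT
  · intro hy
    obtain ⟨g, hg, rfl⟩ := exists_smul_trio0_eq hT
    obtain ⟨g', hg', rfl⟩ := exists_smul_trio0_eq hy
    refine ⟨⟨g' * g⁻¹, M24.mul_mem hg' (M24.inv_mem hg)⟩, ?_⟩
    show (g' * g⁻¹) • g • trio0 = g' • trio0
    rw [mul_smul, inv_smul_smul]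

theorem card_stabilizer_trio {T : FF} (hT : T ∈ trios) :
    Nat.card (MulAction.stabilizer (↥M24) T) = 64512 := by
  have h1 := Subgroup.card_mul_index (MulAction.stabilizer (↥M24) T)
  rw [MulAction.index_stabilizer, Cfsg.Agent.S0364.result, orbit_eq_trios hT,
    Cfsg.Agent.S1557.trios_ncard] at h1
  omega

theorem card_ker_and_range : Nat.card Phi.ker = 64 ∧ Phi.range = ⊤ := by
  have h1 := Subgroup.card_mul_index Phi.ker
  rw [Subgroup.index_ker, card_stabilizer_trio trio0_mem] at h1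
  have h2 := card_ker_le
  have h3 : Nat.card Phi.range ≤ 1008 := by
    have := Subgroup.card_le_card_group Phi.range
    rwa [Nat.card_prod, card_lin, Nat.card_perm, Nat.card_eq_fintype_card (α := Fin 3),
      Fintype.card_fin] at this
  have h4 : Nat.card Phi.ker * Nat.card Phi.range ≤ Nat.card Phi.ker * 1008 :=
    Nat.mul_le_mul_left _ h3
  have h5 : Nat.card Phi.ker = 64 := by omega
  refine ⟨h5, ?_⟩
  rw [h5] at h1
  have h6 : Nat.card Phi.range = 1008 := by omega
  apply (Subgroup.card_eq_iff_eq_top _).mp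
  rw [h6, Nat.card_prod, card_lin, Nat.card_perm, Nat.card_eq_fintype_card (α := Fin 3),
    Fintype.card_fin]
  rfl

/-- The structure of the stabiliser of the base trio. -/
theorem trio0_struct : ∃ (N : Subgroup ↥H0) (_ : N.Normal), Nat.card N = 64 ∧
    (∀ x ∈ N, x * x = 1) ∧
    Nonempty (↥H0 ⧸ N ≃* GL (Fin 3) (ZMod 2) × Equiv.Perm (Fin 3)) := by
  refine ⟨Phi.ker, inferInstance, card_ker_and_range.1, ker_mul_self, ?_⟩
  have hs : Function.Surjective Phi := MonoidHom.range_eq_top.mp card_ker_and_range.2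
  exact ⟨(QuotientGroup.quotientKerEquivOfSurjective Phi hs).trans
    (MulEquiv.prodCongr linGL (MulEquiv.refl _))⟩

/-- The structure of the stabiliser of any trio. -/
theorem trio_struct {T : FF} (hT : T ∈ trios) :
    ∃ (N : Subgroup ↥(MulAction.stabilizer ↥M24 T)) (_ : N.Normal), Nat.card N = 64 ∧
      (∀ x ∈ N, x * x = 1) ∧
      Nonempty (↥(MulAction.stabilizer ↥M24 T) ⧸ N ≃* GL (Fin 3) (ZMod 2) × Equiv.Perm (Fin 3)) := by
  obtain ⟨g, hg, rfl⟩ := exists_smul_trio0_eq hT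
  have e : ↥H0 ≃* ↥(MulAction.stabilizer ↥M24 (g • trio0)) :=
    MulAction.stabilizerEquivStabilizer (G := ↥M24) (g := ⟨g, hg⟩) (a := trio0) (b := g • trio0) rfl
  exact transport_normal_quotient e 64 trio0_struct

theorem swapsInduced_trio {T : FF} (hT : T ∈ trios) : SwapsInduced T := by
  obtain ⟨g, hg, rfl⟩ := exists_smul_trio0_eq hT
  exact (swapsInduced_of_table 3 c0 swapTab swapTab_ok).smul hg

end Cfsg.Agent.Lib.Helper26_Golay
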