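import Mathlib
import Cfsg.Agent.S1248
import Cfsg.Agent.Lib.Helper56_U320Defs
import Cfsg.Agent.Lib.Helper56_U320Model

/-!
# S1903 package COMM (architect helper56, market `s1903_packages`)  (helper26)

The commutator subgroup of `C = C_{SU₃(4)}(mSU p0)` is the image of the parameter group `PF F`: order 64, isomorphic to `PF F`.
`comm_cent_aux` takes the statements of the packages ZETA (a fifth root of unity), ACT (`hSU_conj`) and CENT (`cent_matrix`)
as hypotheses.
-/

set_option autoImplicit false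

namespace Cfsg.Agent.Lib.Helper26_U320_COMM

open Matrix Cfsg.Agent.S1248 Cfsg.Agent.Lib.Helper56_U320Defs Cfsg.Agent.Lib.Helper56_U320Model

section
variable {F : Type*} [Field F] [CharP F 2] [h16 : Fact (∀ x : F, x ^ 16 = x)]

/-- the subfield with four elements has four elements -/
theorem card_K [Fintype F] (hF : Fintype.card F = 16) : Nat.card (PF.K F) = 4 := by
  classical
  obtain ⟨ω, hω4, hω0, hω1⟩ := exists_omega hF
  have h2 : (2 : F) = 0 := two_eq_zero hF
  apply le_antisymm
  · -- at most four roots of `X^4 - X`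
    have hdeg : (Polynomial.X ^ 4 - Polynomial.X : Polynomial F).natDegree = 4 :=
      FiniteField.X_pow_card_sub_X_natDegree_eq F (by norm_num)
    have hne : (Polynomial.X ^ 4 - Polynomial.X : Polynomial F) ≠ 0 :=
      FiniteField.X_pow_card_sub_X_ne_zero F (by norm_num)
    have hsub : Finset.univ.filter (fun k : F => k ^ 4 = k) ⊆
        (Polynomial.X ^ 4 - Polynomial.X : Polynomial F).roots.toFinset := by
      intro k hk
      rw [Multiset.mem_toFinset, Polynomial.mem_roots hne]
      have := (Finset.mem_filter.mp hk).2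
      simp [Polynomial.IsRoot, this]
    rw [Nat.card_eq_fintype_card, Fintype.card_subtype]
    calc (Finset.univ.filter (fun k : F => k ^ 4 = k)).card
        ≤ (Polynomial.X ^ 4 - Polynomial.X : Polynomial F).roots.toFinset.card :=
          Finset.card_le_card hsub
      _ ≤ Multiset.card (Polynomial.X ^ 4 - Polynomial.X : Polynomial F).roots :=
          Multiset.toFinset_card_le _
      _ ≤ (Polynomial.X ^ 4 - Polynomial.X : Polynomial F).natDegree := Polynomial.card_roots' _
      _ = 4 := hdeg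
  · have hsub : ({0, 1, ω, ω + 1} : Finset F) ⊆ Finset.univ.filter (fun k : F => k ^ 4 = k) := by
      intro x hx
      simp only [Finset.mem_insert, Finset.mem_singleton] at hx
      rw [Finset.mem_filter]
      refine ⟨Finset.mem_univ _, ?_⟩
      rcases hx with rfl | rfl | rfl | rfl
      · simp
      · simp
      · exact hω4
      · grind
    have hcard : ({0, 1, ω, ω + 1} : Finset F).card = 4 := by
      rw [Finset.card_insert_of_notMem, Finset.card_insert_of_notMem, Finset.card_insert_of_notMem,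
        Finset.card_singleton]
      · simp only [Finset.mem_singleton]
        intro h
        exact one_ne_zero (α := F) (by linear_combination -h)
      · simp only [Finset.mem_insert, Finset.mem_singleton, not_or]
        refine ⟨fun h => hω1 h.symm, fun h => hω0 ?_⟩
        linear_combination -h
      · simp only [Finset.mem_insert, Finset.mem_singleton, not_or]
        refine ⟨zero_ne_one, fun h => hω0 h.symm, fun h => hω1 ?_⟩
        linear_combination -h - h2
    have := Finset.card_le_card hsub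
    rw [hcard] at this
    rw [Nat.card_eq_fintype_card, Fintype.card_subtype]
    exact this

/-- the parameter group has order 64 -/
theorem card_PF [Fintype F] (hF : Fintype.card F = 16) : Nat.card (PF F) = 64 := by
  obtain ⟨τ, hτ⟩ := exists_tau hF
  rw [Nat.card_congr (PF.equivProd τ hτ), Nat.card_prod, Nat.card_eq_fintype_card (α := F), hF,
    card_K hF]

variable [Fintype F]

open scoped commutatorElement

/-- COMM with the statements of ZETA, ACT (`hSU_conj`) and CENT (`cent_matrix`) as hypotheses -/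
theorem comm_cent_aux (hF : Fintype.card F = 16) (ζ : F) (hζ : ζ ^ 5 = 1) (hζ1 : ζ ≠ 1)
    (hconj : ∀ (ξ : F) (hξ : ξ ^ 5 = 1) (p : PF F),
      hSU hF ξ hξ * mSU hF p = mSU hF (actP ξ hξ p) * hSU hF ξ hξ)
    (hcent : ∀ g : Cfsg.SU 3 F 4, g * mSU hF p0 = mSU hF p0 * g →
      ∃ j : ℕ, ∃ p : PF F, g = hSU hF ζ hζ ^ j * mSU hF p) :
    Nat.card (commutator ↥(Subgroup.centralizer ({mSU hF (p0 : PF F)} : Set (Cfsg.SU 3 F 4)))) = 64 ∧
    Nonempty (↥(commutator ↥(Subgroup.centralizer ({mSU hF (p0 : PF F)} : Set (Cfsg.SU 3 F 4)))) ≃* PF F) := by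
  classical
  obtain ⟨τ, hτ⟩ := exists_tau hF
  have h2 : (2 : F) = 0 := two_eq_zero hF
  set C : Subgroup (Cfsg.SU 3 F 4) := Subgroup.centralizer ({mSU hF (p0 : PF F)} : Set (Cfsg.SU 3 F 4))
    with hC
  set Q : Subgroup (Cfsg.SU 3 F 4) := (mHom (F := F) hF).range with hQ
  set h : Cfsg.SU 3 F 4 := hSU hF ζ hζ with hh
  have hmHom : ∀ p : PF F, mHom hF p = mSU hF p := fun p => rfl
  have memC : ∀ g : Cfsg.SU 3 F 4, g ∈ C ↔ g * mSU hF p0 = mSU hF p0 * g := by
    intro g
    rw [hC, Subgroup.mem_centralizer_iff]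
    constructor
    · intro hg
      exact (hg _ rfl).symm
    · intro hg x hx
      rw [Set.mem_singleton_iff] at hx
      rw [hx]
      exact hg.symm
  -- `Q ≤ C`
  have hp0c : ∀ p : PF F, p * p0 = p0 * p := by
    intro p
    apply PF.ext
    · rw [PF.mul_b, PF.mul_b, add_comm]
    · rw [PF.mul_c, PF.mul_c]
      show p.c + (1 : F) + p.b ^ 4 * 0 = 1 + p.c + (0 : F) ^ 4 * p.b
      ring
  have hQC : ∀ p : PF F, mSU hF p ∈ C := by
    intro p
    rw [memC, ← hmHom, ← hmHom, ← map_mul, ← map_mul, hp0c]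
  -- `h ∈ C`
  have hact0 : actP ζ hζ (p0 : PF F) = p0 := by
    apply PF.ext
    · show ζ ^ 2 * (0 : F) = 0
      ring
    · rfl
  have hhC : h ∈ C := by
    rw [memC, hh, hconj ζ hζ p0, hact0]
  -- `h` normalizes `Q`
  have hξ : (ζ ^ 4) ^ 5 = 1 := by rw [← pow_mul, show 4 * 5 = 5 * 4 by norm_num, pow_mul, hζ, one_pow]
  have hactinv : ∀ p : PF F, actP ζ hζ (actP (ζ ^ 4) hξ p) = p := by
    intro p
    apply PF.ext
    · show ζ ^ 2 * ((ζ ^ 4) ^ 2 * p.b) = p.b
      have : ζ ^ 2 * ((ζ ^ 4) ^ 2 * p.b) = (ζ ^ 5) ^ 2 * p.b := by ring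
      rw [this, hζ, one_pow, one_mul]
    · rfl
  have hhN : h ∈ Subgroup.normalizer (Q : Set (Cfsg.SU 3 F 4)) := by
    rw [Subgroup.mem_normalizer_iff]
    intro q
    constructor
    · rintro ⟨p, rfl⟩
      refine ⟨actP ζ hζ p, ?_⟩
      rw [hmHom, hmHom, eq_mul_inv_iff_mul_eq]
      exact (hconj ζ hζ p).symm
    · rintro ⟨p, hp⟩
      refine ⟨actP (ζ ^ 4) hξ p, ?_⟩
      rw [hmHom] at hp ⊢
      have e1 : h * mSU hF (actP (ζ ^ 4) hξ p) = mSU hF p * h := by
        have := hconj ζ hζ (actP (ζ ^ 4) hξ p)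
        rwa [hactinv] at this
      rw [hp] at e1
      -- `h * m' = h * q * h⁻¹ * h`
      have : h * mSU hF (actP (ζ ^ 4) hξ p) = h * q := by
        rw [e1]; group
      exact mul_left_cancel this
  have hQN : Q ≤ Subgroup.normalizer (Q : Set (Cfsg.SU 3 F 4)) := Subgroup.le_normalizer
  -- commutators of elements of `C` lie in `Q`
  have key1 : ∀ g1 ∈ C, ∀ g2 ∈ C, ⁅g1, g2⁆ ∈ Q := by
    intro g1 hg1 g2 hg2
    obtain ⟨a, p1, rfl⟩ := hcent g1 ((memC g1).mp hg1)
    obtain ⟨b, p2, rfl⟩ := hcent g2 ((memC g2).mp hg2)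
    set N : Subgroup (Cfsg.SU 3 F 4) := Subgroup.normalizer (Q : Set (Cfsg.SU 3 F 4)) with hN
    haveI : (Q.subgroupOf N).Normal := Subgroup.normal_in_normalizer
    let hN' : N := ⟨h, hhN⟩
    let m1 : N := ⟨mSU hF p1, hQN ⟨p1, rfl⟩⟩
    let m2 : N := ⟨mSU hF p2, hQN ⟨p2, rfl⟩⟩
    have hm1 : (QuotientGroup.mk' (Q.subgroupOf N)) m1 = 1 := by
      rw [QuotientGroup.mk'_apply, QuotientGroup.eq_one_iff, Subgroup.mem_subgroupOf]
      exact ⟨p1, rfl⟩
    have hm2 : (QuotientGroup.mk' (Q.subgroupOf N)) m2 = 1 := by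
      rw [QuotientGroup.mk'_apply, QuotientGroup.eq_one_iff, Subgroup.mem_subgroupOf]
      exact ⟨p2, rfl⟩
    have hcomm : (QuotientGroup.mk' (Q.subgroupOf N)) ⁅hN' ^ a * m1, hN' ^ b * m2⁆ = 1 := by
      rw [map_commutatorElement, map_mul, map_mul, map_pow, map_pow, hm1, hm2, mul_one, mul_one]
      exact (Commute.pow_pow (Commute.refl _) a b).commutator_eq
    rw [QuotientGroup.mk'_apply, QuotientGroup.eq_one_iff, Subgroup.mem_subgroupOf] at hcomm
    exact hcomm
  -- the elements of `Q` are products of commutators of elements of `C`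
  have hζ2 : ζ ^ 2 + 1 ≠ 0 := by
    have : ζ ^ 2 + 1 = (ζ + 1) ^ 2 := by linear_combination (-ζ) * h2
    rw [this]
    intro h0
    have h1 : ζ + 1 = 0 := by simpa using h0
    apply hζ1
    linear_combination h1 - h2
  have key2 : ∀ p : PF F, mSU hF p ∈ ⁅C, C⁆ := by
    intro p
    -- first the elements with `b = 0`
    have hb0 : ∀ q : PF F, q.b = 0 → mSU hF q ∈ ⁅C, C⁆ := by
      intro q hq
      obtain ⟨x, y, rfl⟩ := PF.exists_commutator τ hτ q hq
      rw [← hmHom, map_commutatorElement]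
      exact Subgroup.commutator_mem_commutator (hQC x) (hQC y)
    -- a commutator with first parameter `p.b`
    set p1 : PF F := PF.mkOf τ hτ (p.b / (ζ ^ 2 + 1)) 0 (by simp) with hp1
    have hp1b : p1.b = p.b / (ζ ^ 2 + 1) := rfl
    set q : PF F := actP ζ hζ p1 * p1⁻¹ with hq
    have hqmem : mSU hF q ∈ ⁅C, C⁆ := by
      have e : mSU hF q = ⁅h, mSU hF p1⁆ := by
        rw [commutatorElement_def, hh, hconj ζ hζ p1, hq, ← hmHom, map_mul, map_inv, hmHom, hmHom]
        group
      rw [e]
      exact Subgroup.commutator_mem_commutator hhC (hQC p1)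
    have hqb : q.b = p.b := by
      rw [hq, PF.mul_b, PF.inv_b]
      show ζ ^ 2 * p1.b + p1.b = p.b
      rw [hp1b]
      field_simp
    have hpq : (p * q⁻¹).b = 0 := by
      rw [PF.mul_b, PF.inv_b, hqb]
      linear_combination p.b * h2
    have : mSU hF p = mSU hF (p * q⁻¹) * mSU hF q := by
      rw [← hmHom, ← hmHom, ← hmHom, ← map_mul, inv_mul_cancel_right]
    rw [this]
    exact Subgroup.mul_mem _ (hb0 _ hpq) hqmem
  have hCC : ⁅C, C⁆ = Q := by
    apply le_antisymm
    · rw [Subgroup.commutator_le]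
      exact key1
    · rintro _ ⟨p, rfl⟩
      exact key2 p
  -- transport to the commutator subgroup of the group `↥C`
  have hmap : (commutator ↥C).map C.subtype = Q := by
    rw [commutator_def, Subgroup.map_commutator, ← MonoidHom.range_eq_map, Subgroup.range_subtype, hCC]
  let e : ↥(commutator ↥C) ≃* PF F :=
    ((commutator ↥C).equivMapOfInjective C.subtype Subtype.coe_injective).trans
      ((MulEquiv.subgroupCongr hmap).trans (MonoidHom.ofInjective (mHom_injective hF)).symm)
  exact ⟨by rw [Nat.card_congr e.toEquiv, card_PF hF], ⟨e⟩⟩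

end

end Cfsg.Agent.Lib.Helper26_U320_COMM
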