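import Mathlib

set_option autoImplicit false
set_option linter.unusedVariables false

/-!
U4 G-ABS1 (S2150, architect helper39): pure finite group theory, orbit counting on `G/H` (CASE I).
-/

namespace Cfsg.Agent.Lib.Helper26_U4_GABS1

section
variable {𝔾 : Type*} [Group 𝔾]

lemma mem_stab_iff (K H : Subgroup 𝔾) (g : 𝔾) (k : ↥K) :
    k ∈ MulAction.stabilizer K (QuotientGroup.mk g : 𝔾 ⧸ H) ↔ g⁻¹ * (k : 𝔾) * g ∈ H := by
  rw [MulAction.mem_stabilizer_iff]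
  have h1 : k • (QuotientGroup.mk g : 𝔾 ⧸ H) = QuotientGroup.mk ((k : 𝔾) * g) := rfl
  rw [h1, QuotientGroup.eq]
  constructor
  · intro h
    have := H.inv_mem h
    simpa [mul_assoc] using this
  · intro h
    have := H.inv_mem h
    simpa [mul_assoc] using this

/-- orbit–stabiliser for the action of a subgroup `K` on the cosets of `H` -/
lemma card_orbit_mul [Finite 𝔾] (K H M : Subgroup 𝔾) (g : 𝔾)
    (hM : ∀ x, x ∈ M ↔ x ∈ K ∧ g⁻¹ * x * g ∈ H) :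
    Nat.card (MulAction.orbit K (QuotientGroup.mk g : 𝔾 ⧸ H)) * Nat.card M = Nat.card K := by
  classical
  let e : ↥(MulAction.stabilizer K (QuotientGroup.mk g : 𝔾 ⧸ H)) ≃ ↥M :=
    { toFun := fun k => ⟨((k : ↥K) : 𝔾), (hM _).mpr ⟨(k : ↥K).2, (mem_stab_iff K H g k).mp k.2⟩⟩
      invFun := fun x => ⟨⟨(x : 𝔾), ((hM _).mp x.2).1⟩,
        (mem_stab_iff K H g ⟨(x : 𝔾), ((hM _).mp x.2).1⟩).mpr ((hM _).mp x.2).2⟩
      left_inv := fun k => rfl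
      right_inv := fun x => rfl }
  rw [← Nat.card_congr e]
  rw [Nat.card_congr (MulAction.orbitEquivQuotientStabilizer K (QuotientGroup.mk g : 𝔾 ⧸ H))]
  exact (Subgroup.card_eq_card_quotient_mul_card_subgroup _).symm
end

section
variable {𝔾 : Type*} [Group 𝔾]

lemma orbit_sub (G H P : Subgroup 𝔾) (hPG : P ≤ G) (g : 𝔾) (hg : g ∈ G) :
    MulAction.orbit P (QuotientGroup.mk g : 𝔾 ⧸ H) ⊆
      MulAction.orbit G (QuotientGroup.mk 1 : 𝔾 ⧸ H) := by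
  rintro _ ⟨p, rfl⟩
  refine ⟨⟨(p : 𝔾) * g, G.mul_mem (hPG p.2) hg⟩, ?_⟩
  show (QuotientGroup.mk ((p : 𝔾) * g * 1) : 𝔾 ⧸ H) = QuotientGroup.mk ((p : 𝔾) * g)
  rw [mul_one]

theorem caseI_abs [Finite 𝔾] (G H P Q X : Subgroup 𝔾) (a b : ℕ)
    (hHG : H ≤ G) (hPG : P ≤ G) (hXP : X ≤ P) (hXn : ∀ p ∈ P, ∀ x ∈ X, p * x * p⁻¹ ∈ X)
    (hA : ∀ M : Subgroup 𝔾, M ≤ P → ¬ X ≤ M → a * Nat.card M ≤ Nat.card P)
    (hB : ∀ T : Subgroup 𝔾, T ≤ P → Nat.card P ≤ b * Nat.card T → Q ≤ T)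
    (hgen : ∀ K : Subgroup 𝔾, (∀ g ∈ G, ∀ x ∈ X, g * x * g⁻¹ ∈ K) → G ≤ K)
    (hXH : X ≤ H) (hHne : H ≠ G) (hidx : Nat.card G < (a + b + 1) * Nat.card H) : Q ≤ H := by
  classical
  have hex : ∃ g ∈ G, ∃ x ∈ X, g * x * g⁻¹ ∉ H := by
    by_contra hcon
    push Not at hcon
    exact hHne (le_antisymm hHG (hgen H hcon))
  obtain ⟨g0, hg0G, x0, hx0X, hx0⟩ := hex
  have hgG : g0⁻¹ ∈ G := G.inv_mem hg0G
  -- the stabiliser of the second point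
  let M : Subgroup 𝔾 := P ⊓ (H.map (MulAut.conj g0⁻¹).toMonoidHom)
  have hM : ∀ x, x ∈ M ↔ x ∈ P ∧ (g0⁻¹)⁻¹ * x * g0⁻¹ ∈ H := by
    intro x
    show x ∈ P ⊓ (H.map (MulAut.conj g0⁻¹).toMonoidHom) ↔ _
    rw [Subgroup.mem_inf, Subgroup.mem_map_equiv, MulAut.conj_symm_apply]
  have hXM : ¬ X ≤ M := by
    intro hle
    have := ((hM x0).mp (hle hx0X)).2
    rw [inv_inv] at this
    exact hx0 this
  have c1 : Nat.card (MulAction.orbit P (QuotientGroup.mk 1 : 𝔾 ⧸ H)) * Nat.card ↥(P ⊓ H) =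
      Nat.card P := card_orbit_mul P H (P ⊓ H) 1 (by intro x; simp [Subgroup.mem_inf])
  have c2 : Nat.card (MulAction.orbit P (QuotientGroup.mk g0⁻¹ : 𝔾 ⧸ H)) * Nat.card M =
      Nat.card P := card_orbit_mul P H M g0⁻¹ hM
  have cG : Nat.card (MulAction.orbit G (QuotientGroup.mk 1 : 𝔾 ⧸ H)) * Nat.card H =
      Nat.card G := card_orbit_mul G H H 1 (by
        intro x; simp only [inv_one, one_mul, mul_one]
        exact ⟨fun h => ⟨hHG h, h⟩, fun h => h.2⟩)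
  have hdisj : Disjoint (MulAction.orbit P (QuotientGroup.mk 1 : 𝔾 ⧸ H))
      (MulAction.orbit P (QuotientGroup.mk g0⁻¹ : 𝔾 ⧸ H)) := by
    rw [Set.disjoint_left]
    rintro _ ⟨p, rfl⟩ ⟨p', hp'⟩
    have h1 : (QuotientGroup.mk ((p' : 𝔾) * g0⁻¹) : 𝔾 ⧸ H) = QuotientGroup.mk ((p : 𝔾) * 1) := hp'
    rw [mul_one, QuotientGroup.eq] at h1
    -- h1 : (p' g0⁻¹)⁻¹ * p ∈ H
    apply hx0
    have hpp : ((p : 𝔾)⁻¹ * (p' : 𝔾)) * x0 * ((p : 𝔾)⁻¹ * (p' : 𝔾))⁻¹ ∈ H :=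
      hXH (hXn _ (P.mul_mem (P.inv_mem p.2) p'.2) x0 hx0X)
    have h2 := H.mul_mem (H.mul_mem h1 hpp) (H.inv_mem h1)
    have e : ((p' : 𝔾) * g0⁻¹)⁻¹ * (p : 𝔾) *
        (((p : 𝔾)⁻¹ * (p' : 𝔾)) * x0 * ((p : 𝔾)⁻¹ * (p' : 𝔾))⁻¹) *
        (((p' : 𝔾) * g0⁻¹)⁻¹ * (p : 𝔾))⁻¹ = g0 * x0 * g0⁻¹ := by group
    rw [e] at h2
    exact h2
  have hsub : MulAction.orbit P (QuotientGroup.mk 1 : 𝔾 ⧸ H) ∪
      MulAction.orbit P (QuotientGroup.mk g0⁻¹ : 𝔾 ⧸ H) ⊆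
      MulAction.orbit G (QuotientGroup.mk 1 : 𝔾 ⧸ H) :=
    Set.union_subset (orbit_sub G H P hPG 1 G.one_mem) (orbit_sub G H P hPG g0⁻¹ hgG)
  have hcard : Nat.card (MulAction.orbit P (QuotientGroup.mk 1 : 𝔾 ⧸ H)) +
      Nat.card (MulAction.orbit P (QuotientGroup.mk g0⁻¹ : 𝔾 ⧸ H)) ≤
      Nat.card (MulAction.orbit G (QuotientGroup.mk 1 : 𝔾 ⧸ H)) := by
    rw [Nat.card_coe_set_eq, Nat.card_coe_set_eq, Nat.card_coe_set_eq,
      ← Set.ncard_union_eq hdisj (Set.toFinite _) (Set.toFinite _)]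
    exact Set.ncard_le_ncard hsub (Set.toFinite _)
  have hMpos : 0 < Nat.card M := Nat.card_pos
  have hHpos : 0 < Nat.card H := Nat.card_pos
  have ha : a ≤ Nat.card (MulAction.orbit P (QuotientGroup.mk g0⁻¹ : 𝔾 ⧸ H)) := by
    have := hA M inf_le_left hXM
    rw [← c2] at this
    exact Nat.le_of_mul_le_mul_right this hMpos
  have hΩ : Nat.card (MulAction.orbit G (QuotientGroup.mk 1 : 𝔾 ⧸ H)) < a + b + 1 := by
    rw [← cG] at hidx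
    exact Nat.lt_of_mul_lt_mul_right hidx
  have hb : Nat.card (MulAction.orbit P (QuotientGroup.mk 1 : 𝔾 ⧸ H)) ≤ b := by omega
  have hfin : Nat.card P ≤ b * Nat.card ↥(P ⊓ H) := by
    rw [← c1]
    exact Nat.mul_le_mul_right _ hb
  exact le_trans (hB (P ⊓ H) inf_le_left hfin) inf_le_right
end

end Cfsg.Agent.Lib.Helper26_U4_GABS1
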