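import Mathlib
import Cfsg.Agent.Lib.Helper26_U4_GABS1

set_option autoImplicit false
set_option linter.unusedVariables false

/-!
U4 G-ABS2 (S2150, architect helper39): pure finite group theory, orbit counting on `G/H` (CASE II).
-/

namespace Cfsg.Agent.Lib.Helper26_U4_GABS2

open Cfsg.Agent.Lib.Helper26_U4_GABS1

section
variable {𝔾 : Type*} [Group 𝔾]

theorem caseII_abs [Finite 𝔾] (G H P X : Subgroup 𝔾) (a : ℕ)
    (hHG : H ≤ G) (hPG : P ≤ G) (hXP : X ≤ P)
    (hA : ∀ M : Subgroup 𝔾, M ≤ P → ¬ X ≤ M → a * Nat.card M ≤ Nat.card P)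
    (hno : ∀ g ∈ G, ∃ x ∈ X, g * x * g⁻¹ ∉ H)
    (hidx : Nat.card G < 2 * a * Nat.card H) :
    (∀ g ∈ G, ∃ p ∈ P, ∃ k ∈ H, g = p * k) ∧
    Nat.card G * Nat.card ↥(P ⊓ H) = Nat.card P * Nat.card H := by
  classical
  have c1 : Nat.card (MulAction.orbit P (QuotientGroup.mk 1 : 𝔾 ⧸ H)) * Nat.card ↥(P ⊓ H) =
      Nat.card P := card_orbit_mul P H (P ⊓ H) 1 (by intro x; simp [Subgroup.mem_inf])
  have cG : Nat.card (MulAction.orbit G (QuotientGroup.mk 1 : 𝔾 ⧸ H)) * Nat.card H =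
      Nat.card G := card_orbit_mul G H H 1 (by
        intro x; simp only [inv_one, one_mul, mul_one]
        exact ⟨fun h => ⟨hHG h, h⟩, fun h => h.2⟩)
  have hΩ : Nat.card (MulAction.orbit G (QuotientGroup.mk 1 : 𝔾 ⧸ H)) < 2 * a := by
    rw [← cG] at hidx
    exact Nat.lt_of_mul_lt_mul_right hidx
  -- every orbit is large
  have hbig : ∀ g ∈ G, a ≤ Nat.card (MulAction.orbit P (QuotientGroup.mk g : 𝔾 ⧸ H)) := by
    intro g hg
    let M : Subgroup 𝔾 := P ⊓ (H.map (MulAut.conj g).toMonoidHom)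
    have hM : ∀ x, x ∈ M ↔ x ∈ P ∧ g⁻¹ * x * g ∈ H := by
      intro x
      show x ∈ P ⊓ (H.map (MulAut.conj g).toMonoidHom) ↔ _
      rw [Subgroup.mem_inf, Subgroup.mem_map_equiv, MulAut.conj_symm_apply]
    have hXM : ¬ X ≤ M := by
      intro hle
      obtain ⟨x, hxX, hx⟩ := hno g⁻¹ (G.inv_mem hg)
      have := ((hM x).mp (hle hxX)).2
      rw [inv_inv] at hx
      exact hx this
    have c2 : Nat.card (MulAction.orbit P (QuotientGroup.mk g : 𝔾 ⧸ H)) * Nat.card M =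
        Nat.card P := card_orbit_mul P H M g hM
    have hMpos : 0 < Nat.card M := Nat.card_pos
    have := hA M inf_le_left hXM
    rw [← c2] at this
    exact Nat.le_of_mul_le_mul_right this hMpos
  -- transitivity
  have htrans : ∀ g ∈ G, (QuotientGroup.mk g : 𝔾 ⧸ H) ∈
      MulAction.orbit P (QuotientGroup.mk 1 : 𝔾 ⧸ H) := by
    intro g hg
    by_contra hnot
    have hdisj : Disjoint (MulAction.orbit P (QuotientGroup.mk 1 : 𝔾 ⧸ H))
        (MulAction.orbit P (QuotientGroup.mk g : 𝔾 ⧸ H)) := by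
      rw [Set.disjoint_left]
      intro y hy1 hy2
      apply hnot
      have e1 := MulAction.orbit_eq_iff.mpr hy1
      have e2 := MulAction.orbit_eq_iff.mpr hy2
      rw [← e1, e2]
      exact MulAction.mem_orbit_self _
    have hsub : MulAction.orbit P (QuotientGroup.mk 1 : 𝔾 ⧸ H) ∪
        MulAction.orbit P (QuotientGroup.mk g : 𝔾 ⧸ H) ⊆
        MulAction.orbit G (QuotientGroup.mk 1 : 𝔾 ⧸ H) :=
      Set.union_subset (orbit_sub G H P hPG 1 G.one_mem) (orbit_sub G H P hPG g hg)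
    have hcard : Nat.card (MulAction.orbit P (QuotientGroup.mk 1 : 𝔾 ⧸ H)) +
        Nat.card (MulAction.orbit P (QuotientGroup.mk g : 𝔾 ⧸ H)) ≤
        Nat.card (MulAction.orbit G (QuotientGroup.mk 1 : 𝔾 ⧸ H)) := by
      rw [Nat.card_coe_set_eq, Nat.card_coe_set_eq, Nat.card_coe_set_eq,
        ← Set.ncard_union_eq hdisj (Set.toFinite _) (Set.toFinite _)]
      exact Set.ncard_le_ncard hsub (Set.toFinite _)
    have h1 := hbig 1 G.one_mem
    have h2 := hbig g hg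
    omega
  refine ⟨?_, ?_⟩
  · intro g hg
    obtain ⟨p, hp⟩ := htrans g hg
    have h1 : (QuotientGroup.mk ((p : 𝔾) * 1) : 𝔾 ⧸ H) = QuotientGroup.mk g := hp
    rw [mul_one, QuotientGroup.eq] at h1
    exact ⟨p, p.2, _, h1, by group⟩
  · have heq : MulAction.orbit G (QuotientGroup.mk 1 : 𝔾 ⧸ H) =
        MulAction.orbit P (QuotientGroup.mk 1 : 𝔾 ⧸ H) := by
      apply Set.Subset.antisymm
      · rintro _ ⟨g, rfl⟩
        have := htrans g g.2
        have e : (g • (QuotientGroup.mk 1 : 𝔾 ⧸ H)) = QuotientGroup.mk (g : 𝔾) := by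
          show (QuotientGroup.mk ((g : 𝔾) * 1) : 𝔾 ⧸ H) = _
          rw [mul_one]
        show g • (QuotientGroup.mk 1 : 𝔾 ⧸ H) ∈ _
        rw [e]
        exact this
      · exact orbit_sub G H P hPG 1 G.one_mem
    rw [← cG, ← c1, heq]
    ring
end

end Cfsg.Agent.Lib.Helper26_U4_GABS2
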