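import Mathlib
import Cfsg.Agent.Lib.Helper50_UQAbsDefs
import Cfsg.Agent.Lib.Helper94_UQInst
import Cfsg.Agent.Lib.Helper27_UQ_TOR2
import Cfsg.Agent.Lib.Helper27_UQ_CARD
import Cfsg.Agent.Lib.Helper27_UQ_GEN
import Cfsg.Agent.Lib.Helper50_UQNumDefs

/-!
# S2152 package UQ-HPFREE (helper26, architect helper50): in `dim V = 4`, `K = K_v ≅ SU(W)` preserves norms on the
hyperbolic plane `W`, and an element of `K` fixing an anisotropic vector of `W` is `1`
-/

set_option autoImplicit false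

open Cfsg.Agent.Lib.Helper50_UQAbsDefs

open Module Cfsg.Agent.Lib.Helper94_Symp Cfsg.Agent.Lib.Helper94_Herm
  Cfsg.Agent.Lib.Helper13_SUGen Cfsg.Agent.Lib.Helper13_PSUSimple Cfsg.Agent.Lib.Helper14_PSULocal1
  Cfsg.Agent.Lib.Helper27_UQDefs Cfsg.Agent.Lib.Helper94_UQInst

namespace Cfsg.Agent.Lib.Helper26_UQ_HPFREE

variable {F V : Type*} [Field F] [AddCommGroup V] [Module F V] {σ : F →+* F}
  {B : V →ₗ[F] V →ₛₗ[σ] F}

/-- an isometry of determinant one of a 4-dimensional nondegenerate hermitian space fixing a hyperbolic pair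
and an anisotropic vector orthogonal to it is the identity -/
theorem eq_one_of_fix [FiniteDimensional F V] (hB : IsHerm B) (hN : NondegOn B ⊤)
    {v v' : V} (h : HypPair B v v') (h4 : finrank F V = 4) {w : V} (hw : w ∈ Wsub B v v')
    (hww : B w w ≠ 0) (g : V ≃ₗ[F] V) (hgU : g ∈ uG B) (hdet : LinearEquiv.det g = 1)
    (hgv : g v = v) (hgv' : g v' = v') (hgw : g w = w) : g = 1 := by
  have hfr : finrank F ↥(Wsub B v v') = 2 := by
    have := Cfsg.Agent.Lib.Helper27_UQ_CARD.finrank_Wsub (B := B) h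
    omega
  -- the functional `x ↦ B x w` on `W`
  let f : ↥(Wsub B v v') →ₗ[F] F := (B.flip w).comp (Wsub B v v').subtype
  have hf : ∀ x : ↥(Wsub B v v'), f x = B (x : V) w := fun x => rfl
  have hsurj : LinearMap.range f = ⊤ := by
    rw [LinearMap.range_eq_top]
    intro c
    refine ⟨(c / B w w) • ⟨w, hw⟩, ?_⟩
    rw [hf]
    show B ((c / B w w) • w) w = c
    rw [map_smul, LinearMap.smul_apply, smul_eq_mul, div_mul_cancel₀ _ hww]
  have hker : finrank F ↥(LinearMap.ker f) = 1 := by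
    have h1 := LinearMap.finrank_range_add_finrank_ker f
    rw [hsurj, finrank_top, Module.finrank_self, hfr] at h1
    omega
  obtain ⟨w0, hw0, hspan⟩ := finrank_eq_one_iff'.mp hker
  obtain ⟨w', hw'def⟩ : ∃ w' : V, w' = ((w0 : ↥(Wsub B v v')) : V) := ⟨_, rfl⟩
  have hw'W : w' ∈ Wsub B v v' := by rw [hw'def]; exact (w0 : ↥(Wsub B v v')).2
  have hw'v : B w' v = 0 := hw'W.1
  have hw'v' : B w' v' = 0 := hw'W.2
  have hw'w : B w' w = 0 := by
    have := w0.2
    rw [LinearMap.mem_ker, hf] at this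
    rw [hw'def]; exact this
  have hw'ne : w' ≠ 0 := by
    intro h0
    apply hw0
    apply Subtype.ext
    apply Subtype.ext
    rw [← hw'def, h0]
    rfl
  have hline : ∀ x : V, B x v = 0 → B x v' = 0 → B x w = 0 → ∃ c : F, x = c • w' := by
    intro x h1 h2 h3
    have hxW : x ∈ Wsub B v v' := ⟨h1, h2⟩
    have hxk : (⟨x, hxW⟩ : ↥(Wsub B v v')) ∈ LinearMap.ker f := by
      rw [LinearMap.mem_ker, hf]; exact h3
    obtain ⟨c, hc⟩ := hspan ⟨⟨x, hxW⟩, hxk⟩
    refine ⟨c, ?_⟩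
    have := congrArg (fun t : ↥(LinearMap.ker f) => ((t : ↥(Wsub B v v')) : V)) hc
    simp only [Submodule.coe_smul] at this
    rw [hw'def]
    exact this.symm
  -- `w'` is anisotropic
  have hw'w' : B w' w' ≠ 0 := by
    intro h0
    have hWnd : NondegOn B (Wsub B v v') := by
      rw [Wsub_eq_Wp]; exact nondegOn_Wp hB hN h
    obtain ⟨y, hyW, hy⟩ := hWnd w' hw'W hw'ne
    apply hy
    obtain ⟨c, hc⟩ := hline (y - (B y w / B w w) • w)
      (by rw [map_sub, map_smul, LinearMap.sub_apply, LinearMap.smul_apply, hyW.1, hw.1]; simp)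
      (by rw [map_sub, map_smul, LinearMap.sub_apply, LinearMap.smul_apply, hyW.2, hw.2]; simp)
      (by rw [map_sub, map_smul, LinearMap.sub_apply, LinearMap.smul_apply, smul_eq_mul,
            div_mul_cancel₀ _ hww, sub_self])
    have hy' : y = (B y w / B w w) • w + c • w' := by rw [← hc]; abel
    rw [hy', map_add, map_smulₛₗ, map_smulₛₗ, hw'w, h0]
    simp
  -- `g x - x` is orthogonal to `v, v', w`
  have hdiff : ∀ x : V, ∃ c : F, g x - x = c • w' := by
    intro x
    apply hline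
    · rw [map_sub, LinearMap.sub_apply]
      conv_lhs => rw [← hgv]
      rw [hgU x v, hgv, sub_self]
    · rw [map_sub, LinearMap.sub_apply]
      conv_lhs => rw [← hgv']
      rw [hgU x v', hgv', sub_self]
    · rw [map_sub, LinearMap.sub_apply]
      conv_lhs => rw [← hgw]
      rw [hgU x w, hgw, sub_self]
  obtain ⟨c0, hc0⟩ := hdiff w'
  have hgw' : g w' = (1 + c0) • w' := by
    rw [add_smul, one_smul, ← hc0]; abel
  -- determinant
  have hli : LinearIndependent F (fun _ : Unit => w') := by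
    rw [linearIndependent_unique_iff]
    exact hw'ne
  have hd := det_eq_of_span hli (g : V →ₗ[F] V) (Matrix.of fun _ _ => (1 + c0)) (by
    intro j
    rw [Fintype.sum_unique, Matrix.of_apply]
    exact hgw') (by
    intro y
    obtain ⟨c, hc⟩ := hdiff y
    show g y - y ∈ _
    rw [hc]
    exact Submodule.smul_mem _ _ (Submodule.subset_span ⟨(), rfl⟩))
  rw [Matrix.det_unique, Matrix.of_apply] at hd
  have hd1 : LinearMap.det (g : V →ₗ[F] V) = 1 := by
    rw [← LinearEquiv.coe_det, hdet, Units.val_one]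
  rw [hd1] at hd
  have hgw'1 : g w' = w' := by rw [hgw', ← hd, one_smul]
  -- conclusion
  ext y
  obtain ⟨c, hc⟩ := hdiff y
  have h1 : B (g y - y) w' = 0 := by
    rw [map_sub, LinearMap.sub_apply]
    conv_lhs => rw [← hgw'1]
    rw [hgU y w', hgw'1, sub_self]
  rw [hc, map_smul, LinearMap.smul_apply, smul_eq_mul] at h1
  have hc0' : c = 0 := by
    rcases mul_eq_zero.mp h1 with h2 | h2
    · exact h2
    · exact absurd h2 hw'w'
  rw [hc0', zero_smul, sub_eq_zero] at hc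
  rw [hc]
  rfl

theorem HPFREE [FiniteDimensional F V] (hσ : Invol σ) (hB : IsHerm B) (hN : NondegOn B ⊤)
    {v v' : V} (h : HypPair B v v') (h4 : finrank F V = 4) :
    (∀ k ∈ (udat hσ hB h).K, ∀ w : ↥(Wsub B v v'),
        B (((udat hσ hB h).ρ k w : ↥(Wsub B v v')) : V) (((udat hσ hB h).ρ k w : ↥(Wsub B v v')) : V) =
          B (w : V) (w : V)) ∧
    (∀ k ∈ (udat hσ hB h).K, ∀ w : ↥(Wsub B v v'), B (w : V) (w : V) ≠ 0 →
        (udat hσ hB h).ρ k w = w → k = 1) := by
  have hK : ∀ k ∈ (udat hσ hB h).K, (k : V ≃ₗ[F] V) ∈ Kv B v v' :=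
    fun k hk => (mem_K hσ hB h).mp hk
  have hρ : ∀ k ∈ (udat hσ hB h).K, ∀ w : ↥(Wsub B v v'),
      (((udat hσ hB h).ρ k w : ↥(Wsub B v v')) : V) = (k : V ≃ₗ[F] V) (w : V) := by
    intro k hk w
    have hk' := hK k hk
    rw [ρ_of_mem hσ hB h (Kv_le_Lv B v v' hk') (lam := 1) (by rw [hk'.2.1, one_smul]) w,
      map_one, one_smul]
  refine ⟨fun k hk w => ?_, fun k hk w hw hfix => ?_⟩
  · rw [hρ k hk w]
    exact (mem_SUg.mp (hK k hk).1).1 _ _
  · obtain ⟨hkS, hkv, hkv'⟩ := hK k hk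
    obtain ⟨hkU, hkdet⟩ := mem_SUg.mp hkS
    have hkw : (k : V ≃ₗ[F] V) (w : V) = (w : V) := by rw [← hρ k hk w, hfix]
    apply Subtype.ext
    exact eq_one_of_fix hB hN h h4 w.2 hw _ hkU hkdet hkv hkv' hkw

end Cfsg.Agent.Lib.Helper26_UQ_HPFREE
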