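import Mathlib
import Cfsg.Agent.Lib.Helper54_UTDefs
import Cfsg.Agent.Lib.Helper37_UTDefs
import Cfsg.Agent.Lib.Helper54_UTModel

set_option autoImplicit false
set_option linter.unusedSectionVars false
set_option linter.unusedVariables false

/-!
# UTENS PART I package MOD2 (helper26, sub-architect helper54): the radical elements of the two types
in the Matrix model
-/

namespace Cfsg.Agent.Lib.Helper26_UT1_MOD2

open Module
open Cfsg.Agent.Lib.Helper94_Symp Cfsg.Agent.Lib.Helper94_Herm Cfsg.Agent.Lib.Helper13_PSUSimple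
  Cfsg.Agent.Lib.Helper94_FrmDefs Cfsg.Agent.Lib.Helper94_UDDefs Cfsg.Agent.Lib.Helper67_UT2Defs
  Cfsg.Agent.Lib.Helper54_UTDefs

section MODEL

open Matrix Cfsg.Agent.Lib.Helper98_ExtDefs Cfsg.Agent.Lib.Helper97_TensDefs
  Cfsg.Agent.Lib.Helper37_UTDefs Cfsg.Agent.Lib.Helper54_UTModel

variable {F : Type*} [Field F] {ι κ : Type*} [Fintype ι] [Fintype κ] [DecidableEq ι]
  [DecidableEq κ] {σ : F →+* F}
variable {α : (ι → F) →ₗ[F] (ι → F) →ₛₗ[σ] F} {β : (κ → F) →ₗ[F] (κ → F) →ₛₗ[σ] F}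
variable {M : Subgroup (Matrix ι κ F ≃ₗ[F] Matrix ι κ F)}

/-- MOD2 (S): the radical elements of the two types in the Matrix model -/
theorem model_isZ (x : ι → F) (S : (κ → F) →ₗ[F] (κ → F))
    (g : Matrix ι κ F ≃ₗ[F] Matrix ι κ F) (hg : ∀ X, g X = X + tm (rk1h α x) S X) :
    IsZ α (vm F ι κ) x S g := by
  intro a b
  rw [vm_apply, vm_apply, hg, tm_pure, rk1h_apply, smul_vecMulVec]

theorem model_isZ_flip (y : κ → F) (P : (ι → F) →ₗ[F] (ι → F))
    (g : Matrix ι κ F ≃ₗ[F] Matrix ι κ F) (hg : ∀ X, g X = X + tm P (rk1h β y) X) :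
    IsZ β (vm F ι κ).flip y P g := by
  intro a b
  rw [LinearMap.flip_apply, LinearMap.flip_apply, vm_apply, vm_apply, hg, tm_pure, rk1h_apply,
    vecMulVec_smul]

end MODEL

end Cfsg.Agent.Lib.Helper26_UT1_MOD2
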