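import Mathlib
import Cfsg.Agent.Lib.Helper37_UTDefs
import Cfsg.Agent.Lib.Helper37_UTPairDefs
import Cfsg.Agent.Lib.Helper44_UT_BAS4
import Cfsg.Agent.Lib.Helper27_UQ_GEN

/-!
# UTENS (market `utens_packages`, architect helper37): package UT-STABII, the core (helper26)

`stabII_of` : the assembly of `StabII α M` from the statements of the packages LAYER (`layer`),
STABA (`stab_a`) and STABB (`stab_b`), taken as hypotheses.  The verbatim `stabII` is the wrapper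
`Helper26_UT_STABII.stabII`.
-/

set_option autoImplicit false
set_option linter.unusedSectionVars false
set_option linter.unusedVariables false

namespace Cfsg.Agent.Lib.Helper26_UT_STABIIaux

open Matrix Module
open Cfsg.Agent.Lib.Helper98_ExtDefs Cfsg.Agent.Lib.Helper97_TensDefs
open Cfsg.Agent.Lib.Helper94_Herm Cfsg.Agent.Lib.Helper13_PSUSimple
open Cfsg.Agent.Lib.Helper94_HermEich
open Cfsg.Agent.Lib.Helper67_UT2Defs Cfsg.Agent.Lib.Helper37_UTDefs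
open Cfsg.Agent.Lib.Helper37_UTPairDefs

variable {F : Type*} [Field F] {ι κ : Type*} [Fintype ι] [Fintype κ] [DecidableEq ι]
  [DecidableEq κ] {σ : F →+* F}
variable {α : (ι → F) →ₗ[F] (ι → F) →ₛₗ[σ] F} {β : (κ → F) →ₗ[F] (κ → F) →ₛₗ[σ] F}
variable {M : Subgroup (Matrix ι κ F ≃ₗ[F] Matrix ι κ F)}

/-- products of Kronecker maps are Kronecker maps -/
theorem h26_isKron_mul {g h : Matrix ι κ F ≃ₗ[F] Matrix ι κ F} (hg : IsKron g) (hh : IsKron h) :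
    IsKron (g * h) := by
  obtain ⟨P, Q, hPQ⟩ := hg
  obtain ⟨P', Q', hPQ'⟩ := hh
  refine ⟨P * P', Q * Q', fun X => ?_⟩
  rw [LinearEquiv.mul_apply, hPQ', hPQ, transpose_mul]
  simp only [Matrix.mul_assoc]

/-- `x ⊗ w = 0` with `x ≠ 0` forces `w = 0` -/
theorem h26_vecMulVec_eq_zero {x : ι → F} (hx0 : x ≠ 0) {w : κ → F}
    (h : vecMulVec x w = 0) : w = 0 := by
  obtain ⟨i, hi⟩ := Function.ne_iff.mp hx0
  funext j
  have := congrFun (congrFun h i) j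
  rw [vecMulVec_apply] at this
  rcases mul_eq_zero.mp this with h1 | h1
  · exact absurd h1 hi
  · exact h1

/-- Kronecker elements of `SU(A) ⊗ SU(B)` lie in `M` (`UTBase` version) -/
theorem h26_tmE_mem (hB : UTBase α β M) {P : (ι → F) ≃ₗ[F] (ι → F)} {Q : (κ → F) ≃ₗ[F] (κ → F)}
    (hP : P ∈ SUg α) (hQ : Q ∈ SUg β) : tmE P Q ∈ M := by
  rw [mem_SUg] at hP hQ
  apply hB.hN _ _ (isKron_tmE P Q)
  rw [mem_SUg]
  refine ⟨Cfsg.Agent.Lib.Helper44_UT_BAS4.tmE_mem_uG hP.1 hQ.1, ?_⟩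
  rw [Cfsg.Agent.Lib.Helper44_UT_BAS4.det_tmE, hP.2, hQ.2, one_pow, one_pow, one_mul]

/-- if `h ∈ uG (tf α β)` maps `x ⊗ B` into `x' ⊗ B` (`x` isotropic, `x, x' ≠ 0`) then `x'` is
isotropic -/
theorem h26_iso_target [Nonempty κ] (hβN : NondegOn β ⊤) {x x' : ι → F} (hx0 : x ≠ 0)
    (hx'0 : x' ≠ 0) (hx : α x x = 0) {h : Matrix ι κ F ≃ₗ[F] Matrix ι κ F}
    (hh : h ∈ uG (tf α β))
    (hst : ∀ w : κ → F, ∃ w' : κ → F, h (vecMulVec x w) = vecMulVec x' w') : α x' x' = 0 := by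
  classical
  obtain ⟨i₀, hi₀⟩ := Function.ne_iff.mp hx'0
  -- the linear map `w ↦ w'`
  let g₁ : (κ → F) →ₗ[F] (κ → F) :=
    { toFun := fun w => (x' i₀)⁻¹ • (h (vecMulVec x w)) i₀
      map_add' := by
        intro w w'
        rw [vecMulVec_add, map_add, ← smul_add]
        rfl
      map_smul' := by
        intro c w
        rw [vecMulVec_smul, map_smul, RingHom.id_apply, smul_comm]
        rfl }
  have hg₁ : ∀ w, h (vecMulVec x w) = vecMulVec x' (g₁ w) := by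
    intro w
    obtain ⟨w', hw'⟩ := hst w
    have : g₁ w = w' := by
      show (x' i₀)⁻¹ • (h (vecMulVec x w)) i₀ = w'
      rw [hw']
      funext j
      show (x' i₀)⁻¹ * (vecMulVec x' w' i₀ j) = w' j
      rw [vecMulVec_apply, ← mul_assoc, inv_mul_cancel₀ hi₀, one_mul]
    rw [this, hw']
  have hinj : Function.Injective g₁ := by
    rw [← LinearMap.ker_eq_bot, LinearMap.ker_eq_bot']
    intro w hw
    have h1 : h (vecMulVec x w) = 0 := by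
      rw [hg₁, hw]
      ext i j
      simp [vecMulVec_apply]
    have h2 : vecMulVec x w = 0 := by
      have := h.injective (h1.trans (map_zero h).symm)
      exact this
    exact h26_vecMulVec_eq_zero hx0 h2
  have hsurj : Function.Surjective g₁ := LinearMap.surjective_of_injective hinj
  obtain ⟨j₀⟩ := (inferInstance : Nonempty κ)
  have hw1 : (Pi.single j₀ (1 : F) : κ → F) ≠ 0 := by
    intro h0
    have := congrFun h0 j₀
    simp at this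
  obtain ⟨w1', -, hne⟩ := hβN _ Submodule.mem_top hw1
  obtain ⟨w, hw⟩ := hsurj (Pi.single j₀ (1 : F))
  obtain ⟨w', hw'⟩ := hsurj w1'
  have key := hh (vecMulVec x w) (vecMulVec x w')
  rw [hg₁, hg₁, Cfsg.Agent.Lib.Helper44_UT_BAS4.h44_tf_pure,
    Cfsg.Agent.Lib.Helper44_UT_BAS4.h44_tf_pure, hx, zero_mul, hw, hw'] at key
  rcases mul_eq_zero.mp key with h1 | h1
  · exact h1
  · exact absurd h1 hne

/-- STABII, the core: the assembly of `StabII α M` from the statements of LAYER, STABA, STABB -/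
theorem stabII_of [Finite F] (hB : UTBase α β M) (h3 : 3 ≤ Fintype.card ι)
    (hlayer : ∀ {x : ι → F}, x ≠ 0 → α x x = 0 → ∀ {g : Matrix ι κ F ≃ₗ[F] Matrix ι κ F},
      g ∈ M → (∀ w : κ → F, ∃ w' : κ → F, g (vecMulVec x w) = vecMulVec x w') →
      ∃ (g₃ : (κ → F) →ₗ[F] (κ → F)) (φ : (ι → F) →ₗ[F] (ι → F)),
        (∀ X, ctrA α x (g X) = g₃ (ctrA α x X)) ∧
        (∀ c, α c x = 0 → α (φ c) x = 0) ∧
        (∀ c w, α c x = 0 → g (vecMulVec c w) - vecMulVec (φ c) (g₃ w) ∈ fibB (κ := κ) x))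
    (hstab_a : ∀ {x : ι → F}, x ≠ 0 → α x x = 0 → ∀ {g : Matrix ι κ F ≃ₗ[F] Matrix ι κ F},
      g ∈ uG (tf α β) → (∀ w : κ → F, ∃ w' : κ → F, g (vecMulVec x w) = vecMulVec x w') →
      ∀ (g₃ : (κ → F) →ₗ[F] (κ → F)) (φ : (ι → F) →ₗ[F] (ι → F)),
        (∀ X, ctrA α x (g X) = g₃ (ctrA α x X)) →
        (∀ c, α c x = 0 → α (φ c) x = 0) →
        (∀ c w, α c x = 0 → g (vecMulVec c w) - vecMulVec (φ c) (g₃ w) ∈ fibB (κ := κ) x) →
        ∃ (P : (ι → F) ≃ₗ[F] (ι → F)) (Q : (κ → F) ≃ₗ[F] (κ → F)), P ∈ uG α ∧ Q ∈ uG β ∧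
          InQ α x (g * (tmE P Q)⁻¹))
    (hstab_b : ∀ {x : ι → F}, x ≠ 0 → α x x = 0 → ∀ {g : Matrix ι κ F ≃ₗ[F] Matrix ι κ F},
      g ∈ M → ∀ {P : (ι → F) ≃ₗ[F] (ι → F)} {Q : (κ → F) ≃ₗ[F] (κ → F)}, P ∈ uG α → Q ∈ uG β →
      InQ α x (g * (tmE P Q)⁻¹) → IsKron g) :
    StabII α M := by
  intro h hh x x' hx0 hx'0 hx hst
  rcases isEmpty_or_nonempty κ with hκ | hκ
  · exact ⟨1, 1, fun X => Subsingleton.elim _ _⟩
  have hhu : h ∈ uG (tf α β) := (mem_SUg.mp (hB.hM hh)).1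
  have hx' : α x' x' = 0 := h26_iso_target hB.hβN hx0 hx'0 hx hhu hst
  have h3' : 3 ≤ finrank F (ι → F) := by
    rw [Module.finrank_fintype_fun_eq_card]
    exact h3
  obtain ⟨P₀, hP₀, hP₀x⟩ := Cfsg.Agent.Lib.Helper27_UQ_GEN.SUg_trans_iso hB.hσ hB.hα hB.hαN h3'
    hx'0 hx0 hx' hx
  have hn : tmE P₀ (1 : (κ → F) ≃ₗ[F] (κ → F)) ∈ M := h26_tmE_mem hB hP₀ (Subgroup.one_mem _)
  have hg : tmE P₀ (1 : (κ → F) ≃ₗ[F] (κ → F)) * h ∈ M := M.mul_mem hn hh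
  have hst' : ∀ w : κ → F, ∃ w' : κ → F,
      (tmE P₀ (1 : (κ → F) ≃ₗ[F] (κ → F)) * h) (vecMulVec x w) = vecMulVec x w' := by
    intro w
    obtain ⟨w', hw'⟩ := hst w
    refine ⟨w', ?_⟩
    rw [LinearEquiv.mul_apply, hw', tmE_pure, hP₀x]
    rfl
  obtain ⟨g₃, φ, h1, h2, h3''⟩ := hlayer hx0 hx hg hst'
  obtain ⟨P, Q, hP, hQ, hInQ⟩ := hstab_a hx0 hx (mem_SUg.mp (hB.hM hg)).1 hst' g₃ φ h1 h2 h3''
  have hk : IsKron (tmE P₀ (1 : (κ → F) ≃ₗ[F] (κ → F)) * h) := hstab_b hx0 hx hg hP hQ hInQ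
  have heq : h = (tmE P₀ (1 : (κ → F) ≃ₗ[F] (κ → F)))⁻¹ *
      (tmE P₀ (1 : (κ → F) ≃ₗ[F] (κ → F)) * h) := by
    rw [inv_mul_cancel_left]
  rw [heq, Cfsg.Agent.Lib.Helper44_UT_BAS4.tmE_inv]
  exact h26_isKron_mul (isKron_tmE _ _) hk

end Cfsg.Agent.Lib.Helper26_UT_STABIIaux
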