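import Mathlib
import Cfsg.Agent.Lib.Helper78_ExtConv

/-!
# The group algebra as a ring of functions (helper78)

A bridge between `MonoidAlgebra ℂ G` and functions `G → ℂ` with the convolution product `conv` of
`Helper78_Osima`: `fn a` is the coefficient function, `ofFn f` the element with coefficients `f`,
and `fn (a * b) = conv (fn a) (fn b)`.  `Isub M hM` is the subring of elements with local-integer
coefficients and `Zsub M hM` the additive subgroup of elements with coefficients in the local ideal.
-/

set_option autoImplicit false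
set_option linter.unusedSectionVars false

namespace Cfsg.Agent.Lib.Helper78_GroupRing

open Cfsg Cfsg.Agent.Lib.Helper78_LocalRing Cfsg.Agent.Lib.Helper78_Osima
  Cfsg.Agent.Lib.Helper78_ExtConv

universe u

variable {G : Type u} [Group G]

/-- The coefficient function of an element of the group algebra. -/
def fn (a : MonoidAlgebra ℂ G) : G → ℂ := fun g => a.coeff g

theorem fn_apply (a : MonoidAlgebra ℂ G) (g : G) : fn a g = a.coeff g := rfl

theorem fn_injective : Function.Injective (fn : MonoidAlgebra ℂ G → G → ℂ) := by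
  intro a b h
  ext g
  exact congrFun h g

theorem fn_zero : fn (0 : MonoidAlgebra ℂ G) = 0 := by
  funext g
  simp [fn]

theorem fn_add (a b : MonoidAlgebra ℂ G) : fn (a + b) = fn a + fn b := by
  funext g
  simp [fn]

theorem fn_neg (a : MonoidAlgebra ℂ G) : fn (-a) = -fn a := by
  funext g
  simp [fn]

theorem fn_sub (a b : MonoidAlgebra ℂ G) : fn (a - b) = fn a - fn b := by
  funext g
  simp [fn]

theorem fn_smul (r : ℂ) (a : MonoidAlgebra ℂ G) : fn (r • a) = fun g => r * fn a g := by
  funext g
  simp [fn]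

theorem fn_sum {ι : Type*} (s : Finset ι) (F : ι → MonoidAlgebra ℂ G) :
    fn (∑ i ∈ s, F i) = fun g => ∑ i ∈ s, fn (F i) g := by
  classical
  induction s using Finset.induction_on with
  | empty =>
    funext g
    simp [fn_zero]
  | insert i s hi ih =>
    funext g
    rw [Finset.sum_insert hi, Finset.sum_insert hi, fn_add, Pi.add_apply, ih]

theorem fn_one [DecidableEq G] : fn (1 : MonoidAlgebra ℂ G) = fun g => if g = 1 then 1 else 0 := by
  funext g
  unfold fn
  rw [MonoidAlgebra.one_def, MonoidAlgebra.coeff_single, Finsupp.single_apply]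
  by_cases h : g = 1
  · subst h
    simp
  · have h' : ¬ (1 : G) = g := fun h'' => h h''.symm
    simp [h, h']

variable [Fintype G]

theorem fn_mul (a b : MonoidAlgebra ℂ G) : fn (a * b) = conv (fn a) (fn b) := by
  classical
  funext g
  unfold fn conv
  rw [MonoidAlgebra.coeff_mul_antidiag a b g (Finset.univ.image (fun x : G => (x, x⁻¹ * g)))]
  · rw [Finset.sum_image]
    intro x _ y _ h
    exact congrArg Prod.fst h
  · intro q
    simp only [Finset.mem_image, Finset.mem_univ, true_and]
    constructor
    · rintro ⟨x, rfl⟩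
      simp
    · intro h
      refine ⟨q.1, ?_⟩
      rw [← h]
      ext <;> simp

/-- The element of the group algebra with the given coefficients. -/
noncomputable def ofFn (f : G → ℂ) : MonoidAlgebra ℂ G :=
  MonoidAlgebra.ofCoeff (Finsupp.equivFunOnFinite.symm f)

theorem fn_ofFn (f : G → ℂ) : fn (ofFn f) = f := by
  funext g
  simp [fn, ofFn]

theorem ofFn_fn (a : MonoidAlgebra ℂ G) : ofFn (fn a) = a :=
  fn_injective (fn_ofFn _)

theorem ofFn_conv (f f' : G → ℂ) : ofFn (conv f f') = ofFn f * ofFn f' := by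
  apply fn_injective
  rw [fn_mul, fn_ofFn, fn_ofFn, fn_ofFn]

theorem ofFn_injective : Function.Injective (ofFn : (G → ℂ) → MonoidAlgebra ℂ G) := by
  intro f f' h
  rw [← fn_ofFn f, ← fn_ofFn f', h]

theorem fn_one' : fn (1 : MonoidAlgebra ℂ G) = classIndicator (1 : G) := by
  classical
  rw [fn_one]
  funext g
  unfold classIndicator
  rw [Set.indicator_apply]
  simp only [Set.mem_ofPred_eq, isConj_one_right]

/-! ### Local-integral elements -/

variable (G) in
/-- The subring of the elements with local-integer coefficients. -/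
noncomputable def Isub {M : Ideal AlgInt} (hM : M.IsPrime) : Subring (MonoidAlgebra ℂ G) where
  carrier := {a | ∀ g, MemLocalRing M (fn a g)}
  mul_mem' := by
    intro a b ha hb g
    rw [fn_mul]
    unfold conv
    exact memLocalRing_sum hM _ _ fun x _ => memLocalRing_mul hM (ha x) (hb _)
  one_mem' := by
    classical
    intro g
    rw [fn_one]
    show MemLocalRing M (if g = 1 then 1 else 0)
    split_ifs
    · exact memLocalRing_one hM
    · exact memLocalRing_zero hM
  add_mem' := by
    intro a b ha hb g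
    rw [fn_add]
    exact memLocalRing_add hM (ha g) (hb g)
  zero_mem' := by
    intro g
    rw [fn_zero]
    exact memLocalRing_zero hM
  neg_mem' := by
    intro a ha g
    rw [fn_neg]
    exact memLocalRing_neg (ha g)

theorem mem_Isub {M : Ideal AlgInt} (hM : M.IsPrime) (a : MonoidAlgebra ℂ G) :
    a ∈ Isub G hM ↔ ∀ g, MemLocalRing M (fn a g) := Iff.rfl

variable (G) in
/-- The additive subgroup of the elements with coefficients in the local ideal. -/
noncomputable def Zsub {M : Ideal AlgInt} (hM : M.IsPrime) : AddSubgroup (MonoidAlgebra ℂ G) where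
  carrier := {a | ∀ g, MemLocalIdeal M (fn a g)}
  add_mem' := by
    intro a b ha hb g
    rw [fn_add]
    exact memLocalIdeal_add hM (ha g) (hb g)
  zero_mem' := by
    intro g
    rw [fn_zero]
    exact memLocalIdeal_zero hM
  neg_mem' := by
    intro a ha g
    rw [fn_neg]
    exact memLocalIdeal_neg (ha g)

theorem mem_Zsub {M : Ideal AlgInt} (hM : M.IsPrime) (a : MonoidAlgebra ℂ G) :
    a ∈ Zsub G hM ↔ ∀ g, MemLocalIdeal M (fn a g) := Iff.rfl

theorem Isub_mul_Zsub {M : Ideal AlgInt} (hM : M.IsPrime) :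
    ∀ a ∈ Isub G hM, ∀ z ∈ Zsub G hM, a * z ∈ Zsub G hM := by
  intro a ha z hz g
  rw [fn_mul]
  unfold conv
  exact memLocalIdeal_sum hM _ _ fun x _ => memLocalIdeal_mul_left hM (ha x) (hz _)

theorem Zsub_mul_Isub {M : Ideal AlgInt} (hM : M.IsPrime) :
    ∀ z ∈ Zsub G hM, ∀ a ∈ Isub G hM, z * a ∈ Zsub G hM := by
  intro z hz a ha g
  rw [fn_mul]
  unfold conv
  exact memLocalIdeal_sum hM _ _ fun x _ => memLocalIdeal_mul_right hM (hz x) (ha _)

theorem Zsub_le_Isub {M : Ideal AlgInt} (hM : M.IsPrime) {z : MonoidAlgebra ℂ G}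
    (hz : z ∈ Zsub G hM) : z ∈ Isub G hM :=
  fun g => memLocalRing_of_memLocalIdeal (hz g)

theorem smul_mem_Zsub {M : Ideal AlgInt} (hM : M.IsPrime) {r : ℂ} (hr : MemLocalIdeal M r)
    {a : MonoidAlgebra ℂ G} (ha : a ∈ Isub G hM) : r • a ∈ Zsub G hM := by
  intro g
  rw [fn_smul]
  exact memLocalIdeal_mul_right hM hr (ha g)

theorem smul_mem_Isub {M : Ideal AlgInt} (hM : M.IsPrime) {r : ℂ} (hr : MemLocalRing M r)
    {a : MonoidAlgebra ℂ G} (ha : a ∈ Isub G hM) : r • a ∈ Isub G hM := by
  intro g
  rw [fn_smul]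
  exact memLocalRing_mul hM hr (ha g)

/-! ### Central elements -/

/-- The coefficient function is a class function. -/
def IsCentral (a : MonoidAlgebra ℂ G) : Prop := IsClassFunction G (fn a)

theorem isCentral_mul {a b : MonoidAlgebra ℂ G} (ha : IsCentral a) (hb : IsCentral b) :
    IsCentral (a * b) := by
  unfold IsCentral
  rw [fn_mul]
  exact conv_isClassFunction ha hb

theorem isCentral_one : IsCentral (1 : MonoidAlgebra ℂ G) := by
  unfold IsCentral
  rw [fn_one']
  exact classIndicator_isClassFunction 1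

theorem isCentral_sub {a b : MonoidAlgebra ℂ G} (ha : IsCentral a) (hb : IsCentral b) :
    IsCentral (a - b) := by
  unfold IsCentral
  rw [fn_sub]
  intro g h
  simp only [Pi.sub_apply]
  rw [ha g h, hb g h]

theorem isCentral_smul (r : ℂ) {a : MonoidAlgebra ℂ G} (ha : IsCentral a) :
    IsCentral (r • a) := by
  unfold IsCentral
  rw [fn_smul]
  intro g h
  show r * fn a (h * g * h⁻¹) = r * fn a g
  rw [ha g h]

theorem isCentral_list_prod (l : List (MonoidAlgebra ℂ G)) (hl : ∀ a ∈ l, IsCentral a) :
    IsCentral l.prod := by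
  induction l with
  | nil => exact isCentral_one
  | cons a l ih =>
    rw [List.prod_cons]
    exact isCentral_mul (hl a List.mem_cons_self) (ih fun b hb => hl b (List.mem_cons_of_mem _ hb))

theorem commute_of_isCentral {a : MonoidAlgebra ℂ G} (ha : IsCentral a) (b : MonoidAlgebra ℂ G) :
    a * b = b * a := by
  apply fn_injective
  rw [fn_mul, fn_mul]
  exact conv_comm_of_isClassFunction ha _

/-- The central character on the group algebra. -/
noncomputable def Om (χ : G → ℂ) (a : MonoidAlgebra ℂ G) : ℂ := omega χ (fn a)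

theorem Om_sub (χ : G → ℂ) (a b : MonoidAlgebra ℂ G) : Om χ (a - b) = Om χ a - Om χ b := by
  unfold Om
  rw [fn_sub, omega_sub]

theorem Om_smul (χ : G → ℂ) (r : ℂ) (a : MonoidAlgebra ℂ G) : Om χ (r • a) = r * Om χ a := by
  unfold Om
  rw [fn_smul, omega_smul]

theorem Om_mul {χ : G → ℂ} (hχ : IsIrrCharacter G χ) (a : MonoidAlgebra ℂ G)
    {b : MonoidAlgebra ℂ G} (hb : IsCentral b) : Om χ (a * b) = Om χ a * Om χ b := by
  unfold Om
  rw [fn_mul, omega_conv hχ _ hb]

theorem Om_one {χ : G → ℂ} (hχ : IsIrrCharacter G χ) : Om χ (1 : MonoidAlgebra ℂ G) = 1 := by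
  unfold Om
  rw [fn_one']
  exact Cfsg.Agent.Lib.Helper78_AlgHom.omega_classIndicator_one hχ

theorem Om_list_prod {χ : G → ℂ} (hχ : IsIrrCharacter G χ) (l : List (MonoidAlgebra ℂ G))
    (hl : ∀ a ∈ l, IsCentral a) : Om χ l.prod = (l.map (Om χ)).prod := by
  induction l with
  | nil => simpa using Om_one hχ
  | cons a l ih =>
    have hl' : ∀ b ∈ l, IsCentral b := fun b hb => hl b (List.mem_cons_of_mem _ hb)
    rw [List.prod_cons, List.map_cons, List.prod_cons,
      Om_mul hχ a (isCentral_list_prod l hl'), ih hl']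

end Cfsg.Agent.Lib.Helper78_GroupRing
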