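import Mathlib
import Cfsg.Prelude.Def_Blocks
import Cfsg.Agent.Lib.Helper78_LocalRing

/-!
# The residue field of the local ring at a maximal ideal of the algebraic integers (helper79)

* `localSubring hM`: the complex numbers `a / b` with `a, b` algebraic integers, `b ∉ M`, as a
  subring of `ℂ` (for `M` prime);
* `ResField M`: the quotient `AlgInt ⧸ M`, a field when `M` is maximal;
* `red`: the reduction ring homomorphism `localSubring → ResField M`, whose kernel is the local
  ideal (`red_eq_zero_iff`).
-/

set_option autoImplicit false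

namespace Cfsg.Agent.Lib.Helper79_Residue

open Cfsg Cfsg.Agent.Lib.Helper78_LocalRing

variable {M : Ideal AlgInt}

/-- The local ring at `M`, as a subring of `ℂ`. -/
def localSubring (hM : M.IsPrime) : Subring ℂ where
  carrier := {z | MemLocalRing M z}
  mul_mem' := fun hx hy => memLocalRing_mul hM hx hy
  one_mem' := memLocalRing_one hM
  add_mem' := fun hx hy => memLocalRing_add hM hx hy
  zero_mem' := memLocalRing_zero hM
  neg_mem' := fun hx => memLocalRing_neg hx

theorem mem_localSubring (hM : M.IsPrime) (z : ℂ) :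
    z ∈ localSubring hM ↔ MemLocalRing M z := Iff.rfl

/-- The residue field `AlgInt ⧸ M`. -/
def ResField (M : Ideal AlgInt) : Type := AlgInt ⧸ M

noncomputable instance (M : Ideal AlgInt) [hmax : M.IsMaximal] : Field (ResField M) :=
  Ideal.Quotient.field M

/-- The quotient map to the residue field. -/
noncomputable def mkK (M : Ideal AlgInt) [M.IsMaximal] : AlgInt →+* ResField M :=
  Ideal.Quotient.mk M

theorem mkK_eq_zero_iff [M.IsMaximal] (a : AlgInt) : mkK M a = 0 ↔ a ∈ M :=
  Ideal.Quotient.eq_zero_iff_mem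

theorem coe_injective : Function.Injective (fun a : AlgInt => (a : ℂ)) :=
  Subtype.val_injective

/-- Auxiliary: the reduction as a plain function on `ℂ` (zero outside the local ring). -/
noncomputable def redFun (M : Ideal AlgInt) [M.IsMaximal] (z : ℂ) : ResField M := by
  classical
  exact if h : MemLocalRing M z then mkK M h.choose / mkK M h.choose_spec.choose else 0

theorem redFun_eq [hmax : M.IsMaximal] {z : ℂ} (a b : AlgInt) (hb : b ∉ M)
    (hab : (a : ℂ) / (b : ℂ) = z) : redFun M z = mkK M a / mkK M b := by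
  classical
  have h : MemLocalRing M z := ⟨a, b, hb, hab⟩
  unfold redFun
  rw [dif_pos h]
  set a' := h.choose with ha'
  set b' := h.choose_spec.choose with hb'
  have hb'M : b' ∉ M := h.choose_spec.choose_spec.1
  have hab' : (a' : ℂ) / (b' : ℂ) = z := h.choose_spec.choose_spec.2
  have hbne : mkK M b ≠ 0 := fun h0 => hb ((mkK_eq_zero_iff b).mp h0)
  have hb'ne : mkK M b' ≠ 0 := fun h0 => hb'M ((mkK_eq_zero_iff b').mp h0)
  have hbC := coe_ne_zero_of_notMem hb
  have hb'C := coe_ne_zero_of_notMem hb'M
  have hcross : a' * b = a * b' := by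
    apply Subtype.ext
    push_cast
    have : (a' : ℂ) / (b' : ℂ) = (a : ℂ) / (b : ℂ) := by rw [hab', hab]
    field_simp at this
    linear_combination this
  have h2 : mkK M a' * mkK M b = mkK M a * mkK M b' := by
    rw [← map_mul, ← map_mul, hcross]
  rw [div_eq_div_iff hb'ne hbne]
  exact h2

theorem redFun_add [hmax : M.IsMaximal] {z w : ℂ} (hz : MemLocalRing M z)
    (hw : MemLocalRing M w) : redFun M (z + w) = redFun M z + redFun M w := by
  have hMp := hmax.isPrime
  obtain ⟨a, b, hb, hab⟩ := hz
  obtain ⟨c, d, hd, hcd⟩ := hw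
  have hbd : b * d ∉ M := by
    intro h
    rcases hMp.mem_or_mem h with h | h
    · exact hb h
    · exact hd h
  have hbC := coe_ne_zero_of_notMem hb
  have hdC := coe_ne_zero_of_notMem hd
  have hsum : ((a * d + c * b : AlgInt) : ℂ) / ((b * d : AlgInt) : ℂ) = z + w := by
    rw [← hab, ← hcd]
    push_cast
    field_simp
  rw [redFun_eq _ _ hbd hsum, redFun_eq a b hb hab, redFun_eq c d hd hcd]
  have hbne : mkK M b ≠ 0 := fun h0 => hb ((mkK_eq_zero_iff b).mp h0)
  have hdne : mkK M d ≠ 0 := fun h0 => hd ((mkK_eq_zero_iff d).mp h0)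
  rw [map_add, map_mul, map_mul, map_mul]
  field_simp

theorem redFun_mul [hmax : M.IsMaximal] {z w : ℂ} (hz : MemLocalRing M z)
    (hw : MemLocalRing M w) : redFun M (z * w) = redFun M z * redFun M w := by
  have hMp := hmax.isPrime
  obtain ⟨a, b, hb, hab⟩ := hz
  obtain ⟨c, d, hd, hcd⟩ := hw
  have hbd : b * d ∉ M := by
    intro h
    rcases hMp.mem_or_mem h with h | h
    · exact hb h
    · exact hd h
  have hbC := coe_ne_zero_of_notMem hb
  have hdC := coe_ne_zero_of_notMem hd
  have hprod : ((a * c : AlgInt) : ℂ) / ((b * d : AlgInt) : ℂ) = z * w := by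
    rw [← hab, ← hcd]
    push_cast
    field_simp
  rw [redFun_eq _ _ hbd hprod, redFun_eq a b hb hab, redFun_eq c d hd hcd]
  have hbne : mkK M b ≠ 0 := fun h0 => hb ((mkK_eq_zero_iff b).mp h0)
  have hdne : mkK M d ≠ 0 := fun h0 => hd ((mkK_eq_zero_iff d).mp h0)
  rw [map_mul, map_mul]
  field_simp

theorem redFun_algInt [hmax : M.IsMaximal] (a : AlgInt) : redFun M (a : ℂ) = mkK M a := by
  have h1 : (1 : AlgInt) ∉ M := hmax.isPrime.one_notMem
  rw [redFun_eq a 1 h1 (by simp)]
  simp

theorem redFun_eq_zero_iff [hmax : M.IsMaximal] {z : ℂ} (hz : MemLocalRing M z) :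
    redFun M z = 0 ↔ MemLocalIdeal M z := by
  have hMp := hmax.isPrime
  constructor
  · intro h0
    obtain ⟨a, b, hb, hab⟩ := hz
    rw [redFun_eq a b hb hab] at h0
    have hbne : mkK M b ≠ 0 := fun h0 => hb ((mkK_eq_zero_iff b).mp h0)
    rw [div_eq_zero_iff] at h0
    rcases h0 with h0 | h0
    · exact ⟨a, b, (mkK_eq_zero_iff a).mp h0, hb, hab⟩
    · exact absurd h0 hbne
  · rintro ⟨a, b, ha, hb, hab⟩
    rw [redFun_eq a b hb hab, (mkK_eq_zero_iff a).mpr ha]
    exact zero_div _

theorem redFun_zero [hmax : M.IsMaximal] : redFun M 0 = 0 := by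
  have := redFun_algInt (M := M) 0
  simpa using this

theorem redFun_one [hmax : M.IsMaximal] : redFun M 1 = 1 := by
  have := redFun_algInt (M := M) 1
  simpa using this

theorem redFun_natCast [hmax : M.IsMaximal] (n : ℕ) : redFun M (n : ℂ) = (n : ResField M) := by
  have := redFun_algInt (M := M) (n : AlgInt)
  simpa using this

theorem redFun_neg [hmax : M.IsMaximal] {z : ℂ} (hz : MemLocalRing M z) :
    redFun M (-z) = -redFun M z := by
  have h := redFun_add (M := M) hz (memLocalRing_neg hz)
  rw [add_neg_cancel, redFun_zero] at h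
  exact (neg_eq_of_add_eq_zero_right h.symm).symm

theorem redFun_sub [hmax : M.IsMaximal] {z w : ℂ} (hz : MemLocalRing M z)
    (hw : MemLocalRing M w) : redFun M (z - w) = redFun M z - redFun M w := by
  rw [sub_eq_add_neg, redFun_add hz (memLocalRing_neg hw), redFun_neg hw, sub_eq_add_neg]

theorem redFun_sum [hmax : M.IsMaximal] {ι : Type*} (s : Finset ι) (f : ι → ℂ)
    (h : ∀ i ∈ s, MemLocalRing M (f i)) :
    redFun M (∑ i ∈ s, f i) = ∑ i ∈ s, redFun M (f i) := by
  classical
  induction s using Finset.induction_on with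
  | empty => simpa using redFun_zero (M := M)
  | insert a s ha ih =>
    rw [Finset.sum_insert ha, Finset.sum_insert ha,
      redFun_add (h a (Finset.mem_insert_self a s))
        (memLocalRing_sum hmax.isPrime s f fun i hi => h i (Finset.mem_insert_of_mem hi)),
      ih fun i hi => h i (Finset.mem_insert_of_mem hi)]

theorem redFun_eq_of_sub [hmax : M.IsMaximal] {z w : ℂ} (hz : MemLocalRing M z)
    (hw : MemLocalRing M w) (h : MemLocalIdeal M (z - w)) : redFun M z = redFun M w := by
  have h1 := (redFun_eq_zero_iff (memLocalRing_sub hmax.isPrime hz hw)).mpr h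
  rw [redFun_sub hz hw] at h1
  exact sub_eq_zero.mp h1

theorem redFun_ne_zero [hmax : M.IsMaximal] {z : ℂ} (hz : MemLocalRing M z)
    (h : ¬ MemLocalIdeal M z) : redFun M z ≠ 0 :=
  fun h0 => h ((redFun_eq_zero_iff hz).mp h0)

/-- A quotient `N / p ^ k` of natural numbers that is a local integer is an integer. -/
theorem pow_dvd_of_memLocalRing_div {p : ℕ} (hM : IsPModular p M) :
    ∀ (k N : ℕ), MemLocalRing M ((N : ℂ) / (p : ℂ) ^ k) → p ^ k ∣ N := by
  have hp : p.Prime := hM.1
  have hMp := isPrime_of_isPModular hM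
  have hp0 : (p : ℂ) ≠ 0 := by exact_mod_cast hp.ne_zero
  intro k
  induction k with
  | zero => intro N _; simp
  | succ k ih =>
    intro N h
    have h1 : MemLocalIdeal M (N : ℂ) := by
      have e : (N : ℂ) = (p : ℂ) * ((p : ℂ) ^ k * ((N : ℂ) / (p : ℂ) ^ (k + 1))) := by
        field_simp
        ring
      rw [e]
      refine memLocalIdeal_mul_right hMp ((memLocalIdeal_natCast_iff hM p).mpr dvd_rfl) ?_
      exact memLocalRing_mul hMp (memLocalRing_pow hMp (memLocalRing_natCast hMp p) k) h
    obtain ⟨N', rfl⟩ := (memLocalIdeal_natCast_iff hM N).mp h1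
    have h2 : MemLocalRing M ((N' : ℂ) / (p : ℂ) ^ k) := by
      have e : (N' : ℂ) / (p : ℂ) ^ k = ((p * N' : ℕ) : ℂ) / (p : ℂ) ^ (k + 1) := by
        push_cast
        field_simp
        ring
      rw [e]
      exact h
    rw [pow_succ, mul_comm]
    exact Nat.mul_dvd_mul_left p (ih N' h2)

/-- **Reduction modulo the local ideal**, as a ring homomorphism from the local ring to the residue
field. -/
noncomputable def red (M : Ideal AlgInt) [hmax : M.IsMaximal] :
    localSubring (M := M) hmax.isPrime →+* ResField M where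
  toFun z := redFun M (z : ℂ)
  map_one' := by
    have := redFun_algInt (M := M) 1
    simpa using this
  map_mul' z w := by
    show redFun M ((z : ℂ) * (w : ℂ)) = _
    exact redFun_mul z.2 w.2
  map_zero' := by
    have := redFun_algInt (M := M) 0
    simpa using this
  map_add' z w := by
    show redFun M ((z : ℂ) + (w : ℂ)) = _
    exact redFun_add z.2 w.2

theorem red_apply [hmax : M.IsMaximal] (z : localSubring (M := M) hmax.isPrime) :
    red M z = redFun M (z : ℂ) := rfl

theorem red_eq_zero_iff [hmax : M.IsMaximal] (z : localSubring (M := M) hmax.isPrime) :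
    red M z = 0 ↔ MemLocalIdeal M (z : ℂ) :=
  redFun_eq_zero_iff z.2

theorem red_eq_iff [hmax : M.IsMaximal] (z w : localSubring (M := M) hmax.isPrime) :
    red M z = red M w ↔ MemLocalIdeal M ((z : ℂ) - (w : ℂ)) := by
  rw [← sub_eq_zero, ← map_sub, red_eq_zero_iff]
  rfl

/-- The residue field has characteristic `p`. -/
theorem charP_resField [hmax : M.IsMaximal] {p : ℕ} (hM : IsPModular p M) :
    CharP (ResField M) p := by
  have hp : p.Prime := hM.1
  have h0 : ((p : ℕ) : ResField M) = 0 := by
    have : mkK M (p : AlgInt) = 0 := (mkK_eq_zero_iff _).mpr hM.2.2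
    simpa using this
  exact (CharP.charP_iff_prime_eq_zero hp).mpr h0

end Cfsg.Agent.Lib.Helper79_Residue
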