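import Mathlib
import Cfsg.Prelude.Def_Blocks
import Cfsg.Agent.Lib.Helper78_GroupRing
import Cfsg.Agent.Lib.Helper79_Residue

/-!
# Brandt's theorem `k(B) = 2 ↔ |D| = 2` (row S4607): definitions (helper75)

* Part A (pure algebra): `commSpan`, `commSpanIn`, `cornerSub`, `SymForm`.
* The corner ring `he.Corner` of an idempotent of an `F`-algebra as an `F`-algebra
  (`cornerAlgebra`, `cornerVal`).
* Part B (bridge): the residue group algebra `MonoidAlgebra (ResField M) G`, the coefficientwise
  reduction `redG`, the block idempotents `EB B` (over `ℂ`) and `eB M B` (over the residue field),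
  the block subspace `blockSub` and its central part `blockCenterSub`.
-/

set_option autoImplicit false

namespace Cfsg.Agent.Lib.Helper75_BRDefs

open Cfsg Cfsg.Agent.Lib.Helper78_LocalRing Cfsg.Agent.Lib.Helper78_GroupRing
  Cfsg.Agent.Lib.Helper79_Residue

universe u v w

/-! ### Part A: pure algebra -/

section Alg

variable (F : Type v) [Field F] (R : Type w) [Ring R] [Algebra F R]

/-- The commutator subspace `[R, R]`: the `F`-span of all `a * b - b * a`. -/
def commSpan : Submodule F R := Submodule.span F {z | ∃ a b : R, z = a * b - b * a}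

variable {R} in
/-- The commutator subspace of a subspace `A`: the `F`-span of all `a * b - b * a`, `a, b ∈ A`. -/
def commSpanIn (A : Submodule F R) : Submodule F R :=
  Submodule.span F {z | ∃ a ∈ A, ∃ b ∈ A, z = a * b - b * a}

variable {R} in
/-- The corner `e R e = {x | e x = x = x e}` as an `F`-subspace of `R`. -/
def cornerSub (e : R) : Submodule F R where
  carrier := {x | e * x = x ∧ x * e = x}
  add_mem' := by
    rintro x y ⟨hx1, hx2⟩ ⟨hy1, hy2⟩
    exact ⟨by rw [mul_add, hx1, hy1], by rw [add_mul, hx2, hy2]⟩
  zero_mem' := ⟨mul_zero _, zero_mul _⟩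
  smul_mem' := by
    rintro c x ⟨hx1, hx2⟩
    exact ⟨by rw [mul_smul_comm, hx1], by rw [smul_mul_assoc, hx2]⟩

variable {F R} in
theorem mem_cornerSub {e x : R} : x ∈ cornerSub F e ↔ e * x = x ∧ x * e = x := Iff.rfl

/-- A symmetrizing form: a linear form `lam` with `lam (a b) = lam (b a)` whose associated
bilinear form is nondegenerate. -/
structure SymForm where
  /-- the linear form -/
  lam : R →ₗ[F] F
  symm : ∀ a b : R, lam (a * b) = lam (b * a)
  nondeg : ∀ a : R, (∀ b : R, lam (a * b) = 0) → a = 0

end Alg

/-! ### The corner ring of an idempotent as an algebra -/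

section Corner

variable {F : Type v} [Field F] {R : Type w} [Ring R] [Algebra F R] {e : R}

theorem smul_mem_corner (c : F) {x : R} (hx : x ∈ Subsemigroup.corner e) :
    c • x ∈ Subsemigroup.corner e := by
  obtain ⟨r, rfl⟩ := hx
  exact ⟨c • r, by simp⟩

noncomputable instance cornerSMul (he : IsIdempotentElem e) : SMul F he.Corner where
  smul c x := ⟨c • x.1, smul_mem_corner c x.2⟩

theorem coe_smul (he : IsIdempotentElem e) (c : F) (x : he.Corner) : (c • x).1 = c • x.1 := rfl
theorem coe_add (he : IsIdempotentElem e) (x y : he.Corner) : (x + y).1 = x.1 + y.1 := rfl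
theorem coe_mul (he : IsIdempotentElem e) (x y : he.Corner) : (x * y).1 = x.1 * y.1 := rfl
theorem coe_zero (he : IsIdempotentElem e) : (0 : he.Corner).1 = 0 := rfl
theorem coe_one (he : IsIdempotentElem e) : (1 : he.Corner).1 = e := rfl
theorem coe_neg (he : IsIdempotentElem e) (x : he.Corner) : (-x).1 = -x.1 := rfl
theorem coe_sub (he : IsIdempotentElem e) (x y : he.Corner) : (x - y).1 = x.1 - y.1 := rfl

noncomputable instance cornerModule (he : IsIdempotentElem e) : Module F he.Corner where
  one_smul x := Subtype.ext (by rw [coe_smul, one_smul])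
  mul_smul a b x := Subtype.ext (by rw [coe_smul, coe_smul, coe_smul, mul_smul])
  smul_zero a := Subtype.ext (by rw [coe_smul, coe_zero, smul_zero])
  smul_add a x y := Subtype.ext (by rw [coe_smul, coe_add, coe_add, coe_smul, coe_smul, smul_add])
  add_smul a b x := Subtype.ext (by rw [coe_smul, coe_add, coe_smul, coe_smul, add_smul])
  zero_smul x := Subtype.ext (by rw [coe_smul, coe_zero, zero_smul])

noncomputable instance cornerAlgebra (he : IsIdempotentElem e) : Algebra F he.Corner :=
  Algebra.ofModule
    (fun c x y => Subtype.ext (by rw [coe_mul, coe_smul, coe_smul, coe_mul, smul_mul_assoc]))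
    (fun c x y => Subtype.ext (by rw [coe_mul, coe_smul, coe_smul, coe_mul, mul_smul_comm]))

/-- The inclusion of the corner ring into `R`, as an `F`-linear map. -/
noncomputable def cornerVal (he : IsIdempotentElem e) : he.Corner →ₗ[F] R where
  toFun x := x.1
  map_add' _ _ := rfl
  map_smul' _ _ := rfl

theorem cornerVal_apply (he : IsIdempotentElem e) (x : he.Corner) :
    cornerVal (F := F) he x = x.1 := rfl

theorem cornerVal_injective (he : IsIdempotentElem e) :
    Function.Injective (cornerVal (F := F) he) :=
  fun _ _ h => Subtype.ext h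

theorem corner_finiteDimensional (he : IsIdempotentElem e) [FiniteDimensional F R] :
    FiniteDimensional F he.Corner :=
  FiniteDimensional.of_injective (cornerVal (F := F) he) (cornerVal_injective he)

theorem range_cornerVal (he : IsIdempotentElem e) :
    LinearMap.range (cornerVal (F := F) he) = cornerSub F e := by
  ext x
  constructor
  · rintro ⟨y, rfl⟩
    exact (Subsemigroup.mem_corner_iff he).mp y.2
  · intro hx
    exact ⟨⟨x, (Subsemigroup.mem_corner_iff he).mpr hx⟩, rfl⟩

end Corner

/-! ### Part B: the residue group algebra and the block idempotent -/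

section Grp

variable {G : Type u} [Group G] [Fintype G] (M : Ideal AlgInt) [hmax : M.IsMaximal]

/-- Coefficientwise reduction `ℂG → (ResField M) G` (meaningful on `Isub G _`, the elements with
local-integer coefficients; coefficients outside the local ring are sent to `0`). -/
noncomputable def redG (a : MonoidAlgebra ℂ G) : MonoidAlgebra (ResField M) G :=
  MonoidAlgebra.ofCoeff (Finsupp.equivFunOnFinite.symm (fun g => redFun M (a.coeff g)))

theorem redG_coeff (a : MonoidAlgebra ℂ G) (g : G) :
    (redG M a).coeff g = redFun M (a.coeff g) := by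
  simp [redG]

/-- The block idempotent of `B` in `ℂG`. -/
noncomputable def EB (B : Set (IrrCharacter G)) : MonoidAlgebra ℂ G := ofFn (blockCoeff B)

/-- The block idempotent of `B` in the residue group algebra. -/
noncomputable def eB (B : Set (IrrCharacter G)) : MonoidAlgebra (ResField M) G := redG M (EB B)

/-- The block part `(ResField M) G · e_B` of the residue group algebra. -/
noncomputable def blockSub (B : Set (IrrCharacter G)) :
    Submodule (ResField M) (MonoidAlgebra (ResField M) G) :=
  LinearMap.range (LinearMap.mulRight (ResField M) (eB M B))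

/-- The central part of the block part: central elements `x` with `x * e_B = x`. -/
noncomputable def blockCenterSub (B : Set (IrrCharacter G)) :
    Submodule (ResField M) (MonoidAlgebra (ResField M) G) where
  carrier := {x | (∀ y, x * y = y * x) ∧ x * eB M B = x}
  add_mem' := by
    rintro x y ⟨hx1, hx2⟩ ⟨hy1, hy2⟩
    exact ⟨fun z => by rw [add_mul, mul_add, hx1, hy1], by rw [add_mul, hx2, hy2]⟩
  zero_mem' := ⟨fun z => by rw [zero_mul, mul_zero], zero_mul _⟩
  smul_mem' := by
    rintro c x ⟨hx1, hx2⟩
    exact ⟨fun z => by rw [smul_mul_assoc, mul_smul_comm, hx1], by rw [smul_mul_assoc, hx2]⟩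

end Grp

end Cfsg.Agent.Lib.Helper75_BRDefs
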