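import Mathlib
import Cfsg.Agent.Lib.Helper75_BRDefs

set_option autoImplicit false

/-!
# Market `brandt_packages` (S4607, architect helper75), package A1-SYM (helper53)

In a symmetric algebra the centre is the orthogonal of the commutator space for the
symmetrizing form, hence `dim Z(R) + dim [R,R] = dim R`.
-/

namespace Cfsg.Agent.Lib.Helper53_BR_A1SYM

open Cfsg Cfsg.Agent.Lib.Helper78_LocalRing Cfsg.Agent.Lib.Helper78_GroupRing
  Cfsg.Agent.Lib.Helper79_Residue Cfsg.Agent.Lib.Helper75_BRDefs

universe u v w

variable {F : Type v} [Field F] {R : Type w} [Ring R] [Algebra F R]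

/-- the bilinear form `β(x, y) = lam (x * y)` of a symmetrizing form -/
noncomputable def symBilin (φ : SymForm F R) : LinearMap.BilinForm F R :=
  (LinearMap.mul F R).compr₂ φ.lam

theorem symBilin_apply (φ : SymForm F R) (x y : R) : symBilin φ x y = φ.lam (x * y) := rfl

theorem symBilin_ker (φ : SymForm F R) : LinearMap.ker (symBilin φ) = ⊥ := by
  rw [LinearMap.ker_eq_bot']
  intro a ha
  apply φ.nondeg a
  intro b
  have := LinearMap.congr_fun ha b
  rwa [symBilin_apply] at this

/-- `Z(R) = [R,R]^⊥` -/
theorem center_eq_orthogonal (φ : SymForm F R) :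
    Subalgebra.toSubmodule (Subalgebra.center F R) = (symBilin φ).orthogonal (commSpan F R) := by
  ext m
  rw [Subalgebra.mem_toSubmodule, Subalgebra.mem_center_iff, LinearMap.BilinForm.mem_orthogonal_iff]
  constructor
  · intro hm n hn
    unfold commSpan at hn
    induction hn using Submodule.span_induction with
    | mem z hz =>
      obtain ⟨a, b, rfl⟩ := hz
      rw [symBilin_apply, sub_mul, map_sub, sub_eq_zero, mul_assoc a b m, hm b, ← mul_assoc,
        φ.symm (a * m) b, ← mul_assoc]
    | zero => rw [map_zero, LinearMap.zero_apply]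
    | add x y _ _ hx hy => rw [map_add, LinearMap.add_apply, hx, hy, add_zero]
    | smul c x _ hx => rw [map_smul, LinearMap.smul_apply, hx, smul_zero]
  · intro h b
    have h1 : ∀ a : R, φ.lam ((b * m - m * b) * a) = 0 := by
      intro a
      have h2 := h (a * b - b * a) (Submodule.subset_span ⟨a, b, rfl⟩)
      rw [symBilin_apply, sub_mul, map_sub] at h2
      rw [φ.symm, mul_sub, map_sub, ← mul_assoc, ← mul_assoc, φ.symm (a * m) b, ← mul_assoc]
      exact h2
    exact sub_eq_zero.mp (φ.nondeg _ h1)

/-- **A1 (SYM)**. In a symmetric algebra the centre is the orthogonal of the commutator space. -/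
theorem finrank_center_add_commSpan [FiniteDimensional F R] (φ : SymForm F R) :
    Module.finrank F (Subalgebra.center F R) + Module.finrank F (commSpan F R) =
      Module.finrank F R := by
  have h1 := LinearMap.BilinForm.finrank_add_finrank_orthogonal' (B := symBilin φ) (commSpan F R)
  rw [symBilin_ker, inf_bot_eq, finrank_bot, add_zero, ← center_eq_orthogonal,
    Subalgebra.finrank_toSubmodule] at h1
  rw [add_comm]
  exact h1

end Cfsg.Agent.Lib.Helper53_BR_A1SYM
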