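import Mathlib
import Cfsg.Agent.Lib.Helper78_GroupRing
import Cfsg.Agent.Lib.Helper78_CharFacts

/-!
# Central elements of a block with central character values in the local ideal are nilpotent
modulo the local ideal (helper78)

`central_nilpotent`: let `b` be a block of `G` and `A` a central element of the group algebra with
local-integer coefficients and `A * e_b = A`.  If `ω_θ(A)` lies in the local ideal for all `θ ∈ b`,
then some power of `A` has all its coefficients in the local ideal.  (Cayley–Hamilton: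
`∏_{θ ∈ b} (A - ω_θ(A) e_b) = 0`.)
-/

set_option autoImplicit false
set_option linter.unusedSectionVars false

namespace Cfsg.Agent.Lib.Helper78_CentralNilp

open Cfsg Cfsg.Agent.Lib.Helper78_LocalRing Cfsg.Agent.Lib.Helper78_Osima
  Cfsg.Agent.Lib.Helper78_ExtConv Cfsg.Agent.Lib.Helper78_GroupRing
  Cfsg.Agent.Lib.Helper78_CharFacts

universe u

variable {G : Type u} [Group G] [Fintype G] {M : Ideal AlgInt}

theorem prod_sub_pow_mem (hM : M.IsPrime) {A E : MonoidAlgebra ℂ G} (hA : A ∈ Isub G hM)
    (hE : E ∈ Isub G hM) (l : List ℂ) (hl : ∀ r ∈ l, MemLocalIdeal M r) :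
    (l.map (fun r => A - r • E)).prod - A ^ l.length ∈ Zsub G hM := by
  induction l with
  | nil =>
    simp only [List.map_nil, List.prod_nil, List.length_nil, pow_zero, sub_self]
    exact (Zsub G hM).zero_mem
  | cons r l ih =>
    have hr : MemLocalIdeal M r := hl r List.mem_cons_self
    have hl' : ∀ r' ∈ l, MemLocalIdeal M r' := fun r' h => hl r' (List.mem_cons_of_mem _ h)
    have ih' := ih hl'
    rw [List.map_cons, List.prod_cons, List.length_cons, pow_succ']
    set P := (l.map (fun r => A - r • E)).prod with hP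
    have h1 : (A - r • E) * P - A * A ^ l.length =
        (A - r • E) * (P - A ^ l.length) - (r • E) * A ^ l.length := by
      noncomm_ring
    rw [h1]
    refine (Zsub G hM).sub_mem ?_ ?_
    · refine Isub_mul_Zsub hM _ ?_ _ ih'
      exact (Isub G hM).sub_mem hA (smul_mem_Isub hM (memLocalRing_of_memLocalIdeal hr) hE)
    · exact Zsub_mul_Isub hM _ (smul_mem_Zsub hM hr hE) _ ((Isub G hM).pow_mem hA _)

theorem central_nilpotent (hM : M.IsPrime) {b : Set (IrrCharacter G)} (hb : IsPBlock M b)
    {A : MonoidAlgebra ℂ G} (hAc : IsCentral A) (hAI : A ∈ Isub G hM)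
    (hAE : A * ofFn (blockCoeff b) = A)
    (hω : ∀ θ ∈ b, MemLocalIdeal M (Om (θ : G → ℂ) A)) : ∃ n : ℕ, A ^ n ∈ Zsub G hM := by
  classical
  have hfin : Finite (IrrCharacter G) := (charFacts (G := G)).finite
  set E : MonoidAlgebra ℂ G := ofFn (blockCoeff b) with hE
  have hEI : E ∈ Isub G hM := by
    intro g
    rw [hE, fn_ofFn]
    exact osima_block' hM hb g
  have hEc : IsCentral E := by
    unfold IsCentral
    rw [hE, fn_ofFn]
    exact blockCoeff_isClassFunction b
  have hOmE : ∀ χ : IrrCharacter G, Om (χ : G → ℂ) E = if χ ∈ b then 1 else 0 := by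
    intro χ
    unfold Om
    rw [hE, fn_ofFn, omega_blockCoeff charFacts b χ, Set.indicator_apply]
  set l : List (IrrCharacter G) := (Set.toFinite b).toFinset.toList with hl
  have hlmem : ∀ θ, θ ∈ l ↔ θ ∈ b := by
    intro θ
    rw [hl, Finset.mem_toList, Set.Finite.mem_toFinset]
  set P : MonoidAlgebra ℂ G :=
    (l.map (fun θ : IrrCharacter G => A - Om (θ : G → ℂ) A • E)).prod with hP
  have hfc : ∀ a ∈ l.map (fun θ : IrrCharacter G => A - Om (θ : G → ℂ) A • E), IsCentral a := by
    intro a ha
    obtain ⟨θ, -, rfl⟩ := List.mem_map.mp ha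
    exact isCentral_sub hAc (isCentral_smul _ hEc)
  have hP0 : P = 0 := by
    apply fn_injective
    rw [fn_zero]
    have hPc : IsCentral P := isCentral_list_prod _ hfc
    apply eq_zero_of_omega_eq_zero charFacts hPc
    intro χ
    show Om (χ : G → ℂ) P = 0
    rw [hP, Om_list_prod χ.2 _ hfc]
    apply List.prod_eq_zero
    rw [List.map_map, List.mem_map]
    by_cases hχ : χ ∈ b
    · refine ⟨χ, (hlmem χ).mpr hχ, ?_⟩
      simp only [Function.comp_apply]
      rw [Om_sub, Om_smul, hOmE χ, if_pos hχ, mul_one, sub_self]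
    · obtain ⟨θ₀, hθ₀⟩ := isPBlock_nonempty hM hb
      have hA0 : Om (χ : G → ℂ) A = 0 := by
        rw [← hAE, Om_mul χ.2 A hEc, hOmE χ, if_neg hχ, mul_zero]
      refine ⟨θ₀, (hlmem θ₀).mpr hθ₀, ?_⟩
      simp only [Function.comp_apply]
      rw [Om_sub, Om_smul, hOmE χ, if_neg hχ, mul_zero, hA0, sub_self]
  refine ⟨l.length, ?_⟩
  have h1 := prod_sub_pow_mem hM hAI hEI (l.map (fun θ : IrrCharacter G => Om (θ : G → ℂ) A))
    (by
      intro r hr
      obtain ⟨θ, hθ, rfl⟩ := List.mem_map.mp hr
      exact hω θ ((hlmem θ).mp hθ))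
  rw [List.map_map, List.length_map] at h1
  have h2 : (l.map ((fun r => A - r • E) ∘ fun θ : IrrCharacter G => Om (θ : G → ℂ) A)).prod = P := by
    rw [hP]
    rfl
  rw [h2, hP0, zero_sub] at h1
  have := (Zsub G hM).neg_mem h1
  rwa [neg_neg] at this

end Cfsg.Agent.Lib.Helper78_CentralNilp
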