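import Mathlib
import Cfsg.Agent.Lib.Helper75_BRDefs
import Cfsg.Agent.Lib.Helper78_CentralNilp
import Cfsg.Agent.Lib.Helper78_CharFacts

/-!
# Brandt market (architect helper75, row S4607), package A3 (SURJ), verbatim: `commSpan_surj`.
Codimension of the commutator space along a surjection of algebras.
-/

set_option autoImplicit false

namespace Cfsg.Agent.Lib.Helper58_BR_A3_SURJ

open Cfsg Cfsg.Agent.Lib.Helper78_LocalRing Cfsg.Agent.Lib.Helper78_GroupRing
  Cfsg.Agent.Lib.Helper79_Residue Cfsg.Agent.Lib.Helper75_BRDefs

universe u v w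

section A

variable {F : Type v} [Field F] {R : Type w} [Ring R] [Algebra F R]

/-- a surjection of algebras maps the commutator space onto the commutator space -/
theorem h58_map_commSpan {S : Type*} [Ring S] [Algebra F S]
    (π : R →ₐ[F] S) (hπ : Function.Surjective π) :
    (commSpan F R).map π.toLinearMap = commSpan F S := by
  unfold commSpan
  rw [Submodule.map_span]
  congr 1
  ext z
  constructor
  · rintro ⟨y, ⟨a, b, rfl⟩, rfl⟩
    exact ⟨π a, π b, by simp⟩
  · rintro ⟨a, b, rfl⟩
    obtain ⟨a', rfl⟩ := hπ a
    obtain ⟨b', rfl⟩ := hπ b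
    exact ⟨a' * b' - b' * a', ⟨a', b', rfl⟩, by simp⟩

/-- `dim T = dim f(T) + dim ker f` for a subspace `T` containing the kernel of `f` -/
theorem h58_finrank_of_ker_le {M N : Type*} [AddCommGroup M] [Module F M] [AddCommGroup N]
    [Module F N] [FiniteDimensional F M] (f : M →ₗ[F] N) (T : Submodule F M)
    (hT : LinearMap.ker f ≤ T) :
    Module.finrank F T = Module.finrank F (T.map f) + Module.finrank F (LinearMap.ker f) := by
  have h := LinearMap.finrank_range_add_finrank_ker (f.domRestrict T)
  rw [LinearMap.range_domRestrict, LinearMap.ker_domRestrict,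
    (Submodule.comapSubtypeEquivOfLe hT).finrank_eq] at h
  exact h.symm

/-- **A3 (SURJ)**. Codimension of the commutator space along a surjection. -/
theorem commSpan_surj {S : Type*} [Ring S] [Algebra F S] [FiniteDimensional F R]
    (π : R →ₐ[F] S) (hπ : Function.Surjective π) :
    Module.finrank F (commSpan F S) + Module.finrank F R =
      Module.finrank F S +
        Module.finrank F ↥(commSpan F R ⊔ LinearMap.ker π.toLinearMap) := by
  have h1 := h58_finrank_of_ker_le π.toLinearMap
    (commSpan F R ⊔ LinearMap.ker π.toLinearMap) le_sup_right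
  have hmap : (commSpan F R ⊔ LinearMap.ker π.toLinearMap).map π.toLinearMap = commSpan F S := by
    rw [Submodule.map_sup, h58_map_commSpan π hπ]
    have : (LinearMap.ker π.toLinearMap).map π.toLinearMap = ⊥ :=
      (LinearMap.le_ker_iff_map).mp le_rfl
    rw [this, sup_bot_eq]
  rw [hmap] at h1
  have h2 := LinearMap.finrank_range_add_finrank_ker π.toLinearMap
  have hr : LinearMap.range π.toLinearMap = ⊤ := LinearMap.range_eq_top.mpr hπ
  rw [hr, finrank_top] at h2
  omega

end A

end Cfsg.Agent.Lib.Helper58_BR_A3_SURJ
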