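import Mathlib
import Cfsg.Agent.Lib.Helper75_BRDefs
import Cfsg.Agent.Lib.Helper78_CentralNilp
import Cfsg.Agent.Lib.Helper78_CharFacts

/-!
# Brandt market (architect helper75), package A2 (PI): a product of `l` matrix algebras has
commutator space of codimension at least `l`
-/

set_option autoImplicit false

namespace Cfsg.Agent.Lib.Helper83_BR_A2PI

open Cfsg Cfsg.Agent.Lib.Helper78_LocalRing Cfsg.Agent.Lib.Helper78_GroupRing
  Cfsg.Agent.Lib.Helper79_Residue Cfsg.Agent.Lib.Helper75_BRDefs

universe u v w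

section A

variable {F : Type v} [Field F] {R : Type w} [Ring R] [Algebra F R]

/-- the tuple of traces of the factors -/
noncomputable def trTuple (l : ℕ) (d : Fin l → ℕ) :
    (Π i, Matrix (Fin (d i)) (Fin (d i)) F) →ₗ[F] (Fin l → F) :=
  LinearMap.pi fun i => (Matrix.traceLinearMap (Fin (d i)) F F).comp (LinearMap.proj i)

theorem trTuple_apply (l : ℕ) (d : Fin l → ℕ) (s : Π i, Matrix (Fin (d i)) (Fin (d i)) F)
    (i : Fin l) : trTuple (F := F) l d s i = Matrix.trace (s i) := rfl

theorem commSpan_le_ker (l : ℕ) (d : Fin l → ℕ) :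
    commSpan F (Π i, Matrix (Fin (d i)) (Fin (d i)) F) ≤ LinearMap.ker (trTuple (F := F) l d) := by
  unfold commSpan
  rw [Submodule.span_le]
  rintro z ⟨a, b, rfl⟩
  rw [SetLike.mem_coe, LinearMap.mem_ker]
  funext i
  rw [trTuple_apply, Pi.sub_apply, Pi.mul_apply, Pi.mul_apply, Matrix.trace_sub,
    Matrix.trace_mul_comm, sub_self, Pi.zero_apply]

theorem trTuple_surjective (l : ℕ) (d : Fin l → ℕ) (hd : ∀ i, NeZero (d i)) :
    Function.Surjective (trTuple (F := F) l d) := by
  intro y
  have h0 : ∀ i, 0 < d i := fun i => Nat.pos_of_ne_zero (hd i).out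
  refine ⟨fun i => y i • Matrix.single (⟨0, h0 i⟩ : Fin (d i)) ⟨0, h0 i⟩ (1 : F), ?_⟩
  funext i
  rw [trTuple_apply, Matrix.trace_smul, Matrix.trace_single_eq_same, smul_eq_mul, mul_one]

/-- **A2 (PI)**. A product of `l` matrix algebras has commutator space of codimension `≥ l`. -/
theorem pi_matrix_codim (l : ℕ) (d : Fin l → ℕ) (hd : ∀ i, NeZero (d i)) :
    l + Module.finrank F (commSpan F (Π i, Matrix (Fin (d i)) (Fin (d i)) F)) ≤
      Module.finrank F (Π i, Matrix (Fin (d i)) (Fin (d i)) F) := by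
  have h1 := LinearMap.finrank_range_add_finrank_ker (trTuple (F := F) l d)
  have h2 : Module.finrank F ↥(LinearMap.range (trTuple (F := F) l d)) = l := by
    rw [LinearMap.range_eq_top.mpr (trTuple_surjective l d hd), finrank_top,
      Module.finrank_fin_fun]
  have h3 := Submodule.finrank_mono (commSpan_le_ker (F := F) l d)
  omega

end A

end Cfsg.Agent.Lib.Helper83_BR_A2PI
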