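import Mathlib
import Cfsg.Agent.Lib.Helper75_BRDefs
import Cfsg.Agent.Lib.Helper53_BR_A1SYM
import Cfsg.Agent.Lib.Helper83_BR_A2PI
import Cfsg.Agent.Lib.Helper58_BR_A3_SURJ

/-!
# Brandt market (architect helper75), package A4b-ONE (helper27)

`pi_matrix_single`: a connected symmetric algebra with centre of dimension 2 has exactly one
simple factor modulo its radical.
-/

set_option autoImplicit false

namespace Cfsg.Agent.Lib.Helper27_BR_A4bONE

open Cfsg Cfsg.Agent.Lib.Helper78_LocalRing Cfsg.Agent.Lib.Helper78_GroupRing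
  Cfsg.Agent.Lib.Helper79_Residue Cfsg.Agent.Lib.Helper75_BRDefs

universe u v w

variable {F : Type v} [Field F] {R : Type w} [Ring R] [Algebra F R]

/-- the symmetrizing form vanishes on the commutator space -/
theorem lam_commSpan (φ : SymForm F R) {z : R} (hz : z ∈ commSpan F R) : φ.lam z = 0 := by
  unfold commSpan at hz
  refine Submodule.span_induction ?_ ?_ ?_ ?_ hz
  · rintro _ ⟨a, b, rfl⟩
    rw [map_sub, φ.symm a b, sub_self]
  · exact map_zero _
  · intro x y _ _ hx hy
    rw [map_add, hx, hy, add_zero]
  · intro c x _ hx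
    rw [map_smul, hx, smul_zero]

/-- **A4b (ONE)** with the instances of A2, A3 as hypotheses. -/
theorem pi_matrix_single_of [FiniteDimensional F R] (φ : SymForm F R)
    (hZ : Module.finrank F (Subalgebra.center F R) = 2)
    (hconn : ∀ z : R, (∀ y, z * y = y * z) → z * z = z → z = 0 ∨ z = 1)
    (l : ℕ) (d : Fin l → ℕ) (hd : ∀ i, NeZero (d i))
    (π : R →ₐ[F] (Π i, Matrix (Fin (d i)) (Fin (d i)) F)) (hπ : Function.Surjective π)
    (N : ℕ) (hN : ∀ L : List R, L.length = N → (∀ x ∈ L, π x = 0) → L.prod = 0)
    (hA2 : l + Module.finrank F (commSpan F (Π i, Matrix (Fin (d i)) (Fin (d i)) F)) ≤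
      Module.finrank F (Π i, Matrix (Fin (d i)) (Fin (d i)) F))
    (hA3 : Module.finrank F (commSpan F (Π i, Matrix (Fin (d i)) (Fin (d i)) F)) +
        Module.finrank F R =
      Module.finrank F (Π i, Matrix (Fin (d i)) (Fin (d i)) F) +
        Module.finrank F ↥(commSpan F R ⊔ LinearMap.ker π.toLinearMap)) :
    ∃ (n : ℕ) (_ : 0 < n) (π' : R →ₐ[F] Matrix (Fin n) (Fin n) F),
      Function.Surjective π' ∧ ∀ x, π' x = 0 ↔ π x = 0 := by
  have hA1 := Cfsg.Agent.Lib.Helper53_BR_A1SYM.finrank_center_add_commSpan φ
  have hle : Module.finrank F (commSpan F R) ≤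
      Module.finrank F ↥(commSpan F R ⊔ LinearMap.ker π.toLinearMap) :=
    Submodule.finrank_mono le_sup_left
  have hl2 : l ≤ 2 := by omega
  obtain rfl | rfl | rfl : l = 0 ∨ l = 1 ∨ l = 2 := by omega
  · -- `l = 0`: `R` is trivial
    exfalso
    have h1 : (List.replicate N (1 : R)).prod = 0 := by
      apply hN _ List.length_replicate
      intro x _
      exact Subsingleton.elim _ _
    rw [List.prod_replicate, one_pow] at h1
    have hsub : Subsingleton R := subsingleton_of_zero_eq_one h1.symm
    have : Module.finrank F (Subalgebra.center F R) = 0 := Module.finrank_zero_of_subsingleton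
    omega
  · -- `l = 1`
    refine ⟨d 0, Nat.pos_of_ne_zero (hd 0).out,
      (Pi.evalAlgHom F (fun i => Matrix (Fin (d i)) (Fin (d i)) F) 0).comp π, ?_, ?_⟩
    · intro y
      obtain ⟨x, hx⟩ := hπ (fun i => by
        have : i = 0 := Subsingleton.elim _ _
        rw [this]
        exact y)
      refine ⟨x, ?_⟩
      rw [AlgHom.comp_apply, hx]
      rfl
    · intro x
      rw [AlgHom.comp_apply]
      constructor
      · intro h
        funext i
        have : i = 0 := Subsingleton.elim _ _
        rw [this]
        exact h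
      · intro h
        rw [h]
        rfl
  · -- `l = 2`: impossible
    exfalso
    have heq : commSpan F R ⊔ LinearMap.ker π.toLinearMap = commSpan F R := by
      symm
      apply Submodule.eq_of_le_of_finrank_le le_sup_left
      omega
    have hker : LinearMap.ker π.toLinearMap ≤ commSpan F R := by
      rw [← heq]
      exact le_sup_right
    have hinj : Function.Injective π := by
      rw [injective_iff_map_eq_zero]
      intro j hj
      apply φ.nondeg
      intro b
      apply lam_commSpan φ
      apply hker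
      rw [LinearMap.mem_ker]
      show π (j * b) = 0
      rw [map_mul, hj, zero_mul]
    obtain ⟨z, hz⟩ := hπ (Pi.single 0 1)
    have hcen : ∀ y, z * y = y * z := by
      intro y
      apply hinj
      rw [map_mul, map_mul, hz]
      funext i
      simp only [Pi.mul_apply]
      by_cases hi : i = 0
      · subst hi
        simp
      · simp [hi]
    have hidem : z * z = z := by
      apply hinj
      rw [map_mul, hz, ← Pi.single_mul, one_mul]
    have := hd 0
    have := hd 1
    rcases hconn z hcen hidem with h0 | h1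
    · rw [h0, map_zero] at hz
      have := congrFun hz 0
      simp at this
    · rw [h1, map_one] at hz
      have := congrFun hz 1
      simp at this

/-- **A4b (ONE)**. Symmetric, centre of dimension 2 and connected: exactly one simple factor. -/
theorem pi_matrix_single [FiniteDimensional F R] (φ : SymForm F R)
    (hZ : Module.finrank F (Subalgebra.center F R) = 2)
    (hconn : ∀ z : R, (∀ y, z * y = y * z) → z * z = z → z = 0 ∨ z = 1)
    (l : ℕ) (d : Fin l → ℕ) (hd : ∀ i, NeZero (d i))
    (π : R →ₐ[F] (Π i, Matrix (Fin (d i)) (Fin (d i)) F)) (hπ : Function.Surjective π)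
    (N : ℕ) (hN : ∀ L : List R, L.length = N → (∀ x ∈ L, π x = 0) → L.prod = 0) :
    ∃ (n : ℕ) (_ : 0 < n) (π' : R →ₐ[F] Matrix (Fin n) (Fin n) F),
      Function.Surjective π' ∧ ∀ x, π' x = 0 ↔ π x = 0 :=
  pi_matrix_single_of φ hZ hconn l d hd π hπ N hN
    (Cfsg.Agent.Lib.Helper83_BR_A2PI.pi_matrix_codim l d hd)
    (Cfsg.Agent.Lib.Helper58_BR_A3_SURJ.commSpan_surj π hπ)

end Cfsg.Agent.Lib.Helper27_BR_A4bONE
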