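import Mathlib

set_option autoImplicit false

/-!
Bitmask encoding of finsets: `natMask T = ∑ i ∈ T, 2 ^ i` for `T : Finset ℕ`, and
`mask e s = natMask (s.map e)` for an embedding `e : α ↪ ℕ`.  Intersections, unions, symmetric
differences, subset tests and cardinalities become kernel-friendly operations on naturals.
-/

namespace Cfsg.Agent.Lib.Helper27_Bitmask

/-- population count of the lowest `k` bits -/
def popc : ℕ → ℕ → ℕ
  | 0, _ => 0
  | k + 1, n => n % 2 + popc k (n / 2)

theorem popc_eq_sum (k : ℕ) : ∀ n : ℕ, popc k n = ∑ i ∈ Finset.range k, (n.testBit i).toNat := by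
  induction k with
  | zero => intro n; simp [popc]
  | succ k ih =>
    intro n
    rw [popc, ih, Finset.sum_range_succ']
    simp only [Nat.testBit_div_two]
    rw [add_comm]
    congr 1
    rw [Nat.toNat_testBit]
    simp

/-- the bitmask of a finset of naturals -/
def natMask (T : Finset ℕ) : ℕ := ∑ i ∈ T, 2 ^ i

theorem testBit_natMask (T : Finset ℕ) (i : ℕ) : (natMask T).testBit i = decide (i ∈ T) := by
  have h : i ∈ (natMask T).bitIndices.toFinset ↔ i ∈ T := by
    rw [natMask, Finset.toFinset_bitIndices_sum_two_pow]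
  rw [List.mem_toFinset, Nat.mem_bitIndices] at h
  by_cases hi : i ∈ T
  · simp [hi, h.2 hi]
  · have : ¬ (natMask T).testBit i = true := fun hh => hi (h.1 hh)
    simp [hi, this]

theorem natMask_injective : Function.Injective natMask := by
  intro S T h
  ext i
  have := congrArg (fun n => Nat.testBit n i) h
  simp only [testBit_natMask] at this
  simpa using this

theorem natMask_inter (S T : Finset ℕ) : natMask (S ∩ T) = natMask S &&& natMask T := by
  apply Nat.eq_of_testBit_eq
  intro i
  simp [Nat.testBit_and, testBit_natMask, Finset.mem_inter]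

theorem natMask_union (S T : Finset ℕ) : natMask (S ∪ T) = natMask S ||| natMask T := by
  apply Nat.eq_of_testBit_eq
  intro i
  simp [Nat.testBit_or, testBit_natMask, Finset.mem_union]

theorem natMask_symmDiff (S T : Finset ℕ) : natMask (symmDiff S T) = natMask S ^^^ natMask T := by
  apply Nat.eq_of_testBit_eq
  intro i
  simp only [Nat.testBit_xor, testBit_natMask, Finset.mem_symmDiff]
  by_cases h1 : i ∈ S <;> by_cases h2 : i ∈ T <;> simp [h1, h2]

theorem natMask_subset_iff (S T : Finset ℕ) : S ⊆ T ↔ natMask S &&& natMask T = natMask S := by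
  rw [← natMask_inter, natMask_injective.eq_iff, Finset.inter_eq_left]

theorem natMask_empty : natMask ∅ = 0 := by simp [natMask]

theorem natMask_lt (k : ℕ) (T : Finset ℕ) (h : ∀ i ∈ T, i < k) : natMask T < 2 ^ k := by
  apply Nat.lt_pow_two_of_testBit
  intro i hi
  rw [testBit_natMask]
  simp only [decide_eq_false_iff_not]
  intro hmem
  exact absurd (h i hmem) (by omega)

theorem popc_natMask (k : ℕ) (T : Finset ℕ) (h : ∀ i ∈ T, i < k) : popc k (natMask T) = T.card := by
  rw [popc_eq_sum]
  simp only [testBit_natMask]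
  have : ∀ i, (decide (i ∈ T)).toNat = if i ∈ T then 1 else 0 := by
    intro i; by_cases hi : i ∈ T <;> simp [hi]
  simp only [this]
  rw [Finset.sum_ite_mem, Finset.sum_const, smul_eq_mul, mul_one]
  congr 1
  ext i
  simp only [Finset.mem_inter, Finset.mem_range]
  exact ⟨fun hh => hh.2, fun hh => ⟨h i hh, hh⟩⟩

section mask
variable {α : Type*}

/-- the bitmask of a finset, relative to a numbering of the points -/
def mask (e : α ↪ ℕ) (s : Finset α) : ℕ := natMask (s.map e)

theorem mask_injective (e : α ↪ ℕ) : Function.Injective (mask e) := fun _ _ h =>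
  Finset.map_injective e (natMask_injective h)

theorem mask_inter [DecidableEq α] (e : α ↪ ℕ) (s t : Finset α) :
    mask e (s ∩ t) = mask e s &&& mask e t := by
  rw [mask, Finset.map_inter, natMask_inter]; rfl

theorem mask_union [DecidableEq α] (e : α ↪ ℕ) (s t : Finset α) :
    mask e (s ∪ t) = mask e s ||| mask e t := by
  rw [mask, Finset.map_union, natMask_union]; rfl

theorem mask_symmDiff [DecidableEq α] (e : α ↪ ℕ) (s t : Finset α) :
    mask e (symmDiff s t) = mask e s ^^^ mask e t := by
  have : (symmDiff s t).map e = symmDiff (s.map e) (t.map e) := by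
    ext i
    simp only [Finset.mem_map, Finset.mem_symmDiff]
    constructor
    · rintro ⟨a, ha, rfl⟩
      rcases ha with ⟨h1, h2⟩ | ⟨h1, h2⟩
      · exact Or.inl ⟨⟨a, h1, rfl⟩, fun ⟨b, hb, hab⟩ => h2 (e.injective hab ▸ hb)⟩
      · exact Or.inr ⟨⟨a, h1, rfl⟩, fun ⟨b, hb, hab⟩ => h2 (e.injective hab ▸ hb)⟩
    · rintro (⟨⟨a, h1, rfl⟩, h2⟩ | ⟨⟨a, h1, rfl⟩, h2⟩)
      · exact ⟨a, Or.inl ⟨h1, fun h => h2 ⟨a, h, rfl⟩⟩, rfl⟩
      · exact ⟨a, Or.inr ⟨h1, fun h => h2 ⟨a, h, rfl⟩⟩, rfl⟩
  rw [mask, this, natMask_symmDiff]; rfl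

theorem mask_subset_iff (e : α ↪ ℕ) (s t : Finset α) :
    s ⊆ t ↔ mask e s &&& mask e t = mask e s := by
  rw [mask, mask, ← natMask_subset_iff, Finset.map_subset_map]

theorem mask_empty (e : α ↪ ℕ) : mask e ∅ = 0 := by simp [mask, natMask_empty]

theorem mask_lt (e : α ↪ ℕ) (k : ℕ) (he : ∀ a, e a < k) (s : Finset α) : mask e s < 2 ^ k := by
  apply natMask_lt
  intro i hi
  obtain ⟨a, _, rfl⟩ := Finset.mem_map.1 hi
  exact he a

theorem popc_mask (e : α ↪ ℕ) (k : ℕ) (he : ∀ a, e a < k) (s : Finset α) :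
    popc k (mask e s) = s.card := by
  rw [mask, popc_natMask, Finset.card_map]
  intro i hi
  obtain ⟨a, _, rfl⟩ := Finset.mem_map.1 hi
  exact he a

theorem testBit_mask (e : α ↪ ℕ) (s : Finset α) (a : α) :
    (mask e s).testBit (e a) = true ↔ a ∈ s := by
  rw [mask, testBit_natMask]
  simp

/-- every number below `2 ^ k` is the mask of a finset when the numbering is onto `[0, k)` -/
theorem exists_mask_eq (e : α ↪ ℕ) (k : ℕ) (hsurj : ∀ i < k, ∃ a, e a = i) (n : ℕ) (hn : n < 2 ^ k) :
    ∃ s : Finset α, mask e s = n := by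
  classical
  have hb : ∀ i ∈ n.bitIndices.toFinset, i < k := by
    intro i hi
    rw [List.mem_toFinset, Nat.mem_bitIndices] at hi
    by_contra hik
    have : n < 2 ^ i := lt_of_lt_of_le hn (Nat.pow_le_pow_right (by norm_num) (by omega))
    rw [Nat.testBit_lt_two_pow this] at hi
    exact absurd hi (by simp)
  rcases isEmpty_or_nonempty α with hα | hα
  · refine ⟨∅, ?_⟩
    rw [mask_empty]
    rcases Nat.eq_zero_or_pos k with hk | hk
    · subst hk; simp at hn; exact hn.symm
    · obtain ⟨a, _⟩ := hsurj 0 hk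
      exact (hα.false a).elim
  choose! f hf using hsurj
  refine ⟨(n.bitIndices.toFinset).image f, ?_⟩
  rw [mask]
  have : ((n.bitIndices.toFinset).image f).map e = n.bitIndices.toFinset := by
    ext i
    simp only [Finset.mem_map, Finset.mem_image]
    constructor
    · rintro ⟨a, ⟨j, hj, rfl⟩, rfl⟩
      rw [hf j (hb j hj)]; exact hj
    · intro hi
      exact ⟨f i, ⟨i, hi, rfl⟩, hf i (hb i hi)⟩
  rw [this, natMask, Finset.sum_toFinset_bitIndices_two_pow]

end mask

end Cfsg.Agent.Lib.Helper27_Bitmask
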