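import Mathlib

/-!
# The search through the cycles of length `n - 2` on `n` points (helper27, S4150)

Permutations of at most 13 points are packed tables, four bits for each entry.  The search `dfs`
runs through all the cycles `(2 3 v₁ v₂ ...)` on the points `2, ..., n - 1`, and tests at each of
them, with a hint, that a word in the cycle and the rotation `i ↦ i + 1` has a cycle of length seven
(or a power that is a cycle of length three or five).  This file has the functions, for the kernel,
and the specification of the search.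
-/

set_option autoImplicit false

namespace Cfsg.Agent.Lib.Helper27_TwinEnum

/-- lookup in a packed table, four bits for each entry -/
def ent (T i : ℕ) : ℕ := Nat.land (Nat.shiftRight T (Nat.mul 4 i)) 15

/-- put the value `v` in the slot `c` of a packed table -/
def putv (T c v : ℕ) : ℕ := Nat.lor T (Nat.shiftLeft v (Nat.mul 4 c))

/-- delete the entry `r` of a packed list -/
def delNib (R r : ℕ) : ℕ :=
  Nat.lor (Nat.land R (Nat.sub (Nat.shiftLeft 1 (Nat.mul 4 r)) 1))
    (Nat.shiftLeft (Nat.shiftRight R (Nat.add (Nat.mul 4 r) 4)) (Nat.mul 4 r))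

/-- evaluate the argument before passing it on (for the kernel) -/
def forceN (n : ℕ) (f : ℕ → Bool) : Bool :=
  Nat.rec (motive := fun _ => Bool) (f 0) (fun k _ => f (Nat.succ k)) n

/-- the table of `x c^a`, for a table of `n` entries -/
def rot (T n a : ℕ) : ℕ :=
  Nat.land (Nat.lor (Nat.shiftRight T (Nat.mul 4 a))
    (Nat.shiftLeft T (Nat.mul 4 (Nat.sub n a)))) (Nat.sub (Nat.shiftLeft 1 (Nat.mul 4 n)) 1)

/-- the point `s` lies on a cycle of length seven of the table `A` -/
def chk7one (A s : ℕ) : Bool :=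
  Nat.beq (ent A (ent A (ent A (ent A (ent A (ent A (ent A s))))))) s && !(Nat.beq (ent A s) s)

/-- the point `s` lies on a cycle of length seven of the product of the tables `A` and `B` -/
def chk7two (A B s : ℕ) : Bool :=
  Nat.beq (ent A (ent B (ent A (ent B (ent A (ent B (ent A (ent B (ent A (ent B (ent A (ent B
    (ent A (ent B s)))))))))))))) s && !(Nat.beq (ent A (ent B s)) s)

/-- the test with a hint for a cycle of length seven: the word is `x c^a` when `b = 0`, and
`x c^a x c^(b-1)` otherwise -/
def chk7 (T n a b s : ℕ) : Bool :=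
  forceN (rot T n a) fun A =>
    bif Nat.beq b 0 then chk7one A s else forceN (rot T n (Nat.pred b)) fun B => chk7two A B s

/-- the word on points -/
def wd (T n a b i : ℕ) : ℕ :=
  ent T (Nat.mod (Nat.add (bif Nat.beq b 0 then i else ent T (Nat.mod (Nat.add i (Nat.pred b)) n)) a) n)

/-- iterate the word -/
def wdIter (T n a b : ℕ) (e i : ℕ) : ℕ :=
  Nat.rec (motive := fun _ => ℕ) i (fun _ acc => wd T n a b acc) e

/-- the number of the points `i < m` moved by the `e`-th power of the word -/
def cntMoved (T n a b e : ℕ) (m : ℕ) : ℕ :=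
  Nat.rec (motive := fun _ => ℕ) 0
    (fun i acc => bif Nat.beq (wdIter T n a b e i) i then acc else Nat.succ acc) m

/-- all the points `i < m` are fixed by the `e`-th power of the word -/
def allFixed (T n a b e : ℕ) (m : ℕ) : Bool :=
  Nat.rec (motive := fun _ => Bool) true
    (fun i acc => Nat.beq (wdIter T n a b e i) i && acc) m

/-- the `e`-th power of the word moves exactly `l` points, and its `l`-th power is trivial -/
def chkL (T n : ℕ) (t : ℕ × ℕ × ℕ × ℕ) : Bool :=
  Nat.ble (Nat.add t.2.2.2 3) n && Nat.beq (cntMoved T n t.1 t.2.1 t.2.2.1 n) t.2.2.2 &&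
    allFixed T n t.1 t.2.1 (Nat.mul t.2.2.1 t.2.2.2) n

/-- the test at a leaf, with the hint `h`; the exceptional leaves try the list `EX` -/
def leafH (n : ℕ) (EX : List (ℕ × ℕ × ℕ × ℕ)) (T h : ℕ) : Bool :=
  bif Nat.beq h 4095 then EX.any (chkL T n)
  else
    (fun s a b => Nat.ble 10 n && Nat.blt s n && Nat.blt a n && Nat.ble b n && chk7 T n a b s)
      (Nat.land h 15) (Nat.land (Nat.shiftRight h 4) 15) (Nat.shiftRight h 8)

/-- the test at a leaf -/
def leafChk (n H : ℕ) (EX : List (ℕ × ℕ × ℕ × ℕ)) (idx T : ℕ) : Bool :=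
  forceN (Nat.land (Nat.shiftRight H (Nat.mul 12 idx)) 4095) fun h => forceN T fun T' =>
    leafH n EX T' h

/-- the search through all the cycles `(2 3 v₁ v₂ ...)`; the packed list `R` holds the values
that are left, one more than the first argument -/
def dfs (n H : ℕ) (EX : List (ℕ × ℕ × ℕ × ℕ)) : ℕ → ℕ → ℕ → ℕ → ℕ → Bool :=
  Nat.rec (motive := fun _ => ℕ → ℕ → ℕ → ℕ → Bool)
    (fun cur T R idx => leafChk n H EX idx (putv (putv T cur R) R 2))
    (fun k ih cur T R idx =>
      Nat.rec (motive := fun _ => Bool) true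
        (fun r acc =>
          (forceN (ent R r) fun v => forceN (putv T cur v) fun T' => forceN (delNib R r) fun R' =>
            forceN (Nat.add (Nat.mul idx (Nat.add k 2)) r) fun idx' => ih v T' R' idx') && acc)
        (Nat.add k 2))

theorem ent_eq (T i : ℕ) : ent T i = (T >>> (4 * i)) &&& 15 := rfl

theorem putv_eq (T c v : ℕ) : putv T c v = T ||| (v <<< (4 * c)) := rfl

theorem forceN_eq (n : ℕ) (f : ℕ → Bool) : forceN n f = f n := by
  cases n <;> rfl

theorem wd_eq (T n a b i : ℕ) : wd T n a b i =
    ent T (Nat.mod (Nat.add (bif Nat.beq b 0 then i else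
      ent T (Nat.mod (Nat.add i (Nat.pred b)) n)) a) n) := rfl

theorem chk7_eq (T n a b s : ℕ) : chk7 T n a b s =
    forceN (rot T n a) fun A =>
      bif Nat.beq b 0 then chk7one A s else forceN (rot T n (Nat.pred b)) fun B =>
        chk7two A B s := rfl

theorem chk7one_eq (A s : ℕ) : chk7one A s =
    (Nat.beq ((fun i => ent A i)^[7] s) s && !(Nat.beq (ent A s) s)) := rfl

theorem chk7two_eq (A B s : ℕ) : chk7two A B s =
    (Nat.beq ((fun i => ent A (ent B i))^[7] s) s && !(Nat.beq (ent A (ent B s)) s)) := rfl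

theorem chkL_eq (T n : ℕ) (t : ℕ × ℕ × ℕ × ℕ) : chkL T n t =
    (Nat.ble (Nat.add t.2.2.2 3) n && Nat.beq (cntMoved T n t.1 t.2.1 t.2.2.1 n) t.2.2.2 &&
      allFixed T n t.1 t.2.1 (Nat.mul t.2.2.1 t.2.2.2) n) := rfl

theorem leafH_eq (n : ℕ) (EX : List (ℕ × ℕ × ℕ × ℕ)) (T h : ℕ) : leafH n EX T h =
    bif Nat.beq h 4095 then EX.any (chkL T n)
    else
      (Nat.ble 10 n && Nat.blt (Nat.land h 15) n && Nat.blt (Nat.land (Nat.shiftRight h 4) 15) n &&
        Nat.ble (Nat.shiftRight h 8) n &&
        chk7 T n (Nat.land (Nat.shiftRight h 4) 15) (Nat.shiftRight h 8) (Nat.land h 15)) := rfl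

theorem leafChk_eq (n H : ℕ) (EX : List (ℕ × ℕ × ℕ × ℕ)) (idx T : ℕ) : leafChk n H EX idx T =
    forceN (Nat.land (Nat.shiftRight H (Nat.mul 12 idx)) 4095) fun h => forceN T fun T' =>
      leafH n EX T' h := rfl

theorem testBit_ent (T i b : ℕ) :
    (ent T i).testBit b = (decide (b < 4) && T.testBit (4 * i + b)) := by
  rw [ent_eq, Nat.testBit_and, Nat.testBit_shiftRight, show (15 : ℕ) = 2 ^ 4 - 1 by norm_num,
    Nat.testBit_two_pow_sub_one, Bool.and_comm]

theorem testBit_of_lt16 {v b : ℕ} (hv : v < 16) (hb : 4 ≤ b) : v.testBit b = false := by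
  apply Nat.testBit_lt_two_pow
  calc v < 2 ^ 4 := by norm_num; exact hv
    _ ≤ 2 ^ b := Nat.pow_le_pow_right (by norm_num) hb

theorem ent_lt (T i : ℕ) : ent T i < 16 :=
  Nat.and_lt_two_pow _ (by norm_num : 15 < 2 ^ 4)

theorem ent_putv (T c v j : ℕ) (hv : v < 16) :
    ent (putv T c v) j = if j = c then ent T c ||| v else ent T j := by
  apply Nat.eq_of_testBit_eq
  intro b
  rw [testBit_ent, putv_eq, Nat.testBit_or, Nat.testBit_shiftLeft]
  split_ifs with h
  · subst h
    rw [Nat.testBit_or, testBit_ent]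
    have h1 : 4 * j + b ≥ 4 * j := by omega
    have h2 : 4 * j + b - 4 * j = b := by omega
    rw [h2]
    by_cases hb : b < 4
    · simp [hb, h1]
    · simp [hb, testBit_of_lt16 hv (not_lt.1 hb)]
  · rw [testBit_ent]
    by_cases hb : b < 4
    · by_cases hge : 4 * j + b ≥ 4 * c
      · have : 4 ≤ 4 * j + b - 4 * c := by omega
        simp [hb, testBit_of_lt16 hv this]
      · simp [hb, hge]
    · simp [hb]

theorem putv_lt {T c v n : ℕ} (hT : T < 2 ^ (4 * n)) (hc : c < n) (hv : v < 16) :
    putv T c v < 2 ^ (4 * n) := by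
  rw [putv_eq]
  apply Nat.or_lt_two_pow hT
  have h1 : v <<< (4 * c) < 2 ^ (4 + 4 * c) := Nat.shiftLeft_lt (by norm_num; exact hv)
  exact lt_of_lt_of_le h1 (Nat.pow_le_pow_right (by norm_num) (by omega))

theorem ent_of_lt {T n j : ℕ} (hT : T < 2 ^ (4 * n)) (hj : n ≤ j) : ent T j = 0 := by
  apply Nat.eq_of_testBit_eq
  intro b
  rw [testBit_ent, Nat.zero_testBit]
  have : T.testBit (4 * j + b) = false := by
    apply Nat.testBit_lt_two_pow
    exact lt_of_lt_of_le hT (Nat.pow_le_pow_right (by norm_num) (by omega))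
  rw [this, Bool.and_false]

/-- the rotated table -/
theorem ent_rot {T n a i : ℕ} (hT : T < 2 ^ (4 * n)) (ha : a ≤ n) (hi : i < n) :
    ent (rot T n a) i = ent T ((i + a) % n) := by
  have hrot : rot T n a = ((T >>> (4 * a)) ||| (T <<< (4 * (n - a)))) &&& (2 ^ (4 * n) - 1) := by
    unfold rot
    show (Nat.land (Nat.lor _ _) (Nat.sub (1 <<< (4 * n)) 1)) = _
    rw [Nat.one_shiftLeft]
    rfl
  apply Nat.eq_of_testBit_eq
  intro b
  rw [testBit_ent, testBit_ent, hrot, Nat.testBit_and, Nat.testBit_or, Nat.testBit_shiftRight,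
    Nat.testBit_shiftLeft, Nat.testBit_two_pow_sub_one]
  by_cases hb : b < 4
  · have h1 : 4 * i + b < 4 * n := by omega
    by_cases hia : i + a < n
    · rw [Nat.mod_eq_of_lt hia]
      have h2 : ¬ (4 * i + b ≥ 4 * (n - a)) := by omega
      have h3 : 4 * a + (4 * i + b) = 4 * (i + a) + b := by ring
      simp [hb, h1, h2, h3]
    · have hmod : (i + a) % n = i + a - n := by
        rw [Nat.mod_eq_sub_mod (by omega), Nat.mod_eq_of_lt (by omega)]
      rw [hmod]
      have h2 : 4 * i + b ≥ 4 * (n - a) := by omega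
      have h3 : 4 * i + b - 4 * (n - a) = 4 * (i + a - n) + b := by omega
      have h4 : T.testBit (4 * a + (4 * i + b)) = false := by
        apply Nat.testBit_lt_two_pow
        exact lt_of_lt_of_le hT (Nat.pow_le_pow_right (by norm_num) (by omega))
      simp [hb, h1, h2, h3, h4]
  · simp [hb]

section

/-- a packed list, four bits for each entry -/
def packL : List ℕ → ℕ
  | [] => 0
  | v :: l => v ||| (packL l <<< 4)

theorem ent_packL (l : List ℕ) (hl : ∀ v ∈ l, v < 16) (j : ℕ) :
    ent (packL l) j = l.getD j 0 := by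
  induction l generalizing j with
  | nil =>
    apply Nat.eq_of_testBit_eq
    intro b
    rw [testBit_ent]
    simp [packL]
  | cons v l ih =>
    have hv : v < 16 := hl v List.mem_cons_self
    have hl' : ∀ w ∈ l, w < 16 := fun w hw => hl w (List.mem_cons_of_mem _ hw)
    cases j with
    | zero =>
      rw [List.getD_cons_zero]
      apply Nat.eq_of_testBit_eq
      intro b
      rw [testBit_ent, packL, Nat.testBit_or, Nat.testBit_shiftLeft]
      by_cases hb : b < 4
      · simp [hb]
      · simp [hb, testBit_of_lt16 hv (not_lt.1 hb)]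
    | succ j =>
      rw [List.getD_cons_succ, ← ih hl' j]
      apply Nat.eq_of_testBit_eq
      intro b
      rw [testBit_ent, testBit_ent, packL, Nat.testBit_or, Nat.testBit_shiftLeft]
      have h1 : 4 * (j + 1) + b ≥ 4 := by omega
      have h2 : 4 * (j + 1) + b - 4 = 4 * j + b := by omega
      have h3 : v.testBit (4 * (j + 1) + b) = false := testBit_of_lt16 hv (by omega)
      simp [h1, h2, h3]

theorem eq_of_ent_eq {A B : ℕ} (h : ∀ j, ent A j = ent B j) : A = B := by
  apply Nat.eq_of_testBit_eq
  intro i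
  have hA := testBit_ent A (i / 4) (i % 4)
  have hB := testBit_ent B (i / 4) (i % 4)
  have h4 : i % 4 < 4 := Nat.mod_lt _ (by norm_num)
  have hi : 4 * (i / 4) + i % 4 = i := Nat.div_add_mod i 4
  rw [hi] at hA hB
  simp only [h4, decide_true, Bool.true_and] at hA hB
  rw [← hA, ← hB, h]

theorem ent_delNib (R r j : ℕ) :
    ent (delNib R r) j = if j < r then ent R j else ent R (j + 1) := by
  have hdel : delNib R r =
      (R &&& (2 ^ (4 * r) - 1)) ||| ((R >>> (4 * r + 4)) <<< (4 * r)) := by
    unfold delNib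
    show Nat.lor (Nat.land R (Nat.sub (1 <<< (4 * r)) 1)) _ = _
    rw [Nat.one_shiftLeft]
    rfl
  apply Nat.eq_of_testBit_eq
  intro b
  rw [testBit_ent, hdel, Nat.testBit_or, Nat.testBit_and, Nat.testBit_two_pow_sub_one,
    Nat.testBit_shiftLeft, Nat.testBit_shiftRight]
  by_cases hb : b < 4
  · split_ifs with hjr
    · have h1 : 4 * j + b < 4 * r := by omega
      have h2 : ¬ (4 * j + b ≥ 4 * r) := by omega
      rw [testBit_ent]
      simp [hb, h1, h2]
    · have h1 : ¬ (4 * j + b < 4 * r) := by omega
      have h2 : 4 * j + b ≥ 4 * r := by omega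
      have h3 : 4 * r + 4 + (4 * j + b - 4 * r) = 4 * (j + 1) + b := by omega
      rw [testBit_ent]
      simp [hb, h1, h2, h3]
  · split_ifs <;> rw [testBit_ent] <;> simp [hb]

theorem delNib_packL (l : List ℕ) (hl : ∀ v ∈ l, v < 16) (r : ℕ) :
    delNib (packL l) r = packL (l.eraseIdx r) := by
  apply eq_of_ent_eq
  intro j
  have hl' : ∀ v ∈ l.eraseIdx r, v < 16 := fun v hv => hl v (List.mem_of_mem_eraseIdx hv)
  rw [ent_delNib, ent_packL _ hl', ent_packL _ hl, ent_packL _ hl, List.getD_eq_getElem?_getD,
    List.getD_eq_getElem?_getD, List.getD_eq_getElem?_getD, List.getElem?_eraseIdx]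
  split_ifs <;> rfl

/-- the conjunction over `r < m`, by the recursor -/
theorem natRec_all (g : ℕ → Bool) (m : ℕ) :
    Nat.rec (motive := fun _ => Bool) true (fun r acc => g r && acc) m = true ↔
      ∀ r < m, g r = true := by
  induction m with
  | zero => simp
  | succ m ih =>
    show (g m && Nat.rec (motive := fun _ => Bool) true (fun r acc => g r && acc) m) = true ↔ _
    rw [Bool.and_eq_true, ih]
    constructor
    · rintro ⟨h1, h2⟩ r hr
      by_cases hrm : r = m
      · subst hrm; exact h1
      · exact h2 r (by omega)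
    · intro h
      exact ⟨h m (by omega), fun r hr => h r (by omega)⟩

/-- the table at the end of the search: `cur ↦ v₁ ↦ v₂ ↦ ... ↦ 2` -/
def finalT (T : ℕ) : ℕ → List ℕ → ℕ
  | cur, [] => putv T cur 2
  | cur, v :: s => finalT (putv T cur v) v s

theorem finalT_nil (T cur : ℕ) : finalT T cur [] = putv T cur 2 := by
  unfold finalT; rfl

theorem finalT_cons (T cur v : ℕ) (s : List ℕ) :
    finalT T cur (v :: s) = finalT (putv T cur v) v s := by
  conv_lhs => unfold finalT

variable (n H : ℕ) (EX : List (ℕ × ℕ × ℕ × ℕ))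

theorem dfs_zero (cur T R idx : ℕ) :
    dfs n H EX 0 cur T R idx = leafChk n H EX idx (putv (putv T cur R) R 2) := rfl

theorem dfs_succ (k cur T R idx : ℕ) :
    dfs n H EX (k + 1) cur T R idx = true ↔
      ∀ r < k + 2, dfs n H EX k (ent R r) (putv T cur (ent R r)) (delNib R r)
        (idx * (k + 2) + r) = true := by
  have : dfs n H EX (k + 1) cur T R idx =
      Nat.rec (motive := fun _ => Bool) true
        (fun r acc =>
          (forceN (ent R r) fun v => forceN (putv T cur v) fun T' => forceN (delNib R r) fun R' =>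
            forceN (Nat.add (Nat.mul idx (Nat.add k 2)) r) fun idx' =>
              dfs n H EX k v T' R' idx') && acc)
        (Nat.add k 2) := rfl
  rw [this]
  refine (natRec_all (fun r =>
    forceN (ent R r) fun v => forceN (putv T cur v) fun T' => forceN (delNib R r) fun R' =>
      forceN (Nat.add (Nat.mul idx (Nat.add k 2)) r) fun idx' =>
        dfs n H EX k v T' R' idx') (Nat.add k 2)).trans ?_
  simp only [forceN_eq]
  rfl

/-- the search visits every arrangement of the values that are left -/
theorem dfs_spec (k : ℕ) : ∀ (cur T idx : ℕ) (l : List ℕ), l.length = k + 1 →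
    (∀ v ∈ l, v < 16) → dfs n H EX k cur T (packL l) idx = true →
    ∀ s : List ℕ, s.Perm l → ∃ idx', leafChk n H EX idx' (finalT T cur s) = true := by
  induction k with
  | zero =>
    intro cur T idx l hlen hl hd s hs
    obtain ⟨v, rfl⟩ := List.length_eq_one_iff.1 hlen
    rw [List.perm_singleton] at hs
    subst hs
    rw [dfs_zero] at hd
    refine ⟨idx, ?_⟩
    rw [finalT_cons, finalT_nil]
    have hv : v < 16 := hl v List.mem_cons_self
    have : packL [v] = v := by
      simp [packL]
    rw [this] at hd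
    exact hd
  | succ k ih =>
    intro cur T idx l hlen hl hd s hs
    rw [dfs_succ] at hd
    cases s with
    | nil =>
      have := hs.length_eq
      simp at this
      omega
    | cons v s' =>
      have hvl : v ∈ l := hs.subset List.mem_cons_self
      obtain ⟨r, hr, hrv⟩ := List.mem_iff_getElem.1 hvl
      have hent : ent (packL l) r = v := by
        rw [ent_packL l hl, List.getD_eq_getElem?_getD, List.getElem?_eq_getElem hr, hrv]
        rfl
      have hd' := hd r (by omega)
      rw [hent, delNib_packL l hl] at hd'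
      have hperm : l.Perm (v :: l.eraseIdx r) := by
        have h1 : l = List.take r l ++ l[r] :: List.drop (r + 1) l := by
          rw [List.getElem_cons_drop hr, List.take_append_drop]
        rw [List.eraseIdx_eq_take_drop_succ, ← hrv]
        conv_lhs => rw [h1]
        exact List.perm_middle
      have hs' : s'.Perm (l.eraseIdx r) := (List.perm_cons v).1 (hs.trans hperm)
      have hlen' : (l.eraseIdx r).length = k + 1 := by
        rw [List.length_eraseIdx, if_pos hr]
        omega
      obtain ⟨idx', h⟩ := ih v (putv T cur v) _ (l.eraseIdx r) hlen'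
        (fun w hw => hl w (List.mem_of_mem_eraseIdx hw)) hd' s' hs'
      exact ⟨idx', by rw [finalT_cons]; exact h⟩

end

/-- the words for the two exceptional leaves of the degree 13 -/
def EX13 : List (ℕ × ℕ × ℕ × ℕ) := [(7, 1, 4, 5), (4, 1, 2, 5)]

/-- the search succeeds on the cycles `(2 3 s1 s2 ...)` of the degree 13, with some hints -/
def Sub13 (s1 s2 : ℕ) : Prop :=
  ∃ H : ℕ, dfs 13 H EX13 6 s2 (putv (putv 784 3 s1) s1 s2)
    (packL (((List.range' 4 9).erase s1).erase s2)) 0 = true

end Cfsg.Agent.Lib.Helper27_TwinEnum
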