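import Mathlib
import Cfsg.Agent.Lib.Helper27_TwinEnum

/-!
# The search through the cycles of length 11 on 11 points (helper27, S0679)

The search `dfsB` runs through all the cycles `(0 1 v₂ v₃ ...)` on the points `0, ..., 10`, and
tests at each of them, with a hint, that a word in the cycle and the rotation `i ↦ i + 1` has a
cycle of length seven (or a power that is a cycle of length three or five), or that the cycle is in
the list of the 287 exceptions.
-/

set_option autoImplicit false

namespace Cfsg.Agent.Lib.Helper27_Deg11Enum

open Cfsg.Agent.Lib.Helper27_TwinEnum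

/-- the test at a leaf, with the hint `h`; the hint 4094 is for the exceptions -/
def leafB (n : ℕ) (EX : List (ℕ × ℕ × ℕ × ℕ)) (EXT : List ℕ) (T h : ℕ) : Bool :=
  bif Nat.beq h 4094 then EXT.any (Nat.beq T) else leafH n EX T h

/-- the test at a leaf -/
def leafChkB (n H : ℕ) (EX : List (ℕ × ℕ × ℕ × ℕ)) (EXT : List ℕ) (idx T : ℕ) : Bool :=
  forceN (Nat.land (Nat.shiftRight H (Nat.mul 12 idx)) 4095) fun h => forceN T fun T' =>
    leafB n EX EXT T' h

/-- the search through all the cycles `(0 1 v₂ v₃ ...)`; the packed list `R` holds the values
that are left, one more than the first argument -/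
def dfsB (n H : ℕ) (EX : List (ℕ × ℕ × ℕ × ℕ)) (EXT : List ℕ) : ℕ → ℕ → ℕ → ℕ → ℕ → Bool :=
  Nat.rec (motive := fun _ => ℕ → ℕ → ℕ → ℕ → Bool)
    (fun cur T R idx => leafChkB n H EX EXT idx (putv T cur R))
    (fun k ih cur T R idx =>
      Nat.rec (motive := fun _ => Bool) true
        (fun r acc =>
          (forceN (ent R r) fun v => forceN (putv T cur v) fun T' => forceN (delNib R r) fun R' =>
            forceN (Nat.add (Nat.mul idx (Nat.add k 2)) r) fun idx' => ih v T' R' idx') && acc)
        (Nat.add k 2))

theorem leafB_eq (n : ℕ) (EX : List (ℕ × ℕ × ℕ × ℕ)) (EXT : List ℕ) (T h : ℕ) :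
    leafB n EX EXT T h = bif Nat.beq h 4094 then EXT.any (Nat.beq T) else leafH n EX T h := rfl

theorem leafChkB_eq (n H : ℕ) (EX : List (ℕ × ℕ × ℕ × ℕ)) (EXT : List ℕ) (idx T : ℕ) :
    leafChkB n H EX EXT idx T =
      forceN (Nat.land (Nat.shiftRight H (Nat.mul 12 idx)) 4095) fun h => forceN T fun T' =>
        leafB n EX EXT T' h := rfl

/-- the table at the end of the search: `cur ↦ v₁ ↦ v₂ ↦ ... ↦ 0` -/
def finalTB (T : ℕ) : ℕ → List ℕ → ℕ
  | _, [] => T
  | cur, v :: s => finalTB (putv T cur v) v s

theorem finalTB_nil (T cur : ℕ) : finalTB T cur [] = T := by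
  unfold finalTB; rfl

theorem finalTB_cons (T cur v : ℕ) (s : List ℕ) :
    finalTB T cur (v :: s) = finalTB (putv T cur v) v s := by
  conv_lhs => unfold finalTB

variable (n H : ℕ) (EX : List (ℕ × ℕ × ℕ × ℕ)) (EXT : List ℕ)

theorem dfsB_zero (cur T R idx : ℕ) :
    dfsB n H EX EXT 0 cur T R idx = leafChkB n H EX EXT idx (putv T cur R) := rfl

theorem dfsB_succ (k cur T R idx : ℕ) :
    dfsB n H EX EXT (k + 1) cur T R idx = true ↔
      ∀ r < k + 2, dfsB n H EX EXT k (ent R r) (putv T cur (ent R r)) (delNib R r)
        (idx * (k + 2) + r) = true := by
  have : dfsB n H EX EXT (k + 1) cur T R idx =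
      Nat.rec (motive := fun _ => Bool) true
        (fun r acc =>
          (forceN (ent R r) fun v => forceN (putv T cur v) fun T' => forceN (delNib R r) fun R' =>
            forceN (Nat.add (Nat.mul idx (Nat.add k 2)) r) fun idx' =>
              dfsB n H EX EXT k v T' R' idx') && acc)
        (Nat.add k 2) := rfl
  rw [this]
  refine (natRec_all (fun r =>
    forceN (ent R r) fun v => forceN (putv T cur v) fun T' => forceN (delNib R r) fun R' =>
      forceN (Nat.add (Nat.mul idx (Nat.add k 2)) r) fun idx' =>
        dfsB n H EX EXT k v T' R' idx') (Nat.add k 2)).trans ?_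
  simp only [forceN_eq]
  rfl

/-- the search visits every arrangement of the values that are left -/
theorem dfsB_spec (k : ℕ) : ∀ (cur T idx : ℕ) (l : List ℕ), l.length = k + 1 →
    (∀ v ∈ l, v < 16) → dfsB n H EX EXT k cur T (packL l) idx = true →
    ∀ s : List ℕ, s.Perm l → ∃ idx', leafChkB n H EX EXT idx' (finalTB T cur s) = true := by
  induction k with
  | zero =>
    intro cur T idx l hlen hl hd s hs
    obtain ⟨v, rfl⟩ := List.length_eq_one_iff.1 hlen
    rw [List.perm_singleton] at hs
    subst hs
    rw [dfsB_zero] at hd
    refine ⟨idx, ?_⟩
    rw [finalTB_cons, finalTB_nil]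
    have : packL [v] = v := by
      simp [packL]
    rw [this] at hd
    exact hd
  | succ k ih =>
    intro cur T idx l hlen hl hd s hs
    rw [dfsB_succ] at hd
    cases s with
    | nil =>
      have := hs.length_eq
      simp at this
      omega
    | cons v s' =>
      have hvl : v ∈ l := hs.subset List.mem_cons_self
      obtain ⟨r, hr, hrv⟩ := List.mem_iff_getElem.1 hvl
      have hent : ent (packL l) r = v := by
        rw [ent_packL l hl, List.getD_eq_getElem?_getD, List.getElem?_eq_getElem hr, hrv]
        rfl
      have hd' := hd r (by omega)
      rw [hent, delNib_packL l hl] at hd'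
      have hperm : l.Perm (v :: l.eraseIdx r) := by
        have h1 : l = List.take r l ++ l[r] :: List.drop (r + 1) l := by
          rw [List.getElem_cons_drop hr, List.take_append_drop]
        rw [List.eraseIdx_eq_take_drop_succ, ← hrv]
        conv_lhs => rw [h1]
        exact List.perm_middle
      have hs' : s'.Perm (l.eraseIdx r) := (List.perm_cons v).1 (hs.trans hperm)
      have hlen' : (l.eraseIdx r).length = k + 1 := by
        rw [List.length_eraseIdx, if_pos hr]
        omega
      obtain ⟨idx', h⟩ := ih v (putv T cur v) _ (l.eraseIdx r) hlen'
        (fun w hw => hl w (List.mem_of_mem_eraseIdx hw)) hd' s' hs'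
      exact ⟨idx', by rw [finalTB_cons]; exact h⟩

/-- the words for the exceptional leaves of the degree 11 -/
def EX11 : List (ℕ × ℕ × ℕ × ℕ) := [(5,0,4,3), (3,0,4,3), (6,0,4,3), (2,1,4,5), (3,1,4,5), (1,1,4,5), (2,1,3,5), (3,1,3,5), (2,0,4,3), (1,1,3,5), (4,1,4,5), (6,1,4,5), (7,1,3,5)]

/-- the tables of the 287 cycles `(0 1 ...)` that generate, with the rotation, a group of order
11, 660 or 7920 -/
def EXT11 : List ℕ := [
  728121033505, 7177974207265, 7715465888545, 9303866278945, 375334147105, 8083266429985,
  3892700603425, 4645551891745, 8152730305825, 3880043713825, 10119071302945, 8816015529505,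
  5748890732065, 4744187971105, 8398141691425, 456160483105, 9179155048225, 7166424885025,
  4607033304865, 7925445732385, 4008436959265, 3327111288865, 10340757686305, 4834036525345,
  3781270604065, 6073142102305, 9514510412065, 3734877194785, 4892125583905, 7079240161825,
  6637137398305, 8386012325425, 5995918665265, 6980523534385, 6910744275505, 7741030680625,
  9305585961265, 9505458241585, 508190870065, 10181765650225, 7121668755505, 8272821113905,
  7982476187185, 4580943814705, 4977961625905, 8836210123825, 9140386292785, 8805934331185,
  706071853105, 10353052578865, 4422349518385, 5988409837105, 432087926065, 169993733425,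
  2515331874865, 8934780147505, 5774222989105, 7098056349745, 5111665956145, 2775967639345,
  4956516623665, 5949071271985, 7874420253745, 7118113637185, 3322285299265, 5541471610945,
  6971696745025, 8961725258305, 6214857758785, 5980782045505, 9287212705345, 9927450264385,
  7147483408705, 10455736451905, 7315176919105, 8422483712065, 10282739333185, 9498708561985,
  217057752385, 8809609664065, 3712371599425, 2587231750465, 5663191704385, 436244871745,
  10403311001665, 2706000876865, 10145373900865, 7877057676865, 169202001985, 6955819665985,
  559325730625, 8055218121025, 8261672265025, 8956677850945, 10034445186625, 8111451161425,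
  524944835665, 3781352326225, 6833362741585, 286004898385, 8256155052625, 9913492731985,
  2682814764625, 8806448998225, 3879064735825, 7928547944785, 7147484779345, 3616402806865,
  4409444763985, 226163763025, 2489376077905, 451583125585, 4853991672145, 9910678342225,
  2502513689425, 6747520144465, 2698053839185, 3467272129105, 3754883709265, 9029138673745,
  6881487069265, 4907177476945, 4962307746385, 2445994845265, 6749954274385, 10064327018065,
  10317394837585, 4922880853345, 9484667275105, 711123499105, 500407949665, 8059833297505,
  5528219175265, 2771389083745, 8955067081825, 7737454011745, 3850781219425, 3986342500705,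
  10390937929825, 2918787318625, 10179164994145, 3606255771745, 10052465526625, 10171407771745,
  2904861278305, 4644327825505, 6067297751905, 3651930855265, 4413492503905, 374612314465,
  2721533088865, 2448291088225, 217591596385, 9085349165665, 2559955150945, 4413517748065,
  9033025652065, 9110330757985, 10125557376865, 7323543667825, 6842558842225, 10467439519345,
  4420229752945, 5910824625265, 9501430261105, 4557776525425, 2612238328945, 6074325477745,
  422039628145, 177226537585, 2556741312625, 4949315578225, 10352251338865, 181888320625,
  9085207603825, 5099779066225, 4782045569905, 572996625265, 4004671465585, 10185689015665,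
  10052455523185, 3343718435185, 6642227029105, 4632476682865, 6895891546225, 2794148218225,
  6200062264945, 2768703456625, 5508906390385, 5650707464305, 6874785339505, 6951945204865,
  6194270177665, 8393255700865, 7913008093825, 10186169591425, 2486913619585, 2899177989505,
  5923874577025, 10259183854465, 8401499428225, 10325909265025, 7715409270145, 228827228545,
  4900711000705, 9917925312385, 6894017092225, 2226213058945, 3668516997505, 165981427585,
  4768394715265, 5666044404865, 10132912416385, 306455155585, 6835753271425, 3752260339585,
  2651239810945, 521356846465, 6225073217665, 3616405870465, 3685774030465, 5542993163905,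
  8153250021505, 160129770385, 7861998470545, 5661647742865, 3457587571345, 5736499660945,
  7922237399185, 232641623185, 5736470054545, 7972304816785, 2518252193425, 6882769478545,
  7998575093905, 372104524945, 388764952465, 9140533947025, 4772386087825, 3712020019345,
  2631338784145, 2625743815825, 9230865285265, 9294933527185, 6023188857745, 5997522455185,
  2703742748305, 6055961994385, 7162469437585, 3867092002705, 3869937903505, 2917898146705,
  3995735715985, 5087480194705, 9491948336785, 2698588554145, 2213660935585, 2496332851105,
  2633898362785, 3308895294625, 3459670175905, 3462944620705, 3612722234785, 4902304845985,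
  4754571164065, 4562724848545, 4767473018785, 5525781054625, 5665200510625, 5706256753825,
  5537428300705, 6942852879265, 6844068157345, 7178283459745, 6824779741345, 8256088346785,
  8122891065505, 7922220598945, 7974015882145, 9012190333345, 9099197744545, 9179476657825,
  9248459224225, 10047543866785, 10240883435425, 10248671757985, 10338615444385]

/-- the search succeeds on the cycles `(0 1 s1 s2 ...)` of the degree 11, with some hints -/
def Sub11 (s1 s2 : ℕ) : Prop :=
  ∃ H : ℕ, dfsB 11 H EX11 EXT11 6 s2 (putv (putv 1 1 s1) s1 s2)
    (packL (((List.range' 2 9).erase s1).erase s2)) 0 = true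

end Cfsg.Agent.Lib.Helper27_Deg11Enum
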