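import Mathlib
import Cfsg.Agent.Lib.Helper27_Deg11Enum

/-!
# Data for the transitive groups of degree 11 (helper27, S0679)

The 286 cycles `(0 1 ...)` of length 11, other than the rotation, that do not generate with the
rotation a group containing the alternating group, fall into two families, each with 11 cycles
generating a group of order 660 and 132 cycles generating a group of order 7920.  For each of them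
there are words that give the standard generator of its group from the cycle and the rotation, and
back (generated by `scratch/s0679/gendata.py` and `scratch/s0679/gen_data_lean.py`).
-/

set_option autoImplicit false

namespace Cfsg.Agent.Lib.Helper27_Deg11

open Cfsg.Agent.Lib.Helper27_TwinEnum Cfsg.Agent.Lib.Helper27_Deg11Enum

/-- evaluate a word on points: the letter 0 is `f`, the letter 11 is `g`, and the letters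
`1, ..., 10` are the powers of the rotation; the first letter acts last -/
def evalW (f g : ℕ → ℕ) : List ℕ → ℕ → ℕ
  | [], i => i
  | l :: w, i =>
    (fun j => bif Nat.beq l 0 then f j else bif Nat.beq l 11 then g j else Nat.mod (Nat.add j l) 11)
      (evalW f g w i)

theorem evalW_nil (f g : ℕ → ℕ) (i : ℕ) : evalW f g [] i = i := by
  unfold evalW; rfl

theorem evalW_cons (f g : ℕ → ℕ) (l : ℕ) (w : List ℕ) (i : ℕ) :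
    evalW f g (l :: w) i =
      bif Nat.beq l 0 then f (evalW f g w i) else bif Nat.beq l 11 then g (evalW f g w i)
        else Nat.mod (Nat.add (evalW f g w i) l) 11 := by
  conv_lhs => unfold evalW

/-- two functions agree on the eleven points -/
def eqOn11 (f g : ℕ → ℕ) : Bool := (List.range 11).all fun i => Nat.beq (f i) (g i)

theorem eqOn11_iff (f g : ℕ → ℕ) : eqOn11 f g = true ↔ ∀ i < 11, f i = g i := by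
  unfold eqOn11
  rw [List.all_eq_true]
  constructor
  · intro h i hi
    exact Nat.eq_of_beq_eq_true (h i (List.mem_range.2 hi))
  · intro h i hi
    rw [List.mem_range] at hi
    rw [h i hi]
    exact Nat.beq_refl _

/-- the point `s` lies on a cycle of length seven of the function `f` -/
def seven (f : ℕ → ℕ) (s : ℕ) : Bool := Nat.beq (f^[7] s) s && !(Nat.beq (f s) s)

/-- the table of the rotation -/
def TAU : ℕ := 728121033505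

/-- the tables of the standard generators of the two groups of order 660 -/
def TB (i : ℕ) : ℕ := bif Nat.beq i 0 then 372104524945 else 436244871745

/-- the tables of the standard generators of the two groups of order 7920 -/
def TC (i : ℕ) : ℕ := bif Nat.beq i 0 then 160129770385 else 165981427585

/-- the tables of the inverses -/
def TBi (i : ℕ) : ℕ := bif Nat.beq i 0 then 7783429858570 else 2698204239370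

/-- the tables of the inverses -/
def TCi (i : ℕ) : ℕ := bif Nat.beq i 0 then 4493937158410 else 7907712518410

/-- the table of the generator with the tag `t`: the tags 0 and 2 are for the groups of order 660,
the tags 1 and 3 for the groups of order 7920 -/
def target (t : ℕ) : ℕ :=
  bif Nat.beq t 0 then TB 0 else bif Nat.beq t 1 then TC 0 else bif Nat.beq t 2 then TB 1 else TC 1

/-- the test of an entry: the table, the tag, the word from the cycle to the generator and the word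
back -/
def chkEntry (e : ℕ × ℕ × List ℕ × List ℕ) : Bool :=
  bif Nat.beq e.2.1 4 then Nat.beq e.1 TAU
  else
    Nat.blt e.2.1 4 && eqOn11 (evalW (ent e.1) (fun j => j) e.2.2.1) (ent (target e.2.1)) &&
      eqOn11 (evalW (ent (target e.2.1)) (fun j => j) e.2.2.2) (ent e.1)

/-- the exceptions, with their tags and words -/
def DATA : List (ℕ × ℕ × List ℕ × List ℕ) := [
  (728121033505, 4, [], []),
  (7177974207265, 3, [4, 0, 1, 0, 9], [7, 0, 10, 0, 2]),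
  (7715465888545, 1, [3, 0, 10, 0, 9, 0, 5], [0, 4, 0, 2, 0, 2]),
  (9303866278945, 1, [0, 0, 3, 0, 7, 0, 9], [0, 0, 6, 0, 10, 0, 6]),
  (375334147105, 3, [5, 0, 1, 0, 8], [6, 0, 10, 0, 3]),
  (8083266429985, 1, [0, 0, 0, 6, 0, 2], [0, 5, 0, 1, 0, 0, 1]),
  (3892700603425, 3, [1, 0, 3, 0, 2, 0, 8], [6, 0, 10, 0, 0, 4]),
  (4645551891745, 1, [0, 0, 9, 0, 7, 0, 4], [1, 0, 3, 0, 5]),
  (8152730305825, 2, [10, 0, 1], [1, 0, 10]),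
  (3880043713825, 1, [5, 0, 5, 0, 9, 0], [1, 0, 0, 9, 0, 2, 0]),
  (10119071302945, 3, [7, 0, 7, 0, 4, 0, 7], [0, 0, 8, 0, 1, 0, 1]),
  (8816015529505, 3, [0, 8, 0, 0, 4, 0, 4], [5, 0, 3, 0, 1, 0, 8]),
  (5748890732065, 1, [0, 0, 9, 0, 9, 0], [4, 0, 0, 4, 0, 4]),
  (4744187971105, 1, [0, 4, 0, 5, 0, 0, 8], [2, 0, 9, 0, 4, 0, 4]),
  (8398141691425, 3, [7, 0, 7, 0, 4], [0, 3, 0, 0, 0, 10]),
  (456160483105, 1, [0, 6, 0, 1, 0, 6], [3, 0, 0, 4, 0, 0, 8]),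
  (9179155048225, 3, [8, 0, 8, 0, 4, 0, 4], [3, 0, 0, 7, 0, 0]),
  (7166424885025, 1, [0, 0, 0, 0, 0, 5], [2, 0, 4, 0, 1, 0, 0]),
  (4607033304865, 3, [6, 0, 6, 0, 2, 0, 10], [0, 0, 2, 0, 4, 0, 1]),
  (7925445732385, 1, [8, 0, 4, 0, 9], [3, 0, 9, 0, 2]),
  (4008436959265, 3, [0, 2, 0, 9, 0, 0, 1], [0, 9, 0, 5, 0, 5]),
  (3327111288865, 1, [0, 0, 6, 0, 2, 0, 2], [0, 5, 0, 5, 0, 0]),
  (10340757686305, 3, [4, 0, 0, 5, 0, 0, 2], [9, 0, 0, 5, 0, 10]),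
  (4834036525345, 3, [0, 9, 0, 0], [1, 0, 5, 0, 10, 0, 2]),
  (3781270604065, 3, [10, 0, 1], [1, 0, 10]),
  (6073142102305, 1, [5, 0, 0, 8, 0, 1], [9, 0, 4, 0, 1]),
  (9514510412065, 1, [7, 0, 10, 0, 0, 10], [10, 0, 0, 7, 0, 8]),
  (3734877194785, 1, [10, 0, 1], [1, 0, 10]),
  (4892125583905, 3, [0, 5, 0, 9, 0, 9], [0, 1, 0, 0, 0, 9]),
  (7079240161825, 0, [10, 0, 1], [1, 0, 10]),
  (6637137398305, 3, [7, 0, 0, 0, 8, 0, 8], [0, 8, 0, 5, 0, 7]),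
  (8386012325425, 1, [5, 0, 9, 0, 8, 0, 0], [0, 6, 0, 9, 0, 4]),
  (5995918665265, 2, [2, 0, 6, 0, 5], [3, 0, 6, 0]),
  (6980523534385, 3, [4, 0, 2, 0, 0, 7], [10, 0, 3, 0, 8]),
  (6910744275505, 1, [0, 1, 0, 0, 3], [9, 0, 9, 0, 6, 0]),
  (7741030680625, 3, [0, 0, 2, 0, 5, 0, 7], [7, 0, 0, 8]),
  (9305585961265, 3, [0, 2, 0, 0, 4, 0], [0, 9, 0, 10, 0, 6, 0]),
  (9505458241585, 1, [8, 0, 0, 1], [2, 0, 7, 0, 6]),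
  (508190870065, 1, [6, 0, 1, 0, 3, 0, 8], [3, 0, 0, 2, 0, 0]),
  (10181765650225, 1, [0, 1, 0, 2, 0, 2, 0], [0, 6, 0, 5, 0, 1, 0]),
  (7121668755505, 3, [3, 0, 0, 2, 0, 5, 0], [2, 0, 3, 0, 10, 0, 8]),
  (8272821113905, 1, [7, 0, 9, 0, 0, 0], [0, 0, 0, 4, 0, 2, 0, 6]),
  (7982476187185, 3, [4, 0, 8, 0, 0, 5], [0, 0, 6, 0, 0, 5, 0]),
  (4580943814705, 1, [7, 0, 3, 0, 0], [0, 1, 0, 7, 0, 6]),
  (4977961625905, 3, [0, 9, 0, 2, 0, 3, 0], [7, 0, 7, 0, 7]),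
  (8836210123825, 1, [0, 0, 9], [10, 0, 7, 0, 9]),
  (9140386292785, 3, [0, 2, 0, 9, 0, 10], [0, 6, 0, 0, 2, 0, 8]),
  (8805934331185, 3, [0, 10, 0, 7, 0, 7], [5, 0, 2, 0, 10]),
  (706071853105, 3, [6, 0, 1, 0, 7], [5, 0, 10, 0, 4]),
  (10353052578865, 1, [0, 1, 0, 8, 0, 5], [9, 0, 7, 0, 2, 0]),
  (4422349518385, 1, [6, 0, 8, 0, 0, 6], [0, 9, 0, 7, 0, 9]),
  (5988409837105, 1, [0, 3, 0, 10, 0, 7], [0, 8, 0, 7, 0, 2, 0]),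
  (432087926065, 1, [1, 0, 0, 0, 6, 0, 1], [0, 2, 0, 5, 0, 2, 0, 2]),
  (169993733425, 3, [0, 0, 4, 0, 3, 0, 9], [4, 0, 5, 0, 1, 0]),
  (2515331874865, 2, [4, 0, 1, 0, 10], [1, 0, 8, 0, 6]),
  (8934780147505, 1, [6, 0, 0, 10, 0, 0, 7], [8, 0, 0, 4, 0]),
  (5774222989105, 3, [9, 0, 0, 1, 0, 6], [0, 1, 0, 9, 0, 5, 0, 3]),
  (7098056349745, 1, [8, 0, 0, 2, 0, 4], [0, 0, 10, 0, 1, 0, 1]),
  (5111665956145, 3, [0, 5, 0, 10, 0, 0, 0], [0, 0, 9, 0, 4, 0, 2]),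
  (2775967639345, 3, [1, 0, 4, 0, 4], [10, 0, 10, 0, 7]),
  (4956516623665, 1, [0, 0, 9, 0, 7, 0, 9], [3, 0, 4, 0, 5, 0]),
  (5949071271985, 1, [0, 10, 0, 2, 0, 8], [7, 0, 3, 0, 4, 0, 7]),
  (7874420253745, 3, [7, 0, 9, 0, 6, 0], [0, 3, 0, 2, 0, 6, 0]),
  (7118113637185, 1, [4, 0, 9, 0, 7], [0, 0, 8, 0, 8, 0]),
  (3322285299265, 3, [2, 0, 4, 0, 0, 9], [4, 0, 9, 0, 3, 0]),
  (5541471610945, 1, [0, 10, 0, 0, 10, 0, 8], [0, 0, 3, 0, 5, 0, 0, 4]),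
  (6971696745025, 3, [0, 0, 8, 0, 0, 8, 0, 9], [4, 0, 9, 0, 5, 0, 7]),
  (8961725258305, 1, [5, 0, 10, 0, 8], [9, 0, 2, 0, 10]),
  (6214857758785, 3, [0, 10, 0, 0, 9, 0, 3], [4, 0, 0, 10, 0]),
  (5980782045505, 1, [7, 0, 5, 0, 10], [9, 0, 6, 0, 5]),
  (9287212705345, 3, [1, 0, 10, 0, 2], [4, 0, 0, 1, 0, 7]),
  (9927450264385, 3, [0, 0, 9, 0, 0, 10], [0, 6, 0, 3, 0, 0, 5]),
  (7147483408705, 3, [0, 3, 0, 0, 2], [0, 7, 0, 2, 0, 3, 0]),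
  (10455736451905, 1, [0, 0, 0, 0, 5, 0, 2], [4, 0, 6, 0, 9, 0]),
  (7315176919105, 1, [3, 0, 5, 0, 3], [2, 0, 6, 0, 1]),
  (8422483712065, 1, [2, 0, 9], [9, 0, 2]),
  (10282739333185, 3, [4, 0, 6, 0, 3], [0, 6, 0, 3, 0, 4]),
  (9498708561985, 3, [0, 5, 0, 0, 8, 0, 1], [2, 0, 0, 2]),
  (217057752385, 1, [6, 0, 7, 0, 3, 0, 1], [0, 3, 0, 6]),
  (8809609664065, 1, [2, 0, 0, 0, 4, 0, 3], [4, 0, 0, 3, 0, 10]),
  (3712371599425, 3, [0, 4, 0, 0, 2, 0, 6], [2, 0, 5, 0, 8, 0]),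
  (2587231750465, 1, [0, 8, 0, 3, 0, 6], [0, 0, 0, 2, 0, 0, 1]),
  (5663191704385, 3, [2, 0, 0, 0, 2, 0, 4], [7, 0, 0, 0, 4, 0, 0]),
  (436244871745, 2, [0], [0]),
  (10403311001665, 3, [8, 0, 0, 2, 0, 10], [2, 0, 2, 0, 0, 8]),
  (2706000876865, 1, [3, 0, 6, 0, 4, 0, 7], [0, 10, 0, 0, 4, 0, 3]),
  (10145373900865, 1, [0, 2, 0, 0, 4, 0, 0], [8, 0, 4, 0, 0, 9]),
  (7877057676865, 3, [10, 0, 8, 0, 0, 7], [9, 0, 0, 4, 0]),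
  (169202001985, 1, [4, 0, 10, 0, 4, 0], [0, 0, 9, 0, 2, 0, 1]),
  (6955819665985, 1, [0, 5, 0, 9, 0], [4, 0, 8, 0, 0]),
  (559325730625, 3, [0, 1, 0, 0, 2, 0, 7], [0, 5, 0, 10, 0, 2, 0]),
  (8055218121025, 2, [1, 0, 1, 0, 9], [0, 4, 0, 3]),
  (8261672265025, 1, [0, 0, 2, 0, 4, 0, 1], [0, 0, 3, 0, 7, 0, 0]),
  (8956677850945, 3, [1, 0, 4, 0, 4], [2, 0, 0, 9, 0, 5]),
  (10034445186625, 1, [1, 0, 10, 0, 9, 0], [1, 0, 0, 10, 0, 0, 6]),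
  (8111451161425, 3, [0, 0, 0, 6, 0, 9, 0, 4], [0, 9, 0, 10, 0, 0, 2]),
  (524944835665, 3, [2, 0, 7, 0, 0, 0, 8], [0, 0, 7, 0, 5, 0, 7]),
  (3781352326225, 1, [7, 0, 2, 0, 5, 0], [8, 0, 8, 0, 3, 0]),
  (6833362741585, 1, [0, 9, 0, 6, 0, 2, 0], [0, 4, 0, 0, 3, 0, 8]),
  (286004898385, 1, [0, 0, 10, 0, 0, 2], [3, 0, 0, 4, 0, 5]),
  (8256155052625, 3, [0, 0, 6, 0, 2, 0, 7], [0, 1, 0, 10, 0, 1]),
  (9913492731985, 0, [1, 0, 8, 0], [5, 0, 0, 6]),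
  (2682814764625, 3, [10, 0, 9, 0], [0, 0, 2, 0, 0]),
  (8806448998225, 1, [10, 0, 0, 6, 0, 5], [10, 0, 0, 1]),
  (3879064735825, 3, [2, 0, 0, 8, 0, 8], [0, 0, 7, 0, 3, 0]),
  (7928547944785, 3, [0, 1, 0, 0, 8, 0], [7, 0, 0, 7, 0]),
  (7147484779345, 1, [0, 2, 0, 0, 10, 0, 2], [0, 7, 0, 0, 7, 0, 1]),
  (3616402806865, 1, [4, 0, 6, 0, 4], [1, 0, 5, 0, 8]),
  (4409444763985, 3, [2, 0, 7, 0, 4, 0, 1], [1, 0, 1, 0, 7, 0, 2]),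
  (226163763025, 1, [0, 0, 9, 0, 7, 0, 0, 6], [7, 0, 7, 0, 10, 0]),
  (2489376077905, 3, [7, 0, 4, 0, 2], [0, 0, 8, 0, 5, 0, 5]),
  (451583125585, 3, [0, 0, 1, 0, 8], [8, 0, 0, 1, 0, 6]),
  (4853991672145, 1, [6, 0, 0, 0, 0, 5], [3, 0, 0]),
  (9910678342225, 3, [7, 0, 1, 0, 8, 0], [9, 0, 5, 0, 2, 0, 6]),
  (2502513689425, 1, [2, 0, 10, 0, 0, 2], [0, 0, 3, 0, 6, 0, 4]),
  (6747520144465, 3, [1, 0, 4, 0, 8], [0, 8, 0, 5, 0, 6, 0]),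
  (2698053839185, 1, [3, 0, 9, 0, 7, 0], [0, 10, 0, 7, 0, 7]),
  (3467272129105, 1, [10, 0, 8, 0], [1, 0, 9, 0]),
  (3754883709265, 3, [0, 6, 0, 2, 0, 8], [1, 0, 6, 0, 0, 5, 0]),
  (9029138673745, 1, [10, 0, 0, 0, 9, 0], [2, 0, 7, 0, 5, 0]),
  (6881487069265, 3, [4, 0, 4, 0, 7, 0], [0, 0, 0, 9, 0, 0, 4]),
  (4907177476945, 3, [2, 0, 5, 0, 0, 3], [9, 0, 7, 0, 0]),
  (4962307746385, 0, [4, 0, 10, 0, 2], [5, 0, 4, 0, 7]),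
  (2445994845265, 3, [0, 0, 0, 1, 0, 0, 5], [10, 0, 10, 0, 6, 0]),
  (6749954274385, 1, [0, 0, 6, 0, 7, 0, 4], [0, 10, 0, 7, 0, 0, 5]),
  (10064327018065, 3, [4, 0, 5, 0, 1, 0, 5], [1, 0, 0, 10, 0, 1]),
  (10317394837585, 1, [2, 0, 6, 0, 0, 0], [0, 0, 5, 0, 5, 0, 2]),
  (4922880853345, 1, [0, 2, 0, 0, 10, 0, 7], [0, 0, 7, 0, 2]),
  (9484667275105, 3, [3, 0, 0, 0, 5], [4, 0, 6, 0, 7, 0]),
  (711123499105, 1, [1, 0, 6, 0, 1, 0, 5], [2, 0, 0, 4, 0, 0, 9]),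
  (500407949665, 3, [6, 0, 0, 1, 0, 4, 0], [7, 0, 0, 10, 0, 3]),
  (8059833297505, 1, [0, 10, 0, 4, 0, 10], [0, 10, 0, 4, 0, 4, 0]),
  (5528219175265, 3, [0, 5, 0, 6, 0, 0], [3, 0, 0, 0, 1, 0, 5]),
  (2771389083745, 3, [10, 0, 9, 0], [0, 10, 0, 1, 0, 0, 2]),
  (8955067081825, 1, [0, 6, 0, 6, 0, 9], [0, 8, 0, 2]),
  (7737454011745, 1, [1, 0, 5, 0, 0, 0], [0, 0, 2, 0, 0, 3]),
  (3850781219425, 3, [0, 2, 0, 4, 0, 10], [0, 5, 0, 4, 0, 0, 6]),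
  (3986342500705, 1, [4, 0, 10, 0, 0], [0, 1, 0, 0, 9, 0, 1]),
  (10390937929825, 3, [0, 0, 8, 0, 0, 10, 0], [0, 5, 0, 7, 0, 0, 10]),
  (2918787318625, 3, [0, 3, 0, 7, 0, 0, 5], [3, 0, 8, 0, 3, 0, 6]),
  (10179164994145, 2, [0, 10, 0, 0, 7], [2, 0, 0, 0, 9]),
  (3606255771745, 1, [0, 10, 0], [6, 0, 7, 0, 0, 8]),
  (10052465526625, 1, [10, 0, 7, 0, 9], [6, 0, 6, 0, 6]),
  (10171407771745, 0, [0, 0, 0, 0, 5], [5, 0, 2, 0]),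
  (2904861278305, 1, [6, 0, 9, 0, 5], [8, 0, 10, 0, 3, 0, 2]),
  (4644327825505, 3, [6, 0, 0, 0, 2], [0, 9, 0, 1, 0, 0]),
  (6067297751905, 2, [0, 0, 3, 0], [0, 0, 0, 2]),
  (3651930855265, 3, [2, 0, 2, 0, 0, 6], [2, 0, 5, 0, 9]),
  (4413492503905, 3, [0, 0, 1, 0, 10, 0, 4], [7, 0, 3, 0, 0, 5]),
  (374612314465, 1, [0, 2, 0, 6, 0, 0, 6], [4, 0, 1, 0, 0, 5, 0]),
  (2721533088865, 0, [0, 8, 0, 0, 2], [0, 0, 2, 0, 4]),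
  (2448291088225, 1, [2, 0, 7, 0, 3, 0, 5], [4, 0, 3, 0, 2]),
  (217591596385, 3, [7, 0, 6, 0, 2, 0, 9], [5, 0, 10, 0, 3, 0]),
  (9085349165665, 1, [0, 0, 7, 0, 6], [7, 0, 1, 0, 0, 8]),
  (2559955150945, 3, [7, 0, 0, 2, 0, 8], [0, 0, 8, 0, 8, 0]),
  (4413517748065, 1, [3, 0, 10, 0, 4], [10, 0, 1, 0, 6]),
  (9033025652065, 1, [3, 0, 0, 0, 2], [10, 0, 2, 0, 0, 8]),
  (9110330757985, 3, [7, 0, 3, 0, 4, 0], [0, 0, 8, 0, 10, 0, 7]),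
  (10125557376865, 3, [0, 0, 0, 0, 8], [0, 3, 0, 3, 0, 3]),
  (7323543667825, 1, [8, 0, 0, 8, 0, 9], [6, 0, 4, 0, 4]),
  (6842558842225, 3, [0, 0, 2, 0, 4, 0, 0], [0, 0, 0, 1, 0, 8]),
  (10467439519345, 1, [0, 0, 8, 0, 10, 0, 3], [10, 0, 6, 0, 1, 0]),
  (4420229752945, 3, [3, 0, 1, 0, 2, 0, 5], [2, 0, 0, 6, 0, 1, 0]),
  (5910824625265, 1, [0, 0, 6, 0, 8, 0, 9], [0, 0, 8, 0, 2, 0, 5]),
  (9501430261105, 3, [6, 0, 3, 0, 0, 7], [0, 9, 0, 10, 0, 7]),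
  (4557776525425, 1, [0, 3, 0, 0, 8, 0], [0, 7, 0, 9, 0, 1]),
  (2612238328945, 3, [2, 0, 2, 0], [4, 0, 0, 0, 0, 7]),
  (6074325477745, 3, [8, 0, 7, 0, 9, 0, 0], [5, 0, 3, 0, 4, 0, 4]),
  (422039628145, 1, [9, 0, 4, 0, 8], [2, 0, 9, 0, 3]),
  (177226537585, 3, [1, 0, 2, 0, 9, 0, 0], [0, 4, 0, 10, 0, 4]),
  (2556741312625, 1, [3, 0, 1, 0, 9], [6, 0, 0, 3, 0, 0, 7]),
  (4949315578225, 1, [4, 0, 3, 0, 0, 5], [10, 0, 4, 0, 8]),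
  (10352251338865, 3, [2, 0, 6, 0, 10, 0, 0], [0, 1, 0, 1, 0, 0, 1]),
  (181888320625, 1, [0, 0, 2, 0, 3, 0, 10], [2, 0, 4, 0, 0, 4]),
  (9085207603825, 3, [4, 0, 0, 4, 0, 4, 0], [0, 4, 0, 2]),
  (5099779066225, 2, [0, 0, 0, 0, 5], [5, 0, 2, 0]),
  (4782045569905, 1, [4, 0, 8, 0, 2, 0, 7], [0, 6, 0, 1, 0, 4, 0]),
  (572996625265, 3, [5, 0, 0, 5, 0, 0, 1], [8, 0, 0, 5, 0]),
  (4004671465585, 1, [0, 2, 0, 0, 6, 0], [0, 1, 0, 0, 5, 0, 9]),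
  (10185689015665, 1, [0, 0, 1, 0, 4, 0, 9], [0, 5, 0, 7, 0, 6, 0, 4]),
  (10052455523185, 3, [0, 10, 0, 0, 8, 0, 7], [6, 0, 0, 10, 0, 9]),
  (3343718435185, 1, [8, 0, 1, 0, 0, 6], [5, 0, 0, 10, 0, 0]),
  (6642227029105, 3, [0, 9, 0, 6, 0, 7], [0, 0, 9, 0, 3, 0, 1]),
  (4632476682865, 3, [6, 0, 0, 7, 0, 1], [0, 9, 0, 3, 0, 8]),
  (6895891546225, 1, [6, 0, 0, 1, 0, 6], [2, 0, 6, 0, 0]),
  (2794148218225, 2, [0, 8, 0, 0, 2], [0, 0, 2, 0, 4]),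
  (6200062264945, 1, [0, 5, 0, 2, 0, 0, 2], [0, 8, 0, 7, 0, 3]),
  (2768703456625, 1, [7, 0, 2, 0, 2, 0], [6, 0, 2, 0, 0, 10]),
  (5508906390385, 1, [2, 0, 0, 0, 9, 0, 8], [0, 2, 0, 1, 0, 10]),
  (5650707464305, 3, [0, 0, 0, 0, 8, 0, 0], [1, 0, 7, 0, 3, 0]),
  (6874785339505, 3, [0, 0, 1, 0, 4, 0, 2], [0, 0, 2, 0, 9, 0, 4]),
  (6951945204865, 3, [0, 3, 0, 8, 0, 2], [2, 0, 0, 5, 0, 1]),
  (6194270177665, 1, [0, 0, 0, 8, 0, 8, 0], [0, 5, 0, 2, 0]),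
  (8393255700865, 3, [1, 0, 2, 0, 0, 10], [2, 0, 3, 0, 5]),
  (7913008093825, 1, [0, 2, 0, 10, 0, 3], [0, 10, 0, 2, 0, 1]),
  (10186169591425, 3, [0, 0, 7, 0, 0, 0, 6], [10, 0, 0, 10, 0, 5]),
  (2486913619585, 1, [9, 0, 6, 0, 10], [7, 0, 5, 0, 2]),
  (2899177989505, 3, [5, 0, 7, 0, 3, 0], [0, 1, 0, 0, 4, 0, 3]),
  (5923874577025, 1, [9, 0, 8, 0, 4], [8, 0, 2, 0, 0, 5, 0]),
  (10259183854465, 1, [1, 0, 5, 0, 5], [4, 0, 6, 0, 10]),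
  (8401499428225, 0, [0, 8, 0, 4], [3, 0, 0, 0, 10]),
  (10325909265025, 3, [0, 2, 0, 4, 0, 9], [10, 0, 2, 0, 0, 9]),
  (7715409270145, 3, [4, 0, 3, 0, 0, 5], [0, 10, 0, 3, 0, 0]),
  (228827228545, 3, [1, 0, 9, 0, 0, 10], [0, 5, 0, 10, 0, 3]),
  (4900711000705, 1, [0, 9, 0, 3, 0, 5], [0, 4, 0, 5, 0, 0, 4]),
  (9917925312385, 1, [3, 0, 10, 0, 8, 0], [2, 0, 6, 0, 3, 0, 1]),
  (6894017092225, 3, [0, 0, 2, 0, 7, 0, 4], [6, 0, 8, 0, 10]),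
  (2226213058945, 1, [0, 2, 0, 1, 0], [0, 7, 0, 6, 0, 0, 10]),
  (3668516997505, 3, [0, 1, 0, 2, 0, 10], [0, 4, 0, 0, 0, 2, 0]),
  (165981427585, 3, [0], [0]),
  (4768394715265, 0, [0, 0, 9, 0, 10], [3, 0, 0]),
  (5666044404865, 3, [0, 7, 0, 7, 0, 0, 7], [6, 0, 4, 0, 5]),
  (10132912416385, 1, [6, 0, 7, 0, 2], [10, 0, 6, 0, 2]),
  (306455155585, 1, [6, 0, 0, 8, 0], [8, 0, 4, 0, 2]),
  (6835753271425, 3, [5, 0, 8, 0, 4, 0, 7], [0, 0, 10, 0, 10]),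
  (3752260339585, 1, [0, 3, 0, 9, 0, 0, 7], [0, 4, 0, 3, 0, 0, 1]),
  (2651239810945, 3, [0, 4, 0, 0, 10], [0, 4, 0, 5, 0, 1]),
  (521356846465, 1, [8, 0, 10, 0, 0, 9], [0, 0, 0, 2, 0, 9]),
  (6225073217665, 3, [0, 0, 3, 0, 1, 0, 1], [6, 0, 0, 5, 0, 2]),
  (3616405870465, 3, [8, 0, 2, 0, 2], [5, 0, 6, 0, 2]),
  (3685774030465, 1, [8, 0, 2, 0, 9, 0], [0, 7, 0, 8, 0, 4]),
  (5542993163905, 3, [5, 0, 3], [6, 0, 8]),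
  (8153250021505, 1, [0, 9, 0, 4, 0, 1, 0], [0, 1, 0, 6, 0, 0]),
  (160129770385, 1, [0], [0]),
  (7861998470545, 3, [0, 5, 0, 0, 0, 10], [2, 0, 0, 3, 0, 7]),
  (5661647742865, 1, [1, 0, 7, 0, 0, 10], [0, 0, 0, 0, 4, 0, 1, 0]),
  (3457587571345, 3, [1, 0, 0, 0, 8, 0, 6], [0, 3, 0, 0, 10, 0]),
  (5736499660945, 1, [5, 0, 0, 5, 0, 2], [10, 0, 3, 0, 4, 0, 4]),
  (7922237399185, 1, [8, 0, 5, 0, 0, 0], [0, 10, 0, 9, 0, 9]),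
  (232641623185, 3, [4, 0, 6, 0, 5, 0], [5, 0, 10, 0, 0, 4, 0]),
  (5736470054545, 3, [0, 6, 0, 0, 5, 0, 4], [1, 0, 5, 0, 0, 8]),
  (7972304816785, 3, [7, 0, 9, 0, 0, 4], [1, 0, 1, 0, 2, 0]),
  (2518252193425, 3, [2, 0, 6, 0, 4, 0, 2], [1, 0, 3, 0, 2]),
  (6882769478545, 0, [1, 0, 1, 0, 9], [0, 4, 0, 3]),
  (7998575093905, 1, [4, 0, 6, 0, 10], [9, 0, 1, 0]),
  (372104524945, 0, [0], [0]),
  (388764952465, 3, [2, 0, 0, 2, 0, 0, 0], [0, 1, 0, 0, 2, 0, 10]),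
  (9140533947025, 1, [9, 0, 7], [2, 0, 4]),
  (4772386087825, 3, [10, 0, 2, 0, 0, 1], [4, 0, 3, 0, 3]),
  (3712020019345, 1, [0, 0, 5, 0, 1, 0, 1], [7, 0, 4, 0, 3, 0, 7]),
  (2631338784145, 3, [2, 0, 1, 0, 0, 0], [3, 0, 5, 0, 0, 4]),
  (2625743815825, 1, [0, 0, 0, 0, 2, 0, 8], [0, 3, 0, 0, 2, 0]),
  (9230865285265, 3, [0, 0, 6, 0, 4, 0], [1, 0, 5, 0, 7, 0, 7]),
  (9294933527185, 3, [0, 0, 9, 0, 3, 0, 5], [4, 0, 1, 0, 0, 7]),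
  (6023188857745, 3, [5, 0, 7, 0, 6], [0, 0, 1, 0, 3]),
  (5997522455185, 1, [0, 8, 0, 1, 0, 8], [5, 0, 0, 9, 0, 4]),
  (2703742748305, 1, [0, 8, 0, 8, 0, 1], [0, 7, 0, 7, 0, 10]),
  (6055961994385, 3, [2, 0, 0, 7, 0, 3], [6, 0, 7, 0]),
  (7162469437585, 1, [0, 5, 0, 10, 0, 1, 0], [2, 0, 8, 0, 5]),
  (3867092002705, 3, [0, 6, 0, 8, 0, 2], [4, 0, 3, 0, 3, 0, 10]),
  (3869937903505, 1, [8, 0, 0, 3, 0, 7, 0], [0, 4, 0, 1, 0, 0, 5]),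
  (2917898146705, 1, [8, 0, 4, 0, 10, 0], [10, 0, 5, 0, 6, 0]),
  (3995735715985, 3, [4, 0, 5, 0, 0, 1], [7, 0, 7, 0, 0, 2]),
  (5087480194705, 3, [0, 7, 0, 4, 0, 1, 0], [1, 0, 8, 0, 3, 0, 8]),
  (9491948336785, 1, [6, 0, 9, 0, 5, 0], [4, 0, 8, 0, 10, 0, 9]),
  (2698588554145, 3, [1, 0, 0, 0, 7], [0, 7, 0, 5, 0, 0, 7]),
  (2213660935585, 0, [1, 0, 6, 0, 8], [7, 0, 8, 0]),
  (2496332851105, 3, [0, 0, 9, 0, 0, 9, 0], [0, 4, 0, 0, 8, 0]),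
  (2633898362785, 1, [0, 0, 6, 0, 6, 0, 6], [4, 0, 3, 0, 1, 0]),
  (3308895294625, 3, [0, 9, 0, 6, 0, 7, 0], [0, 5, 0, 8]),
  (3459670175905, 1, [0, 3, 0, 4, 0, 0, 0], [0, 8, 0, 10, 0, 2]),
  (3462944620705, 3, [9, 0, 5, 0, 0, 7], [1, 0, 6, 0, 4, 0]),
  (3612722234785, 1, [4, 0, 4, 0, 1, 0, 5], [0, 6, 0, 2, 0, 3]),
  (4902304845985, 2, [0, 5, 0, 7], [0, 0, 8, 0, 6]),
  (4754571164065, 1, [0, 0, 7, 0, 8, 0, 0], [3, 0, 0, 10, 0]),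
  (4562724848545, 1, [2, 0, 0, 0, 6, 0, 4], [0, 2, 0, 2, 0, 4]),
  (4767473018785, 3, [6, 0, 0, 5], [0, 0, 0, 0, 2]),
  (5525781054625, 1, [5, 0, 3, 0], [0, 0, 6, 0, 9, 0, 0]),
  (5665200510625, 1, [2, 0, 2, 0, 1], [3, 0, 6, 0, 3]),
  (5706256753825, 3, [7, 0, 3, 0, 2, 0, 2], [0, 10, 0, 0, 10]),
  (5537428300705, 3, [0, 7, 0, 10, 0, 5, 0], [4, 0, 0]),
  (6942852879265, 3, [4, 0, 3, 0, 0, 9], [0, 1, 0, 4, 0, 0, 5]),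
  (6844068157345, 1, [4, 0, 0, 0, 0, 0, 1], [0, 5, 0, 6, 0, 0, 2, 0]),
  (7178283459745, 1, [3, 0, 10, 0, 6, 0], [0, 7, 0, 0, 3, 0, 9]),
  (6824779741345, 3, [0, 6, 0, 0, 0, 4], [0, 9, 0, 0, 3]),
  (8256088346785, 0, [5, 0, 0, 0], [0, 2, 0, 0]),
  (8122891065505, 3, [3, 0, 6, 0, 3, 0], [2, 0, 2, 0, 6]),
  (7922220598945, 3, [4, 0, 4, 0, 0, 6], [6, 0, 0, 3, 0, 3]),
  (7974015882145, 1, [6, 0, 0, 3], [4, 0, 7, 0, 4]),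
  (9012190333345, 1, [1, 0, 9, 0, 10], [0, 1, 0, 1, 0, 0, 9]),
  (9099197744545, 3, [6, 0, 0, 9, 0], [0, 6, 0, 6, 0, 9, 0]),
  (9179476657825, 1, [0, 0, 8, 0, 2, 0, 3], [0, 0, 5, 0, 4, 0, 7]),
  (9248459224225, 3, [0, 0, 6, 0, 0, 9, 0], [3, 0, 0, 6, 0, 0, 4]),
  (10047543866785, 3, [0, 3, 0, 0, 5], [0, 4, 0, 0, 3, 0, 8]),
  (10240883435425, 1, [3, 0, 0, 9, 0, 5], [3, 0, 6, 0, 7, 0, 5]),
  (10248671757985, 2, [5, 0, 5, 0, 4], [1, 0, 0, 2]),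
  (10338615444385, 1, [5, 0, 10, 0, 0, 1], [1, 0, 0, 7, 0, 6])]

theorem data_fst : DATA.map Prod.fst = EXT11 := by decide +kernel

theorem data_ok : ∀ e ∈ DATA, chkEntry e = true := by decide +kernel

/-- the generator of the group of order 660 as a word in the generator of the group of order 7920
-/
def wBM (i : ℕ) : List ℕ := bif Nat.beq i 0 then [3, 0, 4, 0, 4, 0, 9] else [0, 0, 0, 4, 0, 4]

theorem wBM_ok : ∀ i < 2, eqOn11 (evalW (ent (TC i)) (fun j => j) (wBM i)) (ent (TB i)) = true := by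
  decide +kernel

/-- the multiplication by `u` on the points -/
def muF (u : ℕ) (j : ℕ) : ℕ := Nat.mod (Nat.mul u j) 11

/-- the multiplications by the squares as words in the generators of the groups of order 660 -/
def MUW : List (ℕ × ℕ × List ℕ) := [(0, 1, []), (0, 3, [0, 0, 5, 0, 5]), (0, 4, [0, 5, 0, 0, 1]), (0, 5, [0, 0, 0, 2, 0]), (0, 9, [0, 8, 0, 4, 0]), (1, 1, []), (1, 3, [0, 0, 5, 0, 4]), (1, 4, [0, 1, 0, 6, 0]), (1, 5, [0, 4, 0, 8, 0]), (1, 9, [0, 2, 0, 0, 0])]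

theorem muw_ok : ∀ e ∈ MUW, eqOn11 (evalW (ent (TB e.1)) (fun j => j) e.2.2) (muF e.2.1) = true := by
  decide +kernel

/-- the two generators of the groups of order 660 together: a word with a cycle of length seven -/
theorem w12_ok : seven (evalW (ent (TB 0)) (ent (TB 1)) [0, 11]) 0 = true := by
  decide +kernel

/-- a generator of a group of order 660 and its conjugate under the multiplication by a non-square: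
the family, the non-square `u`, its inverse, the word and the point on the cycle of length seven -/
def CONJW : List (ℕ × ℕ × ℕ × List ℕ × ℕ) := [(0, 2, 6, [0, 9, 11], 0), (0, 6, 2, [0, 3, 11], 0), (0, 7, 8, [0, 0, 3, 11], 2), (0, 8, 7, [0, 0, 0, 11], 0), (0, 10, 10, [0, 6, 11], 0), (1, 2, 6, [0, 6, 11], 0), (1, 6, 2, [0, 10, 11], 0), (1, 7, 8, [0, 0, 7, 11], 0), (1, 8, 7, [0, 0, 0, 11], 2), (1, 10, 10, [0, 3, 11], 1)]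

theorem conjw_ok : ∀ e ∈ CONJW,
    seven (evalW (ent (TB e.1)) (fun j => muF e.2.1 (ent (TB e.1) (muF e.2.2.1 j))) e.2.2.2.1)
      e.2.2.2.2 = true := by
  decide +kernel

end Cfsg.Agent.Lib.Helper27_Deg11
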