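import Mathlib
import Cfsg.Agent.Lib.Helper27_TwinEnum

/-!
The search for the degree 7 (generated by `scratch/s4150/gen_enum.py`).
-/

set_option autoImplicit false

namespace Cfsg.Agent.Lib.Helper27_TwinEnum

/-- the words for the degree 7 -/
def EX7 : List (ℕ × ℕ × ℕ × ℕ) := [(3,0,2,3), (3,1,2,3), (5,1,2,3), (2,1,2,3), (5,0,2,3), (4,1,2,3)]

/-- the hints for the degree 7 -/
def H7 : ℕ := 0xffffffffffffffffff

theorem dfs7 : dfs 7 H7 EX7 2 3 784 (packL [4, 5, 6]) 0 = true := by decide +kernel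

end Cfsg.Agent.Lib.Helper27_TwinEnum
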