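import Mathlib
import Cfsg.Agent.S0713
import Cfsg.Agent.Lib.Helper27_TwinEnum
import Cfsg.Agent.Lib.Helper27_TwinEnum7
import Cfsg.Agent.Lib.Helper27_TwinEnum13_4
import Cfsg.Agent.Lib.Helper27_TwinEnum13_5
import Cfsg.Agent.Lib.Helper27_TwinEnum13_6
import Cfsg.Agent.Lib.Helper27_TwinEnum13_7
import Cfsg.Agent.Lib.Helper27_TwinEnum13_8
import Cfsg.Agent.Lib.Helper27_TwinEnum13_9
import Cfsg.Agent.Lib.Helper27_TwinEnum13_10
import Cfsg.Agent.Lib.Helper27_TwinEnum13_11
import Cfsg.Agent.Lib.Helper27_TwinEnum13_12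

/-!
# A cycle of length `q` and a cycle of length `q - 2` on `q` points, `q = 7, 13` (helper27, S4150)

They generate the alternating group: the pair is brought to a normal form (the long cycle is the
rotation, the short one fixes `0` and `1` and takes `2` to `3`), the normal forms are enumerated by the
search of `Helper27_TwinEnum`, and Jordan's theorem on cycles of prime length (S0713) ends the proof.
-/

set_option autoImplicit false

namespace Cfsg.Agent.Lib.Helper27_TwinEnum

open Equiv Equiv.Perm MulAction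

/-- a permutation of prime order `l` moving exactly `l` points is a cycle -/
theorem isCycle_of_pow_prime_eq_one {α : Type*} [Fintype α] [DecidableEq α] {g : Perm α} {l : ℕ}
    (hl : l.Prime) (hg : g ^ l = 1) (hs : g.support.card = l) : g.IsCycle := by
  have hne : g ≠ 1 := by
    rintro rfl
    rw [support_one, Finset.card_empty] at hs
    exact hl.ne_zero hs.symm
  have : Fact l.Prime := ⟨hl⟩
  have ho : orderOf g = l := orderOf_eq_prime hg hne
  obtain ⟨k, hk⟩ := cycleType_prime_order (σ := g) (by rw [ho]; exact hl)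
  rw [ho] at hk
  have hsum : (k + 1) * l = l := by
    have h1 := sum_cycleType g
    rw [hk, Multiset.sum_replicate, smul_eq_mul, hs] at h1
    exact h1
  have hk0 : k = 0 := by
    have hpos := hl.pos
    have : (k + 1) * l = 1 * l := by rw [hsum, one_mul]
    have := Nat.eq_of_mul_eq_mul_right hpos this
    omega
  rw [← card_cycleType_eq_one, hk, hk0, Multiset.card_replicate]

/-- a point on a cycle of length seven of a permutation of at most thirteen points: the
sixtieth power is a cycle of length seven -/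
theorem isCycle_pow_sixty {n : ℕ} (hn : n ≤ 13) (W : Perm (Fin n)) (s : Fin n)
    (h7 : (W ^ 7) s = s) (h1 : W s ≠ s) :
    (W ^ 60).IsCycle ∧ (W ^ 60).support.card = 7 := by
  set C := W.cycleOf s with hC
  have hCc : C.IsCycle := isCycle_cycleOf W h1
  have hCs : C s ≠ s := by rw [hC, cycleOf_apply_self]; exact h1
  have hC7 : C ^ 7 = 1 := by
    rw [hCc.pow_eq_one_iff' hCs, hC, cycleOf_pow_apply_self]
    exact h7
  have : Fact (Nat.Prime 7) := ⟨by norm_num⟩
  have hCo : orderOf C = 7 := orderOf_eq_prime hC7 hCc.ne_one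
  have hCcard : C.support.card = 7 := by rw [← hCc.orderOf, hCo]
  have hg : W ^ 60 = C ^ 60 := by
    ext j
    congr 1
    by_cases hj : j ∈ C.support
    · rw [hC, mem_support_cycleOf_iff] at hj
      have : W.cycleOf s = W.cycleOf j := hj.1.cycleOf_eq
      rw [hC, this, cycleOf_pow_apply_self]
    · have hCj : (C ^ 60) j = j := by
        by_contra hne
        exact hj (support_pow_le C 60 (mem_support.2 hne))
      rw [hCj]
      by_cases hWj : W j = j
      · exact (pow_apply_eq_self_of_apply_eq_self hWj 60)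
      · set D := W.cycleOf j with hD
        have hDc : D.IsCycle := isCycle_cycleOf W hWj
        have hdisj : D.support ⊆ Finset.univ \ C.support := by
          intro z hz
          rw [Finset.mem_sdiff]
          refine ⟨Finset.mem_univ _, fun hzC => hj ?_⟩
          rw [hD, mem_support_cycleOf_iff] at hz
          rw [hC, mem_support_cycleOf_iff] at hzC ⊢
          exact ⟨hzC.1.trans hz.1.symm, hzC.2⟩
        have hDcard : D.support.card ≤ 6 := by
          have := Finset.card_le_card hdisj
          rw [Finset.card_sdiff_of_subset (Finset.subset_univ _), Finset.card_univ,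
            Fintype.card_fin, hCcard] at this
          omega
        have hD2 : 2 ≤ D.support.card := hDc.two_le_card_support
        have hDo : orderOf D ∣ 60 := by
          rw [hDc.orderOf]
          generalize D.support.card = d at hDcard hD2
          interval_cases d <;> norm_num
        have hD60 : D ^ 60 = 1 := orderOf_dvd_iff_pow_eq_one.1 hDo
        rw [← cycleOf_pow_apply_self, ← hD, hD60, one_apply]
  rw [hg]
  have hcop : Nat.Coprime 60 (orderOf C) := by rw [hCo]; norm_num
  exact ⟨hCc.pow_iff.2 hcop, by rw [support_pow_coprime hcop, hCcard]⟩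

section

variable {n : ℕ} [NeZero n]

/-- the standard cycle `i ↦ i + 1` -/
def cyc (n : ℕ) [NeZero n] : Perm (Fin n) := Equiv.addRight 1

theorem cyc_apply_val (j : Fin n) : (cyc n j).val = (j.val + 1) % n := by
  show (j + 1).val = _
  rw [Fin.val_add, Fin.val_one', Nat.add_mod_mod]

theorem cyc_pow_apply_val (a : ℕ) (i : Fin n) : ((cyc n ^ a) i).val = (i.val + a) % n := by
  induction a with
  | zero =>
    rw [pow_zero, Perm.one_apply, Nat.add_zero, Nat.mod_eq_of_lt i.2]
  | succ a ih =>
    rw [pow_succ', Perm.mul_apply, cyc_apply_val, ih, Nat.mod_add_mod, Nat.add_assoc]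

/-- the packed table `T` describes the permutation `σ` -/
def RepT (σ : Perm (Fin n)) (T : ℕ) : Prop :=
  T < 2 ^ (4 * n) ∧ ∀ i : Fin n, ent T i.val = (σ i).val

/-- the function `w` on naturals describes the permutation `W` -/
def RepF (W : Perm (Fin n)) (w : ℕ → ℕ) : Prop := ∀ i : Fin n, w i.val = (W i).val

omit [NeZero n] in
theorem RepF.mul {W V : Perm (Fin n)} {w v : ℕ → ℕ} (hW : RepF W w) (hV : RepF V v) :
    RepF (W * V) (fun i => w (v i)) := by
  intro i
  show w (v i.val) = _
  rw [hV i, hW (V i)]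
  rfl

omit [NeZero n] in
theorem RepF.iterate {W : Perm (Fin n)} {w : ℕ → ℕ} (hW : RepF W w) (k : ℕ) :
    RepF (W ^ k) (w^[k]) := by
  induction k with
  | zero => intro i; rfl
  | succ k ih =>
    intro i
    rw [Function.iterate_succ_apply', ih i, hW, pow_succ', Perm.mul_apply]

theorem repF_rot {σ : Perm (Fin n)} {T : ℕ} (h : RepT σ T) {a : ℕ} (ha : a ≤ n) :
    RepF (σ * cyc n ^ a) (fun i => ent (rot T n a) i) := by
  intro i
  show ent (rot T n a) i.val = _
  rw [ent_rot h.1 ha i.2, Perm.mul_apply]
  have h1 := h.2 ((cyc n ^ a) i)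
  rw [cyc_pow_apply_val] at h1
  exact h1

/-- the permutation of a word -/
def wperm (σ : Perm (Fin n)) (a b : ℕ) : Perm (Fin n) :=
  if b = 0 then σ * cyc n ^ a else σ * cyc n ^ a * (σ * cyc n ^ (b - 1))

theorem wperm_mem (σ : Perm (Fin n)) (a b : ℕ) :
    wperm σ a b ∈ Subgroup.closure ({σ, cyc n} : Set (Perm (Fin n))) := by
  have h1 : σ ∈ Subgroup.closure ({σ, cyc n} : Set (Perm (Fin n))) :=
    Subgroup.subset_closure (Set.mem_insert _ _)
  have h2 : cyc n ∈ Subgroup.closure ({σ, cyc n} : Set (Perm (Fin n))) :=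
    Subgroup.subset_closure (Set.mem_insert_of_mem _ rfl)
  have h3 : ∀ k : ℕ, σ * cyc n ^ k ∈ Subgroup.closure ({σ, cyc n} : Set (Perm (Fin n))) :=
    fun k => Subgroup.mul_mem _ h1 (Subgroup.pow_mem _ h2 k)
  unfold wperm
  split_ifs
  · exact h3 a
  · exact Subgroup.mul_mem _ (h3 a) (h3 _)

theorem repF_wd {σ : Perm (Fin n)} {T : ℕ} (h : RepT σ T) (a b : ℕ) :
    RepF (wperm σ a b) (wd T n a b) := by
  have key : ∀ (k : ℕ) (i : Fin n), ent T (Nat.mod (Nat.add i.val k) n) = ((σ * cyc n ^ k) i).val := by
    intro k i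
    rw [Perm.mul_apply]
    have h1 := h.2 ((cyc n ^ k) i)
    rw [cyc_pow_apply_val] at h1
    exact h1
  intro i
  rw [wd_eq]
  unfold wperm
  by_cases hb : b = 0
  · subst hb
    rw [if_pos rfl]
    exact key a i
  · rw [if_neg hb]
    have hbeq : Nat.beq b 0 = false := by
      cases b with
      | zero => exact absurd rfl hb
      | succ b => rfl
    rw [hbeq, cond_false, Perm.mul_apply]
    have h1 := key (Nat.pred b) i
    rw [h1]
    exact key a ((σ * cyc n ^ (b - 1)) i)

theorem chk7_sound {σ : Perm (Fin n)} {T : ℕ} (h : RepT σ T) {a b s : ℕ} (ha : a < n)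
    (hb : b ≤ n) (hs : s < n) (hchk : chk7 T n a b s = true) :
    ((wperm σ a b) ^ 7) ⟨s, hs⟩ = ⟨s, hs⟩ ∧ (wperm σ a b) ⟨s, hs⟩ ≠ ⟨s, hs⟩ := by
  have main : ∀ (W : Perm (Fin n)) (w : ℕ → ℕ), RepF W w →
      (Nat.beq (w^[7] s) s && !(Nat.beq (w s) s)) = true →
      (W ^ 7) ⟨s, hs⟩ = ⟨s, hs⟩ ∧ W ⟨s, hs⟩ ≠ ⟨s, hs⟩ := by
    intro W w hW hc
    rw [Bool.and_eq_true, Bool.not_eq_true'] at hc
    obtain ⟨h7, h1⟩ := hc
    have h7 := Nat.eq_of_beq_eq_true h7
    have h1 := Nat.ne_of_beq_eq_false h1
    have h7' := hW.iterate 7 ⟨s, hs⟩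
    have h1' := hW ⟨s, hs⟩
    constructor
    · apply Fin.ext
      rw [← h7']
      exact h7
    · intro hcon
      have := congrArg Fin.val hcon
      rw [← h1'] at this
      exact h1 this
  rw [chk7_eq, forceN_eq] at hchk
  unfold wperm
  by_cases hb0 : b = 0
  · subst hb0
    rw [if_pos rfl]
    have hbeq : Nat.beq 0 0 = true := rfl
    rw [hbeq, cond_true, chk7one_eq] at hchk
    exact main _ _ (repF_rot h ha.le) hchk
  · rw [if_neg hb0]
    have hbeq : Nat.beq b 0 = false := by
      cases b with
      | zero => exact absurd rfl hb0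
      | succ b => rfl
    rw [hbeq, cond_false, forceN_eq, chk7two_eq] at hchk
    have hb1 : Nat.pred b ≤ n := le_trans (Nat.pred_le b) hb
    exact main _ _ ((repF_rot h ha.le).mul (repF_rot h hb1)) hchk

end

section

variable {n : ℕ} [NeZero n]

omit [NeZero n] in
theorem wdIter_eq (T a b e i : ℕ) : wdIter T n a b e i = (wd T n a b)^[e] i := by
  induction e with
  | zero => rfl
  | succ e ih =>
    rw [Function.iterate_succ_apply', ← ih]
    rfl

omit [NeZero n] in
theorem cntMoved_eq (T a b e m : ℕ) :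
    cntMoved T n a b e m =
      ((Finset.range m).filter fun i => wdIter T n a b e i ≠ i).card := by
  induction m with
  | zero => rfl
  | succ m ih =>
    have hstep : cntMoved T n a b e (m + 1) =
        bif Nat.beq (wdIter T n a b e m) m then cntMoved T n a b e m
        else Nat.succ (cntMoved T n a b e m) := rfl
    rw [hstep, Finset.range_add_one, Finset.filter_insert, ih]
    by_cases hm : wdIter T n a b e m = m
    · rw [hm, Nat.beq_refl, cond_true, if_neg (by simp)]
    · have hbeq : Nat.beq (wdIter T n a b e m) m = false := by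
        cases hb : Nat.beq (wdIter T n a b e m) m
        · rfl
        · exact absurd (Nat.eq_of_beq_eq_true hb) hm
      rw [hbeq, cond_false, if_pos hm, Finset.card_insert_of_notMem]
      simp

omit [NeZero n] in
theorem allFixed_eq (T a b e m : ℕ) :
    allFixed T n a b e m = true ↔ ∀ i < m, wdIter T n a b e i = i := by
  have : allFixed T n a b e m = Nat.rec (motive := fun _ => Bool) true
      (fun r acc => (fun i => Nat.beq (wdIter T n a b e i) i) r && acc) m := rfl
  rw [this, natRec_all]
  constructor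
  · intro h i hi
    exact Nat.eq_of_beq_eq_true (h i hi)
  · intro h i hi
    show Nat.beq _ _ = true
    rw [h i hi, Nat.beq_refl]

theorem chkL_sound {σ : Perm (Fin n)} {T : ℕ} (h : RepT σ T) {t : ℕ × ℕ × ℕ × ℕ}
    (hchk : chkL T n t = true) :
    t.2.2.2 + 3 ≤ n ∧ ((wperm σ t.1 t.2.1) ^ t.2.2.1).support.card = t.2.2.2 ∧
      ((wperm σ t.1 t.2.1) ^ t.2.2.1) ^ t.2.2.2 = 1 := by
  obtain ⟨a, b, e, l⟩ := t
  rw [chkL_eq] at hchk
  simp only [Bool.and_eq_true, Nat.ble_eq] at hchk
  obtain ⟨⟨h1, h2⟩, h3⟩ := hchk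
  have h2 := Nat.eq_of_beq_eq_true h2
  rw [allFixed_eq] at h3
  have hrep := repF_wd h a b
  set W := wperm σ a b with hW
  have hiter : ∀ (k : ℕ) (i : Fin n), wdIter T n a b k i.val = ((W ^ k) i).val := by
    intro k i
    rw [wdIter_eq]
    exact hrep.iterate k i
  refine ⟨h1, ?_, ?_⟩
  · show (W ^ e).support.card = l
    rw [← h2, cntMoved_eq]
    apply Finset.card_bij (fun i _ => i.val)
    · intro i hi
      rw [Finset.mem_filter, Finset.mem_range]
      refine ⟨i.2, ?_⟩
      rw [hiter]
      intro hcon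
      exact (mem_support.1 hi) (Fin.ext hcon)
    · intro i _ j _ hij
      exact Fin.ext hij
    · intro j hj
      rw [Finset.mem_filter, Finset.mem_range] at hj
      refine ⟨⟨j, hj.1⟩, ?_, rfl⟩
      rw [mem_support]
      intro hcon
      apply hj.2
      have := hiter e ⟨j, hj.1⟩
      rw [hcon] at this
      exact this
  · show (W ^ e) ^ l = 1
    rw [← pow_mul]
    ext i
    rw [← hiter, Perm.one_apply]
    exact h3 i.val i.2

theorem leaf_sound (hn13 : n ≤ 13) {EX : List (ℕ × ℕ × ℕ × ℕ)}
    (hEX : ∀ t ∈ EX, t.2.2.2.Prime) {σ : Perm (Fin n)} {T : ℕ} (h : RepT σ T) (H idx : ℕ)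
    (hl : leafChk n H EX idx T = true) :
    ∃ g ∈ Subgroup.closure ({σ, cyc n} : Set (Perm (Fin n))), g.IsCycle ∧
      ∃ l : ℕ, l.Prime ∧ g.support.card = l ∧ l + 3 ≤ n := by
  rw [leafChk_eq, forceN_eq, forceN_eq] at hl
  generalize Nat.land (Nat.shiftRight H (Nat.mul 12 idx)) 4095 = hh at hl
  rw [leafH_eq] at hl
  cases hb : Nat.beq hh 4095
  · rw [hb, cond_false] at hl
    simp only [Bool.and_eq_true, Nat.ble_eq, Nat.blt_eq] at hl
    obtain ⟨⟨⟨⟨h10, hs⟩, ha⟩, hb'⟩, hchk⟩ := hl
    obtain ⟨h7, h1⟩ := chk7_sound h ha hb' hs hchk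
    obtain ⟨hc, hcard⟩ := isCycle_pow_sixty hn13 _ _ h7 h1
    exact ⟨_, Subgroup.pow_mem _ (wperm_mem σ _ _) 60, hc, 7, by norm_num, hcard, by omega⟩
  · rw [hb, cond_true, List.any_eq_true] at hl
    obtain ⟨t, ht, hchk⟩ := hl
    obtain ⟨h1, h2, h3⟩ := chkL_sound h hchk
    exact ⟨_, Subgroup.pow_mem _ (wperm_mem σ _ _) _,
      isCycle_of_pow_prime_eq_one (hEX t ht) h3 h2, _, hEX t ht, h2, h1⟩

theorem alt_le_of_cycle (hnp : n.Prime) {σ g : Perm (Fin n)}
    (hg : g ∈ Subgroup.closure ({σ, cyc n} : Set (Perm (Fin n)))) (hgc : g.IsCycle) {l : ℕ}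
    (hl : l.Prime) (hgs : g.support.card = l) (hl3 : l + 3 ≤ n) :
    alternatingGroup (Fin n) ≤ Subgroup.closure ({σ, cyc n} : Set (Perm (Fin n))) := by
  have hc : cyc n ∈ Subgroup.closure ({σ, cyc n} : Set (Perm (Fin n))) :=
    Subgroup.subset_closure (Set.mem_insert_of_mem _ rfl)
  have htr : IsPretransitive (Subgroup.closure ({σ, cyc n} : Set (Perm (Fin n)))) (Fin n) := by
    refine ⟨fun i j => ?_⟩
    refine ⟨⟨cyc n ^ ((j - i).val), Subgroup.pow_mem _ hc _⟩, ?_⟩
    show (cyc n ^ ((j - i).val)) i = j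
    apply Fin.ext
    rw [cyc_pow_apply_val, ← Fin.val_add, add_sub_cancel]
  have hprim : IsPreprimitive (Subgroup.closure ({σ, cyc n} : Set (Perm (Fin n)))) (Fin n) := by
    apply IsPreprimitive.of_prime_card
    rw [Nat.card_eq_fintype_card, Fintype.card_fin]
    exact hnp
  have h2 := hl.two_le
  exact Cfsg.Agent.S0713.result _ hprim hl (by rw [Fintype.card_fin]; omega)
    (by rw [Fintype.card_fin]; exact hl3) hgc hgs hg

end

/-- the list `F c, F (F c), ...` of `k` entries -/
def orbL (F : ℕ → ℕ) : ℕ → ℕ → List ℕ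
  | _, 0 => []
  | c, k + 1 => F c :: orbL F (F c) k

theorem orbL_zero (F : ℕ → ℕ) (c : ℕ) : orbL F c 0 = [] := by
  unfold orbL; rfl

theorem orbL_succ (F : ℕ → ℕ) (c k : ℕ) : orbL F c (k + 1) = F c :: orbL F (F c) k := by
  conv_lhs => unfold orbL

theorem orbL_eq_map (F : ℕ → ℕ) (k : ℕ) : ∀ c : ℕ,
    orbL F c k = (List.range k).map fun i => F^[i + 1] c := by
  induction k with
  | zero => intro c; rw [orbL_zero]; rfl
  | succ k ih =>
    intro c
    rw [orbL_succ, ih, List.range_succ_eq_map, List.map_cons, List.map_map]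
    rfl

theorem cons_orbL_eq_map (F : ℕ → ℕ) (k c : ℕ) :
    c :: orbL F c k = (List.range (k + 1)).map fun i => F^[i] c := by
  rw [orbL_eq_map, List.range_succ_eq_map, List.map_cons, List.map_map]
  rfl

theorem finalT_lt {n : ℕ} : ∀ (s : List ℕ) (T cur : ℕ), T < 2 ^ (4 * n) → cur < n →
    (∀ c ∈ s, c < n) → n ≤ 16 → 2 < n → finalT T cur s < 2 ^ (4 * n) := by
  intro s
  induction s with
  | nil =>
    intro T cur hT hc _ hn _
    rw [finalT_nil]
    exact putv_lt hT hc (by norm_num)
  | cons v s ih =>
    intro T cur hT hc hs hn h2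
    rw [finalT_cons]
    have hv : v < n := hs v List.mem_cons_self
    exact ih _ _ (putv_lt hT hc (by omega)) hv (fun c hc' => hs c (List.mem_cons_of_mem _ hc')) hn h2

theorem ent_finalT (F : ℕ → ℕ) : ∀ (k T cur : ℕ), (cur :: orbL F cur k).Nodup →
    (∀ c ∈ cur :: orbL F cur k, ent T c = 0) → (∀ c ∈ orbL F cur k, c < 16) →
    F^[k + 1] cur = 2 → (∀ j, j ∉ cur :: orbL F cur k → ent T j = F j) →
    ∀ j, ent (finalT T cur (orbL F cur k)) j = F j := by
  intro k
  induction k with
  | zero =>
    intro T cur _ hz _ hF hout j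
    rw [orbL_zero, finalT_nil, ent_putv _ _ _ _ (by norm_num)]
    split_ifs with hj
    · subst hj
      rw [hz j List.mem_cons_self, Nat.zero_or]
      exact hF.symm
    · apply hout
      rw [orbL_zero, List.mem_singleton]
      exact hj
  | succ k ih =>
    intro T cur hnd hz hlt hF hout j
    rw [orbL_succ, finalT_cons]
    rw [orbL_succ] at hnd hz hlt hout
    have hv16 : F cur < 16 := hlt _ List.mem_cons_self
    have hcur : cur ∉ F cur :: orbL F (F cur) k := (List.nodup_cons.1 hnd).1
    apply ih (putv T cur (F cur)) (F cur) (List.nodup_cons.1 hnd).2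
    · intro c hc
      have hne : c ≠ cur := fun h => hcur (h ▸ hc)
      rw [ent_putv _ _ _ _ hv16, if_neg hne]
      exact hz c (List.mem_cons_of_mem _ hc)
    · intro c hc
      exact hlt c (List.mem_cons_of_mem _ hc)
    · rw [← Function.iterate_succ_apply]
      exact hF
    · intro j hj
      rw [ent_putv _ _ _ _ hv16]
      split_ifs with hjc
      · subst hjc
        rw [hz j List.mem_cons_self, Nat.zero_or]
      · apply hout
        rw [List.mem_cons, not_or]
        exact ⟨hjc, hj⟩

section

variable {n : ℕ} [NeZero n]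

/-- the permutation as a function on naturals -/
def natFn (σ : Perm (Fin n)) (j : ℕ) : ℕ := if h : j < n then (σ ⟨j, h⟩).val else 0

omit [NeZero n] in
theorem natFn_val (σ : Perm (Fin n)) (x : Fin n) : natFn σ x.val = (σ x).val := by
  unfold natFn
  rw [dif_pos x.2]

omit [NeZero n] in
theorem natFn_iterate (σ : Perm (Fin n)) (i : ℕ) (x : Fin n) :
    (natFn σ)^[i] x.val = ((σ ^ i) x).val := by
  induction i with
  | zero => rfl
  | succ i ih =>
    rw [Function.iterate_succ_apply', ih, natFn_val, pow_succ', Perm.mul_apply]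

theorem ent_784_0 : ent 784 0 = 0 := by decide
theorem ent_784_1 : ent 784 1 = 1 := by decide
theorem ent_784_2 : ent 784 2 = 3 := by decide

theorem alt_le_of_enum (hn5 : 5 ≤ n) (hn13 : n ≤ 13) (hnp : n.Prime)
    {EX : List (ℕ × ℕ × ℕ × ℕ)} (hEX : ∀ t ∈ EX, t.2.2.2.Prime)
    (henum : ∀ s : List ℕ, s.Perm (List.range' 4 (n - 4)) →
      ∃ H idx, leafChk n H EX idx (finalT 784 3 s) = true)
    (X : Perm (Fin n)) (hX : X.cycleType = {n - 2})
    (h0 : X ⟨0, by omega⟩ = ⟨0, by omega⟩) (h1 : X ⟨1, by omega⟩ = ⟨1, by omega⟩)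
    (h2 : X ⟨2, by omega⟩ = ⟨3, by omega⟩) :
    alternatingGroup (Fin n) ≤ Subgroup.closure ({X, cyc n} : Set (Perm (Fin n))) := by
  set P0 : Fin n := ⟨0, by omega⟩ with hP0
  set P1 : Fin n := ⟨1, by omega⟩ with hP1
  set P2 : Fin n := ⟨2, by omega⟩ with hP2
  set P3 : Fin n := ⟨3, by omega⟩ with hP3
  have hXc : X.IsCycle := by
    rw [← card_cycleType_eq_one, hX, Multiset.card_singleton]
  have hXs : X.support.card = n - 2 := by
    rw [← sum_cycleType, hX, Multiset.sum_singleton]
  have hXo : orderOf X = n - 2 := by rw [hXc.orderOf, hXs]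
  have hmove2 : X P2 ≠ P2 := by
    rw [h2]
    intro h
    have := congrArg Fin.val h
    simp [hP2, hP3] at this
  -- periods
  have K : ∀ m : ℕ, (X ^ m) P2 = P2 ↔ (n - 2) ∣ m := by
    intro m
    rw [← hXc.pow_eq_one_iff' hmove2, ← hXo, orderOf_dvd_iff_pow_eq_one]
  have K2 : ∀ m1 m2 : ℕ, m1 < n - 2 → m2 < n - 2 → (X ^ m1) P2 = (X ^ m2) P2 → m1 = m2 := by
    have aux : ∀ m1 m2 : ℕ, m1 ≤ m2 → m2 < n - 2 → (X ^ m1) P2 = (X ^ m2) P2 → m1 = m2 := by
      intro m1 m2 hle hlt heq
      have h3 : (X ^ m2) P2 = (X ^ m1) ((X ^ (m2 - m1)) P2) := by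
        rw [← Perm.mul_apply, ← pow_add, Nat.add_sub_cancel' hle]
      rw [h3] at heq
      have h4 := (X ^ m1).injective heq
      have h5 := (K (m2 - m1)).1 h4.symm
      have h6 : m2 - m1 = 0 := Nat.eq_zero_of_dvd_of_lt h5 (by omega)
      omega
    intro m1 m2 hm1 hm2 heq
    rcases le_total m1 m2 with hle | hle
    · exact aux m1 m2 hle hm2 heq
    · exact (aux m2 m1 hle hm1 heq.symm).symm
  set F := natFn X with hF
  set k := n - 4 with hk
  have hFi : ∀ i : ℕ, F^[i] 3 = ((X ^ (i + 1)) P2).val := by
    intro i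
    have := natFn_iterate X i P3
    rw [show P3.val = 3 from rfl] at this
    rw [hF, this, pow_succ, Perm.mul_apply, h2]
  have hlist : 3 :: orbL F 3 k = (List.range (k + 1)).map fun i => F^[i] 3 :=
    cons_orbL_eq_map F k 3
  have hslist : orbL F 3 k = (List.range k).map fun i => F^[i + 1] 3 := orbL_eq_map F k 3
  -- no repetition
  have hnd : (3 :: orbL F 3 k).Nodup := by
    rw [hlist]
    apply List.Nodup.map_on _ List.nodup_range
    intro i hi j hj hij
    rw [List.mem_range] at hi hj
    rw [hFi, hFi] at hij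
    have := K2 (i + 1) (j + 1) (by omega) (by omega) (Fin.ext hij)
    omega
  -- the values
  have hfix : ∀ (P : Fin n) (m : ℕ), X P = P → P ≠ P2 → (X ^ m) P2 ≠ P := by
    intro P m hP hne heq
    have h3 : (X ^ m) P = P := pow_apply_eq_self_of_apply_eq_self hP m
    exact hne ((X ^ m).injective (h3.trans heq.symm))
  have hvals : ∀ c ∈ orbL F 3 k, 4 ≤ c ∧ c < n := by
    intro c hc
    rw [hslist, List.mem_map] at hc
    obtain ⟨i, hi, rfl⟩ := hc
    rw [List.mem_range] at hi
    rw [hFi]
    set Q := (X ^ (i + 1 + 1)) P2 with hQ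
    refine ⟨?_, Q.2⟩
    have hne0 : Q ≠ P0 := hfix P0 _ h0 (by intro h; have := congrArg Fin.val h; simp [hP0, hP2] at this)
    have hne1 : Q ≠ P1 := hfix P1 _ h1 (by intro h; have := congrArg Fin.val h; simp [hP1, hP2] at this)
    have hne2 : Q ≠ P2 := by
      intro h
      have := (K _).1 h
      have := Nat.le_of_dvd (by omega) this
      omega
    have hne3 : Q ≠ P3 := by
      intro h
      have h3 : (X ^ (i + 1 + 1)) P2 = (X ^ 1) P2 := by rw [pow_one, h2]; exact h
      have := K2 _ _ (by omega) (by omega) h3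
      omega
    by_contra hlt
    rw [not_le] at hlt
    have hv : Q.val = 0 ∨ Q.val = 1 ∨ Q.val = 2 ∨ Q.val = 3 := by omega
    rcases hv with hv | hv | hv | hv
    · exact hne0 (Fin.ext hv)
    · exact hne1 (Fin.ext hv)
    · exact hne2 (Fin.ext hv)
    · exact hne3 (Fin.ext hv)
  -- the arrangement
  have hperm : (orbL F 3 k).Perm (List.range' 4 (n - 4)) := by
    apply List.Subperm.perm_of_length_le
    · apply List.subperm_of_subset (List.nodup_cons.1 hnd).2
      intro c hc
      rw [List.mem_range'_1]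
      have := hvals c hc
      omega
    · rw [List.length_range', hslist, List.length_map, List.length_range]
  obtain ⟨H, idx, hleaf⟩ := henum _ hperm
  -- the final table describes `X`
  have h784 : (784 : ℕ) < 2 ^ (4 * 3) := by norm_num
  have hrep : RepT X (finalT 784 3 (orbL F 3 k)) := by
    constructor
    · apply finalT_lt _ _ _ _ (by omega) (fun c hc => (hvals c hc).2) (by omega) (by omega)
      exact lt_of_lt_of_le h784 (Nat.pow_le_pow_right (by norm_num) (by omega))
    · intro x
      rw [← natFn_val]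
      apply ent_finalT F k 784 3 hnd
      · intro c hc
        apply ent_of_lt h784
        rcases List.mem_cons.1 hc with rfl | hc'
        · exact le_refl _
        · have := (hvals c hc').1
          omega
      · intro c hc
        have := (hvals c hc).2
        omega
      · rw [hFi]
        have : k + 1 + 1 = orderOf X := by rw [hXo]; omega
        rw [this, pow_orderOf_eq_one, Perm.one_apply]
      · intro j hj
        by_cases hjn : j < n
        · by_cases hj3 : j < 3
          · have hv : j = 0 ∨ j = 1 ∨ j = 2 := by omega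
            rcases hv with rfl | rfl | rfl
            · rw [ent_784_0]
              have := natFn_val X P0
              rw [h0] at this
              exact this.symm
            · rw [ent_784_1]
              have := natFn_val X P1
              rw [h1] at this
              exact this.symm
            · rw [ent_784_2]
              have := natFn_val X P2
              rw [h2] at this
              exact this.symm
          · exfalso
            apply hj
            -- the point `j` is on the cycle
            set Pj : Fin n := ⟨j, hjn⟩ with hPj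
            have hmovej : X Pj ≠ Pj := by
              intro hfixj
              have hsub : X.support ⊆ Finset.univ \ {P0, P1, Pj} := by
                intro z hz
                rw [Finset.mem_sdiff]
                refine ⟨Finset.mem_univ _, ?_⟩
                rw [Finset.mem_insert, Finset.mem_insert, Finset.mem_singleton]
                rintro (rfl | rfl | rfl)
                · exact (mem_support.1 hz) h0
                · exact (mem_support.1 hz) h1
                · exact (mem_support.1 hz) hfixj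
              have hcard3 : ({P0, P1, Pj} : Finset (Fin n)).card = 3 := by
                rw [Finset.card_insert_of_notMem, Finset.card_insert_of_notMem,
                  Finset.card_singleton]
                · rw [Finset.mem_singleton]
                  intro h
                  have := congrArg Fin.val h
                  simp [hP1, hPj] at this
                  omega
                · rw [Finset.mem_insert, Finset.mem_singleton]
                  rintro (h | h)
                  · have := congrArg Fin.val h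
                    simp [hP0, hP1] at this
                  · have := congrArg Fin.val h
                    simp [hP0, hPj] at this
                    omega
              have := Finset.card_le_card hsub
              rw [Finset.card_sdiff_of_subset (Finset.subset_univ _), Finset.card_univ,
                Fintype.card_fin, hcard3, hXs] at this
              omega
            obtain ⟨i, hi⟩ := hXc.exists_pow_eq hmove2 hmovej
            have hi' : (X ^ (i % (n - 2))) P2 = Pj := by
              rw [← hXo, pow_mod_orderOf]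
              exact hi
            have hmlt : i % (n - 2) < n - 2 := Nat.mod_lt _ (by omega)
            have hm0 : i % (n - 2) ≠ 0 := by
              intro h
              rw [h, pow_zero, Perm.one_apply] at hi'
              have := congrArg Fin.val hi'
              simp [hP2, hPj] at this
              omega
            rw [hlist, List.mem_map]
            refine ⟨i % (n - 2) - 1, ?_, ?_⟩
            · rw [List.mem_range]
              omega
            · rw [hFi, show i % (n - 2) - 1 + 1 = i % (n - 2) by omega, hi']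
        · rw [ent_of_lt h784 (by omega)]
          unfold F natFn
          rw [dif_neg hjn]
  obtain ⟨g, hg, hgc, l, hl, hgs, hl3⟩ := leaf_sound hn13 hEX hrep H idx hleaf
  exact alt_le_of_cycle hnp hg hgc hl hgs hl3

end

/-- a permutation of prime order `r` of fewer than `2 r` points is a cycle of length `r` -/
theorem cycleType_of_prime_pow {α : Type*} [Fintype α] [DecidableEq α] {σ : Perm α} {r : ℕ}
    (hr : r.Prime) (h1 : σ ^ r = 1) (hne : σ ≠ 1) (hcard : Fintype.card α < 2 * r) :
    σ.cycleType = {r} := by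
  have : Fact r.Prime := ⟨hr⟩
  have ho : orderOf σ = r := orderOf_eq_prime h1 hne
  obtain ⟨k, hk⟩ := cycleType_prime_order (σ := σ) (by rw [ho]; exact hr)
  rw [ho] at hk
  have hsum : σ.support.card = (k + 1) * r := by
    rw [← sum_cycleType, hk, Multiset.sum_replicate, smul_eq_mul]
  have hle := σ.support.card_le_univ
  have hk0 : k = 0 := by
    by_contra hne0
    have : 2 * r ≤ (k + 1) * r := Nat.mul_le_mul_right r (by omega)
    omega
  rw [hk, hk0]
  rfl

theorem cycle_pow_inj {α : Type*} [Fintype α] [DecidableEq α] {f : Perm α} (hf : f.IsCycle)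
    {x : α} (hx : f x ≠ x) {m1 m2 : ℕ} (h1 : m1 < orderOf f) (h2 : m2 < orderOf f)
    (h : (f ^ m1) x = (f ^ m2) x) : m1 = m2 := by
  have aux : ∀ m1 m2 : ℕ, m1 ≤ m2 → m2 < orderOf f → (f ^ m1) x = (f ^ m2) x → m1 = m2 := by
    intro m1 m2 hle hlt heq
    have h3 : (f ^ m2) x = (f ^ m1) ((f ^ (m2 - m1)) x) := by
      rw [← Perm.mul_apply, ← pow_add, Nat.add_sub_cancel' hle]
    rw [h3] at heq
    have h4 := (f ^ m1).injective heq
    have h5 : f ^ (m2 - m1) = 1 := (hf.pow_eq_one_iff' hx).2 h4.symm
    have h6 := orderOf_dvd_of_pow_eq_one h5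
    have h7 : m2 - m1 = 0 := Nat.eq_zero_of_dvd_of_lt h6 (by omega)
    omega
  rcases le_total m1 m2 with hle | hle
  · exact aux m1 m2 hle h2 h
  · exact (aux m2 m1 hle h1 h.symm).symm

/-- a permutation of `n` points with `n - 2` moved points and two known fixed points moves all
others -/
theorem moved_of_card {n : ℕ} {X : Perm (Fin n)} (hs : X.support.card = n - 2) (hn : 2 ≤ n)
    {P0 P1 P : Fin n} (h0 : X P0 = P0) (h1 : X P1 = P1) (h01 : P0 ≠ P1) (hP0 : P ≠ P0)
    (hP1 : P ≠ P1) : X P ≠ P := by
  intro hfix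
  have hsub : X.support ⊆ Finset.univ \ {P0, P1, P} := by
    intro z hz
    rw [Finset.mem_sdiff]
    refine ⟨Finset.mem_univ _, ?_⟩
    rw [Finset.mem_insert, Finset.mem_insert, Finset.mem_singleton]
    rintro (rfl | rfl | rfl)
    · exact (mem_support.1 hz) h0
    · exact (mem_support.1 hz) h1
    · exact (mem_support.1 hz) hfix
  have hcard3 : ({P0, P1, P} : Finset (Fin n)).card = 3 := by
    rw [Finset.card_insert_of_notMem, Finset.card_insert_of_notMem, Finset.card_singleton]
    · rw [Finset.mem_singleton]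
      exact fun h => hP1 h.symm
    · rw [Finset.mem_insert, Finset.mem_singleton]
      rintro (h | h)
      · exact h01 h
      · exact hP0 h.symm
  have := Finset.card_le_card hsub
  rw [Finset.card_sdiff_of_subset (Finset.subset_univ _), Finset.card_univ,
    Fintype.card_fin, hcard3, hs] at this
  omega

theorem twin_reduction {n : ℕ} [NeZero n] (hn5 : 5 ≤ n) (hnp : n.Prime) (hpp : (n - 2).Prime)
    (henum : ∀ X : Perm (Fin n), X.cycleType = {n - 2} →
      X ⟨0, by omega⟩ = ⟨0, by omega⟩ → X ⟨1, by omega⟩ = ⟨1, by omega⟩ →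
      X ⟨2, by omega⟩ = ⟨3, by omega⟩ →
      alternatingGroup (Fin n) ≤ Subgroup.closure ({X, cyc n} : Set (Perm (Fin n))))
    {β : Type*} [Fintype β] [DecidableEq β] (hc : Fintype.card β = n) (X Y : Perm β)
    (hX : X.cycleType = {n - 2}) (hY : Y.cycleType = {n}) :
    alternatingGroup β ≤ Subgroup.closure ({X, Y} : Set (Perm β)) := by
  have hXc : X.IsCycle := by rw [← card_cycleType_eq_one, hX, Multiset.card_singleton]
  have hXs : X.support.card = n - 2 := by rw [← sum_cycleType, hX, Multiset.sum_singleton]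
  have hXo : orderOf X = n - 2 := by rw [hXc.orderOf, hXs]
  have hYc : Y.IsCycle := by rw [← card_cycleType_eq_one, hY, Multiset.card_singleton]
  have hYs : Y.support.card = n := by rw [← sum_cycleType, hY, Multiset.sum_singleton]
  have hYo : orderOf Y = n := by rw [hYc.orderOf, hYs]
  have hYall : ∀ z : β, Y z ≠ z := by
    intro z
    have : Y.support = Finset.univ := Finset.eq_univ_of_card _ (by rw [hYs, hc])
    rw [← mem_support, this]
    exact Finset.mem_univ z
  -- the two fixed points of `X`
  have hfix2 : (Finset.univ \ X.support).card = 2 := by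
    rw [Finset.card_sdiff_of_subset (Finset.subset_univ _), Finset.card_univ, hc, hXs]
    omega
  obtain ⟨a, b, hab, hset⟩ := Finset.card_eq_two.1 hfix2
  have ha : X a = a := by
    have : a ∈ Finset.univ \ X.support := by rw [hset]; exact Finset.mem_insert_self _ _
    exact notMem_support.1 (Finset.mem_sdiff.1 this).2
  have hb : X b = b := by
    have : b ∈ Finset.univ \ X.support := by
      rw [hset]; exact Finset.mem_insert_of_mem (Finset.mem_singleton_self _)
    exact notMem_support.1 (Finset.mem_sdiff.1 this).2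
  -- the power of `Y` taking `a` to `b`
  obtain ⟨u, hu⟩ := hYc.exists_pow_eq (hYall a) (hYall b)
  set Y1 := Y ^ u with hY1
  have hY1n : Y1 ^ n = 1 := by
    rw [hY1, ← pow_mul, mul_comm, pow_mul, ← hYo, pow_orderOf_eq_one, one_pow]
  have hY1ne : Y1 ≠ 1 := by
    intro h
    rw [h, Perm.one_apply] at hu
    exact hab hu
  have hY1t : Y1.cycleType = {n} := cycleType_of_prime_pow hnp hY1n hY1ne (by rw [hc]; omega)
  have hY1c : Y1.IsCycle := by rw [← card_cycleType_eq_one, hY1t, Multiset.card_singleton]
  have hY1o : orderOf Y1 = n := by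
    rw [hY1c.orderOf, ← sum_cycleType, hY1t, Multiset.sum_singleton]
  have hY1a : Y1 a ≠ a := by rw [hu]; exact fun h => hab h.symm
  -- the numbering of the points along `Y1`
  let σ : Fin n → β := fun i => (Y1 ^ i.val) a
  have hσinj : Function.Injective σ := by
    intro i j hij
    apply Fin.ext
    exact cycle_pow_inj hY1c hY1a (by rw [hY1o]; exact i.2) (by rw [hY1o]; exact j.2) hij
  have hσbij : Function.Bijective σ := by
    rw [Fintype.bijective_iff_injective_and_card]
    exact ⟨hσinj, by rw [Fintype.card_fin, hc]⟩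
  let e : Fin n ≃ β := Equiv.ofBijective σ hσbij
  have he : ∀ i : Fin n, e i = (Y1 ^ i.val) a := fun _ => rfl
  let φ : Perm β ≃* Perm (Fin n) := e.symm.permCongrHom
  have hφ : ∀ (p : Perm β) (i : Fin n), φ p i = e.symm (p (e i)) := fun _ _ => rfl
  have hφY : φ Y1 = cyc n := by
    ext i
    congr 1
    rw [hφ, Equiv.symm_apply_eq, he, he]
    show _ = (Y1 ^ (i + 1).val) a
    have hmod : Y1 ^ ((i.val + 1) % n) = Y1 ^ (i.val + 1) := by
      have := pow_mod_orderOf Y1 (i.val + 1)
      rw [hY1o] at this
      exact this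
    rw [Fin.val_add, Fin.val_one', Nat.add_mod_mod, ← Perm.mul_apply, ← pow_succ', hmod]
  set X1 := φ X with hX1
  set P0 : Fin n := ⟨0, by omega⟩ with hP0
  set P1 : Fin n := ⟨1, by omega⟩ with hP1
  set P2 : Fin n := ⟨2, by omega⟩ with hP2
  set P3 : Fin n := ⟨3, by omega⟩ with hP3
  have heP0 : e P0 = a := by rw [he]; rfl
  have heP1 : e P1 = b := by rw [he]; exact hu
  have hX1P0 : X1 P0 = P0 := by rw [hX1, hφ, heP0, ha, ← heP0, Equiv.symm_apply_apply]
  have hX1P1 : X1 P1 = P1 := by rw [hX1, hφ, heP1, hb, ← heP1, Equiv.symm_apply_apply]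
  have hX1pow : X1 ^ (n - 2) = 1 := by
    rw [hX1, ← map_pow, ← hXo, pow_orderOf_eq_one, map_one]
  have hX1ne : X1 ≠ 1 := by
    rw [hX1]
    intro h
    exact hXc.ne_one ((map_eq_one_iff φ φ.injective).1 h)
  have hcardFin : Fintype.card (Fin n) < 2 * (n - 2) := by rw [Fintype.card_fin]; omega
  have hX1t : X1.cycleType = {n - 2} := cycleType_of_prime_pow hpp hX1pow hX1ne hcardFin
  have hX1c : X1.IsCycle := by rw [← card_cycleType_eq_one, hX1t, Multiset.card_singleton]
  have hX1s : X1.support.card = n - 2 := by rw [← sum_cycleType, hX1t, Multiset.sum_singleton]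
  have hne : ∀ {i j : ℕ} (hi : i < n) (hj : j < n), i ≠ j → (⟨i, hi⟩ : Fin n) ≠ ⟨j, hj⟩ :=
    fun _ _ hij h => hij (congrArg Fin.val h)
  have hX1P2 : X1 P2 ≠ P2 :=
    moved_of_card hX1s (by omega) hX1P0 hX1P1 (hne _ _ (by omega)) (hne _ _ (by omega))
      (hne _ _ (by omega))
  have hX1P3 : X1 P3 ≠ P3 :=
    moved_of_card hX1s (by omega) hX1P0 hX1P1 (hne _ _ (by omega)) (hne _ _ (by omega))
      (hne _ _ (by omega))
  obtain ⟨v, hv⟩ := hX1c.exists_pow_eq hX1P2 hX1P3
  set X2 := X1 ^ v with hX2
  have hX2ne : X2 ≠ 1 := by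
    intro h
    rw [h, Perm.one_apply] at hv
    exact (hne _ _ (by omega)) hv
  have hX2pow : X2 ^ (n - 2) = 1 := by
    rw [hX2, ← pow_mul, mul_comm, pow_mul, hX1pow, one_pow]
  have hX2t : X2.cycleType = {n - 2} := cycleType_of_prime_pow hpp hX2pow hX2ne hcardFin
  have hmain := henum X2 hX2t (pow_apply_eq_self_of_apply_eq_self hX1P0 v)
    (pow_apply_eq_self_of_apply_eq_self hX1P1 v) hv
  -- back to `β`
  have hXm : X ∈ Subgroup.closure ({X, Y} : Set (Perm β)) :=
    Subgroup.subset_closure (Set.mem_insert _ _)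
  have hYm : Y ∈ Subgroup.closure ({X, Y} : Set (Perm β)) :=
    Subgroup.subset_closure (Set.mem_insert_of_mem _ rfl)
  have hle : Subgroup.closure ({X2, cyc n} : Set (Perm (Fin n))) ≤
      (Subgroup.closure ({X, Y} : Set (Perm β))).map φ.toMonoidHom := by
    rw [Subgroup.closure_le]
    rintro z (rfl | rfl)
    · exact ⟨X ^ v, Subgroup.pow_mem _ hXm v, by rw [hX2, hX1]; exact map_pow φ X v⟩
    · exact ⟨Y1, Subgroup.pow_mem _ hYm u, hφY⟩
  intro τ hτ
  have hτ' : φ τ ∈ alternatingGroup (Fin n) := by
    rw [mem_alternatingGroup]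
    show sign (e.symm.permCongr τ) = 1
    rw [sign_permCongr]
    exact mem_alternatingGroup.1 hτ
  obtain ⟨ρ, hρ, hρτ⟩ := hle (hmain hτ')
  have : ρ = τ := φ.injective hρτ
  rw [← this]
  exact hρ

theorem all13 : ∀ s1 : ℕ, 4 ≤ s1 → s1 < 13 → ∀ s2 : ℕ, 4 ≤ s2 → s2 < 13 → s1 ≠ s2 →
    Sub13 s1 s2 := by
  intro s1 h1 h2
  interval_cases s1
  · exact row13_4
  · exact row13_5
  · exact row13_6
  · exact row13_7
  · exact row13_8
  · exact row13_9
  · exact row13_10
  · exact row13_11
  · exact row13_12

theorem henum13 : ∀ s : List ℕ, s.Perm (List.range' 4 (13 - 4)) →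
    ∃ H idx, leafChk 13 H EX13 idx (finalT 784 3 s) = true := by
  intro s hs
  have hl : (13 - 4 : ℕ) = 9 := rfl
  rw [hl] at hs
  set l := List.range' 4 9 with hl'
  have hlnd : l.Nodup := List.nodup_range'
  have hsnd : s.Nodup := hs.nodup_iff.2 hlnd
  have hmem : ∀ v, v ∈ l ↔ 4 ≤ v ∧ v < 13 := by
    intro v
    rw [hl', List.mem_range'_1]
  have hlen : s.length = 9 := by rw [hs.length_eq, hl', List.length_range']
  match s, hs, hsnd, hlen with
  | s1 :: s2 :: s', hs, hsnd, hlen =>
    have h1 : s1 ∈ l := hs.subset List.mem_cons_self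
    have h2 : s2 ∈ l := hs.subset (List.mem_cons_of_mem _ List.mem_cons_self)
    have hne : s1 ≠ s2 := by
      intro h
      rw [h] at hsnd
      exact (List.nodup_cons.1 hsnd).1 List.mem_cons_self
    have hp1 : (s2 :: s').Perm (l.erase s1) :=
      (List.perm_cons s1).1 (hs.trans (List.perm_cons_erase h1))
    have h2' : s2 ∈ l.erase s1 := (List.mem_erase_of_ne hne.symm).2 h2
    have hp2 : s'.Perm ((l.erase s1).erase s2) :=
      (List.perm_cons s2).1 (hp1.trans (List.perm_cons_erase h2'))
    obtain ⟨H, hd⟩ := all13 s1 ((hmem s1).1 h1).1 ((hmem s1).1 h1).2 s2 ((hmem s2).1 h2).1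
      ((hmem s2).1 h2).2 hne
    have hlen' : ((l.erase s1).erase s2).length = 6 + 1 := by
      rw [List.length_erase_of_mem h2', List.length_erase_of_mem h1, hl', List.length_range']
    obtain ⟨idx, hidx⟩ := dfs_spec 13 H EX13 6 s2 _ 0 _ hlen'
      (fun v hv => by
        have := (hmem v).1 (List.mem_of_mem_erase (List.mem_of_mem_erase hv))
        omega) hd s' hp2
    exact ⟨H, idx, by rw [finalT_cons, finalT_cons]; exact hidx⟩

theorem henum7 : ∀ s : List ℕ, s.Perm (List.range' 4 (7 - 4)) →
    ∃ H idx, leafChk 7 H EX7 idx (finalT 784 3 s) = true := by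
  intro s hs
  have hl : List.range' 4 (7 - 4) = [4, 5, 6] := rfl
  rw [hl] at hs
  obtain ⟨idx, hidx⟩ := dfs_spec 7 H7 EX7 2 3 784 0 [4, 5, 6] rfl
    (fun v hv => by
      simp only [List.mem_cons, List.not_mem_nil, or_false] at hv
      omega) dfs7 s hs
  exact ⟨H7, idx, hidx⟩

theorem hEX13 : ∀ t ∈ EX13, t.2.2.2.Prime := by
  intro t ht
  simp only [EX13, List.mem_cons, List.not_mem_nil, or_false] at ht
  rcases ht with rfl | rfl <;> norm_num

theorem hEX7 : ∀ t ∈ EX7, t.2.2.2.Prime := by
  intro t ht
  simp only [EX7, List.mem_cons, List.not_mem_nil, or_false] at ht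
  rcases ht with rfl | rfl | rfl | rfl | rfl | rfl <;> norm_num

theorem twin13 {β : Type*} [Fintype β] [DecidableEq β] (hc : Fintype.card β = 13)
    (X Y : Perm β) (hX : X.cycleType = {11}) (hY : Y.cycleType = {13}) :
    alternatingGroup β ≤ Subgroup.closure ({X, Y} : Set (Perm β)) :=
  twin_reduction (n := 13) (by norm_num) (by norm_num) (by norm_num)
    (fun X2 h h0 h1 h2 =>
      alt_le_of_enum (n := 13) (by norm_num) (by norm_num) (by norm_num) hEX13 henum13 X2 h h0 h1
        h2)
    hc X Y hX hY

theorem twin7 {β : Type*} [Fintype β] [DecidableEq β] (hc : Fintype.card β = 7)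
    (X Y : Perm β) (hX : X.cycleType = {5}) (hY : Y.cycleType = {7}) :
    alternatingGroup β ≤ Subgroup.closure ({X, Y} : Set (Perm β)) :=
  twin_reduction (n := 7) (by norm_num) (by norm_num) (by norm_num)
    (fun X2 h h0 h1 h2 =>
      alt_le_of_enum (n := 7) (by norm_num) (by norm_num) (by norm_num) hEX7 henum7 X2 h h0 h1 h2)
    hc X Y hX hY

end Cfsg.Agent.Lib.Helper27_TwinEnum
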