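import Mathlib
import Cfsg.Agent.Lib.Helper27_TwinEnumSound
import Cfsg.Agent.Lib.Helper27_Deg11Enum
import Cfsg.Agent.Lib.Helper27_Deg11Enum_2
import Cfsg.Agent.Lib.Helper27_Deg11Enum_3
import Cfsg.Agent.Lib.Helper27_Deg11Enum_4
import Cfsg.Agent.Lib.Helper27_Deg11Enum_5
import Cfsg.Agent.Lib.Helper27_Deg11Enum_6
import Cfsg.Agent.Lib.Helper27_Deg11Enum_7
import Cfsg.Agent.Lib.Helper27_Deg11Enum_8
import Cfsg.Agent.Lib.Helper27_Deg11Enum_9
import Cfsg.Agent.Lib.Helper27_Deg11Enum_10

set_option autoImplicit false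

/-!
# The cycles of length 11 on 11 points: soundness of the search (helper27, S0679)

A cycle `X = (0 1 ...)` of length 11 on `Fin 11` generates with the rotation `i ↦ i + 1` a group
that contains the alternating group, or its table is one of the 287 exceptions `EXT11`.
-/

namespace Cfsg.Agent.Lib.Helper27_Deg11Enum

open Equiv Equiv.Perm MulAction
open Cfsg.Agent.Lib.Helper27_TwinEnum

section

variable {n : ℕ} [NeZero n]

theorem leafH_sound (hn13 : n ≤ 13) {EX : List (ℕ × ℕ × ℕ × ℕ)}
    (hEX : ∀ t ∈ EX, t.2.2.2.Prime) {σ : Perm (Fin n)} {T : ℕ} (h : RepT σ T) (hh : ℕ)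
    (hl : leafH n EX T hh = true) :
    ∃ g ∈ Subgroup.closure ({σ, cyc n} : Set (Perm (Fin n))), g.IsCycle ∧
      ∃ l : ℕ, l.Prime ∧ g.support.card = l ∧ l + 3 ≤ n := by
  rw [leafH_eq] at hl
  cases hb : Nat.beq hh 4095
  · rw [hb, cond_false] at hl
    simp only [Bool.and_eq_true, Nat.ble_eq, Nat.blt_eq] at hl
    obtain ⟨⟨⟨⟨h10, hs⟩, ha⟩, hb'⟩, hchk⟩ := hl
    obtain ⟨h7, h1⟩ := chk7_sound h ha hb' hs hchk
    obtain ⟨hc, hcard⟩ := isCycle_pow_sixty hn13 _ _ h7 h1
    exact ⟨_, Subgroup.pow_mem _ (wperm_mem σ _ _) 60, hc, 7, by norm_num, hcard, by omega⟩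
  · rw [hb, cond_true, List.any_eq_true] at hl
    obtain ⟨t, ht, hchk⟩ := hl
    obtain ⟨h1, h2, h3⟩ := chkL_sound h hchk
    exact ⟨_, Subgroup.pow_mem _ (wperm_mem σ _ _) _,
      isCycle_of_pow_prime_eq_one (hEX t ht) h3 h2, _, hEX t ht, h2, h1⟩

theorem leafB_sound (hn13 : n ≤ 13) (hnp : n.Prime) {EX : List (ℕ × ℕ × ℕ × ℕ)} {EXT : List ℕ}
    (hEX : ∀ t ∈ EX, t.2.2.2.Prime) {σ : Perm (Fin n)} {T : ℕ} (h : RepT σ T) (H idx : ℕ)
    (hl : leafChkB n H EX EXT idx T = true) :
    alternatingGroup (Fin n) ≤ Subgroup.closure ({σ, cyc n} : Set (Perm (Fin n))) ∨ T ∈ EXT := by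
  rw [leafChkB_eq, forceN_eq, forceN_eq] at hl
  generalize Nat.land (Nat.shiftRight H (Nat.mul 12 idx)) 4095 = hh at hl
  rw [leafB_eq] at hl
  cases hb : Nat.beq hh 4094
  · rw [hb, cond_false] at hl
    left
    obtain ⟨g, hg, hgc, l, hl', hgs, hl3⟩ := leafH_sound hn13 hEX h hh hl
    exact alt_le_of_cycle hnp hg hgc hl' hgs hl3
  · rw [hb, cond_true, List.any_eq_true] at hl
    obtain ⟨t, ht, hte⟩ := hl
    right
    have := Nat.eq_of_beq_eq_true hte
    rw [this]
    exact ht

end

theorem finalTB_lt {n : ℕ} : ∀ (s : List ℕ) (T cur : ℕ), T < 2 ^ (4 * n) → cur < n →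
    (∀ c ∈ s, c < n) → n ≤ 16 → finalTB T cur s < 2 ^ (4 * n) := by
  intro s
  induction s with
  | nil =>
    intro T cur hT _ _ _
    rw [finalTB_nil]
    exact hT
  | cons v s ih =>
    intro T cur hT hc hs hn
    rw [finalTB_cons]
    have hv : v < n := hs v List.mem_cons_self
    exact ih _ _ (putv_lt hT hc (by omega)) hv (fun c hc' => hs c (List.mem_cons_of_mem _ hc')) hn

theorem ent_finalTB (F : ℕ → ℕ) : ∀ (k T cur : ℕ), (cur :: orbL F cur k).Nodup →
    (∀ c ∈ cur :: orbL F cur k, ent T c = 0) → (∀ c ∈ orbL F cur k, c < 16) →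
    F^[k + 1] cur = 0 → (∀ j, j ∉ cur :: orbL F cur k → ent T j = F j) →
    ∀ j, ent (finalTB T cur (orbL F cur k)) j = F j := by
  intro k
  induction k with
  | zero =>
    intro T cur _ hz _ hF hout j
    rw [orbL_zero, finalTB_nil]
    by_cases hj : j = cur
    · subst hj
      rw [hz j List.mem_cons_self]
      exact hF.symm
    · apply hout
      rw [orbL_zero, List.mem_singleton]
      exact hj
  | succ k ih =>
    intro T cur hnd hz hlt hF hout j
    rw [orbL_succ, finalTB_cons]
    rw [orbL_succ] at hnd hz hlt hout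
    have hv16 : F cur < 16 := hlt _ List.mem_cons_self
    have hcur : cur ∉ F cur :: orbL F (F cur) k := (List.nodup_cons.1 hnd).1
    apply ih (putv T cur (F cur)) (F cur) (List.nodup_cons.1 hnd).2
    · intro c hc
      have hne : c ≠ cur := fun h => hcur (h ▸ hc)
      rw [ent_putv _ _ _ _ hv16, if_neg hne]
      exact hz c (List.mem_cons_of_mem _ hc)
    · intro c hc
      exact hlt c (List.mem_cons_of_mem _ hc)
    · rw [← Function.iterate_succ_apply]
      exact hF
    · intro j hj
      rw [ent_putv _ _ _ _ hv16]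
      split_ifs with hjc
      · subst hjc
        rw [hz j List.mem_cons_self, Nat.zero_or]
      · apply hout
        rw [List.mem_cons, not_or]
        exact ⟨hjc, hj⟩

theorem ent_1_0 : ent 1 0 = 1 := by decide

/-- the enumeration: a cycle `(0 1 ...)` of length 11 generates with the rotation a group that
contains the alternating group, or it is one of the 287 exceptions -/
theorem alt_le_or_mem_of_enum
    (henum : ∀ s : List ℕ, s.Perm (List.range' 2 9) →
      ∃ H idx, leafChkB 11 H EX11 EXT11 idx (finalTB 1 1 s) = true)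
    (hEX : ∀ t ∈ EX11, t.2.2.2.Prime)
    (X : Perm (Fin 11)) (hX : X.cycleType = {11}) (h0 : X 0 = 1) :
    alternatingGroup (Fin 11) ≤ Subgroup.closure ({X, cyc 11} : Set (Perm (Fin 11))) ∨
      ∃ T ∈ EXT11, RepT X T := by
  set P0 : Fin 11 := 0 with hP0
  set P1 : Fin 11 := 1 with hP1
  have hXc : X.IsCycle := by
    rw [← card_cycleType_eq_one, hX, Multiset.card_singleton]
  have hXs : X.support.card = 11 := by
    rw [← sum_cycleType, hX, Multiset.sum_singleton]
  have hXo : orderOf X = 11 := by rw [hXc.orderOf, hXs]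
  have hmove0 : X P0 ≠ P0 := by
    rw [h0]
    decide
  -- periods
  have K : ∀ m : ℕ, (X ^ m) P0 = P0 ↔ 11 ∣ m := by
    intro m
    rw [← hXc.pow_eq_one_iff' hmove0, ← orderOf_dvd_iff_pow_eq_one, hXo]
  have K2 : ∀ m1 m2 : ℕ, m1 < 11 → m2 < 11 → (X ^ m1) P0 = (X ^ m2) P0 → m1 = m2 := by
    have aux : ∀ m1 m2 : ℕ, m1 ≤ m2 → m2 < 11 → (X ^ m1) P0 = (X ^ m2) P0 → m1 = m2 := by
      intro m1 m2 hle hlt heq
      have h3 : (X ^ m2) P0 = (X ^ m1) ((X ^ (m2 - m1)) P0) := by
        rw [← Perm.mul_apply, ← pow_add, Nat.add_sub_cancel' hle]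
      rw [h3] at heq
      have h4 := (X ^ m1).injective heq
      have h5 := (K (m2 - m1)).1 h4.symm
      have h6 : m2 - m1 = 0 := Nat.eq_zero_of_dvd_of_lt h5 (by omega)
      omega
    intro m1 m2 hm1 hm2 heq
    rcases le_total m1 m2 with hle | hle
    · exact aux m1 m2 hle hm2 heq
    · exact (aux m2 m1 hle hm1 heq.symm).symm
  set F := natFn X with hF
  have hFi : ∀ i : ℕ, F^[i] 1 = ((X ^ (i + 1)) P0).val := by
    intro i
    have := natFn_iterate X i P1
    rw [show P1.val = 1 from rfl] at this
    rw [hF, this, pow_succ, Perm.mul_apply, h0]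
  have hlist : 1 :: orbL F 1 9 = (List.range (9 + 1)).map fun i => F^[i] 1 :=
    cons_orbL_eq_map F 9 1
  have hslist : orbL F 1 9 = (List.range 9).map fun i => F^[i + 1] 1 := orbL_eq_map F 9 1
  -- no repetition
  have hnd : (1 :: orbL F 1 9).Nodup := by
    rw [hlist]
    apply List.Nodup.map_on _ List.nodup_range
    intro i hi j hj hij
    rw [List.mem_range] at hi hj
    rw [hFi, hFi] at hij
    have := K2 (i + 1) (j + 1) (by omega) (by omega) (Fin.ext hij)
    omega
  -- the values
  have hvals : ∀ c ∈ orbL F 1 9, 2 ≤ c ∧ c < 11 := by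
    intro c hc
    rw [hslist, List.mem_map] at hc
    obtain ⟨i, hi, rfl⟩ := hc
    rw [List.mem_range] at hi
    rw [hFi]
    set Q := (X ^ (i + 1 + 1)) P0 with hQ
    refine ⟨?_, Q.2⟩
    have hne0 : Q ≠ P0 := by
      intro h
      have := (K _).1 h
      have := Nat.le_of_dvd (by omega) this
      omega
    have hne1 : Q ≠ P1 := by
      intro h
      have h3 : (X ^ (i + 1 + 1)) P0 = (X ^ 1) P0 := by rw [pow_one, h0]; exact h
      have := K2 _ _ (by omega) (by omega) h3
      omega
    by_contra hlt
    rw [not_le] at hlt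
    have hv : Q.val = 0 ∨ Q.val = 1 := by omega
    rcases hv with hv | hv
    · exact hne0 (Fin.ext hv)
    · exact hne1 (Fin.ext hv)
  -- the arrangement
  have hperm : (orbL F 1 9).Perm (List.range' 2 9) := by
    apply List.Subperm.perm_of_length_le
    · apply List.subperm_of_subset (List.nodup_cons.1 hnd).2
      intro c hc
      rw [List.mem_range'_1]
      have := hvals c hc
      omega
    · rw [List.length_range', hslist, List.length_map, List.length_range]
  obtain ⟨H, idx, hleaf⟩ := henum _ hperm
  -- the final table describes `X`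
  have h1lt : (1 : ℕ) < 2 ^ (4 * 1) := by norm_num
  have hrep : RepT X (finalTB 1 1 (orbL F 1 9)) := by
    constructor
    · apply finalTB_lt _ _ _ _ (by omega) (fun c hc => (hvals c hc).2) (by omega)
      norm_num
    · intro x
      rw [← natFn_val]
      apply ent_finalTB F 9 1 1 hnd
      · intro c hc
        apply ent_of_lt h1lt
        rcases List.mem_cons.1 hc with rfl | hc'
        · exact le_refl _
        · have := (hvals c hc').1
          omega
      · intro c hc
        have := (hvals c hc).2
        omega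
      · rw [hFi]
        have h11 : X ^ (9 + 1 + 1) = 1 := by
          have := pow_orderOf_eq_one X
          rwa [hXo] at this
        rw [h11, Perm.one_apply]
        rfl
      · intro j hj
        by_cases hjn : j < 11
        · by_cases hj1 : j < 1
          · have hv : j = 0 := by omega
            subst hv
            rw [ent_1_0]
            have := natFn_val X P0
            rw [h0] at this
            exact this.symm
          · exfalso
            apply hj
            -- the point `j` is on the cycle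
            set Pj : Fin 11 := ⟨j, hjn⟩ with hPj
            have hmovej : X Pj ≠ Pj := by
              intro hfixj
              have : Pj ∉ X.support := by rw [mem_support]; exact not_not.2 hfixj
              apply this
              have hall : X.support = Finset.univ := by
                apply Finset.eq_univ_of_card
                rw [hXs, Fintype.card_fin]
              rw [hall]
              exact Finset.mem_univ _
            obtain ⟨i, hi⟩ := hXc.exists_pow_eq hmove0 hmovej
            have hi' : (X ^ (i % 11)) P0 = Pj := by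
              have := pow_mod_orderOf X i
              rw [hXo] at this
              rw [this]
              exact hi
            have hmlt : i % 11 < 11 := Nat.mod_lt _ (by omega)
            have hm0 : i % 11 ≠ 0 := by
              intro h
              rw [h, pow_zero, Perm.one_apply] at hi'
              have := congrArg Fin.val hi'
              simp [hP0, hPj] at this
              omega
            rw [hlist, List.mem_map]
            refine ⟨i % 11 - 1, ?_, ?_⟩
            · rw [List.mem_range]
              omega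
            · rw [hFi, show i % 11 - 1 + 1 = i % 11 by omega, hi']
        · rw [ent_of_lt h1lt (by omega)]
          unfold F natFn
          rw [dif_neg hjn]
  rcases leafB_sound (n := 11) (by norm_num) (by norm_num) hEX hrep H idx hleaf with h | h
  · exact Or.inl h
  · exact Or.inr ⟨_, h, hrep⟩

theorem all11 : ∀ s1 : ℕ, 2 ≤ s1 → s1 < 11 → ∀ s2 : ℕ, 2 ≤ s2 → s2 < 11 → s1 ≠ s2 →
    Sub11 s1 s2 := by
  intro s1 h1 h2
  interval_cases s1
  · exact row11_2
  · exact row11_3
  · exact row11_4
  · exact row11_5
  · exact row11_6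
  · exact row11_7
  · exact row11_8
  · exact row11_9
  · exact row11_10

theorem henum11 : ∀ s : List ℕ, s.Perm (List.range' 2 9) →
    ∃ H idx, leafChkB 11 H EX11 EXT11 idx (finalTB 1 1 s) = true := by
  intro s hs
  set l := List.range' 2 9 with hl'
  have hlnd : l.Nodup := List.nodup_range'
  have hsnd : s.Nodup := hs.nodup_iff.2 hlnd
  have hmem : ∀ v, v ∈ l ↔ 2 ≤ v ∧ v < 11 := by
    intro v
    rw [hl', List.mem_range'_1]
  have hlen : s.length = 9 := by rw [hs.length_eq, hl', List.length_range']
  match s, hs, hsnd, hlen with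
  | s1 :: s2 :: s', hs, hsnd, hlen =>
    have h1 : s1 ∈ l := hs.subset List.mem_cons_self
    have h2 : s2 ∈ l := hs.subset (List.mem_cons_of_mem _ List.mem_cons_self)
    have hne : s1 ≠ s2 := by
      intro h
      rw [h] at hsnd
      exact (List.nodup_cons.1 hsnd).1 List.mem_cons_self
    have hp1 : (s2 :: s').Perm (l.erase s1) :=
      (List.perm_cons s1).1 (hs.trans (List.perm_cons_erase h1))
    have h2' : s2 ∈ l.erase s1 := (List.mem_erase_of_ne hne.symm).2 h2
    have hp2 : s'.Perm ((l.erase s1).erase s2) :=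
      (List.perm_cons s2).1 (hp1.trans (List.perm_cons_erase h2'))
    obtain ⟨H, hd⟩ := all11 s1 ((hmem s1).1 h1).1 ((hmem s1).1 h1).2 s2 ((hmem s2).1 h2).1
      ((hmem s2).1 h2).2 hne
    have hlen' : ((l.erase s1).erase s2).length = 6 + 1 := by
      rw [List.length_erase_of_mem h2', List.length_erase_of_mem h1, hl', List.length_range']
    obtain ⟨idx, hidx⟩ := dfsB_spec 11 H EX11 EXT11 6 s2 _ 0 _ hlen'
      (fun v hv => by
        have := (hmem v).1 (List.mem_of_mem_erase (List.mem_of_mem_erase hv))
        omega) hd s' hp2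
    exact ⟨H, idx, by rw [finalTB_cons, finalTB_cons]; exact hidx⟩

theorem hEX11 : ∀ t ∈ EX11, t.2.2.2.Prime := by
  intro t ht
  simp only [EX11, List.mem_cons, List.not_mem_nil, or_false] at ht
  rcases ht with rfl | rfl | rfl | rfl | rfl | rfl | rfl | rfl | rfl | rfl | rfl | rfl | rfl <;>
    norm_num

/-- a cycle `(0 1 ...)` of length 11 generates with the rotation a group that contains the
alternating group, or it is one of the 287 exceptions -/
theorem enum11 (X : Perm (Fin 11)) (hX : X.cycleType = {11}) (h0 : X 0 = 1) :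
    alternatingGroup (Fin 11) ≤ Subgroup.closure ({X, cyc 11} : Set (Perm (Fin 11))) ∨
      ∃ T ∈ EXT11, RepT X T :=
  alt_le_or_mem_of_enum henum11 hEX11 X hX h0

end Cfsg.Agent.Lib.Helper27_Deg11Enum
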