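import Mathlib
import Cfsg.Agent.Lib.Helper27_Deg11Sound
import Cfsg.Agent.Lib.Helper27_Deg11Data

/-!
# The subgroups of the symmetric group of degree 11 containing the rotation (helper27, S0679)

A subgroup of the symmetric group on `Fin 11` that contains the rotation `i ↦ i + 1`, does not
normalise it and does not contain the alternating group is one of four groups `Grp t`, `t < 4`.
-/

set_option autoImplicit false

namespace Cfsg.Agent.Lib.Helper27_Deg11

open Equiv Equiv.Perm MulAction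
open Cfsg.Agent.Lib.Helper27_TwinEnum Cfsg.Agent.Lib.Helper27_Deg11Enum

/-! ### Permutations from tables, words -/

/-- the function of a table -/
def tblFun (T : ℕ) (i : Fin 11) : Fin 11 := ⟨ent T i.val % 11, Nat.mod_lt _ (by norm_num)⟩

/-- the permutation of a table, with the table of the inverse -/
def tblPerm (T Ti : ℕ)
    (h : ∀ i : Fin 11, tblFun Ti (tblFun T i) = i ∧ tblFun T (tblFun Ti i) = i) : Perm (Fin 11) :=
  ⟨tblFun T, tblFun Ti, fun i => (h i).1, fun i => (h i).2⟩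

theorem repT_tblPerm (T Ti : ℕ)
    (h : ∀ i : Fin 11, tblFun Ti (tblFun T i) = i ∧ tblFun T (tblFun Ti i) = i)
    (hlt : T < 2 ^ (4 * 11)) (hv : ∀ i : Fin 11, ent T i.val < 11) : RepT (tblPerm T Ti h) T :=
  ⟨hlt, fun i => (Nat.mod_eq_of_lt (hv i)).symm⟩

theorem eq_of_repF {σ τ : Perm (Fin 11)} {f g : ℕ → ℕ} (h1 : RepF σ f) (h2 : RepF τ g)
    (h : ∀ i < 11, f i = g i) : σ = τ := by
  ext i
  rw [← h1 i, ← h2 i]
  exact h i.val i.2

theorem repF_of_repT {σ : Perm (Fin 11)} {T : ℕ} (h : RepT σ T) : RepF σ (ent T) := h.2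

theorem repF_one : RepF (1 : Perm (Fin 11)) (fun j => j) := fun _ => rfl

theorem repF_cyc_pow (l : ℕ) : RepF (cyc 11 ^ l) (fun j => Nat.mod (Nat.add j l) 11) := by
  intro i
  exact (cyc_pow_apply_val l i).symm

theorem repT_cyc : RepT (cyc 11) TAU := by
  constructor
  · decide
  · decide

/-- a letter: 0 is `x`, 11 is `y`, and the others are powers of the rotation -/
def letter (x y : Perm (Fin 11)) (l : ℕ) : Perm (Fin 11) :=
  if l = 0 then x else if l = 11 then y else cyc 11 ^ l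

/-- the product of a word -/
def wordProd (x y : Perm (Fin 11)) : List ℕ → Perm (Fin 11)
  | [] => 1
  | l :: w => letter x y l * wordProd x y w

theorem wordProd_nil (x y : Perm (Fin 11)) : wordProd x y [] = 1 := by
  unfold wordProd; rfl

theorem wordProd_cons (x y : Perm (Fin 11)) (l : ℕ) (w : List ℕ) :
    wordProd x y (l :: w) = letter x y l * wordProd x y w := by
  conv_lhs => unfold wordProd

theorem wordProd_mem (H : Subgroup (Perm (Fin 11))) {x y : Perm (Fin 11)} (hx : x ∈ H)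
    (hy : y ∈ H) (hc : cyc 11 ∈ H) (w : List ℕ) : wordProd x y w ∈ H := by
  induction w with
  | nil => rw [wordProd_nil]; exact H.one_mem
  | cons l w ih =>
    rw [wordProd_cons]
    refine H.mul_mem ?_ ih
    unfold letter
    split_ifs
    · exact hx
    · exact hy
    · exact H.pow_mem hc l

theorem repF_wordProd {x y : Perm (Fin 11)} {f g : ℕ → ℕ} (hx : RepF x f) (hy : RepF y g)
    (w : List ℕ) : RepF (wordProd x y w) (evalW f g w) := by
  induction w with
  | nil =>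
    intro i
    rw [wordProd_nil, evalW_nil]
    rfl
  | cons l w ih =>
    intro i
    rw [wordProd_cons, evalW_cons, Perm.mul_apply, ih i]
    unfold letter
    by_cases h0 : l = 0
    · subst h0
      rw [if_pos rfl]
      exact hx _
    · have hb0 : Nat.beq l 0 = false := by
        cases l with
        | zero => exact absurd rfl h0
        | succ l => rfl
      rw [if_neg h0, hb0, cond_false]
      by_cases h11 : l = 11
      · subst h11
        rw [if_pos rfl]
        exact hy _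
      · have hb11 : Nat.beq l 11 = false := by
          cases hb : Nat.beq l 11
          · rfl
          · exact absurd (Nat.eq_of_beq_eq_true hb) h11
        rw [if_neg h11, hb11, cond_false]
        exact repF_cyc_pow l _

theorem repF_inv {σ : Perm (Fin 11)} {f g : ℕ → ℕ} (hσ : RepF σ f)
    (h : ∀ i < 11, g i < 11 ∧ f (g i) = i) : RepF σ⁻¹ g := by
  intro i
  obtain ⟨h1, h2⟩ := h i.val i.2
  have h3 := hσ ⟨g i.val, h1⟩
  rw [h2] at h3
  have h4 : σ ⟨g i.val, h1⟩ = i := Fin.ext h3.symm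
  have h5 : σ⁻¹ i = ⟨g i.val, h1⟩ := by
    rw [Perm.inv_eq_iff_eq]
    exact h4.symm
  rw [h5]

theorem seven_sound {W : Perm (Fin 11)} {w : ℕ → ℕ} (hW : RepF W w) {s : ℕ} (hs : s < 11)
    (hc : seven w s = true) : (W ^ 7) ⟨s, hs⟩ = ⟨s, hs⟩ ∧ W ⟨s, hs⟩ ≠ ⟨s, hs⟩ := by
  unfold seven at hc
  rw [Bool.and_eq_true, Bool.not_eq_true'] at hc
  obtain ⟨h7, h1⟩ := hc
  have h7 := Nat.eq_of_beq_eq_true h7
  have h1 := Nat.ne_of_beq_eq_false h1
  have h7' := hW.iterate 7 ⟨s, hs⟩
  have h1' := hW ⟨s, hs⟩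
  constructor
  · apply Fin.ext
    rw [← h7']
    exact h7
  · intro hcon
    have := congrArg Fin.val hcon
    rw [← h1'] at this
    exact h1 this

/-! ### Subgroups containing the rotation -/

theorem alt_le_of_cycle_mem (H : Subgroup (Perm (Fin 11))) (hc : cyc 11 ∈ H) {g : Perm (Fin 11)}
    (hg : g ∈ H) (hgc : g.IsCycle) {l : ℕ} (hl : l.Prime) (hgs : g.support.card = l)
    (hl3 : l + 3 ≤ 11) : alternatingGroup (Fin 11) ≤ H := by
  have htr : IsPretransitive H (Fin 11) := by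
    refine ⟨fun i j => ?_⟩
    refine ⟨⟨cyc 11 ^ ((j - i).val), Subgroup.pow_mem _ hc _⟩, ?_⟩
    show (cyc 11 ^ ((j - i).val)) i = j
    apply Fin.ext
    rw [cyc_pow_apply_val, ← Fin.val_add, add_sub_cancel]
  have hprim : IsPreprimitive H (Fin 11) := by
    apply IsPreprimitive.of_prime_card
    rw [Nat.card_eq_fintype_card, Fintype.card_fin]
    norm_num
  exact Cfsg.Agent.S0713.result _ hprim hl (by rw [Fintype.card_fin]; norm_num)
    (by rw [Fintype.card_fin]; exact hl3) hgc hgs hg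

theorem alt_le_of_seven (H : Subgroup (Perm (Fin 11))) (hc : cyc 11 ∈ H) {W : Perm (Fin 11)}
    (hW : W ∈ H) (s : Fin 11) (h7 : (W ^ 7) s = s) (h1 : W s ≠ s) :
    alternatingGroup (Fin 11) ≤ H := by
  obtain ⟨hcyc, hcard⟩ := isCycle_pow_sixty (n := 11) (by norm_num) W s h7 h1
  exact alt_le_of_cycle_mem H hc (H.pow_mem hW 60) hcyc (by norm_num) hcard (by norm_num)


/-! ### The generators -/

theorem TB_eq (i : ℕ) : TB i = bif Nat.beq i 0 then TB 0 else TB 1 := by
  unfold TB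
  cases Nat.beq i 0 <;> rfl

theorem TC_eq (i : ℕ) : TC i = bif Nat.beq i 0 then TC 0 else TC 1 := by
  unfold TC
  cases Nat.beq i 0 <;> rfl

theorem tb0_ok : ∀ i : Fin 11, tblFun (TBi 0) (tblFun (TB 0) i) = i ∧
    tblFun (TB 0) (tblFun (TBi 0) i) = i := by decide

theorem tb1_ok : ∀ i : Fin 11, tblFun (TBi 1) (tblFun (TB 1) i) = i ∧
    tblFun (TB 1) (tblFun (TBi 1) i) = i := by decide

theorem tc0_ok : ∀ i : Fin 11, tblFun (TCi 0) (tblFun (TC 0) i) = i ∧
    tblFun (TC 0) (tblFun (TCi 0) i) = i := by decide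

theorem tc1_ok : ∀ i : Fin 11, tblFun (TCi 1) (tblFun (TC 1) i) = i ∧
    tblFun (TC 1) (tblFun (TCi 1) i) = i := by decide

/-- the standard generators of the groups of order 660 -/
def Bf (i : ℕ) : Perm (Fin 11) :=
  bif Nat.beq i 0 then tblPerm (TB 0) (TBi 0) tb0_ok else tblPerm (TB 1) (TBi 1) tb1_ok

/-- the standard generators of the groups of order 7920 -/
def Cf (i : ℕ) : Perm (Fin 11) :=
  bif Nat.beq i 0 then tblPerm (TC 0) (TCi 0) tc0_ok else tblPerm (TC 1) (TCi 1) tc1_ok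

theorem repT_Bf (i : ℕ) : RepT (Bf i) (TB i) := by
  rw [TB_eq]
  unfold Bf
  cases Nat.beq i 0
  · exact repT_tblPerm _ _ tb1_ok (by decide) (by decide)
  · exact repT_tblPerm _ _ tb0_ok (by decide) (by decide)

theorem repT_Cf (i : ℕ) : RepT (Cf i) (TC i) := by
  rw [TC_eq]
  unfold Cf
  cases Nat.beq i 0
  · exact repT_tblPerm _ _ tc1_ok (by decide) (by decide)
  · exact repT_tblPerm _ _ tc0_ok (by decide) (by decide)

/-- the generator with the tag `t` -/
def Gen (t : ℕ) : Perm (Fin 11) :=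
  bif Nat.beq t 0 then Bf 0 else bif Nat.beq t 1 then Cf 0 else bif Nat.beq t 2 then Bf 1 else Cf 1

theorem repT_Gen (t : ℕ) : RepT (Gen t) (target t) := by
  unfold Gen target
  cases Nat.beq t 0
  · cases Nat.beq t 1
    · cases Nat.beq t 2
      · exact repT_Cf 1
      · exact repT_Bf 1
    · exact repT_Cf 0
  · exact repT_Bf 0

theorem Gen_two_mul (i : ℕ) (hi : i < 2) : Gen (2 * i) = Bf i := by
  interval_cases i <;> rfl

theorem Gen_two_mul_add_one (i : ℕ) (hi : i < 2) : Gen (2 * i + 1) = Cf i := by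
  interval_cases i <;> rfl

/-- the group with the tag `t` -/
def Grp (t : ℕ) : Subgroup (Perm (Fin 11)) := Subgroup.closure {Gen t, cyc 11}

theorem gen_mem_Grp (t : ℕ) : Gen t ∈ Grp t := Subgroup.subset_closure (Set.mem_insert _ _)

theorem cyc_mem_Grp (t : ℕ) : cyc 11 ∈ Grp t :=
  Subgroup.subset_closure (Set.mem_insert_of_mem _ rfl)

theorem Grp_le {t : ℕ} {H : Subgroup (Perm (Fin 11))} (hg : Gen t ∈ H) (hc : cyc 11 ∈ H) :
    Grp t ≤ H := by
  unfold Grp
  rw [Subgroup.closure_le]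
  rintro x (rfl | rfl)
  · exact hg
  · exact hc

/-- the facts of an entry -/
theorem entry_facts {X : Perm (Fin 11)} {e : ℕ × ℕ × List ℕ × List ℕ} (he : e ∈ DATA)
    (hrep : RepT X e.1) (hX : X ≠ cyc 11) :
    e.2.1 < 4 ∧ wordProd X 1 e.2.2.1 = Gen e.2.1 ∧ wordProd (Gen e.2.1) 1 e.2.2.2 = X := by
  have hok := data_ok e he
  unfold chkEntry at hok
  cases h4 : Nat.beq e.2.1 4
  · rw [h4, cond_false, Bool.and_eq_true, Bool.and_eq_true, Nat.blt_eq, eqOn11_iff,
      eqOn11_iff] at hok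
    obtain ⟨⟨hlt, h1⟩, h2⟩ := hok
    refine ⟨hlt, ?_, ?_⟩
    · exact eq_of_repF (repF_wordProd (repF_of_repT hrep) repF_one _)
        (repF_of_repT (repT_Gen _)) h1
    · exact eq_of_repF (repF_wordProd (repF_of_repT (repT_Gen _)) repF_one _)
        (repF_of_repT hrep) h2
  · exfalso
    rw [h4, cond_true] at hok
    have hT : e.1 = TAU := Nat.eq_of_beq_eq_true hok
    apply hX
    rw [hT] at hrep
    exact eq_of_repF (repF_of_repT hrep) (repF_of_repT repT_cyc) (fun _ _ => rfl)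

/-- the classification of the cycles `(0 1 ...)` of a group that does not contain the alternating
group -/
theorem tag_of_mem (H : Subgroup (Perm (Fin 11))) (hc : cyc 11 ∈ H)
    (hA : ¬ alternatingGroup (Fin 11) ≤ H) {X : Perm (Fin 11)} (hXH : X ∈ H)
    (hX : X.cycleType = {11}) (h0 : X 0 = 1) (hXc : X ≠ cyc 11) :
    ∃ t < 4, Gen t ∈ H ∧ X ∈ Grp t := by
  rcases enum11 X hX h0 with h | ⟨T, hT, hrep⟩
  · exfalso
    apply hA
    refine h.trans ?_
    rw [Subgroup.closure_le]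
    rintro x (rfl | rfl)
    · exact hXH
    · exact hc
  · rw [← data_fst, List.mem_map] at hT
    obtain ⟨e, he, rfl⟩ := hT
    obtain ⟨hlt, h1, h2⟩ := entry_facts he hrep hXc
    refine ⟨e.2.1, hlt, ?_, ?_⟩
    · rw [← h1]
      exact wordProd_mem H hXH H.one_mem hc _
    · rw [← h2]
      exact wordProd_mem _ (gen_mem_Grp _) (Subgroup.one_mem _) (cyc_mem_Grp _) _

/-- the group of order 660 lies in the group of order 7920 -/
theorem Bf_mem_Grp (i : ℕ) (hi : i < 2) : Bf i ∈ Grp (2 * i + 1) := by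
  have h := (eqOn11_iff _ _).1 (wBM_ok i hi)
  have : wordProd (Cf i) 1 (wBM i) = Bf i :=
    eq_of_repF (repF_wordProd (repF_of_repT (repT_Cf i)) repF_one _) (repF_of_repT (repT_Bf i)) h
  rw [← this]
  refine wordProd_mem _ ?_ (Subgroup.one_mem _) (cyc_mem_Grp _) _
  rw [← Gen_two_mul_add_one i hi]
  exact gen_mem_Grp _

theorem Grp_even_le_odd (i : ℕ) (hi : i < 2) : Grp (2 * i) ≤ Grp (2 * i + 1) := by
  apply Grp_le _ (cyc_mem_Grp _)
  rw [Gen_two_mul i hi]
  exact Bf_mem_Grp i hi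

/-- the two groups of order 660 together generate the alternating group -/
theorem alt_le_of_both (H : Subgroup (Perm (Fin 11))) (hc : cyc 11 ∈ H) (h0 : Bf 0 ∈ H)
    (h1 : Bf 1 ∈ H) : alternatingGroup (Fin 11) ≤ H := by
  obtain ⟨h7, hne⟩ := seven_sound
    (repF_wordProd (repF_of_repT (repT_Bf 0)) (repF_of_repT (repT_Bf 1)) _) (by norm_num) w12_ok
  exact alt_le_of_seven H hc (wordProd_mem H h0 h1 hc _) _ h7 hne

/-- the generator of the group of order 660 of the family of a tag -/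
theorem Bf_mem_of_gen (H : Subgroup (Perm (Fin 11))) (hc : cyc 11 ∈ H) {t : ℕ} (ht : t < 4)
    (hg : Gen t ∈ H) : Bf (t / 2) ∈ H := by
  have hle := Grp_le hg hc
  interval_cases t
  · exact hg
  · exact hle (Bf_mem_Grp 0 (by norm_num))
  · exact hg
  · exact hle (Bf_mem_Grp 1 (by norm_num))


/-! ### The multiplications -/

theorem muw_cover : ∀ i < 2, ∀ u ∈ [1, 3, 4, 5, 9], ∃ e ∈ MUW, e.1 = i ∧ e.2.1 = u := by
  decide

theorem conjw_cover : ∀ i < 2, ∀ u ∈ [2, 6, 7, 8, 10],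
    ∃ e ∈ CONJW, e.1 = i ∧ e.2.1 = u ∧ e.2.2.1 < 11 ∧ (u * e.2.2.1) % 11 = 1 ∧ e.2.2.2.2 < 11 := by
  decide

theorem muF_inv : ∀ u < 11, ∀ ui < 11, (u * ui) % 11 = 1 →
    ∀ j < 11, muF ui j < 11 ∧ muF u (muF ui j) = j := by
  decide

/-- the multiplication by a square lies in the group of order 660 -/
theorem exists_mu_mem (i : ℕ) (hi : i < 2) (u : ℕ) (hu : u ∈ [1, 3, 4, 5, 9]) :
    ∃ m ∈ Grp (2 * i), RepF m (muF u) := by
  obtain ⟨e, he, rfl, rfl⟩ := muw_cover i hi u hu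
  have h := (eqOn11_iff _ _).1 (muw_ok e he)
  refine ⟨wordProd (Bf e.1) 1 e.2.2, ?_, ?_⟩
  · refine wordProd_mem _ ?_ (Subgroup.one_mem _) (cyc_mem_Grp _) _
    rw [← Gen_two_mul e.1 hi]
    exact gen_mem_Grp _
  · have h1 := repF_wordProd (repF_of_repT (repT_Bf e.1)) repF_one e.2.2
    intro x
    rw [← h1 x]
    exact (h x.val x.2).symm

/-- the multiplication by a non-square does not lie in a group with a generator of the group of
order 660 that does not contain the alternating group -/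
theorem alt_le_of_mu (H : Subgroup (Perm (Fin 11))) (hc : cyc 11 ∈ H) (i : ℕ) (hi : i < 2)
    (hB : Bf i ∈ H) (u : ℕ) (hu : u ∈ [2, 6, 7, 8, 10]) {n : Perm (Fin 11)} (hn : n ∈ H)
    (hrep : RepF n (muF u)) : alternatingGroup (Fin 11) ≤ H := by
  obtain ⟨e, he, rfl, rfl, hlt, hinv, hs⟩ := conjw_cover i hi u hu
  have hu11 : e.2.1 < 11 := by
    simp only [List.mem_cons, List.not_mem_nil, or_false] at hu
    omega
  have hninv : RepF n⁻¹ (muF e.2.2.1) := repF_inv hrep (muF_inv _ hu11 _ hlt hinv)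
  have hY : RepF (n * Bf e.1 * n⁻¹) (fun j => muF e.2.1 (ent (TB e.1) (muF e.2.2.1 j))) :=
    (hrep.mul (repF_of_repT (repT_Bf e.1))).mul hninv
  have hYH : n * Bf e.1 * n⁻¹ ∈ H := H.mul_mem (H.mul_mem hn hB) (H.inv_mem hn)
  obtain ⟨h7, hne⟩ := seven_sound (repF_wordProd (repF_of_repT (repT_Bf e.1)) hY _) hs
    (conjw_ok e he)
  exact alt_le_of_seven H hc (wordProd_mem H hB hYH hc _) _ h7 hne

/-! ### Conjugacy of the subgroups of order 11 -/

theorem cyc_pow_eleven : cyc 11 ^ 11 = 1 := by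
  ext i
  rw [cyc_pow_apply_val, Perm.one_apply, Nat.add_mod_right, Nat.mod_eq_of_lt i.2]

theorem cyc_ne_one : cyc 11 ≠ 1 := by
  intro h
  have := congrArg (fun σ : Perm (Fin 11) => (σ 0).val) h
  simp [cyc] at this

theorem orderOf_cyc : orderOf (cyc 11) = 11 :=
  have : Fact (Nat.Prime 11) := ⟨by norm_num⟩
  orderOf_eq_prime cyc_pow_eleven cyc_ne_one

theorem exists_conj_mem_zpowers (K : Subgroup (Perm (Fin 11))) (hc : cyc 11 ∈ K)
    {X : Perm (Fin 11)} (hX : X ∈ K) (h11 : X ^ 11 = 1) (hne : X ≠ 1) :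
    ∃ k ∈ K, k⁻¹ * X * k ∈ Subgroup.zpowers (cyc 11) := by
  have hp : Fact (Nat.Prime 11) := ⟨by norm_num⟩
  set a : K := ⟨cyc 11, hc⟩ with ha
  set x : K := ⟨X, hX⟩ with hx
  have hoa : orderOf a = 11 := by
    rw [← Subgroup.orderOf_coe]
    exact orderOf_cyc
  have hox : orderOf x = 11 := by
    rw [← Subgroup.orderOf_coe]
    exact orderOf_eq_prime h11 hne
  -- the order of `K`
  have hdvd : Nat.card K ∣ 39916800 := by
    have h1 := Subgroup.card_subgroup_dvd_card K
    rw [Nat.card_perm, Nat.card_fin] at h1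
    have h2 : Nat.factorial 11 = 39916800 := by decide
    rwa [h2] at h1
  have h11dvd : 11 ∣ Nat.card K := by
    have := orderOf_dvd_natCard a
    rwa [hoa] at this
  obtain ⟨s, hs⟩ := h11dvd
  have hs11 : ¬ 11 ∣ s := by
    intro h
    obtain ⟨t, rfl⟩ := h
    rw [hs] at hdvd
    have : 121 ∣ 39916800 := Dvd.dvd.trans ⟨t, by ring⟩ hdvd
    norm_num at this
  have hs0 : s ≠ 0 := by
    rintro rfl
    simp at hs11
  have hfac : (Nat.card K).factorization 11 = 1 := by
    rw [hs, Nat.factorization_mul (by norm_num) hs0]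
    have h55 : (Nat.factorization 11) 11 = 1 := Nat.Prime.factorization_self hp.out
    simp [h55, Nat.factorization_eq_zero_of_not_dvd hs11]
  let P : Sylow 11 K := Sylow.ofCard (Subgroup.zpowers a) (by
    rw [Nat.card_zpowers, hoa, hfac, pow_one])
  let Q : Sylow 11 K := Sylow.ofCard (Subgroup.zpowers x) (by
    rw [Nat.card_zpowers, hox, hfac, pow_one])
  obtain ⟨g, hg⟩ := MulAction.exists_smul_eq K P Q
  have hxQ : x ∈ (Q : Subgroup K) := Subgroup.mem_zpowers x
  rw [← hg, Sylow.coe_subgroup_smul, Subgroup.mem_pointwise_smul_iff_inv_smul_mem] at hxQ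
  have hxP : g⁻¹ * x * g ∈ Subgroup.zpowers a := by
    have : (MulAut.conj g)⁻¹ • x = g⁻¹ * x * g := by
      rw [← map_inv, MulAut.smul_def, MulAut.conj_apply, inv_inv]
    rw [← this]
    exact hxQ
  obtain ⟨z, hz⟩ := Subgroup.mem_zpowers_iff.1 hxP
  refine ⟨g, g.2, ?_⟩
  rw [Subgroup.mem_zpowers_iff]
  refine ⟨z, ?_⟩
  have := congrArg Subtype.val hz
  simpa using this


/-! ### The normaliser of the rotation -/

theorem affine_of_normalizes {n : Perm (Fin 11)}
    (hn : n * cyc 11 * n⁻¹ ∈ Subgroup.zpowers (cyc 11)) :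
    ∃ u, 0 < u ∧ u < 11 ∧ RepF n (fun j => ((n 0).val + u * j) % 11) := by
  obtain ⟨z, hz⟩ := Subgroup.mem_zpowers_iff.1 hn
  have h11 : ((11 : ℕ) : ℤ) ≠ 0 := by norm_num
  set u := (z % (11 : ℕ)).toNat with hu
  have hzu : cyc 11 ^ u = n * cyc 11 * n⁻¹ := by
    rw [← hz, ← zpow_natCast, hu, Int.toNat_of_nonneg (Int.emod_nonneg _ h11),
      ← zpow_mod_orderOf (cyc 11) z, orderOf_cyc]
  have hlt : u < 11 := by
    have := Int.emod_lt_of_pos z (by norm_num : (0 : ℤ) < (11 : ℕ))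
    have h0 := Int.emod_nonneg z h11
    omega
  have hu0 : u ≠ 0 := by
    intro h
    rw [h, pow_zero] at hzu
    apply cyc_ne_one
    calc cyc 11 = n⁻¹ * (n * cyc 11 * n⁻¹) * n := by group
      _ = 1 := by rw [← hzu]; group
  have hcomm : n * cyc 11 = cyc 11 ^ u * n := by
    rw [hzu]; group
  have hpow : ∀ k : ℕ, n * cyc 11 ^ k = cyc 11 ^ (u * k) * n := by
    intro k
    induction k with
    | zero => simp
    | succ k ih =>
      rw [pow_succ, ← mul_assoc, ih, mul_assoc, hcomm, ← mul_assoc, ← pow_add, Nat.mul_succ]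
  refine ⟨u, Nat.pos_of_ne_zero hu0, hlt, ?_⟩
  intro x
  have hx : x = (cyc 11 ^ x.val) 0 := by
    apply Fin.ext
    rw [cyc_pow_apply_val]
    simp [Nat.mod_eq_of_lt x.2]
  have h1 : n x = (cyc 11 ^ (u * x.val)) (n 0) := by
    conv_lhs => rw [hx]
    rw [← Perm.mul_apply, hpow, Perm.mul_apply]
  rw [h1, cyc_pow_apply_val]

/-- an element of the normaliser of the rotation lies in `K` -/
theorem mem_of_normalizes (H K : Subgroup (Perm (Fin 11))) (hKH : K ≤ H) (hcK : cyc 11 ∈ K)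
    (hA : ¬ alternatingGroup (Fin 11) ≤ H) (i : ℕ) (hi : i < 2) (hLK : Grp (2 * i) ≤ K)
    {n : Perm (Fin 11)} (hnH : n ∈ H)
    (hn : n * cyc 11 * n⁻¹ ∈ Subgroup.zpowers (cyc 11)) : n ∈ K := by
  have hcH : cyc 11 ∈ H := hKH hcK
  have hBH : Bf i ∈ H := by
    apply hKH
    apply hLK
    rw [← Gen_two_mul i hi]
    exact gen_mem_Grp _
  obtain ⟨u, hu0, hu11, hrep⟩ := affine_of_normalizes hn
  set v := (n 0).val with hv
  have hvlt : v < 11 := (n 0).2
  set n' := cyc 11 ^ (11 - v) * n with hn'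
  have hn'H : n' ∈ H := H.mul_mem (H.pow_mem hcH _) hnH
  have hrep' : RepF n' (muF u) := by
    intro x
    have h1 := ((repF_cyc_pow (11 - v)).mul hrep) x
    rw [← h1]
    show muF u x.val = Nat.mod (Nat.add ((v + u * x.val) % 11) (11 - v)) 11
    unfold muF
    show (u * x.val) % 11 = (((v + u * x.val) % 11) + (11 - v)) % 11
    generalize u * x.val = q
    omega
  have hnK : n' ∈ K → n ∈ K := by
    intro h
    have : n = (cyc 11 ^ (11 - v))⁻¹ * n' := by rw [hn']; group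
    rw [this]
    exact K.mul_mem (K.inv_mem (K.pow_mem hcK _)) h
  have hsq : u ∈ [1, 3, 4, 5, 9] → n ∈ K := by
    intro hu
    obtain ⟨m, hm, hmrep⟩ := exists_mu_mem i hi u hu
    apply hnK
    have : n' = m := eq_of_repF hrep' hmrep (fun _ _ => rfl)
    rw [this]
    exact hLK hm
  have hnsq : u ∈ [2, 6, 7, 8, 10] → n ∈ K := by
    intro hu
    exact absurd (alt_le_of_mu H hcH i hi hBH u hu hn'H hrep') hA
  interval_cases u
  · exact hsq (by decide)
  · exact hnsq (by decide)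
  · exact hsq (by decide)
  · exact hsq (by decide)
  · exact hsq (by decide)
  · exact hnsq (by decide)
  · exact hnsq (by decide)
  · exact hnsq (by decide)
  · exact hsq (by decide)
  · exact hnsq (by decide)

theorem cycleType_cyc : (cyc 11).cycleType = {11} :=
  cycleType_of_prime_pow (by norm_num) cyc_pow_eleven cyc_ne_one (by rw [Fintype.card_fin]; norm_num)

/-- a conjugate of the rotation outside the group of the rotation has a power that is a cycle
`(0 1 ...)` -/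
theorem exists_norm_cycle (H : Subgroup (Perm (Fin 11))) (hc : cyc 11 ∈ H) {g : Perm (Fin 11)}
    (hg : g ∈ H) (hYz : g * cyc 11 * g⁻¹ ∉ Subgroup.zpowers (cyc 11)) :
    ∃ X ∈ H, X.cycleType = {11} ∧ X 0 = 1 ∧ X ≠ cyc 11 ∧ X ^ 11 = 1 ∧ X ≠ 1 ∧
      ∃ m : ℕ, X ^ m = g * cyc 11 * g⁻¹ := by
  set Y := g * cyc 11 * g⁻¹ with hY
  have hYH : Y ∈ H := H.mul_mem (H.mul_mem hg hc) (H.inv_mem hg)
  have hYct : Y.cycleType = {11} := by
    rw [hY, cycleType_conj, cycleType_cyc]
  have hYc : Y.IsCycle := by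
    rw [← card_cycleType_eq_one, hYct, Multiset.card_singleton]
  have hYs : Y.support.card = 11 := by
    rw [← sum_cycleType, hYct, Multiset.sum_singleton]
  have hYo : orderOf Y = 11 := by rw [hYc.orderOf, hYs]
  have hall' : Y.support = Finset.univ := by
    apply Finset.eq_univ_of_card
    rw [hYs, Fintype.card_fin]
  have hmv : ∀ p : Fin 11, Y p ≠ p := by
    intro p
    rw [← mem_support, hall']
    exact Finset.mem_univ _
  obtain ⟨j, hj⟩ := hYc.exists_pow_eq (hmv 0) (hmv 1)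
  set X := Y ^ j with hX
  have hXH : X ∈ H := H.pow_mem hYH j
  have hX1 : X ≠ 1 := by
    intro h
    rw [h, Perm.one_apply] at hj
    exact absurd hj (by decide)
  have hY11 : Y ^ 11 = 1 := by
    have := pow_orderOf_eq_one Y
    rwa [hYo] at this
  have hX11 : X ^ 11 = 1 := by
    rw [hX, ← pow_mul, mul_comm, pow_mul, hY11, one_pow]
  have hXct : X.cycleType = {11} :=
    cycleType_of_prime_pow (by norm_num) hX11 hX1 (by rw [Fintype.card_fin]; norm_num)
  -- `Y` is a power of `X`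
  have hcop : Nat.Coprime j (orderOf Y) := by
    rw [hYo]
    apply Nat.Coprime.symm
    rw [Nat.Prime.coprime_iff_not_dvd (by norm_num)]
    intro hd
    apply hX1
    rw [hX]
    obtain ⟨t, rfl⟩ := hd
    rw [pow_mul, hY11, one_pow]
  obtain ⟨m, hm⟩ := exists_pow_eq_self_of_coprime hcop
  have hXc : X ≠ cyc 11 := by
    intro h
    apply hYz
    rw [← hm, ← hX, h]
    exact Subgroup.pow_mem _ (Subgroup.mem_zpowers _) m
  exact ⟨X, hXH, hXct, hj, hXc, hX11, hX1, m, hm⟩

/-- a group is contained in a subgroup `K` that contains all its cycles `(0 1 ...)` of length 11 -/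
theorem le_of_all (H K : Subgroup (Perm (Fin 11))) (hKH : K ≤ H) (hcK : cyc 11 ∈ K)
    (hA : ¬ alternatingGroup (Fin 11) ≤ H) (i : ℕ) (hi : i < 2) (hLK : Grp (2 * i) ≤ K)
    (hall : ∀ X ∈ H, X.cycleType = {11} → X 0 = 1 → X ≠ cyc 11 → X ∈ K) : H ≤ K := by
  intro g hg
  have hcH : cyc 11 ∈ H := hKH hcK
  by_cases hYz : g * cyc 11 * g⁻¹ ∈ Subgroup.zpowers (cyc 11)
  · exact mem_of_normalizes H K hKH hcK hA i hi hLK hg hYz
  · obtain ⟨X, hXH, hXct, hj, hXc, hX11, hX1, m, hm⟩ := exists_norm_cycle H hcH hg hYz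
    have hXK : X ∈ K := hall X hXH hXct hj hXc
    obtain ⟨k, hkK, hk⟩ := exists_conj_mem_zpowers K hcK hXK hX11 hX1
    have hkY : k⁻¹ * (g * cyc 11 * g⁻¹) * k ∈ Subgroup.zpowers (cyc 11) := by
      have : k⁻¹ * (g * cyc 11 * g⁻¹) * k = (k⁻¹ * X * k) ^ m := by
        rw [← hm]
        have := conj_pow (a := k⁻¹) (b := X) (i := m)
        rw [inv_inv] at this
        exact this.symm
      rw [this]
      exact Subgroup.pow_mem _ hk m
    have hnH : k⁻¹ * g ∈ H := H.mul_mem (H.inv_mem (hKH hkK)) hg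
    have hn : k⁻¹ * g * cyc 11 * (k⁻¹ * g)⁻¹ ∈ Subgroup.zpowers (cyc 11) := by
      have : k⁻¹ * g * cyc 11 * (k⁻¹ * g)⁻¹ = k⁻¹ * (g * cyc 11 * g⁻¹) * k := by group
      rw [this]
      exact hkY
    have := mem_of_normalizes H K hKH hcK hA i hi hLK hnH hn
    have hg' : g = k * (k⁻¹ * g) := by group
    rw [hg']
    exact K.mul_mem hkK this

/-- the transitive groups of degree 11 that contain the rotation, do not normalise it, and do not
contain the alternating group: there are four of them -/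
theorem core (H : Subgroup (Perm (Fin 11))) (hc : cyc 11 ∈ H)
    (hna : ∃ g ∈ H, g * cyc 11 * g⁻¹ ∉ Subgroup.zpowers (cyc 11))
    (hA : ¬ alternatingGroup (Fin 11) ≤ H) : ∃ t < 4, H = Grp t := by
  obtain ⟨g, hg, hgn⟩ := hna
  obtain ⟨X₀, hX₀H, hct₀, h0₀, hne₀, -, -, -⟩ := exists_norm_cycle H hc hg hgn
  obtain ⟨t₀, ht₀, hg₀, -⟩ := tag_of_mem H hc hA hX₀H hct₀ h0₀ hne₀
  set i₀ := t₀ / 2 with hi₀
  have hi₀2 : i₀ < 2 := by omega
  have hB₀ : Bf i₀ ∈ H := Bf_mem_of_gen H hc ht₀ hg₀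
  have key : ∀ X ∈ H, X.cycleType = {11} → X 0 = 1 → X ≠ cyc 11 →
      ∃ t < 4, t / 2 = i₀ ∧ Gen t ∈ H ∧ X ∈ Grp t := by
    intro X hXH hct h0 hne
    obtain ⟨t, ht, hgt, hXG⟩ := tag_of_mem H hc hA hXH hct h0 hne
    refine ⟨t, ht, ?_, hgt, hXG⟩
    by_contra hcon
    have hB : Bf (t / 2) ∈ H := Bf_mem_of_gen H hc ht hgt
    apply hA
    have h2 : t / 2 < 2 := by omega
    have hcases : (t / 2 = 0 ∧ i₀ = 1) ∨ (t / 2 = 1 ∧ i₀ = 0) := by omega
    rcases hcases with ⟨h1, h2'⟩ | ⟨h1, h2'⟩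
    · rw [h1] at hB
      rw [h2'] at hB₀
      exact alt_le_of_both H hc hB hB₀
    · rw [h1] at hB
      rw [h2'] at hB₀
      exact alt_le_of_both H hc hB₀ hB
  by_cases hC : Cf i₀ ∈ H
  · refine ⟨2 * i₀ + 1, by omega, ?_⟩
    have hKH : Grp (2 * i₀ + 1) ≤ H := by
      apply Grp_le _ hc
      rw [Gen_two_mul_add_one i₀ hi₀2]
      exact hC
    apply le_antisymm _ hKH
    apply le_of_all H _ hKH (cyc_mem_Grp _) hA i₀ hi₀2 (Grp_even_le_odd i₀ hi₀2)
    intro X hXH hct h0 hne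
    obtain ⟨t, ht, hti, -, hXG⟩ := key X hXH hct h0 hne
    have hcases : t = 2 * i₀ ∨ t = 2 * i₀ + 1 := by omega
    rcases hcases with rfl | rfl
    · exact Grp_even_le_odd i₀ hi₀2 hXG
    · exact hXG
  · refine ⟨2 * i₀, by omega, ?_⟩
    have hKH : Grp (2 * i₀) ≤ H := by
      apply Grp_le _ hc
      rw [Gen_two_mul i₀ hi₀2]
      exact hB₀
    apply le_antisymm _ hKH
    apply le_of_all H _ hKH (cyc_mem_Grp _) hA i₀ hi₀2 le_rfl
    intro X hXH hct h0 hne
    obtain ⟨t, ht, hti, hgt, hXG⟩ := key X hXH hct h0 hne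
    have hcases : t = 2 * i₀ ∨ t = 2 * i₀ + 1 := by omega
    rcases hcases with rfl | rfl
    · exact hXG
    · exfalso
      apply hC
      rw [← Gen_two_mul_add_one i₀ hi₀2]
      exact hgt

end Cfsg.Agent.Lib.Helper27_Deg11
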