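import Mathlib
import Cfsg.Agent.Lib.Helper27_Deg11Core
import Cfsg.Agent.Lib.Helper27_Deg11Tbl

/-!
# The group of order 7920 is sharply 4-transitive (helper27, S0679)

From the table of `Helper27_Deg11Tbl`: every entry is in the group `Grp 1`, every element of the
group is in the table, and there is exactly one entry for each injective quadruple of points.
-/

set_option autoImplicit false

namespace Cfsg.Agent.Lib.Helper27_Deg11

open Equiv Equiv.Perm MulAction
open Cfsg.Agent.Lib.Helper27_TwinEnum Cfsg.Agent.Lib.Helper27_Deg11Enum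

theorem eq11_iff (f g : ℕ → ℕ) : eq11 f g = true ↔ ∀ i < 11, f i = g i := by
  unfold eq11
  simp only [Bool.and_eq_true]
  constructor
  · rintro ⟨⟨⟨⟨⟨⟨⟨⟨⟨⟨h0, h1⟩, h2⟩, h3⟩, h4⟩, h5⟩, h6⟩, h7⟩, h8⟩, h9⟩, h10⟩ i hi
    interval_cases i <;> exact Nat.eq_of_beq_eq_true ‹_›
  · intro h
    have e : ∀ i < 11, Nat.beq (f i) (g i) = true := fun i hi => by
      rw [h i hi]; exact Nat.beq_refl _
    exact ⟨⟨⟨⟨⟨⟨⟨⟨⟨⟨e 0 (by norm_num), e 1 (by norm_num)⟩, e 2 (by norm_num)⟩,
      e 3 (by norm_num)⟩, e 4 (by norm_num)⟩, e 5 (by norm_num)⟩, e 6 (by norm_num)⟩,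
      e 7 (by norm_num)⟩, e 8 (by norm_num)⟩, e 9 (by norm_num)⟩, e 10 (by norm_num)⟩

/-- the generator `g`: 0 for the rotation -/
def genP (g : ℕ) : Perm (Fin 11) := bif Nat.beq g 0 then cyc 11 else Cf 0

theorem repT_genP (g : ℕ) : RepT (genP g) (genT g) := by
  unfold genP genT
  cases Nat.beq g 0
  · exact repT_Cf 0
  · exact repT_cyc

theorem genP_mem (g : ℕ) : genP g ∈ Grp 1 := by
  unfold genP
  cases Nat.beq g 0
  · exact gen_mem_Grp 1
  · exact cyc_mem_Grp 1

theorem tblE_lt (e : ℕ) : tblE e < 2 ^ (4 * 11) := by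
  unfold tblE
  exact Nat.and_lt_two_pow _ (by norm_num)

theorem chkA_of_lt {k : ℕ} (hk : k < 14641) : chkA k = true :=
  (allBelow_iff _ _).1 chkA_all k hk

theorem chkB_of_lt {k : ℕ} (hk : k < 14641) : chkB k = true :=
  (allBelow_iff _ _).1 chkB_all k hk

theorem chkV_of_lt {k : ℕ} (hk : k < 14641) : chkV k = true :=
  (allBelow_iff _ _).1 chkV_all k hk

theorem repT_one : RepT (1 : Perm (Fin 11)) IDT := by
  constructor
  · decide
  · decide

/-- the facts of a valid entry -/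
theorem chkA_facts {k : ℕ} (hk : k < 14641) (hv : validE (mentry k) = true) :
    keyF (ent (tblE (mentry k))) = k ∧
      (depE (mentry k) = 0 → tblE (mentry k) = IDT) ∧
      (depE (mentry k) ≠ 0 → parE (mentry k) < 14641 ∧ validE (mentry (parE (mentry k))) = true ∧
        depE (mentry (parE (mentry k))) + 1 = depE (mentry k) ∧
        ∀ i < 11, ent (tblE (mentry (parE (mentry k)))) (ent (genT (genE (mentry k))) i) =
          ent (tblE (mentry k)) i) := by
  have h := chkA_of_lt hk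
  unfold chkA at h
  simp only [forceN_eq] at h
  rw [hv, cond_true, Bool.and_eq_true] at h
  obtain ⟨h1, h2⟩ := h
  refine ⟨Nat.eq_of_beq_eq_true h1, ?_, ?_⟩
  · intro hd
    rw [hd] at h2
    exact Nat.eq_of_beq_eq_true h2
  · intro hd
    have hb : Nat.beq (depE (mentry k)) 0 = false := by
      cases hb : Nat.beq (depE (mentry k)) 0
      · rfl
      · exact absurd (Nat.eq_of_beq_eq_true hb) hd
    rw [hb, cond_false, Bool.and_eq_true, Bool.and_eq_true, Bool.and_eq_true] at h2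
    obtain ⟨⟨⟨h3, h4⟩, h5⟩, h6⟩ := h2
    refine ⟨?_, h4, Nat.eq_of_beq_eq_true h5, (eq11_iff _ _).1 h6⟩
    exact Nat.blt_eq ▸ h3

/-- every entry of the table is in the group -/
theorem entry_mem (d : ℕ) : ∀ k < 14641, validE (mentry k) = true → depE (mentry k) = d →
    ∃ π ∈ Grp 1, RepT π (tblE (mentry k)) := by
  induction d with
  | zero =>
    intro k hk hv hd
    obtain ⟨-, h0, -⟩ := chkA_facts hk hv
    refine ⟨1, Subgroup.one_mem _, ?_⟩
    rw [h0 hd]
    exact repT_one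
  | succ d ih =>
    intro k hk hv hd
    obtain ⟨-, -, h1⟩ := chkA_facts hk hv
    obtain ⟨hp, hpv, hpd, hpe⟩ := h1 (by rw [hd]; exact Nat.succ_ne_zero d)
    obtain ⟨π, hπ, hrep⟩ := ih _ hp hpv (by omega)
    refine ⟨π * genP (genE (mentry k)), Subgroup.mul_mem _ hπ (genP_mem _), tblE_lt _, ?_⟩
    intro i
    rw [← hpe i.val i.2]
    exact (repF_of_repT hrep).mul (repF_of_repT (repT_genP _)) i

/-- the permutation is in the table -/
def InTab (π : Perm (Fin 11)) : Prop :=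
  ∃ k < 14641, validE (mentry k) = true ∧ RepT π (tblE (mentry k))

theorem inTab_one : InTab 1 := by
  refine ⟨146, by norm_num, ?_, ?_⟩
  · rw [mentry_base]; decide
  · rw [mentry_base]
    exact repT_one

theorem inTab_mul_gen {π : Perm (Fin 11)} (h : InTab π) (g : ℕ) (hg : g < 2) :
    InTab (π * genP g) := by
  obtain ⟨k, hk, hv, hrep⟩ := h
  have hB := chkB_of_lt hk
  unfold chkB at hB
  simp only [forceN_eq] at hB
  rw [hv, cond_true, Bool.and_eq_true] at hB
  have hB' : chkB1 (tblE (mentry k)) (genT g) = true := by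
    interval_cases g
    · exact hB.1
    · exact hB.2
  unfold chkB1 at hB'
  simp only [forceN_eq] at hB'
  rw [Bool.and_eq_true, Bool.and_eq_true] at hB'
  obtain ⟨⟨h1, h2⟩, h3⟩ := hB'
  refine ⟨_, Nat.blt_eq ▸ h1, h2, tblE_lt _, ?_⟩
  intro i
  rw [← (eq11_iff _ _).1 h3 i.val i.2]
  exact (repF_of_repT hrep).mul (repF_of_repT (repT_genP _)) i

theorem genP_pow_eleven (g : ℕ) : genP g ^ 11 = 1 := by
  have h := (repF_of_repT (repT_genP g)).iterate 11
  refine eq_of_repF h repF_one ?_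
  unfold genT
  cases Nat.beq g 0
  · decide
  · decide

theorem inTab_mul_gen_pow {π : Perm (Fin 11)} (h : InTab π) (g : ℕ) (hg : g < 2) (n : ℕ) :
    InTab (π * genP g ^ n) := by
  induction n with
  | zero => rwa [pow_zero, mul_one]
  | succ n ih =>
    rw [pow_succ, ← mul_assoc]
    exact inTab_mul_gen ih g hg

theorem inTab_mul_gen_inv {π : Perm (Fin 11)} (h : InTab π) (g : ℕ) (hg : g < 2) :
    InTab (π * (genP g)⁻¹) := by
  have : (genP g)⁻¹ = genP g ^ 10 := by
    rw [inv_eq_iff_mul_eq_one, ← pow_succ', genP_pow_eleven]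
  rw [this]
  exact inTab_mul_gen_pow h g hg 10

theorem inTab_of_mem {π : Perm (Fin 11)} (h : π ∈ Grp 1) : InTab π := by
  unfold Grp at h
  induction h using Subgroup.closure_induction_right with
  | one => exact inTab_one
  | mul_right x hx y hy ih =>
    rcases hy with rfl | rfl
    · exact inTab_mul_gen (g := 1) ih (by norm_num)
    · exact inTab_mul_gen (g := 0) ih (by norm_num)
  | mul_inv_cancel x hx y hy ih =>
    rcases hy with rfl | rfl
    · exact inTab_mul_gen_inv (g := 1) ih (by norm_num)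
    · exact inTab_mul_gen_inv (g := 0) ih (by norm_num)

theorem keyF_eq (f : ℕ → ℕ) : keyF f = ((f 0 * 11 + f 1) * 11 + f 2) * 11 + f 3 := rfl

/-- the group of order 7920 has an element for every injective quadruple -/
theorem exists_mem_map4 (a b c d : Fin 11) (hab : a ≠ b) (hac : a ≠ c) (had : a ≠ d) (hbc : b ≠ c)
    (hbd : b ≠ d) (hcd : c ≠ d) : ∃ π ∈ Grp 1, π 0 = a ∧ π 1 = b ∧ π 2 = c ∧ π 3 = d := by
  set k : ℕ := ((a.val * 11 + b.val) * 11 + c.val) * 11 + d.val with hk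
  have ha := a.2
  have hb := b.2
  have hc := c.2
  have hd := d.2
  have hab' : a.val ≠ b.val := fun h => hab (Fin.ext h)
  have hac' : a.val ≠ c.val := fun h => hac (Fin.ext h)
  have had' : a.val ≠ d.val := fun h => had (Fin.ext h)
  have hbc' : b.val ≠ c.val := fun h => hbc (Fin.ext h)
  have hbd' : b.val ≠ d.val := fun h => hbd (Fin.ext h)
  have hcd' : c.val ≠ d.val := fun h => hcd (Fin.ext h)
  have hk14 : k < 14641 := by omega
  have hV := chkV_of_lt hk14
  unfold chkV at hV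
  have e1 : Nat.div k 1331 = a.val := by show k / 1331 = _; omega
  have e2 : Nat.mod (Nat.div k 121) 11 = b.val := by show k / 121 % 11 = _; omega
  have e3 : Nat.mod (Nat.div k 11) 11 = c.val := by show k / 11 % 11 = _; omega
  have e4 : Nat.mod k 11 = d.val := by show k % 11 = _; omega
  have hne : ∀ x y : ℕ, x ≠ y → Nat.beq x y = false := by
    intro x y hxy
    cases h : Nat.beq x y
    · rfl
    · exact absurd (Nat.eq_of_beq_eq_true h) hxy
  have hdist : distinct4 a.val b.val c.val d.val = true := by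
    unfold distinct4
    rw [hne _ _ hab', hne _ _ hac', hne _ _ had', hne _ _ hbc', hne _ _ hbd', hne _ _ hcd']
    rfl
  rw [e1, e2, e3, e4, hdist, cond_true] at hV
  obtain ⟨π, hπ, hrep⟩ := entry_mem _ k hk14 hV rfl
  obtain ⟨hkey, -, -⟩ := chkA_facts hk14 hV
  rw [keyF_eq] at hkey
  have r0 := hrep.2 0
  have r1 := hrep.2 1
  have r2 := hrep.2 2
  have r3 := hrep.2 3
  have v0 : ((0 : Fin 11) : ℕ) = 0 := rfl
  have v1 : ((1 : Fin 11) : ℕ) = 1 := rfl
  have v2 : ((2 : Fin 11) : ℕ) = 2 := rfl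
  have v3 : ((3 : Fin 11) : ℕ) = 3 := rfl
  rw [v0] at r0
  rw [v1] at r1
  rw [v2] at r2
  rw [v3] at r3
  rw [r0, r1, r2, r3] at hkey
  have p0 := (π 0).2
  have p1 := (π 1).2
  have p2 := (π 2).2
  have p3 := (π 3).2
  refine ⟨π, hπ, Fin.ext ?_, Fin.ext ?_, Fin.ext ?_, Fin.ext ?_⟩ <;> omega

/-- only the identity of the group of order 7920 fixes the four points -/
theorem eq_one_of_fix4 {π : Perm (Fin 11)} (hπ : π ∈ Grp 1) (h0 : π 0 = 0) (h1 : π 1 = 1)
    (h2 : π 2 = 2) (h3 : π 3 = 3) : π = 1 := by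
  obtain ⟨k, hk, hv, hrep⟩ := inTab_of_mem hπ
  obtain ⟨hkey, -, -⟩ := chkA_facts hk hv
  rw [keyF_eq] at hkey
  have r0 := hrep.2 0
  have r1 := hrep.2 1
  have r2 := hrep.2 2
  have r3 := hrep.2 3
  rw [h0] at r0
  rw [h1] at r1
  rw [h2] at r2
  rw [h3] at r3
  have v0 : ((0 : Fin 11) : ℕ) = 0 := rfl
  have v1 : ((1 : Fin 11) : ℕ) = 1 := rfl
  have v2 : ((2 : Fin 11) : ℕ) = 2 := rfl
  have v3 : ((3 : Fin 11) : ℕ) = 3 := rfl
  rw [v0] at r0
  rw [v1] at r1
  rw [v2] at r2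
  rw [v3] at r3
  rw [r0, r1, r2, r3] at hkey
  have hk146 : k = 146 := by omega
  subst hk146
  rw [mentry_base] at hrep
  exact eq_of_repF (repF_of_repT hrep) (repF_of_repT repT_one) (fun _ _ => rfl)

/-- the based form of sharp 4-transitivity gives the form of Mathlib -/
theorem sharp_of_based (H : Subgroup (Perm (Fin 11)))
    (h1 : ∀ a b c d : Fin 11, a ≠ b → a ≠ c → a ≠ d → b ≠ c → b ≠ d → c ≠ d →
      ∃ π ∈ H, π 0 = a ∧ π 1 = b ∧ π 2 = c ∧ π 3 = d)
    (h2 : ∀ π ∈ H, π 0 = 0 → π 1 = 1 → π 2 = 2 → π 3 = 3 → π = 1) :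
    IsMultiplyPretransitive H (Fin 11) 4 ∧ ∀ x : Fin 4 ↪ Fin 11, stabilizer H x = ⊥ := by
  have key : ∀ x : Fin 4 ↪ Fin 11, ∃ π ∈ H, π 0 = x 0 ∧ π 1 = x 1 ∧ π 2 = x 2 ∧ π 3 = x 3 := by
    intro x
    exact h1 _ _ _ _ (fun h => absurd (x.injective h) (by decide))
      (fun h => absurd (x.injective h) (by decide)) (fun h => absurd (x.injective h) (by decide))
      (fun h => absurd (x.injective h) (by decide)) (fun h => absurd (x.injective h) (by decide))
      (fun h => absurd (x.injective h) (by decide))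
  let b : Fin 4 → Fin 11 := ![0, 1, 2, 3]
  have hinv : ∀ (σ : Perm (Fin 11)) (y : Fin 11), σ⁻¹ (σ y) = y := fun σ y => σ.symm_apply_apply y
  have key' : ∀ x : Fin 4 ↪ Fin 11, ∃ π ∈ H, ∀ i : Fin 4, π (b i) = x i := by
    intro x
    obtain ⟨π, hπ, e0, e1, e2, e3⟩ := key x
    refine ⟨π, hπ, ?_⟩
    intro i
    fin_cases i
    · exact e0
    · exact e1
    · exact e2
    · exact e3
  constructor
  · refine ⟨fun x y => ?_⟩
    obtain ⟨π, hπ, hx⟩ := key' x
    obtain ⟨ρ, hρ, hy⟩ := key' y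
    refine ⟨⟨ρ * π⁻¹, H.mul_mem hρ (H.inv_mem hπ)⟩, ?_⟩
    ext i
    show ((ρ * π⁻¹) (x i) : ℕ) = _
    rw [← hx i, Perm.mul_apply, hinv, hy i]
  · intro x
    rw [Subgroup.eq_bot_iff_forall]
    intro g hg
    obtain ⟨π, hπ, hx⟩ := key' x
    have hfix : ∀ i : Fin 4, (g : Perm (Fin 11)) (x i) = x i := by
      intro i
      have := congrArg (fun y : Fin 4 ↪ Fin 11 => y i) (mem_stabilizer_iff.1 hg)
      exact this
    have hconj : ∀ i : Fin 4, (π⁻¹ * (g : Perm (Fin 11)) * π) (b i) = b i := by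
      intro i
      rw [Perm.mul_apply, Perm.mul_apply, hx i, hfix i, ← hx i, hinv]
    have h1' := h2 (π⁻¹ * (g : Perm (Fin 11)) * π) (H.mul_mem (H.mul_mem (H.inv_mem hπ) g.2) hπ)
      (hconj 0) (hconj 1) (hconj 2) (hconj 3)
    apply Subtype.ext
    show (g : Perm (Fin 11)) = 1
    have : (g : Perm (Fin 11)) = π * (π⁻¹ * (g : Perm (Fin 11)) * π) * π⁻¹ := by group
    rw [this, h1']
    group

theorem grp1_sharp : IsMultiplyPretransitive (Grp 1) (Fin 11) 4 ∧
    ∀ x : Fin 4 ↪ Fin 11, stabilizer (Grp 1) x = ⊥ :=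
  sharp_of_based (Grp 1) exists_mem_map4 (fun _ hπ => eq_one_of_fix4 hπ)

end Cfsg.Agent.Lib.Helper27_Deg11
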