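import Mathlib
import Cfsg.Agent.Lib.Helper27_Deg11Sharp
import Cfsg.Agent.Lib.Helper12_PrimeDeg
import Cfsg.Agent.S2542

/-!
# The transitive groups of degree 11 (helper27, S0679)

The negation exchanges the two families of groups; a transitive group of degree 11 that is not
soluble and does not contain the alternating group is, for a labelling of the points, one of the
four groups `Grp t`; the groups `Grp 1` and `Grp 3` are sharply 4-transitive, and the groups
`Grp 0` and `Grp 2` are isomorphic to the projective special linear group of degree 2 over the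
field with 11 elements.
-/

set_option autoImplicit false

namespace Cfsg.Agent.Lib.Helper27_Deg11

open Equiv Equiv.Perm MulAction
open Cfsg.Agent.Lib.Helper27_TwinEnum Cfsg.Agent.Lib.Helper27_Deg11Enum

/-! ### The symmetry between the two families -/

/-- the tag of the other family -/
def sw (t : ℕ) : ℕ :=
  bif Nat.beq t 0 then 2 else bif Nat.beq t 1 then 3 else bif Nat.beq t 2 then 0 else 1

/-- the conjugates of the generators under the negation, as words in the generators of the other
family (from `scratch/s0679/gennu.py`) -/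
def NUW (t : ℕ) : List ℕ :=
  bif Nat.beq t 0 then [3, 0, 3] else bif Nat.beq t 1 then [0, 8, 0, 5, 0, 8, 0]
  else bif Nat.beq t 2 then [3, 0, 3] else [0, 0, 0, 10, 0, 0, 2]

theorem nuw_ok : ∀ t < 4, eqOn11 (evalW (ent (target (sw t))) (fun j => j) (NUW t))
    (fun j => muF 10 (ent (target t) (muF 10 j))) = true := by
  decide +kernel

theorem sw_sw : ∀ t < 4, sw (sw t) = t ∧ sw t < 4 := by decide

/-- the negation -/
def nu : Perm (Fin 11) := Equiv.neg (Fin 11)

theorem repF_nu : RepF nu (muF 10) := by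
  unfold RepF
  decide

theorem nu_mul_nu : nu * nu = 1 := by
  ext x
  show ((- - x : Fin 11) : ℕ) = x
  rw [neg_neg]

theorem nu_inv : nu⁻¹ = nu := inv_eq_of_mul_eq_one_right nu_mul_nu

theorem conj_gen_mem (t : ℕ) (ht : t < 4) : nu * Gen t * nu⁻¹ ∈ Grp (sw t) := by
  have hY : RepF (nu * Gen t * nu⁻¹) (fun j => muF 10 (ent (target t) (muF 10 j))) := by
    rw [nu_inv]
    exact (repF_nu.mul (repF_of_repT (repT_Gen t))).mul repF_nu
  have h := (eqOn11_iff _ _).1 (nuw_ok t ht)
  have : wordProd (Gen (sw t)) 1 (NUW t) = nu * Gen t * nu⁻¹ :=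
    eq_of_repF (repF_wordProd (repF_of_repT (repT_Gen _)) repF_one _) hY h
  rw [← this]
  exact wordProd_mem _ (gen_mem_Grp _) (Subgroup.one_mem _) (cyc_mem_Grp _) _

theorem conj_cyc : nu * cyc 11 * nu⁻¹ = cyc 11 ^ 10 := by
  have hY : RepF (nu * cyc 11 * nu⁻¹) (fun j => muF 10 (ent TAU (muF 10 j))) := by
    rw [nu_inv]
    exact (repF_nu.mul (repF_of_repT repT_cyc)).mul repF_nu
  refine eq_of_repF hY (repF_cyc_pow 10) ?_
  decide

theorem conj_mem (t : ℕ) (ht : t < 4) {g : Perm (Fin 11)} (hg : g ∈ Grp t) :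
    nu * g * nu⁻¹ ∈ Grp (sw t) := by
  have hle : Grp t ≤ (Grp (sw t)).comap (MulAut.conj nu).toMonoidHom := by
    unfold Grp
    rw [Subgroup.closure_le]
    rintro x (rfl | rfl)
    · show nu * Gen t * nu⁻¹ ∈ Grp (sw t)
      exact conj_gen_mem t ht
    · show nu * cyc 11 * nu⁻¹ ∈ Grp (sw t)
      rw [conj_cyc]
      exact Subgroup.pow_mem _ (cyc_mem_Grp _) _
  exact hle hg

theorem permCongrHom_nu (g : Perm (Fin 11)) :
    (nu.permCongrHom : Perm (Fin 11) →* Perm (Fin 11)) g = nu * g * nu⁻¹ := by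
  ext x
  rfl

theorem map_nu (t : ℕ) (ht : t < 4) :
    (Grp t).map (nu.permCongrHom : Perm (Fin 11) →* Perm (Fin 11)) = Grp (sw t) := by
  apply le_antisymm
  · rintro _ ⟨g, hg, rfl⟩
    rw [permCongrHom_nu]
    exact conj_mem t ht hg
  · intro h hh
    have h1 := conj_mem (sw t) (sw_sw t ht).2 hh
    rw [(sw_sw t ht).1] at h1
    refine ⟨_, h1, ?_⟩
    rw [permCongrHom_nu, nu_inv]
    have : nu * (nu * h * nu) * nu = (nu * nu) * h * (nu * nu) := by group
    rw [this, nu_mul_nu, one_mul, mul_one]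

/-! ### Transport along a labelling -/

theorem permCongrHom_apply' {α β : Type*} (e : α ≃ β) (g : Perm α) (x : α) :
    (e.permCongrHom : Perm α →* Perm β) g (e x) = e (g x) := by
  show e.permCongr g (e x) = e (g x)
  rw [Equiv.permCongr_apply, Equiv.symm_apply_apply]

/-- sharp 4-transitivity along a labelling -/
theorem sharp_of_map {α β : Type*} (e : α ≃ β) (G : Subgroup (Perm α))
    (h : IsMultiplyPretransitive (G.map (e.permCongrHom : Perm α →* Perm β)) β 4 ∧
      ∀ x : Fin 4 ↪ β, stabilizer (G.map (e.permCongrHom : Perm α →* Perm β)) x = ⊥) :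
    IsMultiplyPretransitive G α 4 ∧ ∀ x : Fin 4 ↪ α, stabilizer G x = ⊥ := by
  obtain ⟨h1, h2⟩ := h
  constructor
  · refine ⟨fun x y => ?_⟩
    obtain ⟨⟨g', hg'⟩, hg⟩ := h1.exists_smul_eq (x.trans e.toEmbedding) (y.trans e.toEmbedding)
    obtain ⟨g, hgG, rfl⟩ := hg'
    refine ⟨⟨g, hgG⟩, ?_⟩
    ext i
    have := congrArg (fun z : Fin 4 ↪ β => z i) hg
    have h3 : (e.permCongrHom : Perm α →* Perm β) g (e (x i)) = e (y i) := this
    rw [permCongrHom_apply'] at h3
    exact e.injective h3
  · intro x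
    rw [Subgroup.eq_bot_iff_forall]
    intro g hg
    have hfix : ∀ i : Fin 4, (g : Perm α) (x i) = x i := by
      intro i
      have := congrArg (fun y : Fin 4 ↪ α => y i) (mem_stabilizer_iff.1 hg)
      exact this
    have hmem : (⟨(e.permCongrHom : Perm α →* Perm β) g, ⟨g, g.2, rfl⟩⟩ :
        G.map (e.permCongrHom : Perm α →* Perm β)) ∈
        stabilizer (G.map (e.permCongrHom : Perm α →* Perm β)) (x.trans e.toEmbedding) := by
      rw [mem_stabilizer_iff]
      ext i
      show (e.permCongrHom : Perm α →* Perm β) g (e (x i)) = e (x i)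
      rw [permCongrHom_apply', hfix i]
    rw [h2] at hmem
    have h4 := congrArg Subtype.val (Subgroup.mem_bot.1 hmem)
    have h5 : (e.permCongrHom : Perm α →* Perm β) (g : Perm α) = 1 := h4
    have h6 : (g : Perm α) = 1 := by
      have hinj : Function.Injective (e.permCongrHom : Perm α →* Perm β) :=
        e.permCongrHom.injective
      apply hinj
      rw [h5, map_one]
    exact Subtype.ext h6

theorem grp3_sharp : IsMultiplyPretransitive (Grp 3) (Fin 11) 4 ∧
    ∀ x : Fin 4 ↪ Fin 11, stabilizer (Grp 3) x = ⊥ := by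
  apply sharp_of_map nu
  rw [map_nu 3 (by norm_num)]
  exact grp1_sharp

/-- the two groups of order 660 are isomorphic -/
theorem grp0_equiv_grp2 : Nonempty (Grp 0 ≃* Grp 2) := by
  have h := map_nu 0 (by norm_num)
  have e := (Grp 0).equivMapOfInjective (nu.permCongrHom : Perm (Fin 11) →* Perm (Fin 11))
    nu.permCongrHom.injective
  rw [h] at e
  exact ⟨e⟩

/-! ### The reduction to the subgroups containing the rotation -/

theorem cyc_eq_addRight : (cyc 11 : Perm (Fin 11)) = (Equiv.addRight (1 : ZMod 11) : Perm (ZMod 11)) :=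
  rfl

/-- a permutation that normalises the rotation is affine -/
theorem mem_affineGroup_of_normalizes (n : Perm (Fin 11))
    (hn : n * cyc 11 * n⁻¹ ∈ Subgroup.zpowers (cyc 11)) :
    ∀ n' : Perm (ZMod 11), n' = n → n' ∈ Cfsg.affineGroup (ZMod 11) := by
  rintro n' rfl
  obtain ⟨u, hu0, hu11, hrep⟩ := affine_of_normalizes hn
  have : Fact (Nat.Prime 11) := ⟨by norm_num⟩
  have hune : ((u : ℕ) : ZMod 11) ≠ 0 := by
    intro h
    rw [ZMod.natCast_eq_zero_iff] at h
    exact absurd (Nat.le_of_dvd hu0 h) (by omega)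
  refine Cfsg.Agent.Lib.Helper12_PrimeDeg.mem_affineGroup.2 ⟨Units.mk0 _ hune, n' 0, fun x => ?_⟩
  rw [Units.val_mk0]
  have h2 : ∀ y : ZMod 11, y = ((ZMod.val y : ℕ) : ZMod 11) :=
    fun y => (ZMod.natCast_zmod_val y).symm
  have h3 : ZMod.val (n' x) = (ZMod.val (n' 0) + u * ZMod.val x) % 11 := (hrep x).symm
  calc n' x = ((ZMod.val (n' x) : ℕ) : ZMod 11) := h2 _
    _ = (((ZMod.val (n' 0) + u * ZMod.val x) % 11 : ℕ) : ZMod 11) := by rw [h3]
    _ = ((ZMod.val (n' 0) : ℕ) : ZMod 11) + (u : ZMod 11) * ((ZMod.val x : ℕ) : ZMod 11) := by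
      rw [ZMod.natCast_mod, Nat.cast_add, Nat.cast_mul]
    _ = (u : ZMod 11) * x + n' 0 := by
      rw [← h2, ← h2, add_comm]

/-- a group of degree 11 that is transitive and not soluble, and does not contain the alternating
group, is one of the four groups, for a labelling of the points -/
theorem classify {α : Type*} [Fintype α] [DecidableEq α] (hα : Fintype.card α = 11)
    (G : Subgroup (Perm α)) [IsPretransitive G α] (hG : ¬ Group.IsSolvable G)
    (hA : ¬ alternatingGroup α ≤ G) :
    ∃ e : α ≃ Fin 11, ∃ t < 4, G.map (e.permCongrHom : Perm α →* Perm (Fin 11)) = Grp t := by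
  have hp : Fact (Nat.Prime 11) := ⟨by norm_num⟩
  obtain ⟨e₀, he₀⟩ := Cfsg.Agent.Lib.Helper12_PrimeDeg.exists_labelling (p := 11) hα G
  let e : α ≃ Fin 11 := e₀
  set Φ : Perm α →* Perm (Fin 11) := (e.permCongrHom : Perm α →* Perm (Fin 11)) with hΦ
  have hΦinj : Function.Injective Φ := e.permCongrHom.injective
  set G' : Subgroup (Perm (Fin 11)) := G.map Φ with hG'
  have hτ : cyc 11 ∈ G' := he₀
  have hA' : ¬ alternatingGroup (Fin 11) ≤ G' := by
    intro hle
    apply hA
    intro σ hσ
    have hs : Equiv.Perm.sign σ = 1 := Equiv.Perm.mem_alternatingGroup.mp hσ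
    have hs' : Equiv.Perm.sign (Φ σ) = 1 := by
      show Equiv.Perm.sign (e.permCongr σ) = 1
      rw [Equiv.Perm.sign_permCongr]; exact hs
    have hmem : Φ σ ∈ G' := hle (Equiv.Perm.mem_alternatingGroup.mpr hs')
    obtain ⟨g, hg, hgσ⟩ := Subgroup.mem_map.mp hmem
    rw [← hΦinj hgσ]
    exact hg
  have hna : ∃ g ∈ G', g * cyc 11 * g⁻¹ ∉ Subgroup.zpowers (cyc 11) := by
    by_contra hcon
    push Not at hcon
    apply hG
    let G'' : Subgroup (Perm (ZMod 11)) := G'
    have haff : G'' ≤ Cfsg.affineGroup (ZMod 11) := by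
      intro g hg
      exact mem_affineGroup_of_normalizes g (hcon g hg) g rfl
    have hsolv : Group.IsSolvable G'' :=
      Cfsg.Agent.Lib.Helper12_PrimeDeg.isSolvable_of_le_affineGroup G'' haff
    have hsolv' : Group.IsSolvable G' := hsolv
    exact Group.isSolvable_of_isSolvable_injective (f := (Φ.subgroupMap G))
      (by
        intro x y hxy
        apply Subtype.ext
        have := congrArg Subtype.val hxy
        exact hΦinj this)
  obtain ⟨t, ht, hGt⟩ := core G' hτ hna hA'
  exact ⟨e, t, ht, hGt⟩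

/-! ### The groups of order 660 -/

theorem card_ge_of_four {H : Subgroup (Perm (Fin 11))}
    (h : IsMultiplyPretransitive H (Fin 11) 4) : 7920 ≤ Nat.card H := by
  let x₀ : Fin 4 ↪ Fin 11 := Fin.castLEEmb (by norm_num)
  have hsurj : Function.Surjective (fun g : H => g • x₀) := fun y => h.exists_smul_eq x₀ y
  have h1 := Nat.card_le_card_of_surjective _ hsurj
  have h2 : Nat.card (Fin 4 ↪ Fin 11) = 7920 := by
    rw [Nat.card_eq_fintype_card, Fintype.card_embedding_eq, Fintype.card_fin, Fintype.card_fin]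
    decide
  rw [h2] at h1
  exact h1

theorem psl_iso_aux : ∃ t, (t = 0 ∨ t = 2) ∧
    Nonempty (Grp t ≃* Matrix.ProjectiveSpecialLinearGroup (Fin 2) (ZMod 11)) := by
  classical
  have hp : Fact (Nat.Prime 11) := ⟨by norm_num⟩
  obtain ⟨H, hidx, -, h2t⟩ := Cfsg.Agent.S2542.result (F := ZMod 11) (ZMod.card 11)
  have hcard := Cfsg.Agent.S2542.card_PSL2_eleven (F := ZMod 11) (ZMod.card 11)
  have hsimple : IsSimpleGroup (Matrix.ProjectiveSpecialLinearGroup (Fin 2) (ZMod 11)) :=
    Matrix.ProjectiveSpecialLinearGroup.rank_two_simple (by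
      rw [Nat.card_eq_fintype_card, ZMod.card]; norm_num)
  have hfin : Finite (Matrix.ProjectiveSpecialLinearGroup (Fin 2) (ZMod 11)) :=
    Nat.finite_of_card_ne_zero (by rw [hcard]; norm_num)
  set X := Matrix.ProjectiveSpecialLinearGroup (Fin 2) (ZMod 11) ⧸ H with hX
  have hXfin : Finite X := inferInstance
  let _ : Fintype X := Fintype.ofFinite X
  have hXcard : Fintype.card X = 11 := by
    rw [← Nat.card_eq_fintype_card, ← Subgroup.index_eq_card, hidx]
  set φ : Matrix.ProjectiveSpecialLinearGroup (Fin 2) (ZMod 11) →* Perm X :=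
    MulAction.toPermHom _ X with hφ
  have htr : IsPretransitive (Matrix.ProjectiveSpecialLinearGroup (Fin 2) (ZMod 11)) X :=
    inferInstance
  -- the action is faithful
  have hker : φ.ker = ⊥ := by
    rcases hsimple.eq_bot_or_eq_top_of_normal φ.ker inferInstance with h | h
    · exact h
    · exfalso
      have hone : ∀ g, φ g = 1 := fun g => by
        have : g ∈ φ.ker := by rw [h]; trivial
        exact this
      have hsub : Subsingleton X := by
        refine ⟨fun x y => ?_⟩
        obtain ⟨g, hg⟩ := htr.exists_smul_eq x y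
        have : φ g x = y := hg
        rw [hone g] at this
        exact this
      have := Fintype.card_le_one_iff_subsingleton.2 hsub
      omega
  have hinj : Function.Injective φ := (MonoidHom.ker_eq_bot_iff φ).1 hker
  set P : Subgroup (Perm X) := φ.range with hP
  let E : Matrix.ProjectiveSpecialLinearGroup (Fin 2) (ZMod 11) ≃* P := MonoidHom.ofInjective hinj
  have hPcard : Nat.card P = 660 := by
    rw [← Nat.card_congr E.toEquiv, hcard]
  have hPtr : IsPretransitive P X := by
    refine ⟨fun x y => ?_⟩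
    obtain ⟨g, hg⟩ := htr.exists_smul_eq x y
    exact ⟨⟨φ g, ⟨g, rfl⟩⟩, hg⟩
  have hPns : ¬ Group.IsSolvable P := by
    intro hs
    have hs' : Group.IsSolvable (Matrix.ProjectiveSpecialLinearGroup (Fin 2) (ZMod 11)) :=
      Group.isSolvable_of_isSolvable_injective (f := E.toMonoidHom) E.injective
    have hcomm := IsSimpleGroup.comm_iff_isSolvable.2 hs'
    let _ : CommGroup (Matrix.ProjectiveSpecialLinearGroup (Fin 2) (ZMod 11)) :=
      { (inferInstance : Group (Matrix.ProjectiveSpecialLinearGroup (Fin 2) (ZMod 11))) with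
        mul_comm := hcomm }
    have hprime := IsSimpleGroup.prime_card
      (α := Matrix.ProjectiveSpecialLinearGroup (Fin 2) (ZMod 11))
    rw [hcard] at hprime
    norm_num at hprime
  have hXnt : Nontrivial X := Fintype.one_lt_card_iff_nontrivial.1 (by rw [hXcard]; norm_num)
  have hPA : ¬ alternatingGroup X ≤ P := by
    intro hle
    have h1 := Subgroup.card_le_of_le hle
    rw [hPcard, nat_card_alternatingGroup, Nat.card_eq_fintype_card, hXcard] at h1
    have : Nat.factorial 11 / 2 = 19958400 := by decide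
    omega
  obtain ⟨e, t, ht, hmap⟩ := classify hXcard P hPns hPA
  let E2 : P ≃* Grp t := by
    rw [← hmap]
    exact P.equivMapOfInjective _ e.permCongrHom.injective
  have hGcard : Nat.card (Grp t) = 660 := by
    rw [← Nat.card_congr E2.toEquiv, hPcard]
  refine ⟨t, ?_, ⟨(E.trans E2).symm⟩⟩
  interval_cases t
  · exact Or.inl rfl
  · exfalso
    have := card_ge_of_four grp1_sharp.1
    omega
  · exact Or.inr rfl
  · exfalso
    have := card_ge_of_four grp3_sharp.1
    omega

/-- the groups of order 660 are the projective special linear group -/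
theorem psl_iso (t : ℕ) (ht : t = 0 ∨ t = 2) :
    Nonempty (Grp t ≃* Matrix.ProjectiveSpecialLinearGroup (Fin 2) (ZMod 11)) := by
  obtain ⟨t', ht', ⟨E⟩⟩ := psl_iso_aux
  obtain ⟨E02⟩ := grp0_equiv_grp2
  rcases ht with rfl | rfl <;> rcases ht' with rfl | rfl
  · exact ⟨E⟩
  · exact ⟨E02.trans E⟩
  · exact ⟨E02.symm.trans E⟩
  · exact ⟨E⟩

end Cfsg.Agent.Lib.Helper27_Deg11
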