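/-
Helper27_GenRow: a unitriangular matrix group is generated by any set of elements which allows to clear the
strictly upper entries one at a time, in the row-major order (generic row reduction; used for S4625).
helper27.
-/
import Mathlib
import Cfsg.Agent.Lib.Helper68_MatGrp
import Cfsg.Agent.Lib.Helper68_MatGrpU

set_option autoImplicit false
set_option linter.unusedSectionVars false
set_option linter.unusedVariables false

namespace Cfsg.Agent.Lib.Helper27_GenRow

open Matrix Cfsg.Agent.Lib.Helper68_MatGrp

/-- a chain of conditions `Q 0 ⊇ Q 1 ⊇ ... ⊇ Q T = {1}` such that every element of `Q t` can be moved into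
`Q (t + 1)` by an element of `S`: then `Q 0 ⊆ ⟨S⟩` -/
theorem mem_closure_of_chain {G : Type*} [Group G] (S : Set G) (Q : ℕ → G → Prop) (T : ℕ)
    (hT : ∀ u, Q T u → u = 1)
    (hstep : ∀ t u, t < T → Q t u → Q (t + 1) u ∨ ∃ s ∈ S, Q (t + 1) (u * s)) :
    ∀ u, Q 0 u → u ∈ Subgroup.closure S := by
  have key : ∀ d t, t + d = T → ∀ u, Q t u → u ∈ Subgroup.closure S := by
    intro d
    induction d with
    | zero =>
      intro t ht u hu
      have : t = T := by omega
      subst this
      rw [hT u hu]
      exact Subgroup.one_mem _
    | succ d ih =>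
      intro t ht u hu
      rcases hstep t u (by omega) hu with h | ⟨s, hs, h⟩
      · exact ih (t + 1) (by omega) u h
      · have h1 := ih (t + 1) (by omega) (u * s) h
        have h2 : s ∈ Subgroup.closure S := Subgroup.subset_closure hs
        have : u = (u * s) * s⁻¹ := by group
        rw [this]
        exact Subgroup.mul_mem _ h1 (Subgroup.inv_mem _ h2)
  intro u hu
  exact key T 0 (by omega) u hu

variable {ι : Type*} [Fintype ι] [DecidableEq ι] {F : Type*} [Field F]
variable {G : Type*} [Group G] (φ : G →* Matrix ι ι F) (ht : ι → ℕ)

/-- the position `(a', b')` comes before `(a, b)` in the row-major order given by `ht` -/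
def Before (a' b' a b : ι) : Prop := ht a' < ht a ∨ (a' = a ∧ ht b' < ht b)

/-- all strictly upper entries of `u` before the position `(a, b)` vanish -/
def ClearedBefore (u : G) (a b : ι) : Prop :=
  ∀ a' b', ht a' < ht b' → Before ht a' b' a b → φ u a' b' = 0

/-- **Generic row reduction.**  If every non-zero strictly upper entry `(a, b)` of a unitriangular `u`, all of
whose earlier strictly upper entries vanish, can be cleared by right multiplication with an element of `S`
(keeping the earlier entries zero), then the unitriangular group is contained in `⟨S⟩`. -/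
theorem UU_le_closure (hφ : Function.Injective φ) (hht : Function.Injective ht) (S : Set G)
    (hclear : ∀ u ∈ UU φ ht hht, ∀ a b, ht a < ht b → φ u a b ≠ 0 → ClearedBefore φ ht u a b →
      ∃ s ∈ S, u * s ∈ UU φ ht hht ∧ φ (u * s) a b = 0 ∧ ClearedBefore φ ht (u * s) a b) :
    UU φ ht hht ≤ Subgroup.closure S := by
  classical
  -- a bound for the heights
  obtain ⟨N, hN⟩ : ∃ N : ℕ, ∀ a, ht a < N := by
    refine ⟨(Finset.univ.sup ht) + 1, fun a => ?_⟩
    have : ht a ≤ Finset.univ.sup ht := Finset.le_sup (f := ht) (Finset.mem_univ a)
    omega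
  let code : ι → ι → ℕ := fun a b => ht a * N + ht b
  let Q : ℕ → G → Prop := fun t u =>
    u ∈ UU φ ht hht ∧ ∀ a b, ht a < ht b → code a b < t → φ u a b = 0
  have hcode_lt : ∀ a' b' a b, code a' b' < code a b → Before ht a' b' a b := by
    intro a' b' a b h
    have h1 := hN b'
    have h2 := hN b
    have h3 : ht a' * N + ht b' < ht a * N + ht b := h
    rcases lt_trichotomy (ht a') (ht a) with hlt | heq | hgt
    · exact Or.inl hlt
    · right
      refine ⟨hht heq, ?_⟩
      rw [heq] at h3
      omega
    · exfalso
      have : (ht a + 1) * N ≤ ht a' * N := Nat.mul_le_mul_right N hgt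
      rw [Nat.add_mul, Nat.one_mul] at this
      omega
  have hcode_of : ∀ a' b' a b, Before ht a' b' a b → code a' b' < code a b := by
    intro a' b' a b h
    have h1 := hN b'
    show ht a' * N + ht b' < ht a * N + ht b
    rcases h with hlt | ⟨rfl, hlt⟩
    · have : (ht a' + 1) * N ≤ ht a * N := Nat.mul_le_mul_right N hlt
      rw [Nat.add_mul, Nat.one_mul] at this
      omega
    · omega
  have hcode_inj : ∀ a' b' a b, code a' b' = code a b → a' = a ∧ b' = b := by
    intro a' b' a b h
    have h1 := hN b'
    have h2 := hN b
    have h3 : ht a' * N + ht b' = ht a * N + ht b := h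
    have ha : ht a' = ht a := by
      rcases lt_trichotomy (ht a') (ht a) with hlt | heq | hgt
      · exfalso
        have : (ht a' + 1) * N ≤ ht a * N := Nat.mul_le_mul_right N hlt
        rw [Nat.add_mul, Nat.one_mul] at this
        omega
      · exact heq
      · exfalso
        have : (ht a + 1) * N ≤ ht a' * N := Nat.mul_le_mul_right N hgt
        rw [Nat.add_mul, Nat.one_mul] at this
        omega
    refine ⟨hht ha, hht ?_⟩
    rw [ha] at h3
    omega
  have hmain : ∀ u, Q 0 u → u ∈ Subgroup.closure S := by
    apply mem_closure_of_chain S Q (N * N)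
    · -- the end of the chain
      rintro u ⟨hu, h0⟩
      apply hφ
      rw [map_one]
      ext a b
      by_cases hab : a = b
      · subst hab
        rw [hu.2 a, Matrix.one_apply_eq]
      · rw [Matrix.one_apply_ne hab]
        rcases lt_or_gt_of_ne (fun e => hab (hht e)) with hlt | hlt
        · apply h0 a b hlt
          show ht a * N + ht b < N * N
          have h1 := hN a
          have h2 := hN b
          have : (ht a + 1) * N ≤ N * N := Nat.mul_le_mul_right N h1
          rw [Nat.add_mul, Nat.one_mul] at this
          omega
        · exact (mem_UT φ ht).1 hu.1 a b hlt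
    · -- the step
      rintro t u - ⟨hu, h0⟩
      by_cases hex : ∃ a b, ht a < ht b ∧ code a b = t ∧ φ u a b ≠ 0
      · obtain ⟨a, b, hab, hcode, hne⟩ := hex
        right
        have hcl : ClearedBefore φ ht u a b := by
          intro a' b' hab' hbef
          apply h0 a' b' hab'
          rw [← hcode]
          exact hcode_of a' b' a b hbef
        obtain ⟨s, hs, hus, hzero, hcl'⟩ := hclear u hu a b hab hne hcl
        refine ⟨s, hs, hus, ?_⟩
        intro a' b' hab' hlt
        rcases Nat.lt_succ_iff_lt_or_eq.mp hlt with h1 | h1
        · apply hcl' a' b' hab'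
          apply hcode_lt
          rw [hcode]
          exact h1
        · obtain ⟨rfl, rfl⟩ := hcode_inj a' b' a b (h1.trans hcode.symm)
          exact hzero
      · left
        refine ⟨hu, ?_⟩
        intro a b hab hlt
        rcases Nat.lt_succ_iff_lt_or_eq.mp hlt with h1 | h1
        · exact h0 a b hab h1
        · by_contra hne
          exact hex ⟨a, b, hab, h1, hne⟩
  intro u hu
  exact hmain u ⟨hu, fun a b _ h => absurd h (Nat.not_lt_zero _)⟩

end Cfsg.Agent.Lib.Helper27_GenRow
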