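/-
Helper27_EA2OPDefs: definitions for the Omega+ share of S4625: the unitriangular subgroup `UUop` of
`GO m F = Ω⁺_{2m}(F)` (in the `Helper68_MatGrp` vocabulary) and the set `rootOP` of all positive root elements.
helper27.
-/
import Mathlib
import Cfsg.Agent.Lib.Helper27_GenRow
import Cfsg.Agent.Lib.Helper68_StOpDefs

set_option autoImplicit false
set_option linter.unusedSectionVars false
set_option linter.unusedVariables false

namespace Cfsg.Agent.Lib.Helper27_EA2OPDefs

open Matrix Cfsg.Agent.Lib.Helper68_MatGrp Cfsg.Agent.Lib.Helper68_StOpDefs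
  Cfsg.Agent.Lib.Helper27_GenRow

variable (m : ℕ) (F : Type*) [Field F]

/-- the upper unitriangular elements of `Ω⁺_{2m}(F)` -/
def UUop : Subgroup (GO m F) := UU (φ m F) (ht m) (ht_injective m)

variable {m F}

theorem mem_UUop {g : GO m F} :
    g ∈ UUop m F ↔ (∀ a b, ht m b < ht m a → φ m F g a b = 0) ∧ ∀ a, φ m F g a a = 1 := Iff.rfl

/-- `ClearedBefore` for `Ω⁺`, unfolded -/
theorem clearedBefore_iff (u : GO m F) (a b : I m) :
    ClearedBefore (φ m F) (ht m) u a b ↔
      (∀ a' b' : I m, ht m a' < ht m b' → ht m a' < ht m a → φ m F u a' b' = 0) ∧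
        ∀ b' : I m, ht m a < ht m b' → ht m b' < ht m b → φ m F u a b' = 0 := by
  constructor
  · intro h
    refine ⟨fun a' b' h1 h2 => h a' b' h1 (Or.inl h2), fun b' h1 h2 => h a b' h1 (Or.inr ⟨rfl, h2⟩)⟩
  · rintro ⟨h1, h2⟩ a' b' hab hbef
    rcases hbef with h | ⟨rfl, h⟩
    · exact h1 a' b' hab h
    · exact h2 b' hab h

variable (m F)

/-- the positive root elements of `Ω⁺_{2m}(F)` -/
def rootOP [Fintype F] : Set (GO m F) :=
  {g | ∃ (a c : I m) (t : F), LxOK a c ∧ ht m a < ht m c ∧ g = lx a c t}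

end Cfsg.Agent.Lib.Helper27_EA2OPDefs
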