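/-
Helper27_EA2SUDefs: definitions for the SU share of S4625 (Sylow 2-subgroups of groups of Lie type in
characteristic 2 have elementary abelian abelianization): the unitriangular subgroup `UUsu` of `SUJ n σ`
(in the `Helper68_MatGrp` vocabulary) and the set `rootSU` of all positive root elements.  helper27.
-/
import Mathlib
import Cfsg.Agent.Lib.Helper27_GenRow
import Cfsg.Agent.Lib.Helper27_StSUDefs
import Cfsg.Agent.Lib.Helper27_StSUBasic

set_option autoImplicit false
set_option linter.unusedSectionVars false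
set_option linter.unusedVariables false

namespace Cfsg.Agent.Lib.Helper27_EA2SUDefs

open Matrix Cfsg.Agent.Lib.Helper68_MatGrp Cfsg.Agent.Lib.Helper27_StSUDefs
  Cfsg.Agent.Lib.Helper27_StSUBasic Cfsg.Agent.Lib.Helper27_GenRow

variable (n : ℕ) {F : Type*} [Field F] (σ : F →+* F)

/-- the upper unitriangular elements of `SUJ n σ` -/
def UUsu : Subgroup ↥(SUJ n σ) := UU (φ n σ) (ht n) (ht_injective n)

variable {n}

theorem mem_UUsu {g : ↥(SUJ n σ)} :
    g ∈ UUsu n σ ↔ (∀ a b : Fin n, b < a → g.1.1 a b = 0) ∧ ∀ a, g.1.1 a a = 1 := Iff.rfl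

theorem φ_injective : Function.Injective (φ n σ) := fun g h e => ext_val σ e

/-- `ClearedBefore` for `SUJ n σ`, unfolded: the strictly upper entries in the rows above `a`, and in the row `a`
before the column `b`, vanish -/
theorem clearedBefore_iff (u : ↥(SUJ n σ)) (a b : Fin n) :
    ClearedBefore (φ n σ) (ht n) u a b ↔
      (∀ a' b' : Fin n, a' < b' → a' < a → u.1.1 a' b' = 0) ∧
        ∀ b' : Fin n, a < b' → b' < b → u.1.1 a b' = 0 := by
  constructor
  · intro h
    refine ⟨fun a' b' h1 h2 => h a' b' h1 (Or.inl h2), fun b' h1 h2 => h a b' h1 (Or.inr ⟨rfl, h2⟩)⟩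
  · rintro ⟨h1, h2⟩ a' b' hab hbef
    rcases hbef with h | ⟨rfl, h⟩
    · exact h1 a' b' hab h
    · exact h2 b' hab h

variable (n)

/-- the positive root elements of `SUJ n σ`: `xL i k t` (`i < k`), `xX i t` (`i < rev i`, `σ t = -t`) and
`xQ i c a b` (`c = rev c`, `i < c`, `b + σ b + a σ a = 0`) -/
def rootSU : Set ↥(SUJ n σ) :=
  {g | (∃ (i k : Fin n) (t : F), i < k ∧ i ≠ Fin.rev k ∧ i ≠ Fin.rev i ∧ k ≠ Fin.rev k ∧ g = xL σ i k t) ∨
    (∃ (i : Fin n) (t : F), i < Fin.rev i ∧ σ t = -t ∧ g = xX σ i t) ∨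
    (∃ (i c : Fin n) (a b : F), c = Fin.rev c ∧ i < c ∧ b + σ b + a * σ a = 0 ∧ g = xQ σ i c a b)}

end Cfsg.Agent.Lib.Helper27_EA2SUDefs
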