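/-
S4625 (10u), share Omega+ (helper27 for architect helper68), package OP-MEM: the positive root elements are unitriangular.
-/
import Mathlib
import Cfsg.Agent.Lib.Helper27_EA2OPDefs
import Cfsg.Agent.Lib.Helper31_StOp_XB
import Cfsg.Agent.Lib.Helper68_EA2

set_option autoImplicit false
set_option linter.unusedSectionVars false
set_option linter.unusedVariables false

namespace Cfsg.Agent.Lib.Helper79_EA2_OPMEM

open Matrix Cfsg.Agent.Lib.Helper68_MatGrp Cfsg.Agent.Lib.Helper68_StOpDefs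
  Cfsg.Agent.Lib.Helper27_GenRow Cfsg.Agent.Lib.Helper27_EA2OPDefs

variable {m : ℕ} {F : Type*} [Field F] [Fintype F]

/-- PKG OP-MEM (S).  The positive root elements are unitriangular (`lx_mem_Boo` + the diagonal of `lxM`). -/
theorem rootOP_subset (hm : 3 ≤ m) : rootOP m F ⊆ (UUop m F : Set (GO m F)) := by
  rintro g ⟨a, c, t, h, hlt, rfl⟩
  show lx a c t ∈ UUop m F
  rw [mem_UUop]
  refine ⟨mem_Boo.mp (Cfsg.Agent.Lib.Helper31_StOp_XB.lx_mem_Boo hm h hlt t), fun x => ?_⟩
  rw [lx_val hm h]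
  unfold lxM
  have h1 : ¬ (a = x ∧ c = x) := fun e => h.1 (e.2.trans e.1.symm)
  have h2 : ¬ (op c = x ∧ op a = x) := fun e => h.1 (op_injective (e.1.trans e.2.symm))
  rw [Matrix.sub_apply, Matrix.add_apply, Matrix.one_apply_eq, Matrix.single_apply, if_neg h1,
    Matrix.single_apply, if_neg h2, add_zero, sub_zero]

end Cfsg.Agent.Lib.Helper79_EA2_OPMEM
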