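/-
Helper96_EA2_OPCORNER: package OP-CORNER of the ea2c market (helper27, sub-architect for helper68's S4625):
the entry `(a, op a)` of a unitriangular element of `Ω⁺_{2m}(F)` vanishes once the earlier entries do.
helper96.
-/
import Mathlib
import Cfsg.Agent.Lib.Helper27_EA2OPDefs
import Cfsg.Agent.Lib.Helper31_StOp_XB
import Cfsg.Agent.Lib.Helper68_EA2

set_option autoImplicit false
set_option linter.unusedSectionVars false
set_option linter.unusedVariables false

namespace Cfsg.Agent.Lib.Helper96_EA2_OPCORNER

open Matrix Cfsg.Agent.Lib.Helper68_MatGrp Cfsg.Agent.Lib.Helper68_StOpDefs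
  Cfsg.Agent.Lib.Helper27_GenRow Cfsg.Agent.Lib.Helper27_EA2OPDefs

variable {m : ℕ} {F : Type*} [Field F] [Fintype F]

/-- if the rows of `u` above `a` are rows of the identity, so are the rows of `u⁻¹` above `a` -/
theorem inv_rows (u : GO m F) (a : I m)
    (h : ∀ i l : I m, ht m i < ht m a → φ m F u i l = if i = l then 1 else 0) :
    ∀ i l : I m, ht m i < ht m a → φ m F u⁻¹ i l = if i = l then 1 else 0 := by
  intro i l hi
  have h1 : φ m F u * φ m F u⁻¹ = 1 := by
    rw [← map_mul, mul_inv_cancel, map_one]
  have h2 := congrFun (congrFun h1 i) l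
  rw [Matrix.mul_apply, Matrix.one_apply] at h2
  rw [← h2]
  rw [Finset.sum_eq_single i]
  · rw [h i i hi, if_pos rfl, one_mul]
  · intro x _ hx
    rw [h i x hi, if_neg (Ne.symm hx), zero_mul]
  · intro hni
    exact absurd (Finset.mem_univ i) hni

/-- PKG OP-CORNER (M).  The entry `(a, op a)` vanishes once the earlier entries do. -/
theorem op_corner (u : GO m F) (hu : u ∈ UUop m F) (a : I m) (h : ht m a < ht m (op a))
    (hcl : ClearedBefore (φ m F) (ht m) u a (op a)) : φ m F u a (op a) = 0 := by
  classical
  rw [mem_UUop] at hu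
  rw [clearedBefore_iff] at hcl
  obtain ⟨hcl1, hcl2⟩ := hcl
  -- the rows above `a` are rows of the identity
  have hrow : ∀ i l : I m, ht m i < ht m a → φ m F u i l = if i = l then 1 else 0 := by
    intro i l hi
    rcases lt_trichotomy (ht m l) (ht m i) with hlt | heq | hgt
    · have hne : i ≠ l := fun e => by rw [e] at hlt; exact lt_irrefl _ hlt
      rw [if_neg hne]
      exact hu.1 i l hlt
    · have hil : l = i := ht_injective m heq
      rw [hil, if_pos rfl]
      exact hu.2 i
    · have hne : i ≠ l := fun e => by rw [e] at hgt; exact lt_irrefl _ hgt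
      rw [if_neg hne]
      exact hcl1 i l hgt hi
  have hinv := inv_rows u a hrow
  -- the row `a` of `u`
  have hv : ∀ x : I m, x ≠ a → x ≠ op a → φ m F u a (op x) = 0 := by
    intro x hxa hxo
    have hl1 : op x ≠ a := fun e => hxo (by rw [← e, op_op])
    have hl2 : op x ≠ op a := fun e => hxa (op_injective e)
    rcases lt_trichotomy (ht m (op x)) (ht m a) with hlt | heq | hgt
    · exact hu.1 a (op x) hlt
    · exact absurd (ht_injective m heq) hl1
    · rcases lt_trichotomy (ht m (op x)) (ht m (op a)) with hlt' | heq' | hgt'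
      · exact hcl2 (op x) hgt hlt'
      · exact absurd (ht_injective m heq') hl2
      · have hxa' : ht m x < ht m a := by
          have e1 := ht_op (m := m) x
          have e2 := ht_op (m := m) a
          have e3 := ht_lt (m := m) x
          have e4 := ht_lt (m := m) a
          omega
        have h3 := hinv x (op a) hxa'
        rw [if_neg hxo, φ_inv_apply, op_op] at h3
        exact h3
  -- the isometry `u⁻¹` applied to `e_{op a}`
  have hiso : ∀ w : I m → F, QP m F (φ m F u⁻¹ *ᵥ w) = QP m F w :=
    (Cfsg.Agent.Lib.Helper44_Orth.mem_isometryGroup_iff _ _).mp (u⁻¹).1.2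
  have h0 := hiso (Pi.single (op a) 1)
  rw [QP_single, Matrix.mulVec_single_one, QP_apply] at h0
  -- `a = e_k`
  rcases index_cases a with ⟨k, rfl⟩ | ⟨k, rfl⟩
  · rw [Finset.sum_eq_single k] at h0
    · rw [Matrix.col_apply, Matrix.col_apply, φ_inv_apply, φ_inv_apply, op_op, op_ie, op_jf,
        hu.2 (ie k), mul_one] at h0
      rw [op_ie]
      exact h0
    · intro i _ hik
      rw [Matrix.col_apply, φ_inv_apply, op_op]
      have hne1 : (ie i : I m) ≠ ie k := fun e => hik (ie_injective e)
      have hne2 : (ie i : I m) ≠ op (ie k) := by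
        rw [op_ie]
        exact ie_ne_jf i k
      rw [hv (ie i) hne1 hne2, zero_mul]
    · intro hk
      exact absurd (Finset.mem_univ k) hk
  · exfalso
    rw [op_jf, ht_jf, ht_ie] at h
    have := k.2
    omega

end Cfsg.Agent.Lib.Helper96_EA2_OPCORNER
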