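import Mathlib
import Cfsg.Agent.Lib.Helper27_EA2OPDefs

/-!
S4625, share Omega+ (helper27 for helper68), package OP-STRUCT (helper9): if the rows above `a` of
an element of `Ω⁺_{2m}(F)` are rows of the identity then so are the columns `op i`, `ht i < ht a`;
structure of the first non-cleared row of a unitriangular element.
-/

set_option autoImplicit false
set_option linter.unusedSectionVars false
set_option linter.unusedVariables false

namespace Cfsg.Agent.Lib.Helper9_EA2_OPSTRUCT

open Matrix Cfsg.Agent.Lib.Helper68_MatGrp Cfsg.Agent.Lib.Helper68_StOpDefs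
  Cfsg.Agent.Lib.Helper27_GenRow Cfsg.Agent.Lib.Helper27_EA2OPDefs

variable {m : ℕ} {F : Type*} [Field F] [Fintype F]

/-- PKG OP-STRUCT (M).  If the rows above `a` are rows of the identity then so are the columns `op i`, `ht i < ht a`. -/
theorem col_of_rows (u : GO m F) (a : I m)
    (h : ∀ i l : I m, ht m i < ht m a → φ m F u i l = if i = l then 1 else 0) :
    ∀ i x : I m, ht m i < ht m a → φ m F u x (op i) = if x = op i then 1 else 0 := by
  intro i x hi
  -- the row `i` of `u⁻¹` is a row of the identity
  have hinv : ∀ l : I m, φ m F u⁻¹ i l = if i = l then 1 else 0 := by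
    intro l
    have h1 : φ m F u * φ m F u⁻¹ = 1 := by rw [← map_mul, mul_inv_cancel, map_one]
    have h2 := congrFun (congrFun h1 i) l
    rw [Matrix.mul_apply, Finset.sum_eq_single i] at h2
    · rw [h i i hi, if_pos rfl, one_mul] at h2
      rw [h2, Matrix.one_apply]
    · intro c _ hc
      rw [h i c hi, if_neg (Ne.symm hc), zero_mul]
    · intro hni
      exact absurd (Finset.mem_univ i) hni
  have h3 := hinv (op x)
  rw [φ_inv_apply, op_op] at h3
  rw [h3]
  by_cases hx : x = op i
  · rw [if_pos hx, if_pos (by rw [hx, op_op])]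
  · rw [if_neg hx, if_neg]
    intro hix
    apply hx
    rw [hix, op_op]

theorem op_struct (u : GO m F) (hu : u ∈ UUop m F) (a b : I m) (hab : ht m a < ht m b)
    (hne : φ m F u a b ≠ 0) (hcl : ClearedBefore (φ m F) (ht m) u a b) :
    ht m b ≤ ht m (op a) ∧ (∀ l : I m, ht m (op a) < ht m l → φ m F u a l = 0) ∧
      ∀ i l : I m, ht m i < ht m a → φ m F u i l = if i = l then 1 else 0 := by
  rw [clearedBefore_iff] at hcl
  obtain ⟨hcl1, hcl2⟩ := hcl
  obtain ⟨hlow, hdiag⟩ := mem_UUop.1 hu
  -- the rows above `a` are rows of the identity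
  have hrows : ∀ i l : I m, ht m i < ht m a → φ m F u i l = if i = l then 1 else 0 := by
    intro i l hi
    by_cases hil : i = l
    · subst hil
      rw [if_pos rfl]
      exact hdiag i
    · rw [if_neg hil]
      have hne' : ht m i ≠ ht m l := fun e => hil (ht_injective m e)
      rcases lt_or_gt_of_ne hne' with hlt | hgt
      · exact hcl1 i l hlt hi
      · exact hlow i l hgt
  have hcols := col_of_rows u a hrows
  -- the entries of the row `a` after `op a` vanish unless on the diagonal
  have hafter : ∀ l : I m, ht m (op a) < ht m l → φ m F u a l = if a = l then 1 else 0 := by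
    intro l hl
    have hli : ht m (op l) < ht m a := by
      rw [ht_op] at hl ⊢
      have := ht_lt (m := m) l
      have := ht_lt (m := m) a
      omega
    have := hcols (op l) a hli
    rw [op_op] at this
    exact this
  have h1 : ht m b ≤ ht m (op a) := by
    by_contra hcon
    push Not at hcon
    apply hne
    rw [hafter b hcon, if_neg]
    intro e
    rw [e] at hab
    exact lt_irrefl _ hab
  refine ⟨h1, ?_, hrows⟩
  intro l hl
  rw [hafter l hl, if_neg]
  intro e
  rw [← e] at hl
  omega

end Cfsg.Agent.Lib.Helper9_EA2_OPSTRUCT
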