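import Mathlib
import Cfsg.Agent.Lib.Helper27_EA2OPDefs
import Cfsg.Agent.Lib.Helper31_StOp_XB
import Cfsg.Agent.Lib.Helper68_EA2
import Cfsg.Agent.Lib.Helper9_EA2_OPSTRUCT
import Cfsg.Agent.Lib.Helper96_EA2_OPCORNER
import Cfsg.Agent.Lib.Helper79_EA2_OPMEM

set_option autoImplicit false
set_option linter.unusedSectionVars false
set_option linter.unusedVariables false

/-!
S4625, share Omega+ (architect helper68, sub-architect helper27, market `ea2c_packages`), package OP-CL:
the clearing step of the row reduction in the unitriangular subgroup of `Ω⁺_{2m}(F)`.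
-/

namespace Cfsg.Agent.Lib.Helper2_EA2_OPCL

open Matrix Cfsg.Agent.Lib.Helper68_MatGrp Cfsg.Agent.Lib.Helper68_StOpDefs
  Cfsg.Agent.Lib.Helper27_GenRow Cfsg.Agent.Lib.Helper27_EA2OPDefs

variable {m : ℕ} {F : Type*} [Field F] [Fintype F]

/-- the entries of `M * lxM a c t` -/
theorem mul_lxM_apply (M : Matrix (I m) (I m) F) (a c : I m) (t : F) (x y : I m) :
    (M * lxM a c t) x y =
      M x y + (if y = c then M x a * t else 0) - (if y = op a then M x (op c) * t else 0) := by
  unfold lxM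
  rw [Matrix.mul_sub, Matrix.mul_add, Matrix.mul_one, Matrix.sub_apply, Matrix.add_apply]
  congr 1
  · congr 1
    by_cases h : y = c
    · subst h
      rw [if_pos rfl, Matrix.mul_single_apply_same]
    · rw [if_neg h, Matrix.mul_single_apply_of_ne _ _ _ _ _ h]
  · by_cases h : y = op a
    · subst h
      rw [if_pos rfl, Matrix.mul_single_apply_same]
    · rw [if_neg h, Matrix.mul_single_apply_of_ne _ _ _ _ _ h]

/-- OP-CL with the statements of OP-STRUCT (`op_struct`), OP-CORNER (`op_corner`) and OP-MEM (`rootOP_subset`)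
as hypotheses -/
theorem clear_op_of (hm : 3 ≤ m)
    (hstruct : ∀ (u : GO m F), u ∈ UUop m F → ∀ (a b : I m), ht m a < ht m b → φ m F u a b ≠ 0 →
      ClearedBefore (φ m F) (ht m) u a b →
      ht m b ≤ ht m (op a) ∧ (∀ l : I m, ht m (op a) < ht m l → φ m F u a l = 0) ∧
        ∀ i l : I m, ht m i < ht m a → φ m F u i l = if i = l then 1 else 0)
    (hcorner : ∀ (u : GO m F), u ∈ UUop m F → ∀ (a : I m), ht m a < ht m (op a) →
      ClearedBefore (φ m F) (ht m) u a (op a) → φ m F u a (op a) = 0)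
    (hmem : rootOP m F ⊆ (UUop m F : Set (GO m F)))
    (u : GO m F) (hu : u ∈ UUop m F) (a b : I m) (hab : ht m a < ht m b)
    (hne : φ m F u a b ≠ 0) (hcl : ClearedBefore (φ m F) (ht m) u a b) :
    ∃ s ∈ rootOP m F, u * s ∈ UUop m F ∧ φ m F (u * s) a b = 0 ∧
      ClearedBefore (φ m F) (ht m) (u * s) a b := by
  obtain ⟨h1, h2, h3⟩ := hstruct u hu a b hab hne hcl
  have hbop : b ≠ op a := by
    intro e
    subst e
    exact hne (hcorner u hu a hab hcl)
  have hblt : ht m b < ht m (op a) := by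
    rcases Nat.lt_or_ge (ht m b) (ht m (op a)) with h | h
    · exact h
    · exact absurd (ht_injective m (le_antisymm h1 h)) hbop
  have hba : b ≠ a := by
    intro e
    rw [e] at hab
    exact lt_irrefl _ hab
  have hok : LxOK a b := ⟨hba, hbop⟩
  set t : F := -φ m F u a b with ht_def
  have hs : lx a b t ∈ rootOP m F := ⟨a, b, t, hok, hab, rfl⟩
  have hφ : ∀ x y : I m, φ m F (u * lx a b t) x y =
      φ m F u x y + (if y = b then φ m F u x a * t else 0) -
        (if y = op a then φ m F u x (op b) * t else 0) := by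
    intro x y
    rw [map_mul, lx_val hm hok, mul_lxM_apply]
  have hopb : ht m a ≤ ht m (op b) := by
    rw [ht_op] at h1 ⊢
    have := ht_lt (m := m) a
    have := ht_lt (m := m) b
    omega
  refine ⟨lx a b t, hs, Subgroup.mul_mem _ hu (hmem hs), ?_, ?_⟩
  · rw [hφ, if_pos rfl, if_neg hbop, ((mem_UUop).mp hu).2 a, sub_zero, one_mul, ht_def, add_neg_cancel]
  · rw [clearedBefore_iff] at hcl ⊢
    refine ⟨fun a' b' hab' ha' => ?_, fun b' hb1 hb2 => ?_⟩
    · rw [hφ, h3 a' b' ha', h3 a' a ha', h3 a' (op b) ha']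
      have e1 : a' ≠ b' := fun e => by rw [e] at hab'; exact lt_irrefl _ hab'
      have e2 : a' ≠ a := fun e => by rw [e] at ha'; exact lt_irrefl _ ha'
      have e3 : a' ≠ op b := fun e => by rw [e] at ha'; omega
      rw [if_neg e1, if_neg e2, if_neg e3, zero_mul, ite_self, ite_self, add_zero, sub_zero]
    · have e1 : b' ≠ b := fun e => by rw [e] at hb2; exact lt_irrefl _ hb2
      have e2 : b' ≠ op a := fun e => by rw [e] at hb2; omega
      rw [hφ, if_neg e1, if_neg e2, add_zero, sub_zero]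
      exact hcl.2 b' hb1 hb2

/-- PKG OP-CL -/
theorem clear_op (hm : 3 ≤ m) (u : GO m F) (hu : u ∈ UUop m F) (a b : I m) (hab : ht m a < ht m b)
    (hne : φ m F u a b ≠ 0) (hcl : ClearedBefore (φ m F) (ht m) u a b) :
    ∃ s ∈ rootOP m F, u * s ∈ UUop m F ∧ φ m F (u * s) a b = 0 ∧
      ClearedBefore (φ m F) (ht m) (u * s) a b :=
  clear_op_of hm
    (fun u hu a b hab hne hcl => Cfsg.Agent.Lib.Helper9_EA2_OPSTRUCT.op_struct u hu a b hab hne hcl)
    (fun u hu a h hcl => Cfsg.Agent.Lib.Helper96_EA2_OPCORNER.op_corner u hu a h hcl)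
    (Cfsg.Agent.Lib.Helper79_EA2_OPMEM.rootOP_subset hm) u hu a b hab hne hcl

end Cfsg.Agent.Lib.Helper2_EA2_OPCL
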