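/-
Helper27_EA2_OP: the POmega+ share of S4625 (architect helper68): `EA2 (POmega F (quadFormPlus m F))` in characteristic 2.
`ea2_of_gen` with `U = UUop m F` and `S = rootOP m F` (involutions); generation by the generic row reduction
`Helper27_GenRow.UU_le_closure` and the clearing lemma of the market ea2c_packages (helper9 OP-STRUCT, helper96 OP-CORNER,
helper79 OP-MEM, helper2 OP-CL); the Sylow part from the Steinberg assembly S2548.  helper27.
-/
import Mathlib
import Cfsg.Agent.Lib.Helper27_EA2OPDefs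
import Cfsg.Agent.Lib.Helper27_StOp_Asm
import Cfsg.Agent.Lib.Helper68_EA2
import Cfsg.Agent.Lib.Helper9_EA2_OPSTRUCT
import Cfsg.Agent.Lib.Helper96_EA2_OPCORNER
import Cfsg.Agent.Lib.Helper79_EA2_OPMEM
import Cfsg.Agent.Lib.Helper2_EA2_OPCL

set_option autoImplicit false
set_option linter.unusedSectionVars false
set_option linter.unusedVariables false

namespace Cfsg.Agent.Lib.Helper27_EA2OP

open Matrix Cfsg.Agent.Lib.Helper68_MatGrp Cfsg.Agent.Lib.Helper68_StOpDefs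
  Cfsg.Agent.Lib.Helper27_GenRow Cfsg.Agent.Lib.Helper27_EA2OPDefs Cfsg.Agent.Lib.Helper68_EA2
  Cfsg.Agent.Lib.Helper27_StOp_Asm
open scoped commutatorElement

/-- generic: a subgroup of order `p ^ k` in a group with root-subgroup data whose Borel subgroup has order
`|T| p ^ k`, `p ∤ |T|`, has index prime to `p` -/
theorem not_dvd_index_of_RDat' {G : Type*} [Group G] [Finite G] {r : ℕ}
    (D : Cfsg.Agent.Lib.Helper68_StAbs.RDat G r) (p : ℕ) [Fact p.Prime] (k : ℕ)
    (hBT : Nat.card D.B = Nat.card ↥(D.B ⊓ D.N) * p ^ k) (hT : ¬ p ∣ Nat.card ↥(D.B ⊓ D.N))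
    (U : Subgroup G) (hU : Nat.card U = p ^ k) : ¬ p ∣ U.index := by
  obtain ⟨r', hr, hpr⟩ := Cfsg.Agent.Lib.Helper27_StSU_GENERIC.hG_of_hBT D p k hBT hT
  have h1 := U.card_mul_index
  rw [hU, hr] at h1
  have hp : 0 < p ^ k := pow_pos (Nat.Prime.pos Fact.out) k
  have : U.index = r' := Nat.eq_of_mul_eq_mul_left hp h1
  rw [this]
  exact hpr

variable {m : ℕ} {F : Type*} [Field F] [Fintype F]

theorem UUop_le_closure (hm : 3 ≤ m) : UUop m F ≤ Subgroup.closure (rootOP m F) := by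
  apply UU_le_closure (φ m F) (ht m) φ_injective (ht_injective m) (rootOP m F)
  intro u hu a b hab hne hcl
  exact Cfsg.Agent.Lib.Helper2_EA2_OPCL.clear_op_of hm
    (fun u hu a b hab hne hcl => Cfsg.Agent.Lib.Helper9_EA2_OPSTRUCT.op_struct u hu a b hab hne hcl)
    (fun u hu a h hcl => Cfsg.Agent.Lib.Helper96_EA2_OPCORNER.op_corner u hu a h hcl)
    (Cfsg.Agent.Lib.Helper79_EA2_OPMEM.rootOP_subset hm) u hu a b hab hne hcl

theorem closure_rootOP (hm : 3 ≤ m) : Subgroup.closure (rootOP m F) = UUop m F :=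
  le_antisymm ((Subgroup.closure_le _).mpr (Cfsg.Agent.Lib.Helper79_EA2_OPMEM.rootOP_subset hm)) (UUop_le_closure hm)

theorem sylow_UUop (p : ℕ) [Fact p.Prime] [CharP F p] (hm : 3 ≤ m) :
    IsPGroup p (UUop m F) ∧ ¬ p ∣ (UUop m F).index := by
  classical
  have hfin : Finite (GO m F) := Subtype.finite
  have hP : IsPGroup p (UUop m F) :=
    Cfsg.Agent.Lib.Helper77_StOo_PGRP.isPGroup_UU (φ m F) φ_injective (ht m) (ht_injective m) p
  refine ⟨hP, ?_⟩
  obtain ⟨k, hk⟩ := hP.exists_card_eq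
  have hBT : Nat.card ((opRDat (F := F) hm).B) =
      Nat.card ↥((opRDat (F := F) hm).B ⊓ (opRDat (F := F) hm).N) * p ^ k := by
    show Nat.card (Boo m F) = Nat.card ↥(Boo m F ⊓ Noo m F) * _
    rw [Boo_inf_Noo hm, ← hk]
    exact Cfsg.Agent.Lib.Helper79_StOp_CARDB.card_UT (φ m F) φ_injective (ht m) (ht_injective m)
      (Cfsg.Agent.Lib.Helper20_StOp_DIAGMEM.exists_diag_Too hm)
  have hT : ¬ p ∣ Nat.card ↥((opRDat (F := F) hm).B ⊓ (opRDat (F := F) hm).N) := by
    show ¬ p ∣ Nat.card ↥(Boo m F ⊓ Noo m F)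
    rw [Boo_inf_Noo hm]
    exact Cfsg.Agent.Lib.Helper9_StOo_TORUS.not_dvd_card_Diag (φ m F) φ_injective p
  exact not_dvd_index_of_RDat' (opRDat (F := F) hm) p k hBT hT (UUop m F) hk

theorem ea2_GO [CharP F 2] (hm : 3 ≤ m) : EA2 (GO m F) := by
  have hfin : Finite (GO m F) := Subtype.finite
  have : Fact (Nat.Prime 2) := ⟨Nat.prime_two⟩
  obtain ⟨hP, hidx⟩ := sylow_UUop (m := m) (F := F) 2 hm
  refine ea2_of_gen (UUop m F) hP hidx (rootOP m F) (closure_rootOP hm) ?_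
  rintro s ⟨a, c, t, -, -, rfl⟩
  have : lx a c t ^ 2 = 1 := by
    rw [pow_two, lx_mul, CharTwo.add_self_eq_zero, lx_zero]
  rw [this]
  exact Subgroup.one_mem _

/-- POP -/
theorem ea2_pomega_plus {F : Type*} [Field F] [Fintype F] [CharP F 2] (m : ℕ) (hm : 4 ≤ m) :
    EA2 (Cfsg.POmega F (Cfsg.quadFormPlus m F)) := by
  have hfin : Finite (GO m F) := Subtype.finite
  have h1 : EA2 (GO m F) := ea2_GO (by omega)
  have h2 : EA2 (Cfsg.POmega F (⇑(QP m F))) :=
    ea2_of_surjective (QuotientGroup.mk' (Subgroup.center (GO m F))) (QuotientGroup.mk'_surjective _) h1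
  rw [Cfsg.Agent.Lib.Helper44_StdForms.coe_qfPlus] at h2
  exact h2

end Cfsg.Agent.Lib.Helper27_EA2OP
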