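/-
Package STEP of S2546 (helper27): one step of the flag induction for `B ⊔ N = ⊤` in `SUJ n σ`.
The packages GENA, GENB enter as hypotheses.
-/
import Mathlib
import Cfsg.Agent.Lib.Helper27_StSUDefs
import Cfsg.Agent.Lib.Helper27_StSUBasic

set_option autoImplicit false
set_option linter.unusedSectionVars false
set_option linter.unusedVariables false

namespace Cfsg.Agent.Lib.Helper27_StSU_STEP

open Matrix Cfsg.Agent.Lib.Helper68_MatGrp Cfsg.Agent.Lib.Helper27_StSUDefs
  Cfsg.Agent.Lib.Helper27_StSUBasic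

variable {n : ℕ} {F : Type*} [Field F] (σ : F →+* F)

/-- the entries of a product as `mulVec` of a column -/
theorem mul_col (h g : ↥(SUJ n σ)) (a b : Fin n) :
    (h * g).1.1 a b = (h.1.1 *ᵥ (fun x => g.1.1 x b)) a := by
  rw [mul_val, Matrix.mul_apply]
  rfl

/-- STEP, with GENA and GENB as hypotheses -/
theorem step_of (hσ : ∀ x, σ (σ x) = x) (ε : F)
    (genA : ∀ (k : Fin (n / 2)) (a₀ : Fin n), k.val ≤ a₀.val → a₀.val ≤ n - 1 - k.val → a₀ ≠ Fin.rev a₀ →
      ∃ g ∈ Subgroup.closure (Set.range (ss (n := n) σ ε)), g ∈ Pk n σ k.val ∧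
        ∃ c : F, g.1.1 *ᵥ Pi.single (lo k) 1 = Pi.single a₀ c)
    (genB : ∀ (v : Fin n → F) (a : Fin n), v a ≠ 0 → (∀ c, a < c → v c = 0) →
      ∑ x, v x * σ (v (Fin.rev x)) = 0 → ∃ b ∈ Bsu n σ, b.1.1 *ᵥ Pi.single a (v a) = v)
    (k : ℕ) (hk : k < n / 2) (g : ↥(SUJ n σ)) (hg : g ∈ Pk n σ k) :
    ∃ h ∈ Bsu n σ ⊔ Nsu n σ ε, h * g ∈ Pk n σ (k + 1) := by
  classical
  have hkn : k < n := by omega
  set kk : Fin n := ⟨k, hkn⟩ with hkk
  set kF : Fin (n / 2) := ⟨k, hk⟩ with hkF
  have hlo : lo kF = kk := rfl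
  set v : Fin n → F := fun x => g.1.1 x kk with hv
  have hginv : g⁻¹ ∈ Pk n σ k := (Pk n σ k).inv_mem hg
  have hrevkk : (Fin.rev kk).val = n - 1 - k := by rw [Fin.val_rev]; simp [hkk]; omega
  have hkkne : kk ≠ Fin.rev kk := by
    intro e
    have := congrArg Fin.val e
    rw [hrevkk] at this
    simp [hkk] at this
    omega
  -- (i) `v` is isotropic
  have hiso : ∑ x, v x * σ (v (Fin.rev x)) = 0 := by
    have h := unitary_apply σ g kk kk
    rw [if_neg hkkne] at h
    exact h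
  -- (ii) `v` vanishes above `rev k`
  have hii : ∀ x : Fin n, Fin.rev kk < x → v x = 0 := by
    intro x hx
    have h1 := inv_apply σ hσ g⁻¹ x kk
    rw [inv_inv] at h1
    show g.1.1 x kk = 0
    rw [h1]
    have hx' : (Fin.rev kk).val < x.val := hx
    have h2 : (g⁻¹).1.1 (Fin.rev kk) (Fin.rev x) = 0 := by
      apply (mem_Pk σ).1 hginv
      · rw [Fin.val_rev]; omega
      · rw [Fin.lt_def, Fin.val_rev, hrevkk]; omega
    rw [h2, map_zero]
  -- (iii) `v` does not vanish from `k` on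
  have hiii : ∃ x : Fin n, kk ≤ x ∧ v x ≠ 0 := by
    by_contra hcon
    push Not at hcon
    have h1 : ((g⁻¹).1.1 * g.1.1) kk kk = 1 := by rw [inv_mul_val, Matrix.one_apply_eq]
    rw [Matrix.mul_apply] at h1
    have h2 : ∑ x, (g⁻¹).1.1 kk x * g.1.1 x kk = 0 := by
      apply Finset.sum_eq_zero
      intro x _
      by_cases hx : kk ≤ x
      · have : g.1.1 x kk = 0 := hcon x hx
        rw [this, mul_zero]
      · have hx' : x < kk := not_le.mp hx
        have : (g⁻¹).1.1 kk x = 0 := by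
          apply (mem_Pk σ).1 hginv
          · exact hx'
          · exact hx'
        rw [this, zero_mul]
    rw [h2] at h1
    exact zero_ne_one h1
  -- the top index of `v`
  set S : Finset (Fin n) := Finset.univ.filter (fun x => v x ≠ 0) with hS
  obtain ⟨x₀, hx₀k, hx₀v⟩ := hiii
  have hSne : S.Nonempty := ⟨x₀, by simp [hS, hx₀v]⟩
  set a₀ : Fin n := S.max' hSne with ha₀
  have ha₀S : a₀ ∈ S := Finset.max'_mem S hSne
  have hva₀ : v a₀ ≠ 0 := by
    have := ha₀S
    simp only [hS, Finset.mem_filter, Finset.mem_univ, true_and] at this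
    exact this
  have htop : ∀ c, a₀ < c → v c = 0 := by
    intro c hc
    by_contra hne
    have hcS : c ∈ S := by simp [hS, hne]
    have := Finset.le_max' S c hcS
    exact absurd hc (not_lt.mpr this)
  have hka₀ : kk ≤ a₀ := le_trans hx₀k (Finset.le_max' S x₀ (by simp [hS, hx₀v]))
  have ha₀rev : a₀ ≤ Fin.rev kk := by
    by_contra hlt
    exact hva₀ (hii a₀ (not_le.mp hlt))
  have ha₀mid : a₀ ≠ Fin.rev a₀ := by
    intro e
    have h1 : ∑ x, v x * σ (v (Fin.rev x)) = v a₀ * σ (v a₀) := by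
      rw [Finset.sum_eq_single a₀]
      · rw [← e]
      · intro x _ hx
        rcases lt_or_gt_of_ne hx with h | h
        · -- `rev x > rev a₀ = a₀`
          have : a₀ < Fin.rev x := by
            rw [e]
            exact Fin.rev_lt_rev.mpr h
          rw [htop _ this, map_zero, mul_zero]
        · rw [htop _ h, zero_mul]
      · intro h; exact absurd (Finset.mem_univ _) h
    rw [hiso] at h1
    have h2 : σ (v a₀) ≠ 0 := by
      intro h0
      apply hva₀
      have := congrArg σ h0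
      rw [hσ, map_zero] at this
      exact this
    exact mul_ne_zero hva₀ h2 h1.symm
  -- GENB, GENA
  obtain ⟨b, hb, hbv⟩ := genB v a₀ hva₀ htop hiso
  have h1' : kF.val ≤ a₀.val := hka₀
  have h2' : a₀.val ≤ n - 1 - kF.val := by
    have : a₀.val ≤ (Fin.rev kk).val := ha₀rev
    rw [hrevkk] at this
    exact this
  obtain ⟨m, hm, hmP, c, hmc⟩ := genA kF a₀ h1' h2' ha₀mid
  rw [hlo] at hmc
  have hc : c ≠ 0 := by
    rintro rfl
    have h3 : (m⁻¹).1.1 *ᵥ (m.1.1 *ᵥ Pi.single kk 1) = 0 := by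
      rw [hmc]
      simp
    rw [Matrix.mulVec_mulVec, inv_mul_val, Matrix.one_mulVec] at h3
    have := congrFun h3 kk
    simp at this
  refine ⟨m⁻¹ * b⁻¹, ?_, ?_⟩
  · apply Subgroup.mul_mem
    · apply Subgroup.inv_mem
      exact (le_sup_right : Nsu n σ ε ≤ _) ((le_sup_left : _ ≤ Nsu n σ ε) hm)
    · apply Subgroup.inv_mem
      exact (le_sup_left : Bsu n σ ≤ _) hb
  · have hhP : m⁻¹ * b⁻¹ ∈ Pk n σ k :=
      (Pk n σ k).mul_mem ((Pk n σ k).inv_mem hmP) ((Pk n σ k).inv_mem (Bsu_le_Pk σ k hb))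
    have hhg : m⁻¹ * b⁻¹ * g ∈ Pk n σ k := (Pk n σ k).mul_mem hhP hg
    rw [mem_Pk]
    intro a bb hbb hab
    by_cases hbk : bb.val < k
    · exact (mem_Pk σ).1 hhg a bb hbk hab
    · have hbbk : bb = kk := by
        apply Fin.ext
        show bb.val = k
        omega
      subst hbbk
      rw [mul_col]
      show ((m⁻¹ * b⁻¹).1.1 *ᵥ v) a = 0
      -- `b⁻¹ v = v_{a₀} e_{a₀}`
      have e1 : (b⁻¹).1.1 *ᵥ v = Pi.single a₀ (v a₀) := by
        rw [← hbv, Matrix.mulVec_mulVec, inv_mul_val, Matrix.one_mulVec]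
        rw [hbv]
      -- `m⁻¹ e_{a₀} = c⁻¹ e_k`
      have e2 : (m⁻¹).1.1 *ᵥ Pi.single a₀ (v a₀) = Pi.single kk (v a₀ / c) := by
        have e3 : Pi.single a₀ (v a₀) = m.1.1 *ᵥ Pi.single kk (v a₀ / c) := by
          have : (Pi.single kk (v a₀ / c) : Fin n → F) = (v a₀ / c) • Pi.single kk 1 := by
            ext x
            simp only [Pi.smul_apply, Pi.single_apply, smul_eq_mul]
            split_ifs <;> simp
          rw [this, Matrix.mulVec_smul, hmc]
          ext x
          simp only [Pi.smul_apply, Pi.single_apply, smul_eq_mul]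
          split_ifs
          · field_simp
          · simp
        rw [e3, Matrix.mulVec_mulVec, inv_mul_val, Matrix.one_mulVec]
      rw [mul_val, ← Matrix.mulVec_mulVec, e1, e2, Pi.single_apply, if_neg]
      exact fun e => absurd hab (by rw [e]; exact lt_irrefl _)

end Cfsg.Agent.Lib.Helper27_StSU_STEP
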