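import Mathlib
import Cfsg.Agent.Lib.Helper27_StSUDefs
import Cfsg.Agent.Lib.Helper27_StSUBasic
import Cfsg.Agent.Lib.Helper68_StAbs
import Cfsg.Agent.Lib.Helper5_SUOrder
import Cfsg.Agent.Lib.Helper75_Clifford
import Cfsg.Agent.Lib.Helper81_SUSiegel

set_option autoImplicit false
set_option linter.unusedSectionVars false
set_option linter.unusedVariables false

/-!
# S2546 package R2L (helper41; architect helper27): a monomial unitary `g` conjugates the root group
`xL σ i k ·` or its opposite `xL σ k i ·` into `B`.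

The proof does not use the MEM packages: if `xLm σ i k t` is not in the group then `xL σ i k t = 1`.
-/

namespace Cfsg.Agent.Lib.Helper41_StSU_R2L

open Matrix Cfsg.Agent.Lib.Helper68_MatGrp Cfsg.Agent.Lib.Helper27_StSUDefs
  Cfsg.Agent.Lib.Helper27_StSUBasic

variable {n : ℕ} {F : Type*} [Field F] (σ : F →+* F)

/-- the matrix of `mkE σ M` is `M`, or `mkE σ M = 1` -/
theorem mkE_val_or (M : Matrix (Fin n) (Fin n) F) : (mkE σ M).1.1 = M ∨ mkE σ M = 1 := by
  classical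
  by_cases h : M.det = 1 ∧ Mᵀ * Jm n F * M.map σ = Jm n F
  · exact Or.inl (mkE_val σ h.1 h.2)
  · right
    unfold mkE
    rw [dif_neg h]

/-- conjugation by a monomial element: it suffices to look at the entries `(π a, π b)` -/
theorem conj_mem_Bsu (x g : ↥(SUJ n σ)) (π : Equiv.Perm (Fin n)) (hg : IsMono (φ n σ) g π)
    (hx : ∀ a b : Fin n, b < a → x.1.1 (π a) (π b) = 0) : g⁻¹ * x * g ∈ Bsu n σ := by
  rw [mem_Bsu]
  intro a b hba
  have h := hg.conj_apply x a b
  rw [φ_apply, φ_apply, φ_apply] at h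
  rw [h, hx a b hba, mul_zero, zero_mul]

theorem r2L_key (i k : Fin n) (g : ↥(SUJ n σ)) (π : Equiv.Perm (Fin n))
    (hg : IsMono (φ n σ) g π) (hrev : ∀ a, π (Fin.rev a) = Fin.rev (π a))
    (hlt : π⁻¹ i < π⁻¹ k) (t : F) : g⁻¹ * xL σ i k t * g ∈ Bsu n σ := by
  rcases mkE_val_or σ (xLm σ i k t) with hM | h1
  · refine conj_mem_Bsu σ _ g π hg fun a b hba => ?_
    show (mkE σ (xLm σ i k t)).1.1 (π a) (π b) = 0
    rw [hM]
    have hne : π a ≠ π b := fun h => (ne_of_gt hba) (π.injective h)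
    have e1 : ¬ (i = π a ∧ k = π b) := by
      rintro ⟨rfl, rfl⟩
      rw [perm_inv_apply, perm_inv_apply] at hlt
      exact lt_asymm hlt hba
    have e2 : ¬ (Fin.rev k = π a ∧ Fin.rev i = π b) := by
      rintro ⟨hk, hi⟩
      have hk' : k = π (Fin.rev a) := by rw [hrev, ← hk, Fin.rev_rev]
      have hi' : i = π (Fin.rev b) := by rw [hrev, ← hi, Fin.rev_rev]
      rw [hk', hi', perm_inv_apply, perm_inv_apply, Fin.rev_lt_rev] at hlt
      exact lt_asymm hlt hba
    unfold xLm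
    rw [Matrix.sub_apply, Matrix.add_apply, Matrix.one_apply_ne hne, Matrix.single_apply,
      Matrix.single_apply, if_neg e1, if_neg e2, add_zero, sub_zero]
  · have h1' : xL σ i k t = 1 := h1
    rw [h1', mul_one, inv_mul_cancel]
    exact Subgroup.one_mem _

theorem r2L (hσ : ∀ x, σ (σ x) = x) (i k : Fin n) (h1 : i ≠ k) (h2 : i ≠ Fin.rev k) (h3 : i ≠ Fin.rev i)
    (h4 : k ≠ Fin.rev k) (g : ↥(SUJ n σ)) (π : Equiv.Perm (Fin n)) (hg : IsMono (φ n σ) g π)
    (hrev : ∀ a, π (Fin.rev a) = Fin.rev (π a)) :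
    (∀ t : F, g⁻¹ * xL σ i k t * g ∈ Bsu n σ) ∨ (∀ t : F, g⁻¹ * xL σ k i t * g ∈ Bsu n σ) := by
  rcases lt_trichotomy (π⁻¹ i) (π⁻¹ k) with h | h | h
  · exact Or.inl fun t => r2L_key σ i k g π hg hrev h t
  · exact absurd (π⁻¹.injective h) h1
  · exact Or.inr fun t => r2L_key σ k i g π hg hrev h t

end Cfsg.Agent.Lib.Helper41_StSU_R2L
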