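/-
StSU market (architect helper27, statement S2546), package GRPL: the group law of the root elements of
type L, `xL σ i k s * xL σ i k t = xL σ i k (s + t)` and `xL σ i k 0 = 1`.  The membership of the matrix
`xLm σ i k t` in the group is proven here directly (`single`-algebra), so that the file does not depend
on the package MEML.
-/
import Mathlib
import Cfsg.Agent.Lib.Helper27_StSUDefs
import Cfsg.Agent.Lib.Helper27_StSUBasic

set_option autoImplicit false
set_option linter.unusedSectionVars false
set_option linter.unusedVariables false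

namespace Cfsg.Agent.Lib.Helper43_StSU_GRPL

open Matrix Cfsg.Agent.Lib.Helper68_MatGrp Cfsg.Agent.Lib.Helper27_StSUDefs
  Cfsg.Agent.Lib.Helper27_StSUBasic

variable {n : ℕ} {F : Type*} [Field F] (σ : F →+* F)

theorem Jm_mul_single (a b : Fin n) (c : F) : Jm n F * single a b c = single (Fin.rev a) b c := by
  ext x y
  rw [Jm_mul_apply, single_apply, single_apply]
  by_cases h : a = Fin.rev x
  · have : Fin.rev a = x := by rw [h, Fin.rev_rev]
    simp [h]
  · have : Fin.rev a ≠ x := fun h' => h (by rw [← h', Fin.rev_rev])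
    simp [h, this]

theorem single_mul_Jm (a b : Fin n) (c : F) : single a b c * Jm n F = single a (Fin.rev b) c := by
  ext x y
  rw [mul_Jm_apply, single_apply, single_apply]
  by_cases h : b = Fin.rev y
  · have : Fin.rev b = y := by rw [h, Fin.rev_rev]
    simp [h]
  · have : Fin.rev b ≠ y := fun h' => h (by rw [← h', Fin.rev_rev])
    simp [h, this]

/-- the matrix `xLm σ i k t` lies in the group (a proof of the first statement of MEML) -/
theorem xLm_mem_aux (hσ : ∀ x, σ (σ x) = x) (i k : Fin n) (h1 : i ≠ k) (h2 : i ≠ Fin.rev k)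
    (h3 : i ≠ Fin.rev i) (h4 : k ≠ Fin.rev k) (t : F) :
    (xLm σ i k t).det = 1 ∧ (xLm σ i k t)ᵀ * Jm n F * (xLm σ i k t).map σ = Jm n F := by
  have h1' : Fin.rev i ≠ Fin.rev k := fun h => h1 (Fin.rev_injective h)
  constructor
  · have e : xLm σ i k t = transvection i k t * transvection (Fin.rev k) (Fin.rev i) (-σ t) := by
      unfold xLm transvection
      have e2 : single i k t * single (Fin.rev k) (Fin.rev i) (-σ t) = 0 :=
        single_mul_single_of_ne _ _ _ _ h4 _
      rw [Matrix.add_mul, Matrix.mul_add, Matrix.mul_add, e2, Matrix.one_mul, Matrix.mul_one,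
        Matrix.one_mul, ← single_neg]
      abel
    rw [e, det_mul, det_transvection_of_ne _ _ h1, det_transvection_of_ne _ _ (Ne.symm h1'), one_mul]
  · unfold xLm
    rw [Matrix.map_sub σ (map_sub σ), Matrix.map_add σ (map_add σ),
      Matrix.map_one σ (map_zero σ) (map_one σ),
      map_single _ _ _ σ, map_single _ _ _ σ, hσ,
      transpose_sub, transpose_add, transpose_one, transpose_single, transpose_single,
      Matrix.sub_mul, Matrix.add_mul, Matrix.one_mul, single_mul_Jm, single_mul_Jm, Fin.rev_rev]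
    rw [Matrix.sub_mul, Matrix.add_mul, Matrix.mul_sub, Matrix.mul_sub, Matrix.mul_sub,
      Matrix.mul_add, Matrix.mul_add, Matrix.mul_add, Matrix.mul_one, Matrix.mul_one, Matrix.mul_one,
      Jm_mul_single, Jm_mul_single, Fin.rev_rev,
      single_mul_single_of_ne _ _ _ _ (Ne.symm h3),
      single_mul_single_of_ne _ _ _ _ h1',
      single_mul_single_of_ne _ _ _ _ (Ne.symm h1),
      single_mul_single_of_ne _ _ _ _ h4]
    abel

/-- the matrix of `xL σ i k t` (the VAL lemma of the packages file) -/
theorem xL_val_aux (hσ : ∀ x, σ (σ x) = x) (i k : Fin n) (h1 : i ≠ k) (h2 : i ≠ Fin.rev k)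
    (h3 : i ≠ Fin.rev i) (h4 : k ≠ Fin.rev k) (t : F) : (xL σ i k t).1.1 = xLm σ i k t :=
  mkE_val σ (xLm_mem_aux σ hσ i k h1 h2 h3 h4 t).1 (xLm_mem_aux σ hσ i k h1 h2 h3 h4 t).2

/-- the matrix identity behind `xL_mul` -/
theorem xLm_mul (i k : Fin n) (h1 : i ≠ k) (h3 : i ≠ Fin.rev i)
    (h4 : k ≠ Fin.rev k) (s t : F) : xLm σ i k s * xLm σ i k t = xLm σ i k (s + t) := by
  unfold xLm
  have h1' : Fin.rev i ≠ Fin.rev k := fun h => h1 (Fin.rev_injective h)
  have e1 : single i k s * single i k t = 0 := single_mul_single_of_ne _ _ _ _ (Ne.symm h1) _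
  have e2 : single i k s * single (Fin.rev k) (Fin.rev i) (σ t) = 0 :=
    single_mul_single_of_ne _ _ _ _ h4 _
  have e3 : single (Fin.rev k) (Fin.rev i) (σ s) * single i k t = 0 :=
    single_mul_single_of_ne _ _ _ _ (Ne.symm h3) _
  have e4 : single (Fin.rev k) (Fin.rev i) (σ s) * single (Fin.rev k) (Fin.rev i) (σ t) = 0 :=
    single_mul_single_of_ne _ _ _ _ h1' _
  rw [map_add, single_add, single_add]
  calc (1 + single i k s - single (Fin.rev k) (Fin.rev i) (σ s)) *
        (1 + single i k t - single (Fin.rev k) (Fin.rev i) (σ t))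
      = 1 + single i k t - single (Fin.rev k) (Fin.rev i) (σ t) + single i k s
        - single (Fin.rev k) (Fin.rev i) (σ s)
        + single i k s * single i k t
        - single i k s * single (Fin.rev k) (Fin.rev i) (σ t)
        - single (Fin.rev k) (Fin.rev i) (σ s) * single i k t
        + single (Fin.rev k) (Fin.rev i) (σ s) * single (Fin.rev k) (Fin.rev i) (σ t) := by
          noncomm_ring
    _ = _ := by
          rw [e1, e2, e3, e4]
          abel

theorem xL_mul (hσ : ∀ x, σ (σ x) = x) (i k : Fin n) (h1 : i ≠ k) (h2 : i ≠ Fin.rev k) (h3 : i ≠ Fin.rev i)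
    (h4 : k ≠ Fin.rev k) (s t : F) : xL σ i k s * xL σ i k t = xL σ i k (s + t) := by
  apply ext_val σ
  rw [mul_val, xL_val_aux σ hσ i k h1 h2 h3 h4, xL_val_aux σ hσ i k h1 h2 h3 h4,
    xL_val_aux σ hσ i k h1 h2 h3 h4, xLm_mul σ i k h1 h3 h4]

theorem xL_zero (i k : Fin n) : xL σ i k 0 = 1 := by
  have h0 : xLm σ i k 0 = 1 := by
    unfold xLm
    rw [map_zero, single_zero, single_zero, add_zero, sub_zero]
  unfold xL
  rw [h0]
  refine mkE_eq σ det_one ?_ (one_val σ)
  rw [transpose_one, Matrix.map_one σ (map_zero σ) (map_one σ), Matrix.one_mul, Matrix.mul_one]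

end Cfsg.Agent.Lib.Helper43_StSU_GRPL
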