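import Mathlib
import Cfsg.Agent.Lib.Helper27_StSUDefs
import Cfsg.Agent.Lib.Helper27_StSUBasic
import Cfsg.Agent.Lib.Helper5_SUOrder
import Cfsg.Agent.Lib.Helper81_SUSiegel
import Cfsg.Agent.Lib.Helper94_HermBridge
import Cfsg.Agent.Lib.Helper44_HermOrtho

/-!
# S2546 package ISO (architect helper27): `SUJ n (powQ hF) ≃* Cfsg.SU n F q`.
-/

set_option autoImplicit false
set_option linter.unusedSectionVars false
set_option linter.unusedVariables false

namespace Cfsg.Agent.Lib.Helper44_StSU_ISO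

open Matrix Cfsg.Agent.Lib.Helper68_MatGrp Cfsg.Agent.Lib.Helper27_StSUDefs
  Cfsg.Agent.Lib.Helper27_StSUBasic

section generic

variable {n : ℕ} {F : Type*} [Field F]

/-- conjugation `g ↦ a g b` (`a b = 1`) on `SL_n` -/
def conjSL (a b : Matrix (Fin n) (Fin n) F) (hab : a * b = 1)
    (g : Matrix.SpecialLinearGroup (Fin n) F) : Matrix.SpecialLinearGroup (Fin n) F :=
  ⟨a * g.1 * b, by
    rw [Matrix.det_mul, Matrix.det_mul, g.2, mul_one, ← Matrix.det_mul, hab, Matrix.det_one]⟩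

theorem conjSL_val (a b : Matrix (Fin n) (Fin n) F) (hab : a * b = 1)
    (g : Matrix.SpecialLinearGroup (Fin n) F) : (conjSL a b hab g).1 = a * g.1 * b := rfl

/-- conjugation as an isomorphism between two subgroups of `SL_n` -/
def conjEquiv (a b : Matrix (Fin n) (Fin n) F) (hab : a * b = 1) (hba : b * a = 1)
    (H₁ H₂ : Subgroup (Matrix.SpecialLinearGroup (Fin n) F))
    (h12 : ∀ g ∈ H₁, conjSL b a hba g ∈ H₂) (h21 : ∀ g ∈ H₂, conjSL a b hab g ∈ H₁) :
    ↥H₁ ≃* ↥H₂ where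
  toFun g := ⟨conjSL b a hba g.1, h12 _ g.2⟩
  invFun g := ⟨conjSL a b hab g.1, h21 _ g.2⟩
  left_inv g := by
    apply Subtype.ext
    apply Subtype.ext
    show a * (b * g.1.1 * a) * b = g.1.1
    calc a * (b * g.1.1 * a) * b = (a * b) * g.1.1 * (a * b) := by simp only [Matrix.mul_assoc]
      _ = g.1.1 := by rw [hab, Matrix.one_mul, Matrix.mul_one]
  right_inv g := by
    apply Subtype.ext
    apply Subtype.ext
    show b * (a * g.1.1 * b) * a = g.1.1
    calc b * (a * g.1.1 * b) * a = (b * a) * g.1.1 * (b * a) := by simp only [Matrix.mul_assoc]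
      _ = g.1.1 := by rw [hba, Matrix.one_mul, Matrix.mul_one]
  map_mul' g h := by
    apply Subtype.ext
    apply Subtype.ext
    show b * (g.1.1 * h.1.1) * a = (b * g.1.1 * a) * (b * h.1.1 * a)
    calc b * (g.1.1 * h.1.1) * a = b * g.1.1 * 1 * h.1.1 * a := by
          rw [Matrix.mul_one]; simp only [Matrix.mul_assoc]
      _ = (b * g.1.1 * a) * (b * h.1.1 * a) := by rw [← hab]; simp only [Matrix.mul_assoc]

end generic

variable {n : ℕ} {F : Type*} [Field F]

theorem exists_iso [Fintype F] {q : ℕ} (hF : Fintype.card F = q ^ 2) :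
    Nonempty (↥(SUJ n (Cfsg.Agent.Lib.Helper5_SUOrder.powQ hF)) ≃* ↥(Cfsg.SU n F q)) := by
  classical
  set σ : F →+* F := Cfsg.Agent.Lib.Helper5_SUOrder.powQ hF with hσdef
  -- `σ` is a nontrivial involution
  have hInv : Cfsg.Agent.Lib.Helper94_Herm.Invol σ := by
    obtain ⟨τ, hτq, hτ⟩ := Cfsg.Agent.Lib.Helper94_HermBridge.exists_frob hF
    have : τ = σ := RingHom.ext (fun x => by rw [hτq]; rfl)
    rw [← this]; exact hτ
  have hmap1 : (1 : Matrix (Fin n) (Fin n) F).map σ = 1 :=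
    Matrix.map_one σ (map_zero σ) (map_one σ)
  -- `J` is congruent to `1`
  have hdetJ : (Jm n F).det ≠ 0 := by
    intro h0
    have := congrArg Matrix.det (Jm_mul_Jm (n := n) (F := F))
    rw [Matrix.det_mul, h0, Matrix.det_one, zero_mul] at this
    exact zero_ne_one this
  obtain ⟨a, ha⟩ := Cfsg.Agent.Lib.Helper44_HermOrtho.exists_congr_one (Jm n F) σ hInv
    ((Jm_transpose (n := n) (F := F)).trans (Jm_map σ).symm) hdetJ
  -- `a` is invertible
  have hdeta : a.det ≠ 0 := by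
    intro h0
    have := congrArg Matrix.det ha
    rw [Matrix.det_mul, Matrix.det_mul, Matrix.det_transpose, h0, zero_mul, zero_mul,
      Matrix.det_one] at this
    exact zero_ne_one this
  have hau : IsUnit a.det := isUnit_iff_ne_zero.2 hdeta
  set b : Matrix (Fin n) (Fin n) F := a⁻¹ with hbdef
  have hab : a * b = 1 := Matrix.mul_nonsing_inv a hau
  have hba : b * a = 1 := Matrix.nonsing_inv_mul a hau
  have habT : bᵀ * aᵀ = 1 := by rw [← Matrix.transpose_mul, hab, Matrix.transpose_one]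
  have hbaT : aᵀ * bᵀ = 1 := by rw [← Matrix.transpose_mul, hba, Matrix.transpose_one]
  have habσ : a.map σ * b.map σ = 1 := by rw [← Matrix.map_mul, hab, hmap1]
  have hbaσ : b.map σ * a.map σ = 1 := by rw [← Matrix.map_mul, hba, hmap1]
  -- `J = bᵀ b^σ`
  have hJ : Jm n F = bᵀ * b.map σ := by
    calc Jm n F = (bᵀ * aᵀ) * Jm n F * (a.map σ * b.map σ) := by
          rw [habT, habσ, Matrix.one_mul, Matrix.mul_one]
      _ = bᵀ * (aᵀ * Jm n F * a.map σ) * b.map σ := by simp only [Matrix.mul_assoc]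
      _ = bᵀ * b.map σ := by rw [ha, Matrix.mul_one]
  -- characterisation of `Cfsg.SU`
  have hSU : ∀ s : Matrix.SpecialLinearGroup (Fin n) F,
      s ∈ Cfsg.SU n F q ↔ s.1ᵀ * s.1.map σ = 1 := by
    intro s
    rw [Cfsg.Agent.Lib.Helper5_SUOrder.mem_SU_iff]
    constructor
    · intro h
      exact Cfsg.Agent.Lib.Helper5_SUOrder.transpose_mul_map_of_isU hF h
    · intro h
      apply Cfsg.Agent.Lib.Helper81_SUSiegel.isU_of_ct hF
      show (s.1.map σ)ᵀ * s.1 = 1
      have := congrArg Matrix.transpose h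
      rw [Matrix.transpose_mul, Matrix.transpose_transpose, Matrix.transpose_one] at this
      exact this
  refine ⟨conjEquiv a b hab hba (SUJ n σ) (Cfsg.SU n F q) ?_ ?_⟩
  · -- `g ∈ SUJ ⟹ b g a ∈ SU`
    intro g hg
    rw [mem_SUJ] at hg
    rw [hSU, conjSL_val, Matrix.transpose_mul, Matrix.transpose_mul, Matrix.map_mul, Matrix.map_mul]
    calc aᵀ * (g.1ᵀ * bᵀ) * (b.map σ * g.1.map σ * a.map σ)
        = aᵀ * (g.1ᵀ * (bᵀ * b.map σ) * g.1.map σ) * a.map σ := by simp only [Matrix.mul_assoc]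
      _ = aᵀ * Jm n F * a.map σ := by rw [← hJ, hg]
      _ = 1 := ha
  · -- `g ∈ SU ⟹ a g b ∈ SUJ`
    intro g hg
    rw [hSU] at hg
    rw [mem_SUJ, conjSL_val, Matrix.transpose_mul, Matrix.transpose_mul, Matrix.map_mul,
      Matrix.map_mul]
    calc bᵀ * (g.1ᵀ * aᵀ) * Jm n F * (a.map σ * g.1.map σ * b.map σ)
        = bᵀ * (g.1ᵀ * (aᵀ * Jm n F * a.map σ) * g.1.map σ) * b.map σ := by
          simp only [Matrix.mul_assoc]
      _ = bᵀ * (g.1ᵀ * g.1.map σ) * b.map σ := by rw [ha, Matrix.mul_one]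
      _ = Jm n F := by rw [hg, Matrix.mul_one, ← hJ]

end Cfsg.Agent.Lib.Helper44_StSU_ISO
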