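import Mathlib
import Cfsg.Agent.Lib.Helper27_StSUDefs
import Cfsg.Agent.Lib.Helper27_StSUBasic
import Cfsg.Agent.Lib.Helper30_StSU_MEML

set_option autoImplicit false
set_option linter.unusedSectionVars false
set_option linter.unusedVariables false

namespace Cfsg.Agent.Lib.Helper52_StSU_R1L

open Matrix Cfsg.Agent.Lib.Helper68_MatGrp Cfsg.Agent.Lib.Helper27_StSUDefs
  Cfsg.Agent.Lib.Helper27_StSUBasic

variable {n : ℕ} {F : Type*} [Field F] (σ : F →+* F)

/-- the diagonal entries of an upper triangular element are non-zero -/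
theorem diag_ne_zero {g : ↥(SUJ n σ)} (hg : g ∈ Bsu n σ) (a : Fin n) : g.1.1 a a ≠ 0 := by
  have hinv : g⁻¹ ∈ Bsu n σ := inv_mem hg
  have h1 : (g.1.1 * (g⁻¹).1.1) a a = 1 := by rw [mul_inv_val, Matrix.one_apply_eq]
  rw [Matrix.mul_apply, Finset.sum_eq_single a] at h1
  · intro h0
    rw [h0, zero_mul] at h1
    exact zero_ne_one h1
  · intro x _ hx
    rcases lt_or_gt_of_ne hx with h | h
    · rw [(mem_Bsu σ).1 hg a x h, zero_mul]
    · rw [(mem_Bsu σ).1 hinv x a h, mul_zero]
  · intro h; exact absurd (Finset.mem_univ _) h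

/-- the values of the permutation `(i k)(i' k')` for adjacent `i, k` below the middle -/
theorem permL_val (i k : Fin n) (hk : i.val + 1 = k.val) (hkn : k.val < n / 2) (p : Fin n) :
    ((permL i k) p).val = if p.val = i.val then k.val else if p.val = k.val then i.val
      else if p.val = n - 1 - i.val then n - 1 - k.val
      else if p.val = n - 1 - k.val then n - 1 - i.val else p.val := by
  unfold permL
  rw [Equiv.Perm.mul_apply, Equiv.swap_apply_def, Equiv.swap_apply_def]
  have hi := i.2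
  have hk2 := k.2
  have hp := p.2
  have hri : (Fin.rev i).val = n - (i.val + 1) := Fin.val_rev i
  have hrk : (Fin.rev k).val = n - (k.val + 1) := Fin.val_rev k
  simp only [Fin.ext_iff]
  split_ifs <;> omega

/-- (R1) for a type L simple root, from the matrices of `xL` and `wL` -/
theorem r1L_aux (hσ : ∀ x, σ (σ x) = x) (i k : Fin n) (hk : i.val + 1 = k.val) (hkn : k.val < n / 2)
    (hxv : ∀ t : F, (xL σ i k t).1.1 = xLm σ i k t)
    (hwv : (wL σ i k).1.1 = (wLm i k : Matrix (Fin n) (Fin n) F))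
    (b : ↥(SUJ n σ)) (hb : b ∈ Bsu n σ) :
    ∃ t : F, wL σ i k * (b * (xL σ i k t)⁻¹) * (wL σ i k)⁻¹ ∈ Bsu n σ := by
  have hi := i.2
  have hk2 := k.2
  have hri : (Fin.rev i).val = n - (i.val + 1) := Fin.val_rev i
  have hrk : (Fin.rev k).val = n - (k.val + 1) := Fin.val_rev k
  have h1 : i ≠ k := by intro h; rw [Fin.ext_iff] at h; omega
  have h2 : i ≠ Fin.rev k := by intro h; rw [Fin.ext_iff] at h; omega
  have h3 : i ≠ Fin.rev i := by intro h; rw [Fin.ext_iff] at h; omega
  have h4 : k ≠ Fin.rev k := by intro h; rw [Fin.ext_iff] at h; omega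
  have h5 : k ≠ Fin.rev i := by intro h; rw [Fin.ext_iff] at h; omega
  have h6 : Fin.rev k ≠ Fin.rev i := by intro h; rw [Fin.ext_iff] at h; omega
  have hbii : b.1.1 i i ≠ 0 := diag_ne_zero σ hb i
  refine ⟨b.1.1 i k / b.1.1 i i, ?_⟩
  set t : F := b.1.1 i k / b.1.1 i i with ht
  set u : ↥(SUJ n σ) := xL σ i k t with hu
  set w : ↥(SUJ n σ) := wL σ i k with hw
  set c : ↥(SUJ n σ) := b * u⁻¹ with hc
  have hU : u.1.1 = 1 + single i k t - single (Fin.rev k) (Fin.rev i) (σ t) := hxv t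
  -- `u ∈ Bsu`
  have huB : u ∈ Bsu n σ := by
    rw [mem_Bsu]
    intro a y hya
    rw [hU, Matrix.sub_apply, Matrix.add_apply, Matrix.one_apply_ne (ne_of_gt hya),
      Matrix.single_apply, Matrix.single_apply, if_neg, if_neg]
    · simp
    · rintro ⟨rfl, rfl⟩
      rw [Fin.lt_def] at hya
      omega
    · rintro ⟨rfl, rfl⟩
      rw [Fin.lt_def] at hya
      omega
  have hcB : c ∈ Bsu n σ := mul_mem hb (inv_mem huB)
  have hcinvB : c⁻¹ ∈ Bsu n σ := inv_mem hcB
  have hcu : c * u = b := by rw [hc, inv_mul_cancel_right]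
  have hCU : c.1.1 * u.1.1 = b.1.1 := by rw [← mul_val, hcu]
  -- the entries `(i, i)` and `(i, k)` of `c`
  have e1 : c.1.1 i i = b.1.1 i i := by
    have := congrFun (congrFun hCU i) i
    rw [hU, Matrix.mul_sub, Matrix.mul_add, Matrix.mul_one, Matrix.sub_apply, Matrix.add_apply,
      Matrix.mul_single_apply_of_ne _ _ _ _ _ h1, Matrix.mul_single_apply_of_ne _ _ _ _ _ h3,
      add_zero, sub_zero] at this
    exact this
  have e2 : c.1.1 i k = 0 := by
    have := congrFun (congrFun hCU i) k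
    rw [hU, Matrix.mul_sub, Matrix.mul_add, Matrix.mul_one, Matrix.sub_apply, Matrix.add_apply,
      Matrix.mul_single_apply_same, Matrix.mul_single_apply_of_ne _ _ _ _ _ h5,
      sub_zero, e1, ht, mul_div_cancel₀ _ hbii] at this
    exact add_eq_right.mp this
  -- the entry `(k', i')` of `c`
  have e3 : (c⁻¹).1.1 i k = 0 := by
    have h := congrFun (congrFun (mul_inv_val σ c) i) k
    rw [Matrix.one_apply_ne h1, Matrix.mul_apply,
      Finset.sum_eq_add i k h1] at h
    · rw [e2, zero_mul, add_zero] at h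
      rcases mul_eq_zero.mp h with h' | h'
      · rw [e1] at h'
        exact absurd h' hbii
      · exact h'
    · intro x _ hx
      by_cases hxi : x < i
      · rw [(mem_Bsu σ).1 hcB i x hxi, zero_mul]
      · have hxk : k < x := by
          rw [Fin.lt_def] at hxi ⊢
          have h7 : x.val ≠ i.val := fun h => hx.1 (Fin.ext h)
          have h8 : x.val ≠ k.val := fun h => hx.2 (Fin.ext h)
          omega
        rw [(mem_Bsu σ).1 hcinvB x k hxk, mul_zero]
    · intro h; exact absurd (Finset.mem_univ _) h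
    · intro h; exact absurd (Finset.mem_univ _) h
  have e4 : c.1.1 (Fin.rev k) (Fin.rev i) = 0 := by
    rw [inv_apply σ hσ] at e3
    exact (map_eq_zero σ).1 e3
  -- the key vanishing
  have key : ∀ p q : Fin n, permL i k q < permL i k p → c.1.1 p q = 0 := by
    intro p q hlt
    have hp := permL_val i k hk hkn p
    have hq := permL_val i k hk hkn q
    rw [Fin.lt_def] at hlt
    by_cases hqp : q < p
    · exact (mem_Bsu σ).1 hcB p q hqp
    · have hcase : (p = i ∧ q = k) ∨ (p = Fin.rev k ∧ q = Fin.rev i) := by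
        simp only [Fin.ext_iff]
        rw [Fin.lt_def] at hqp
        have hp2 := p.2
        have hq2 := q.2
        split_ifs at hp hq <;> omega
      rcases hcase with ⟨rfl, rfl⟩ | ⟨rfl, rfl⟩
      · exact e2
      · exact e4
  -- `w` is monomial
  have hwm : IsMono (φ n σ) w (permL i k) := by
    intro a y hay
    show w.1.1 a y = 0
    rw [hwv, wLm_apply, if_neg hay]
  have hwm' : IsMono (φ n σ) w⁻¹ (permL i k)⁻¹ := hwm.inv
  rw [mem_Bsu]
  intro x y hyx
  have h9 := hwm'.conj_apply c x y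
  rw [inv_inv] at h9
  rw [φ_apply] at h9
  rw [h9]
  have h10 : φ n σ c ((permL i k)⁻¹ x) ((permL i k)⁻¹ y) = 0 := by
    rw [φ_apply]
    apply key
    rw [perm_apply_inv, perm_apply_inv]
    exact hyx
  rw [h10, mul_zero, zero_mul]

/-- R1L: (R1) for a type L simple root -/
theorem r1L (hσ : ∀ x, σ (σ x) = x) (i k : Fin n) (hk : i.val + 1 = k.val) (hkn : k.val < n / 2)
    (b : ↥(SUJ n σ)) (hb : b ∈ Bsu n σ) :
    ∃ t : F, wL σ i k * (b * (xL σ i k t)⁻¹) * (wL σ i k)⁻¹ ∈ Bsu n σ := by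
  have hi := i.2
  have hk2 := k.2
  have hri : (Fin.rev i).val = n - (i.val + 1) := Fin.val_rev i
  have hrk : (Fin.rev k).val = n - (k.val + 1) := Fin.val_rev k
  have h1 : i ≠ k := by intro h; rw [Fin.ext_iff] at h; omega
  have h2 : i ≠ Fin.rev k := by intro h; rw [Fin.ext_iff] at h; omega
  have h3 : i ≠ Fin.rev i := by intro h; rw [Fin.ext_iff] at h; omega
  have h4 : k ≠ Fin.rev k := by intro h; rw [Fin.ext_iff] at h; omega
  refine r1L_aux σ hσ i k hk hkn (fun t => ?_) ?_ b hb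
  · exact mkE_val σ (Cfsg.Agent.Lib.Helper30_StSU_MEML.xLm_mem σ hσ i k h1 h2 h3 h4 t).1
      (Cfsg.Agent.Lib.Helper30_StSU_MEML.xLm_mem σ hσ i k h1 h2 h3 h4 t).2
  · exact mkE_val σ (Cfsg.Agent.Lib.Helper30_StSU_MEML.wLm_mem σ i k h1 h2 h3 h4).1
      (Cfsg.Agent.Lib.Helper30_StSU_MEML.wLm_mem σ i k h1 h2 h3 h4).2

end Cfsg.Agent.Lib.Helper52_StSU_R1L
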