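import Mathlib
import Cfsg.Agent.Lib.Helper27_StSUDefs
import Cfsg.Agent.Lib.Helper27_StSUBasic

set_option autoImplicit false
set_option linter.unusedSectionVars false
set_option linter.unusedVariables false

/-!
# S2546 package XBX (architect helper27): the positive root elements of type X lie in `B`, the negative ones do not.
(The membership of `xXm i t` in the group is proved here directly, so that the file does not depend on MEMX.)
-/

namespace Cfsg.Agent.Lib.Helper53_StSU_XBX

open Matrix Cfsg.Agent.Lib.Helper68_MatGrp Cfsg.Agent.Lib.Helper27_StSUDefs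
  Cfsg.Agent.Lib.Helper27_StSUBasic

variable {n : ℕ} {F : Type*} [Field F] (σ : F →+* F)

theorem single_mul_Jm (a b : Fin n) (t : F) : single a b t * Jm n F = single a (Fin.rev b) t := by
  ext x y
  rw [mul_Jm_apply, single_apply, single_apply]
  by_cases h : b = Fin.rev y
  · have h' : Fin.rev b = y := by rw [h, Fin.rev_rev]
    simp [h]
  · have h' : ¬ Fin.rev b = y := fun h2 => h (by rw [← h2, Fin.rev_rev])
    simp [h, h']

theorem Jm_mul_single (a b : Fin n) (t : F) : Jm n F * single a b t = single (Fin.rev a) b t := by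
  ext x y
  rw [Jm_mul_apply, single_apply, single_apply]
  by_cases h : a = Fin.rev x
  · have h' : Fin.rev a = x := by rw [h, Fin.rev_rev]
    simp [h]
  · have h' : ¬ Fin.rev a = x := fun h2 => h (by rw [← h2, Fin.rev_rev])
    simp [h, h']

/-- the matrix `xXm i t` lies in the group -/
theorem xXm_mem' (i : Fin n) (h : i ≠ Fin.rev i) (t : F) (ht : σ t = -t) :
    (xXm i t).det = 1 ∧ (xXm i t)ᵀ * Jm n F * (xXm i t).map σ = Jm n F := by
  constructor
  · exact Matrix.det_transvection_of_ne i (Fin.rev i) h t
  · unfold xXm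
    have e1 : (1 + single i (Fin.rev i) t : Matrix (Fin n) (Fin n) F)ᵀ = 1 + single (Fin.rev i) i t := by
      rw [transpose_add, transpose_one, transpose_single]
    have e2 : (1 + single i (Fin.rev i) t : Matrix (Fin n) (Fin n) F).map σ =
        1 + single i (Fin.rev i) (σ t) := by
      ext x y
      rw [map_apply, Matrix.add_apply, Matrix.add_apply, map_add, single_apply, single_apply, one_apply,
        apply_ite σ, apply_ite σ, map_one, map_zero]
    have hA : single (Fin.rev i) i t * Jm n F = single (Fin.rev i) (Fin.rev i) t :=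
      single_mul_Jm (Fin.rev i) i t
    have hB : Jm n F * single i (Fin.rev i) (σ t) = single (Fin.rev i) (Fin.rev i) (σ t) :=
      Jm_mul_single i (Fin.rev i) (σ t)
    have hAB : single (Fin.rev i) (Fin.rev i) t * single i (Fin.rev i) (σ t) =
        (0 : Matrix (Fin n) (Fin n) F) :=
      single_mul_single_of_ne t (Fin.rev i) (Fin.rev i) i (fun h2 => h h2.symm) (σ t)
    rw [e1, e2]
    calc (1 + single (Fin.rev i) i t) * Jm n F * (1 + single i (Fin.rev i) (σ t))
        = Jm n F + single (Fin.rev i) i t * Jm n F + (Jm n F * single i (Fin.rev i) (σ t) +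
          single (Fin.rev i) i t * Jm n F * single i (Fin.rev i) (σ t)) := by
          rw [Matrix.add_mul, Matrix.one_mul, Matrix.mul_add, Matrix.mul_one, Matrix.add_mul]
      _ = Jm n F := by
          rw [hA, hB, hAB, add_zero, ht, add_assoc, ← single_add, add_neg_cancel, single_zero,
            add_zero]

theorem xX_val' (i : Fin n) (h : i ≠ Fin.rev i) (t : F) (ht : σ t = -t) : (xX σ i t).1.1 = xXm i t :=
  mkE_val σ (xXm_mem' σ i h t ht).1 (xXm_mem' σ i h t ht).2

theorem xX_mem_Bsu (i : Fin n) (hlt : i < Fin.rev i) (t : F) (ht : σ t = -t) : xX σ i t ∈ Bsu n σ := by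
  rw [mem_Bsu, xX_val' σ i hlt.ne t ht]
  intro a b hba
  unfold xXm
  rw [Matrix.add_apply, one_apply_ne hba.ne', zero_add, single_apply, if_neg]
  rintro ⟨rfl, rfl⟩
  exact absurd hlt (not_lt.mpr hba.le)

theorem xX_not_mem_Bsu (i : Fin n) (hlt : i < Fin.rev i) (t : F) (ht : σ t = -t) (ht0 : t ≠ 0) :
    xX σ (Fin.rev i) t ∉ Bsu n σ := by
  intro hmem
  have hne : Fin.rev i ≠ Fin.rev (Fin.rev i) := by
    rw [Fin.rev_rev]; exact hlt.ne'
  rw [mem_Bsu, xX_val' σ (Fin.rev i) hne t ht] at hmem
  have h1 := hmem (Fin.rev i) i hlt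
  unfold xXm at h1
  rw [Matrix.add_apply, one_apply_ne hlt.ne', zero_add, Fin.rev_rev, single_apply_same] at h1
  exact ht0 h1

end Cfsg.Agent.Lib.Helper53_StSU_XBX
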