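/-
StSU market (architect helper27, statement S2546), package GRPX: the group law of the root elements of type X,
`xX σ i s * xX σ i t = xX σ i (s + t)` and `xX σ i 0 = 1`.  The membership of the matrix `xXm i t` in the
group is proven here directly (entrywise), so that the file does not depend on the package MEMX.
-/
import Mathlib
import Cfsg.Agent.Lib.Helper27_StSUDefs
import Cfsg.Agent.Lib.Helper27_StSUBasic

set_option autoImplicit false
set_option linter.unusedSectionVars false
set_option linter.unusedVariables false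

namespace Cfsg.Agent.Lib.Helper54_StSU_GRPX

open Matrix Cfsg.Agent.Lib.Helper68_MatGrp Cfsg.Agent.Lib.Helper27_StSUDefs
  Cfsg.Agent.Lib.Helper27_StSUBasic

variable {n : ℕ} {F : Type*} [Field F] (σ : F →+* F)

/-- the matrix `xXm i t` is the transvection `1 + t E_{i, rev i}` -/
theorem xXm_eq_transvection (i : Fin n) (t : F) : xXm i t = Matrix.transvection i (Fin.rev i) t := rfl

theorem xXm_det (i : Fin n) (h : i ≠ Fin.rev i) (t : F) : (xXm i t).det = 1 := by
  rw [xXm_eq_transvection]
  exact Matrix.det_transvection_of_ne i (Fin.rev i) h t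

theorem Jm_mul_single (a b : Fin n) (t : F) : Jm n F * single a b t = single (Fin.rev a) b t := by
  ext x y
  rw [Jm_mul_apply, Matrix.single_apply, Matrix.single_apply]
  have hiff : (a = Fin.rev x ∧ b = y) ↔ (Fin.rev a = x ∧ b = y) := by
    constructor
    · rintro ⟨h1, h2⟩
      exact ⟨by rw [h1, Fin.rev_rev], h2⟩
    · rintro ⟨h1, h2⟩
      exact ⟨by rw [← h1, Fin.rev_rev], h2⟩
  simp only [hiff]

theorem single_mul_Jm (a b : Fin n) (t : F) : single a b t * Jm n F = single a (Fin.rev b) t := by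
  ext x y
  rw [mul_Jm_apply, Matrix.single_apply, Matrix.single_apply]
  have hiff : (a = x ∧ b = Fin.rev y) ↔ (a = x ∧ Fin.rev b = y) := by
    constructor
    · rintro ⟨h1, h2⟩
      exact ⟨h1, by rw [h2, Fin.rev_rev]⟩
    · rintro ⟨h1, h2⟩
      exact ⟨h1, by rw [← h2, Fin.rev_rev]⟩
  simp only [hiff]

theorem xXm_unitary (i : Fin n) (h : i ≠ Fin.rev i) (t : F) (ht : σ t = -t) :
    (xXm i t)ᵀ * Jm n F * (xXm i t).map σ = Jm n F := by
  have hmap : (xXm i t).map σ = 1 + single i (Fin.rev i) (σ t) := by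
    unfold xXm
    rw [Matrix.map_add σ (fun a b => map_add σ a b), Matrix.map_one σ (map_zero σ) (map_one σ),
      Matrix.map_single]
  have htr : (xXm i t)ᵀ = 1 + single (Fin.rev i) i t := by
    unfold xXm
    rw [Matrix.transpose_add, Matrix.transpose_one, Matrix.transpose_single]
  rw [hmap, htr, Matrix.add_mul, Matrix.one_mul, single_mul_Jm, Matrix.mul_add, Matrix.mul_one,
    Matrix.add_mul, Jm_mul_single,
    Matrix.single_mul_single_of_ne t (Fin.rev i) (Fin.rev i) i h.symm, ht]
  have : single (Fin.rev i) (Fin.rev i) (-t) = -single (Fin.rev i) (Fin.rev i) t := by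
    rw [← Matrix.single_neg]
  rw [this]
  abel

/-- MEMX, first half (local copy) -/
theorem xXm_mem (i : Fin n) (h : i ≠ Fin.rev i) (t : F) (ht : σ t = -t) :
    (xXm i t).det = 1 ∧ (xXm i t)ᵀ * Jm n F * (xXm i t).map σ = Jm n F :=
  ⟨xXm_det i h t, xXm_unitary σ i h t ht⟩

theorem xX_val (i : Fin n) (h : i ≠ Fin.rev i) (t : F) (ht : σ t = -t) : (xX σ i t).1.1 = xXm i t :=
  mkE_val σ (xXm_mem σ i h t ht).1 (xXm_mem σ i h t ht).2

theorem xX_mul (i : Fin n) (h : i ≠ Fin.rev i) (s t : F) (hs : σ s = -s) (ht : σ t = -t) :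
    xX σ i s * xX σ i t = xX σ i (s + t) := by
  have hst : σ (s + t) = -(s + t) := by rw [map_add, hs, ht]; ring
  apply ext_val σ
  rw [mul_val, xX_val σ i h s hs, xX_val σ i h t ht, xX_val σ i h (s + t) hst]
  unfold xXm
  rw [Matrix.add_mul, Matrix.one_mul, Matrix.mul_add, Matrix.mul_one,
    Matrix.single_mul_single_of_ne s i (Fin.rev i) i h.symm, Matrix.single_add]
  abel

theorem xX_zero (i : Fin n) : xX σ i 0 = 1 := by
  have h0 : xXm i (0 : F) = 1 := by
    unfold xXm
    rw [Matrix.single_zero, add_zero]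
  unfold xX
  rw [h0]
  apply mkE_eq σ Matrix.det_one _ (one_val σ)
  rw [Matrix.transpose_one, Matrix.map_one σ (map_zero σ) (map_one σ), Matrix.one_mul, Matrix.mul_one]

end Cfsg.Agent.Lib.Helper54_StSU_GRPX
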