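/-
StSU market (architect helper27, statement S2546), package XBL: the positive root elements of type L lie in
the Borel subgroup `Bsu`, the negative ones do not.  The membership of the matrix `xLm σ i k t` in the group
is proven here directly (single-algebra), so that the file does not depend on the package MEML.
-/
import Mathlib
import Cfsg.Agent.Lib.Helper27_StSUDefs
import Cfsg.Agent.Lib.Helper27_StSUBasic
import Cfsg.Agent.Lib.Helper54_StSU_GRPX

set_option autoImplicit false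
set_option linter.unusedSectionVars false
set_option linter.unusedVariables false

namespace Cfsg.Agent.Lib.Helper54_StSU_XBL

open Matrix Cfsg.Agent.Lib.Helper68_MatGrp Cfsg.Agent.Lib.Helper27_StSUDefs
  Cfsg.Agent.Lib.Helper27_StSUBasic Cfsg.Agent.Lib.Helper54_StSU_GRPX

variable {n : ℕ} {F : Type*} [Field F] (σ : F →+* F)

theorem rev_ne_rev {a b : Fin n} (h : a ≠ b) : Fin.rev a ≠ Fin.rev b :=
  fun h' => h (Fin.rev_injective h')

theorem ne_rev_symm {a b : Fin n} (h : a ≠ Fin.rev b) : b ≠ Fin.rev a := by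
  intro h'
  apply h
  rw [h', Fin.rev_rev]

/-- `xLm` as a product of two transvections -/
theorem xLm_eq_mul (i k : Fin n) (h4 : k ≠ Fin.rev k) (t : F) :
    xLm σ i k t = Matrix.transvection i k t * Matrix.transvection (Fin.rev k) (Fin.rev i) (-σ t) := by
  unfold xLm Matrix.transvection
  rw [Matrix.add_mul, Matrix.one_mul, Matrix.mul_add, Matrix.mul_one,
    Matrix.single_mul_single_of_ne t i k (Fin.rev k) h4, ← Matrix.single_neg]
  abel

theorem xLm_det (i k : Fin n) (h1 : i ≠ k) (h4 : k ≠ Fin.rev k) (t : F) : (xLm σ i k t).det = 1 := by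
  rw [xLm_eq_mul σ i k h4, Matrix.det_mul, Matrix.det_transvection_of_ne i k h1,
    Matrix.det_transvection_of_ne _ _ (rev_ne_rev h1.symm), one_mul]

theorem xLm_unitary (hσ : ∀ x, σ (σ x) = x) (i k : Fin n) (h1 : i ≠ k) (h2 : i ≠ Fin.rev k)
    (h3 : i ≠ Fin.rev i) (h4 : k ≠ Fin.rev k) (t : F) :
    (xLm σ i k t)ᵀ * Jm n F * (xLm σ i k t).map σ = Jm n F := by
  have hmap : (xLm σ i k t).map σ = 1 + single i k (σ t) - single (Fin.rev k) (Fin.rev i) t := by
    unfold xLm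
    rw [Matrix.map_sub σ (fun a b => map_sub σ a b), Matrix.map_add σ (fun a b => map_add σ a b),
      Matrix.map_one σ (map_zero σ) (map_one σ), Matrix.map_single, Matrix.map_single, hσ]
  have htr : (xLm σ i k t)ᵀ = 1 + single k i t - single (Fin.rev i) (Fin.rev k) (σ t) := by
    unfold xLm
    rw [Matrix.transpose_sub, Matrix.transpose_add, Matrix.transpose_one, Matrix.transpose_single,
      Matrix.transpose_single]
  have e1 : single k (Fin.rev i) t * single i k (σ t) = (0 : Matrix (Fin n) (Fin n) F) :=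
    Matrix.single_mul_single_of_ne t k (Fin.rev i) i h3.symm (σ t)
  have e2 : single k (Fin.rev i) t * single (Fin.rev k) (Fin.rev i) t = (0 : Matrix (Fin n) (Fin n) F) :=
    Matrix.single_mul_single_of_ne t k (Fin.rev i) (Fin.rev k) (rev_ne_rev h1) t
  have e3 : single (Fin.rev i) k (σ t) * single i k (σ t) = (0 : Matrix (Fin n) (Fin n) F) :=
    Matrix.single_mul_single_of_ne (σ t) (Fin.rev i) k i h1.symm (σ t)
  have e4 : single (Fin.rev i) k (σ t) * single (Fin.rev k) (Fin.rev i) t = (0 : Matrix (Fin n) (Fin n) F) :=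
    Matrix.single_mul_single_of_ne (σ t) (Fin.rev i) k (Fin.rev k) h4 t
  rw [hmap, htr]
  simp only [Matrix.add_mul, Matrix.sub_mul, Matrix.one_mul, single_mul_Jm, Matrix.mul_add,
    Matrix.mul_sub, Matrix.mul_one, Jm_mul_single, Fin.rev_rev, e1, e2, e3, e4]
  abel

/-- MEML, first half (local copy) -/
theorem xLm_mem (hσ : ∀ x, σ (σ x) = x) (i k : Fin n) (h1 : i ≠ k) (h2 : i ≠ Fin.rev k) (h3 : i ≠ Fin.rev i)
    (h4 : k ≠ Fin.rev k) (t : F) :
    (xLm σ i k t).det = 1 ∧ (xLm σ i k t)ᵀ * Jm n F * (xLm σ i k t).map σ = Jm n F :=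
  ⟨xLm_det σ i k h1 h4 t, xLm_unitary σ hσ i k h1 h2 h3 h4 t⟩

theorem xL_val (hσ : ∀ x, σ (σ x) = x) (i k : Fin n) (h1 : i ≠ k) (h2 : i ≠ Fin.rev k) (h3 : i ≠ Fin.rev i)
    (h4 : k ≠ Fin.rev k) (t : F) : (xL σ i k t).1.1 = xLm σ i k t :=
  mkE_val σ (xLm_mem σ hσ i k h1 h2 h3 h4 t).1 (xLm_mem σ hσ i k h1 h2 h3 h4 t).2

theorem xL_mem_Bsu (hσ : ∀ x, σ (σ x) = x) (i k : Fin n) (hlt : i < k) (h2 : i ≠ Fin.rev k)
    (h3 : i ≠ Fin.rev i) (h4 : k ≠ Fin.rev k) (t : F) : xL σ i k t ∈ Bsu n σ := by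
  rw [mem_Bsu, xL_val σ hσ i k (ne_of_lt hlt) h2 h3 h4 t]
  intro a b hba
  unfold xLm
  rw [Matrix.sub_apply, Matrix.add_apply, Matrix.one_apply_ne (ne_of_gt hba), Matrix.single_apply,
    Matrix.single_apply, if_neg, if_neg, zero_add, sub_zero]
  · rintro ⟨h5, h6⟩
    rw [← h5, ← h6] at hba
    exact absurd hlt (not_lt.2 (le_of_lt (Fin.rev_lt_rev.1 hba)))
  · rintro ⟨h5, h6⟩
    rw [← h5, ← h6] at hba
    exact absurd hlt (not_lt.2 (le_of_lt hba))

theorem xL_not_mem_Bsu (hσ : ∀ x, σ (σ x) = x) (i k : Fin n) (hlt : i < k) (h2 : i ≠ Fin.rev k)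
    (h3 : i ≠ Fin.rev i) (h4 : k ≠ Fin.rev k) (t : F) (ht : t ≠ 0) : xL σ k i t ∉ Bsu n σ := by
  intro hmem
  rw [mem_Bsu, xL_val σ hσ k i (ne_of_gt hlt) (ne_rev_symm h2) h4 h3 t] at hmem
  have h := hmem k i hlt
  unfold xLm at h
  rw [Matrix.sub_apply, Matrix.add_apply, Matrix.one_apply_ne (ne_of_gt hlt), Matrix.single_apply_same,
    Matrix.single_apply, if_neg, zero_add, sub_zero] at h
  · exact ht h
  · rintro ⟨h5, h6⟩
    exact h2 h6.symm

end Cfsg.Agent.Lib.Helper54_StSU_XBL
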