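import Mathlib
import Cfsg.Agent.Lib.Helper27_StSUDefs
import Cfsg.Agent.Lib.Helper27_StSUBasic
import Cfsg.Agent.Lib.Helper68_StAbs
import Cfsg.Agent.Lib.Helper5_SUOrder
import Cfsg.Agent.Lib.Helper75_Clifford
import Cfsg.Agent.Lib.Helper81_SUSiegel
import Cfsg.Agent.Lib.Helper44_PSLnUT

/-!
# S2546 package TU (helper27's market `stsu_packages`): `|B| = |T| p^k` for the Borel subgroup of `SUJ n σ`,
through `B = T ⋉ U` with `U` the unitriangular elements (a `p`-group, as it embeds in helper44's `UT n F`).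
-/

set_option autoImplicit false
set_option linter.unusedSectionVars false
set_option linter.unusedVariables false

namespace Cfsg.Agent.Lib.Helper5_StSU_TU

open Matrix Cfsg.Agent.Lib.Helper68_MatGrp Cfsg.Agent.Lib.Helper27_StSUDefs
  Cfsg.Agent.Lib.Helper27_StSUBasic

variable {n : ℕ} {F : Type*} [Field F] (σ : F →+* F)

variable (n)

/-- the unitriangular elements of `SUJ n σ` -/
def Usu : Subgroup ↥(SUJ n σ) :=
  (Cfsg.Agent.Lib.Helper44_PSLnUT.UT n F).comap (SUJ n σ).subtype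

variable {n}

theorem mem_Usu {g : ↥(SUJ n σ)} :
    g ∈ Usu n σ ↔ (∀ a b : Fin n, b < a → g.1.1 a b = 0) ∧ ∀ a, g.1.1 a a = 1 := Iff.rfl

theorem Usu_le_Bsu : Usu n σ ≤ Bsu n σ := fun g hg => (mem_Bsu σ).2 ((mem_Usu σ).1 hg).1

theorem Tsu_le_Bsu : Tsu n σ ≤ Bsu n σ := Diag_le_UT (φ n σ) (ht n)

theorem Tsu_inf_Usu : Tsu n σ ⊓ Usu n σ = ⊥ := by
  rw [eq_bot_iff]
  rintro g ⟨hT, hU⟩
  rw [Subgroup.mem_bot]
  apply ext_val σ
  rw [one_val]
  have hT' := (mem_Tsu σ).1 hT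
  have hU' := (mem_Usu σ).1 hU
  ext a b
  by_cases hab : a = b
  · subst hab
    rw [Matrix.one_apply_eq]
    exact hU'.2 a
  · rw [Matrix.one_apply_ne hab]
    exact hT' a b hab

/-- the diagonal entries of an upper triangular element: `b_{a,a} σ(b_{a',a'}) = 1` -/
theorem diag_mul_sigma {b : ↥(SUJ n σ)} (hb : b ∈ Bsu n σ) (a : Fin n) :
    b.1.1 a a * σ (b.1.1 (Fin.rev a) (Fin.rev a)) = 1 := by
  have h := unitary_apply σ b a (Fin.rev a)
  rw [Fin.rev_rev, if_pos rfl] at h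
  have hs : ∑ x, b.1.1 x a * σ (b.1.1 (Fin.rev x) (Fin.rev a)) =
      b.1.1 a a * σ (b.1.1 (Fin.rev a) (Fin.rev a)) := by
    apply Finset.sum_eq_single a
    · intro x _ hxa
      rcases lt_or_gt_of_ne hxa with hlt | hgt
      · have h0 : b.1.1 (Fin.rev x) (Fin.rev a) = 0 :=
          (mem_Bsu σ).1 hb _ _ (Fin.rev_lt_rev.2 hlt)
        rw [h0, map_zero, mul_zero]
      · rw [(mem_Bsu σ).1 hb x a hgt, zero_mul]
    · intro h
      exact absurd (Finset.mem_univ a) h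
  rw [← hs]
  exact h

/-- the diagonal part of an element of `B` -/
theorem exists_Tsu_mul (hσ : ∀ x, σ (σ x) = x) {b : ↥(SUJ n σ)} (hb : b ∈ Bsu n σ) :
    ∃ t ∈ Tsu n σ, t⁻¹ * b ∈ Usu n σ := by
  classical
  have hb' := (mem_Bsu σ).1 hb
  set d : Fin n → F := fun a => b.1.1 a a with hd
  have hdd : ∀ a, d a * σ (d (Fin.rev a)) = 1 := fun a => diag_mul_sigma σ hb a
  have hdet : (Matrix.diagonal d).det = 1 := by
    rw [Matrix.det_diagonal, ← det_val σ b,
      Matrix.det_of_isUpperTriangular (M := b.1.1) (fun i j hij => hb' i j hij)]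
  have hunit : (Matrix.diagonal d)ᵀ * Jm n F * (Matrix.diagonal d).map σ = Jm n F := by
    apply unitary_of_apply σ
    intro a c
    rw [Finset.sum_eq_single a]
    · rw [Matrix.diagonal_apply_eq]
      by_cases hac : a = Fin.rev c
      · rw [if_pos hac]
        have hc : Fin.rev a = c := by rw [hac, Fin.rev_rev]
        rw [hc, Matrix.diagonal_apply_eq]
        have := hdd a
        rwa [hc] at this
      · rw [if_neg hac]
        have hc : Fin.rev a ≠ c := by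
          intro h
          apply hac
          rw [← h, Fin.rev_rev]
        rw [Matrix.diagonal_apply_ne _ hc, map_zero, mul_zero]
    · intro x _ hxa
      rw [Matrix.diagonal_apply_ne _ hxa, zero_mul]
    · intro h
      exact absurd (Finset.mem_univ a) h
  have htv : (mkE σ (Matrix.diagonal d)).1.1 = Matrix.diagonal d := mkE_val σ hdet hunit
  refine ⟨mkE σ (Matrix.diagonal d), ?_, ?_⟩
  · rw [mem_Tsu]
    intro a c hac
    rw [htv]
    exact Matrix.diagonal_apply_ne _ hac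
  · have hinv : ((mkE σ (Matrix.diagonal d))⁻¹).1.1 =
        Matrix.diagonal (fun a => σ (d (Fin.rev a))) := by
      ext a c
      rw [inv_apply σ hσ, htv]
      by_cases hac : a = c
      · subst hac
        rw [Matrix.diagonal_apply_eq, Matrix.diagonal_apply_eq]
      · have hc : Fin.rev c ≠ Fin.rev a := fun h => hac (Fin.rev_injective h).symm
        rw [Matrix.diagonal_apply_ne _ hac, Matrix.diagonal_apply_ne _ hc, map_zero]
    rw [mem_Usu]
    refine ⟨?_, ?_⟩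
    · intro a c hca
      rw [mul_val, hinv, Matrix.diagonal_mul, hb' a c hca, mul_zero]
    · intro a
      rw [mul_val, hinv, Matrix.diagonal_mul]
      have := hdd a
      rw [mul_comm] at this
      exact this

/-- `U` is a `p`-group -/
theorem isPGroup_Usu [Fintype F] (p : ℕ) [Fact p.Prime] [CharP F p] : IsPGroup p ↥(Usu n σ) := by
  classical
  have h1 : IsPGroup p ↥(Cfsg.Agent.Lib.Helper44_PSLnUT.UT n F) := by
    obtain ⟨f, hf⟩ := FiniteField.card F p
    apply IsPGroup.of_card (n := (f : ℕ) * Fintype.card (Cfsg.Agent.Lib.Helper44_PSLnUT.Pos n))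
    rw [Cfsg.Agent.Lib.Helper44_PSLnUT.card_UT, hf.2, pow_mul]
  let ψ : ↥(Usu n σ) →* ↥(Cfsg.Agent.Lib.Helper44_PSLnUT.UT n F) :=
    { toFun := fun u => ⟨u.1.1, u.2⟩
      map_one' := rfl
      map_mul' := fun _ _ => rfl }
  refine h1.of_injective ψ ?_
  intro u v huv
  apply Subtype.ext
  apply Subtype.ext
  have h2 : (ψ u).1 = (ψ v).1 := congrArg Subtype.val huv
  exact h2

theorem card_Bsu_eq (hσ : ∀ x, σ (σ x) = x) :
    Nat.card (Bsu n σ) = Nat.card (Tsu n σ) * Nat.card (Usu n σ) := by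
  rw [← Nat.card_prod]
  symm
  refine Nat.card_congr (Equiv.ofBijective
    (fun p : ↥(Tsu n σ) × ↥(Usu n σ) =>
      (⟨p.1.1 * p.2.1, (Bsu n σ).mul_mem (Tsu_le_Bsu σ p.1.2) (Usu_le_Bsu σ p.2.2)⟩ : ↥(Bsu n σ)))
    ⟨?_, ?_⟩)
  · rintro ⟨⟨t, ht'⟩, ⟨u, hu⟩⟩ ⟨⟨t', ht''⟩, ⟨u', hu'⟩⟩ h
    have h0 : t * u = t' * u' := congrArg Subtype.val h
    have h1 : t'⁻¹ * t = u' * u⁻¹ := by
      calc t'⁻¹ * t = t'⁻¹ * (t * u) * u⁻¹ := by group
        _ = t'⁻¹ * (t' * u') * u⁻¹ := by rw [h0]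
        _ = u' * u⁻¹ := by group
    have h2 : t'⁻¹ * t ∈ Tsu n σ ⊓ Usu n σ :=
      ⟨(Tsu n σ).mul_mem ((Tsu n σ).inv_mem ht'') ht',
        by rw [h1]; exact (Usu n σ).mul_mem hu' ((Usu n σ).inv_mem hu)⟩
    rw [Tsu_inf_Usu, Subgroup.mem_bot] at h2
    have ht : t = t' := by
      calc t = t' * (t'⁻¹ * t) := by group
        _ = t' := by rw [h2, mul_one]
    subst ht
    have hu2 : u = u' := mul_left_cancel h0
    subst hu2
    rfl
  · rintro ⟨b, hb⟩
    obtain ⟨t, ht', hu⟩ := exists_Tsu_mul σ hσ hb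
    refine ⟨(⟨t, ht'⟩, ⟨t⁻¹ * b, hu⟩), ?_⟩
    apply Subtype.ext
    show t * (t⁻¹ * b) = b
    group

/-- **TU**. -/
theorem card_Bsu (hσ : ∀ x, σ (σ x) = x) [Fintype F] (p : ℕ) [Fact p.Prime] [CharP F p] :
    ∃ k : ℕ, Nat.card (Bsu n σ) = Nat.card (Tsu n σ) * p ^ k := by
  obtain ⟨k, hk⟩ := IsPGroup.iff_card.1 (isPGroup_Usu σ p)
  exact ⟨k, by rw [card_Bsu_eq σ hσ, hk]⟩

end Cfsg.Agent.Lib.Helper5_StSU_TU
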