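/-
StSU market (architect helper27, statement S2546), package R2X: a monomial unitary element conjugates the
root group of type X at `i` or the one at `rev i` into the Borel subgroup.
-/
import Mathlib
import Cfsg.Agent.Lib.Helper27_StSUDefs
import Cfsg.Agent.Lib.Helper27_StSUBasic
import Cfsg.Agent.Lib.Helper55_StSU_MEMX

set_option autoImplicit false
set_option linter.unusedSectionVars false
set_option linter.unusedVariables false

namespace Cfsg.Agent.Lib.Helper60_StSU_R2X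

open Matrix Cfsg.Agent.Lib.Helper68_MatGrp Cfsg.Agent.Lib.Helper27_StSUDefs
  Cfsg.Agent.Lib.Helper27_StSUBasic
open Cfsg.Agent.Lib.Helper55_StSU_MEMX (xXm_mem)

variable {n : ℕ} {F : Type*} [Field F] (σ : F →+* F)

theorem xX_val' (i : Fin n) (h : i ≠ Fin.rev i) (t : F) (ht : σ t = -t) :
    (xX σ i t).1.1 = xXm i t :=
  mkE_val σ (xXm_mem σ i h t ht).1 (xXm_mem σ i h t ht).2

/-- the off-diagonal entries of `xXm i t` vanish outside the position `(i, rev i)` -/
theorem xXm_off (i : Fin n) (t : F) (c d : Fin n) (hcd : c ≠ d)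
    (h1 : ¬ (c = i ∧ d = Fin.rev i)) : xXm i t c d = 0 := by
  unfold xXm
  rw [Matrix.add_apply, Matrix.one_apply_ne hcd, Matrix.single_apply, if_neg, add_zero]
  rintro ⟨rfl, rfl⟩
  exact h1 ⟨rfl, rfl⟩

/-- conjugation by a monomial element into `B` -/
theorem conj_mem_Bsu {g : ↥(SUJ n σ)} {π : Equiv.Perm (Fin n)} (hg : IsMono (φ n σ) g π)
    (x : ↥(SUJ n σ)) (h : ∀ a b : Fin n, b < a → x.1.1 (π a) (π b) = 0) :
    g⁻¹ * x * g ∈ Bsu n σ := by
  rw [mem_Bsu]
  intro a b hab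
  have := hg.conj_apply x a b
  simp only [φ_apply] at this
  rw [this, h a b hab, mul_zero, zero_mul]

theorem r2X (hσ : ∀ x, σ (σ x) = x) (i : Fin n) (h : i ≠ Fin.rev i) (g : ↥(SUJ n σ))
    (π : Equiv.Perm (Fin n)) (hg : IsMono (φ n σ) g π) (hrev : ∀ a, π (Fin.rev a) = Fin.rev (π a)) :
    (∀ t : F, σ t = -t → g⁻¹ * xX σ i t * g ∈ Bsu n σ) ∨
      (∀ t : F, σ t = -t → g⁻¹ * xX σ (Fin.rev i) t * g ∈ Bsu n σ) := by
  have hσa : π (π⁻¹ i) = i := by simp
  have hσa' : π (Fin.rev (π⁻¹ i)) = Fin.rev i := by rw [hrev, hσa]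
  have hne : π⁻¹ i ≠ Fin.rev (π⁻¹ i) := by
    intro h'
    apply h
    rw [← hσa', ← h', hσa]
  have h' : Fin.rev i ≠ Fin.rev (Fin.rev i) := by
    rw [Fin.rev_rev]; exact h.symm
  rcases lt_or_gt_of_ne hne with hlt | hlt
  · left
    intro t ht
    apply conj_mem_Bsu σ hg
    intro a b hab
    have hab' : π a ≠ π b := fun e => (ne_of_gt hab) (π.injective e)
    rw [xX_val' σ i h t ht]
    apply xXm_off _ _ _ _ hab'
    rintro ⟨e1, e2⟩
    have ea : a = π⁻¹ i := π.injective (e1.trans hσa.symm)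
    have eb : b = Fin.rev (π⁻¹ i) := π.injective (e2.trans hσa'.symm)
    rw [ea, eb] at hab
    exact lt_asymm hab hlt
  · right
    intro t ht
    apply conj_mem_Bsu σ hg
    intro a b hab
    have hab' : π a ≠ π b := fun e => (ne_of_gt hab) (π.injective e)
    rw [xX_val' σ (Fin.rev i) h' t ht]
    apply xXm_off _ _ _ _ hab'
    rintro ⟨e1, e2⟩
    rw [Fin.rev_rev] at e2
    have ea : a = Fin.rev (π⁻¹ i) := π.injective (e1.trans hσa'.symm)
    have eb : b = π⁻¹ i := π.injective (e2.trans hσa.symm)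
    rw [ea, eb] at hab
    exact lt_asymm hab hlt

end Cfsg.Agent.Lib.Helper60_StSU_R2X
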