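/-
StSU market (architect helper27, statement S2546), package SQ: the squares of the Weyl representatives
`wL`, `wX`, `wQ`.  The file does not depend on the packages MEM: an element `mkE σ M` is either given by the
matrix `M` or trivial, and the statements hold in both cases.
-/
import Mathlib
import Cfsg.Agent.Lib.Helper27_StSUDefs
import Cfsg.Agent.Lib.Helper27_StSUBasic

set_option autoImplicit false
set_option linter.unusedSectionVars false
set_option linter.unusedVariables false

namespace Cfsg.Agent.Lib.Helper60_StSU_SQ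

open Matrix Cfsg.Agent.Lib.Helper68_MatGrp Cfsg.Agent.Lib.Helper27_StSUDefs
  Cfsg.Agent.Lib.Helper27_StSUBasic

variable {n : ℕ} {F : Type*} [Field F] (σ : F →+* F)

/-- an element given by a matrix is that matrix, or trivial -/
theorem mkE_cases (M : Matrix (Fin n) (Fin n) F) : (mkE σ M).1.1 = M ∨ mkE σ M = 1 := by
  by_cases h : M.det = 1 ∧ Mᵀ * Jm n F * M.map σ = Jm n F
  · left
    exact mkE_val σ h.1 h.2
  · right
    unfold mkE
    rw [dif_neg h]

omit [Field F] in
theorem permL_mul_self (i k : Fin n) (h1 : i ≠ k) (h2 : i ≠ Fin.rev k) (h3 : i ≠ Fin.rev i)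
    (h4 : k ≠ Fin.rev k) : permL i k * permL i k = 1 := by
  have hk : k ≠ Fin.rev i := fun h => h2 (by rw [h, Fin.rev_rev])
  have hik' : Fin.rev i ≠ Fin.rev k := fun h => h1 (Fin.rev_injective h)
  have hd : Equiv.Perm.Disjoint (Equiv.swap i k) (Equiv.swap (Fin.rev i) (Fin.rev k)) := by
    apply Equiv.Perm.disjoint_swap_swap
    simp [h1, h2, h3, h4, hk, hik']
  have hc := hd.commute.eq
  unfold permL
  calc Equiv.swap i k * Equiv.swap (Fin.rev i) (Fin.rev k) *
        (Equiv.swap i k * Equiv.swap (Fin.rev i) (Fin.rev k))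
      = Equiv.swap i k * (Equiv.swap (Fin.rev i) (Fin.rev k) * Equiv.swap i k) *
          Equiv.swap (Fin.rev i) (Fin.rev k) := by group
    _ = Equiv.swap i k * (Equiv.swap i k * Equiv.swap (Fin.rev i) (Fin.rev k)) *
          Equiv.swap (Fin.rev i) (Fin.rev k) := by rw [hc]
    _ = (Equiv.swap i k * Equiv.swap i k) *
          (Equiv.swap (Fin.rev i) (Fin.rev k) * Equiv.swap (Fin.rev i) (Fin.rev k)) := by group
    _ = 1 := by rw [Equiv.swap_mul_self, Equiv.swap_mul_self, one_mul]

theorem wLm_mul_self (i k : Fin n) (h1 : i ≠ k) (h2 : i ≠ Fin.rev k) (h3 : i ≠ Fin.rev i)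
    (h4 : k ≠ Fin.rev k) : (wLm i k : Matrix (Fin n) (Fin n) F) * wLm i k = 1 := by
  have hτ : ∀ b, permL i k (permL i k b) = b := by
    intro b
    have := congrArg (fun τ : Equiv.Perm (Fin n) => τ b) (permL_mul_self i k h1 h2 h3 h4)
    simpa using this
  ext a b
  rw [Matrix.mul_apply, Finset.sum_eq_single (permL i k b)]
  · rw [wLm_apply, wLm_apply, if_pos rfl, mul_one, hτ, Matrix.one_apply]
  · intro x _ hx
    rw [wLm_apply, wLm_apply, if_neg hx, mul_zero]
  · intro h; exact absurd (Finset.mem_univ _) h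

theorem wL_sq (i k : Fin n) (h1 : i ≠ k) (h2 : i ≠ Fin.rev k) (h3 : i ≠ Fin.rev i)
    (h4 : k ≠ Fin.rev k) : wL σ i k * wL σ i k = 1 := by
  rcases mkE_cases σ (wLm i k : Matrix (Fin n) (Fin n) F) with hv | hv
  · apply ext_val σ
    have hv' : (wL σ i k).1.1 = wLm i k := hv
    rw [mul_val, one_val, hv', wLm_mul_self i k h1 h2 h3 h4]
  · have hv' : wL σ i k = 1 := hv
    rw [hv', mul_one]

theorem rev_ne_of_mid (i c : Fin n) (hc : c = Fin.rev c) (hic : i ≠ c) : i ≠ Fin.rev i := by
  intro h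
  apply hic
  have h1 := congrArg Fin.val hc
  have h2 := congrArg Fin.val h
  rw [Fin.val_rev] at h1 h2
  apply Fin.ext
  omega

theorem wQm_mul_self (i c : Fin n) (hc : c = Fin.rev c) (hic : i ≠ c) :
    (wQm i c : Matrix (Fin n) (Fin n) F) * wQm i c = 1 := by
  have h : i ≠ Fin.rev i := rev_ne_of_mid i c hc hic
  have hic' : Fin.rev i ≠ c := fun h' => hic (by rw [hc, ← h', Fin.rev_rev])
  have h2 : (single c c (2 : F) : Matrix (Fin n) (Fin n) F) = single c c 1 + single c c 1 := by
    rw [← Matrix.single_add]; norm_num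
  unfold wQm
  rw [h2]
  simp only [Matrix.sub_mul, Matrix.mul_sub, Matrix.add_mul, Matrix.mul_add, Matrix.one_mul,
    Matrix.single_mul_single_same, mul_one,
    Matrix.single_mul_single_of_ne _ _ _ _ h, Matrix.single_mul_single_of_ne _ _ _ _ h.symm,
    Matrix.single_mul_single_of_ne _ _ _ _ hic, Matrix.single_mul_single_of_ne _ _ _ _ hic.symm,
    Matrix.single_mul_single_of_ne _ _ _ _ hic', Matrix.single_mul_single_of_ne _ _ _ _ hic'.symm]
  abel

theorem wXm_mul_self (ε : F) (hε0 : ε ≠ 0) (i : Fin n) (h : i ≠ Fin.rev i) :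
    (wXm ε i : Matrix (Fin n) (Fin n) F) * wXm ε i =
      1 - single i i 1 - single i i 1 - single (Fin.rev i) (Fin.rev i) 1 -
        single (Fin.rev i) (Fin.rev i) 1 := by
  unfold wXm
  simp only [Matrix.sub_mul, Matrix.mul_sub, Matrix.add_mul, Matrix.mul_add,
    Matrix.single_mul_single_same, mul_one, one_mul, mul_inv_cancel₀ hε0, inv_mul_cancel₀ hε0,
    Matrix.single_mul_single_of_ne _ _ _ _ h, Matrix.single_mul_single_of_ne _ _ _ _ h.symm]
  abel

theorem wX_sq (ε : F) (hε0 : ε ≠ 0) (hε : σ ε = -ε) (i : Fin n) (h : i ≠ Fin.rev i) :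
    wX σ ε i * wX σ ε i ∈ Tsu n σ := by
  rcases mkE_cases σ (wXm ε i : Matrix (Fin n) (Fin n) F) with hv | hv
  · have hv' : (wX σ ε i).1.1 = wXm ε i := hv
    rw [mem_Tsu]
    intro a b hab
    have hs : ∀ j : Fin n, (single j j (1 : F) : Matrix (Fin n) (Fin n) F) a b = 0 := by
      intro j
      rw [Matrix.single_apply, if_neg]
      rintro ⟨rfl, rfl⟩
      exact hab rfl
    rw [mul_val, hv', wXm_mul_self ε hε0 i h]
    simp only [Matrix.sub_apply, Matrix.one_apply_ne hab, hs, sub_zero]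
  · have hv' : wX σ ε i = 1 := hv
    rw [hv', mul_one]
    exact Subgroup.one_mem _

theorem wQ_sq (i c : Fin n) (hc : c = Fin.rev c) (hic : i ≠ c) : wQ σ i c * wQ σ i c = 1 := by
  rcases mkE_cases σ (wQm i c : Matrix (Fin n) (Fin n) F) with hv | hv
  · apply ext_val σ
    have hv' : (wQ σ i c).1.1 = wQm i c := hv
    rw [mul_val, one_val, hv', wQm_mul_self i c hc hic]
  · have hv' : wQ σ i c = 1 := hv
    rw [hv', mul_one]

end Cfsg.Agent.Lib.Helper60_StSU_SQ
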