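import Mathlib
import Cfsg.Agent.Lib.Helper27_StSUDefs
import Cfsg.Agent.Lib.Helper27_StSUBasic

set_option autoImplicit false
set_option linter.unusedSectionVars false
set_option linter.unusedVariables false

/-!
S2546 (Steinberg character of PSU_n(q)), market StSU (architect helper27): cores of the packages GRPQ and XBQ, with the
statement of `xQ_val` (a consequence of the package MEMQ) as a hypothesis.
-/

namespace Cfsg.Agent.Lib.Helper61_StSU_Qcore

open Matrix Cfsg.Agent.Lib.Helper68_MatGrp Cfsg.Agent.Lib.Helper27_StSUDefs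
  Cfsg.Agent.Lib.Helper27_StSUBasic

variable {n : ℕ} {F : Type*} [Field F] (σ : F →+* F)

/-- the middle index is unique -/
theorem rev_ne_self_of_ne {i c : Fin n} (hc : c = Fin.rev c) (hic : i ≠ c) : Fin.rev i ≠ i := by
  intro h
  apply hic
  apply Fin.ext
  have h1 := congrArg Fin.val h
  have h2 := congrArg Fin.val hc
  rw [Fin.val_rev] at h1 h2
  omega

theorem rev_ne_mid {i c : Fin n} (hc : c = Fin.rev c) (hic : i ≠ c) : Fin.rev i ≠ c := by
  intro h
  apply hic
  have h1 := congrArg Fin.rev h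
  rw [Fin.rev_rev, ← hc] at h1
  exact h1

/-- the product of two matrices of type Q -/
theorem xQm_mul (i c : Fin n) (hci : c ≠ i) (hri : Fin.rev i ≠ i) (hrc : Fin.rev i ≠ c) (a b a' b' : F) :
    xQm σ i c a b * xQm σ i c a' b' = xQm σ i c (a + a') (b + b' - a * σ a') := by
  unfold xQm
  have hAA : single i c a * single i c a' = 0 := single_mul_single_of_ne _ _ _ _ hci _
  have hAC : single i c a * single c (Fin.rev i) (σ a') = single i (Fin.rev i) (a * σ a') :=
    single_mul_single_same _ _ _ _ _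
  have hAD : single i c a * single i (Fin.rev i) b' = 0 := single_mul_single_of_ne _ _ _ _ hci _
  have hCA : single c (Fin.rev i) (σ a) * single i c a' = 0 := single_mul_single_of_ne _ _ _ _ hri _
  have hCC : single c (Fin.rev i) (σ a) * single c (Fin.rev i) (σ a') = 0 :=
    single_mul_single_of_ne _ _ _ _ hrc _
  have hCD : single c (Fin.rev i) (σ a) * single i (Fin.rev i) b' = 0 :=
    single_mul_single_of_ne _ _ _ _ hri _
  have hDA : single i (Fin.rev i) b * single i c a' = 0 := single_mul_single_of_ne _ _ _ _ hri _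
  have hDC : single i (Fin.rev i) b * single c (Fin.rev i) (σ a') = 0 :=
    single_mul_single_of_ne _ _ _ _ hrc _
  have hDD : single i (Fin.rev i) b * single i (Fin.rev i) b' = 0 :=
    single_mul_single_of_ne _ _ _ _ hri _
  have hE : single i (Fin.rev i) (b + b' - a * σ a') =
      single i (Fin.rev i) b + single i (Fin.rev i) b' - single i (Fin.rev i) (a * σ a') := by
    rw [sub_eq_add_neg, single_add, single_add, ← single_neg, ← sub_eq_add_neg]
  rw [map_add, single_add, single_add, hE]
  simp only [add_mul, sub_mul, mul_add, mul_sub, one_mul, mul_one, hAA, hAC, hAD, hCA, hCC, hCD, hDA, hDC,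
    hDD]
  abel

theorem xQm_zero (i c : Fin n) : xQm σ i c 0 0 = 1 := by
  unfold xQm
  simp only [map_zero, single_zero, add_zero, sub_zero]

/-- GRPQ with `xQ_val` as a hypothesis. -/
theorem xQ_mul_core
    (hval : ∀ (i c : Fin n), c = Fin.rev c → i ≠ c → ∀ a b : F, b + σ b + a * σ a = 0 →
      (xQ σ i c a b).1.1 = xQm σ i c a b)
    (hσ : ∀ x, σ (σ x) = x) (i c : Fin n) (hc : c = Fin.rev c) (hic : i ≠ c) (a b a' b' : F)
    (hab : b + σ b + a * σ a = 0) (hab' : b' + σ b' + a' * σ a' = 0) :
    xQ σ i c a b * xQ σ i c a' b' = xQ σ i c (a + a') (b + b' - a * σ a') := by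
  have hsum : (b + b' - a * σ a') + σ (b + b' - a * σ a') + (a + a') * σ (a + a') = 0 := by
    simp only [map_add, map_sub, map_mul, hσ]
    linear_combination hab + hab'
  apply ext_val σ
  rw [mul_val, hval i c hc hic a b hab, hval i c hc hic a' b' hab', hval i c hc hic _ _ hsum]
  exact xQm_mul σ i c (Ne.symm hic) (rev_ne_self_of_ne hc hic) (rev_ne_mid hc hic) a b a' b'

theorem xQ_zero (i c : Fin n) : xQ σ i c 0 0 = 1 := by
  unfold xQ
  rw [xQm_zero]
  refine mkE_eq σ Matrix.det_one ?_ (one_val σ)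
  rw [Matrix.transpose_one, Matrix.one_mul, Matrix.map_one σ (map_zero σ) (map_one σ), Matrix.mul_one]

/-- XBQ with `xQ_val` as a hypothesis. -/
theorem xQ_mem_Bsu_core
    (hval : ∀ (i c : Fin n), c = Fin.rev c → i ≠ c → ∀ a b : F, b + σ b + a * σ a = 0 →
      (xQ σ i c a b).1.1 = xQm σ i c a b)
    (i c : Fin n) (hc : c = Fin.rev c) (hlt : i < c) (a b : F)
    (hab : b + σ b + a * σ a = 0) : xQ σ i c a b ∈ Bsu n σ := by
  have hic : i ≠ c := ne_of_lt hlt
  have hci' : c < Fin.rev i := by
    have h1 : Fin.rev c < Fin.rev i := Fin.rev_lt_rev.mpr hlt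
    rwa [← hc] at h1
  rw [mem_Bsu]
  intro x y hyx
  rw [hval i c hc hic a b hab]
  unfold xQm
  have h1 : (1 : Matrix (Fin n) (Fin n) F) x y = 0 := Matrix.one_apply_ne (ne_of_gt hyx)
  have h2 : single i c a x y = 0 := by
    apply single_apply_of_ne
    rintro ⟨rfl, rfl⟩
    exact absurd hyx (not_lt.mpr hlt.le)
  have h3 : single c (Fin.rev i) (σ a) x y = 0 := by
    apply single_apply_of_ne
    rintro ⟨rfl, rfl⟩
    exact absurd hyx (not_lt.mpr hci'.le)
  have h4 : single i (Fin.rev i) b x y = 0 := by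
    apply single_apply_of_ne
    rintro ⟨rfl, rfl⟩
    exact absurd hyx (not_lt.mpr (hlt.trans hci').le)
  rw [Matrix.add_apply, Matrix.sub_apply, Matrix.add_apply, h1, h2, h3, h4]
  ring

theorem xQ_not_mem_Bsu_core
    (hval : ∀ (i c : Fin n), c = Fin.rev c → i ≠ c → ∀ a b : F, b + σ b + a * σ a = 0 →
      (xQ σ i c a b).1.1 = xQm σ i c a b)
    (i c : Fin n) (hc : c = Fin.rev c) (hlt : i < c) (a b : F)
    (hab : b + σ b + a * σ a = 0) (hne : a ≠ 0 ∨ b ≠ 0) : xQ σ (Fin.rev i) c a b ∉ Bsu n σ := by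
  have hic : i ≠ c := ne_of_lt hlt
  have hci' : c < Fin.rev i := by
    have h1 : Fin.rev c < Fin.rev i := Fin.rev_lt_rev.mpr hlt
    rwa [← hc] at h1
  have hrc : Fin.rev i ≠ c := ne_of_gt hci'
  have hri : Fin.rev i ≠ i := ne_of_gt (hlt.trans hci')
  intro hB
  rw [mem_Bsu] at hB
  rcases hne with ha | hb
  · have h1 := hB (Fin.rev i) c hci'
    rw [hval (Fin.rev i) c hc hrc a b hab] at h1
    unfold xQm at h1
    rw [Fin.rev_rev] at h1
    have e1 : (1 : Matrix (Fin n) (Fin n) F) (Fin.rev i) c = 0 := Matrix.one_apply_ne hrc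
    have e2 : single (Fin.rev i) c a (Fin.rev i) c = a := single_apply_same _ _ _
    have e3 : single c i (σ a) (Fin.rev i) c = 0 := by
      apply single_apply_of_ne
      rintro ⟨h, -⟩
      exact hrc h.symm
    have e4 : single (Fin.rev i) i b (Fin.rev i) c = 0 := by
      apply single_apply_of_ne
      rintro ⟨-, h⟩
      exact hic h
    rw [Matrix.add_apply, Matrix.sub_apply, Matrix.add_apply, e1, e2, e3, e4] at h1
    apply ha
    linear_combination h1
  · have h1 := hB (Fin.rev i) i (hlt.trans hci')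
    rw [hval (Fin.rev i) c hc hrc a b hab] at h1
    unfold xQm at h1
    rw [Fin.rev_rev] at h1
    have e1 : (1 : Matrix (Fin n) (Fin n) F) (Fin.rev i) i = 0 := Matrix.one_apply_ne hri
    have e2 : single (Fin.rev i) c a (Fin.rev i) i = 0 := by
      apply single_apply_of_ne
      rintro ⟨-, h⟩
      exact hic h.symm
    have e3 : single c i (σ a) (Fin.rev i) i = 0 := by
      apply single_apply_of_ne
      rintro ⟨h, -⟩
      exact hrc h.symm
    have e4 : single (Fin.rev i) i b (Fin.rev i) i = b := single_apply_same _ _ _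
    rw [Matrix.add_apply, Matrix.sub_apply, Matrix.add_apply, e1, e2, e3, e4] at h1
    apply hb
    linear_combination h1

end Cfsg.Agent.Lib.Helper61_StSU_Qcore
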