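import Mathlib
import Cfsg.Agent.Lib.Helper27_StSUDefs
import Cfsg.Agent.Lib.Helper27_StSUBasic
import Cfsg.Agent.Lib.Helper61_StSU_Qcore
import Cfsg.Agent.Lib.Helper99_StSU_MEMQ

set_option autoImplicit false
set_option linter.unusedSectionVars false
set_option linter.unusedVariables false

/-!
S2546 (Steinberg character of PSU_n(q)), market StSU (architect helper27): package GRPQ.
-/

namespace Cfsg.Agent.Lib.Helper61_StSU_GRPQ

open Matrix Cfsg.Agent.Lib.Helper68_MatGrp Cfsg.Agent.Lib.Helper27_StSUDefs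
  Cfsg.Agent.Lib.Helper27_StSUBasic

variable {n : ℕ} {F : Type*} [Field F] (σ : F →+* F)

theorem xQ_val (hσ : ∀ x, σ (σ x) = x) (i c : Fin n) (hc : c = Fin.rev c) (hic : i ≠ c) (a b : F)
    (hab : b + σ b + a * σ a = 0) : (xQ σ i c a b).1.1 = xQm σ i c a b :=
  mkE_val σ (Cfsg.Agent.Lib.Helper99_StSU_MEMQ.xQm_mem σ hσ i c hc hic a b hab).1
    (Cfsg.Agent.Lib.Helper99_StSU_MEMQ.xQm_mem σ hσ i c hc hic a b hab).2

theorem xQ_mul (hσ : ∀ x, σ (σ x) = x) (i c : Fin n) (hc : c = Fin.rev c) (hic : i ≠ c) (a b a' b' : F)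
    (hab : b + σ b + a * σ a = 0) (hab' : b' + σ b' + a' * σ a' = 0) :
    xQ σ i c a b * xQ σ i c a' b' = xQ σ i c (a + a') (b + b' - a * σ a') :=
  Cfsg.Agent.Lib.Helper61_StSU_Qcore.xQ_mul_core σ (fun i c hc hic a b hab => xQ_val σ hσ i c hc hic a b hab)
    hσ i c hc hic a b a' b' hab hab'

theorem xQ_zero (i c : Fin n) : xQ σ i c 0 0 = 1 :=
  Cfsg.Agent.Lib.Helper61_StSU_Qcore.xQ_zero σ i c

end Cfsg.Agent.Lib.Helper61_StSU_GRPQ
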