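/-
S2546 (Steinberg character of `PSU_n(q)`), package TRANS (architect helper27):
transport of the conclusion along an isomorphism.
-/
import Mathlib
import Cfsg.Agent.Lib.Helper27_StSUDefs
import Cfsg.Agent.Lib.Helper27_StSUBasic
import Cfsg.Agent.Lib.Helper68_StAbs
import Cfsg.Agent.Lib.Helper5_SUOrder
import Cfsg.Agent.Lib.Helper75_Clifford
import Cfsg.Agent.Lib.Helper81_SUSiegel

set_option autoImplicit false
set_option linter.unusedSectionVars false
set_option linter.unusedVariables false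

namespace Cfsg.Agent.Lib.Helper63_StSU_TRANS

open Matrix Cfsg.Agent.Lib.Helper68_MatGrp Cfsg.Agent.Lib.Helper27_StSUDefs
  Cfsg.Agent.Lib.Helper27_StSUBasic

variable {n : ℕ} {F : Type*} [Field F] (σ : F →+* F)

/-- an isomorphism maps the centre onto the centre -/
theorem map_center_eq {G G' : Type*} [Group G] [Group G'] (e : G ≃* G') :
    Subgroup.map (e : G →* G') (Subgroup.center G) = Subgroup.center G' := by
  ext z'
  rw [Subgroup.mem_map, Subgroup.mem_center_iff]
  constructor
  · rintro ⟨z, hz, rfl⟩ g'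
    rw [Subgroup.mem_center_iff] at hz
    have h := congrArg e (hz (e.symm g'))
    rw [map_mul, map_mul, MulEquiv.apply_symm_apply] at h
    exact h
  · intro hz'
    refine ⟨e.symm z', ?_, MulEquiv.apply_symm_apply e z'⟩
    rw [Subgroup.mem_center_iff]
    intro g
    apply e.injective
    rw [map_mul, map_mul, MulEquiv.apply_symm_apply]
    exact hz' (e g)

/-- transport of a "Steinberg character" along an isomorphism -/
theorem transport_aux {Q Q' : Type*} [Group Q] [Group Q'] [Finite Q] (e : Q ≃* Q') (p : ℕ)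
    [Fact p.Prime]
    (h : ∃ χ : Q → ℂ, Cfsg.IsIrrCharacter Q χ ∧
      ∀ P : Sylow p Q, χ 1 = Nat.card P ∧ ∀ x : Q, x ∈ P → x ≠ 1 → χ x = 0) :
    ∃ χ : Q' → ℂ, Cfsg.IsIrrCharacter Q' χ ∧
      ∀ P : Sylow p Q', χ 1 = Nat.card P ∧ ∀ x : Q', x ∈ P → x ≠ 1 → χ x = 0 := by
  obtain ⟨χ, hχ, hP⟩ := h
  refine ⟨fun k => χ (e.symm k),
    Cfsg.Agent.Lib.Helper75_Clifford.isIrrCharacter_comp_equiv e.symm hχ, fun P' => ?_⟩
  have hrange : (P' : Subgroup Q') ≤ (e : Q →* Q').range := by
    intro x _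
    exact ⟨e.symm x, MulEquiv.apply_symm_apply e x⟩
  set P : Sylow p Q := P'.comapOfInjective (e : Q →* Q') e.injective hrange with hPdef
  have hmem : ∀ x : Q, x ∈ P ↔ e x ∈ P' := by
    intro x
    have : (P : Subgroup Q) = Subgroup.comap (e : Q →* Q') (P' : Subgroup Q') :=
      Sylow.coe_comapOfInjective P' (e : Q →* Q') e.injective hrange
    show x ∈ (P : Subgroup Q) ↔ _
    rw [this, Subgroup.mem_comap]
    rfl
  have hcard : Nat.card P = Nat.card P' := by
    refine Nat.card_congr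
      { toFun := fun x => ⟨e x.1, (hmem x.1).mp x.2⟩
        invFun := fun y => ⟨e.symm y.1, (hmem _).mpr (by rw [MulEquiv.apply_symm_apply]; exact y.2)⟩
        left_inv := fun x => Subtype.ext (MulEquiv.symm_apply_apply e x.1)
        right_inv := fun y => Subtype.ext (MulEquiv.apply_symm_apply e y.1) }
  obtain ⟨h1, h0⟩ := hP P
  refine ⟨?_, fun x hx hx1 => ?_⟩
  · show χ (e.symm 1) = _
    rw [map_one, h1, hcard]
  · show χ (e.symm x) = 0
    apply h0
    · rw [hmem, MulEquiv.apply_symm_apply]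
      exact hx
    · intro h
      apply hx1
      have := congrArg e h
      rwa [MulEquiv.apply_symm_apply, map_one] at this

theorem transport_steinberg {G G' : Type*} [Group G] [Group G'] [Finite G] (e : G ≃* G') (p : ℕ)
    [Fact p.Prime]
    (h : ∃ χ : G ⧸ Subgroup.center G → ℂ, Cfsg.IsIrrCharacter (G ⧸ Subgroup.center G) χ ∧
      ∀ P : Sylow p (G ⧸ Subgroup.center G), χ 1 = Nat.card P ∧
        ∀ x : G ⧸ Subgroup.center G, x ∈ P → x ≠ 1 → χ x = 0) :
    ∃ χ : G' ⧸ Subgroup.center G' → ℂ, Cfsg.IsIrrCharacter (G' ⧸ Subgroup.center G') χ ∧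
      ∀ P : Sylow p (G' ⧸ Subgroup.center G'), χ 1 = Nat.card P ∧
        ∀ x : G' ⧸ Subgroup.center G', x ∈ P → x ≠ 1 → χ x = 0 := by
  exact transport_aux
    (QuotientGroup.congr (Subgroup.center G) (Subgroup.center G') e (map_center_eq e)) p h

end Cfsg.Agent.Lib.Helper63_StSU_TRANS
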