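import Mathlib
import Cfsg.Agent.Lib.Helper5_SUOrder

set_option autoImplicit false
set_option linter.unusedSectionVars false
set_option linter.unusedVariables false

/-!
# S2546 package EPS (architect helper27): an element `ε ≠ 0` with `ε^q = -ε` in a field of order `q^2`.
-/

namespace Cfsg.Agent.Lib.Helper69_StSU_EPS

open Matrix

variable {F : Type*} [Field F]

theorem exists_eps [Fintype F] {q : ℕ} (hF : Fintype.card F = q ^ 2) :
    ∃ ε : F, ε ≠ 0 ∧ Cfsg.Agent.Lib.Helper5_SUOrder.powQ hF ε = -ε := by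
  classical
  have hq : 2 ≤ q := by
    rcases Nat.lt_or_ge q 2 with h | h
    · exfalso
      have h1 : 1 < Fintype.card F := Fintype.one_lt_card
      interval_cases q <;> omega
    · exact h
  obtain ⟨g, hg⟩ := IsCyclic.exists_ofOrder_eq_natCard (α := Fˣ)
  have hcard : Nat.card Fˣ = q ^ 2 - 1 := by
    rw [Nat.card_eq_fintype_card, Fintype.card_units, hF]
  have hne : (g : F) ^ q ≠ g := by
    intro h
    have h1 : g ^ (q - 1) = 1 := by
      apply Units.ext
      push_cast
      have h2 : (g : F) ^ (q - 1) * g = 1 * g := by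
        rw [← pow_succ, Nat.sub_add_cancel (by omega), h, one_mul]
      exact mul_right_cancel₀ g.ne_zero h2
    have h3 := orderOf_dvd_of_pow_eq_one h1
    rw [hg, hcard] at h3
    have h4 := Nat.le_of_dvd (by omega) h3
    have h5 : q ^ 2 = q * q := by ring
    have h6 : 2 * q ≤ q * q := Nat.mul_le_mul_right q hq
    omega
  have hqq : ((g : F) ^ q) ^ q = g := by
    rw [← pow_mul, ← sq, ← hF, FiniteField.pow_card]
  refine ⟨(g : F) - (g : F) ^ q, sub_ne_zero.mpr (Ne.symm hne), ?_⟩
  have h7 : Cfsg.Agent.Lib.Helper5_SUOrder.powQ hF ((g : F) - (g : F) ^ q)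
      = Cfsg.Agent.Lib.Helper5_SUOrder.powQ hF (g : F)
        - Cfsg.Agent.Lib.Helper5_SUOrder.powQ hF ((g : F) ^ q) := map_sub _ _ _
  rw [h7]
  show (g : F) ^ q - ((g : F) ^ q) ^ q = -((g : F) - (g : F) ^ q)
  rw [hqq]
  ring

end Cfsg.Agent.Lib.Helper69_StSU_EPS
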