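import Mathlib
import Cfsg.Agent.Lib.Helper27_StSUDefs
import Cfsg.Agent.Lib.Helper27_StSUBasic
import Cfsg.Agent.Lib.Helper69_BlockEmb

set_option autoImplicit false
set_option linter.unusedSectionVars false
set_option linter.unusedVariables false

/-!
# S2546 package R3L, core: the rank one relation for a type `L` root (architect helper27)

`r3L_core`: the statement of `r3L` with the VAL statements `xL_val`, `wL_val` (consequences of MEML) as hypotheses.
Method: all matrices are block extensions (`Helper69_BlockEmb.blockExt`) of explicit 4x4 matrices on the indices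
`i, k, rev k, rev i`.
-/

namespace Cfsg.Agent.Lib.Helper69_StSU_R3Lcore

open Matrix Cfsg.Agent.Lib.Helper68_MatGrp Cfsg.Agent.Lib.Helper27_StSUDefs
  Cfsg.Agent.Lib.Helper27_StSUBasic Cfsg.Agent.Lib.Helper69_BlockEmb

variable {n : ℕ} {F : Type*} [Field F] (σ : F →+* F)

/-- the four indices `i, k, rev k, rev i` -/
def idx (i k : Fin n) : Fin 4 → Fin n := ![i, k, Fin.rev k, Fin.rev i]

/-- the distinctness facts -/
structure Dist (i k : Fin n) : Prop where
  h1 : i ≠ k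
  h2 : i ≠ Fin.rev k
  h3 : i ≠ Fin.rev i
  h4 : k ≠ Fin.rev k
  h5 : k ≠ Fin.rev i
  h6 : Fin.rev k ≠ Fin.rev i

theorem dist_of {i k : Fin n} (h1 : i ≠ k) (h2 : i ≠ Fin.rev k) (h3 : i ≠ Fin.rev i)
    (h4 : k ≠ Fin.rev k) : Dist i k :=
  ⟨h1, h2, h3, h4, fun h => h2 (by rw [h, Fin.rev_rev]), fun h => h1 (Fin.rev_injective h).symm⟩

theorem idx_injective {i k : Fin n} (d : Dist i k) : Function.Injective (idx i k) := by
  intro p q h
  fin_cases p <;> fin_cases q <;> first | rfl | (exfalso; revert h; simp [idx, d.h1, d.h2, d.h3, d.h4, d.h5, d.h6, d.h1.symm, d.h2.symm, d.h3.symm, d.h4.symm, d.h5.symm, d.h6.symm])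

theorem notin_range_idx {i k r : Fin n} (hr : r ∉ Set.range (idx i k)) :
    r ≠ i ∧ r ≠ k ∧ r ≠ Fin.rev k ∧ r ≠ Fin.rev i := by
  refine ⟨fun h => hr ⟨0, h.symm⟩, fun h => hr ⟨1, h.symm⟩, fun h => hr ⟨2, h.symm⟩,
    fun h => hr ⟨3, h.symm⟩⟩

theorem xLm_eq {i k : Fin n} (d : Dist i k) (t : F) :
    xLm σ i k t = blockExt (idx i k) (idx_injective d)
      !![1, t, 0, 0; 0, 1, 0, 0; 0, 0, 1, -σ t; 0, 0, 0, 1] := by
  apply eq_blockExt
  · intro p q
    fin_cases p <;> fin_cases q <;>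
      simp [xLm, idx, Matrix.single_apply, Matrix.one_apply, d.h1, d.h2, d.h3, d.h4, d.h5, d.h6,
        d.h1.symm, d.h2.symm, d.h3.symm, d.h4.symm, d.h5.symm, d.h6.symm]
  · intro r s hr
    obtain ⟨e1, e2, e3, e4⟩ := notin_range_idx hr
    simp [xLm, Matrix.single_apply, Matrix.one_apply, e1.symm, e2.symm, e3.symm, e4.symm]
  · intro r s hs
    obtain ⟨e1, e2, e3, e4⟩ := notin_range_idx hs
    simp [xLm, Matrix.single_apply, Matrix.one_apply, e1.symm, e2.symm, e3.symm, e4.symm]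

theorem permL_i {i k : Fin n} (d : Dist i k) : permL i k i = k := by
  simp [permL, Equiv.swap_apply_of_ne_of_ne d.h3 d.h2]

theorem permL_k {i k : Fin n} (d : Dist i k) : permL i k k = i := by
  simp [permL, Equiv.swap_apply_of_ne_of_ne d.h5 d.h4]

theorem permL_k' {i k : Fin n} (d : Dist i k) : permL i k (Fin.rev k) = Fin.rev i := by
  simp [permL, Equiv.swap_apply_of_ne_of_ne d.h3.symm d.h5.symm]

theorem permL_i' {i k : Fin n} (d : Dist i k) : permL i k (Fin.rev i) = Fin.rev k := by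
  simp [permL, Equiv.swap_apply_of_ne_of_ne d.h2.symm d.h4.symm]

theorem permL_other {i k r : Fin n} (e1 : r ≠ i) (e2 : r ≠ k) (e3 : r ≠ Fin.rev k)
    (e4 : r ≠ Fin.rev i) : permL i k r = r := by
  simp [permL, Equiv.swap_apply_of_ne_of_ne e4 e3, Equiv.swap_apply_of_ne_of_ne e1 e2]

theorem wLm_eq {i k : Fin n} (d : Dist i k) :
    (wLm i k : Matrix (Fin n) (Fin n) F) = blockExt (idx i k) (idx_injective d)
      !![0, 1, 0, 0; 1, 0, 0, 0; 0, 0, 0, 1; 0, 0, 1, 0] := by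
  apply eq_blockExt
  · intro p q
    fin_cases p <;> fin_cases q <;>
      simp [wLm_apply, idx, permL_i d, permL_k d, permL_k' d, permL_i' d, d.h1, d.h2, d.h3, d.h4,
        d.h5, d.h6, d.h1.symm, d.h2.symm, d.h3.symm, d.h4.symm, d.h5.symm, d.h6.symm]
  · intro r s hr
    obtain ⟨e1, e2, e3, e4⟩ := notin_range_idx hr
    rw [wLm_apply]
    by_cases hs : s ∈ Set.range (idx i k)
    · obtain ⟨q, rfl⟩ := hs
      have hne : r ≠ idx i k q := fun h => hr ⟨q, h.symm⟩
      rw [if_neg hne]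
      fin_cases q <;>
        simp [idx, permL_i d, permL_k d, permL_k' d, permL_i' d, e1, e2, e3, e4]
    · obtain ⟨f1, f2, f3, f4⟩ := notin_range_idx hs
      rw [permL_other f1 f2 f3 f4]
  · intro r s hs
    obtain ⟨f1, f2, f3, f4⟩ := notin_range_idx hs
    rw [wLm_apply, permL_other f1 f2 f3 f4]

/-- the 4x4 identity behind the rank one relation, with abstract parameters -/
theorem four_identity (t t' st st' : F) (e1 : t * t' = 1) (e2 : st * st' = 1) :
    (!![-t', 1, 0, 0; 0, t, 0, 0; 0, 0, st', 1; 0, 0, 0, -st] : Matrix (Fin 4) (Fin 4) F) *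
      ((!![0, 1, 0, 0; 1, 0, 0, 0; 0, 0, 0, 1; 0, 0, 1, 0] : Matrix (Fin 4) (Fin 4) F) *
        !![1, t', 0, 0; 0, 1, 0, 0; 0, 0, 1, -st'; 0, 0, 0, 1] *
        !![0, 1, 0, 0; 1, 0, 0, 0; 0, 0, 0, 1; 0, 0, 1, 0]) =
    (!![0, 1, 0, 0; 1, 0, 0, 0; 0, 0, 0, 1; 0, 0, 1, 0] : Matrix (Fin 4) (Fin 4) F) *
      !![1, t, 0, 0; 0, 1, 0, 0; 0, 0, 1, -st; 0, 0, 0, 1] := by
  ext p q
  fin_cases p <;> fin_cases q <;>
    simp [Matrix.mul_apply, Fin.sum_univ_four]
  all_goals first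
    | linear_combination e1
    | linear_combination e2
    | linear_combination -e1
    | linear_combination -e2
    | ring

/-- a block extension is upper triangular if the small matrix vanishes at the pairs `(p, q)` with `f q < f p` -/
theorem blockExt_upper' {κ : Type*} [Fintype κ] [DecidableEq κ] (f : κ → Fin n)
    (hf : Function.Injective f) (M : Matrix κ κ F) (hM : ∀ p q, f q < f p → M p q = 0)
    (r s : Fin n) (hsr : s < r) : blockExt f hf M r s = 0 := by
  by_cases hr : r ∈ Set.range f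
  · by_cases hs : s ∈ Set.range f
    · obtain ⟨p, rfl⟩ := hr
      obtain ⟨q, rfl⟩ := hs
      rw [blockExt_apply]
      exact hM p q hsr
    · rw [blockExt_apply_right_notin f hf M r s hs, if_neg hsr.ne']
  · rw [blockExt_apply_left_notin f hf M r s hr, if_neg hsr.ne']

/-- R3L with the VAL statements as hypotheses -/
theorem r3L_core (hσ : ∀ x, σ (σ x) = x) (i k : Fin n) (hlt : i < k) (h2 : i ≠ Fin.rev k)
    (h3 : i ≠ Fin.rev i) (h4 : k ≠ Fin.rev k) (t : F) (ht : t ≠ 0)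
    (hxval : ∀ t : F, (xL σ i k t).1.1 = xLm σ i k t)
    (hwval : (wL σ i k).1.1 = wLm i k) :
    ∃ b ∈ Bsu n σ, ∃ t' : F, wL σ i k * xL σ i k t * (wL σ i k)⁻¹ = b * wL σ i k * xL σ i k t' := by
  have d : Dist i k := dist_of hlt.ne h2 h3 h4
  have hσt : σ t ≠ 0 := (map_ne_zero σ).mpr ht
  have hlt' : Fin.rev k < Fin.rev i := Fin.rev_lt_rev.mpr hlt
  set w := wL σ i k with hw
  set x := xL σ i k t with hx
  set x' := xL σ i k t⁻¹ with hx'
  have hxv : x.1.1 = xLm σ i k t := hxval t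
  have hxv' : x'.1.1 = xLm σ i k t⁻¹ := hxval _
  have heq : w * x * w⁻¹ = (w * x * w⁻¹) * (w * x')⁻¹ * w * x' := by group
  refine ⟨(w * x * w⁻¹) * (w * x')⁻¹, ?_, t⁻¹, heq⟩
  have e1 : ((w * x * w⁻¹) * (w * x')⁻¹) * (w * x' * w) = w * x := by group
  have e2 : ((w * x * w⁻¹) * (w * x')⁻¹).1.1 * (wLm i k * xLm σ i k t⁻¹ * wLm i k) =
      wLm i k * xLm σ i k t := by
    have := congrArg (fun g : ↥(SUJ n σ) => g.1.1) e1
    simp only [mul_val] at this
    rw [hwval, hxv, hxv'] at this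
    rw [← this]
    simp only [mul_val, hwval, hxv]
  have e3 : blockExt (idx i k) (idx_injective d)
        (!![-t⁻¹, 1, 0, 0; 0, t, 0, 0; 0, 0, (σ t)⁻¹, 1; 0, 0, 0, -σ t] :
          Matrix (Fin 4) (Fin 4) F) *
      (wLm i k * xLm σ i k t⁻¹ * wLm i k) = wLm i k * xLm σ i k t := by
    rw [wLm_eq d, xLm_eq σ d, xLm_eq σ d, blockExt_mul, blockExt_mul, blockExt_mul, blockExt_mul]
    congr 1
    rw [map_inv₀]
    apply four_identity
    · exact mul_inv_cancel₀ ht
    · exact mul_inv_cancel₀ hσt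
  have e4 : (wLm i k * xLm σ i k t⁻¹ * wLm i k) * ((w * x' * w)⁻¹).1.1 = 1 := by
    rw [← hwval, ← hxv', ← mul_val, ← mul_val, mul_inv_val]
  have key : ((w * x * w⁻¹) * (w * x')⁻¹).1.1 = blockExt (idx i k) (idx_injective d)
        (!![-t⁻¹, 1, 0, 0; 0, t, 0, 0; 0, 0, (σ t)⁻¹, 1; 0, 0, 0, -σ t] :
          Matrix (Fin 4) (Fin 4) F) := by
    calc ((w * x * w⁻¹) * (w * x')⁻¹).1.1
        = ((w * x * w⁻¹) * (w * x')⁻¹).1.1 *
            ((wLm i k * xLm σ i k t⁻¹ * wLm i k) * ((w * x' * w)⁻¹).1.1) := by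
          rw [e4, mul_one]
      _ = (wLm i k * xLm σ i k t) * ((w * x' * w)⁻¹).1.1 := by
          rw [← Matrix.mul_assoc, e2]
      _ = blockExt (idx i k) (idx_injective d)
            (!![-t⁻¹, 1, 0, 0; 0, t, 0, 0; 0, 0, (σ t)⁻¹, 1; 0, 0, 0, -σ t] :
              Matrix (Fin 4) (Fin 4) F) *
            ((wLm i k * xLm σ i k t⁻¹ * wLm i k) * ((w * x' * w)⁻¹).1.1) := by
          rw [← Matrix.mul_assoc, e3]
      _ = _ := by rw [e4, mul_one]
  rw [mem_Bsu]
  intro r s hsr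
  rw [key]
  apply blockExt_upper' (idx i k) (idx_injective d)
  · intro p q hqp
    fin_cases p <;> fin_cases q <;> first
      | rfl
      | (exfalso; exact lt_irrefl _ hqp)
      | (exfalso; exact lt_asymm hlt hqp)
      | (exfalso; exact lt_asymm hlt' hqp)
  · exact hsr

end Cfsg.Agent.Lib.Helper69_StSU_R3Lcore
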