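import Mathlib
import Cfsg.Agent.Lib.Helper27_StSUDefs
import Cfsg.Agent.Lib.Helper27_StSUBasic
import Cfsg.Agent.Lib.Helper30_StSU_MEML
import Cfsg.Agent.Lib.Helper69_StSU_R3Lcore

set_option autoImplicit false
set_option linter.unusedSectionVars false
set_option linter.unusedVariables false

/-!
# S2546 package R3L (architect helper27): the rank one relation for a type `L` root, verbatim.
-/

namespace Cfsg.Agent.Lib.Helper69_StSU_R3L

open Matrix Cfsg.Agent.Lib.Helper68_MatGrp Cfsg.Agent.Lib.Helper27_StSUDefs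
  Cfsg.Agent.Lib.Helper27_StSUBasic

variable {n : ℕ} {F : Type*} [Field F] (σ : F →+* F)

theorem r3L (hσ : ∀ x, σ (σ x) = x) (i k : Fin n) (hlt : i < k) (h2 : i ≠ Fin.rev k) (h3 : i ≠ Fin.rev i)
    (h4 : k ≠ Fin.rev k) (t : F) (ht : t ≠ 0) :
    ∃ b ∈ Bsu n σ, ∃ t' : F, wL σ i k * xL σ i k t * (wL σ i k)⁻¹ = b * wL σ i k * xL σ i k t' := by
  have h1 : i ≠ k := hlt.ne
  refine Cfsg.Agent.Lib.Helper69_StSU_R3Lcore.r3L_core σ hσ i k hlt h2 h3 h4 t ht ?_ ?_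
  · intro t
    exact mkE_val σ (Cfsg.Agent.Lib.Helper30_StSU_MEML.xLm_mem σ hσ i k h1 h2 h3 h4 t).1
      (Cfsg.Agent.Lib.Helper30_StSU_MEML.xLm_mem σ hσ i k h1 h2 h3 h4 t).2
  · exact mkE_val σ (Cfsg.Agent.Lib.Helper30_StSU_MEML.wLm_mem σ i k h1 h2 h3 h4).1
      (Cfsg.Agent.Lib.Helper30_StSU_MEML.wLm_mem σ i k h1 h2 h3 h4).2

end Cfsg.Agent.Lib.Helper69_StSU_R3L
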