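import Mathlib
import Cfsg.Agent.Lib.Helper27_StSUDefs
import Cfsg.Agent.Lib.Helper27_StSUBasic
import Cfsg.Agent.Lib.Helper69_BlockEmb

set_option autoImplicit false
set_option linter.unusedSectionVars false
set_option linter.unusedVariables false

/-!
# S2546 package R3Q, core: the rank one relation for the `SU_3`-type root (architect helper27)

`r3Q_core`: the statement of `r3Q` with the VAL statements `xQ_val`, `wQ_val` (consequences of MEMQ) as hypotheses.
Method: all matrices are block extensions (`Helper69_BlockEmb.blockExt`) of explicit 3x3 matrices on the indices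
`i < c < rev i`.
-/

namespace Cfsg.Agent.Lib.Helper69_StSU_R3Qcore

open Matrix Cfsg.Agent.Lib.Helper68_MatGrp Cfsg.Agent.Lib.Helper27_StSUDefs
  Cfsg.Agent.Lib.Helper27_StSUBasic Cfsg.Agent.Lib.Helper69_BlockEmb

variable {n : ℕ} {F : Type*} [Field F] (σ : F →+* F)

/-- the three indices `i, c, rev i` -/
def idx (i c : Fin n) : Fin 3 → Fin n := ![i, c, Fin.rev i]

theorem idx_strictMono (i c : Fin n) (hc : c = Fin.rev c) (hlt : i < c) : StrictMono (idx i c) := by
  have h2 : c < Fin.rev i := by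
    have : Fin.rev c < Fin.rev i := Fin.rev_lt_rev.mpr hlt
    rwa [← hc] at this
  rw [Fin.strictMono_iff_lt_succ]
  intro j
  fin_cases j
  · exact hlt
  · exact h2

theorem notin_range_idx {i c r : Fin n} (hr : r ∉ Set.range (idx i c)) :
    r ≠ i ∧ r ≠ c ∧ r ≠ Fin.rev i := by
  refine ⟨fun h => hr ⟨0, h.symm⟩, fun h => hr ⟨1, h.symm⟩, fun h => hr ⟨2, h.symm⟩⟩

theorem xQm_eq (i c : Fin n) (hc : c = Fin.rev c) (hlt : i < c) (a b : F) :
    xQm σ i c a b = blockExt (idx i c) (idx_strictMono i c hc hlt).injective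
      !![1, a, b; 0, 1, -σ a; 0, 0, 1] := by
  have hmono := idx_strictMono i c hc hlt
  have h1 : i ≠ c := hlt.ne
  have h2 : c ≠ Fin.rev i := (hmono (show (1 : Fin 3) < 2 by decide)).ne
  have h3 : i ≠ Fin.rev i := (hmono (show (0 : Fin 3) < 2 by decide)).ne
  apply eq_blockExt
  · intro p q
    fin_cases p <;> fin_cases q <;>
      simp [xQm, idx, Matrix.single_apply, Matrix.one_apply, h1, h2, h3, h1.symm, h2.symm, h3.symm]
  · intro r s hr
    obtain ⟨e1, e2, e3⟩ := notin_range_idx hr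
    simp [xQm, Matrix.single_apply, Matrix.one_apply, e1.symm, e2.symm, e3.symm]
  · intro r s hs
    obtain ⟨e1, e2, e3⟩ := notin_range_idx hs
    simp [xQm, Matrix.single_apply, Matrix.one_apply, e1.symm, e2.symm, e3.symm]

theorem wQm_eq (i c : Fin n) (hc : c = Fin.rev c) (hlt : i < c) :
    (wQm i c : Matrix (Fin n) (Fin n) F) = blockExt (idx i c) (idx_strictMono i c hc hlt).injective
      !![0, 0, 1; 0, -1, 0; 1, 0, 0] := by
  have hmono := idx_strictMono i c hc hlt
  have h1 : i ≠ c := hlt.ne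
  have h2 : c ≠ Fin.rev i := (hmono (show (1 : Fin 3) < 2 by decide)).ne
  have h3 : i ≠ Fin.rev i := (hmono (show (0 : Fin 3) < 2 by decide)).ne
  apply eq_blockExt
  · intro p q
    fin_cases p <;> fin_cases q <;>
      simp [wQm, idx, Matrix.single_apply, Matrix.one_apply, h1, h2, h3, h1.symm, h2.symm, h3.symm]
    norm_num
  · intro r s hr
    obtain ⟨e1, e2, e3⟩ := notin_range_idx hr
    simp [wQm, Matrix.single_apply, Matrix.one_apply, e1.symm, e2.symm, e3.symm]
  · intro r s hs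
    obtain ⟨e1, e2, e3⟩ := notin_range_idx hs
    simp [wQm, Matrix.single_apply, Matrix.one_apply, e1.symm, e2.symm, e3.symm]

/-- the parameters of `x'` satisfy the norm condition -/
theorem param_cond {a β : F} (hab : β + σ β + a * σ a = 0) (hβ : β ≠ 0) :
    β⁻¹ + σ β⁻¹ + (-a / β) * σ (-a / β) = 0 := by
  have hσβ : σ β ≠ 0 := (map_ne_zero σ).mpr hβ
  rw [map_inv₀, map_div₀, map_neg]
  field_simp
  linear_combination hab

theorem param_cond2 {a β : F} (hab : β + σ β + a * σ a = 0) (hβ : β ≠ 0) :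
    (σ a * (-a / β) - 1) * σ (-a / β) + σ a * β⁻¹ = 0 := by
  have hσβ : σ β ≠ 0 := (map_ne_zero σ).mpr hβ
  rw [map_div₀, map_neg]
  field_simp
  linear_combination (σ a) * hab

/-- the 3x3 identity behind the rank one relation, with abstract parameters -/
theorem three_identity (a β a' β' sa sa' sb' : F) (e1 : sb' + a' * sa' + β' = 0)
    (e2 : (sa * a' - 1) * sa' + sa * β' = 0) (e3 : β * β' = 1) (e4 : -(β * a') = a) :
    (!![sb', a', 1; 0, sa * a' - 1, sa; 0, 0, β] : Matrix (Fin 3) (Fin 3) F) *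
      ((!![0, 0, 1; 0, -1, 0; 1, 0, 0] : Matrix (Fin 3) (Fin 3) F) *
        !![1, a', β'; 0, 1, -sa'; 0, 0, 1] * !![0, 0, 1; 0, -1, 0; 1, 0, 0]) =
    (!![0, 0, 1; 0, -1, 0; 1, 0, 0] : Matrix (Fin 3) (Fin 3) F) * !![1, a, β; 0, 1, -sa; 0, 0, 1] := by
  ext p q
  fin_cases p <;> fin_cases q <;>
    simp [Matrix.mul_apply, Fin.sum_univ_three]
  all_goals first
    | linear_combination e1
    | linear_combination e2
    | linear_combination e3
    | linear_combination e4
    | linear_combination -e3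
    | linear_combination -e4
    | linear_combination -e1
    | linear_combination -e2
    | ring

/-- R3Q with the VAL statements as hypotheses -/
theorem r3Q_core (hσ : ∀ x, σ (σ x) = x) (i c : Fin n) (hc : c = Fin.rev c) (hlt : i < c) (a β : F)
    (hab : β + σ β + a * σ a = 0) (hne : a ≠ 0 ∨ β ≠ 0)
    (hxval : ∀ a b : F, b + σ b + a * σ a = 0 → (xQ σ i c a b).1.1 = xQm σ i c a b)
    (hwval : (wQ σ i c).1.1 = wQm i c) :
    ∃ b ∈ Bsu n σ, ∃ a' β' : F, β' + σ β' + a' * σ a' = 0 ∧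
      wQ σ i c * xQ σ i c a β * (wQ σ i c)⁻¹ = b * wQ σ i c * xQ σ i c a' β' := by
  have hβ : β ≠ 0 := by
    intro h0
    rw [h0, map_zero, add_zero, zero_add] at hab
    rcases mul_eq_zero.mp hab with h | h
    · rcases hne with h' | h'
      · exact h' h
      · exact h' h0
    · rcases hne with h' | h'
      · exact h' ((map_eq_zero σ).mp h)
      · exact h' h0
  have hσβ : σ β ≠ 0 := (map_ne_zero σ).mpr hβ
  have hab' : β⁻¹ + σ β⁻¹ + (-a / β) * σ (-a / β) = 0 := param_cond σ hab hβ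
  have hmono := idx_strictMono i c hc hlt
  set w := wQ σ i c with hw
  set x := xQ σ i c a β with hx
  set x' := xQ σ i c (-a / β) β⁻¹ with hx'
  have hxv : x.1.1 = xQm σ i c a β := hxval a β hab
  have hxv' : x'.1.1 = xQm σ i c (-a / β) β⁻¹ := hxval _ _ hab'
  have heq : w * x * w⁻¹ = (w * x * w⁻¹) * (w * x')⁻¹ * w * x' := by group
  refine ⟨(w * x * w⁻¹) * (w * x')⁻¹, ?_, -a / β, β⁻¹, hab', heq⟩
  -- the matrix of `b`
  have e1 : ((w * x * w⁻¹) * (w * x')⁻¹) * (w * x' * w) = w * x := by group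
  have e2 : ((w * x * w⁻¹) * (w * x')⁻¹).1.1 * (wQm i c * xQm σ i c (-a / β) β⁻¹ * wQm i c) =
      wQm i c * xQm σ i c a β := by
    have := congrArg (fun g : ↥(SUJ n σ) => g.1.1) e1
    simp only [mul_val] at this
    rw [hwval, hxv, hxv'] at this
    rw [← this]
    simp only [mul_val, hwval, hxv]
  have e3 : blockExt (idx i c) hmono.injective
        (!![σ β⁻¹, -a / β, 1; 0, σ a * (-a / β) - 1, σ a; 0, 0, β] : Matrix (Fin 3) (Fin 3) F) *
      (wQm i c * xQm σ i c (-a / β) β⁻¹ * wQm i c) = wQm i c * xQm σ i c a β := by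
    rw [wQm_eq i c hc hlt, xQm_eq σ i c hc hlt, xQm_eq σ i c hc hlt, blockExt_mul, blockExt_mul,
      blockExt_mul, blockExt_mul]
    congr 1
    apply three_identity
    · have := hab'
      linear_combination this
    · exact param_cond2 σ hab hβ
    · exact mul_inv_cancel₀ hβ
    · field_simp
  have e4 : (wQm i c * xQm σ i c (-a / β) β⁻¹ * wQm i c) * ((w * x' * w)⁻¹).1.1 = 1 := by
    rw [← hwval, ← hxv', ← mul_val, ← mul_val, mul_inv_val]
  have key : ((w * x * w⁻¹) * (w * x')⁻¹).1.1 = blockExt (idx i c) hmono.injective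
        (!![σ β⁻¹, -a / β, 1; 0, σ a * (-a / β) - 1, σ a; 0, 0, β] : Matrix (Fin 3) (Fin 3) F) := by
    calc ((w * x * w⁻¹) * (w * x')⁻¹).1.1
        = ((w * x * w⁻¹) * (w * x')⁻¹).1.1 *
            ((wQm i c * xQm σ i c (-a / β) β⁻¹ * wQm i c) * ((w * x' * w)⁻¹).1.1) := by
          rw [e4, mul_one]
      _ = (wQm i c * xQm σ i c a β) * ((w * x' * w)⁻¹).1.1 := by
          rw [← Matrix.mul_assoc, e2]
      _ = blockExt (idx i c) hmono.injective
            (!![σ β⁻¹, -a / β, 1; 0, σ a * (-a / β) - 1, σ a; 0, 0, β] : Matrix (Fin 3) (Fin 3) F) *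
            ((wQm i c * xQm σ i c (-a / β) β⁻¹ * wQm i c) * ((w * x' * w)⁻¹).1.1) := by
          rw [← Matrix.mul_assoc, e3]
      _ = _ := by rw [e4, mul_one]
  rw [mem_Bsu]
  intro r s hsr
  rw [key]
  apply blockExt_upper (idx i c) hmono
  · intro p q hqp
    fin_cases p <;> fin_cases q <;> first | rfl | (exfalso; revert hqp; decide)
  · exact hsr

end Cfsg.Agent.Lib.Helper69_StSU_R3Qcore
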