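import Mathlib
import Cfsg.Agent.Lib.Helper27_StSUDefs
import Cfsg.Agent.Lib.Helper27_StSUBasic
import Cfsg.Agent.Lib.Helper99_StSU_MEMQ
import Cfsg.Agent.Lib.Helper69_StSU_R3Qcore

set_option autoImplicit false
set_option linter.unusedSectionVars false
set_option linter.unusedVariables false

/-!
# S2546 package R3Q (architect helper27): the rank one relation for the `SU_3`-type simple root, verbatim.
-/

namespace Cfsg.Agent.Lib.Helper69_StSU_R3Q

open Matrix Cfsg.Agent.Lib.Helper68_MatGrp Cfsg.Agent.Lib.Helper27_StSUDefs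
  Cfsg.Agent.Lib.Helper27_StSUBasic

variable {n : ℕ} {F : Type*} [Field F] (σ : F →+* F)

theorem r3Q (hσ : ∀ x, σ (σ x) = x) (i c : Fin n) (hc : c = Fin.rev c) (hlt : i < c) (a β : F)
    (hab : β + σ β + a * σ a = 0) (hne : a ≠ 0 ∨ β ≠ 0) :
    ∃ b ∈ Bsu n σ, ∃ a' β' : F, β' + σ β' + a' * σ a' = 0 ∧
      wQ σ i c * xQ σ i c a β * (wQ σ i c)⁻¹ = b * wQ σ i c * xQ σ i c a' β' := by
  have hic : i ≠ c := hlt.ne
  refine Cfsg.Agent.Lib.Helper69_StSU_R3Qcore.r3Q_core σ hσ i c hc hlt a β hab hne ?_ ?_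
  · intro a b hab'
    exact mkE_val σ (Cfsg.Agent.Lib.Helper99_StSU_MEMQ.xQm_mem σ hσ i c hc hic a b hab').1
      (Cfsg.Agent.Lib.Helper99_StSU_MEMQ.xQm_mem σ hσ i c hc hic a b hab').2
  · exact mkE_val σ (Cfsg.Agent.Lib.Helper99_StSU_MEMQ.wQm_mem σ i c hc hic).1
      (Cfsg.Agent.Lib.Helper99_StSU_MEMQ.wQm_mem σ i c hc hic).2

end Cfsg.Agent.Lib.Helper69_StSU_R3Q
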