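import Mathlib
import Cfsg.Agent.Lib.Helper27_StSUDefs
import Cfsg.Agent.Lib.Helper27_StSUBasic

set_option autoImplicit false
set_option linter.unusedSectionVars false
set_option linter.unusedVariables false

/-!
# S2546 package TP (architect helper27): `p` does not divide the order of the diagonal torus `Tsu`.
-/

namespace Cfsg.Agent.Lib.Helper69_StSU_TP

open Matrix Cfsg.Agent.Lib.Helper68_MatGrp Cfsg.Agent.Lib.Helper27_StSUDefs
  Cfsg.Agent.Lib.Helper27_StSUBasic

variable {n : ℕ} {F : Type*} [Field F] (σ : F →+* F)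

/-- the matrix of a power -/
theorem pow_val (g : ↥(SUJ n σ)) (k : ℕ) : (g ^ k).1.1 = g.1.1 ^ k := by
  induction k with
  | zero => rw [pow_zero, pow_zero]; rfl
  | succ k ih => rw [pow_succ, pow_succ, mul_val, ih]

/-- a diagonal element is killed by `|F| - 1` -/
theorem pow_card_sub_one_of_mem_Tsu [Fintype F] {t : ↥(SUJ n σ)} (ht : t ∈ Tsu n σ) :
    t ^ (Fintype.card F - 1) = 1 := by
  classical
  apply ext_val σ
  rw [pow_val, one_val]
  have hdiag : t.1.1 = Matrix.diagonal (fun a => t.1.1 a a) := by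
    ext a b
    by_cases hab : a = b
    · subst hab; rw [Matrix.diagonal_apply_eq]
    · rw [Matrix.diagonal_apply_ne _ hab]; exact (mem_Tsu σ).mp ht a b hab
  have hdet : ∏ a, t.1.1 a a = 1 := by
    have h := det_val σ t
    rw [hdiag, Matrix.det_diagonal] at h
    exact h
  have hne : ∀ a, t.1.1 a a ≠ 0 := by
    intro a h0
    have : ∏ a, t.1.1 a a = 0 := Finset.prod_eq_zero (Finset.mem_univ a) h0
    rw [hdet] at this
    exact one_ne_zero this
  rw [hdiag, Matrix.diagonal_pow]
  have : ((fun a => t.1.1 a a) ^ (Fintype.card F - 1)) = fun _ => (1 : F) := by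
    funext a
    rw [Pi.pow_apply]
    exact FiniteField.pow_card_sub_one_eq_one _ (hne a)
  rw [this]
  exact Matrix.diagonal_one

theorem card_Tsu_coprime [Fintype F] (p : ℕ) [Fact p.Prime] [CharP F p] :
    ¬ p ∣ Nat.card (Tsu n σ) := by
  classical
  intro hdvd
  haveI : Finite ↥(SUJ n σ) := by
    apply Finite.of_injective (fun g : ↥(SUJ n σ) => g.1.1)
    intro g h e
    exact ext_val σ e
  obtain ⟨t, ht⟩ := exists_prime_orderOf_dvd_card' p hdvd
  have h1 : (t : ↥(SUJ n σ)) ^ (Fintype.card F - 1) = 1 :=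
    pow_card_sub_one_of_mem_Tsu σ t.2
  have h2 : t ^ (Fintype.card F - 1) = 1 := Subtype.ext (by
    rw [Subgroup.coe_pow]; exact h1)
  have h3 : p ∣ Fintype.card F - 1 := by
    rw [← ht]; exact orderOf_dvd_of_pow_eq_one h2
  obtain ⟨f, -, hf⟩ := FiniteField.card F p
  have h4 : p ∣ Fintype.card F := by
    rw [hf]; exact dvd_pow_self p f.ne_zero
  have h5 : 0 < Fintype.card F := Fintype.card_pos
  have h6 : p ∣ 1 := by
    have := (Nat.dvd_sub h4 h3)
    rwa [Nat.sub_sub_self (by omega)] at this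
  exact (Fact.out : p.Prime).one_lt.ne' (Nat.dvd_one.mp h6)

end Cfsg.Agent.Lib.Helper69_StSU_TP
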