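import Mathlib
import Cfsg.Agent.Lib.Helper27_StSUDefs
import Cfsg.Agent.Lib.Helper27_StSUBasic

/-!
# S2546 package REV (architect helper27): a monomial element of `SUJ n σ` reversing the basis
-/

set_option autoImplicit false
set_option linter.unusedSectionVars false
set_option linter.unusedVariables false

namespace Cfsg.Agent.Lib.Helper70_StSU_REV

open Matrix Cfsg.Agent.Lib.Helper68_MatGrp Cfsg.Agent.Lib.Helper27_StSUDefs
  Cfsg.Agent.Lib.Helper27_StSUBasic

variable {n : ℕ} {F : Type*} [Field F] (σ : F →+* F)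

/-- the matrix `e_b ↦ d_b e_{rev b}` -/
def revM (d : Fin n → F) : Matrix (Fin n) (Fin n) F :=
  Matrix.of fun a b => if a = Fin.rev b then d b else 0

theorem revM_apply (d : Fin n → F) (a b : Fin n) :
    revM d a b = if a = Fin.rev b then d b else 0 := rfl

theorem revM_eq (d : Fin n → F) : revM d = Jm n F * Matrix.diagonal d := by
  ext a b
  rw [Jm_mul_apply, revM_apply, Matrix.diagonal_apply]
  by_cases h : a = Fin.rev b
  · rw [if_pos h, if_pos (by rw [h, Fin.rev_rev]), h, Fin.rev_rev]
  · rw [if_neg h, if_neg]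
    intro h'
    apply h
    rw [← h', Fin.rev_rev]

theorem revM_det (d : Fin n → F) : (revM d).det = (Jm n F).det * ∏ a, d a := by
  rw [revM_eq, Matrix.det_mul, Matrix.det_diagonal]

theorem revM_unitary (d : Fin n → F) (hd : ∀ b, d (Fin.rev b) * σ (d b) = 1) :
    (revM d)ᵀ * Jm n F * (revM d).map σ = Jm n F := by
  apply unitary_of_apply σ
  intro a b
  rw [Finset.sum_eq_single (Fin.rev a)]
  · rw [revM_apply, if_pos rfl, Fin.rev_rev, revM_apply]
    by_cases h : a = Fin.rev b
    · rw [if_pos h, if_pos h, h]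
      exact hd b
    · rw [if_neg h, if_neg h, map_zero, mul_zero]
  · intro x _ hx
    rw [revM_apply, if_neg hx, zero_mul]
  · intro h
    exact absurd (Finset.mem_univ _) h

theorem Jm_det_sq : (Jm n F).det * (Jm n F).det = 1 := by
  rw [← Matrix.det_mul, Jm_mul_Jm, Matrix.det_one]

theorem exists_rev (hσ : ∀ x, σ (σ x) = x) (ε : F) (hε0 : ε ≠ 0) (hε : σ ε = -ε) :
    ∃ g : ↥(SUJ n σ), IsMono (φ n σ) g Fin.revPerm := by
  classical
  -- it suffices to find `d` with the two properties
  suffices h : ∃ d : Fin n → F, (∀ b, d (Fin.rev b) * σ (d b) = 1) ∧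
      (Jm n F).det * ∏ a, d a = 1 by
    obtain ⟨d, hd1, hd2⟩ := h
    refine ⟨⟨⟨revM d, by rw [revM_det, hd2]⟩, revM_unitary σ d hd1⟩, ?_⟩
    intro a b hab
    rw [φ_apply]
    show revM d a b = 0
    rw [revM_apply, if_neg]
    rwa [Fin.revPerm_apply] at hab
  by_cases hJ : (Jm n F).det = 1
  · refine ⟨fun _ => 1, fun b => by rw [map_one, mul_one], ?_⟩
    rw [hJ, Finset.prod_const_one, mul_one]
  · have hJ' : (Jm n F).det = -1 := by
      have h := Jm_det_sq (n := n) (F := F)
      have h2 : ((Jm n F).det - 1) * ((Jm n F).det + 1) = 0 := by linear_combination h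
      rcases mul_eq_zero.mp h2 with h3 | h3
      · exact absurd (sub_eq_zero.mp h3) hJ
      · exact eq_neg_of_add_eq_zero_left h3
    -- `n ≥ 2`
    have hn : 2 ≤ n := by
      by_contra hlt
      apply hJ
      have hsub : Subsingleton (Fin n) := by
        rw [Fin.subsingleton_iff_le_one]; omega
      have : Jm n F = 1 := by
        ext a b
        rw [Jm_apply, Matrix.one_apply, if_pos (Subsingleton.elim _ _), if_pos (Subsingleton.elim _ _)]
      rw [this, Matrix.det_one]
    let i0 : Fin n := ⟨0, by omega⟩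
    let i1 : Fin n := ⟨n - 1, by omega⟩
    have h01 : i0 ≠ i1 := by
      intro h
      have := congrArg Fin.val h
      simp only [i0, i1] at this
      omega
    have hr0 : Fin.rev i0 = i1 := by
      apply Fin.ext
      rw [Fin.val_rev]
    have hr1 : Fin.rev i1 = i0 := by
      rw [← hr0, Fin.rev_rev]
    let d : Fin n → F := fun b => if b = i0 then ε else if b = i1 then -ε⁻¹ else 1
    have hd0 : d i0 = ε := if_pos rfl
    have hd1 : d i1 = -ε⁻¹ := by
      show (if i1 = i0 then ε else if i1 = i1 then -ε⁻¹ else 1) = _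
      rw [if_neg (Ne.symm h01), if_pos rfl]
    have hdo : ∀ b, b ≠ i0 → b ≠ i1 → d b = 1 := by
      intro b h0 h1
      show (if b = i0 then ε else if b = i1 then -ε⁻¹ else 1) = _
      rw [if_neg h0, if_neg h1]
    refine ⟨d, ?_, ?_⟩
    · intro b
      by_cases hb0 : b = i0
      · rw [hb0, hr0, hd0, hd1, hε]
        field_simp
      · by_cases hb1 : b = i1
        · rw [hb1, hr1, hd0, hd1, map_neg, map_inv₀, hε]
          field_simp
        · have h1 : Fin.rev b ≠ i0 := by
            intro h
            apply hb1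
            rw [← hr0, ← h, Fin.rev_rev]
          have h2 : Fin.rev b ≠ i1 := by
            intro h
            apply hb0
            rw [← hr1, ← h, Fin.rev_rev]
          rw [hdo b hb0 hb1, hdo _ h1 h2, map_one, mul_one]
    · rw [hJ', Finset.prod_eq_mul i0 i1 h01 (fun c _ hc => hdo c hc.1 hc.2)
        (fun h => absurd (Finset.mem_univ _) h) (fun h => absurd (Finset.mem_univ _) h), hd0, hd1]
      field_simp

end Cfsg.Agent.Lib.Helper70_StSU_REV
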