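/-
helper79 — package OPPL of helper27's STSU market (S2546, Steinberg character of PSU_n(q)):
conjugation by the Weyl representative `wL i k` maps the root element `xL i k t` to the opposite
root element `xL k i t`.
-/
import Mathlib
import Cfsg.Agent.Lib.Helper27_StSUDefs
import Cfsg.Agent.Lib.Helper27_StSUBasic

set_option autoImplicit false
set_option linter.unusedSectionVars false
set_option linter.unusedVariables false
set_option linter.unusedSimpArgs false

namespace Cfsg.Agent.Lib.Helper79_StSU_OPPL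

open Matrix Cfsg.Agent.Lib.Helper68_MatGrp Cfsg.Agent.Lib.Helper27_StSUDefs
  Cfsg.Agent.Lib.Helper27_StSUBasic

variable {n : ℕ} {F : Type*} [Field F] (σ : F →+* F)

/-- left multiplication of a matrix unit by the permutation matrix -/
theorem wLm_mul_single (i k a b : Fin n) (t : F) :
    (wLm i k : Matrix (Fin n) (Fin n) F) * single a b t = single (permL i k a) b t := by
  ext x y
  rw [Matrix.mul_apply, Finset.sum_eq_single a]
  · rw [wLm_apply, Matrix.single_apply, Matrix.single_apply]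
    by_cases hx : x = permL i k a
    · by_cases hy : b = y
      · simp [hx, hy]
      · simp [hx, hy]
    · have hx' : ¬ permL i k a = x := fun h => hx h.symm
      simp [hx, hx']
  · intro c _ hc
    rw [Matrix.single_apply, if_neg (fun h => hc h.1.symm), mul_zero]
  · intro h; exact absurd (Finset.mem_univ _) h

/-- right multiplication of a matrix unit by the permutation matrix -/
theorem single_mul_wLm (i k a b : Fin n) (t : F) :
    single a b t * (wLm i k : Matrix (Fin n) (Fin n) F) = single a ((permL i k).symm b) t := by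
  ext x y
  rw [Matrix.mul_apply, Finset.sum_eq_single b]
  · rw [wLm_apply, Matrix.single_apply, Matrix.single_apply]
    by_cases hy : b = permL i k y
    · have hy' : (permL i k).symm b = y := by rw [hy, Equiv.symm_apply_apply]
      by_cases hx : a = x
      · simp [hx, hy, hy']
      · simp [hx, hy]
    · have hy' : ¬ (permL i k).symm b = y := by
        intro h
        apply hy
        rw [← h, Equiv.apply_symm_apply]
      simp [hy, hy']
  · intro c _ hc
    rw [Matrix.single_apply, if_neg (fun h => hc h.2.symm), zero_mul]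
  · intro h; exact absurd (Finset.mem_univ _) h

section perm

variable {i k : Fin n} (h1 : i ≠ k) (h2 : i ≠ Fin.rev k) (h3 : i ≠ Fin.rev i) (h4 : k ≠ Fin.rev k)
include h1 h2 h3 h4

theorem rev_ne_aux : Fin.rev i ≠ k := by
  intro h
  apply h2
  rw [← h, Fin.rev_rev]

theorem permL_i : permL i k i = k := by
  unfold permL
  rw [Equiv.Perm.mul_apply, Equiv.swap_apply_of_ne_of_ne h3 h2, Equiv.swap_apply_left]

theorem permL_k : permL i k k = i := by
  unfold permL
  rw [Equiv.Perm.mul_apply,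
    Equiv.swap_apply_of_ne_of_ne (fun h => rev_ne_aux h1 h2 h3 h4 h.symm) h4,
    Equiv.swap_apply_right]

theorem permL_ri : permL i k (Fin.rev i) = Fin.rev k := by
  unfold permL
  rw [Equiv.Perm.mul_apply, Equiv.swap_apply_left,
    Equiv.swap_apply_of_ne_of_ne (fun h => h2 h.symm) (fun h => h4 h.symm)]

theorem permL_rk : permL i k (Fin.rev k) = Fin.rev i := by
  unfold permL
  rw [Equiv.Perm.mul_apply, Equiv.swap_apply_right,
    Equiv.swap_apply_of_ne_of_ne (fun h => h3 h.symm) (rev_ne_aux h1 h2 h3 h4)]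

theorem permL_symm_i : (permL i k).symm i = k := by
  rw [Equiv.symm_apply_eq, permL_k h1 h2 h3 h4]

theorem permL_symm_k : (permL i k).symm k = i := by
  rw [Equiv.symm_apply_eq, permL_i h1 h2 h3 h4]

theorem permL_symm_ri : (permL i k).symm (Fin.rev i) = Fin.rev k := by
  rw [Equiv.symm_apply_eq, permL_rk h1 h2 h3 h4]

theorem permL_symm_rk : (permL i k).symm (Fin.rev k) = Fin.rev i := by
  rw [Equiv.symm_apply_eq, permL_ri h1 h2 h3 h4]

/-- the matrix identity behind `oppL` -/
theorem xLm_mul_wLm (t : F) :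
    xLm σ i k t * (wLm i k : Matrix (Fin n) (Fin n) F) = wLm i k * xLm σ k i t := by
  unfold xLm
  rw [Matrix.sub_mul, Matrix.add_mul, Matrix.mul_sub, Matrix.mul_add, Matrix.one_mul,
    Matrix.mul_one, single_mul_wLm, single_mul_wLm, wLm_mul_single, wLm_mul_single,
    permL_symm_k h1 h2 h3 h4, permL_symm_ri h1 h2 h3 h4, permL_k h1 h2 h3 h4,
    permL_ri h1 h2 h3 h4]

/-- the matrix identity behind `oppL'` -/
theorem wLm_mul_xLm (t : F) :
    (wLm i k : Matrix (Fin n) (Fin n) F) * xLm σ i k t = xLm σ k i t * wLm i k := by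
  unfold xLm
  rw [Matrix.sub_mul, Matrix.add_mul, Matrix.mul_sub, Matrix.mul_add, Matrix.one_mul,
    Matrix.mul_one, single_mul_wLm, single_mul_wLm, wLm_mul_single, wLm_mul_single,
    permL_symm_i h1 h2 h3 h4, permL_symm_rk h1 h2 h3 h4, permL_i h1 h2 h3 h4,
    permL_rk h1 h2 h3 h4]

end perm

/-- `oppL` from the matrices of the three elements -/
theorem oppL_of_val (i k : Fin n) (h1 : i ≠ k) (h2 : i ≠ Fin.rev k) (h3 : i ≠ Fin.rev i)
    (h4 : k ≠ Fin.rev k) (t : F) (hx : (xL σ i k t).1.1 = xLm σ i k t)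
    (hx' : (xL σ k i t).1.1 = xLm σ k i t) (hw : (wL σ i k).1.1 = wLm i k) :
    (wL σ i k)⁻¹ * xL σ i k t * wL σ i k = xL σ k i t := by
  rw [mul_assoc, inv_mul_eq_iff_eq_mul]
  apply ext_val σ
  rw [mul_val, mul_val, hx, hx', hw]
  exact xLm_mul_wLm σ h1 h2 h3 h4 t

/-- `oppL'` from the matrices of the three elements -/
theorem oppL'_of_val (i k : Fin n) (h1 : i ≠ k) (h2 : i ≠ Fin.rev k) (h3 : i ≠ Fin.rev i)
    (h4 : k ≠ Fin.rev k) (t : F) (hx : (xL σ i k t).1.1 = xLm σ i k t)
    (hx' : (xL σ k i t).1.1 = xLm σ k i t) (hw : (wL σ i k).1.1 = wLm i k) :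
    wL σ i k * xL σ i k t * (wL σ i k)⁻¹ = xL σ k i t := by
  rw [mul_inv_eq_iff_eq_mul]
  apply ext_val σ
  rw [mul_val, mul_val, hx, hx', hw]
  exact wLm_mul_xLm σ h1 h2 h3 h4 t

/-! ### The matrices are in the group (own copy of MEML, to be independent of its landing) -/

theorem Jm_mul_single (a b : Fin n) (s : F) : Jm n F * single a b s = single (Fin.rev a) b s := by
  ext x y
  rw [Jm_mul_apply, Matrix.single_apply, Matrix.single_apply]
  by_cases h : a = Fin.rev x
  · have h' : Fin.rev a = x := by rw [h, Fin.rev_rev]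
    simp [h, h']
  · have h' : ¬ Fin.rev a = x := by
      intro h''
      apply h
      rw [← h'', Fin.rev_rev]
    simp [h, h']

theorem single_mul_Jm (a b : Fin n) (s : F) : single a b s * Jm n F = single a (Fin.rev b) s := by
  ext x y
  rw [mul_Jm_apply, Matrix.single_apply, Matrix.single_apply]
  by_cases h : b = Fin.rev y
  · have h' : Fin.rev b = y := by rw [h, Fin.rev_rev]
    simp [h, h']
  · have h' : ¬ Fin.rev b = y := by
      intro h''
      apply h
      rw [← h'', Fin.rev_rev]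
    simp [h, h']

theorem xLm_mem' (hσ : ∀ x, σ (σ x) = x) (i k : Fin n) (h1 : i ≠ k) (h2 : i ≠ Fin.rev k)
    (h3 : i ≠ Fin.rev i) (h4 : k ≠ Fin.rev k) (t : F) :
    (xLm σ i k t).det = 1 ∧ (xLm σ i k t)ᵀ * Jm n F * (xLm σ i k t).map σ = Jm n F := by
  have hri : Fin.rev i ≠ k := rev_ne_aux h1 h2 h3 h4
  constructor
  · have h : xLm σ i k t = Matrix.transvection i k t * Matrix.transvection (Fin.rev k) (Fin.rev i) (-(σ t)) := by
      unfold xLm Matrix.transvection
      rw [Matrix.add_mul, Matrix.mul_add, Matrix.mul_add, Matrix.mul_one, Matrix.one_mul,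
        Matrix.mul_one, single_mul_single_of_ne _ _ _ _ h4, ← Matrix.single_neg]
      abel
    rw [h, Matrix.det_mul, Matrix.det_transvection_of_ne _ _ h1,
      Matrix.det_transvection_of_ne _ _ (fun h => h1 (Fin.rev_injective h).symm), one_mul]
  · have hT : (xLm σ i k t)ᵀ = 1 + single k i t - single (Fin.rev i) (Fin.rev k) (σ t) := by
      unfold xLm
      rw [Matrix.transpose_sub, Matrix.transpose_add, Matrix.transpose_one, Matrix.transpose_single,
        Matrix.transpose_single]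
    have hM : (xLm σ i k t).map σ = 1 + single i k (σ t) - single (Fin.rev k) (Fin.rev i) t := by
      unfold xLm
      rw [Matrix.map_sub (f := σ) (fun a b => map_sub σ a b), Matrix.map_add (f := σ) (fun a b => map_add σ a b),
        Matrix.map_one σ (map_zero σ) (map_one σ), Matrix.map_single _ _ _ σ,
        Matrix.map_single _ _ _ σ, hσ]
    rw [hT, hM]
    simp only [Matrix.sub_mul, Matrix.add_mul, Matrix.mul_sub, Matrix.mul_add, Matrix.one_mul,
      Matrix.mul_one, single_mul_Jm, Jm_mul_single, Fin.rev_rev]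
    rw [single_mul_single_of_ne _ _ _ _ (fun h => h3 h.symm),
      single_mul_single_of_ne _ _ _ _ (fun h => h1 h.symm),
      single_mul_single_of_ne _ _ _ _ (fun h => h1 (Fin.rev_injective h)),
      single_mul_single_of_ne _ _ _ _ h4]
    abel


theorem permL_of_ne (i k b : Fin n) (hbi : b ≠ i) (hbk : b ≠ k) (hbi' : b ≠ Fin.rev i)
    (hbk' : b ≠ Fin.rev k) : permL i k b = b := by
  unfold permL
  rw [Equiv.Perm.mul_apply, Equiv.swap_apply_of_ne_of_ne hbi' hbk',
    Equiv.swap_apply_of_ne_of_ne hbi hbk]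

theorem permL_rev (i k : Fin n) (h1 : i ≠ k) (h2 : i ≠ Fin.rev k) (h3 : i ≠ Fin.rev i)
    (h4 : k ≠ Fin.rev k) (b : Fin n) : permL i k (Fin.rev b) = Fin.rev (permL i k b) := by
  by_cases hbi : b = i
  · rw [hbi, permL_ri h1 h2 h3 h4, permL_i h1 h2 h3 h4]
  by_cases hbk : b = k
  · rw [hbk, permL_rk h1 h2 h3 h4, permL_k h1 h2 h3 h4]
  by_cases hbi' : b = Fin.rev i
  · rw [hbi', Fin.rev_rev, permL_ri h1 h2 h3 h4, permL_i h1 h2 h3 h4, Fin.rev_rev]
  by_cases hbk' : b = Fin.rev k
  · rw [hbk', Fin.rev_rev, permL_rk h1 h2 h3 h4, permL_k h1 h2 h3 h4, Fin.rev_rev]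
  rw [permL_of_ne i k b hbi hbk hbi' hbk', permL_of_ne i k (Fin.rev b)]
  · intro h; apply hbi'; rw [← h, Fin.rev_rev]
  · intro h; apply hbk'; rw [← h, Fin.rev_rev]
  · intro h; exact hbi (Fin.rev_injective h)
  · intro h; exact hbk (Fin.rev_injective h)

theorem wLm_eq_perm (i k : Fin n) :
    (wLm i k : Matrix (Fin n) (Fin n) F) = ((permL i k).permMatrix F)ᵀ := by
  ext a b
  rw [wLm_apply, Matrix.transpose_apply, Equiv.Perm.permMatrix, PEquiv.toMatrix_apply]
  simp only [Equiv.toPEquiv_apply, Option.mem_def, Option.some.injEq]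
  by_cases h : a = permL i k b
  · rw [if_pos h, if_pos h.symm]
  · rw [if_neg h, if_neg (fun h' => h h'.symm)]

theorem wLm_mem' (i k : Fin n) (h1 : i ≠ k) (h2 : i ≠ Fin.rev k) (h3 : i ≠ Fin.rev i)
    (h4 : k ≠ Fin.rev k) :
    (wLm i k : Matrix (Fin n) (Fin n) F).det = 1 ∧
      (wLm i k : Matrix (Fin n) (Fin n) F)ᵀ * Jm n F * (wLm i k : Matrix (Fin n) (Fin n) F).map σ
        = Jm n F := by
  constructor
  · rw [wLm_eq_perm, Matrix.det_transpose, Matrix.det_permutation]
    unfold permL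
    rw [Equiv.Perm.sign_mul, Equiv.Perm.sign_swap h1,
      Equiv.Perm.sign_swap (fun h => h1 (Fin.rev_injective h))]
    simp
  · have hM : (wLm i k : Matrix (Fin n) (Fin n) F).map σ = wLm i k := by
      ext a b
      rw [Matrix.map_apply, wLm_apply]
      split_ifs <;> simp
    rw [hM]
    ext a b
    rw [Matrix.mul_apply, Finset.sum_eq_single (permL i k b)]
    · rw [mul_Jm_apply, Matrix.transpose_apply, wLm_apply, wLm_apply, if_pos rfl, mul_one, Jm_apply,
        ← permL_rev i k h1 h2 h3 h4]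
      by_cases h : a = Fin.rev b
      · rw [if_pos h, if_pos (by rw [h])]
      · rw [if_neg h, if_neg (fun h' => h ((permL i k).injective h').symm)]
    · intro c _ hc
      rw [wLm_apply, if_neg hc, mul_zero]
    · intro h; exact absurd (Finset.mem_univ _) h

/-- VAL -/
theorem xL_val' (hσ : ∀ x, σ (σ x) = x) (i k : Fin n) (h1 : i ≠ k) (h2 : i ≠ Fin.rev k)
    (h3 : i ≠ Fin.rev i) (h4 : k ≠ Fin.rev k) (t : F) : (xL σ i k t).1.1 = xLm σ i k t :=
  mkE_val σ (xLm_mem' σ hσ i k h1 h2 h3 h4 t).1 (xLm_mem' σ hσ i k h1 h2 h3 h4 t).2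

theorem wL_val' (i k : Fin n) (h1 : i ≠ k) (h2 : i ≠ Fin.rev k) (h3 : i ≠ Fin.rev i)
    (h4 : k ≠ Fin.rev k) : (wL σ i k).1.1 = wLm i k :=
  mkE_val σ (wLm_mem' σ i k h1 h2 h3 h4).1 (wLm_mem' σ i k h1 h2 h3 h4).2

/-- OPPL -/
theorem oppL (hσ : ∀ x, σ (σ x) = x) (i k : Fin n) (h1 : i ≠ k) (h2 : i ≠ Fin.rev k) (h3 : i ≠ Fin.rev i)
    (h4 : k ≠ Fin.rev k) (t : F) : (wL σ i k)⁻¹ * xL σ i k t * wL σ i k = xL σ k i t :=
  oppL_of_val σ i k h1 h2 h3 h4 t (xL_val' σ hσ i k h1 h2 h3 h4 t)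
    (xL_val' σ hσ k i (fun h => h1 h.symm) (fun h => rev_ne_aux h1 h2 h3 h4 h.symm) h4 h3 t)
    (wL_val' σ i k h1 h2 h3 h4)

theorem oppL' (hσ : ∀ x, σ (σ x) = x) (i k : Fin n) (h1 : i ≠ k) (h2 : i ≠ Fin.rev k) (h3 : i ≠ Fin.rev i)
    (h4 : k ≠ Fin.rev k) (t : F) : wL σ i k * xL σ i k t * (wL σ i k)⁻¹ = xL σ k i t :=
  oppL'_of_val σ i k h1 h2 h3 h4 t (xL_val' σ hσ i k h1 h2 h3 h4 t)
    (xL_val' σ hσ k i (fun h => h1 h.symm) (fun h => rev_ne_aux h1 h2 h3 h4 h.symm) h4 h3 t)
    (wL_val' σ i k h1 h2 h3 h4)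

end Cfsg.Agent.Lib.Helper79_StSU_OPPL
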