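import Mathlib
import Cfsg.Agent.Lib.Helper27_StSUDefs
import Cfsg.Agent.Lib.Helper27_StSUBasic
import Cfsg.Agent.Lib.Helper55_StSU_MEMX
import Cfsg.Agent.Lib.Helper30_StSU_MEML
import Cfsg.Agent.Lib.Helper99_StSU_MEMQ

set_option autoImplicit false
set_option linter.unusedSectionVars false
set_option linter.unusedVariables false
set_option linter.unusedSimpArgs false

/-!
# S2546 market (architect helper27), package MONOW: the Weyl representatives are monomial

The matrix statements (`wLm_mono`, `wXm_mono`, `wQm_mono`) are unconditional; the statements for the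
elements take the value lemmas (`wL_val`, `wX_val`, `wQ_val` of the market, consequences of MEML, MEMX,
MEMQ) as hypotheses in the `_core` versions.
-/

namespace Cfsg.Agent.Lib.Helper86_StSU_MONOW

open Matrix Cfsg.Agent.Lib.Helper68_MatGrp Cfsg.Agent.Lib.Helper27_StSUDefs
  Cfsg.Agent.Lib.Helper27_StSUBasic

variable {n : ℕ} {F : Type*} [Field F] (σ : F →+* F)

theorem wLm_mono (i k a b : Fin n) (hab : a ≠ permL i k b) :
    (wLm i k : Matrix (Fin n) (Fin n) F) a b = 0 := by
  rw [wLm_apply, if_neg hab]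

theorem wXm_mono (ε : F) (i : Fin n) (h : i ≠ Fin.rev i) (a b : Fin n)
    (hab : a ≠ Equiv.swap i (Fin.rev i) b) : wXm ε i a b = 0 := by
  have h' : Fin.rev i ≠ i := Ne.symm h
  simp only [wXm, Matrix.sub_apply, Matrix.add_apply, Matrix.one_apply, Matrix.single_apply]
  by_cases hbi : b = i
  · subst hbi
    rw [Equiv.swap_apply_left] at hab
    by_cases hai : a = b
    · subst hai
      simp [h, h']
    · have hai' : ¬ b = a := fun h0 => hai h0.symm
      have hab' : ¬ Fin.rev b = a := fun h0 => hab h0.symm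
      simp [h, h', hai, hab, hai', hab']
  · by_cases hbi' : b = Fin.rev i
    · subst hbi'
      rw [Equiv.swap_apply_right] at hab
      have hab' : ¬ i = a := fun h0 => hab h0.symm
      by_cases hai : a = Fin.rev i
      · subst hai
        simp [h, h']
      · have hai' : ¬ Fin.rev i = a := fun h0 => hai h0.symm
        simp [h, h', hai, hab, hai', hab']
    · rw [Equiv.swap_apply_of_ne_of_ne hbi hbi'] at hab
      have hbi2 : ¬ i = b := fun h0 => hbi h0.symm
      have hbi2' : ¬ Fin.rev i = b := fun h0 => hbi' h0.symm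
      simp [hab, hbi, hbi', hbi2, hbi2']

theorem wQm_mono (i c : Fin n) (hc : c = Fin.rev c) (hic : i ≠ c) (a b : Fin n)
    (hab : a ≠ Equiv.swap i (Fin.rev i) b) :
    (wQm i c : Matrix (Fin n) (Fin n) F) a b = 0 := by
  have hci : c ≠ i := Ne.symm hic
  have hic' : Fin.rev i ≠ c := by
    intro h0
    apply hic
    have : Fin.rev (Fin.rev i) = Fin.rev c := by rw [h0]
    rw [Fin.rev_rev, ← hc] at this
    exact this
  have hci' : c ≠ Fin.rev i := Ne.symm hic'
  have h : i ≠ Fin.rev i := by
    intro h0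
    -- then `i` is the middle index as well as `c`, so `i = c`
    apply hic
    apply Fin.ext
    have h1 := congrArg Fin.val h0
    have h2 := congrArg Fin.val hc
    rw [Fin.val_rev] at h1 h2
    omega
  have h' : Fin.rev i ≠ i := Ne.symm h
  simp only [wQm, Matrix.sub_apply, Matrix.add_apply, Matrix.one_apply, Matrix.single_apply]
  by_cases hbi : b = i
  · subst hbi
    rw [Equiv.swap_apply_left] at hab
    by_cases hai : a = b
    · subst hai
      simp [h, h', hic, hci]
    · have hai' : ¬ b = a := fun h0 => hai h0.symm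
      have hab' : ¬ Fin.rev b = a := fun h0 => hab h0.symm
      simp [h, h', hai, hab, hai', hab', hic, hci]
  · by_cases hbi' : b = Fin.rev i
    · subst hbi'
      rw [Equiv.swap_apply_right] at hab
      have hab' : ¬ i = a := fun h0 => hab h0.symm
      by_cases hai : a = Fin.rev i
      · subst hai
        simp [h, h', hic', hci']
      · have hai' : ¬ Fin.rev i = a := fun h0 => hai h0.symm
        simp [h, h', hai, hab, hai', hab', hic', hci']
    · rw [Equiv.swap_apply_of_ne_of_ne hbi hbi'] at hab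
      have hbi2 : ¬ i = b := fun h0 => hbi h0.symm
      have hbi2' : ¬ Fin.rev i = b := fun h0 => hbi' h0.symm
      have hab' : ¬ b = a := fun h0 => hab h0.symm
      by_cases hbc : b = c
      · subst hbc
        have hcb : ¬ b = a := hab'
        simp [hab, hbi, hbi', hbi2, hbi2', hab']
      · have hcb : ¬ c = b := fun h0 => hbc h0.symm
        simp [hab, hbi, hbi', hbi2, hbi2', hab', hbc, hcb]

/-- `wL_isMono` from the value lemma `wL_val` -/
theorem wL_isMono_core (i k : Fin n) (hval : (wL σ i k).1.1 = wLm i k) :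
    IsMono (φ n σ) (wL σ i k) (permL i k) := by
  intro a b hab
  rw [φ_apply, hval]
  exact wLm_mono i k a b hab

/-- `wX_isMono` from the value lemma `wX_val` -/
theorem wX_isMono_core (ε : F) (i : Fin n) (h : i ≠ Fin.rev i)
    (hval : (wX σ ε i).1.1 = wXm ε i) :
    IsMono (φ n σ) (wX σ ε i) (Equiv.swap i (Fin.rev i)) := by
  intro a b hab
  rw [φ_apply, hval]
  exact wXm_mono ε i h a b hab

/-- `wQ_isMono` from the value lemma `wQ_val` -/
theorem wQ_isMono_core (i c : Fin n) (hc : c = Fin.rev c) (hic : i ≠ c)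
    (hval : (wQ σ i c).1.1 = wQm i c) :
    IsMono (φ n σ) (wQ σ i c) (Equiv.swap i (Fin.rev i)) := by
  intro a b hab
  rw [φ_apply, hval]
  exact wQm_mono i c hc hic a b hab

/-- MONOW, type X (verbatim; `wX_val` from the landed MEMX). -/
theorem wX_isMono (ε : F) (hε0 : ε ≠ 0) (hε : σ ε = -ε) (i : Fin n) (h : i ≠ Fin.rev i) :
    IsMono (φ n σ) (wX σ ε i) (Equiv.swap i (Fin.rev i)) :=
  wX_isMono_core σ ε i h
    (mkE_val σ (Cfsg.Agent.Lib.Helper55_StSU_MEMX.wXm_mem σ ε hε0 hε i h).1
      (Cfsg.Agent.Lib.Helper55_StSU_MEMX.wXm_mem σ ε hε0 hε i h).2)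

/-- MONOW, type L (verbatim; `wL_val` from the landed MEML). -/
theorem wL_isMono (i k : Fin n) (h1 : i ≠ k) (h2 : i ≠ Fin.rev k) (h3 : i ≠ Fin.rev i)
    (h4 : k ≠ Fin.rev k) : IsMono (φ n σ) (wL σ i k) (permL i k) :=
  wL_isMono_core σ i k
    (mkE_val σ (Cfsg.Agent.Lib.Helper30_StSU_MEML.wLm_mem σ i k h1 h2 h3 h4).1
      (Cfsg.Agent.Lib.Helper30_StSU_MEML.wLm_mem σ i k h1 h2 h3 h4).2)

/-- MONOW, type Q (verbatim; `wQ_val` from the landed MEMQ). -/
theorem wQ_isMono (i c : Fin n) (hc : c = Fin.rev c) (hic : i ≠ c) :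
    IsMono (φ n σ) (wQ σ i c) (Equiv.swap i (Fin.rev i)) :=
  wQ_isMono_core σ i c hc hic
    (mkE_val σ (Cfsg.Agent.Lib.Helper99_StSU_MEMQ.wQm_mem σ i c hc hic).1
      (Cfsg.Agent.Lib.Helper99_StSU_MEMQ.wQm_mem σ i c hc hic).2)

end Cfsg.Agent.Lib.Helper86_StSU_MONOW
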