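import Mathlib
import Cfsg.Agent.Lib.Helper27_StSUDefs
import Cfsg.Agent.Lib.Helper27_StSUBasic

/-!
# S2546 market (architect helper27), package GENA, hypothesis form: the subgroup generated by the simple
reflections `s_j`, `j ≥ k`, moves `e_k` to a multiple of every `e_{a₀}`, `k ≤ a₀ ≤ rev k`, `a₀` not the middle index,
inside `Pk k`. The matrices of the Weyl representatives (VAL lemmas of MEML, MEMX, MEMQ) enter as hypotheses.
-/

set_option autoImplicit false
set_option linter.unusedSectionVars false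
set_option linter.unusedVariables false
set_option linter.unusedSimpArgs false

namespace Cfsg.Agent.Lib.Helper88_StSU_GENAaux

open Matrix Cfsg.Agent.Lib.Helper68_MatGrp Cfsg.Agent.Lib.Helper27_StSUDefs
  Cfsg.Agent.Lib.Helper27_StSUBasic

variable {n : ℕ} {F : Type*} [Field F] (σ : F →+* F)

/-- the property to be propagated -/
def Reach (ε : F) (k : Fin (n / 2)) (a₀ : Fin n) : Prop :=
  ∃ g ∈ Subgroup.closure (Set.range (ss (n := n) σ ε)), g ∈ Pk n σ k.val ∧
    ∃ c : F, g.1.1 *ᵥ Pi.single (lo k) 1 = Pi.single a₀ c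

theorem single_eq_smul (b : Fin n) (c : F) : (Pi.single b c : Fin n → F) = c • Pi.single b 1 := by
  ext x
  by_cases h : x = b
  · subst h; simp
  · simp [Pi.single_apply, h]

/-- one step -/
theorem Reach.step {ε : F} {k : Fin (n / 2)} {b b' : Fin n} (h : Reach σ ε k b) (s : ↥(SUJ n σ))
    (hs : s ∈ Subgroup.closure (Set.range (ss (n := n) σ ε))) (hsP : s ∈ Pk n σ k.val) (d : F)
    (hsb : s.1.1 *ᵥ Pi.single b 1 = Pi.single b' d) : Reach σ ε k b' := by
  obtain ⟨g, hg, hgP, c, hc⟩ := h
  refine ⟨s * g, Subgroup.mul_mem _ hs hg, Subgroup.mul_mem _ hsP hgP, c * d, ?_⟩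
  rw [mul_val, ← Matrix.mulVec_mulVec, hc, single_eq_smul b c, Matrix.mulVec_smul, hsb,
    single_eq_smul b' (c * d), single_eq_smul b' d, smul_smul]

theorem Reach.base (ε : F) (k : Fin (n / 2)) : Reach σ ε k (lo k) :=
  ⟨1, Subgroup.one_mem _, Subgroup.one_mem _, 1, by rw [one_val, Matrix.one_mulVec]⟩

/-! ### Columns of the Weyl matrices -/

theorem wLm_mulVec (i k b : Fin n) :
    (wLm i k : Matrix (Fin n) (Fin n) F) *ᵥ Pi.single b 1 = Pi.single (permL i k b) 1 := by
  ext x
  rw [Matrix.mulVec_single_one, Matrix.col_apply, wLm_apply, Pi.single_apply]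

theorem permL_left (i k : Fin n) (h2 : i ≠ Fin.rev k) (h3 : i ≠ Fin.rev i) : permL i k i = k := by
  unfold permL
  rw [Equiv.Perm.mul_apply, Equiv.swap_apply_of_ne_of_ne h3 h2, Equiv.swap_apply_left]

theorem permL_rev_right (i k : Fin n) (h2 : i ≠ Fin.rev k) (h3 : i ≠ Fin.rev i) :
    permL i k (Fin.rev k) = Fin.rev i := by
  unfold permL
  rw [Equiv.Perm.mul_apply, Equiv.swap_apply_right,
    Equiv.swap_apply_of_ne_of_ne (fun h => h3 h.symm)]
  intro h
  apply h2
  rw [← h, Fin.rev_rev]

theorem permL_of_ne (i k b : Fin n) (h1 : b ≠ i) (h2 : b ≠ k) (h3 : b ≠ Fin.rev i) (h4 : b ≠ Fin.rev k) :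
    permL i k b = b := by
  unfold permL
  rw [Equiv.Perm.mul_apply, Equiv.swap_apply_of_ne_of_ne h3 h4, Equiv.swap_apply_of_ne_of_ne h1 h2]

theorem wXm_col (ε : F) (i : Fin n) (h : i ≠ Fin.rev i) :
    (wXm ε i : Matrix (Fin n) (Fin n) F) *ᵥ Pi.single i 1 = Pi.single (Fin.rev i) (-ε⁻¹) := by
  ext x
  rw [Matrix.mulVec_single_one, Matrix.col_apply, Pi.single_apply]
  unfold wXm
  have h' : Fin.rev i ≠ i := fun e => h e.symm
  by_cases h1 : x = i
  · subst h1
    simp [Matrix.single_apply, Matrix.one_apply, h, h']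
  · by_cases h2 : x = Fin.rev i
    · subst h2
      simp [Matrix.single_apply, Matrix.one_apply, h, h']
    · have h1' : ¬ i = x := fun e => h1 e.symm
      have h2' : ¬ Fin.rev i = x := fun e => h2 e.symm
      simp [Matrix.single_apply, Matrix.one_apply, h1, h2, h1', h2']

theorem wXm_other (ε : F) (i a b : Fin n) (hb1 : b ≠ i) (hb2 : b ≠ Fin.rev i) (hab : a ≠ b) :
    (wXm ε i : Matrix (Fin n) (Fin n) F) a b = 0 := by
  unfold wXm
  have hb1' : ¬ i = b := fun e => hb1 e.symm
  have hb2' : ¬ Fin.rev i = b := fun e => hb2 e.symm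
  simp [Matrix.single_apply, Matrix.one_apply, hab, hb1', hb2']

theorem wQm_col (i c : Fin n) (hic : i ≠ c) (h : i ≠ Fin.rev i) :
    (wQm i c : Matrix (Fin n) (Fin n) F) *ᵥ Pi.single i 1 = Pi.single (Fin.rev i) 1 := by
  ext x
  rw [Matrix.mulVec_single_one, Matrix.col_apply, Pi.single_apply]
  unfold wQm
  have h' : Fin.rev i ≠ i := fun e => h e.symm
  have hci : ¬ c = i := fun e => hic e.symm
  by_cases h1 : x = i
  · subst h1
    simp [Matrix.single_apply, Matrix.one_apply, h, h', hci]
  · by_cases h2 : x = Fin.rev i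
    · subst h2
      simp [Matrix.single_apply, Matrix.one_apply, h, h', hci]
    · have h1' : ¬ i = x := fun e => h1 e.symm
      have h2' : ¬ Fin.rev i = x := fun e => h2 e.symm
      simp [Matrix.single_apply, Matrix.one_apply, h1, h2, h1', h2', hci]

theorem wQm_other (i c a b : Fin n) (hb1 : b ≠ i) (hb2 : b ≠ Fin.rev i) (hb3 : b ≠ c) (hab : a ≠ b) :
    (wQm i c : Matrix (Fin n) (Fin n) F) a b = 0 := by
  unfold wQm
  have hb1' : ¬ i = b := fun e => hb1 e.symm
  have hb2' : ¬ Fin.rev i = b := fun e => hb2 e.symm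
  have hb3' : ¬ c = b := fun e => hb3 e.symm
  simp [Matrix.single_apply, Matrix.one_apply, hab, hb1', hb2', hb3']

/-! ### The simple reflections -/

section Refl
variable (ε : F)
  (hL : ∀ i k : Fin n, i ≠ k → i ≠ Fin.rev k → i ≠ Fin.rev i → k ≠ Fin.rev k → (wL σ i k).1.1 = wLm i k)
  (hX : ∀ i : Fin n, i ≠ Fin.rev i → (wX σ ε i).1.1 = wXm ε i)
  (hQ : ∀ i c : Fin n, c = Fin.rev c → i ≠ c → (wQ σ i c).1.1 = wQm i c)

theorem ss_mem_closure (j : Fin (n / 2)) : ss σ ε j ∈ Subgroup.closure (Set.range (ss (n := n) σ ε)) :=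
  Subgroup.subset_closure ⟨j, rfl⟩

include hL in
/-- type L: the matrix -/
theorem ssL_val (j : Fin (n / 2)) (hj : j.val + 1 < n / 2) : (ss σ ε j).1.1 = wLm (lo j) (lo1 j) := by
  have h0 := j.2
  unfold ss
  rw [if_pos hj]
  apply hL
  · intro h
    have := congrArg Fin.val h
    simp only [lo_val, lo1_val] at this
    omega
  · intro h
    have := congrArg Fin.val h
    simp only [Fin.val_rev, lo_val, lo1_val] at this
    omega
  · intro h
    have := congrArg Fin.val h
    simp only [Fin.val_rev, lo_val] at this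
    omega
  · intro h
    have := congrArg Fin.val h
    simp only [Fin.val_rev, lo1_val] at this
    omega

include hL in
theorem ssL_mem_Pk (j : Fin (n / 2)) (hj : j.val + 1 < n / 2) (k : ℕ) (hk : k ≤ j.val) :
    ss σ ε j ∈ Pk n σ k := by
  have h0 := j.2
  rw [mem_Pk]
  intro a b hb hab
  rw [ssL_val σ ε hL j hj, wLm_apply, permL_of_ne, if_neg (ne_of_gt hab)]
  · intro h
    have := congrArg Fin.val h
    simp only [lo_val] at this
    omega
  · intro h
    have := congrArg Fin.val h
    simp only [lo1_val] at this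
    omega
  · intro h
    have := congrArg Fin.val h
    simp only [Fin.val_rev, lo_val] at this
    omega
  · intro h
    have := congrArg Fin.val h
    simp only [Fin.val_rev, lo1_val] at this
    omega

include hL in
theorem ssL_up (j : Fin (n / 2)) (hj : j.val + 1 < n / 2) :
    (ss σ ε j).1.1 *ᵥ Pi.single (lo j) 1 = Pi.single (lo1 j) 1 := by
  have h0 := j.2
  rw [ssL_val σ ε hL j hj, wLm_mulVec, permL_left]
  · intro h
    have := congrArg Fin.val h
    simp only [Fin.val_rev, lo_val, lo1_val] at this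
    omega
  · intro h
    have := congrArg Fin.val h
    simp only [Fin.val_rev, lo_val] at this
    omega

include hL in
theorem ssL_down (j : Fin (n / 2)) (hj : j.val + 1 < n / 2) :
    (ss σ ε j).1.1 *ᵥ Pi.single (Fin.rev (lo1 j)) 1 = Pi.single (Fin.rev (lo j)) 1 := by
  have h0 := j.2
  rw [ssL_val σ ε hL j hj, wLm_mulVec, permL_rev_right]
  · intro h
    have := congrArg Fin.val h
    simp only [Fin.val_rev, lo_val, lo1_val] at this
    omega
  · intro h
    have := congrArg Fin.val h
    simp only [Fin.val_rev, lo_val] at this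
    omega

include hX hQ in
/-- the last reflection lies in `Pk k` -/
theorem ssM_mem_Pk (j : Fin (n / 2)) (hj : ¬ j.val + 1 < n / 2) (k : ℕ) (hk : k ≤ j.val) :
    ss σ ε j ∈ Pk n σ k := by
  have h0 := j.2
  rw [mem_Pk]
  intro a b hb hab
  have hab' : a ≠ b := ne_of_gt hab
  unfold ss
  rw [if_neg hj]
  by_cases hn : n % 2 = 0
  · rw [if_pos hn, hX]
    · apply wXm_other _ _ _ _ _ _ hab'
      · intro h
        have := congrArg Fin.val h
        simp only [lo_val] at this
        omega
      · intro h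
        have := congrArg Fin.val h
        simp only [Fin.val_rev, lo_val] at this
        omega
    · intro h
      have := congrArg Fin.val h
      simp only [Fin.val_rev, lo_val] at this
      omega
  · rw [if_neg hn, hQ]
    · apply wQm_other _ _ _ _ _ _ _ hab'
      · intro h
        have := congrArg Fin.val h
        simp only [lo_val] at this
        omega
      · intro h
        have := congrArg Fin.val h
        simp only [Fin.val_rev, lo_val] at this
        omega
      · intro h
        have := congrArg Fin.val h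
        simp only [lo1_val] at this
        omega
    · apply Fin.ext
      simp only [Fin.val_rev, lo1_val]
      omega
    · intro h
      have := congrArg Fin.val h
      simp only [lo_val, lo1_val] at this
      omega

include hX hQ in
/-- the last reflection moves `e_i` to a multiple of `e_{rev i}` -/
theorem ssM_act (j : Fin (n / 2)) (hj : ¬ j.val + 1 < n / 2) :
    ∃ d : F, (ss σ ε j).1.1 *ᵥ Pi.single (lo j) 1 = Pi.single (Fin.rev (lo j)) d := by
  have h0 := j.2
  have hne : lo j ≠ Fin.rev (lo j) := by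
    intro h
    have := congrArg Fin.val h
    simp only [Fin.val_rev, lo_val] at this
    omega
  unfold ss
  rw [if_neg hj]
  by_cases hn : n % 2 = 0
  · rw [if_pos hn, hX _ hne]
    exact ⟨_, wXm_col ε (lo j) hne⟩
  · rw [if_neg hn, hQ]
    · refine ⟨1, wQm_col (lo j) (lo1 j) ?_ hne⟩
      intro h
      have := congrArg Fin.val h
      simp only [lo_val, lo1_val] at this
      omega
    · apply Fin.ext
      simp only [Fin.val_rev, lo1_val]
      omega
    · intro h
      have := congrArg Fin.val h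
      simp only [lo_val, lo1_val] at this
      omega

/-! ### The three phases -/

include hL in
theorem reach_up (k : Fin (n / 2)) (d : ℕ) (hd : k.val + d < n / 2) :
    Reach σ ε k ⟨k.val + d, by omega⟩ := by
  induction d with
  | zero => exact Reach.base σ ε k
  | succ d ih =>
    have hd' : k.val + d < n / 2 := by omega
    have h := ih hd'
    let j : Fin (n / 2) := ⟨k.val + d, hd'⟩
    have hj : j.val + 1 < n / 2 := by show k.val + d + 1 < n / 2; omega
    exact h.step σ (ss σ ε j) (ss_mem_closure σ ε j) (ssL_mem_Pk σ ε hL j hj k.val (by show k.val ≤ k.val + d; omega))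
      1 (ssL_up σ ε hL j hj)

include hL hX hQ in
theorem reach_mid (k : Fin (n / 2)) :
    Reach σ ε k (Fin.rev ⟨n / 2 - 1, by have := k.2; omega⟩) := by
  have h0 := k.2
  have hd : k.val + (n / 2 - 1 - k.val) < n / 2 := by omega
  have h := reach_up σ ε hL k (n / 2 - 1 - k.val) hd
  let j : Fin (n / 2) := ⟨n / 2 - 1, by omega⟩
  have hj : ¬ j.val + 1 < n / 2 := by show ¬ (n / 2 - 1 + 1 < n / 2); omega
  have hlo : (⟨k.val + (n / 2 - 1 - k.val), by omega⟩ : Fin n) = lo j := by
    apply Fin.ext
    show k.val + (n / 2 - 1 - k.val) = n / 2 - 1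
    omega
  rw [hlo] at h
  obtain ⟨d, hd⟩ := ssM_act σ ε hX hQ j hj
  exact h.step σ (ss σ ε j) (ss_mem_closure σ ε j)
    (ssM_mem_Pk σ ε hX hQ j hj k.val (by show k.val ≤ n / 2 - 1; omega)) d hd

include hL hX hQ in
theorem reach_down (k : Fin (n / 2)) (e : ℕ) : ∀ j' : ℕ, ∀ hj' : j' + e + 1 = n / 2, k.val ≤ j' →
    Reach σ ε k (Fin.rev ⟨j', by omega⟩) := by
  induction e with
  | zero =>
    intro j' hj' hk
    have h := reach_mid σ ε hL hX hQ k
    have e1 : (⟨n / 2 - 1, by have := k.2; omega⟩ : Fin n) = ⟨j', by omega⟩ := by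
      apply Fin.ext
      show n / 2 - 1 = j'
      omega
    rw [e1] at h
    exact h
  | succ e ih =>
    intro j' hj' hk
    have h := ih (j' + 1) (by omega) (by omega)
    let j : Fin (n / 2) := ⟨j', by omega⟩
    have hj : j.val + 1 < n / 2 := by show j' + 1 < n / 2; omega
    have e1 : (⟨j' + 1, by omega⟩ : Fin n) = lo1 j := rfl
    rw [e1] at h
    exact h.step σ (ss σ ε j) (ss_mem_closure σ ε j) (ssL_mem_Pk σ ε hL j hj k.val hk) 1
      (ssL_down σ ε hL j hj)

include hL hX hQ in
/-- GENA, with the matrices of the Weyl representatives as hypotheses -/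
theorem genA_of (k : Fin (n / 2)) (a₀ : Fin n)
    (h1 : k.val ≤ a₀.val) (h2 : a₀.val ≤ n - 1 - k.val) (h3 : a₀ ≠ Fin.rev a₀) :
    ∃ g ∈ Subgroup.closure (Set.range (ss (n := n) σ ε)), g ∈ Pk n σ k.val ∧
      ∃ c : F, g.1.1 *ᵥ Pi.single (lo k) 1 = Pi.single a₀ c := by
  have h0 := k.2
  have ha := a₀.2
  have h3' : a₀.val ≠ n - (a₀.val + 1) := by
    intro h
    apply h3
    apply Fin.ext
    rw [Fin.val_rev]
    exact h
  by_cases hlt : a₀.val < n / 2
  · have h := reach_up σ ε hL k (a₀.val - k.val) (by omega)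
    have e1 : (⟨k.val + (a₀.val - k.val), by omega⟩ : Fin n) = a₀ := by
      apply Fin.ext
      show k.val + (a₀.val - k.val) = a₀.val
      omega
    rw [e1] at h
    exact h
  · have hj'lt : n - 1 - a₀.val < n / 2 := by omega
    have h := reach_down σ ε hL hX hQ k (n / 2 - 1 - (n - 1 - a₀.val)) (n - 1 - a₀.val) (by omega) (by omega)
    have e1 : Fin.rev (⟨n - 1 - a₀.val, by omega⟩ : Fin n) = a₀ := by
      apply Fin.ext
      rw [Fin.val_rev]
      show n - (n - 1 - a₀.val + 1) = a₀.val
      omega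
    rw [e1] at h
    exact h

end Refl

end Cfsg.Agent.Lib.Helper88_StSU_GENAaux
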