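import Mathlib
import Cfsg.Agent.Lib.Helper27_StSUDefs
import Cfsg.Agent.Lib.Helper27_StSUBasic

/-!
# S2546 market (architect helper27), package GENB: an isotropic vector with top index `a` is the image of
`v_a e_a` under an upper triangular element of `SUJ n σ` (one Eichler element).
-/

set_option autoImplicit false
set_option linter.unusedSectionVars false
set_option linter.unusedVariables false

namespace Cfsg.Agent.Lib.Helper88_StSU_GENB

open Matrix Cfsg.Agent.Lib.Helper68_MatGrp Cfsg.Agent.Lib.Helper27_StSUDefs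
  Cfsg.Agent.Lib.Helper27_StSUBasic

variable {n : ℕ} {F : Type*} [Field F] (σ : F →+* F)

/-- the top index of an isotropic vector is not the middle index. -/
theorem top_ne_rev (v : Fin n → F) (a : Fin n) (hva : v a ≠ 0)
    (htop : ∀ c, a < c → v c = 0) (hiso : ∑ x, v x * σ (v (Fin.rev x)) = 0) : a ≠ Fin.rev a := by
  intro ha
  rw [Finset.sum_eq_single a] at hiso
  · rw [← ha] at hiso
    rcases mul_eq_zero.mp hiso with h | h
    · exact hva h
    · exact hva ((map_eq_zero σ).mp h)
  · intro x _ hx
    rcases lt_or_gt_of_ne hx with h | h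
    · have : a < Fin.rev x := by
        rw [ha]; exact Fin.rev_lt_rev.mpr h
      rw [htop _ this, map_zero, mul_zero]
    · rw [htop _ h, zero_mul]
  · intro h; exact absurd (Finset.mem_univ _) h

/-- the Eichler matrix -/
def eM (a : Fin n) (w : Fin n → F) (c : F) : Matrix (Fin n) (Fin n) F :=
  Matrix.of fun x y => (if x = y then 1 else 0) + (if y = a then w x else 0)
    - (if x = Fin.rev a then σ (w (Fin.rev y)) else 0) + (if y = a ∧ x = Fin.rev a then c else 0)

theorem eM_apply (a : Fin n) (w : Fin n → F) (c : F) (x y : Fin n) :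
    eM σ a w c x y = (if x = y then 1 else 0) + (if y = a then w x else 0)
      - (if x = Fin.rev a then σ (w (Fin.rev y)) else 0) + (if y = a ∧ x = Fin.rev a then c else 0) := rfl

/-- column `a` of the Eichler matrix -/
theorem eM_col (a : Fin n) (w : Fin n → F) (c : F) (ha : a ≠ Fin.rev a) (hwa' : w (Fin.rev a) = 0)
    (x : Fin n) :
    eM σ a w c x a = (if x = a then 1 else 0) + w x + (if x = Fin.rev a then c else 0) := by
  rw [eM_apply]
  by_cases h : x = Fin.rev a
  · simp [h, hwa']
  · simp [h]

/-- the other columns of the Eichler matrix -/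
theorem eM_col' (a : Fin n) (w : Fin n → F) (c : F) (x y : Fin n) (hy : y ≠ a) :
    eM σ a w c x y = (if x = y then 1 else 0) - (if x = Fin.rev a then σ (w (Fin.rev y)) else 0) := by
  rw [eM_apply]
  simp [hy]

/-- column `a`, rows reversed -/
theorem eM_rcol (a : Fin n) (w : Fin n → F) (c : F) (ha : a ≠ Fin.rev a) (hwa' : w (Fin.rev a) = 0)
    (x : Fin n) :
    eM σ a w c (Fin.rev x) a = (if x = Fin.rev a then 1 else 0) + w (Fin.rev x) + (if x = a then c else 0) := by
  rw [eM_col σ a w c ha hwa']
  have e1 : (Fin.rev x = a) ↔ (x = Fin.rev a) := Fin.rev_eq_iff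
  have e2 : (Fin.rev x = Fin.rev a) ↔ (x = a) := Fin.rev_inj
  simp only [e1, e2]

/-- the other columns, rows reversed -/
theorem eM_rcol' (a : Fin n) (w : Fin n → F) (c : F) (x y : Fin n) (hy : y ≠ a) :
    eM σ a w c (Fin.rev x) y =
      (if x = Fin.rev y then 1 else 0) - (if x = a then σ (w (Fin.rev y)) else 0) := by
  rw [eM_col' σ a w c _ y hy]
  have e1 : (Fin.rev x = y) ↔ (x = Fin.rev y) := Fin.rev_eq_iff
  have e2 : (Fin.rev x = Fin.rev a) ↔ (x = a) := Fin.rev_inj
  simp only [e1, e2]

theorem split_left (x p z : Fin n) (t y : F) :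
    ((if x = p then 1 else 0) - (if x = z then t else 0)) * y =
      (if x = p then y else 0) - (if x = z then t * y else 0) := by
  split_ifs <;> ring

theorem split_right (x p z : Fin n) (t y : F) :
    y * ((if x = p then 1 else 0) - (if x = z then t else 0)) =
      (if x = p then y else 0) - (if x = z then y * t else 0) := by
  split_ifs <;> ring

/-- the Eichler matrix is unitary -/
theorem eM_unitary (hσ : ∀ x, σ (σ x) = x) (a : Fin n) (w : Fin n → F) (c : F) (ha : a ≠ Fin.rev a)
    (hwa : w a = 0) (hwa' : w (Fin.rev a) = 0)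
    (hc : c + σ c + ∑ x, w x * σ (w (Fin.rev x)) = 0) :
    (eM σ a w c)ᵀ * Jm n F * (eM σ a w c).map σ = Jm n F := by
  apply unitary_of_apply
  intro p q
  have ha' : Fin.rev a ≠ a := fun h => ha h.symm
  by_cases hp : p = a <;> by_cases hq : q = a
  · -- p = q = a
    rw [hp, hq, if_neg ha]
    have hterm : ∀ x, eM σ a w c x a * σ (eM σ a w c (Fin.rev x) a) =
        w x * σ (w (Fin.rev x)) + (if x = a then σ c else 0) + (if x = Fin.rev a then c else 0) := by
      intro x
      rw [eM_col σ a w c ha hwa', eM_rcol σ a w c ha hwa']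
      by_cases h1 : x = a
      · have h2 : ¬ x = Fin.rev a := fun h => ha (h1 ▸ h)
        simp [h1, ha, hwa, hwa']
      · by_cases h2 : x = Fin.rev a
        · simp [h2, ha', hwa, hwa']
        · simp [h1, h2]
    rw [Finset.sum_congr rfl (fun x _ => hterm x), Finset.sum_add_distrib, Finset.sum_add_distrib,
      Finset.sum_ite_eq', Finset.sum_ite_eq', if_pos (Finset.mem_univ _), if_pos (Finset.mem_univ _)]
    rw [← hc]; ring
  · -- p = a, q ≠ a
    rw [hp]
    have hterm : ∀ x, eM σ a w c x a * σ (eM σ a w c (Fin.rev x) q) =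
        (if x = Fin.rev q then eM σ a w c x a else 0)
          - (if x = a then eM σ a w c x a * w (Fin.rev q) else 0) := by
      intro x
      rw [eM_rcol' σ a w c _ q hq, map_sub, apply_ite σ, apply_ite σ, map_one, map_zero, hσ]
      exact split_right x (Fin.rev q) a (w (Fin.rev q)) (eM σ a w c x a)
    rw [Finset.sum_congr rfl (fun x _ => hterm x), Finset.sum_sub_distrib,
      Finset.sum_ite_eq', Finset.sum_ite_eq', if_pos (Finset.mem_univ _), if_pos (Finset.mem_univ _),
      eM_col σ a w c ha hwa', eM_col σ a w c ha hwa']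
    have hq' : ¬ Fin.rev q = Fin.rev a := fun h => hq (Fin.rev_injective h)
    have e : (Fin.rev q = a) ↔ (a = Fin.rev q) := ⟨fun h => h.symm, fun h => h.symm⟩
    simp [hq', ha, hwa, e]
  · -- p ≠ a, q = a
    rw [hq]
    have hterm : ∀ x, eM σ a w c x p * σ (eM σ a w c (Fin.rev x) a) =
        (if x = p then σ (eM σ a w c (Fin.rev x) a) else 0)
          - (if x = Fin.rev a then σ (w (Fin.rev p)) * σ (eM σ a w c (Fin.rev x) a) else 0) := by
      intro x
      rw [eM_col' σ a w c _ p hp]
      exact split_left x p (Fin.rev a) (σ (w (Fin.rev p))) _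
    rw [Finset.sum_congr rfl (fun x _ => hterm x), Finset.sum_sub_distrib,
      Finset.sum_ite_eq', Finset.sum_ite_eq', if_pos (Finset.mem_univ _), if_pos (Finset.mem_univ _),
      eM_rcol σ a w c ha hwa', eM_rcol σ a w c ha hwa']
    simp [hp, ha', hwa, Fin.rev_rev]
  · -- p ≠ a, q ≠ a
    have hterm : ∀ x, eM σ a w c x p * σ (eM σ a w c (Fin.rev x) q) =
        (if x = p then σ (eM σ a w c (Fin.rev x) q) else 0)
          - (if x = Fin.rev a then σ (w (Fin.rev p)) * σ (eM σ a w c (Fin.rev x) q) else 0) := by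
      intro x
      rw [eM_col' σ a w c _ p hp]
      exact split_left x p (Fin.rev a) (σ (w (Fin.rev p))) _
    rw [Finset.sum_congr rfl (fun x _ => hterm x), Finset.sum_sub_distrib,
      Finset.sum_ite_eq', Finset.sum_ite_eq', if_pos (Finset.mem_univ _), if_pos (Finset.mem_univ _),
      eM_rcol' σ a w c _ q hq, eM_rcol' σ a w c _ q hq]
    have hq' : ¬ Fin.rev a = Fin.rev q := fun h => hq (Fin.rev_injective h).symm
    simp [hp, ha', hq']

/-- the Eichler matrix is upper triangular -/
theorem eM_upper (a : Fin n) (w : Fin n → F) (c : F) (hw : ∀ x, a < x → w x = 0)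
    (hc : a < Fin.rev a → c = 0) (x y : Fin n) (hyx : y < x) : eM σ a w c x y = 0 := by
  rw [eM_apply]
  have h1 : ¬ x = y := fun h => absurd hyx (by rw [h]; exact lt_irrefl _)
  have h2 : (if y = a then w x else 0) = 0 := by
    split_ifs with h
    · exact hw x (h ▸ hyx)
    · rfl
  have h3 : (if x = Fin.rev a then σ (w (Fin.rev y)) else 0) = 0 := by
    split_ifs with h
    · have : a < Fin.rev y := by
        have h' : Fin.rev x < Fin.rev y := Fin.rev_lt_rev.mpr hyx
        rwa [h, Fin.rev_rev] at h'
      rw [hw _ this, map_zero]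
    · rfl
  have h4 : (if y = a ∧ x = Fin.rev a then c else 0) = 0 := by
    split_ifs with h
    · apply hc
      have h' := hyx
      rw [h.1, h.2] at h'
      exact h'
    · rfl
  rw [if_neg h1, h2, h3, h4]; ring

/-- the diagonal of the Eichler matrix -/
theorem eM_diag (a : Fin n) (w : Fin n → F) (c : F) (ha : a ≠ Fin.rev a) (hwa : w a = 0) (x : Fin n) :
    eM σ a w c x x = 1 := by
  rw [eM_apply, if_pos rfl]
  have h2 : (if x = a then w x else 0) = 0 := by
    split_ifs with h
    · rw [h, hwa]
    · rfl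
  have h3 : (if x = Fin.rev a then σ (w (Fin.rev x)) else 0) = 0 := by
    split_ifs with h
    · rw [h, Fin.rev_rev, hwa, map_zero]
    · rfl
  have h4 : (if x = a ∧ x = Fin.rev a then c else 0) = 0 := by
    split_ifs with h
    · exact absurd (h.1.symm.trans h.2) ha
    · rfl
  rw [h2, h3, h4]; ring

theorem eM_det (a : Fin n) (w : Fin n → F) (c : F) (ha : a ≠ Fin.rev a) (hwa : w a = 0)
    (hw : ∀ x, a < x → w x = 0) (hc : a < Fin.rev a → c = 0) : (eM σ a w c).det = 1 := by
  rw [Matrix.det_of_isUpperTriangular]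
  · rw [Finset.prod_eq_one]
    intro x _
    exact eM_diag σ a w c ha hwa x
  · intro x y hyx
    exact eM_upper σ a w c hw hc x y hyx

/-- GENB -/
theorem genB (hσ : ∀ x, σ (σ x) = x) (v : Fin n → F) (a : Fin n) (hva : v a ≠ 0)
    (htop : ∀ c, a < c → v c = 0) (hiso : ∑ x, v x * σ (v (Fin.rev x)) = 0) :
    ∃ b ∈ Bsu n σ, b.1.1 *ᵥ Pi.single a (v a) = v := by
  have ha : a ≠ Fin.rev a := top_ne_rev σ v a hva htop hiso
  have ha' : Fin.rev a ≠ a := fun h => ha h.symm
  -- normalise
  set u : Fin n → F := fun x => v x / v a with hu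
  have hua : u a = 1 := div_self hva
  have hutop : ∀ x, a < x → u x = 0 := by
    intro x hx
    show v x / v a = 0
    rw [htop x hx, zero_div]
  have huiso : ∑ x, u x * σ (u (Fin.rev x)) = 0 := by
    have : ∀ x, u x * σ (u (Fin.rev x)) = (v x * σ (v (Fin.rev x))) / (v a * σ (v a)) := by
      intro x
      show v x / v a * σ (v (Fin.rev x) / v a) = _
      rw [map_div₀]
      field_simp
    rw [Finset.sum_congr rfl (fun x _ => this x), ← Finset.sum_div, hiso, zero_div]
  set c : F := u (Fin.rev a) with hcdef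
  set w : Fin n → F := fun x => if x = a ∨ x = Fin.rev a then 0 else u x with hw
  have hwa : w a = 0 := by
    show (if a = a ∨ a = Fin.rev a then 0 else u a) = 0
    rw [if_pos (Or.inl rfl)]
  have hwa' : w (Fin.rev a) = 0 := by
    show (if Fin.rev a = a ∨ Fin.rev a = Fin.rev a then 0 else u (Fin.rev a)) = 0
    rw [if_pos (Or.inr rfl)]
  have hwtop : ∀ x, a < x → w x = 0 := by
    intro x hx
    show (if x = a ∨ x = Fin.rev a then 0 else u x) = 0
    split_ifs
    · rfl
    · exact hutop x hx
  have hctop : a < Fin.rev a → c = 0 := fun h => hutop _ h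
  have hwne : ∀ x, x ≠ a → x ≠ Fin.rev a → w x = u x := by
    intro x h1 h2
    show (if x = a ∨ x = Fin.rev a then 0 else u x) = u x
    rw [if_neg (by rintro (h | h); exact h1 h; exact h2 h)]
  have hc : c + σ c + ∑ x, w x * σ (w (Fin.rev x)) = 0 := by
    have hterm : ∀ x, u x * σ (u (Fin.rev x)) =
        w x * σ (w (Fin.rev x)) + (if x = a then σ c else 0) + (if x = Fin.rev a then c else 0) := by
      intro x
      by_cases h1 : x = a
      · rw [h1, hwa, hua, if_pos rfl, if_neg ha]
        simp [hcdef]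
      · by_cases h2 : x = Fin.rev a
        · rw [h2, hwa', Fin.rev_rev, hua, if_neg ha', if_pos rfl]
          simp [hcdef]
        · have h3 : Fin.rev x ≠ a := fun h => h2 (by rw [← h, Fin.rev_rev])
          have h4 : Fin.rev x ≠ Fin.rev a := fun h => h1 (Fin.rev_injective h)
          rw [hwne x h1 h2, hwne _ h3 h4, if_neg h1, if_neg h2]
          ring
    rw [Finset.sum_congr rfl (fun x _ => hterm x), Finset.sum_add_distrib, Finset.sum_add_distrib,
      Finset.sum_ite_eq', Finset.sum_ite_eq', if_pos (Finset.mem_univ _), if_pos (Finset.mem_univ _)]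
      at huiso
    rw [← huiso]; ring
  have hdet := eM_det σ a w c ha hwa hwtop hctop
  have hunit := eM_unitary σ hσ a w c ha hwa hwa' hc
  refine ⟨⟨⟨eM σ a w c, hdet⟩, hunit⟩, ?_, ?_⟩
  · rw [mem_Bsu]
    intro x y hyx
    exact eM_upper σ a w c hwtop hctop x y hyx
  · show eM σ a w c *ᵥ Pi.single a (v a) = v
    ext x
    rw [Matrix.mulVec_single]
    show (MulOpposite.op (v a) • (eM σ a w c).col a) x = v x
    rw [Pi.smul_apply, Matrix.col_apply, MulOpposite.smul_eq_mul_unop, MulOpposite.unop_op,
      eM_col σ a w c ha hwa']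
    by_cases h1 : x = a
    · rw [h1, if_pos rfl, if_neg ha, hwa]
      ring
    · by_cases h2 : x = Fin.rev a
      · rw [h2, if_neg ha', if_pos rfl, hwa']
        show (0 + 0 + v (Fin.rev a) / v a) * v a = v (Fin.rev a)
        rw [zero_add, zero_add, div_mul_cancel₀ _ hva]
      · rw [if_neg h1, if_neg h2, hwne x h1 h2]
        show (0 + v x / v a + 0) * v a = v x
        rw [zero_add, add_zero, div_mul_cancel₀ _ hva]

end Cfsg.Agent.Lib.Helper88_StSU_GENB
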