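import Mathlib
import Cfsg.Agent.Lib.Helper27_StSUDefs
import Cfsg.Agent.Lib.Helper27_StSUBasic
import Cfsg.Agent.Lib.Helper55_StSU_MEMX

set_option autoImplicit false
set_option linter.unusedSectionVars false
set_option linter.unusedVariables false
set_option linter.unusedSimpArgs false

/-!
Parallel attempt at package MEMQ of helper27's `stsu_packages` market (S2546), needed by my OPPQ:
the type `Q` root matrix `xQm σ i c a b` and the Weyl representative `wQm i c` have determinant one
and are unitary for the antidiagonal form.  Statements verbatim from the stubs.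
-/

namespace Cfsg.Agent.Lib.Helper89_StSU_MEMQ

open Matrix Cfsg.Agent.Lib.Helper68_MatGrp Cfsg.Agent.Lib.Helper27_StSUDefs
  Cfsg.Agent.Lib.Helper27_StSUBasic Cfsg.Agent.Lib.Helper55_StSU_MEMX

variable {n : ℕ} {F : Type*} [Field F] (σ : F →+* F)

theorem rev_ne_mid {i c : Fin n} (hc : c = Fin.rev c) (hic : i ≠ c) : Fin.rev i ≠ c := fun h =>
  hic (by
    have := congrArg Fin.rev h
    rw [Fin.rev_rev, ← hc] at this
    exact this)

theorem ne_rev_self {i c : Fin n} (hc : c = Fin.rev c) (hic : i ≠ c) : i ≠ Fin.rev i := fun h =>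
  hic (by
    have e1 : (Fin.rev i).val = n - (i.val + 1) := Fin.val_rev i
    have e2 : (Fin.rev c).val = n - (c.val + 1) := Fin.val_rev c
    have e3 : i.val = n - (i.val + 1) := by rw [← e1, ← h]
    have e4 : c.val = n - (c.val + 1) := by rw [← e2, ← hc]
    apply Fin.ext
    have := i.2
    have := c.2
    omega)

theorem xQm_fact (i c : Fin n) (hc : c = Fin.rev c) (hic : i ≠ c) (a b : F) :
    xQm σ i c a b = Matrix.transvection i c a * Matrix.transvection c (Fin.rev i) (-σ a) *
      Matrix.transvection i (Fin.rev i) (b + a * σ a) := by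
  have h1 : c ≠ i := fun h => hic h.symm
  have h2 : Fin.rev i ≠ c := rev_ne_mid hc hic
  have h4 : i ≠ Fin.rev i := ne_rev_self hc hic
  have h5 : Fin.rev i ≠ i := fun h => h4 h.symm
  unfold xQm Matrix.transvection
  simp only [Matrix.add_mul, Matrix.mul_add, Matrix.one_mul, Matrix.mul_one,
    single_mul_single_same, single_mul_single_of_ne _ _ _ _ h1,
    single_mul_single_of_ne _ _ _ _ h5]
  obtain ⟨E, hE⟩ : ∃ E : Fin n → Fin n → Matrix (Fin n) (Fin n) F,
      ∀ x y t, single x y t = t • E x y :=
    ⟨fun x y => single x y 1, fun x y t => by rw [Matrix.smul_single, smul_eq_mul, mul_one]⟩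
  simp only [hE]
  module

theorem xQm_mem (hσ : ∀ x, σ (σ x) = x) (i c : Fin n) (hc : c = Fin.rev c) (hic : i ≠ c) (a b : F)
    (hab : b + σ b + a * σ a = 0) :
    (xQm σ i c a b).det = 1 ∧ (xQm σ i c a b)ᵀ * Jm n F * (xQm σ i c a b).map σ = Jm n F := by
  have h1 : c ≠ i := fun h => hic h.symm
  have h2 : Fin.rev i ≠ c := rev_ne_mid hc hic
  have h3 : c ≠ Fin.rev i := fun h => h2 h.symm
  have h4 : i ≠ Fin.rev i := ne_rev_self hc hic
  have h5 : Fin.rev i ≠ i := fun h => h4 h.symm
  constructor
  · rw [xQm_fact σ i c hc hic, Matrix.det_mul, Matrix.det_mul,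
      Matrix.det_transvection_of_ne i c hic, Matrix.det_transvection_of_ne c (Fin.rev i) h3,
      Matrix.det_transvection_of_ne i (Fin.rev i) h4, one_mul, one_mul]
  · have hσb : σ b = -b - a * σ a := by linear_combination hab
    unfold xQm
    simp only [Matrix.transpose_add, Matrix.transpose_sub, Matrix.transpose_one, transpose_single,
      Matrix.map_add σ (map_add σ), Matrix.map_sub σ (map_sub σ),
      Matrix.map_one σ (map_zero σ) (map_one σ), map_single, hσ]
    simp only [Matrix.add_mul, Matrix.sub_mul, Matrix.mul_add, Matrix.mul_sub, Matrix.one_mul,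
      Matrix.mul_one, single_mul_Jm, Jm_mul_single, single_mul_single_same,
      single_mul_single_of_ne _ _ _ _ hic, single_mul_single_of_ne _ _ _ _ h1,
      single_mul_single_of_ne _ _ _ _ h2, single_mul_single_of_ne _ _ _ _ h3,
      single_mul_single_of_ne _ _ _ _ h4, single_mul_single_of_ne _ _ _ _ h5, ← hc, Fin.rev_rev]
    obtain ⟨E, hE⟩ : ∃ E : Fin n → Fin n → Matrix (Fin n) (Fin n) F,
        ∀ x y t, single x y t = t • E x y :=
      ⟨fun x y => single x y 1, fun x y t => by rw [Matrix.smul_single, smul_eq_mul, mul_one]⟩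
    rw [hσb]
    simp only [hE]
    module

/-- the diagonal matrix with `-1` at `i` and `c` -/
theorem diag_eq (i c : Fin n) (hic : i ≠ c) :
    Matrix.diagonal (fun x : Fin n => if x = i ∨ x = c then (-1 : F) else 1) =
      1 - single i i 2 - single c c 2 := by
  ext x y
  rw [Matrix.sub_apply, Matrix.sub_apply, Matrix.diagonal_apply, Matrix.one_apply, single_apply,
    single_apply]
  by_cases hxy : x = y
  · subst hxy
    by_cases hxi : x = i
    · subst hxi
      simp [hic, hic.symm]
      norm_num
    · by_cases hxc : x = c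
      · subst hxc
        simp [hic, hic.symm]
        norm_num
      · have h1 : ¬ i = x := fun h => hxi h.symm
        have h2 : ¬ c = x := fun h => hxc h.symm
        simp [hxi, hxc, h1, h2]
  · have h1 : ¬ (i = x ∧ i = y) := fun h => hxy (h.1.symm.trans h.2)
    have h2 : ¬ (c = x ∧ c = y) := fun h => hxy (h.1.symm.trans h.2)
    simp [hxy, h1, h2]

theorem det_diag (i c : Fin n) (hic : i ≠ c) :
    (Matrix.diagonal (fun x : Fin n => if x = i ∨ x = c then (-1 : F) else 1)).det = 1 := by
  classical
  rw [Matrix.det_diagonal, Finset.prod_ite, Finset.prod_const_one, mul_one, Finset.prod_const]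
  have : (Finset.univ.filter fun x : Fin n => x = i ∨ x = c) = {i, c} := by
    ext x
    simp
  rw [this, Finset.card_pair hic]
  norm_num

theorem wQm_fact (i c : Fin n) (hc : c = Fin.rev c) (hic : i ≠ c) :
    (wQm i c : Matrix (Fin n) (Fin n) F) =
      wXm 1 i * Matrix.diagonal (fun x : Fin n => if x = i ∨ x = c then (-1 : F) else 1) := by
  have h1 : c ≠ i := fun h => hic h.symm
  have h2 : Fin.rev i ≠ c := rev_ne_mid hc hic
  have h3 : c ≠ Fin.rev i := fun h => h2 h.symm
  have h4 : i ≠ Fin.rev i := ne_rev_self hc hic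
  have h5 : Fin.rev i ≠ i := fun h => h4 h.symm
  rw [diag_eq i c hic]
  unfold wQm wXm
  simp only [Matrix.add_mul, Matrix.sub_mul, Matrix.mul_add, Matrix.mul_sub, Matrix.one_mul,
    Matrix.mul_one, single_mul_single_same,
    single_mul_single_of_ne _ _ _ _ hic, single_mul_single_of_ne _ _ _ _ h1,
    single_mul_single_of_ne _ _ _ _ h2, single_mul_single_of_ne _ _ _ _ h3,
    single_mul_single_of_ne _ _ _ _ h4, single_mul_single_of_ne _ _ _ _ h5]
  obtain ⟨E, hE⟩ : ∃ E : Fin n → Fin n → Matrix (Fin n) (Fin n) F,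
      ∀ x y t, single x y t = t • E x y :=
    ⟨fun x y => single x y 1, fun x y t => by rw [Matrix.smul_single, smul_eq_mul, mul_one]⟩
  simp only [hE, inv_one]
  module

theorem wQm_mem (i c : Fin n) (hc : c = Fin.rev c) (hic : i ≠ c) :
    (wQm i c : Matrix (Fin n) (Fin n) F).det = 1 ∧
      (wQm i c : Matrix (Fin n) (Fin n) F)ᵀ * Jm n F * (wQm i c : Matrix (Fin n) (Fin n) F).map σ
        = Jm n F := by
  have h1 : c ≠ i := fun h => hic h.symm
  have h2 : Fin.rev i ≠ c := rev_ne_mid hc hic
  have h3 : c ≠ Fin.rev i := fun h => h2 h.symm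
  have h4 : i ≠ Fin.rev i := ne_rev_self hc hic
  have h5 : Fin.rev i ≠ i := fun h => h4 h.symm
  constructor
  · rw [wQm_fact i c hc hic, Matrix.det_mul, det_diag i c hic, mul_one,
      wXm_fact 1 one_ne_zero i h4, Matrix.det_mul, Matrix.det_mul]
    unfold xXm
    rw [Fin.rev_rev]
    have e1 := Matrix.det_transvection_of_ne i (Fin.rev i) h4 (1 : F)
    have e2 := Matrix.det_transvection_of_ne (Fin.rev i) i h5 (-(1 : F)⁻¹)
    unfold Matrix.transvection at e1 e2
    rw [e1, e2, one_mul, one_mul]
  · unfold wQm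
    simp only [Matrix.transpose_add, Matrix.transpose_sub, Matrix.transpose_one, transpose_single,
      Matrix.map_add σ (map_add σ), Matrix.map_sub σ (map_sub σ),
      Matrix.map_one σ (map_zero σ) (map_one σ), map_single, map_one, map_ofNat]
    simp only [Matrix.add_mul, Matrix.sub_mul, Matrix.mul_add, Matrix.mul_sub, Matrix.one_mul,
      Matrix.mul_one, single_mul_Jm, Jm_mul_single, single_mul_single_same,
      single_mul_single_of_ne _ _ _ _ hic, single_mul_single_of_ne _ _ _ _ h1,
      single_mul_single_of_ne _ _ _ _ h2, single_mul_single_of_ne _ _ _ _ h3,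
      single_mul_single_of_ne _ _ _ _ h4, single_mul_single_of_ne _ _ _ _ h5, ← hc, Fin.rev_rev]
    obtain ⟨E, hE⟩ : ∃ E : Fin n → Fin n → Matrix (Fin n) (Fin n) F,
        ∀ x y t, single x y t = t • E x y :=
      ⟨fun x y => single x y 1, fun x y t => by rw [Matrix.smul_single, smul_eq_mul, mul_one]⟩
    simp only [hE]
    module

end Cfsg.Agent.Lib.Helper89_StSU_MEMQ
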