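import Mathlib
import Cfsg.Agent.Lib.Helper27_StSUDefs
import Cfsg.Agent.Lib.Helper27_StSUBasic

set_option autoImplicit false
set_option linter.unusedSectionVars false
set_option linter.unusedVariables false
set_option linter.unusedSimpArgs false

/-!
Package OPPQ of helper27's `stsu_packages` market (S2546): conjugation of the type `Q` root elements
by the Weyl representative `wQ`.  This file has the matrix identities `xQm * wQm = wQm * xQm'`,
`wQm * xQm = xQm' * wQm` and `oppQ_core` (both statements of the package from the matrices of the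
three elements); the statements with the signature of the stubs are in `Helper89_StSU_OPPQfin`.
-/

namespace Cfsg.Agent.Lib.Helper89_StSU_OPPQ

open Matrix Cfsg.Agent.Lib.Helper68_MatGrp Cfsg.Agent.Lib.Helper27_StSUDefs
  Cfsg.Agent.Lib.Helper27_StSUBasic

variable {n : ℕ} {F : Type*} [Field F] (σ : F →+* F)

/-- the matrix identity `x * w = w * x'` -/
theorem xQm_mul_wQm (i c : Fin n) (hc : c = Fin.rev c) (hic : i ≠ c) (a b : F) :
    xQm σ i c a b * wQm i c = wQm i c * xQm σ (Fin.rev i) c (-a) b := by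
  have h1 : c ≠ i := fun h => hic h.symm
  have h2 : Fin.rev i ≠ c := fun h => hic (by
    have := congrArg Fin.rev h
    rw [Fin.rev_rev, ← hc] at this
    exact this)
  have h3 : c ≠ Fin.rev i := fun h => h2 h.symm
  have h4 : i ≠ Fin.rev i := fun h => hic (by
    have e1 : (Fin.rev i).val = n - (i.val + 1) := Fin.val_rev i
    have e2 : (Fin.rev c).val = n - (c.val + 1) := Fin.val_rev c
    have e3 : i.val = n - (i.val + 1) := by rw [← e1, ← h]
    have e4 : c.val = n - (c.val + 1) := by rw [← e2, ← hc]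
    apply Fin.ext
    have := i.2
    have := c.2
    omega)
  have h5 : Fin.rev i ≠ i := fun h => h4 h.symm
  unfold xQm wQm
  rw [Fin.rev_rev]
  simp only [Matrix.add_mul, Matrix.sub_mul, Matrix.mul_add, Matrix.mul_sub, Matrix.one_mul,
    Matrix.mul_one, single_mul_single_same, single_mul_single_of_ne _ _ _ _ hic,
    single_mul_single_of_ne _ _ _ _ h1, single_mul_single_of_ne _ _ _ _ h2,
    single_mul_single_of_ne _ _ _ _ h3, single_mul_single_of_ne _ _ _ _ h4,
    single_mul_single_of_ne _ _ _ _ h5]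
  obtain ⟨E, hE⟩ : ∃ E : Fin n → Fin n → Matrix (Fin n) (Fin n) F,
      ∀ x y t, single x y t = t • E x y :=
    ⟨fun x y => single x y 1, fun x y t => by rw [Matrix.smul_single, smul_eq_mul, mul_one]⟩
  simp only [hE, map_neg]
  module

theorem wQm_rev (i c : Fin n) : (wQm (Fin.rev i) c : Matrix (Fin n) (Fin n) F) = wQm i c := by
  unfold wQm
  rw [Fin.rev_rev]
  abel

/-- the matrix identity `w * x = x' * w` -/
theorem wQm_mul_xQm (i c : Fin n) (hc : c = Fin.rev c) (hic : i ≠ c) (a b : F) :
    wQm i c * xQm σ i c a b = xQm σ (Fin.rev i) c (-a) b * wQm i c := by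
  have h2 : Fin.rev i ≠ c := fun h => hic (by
    have := congrArg Fin.rev h
    rw [Fin.rev_rev, ← hc] at this
    exact this)
  have := xQm_mul_wQm σ (Fin.rev i) c hc h2 (-a) b
  rw [Fin.rev_rev, neg_neg, wQm_rev] at this
  exact this.symm

/-- `oppQ` and `oppQ'` from the matrices of the three elements -/
theorem oppQ_core (i c : Fin n) (hc : c = Fin.rev c) (hic : i ≠ c) (a b : F)
    (hx : (xQ σ i c a b).1.1 = xQm σ i c a b)
    (hx' : (xQ σ (Fin.rev i) c (-a) b).1.1 = xQm σ (Fin.rev i) c (-a) b)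
    (hw : (wQ σ i c).1.1 = wQm i c) :
    (wQ σ i c)⁻¹ * xQ σ i c a b * wQ σ i c = xQ σ (Fin.rev i) c (-a) b ∧
      wQ σ i c * xQ σ i c a b * (wQ σ i c)⁻¹ = xQ σ (Fin.rev i) c (-a) b := by
  have e1 : xQ σ i c a b * wQ σ i c = wQ σ i c * xQ σ (Fin.rev i) c (-a) b := by
    apply ext_val σ
    rw [mul_val, mul_val, hx, hx', hw]
    exact xQm_mul_wQm σ i c hc hic a b
  have e2 : wQ σ i c * xQ σ i c a b = xQ σ (Fin.rev i) c (-a) b * wQ σ i c := by
    apply ext_val σ
    rw [mul_val, mul_val, hx, hx', hw]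
    exact wQm_mul_xQm σ i c hc hic a b
  constructor
  · rw [mul_assoc, e1, inv_mul_cancel_left]
  · rw [e2, mul_inv_cancel_right]

end Cfsg.Agent.Lib.Helper89_StSU_OPPQ
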