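import Mathlib
import Cfsg.Agent.Lib.Helper27_StSUDefs
import Cfsg.Agent.Lib.Helper27_StSUBasic
import Cfsg.Agent.Lib.Helper89_StSU_OPPQ
import Cfsg.Agent.Lib.Helper89_StSU_MEMQ

set_option autoImplicit false
set_option linter.unusedSectionVars false
set_option linter.unusedVariables false

/-!
Package OPPQ of helper27's `stsu_packages` market (S2546): `oppQ`, `oppQ'` with the signatures of
the stubs, from `Helper89_StSU_OPPQ.oppQ_core` and `Helper89_StSU_MEMQ` (`xQm_mem`, `wQm_mem`).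
-/

namespace Cfsg.Agent.Lib.Helper89_StSU_OPPQ

open Matrix Cfsg.Agent.Lib.Helper68_MatGrp Cfsg.Agent.Lib.Helper27_StSUDefs
  Cfsg.Agent.Lib.Helper27_StSUBasic Cfsg.Agent.Lib.Helper89_StSU_MEMQ

variable {n : ℕ} {F : Type*} [Field F] (σ : F →+* F)

theorem oppQ_both (hσ : ∀ x, σ (σ x) = x) (i c : Fin n) (hc : c = Fin.rev c) (hic : i ≠ c) (a b : F)
    (hab : b + σ b + a * σ a = 0) :
    (wQ σ i c)⁻¹ * xQ σ i c a b * wQ σ i c = xQ σ (Fin.rev i) c (-a) b ∧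
      wQ σ i c * xQ σ i c a b * (wQ σ i c)⁻¹ = xQ σ (Fin.rev i) c (-a) b := by
  have h2 : Fin.rev i ≠ c := fun h => hic (by
    have := congrArg Fin.rev h
    rw [Fin.rev_rev, ← hc] at this
    exact this)
  have hab' : b + σ b + -a * σ (-a) = 0 := by
    rw [map_neg, neg_mul_neg]
    exact hab
  have m1 := xQm_mem σ hσ i c hc hic a b hab
  have m2 := xQm_mem σ hσ (Fin.rev i) c hc h2 (-a) b hab'
  have m3 := wQm_mem (F := F) σ i c hc hic
  exact oppQ_core σ i c hc hic a b (mkE_val σ m1.1 m1.2) (mkE_val σ m2.1 m2.2)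
    (mkE_val σ m3.1 m3.2)

theorem oppQ (hσ : ∀ x, σ (σ x) = x) (i c : Fin n) (hc : c = Fin.rev c) (hic : i ≠ c) (a b : F)
    (hab : b + σ b + a * σ a = 0) :
    (wQ σ i c)⁻¹ * xQ σ i c a b * wQ σ i c = xQ σ (Fin.rev i) c (-a) b :=
  (oppQ_both σ hσ i c hc hic a b hab).1

theorem oppQ' (hσ : ∀ x, σ (σ x) = x) (i c : Fin n) (hc : c = Fin.rev c) (hic : i ≠ c) (a b : F)
    (hab : b + σ b + a * σ a = 0) :
    wQ σ i c * xQ σ i c a b * (wQ σ i c)⁻¹ = xQ σ (Fin.rev i) c (-a) b :=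
  (oppQ_both σ hσ i c hc hic a b hab).2

end Cfsg.Agent.Lib.Helper89_StSU_OPPQ
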