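import Mathlib
import Cfsg.Agent.Lib.Helper27_StSUDefs
import Cfsg.Agent.Lib.Helper27_StSUBasic
import Cfsg.Agent.Lib.Helper99_StSU_MEMQ

set_option autoImplicit false
set_option linter.unusedSectionVars false
set_option linter.unusedVariables false

/-!
# S2546 (Steinberg character of PSU_n(q)), package R1Q (architect helper27): (R1) for the type Q simple root.

`r1Q_core` takes the VAL statements `xQ_val`, `wQ_val` (consequences of the package MEMQ) as hypotheses;
`r1Q` is the verbatim package statement (MEMQ by helper99).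
-/

namespace Cfsg.Agent.Lib.Helper91_StSU_R1Q

open Matrix Cfsg.Agent.Lib.Helper68_MatGrp Cfsg.Agent.Lib.Helper27_StSUDefs
  Cfsg.Agent.Lib.Helper27_StSUBasic

variable {n : ℕ} {F : Type*} [Field F] (σ : F →+* F)

/-- right multiplication by the type Q root matrix -/
theorem mul_xQm_apply (M : Matrix (Fin n) (Fin n) F) (i c : Fin n) (a β : F) (x y : Fin n) :
    (M * xQm σ i c a β) x y =
      M x y + (if y = c then M x i * a else 0) - (if y = Fin.rev i then M x c * σ a else 0) +
        (if y = Fin.rev i then M x i * β else 0) := by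
  unfold xQm
  rw [Matrix.mul_add, Matrix.mul_sub, Matrix.mul_add, Matrix.mul_one, Matrix.add_apply,
    Matrix.sub_apply, Matrix.add_apply]
  have e1 : (M * single i c a) x y = if y = c then M x i * a else 0 := by
    by_cases h : y = c
    · rw [if_pos h, h, Matrix.mul_single_apply_same]
    · rw [if_neg h, Matrix.mul_single_apply_of_ne _ _ _ _ _ h]
  have e2 : (M * single c (Fin.rev i) (σ a)) x y = if y = Fin.rev i then M x c * σ a else 0 := by
    by_cases h : y = Fin.rev i
    · rw [if_pos h, h, Matrix.mul_single_apply_same]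
    · rw [if_neg h, Matrix.mul_single_apply_of_ne _ _ _ _ _ h]
  have e3 : (M * single i (Fin.rev i) β) x y = if y = Fin.rev i then M x i * β else 0 := by
    by_cases h : y = Fin.rev i
    · rw [if_pos h, h, Matrix.mul_single_apply_same]
    · rw [if_neg h, Matrix.mul_single_apply_of_ne _ _ _ _ _ h]
  rw [e1, e2, e3]

/-- the Weyl matrix of type Q is monomial for `swap i (rev i)` -/
theorem wQm_apply_of_ne (i c : Fin n) (hic : i ≠ c) (hci : c ≠ Fin.rev i) (hii : i ≠ Fin.rev i)
    (x y : Fin n) (h : x ≠ Equiv.swap i (Fin.rev i) y) :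
    (wQm i c : Matrix (Fin n) (Fin n) F) x y = 0 := by
  unfold wQm
  simp only [Matrix.add_apply, Matrix.sub_apply, Matrix.one_apply, Matrix.single_apply]
  by_cases hyi : y = i
  · rw [hyi, Equiv.swap_apply_left] at h
    rw [hyi]
    by_cases hxi : x = i
    · simp [hxi, hic.symm, hii.symm]
    · simp [hxi, hic.symm, hii.symm, Ne.symm hxi, Ne.symm h]
  · by_cases hyi' : y = Fin.rev i
    · rw [hyi', Equiv.swap_apply_right] at h
      rw [hyi']
      by_cases hxi' : x = Fin.rev i
      · simp [hxi', hci, hii]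
      · simp [hxi', hci, hii, Ne.symm hxi', Ne.symm h]
    · rw [Equiv.swap_apply_of_ne_of_ne hyi hyi'] at h
      have h1 : ¬ (i = x ∧ i = y) := fun hh => hyi hh.2.symm
      have h2 : ¬ (Fin.rev i = x ∧ Fin.rev i = y) := fun hh => hyi' hh.2.symm
      have h3 : ¬ (c = x ∧ c = y) := fun hh => h (hh.1.symm.trans hh.2)
      have h4 : ¬ (i = x ∧ Fin.rev i = y) := fun hh => hyi' hh.2.symm
      have h5 : ¬ (Fin.rev i = x ∧ i = y) := fun hh => hyi hh.2.symm
      rw [if_neg h, if_neg h1, if_neg h2, if_neg h3, if_neg h4, if_neg h5]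
      simp

/-- R1Q with the VAL statements as hypotheses -/
theorem r1Q_core (hσ : ∀ x, σ (σ x) = x) (i c : Fin n) (hc : c = Fin.rev c) (hic : i.val + 1 = c.val)
    (hxQ : ∀ a β : F, β + σ β + a * σ a = 0 → (xQ σ i c a β).1.1 = xQm σ i c a β)
    (hwQ : (wQ σ i c).1.1 = wQm i c)
    (b : ↥(SUJ n σ)) (hb : b ∈ Bsu n σ) :
    ∃ a β : F, β + σ β + a * σ a = 0 ∧
      wQ σ i c * (b * (xQ σ i c a β)⁻¹) * (wQ σ i c)⁻¹ ∈ Bsu n σ := by
  -- the indices `i < c < rev i` are consecutive
  have hcv : c.val = n - (c.val + 1) := by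
    have h1 := Fin.val_rev c
    rw [← hc] at h1
    exact h1
  have hi'v : (Fin.rev i).val = c.val + 1 := by
    have h2 := Fin.val_rev i
    have := c.isLt
    omega
  have hrevc : Fin.rev c = c := hc.symm
  have hrevi' : Fin.rev (Fin.rev i) = i := Fin.rev_rev i
  have hic' : i ≠ c := fun h => by rw [h] at hic; omega
  have hci : c ≠ Fin.rev i := fun h => by rw [← h] at hi'v; omega
  have hii : i ≠ Fin.rev i := fun h => by rw [← h] at hi'v; omega
  have hB : ∀ x y : Fin n, y < x → b.1.1 x y = 0 := (mem_Bsu σ).1 hb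
  have hrevlt : ∀ x y : Fin n, x.val < y.val → (Fin.rev y).val < (Fin.rev x).val := by
    intro x y hxy
    rw [Fin.val_rev, Fin.val_rev]
    have := y.isLt
    omega
  -- the unitarity relations of `b`
  have h3 : b.1.1 i i * σ (b.1.1 (Fin.rev i) (Fin.rev i)) = 1 := by
    have h := unitary_apply σ b i (Fin.rev i)
    rw [if_pos hrevi'.symm, Finset.sum_eq_single i] at h
    · exact h
    · intro x _ hx
      rcases lt_or_gt_of_ne (fun h' => hx (Fin.ext h') : x.val ≠ i.val) with hlt | hgt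
      · rw [hB (Fin.rev x) (Fin.rev i) (Fin.lt_def.2 (hrevlt x i hlt)), map_zero, mul_zero]
      · rw [hB x i (Fin.lt_def.2 hgt), zero_mul]
    · intro h'; exact absurd (Finset.mem_univ _) h'
  have h4 : b.1.1 c c * σ (b.1.1 c c) = 1 := by
    have h := unitary_apply σ b c c
    rw [if_pos hc, Finset.sum_eq_single c] at h
    · rw [hrevc] at h; exact h
    · intro x _ hx
      rcases lt_or_gt_of_ne (fun h' => hx (Fin.ext h') : x.val ≠ c.val) with hlt | hgt
      · have := hrevlt x c hlt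
        rw [hrevc] at this
        rw [hB (Fin.rev x) c (Fin.lt_def.2 this), map_zero, mul_zero]
      · rw [hB x c (Fin.lt_def.2 hgt), zero_mul]
    · intro h'; exact absurd (Finset.mem_univ _) h'
  have h2 : b.1.1 i c * σ (b.1.1 (Fin.rev i) (Fin.rev i)) + b.1.1 c c * σ (b.1.1 c (Fin.rev i)) = 0 := by
    have h := unitary_apply σ b c (Fin.rev i)
    rw [if_neg (by rw [hrevi']; exact hic'.symm), Finset.sum_eq_add i c hic'] at h
    · rw [hrevc] at h; exact h
    · intro x _ hx
      by_cases hlt : x.val < i.val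
      · rw [hB (Fin.rev x) (Fin.rev i) (Fin.lt_def.2 (hrevlt x i hlt)), map_zero, mul_zero]
      · have hgt : c.val < x.val := by
          have h1 : x.val ≠ i.val := fun h' => hx.1 (Fin.ext h')
          have h2 : x.val ≠ c.val := fun h' => hx.2 (Fin.ext h')
          omega
        rw [hB x c (Fin.lt_def.2 hgt), zero_mul]
    · intro h'; exact absurd (Finset.mem_univ _) h'
    · intro h'; exact absurd (Finset.mem_univ _) h'
  have h1 : b.1.1 i (Fin.rev i) * σ (b.1.1 (Fin.rev i) (Fin.rev i)) +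
      b.1.1 c (Fin.rev i) * σ (b.1.1 c (Fin.rev i)) +
      b.1.1 (Fin.rev i) (Fin.rev i) * σ (b.1.1 i (Fin.rev i)) = 0 := by
    have h := unitary_apply σ b (Fin.rev i) (Fin.rev i)
    rw [if_neg (by rw [hrevi']; exact hii.symm)] at h
    have hsub : ∑ x, b.1.1 x (Fin.rev i) * σ (b.1.1 (Fin.rev x) (Fin.rev i)) =
        ∑ x ∈ ({i, c, Fin.rev i} : Finset (Fin n)),
          b.1.1 x (Fin.rev i) * σ (b.1.1 (Fin.rev x) (Fin.rev i)) := by
      symm
      apply Finset.sum_subset (Finset.subset_univ _)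
      intro x _ hx
      simp only [Finset.mem_insert, Finset.mem_singleton, not_or] at hx
      by_cases hlt : x.val < i.val
      · rw [hB (Fin.rev x) (Fin.rev i) (Fin.lt_def.2 (hrevlt x i hlt)), map_zero, mul_zero]
      · have hgt : (Fin.rev i).val < x.val := by
          have e1 : x.val ≠ i.val := fun h' => hx.1 (Fin.ext h')
          have e2 : x.val ≠ c.val := fun h' => hx.2.1 (Fin.ext h')
          have e3 : x.val ≠ (Fin.rev i).val := fun h' => hx.2.2 (Fin.ext h')
          omega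
        rw [hB x (Fin.rev i) (Fin.lt_def.2 hgt), zero_mul]
    rw [hsub, Finset.sum_insert (by simp [hic', hii]), Finset.sum_insert (by simp [hci]),
      Finset.sum_singleton, hrevc, hrevi'] at h
    rw [← h]; ring
  -- names for the entries
  obtain ⟨p, hp⟩ : ∃ p, p = b.1.1 i i := ⟨_, rfl⟩
  obtain ⟨q, hq⟩ : ∃ q, q = b.1.1 c c := ⟨_, rfl⟩
  obtain ⟨r, hr⟩ : ∃ r, r = b.1.1 (Fin.rev i) (Fin.rev i) := ⟨_, rfl⟩
  obtain ⟨s, hs⟩ : ∃ s, s = b.1.1 i c := ⟨_, rfl⟩
  obtain ⟨v, hv⟩ : ∃ v, v = b.1.1 c (Fin.rev i) := ⟨_, rfl⟩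
  obtain ⟨z, hz⟩ : ∃ z, z = b.1.1 i (Fin.rev i) := ⟨_, rfl⟩
  rw [← hp, ← hr] at h3
  rw [← hq] at h4
  rw [← hs, ← hr, ← hq, ← hv] at h2
  rw [← hz, ← hr, ← hv] at h1
  have h3' : σ p * r = 1 := by
    have := congrArg σ h3
    rwa [map_mul, hσ, map_one] at this
  have h2' : σ s * r + σ q * v = 0 := by
    have := congrArg σ h2
    rwa [map_add, map_mul, map_mul, hσ, hσ, map_zero] at this
  -- the parameters
  obtain ⟨a, ha⟩ : ∃ a, a = s * σ r := ⟨_, rfl⟩
  have hσa : σ a = σ s * r := by rw [ha, map_mul, hσ]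
  obtain ⟨β, hβ⟩ : ∃ β, β = (z + σ a * s) * σ r - a * σ a := ⟨_, rfl⟩
  have hσβ : σ β = (σ z + a * σ s) * r - σ a * a := by
    rw [hβ, map_sub, map_mul, map_add, map_mul, map_mul, hσ, hσ]
  have hab : β + σ β + a * σ a = 0 := by
    rw [hσβ, hβ, hσa, ha]
    linear_combination h1 - (σ q * v) * h2 + (s * σ r) * h2' + (v * σ v) * h4
  refine ⟨a, β, hab, ?_⟩
  -- the element `d = b u⁻¹`
  have hU := hxQ a β hab
  obtain ⟨d, hd⟩ : ∃ d, d = b * (xQ σ i c a β)⁻¹ := ⟨_, rfl⟩
  rw [← hd]
  have hdu : d.1.1 * xQm σ i c a β = b.1.1 := by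
    rw [← hU, ← mul_val, hd, inv_mul_cancel_right]
  have hcol : ∀ x y : Fin n, b.1.1 x y =
      d.1.1 x y + (if y = c then d.1.1 x i * a else 0) -
        (if y = Fin.rev i then d.1.1 x c * σ a else 0) +
        (if y = Fin.rev i then d.1.1 x i * β else 0) := by
    intro x y
    rw [← hdu, mul_xQm_apply]
  have hD0 : ∀ x y : Fin n, y ≠ c → y ≠ Fin.rev i → d.1.1 x y = b.1.1 x y := by
    intro x y h1 h2
    have := hcol x y
    rw [if_neg h1, if_neg h2, if_neg h2] at this
    rw [this]; ring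
  have hDi : ∀ x : Fin n, d.1.1 x i = b.1.1 x i := fun x => hD0 x i hic' hii
  have hDc : ∀ x : Fin n, d.1.1 x c = b.1.1 x c - b.1.1 x i * a := by
    intro x
    have := hcol x c
    rw [if_pos rfl, if_neg hci, if_neg hci, hDi] at this
    rw [this]; ring
  have hDi' : ∀ x : Fin n, d.1.1 x (Fin.rev i) =
      b.1.1 x (Fin.rev i) + (b.1.1 x c - b.1.1 x i * a) * σ a - b.1.1 x i * β := by
    intro x
    have := hcol x (Fin.rev i)
    rw [if_neg hci.symm, if_pos rfl, if_pos rfl, hDi, hDc] at this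
    rw [this]; ring
  -- `d` is upper triangular
  have hDut : ∀ x y : Fin n, y < x → d.1.1 x y = 0 := by
    intro x y hyx
    have hyx' : y.val < x.val := Fin.lt_def.1 hyx
    by_cases hyc : y = c
    · rw [hyc, hDc, hB x c (hyc ▸ hyx), hB x i (Fin.lt_def.2 (by rw [hyc] at hyx'; omega))]
      ring
    · by_cases hyi' : y = Fin.rev i
      · rw [hyi', hDi', hB x (Fin.rev i) (hyi' ▸ hyx),
          hB x c (Fin.lt_def.2 (by rw [hyi'] at hyx'; omega)),
          hB x i (Fin.lt_def.2 (by rw [hyi'] at hyx'; omega))]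
        ring
      · rw [hD0 x y hyc hyi', hB x y hyx]
  -- the three special entries vanish
  have hBci : b.1.1 c i = 0 := hB c i (Fin.lt_def.2 (by omega))
  have hDic : d.1.1 i c = 0 := by
    rw [hDc, ← hs, ← hp, ha]
    linear_combination (-s) * h3
  have hDii' : d.1.1 i (Fin.rev i) = 0 := by
    rw [hDi', ← hz, ← hs, ← hp, hβ]
    linear_combination (-(z + s * σ a)) * h3 + (σ a * σ a * 0) * h3
  have hDci' : d.1.1 c (Fin.rev i) = 0 := by
    rw [hDi', ← hv, ← hq, hBci, hσa]
    linear_combination q * h2' - v * h4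
  -- conjugation by the monomial element `w`
  have hwm : IsMono (φ n σ) (wQ σ i c) (Equiv.swap i (Fin.rev i)) := by
    intro x y hxy
    rw [φ_apply, hwQ]
    exact wQm_apply_of_ne i c hic' hci hii x y hxy
  have hwinv := hwm.inv
  rw [Equiv.swap_inv] at hwinv
  have hgoal : wQ σ i c * d * (wQ σ i c)⁻¹ = ((wQ σ i c)⁻¹)⁻¹ * d * (wQ σ i c)⁻¹ := by
    rw [inv_inv]
  rw [hgoal, mem_Bsu]
  intro x y hyx
  have hyx' : y.val < x.val := Fin.lt_def.1 hyx
  have key := hwinv.conj_apply d x y
  simp only [φ_apply] at key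
  rw [key]
  suffices hz0 : d.1.1 (Equiv.swap i (Fin.rev i) x) (Equiv.swap i (Fin.rev i) y) = 0 by
    rw [hz0, mul_zero, zero_mul]
  by_cases hxi : x = i
  · -- `x = i`, `y < i`
    have hyi : y ≠ i := fun h => by rw [hxi, h] at hyx'; omega
    have hyi' : y ≠ Fin.rev i := fun h => by rw [hxi, h] at hyx'; omega
    rw [hxi, Equiv.swap_apply_left, Equiv.swap_apply_of_ne_of_ne hyi hyi']
    apply hDut
    apply Fin.lt_def.2
    rw [hxi] at hyx'
    omega
  · by_cases hxi' : x = Fin.rev i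
    · rw [hxi', Equiv.swap_apply_right]
      rw [hxi'] at hyx'
      by_cases hyi : y = i
      · rw [hyi, Equiv.swap_apply_left]; exact hDii'
      · have hyi' : y ≠ Fin.rev i := fun h => by rw [h] at hyx'; omega
        rw [Equiv.swap_apply_of_ne_of_ne hyi hyi']
        by_cases hyc : y = c
        · rw [hyc]; exact hDic
        · apply hDut
          apply Fin.lt_def.2
          have e1 : y.val ≠ i.val := fun h => hyi (Fin.ext h)
          have e2 : y.val ≠ c.val := fun h => hyc (Fin.ext h)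
          omega
    · rw [Equiv.swap_apply_of_ne_of_ne hxi hxi']
      by_cases hyi : y = i
      · rw [hyi, Equiv.swap_apply_left]
        rw [hyi] at hyx'
        by_cases hxc : x = c
        · rw [hxc]; exact hDci'
        · apply hDut
          apply Fin.lt_def.2
          have e1 : x.val ≠ c.val := fun h => hxc (Fin.ext h)
          have e2 : x.val ≠ (Fin.rev i).val := fun h => hxi' (Fin.ext h)
          omega
      · by_cases hyi' : y = Fin.rev i
        · rw [hyi', Equiv.swap_apply_right]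
          apply hDut
          apply Fin.lt_def.2
          rw [hyi'] at hyx'
          omega
        · rw [Equiv.swap_apply_of_ne_of_ne hyi hyi']
          exact hDut x y hyx

/-- R1Q, verbatim -/
theorem r1Q (hσ : ∀ x, σ (σ x) = x) (i c : Fin n) (hc : c = Fin.rev c) (hic : i.val + 1 = c.val)
    (b : ↥(SUJ n σ)) (hb : b ∈ Bsu n σ) :
    ∃ a β : F, β + σ β + a * σ a = 0 ∧
      wQ σ i c * (b * (xQ σ i c a β)⁻¹) * (wQ σ i c)⁻¹ ∈ Bsu n σ := by
  have hic' : i ≠ c := fun h => by rw [h] at hic; omega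
  apply r1Q_core σ hσ i c hc hic _ _ b hb
  · intro a β hab
    exact mkE_val σ (Cfsg.Agent.Lib.Helper99_StSU_MEMQ.xQm_mem σ hσ i c hc hic' a β hab).1
      (Cfsg.Agent.Lib.Helper99_StSU_MEMQ.xQm_mem σ hσ i c hc hic' a β hab).2
  · exact mkE_val σ (Cfsg.Agent.Lib.Helper99_StSU_MEMQ.wQm_mem σ i c hc hic').1
      (Cfsg.Agent.Lib.Helper99_StSU_MEMQ.wQm_mem σ i c hc hic').2

end Cfsg.Agent.Lib.Helper91_StSU_R1Q
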