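import Mathlib
import Cfsg.Agent.Lib.Helper27_StSUDefs
import Cfsg.Agent.Lib.Helper27_StSUBasic
import Cfsg.Agent.Lib.Helper68_StAbs
import Cfsg.Agent.Lib.Helper5_SUOrder
import Cfsg.Agent.Lib.Helper75_Clifford
import Cfsg.Agent.Lib.Helper81_SUSiegel

/-!
# S2546 STSU market (architect helper27), package SWAP: the permutation of a monomial unitary matrix
commutes with `Fin.rev`.
-/

set_option autoImplicit false
set_option linter.unusedSectionVars false
set_option linter.unusedVariables false

namespace Cfsg.Agent.Lib.Helper99_StSU_SWAP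

open Matrix Cfsg.Agent.Lib.Helper68_MatGrp Cfsg.Agent.Lib.Helper27_StSUDefs
  Cfsg.Agent.Lib.Helper27_StSUBasic

variable {n : ℕ} {F : Type*} [Field F] (σ : F →+* F)

theorem mono_rev {g : ↥(SUJ n σ)} {π : Equiv.Perm (Fin n)} (hg : IsMono (φ n σ) g π) (a : Fin n) :
    π (Fin.rev a) = Fin.rev (π a) := by
  have h := unitary_apply σ g a (Fin.rev a)
  rw [if_pos (Fin.rev_rev a).symm, Finset.sum_eq_single (π a)] at h
  · by_contra hne
    have h0 : g.1.1 (Fin.rev (π a)) (Fin.rev a) = 0 := hg _ _ (fun h' => hne h'.symm)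
    rw [h0, map_zero, mul_zero] at h
    exact zero_ne_one h
  · intro x _ hx
    have : g.1.1 x a = 0 := hg x a hx
    rw [this, zero_mul]
  · intro h'; exact absurd (Finset.mem_univ _) h'

end Cfsg.Agent.Lib.Helper99_StSU_SWAP
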