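import Mathlib
import Cfsg.Agent.Lib.Helper27_StSUDefs
import Cfsg.Agent.Lib.Helper27_StSUBasic
import Cfsg.Agent.Lib.Helper68_StAbs
import Cfsg.Agent.Lib.Helper5_SUOrder
import Cfsg.Agent.Lib.Helper75_Clifford
import Cfsg.Agent.Lib.Helper81_SUSiegel
import Cfsg.Agent.Lib.Helper10_StSU_R1X
import Cfsg.Agent.Lib.Helper10_StSU_R2Q
import Cfsg.Agent.Lib.Helper24_StSU_FIN
import Cfsg.Agent.Lib.Helper24_StSU_INJaux
import Cfsg.Agent.Lib.Helper27_StSU_GENERIC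
import Cfsg.Agent.Lib.Helper27_StSU_STEP
import Cfsg.Agent.Lib.Helper30_StSU_MEML
import Cfsg.Agent.Lib.Helper41_StSU_R2L
import Cfsg.Agent.Lib.Helper43_StSU_GRPL
import Cfsg.Agent.Lib.Helper44_StSU_ISO
import Cfsg.Agent.Lib.Helper52_StSU_R1L
import Cfsg.Agent.Lib.Helper53_StSU_XBX
import Cfsg.Agent.Lib.Helper54_StSU_GRPX
import Cfsg.Agent.Lib.Helper54_StSU_XBL
import Cfsg.Agent.Lib.Helper55_StSU_MEMX
import Cfsg.Agent.Lib.Helper55_StSU_OPPX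
import Cfsg.Agent.Lib.Helper5_StSU_TU
import Cfsg.Agent.Lib.Helper60_StSU_R2X
import Cfsg.Agent.Lib.Helper60_StSU_SQ
import Cfsg.Agent.Lib.Helper61_StSU_GRPQ
import Cfsg.Agent.Lib.Helper61_StSU_XBQ
import Cfsg.Agent.Lib.Helper63_StSU_TRANS
import Cfsg.Agent.Lib.Helper69_StSU_EPS
import Cfsg.Agent.Lib.Helper69_StSU_R3L
import Cfsg.Agent.Lib.Helper69_StSU_R3Q
import Cfsg.Agent.Lib.Helper69_StSU_TP
import Cfsg.Agent.Lib.Helper70_StSU_R3X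
import Cfsg.Agent.Lib.Helper70_StSU_REV
import Cfsg.Agent.Lib.Helper79_StSU_OPPL
import Cfsg.Agent.Lib.Helper86_StSU_MONOW
import Cfsg.Agent.Lib.Helper88_StSU_GENAaux
import Cfsg.Agent.Lib.Helper88_StSU_GENB
import Cfsg.Agent.Lib.Helper89_StSU_MEMQ
import Cfsg.Agent.Lib.Helper89_StSU_OPPQfin
import Cfsg.Agent.Lib.Helper91_StSU_R1Q
import Cfsg.Agent.Lib.Helper99_StSU_SWAP

set_option autoImplicit false
set_option linter.unusedSectionVars false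
set_option linter.unusedVariables false

namespace Cfsg.Agent.Lib.Helper27_StSU_Asm

open Matrix Cfsg.Agent.Lib.Helper68_MatGrp Cfsg.Agent.Lib.Helper27_StSUDefs
  Cfsg.Agent.Lib.Helper27_StSUBasic

variable {n : ℕ} {F : Type*} [Field F] (σ : F →+* F)

/-! ## MEML, MEMX, MEMQ (size M each): the explicit matrices lie in the group. -/

/-- MEML -/
theorem xLm_mem (hσ : ∀ x, σ (σ x) = x) (i k : Fin n) (h1 : i ≠ k) (h2 : i ≠ Fin.rev k) (h3 : i ≠ Fin.rev i)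
    (h4 : k ≠ Fin.rev k) (t : F) :
    (xLm σ i k t).det = 1 ∧ (xLm σ i k t)ᵀ * Jm n F * (xLm σ i k t).map σ = Jm n F := by
  apply Cfsg.Agent.Lib.Helper30_StSU_MEML.xLm_mem <;> assumption

theorem wLm_mem (i k : Fin n) (h1 : i ≠ k) (h2 : i ≠ Fin.rev k) (h3 : i ≠ Fin.rev i)
    (h4 : k ≠ Fin.rev k) :
    (wLm i k : Matrix (Fin n) (Fin n) F).det = 1 ∧
      (wLm i k : Matrix (Fin n) (Fin n) F)ᵀ * Jm n F * (wLm i k : Matrix (Fin n) (Fin n) F).map σ = Jm n F := by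
  apply Cfsg.Agent.Lib.Helper30_StSU_MEML.wLm_mem <;> assumption

/-- MEMX -/
theorem xXm_mem (i : Fin n) (h : i ≠ Fin.rev i) (t : F) (ht : σ t = -t) :
    (xXm i t).det = 1 ∧ (xXm i t)ᵀ * Jm n F * (xXm i t).map σ = Jm n F := by
  apply Cfsg.Agent.Lib.Helper54_StSU_GRPX.xXm_mem <;> assumption

theorem wXm_mem (ε : F) (hε0 : ε ≠ 0) (hε : σ ε = -ε) (i : Fin n) (h : i ≠ Fin.rev i) :
    (wXm ε i).det = 1 ∧ (wXm ε i)ᵀ * Jm n F * (wXm ε i).map σ = Jm n F := by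
  apply Cfsg.Agent.Lib.Helper55_StSU_MEMX.wXm_mem <;> assumption

/-- MEMQ -/
theorem xQm_mem (hσ : ∀ x, σ (σ x) = x) (i c : Fin n) (hc : c = Fin.rev c) (hic : i ≠ c) (a b : F)
    (hab : b + σ b + a * σ a = 0) :
    (xQm σ i c a b).det = 1 ∧ (xQm σ i c a b)ᵀ * Jm n F * (xQm σ i c a b).map σ = Jm n F := by
  apply Cfsg.Agent.Lib.Helper89_StSU_MEMQ.xQm_mem <;> assumption

theorem wQm_mem (i c : Fin n) (hc : c = Fin.rev c) (hic : i ≠ c) :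
    (wQm i c : Matrix (Fin n) (Fin n) F).det = 1 ∧
      (wQm i c : Matrix (Fin n) (Fin n) F)ᵀ * Jm n F * (wQm i c : Matrix (Fin n) (Fin n) F).map σ = Jm n F := by
  apply Cfsg.Agent.Lib.Helper89_StSU_MEMQ.wQm_mem <;> assumption

/-! ### VAL (derived from MEM; proofs given): the matrices of the elements -/

theorem xL_val (hσ : ∀ x, σ (σ x) = x) (i k : Fin n) (h1 : i ≠ k) (h2 : i ≠ Fin.rev k) (h3 : i ≠ Fin.rev i)
    (h4 : k ≠ Fin.rev k) (t : F) : (xL σ i k t).1.1 = xLm σ i k t :=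
  mkE_val σ (xLm_mem σ hσ i k h1 h2 h3 h4 t).1 (xLm_mem σ hσ i k h1 h2 h3 h4 t).2

theorem wL_val (i k : Fin n) (h1 : i ≠ k) (h2 : i ≠ Fin.rev k) (h3 : i ≠ Fin.rev i)
    (h4 : k ≠ Fin.rev k) : (wL σ i k).1.1 = wLm i k :=
  mkE_val σ (wLm_mem σ i k h1 h2 h3 h4).1 (wLm_mem σ i k h1 h2 h3 h4).2

theorem xX_val (i : Fin n) (h : i ≠ Fin.rev i) (t : F) (ht : σ t = -t) : (xX σ i t).1.1 = xXm i t :=
  mkE_val σ (xXm_mem σ i h t ht).1 (xXm_mem σ i h t ht).2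

theorem wX_val (ε : F) (hε0 : ε ≠ 0) (hε : σ ε = -ε) (i : Fin n) (h : i ≠ Fin.rev i) :
    (wX σ ε i).1.1 = wXm ε i :=
  mkE_val σ (wXm_mem σ ε hε0 hε i h).1 (wXm_mem σ ε hε0 hε i h).2

theorem xQ_val (hσ : ∀ x, σ (σ x) = x) (i c : Fin n) (hc : c = Fin.rev c) (hic : i ≠ c) (a b : F)
    (hab : b + σ b + a * σ a = 0) : (xQ σ i c a b).1.1 = xQm σ i c a b :=
  mkE_val σ (xQm_mem σ hσ i c hc hic a b hab).1 (xQm_mem σ hσ i c hc hic a b hab).2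

theorem wQ_val (i c : Fin n) (hc : c = Fin.rev c) (hic : i ≠ c) : (wQ σ i c).1.1 = wQm i c :=
  mkE_val σ (wQm_mem σ i c hc hic).1 (wQm_mem σ i c hc hic).2

/-! ## SWAP (size M) -/

theorem mono_rev {g : ↥(SUJ n σ)} {π : Equiv.Perm (Fin n)} (hg : IsMono (φ n σ) g π) (a : Fin n) :
    π (Fin.rev a) = Fin.rev (π a) :=
  Cfsg.Agent.Lib.Helper99_StSU_SWAP.mono_rev σ hg a

/-! ## MONOW (size M) -/

theorem wL_isMono (i k : Fin n) (h1 : i ≠ k) (h2 : i ≠ Fin.rev k) (h3 : i ≠ Fin.rev i)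
    (h4 : k ≠ Fin.rev k) : IsMono (φ n σ) (wL σ i k) (permL i k) := by
  apply Cfsg.Agent.Lib.Helper86_StSU_MONOW.wL_isMono <;> assumption

theorem wX_isMono (ε : F) (hε0 : ε ≠ 0) (hε : σ ε = -ε) (i : Fin n) (h : i ≠ Fin.rev i) :
    IsMono (φ n σ) (wX σ ε i) (Equiv.swap i (Fin.rev i)) := by
  apply Cfsg.Agent.Lib.Helper86_StSU_MONOW.wX_isMono <;> assumption

theorem wQ_isMono (i c : Fin n) (hc : c = Fin.rev c) (hic : i ≠ c) :
    IsMono (φ n σ) (wQ σ i c) (Equiv.swap i (Fin.rev i)) := by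
  apply Cfsg.Agent.Lib.Helper86_StSU_MONOW.wQ_isMono <;> assumption

/-! ## GRPL, GRPX, GRPQ (size M each): the group laws of the root elements -/

theorem xL_mul (hσ : ∀ x, σ (σ x) = x) (i k : Fin n) (h1 : i ≠ k) (h2 : i ≠ Fin.rev k) (h3 : i ≠ Fin.rev i)
    (h4 : k ≠ Fin.rev k) (s t : F) : xL σ i k s * xL σ i k t = xL σ i k (s + t) := by
  apply Cfsg.Agent.Lib.Helper43_StSU_GRPL.xL_mul <;> assumption

theorem xL_zero (i k : Fin n) : xL σ i k 0 = 1 := by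
  apply Cfsg.Agent.Lib.Helper43_StSU_GRPL.xL_zero <;> assumption

theorem xX_mul (i : Fin n) (h : i ≠ Fin.rev i) (s t : F) (hs : σ s = -s) (ht : σ t = -t) :
    xX σ i s * xX σ i t = xX σ i (s + t) := by
  apply Cfsg.Agent.Lib.Helper54_StSU_GRPX.xX_mul <;> assumption

theorem xX_zero (i : Fin n) : xX σ i 0 = 1 := by
  apply Cfsg.Agent.Lib.Helper54_StSU_GRPX.xX_zero <;> assumption

theorem xQ_mul (hσ : ∀ x, σ (σ x) = x) (i c : Fin n) (hc : c = Fin.rev c) (hic : i ≠ c) (a b a' b' : F)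
    (hab : b + σ b + a * σ a = 0) (hab' : b' + σ b' + a' * σ a' = 0) :
    xQ σ i c a b * xQ σ i c a' b' = xQ σ i c (a + a') (b + b' - a * σ a') := by
  apply Cfsg.Agent.Lib.Helper61_StSU_GRPQ.xQ_mul <;> assumption

theorem xQ_zero (i c : Fin n) : xQ σ i c 0 0 = 1 := by
  apply Cfsg.Agent.Lib.Helper61_StSU_GRPQ.xQ_zero <;> assumption

/-! ## OPPL, OPPX, OPPQ (size M each): conjugation by the Weyl representatives -/

theorem oppL (hσ : ∀ x, σ (σ x) = x) (i k : Fin n) (h1 : i ≠ k) (h2 : i ≠ Fin.rev k) (h3 : i ≠ Fin.rev i)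
    (h4 : k ≠ Fin.rev k) (t : F) : (wL σ i k)⁻¹ * xL σ i k t * wL σ i k = xL σ k i t := by
  apply Cfsg.Agent.Lib.Helper79_StSU_OPPL.oppL <;> assumption

theorem oppL' (hσ : ∀ x, σ (σ x) = x) (i k : Fin n) (h1 : i ≠ k) (h2 : i ≠ Fin.rev k) (h3 : i ≠ Fin.rev i)
    (h4 : k ≠ Fin.rev k) (t : F) : wL σ i k * xL σ i k t * (wL σ i k)⁻¹ = xL σ k i t := by
  apply Cfsg.Agent.Lib.Helper79_StSU_OPPL.oppL' <;> assumption

theorem oppX (hσ : ∀ x, σ (σ x) = x) (ε : F) (hε0 : ε ≠ 0) (hε : σ ε = -ε) (i : Fin n) (h : i ≠ Fin.rev i)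
    (t : F) (ht : σ t = -t) :
    (wX σ ε i)⁻¹ * xX σ i t * wX σ ε i = xX σ (Fin.rev i) (-(ε⁻¹ * ε⁻¹ * t)) := by
  apply Cfsg.Agent.Lib.Helper55_StSU_OPPX.oppX <;> assumption

theorem oppX' (hσ : ∀ x, σ (σ x) = x) (ε : F) (hε0 : ε ≠ 0) (hε : σ ε = -ε) (i : Fin n) (h : i ≠ Fin.rev i)
    (t : F) (ht : σ t = -t) :
    wX σ ε i * xX σ i t * (wX σ ε i)⁻¹ = xX σ (Fin.rev i) (-(ε⁻¹ * ε⁻¹ * t)) := by
  apply Cfsg.Agent.Lib.Helper55_StSU_OPPX.oppX' <;> assumption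

theorem oppQ (hσ : ∀ x, σ (σ x) = x) (i c : Fin n) (hc : c = Fin.rev c) (hic : i ≠ c) (a b : F)
    (hab : b + σ b + a * σ a = 0) :
    (wQ σ i c)⁻¹ * xQ σ i c a b * wQ σ i c = xQ σ (Fin.rev i) c (-a) b := by
  apply Cfsg.Agent.Lib.Helper89_StSU_OPPQ.oppQ <;> assumption

theorem oppQ' (hσ : ∀ x, σ (σ x) = x) (i c : Fin n) (hc : c = Fin.rev c) (hic : i ≠ c) (a b : F)
    (hab : b + σ b + a * σ a = 0) :
    wQ σ i c * xQ σ i c a b * (wQ σ i c)⁻¹ = xQ σ (Fin.rev i) c (-a) b := by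
  apply Cfsg.Agent.Lib.Helper89_StSU_OPPQ.oppQ' <;> assumption

/-! ## XBL, XBX, XBQ (size S-M each): positive root elements are in `B`, negative ones are not -/

theorem xL_mem_Bsu (hσ : ∀ x, σ (σ x) = x) (i k : Fin n) (hlt : i < k) (h2 : i ≠ Fin.rev k)
    (h3 : i ≠ Fin.rev i) (h4 : k ≠ Fin.rev k) (t : F) : xL σ i k t ∈ Bsu n σ := by
  apply Cfsg.Agent.Lib.Helper54_StSU_XBL.xL_mem_Bsu <;> assumption

theorem xL_not_mem_Bsu (hσ : ∀ x, σ (σ x) = x) (i k : Fin n) (hlt : i < k) (h2 : i ≠ Fin.rev k)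
    (h3 : i ≠ Fin.rev i) (h4 : k ≠ Fin.rev k) (t : F) (ht : t ≠ 0) : xL σ k i t ∉ Bsu n σ := by
  apply Cfsg.Agent.Lib.Helper54_StSU_XBL.xL_not_mem_Bsu <;> assumption

theorem xX_mem_Bsu (i : Fin n) (hlt : i < Fin.rev i) (t : F) (ht : σ t = -t) : xX σ i t ∈ Bsu n σ := by
  apply Cfsg.Agent.Lib.Helper53_StSU_XBX.xX_mem_Bsu <;> assumption

theorem xX_not_mem_Bsu (i : Fin n) (hlt : i < Fin.rev i) (t : F) (ht : σ t = -t) (ht0 : t ≠ 0) :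
    xX σ (Fin.rev i) t ∉ Bsu n σ := by
  apply Cfsg.Agent.Lib.Helper53_StSU_XBX.xX_not_mem_Bsu <;> assumption

theorem xQ_mem_Bsu (hσ : ∀ x, σ (σ x) = x) (i c : Fin n) (hc : c = Fin.rev c) (hlt : i < c) (a b : F)
    (hab : b + σ b + a * σ a = 0) : xQ σ i c a b ∈ Bsu n σ := by
  apply Cfsg.Agent.Lib.Helper61_StSU_XBQ.xQ_mem_Bsu <;> assumption

theorem xQ_not_mem_Bsu (hσ : ∀ x, σ (σ x) = x) (i c : Fin n) (hc : c = Fin.rev c) (hlt : i < c) (a b : F)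
    (hab : b + σ b + a * σ a = 0) (hne : a ≠ 0 ∨ b ≠ 0) : xQ σ (Fin.rev i) c a b ∉ Bsu n σ := by
  apply Cfsg.Agent.Lib.Helper61_StSU_XBQ.xQ_not_mem_Bsu <;> assumption

/-! ## SQ (size M): squares of the Weyl representatives -/

theorem wL_sq (i k : Fin n) (h1 : i ≠ k) (h2 : i ≠ Fin.rev k) (h3 : i ≠ Fin.rev i)
    (h4 : k ≠ Fin.rev k) : wL σ i k * wL σ i k = 1 := by
  apply Cfsg.Agent.Lib.Helper60_StSU_SQ.wL_sq <;> assumption

theorem wX_sq (ε : F) (hε0 : ε ≠ 0) (hε : σ ε = -ε) (i : Fin n) (h : i ≠ Fin.rev i) :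
    wX σ ε i * wX σ ε i ∈ Tsu n σ := by
  apply Cfsg.Agent.Lib.Helper60_StSU_SQ.wX_sq <;> assumption

theorem wQ_sq (i c : Fin n) (hc : c = Fin.rev c) (hic : i ≠ c) : wQ σ i c * wQ σ i c = 1 := by
  apply Cfsg.Agent.Lib.Helper60_StSU_SQ.wQ_sq <;> assumption

/-! ## R1L, R1X, R1Q (size L each) -/

theorem r1L (hσ : ∀ x, σ (σ x) = x) (i k : Fin n) (hk : i.val + 1 = k.val) (hkn : k.val < n / 2)
    (b : ↥(SUJ n σ)) (hb : b ∈ Bsu n σ) :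
    ∃ t : F, wL σ i k * (b * (xL σ i k t)⁻¹) * (wL σ i k)⁻¹ ∈ Bsu n σ := by
  apply Cfsg.Agent.Lib.Helper52_StSU_R1L.r1L <;> assumption

theorem r1X (hσ : ∀ x, σ (σ x) = x) (ε : F) (hε0 : ε ≠ 0) (hε : σ ε = -ε) (i : Fin n)
    (hi : i.val + 1 = (Fin.rev i).val) (b : ↥(SUJ n σ)) (hb : b ∈ Bsu n σ) :
    ∃ t : F, σ t = -t ∧ wX σ ε i * (b * (xX σ i t)⁻¹) * (wX σ ε i)⁻¹ ∈ Bsu n σ := by
  apply Cfsg.Agent.Lib.Helper10_StSU_R1X.r1X <;> assumption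

theorem r1Q (hσ : ∀ x, σ (σ x) = x) (i c : Fin n) (hc : c = Fin.rev c) (hic : i.val + 1 = c.val)
    (b : ↥(SUJ n σ)) (hb : b ∈ Bsu n σ) :
    ∃ a β : F, β + σ β + a * σ a = 0 ∧
      wQ σ i c * (b * (xQ σ i c a β)⁻¹) * (wQ σ i c)⁻¹ ∈ Bsu n σ := by
  apply Cfsg.Agent.Lib.Helper91_StSU_R1Q.r1Q <;> assumption

/-! ## R2L, R2X, R2Q (size M-L each) -/

theorem r2L (hσ : ∀ x, σ (σ x) = x) (i k : Fin n) (h1 : i ≠ k) (h2 : i ≠ Fin.rev k) (h3 : i ≠ Fin.rev i)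
    (h4 : k ≠ Fin.rev k) (g : ↥(SUJ n σ)) (π : Equiv.Perm (Fin n)) (hg : IsMono (φ n σ) g π)
    (hrev : ∀ a, π (Fin.rev a) = Fin.rev (π a)) :
    (∀ t : F, g⁻¹ * xL σ i k t * g ∈ Bsu n σ) ∨ (∀ t : F, g⁻¹ * xL σ k i t * g ∈ Bsu n σ) := by
  apply Cfsg.Agent.Lib.Helper41_StSU_R2L.r2L <;> assumption

theorem r2X (hσ : ∀ x, σ (σ x) = x) (i : Fin n) (h : i ≠ Fin.rev i) (g : ↥(SUJ n σ))
    (π : Equiv.Perm (Fin n)) (hg : IsMono (φ n σ) g π) (hrev : ∀ a, π (Fin.rev a) = Fin.rev (π a)) :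
    (∀ t : F, σ t = -t → g⁻¹ * xX σ i t * g ∈ Bsu n σ) ∨
      (∀ t : F, σ t = -t → g⁻¹ * xX σ (Fin.rev i) t * g ∈ Bsu n σ) := by
  apply Cfsg.Agent.Lib.Helper60_StSU_R2X.r2X <;> assumption

theorem r2Q (hσ : ∀ x, σ (σ x) = x) (i c : Fin n) (hc : c = Fin.rev c) (hic : i ≠ c) (g : ↥(SUJ n σ))
    (π : Equiv.Perm (Fin n)) (hg : IsMono (φ n σ) g π) (hrev : ∀ a, π (Fin.rev a) = Fin.rev (π a)) :
    (∀ a b : F, b + σ b + a * σ a = 0 → g⁻¹ * xQ σ i c a b * g ∈ Bsu n σ) ∨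
      (∀ a b : F, b + σ b + a * σ a = 0 → g⁻¹ * xQ σ (Fin.rev i) c a b * g ∈ Bsu n σ) := by
  apply Cfsg.Agent.Lib.Helper10_StSU_R2Q.r2Q <;> assumption

/-! ## R3L, R3X, R3Q (size M-L each) -/

theorem r3L (hσ : ∀ x, σ (σ x) = x) (i k : Fin n) (hlt : i < k) (h2 : i ≠ Fin.rev k) (h3 : i ≠ Fin.rev i)
    (h4 : k ≠ Fin.rev k) (t : F) (ht : t ≠ 0) :
    ∃ b ∈ Bsu n σ, ∃ t' : F, wL σ i k * xL σ i k t * (wL σ i k)⁻¹ = b * wL σ i k * xL σ i k t' := by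
  apply Cfsg.Agent.Lib.Helper69_StSU_R3L.r3L <;> assumption

theorem r3X (hσ : ∀ x, σ (σ x) = x) (ε : F) (hε0 : ε ≠ 0) (hε : σ ε = -ε) (i : Fin n)
    (hlt : i < Fin.rev i) (t : F) (ht : σ t = -t) (ht0 : t ≠ 0) :
    ∃ b ∈ Bsu n σ, ∃ t' : F, σ t' = -t' ∧
      wX σ ε i * xX σ i t * (wX σ ε i)⁻¹ = b * wX σ ε i * xX σ i t' := by
  apply Cfsg.Agent.Lib.Helper70_StSU_R3X.r3X <;> assumption

theorem r3Q (hσ : ∀ x, σ (σ x) = x) (i c : Fin n) (hc : c = Fin.rev c) (hlt : i < c) (a β : F)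
    (hab : β + σ β + a * σ a = 0) (hne : a ≠ 0 ∨ β ≠ 0) :
    ∃ b ∈ Bsu n σ, ∃ a' β' : F, β' + σ β' + a' * σ a' = 0 ∧
      wQ σ i c * xQ σ i c a β * (wQ σ i c)⁻¹ = b * wQ σ i c * xQ σ i c a' β' := by
  apply Cfsg.Agent.Lib.Helper69_StSU_R3Q.r3Q <;> assumption

/-! ## INJ (size M) -/

theorem ss_inj (hσ : ∀ x, σ (σ x) = x) (ε : F) (hε0 : ε ≠ 0) (hε : σ ε = -ε) (i j : Fin (n / 2))
    (h : (ss σ ε i)⁻¹ * ss σ ε j ∈ Bsu n σ) : i = j :=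
  Cfsg.Agent.Lib.Helper24_StSU_INJaux.ss_inj_aux σ ε (fun i k h1 h2 h3 h4 => wL_isMono σ i k h1 h2 h3 h4) (fun i h => wX_isMono σ ε hε0 hε i h) (fun i c hc hic => wQ_isMono σ i c hc hic) i j h

/-! ## GENA (size L), GENB (size L), STEP (size M-L), FIN (size M): `B ⊔ N = ⊤` -/

theorem genA (hσ : ∀ x, σ (σ x) = x) (ε : F) (hε0 : ε ≠ 0) (hε : σ ε = -ε) (k : Fin (n / 2)) (a₀ : Fin n)
    (h1 : k.val ≤ a₀.val) (h2 : a₀.val ≤ n - 1 - k.val) (h3 : a₀ ≠ Fin.rev a₀) :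
    ∃ g ∈ Subgroup.closure (Set.range (ss (n := n) σ ε)), g ∈ Pk n σ k.val ∧
      ∃ c : F, g.1.1 *ᵥ Pi.single (lo k) 1 = Pi.single a₀ c :=
  Cfsg.Agent.Lib.Helper88_StSU_GENAaux.genA_of σ ε (fun i k h1 h2 h3 h4 => wL_val σ i k h1 h2 h3 h4) (fun i h => wX_val σ ε hε0 hε i h) (fun i c hc hic => wQ_val σ i c hc hic) k a₀ h1 h2 h3

theorem genB (hσ : ∀ x, σ (σ x) = x) (v : Fin n → F) (a : Fin n) (hva : v a ≠ 0)
    (htop : ∀ c, a < c → v c = 0) (hiso : ∑ x, v x * σ (v (Fin.rev x)) = 0) :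
    ∃ b ∈ Bsu n σ, b.1.1 *ᵥ Pi.single a (v a) = v := by
  apply Cfsg.Agent.Lib.Helper88_StSU_GENB.genB <;> assumption

theorem step (hσ : ∀ x, σ (σ x) = x) (ε : F) (hε0 : ε ≠ 0) (hε : σ ε = -ε) (k : ℕ) (hk : k < n / 2)
    (g : ↥(SUJ n σ)) (hg : g ∈ Pk n σ k) :
    ∃ h ∈ Bsu n σ ⊔ Nsu n σ ε, h * g ∈ Pk n σ (k + 1) :=
  Cfsg.Agent.Lib.Helper27_StSU_STEP.step_of σ hσ ε (genA σ hσ ε hε0 hε) (genB σ hσ) k hk g hg

theorem Pk_half_le (hσ : ∀ x, σ (σ x) = x) : Pk n σ (n / 2) ≤ Bsu n σ := by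
  apply Cfsg.Agent.Lib.Helper24_StSU_FIN.Pk_half_le <;> assumption

/-! ## TU (size L), TP (size M): the order of `B` -/

theorem card_Bsu (hσ : ∀ x, σ (σ x) = x) [Fintype F] (p : ℕ) [Fact p.Prime] [CharP F p] :
    ∃ k : ℕ, Nat.card (Bsu n σ) = Nat.card (Tsu n σ) * p ^ k := by
  apply Cfsg.Agent.Lib.Helper5_StSU_TU.card_Bsu <;> assumption

theorem card_Tsu_coprime [Fintype F] (p : ℕ) [Fact p.Prime] [CharP F p] :
    ¬ p ∣ Nat.card (Tsu n σ) := by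
  apply Cfsg.Agent.Lib.Helper69_StSU_TP.card_Tsu_coprime <;> assumption

/-! ## REV (size M-L): an element reversing the order of the basis -/

theorem exists_rev (hσ : ∀ x, σ (σ x) = x) (ε : F) (hε0 : ε ≠ 0) (hε : σ ε = -ε) :
    ∃ g : ↥(SUJ n σ), IsMono (φ n σ) g Fin.revPerm := by
  apply Cfsg.Agent.Lib.Helper70_StSU_REV.exists_rev <;> assumption

/-! ## EPS (size S), ISO (size L) -/

theorem exists_eps [Fintype F] {q : ℕ} (hF : Fintype.card F = q ^ 2) :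
    ∃ ε : F, ε ≠ 0 ∧ Cfsg.Agent.Lib.Helper5_SUOrder.powQ hF ε = -ε := by
  apply Cfsg.Agent.Lib.Helper69_StSU_EPS.exists_eps <;> assumption

theorem exists_iso [Fintype F] {q : ℕ} (hF : Fintype.card F = q ^ 2) :
    Nonempty (↥(SUJ n (Cfsg.Agent.Lib.Helper5_SUOrder.powQ hF)) ≃* ↥(Cfsg.SU n F q)) := by
  apply Cfsg.Agent.Lib.Helper44_StSU_ISO.exists_iso <;> assumption

/-! ## GENERIC (size L): abstract consequences of the (B, N)-pair axioms -/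

section generic

open Cfsg.Agent.Lib.Helper68_StAbs

variable {G : Type*} [Group G] {r : ℕ} (D : RDat G r)

theorem center_le_B : Subgroup.center G ≤ D.B := by
  apply Cfsg.Agent.Lib.Helper27_StSU_GENERIC.center_le_B <;> assumption

theorem hG_of_hBT [Finite G] (p : ℕ) [Fact p.Prime] (k : ℕ)
    (hBT : Nat.card D.B = Nat.card ↥(D.B ⊓ D.N) * p ^ k) (hT : ¬ p ∣ Nat.card ↥(D.B ⊓ D.N)) :
    ∃ r', Nat.card G = p ^ k * r' ∧ ¬ p ∣ r' := by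
  apply Cfsg.Agent.Lib.Helper27_StSU_GENERIC.hG_of_hBT <;> assumption

end generic

/-! ## TRANS (size M): transport of the conclusion along an isomorphism -/

theorem transport_steinberg {G G' : Type*} [Group G] [Group G'] [Finite G] (e : G ≃* G') (p : ℕ)
    [Fact p.Prime]
    (h : ∃ χ : G ⧸ Subgroup.center G → ℂ, Cfsg.IsIrrCharacter (G ⧸ Subgroup.center G) χ ∧
      ∀ P : Sylow p (G ⧸ Subgroup.center G), χ 1 = Nat.card P ∧
        ∀ x : G ⧸ Subgroup.center G, x ∈ P → x ≠ 1 → χ x = 0) :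
    ∃ χ : G' ⧸ Subgroup.center G' → ℂ, Cfsg.IsIrrCharacter (G' ⧸ Subgroup.center G') χ ∧
      ∀ P : Sylow p (G' ⧸ Subgroup.center G'), χ 1 = Nat.card P ∧
        ∀ x : G' ⧸ Subgroup.center G', x ∈ P → x ≠ 1 → χ x = 0 :=
  Cfsg.Agent.Lib.Helper63_StSU_TRANS.transport_steinberg e p h

/-! ## ASSEMBLY -/

section assembly

variable (hσ : ∀ x, σ (σ x) = x) (ε : F) (hε0 : ε ≠ 0) (hε : σ ε = -ε)

/-- the three types of simple roots -/
inductive RootType (j : Fin (n / 2)) : Prop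
  | L (h : j.val + 1 < n / 2)
  | X (h1 : ¬ j.val + 1 < n / 2) (h2 : n % 2 = 0)
  | Q (h1 : ¬ j.val + 1 < n / 2) (h2 : ¬ n % 2 = 0)

theorem rootType (j : Fin (n / 2)) : RootType j := by
  by_cases h : j.val + 1 < n / 2
  · exact RootType.L h
  · by_cases h2 : n % 2 = 0
    · exact RootType.X h h2
    · exact RootType.Q h h2

theorem lo_ne_lo1 (j : Fin (n / 2)) : lo j ≠ lo1 j := by
  intro e; have := congrArg Fin.val e; simp at this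

theorem lo_lt_lo1 (j : Fin (n / 2)) : lo j < lo1 j := by
  rw [Fin.lt_def]; simp

/-- the distinctness conditions for type `L` -/
theorem condL (j : Fin (n / 2)) (h : j.val + 1 < n / 2) :
    lo j ≠ Fin.rev (lo1 j) ∧ lo j ≠ Fin.rev (lo j) ∧ lo1 j ≠ Fin.rev (lo1 j) := by
  have := j.2
  refine ⟨?_, ?_, ?_⟩ <;> intro e <;> have := congrArg Fin.val e <;> simp [Fin.val_rev] at this <;> omega

/-- type `X`: `rev (lo j) = lo1 j` -/
theorem condX (j : Fin (n / 2)) (h1 : ¬ j.val + 1 < n / 2) (h2 : n % 2 = 0) :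
    (lo j).val + 1 = (Fin.rev (lo j)).val := by
  have := j.2
  simp [Fin.val_rev]
  omega

/-- type `Q`: `lo1 j` is the middle index -/
theorem condQ (j : Fin (n / 2)) (h1 : ¬ j.val + 1 < n / 2) (h2 : ¬ n % 2 = 0) :
    lo1 j = Fin.rev (lo1 j) := by
  have := j.2
  apply Fin.ext
  simp [Fin.val_rev]
  omega

theorem lo_lt_rev (j : Fin (n / 2)) : lo j < Fin.rev (lo j) := by
  have := j.2
  rw [Fin.lt_def]
  simp [Fin.val_rev]
  omega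

theorem ss_L (j : Fin (n / 2)) (h : j.val + 1 < n / 2) : ss σ ε j = wL σ (lo j) (lo1 j) := by
  unfold ss; rw [if_pos h]

theorem ss_X (j : Fin (n / 2)) (h1 : ¬ j.val + 1 < n / 2) (h2 : n % 2 = 0) :
    ss σ ε j = wX σ ε (lo j) := by
  unfold ss; rw [if_neg h1, if_pos h2]

theorem ss_Q (j : Fin (n / 2)) (h1 : ¬ j.val + 1 < n / 2) (h2 : ¬ n % 2 = 0) :
    ss σ ε j = wQ σ (lo j) (lo1 j) := by
  unfold ss; rw [if_neg h1, if_neg h2]

theorem rootSet_L (j : Fin (n / 2)) (h : j.val + 1 < n / 2) :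
    rootSet σ j = {g | ∃ t : F, g = xL σ (lo j) (lo1 j) t} := by
  unfold rootSet; rw [if_pos h]

theorem rootSet_X (j : Fin (n / 2)) (h1 : ¬ j.val + 1 < n / 2) (h2 : n % 2 = 0) :
    rootSet σ j = {g | ∃ t : F, σ t = -t ∧ g = xX σ (lo j) t} := by
  unfold rootSet; rw [if_neg h1, if_pos h2]

theorem rootSet_Q (j : Fin (n / 2)) (h1 : ¬ j.val + 1 < n / 2) (h2 : ¬ n % 2 = 0) :
    rootSet σ j = {g | ∃ a b : F, b + σ b + a * σ a = 0 ∧ g = xQ σ (lo j) (lo1 j) a b} := by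
  unfold rootSet; rw [if_neg h1, if_neg h2]

include hσ hε0 hε in
theorem ss_mem_Msu (j : Fin (n / 2)) : ss σ ε j ∈ Msu n σ := by
  rcases rootType j with h | ⟨h1, h2⟩ | ⟨h1, h2⟩
  · obtain ⟨c1, c2, c3⟩ := condL j h
    rw [ss_L σ ε j h]
    exact ⟨_, wL_isMono σ _ _ (lo_ne_lo1 j) c1 c2 c3⟩
  · rw [ss_X σ ε j h1 h2]
    exact ⟨_, wX_isMono σ ε hε0 hε _ (lo_lt_rev j).ne⟩
  · rw [ss_Q σ ε j h1 h2]
    exact ⟨_, wQ_isMono σ _ _ (condQ j h1 h2) (lo_ne_lo1 j)⟩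

include hσ hε0 hε in
theorem Nsu_le_Msu : Nsu n σ ε ≤ Msu n σ := by
  unfold Nsu
  apply sup_le
  · rw [Subgroup.closure_le]
    rintro _ ⟨j, rfl⟩
    exact ss_mem_Msu σ hσ ε hε0 hε j
  · exact Diag_le_Mono _

include hσ hε0 hε in
theorem Bsu_inf_Nsu : Bsu n σ ⊓ Nsu n σ ε = Tsu n σ := by
  apply le_antisymm
  · rintro g ⟨hB, hN⟩
    exact mem_Diag_of_mono_of_UT (φ n σ) (ht n) (ht_injective n) (Nsu_le_Msu σ hσ ε hε0 hε hN) hB
  · apply le_inf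
    · exact Diag_le_UT _ _
    · exact le_sup_right

include hσ hε0 hε in
theorem sup_eq_top' : Bsu n σ ⊔ Nsu n σ ε = ⊤ := by
  rw [eq_top_iff]
  intro g _
  have key : ∀ k : ℕ, k ≤ n / 2 → ∃ h ∈ Bsu n σ ⊔ Nsu n σ ε, h * g ∈ Pk n σ k := by
    intro k
    induction k with
    | zero =>
      intro _
      refine ⟨1, one_mem _, ?_⟩
      rw [Pk_zero]
      exact Subgroup.mem_top _
    | succ k ih =>
      intro hk
      obtain ⟨h, hh, hg⟩ := ih (by omega)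
      obtain ⟨h', hh', hg'⟩ := step σ hσ ε hε0 hε k (by omega) (h * g) hg
      refine ⟨h' * h, Subgroup.mul_mem _ hh' hh, ?_⟩
      rw [mul_assoc]
      exact hg'
  obtain ⟨h, hh, hg⟩ := key (n / 2) le_rfl
  have hB : h * g ∈ Bsu n σ ⊔ Nsu n σ ε := (le_sup_left : Bsu n σ ≤ _) (Pk_half_le σ hσ hg)
  have : g = h⁻¹ * (h * g) := by group
  rw [this]
  exact Subgroup.mul_mem _ (Subgroup.inv_mem _ hh) hB

include hσ in
theorem rootSet_le_Bsu (j : Fin (n / 2)) : rootSet σ j ⊆ (Bsu n σ : Set ↥(SUJ n σ)) := by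
  rcases rootType j with h | ⟨h1, h2⟩ | ⟨h1, h2⟩
  · obtain ⟨c1, c2, c3⟩ := condL j h
    rw [rootSet_L σ j h]
    rintro _ ⟨t, rfl⟩
    exact xL_mem_Bsu σ hσ _ _ (lo_lt_lo1 j) c1 c2 c3 t
  · rw [rootSet_X σ j h1 h2]
    rintro _ ⟨t, ht, rfl⟩
    exact xX_mem_Bsu σ _ (lo_lt_rev j) t ht
  · rw [rootSet_Q σ j h1 h2]
    rintro _ ⟨a, b, hab, rfl⟩
    exact xQ_mem_Bsu σ hσ _ _ (condQ j h1 h2) (lo_lt_lo1 j) a b hab

include hσ in
/-- the root sets are subgroups -/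
theorem mem_Us_iff (j : Fin (n / 2)) (u : ↥(SUJ n σ)) : u ∈ Us σ j ↔ u ∈ rootSet σ j := by
  constructor
  · intro hu
    unfold Us at hu
    induction hu using Subgroup.closure_induction with
    | mem x hx => exact hx
    | one =>
      rcases rootType j with h | ⟨h1, h2⟩ | ⟨h1, h2⟩
      · rw [rootSet_L σ j h]
        exact ⟨0, (xL_zero σ _ _).symm⟩
      · rw [rootSet_X σ j h1 h2]
        exact ⟨0, by simp, (xX_zero σ _).symm⟩
      · rw [rootSet_Q σ j h1 h2]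
        exact ⟨0, 0, by simp, (xQ_zero σ _ _).symm⟩
    | mul x y _ _ hx hy =>
      rcases rootType j with h | ⟨h1, h2⟩ | ⟨h1, h2⟩
      · obtain ⟨c1, c2, c3⟩ := condL j h
        rw [rootSet_L σ j h] at hx hy ⊢
        obtain ⟨s, rfl⟩ := hx
        obtain ⟨t, rfl⟩ := hy
        exact ⟨s + t, xL_mul σ hσ _ _ (lo_ne_lo1 j) c1 c2 c3 s t⟩
      · rw [rootSet_X σ j h1 h2] at hx hy ⊢
        obtain ⟨s, hs, rfl⟩ := hx
        obtain ⟨t, ht, rfl⟩ := hy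
        exact ⟨s + t, by rw [map_add, hs, ht]; ring, xX_mul σ _ (lo_lt_rev j).ne s t hs ht⟩
      · rw [rootSet_Q σ j h1 h2] at hx hy ⊢
        obtain ⟨a, b, hab, rfl⟩ := hx
        obtain ⟨a', b', hab', rfl⟩ := hy
        refine ⟨a + a', b + b' - a * σ a', ?_, xQ_mul σ hσ _ _ (condQ j h1 h2) (lo_ne_lo1 j) a b a' b' hab hab'⟩
        simp only [map_add, map_sub, map_mul, hσ]
        linear_combination hab + hab'
    | inv x _ hx =>
      rcases rootType j with h | ⟨h1, h2⟩ | ⟨h1, h2⟩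
      · obtain ⟨c1, c2, c3⟩ := condL j h
        rw [rootSet_L σ j h] at hx ⊢
        obtain ⟨s, rfl⟩ := hx
        refine ⟨-s, ?_⟩
        rw [inv_eq_iff_mul_eq_one, xL_mul σ hσ _ _ (lo_ne_lo1 j) c1 c2 c3, add_neg_cancel, xL_zero]
      · rw [rootSet_X σ j h1 h2] at hx ⊢
        obtain ⟨s, hs, rfl⟩ := hx
        refine ⟨-s, by rw [map_neg, hs], ?_⟩
        rw [inv_eq_iff_mul_eq_one, xX_mul σ _ (lo_lt_rev j).ne s (-s) hs (by rw [map_neg, hs]),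
          add_neg_cancel, xX_zero]
      · rw [rootSet_Q σ j h1 h2] at hx ⊢
        obtain ⟨a, b, hab, rfl⟩ := hx
        have hab' : (-b - a * σ a) + σ (-b - a * σ a) + (-a) * σ (-a) = 0 := by
          simp only [map_neg, map_sub, map_mul, hσ]
          linear_combination -hab
        refine ⟨-a, -b - a * σ a, hab', ?_⟩
        rw [inv_eq_iff_mul_eq_one, xQ_mul σ hσ _ _ (condQ j h1 h2) (lo_ne_lo1 j) a b _ _ hab hab']
        have e1 : a + -a = 0 := by ring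
        have e2 : b + (-b - a * σ a) - a * σ (-a) = 0 := by rw [map_neg]; ring
        rw [e1, e2, xQ_zero]
  · intro hu
    exact Subgroup.subset_closure hu

/-- the root-subgroup data of `SUJ n σ` -/
noncomputable def suRDat : Cfsg.Agent.Lib.Helper68_StAbs.RDat ↥(SUJ n σ) (n / 2) where
  B := Bsu n σ
  N := Nsu n σ ε
  s := ss σ ε
  U := Us σ
  sup_eq_top := sup_eq_top' σ hσ ε hε0 hε
  conj_mem := by
    intro g hg t ht
    rw [Bsu_inf_Nsu σ hσ ε hε0 hε] at ht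
    exact Diag_le_UT _ _ (conj_mem_Diag (φ n σ) (Nsu_le_Msu σ hσ ε hε0 hε hg) ht)
  s_mem := fun j => (le_sup_left : _ ≤ Nsu n σ ε) (Subgroup.subset_closure ⟨j, rfl⟩)
  sq_mem := by
    intro j
    rcases rootType j with h | ⟨h1, h2⟩ | ⟨h1, h2⟩
    · obtain ⟨c1, c2, c3⟩ := condL j h
      rw [ss_L σ ε j h, wL_sq σ _ _ (lo_ne_lo1 j) c1 c2 c3]
      exact one_mem _
    · rw [ss_X σ ε j h1 h2]
      exact Diag_le_UT _ _ (wX_sq σ ε hε0 hε _ (lo_lt_rev j).ne)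
    · rw [ss_Q σ ε j h1 h2, wQ_sq σ _ _ (condQ j h1 h2) (lo_ne_lo1 j)]
      exact one_mem _
  inj := ss_inj σ hσ ε hε0 hε
  closure_sup := by
    rw [Bsu_inf_Nsu σ hσ ε hε0 hε]
    rfl
  U_le := by
    intro j
    unfold Us
    rw [Subgroup.closure_le]
    exact rootSet_le_Bsu σ hσ j
  r1 := by
    intro j b hb
    rcases rootType j with h | ⟨h1, h2⟩ | ⟨h1, h2⟩
    · obtain ⟨t, ht⟩ := r1L σ hσ (lo j) (lo1 j) rfl (by simpa using h) b hb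
      refine ⟨xL σ (lo j) (lo1 j) t, Subgroup.subset_closure ?_, ?_⟩
      · rw [rootSet_L σ j h]; exact ⟨t, rfl⟩
      · rw [ss_L σ ε j h]; exact ht
    · obtain ⟨t, ht, hb'⟩ := r1X σ hσ ε hε0 hε (lo j) (condX j h1 h2) b hb
      refine ⟨xX σ (lo j) t, Subgroup.subset_closure ?_, ?_⟩
      · rw [rootSet_X σ j h1 h2]; exact ⟨t, ht, rfl⟩
      · rw [ss_X σ ε j h1 h2]; exact hb'
    · obtain ⟨a, β, hab, hb'⟩ := r1Q σ hσ (lo j) (lo1 j) (condQ j h1 h2) rfl b hb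
      refine ⟨xQ σ (lo j) (lo1 j) a β, Subgroup.subset_closure ?_, ?_⟩
      · rw [rootSet_Q σ j h1 h2]; exact ⟨a, β, hab, rfl⟩
      · rw [ss_Q σ ε j h1 h2]; exact hb'
  r2 := by
    intro j g hg
    obtain ⟨π, hπ⟩ := Nsu_le_Msu σ hσ ε hε0 hε hg
    have hrev := mono_rev σ hπ
    -- reduce to the generators of `U j`
    have red : ∀ (f : ↥(SUJ n σ) →* ↥(SUJ n σ)), (∀ u ∈ rootSet σ j, f u ∈ Bsu n σ) →
        ∀ u ∈ Us σ j, f u ∈ Bsu n σ := by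
      intro f hf u hu
      have : Us σ j ≤ (Bsu n σ).comap f := by
        unfold Us
        rw [Subgroup.closure_le]
        intro x hx
        exact hf x hx
      exact this hu
    let f1 : ↥(SUJ n σ) →* ↥(SUJ n σ) := (MulAut.conj g⁻¹).toMonoidHom
    let f2 : ↥(SUJ n σ) →* ↥(SUJ n σ) := (MulAut.conj (ss σ ε j * g)⁻¹).toMonoidHom
    have hf1 : ∀ u, f1 u = g⁻¹ * u * g := by
      intro u; show g⁻¹ * u * g⁻¹⁻¹ = _; rw [inv_inv]
    have hf2 : ∀ u, f2 u = g⁻¹ * ((ss σ ε j)⁻¹ * u * ss σ ε j) * g := by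
      intro u; show (ss σ ε j * g)⁻¹ * u * (ss σ ε j * g)⁻¹⁻¹ = _; group
    rcases rootType j with h | ⟨h1, h2⟩ | ⟨h1, h2⟩
    · obtain ⟨c1, c2, c3⟩ := condL j h
      rcases r2L σ hσ (lo j) (lo1 j) (lo_ne_lo1 j) c1 c2 c3 g π hπ hrev with h' | h'
      · left
        intro u hu
        rw [← hf1]
        apply red f1 _ u hu
        rw [rootSet_L σ j h]
        rintro _ ⟨t, rfl⟩
        rw [hf1]; exact h' t
      · right
        intro u hu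
        rw [← hf2]
        apply red f2 _ u hu
        rw [rootSet_L σ j h]
        rintro _ ⟨t, rfl⟩
        rw [hf2, ss_L σ ε j h, oppL σ hσ _ _ (lo_ne_lo1 j) c1 c2 c3]; exact h' t
    · rcases r2X σ hσ (lo j) (lo_lt_rev j).ne g π hπ hrev with h' | h'
      · left
        intro u hu
        rw [← hf1]
        apply red f1 _ u hu
        rw [rootSet_X σ j h1 h2]
        rintro _ ⟨t, ht, rfl⟩
        rw [hf1]; exact h' t ht
      · right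
        intro u hu
        rw [← hf2]
        apply red f2 _ u hu
        rw [rootSet_X σ j h1 h2]
        rintro _ ⟨t, ht, rfl⟩
        rw [hf2, ss_X σ ε j h1 h2, oppX σ hσ ε hε0 hε _ (lo_lt_rev j).ne t ht]
        apply h'
        rw [map_neg, map_mul, map_mul, map_inv₀, hε, ht]
        ring
    · rcases r2Q σ hσ (lo j) (lo1 j) (condQ j h1 h2) (lo_ne_lo1 j) g π hπ hrev with h' | h'
      · left
        intro u hu
        rw [← hf1]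
        apply red f1 _ u hu
        rw [rootSet_Q σ j h1 h2]
        rintro _ ⟨a, b, hab, rfl⟩
        rw [hf1]; exact h' a b hab
      · right
        intro u hu
        rw [← hf2]
        apply red f2 _ u hu
        rw [rootSet_Q σ j h1 h2]
        rintro _ ⟨a, b, hab, rfl⟩
        rw [hf2, ss_Q σ ε j h1 h2, oppQ σ hσ _ _ (condQ j h1 h2) (lo_ne_lo1 j) a b hab]
        apply h'
        rw [map_neg]
        linear_combination hab
  r3 := by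
    intro j u hu hu1
    rw [mem_Us_iff σ hσ] at hu
    rcases rootType j with h | ⟨h1, h2⟩ | ⟨h1, h2⟩
    · obtain ⟨c1, c2, c3⟩ := condL j h
      rw [rootSet_L σ j h] at hu
      obtain ⟨t, rfl⟩ := hu
      have ht : t ≠ 0 := by
        rintro rfl
        exact hu1 (xL_zero σ _ _)
      obtain ⟨b, hb, t', e⟩ := r3L σ hσ (lo j) (lo1 j) (lo_lt_lo1 j) c1 c2 c3 t ht
      refine ⟨b, hb, xL σ (lo j) (lo1 j) t', Subgroup.subset_closure ?_, ?_⟩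
      · rw [rootSet_L σ j h]; exact ⟨t', rfl⟩
      · rw [ss_L σ ε j h]; exact e
    · rw [rootSet_X σ j h1 h2] at hu
      obtain ⟨t, ht, rfl⟩ := hu
      have ht0 : t ≠ 0 := by
        rintro rfl
        exact hu1 (xX_zero σ _)
      obtain ⟨b, hb, t', ht', e⟩ := r3X σ hσ ε hε0 hε (lo j) (lo_lt_rev j) t ht ht0
      refine ⟨b, hb, xX σ (lo j) t', Subgroup.subset_closure ?_, ?_⟩
      · rw [rootSet_X σ j h1 h2]; exact ⟨t', ht', rfl⟩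
      · rw [ss_X σ ε j h1 h2]; exact e
    · rw [rootSet_Q σ j h1 h2] at hu
      obtain ⟨a, β, hab, rfl⟩ := hu
      have hne : a ≠ 0 ∨ β ≠ 0 := by
        by_contra hcon
        rw [not_or, not_not, not_not] at hcon
        obtain ⟨rfl, rfl⟩ := hcon
        exact hu1 (xQ_zero σ _ _)
      obtain ⟨b, hb, a', β', hab', e⟩ := r3Q σ hσ (lo j) (lo1 j) (condQ j h1 h2) (lo_lt_lo1 j) a β hab hne
      refine ⟨b, hb, xQ σ (lo j) (lo1 j) a' β', Subgroup.subset_closure ?_, ?_⟩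
      · rw [rootSet_Q σ j h1 h2]; exact ⟨a', β', hab', rfl⟩
      · rw [ss_Q σ ε j h1 h2]; exact e
  r4 := by
    intro j
    rcases rootType j with h | ⟨h1, h2⟩ | ⟨h1, h2⟩
    · obtain ⟨c1, c2, c3⟩ := condL j h
      refine ⟨xL σ (lo j) (lo1 j) 1, Subgroup.subset_closure ?_, ?_⟩
      · rw [rootSet_L σ j h]; exact ⟨1, rfl⟩
      · rw [ss_L σ ε j h, oppL' σ hσ _ _ (lo_ne_lo1 j) c1 c2 c3]
        exact xL_not_mem_Bsu σ hσ _ _ (lo_lt_lo1 j) c1 c2 c3 1 one_ne_zero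
    · refine ⟨xX σ (lo j) ε, Subgroup.subset_closure ?_, ?_⟩
      · rw [rootSet_X σ j h1 h2]; exact ⟨ε, hε, rfl⟩
      · rw [ss_X σ ε j h1 h2, oppX' σ hσ ε hε0 hε _ (lo_lt_rev j).ne ε hε]
        apply xX_not_mem_Bsu σ _ (lo_lt_rev j)
        · rw [map_neg, map_mul, map_mul, map_inv₀, hε]
          ring
        · simp [hε0]
    · have hab : ε + σ ε + (0 : F) * σ 0 = 0 := by rw [hε]; ring
      refine ⟨xQ σ (lo j) (lo1 j) 0 ε, Subgroup.subset_closure ?_, ?_⟩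
      · rw [rootSet_Q σ j h1 h2]; exact ⟨0, ε, hab, rfl⟩
      · rw [ss_Q σ ε j h1 h2, oppQ' σ hσ _ _ (condQ j h1 h2) (lo_ne_lo1 j) 0 ε hab]
        apply xQ_not_mem_Bsu σ hσ _ _ (condQ j h1 h2) (lo_lt_lo1 j)
        · rw [neg_zero]; exact hab
        · right; exact hε0

include hσ hε0 hε in
/-- the Steinberg character of `SUJ n σ` modulo its centre -/
theorem exists_steinberg_suj [Fintype F] (p : ℕ) [Fact p.Prime] [CharP F p] :
    ∃ χ : ↥(SUJ n σ) ⧸ Subgroup.center ↥(SUJ n σ) → ℂ,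
      Cfsg.IsIrrCharacter (↥(SUJ n σ) ⧸ Subgroup.center ↥(SUJ n σ)) χ ∧
      ∀ P : Sylow p (↥(SUJ n σ) ⧸ Subgroup.center ↥(SUJ n σ)),
        χ 1 = Nat.card P ∧ ∀ x, x ∈ P → x ≠ 1 → χ x = 0 := by
  classical
  have hfin : Finite ↥(SUJ n σ) := by
    have : Finite (Matrix.SpecialLinearGroup (Fin n) F) := Subtype.finite
    exact Subtype.finite
  obtain ⟨k, hk⟩ := card_Bsu (n := n) σ hσ p
  obtain ⟨g₀, hg₀⟩ := exists_rev (n := n) σ hσ ε hε0 hε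
  have hBT : Nat.card (suRDat (n := n) σ hσ ε hε0 hε).B =
      Nat.card ↥((suRDat (n := n) σ hσ ε hε0 hε).B ⊓ (suRDat (n := n) σ hσ ε hε0 hε).N) * p ^ k := by
    show Nat.card (Bsu n σ) = Nat.card ↥(Bsu n σ ⊓ Nsu n σ ε) * p ^ k
    rw [Bsu_inf_Nsu σ hσ ε hε0 hε, hk]
  have hT : ¬ p ∣ Nat.card ↥((suRDat (n := n) σ hσ ε hε0 hε).B ⊓ (suRDat (n := n) σ hσ ε hε0 hε).N) := by
    show ¬ p ∣ Nat.card ↥(Bsu n σ ⊓ Nsu n σ ε)
    rw [Bsu_inf_Nsu σ hσ ε hε0 hε]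
    exact card_Tsu_coprime σ p
  refine Cfsg.Agent.Lib.Helper68_StAbs.exists_steinberg (suRDat (n := n) σ hσ ε hε0 hε) p k hBT g₀ ?_
    (hG_of_hBT _ p k hBT hT) (Subgroup.center _) le_rfl (center_le_B _)
  intro b hb hc
  have hD : b ∈ Tsu n σ := by
    apply mem_Diag_of_conj_rev (φ n σ) (ht n) (ht_injective n) hg₀ _ hb hc
    intro a c hac
    show (Fin.rev c).val < (Fin.rev a).val
    have hac' : a.val < c.val := hac
    rw [Fin.val_rev, Fin.val_rev]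
    omega
  exact (le_sup_right : Tsu n σ ≤ Nsu n σ ε) hD

end assembly

/-- **The Steinberg character of `PSU_n(q)`.** -/
theorem exists_steinberg_psu [Fintype F] (p : ℕ) [Fact p.Prime] [CharP F p] (n q : ℕ)
    (hF : Fintype.card F = q ^ 2) :
    ∃ χ : Cfsg.PSU n F q → ℂ, Cfsg.IsIrrCharacter (Cfsg.PSU n F q) χ ∧
      ∀ P : Sylow p (Cfsg.PSU n F q), χ 1 = Nat.card P ∧
        ∀ x : Cfsg.PSU n F q, x ∈ P → x ≠ 1 → χ x = 0 := by
  obtain ⟨ε, hε0, hε⟩ := exists_eps hF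
  obtain ⟨e⟩ := exists_iso (n := n) hF
  have hfin : Finite ↥(SUJ n (Cfsg.Agent.Lib.Helper5_SUOrder.powQ hF)) := by
    have : Finite (Matrix.SpecialLinearGroup (Fin n) F) := Subtype.finite
    exact Subtype.finite
  exact transport_steinberg e p
    (exists_steinberg_suj (Cfsg.Agent.Lib.Helper5_SUOrder.powQ hF)
      (Cfsg.Agent.Lib.Helper81_SUSiegel.powQ_powQ hF) ε hε0 hε p)

end Cfsg.Agent.Lib.Helper27_StSU_Asm
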