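import Mathlib
import Cfsg.Agent.Lib.Helper27_EA2SUDefs
import Cfsg.Agent.Lib.Helper27_StSU_Asm
import Cfsg.Agent.Lib.Helper68_EA2

/-!
# S4625, share SU (sub-architect helper27 for helper68), package SU-STRUCT (formalised by helper43)

`row_rel`: the rows of a unitary matrix satisfy the same relations as the columns (apply the column
relation to `g⁻¹`).  `col_of_rows`: if the rows above `a` are rows of the identity then so are the
columns `rev i`, `i < a`.  `su_struct`: the shape of a unitriangular unitary matrix whose entries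
before the position `(a, b)` are cleared and whose `(a, b)` entry is not zero.
-/

set_option autoImplicit false
set_option linter.unusedSectionVars false
set_option linter.unusedVariables false

namespace Cfsg.Agent.Lib.Helper43_EA2_SUSTRUCT

open Matrix Cfsg.Agent.Lib.Helper68_MatGrp Cfsg.Agent.Lib.Helper27_StSUDefs
  Cfsg.Agent.Lib.Helper27_StSUBasic Cfsg.Agent.Lib.Helper27_GenRow Cfsg.Agent.Lib.Helper27_EA2SUDefs
  Cfsg.Agent.Lib.Helper27_StSU_Asm
open scoped commutatorElement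

variable {n : ℕ} {F : Type*} [Field F] (σ : F →+* F)

theorem row_rel (hσ : ∀ x, σ (σ x) = x) (g : ↥(SUJ n σ)) (a b : Fin n) :
    ∑ x, g.1.1 a x * σ (g.1.1 b (Fin.rev x)) = if a = Fin.rev b then 1 else 0 := by
  have h := unitary_apply σ g⁻¹ (Fin.rev b) (Fin.rev a)
  have h1 : ∀ x : Fin n, (g⁻¹).1.1 x (Fin.rev b) * σ ((g⁻¹).1.1 (Fin.rev x) (Fin.rev a)) =
      g.1.1 a x * σ (g.1.1 b (Fin.rev x)) := by
    intro x
    rw [inv_apply σ hσ, inv_apply σ hσ, hσ, Fin.rev_rev, Fin.rev_rev, Fin.rev_rev, mul_comm]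
  rw [Finset.sum_congr rfl (fun x _ => h1 x)] at h
  rw [h, Fin.rev_rev]
  by_cases hab : a = Fin.rev b
  · rw [if_pos hab, if_pos (by rw [hab])]
  · rw [if_neg hab, if_neg (fun e => hab e.symm)]

theorem col_of_rows (hσ : ∀ x, σ (σ x) = x) (u : ↥(SUJ n σ)) (a : Fin n)
    (h : ∀ i l : Fin n, i < a → u.1.1 i l = if i = l then 1 else 0) :
    ∀ i x : Fin n, i < a → u.1.1 x (Fin.rev i) = if x = Fin.rev i then 1 else 0 := by
  intro i x hi
  -- the row `i` of `u⁻¹` is a row of the identity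
  have hinv : ∀ l : Fin n, (u⁻¹).1.1 i l = if i = l then 1 else 0 := by
    intro l
    have h1 : (u.1.1 * (u⁻¹).1.1) i l = (1 : Matrix (Fin n) (Fin n) F) i l := by
      rw [mul_inv_val]
    rw [Matrix.mul_apply, Matrix.one_apply] at h1
    rw [← h1]
    have h2 : ∀ y : Fin n, u.1.1 i y * (u⁻¹).1.1 y l = if i = y then (u⁻¹).1.1 y l else 0 := by
      intro y
      rw [h i y hi]
      split_ifs
      · rw [one_mul]
      · rw [zero_mul]
    rw [Finset.sum_congr rfl (fun y _ => h2 y), Finset.sum_ite_eq Finset.univ i,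
      if_pos (Finset.mem_univ i)]
  have h3 := hinv (Fin.rev x)
  rw [inv_apply σ hσ, Fin.rev_rev] at h3
  have h4 : u.1.1 x (Fin.rev i) = σ (if i = Fin.rev x then (1 : F) else 0) := by
    rw [← h3, hσ]
  rw [h4]
  by_cases hx : x = Fin.rev i
  · rw [if_pos hx, if_pos (by rw [hx, Fin.rev_rev]), map_one]
  · have : i ≠ Fin.rev x := by
      intro e
      apply hx
      rw [e, Fin.rev_rev]
    rw [if_neg hx, if_neg this, map_zero]

theorem su_struct (hσ : ∀ x, σ (σ x) = x) (u : ↥(SUJ n σ)) (hu : u ∈ UUsu n σ) (a b : Fin n) (hab : a < b)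
    (hne : u.1.1 a b ≠ 0) (hcl : ClearedBefore (φ n σ) (ht n) u a b) :
    b ≤ Fin.rev a ∧ (∀ l : Fin n, Fin.rev a < l → u.1.1 a l = 0) ∧
      ∀ i l : Fin n, i < a → u.1.1 i l = if i = l then 1 else 0 := by
  obtain ⟨hcl1, hcl2⟩ := (clearedBefore_iff σ u a b).1 hcl
  obtain ⟨hlow, hdiag⟩ := (mem_UUsu σ).1 hu
  have h3 : ∀ i l : Fin n, i < a → u.1.1 i l = if i = l then 1 else 0 := by
    intro i l hi
    rcases lt_trichotomy i l with h | h | h
    · rw [if_neg (ne_of_lt h)]
      exact hcl1 i l h hi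
    · rw [if_pos h, h]
      exact hdiag l
    · rw [if_neg (ne_of_gt h)]
      exact hlow i l h
  have hcol := col_of_rows σ hσ u a h3
  have hlt : ∀ l : Fin n, Fin.rev a < l → Fin.rev l < a := by
    intro l hl
    have := Fin.rev_lt_rev.mpr hl
    rwa [Fin.rev_rev] at this
  have h1 : b ≤ Fin.rev a := by
    by_contra hcon
    push Not at hcon
    have h4 := hcol (Fin.rev b) a (hlt b hcon)
    rw [Fin.rev_rev, if_neg (ne_of_lt hab)] at h4
    exact hne h4
  refine ⟨h1, ?_, h3⟩
  intro l hl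
  have h4 := hcol (Fin.rev l) a (hlt l hl)
  rw [Fin.rev_rev] at h4
  have hal : a ≠ l := ne_of_lt (lt_of_lt_of_le hab (le_trans h1 (le_of_lt hl)))
  rw [if_neg hal] at h4
  exact h4

end Cfsg.Agent.Lib.Helper43_EA2_SUSTRUCT
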