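import Mathlib
import Cfsg.Agent.Lib.Helper27_EA2SUDefs
import Cfsg.Agent.Lib.Helper27_StSU_Asm
import Cfsg.Agent.Lib.Helper68_EA2

/-!
# S4625, share SU (helper27 for architect helper68), package SU-MEM (helper48):
the positive root elements of `SUJ n σ` are unitriangular.
-/

set_option autoImplicit false
set_option linter.unusedSectionVars false
set_option linter.unusedVariables false

namespace Cfsg.Agent.Lib.Helper48_EA2_SUMEM

open Matrix Cfsg.Agent.Lib.Helper68_MatGrp Cfsg.Agent.Lib.Helper27_StSUDefs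
  Cfsg.Agent.Lib.Helper27_StSUBasic Cfsg.Agent.Lib.Helper27_GenRow Cfsg.Agent.Lib.Helper27_EA2SUDefs
  Cfsg.Agent.Lib.Helper27_StSU_Asm
open scoped commutatorElement

variable {n : ℕ} {F : Type*} [Field F] (σ : F →+* F)

/-- PKG SU-MEM (S/M).  The positive root elements are unitriangular. -/
theorem rootSU_subset (hσ : ∀ x, σ (σ x) = x) : rootSU n σ ⊆ (UUsu n σ : Set ↥(SUJ n σ)) := by
  intro g hg
  rw [SetLike.mem_coe, mem_UUsu]
  rcases hg with ⟨i, k, t, hik, h2, h3, h4, rfl⟩ | ⟨i, t, hi, ht, rfl⟩ | ⟨i, c, a, b, hc, hic, hab, rfl⟩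
  · refine ⟨(mem_Bsu σ).1 (xL_mem_Bsu σ hσ i k hik h2 h3 h4 t), ?_⟩
    intro a
    rw [xL_val σ hσ i k (ne_of_lt hik) h2 h3 h4 t]
    unfold xLm
    have h5 : ¬ (i = a ∧ k = a) := fun h => (ne_of_lt hik) (h.1.trans h.2.symm)
    have h6 : ¬ (Fin.rev k = a ∧ Fin.rev i = a) := fun h =>
      (ne_of_lt hik) (Fin.rev_injective (h.2.trans h.1.symm))
    simp [Matrix.single_apply, h5, h6]
  · refine ⟨(mem_Bsu σ).1 (xX_mem_Bsu σ i hi t ht), ?_⟩
    intro a
    rw [xX_val σ i (ne_of_lt hi) t ht]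
    unfold xXm
    have h5 : ¬ (i = a ∧ Fin.rev i = a) := fun h => (ne_of_lt hi) (h.1.trans h.2.symm)
    simp [Matrix.single_apply, h5]
  · refine ⟨(mem_Bsu σ).1 (xQ_mem_Bsu σ hσ i c hc hic a b hab), ?_⟩
    intro a'
    rw [xQ_val σ hσ i c hc (ne_of_lt hic) a b hab]
    unfold xQm
    have hirev : i ≠ Fin.rev i := by
      intro h
      have h1 : Fin.rev c < Fin.rev i := Fin.rev_lt_rev.mpr hic
      rw [← hc, ← h] at h1
      exact lt_asymm hic h1
    have hcrev : c ≠ Fin.rev i := by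
      intro h
      have h1 : Fin.rev c = i := by rw [h, Fin.rev_rev]
      rw [← hc] at h1
      exact (ne_of_lt hic) h1.symm
    have h5 : ¬ (i = a' ∧ c = a') := fun h => (ne_of_lt hic) (h.1.trans h.2.symm)
    have h6 : ¬ (c = a' ∧ Fin.rev i = a') := fun h => hcrev (h.1.trans h.2.symm)
    have h7 : ¬ (i = a' ∧ Fin.rev i = a') := fun h => hirev (h.1.trans h.2.symm)
    simp [Matrix.single_apply, h5, h6, h7]

end Cfsg.Agent.Lib.Helper48_EA2_SUMEM
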