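import Mathlib
import Cfsg.Agent.Lib.Helper27_EA2SUDefs
import Cfsg.Agent.Lib.Helper27_StSU_Asm
import Cfsg.Agent.Lib.Helper68_EA2
import Cfsg.Agent.Lib.Helper43_EA2_SUSTRUCT

set_option autoImplicit false
set_option linter.unusedSectionVars false
set_option linter.unusedVariables false

namespace Cfsg.Agent.Lib.Helper57_EA2_SUCX

open Matrix Cfsg.Agent.Lib.Helper68_MatGrp Cfsg.Agent.Lib.Helper27_StSUDefs
  Cfsg.Agent.Lib.Helper27_StSUBasic Cfsg.Agent.Lib.Helper27_GenRow Cfsg.Agent.Lib.Helper27_EA2SUDefs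
  Cfsg.Agent.Lib.Helper27_StSU_Asm
open Cfsg.Agent.Lib.Helper43_EA2_SUSTRUCT
open scoped commutatorElement

variable {n : ℕ} {F : Type*} [Field F] (σ : F →+* F)

/-- entries of `u * (1 + t E_{i, rev i})` -/
theorem mul_xXm_apply (M : Matrix (Fin n) (Fin n) F) (i : Fin n) (t : F) (a' b' : Fin n) :
    (M * xXm i t) a' b' = M a' b' + if b' = Fin.rev i then M a' i * t else 0 := by
  unfold xXm
  rw [Matrix.mul_add, Matrix.mul_one, Matrix.add_apply]
  congr 1
  by_cases h : b' = Fin.rev i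
  · subst h
    rw [if_pos rfl]
    simp
  · rw [if_neg h]
    simp [h]

/-- PKG SU-CX (M).  `b = rev a`.  `s = xX σ a (-u_{a,rev a})`; `σ z = -z` for `z = u_{a,rev a}` is `row_rel σ hσ u a a`: only the terms
`x = a`, `x = rev a` survive.  `(u s)_{a',b'} = u_{a',b'} + u_{a',a} t [b' = rev a]`. -/
theorem clear_X (hσ : ∀ x, σ (σ x) = x) (u : ↥(SUJ n σ)) (hu : u ∈ UUsu n σ) (a b : Fin n) (hab : a < b)
    (hne : u.1.1 a b ≠ 0) (hcl : ClearedBefore (φ n σ) (ht n) u a b) (hb1 : b = Fin.rev a) :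
    ∃ s ∈ rootSU n σ, u * s ∈ UUsu n σ ∧ (u * s).1.1 a b = 0 ∧
      ClearedBefore (φ n σ) (ht n) (u * s) a b := by
  classical
  subst hb1
  obtain ⟨hs1, hs2, hs3⟩ := su_struct σ hσ u hu a (Fin.rev a) hab hne hcl
  obtain ⟨hlow, hdiag⟩ := (mem_UUsu σ).mp hu
  obtain ⟨hc1, hc2⟩ := (clearedBefore_iff σ u a (Fin.rev a)).mp hcl
  have hane : a ≠ Fin.rev a := ne_of_lt hab
  set z : F := u.1.1 a (Fin.rev a) with hz
  -- the row `a` of `u`
  have hrow : ∀ x : Fin n, x ≠ a → x ≠ Fin.rev a → u.1.1 a x = 0 := by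
    intro x hxa hxr
    rcases lt_trichotomy x a with h | h | h
    · exact hlow a x h
    · exact absurd h hxa
    · rcases lt_trichotomy x (Fin.rev a) with h' | h' | h'
      · exact hc2 x h h'
      · exact absurd h' hxr
      · exact hs2 x h'
  -- `σ z = -z`
  have hσz : σ z = -z := by
    have h := row_rel σ hσ u a a
    rw [if_neg hane] at h
    rw [Finset.sum_eq_add_of_mem a (Fin.rev a) (Finset.mem_univ _) (Finset.mem_univ _) hane] at h
    · rw [hdiag a, one_mul, Fin.rev_rev, hdiag a, map_one, mul_one] at h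
      exact eq_neg_of_add_eq_zero_left h
    · intro x _ hx
      rw [hrow x hx.1 hx.2, zero_mul]
  have hσz' : σ (-z) = -(-z) := by rw [map_neg, hσz]
  have hsval : (xX σ a (-z)).1.1 = xXm a (-z) := xX_val σ a hane (-z) hσz'
  have hent : ∀ a' b' : Fin n, (u * xX σ a (-z)).1.1 a' b' =
      u.1.1 a' b' + if b' = Fin.rev a then u.1.1 a' a * (-z) else 0 := by
    intro a' b'
    rw [mul_val, hsval, mul_xXm_apply]
  refine ⟨xX σ a (-z), Or.inr (Or.inl ⟨a, -z, hab, hσz', rfl⟩), ?_, ?_, ?_⟩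
  · rw [mem_UUsu]
    constructor
    · intro a' b' hlt
      rw [hent, hlow a' b' hlt]
      by_cases hb : b' = Fin.rev a
      · rw [if_pos hb, hlow a' a (lt_trans hab (hb ▸ hlt)), zero_mul, add_zero]
      · rw [if_neg hb, add_zero]
    · intro a'
      rw [hent, hdiag a']
      by_cases hb : a' = Fin.rev a
      · rw [if_pos hb, hlow a' a (hb ▸ hab), zero_mul, add_zero]
      · rw [if_neg hb, add_zero]
  · rw [hent, if_pos rfl, hdiag a, one_mul, ← hz, add_neg_cancel]
  · rw [clearedBefore_iff]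
    constructor
    · intro a' b' h1 h2
      rw [hent, hc1 a' b' h1 h2]
      by_cases hb : b' = Fin.rev a
      · rw [if_pos hb, hc1 a' a h2 h2, zero_mul, add_zero]
      · rw [if_neg hb, add_zero]
    · intro b' h1 h2
      rw [hent, hc2 b' h1 h2, if_neg (ne_of_lt h2), add_zero]

end Cfsg.Agent.Lib.Helper57_EA2_SUCX
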