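import Mathlib
import Cfsg.Agent.Lib.Helper27_EA2SUDefs
import Cfsg.Agent.Lib.Helper27_StSU_Asm
import Cfsg.Agent.Lib.Helper68_EA2

/-!
# S4625 market `ea2c_packages` (helper27 for helper68), package SU-CL with the conclusion of SU-STRUCT as a hypothesis

The clearing step with a long root element: `s = xL σ a b (-u_{a,b})`.
`(u s)_{a',b'} = u_{a',b'} + u_{a',a} t [b' = b] - u_{a',rev b} σ t [b' = rev a]`.
-/

set_option autoImplicit false
set_option linter.unusedSectionVars false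
set_option linter.unusedVariables false

namespace Cfsg.Agent.Lib.Helper63_EA2_SUCLaux

open Matrix Cfsg.Agent.Lib.Helper68_MatGrp Cfsg.Agent.Lib.Helper27_StSUDefs
  Cfsg.Agent.Lib.Helper27_StSUBasic Cfsg.Agent.Lib.Helper27_GenRow Cfsg.Agent.Lib.Helper27_EA2SUDefs
  Cfsg.Agent.Lib.Helper27_StSU_Asm
open scoped commutatorElement

variable {n : ℕ} {F : Type*} [Field F] (σ : F →+* F)

/-- the entries of `M * xLm σ i k t` -/
theorem mul_xLm_apply (M : Matrix (Fin n) (Fin n) F) (i k : Fin n) (t : F) (x y : Fin n) :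
    (M * xLm σ i k t) x y =
      M x y + (if y = k then M x i * t else 0) - (if y = Fin.rev i then M x (Fin.rev k) * σ t else 0) := by
  unfold xLm
  rw [Matrix.mul_sub, Matrix.mul_add, Matrix.mul_one, Matrix.sub_apply, Matrix.add_apply]
  congr 1
  · congr 1
    by_cases h : y = k
    · rw [if_pos h, h, Matrix.mul_single_apply_same]
    · rw [if_neg h, Matrix.mul_single_apply_of_ne _ _ _ _ _ h]
  · by_cases h : y = Fin.rev i
    · rw [if_pos h, h, Matrix.mul_single_apply_same]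
    · rw [if_neg h, Matrix.mul_single_apply_of_ne _ _ _ _ _ h]

/-- the entries of `xLm σ i k t` -/
theorem xLm_apply (i k : Fin n) (t : F) (x y : Fin n) :
    xLm σ i k t x y =
      (if x = y then 1 else 0) + (if y = k then (if x = i then 1 else 0) * t else 0)
        - (if y = Fin.rev i then (if x = Fin.rev k then 1 else 0) * σ t else 0) := by
  have h := mul_xLm_apply σ (1 : Matrix (Fin n) (Fin n) F) i k t x y
  rw [Matrix.one_mul] at h
  rw [h]
  simp only [Matrix.one_apply]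

/-- a positive long root element is unitriangular -/
theorem xL_mem_UUsu (hσ : ∀ x, σ (σ x) = x) (i k : Fin n) (hlt : i < k) (h2 : i ≠ Fin.rev k)
    (h3 : i ≠ Fin.rev i) (h4 : k ≠ Fin.rev k) (t : F) : xL σ i k t ∈ UUsu n σ := by
  rw [mem_UUsu, xL_val σ hσ i k (ne_of_lt hlt) h2 h3 h4]
  have hrev : Fin.rev k < Fin.rev i := Fin.rev_lt_rev.mpr hlt
  constructor
  · intro x y hyx
    rw [xLm_apply]
    have h1 : ¬ x = y := fun e => by rw [e] at hyx; exact lt_irrefl _ hyx
    have h5 : ¬ (y = k ∧ x = i) := by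
      rintro ⟨rfl, rfl⟩
      exact lt_irrefl _ (lt_trans hyx hlt)
    have h6 : ¬ (y = Fin.rev i ∧ x = Fin.rev k) := by
      rintro ⟨rfl, rfl⟩
      exact lt_irrefl _ (lt_trans hyx hrev)
    rw [if_neg h1]
    by_cases hy : y = k
    · have hx : ¬ x = i := fun e => h5 ⟨hy, e⟩
      rw [if_pos hy, if_neg hx]
      by_cases hy' : y = Fin.rev i
      · have hx' : ¬ x = Fin.rev k := fun e => h6 ⟨hy', e⟩
        rw [if_pos hy', if_neg hx']; ring
      · rw [if_neg hy']; ring
    · rw [if_neg hy]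
      by_cases hy' : y = Fin.rev i
      · have hx' : ¬ x = Fin.rev k := fun e => h6 ⟨hy', e⟩
        rw [if_pos hy', if_neg hx']; ring
      · rw [if_neg hy']; ring
  · intro x
    rw [xLm_apply, if_pos rfl]
    have h5 : ¬ (x = k ∧ x = i) := by
      rintro ⟨e1, e2⟩
      rw [e1] at e2
      exact (ne_of_lt hlt) e2.symm
    have h6 : ¬ (x = Fin.rev i ∧ x = Fin.rev k) := by
      rintro ⟨e1, e2⟩
      rw [e1] at e2
      exact (ne_of_lt hrev) e2.symm
    by_cases hy : x = k
    · have hx : ¬ x = i := fun e => h5 ⟨hy, e⟩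
      rw [if_pos hy, if_neg hx]
      by_cases hy' : x = Fin.rev i
      · have hx' : ¬ x = Fin.rev k := fun e => h6 ⟨hy', e⟩
        rw [if_pos hy', if_neg hx']; ring
      · rw [if_neg hy']; ring
    · rw [if_neg hy]
      by_cases hy' : x = Fin.rev i
      · have hx' : ¬ x = Fin.rev k := fun e => h6 ⟨hy', e⟩
        rw [if_pos hy', if_neg hx']; ring
      · rw [if_neg hy']; ring

/-- PKG SU-CL with the conclusion of `su_struct` (PKG SU-STRUCT) for `u, a, b` as the hypothesis `hst`. -/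
theorem clear_L_of (hσ : ∀ x, σ (σ x) = x) (u : ↥(SUJ n σ)) (hu : u ∈ UUsu n σ) (a b : Fin n) (hab : a < b)
    (hne : u.1.1 a b ≠ 0) (hcl : ClearedBefore (φ n σ) (ht n) u a b) (hb1 : b ≠ Fin.rev a)
    (hb2 : b ≠ Fin.rev b)
    (hst : b ≤ Fin.rev a ∧ (∀ l : Fin n, Fin.rev a < l → u.1.1 a l = 0) ∧
      ∀ i l : Fin n, i < a → u.1.1 i l = if i = l then 1 else 0) :
    ∃ s ∈ rootSU n σ, u * s ∈ UUsu n σ ∧ (u * s).1.1 a b = 0 ∧
      ClearedBefore (φ n σ) (ht n) (u * s) a b := by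
  obtain ⟨hle, hright, hrows⟩ := hst
  have ha_lt : a < Fin.rev a := lt_of_lt_of_le hab hle
  have h3 : a ≠ Fin.rev a := ne_of_lt ha_lt
  have h2 : a ≠ Fin.rev b := fun e => hb1 (by rw [e, Fin.rev_rev])
  have ha_le : a ≤ Fin.rev b := by
    have := Fin.rev_le_rev.mpr hle
    rwa [Fin.rev_rev] at this
  have hclr := (clearedBefore_iff σ u a b).mp hcl
  set t : F := -(u.1.1 a b) with ht
  have hsval : (xL σ a b t).1.1 = xLm σ a b t := xL_val σ hσ a b (ne_of_lt hab) h2 h3 hb2 t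
  have hsU : xL σ a b t ∈ UUsu n σ := xL_mem_UUsu σ hσ a b hab h2 h3 hb2 t
  have hentry : ∀ x y : Fin n, (u * xL σ a b t).1.1 x y =
      u.1.1 x y + (if y = b then u.1.1 x a * t else 0)
        - (if y = Fin.rev a then u.1.1 x (Fin.rev b) * σ t else 0) := by
    intro x y
    rw [mul_val, hsval, mul_xLm_apply]
  refine ⟨xL σ a b t, Or.inl ⟨a, b, t, hab, h2, h3, hb2, rfl⟩, (UUsu n σ).mul_mem hu hsU, ?_, ?_⟩
  · rw [hentry, if_pos rfl, if_neg hb1, ((mem_UUsu σ).mp hu).2 a, ht]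
    ring
  · rw [clearedBefore_iff]
    constructor
    · intro a' b' hlt' ha'
      rw [hentry, hrows a' b' ha', hrows a' a ha', hrows a' (Fin.rev b) ha',
        if_neg (ne_of_lt hlt'), if_neg (ne_of_lt ha'), if_neg (ne_of_lt (lt_of_lt_of_le ha' ha_le))]
      simp
    · intro b' hab' hb'b
      have hb'1 : b' ≠ b := ne_of_lt hb'b
      have hb'2 : b' ≠ Fin.rev a := ne_of_lt (lt_of_lt_of_le hb'b hle)
      rw [hentry, if_neg hb'1, if_neg hb'2, hclr.2 b' hab' hb'b]
      ring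

end Cfsg.Agent.Lib.Helper63_EA2_SUCLaux
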