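import Mathlib
import Cfsg.Agent.Lib.Helper27_EA2SUDefs
import Cfsg.Agent.Lib.Helper27_StSU_Asm
import Cfsg.Agent.Lib.Helper68_EA2
import Cfsg.Agent.Lib.Helper43_EA2_SUSTRUCT
import Cfsg.Agent.Lib.Helper63_EA2_SUCLaux

/-!
# S4625 market `ea2c_packages` (helper27 for helper68), package SU-CL (verbatim)

`clear_L`: `Helper63_EA2_SUCLaux.clear_L_of` fed with the landed `Helper43_EA2_SUSTRUCT.su_struct`.
-/

set_option autoImplicit false
set_option linter.unusedSectionVars false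
set_option linter.unusedVariables false

namespace Cfsg.Agent.Lib.Helper63_EA2_SUCL

open Matrix Cfsg.Agent.Lib.Helper68_MatGrp Cfsg.Agent.Lib.Helper27_StSUDefs
  Cfsg.Agent.Lib.Helper27_StSUBasic Cfsg.Agent.Lib.Helper27_GenRow Cfsg.Agent.Lib.Helper27_EA2SUDefs
  Cfsg.Agent.Lib.Helper27_StSU_Asm
open scoped commutatorElement

variable {n : ℕ} {F : Type*} [Field F] (σ : F →+* F)

/-- PKG SU-CL (M).  `s = xL σ a b (-u_{a,b})`. -/
theorem clear_L (hσ : ∀ x, σ (σ x) = x) (u : ↥(SUJ n σ)) (hu : u ∈ UUsu n σ) (a b : Fin n) (hab : a < b)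
    (hne : u.1.1 a b ≠ 0) (hcl : ClearedBefore (φ n σ) (ht n) u a b) (hb1 : b ≠ Fin.rev a)
    (hb2 : b ≠ Fin.rev b) :
    ∃ s ∈ rootSU n σ, u * s ∈ UUsu n σ ∧ (u * s).1.1 a b = 0 ∧
      ClearedBefore (φ n σ) (ht n) (u * s) a b :=
  Cfsg.Agent.Lib.Helper63_EA2_SUCLaux.clear_L_of σ hσ u hu a b hab hne hcl hb1 hb2
    (Cfsg.Agent.Lib.Helper43_EA2_SUSTRUCT.su_struct σ hσ u hu a b hab hne hcl)

end Cfsg.Agent.Lib.Helper63_EA2_SUCL
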