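import Mathlib
import Cfsg.Agent.Lib.Helper27_EA2SUDefs
import Cfsg.Agent.Lib.Helper27_StSU_Asm
import Cfsg.Agent.Lib.Helper68_EA2

/-!
# S4625, share SU (helper27), package SU-CQ: the clearing step with `xQ` (aux form)

`clear_Q_of` = `clear_Q` with the needed parts of `su_struct` and `row_rel` (package SU-STRUCT) as hypotheses.
-/

set_option autoImplicit false
set_option linter.unusedSectionVars false
set_option linter.unusedVariables false

namespace Cfsg.Agent.Lib.Helper69_EA2_SUCQaux

open Matrix Cfsg.Agent.Lib.Helper68_MatGrp Cfsg.Agent.Lib.Helper27_StSUDefs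
  Cfsg.Agent.Lib.Helper27_StSUBasic Cfsg.Agent.Lib.Helper27_GenRow Cfsg.Agent.Lib.Helper27_EA2SUDefs
  Cfsg.Agent.Lib.Helper27_StSU_Asm
open scoped commutatorElement

variable {n : ℕ} {F : Type*} [Field F] (σ : F →+* F)

/-- the entries of a product with the matrix of `xQ` -/
theorem mul_xQm_apply (M : Matrix (Fin n) (Fin n) F) (i c : Fin n) (α β : F) (x y : Fin n) :
    (M * xQm σ i c α β) x y = M x y + (if y = c then M x i * α else 0)
      - (if y = Fin.rev i then M x c * σ α else 0) + (if y = Fin.rev i then M x i * β else 0) := by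
  unfold xQm
  simp only [Matrix.mul_add, Matrix.mul_sub, Matrix.mul_one, Matrix.add_apply, Matrix.sub_apply]
  congr 1
  · congr 1
    · congr 1
      by_cases h : y = c
      · rw [if_pos h, h, Matrix.mul_single_apply_same]
      · rw [if_neg h, Matrix.mul_single_apply_of_ne _ _ _ _ _ h]
    · by_cases h : y = Fin.rev i
      · rw [if_pos h, h, Matrix.mul_single_apply_same]
      · rw [if_neg h, Matrix.mul_single_apply_of_ne _ _ _ _ _ h]
  · by_cases h : y = Fin.rev i
    · rw [if_pos h, h, Matrix.mul_single_apply_same]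
    · rw [if_neg h, Matrix.mul_single_apply_of_ne _ _ _ _ _ h]

/-- SU-CQ with the needed facts of SU-STRUCT as hypotheses -/
theorem clear_Q_of (hσ : ∀ x, σ (σ x) = x) (u : ↥(SUJ n σ)) (hu : u ∈ UUsu n σ) (a b : Fin n)
    (hab : a < b) (hne : u.1.1 a b ≠ 0) (hcl : ClearedBefore (φ n σ) (ht n) u a b)
    (hb1 : b ≠ Fin.rev a) (hb2 : b = Fin.rev b)
    (hst : b ≤ Fin.rev a ∧ (∀ l : Fin n, Fin.rev a < l → u.1.1 a l = 0))
    (hrow : ∑ x, u.1.1 a x * σ (u.1.1 a (Fin.rev x)) = if a = Fin.rev a then 1 else 0) :
    ∃ s ∈ rootSU n σ, u * s ∈ UUsu n σ ∧ (u * s).1.1 a b = 0 ∧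
      ClearedBefore (φ n σ) (ht n) (u * s) a b := by
  obtain ⟨hlow, hdiag⟩ := (mem_UUsu σ).mp hu
  obtain ⟨hcl1, hcl2⟩ := (clearedBefore_iff σ u a b).mp hcl
  obtain ⟨hbra, hbig⟩ := hst
  -- arithmetic of the indices
  have hva : (Fin.rev a).val = n - (a.val + 1) := Fin.val_rev a
  have hvb : (Fin.rev b).val = n - (b.val + 1) := Fin.val_rev b
  have hablt : a.val < b.val := hab
  have hbval : b.val = n - (b.val + 1) := by
    have := congrArg Fin.val hb2
    rw [hvb] at this
    exact this
  have hbn := b.2
  have han := a.2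
  have hbra' : b.val ≤ (Fin.rev a).val := hbra
  have hbra_lt : b < Fin.rev a := lt_of_le_of_ne hbra hb1
  have hbra_lt' : b.val < (Fin.rev a).val := hbra_lt
  have harev : a < Fin.rev a := lt_trans hab hbra_lt
  have hane : a ≠ Fin.rev a := ne_of_lt harev
  have hanb : a ≠ b := ne_of_lt hab
  -- the parameters
  obtain ⟨α, hα⟩ : ∃ α : F, α = -u.1.1 a b := ⟨_, rfl⟩
  obtain ⟨β, hβ⟩ : ∃ β : F, β = u.1.1 a (Fin.rev a) := ⟨_, rfl⟩
  -- the condition on the parameters
  have hcond : β + σ β + α * σ α = 0 := by
    rw [if_neg hane] at hrow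
    have hsub : ∑ x, u.1.1 a x * σ (u.1.1 a (Fin.rev x)) =
        ∑ x ∈ ({a, b, Fin.rev a} : Finset (Fin n)), u.1.1 a x * σ (u.1.1 a (Fin.rev x)) := by
      symm
      apply Finset.sum_subset (Finset.subset_univ _)
      intro x _ hx
      simp only [Finset.mem_insert, Finset.mem_singleton, not_or] at hx
      obtain ⟨hx1, hx2, hx3⟩ := hx
      have hvx : (Fin.rev x).val = n - (x.val + 1) := Fin.val_rev x
      have hxn := x.2
      have hx1' : x.val ≠ a.val := fun h => hx1 (Fin.ext h)
      have hx2' : x.val ≠ b.val := fun h => hx2 (Fin.ext h)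
      have hx3' : x.val ≠ (Fin.rev a).val := fun h => hx3 (Fin.ext h)
      by_cases h1 : x < a
      · rw [hlow a x h1, zero_mul]
      by_cases h2 : x < b
      · have : a < x := by
          rw [Fin.lt_def] at h1 h2 ⊢
          omega
        rw [hcl2 x this h2, zero_mul]
      by_cases h3 : x < Fin.rev a
      · have e1 : a < Fin.rev x := by
          rw [Fin.lt_def] at h1 h2 h3 ⊢
          omega
        have e2 : Fin.rev x < b := by
          rw [Fin.lt_def] at h1 h2 h3 ⊢
          omega
        rw [hcl2 _ e1 e2, map_zero, mul_zero]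
      · have : Fin.rev a < x := by
          rw [Fin.lt_def] at h1 h2 h3 ⊢
          omega
        rw [hbig x this, zero_mul]
    have hne1 : a ∉ ({b, Fin.rev a} : Finset (Fin n)) := by
      simp only [Finset.mem_insert, Finset.mem_singleton, not_or]
      exact ⟨hanb, hane⟩
    rw [hsub, Finset.sum_insert hne1, Finset.sum_pair hb1, Fin.rev_rev, ← hb2, hdiag a, one_mul,
      ← hβ, map_one, mul_one] at hrow
    have hab' : u.1.1 a b = -α := by rw [hα, neg_neg]
    rw [hab'] at hrow
    rw [map_neg] at hrow
    linear_combination hrow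
  have hval : (xQ σ a b α β).1.1 = xQm σ a b α β := xQ_val σ hσ a b hb2 hanb α β hcond
  refine ⟨xQ σ a b α β, Or.inr (Or.inr ⟨a, b, α, β, hb2, hab, hcond, rfl⟩), ?_, ?_, ?_⟩
  · -- unitriangular
    rw [mem_UUsu]
    refine ⟨?_, ?_⟩
    · intro a' b' hlt
      rw [mul_val, hval, mul_xQm_apply, hlow a' b' hlt]
      have hlt' : b'.val < a'.val := hlt
      have t1 : (if b' = b then u.1.1 a' a * α else 0) = 0 := by
        split_ifs with h
        · have : a < a' := by
            rw [Fin.lt_def]
            rw [h] at hlt'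
            omega
          rw [hlow a' a this, zero_mul]
        · rfl
      have t2 : (if b' = Fin.rev a then u.1.1 a' b * σ α else 0) = 0 := by
        split_ifs with h
        · have : b < a' := by
            rw [Fin.lt_def]
            rw [h] at hlt'
            omega
          rw [hlow a' b this, zero_mul]
        · rfl
      have t3 : (if b' = Fin.rev a then u.1.1 a' a * β else 0) = 0 := by
        split_ifs with h
        · have : a < a' := by
            rw [Fin.lt_def]
            rw [h] at hlt'
            omega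
          rw [hlow a' a this, zero_mul]
        · rfl
      rw [t1, t2, t3]
      ring
    · intro a'
      rw [mul_val, hval, mul_xQm_apply, hdiag a']
      have t1 : (if a' = b then u.1.1 a' a * α else 0) = 0 := by
        split_ifs with h
        · rw [h, hlow b a hab, zero_mul]
        · rfl
      have t2 : (if a' = Fin.rev a then u.1.1 a' b * σ α else 0) = 0 := by
        split_ifs with h
        · rw [h, hlow (Fin.rev a) b hbra_lt, zero_mul]
        · rfl
      have t3 : (if a' = Fin.rev a then u.1.1 a' a * β else 0) = 0 := by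
        split_ifs with h
        · rw [h, hlow (Fin.rev a) a harev, zero_mul]
        · rfl
      rw [t1, t2, t3]
      ring
  · -- the entry `(a, b)`
    rw [mul_val, hval, mul_xQm_apply, if_pos rfl, if_neg hb1, if_neg hb1, hdiag a, hα]
    ring
  · -- the earlier entries
    rw [clearedBefore_iff]
    refine ⟨?_, ?_⟩
    · intro a' b' h1 h2
      rw [mul_val, hval, mul_xQm_apply, hcl1 a' b' h1 h2, hcl1 a' a h2 h2,
        hcl1 a' b (lt_trans h2 hab) h2]
      simp
    · intro b' h1 h2
      have h3 : b' ≠ b := ne_of_lt h2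
      have h4 : b' ≠ Fin.rev a := ne_of_lt (lt_of_lt_of_le h2 hbra)
      rw [mul_val, hval, mul_xQm_apply, hcl2 b' h1 h2, if_neg h3, if_neg h4, if_neg h4]
      ring

end Cfsg.Agent.Lib.Helper69_EA2_SUCQaux
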