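import Mathlib
import Cfsg.Agent.Lib.Helper27_EA2SUDefs
import Cfsg.Agent.Lib.Helper27_StSU_Asm
import Cfsg.Agent.Lib.Helper68_EA2
import Cfsg.Agent.Lib.Helper43_EA2_SUSTRUCT
import Cfsg.Agent.Lib.Helper69_EA2_SUCQaux

/-!
# S4625, share SU (helper27), package SU-CQ: `clear_Q` verbatim

The clearing step with `xQ`: `clear_Q_of` (aux file) fed with `su_struct` and `row_rel` of package SU-STRUCT.
-/

set_option autoImplicit false
set_option linter.unusedSectionVars false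
set_option linter.unusedVariables false

namespace Cfsg.Agent.Lib.Helper69_EA2_SUCQ

open Matrix Cfsg.Agent.Lib.Helper68_MatGrp Cfsg.Agent.Lib.Helper27_StSUDefs
  Cfsg.Agent.Lib.Helper27_StSUBasic Cfsg.Agent.Lib.Helper27_GenRow Cfsg.Agent.Lib.Helper27_EA2SUDefs
  Cfsg.Agent.Lib.Helper27_StSU_Asm
open scoped commutatorElement

variable {n : ℕ} {F : Type*} [Field F] (σ : F →+* F)

/-- PKG SU-CQ: the clearing step at a self-dual column `b = rev b`, `b ≠ rev a`. -/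
theorem clear_Q (hσ : ∀ x, σ (σ x) = x) (u : ↥(SUJ n σ)) (hu : u ∈ UUsu n σ) (a b : Fin n) (hab : a < b)
    (hne : u.1.1 a b ≠ 0) (hcl : ClearedBefore (φ n σ) (ht n) u a b) (hb1 : b ≠ Fin.rev a)
    (hb2 : b = Fin.rev b) :
    ∃ s ∈ rootSU n σ, u * s ∈ UUsu n σ ∧ (u * s).1.1 a b = 0 ∧
      ClearedBefore (φ n σ) (ht n) (u * s) a b := by
  have hs := Cfsg.Agent.Lib.Helper43_EA2_SUSTRUCT.su_struct σ hσ u hu a b hab hne hcl
  exact Cfsg.Agent.Lib.Helper69_EA2_SUCQaux.clear_Q_of σ hσ u hu a b hab hne hcl hb1 hb2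
    ⟨hs.1, hs.2.1⟩ (Cfsg.Agent.Lib.Helper43_EA2_SUSTRUCT.row_rel σ hσ u a a)

end Cfsg.Agent.Lib.Helper69_EA2_SUCQ
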