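/-
S4625 (10u), share SU (helper27 for architect helper68), package SU-NE: `x ↦ x ^ q` is not the identity of a field with
`q ^ 2` elements (`X ^ q - X` has at most `q < q ^ 2` roots).
-/
import Mathlib
import Cfsg.Agent.Lib.Helper27_EA2SUDefs
import Cfsg.Agent.Lib.Helper27_StSU_Asm
import Cfsg.Agent.Lib.Helper68_EA2

set_option autoImplicit false
set_option linter.unusedSectionVars false
set_option linter.unusedVariables false

namespace Cfsg.Agent.Lib.Helper79_EA2_SUNE

open Matrix Cfsg.Agent.Lib.Helper68_MatGrp Cfsg.Agent.Lib.Helper27_StSUDefs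
  Cfsg.Agent.Lib.Helper27_StSUBasic Cfsg.Agent.Lib.Helper27_GenRow Cfsg.Agent.Lib.Helper27_EA2SUDefs
  Cfsg.Agent.Lib.Helper27_StSU_Asm
open scoped commutatorElement

variable {n : ℕ} {F : Type*} [Field F] (σ : F →+* F)

/-- PKG SU-NE (S). -/
theorem powQ_ne_id [Fintype F] {q : ℕ} (hF : Fintype.card F = q ^ 2) :
    ∃ e : F, Cfsg.Agent.Lib.Helper5_SUOrder.powQ hF e ≠ e := by
  classical
  have hq : 2 ≤ q := Cfsg.Agent.Lib.Helper13_Herm.two_le_q hF
  by_contra hcon
  push Not at hcon
  have hall : ∀ e : F, e ^ q = e := fun e => hcon e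
  have hne : (Polynomial.X ^ q - Polynomial.X : Polynomial F) ≠ 0 :=
    FiniteField.X_pow_card_sub_X_ne_zero F (by omega)
  have hdeg : (Polynomial.X ^ q - Polynomial.X : Polynomial F).natDegree = q :=
    FiniteField.X_pow_card_sub_X_natDegree_eq F (by omega)
  have hsub : (Finset.univ : Finset F) ⊆ (Polynomial.X ^ q - Polynomial.X : Polynomial F).roots.toFinset := by
    intro e _
    rw [Multiset.mem_toFinset, Polynomial.mem_roots hne, Polynomial.IsRoot.def]
    simp only [Polynomial.eval_sub, Polynomial.eval_pow, Polynomial.eval_X]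
    rw [hall e, sub_self]
  have h1 := Finset.card_le_card hsub
  rw [Finset.card_univ, hF] at h1
  have h2 := Multiset.toFinset_card_le (Polynomial.X ^ q - Polynomial.X : Polynomial F).roots
  have h3 := Polynomial.card_roots' (Polynomial.X ^ q - Polynomial.X : Polynomial F)
  rw [hdeg] at h3
  have h4 : q ^ 2 ≤ q := le_trans h1 (le_trans h2 h3)
  nlinarith

end Cfsg.Agent.Lib.Helper79_EA2_SUNE
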