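import Mathlib
import Cfsg.Agent.Lib.Helper27_EA2SUDefs
import Cfsg.Agent.Lib.Helper27_StSU_Asm
import Cfsg.Agent.Lib.Helper68_EA2

/-!
Package EA2 SU-SQ (helper27 for architect helper68, S4625), core: squares of the positive root elements of `SUJ n σ` in
characteristic 2 are commutators of unitriangular elements, given that the root elements are unitriangular (SU-MEM).
-/

set_option autoImplicit false
set_option linter.unusedSectionVars false
set_option linter.unusedVariables false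

namespace Cfsg.Agent.Lib.Helper93_EA2_SUSQaux

open Matrix Cfsg.Agent.Lib.Helper68_MatGrp Cfsg.Agent.Lib.Helper27_StSUDefs
  Cfsg.Agent.Lib.Helper27_StSUBasic Cfsg.Agent.Lib.Helper27_GenRow Cfsg.Agent.Lib.Helper27_EA2SUDefs
  Cfsg.Agent.Lib.Helper27_StSU_Asm
open scoped commutatorElement

variable {n : ℕ} {F : Type*} [Field F] (σ : F →+* F)

/-- the parameter condition of `xQ` is preserved by the multiplication rule -/
theorem xQ_cond_mul (hσ : ∀ x, σ (σ x) = x) {a b a' b' : F} (hab : b + σ b + a * σ a = 0)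
    (hab' : b' + σ b' + a' * σ a' = 0) :
    (b + b' - a * σ a') + σ (b + b' - a * σ a') + (a + a') * σ (a + a') = 0 := by
  simp only [map_add, map_sub, map_mul, hσ]
  linear_combination hab + hab'

/-- the square of `xQ i c a b` is the commutator with a suitable `xQ i c a' b'` -/
theorem xQ_sq_eq_comm [CharP F 2] (hσ : ∀ x, σ (σ x) = x) (hne : ∃ e : F, σ e ≠ e) (i c : Fin n)
    (hc : c = Fin.rev c) (hic : i ≠ c) (a b : F) (hab : b + σ b + a * σ a = 0) :
    ∃ a' b' : F, b' + σ b' + a' * σ a' = 0 ∧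
      (xQ σ i c a b) ^ 2 = ⁅xQ σ i c a b, xQ σ i c a' b'⁆ := by
  obtain ⟨e, he⟩ := hne
  have h2 : (2 : F) = 0 := CharTwo.two_eq_zero
  have hden : e + σ e ≠ 0 := by
    intro h
    apply he
    have h' : σ e = -e := by linear_combination h
    rw [h', CharTwo.neg_eq]
  set c₀ := e / (e + σ e) with hc₀
  have hc1 : c₀ + σ c₀ = 1 := by
    have hden' : σ e + e ≠ 0 := by rw [add_comm]; exact hden
    rw [hc₀, map_div₀, map_add, hσ]
    field_simp
    ring
  set a' := a * c₀ with ha'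
  set b' := a' * σ a' * c₀ with hb'
  have hab' : b' + σ b' + a' * σ a' = 0 := by
    rw [hb']
    simp only [map_mul, hσ]
    linear_combination (a' * σ a') * hc1 + (a' * σ a') * h2
  refine ⟨a', b', hab', ?_⟩
  set x := xQ σ i c a b with hx
  set y := xQ σ i c a' b' with hy
  have hpar : ∀ p q p' q' : F, p = p' → q = q' → xQ σ i c p q = xQ σ i c p' q' := by
    rintro _ _ _ _ rfl rfl; rfl
  have hxy : x * y = xQ σ i c (a + a') (b + b' - a * σ a') := xQ_mul σ hσ i c hc hic a b a' b' hab hab'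
  have hyx : y * x = xQ σ i c (a' + a) (b' + b - a' * σ a) := xQ_mul σ hσ i c hc hic a' b' a b hab' hab
  have hxx : x * x = xQ σ i c (a + a) (b + b - a * σ a) := xQ_mul σ hσ i c hc hic a b a b hab hab
  have hkey : x * y = x * x * (y * x) := by
    rw [hxy, hyx, hxx, xQ_mul σ hσ i c hc hic _ _ _ _ (xQ_cond_mul σ hσ hab hab)
      (xQ_cond_mul σ hσ hab' hab)]
    apply hpar
    · linear_combination (-a) * h2
    · simp only [map_add, map_mul, ha']
      linear_combination (a * σ a) * hc1 + (-b + 2 * a * σ a) * h2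
  rw [pow_two, commutatorElement_def, hkey]
  group

/-- SU-SQ with SU-MEM as a hypothesis. -/
theorem rootSU_sq_of [CharP F 2] (hσ : ∀ x, σ (σ x) = x) (hne : ∃ e : F, σ e ≠ e)
    (hsub : rootSU n σ ⊆ (UUsu n σ : Set ↥(SUJ n σ))) (s : ↥(SUJ n σ))
    (hs : s ∈ rootSU n σ) : s ^ 2 ∈ ⁅UUsu n σ, UUsu n σ⁆ := by
  have hs' := hs
  rcases hs with ⟨i, k, t, hik, h2, h3, h4, rfl⟩ | ⟨i, t, hi, ht, rfl⟩ |
    ⟨i, c, a, b, hc, hic, hab, rfl⟩
  · rw [pow_two, xL_mul σ hσ i k hik.ne h2 h3 h4, CharTwo.add_self_eq_zero, xL_zero]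
    exact one_mem _
  · rw [pow_two, xX_mul σ i hi.ne t t ht ht, CharTwo.add_self_eq_zero, xX_zero]
    exact one_mem _
  · obtain ⟨a', b', hab', hsq⟩ := xQ_sq_eq_comm σ hσ hne i c hc hic.ne a b hab
    rw [hsq]
    refine Subgroup.commutator_mem_commutator (hsub hs') (hsub ?_)
    exact Or.inr (Or.inr ⟨i, c, a', b', hc, hic, hab', rfl⟩)

end Cfsg.Agent.Lib.Helper93_EA2_SUSQaux
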