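/-
Helper27_EA2_SU: the PSU share of S4625 (architect helper68): `EA2 (PSU n F q)` in characteristic 2.
`ea2_of_gen` with `U = UUsu n σ` and `S = rootSU n σ`; generation by the generic row reduction `Helper27_GenRow.UU_le_closure`
and the clearing lemmas of the market ea2c_packages (helper43 SU-STRUCT, helper48 SU-MEM, helper63 SU-CL, helper69 SU-CQ,
helper57 SU-CX, helper93 SU-SQ, helper79 SU-NE); the Sylow part from the Steinberg assembly S2546.  helper27.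
-/
import Mathlib
import Cfsg.Agent.Lib.Helper27_EA2SUDefs
import Cfsg.Agent.Lib.Helper27_StSU_Asm
import Cfsg.Agent.Lib.Helper68_EA2
import Cfsg.Agent.Lib.Helper43_EA2_SUSTRUCT
import Cfsg.Agent.Lib.Helper48_EA2_SUMEM
import Cfsg.Agent.Lib.Helper63_EA2_SUCL
import Cfsg.Agent.Lib.Helper69_EA2_SUCQ
import Cfsg.Agent.Lib.Helper57_EA2_SUCX
import Cfsg.Agent.Lib.Helper93_EA2_SUSQaux
import Cfsg.Agent.Lib.Helper79_EA2_SUNE

set_option autoImplicit false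
set_option linter.unusedSectionVars false
set_option linter.unusedVariables false

namespace Cfsg.Agent.Lib.Helper27_EA2SU

open Matrix Cfsg.Agent.Lib.Helper68_MatGrp Cfsg.Agent.Lib.Helper27_StSUDefs
  Cfsg.Agent.Lib.Helper27_StSUBasic Cfsg.Agent.Lib.Helper27_GenRow Cfsg.Agent.Lib.Helper27_EA2SUDefs
  Cfsg.Agent.Lib.Helper27_StSU_Asm Cfsg.Agent.Lib.Helper68_EA2
open scoped commutatorElement

/-- generic: a subgroup of order `p ^ k` in a group with root-subgroup data whose Borel subgroup has order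
`|T| p ^ k`, `p ∤ |T|`, has index prime to `p` -/
theorem not_dvd_index_of_RDat {G : Type*} [Group G] [Finite G] {r : ℕ}
    (D : Cfsg.Agent.Lib.Helper68_StAbs.RDat G r) (p : ℕ) [Fact p.Prime] (k : ℕ)
    (hBT : Nat.card D.B = Nat.card ↥(D.B ⊓ D.N) * p ^ k) (hT : ¬ p ∣ Nat.card ↥(D.B ⊓ D.N))
    (U : Subgroup G) (hU : Nat.card U = p ^ k) : ¬ p ∣ U.index := by
  obtain ⟨r', hr, hpr⟩ := Cfsg.Agent.Lib.Helper27_StSU_GENERIC.hG_of_hBT D p k hBT hT
  have h1 := U.card_mul_index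
  rw [hU, hr] at h1
  have hp : 0 < p ^ k := pow_pos (Nat.Prime.pos Fact.out) k
  have : U.index = r' := Nat.eq_of_mul_eq_mul_left hp h1
  rw [this]
  exact hpr

variable {n : ℕ} {F : Type*} [Field F] (σ : F →+* F)

/-- the unitriangular group is generated by the positive root elements -/
theorem UUsu_le_closure (hσ : ∀ x, σ (σ x) = x) : UUsu n σ ≤ Subgroup.closure (rootSU n σ) := by
  apply UU_le_closure (φ n σ) (ht n) (φ_injective σ) (ht_injective n) (rootSU n σ)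
  intro u hu a b hab hne hcl
  have hab' : a < b := hab
  have hne' : u.1.1 a b ≠ 0 := hne
  by_cases hb1 : b = Fin.rev a
  · exact Cfsg.Agent.Lib.Helper57_EA2_SUCX.clear_X σ hσ u hu a b hab' hne' hcl hb1
  · by_cases hb2 : b = Fin.rev b
    · exact Cfsg.Agent.Lib.Helper69_EA2_SUCQ.clear_Q σ hσ u hu a b hab' hne' hcl hb1 hb2
    · exact Cfsg.Agent.Lib.Helper63_EA2_SUCL.clear_L σ hσ u hu a b hab' hne' hcl hb1 hb2

theorem closure_rootSU (hσ : ∀ x, σ (σ x) = x) : Subgroup.closure (rootSU n σ) = UUsu n σ :=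
  le_antisymm ((Subgroup.closure_le _).mpr (Cfsg.Agent.Lib.Helper48_EA2_SUMEM.rootSU_subset σ hσ)) (UUsu_le_closure σ hσ)

theorem UUsu_eq_Usu : UUsu n σ = Cfsg.Agent.Lib.Helper5_StSU_TU.Usu n σ := by
  ext g
  exact Iff.rfl

/-- `UUsu` is a `p`-group of index prime to `p` -/
theorem sylow_UUsu [Fintype F] (p : ℕ) [Fact p.Prime] [CharP F p] (hσ : ∀ x, σ (σ x) = x) (ε : F)
    (hε0 : ε ≠ 0) (hε : σ ε = -ε) : IsPGroup p (UUsu n σ) ∧ ¬ p ∣ (UUsu n σ).index := by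
  classical
  have hfin : Finite ↥(SUJ n σ) := by
    have : Finite (Matrix.SpecialLinearGroup (Fin n) F) := Subtype.finite
    exact Subtype.finite
  have hP : IsPGroup p (UUsu n σ) := by
    rw [UUsu_eq_Usu]
    exact Cfsg.Agent.Lib.Helper5_StSU_TU.isPGroup_Usu σ p
  refine ⟨hP, ?_⟩
  obtain ⟨k, hk⟩ := hP.exists_card_eq
  have hB : Nat.card (Bsu n σ) = Nat.card (Tsu n σ) * Nat.card (UUsu n σ) := by
    rw [UUsu_eq_Usu]
    exact Cfsg.Agent.Lib.Helper5_StSU_TU.card_Bsu_eq σ hσ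
  have hBT : Nat.card (suRDat (n := n) σ hσ ε hε0 hε).B =
      Nat.card ↥((suRDat (n := n) σ hσ ε hε0 hε).B ⊓ (suRDat (n := n) σ hσ ε hε0 hε).N) * p ^ k := by
    show Nat.card (Bsu n σ) = Nat.card ↥(Bsu n σ ⊓ Nsu n σ ε) * p ^ k
    rw [Bsu_inf_Nsu σ hσ ε hε0 hε, hB, hk]
  have hT : ¬ p ∣ Nat.card ↥((suRDat (n := n) σ hσ ε hε0 hε).B ⊓ (suRDat (n := n) σ hσ ε hε0 hε).N) := by
    show ¬ p ∣ Nat.card ↥(Bsu n σ ⊓ Nsu n σ ε)
    rw [Bsu_inf_Nsu σ hσ ε hε0 hε]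
    exact card_Tsu_coprime σ p
  exact not_dvd_index_of_RDat (suRDat (n := n) σ hσ ε hε0 hε) p k hBT hT (UUsu n σ) hk

/-- `EA2` for `SUJ n σ` in characteristic 2 -/
theorem ea2_suj [Fintype F] [CharP F 2] (hσ : ∀ x, σ (σ x) = x) (hne : ∃ e : F, σ e ≠ e) (ε : F)
    (hε0 : ε ≠ 0) (hε : σ ε = -ε) : EA2 ↥(SUJ n σ) := by
  have hfin : Finite ↥(SUJ n σ) := by
    have : Finite (Matrix.SpecialLinearGroup (Fin n) F) := Subtype.finite
    exact Subtype.finite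
  have : Fact (Nat.Prime 2) := ⟨Nat.prime_two⟩
  obtain ⟨hP, hidx⟩ := sylow_UUsu (n := n) σ 2 hσ ε hε0 hε
  exact ea2_of_gen (UUsu n σ) hP hidx (rootSU n σ) (closure_rootSU σ hσ)
    (fun s hs => Cfsg.Agent.Lib.Helper93_EA2_SUSQaux.rootSU_sq_of σ hσ hne
      (Cfsg.Agent.Lib.Helper48_EA2_SUMEM.rootSU_subset σ hσ) s hs)

/-- PSU -/
theorem ea2_psu {F : Type*} [Field F] [Fintype F] [CharP F 2] (n q : ℕ) (hF : Fintype.card F = q ^ 2)
    (hn : 3 ≤ n) : EA2 (Cfsg.PSU n F q) := by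
  obtain ⟨ε, hε0, hε⟩ := exists_eps hF
  obtain ⟨e⟩ := exists_iso (n := n) hF
  have hfin : Finite ↥(SUJ n (Cfsg.Agent.Lib.Helper5_SUOrder.powQ hF)) := by
    have : Finite (Matrix.SpecialLinearGroup (Fin n) F) := Subtype.finite
    exact Subtype.finite
  have h1 : EA2 ↥(SUJ n (Cfsg.Agent.Lib.Helper5_SUOrder.powQ hF)) :=
    ea2_suj (Cfsg.Agent.Lib.Helper5_SUOrder.powQ hF) (Cfsg.Agent.Lib.Helper81_SUSiegel.powQ_powQ hF)
      (Cfsg.Agent.Lib.Helper79_EA2_SUNE.powQ_ne_id hF) ε hε0 hε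
  have h2 : EA2 ↥(Cfsg.SU n F q) := ea2_of_surjective e.toMonoidHom e.surjective h1
  have hfin2 : Finite ↥(Cfsg.SU n F q) := Finite.of_equiv _ e.toEquiv
  exact ea2_of_surjective (QuotientGroup.mk' (Subgroup.center ↥(Cfsg.SU n F q)))
    (QuotientGroup.mk'_surjective _) h2

end Cfsg.Agent.Lib.Helper27_EA2SU
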