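import Mathlib
import Cfsg.Agent.Lib.Helper26_M24Act
import Cfsg.Agent.Lib.Helper26_M24Orbit
import Cfsg.Agent.Lib.Helper26_M24Trans

/-!
Two-set stabilisers in `M24` on bitmasks: generator checks, singletons, and transport lemmas.
-/

set_option autoImplicit false
open Cfsg
open scoped Pointwise
open Cfsg.Agent.Lib.Helper26_Golay

namespace Cfsg.Agent.Lib.Helper91_M24Stab

theorem enc_singleton (p : GolayPt) : enc ({p} : Finset GolayPt) = 2 ^ idx p := by
  simp [enc]

theorem enc_singleton_pt (i : ℕ) (hi : i < 24) : enc ({pt i} : Finset GolayPt) = 2 ^ i := by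
  rw [enc_singleton, idx_pt i hi]

theorem smul_singleton_eq {g : Equiv.Perm GolayPt} {p q : GolayPt}
    (h : g • ({p} : Finset GolayPt) = {q}) : g p = q := by
  rw [Finset.smul_finset_singleton, Finset.singleton_inj] at h
  exact h

theorem not_mem_iff_bit (s : Finset GolayPt) (p : GolayPt) :
    p ∉ s ↔ (enc s >>> idx p) &&& 1 = 0 := by
  rw [bit_eq_ite, ← testBit_enc_idx s p]
  by_cases h : (enc s).testBit (idx p) = true <;> simp [h]

/-- The stabiliser in `M24` of two sets of points. -/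
def stab2 (s₀ t₀ : Finset GolayPt) : Subgroup (Equiv.Perm GolayPt) :=
  (M24 ⊓ MulAction.stabilizer (Equiv.Perm GolayPt) s₀) ⊓ MulAction.stabilizer (Equiv.Perm GolayPt) t₀

theorem mem_stab2 {s₀ t₀ : Finset GolayPt} {g : Equiv.Perm GolayPt} :
    g ∈ stab2 s₀ t₀ ↔ g ∈ M24 ∧ g • s₀ = s₀ ∧ g • t₀ = t₀ := by
  unfold stab2
  constructor
  · intro h
    obtain ⟨h1, h2⟩ := Subgroup.mem_inf.mp h
    obtain ⟨h3, h4⟩ := Subgroup.mem_inf.mp h1
    exact ⟨h3, MulAction.mem_stabilizer_iff.mp h4, MulAction.mem_stabilizer_iff.mp h2⟩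
  · rintro ⟨h1, h2, h3⟩
    exact Subgroup.mem_inf.mpr ⟨Subgroup.mem_inf.mpr ⟨h1, MulAction.mem_stabilizer_iff.mpr h2⟩,
      MulAction.mem_stabilizer_iff.mpr h3⟩

/-- Generators of the stabiliser in `M24` of two sets of points from a Boolean check on masks. -/
theorem gensIn_stab2 (s₀ t₀ : Finset GolayPt) (a b : ℕ) (ha : enc s₀ = a) (hb : enc t₀ = b)
    (TT r : ℕ)
    (h : allFold (fun k => tblInM24 (get120 TT k) &&
      (permMask (get120 TT k) a == a) && (permMask (get120 TT k) b == b)) r = true) :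
    GensIn (stab2 s₀ t₀) TT r := by
  rw [allFold_eq_true] at h
  intro k hk
  have h1 := h k hk
  rw [Bool.and_eq_true, Bool.and_eq_true, beq_iff_eq, beq_iff_eq] at h1
  obtain ⟨σ, hσ, hT⟩ := exists_of_tblInM24 h1.1.1
  refine ⟨σ, mem_stab2.mpr ⟨hσ, ?_, ?_⟩, hT⟩
  · apply enc_injective
    rw [enc_smul hT, ha, h1.1.2]
  · apply enc_injective
    rw [enc_smul hT, hb, h1.2]

/-- Generators of the stabiliser in `M24` of one set of points from a Boolean check on masks. -/
theorem gensIn_stab1 (s₀ : Finset GolayPt) (a : ℕ) (ha : enc s₀ = a) (TT r : ℕ)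
    (h : allFold (fun k => tblInM24 (get120 TT k) &&
      (permMask (get120 TT k) a == a)) r = true) :
    GensIn (M24 ⊓ MulAction.stabilizer (Equiv.Perm GolayPt) s₀) TT r := by
  apply gensIn_stab
  rw [ha]
  exact h

theorem card_inter_smul (g : Equiv.Perm GolayPt) (s t : Finset GolayPt) :
    (g • s ∩ g • t).card = (s ∩ t).card := by
  rw [← Finset.smul_finset_inter, Finset.card_smul_finset]

theorem mem_smul_iff (g : Equiv.Perm GolayPt) (p : GolayPt) (s : Finset GolayPt) :
    g p ∈ g • s ↔ p ∈ s := by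
  rw [← Equiv.Perm.smul_def, Finset.smul_mem_smul_finset_iff]

end Cfsg.Agent.Lib.Helper91_M24Stab
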