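import Mathlib
import Cfsg.Agent.Lib.Helper91_M24Stab

/-!
Three-set stabilisers in `M24` on bitmasks, and lookup lemmas for orbit forests on points and octads.
-/

set_option autoImplicit false
open Cfsg
open scoped Pointwise
open Cfsg.Agent.Lib.Helper26_Golay
open Cfsg.Agent.Lib.Helper91_M24Stab

namespace Cfsg.Agent.Lib.Helper91_M24Stab3

/-- The stabiliser in `M24` of three sets of points. -/
def stab3 (s₀ t₀ u₀ : Finset GolayPt) : Subgroup (Equiv.Perm GolayPt) :=
  stab2 s₀ t₀ ⊓ MulAction.stabilizer (Equiv.Perm GolayPt) u₀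

theorem mem_stab3 {s₀ t₀ u₀ : Finset GolayPt} {g : Equiv.Perm GolayPt} :
    g ∈ stab3 s₀ t₀ u₀ ↔ g ∈ M24 ∧ g • s₀ = s₀ ∧ g • t₀ = t₀ ∧ g • u₀ = u₀ := by
  unfold stab3
  constructor
  · intro h
    obtain ⟨h1, h2⟩ := Subgroup.mem_inf.mp h
    obtain ⟨h3, h4, h5⟩ := mem_stab2.mp h1
    exact ⟨h3, h4, h5, MulAction.mem_stabilizer_iff.mp h2⟩
  · rintro ⟨h1, h2, h3, h4⟩
    exact Subgroup.mem_inf.mpr ⟨mem_stab2.mpr ⟨h1, h2, h3⟩, MulAction.mem_stabilizer_iff.mpr h4⟩

/-- Generators of the stabiliser in `M24` of three sets of points from a Boolean check on masks. -/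
theorem gensIn_stab3 (s₀ t₀ u₀ : Finset GolayPt) (a b c : ℕ) (ha : enc s₀ = a) (hb : enc t₀ = b)
    (hc : enc u₀ = c) (TT r : ℕ)
    (h : allFold (fun k => tblInM24 (get120 TT k) &&
      (permMask (get120 TT k) a == a) && (permMask (get120 TT k) b == b) &&
      (permMask (get120 TT k) c == c)) r = true) :
    GensIn (stab3 s₀ t₀ u₀) TT r := by
  rw [allFold_eq_true] at h
  intro k hk
  have h1 := h k hk
  rw [Bool.and_eq_true, Bool.and_eq_true, Bool.and_eq_true, beq_iff_eq, beq_iff_eq, beq_iff_eq] at h1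
  obtain ⟨σ, hσ, hT⟩ := exists_of_tblInM24 h1.1.1.1
  refine ⟨σ, mem_stab3.mpr ⟨hσ, ?_, ?_, ?_⟩, hT⟩
  · apply enc_injective
    rw [enc_smul hT, ha, h1.1.1.2]
  · apply enc_injective
    rw [enc_smul hT, hb, h1.1.2]
  · apply enc_injective
    rw [enc_smul hT, hc, h1.2]

theorem mem_iff_bit (s : Finset GolayPt) (p : GolayPt) :
    p ∈ s ↔ (enc s >>> idx p) &&& 1 = 1 := by
  rw [bit_eq_ite, ← testBit_enc_idx s p]
  by_cases h : (enc s).testBit (idx p) = true <;> simp [h]

/-- Lookup in a forest on the 24 singletons: if the root of the point `y` is `r`, some element of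
`H` maps the point with index `r` to `y`. -/
theorem exists_map_of_pointForest (H : Subgroup (Equiv.Perm GolayPt)) (TT r : ℕ)
    (hg : GensIn H TT r) (P G D R : ℕ)
    (hf : forestCheck (maskStepOk TT r) (fun j => 2 ^ j) P G D R 24 = true)
    (x y : GolayPt) (hroot : get16 R (idx y) = idx x) :
    ∃ g ∈ H, g x = y := by
  have h1 := (mask_forest H TT r hg (fun j => 2 ^ j) P G D R 24 hf (idx y) (idx_lt y)).2.2
  rw [hroot] at h1
  have h5 : MaskRel H (enc ({x} : Finset GolayPt)) (enc ({y} : Finset GolayPt)) := by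
    rw [enc_singleton, enc_singleton]
    exact h1
  obtain ⟨g, hg, hgy⟩ := exists_of_maskRel h5
  exact ⟨g, hg, smul_singleton_eq hgy⟩

/-- Lookup in a forest on the 759 octads: two octads with the same root are related by `H`. -/
theorem exists_map_of_octForest (H : Subgroup (Equiv.Perm GolayPt)) (TT r : ℕ)
    (hg : GensIn H TT r) (P G D R : ℕ)
    (hf : forestCheck (maskStepOk TT r) octAt P G D R 759 = true)
    (z' z'' : Finset GolayPt) (j1 j2 : ℕ) (hj1 : j1 < 759) (hj2 : j2 < 759)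
    (h1 : octAt j1 = enc z') (h2 : octAt j2 = enc z'') (hroot : get16 R j1 = get16 R j2) :
    ∃ g ∈ H, g • z' = z'' := by
  have m1 := (mask_forest H TT r hg octAt P G D R 759 hf j1 hj1).2.2
  have m2 := (mask_forest H TT r hg octAt P G D R 759 hf j2 hj2).2.2
  rw [hroot] at m1
  have m3 : MaskRel H (enc z') (enc z'') := by
    rw [← h1, ← h2]
    exact maskRel_trans (maskRel_symm (octAt_lt _) m1) m2
  exact exists_of_maskRel m3

/-- An octad is `dec (octAt j)` for some index `j`. -/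
theorem exists_index_of_mem_octads {z : Finset GolayPt} (hz : z ∈ octads) :
    ∃ j < 759, octAt j = enc z := by
  rw [mem_octads_iff] at hz
  obtain ⟨j, hj, hjo⟩ := List.mem_map.mp hz
  rw [List.mem_range] at hj
  exact ⟨j, hj, hjo⟩

end Cfsg.Agent.Lib.Helper91_M24Stab3
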