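import Mathlib
import Cfsg.Agent.Lib.Helper91_M24Stab3

/-!
The stabiliser of the base dodecad in `M24`: two generators and its transitivity on the dodecad and
on the complementary dodecad.
-/

set_option autoImplicit false
open scoped Pointwise
open Cfsg
open Cfsg.Agent.Lib.Helper26_Golay
open Cfsg.Agent.Lib.Helper91_M24Stab
open Cfsg.Agent.Lib.Helper91_M24Stab3

namespace Cfsg.Agent.Lib.Helper91_M12

/-- two elements of the stabiliser of the base dodecad -/
def gM12 : ℕ := 0x68ac394234ab88f41cd70a8ab9b1206d1f21d8ac7548042cca49c3714e30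

def fP : ℕ := 0x80012000f00100003001400010000000c000f00170010000a00060001000b000600090011000d0014000300000000
def fG : ℕ := 0x10001010100000001000000000101000000000001000000
def fD : ℕ := 0x60404020403010103040702040301050302020803040000
def fR : ℕ := 0x100000000000000000000000100000000000000010000000100010001000100010001000100010000000000010000

theorem gM12_in : GensIn (M24 ⊓ MulAction.stabilizer (Equiv.Perm GolayPt) dod0) gM12 2 := by
  apply gensIn_stab1 dod0 (dodAt 0) enc_dod0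
  decide +kernel

theorem forest_ok : forestCheck (maskStepOk gM12 2) (fun j => 2 ^ j) fP fG fD fR 24 = true := by
  decide +kernel

theorem forest_root :
    allFold (fun j => get16 fR j == 1 - ((dodAt 0 >>> j) &&& 1)) 24 = true := by
  decide +kernel

theorem idx_pt0 : idx (pt 0) = 0 := idx_pt 0 (by norm_num)
theorem idx_pt1 : idx (pt 1) = 1 := idx_pt 1 (by norm_num)

theorem pt0_mem : pt 0 ∈ dod0 := by
  rw [mem_iff_bit, idx_pt0, enc_dod0]
  decide +kernel

theorem pt1_not_mem : pt 1 ∉ dod0 := by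
  rw [not_mem_iff_bit, idx_pt1, enc_dod0]
  decide +kernel

/-- the stabiliser of the base dodecad maps the base point `pt 0` to any point of the dodecad -/
theorem exists_map_in {y : GolayPt} (hy : y ∈ dod0) :
    ∃ g ∈ M24, g • dod0 = dod0 ∧ g (pt 0) = y := by
  have h2 := (allFold_eq_true _ _).mp forest_root (idx y) (idx_lt y)
  have h3 : (dodAt 0 >>> idx y) &&& 1 = 1 := by
    rw [← enc_dod0]; exact (mem_iff_bit dod0 y).mp hy
  rw [h3, beq_iff_eq] at h2
  have h4 : get16 fR (idx y) = idx (pt 0) := by rw [idx_pt0, h2]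
  obtain ⟨g, hg, hgy⟩ := exists_map_of_pointForest _ _ 2 gM12_in fP fG fD fR forest_ok (pt 0) y h4
  obtain ⟨hg1, hg2⟩ := Subgroup.mem_inf.mp hg
  exact ⟨g, hg1, MulAction.mem_stabilizer_iff.mp hg2, hgy⟩

/-- the stabiliser of the base dodecad maps the base point `pt 1` to any point outside the dodecad -/
theorem exists_map_out {y : GolayPt} (hy : y ∉ dod0) :
    ∃ g ∈ M24, g • dod0 = dod0 ∧ g (pt 1) = y := by
  have h2 := (allFold_eq_true _ _).mp forest_root (idx y) (idx_lt y)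
  have h3 : (dodAt 0 >>> idx y) &&& 1 = 0 := by
    rw [← enc_dod0]; exact (not_mem_iff_bit dod0 y).mp hy
  rw [h3, beq_iff_eq] at h2
  have h4 : get16 fR (idx y) = idx (pt 1) := by rw [idx_pt1, h2]
  obtain ⟨g, hg, hgy⟩ := exists_map_of_pointForest _ _ 2 gM12_in fP fG fD fR forest_ok (pt 1) y h4
  obtain ⟨hg1, hg2⟩ := Subgroup.mem_inf.mp hg
  exact ⟨g, hg1, MulAction.mem_stabilizer_iff.mp hg2, hgy⟩

/-- A dodecad stabiliser is transitive on the dodecad. -/
theorem exists_stab_map_in {d : Finset GolayPt} (hd : d ∈ dodecads) {p q : GolayPt} (hp : p ∈ d)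
    (hq : q ∈ d) : ∃ g ∈ M24, g • d = d ∧ g p = q := by
  obtain ⟨h, hh, rfl⟩ := exists_smul_dod0_eq hd
  have hp' : h⁻¹ p ∈ dod0 := by
    rw [← mem_smul_iff h]; simpa using hp
  have hq' : h⁻¹ q ∈ dod0 := by
    rw [← mem_smul_iff h]; simpa using hq
  obtain ⟨s, hs, hsd, hsp⟩ := exists_map_in hp'
  obtain ⟨t, ht, htd, htq⟩ := exists_map_in hq'
  refine ⟨h * (t * s⁻¹) * h⁻¹, M24.mul_mem (M24.mul_mem hh (M24.mul_mem ht (M24.inv_mem hs)))
    (M24.inv_mem hh), ?_, ?_⟩
  · have e1 : s⁻¹ • dod0 = dod0 := by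
      rw [inv_smul_eq_iff, hsd]
    rw [mul_smul, mul_smul, inv_smul_smul, mul_smul, e1, htd]
  · have e2 : s⁻¹ (h⁻¹ p) = pt 0 := by
      rw [← hsp]; simp
    rw [Equiv.Perm.mul_apply, Equiv.Perm.mul_apply, Equiv.Perm.mul_apply, e2, htq]
    simp

/-- A dodecad stabiliser is transitive on the complementary dodecad. -/
theorem exists_stab_map_out {d : Finset GolayPt} (hd : d ∈ dodecads) {p q : GolayPt} (hp : p ∉ d)
    (hq : q ∉ d) : ∃ g ∈ M24, g • d = d ∧ g p = q := by
  obtain ⟨h, hh, rfl⟩ := exists_smul_dod0_eq hd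
  have hp' : h⁻¹ p ∉ dod0 := by
    rw [← mem_smul_iff h]; simpa using hp
  have hq' : h⁻¹ q ∉ dod0 := by
    rw [← mem_smul_iff h]; simpa using hq
  obtain ⟨s, hs, hsd, hsp⟩ := exists_map_out hp'
  obtain ⟨t, ht, htd, htq⟩ := exists_map_out hq'
  refine ⟨h * (t * s⁻¹) * h⁻¹, M24.mul_mem (M24.mul_mem hh (M24.mul_mem ht (M24.inv_mem hs)))
    (M24.inv_mem hh), ?_, ?_⟩
  · have e1 : s⁻¹ • dod0 = dod0 := by
      rw [inv_smul_eq_iff, hsd]
    rw [mul_smul, mul_smul, inv_smul_smul, mul_smul, e1, htd]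
  · have e2 : s⁻¹ (h⁻¹ p) = pt 1 := by
      rw [← hsp]; simp
    rw [Equiv.Perm.mul_apply, Equiv.Perm.mul_apply, Equiv.Perm.mul_apply, e2, htq]
    simp

end Cfsg.Agent.Lib.Helper91_M12
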