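import Mathlib
import Cfsg.Agent.Lib.Helper27_Quartets
import Cfsg.Agent.Lib.Helper91_M12

/-!
The stabiliser of the base dodecad in `M24` is transitive on the quartets of that dodecad
(orbit certificate on the table of quartet codes).
-/

set_option autoImplicit false
open scoped Pointwise
open Cfsg
open Cfsg.Agent.Lib.Helper26_Golay
open Cfsg.Agent.Lib.Helper91_M24Stab
open Cfsg.Agent.Lib.Helper91_M24Stab3
open Cfsg.Agent.Lib.Helper91_M12
open Cfsg.Agent.Lib.Helper27_Quartets

namespace Cfsg.Agent.Lib.Helper27_QuartetsTrans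

/-- Some element of `H` maps every family of sets with field set `fldSet a` to one with field set
`fldSet b`. -/
def QRel (H : Subgroup (Equiv.Perm GolayPt)) (a b : ℕ) : Prop :=
  ∃ g ∈ H, ∀ Q : Finset (Finset GolayPt), Q.image enc = fldSet a → (g • Q).image enc = fldSet b

theorem qRel_refl (H : Subgroup (Equiv.Perm GolayPt)) (a : ℕ) : QRel H a a :=
  ⟨1, H.one_mem, fun Q hQ => by rw [one_smul, hQ]⟩

theorem qRel_trans {H : Subgroup (Equiv.Perm GolayPt)} {a b c : ℕ} (h1 : QRel H a b)
    (h2 : QRel H b c) : QRel H a c := by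
  obtain ⟨g, hg, hg'⟩ := h1
  obtain ⟨k, hk, hk'⟩ := h2
  refine ⟨k * g, H.mul_mem hk hg, fun Q hQ => ?_⟩
  rw [mul_smul]
  exact hk' _ (hg' Q hQ)

theorem image_enc_smul {σ : Equiv.Perm GolayPt} {T : ℕ} (hT : Represents σ T)
    (Q : Finset (Finset GolayPt)) : (σ • Q).image enc = (Q.image enc).image (permMask T) := by
  rw [Finset.image_image]
  ext x
  simp only [Finset.mem_image, Finset.mem_smul_finset]
  constructor
  · rintro ⟨_, ⟨t, ht, rfl⟩, rfl⟩
    exact ⟨t, ht, by rw [Function.comp_apply, enc_smul hT]⟩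
  · rintro ⟨t, ht, rfl⟩
    exact ⟨σ • t, ⟨t, ht, rfl⟩, by rw [Function.comp_apply, enc_smul hT]⟩

/-- the four masks `m0, …, m3` are exactly the fields of `c` -/
def sameFlds (m0 m1 m2 m3 c : ℕ) : Bool :=
  inFlds c m0 && inFlds c m1 && inFlds c m2 && inFlds c m3 &&
  allFold (fun i => (fld c i == m0) || (fld c i == m1) || (fld c i == m2) || (fld c i == m3)) 4

theorem sameFlds_spec {m0 m1 m2 m3 c : ℕ} (h : sameFlds m0 m1 m2 m3 c = true) :
    ({m0, m1, m2, m3} : Finset ℕ) = fldSet c := by
  unfold sameFlds at h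
  simp only [Bool.and_eq_true, inFlds_iff, allFold_eq_true, Bool.or_eq_true, beq_iff_eq] at h
  obtain ⟨⟨⟨⟨h0, h1⟩, h2⟩, h3⟩, hall⟩ := h
  apply Finset.Subset.antisymm
  · intro x hx
    simp only [Finset.mem_insert, Finset.mem_singleton] at hx
    rcases hx with rfl | rfl | rfl | rfl <;> assumption
  · intro x hx
    obtain ⟨i, hi, rfl⟩ := (mem_fldSet_iff _ _).1 hx
    have := hall i hi
    simp only [Finset.mem_insert, Finset.mem_singleton]
    tauto

/-- one step of an orbit certificate on quartet codes -/
def qStepOk (TT r : ℕ) (k b c : ℕ) : Bool :=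
  decide (k < r) && force (get120 TT k) fun T =>
    force (permMask T (fld b 0)) fun m0 => force (permMask T (fld b 1)) fun m1 =>
    force (permMask T (fld b 2)) fun m2 => force (permMask T (fld b 3)) fun m3 =>
      sameFlds m0 m1 m2 m3 c

theorem q_forest (H : Subgroup (Equiv.Perm GolayPt)) (TT r : ℕ) (hg : GensIn H TT r)
    (tAt : ℕ → ℕ) (P G D R n : ℕ)
    (h : forestCheck (qStepOk TT r) tAt P G D R n = true) :
    ∀ j < n, get16 R j < n ∧ get8 D (get16 R j) = 0 ∧ QRel H (tAt (get16 R j)) (tAt j) := by
  apply forest_sound (QRel H) (qRel_refl H) (qStepOk TT r) _ tAt P G D R n h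
  intro a b c k hab hs
  unfold qStepOk at hs
  rw [Bool.and_eq_true, decide_eq_true_eq] at hs
  simp only [force_eq] at hs
  obtain ⟨σ, hσ, hT⟩ := hg k hs.1
  refine qRel_trans hab ⟨σ, hσ, fun Q hQ => ?_⟩
  rw [image_enc_smul hT, hQ, ← sameFlds_spec hs.2]
  simp [fldSet, Finset.image_insert]

/-- a forest certificate for the action on quartet codes of the two generators `gM12` -/
def qFP : ℕ := 0x81006a002600a5009d003900b6004300bb007100290096002b00860071000000380016000c00ca000e00ad004200660077003b0033003b0089005800010066006d005e00a8000c00860016002500b2000a004800a4000e004c002b006b0034000300d30026005a008d0084007000a8004e002f005000780033009b008000ab00bd0062008700a0006c00ac000000d0009200c0008d00cc009d004b003800d3008500b80003009600440024006f00780069005300ac00750099009e007f0023006e00a200ca0059004b006700be006b008800a50024007c0054002e00c900b3002a005b00be002f00920090005700d100bf00c4004c005600d20054006c0048003d005100bb001900ba004a00c500ab00c800700047007b008300200023009500ad003100da005b001200aa000200d500d6001e0057001c0056009800470035008a001700d500af00850032000400c4004d006700070079005a0001009f007400cd00b8001a00b4008e00910074008a001c00cb007b007a001000140011001200c600b100510093001000bc007600c9009f00cc00b1003f00a300cd00220095006300c2008100190062006300270040004d00b5006a0000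
def qFG : ℕ := 0x10001000100010100000100010100010001000100000000010000000001010001000000010000010100000101010101010100000100010001000101010001010100010001010000010100010000000101000001010100010000010000010000000101010100000100000101010100010101000101010101010000010001000101000100010100010101010001010001010100000101010001000101000000000100010000010000000001010000000100010100000101000100000100010100000000000101000101010000000001010101000000010001000000
def qFD : ℕ := 0x80708080b09070b06070b080907070105060307090707040906070608070804050a070307060808080708090309060607070806060907070b070c08070a0a0809060a090a070109080706020b0805070b04070809060a08090907090b0b0c050a0807070809080609080606090904090506080708030c0c0905030a08090a07050506060b0908080807040b0a0a05020708080603080a080a060c040a0a0407050d08040b0a0605060907080608080708040a090907070504060b090c050a03080905090c050a040802090b0c0807020a070806060a0a0506090700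
def qFR : ℕ := 0x0

theorem qForest_ok : forestCheck (qStepOk gM12 2) qAt qFP qFG qFD qFR 220 = true := by
  decide +kernel

theorem qForest_root : allFold (fun j => get16 qFR j == 0) 220 = true := by
  decide +kernel

/-- the stabiliser of the base dodecad in `M24` maps the first quartet of the table to any quartet of
the base dodecad -/
theorem exists_smul_quartet0 {Q : Finset (Finset GolayPt)} (hQ : Q ∈ quartets dod0) :
    ∃ g ∈ M24, g • dod0 = dod0 ∧ g • decQ (qAt 0) = Q := by
  obtain ⟨j, hj, hjQ⟩ := exists_index_of_mem_quartets hQ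
  have h1 := (q_forest _ gM12 2 gM12_in qAt qFP qFG qFD qFR 220 qForest_ok j hj).2.2
  have h2 := (allFold_eq_true _ _).1 qForest_root j hj
  rw [beq_iff_eq] at h2
  rw [h2] at h1
  obtain ⟨g, hg, hg'⟩ := h1
  obtain ⟨hg1, hg2⟩ := Subgroup.mem_inf.1 hg
  refine ⟨g, hg1, MulAction.mem_stabilizer_iff.1 hg2, ?_⟩
  rw [eq_decQ_of_image_enc hjQ]
  exact eq_decQ_of_image_enc (hg' _ (image_enc_decQ _))

/-- the stabiliser of the base dodecad in `M24` is transitive on its quartets -/
theorem exists_smul_quartet_dod0 {Q Q' : Finset (Finset GolayPt)} (hQ : Q ∈ quartets dod0)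
    (hQ' : Q' ∈ quartets dod0) : ∃ g ∈ M24, g • dod0 = dod0 ∧ g • Q = Q' := by
  obtain ⟨g, hg, hgd, hgQ⟩ := exists_smul_quartet0 hQ
  obtain ⟨g', hg', hgd', hgQ'⟩ := exists_smul_quartet0 hQ'
  refine ⟨g' * g⁻¹, M24.mul_mem hg' (M24.inv_mem hg), ?_, ?_⟩
  · rw [mul_smul, inv_smul_eq_iff.2 hgd.symm, hgd']
  · rw [mul_smul, inv_smul_eq_iff.2 hgQ.symm, hgQ']

theorem quartets_smul {g : Equiv.Perm GolayPt} (hg : g ∈ M24) (d : Finset GolayPt) :
    quartets (g • d) = (fun Q : Finset (Finset GolayPt) => g • Q) '' quartets d := by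
  ext Q
  constructor
  · intro hQ
    refine ⟨g⁻¹ • Q, ?_, smul_inv_smul g Q⟩
    have := smul_mem_quartets (M24.inv_mem hg) hQ
    rwa [inv_smul_smul] at this
  · rintro ⟨Q', hQ', rfl⟩
    exact smul_mem_quartets hg hQ'

/-- a dodecad has 220 quartets, permuted transitively by its stabiliser in `M24` -/
theorem quartets_main (d : Finset GolayPt) (hd : d ∈ dodecads) :
    (quartets d).ncard = 220 ∧ ∀ Q ∈ quartets d, ∀ Q' ∈ quartets d,
      ∃ g : Equiv.Perm GolayPt, g ∈ M24 ∧ g • d = d ∧ g • Q = Q' := by
  obtain ⟨h, hh, rfl⟩ := exists_smul_dod0_eq hd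
  constructor
  · rw [quartets_smul hh, Set.ncard_image_of_injective _ (MulAction.injective h),
      quartets_dod0_ncard]
  · intro Q hQ Q' hQ'
    rw [quartets_smul hh] at hQ hQ'
    obtain ⟨Q₀, hQ₀, rfl⟩ := hQ
    obtain ⟨Q₀', hQ₀', rfl⟩ := hQ'
    obtain ⟨g, hg, hgd, hgQ⟩ := exists_smul_quartet_dod0 hQ₀ hQ₀'
    refine ⟨h * g * h⁻¹, M24.mul_mem (M24.mul_mem hh hg) (M24.inv_mem hh), ?_, ?_⟩
    · rw [mul_smul, mul_smul, inv_smul_smul, hgd]
    · show (h * g * h⁻¹) • (h • Q₀) = h • Q₀'
      rw [mul_smul, mul_smul, inv_smul_smul, hgQ]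

end Cfsg.Agent.Lib.Helper27_QuartetsTrans
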