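import Mathlib
import Cfsg.Agent.Lib.Helper27_QuartetsTrans

/-!
The orbits on quartets of the stabiliser in `M24` of the base dodecad and of its first quartet.
-/

set_option autoImplicit false
open scoped Pointwise
open Cfsg
open Cfsg.Agent.Lib.Helper26_Golay
open Cfsg.Agent.Lib.Helper91_M24Stab
open Cfsg.Agent.Lib.Helper91_M24Stab3
open Cfsg.Agent.Lib.Helper27_Quartets
open Cfsg.Agent.Lib.Helper27_QuartetsTrans

namespace Cfsg.Agent.Lib.Helper27_QuartetOrbits

/-- the first quartet of the base dodecad -/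
def Q0 : Finset (Finset GolayPt) := decQ (qAt 0)

theorem Q0_mem : Q0 ∈ quartets dod0 := decQ_mem (by norm_num)

/-- the stabiliser in `M24` of the base dodecad and of its first quartet -/
def K0 : Subgroup (Equiv.Perm GolayPt) :=
  (M24 ⊓ MulAction.stabilizer (Equiv.Perm GolayPt) dod0) ⊓
    MulAction.stabilizer (Equiv.Perm GolayPt) Q0

theorem mem_K0 {g : Equiv.Perm GolayPt} :
    g ∈ K0 ↔ g ∈ M24 ∧ g • dod0 = dod0 ∧ g • Q0 = Q0 := by
  unfold K0
  constructor
  · intro h
    obtain ⟨h1, h2⟩ := Subgroup.mem_inf.mp h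
    obtain ⟨h3, h4⟩ := Subgroup.mem_inf.mp h1
    exact ⟨h3, MulAction.mem_stabilizer_iff.mp h4, MulAction.mem_stabilizer_iff.mp h2⟩
  · rintro ⟨h1, h2, h3⟩
    exact Subgroup.mem_inf.mpr ⟨Subgroup.mem_inf.mpr ⟨h1, MulAction.mem_stabilizer_iff.mpr h2⟩,
      MulAction.mem_stabilizer_iff.mpr h3⟩

/-- two generators of `K0` -/
def kGens : ℕ := 0x30c1583ce2958ac412374b56a750332be53a5a2c83955690e64ac2800ee2

/-- the check that a table describes an element of `K0` -/
def inK0 (T : ℕ) : Bool :=
  tblInM24 T && (permMask T D0 == D0) &&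
    sameFlds (permMask T (fld (qAt 0) 0)) (permMask T (fld (qAt 0) 1))
      (permMask T (fld (qAt 0) 2)) (permMask T (fld (qAt 0) 3)) (qAt 0)

theorem exists_of_inK0 {T : ℕ} (h : inK0 T = true) : ∃ σ ∈ K0, Represents σ T := by
  unfold inK0 at h
  rw [Bool.and_eq_true, Bool.and_eq_true, beq_iff_eq] at h
  obtain ⟨⟨h1, h2⟩, h3⟩ := h
  obtain ⟨σ, hσ, hT⟩ := exists_of_tblInM24 h1
  refine ⟨σ, mem_K0.2 ⟨hσ, ?_, ?_⟩, hT⟩
  · apply enc_injective
    rw [enc_smul hT, enc_dod0', h2]
  · apply eq_decQ_of_image_enc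
    rw [image_enc_smul hT, Q0, image_enc_decQ]
    conv_rhs => rw [← sameFlds_spec h3]
    simp [fldSet, Finset.image_insert]

theorem kGens_in : GensIn K0 kGens 2 := by
  have h : allFold (fun k => inK0 (get120 kGens k)) 2 = true := by decide +kernel
  rw [allFold_eq_true] at h
  intro k hk
  exact exists_of_inK0 (h k hk)

/-- a forest certificate for the action of `kGens` on quartet codes -/
def kFP : ℕ := 0xb3000c002d004e00a6008600240025001d0062000d00ba00bb00ab00ae008b009200380030002100a500a900aa007800c600ca00bc00d200a200480005009a005b007f0058005e002200b0001a00af00c60083009500c100aa0064000e000200d20027006800c3000400ab00a00093002600b300bd00a100b70020006f006d0036000400c500ba005c00a8006b0079007b00c3008b00c8005000d300d1007e0023003a00d500d600d40084007e00bd000f0095001e0082007d00070084007a005d00340023000600db004200d800c0002c003b00900081007f0047005c004400400043004100420049009c00070033009b007600240073007400a10001001c0079009700290028002b005e0032001c0017002d002c002f00b8008f008e0030004e009c0061007a00af00b100ae000f00c40006005d0078004b005900c1004a00a0003b00b1009a009d0055001b00430027002f000d00a70005003100c9006a002900ce00d600bc006800ac006a006b004000640062006500b8003400a900760013009d0011008c006f00360091001b00a7003a00d5001600500092008600b9006c00590058005a00320000000000000002000100000000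
def kFG : ℕ := 0x1000100000001000000000101010001000101000000010100010000000100010001010000000100010000000000010101010100010001000000010001010001000000000001010101010000010101010000000101010000010101000100000100010101010100000101010000000100000000000001010101000000000101000001000000010001010000000001010001000100010001000000010001010100000001000001010100010100010100010100000100010000010101000100010100010001010101000101010000010101010000000100000000000000
def kFD : ℕ := 0x6070505070405060504050607060705070303050504050205040305070701020605050407050806050505040506080205040306010604040406020308060606050106060507040503060506030606050406060507030502040506060404030602050401070206060605070705070505030403020707040506030507070301040506060407040304070506020504070305070606060607040301020206070408040506020704040404020502010604050607050303030504030604050505040303070706060506040206060603070406060705070300000002010000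
def kFR : ℕ := 0x6000400040005000600050006000600060006000500050006000600060006000600040004000600050006000600060006000400040006000600060005000400060005000400050006000400050006000600050006000400060006000600010006000600060006000400060005000100010006000500050006000500050006000500040006000500060006000600060001000600060006000500060005000500060005000600050006000500050005000500060006000600050005000500060001000600060006000600060005000600060005000600060005000600060005000600060001000600060006000500060005000600060006000600050001000600060006000500040005000500050006000500040006000500050005000600040005000600060006000600060006000500060006000100060005000500040006000500050006000400050005000400060006000500050004000500050004000600050006000500040006000100060006000600060006000500050006000600060004000500060005000500050006000400040005000600050005000600050004000500050004000600050006000500040001000100010000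

theorem kForest_ok : forestCheck (qStepOk kGens 2) qAt kFP kFG kFD kFR 220 = true := by
  decide +kernel


/-! ### The invariant separating the orbits -/

/-- the number of pairs (triple of `Q0`, triple of `X`) meeting in exactly one point -/
def n1 (X : Finset (Finset GolayPt)) : ℕ :=
  ∑ t ∈ Q0, ∑ u ∈ X, if (t ∩ u).card = 1 then 1 else 0

theorem sum_smul_finset {α : Type*} [DecidableEq α] (σ : Equiv.Perm GolayPt)
    (S : Finset (Finset GolayPt)) (F : Finset GolayPt → ℕ) :
    ∑ t ∈ σ • S, F t = ∑ t ∈ S, F (σ • t) := by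
  have : σ • S = S.image (fun t => σ • t) := rfl
  rw [this, Finset.sum_image]
  intro a _ b _ h
  exact MulAction.injective σ h

theorem n1_smul {σ : Equiv.Perm GolayPt} (hσ : σ • Q0 = Q0) (X : Finset (Finset GolayPt)) :
    n1 (σ • X) = n1 X := by
  unfold n1
  conv_lhs => rw [← hσ]
  rw [sum_smul_finset (α := ℕ)]
  apply Finset.sum_congr rfl
  intro t _
  rw [sum_smul_finset (α := ℕ)]
  apply Finset.sum_congr rfl
  intro u _
  rw [← Finset.smul_finset_inter, Finset.card_smul_finset]

/-- the invariant on codes -/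
def n1c (a : ℕ) : ℕ :=
  sumFold (fun i => sumFold (fun k => if pop (fld (qAt 0) i &&& fld a k) == 1 then 1 else 0) 4) 4

theorem sum_fldSet {a : ℕ} (hc : checkQ a = true) (F : ℕ → ℕ) :
    ∑ x ∈ fldSet a, F x = F (fld a 0) + F (fld a 1) + F (fld a 2) + F (fld a 3) := by
  obtain ⟨⟨h01, h12, h23⟩, -, -⟩ := checkQ_spec hc
  unfold fldSet
  rw [Finset.sum_insert, Finset.sum_insert, Finset.sum_insert, Finset.sum_singleton]
  · ring
  · simp only [Finset.mem_singleton]; omega
  · simp only [Finset.mem_insert, Finset.mem_singleton]; omega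
  · simp only [Finset.mem_insert, Finset.mem_singleton]; omega

theorem sum_decQ {a : ℕ} (hc : checkQ a = true) (F : Finset GolayPt → ℕ) :
    ∑ t ∈ decQ a, F t =
      F (dec (fld a 0)) + F (dec (fld a 1)) + F (dec (fld a 2)) + F (dec (fld a 3)) := by
  unfold decQ
  rw [Finset.sum_image (dec_injOn_fldSet a), sum_fldSet hc]

theorem sumFold_four (f : ℕ → ℕ) : sumFold f 4 = f 0 + f 1 + f 2 + f 3 := by
  rw [sumFold_eq]; simp [Finset.sum_range_succ]

theorem card_dec_inter (x y : ℕ) (hx : x < 2 ^ 24) (hy : y < 2 ^ 24) :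
    (dec x ∩ dec y).card = pop (x &&& y) := by
  rw [card_inter_eq_pop, enc_dec x hx, enc_dec y hy]

theorem n1_decQ {j : ℕ} (hj : j < 220) : n1 (decQ (qAt j)) = n1c (qAt j) := by
  have h0 : checkQ (qAt 0) = true := checkQ_at (by norm_num)
  have hc := checkQ_at hj
  unfold n1 n1c Q0
  rw [sum_decQ h0, sumFold_four]
  simp only [sum_decQ hc, sumFold_four, card_dec_inter _ _ (fld_lt _ _) (fld_lt _ _), beq_iff_eq]

/-! ### The classes of the invariant -/

/-- the root in the forest of the class with a given invariant -/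
def rootOf (c : ℕ) : ℕ := if c = 9 then 1 else if c = 4 then 4 else if c = 6 then 5 else
  if c = 10 then 6 else 0

theorem checkRoots : allFold (fun j => force (n1c (qAt j)) fun c =>
    (get16 kFR j == rootOf c) && ((c == 0 && j == 0) || c == 9 || c == 4 || c == 6 || c == 10))
    220 = true := by
  decide +kernel

theorem root_spec {j : ℕ} (hj : j < 220) : get16 kFR j = rootOf (n1c (qAt j)) ∧
    ((n1c (qAt j) = 0 ∧ j = 0) ∨ n1c (qAt j) = 9 ∨ n1c (qAt j) = 4 ∨ n1c (qAt j) = 6 ∨
      n1c (qAt j) = 10) := by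
  have h := (allFold_eq_true _ _).1 checkRoots j hj
  rw [force_eq] at h
  simp only [Bool.and_eq_true, Bool.or_eq_true, beq_iff_eq] at h
  refine ⟨h.1, ?_⟩
  tauto

/-- the quartets of the base dodecad with a given value of the invariant -/
def classSet (c : ℕ) : Set (Finset (Finset GolayPt)) := {Y | Y ∈ quartets dod0 ∧ n1 Y = c}

/-- the orbit of a family of sets under `K0` -/
def orbK (X : Finset (Finset GolayPt)) : Set (Finset (Finset GolayPt)) :=
  {Y | ∃ σ ∈ K0, σ • X = Y}

theorem orbK_eq_classSet {r : ℕ} (hr : r < 220) (hroot : rootOf (n1c (qAt r)) = r) :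
    orbK (decQ (qAt r)) = classSet (n1c (qAt r)) := by
  ext Y
  constructor
  · rintro ⟨σ, hσ, rfl⟩
    obtain ⟨h1, h2, h3⟩ := mem_K0.1 hσ
    refine ⟨?_, ?_⟩
    · have := smul_mem_quartets h1 (decQ_mem hr)
      rwa [h2] at this
    · rw [n1_smul h3, n1_decQ hr]
  · rintro ⟨hY, hn⟩
    obtain ⟨j, hj, hjY⟩ := exists_index_of_mem_quartets hY
    have hY' := eq_decQ_of_image_enc hjY
    rw [hY', n1_decQ hj] at hn
    have h1 := (q_forest K0 kGens 2 kGens_in qAt kFP kFG kFD kFR 220 kForest_ok j hj).2.2
    rw [(root_spec hj).1, hn, hroot] at h1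
    obtain ⟨g, hg, hg'⟩ := h1
    refine ⟨g, hg, ?_⟩
    rw [hY']
    exact eq_decQ_of_image_enc (hg' _ (image_enc_decQ _))

theorem classSet_eq (c : ℕ) : classSet c =
    ↑(((Finset.range 220).filter (fun j => n1c (qAt j) = c)).image (fun j => decQ (qAt j))) := by
  ext Y
  simp only [classSet, Set.mem_ofPred_eq, Finset.coe_image, Finset.coe_filter, Finset.mem_range,
    Set.mem_image]
  constructor
  · rintro ⟨hY, hn⟩
    obtain ⟨j, hj, hjY⟩ := exists_index_of_mem_quartets hY
    have hY' := eq_decQ_of_image_enc hjY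
    rw [hY', n1_decQ hj] at hn
    exact ⟨j, ⟨hj, hn⟩, hY'.symm⟩
  · rintro ⟨j, ⟨hj, hn⟩, rfl⟩
    exact ⟨decQ_mem hj, by rw [n1_decQ hj, hn]⟩

theorem classSet_ncard (c : ℕ) : (classSet c).ncard =
    sumFold (fun j => if n1c (qAt j) = c then 1 else 0) 220 := by
  rw [classSet_eq, Set.ncard_coe_finset, Finset.card_image_of_injOn, Finset.card_filter,
    sumFold_eq]
  intro j hj j' hj' h
  exact decQ_injOn (Finset.mem_coe.2 (Finset.mem_filter.1 (Finset.mem_coe.1 hj)).1)
    (Finset.mem_coe.2 (Finset.mem_filter.1 (Finset.mem_coe.1 hj')).1) h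

theorem class_counts :
    sumFold (fun j => if n1c (qAt j) = 9 then 1 else 0) 220 = 12 ∧
    sumFold (fun j => if n1c (qAt j) = 4 then 1 else 0) 220 = 27 ∧
    sumFold (fun j => if n1c (qAt j) = 6 then 1 else 0) 220 = 72 ∧
    sumFold (fun j => if n1c (qAt j) = 10 then 1 else 0) 220 = 108 ∧
    n1c (qAt 1) = 9 ∧ n1c (qAt 4) = 4 ∧ n1c (qAt 5) = 6 ∧ n1c (qAt 6) = 10 := by
  decide +kernel

/-- the orbit structure for the base dodecad and its first quartet -/
theorem base_orbits :
    (orbK (decQ (qAt 1))).ncard = 12 ∧ (orbK (decQ (qAt 4))).ncard = 27 ∧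
    (orbK (decQ (qAt 5))).ncard = 72 ∧ (orbK (decQ (qAt 6))).ncard = 108 ∧
    quartets dod0 = {Q0} ∪ orbK (decQ (qAt 1)) ∪ orbK (decQ (qAt 4)) ∪ orbK (decQ (qAt 5)) ∪
      orbK (decQ (qAt 6)) := by
  obtain ⟨c1, c2, c3, c4, e1, e2, e3, e4⟩ := class_counts
  have o1 := orbK_eq_classSet (r := 1) (by norm_num) (by rw [e1]; rfl)
  have o2 := orbK_eq_classSet (r := 4) (by norm_num) (by rw [e2]; rfl)
  have o3 := orbK_eq_classSet (r := 5) (by norm_num) (by rw [e3]; rfl)
  have o4 := orbK_eq_classSet (r := 6) (by norm_num) (by rw [e4]; rfl)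
  rw [e1] at o1; rw [e2] at o2; rw [e3] at o3; rw [e4] at o4
  refine ⟨by rw [o1, classSet_ncard, c1], by rw [o2, classSet_ncard, c2],
    by rw [o3, classSet_ncard, c3], by rw [o4, classSet_ncard, c4], ?_⟩
  rw [o1, o2, o3, o4]
  ext Y
  simp only [Set.mem_union, Set.mem_singleton_iff, classSet, Set.mem_ofPred_eq]
  constructor
  · intro hY
    obtain ⟨j, hj, hjY⟩ := exists_index_of_mem_quartets hY
    have hY' := eq_decQ_of_image_enc hjY
    have hn : n1 Y = n1c (qAt j) := by rw [hY', n1_decQ hj]
    rcases (root_spec hj).2 with ⟨_, h0⟩ | h | h | h | h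
    · left; left; left; left
      rw [hY', h0]; rfl
    · left; left; left; right; exact ⟨hY, by rw [hn, h]⟩
    · left; left; right; exact ⟨hY, by rw [hn, h]⟩
    · left; right; exact ⟨hY, by rw [hn, h]⟩
    · right; exact ⟨hY, by rw [hn, h]⟩
  · rintro ((((rfl | h) | h) | h) | h)
    · exact Q0_mem
    · exact h.1
    · exact h.1
    · exact h.1
    · exact h.1


/-! ### Transport to an arbitrary dodecad and quartet -/

/-- the orbit of `X` under the stabiliser in `M24` of `d` and `Q`, as a set -/
def orbSet (d : Finset GolayPt) (Q X : Finset (Finset GolayPt)) :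
    Set (Finset (Finset GolayPt)) :=
  {Y | ∃ σ : Equiv.Perm GolayPt, σ ∈ M24 ∧ σ • d = d ∧ σ • Q = Q ∧ σ • X = Y}

theorem orbit_eq_orbSet (d : Finset GolayPt) (Q X : Finset (Finset GolayPt)) :
    MulAction.orbit ↥(MulAction.stabilizer M24 d ⊓ MulAction.stabilizer M24 Q) X =
      orbSet d Q X := by
  ext Y
  constructor
  · rintro ⟨⟨⟨σ, hσ⟩, hs⟩, rfl⟩
    obtain ⟨h1, h2⟩ := Subgroup.mem_inf.1 hs
    exact ⟨σ, hσ, MulAction.mem_stabilizer_iff.1 h1, MulAction.mem_stabilizer_iff.1 h2, rfl⟩
  · rintro ⟨σ, hσ, h1, h2, rfl⟩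
    exact ⟨⟨⟨σ, hσ⟩, Subgroup.mem_inf.2 ⟨MulAction.mem_stabilizer_iff.2 h1,
      MulAction.mem_stabilizer_iff.2 h2⟩⟩, rfl⟩

theorem orbK_eq_orbSet (X : Finset (Finset GolayPt)) : orbK X = orbSet dod0 Q0 X := by
  ext Y
  constructor
  · rintro ⟨σ, hσ, rfl⟩
    obtain ⟨h1, h2, h3⟩ := mem_K0.1 hσ
    exact ⟨σ, h1, h2, h3, rfl⟩
  · rintro ⟨σ, h1, h2, h3, rfl⟩
    exact ⟨σ, mem_K0.2 ⟨h1, h2, h3⟩, rfl⟩

theorem orbSet_smul {g : Equiv.Perm GolayPt} (hg : g ∈ M24) (d : Finset GolayPt)
    (Q X : Finset (Finset GolayPt)) :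
    orbSet (g • d) (g • Q) (g • X) = (fun Y : Finset (Finset GolayPt) => g • Y) '' orbSet d Q X := by
  ext Y
  constructor
  · rintro ⟨σ, hσ, h1, h2, rfl⟩
    refine ⟨(g⁻¹ * σ * g) • X, ⟨g⁻¹ * σ * g, M24.mul_mem (M24.mul_mem (M24.inv_mem hg) hσ) hg,
      ?_, ?_, rfl⟩, ?_⟩
    · rw [mul_smul, mul_smul, h1, inv_smul_smul]
    · rw [mul_smul, mul_smul, h2, inv_smul_smul]
    · show g • ((g⁻¹ * σ * g) • X) = σ • g • X
      rw [mul_smul, mul_smul, smul_inv_smul]
  · rintro ⟨_, ⟨σ, hσ, h1, h2, rfl⟩, rfl⟩
    refine ⟨g * σ * g⁻¹, M24.mul_mem (M24.mul_mem hg hσ) (M24.inv_mem hg), ?_, ?_, ?_⟩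
    · rw [mul_smul, mul_smul, inv_smul_smul, h1]
    · rw [mul_smul, mul_smul, inv_smul_smul, h2]
    · rw [mul_smul, mul_smul, inv_smul_smul]

theorem exists_smul_pair {d : Finset GolayPt} (hd : d ∈ dodecads) {Q : Finset (Finset GolayPt)}
    (hQ : Q ∈ quartets d) : ∃ g ∈ M24, g • dod0 = d ∧ g • Q0 = Q := by
  obtain ⟨h, hh, rfl⟩ := exists_smul_dod0_eq hd
  have hQ' : h⁻¹ • Q ∈ quartets dod0 := by
    have := smul_mem_quartets (M24.inv_mem hh) hQ
    rwa [inv_smul_smul] at this
  obtain ⟨k, hk, hkd, hkQ⟩ := exists_smul_quartet_dod0 Q0_mem hQ'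
  refine ⟨h * k, M24.mul_mem hh hk, ?_, ?_⟩
  · rw [mul_smul, hkd]
  · rw [mul_smul, hkQ, smul_inv_smul]

theorem ncard_smul_set (g : Equiv.Perm GolayPt) (S : Set (Finset (Finset GolayPt))) :
    ((fun Y : Finset (Finset GolayPt) => g • Y) '' S).ncard = S.ncard :=
  Set.ncard_image_of_injective _ (MulAction.injective g)

/-- the orbits on quartets of the stabiliser of a dodecad and one of its quartets -/
theorem orbits_main (d : Finset GolayPt) (hd : d ∈ dodecads) (Q : Finset (Finset GolayPt))
    (hQ : Q ∈ quartets d) :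
    ∃ X₁ ∈ quartets d, ∃ X₂ ∈ quartets d, ∃ X₃ ∈ quartets d, ∃ X₄ ∈ quartets d,
      (MulAction.orbit ↥(MulAction.stabilizer M24 d ⊓ MulAction.stabilizer M24 Q) X₁).ncard = 12 ∧
      (MulAction.orbit ↥(MulAction.stabilizer M24 d ⊓ MulAction.stabilizer M24 Q) X₂).ncard = 27 ∧
      (MulAction.orbit ↥(MulAction.stabilizer M24 d ⊓ MulAction.stabilizer M24 Q) X₃).ncard = 72 ∧
      (MulAction.orbit ↥(MulAction.stabilizer M24 d ⊓ MulAction.stabilizer M24 Q) X₄).ncard = 108 ∧
      quartets d = {Q} ∪
        MulAction.orbit ↥(MulAction.stabilizer M24 d ⊓ MulAction.stabilizer M24 Q) X₁ ∪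
        MulAction.orbit ↥(MulAction.stabilizer M24 d ⊓ MulAction.stabilizer M24 Q) X₂ ∪
        MulAction.orbit ↥(MulAction.stabilizer M24 d ⊓ MulAction.stabilizer M24 Q) X₃ ∪
        MulAction.orbit ↥(MulAction.stabilizer M24 d ⊓ MulAction.stabilizer M24 Q) X₄ := by
  obtain ⟨g, hg, rfl, rfl⟩ := exists_smul_pair hd hQ
  obtain ⟨b1, b2, b3, b4, bU⟩ := base_orbits
  refine ⟨g • decQ (qAt 1), smul_mem_quartets hg (decQ_mem (by norm_num)),
    g • decQ (qAt 4), smul_mem_quartets hg (decQ_mem (by norm_num)),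
    g • decQ (qAt 5), smul_mem_quartets hg (decQ_mem (by norm_num)),
    g • decQ (qAt 6), smul_mem_quartets hg (decQ_mem (by norm_num)), ?_⟩
  simp only [orbit_eq_orbSet, orbSet_smul hg, ← orbK_eq_orbSet, ncard_smul_set]
  refine ⟨b1, b2, b3, b4, ?_⟩
  rw [quartets_smul hg, bU]
  simp only [Set.image_union, Set.image_singleton]

end Cfsg.Agent.Lib.Helper27_QuartetOrbits
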