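import Mathlib
import Cfsg.Agent.S0382
import Cfsg.Agent.Lib.Helper27_QuartetOrbits

/-!
The stabiliser `K0` in `M24` of the base dodecad and of its first quartet: its order is 432, its 432
elements as explicit tables, its affine action on nine points of the complementary dodecad, and the
resulting surjection onto `GL (Fin 2) (ZMod 3)`; transported to every dodecad and quartet.
-/

set_option autoImplicit false
open scoped Pointwise
open Cfsg
open Cfsg.Agent.Lib.Helper26_Golay
open Cfsg.Agent.Lib.Helper27_Quartets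
open Cfsg.Agent.Lib.Helper27_QuartetsTrans
open Cfsg.Agent.Lib.Helper27_QuartetOrbits

namespace Cfsg.Agent.Lib.Helper27_K0Affine

/-! ### The order, and conjugation onto the base case -/

theorem card_stab_pair (d : Finset GolayPt) (hd : d ∈ dodecads) (Q : Finset (Finset GolayPt))
    (hQ : Q ∈ quartets d) :
    Nat.card ↥(MulAction.stabilizer M24 d ⊓ MulAction.stabilizer M24 Q) = 432 := by
  have hA := Cfsg.Agent.S0382.result d hd
  have horb : MulAction.orbit ↥(MulAction.stabilizer M24 d) Q = quartets d := by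
    ext X
    constructor
    · rintro ⟨⟨⟨σ, hσ⟩, hs⟩, rfl⟩
      have h1 : σ • d = d := MulAction.mem_stabilizer_iff.1 hs
      have h2 := smul_mem_quartets hσ hQ
      rw [h1] at h2
      exact h2
    · intro hX
      obtain ⟨g, hg, hgd, hgQ⟩ := (quartets_main d hd).2 Q hQ X hX
      exact ⟨⟨⟨g, hg⟩, MulAction.mem_stabilizer_iff.2 hgd⟩, hgQ⟩
  have hidx : (MulAction.stabilizer ↥(MulAction.stabilizer M24 d) Q).index = 220 := by
    rw [MulAction.index_stabilizer, horb, (quartets_main d hd).1]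
  have hmul := Subgroup.card_mul_index (MulAction.stabilizer ↥(MulAction.stabilizer M24 d) Q)
  have h432 : Nat.card ↥(MulAction.stabilizer ↥(MulAction.stabilizer M24 d) Q) = 432 := by
    rw [hidx, hA] at hmul
    omega
  rw [← h432]
  apply Nat.card_congr
  exact
    { toFun := fun k => ⟨⟨k.1, (Subgroup.mem_inf.1 k.2).1⟩, (Subgroup.mem_inf.1 k.2).2⟩
      invFun := fun k => ⟨k.1.1, Subgroup.mem_inf.2 ⟨k.1.2, k.2⟩⟩
      left_inv := fun k => rfl
      right_inv := fun k => rfl }

theorem mem_pair {d : Finset GolayPt} {Q : Finset (Finset GolayPt)} {k : ↥M24} :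
    k ∈ MulAction.stabilizer M24 d ⊓ MulAction.stabilizer M24 Q ↔
      (k : Equiv.Perm GolayPt) • d = d ∧ (k : Equiv.Perm GolayPt) • Q = Q := by
  rw [Subgroup.mem_inf, MulAction.mem_stabilizer_iff, MulAction.mem_stabilizer_iff]
  rfl

/-- conjugation by `g` carries the stabiliser of `g • dod0` and `g • Q0` onto `K0` -/
noncomputable def conjEquiv {g : Equiv.Perm GolayPt} (hg : g ∈ M24) :
    ↥(MulAction.stabilizer M24 (g • dod0) ⊓ MulAction.stabilizer M24 (g • Q0)) ≃* ↥K0 where
  toFun k := ⟨g⁻¹ * ((k : ↥M24) : Equiv.Perm GolayPt) * g, by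
    obtain ⟨h1, h2⟩ := mem_pair.1 k.2
    refine mem_K0.2 ⟨M24.mul_mem (M24.mul_mem (M24.inv_mem hg) k.1.2) hg, ?_, ?_⟩
    · rw [mul_smul, mul_smul, h1, inv_smul_smul]
    · rw [mul_smul, mul_smul, h2, inv_smul_smul]⟩
  invFun k := ⟨⟨g * (k : Equiv.Perm GolayPt) * g⁻¹,
      M24.mul_mem (M24.mul_mem hg (mem_K0.1 k.2).1) (M24.inv_mem hg)⟩, by
    obtain ⟨-, h1, h2⟩ := mem_K0.1 k.2
    refine mem_pair.2 ⟨?_, ?_⟩
    · show (g * (k : Equiv.Perm GolayPt) * g⁻¹) • g • dod0 = g • dod0
      rw [mul_smul, mul_smul, inv_smul_smul, h1]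
    · show (g * (k : Equiv.Perm GolayPt) * g⁻¹) • g • Q0 = g • Q0
      rw [mul_smul, mul_smul, inv_smul_smul, h2]⟩
  left_inv k := by
    apply Subtype.ext
    apply Subtype.ext
    show g * (g⁻¹ * ((k : ↥M24) : Equiv.Perm GolayPt) * g) * g⁻¹ = _
    group
  right_inv k := by
    apply Subtype.ext
    show g⁻¹ * (g * (k : Equiv.Perm GolayPt) * g⁻¹) * g = _
    group
  map_mul' a b := by
    apply Subtype.ext
    show g⁻¹ * (((a : ↥M24) : Equiv.Perm GolayPt) * ((b : ↥M24) : Equiv.Perm GolayPt)) * g =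
      (g⁻¹ * ((a : ↥M24) : Equiv.Perm GolayPt) * g) * (g⁻¹ * ((b : ↥M24) : Equiv.Perm GolayPt) * g)
    group

theorem conjEquiv_apply {g : Equiv.Perm GolayPt} (hg : g ∈ M24)
    (k : ↥(MulAction.stabilizer M24 (g • dod0) ⊓ MulAction.stabilizer M24 (g • Q0))) :
    ((conjEquiv hg k : ↥K0) : Equiv.Perm GolayPt) = g⁻¹ * ((k : ↥M24) : Equiv.Perm GolayPt) * g :=
  rfl

theorem conjEquiv_symm_apply {g : Equiv.Perm GolayPt} (hg : g ∈ M24) (k : ↥K0) :
    ((((conjEquiv hg).symm k :
      ↥(MulAction.stabilizer M24 (g • dod0) ⊓ MulAction.stabilizer M24 (g • Q0))) : ↥M24) :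
        Equiv.Perm GolayPt) = g * (k : Equiv.Perm GolayPt) * g⁻¹ :=
  rfl

theorem card_K0 : Nat.card ↥K0 = 432 := by
  have h1 : (1 : Equiv.Perm GolayPt) ∈ M24 := M24.one_mem
  rw [← Nat.card_congr (conjEquiv h1).toEquiv]
  apply card_stab_pair
  · rw [one_smul]; exact dod0_mem
  · rw [one_smul, one_smul]; exact Q0_mem

/-! ### The 432 elements -/

/-- the 432 elements of `K0`, as tables -/
def KK : ℕ := 0xbdab49ca307b9ac5a928398a418820bdab3a093003943336243aca86482fbdab260d3003d42314e8885a4a4d6ebdaac94cf073cb40a924899a810d60bdaa3150f0700b30b6284ad44930cfbdaa21b230781b2594e4485489d0cebd1d6831337d5b259a213a88518900bd1d2640f3abc9641a254a9a110d60bd1d0b0a33054c3535253ac819310fbd1cc90e3303cc2510e14a1a5b4175bd1c3158f3a8090435218acc56494fbd1c21c933781ac590e58a0c185955bcdd680e340554232d213b5056488fbcdd260a3403d43320e549161859b5bcdd0b49347d56c6aa253990110c80bcdcc958f4abd1022a2149965189a0bcdc313134781726a0e189145b40d5bcdc21c0f4a811622d258b541930cfbc9f6808ec055433052b8948da4d0ebc9f49da2cab890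428eb4982d10ca0bc9f3a0cec039423122d4a02b858b5bc9f0b4d2c754342a8ed8988b18900bc9e31422ca80964052d3954b9d0cebc9e21d12c700332922b3a14db40d5bc2b498d36038c252e283b424930afbc2b3a32367b972699243a82810ca0bc2b2650f673c33299288a964189a0bc2ac9093603cc3504e4895689d1aebc2a314a367816c684e8494c4a4d4ebc2a21ccf6700342ae244b4c86494fbb1f685132754b3098eb8a90d10c80bb1f4988f2038c35222b490adb4035bb1f3a4232ab916218ed4a8ab18820bb1f0b0cf2054c25152d8850b9d08ebb1e314d32700b40a22d390cb85955bb1e21da32a81102152b384cda4d4eb8c1684e22754b40ace64b48a9310fb8c149c122ab89642cea8b4a66482fb8c13a48e27b96c691268a0aab4035b8c1265922abc90416263856a9d1aeb8c10b30e27d5726962a48486a4d0eb8c0c9522273cb30912a3a166859b5b8816848e37d5ac586264950a9d08eb88149b0e37b9b25a12a89026858b5b8813a5923ab910234e68ac2a930afb881264e2373c342a126391aab4175b8810b5223754332b4ea4ad066488fb880c94123abd162062a395a6a4d6e6da14732357cef25a12a38485008c36da12638f59bc9432125886ea101636da0ea09351cd000de253ac8a930cf6da0c901351bd02090ea89ae5a39736da0204a3578eec590e549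90a750336da00150f598c8e35e2a4ad056482f6d614701361cc2242e2a3dcc56488f6d612609361bc20418e58916a752f36d60ea4a367cd6cb85253a0ca100836d60c950f69bcce2052a8a16500ae36d602038f698cd422e254dc2a9310f6d6001323678d72b98ea49025a39136d276ac92e7c2ec586263a0a4009436d275b0a2e1c02045d243aca66494f6d2726022e1bc22414e64aae4b55706d26c954ee83cb6506244a2e6101636d2620312e78ef2594e48a826ad9106d260158ee80cb555d268ac249310f6c9f6ad12c9c08e304eb8a157100a36c9f5b00ec1c022411378994b750b36c9f4708ec1cc2042a2b49497b54d06c9eea562c84d56284f74a08b008c36c9e205a2c80d552912b39837a39136c9e01392c98c9432a373942bad9106ba76a82341c1020ad263dd44930af6ba75b31347c172ba22438546100a36ba72658f483d552a2264856400ae36ba6c90a341bd000a8e449566adaf06ba62054f480d562ad248dd066482f6ba601493478d6cba8e689504b54306b1f6a88f21c1000992b890b7a39536b1f5b39329c0d4220f7884ab009436b1f475a3284cb5520eb484d7100836b1eea00f21cd02096374a8cbad8906b1e20513298cce2162b3a917b54306b1e01563280cb6519373910b7503368876ab0e07c2f259a2149148750b368875b52209c0ce25ce84ad41930a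f68874748e07ceec5a928894c1ad890688726552083d5629a28392e1a39736886ea592084d552dce18acc86488f6886c93a209bcd422921396e8b557068076aba229c09432ce14dca86494f68075b48e27c16cb9228498a1a3953680747552284cb652ce88dc81930cf68072652229bc8e315283a961adaf06806ea30e27cd72b95218a888b54d06806c9592283cb55122139968752f35d6d370130150a3236263dd419310f5d6d264cf0a3d4e41526891a100ee25d6ce9b2307d1b2b952139146181025d6cc90d3013ca0228e18a1a674ef45d6c3038f0a0953436214dca66488f5d6c01ca30789acba8e64a0a19b8945ce9580e2e158a025d283b42a930cf5ce92654eeb3c3031628492ea181a25ce90ab12e7daf26962a3902800cc25ce8c9022e13ca3204ea49ae8855b65ce830492e78aec684e8898aaac0965ce801c0eeb083535d2a8b4a86488f5c9f58392ca5953410f78942d00cc25c9f37422cb5035310ed49557181025c9f0a8cec158802a92d8a0379b8d45c9ee980ec15083286374994dac1165c9e304d2ca094e4062d39897854b65c9e01d62cb0830329373a08d74cb45c2d374a357d2ec691263950100d425c2d26013513c832a0e68aae19b9b45c2ce98d35150802de213b5066494f5c2cc938f5a3d1351121896e6181a25c2c30323578af26a0e14a88674cb45c2c01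ccf5a090e55e264b481930af5ba95849337d9acb9228394ca180225ba9260e3313c80298e8485aaac2f65ba90a8233158832b52a3dcc86482f5ba8c940f3b3cd50922a495a800ee25ba83054f3b08d00b5288dc8a930af5ba801b133789b2b98ea88488854b65b1f5800f2158a3221378a8cd74c345b1f370cf2150a021a2d48517855565b1f0acd32a590e514ed890d7180225b1ee9d632b50d0094f74910d00d425b1e304232b08d50a12d3a8b79b8945b1e01b932a091351a37384adac09658c5584e20a594e45ce44b4c56482f58c53730e07d2f26992488545ac11658c5263a20a3d5341925386e4855b658c50ac8e07daec6aa254a0c474c3458c4e9c120b50d50dce58b5449310f58c4c95520b3cd00aa243a2e59b9b458055830e37d9b2ba2244a8259b8d45805375523b5030334e48dd056494f5805264123b3c35322253a9a474ef458050aba23a5913534e54dc24930cf5804e9c8e37d1acb852589904855565804c94e23a3d0e50524399a5ac2f655a1370d35052e23122d385057c96c55a1278935032e3320e58ac8d74c3455a0f94cf5a310e5dd2d898851882055a0e9ca356508f0dd253990d10d6055a0313e35600920a0ed4aee59b8d455a021b8f5a011359225486ed93ccc5561373e36650322192d3dd6518900556127b8f6a3173419258dc2d10c805560f90d36030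c2baced8a0259b8945560e98936050c3b86253916d93d0c5560314cf6a016e4062d490c57caec556021ca366002f22ce54a0cd74ef454e96a8a2e042e33052b390a87c9ac54e95b492e6402f25e28398ab189a054e9278e2e032e2314e84b42bad89054e8f958ee830b56de2b4982810c8054e83154ee800b668528892eb93ccc54e821bd2e60032214eb8b6e8b54d054996a8cef042e232d218a1a474cb454995b4d2fa416e45ce4899a110ca054993708ef052e33362449561ad9105498e9da2f851b52dce14996418900549831392fa017343621396e4b54d0549821d62f801b62ad243a2e19b8d453d96ab932a4113598e18dca4189a053d95b08f2040c3ba1248aca19b9b453d9375632850b6698e44dd0110d6053d8e98cf2050c2b96214b504b557053d8315a32800b56a1213acc474ef453d821cd32a010e596243b4c1adaf053a96abd336409209a2b3dda810ca053a95b0e33040c2b9128385ab93cac53a927d4f3831b629a284dc8b1882053a8f90a33030c3bb4eb49488b543053a83149336008f0b4e8894cbadaf053a821d8f3801b52912b884c87caec50c16ac8e26408f0ae264a0b79b9b450c15b3a22a4173410f7484a67c9ac50c1375922850b5690e68857793d0c50c127ce22a316e415263b497b543050c0f95522830b66ae373a08674c3450c0e9bce26509209537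8b566ad91050816ace23a410e584e6491b793cac50815b3ce364032222374ada674cb450813748e36502f2352689517b5570508127d923831b52a2263ac379b8945080f93a23a31135b53739426ad8905080e9d523851b6284f7891067c96c45ab373230950af33524385571016345aaf638f0a49535b537884a4008c345aae981301d1a209637399447b17245aac789301c9a00a8e48acb79b8d445aa204cf0a0d4e59624499b763c3245aa013e3090cac328f74ada474c3444e9683d2e954ac3062b3b6ea1008344e90b022e1d4226952a39aeb63c9244e8f60a2e1c8206dceb490aab40d544e8c7c0eeacaf62062a4b4ab008c344e82058eea8ef02152b8982a7b1b244e801312e90caf35cea8902b859b5442b3709361d02069a243957763d52442af601361c8226acf78a8c474cb4442ae9be36950cc285373b56400943442ac7ccf6a496e505248b4d7100a3442a20323690ccf2ace44a8379b9b4442a0138f6a0d7351a37494247b1b243e5684d2ca554e584e68b48500ae343e53700ec1d022692264dd45b417543e50b08ec1d4206a9258ac8674ef443e4e9c22cad096b84e54b5461016343e420392ca0d53592253dc26859b543e4015a2ca8c90ba9263ac259b9b443a9680a331d5a00992b3948a7b2f243a90b3133954cf2b62a3848b00ae343a8f658f3ac890bb62b484ca10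0a343a8c782331c9a2090ea4dccb858b543a8203d3390ccc290eb8ddaab403543a80140f3a8c96b992a895ab63c3243256800ef1d5a20ad268aae59b8944325375a2fad2f0234e6485650094343250b392fa5573534e5886e6100834324e988ef1d1a00de254916685955432420422fa8ef622d253a9a674c344324014d2fa0d6e55e26391a5b40354087683a20a5553598e1496ed63c924087374120ad2f6218ed895417b17240870b3ce0954cc2aa2d4aee19b8944086f64e20a494e5dd2d390c1858b54086e9b0e0950cf2dd218914db41754086c7d920acaf022a213accd74cb440076830e2954af32e214a88d74ef44007373ce2950ac3112d8dd618595540070b4e22a556e514ed498817b2f24006f64122ac896bae2d3a8a19b8d44006e9d922ad090b94e18996d63d524006c7ba22a4973511213dcadb40d5356d473e3094cac4292b3dda110c80356cf6093004943bb4eb890a1a3913356cea0d3004d42b96213a1ab63c92356cc7b8f09c9b4229218dcab18900356c313230900af434e14914b752f3356c21d0f0981ae2162b4a1417b2f2352758312e958af45e243a82d10d6035270a8e2e05ae25152d3a0247b1723526f640eeb48355de2d4a8a4189003526c78a2e04ae3504e44acadac1163526313d2e900ac404ed8aee485556352621d4eeb0030595248a2ed63d52342d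47093504ee35222b394817b1b2342cf650f59c88e6dd2b8a90110ca0342cea323594d0f2dd213a88b189a0342cc78d3504ae2510e18b50b750b3342c3138f5980946a221496eb63d52342c21be359010c290eb4b6e1a395333e5580cec05942b91288b425a397333e547562cb4c305a8e84dc85189a033e50ab92c9d8946a8e58dc2810d6033e4ea08ec04d43b86254ac88855b633e431512c9808e686283ad45ac2f633e421c22cb0035591253b548752f333a7580a3405943ba1243956d63c3233a70abd349590c2aa2d3dd641882033a6f60e3404942baced48504854b633a6c7d4f4b49700aa244dd0d10ca033a63140f4b01750a12d895447b2f233a621b1349010f2ace48854dac2f6332558512f9d9ae25ce88a965188203325470cef04ee252e28485a5ac09633250a88ef05ae35352589168750333324ea422fb4d750dce54a9a810c80332431562fb01700b528392e5a3953332421b92f981b422e25386e88555630c1583ce2958ac412374b56a7503330c14730e294caf42d2a88497855b630c10ad2229d88e694ea4a17763c3230c0f63a229c8946ad37384aaac11630c0ea5522b4d70094f78a08a7b1b230c0c7c122b49750922a3b4b7a39133081583a239d9b4220f74942a7b1723081474123b4c355a0ea895b763c9230810ab0e39590f2b62a49037a39733080f65523b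48305b6373910a750b33080ea3ce394d0c285378adaaac0963080c7d2239c9ae2052a3ad17854b62da1498135138835a22a39aed63c322da13a3e359390c3112d3aeea180222da0f60d35148805dced8850a9d0ce2da0c7d0f574af30912a8ad0d00cc22da0304cf570af40a22d4988a7b1722da001b2359090f35cea4848da4d6e2d6149b236938cf42d2a3902d00ee22d613a0d361396021a2d3a02a7b2f22d60f64cf674834bad2d890ca181022d60c7813614963204ea8dccda4d0e2d60303e36908cc404ed4dd6a9d08e2d6001d0f670833b9a2a4a16d63c922d1d6a8e3314080599213a1b763d522d1d5b3d33940cc412373ada100d422d1cf60233148835b4f74a8c1ad9102d1cc7d8f3849b5512214acd7181022d1c303133908cf434e18a897b55702d1c01d4f3809b6519378a0817b1722cdd6ab1349410f32e2139157181a22cdd5b02341416322137399417b1b22cdcf654f4849566ae374910100cc22cdcc78e3414960228e14b517b54d02cdc3058f4809556a1218997763c922cdc01bd349090c328f78b561ad8902be56a80ec14083585268dd489d1ae2be55b512c74033b90e88ad46181a22be5498cec138805aa284b426adaf02be53a5a2c83955690e64ac2800ee22be430562c80956685283dc86a4d6e2be401cd2c70834baa263b488b55702b256acd2f742f40ac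e6891a800d422b255b0cef1416025d28885a6a4d4e2b2549d62f839b652ce8492e6180222b253a00ef13963236264aae8b54302b2430512f70af30b6283a966ad8902b2401da2f809b555d26385689d08e28c56ad220742f3098eb4a1447b1b228c55b30e0940cf45e244854b9d1ae28c549bce0938cc4292b8b6e4b543028c53a552083956698e48a2eb63c3228c4f65920849556de2b384c4a4d0e28c4c7ce2074af40a9243b4cbad91028056abce39410c3062b4dda4a4d4e28055b4e2374034ba0e4499ab63d52280549d923839b5520eb898247b2f228053a30e39390f335248a82badaf02804f6522374833bb52b3a904b54d02804c7d523849b6506243dd0b9d0ce25ab470d3014ca05aa28385b793ccc25ab27d0f09b1ae315288ad571802225aaf90130130a35b4f7899487503325aaea3e3064d52095373ada800cc225aa304a306094f0b4e8498b7a397325aa01b8f0989b432a37484a87c96c252768022e154a3585263aaed93d0c252727d8eeab2f0416264ac2d00d4225270b3d2e654325162d3aee6181022526f90e2e130a05dced4a0268595525263040eea8af64052d8a8a67c96c252601c92e6082f55ce68a0adb4175249968392f9d5b432ce1896ea18102249947422facef642cea495a100cc224990b00ef155632b52a89ae1a39132498ea0cef14d602de214a1aa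b40d52498305a2fa8af0435213996a750b3249801d12f989ae35e2a3a161858b5242b474a3664c2f52d28394d7181a2242b278d3613160298e88b437a3953242af938f69b0d46ad378942800d42242aea013614d63286373a8c87c9ac242a3050f6988ce686284a97793cac242a01be3660832518f74b568750b323d9680cf2154a0599218b50a752f323d94700f214ca35a22a4dcc1859b523d90b51329d4ce694ea8ad0100ee223d8ea5a32acd10b94e14acca181a223d8303932988d46a2213dcaab417523d801c232a8916b992a3b4a1a397323a76849346554f0ae263950d00ee223a7278234131632a0e64dd4db403523a70b0e34155602a92d385067caec23a6f940f4ab116bae2d495461802223a6303d34609520a0ed8dd66858b523a601d8f4a8910ba9268856d93cac20c5683ce06555209a2b4b6e5a391320c5475920acef0428eb884c57c9ac20c527c120ab2f641a253b54b7503320c50b3a209d4d46a8e5486eb93d0c20c4f952209b0ce6dd2b3a145b403520c4ea48e064d4f0dd258a0cb859b520056852239d5ae304eb4a9057caec2005473ce364c325212b8dda5b40d5200527ba239b1b4321253dc2b8595520050b48e36542f536254990b752f32004f95923ab110bb62b39825a39532004ea4123acd16b84e58a9ab93ccc0d6d4989301b9a042a2b390a67caec0d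6d3a4a306394f235263a0ab00ae30d6d2781301b1a2414e68dd4b9d08e0d6cf950f0730b3bb52b8a146100830d6c203e3060d52214eb4dda6a4d0e0d6c014cf070cb4baa26491ab93d0c0d1d5802331d9a2411373a8c57c96c0d1d278a331b1a0418e54ac97855560d1d0ac9336588f536253a0d7101630d1cf954f3b30d05b6374a085009430d1c2040f3b0cd5591258a9b793d0c0d1c013d3360c92518f78ada5ac1160cdd583d3465952222373b565008c30cdd27c0f4b3175322254b557100830cdd0a8a341d9006a9253917793ccc0cdcf902341b1026acf749945ac0960cdc20493460d4f22ce589917855b60cdc0154f4b0d7032937891057c9ac0c995808ef1d9a045d248956a9d0ce0c994980ef1b9a242e2a49ae4854b60c993a562fb3970334e44a2ea100a30c990ad12f75af32b4ea8a164008c30c98204d2f70ef42ae24399aaac1160c9801422fb0d7535d2a395a4a4d0e0c2d49be35638925212b3b6e6100a30c2d3a01351b902692263aaeb93cac0c2d27ccf5732f42a1268b48b009430c2cf909351b1006dceb89486a4d4e0c2c2050f570ef32922b4a9067c9ac0c2c014a3560c8f55ce64950b9d1ae0bd9584d32758b4ba0e48b4ca101630bd949c232b38d55a0ea4b4a400ae30bd93a08f21b90069a244acaaac2f60bd90a80f21d9026952a8dcc4a4d6e0bd8205632b0cd0595243dd0a9d1ae0bd801513270cb3b9a2a3ad04855b608875848e06594f25e28494cda4d6e088749d520b38d05a8e8892ed93cac08873a3ce0639522192d8aee8854b6088727d220732f3299283ad4dac09608870ace2075af42a8ed490c87c96c0886f94120b30d55de2d395489d08e0807585222758b3b90e84a96d93ccc080749c8e26388f52d28898adac2f608073a4122b3975310ed8a8a87caec080727d522b3170316283dc8da4d4e08070abce2658925162d4dd689d0ce0806f94e22730b4bad2d3988885556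

/-- the `i`-th table -/
def Ht (i : ℕ) : ℕ := get120 KK i

set_option maxRecDepth 100000 in
theorem all_in : allFold (fun i => inK0 (Ht i)) 432 = true := by decide +kernel

set_option maxRecDepth 100000 in
theorem all_lt : allFold (fun i => decide (Ht i < Ht (i + 1))) 431 = true := by decide +kernel

theorem Ht_lt_of_lt {i j : ℕ} (hij : i < j) (hj : j < 432) : Ht i < Ht j := by
  induction j with
  | zero => omega
  | succ j ih =>
    have hstep : Ht j < Ht (j + 1) := by
      have := (allFold_eq_true _ _).1 all_lt j (by omega)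
      simpa using this
    rcases Nat.lt_succ_iff_lt_or_eq.1 hij with h | h
    · exact (ih h (by omega)).trans hstep
    · rw [h]; exact hstep

theorem Ht_lt (i : ℕ) : Ht i < 2 ^ 120 := by
  unfold Ht get120
  exact Nat.and_lt_two_pow _ (by norm_num)

theorem testBit_img (T k r : ℕ) (hr : r < 5) : (img T k).testBit r = T.testBit (5 * k + r) := by
  unfold img
  rw [Nat.testBit_and, Nat.testBit_shiftRight]
  have : (31 : ℕ).testBit r = true := by
    have h31 : (31 : ℕ) = 2 ^ 5 - 1 := by norm_num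
    rw [h31, Nat.testBit_two_pow_sub_one]
    simpa using hr
  rw [this, Bool.and_true]

theorem table_ext {T T' : ℕ} (hT : T < 2 ^ 120) (hT' : T' < 2 ^ 120)
    (h : ∀ k < 24, img T k = img T' k) : T = T' := by
  apply Nat.eq_of_testBit_eq
  intro b
  by_cases hb : b < 120
  · have hr : b % 5 < 5 := Nat.mod_lt _ (by norm_num)
    have hk : b / 5 < 24 := by omega
    have e : 5 * (b / 5) + b % 5 = b := Nat.div_add_mod b 5
    rw [← e, ← testBit_img T _ _ hr, ← testBit_img T' _ _ hr, h _ hk]
  · have h120 : (2 : ℕ) ^ 120 ≤ 2 ^ b := Nat.pow_le_pow_right (by norm_num) (by omega)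
    rw [Nat.testBit_lt_two_pow (lt_of_lt_of_le hT h120),
      Nat.testBit_lt_two_pow (lt_of_lt_of_le hT' h120)]

theorem eq_of_represents {σ τ : Equiv.Perm GolayPt} {T : ℕ} (h1 : Represents σ T)
    (h2 : Represents τ T) : σ = τ := by
  apply Equiv.ext
  intro p
  apply idx_injective
  rw [h1 p, h2 p]

theorem exists_sig (i : Fin 432) : ∃ σ ∈ K0, Represents σ (Ht i) :=
  exists_of_inK0 ((allFold_eq_true _ _).1 all_in i i.2)

/-- the element of `K0` with the `i`-th table -/
noncomputable def sig (i : Fin 432) : ↥K0 :=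
  ⟨(exists_sig i).choose, (exists_sig i).choose_spec.1⟩

theorem sig_spec (i : Fin 432) : Represents (sig i : Equiv.Perm GolayPt) (Ht i) :=
  (exists_sig i).choose_spec.2

theorem sig_injective : Function.Injective sig := by
  intro i j h
  have e : Ht i = Ht j := by
    apply table_ext (Ht_lt _) (Ht_lt _)
    intro k hk
    have h1 := sig_spec i (pt k)
    have h2 := sig_spec j (pt k)
    rw [idx_pt k hk] at h1 h2
    rw [← h1, ← h2, h]
  apply Fin.ext
  by_contra hne
  rcases Nat.lt_or_gt_of_ne hne with h' | h'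
  · exact absurd e (ne_of_lt (Ht_lt_of_lt h' j.2))
  · exact absurd e.symm (ne_of_lt (Ht_lt_of_lt h' i.2))

theorem sig_surjective : Function.Surjective sig := by
  have : Finite ↥K0 := Nat.finite_of_card_ne_zero (by rw [card_K0]; norm_num)
  have := Function.Injective.bijective_of_nat_card_le sig_injective (by
    rw [card_K0, Nat.card_eq_fintype_card, Fintype.card_fin])
  exact this.2

theorem exists_index {k : Equiv.Perm GolayPt} (hk : k ∈ K0) :
    ∃ i < 432, Represents k (Ht i) := by
  obtain ⟨i, hi⟩ := sig_surjective ⟨k, hk⟩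
  refine ⟨i, i.2, ?_⟩
  have := sig_spec i
  rw [hi] at this
  exact this

/-! ### The nine points as an affine plane -/

/-- the plane over the field with three elements -/
abbrev V : Type := Fin 2 → ZMod 3

/-- the nine points, by code -/
def PN : ℕ := 0x825d4d2acc1
/-- the codes of the nine points -/
def CO : ℕ := 0x325294a5294a48911528484674a409

/-- the code of a vector -/
def code (v : V) : ℕ := 3 * (v 0).val + (v 1).val

/-- the point with given coordinates -/
def pv (v : V) : GolayPt := pt (img PN (code v))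

/-- the vector with a given code -/
def vecOf (a : ℕ) : V := ![((a / 3 : ℕ) : ZMod 3), ((a % 3 : ℕ) : ZMod 3)]

theorem code_lt (v : V) : code v < 9 := by
  have h0 := ZMod.val_lt (v 0)
  have h1 := ZMod.val_lt (v 1)
  unfold code
  omega

theorem code_div (v : V) : code v / 3 = (v 0).val := by
  have h1 := ZMod.val_lt (v 1)
  unfold code
  omega

theorem code_mod (v : V) : code v % 3 = (v 1).val := by
  have h1 := ZMod.val_lt (v 1)
  unfold code
  omega

theorem vecOf_code (v : V) : vecOf (code v) = v := by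
  unfold vecOf
  rw [code_div, code_mod]
  ext i
  fin_cases i
  · simp
  · simp

theorem PN_lt : ∀ a < 9, img PN a < 24 := by decide
theorem CO_PN : ∀ a < 9, img CO (img PN a) = a := by decide

theorem idx_pv (v : V) : idx (pv v) = img PN (code v) := idx_pt _ (PN_lt _ (code_lt v))

theorem pv_injective : Function.Injective pv := by
  intro v w h
  have h1 := congrArg idx h
  rw [idx_pv, idx_pv] at h1
  have h2 := congrArg (img CO) h1
  rw [CO_PN _ (code_lt v), CO_PN _ (code_lt w)] at h2
  rw [← vecOf_code v, ← vecOf_code w, h2]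

/-- an affine map on codes -/
def affN (m00 m01 m10 m11 t0 t1 a : ℕ) : ℕ :=
  3 * ((m00 * (a / 3) + m01 * (a % 3) + t0) % 3) + (m10 * (a / 3) + m11 * (a % 3) + t1) % 3

theorem affN_lt (m00 m01 m10 m11 t0 t1 a : ℕ) : affN m00 m01 m10 m11 t0 t1 a < 9 := by
  unfold affN
  omega

theorem val_aux (a b c : ℕ) (x y : ZMod 3) :
    ((a : ZMod 3) * x + (b : ZMod 3) * y + (c : ZMod 3)).val = (a * x.val + b * y.val + c) % 3 := by
  rw [← ZMod.val_natCast]
  congr 1
  push_cast
  rw [ZMod.natCast_zmod_val, ZMod.natCast_zmod_val]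

theorem code_affine (m00 m01 m10 m11 t0 t1 : ℕ) (v : V) :
    code (Matrix.mulVec !![(m00 : ZMod 3), (m01 : ZMod 3); (m10 : ZMod 3), (m11 : ZMod 3)] v +
      ![(t0 : ZMod 3), (t1 : ZMod 3)]) = affN m00 m01 m10 m11 t0 t1 (code v) := by
  unfold affN
  rw [code_div, code_mod]
  unfold code
  have e0 : (Matrix.mulVec !![(m00 : ZMod 3), (m01 : ZMod 3); (m10 : ZMod 3), (m11 : ZMod 3)] v +
      ![(t0 : ZMod 3), (t1 : ZMod 3)]) 0 = (m00 : ZMod 3) * v 0 + (m01 : ZMod 3) * v 1 + t0 := by
    simp [dotProduct, Fin.sum_univ_two]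
  have e1 : (Matrix.mulVec !![(m00 : ZMod 3), (m01 : ZMod 3); (m10 : ZMod 3), (m11 : ZMod 3)] v +
      ![(t0 : ZMod 3), (t1 : ZMod 3)]) 1 = (m10 : ZMod 3) * v 0 + (m11 : ZMod 3) * v 1 + t1 := by
    simp [dotProduct, Fin.sum_univ_two]
  rw [e0, e1, val_aux, val_aux]

/-- the translation part read off a table -/
def t0 (T : ℕ) : ℕ := img CO (img T (img PN 0)) / 3
def t1 (T : ℕ) : ℕ := img CO (img T (img PN 0)) % 3
def c1 (T : ℕ) : ℕ := img CO (img T (img PN 3))
def c2 (T : ℕ) : ℕ := img CO (img T (img PN 1))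
def m00 (T : ℕ) : ℕ := (c1 T / 3 + 3 - t0 T) % 3
def m10 (T : ℕ) : ℕ := (c1 T % 3 + 3 - t1 T) % 3
def m01 (T : ℕ) : ℕ := (c2 T / 3 + 3 - t0 T) % 3
def m11 (T : ℕ) : ℕ := (c2 T % 3 + 3 - t1 T) % 3

/-- the check that a table acts on the nine points by the affine map read off it -/
def affOK (T : ℕ) : Bool :=
  allFold (fun a => img T (img PN a) ==
    img PN (affN (m00 T) (m01 T) (m10 T) (m11 T) (t0 T) (t1 T) a)) 9

set_option maxRecDepth 100000 in
theorem all_aff : allFold (fun i => affOK (Ht i)) 432 = true := by decide +kernel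

/-- the linear part read off a table -/
def matOf (T : ℕ) : Matrix (Fin 2) (Fin 2) (ZMod 3) :=
  !![(m00 T : ZMod 3), (m01 T : ZMod 3); (m10 T : ZMod 3), (m11 T : ZMod 3)]

/-- the translation part read off a table -/
def trOf (T : ℕ) : V := ![(t0 T : ZMod 3), (t1 T : ZMod 3)]

/-- `k` acts on the nine points as the affine map `v ↦ M v + b` -/
def IsAff (k : Equiv.Perm GolayPt) (M : Matrix (Fin 2) (Fin 2) (ZMod 3)) (b : V) : Prop :=
  ∀ v : V, k (pv v) = pv (Matrix.mulVec M v + b)

theorem isAff_of_table {k : Equiv.Perm GolayPt} {T : ℕ} (hT : Represents k T)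
    (hc : affOK T = true) : IsAff k (matOf T) (trOf T) := by
  intro v
  apply idx_injective
  rw [hT, idx_pv, idx_pv, matOf, trOf, code_affine]
  exact beq_iff_eq.1 ((allFold_eq_true _ _).1 hc (code v) (code_lt v))

theorem isAff_unique {k : Equiv.Perm GolayPt} {M M' : Matrix (Fin 2) (Fin 2) (ZMod 3)} {b b' : V}
    (h : IsAff k M b) (h' : IsAff k M' b') : M = M' ∧ b = b' := by
  have e : ∀ v : V, Matrix.mulVec M v + b = Matrix.mulVec M' v + b' := by
    intro v
    apply pv_injective
    rw [← h v, ← h' v]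
  have hb : b = b' := by
    have := e 0
    simpa using this
  refine ⟨?_, hb⟩
  rw [Matrix.ext_iff_mulVec]
  intro v
  have := e v
  rw [hb] at this
  exact add_right_cancel this

theorem isAff_one : IsAff 1 1 0 := by
  intro v
  simp

theorem isAff_mul {k k' : Equiv.Perm GolayPt} {M M' : Matrix (Fin 2) (Fin 2) (ZMod 3)} {b b' : V}
    (h : IsAff k M b) (h' : IsAff k' M' b') : IsAff (k * k') (M * M') (Matrix.mulVec M b' + b) := by
  intro v
  rw [Equiv.Perm.mul_apply, h' v, h, Matrix.mulVec_add, Matrix.mulVec_mulVec, add_assoc]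

theorem exists_isAff {k : Equiv.Perm GolayPt} (hk : k ∈ K0) :
    ∃ (M : Matrix (Fin 2) (Fin 2) (ZMod 3)) (b : V), IsAff k M b := by
  obtain ⟨i, hi, hT⟩ := exists_index hk
  exact ⟨_, _, isAff_of_table hT ((allFold_eq_true _ _).1 all_aff i hi)⟩

/-- the linear part of an element of `K0` -/
noncomputable def linPart (k : ↥K0) : Matrix (Fin 2) (Fin 2) (ZMod 3) := (exists_isAff k.2).choose

/-- the translation part of an element of `K0` -/
noncomputable def trPart (k : ↥K0) : V := (exists_isAff k.2).choose_spec.choose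

theorem isAff_parts (k : ↥K0) : IsAff (k : Equiv.Perm GolayPt) (linPart k) (trPart k) :=
  (exists_isAff k.2).choose_spec.choose_spec

/-- the linear part as a homomorphism -/
noncomputable def linHom : ↥K0 →* Matrix (Fin 2) (Fin 2) (ZMod 3) where
  toFun := linPart
  map_one' := (isAff_unique (isAff_parts 1) isAff_one).1
  map_mul' a b := (isAff_unique (isAff_parts (a * b)) (isAff_mul (isAff_parts a) (isAff_parts b))).1

/-- the linear part as a homomorphism to the general linear group -/
noncomputable def glHom : ↥K0 →* GL (Fin 2) (ZMod 3) := linHom.toHomUnits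

theorem glHom_sig (i : Fin 432) : ((glHom (sig i) : GL (Fin 2) (ZMod 3)) :
    Matrix (Fin 2) (Fin 2) (ZMod 3)) = matOf (Ht i) :=
  (isAff_unique (isAff_parts (sig i))
    (isAff_of_table (sig_spec i) ((allFold_eq_true _ _).1 all_aff i i.2))).1

/-- for each invertible matrix, the index of a table with that linear part -/
def PRE : ℕ := 0x180025000600000022000300100000001900000024000000080020000f00040000002a002b0000002d002c0000002e002f00000000000000280000000c001f0009001c0000000000020026000d0000001e001b000a00000015001400000012001300000016001700000007000e00270001001a00210000000000000011000b0029001d00050023000000000000000000000000000000000000000000000000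

/-- for each point of the base dodecad, the index of a table mapping the point 0 to it -/
def TIX : ℕ := 0x3300c200310063000000610122000100000003000000000000000000000000000000000010003e0000009e

def preOK (c : ℕ) : Bool :=
  ((c / 27) * (c % 3) + 2 * ((c / 9) % 3) * ((c / 3) % 3)) % 3 == 0 ||
    (decide (get16 PRE c < 432) && m00 (Ht (get16 PRE c)) == c / 27 &&
      m01 (Ht (get16 PRE c)) == (c / 9) % 3 && m10 (Ht (get16 PRE c)) == (c / 3) % 3 &&
      m11 (Ht (get16 PRE c)) == c % 3)

theorem all_pre : allFold preOK 81 = true := by decide +kernel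

def tixOK (j : ℕ) : Bool :=
  !(D0.testBit j) || (decide (get16 TIX j < 432) && img (Ht (get16 TIX j)) 0 == j)

theorem all_tix : allFold tixOK 24 = true := by decide +kernel

theorem three_eq_zero : (3 : ZMod 3) = 0 := by decide

theorem glHom_surjective : Function.Surjective glHom := by
  intro A
  have b00 := ZMod.val_lt (A.1 0 0)
  have b01 := ZMod.val_lt (A.1 0 1)
  have b10 := ZMod.val_lt (A.1 1 0)
  have b11 := ZMod.val_lt (A.1 1 1)
  have hc : 27 * (A.1 0 0).val + 9 * (A.1 0 1).val + 3 * (A.1 1 0).val + (A.1 1 1).val < 81 := by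
    omega
  have e00 : (27 * (A.1 0 0).val + 9 * (A.1 0 1).val + 3 * (A.1 1 0).val + (A.1 1 1).val) / 27 =
      (A.1 0 0).val := by omega
  have e01 : ((27 * (A.1 0 0).val + 9 * (A.1 0 1).val + 3 * (A.1 1 0).val + (A.1 1 1).val) / 9) % 3
      = (A.1 0 1).val := by omega
  have e10 : ((27 * (A.1 0 0).val + 9 * (A.1 0 1).val + 3 * (A.1 1 0).val + (A.1 1 1).val) / 3) % 3
      = (A.1 1 0).val := by omega
  have e11 : (27 * (A.1 0 0).val + 9 * (A.1 0 1).val + 3 * (A.1 1 0).val + (A.1 1 1).val) % 3 =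
      (A.1 1 1).val := by omega
  have h := (allFold_eq_true _ _).1 all_pre _ hc
  unfold preOK at h
  rw [e00, e01, e10, e11, Bool.or_eq_true] at h
  rcases h with h | h
  · exfalso
    rw [beq_iff_eq] at h
    have hdet : (A.1).det ≠ 0 := by
      have := (Matrix.isUnit_iff_isUnit_det (A.1)).1 A.isUnit
      exact this.ne_zero
    apply hdet
    rw [Matrix.det_fin_two]
    have h3 : (((A.1 0 0).val * (A.1 1 1).val + 2 * (A.1 0 1).val * (A.1 1 0).val : ℕ) : ZMod 3) = 0 := by
      rw [ZMod.natCast_eq_zero_iff]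
      exact Nat.dvd_of_mod_eq_zero h
    push_cast at h3
    simp only [ZMod.natCast_zmod_val] at h3
    linear_combination h3 - (A.1 0 1 * A.1 1 0) * three_eq_zero
  · simp only [Bool.and_eq_true, decide_eq_true_eq, beq_iff_eq] at h
    obtain ⟨⟨⟨⟨hi, h00⟩, h01⟩, h10⟩, h11⟩ := h
    refine ⟨sig ⟨_, hi⟩, ?_⟩
    apply Units.ext
    rw [glHom_sig]
    unfold matOf
    rw [h00, h01, h10, h11]
    ext i j
    fin_cases i <;> fin_cases j <;> simp

theorem card_GL23 : Nat.card (GL (Fin 2) (ZMod 3)) = 48 := by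
  rw [Matrix.card_GL_field]
  simp [Fin.prod_univ_two]

theorem exists_map_pt0 {p : GolayPt} (hp : p ∈ dod0) : ∃ k ∈ K0, k (pt 0) = p := by
  have hb : D0.testBit (idx p) = true := by
    rw [← enc_dod0', testBit_enc_idx]
    exact hp
  have h := (allFold_eq_true _ _).1 all_tix (idx p) (idx_lt p)
  unfold tixOK at h
  rw [hb] at h
  simp only [Bool.not_true, Bool.false_or, Bool.and_eq_true, decide_eq_true_eq, beq_iff_eq] at h
  obtain ⟨hi, himg⟩ := h
  refine ⟨sig ⟨_, hi⟩, (sig ⟨_, hi⟩).2, ?_⟩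
  apply idx_injective
  rw [sig_spec ⟨_, hi⟩ (pt 0), idx_pt 0 (by norm_num)]
  exact himg

theorem exists_map_dod0 {p q : GolayPt} (hp : p ∈ dod0) (hq : q ∈ dod0) :
    ∃ k ∈ K0, k p = q := by
  obtain ⟨k1, hk1, e1⟩ := exists_map_pt0 hp
  obtain ⟨k2, hk2, e2⟩ := exists_map_pt0 hq
  refine ⟨k2 * k1⁻¹, K0.mul_mem hk2 (K0.inv_mem hk1), ?_⟩
  show k2 (k1.symm p) = q
  rw [← e1, Equiv.symm_apply_apply, e2]

theorem main (d : Finset GolayPt) (hd : d ∈ dodecads) (Q : Finset (Finset GolayPt))
    (hQ : Q ∈ quartets d) :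
    Nat.card ↥(MulAction.stabilizer M24 d ⊓ MulAction.stabilizer M24 Q) = 432 ∧
    (∃ (N : Subgroup ↥(MulAction.stabilizer M24 d ⊓ MulAction.stabilizer M24 Q)) (_ : N.Normal),
      Nat.card N = 9 ∧
      Nonempty (↥(MulAction.stabilizer M24 d ⊓ MulAction.stabilizer M24 Q) ⧸ N ≃*
        GL (Fin 2) (ZMod 3))) ∧
    ∀ p ∈ d, ∀ q ∈ d, ∃ g ∈ (MulAction.stabilizer M24 d ⊓ MulAction.stabilizer M24 Q),
      ((g : ↥M24) : Equiv.Perm GolayPt) p = q := by
  have hcard := card_stab_pair d hd Q hQ
  obtain ⟨g, hg, rfl, rfl⟩ := exists_smul_pair hd hQ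
  refine ⟨hcard, ?_, ?_⟩
  · let φ : ↥(MulAction.stabilizer M24 (g • dod0) ⊓ MulAction.stabilizer M24 (g • Q0)) →*
        GL (Fin 2) (ZMod 3) := glHom.comp (conjEquiv hg).toMonoidHom
    have hφ : Function.Surjective φ := glHom_surjective.comp (conjEquiv hg).surjective
    refine ⟨φ.ker, inferInstance, ?_, ⟨QuotientGroup.quotientKerEquivOfSurjective φ hφ⟩⟩
    have h1 := Subgroup.card_eq_card_quotient_mul_card_subgroup φ.ker
    rw [hcard, Nat.card_congr (QuotientGroup.quotientKerEquivOfSurjective φ hφ).toEquiv,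
      card_GL23] at h1
    omega
  · intro p hp q hq
    have hp' : g⁻¹ p ∈ dod0 := by
      have := Finset.smul_mem_smul_finset (a := g⁻¹) hp
      rwa [inv_smul_smul] at this
    have hq' : g⁻¹ q ∈ dod0 := by
      have := Finset.smul_mem_smul_finset (a := g⁻¹) hq
      rwa [inv_smul_smul] at this
    obtain ⟨k, hk, hkpq⟩ := exists_map_dod0 hp' hq'
    refine ⟨((conjEquiv hg).symm ⟨k, hk⟩).1, ((conjEquiv hg).symm ⟨k, hk⟩).2, ?_⟩
    rw [conjEquiv_symm_apply]
    show g (k (g⁻¹ p)) = q
    rw [hkpq]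
    exact Equiv.apply_symm_apply g q

end Cfsg.Agent.Lib.Helper27_K0Affine
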