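import Mathlib
import Cfsg.Prelude.Def_KGroupFacts
import Cfsg.Agent.Lib.Helper27_K0Affine

/-!
Enumerating a group of permutations of the 24 points by a chain of stabilisers (tables and words in
two generators, checked by counting), conjugacy of the elements of prime order by Sylow's theorem,
and the classification of the automorphisms of a group with two generators by the images of the
generators.
-/

set_option autoImplicit false
open scoped Pointwise
open Cfsg
open Cfsg.Agent.Lib.Helper26_Golay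
open Cfsg.Agent.Lib.Helper27_Quartets
open Cfsg.Agent.Lib.Helper27_K0Affine

namespace Cfsg.Agent.Lib.Helper27_EnumGroup


/-! ### Point maps describing permutations -/

/-- the map `f` on indices describes the permutation `σ` -/
def RepF (σ : Equiv.Perm GolayPt) (f : ℕ → ℕ) : Prop := ∀ p, idx (σ p) = f (idx p)

theorem repF_of_represents {σ : Equiv.Perm GolayPt} {T : ℕ} (h : Represents σ T) :
    RepF σ (img T) := h

theorem repF_one : RepF 1 (fun x => x) := fun _ => rfl

theorem repF_mul {σ τ : Equiv.Perm GolayPt} {f g : ℕ → ℕ} (hσ : RepF σ f) (hτ : RepF τ g) :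
    RepF (σ * τ) (fun x => f (g x)) := by
  intro p
  rw [Equiv.Perm.mul_apply, hσ, hτ]

theorem repF_congr {σ : Equiv.Perm GolayPt} {f g : ℕ → ℕ} (hσ : RepF σ f)
    (h : ∀ x < 24, f x = g x) : RepF σ g := by
  intro p
  rw [hσ, h _ (idx_lt p)]

theorem eq_of_repF {σ τ : Equiv.Perm GolayPt} {f g : ℕ → ℕ} (h1 : RepF σ f) (h2 : RepF τ g)
    (h : ∀ x < 24, f x = g x) : σ = τ := by
  apply Equiv.ext
  intro p
  apply idx_injective
  rw [h1 p, h2 p, h _ (idx_lt p)]

theorem repF_apply_eq {σ τ : Equiv.Perm GolayPt} {f g : ℕ → ℕ} (h1 : RepF σ f) (h2 : RepF τ g)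
    (h : σ = τ) : ∀ x < 24, f x = g x := by
  intro x hx
  have e1 := h1 (pt x)
  have e2 := h2 (pt x)
  rw [idx_pt x hx] at e1 e2
  rw [← e1, ← e2, h]

theorem repF_lt {σ : Equiv.Perm GolayPt} {f : ℕ → ℕ} (h : RepF σ f) : ∀ x < 24, f x < 24 := by
  intro x hx
  have e1 := h (pt x)
  rw [idx_pt x hx] at e1
  rw [← e1]
  exact idx_lt _

/-! ### Words in two letters -/

/-- the product of a word in two letters (`true` for the first) -/
def wordProd {G : Type*} [Monoid G] (w : List Bool) (x y : G) : G :=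
  (w.map fun l => if l then x else y).prod

theorem wordProd_nil {G : Type*} [Monoid G] (x y : G) : wordProd [] x y = 1 := rfl

theorem wordProd_cons {G : Type*} [Monoid G] (l : Bool) (w : List Bool) (x y : G) :
    wordProd (l :: w) x y = (if l then x else y) * wordProd w x y := by
  unfold wordProd
  rw [List.map_cons, List.prod_cons]

theorem map_wordProd {G H : Type*} [Monoid G] [Monoid H] (f : G →* H) (w : List Bool) (x y : G) :
    f (wordProd w x y) = wordProd w (f x) (f y) := by
  induction w with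
  | nil => rw [wordProd_nil, wordProd_nil, map_one]
  | cons l w ih =>
    rw [wordProd_cons, wordProd_cons, map_mul, ih]
    cases l <;> rfl

theorem wordProd_mem {G : Type*} [Group G] (H : Subgroup G) {x y : G} (hx : x ∈ H) (hy : y ∈ H)
    (w : List Bool) : wordProd w x y ∈ H := by
  induction w with
  | nil => rw [wordProd_nil]; exact H.one_mem
  | cons l w ih =>
    rw [wordProd_cons]
    apply H.mul_mem _ ih
    cases l
    · exact hy
    · exact hx

/-- the image of a point under a word, on point maps -/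
def evalW (w : List Bool) (f g : ℕ → ℕ) (x : ℕ) : ℕ :=
  w.foldr (fun l y => bif l then f y else g y) x

theorem repF_wordProd {σ τ : Equiv.Perm GolayPt} {f g : ℕ → ℕ} (hσ : RepF σ f)
    (hτ : RepF τ g) (w : List Bool) : RepF (wordProd w σ τ) (evalW w f g) := by
  induction w with
  | nil => exact fun _ => rfl
  | cons l w ih =>
    intro p
    rw [wordProd_cons, Equiv.Perm.mul_apply]
    show _ = (bif l then f (evalW w f g (idx p)) else g (evalW w f g (idx p)))
    rw [← ih p]
    cases l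
    · exact hτ _
    · exact hσ _

/-- iterate a function on naturals, by the primitive recursor -/
def iterN (f : ℕ → ℕ) (n x : ℕ) : ℕ := Nat.rec (motive := fun _ => ℕ) x (fun _ acc => f acc) n

theorem iterN_succ (f : ℕ → ℕ) (n x : ℕ) : iterN f (n + 1) x = f (iterN f n x) := rfl

theorem repF_pow {σ : Equiv.Perm GolayPt} {F : ℕ → ℕ} (hσ : RepF σ F) (n : ℕ) :
    RepF (σ ^ n) (iterN F n) := by
  induction n with
  | zero => exact fun _ => rfl
  | succ n ih =>
    intro p
    rw [pow_succ', Equiv.Perm.mul_apply, hσ, ih p, iterN_succ]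



/-! ### Conjugacy of elements of prime order -/

theorem conj_pow_pow {G : Type*} [Group G] {a n : G} {r : ℕ} (hn : n * a * n⁻¹ = a ^ r) (m : ℕ) :
    n ^ m * a * (n ^ m)⁻¹ = a ^ (r ^ m) := by
  induction m with
  | zero => simp
  | succ m ih =>
    have : n ^ (m + 1) * a * (n ^ (m + 1))⁻¹ = n * (n ^ m * a * (n ^ m)⁻¹) * n⁻¹ := by
      rw [pow_succ' n m]; group
    rw [this, ih, ← conj_pow, hn, ← pow_mul, pow_succ' r m]

theorem exists_conj_prime {G : Type*} [Group G] [Finite G] (p : ℕ) [hp : Fact p.Prime] {s : ℕ}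
    (hcard : Nat.card G = p * s) (hs : ¬ p ∣ s) {a n : G} (ha : a ^ p = 1) (ha1 : a ≠ 1) {r : ℕ}
    (hn : n * a * n⁻¹ = a ^ r) (K : List ℕ)
    (hcover : ∀ j < p, j ≠ 0 → ∃ k ∈ K, ∃ m, j % p = (k * r ^ m) % p) :
    ∀ x : G, x ^ p = 1 → x ≠ 1 → ∃ c, ∃ k ∈ K, c * a ^ k * c⁻¹ = x := by
  intro x hx hx1
  have hs0 : s ≠ 0 := by
    rintro rfl
    simp at hs
  have hfac : (Nat.card G).factorization p = 1 := by
    rw [hcard, Nat.factorization_mul hp.out.ne_zero hs0]
    have h55 : (Nat.factorization p) p = 1 := Nat.Prime.factorization_self hp.out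
    simp [h55, Nat.factorization_eq_zero_of_not_dvd hs]
  have hoa : orderOf a = p := orderOf_eq_prime ha ha1
  have hox : orderOf x = p := orderOf_eq_prime hx hx1
  let P : Sylow p G := Sylow.ofCard (Subgroup.zpowers a) (by
    rw [Nat.card_zpowers, hoa, hfac, pow_one])
  let Q : Sylow p G := Sylow.ofCard (Subgroup.zpowers x) (by
    rw [Nat.card_zpowers, hox, hfac, pow_one])
  obtain ⟨g, hg⟩ := MulAction.exists_smul_eq G P Q
  have hxQ : x ∈ (Q : Subgroup G) := Subgroup.mem_zpowers x
  rw [← hg, Sylow.coe_subgroup_smul, Subgroup.mem_pointwise_smul_iff_inv_smul_mem] at hxQ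
  have hxP : g⁻¹ * x * g ∈ Subgroup.zpowers a := by
    have : (MulAut.conj g)⁻¹ • x = g⁻¹ * x * g := by
      rw [← map_inv, MulAut.smul_def, MulAut.conj_apply, inv_inv]
    rw [← this]
    exact hxQ
  obtain ⟨z, hz⟩ := Subgroup.mem_zpowers_iff.1 hxP
  have hp0 : (p : ℤ) ≠ 0 := by exact_mod_cast hp.out.ne_zero
  have hz' : a ^ (z % p).toNat = g⁻¹ * x * g := by
    rw [← hz, ← zpow_natCast, Int.toNat_of_nonneg (Int.emod_nonneg _ hp0),
      ← zpow_mod_orderOf a z, hoa]
  have hlt : (z % p).toNat < p := by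
    have := Int.emod_lt_of_pos z (by exact_mod_cast hp.out.pos : (0 : ℤ) < p)
    have h0 := Int.emod_nonneg z hp0
    omega
  generalize (z % p).toNat = j at hz' hlt
  have hj0 : j ≠ 0 := by
    rintro rfl
    apply hx1
    have : g⁻¹ * x * g = 1 := by rw [← hz', pow_zero]
    calc x = g * (g⁻¹ * x * g) * g⁻¹ := by group
      _ = 1 := by rw [this]; group
  obtain ⟨k, hk, m, hm⟩ := hcover j hlt hj0
  refine ⟨g * n ^ m, k, hk, ?_⟩
  have h1 : a ^ j = a ^ (k * r ^ m) := by
    rw [← pow_mod_orderOf a j, ← pow_mod_orderOf a (k * r ^ m), hoa, hm]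
  have h2 : n ^ m * a ^ k * (n ^ m)⁻¹ = a ^ (k * r ^ m) := by
    rw [← conj_pow, conj_pow_pow hn m, ← pow_mul, mul_comm]
  calc g * n ^ m * a ^ k * (g * n ^ m)⁻¹ = g * (n ^ m * a ^ k * (n ^ m)⁻¹) * g⁻¹ := by group
    _ = g * (g⁻¹ * x * g) * g⁻¹ := by rw [h2, ← h1, hz']
    _ = x := by group



/-! ### Automorphisms from two generators -/

theorem mulAut_eq_of_gens {H : Type*} [Group H] {a b : H}
    (hgen : Subgroup.closure ({a, b} : Set H) = ⊤) {α β : MulAut H} (ha : α a = β a)
    (hb : α b = β b) : α = β := by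
  have h : (α : H ≃* H).toMonoidHom = (β : H ≃* H).toMonoidHom := by
    apply MonoidHom.eq_of_eqOn_dense hgen
    intro x hx
    rcases hx with rfl | rfl
    · exact ha
    · exact hb
  ext x
  exact DFunLike.congr_fun h x

theorem exists_conj_mul {H : Type*} [Group H] (a b : H)
    (hgen : Subgroup.closure ({a, b} : Set H) = ⊤) (n : ℕ) (ha : a ^ n = 1) (ha1 : a ≠ 1)
    (K : List ℕ)
    (hconj : ∀ x : H, x ^ n = 1 → x ≠ 1 → ∃ c, ∃ k ∈ K, c * a ^ k * c⁻¹ = x)
    (auts : Set (MulAut H))
    (hauts : ∀ α : MulAut H, ∀ k ∈ K, α a = a ^ k → ∃ β ∈ auts, β a = a ^ k ∧ β b = α b)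
    (α : MulAut H) :
    ∃ c : H, ∃ β ∈ auts, α = MulAut.conj c * β := by
  have h1 : (α a) ^ n = 1 := by rw [← map_pow, ha, map_one]
  have h2 : α a ≠ 1 := by
    intro h
    apply ha1
    have : α a = α 1 := by rw [h, map_one]
    exact α.injective this
  obtain ⟨c, k, hk, hc⟩ := hconj (α a) h1 h2
  have h3 : ((MulAut.conj c)⁻¹ * α) a = a ^ k := by
    show (MulAut.conj c)⁻¹ (α a) = a ^ k
    rw [← hc, ← map_inv, MulAut.conj_apply]
    group
  obtain ⟨β, hβ, hβa, hβb⟩ := hauts _ k hk h3
  refine ⟨c, β, hβ, ?_⟩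
  have h4 : (MulAut.conj c)⁻¹ * α = β := mulAut_eq_of_gens hgen (h3.trans hβa.symm) hβb.symm
  rw [← h4, mul_inv_cancel_left]

/-! ### Conjugation by normalising elements -/

/-- the element `n` of the ambient group normalises the subgroup `G` -/
structure Normalizes {P : Type*} [Group P] (G : Subgroup P) (n : P) : Prop where
  fwd : ∀ g ∈ G, n * g * n⁻¹ ∈ G
  bwd : ∀ g ∈ G, n⁻¹ * g * n ∈ G

theorem normalizes_of_mem {P : Type*} [Group P] {G : Subgroup P} {n : P} (hn : n ∈ G) :
    Normalizes G n :=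
  ⟨fun _ hg => G.mul_mem (G.mul_mem hn hg) (G.inv_mem hn),
   fun _ hg => G.mul_mem (G.mul_mem (G.inv_mem hn) hg) hn⟩

theorem normalizes_mul {P : Type*} [Group P] {G : Subgroup P} {n m : P} (hn : Normalizes G n)
    (hm : Normalizes G m) : Normalizes G (n * m) := by
  constructor
  · intro g hg
    have := hn.fwd _ (hm.fwd g hg)
    have e : n * m * g * (n * m)⁻¹ = n * (m * g * m⁻¹) * n⁻¹ := by group
    rw [e]; exact this
  · intro g hg
    have := hm.bwd _ (hn.bwd g hg)
    have e : (n * m)⁻¹ * g * (n * m) = m⁻¹ * (n⁻¹ * g * n) * m := by group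
    rw [e]; exact this

/-- conjugation by a normalising element, as an automorphism of the subgroup -/
def conjN {P : Type*} [Group P] (G : Subgroup P) (n : P) (hn : Normalizes G n) : MulAut ↥G where
  toFun g := ⟨n * g * n⁻¹, hn.fwd g g.2⟩
  invFun g := ⟨n⁻¹ * g * n, hn.bwd g g.2⟩
  left_inv g := by
    apply Subtype.ext
    show n⁻¹ * (n * g * n⁻¹) * n = g
    group
  right_inv g := by
    apply Subtype.ext
    show n * (n⁻¹ * g * n) * n⁻¹ = g
    group
  map_mul' g h := by
    apply Subtype.ext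
    show n * (g * h) * n⁻¹ = (n * g * n⁻¹) * (n * h * n⁻¹)
    group

theorem conjN_apply {P : Type*} [Group P] (G : Subgroup P) (n : P) (hn : Normalizes G n)
    (g : ↥G) : ((conjN G n hn g : ↥G) : P) = n * g * n⁻¹ := rfl

theorem conjN_of_mem {P : Type*} [Group P] (G : Subgroup P) (n : P) (hn : n ∈ G) :
    conjN G n (normalizes_of_mem hn) = MulAut.conj (⟨n, hn⟩ : ↥G) := by
  ext g
  rfl

theorem conjN_mul {P : Type*} [Group P] (G : Subgroup P) (n m : P) (hn : Normalizes G n)
    (hm : Normalizes G m) :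
    conjN G n hn * conjN G m hm = conjN G (n * m) (normalizes_mul hn hm) := by
  ext g
  show n * (m * g * m⁻¹) * n⁻¹ = n * m * g * (n * m)⁻¹
  group

/-! ### The classification of the automorphisms -/

theorem aut_cases {P : Type*} [Group P] (G : Subgroup P) (a b : ↥G)
    (hgen : Subgroup.closure ({a, b} : Set ↥G) = ⊤) (p : ℕ) (ha : a ^ p = 1) (ha1 : a ≠ 1)
    (K : List ℕ)
    (hconj : ∀ x : ↥G, x ^ p = 1 → x ≠ 1 → ∃ c, ∃ k ∈ K, c * a ^ k * c⁻¹ = x)
    (rels : List (List Bool × ℕ)) (hrels : ∀ r ∈ rels, wordProd r.1 a b ^ r.2 = 1)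
    (NN : Set P) (hNN : ∀ n ∈ NN, Normalizes G n)
    (hcand : ∀ k ∈ K, ∀ b' : ↥G, (∀ r ∈ rels, wordProd r.1 (a ^ k) b' ^ r.2 = 1) →
      ∃ n ∈ NN, n * a * n⁻¹ = (a : P) ^ k ∧ n * b * n⁻¹ = b')
    (α : MulAut ↥G) :
    ∃ c : ↥G, ∃ n, ∃ hn : n ∈ NN, α = MulAut.conj c * conjN G n (hNN n hn) := by
  obtain ⟨c, β, ⟨n, hn, rfl⟩, h⟩ := exists_conj_mul a b hgen p ha ha1 K hconj
    {β | ∃ n, ∃ hn : n ∈ NN, β = conjN G n (hNN n hn)} (by
      intro α k hk hα
      have hr : ∀ r ∈ rels, wordProd r.1 (a ^ k) (α b) ^ r.2 = 1 := by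
        intro r hr
        have := hrels r hr
        have e := congrArg α this
        have e2 : α (wordProd r.1 a b) = wordProd r.1 (α a) (α b) :=
          map_wordProd (α : ↥G ≃* ↥G).toMonoidHom r.1 a b
        rw [map_one, map_pow, e2, hα] at e
        exact e
      obtain ⟨n, hn, h1, h2⟩ := hcand k hk (α b) hr
      refine ⟨conjN G n (hNN n hn), ⟨n, hn, rfl⟩, ?_, ?_⟩
      · apply Subtype.ext
        rw [conjN_apply]
        rw [h1]
        rfl
      · apply Subtype.ext
        rw [conjN_apply]; exact h2) α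
  exact ⟨c, n, hn, h⟩

theorem card_out_eq_one {P : Type*} [Group P] (G : Subgroup P)
    (NN : Set P) (hNN : ∀ n ∈ NN, Normalizes G n) (hsub : ∀ n ∈ NN, n ∈ G)
    (h : ∀ α : MulAut ↥G, ∃ c : ↥G, ∃ n, ∃ hn : n ∈ NN,
      α = MulAut.conj c * conjN G n (hNN n hn)) :
    Nat.card (Cfsg.Out ↥G) = 1 := by
  have htop : Cfsg.Inn ↥G = ⊤ := by
    rw [eq_top_iff]
    intro α _
    obtain ⟨c, n, hn, rfl⟩ := h α
    apply Subgroup.mul_mem
    · exact ⟨c, rfl⟩
    · have : conjN G n (hNN n hn) = MulAut.conj (⟨n, hsub n hn⟩ : ↥G) := by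
        ext g
        rfl
      rw [this]
      exact ⟨_, rfl⟩
  show (Cfsg.Inn ↥G).index = 1
  rw [htop]
  exact Subgroup.index_top

theorem card_out_eq_two {P : Type*} [Group P] (G : Subgroup P) (a b : ↥G)
    (NN : Set P) (hNN : ∀ n ∈ NN, Normalizes G n) (t : P) (ht : Normalizes G t)
    (hsub : ∀ n ∈ NN, n ∈ G ∨ n * t ∈ G)
    (hout : ∀ g : ↥G, ¬ ((g : P) * a * (g : P)⁻¹ = t * a * t⁻¹ ∧
      (g : P) * b * (g : P)⁻¹ = t * b * t⁻¹))
    (h : ∀ α : MulAut ↥G, ∃ c : ↥G, ∃ n, ∃ hn : n ∈ NN,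
      α = MulAut.conj c * conjN G n (hNN n hn)) :
    Nat.card (Cfsg.Out ↥G) = 2 := by
  have htn : conjN G t ht ∉ Cfsg.Inn ↥G := by
    rintro ⟨g, hg⟩
    apply hout g
    constructor
    · have := congrArg (fun β : MulAut ↥G => ((β a : ↥G) : P)) hg
      exact this
    · have := congrArg (fun β : MulAut ↥G => ((β b : ↥G) : P)) hg
      exact this
  show (Cfsg.Inn ↥G).index = 2
  rw [Subgroup.index_eq_two_iff]
  refine ⟨conjN G t ht, ?_⟩
  intro β
  obtain ⟨c, n, hn, rfl⟩ := h β
  have hc : MulAut.conj c ∈ Cfsg.Inn ↥G := ⟨c, rfl⟩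
  rcases hsub n hn with h1 | h1
  · have e : conjN G n (hNN n hn) = MulAut.conj (⟨n, h1⟩ : ↥G) := by
      ext g
      rfl
    have hin : MulAut.conj c * conjN G n (hNN n hn) ∈ Cfsg.Inn ↥G := by
      rw [e]
      exact Subgroup.mul_mem _ hc ⟨_, rfl⟩
    refine Or.inr ⟨hin, ?_⟩
    intro h2
    apply htn
    have := Subgroup.mul_mem _ (Subgroup.inv_mem _ hin) h2
    rwa [inv_mul_cancel_left] at this
  · have e : conjN G n (hNN n hn) * conjN G t ht = MulAut.conj (⟨n * t, h1⟩ : ↥G) := by
      rw [conjN_mul]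
      ext g
      rfl
    have hin : MulAut.conj c * conjN G n (hNN n hn) * conjN G t ht ∈ Cfsg.Inn ↥G := by
      rw [mul_assoc, e]
      exact Subgroup.mul_mem _ hc ⟨_, rfl⟩
    refine Or.inl ⟨hin, ?_⟩
    intro h2
    apply htn
    have := Subgroup.mul_mem _ (Subgroup.inv_mem _ h2) hin
    rwa [inv_mul_cancel_left] at this



/-! ### Stabiliser chains -/

/-- a level of a chain: a number of permutations, and the points on which they are told apart -/
structure Level where
  /-- the number of permutations -/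
  n : ℕ
  /-- the permutations -/
  elt : ℕ → Equiv.Perm GolayPt
  /-- the key points -/
  pts : List GolayPt

/-- the set of all products, one factor from each level -/
def prodSet : List Level → Finset (Equiv.Perm GolayPt)
  | [] => {1}
  | l :: rest => (Finset.range l.n ×ˢ prodSet rest).image (fun p => l.elt p.1 * p.2)

/-- the permutations of a level are told apart by the key points, which all later levels fix -/
def Valid : List Level → Prop
  | [] => True
  | l :: rest => (∀ i < l.n, ∀ j < l.n, (∀ c ∈ l.pts, l.elt i c = l.elt j c) → i = j) ∧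
      (∀ l' ∈ rest, ∀ i < l'.n, ∀ c ∈ l.pts, l'.elt i c = c) ∧ Valid rest

theorem fix_of_mem_prodSet (rest : List Level) (c : GolayPt)
    (h : ∀ l' ∈ rest, ∀ i < l'.n, l'.elt i c = c) : ∀ g ∈ prodSet rest, g c = c := by
  induction rest with
  | nil =>
    intro g hg
    rw [prodSet, Finset.mem_singleton] at hg
    rw [hg]; rfl
  | cons l rest ih =>
    intro g hg
    rw [prodSet, Finset.mem_image] at hg
    obtain ⟨⟨i, k⟩, hik, rfl⟩ := hg
    rw [Finset.mem_product, Finset.mem_range] at hik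
    show l.elt i (k c) = c
    rw [ih (fun l' hl' => h l' (List.mem_cons_of_mem _ hl')) k hik.2]
    exact h l List.mem_cons_self i hik.1

theorem card_prodSet (L : List Level) (h : Valid L) :
    (prodSet L).card = (L.map (·.n)).prod := by
  induction L with
  | nil => rfl
  | cons l rest ih =>
    obtain ⟨h1, h2, h3⟩ := h
    rw [prodSet, List.map_cons, List.prod_cons, Finset.card_image_of_injOn,
      Finset.card_product, Finset.card_range, ih h3]
    rintro ⟨i, k⟩ hik ⟨j, k'⟩ hjk e
    rw [Finset.mem_coe, Finset.mem_product, Finset.mem_range] at hik hjk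
    have e' : l.elt i * k = l.elt j * k' := e
    have hij : i = j := by
      apply h1 i hik.1 j hjk.1
      intro c hc
      have hk := fix_of_mem_prodSet rest c (fun l' hl' i hi => h2 l' hl' i hi c hc) k hik.2
      have hk' := fix_of_mem_prodSet rest c (fun l' hl' i hi => h2 l' hl' i hi c hc) k' hjk.2
      have := congrArg (fun g : Equiv.Perm GolayPt => g c) e'
      simp only [Equiv.Perm.mul_apply, hk, hk'] at this
      exact this
    subst hij
    have : k = k' := mul_left_cancel e'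
    rw [this]

theorem mem_prodSet_of_card (G : Subgroup (Equiv.Perm GolayPt)) (L : List Level) (hV : Valid L)
    (hG : ∀ l ∈ L, ∀ i < l.n, l.elt i ∈ G) (hcard : Nat.card ↥G = (L.map (·.n)).prod) :
    ∀ g ∈ G, g ∈ prodSet L := by
  have hsub : ∀ L' : List Level, (∀ l ∈ L', ∀ i < l.n, l.elt i ∈ G) →
      ∀ g ∈ prodSet L', g ∈ G := by
    intro L'
    induction L' with
    | nil =>
      intro _ g hg
      rw [prodSet, Finset.mem_singleton] at hg
      rw [hg]; exact G.one_mem
    | cons l rest ih =>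
      intro hL g hg
      rw [prodSet, Finset.mem_image] at hg
      obtain ⟨⟨i, k⟩, hik, rfl⟩ := hg
      rw [Finset.mem_product, Finset.mem_range] at hik
      exact G.mul_mem (hL l List.mem_cons_self i hik.1)
        (ih (fun l' hl' => hL l' (List.mem_cons_of_mem _ hl')) k hik.2)
  have hss : ((prodSet L : Finset (Equiv.Perm GolayPt)) : Set (Equiv.Perm GolayPt)) ⊆
      (G : Set (Equiv.Perm GolayPt)) := fun g hg => hsub L hG g hg
  have hfin : (G : Set (Equiv.Perm GolayPt)).Finite := Set.toFinite _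
  have hle : (G : Set (Equiv.Perm GolayPt)).ncard ≤
      ((prodSet L : Finset (Equiv.Perm GolayPt)) : Set (Equiv.Perm GolayPt)).ncard := by
    rw [Set.ncard_coe_finset, card_prodSet L hV, ← hcard]
    exact le_of_eq (Nat.card_coe_set_eq _).symm
  have := Set.eq_of_subset_of_ncard_le hss hle hfin
  intro g hg
  have hg' : g ∈ (G : Set (Equiv.Perm GolayPt)) := hg
  rw [← this] at hg'
  exact hg'



/-! ### Raw operations for the kernel -/

/-- the image of a point under a table, by the raw operations -/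
def imgF (T i : ℕ) : ℕ := Nat.land (Nat.shiftRight T (Nat.mul 5 i)) 31

theorem imgF_eq (T i : ℕ) : imgF T i = img T i := rfl

/-- the `i`-th table of a packed list of tables, by the raw operations -/
def tblAt (U i : ℕ) : ℕ :=
  Nat.land (Nat.shiftRight U (Nat.mul 120 i)) 1329227995784915872903807060280344575

theorem tblAt_lt (U i : ℕ) : tblAt U i < 2 ^ 120 := by
  unfold tblAt
  exact Nat.and_lt_two_pow _ (by norm_num)

/-- evaluate the argument before passing it on (for the kernel) -/
def forceN (n : ℕ) (f : ℕ → Bool) : Bool :=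
  Nat.rec (motive := fun _ => Bool) (f 0) (fun k _ => f (Nat.succ k)) n

theorem forceN_eq (n : ℕ) (f : ℕ → Bool) : forceN n f = f n := by
  cases n <;> rfl

/-- conjunction of `f 0, …, f (n-1)`, by the recursors -/
def allF (f : ℕ → Bool) (n : ℕ) : Bool :=
  Nat.rec (motive := fun _ => Bool) true
    (fun k acc => Bool.rec (motive := fun _ => Bool) false acc (f k)) n

theorem allF_succ (f : ℕ → Bool) (n : ℕ) : allF f (n + 1) = (f n && allF f n) := by
  have : allF f (n + 1) = Bool.rec (motive := fun _ => Bool) false (allF f n) (f n) := rfl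
  rw [this]
  cases f n <;> rfl

theorem allF_eq_true (f : ℕ → Bool) (n : ℕ) : allF f n = true ↔ ∀ k < n, f k = true := by
  induction n with
  | zero => simp [allF]
  | succ n ih =>
    rw [allF_succ, Bool.and_eq_true, ih]
    constructor
    · rintro ⟨h1, h2⟩ k hk
      by_cases hkn : k = n
      · subst hkn; exact h1
      · exact h2 k (by omega)
    · intro h
      exact ⟨h n (by omega), fun k hk => h k (by omega)⟩

/-- conjunction over the 24 points, written out -/
def all24 (c : ℕ → Bool) : Bool :=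
  c 0 && (c 1 && (c 2 && (c 3 && (c 4 && (c 5 && (c 6 && (c 7 && (c 8 && (c 9 && (c 10 && (c 11 && (c 12 && (c 13 && (c 14 && (c 15 && (c 16 && (c 17 && (c 18 && (c 19 && (c 20 && (c 21 && (c 22 && (c 23)))))))))))))))))))))))

theorem all24_eq_true (c : ℕ → Bool) : all24 c = true ↔ ∀ x < 24, c x = true := by
  unfold all24
  simp only [Bool.and_eq_true]
  constructor
  · rintro ⟨h0, h1, h2, h3, h4, h5, h6, h7, h8, h9, h10, h11, h12, h13, h14, h15, h16, h17, h18, h19, h20, h21, h22, h23⟩ x hx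
    interval_cases x <;> assumption
  · intro h
    exact ⟨h 0 (by norm_num), h 1 (by norm_num), h 2 (by norm_num), h 3 (by norm_num), h 4 (by norm_num), h 5 (by norm_num), h 6 (by norm_num), h 7 (by norm_num), h 8 (by norm_num), h 9 (by norm_num), h 10 (by norm_num), h 11 (by norm_num), h 12 (by norm_num), h 13 (by norm_num), h 14 (by norm_num), h 15 (by norm_num), h 16 (by norm_num), h 17 (by norm_num), h 18 (by norm_num), h 19 (by norm_num), h 20 (by norm_num), h 21 (by norm_num), h 22 (by norm_num), h 23 (by norm_num)⟩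

/-- the table of the composition of two tables, by the raw operations (it is checked where used) -/
def composeRaw (T U : ℕ) : ℕ :=
  Nat.lor (imgF T (imgF U 0))
    (Nat.lor (Nat.shiftLeft (imgF T (imgF U 1)) 5)
    (Nat.lor (Nat.shiftLeft (imgF T (imgF U 2)) 10)
    (Nat.lor (Nat.shiftLeft (imgF T (imgF U 3)) 15)
    (Nat.lor (Nat.shiftLeft (imgF T (imgF U 4)) 20)
    (Nat.lor (Nat.shiftLeft (imgF T (imgF U 5)) 25)
    (Nat.lor (Nat.shiftLeft (imgF T (imgF U 6)) 30)
    (Nat.lor (Nat.shiftLeft (imgF T (imgF U 7)) 35)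
    (Nat.lor (Nat.shiftLeft (imgF T (imgF U 8)) 40)
    (Nat.lor (Nat.shiftLeft (imgF T (imgF U 9)) 45)
    (Nat.lor (Nat.shiftLeft (imgF T (imgF U 10)) 50)
    (Nat.lor (Nat.shiftLeft (imgF T (imgF U 11)) 55)
    (Nat.lor (Nat.shiftLeft (imgF T (imgF U 12)) 60)
    (Nat.lor (Nat.shiftLeft (imgF T (imgF U 13)) 65)
    (Nat.lor (Nat.shiftLeft (imgF T (imgF U 14)) 70)
    (Nat.lor (Nat.shiftLeft (imgF T (imgF U 15)) 75)
    (Nat.lor (Nat.shiftLeft (imgF T (imgF U 16)) 80)
    (Nat.lor (Nat.shiftLeft (imgF T (imgF U 17)) 85)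
    (Nat.lor (Nat.shiftLeft (imgF T (imgF U 18)) 90)
    (Nat.lor (Nat.shiftLeft (imgF T (imgF U 19)) 95)
    (Nat.lor (Nat.shiftLeft (imgF T (imgF U 20)) 100)
    (Nat.lor (Nat.shiftLeft (imgF T (imgF U 21)) 105)
    (Nat.lor (Nat.shiftLeft (imgF T (imgF U 22)) 110)
    (Nat.shiftLeft (imgF T (imgF U 23)) 115)))))))))))))))))))))))

/-- compose two tables, check the result, and pass it on -/
def compC (T U : ℕ) (k : ℕ → Bool) : Bool :=
  forceN (composeRaw T U) fun C =>
    all24 (fun x => Nat.beq (imgF C x) (imgF T (imgF U x))) && k C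

theorem compC_eq_true {T U : ℕ} {k : ℕ → Bool} (h : compC T U k = true) :
    ∃ C, (∀ x < 24, imgF C x = imgF T (imgF U x)) ∧ k C = true := by
  unfold compC at h
  rw [forceN_eq, Bool.and_eq_true, all24_eq_true] at h
  refine ⟨_, ?_, h.2⟩
  intro x hx
  exact Nat.eq_of_beq_eq_true (h.1 x hx)

/-- the check `chk` on all products of four levels; the last factor is passed on uncomposed -/
def loop4 (n0 U0 n1 U1 n2 U2 n3 U3 : ℕ) (chk : ℕ → ℕ → Bool) : Bool :=
  allF (fun i0 => forceN (tblAt U0 i0) fun T0 =>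
    allF (fun i1 => forceN (tblAt U1 i1) fun T1 => compC T0 T1 fun T01 =>
      allF (fun i2 => forceN (tblAt U2 i2) fun T2 => compC T01 T2 fun T012 =>
        allF (fun i3 => chk T012 (tblAt U3 i3)) n3) n2) n1) n0

theorem loop4_sound {n0 U0 n1 U1 n2 U2 n3 U3 : ℕ} {chk : ℕ → ℕ → Bool}
    (h : loop4 n0 U0 n1 U1 n2 U2 n3 U3 chk = true)
    (hU2 : ∀ i < n2, ∀ x < 24, imgF (tblAt U2 i) x < 24) :
    ∀ i0 < n0, ∀ i1 < n1, ∀ i2 < n2, ∀ i3 < n3, ∃ C,
      (∀ x < 24, imgF C x = imgF (tblAt U0 i0) (imgF (tblAt U1 i1) (imgF (tblAt U2 i2) x))) ∧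
      chk C (tblAt U3 i3) = true := by
  intro i0 h0 i1 h1 i2 h2 i3 h3
  unfold loop4 at h
  rw [allF_eq_true] at h
  have a0 := h i0 h0
  rw [forceN_eq, allF_eq_true] at a0
  have a1 := a0 i1 h1
  rw [forceN_eq] at a1
  obtain ⟨C01, hC01, a1'⟩ := compC_eq_true a1
  rw [allF_eq_true] at a1'
  have a2 := a1' i2 h2
  rw [forceN_eq] at a2
  obtain ⟨C012, hC012, a2'⟩ := compC_eq_true a2
  rw [allF_eq_true] at a2'
  refine ⟨C012, ?_, a2' i3 h3⟩
  intro x hx
  rw [hC012 x hx, hC01 _ (hU2 i2 h2 x hx)]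



/-! ### Chains given by tables and words -/

/-- the data of a level: the number of tables, the packed tables, the words in the two generators,
the key points -/
structure LevelData where
  /-- the number of tables -/
  n : ℕ
  /-- the packed tables -/
  U : ℕ
  /-- the words -/
  W : List (List Bool)
  /-- the key points -/
  P : List ℕ

/-- the check that the tables of a level are the tables of its words -/
def wordsOK (TA TB : ℕ) (d : LevelData) : Bool :=
  allF (fun i => forceN (tblAt d.U i) fun T =>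
    all24 (fun x => Nat.beq (evalW (d.W.getD i []) (imgF TA) (imgF TB) x) (imgF T x))) d.n

/-- the check that the tables of a level are told apart by the key points -/
def keysOK (d : LevelData) : Bool :=
  d.P.all (fun c => Nat.blt c 24) &&
  allF (fun i => allF (fun j => Nat.beq i j ||
    !(d.P.all fun c => Nat.beq (imgF (tblAt d.U i) c) (imgF (tblAt d.U j) c))) d.n) d.n

/-- the check that the tables of a level fix the given points -/
def fixesOK (d : LevelData) (P : List ℕ) : Bool :=
  P.all (fun c => Nat.blt c 24) &&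
  allF (fun i => P.all fun c => Nat.beq (imgF (tblAt d.U i) c) c) d.n

/-- the level of permutations given by the words -/
def LevelData.level (d : LevelData) (a b : Equiv.Perm GolayPt) : Level :=
  ⟨d.n, fun i => wordProd (d.W.getD i []) a b, d.P.map pt⟩

theorem represents_level {a b : Equiv.Perm GolayPt} {TA TB : ℕ} (hA : Represents a TA)
    (hB : Represents b TB) {d : LevelData} (h : wordsOK TA TB d = true) (i : ℕ) (hi : i < d.n) :
    Represents ((d.level a b).elt i) (tblAt d.U i) := by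
  unfold wordsOK at h
  rw [allF_eq_true] at h
  have h1 := h i hi
  rw [forceN_eq, all24_eq_true] at h1
  have h2 : RepF (wordProd (d.W.getD i []) a b) (evalW (d.W.getD i []) (imgF TA) (imgF TB)) :=
    repF_wordProd hA hB _
  exact repF_congr h2 (fun x hx => Nat.eq_of_beq_eq_true (h1 x hx))

theorem keys_inj {σ : ℕ → Equiv.Perm GolayPt} {d : LevelData}
    (hrep : ∀ i < d.n, Represents (σ i) (tblAt d.U i)) (hk : keysOK d = true) :
    ∀ i < d.n, ∀ j < d.n, (∀ c ∈ d.P.map pt, σ i c = σ j c) → i = j := by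
  unfold keysOK at hk
  rw [Bool.and_eq_true, List.all_eq_true, allF_eq_true] at hk
  obtain ⟨hP, hk⟩ := hk
  intro i hi j hj hc
  have h1 := hk i hi
  rw [allF_eq_true] at h1
  have h2 := h1 j hj
  rw [Bool.or_eq_true] at h2
  rcases h2 with h2 | h2
  · exact Nat.eq_of_beq_eq_true h2
  · exfalso
    rw [Bool.not_eq_true', ← Bool.not_eq_true, List.all_eq_true] at h2
    apply h2
    intro c hcP
    have hc24 : c < 24 := by
      have := hP c hcP
      simpa [Nat.blt] using this
    have e := hc (pt c) (List.mem_map_of_mem hcP)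
    have e1 := hrep i hi (pt c)
    have e2 := hrep j hj (pt c)
    rw [idx_pt c hc24] at e1 e2
    have e3 : imgF (tblAt d.U i) c = imgF (tblAt d.U j) c := by
      show img _ c = img _ c
      rw [← e1, ← e2, e]
    rw [e3]
    exact Nat.beq_refl _

theorem fixes_of_ok {σ : ℕ → Equiv.Perm GolayPt} {d : LevelData}
    (hrep : ∀ i < d.n, Represents (σ i) (tblAt d.U i)) {P : List ℕ}
    (hf : fixesOK d P = true) : ∀ i < d.n, ∀ c ∈ P.map pt, σ i c = c := by
  unfold fixesOK at hf
  rw [Bool.and_eq_true, List.all_eq_true, allF_eq_true] at hf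
  obtain ⟨hP, hf⟩ := hf
  intro i hi c hc
  rw [List.mem_map] at hc
  obtain ⟨c, hcP, rfl⟩ := hc
  have hc24 : c < 24 := by
    have := hP c hcP
    simpa [Nat.blt] using this
  have h1 := hf i hi
  rw [List.all_eq_true] at h1
  have h2 := Nat.eq_of_beq_eq_true (h1 c hcP)
  apply idx_injective
  rw [hrep i hi (pt c), idx_pt c hc24]
  exact h2

/-- all the checks on a chain of four levels -/
def chainOK (TA TB : ℕ) (d0 d1 d2 d3 : LevelData) : Bool :=
  wordsOK TA TB d0 && wordsOK TA TB d1 && wordsOK TA TB d2 && wordsOK TA TB d3 &&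
  keysOK d0 && keysOK d1 && keysOK d2 && keysOK d3 &&
  fixesOK d1 d0.P && fixesOK d2 d0.P && fixesOK d3 d0.P &&
  fixesOK d2 d1.P && fixesOK d3 d1.P && fixesOK d3 d2.P

theorem enum4 {G : Subgroup (Equiv.Perm GolayPt)} {a b : Equiv.Perm GolayPt} {TA TB : ℕ}
    (hA : Represents a TA) (hB : Represents b TB) (ha : a ∈ G) (hb : b ∈ G)
    (d0 d1 d2 d3 : LevelData) (hok : chainOK TA TB d0 d1 d2 d3 = true)
    (hcard : Nat.card ↥G = d0.n * d1.n * d2.n * d3.n) (chk : ℕ → ℕ → Bool)
    (hloop : loop4 d0.n d0.U d1.n d1.U d2.n d2.U d3.n d3.U chk = true) :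
    ∀ g ∈ G, g ∈ Subgroup.closure ({a, b} : Set (Equiv.Perm GolayPt)) ∧
      ∃ C U, RepF g (fun x => imgF C (imgF U x)) ∧ chk C U = true := by
  unfold chainOK at hok
  simp only [Bool.and_eq_true] at hok
  obtain ⟨⟨⟨⟨⟨⟨⟨⟨⟨⟨⟨⟨⟨w0, w1⟩, w2⟩, w3⟩, k0⟩, k1⟩, k2⟩, k3⟩, f10⟩, f20⟩, f30⟩, f21⟩, f31⟩, f32⟩ := hok
  have r0 := represents_level hA hB w0
  have r1 := represents_level hA hB w1
  have r2 := represents_level hA hB w2
  have r3 := represents_level hA hB w3
  let L : List Level := [d0.level a b, d1.level a b, d2.level a b, d3.level a b]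
  have hV : Valid L := by
    refine ⟨keys_inj r0 k0, ?_, keys_inj r1 k1, ?_, keys_inj r2 k2, ?_, keys_inj r3 k3, ?_,
      trivial⟩
    · intro l' hl'
      simp only [List.mem_cons, List.not_mem_nil, or_false] at hl'
      rcases hl' with rfl | rfl | rfl
      · exact fixes_of_ok r1 f10
      · exact fixes_of_ok r2 f20
      · exact fixes_of_ok r3 f30
    · intro l' hl'
      simp only [List.mem_cons, List.not_mem_nil, or_false] at hl'
      rcases hl' with rfl | rfl
      · exact fixes_of_ok r2 f21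
      · exact fixes_of_ok r3 f31
    · intro l' hl'
      simp only [List.mem_cons, List.not_mem_nil, or_false] at hl'
      rcases hl' with rfl
      exact fixes_of_ok r3 f32
    · intro l' hl'
      simp at hl'
  have hcl : ∀ d : LevelData, ∀ i, (d.level a b).elt i ∈
      Subgroup.closure ({a, b} : Set (Equiv.Perm GolayPt)) := by
    intro d i
    exact wordProd_mem _ (Subgroup.subset_closure (by simp)) (Subgroup.subset_closure (by simp)) _
  have hG : ∀ l ∈ L, ∀ i < l.n, l.elt i ∈ G := by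
    intro l hl i _
    simp only [L, List.mem_cons, List.not_mem_nil, or_false] at hl
    rcases hl with rfl | rfl | rfl | rfl <;> exact wordProd_mem G ha hb _
  have hcard' : Nat.card ↥G = (L.map (·.n)).prod := by
    rw [hcard]
    simp only [L, List.map_cons, List.map_nil, List.prod_cons, List.prod_nil, mul_one]
    show d0.n * d1.n * d2.n * d3.n = d0.n * (d1.n * (d2.n * d3.n))
    ring
  have hmem := mem_prodSet_of_card G L hV hG hcard'
  have hU2 : ∀ i < d2.n, ∀ x < 24, imgF (tblAt d2.U i) x < 24 :=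
    fun i hi => repF_lt (repF_of_represents (r2 i hi))
  have hs := loop4_sound hloop hU2
  intro g hg
  have hgL := hmem g hg
  simp only [L, prodSet, Finset.mem_image, Finset.mem_product, Finset.mem_range,
    Finset.mem_singleton, Prod.exists] at hgL
  obtain ⟨i0, g1, ⟨h0, i1, g2, ⟨h1, i2, g3, ⟨h2, i3, g4, ⟨h3, rfl⟩, rfl⟩, rfl⟩, rfl⟩, rfl⟩ := hgL
  constructor
  · exact Subgroup.mul_mem _ (hcl d0 i0) (Subgroup.mul_mem _ (hcl d1 i1)
      (Subgroup.mul_mem _ (hcl d2 i2) (Subgroup.mul_mem _ (hcl d3 i3) (Subgroup.one_mem _))))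
  · obtain ⟨C, hC, hchk⟩ := hs i0 h0 i1 h1 i2 h2 i3 h3
    refine ⟨C, tblAt d3.U i3, ?_, hchk⟩
    rw [mul_one]
    have hr := repF_mul (repF_of_represents (r0 i0 h0)) (repF_mul (repF_of_represents (r1 i1 h1))
      (repF_mul (repF_of_represents (r2 i2 h2)) (repF_of_represents (r3 i3 h3))))
    apply repF_congr hr
    intro x hx
    have hx3 : imgF (tblAt d3.U i3) x < 24 := repF_lt (repF_of_represents (r3 i3 h3)) x hx
    exact (hC _ hx3).symm



/-! ### The classification of the automorphisms, on tables -/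

/-- the relators `w ^ e`, checked on point maps by the raw operations -/
def relsHoldF (rels : List (List Bool × ℕ)) (f g : ℕ → ℕ) : Bool :=
  rels.all fun r => all24 (fun x => Nat.beq (iterN (evalW r.1 f g) r.2 x) x)

theorem relsHoldF_iff {σ τ : Equiv.Perm GolayPt} {f g : ℕ → ℕ} (hσ : RepF σ f) (hτ : RepF τ g)
    (rels : List (List Bool × ℕ)) :
    relsHoldF rels f g = true ↔ ∀ r ∈ rels, (wordProd r.1 σ τ) ^ r.2 = 1 := by
  unfold relsHoldF
  rw [List.all_eq_true]
  apply forall₂_congr
  intro r _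
  rw [all24_eq_true]
  have h := repF_pow (repF_wordProd hσ hτ r.1) r.2
  constructor
  · intro hx
    apply eq_of_repF h repF_one
    intro x hx'
    exact Nat.eq_of_beq_eq_true (hx x hx')
  · intro e x hx
    have := repF_apply_eq h repF_one e x hx
    rw [this]
    exact Nat.beq_refl _

/-- the check on a survivor `s = (S, CN)`: the table `CN` conjugates the first generator to its
`k`-th power and the second generator to the permutation with table `S` -/
def survOK (TA TB TAk : ℕ) (s : ℕ × ℕ) : Bool :=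
  all24 (fun x => Nat.beq (imgF s.2 (imgF TA x)) (imgF TAk (imgF s.2 x))) &&
  all24 (fun x => Nat.beq (imgF s.2 (imgF TB x)) (imgF s.1 (imgF s.2 x)))

/-- the check on a candidate image of the second generator, the composition of two tables: it is
not an involution, or for each admissible power of the first generator some relator fails or the
candidate is one of the listed survivors -/
def candOK (rels : List (List Bool × ℕ)) (KS : List (ℕ × ℕ × List (ℕ × ℕ))) (C U : ℕ) : Bool :=
  !(all24 fun x => Nat.beq (imgF C (imgF U (imgF C (imgF U x)))) x) ||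
  KS.all fun ks => !(relsHoldF rels (imgF ks.2.1) (fun x => imgF C (imgF U x))) ||
    ks.2.2.any (fun s => all24 (fun x => Nat.beq (imgF C (imgF U x)) (imgF s.1 x)))

theorem closure_subtype_eq_top {P : Type*} [Group P] (G : Subgroup P) (a b : P) (ha : a ∈ G)
    (hb : b ∈ G) (h : ∀ g ∈ G, g ∈ Subgroup.closure ({a, b} : Set P)) :
    Subgroup.closure ({⟨a, ha⟩, ⟨b, hb⟩} : Set ↥G) = ⊤ := by
  rw [eq_top_iff]
  rintro ⟨g, hg⟩ _
  have key : ∀ x ∈ Subgroup.closure ({a, b} : Set P), ∃ hx : x ∈ G,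
      (⟨x, hx⟩ : ↥G) ∈ Subgroup.closure ({⟨a, ha⟩, ⟨b, hb⟩} : Set ↥G) := by
    intro x hx
    induction hx using Subgroup.closure_induction with
    | mem x hx =>
      rcases hx with rfl | rfl
      · exact ⟨ha, Subgroup.subset_closure (by simp)⟩
      · exact ⟨hb, Subgroup.subset_closure (by simp)⟩
    | one => exact ⟨G.one_mem, Subgroup.one_mem _⟩
    | mul x y _ _ hx hy =>
      obtain ⟨hx1, hx2⟩ := hx
      obtain ⟨hy1, hy2⟩ := hy
      exact ⟨G.mul_mem hx1 hy1, Subgroup.mul_mem _ hx2 hy2⟩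
    | inv x _ hx =>
      obtain ⟨hx1, hx2⟩ := hx
      exact ⟨G.inv_mem hx1, Subgroup.inv_mem _ hx2⟩
  obtain ⟨_, h2⟩ := key g (h g hg)
  exact h2

theorem aut_classify {G : Subgroup (Equiv.Perm GolayPt)} {a b : Equiv.Perm GolayPt} {TA TB : ℕ}
    (hA : Represents a TA) (hB : Represents b TB) (ha : a ∈ G) (hb : b ∈ G)
    (rels : List (List Bool × ℕ)) (KS : List (ℕ × ℕ × List (ℕ × ℕ)))
    (hgenu : ∀ g ∈ G, g ∈ Subgroup.closure ({a, b} : Set (Equiv.Perm GolayPt)) ∧
      ∃ C U, RepF g (fun x => imgF C (imgF U x)) ∧ candOK rels KS C U = true)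
    (p r s : ℕ) [hp : Fact p.Prime] (hcard : Nat.card ↥G = p * s) (hs : ¬ p ∣ s)
    (hap : ∀ x < 24, iterN (imgF TA) p x = x) (ha1 : ∃ x < 24, imgF TA x ≠ x)
    (TN : ℕ) (hN : ∃ n ∈ G, Represents n TN)
    (hNr : ∀ x < 24, imgF TN (imgF TA x) = iterN (imgF TA) r (imgF TN x))
    (hKS : ∀ ks ∈ KS, ∀ x < 24, imgF ks.2.1 x = iterN (imgF TA) ks.1 x)
    (hcover : ∀ j < p, j ≠ 0 → ∃ k ∈ KS.map (·.1), ∃ m, j % p = (k * r ^ m) % p)
    (hrels : relsHoldF rels (imgF TA) (imgF TB) = true) (hinv : ([false], 2) ∈ rels)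
    (NN : Set (Equiv.Perm GolayPt)) (hNN : ∀ n ∈ NN, Normalizes G n)
    (hsurv : ∀ ks ∈ KS, ∀ sv ∈ ks.2.2, (∃ n ∈ NN, Represents n sv.2) ∧
      survOK TA TB ks.2.1 sv = true)
    (α : MulAut ↥G) :
    ∃ c : ↥G, ∃ n, ∃ hn : n ∈ NN, α = MulAut.conj c * conjN G n (hNN n hn) := by
  have hfA : RepF a (imgF TA) := hA
  have hfB : RepF b (imgF TB) := hB
  have hgen := closure_subtype_eq_top G a b ha hb (fun g hg => (hgenu g hg).1)
  have hap' : a ^ p = 1 := eq_of_repF (repF_pow hfA p) repF_one hap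
  have ha1' : a ≠ 1 := by
    rintro rfl
    obtain ⟨x, hx, hne⟩ := ha1
    exact hne (repF_apply_eq hfA repF_one rfl x hx)
  obtain ⟨n, hnG, hnT⟩ := hN
  have hn' : n * a * n⁻¹ = a ^ r := by
    have : n * a = a ^ r * n := by
      apply eq_of_repF (repF_mul (repF_of_represents hnT) hfA)
        (repF_mul (repF_pow hfA r) (repF_of_represents hnT))
      exact hNr
    rw [this]; group
  have hconj := exists_conj_prime (G := ↥G) p hcard hs (a := ⟨a, ha⟩) (n := ⟨n, hnG⟩)
    (Subtype.ext hap') (fun h => ha1' (congrArg Subtype.val h)) (r := r)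
    (Subtype.ext hn') (KS.map (·.1)) hcover
  have hrels' : ∀ rr ∈ rels, wordProd rr.1 (⟨a, ha⟩ : ↥G) ⟨b, hb⟩ ^ rr.2 = 1 := by
    intro rr hrr
    have h1 := (relsHoldF_iff hfA hfB rels).1 hrels rr hrr
    apply Subtype.ext
    rw [Subgroup.coe_pow, ← Subgroup.coe_subtype, map_wordProd]
    exact h1
  refine aut_cases G ⟨a, ha⟩ ⟨b, hb⟩ hgen p (Subtype.ext hap')
    (fun h => ha1' (congrArg Subtype.val h)) (KS.map (·.1)) hconj rels hrels' NN hNN ?_ α
  intro k hk b' hb'
  rw [List.mem_map] at hk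
  obtain ⟨ks, hks, rfl⟩ := hk
  obtain ⟨-, C, U, hrep, hchk⟩ := hgenu b' b'.2
  have hfAk : RepF (a ^ ks.1) (imgF ks.2.1) :=
    repF_congr (repF_pow hfA ks.1) (fun x hx => (hKS ks hks x hx).symm)
  have hb'' : ∀ rr ∈ rels, wordProd rr.1 (a ^ ks.1) (b' : Equiv.Perm GolayPt) ^ rr.2 = 1 := by
    intro rr hrr
    have h1 := congrArg Subtype.val (hb' rr hrr)
    rw [Subgroup.coe_pow, ← Subgroup.coe_subtype, map_wordProd] at h1
    exact h1
  have hsq : (b' : Equiv.Perm GolayPt) * b' = 1 := by
    have := hb'' _ hinv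
    simpa [wordProd, pow_two] using this
  unfold candOK at hchk
  rw [Bool.or_eq_true] at hchk
  rcases hchk with h0 | h0
  · exfalso
    have h1 := repF_apply_eq (repF_mul hrep hrep) repF_one hsq
    rw [Bool.not_eq_true', ← Bool.not_eq_true, all24_eq_true] at h0
    apply h0
    intro x hx
    have h2 : imgF C (imgF U (imgF C (imgF U x))) = x := h1 x hx
    rw [h2]
    exact Nat.beq_refl _
  · rw [List.all_eq_true] at h0
    have h1 := h0 ks hks
    rw [Bool.or_eq_true] at h1
    rcases h1 with h1 | h1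
    · exfalso
      rw [Bool.not_eq_true', ← Bool.not_eq_true] at h1
      exact h1 ((relsHoldF_iff hfAk hrep rels).2 hb'')
    · rw [List.any_eq_true] at h1
      obtain ⟨sv, hsv, hsvx⟩ := h1
      rw [all24_eq_true] at hsvx
      obtain ⟨⟨m, hmNN, hmT⟩, hok⟩ := hsurv ks hks sv hsv
      unfold survOK at hok
      rw [Bool.and_eq_true, all24_eq_true, all24_eq_true] at hok
      refine ⟨m, hmNN, ?_, ?_⟩
      · have : m * a = a ^ ks.1 * m := by
          apply eq_of_repF (repF_mul (repF_of_represents hmT) hfA)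
            (repF_mul hfAk (repF_of_represents hmT))
          intro x hx
          exact Nat.eq_of_beq_eq_true (hok.1 x hx)
        show m * a * m⁻¹ = a ^ ks.1
        rw [this]; group
      · have : m * b = (b' : Equiv.Perm GolayPt) * m := by
          apply eq_of_repF (repF_mul (repF_of_represents hmT) hfB)
            (repF_mul hrep (repF_of_represents hmT))
          intro x hx
          have hlt : imgF sv.2 x < 24 := repF_lt (repF_of_represents hmT) x hx
          show imgF sv.2 (imgF TB x) = imgF C (imgF U (imgF sv.2 x))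
          rw [Nat.eq_of_beq_eq_true (hok.2 x hx), Nat.eq_of_beq_eq_true (hsvx _ hlt)]
        show m * b * m⁻¹ = b'
        rw [this]; group

/-! ### The test that an automorphism is not inner -/

/-- the check on an element, the composition of two tables: it does not conjugate the two
generators to the permutations with tables `TA'` and `TB'` -/
def outOK (TA TB TA' TB' C U : ℕ) : Bool :=
  !(all24 (fun x => Nat.beq (imgF C (imgF U (imgF TA x))) (imgF TA' (imgF C (imgF U x)))) &&
    all24 (fun x => Nat.beq (imgF C (imgF U (imgF TB x))) (imgF TB' (imgF C (imgF U x)))))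

theorem repF_conj {t a : Equiv.Perm GolayPt} {TT TA TA' : ℕ} (hT : Represents t TT)
    (hA : Represents a TA) (h : ∀ x < 24, imgF TT (imgF TA x) = imgF TA' (imgF TT x)) :
    RepF (t * a * t⁻¹) (imgF TA') := by
  intro p
  have h1 : idx ((t * a * t⁻¹) p) = imgF TT (imgF TA (idx (t⁻¹ p))) := by
    show idx (t (a (t⁻¹ p))) = _
    rw [hT, hA]
    rfl
  rw [h1, h _ (idx_lt _)]
  have h2 : imgF TT (idx (t⁻¹ p)) = idx (t (t⁻¹ p)) := (hT _).symm
  rw [h2]
  have : t (t⁻¹ p) = p := Equiv.apply_symm_apply t p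
  rw [this]

theorem not_conj_of_outOK {t a b g : Equiv.Perm GolayPt} {TT TA TB TA' TB' C U : ℕ}
    (hT : Represents t TT) (hA : Represents a TA) (hB : Represents b TB)
    (hA' : ∀ x < 24, imgF TT (imgF TA x) = imgF TA' (imgF TT x))
    (hB' : ∀ x < 24, imgF TT (imgF TB x) = imgF TB' (imgF TT x))
    (hg : RepF g (fun x => imgF C (imgF U x))) (hok : outOK TA TB TA' TB' C U = true) :
    ¬ (g * a * g⁻¹ = t * a * t⁻¹ ∧ g * b * g⁻¹ = t * b * t⁻¹) := by
  rintro ⟨h1, h2⟩
  unfold outOK at hok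
  rw [Bool.not_eq_true', ← Bool.not_eq_true] at hok
  apply hok
  rw [Bool.and_eq_true, all24_eq_true, all24_eq_true]
  have e1 : g * a = (t * a * t⁻¹) * g := by rw [← h1]; group
  have e2 : g * b = (t * b * t⁻¹) * g := by rw [← h2]; group
  constructor
  · intro x hx
    have := repF_apply_eq (repF_mul hg (repF_of_represents hA))
      (repF_mul (repF_conj hT hA hA') hg) e1 x hx
    have e : imgF C (imgF U (imgF TA x)) = imgF TA' (imgF C (imgF U x)) := this
    rw [e]
    exact Nat.beq_refl _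
  · intro x hx
    have := repF_apply_eq (repF_mul hg (repF_of_represents hB))
      (repF_mul (repF_conj hT hB hB') hg) e2 x hx
    have e : imgF C (imgF U (imgF TB x)) = imgF TB' (imgF C (imgF U x)) := this
    rw [e]
    exact Nat.beq_refl _

end Cfsg.Agent.Lib.Helper27_EnumGroup
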