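import Mathlib
import Cfsg.Agent.S0376
import Cfsg.Agent.Lib.Helper27_FusM22

/-!
The fusion system of the Mathieu group of degree 23 on a Sylow 2-subgroup is simple: a Sylow
2-subgroup of the stabiliser of the point 0 is a Sylow 2-subgroup of the whole group; the
certificates of the smaller group remain valid, and an element normalising the Sylow subgroup fixes
its only fixed points, hence lies in the smaller group.
-/

set_option autoImplicit false
open scoped Pointwise
open Cfsg
open Cfsg.Agent.Lib.Helper26_Golay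
open Cfsg.Agent.Lib.Helper27_K0Affine
open Cfsg.Agent.Lib.Helper27_EnumGroup
open Cfsg.Agent.Lib.Helper27_FusionSimple
open Cfsg.Agent.Lib.Helper27_OutM22
open Cfsg.Agent.Lib.Helper27_FusM22

namespace Cfsg.Agent.Lib.Helper27_FusM23

/-- the check that a table describes an element of the group -/
def inG23 (T : ℕ) : Bool := tblInM24 T && (img T 23 == 23)

theorem mem_M23 {g : Equiv.Perm GolayPt} : g ∈ Spor.M23 ↔ g ∈ M24 ∧ g none = none := by
  unfold Spor.M23
  rw [Subgroup.mem_inf]
  rfl

theorem card_M23 : Nat.card ↥Spor.M23 = 10200960 := by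
  rw [← Cfsg.Agent.S0376.result (none : GolayPt)]
  apply Nat.card_congr
  exact
    { toFun := fun k => ⟨⟨k.1, (mem_M23.1 k.2).1⟩,
        MulAction.mem_stabilizer_iff.2 (mem_M23.1 k.2).2⟩
      invFun := fun k => ⟨k.1.1, mem_M23.2 ⟨k.1.2, MulAction.mem_stabilizer_iff.1 k.2⟩⟩
      left_inv := fun k => rfl
      right_inv := fun k => rfl }

theorem exists_of_inG23 {T : ℕ} (h : inG23 T = true) : ∃ σ ∈ Spor.M23, Represents σ T := by
  unfold inG23 at h
  simp only [Bool.and_eq_true, beq_iff_eq] at h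
  obtain ⟨h1, h2⟩ := h
  obtain ⟨σ, hσ, hT⟩ := exists_of_tblInM24 h1
  exact ⟨σ, mem_M23.2 ⟨hσ, apply_of_img hT _ _ (by rw [idx_none, h2])⟩, hT⟩

set_option maxRecDepth 100000 in
theorem base_ok23 : baseOK inG23 sd = true := by decide +kernel

set_option maxRecDepth 100000 in
theorem funnel_ok23 : funnelOK inG23 sd = true := by decide +kernel

set_option maxRecDepth 100000 in
theorem der_ok23 : derOK inG23 sd = true := by decide +kernel

/-- every point other than the two fixed ones is moved by a generator -/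
theorem moved : ∀ p < 24, p = 0 ∨ p = 23 ∨ ∃ s ∈ sd.gens, s < sd.N ∧ imgF (sd.tb s) p ≠ p := by
  decide +kernel

theorem norm22 (g : Equiv.Perm GolayPt) (hg : g ∈ Spor.M22)
    (hx : ∀ x ∈ sylSub (fun _ hT => exists_of_inG hT) sd base_ok,
      g * x * g⁻¹ ∈ sylSub (fun _ hT => exists_of_inG hT) sd base_ok) :
    g ∈ sylSub (fun _ hT => exists_of_inG hT) sd base_ok := by
  obtain ⟨a, ha, hA⟩ := exists_of_inG gens_in.1
  obtain ⟨b, hb, hB⟩ := exists_of_inG gens_in.2.1
  have hcard4 : Nat.card ↥Spor.M22 = d0.n * d1.n * d2.n * d3.n := by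
    rw [card_M22]; rfl
  obtain ⟨-, C, U, hrep, hchk⟩ :=
    enum4 hA hB ha hb d0 d1 d2 d3 chain_ok hcard4 (normChk sd) norm_ok g hg
  exact mem_of_normalizes _ base_ok center_ok hrep hchk hx

theorem main (S : Sylow 2 ↥Spor.M23) :
    (Cfsg.groupFusionSystem (S : Subgroup ↥Spor.M23)).IsSimple 2 := by
  apply fusion_simple' (fun _ hT => exists_of_inG23 hT) base_ok23 funnel_ok23 der_ok23 ?_
    7 79695 rfl (by rw [card_M23]; norm_num) (by norm_num) S
  intro g hg hx
  obtain ⟨hgM, hg23⟩ := mem_M23.1 hg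
  -- the normalising element fixes the point 0
  have hfix0 : ∀ y ∈ sylSub (fun _ hT => exists_of_inG23 hT) sd base_ok23,
      y (some 0) = some 0 := by
    rintro y ⟨i, hi, hy⟩
    have : y ∈ sylSub (fun _ hT => exists_of_inG hT) sd base_ok := ⟨i, hi, hy⟩
    exact (mem_M22.1 (sylSub_le _ base_ok this)).2.2
  have hsurj : ∀ y ∈ sylSub (fun _ hT => exists_of_inG23 hT) sd base_ok23,
      ∃ x ∈ sylSub (fun _ hT => exists_of_inG23 hT) sd base_ok23, g * x * g⁻¹ = y := by
    let φ : ↥(sylSub (fun _ hT => exists_of_inG23 hT) sd base_ok23) →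
        ↥(sylSub (fun _ hT => exists_of_inG23 hT) sd base_ok23) :=
      fun x => ⟨g * x * g⁻¹, hx x x.2⟩
    have hinj : Function.Injective φ := by
      intro x y hxy
      have : g * (x : Equiv.Perm GolayPt) * g⁻¹ = g * y * g⁻¹ := congrArg Subtype.val hxy
      exact Subtype.ext (mul_left_cancel (mul_right_cancel this))
    have hs := Finite.injective_iff_surjective.1 hinj
    intro y hy
    obtain ⟨x, hx'⟩ := hs ⟨y, hy⟩
    exact ⟨x, x.2, congrArg Subtype.val hx'⟩
  have hq : ∀ y ∈ sylSub (fun _ hT => exists_of_inG23 hT) sd base_ok23,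
      y (g (some 0)) = g (some 0) := by
    intro y hy
    obtain ⟨x, hxm, rfl⟩ := hsurj y hy
    show g (x (g⁻¹ (g (some 0)))) = g (some 0)
    have : g⁻¹ (g (some 0)) = some 0 := Equiv.symm_apply_apply g _
    rw [this, hfix0 x hxm]
  have hg0 : g (some 0) = some 0 := by
    have hlt := idx_lt (g (some 0))
    rcases moved _ hlt with h | h | ⟨s, hs, hsN, hmv⟩
    · apply idx_injective
      rw [h, idx_zero]
    · exfalso
      have : g (some 0) = none := by
        apply idx_injective
        rw [h, idx_none]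
      rw [← hg23] at this
      exact absurd (g.injective this) (by decide)
    · exfalso
      obtain ⟨-, -, -, -, -, h6, -⟩ := base_facts base_ok23
      obtain ⟨σ, -, hσ⟩ := exists_of_inG23 (h6 s hsN)
      have := hq σ ⟨s, hsN, hσ⟩
      apply hmv
      have e := hσ (g (some 0))
      rw [this] at e
      exact e.symm
  have hg22 : g ∈ Spor.M22 := mem_M22.2 ⟨hgM, hg23, hg0⟩
  obtain ⟨i, hi, hgi⟩ := norm22 g hg22 (by
    rintro x ⟨i, hi, hxi⟩
    obtain ⟨j, hj, hxj⟩ := hx x ⟨i, hi, hxi⟩
    exact ⟨j, hj, hxj⟩)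
  exact ⟨i, hi, hgi⟩

end Cfsg.Agent.Lib.Helper27_FusM23
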