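import Mathlib
import Cfsg.Prelude.Def_FusionSystem
import Cfsg.Agent.S5076
import Cfsg.Agent.Lib.Helper27_EnumGroup

/-!
Simplicity of the fusion system of a group of permutations of the 24 points on a Sylow 2-subgroup
given by tables: a general criterion (the only strongly closed subgroups are trivial or everything,
and the normaliser of the Sylow subgroup induces inner automorphisms), and certificates for both
conditions checked on tables.
-/

set_option autoImplicit false
open Cfsg
open Cfsg.Agent.Lib.Helper26_Golay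
open Cfsg.Agent.Lib.Helper27_K0Affine
open Cfsg.Agent.Lib.Helper27_EnumGroup

namespace Cfsg.Agent.Lib.Helper27_FusionSimple


theorem isSimple_of {G : Type*} [Group G] [Finite G] (p : ℕ) [Fact p.Prime] (S : Sylow p G)
    (hS : (S : Subgroup G) ≠ ⊥)
    (hA : ∀ T : Subgroup G, T ≤ (S : Subgroup G) →
      (∀ t ∈ T, ∀ g : G, g * t * g⁻¹ ∈ (S : Subgroup G) → g * t * g⁻¹ ∈ T) →
      T = ⊥ ∨ T = (S : Subgroup G))
    (hB : ∀ g : G, (∀ x ∈ (S : Subgroup G), g * x * g⁻¹ ∈ (S : Subgroup G)) →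
      ∃ s ∈ (S : Subgroup G), ∀ x ∈ (S : Subgroup G), g * x * g⁻¹ = s * x * s⁻¹) :
    (groupFusionSystem (S : Subgroup G)).IsSimple p := by
  refine ⟨Cfsg.Agent.S5076.result p S, hS, ?_⟩
  intro T E hE
  obtain ⟨⟨-, -, hsub, hsc, -, hfrat⟩, -⟩ := hE
  have hT := hA T hsc.1 (by
    intro t ht g hg
    have hR : Subgroup.zpowers t ≤ T := by
      rw [Subgroup.zpowers_le]; exact ht
    have hφ : conjHom (Subgroup.zpowers t) g ∈
        (groupFusionSystem (S : Subgroup G)).Hom (Subgroup.zpowers t) := by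
      refine ⟨hR.trans hsc.1, ?_, g, fun x => rfl⟩
      rintro ⟨x, hx⟩
      obtain ⟨k, rfl⟩ := Subgroup.mem_zpowers_iff.1 hx
      show g * t ^ k * g⁻¹ ∈ (S : Subgroup G)
      have : g * t ^ k * g⁻¹ = (g * t * g⁻¹) ^ k := by
        rw [conj_zpow]
      rw [this]
      exact Subgroup.zpow_mem _ hg k
    exact hsc.2 _ hR _ hφ ⟨t, Subgroup.mem_zpowers t⟩)
  rcases hT with hT | hT
  · exact Or.inl hT
  · right
    subst hT
    refine ⟨rfl, ?_⟩
    intro P
    apply Set.eq_of_subset_of_subset (hsub P)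
    intro φ hφ
    obtain ⟨α, hα, φ₀, hφ₀, h⟩ := hfrat P hφ.1 φ hφ
    have key : ∀ β ∈ (groupFusionSystem (S : Subgroup G)).autGroup (S : Subgroup G),
        ∃ s ∈ (S : Subgroup G), ∀ x : (S : Subgroup G), ((β x : (S : Subgroup G)) : G) =
          s * x * s⁻¹ := by
      intro β hβ
      unfold FusionSystem.autGroup at hβ
      induction hβ using Subgroup.closure_induction with
      | mem β hβ =>
        obtain ⟨-, -, g, hg⟩ := hβ
        have hg' : ∀ x : (S : Subgroup G), ((β x : (S : Subgroup G)) : G) = g * x * g⁻¹ := hg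
        obtain ⟨s, hs, hs'⟩ := hB g (by
          intro x hx
          rw [← hg' ⟨x, hx⟩]
          exact (β ⟨x, hx⟩).2)
        exact ⟨s, hs, fun x => by rw [hg' x, hs' x x.2]⟩
      | one => exact ⟨1, Subgroup.one_mem _, fun x => by simp⟩
      | mul β γ _ _ hβ hγ =>
        obtain ⟨s, hs, hs'⟩ := hβ
        obtain ⟨r, hr, hr'⟩ := hγ
        refine ⟨s * r, Subgroup.mul_mem _ hs hr, fun x => ?_⟩
        show ((β (γ x) : (S : Subgroup G)) : G) = _
        rw [hs', hr']
        group
      | inv β _ hβ =>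
        obtain ⟨s, hs, hs'⟩ := hβ
        refine ⟨s⁻¹, Subgroup.inv_mem _ hs, fun x => ?_⟩
        have e := hs' (β⁻¹ x)
        have e2 : β (β⁻¹ x) = x := by simp
        rw [e2] at e
        rw [e]
        group
    obtain ⟨s, hs, hs'⟩ := key α hα
    have hS₀ : ∀ x : P, φ₀ x ∈ (S : Subgroup G) := fun x => (E.le_of_mem hφ₀).2 x
    have hc := E.comp_mem hφ₀ (E.conj_mem (le_refl _) hs) hS₀
    have : (conjHom (S : Subgroup G) s).comp (φ₀.codRestrict (S : Subgroup G) hS₀) = φ := by
      ext x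
      rw [h x (hS₀ x), hs']
      rfl
    rw [← this]
    exact hc

theorem isSimple_of_base {G : Type*} [Group G] [Finite G] (p : ℕ) [Fact p.Prime] (S0 : Sylow p G)
    (hS : (S0 : Subgroup G) ≠ ⊥)
    (hA : ∀ T : Subgroup G, T ≤ (S0 : Subgroup G) →
      (∀ t ∈ T, ∀ g : G, g * t * g⁻¹ ∈ (S0 : Subgroup G) → g * t * g⁻¹ ∈ T) →
      T = ⊥ ∨ T = (S0 : Subgroup G))
    (hB : ∀ g : G, (∀ x ∈ (S0 : Subgroup G), g * x * g⁻¹ ∈ (S0 : Subgroup G)) →
      ∃ s ∈ (S0 : Subgroup G), ∀ x ∈ (S0 : Subgroup G), g * x * g⁻¹ = s * x * s⁻¹)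
    (S : Sylow p G) : (groupFusionSystem (S : Subgroup G)).IsSimple p := by
  obtain ⟨c, hc⟩ := MulAction.exists_smul_eq G S0 S
  have hmem : ∀ x : G, x ∈ (S : Subgroup G) ↔ c⁻¹ * x * c ∈ (S0 : Subgroup G) := by
    intro x
    rw [← hc, Sylow.coe_subgroup_smul, Subgroup.mem_pointwise_smul_iff_inv_smul_mem]
    have : (MulAut.conj c)⁻¹ • x = c⁻¹ * x * c := by
      rw [← map_inv, MulAut.smul_def, MulAut.conj_apply, inv_inv]
    rw [this]
  have hmem' : ∀ x : G, x ∈ (S0 : Subgroup G) → c * x * c⁻¹ ∈ (S : Subgroup G) := by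
    intro x hx
    rw [hmem]
    have : c⁻¹ * (c * x * c⁻¹) * c = x := by group
    rw [this]; exact hx
  apply isSimple_of p S
  · intro h
    apply hS
    rw [eq_bot_iff]
    intro x hx
    have := hmem' x hx
    rw [h, Subgroup.mem_bot] at this
    rw [Subgroup.mem_bot]
    have e : x = c⁻¹ * (c * x * c⁻¹) * c := by group
    rw [e, this]; group
  · intro T hTS hcl
    let T0 : Subgroup G := T.map (MulAut.conj c⁻¹).toMonoidHom
    have hT0mem : ∀ y : G, y ∈ T0 ↔ c * y * c⁻¹ ∈ T := by
      intro y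
      constructor
      · rintro ⟨t, ht, rfl⟩
        have : c * ((MulAut.conj c⁻¹).toMonoidHom t) * c⁻¹ = t := by
          show c * (c⁻¹ * t * c⁻¹⁻¹) * c⁻¹ = t
          group
        rw [this]; exact ht
      · intro h
        refine ⟨c * y * c⁻¹, h, ?_⟩
        show c⁻¹ * (c * y * c⁻¹) * c⁻¹⁻¹ = y
        group
    have h1 : T0 ≤ (S0 : Subgroup G) := by
      intro y hy
      have := hTS ((hT0mem y).1 hy)
      rw [hmem] at this
      have e : c⁻¹ * (c * y * c⁻¹) * c = y := by group
      rw [e] at this; exact this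
    have h2 : ∀ t ∈ T0, ∀ g : G, g * t * g⁻¹ ∈ (S0 : Subgroup G) → g * t * g⁻¹ ∈ T0 := by
      intro t ht g hg
      rw [hT0mem]
      have := hcl _ ((hT0mem t).1 ht) (c * g * c⁻¹) (by
        have e : c * g * c⁻¹ * (c * t * c⁻¹) * (c * g * c⁻¹)⁻¹ = c * (g * t * g⁻¹) * c⁻¹ := by
          group
        rw [e]
        exact hmem' _ hg)
      have e : c * g * c⁻¹ * (c * t * c⁻¹) * (c * g * c⁻¹)⁻¹ = c * (g * t * g⁻¹) * c⁻¹ := by
        group
      rw [e] at this
      exact this
    rcases hA T0 h1 h2 with h | h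
    · left
      rw [eq_bot_iff]
      intro t ht
      have : c⁻¹ * t * c ∈ T0 := by
        rw [hT0mem]
        have e : c * (c⁻¹ * t * c) * c⁻¹ = t := by group
        rw [e]; exact ht
      rw [h, Subgroup.mem_bot] at this
      rw [Subgroup.mem_bot]
      have e : t = c * (c⁻¹ * t * c) * c⁻¹ := by group
      rw [e, this]; group
    · right
      apply le_antisymm hTS
      intro x hx
      have := (hmem x).1 hx
      rw [← h, hT0mem] at this
      have e : c * (c⁻¹ * x * c) * c⁻¹ = x := by group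
      rw [e] at this; exact this
  · intro g hg
    obtain ⟨s, hs, hs'⟩ := hB (c⁻¹ * g * c) (by
      intro x hx
      have := hg _ (hmem' x hx)
      rw [hmem] at this
      have e : c⁻¹ * (g * (c * x * c⁻¹) * g⁻¹) * c = c⁻¹ * g * c * x * (c⁻¹ * g * c)⁻¹ := by
        group
      rw [e] at this; exact this)
    refine ⟨c * s * c⁻¹, hmem' s hs, ?_⟩
    intro x hx
    have := hs' _ ((hmem x).1 hx)
    have e1 : g * x * g⁻¹ = c * (c⁻¹ * g * c * (c⁻¹ * x * c) * (c⁻¹ * g * c)⁻¹) * c⁻¹ := by
      group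
    rw [e1, this]
    group



/-! ### A Sylow 2-subgroup given by tables -/

/-- disjunction of `f 0, …, f (n-1)`, by the recursors -/
def anyF (f : ℕ → Bool) (n : ℕ) : Bool :=
  Nat.rec (motive := fun _ => Bool) false
    (fun k acc => Bool.rec (motive := fun _ => Bool) acc true (f k)) n

theorem anyF_succ (f : ℕ → Bool) (n : ℕ) : anyF f (n + 1) = (f n || anyF f n) := by
  have : anyF f (n + 1) = Bool.rec (motive := fun _ => Bool) (anyF f n) true (f n) := rfl
  rw [this]
  cases f n <;> rfl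

theorem anyF_eq_true (f : ℕ → Bool) (n : ℕ) : anyF f n = true ↔ ∃ k < n, f k = true := by
  induction n with
  | zero => simp [anyF]
  | succ n ih =>
    rw [anyF_succ, Bool.or_eq_true, ih]
    constructor
    · rintro (h | ⟨k, hk, h⟩)
      · exact ⟨n, by omega, h⟩
      · exact ⟨k, by omega, h⟩
    · rintro ⟨k, hk, h⟩
      by_cases hkn : k = n
      · subst hkn; exact Or.inl h
      · exact Or.inr ⟨k, by omega, h⟩

/-- the data of a 2-subgroup: its elements as packed tables, its multiplication table, and the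
certificates that it has no proper nontrivial strongly closed subgroup -/
structure SylData where
  /-- the number of elements -/
  N : ℕ
  /-- the packed tables -/
  LL : ℕ
  /-- the index of the identity -/
  idI : ℕ
  /-- the index of the central involution -/
  z : ℕ
  /-- the multiplication table, packed bytes at `N * i + j` -/
  MUL : ℕ
  /-- the inverses, packed bytes -/
  INV : ℕ
  /-- the conjugating tables of the funnel steps -/
  FUNG : ℕ
  /-- the funnel steps, packed: flag, `k`, `j`, rank -/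
  FUNI : ℕ
  /-- the conjugating tables of the derivation steps -/
  DERG : ℕ
  /-- the derivation steps, packed: kind, `i`, `i'`, order -/
  DERI : ℕ
  /-- generators -/
  gens : List ℕ

/-- the `i`-th table -/
def SylData.tb (d : SylData) (i : ℕ) : ℕ := tblAt d.LL i

/-- the index of the product -/
def SylData.mulI (d : SylData) (i j : ℕ) : ℕ :=
  Nat.land (Nat.shiftRight d.MUL (Nat.mul 8 (Nat.add (Nat.mul d.N i) j))) 255

/-- the index of the inverse -/
def SylData.invI (d : SylData) (i : ℕ) : ℕ := Nat.land (Nat.shiftRight d.INV (Nat.mul 8 i)) 255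

/-- the basic checks: indices in range, tables increasing, identity, membership in the group,
multiplication table, inverses -/
def baseOK (inG : ℕ → Bool) (d : SylData) : Bool :=
  Nat.blt d.idI d.N && (Nat.blt d.z d.N && (!(Nat.beq d.z d.idI) &&
  (allF (fun i => Nat.blt (d.tb i) (d.tb (Nat.succ i))) (Nat.pred d.N) &&
  (all24 (fun x => Nat.beq (imgF (d.tb d.idI) x) x) &&
  (allF (fun i => inG (d.tb i)) d.N &&
  (allF (fun i => allF (fun j => forceN (d.mulI i j) fun k => Nat.blt k d.N &&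
    all24 (fun x => Nat.beq (imgF (d.tb k) x) (imgF (d.tb i) (imgF (d.tb j) x)))) d.N) d.N &&
  allF (fun i => forceN (d.invI i) fun k => Nat.blt k d.N &&
    all24 (fun x => Nat.beq (imgF (d.tb i) (imgF (d.tb k) x)) x)) d.N))))))

theorem blt_iff (a b : ℕ) : Nat.blt a b = true ↔ a < b := by
  simp [Nat.blt]

section Base

variable {G : Subgroup (Equiv.Perm GolayPt)} {inG : ℕ → Bool}
  (hinG : ∀ T, inG T = true → ∃ σ ∈ G, Represents σ T) {d : SylData}
  (hb : baseOK inG d = true)

include hb in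
theorem base_facts : d.idI < d.N ∧ d.z < d.N ∧ d.z ≠ d.idI ∧
    (∀ i, i + 1 < d.N → d.tb i < d.tb (i + 1)) ∧
    (∀ x < 24, imgF (d.tb d.idI) x = x) ∧ (∀ i < d.N, inG (d.tb i) = true) ∧
    (∀ i < d.N, ∀ j < d.N, d.mulI i j < d.N ∧
      ∀ x < 24, imgF (d.tb (d.mulI i j)) x = imgF (d.tb i) (imgF (d.tb j) x)) ∧
    (∀ i < d.N, d.invI i < d.N ∧ ∀ x < 24, imgF (d.tb i) (imgF (d.tb (d.invI i)) x) = x) := by
  unfold baseOK at hb
  simp only [Bool.and_eq_true, blt_iff, allF_eq_true, all24_eq_true, forceN_eq,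
    Bool.not_eq_true', ← Bool.not_eq_true] at hb
  obtain ⟨h1, h2, h3, h4, h5, h6, h7, h8⟩ := hb
  refine ⟨h1, h2, fun e => h3 (by rw [e]; exact Nat.beq_refl _), ?_, ?_, h6, ?_, ?_⟩
  · intro i hi
    exact h4 i (by rw [Nat.pred_eq_sub_one]; omega)
  · intro x hx
    exact Nat.eq_of_beq_eq_true (h5 x hx)
  · intro i hi j hj
    obtain ⟨e1, e2⟩ := h7 i hi j hj
    exact ⟨e1, fun x hx => Nat.eq_of_beq_eq_true (e2 x hx)⟩
  · intro i hi
    obtain ⟨e1, e2⟩ := h8 i hi
    exact ⟨e1, fun x hx => Nat.eq_of_beq_eq_true (e2 x hx)⟩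

include hb in
theorem tb_lt_of_lt {i j : ℕ} (hij : i < j) (hj : j < d.N) : d.tb i < d.tb j := by
  obtain ⟨-, -, -, h4, -⟩ := base_facts hb
  induction j with
  | zero => omega
  | succ j ih =>
    have hstep : d.tb j < d.tb (j + 1) := h4 j hj
    rcases Nat.lt_succ_iff_lt_or_eq.1 hij with h | h
    · exact (ih h (by omega)).trans hstep
    · rw [h]; exact hstep

include hb in
theorem tb_inj {i j : ℕ} (hi : i < d.N) (hj : j < d.N)
    (h : ∀ x < 24, imgF (d.tb i) x = imgF (d.tb j) x) : i = j := by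
  have e : d.tb i = d.tb j := table_ext (tblAt_lt _ _) (tblAt_lt _ _) h
  by_contra hne
  rcases Nat.lt_or_gt_of_ne hne with h' | h'
  · exact absurd e (ne_of_lt (tb_lt_of_lt hb h' hj))
  · exact absurd e.symm (ne_of_lt (tb_lt_of_lt hb h' hi))

/-- the subgroup of the permutations with the listed tables -/
def sylSub (hinG : ∀ T, inG T = true → ∃ σ ∈ G, Represents σ T) (d : SylData)
    (hb : baseOK inG d = true) : Subgroup (Equiv.Perm GolayPt) where
  carrier := {σ | ∃ i < d.N, Represents σ (d.tb i)}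
  one_mem' := by
    obtain ⟨h1, -, -, -, h5, -⟩ := base_facts hb
    refine ⟨d.idI, h1, ?_⟩
    intro p
    show idx p = imgF _ (idx p)
    rw [h5 _ (idx_lt p)]
  mul_mem' := by
    rintro σ τ ⟨i, hi, hσ⟩ ⟨j, hj, hτ⟩
    obtain ⟨-, -, -, -, -, -, h7, -⟩ := base_facts hb
    obtain ⟨e1, e2⟩ := h7 i hi j hj
    refine ⟨d.mulI i j, e1, ?_⟩
    exact repF_congr (repF_mul (repF_of_represents hσ) (repF_of_represents hτ))
      (fun x hx => (e2 x hx).symm)
  inv_mem' := by
    rintro σ ⟨i, hi, hσ⟩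
    obtain ⟨-, -, -, -, -, h6, -, h8⟩ := base_facts hb
    obtain ⟨e1, e2⟩ := h8 i hi
    obtain ⟨τ, -, hτ⟩ := hinG _ (h6 _ e1)
    have h1 : σ * τ = 1 :=
      eq_of_repF (repF_mul (repF_of_represents hσ) (repF_of_represents hτ)) repF_one e2
    have h2 : σ⁻¹ = τ := inv_eq_of_mul_eq_one_right h1
    exact ⟨d.invI i, e1, by rw [h2]; exact hτ⟩

include hb in
theorem sylSub_le : sylSub hinG d hb ≤ G := by
  rintro σ ⟨i, hi, hσ⟩
  obtain ⟨-, -, -, -, -, h6, -⟩ := base_facts hb
  obtain ⟨τ, hτG, hτ⟩ := hinG _ (h6 i hi)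
  rw [eq_of_represents hσ hτ]
  exact hτG

theorem mem_sylSub {σ : Equiv.Perm GolayPt} :
    σ ∈ sylSub hinG d hb ↔ ∃ i < d.N, Represents σ (d.tb i) := Iff.rfl

include hb in
theorem card_sylSub : Nat.card ↥(sylSub hinG d hb) = d.N := by
  obtain ⟨-, -, -, -, -, h6, -⟩ := base_facts hb
  have hex : ∀ i : Fin d.N, ∃ σ : ↥(sylSub hinG d hb), Represents (σ : Equiv.Perm GolayPt)
      (d.tb i) := by
    intro i
    obtain ⟨τ, -, hτ⟩ := hinG _ (h6 i i.2)
    exact ⟨⟨τ, i, i.2, hτ⟩, hτ⟩
  let f : Fin d.N → ↥(sylSub hinG d hb) := fun i => (hex i).choose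
  have hf : ∀ i, Represents (f i : Equiv.Perm GolayPt) (d.tb i) := fun i => (hex i).choose_spec
  have hbij : Function.Bijective f := by
    constructor
    · intro i j h
      apply Fin.ext
      apply tb_inj hb i.2 j.2
      intro x hx
      have h1 := hf i (pt x)
      have h2 := hf j (pt x)
      rw [idx_pt x hx] at h1 h2
      show img _ x = img _ x
      rw [← h1, ← h2, h]
    · rintro ⟨σ, i, hi, hσ⟩
      refine ⟨⟨i, hi⟩, ?_⟩
      apply Subtype.ext
      exact eq_of_represents (hf ⟨i, hi⟩) hσ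
  rw [← Nat.card_congr (Equiv.ofBijective f hbij), Nat.card_eq_fintype_card, Fintype.card_fin]

end Base



/-! ### Strongly closed subgroups -/

/-- the packed entry of a funnel step -/
def funE (d : SylData) (i : ℕ) : ℕ := Nat.land (Nat.shiftRight d.FUNI (Nat.mul 32 i)) 4294967295

/-- the rank of an element in the funnel -/
def rankOf (d : SylData) (i : ℕ) : ℕ := Nat.shiftRight (funE d i) 17

/-- the packed entry of a derivation step -/
def derE (d : SylData) (i : ℕ) : ℕ := Nat.land (Nat.shiftRight d.DERI (Nat.mul 32 i)) 4294967295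

/-- the order of an element in the derivation -/
def ordOf (d : SylData) (i : ℕ) : ℕ := Nat.shiftRight (derE d i) 17

/-- the check of the funnel: from each element other than the identity and the central involution,
a conjugate in the subgroup, or its product with the element, has lower rank -/
def funnelOK (inG : ℕ → Bool) (d : SylData) : Bool :=
  allF (fun i => Nat.beq i d.idI || (Nat.beq i d.z || forceN (funE d i) fun e =>
    forceN (Nat.land (Nat.shiftRight e 1) 255) fun k =>
    forceN (Nat.land (Nat.shiftRight e 9) 255) fun j =>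
    forceN (tblAt d.FUNG i) fun g =>
      inG g && (Nat.blt k d.N && (Nat.blt j d.N && (!(Nat.beq j d.idI) &&
      (all24 (fun x => Nat.beq (imgF g (imgF (d.tb i) x)) (imgF (d.tb k) (imgF g x))) &&
      (Nat.beq j (cond (Nat.beq (Nat.land e 1) 1) (d.mulI i k) k) &&
      Nat.blt (rankOf d j) (Nat.shiftRight e 17)))))))) d.N

/-- the check of the derivation: each element other than the identity and the central involution
is a product of two earlier elements or a conjugate of an earlier element -/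
def derOK (inG : ℕ → Bool) (d : SylData) : Bool :=
  allF (fun j => Nat.beq j d.idI || (Nat.beq j d.z || forceN (derE d j) fun e =>
    forceN (Nat.land (Nat.shiftRight e 1) 255) fun i =>
    forceN (Nat.land (Nat.shiftRight e 9) 255) fun i' =>
      Nat.blt i d.N && (Nat.blt i' d.N && (Nat.blt (ordOf d i) (Nat.shiftRight e 17) &&
      (Nat.blt (ordOf d i') (Nat.shiftRight e 17) &&
      cond (Nat.beq (Nat.land e 1) 1)
        (forceN (tblAt d.DERG j) fun g => inG g &&
          all24 (fun x => Nat.beq (imgF g (imgF (d.tb i) x)) (imgF (d.tb j) (imgF g x))))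
        (Nat.beq j (d.mulI i i'))))))) d.N

section Closed

variable {G : Subgroup (Equiv.Perm GolayPt)} {inG : ℕ → Bool}
  (hinG : ∀ T, inG T = true → ∃ σ ∈ G, Represents σ T) {d : SylData}
  (hb : baseOK inG d = true)
  (Q : Equiv.Perm GolayPt → Prop)
  (Qmul : ∀ x y, Q x → Q y → Q (x * y))
  (Qconj : ∀ x, Q x → ∀ γ ∈ G, γ * x * γ⁻¹ ∈ sylSub hinG d hb → Q (γ * x * γ⁻¹))

include hinG hb Qconj in
theorem Q_of_conj {i k : ℕ} (hi : i < d.N) (hk : k < d.N) {g : ℕ} (hg : inG g = true)
    (h : ∀ x < 24, imgF g (imgF (d.tb i) x) = imgF (d.tb k) (imgF g x))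
    (hQ : ∀ σ, Represents σ (d.tb i) → Q σ) : ∀ σ, Represents σ (d.tb k) → Q σ := by
  intro τ hτ
  obtain ⟨-, -, -, -, -, h6, -⟩ := base_facts hb
  obtain ⟨γ, hγG, hγ⟩ := hinG _ hg
  obtain ⟨σ, -, hσ⟩ := hinG _ (h6 i hi)
  have e : γ * σ = τ * γ :=
    eq_of_repF (repF_mul (repF_of_represents hγ) (repF_of_represents hσ))
      (repF_mul (repF_of_represents hτ) (repF_of_represents hγ)) h
  have e' : γ * σ * γ⁻¹ = τ := by rw [e]; group
  have := Qconj σ (hQ σ hσ) γ hγG (by rw [e']; exact ⟨k, hk, hτ⟩)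
  rwa [e'] at this

include hinG hb Qmul in
theorem Q_of_mul {i k : ℕ} (hi : i < d.N) (hk : k < d.N)
    (hQi : ∀ σ, Represents σ (d.tb i) → Q σ) (hQk : ∀ σ, Represents σ (d.tb k) → Q σ) :
    ∀ σ, Represents σ (d.tb (d.mulI i k)) → Q σ := by
  intro τ hτ
  obtain ⟨-, -, -, -, -, h6, h7, -⟩ := base_facts hb
  obtain ⟨σ, -, hσ⟩ := hinG _ (h6 i hi)
  obtain ⟨ρ, -, hρ⟩ := hinG _ (h6 k hk)
  obtain ⟨-, e2⟩ := h7 i hi k hk
  have e : τ = σ * ρ :=
    eq_of_repF (repF_of_represents hτ) (repF_mul (repF_of_represents hσ) (repF_of_represents hρ)) e2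
  rw [e]
  exact Qmul _ _ (hQi σ hσ) (hQk ρ hρ)

include hinG hb Qmul Qconj in
theorem funnel (hf : funnelOK inG d = true) (i : ℕ) (hi : i < d.N) (hid : i ≠ d.idI)
    (hQ : ∀ σ, Represents σ (d.tb i) → Q σ) : ∀ σ, Represents σ (d.tb d.z) → Q σ := by
  unfold funnelOK at hf
  rw [allF_eq_true] at hf
  induction' hr : rankOf d i using Nat.strong_induction_on with r ih generalizing i
  have h1 := hf i hi
  simp only [Bool.or_eq_true, forceN_eq, Bool.and_eq_true, blt_iff, all24_eq_true,
    Bool.not_eq_true', ← Bool.not_eq_true] at h1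
  rcases h1 with h1 | h1 | ⟨hg, hk, hj, hjid, hconj, hjeq, hrank⟩
  · exact absurd (Nat.eq_of_beq_eq_true h1) hid
  · rw [← Nat.eq_of_beq_eq_true h1]; exact hQ
  · have hQk := Q_of_conj hinG hb Q Qconj hi hk hg
      (fun x hx => Nat.eq_of_beq_eq_true (hconj x hx)) hQ
    have hjeq' := Nat.eq_of_beq_eq_true hjeq
    have hQj : ∀ σ, Represents σ (d.tb (Nat.land (Nat.shiftRight (funE d i) 9) 255)) → Q σ := by
      rw [hjeq']
      cases Nat.beq (Nat.land (funE d i) 1) 1
      · exact hQk
      · exact Q_of_mul hinG hb Q Qmul hi hk hQ hQk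
    have hjid' : Nat.land (Nat.shiftRight (funE d i) 9) 255 ≠ d.idI := by
      intro e
      apply hjid
      rw [e]
      exact Nat.beq_refl _
    exact ih _ (by rw [← hr]; exact hrank) _ hj hjid' hQj rfl

include hinG hb Qmul Qconj in
theorem derive (hd : derOK inG d = true) (hQ1 : Q 1)
    (hQz : ∀ σ, Represents σ (d.tb d.z) → Q σ) (j : ℕ) (hj : j < d.N) :
    ∀ σ, Represents σ (d.tb j) → Q σ := by
  unfold derOK at hd
  rw [allF_eq_true] at hd
  induction' ho : ordOf d j using Nat.strong_induction_on with o ih generalizing j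
  have h1 := hd j hj
  simp only [Bool.or_eq_true, forceN_eq, Bool.and_eq_true, blt_iff] at h1
  rcases h1 with h1 | h1 | ⟨hi, hi', ho1, ho2, hstep⟩
  · rw [Nat.eq_of_beq_eq_true h1]
    intro σ hσ
    obtain ⟨-, -, -, -, h5, -⟩ := base_facts hb
    have : σ = 1 := eq_of_repF (repF_of_represents hσ) repF_one h5
    rw [this]; exact hQ1
  · rw [Nat.eq_of_beq_eq_true h1]; exact hQz
  · have hQi := ih _ (by rw [← ho]; exact ho1) _ hi rfl
    have hQi' := ih _ (by rw [← ho]; exact ho2) _ hi' rfl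
    cases hk : Nat.beq (Nat.land (derE d j) 1) 1
    · rw [hk] at hstep
      have e := Nat.eq_of_beq_eq_true hstep
      have := Q_of_mul hinG hb Q Qmul hi hi' hQi hQi'
      rw [← e] at this
      exact this
    · rw [hk] at hstep
      simp only [cond_true, Bool.and_eq_true, all24_eq_true] at hstep
      exact Q_of_conj hinG hb Q Qconj hi hj hstep.1
        (fun x hx => Nat.eq_of_beq_eq_true (hstep.2 x hx)) hQi

end Closed



/-! ### The normaliser -/

/-- the check that the central involution is central and that only it and the identity commute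
with the generators -/
def centerOK (d : SylData) : Bool :=
  d.gens.all (fun s => Nat.blt s d.N) &&
  (allF (fun i => Nat.beq (d.mulI d.z i) (d.mulI i d.z)) d.N &&
  allF (fun i => Nat.beq i d.idI || (Nat.beq i d.z ||
    !(d.gens.all fun s => Nat.beq (d.mulI i s) (d.mulI s i)))) d.N)

/-- the check on an element of the group, the composition of two tables: it does not commute with
the central involution, or it does not normalise the subgroup, or it lies in the subgroup -/
def normChk (d : SylData) (C U : ℕ) : Bool :=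
  !(all24 fun x => Nat.beq (imgF C (imgF U (imgF (d.tb d.z) x)))
      (imgF (d.tb d.z) (imgF C (imgF U x)))) ||
  (!(d.gens.all fun s => anyF (fun i => all24 fun x =>
      Nat.beq (imgF C (imgF U (imgF (d.tb s) x))) (imgF (d.tb i) (imgF C (imgF U x)))) d.N) ||
   anyF (fun i => all24 fun x => Nat.beq (imgF C (imgF U x)) (imgF (d.tb i) x)) d.N)

section Norm

variable {G : Subgroup (Equiv.Perm GolayPt)} {inG : ℕ → Bool}
  (hinG : ∀ T, inG T = true → ∃ σ ∈ G, Represents σ T) {d : SylData}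
  (hb : baseOK inG d = true)

include hb in
theorem mulI_inj {i j k : ℕ} (hi : i < d.N) (hj : j < d.N) (hk : k < d.N)
    {σ τ : Equiv.Perm GolayPt} (hσ : Represents σ (d.tb i)) (hτ : Represents τ (d.tb j))
    (h : Represents (σ * τ) (d.tb k)) : d.mulI i j = k := by
  obtain ⟨-, -, -, -, -, -, h7, -⟩ := base_facts hb
  obtain ⟨e1, e2⟩ := h7 i hi j hj
  apply tb_inj hb e1 hk
  intro x hx
  rw [e2 x hx]
  exact repF_apply_eq (repF_mul (repF_of_represents hσ) (repF_of_represents hτ))
    (repF_of_represents h) rfl x hx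

include hb in
theorem mem_of_normalizes (hc : centerOK d = true) {g : Equiv.Perm GolayPt} {C U : ℕ}
    (hg : RepF g (fun x => imgF C (imgF U x))) (hchk : normChk d C U = true)
    (hnorm : ∀ x ∈ sylSub hinG d hb, g * x * g⁻¹ ∈ sylSub hinG d hb) :
    g ∈ sylSub hinG d hb := by
  obtain ⟨h1, h2, h3, -, h5, h6, h7, -⟩ := base_facts hb
  unfold centerOK at hc
  simp only [Bool.and_eq_true, List.all_eq_true, blt_iff, allF_eq_true, Bool.or_eq_true,
    Bool.not_eq_true', ← Bool.not_eq_true] at hc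
  obtain ⟨hgens, hzc, hcen⟩ := hc
  -- conjugation by `g` is onto the subgroup
  have hsurj : ∀ y ∈ sylSub hinG d hb, ∃ x ∈ sylSub hinG d hb, g * x * g⁻¹ = y := by
    let φ : ↥(sylSub hinG d hb) → ↥(sylSub hinG d hb) := fun x => ⟨g * x * g⁻¹, hnorm x x.2⟩
    have hinj : Function.Injective φ := by
      intro x y hxy
      have : g * (x : Equiv.Perm GolayPt) * g⁻¹ = g * y * g⁻¹ := congrArg Subtype.val hxy
      exact Subtype.ext (mul_left_cancel (mul_right_cancel this))
    have hs := Finite.injective_iff_surjective.1 hinj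
    intro y hy
    obtain ⟨x, hx⟩ := hs ⟨y, hy⟩
    exact ⟨x, x.2, congrArg Subtype.val hx⟩
  obtain ⟨ζ, -, hζ⟩ := hinG _ (h6 d.z h2)
  have hζmem : ζ ∈ sylSub hinG d hb := ⟨d.z, h2, hζ⟩
  -- the conjugate of the central involution is central
  obtain ⟨m, hm, hmT⟩ := hnorm ζ hζmem
  have hcomm : ∀ y ∈ sylSub hinG d hb, (g * ζ * g⁻¹) * y = y * (g * ζ * g⁻¹) := by
    intro y hy
    obtain ⟨x, ⟨ix, hix, hxT⟩, rfl⟩ := hsurj y hy
    have e : ζ * x = x * ζ := by
      have e1 := mulI_inj hb h2 hix (h7 d.z h2 ix hix).1 hζ hxT (by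
        exact repF_congr (repF_mul (repF_of_represents hζ) (repF_of_represents hxT))
          (fun u hu => ((h7 d.z h2 ix hix).2 u hu).symm))
      have r1 : Represents (ζ * x) (d.tb (d.mulI d.z ix)) :=
        repF_congr (repF_mul (repF_of_represents hζ) (repF_of_represents hxT))
          (fun u hu => ((h7 d.z h2 ix hix).2 u hu).symm)
      have r2 : Represents (x * ζ) (d.tb (d.mulI ix d.z)) :=
        repF_congr (repF_mul (repF_of_represents hxT) (repF_of_represents hζ))
          (fun u hu => ((h7 ix hix d.z h2).2 u hu).symm)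
      rw [Nat.eq_of_beq_eq_true (hzc ix hix)] at r1
      exact eq_of_represents r1 r2
    calc g * ζ * g⁻¹ * (g * x * g⁻¹) = g * (ζ * x) * g⁻¹ := by group
      _ = g * (x * ζ) * g⁻¹ := by rw [e]
      _ = g * x * g⁻¹ * (g * ζ * g⁻¹) := by group
  have hmz : m = d.z := by
    rcases hcen m hm with e | e | e
    · exfalso
      have e' := Nat.eq_of_beq_eq_true e
      rw [e'] at hmT
      have : g * ζ * g⁻¹ = 1 := eq_of_repF (repF_of_represents hmT) repF_one h5
      have hζ1 : ζ = 1 := by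
        have : ζ = g⁻¹ * (g * ζ * g⁻¹) * g := by group
        rw [this, ‹g * ζ * g⁻¹ = 1›]; group
      rw [hζ1] at hζ
      have := tb_inj hb h2 h1 (fun x hx => by
        rw [h5 x hx]
        exact (repF_apply_eq (repF_of_represents hζ) repF_one rfl x hx))
      exact h3 this
    · exact Nat.eq_of_beq_eq_true e
    · exfalso
      apply e
      intro s hs
      have hsN := hgens s hs
      obtain ⟨σs, -, hσs⟩ := hinG _ (h6 s hsN)
      have c := hcomm σs ⟨s, hsN, hσs⟩
      have r1 : Represents ((g * ζ * g⁻¹) * σs) (d.tb (d.mulI m s)) :=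
        repF_congr (repF_mul (repF_of_represents hmT) (repF_of_represents hσs))
          (fun u hu => ((h7 m hm s hsN).2 u hu).symm)
      have r2 : Represents (σs * (g * ζ * g⁻¹)) (d.tb (d.mulI s m)) :=
        repF_congr (repF_mul (repF_of_represents hσs) (repF_of_represents hmT))
          (fun u hu => ((h7 s hsN m hm).2 u hu).symm)
      rw [c] at r1
      have := tb_inj hb (h7 m hm s hsN).1 (h7 s hsN m hm).1 (fun x hx =>
        repF_apply_eq (repF_of_represents r1) (repF_of_represents r2) rfl x hx)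
      rw [this]
      exact Nat.beq_refl _
  rw [hmz] at hmT
  have hgz : g * ζ = ζ * g := by
    have : g * ζ * g⁻¹ = ζ := eq_of_represents hmT hζ
    calc g * ζ = (g * ζ * g⁻¹) * g := by group
      _ = ζ * g := by rw [this]
  unfold normChk at hchk
  rw [Bool.or_eq_true, Bool.or_eq_true] at hchk
  rcases hchk with hc1 | hc2 | hc3
  · exfalso
    rw [Bool.not_eq_true', ← Bool.not_eq_true, all24_eq_true] at hc1
    apply hc1
    intro x hx
    have := repF_apply_eq (repF_mul hg (repF_of_represents hζ))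
      (repF_mul (repF_of_represents hζ) hg) hgz x hx
    have e : imgF C (imgF U (imgF (d.tb d.z) x)) = imgF (d.tb d.z) (imgF C (imgF U x)) := this
    rw [e]
    exact Nat.beq_refl _
  · exfalso
    rw [Bool.not_eq_true', ← Bool.not_eq_true, List.all_eq_true] at hc2
    apply hc2
    intro s hs
    have hsN := hgens s hs
    obtain ⟨σs, -, hσs⟩ := hinG _ (h6 s hsN)
    obtain ⟨i, hi, hiT⟩ := hnorm σs ⟨s, hsN, hσs⟩
    rw [anyF_eq_true]
    refine ⟨i, hi, ?_⟩
    rw [all24_eq_true]
    intro x hx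
    have e0 : g * σs = (g * σs * g⁻¹) * g := by group
    have := repF_apply_eq (repF_mul hg (repF_of_represents hσs))
      (repF_mul (repF_of_represents hiT) hg) e0 x hx
    have e : imgF C (imgF U (imgF (d.tb s) x)) = imgF (d.tb i) (imgF C (imgF U x)) := this
    rw [e]
    exact Nat.beq_refl _
  · rw [anyF_eq_true] at hc3
    obtain ⟨i, hi, hiT⟩ := hc3
    rw [all24_eq_true] at hiT
    exact ⟨i, hi, repF_congr hg (fun x hx => Nat.eq_of_beq_eq_true (hiT x hx))⟩

end Norm



/-! ### The fusion system is simple -/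

theorem fusion_simple' {G : Subgroup (Equiv.Perm GolayPt)} {inG : ℕ → Bool}
    (hinG : ∀ T, inG T = true → ∃ σ ∈ G, Represents σ T) {d : SylData}
    (hb : baseOK inG d = true) (hf : funnelOK inG d = true) (hd : derOK inG d = true)
    (hnorm : ∀ g ∈ G, (∀ x ∈ sylSub hinG d hb, g * x * g⁻¹ ∈ sylSub hinG d hb) →
      g ∈ sylSub hinG d hb)
    (n m : ℕ) (hN : d.N = 2 ^ n) (hcardG : Nat.card ↥G = 2 ^ n * m) (hm : ¬ 2 ∣ m)
    (S : Sylow 2 ↥G) : (groupFusionSystem (S : Subgroup ↥G)).IsSimple 2 := by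
  have hp : Fact (Nat.Prime 2) := ⟨Nat.prime_two⟩
  obtain ⟨h1, h2, h3, -, h5, h6, -⟩ := base_facts hb
  have hm0 : m ≠ 0 := by
    rintro rfl
    simp at hm
  have hfac : (Nat.card ↥G).factorization 2 = n := by
    rw [hcardG, Nat.factorization_mul (pow_ne_zero _ (by norm_num)) hm0,
      Nat.Prime.factorization_pow Nat.prime_two]
    simp [Nat.factorization_eq_zero_of_not_dvd hm]
  let S0sub : Subgroup ↥G := (sylSub hinG d hb).subgroupOf G
  have hcard0 : Nat.card ↥S0sub = d.N := by
    rw [← card_sylSub hinG hb]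
    exact Nat.card_congr (Subgroup.subgroupOfEquivOfLe (sylSub_le hinG hb)).toEquiv
  let S0 : Sylow 2 ↥G := Sylow.ofCard S0sub (by rw [hcard0, hfac, hN])
  have hS0 : (S0 : Subgroup ↥G) = S0sub := rfl
  have hmemS0 : ∀ x : ↥G, x ∈ (S0 : Subgroup ↥G) ↔ (x : Equiv.Perm GolayPt) ∈ sylSub hinG d hb := by
    intro x
    rw [hS0]
    exact Subgroup.mem_subgroupOf
  apply isSimple_of_base 2 S0
  · intro h
    have : Nat.card ↥(S0 : Subgroup ↥G) = 1 := by rw [h]; exact Subgroup.card_bot
    rw [hS0, hcard0] at this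
    omega
  · intro T hTS hcl
    by_cases hT : T = ⊥
    · exact Or.inl hT
    · right
      obtain ⟨⟨t, htT⟩, ht1⟩ := (Subgroup.ne_bot_iff_exists_ne_one).1 hT
      have ht1' : (t : Equiv.Perm GolayPt) ≠ 1 := by
        intro e
        apply ht1
        apply Subtype.ext
        apply Subtype.ext
        exact e
      let Q : Equiv.Perm GolayPt → Prop := fun x => ∃ h : x ∈ G, (⟨x, h⟩ : ↥G) ∈ T
      have Qmul : ∀ x y, Q x → Q y → Q (x * y) := by
        rintro x y ⟨hx, hxT⟩ ⟨hy, hyT⟩
        exact ⟨G.mul_mem hx hy, T.mul_mem hxT hyT⟩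
      have Qconj : ∀ x, Q x → ∀ γ ∈ G, γ * x * γ⁻¹ ∈ sylSub hinG d hb → Q (γ * x * γ⁻¹) := by
        rintro x ⟨hx, hxT⟩ γ hγ hmem
        refine ⟨G.mul_mem (G.mul_mem hγ hx) (G.inv_mem hγ), ?_⟩
        exact hcl ⟨x, hx⟩ hxT ⟨γ, hγ⟩ ((hmemS0 _).2 hmem)
      obtain ⟨i, hi, hiT⟩ := (hmemS0 _).1 (hTS htT)
      have hiid : i ≠ d.idI := by
        rintro rfl
        apply ht1'
        exact eq_of_repF (repF_of_represents hiT) repF_one h5
      have hQi : ∀ σ, Represents σ (d.tb i) → Q σ := by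
        intro σ hσ
        have : σ = t := eq_of_represents hσ hiT
        rw [this]
        exact ⟨t.2, htT⟩
      have hQz := funnel hinG hb Q Qmul Qconj hf i hi hiid hQi
      have hQ1 : Q 1 := ⟨G.one_mem, T.one_mem⟩
      have hall := derive hinG hb Q Qmul Qconj hd hQ1 hQz
      apply le_antisymm hTS
      intro x hx
      obtain ⟨j, hj, hjT⟩ := (hmemS0 x).1 hx
      obtain ⟨_, hxT⟩ := hall j hj _ hjT
      exact hxT
  · intro g hg
    have hmem := hnorm g.1 g.2 (by
      intro x hx
      have hxG : x ∈ G := sylSub_le hinG hb hx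
      have := hg ⟨x, hxG⟩ ((hmemS0 _).2 hx)
      exact (hmemS0 _).1 this)
    exact ⟨g, (hmemS0 g).2 hmem, fun x _ => rfl⟩

theorem fusion_simple {G : Subgroup (Equiv.Perm GolayPt)} {inG : ℕ → Bool}
    (hinG : ∀ T, inG T = true → ∃ σ ∈ G, Represents σ T) {d : SylData}
    (hb : baseOK inG d = true) (hf : funnelOK inG d = true) (hd : derOK inG d = true)
    (hc : centerOK d = true)
    (hgenu : ∀ g ∈ G, ∃ C U, RepF g (fun x => imgF C (imgF U x)) ∧ normChk d C U = true)
    (n m : ℕ) (hN : d.N = 2 ^ n) (hcardG : Nat.card ↥G = 2 ^ n * m) (hm : ¬ 2 ∣ m)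
    (S : Sylow 2 ↥G) : (groupFusionSystem (S : Subgroup ↥G)).IsSimple 2 := by
  apply fusion_simple' hinG hb hf hd ?_ n m hN hcardG hm S
  intro g hg hx
  obtain ⟨C, U, hrep, hchk⟩ := hgenu g hg
  exact mem_of_normalizes hinG hb hc hrep hchk hx

end Cfsg.Agent.Lib.Helper27_FusionSimple
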