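import Mathlib
import Cfsg.Agent.Lib.Helper27_GolayLike

set_option autoImplicit false
open Cfsg

/-! The punctured code of length 23 (delete the extra point): counting tools. -/

namespace Cfsg.Agent.Lib.Helper27_Golay23

open Cfsg.Agent.Lib.Helper26_Golay Cfsg.Agent.Lib.Helper93_Code24 Cfsg.Agent.Lib.Helper7_M24
open Cfsg.Agent.Lib.Helper27_GolayLike

/-- counting code words by a decidable property of their bitmask -/
theorem ncard_golay_filter (Q : ℕ → Prop) [DecidablePred Q] :
    {w : GolayPt → ZMod 2 | w ∈ golayCode ∧ Q (enc (support₂ w))}.ncard =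
      (codeList.filter (fun n => Q n)).length := by
  have hinj : Function.Injective (fun w : GolayPt → ZMod 2 => enc (support₂ w)) :=
    fun a b h => support₂_injective (enc_injective h)
  have himg : (fun w : GolayPt → ZMod 2 => enc (support₂ w)) ''
      {w : GolayPt → ZMod 2 | w ∈ golayCode ∧ Q (enc (support₂ w))} =
      ↑(codeList.filter (fun n => Q n)).toFinset := by
    ext n
    simp only [Set.mem_image, Set.mem_ofPred_eq, Finset.mem_coe, List.mem_toFinset, List.mem_filter,
      decide_eq_true_eq]
    constructor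
    · rintro ⟨w, ⟨hw, hQ⟩, rfl⟩
      exact ⟨(mem_codeList_iff _).2 ((mem_golayCode_iff w).1 hw), hQ⟩
    · rintro ⟨hn, hQ⟩
      have hc := (mem_codeList_iff _).1 hn
      have hlt := lt_of_isCode hc
      have he : enc (support₂ (wordOf n)) = n := by rw [support₂_wordOf, enc_dec _ hlt]
      refine ⟨wordOf n, ⟨(wordOf_mem_golayCode_iff n hlt).2 hc, ?_⟩, he⟩
      rw [he]; exact hQ
  rw [← Set.ncard_image_of_injective _ hinj, himg, Set.ncard_coe_finset,
    List.toFinset_card_of_nodup (codeList_nodup.filter _)]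

/-- puncturing at the extra point -/
def punct : (GolayPt → ZMod 2) →ₗ[ZMod 2] (ZMod 23 → ZMod 2) :=
  LinearMap.funLeft (ZMod 2) (ZMod 2) some

theorem punct_apply (w : GolayPt → ZMod 2) (x : ZMod 23) : punct w x = w (some x) := rfl

/-- the punctured code -/
def code23 : Set (ZMod 23 → ZMod 2) := {u | ∃ w ∈ golayCode, ∀ x : ZMod 23, u x = w (some x)}

theorem code23_eq : code23 = punct '' (golayCode : Set (GolayPt → ZMod 2)) := by
  ext u
  constructor
  · rintro ⟨w, hw, h⟩
    exact ⟨w, hw, funext fun x => (h x).symm⟩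
  · rintro ⟨w, hw, rfl⟩
    exact ⟨w, hw, fun x => rfl⟩

theorem hammingNorm_punct (w : GolayPt → ZMod 2) :
    hammingNorm (punct w) = ((support₂ w).erase none).card := by
  rw [hammingNorm]
  rw [← Finset.card_map ⟨some, Option.some_injective _⟩]
  congr 1
  ext p
  simp only [Finset.mem_map, Finset.mem_filter, Finset.mem_univ, true_and, Function.Embedding.coeFn_mk,
    Finset.mem_erase, support₂]
  constructor
  · rintro ⟨x, hx, rfl⟩
    exact ⟨Option.some_ne_none x, hx⟩
  · rintro ⟨hp, hw⟩
    cases p with
    | none => exact absurd rfl hp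
    | some x => exact ⟨x, hw, rfl⟩

theorem enc_erase_none (s : Finset GolayPt) : enc (s.erase none) = enc s &&& (2 ^ 23 - 1) := by
  apply Nat.eq_of_testBit_eq
  intro i
  rw [Nat.testBit_and, Nat.testBit_two_pow_sub_one, Bool.eq_iff_iff, Bool.and_eq_true, testBit_enc,
    testBit_enc, decide_eq_true_eq]
  constructor
  · rintro ⟨p, hp, rfl⟩
    rw [Finset.mem_erase] at hp
    refine ⟨⟨p, hp.2, rfl⟩, ?_⟩
    cases p with
    | none => exact absurd rfl hp.1
    | some x => exact ZMod.val_lt x
  · rintro ⟨⟨p, hp, rfl⟩, hlt⟩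
    refine ⟨p, Finset.mem_erase.2 ⟨?_, hp⟩, rfl⟩
    rintro rfl
    simp [idx] at hlt

/-- weight of the punctured word in terms of the bitmask -/
theorem hammingNorm_punct_eq_pop (w : GolayPt → ZMod 2) :
    hammingNorm (punct w) = pop (enc (support₂ w) &&& (2 ^ 23 - 1)) := by
  rw [hammingNorm_punct, card_eq_pop, enc_erase_none]

theorem hammingNorm_le_punct (w : GolayPt → ZMod 2) : hammingNorm w ≤ hammingNorm (punct w) + 1 := by
  rw [hammingNorm_punct]
  have : hammingNorm w = (support₂ w).card := rfl
  rw [this]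
  have := Finset.card_erase_le (s := support₂ w) (a := none)
  have h2 := Finset.pred_card_le_card_erase (s := support₂ w) (a := none)
  omega

theorem punct_eq_zero_of_mem {w : GolayPt → ZMod 2} (hw : w ∈ golayCode) (h : punct w = 0) : w = 0 := by
  by_contra hne
  have h8 := golayCode_isGolayLike.minwt w hw hne
  have h1 := hammingNorm_le_punct w
  rw [h, hammingNorm_zero] at h1
  omega

theorem punct_injOn : Set.InjOn punct (golayCode : Set (GolayPt → ZMod 2)) := by
  intro a ha b hb h
  have : punct (a - b) = 0 := by rw [map_sub, h, sub_self]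
  exact sub_eq_zero.1 (punct_eq_zero_of_mem (golayCode.sub_mem ha hb) this)

theorem code23_ncard : code23.ncard = 4096 := by
  rw [code23_eq, punct_injOn.ncard_image]
  have : (golayCode : Set (GolayPt → ZMod 2)).ncard = Nat.card ↥golayCode := rfl
  rw [this, card_golayCode]

/-- counting punctured words by a decidable property of the bitmask of the original word -/
theorem ncard_code23_filter (k : ℕ) :
    {u : ZMod 23 → ZMod 2 | u ∈ code23 ∧ hammingNorm u = k}.ncard =
      (codeList.filter (fun n => pop (n &&& (2 ^ 23 - 1)) = k)).length := by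
  rw [← ncard_golay_filter (fun n => pop (n &&& (2 ^ 23 - 1)) = k)]
  have : {u : ZMod 23 → ZMod 2 | u ∈ code23 ∧ hammingNorm u = k} =
      punct '' {w : GolayPt → ZMod 2 | w ∈ golayCode ∧ pop (enc (support₂ w) &&& (2 ^ 23 - 1)) = k} := by
    ext u
    simp only [Set.mem_ofPred_eq, Set.mem_image, code23_eq]
    constructor
    · rintro ⟨⟨w, hw, rfl⟩, hk⟩
      exact ⟨w, ⟨hw, by rw [← hammingNorm_punct_eq_pop]; exact hk⟩, rfl⟩
    · rintro ⟨w, ⟨hw, hk⟩, rfl⟩
      exact ⟨⟨w, hw, rfl⟩, by rw [hammingNorm_punct_eq_pop]; exact hk⟩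
  rw [this]
  apply Set.InjOn.ncard_image
  exact punct_injOn.mono (fun w hw => hw.1)

theorem seven_le_of_mem_code23 {u : ZMod 23 → ZMod 2} (hu : u ∈ code23) (hne : u ≠ 0) :
    7 ≤ hammingNorm u := by
  rw [code23_eq] at hu
  obtain ⟨w, hw, rfl⟩ := hu
  have hw0 : w ≠ 0 := by
    rintro rfl
    exact hne (map_zero punct)
  have h8 := golayCode_isGolayLike.minwt w hw hw0
  have h1 := hammingNorm_le_punct w
  omega

set_option maxRecDepth 100000 in
theorem count7 : (codeList.filter (fun n => pop (n &&& (2 ^ 23 - 1)) = 7)).length = 253 := by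
  decide +kernel
set_option maxRecDepth 100000 in
theorem count8 : (codeList.filter (fun n => pop (n &&& (2 ^ 23 - 1)) = 8)).length = 506 := by
  decide +kernel
set_option maxRecDepth 100000 in
theorem count11 : (codeList.filter (fun n => pop (n &&& (2 ^ 23 - 1)) = 11)).length = 1288 := by
  decide +kernel
set_option maxRecDepth 100000 in
theorem count12 : (codeList.filter (fun n => pop (n &&& (2 ^ 23 - 1)) = 12)).length = 1288 := by
  decide +kernel
set_option maxRecDepth 100000 in
theorem count15 : (codeList.filter (fun n => pop (n &&& (2 ^ 23 - 1)) = 15)).length = 506 := by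
  decide +kernel
set_option maxRecDepth 100000 in
theorem count16 : (codeList.filter (fun n => pop (n &&& (2 ^ 23 - 1)) = 16)).length = 253 := by
  decide +kernel

end Cfsg.Agent.Lib.Helper27_Golay23
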