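import Mathlib
import Cfsg.Prelude.Def_SporadicCombinatorics

set_option autoImplicit false
open Cfsg

/-! The hexacode over an abstract field with four elements, via a concrete model of that field. -/

namespace Cfsg.Agent.Lib.Helper27_Hexacode

/-- concrete names for the four elements `0, 1, ω, ω + 1` -/
inductive E4 : Type
  | z | o | w | v
  deriving DecidableEq

instance instFintypeE4 : Fintype E4 :=
  ⟨⟨[E4.z, E4.o, E4.w, E4.v], by decide⟩, by intro x; cases x <;> decide⟩

namespace E4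

/-- addition table -/
def add : E4 → E4 → E4
  | z, b => b
  | a, z => a
  | o, o => z
  | o, w => v
  | o, v => w
  | w, o => v
  | w, w => z
  | w, v => o
  | v, o => w
  | v, w => o
  | v, v => z

/-- multiplication table -/
def mul : E4 → E4 → E4
  | z, _ => z
  | _, z => z
  | o, b => b
  | a, o => a
  | w, w => v
  | w, v => o
  | v, w => o
  | v, v => w

end E4

section field
variable {F : Type*} [Field F]

/-- decoding into the field -/
def dec (ω : F) : E4 → F
  | E4.z => 0
  | E4.o => 1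
  | E4.w => ω
  | E4.v => ω + 1

theorem two_eq_zero [Fintype F] (hF : Fintype.card F = 4) : (2 : F) = 0 := by
  have h4 : (4 : F) = 0 := by
    have := card_nsmul_eq_zero (G := F) (x := 1)
    rw [hF] at this
    simpa using this
  have : (2 : F) * 2 = 0 := by rw [← h4]; norm_num
  exact mul_self_eq_zero.1 this

theorem dec_add {ω : F} (h2 : (2 : F) = 0) (a b : E4) :
    dec ω (E4.add a b) = dec ω a + dec ω b := by
  cases a <;> cases b <;> simp only [E4.add, dec] <;>
    first
    | ring1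
    | linear_combination (-1 : F) * h2
    | linear_combination (-1 * ω) * h2
    | linear_combination (-1 + -1 * ω) * h2

theorem dec_mul {ω : F} (h2 : (2 : F) = 0) (hω : ω ^ 2 + ω + 1 = 0) (a b : E4) :
    dec ω (E4.mul a b) = dec ω a * dec ω b := by
  cases a <;> cases b <;> simp only [E4.mul, dec] <;>
    first
    | ring1
    | linear_combination (-1 : F) * hω + (1 + ω) * h2
    | linear_combination (-1 : F) * hω + (1 : F) * h2
    | linear_combination (-1 : F) * hω

theorem dec_injective {ω : F} (h2 : (2 : F) = 0) (hω : ω ^ 2 + ω + 1 = 0) :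
    Function.Injective (dec ω) := by
  have h10 : (1 : F) ≠ 0 := one_ne_zero
  intro a b h
  cases a <;> cases b <;> simp only [dec] at h <;> first
    | rfl
    | (exfalso; apply h10; linear_combination h)
    | (exfalso; apply h10; linear_combination -h)
    | (exfalso; apply h10; linear_combination hω - (ω + 1) * h)
    | (exfalso; apply h10; linear_combination hω + (ω + 1) * h)
    | (exfalso; apply h10; linear_combination hω - ω * h)
    | (exfalso; apply h10; linear_combination hω + ω * h)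
    | (exfalso; apply h10; linear_combination hω - h2 - (ω + 2) * h)
    | (exfalso; apply h10; linear_combination hω - h2 + (ω + 2) * h)

theorem dec_surjective [Fintype F] [DecidableEq F] (hF : Fintype.card F = 4) {ω : F}
    (hω : ω ^ 2 + ω + 1 = 0) : Function.Surjective (dec ω) := by
  have h2 := two_eq_zero hF
  have hinj := dec_injective h2 hω
  have hcard : (Finset.univ.image (dec ω)).card = Fintype.card F := by
    rw [Finset.card_image_of_injective _ hinj, hF]; rfl
  have := Finset.eq_univ_of_card _ hcard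
  intro x
  have hx : x ∈ Finset.univ.image (dec ω) := by rw [this]; exact Finset.mem_univ x
  obtain ⟨a, _, rfl⟩ := Finset.mem_image.1 hx
  exact ⟨a, rfl⟩

theorem dec_eq_zero_iff {ω : F} (h2 : (2 : F) = 0) (hω : ω ^ 2 + ω + 1 = 0) (a : E4) :
    dec ω a = 0 ↔ a = E4.z := by
  constructor
  · intro h
    exact dec_injective h2 hω (h.trans rfl)
  · rintro rfl; rfl

end field

/-- concrete generators of the hexacode -/
def G1 : Fin 6 → E4 := ![E4.w, E4.v, E4.v, E4.w, E4.v, E4.w]
/-- concrete generators of the hexacode -/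
def G2 : Fin 6 → E4 := ![E4.v, E4.w, E4.w, E4.v, E4.v, E4.w]
/-- concrete generators of the hexacode -/
def G3 : Fin 6 → E4 := ![E4.v, E4.w, E4.v, E4.w, E4.w, E4.v]

/-- the concrete codeword with coefficients `t` -/
def cwc (t : E4 × E4 × E4) : Fin 6 → E4 := fun i =>
  E4.add (E4.add (E4.mul t.1 (G1 i)) (E4.mul t.2.1 (G2 i))) (E4.mul t.2.2 (G3 i))

/-- concrete weight -/
def cwt (y : Fin 6 → E4) : ℕ := (Finset.univ.filter fun i => y i ≠ E4.z).card

set_option maxRecDepth 100000 in
theorem cwc_injective : Function.Injective cwc := by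
  intro t t'; revert t t'; decide +kernel

section field
variable {F : Type*} [Field F]

/-- decode a vector -/
def decv (ω : F) (y : Fin 6 → E4) : Fin 6 → F := fun i => dec ω (y i)

theorem decv_injective {ω : F} (h2 : (2 : F) = 0) (hω : ω ^ 2 + ω + 1 = 0) :
    Function.Injective (decv ω) := by
  intro y y' h
  funext i
  exact dec_injective h2 hω (congrFun h i)

theorem sq_eq {ω : F} (h2 : (2 : F) = 0) (hω : ω ^ 2 + ω + 1 = 0) : ω ^ 2 = ω + 1 := by
  linear_combination hω - (ω + 1) * h2

theorem gen1_eq {ω : F} (h2 : (2 : F) = 0) (hω : ω ^ 2 + ω + 1 = 0) :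
    (![ω, ω ^ 2, ω ^ 2, ω, ω ^ 2, ω] : Fin 6 → F) = decv ω G1 := by
  rw [sq_eq h2 hω]
  funext i; fin_cases i <;> rfl

theorem gen2_eq {ω : F} (h2 : (2 : F) = 0) (hω : ω ^ 2 + ω + 1 = 0) :
    (![ω ^ 2, ω, ω, ω ^ 2, ω ^ 2, ω] : Fin 6 → F) = decv ω G2 := by
  rw [sq_eq h2 hω]
  funext i; fin_cases i <;> rfl

theorem gen3_eq {ω : F} (h2 : (2 : F) = 0) (hω : ω ^ 2 + ω + 1 = 0) :
    (![ω ^ 2, ω, ω ^ 2, ω, ω, ω ^ 2] : Fin 6 → F) = decv ω G3 := by
  rw [sq_eq h2 hω]
  funext i; fin_cases i <;> rfl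

theorem comb_eq {ω : F} (h2 : (2 : F) = 0) (hω : ω ^ 2 + ω + 1 = 0) (t : E4 × E4 × E4) :
    dec ω t.1 • decv ω G1 + dec ω t.2.1 • decv ω G2 + dec ω t.2.2 • decv ω G3 = decv ω (cwc t) := by
  funext i
  simp only [Pi.add_apply, Pi.smul_apply, smul_eq_mul, decv, cwc, dec_add h2, dec_mul h2 hω]

theorem mem_hexacode_iff [Fintype F] [DecidableEq F] (hF : Fintype.card F = 4) {ω : F}
    (hω : ω ^ 2 + ω + 1 = 0) (x : Fin 6 → F) :
    x ∈ hexacode F ω ↔ ∃ t : E4 × E4 × E4, x = decv ω (cwc t) := by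
  have h2 := two_eq_zero hF
  unfold hexacode
  rw [Submodule.mem_span_triple, gen1_eq h2 hω, gen2_eq h2 hω, gen3_eq h2 hω]
  constructor
  · rintro ⟨r, s, u, rfl⟩
    obtain ⟨a, rfl⟩ := dec_surjective hF hω r
    obtain ⟨b, rfl⟩ := dec_surjective hF hω s
    obtain ⟨c, rfl⟩ := dec_surjective hF hω u
    exact ⟨(a, b, c), comb_eq h2 hω (a, b, c)⟩
  · rintro ⟨t, rfl⟩
    exact ⟨dec ω t.1, dec ω t.2.1, dec ω t.2.2, comb_eq h2 hω t⟩

theorem wt_decv [DecidableEq F] {ω : F} (h2 : (2 : F) = 0) (hω : ω ^ 2 + ω + 1 = 0) (y : Fin 6 → E4) :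
    (Finset.univ.filter fun i => decv ω y i ≠ 0).card = cwt y := by
  unfold cwt decv
  congr 1
  ext i
  simp only [Finset.mem_filter, Finset.mem_univ, true_and, ne_eq, dec_eq_zero_iff h2 hω]

theorem card_hexacode [Fintype F] [DecidableEq F] (hF : Fintype.card F = 4) {ω : F}
    (hω : ω ^ 2 + ω + 1 = 0) : Nat.card ↥(hexacode F ω) = 64 := by
  have h2 := two_eq_zero hF
  have e : (E4 × E4 × E4) ≃ ↥(hexacode F ω) :=
    Equiv.ofBijective (fun t => ⟨decv ω (cwc t), (mem_hexacode_iff hF hω _).2 ⟨t, rfl⟩⟩)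
      ⟨fun t t' h => cwc_injective (decv_injective h2 hω (Subtype.ext_iff.1 h)),
       fun ⟨x, hx⟩ => by
         obtain ⟨t, rfl⟩ := (mem_hexacode_iff hF hω x).1 hx
         exact ⟨t, rfl⟩⟩
  rw [← Nat.card_congr e, Nat.card_eq_fintype_card]
  rfl

/-- transfer of counting problems to the concrete model -/
theorem ncard_hexacode_filter [Fintype F] [DecidableEq F] (hF : Fintype.card F = 4) {ω : F}
    (hω : ω ^ 2 + ω + 1 = 0) (k : ℕ) :
    {x : Fin 6 → F | x ∈ hexacode F ω ∧ (Finset.univ.filter fun i => x i ≠ 0).card = k}.ncard =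
      (Finset.univ.filter (fun t : E4 × E4 × E4 => cwt (cwc t) = k)).card := by
  have h2 := two_eq_zero hF
  have : {x : Fin 6 → F | x ∈ hexacode F ω ∧ (Finset.univ.filter fun i => x i ≠ 0).card = k} =
      (fun t => decv ω (cwc t)) '' ↑(Finset.univ.filter (fun t : E4 × E4 × E4 => cwt (cwc t) = k)) := by
    ext x
    simp only [Set.mem_ofPred_eq, Set.mem_image, Finset.coe_filter, Finset.mem_univ, true_and]
    constructor
    · rintro ⟨hx, hk⟩
      obtain ⟨t, rfl⟩ := (mem_hexacode_iff hF hω x).1 hx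
      rw [wt_decv h2 hω] at hk
      exact ⟨t, hk, rfl⟩
    · rintro ⟨t, hk, rfl⟩
      exact ⟨(mem_hexacode_iff hF hω _).2 ⟨t, rfl⟩, by rw [wt_decv h2 hω]; exact hk⟩
  rw [this, Set.ncard_image_of_injective _
    (fun t t' h => cwc_injective (decv_injective h2 hω h)), Set.ncard_coe_finset]

end field

set_option maxRecDepth 100000 in
theorem cwt_cases : ∀ t : E4 × E4 × E4, cwt (cwc t) = 0 ∨ cwt (cwc t) = 4 ∨ cwt (cwc t) = 6 := by
  decide

set_option maxRecDepth 100000 in
theorem cwt_eq_zero : ∀ t : E4 × E4 × E4, cwt (cwc t) = 0 → cwc t = fun _ => E4.z := by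
  decide

set_option maxRecDepth 100000 in
theorem count_wt4 : (Finset.univ.filter (fun t : E4 × E4 × E4 => cwt (cwc t) = 4)).card = 45 := by
  decide

set_option maxRecDepth 100000 in
theorem count_wt6 : (Finset.univ.filter (fun t : E4 × E4 × E4 => cwt (cwc t) = 6)).card = 18 := by
  decide

end Cfsg.Agent.Lib.Helper27_Hexacode
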