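import Mathlib
import Cfsg.Agent.Lib.Helper27_Hexacode

set_option autoImplicit false
open Cfsg

/-! Monomial automorphisms of the hexacode: concrete computations. -/

namespace Cfsg.Agent.Lib.Helper27_HexAut

open Cfsg.Agent.Lib.Helper27_Hexacode

/-- parity-check form of membership in the concrete hexacode -/
def inHex (y : Fin 6 → E4) : Prop :=
  y 3 = E4.add (E4.add (y 0) (y 1)) (y 2) ∧
  y 4 = E4.add (E4.add (E4.mul E4.v (y 0)) (E4.mul E4.w (y 1))) (y 2) ∧
  y 5 = E4.add (E4.add (E4.mul E4.w (y 0)) (E4.mul E4.v (y 1))) (y 2)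

instance instDecidableInHex (y : Fin 6 → E4) : Decidable (inHex y) := by
  unfold inHex; infer_instance

/-- coefficient extraction -/
def coef (y : Fin 6 → E4) : E4 × E4 × E4 :=
  (E4.add (E4.mul E4.w (y 0)) (E4.mul E4.v (y 1)),
   E4.add (E4.add (E4.mul E4.v (y 0)) (E4.mul E4.v (y 1))) (y 2),
   E4.add (y 1) (y 2))

/-- a 6-tuple as a function -/
def tup (a : E4 × E4 × E4 × E4 × E4 × E4) : Fin 6 → E4 :=
  ![a.1, a.2.1, a.2.2.1, a.2.2.2.1, a.2.2.2.2.1, a.2.2.2.2.2]

theorem tup_surjective : Function.Surjective tup := by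
  intro y
  refine ⟨(y 0, y 1, y 2, y 3, y 4, y 5), ?_⟩
  funext i; fin_cases i <;> rfl

set_option maxRecDepth 100000 in
theorem inHex_tup : ∀ a : E4 × E4 × E4 × E4 × E4 × E4, inHex (tup a) → tup a = cwc (coef (tup a)) := by
  decide +kernel

set_option maxRecDepth 100000 in
theorem inHex_cwc : ∀ t : E4 × E4 × E4, inHex (cwc t) := by
  decide +kernel

theorem inHex_iff (y : Fin 6 → E4) : inHex y ↔ ∃ t, y = cwc t := by
  constructor
  · intro h
    obtain ⟨a, rfl⟩ := tup_surjective y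
    exact ⟨_, inHex_tup a h⟩
  · rintro ⟨t, rfl⟩
    exact inHex_cwc t

/-- the concrete monomial map -/
def cM (σ : Equiv.Perm (Fin 6)) (cc : Fin 6 → E4) (y : Fin 6 → E4) : Fin 6 → E4 :=
  fun i => E4.mul (cc i) (y (σ.symm i))

/-- the concrete monomial map preserves the concrete hexacode -/
def cPres (σ : Equiv.Perm (Fin 6)) (cc : Fin 6 → E4) : Prop :=
  inHex (cM σ cc G1) ∧ inHex (cM σ cc G2) ∧ inHex (cM σ cc G3)

instance instDecidableCPres (σ : Equiv.Perm (Fin 6)) (cc : Fin 6 → E4) : Decidable (cPres σ cc) := by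
  unfold cPres; infer_instance

/-- all entries nonzero -/
def nz (cc : Fin 6 → E4) : Prop := ∀ i, cc i ≠ E4.z

instance instDecidableNz (cc : Fin 6 → E4) : Decidable (nz cc) := by
  unfold nz; infer_instance

set_option maxRecDepth 100000 in
theorem check_diag : ∀ a : E4 × E4 × E4 × E4 × E4 × E4, nz (tup a) → cPres 1 (tup a) →
    ∀ i j, tup a i = tup a j := by
  decide +kernel

set_option maxRecDepth 100000 in
theorem check_swap : ∀ a : E4 × E4 × E4 × E4 × E4 × E4, nz (tup a) → ¬ cPres (Equiv.swap 0 1) (tup a) := by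
  decide +kernel

set_option maxRecDepth 100000 in
theorem check_three : ∀ a b c : Fin 6, a ≠ b → a ≠ c → b ≠ c →
    ∃ u : E4 × E4 × E4 × E4 × E4, nz (tup (E4.o, u)) ∧ cPres (Equiv.swap a b * Equiv.swap a c) (tup (E4.o, u)) := by
  decide +kernel

section abstract
variable {F : Type*} [Field F]

/-- the monomial map preserves the hexacode -/
def Pres (ω : F) (σ : Equiv.Perm (Fin 6)) (c : Fin 6 → Fˣ) : Prop :=
  ∀ x ∈ hexacode F ω, monomialMap σ c x ∈ hexacode F ω

/-- monomial map as a linear map -/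
def monoL (σ : Equiv.Perm (Fin 6)) (c : Fin 6 → Fˣ) : (Fin 6 → F) →ₗ[F] (Fin 6 → F) where
  toFun := monomialMap σ c
  map_add' x y := by funext i; simp only [monomialMap, Pi.add_apply, mul_add]
  map_smul' r x := by
    funext i
    simp only [monomialMap, Pi.smul_apply, smul_eq_mul, RingHom.id_apply]
    ring

theorem monoL_apply (σ : Equiv.Perm (Fin 6)) (c : Fin 6 → Fˣ) (x : Fin 6 → F) :
    monoL σ c x = monomialMap σ c x := rfl

theorem monomialMap_comp (σ τ : Equiv.Perm (Fin 6)) (c d : Fin 6 → Fˣ) (x : Fin 6 → F) :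
    monomialMap σ c (monomialMap τ d x) =
      monomialMap (σ * τ) (fun i => c i * d (σ.symm i)) x := by
  funext i
  simp only [monomialMap, Units.val_mul, mul_assoc]
  rfl

theorem monomialMap_one (x : Fin 6 → F) : monomialMap (1 : Equiv.Perm (Fin 6)) (fun _ => (1 : Fˣ)) x = x := by
  funext i
  simp only [monomialMap, Units.val_one, one_mul]
  rfl

theorem pres_one (ω : F) : Pres ω 1 (fun _ => 1) := by
  intro x hx
  rw [monomialMap_one]; exact hx

theorem pres_mul {ω : F} {σ τ : Equiv.Perm (Fin 6)} {c d : Fin 6 → Fˣ} (h1 : Pres ω σ c)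
    (h2 : Pres ω τ d) : Pres ω (σ * τ) (fun i => c i * d (σ.symm i)) := by
  intro x hx
  rw [← monomialMap_comp]
  exact h1 _ (h2 x hx)

theorem pres_smul {ω : F} {σ : Equiv.Perm (Fin 6)} {c : Fin 6 → Fˣ} (h : Pres ω σ c) (l : Fˣ) :
    Pres ω σ (fun i => l * c i) := by
  intro x hx
  have : monomialMap σ (fun i => l * c i) x = (l : F) • monomialMap σ c x := by
    funext i
    simp only [monomialMap, Units.val_mul, Pi.smul_apply, smul_eq_mul, mul_assoc]
  rw [this]
  exact Submodule.smul_mem _ _ (h x hx)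

/-- the inverse coefficient vector -/
def invCoef (σ : Equiv.Perm (Fin 6)) (c : Fin 6 → Fˣ) : Fin 6 → Fˣ := fun i => (c (σ i))⁻¹

theorem monomialMap_inv_comp (σ : Equiv.Perm (Fin 6)) (c : Fin 6 → Fˣ) (x : Fin 6 → F) :
    monomialMap σ⁻¹ (invCoef σ c) (monomialMap σ c x) = x := by
  rw [monomialMap_comp]
  have h1 : σ⁻¹ * σ = 1 := inv_mul_cancel σ
  have h2 : (fun i => invCoef σ c i * c ((σ⁻¹ : Equiv.Perm (Fin 6)).symm i)) = fun _ => (1 : Fˣ) := by
    funext i
    simp only [invCoef]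
    have : (σ⁻¹ : Equiv.Perm (Fin 6)).symm i = σ i := rfl
    rw [this, inv_mul_cancel]
  rw [h1, h2, monomialMap_one]

theorem pres_inv [Finite F] {ω : F} {σ : Equiv.Perm (Fin 6)} {c : Fin 6 → Fˣ} (h : Pres ω σ c) :
    Pres ω σ⁻¹ (invCoef σ c) := by
  -- the restriction to the code is injective, hence surjective
  let f : ↥(hexacode F ω) → ↥(hexacode F ω) := fun x => ⟨monomialMap σ c x.1, h x.1 x.2⟩
  have hinj : Function.Injective f := by
    intro x y hxy
    have := congrArg (fun z : ↥(hexacode F ω) => monomialMap σ⁻¹ (invCoef σ c) z.1) hxy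
    simp only [f, monomialMap_inv_comp] at this
    exact Subtype.ext this
  have hsurj : Function.Surjective f := Finite.injective_iff_surjective.1 hinj
  intro y hy
  obtain ⟨x, hx⟩ := hsurj ⟨y, hy⟩
  have : y = monomialMap σ c x.1 := (congrArg Subtype.val hx).symm
  rw [this, monomialMap_inv_comp]
  exact x.2

theorem pres_iff_gens (ω : F) (σ : Equiv.Perm (Fin 6)) (c : Fin 6 → Fˣ) :
    Pres ω σ c ↔ monomialMap σ c ![ω, ω ^ 2, ω ^ 2, ω, ω ^ 2, ω] ∈ hexacode F ω ∧
      monomialMap σ c ![ω ^ 2, ω, ω, ω ^ 2, ω ^ 2, ω] ∈ hexacode F ω ∧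
      monomialMap σ c ![ω ^ 2, ω, ω ^ 2, ω, ω, ω ^ 2] ∈ hexacode F ω := by
  constructor
  · intro h
    refine ⟨h _ ?_, h _ ?_, h _ ?_⟩ <;> exact Submodule.subset_span (by simp)
  · rintro ⟨h1, h2, h3⟩
    have : hexacode F ω ≤ (hexacode F ω).comap (monoL σ c) := by
      unfold hexacode
      rw [Submodule.span_le]
      intro x hx
      simp only [Set.mem_insert_iff, Set.mem_singleton_iff] at hx
      rcases hx with rfl | rfl | rfl
      · exact h1
      · exact h2
      · exact h3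
    intro x hx
    exact this hx

end abstract

section transfer
variable {F : Type*} [Field F] [Fintype F] [DecidableEq F]

theorem decv_mem_iff (hF : Fintype.card F = 4) {ω : F} (hω : ω ^ 2 + ω + 1 = 0) (y : Fin 6 → E4) :
    decv ω y ∈ hexacode F ω ↔ inHex y := by
  have h2 := two_eq_zero hF
  rw [mem_hexacode_iff hF hω, inHex_iff]
  constructor
  · rintro ⟨t, ht⟩; exact ⟨t, decv_injective h2 hω ht⟩
  · rintro ⟨t, rfl⟩; exact ⟨t, rfl⟩

omit [Fintype F] [DecidableEq F] in
theorem monomialMap_decv {ω : F} (h2 : (2 : F) = 0) (hω : ω ^ 2 + ω + 1 = 0)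
    (σ : Equiv.Perm (Fin 6)) (c : Fin 6 → Fˣ) (cc : Fin 6 → E4)
    (hc : ∀ i, (c i : F) = dec ω (cc i)) (y : Fin 6 → E4) :
    monomialMap σ c (decv ω y) = decv ω (cM σ cc y) := by
  funext i
  simp only [monomialMap, decv, cM, dec_mul h2 hω, hc]

theorem pres_iff_cPres (hF : Fintype.card F = 4) {ω : F} (hω : ω ^ 2 + ω + 1 = 0)
    (σ : Equiv.Perm (Fin 6)) (c : Fin 6 → Fˣ) (cc : Fin 6 → E4)
    (hc : ∀ i, (c i : F) = dec ω (cc i)) : Pres ω σ c ↔ cPres σ cc := by
  have h2 := two_eq_zero hF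
  rw [pres_iff_gens, gen1_eq h2 hω, gen2_eq h2 hω, gen3_eq h2 hω,
    monomialMap_decv h2 hω σ c cc hc, monomialMap_decv h2 hω σ c cc hc,
    monomialMap_decv h2 hω σ c cc hc, decv_mem_iff hF hω, decv_mem_iff hF hω, decv_mem_iff hF hω]
  rfl

/-- encode a unit of the field -/
noncomputable def encU (hF : Fintype.card F = 4) {ω : F} (hω : ω ^ 2 + ω + 1 = 0) (u : Fˣ) : E4 :=
  Function.surjInv (dec_surjective hF hω) (u : F)

theorem dec_encU (hF : Fintype.card F = 4) {ω : F} (hω : ω ^ 2 + ω + 1 = 0) (u : Fˣ) :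
    dec ω (encU hF hω u) = (u : F) :=
  Function.surjInv_eq (dec_surjective hF hω) (u : F)

theorem encU_ne (hF : Fintype.card F = 4) {ω : F} (hω : ω ^ 2 + ω + 1 = 0) (u : Fˣ) :
    encU hF hω u ≠ E4.z := by
  intro h
  have := dec_encU hF hω u
  rw [h] at this
  exact u.ne_zero this.symm

theorem encU_injective (hF : Fintype.card F = 4) {ω : F} (hω : ω ^ 2 + ω + 1 = 0) :
    Function.Injective (encU hF hω) := by
  intro u u' h
  apply Units.ext
  rw [← dec_encU hF hω u, ← dec_encU hF hω u', h]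

/-- decode a nonzero vector into units -/
noncomputable def decU {ω : F} (h2 : (2 : F) = 0) (hω : ω ^ 2 + ω + 1 = 0) (cc : Fin 6 → E4) (hnz : nz cc) :
    Fin 6 → Fˣ := fun i =>
  Units.mk0 (dec ω (cc i)) (fun h => hnz i ((dec_eq_zero_iff h2 hω _).1 h))

/-- sign changes (scalings) preserving the hexacode are scalar -/
theorem diag_const (hF : Fintype.card F = 4) {ω : F} (hω : ω ^ 2 + ω + 1 = 0) (c : Fin 6 → Fˣ)
    (h : Pres ω 1 c) : ∀ i j, c i = c j := by
  have hc : ∀ i, (c i : F) = dec ω (encU hF hω (c i)) := fun i => (dec_encU hF hω (c i)).symm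
  have hP := (pres_iff_cPres hF hω 1 c (fun i => encU hF hω (c i)) hc).1 h
  obtain ⟨a, ha⟩ := tup_surjective (fun i => encU hF hω (c i))
  have hnz : nz (tup a) := by rw [ha]; exact fun i => encU_ne hF hω (c i)
  rw [← ha] at hP
  intro i j
  have := check_diag a hnz hP i j
  rw [ha] at this
  exact encU_injective hF hω this

/-- the transposition (0 1) is not the permutation part of an automorphism -/
theorem swap_not_pres (hF : Fintype.card F = 4) {ω : F} (hω : ω ^ 2 + ω + 1 = 0) (c : Fin 6 → Fˣ) :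
    ¬ Pres ω (Equiv.swap 0 1) c := by
  intro h
  have hc : ∀ i, (c i : F) = dec ω (encU hF hω (c i)) := fun i => (dec_encU hF hω (c i)).symm
  have hP := (pres_iff_cPres hF hω _ c (fun i => encU hF hω (c i)) hc).1 h
  obtain ⟨a, ha⟩ := tup_surjective (fun i => encU hF hω (c i))
  have hnz : nz (tup a) := by rw [ha]; exact fun i => encU_ne hF hω (c i)
  rw [← ha] at hP
  exact check_swap a hnz hP

/-- three-cycles are permutation parts of automorphisms -/
theorem three_pres (hF : Fintype.card F = 4) {ω : F} (hω : ω ^ 2 + ω + 1 = 0) (a b c : Fin 6)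
    (hab : a ≠ b) (hac : a ≠ c) (hbc : b ≠ c) :
    ∃ d : Fin 6 → Fˣ, Pres ω (Equiv.swap a b * Equiv.swap a c) d := by
  have h2 := two_eq_zero hF
  obtain ⟨u, hnz, hP⟩ := check_three a b c hab hac hbc
  refine ⟨decU h2 hω _ hnz, ?_⟩
  exact (pres_iff_cPres hF hω _ _ _ (fun i => rfl)).2 hP

end transfer

end Cfsg.Agent.Lib.Helper27_HexAut
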