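import Cfsg.Agent.Lib.Helper7_Perm
import Cfsg.Agent.Lib.Helper7_Base
import Cfsg.Agent.Lib.Helper26_GolaySets

/-!
Sets of points as bitmasks: the action of list permutations on `maskSet`, and the bridge to the
encodings of `Helper26_Golay` (`enc : Finset GolayPt → ℕ`, `octList`, `dodList`).
-/

set_option autoImplicit false
open Cfsg
open scoped Pointwise

namespace Cfsg.Agent.Lib.Helper7_Sets

open Cfsg.Agent.Lib.Helper7_M24 Cfsg.Agent.Lib.Helper7_Bits Cfsg.Agent.Lib.Helper7_Perm
  Cfsg.Agent.Lib.Helper7_Code Cfsg.Agent.Lib.Helper7_Base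

theorem smul_maskSet (l l' : List ℕ) (h : checkInv l l' = true) (h' : checkInv l' l = true)
    (D : ℕ) : listPerm l l' h h' • maskSet D = maskSet (applyMask l' D) := by
  unfold maskSet
  rw [toWord_applyMask l l' h h', support₂_permWord]

theorem applyMask_lt (l' : List ℕ) (D : ℕ) : applyMask l' D < 2 ^ 24 :=
  Nat.ofBits_lt_two_pow _

theorem idx_eq_enc : Cfsg.Agent.Lib.Helper26_Golay.idx = enc := by
  funext p
  cases p <;> rfl

/-- The mask of a set (in the sense of `Helper26_Golay.enc`) has that set as its `maskSet`. -/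
theorem maskSet_enc (s : Finset GolayPt) : maskSet (Cfsg.Agent.Lib.Helper26_Golay.enc s) = s := by
  ext p
  rw [mem_maskSet, ← idx_eq_enc, Cfsg.Agent.Lib.Helper26_Golay.testBit_enc_idx]

theorem maskSet_eq_dec (n : ℕ) : maskSet n = Cfsg.Agent.Lib.Helper26_Golay.dec n := by
  ext p
  rw [mem_maskSet, Cfsg.Agent.Lib.Helper26_Golay.mem_dec, idx_eq_enc]

theorem enc_maskSet (n : ℕ) (hn : n < 2 ^ 24) :
    Cfsg.Agent.Lib.Helper26_Golay.enc (maskSet n) = n := by
  rw [maskSet_eq_dec, Cfsg.Agent.Lib.Helper26_Golay.enc_dec n hn]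

/-- Data of a permutation in `M24` given by lists, packaged for use on sets. -/
theorem exists_smul_of_checkM24 {l l' : List ℕ} (h : checkM24 l l' = true) :
    ∃ g : Equiv.Perm GolayPt, g ∈ M24 ∧ (∀ p, g p = dec (l.getD (enc p) 0)) ∧
      ∀ D : ℕ, g • maskSet D = maskSet (applyMask l' D) := by
  unfold checkM24 at h
  rw [Bool.and_eq_true, Bool.and_eq_true] at h
  exact ⟨listPerm l l' h.1.1 h.1.2, listPerm_mem_M24 l l' h.1.1 h.1.2 h.2, fun _ => rfl,
    smul_maskSet l l' h.1.1 h.1.2⟩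

end Cfsg.Agent.Lib.Helper7_Sets
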