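import Mathlib
import Cfsg.Prelude.Def_Spor_Mathieu
import Cfsg.Agent.S0382
import Cfsg.Agent.S5620
import Cfsg.Agent.Lib.Helper27_EnumGroup

/-!
The outer automorphism group of the Mathieu group of degree twelve (the stabiliser in the group of
the code of the dodecad of squares) has order two: a chain of stabilisers for two generators of
orders five and two, the classification of the images of the second generator, and the
automorphism induced by a permutation of the code exchanging the dodecad and its complement.
-/

set_option autoImplicit false
open scoped Pointwise
open Cfsg
open Cfsg.Agent.Lib.Helper26_Golay
open Cfsg.Agent.Lib.Helper27_EnumGroup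

namespace Cfsg.Agent.Lib.Helper27_OutM12

/-! ### The data -/

/-- the mask of the dodecad of squares -/
def DS : ℕ := 0x5335f

/-- the mask of the complement of the dodecad of squares -/
def DSc : ℕ := 0xfacca0

/-- the table of the first generator, of order five -/
def TA : ℕ := 0xa5eaa2ca628b86179d24b356643010

/-- the table of the second generator, of order two -/
def TB : ℕ := 0x2d176519cc3c530acda47cae810c01

/-- the table of an element conjugating the first generator to its square -/
def TN : ℕ := 0x3d2b72a62d5b8069aa41b31f012064

/-- the table of a permutation of the code exchanging the dodecad and its complement -/
def TT : ℕ := 0x5883388a1c8f5140b46cd317aed7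

/-- the table of the conjugate of the first generator by that permutation -/
def TA' : ℕ := 0x55ed13ca6da382caac507a4a620c08

/-- the table of the conjugate of the second generator by that permutation -/
def TB' : ℕ := 0xb5d51712865cc627d4012c0f26b109

/-- a level of the chain -/
def d0 : LevelData where
  n := 12
  U := 0x73ef55a281b1c90896465326d100693cd57591e02d4438d106706cd4c19289caba92c0a3d0c75cd29c1491844d7aa65aa0e1bac6275892882896b2065d233a8d4cb15b071d12786e9308042ddf1ab6823ccc0728725b2c9240289d96fa9af054481751b2288e940183b1573b9943744403bda8a26b22402c552a75c8ac9b9008d926b8ded206022d176519cc3c530acda47cae810c01a5eaa2ca628b86179d24b356643010bdab49ca307b9ac5a928398a418820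
  W := [
    [],
    [true],
    [false],
    [true, true],
    [false, true],
    [false, true, true],
    [true, false, true, true],
    [true, true, false, true, true],
    [true, true, true, false, true, true],
    [true, true, true, true, false, true, true],
    [false, true, true, true, false, true, true],
    [false, true, true, true, true, false, true, true]]
  P := [0]

/-- a level of the chain -/
def d1 : LevelData where
  n := 11
  U := 0x3aaf459a24755882cd327b6c180c4089577ac9c49bc46a1c6db25500b100bbe7538689729a2594d288ed022180a55cb9c0ad8da4cba9063a5e1208602d957985648b90c79e02aca891b4c0aba8b291f055988b9e4389a6168920b9d54b11707d52c2b90d98a2130e405c4b7512a1b3c62a4cc93a1d0931a0bcdd4384b07a90c8d5a9b0d72118805a9f73b5c1b4d22a94668ca8462200bdab49ca307b9ac5a928398a418820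
  W := [
    [],
    [true, false],
    [true, true, false, true, true, false],
    [true, true, true, true, false, true, true, true],
    [false, true, true, true, false, true, true, true],
    [true, false, true, true, true, true, false, true, true, true],
    [false, true, false, true, true, true, false, true, true, false],
    [true, true, true, true, false, true, true, false, true, true, true],
    [true, false, true, true, true, true, false, true, true, false, true, true, true],
    [true, true, false, true, true, false, true, true, true, true, false, true, true, true],
    [false, true, false, true, true, false, true, true, true, true, false, true, true, true]]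
  P := [1]

/-- a level of the chain -/
def d2 : LevelData where
  n := 10
  U := 0xbadf328e32754465592d3928c820205c4af709439d1a8b9d32b12b033020b5e657c8ed754488ad8351a90490202b94bb91f23c506ad0439b2cd4c020a4ecb38ded8a8cc2ba48a92f01242059e65a8a267b88cba868b428d4c820b5caf9b230a385252d0938ea4334202d4f7b25e48aa0ca38489b56690c20a96cb8a67051c687d192736e411820bdab49ca307b9ac5a928398a418820
  W := [
    [],
    [true, false, true, false],
    [false, true, false, true],
    [true, false, true, false, true, false, true, false],
    [false, true, false, true, false, true, false, true],
    [true, true, true, true, false, true, true, true, true, false],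
    [true, true, true, false, true, true, true, false, true, false, true, true],
    [true, true, true, true, false, true, true, true, true, false, true, false, true, false],
    [true, false, true, true, false, true, false, true, false, true, false, true, false, true],
    [true, true, true, false, true, true, true, true, false, true, true, false, true, true, false, true, false, true]]
  P := [2]

/-- a level of the chain -/
def d3 : LevelData where
  n := 72
  U := 0x2bd47b11c65c5929d209aa2ed18820796275a286b29b09ba43a92ec488205d9d49a2292d4ccb9e12535e320820baeae9c1522d18db4464399e8488203c66fa8d697150455a4cb9a8d80820ab9778c8a93d983a4ccd791504082075177531e68d909a94709b4e490820a55773a26355a4673d242c22d608207ccf1b36835a90c2d48674af0488209bd515caa3b1e042d189736e8308202ccea5b1c9b448d7d506a42f218820756eb8a1f055984a4da628ce99082051cb3acaec73c868adb0b22834882051de5a1963acd908d912ba5c468820abaf63b5ec52e12a150399a2920820994f1ba1c4b29237d190a9972688202bcf15a6acba9a49b872a42c6408203a9f37216ca946d8dcc9b4a8480820b5dd4799509d4895c5833c8ad40820b5eae2a62d7d20359e465226460820a397638de88dcd2acd8d2c14448820544afab172a4cc43dd23b21d0688202be2abca8db1cc99d50470d6c80820a3ad78b4a652c83abd329b0e8808202cd51b1a84b9e4c7b86daa16980820ad1768a67255c6c71510790ed30820b5e9598ce42b9a65a9098b1f090820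9954758e92bc4907d4c8736c9608205deb478d4c2ba49b1e068926868820b2eb42b4e99b870bc584521e6908205daae7b0e39d132ba9a8890a6808209962ab42a959e487b9a3a32e430820bae957b6289ba44b1cd0524ac18820b2dd57c2262d124ba90d3ca636082089e65a496873d3055c66b32ad20820a3aeb54a643d90da96037a626608209bceab92885c4692b9b2a9ad060820badd4290ec7d510b292d88e72308205de8e29a329d503b29a93c1ec2082089caf71ac9acdb252c90b8e88608205da952c9467b868bc48c3c26968820ad2eb3b0ad8da5073c899994340820756d7392698ae06a14687c94c68820a56cb899ed3dc64716089b15248820ad2d7541e33ada974ccc2a232208203c5e5732e8a4da352e04b4aa930820794eab0eadbc5889d13074966208202ce27bb6b25a9267d20c70ec4408207cd47bb2b0b44662ba4da2568208208aa6fa22f2a96093ac8db31c6188208a8b372566a3e4d3d988b8eb020820abacb50e708dd2da3c922a0ec30820752f68c2683ac8cabe4928d4668820a56f6510b28ada874d867a4e3808207ce2a599c8b9e0d2d12ca92c3908203aa65aa6c3a3c888ae0db99cc9082079551bc1cc59cc39d488a26cd908209be27b25d0ba9122d4c4a31636882075576518ac3dd28a3e449b6301882051e6f742c4a14728dd265b6ac4082089df3ac2eda150655992591c918820752cb3a4a455cd0acdac7ca2818820545f3a0ec67160c3ada4ba6b24082054665712f0abe433d90c5b686488203c4b3a12cdabd2c55cc35c1c890820b2e8e991437d4cdb9e508b0a9408205ddd59a4e87d186b4483534b2808208a9e5ab6d074cc83dc6959292608203a8afa36e474d898da485c2a330820bda8e7a0ed2d4925c46c5267030820bd9d52b1449d20859cd288ded48820bdab49ca307b9ac5a928398a418820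
  W := [
    [],
    [true, false, true, true, false, true],
    [true, false, true, true, false, true, true, false, true, true, false, true],
    [true, false, true, false, true, false, true, true, false, true, true, false, true, false],
    [false, true, false, true, true, false, true, true, false, true, false, true, false, true],
    [true, true, true, false, true, true, true, false, true, false, true, false, true, true, true, true, false],
    [false, true, true, false, true, false, true, false, true, false, true, false, true, true, true, false, true, true],
    [true, true, true, false, true, false, true, true, false, true, true, false, true, false, true, false, true, true, true],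
    [true, true, true, true, false, true, true, true, true, false, true, false, true, true, false, true, true, false, true, false],
    [true, true, false, true, true, true, true, false, true, false, true, true, false, true, true, false, true, false, true, true],
    [true, true, false, true, true, false, true, true, true, false, true, true, true, false, true, false, true, true, true, false],
    [true, false, true, true, false, true, true, false, true, false, true, false, true, true, false, true, true, false, true, false],
    [true, false, true, true, false, true, false, true, false, true, true, false, true, true, false, true, false, true, false, true],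
    [true, false, true, false, true, true, true, false, true, true, true, true, false, true, false, true, true, false, true, true],
    [true, false, true, false, true, true, false, true, true, false, true, true, false, true, false, true, false, true, true, false],
    [true, false, true, false, true, false, true, true, true, true, false, true, true, true, false, true, false, true, true, false],
    [true, false, true, false, true, false, true, true, false, true, true, false, true, false, true, false, true, true, false, true],
    [false, true, true, true, false, true, true, true, true, false, true, false, true, true, false, true, true, true, false, true],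
    [false, true, true, true, false, true, false, true, true, true, true, false, true, true, false, true, false, true, true, true],
    [false, true, true, false, true, true, false, true, true, false, true, false, true, false, true, true, false, true, false, true],
    [false, true, false, true, true, true, true, false, true, true, true, false, true, false, true, true, false, true, false, true],
    [false, true, false, true, true, false, true, true, false, true, false, true, true, true, true, false, true, true, true, true],
    [false, true, false, true, true, false, true, true, false, true, false, true, false, true, true, false, true, true, false, true],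
    [false, true, true, true, false, true, true, true, true, false, true, false, true, true, false, true, false, true, true, true, true],
    [false, true, true, true, false, true, false, true, false, true, true, true, true, false, true, true, false, true, false, true, true],
    [true, true, true, true, false, true, true, false, true, true, true, false, true, true, true, true, false, true, false, true, true, false],
    [true, true, true, false, true, true, true, false, true, false, true, true, true, false, true, true, false, true, false, true, false, true],
    [true, true, false, true, true, true, true, false, true, true, true, false, true, false, true, true, true, true, false, true, true, false],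
    [false, true, true, true, true, false, true, true, true, false, true, true, false, true, true, true, false, true, false, true, true, false],
    [false, true, true, true, false, true, true, true, true, false, true, true, false, true, true, true, false, true, true, false, true, false],
    [false, true, false, true, true, true, true, false, true, true, false, true, false, true, true, true, false, true, false, true, true, true],
    [false, true, false, true, true, false, true, true, true, false, true, true, false, true, true, false, true, false, true, false, true, true],
    [true, true, true, true, false, true, true, false, true, true, true, false, true, false, true, true, true, false, true, true, false, true, false],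
    [true, true, true, false, true, true, true, false, true, false, true, false, true, true, true, true, false, true, false, true, true, false, true],
    [true, true, true, false, true, true, false, true, false, true, false, true, false, true, true, true, true, false, true, true, true, false, true],
    [true, true, true, false, true, false, true, true, true, false, true, true, false, true, false, true, true, false, true, false, true, true, false],
    [true, true, true, false, true, false, true, false, true, true, false, true, true, false, true, false, true, true, false, true, false, true, true],
    [true, true, false, true, false, true, false, true, false, true, true, false, true, false, true, false, true, true, false, true, false, true, true],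
    [true, false, true, true, true, true, false, true, true, true, false, true, false, true, false, true, true, true, true, false, true, false, true],
    [true, false, true, true, true, true, false, true, true, false, true, false, true, false, true, false, true, true, true, true, false, true, true],
    [false, true, true, true, false, true, true, true, true, false, true, true, false, true, false, true, true, true, true, false, true, false, true],
    [false, true, true, true, false, true, true, false, true, false, true, false, true, false, true, true, true, false, true, true, false, true, true],
    [true, true, true, true, false, true, true, false, true, true, true, false, true, false, true, false, true, true, true, true, false, true, false, true],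
    [true, true, true, false, true, false, true, false, true, true, true, false, true, true, false, true, false, true, true, true, false, true, false, true],
    [false, true, true, true, false, true, true, true, true, false, true, true, false, true, true, false, true, false, true, false, true, false, true, false],
    [false, true, false, true, true, true, false, true, true, false, true, true, false, true, false, true, false, true, true, false, true, false, true, false],
    [true, true, true, true, false, true, false, true, true, false, true, true, false, true, true, false, true, false, true, false, true, true, false, true, true],
    [true, true, true, false, true, false, true, true, true, true, false, true, true, true, false, true, false, true, true, false, true, false, true, true, true],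
    [true, true, false, true, false, true, true, true, false, true, true, false, true, false, true, true, false, true, false, true, false, true, false, true, true],
    [true, false, true, false, true, true, true, false, true, true, false, true, false, true, false, true, false, true, true, false, true, false, true, true, false],
    [false, true, true, true, true, false, true, true, false, true, true, true, true, false, true, false, true, true, false, true, true, true, false, true, false],
    [false, true, true, true, false, true, true, false, true, false, true, false, true, false, true, true, false, true, false, true, true, false, true, false, true],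
    [false, true, true, true, false, true, false, true, false, true, true, false, true, true, false, true, false, true, true, true, true, false, true, true, false],
    [false, true, true, false, true, false, true, false, true, true, true, true, false, true, true, false, true, false, true, true, true, false, true, true, false],
    [true, true, true, false, true, true, true, true, false, true, true, false, true, true, false, true, false, true, false, true, false, true, true, false, true, false],
    [true, true, false, true, true, false, true, true, false, true, false, true, false, true, true, false, true, false, true, true, false, true, false, true, false, true],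
    [true, false, true, true, true, false, true, true, false, true, true, false, true, false, true, false, true, true, true, false, true, false, true, false, true, false],
    [true, false, true, true, false, true, false, true, true, true, false, true, false, true, true, true, true, false, true, true, false, true, false, true, true, true],
    [true, false, true, true, false, true, false, true, false, true, true, false, true, true, false, true, false, true, true, true, true, false, true, true, true, true],
    [true, false, true, true, false, true, false, true, false, true, true, false, true, true, false, true, false, true, false, true, true, false, true, true, false, true],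
    [true, false, true, false, true, true, true, false, true, true, true, true, false, true, false, true, true, false, true, true, true, false, true, true, false, true],
    [true, false, true, false, true, true, true, false, true, false, true, true, true, true, false, true, true, false, true, false, true, true, true, true, false, true],
    [true, false, true, false, true, true, false, true, true, false, true, true, false, true, false, true, false, true, true, false, true, false, true, true, false, true],
    [false, true, true, true, true, false, true, true, false, true, false, true, false, true, false, true, true, false, true, false, true, false, true, true, true, false],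
    [false, true, true, true, false, true, false, true, true, true, true, false, true, true, false, true, false, true, true, true, true, false, true, true, false, true],
    [false, true, true, false, true, true, false, true, true, false, true, false, true, false, true, true, false, true, false, true, true, false, true, true, false, true],
    [false, true, false, true, true, true, true, false, true, true, true, false, true, false, true, true, false, true, true, true, true, false, true, true, true, true],
    [true, true, true, false, true, true, false, true, false, true, false, true, false, true, true, false, true, false, true, true, true, false, true, true, false, true, false],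
    [true, true, true, false, true, false, true, true, true, false, true, false, true, true, true, true, false, true, true, true, false, true, true, false, true, false, true],
    [true, true, false, true, false, true, false, true, true, true, false, true, false, true, true, true, true, false, true, false, true, false, true, false, true, true, false],
    [true, true, true, true, false, true, true, false, true, true, true, false, true, true, true, true, false, true, false, true, true, false, true, false, true, true, false, true],
    [true, false, true, true, true, true, false, true, false, true, false, true, true, false, true, true, false, true, false, true, true, false, true, false, true, true, true, false, true]]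
  P := [3, 4]

/-- relators of the two generators -/
def rels : List (List Bool × ℕ) := [([false], 2), ([false, true, true, false, false], 6), ([true, true, false, false, false, true, true], 8), ([true, false, true, true, true, true, false], 6), ([false, true, false, true, true, true], 10), ([false, true, true, true, false, true, true, false, true], 6)]

/-- the admissible images of the second generator, with conjugating tables -/
def KS : List (ℕ × ℕ × List (ℕ × ℕ)) := [(1, TA, [(0x2d6d17c2929a8413b80458ee833589, 0x8bdd3ba6c63d6035164c5828113504), (0x8ba955b2e0558d29bc412b4e322510, 0x2cdcb52683bd584b3e40888f00a0cd), (0x7aa65aa0e1bac6275892882896b206, 0x3aab67c9612b8909dd2da22233004c), (0xabaf3a00a35d88979d8150a2d81912, 0x3112d838110cae560eaa45847a4d6f), (0x2d176519cc3c530acda47cae810c01, 0xbdab49ca307b9ac5a928398a418820), (0xa3cf72b169b28528ba00a8663234c8, 0x40d240b98b148f181ab76a814b3e65), (0x72d53a04e22dc69b55868a1e06c244, 0x595cf3a548a5426bc6509b2c2011a3), (0x51e25722a35cd8d7dcd2b268180082, 0x802426d4d72266a431cb0c46f2d0f6), (0xabeeb508a9b1d03a4e0d7122664801, 0x9c5c5a26edb54483ae417c14060c86), (0x9d1f6b8dc1ac40829c8c5096991a0d, 0x6503549642634189c563dab9dd47), (0x3c56a2b6c473e40ad109b867010ccc, 0xb240255071a5f76c1d312cc58da8a), (0x9ae27b8ea2514c0b3d09a35c19408c,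 0x552a75c8ac9b9008d926b8ded20602), (0x3ccb1b128d73e0152cc3ba6b240182, 0xb1eb78c9e05b8c22d123512686c181), (0x545eb736c0ace48a5c6c290e648450, 0xa5eaa2ca628b86179d24b356643010), (0x7cceeb0166bd08289423ac14d43132, 0x7add1b24e45540da4e42286ec81868), (0xa28b789a6d3ae04758607caac48448, 0x60a414546a6a576301d18149379ef4), (0x8d6ca786e499c032d046721706264d, 0x221260382f64ad3136b419e0abc4ab), (0x71e955c1f28dd8d99422b0d4032124, 0x6992313a1304a8b0a2a725d96515f1), (0xb5d4e88a662d1043d40d5c1ec0c869, 0x1b528638458494f012b6350373ae33), (0xb5e67a91ec8953052da2a01d20a066, 0x1424c1d5b4324a7205cf04d115aad7)])]

/-- the check that a table describes an element of the group -/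
def inG (T : ℕ) : Bool :=
  tblInM24 T && (permMask T DS == DS)

/-- the check that a table describes a permutation of the code preserving or exchanging the
dodecad and its complement -/
def inGhat (T : ℕ) : Bool :=
  tblInM24 T && ((permMask T DS == DS) || ((permMask T DS == DSc) && (permMask T DSc == DS)))

/-- the check on each product of the chain -/
def chk (C U : ℕ) : Bool := candOK rels KS C U && outOK TA TB TA' TB' C U

/-! ### The checks -/

theorem chain_ok : chainOK TA TB d0 d1 d2 d3 = true := by decide +kernel

set_option maxRecDepth 1000000 in
theorem loop_ok : loop4 d0.n d0.U d1.n d1.U d2.n d2.U d3.n d3.U chk = true := by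
  decide +kernel

theorem gens_in : inG TA = true ∧ inG TB = true ∧ inG TN = true ∧ inGhat TT = true ∧
    permMask TT DS = DSc := by decide +kernel

theorem survs_in : ∀ ks ∈ KS, ∀ sv ∈ ks.2.2, inGhat sv.2 = true ∧
    survOK TA TB ks.2.1 sv = true := by
  decide +kernel

theorem small_checks : (∀ x < 24, iterN (imgF TA) 5 x = x) ∧ (∃ x < 24, imgF TA x ≠ x) ∧
    (∀ x < 24, imgF TN (imgF TA x) = iterN (imgF TA) 2 (imgF TN x)) ∧
    (∀ ks ∈ KS, ∀ x < 24, imgF ks.2.1 x = iterN (imgF TA) ks.1 x) ∧
    relsHoldF rels (imgF TA) (imgF TB) = true ∧ ([false], 2) ∈ rels ∧
    (∀ x < 24, imgF TT (imgF TA x) = imgF TA' (imgF TT x)) ∧
    (∀ x < 24, imgF TT (imgF TB x) = imgF TB' (imgF TT x)) := by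
  decide +kernel

/-! ### The group -/

/-- the dodecad of squares -/
abbrev D : Finset GolayPt := Spor.squareDodecad

/-- its complement -/
abbrev E : Finset GolayPt := Finset.univ \ D

theorem enc_D : enc D = DS := by decide +kernel

theorem enc_E : enc E = DSc := by decide +kernel

theorem mem_M12 {g : Equiv.Perm GolayPt} : g ∈ Spor.M12 ↔ g ∈ M24 ∧ g • D = D := by
  unfold Spor.M12
  rw [Subgroup.mem_inf]
  rfl

theorem card_M12 : Nat.card ↥Spor.M12 = 95040 := by
  rw [← Cfsg.Agent.S0382.result D Cfsg.Agent.S5620.D_mem]
  apply Nat.card_congr
  exact
    { toFun := fun k => ⟨⟨k.1, (mem_M12.1 k.2).1⟩,
        MulAction.mem_stabilizer_iff.2 (mem_M12.1 k.2).2⟩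
      invFun := fun k => ⟨k.1.1, mem_M12.2 ⟨k.1.2, MulAction.mem_stabilizer_iff.1 k.2⟩⟩
      left_inv := fun k => rfl
      right_inv := fun k => rfl }

theorem smul_E {g : Equiv.Perm GolayPt} (h : g • D = D) : g • E = E :=
  (Cfsg.Agent.S5620.smul_compl_iff g D).2 h

theorem exists_of_inG {T : ℕ} (h : inG T = true) : ∃ σ ∈ Spor.M12, Represents σ T := by
  unfold inG at h
  simp only [Bool.and_eq_true, beq_iff_eq] at h
  obtain ⟨h1, h2⟩ := h
  obtain ⟨σ, hσ, hT⟩ := exists_of_tblInM24 h1
  refine ⟨σ, mem_M12.2 ⟨hσ, ?_⟩, hT⟩
  apply enc_injective
  rw [enc_smul hT, enc_D, h2]

/-- the permutations of the code preserving or exchanging the dodecad and its complement -/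
def NN : Set (Equiv.Perm GolayPt) :=
  {n | n ∈ M24 ∧ (n • D = D ∨ (n • D = E ∧ n • E = D))}

theorem exists_of_inGhat {T : ℕ} (h : inGhat T = true) : ∃ σ ∈ NN, Represents σ T := by
  unfold inGhat at h
  simp only [Bool.and_eq_true, Bool.or_eq_true, beq_iff_eq] at h
  obtain ⟨h1, h2⟩ := h
  obtain ⟨σ, hσ, hT⟩ := exists_of_tblInM24 h1
  refine ⟨σ, ⟨hσ, ?_⟩, hT⟩
  rcases h2 with h2 | ⟨h2, h3⟩
  · left
    apply enc_injective
    rw [enc_smul hT, enc_D, h2]
  · right
    constructor
    · apply enc_injective
      rw [enc_smul hT, enc_D, enc_E, h2]
    · apply enc_injective
      rw [enc_smul hT, enc_D, enc_E, h3]

theorem normalizes_of_mem_NN {n : Equiv.Perm GolayPt} (hn : n ∈ NN) :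
    Normalizes Spor.M12 n := by
  obtain ⟨hM, hcase⟩ := hn
  constructor
  · intro g hg
    obtain ⟨g1, g2⟩ := mem_M12.1 hg
    refine mem_M12.2 ⟨M24.mul_mem (M24.mul_mem hM g1) (M24.inv_mem hM), ?_⟩
    rw [mul_smul, mul_smul]
    rcases hcase with h | ⟨h1, h2⟩
    · have : n⁻¹ • D = D := by rw [inv_smul_eq_iff, h]
      rw [this, g2, h]
    · have : n⁻¹ • D = E := by rw [inv_smul_eq_iff, h2]
      rw [this, smul_E g2, h2]
  · intro g hg
    obtain ⟨g1, g2⟩ := mem_M12.1 hg
    refine mem_M12.2 ⟨M24.mul_mem (M24.mul_mem (M24.inv_mem hM) g1) hM, ?_⟩
    rw [mul_smul, mul_smul]
    rcases hcase with h | ⟨h1, h2⟩
    · rw [h, g2, inv_smul_eq_iff, h]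
    · rw [h1, smul_E g2, inv_smul_eq_iff, h1]

/-! ### The automorphisms -/

theorem cover : ∀ j < 5, j ≠ 0 → ∃ k ∈ KS.map (·.1), ∃ m, j % 5 = (k * 2 ^ m) % 5 := by
  intro j hj hj0
  refine ⟨1, by simp [KS], ?_⟩
  interval_cases j
  · exact absurd rfl hj0
  · exact ⟨0, by norm_num⟩
  · exact ⟨1, by norm_num⟩
  · exact ⟨3, by norm_num⟩
  · exact ⟨2, by norm_num⟩

theorem main : Nat.card (Cfsg.Out ↥Spor.M12) = 2 := by
  obtain ⟨a, ha, hA⟩ := exists_of_inG gens_in.1
  obtain ⟨b, hb, hB⟩ := exists_of_inG gens_in.2.1
  obtain ⟨t, htNN, hT⟩ := exists_of_inGhat gens_in.2.2.2.1
  have hcard4 : Nat.card ↥Spor.M12 = d0.n * d1.n * d2.n * d3.n := by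
    rw [card_M12]; rfl
  have hgenu' := enum4 hA hB ha hb d0 d1 d2 d3 chain_ok hcard4 chk loop_ok
  have hgenu : ∀ g ∈ Spor.M12, g ∈ Subgroup.closure ({a, b} : Set (Equiv.Perm GolayPt)) ∧
      ∃ C U, RepF g (fun x => imgF C (imgF U x)) ∧ candOK rels KS C U = true := by
    intro g hg
    obtain ⟨h1, C, U, h2, h3⟩ := hgenu' g hg
    unfold chk at h3
    rw [Bool.and_eq_true] at h3
    exact ⟨h1, C, U, h2, h3.1⟩
  obtain ⟨h1, h2, h3, h4, h5, h6, h7, h8⟩ := small_checks
  have : Fact (Nat.Prime 5) := ⟨by norm_num⟩
  have hcard : Nat.card ↥Spor.M12 = 5 * 19008 := by rw [card_M12]
  have hNN : ∀ n ∈ NN, Normalizes Spor.M12 n := fun n hn => normalizes_of_mem_NN hn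
  have hsurv : ∀ ks ∈ KS, ∀ sv ∈ ks.2.2, (∃ n ∈ NN, Represents n sv.2) ∧
      survOK TA TB ks.2.1 sv = true := by
    intro ks hks sv hsv
    obtain ⟨e1, e2⟩ := survs_in ks hks sv hsv
    exact ⟨exists_of_inGhat e1, e2⟩
  have hall := aut_classify hA hB ha hb rels KS hgenu 5 2 19008 hcard (by norm_num) h1 h2 TN
    (exists_of_inG gens_in.2.2.1) h3 h4 cover h5 h6 NN hNN hsurv
  have htD : t • D = E := by
    apply enc_injective
    rw [enc_smul hT, enc_D, enc_E, gens_in.2.2.2.2]
  have htE : t • E = D := by
    rcases htNN.2 with h | ⟨-, h⟩
    · exfalso
      rw [h] at htD
      have : enc D = enc E := by rw [htD]
      rw [enc_D, enc_E] at this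
      exact absurd this (by decide)
    · exact h
  refine card_out_eq_two Spor.M12 ⟨a, ha⟩ ⟨b, hb⟩ NN hNN t (hNN t htNN) ?_ ?_ hall
  · intro n hn
    rcases hn.2 with h | ⟨h, -⟩
    · exact Or.inl (mem_M12.2 ⟨hn.1, h⟩)
    · refine Or.inr (mem_M12.2 ⟨M24.mul_mem hn.1 htNN.1, ?_⟩)
      rw [mul_smul, htD]
      exact hn.2.resolve_left (by
        intro h'
        rw [h'] at h
        have : enc D = enc E := by rw [h]
        rw [enc_D, enc_E] at this
        exact absurd this (by decide)) |>.2
  · intro g
    obtain ⟨-, C, U, hg2, hg3⟩ := hgenu' g g.2
    unfold chk at hg3
    rw [Bool.and_eq_true] at hg3
    exact not_conj_of_outOK hT hA hB h7 h8 hg2 hg3.2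

end Cfsg.Agent.Lib.Helper27_OutM12
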