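import Mathlib
import Cfsg.Prelude.Def_KGroupFacts
import Cfsg.Agent.Lib.Helper27_OutM12

/-!
A stem extension of the Mathieu group of degree twelve with kernel of order two: the group of the
triples of a permutation of the group and two signed permutations above its actions on the two
dodecads that preserve a pairing of the two dodecads with values a sign (a Hadamard matrix of
order twelve); the projection to the first component is surjective because the two generators
lift (tables checked by the kernel), its kernel is the pair of the two signs, which is central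
and is a commutator (`cover_exists`).
-/

set_option autoImplicit false
open scoped Pointwise
open Cfsg
open scoped commutatorElement
open Cfsg.Agent.Lib.Helper26_Golay
open Cfsg.Agent.Lib.Helper27_EnumGroup
open Cfsg.Agent.Lib.Helper27_OutM12

namespace Cfsg.Agent.Lib.Helper27_M12Cover

/-! ### The data -/

/-- the point of the dodecad below a signed point -/
def BT : ℕ := 0x94a106b58c4a5083188418c4208400

/-- the point of the complement below a signed column -/
def GT : ℕ := 0x39d4a8c6f7b596b296737beb5a51ce

/-- the signs of the pairing of the signed points and the signed columns -/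
def PT : ℕ := 0x6995a9966a56696966969699669996996669a596665a699965aa599a55a699995a6666a56a565a95a9a5a5659a5a9a6559a696a6596956a56aa95a95555aaaaaa555aaaaaa555555

/-- the exchange of the two signs -/
def ZT : ℕ := 0xb5e9594e1173d8d52d0931c8510c01

/-- the lifts of the two generators on the signed points -/
def XA : ℕ := 0xbd8a4398627b9289c96a6b230082b4

/-- the lifts of the two generators on the signed points -/
def XB : ℕ := 0x52e1173eb49c909bd9ac214e608043

/-- the lifts of the two generators on the signed columns -/
def YA : ℕ := 0x73ed742443844c76b16a9c8a4ad020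

/-- the lifts of the two generators on the signed columns -/
def YB : ℕ := 0x31d090054b10c858c2b4bd9ac7ba72

/-- a first involution of the group and its lifts -/
def UG : ℕ := 0x756ca2c1723dc898d1807866d10cc8

/-- a first involution of the group and its lifts -/
def UX : ℕ := 0xad2d7425cf8c02010e72290c75a98d

/-- a first involution of the group and its lifts -/
def UY : ℕ := 0x398436b001292534a14bb5dcfad230

/-- a second involution of the group, commuting with the first, and its lifts -/
def VG : ℕ := 0x3ccb1b128d73e0152cc3ba6b240182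

/-- a second involution of the group, commuting with the first, and its lifts -/
def VX : ℕ := 0x4a253ad04352cc77bad76b0018c0a4

/-- a second involution of the group, commuting with the first, and its lifts -/
def VY : ℕ := 0x8c1ac18ad742695291ee0814b94cc7

/-! ### The group of triples -/

/-- the point of the dodecad below a signed point -/
def βp (p : GolayPt) : GolayPt := pt (imgF BT (idx p))

/-- the point of the complement below a signed column -/
def γp (q : GolayPt) : GolayPt := pt (imgF GT (idx q))

/-- the sign of the pairing -/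
def sgn (i j : ℕ) : ℕ := Nat.land (Nat.shiftRight PT (Nat.add (Nat.mul 24 i) j)) 1

/-- the sign of the pairing of a signed point and a signed column -/
def Pp (p q : GolayPt) : ℕ := sgn (idx p) (idx q)

/-- the triples of an element of the group, a permutation of the signed points above it on the
dodecad and a permutation of the signed columns above it on the complement, preserving the
pairing -/
def Cover : Subgroup (Equiv.Perm GolayPt × Equiv.Perm GolayPt × Equiv.Perm GolayPt) where
  carrier := {t | t.1 ∈ Spor.M12 ∧ (∀ p, βp (t.2.1 p) = t.1 (βp p)) ∧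
    (∀ q, γp (t.2.2 q) = t.1 (γp q)) ∧ ∀ p q, Pp (t.2.1 p) (t.2.2 q) = Pp p q}
  mul_mem' := by
    rintro ⟨g, X, Y⟩ ⟨h, X', Y'⟩ ⟨a1, a2, a3, a4⟩ ⟨b1, b2, b3, b4⟩
    refine ⟨Spor.M12.mul_mem a1 b1, ?_, ?_, ?_⟩
    · intro p
      show βp (X (X' p)) = g (h (βp p))
      rw [a2, b2]
    · intro q
      show γp (Y (Y' q)) = g (h (γp q))
      rw [a3, b3]
    · intro p q
      show Pp (X (X' p)) (Y (Y' q)) = Pp p q
      rw [a4, b4]
  one_mem' := ⟨Spor.M12.one_mem, fun _ => rfl, fun _ => rfl, fun _ _ => rfl⟩
  inv_mem' := by
    rintro ⟨g, X, Y⟩ ⟨a1, a2, a3, a4⟩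
    refine ⟨Spor.M12.inv_mem a1, ?_, ?_, ?_⟩
    · intro p
      show βp (X⁻¹ p) = g⁻¹ (βp p)
      have := a2 (X⁻¹ p)
      have e : X (X⁻¹ p) = p := by simp
      rw [e] at this
      rw [this]
      simp
    · intro q
      show γp (Y⁻¹ q) = g⁻¹ (γp q)
      have := a3 (Y⁻¹ q)
      have e : Y (Y⁻¹ q) = q := by simp
      rw [e] at this
      rw [this]
      simp
    · intro p q
      show Pp (X⁻¹ p) (Y⁻¹ q) = Pp p q
      have := a4 (X⁻¹ p) (Y⁻¹ q)
      have e : X (X⁻¹ p) = p := by simp
      have e' : Y (Y⁻¹ q) = q := by simp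
      rw [e, e'] at this
      exact this.symm

/-- the check that three tables describe a triple of the group (the first table apart) -/
def coverOK (Tg TX TY : ℕ) : Bool :=
  all24 (fun i => Nat.beq (imgF BT (imgF TX i)) (imgF Tg (imgF BT i))) &&
  all24 (fun j => Nat.beq (imgF GT (imgF TY j)) (imgF Tg (imgF GT j))) &&
  all24 (fun i => all24 fun j => Nat.beq (sgn (imgF TX i) (imgF TY j)) (sgn i j))

theorem tables_lt : (∀ i < 24, imgF BT i < 24) ∧ (∀ i < 24, imgF GT i < 24) := by decide +kernel

theorem mem_cover {g X Y : Equiv.Perm GolayPt} {Tg TX TY : ℕ} (hg : Represents g Tg)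
    (hX : Represents X TX) (hY : Represents Y TY) (hgM : g ∈ Spor.M12)
    (h : coverOK Tg TX TY = true) : (g, X, Y) ∈ Cover := by
  unfold coverOK at h
  rw [Bool.and_eq_true, Bool.and_eq_true, all24_eq_true, all24_eq_true, all24_eq_true] at h
  obtain ⟨⟨h1, h2⟩, h3⟩ := h
  refine ⟨hgM, ?_, ?_, ?_⟩
  · intro p
    show βp (X p) = g (βp p)
    apply idx_injective
    unfold βp
    rw [hg, idx_pt _ (tables_lt.1 _ (idx_lt _)), idx_pt _ (tables_lt.1 _ (idx_lt _)), hX]
    exact Nat.eq_of_beq_eq_true (h1 _ (idx_lt p))
  · intro q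
    show γp (Y q) = g (γp q)
    apply idx_injective
    unfold γp
    rw [hg, idx_pt _ (tables_lt.2 _ (idx_lt _)), idx_pt _ (tables_lt.2 _ (idx_lt _)), hY]
    exact Nat.eq_of_beq_eq_true (h2 _ (idx_lt q))
  · intro p q
    show Pp (X p) (Y q) = Pp p q
    unfold Pp
    rw [hX, hY]
    have := h3 _ (idx_lt p)
    rw [all24_eq_true] at this
    exact Nat.eq_of_beq_eq_true (this _ (idx_lt q))

theorem data_ok : tblValid ZT = true ∧ tblValid XA = true ∧ tblValid XB = true ∧
    tblValid YA = true ∧ tblValid YB = true ∧ tblValid UX = true ∧ tblValid UY = true ∧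
    tblValid VX = true ∧ tblValid VY = true ∧ inG UG = true ∧ inG VG = true ∧
    coverOK TA XA YA = true ∧ coverOK TB XB YB = true ∧ coverOK UG UX UY = true ∧
    coverOK VG VX VY = true ∧ coverOK 0xbdab49ca307b9ac5a928398a418820 ZT ZT = true := by
  decide +kernel


/-! ### The kernel -/

theorem table_facts : (∀ i < 24, Nat.xor i 1 < 24) ∧
    (∀ i < 24, ∀ j < 24, imgF BT i = imgF BT j → j = i ∨ j = Nat.xor i 1) ∧
    (∀ i < 24, ∀ j < 24, imgF GT i = imgF GT j → j = i ∨ j = Nat.xor i 1) ∧
    (∀ i < 24, ∀ j < 24, sgn (Nat.xor i 1) j ≠ sgn i j) ∧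
    (∀ i < 24, ∀ j < 24, sgn i (Nat.xor j 1) ≠ sgn i j) ∧
    (∀ i < 24, imgF ZT i = Nat.xor i 1) ∧ (∀ i < 24, Nat.xor i 1 ≠ i) := by
  decide +kernel

/-- the other point with the same image -/
def par (p : GolayPt) : GolayPt := pt (Nat.xor (idx p) 1)

theorem idx_par (p : GolayPt) : idx (par p) = Nat.xor (idx p) 1 :=
  idx_pt _ (table_facts.1 _ (idx_lt p))

theorem par_ne (p : GolayPt) : par p ≠ p := by
  intro h
  have := congrArg idx h
  rw [idx_par] at this
  exact table_facts.2.2.2.2.2.2 _ (idx_lt p) this

theorem eq_or_par_of_β {p p' : GolayPt} (h : βp p' = βp p) : p' = p ∨ p' = par p := by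
  unfold βp at h
  have h' := congrArg idx h
  rw [idx_pt _ (tables_lt.1 _ (idx_lt _)), idx_pt _ (tables_lt.1 _ (idx_lt _))] at h'
  rcases table_facts.2.1 _ (idx_lt p) _ (idx_lt p') h'.symm with e | e
  · exact Or.inl (idx_injective e)
  · right
    apply idx_injective
    rw [idx_par, e]

theorem eq_or_par_of_γ {p p' : GolayPt} (h : γp p' = γp p) : p' = p ∨ p' = par p := by
  unfold γp at h
  have h' := congrArg idx h
  rw [idx_pt _ (tables_lt.2 _ (idx_lt _)), idx_pt _ (tables_lt.2 _ (idx_lt _))] at h'
  rcases table_facts.2.2.1 _ (idx_lt p) _ (idx_lt p') h'.symm with e | e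
  · exact Or.inl (idx_injective e)
  · right
    apply idx_injective
    rw [idx_par, e]

theorem Pp_par_left (p q : GolayPt) : Pp (par p) q ≠ Pp p q := by
  unfold Pp
  rw [idx_par]
  exact table_facts.2.2.2.1 _ (idx_lt p) _ (idx_lt q)

theorem Pp_par_right (p q : GolayPt) : Pp p (par q) ≠ Pp p q := by
  unfold Pp
  rw [idx_par]
  exact table_facts.2.2.2.2.1 _ (idx_lt p) _ (idx_lt q)

/-- the exchange of the two signs -/
noncomputable def Zperm : Equiv.Perm GolayPt := permOfTable ZT data_ok.1

theorem Zperm_apply (p : GolayPt) : Zperm p = par p := by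
  apply idx_injective
  rw [idx_par]
  have := represents_permOfTable ZT data_ok.1 p
  rw [← table_facts.2.2.2.2.2.1 _ (idx_lt p)]
  exact this

theorem Zperm_ne_one : Zperm ≠ 1 := by
  intro h
  have := Zperm_apply none
  rw [h] at this
  exact par_ne none this.symm

/-- the triples above the identity -/
theorem ker_cases {X Y : Equiv.Perm GolayPt} (h : ((1 : Equiv.Perm GolayPt), X, Y) ∈ Cover) :
    (X = 1 ∧ Y = 1) ∨ (X = Zperm ∧ Y = Zperm) := by
  obtain ⟨-, h2, h3, h4⟩ := h
  have hX : ∀ p, X p = p ∨ X p = par p := fun p => eq_or_par_of_β (h2 p)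
  have hY : ∀ q, Y q = q ∨ Y q = par q := fun q => eq_or_par_of_γ (h3 q)
  by_cases hex : ∃ p0, X p0 = par p0
  · right
    obtain ⟨p0, hp0⟩ := hex
    have hYall : ∀ q, Y q = par q := by
      intro q
      rcases hY q with e | e
      · exfalso
        have := h4 p0 q
        rw [hp0, e] at this
        exact Pp_par_left p0 q this
      · exact e
    have hXall : ∀ p, X p = par p := by
      intro p
      rcases hX p with e | e
      · exfalso
        have := h4 p none
        rw [e, hYall] at this
        exact Pp_par_right p none this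
      · exact e
    constructor
    · ext p
      rw [hXall, Zperm_apply]
    · ext q
      rw [hYall, Zperm_apply]
  · left
    have hXall : ∀ p, X p = p := by
      intro p
      rcases hX p with e | e
      · exact e
      · exact absurd ⟨p, e⟩ hex
    have hYall : ∀ q, Y q = q := by
      intro q
      rcases hY q with e | e
      · exact e
      · exfalso
        have := h4 none q
        rw [hXall, e] at this
        exact Pp_par_right none q this
    constructor
    · ext p
      rw [hXall]; rfl
    · ext q
      rw [hYall]; rfl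


/-! ### The stem extension -/

/-- the table of the identity -/
def IDT : ℕ := 0xbdab49ca307b9ac5a928398a418820

theorem idt_ok : ∀ i < 24, imgF IDT i = i := by decide +kernel

theorem represents_one : Represents (1 : Equiv.Perm GolayPt) IDT := by
  intro p
  exact (idt_ok _ (idx_lt p)).symm

set_option maxRecDepth 1000000 in
theorem loop_triv : loop4 d0.n d0.U d1.n d1.U d2.n d2.U d3.n d3.U (fun _ _ => true) = true := by
  decide +kernel

/-- the two generators -/
theorem exists_gens : ∃ a b : Equiv.Perm GolayPt, a ∈ Spor.M12 ∧ b ∈ Spor.M12 ∧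
    Represents a TA ∧ Represents b TB ∧
    ∀ g ∈ Spor.M12, g ∈ Subgroup.closure ({a, b} : Set (Equiv.Perm GolayPt)) := by
  obtain ⟨a, ha, hA⟩ := exists_of_inG gens_in.1
  obtain ⟨b, hb, hB⟩ := exists_of_inG gens_in.2.1
  have hcard4 : Nat.card ↥Spor.M12 = d0.n * d1.n * d2.n * d3.n := by
    rw [card_M12]; rfl
  exact ⟨a, b, ha, hb, hA, hB, fun g hg =>
    (enum4 hA hB ha hb d0 d1 d2 d3 chain_ok hcard4 _ loop_triv g hg).1⟩

/-- the projection to the group -/
def proj : ↥Cover →* ↥Spor.M12 where
  toFun t := ⟨t.1.1, t.2.1⟩
  map_one' := rfl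
  map_mul' _ _ := rfl

theorem proj_surjective : Function.Surjective proj := by
  obtain ⟨a, b, ha, hb, hA, hB, hgen⟩ := exists_gens
  obtain ⟨d1, d2, d3, d4, d5, -, -, -, -, -, -, d12, d13, -, -, -⟩ := data_ok
  have hacov : (a, permOfTable XA d2, permOfTable YA d4) ∈ Cover :=
    mem_cover hA (represents_permOfTable _ _) (represents_permOfTable _ _) ha d12
  have hbcov : (b, permOfTable XB d3, permOfTable YB d5) ∈ Cover :=
    mem_cover hB (represents_permOfTable _ _) (represents_permOfTable _ _) hb d13
  let S : Subgroup (Equiv.Perm GolayPt) := Cover.map (MonoidHom.fst _ _)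
  have hS : Subgroup.closure ({a, b} : Set (Equiv.Perm GolayPt)) ≤ S := by
    rw [Subgroup.closure_le]
    rintro x (rfl | hx)
    · exact ⟨_, hacov, rfl⟩
    · rw [Set.mem_singleton_iff] at hx
      subst hx
      exact ⟨_, hbcov, rfl⟩
  intro g
  obtain ⟨t, ht, e⟩ := hS (hgen g.1 g.2)
  exact ⟨⟨t, ht⟩, Subtype.ext e⟩

/-- the central element -/
noncomputable def zelt : ↥Cover :=
  ⟨(1, Zperm, Zperm), mem_cover represents_one (represents_permOfTable _ _)
    (represents_permOfTable _ _) Spor.M12.one_mem data_ok.2.2.2.2.2.2.2.2.2.2.2.2.2.2.2⟩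

theorem zelt_ne_one : zelt ≠ 1 := by
  intro h
  have := congrArg (fun t : ↥Cover => t.1.2.1) h
  exact Zperm_ne_one this

theorem zelt_mem_ker : zelt ∈ proj.ker := by
  rw [MonoidHom.mem_ker]
  rfl

theorem ker_cases' (t : ↥Cover) (ht : t ∈ proj.ker) : t = 1 ∨ t = zelt := by
  obtain ⟨⟨g, X, Y⟩, h⟩ := t
  have hg : g = 1 := by
    have := congrArg Subtype.val (MonoidHom.mem_ker.1 ht)
    exact this
  subst hg
  rcases ker_cases h with ⟨rfl, rfl⟩ | ⟨rfl, rfl⟩
  · left; rfl
  · right; rfl

theorem card_ker : Nat.card ↥proj.ker = 2 := by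
  rw [Nat.card_eq_two_iff]
  refine ⟨1, ⟨zelt, zelt_mem_ker⟩, ?_, ?_⟩
  · intro h
    exact zelt_ne_one (congrArg Subtype.val h).symm
  · ext t
    simp only [Set.mem_insert_iff, Set.mem_singleton_iff, Set.mem_univ, iff_true]
    rcases ker_cases' t.1 t.2 with e | e
    · left; exact Subtype.ext e
    · right; exact Subtype.ext e

theorem ker_le_center : proj.ker ≤ Subgroup.center ↥Cover := by
  intro t ht
  rw [Subgroup.mem_center_iff]
  intro s
  rcases ker_cases' t ht with rfl | rfl
  · simp
  · -- the conjugate lies in the kernel and is not trivial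
    have hn : s * zelt * s⁻¹ ∈ proj.ker :=
      (inferInstance : proj.ker.Normal).conj_mem zelt zelt_mem_ker s
    rcases ker_cases' _ hn with e | e
    · exfalso
      apply zelt_ne_one
      calc zelt = s⁻¹ * (s * zelt * s⁻¹) * s := by group
        _ = 1 := by rw [e]; group
    · calc s * zelt = (s * zelt * s⁻¹) * s := by group
        _ = zelt * s := by rw [e]


theorem comm_ok : (∀ i < 24, imgF UG (imgF VG i) = imgF IDT (imgF VG (imgF UG i))) ∧
    (∀ i < 24, imgF UX (imgF VX i) = imgF ZT (imgF VX (imgF UX i))) ∧
    (∀ i < 24, imgF UY (imgF VY i) = imgF ZT (imgF VY (imgF UY i))) := by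
  decide +kernel

theorem zelt_mem_commutator : zelt ∈ _root_.commutator ↥Cover := by
  obtain ⟨d1, -, -, -, -, d6, d7, d8, d9, d10, d11, -, -, d14, d15, -⟩ := data_ok
  obtain ⟨ug, hugM, hugT⟩ := exists_of_inG d10
  obtain ⟨vg, hvgM, hvgT⟩ := exists_of_inG d11
  let u : ↥Cover := ⟨(ug, permOfTable UX d6, permOfTable UY d7),
    mem_cover hugT (represents_permOfTable _ _) (represents_permOfTable _ _) hugM d14⟩
  let v : ↥Cover := ⟨(vg, permOfTable VX d8, permOfTable VY d9),
    mem_cover hvgT (represents_permOfTable _ _) (represents_permOfTable _ _) hvgM d15⟩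
  have rZ : RepF Zperm (imgF ZT) := repF_of_represents (represents_permOfTable ZT d1)
  have huv : u * v = zelt * v * u := by
    apply Subtype.ext
    apply Prod.ext
    · show ug * vg = 1 * vg * ug
      exact eq_of_repF (repF_mul (repF_of_represents hugT) (repF_of_represents hvgT))
        (repF_mul (repF_mul (repF_of_represents represents_one) (repF_of_represents hvgT))
          (repF_of_represents hugT)) comm_ok.1
    · apply Prod.ext
      · show permOfTable UX d6 * permOfTable VX d8 = Zperm * permOfTable VX d8 * permOfTable UX d6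
        exact eq_of_repF (repF_mul (repF_of_represents (represents_permOfTable _ _))
          (repF_of_represents (represents_permOfTable _ _)))
          (repF_mul (repF_mul rZ (repF_of_represents (represents_permOfTable _ _)))
            (repF_of_represents (represents_permOfTable _ _))) comm_ok.2.1
      · show permOfTable UY d7 * permOfTable VY d9 = Zperm * permOfTable VY d9 * permOfTable UY d7
        exact eq_of_repF (repF_mul (repF_of_represents (represents_permOfTable _ _))
          (repF_of_represents (represents_permOfTable _ _)))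
          (repF_mul (repF_mul rZ (repF_of_represents (represents_permOfTable _ _)))
            (repF_of_represents (represents_permOfTable _ _))) comm_ok.2.2
  have : ⁅u, v⁆ = zelt := by
    rw [commutatorElement_def, huv]
    group
  rw [← this, commutator_def]
  exact Subgroup.commutator_mem_commutator (Subgroup.mem_top u) (Subgroup.mem_top v)

/-- a stem extension of the group with kernel of order two -/
theorem cover_exists : ∃ (Γ : Type) (_ : Group Γ) (_ : Finite Γ) (σ : Γ →* ↥Spor.M12),
    IsStemExtension σ ∧ IsCyclic σ.ker ∧ Nat.card σ.ker = 2 := by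
  refine ⟨↥Cover, inferInstance, inferInstance, proj, ⟨proj_surjective, ker_le_center, ?_⟩, ?_,
    card_ker⟩
  · intro t ht
    rcases ker_cases' t ht with rfl | rfl
    · exact Subgroup.one_mem _
    · exact zelt_mem_commutator
  · have : Fact (Nat.Prime 2) := ⟨Nat.prime_two⟩
    exact isCyclic_of_prime_card card_ker

end Cfsg.Agent.Lib.Helper27_M12Cover
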