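import Mathlib
import Cfsg.Prelude.Def_KGroupFacts
import Cfsg.Agent.Lib.Helper66_StemTools

/-!
Stem extensions of a group that is the product of two subgroups.

A perfect subgroup all of whose stem extensions are trivial lifts to any central extension of the
whole group (`exists_lift`), and two such lifts agree above a perfect subgroup of the intersection
(`mem_of_lift`).  When the group is the product of two such subgroups `H1` and `H2`, a product of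
an element of the lift of `H2` and an element of the lift of `H1` is a product the other way round
times an element `z` of the kernel (`Dec`); these elements generate the kernel of a stem extension
(`Setup.ker_le_of_gens`), and `z` depends only on the pair of cosets, that is, on a pair of points
when `H1` and `H2` are stabilisers of points (`Zp`, `Setup.zp_unique`), is trivial when one of the
two cosets is trivial, is invariant under the intersection (`Setup.zp_conj`) and is multiplicative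
(`Setup.zp_mul`).
-/

set_option autoImplicit false
open Cfsg
open scoped commutatorElement

namespace Cfsg.Agent.Lib.Helper27_StemFactor

open Cfsg.Agent.Lib.Helper66_StemTools

universe u

section lift

variable {Γ G : Type u} [Group Γ] [Group G]

/-- a perfect subgroup all of whose finite stem extensions are trivial lifts to a stem extension
of the whole group -/
theorem exists_lift [Finite Γ] (σ : Γ →* G) (hsurj : Function.Surjective σ)
    (hc : σ.ker ≤ Subgroup.center Γ) (H : Subgroup G) (hperf : H ≤ ⁅H, H⁆)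
    (htriv : ∀ (Γ' : Type u) [Group Γ'] [Finite Γ'] (τ : Γ' →* ↥H), IsStemExtension τ → τ.ker = ⊥) :
    ∃ L : Subgroup Γ, L.map σ = H ∧ L ⊓ σ.ker = ⊥ := by
  set Ht : Subgroup Γ := H.comap σ with hHt
  set L : Subgroup Γ := ⁅Ht, Ht⁆ with hL
  have hmapHt : Ht.map σ = H := Subgroup.map_comap_eq_self_of_surjective hsurj H
  have hmapL : L.map σ = H := by
    rw [hL, Subgroup.map_commutator, hmapHt]
    exact le_antisymm (Subgroup.commutator_le_self H) hperf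
  have hLHt : L ≤ Ht := Subgroup.commutator_le_self Ht
  -- every element of `Ht` is an element of `L` times a central element
  have hdec : ∀ x ∈ Ht, ∃ l ∈ L, ∃ a ∈ Subgroup.center Γ, x = l * a := by
    intro x hx
    have : σ x ∈ L.map σ := by rw [hmapL]; exact hx
    obtain ⟨l, hl, hlx⟩ := this
    refine ⟨l, hl, l⁻¹ * x, hc ?_, by group⟩
    rw [MonoidHom.mem_ker, map_mul, map_inv, hlx, inv_mul_cancel]
  have hperfL : L ≤ ⁅L, L⁆ := by
    rw [hL, Subgroup.commutator_le]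
    intro x hx y hy
    obtain ⟨l, hl, a, ha, rfl⟩ := hdec x hx
    obtain ⟨m, hm, b, hb, rfl⟩ := hdec y hy
    rw [commutatorElement_mul_central_left _ _ _ ha, commutatorElement_mul_central_right _ _ _ hb]
    exact Subgroup.commutator_mem_commutator hl hm
  -- the restriction
  let τ : ↥L →* ↥H := (σ.comp L.subtype).codRestrict H (fun l => by
    have : σ l.1 ∈ L.map σ := ⟨l.1, l.2, rfl⟩
    rw [hmapL] at this
    exact this)
  have hτ : IsStemExtension τ := by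
    refine ⟨?_, ?_, ?_⟩
    · intro h
      have : (h : G) ∈ L.map σ := by rw [hmapL]; exact h.2
      obtain ⟨l, hl, hlh⟩ := this
      exact ⟨⟨l, hl⟩, Subtype.ext hlh⟩
    · intro l hl
      rw [Subgroup.mem_center_iff]
      intro m
      have hk : l.1 ∈ σ.ker := by
        rw [MonoidHom.mem_ker]
        have := congrArg Subtype.val (MonoidHom.mem_ker.1 hl)
        exact this
      have := Subgroup.mem_center_iff.1 (hc hk) m.1
      exact Subtype.ext this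
    · intro l _
      have h1 : (_root_.commutator ↥L).map L.subtype = ⁅L, L⁆ := Subgroup.map_subtype_commutator L
      have h2 : l.1 ∈ ⁅L, L⁆ := hperfL l.2
      rw [← h1] at h2
      obtain ⟨l', hl', e⟩ := h2
      have : l' = l := Subtype.ext e
      rw [← this]
      exact hl'
  have hker := htriv ↥L τ hτ
  refine ⟨L, hmapL, ?_⟩
  rw [eq_bot_iff]
  rintro l ⟨hl, hlk⟩
  have : (⟨l, hl⟩ : ↥L) ∈ τ.ker := by
    rw [MonoidHom.mem_ker]
    apply Subtype.ext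
    exact MonoidHom.mem_ker.1 hlk
  rw [hker, Subgroup.mem_bot] at this
  rw [Subgroup.mem_bot]
  exact congrArg Subtype.val this

/-- two lifts agree above a perfect subgroup of the intersection -/
theorem mem_of_lift (σ : Γ →* G) (hc : σ.ker ≤ Subgroup.center Γ) (L1 L2 : Subgroup Γ)
    (H1 H2 : Subgroup G) (h1 : L1.map σ = H1) (h1' : L1 ⊓ σ.ker = ⊥) (h2 : L2.map σ = H2)
    (hJ : H1 ⊓ H2 ≤ ⁅H1 ⊓ H2, H1 ⊓ H2⁆) : ∀ l ∈ L1, σ l ∈ H2 → l ∈ L2 := by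
  set J1 : Subgroup Γ := L1 ⊓ H2.comap σ with hJ1
  have hmapJ1 : J1.map σ = H1 ⊓ H2 := by
    apply le_antisymm
    · rintro _ ⟨l, ⟨hl1, hl2⟩, rfl⟩
      refine ⟨?_, hl2⟩
      rw [← h1]
      exact ⟨l, hl1, rfl⟩
    · rintro j ⟨hj1, hj2⟩
      rw [← h1] at hj1
      obtain ⟨l, hl, rfl⟩ := hj1
      exact ⟨l, ⟨hl, hj2⟩, rfl⟩
  have hcomm : ⁅J1, J1⁆ ≤ L2 := by
    rw [Subgroup.commutator_le]
    intro x hx y hy
    have hx2 : σ x ∈ L2.map σ := by rw [h2]; exact hx.2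
    have hy2 : σ y ∈ L2.map σ := by rw [h2]; exact hy.2
    obtain ⟨m, hm, hmx⟩ := hx2
    obtain ⟨m', hm', hmy⟩ := hy2
    rw [commutatorElement_congr_of_central σ hc hmx.symm hmy.symm]
    exact Subgroup.commutator_le_self L2 (Subgroup.commutator_mem_commutator hm hm')
  intro l hl hl2
  have hlJ : l ∈ J1 := ⟨hl, hl2⟩
  have : σ l ∈ (⁅J1, J1⁆).map σ := by
    rw [Subgroup.map_commutator, hmapJ1]
    apply hJ
    rw [← hmapJ1]
    exact ⟨l, hlJ, rfl⟩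
  obtain ⟨c, hcc, hcl⟩ := this
  have hcL1 : c ∈ L1 := (Subgroup.commutator_le_self J1 hcc : c ∈ J1).1
  have : c⁻¹ * l ∈ L1 ⊓ σ.ker := by
    refine ⟨L1.mul_mem (L1.inv_mem hcL1) hl, ?_⟩
    show c⁻¹ * l ∈ σ.ker
    rw [MonoidHom.mem_ker, map_mul, map_inv, hcl, inv_mul_cancel]
  rw [h1', Subgroup.mem_bot] at this
  have e : l = c := by
    calc l = c * (c⁻¹ * l) := by group
      _ = c := by rw [this, mul_one]
  rw [e]
  exact hcomm hcc

end lift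


open Cfsg.Agent.Lib.Helper66_StemTools

section factor

variable {Γ G : Type*} [Group Γ] [Group G]

/-- two subgroups of the target whose product is the whole group, with lifts to the source that
agree above the intersection -/
structure Setup (σ : Γ →* G) (L1 L2 : Subgroup Γ) (H1 H2 : Subgroup G) : Prop where
  hc : σ.ker ≤ Subgroup.center Γ
  h1 : L1.map σ = H1
  h1' : L1 ⊓ σ.ker = ⊥
  h2 : L2.map σ = H2
  h2' : L2 ⊓ σ.ker = ⊥
  c12 : ∀ l ∈ L1, σ l ∈ H2 → l ∈ L2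
  c21 : ∀ l ∈ L2, σ l ∈ H1 → l ∈ L1
  hfac : ∀ g : G, ∃ a ∈ H1, ∃ b ∈ H2, g = a * b

/-- the product `l2 * l1` written as an element of `L1`, an element of `L2` and an element `z` of the
kernel -/
def Dec (σ : Γ →* G) (L1 L2 : Subgroup Γ) (l2 l1 z : Γ) : Prop :=
  ∃ m1 ∈ L1, ∃ m2 ∈ L2, l2 * l1 = m1 * m2 * z ∧ z ∈ σ.ker

variable {σ : Γ →* G} {L1 L2 : Subgroup Γ} {H1 H2 : Subgroup G}

theorem Setup.inj1 (S : Setup σ L1 L2 H1 H2) {l l' : Γ} (hl : l ∈ L1) (hl' : l' ∈ L1)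
    (h : σ l = σ l') : l = l' := by
  have : l'⁻¹ * l ∈ L1 ⊓ σ.ker := by
    refine ⟨L1.mul_mem (L1.inv_mem hl') hl, ?_⟩
    show l'⁻¹ * l ∈ σ.ker
    rw [MonoidHom.mem_ker, map_mul, map_inv, h, inv_mul_cancel]
  rw [S.h1', Subgroup.mem_bot] at this
  calc l = l' * (l'⁻¹ * l) := by group
    _ = l' := by rw [this, mul_one]

theorem Setup.inj2 (S : Setup σ L1 L2 H1 H2) {l l' : Γ} (hl : l ∈ L2) (hl' : l' ∈ L2)
    (h : σ l = σ l') : l = l' := by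
  have : l'⁻¹ * l ∈ L2 ⊓ σ.ker := by
    refine ⟨L2.mul_mem (L2.inv_mem hl') hl, ?_⟩
    show l'⁻¹ * l ∈ σ.ker
    rw [MonoidHom.mem_ker, map_mul, map_inv, h, inv_mul_cancel]
  rw [S.h2', Subgroup.mem_bot] at this
  calc l = l' * (l'⁻¹ * l) := by group
    _ = l' := by rw [this, mul_one]

theorem Setup.lift1 (S : Setup σ L1 L2 H1 H2) {a : G} (ha : a ∈ H1) : ∃ l ∈ L1, σ l = a := by
  rw [← S.h1] at ha
  obtain ⟨l, hl, e⟩ := ha
  exact ⟨l, hl, e⟩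

theorem Setup.lift2 (S : Setup σ L1 L2 H1 H2) {b : G} (hb : b ∈ H2) : ∃ l ∈ L2, σ l = b := by
  rw [← S.h2] at hb
  obtain ⟨l, hl, e⟩ := hb
  exact ⟨l, hl, e⟩

theorem Setup.map1 (S : Setup σ L1 L2 H1 H2) {l : Γ} (hl : l ∈ L1) : σ l ∈ H1 := by
  rw [← S.h1]; exact ⟨l, hl, rfl⟩

theorem Setup.map2 (S : Setup σ L1 L2 H1 H2) {l : Γ} (hl : l ∈ L2) : σ l ∈ H2 := by
  rw [← S.h2]; exact ⟨l, hl, rfl⟩

theorem Setup.central (S : Setup σ L1 L2 H1 H2) {z : Γ} (hz : z ∈ σ.ker) (g : Γ) :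
    g * z = z * g := Subgroup.mem_center_iff.1 (S.hc hz) g

theorem Setup.dec_exists (S : Setup σ L1 L2 H1 H2) (l2 l1 : Γ) :
    ∃ z, Dec σ L1 L2 l2 l1 z := by
  obtain ⟨a, ha, b, hb, hab⟩ := S.hfac (σ (l2 * l1))
  obtain ⟨m1, hm1, e1⟩ := S.lift1 ha
  obtain ⟨m2, hm2, e2⟩ := S.lift2 hb
  refine ⟨(m1 * m2)⁻¹ * (l2 * l1), m1, hm1, m2, hm2, by group, ?_⟩
  rw [MonoidHom.mem_ker, map_mul, map_inv, hab, map_mul, e1, e2, inv_mul_cancel]

theorem Setup.dec_unique (S : Setup σ L1 L2 H1 H2) {l2 l1 z z' : Γ}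
    (h : Dec σ L1 L2 l2 l1 z) (h' : Dec σ L1 L2 l2 l1 z') : z = z' := by
  obtain ⟨m1, hm1, m2, hm2, e, hz⟩ := h
  obtain ⟨n1, hn1, n2, hn2, e', hz'⟩ := h'
  -- `n1⁻¹ * m1` lies in both lifts
  have hσ : σ (n1⁻¹ * m1) = σ (n2 * m2⁻¹) := by
    have := congrArg σ (e.symm.trans e')
    simp only [map_mul, MonoidHom.mem_ker.1 hz, MonoidHom.mem_ker.1 hz', mul_one] at this
    simp only [map_mul, map_inv]
    calc (σ n1)⁻¹ * σ m1 = (σ n1)⁻¹ * (σ m1 * σ m2) * (σ m2)⁻¹ := by group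
      _ = (σ n1)⁻¹ * (σ n1 * σ n2) * (σ m2)⁻¹ := by rw [this]
      _ = σ n2 * (σ m2)⁻¹ := by group
  have h12 : n1⁻¹ * m1 ∈ L2 := by
    apply S.c12 _ (L1.mul_mem (L1.inv_mem hn1) hm1)
    rw [hσ]
    exact S.map2 (L2.mul_mem hn2 (L2.inv_mem hm2))
  have heq : n1⁻¹ * m1 = n2 * m2⁻¹ := S.inj2 h12 (L2.mul_mem hn2 (L2.inv_mem hm2)) hσ
  have hm1 : m1 = n1 * (n2 * m2⁻¹) := by rw [← heq]; group
  have : n1 * n2 * z = n1 * n2 * z' := by
    calc n1 * n2 * z = n1 * (n2 * m2⁻¹) * m2 * z := by group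
      _ = m1 * m2 * z := by rw [← hm1]
      _ = n1 * n2 * z' := e.symm.trans e'
  exact mul_left_cancel this

/-- the subgroup generated by the elements `z` -/
def B (σ : Γ →* G) (L1 L2 : Subgroup Γ) : Subgroup Γ :=
  Subgroup.closure {z | ∃ l2 ∈ L2, ∃ l1 ∈ L1, Dec σ L1 L2 l2 l1 z}

theorem Setup.B_le_ker (_S : Setup σ L1 L2 H1 H2) : B σ L1 L2 ≤ σ.ker := by
  unfold B
  rw [Subgroup.closure_le]
  rintro z ⟨l2, _, l1, _, _, _, _, _, _, hz⟩
  exact hz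

/-- the products of an element of `L1`, an element of `L2` and an element of `B` -/
def SS (σ : Γ →* G) (L1 L2 : Subgroup Γ) (S : Setup σ L1 L2 H1 H2) : Subgroup Γ where
  carrier := {γ | ∃ m1 ∈ L1, ∃ m2 ∈ L2, ∃ b ∈ B σ L1 L2, γ = m1 * m2 * b}
  mul_mem' := by
    rintro _ _ ⟨m1, hm1, m2, hm2, b, hb, rfl⟩ ⟨n1, hn1, n2, hn2, b', hb', rfl⟩
    obtain ⟨z, hz⟩ := S.dec_exists m2 n1
    have hzB : z ∈ B σ L1 L2 := Subgroup.subset_closure ⟨m2, hm2, n1, hn1, hz⟩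
    obtain ⟨p1, hp1, p2, hp2, e, hzk⟩ := hz
    refine ⟨m1 * p1, L1.mul_mem hm1 hp1, p2 * n2, L2.mul_mem hp2 hn2, z * b * b',
      (B σ L1 L2).mul_mem ((B σ L1 L2).mul_mem hzB hb) hb', ?_⟩
    have cb := S.central (S.B_le_ker hb)
    have cz := S.central hzk
    calc m1 * m2 * b * (n1 * n2 * b') = m1 * m2 * (b * (n1 * n2)) * b' := by group
      _ = m1 * m2 * ((n1 * n2) * b) * b' := by rw [← cb]
      _ = m1 * (m2 * n1) * n2 * b * b' := by group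
      _ = m1 * (p1 * p2 * z) * n2 * b * b' := by rw [e]
      _ = m1 * p1 * p2 * (z * n2) * b * b' := by group
      _ = m1 * p1 * p2 * (n2 * z) * b * b' := by rw [cz]
      _ = m1 * p1 * (p2 * n2) * (z * b * b') := by group
  one_mem' := ⟨1, L1.one_mem, 1, L2.one_mem, 1, (B σ L1 L2).one_mem, by group⟩
  inv_mem' := by
    rintro _ ⟨m1, hm1, m2, hm2, b, hb, rfl⟩
    obtain ⟨z, hz⟩ := S.dec_exists m2⁻¹ m1⁻¹
    have hzB : z ∈ B σ L1 L2 :=
      Subgroup.subset_closure ⟨m2⁻¹, L2.inv_mem hm2, m1⁻¹, L1.inv_mem hm1, hz⟩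
    obtain ⟨p1, hp1, p2, hp2, e, hzk⟩ := hz
    refine ⟨p1, hp1, p2, hp2, z * b⁻¹, (B σ L1 L2).mul_mem hzB ((B σ L1 L2).inv_mem hb), ?_⟩
    have cb := S.central (S.B_le_ker ((B σ L1 L2).inv_mem hb))
    calc (m1 * m2 * b)⁻¹ = b⁻¹ * (m2⁻¹ * m1⁻¹) := by group
      _ = (m2⁻¹ * m1⁻¹) * b⁻¹ := by rw [cb]
      _ = p1 * p2 * z * b⁻¹ := by rw [e]
      _ = p1 * p2 * (z * b⁻¹) := by group

/-- the kernel of a stem extension is generated by the elements `z` -/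
theorem Setup.ker_le_B (S : Setup σ L1 L2 H1 H2) (hcomm : σ.ker ≤ _root_.commutator Γ) :
    σ.ker ≤ B σ L1 L2 := by
  -- every element is an element of `SS` times an element of the kernel
  have hdec : ∀ γ : Γ, ∃ s ∈ SS σ L1 L2 S, ∃ k ∈ Subgroup.center Γ, γ = s * k := by
    intro γ
    obtain ⟨a, ha, b, hb, hab⟩ := S.hfac (σ γ)
    obtain ⟨m1, hm1, e1⟩ := S.lift1 ha
    obtain ⟨m2, hm2, e2⟩ := S.lift2 hb
    refine ⟨m1 * m2, ⟨m1, hm1, m2, hm2, 1, (B σ L1 L2).one_mem, by group⟩, (m1 * m2)⁻¹ * γ,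
      S.hc ?_, by group⟩
    rw [MonoidHom.mem_ker, map_mul, map_inv, hab, map_mul, e1, e2, inv_mul_cancel]
  have hcs : _root_.commutator Γ ≤ SS σ L1 L2 S := by
    rw [commutator_def, Subgroup.commutator_le]
    intro x _ y _
    obtain ⟨s, hs, k, hk, rfl⟩ := hdec x
    obtain ⟨t, ht, k', hk', rfl⟩ := hdec y
    rw [commutatorElement_mul_central_left _ _ _ hk, commutatorElement_mul_central_right _ _ _ hk']
    exact (SS σ L1 L2 S).mul_mem ((SS σ L1 L2 S).mul_mem ((SS σ L1 L2 S).mul_mem hs ht)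
      ((SS σ L1 L2 S).inv_mem hs)) ((SS σ L1 L2 S).inv_mem ht)
  intro k hk
  obtain ⟨m1, hm1, m2, hm2, b, hb, e⟩ := hcs (hcomm hk)
  have hbk : b ∈ σ.ker := S.B_le_ker hb
  have h0 : σ m1 * σ m2 = 1 := by
    have := congrArg σ e
    rw [MonoidHom.mem_ker.1 hk, map_mul, map_mul, MonoidHom.mem_ker.1 hbk, mul_one] at this
    exact this.symm
  have hm1' : m1 ∈ L2 := by
    apply S.c12 m1 hm1
    have : σ m1 = (σ m2)⁻¹ := eq_inv_of_mul_eq_one_left h0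
    rw [this]
    exact H2.inv_mem (S.map2 hm2)
  have : m1 * m2 = 1 := by
    apply S.inj2 (L2.mul_mem hm1' hm2) L2.one_mem
    rw [map_mul, h0, map_one]
  rw [e, this, one_mul]
  exact hb

/-- a subgroup containing the elements `z` contains the kernel of a stem extension -/
theorem Setup.ker_le_of_gens (S : Setup σ L1 L2 H1 H2) (hcomm : σ.ker ≤ _root_.commutator Γ)
    (T : Subgroup Γ) (h : ∀ z, (∃ l2 ∈ L2, ∃ l1 ∈ L1, Dec σ L1 L2 l2 l1 z) → z ∈ T) :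
    σ.ker ≤ T := by
  refine (S.ker_le_B hcomm).trans ?_
  unfold B
  rw [Subgroup.closure_le]
  intro z hz
  exact h z hz

end factor


section pairs

variable {Γ G : Type*} [Group Γ] [Group G] {Ω : Type*} [MulAction G Ω]
variable {σ : Γ →* G} {L1 L2 : Subgroup Γ} {H1 H2 : Subgroup G}

/-- the element `z` attached to a pair of points -/
def Zp (σ : Γ →* G) (L1 L2 : Subgroup Γ) (x y u v : Ω) (z : Γ) : Prop :=
  ∃ l2 ∈ L2, ∃ l1 ∈ L1, (σ l2)⁻¹ • x = u ∧ (σ l1) • y = v ∧ Dec σ L1 L2 l2 l1 z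

variable {x y : Ω}

theorem Setup.zp_unique (S : Setup σ L1 L2 H1 H2) (hx : ∀ g : G, g ∈ H1 ↔ g • x = x)
    (hy : ∀ g : G, g ∈ H2 ↔ g • y = y) {u v : Ω} {z z' : Γ}
    (h : Zp σ L1 L2 x y u v z) (h' : Zp σ L1 L2 x y u v z') : z = z' := by
  obtain ⟨l2, hl2, l1, hl1, eu, ev, hd⟩ := h
  obtain ⟨l2', hl2', l1', hl1', eu', ev', hd'⟩ := h'
  -- `j = l2' * l2⁻¹` and `j' = l1⁻¹ * l1'` lie in both lifts
  have hj : l2' * l2⁻¹ ∈ L1 := by
    apply S.c21 _ (L2.mul_mem hl2' (L2.inv_mem hl2))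
    rw [hx, map_mul, map_inv, mul_smul]
    have : (σ l2)⁻¹ • x = (σ l2')⁻¹ • x := eu.trans eu'.symm
    rw [this, smul_inv_smul]
  have hj' : l1⁻¹ * l1' ∈ L2 := by
    apply S.c12 _ (L1.mul_mem (L1.inv_mem hl1) hl1')
    rw [hy, map_mul, map_inv, mul_smul, ev', ← ev, inv_smul_smul]
  obtain ⟨m1, hm1, m2, hm2, e, hz⟩ := hd
  have hd2 : Dec σ L1 L2 l2' l1' z := by
    refine ⟨l2' * l2⁻¹ * m1, L1.mul_mem hj hm1, m2 * (l1⁻¹ * l1'), L2.mul_mem hm2 hj', ?_, hz⟩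
    have cz := S.central hz
    calc l2' * l1' = l2' * l2⁻¹ * (l2 * l1) * (l1⁻¹ * l1') := by group
      _ = l2' * l2⁻¹ * (m1 * m2 * z) * (l1⁻¹ * l1') := by rw [e]
      _ = l2' * l2⁻¹ * m1 * m2 * (z * (l1⁻¹ * l1')) := by group
      _ = l2' * l2⁻¹ * m1 * m2 * ((l1⁻¹ * l1') * z) := by rw [cz]
      _ = l2' * l2⁻¹ * m1 * (m2 * (l1⁻¹ * l1')) * z := by group
  exact S.dec_unique hd2 hd'

theorem Setup.zp_exists (S : Setup σ L1 L2 H1 H2) {l2 l1 : Γ} (hl2 : l2 ∈ L2) (hl1 : l1 ∈ L1) :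
    ∃ z, Zp σ L1 L2 x y ((σ l2)⁻¹ • x) ((σ l1) • y) z := by
  obtain ⟨z, hz⟩ := S.dec_exists l2 l1
  exact ⟨z, l2, hl2, l1, hl1, rfl, rfl, hz⟩

theorem Setup.zp_mem_ker (_S : Setup σ L1 L2 H1 H2) {u v : Ω} {z : Γ}
    (h : Zp σ L1 L2 x y u v z) : z ∈ σ.ker := by
  obtain ⟨l2, _, l1, _, _, _, _, _, _, _, _, hz⟩ := h
  exact hz

theorem Setup.zp_left_one (S : Setup σ L1 L2 H1 H2) (hx : ∀ g : G, g ∈ H1 ↔ g • x = x)
    {v : Ω} {z : Γ} (h : Zp σ L1 L2 x y x v z) : z = 1 := by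
  obtain ⟨l2, hl2, l1, hl1, eu, ev, hd⟩ := h
  have hl2' : l2 ∈ L1 := by
    apply S.c21 _ hl2
    rw [hx]
    calc σ l2 • x = σ l2 • ((σ l2)⁻¹ • x) := by rw [eu]
      _ = x := smul_inv_smul _ _
  have : Dec σ L1 L2 l2 l1 1 :=
    ⟨l2 * l1, L1.mul_mem hl2' hl1, 1, L2.one_mem, by group, σ.ker.one_mem⟩
  exact S.dec_unique hd this

theorem Setup.zp_right_one (S : Setup σ L1 L2 H1 H2) (hy : ∀ g : G, g ∈ H2 ↔ g • y = y)
    {u : Ω} {z : Γ} (h : Zp σ L1 L2 x y u y z) : z = 1 := by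
  obtain ⟨l2, hl2, l1, hl1, eu, ev, hd⟩ := h
  have hl1' : l1 ∈ L2 := by
    apply S.c12 _ hl1
    rw [hy]
    exact ev
  have : Dec σ L1 L2 l2 l1 1 :=
    ⟨1, L1.one_mem, l2 * l1, L2.mul_mem hl2 hl1', by group, σ.ker.one_mem⟩
  exact S.dec_unique hd this

theorem Setup.zp_conj (S : Setup σ L1 L2 H1 H2) (hx : ∀ g : G, g ∈ H1 ↔ g • x = x)
    (hy : ∀ g : G, g ∈ H2 ↔ g • y = y) {j : G} (hj1 : j ∈ H1) (hj2 : j ∈ H2) {u v : Ω} {z : Γ}
    (h : Zp σ L1 L2 x y u v z) : Zp σ L1 L2 x y (j • u) (j • v) z := by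
  obtain ⟨l2, hl2, l1, hl1, eu, ev, m1, hm1, m2, hm2, e, hz⟩ := h
  obtain ⟨t, ht1, rfl⟩ := S.lift1 hj1
  have ht2 : t ∈ L2 := S.c12 t ht1 hj2
  have hjx : (σ t)⁻¹ • x = x := by
    have := (hx _).1 hj1
    calc (σ t)⁻¹ • x = (σ t)⁻¹ • (σ t • x) := by rw [this]
      _ = x := inv_smul_smul _ _
  have hjy : (σ t)⁻¹ • y = y := by
    have := (hy _).1 hj2
    calc (σ t)⁻¹ • y = (σ t)⁻¹ • (σ t • y) := by rw [this]
      _ = y := inv_smul_smul _ _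
  refine ⟨t * l2 * t⁻¹, L2.mul_mem (L2.mul_mem ht2 hl2) (L2.inv_mem ht2),
    t * l1 * t⁻¹, L1.mul_mem (L1.mul_mem ht1 hl1) (L1.inv_mem ht1), ?_, ?_,
    t * m1 * t⁻¹, L1.mul_mem (L1.mul_mem ht1 hm1) (L1.inv_mem ht1),
    t * m2 * t⁻¹, L2.mul_mem (L2.mul_mem ht2 hm2) (L2.inv_mem ht2), ?_, hz⟩
  · simp only [map_mul, map_inv, mul_inv_rev, inv_inv, mul_smul]
    rw [hjx, eu]
  · simp only [map_mul, map_inv, mul_smul]
    rw [hjy, ev]
  · have cz := S.central hz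
    calc t * l2 * t⁻¹ * (t * l1 * t⁻¹) = t * (l2 * l1) * t⁻¹ := by group
      _ = t * (m1 * m2 * z) * t⁻¹ := by rw [e]
      _ = t * m1 * m2 * (z * t⁻¹) := by group
      _ = t * m1 * m2 * (t⁻¹ * z) := by rw [cz]
      _ = t * m1 * t⁻¹ * (t * m2 * t⁻¹) * z := by group

theorem Setup.zp_mul (S : Setup σ L1 L2 H1 H2) (hx : ∀ g : G, g ∈ H1 ↔ g • x = x)
    (hy : ∀ g : G, g ∈ H2 ↔ g • y = y) {g : G} (hg : g ∈ H1) {u v : Ω} {z1 z2 z3 : Γ}
    (h1 : Zp σ L1 L2 x y u (g • v) z1) (h2 : Zp σ L1 L2 x y u (g • y) z2)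
    (h3 : Zp σ L1 L2 x y (g⁻¹ • u) v z3) : z1 = z2 * z3 := by
  have h1c := h1
  have h3c := h3
  obtain ⟨l2, hl2, _, _, eu, _, _⟩ := h1c
  obtain ⟨_, _, m1, hm1, _, ev, _⟩ := h3c
  obtain ⟨l1, hl1, rfl⟩ := S.lift1 hg
  -- the first product
  obtain ⟨ζ2, hζ2⟩ := S.dec_exists l2 l1
  have e2 : ζ2 = z2 := S.zp_unique hx hy ⟨l2, hl2, l1, hl1, eu, rfl, hζ2⟩ h2
  obtain ⟨n1, hn1, n2, hn2, en, hζ2k⟩ := hζ2
  -- the second product
  obtain ⟨ζ3, hζ3⟩ := S.dec_exists n2 m1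
  have hn2x : (σ n2)⁻¹ • x = (σ l1)⁻¹ • u := by
    have hσ : σ l2 * σ l1 = σ n1 * σ n2 := by
      have := congrArg σ en
      simpa only [map_mul, MonoidHom.mem_ker.1 hζ2k, mul_one] using this
    have hinv : (σ n2)⁻¹ = (σ l1)⁻¹ * (σ l2)⁻¹ * σ n1 := by
      calc (σ n2)⁻¹ = (σ l1)⁻¹ * (σ l2)⁻¹ * (σ l2 * σ l1) * (σ n2)⁻¹ := by group
        _ = (σ l1)⁻¹ * (σ l2)⁻¹ * (σ n1 * σ n2) * (σ n2)⁻¹ := by rw [hσ]
        _ = (σ l1)⁻¹ * (σ l2)⁻¹ * σ n1 := by group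
    rw [hinv, mul_smul, mul_smul, (hx _).1 (S.map1 hn1), eu]
  have e3 : ζ3 = z3 := S.zp_unique hx hy ⟨n2, hn2, m1, hm1, hn2x, ev, hζ3⟩ h3
  obtain ⟨p1, hp1, p2, hp2, ep, hζ3k⟩ := hζ3
  -- the product of the three
  have hd : Dec σ L1 L2 l2 (l1 * m1) (ζ2 * ζ3) := by
    refine ⟨n1 * p1, L1.mul_mem hn1 hp1, p2, hp2, ?_, σ.ker.mul_mem hζ2k hζ3k⟩
    have c2 := S.central hζ2k
    calc l2 * (l1 * m1) = l2 * l1 * m1 := by group
      _ = n1 * n2 * ζ2 * m1 := by rw [en]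
      _ = n1 * n2 * (ζ2 * m1) := by group
      _ = n1 * n2 * (m1 * ζ2) := by rw [c2]
      _ = n1 * (n2 * m1) * ζ2 := by group
      _ = n1 * (p1 * p2 * ζ3) * ζ2 := by rw [ep]
      _ = n1 * p1 * p2 * (ζ3 * ζ2) := by group
      _ = n1 * p1 * p2 * (ζ2 * ζ3) := by rw [S.central hζ2k ζ3]
  have h1' : Zp σ L1 L2 x y u (σ l1 • v) (ζ2 * ζ3) := by
    refine ⟨l2, hl2, l1 * m1, L1.mul_mem hl1 hm1, eu, ?_, hd⟩
    rw [map_mul, mul_smul, ev]
  rw [← e2, ← e3]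
  exact (S.zp_unique hx hy h1' h1).symm

end pairs

end Cfsg.Agent.Lib.Helper27_StemFactor
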