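import Mathlib
import Cfsg.Prelude.Def_KGroupFacts
import Cfsg.Agent.S0388
import Cfsg.Agent.S5620
import Cfsg.Agent.S2034
import Cfsg.Agent.Lib.Helper27_OutM11
import Cfsg.Agent.Lib.Helper27_OutM12
import Cfsg.Agent.Lib.Lead_StemLocal
import Cfsg.Agent.Lib.Helper66_Stem
import Cfsg.Agent.Lib.Helper27_StemFactor
import Cfsg.Agent.Lib.Helper27_M12Cover

/-!
The Schur multiplier of the Mathieu group of degree twelve is cyclic of order two
(`multiplier_M12`).

The group is the product of the stabiliser `H1` of a point of the dodecad and the stabiliser `H2`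
of a point of the complementary dodecad; both are Mathieu groups of degree eleven, simple with
trivial multiplier, and their intersection is perfect (its commutator subgroup has elements of
orders 11, 5, 3 and a four-group, and its order is at most 660).  So in a stem extension both lift,
the lifts agree above the intersection, and the kernel is generated by elements attached to the
pairs of a point of each dodecad (`Helper27_StemFactor`); there are two orbits of the intersection
on the pairs away from the two base points, and two instances of the multiplicativity give that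
the element of one orbit is trivial and that of the other has square one.
-/

set_option autoImplicit false
open scoped Pointwise
open Cfsg
open scoped commutatorElement
open Cfsg.Agent.Lib.Helper26_Golay
open Cfsg.Agent.Lib.Helper27_EnumGroup
open Cfsg.Agent.Lib.Helper27_OutM12
open Cfsg.Agent.Lib.Helper27_StemFactor

namespace Cfsg.Agent.Lib.Helper27_M12Mult

/-! ### Generalities -/

/-- a simple subgroup with two elements that do not commute is perfect -/
theorem perfect_of_simple {G : Type*} [Group G] (H : Subgroup G) [IsSimpleGroup ↥H] (a b : G)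
    (ha : a ∈ H) (hb : b ∈ H) (hab : a * b ≠ b * a) : H ≤ ⁅H, H⁆ := by
  have hn : (_root_.commutator ↥H).Normal := inferInstance
  rcases hn.eq_bot_or_eq_top with h | h
  · exfalso
    apply hab
    have : ⁅(⟨a, ha⟩ : ↥H), ⟨b, hb⟩⁆ ∈ _root_.commutator ↥H := by
      rw [commutator_def]
      exact Subgroup.commutator_mem_commutator (Subgroup.mem_top _) (Subgroup.mem_top _)
    rw [h, Subgroup.mem_bot, commutatorElement_eq_one_iff_mul_comm] at this
    exact congrArg Subtype.val this
  · rw [← Subgroup.map_subtype_commutator, h]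
    intro x hx
    exact ⟨⟨x, hx⟩, Subgroup.mem_top _, rfl⟩

/-- the stem extensions of a group isomorphic to one with trivial Schur multiplier are trivial -/
theorem ker_eq_bot_of_iso {H M : Type} [Group H] [Group M] (e : H ≃* M)
    (hM : HasCyclicSchurMultiplier M 1) (Γ' : Type) [Group Γ'] [Finite Γ'] (τ : Γ' →* H)
    (hτ : IsStemExtension τ) : τ.ker = ⊥ := by
  have hker : (e.toMonoidHom.comp τ).ker = τ.ker := by
    ext k
    rw [MonoidHom.mem_ker, MonoidHom.mem_ker, MonoidHom.comp_apply]
    constructor
    · intro h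
      exact e.injective (by rw [MulEquiv.coe_toMonoidHom] at h; rw [h, map_one])
    · intro h
      rw [h, map_one]
  have hstem : IsStemExtension (e.toMonoidHom.comp τ) := by
    refine ⟨e.surjective.comp hτ.1, ?_, ?_⟩
    · rw [hker]; exact hτ.2.1
    · rw [hker]; exact hτ.2.2
  obtain ⟨π, hπ⟩ := hM.2 Γ' (e.toMonoidHom.comp τ) hstem
  rw [eq_bot_iff]
  intro k hk
  rw [← hker] at hk
  obtain ⟨m, hm⟩ := hπ ⟨k, hk⟩
  have hm1 : m = 1 := Subsingleton.elim _ _
  rw [hm1, map_one] at hm
  rw [Subgroup.mem_bot]
  exact (congrArg Subtype.val hm).symm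

/-! ### The two subgroups -/

/-- the stabiliser of the residue 0 -/
def H1 : Subgroup ↥Spor.M12 := MulAction.stabilizer ↥Spor.M12 (some 0 : GolayPt)

/-- the stabiliser of the extra point -/
def H2 : Subgroup ↥Spor.M12 := MulAction.stabilizer ↥Spor.M12 (none : GolayPt)

theorem mem_H1 (g : ↥Spor.M12) : g ∈ H1 ↔ g • (some 0 : GolayPt) = some 0 :=
  MulAction.mem_stabilizer_iff

theorem mem_H2 (g : ↥Spor.M12) : g ∈ H2 ↔ g • (none : GolayPt) = none :=
  MulAction.mem_stabilizer_iff

/-- the first subgroup is the Mathieu group of degree eleven -/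
def isoH1 : ↥H1 ≃* ↥Spor.M11 where
  toFun k := ⟨k.1.1, ⟨k.1.2, k.2⟩⟩
  invFun h := ⟨⟨h.1, h.2.1⟩, h.2.2⟩
  left_inv _ := rfl
  right_inv _ := rfl
  map_mul' _ _ := rfl

/-- the second subgroup, as a group of permutations -/
def isoH2' : ↥H2 ≃* ↥(Spor.M12 ⊓ MulAction.stabilizer (Equiv.Perm GolayPt) (none : GolayPt)) where
  toFun k := ⟨k.1.1, ⟨k.1.2, k.2⟩⟩
  invFun h := ⟨⟨h.1, h.2.1⟩, h.2.2⟩
  left_inv _ := rfl
  right_inv _ := rfl
  map_mul' _ _ := rfl

theorem triv_H1 (Γ' : Type) [Group Γ'] [Finite Γ'] (τ : Γ' →* ↥H1) (hτ : IsStemExtension τ) :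
    τ.ker = ⊥ :=
  ker_eq_bot_of_iso isoH1 Cfsg.Agent.S2034.result Γ' τ hτ

theorem triv_H2 (Γ' : Type) [Group Γ'] [Finite Γ'] (τ : Γ' →* ↥H2) (hτ : IsStemExtension τ) :
    τ.ker = ⊥ := by
  obtain ⟨e⟩ := Cfsg.Agent.S5620.result.1
  exact ker_eq_bot_of_iso (isoH2'.trans e) Cfsg.Agent.S2034.result Γ' τ hτ

/-- the stabilisers in the group of the code, as in the statements on simplicity -/
def isoS1 : ↥(MulAction.stabilizer M24 D ⊓ MulAction.stabilizer M24 (some 0 : GolayPt)) ≃* ↥H1 where
  toFun k := ⟨⟨k.1.1, mem_M12.2 ⟨k.1.2, MulAction.mem_stabilizer_iff.1 (Subgroup.mem_inf.1 k.2).1⟩⟩,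
    MulAction.mem_stabilizer_iff.1 (Subgroup.mem_inf.1 k.2).2⟩
  invFun h := ⟨⟨h.1.1, (mem_M12.1 h.1.2).1⟩, Subgroup.mem_inf.2
    ⟨MulAction.mem_stabilizer_iff.2 (mem_M12.1 h.1.2).2, h.2⟩⟩
  left_inv _ := rfl
  right_inv _ := rfl
  map_mul' _ _ := rfl

theorem smul_E_iff (g : Equiv.Perm GolayPt) : g • E = E ↔ g • D = D :=
  Cfsg.Agent.S5620.smul_compl_iff g D

/-- the stabilisers in the group of the code, as in the statements on simplicity -/
def isoS2 : ↥(MulAction.stabilizer M24 E ⊓ MulAction.stabilizer M24 (none : GolayPt)) ≃* ↥H2 where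
  toFun k := ⟨⟨k.1.1, mem_M12.2 ⟨k.1.2, (smul_E_iff k.1.1).1
    (MulAction.mem_stabilizer_iff.1 (Subgroup.mem_inf.1 k.2).1)⟩⟩,
    MulAction.mem_stabilizer_iff.1 (Subgroup.mem_inf.1 k.2).2⟩
  invFun h := ⟨⟨h.1.1, (mem_M12.1 h.1.2).1⟩, Subgroup.mem_inf.2
    ⟨MulAction.mem_stabilizer_iff.2 ((smul_E_iff h.1.1).2 (mem_M12.1 h.1.2).2), h.2⟩⟩
  left_inv _ := rfl
  right_inv _ := rfl
  map_mul' _ _ := rfl

instance simple_H1 : IsSimpleGroup ↥H1 := by
  have := Cfsg.Agent.S0388.result D Cfsg.Agent.S5620.D_mem (some 0) Cfsg.Agent.S5620.zero_mem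
  exact isoS1.symm.isSimpleGroup

instance simple_H2 : IsSimpleGroup ↥H2 := by
  have := Cfsg.Agent.S0388.result E Cfsg.Agent.S5620.coD_mem none (by decide)
  exact isoS2.symm.isSimpleGroup


/-! ### The data -/

/-- permutations fixing the residue 0 and carrying the extra point to the points of the complement -/
def RTU : ℕ := 0xbdab49ca307b9ac5a928398a418820b2e8e991437d4cdb9e508b0a940820abacb50e708dd2da3c922a0ec30820a56f6510b28ada874d867a4e3808209be27b25d0ba9122d4c4a3163688200000000000000000000000000000008a9e5ab6d074cc83dc69592926082000000000000000000000000000000079551bc1cc59cc39d488a26cd90820752cb3a4a455cd0acdac7ca28188200000000000000000000000000000000000000000000000000000000000005ddd59a4e87d186b4483534b28082054665712f0abe433d90c5b686488200000000000000000000000000000000000000000000000000000000000003a8afa36e474d898da485c2a3308200000000000000000000000000000002ce27bb6b25a9267d20c70ec440820000000000000000000000000000000000000000000000000000000000000000000000000000000000000000000000000000000000000000000000000000000000000000000000000000000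

/-- a permutation fixing the extra point and carrying the residue 1 to the residue 0 -/
def S1T : ℕ := 0xbbd4e298e88d5a3a5a429856923010

/-- a permutation fixing the extra point and carrying the residue 2 to the residue 0 -/
def S2T : ℕ := 0xbd2675b4a373d81b29048a6a690050

/-- a permutation fixing the residues 0, 1, 2, carrying 5 to 21 and the extra point to 7 -/
def G1T : ℕ := 0x3a8afa36e474d898da485c2a330820

/-- permutations fixing the two points and carrying a pair of points to one of two pairs -/
def JTU : ℕ := 0xb95cf5866ca2870b54c28a0f24b480bbcae88689aa902b4c643996c93600bcdc588684aad033bc49b31466ca00bcdd4384b07a90c8d5a9b0d7211880000000000000000000000000000000bcdd4384b07a90c8d5a9b0d7211880000000000000000000000000000000bbeae5066d2c5923d083b196812600bcdf4506a671e42b152d88d6864080000000000000000000000000000000000000000000000000000000000000bcdc588684aad033bc49b31466ca00bcdf4506a671e42b152d88d6864080000000000000000000000000000000000000000000000000000000000000bbcae88689aa902b4c643996c93600000000000000000000000000000000b95cf5866ca2870b54c28a0f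24b480000000000000000000000000000000000000000000000000000000000000000000000000000000000000000000000000000000000000000000000000000000000000000000000000000000000000000000000000000000000000000000000000000000000000000000000000000000000000000000000000000000000000000000000000000000000000000000000000000000000000000000000000000000000000000000000000000000000000000000000000000000000000000000000000000000000000000000000000000000000000000000000000000000000000000000000000000000000000000000000000000000000000000000000000000000000000000000000000000000000000000000000000000000000000000000000000000000000000000000000000000000000000000000000000000000000000000000000000000000000000000000000000000000000000000000000000000000000000000000000000000000000000000000000000000000000000000000000000000000000000000000000000000000000000000000000000000000000000000000000000000000000000000000000000000000000000000000000000000000000000b9dcb891e1514689d1a6b32a914a00bd8aa8a6615b8487d24c39aa41b600bd9e7518a15d0529d58888dcd4c080bc5ca3c2a15d18899452b0de969880000000000000000000000000000000bd9e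7518a15d0529d58888dcd4c080000000000000000000000000000000bd9ca5b2a13be032cd328a28233480b9dcb891e1514689d1a6b32a914a00000000000000000000000000000000000000000000000000000000000000bd9ca5b2a13be032cd328a28233480bc5ca3c2a15d18899452b0de969880000000000000000000000000000000000000000000000000000000000000bd8aa8a6615b8487d24c39aa41b600000000000000000000000000000000b9eb1536815ba4c7cc48b18a32260000000000000000000000000000000000000000000000000000000000000000000000000000000000000000000000000000000000000000000000000000000000000000000000000000000000000000000000000000000000000000000000000000000000000000000000000000000000000000000000000000000000000000000000000000000000000000000000000000000000000000000000000000000000000000000000000000000000000000000000000000000000000000000000000000000000000000000000000000000000000000000000000000000000000000000000000000000000000000000000000000000000000000000000000000000000000000000000000000000000000000000000000000000000000000000000000000000000000000000000000000000000000000000000000000000000000000000000000000000000000000000000000000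0000000000000000000000000000000000000000000000000000000000000000000000000000000000000000000000000000000000000000000000000000000000000000000000000000000000000000000000000000000000000000000000000000000000000000000000000000000000000000000000000000000000000000000000000000000000000000000000000000000000000000000000000000000000000000000000000000000000000000000000000000000000000000000000000000000000000000000000000000000000000000000000000000000000000000000000000000000000000000000000000000000000000000000000000000000000000000000000000000000000000000000000000000000000000000000000000000000000000000000000000000000000000000000000000000000000000000000000000000000000000000000000000000000000000000000000000000000000000000000000000000000000000000000000000000000000000000000000000000000000000000000000000000000000000000000000000000000000000000000000000000000000000000000000000000000000000000000000000000000000000000000000000000000000000000000000000000000000b9caeaa2898ac269d984789436ca00b9caeaa2898ac269d984789436ca00bd9c5aa2848a82c79cc998d6293600b9dd52b263544287d8cda117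212600000000000000000000000000000000bc68e7a0a93a8329d870ab56c11880000000000000000000000000000000bc68e7a0a93a8329d870ab56c11880bda8f74aad51c289c4662a56264080000000000000000000000000000000000000000000000000000000000000bd9eea0e625a8322c50ca98f04b480bd9c5aa2848a82c79cc998d6293600000000000000000000000000000000000000000000000000000000000000bda8f74aad51c289c4662a56264080000000000000000000000000000000bd9eea0e625a8322c50ca98f04b480000000000000000000000000000000000000000000000000000000000000000000000000000000000000000000000000000000000000000000000000000000000000000000000000000000000000000000000000000000000000b95eaa0a233ba41b4d30a996c43480bccabaa6c8538c13d1a378a2464a00bce87736325bd01b55822a5461c080bbdd128ecc5d5013cc52a114d32600000000000000000000000000000000bbdcaa90e859581b524298e2933600000000000000000000000000000000b95eaa0a233ba41b4d30a996c43480bbdcaa90e859581b524298e2933600000000000000000000000000000000000000000000000000000000000000bccabaa6c8538c13d1a378a2464a00bce8a7a6c85ba418944cab4f019880000000000000000000000000000000000000000000000000000000000000bce8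7736325bd01b55822a5461c080000000000000000000000000000000bce8a7a6c85ba418944cab4f01988000000000000000000000000000000000000000000000000000000000000000000000000000000000000000000000000000000000000000000000000000000000000000000000000000000000000000000000000000000000000000000000000000000000000000000000000000000000000000000000000000000000000000000000000000000000000000000000000000000000000000000000000000000000000000000000000000000000000000000000000000000000000000000000000000000000000000000000000000000000000000000000000000000000000000000000000000000000000000000000000000000000000000000000000000000000000000000000000000000000000000000000000000000000000000000000000000000000000000000000000000000000000000000000000000000000000000000000000000000000000000000000000000000000000000000000000000000000000000000000000000000000000000000000000000000000000000000000000000000000000000000000000000000000000000000000000000000000000000000000000000000000000000000000000000000000000000000000000000000000000000000000000000000000000000000000000000000000000000000000000000000000000000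0000000000000000000000000000000000000000000000000000000000000000000000000000000000000000000000000000000000000000000000000000000000000000000000000000000000000000000000000000000000000000000000000000000000000000000000000000000000000000000000000000000000000000000000000000000000000000000000000000000000000000000000000000000000000000000000000000000000000000000000000000000000000000000000000000000000000000000000000000000000000000000000000000000000000000000000000000000000000000000000000000000000000000000000000000000000000000000000000000000000000000000000000000000000000000000000000000000000000000000000000000000000000000000000000000000000000000000000b95547a6cc59e42acc288c1cd30c80bd4f4736225a90c2cc32b19e980c80bd165aa6c3544cd7cc28391c293200bcd752b4e48a8c97d02cb0dd212200000000000000000000000000000000bcd752b4e48a8c97d02cb0dd212200000000000000000000000000000000bd56f71ac93a870994328b68262080b95547a6cc59e42acc288c1cd30c80000000000000000000000000000000000000000000000000000000000000bd4f4736225a90c2cc32b19e980c80bd56f71ac93a870994328b68262080000000000000000000000000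000000000000000000000000000000000000bbd5574ac98ad849d026388ad1a200000000000000000000000000000000bbd5574ac98ad849d026388ad1a200000000000000000000000000000000000000000000000000000000000000000000000000000000000000000000000000000000000000000000000000000000000000000000000000000000000000000000000000000000000000b954e3c2b25bd82b45019a68333480bccef588a8550cdb4461ab1d24c080bbd4558a6c8b924b1cc1a4aa81b600b954e3c2b25bd82b45019a68333480000000000000000000000000000000bccef588a8550cdb4461ab1d24c080000000000000000000000000000000bcd4e5b2b23d2098d861289e869880bcd6e50de6894893d981a36a814a00000000000000000000000000000000000000000000000000000000000000bcd6e50de6894893d981a36a814a00bbd4558a6c8b924b1cc1a4aa81b600000000000000000000000000000000000000000000000000000000000000bcd4e5b2b23d2098d861289e869880000000000000000000000000000000bbe355ca88539a33d8c1988ac226000000000000000000000000000000000000000000000000000000000000000000000000000000000000000000000000000000000000000000000000000000000000000000000000000000000000000000000000000000000000000000000000000000000000000000000000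00000000000000000000000000000000000000000000000000000000000000000000000000000000000000000000000000000000000000000000000000000000000000000000000000000000000000000000000000000000000000000000000000000000000000000000000000000000000000000000000000000000000000000000000000000000000000000000000000000000000000000000000000000000000000000000000000000000000000000000000000000000000000000000000000000000000000000000000000000000000000000000000000000000000000000000000000000000000000000000000000000000000000000000000000000000000000000000000000000000000000000000000000000000000000000000000000000000000000000000000000000000000000000000000000000000000000000000000000000000000000000000000000000000000000b96875a232729a9ad8c2985ec80c80bd0b1520e672c497da4d986a323200b96875a232729a9ad8c2985ec80c80bd5ea3ca23a2c469d990285c96a080000000000000000000000000000000bbeab898ec2a9b29d864a05c912200000000000000000000000000000000bbeab898ec2a9b29d864a05c912200bd68a5cac879d2d2c60c985c230c80000000000000000000000000000000000000000000000000000000000000bd68a5cac879d2d2c60c985c230c80bceaa8b2c672e4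d79c49a04a41a200000000000000000000000000000000000000000000000000000000000000bd5ea3ca23a2c469d990285c96a080000000000000000000000000000000bceaa8b2c672e4d79c49a04a41a200000000000000000000000000000000000000000000000000000000000000000000000000000000000000000000000000000000000000000000000000000000000000000000000000000000000000000000000000000000000000000000000000000000000000000000000000000000000000000000000000000000000000000000000000000000000000000000000000000000000000000000000000000000000000000000000000000000000000000000000000000000000000000000000000000000000000000000000000000000000000000000000000000000000000000000000000000000000000000000000000000000000000000000000000000000000000000000000000000000000000000000000000000000000000000000000000000000000000000000000000000000000000000000000000000000000000000000000000000000000000000000000000000000000000000000000000000000000000000000000000000000000000000000000000000000000000000000000000000000000000000000000000000000000000000000000000000000000000000000000000000000000000000000000000000000000000000000000000000000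000000b9d6551ac3ab9249bc48a362164a00bd8f45a22273da699532ab1411c080b9d6551ac3ab9249bc48a362164a00bd94f3ca30a384c2d4c39a56143480000000000000000000000000000000bd94e5b0e2a94897cc68a4a2133600000000000000000000000000000000b9e2e5a2d22d46d7d08c9894132600bd94e5b0e2a94897cc68a4a2133600000000000000000000000000000000000000000000000000000000000000bd94f3ca30a384c2d4c39a56143480bd8f45a22273da699532ab1411c080000000000000000000000000000000000000000000000000000000000000bc5545cacc7b9309d5a8288e119880000000000000000000000000000000bc5545cacc7b9309d5a8288e119880000000000000000000000000000000000000000000000000000000000000000000000000000000000000000000000000000000000000000000000000000000000000000000000000000000000000000000000000000000000000b94ea70a6d7d188ac609b197208c80b94ea70a6d7d188ac609b197208c80bd5477b269750522d8cd8c16808c80bbd6a2928d7552699c52b0e2c0a200000000000000000000000000000000bd54ba40a273d329c5a6b30e30a080000000000000000000000000000000bcd4b726922d48c7d86d38a260a200bbd71a8e69715a6a5a42391480b200000000000000000000000000000000000000000000000000000000000000bd54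77b269750522d8cd8c16808c80bbd6a2928d7552699c52b0e2c0a200000000000000000000000000000000000000000000000000000000000000bcd4b726922d48c7d86d38a260a200000000000000000000000000000000bd54ba40a273d329c5a6b30e30a080000000000000000000000000000000000000000000000000000000000000000000000000000000000000000000000000000000000000000000000000000000000000000000000000000000000000000000000000000000000000b9d7173669aa864b5102798b260600bd8ea7b26d72c468d6492a29018480bc54770a697ad90b150daca8618480bd9512c9e4aac493d1039b1cd30600000000000000000000000000000000bc56aa40a671d2db564298dec40480000000000000000000000000000000bd96a7268d2c4833cd9279aa240600bc56aa40a671d2db564298dec40480000000000000000000000000000000000000000000000000000000000000bd96a7268d2c4833cd9279aa240600bc54770a697ad90b150daca8618480000000000000000000000000000000000000000000000000000000000000bd8ea7b26d72c468d6492a29018480000000000000000000000000000000bda2ba8e62729b23bcc9a20a46060000000000000000000000000000000000000000000000000000000000000000000000000000000000000000000000000000000000000000000000000000000000000000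0000000000000000000000000000000000000000000000b9cb5719697d2085598d88a7220c20b9cb5719697d2085598d88a7220c20baaa57c16d750d23c449b326820c20bd9d52b1449d20859cd288ded48820000000000000000000000000000000bda8e7a0ed2d4925c46c5267030820000000000000000000000000000000bda8e7a0ed2d4925c46c5267030820b9eb47b6309964652c88b31c910c20000000000000000000000000000000000000000000000000000000000000ba8b4726c69d5103ac92889ed60c20bd9d52b1449d20859cd288ded48820000000000000000000000000000000000000000000000000000000000000bdab49ca307b9ac5a928398a418820000000000000000000000000000000bdab49ca307b9ac5a928398a418820000000000000000000000000000000000000000000000000000000000000000000000000000000000000000000000000000000000000000000000000000000000000000000000000000000000000000000000000000000000000000000000000000000000000000000000000000000000000000000000000000000000000000000000000000000000000000000000000000000000000000000000000000000000000000000000000000000000000000000000000000000000000000000000000000000000000000000000000000000000000000000000000000000000000000000000000000000000000000000000000000000000000000000000000000000000000000000000000000000000000000000000000000000000000000000000000000000000000000000000000000000000000000000000000000000000000000000000000000000000000000000000000000000000000000000000000000000000000000000000000000000000000000000000000000000000000000000000000000000000000000000000000000000000000000000000000000000000000000000000000000000000000000000000000000000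

/-- which of the two pairs -/
def CLSM : ℕ := 0x848a000000058808000000000000040c42012882000000000000022c080288c000000001a44000000006a00203004a0704800420c80000000

/-- two permutations fixing the two points and their commutator -/
def P11 : ℕ := 0xbb8b3505e6a2c503d5838a2cd24920

/-- two permutations fixing the two points and their commutator -/
def Q11 : ℕ := 0xbd9ca5b2a13be032cd328a28233480

/-- two permutations fixing the two points and their commutator -/
def C11 : ℕ := 0xbcdeb38ed2728c2ac5a92869062080

/-- two permutations fixing the two points and their commutator -/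
def P5 : ℕ := 0xbbaafb068d29e4c8cc6454162424c0

/-- two permutations fixing the two points and their commutator -/
def Q5 : ℕ := 0xbc5e5a88e49d0d25aa08b0dc96b020

/-- two permutations fixing the two points and their commutator -/
def C5 : ℕ := 0xbbe74586ac2d9a33b8928894834120

/-- two permutations fixing the two points and their commutator -/
def P3 : ℕ := 0xbd9512c9e4aac493d1039b1cd30600

/-- two permutations fixing the two points and their commutator -/
def Q3 : ℕ := 0xbd6962c9448b9215bccc9b4e380900

/-- two permutations fixing the two points and their commutator -/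
def C3 : ℕ := 0xbd54f3ca898cc8c5d8c1740a36a040

/-- two permutations fixing the two points and their commutator -/
def PI1 : ℕ := 0xbaa343cac3acd0273c892c161619a0

/-- two permutations fixing the two points and their commutator -/
def QI1 : ℕ := 0xbacf6718a2aa9048bc69a367280580

/-- two permutations fixing the two points and their commutator -/
def CI1 : ℕ := 0xbaab3a30e673db25d9228c0a322020

/-- two permutations fixing the two points and their commutator -/
def PI2 : ℕ := 0xbd9f328dc489c26a2d2cac94d44040

/-- two permutations fixing the two points and their commutator -/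
def QI2 : ℕ := 0xbd0f5b36625958854641711f048cc0

/-- two permutations fixing the two points and their commutator -/
def CI2 : ℕ := 0xbbd73a0e30b29a4ab822398ac92120

/-! ### The checks on tables -/

/-- the table describes an element of the first subgroup -/
def inH1 (T : ℕ) : Bool := inG T && Nat.beq (imgF T 0) 0

/-- the table describes an element of the second subgroup -/
def inH2 (T : ℕ) : Bool := inG T && Nat.beq (imgF T 23) 23

/-- the table describes an element of both subgroups -/
def inJ (T : ℕ) : Bool := inG T && Nat.beq (imgF T 0) 0 && Nat.beq (imgF T 23) 23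

theorem rt_ok : ∀ v < 24, DSc.testBit v = true →
    inH1 (tblAt RTU v) = true ∧ imgF (tblAt RTU v) 23 = v := by
  decide +kernel

theorem sg_ok : inH2 S1T = true ∧ imgF S1T 1 = 0 ∧ inH2 S2T = true ∧ imgF S2T 2 = 0 ∧
    inH1 G1T = true ∧ imgF G1T 5 = 21 ∧ imgF G1T 23 = 7 ∧ imgF G1T 1 = 1 ∧ imgF G1T 2 = 2 := by
  decide +kernel

/-- the check of the table of permutations fixing the two points -/
def jtChk (u v : ℕ) : Bool :=
  !(DS.testBit u) || Nat.beq u 0 || !(DSc.testBit v) || Nat.beq v 23 ||
    (inJ (tblAt JTU (24 * u + v)) && Nat.beq (imgF (tblAt JTU (24 * u + v)) u) 1 &&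
      Nat.beq (imgF (tblAt JTU (24 * u + v)) v) (cond (CLSM.testBit (24 * u + v)) 7 5))

theorem jt_chk : allF (fun u => allF (fun v => jtChk u v) 24) 24 = true := by decide +kernel

theorem jt_ok {u v : ℕ} (hu : u < 24) (hv : v < 24) (hu1 : DS.testBit u = true) (hu0 : u ≠ 0)
    (hv1 : DSc.testBit v = true) (hv0 : v ≠ 23) :
    inJ (tblAt JTU (24 * u + v)) = true ∧ imgF (tblAt JTU (24 * u + v)) u = 1 ∧
    imgF (tblAt JTU (24 * u + v)) v = cond (CLSM.testBit (24 * u + v)) 7 5 := by
  have h := jt_chk
  rw [allF_eq_true] at h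
  have h2 := h u hu
  rw [allF_eq_true] at h2
  have h3 := h2 v hv
  unfold jtChk at h3
  simp only [Bool.or_eq_true, Bool.and_eq_true, Bool.not_eq_true', hu1, hv1] at h3
  rcases h3 with (((h3 | h3) | h3) | h3) | h3
  · exact absurd h3 (by simp)
  · exact absurd (Nat.eq_of_beq_eq_true h3) hu0
  · exact absurd h3 (by simp)
  · exact absurd (Nat.eq_of_beq_eq_true h3) hv0
  · exact ⟨h3.1.1, Nat.eq_of_beq_eq_true h3.1.2, Nat.eq_of_beq_eq_true h3.2⟩

theorem cls_ok : CLSM.testBit (24 * 1 + 21) = false ∧ CLSM.testBit (24 * 1 + 7) = true ∧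
    CLSM.testBit (24 * 1 + 5) = false ∧ CLSM.testBit (24 * 2 + 21) = true ∧
    CLSM.testBit (24 * 2 + 7) = false ∧ CLSM.testBit (24 * 2 + 5) = false := by
  decide +kernel

/-- the check of a commutator -/
def commOK (P Q C : ℕ) : Bool :=
  inJ P && inJ Q && all24 (fun i => Nat.beq (imgF C (imgF Q (imgF P i))) (imgF P (imgF Q i)))

theorem perf_ok : commOK P11 Q11 C11 = true ∧ commOK P5 Q5 C5 = true ∧ commOK P3 Q3 C3 = true ∧
    commOK PI1 QI1 CI1 = true ∧ commOK PI2 QI2 CI2 = true ∧
    (∀ i < 24, iterN (imgF C11) 11 i = i) ∧ imgF C11 1 ≠ 1 ∧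
    (∀ i < 24, iterN (imgF C5) 5 i = i) ∧ (∃ i < 24, imgF C5 i ≠ i) ∧
    (∀ i < 24, iterN (imgF C3) 3 i = i) ∧ (∃ i < 24, imgF C3 i ≠ i) ∧
    (∀ i < 24, iterN (imgF CI1) 2 i = i) ∧ (∃ i < 24, imgF CI1 i ≠ i) ∧
    (∀ i < 24, iterN (imgF CI2) 2 i = i) ∧ (∃ i < 24, imgF CI2 i ≠ i) ∧
    (∀ i < 24, imgF CI1 (imgF CI2 i) = imgF CI2 (imgF CI1 i)) ∧ (∃ i < 24, imgF CI1 i ≠ imgF CI2 i) := by
  decide +kernel


/-! ### Elements of the group from their tables -/

/-- the element of the group described by a table -/
noncomputable def elt (T : ℕ) (h : inG T = true) : ↥Spor.M12 :=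
  ⟨Classical.choose (exists_of_inG h), (Classical.choose_spec (exists_of_inG h)).1⟩

theorem rep_elt (T : ℕ) (h : inG T = true) : RepF (elt T h).1 (imgF T) :=
  (Classical.choose_spec (exists_of_inG h)).2

theorem idx_smul (g : ↥Spor.M12) {F : ℕ → ℕ} (hg : RepF g.1 F) (p : GolayPt) :
    idx (g • p) = F (idx p) := hg p

theorem idx_x0 : idx (some 0 : GolayPt) = 0 := by decide

theorem idx_y0 : idx (none : GolayPt) = 23 := rfl

theorem mem_H1_of_rep (g : ↥Spor.M12) {F : ℕ → ℕ} (hg : RepF g.1 F) (h0 : F 0 = 0) : g ∈ H1 := by
  rw [mem_H1]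
  apply idx_injective
  rw [idx_smul g hg, idx_x0, h0]

theorem mem_H2_of_rep (g : ↥Spor.M12) {F : ℕ → ℕ} (hg : RepF g.1 F) (h0 : F 23 = 23) :
    g ∈ H2 := by
  rw [mem_H2]
  apply idx_injective
  rw [idx_smul g hg, idx_y0, h0]

theorem inH1_elim {T : ℕ} (h : inH1 T = true) : inG T = true ∧ imgF T 0 = 0 := by
  unfold inH1 at h
  rw [Bool.and_eq_true] at h
  exact ⟨h.1, Nat.eq_of_beq_eq_true h.2⟩

theorem inH2_elim {T : ℕ} (h : inH2 T = true) : inG T = true ∧ imgF T 23 = 23 := by
  unfold inH2 at h
  rw [Bool.and_eq_true] at h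
  exact ⟨h.1, Nat.eq_of_beq_eq_true h.2⟩

theorem inJ_elim {T : ℕ} (h : inJ T = true) : inG T = true ∧ imgF T 0 = 0 ∧ imgF T 23 = 23 := by
  unfold inJ at h
  rw [Bool.and_eq_true, Bool.and_eq_true] at h
  exact ⟨h.1.1, Nat.eq_of_beq_eq_true h.1.2, Nat.eq_of_beq_eq_true h.2⟩

theorem smul_mem_D (g : ↥Spor.M12) {p : GolayPt} (hp : p ∈ D) : g • p ∈ D := by
  have h := (mem_M12.1 g.2).2
  have h2 : g.1 • p ∈ g.1 • D := Finset.smul_mem_smul_finset hp
  rw [h] at h2
  exact h2

theorem smul_mem_E (g : ↥Spor.M12) {p : GolayPt} (hp : p ∈ E) : g • p ∈ E := by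
  have h := smul_E (mem_M12.1 g.2).2
  have h2 : g.1 • p ∈ g.1 • E := Finset.smul_mem_smul_finset hp
  rw [h] at h2
  exact h2

theorem bit_of_mem_D {p : GolayPt} (hp : p ∈ D) : DS.testBit (idx p) = true := by
  rw [← enc_D, testBit_enc_idx]; exact hp

theorem bit_of_mem_E {p : GolayPt} (hp : p ∈ E) : DSc.testBit (idx p) = true := by
  rw [← enc_E, testBit_enc_idx]; exact hp

theorem x0_mem_D : (some 0 : GolayPt) ∈ D := Cfsg.Agent.S5620.zero_mem

theorem y0_mem_E : (none : GolayPt) ∈ E := by decide

/-! ### The factorisation -/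

theorem hfac (g : ↥Spor.M12) : ∃ a ∈ H1, ∃ b ∈ H2, g = a * b := by
  have hv : g • (none : GolayPt) ∈ E := smul_mem_E g y0_mem_E
  obtain ⟨h1, h2⟩ := rt_ok _ (idx_lt _) (bit_of_mem_E hv)
  obtain ⟨hG, h0⟩ := inH1_elim h1
  have ha : elt _ hG ∈ H1 := mem_H1_of_rep _ (rep_elt _ hG) h0
  have hav : elt _ hG • (none : GolayPt) = g • (none : GolayPt) := by
    apply idx_injective
    rw [idx_smul _ (rep_elt _ hG), idx_y0]
    exact h2
  refine ⟨elt _ hG, ha, (elt _ hG)⁻¹ * g, ?_, by group⟩
  rw [mem_H2, mul_smul, inv_smul_eq_iff]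
  exact hav.symm

/-! ### The two subgroups are perfect -/

theorem nc_ok : (∃ i < 24, imgF (tblAt RTU 5) (imgF (tblAt RTU 7) i) ≠
      imgF (tblAt RTU 7) (imgF (tblAt RTU 5) i)) ∧
    (∃ i < 24, imgF S1T (imgF S2T i) ≠ imgF S2T (imgF S1T i)) := by
  decide +kernel

theorem ne_comm_of_rep {a b : ↥Spor.M12} {F K : ℕ → ℕ} (ha : RepF a.1 F) (hb : RepF b.1 K)
    (h : ∃ i < 24, F (K i) ≠ K (F i)) : a * b ≠ b * a := by
  intro e
  obtain ⟨i, hi, hne⟩ := h
  exact hne (repF_apply_eq (repF_mul ha hb) (repF_mul hb ha) (congrArg Subtype.val e) i hi)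

theorem perfect_H1 : H1 ≤ ⁅H1, H1⁆ := by
  obtain ⟨h5, _⟩ := rt_ok 5 (by norm_num) (by decide)
  obtain ⟨h7, _⟩ := rt_ok 7 (by norm_num) (by decide)
  obtain ⟨hG5, h50⟩ := inH1_elim h5
  obtain ⟨hG7, h70⟩ := inH1_elim h7
  exact perfect_of_simple H1 (elt _ hG5) (elt _ hG7) (mem_H1_of_rep _ (rep_elt _ hG5) h50)
    (mem_H1_of_rep _ (rep_elt _ hG7) h70) (ne_comm_of_rep (rep_elt _ hG5) (rep_elt _ hG7) nc_ok.1)

theorem perfect_H2 : H2 ≤ ⁅H2, H2⁆ := by
  obtain ⟨h1, _, h2, _⟩ := sg_ok
  obtain ⟨hG1, h10⟩ := inH2_elim h1
  obtain ⟨hG2, h20⟩ := inH2_elim h2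
  exact perfect_of_simple H2 (elt _ hG1) (elt _ hG2) (mem_H2_of_rep _ (rep_elt _ hG1) h10)
    (mem_H2_of_rep _ (rep_elt _ hG2) h20) (ne_comm_of_rep (rep_elt _ hG1) (rep_elt _ hG2) nc_ok.2)


/-! ### The intersection of the two subgroups is perfect -/

theorem card_H1 : Nat.card ↥H1 = 7920 := by
  rw [Nat.card_congr isoH1.toEquiv]
  exact Cfsg.Agent.Lib.Helper27_OutM11.card_M11

theorem card_J_le : Nat.card ↥(H1 ⊓ H2) * 12 ≤ 7920 := by
  have hidx := Subgroup.index_mul_card (MulAction.stabilizer ↥H1 (none : GolayPt))
  rw [MulAction.index_stabilizer, card_H1] at hidx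
  have hcard : Nat.card ↥(MulAction.stabilizer ↥H1 (none : GolayPt)) = Nat.card ↥(H1 ⊓ H2) :=
    Nat.card_congr
      { toFun := fun k => ⟨k.1.1, ⟨k.1.2, k.2⟩⟩
        invFun := fun j => ⟨⟨j.1, j.2.1⟩, j.2.2⟩
        left_inv := fun _ => rfl
        right_inv := fun _ => rfl }
  have horb : 12 ≤ (MulAction.orbit ↥H1 (none : GolayPt)).ncard := by
    have hsub : (↑E : Set GolayPt) ⊆ MulAction.orbit ↥H1 (none : GolayPt) := by
      intro v hv
      obtain ⟨h1, h2⟩ := rt_ok _ (idx_lt v) (bit_of_mem_E hv)
      obtain ⟨hG, h0⟩ := inH1_elim h1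
      refine ⟨⟨elt _ hG, mem_H1_of_rep _ (rep_elt _ hG) h0⟩, ?_⟩
      apply idx_injective
      show idx (elt _ hG • (none : GolayPt)) = idx v
      rw [idx_smul _ (rep_elt _ hG), idx_y0]
      exact h2
    calc 12 = (↑E : Set GolayPt).ncard := by rw [Set.ncard_coe_finset]; decide
      _ ≤ _ := Set.ncard_le_ncard hsub (Set.toFinite _)
  rw [hcard] at hidx
  nlinarith

theorem comm_rep {P Q C : ℕ} (h : commOK P Q C = true) :
    ∃ p ∈ H1 ⊓ H2, ∃ q ∈ H1 ⊓ H2, RepF (⁅p, q⁆ : ↥Spor.M12).1 (imgF C) := by
  unfold commOK at h
  rw [Bool.and_eq_true, Bool.and_eq_true, all24_eq_true] at h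
  obtain ⟨⟨hP, hQ⟩, h3⟩ := h
  obtain ⟨hGP, hP0, hP23⟩ := inJ_elim hP
  obtain ⟨hGQ, hQ0, hQ23⟩ := inJ_elim hQ
  have rP := rep_elt _ hGP
  have rQ := rep_elt _ hGQ
  refine ⟨elt P hGP, ⟨mem_H1_of_rep _ rP hP0, mem_H2_of_rep _ rP hP23⟩,
    elt Q hGQ, ⟨mem_H1_of_rep _ rQ hQ0, mem_H2_of_rep _ rQ hQ23⟩, ?_⟩
  intro r
  have hr : r = (elt Q hGQ).1 ((elt P hGP).1 ((elt P hGP).1⁻¹ ((elt Q hGQ).1⁻¹ r))) := by simp
  have hc : (⁅elt P hGP, elt Q hGQ⁆ : ↥Spor.M12).1 r =
      (elt P hGP).1 ((elt Q hGQ).1 ((elt P hGP).1⁻¹ ((elt Q hGQ).1⁻¹ r))) := by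
    rw [commutatorElement_def]; rfl
  rw [hc]
  generalize (elt P hGP).1⁻¹ ((elt Q hGQ).1⁻¹ r) = s at hr
  rw [rP, rQ, hr, rQ, rP]
  exact (Nat.eq_of_beq_eq_true (h3 (idx s) (idx_lt s))).symm

theorem orderOf_of_rep {c : ↥Spor.M12} {F : ℕ → ℕ} (hc : RepF c.1 F) (p : ℕ) [hp : Fact p.Prime]
    (h1 : ∀ i < 24, iterN F p i = i) (h2 : ∃ i < 24, F i ≠ i) : orderOf c = p := by
  apply orderOf_eq_prime
  · apply Subtype.ext
    exact eq_of_repF (repF_pow hc p) repF_one h1
  · intro h
    obtain ⟨i, hi, hne⟩ := h2
    exact hne (repF_apply_eq hc repF_one (congrArg Subtype.val h) i hi)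

theorem mem_zpowers_of_sq {G : Type*} [Group G] {x y : G} (hx : x ^ 2 = 1)
    (hy : y ∈ Subgroup.zpowers x) : y = 1 ∨ y = x := by
  obtain ⟨k, rfl⟩ := Subgroup.mem_zpowers_iff.1 hy
  have hk : x ^ k = x ^ (k % 2) := by
    conv_lhs => rw [← Int.mul_ediv_add_emod k 2, zpow_add, zpow_mul]
    have : x ^ (2 : ℤ) = 1 := by exact_mod_cast hx
    rw [this, one_zpow, one_mul]
  rcases Int.emod_two_eq_zero_or_one k with h | h
  · left; rw [hk, h, zpow_zero]
  · right; rw [hk, h, zpow_one]

theorem perfect_J : H1 ⊓ H2 ≤ ⁅H1 ⊓ H2, H1 ⊓ H2⁆ := by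
  obtain ⟨k11, k5, k3, ki1, ki2, o11, n11, o5, n5, o3, n3, oi1, ni1, oi2, ni2, hcm, hne⟩ := perf_ok
  obtain ⟨p11, hp11, q11, hq11, r11⟩ := comm_rep k11
  obtain ⟨p5, hp5, q5, hq5, r5⟩ := comm_rep k5
  obtain ⟨p3, hp3, q3, hq3, r3⟩ := comm_rep k3
  obtain ⟨pi1, hpi1, qi1, hqi1, ri1⟩ := comm_rep ki1
  obtain ⟨pi2, hpi2, qi2, hqi2, ri2⟩ := comm_rep ki2
  have : Fact (Nat.Prime 11) := ⟨by norm_num⟩
  have : Fact (Nat.Prime 5) := ⟨by norm_num⟩
  have : Fact (Nat.Prime 3) := ⟨by norm_num⟩
  have : Fact (Nat.Prime 2) := ⟨by norm_num⟩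
  have e11 := orderOf_of_rep r11 11 o11 ⟨1, by norm_num, n11⟩
  have e5 := orderOf_of_rep r5 5 o5 n5
  have e3 := orderOf_of_rep r3 3 o3 n3
  have ei1 := orderOf_of_rep ri1 2 oi1 ni1
  have ei2 := orderOf_of_rep ri2 2 oi2 ni2
  have m11 := Subgroup.commutator_mem_commutator hp11 hq11
  have m5 := Subgroup.commutator_mem_commutator hp5 hq5
  have m3 := Subgroup.commutator_mem_commutator hp3 hq3
  have mi1 := Subgroup.commutator_mem_commutator hpi1 hqi1
  have mi2 := Subgroup.commutator_mem_commutator hpi2 hqi2
  have d11 := Subgroup.orderOf_dvd_natCard _ m11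
  have d5 := Subgroup.orderOf_dvd_natCard _ m5
  have d3 := Subgroup.orderOf_dvd_natCard _ m3
  rw [e11] at d11
  rw [e5] at d5
  rw [e3] at d3
  have d4 : 2 ^ 2 ∣ Nat.card ↥(⁅H1 ⊓ H2, H1 ⊓ H2⁆) := by
    have hx : ⁅pi1, qi1⁆ ^ 2 = 1 := by rw [← ei1]; exact pow_orderOf_eq_one _
    have hy : ⁅pi2, qi2⁆ ^ 2 = 1 := by rw [← ei2]; exact pow_orderOf_eq_one _
    have hx1 : ⁅pi1, qi1⁆ ≠ 1 := by
      intro h
      rw [h, orderOf_one] at ei1
      norm_num at ei1
    have hy1 : ⁅pi2, qi2⁆ ≠ 1 := by
      intro h
      rw [h, orderOf_one] at ei2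
      norm_num at ei2
    have hxy : ⁅pi1, qi1⁆ * ⁅pi2, qi2⁆ = ⁅pi2, qi2⁆ * ⁅pi1, qi1⁆ := by
      apply Subtype.ext
      exact eq_of_repF (repF_mul ri1 ri2) (repF_mul ri2 ri1) hcm
    have hyx : ⁅pi2, qi2⁆ ∉ Subgroup.zpowers ⁅pi1, qi1⁆ := by
      intro h
      rcases mem_zpowers_of_sq hx h with h | h
      · exact hy1 h
      · obtain ⟨i, hi, hne⟩ := hne
        exact hne (repF_apply_eq ri1 ri2 (congrArg Subtype.val h.symm) i hi)
    have h := Cfsg.Agent.Lib.Lead_StemLocal.sq_dvd_card_closure_pair 2 _ _ hx hy hx1 hxy hyx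
    refine h.trans (Subgroup.card_dvd_of_le ?_)
    rw [Subgroup.closure_le]
    rintro _ (rfl | h)
    · exact mi1
    · rw [Set.mem_singleton_iff] at h; subst h; exact mi2
  have hle := Subgroup.commutator_le_self (H1 ⊓ H2)
  have hJ := card_J_le
  have hpos : 0 < Nat.card ↥(⁅H1 ⊓ H2, H1 ⊓ H2⁆) := Nat.card_pos
  have h660 : 660 ≤ Nat.card ↥(⁅H1 ⊓ H2, H1 ⊓ H2⁆) := by omega
  exact (Subgroup.eq_of_le_of_card_ge hle (by omega)).ge


/-! ### The elements attached to the pairs of points -/

theorem pt_zero : pt 0 = (some 0 : GolayPt) := by decide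

theorem pt_last : pt 23 = (none : GolayPt) := by decide

theorem hx0 : ∀ g : ↥Spor.M12, g ∈ H1 ↔ g • pt 0 = pt 0 := by
  rw [pt_zero]; exact mem_H1

theorem hy0 : ∀ g : ↥Spor.M12, g ∈ H2 ↔ g • pt 23 = pt 23 := by
  rw [pt_last]; exact mem_H2

theorem smul_eq_pt (g : ↥Spor.M12) {F : ℕ → ℕ} (hg : RepF g.1 F) (p : GolayPt) {k : ℕ}
    (hk : k < 24) (h : F (idx p) = k) : g • p = pt k := by
  apply idx_injective
  rw [idx_smul g hg, idx_pt k hk, h]

theorem smul_pt (g : ↥Spor.M12) {F : ℕ → ℕ} (hg : RepF g.1 F) {i k : ℕ} (hi : i < 24)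
    (hk : k < 24) (h : F i = k) : g • pt i = pt k := by
  apply smul_eq_pt g hg _ hk
  rw [idx_pt i hi, h]

section main

variable {Γ : Type} [Group Γ] {σ : Γ →* ↥Spor.M12} {L1 L2 : Subgroup Γ}

theorem zp_ex (S : Setup σ L1 L2 H1 H2) {a b : GolayPt} {s r : ↥Spor.M12} (hs : s ∈ H2)
    (hsa : s • a = pt 0) (hr : r ∈ H1) (hrb : r • pt 23 = b) :
    ∃ z, Zp σ L1 L2 (pt 0) (pt 23) a b z := by
  obtain ⟨l2, hl2, rfl⟩ := S.lift2 hs
  obtain ⟨l1, hl1, rfl⟩ := S.lift1 hr
  obtain ⟨z, hz⟩ := S.zp_exists (x := pt 0) (y := pt 23) hl2 hl1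
  refine ⟨z, ?_⟩
  have e : (σ l2)⁻¹ • pt 0 = a := by rw [inv_smul_eq_iff]; exact hsa.symm
  rw [e, hrb] at hz
  exact hz

theorem zp_class (S : Setup σ L1 L2 H1 H2) {u v : GolayPt} {z : Γ}
    (hu : DS.testBit (idx u) = true) (hu0 : idx u ≠ 0) (hv : DSc.testBit (idx v) = true)
    (hv0 : idx v ≠ 23) (h : Zp σ L1 L2 (pt 0) (pt 23) u v z) :
    Zp σ L1 L2 (pt 0) (pt 23) (pt 1) (pt (cond (CLSM.testBit (24 * idx u + idx v)) 7 5)) z := by
  obtain ⟨hJ, e1, e2⟩ := jt_ok (idx_lt u) (idx_lt v) hu hu0 hv hv0
  obtain ⟨hG, h0, h23⟩ := inJ_elim hJ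
  have rj := rep_elt _ hG
  have hj1 := mem_H1_of_rep _ rj h0
  have hj2 := mem_H2_of_rep _ rj h23
  have := S.zp_conj hx0 hy0 hj1 hj2 h
  rw [smul_eq_pt _ rj u (by norm_num) e1, smul_eq_pt _ rj v
    (by cases CLSM.testBit (24 * idx u + idx v) <;> decide) e2] at this
  exact this

theorem zp_class' (S : Setup σ L1 L2 H1 H2) {a b : ℕ} {z : Γ} (ha : a < 24) (hb : b < 24)
    (hu : DS.testBit a = true) (hu0 : a ≠ 0) (hv : DSc.testBit b = true)
    (hv0 : b ≠ 23) (h : Zp σ L1 L2 (pt 0) (pt 23) (pt a) (pt b) z) :
    Zp σ L1 L2 (pt 0) (pt 23) (pt 1) (pt (cond (CLSM.testBit (24 * a + b)) 7 5)) z := by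
  have := zp_class S (u := pt a) (v := pt b) (by rw [idx_pt a ha]; exact hu)
    (by rw [idx_pt a ha]; exact hu0) (by rw [idx_pt b hb]; exact hv)
    (by rw [idx_pt b hb]; exact hv0) h
  rw [idx_pt a ha, idx_pt b hb] at this
  exact this

theorem main_step (S : Setup σ L1 L2 H1 H2) :
    ∃ w ∈ σ.ker, w ^ 2 = 1 ∧
      ∀ z, (∃ l2 ∈ L2, ∃ l1 ∈ L1, Dec σ L1 L2 l2 l1 z) → z ∈ Subgroup.zpowers w := by
  obtain ⟨hs1, es1, hs2, es2, hg1, eg5, eg23, eg1, eg2⟩ := sg_ok
  obtain ⟨hGs1, hs1'⟩ := inH2_elim hs1
  obtain ⟨hGs2, hs2'⟩ := inH2_elim hs2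
  obtain ⟨hGg1, hg1'⟩ := inH1_elim hg1
  obtain ⟨hr5, er5⟩ := rt_ok 5 (by norm_num) (by decide)
  obtain ⟨hr7, er7⟩ := rt_ok 7 (by norm_num) (by decide)
  obtain ⟨hr21, er21⟩ := rt_ok 21 (by norm_num) (by decide)
  obtain ⟨hGr5, hr5'⟩ := inH1_elim hr5
  obtain ⟨hGr7, hr7'⟩ := inH1_elim hr7
  obtain ⟨hGr21, hr21'⟩ := inH1_elim hr21
  obtain ⟨c121, c17, c15, c221, c27, c25⟩ := cls_ok
  -- the elements
  have ms1 := mem_H2_of_rep _ (rep_elt _ hGs1) hs1'
  have ms2 := mem_H2_of_rep _ (rep_elt _ hGs2) hs2'
  have mg1 := mem_H1_of_rep _ (rep_elt _ hGg1) hg1'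
  have mr5 := mem_H1_of_rep _ (rep_elt _ hGr5) hr5'
  have mr7 := mem_H1_of_rep _ (rep_elt _ hGr7) hr7'
  have mr21 := mem_H1_of_rep _ (rep_elt _ hGr21) hr21'
  have as1 : elt _ hGs1 • pt 1 = pt 0 :=
    smul_pt _ (rep_elt _ hGs1) (by norm_num) (by norm_num) es1
  have as2 : elt _ hGs2 • pt 2 = pt 0 :=
    smul_pt _ (rep_elt _ hGs2) (by norm_num) (by norm_num) es2
  have ar5 : elt _ hGr5 • pt 23 = pt 5 :=
    smul_pt _ (rep_elt _ hGr5) (by norm_num) (by norm_num) er5
  have ar7 : elt _ hGr7 • pt 23 = pt 7 :=
    smul_pt _ (rep_elt _ hGr7) (by norm_num) (by norm_num) er7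
  have ar21 : elt _ hGr21 • pt 23 = pt 21 :=
    smul_pt _ (rep_elt _ hGr21) (by norm_num) (by norm_num) er21
  have ag5 : elt _ hGg1 • pt 5 = pt 21 :=
    smul_pt _ (rep_elt _ hGg1) (by norm_num) (by norm_num) eg5
  have ag23 : elt _ hGg1 • pt 23 = pt 7 :=
    smul_pt _ (rep_elt _ hGg1) (by norm_num) (by norm_num) eg23
  have ag1 : elt _ hGg1 • pt 1 = pt 1 :=
    smul_pt _ (rep_elt _ hGg1) (by norm_num) (by norm_num) eg1
  have ag2 : elt _ hGg1 • pt 2 = pt 2 :=
    smul_pt _ (rep_elt _ hGg1) (by norm_num) (by norm_num) eg2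
  have ag1' : (elt _ hGg1)⁻¹ • pt 1 = pt 1 := by rw [inv_smul_eq_iff]; exact ag1.symm
  have ag2' : (elt _ hGg1)⁻¹ • pt 2 = pt 2 := by rw [inv_smul_eq_iff]; exact ag2.symm
  -- the six values
  obtain ⟨zα, hα⟩ := zp_ex S ms1 as1 mr5 ar5
  obtain ⟨zβ, hβ⟩ := zp_ex S ms1 as1 mr7 ar7
  obtain ⟨z121, h121⟩ := zp_ex S ms1 as1 mr21 ar21
  obtain ⟨z25, h25⟩ := zp_ex S ms2 as2 mr5 ar5
  obtain ⟨z27, h27⟩ := zp_ex S ms2 as2 mr7 ar7
  obtain ⟨z221, h221⟩ := zp_ex S ms2 as2 mr21 ar21
  have k121 := zp_class' S (by norm_num) (by norm_num) (by decide) (by norm_num) (by decide)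
    (by norm_num) h121
  have k25 := zp_class' S (by norm_num) (by norm_num) (by decide) (by norm_num) (by decide)
    (by norm_num) h25
  have k27 := zp_class' S (by norm_num) (by norm_num) (by decide) (by norm_num) (by decide)
    (by norm_num) h27
  have k221 := zp_class' S (by norm_num) (by norm_num) (by decide) (by norm_num) (by decide)
    (by norm_num) h221
  rw [c121] at k121
  rw [c25] at k25
  rw [c27] at k27
  rw [c221] at k221
  have e121 : z121 = zα := S.zp_unique hx0 hy0 k121 hα
  have e25 : z25 = zα := S.zp_unique hx0 hy0 k25 hα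
  have e27 : z27 = zα := S.zp_unique hx0 hy0 k27 hα
  have e221 : z221 = zβ := S.zp_unique hx0 hy0 k221 hβ
  rw [e121] at h121
  rw [e25] at h25
  rw [e27] at h27
  rw [e221] at h221
  -- the two relations
  have R1 := S.zp_mul hx0 hy0 mg1 (u := pt 1) (v := pt 5) (by rw [ag5]; exact h121)
    (by rw [ag23]; exact hβ) (by rw [ag1']; exact hα)
  have R2 := S.zp_mul hx0 hy0 mg1 (u := pt 2) (v := pt 5) (by rw [ag5]; exact h221)
    (by rw [ag23]; exact h27) (by rw [ag2']; exact h25)
  have hβ1 : zβ = 1 := by
    have : 1 * zα = zβ * zα := by rw [one_mul]; exact R1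
    exact (mul_right_cancel this).symm
  have hα2 : zα ^ 2 = 1 := by
    rw [pow_two, ← R2, hβ1]
  refine ⟨zα, S.zp_mem_ker hα, hα2, ?_⟩
  rintro z ⟨l2, hl2, l1, hl1, hd⟩
  have hz : Zp σ L1 L2 (pt 0) (pt 23) ((σ l2)⁻¹ • pt 0) (σ l1 • pt 23) z :=
    ⟨l2, hl2, l1, hl1, rfl, rfl, hd⟩
  by_cases hu0 : idx ((σ l2)⁻¹ • pt 0) = 0
  · have e : (σ l2)⁻¹ • pt 0 = pt 0 := idx_injective (by rw [hu0, idx_pt 0 (by norm_num)])
    rw [e] at hz
    rw [S.zp_left_one hx0 hz]
    exact Subgroup.one_mem _
  by_cases hv0 : idx (σ l1 • pt 23) = 23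
  · have e : σ l1 • pt 23 = pt 23 := idx_injective (by rw [hv0, idx_pt 23 (by norm_num)])
    rw [e] at hz
    rw [S.zp_right_one hy0 hz]
    exact Subgroup.one_mem _
  have hu : DS.testBit (idx ((σ l2)⁻¹ • pt 0)) = true :=
    bit_of_mem_D (smul_mem_D _ (by rw [pt_zero]; exact x0_mem_D))
  have hv : DSc.testBit (idx (σ l1 • pt 23)) = true :=
    bit_of_mem_E (smul_mem_E _ (by rw [pt_last]; exact y0_mem_E))
  have hcl := zp_class S hu hu0 hv hv0 hz
  cases hb : CLSM.testBit (24 * idx ((σ l2)⁻¹ • pt 0) + idx (σ l1 • pt 23))
  · rw [hb] at hcl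
    rw [S.zp_unique hx0 hy0 hcl hα]
    exact Subgroup.mem_zpowers _
  · rw [hb] at hcl
    rw [S.zp_unique hx0 hy0 hcl hβ, hβ1]
    exact Subgroup.one_mem _

end main


theorem hall (Γ : Type) [Group Γ] [Finite Γ] (σ : Γ →* ↥Spor.M12) (hσ : IsStemExtension σ) :
    ∃ w ∈ σ.ker, (∀ z ∈ σ.ker, z ∈ Subgroup.zpowers w) ∧ w ^ 2 = 1 := by
  obtain ⟨L1, h1, h1'⟩ := exists_lift σ hσ.1 hσ.2.1 H1 perfect_H1 triv_H1
  obtain ⟨L2, h2, h2'⟩ := exists_lift σ hσ.1 hσ.2.1 H2 perfect_H2 triv_H2
  have S : Setup σ L1 L2 H1 H2 :=
    { hc := hσ.2.1, h1 := h1, h1' := h1', h2 := h2, h2' := h2'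
      c12 := mem_of_lift σ hσ.2.1 L1 L2 H1 H2 h1 h1' h2 perfect_J
      c21 := mem_of_lift σ hσ.2.1 L2 L1 H2 H1 h2 h2' h1 (by rw [inf_comm]; exact perfect_J)
      hfac := hfac }
  obtain ⟨w, hw, hw2, hgen⟩ := main_step S
  refine ⟨w, hw, ?_, hw2⟩
  exact S.ker_le_of_gens hσ.2.2 _ hgen

theorem multiplier_M12 : HasCyclicSchurMultiplier ↥Spor.M12 2 :=
  Cfsg.Agent.Lib.Helper66_Stem.hasCyclicSchurMultiplier_of 2
    Cfsg.Agent.Lib.Helper27_M12Cover.cover_exists hall

end Cfsg.Agent.Lib.Helper27_M12Mult
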