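import Mathlib
import Cfsg.Agent.Lib.Helper27_Quartets

/-!
For a dodecad `d`, a point `p` of `d` and two points `q ≠ q'` outside `d`, there is exactly one
octad through `p, q, q'` meeting `d` in six points.
-/

set_option autoImplicit false
open scoped Pointwise
open Cfsg
open Cfsg.Agent.Lib.Helper26_Golay
open Cfsg.Agent.Lib.Helper91_M24Stab
open Cfsg.Agent.Lib.Helper91_M24Stab3
open Cfsg.Agent.Lib.Helper27_Quartets

namespace Cfsg.Agent.Lib.Helper27_M12Pair

/-- some octad has the bits `i, j, k` and meets the base dodecad in six points -/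
def anyOct (i j k : ℕ) : Bool :=
  Nat.rec (motive := fun _ => Bool) false
    (fun m acc => (force (octAt m) fun o =>
      o.testBit i && o.testBit j && o.testBit k && (pop (o &&& D0) == 6)) || acc) 759

theorem checkOct : allFold (fun i => !(D0.testBit i) ||
    allFold (fun j => D0.testBit j ||
      allFold (fun k => D0.testBit k || !(decide (j < k)) || anyOct i j k) 24) 24) 24 = true := by
  decide +kernel

theorem exists_octad_idx {i j k : ℕ} (hi : i < 24) (hj : j < 24) (hk : k < 24)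
    (bi : D0.testBit i = true) (bj : D0.testBit j = false) (bk : D0.testBit k = false)
    (hjk : j < k) : ∃ m < 759, (octAt m).testBit i = true ∧ (octAt m).testBit j = true ∧
      (octAt m).testBit k = true ∧ pop (octAt m &&& D0) = 6 := by
  have h1 := (allFold_eq_true _ _).1 checkOct i hi
  rw [bi] at h1
  simp only [Bool.not_true, Bool.false_or] at h1
  have h2 := (allFold_eq_true _ _).1 h1 j hj
  rw [bj, Bool.false_or] at h2
  have h3 := (allFold_eq_true _ _).1 h2 k hk
  rw [bk] at h3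
  simp only [hjk, decide_true, Bool.not_true, Bool.false_or] at h3
  unfold anyOct at h3
  rw [anyRec_eq_true] at h3
  obtain ⟨m, hm, h4⟩ := h3
  rw [force_eq] at h4
  simp only [Bool.and_eq_true, beq_iff_eq] at h4
  exact ⟨m, hm, h4.1.1.1, h4.1.1.2, h4.1.2, h4.2⟩

theorem exists_octad_dod0 {p q q' : GolayPt} (hp : p ∈ dod0) (hq : q ∉ dod0) (hq' : q' ∉ dod0)
    (hqq : q ≠ q') :
    ∃ o ∈ octads, p ∈ o ∧ q ∈ o ∧ q' ∈ o ∧ (o ∩ dod0).card = 6 := by
  have key : ∀ a b : GolayPt, a ∉ dod0 → b ∉ dod0 → idx a < idx b →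
      ∃ o ∈ octads, p ∈ o ∧ a ∈ o ∧ b ∈ o ∧ (o ∩ dod0).card = 6 := by
    intro a b ha hb hab
    have bi : D0.testBit (idx p) = true := by
      rw [← enc_dod0', testBit_enc_idx]; exact hp
    have bj : D0.testBit (idx a) = false := by
      rw [← Bool.not_eq_true, ← enc_dod0', testBit_enc_idx]; exact ha
    have bk : D0.testBit (idx b) = false := by
      rw [← Bool.not_eq_true, ← enc_dod0', testBit_enc_idx]; exact hb
    obtain ⟨m, hm, t1, t2, t3, t4⟩ :=
      exists_octad_idx (idx_lt p) (idx_lt a) (idx_lt b) bi bj bk hab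
    have hlt := octAt_lt m
    refine ⟨dec (octAt m), ?_, ?_, ?_, ?_, ?_⟩
    · rw [mem_octads_iff, enc_dec _ hlt]
      exact List.mem_map.2 ⟨m, List.mem_range.2 hm, rfl⟩
    · rw [mem_dec]; exact t1
    · rw [mem_dec]; exact t2
    · rw [mem_dec]; exact t3
    · rw [card_inter_eq_pop, enc_dec _ hlt, enc_dod0']; exact t4
  rcases lt_trichotomy (idx q) (idx q') with h | h | h
  · exact key q q' hq hq' h
  · exact absurd (idx_injective h) hqq
  · obtain ⟨o, ho, h1, h2, h3, h4⟩ := key q' q hq' hq h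
    exact ⟨o, ho, h1, h3, h2, h4⟩

theorem exists_octad {d : Finset GolayPt} (hd : d ∈ dodecads) {p q q' : GolayPt} (hp : p ∈ d)
    (hq : q ∉ d) (hq' : q' ∉ d) (hqq : q ≠ q') :
    ∃ o ∈ octads, p ∈ o ∧ q ∈ o ∧ q' ∈ o ∧ (o ∩ d).card = 6 := by
  obtain ⟨g, hg, rfl⟩ := exists_smul_dod0_eq hd
  have e : ∀ x : GolayPt, x ∈ g • dod0 ↔ g⁻¹ x ∈ dod0 := by
    intro x
    rw [← mem_smul_iff g (g⁻¹ x) dod0]
    simp
  obtain ⟨o, ho, h1, h2, h3, h4⟩ := exists_octad_dod0 ((e p).1 hp) (fun h => hq ((e q).2 h))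
    (fun h => hq' ((e q').2 h)) (fun h => hqq (g⁻¹.injective h))
  have m : ∀ x : GolayPt, g⁻¹ x ∈ o → x ∈ g • o := by
    intro x hx
    have := (mem_smul_iff g (g⁻¹ x) o).2 hx
    simpa using this
  refine ⟨g • o, smul_mem_octads hg ho, m p h1, m q h2, m q' h3, ?_⟩
  rw [card_inter_smul, h4]

theorem octad_unique {d o₁ o₂ : Finset GolayPt} (hd : d ∈ dodecads) (h₁ : o₁ ∈ octads)
    (h₂ : o₂ ∈ octads) (c₁ : (o₁ ∩ d).card = 6) (c₂ : (o₂ ∩ d).card = 6) {p q q' : GolayPt}
    (hp : p ∈ d) (hq : q ∉ d) (hq' : q' ∉ d) (hqq : q ≠ q') (p₁ : p ∈ o₁) (q₁ : q ∈ o₁)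
    (q₁' : q' ∈ o₁) (p₂ : p ∈ o₂) (q₂ : q ∈ o₂) (q₂' : q' ∈ o₂) : o₁ = o₂ := by
  by_contra hne
  have out : ∀ o : Finset GolayPt, o ∈ octads → (o ∩ d).card = 6 → q ∈ o → q' ∈ o →
      o \ d = {q, q'} := by
    intro o ho c hqo hqo'
    symm
    apply Finset.eq_of_subset_of_card_le
    · intro x hx
      rw [Finset.mem_insert, Finset.mem_singleton] at hx
      rcases hx with rfl | rfl
      · exact Finset.mem_sdiff.2 ⟨hqo, hq⟩
      · exact Finset.mem_sdiff.2 ⟨hqo', hq'⟩
    · have := Finset.card_sdiff_add_card_inter o d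
      rw [c, ho.2] at this
      rw [Finset.card_pair hqq]
      omega
  have e₁ := out o₁ h₁ c₁ q₁ q₁'
  have e₂ := out o₂ h₂ c₂ q₂ q₂'
  have hs := supports_symmDiff h₁.1 h₂.1
  have hsub : symmDiff o₁ o₂ ⊆ d := by
    intro x hx
    by_contra hxd
    rw [Finset.mem_symmDiff] at hx
    rcases hx with ⟨a, b⟩ | ⟨a, b⟩
    · have : x ∈ o₁ \ d := Finset.mem_sdiff.2 ⟨a, hxd⟩
      rw [e₁, ← e₂] at this
      exact b (Finset.mem_sdiff.1 this).1
    · have : x ∈ o₂ \ d := Finset.mem_sdiff.2 ⟨a, hxd⟩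
      rw [e₂, ← e₁] at this
      exact b (Finset.mem_sdiff.1 this).1
  have hsne : symmDiff o₁ o₂ ≠ ∅ := by
    intro h0
    apply hne
    have : symmDiff o₁ o₂ = ⊥ := h0
    exact symmDiff_eq_bot.mp this
  have h8 := eight_le_card hs hsne
  have hcard := card_symmDiff_add o₁ o₂
  rw [h₁.2, h₂.2] at hcard
  have h3 : 3 ≤ (o₁ ∩ o₂).card := by
    have hsub3 : ({p, q, q'} : Finset GolayPt) ⊆ o₁ ∩ o₂ := by
      intro x hx
      simp only [Finset.mem_insert, Finset.mem_singleton] at hx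
      rcases hx with rfl | rfl | rfl <;> exact Finset.mem_inter.2 ⟨by assumption, by assumption⟩
    have hc3 : ({p, q, q'} : Finset GolayPt).card = 3 := by
      rw [Finset.card_insert_of_notMem, Finset.card_pair hqq]
      simp only [Finset.mem_insert, Finset.mem_singleton, not_or]
      exact ⟨fun h => hq (h ▸ hp), fun h => hq' (h ▸ hp)⟩
    rw [← hc3]
    exact Finset.card_le_card hsub3
  -- the complement of the symmetric difference in `d`
  have hs2 := supports_symmDiff hd.1 hs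
  rw [symmDiff_of_ge hsub] at hs2
  have hc2 : (d \ symmDiff o₁ o₂).card = 12 - (symmDiff o₁ o₂).card := by
    rw [Finset.card_sdiff_of_subset hsub, hd.2]
  have hne2 : d \ symmDiff o₁ o₂ ≠ ∅ := by
    intro h0
    rw [h0, Finset.card_empty] at hc2
    omega
  have := eight_le_card hs2 hne2
  omega

end Cfsg.Agent.Lib.Helper27_M12Pair
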