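import Mathlib
import Cfsg.Agent.Lib.Helper27_Quartets

/-!
The stabiliser in `M24` of the base dodecad and of three of its points: generators and transitivity
on the twelve points outside the dodecad.
-/

set_option autoImplicit false
open scoped Pointwise
open Cfsg
open Cfsg.Agent.Lib.Helper26_Golay
open Cfsg.Agent.Lib.Helper91_M24Stab
open Cfsg.Agent.Lib.Helper91_M24Stab3
open Cfsg.Agent.Lib.Helper27_Quartets

namespace Cfsg.Agent.Lib.Helper27_M12Three

/-- the stabiliser in `M24` of the base dodecad and of its points `pt 0`, `pt 2`, `pt 3` -/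
def S0 : Subgroup (Equiv.Perm GolayPt) :=
  (((M24 ⊓ MulAction.stabilizer (Equiv.Perm GolayPt) dod0) ⊓
    MulAction.stabilizer (Equiv.Perm GolayPt) (pt 0)) ⊓
    MulAction.stabilizer (Equiv.Perm GolayPt) (pt 2)) ⊓
    MulAction.stabilizer (Equiv.Perm GolayPt) (pt 3)

theorem mem_S0 {g : Equiv.Perm GolayPt} :
    g ∈ S0 ↔ g ∈ M24 ∧ g • dod0 = dod0 ∧ g (pt 0) = pt 0 ∧ g (pt 2) = pt 2 ∧ g (pt 3) = pt 3 := by
  unfold S0
  simp only [Subgroup.mem_inf, MulAction.mem_stabilizer_iff, Equiv.Perm.smul_def, and_assoc]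

/-- two generators of `S0` -/
def sGens : ℕ := 0xc1d59bc92b30d44a0b75b4f1189403d5f48594e930b3446eb3242d18880

/-- the check that a table describes an element of `S0` -/
def inS0 (T : ℕ) : Bool :=
  tblInM24 T && (permMask T D0 == D0) && (img T 0 == 0) && (img T 2 == 2) && (img T 3 == 3)

theorem fix_of_img {σ : Equiv.Perm GolayPt} {T : ℕ} (hT : Represents σ T) {i : ℕ} (hi : i < 24)
    (h : img T i = i) : σ (pt i) = pt i := by
  apply idx_injective
  rw [hT (pt i), idx_pt i hi, h]

theorem exists_of_inS0 {T : ℕ} (h : inS0 T = true) : ∃ σ ∈ S0, Represents σ T := by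
  unfold inS0 at h
  simp only [Bool.and_eq_true, beq_iff_eq] at h
  obtain ⟨⟨⟨⟨h1, h2⟩, h3⟩, h4⟩, h5⟩ := h
  obtain ⟨σ, hσ, hT⟩ := exists_of_tblInM24 h1
  refine ⟨σ, mem_S0.2 ⟨hσ, ?_, fix_of_img hT (by norm_num) h3, fix_of_img hT (by norm_num) h4,
    fix_of_img hT (by norm_num) h5⟩, hT⟩
  apply enc_injective
  rw [enc_smul hT, enc_dod0', h2]

theorem sGens_in : GensIn S0 sGens 2 := by
  have h : allFold (fun k => inS0 (get120 sGens k)) 2 = true := by decide +kernel
  rw [allFold_eq_true] at h
  intro k hk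
  exact exists_of_inS0 (h k hk)

/-- a forest certificate for the action of `sGens` on the 24 points -/
def sFP : ℕ := 0x800120014000c000c0010000400130015001000040000000800010006000a0005000d000d00010000000000000000
def sFG : ℕ := 0x10001010001010000000000000100010101000000000000
def sFD : ℕ := 0x30402010103020203030200030104020403030100000000
def sFR : ℕ := 0x1000c000c000c000c000c0001000c000c000c0001000c000100010001000100010001000100010003000200010000

theorem sForest_ok :
    forestCheck (maskStepOk sGens 2) (fun j => 2 ^ j) sFP sFG sFD sFR 24 = true := by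
  decide +kernel

theorem sForest_root :
    allFold (fun j => D0.testBit j || (get16 sFR j == 1)) 24 = true := by
  decide +kernel

/-- `S0` maps the point `pt 1` to any point outside the base dodecad -/
theorem exists_map_out0 {y : GolayPt} (hy : y ∉ dod0) : ∃ g ∈ S0, g (pt 1) = y := by
  have h2 := (allFold_eq_true _ _).mp sForest_root (idx y) (idx_lt y)
  have h3 : D0.testBit (idx y) = false := by
    rw [← Bool.not_eq_true, ← enc_dod0', testBit_enc_idx]; exact hy
  rw [h3, Bool.false_or, beq_iff_eq] at h2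
  have h4 : get16 sFR (idx y) = idx (pt 1) := by rw [idx_pt 1 (by norm_num), h2]
  exact exists_map_of_pointForest _ _ 2 sGens_in sFP sFG sFD sFR sForest_ok (pt 1) y h4

/-- `S0` is transitive on the points outside the base dodecad -/
theorem exists_map_out {x y : GolayPt} (hx : x ∉ dod0) (hy : y ∉ dod0) : ∃ g ∈ S0, g x = y := by
  obtain ⟨g, hg, hgx⟩ := exists_map_out0 hx
  obtain ⟨g', hg', hgy⟩ := exists_map_out0 hy
  refine ⟨g' * g⁻¹, S0.mul_mem hg' (S0.inv_mem hg), ?_⟩
  rw [Equiv.Perm.mul_apply, ← hgx]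
  simp [hgy]

theorem pt0_mem : pt 0 ∈ dod0 := by
  rw [← testBit_enc_idx, enc_dod0', idx_pt 0 (by norm_num)]; decide

theorem pt2_mem : pt 2 ∈ dod0 := by
  rw [← testBit_enc_idx, enc_dod0', idx_pt 2 (by norm_num)]; decide

theorem pt3_mem : pt 3 ∈ dod0 := by
  rw [← testBit_enc_idx, enc_dod0', idx_pt 3 (by norm_num)]; decide

end Cfsg.Agent.Lib.Helper27_M12Three
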