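import Mathlib

set_option autoImplicit false

/-! Cayley–Hamilton for 3 × 3 matrices by direct computation, and the characteristic polynomial
as an explicit cubic. -/

namespace Cfsg.Agent.Lib.Helper46_Mat3

variable {R : Type*} [CommRing R]

/-- second elementary symmetric function of the eigenvalues: sum of the principal 2 × 2 minors -/
def e2 (M : Matrix (Fin 3) (Fin 3) R) : R :=
  M 0 0 * M 1 1 - M 0 1 * M 1 0 + (M 0 0 * M 2 2 - M 0 2 * M 2 0) + (M 1 1 * M 2 2 - M 1 2 * M 2 1)

/-- the trace, written out -/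
def tr3 (M : Matrix (Fin 3) (Fin 3) R) : R := M 0 0 + M 1 1 + M 2 2

theorem cayley3 (M : Matrix (Fin 3) (Fin 3) R) :
    M * M * M = tr3 M • (M * M) - e2 M • M + M.det • (1 : Matrix (Fin 3) (Fin 3) R) := by
  ext i j
  fin_cases i <;> fin_cases j <;>
    simp [Matrix.mul_apply, Fin.sum_univ_three, tr3, Matrix.det_fin_three, e2] <;> ring

theorem det_smul_one_sub (M : Matrix (Fin 3) (Fin 3) R) (t : R) :
    (t • (1 : Matrix (Fin 3) (Fin 3) R) - M).det = t ^ 3 - tr3 M * t ^ 2 + e2 M * t - M.det := by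
  rw [Matrix.det_fin_three, Matrix.det_fin_three]
  simp [tr3, e2]
  ring

end Cfsg.Agent.Lib.Helper46_Mat3
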