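import Mathlib
import Cfsg.Agent.Lib.Helper26_M24Perm
import Cfsg.Agent.Lib.Helper26_Forest
import Cfsg.Agent.Lib.Helper26_M24Orbit
import Cfsg.Agent.Lib.Helper5_SLGen
import Cfsg.Agent.Lib.Helper5_PSLSimple
import Cfsg.Agent.Lib.Helper61_TableHom
import Cfsg.Agent.S0366
import Cfsg.Agent.S0378
import Cfsg.Agent.S2550

/-!
The pointwise stabiliser `M21` in `M24` of three points is isomorphic to `PSL(3, 4)`: the 21 other
points are identified with the points of the projective plane over the field with four elements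
(a quadratic algebra over `ZMod 2`), the special linear group acts on them through `M24` (checked
on transvections), the kernel is the centre by simplicity, and the orders agree.
-/

set_option autoImplicit false
open scoped Pointwise
open Cfsg
open Cfsg.Agent.Lib.Helper26_Golay

namespace Cfsg.Agent.Lib.Helper27_M21

/-- the field with four elements -/
abbrev F4 : Type := QuadraticAlgebra (ZMod 2) 1 1

instance fact_no_root : Fact (∀ r : ZMod 2, r ^ 2 ≠ 1 + 1 * r) := ⟨by decide⟩

instance fintypeF4 : Fintype F4 :=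
  Fintype.ofEquiv (ZMod 2 × ZMod 2) (QuadraticAlgebra.equivProd 1 1).symm

theorem card_F4 : Fintype.card F4 = 4 := by
  rw [Fintype.card_congr (QuadraticAlgebra.equivProd (1 : ZMod 2) 1)]
  rfl

/-- the code of an element -/
def fcode (z : F4) : ℕ := z.re.val + 2 * z.im.val

/-- the code of a vector -/
def vcode (v : Fin 3 → F4) : ℕ := fcode (v 0) + 4 * fcode (v 1) + 16 * fcode (v 2)

/-- the point of each vector code -/
def PT : ℕ := 0xa2e07456ca33dac746e3699ec85167b22aabba23ad90a7b4cc5c2878ddc3926649c9244ce44294a0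

/-- the vector code of each point -/
def SV : ℕ := 0x313925150d05213d2d1135342924091d1419010410000000

/-- the point of a vector -/
def P (v : Fin 3 → F4) : GolayPt := pt (img PT (vcode v))

/-- the element with a given code -/
def fOf (n : ℕ) : F4 := ⟨((n % 2 : ℕ) : ZMod 2), (((n / 2) % 2 : ℕ) : ZMod 2)⟩

/-- the vector of a point -/
def S (x : GolayPt) : Fin 3 → F4 :=
  ![fOf (get8 SV (idx x) % 4), fOf (get8 SV (idx x) / 4 % 4), fOf (get8 SV (idx x) / 16 % 4)]

/-- the three fixed points -/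
def isFix (x : GolayPt) : Bool := idx x == 0 || idx x == 1 || idx x == 2

theorem prop_a : ∀ x : GolayPt, isFix x = false → S x ≠ 0 ∧ P (S x) = x := by decide

theorem prop_b : ∀ a b c : F4, ![a, b, c] ≠ 0 → isFix (P ![a, b, c]) = false ∧
    ∃ k : F4, k ≠ 0 ∧ S (P ![a, b, c]) = k • ![a, b, c] := by decide

theorem prop_c : ∀ k a b c : F4, k ≠ 0 → P (k • ![a, b, c]) = P ![a, b, c] := by decide

/-- the special linear group of degree three over the field with four elements -/
abbrev SL34 : Type := Matrix.SpecialLinearGroup (Fin 3) F4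

/-- a matrix times a vector, written out -/
def mv (A : Matrix (Fin 3) (Fin 3) F4) (v : Fin 3 → F4) : Fin 3 → F4 :=
  ![A 0 0 * v 0 + A 0 1 * v 1 + A 0 2 * v 2, A 1 0 * v 0 + A 1 1 * v 1 + A 1 2 * v 2,
    A 2 0 * v 0 + A 2 1 * v 1 + A 2 2 * v 2]

theorem mv_eq (A : Matrix (Fin 3) (Fin 3) F4) (v : Fin 3 → F4) : mv A v = Matrix.mulVec A v := by
  funext i
  fin_cases i <;> simp [mv, Matrix.mulVec, dotProduct, Fin.sum_univ_three]

theorem vec_eta (w : Fin 3 → F4) : w = ![w 0, w 1, w 2] := by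
  funext i
  fin_cases i <;> rfl

/-- the action of a matrix on the points -/
def rho (A : Matrix (Fin 3) (Fin 3) F4) (x : GolayPt) : GolayPt :=
  if isFix x then x else P (mv A (S x))

theorem rho_fix {A : Matrix (Fin 3) (Fin 3) F4} {x : GolayPt} (h : isFix x = true) :
    rho A x = x := by
  unfold rho
  rw [if_pos h]

theorem rho_not_fix {A : Matrix (Fin 3) (Fin 3) F4} {x : GolayPt} (h : isFix x = false) :
    rho A x = P (mv A (S x)) := by
  unfold rho
  rw [if_neg (by rw [h]; exact Bool.false_ne_true)]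

theorem rho_one (x : GolayPt) : rho 1 x = x := by
  by_cases h : isFix x = true
  · exact rho_fix h
  · rw [Bool.not_eq_true] at h
    rw [rho_not_fix h, mv_eq, Matrix.one_mulVec]
    exact (prop_a x h).2

theorem mulVec_ne_zero (B : SL34) {v : Fin 3 → F4} (hv : v ≠ 0) : Matrix.mulVec B.1 v ≠ 0 := by
  intro h
  apply hv
  have h1 : Matrix.mulVec (B⁻¹).1 (Matrix.mulVec B.1 v) = v := by
    rw [Matrix.mulVec_mulVec, ← Matrix.SpecialLinearGroup.coe_mul, inv_mul_cancel,
      Matrix.SpecialLinearGroup.coe_one, Matrix.one_mulVec]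
  rw [h, Matrix.mulVec_zero] at h1
  exact h1.symm

theorem rho_mul (A B : SL34) (x : GolayPt) : rho (A * B).1 x = rho A.1 (rho B.1 x) := by
  by_cases h : isFix x = true
  · rw [rho_fix h, rho_fix h, rho_fix h]
  · rw [Bool.not_eq_true] at h
    have hv := (prop_a x h).1
    have hw : mv B.1 (S x) ≠ 0 := by
      rw [mv_eq]
      exact mulVec_ne_zero B hv
    have hb := prop_b (mv B.1 (S x) 0) (mv B.1 (S x) 1) (mv B.1 (S x) 2)
      (by rw [← vec_eta]; exact hw)
    rw [← vec_eta] at hb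
    obtain ⟨hfix, k, hk, hS⟩ := hb
    rw [rho_not_fix h, rho_not_fix h, rho_not_fix hfix, hS, mv_eq, mv_eq, mv_eq,
      Matrix.mulVec_smul, Matrix.SpecialLinearGroup.coe_mul, ← Matrix.mulVec_mulVec]
    have hc := prop_c k (Matrix.mulVec A.1 (Matrix.mulVec B.1 (S x)) 0)
      (Matrix.mulVec A.1 (Matrix.mulVec B.1 (S x)) 1)
      (Matrix.mulVec A.1 (Matrix.mulVec B.1 (S x)) 2) hk
    rw [← vec_eta] at hc
    exact hc.symm

/-- the action as a homomorphism to the endomorphism monoid -/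
def rhoEnd : SL34 →* Function.End GolayPt where
  toFun A := rho A.1
  map_one' := by
    funext x
    exact rho_one x
  map_mul' A B := by
    funext x
    exact rho_mul A B x

/-- the action as a homomorphism to the permutation group -/
def Phi : SL34 →* Equiv.Perm GolayPt := rhoEnd.toHomPerm

theorem Phi_apply (A : SL34) (x : GolayPt) : Phi A x = rho A.1 x := rfl

/-! ### The images of the transvections -/

/-- the tables of the images of twelve transvections -/
def gtab (i j : ℕ) (b : Bool) : ℕ :=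
  match i, j, b with
  | 0, 1, false => 0xba1474922b3398d85676a3cb218820
  | 0, 1, true => 0xbd6cb22627638cfa224a834b318820
  | 0, 2, false => 0x8d6c79caeb68de68212aa30a470820
  | 0, 2, true => 0x1a90b9c9c73458da593583ca4b8820
  | 1, 0, false => 0x6c22e496b65d2ec7aa663a24418820
  | 1, 0, true => 0xb5de894d6da9a0c8a8b43b92418820
  | 1, 2, false => 0x835ee9c977ad2ca8b1261a0a438820
  | 1, 2, true => 0x6c1689c9f689ae3a9d34538a460820
  | 2, 0, false => 0x8adb2452ef816acb28d33a5c418820
  | 2, 0, true => 0x71a4d7d4a89de8c4a9703da2418820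
  | 2, 1, false => 0xb99b28523343aaa4b16f258a718820
  | 2, 1, true => 0xba64d4562f83a87312d362caa18820
  | _, _, _ => 0

/-- the two basis elements of the field over its prime field -/
def cOf (b : Bool) : F4 := if b then ⟨0, 1⟩ else 1

theorem gens_repr : ∀ i j : Fin 3, i ≠ j → ∀ b : Bool, ∀ p : GolayPt,
    idx (rho (Matrix.transvection i j (cOf b)) p) = img (gtab i.val j.val b) (idx p) := by
  decide

theorem gens_in : ∀ i j : Fin 3, i ≠ j → ∀ b : Bool, tblInM24 (gtab i.val j.val b) = true := by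
  decide +kernel

theorem eq_of_represents' {σ τ : Equiv.Perm GolayPt} {T : ℕ} (h1 : Represents σ T)
    (h2 : Represents τ T) : σ = τ := by
  apply Equiv.ext
  intro p
  apply idx_injective
  rw [h1 p, h2 p]

open Matrix.SpecialLinearGroup in
theorem Phi_gen_repr {i j : Fin 3} (hij : i ≠ j) (b : Bool) :
    Represents (Phi (transvection hij (cOf b))) (gtab i.val j.val b) := by
  intro p
  exact gens_repr i j hij b p

open Matrix.SpecialLinearGroup in
theorem Phi_gen_mem {i j : Fin 3} (hij : i ≠ j) (b : Bool) :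
    Phi (transvection hij (cOf b)) ∈ M24 := by
  obtain ⟨σ, hσ, hT⟩ := exists_of_tblInM24 (gens_in i j hij b)
  rw [eq_of_represents' (Phi_gen_repr hij b) hT]
  exact hσ

theorem F4_cases (c : F4) : c = 0 ∨ c = 1 ∨ c = ⟨0, 1⟩ ∨ c = 1 + ⟨0, 1⟩ := by
  revert c
  decide

open Matrix.SpecialLinearGroup in
theorem Phi_transvection_mem {i j : Fin 3} (hij : i ≠ j) (c : F4) :
    Phi (transvection hij c) ∈ M24 := by
  have h1 : Phi (transvection hij (1 : F4)) ∈ M24 := Phi_gen_mem hij false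
  have h2 : Phi (transvection hij (⟨0, 1⟩ : F4)) ∈ M24 := Phi_gen_mem hij true
  rcases F4_cases c with rfl | rfl | rfl | rfl
  · rw [transvection_coeff_zero, map_one]
    exact M24.one_mem
  · exact h1
  · exact h2
  · rw [transvection_add, map_mul]
    exact M24.mul_mem h1 h2

theorem Phi_mem (A : SL34) : Phi A ∈ M24 := by
  refine Cfsg.Agent.Lib.Helper5_SLGen.transvection_induction (fun A => Phi A ∈ M24) ?_ ?_ A
  · intro i j hij c
    exact Phi_transvection_mem hij c
  · intro A B hA hB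
    show Phi (A * B) ∈ M24
    rw [map_mul]
    exact M24.mul_mem hA hB

/-- the pointwise stabiliser in `M24` of the three base points -/
def M21 : Subgroup (Equiv.Perm GolayPt) where
  carrier := {g | g ∈ M24 ∧ g (pt 0) = pt 0 ∧ g (pt 1) = pt 1 ∧ g (pt 2) = pt 2}
  mul_mem' := by
    rintro a b ⟨a1, a2, a3, a4⟩ ⟨b1, b2, b3, b4⟩
    refine ⟨M24.mul_mem a1 b1, ?_, ?_, ?_⟩
    · rw [Equiv.Perm.mul_apply, b2, a2]
    · rw [Equiv.Perm.mul_apply, b3, a3]
    · rw [Equiv.Perm.mul_apply, b4, a4]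
  one_mem' := ⟨M24.one_mem, rfl, rfl, rfl⟩
  inv_mem' := by
    rintro a ⟨a1, a2, a3, a4⟩
    refine ⟨M24.inv_mem a1, ?_, ?_, ?_⟩
    · rw [Equiv.Perm.inv_eq_iff_eq, a2]
    · rw [Equiv.Perm.inv_eq_iff_eq, a3]
    · rw [Equiv.Perm.inv_eq_iff_eq, a4]

theorem mem_M21 {g : Equiv.Perm GolayPt} : g ∈ M21 ↔
    g ∈ M24 ∧ g (pt 0) = pt 0 ∧ g (pt 1) = pt 1 ∧ g (pt 2) = pt 2 := Iff.rfl

theorem isFix_pt : isFix (pt 0) = true ∧ isFix (pt 1) = true ∧ isFix (pt 2) = true := by decide

theorem Phi_mem_M21 (A : SL34) : Phi A ∈ M21 :=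
  mem_M21.2 ⟨Phi_mem A, rho_fix (A := A.1) isFix_pt.1, rho_fix (A := A.1) isFix_pt.2.1,
    rho_fix (A := A.1) isFix_pt.2.2⟩

/-! ### The kernel -/

theorem scalar_mulVec (r : F4) (v : Fin 3 → F4) :
    Matrix.mulVec (Matrix.scalar (Fin 3) r) v = r • v := by
  funext i
  simp [Matrix.scalar_apply, Matrix.mulVec_diagonal]

theorem Phi_center {A : SL34} (hA : A ∈ Subgroup.center SL34) : Phi A = 1 := by
  obtain ⟨r, hr, hA'⟩ := Matrix.SpecialLinearGroup.mem_center_iff.1 hA
  have hr0 : r ≠ 0 := by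
    rintro rfl
    simp at hr
  apply Equiv.ext
  intro x
  show rho A.1 x = x
  by_cases h : isFix x = true
  · exact rho_fix h
  · rw [Bool.not_eq_true] at h
    rw [rho_not_fix h, mv_eq, ← hA', scalar_mulVec]
    have hc := prop_c r (S x 0) (S x 1) (S x 2) hr0
    rw [← vec_eta] at hc
    rw [hc]
    exact (prop_a x h).2

open Matrix.SpecialLinearGroup in
theorem Phi_ne_one : ∃ A : SL34, Phi A ≠ 1 := by
  refine ⟨transvection (show (0 : Fin 3) ≠ 1 by decide) (cOf false), ?_⟩
  intro h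
  have h1 := Phi_gen_repr (show (0 : Fin 3) ≠ 1 by decide) false (pt 4)
  rw [h] at h1
  revert h1
  decide

theorem ker_Phi : Phi.ker = Subgroup.center SL34 := by
  have hle : Subgroup.center SL34 ≤ Phi.ker := fun A hA => Phi_center hA
  apply le_antisymm _ hle
  have hsimple : IsSimpleGroup (Matrix.ProjectiveSpecialLinearGroup (Fin 3) F4) :=
    Cfsg.Agent.Lib.Helper5_PSLSimple.psl_simple (by simp)
  have hn : (Phi.ker.map (QuotientGroup.mk' (Subgroup.center SL34))).Normal :=
    Subgroup.Normal.map (MonoidHom.normal_ker Phi) _ (QuotientGroup.mk'_surjective _)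
  rcases hn.eq_bot_or_eq_top with h | h
  · rw [Subgroup.map_eq_bot_iff, QuotientGroup.ker_mk'] at h
    exact h
  · exfalso
    obtain ⟨A, hA⟩ := Phi_ne_one
    apply hA
    have hmem : QuotientGroup.mk' (Subgroup.center SL34) A ∈
        Phi.ker.map (QuotientGroup.mk' (Subgroup.center SL34)) := by
      rw [h]
      trivial
    obtain ⟨B, hB, hBA⟩ := hmem
    have h2 : B⁻¹ * A ∈ Subgroup.center SL34 := by
      rw [← QuotientGroup.ker_mk' (Subgroup.center SL34), MonoidHom.mem_ker, map_mul, map_inv, hBA,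
        inv_mul_cancel]
    have h3 : Phi (B⁻¹ * A) = 1 := Phi_center h2
    rw [map_mul, map_inv, MonoidHom.mem_ker.1 hB, inv_one, one_mul] at h3
    exact h3

/-! ### Transitivity on triples and the order -/

/-- three distinct points as an embedding -/
def emb3 (p q r : GolayPt) (hpq : p ≠ q) (hpr : p ≠ r) (hqr : q ≠ r) : Fin 3 ↪ GolayPt :=
  ⟨![p, q, r], by
    intro i j h
    fin_cases i <;> fin_cases j <;> simp at h <;> first | rfl | (exfalso; tauto)⟩

theorem pt_ne {i j : ℕ} (hi : i < 24) (hj : j < 24) (h : i ≠ j) : pt i ≠ pt j := by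
  intro e
  apply h
  rw [← idx_pt i hi, ← idx_pt j hj, e]

theorem exists_map3 {p q r : GolayPt} (hpq : p ≠ q) (hpr : p ≠ r) (hqr : q ≠ r) :
    ∃ g ∈ M24, g (pt 0) = p ∧ g (pt 1) = q ∧ g (pt 2) = r := by
  have h5 : MulAction.IsMultiplyPretransitive M24 GolayPt 5 := Cfsg.Agent.S0366.result
  have h3 : MulAction.IsMultiplyPretransitive M24 GolayPt 3 :=
    MulAction.isMultiplyPretransitive_of_le (n := 5) (by norm_num) (by
      rw [Nat.card_eq_fintype_card]
      decide)
  obtain ⟨g, hg⟩ := MulAction.exists_smul_eq (↥M24)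
    (emb3 (pt 0) (pt 1) (pt 2) (pt_ne (by norm_num) (by norm_num) (by norm_num))
      (pt_ne (by norm_num) (by norm_num) (by norm_num))
      (pt_ne (by norm_num) (by norm_num) (by norm_num)))
    (emb3 p q r hpq hpr hqr)
  refine ⟨g.1, g.2, ?_, ?_, ?_⟩
  · exact congrArg (fun e : Fin 3 ↪ GolayPt => e 0) hg
  · exact congrArg (fun e : Fin 3 ↪ GolayPt => e 1) hg
  · exact congrArg (fun e : Fin 3 ↪ GolayPt => e 2) hg

theorem card_M21 : Nat.card ↥M21 = 20160 := by
  have h01 : pt 0 ≠ pt 1 := pt_ne (by norm_num) (by norm_num) (by norm_num)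
  have h02 : pt 0 ≠ pt 2 := pt_ne (by norm_num) (by norm_num) (by norm_num)
  have h12 : pt 1 ≠ pt 2 := pt_ne (by norm_num) (by norm_num) (by norm_num)
  have hA := Cfsg.Agent.S0378.result (pt 0) (pt 1) h01
  have horb : MulAction.orbit ↥(MulAction.stabilizer M24 (pt 0) ⊓ MulAction.stabilizer M24 (pt 1))
      (pt 2) = ((({pt 0, pt 1} : Finset GolayPt)ᶜ : Finset GolayPt) : Set GolayPt) := by
    ext x
    rw [Finset.mem_coe, Finset.mem_compl, Finset.mem_insert, Finset.mem_singleton, not_or]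
    constructor
    · rintro ⟨⟨⟨σ, hσ⟩, hs⟩, rfl⟩
      obtain ⟨h1, h2⟩ := Subgroup.mem_inf.1 hs
      have h1' : σ (pt 0) = pt 0 := MulAction.mem_stabilizer_iff.1 h1
      have h2' : σ (pt 1) = pt 1 := MulAction.mem_stabilizer_iff.1 h2
      show σ (pt 2) ≠ pt 0 ∧ σ (pt 2) ≠ pt 1
      constructor
      · intro h
        rw [← h1'] at h
        exact h02 (σ.injective h).symm
      · intro h
        rw [← h2'] at h
        exact h12 (σ.injective h).symm
    · rintro ⟨hx0, hx1⟩
      obtain ⟨g, hg, g0, g1, g2⟩ := exists_map3 h01 (Ne.symm hx0) (Ne.symm hx1)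
      exact ⟨⟨⟨g, hg⟩, Subgroup.mem_inf.2 ⟨MulAction.mem_stabilizer_iff.2 g0,
        MulAction.mem_stabilizer_iff.2 g1⟩⟩, g2⟩
  have hidx : (MulAction.stabilizer
      ↥(MulAction.stabilizer M24 (pt 0) ⊓ MulAction.stabilizer M24 (pt 1)) (pt 2)).index = 22 := by
    rw [MulAction.index_stabilizer, horb, Set.ncard_coe_finset, Finset.card_compl,
      Finset.card_pair h01]
    rfl
  have hmul := Subgroup.card_mul_index (MulAction.stabilizer
      ↥(MulAction.stabilizer M24 (pt 0) ⊓ MulAction.stabilizer M24 (pt 1)) (pt 2))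
  have hcard : Nat.card ↥(MulAction.stabilizer
      ↥(MulAction.stabilizer M24 (pt 0) ⊓ MulAction.stabilizer M24 (pt 1)) (pt 2)) = 20160 := by
    rw [hidx, hA] at hmul
    omega
  rw [← hcard]
  apply Nat.card_congr
  exact
    { toFun := fun k => ⟨⟨⟨k.1, k.2.1⟩, Subgroup.mem_inf.2 ⟨MulAction.mem_stabilizer_iff.2 k.2.2.1,
        MulAction.mem_stabilizer_iff.2 k.2.2.2.1⟩⟩, MulAction.mem_stabilizer_iff.2 k.2.2.2.2⟩
      invFun := fun k => ⟨k.1.1.1, k.1.1.2,
        MulAction.mem_stabilizer_iff.1 (Subgroup.mem_inf.1 k.1.2).1,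
        MulAction.mem_stabilizer_iff.1 (Subgroup.mem_inf.1 k.1.2).2,
        MulAction.mem_stabilizer_iff.1 k.2⟩
      left_inv := fun k => rfl
      right_inv := fun k => rfl }

/-! ### The isomorphism -/

/-- the action as a homomorphism to `M21` -/
def PhiM : SL34 →* ↥M21 := Phi.codRestrict M21 Phi_mem_M21

theorem ker_PhiM : PhiM.ker = Subgroup.center SL34 := by
  unfold PhiM
  rw [MonoidHom.ker_codRestrict, ker_Phi]

theorem PhiM_surjective : Function.Surjective PhiM := by
  rw [← MonoidHom.range_eq_top]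
  have : Finite ↥M21 := Nat.finite_of_card_ne_zero (by rw [card_M21]; norm_num)
  apply Subgroup.eq_top_of_card_eq
  rw [← Nat.card_congr (QuotientGroup.quotientKerEquivRange PhiM).toEquiv, card_M21,
    Nat.card_congr (QuotientGroup.quotientMulEquivOfEq ker_PhiM).toEquiv]
  exact Cfsg.Agent.S2550.card_PSL34 card_F4

/-- the isomorphism in the base case -/
noncomputable def isoM21 : Matrix.ProjectiveSpecialLinearGroup (Fin 3) F4 ≃* ↥M21 :=
  Cfsg.Agent.Lib.Helper61_TableHom.pslEquivOfKer PhiM ker_PhiM PhiM_surjective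

/-- the group of the statement -/
abbrev MGrp (p q r : GolayPt) : Subgroup ↥M24 :=
  MulAction.stabilizer M24 p ⊓ MulAction.stabilizer M24 q ⊓ MulAction.stabilizer M24 r

theorem mem_MGrp {p q r : GolayPt} {g : ↥M24} :
    g ∈ MGrp p q r ↔ (g : Equiv.Perm GolayPt) p = p ∧ (g : Equiv.Perm GolayPt) q = q ∧
      (g : Equiv.Perm GolayPt) r = r := by
  simp only [MGrp, Subgroup.mem_inf, MulAction.mem_stabilizer_iff, and_assoc]
  rfl

/-- conjugation by `g` carries the stabiliser of the images of the three base points onto `M21` -/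
noncomputable def conjEquivM {g : Equiv.Perm GolayPt} (hg : g ∈ M24) :
    ↥(MGrp (g (pt 0)) (g (pt 1)) (g (pt 2))) ≃* ↥M21 where
  toFun k := ⟨g⁻¹ * ((k : ↥M24) : Equiv.Perm GolayPt) * g, by
    obtain ⟨h1, h2, h3⟩ := mem_MGrp.1 k.2
    refine mem_M21.2 ⟨M24.mul_mem (M24.mul_mem (M24.inv_mem hg) k.1.2) hg, ?_, ?_, ?_⟩
    · show g.symm (((k : ↥M24) : Equiv.Perm GolayPt) (g (pt 0))) = pt 0
      rw [h1, Equiv.symm_apply_apply]
    · show g.symm (((k : ↥M24) : Equiv.Perm GolayPt) (g (pt 1))) = pt 1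
      rw [h2, Equiv.symm_apply_apply]
    · show g.symm (((k : ↥M24) : Equiv.Perm GolayPt) (g (pt 2))) = pt 2
      rw [h3, Equiv.symm_apply_apply]⟩
  invFun k := ⟨⟨g * (k : Equiv.Perm GolayPt) * g⁻¹,
      M24.mul_mem (M24.mul_mem hg (mem_M21.1 k.2).1) (M24.inv_mem hg)⟩, by
    obtain ⟨-, h1, h2, h3⟩ := mem_M21.1 k.2
    refine mem_MGrp.2 ⟨?_, ?_, ?_⟩
    · show g ((k : Equiv.Perm GolayPt) (g.symm (g (pt 0)))) = g (pt 0)
      rw [Equiv.symm_apply_apply, h1]
    · show g ((k : Equiv.Perm GolayPt) (g.symm (g (pt 1)))) = g (pt 1)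
      rw [Equiv.symm_apply_apply, h2]
    · show g ((k : Equiv.Perm GolayPt) (g.symm (g (pt 2)))) = g (pt 2)
      rw [Equiv.symm_apply_apply, h3]⟩
  left_inv k := by
    apply Subtype.ext
    apply Subtype.ext
    show g * (g⁻¹ * ((k : ↥M24) : Equiv.Perm GolayPt) * g) * g⁻¹ = _
    group
  right_inv k := by
    apply Subtype.ext
    show g⁻¹ * (g * (k : Equiv.Perm GolayPt) * g⁻¹) * g = _
    group
  map_mul' a b := by
    apply Subtype.ext
    show g⁻¹ * (((a : ↥M24) : Equiv.Perm GolayPt) * ((b : ↥M24) : Equiv.Perm GolayPt)) * g =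
      (g⁻¹ * ((a : ↥M24) : Equiv.Perm GolayPt) * g) * (g⁻¹ * ((b : ↥M24) : Equiv.Perm GolayPt) * g)
    group

theorem mainM (p q r : GolayPt) (hpq : p ≠ q) (hpr : p ≠ r) (hqr : q ≠ r) (F : Type) [Field F]
    [Fintype F] (hF : Fintype.card F = 4) :
    Nonempty (↥(MGrp p q r) ≃* Matrix.ProjectiveSpecialLinearGroup (Fin 3) F) := by
  obtain ⟨g, hg, rfl, rfl, rfl⟩ := exists_map3 hpq hpr hqr
  have e : F4 ≃+* F := FiniteField.ringEquivOfCardEq (by rw [card_F4, hF])
  exact ⟨((conjEquivM hg).trans isoM21.symm).trans (Cfsg.Agent.Lib.Helper61_TableHom.pslEquiv e)⟩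

end Cfsg.Agent.Lib.Helper27_M21
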