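import Mathlib
import Cfsg.Prelude.Def_Spor_Mathieu
import Cfsg.Agent.S0378
import Cfsg.Agent.Lib.Helper27_EnumGroup

/-!
The outer automorphism group of the Mathieu group of degree 22 (the permutations of the code
fixing the extra point and the residue 0) has order two: a chain of stabilisers for two generators
of orders five and two, the classification of the images of the second generator, and the
automorphism induced by a permutation of the code exchanging the two fixed points.
-/

set_option autoImplicit false
open scoped Pointwise
open Cfsg
open Cfsg.Agent.Lib.Helper26_Golay
open Cfsg.Agent.Lib.Helper27_EnumGroup

namespace Cfsg.Agent.Lib.Helper27_OutM22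

/-! ### The data -/

/-- the table of the first generator, of order five -/
def TA : ℕ := 0xb954ba34f1619d0222567a6a398820

/-- the table of the second generator, of order two -/
def TB : ℕ := 0xbc90e9d8c55d1a17a9353c60410d80

/-- the table of an element conjugating the first generator to its square -/
def TN : ℕ := 0xba14d4ce2c80d67358957d0b270440

/-- the table of a permutation of the code exchanging the two fixed points -/
def TT : ℕ := 0x5883388a1c8f5140b46cd317aed7

/-- the table of the conjugate of the first generator by that permutation -/
def TA' : ℕ := 0xbd9412cdf431c7059182921cdac520

/-- the table of the conjugate of the second generator by that permutation -/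
def TB' : ℕ := 0xbd6cc22230585b47a552398b310dc0

/-- a level of the chain -/
def d0 : LevelData where
  n := 22
  U := 0xbb6511d4944bd060c167b298574c40bcc313aaa81bcab926d0638c223680bb8a915866911478558f6a0315d260bb6c61208e4aeb1615e792830a4c60bcd863a91512e0fb26450d223235c0bc90e1296d350b07d8f14d42c98c80b8dee8d54515187419360ce045c9a0ba54d1569274ecc3a2303142f19160badcf3a4ad105958222a19253a1ac0b90ed816b614df1538c808d8ba2640bd1a789ad2105e562a1522d239b900bae32658a810cf0ab5ca091f499920b99cf49da59c0910a2b61b242a2d40ba54d1a1d6a4e413d4c58c18b111e0bd2097a2ca1122c2c9b50acf31b8c0bb9a7346561b1700a8a823d229d2a0b9ab2229a898d21895d6831f412ce0bb6517412823e8c0d6ca59cc21cca0bb8a95d64a190c1859a863cf315220bb6c6a153522dc16224a79e2314e00bc90e9d8c55d1a17a9353c60410d80bdab49ca307b9ac5a928398a418820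
  W := [
    [],
    [false],
    [true, false],
    [true, true, false],
    [false, true, false],
    [true, true, true, false],
    [true, false, true, false],
    [false, true, true, false],
    [true, true, true, true, false],
    [true, true, false, true, false],
    [true, false, true, true, false],
    [false, true, false, true, false],
    [true, true, false, true, true, false],
    [true, false, true, false, true, false],
    [false, true, true, true, true, false],
    [true, true, true, false, true, true, false],
    [true, false, true, true, true, true, false],
    [true, true, true, true, false, true, true, false],
    [true, true, false, true, true, true, true, false],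
    [true, true, true, false, true, true, true, true, false],
    [false, true, true, true, true, false, true, true, false],
    [false, true, true, false, true, true, true, true, false]]
  P := [1]

/-- a level of the chain -/
def d1 : LevelData where
  n := 21
  U := 0xbc60f1496640d9551caeb3669a1020b914b6d0f1709922be1640e69a9820bc262a34e6645c54c915192cf52c20ba6913911578ca2b4e50730cb53420bb5349304a5c515b126f81dc628c20ba8ce149704518d8d92f3d4851cc20baeb494e30689e9b1d88510662b820bb0629ca2e7c1b63254522d07ad020b9a708ad45392c240d2c6bdd4ac820bbd439d9064c5c221e4d2b2aba4020bb86c852b68ad02510cf91db32a420b9ea41a14e341a25c532b3cb49b020bb2b032914191b65c93114cae79c20bc4ab22aad73242a40c941ed31bc20bbcac7555322e48a24d010ecd3c420bd18a1a6053924e44573abc466d820bcdf5219968ad2d5428329c4e92020b8ce55b9e8850d2ab264b444d4a820b9236a34ea64dc92bc6b4405235420bae089ca3578da6b1c945304971420bdab49ca307b9ac5a928398a418820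
  W := [
    [],
    [false, true, true, false, true, true, true, false],
    [true, false, true, true, false, true, true, true, false],
    [true, true, false, true, true, false, true, true, true, false],
    [true, true, true, false, true, true, false, true, true, true, false],
    [true, true, true, true, false, true, true, false, true, true, true, false],
    [false, true, true, true, true, false, true, true, false, true, false, true, false],
    [false, true, false, true, false, true, true, true, true, false, true, true, false],
    [true, false, true, true, true, true, false, true, true, false, true, false, true, false],
    [true, false, true, false, true, false, true, true, true, true, false, true, true, false],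
    [false, true, false, true, false, true, false, true, true, true, false, true, true, false],
    [true, true, false, true, false, true, false, true, true, true, true, false, true, true, false],
    [true, false, true, false, true, false, true, false, true, true, true, false, true, true, false],
    [false, true, true, true, true, false, true, true, true, false, true, true, false, true, false],
    [false, true, true, true, true, false, true, false, true, false, true, false, true, true, false],
    [false, true, false, true, true, true, true, false, true, false, true, true, true, true, false],
    [false, true, false, true, false, true, false, true, true, false, true, false, true, true, false],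
    [true, true, false, true, false, true, false, true, false, true, true, true, false, true, true, false],
    [true, false, true, true, true, true, false, true, true, true, false, true, true, false, true, false],
    [true, false, true, true, true, true, false, true, false, true, false, true, false, true, true, false],
    [false, true, false, true, true, true, true, false, true, false, true, false, true, true, true, false]]
  P := [2]

/-- a level of the chain -/
def d2 : LevelData where
  n := 20
  U := 0xbce301a9156accf4d8947158790820ba4ac71a0a5d9f53c9131c49468820b8e0c25545951c7321736d9f148820b918f596b64cdb172a83920f030820bade7a58a830e506d6644aa2c70820bc8b51a9ab341147cce98b88cb0820ba6c5256547315338e268356f40820ba483b1d748a146a95d36c24f60820b9916595336bea38920e64a8750820b99644469382aae2d9a39312778820bb948a58c391ca482d8d7a671a8820bba8b54263654adb22444bcd138820bb6aa9a1c44c6cb651f23987028820bb674ab064796d24292b31dd088820bc8732bc8b3d909554d4745ac80820ba0b31a60c3b64fa54ca8bacb20820baac32198f8c927995d58351458820bd5045b9e7824d11d9a564953a0820b954ba34f1619d0222567a6a398820bdab49ca307b9ac5a928398a418820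
  W := [
    [],
    [true],
    [true, true],
    [true, true, true],
    [true, true, true, true],
    [false, true, false, true, false, true, true, false, true, false, true, false, true, false],
    [true, false, true, false, true, false, true, true, false, true, false, true, false, true, false],
    [false, true, false, true, false, true, true, false, true, false, true, false, true, false, true],
    [true, true, false, true, false, true, false, true, true, false, true, false, true, false, true, false],
    [true, false, true, false, true, false, true, true, false, true, false, true, false, true, false, true],
    [true, true, true, false, true, false, true, false, true, true, false, true, false, true, false, true, false],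
    [true, true, false, true, false, true, false, true, true, false, true, false, true, false, true, false, true],
    [true, true, true, true, false, true, false, true, false, true, true, false, true, false, true, false, true, false],
    [true, true, true, false, true, false, true, false, true, true, false, true, false, true, false, true, false, true],
    [true, true, true, true, false, true, false, true, false, true, true, false, true, false, true, false, true, false, true],
    [false, true, true, false, true, true, true, true, false, true, false, true, true, true, false, true, false, true, true, false],
    [true, false, true, true, false, true, true, true, true, false, true, false, true, true, true, false, true, false, true, true, false],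
    [true, true, false, true, true, false, true, true, true, true, false, true, false, true, true, true, false, true, false, true, true, false],
    [false, true, false, true, false, true, true, false, true, true, false, true, true, true, true, false, true, false, true, false, true, true],
    [true, true, true, false, true, true, false, true, true, true, true, false, true, false, true, true, true, false, true, false, true, true, false]]
  P := [3]

/-- a level of the chain -/
def d3 : LevelData where
  n := 48
  U := 0xbd6cb22627638cfa224a834b318820b99b28523343aaa4b16f258a718820bb5135bdd63160aa1ea964a2418820b990f640a75466db512492dd518820ba8cb9d9cf4152d24990a9e3418820bb54c79cb044486aae534d1d618820bbec66acb4ac52c41e72241ca18820bce8d549c7216ab45a0c4be2618820bc12ba18ad946c79b11553dc418820bac8a69dd2a159333d3585a2818820bd5f04a1c6b166c911ab5522718820bbeb23b5ca6169682d0434e2918820ba0d6aa4b26c56a792143cdcc18820ba1474922b3398d85676a3cb218820bc8e49a8a884589a59af355cb18820bca0fb4dcb49507aaa862362c18820ba91094e346b9e63d8955b0a918820ba4eca91d491550b216d99a2f18820bc255651c4395a979a6a5a23618820bbd8459e29b39559b606920b418820bae703bcac245144b6caa99d218820bd268341c9595e46b2563d62a18820bd9e854ca46461534967a25cd18820b9d367add3814d263488a2a3518820b9166425d0996d4554ef9322d18820bd987929cda94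8f4ccd442e3018820b9e086be3593a6952d94b10a618820bcc8cb2a265b8f47c9096c0b518820bc92655a2c3b9706cea47d0a818820bb1f3a4232ab916218ed4a8ab18820bd58a410b37c4f66a6905c9c618820bb2ad350abb464f5408999dc818820bd087830af9c54b91aa8b35c918820bcd69958b5a44c4829ed621c718820bd17661a2a23933ac1a7448af18820ba64d4562f83a87312d362caa18820ba1b4255cc516469a5e7b422b18820bb4c93ae2453ac893e8c9d4b018820ba613220aa3c5f25d4cc6d9d418820ba9b5b48a93468864ceb811cf18820b9944a31d5694e85c2d27a63318820b9e545b4a64c6b023d56431d318820b92924d4b65c5b33a1867a9d018820bb2c9819c8795753d1536923218820bae957b6289ba44b1cd0524ac18820bc0ea332364b892451ebaccad18820b926faa22da3a0b6255231cb618820bdab49ca307b9ac5a928398a418820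
  W := [
    [],
    [true, true, true, true, false, true, false, true, false, true, true, false, true, false, true, false, true, false, true, true],
    [true, false, true, false, true, false, true, true, true, false, true, false, true, false, true, true, false, true, false, true, false],
    [false, true, true, false, true, true, false, true, false, true, true, true, true, false, true, true, false, true, false, true, true, false],
    [true, true, true, false, true, true, false, true, true, true, true, false, true, false, true, true, true, false, true, false, true, true, false, true],
    [true, true, true, false, true, false, true, false, true, true, false, true, true, false, true, true, true, true, false, true, false, true, false, true],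
    [false, true, true, true, false, true, true, true, false, true, true, false, true, false, true, true, false, true, true, true, false, true, false, true],
    [false, true, false, true, true, false, true, true, true, true, false, true, true, false, true, true, true, false, true, false, true, true, false, true, false],
    [true, true, false, true, true, false, true, true, true, false, true, false, true, false, true, true, false, true, true, true, false, true, true, true, true, false],
    [false, true, false, true, true, true, true, false, true, true, false, true, true, false, true, false, true, true, true, true, false, true, true, false, true, false],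
    [false, true, false, true, true, true, false, true, false, true, false, true, true, false, true, true, false, true, false, true, false, true, false, true, true, true],
    [true, true, true, true, false, true, true, true, false, true, true, true, false, true, true, false, true, false, true, true, false, true, true, true, false, true, false],
    [true, true, true, true, false, true, true, true, false, true, true, false, true, true, false, true, true, true, false, true, true, true, false, true, true, false, true],
    [true, true, false, true, false, true, false, true, false, true, false, true, true, false, true, true, true, true, false, true, false, true, false, true, true, true, true],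
    [true, false, true, true, false, true, true, true, true, false, true, true, false, true, true, true, true, false, true, false, true, true, true, false, true, true, false],
    [false, true, true, false, true, true, true, true, false, true, true, false, true, false, true, true, false, true, true, false, true, true, true, true, false, true, true],
    [true, true, false, true, true, false, true, true, false, true, true, true, false, true, false, true, false, true, true, true, false, true, false, true, false, true, true, false],
    [true, true, false, true, true, false, true, false, true, true, true, false, true, false, true, true, false, true, false, true, false, true, true, false, true, true, true, true],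
    [true, false, true, true, true, false, true, true, true, false, true, true, false, true, false, true, true, false, true, true, true, false, true, false, true, true, true, true],
    [true, false, true, true, false, true, false, true, true, false, true, false, true, false, true, true, true, false, true, true, false, true, true, false, true, true, false, true],
    [true, false, true, true, false, true, false, true, false, true, true, false, true, true, false, true, true, true, false, true, true, true, true, false, true, true, false, true],
    [true, false, true, false, true, true, false, true, false, true, true, false, true, true, true, false, true, true, true, true, false, true, true, false, true, true, true, true],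
    [false, true, true, false, true, false, true, true, false, true, true, false, true, false, true, false, true, true, true, true, false, true, false, true, true, false, true, false],
    [false, true, false, true, true, false, true, false, true, false, true, true, false, true, true, true, true, false, true, false, true, true, false, true, true, true, false, true],
    [false, true, false, true, false, true, true, true, true, false, true, false, true, true, false, true, true, true, true, false, true, true, false, true, false, true, true, true],
    [true, true, true, false, true, false, true, true, false, true, false, true, false, true, true, false, true, true, true, false, true, false, true, true, false, true, true, false, true],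
    [true, true, false, true, true, true, false, true, false, true, true, true, true, false, true, true, false, true, true, true, false, true, true, true, true, false, true, false, true],
    [true, true, false, true, true, true, false, true, false, true, true, false, true, true, false, true, true, true, false, true, false, true, true, false, true, false, true, true, false],
    [true, false, true, true, false, true, true, true, true, false, true, false, true, false, true, true, false, true, true, true, false, true, true, false, true, false, true, true, false],
    [true, false, true, false, true, true, true, true, false, true, false, true, true, false, true, true, true, false, true, false, true, true, true, false, true, false, true, false, true],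
    [true, false, true, false, true, false, true, true, false, true, true, true, false, true, true, true, false, true, false, true, true, false, true, true, false, true, true, true, false],
    [false, true, true, true, true, false, true, true, true, false, true, true, true, false, true, false, true, false, true, false, true, true, true, false, true, true, false, true, false],
    [false, true, true, true, false, true, true, false, true, true, true, true, false, true, false, true, true, true, false, true, false, true, true, true, false, true, true, true, true],
    [false, true, true, false, true, false, true, false, true, true, false, true, false, true, true, false, true, true, false, true, true, true, true, false, true, false, true, true, false],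
    [true, true, true, true, false, true, false, true, true, true, false, true, true, true, false, true, false, true, true, false, true, false, true, true, true, false, true, true, false, true],
    [true, true, true, false, true, false, true, true, false, true, true, true, false, true, false, true, false, true, true, false, true, false, true, true, false, true, true, false, true, false],
    [true, false, true, true, false, true, true, true, true, false, true, false, true, true, false, true, true, true, false, true, true, false, true, false, true, true, false, true, false, true],
    [true, false, true, true, false, true, true, true, false, true, true, true, true, false, true, true, true, false, true, true, true, true, false, true, false, true, true, false, true, true],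
    [false, true, true, true, false, true, false, true, false, true, true, true, false, true, false, true, false, true, true, true, false, true, true, false, true, true, false, true, false, true],
    [false, true, false, true, true, true, false, true, true, true, true, false, true, true, false, true, false, true, true, true, false, true, false, true, true, false, true, true, true, false],
    [false, true, false, true, true, false, true, true, true, true, false, true, false, true, false, true, false, true, true, true, false, true, true, false, true, true, false, true, true, false],
    [true, true, true, false, true, true, true, false, true, true, true, true, false, true, false, true, true, false, true, false, true, true, false, true, true, true, false, true, true, true, true],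
    [true, true, true, false, true, false, true, true, false, true, true, false, true, true, true, false, true, false, true, true, false, true, false, true, false, true, false, true, true, true, false],
    [true, false, true, false, true, true, true, false, true, false, true, false, true, true, false, true, false, true, false, true, true, false, true, true, true, true, false, true, false, true, false],
    [false, true, true, false, true, true, false, true, false, true, true, true, false, true, false, true, false, true, true, true, false, true, true, false, true, false, true, true, true, false, true],
    [false, true, false, true, true, true, true, false, true, false, true, true, false, true, false, true, false, true, false, true, false, true, true, false, true, true, true, true, false, true, true],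
    [false, true, false, true, false, true, false, true, false, true, true, true, false, true, true, false, true, false, true, true, true, true, false, true, true, true, false, true, false, true, false],
    [true, false, true, false, true, true, true, false, true, true, true, false, true, false, true, true, true, true, false, true, true, true, false, true, false, true, false, true, true, true, true, false]]
  P := [4, 5]

/-- relators of the two generators -/
def rels : List (List Bool × ℕ) := [([false], 2), ([false, true], 8), ([true, true, false], 7), ([false, true, true, false, true, false, true, false, true, true, true, true], 6)]

/-- the admissible images of the second generator, with conjugating tables -/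
def KS : List (ℕ × ℕ × List (ℕ × ℕ)) := [(1, TA, [(0xbc90e9d8c55d1a17a9353c60410d80, 0xbdab49ca307b9ac5a928398a418820), (0xbb2a76ca2e0c27659509a1942191e0, 0xba0b31a60c3b64fa54ca8bacb20820), (0xbd6d488e704398d1192f0a8a492ce0, 0xbaac32198f8c927995d58351458820), (0xbd9c29bc23955ac59c855190985220, 0xbd5045b9e7824d11d9a564953a0820), (0xbaa3414aa17b8a4358e84adac1ce00, 0xb954ba34f1619d0222567a6a398820), (0xbc6b42aacb785a78486261a644a1c0, 0x40e932cb650c8893e8cace2d70457), (0xb8a9594c8f8390c5a92d284f11d8c0, 0x45f2492a544c766b170550ee30457), (0xbb9ed9c990ada9152c281984439520, 0x1d8d90d55b52657409142de648457), (0xb8d2c9c9e88b83458ab0390a6b29a0, 0x3226752c8a916a49e6f28e1268457), (0xbd854786279adaa73124814c81d640, 0x3e0e6cd0a2ae9534467b118990457)])]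

/-- the check that a table describes an element of the group -/
def inG (T : ℕ) : Bool :=
  tblInM24 T && (img T 23 == 23) && (img T 0 == 0)

/-- the check that a table describes a permutation of the code preserving or exchanging the
two fixed points -/
def inGhat (T : ℕ) : Bool :=
  tblInM24 T && (((img T 23 == 23) && (img T 0 == 0)) || ((img T 23 == 0) && (img T 0 == 23)))

/-- the check on each product of the chain -/
def chk (C U : ℕ) : Bool := candOK rels KS C U && outOK TA TB TA' TB' C U

/-! ### The checks -/

theorem chain_ok : chainOK TA TB d0 d1 d2 d3 = true := by decide +kernel

set_option maxRecDepth 1000000 in
theorem loop_ok : loop4 d0.n d0.U d1.n d1.U d2.n d2.U d3.n d3.U chk = true := by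
  decide +kernel

theorem gens_in : inG TA = true ∧ inG TB = true ∧ inG TN = true ∧ inGhat TT = true ∧
    img TT 23 = 0 := by decide +kernel

theorem survs_in : ∀ ks ∈ KS, ∀ sv ∈ ks.2.2, inGhat sv.2 = true ∧
    survOK TA TB ks.2.1 sv = true := by
  decide +kernel

theorem small_checks : (∀ x < 24, iterN (imgF TA) 5 x = x) ∧ (∃ x < 24, imgF TA x ≠ x) ∧
    (∀ x < 24, imgF TN (imgF TA x) = iterN (imgF TA) 2 (imgF TN x)) ∧
    (∀ ks ∈ KS, ∀ x < 24, imgF ks.2.1 x = iterN (imgF TA) ks.1 x) ∧
    relsHoldF rels (imgF TA) (imgF TB) = true ∧ ([false], 2) ∈ rels ∧
    (∀ x < 24, imgF TT (imgF TA x) = imgF TA' (imgF TT x)) ∧
    (∀ x < 24, imgF TT (imgF TB x) = imgF TB' (imgF TT x)) := by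
  decide +kernel

/-! ### The group -/

theorem mem_M22 {g : Equiv.Perm GolayPt} : g ∈ Spor.M22 ↔
    g ∈ M24 ∧ g none = none ∧ g (some 0) = some 0 := by
  unfold Spor.M22 Spor.M23
  rw [Subgroup.mem_inf, Subgroup.mem_inf, and_assoc]
  rfl

theorem card_M22 : Nat.card ↥Spor.M22 = 443520 := by
  rw [← Cfsg.Agent.S0378.result (none : GolayPt) (some 0) (by decide)]
  apply Nat.card_congr
  exact
    { toFun := fun k => ⟨⟨k.1, (mem_M22.1 k.2).1⟩, Subgroup.mem_inf.2
        ⟨MulAction.mem_stabilizer_iff.2 (mem_M22.1 k.2).2.1,
         MulAction.mem_stabilizer_iff.2 (mem_M22.1 k.2).2.2⟩⟩
      invFun := fun k => ⟨k.1.1, mem_M22.2 ⟨k.1.2,
        MulAction.mem_stabilizer_iff.1 (Subgroup.mem_inf.1 k.2).1,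
        MulAction.mem_stabilizer_iff.1 (Subgroup.mem_inf.1 k.2).2⟩⟩
      left_inv := fun k => rfl
      right_inv := fun k => rfl }

theorem idx_none : idx (none : GolayPt) = 23 := by decide

theorem idx_zero : idx (some 0 : GolayPt) = 0 := by decide

theorem apply_of_img {σ : Equiv.Perm GolayPt} {T : ℕ} (hT : Represents σ T) (p q : GolayPt)
    (h : img T (idx p) = idx q) : σ p = q := by
  apply idx_injective
  rw [hT p, h]

theorem exists_of_inG {T : ℕ} (h : inG T = true) : ∃ σ ∈ Spor.M22, Represents σ T := by
  unfold inG at h
  simp only [Bool.and_eq_true, beq_iff_eq] at h
  obtain ⟨⟨h1, h2⟩, h3⟩ := h
  obtain ⟨σ, hσ, hT⟩ := exists_of_tblInM24 h1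
  refine ⟨σ, mem_M22.2 ⟨hσ, ?_, ?_⟩, hT⟩
  · exact apply_of_img hT _ _ (by rw [idx_none, h2])
  · exact apply_of_img hT _ _ (by rw [idx_zero, h3])

/-- the permutations of the code preserving or exchanging the two fixed points -/
def NN : Set (Equiv.Perm GolayPt) :=
  {n | n ∈ M24 ∧ ((n none = none ∧ n (some 0) = some 0) ∨
    (n none = some 0 ∧ n (some 0) = none))}

theorem exists_of_inGhat {T : ℕ} (h : inGhat T = true) : ∃ σ ∈ NN, Represents σ T := by
  unfold inGhat at h
  simp only [Bool.and_eq_true, Bool.or_eq_true, beq_iff_eq] at h
  obtain ⟨h1, h2⟩ := h
  obtain ⟨σ, hσ, hT⟩ := exists_of_tblInM24 h1
  refine ⟨σ, ⟨hσ, ?_⟩, hT⟩
  rcases h2 with ⟨h2, h3⟩ | ⟨h2, h3⟩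
  · left
    exact ⟨apply_of_img hT _ _ (by rw [idx_none, h2]),
      apply_of_img hT _ _ (by rw [idx_zero, h3])⟩
  · right
    exact ⟨apply_of_img hT _ _ (by rw [idx_none, idx_zero, h2]),
      apply_of_img hT _ _ (by rw [idx_zero, idx_none, h3])⟩

theorem inv_apply_of_apply {n : Equiv.Perm GolayPt} {p q : GolayPt} (h : n p = q) :
    n⁻¹ q = p := by
  rw [← h]
  exact Equiv.symm_apply_apply n p

theorem normalizes_of_mem_NN {n : Equiv.Perm GolayPt} (hn : n ∈ NN) :
    Normalizes Spor.M22 n := by
  obtain ⟨hM, hcase⟩ := hn
  constructor
  · intro g hg
    obtain ⟨g1, g2, g3⟩ := mem_M22.1 hg
    refine mem_M22.2 ⟨M24.mul_mem (M24.mul_mem hM g1) (M24.inv_mem hM), ?_, ?_⟩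
    · show n (g (n⁻¹ none)) = none
      rcases hcase with ⟨h1, h2⟩ | ⟨h1, h2⟩
      · rw [inv_apply_of_apply h1, g2, h1]
      · rw [inv_apply_of_apply h2, g3, h2]
    · show n (g (n⁻¹ (some 0))) = some 0
      rcases hcase with ⟨h1, h2⟩ | ⟨h1, h2⟩
      · rw [inv_apply_of_apply h2, g3, h2]
      · rw [inv_apply_of_apply h1, g2, h1]
  · intro g hg
    obtain ⟨g1, g2, g3⟩ := mem_M22.1 hg
    refine mem_M22.2 ⟨M24.mul_mem (M24.mul_mem (M24.inv_mem hM) g1) hM, ?_, ?_⟩
    · show n⁻¹ (g (n none)) = none
      rcases hcase with ⟨h1, h2⟩ | ⟨h1, h2⟩
      · rw [h1, g2, inv_apply_of_apply h1]
      · rw [h1, g3, inv_apply_of_apply h1]
    · show n⁻¹ (g (n (some 0))) = some 0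
      rcases hcase with ⟨h1, h2⟩ | ⟨h1, h2⟩
      · rw [h2, g3, inv_apply_of_apply h2]
      · rw [h2, g2, inv_apply_of_apply h2]

/-! ### The automorphisms -/

theorem cover : ∀ j < 5, j ≠ 0 → ∃ k ∈ KS.map (·.1), ∃ m, j % 5 = (k * 2 ^ m) % 5 := by
  intro j hj hj0
  refine ⟨1, by simp [KS], ?_⟩
  interval_cases j
  · exact absurd rfl hj0
  · exact ⟨0, by norm_num⟩
  · exact ⟨1, by norm_num⟩
  · exact ⟨3, by norm_num⟩
  · exact ⟨2, by norm_num⟩

theorem main : Nat.card (Cfsg.Out ↥Spor.M22) = 2 := by
  obtain ⟨a, ha, hA⟩ := exists_of_inG gens_in.1
  obtain ⟨b, hb, hB⟩ := exists_of_inG gens_in.2.1
  obtain ⟨t, htNN, hT⟩ := exists_of_inGhat gens_in.2.2.2.1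
  have hcard4 : Nat.card ↥Spor.M22 = d0.n * d1.n * d2.n * d3.n := by
    rw [card_M22]; rfl
  have hgenu' := enum4 hA hB ha hb d0 d1 d2 d3 chain_ok hcard4 chk loop_ok
  have hgenu : ∀ g ∈ Spor.M22, g ∈ Subgroup.closure ({a, b} : Set (Equiv.Perm GolayPt)) ∧
      ∃ C U, RepF g (fun x => imgF C (imgF U x)) ∧ candOK rels KS C U = true := by
    intro g hg
    obtain ⟨h1, C, U, h2, h3⟩ := hgenu' g hg
    unfold chk at h3
    rw [Bool.and_eq_true] at h3
    exact ⟨h1, C, U, h2, h3.1⟩
  obtain ⟨h1, h2, h3, h4, h5, h6, h7, h8⟩ := small_checks
  have : Fact (Nat.Prime 5) := ⟨by norm_num⟩
  have hcard : Nat.card ↥Spor.M22 = 5 * 88704 := by rw [card_M22]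
  have hNN : ∀ n ∈ NN, Normalizes Spor.M22 n := fun n hn => normalizes_of_mem_NN hn
  have hsurv : ∀ ks ∈ KS, ∀ sv ∈ ks.2.2, (∃ n ∈ NN, Represents n sv.2) ∧
      survOK TA TB ks.2.1 sv = true := by
    intro ks hks sv hsv
    obtain ⟨e1, e2⟩ := survs_in ks hks sv hsv
    exact ⟨exists_of_inGhat e1, e2⟩
  have hall := aut_classify hA hB ha hb rels KS hgenu 5 2 88704 hcard (by norm_num) h1 h2 TN
    (exists_of_inG gens_in.2.2.1) h3 h4 cover h5 h6 NN hNN hsurv
  have ht1 : t none = some 0 :=
    apply_of_img hT _ _ (by rw [idx_none, idx_zero, gens_in.2.2.2.2])
  have ht2 : t (some 0) = none := by
    rcases htNN.2 with ⟨h, -⟩ | ⟨-, h⟩
    · rw [h] at ht1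
      exact absurd ht1 (by decide)
    · exact h
  refine card_out_eq_two Spor.M22 ⟨a, ha⟩ ⟨b, hb⟩ NN hNN t (hNN t htNN) ?_ ?_ hall
  · intro n hn
    rcases hn.2 with ⟨e1, e2⟩ | ⟨e1, e2⟩
    · exact Or.inl (mem_M22.2 ⟨hn.1, e1, e2⟩)
    · refine Or.inr (mem_M22.2 ⟨M24.mul_mem hn.1 htNN.1, ?_, ?_⟩)
      · show n (t none) = none
        rw [ht1, e2]
      · show n (t (some 0)) = some 0
        rw [ht2, e1]
  · intro g
    obtain ⟨-, C, U, hg2, hg3⟩ := hgenu' g g.2
    unfold chk at hg3
    rw [Bool.and_eq_true] at hg3
    exact not_conj_of_outOK hT hA hB h7 h8 hg2 hg3.2

end Cfsg.Agent.Lib.Helper27_OutM22
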