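import Mathlib
import Cfsg.Prelude.Def_Spor_Mathieu
import Cfsg.Agent.Lib.Helper27_OutM22

/-!
The Mathieu group of degree 22 (the permutations of the code fixing the extra point and the
residue 0) has no subgroups of order 7920 or 2112: such a subgroup may be taken to contain a fixed
element of order eleven; every element of the group then either preserves a cycle of that element
or gives, by a short word, an element of order seven; and the permutations preserving the cycle are
too few, by the count of the images of the cycle.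
-/

set_option autoImplicit false
open scoped Pointwise
open Cfsg
open Cfsg.Agent.Lib.Helper26_Golay
open Cfsg.Agent.Lib.Helper27_EnumGroup
open Cfsg.Agent.Lib.Helper27_OutM22

namespace Cfsg.Agent.Lib.Helper27_M22Index

/-- a point moved by a permutation and fixed by its seventh power lies in a cycle of length seven -/
theorem seven_dvd_orderOf {α : Type*} (x : Equiv.Perm α) (p : α) (h1 : x p ≠ p)
    (h7 : (x ^ 7) p = p) : 7 ∣ orderOf x := by
  have hper : Function.IsPeriodicPt x 7 p := by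
    show (x : α → α)^[7] p = p
    rw [Equiv.Perm.iterate_eq_pow]
    exact h7
  have hmp : Function.minimalPeriod x p ∣ 7 := hper.minimalPeriod_dvd
  have hne : Function.minimalPeriod x p ≠ 1 := by
    intro h
    apply h1
    have := Function.isPeriodicPt_minimalPeriod x p
    rw [h] at this
    exact this
  have h7' : Function.minimalPeriod x p = 7 := by
    rcases (Nat.dvd_prime (by norm_num : Nat.Prime 7)).1 hmp with h | h
    · exact absurd h hne
    · exact h
  rw [← h7']
  apply Function.IsPeriodicPt.minimalPeriod_dvd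
  show (x : α → α)^[orderOf x] p = p
  rw [Equiv.Perm.iterate_eq_pow, pow_orderOf_eq_one]
  rfl

/-- counting the cosets of a subgroup preserving a set of points by the images of the set -/
theorem card_mul_le_of_images {α : Type*} [DecidableEq α] [Finite α]
    (K G : Subgroup (Equiv.Perm α)) (hKG : K ≤ G)
    (O : Finset α) (hK : ∀ k ∈ K, O.image k = O) (m : ℕ) (g : Fin m → Equiv.Perm α)
    (hg : ∀ i, g i ∈ G) (hinj : ∀ i j, O.image (g i) = O.image (g j) → i = j) :
    m * Nat.card ↥K ≤ Nat.card ↥G := by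
  have : Nat.card (Fin m × ↥K) ≤ Nat.card ↥G := by
    apply Nat.card_le_card_of_injective
      (fun ik : Fin m × ↥K => (⟨g ik.1 * ik.2.1, G.mul_mem (hg ik.1) (hKG ik.2.2)⟩ : ↥G))
    rintro ⟨i, k⟩ ⟨j, k'⟩ e
    have e' : g i * k.1 = g j * k'.1 := congrArg Subtype.val e
    have him : ∀ (i : Fin m) (k : ↥K), O.image (g i * k.1) = O.image (g i) := by
      intro i k
      have : (⇑(g i * k.1) : α → α) = (g i) ∘ k.1 := rfl
      rw [this, ← Finset.image_image, hK k.1 k.2]
    have hij : i = j := by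
      apply hinj
      rw [← him i k, ← him j k', e']
    subst hij
    have : k.1 = k'.1 := mul_left_cancel e'
    rw [Prod.mk.injEq]
    exact ⟨rfl, Subtype.ext this⟩
  rwa [Nat.card_prod, Nat.card_fin] at this


/-! ### The data -/

/-- the table of an element of order eleven -/
def TC : ℕ := 0xb99cf49da59c0910a2b61b242a2d40

/-- the packed tables of its powers -/
def TCU : ℕ := 0xba1237958ea56261066a95a0d39160baa67a40d51a59622de12a1d193440b85f21bac93ccc868a8b82aac2c480bae853d51393eca8906270526831a0b88709254f2d101634e4aae7671a20b90ee2cc3480d4b3464d489e8ad980bb65583d6371c22b30b19928a4a0c0bc4a975047ac96441a0c7b4619aac0bb213a8c924944d559c6a44eb78500b99cf49da59c0910a2b61b242a2d40bdab49ca307b9ac5a928398a418820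

/-- one of its two cycles of length eleven -/
def O1L : List ℕ := [1, 10, 8, 22, 6, 12, 17, 13, 4, 2, 11]

/-- the same cycle as a set of bits -/
def O1M : ℕ := 0x423d56

/-- the words `c ^ i₁ * g * c ^ i₂ * g * ⋯` tried after the words `c ^ i * g` -/
def WL : List (List ℕ) := [[9, 3, 10], [1, 6, 10], [6, 9, 5], [8, 2, 4], [7, 10, 1], [7, 9, 0], [1, 6, 8], [7, 8, 5], [1, 4, 0], [6, 8, 7], [2, 8, 5], [0, 7, 3], [0, 10, 9], [5, 7]]

/-- tables of elements of the group carrying that cycle to pairwise different sets -/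
def REPS : List ℕ := [0xbac2f65905a4143736a78a64299880, 0xbbd439d9064c5c221e4d2b2aba4020, 0xb9a7495505b38ec50d220bc905c5a0, 0xbc5951d90658a0f5242e91267a34a0, 0xbac8fa9993458ad48e82506078c9c0, 0xb8ed43bc8a2c43048a6cac9c65b500, 0xbb2c62d13574c926bc2a40c478ae00, 0xb8d0c719e95cc25892ad50a92b1e00, 0xbbcb59d8c8589b191c8e50469a4180, 0xb9e954b11178db350a4171166b1600, 0xbcdf5219968ad2d5428329c4e92020, 0xbbec31290b3d5d36264569226a0600, 0xb8dc2a59106148b0b6a734e4f4c540, 0xbcc6c93549a1e0443caea9ac20c560, 0xbce91b34e4aa90972c62285f061a40, 0xbaa341d9e5ab82d3492b3a09014d80, 0xba19059c25b3e2469ab31b852a2540, 0xb8556854ad12e493a0ce20d93a45e0, 0xbc2b4158a36212b8b5ca34df2204e0, 0xbc0a9aae4a3506d73028b4c4f39220, 0xb98ab1d9f1a882851e149366971180, 0xb9031b2c45a9a8a63ce39a1b0925c0, 0xb86d53a14610dcd616499d22b23e00, 0xb8e7044a2b2d5466d082b04ec7b920, 0xbb53264d05188f472eaa205f0b1a20, 0xbaea79362e99028652c928866541e0, 0xb9ad314a353ae83625450c10f73480, 0xbbccd2c52e5550722e02b066365240, 0xb8d243ce0eb55ed1314532c328a280,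 0xbadca7b4359a62560ac44520638e40, 0xb8e16aa9cc0ac89450d178a6d39640, 0xb9ea41a14e341a25c532b3cb49b020, 0xbc8cd404953b8aa4ac74b4670609e0, 0xbbcac7555322e48a24d010ecd3c420, 0xbce458a4362398838954a8ded82cc0, 0xb92a373547b25f312e14332418a0a0, 0xbd0f54593108e6d2924f80966629c0, 0xb8d4c79c960b8a648a54ace306ad00, 0xbc24653da9b20ac98ce2a8574891c0, 0xbd0b14ca0d1ac2a7cd06b088eab0e0, 0xb9dd2b40cda95515d182404647cd20, 0xba84e230a1941b33d1f1aa566b2060, 0xbd0720c2762bd877452233564aa140, 0xb99a9a86968490574d635308f38a20, 0xb8ec25b90f6c8949b2a6384b04aa20, 0xbb8e8ac92660a6d812cb28df10aa80, 0xb9d4d40dd6912864c425aac5064de0, 0xbd2d1832750a552689c442de730ca0, 0xb8d36818285b5ea88ab3290f2651c0, 0xba989b1e9580de574452334880ae60, 0xbcaab139e860c948b6ca09cb049a60, 0xb9452a1d0133d2480e2cb3a6d55560, 0xbba450d15114de65b2c81c09569d20, 0xbc60f1496640d9551caeb3669a1020, 0xbbd07b34d4991950ba4980c5151560, 0xbb4b359c2cb522e40e503113578940, 0xbb48335aa854a072adc20c68f9b120, 0xb85e45d8d4995924293518a0e89da0,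 0xb85a789a565d0657120850a6f4b2a0, 0xbcac3a442f44e0d5112c72cc538aa0, 0xb92215d9141b0aa348f5989ae7a600, 0xba9eca443641e0b938a32344999aa0, 0xb9236a34ea64dc92bc6b4405235420, 0xbb52eb046a79aa89126b29e9180980, 0xb8ce55b9e8850d2ab264b444d4a820, 0xba4361354764ea444a0b28e8f33a20, 0xb84eba21d31d9e9554c52098d84640, 0xb84aa7d90914cce855b2a2ce41b220, 0xbb873495564362fa90c209d6ca4240, 0xbac30450562ba7579e241aa4c499a0, 0xbb86c852b68ad02510cf91db32a420, 0xbb641121c4844eb79595b0cc9a4d40, 0xb90c86382aa48f5808a3b2e297cda0, 0xb9102a3547925731bcae886cc35600, 0xb8a437d2ab6d88e985113b2054a8c0, 0xb95835aa28b4829699d38568f110e0, 0xbced0325922503538d4e4096d2be20, 0xbce4e499960ac8d38c5042a9579620, 0xba8742060cb15b33b966425f195440, 0xb894159c926521148ece44cc56bea0, 0xba8ed2c2b67a4462062872e8364e40, 0xbb2cf2b92ba0e0a099b28cc4745480, 0xb89a6790688a61594e81b156763940, 0xbb5f1a16a91854b9218eb40c414ce0, 0xba5c6392a858a0394ec5a062f53580, 0xb906c52614b16ae94d624062f3b4c0, 0xb94ee540767ae28930466a6950cc80,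 0xbbad4220f02882aac5934c8666ade0, 0xba4b4134ea79173849150c6cc33860, 0xbc44d1acb4b320f548f3491c135500, 0xbcc890b068b1df16c0c274a8b2aaa0, 0xbb270b1dae90514509e389166496a0, 0xbd632b30a83984e5860a6d26478d20, 0xbad429cab149a8321ecd8050f71580, 0xba4315d8a28310733d4e9d1b591060, 0xb89b362d4471466a06c77c23592120, 0xb982814ab178cab52594b126773600, 0xbc07671eac8ad24288c19526d521e0, 0xbc4d072e8cb16af390239266a43440, 0xbb5360ceb010ceea3d0a23165944c0, 0xba5867ca03286a78ad549b9a8b1040, 0xbb5135aa2cb08352c1e33248e950e0, 0xbadeab16470ce8ea8dac88889820c0, 0xbd4ef9c028545944b6c45c8461b8a0, 0xbd613220f62b432724d48a96c10de0, 0xb8d660bc8a444f0931c26a674b54a0, 0xbd09619c2d4b24e454c28be6b2aa00, 0xbc8f09d8a6206b44a9ed431cb10e20, 0xbd0277a1569b2a46c8b1819221b960, 0xbbd0eb4cc568d6991c355105185180, 0xbd02c54c48b34653c60b2552f33a40, 0xbc54b116b385a443b8c84d18d185e0, 0xb91a29a14c7d9740c8b170d27342a0, 0xbc0f620ead14d2ea44d20956c53d00, 0xbd0412b91233ea35122bb1db382580, 0xbcd682443233d2d515c281c74b5580,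 0xbae32b314920e8eace057882769900, 0xbaca78c28a0c90d708c3b118f4cea0, 0xbcc41b354971ca4aae1444643619e0, 0xbae421aaaf3a2930a6d0690d1730a0, 0xbc5a9431d22dab0a4de25048b38cc0, 0xbd1a6926050906e7cc51b216a654e0, 0xba5cf6aa4884565acec36044621e80, 0xbb5881c64133eb3850e253885b2560, 0xbac2872611208b392ad569ccf1b280, 0xb890123c6d82e2794ca6b513573140, 0xb9167324ae1c1f4ac512b35420b260, 0xbc8c978d5620a336d0b5584ec43a00, 0xbc4ab22aad73242a40c941ed31bc20, 0xb865183928a4c966ad8aa886733ca0, 0xb91a39d5415c9ee65a06a092789500, 0xb9d0415554895a37993692e0e98580, 0xb8aa1a45697cd903110d50dd691ca0, 0xb89f162c8aa98e5b06836a66e92200, 0xbda427198baccad51121a3e3038d00, 0xbda2dab0883d20a4bc4e91a6508d60, 0xbd8e59ca112310e4a96da868f188c0, 0xbdab49ca307b9ac5a928398a418820, 0xbaeb494e30689e9b1d88510662b820, 0xb96509a1cc0d5267b49150d67a0ac0, 0xb86a8616d2151268a9cd591e39c0e0, 0xbca0d9b90f0d2c3516ac888c43ad20, 0xb914b6d0f1709922be1640e69a9820, 0xb892d8d175639f631061522703c8a0, 0xba6a4995875083643e2b6ba9230e00,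 0xb86131d6445aa2e2d9a8a08e97b0c0, 0xb914f6b8e6a0c3682cb2a8a6944580, 0xba5ca092cf12e121c6a5a1e68331a0, 0xbd9e4a560a42426939a36166712e20, 0xbd92c1a9af094ce3c970a929198900, 0xb99b50ad0715189240b69c46a73e40, 0xb9a0f2290da06c371629a9e5312d80, 0xbcc896045591d6669623a59cf82900, 0xba6913911578ca2b4e50730cb53420, 0xbbe28a54b2188f0b342974d6c21940, 0xbbd95a24a620e13b2a4869e2b105c0, 0xbba46286686255668e84abd6788a00, 0xb86956bdcb2c14644c8248d87946c0, 0xb9830a22c263d5171ead1ce454ac80, 0xbcd1449accab60b10ce4945c179540, 0xba68b6aad5299f044e420b07121dc0, 0xbb0886c4af850cbb09c14cc72aa8e0, 0xbc8251390f85143b3624acd6c498e0, 0xbcde11d4a4a455693988588c9834e0, 0xbb12ea9e4642acf192222869382da0, 0xb902c816d55c5133394f3c9a2a2460, 0xb91882d5af0d16654dd0388728d920, 0xbae9171acd230f32c14944aa20bc60, 0xbb903126058d26479ab60b1476c960, 0xbb2b032914191b65c93114cae79c20, 0xb89d48110335669584af644ea6da40, 0xb8c272905552568831f3a59d16c8c0, 0xbc943a560f40825b30e47196d4ce20, 0xba4c1156547b2138a0f652dae190a0,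 0xbccab7b068a9c3190a90534c923ac0, 0xba0b3254f283596a262e329e118960, 0xb90d2734ea0ce8982c4fa94768a180, 0xbbc8b44433aca0d489c3530a735a80, 0xb8d322a8cd205688522e65a6fa9c40, 0xbd2706b9125be23b32a6524a209c80, 0xbae089ca3578da6b1c945304971420, 0xba96171992a9cafb5202234699c500, 0xbb9875d552985046da062c523151e0, 0xba0eb995955182e4b6447d87115200, 0xb88cb88ed34aa92206ac81de8715a0, 0xb9a708ad45392c240d2c6bdd4ac820, 0xbd1672b9e3522d231262a8591825a0, 0xbc964720aaaa591b51a20c2671bcc0, 0xba1eeac54564849184f631173851a0, 0xb92af3c5680b6ce3093328e0c95140, 0xbda295895220cd36ba087b0e1ad0a0, 0xba60e1b4ea591f32daa861a418d040, 0xbd1b53c82519a167890b54d8e89120, 0xbb43511acc8ad132b8e355090925e0, 0xb9041524ae94114b4de3ab0cb3b620, 0xbadc96ca3508e66650472d888829e0, 0xbcca221acc7346ba4149786b1920e0, 0xbcc2fa8c4a448968c194594c773520, 0xbc6b2511a84ae6e340362d04c78ce0, 0xb8c308d4aa21ed44990c7b5c25ca60, 0xbd98651d1583452985e548c948adc0, 0xbda3560a01190cd99d487add249680, 0xbac41a9acd4b15340ce42bdd48ca00,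 0xbd2a21a4b033a645c512605476d9e0, 0xbd18a1a6053924e44573abc466d820, 0xbae01a215323ed57262518a4d39980, 0xbb5349304a5c515b126f81dc628c20, 0xbc228235529d0ebad9c5331e310520, 0xb8dd3a2901235868162958a4f3d6c0, 0xb89243ccb49216d185508bd96355c0, 0xb8a4e3ac8a8198548e6145a917b6a0, 0xb86349a9a3220e6a95d6589f264120]

/-! ### The checks on tables -/

/-- disjunction of `f 0, …, f (n-1)`, by the recursors -/
def anyN (f : ℕ → Bool) (n : ℕ) : Bool :=
  Nat.rec (motive := fun _ => Bool) false
    (fun k acc => Bool.rec (motive := fun _ => Bool) acc true (f k)) n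

/-- the point `p` is moved by `f` and fixed by its seventh iterate -/
def cyc7 (f : ℕ → ℕ) (p : ℕ) : Bool :=
  forceN (f p) fun q => (!(Nat.beq q p)) && Nat.beq (f (f (f (f (f (f q)))))) p

/-- the point map of a product of the chain -/
def gOf (C U : ℕ) (x : ℕ) : ℕ := imgF C (imgF U x)

/-- the point map of the word `c ^ i₁ * g * c ^ i₂ * g * ⋯` -/
def evE (G : ℕ → ℕ) : List ℕ → ℕ → ℕ
  | [], x => x
  | i :: e, x => imgF (tblAt TCU i) (G (evE G e x))

/-- some `c ^ i * g` has a cycle of length seven through the point 1 -/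
def singles (C U : ℕ) : Bool :=
  anyN (fun i => forceN (tblAt TCU i) fun T => cyc7 (fun x => imgF T (imgF C (imgF U x))) 1) 11

/-- some word of the list has a cycle of length seven through the point 1 -/
def fallback (C U : ℕ) : Bool := WL.any fun e => cyc7 (evE (gOf C U) e) 1

/-- the cycle of length eleven is preserved -/
def ltest (C U : ℕ) : Bool :=
  O1L.all fun p => Nat.beq (Nat.land (Nat.shiftRight O1M (imgF C (imgF U p))) 1) 1

/-- the check on each product of the chain -/
def chk (C U : ℕ) : Bool := forceN (imgF C (imgF U 1)) fun q =>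
  ((!(Nat.beq q 1)) && (!(Nat.beq q 3))) || singles C U || fallback C U || ltest C U

set_option maxRecDepth 1000000 in
theorem loop_ok : loop4 d0.n d0.U d1.n d1.U d2.n d2.U d3.n d3.U chk = true := by
  decide +kernel


/-! ### The small checks -/

/-- the sum of the powers of two at the images of the cycle -/
def maskOf (T : ℕ) : ℕ := (O1L.map fun p => 2 ^ imgF T p).sum

theorem small_checks : inG TC = true ∧ (∀ x < 24, iterN (imgF TC) 11 x = x) ∧ imgF TC 1 ≠ 1 ∧
    (∀ i < 11, ∀ x < 24, imgF (tblAt TCU i) x = iterN (imgF TC) i x) ∧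
    (∀ x < 24, x ≠ 23 → x ≠ 0 → ∃ i < 11, imgF (tblAt TCU i) x = 1 ∨ imgF (tblAt TCU i) x = 3) ∧
    (∀ p ∈ O1L, imgF TC p ∈ O1L) ∧
    (∀ q < 32, Nat.land (Nat.shiftRight O1M q) 1 = 1 → q ∈ O1L) ∧
    (∀ p ∈ O1L, p < 24) := by
  decide +kernel

theorem reps_ok : (∀ T ∈ REPS, inG T = true) ∧ (REPS.map maskOf).Nodup ∧ REPS.length = 212 := by
  decide +kernel


/-! ### From tables to permutations -/

/-- the cycle as a set of points -/
def O : Finset GolayPt := (O1L.map pt).toFinset

theorem mem_O {q : GolayPt} : q ∈ O ↔ idx q ∈ O1L := by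
  unfold O
  rw [List.mem_toFinset, List.mem_map]
  constructor
  · rintro ⟨i, hi, rfl⟩
    rwa [idx_pt i (small_checks.2.2.2.2.2.2.2 i hi)]
  · intro h
    exact ⟨idx q, h, pt_idx q⟩

theorem image_eq_of_forall {k : Equiv.Perm GolayPt} (h : ∀ q ∈ O, k q ∈ O) : O.image k = O := by
  apply Finset.eq_of_subset_of_card_le
  · intro y hy
    rw [Finset.mem_image] at hy
    obtain ⟨q, hq, rfl⟩ := hy
    exact h q hq
  · rw [Finset.card_image_of_injective _ k.injective]

theorem image_eq_of_repF {k : Equiv.Perm GolayPt} {f : ℕ → ℕ} (hk : RepF k f)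
    (h : ∀ p ∈ O1L, f p ∈ O1L) : O.image k = O := by
  apply image_eq_of_forall
  intro q hq
  rw [mem_O] at hq ⊢
  rw [hk q]
  exact h _ hq

theorem seven_of_cyc7 {x : Equiv.Perm GolayPt} {f : ℕ → ℕ} (hx : RepF x f) {p : ℕ} (hp : p < 24)
    (h : cyc7 f p = true) : 7 ∣ orderOf x := by
  unfold cyc7 at h
  rw [forceN_eq, Bool.and_eq_true] at h
  obtain ⟨h1, h2⟩ := h
  have h1' : f p ≠ p := by
    intro e
    rw [e] at h1
    simp at h1
  have h2' := Nat.eq_of_beq_eq_true h2
  apply seven_dvd_orderOf x (pt p)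
  · intro e
    apply h1'
    have := hx (pt p)
    rw [e, idx_pt p hp] at this
    exact this.symm
  · apply idx_injective
    rw [repF_pow hx 7 (pt p), idx_pt p hp]
    exact h2'

/-- the product `c ^ i₁ * g * c ^ i₂ * g * ⋯` -/
def prodE (c g : Equiv.Perm GolayPt) : List ℕ → Equiv.Perm GolayPt
  | [] => 1
  | i :: e => c ^ i * g * prodE c g e

theorem repF_cpow {c : Equiv.Perm GolayPt} (hc : RepF c (imgF TC)) {i : ℕ} (hi : i < 11) :
    RepF (c ^ i) (imgF (tblAt TCU i)) :=
  repF_congr (repF_pow hc i) (fun x hx => (small_checks.2.2.2.1 i hi x hx).symm)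

theorem repF_prodE {c g : Equiv.Perm GolayPt} {G : ℕ → ℕ} (hc : RepF c (imgF TC)) (hg : RepF g G) :
    ∀ e : List ℕ, (∀ i ∈ e, i < 11) → RepF (prodE c g e) (evE G e) := by
  intro e
  induction e with
  | nil => intro _; exact repF_one
  | cons i e ih =>
    intro h
    have hi : i < 11 := h i List.mem_cons_self
    have := repF_mul (repF_mul (repF_cpow hc hi) hg) (ih fun j hj => h j (List.mem_cons_of_mem _ hj))
    exact this

theorem prodE_mem (K : Subgroup (Equiv.Perm GolayPt)) {c g : Equiv.Perm GolayPt} (hc : c ∈ K)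
    (hg : g ∈ K) : ∀ e : List ℕ, prodE c g e ∈ K := by
  intro e
  induction e with
  | nil => exact K.one_mem
  | cons i e ih => exact K.mul_mem (K.mul_mem (K.pow_mem hc i) hg) ih

theorem wl_lt : ∀ e ∈ WL, ∀ i ∈ e, i < 11 := by decide

theorem chk_sound {C U : ℕ} (h : chk C U = true)
    (hq : imgF C (imgF U 1) = 1 ∨ imgF C (imgF U 1) = 3) :
    (∃ i < 11, cyc7 (fun x => imgF (tblAt TCU i) (imgF C (imgF U x))) 1 = true) ∨
    (∃ e ∈ WL, cyc7 (evE (gOf C U) e) 1 = true) ∨
    (∀ p ∈ O1L, Nat.land (Nat.shiftRight O1M (imgF C (imgF U p))) 1 = 1) := by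
  unfold chk at h
  rw [forceN_eq, Bool.or_eq_true, Bool.or_eq_true, Bool.or_eq_true] at h
  rcases h with ((h | h) | h) | h
  · exfalso
    rw [Bool.and_eq_true] at h
    rcases hq with e | e <;> rw [e] at h <;> simp at h
  · left
    unfold singles at h
    have : ∀ (f : ℕ → Bool) (n : ℕ), anyN f n = true → ∃ k < n, f k = true := by
      intro f n
      induction n with
      | zero => intro h; simp [anyN] at h
      | succ n ih =>
        intro h
        have e : anyN f (n + 1) = Bool.rec (motive := fun _ => Bool) (anyN f n) true (f n) := rfl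
        rw [e] at h
        cases hfn : f n with
        | true => exact ⟨n, by omega, hfn⟩
        | false =>
          rw [hfn] at h
          obtain ⟨k, hk, hfk⟩ := ih h
          exact ⟨k, by omega, hfk⟩
    obtain ⟨i, hi, hfi⟩ := this _ _ h
    rw [forceN_eq] at hfi
    exact ⟨i, hi, hfi⟩
  · right; left
    unfold fallback at h
    rw [List.any_eq_true] at h
    exact h
  · right; right
    unfold ltest at h
    rw [List.all_eq_true] at h
    intro p hp
    exact Nat.eq_of_beq_eq_true (h p hp)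


theorem o1l_pt_nodup : (O1L.map pt).Nodup := by
  apply List.Nodup.map_on
  · intro x hx y hy h
    have := congrArg idx h
    rwa [idx_pt x (small_checks.2.2.2.2.2.2.2 x hx), idx_pt y (small_checks.2.2.2.2.2.2.2 y hy)]
      at this
  · decide

theorem mask_image {σ : Equiv.Perm GolayPt} {T : ℕ} (hσ : Represents σ T) :
    ∑ q ∈ O.image σ, 2 ^ idx q = maskOf T := by
  rw [Finset.sum_image (fun x _ y _ h => σ.injective h)]
  unfold O
  rw [List.sum_toFinset _ o1l_pt_nodup, List.map_map]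
  unfold maskOf
  congr 1
  apply List.map_congr_left
  intro i hi
  simp only [Function.comp]
  rw [hσ (pt i), idx_pt i (small_checks.2.2.2.2.2.2.2 i hi)]
  rfl

/-- the permutations preserving the cycle, as a set -/
def Lst : Subgroup (Equiv.Perm GolayPt) where
  carrier := {k | O.image k = O}
  mul_mem' := by
    intro a b ha hb
    show O.image (a * b) = O
    have : (⇑(a * b) : GolayPt → GolayPt) = a ∘ b := rfl
    rw [this, ← Finset.image_image, hb, ha]
  one_mem' := by
    show O.image (1 : Equiv.Perm GolayPt) = O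
    have : (⇑(1 : Equiv.Perm GolayPt) : GolayPt → GolayPt) = id := rfl
    rw [this, Finset.image_id]
  inv_mem' := by
    intro a ha
    show O.image (a⁻¹ : Equiv.Perm GolayPt) = O
    have h1 : O.image (a⁻¹ : Equiv.Perm GolayPt) = (O.image a).image (a⁻¹ : Equiv.Perm GolayPt) := by
      rw [ha]
    rw [h1, Finset.image_image]
    have : ((⇑(a⁻¹ : Equiv.Perm GolayPt)) ∘ (⇑a) : GolayPt → GolayPt) = id := by
      funext x
      simp
    rw [this, Finset.image_id]

theorem mem_Lst {k : Equiv.Perm GolayPt} : k ∈ Lst ↔ O.image k = O := Iff.rfl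

theorem imgF_lt_32 (T i : ℕ) : imgF T i < 32 := by
  unfold imgF
  have : Nat.land (Nat.shiftRight T (Nat.mul 5 i)) 31 ≤ 31 := Nat.and_le_right
  omega


/-- the enumeration of the group with the check of this file -/
theorem enum_chk : ∀ g ∈ Spor.M22, ∃ C U, RepF g (fun x => imgF C (imgF U x)) ∧ chk C U = true := by
  obtain ⟨a, ha, hA⟩ := exists_of_inG gens_in.1
  obtain ⟨b, hb, hB⟩ := exists_of_inG gens_in.2.1
  have hcard4 : Nat.card ↥Spor.M22 = d0.n * d1.n * d2.n * d3.n := by
    rw [card_M22]; rfl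
  intro g hg
  exact (enum4 hA hB ha hb d0 d1 d2 d3 chain_ok hcard4 chk loop_ok g hg).2

/-- a subgroup of the group containing the element of order eleven, of order prime to seven,
preserves the cycle -/
theorem le_Lst (K : Subgroup (Equiv.Perm GolayPt)) (hK : K ≤ Spor.M22) (h7 : ¬ 7 ∣ Nat.card ↥K)
    {c : Equiv.Perm GolayPt} (hc : RepF c (imgF TC)) (hcK : c ∈ K) : K ≤ Lst := by
  have hcL : c ∈ Lst := image_eq_of_repF hc small_checks.2.2.2.2.2.1
  have hno : ∀ x ∈ K, ¬ 7 ∣ orderOf x := by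
    intro x hx h
    exact h7 (h.trans (Subgroup.orderOf_dvd_natCard K hx))
  intro h hh
  have hhM := mem_M22.1 (hK hh)
  -- the image of the point 1
  have hp23 : idx (h (pt 1)) ≠ 23 := by
    intro e
    have : h (pt 1) = none := by
      apply idx_injective; rw [e, idx_none]
    rw [← hhM.2.1] at this
    have := h.injective this
    revert this; decide
  have hp0 : idx (h (pt 1)) ≠ 0 := by
    intro e
    have : h (pt 1) = some 0 := by
      apply idx_injective; rw [e, idx_zero]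
    rw [← hhM.2.2] at this
    have := h.injective this
    revert this; decide
  obtain ⟨i, hi, hq⟩ := small_checks.2.2.2.2.1 _ (idx_lt (h (pt 1))) hp23 hp0
  have hci := repF_cpow hc hi
  have hgK : c ^ i * h ∈ K := K.mul_mem (K.pow_mem hcK i) hh
  obtain ⟨C, U, hg, hchk⟩ := enum_chk _ (hK hgK)
  have hq' : imgF C (imgF U 1) = 1 ∨ imgF C (imgF U 1) = 3 := by
    have e1 : idx ((c ^ i * h) (pt 1)) = imgF C (imgF U 1) := by
      have := hg (pt 1)
      rw [idx_pt 1 (by norm_num)] at this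
      exact this
    have e2 : idx ((c ^ i * h) (pt 1)) = imgF (tblAt TCU i) (idx (h (pt 1))) := by
      rw [Equiv.Perm.mul_apply, hci]
    rw [← e1, e2]
    exact hq
  rcases chk_sound hchk hq' with ⟨j, hj, hcyc⟩ | ⟨e, he, hcyc⟩ | hl
  · exfalso
    have hx : RepF (c ^ j * (c ^ i * h)) (fun x => imgF (tblAt TCU j) (imgF C (imgF U x))) :=
      repF_mul (repF_cpow hc hj) hg
    exact hno _ (K.mul_mem (K.pow_mem hcK j) hgK) (seven_of_cyc7 hx (by norm_num) hcyc)
  · exfalso
    have hx := repF_prodE hc hg e (wl_lt e he)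
    exact hno _ (prodE_mem K hcK hgK e) (seven_of_cyc7 hx (by norm_num) hcyc)
  · have hgL : c ^ i * h ∈ Lst := by
      apply image_eq_of_repF hg
      intro p hp
      exact small_checks.2.2.2.2.2.2.1 _ (imgF_lt_32 _ _) (hl p hp)
    have : h = (c ^ i)⁻¹ * (c ^ i * h) := by group
    rw [this]
    exact Lst.mul_mem (Lst.inv_mem (Lst.pow_mem hcL i)) hgL


/-- a subgroup preserving the cycle has at most 443520 / 212 elements -/
theorem card_le_of_le_Lst (K : Subgroup (Equiv.Perm GolayPt)) (hK : K ≤ Spor.M22)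
    (hL : K ≤ Lst) : 212 * Nat.card ↥K ≤ 443520 := by
  classical
  obtain ⟨hin, hnd, hlen⟩ := reps_ok
  have hex : ∀ i : Fin REPS.length, ∃ σ ∈ Spor.M22, Represents σ (REPS.get i) :=
    fun i => exists_of_inG (hin _ (List.get_mem _ _))
  choose g hgM hgT using hex
  have := card_mul_le_of_images K Spor.M22 hK O (fun k hk => hL hk) REPS.length g hgM (by
    intro i j hij
    have h1 := mask_image (hgT i)
    have h2 := mask_image (hgT j)
    rw [hij, h2] at h1
    have h3 : REPS.get i = REPS.get j :=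
      List.inj_on_of_nodup_map hnd (List.get_mem _ _) (List.get_mem _ _) h1.symm
    exact (List.Nodup.get_inj_iff (List.Nodup.of_map _ hnd)).1 h3)
  rwa [hlen, card_M22] at this

/-- the group has no subgroups of order 7920 or 2112 -/
theorem no_subgroup (K : Subgroup (Equiv.Perm GolayPt)) (hK : K ≤ Spor.M22)
    (hcard : Nat.card ↥K = 7920 ∨ Nat.card ↥K = 2112) : False := by
  classical
  have : Fact (Nat.Prime 11) := ⟨by norm_num⟩
  have h7 : ¬ 7 ∣ Nat.card ↥K := by rcases hcard with h | h <;> rw [h] <;> norm_num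
  have h11 : 11 ∣ Nat.card ↥K := by rcases hcard with h | h <;> rw [h] <;> norm_num
  obtain ⟨x, hx⟩ := exists_prime_orderOf_dvd_card' 11 h11
  obtain ⟨c, hcM, hcT⟩ := exists_of_inG small_checks.1
  have hc : RepF c (imgF TC) := repF_of_represents hcT
  have hc11 : c ^ 11 = 1 :=
    eq_of_repF (repF_pow hc 11) repF_one (fun x hx => small_checks.2.1 x hx)
  have hc1 : c ≠ 1 := by
    intro e
    have := hc (pt 1)
    rw [e, idx_pt 1 (by norm_num)] at this
    exact small_checks.2.2.1 this.symm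
  -- the conjugation
  have hy11 : (⟨x.1, hK x.2⟩ : ↥Spor.M22) ^ 11 = 1 := by
    apply Subtype.ext
    have : x ^ 11 = 1 := by rw [← hx]; exact pow_orderOf_eq_one x
    show x.1 ^ 11 = 1
    exact congrArg (Subtype.val : ↥K → Equiv.Perm GolayPt) this
  have hy1 : (⟨x.1, hK x.2⟩ : ↥Spor.M22) ≠ 1 := by
    intro e
    have : x = 1 := Subtype.ext (congrArg (Subtype.val : ↥Spor.M22 → Equiv.Perm GolayPt) e)
    rw [this, orderOf_one] at hx
    norm_num at hx
  have ha11 : (⟨c, hcM⟩ : ↥Spor.M22) ^ 11 = 1 := Subtype.ext hc11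
  have ha1 : (⟨c, hcM⟩ : ↥Spor.M22) ≠ 1 := fun e => hc1 (congrArg Subtype.val e)
  obtain ⟨cc, k, hk, hconj⟩ := exists_conj_prime (G := ↥Spor.M22) 11 (s := 40320)
    (by rw [card_M22]) (by norm_num) ha11 ha1 (n := 1) (r := 1) (by simp)
    [1, 2, 3, 4, 5, 6, 7, 8, 9, 10] (by
      intro j hj hj0
      refine ⟨j, ?_, 0, by simp⟩
      interval_cases j <;> simp at hj0 ⊢) _ hy11 hy1
  have hconj' : cc.1 * c ^ k * cc.1⁻¹ = x.1 := congrArg Subtype.val hconj
  -- the conjugate subgroup
  let φ : Equiv.Perm GolayPt ≃* Equiv.Perm GolayPt := MulAut.conj cc.1⁻¹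
  have hφ : ∀ w, φ w = cc.1⁻¹ * w * cc.1 := by
    intro w
    show MulAut.conj cc.1⁻¹ w = _
    rw [MulAut.conj_apply, inv_inv]
  have hcardK' : Nat.card ↥(K.map φ.toMonoidHom) = Nat.card ↥K :=
    Subgroup.card_map_of_injective φ.injective
  have hK'M : K.map φ.toMonoidHom ≤ Spor.M22 := by
    rintro z ⟨w, hw, rfl⟩
    show φ w ∈ Spor.M22
    rw [hφ]
    exact Spor.M22.mul_mem (Spor.M22.mul_mem (Spor.M22.inv_mem cc.2) (hK hw)) cc.2
  have hckK' : c ^ k ∈ K.map φ.toMonoidHom := by
    refine ⟨x.1, x.2, ?_⟩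
    show φ x.1 = c ^ k
    rw [hφ, ← hconj']
    group
  have hcK' : c ∈ K.map φ.toMonoidHom := by
    have : ∃ m, (k * m) % 11 = 1 := by
      simp only [List.mem_cons, List.not_mem_nil, or_false] at hk
      rcases hk with rfl | rfl | rfl | rfl | rfl | rfl | rfl | rfl | rfl | rfl
      · exact ⟨1, rfl⟩
      · exact ⟨6, rfl⟩
      · exact ⟨4, rfl⟩
      · exact ⟨3, rfl⟩
      · exact ⟨9, rfl⟩
      · exact ⟨2, rfl⟩
      · exact ⟨8, rfl⟩
      · exact ⟨7, rfl⟩
      · exact ⟨5, rfl⟩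
      · exact ⟨10, rfl⟩
    obtain ⟨m, hm⟩ := this
    have : c = (c ^ k) ^ m := by
      rw [← pow_mul, pow_eq_pow_mod (k * m) hc11, hm, pow_one]
    rw [this]
    exact Subgroup.pow_mem _ hckK' m
  have hle := le_Lst (K.map φ.toMonoidHom) hK'M (by rw [hcardK']; exact h7) hc hcK'
  have := card_le_of_le_Lst (K.map φ.toMonoidHom) hK'M hle
  rw [hcardK'] at this
  rcases hcard with h | h <;> rw [h] at this <;> norm_num at this

end Cfsg.Agent.Lib.Helper27_M22Index
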