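import Mathlib
import Cfsg.Agent.S1600
import Cfsg.Agent.Lib.Helper26_OctCounts
import Cfsg.Agent.Lib.Helper27_K0Affine

/-!
The stabiliser `M9` in `M24` of a dodecad and of three of its points, in the base case of the
complement of the base dodecad and the points 7, 9, 17: it lies in the quartet stabiliser `K0`, its
72 elements act on nine points as affine maps with linear part in a quaternion group of matrices,
the translations being its normal Sylow 3-subgroup. Transported to every dodecad and triple.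
-/

set_option autoImplicit false
open scoped Pointwise
open Cfsg
open Cfsg.Agent.Lib.Helper26_Golay
open Cfsg.Agent.Lib.Helper27_Quartets
open Cfsg.Agent.Lib.Helper27_QuartetsTrans
open Cfsg.Agent.Lib.Helper27_QuartetOrbits
open Cfsg.Agent.Lib.Helper27_K0Affine

namespace Cfsg.Agent.Lib.Helper27_M9

/-! ### The base group -/

/-- the complement of the base dodecad -/
def dod1 : Finset GolayPt := dod0ᶜ

theorem dod1_mem : dod1 ∈ dodecads := compl_mem_dodecads dod0_mem

theorem smul_compl (g : Equiv.Perm GolayPt) (s : Finset GolayPt) : g • sᶜ = (g • s)ᶜ := by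
  ext x
  rw [← Finset.inv_smul_mem_iff, Finset.mem_compl, Finset.mem_compl, Finset.inv_smul_mem_iff]

theorem smul_dod1_iff (g : Equiv.Perm GolayPt) : g • dod1 = dod1 ↔ g • dod0 = dod0 := by
  unfold dod1
  rw [smul_compl, compl_inj_iff]

/-- the stabiliser in `M24` of the complement of the base dodecad and of three of its points -/
def M9 : Subgroup (Equiv.Perm GolayPt) where
  carrier := {g | g ∈ M24 ∧ g • dod1 = dod1 ∧ g (pt 7) = pt 7 ∧ g (pt 9) = pt 9 ∧ g (pt 17) = pt 17}
  mul_mem' := by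
    rintro a b ⟨a1, a2, a3, a4, a5⟩ ⟨b1, b2, b3, b4, b5⟩
    refine ⟨M24.mul_mem a1 b1, ?_, ?_, ?_, ?_⟩
    · rw [mul_smul, b2, a2]
    · rw [Equiv.Perm.mul_apply, b3, a3]
    · rw [Equiv.Perm.mul_apply, b4, a4]
    · rw [Equiv.Perm.mul_apply, b5, a5]
  one_mem' := ⟨M24.one_mem, one_smul _ _, rfl, rfl, rfl⟩
  inv_mem' := by
    rintro a ⟨a1, a2, a3, a4, a5⟩
    refine ⟨M24.inv_mem a1, ?_, ?_, ?_, ?_⟩
    · rw [inv_smul_eq_iff, a2]
    · rw [Equiv.Perm.inv_eq_iff_eq, a3]
    · rw [Equiv.Perm.inv_eq_iff_eq, a4]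
    · rw [Equiv.Perm.inv_eq_iff_eq, a5]

theorem mem_M9 {g : Equiv.Perm GolayPt} : g ∈ M9 ↔
    g ∈ M24 ∧ g • dod1 = dod1 ∧ g (pt 7) = pt 7 ∧ g (pt 9) = pt 9 ∧ g (pt 17) = pt 17 := Iff.rfl

open Cfsg.Agent.S1600 in
/-- conjugation by `g` carries the stabiliser of `g • dod1` and of the images of the three points
onto `M9` -/
noncomputable def conjEquiv9 {g : Equiv.Perm GolayPt} (hg : g ∈ M24) :
    ↥(Stab3 (g • dod1) (g (pt 7)) (g (pt 9)) (g (pt 17))) ≃* ↥M9 where
  toFun k := ⟨g⁻¹ * ((k : ↥M24) : Equiv.Perm GolayPt) * g, by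
    obtain ⟨h1, h2, h3, h4⟩ := mem_Stab3.1 k.2
    refine mem_M9.2 ⟨M24.mul_mem (M24.mul_mem (M24.inv_mem hg) k.1.2) hg, ?_, ?_, ?_, ?_⟩
    · rw [mul_smul, mul_smul, h1, inv_smul_smul]
    · show g.symm (((k : ↥M24) : Equiv.Perm GolayPt) (g (pt 7))) = pt 7
      rw [h2, Equiv.symm_apply_apply]
    · show g.symm (((k : ↥M24) : Equiv.Perm GolayPt) (g (pt 9))) = pt 9
      rw [h3, Equiv.symm_apply_apply]
    · show g.symm (((k : ↥M24) : Equiv.Perm GolayPt) (g (pt 17))) = pt 17
      rw [h4, Equiv.symm_apply_apply]⟩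
  invFun k := ⟨⟨g * (k : Equiv.Perm GolayPt) * g⁻¹,
      M24.mul_mem (M24.mul_mem hg (mem_M9.1 k.2).1) (M24.inv_mem hg)⟩, by
    obtain ⟨-, h1, h2, h3, h4⟩ := mem_M9.1 k.2
    refine mem_Stab3.2 ⟨?_, ?_, ?_, ?_⟩
    · show (g * (k : Equiv.Perm GolayPt) * g⁻¹) • g • dod1 = g • dod1
      rw [mul_smul, mul_smul, inv_smul_smul, h1]
    · show g ((k : Equiv.Perm GolayPt) (g.symm (g (pt 7)))) = g (pt 7)
      rw [Equiv.symm_apply_apply, h2]
    · show g ((k : Equiv.Perm GolayPt) (g.symm (g (pt 9)))) = g (pt 9)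
      rw [Equiv.symm_apply_apply, h3]
    · show g ((k : Equiv.Perm GolayPt) (g.symm (g (pt 17)))) = g (pt 17)
      rw [Equiv.symm_apply_apply, h4]⟩
  left_inv k := by
    apply Subtype.ext
    apply Subtype.ext
    show g * (g⁻¹ * ((k : ↥M24) : Equiv.Perm GolayPt) * g) * g⁻¹ = _
    group
  right_inv k := by
    apply Subtype.ext
    show g⁻¹ * (g * (k : Equiv.Perm GolayPt) * g⁻¹) * g = _
    group
  map_mul' a b := by
    apply Subtype.ext
    show g⁻¹ * (((a : ↥M24) : Equiv.Perm GolayPt) * ((b : ↥M24) : Equiv.Perm GolayPt)) * g =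
      (g⁻¹ * ((a : ↥M24) : Equiv.Perm GolayPt) * g) * (g⁻¹ * ((b : ↥M24) : Equiv.Perm GolayPt) * g)
    group

theorem pt_mem_dod1 {i : ℕ} (hi : i < 24) (hb : D0.testBit i = false) : pt i ∈ dod1 := by
  unfold dod1
  rw [Finset.mem_compl, ← testBit_enc_idx, enc_dod0', idx_pt i hi, hb]
  simp

theorem pt_ne {i j : ℕ} (hi : i < 24) (hj : j < 24) (h : i ≠ j) : pt i ≠ pt j := by
  intro e
  apply h
  rw [← idx_pt i hi, ← idx_pt j hj, e]

theorem card_M9 : Nat.card ↥M9 = 72 := by
  have h1 : (1 : Equiv.Perm GolayPt) ∈ M24 := M24.one_mem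
  rw [← Nat.card_congr (conjEquiv9 h1).toEquiv]
  have := Cfsg.Agent.S1600.card_Stab3 dod1 dod1_mem (pt 7) (pt 9) (pt 17)
    (pt_mem_dod1 (by norm_num) (by decide)) (pt_mem_dod1 (by norm_num) (by decide))
    (pt_mem_dod1 (by norm_num) (by decide)) (pt_ne (by norm_num) (by norm_num) (by norm_num))
    (pt_ne (by norm_num) (by norm_num) (by norm_num))
    (pt_ne (by norm_num) (by norm_num) (by norm_num))
  simpa using this

/-! ### The 72 elements -/

/-- the indices, among the 432 tables, of the elements fixing the three points -/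
def MI : ℕ := 0x1af01a701a301990196018c01860182017f0177017201690167015c01560152014d0149013e013d0135012d01290120011c0119011301080103010000f800f100ef00e800e100d800d700cd00c800c000bf00b800b100a800a7009d00980090008e00890083007c0073006c00660061005c0059004f004d0042003f00370033002e0029002100180017000d00080000

/-- the `j`-th index -/
def mi (j : ℕ) : ℕ := get16 MI j

/-- the code of the linear part read off a table -/
def mcode (T : ℕ) : ℕ := 27 * m00 T + 9 * m01 T + 3 * m10 T + m11 T

/-- the codes of the eight matrices of the quaternion group -/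
def isQ (c : ℕ) : Bool :=
  c == 15 || c == 21 || c == 28 || c == 41 || c == 53 || c == 56 || c == 67 || c == 79

def miOK (j : ℕ) : Bool :=
  decide (mi j < 432) && img (Ht (mi j)) 7 == 7 && img (Ht (mi j)) 9 == 9 &&
    img (Ht (mi j)) 17 == 17 && isQ (mcode (Ht (mi j)))

theorem all_mi : allFold miOK 72 = true := by decide +kernel

theorem all_mi_lt : allFold (fun j => decide (mi j < mi (j + 1))) 71 = true := by decide +kernel

theorem mi_lt_of_lt {i j : ℕ} (hij : i < j) (hj : j < 72) : mi i < mi j := by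
  induction j with
  | zero => omega
  | succ j ih =>
    have hstep : mi j < mi (j + 1) := by
      have := (allFold_eq_true _ _).1 all_mi_lt j (by omega)
      simpa using this
    rcases Nat.lt_succ_iff_lt_or_eq.1 hij with h | h
    · exact (ih h (by omega)).trans hstep
    · rw [h]; exact hstep

theorem mi_spec (j : Fin 72) : mi j < 432 ∧ img (Ht (mi j)) 7 = 7 ∧ img (Ht (mi j)) 9 = 9 ∧
    img (Ht (mi j)) 17 = 17 ∧ isQ (mcode (Ht (mi j))) = true := by
  have h := (allFold_eq_true _ _).1 all_mi j j.2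
  unfold miOK at h
  simp only [Bool.and_eq_true, decide_eq_true_eq, beq_iff_eq] at h
  obtain ⟨⟨⟨⟨h1, h2⟩, h3⟩, h4⟩, h5⟩ := h
  exact ⟨h1, h2, h3, h4, h5⟩

open Cfsg.Agent.Lib.Helper27_M12Three in
theorem sig_mem_M9 (j : Fin 72) : ((sig ⟨mi j, (mi_spec j).1⟩ : ↥K0) : Equiv.Perm GolayPt) ∈ M9 := by
  obtain ⟨h1, h2, h3, h4, -⟩ := mi_spec j
  have hk := (sig ⟨mi j, h1⟩).2
  obtain ⟨k1, k2, -⟩ := mem_K0.1 hk
  have hT := sig_spec ⟨mi j, h1⟩
  exact mem_M9.2 ⟨k1, (smul_dod1_iff _).2 k2, fix_of_img hT (by norm_num) h2,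
    fix_of_img hT (by norm_num) h3, fix_of_img hT (by norm_num) h4⟩

/-- the `j`-th element of `M9` -/
noncomputable def sig9 (j : Fin 72) : ↥M9 := ⟨_, sig_mem_M9 j⟩

theorem sig9_injective : Function.Injective sig9 := by
  intro i j h
  have h1 : (sig ⟨mi i, (mi_spec i).1⟩ : ↥K0) = sig ⟨mi j, (mi_spec j).1⟩ := by
    apply Subtype.ext
    exact congrArg (fun z : ↥M9 => (z : Equiv.Perm GolayPt)) h
  have h2 := congrArg Fin.val (sig_injective h1)
  simp only at h2
  apply Fin.ext
  by_contra hne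
  rcases Nat.lt_or_gt_of_ne hne with h' | h'
  · exact absurd h2 (ne_of_lt (mi_lt_of_lt h' j.2))
  · exact absurd h2.symm (ne_of_lt (mi_lt_of_lt h' i.2))

theorem sig9_surjective : Function.Surjective sig9 := by
  have : Finite ↥M9 := Nat.finite_of_card_ne_zero (by rw [card_M9]; norm_num)
  have := Function.Injective.bijective_of_nat_card_le sig9_injective (by
    rw [card_M9, Nat.card_eq_fintype_card, Fintype.card_fin])
  exact this.2

theorem M9_le_K0 : M9 ≤ K0 := by
  intro k hk
  obtain ⟨j, hj⟩ := sig9_surjective ⟨k, hk⟩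
  have : k = ((sig ⟨mi j, (mi_spec j).1⟩ : ↥K0) : Equiv.Perm GolayPt) :=
    (congrArg Subtype.val hj).symm
  rw [this]
  exact (sig ⟨mi j, (mi_spec j).1⟩).2

/-! ### The quaternion group as matrices -/

def qI : Matrix (Fin 2) (Fin 2) (ZMod 3) := !![0, 1; 2, 0]
def qJ : Matrix (Fin 2) (Fin 2) (ZMod 3) := !![1, 1; 1, 2]

/-- the quaternion group of order 8 as matrices over the field with three elements -/
def qMat : QuaternionGroup 2 → Matrix (Fin 2) (Fin 2) (ZMod 3)
  | QuaternionGroup.a i => qI ^ i.val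
  | QuaternionGroup.xa i => qI ^ ((4 - i.val) % 4) * qJ

theorem qMat_one : qMat 1 = 1 := by decide +kernel

theorem qMat_mul : ∀ a b : QuaternionGroup 2, qMat (a * b) = qMat a * qMat b := by decide +kernel

theorem qMat_inj : ∀ a b : QuaternionGroup 2, qMat a = qMat b → a = b := by decide +kernel

/-- the quaternion group of order 8 in the general linear group -/
noncomputable def qHom : QuaternionGroup 2 →* GL (Fin 2) (ZMod 3) :=
  MonoidHom.toHomUnits
    { toFun := qMat
      map_one' := qMat_one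
      map_mul' := qMat_mul }

theorem qHom_val (y : QuaternionGroup 2) :
    ((qHom y : GL (Fin 2) (ZMod 3)) : Matrix (Fin 2) (Fin 2) (ZMod 3)) = qMat y := rfl

theorem qHom_injective : Function.Injective qHom := by
  intro a b h
  apply qMat_inj
  rw [← qHom_val, ← qHom_val, h]

theorem exists_qMat_fin : ∀ a b c d : Fin 3,
    isQ (27 * a.val + 9 * b.val + 3 * c.val + d.val) = true →
    ∃ y, qMat y = !![((a.val : ℕ) : ZMod 3), ((b.val : ℕ) : ZMod 3);
      ((c.val : ℕ) : ZMod 3), ((d.val : ℕ) : ZMod 3)] := by decide +kernel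

theorem m00_lt (T : ℕ) : m00 T < 3 := Nat.mod_lt _ (by norm_num)
theorem m01_lt (T : ℕ) : m01 T < 3 := Nat.mod_lt _ (by norm_num)
theorem m10_lt (T : ℕ) : m10 T < 3 := Nat.mod_lt _ (by norm_num)
theorem m11_lt (T : ℕ) : m11 T < 3 := Nat.mod_lt _ (by norm_num)

theorem exists_qMat_table {T : ℕ} (h : isQ (mcode T) = true) : ∃ y, qMat y = matOf T :=
  exists_qMat_fin ⟨m00 T, m00_lt T⟩ ⟨m01 T, m01_lt T⟩ ⟨m10 T, m10_lt T⟩ ⟨m11 T, m11_lt T⟩ h

/-! ### The homomorphism -/

/-- the linear part of the elements of `M9` -/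
noncomputable def phi9 : ↥M9 →* GL (Fin 2) (ZMod 3) := glHom.comp (Subgroup.inclusion M9_le_K0)

theorem phi9_range_le : phi9.range ≤ qHom.range := by
  rintro _ ⟨k, rfl⟩
  obtain ⟨j, rfl⟩ := sig9_surjective k
  obtain ⟨y, hy⟩ := exists_qMat_table (mi_spec j).2.2.2.2
  refine ⟨y, ?_⟩
  apply Units.ext
  rw [qHom_val, hy]
  exact (glHom_sig ⟨mi j, (mi_spec j).1⟩).symm

theorem card_qHom_range : Nat.card qHom.range = 8 := by
  rw [← Nat.card_congr (MonoidHom.ofInjective qHom_injective).toEquiv, Nat.card_eq_fintype_card,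
    QuaternionGroup.card]

theorem card_ker_glHom : Nat.card glHom.ker = 9 := by
  have h1 := Subgroup.card_eq_card_quotient_mul_card_subgroup glHom.ker
  rw [card_K0, Nat.card_congr
    (QuotientGroup.quotientKerEquivOfSurjective glHom glHom_surjective).toEquiv, card_GL23] at h1
  omega

theorem card_phi9 : Nat.card phi9.range = 8 ∧ Nat.card phi9.ker = 9 := by
  have : Finite ↥M9 := Nat.finite_of_card_ne_zero (by rw [card_M9]; norm_num)
  have : Finite qHom.range := Nat.finite_of_card_ne_zero (by rw [card_qHom_range]; norm_num)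
  have : Finite glHom.ker := Nat.finite_of_card_ne_zero (by rw [card_ker_glHom]; norm_num)
  have h1 := Subgroup.card_eq_card_quotient_mul_card_subgroup phi9.ker
  rw [card_M9, Nat.card_congr (QuotientGroup.quotientKerEquivRange phi9).toEquiv] at h1
  have h2 : Nat.card phi9.range ≤ 8 := by
    rw [← card_qHom_range]
    exact Subgroup.card_le_of_le phi9_range_le
  have h3 : Nat.card phi9.ker ≤ 9 := by
    rw [← card_ker_glHom]
    apply Nat.card_le_card_of_injective
      (fun x : phi9.ker => (⟨Subgroup.inclusion M9_le_K0 x.1, x.2⟩ : glHom.ker))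
    intro x y hxy
    apply Subtype.ext
    apply Subtype.ext
    exact congrArg (fun z : glHom.ker => ((z : ↥K0) : Equiv.Perm GolayPt)) hxy
  constructor <;> nlinarith

/-! ### Faithfulness on the nine points, and the exponent of the kernel -/

/-- the check that a table fixes the nine points -/
def fixNine (T : ℕ) : Bool := allFold (fun a => img T (img PN a) == img PN a) 9

theorem all_faithful : allFold (fun i => !(fixNine (Ht i)) || (Ht i == Ht 431)) 432 = true := by
  decide +kernel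

theorem id_table : ∀ x < 24, img (Ht 431) x = x := by decide +kernel

theorem represents_one : Represents 1 (Ht 431) := by
  intro p
  rw [id_table _ (idx_lt p)]
  rfl

theorem code_vecOf {a : ℕ} (ha : a < 9) : code (vecOf a) = a := by
  unfold code vecOf
  have h1 : (((a / 3 : ℕ) : ZMod 3)).val = a / 3 := ZMod.val_natCast_of_lt (by omega)
  have h2 : (((a % 3 : ℕ) : ZMod 3)).val = a % 3 := ZMod.val_natCast_of_lt (by omega)
  simp only [Matrix.cons_val_zero, Matrix.cons_val_one]
  rw [h1, h2]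
  omega

theorem faithful {k : Equiv.Perm GolayPt} (hk : k ∈ K0) (h : ∀ v : V, k (pv v) = pv v) : k = 1 := by
  obtain ⟨i, hi, hT⟩ := exists_index hk
  have hfix : fixNine (Ht i) = true := by
    unfold fixNine
    rw [allFold_eq_true]
    intro a ha
    rw [beq_iff_eq]
    have h1 := hT (pv (vecOf a))
    rw [h (vecOf a), idx_pv, code_vecOf ha] at h1
    exact h1.symm
  have h2 := (allFold_eq_true _ _).1 all_faithful i hi
  rw [hfix] at h2
  simp only [Bool.not_true, Bool.false_or, beq_iff_eq] at h2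
  rw [h2] at hT
  exact eq_of_represents hT represents_one

theorem add_three (b : V) : b + (b + b) = 0 := by
  have h : ∀ z : ZMod 3, z + (z + z) = 0 := by decide
  funext i
  exact h (b i)

theorem pow_three_of_ker (x : ↥M9) (hx : x ∈ phi9.ker) : x ^ 3 = 1 := by
  have hk : (x : Equiv.Perm GolayPt) ∈ K0 := M9_le_K0 x.2
  have h1 : glHom ⟨(x : Equiv.Perm GolayPt), hk⟩ = 1 := hx
  have h2 : linPart ⟨(x : Equiv.Perm GolayPt), hk⟩ = 1 := by
    have := congrArg Units.val h1
    exact this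
  have ha := isAff_parts ⟨(x : Equiv.Perm GolayPt), hk⟩
  rw [h2] at ha
  have ha3 := isAff_mul (isAff_mul ha ha) ha
  have hfix : ∀ v : V, ((x : Equiv.Perm GolayPt) * (x : Equiv.Perm GolayPt) *
      (x : Equiv.Perm GolayPt)) (pv v) = pv v := by
    intro v
    rw [ha3 v]
    congr 1
    simp only [mul_one, Matrix.one_mulVec]
    rw [add_three, add_zero]
  have h3 := faithful (K0.mul_mem (K0.mul_mem hk hk) hk) hfix
  apply Subtype.ext
  show ((x : Equiv.Perm GolayPt)) ^ 3 = 1
  rw [pow_succ, pow_two]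
  exact h3

/-! ### The Sylow subgroups -/

theorem fact72_3 : (72 : ℕ).factorization 3 = 2 := by decide +kernel
theorem fact72_2 : (72 : ℕ).factorization 2 = 3 := by decide +kernel

/-- the Sylow subgroups of a group of order 72 mapping onto a quaternion group with a kernel of
exponent 3 -/
theorem sylow_of_hom {G H : Type*} [Group G] [Group H] [Finite G] (φ : G →* H)
    (hG : Nat.card G = 72) (hR : Nat.card φ.range = 8) (hexp : ∀ x ∈ φ.ker, x ^ 3 = 1)
    (hq : Nonempty (φ.range ≃* QuaternionGroup 2)) :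
    (∀ Q : Sylow 3 G, (Q : Subgroup G).Normal ∧ Nat.card Q = 9 ∧
      ∀ x ∈ (Q : Subgroup G), x ^ 3 = 1) ∧
    ∀ P : Sylow 2 G, Nonempty (P ≃* QuaternionGroup 2) := by
  have : Fact (Nat.Prime 3) := ⟨by norm_num⟩
  have : Fact (Nat.Prime 2) := ⟨by norm_num⟩
  have hker : Nat.card φ.ker = 9 := by
    have h1 := Subgroup.card_eq_card_quotient_mul_card_subgroup φ.ker
    rw [hG, Nat.card_congr (QuotientGroup.quotientKerEquivRange φ).toEquiv, hR] at h1
    omega
  constructor
  · intro Q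
    have hN3 : IsPGroup 3 φ.ker := IsPGroup.of_card (n := 2) (by rw [hker]; norm_num)
    have hle : φ.ker ≤ Q := hN3.le_sylow_of_normal Q
    have hQ : Nat.card Q = 9 := by
      rw [Sylow.card_eq_multiplicity, hG, fact72_3]; norm_num
    have heq : φ.ker = (Q : Subgroup G) :=
      Subgroup.eq_of_le_of_card_ge hle (by rw [hQ, hker])
    refine ⟨?_, hQ, ?_⟩
    · rw [← heq]; exact MonoidHom.normal_ker φ
    · intro x hx
      rw [← heq] at hx
      exact hexp x hx
  · intro P
    obtain ⟨e⟩ := hq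
    have hP : Nat.card P = 8 := by
      rw [Sylow.card_eq_multiplicity, hG, fact72_2]; norm_num
    -- the restriction of φ to P is injective
    let ψ : ↥(P : Subgroup G) →* H := φ.comp (P : Subgroup G).subtype
    have hψ : Function.Injective ψ := by
      rw [injective_iff_map_eq_one]
      intro x hx
      have hx1 : (x : G) ∈ φ.ker := hx
      have hbot : (P : Subgroup G) ⊓ φ.ker = ⊥ :=
        (Subgroup.disjoint_of_coprime_natCard (by rw [hP, hker]; norm_num)).eq_bot
      have : (x : G) ∈ (P : Subgroup G) ⊓ φ.ker := Subgroup.mem_inf.2 ⟨x.2, hx1⟩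
      rw [hbot, Subgroup.mem_bot] at this
      exact Subtype.ext this
    have hle : ψ.range ≤ φ.range := by
      rintro _ ⟨x, rfl⟩
      exact ⟨x, rfl⟩
    have hcard : Nat.card ψ.range = 8 := by
      rw [← Nat.card_congr (MonoidHom.ofInjective hψ).toEquiv]; exact hP
    have heq : ψ.range = φ.range := by
      have : Finite φ.range := Nat.finite_of_card_ne_zero (by rw [hR]; norm_num)
      exact Subgroup.eq_of_le_of_card_ge hle (by rw [hR, hcard])
    exact ⟨(MonoidHom.ofInjective hψ).trans ((MulEquiv.subgroupCongr heq).trans e)⟩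


theorem phi9_range_iso : Nonempty (phi9.range ≃* QuaternionGroup 2) := by
  have : Finite qHom.range := Nat.finite_of_card_ne_zero (by rw [card_qHom_range]; norm_num)
  have heq : phi9.range = qHom.range :=
    Subgroup.eq_of_le_of_card_ge phi9_range_le (by rw [card_qHom_range, card_phi9.1])
  exact ⟨(MulEquiv.subgroupCongr heq).trans (MonoidHom.ofInjective qHom_injective).symm⟩

open Cfsg.Agent.S1600 in
theorem main9 (d : Finset GolayPt) (hd : d ∈ dodecads) (p q r : GolayPt) (hp : p ∈ d) (hq : q ∈ d)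
    (hr : r ∈ d) (hpq : p ≠ q) (hpr : p ≠ r) (hqr : q ≠ r) :
    (∀ Q : Sylow 3 ↥(Stab3 d p q r), (Q : Subgroup ↥(Stab3 d p q r)).Normal ∧ Nat.card ↥Q = 9 ∧
      ∀ x ∈ (Q : Subgroup ↥(Stab3 d p q r)), x ^ 3 = 1) ∧
    ∀ P : Sylow 2 ↥(Stab3 d p q r), Nonempty (↥P ≃* QuaternionGroup 2) := by
  have hcard := card_Stab3 d hd p q r hp hq hr hpq hpr hqr
  obtain ⟨g₂, hg₂, e1, e2, e3, e4⟩ := exists_conj d hd p q r hp hq hr hpq hpr hqr
  obtain ⟨g₁, hg₁, f1, f2, f3, f4⟩ := exists_conj dod1 dod1_mem (pt 7) (pt 9) (pt 17)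
    (pt_mem_dod1 (by norm_num) (by decide)) (pt_mem_dod1 (by norm_num) (by decide))
    (pt_mem_dod1 (by norm_num) (by decide)) (pt_ne (by norm_num) (by norm_num) (by norm_num))
    (pt_ne (by norm_num) (by norm_num) (by norm_num))
    (pt_ne (by norm_num) (by norm_num) (by norm_num))
  have hg : g₂ * g₁⁻¹ ∈ M24 := M24.mul_mem hg₂ (M24.inv_mem hg₁)
  have k1 : (g₂ * g₁⁻¹) • dod1 = d := by rw [mul_smul, ← f1, inv_smul_smul, e1]
  have k2 : (g₂ * g₁⁻¹) (pt 7) = p := by
    show g₂ (g₁.symm (pt 7)) = p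
    rw [← f2, Equiv.symm_apply_apply, e2]
  have k3 : (g₂ * g₁⁻¹) (pt 9) = q := by
    show g₂ (g₁.symm (pt 9)) = q
    rw [← f3, Equiv.symm_apply_apply, e3]
  have k4 : (g₂ * g₁⁻¹) (pt 17) = r := by
    show g₂ (g₁.symm (pt 17)) = r
    rw [← f4, Equiv.symm_apply_apply, e4]
  subst k1 k2 k3 k4
  have : Finite ↥(Stab3 ((g₂ * g₁⁻¹) • dod1) ((g₂ * g₁⁻¹) (pt 7)) ((g₂ * g₁⁻¹) (pt 9))
      ((g₂ * g₁⁻¹) (pt 17))) := Nat.finite_of_card_ne_zero (by rw [hcard]; norm_num)
  let e := conjEquiv9 hg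
  let φ : ↥(Stab3 ((g₂ * g₁⁻¹) • dod1) ((g₂ * g₁⁻¹) (pt 7)) ((g₂ * g₁⁻¹) (pt 9))
      ((g₂ * g₁⁻¹) (pt 17))) →* GL (Fin 2) (ZMod 3) := phi9.comp e.toMonoidHom
  have hrange : φ.range = phi9.range := by
    ext z
    constructor
    · rintro ⟨x, rfl⟩
      exact ⟨e x, rfl⟩
    · rintro ⟨y, rfl⟩
      refine ⟨e.symm y, ?_⟩
      show phi9 (e (e.symm y)) = phi9 y
      rw [MulEquiv.apply_symm_apply]
  refine sylow_of_hom φ hcard ?_ ?_ ?_
  · rw [hrange]; exact card_phi9.1
  · intro x hx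
    have h1 : e x ∈ phi9.ker := hx
    have h2 := pow_three_of_ker (e x) h1
    apply e.injective
    rw [map_pow, h2, map_one]
  · rw [hrange]; exact phi9_range_iso

end Cfsg.Agent.Lib.Helper27_M9
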