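import Mathlib
import Cfsg.Agent.Lib.Helper38_OTDefs
import Cfsg.Agent.Lib.Helper77_UT_G2IIaux

set_option autoImplicit false
set_option linter.unusedSectionVars false
set_option linter.unusedVariables false

/-!
# OTENS4 market (architect helper38), package OT-G2II (helper27): uniqueness, type II
(orthogonal twin of `Helper77_UT_G2IIaux`).

Core: `g2II_baseO_of`, `g2II_genO_of`, `g2II_O_of` with the statements of `tmE_mem` (KMEM),
`radO_apply` (ZF) and `exists_uG_move` (TORUS) as hypotheses.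
-/

namespace Cfsg.Agent.Lib.Helper27_OT_G2IIaux

open Matrix Module
open Cfsg.Agent.Lib.Helper98_ExtDefs Cfsg.Agent.Lib.Helper97_TensDefs
open Cfsg.Agent.Lib.Helper94_Herm
open Cfsg.Agent.Lib.Helper67_UT2Defs Cfsg.Agent.Lib.Helper37_UTDefs
open Cfsg.Agent.Lib.Helper37_UTPairDefs
open Cfsg.Agent.Lib.Helper94_OrthSmall Cfsg.Agent.Lib.Helper94_OrthSiegel
open Cfsg.Agent.Lib.Helper67_T2ODefs (IsAltMap aw)
open Cfsg.Agent.Lib.Helper38_OTDefs
open Cfsg.Agent.Lib.Helper17_UT_BAS1 Cfsg.Agent.Lib.Helper44_UT_BAS4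
open Cfsg.Agent.Lib.Helper42_UT_BAS6
open Cfsg.Agent.Lib.Helper77_UT_G2IIaux

variable {F : Type*} [Field F] {ι κ : Type*} [Fintype ι] [Fintype κ] [DecidableEq ι]
  [DecidableEq κ]
variable {α : LinearMap.BilinForm F (ι → F)} {β : LinearMap.BilinForm F (κ → F)}
variable {Q : Matrix ι κ F → F} {M : Subgroup (Matrix ι κ F ≃ₗ[F] Matrix ι κ F)}

theorem alt_swap {W : Type*} [AddCommGroup W] [Module F W] {ω : LinearMap.BilinForm F W}
    (hω : ∀ x, ω x x = 0) (x y : W) : ω x y = - ω y x := by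
  have h := hω (x + y)
  simp only [map_add, LinearMap.add_apply, hω x, hω y, zero_add, add_zero] at h
  linear_combination h

/-- symplectic transvections are isometries -/
theorem utv_mem_uG_alt {W : Type*} [AddCommGroup W] [Module F W] {ω : LinearMap.BilinForm F W}
    (hω : ∀ x, ω x x = 0) (a : W) (c : F) : utv ω a c ∈ uG ω := by
  intro x y
  rw [utv_apply ω (hω a), utv_apply ω (hω a)]
  simp only [map_add, map_smul, LinearMap.add_apply, LinearMap.smul_apply, smul_eq_mul, hω a,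
    mul_zero, add_zero]
  rw [alt_swap hω a y]
  ring

/-- a partner `x*` with `α x* x = 1` -/
theorem exists_dualO (hα : ∀ x, α x x = 0) (hαN : NondegOn α ⊤) {x : ι → F} (hx0 : x ≠ 0) :
    ∃ xs : ι → F, α xs x = 1 := by
  obtain ⟨y, -, hy⟩ := hαN x Submodule.mem_top hx0
  have hy' : α y x ≠ 0 := by
    rw [alt_swap hα y x]
    exact neg_ne_zero.mpr hy
  refine ⟨(α y x)⁻¹ • y, ?_⟩
  rw [map_smul, LinearMap.smul_apply, smul_eq_mul, inv_mul_cancel₀ hy']

/-! ## the base case -/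

/-- G2II base, with the statements of `tmE_mem` and of `radO_apply` at `x` as hypotheses -/
theorem g2II_baseO_of [Finite F] (hC : OTCtx α β Q M) (hS : StabII α M)
    (hmem : ∀ (P : (ι → F) ≃ₗ[F] (ι → F)) (R : (κ → F) ≃ₗ[F] (κ → F)), P ∈ uG α → R ∈ uG β →
      tmE P R ∈ M)
    {x : ι → F} (hx0 : x ≠ 0)
    (hrad : ∀ g : Matrix ι κ F ≃ₗ[F] Matrix ι κ F, g ∈ M → (∀ X, g X - X ∈ fibB (κ := κ) x) →
      ∃ s : F, ∀ X, g X = X + s • nII α x X)
    {h : Matrix ι κ F ≃ₗ[F] Matrix ι κ F} (hh : h ∈ M)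
    {s : F} (hs0 : s ≠ 0)
    (hst : ∀ X ∈ Lg x h, tmE (utv α x s) (1 : (κ → F) ≃ₗ[F] (κ → F)) X ∈ Lg x h) :
    ∃ x' : ι → F, x' ≠ 0 ∧ Lg x h = fibB x' := by
  classical
  have hx : α x x = 0 := hC.hα x
  have hι : 0 < Fintype.card ι := by have := hC.ha; omega
  have hκ : 0 < Fintype.card κ := by have := hC.ha; have := hC.hab; omega
  have : Nonempty ι := Fintype.card_pos_iff.mp hι
  have : Nonempty κ := Fintype.card_pos_iff.mp hκ
  obtain ⟨xs, hxs⟩ := exists_dualO hC.hα hC.hαN hx0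
  set u : Matrix ι κ F ≃ₗ[F] Matrix ι κ F := tmE (utv α x s) (1 : (κ → F) ≃ₗ[F] (κ → F)) with hu
  have huM : u ∈ M := hmem _ _ (utv_mem_uG_alt hC.hα x s) (one_mem _)
  have hu_apply : ∀ X, u X = X + s • nII α x X := fun X => tmE_utv_left hx s X
  -- `u' = h⁻¹ u h` stabilises `x ⊗ B`
  set u' : Matrix ι κ F ≃ₗ[F] Matrix ι κ F := h⁻¹ * u * h with hu'
  have hu'M : u' ∈ M := M.mul_mem (M.mul_mem (M.inv_mem hh) huM) hh
  have hu'_apply : ∀ X, u' X = h⁻¹ (u (h X)) := fun X => rfl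
  have hu'st : ∀ w : κ → F, ∃ w' : κ → F, u' (vecMulVec x w) = vecMulVec x w' := by
    intro w
    have h1 : h (vecMulVec x w) ∈ Lg x h := mem_Lg.mpr ⟨w, rfl⟩
    obtain ⟨w', hw'⟩ := mem_Lg.mp (hst _ h1)
    refine ⟨w', ?_⟩
    rw [hu'_apply, hw', inv_app]
  obtain ⟨P, R, hPQ⟩ := hS u' hu'M x x hx0 hx0 hx hu'st
  -- `c = u' - 1`
  set c : Matrix ι κ F →ₗ[F] Matrix ι κ F := u'.toLinearMap - LinearMap.id with hc
  have hc_apply : ∀ X, c X = P * X * Rᵀ - X := by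
    intro X
    rw [hc, LinearMap.sub_apply, LinearMap.id_apply, LinearEquiv.coe_coe, hPQ]
  have hhc : ∀ X, h (c X) = s • nII α x (h X) := by
    intro X
    rw [hc, LinearMap.sub_apply, LinearMap.id_apply, LinearEquiv.coe_coe, map_sub, hu'_apply,
      app_inv, hu_apply, add_sub_cancel_left]
  have hc2 : ∀ X, c (c X) = 0 := by
    intro X
    apply h.injective
    rw [hhc, hhc, map_zero, map_smul, nII_nII hx, smul_zero, smul_zero]
  have hcfib : ∀ X, h (c X) ∈ fibB (κ := κ) x := by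
    intro X
    rw [hhc, nII_apply]
    exact ⟨s • ctrA α x (h X), by rw [vecMulVec_smul]⟩
  have hrange : LinearMap.range c = (fibB (κ := κ) x).map h.symm.toLinearMap := by
    ext Y
    rw [LinearMap.mem_range, Submodule.mem_map]
    constructor
    · rintro ⟨X, rfl⟩
      exact ⟨h (c X), hcfib X, h.symm_apply_apply _⟩
    · rintro ⟨Z, ⟨w, rfl⟩, rfl⟩
      refine ⟨h.symm (s⁻¹ • vecMulVec xs w), ?_⟩
      apply h.injective
      rw [hhc, h.apply_symm_apply, map_smul, nII_dual hxs, smul_smul, mul_inv_cancel₀ hs0,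
        one_smul]
      exact (h.apply_symm_apply _).symm
  have hr : finrank F ↥(LinearMap.range c) = Fintype.card κ := by
    rw [hrange, LinearEquiv.finrank_map_eq, finrank_fibB hx0]
  -- `c ≠ 0`
  have hcne : ∃ X, c X ≠ 0 := by
    by_contra hcon
    push Not at hcon
    have : LinearMap.range c = ⊥ := by
      rw [LinearMap.range_eq_bot]
      exact LinearMap.ext hcon
    rw [this, finrank_bot] at hr
    omega
  have hPQ' : (∃ q : F, R = q • (1 : Matrix κ κ F)) ∨ (∃ p : F, P = p • (1 : Matrix ι ι F)) := by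
    by_cases h2 : (2 : F) = 0
    · exact Cfsg.Agent.Lib.Helper20_UT_KQE.kq_even h2 (by have := hC.ha; omega) P R c hc_apply
        hc2 hr
    · exact Cfsg.Agent.Lib.Helper89_UT_KQO.kq_odd h2 (by have := hC.ha; omega) P R c hc_apply hc2
  rcases hPQ' with ⟨q, rfl⟩ | ⟨p, rfl⟩
  · -- case (i): `u' = P' ⊗ 1`
    have hcR : ∀ X, c X = (q • P - 1) * X := by
      intro X
      rw [hc_apply, Matrix.transpose_smul, Matrix.transpose_one, Matrix.mul_smul, Matrix.mul_one,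
        Matrix.sub_mul, Matrix.one_mul, Matrix.smul_mul]
    have hR : q • P - 1 ≠ 0 := by
      intro h0
      obtain ⟨X, hX⟩ := hcne
      exact hX (by rw [hcR, h0, Matrix.zero_mul])
    obtain ⟨a', ha'⟩ := exists_mulVec_ne_zero hR
    set x₂ : ι → F := (q • P - 1) *ᵥ a' with hx₂
    have hcx₂ : ∀ w : κ → F, c (vecMulVec a' w) = vecMulVec x₂ w := by
      intro w
      rw [hcR, Matrix.mul_vecMulVec]
    have hst₂ : ∀ w : κ → F, ∃ w' : κ → F, h (vecMulVec x₂ w) = vecMulVec x w' := by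
      intro w
      rw [← hcx₂]
      exact hcfib _
    have hk : IsKron h := hS h hh x₂ x ha' hx0 (hC.hα x₂) hst₂
    exact Lg_eq_fibB_of_isKron hx0 hk
  · -- case (ii): `u' = 1 ⊗ Q'`, impossible
    exfalso
    have hcR : ∀ X, c X = X * (p • R - 1)ᵀ := by
      intro X
      rw [hc_apply, Matrix.smul_mul, Matrix.one_mul, Matrix.transpose_sub, Matrix.transpose_smul,
        Matrix.transpose_one, Matrix.mul_sub, Matrix.mul_one, Matrix.mul_smul, Matrix.smul_mul]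
    have hR : p • R - 1 ≠ 0 := by
      intro h0
      obtain ⟨X, hX⟩ := hcne
      exact hX (by rw [hcR, h0, Matrix.transpose_zero, Matrix.mul_zero])
    obtain ⟨v, hv⟩ := exists_mulVec_ne_zero hR
    set y : κ → F := (p • R - 1) *ᵥ v with hy
    have hcy : ∀ a : ι → F, c (vecMulVec a v) = vecMulVec a y := by
      intro a
      rw [hcR, Matrix.vecMulVec_mul, Matrix.vecMul_transpose]
    have hsty : ∀ a : ι → F, h (vecMulVec a y) ∈ fibB (κ := κ) x := by
      intro a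
      rw [← hcy]
      exact hcfib _
    have hyiso : β y y = 0 := hC.hβ y
    set z : Matrix ι κ F ≃ₗ[F] Matrix ι κ F := tmE (1 : (ι → F) ≃ₗ[F] (ι → F)) (utv β y s) with hz
    have hzM : z ∈ M := hmem _ _ (one_mem _) (utv_mem_uG_alt hC.hβ y s)
    have hz_apply : ∀ X, z X = X + s • vecMulVec (ctrB β y X) y := by
      intro X
      rw [hz, tmE_utv_right hyiso s X, nI_apply]
    set g : Matrix ι κ F ≃ₗ[F] Matrix ι κ F := h * z * h⁻¹ with hg
    have hgM : g ∈ M := M.mul_mem (M.mul_mem hh hzM) (M.inv_mem hh)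
    have hg_apply : ∀ X, g X = X + s • h (vecMulVec (ctrB β y (h⁻¹ X)) y) := by
      intro X
      have : g X = h (z (h⁻¹ X)) := rfl
      rw [this, hz_apply, map_add, app_inv, map_smul]
    have hgfib : ∀ X, g X - X ∈ fibB (κ := κ) x := by
      intro X
      rw [hg_apply, add_sub_cancel_left]
      exact (fibB x).smul_mem s (hsty _)
    obtain ⟨s', hgs'⟩ := hrad g hgM hgfib
    have hkey : ∀ X, s • h (vecMulVec (ctrB β y (h⁻¹ X)) y) = s' • nII α x X := by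
      intro X
      have := hgs' X
      rw [hg_apply] at this
      exact add_left_cancel this
    by_cases hs'0 : s' = 0
    · -- then `z = 1`
      obtain ⟨y'', -, hy''⟩ := hC.hβN y Submodule.mem_top hv
      have hy''2 : β y'' y ≠ 0 := by
        rw [alt_swap hC.hβ y'' y]
        exact neg_ne_zero.mpr hy''
      obtain ⟨i⟩ := ‹Nonempty ι›
      have ha1 : (Pi.single i 1 : ι → F) ≠ 0 := by
        intro h
        have := congrFun h i
        simp at this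
      have h1 := hkey (h (vecMulVec (Pi.single i 1) y''))
      rw [hs'0, zero_smul, inv_app, ctrB_pure] at h1
      have h2 : h (vecMulVec (β y'' y • (Pi.single i 1 : ι → F)) y) = 0 := by
        rcases smul_eq_zero.mp h1 with h3 | h3
        · exact absurd h3 hs0
        · exact h3
      have h3 : vecMulVec (β y'' y • (Pi.single i 1 : ι → F)) y = 0 :=
        h.injective (h2.trans (map_zero h).symm)
      exact vmv_ne_zero (smul_ne_zero hy''2 ha1) hv h3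
    · -- then `x ⊗ B ≤ h (A ⊗ y)`: dimensions
      have hle : fibB (κ := κ) x ≤ (fiber (ι := ι) y).map h.toLinearMap := by
        rintro X ⟨w, rfl⟩
        have h1 := hkey (vecMulVec xs w)
        rw [nII_dual hxs] at h1
        rw [Submodule.mem_map]
        refine ⟨vecMulVec ((s'⁻¹ * s) • ctrB β y (h⁻¹ (vecMulVec xs w))) y, ⟨_, rfl⟩, ?_⟩
        rw [smul_vecMulVec, LinearEquiv.coe_coe, map_smul, mul_smul, h1, smul_smul,
          inv_mul_cancel₀ hs'0, one_smul]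
      have h1 := Submodule.finrank_mono hle
      rw [finrank_fibB hx0, LinearEquiv.finrank_map_eq] at h1
      have h2 := finrank_fiber_le (ι := ι) y
      have := hC.hab
      omega

/-! ## a root element of another fibre -/

theorem g2II_genO_of [Finite F] (hC : OTCtx α β Q M) (hS : StabII α M)
    (hmem : ∀ (P : (ι → F) ≃ₗ[F] (ι → F)) (R : (κ → F) ≃ₗ[F] (κ → F)), P ∈ uG α → R ∈ uG β →
      tmE P R ∈ M)
    (hrad : ∀ x : ι → F, x ≠ 0 → ∀ g : Matrix ι κ F ≃ₗ[F] Matrix ι κ F, g ∈ M →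
      (∀ X, g X - X ∈ fibB (κ := κ) x) → ∃ s : F, ∀ X, g X = X + s • nII α x X)
    (hmove : ∀ v v' : ι → F, v ≠ 0 → v' ≠ 0 → ∃ T : (ι → F) ≃ₗ[F] (ι → F), T ∈ uG α ∧ T v = v')
    {x x₂ : ι → F} (hx0 : x ≠ 0) (hx₂0 : x₂ ≠ 0) {h : Matrix ι κ F ≃ₗ[F] Matrix ι κ F}
    (hh : h ∈ M) {s : F} (hs0 : s ≠ 0)
    (hst : ∀ X ∈ Lg x h, tmE (utv α x₂ s) (1 : (κ → F) ≃ₗ[F] (κ → F)) X ∈ Lg x h) :
    ∃ x' : ι → F, x' ≠ 0 ∧ Lg x h = fibB x' := by
  obtain ⟨P, hP, hPx⟩ := hmove x₂ x hx₂0 hx0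
  set n : Matrix ι κ F ≃ₗ[F] Matrix ι κ F := tmE P (1 : (κ → F) ≃ₗ[F] (κ → F)) with hn
  have hnM : n ∈ M := hmem _ _ hP (one_mem _)
  have hn_apply : ∀ w : κ → F, n (vecMulVec x₂ w) = vecMulVec x w := by
    intro w
    rw [hn, tmE_pure, hPx]
    rfl
  have hL : Lg x₂ (h * n) = Lg x h := by
    ext X
    rw [mem_Lg, mem_Lg]
    constructor
    · rintro ⟨w, rfl⟩
      exact ⟨w, by rw [LinearEquiv.mul_apply, hn_apply]⟩
    · rintro ⟨w, rfl⟩
      exact ⟨w, by rw [LinearEquiv.mul_apply, hn_apply]⟩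
  rw [← hL]
  apply g2II_baseO_of hC hS hmem hx₂0 (hrad x₂ hx₂0) (M.mul_mem hh hnM) hs0
  rw [hL]
  exact hst

/-! ## the general case -/

/-- G2II, with the statements of `tmE_mem` and `radO_apply` at `x` as hypotheses -/
theorem g2II_O_of [Finite F] (hC : OTCtx α β Q M) (hS : StabII α M)
    (hmem : ∀ (P : (ι → F) ≃ₗ[F] (ι → F)) (R : (κ → F) ≃ₗ[F] (κ → F)), P ∈ uG α → R ∈ uG β →
      tmE P R ∈ M)
    {x : ι → F} (hx0 : x ≠ 0)
    (hrad : ∀ g : Matrix ι κ F ≃ₗ[F] Matrix ι κ F, g ∈ M → (∀ X, g X - X ∈ fibB (κ := κ) x) →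
      ∃ s : F, ∀ X, g X = X + s • nII α x X)
    {g₁ g₂ : Matrix ι κ F ≃ₗ[F] Matrix ι κ F}
    (hg₁ : g₁ ∈ M) (hg₂ : g₂ ∈ M) {s : F} (hs0 : s ≠ 0)
    (hst : ∀ X ∈ Lg x g₂, rtE α x g₁ s X ∈ Lg x g₂) (hmeet : Lg x g₁ ⊓ Lg x g₂ ≠ ⊥) :
    Lg x g₁ = Lg x g₂ := by
  set h : Matrix ι κ F ≃ₗ[F] Matrix ι κ F := g₁⁻¹ * g₂ with hh
  have hhM : h ∈ M := M.mul_mem (M.inv_mem hg₁) hg₂
  have hLh : ∀ X, X ∈ Lg x h ↔ g₁ X ∈ Lg x g₂ := by
    intro X
    rw [mem_Lg, mem_Lg]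
    constructor
    · rintro ⟨w, rfl⟩
      exact ⟨w, app_inv g₁ _⟩
    · rintro ⟨w, hw⟩
      refine ⟨w, ?_⟩
      have : h (vecMulVec x w) = g₁⁻¹ (g₂ (vecMulVec x w)) := rfl
      rw [this, ← hw, inv_app]
  have hsth : ∀ X ∈ Lg x h, tmE (utv α x s) (1 : (κ → F) ≃ₗ[F] (κ → F)) X ∈ Lg x h := by
    intro X hX
    rw [hLh] at hX ⊢
    have h1 := hst _ hX
    have h2 : rtE α x g₁ s (g₁ X) =
        g₁ (tmE (utv α x s) (1 : (κ → F) ≃ₗ[F] (κ → F)) (g₁⁻¹ (g₁ X))) := rfl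
    rw [h2, inv_app] at h1
    exact h1
  obtain ⟨x', hx'0, hx'⟩ := g2II_baseO_of hC hS hmem hx0 hrad hhM hs0 hsth
  -- the meet, translated by `g₁⁻¹`
  have hmeet' : fibB (κ := κ) x ⊓ fibB x' ≠ ⊥ := by
    obtain ⟨Z, hZ, hZ0⟩ := (Submodule.ne_bot_iff _).mp hmeet
    obtain ⟨hZ1, hZ2⟩ := hZ
    rw [Submodule.ne_bot_iff]
    refine ⟨g₁⁻¹ Z, Submodule.mem_inf.mpr ⟨?_, ?_⟩, ?_⟩
    · obtain ⟨w, rfl⟩ := mem_Lg.mp hZ1
      rw [inv_app]
      exact ⟨w, rfl⟩
    · rw [← hx', hLh, app_inv]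
      exact hZ2
    · intro h0
      apply hZ0
      have := congrArg g₁ h0
      rwa [app_inv, map_zero] at this
  have hfib : fibB (κ := κ) x = fibB x' := fibB_eq_of_meet hmeet'
  -- conclude
  ext Z
  have h1 : Z ∈ Lg x g₂ ↔ g₁⁻¹ Z ∈ Lg x h := by rw [hLh, app_inv]
  rw [h1, hx', ← hfib, mem_Lg]
  constructor
  · rintro ⟨w, rfl⟩
    rw [inv_app]
    exact ⟨w, rfl⟩
  · rintro ⟨w, hw⟩
    refine ⟨w, ?_⟩
    rw [← hw, app_inv]

end Cfsg.Agent.Lib.Helper27_OT_G2IIaux
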