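import Mathlib
import Cfsg.Prelude.Def_Classical
import Cfsg.Prelude.Def_ClassicalGeometry
import Cfsg.Agent.S0782
import Cfsg.Agent.Lib.Helper5_SUCenter

set_option autoImplicit false
set_option linter.unusedSectionVars false
set_option linter.unusedSimpArgs false

/-!
# Existence half of the unitary min-index rows (helper27)

`exists_index hF m : ∃ H : Subgroup (PSU (m+2) F q), (q^2-1) * H.index = fac q m * fac q (m+1)` (the image of the
stabilizer of an isotropic point; from the landed S0782 + Helper5_SUOrder.card_SU), with the three shapes used by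
S2148 (`exists_index_three`), S2151 (`exists_index_odd`) and S2152 (`exists_index_even`).
-/

namespace Cfsg.Agent.Lib.Helper27_PSUIndex

open Matrix

variable {F : Type*} [Field F] [Fintype F] {q : ℕ}

/-- the factor `q^(i+1) ± 1` of the order formula -/
def fac (q i : ℕ) : ℕ := if Even i then q ^ (i + 1) + 1 else q ^ (i + 1) - 1

theorem fac_pos (hq : 2 ≤ q) (i : ℕ) : 0 < fac q i := by
  unfold fac
  split_ifs
  · positivity
  · have : 2 ≤ q ^ (i + 1) := by
      calc 2 ≤ q := hq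
        _ = q ^ 1 := (pow_one q).symm
        _ ≤ q ^ (i + 1) := Nat.pow_le_pow_right (by omega) (by omega)
    omega

/-- an isotropic vector -/
theorem exists_isotropic (hF : Fintype.card F = q ^ 2) (n : ℕ) (hn : 2 ≤ n) :
    ∃ w : Fin n → F, w ≠ 0 ∧ Cfsg.hermForm n F q w w = 0 := by
  obtain ⟨c, hc⟩ := Cfsg.Agent.Lib.Helper5_SUCenter.exists_norm_neg_one (F := F) hF
  let i0 : Fin n := ⟨0, by omega⟩
  let i1 : Fin n := ⟨1, by omega⟩
  have h01 : i0 ≠ i1 := by
    intro h; have := congrArg Fin.val h; simp [i0, i1] at this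
  refine ⟨Pi.single i0 1 + Pi.single i1 c, ?_, ?_⟩
  · intro h
    have := congrFun h i0
    simp [Pi.single_apply, h01] at this
  · unfold Cfsg.hermForm
    have hq0 : q ≠ 0 := by
      rintro rfl
      have : Fintype.card F = 0 := by rw [hF]; norm_num
      exact Fintype.card_ne_zero this
    rw [Finset.sum_eq_add_of_mem i0 i1 (Finset.mem_univ _) (Finset.mem_univ _) h01]
    · simp [Pi.single_apply, h01, h01.symm, hc]
    · intro k _ hk
      simp [Pi.single_apply, hk.1, hk.2, hq0]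


/-- the stabilizer in `SU_n(q)` of the line spanned by `w` -/
def stabSU (n : ℕ) (q : ℕ) (w : Fin n → F) : Subgroup ↥(Cfsg.SU n F q) :=
  (Cfsg.stabilizing (Cfsg.slToMat n F)
    ((Submodule.span F {w} : Submodule F (Fin n → F)) : Set (Fin n → F))).subgroupOf (Cfsg.SU n F q)

theorem tri_add_two (m : ℕ) : (m + 2) * (m + 2 - 1) / 2 = m * (m - 1) / 2 + (2 * m + 1) := by
  have h : (m + 2) * (m + 2 - 1) = m * (m - 1) + 2 * (2 * m + 1) := by
    cases m with
    | zero => rfl
    | succ k =>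
      have e1 : k + 1 + 2 - 1 = k + 2 := by omega
      have e2 : k + 1 - 1 = k := by omega
      rw [e1, e2]
      ring
  rw [h, Nat.add_mul_div_left _ _ (by norm_num : 0 < 2)]

theorem index_stabSU (hF : Fintype.card F = q ^ 2) (m : ℕ) (w : Fin (m + 2) → F) (hw0 : w ≠ 0)
    (hw : Cfsg.hermForm (m + 2) F q w w = 0) :
    (q ^ 2 - 1) * (stabSU (m + 2) q w).index = fac q m * fac q (m + 1) := by
  have hq2 : 2 ≤ q := Cfsg.Agent.Lib.Helper13_Herm.two_le_q hF
  have hq0 : q ≠ 0 := by omega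
  have hW : ∀ u ∈ (Submodule.span F {w} : Submodule F (Fin (m + 2) → F)),
      ∀ v ∈ (Submodule.span F {w} : Submodule F (Fin (m + 2) → F)),
      Cfsg.hermForm (m + 2) F q u v = 0 := by
    intro u hu v hv
    obtain ⟨a, rfl⟩ := Submodule.mem_span_singleton.mp hu
    obtain ⟨b, rfl⟩ := Submodule.mem_span_singleton.mp hv
    unfold Cfsg.hermForm at hw ⊢
    have : ∀ i, (a • w) i * (b • w) i ^ q = (a * b ^ q) * (w i * w i ^ q) := by
      intro i
      simp only [Pi.smul_apply, smul_eq_mul, mul_pow]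
      ring
    simp only [this, ← Finset.mul_sum, hw, mul_zero]
  have h1 := Cfsg.Agent.S0782.result hF (m + 2) 1 (by omega) (by omega)
    (Submodule.span F {w}) (finrank_span_singleton hw0) hW
  have h2 := Cfsg.Agent.Lib.Helper5_SUOrder.card_SU hF (m + 2) (by omega)
  have h3 := Subgroup.index_mul_card (stabSU (m + 2) q w)
  have e1 : m + 2 - 2 * 1 = m := by omega
  have e2 : 1 * (2 * (m + 2) - 3 * 1) = 2 * m + 1 := by omega
  rw [e1, e2] at h1
  simp only [Finset.univ_unique, Fin.default_eq_zero, Fin.isValue, Finset.prod_singleton,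
    Fin.val_zero, pow_zero, pow_one] at h1
  rw [tri_add_two, Finset.prod_range_succ, Finset.prod_range_succ] at h2
  set P : ℕ := ∏ i ∈ Finset.range m, (if Even i then q ^ (i + 1) + 1 else q ^ (i + 1) - 1) with hP
  have hPpos : 0 < P := by
    apply Finset.prod_pos
    intro i _
    exact fac_pos hq2 i
  set S : ℕ := Nat.card ↥(stabSU (m + 2) q w) with hS
  have h1' : (q + 1) * S = q ^ (2 * m + 1) * (q ^ 2 - 1) * (q ^ (m * (m - 1) / 2) * P) := h1
  have hfm : (if Even m then q ^ (m + 1) + 1 else q ^ (m + 1) - 1) = fac q m := rfl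
  have hfm1 : (if Even (m + 1) then q ^ (m + 1 + 1) + 1 else q ^ (m + 1 + 1) - 1) = fac q (m + 1) := rfl
  rw [hfm, hfm1] at h2
  -- combine
  have h4 : q ^ (m * (m - 1) / 2 + (2 * m + 1)) * (P * fac q m * fac q (m + 1))
      = (stabSU (m + 2) q w).index *
        (q ^ (2 * m + 1) * (q ^ 2 - 1) * (q ^ (m * (m - 1) / 2) * P)) := by
    rw [← h2, ← h1', ← h3]
    ring
  have hC : 0 < q ^ (m * (m - 1) / 2 + (2 * m + 1)) * P := by positivity
  apply Nat.eq_of_mul_eq_mul_left hC
  rw [pow_add] at h4 ⊢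
  linarith [h4]

/-- the centre of `SU_n(q)` stabilizes every line -/
theorem center_le_stabSU (hF : Fintype.card F = q ^ 2) (m : ℕ) (w : Fin (m + 2) → F) :
    Subgroup.center ↥(Cfsg.SU (m + 2) F q) ≤ stabSU (m + 2) q w := by
  intro z hz
  have hsm := Cfsg.Agent.Lib.Helper5_SUCenter.center_eq_smul hF z hz (0 : Fin (m + 2))
  set r : F := (z.1 : Matrix (Fin (m + 2)) (Fin (m + 2)) F) 0 0 with hr
  have hr0 : r ≠ 0 := by
    intro h0
    have hdet : (z.1 : Matrix (Fin (m + 2)) (Fin (m + 2)) F).det = 1 := z.1.2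
    rw [hsm, h0, zero_smul, Matrix.det_zero] at hdet
    exact zero_ne_one hdet
  show (z : Matrix.SpecialLinearGroup (Fin (m + 2)) F) ∈
    Cfsg.stabilizing (Cfsg.slToMat (m + 2) F) _
  intro v
  have hmat : Cfsg.slToMat (m + 2) F (z : Matrix.SpecialLinearGroup (Fin (m + 2)) F)
      = (z.1 : Matrix (Fin (m + 2)) (Fin (m + 2)) F) := rfl
  rw [hmat, hsm, Matrix.smul_mulVec, Matrix.one_mulVec]
  simp only [SetLike.mem_coe]
  exact (Submodule.smul_mem_iff _ hr0).symm

theorem exists_index (hF : Fintype.card F = q ^ 2) (m : ℕ) :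
    ∃ H : Subgroup (Cfsg.PSU (m + 2) F q), (q ^ 2 - 1) * H.index = fac q m * fac q (m + 1) := by
  obtain ⟨w, hw0, hw⟩ := exists_isotropic hF (m + 2) (by omega)
  refine ⟨(stabSU (m + 2) q w).map (QuotientGroup.mk' (Subgroup.center ↥(Cfsg.SU (m + 2) F q))), ?_⟩
  rw [Subgroup.index_map_eq _ (QuotientGroup.mk'_surjective _)
    (by rw [QuotientGroup.ker_mk']; exact center_le_stabSU hF m w)]
  exact index_stabSU hF m w hw0 hw

/-- `PSU_3(q)` has a subgroup of index `q^3 + 1` -/
theorem exists_index_three (hF : Fintype.card F = q ^ 2) :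
    ∃ H : Subgroup (Cfsg.PSU 3 F q), H.index = q ^ 3 + 1 := by
  have hq2 : 2 ≤ q := Cfsg.Agent.Lib.Helper13_Herm.two_le_q hF
  obtain ⟨H, hH⟩ := exists_index hF 1
  refine ⟨H, ?_⟩
  have h1 : fac q 1 = q ^ 2 - 1 := by simp [fac]
  have h2 : fac q 2 = q ^ 3 + 1 := by simp [fac]
  rw [h1, h2] at hH
  have hpos : 0 < q ^ 2 - 1 := by
    have : 4 ≤ q ^ 2 := by nlinarith
    omega
  exact Nat.eq_of_mul_eq_mul_left hpos hH

/-- odd dimension: a subgroup of index `(q^n+1)(q^(n-1)-1)/(q^2-1)` -/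
theorem exists_index_odd (hF : Fintype.card F = q ^ 2) (n : ℕ) (hn : 3 ≤ n) (hodd : Odd n) :
    ∃ H : Subgroup (Cfsg.PSU n F q), H.index = (q ^ n + 1) * (q ^ (n - 1) - 1) / (q ^ 2 - 1) := by
  have hq2 : 2 ≤ q := Cfsg.Agent.Lib.Helper13_Herm.two_le_q hF
  obtain ⟨m, rfl⟩ : ∃ m, n = m + 2 := ⟨n - 2, by omega⟩
  obtain ⟨H, hH⟩ := exists_index hF m
  refine ⟨H, ?_⟩
  have hmodd : ¬ Even m := by
    intro he
    have : Even (m + 2) := he.add (by decide)
    exact (Nat.not_even_iff_odd.mpr hodd) this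
  have hm1 : Even (m + 1) := by
    rcases Nat.even_or_odd (m + 1) with h | h
    · exact h
    · exfalso
      apply hmodd
      have := Nat.odd_add_one.mp (by simpa using h)
      exact Nat.not_odd_iff_even.mp this
  have h1 : fac q m = q ^ (m + 1) - 1 := by simp [fac, hmodd]
  have h2 : fac q (m + 1) = q ^ (m + 2) + 1 := by simp [fac, hm1]
  rw [h1, h2] at hH
  have hpos : 0 < q ^ 2 - 1 := by
    have : 4 ≤ q ^ 2 := by nlinarith
    omega
  have e : m + 2 - 1 = m + 1 := by omega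
  rw [e, mul_comm (q ^ (m + 2) + 1), ← hH, Nat.mul_div_cancel_left _ hpos]

/-- even dimension: a subgroup of index `(q^n-1)(q^(n-1)+1)/(q^2-1)` -/
theorem exists_index_even (hF : Fintype.card F = q ^ 2) (n : ℕ) (hn : 2 ≤ n) (heven : Even n) :
    ∃ H : Subgroup (Cfsg.PSU n F q), H.index = (q ^ n - 1) * (q ^ (n - 1) + 1) / (q ^ 2 - 1) := by
  have hq2 : 2 ≤ q := Cfsg.Agent.Lib.Helper13_Herm.two_le_q hF
  obtain ⟨m, rfl⟩ : ∃ m, n = m + 2 := ⟨n - 2, by omega⟩
  obtain ⟨H, hH⟩ := exists_index hF m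
  refine ⟨H, ?_⟩
  have hm : Even m := by
    rcases Nat.even_or_odd m with h | h
    · exact h
    · exfalso
      have : Odd (m + 2) := h.add_even (by decide)
      exact (Nat.not_even_iff_odd.mpr this) heven
  have hm1 : ¬ Even (m + 1) := by
    intro h
    have := Nat.even_add_one.mp h
    exact this hm
  have h1 : fac q m = q ^ (m + 1) + 1 := by simp [fac, hm]
  have h2 : fac q (m + 1) = q ^ (m + 2) - 1 := by simp [fac, hm1]
  rw [h1, h2] at hH
  have hpos : 0 < q ^ 2 - 1 := by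
    have : 4 ≤ q ^ 2 := by nlinarith
    omega
  have e : m + 2 - 1 = m + 1 := by omega
  rw [e, mul_comm (q ^ (m + 2) - 1), ← hH, Nat.mul_div_cancel_left _ hpos]

end Cfsg.Agent.Lib.Helper27_PSUIndex
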