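import Mathlib
import Cfsg.Agent.S0260

/-!
# Sylow `p`-subgroups of a group isomorphic to `PSL₂(F)`, `|F| = pⁿ`  (helper27, for the `pu_packages` market)

For `e : L ≃* PSL₂(F)` and `g : SL₂(F)`, `psi e g x = e⁻¹ (π (g x g⁻¹))` is a surjective homomorphism
`SL₂(F) →* L`.  `key`: every Sylow `p`-subgroup of `L` is the image under some `psi e g` of the upper
unitriangular group, `x ∈ P ↔ ∃ b, x = psi e g (uT b)`.
-/

set_option autoImplicit false

namespace Cfsg.Agent.Lib.Helper27_PU_PSLKey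

open Matrix Matrix.SpecialLinearGroup Cfsg.Agent.S0260
open scoped MatrixGroups Pointwise

variable {p : ℕ} [Fact p.Prime] (F : Type) [Field F] [Fintype F]

/-- the characteristic from the cardinality -/
theorem charP_of_card {n : ℕ} (_hn : 1 ≤ n) (hF : Fintype.card F = p ^ n) : CharP F p := by
  obtain ⟨c, hc⟩ := CharP.exists F
  have := hc
  have hcp : Fact c.Prime := ⟨CharP.char_is_prime F c⟩
  obtain ⟨m, hcm, hm⟩ := FiniteField.card F c
  have h1 : c ∣ p ^ n := by rw [← hF, hm]; exact dvd_pow_self c m.ne_zero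
  have h2 : c ∣ p := hcp.out.dvd_of_dvd_pow h1
  have h3 : c = p := (Nat.prime_dvd_prime_iff_eq hcp.out Fact.out).mp h2
  rw [← h3]
  exact hc

variable {F}
variable {L : Type*} [Group L]

/-- the projection onto the projective group -/
abbrev proj : SL(2, F) →* Matrix.ProjectiveSpecialLinearGroup (Fin 2) F :=
  QuotientGroup.mk' (Subgroup.center SL(2, F))

/-- `x ↦ e⁻¹ (π (g x g⁻¹))` -/
noncomputable def psi (e : L ≃* Matrix.ProjectiveSpecialLinearGroup (Fin 2) F) (g : SL(2, F)) :
    SL(2, F) →* L :=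
  e.symm.toMonoidHom.comp (proj.comp (MulAut.conj g).toMonoidHom)

theorem psi_apply (e : L ≃* Matrix.ProjectiveSpecialLinearGroup (Fin 2) F) (g x : SL(2, F)) :
    psi e g x = e.symm (proj (g * x * g⁻¹)) := rfl

theorem e_psi (e : L ≃* Matrix.ProjectiveSpecialLinearGroup (Fin 2) F) (g x : SL(2, F)) :
    e (psi e g x) = proj (g * x * g⁻¹) := by
  rw [psi_apply, MulEquiv.apply_symm_apply]

theorem psi_surjective (e : L ≃* Matrix.ProjectiveSpecialLinearGroup (Fin 2) F) (g : SL(2, F)) :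
    Function.Surjective (psi e g) := by
  intro y
  obtain ⟨x, hx⟩ := QuotientGroup.mk'_surjective (Subgroup.center SL(2, F)) (e y)
  refine ⟨g⁻¹ * x * g, ?_⟩
  rw [psi_apply]
  have : g * (g⁻¹ * x * g) * g⁻¹ = x := by group
  rw [this, hx, MulEquiv.symm_apply_apply]

/-- changing the conjugating element -/
theorem psi_mul (e : L ≃* Matrix.ProjectiveSpecialLinearGroup (Fin 2) F) (g k x : SL(2, F)) :
    psi e (g * k) x = psi e g (k * x * k⁻¹) := by
  rw [psi_apply, psi_apply]
  congr 2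
  group

variable [CharP F p]

/-- every Sylow `p`-subgroup of `L` is `psi e g '' U` for some `g` -/
theorem key (e : L ≃* Matrix.ProjectiveSpecialLinearGroup (Fin 2) F) (P : Sylow p L) :
    ∃ g : SL(2, F), ∀ x : L, x ∈ (P : Subgroup L) ↔ ∃ b : F, x = psi e g (uT b) := by
  have : Finite L := Finite.of_equiv _ e.symm.toEquiv
  set Ub : Sylow p (Matrix.ProjectiveSpecialLinearGroup (Fin 2) F) :=
    (US p : Sylow p SL(2, F)).mapSurjective (QuotientGroup.mk'_surjective _) with hUb
  set P₁ : Sylow p (Matrix.ProjectiveSpecialLinearGroup (Fin 2) F) :=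
    P.mapSurjective (f := e.toMonoidHom) e.surjective with hP₁
  obtain ⟨gb, hgb⟩ := MulAction.exists_smul_eq (Matrix.ProjectiveSpecialLinearGroup (Fin 2) F) Ub P₁
  obtain ⟨g, rfl⟩ := QuotientGroup.mk'_surjective (Subgroup.center SL(2, F)) gb
  refine ⟨g, fun x => ?_⟩
  have h1 : x ∈ (P : Subgroup L) ↔ e x ∈ (P₁ : Subgroup _) := by
    change x ∈ (P : Subgroup L) ↔ e x ∈ (P : Subgroup L).map e.toMonoidHom
    constructor
    · intro hx
      exact ⟨x, hx, rfl⟩
    · rintro ⟨y, hy, hxy⟩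
      have : y = x := e.injective hxy
      rwa [← this]
  rw [h1, ← hgb, Sylow.coe_subgroup_smul, Subgroup.mem_smul_pointwise_iff_exists]
  constructor
  · rintro ⟨s, hs, hsx⟩
    have hs' : s ∈ (U : Subgroup SL(2, F)).map proj := by
      have : s ∈ ((US p : Sylow p SL(2, F)) : Subgroup SL(2, F)).map proj := hs
      rwa [coe_US] at this
    obtain ⟨y, hy, rfl⟩ := hs'
    obtain ⟨b, rfl⟩ := (mem_U_iff y).mp hy
    refine ⟨b, ?_⟩
    apply e.injective
    rw [e_psi, ← hsx]
    simp [MulAut.smul_def, MulAut.conj_apply]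
  · rintro ⟨b, rfl⟩
    refine ⟨proj (uT b), ?_, ?_⟩
    · change proj (uT b) ∈ ((US p : Sylow p SL(2, F)) : Subgroup SL(2, F)).map proj
      rw [coe_US]
      exact ⟨uT b, uT_mem_U b, rfl⟩
    · rw [e_psi]
      simp [MulAut.smul_def, MulAut.conj_apply]

end Cfsg.Agent.Lib.Helper27_PU_PSLKey
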