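import Mathlib
import Cfsg.Agent.S0260
import Cfsg.Agent.Lib.Helper27_PU_PSLKey

/-!
# `pu_packages` market, package PSLGEN (helper27)

In `L ≃* PSL₂(F)`, `|F| = pⁿ`: a nontrivial element of a Sylow `p`-subgroup `P` together with another Sylow
`p`-subgroup `P'` generates `L`.  In `SL₂(F)`: `U` and `w = k (uT b) k⁻¹` with `b ≠ 0`, `k 1 0 ≠ 0` generate
(`w 1 0 = -b (k 1 0)² ≠ 0`, so `U ⊔ wUw⁻¹ = ⊤` by `S0260.sup_eq_top_of_lower_ne_zero`).
-/

set_option autoImplicit false

namespace Cfsg.Agent.Lib.Helper27_PU_PSLGEN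

open Matrix Matrix.SpecialLinearGroup Cfsg.Agent.S0260 Cfsg.Agent.Lib.Helper27_PU_PSLKey
open scoped MatrixGroups Pointwise

section SL
variable {F : Type*} [Field F]

/-- the lower left entry of a conjugate of an upper transvection -/
theorem conj_uT_lower (k : SL(2, F)) (b : F) : (k * uT b * k⁻¹) 1 0 = -(b * k 1 0 * k 1 0) := by
  set w : SL(2, F) := k * uT b * k⁻¹ with hw
  have h : w * k = k * uT b := by rw [hw]; group
  have hd := det_eq k
  have h10 := congrArg (fun M : SL(2, F) => (M : Matrix (Fin 2) (Fin 2) F) 1 0) h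
  have h11 := congrArg (fun M : SL(2, F) => (M : Matrix (Fin 2) (Fin 2) F) 1 1) h
  simp only [coe_mul, uT_coe, Matrix.mul_apply, Fin.sum_univ_two] at h10 h11
  simp at h10 h11
  linear_combination (k 1 1) * h10 - (k 1 0) * h11 - (w 1 0) * hd

/-- `U` and an element with nonzero lower left entry generate `SL₂(F)` -/
theorem closure_insert_U (w : SL(2, F)) (hw : w 1 0 ≠ 0) :
    Subgroup.closure (insert w ((U : Subgroup SL(2, F)) : Set SL(2, F))) = ⊤ := by
  rw [eq_top_iff, ← sup_eq_top_of_lower_ne_zero w hw]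
  have hwm : w ∈ Subgroup.closure (insert w ((U : Subgroup SL(2, F)) : Set SL(2, F))) :=
    Subgroup.subset_closure (Set.mem_insert _ _)
  have hU : (U : Subgroup SL(2, F)) ≤
      Subgroup.closure (insert w ((U : Subgroup SL(2, F)) : Set SL(2, F))) := fun x hx =>
    Subgroup.subset_closure (Set.mem_insert_of_mem _ hx)
  apply sup_le hU
  intro x hx
  rw [Subgroup.mem_smul_pointwise_iff_exists] at hx
  obtain ⟨s, hs, rfl⟩ := hx
  rw [MulAut.smul_def, MulAut.conj_apply]
  exact mul_mem (mul_mem hwm (hU hs)) (inv_mem hwm)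

end SL

section PSL

variable {p : ℕ} [Fact p.Prime] (F : Type) [Field F] [Fintype F] (n : ℕ) (hn : 1 ≤ n)
  (hF : Fintype.card F = p ^ n) {L : Type*} [Group L]
  (e : L ≃* Matrix.ProjectiveSpecialLinearGroup (Fin 2) F)
include hn hF e

theorem psl_gen (P P' : Sylow p L) (hne : P ≠ P') (u : L) (hu : u ∈ (P : Subgroup L))
    (hu1 : u ≠ 1) : Subgroup.closure (insert u ((P' : Subgroup L) : Set L)) = ⊤ := by
  have := charP_of_card F hn hF
  obtain ⟨g, hg⟩ := key e P
  obtain ⟨g', hg'⟩ := key e P'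
  obtain ⟨b, hb⟩ := (hg u).mp hu
  have hb0 : b ≠ 0 := by
    rintro rfl
    apply hu1
    rw [hb]
    have : (uT (0 : F) : SL(2, F)) = 1 := transvection_coeff_zero _
    rw [this, map_one]
  set k : SL(2, F) := g'⁻¹ * g with hk
  have hgk : g = g' * k := by rw [hk]; group
  have hk10 : k 1 0 ≠ 0 := by
    intro hk0
    apply hne
    apply Sylow.ext
    ext x
    rw [hg x, hg' x]
    have hd := det_eq k
    rw [hk0, mul_zero, sub_zero] at hd
    have hk00 : k 0 0 ≠ 0 := left_ne_zero_of_mul_eq_one hd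
    constructor
    · rintro ⟨c, rfl⟩
      refine ⟨k 0 0 * k 0 0 * c, ?_⟩
      rw [hgk, psi_mul, conj_uT_of_lower_zero k hk0]
    · rintro ⟨c, rfl⟩
      refine ⟨c / (k 0 0 * k 0 0), ?_⟩
      rw [hgk, psi_mul, conj_uT_of_lower_zero k hk0]
      congr 2
      field_simp
  set w : SL(2, F) := k * uT b * k⁻¹ with hw
  have hw10 : w 1 0 ≠ 0 := by
    rw [hw, conj_uT_lower]
    exact neg_ne_zero.mpr (mul_ne_zero (mul_ne_zero hb0 hk10) hk10)
  have h2 := closure_insert_U w hw10
  have h3 : (Subgroup.closure (insert w ((U : Subgroup SL(2, F)) : Set SL(2, F)))).map (psi e g') ≤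
      Subgroup.closure (insert u ((P' : Subgroup L) : Set L)) := by
    rw [MonoidHom.map_closure]
    apply Subgroup.closure_mono
    rintro _ ⟨y, hy, rfl⟩
    rcases hy with rfl | hy
    · left
      rw [hb, hgk, psi_mul]
    · right
      obtain ⟨c, rfl⟩ := (mem_U_iff y).mp hy
      exact (hg' _).mpr ⟨c, rfl⟩
  rw [h2, ← MonoidHom.range_eq_map, MonoidHom.range_eq_top.mpr (psi_surjective e g')] at h3
  exact top_le_iff.mp h3

end PSL

end Cfsg.Agent.Lib.Helper27_PU_PSLGEN
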