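import Mathlib
import Cfsg.Agent.S0260
import Cfsg.Agent.Lib.Helper27_PU_PSLKey

/-!
# `pu_packages` market, package PSLIRR (helper27)

In `L ≃* PSL₂(F)`, `|F| = pⁿ`: the normalizer of a Sylow `p`-subgroup `P` acts irreducibly on `P`.
With `P = ψ(U)`, `ψ = psi e g`: the set `A = {b | ψ (uT b) ∈ D}` is closed under addition and, because
`ψ (diag(c, c⁻¹))` normalizes `P` hence `D`, under multiplication by squares; every element of a finite field
is a sum of two squares, so `A` is an ideal of `F`.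
-/

set_option autoImplicit false

namespace Cfsg.Agent.Lib.Helper27_PU_PSLIRR

open Matrix Matrix.SpecialLinearGroup Cfsg.Agent.S0260 Cfsg.Agent.Lib.Helper27_PU_PSLKey
open scoped MatrixGroups Pointwise

section SL
variable {F : Type*} [Field F]

/-- the diagonal matrix `diag(c, c⁻¹)` -/
noncomputable def dg (c : F) (hc : c ≠ 0) : SL(2, F) :=
  ⟨!![c, 0; 0, c⁻¹], by rw [Matrix.det_fin_two_of]; field_simp; ring⟩

theorem dg_10 (c : F) (hc : c ≠ 0) : (dg c hc) 1 0 = 0 := by simp [dg]

theorem dg_00 (c : F) (hc : c ≠ 0) : (dg c hc) 0 0 = c := by simp [dg]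

theorem dg_conj (c : F) (hc : c ≠ 0) (b : F) : dg c hc * uT b * (dg c hc)⁻¹ = uT (c * c * b) := by
  rw [conj_uT_of_lower_zero _ (dg_10 c hc), dg_00]

theorem dg_conj_inv (c : F) (hc : c ≠ 0) (b : F) :
    (dg c hc)⁻¹ * uT b * dg c hc = uT (b / (c * c)) := by
  have h := dg_conj c hc (b / (c * c))
  have h2 : c * c * (b / (c * c)) = b := by field_simp
  rw [h2] at h
  rw [← h]
  group

/-- every element of a finite field is a sum of two squares -/
theorem exists_sq_add_sq' [Fintype F] (a : F) : ∃ s t : F, a = s * s + t * t := by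
  classical
  rcases Nat.mod_two_eq_zero_or_one (Fintype.card F) with h | h
  · have h2 : ringChar F = 2 := FiniteField.even_card_iff_char_two.mpr h
    obtain ⟨s, hs⟩ := FiniteField.isSquare_of_char_two h2 a
    exact ⟨s, 0, by rw [hs]; ring⟩
  · let f : Polynomial F := Polynomial.X ^ 2
    let g : Polynomial F := Polynomial.X ^ 2 - Polynomial.C a
    obtain ⟨s, t, hst⟩ : ∃ s t, f.eval s + g.eval t = 0 :=
      FiniteField.exists_root_sum_quadratic (Polynomial.degree_X_pow 2)
        (Polynomial.degree_X_pow_sub_C (by decide) _) h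
    refine ⟨s, t, ?_⟩
    simp only [f, g, Polynomial.eval_C, Polynomial.eval_X, Polynomial.eval_pow,
      Polynomial.eval_sub] at hst
    linear_combination -hst

end SL

section PSL

variable {p : ℕ} [Fact p.Prime] (F : Type) [Field F] [Fintype F] (n : ℕ) (hn : 1 ≤ n)
  (hF : Fintype.card F = p ^ n) {L : Type*} [Group L]
  (e : L ≃* Matrix.ProjectiveSpecialLinearGroup (Fin 2) F)
include hn hF e

theorem psl_irr (P : Sylow p L) (D : Subgroup L) (hD : D ≤ (P : Subgroup L))
    (hN : Subgroup.normalizer ((P : Subgroup L) : Set L) ≤ Subgroup.normalizer (D : Set L)) :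
    D = ⊥ ∨ D = (P : Subgroup L) := by
  have := charP_of_card F hn hF
  obtain ⟨g, hg⟩ := key e P
  set ψ : SL(2, F) →* L := psi e g with hψ
  have hadd : ∀ a b : F, ψ (uT a) ∈ D → ψ (uT b) ∈ D → ψ (uT (a + b)) ∈ D := by
    intro a b ha hb
    have : (uT (a + b) : SL(2, F)) = uT a * uT b := transvection_add _ a b
    rw [this, map_mul]
    exact D.mul_mem ha hb
  have hzero : ψ (uT (0 : F)) ∈ D := by
    have : (uT (0 : F) : SL(2, F)) = 1 := transvection_coeff_zero _
    rw [this, map_one]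
    exact D.one_mem
  -- the torus normalizes `P`
  have hnorm : ∀ (c : F) (hc : c ≠ 0), ψ (dg c hc) ∈ Subgroup.normalizer ((P : Subgroup L) : Set L) := by
    intro c hc
    rw [Subgroup.mem_normalizer_iff]
    intro x
    rw [hg x, hg (ψ (dg c hc) * x * (ψ (dg c hc))⁻¹)]
    constructor
    · rintro ⟨b, rfl⟩
      refine ⟨c * c * b, ?_⟩
      rw [← map_inv, ← map_mul, ← map_mul, dg_conj]
    · rintro ⟨b, hb⟩
      refine ⟨b / (c * c), ?_⟩
      have hx : x = (ψ (dg c hc))⁻¹ * (ψ (dg c hc) * x * (ψ (dg c hc))⁻¹) * ψ (dg c hc) := by group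
      rw [hx, hb, ← map_inv, ← map_mul, ← map_mul, dg_conj_inv]
  have hsq : ∀ c b : F, ψ (uT b) ∈ D → ψ (uT (c * c * b)) ∈ D := by
    intro c b hb
    by_cases hc : c = 0
    · rw [hc, zero_mul, zero_mul]; exact hzero
    · have h1 := hN (hnorm c hc)
      rw [Subgroup.mem_normalizer_iff] at h1
      have h2 := (h1 _).mp hb
      rwa [← map_inv, ← map_mul, ← map_mul, dg_conj] at h2
  have hall : ∀ c b : F, ψ (uT b) ∈ D → ψ (uT (c * b)) ∈ D := by
    intro c b hb
    obtain ⟨s, t, rfl⟩ := exists_sq_add_sq' c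
    rw [add_mul]
    exact hadd _ _ (hsq s b hb) (hsq t b hb)
  by_cases h : ∃ b : F, b ≠ 0 ∧ ψ (uT b) ∈ D
  · right
    obtain ⟨b, hb0, hb⟩ := h
    apply le_antisymm hD
    intro x hx
    obtain ⟨c, rfl⟩ := (hg x).mp hx
    have := hall (c / b) b hb
    rwa [div_mul_cancel₀ c hb0] at this
  · left
    rw [eq_bot_iff]
    intro x hx
    obtain ⟨c, rfl⟩ := (hg x).mp (hD hx)
    rw [Subgroup.mem_bot]
    by_cases hc : c = 0
    · have : (uT (0 : F) : SL(2, F)) = 1 := transvection_coeff_zero _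
      rw [hc, this, map_one]
    · exact absurd ⟨c, hc, hx⟩ h

end PSL

end Cfsg.Agent.Lib.Helper27_PU_PSLIRR
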