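import Mathlib
import Cfsg.Agent.Lib.Helper94_UQInst
import Cfsg.Agent.Lib.Helper94_UQPts
import Cfsg.Agent.Lib.Helper27_UQ_GEN
import Cfsg.Agent.Lib.Helper27_UQ_CARD
import Cfsg.Agent.Lib.Helper27_UQ_GEO3
import Cfsg.Agent.Lib.Helper10_S2153_RP
import Cfsg.Agent.Lib.Helper64_UQ_PARAM

set_option autoImplicit false
set_option linter.unusedSectionVars false
set_option linter.unusedVariables false
set_option linter.unusedSimpArgs false

open Module Cfsg.Agent.Lib.Helper94_Symp Cfsg.Agent.Lib.Helper94_Herm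
  Cfsg.Agent.Lib.Helper94_HermEich
  Cfsg.Agent.Lib.Helper13_SUGen Cfsg.Agent.Lib.Helper13_PSUSimple Cfsg.Agent.Lib.Helper14_PSULocal1
  Cfsg.Agent.Lib.Helper27_UQDefs Cfsg.Agent.Lib.Helper94_UQPts

/-!
# S2151-RMAIN (architect helper68; author helper27)
STEP 4: if every `Q_u` is regular on `Ω`, a torus element `s` of prime order `r ∤ q` acting as `λ, λ⁻¹, 1` on
`⟨e1,f1⟩`, `⟨e2,f2⟩`, rest, has `#Fix s = #C_{Q_u}(s)` (RP), which is `≤ q` at `u = ⟨e1⟩` but `≥ q + 1` at `u = ⟨e3⟩`.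
-/

namespace Cfsg.Agent.Lib.Helper27_S2151_RMAIN

variable {F V : Type*} [Field F] [AddCommGroup V] [Module F V] {σ : F →+* F}
variable {B : V →ₗ[F] V →ₛₗ[σ] F}

theorem finite_linearEquiv [Finite F] [FiniteDimensional F V] : Finite (V ≃ₗ[F] V) := by
  have : Finite V := Module.finite_of_finite F
  exact Finite.of_injective (fun e : V ≃ₗ[F] V => (e : V → V)) DFunLike.coe_injective

/-- `Qs B (mkPt a) ≃ Qv B a` -/
noncomputable def QsEquiv (hB : IsHerm B) {a a' : V} (h : HypPair B a a') (ha0 : a ≠ 0) :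
    ↥(Qs B (mkPt ha0 h.ee)) ≃ ↥(Qv B a) where
  toFun g := ⟨((g : ↥(SUg B)) : V ≃ₗ[F] V), (mem_Qs_mkPt ha0 h.ee).mp g.2⟩
  invFun x := ⟨⟨(x : V ≃ₗ[F] V), Qv_le_SUg hB h x.2⟩, (mem_Qs_mkPt ha0 h.ee).mpr x.2⟩
  left_inv g := rfl
  right_inv x := rfl

theorem not_dvd_card_Qs [Finite F] [FiniteDimensional F V] (hσ : Invol σ) (hB : IsHerm B)
    {q : ℕ} (hF : Nat.card F = q ^ 2) {a a' : V} (h : HypPair B a a') (ha0 : a ≠ 0) {r : ℕ}
    (hr : r.Prime) (hrq : ¬ r ∣ q) : ¬ r ∣ Nat.card ↥(Qs B (mkPt ha0 h.ee)) := by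
  rw [Nat.card_congr (QsEquiv hB h ha0), Cfsg.Agent.Lib.Helper27_UQ_CARD.card_Qv hσ hB hF h,
    Cfsg.Agent.Lib.Helper27_UQ_CARD.card_Wsub hF h, ← pow_succ]
  intro hd
  exact hrq (hr.dvd_of_dvd_pow hd)

/-- an element fixing the line `⟨a⟩` fixes the point `mkPt a` -/
theorem smul_mkPt_eq (g : ↥(SUg B)) {a : V} (ha0 : a ≠ 0) (ha : B a a = 0) {c : F}
    (hga : (g : V ≃ₗ[F] V) a = c • a) : g • (mkPt ha0 ha : IsoPt B) = mkPt ha0 ha := by
  rw [smul_mkPt]
  have hc : c ≠ 0 := by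
    rintro rfl
    rw [zero_smul] at hga
    exact ha0 (by simpa using hga)
  symm
  rw [mkPt_eq_iff]
  exact ⟨c, hc, hga.symm⟩

theorem comm_zpowers {G : Type*} [Group G] {s g : G} (h : s * g = g * s) :
    ∀ s' ∈ Subgroup.zpowers s, s' * g = g * s' := by
  intro s' hs'
  obtain ⟨k, rfl⟩ := Subgroup.mem_zpowers_iff.mp hs'
  exact ((Commute.zpow_left (show Commute s g from h) k)).eq

theorem RMAIN [Finite F] [FiniteDimensional F V] (hσ : Invol σ) (hB : IsHerm B) (hN : NondegOn B ⊤)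
    {q : ℕ} (hF : Nat.card F = q ^ 2)
    {e1 f1 e2 f2 e3 f3 x0 : V} (h1 : HypPair B e1 f1) (h2 : HypPair B e2 f2) (h3 : HypPair B e3 f3)
    (he2 : e2 ∈ Wsub B e1 f1) (hf2 : f2 ∈ Wsub B e1 f1) (he3 : e3 ∈ Wsub B e1 f1)
    (hf3 : f3 ∈ Wsub B e1 f1) (he3' : e3 ∈ Wsub B e2 f2) (hf3' : f3 ∈ Wsub B e2 f2)
    (hx1 : x0 ∈ Wsub B e1 f1) (hx2 : x0 ∈ Wsub B e2 f2) (hx3 : x0 ∈ Wsub B e3 f3) (hx0 : x0 ≠ 0)
    {lam : F} (hlam : lam * σ lam = 1) (hlam1 : lam ≠ 1) (hlam2 : lam * lam ≠ 1)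
    (s : ↥(SUg B)) (hs1 : (s : V ≃ₗ[F] V) e1 = lam • e1) (hs1' : (s : V ≃ₗ[F] V) f1 = lam • f1)
    (hs2 : (s : V ≃ₗ[F] V) e2 = lam⁻¹ • e2) (hs2' : (s : V ≃ₗ[F] V) f2 = lam⁻¹ • f2)
    (hsfix : ∀ x ∈ Wsub B e1 f1, x ∈ Wsub B e2 f2 → (s : V ≃ₗ[F] V) x = x)
    (r : ℕ) (hr : r.Prime) (hrq : ¬ r ∣ q) (hsr : s ^ r = 1)
    {Ω : Type*} [MulAction ↥(SUg B) Ω] [Finite Ω] [Nonempty Ω]
    (hreg : ∀ u : IsoPt B, ∀ ω ω' : Ω, ∃! g : ↥(SUg B), g ∈ Qs B u ∧ g • ω = ω') : False := by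
  classical
  have hfinLE : Finite (V ≃ₗ[F] V) := finite_linearEquiv
  have hfinG : Finite ↥(SUg B) := Subtype.finite
  have : Fact r.Prime := ⟨hr⟩
  set s0 : V ≃ₗ[F] V := (s : V ≃ₗ[F] V) with hs0
  have hsU : s0 ∈ uG B := (mem_SUg.mp s.2).1
  have hlam0 : lam ≠ 0 := by
    rintro rfl
    simp at hlam
  have hslam : σ lam = lam⁻¹ := eq_inv_of_mul_eq_one_right hlam
  have he10 : e1 ≠ 0 := Cfsg.Agent.Lib.Helper27_UQ_CARD.hyp_ne_zero h1
  have he30 : e3 ≠ 0 := Cfsg.Agent.Lib.Helper27_UQ_CARD.hyp_ne_zero h3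
  have hse3 : s0 e3 = e3 := hsfix e3 he3 he3'
  have hsx0 : s0 x0 = x0 := hsfix x0 hx1 hx2
  -- the `r`-group `S = ⟨s⟩`
  set S : Subgroup ↥(SUg B) := Subgroup.zpowers s with hS
  have hSp : IsPGroup r ↥S := by
    have hd : orderOf s ∣ r := orderOf_dvd_of_pow_eq_one hsr
    rcases (Nat.dvd_prime hr).mp hd with h | h
    · exact IsPGroup.of_card (n := 0) (by rw [Nat.card_zpowers, h, pow_zero])
    · exact IsPGroup.of_card (n := 1) (by rw [Nat.card_zpowers, h, pow_one])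
  -- the two points
  set u1 : IsoPt B := mkPt he10 h1.ee with hu1
  set u3 : IsoPt B := mkPt he30 h3.ee with hu3
  have hfix1 : s • u1 = u1 := smul_mkPt_eq s he10 h1.ee hs1
  have hfix3 : s • u3 = u3 := smul_mkPt_eq s he30 h3.ee (c := 1) (by rw [one_smul]; exact hse3)
  have hnorm : ∀ u : IsoPt B, s • u = u → ∀ s' ∈ S, ∀ g ∈ Qs B u, s' * g * s'⁻¹ ∈ Qs B u := by
    intro u hu s' hs' g hg
    have hle : S ≤ MulAction.stabilizer ↥(SUg B) u := by
      rw [hS, Subgroup.zpowers_le]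
      exact hu
    have h1' := Qs_conj s' u g hg
    rw [MulAction.mem_stabilizer_iff.mp (hle hs')] at h1'
    exact h1'
  have hRP1 := Cfsg.Agent.Lib.Helper10_S2153_RP.RP (Qs B u1) S (hreg u1) (hnorm u1 hfix1) r hSp
    (not_dvd_card_Qs hσ hB hF h1 he10 hr hrq)
  have hRP3 := Cfsg.Agent.Lib.Helper10_S2153_RP.RP (Qs B u3) S (hreg u3) (hnorm u3 hfix3) r hSp
    (not_dvd_card_Qs hσ hB hF h3 he30 hr hrq)
  -- centraliser in `Q_{e1}` is inside `X_{e1}`
  have hC1 : Nat.card {g : ↥(SUg B) // g ∈ Qs B u1 ∧ ∀ s' ∈ S, s' * g = g * s'} ≤ q := by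
    rw [← Cfsg.Agent.Lib.Helper27_UQ_CARD.card_Xv hσ hF h1]
    have hmem : ∀ g : {g : ↥(SUg B) // g ∈ Qs B u1 ∧ ∀ s' ∈ S, s' * g = g * s'},
        ((g : ↥(SUg B)) : V ≃ₗ[F] V) ∈ Xv B e1 := by
      rintro ⟨g, hgQ, hgc⟩
      have hgQ' : (g : V ≃ₗ[F] V) ∈ Qv B e1 := (mem_Qs_mkPt he10 h1.ee).mp hgQ
      obtain ⟨w, c, hw, hc, hgw⟩ := (mem_Qv_iff_eich hB h1 _).mp hgQ'
      have hcomm : s0 * (g : V ≃ₗ[F] V) = (g : V ≃ₗ[F] V) * s0 := by
        have := hgc s (Subgroup.mem_zpowers s)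
        exact congrArg Subtype.val this
      have hconj : s0 * eich B e1 w c * s0⁻¹ = eich B e1 w c := by
        rw [← hgw, hcomm]; group
      rw [conj_eich_levi hσ h1.ee hw.1 (herm_eq_zero hB hw.1) hsU hlam0 hs1, hlam, one_mul] at hconj
      -- `s0 w ∈ W1`
      have hsw1 : s0 w ∈ Wsub B e1 f1 := by
        refine ⟨?_, ?_⟩
        · have := hsU w e1
          rw [hs1, map_smulₛₗ, hw.1] at this
          have h' : σ lam • B (s0 w) e1 = 0 := this
          rw [smul_eq_mul] at h'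
          exact (mul_eq_zero.mp h').resolve_left (by rw [hslam]; exact inv_ne_zero hlam0)
        · have := hsU w f1
          rw [hs1', map_smulₛₗ, hw.2] at this
          have h' : σ lam • B (s0 w) f1 = 0 := this
          rw [smul_eq_mul] at h'
          exact (mul_eq_zero.mp h').resolve_left (by rw [hslam]; exact inv_ne_zero hlam0)
      have heq := (Cfsg.Agent.Lib.Helper64_UQ_PARAM.eich_eq_iff hB h1
        ((Wsub B e1 f1).smul_mem _ hsw1) hw c c).mp hconj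
      have hsw : s0 w = lam • w := by
        have h' := heq.1
        rw [hslam] at h'
        calc s0 w = lam • (lam⁻¹ • s0 w) := by rw [smul_smul, mul_inv_cancel₀ hlam0, one_smul]
          _ = lam • w := by rw [h']
      -- `B w f2 = 0`, `B w e2 = 0`
      have hkill : ∀ y : V, s0 y = lam⁻¹ • y → B w y = 0 := by
        intro y hy
        have := hsU w y
        rw [hsw, hy, map_smulₛₗ, map_smul, LinearMap.smul_apply, smul_eq_mul, smul_eq_mul,
          map_inv₀, hslam, inv_inv] at this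
        have h' : (lam * lam - 1) * B w y = 0 := by linear_combination this
        exact (mul_eq_zero.mp h').resolve_left (sub_ne_zero.mpr hlam2)
      have hw2 : w ∈ Wsub B e2 f2 := ⟨hkill e2 hs2, hkill f2 hs2'⟩
      have hw0 : w = 0 := by
        have h' := hsfix w hw hw2
        rw [hsw] at h'
        have h'' : (lam - 1) • w = 0 := by rw [sub_smul, h', one_smul, sub_self]
        rcases smul_eq_zero.mp h'' with h4 | h4
        · exact absurd (sub_eq_zero.mp h4) hlam1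
        · exact h4
      subst hw0
      refine ⟨c, ?_, ?_⟩
      · have : c + σ c = 0 := by simpa using hc
        exact eq_neg_of_add_eq_zero_right this
      · rw [hgw, eich_zero h1.ee]
    let f : {g : ↥(SUg B) // g ∈ Qs B u1 ∧ ∀ s' ∈ S, s' * g = g * s'} → ↥(Xv B e1) :=
      fun g => ⟨((g : ↥(SUg B)) : V ≃ₗ[F] V), hmem g⟩
    have hf : Function.Injective f := by
      intro g g' hgg
      apply Subtype.ext
      apply Subtype.ext
      exact congrArg (fun x : ↥(Xv B e1) => (x : V ≃ₗ[F] V)) hgg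
    exact Nat.card_le_card_of_injective f hf
  -- centraliser in `Q_{e3}` contains `X_{e3}` and one more element
  have hC3 : q + 1 ≤ Nat.card {g : ↥(SUg B) // g ∈ Qs B u3 ∧ ∀ s' ∈ S, s' * g = g * s'} := by
    obtain ⟨c0, hc0⟩ := tr_surj hσ (-(B x0 x0)) (by rw [map_neg, herm_self hB])
    have hg0S : eich B e3 x0 c0 ∈ SUg B := eich_mem_SUg hB hc0
    have hg0Q : eich B e3 x0 c0 ∈ Qv B e3 := eich_mem_Qv hB h3.ee hx3.1 hc0
    have hg0c : s0 * eich B e3 x0 c0 = eich B e3 x0 c0 * s0 := by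
      have := conj_eich hsU e3 x0 c0
      rw [hse3, hsx0] at this
      calc s0 * eich B e3 x0 c0 = s0 * eich B e3 x0 c0 * s0⁻¹ * s0 := by group
        _ = eich B e3 x0 c0 * s0 := by rw [this]
    have hg0X : eich B e3 x0 c0 ∉ Xv B e3 := by
      rintro ⟨c, hc, heq⟩
      rw [← eich_zero h3.ee] at heq
      have := (Cfsg.Agent.Lib.Helper64_UQ_PARAM.eich_eq_iff hB h3 hx3
        (Wsub B e3 f3).zero_mem c0 c).mp heq
      exact hx0 this.1
    have hXc : ∀ x ∈ Xv B e3, s0 * x = x * s0 := by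
      rintro x ⟨c, hc, rfl⟩
      have := conj_utv hsU e3 c
      rw [hse3] at this
      calc s0 * utv B e3 c = s0 * utv B e3 c * s0⁻¹ * s0 := by group
        _ = utv B e3 c * s0 := by rw [this]
    let f : Option ↥(Xv B e3) →
        {g : ↥(SUg B) // g ∈ Qs B u3 ∧ ∀ s' ∈ S, s' * g = g * s'} := fun o =>
      match o with
      | none => ⟨⟨eich B e3 x0 c0, hg0S⟩, (mem_Qs_mkPt he30 h3.ee).mpr hg0Q,
          comm_zpowers (Subtype.ext hg0c)⟩
      | some x => ⟨⟨(x : V ≃ₗ[F] V), Xv_le_SUg hB e3 x.2⟩,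
          (mem_Qs_mkPt he30 h3.ee).mpr (Xv_le_Qv hB e3 x.2),
          comm_zpowers (Subtype.ext (hXc _ x.2))⟩
    have hf : Function.Injective f := by
      intro o o' hoo
      have hval : ((f o : ↥(SUg B)) : V ≃ₗ[F] V) = ((f o' : ↥(SUg B)) : V ≃ₗ[F] V) := by
        rw [hoo]
      cases o with
      | none =>
        cases o' with
        | none => rfl
        | some x' =>
          exfalso
          apply hg0X
          have : eich B e3 x0 c0 = (x' : V ≃ₗ[F] V) := hval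
          rw [this]; exact x'.2
      | some x =>
        cases o' with
        | none =>
          exfalso
          apply hg0X
          have : (x : V ≃ₗ[F] V) = eich B e3 x0 c0 := hval
          rw [← this]; exact x.2
        | some x' =>
          have : (x : V ≃ₗ[F] V) = (x' : V ≃ₗ[F] V) := hval
          rw [Subtype.ext this]
    have hle := Nat.card_le_card_of_injective f hf
    rw [Finite.card_option, Cfsg.Agent.Lib.Helper27_UQ_CARD.card_Xv hσ hF h3] at hle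
    exact hle
  rw [← hRP1] at hC1
  rw [← hRP3] at hC3
  omega

end Cfsg.Agent.Lib.Helper27_S2151_RMAIN
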