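import Mathlib
import Cfsg.Agent.Lib.Helper56_S3366Defs
set_option autoImplicit false
set_option linter.unusedVariables false
open Cfsg.Agent.Lib.Helper56_S3366Defs
open scoped commutatorElement

namespace Cfsg.Agent.Lib.Helper27_S3366_ACT

variable {X : Type*} [Group X]

/-! ### finite checks inside `Hs` -/

set_option maxRecDepth 100000 in
theorem hs_pow_formula : ∀ xa ya xb yb : ZMod 3, xa * yb - ya * xb = 1 → ∀ h : Hs,
    (⟨xa, ya, 0⟩ : Hs) ^ h.x.val * (⟨xb, yb, 0⟩ : Hs) ^ h.y.val * (⟨0, 0, h.x * h.y + h.s⟩ : Hs) =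
      ⟨xa * h.x + xb * h.y, ya * h.x + yb * h.y, h.s⟩ := by
  decide

theorem hs_comm_formula : ∀ xa ya xb yb : ZMod 3,
    ⁅(⟨xa, ya, 0⟩ : Hs), (⟨xb, yb, 0⟩ : Hs)⁆ = ⟨0, 0, xa * yb - ya * xb⟩ := by
  decide

theorem zmod3_eq_neg : ∀ s : ZMod 3, s = -s → s = 0 := by decide

/-! ### the coordinate map as a homomorphism -/

theorem kap_one (a b : X) : kap a b 1 = 1 := by
  simp [kap]

/-- `kap a b` as a monoid hom, given multiplicativity -/
def kapHom (a b : X) (hmul : ∀ h k : Hs, kap a b (h * k) = kap a b h * kap a b k) : Hs →* X where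
  toFun := kap a b
  map_one' := kap_one a b
  map_mul' := hmul

theorem kap_pow (a b : X) (hmul : ∀ h k : Hs, kap a b (h * k) = kap a b h * kap a b k)
    (h : Hs) (n : ℕ) : kap a b (h ^ n) = kap a b h ^ n :=
  map_pow (kapHom a b hmul) h n

theorem kap_inv (a b : X) (hmul : ∀ h k : Hs, kap a b (h * k) = kap a b h * kap a b k)
    (h : Hs) : kap a b h⁻¹ = (kap a b h)⁻¹ :=
  map_inv (kapHom a b hmul) h

theorem kap_comm (a b : X) (hmul : ∀ h k : Hs, kap a b (h * k) = kap a b h * kap a b k)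
    (h k : Hs) : kap a b ⁅h, k⁆ = ⁅kap a b h, kap a b k⁆ :=
  map_commutatorElement (kapHom a b hmul) h k

theorem kap_a (a b : X) : kap a b ⟨1, 0, 0⟩ = a := by
  have e1 : ((1 : ZMod 3)).val = 1 := by decide
  have e0 : ((0 : ZMod 3)).val = 0 := by decide
  have e2 : ((1 : ZMod 3) * 0 + 0).val = 0 := by decide
  simp only [kap, e1, e0, e2, pow_one, pow_zero, mul_one]

theorem kap_b (a b : X) : kap a b ⟨0, 1, 0⟩ = b := by
  have e1 : ((1 : ZMod 3)).val = 1 := by decide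
  have e0 : ((0 : ZMod 3)).val = 0 := by decide
  have e2 : ((0 : ZMod 3) + 0).val = 0 := by decide
  simp only [kap, e1, e0, e2, pow_one, pow_zero, mul_one, one_mul]

theorem kap_z (a b : X) (t : ZMod 3) : kap a b ⟨0, 0, t⟩ = ⁅a, b⁆ ^ t.val := by
  have e0 : ((0 : ZMod 3)).val = 0 := by decide
  simp only [kap, e0, pow_zero, one_mul, mul_zero, zero_add]

theorem conj_kap (Q : Subgroup X) (a b z l : X) (ha : a ∈ Q) (hb : b ∈ Q)
    (ha3 : a ^ 3 = 1) (hb3 : b ^ 3 = 1) (hne : ⁅a, b⁆ ≠ 1)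
    (hca : ⁅a, b⁆ * a = a * ⁅a, b⁆) (hcb : ⁅a, b⁆ * b = b * ⁅a, b⁆)
    (hza : z * a * z⁻¹ = a⁻¹) (hzb : z * b * z⁻¹ = b⁻¹)
    (hmul : ∀ h k : Hs, kap a b (h * k) = kap a b h * kap a b k)
    (hbij : (∀ h, kap a b h ∈ Q) ∧ Function.Injective (kap a b) ∧ ∀ q ∈ Q, ∃ h, kap a b h = q)
    (hzk : ∀ h : Hs, z * kap a b h * z⁻¹ = kap a b ⟨-h.x, -h.y, h.s⟩)
    (hlQ : ∀ q ∈ Q, l * q * l⁻¹ ∈ Q) (hlz : l * z = z * l)
    (hlζ : l * ⁅a, b⁆ * l⁻¹ = ⁅a, b⁆) :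
    ∃ g : SL2, ∀ h : Hs, l * kap a b h * l⁻¹ = kap a b (act g h) := by
  obtain ⟨hmem, hinj, hsurj⟩ := hbij
  -- the images of a and b
  obtain ⟨hA, hAeq⟩ := hsurj _ (hlQ a ha)
  obtain ⟨hB, hBeq⟩ := hsurj _ (hlQ b hb)
  -- conjugation by z commutes with conjugation by l
  have hzl : ∀ q : X, z * q * z⁻¹ = q⁻¹ → z * (l * q * l⁻¹) * z⁻¹ = (l * q * l⁻¹)⁻¹ := by
    intro q hq
    have h1 : z * (l * q * l⁻¹) * z⁻¹ = l * (z * q * z⁻¹) * l⁻¹ := by
      have hzl' : z * l = l * z := hlz.symm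
      have hzl'' : l⁻¹ * z⁻¹ = z⁻¹ * l⁻¹ := by
        rw [← mul_inv_rev, ← mul_inv_rev, hzl']
      calc z * (l * q * l⁻¹) * z⁻¹ = (z * l) * q * (l⁻¹ * z⁻¹) := by group
        _ = (l * z) * q * (z⁻¹ * l⁻¹) := by rw [hzl', hzl'']
        _ = l * (z * q * z⁻¹) * l⁻¹ := by group
    rw [h1, hq]; group
  -- s-coordinates vanish
  have hs0 : ∀ (k : Hs) (q : X), kap a b k = l * q * l⁻¹ → z * q * z⁻¹ = q⁻¹ → k.s = 0 := by
    intro k q hk hq
    have h1 := hzl q hq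
    rw [← hk, hzk k, ← kap_inv a b hmul] at h1
    have h2 := hinj h1
    have h3 : k.s = -k.s := by
      have := congrArg Hs.s h2
      simpa using this
    exact zmod3_eq_neg _ h3
  have hAs : hA.s = 0 := hs0 hA a hAeq hza
  have hBs : hB.s = 0 := hs0 hB b hBeq hzb
  have hAform : hA = ⟨hA.x, hA.y, 0⟩ := by
    ext <;> simp [hAs]
  have hBform : hB = ⟨hB.x, hB.y, 0⟩ := by
    ext <;> simp [hBs]
  -- the determinant
  have hdet : hA.x * hB.y - hA.y * hB.x = 1 := by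
    have h1 : l * ⁅a, b⁆ * l⁻¹ = ⁅l * a * l⁻¹, l * b * l⁻¹⁆ := by
      simp only [commutatorElement_def]; group
    rw [h1, ← hAeq, ← hBeq, ← kap_comm a b hmul, hAform, hBform, hs_comm_formula] at hlζ
    have h2 : kap a b ⟨0, 0, 1⟩ = ⁅a, b⁆ := by
      rw [kap_z]
      have e1 : ((1 : ZMod 3)).val = 1 := by decide
      rw [e1, pow_one]
    rw [← h2] at hlζ
    have h3 := hinj hlζ
    have := congrArg Hs.s h3
    simpa using this
  -- the matrix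
  have hd : (!![hA.x, hB.x; hA.y, hB.y] : Matrix (Fin 2) (Fin 2) (ZMod 3)).det = 1 := by
    rw [Matrix.det_fin_two_of]
    linear_combination hdet
  let g : SL2 := (⟨!![hA.x, hB.x; hA.y, hB.y], hd⟩ : Matrix.SpecialLinearGroup (Fin 2) (ZMod 3))
  have hg1 : (g.1 : Matrix (Fin 2) (Fin 2) (ZMod 3)) = !![hA.x, hB.x; hA.y, hB.y] := rfl
  refine ⟨g, ?_⟩
  intro h
  have hconj : ∀ (q : X) (n : ℕ), l * q ^ n * l⁻¹ = (l * q * l⁻¹) ^ n := by
    intro q n; rw [conj_pow]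
  have e1 : l * kap a b h * l⁻¹ =
      (l * a * l⁻¹) ^ h.x.val * (l * b * l⁻¹) ^ h.y.val * (l * ⁅a, b⁆ * l⁻¹) ^ (h.x * h.y + h.s).val := by
    rw [← hconj, ← hconj, ← hconj]
    unfold kap
    group
  rw [e1, ← hAeq, ← hBeq, hlζ, ← kap_pow a b hmul, ← kap_pow a b hmul, ← kap_z, ← hmul, ← hmul]
  congr 1
  have key := hs_pow_formula hA.x hA.y hB.x hB.y hdet h
  rw [← hAform, ← hBform] at key
  rw [key, act_apply, hg1]
  ext <;> simp [actFun]

end Cfsg.Agent.Lib.Helper27_S3366_ACT
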