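import Mathlib
import Cfsg.Agent.Lib.Helper56_S3366Defs
set_option autoImplicit false
open Cfsg.Agent.Lib.Helper56_S3366Defs
open scoped commutatorElement

namespace Cfsg.Agent.Lib.Helper27_S3366_KAPZ

variable {X : Type*} [Group X]

theorem pow_val_neg (g : X) (hg : g ^ 3 = 1) (x : ZMod 3) : g ^ ((-x).val) = (g⁻¹) ^ x.val := by
  have h2 : g ^ 2 = g⁻¹ := by
    rw [eq_inv_iff_mul_eq_one, ← pow_succ]; exact hg
  fin_cases x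
  · show g ^ ((-0 : ZMod 3)).val = g⁻¹ ^ (0 : ZMod 3).val
    have e1 : ((-0 : ZMod 3)).val = 0 := by decide
    have e2 : ((0 : ZMod 3)).val = 0 := by decide
    rw [e1, e2, pow_zero, pow_zero]
  · show g ^ ((-1 : ZMod 3)).val = g⁻¹ ^ (1 : ZMod 3).val
    have e1 : ((-1 : ZMod 3)).val = 2 := by decide
    have e2 : ((1 : ZMod 3)).val = 1 := by decide
    rw [e1, e2, h2, pow_one]
  · show g ^ ((-2 : ZMod 3)).val = g⁻¹ ^ (2 : ZMod 3).val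
    have e1 : ((-2 : ZMod 3)).val = 1 := by decide
    have e2 : ((2 : ZMod 3)).val = 2 := by decide
    rw [e1, e2, pow_one, inv_pow, h2, inv_inv]

theorem conj_comm_inv (a b : X) (hca : ⁅a, b⁆ * a = a * ⁅a, b⁆) (hcb : ⁅a, b⁆ * b = b * ⁅a, b⁆) :
    ⁅a⁻¹, b⁻¹⁆ = ⁅a, b⁆ := by
  -- a⁻¹ b⁻¹ a b = ζ where a b = ζ b a
  have hab : a * b = ⁅a, b⁆ * b * a := by
    simp [commutatorElement_def, mul_assoc]
  rw [commutatorElement_def, inv_inv, inv_inv]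
  calc a⁻¹ * b⁻¹ * a * b = a⁻¹ * b⁻¹ * (a * b) := by group
    _ = a⁻¹ * b⁻¹ * (⁅a, b⁆ * b * a) := by rw [← hab]
    _ = a⁻¹ * (b⁻¹ * (⁅a, b⁆ * b)) * a := by group
    _ = a⁻¹ * (b⁻¹ * (b * ⁅a, b⁆)) * a := by rw [hcb]
    _ = a⁻¹ * (⁅a, b⁆ * a) := by group
    _ = a⁻¹ * (a * ⁅a, b⁆) := by rw [hca]
    _ = ⁅a, b⁆ := by group

theorem kap_conj_z (a b z : X) (ha3 : a ^ 3 = 1) (hb3 : b ^ 3 = 1)
    (hca : ⁅a, b⁆ * a = a * ⁅a, b⁆) (hcb : ⁅a, b⁆ * b = b * ⁅a, b⁆)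
    (hza : z * a * z⁻¹ = a⁻¹) (hzb : z * b * z⁻¹ = b⁻¹) (h : Hs) :
    z * kap a b h * z⁻¹ = kap a b ⟨-h.x, -h.y, h.s⟩ := by
  have hzζ : z * ⁅a, b⁆ * z⁻¹ = ⁅a, b⁆ := by
    have : z * ⁅a, b⁆ * z⁻¹ = ⁅z * a * z⁻¹, z * b * z⁻¹⁆ := by
      simp only [commutatorElement_def]; group
    rw [this, hza, hzb, conj_comm_inv a b hca hcb]
  have hconj : ∀ (g : X) (n : ℕ), z * g ^ n * z⁻¹ = (z * g * z⁻¹) ^ n := by
    intro g n; rw [conj_pow]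
  unfold kap
  simp only
  have e1 : z * (a ^ h.x.val * b ^ h.y.val * ⁅a, b⁆ ^ (h.x * h.y + h.s).val) * z⁻¹ =
      (z * a ^ h.x.val * z⁻¹) * (z * b ^ h.y.val * z⁻¹) *
        (z * ⁅a, b⁆ ^ (h.x * h.y + h.s).val * z⁻¹) := by group
  rw [e1, hconj, hconj, hconj, hza, hzb, hzζ, pow_val_neg a ha3, pow_val_neg b hb3]
  congr 2
  ring_nf

end Cfsg.Agent.Lib.Helper27_S3366_KAPZ
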