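import Mathlib

/-!
helper27: model-free algebra for the normalizer of the Heisenberg group `⟨Sh, Dg z⟩ ≤ GL_3(F)`
(`Sh` the cyclic shift, `Dg z = diag(1, z, z²)`, `z` a primitive cube root of unity): a matrix is determined up to
a scalar by its conjugation action on `Sh` and `Dg z`.
-/

set_option autoImplicit false

namespace Cfsg.Agent.Lib.Helper27_SU36_E5dAlg

open Matrix

variable {F : Type*} [Field F]

/-- the cyclic shift `e_i ↦ e_(i+1)` -/
def Sh : Matrix (Fin 3) (Fin 3) F := !![0, 0, 1; 1, 0, 0; 0, 1, 0]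

/-- `diag(1, z, z²)` -/
def Dg (z : F) : Matrix (Fin 3) (Fin 3) F := Matrix.diagonal ![1, z, z ^ 2]

lemma ne_one_of_root {z : F} (hz : z ^ 2 + z + 1 = 0) (h3 : (3 : F) ≠ 0) : z ≠ 1 := by
  rintro rfl
  apply h3
  linear_combination hz

lemma cube_of_root {z : F} (hz : z ^ 2 + z + 1 = 0) : z ^ 3 = 1 := by
  linear_combination (z - 1) * hz

/-- a matrix commuting with `Sh` and `Dg z` is a scalar -/
theorem scalar_of_commute {z : F} (hz : z ^ 2 + z + 1 = 0) (h3 : (3 : F) ≠ 0)
    (g : Matrix (Fin 3) (Fin 3) F) (h1 : g * Sh = Sh * g) (h2 : g * Dg z = Dg z * g) :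
    ∃ c : F, g = c • (1 : Matrix (Fin 3) (Fin 3) F) := by
  have hz1 : z ≠ 1 := ne_one_of_root hz h3
  have hz3 := cube_of_root hz
  have hz0 : z ≠ 0 := by
    rintro rfl
    simp at hz
  have hz2 : z ^ 2 ≠ 1 := by
    intro h
    apply hz1
    have : z * z ^ 2 = z * 1 := by rw [h]
    have h4 : z ^ 3 = z := by linear_combination this
    rw [hz3] at h4
    exact h4.symm
  have hzz : z ^ 2 ≠ z := by
    intro h
    apply hz1
    have h5 : z * (z - 1) = 0 := by linear_combination h
    rcases mul_eq_zero.mp h5 with h6 | h6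
    · exact absurd h6 hz0
    · linear_combination h6
  -- entries
  have e2 := fun i j => congrFun (congrFun h2 i) j
  have e1 := fun i j => congrFun (congrFun h1 i) j
  simp only [Dg, Sh, Matrix.mul_apply, Fin.sum_univ_three, Matrix.diagonal_apply, Matrix.of_apply,
    Matrix.cons_val', Matrix.cons_val_zero, Matrix.cons_val_one] at e1 e2
  have d01 := e2 0 1
  have d02 := e2 0 2
  have d10 := e2 1 0
  have d12 := e2 1 2
  have d20 := e2 2 0
  have d21 := e2 2 1
  have s10 := e1 1 0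
  have s21 := e1 2 1
  simp at d01 d02 d10 d12 d20 d21 s10 s21
  have z01 : g 0 1 = 0 := by
    have : g 0 1 * (z - 1) = 0 := by linear_combination d01
    rcases mul_eq_zero.mp this with h | h
    · exact h
    · exact absurd (by linear_combination h) hz1
  have z02 : g 0 2 = 0 := by
    have : g 0 2 * (z ^ 2 - 1) = 0 := by linear_combination d02
    rcases mul_eq_zero.mp this with h | h
    · exact h
    · exact absurd (by linear_combination h) hz2
  have z10 : g 1 0 = 0 := by
    have : g 1 0 * (z - 1) = 0 := by linear_combination -d10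
    rcases mul_eq_zero.mp this with h | h
    · exact h
    · exact absurd (by linear_combination h) hz1
  have z12 : g 1 2 = 0 := by
    have : g 1 2 * (z ^ 2 - z) = 0 := by linear_combination d12
    rcases mul_eq_zero.mp this with h | h
    · exact h
    · exact absurd (by linear_combination h) hzz
  have z20 : g 2 0 = 0 := by
    have : g 2 0 * (z ^ 2 - 1) = 0 := by linear_combination -d20
    rcases mul_eq_zero.mp this with h | h
    · exact h
    · exact absurd (by linear_combination h) hz2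
  have z21 : g 2 1 = 0 := by
    have : g 2 1 * (z ^ 2 - z) = 0 := by linear_combination -d21
    rcases mul_eq_zero.mp this with h | h
    · exact h
    · exact absurd (by linear_combination h) hzz
  refine ⟨g 0 0, ?_⟩
  ext i j
  fin_cases i <;> fin_cases j <;> simp [z01, z02, z10, z12, z20, z21, s10, s21]

/-- a matrix is determined up to a scalar by its conjugation action on `Sh` and `Dg z` -/
theorem eq_smul_of_same_action {z : F} (hz : z ^ 2 + z + 1 = 0) (h3 : (3 : F) ≠ 0)
    (L g r1 r2 : Matrix (Fin 3) (Fin 3) F) (hL : IsUnit L.det)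
    (hL1 : L * Sh = r1 * L) (hL2 : L * Dg z = r2 * L)
    (hg1 : g * Sh = r1 * g) (hg2 : g * Dg z = r2 * g) :
    ∃ c : F, g = c • L := by
  have hLi : L⁻¹ * L = 1 := Matrix.nonsing_inv_mul L hL
  have hLi' : L * L⁻¹ = 1 := Matrix.mul_nonsing_inv L hL
  have k1 : Sh * L⁻¹ = L⁻¹ * r1 := by
    calc Sh * L⁻¹ = L⁻¹ * (L * Sh) * L⁻¹ := by rw [← Matrix.mul_assoc, hLi, Matrix.one_mul]
      _ = L⁻¹ * (r1 * L) * L⁻¹ := by rw [hL1]
      _ = L⁻¹ * r1 := by rw [Matrix.mul_assoc, Matrix.mul_assoc, hLi', Matrix.mul_one]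
  have k2 : Dg z * L⁻¹ = L⁻¹ * r2 := by
    calc Dg z * L⁻¹ = L⁻¹ * (L * Dg z) * L⁻¹ := by rw [← Matrix.mul_assoc, hLi, Matrix.one_mul]
      _ = L⁻¹ * (r2 * L) * L⁻¹ := by rw [hL2]
      _ = L⁻¹ * r2 := by rw [Matrix.mul_assoc, Matrix.mul_assoc, hLi', Matrix.mul_one]
  obtain ⟨c, hc⟩ := scalar_of_commute hz h3 (L⁻¹ * g)
    (by rw [Matrix.mul_assoc, hg1, ← Matrix.mul_assoc, ← k1, Matrix.mul_assoc])
    (by rw [Matrix.mul_assoc, hg2, ← Matrix.mul_assoc, ← k2, Matrix.mul_assoc])
  refine ⟨c, ?_⟩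
  calc g = L * (L⁻¹ * g) := by rw [← Matrix.mul_assoc, hLi', Matrix.one_mul]
    _ = c • L := by rw [hc, Matrix.mul_smul, Matrix.mul_one]

/-- the commutation relation of `Sh` and `Dg z` -/
lemma Dg_mul_Sh {z : F} (hz : z ^ 2 + z + 1 = 0) : Dg z * Sh = z • (Sh * Dg z) := by
  have hz3 := cube_of_root hz
  ext i j
  fin_cases i <;> fin_cases j <;>
    simp [Dg, Sh, Matrix.mul_apply, Matrix.diagonal_apply, Matrix.vecMul, dotProduct]
  · linear_combination -hz3
  · ring

/-- a matrix intertwining `(Sh, Dg z)` with a pair `(r1, r2)` of invertible matrices whose commutator is the wrong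
scalar vanishes -/
theorem eq_zero_of_wrong_commutator {z w : F} (hz : z ^ 2 + z + 1 = 0) (hw : w ≠ z)
    (g r1 r2 : Matrix (Fin 3) (Fin 3) F) (hr1 : IsUnit r1.det) (hr2 : IsUnit r2.det)
    (hr : r2 * r1 = w • (r1 * r2))
    (hg1 : g * Sh = r1 * g) (hg2 : g * Dg z = r2 * g) : g = 0 := by
  have e1 : g * (Dg z * Sh) = r2 * r1 * g := by
    rw [← Matrix.mul_assoc, hg2, Matrix.mul_assoc, hg1, ← Matrix.mul_assoc]
  have e2 : g * (Sh * Dg z) = r1 * r2 * g := by
    rw [← Matrix.mul_assoc, hg1, Matrix.mul_assoc, hg2, ← Matrix.mul_assoc]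
  rw [Dg_mul_Sh hz, Matrix.mul_smul, e2, hr, Matrix.smul_mul] at e1
  have e3 : (z - w) • (r1 * r2 * g) = 0 := by
    rw [sub_smul, e1, sub_self]
  have hzw : z - w ≠ 0 := sub_ne_zero.mpr (Ne.symm hw)
  have e4 : r1 * r2 * g = 0 := by
    rcases smul_eq_zero.mp e3 with h | h
    · exact absurd h hzw
    · exact h
  have hr12 : IsUnit (r1 * r2).det := by
    rw [Matrix.det_mul]
    exact hr1.mul hr2
  calc g = (r1 * r2)⁻¹ * (r1 * r2 * g) := by
        rw [← Matrix.mul_assoc, Matrix.nonsing_inv_mul _ hr12, Matrix.one_mul]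
    _ = 0 := by rw [e4, Matrix.mul_zero]

end Cfsg.Agent.Lib.Helper27_SU36_E5dAlg
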