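import Mathlib
import Cfsg.Prelude.Def_GeometricClasses
import Cfsg.Agent.S3762
import Cfsg.Agent.Lib.Helper42_SympTypeQ
import Cfsg.Agent.Lib.Helper52_Asch_PK7
import Cfsg.Agent.Lib.Helper97_AschBurn

/-!
# Class 6 lives in prime power dimension (helper97)

If `R` is a class-6 datum (`IsLinearSymplecticTypeData r R`) in `GL(ι, F)` then `|ι|` is a power of `r`.
-/

set_option autoImplicit false

namespace Cfsg.Agent.Lib.Helper97_AschC6

open Cfsg Cfsg.Geo Matrix Subgroup
open scoped commutatorElement

/-- in a `p`-group of symplectic type, `p` odd, commutators are central (P. Hall's theorem S3762) -/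
theorem comm_mem_center_of_odd {P : Type*} [Group P] [Finite P] {p : ℕ} [Fact p.Prime] (hp2 : p ≠ 2)
    (hP : IsPGroup p P)
    (hsymp : ∀ A : Subgroup P, A.Characteristic → IsMulCommutative A → IsCyclic A) :
    ∀ g h : P, g * h * g⁻¹ * h⁻¹ ∈ center P := by
  obtain ⟨E, S, hcomm, hsup, hE, hS⟩ := Cfsg.Agent.S3762.result hP hsymp
  have hcyc : IsCyclic S := hS.resolve_right (fun h => hp2 h.1)
  have hScomm : ∀ s ∈ S, ∀ s' ∈ S, s * s' = s' * s := by
    intro s hs s' hs'
    have := (IsCyclic.commGroup (α := S)).mul_comm ⟨s, hs⟩ ⟨s', hs'⟩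
    exact congrArg Subtype.val this
  have hScent : ∀ s ∈ S, s ∈ center P := by
    intro s hs
    have h1 : E ≤ centralizer {s} := by
      intro e he
      rw [mem_centralizer_singleton_iff]
      exact (hcomm e he s hs)
    have h2 : S ≤ centralizer {s} := by
      intro s' hs'
      rw [mem_centralizer_singleton_iff]
      exact hScomm s' hs' s hs
    have h3 : (⊤ : Subgroup P) ≤ centralizer {s} := by
      rw [← hsup]; exact sup_le h1 h2
    rw [mem_center_iff]
    intro g
    have := h3 (mem_top g)
    rw [mem_centralizer_singleton_iff] at this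
    exact this
  have : S.Normal := by
    constructor
    intro s hs g
    have := hScent s hs
    rw [mem_center_iff] at this
    rw [this g, mul_inv_cancel_right]
    exact hs
  have hdecomp : ∀ g : P, ∃ e ∈ E, ∃ s ∈ S, g = e * s := by
    intro g
    have hg : g ∈ ((E ⊔ S : Subgroup P) : Set P) := by rw [hsup]; trivial
    rw [mul_normal] at hg
    obtain ⟨e, he, s, hs, rfl⟩ := hg
    exact ⟨e, he, s, hs, rfl⟩
  have hEfacts : ∀ e ∈ E, ∀ e' ∈ E, e * e' * e⁻¹ * e'⁻¹ ∈ center P := by
    rcases hE with hbot | hext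
    · subst hbot
      intro e he e' he'
      rw [mem_bot] at he he'; subst he; subst he'; simp
    · obtain ⟨⟨hEp, hfr, hcm⟩, _⟩ := hext
      have hcenE : ∀ c : E, c ∈ center E → (c : P) ∈ center P := by
        intro c hc
        rw [mem_center_iff] at hc
        have h1 : E ≤ centralizer {(c : P)} := by
          intro e he
          rw [mem_centralizer_singleton_iff]
          have := hc ⟨e, he⟩
          exact (congrArg Subtype.val this)
        have h2 : S ≤ centralizer {(c : P)} := by
          intro s hs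
          rw [mem_centralizer_singleton_iff]
          exact (hcomm c c.2 s hs).symm
        have h3 : (⊤ : Subgroup P) ≤ centralizer {(c : P)} := by
          rw [← hsup]; exact sup_le h1 h2
        rw [mem_center_iff]
        intro g
        have := h3 (mem_top g)
        rw [mem_centralizer_singleton_iff] at this
        exact this
      intro e he e' he'
      have h1 : ⁅(⟨e, he⟩ : E), (⟨e', he'⟩ : E)⁆ ∈ commutator E :=
        Subgroup.commutator_mem_commutator (mem_top _) (mem_top _)
      rw [hcm] at h1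
      have := hcenE _ h1
      simpa [commutatorElement_def] using this
  intro g h
  obtain ⟨e, he, s, hs, rfl⟩ := hdecomp g
  obtain ⟨e', he', s', hs', rfl⟩ := hdecomp h
  have hsc := hScent s hs
  have hsc' := hScent s' hs'
  rw [mem_center_iff] at hsc hsc'
  have h1 : e * s * (e' * s') * (e * s)⁻¹ * (e' * s')⁻¹ = e * e' * e⁻¹ * e'⁻¹ := by
    have c1 : e * s * (e' * s') * (e * s)⁻¹ = e * (e' * s') * e⁻¹ := by
      rw [_root_.mul_inv_rev, mul_assoc e s (e' * s'), ← hsc (e' * s')]
      group
    rw [c1]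
    have c2 : e * (e' * s') * e⁻¹ = e * e' * e⁻¹ * s' := by
      rw [mul_assoc e (e' * s'), mul_assoc e' s', ← hsc' e⁻¹]
      group
    rw [c2]
    group
  rw [h1]
  exact hEfacts e he e' he'

section Main

open Cfsg.Agent.Lib.Helper98_AschDefs

variable {ι : Type} [Fintype ι] [DecidableEq ι] {F : Type*} [Field F]

/-- Schur's lemma in group form: an element commuting with an absolutely irreducible group is a scalar. -/
lemma mem_scalars_of_commute [Nonempty ι] {R : Subgroup (GL ι F)}
    (hirr : ActsAbsolutelyIrreducibly (matrixSet R)) (u : GL ι F)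
    (hu : ∀ y ∈ R, u * y = y * u) : u ∈ scalars ι F := by
  have h1 : ∀ s ∈ matrixSet R, (u : Matrix ι ι F) * s = s * u := by
    rintro _ ⟨y, hy, rfl⟩
    have := congrArg (fun a : GL ι F => (a : Matrix ι ι F)) (hu y hy)
    simpa [Units.val_mul] using this
  obtain ⟨c, hc⟩ := hirr.2 _ h1
  have hc0 : c ≠ 0 := by
    rintro rfl
    rw [zero_smul] at hc
    exact (Units.ne_zero u) hc
  rw [mem_scalars_iff]
  exact ⟨Units.mk0 c hc0, hc⟩

lemma spanAlg_eq_top_of_absIrred [Nonempty ι] {R : Subgroup (GL ι F)}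
    (hirr : ActsAbsolutelyIrreducibly (matrixSet R)) : spanAlg R = ⊤ :=
  Cfsg.Agent.Lib.Helper97_AschBurn.adjoin_eq_top_of_absIrred _ hirr

/-- commutators of a symplectic-type group acting absolutely irreducibly are scalars -/
lemma commutator_le_scalars [Nonempty ι] {r : ℕ} {R : Subgroup (GL ι F)} [Finite R]
    (hsymp : IsSymplecticTypeGroup r R) (hirr : ActsAbsolutelyIrreducibly (matrixSet R)) :
    ⁅R, R⁆ ≤ scalars ι F := by
  have : Fact r.Prime := ⟨hsymp.prime⟩
  have hcen : ∀ g h : R, g * h * g⁻¹ * h⁻¹ ∈ center R := by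
    by_cases hr2 : r = 2
    · subst hr2
      have hexp : ∀ g : R, g ^ 4 = 1 := by
        intro g
        have := Monoid.pow_exponent_eq_one g
        rwa [hsymp.exponent_eq] at this
      exact (Cfsg.Agent.Lib.Helper42_SympTypeQ.sq_comm_mem_center hsymp.pGroup
        hsymp.cyclic_of_characteristic hexp).2
    · exact comm_mem_center_of_odd hr2 hsymp.pGroup hsymp.cyclic_of_characteristic
  rw [Subgroup.commutator_le]
  intro g hg h hh
  apply mem_scalars_of_commute hirr
  intro y hy
  have h1 := hcen ⟨g, hg⟩ ⟨h, hh⟩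
  rw [mem_center_iff] at h1
  have h2 := congrArg (Subtype.val : R → GL ι F) (h1 ⟨y, hy⟩)
  simp only [Subgroup.coe_mul, Subgroup.coe_inv] at h2
  rw [commutatorElement_def]
  exact h2.symm

/-- the scalars of an absolutely irreducible group are its centre -/
lemma card_inf_scalars_eq_card_center [Nonempty ι] {R : Subgroup (GL ι F)}
    (hirr : ActsAbsolutelyIrreducibly (matrixSet R)) :
    Nat.card (R ⊓ scalars ι F : Subgroup (GL ι F)) = Nat.card (center R) := by
  have h1 : (scalars ι F).subgroupOf R = center R := by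
    ext z
    rw [mem_subgroupOf, mem_center_iff]
    constructor
    · intro hz y
      rw [mem_scalars_iff] at hz
      obtain ⟨c, hc⟩ := hz
      apply Subtype.ext
      apply Units.ext
      simp only [Subgroup.coe_mul, Units.val_mul, hc]
      rw [Matrix.mul_smul, Matrix.smul_mul, Matrix.mul_one, Matrix.one_mul]
    · intro hz
      apply mem_scalars_of_commute hirr
      intro y hy
      have := congrArg (Subtype.val : R → GL ι F) (hz ⟨y, hy⟩)
      simpa using this.symm
  rw [← h1, ← Subgroup.inf_subgroupOf_left]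
  exact (Nat.card_congr (Subgroup.subgroupOfEquivOfLe inf_le_left).toEquiv).symm

/-- **class 6 lives in prime power dimension** -/
theorem card_eq_pow_of_symplecticTypeData [Fintype F] [Nonempty ι] {r : ℕ} {R : Subgroup (GL ι F)}
    (h : IsLinearSymplecticTypeData r R) : ∃ m : ℕ, Fintype.card ι = r ^ m := by
  have hfin : Finite (GL ι F) := inferInstance
  have hspan := spanAlg_eq_top_of_absIrred h.absIrred
  have hcomm := commutator_le_scalars h.symplecticType h.absIrred
  have hpk := Cfsg.Agent.Lib.Helper52_Asch_PK7.PK7 R hspan hcomm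
  rw [card_inf_scalars_eq_card_center h.absIrred] at hpk
  have hr := h.symplecticType.prime
  obtain ⟨p, e, -, -, hcase⟩ := h.field
  have key : ∀ m : ℕ, Fintype.card ι ^ 2 = r ^ (2 * m) → Fintype.card ι = r ^ m := by
    intro m hm
    rw [mul_comm, pow_mul] at hm
    exact Nat.pow_left_injective (n := 2) (by norm_num) hm
  rcases hcase with ⟨-, -, hZ, m, -, hR⟩ | ⟨h2, -, hZ, -, m, hR⟩ | ⟨h2, -, hι, -⟩
  · refine ⟨m, key m ?_⟩
    rw [hZ, hR, pow_add, pow_one] at hpk
    exact (Nat.eq_of_mul_eq_mul_left hr.pos hpk).symm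
  · subst h2
    refine ⟨m, key m ?_⟩
    rw [hZ, hR, pow_add] at hpk
    have : (2 : ℕ) ^ 2 = 4 := by norm_num
    rw [this] at hpk
    exact (Nat.eq_of_mul_eq_mul_left (by norm_num) hpk).symm
  · exact ⟨1, by rw [hι, h2, pow_one]⟩

/-- no class-6 datum in a dimension with two distinct prime divisors -/
theorem not_symplecticTypeData_of_two_primes [Fintype F] [Nonempty ι] {r : ℕ} {R : Subgroup (GL ι F)}
    {a b : ℕ} (ha : a.Prime) (hb : b.Prime) (hab : a ≠ b) (han : a ∣ Fintype.card ι) (hbn : b ∣ Fintype.card ι) :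
    ¬ IsLinearSymplecticTypeData r R := by
  intro h
  obtain ⟨m, hm⟩ := card_eq_pow_of_symplecticTypeData h
  have hr := h.symplecticType.prime
  rw [hm] at han hbn
  have h1 := (Nat.prime_dvd_prime_iff_eq ha hr).1 (ha.dvd_of_dvd_pow han)
  have h2 := (Nat.prime_dvd_prime_iff_eq hb hr).1 (hb.dvd_of_dvd_pow hbn)
  exact hab (h1.trans h2.symm)

/-- in prime power dimension `r₀ ^ k` a class-6 datum has `r = r₀` -/
theorem eq_of_symplecticTypeData_of_card_eq_pow [Fintype F] [Nonempty ι] {r : ℕ} {R : Subgroup (GL ι F)}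
    (h : IsLinearSymplecticTypeData r R) {r₀ k : ℕ} (hr₀ : r₀.Prime) (hcard : Fintype.card ι = r₀ ^ k) :
    r = r₀ := by
  obtain ⟨m, hm⟩ := card_eq_pow_of_symplecticTypeData h
  have hr := h.symplecticType.prime
  have h2 : 2 ≤ Fintype.card ι := by
    obtain ⟨p, e, -, -, hcase⟩ := h.field
    have hR1 : 1 < Nat.card (center R) → 2 ≤ Fintype.card ι := by
      intro hz
      by_contra hlt
      have h1 : Fintype.card ι = 1 := by
        have := Fintype.card_pos (α := ι)
        omega
      have hfin : Finite (GL ι F) := inferInstance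
      have hpk := Cfsg.Agent.Lib.Helper52_Asch_PK7.PK7 R (spanAlg_eq_top_of_absIrred h.absIrred)
        (commutator_le_scalars h.symplecticType h.absIrred)
      rw [card_inf_scalars_eq_card_center h.absIrred, h1, one_pow, mul_one] at hpk
      rcases hcase with ⟨-, -, hZ, m', hm', hR⟩ | ⟨h2, -, hZ, h4, -⟩ | ⟨h2, -, hι, -⟩
      · rw [hZ, hR, pow_add, pow_one] at hpk
        have h3 : r ^ (2 * m') = 1 := by
          have := Nat.eq_of_mul_eq_mul_left hr.pos (hpk.trans (mul_one r).symm)
          exact this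
        have h4 : 1 < r ^ (2 * m') := Nat.one_lt_pow (by omega) hr.one_lt
        omega
      · omega
      · rw [hι] at h1; omega
    rcases hcase with ⟨-, -, hZ, -⟩ | ⟨-, -, -, h4, -⟩ | ⟨-, -, hι, -⟩
    · exact hR1 (by rw [hZ]; exact hr.one_lt)
    · omega
    · omega
  have hm0 : m ≠ 0 := by
    rintro rfl
    rw [pow_zero] at hm
    omega
  have h3 : r ∣ r₀ ^ k := by
    rw [← hcard, hm]
    exact dvd_pow_self r hm0
  exact (Nat.prime_dvd_prime_iff_eq hr hr₀).1 (hr.dvd_of_dvd_pow h3)

/-- the field condition of a class-6 datum with `r = 3`: the field is a prime field of order `≡ 1 mod 3` -/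
theorem field_of_symplecticTypeData_three [Fintype F] {R : Subgroup (GL ι F)}
    (h : IsLinearSymplecticTypeData 3 R) : ∃ p : ℕ, p.Prime ∧ Fintype.card F = p ∧ p % 3 = 1 := by
  obtain ⟨p, e, hp3, ⟨hp, -, hcard, hdvd, hmin⟩, hcase⟩ := h.field
  rcases hcase with ⟨-, he, hZ, -⟩ | ⟨h2, -⟩ | ⟨h2, -⟩
  · rw [hZ] at hdvd hmin
    have hp1 : 1 ≤ p := hp.one_lt.le
    have hpmod : p % 3 = 1 ∨ p % 3 = 2 := by
      have : p % 3 ≠ 0 := by
        intro h0
        have := (Nat.prime_dvd_prime_iff_eq Nat.prime_three hp).1 (Nat.dvd_of_mod_eq_zero h0)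
        exact hp3 this
      omega
    have hsq : 3 ∣ p ^ 2 - 1 := by
      have h1 : p ^ 2 % 3 = 1 := by
        rw [Nat.pow_mod]
        rcases hpmod with h | h <;> rw [h]
      have h2 : 1 ≤ p ^ 2 := Nat.one_le_pow _ _ hp1
      omega
    have he1 : e = 1 := by
      by_contra hne
      have he3 : 2 < e := by
        obtain ⟨k, hk⟩ := he
        omega
      exact hmin 2 (by norm_num) he3 hsq
    subst he1
    rw [pow_one] at hcard hdvd
    refine ⟨p, hp, hcard, ?_⟩
    omega
  · omega
  · omega

end Main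

end Cfsg.Agent.Lib.Helper97_AschC6
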