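import Mathlib
import Cfsg.Prelude.Def_GeometricClasses
import Cfsg.Agent.Lib.Helper94_Bridge
import Cfsg.Agent.Lib.Helper94_SLBridge
import Cfsg.Agent.Lib.Helper94_HermBridge
import Cfsg.Agent.Lib.Helper94_HermIrr
import Cfsg.Agent.Lib.Helper13_PSUSimple
import Cfsg.Agent.Lib.Helper30_AschMax
import Cfsg.Agent.S0283
import Cfsg.Agent.Lib.Helper94_SubfieldBridge
import Cfsg.Agent.Lib.Helper97_AschC6
import Cfsg.Agent.Lib.Helper52_Asch_PK7

set_option autoImplicit false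
set_option linter.unusedSectionVars false

namespace Cfsg.Agent.Lib.Helper27_SUAschMax

open Matrix Cfsg.Geo
open Cfsg.Agent.Lib.Helper94_Symp Cfsg.Agent.Lib.Helper94_Bridge Cfsg.Agent.Lib.Helper94_SLBridge
  Cfsg.Agent.Lib.Helper94_Herm Cfsg.Agent.Lib.Helper94_HermBridge Cfsg.Agent.Lib.Helper13_PSUSimple
open Cfsg.Agent.Lib.Helper94_SubfieldBridge
open scoped commutatorElement

variable {F : Type*} [Field F] [Fintype F] {n q : ℕ}

/-- `SU_n(q)` inside `GL_n(F)` -/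
abbrev SUm (n : ℕ) (F : Type*) [Field F] (q : ℕ) : Subgroup (GL (Fin n) F) :=
  Cfsg.GU n F q ⊓ specialLinear (Fin n) F

lemma SUm_eq (σ : F →+* F) (hσq : ∀ x, σ x = x ^ q) :
    SUm n F q = (SUg (hermB n σ hσq)).comap (glEquiv (Fin n) F).toMonoidHom := by
  ext g
  rw [SUm, Subgroup.mem_inf, GU_eq σ hσq, specialLinear_eq, Subgroup.mem_comap, Subgroup.mem_comap,
    Subgroup.mem_comap, mem_SUg, mem_slK]

/-- the linear form `x ↦ c * f(x, v)` -/
noncomputable def hermL (q : ℕ) (v : Fin n → F) (c : F) : (Fin n → F) →ₗ[F] F :=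
  ∑ i, (c * (v i) ^ q) • (LinearMap.proj i : (Fin n → F) →ₗ[F] F)

lemma hermL_apply (v : Fin n → F) (c : F) (x : Fin n → F) :
    hermL q v c x = c * Cfsg.hermForm n F q x v := by
  simp only [hermL, Cfsg.hermForm, LinearMap.sum_apply, LinearMap.smul_apply,
    LinearMap.proj_apply, smul_eq_mul, Finset.mul_sum]
  exact Finset.sum_congr rfl fun i _ => by ring

/-- the unitary transvection `x ↦ x + c f(x, v) v` as an element of `GL` -/
noncomputable def T (v : Fin n → F) (c : F) (hv : Cfsg.hermForm n F q v v = 0) : GL (Fin n) F :=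
  Cfsg.Agent.Lib.Helper30_AschMax.tv v (hermL q v c) (by rw [hermL_apply, hv, mul_zero])

lemma T_mulVec (v : Fin n → F) (c : F) (hv : Cfsg.hermForm n F q v v = 0) (x : Fin n → F) :
    ((T v c hv : GL (Fin n) F) : Matrix (Fin n) (Fin n) F) *ᵥ x
      = x + (c * Cfsg.hermForm n F q x v) • v := by
  rw [T, Cfsg.Agent.Lib.Helper30_AschMax.tv_mulVec, hermL_apply]

lemma glEquiv_T (σ : F →+* F) (hσq : ∀ x, σ x = x ^ q) (v : Fin n → F) (c : F)
    (hv : Cfsg.hermForm n F q v v = 0) :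
    glEquiv (Fin n) F (T v c hv) = utv (hermB n σ hσq) v c := by
  ext x : 1
  rw [glEquiv_apply, T_mulVec, utv_apply _ (by rw [hermB_apply]; exact hv), hermB_apply]

lemma T_mem (σ : F →+* F) (hσq : ∀ x, σ x = x ^ q) (hσ : Invol σ) (v : Fin n → F) (c : F)
    (hv : Cfsg.hermForm n F q v v = 0) (hc : c ^ q = -c) : T v c hv ∈ SUm n F q := by
  rw [SUm_eq σ hσq, Subgroup.mem_comap, MulEquiv.coe_toMonoidHom, glEquiv_T σ hσq, mem_SUg]
  exact ⟨utv_mem_uG (hermB_isHerm σ hσq hσ) v (by rw [hσq, hc]),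
    Cfsg.Agent.Lib.Helper13_SUGen.det_utv v c⟩


/-! ### perfectness, irreducibility -/

theorem SUm_perfect (hF : Fintype.card F = q ^ 2) (hn : 3 ≤ n) (hex : ¬ (n = 3 ∧ q = 2)) :
    ⁅SUm n F q, SUm n F q⁆ = SUm n F q := by
  obtain ⟨σ, hσq, hσ⟩ := exists_frob hF
  have hperf := Cfsg.Agent.S0283.su_perfect hF n hn hex
  let e : ↥(Cfsg.SU n F q) ≃* ↥(SUg (hermB n σ hσq)) := Cfsg.Agent.S0283.suEquiv σ hσq
  have hperf' : commutator ↥(SUg (hermB n σ hσq)) = ⊤ := by
    have h1 := Subgroup.map_commutator (⊤ : Subgroup ↥(Cfsg.SU n F q)) ⊤ e.toMonoidHom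
    have h2 : Subgroup.map e.toMonoidHom ⊤ = ⊤ :=
      Subgroup.map_top_of_surjective e.toMonoidHom e.surjective
    rw [h2, ← commutator_def, ← commutator_def, hperf, h2] at h1
    exact h1.symm
  have hK : ⁅SUg (hermB n σ hσq), SUg (hermB n σ hσq)⁆ = SUg (hermB n σ hσq) := by
    have h1 := Subgroup.map_commutator (⊤ : Subgroup ↥(SUg (hermB n σ hσq))) ⊤
      (SUg (hermB n σ hσq)).subtype
    rw [← commutator_def, hperf', ← MonoidHom.range_eq_map, Subgroup.range_subtype] at h1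
    exact h1.symm
  have hS : SUm n F q = (SUg (hermB n σ hσq)).map (glEquiv (Fin n) F).symm.toMonoidHom := by
    rw [SUm_eq σ hσq]
    exact (Subgroup.map_equiv_eq_comap_symm (glEquiv (Fin n) F).symm _).symm
  rw [hS, ← Subgroup.map_commutator, hK]

theorem eq_bot_or_top_of_T_invariant (hF : Fintype.card F = q ^ 2) (hn : 3 ≤ n)
    (W : Submodule F (Fin n → F))
    (hW : ∀ (v : Fin n → F) (c : F) (hv : Cfsg.hermForm n F q v v = 0), c ^ q = -c →
      ∀ x ∈ W, ((T v c hv : GL (Fin n) F) : Matrix (Fin n) (Fin n) F) *ᵥ x ∈ W) :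
    W = ⊥ ∨ W = ⊤ := by
  obtain ⟨σ, hσq, hσ⟩ := exists_frob hF
  by_cases hW0 : W = ⊥
  · exact Or.inl hW0
  right
  obtain ⟨x0, hx0W, hx00⟩ := (Submodule.ne_bot_iff W).mp hW0
  have h3 : ∀ x y : Fin n → F, ∃ z ∈ (⊤ : Submodule F (Fin n → F)), z ∉ Submodule.span F {x, y} := by
    intro x y
    by_contra hcon
    push Not at hcon
    classical
    have htop : (⊤ : Submodule F (Fin n → F)) ≤
        Submodule.span F ((({x, y} : Finset (Fin n → F)) : Set (Fin n → F))) := by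
      intro z hz
      have := hcon z hz
      simpa using this
    have h1 := Submodule.finrank_mono htop
    have h2 := finrank_span_finset_le_card (R := F) ({x, y} : Finset (Fin n → F))
    unfold Set.finrank at h2
    have h4 : ({x, y} : Finset (Fin n → F)).card ≤ 2 := Finset.card_le_two
    rw [finrank_top, Module.finrank_fin_fun] at h1
    omega
  have key := Cfsg.Agent.Lib.Helper94_HermIrr.mem_of_utv_invariant hσ (hermB_isHerm (n := n) σ hσq hσ) (hermB_nondeg (n := n) σ hσq) h3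
    W.toAddSubgroup ?_ ⟨x0, hx0W, trivial, hx00⟩
  · rw [eq_top_iff]
    intro x _
    exact key x trivial
  · intro a _ ha c hc x hx
    have hv : Cfsg.hermForm n F q a a = 0 := by rw [← hermB_apply σ hσq]; exact ha
    have := hW a c hv (by rw [← hσq, hc]) x hx
    rw [← glEquiv_apply, glEquiv_T σ hσq] at this
    exact this

/-! ### class 2: decompositions -/

section Decomp

variable {t : ℕ} (D : Fin t → Submodule F (Fin n → F))

/-- `g` permutes the blocks of `D` according to `σ` -/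
def HasPerm (g : GL (Fin n) F) (σ : Equiv.Perm (Fin t)) : Prop :=
  ∀ i, (D i).map (Matrix.toLin' (g : Matrix (Fin n) (Fin n) F)) = D (σ i)

variable {D}

lemma HasPerm.mul {g h : GL (Fin n) F} {σ τ : Equiv.Perm (Fin t)} (hg : HasPerm D g σ)
    (hh : HasPerm D h τ) : HasPerm D (g * h) (σ * τ) := by
  intro i
  rw [Units.val_mul, Matrix.toLin'_mul, Submodule.map_comp, hh, hg, Equiv.Perm.mul_apply]

lemma HasPerm.inv {g : GL (Fin n) F} {σ : Equiv.Perm (Fin t)} (hg : HasPerm D g σ) :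
    HasPerm D g⁻¹ σ⁻¹ := by
  intro i
  have h := hg (σ⁻¹ i)
  rw [show σ (σ⁻¹ i) = i from by simp] at h
  rw [← h, ← Submodule.map_comp, ← Matrix.toLin'_mul, ← Units.val_mul, inv_mul_cancel, Units.val_one,
    Matrix.toLin'_one, Submodule.map_id]

variable (D)

/-- the elements of the stabilizer inducing an even permutation of the blocks -/
def evenStab : Subgroup (GL (Fin n) F) where
  carrier := {g | ∃ σ : Equiv.Perm (Fin t), Equiv.Perm.sign σ = 1 ∧ HasPerm D g σ}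
  mul_mem' := by
    rintro a b ⟨σ, hσ, ha⟩ ⟨τ, hτ, hb⟩
    exact ⟨σ * τ, by rw [map_mul, hσ, hτ, one_mul], ha.mul hb⟩
  one_mem' := ⟨1, by simp, fun i => by simp⟩
  inv_mem' := by
    rintro a ⟨σ, hσ, ha⟩
    exact ⟨σ⁻¹, by rw [map_inv, hσ, inv_one], ha.inv⟩

lemma commutator_stab_le_evenStab :
    ⁅decompositionStabilizer D, decompositionStabilizer D⁆ ≤ evenStab D := by
  rw [Subgroup.commutator_le]
  rintro g ⟨σ, hg⟩ h ⟨τ, hh⟩
  have hg' : HasPerm D g σ := hg
  have hh' : HasPerm D h τ := hh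
  refine ⟨σ * τ * σ⁻¹ * τ⁻¹, ?_, ?_⟩
  · simp only [map_mul, map_inv]
    rw [mul_comm (Equiv.Perm.sign σ) (Equiv.Perm.sign τ), mul_assoc (Equiv.Perm.sign τ), mul_inv_cancel,
      mul_one, mul_inv_cancel]
  · rw [commutatorElement_def]
    exact ((hg'.mul hh').mul hg'.inv).mul hh'.inv


variable {D}

lemma mulVec_mem_of_hasPerm {g : GL (Fin n) F} {σ : Equiv.Perm (Fin t)} (hg : HasPerm D g σ) {i : Fin t}
    {x : Fin n → F} (hx : x ∈ D i) : (g : Matrix (Fin n) (Fin n) F) *ᵥ x ∈ D (σ i) := by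
  rw [← hg i, ← Matrix.toLin'_apply]
  exact Submodule.mem_map_of_mem hx

lemma mem_iSup_ne {i j : Fin t} (hji : j ≠ i) {x : Fin n → F} (hx : x ∈ D j) :
    x ∈ ⨆ (j' : Fin t) (_ : j' ≠ i), D j' :=
  Submodule.mem_iSup_of_mem j (Submodule.mem_iSup_of_mem hji hx)

/-- a rank-one unipotent element of the stabilizer of a decomposition that induces an even permutation
fixes every block -/
lemma perm_eq_one_of_rankOne {k : ℕ} (hD : IsMDecomposition k D) {g : GL (Fin n) F}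
    {φ : (Fin n → F) →ₗ[F] F} {w : Fin n → F}
    (hg : ∀ x, (g : Matrix (Fin n) (Fin n) F) *ᵥ x = x + φ x • w) {σ : Equiv.Perm (Fin t)}
    (hσ : HasPerm D g σ) (hsign : Equiv.Perm.sign σ = 1) : σ = 1 := by
  classical
  by_contra hne
  obtain ⟨i₀, hi₀⟩ : ∃ i₀, σ i₀ ≠ i₀ := by
    by_contra hcon
    push Not at hcon
    exact hne (Equiv.ext hcon)
  set j := σ i₀ with hj
  have hdisj : ∀ a b : Fin t, a ≠ b → ∀ x, x ∈ D a → x ∈ D b → x = 0 := by
    intro a b hab x hxa hxb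
    have := (hD.indep.pairwiseDisjoint hab).le_bot (Submodule.mem_inf.mpr ⟨hxa, hxb⟩)
    simpa using this
  have hind : ∀ a : Fin t, ∀ x, x ∈ D a → x ∈ (⨆ (j' : Fin t) (_ : j' ≠ a), D j') → x = 0 := by
    intro a x hxa hxb
    have := (hD.indep a).le_bot (Submodule.mem_inf.mpr ⟨hxa, hxb⟩)
    simpa using this
  have hne_bot : ∀ a : Fin t, ∃ x ∈ D a, x ≠ 0 := by
    intro a
    have h1 : D a ≠ ⊥ := by
      intro h
      have := hD.finrank_eq a
      rw [h, finrank_bot] at this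
      have := hD.pos
      omega
    exact (Submodule.ne_bot_iff _).mp h1
  have ginj : ∀ x, (g : Matrix (Fin n) (Fin n) F) *ᵥ x = 0 → x = 0 := by
    intro x hx
    have : ((g⁻¹ : GL (Fin n) F) : Matrix (Fin n) (Fin n) F) *ᵥ ((g : Matrix (Fin n) (Fin n) F) *ᵥ x) = x := by
      rw [Matrix.mulVec_mulVec, ← Units.val_mul, inv_mul_cancel, Units.val_one, Matrix.one_mulVec]
    rw [← this, hx, Matrix.mulVec_zero]
  -- step (a)
  have ha : ∀ x ∈ D i₀, φ x = 0 → x = 0 := by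
    intro x hx hφ
    have h1 := mulVec_mem_of_hasPerm hσ hx
    rw [hg, hφ, zero_smul, add_zero] at h1
    exact hdisj i₀ j (Ne.symm hi₀) x hx h1
  -- step (b)
  obtain ⟨x₀, hx₀, hx₀0⟩ := hne_bot i₀
  have hφx₀ : φ x₀ ≠ 0 := fun h => hx₀0 (ha x₀ hx₀ h)
  set y₀ := (g : Matrix (Fin n) (Fin n) F) *ᵥ x₀ with hy₀
  have hy₀D : y₀ ∈ D j := mulVec_mem_of_hasPerm hσ hx₀
  have hy₀0 : y₀ ≠ 0 := fun h => hx₀0 (ginj x₀ h)
  have hw : φ x₀ • w = y₀ - x₀ := by rw [hy₀, hg]; abel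
  -- step (c)
  have hc : ∀ l : Fin t, l ≠ i₀ → l ≠ j → ∀ y ∈ D l, φ y = 0 := by
    intro l hl1 hl2 y hy
    have hz := mulVec_mem_of_hasPerm hσ hy
    set z := (g : Matrix (Fin n) (Fin n) F) *ᵥ y with hzdef
    have hzeq : φ x₀ • z = φ x₀ • y + φ y • (y₀ - x₀) := by
      rw [hzdef, hg, smul_add, smul_smul, mul_comm, ← smul_smul, hw]
    by_cases hm : σ l = i₀
    · -- the `j`-component
      have h1 : φ y • y₀ = φ x₀ • z - φ x₀ • y + φ y • x₀ := by
        rw [hzeq, smul_sub]; abel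
      have h2 : φ y • y₀ ∈ ⨆ (j' : Fin t) (_ : j' ≠ j), D j' := by
        rw [h1]
        refine Submodule.add_mem _ (Submodule.sub_mem _ ?_ ?_) ?_
        · exact Submodule.smul_mem _ _ (mem_iSup_ne (by rw [hm]; exact Ne.symm hi₀) hz)
        · exact Submodule.smul_mem _ _ (mem_iSup_ne hl2 hy)
        · exact Submodule.smul_mem _ _ (mem_iSup_ne (Ne.symm hi₀) hx₀)
      have h3 := hind j _ (Submodule.smul_mem _ _ hy₀D) h2
      rcases smul_eq_zero.mp h3 with h | h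
      · exact h
      · exact absurd h hy₀0
    · -- the `i₀`-component
      have h1 : φ y • x₀ = φ x₀ • y + φ y • y₀ - φ x₀ • z := by
        rw [hzeq, smul_sub]; abel
      have h2 : φ y • x₀ ∈ ⨆ (j' : Fin t) (_ : j' ≠ i₀), D j' := by
        rw [h1]
        refine Submodule.sub_mem _ (Submodule.add_mem _ ?_ ?_) ?_
        · exact Submodule.smul_mem _ _ (mem_iSup_ne hl1 hy)
        · exact Submodule.smul_mem _ _ (mem_iSup_ne hi₀ hy₀D)
        · exact Submodule.smul_mem _ _ (mem_iSup_ne hm hz)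
      have h3 := hind i₀ _ (Submodule.smul_mem _ _ hx₀) h2
      rcases smul_eq_zero.mp h3 with h | h
      · exact h
      · exact absurd h hx₀0
  -- step (c')
  have hfix : ∀ l : Fin t, l ≠ i₀ → l ≠ j → σ l = l := by
    intro l hl1 hl2
    by_contra hσl
    obtain ⟨y, hy, hy0⟩ := hne_bot l
    have h1 := mulVec_mem_of_hasPerm hσ hy
    rw [hg, hc l hl1 hl2 y hy, zero_smul, add_zero] at h1
    exact hy0 (hdisj l (σ l) (Ne.symm hσl) y hy h1)
  -- step (d)
  have hσj : σ j = i₀ := by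
    by_contra h1
    have h2 : σ j ≠ j := by
      intro h
      exact hi₀ (σ.injective (by rw [h])).symm
    have h3 := hfix (σ j) h1 h2
    exact h2 (σ.injective h3)
  have hswap : σ = Equiv.swap i₀ j := by
    ext l
    by_cases h1 : l = i₀
    · subst h1; rw [Equiv.swap_apply_left]
    · by_cases h2 : l = j
      · rw [h2, Equiv.swap_apply_right, hσj]
      · rw [Equiv.swap_apply_of_ne_of_ne h1 h2, hfix l h1 h2]
  rw [hswap, Equiv.Perm.sign_swap (Ne.symm hi₀)] at hsign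
  exact absurd hsign (by decide)

end Decomp



/-! ### existence of hyperbolic pairs and nontrivial transvections -/

lemma exists_hyp (hF : Fintype.card F = q ^ 2) (hn : 2 ≤ n) :
    ∃ e f : Fin n → F, Cfsg.hermForm n F q e e = 0 ∧ Cfsg.hermForm n F q f f = 0 ∧
      Cfsg.hermForm n F q e f = 1 ∧ Cfsg.hermForm n F q f e = 1 := by
  obtain ⟨σ, hσq, hσ⟩ := exists_frob hF
  obtain ⟨e, f, h⟩ := exists_hypPair hσ (hermB_isHerm (n := n) σ hσq hσ) (hermB_nondeg (n := n) σ hσq)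
    (by rw [Module.finrank_fin_fun]; exact hn)
  exact ⟨e, f, h.ee, h.ff, h.ef, h.fe⟩

lemma exists_skew_pow (hF : Fintype.card F = q ^ 2) : ∃ c : F, c ≠ 0 ∧ c ^ q = -c := by
  obtain ⟨σ, hσq, hσ⟩ := exists_frob hF
  obtain ⟨ζ, hζ0, hζ⟩ := exists_skew hσ
  exact ⟨ζ, hζ0, by rw [← hσq, hζ]⟩

/-- a nontrivial unitary transvection -/
lemma exists_T (hF : Fintype.card F = q ^ 2) (hn : 2 ≤ n) :
    ∃ (v : Fin n → F) (c : F) (_ : Cfsg.hermForm n F q v v = 0), c ^ q = -c ∧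
      ∃ x : Fin n → F, (c * Cfsg.hermForm n F q x v) • v ≠ 0 := by
  obtain ⟨e, f, he, hf, hef, hfe⟩ := exists_hyp (n := n) hF hn
  obtain ⟨c, hc0, hc⟩ := exists_skew_pow hF
  refine ⟨e, c, he, hc, f, ?_⟩
  rw [hfe, mul_one]
  intro h
  rcases smul_eq_zero.mp h with h | h
  · exact hc0 h
  · rw [h] at hef
    simp [Cfsg.hermForm] at hef

/-! ### the glue -/

/-- the hypothesis `hproper` of the frozen S5663 follows from maximality -/
theorem sup_scalars_ne (hF : Fintype.card F = q ^ 2) (hn : 3 ≤ n) (hex : ¬ (n = 3 ∧ q = 2))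
    {H : Subgroup (GL (Fin n) F)}
    (hH : IsMaximalIn (Cfsg.GU n F q ⊓ specialLinear (Fin n) F) H) :
    H ⊔ (scalars (Fin n) F ⊓ (Cfsg.GU n F q ⊓ specialLinear (Fin n) F)) ≠
      Cfsg.GU n F q ⊓ specialLinear (Fin n) F := by
  intro heq
  have h1 : ⁅SUm n F q, SUm n F q⁆ ≤ H :=
    Cfsg.Agent.Lib.Helper30_AschMax.commutator_le_of_le_sup_central
      (Z := scalars (Fin n) F ⊓ SUm n F q)
      (fun z hz g => Cfsg.Agent.Lib.Helper30_AschMax.scalars_comm hz.1 g) heq.ge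
  rw [SUm_perfect hF hn hex] at h1
  exact (not_le_of_gt hH.1) h1

/-- a maximal subgroup of `SU` contained in `X ⊓ GU` with `SU ≰ X` is `X ⊓ SU` -/
theorem eq_inf_of_le {H X : Subgroup (GL (Fin n) F)}
    (hH : IsMaximalIn (Cfsg.GU n F q ⊓ specialLinear (Fin n) F) H)
    (hle : H ≤ X ⊓ Cfsg.GU n F q)
    (hnot : ¬ Cfsg.GU n F q ⊓ specialLinear (Fin n) F ≤ X) :
    H = X ⊓ (Cfsg.GU n F q ⊓ specialLinear (Fin n) F) := by
  have h1 : H ≤ X ⊓ (Cfsg.GU n F q ⊓ specialLinear (Fin n) F) :=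
    le_inf (hle.trans inf_le_left) hH.1.le
  rcases hH.2 _ h1 inf_le_right with h | h
  · exact h.symm
  · exact absurd (h ▸ inf_le_left) hnot

/-! ### class 1 -/

theorem not_le_subspaceStabilizer (hF : Fintype.card F = q ^ 2) (hn : 3 ≤ n)
    (W : Submodule F (Fin n → F)) (hW0 : W ≠ ⊥) (hW1 : W ≠ ⊤) :
    ¬ Cfsg.GU n F q ⊓ specialLinear (Fin n) F ≤ subspaceStabilizer W := by
  intro hle
  obtain ⟨σ, hσq, hσ⟩ := exists_frob hF
  have hinv : ∀ (v : Fin n → F) (c : F) (hv : Cfsg.hermForm n F q v v = 0), c ^ q = -c →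
      ∀ x ∈ W, ((T v c hv : GL (Fin n) F) : Matrix (Fin n) (Fin n) F) *ᵥ x ∈ W := by
    intro v c hv hc x hx
    have h1 := hle (T_mem σ hσq hσ v c hv hc)
    exact (h1 x).mp hx
  rcases eq_bot_or_top_of_T_invariant hF hn W hinv with h | h
  · exact hW0 h
  · exact hW1 h

/-! ### class 2 -/

theorem not_le_decompositionStabilizer (hF : Fintype.card F = q ^ 2) (hn : 3 ≤ n)
    (hex : ¬ (n = 3 ∧ q = 2)) {t k : ℕ} {D : Fin t → Submodule F (Fin n → F)}
    (hD : IsMDecomposition k D) :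
    ¬ Cfsg.GU n F q ⊓ specialLinear (Fin n) F ≤ decompositionStabilizer D := by
  intro hle
  obtain ⟨σ, hσq, hσ⟩ := exists_frob hF
  have hev : SUm n F q ≤ evenStab D := by
    calc SUm n F q = ⁅SUm n F q, SUm n F q⁆ := (SUm_perfect hF hn hex).symm
      _ ≤ ⁅decompositionStabilizer D, decompositionStabilizer D⁆ := Subgroup.commutator_mono hle hle
      _ ≤ evenStab D := commutator_stab_le_evenStab D
  have ht := hD.two_le
  let i0 : Fin t := ⟨0, by omega⟩
  let i1 : Fin t := ⟨1, by omega⟩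
  have h01 : i0 ≠ i1 := by simp [i0, i1, Fin.ext_iff]
  have hinv : ∀ (v : Fin n → F) (c : F) (hv : Cfsg.hermForm n F q v v = 0), c ^ q = -c →
      ∀ x ∈ D i0, ((T v c hv : GL (Fin n) F) : Matrix (Fin n) (Fin n) F) *ᵥ x ∈ D i0 := by
    intro v c hv hc x hx
    obtain ⟨τ, hτ, hperm⟩ := hev (T_mem σ hσq hσ v c hv hc)
    have h1 : τ = 1 := perm_eq_one_of_rankOne (φ := hermL q v c) (w := v) hD
      (fun x => by rw [T_mulVec, hermL_apply]) hperm hτ
    have h2 := mulVec_mem_of_hasPerm hperm hx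
    rwa [h1] at h2
  rcases eq_bot_or_top_of_T_invariant hF hn (D i0) hinv with h | h
  · have := hD.finrank_eq i0
    rw [h, finrank_bot] at this
    have := hD.pos
    omega
  · have hdis : Disjoint (D i0) (D i1) := hD.indep.pairwiseDisjoint h01
    rw [h] at hdis
    have h1 : D i1 = ⊥ := by
      rw [eq_bot_iff]
      exact hdis.le_bot.trans' (le_inf le_top le_rfl)
    have := hD.finrank_eq i1
    rw [h1, finrank_bot] at this
    have := hD.pos
    omega


/-! ### class 3 -/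

/-- no rank-one unipotent element normalizes a field subalgebra of degree at least two (`n ≥ 3`) -/
lemma not_mem_subalgebraNormalizer_of_rankOne (hn : 3 ≤ n) {r : ℕ} (hr : 2 ≤ r)
    {K : Subalgebra F (Matrix (Fin n) (Fin n) F)} (hK : IsFieldSubalgebra r K)
    {g : GL (Fin n) F} {φ : (Fin n → F) →ₗ[F] F} {w : Fin n → F}
    (hg : ∀ x, (g : Matrix (Fin n) (Fin n) F) *ᵥ x = x + φ x • w)
    (hne : ∃ x, φ x • w ≠ 0) : g ∉ subalgebraNormalizer K := by
  intro hmem
  have : Nonempty (Fin n) := ⟨⟨0, by omega⟩⟩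
  have hmem' : ∀ k : Matrix (Fin n) (Fin n) F, k ∈ K ↔
      (g : Matrix (Fin n) (Fin n) F) * k * ((g⁻¹ : GL (Fin n) F) : Matrix (Fin n) (Fin n) F) ∈ K := hmem
  obtain ⟨x₁, hx₁⟩ := hne
  have hφx₁ : φ x₁ ≠ 0 := fun h => hx₁ (by rw [h, zero_smul])
  have hw0 : w ≠ 0 := fun h => hx₁ (by rw [h, smul_zero])
  -- a non-scalar element of `K`
  have hex : ∃ θ ∈ K, ∀ c : F, θ ≠ c • (1 : Matrix (Fin n) (Fin n) F) := by
    by_contra hcon
    push Not at hcon
    have hKbot : K = ⊥ := by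
      rw [eq_bot_iff]
      intro x hx
      obtain ⟨c, hc⟩ := hcon x hx
      rw [Algebra.mem_bot]
      exact ⟨c, by rw [hc, Algebra.algebraMap_eq_smul_one]⟩
    have := hK.finrank_eq
    rw [hKbot, Subalgebra.finrank_bot] at this
    omega
  obtain ⟨θ, hθK, hθ⟩ := hex
  -- nonzero elements of `K` are injective
  have hinj : ∀ d ∈ K, d ≠ 0 → ∀ x : Fin n → F, d *ᵥ x = 0 → x = 0 := by
    intro d hdK hd0 x hx
    obtain ⟨y, -, hy⟩ := hK.inv d hdK hd0
    have hy' : y * d = 1 := mul_eq_one_comm.mp hy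
    have : (y * d) *ᵥ x = x := by rw [hy', Matrix.one_mulVec]
    rw [← this, ← Matrix.mulVec_mulVec, hx, Matrix.mulVec_zero]
  set θ' := (g : Matrix (Fin n) (Fin n) F) * θ * ((g⁻¹ : GL (Fin n) F) : Matrix (Fin n) (Fin n) F)
    with hθ'
  have hθ'K : θ' ∈ K := (hmem' θ).mp hθK
  have hcomm : θ' * (g : Matrix (Fin n) (Fin n) F) = (g : Matrix (Fin n) (Fin n) F) * θ := by
    rw [hθ', mul_assoc, ← Units.val_mul, inv_mul_cancel, Units.val_one, mul_one]
  have hcomm' : ∀ x, θ' *ᵥ ((g : Matrix (Fin n) (Fin n) F) *ᵥ x) =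
      (g : Matrix (Fin n) (Fin n) F) *ᵥ (θ *ᵥ x) := by
    intro x
    rw [Matrix.mulVec_mulVec, Matrix.mulVec_mulVec, hcomm]
  by_cases hcase : θ' = θ
  · -- `g` commutes with `θ`: `w` is an eigenvector
    have h1 := hcomm' x₁
    rw [hcase, hg, hg, Matrix.mulVec_add, Matrix.mulVec_smul] at h1
    have h2 : φ x₁ • (θ *ᵥ w) = φ (θ *ᵥ x₁) • w := add_left_cancel h1
    set lam := (φ x₁)⁻¹ * φ (θ *ᵥ x₁) with hlam
    have h3 : θ *ᵥ w = lam • w := by
      rw [hlam, ← smul_smul, ← h2, smul_smul, inv_mul_cancel₀ hφx₁, one_smul]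
    have hd : θ - lam • (1 : Matrix (Fin n) (Fin n) F) ∈ K :=
      K.sub_mem hθK (by rw [← Algebra.algebraMap_eq_smul_one]; exact K.algebraMap_mem lam)
    have hd0 : θ - lam • (1 : Matrix (Fin n) (Fin n) F) ≠ 0 := fun h => hθ lam (sub_eq_zero.mp h)
    apply hw0
    apply hinj _ hd hd0
    rw [Matrix.sub_mulVec, h3, Matrix.smul_mulVec, Matrix.one_mulVec, sub_self]
  · -- `θ' - θ` kills a nonzero vector
    have hd : θ' - θ ∈ K := K.sub_mem hθ'K hθK
    have hd0 : θ' - θ ≠ 0 := fun h => hcase (sub_eq_zero.mp h)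
    let L : (Fin n → F) →ₗ[F] F × F := φ.prod (φ ∘ₗ Matrix.toLin' θ)
    have hker : LinearMap.ker L ≠ ⊥ := by
      apply LinearMap.ker_ne_bot_of_finrank_lt
      rw [Module.finrank_prod, Module.finrank_self, Module.finrank_fin_fun]
      omega
    obtain ⟨x, hxk, hx0⟩ := (Submodule.ne_bot_iff _).mp hker
    have hL : L x = 0 := hxk
    have h1 : φ x = 0 := by
      have := congrArg Prod.fst hL
      simpa [L] using this
    have h2 : φ (θ *ᵥ x) = 0 := by
      have := congrArg Prod.snd hL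
      simpa [L] using this
    apply hx0
    apply hinj _ hd hd0
    have h3 := hcomm' x
    rw [hg, hg, h1, h2, zero_smul, add_zero, add_zero] at h3
    rw [Matrix.sub_mulVec, h3, sub_self]

theorem not_le_subalgebraNormalizer (hF : Fintype.card F = q ^ 2) (hn : 3 ≤ n) {r : ℕ} (hr : 2 ≤ r)
    {K : Subalgebra F (Matrix (Fin n) (Fin n) F)} (hK : IsFieldSubalgebra r K) :
    ¬ Cfsg.GU n F q ⊓ specialLinear (Fin n) F ≤ subalgebraNormalizer K := by
  intro hle
  obtain ⟨σ, hσq, hσ⟩ := exists_frob hF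
  obtain ⟨v, c, hv, hc, x, hx⟩ := exists_T (n := n) hF (by omega)
  exact not_mem_subalgebraNormalizer_of_rankOne hn hr hK (g := T v c hv) (φ := hermL q v c) (w := v)
    (fun x => by rw [T_mulVec, hermL_apply]) ⟨x, by rw [hermL_apply]; exact hx⟩
    (hle (T_mem σ hσq hσ v c hv hc))


/-! ### class 6 -/

lemma mul_mulVec' (a b : GL (Fin n) F) (x : Fin n → F) :
    ((a * b : GL (Fin n) F) : Matrix (Fin n) (Fin n) F) *ᵥ x =
      (a : Matrix (Fin n) (Fin n) F) *ᵥ ((b : Matrix (Fin n) (Fin n) F) *ᵥ x) := by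
  rw [Units.val_mul, Matrix.mulVec_mulVec]

lemma inv_mulVec_eq {a : GL (Fin n) F} {x y : Fin n → F}
    (h : (a : Matrix (Fin n) (Fin n) F) *ᵥ x = y) :
    ((a⁻¹ : GL (Fin n) F) : Matrix (Fin n) (Fin n) F) *ᵥ y = x := by
  rw [← h, Matrix.mulVec_mulVec, ← Units.val_mul, inv_mul_cancel, Units.val_one, Matrix.one_mulVec]

lemma eq_one_of_mulVec {a : GL (Fin n) F}
    (h : ∀ x, (a : Matrix (Fin n) (Fin n) F) *ᵥ x = x) : a = 1 := by
  apply Units.ext
  rw [Units.val_one]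
  apply Matrix.toLin'.injective
  apply LinearMap.ext
  intro x
  rw [Matrix.toLin'_apply, h, Matrix.toLin'_one, LinearMap.id_apply]

/-- a rank-one unipotent element normalizing an absolutely irreducible group of class two
centralizes it (`n ≥ 5`) -/
lemma commute_of_rankOne_normalizes (hn : 5 ≤ n) {R : Subgroup (GL (Fin n) F)}
    (hcomm : ⁅R, R⁆ ≤ scalars (Fin n) F) (hirr : ActsAbsolutelyIrreducibly (matrixSet R))
    {τ : GL (Fin n) F} {φ : (Fin n → F) →ₗ[F] F} {w : Fin n → F}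
    (hτ : ∀ x, (τ : Matrix (Fin n) (Fin n) F) *ᵥ x = x + φ x • w) (hφw : φ w = 0)
    (hN : τ ∈ subgroupNormalizer R) : ∀ g ∈ R, τ * g = g * τ := by
  have : Nonempty (Fin n) := ⟨⟨0, by omega⟩⟩
  intro g hg
  have hτinv : ∀ y, ((τ⁻¹ : GL (Fin n) F) : Matrix (Fin n) (Fin n) F) *ᵥ y = y - φ y • w := by
    intro y
    apply inv_mulVec_eq
    rw [hτ, map_sub, map_smul, hφw, smul_zero, sub_zero]
    abel
  set h : GL (Fin n) F := τ * g * τ⁻¹ * g⁻¹ with hh
  have hhR : h ∈ R := R.mul_mem ((Subgroup.mem_normalizer_iff.mp hN g).mp hg) (R.inv_mem hg)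
  -- `h` fixes `ker φ ∩ ker (φ ∘ g⁻¹)` pointwise
  have hfix : ∀ x, φ x = 0 → φ (((g⁻¹ : GL (Fin n) F) : Matrix (Fin n) (Fin n) F) *ᵥ x) = 0 →
      (h : Matrix (Fin n) (Fin n) F) *ᵥ x = x := by
    intro x h1 h2
    have e1 : (g : Matrix (Fin n) (Fin n) F) *ᵥ
        (((g⁻¹ : GL (Fin n) F) : Matrix (Fin n) (Fin n) F) *ᵥ x) = x := by
      rw [← mul_mulVec', mul_inv_cancel, Units.val_one, Matrix.one_mulVec]
    rw [hh, mul_mulVec', mul_mulVec', mul_mulVec', hτinv, h2, zero_smul, sub_zero, e1, hτ, h1,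
      zero_smul, add_zero]
  suffices h1 : h = 1 by
    have : τ * g * τ⁻¹ * g⁻¹ = 1 := h1
    calc τ * g = (τ * g * τ⁻¹ * g⁻¹) * (g * τ) := by group
      _ = g * τ := by rw [this, one_mul]
  by_contra hne
  -- a commutator `z = ⁅g', h⁆ ≠ 1`, which is a scalar
  have hex : ∃ g' ∈ R, g' * h ≠ h * g' := by
    by_contra hcon
    push Not at hcon
    have hsc : h ∈ scalars (Fin n) F :=
      Cfsg.Agent.Lib.Helper97_AschC6.mem_scalars_of_commute hirr h (fun y hy => (hcon y hy).symm)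
    obtain ⟨c, hc⟩ := (mem_scalars_iff h).mp hsc
    -- `h` fixes a nonzero vector
    let L : (Fin n → F) →ₗ[F] F × F :=
      φ.prod (φ ∘ₗ Matrix.toLin' ((g⁻¹ : GL (Fin n) F) : Matrix (Fin n) (Fin n) F))
    have hker : LinearMap.ker L ≠ ⊥ := by
      apply LinearMap.ker_ne_bot_of_finrank_lt
      rw [Module.finrank_prod, Module.finrank_self, Module.finrank_fin_fun]
      omega
    obtain ⟨x, hxk, hx0⟩ := (Submodule.ne_bot_iff _).mp hker
    have hL : L x = 0 := hxk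
    have h1 : φ x = 0 := by
      have := congrArg Prod.fst hL
      simpa [L] using this
    have h2 : φ (((g⁻¹ : GL (Fin n) F) : Matrix (Fin n) (Fin n) F) *ᵥ x) = 0 := by
      have := congrArg Prod.snd hL
      simpa [L] using this
    have h3 := hfix x h1 h2
    rw [hc, Matrix.smul_mulVec, Matrix.one_mulVec] at h3
    have hc1 : (c : F) = 1 := by
      by_contra hc1
      apply hx0
      have : ((c : F) - 1) • x = 0 := by rw [sub_smul, h3, one_smul, sub_self]
      rcases smul_eq_zero.mp this with h | h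
      · exact absurd (sub_eq_zero.mp h) hc1
      · exact h
    apply hne
    apply Units.ext
    rw [hc, hc1, one_smul, Units.val_one]
  obtain ⟨g', hg'R, hg'⟩ := hex
  set z : GL (Fin n) F := g' * h * g'⁻¹ * h⁻¹ with hz
  have hzsc : z ∈ scalars (Fin n) F := by
    apply hcomm
    rw [hz, ← commutatorElement_def]
    exact Subgroup.commutator_mem_commutator hg'R hhR
  obtain ⟨c, hc⟩ := (mem_scalars_iff z).mp hzsc
  have hconj : g' * h * g'⁻¹ = z * h := by rw [hz]; group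
  -- a nonzero vector in the intersection of the two fixed spaces
  let L : (Fin n → F) →ₗ[F] (F × F) × (F × F) :=
    (φ.prod (φ ∘ₗ Matrix.toLin' ((g⁻¹ : GL (Fin n) F) : Matrix (Fin n) (Fin n) F))).prod
      ((φ ∘ₗ Matrix.toLin' ((g'⁻¹ : GL (Fin n) F) : Matrix (Fin n) (Fin n) F)).prod
        (φ ∘ₗ Matrix.toLin' ((g⁻¹ : GL (Fin n) F) : Matrix (Fin n) (Fin n) F) ∘ₗ
          Matrix.toLin' ((g'⁻¹ : GL (Fin n) F) : Matrix (Fin n) (Fin n) F)))
  have hker : LinearMap.ker L ≠ ⊥ := by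
    apply LinearMap.ker_ne_bot_of_finrank_lt
    rw [Module.finrank_prod, Module.finrank_prod, Module.finrank_self, Module.finrank_fin_fun]
    omega
  obtain ⟨x, hxk, hx0⟩ := (Submodule.ne_bot_iff _).mp hker
  have hL : L x = 0 := hxk
  have h1 : φ x = 0 := by
    have := congrArg (fun p => p.1.1) hL
    simpa [L] using this
  have h2 : φ (((g⁻¹ : GL (Fin n) F) : Matrix (Fin n) (Fin n) F) *ᵥ x) = 0 := by
    have := congrArg (fun p => p.1.2) hL
    simpa [L] using this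
  have h3 : φ (((g'⁻¹ : GL (Fin n) F) : Matrix (Fin n) (Fin n) F) *ᵥ x) = 0 := by
    have := congrArg (fun p => p.2.1) hL
    simpa [L] using this
  have h4 : φ (((g⁻¹ : GL (Fin n) F) : Matrix (Fin n) (Fin n) F) *ᵥ
      (((g'⁻¹ : GL (Fin n) F) : Matrix (Fin n) (Fin n) F) *ᵥ x)) = 0 := by
    have := congrArg (fun p => p.2.2) hL
    simpa [L] using this
  have e1 := hfix x h1 h2
  have e2 := hfix _ h3 h4
  -- `g' h g'⁻¹ x = x`
  have e3 : ((g' * h * g'⁻¹ : GL (Fin n) F) : Matrix (Fin n) (Fin n) F) *ᵥ x = x := by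
    have e0 : (g' : Matrix (Fin n) (Fin n) F) *ᵥ
        (((g'⁻¹ : GL (Fin n) F) : Matrix (Fin n) (Fin n) F) *ᵥ x) = x := by
      rw [← mul_mulVec', mul_inv_cancel, Units.val_one, Matrix.one_mulVec]
    rw [mul_mulVec', mul_mulVec', e2, e0]
  rw [hconj, mul_mulVec', e1, hc, Matrix.smul_mulVec, Matrix.one_mulVec] at e3
  have hc1 : (c : F) = 1 := by
    by_contra hc1
    apply hx0
    have : ((c : F) - 1) • x = 0 := by rw [sub_smul, e3, one_smul, sub_self]
    rcases smul_eq_zero.mp this with h | h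
    · exact absurd (sub_eq_zero.mp h) hc1
    · exact h
  have hz1 : z = 1 := by
    apply Units.ext
    rw [hc, hc1, one_smul, Units.val_one]
  apply hg'
  calc g' * h = (g' * h * g'⁻¹ * h⁻¹) * (h * g') := by group
    _ = h * g' := by rw [← hz, hz1, one_mul]


lemma rankOne_not_mem_scalars (hn : 2 ≤ n) {τ : GL (Fin n) F} {φ : (Fin n → F) →ₗ[F] F}
    {w : Fin n → F} (hτ : ∀ x, (τ : Matrix (Fin n) (Fin n) F) *ᵥ x = x + φ x • w)
    (hne : ∃ x, φ x • w ≠ 0) : τ ∉ scalars (Fin n) F := by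
  intro hsc
  obtain ⟨c, hc⟩ := (mem_scalars_iff τ).mp hsc
  obtain ⟨x₁, hx₁⟩ := hne
  have hker : LinearMap.ker φ ≠ ⊥ := by
    apply LinearMap.ker_ne_bot_of_finrank_lt
    rw [Module.finrank_self, Module.finrank_fin_fun]
    omega
  obtain ⟨x, hxk, hx0⟩ := (Submodule.ne_bot_iff _).mp hker
  have h1 : φ x = 0 := hxk
  have h2 := hτ x
  rw [hc, Matrix.smul_mulVec, Matrix.one_mulVec, h1, zero_smul, add_zero] at h2
  have hc1 : (c : F) = 1 := by
    by_contra hc1
    apply hx0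
    have : ((c : F) - 1) • x = 0 := by rw [sub_smul, h2, one_smul, sub_self]
    rcases smul_eq_zero.mp this with h | h
    · exact absurd (sub_eq_zero.mp h) hc1
    · exact h
  have h3 := hτ x₁
  rw [hc, hc1, one_smul, Matrix.one_mulVec] at h3
  exact hx₁ (by simpa using h3.symm)

theorem not_le_subgroupNormalizer (hF : Fintype.card F = q ^ 2) (hn : 5 ≤ n) {r : ℕ}
    {R : Subgroup (GL (Fin n) F)} (hsymp : IsSymplecticTypeGroup r R)
    (hirr : ActsAbsolutelyIrreducibly (matrixSet R)) :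
    ¬ Cfsg.GU n F q ⊓ specialLinear (Fin n) F ≤ subgroupNormalizer R := by
  intro hle
  have : Nonempty (Fin n) := ⟨⟨0, by omega⟩⟩
  have hfin : Finite (GL (Fin n) F) := inferInstance
  obtain ⟨σ, hσq, hσ⟩ := exists_frob hF
  obtain ⟨v, c, hv, hc, x, hx⟩ := exists_T (n := n) hF (by omega)
  have hcomm := Cfsg.Agent.Lib.Helper97_AschC6.commutator_le_scalars hsymp hirr
  have hτ : ∀ x, ((T v c hv : GL (Fin n) F) : Matrix (Fin n) (Fin n) F) *ᵥ x = x + hermL q v c x • v :=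
    fun x => by rw [T_mulVec, hermL_apply]
  have h1 := commute_of_rankOne_normalizes hn hcomm hirr hτ (by rw [hermL_apply, hv, mul_zero])
    (hle (T_mem σ hσq hσ v c hv hc))
  have h2 := Cfsg.Agent.Lib.Helper97_AschC6.mem_scalars_of_commute hirr (T v c hv) h1
  exact rankOne_not_mem_scalars (by omega) hτ ⟨x, by rw [hermL_apply]; exact hx⟩ h2

/-! ### class 5: subfield groups -/

/-- the field computation behind the rank-one analysis -/
lemma rankOne_entries_mem (hn : 3 ≤ n) (F₀ : Subfield F) (w' φ' : Fin n → F)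
    (hsum : ∑ j, φ' j * w' j = 0) (hw : w' ≠ 0) (hφ : φ' ≠ 0) {μ : F} (hμ : μ ≠ 0)
    (hA : ∀ i j : Fin n, ∃ a ∈ F₀, (Pi.single j (1 : F) : Fin n → F) i + φ' j * w' i = μ * a) :
    ∀ i j, φ' j * w' i ∈ F₀ := by
  classical
  -- indices `j₀ ≠ k₀` with `w' j₀ ≠ 0`, `φ' k₀ ≠ 0`
  obtain ⟨j₀, k₀, hjk, hwj, hφk⟩ : ∃ j₀ k₀ : Fin n, j₀ ≠ k₀ ∧ w' j₀ ≠ 0 ∧ φ' k₀ ≠ 0 := by
    obtain ⟨a, ha⟩ := Function.ne_iff.mp hw
    obtain ⟨b, hb⟩ := Function.ne_iff.mp hφ
    by_cases hab : a = b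
    · subst hab
      by_contra hcon
      push Not at hcon
      have h1 : ∀ c, c ≠ a → φ' c * w' c = 0 := by
        intro c hc
        by_cases h : w' c = 0
        · rw [h, mul_zero]
        · have := hcon c a hc h
          exact absurd this hb
      rw [Finset.sum_eq_single a (fun c _ hc => h1 c hc) (fun h => absurd (Finset.mem_univ a) h)] at hsum
      rcases mul_eq_zero.mp hsum with h | h
      · exact hb h
      · exact ha h
    · exact ⟨a, b, hab, ha, hb⟩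
  obtain ⟨i, hij, hik⟩ : ∃ i : Fin n, i ≠ j₀ ∧ i ≠ k₀ := by
    by_contra hcon
    push Not at hcon
    have h1 : (Finset.univ : Finset (Fin n)) ⊆ {j₀, k₀} := by
      intro i _
      by_cases h : i = j₀
      · simp [h]
      · simp [hcon i h]
    have h2 := Finset.card_le_card h1
    have h3 : ({j₀, k₀} : Finset (Fin n)).card ≤ 2 := Finset.card_le_two
    rw [Finset.card_univ, Fintype.card_fin] at h2
    omega
  obtain ⟨a₁, ha₁, e₁⟩ := hA i k₀
  obtain ⟨a₂, ha₂, e₂⟩ := hA j₀ i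
  obtain ⟨a₃, ha₃, e₃⟩ := hA j₀ k₀
  obtain ⟨a₄, ha₄, e₄⟩ := hA i i
  rw [Pi.single_eq_of_ne hik, zero_add] at e₁
  rw [Pi.single_eq_of_ne (Ne.symm hij), zero_add] at e₂
  rw [Pi.single_eq_of_ne hjk, zero_add] at e₃
  rw [Pi.single_eq_same] at e₄
  have ha₃0 : a₃ ≠ 0 := by
    rintro rfl
    rw [mul_zero] at e₃
    rcases mul_eq_zero.mp e₃ with h | h
    · exact hφk h
    · exact hwj h
  have hprod : (φ' i * w' i) * (φ' k₀ * w' j₀) = (φ' k₀ * w' i) * (φ' i * w' j₀) := by ring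
  rw [e₁, e₂, e₃] at hprod
  have hNii : φ' i * w' i = μ * (a₁ * a₂ / a₃) := by
    have h1 : μ * a₃ ≠ 0 := mul_ne_zero hμ ha₃0
    field_simp
    rw [← mul_right_inj' hμ]
    linear_combination hprod
  have hμinv : μ⁻¹ ∈ F₀ := by
    have h1 : (1 : F) = μ * (a₄ - a₁ * a₂ / a₃) := by
      rw [mul_sub, ← e₄, ← hNii]; ring
    have h2 : μ⁻¹ = a₄ - a₁ * a₂ / a₃ := by
      have : μ⁻¹ = μ⁻¹ * 1 := (mul_one _).symm
      rw [this, h1, ← mul_assoc, inv_mul_cancel₀ hμ, one_mul]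
    rw [h2]
    exact F₀.sub_mem ha₄ (F₀.div_mem (F₀.mul_mem ha₁ ha₂) ha₃)
  have hμF : μ ∈ F₀ := by
    have := F₀.inv_mem hμinv
    rwa [inv_inv] at this
  intro i' j'
  obtain ⟨a, ha, e⟩ := hA i' j'
  have : φ' j' * w' i' = μ * a - (Pi.single j' (1 : F) : Fin n → F) i' := by rw [← e]; ring
  rw [this]
  refine F₀.sub_mem (F₀.mul_mem hμF ha) ?_
  by_cases h : i' = j'
  · subst h; rw [Pi.single_eq_same]; exact F₀.one_mem
  · rw [Pi.single_eq_of_ne h]; exact F₀.zero_mem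


lemma inv_mulVec_mulVec (P : GL (Fin n) F) (x : Fin n → F) :
    ((P⁻¹ : GL (Fin n) F) : Matrix (Fin n) (Fin n) F) *ᵥ ((P : Matrix (Fin n) (Fin n) F) *ᵥ x) = x := by
  rw [Matrix.mulVec_mulVec, ← Units.val_mul, inv_mul_cancel, Units.val_one, Matrix.one_mulVec]

lemma mulVec_inv_mulVec (P : GL (Fin n) F) (x : Fin n → F) :
    (P : Matrix (Fin n) (Fin n) F) *ᵥ (((P⁻¹ : GL (Fin n) F) : Matrix (Fin n) (Fin n) F) *ᵥ x) = x := by
  rw [Matrix.mulVec_mulVec, ← Units.val_mul, mul_inv_cancel, Units.val_one, Matrix.one_mulVec]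

/-- a rank-one unipotent element of a subfield group has a rational centre (`n ≥ 3`) -/
lemma exists_smul_mem_ratV_of_rankOne (hn : 3 ≤ n) (F₀ : Subfield F) (P : GL (Fin n) F)
    {τ : GL (Fin n) F} {φ : (Fin n → F) →ₗ[F] F} {w : Fin n → F}
    (hτ : ∀ x, (τ : Matrix (Fin n) (Fin n) F) *ᵥ x = x + φ x • w) (hφw : φ w = 0)
    (hne : ∃ x, φ x • w ≠ 0) (hmem : τ ∈ subfieldSubgroup F₀ P) :
    ∃ a : F, a ≠ 0 ∧ a • w ∈ ratV F₀ (P : Matrix (Fin n) (Fin n) F) := by
  classical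
  obtain ⟨μ, hμ0, hμ⟩ := (mem_subfieldSubgroup_iff F₀ P τ).mp hmem
  obtain ⟨x₁, hx₁⟩ := hne
  have hφx₁ : φ x₁ ≠ 0 := fun h => hx₁ (by rw [h, zero_smul])
  have hw0 : w ≠ 0 := fun h => hx₁ (by rw [h, smul_zero])
  set w' : Fin n → F := ((P⁻¹ : GL (Fin n) F) : Matrix (Fin n) (Fin n) F) *ᵥ w with hw'
  let ψ : (Fin n → F) →ₗ[F] F := φ ∘ₗ Matrix.toLin' (P : Matrix (Fin n) (Fin n) F)
  have hψ : ∀ u, ψ u = φ ((P : Matrix (Fin n) (Fin n) F) *ᵥ u) := fun u => by
    simp [ψ, Matrix.toLin'_apply]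
  set φ' : Fin n → F := fun j => ψ (Pi.single j 1) with hφ'
  have hψsum : ∀ u : Fin n → F, ψ u = ∑ j, φ' j * u j := by
    intro u
    rw [LinearMap.pi_apply_eq_sum_univ ψ u]
    refine Finset.sum_congr rfl fun j _ => ?_
    rw [smul_eq_mul, mul_comm, hφ']
    congr 2
    ext k
    simp [Pi.single_apply, eq_comm]
  have hPw' : (P : Matrix (Fin n) (Fin n) F) *ᵥ w' = w := mulVec_inv_mulVec P w
  have hsum : ∑ j, φ' j * w' j = 0 := by
    rw [← hψsum, hψ, hPw', hφw]
  have hw'0 : w' ≠ 0 := by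
    intro h
    apply hw0
    rw [← hPw', h, Matrix.mulVec_zero]
  have hφ'0 : φ' ≠ 0 := by
    intro h
    apply hφx₁
    have : x₁ = (P : Matrix (Fin n) (Fin n) F) *ᵥ
        (((P⁻¹ : GL (Fin n) F) : Matrix (Fin n) (Fin n) F) *ᵥ x₁) := (mulVec_inv_mulVec P x₁).symm
    rw [this, ← hψ, hψsum]
    simp [h]
  have hA : ∀ i j : Fin n, ∃ a ∈ F₀,
      (Pi.single j (1 : F) : Fin n → F) i + φ' j * w' i = μ * a := by
    intro i j
    have hrat : (P : Matrix (Fin n) (Fin n) F) *ᵥ (Pi.single j (1 : F)) ∈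
        ratV F₀ (P : Matrix (Fin n) (Fin n) F) := by
      refine ⟨Pi.single j 1, fun k => ?_, rfl⟩
      by_cases hk : k = j
      · subst hk; rw [Pi.single_eq_same]; exact F₀.one_mem
      · rw [Pi.single_eq_of_ne hk]; exact F₀.zero_mem
    obtain ⟨_, ⟨u', hu', rfl⟩, hw₁⟩ := hμ _ hrat
    rw [hτ] at hw₁
    have h1 := congrArg (fun y => ((P⁻¹ : GL (Fin n) F) : Matrix (Fin n) (Fin n) F) *ᵥ y) hw₁
    simp only [Matrix.mulVec_add, Matrix.mulVec_smul, inv_mulVec_mulVec] at h1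
    have h2 := congrFun h1 i
    simp only [Pi.add_apply, Pi.smul_apply, smul_eq_mul] at h2
    refine ⟨u' i, hu' i, ?_⟩
    rw [← h2]
    show (Pi.single j (1 : F) : Fin n → F) i + ψ (Pi.single j 1) * w' i = _
    rw [hψ]
  have key := rankOne_entries_mem hn F₀ w' φ' hsum hw'0 hφ'0 hμ0 hA
  obtain ⟨k, hk⟩ := Function.ne_iff.mp hφ'0
  refine ⟨φ' k, hk, φ' k • w', fun i => ?_, ?_⟩
  · rw [Pi.smul_apply, smul_eq_mul]
    exact key i k
  · rw [Matrix.mulVec_smul, hPw']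


/-- on a line through two independent rational points, the rational points have rational parameter -/
lemma mem_subfield_of_smul_add_mem (F₀ : Subfield F) (P : GL (Fin n) F) {a b : Fin n → F}
    (ha : a ∈ ratV F₀ (P : Matrix (Fin n) (Fin n) F)) (hb : b ∈ ratV F₀ (P : Matrix (Fin n) (Fin n) F))
    (hind : ∀ s t : F, s • a + t • b = 0 → s = 0 ∧ t = 0) {l γ : F} (hγ : γ ≠ 0)
    (h : γ • (a + l • b) ∈ ratV F₀ (P : Matrix (Fin n) (Fin n) F)) : l ∈ F₀ := by
  obtain ⟨a', ha', rfl⟩ := ha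
  obtain ⟨b', hb', rfl⟩ := hb
  obtain ⟨u, hu, hu'⟩ := h
  have hE : γ • (a' + l • b') = u := by
    have := congrArg (fun y => ((P⁻¹ : GL (Fin n) F) : Matrix (Fin n) (Fin n) F) *ᵥ y) hu'
    simp only [Matrix.mulVec_add, Matrix.mulVec_smul, inv_mulVec_mulVec] at this
    exact this
  have hind' : ∀ s t : F, s • a' + t • b' = 0 → s = 0 ∧ t = 0 := by
    intro s t hst
    apply hind
    rw [← Matrix.mulVec_smul, ← Matrix.mulVec_smul, ← Matrix.mulVec_add, hst, Matrix.mulVec_zero]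
  have hb'0 : b' ≠ 0 := by
    intro h0
    have := hind' 0 1 (by rw [h0]; simp)
    exact one_ne_zero this.2
  obtain ⟨i, hi⟩ := Function.ne_iff.mp hb'0
  have hy0 : b' i • a' + (-(a' i)) • b' ≠ 0 := by
    intro h0
    exact hi (hind' _ _ h0).1
  obtain ⟨j, hj⟩ := Function.ne_iff.mp hy0
  simp only [Pi.add_apply, Pi.smul_apply, smul_eq_mul, Pi.zero_apply] at hj
  have hui := congrFun hE i
  have huj := congrFun hE j
  simp only [Pi.add_apply, Pi.smul_apply, smul_eq_mul] at hui huj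
  have hγeq : γ * (b' i * a' j + -(a' i) * b' j) = u j * b' i - u i * b' j := by
    rw [← hui, ← huj]; ring
  have hyF : b' i * a' j + -(a' i) * b' j ∈ F₀ :=
    F₀.add_mem (F₀.mul_mem (hb' i) (ha' j)) (F₀.mul_mem (F₀.neg_mem (ha' i)) (hb' j))
  have hγF : γ ∈ F₀ := by
    have : γ = (u j * b' i - u i * b' j) / (b' i * a' j + -(a' i) * b' j) := by
      rw [← hγeq, mul_div_assoc, div_self hj, mul_one]
    rw [this]
    exact F₀.div_mem (F₀.sub_mem (F₀.mul_mem (hu j) (hb' i)) (F₀.mul_mem (hu i) (hb' j))) hyF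
  have hi' : b' i ≠ 0 := hi
  have : l = (u i / γ - a' i) / b' i := by
    rw [← hui]
    field_simp
    ring
  rw [this]
  exact F₀.div_mem (F₀.sub_mem (F₀.div_mem (hu i) hγF) (ha' i)) (hb' i)


lemma hermForm_single_single (hq : q ≠ 0) (i j : Fin n) :
    Cfsg.hermForm n F q (Pi.single i 1) (Pi.single j 1) = if i = j then 1 else 0 := by
  classical
  simp only [Cfsg.hermForm]
  rw [Finset.sum_eq_single i]
  · by_cases h : i = j
    · subst h; simp
    · simp [h, hq]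
  · intro k _ hk
    rw [Pi.single_eq_of_ne hk, zero_mul]
  · intro h
    exact absurd (Finset.mem_univ i) h

theorem not_le_subfieldSubgroup (hF : Fintype.card F = q ^ 2) (hn : 4 ≤ n) (F₀ : Subfield F)
    (hF₀ : F₀ ≠ ⊤) (P : GL (Fin n) F) :
    ¬ Cfsg.GU n F q ⊓ specialLinear (Fin n) F ≤ subfieldSubgroup F₀ P := by
  intro hle
  obtain ⟨σ, hσq, hσ⟩ := exists_frob hF
  have hq : q ≠ 0 := by
    rintro rfl
    have h1 : 1 < Fintype.card F := Fintype.one_lt_card
    rw [hF] at h1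
    simp at h1
  set B := hermB n σ hσq with hBdef
  have hB : IsHerm B := hermB_isHerm σ hσq hσ
  have hN : NondegOn B ⊤ := hermB_nondeg σ hσq
  obtain ⟨l₀, hl₀⟩ := norm_surj hσ (-1 : F) (by rw [map_neg, map_one])
  obtain ⟨c, hc0, hc⟩ := exists_skew hσ
  let i0 : Fin n := ⟨0, by omega⟩
  let i1 : Fin n := ⟨1, by omega⟩
  let i2 : Fin n := ⟨2, by omega⟩
  let i3 : Fin n := ⟨3, by omega⟩
  have h01 : i0 ≠ i1 := by simp [i0, i1, Fin.ext_iff]
  have h02 : i0 ≠ i2 := by simp [i0, i2, Fin.ext_iff]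
  have h03 : i0 ≠ i3 := by simp [i0, i3, Fin.ext_iff]
  have h12 : i1 ≠ i2 := by simp [i1, i2, Fin.ext_iff]
  have h13 : i1 ≠ i3 := by simp [i1, i3, Fin.ext_iff]
  have h23 : i2 ≠ i3 := by simp [i2, i3, Fin.ext_iff]
  have hBss : ∀ i j : Fin n, B (Pi.single i 1) (Pi.single j 1) = if i = j then 1 else 0 := by
    intro i j
    rw [hBdef, hermB_apply, hermForm_single_single hq]
  set a₁ : Fin n → F := Pi.single i0 1 + l₀ • Pi.single i1 1 with ha₁
  set b₁ : Fin n → F := Pi.single i2 1 + l₀ • Pi.single i3 1 with hb₁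
  have haa : B a₁ a₁ = 0 := by
    rw [ha₁]
    simp only [map_add, map_smul, map_smulₛₗ, LinearMap.add_apply, LinearMap.smul_apply, hBss,
      smul_eq_mul, if_true, if_neg h01, if_neg h01.symm, mul_zero, mul_one, add_zero, zero_add]
    rw [mul_comm, hl₀]; ring
  have hbb : B b₁ b₁ = 0 := by
    rw [hb₁]
    simp only [map_add, map_smul, map_smulₛₗ, LinearMap.add_apply, LinearMap.smul_apply, hBss,
      smul_eq_mul, if_true, if_neg h23, if_neg h23.symm, mul_zero, mul_one, add_zero, zero_add]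
    rw [mul_comm, hl₀]; ring
  have hab : B a₁ b₁ = 0 := by
    rw [ha₁, hb₁]
    simp only [map_add, map_smul, map_smulₛₗ, LinearMap.add_apply, LinearMap.smul_apply, hBss,
      smul_eq_mul, if_neg h02, if_neg h03, if_neg h12, if_neg h13, mul_zero, add_zero]
  have hba : B b₁ a₁ = 0 := herm_eq_zero hB hab
  have hTI : ∀ s t : F, B (s • a₁ + t • b₁) (s • a₁ + t • b₁) = 0 := by
    intro s t
    simp only [map_add, map_smul, map_smulₛₗ, LinearMap.add_apply, LinearMap.smul_apply, haa, hbb,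
      hab, hba, smul_eq_mul, mul_zero, add_zero]
  have hind : ∀ s t : F, s • a₁ + t • b₁ = 0 → s = 0 ∧ t = 0 := by
    intro s t hst
    have e0 := congrFun hst i0
    have e2 := congrFun hst i2
    simp only [ha₁, hb₁, Pi.add_apply, Pi.smul_apply, Pi.single_eq_same, Pi.single_eq_of_ne h01,
      Pi.single_eq_of_ne h02, Pi.single_eq_of_ne h03, Pi.single_eq_of_ne h02.symm,
      Pi.single_eq_of_ne h12.symm, Pi.single_eq_of_ne h23, smul_eq_mul, mul_zero, mul_one,
      add_zero, zero_add, Pi.zero_apply] at e0 e2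
    exact ⟨e0, e2⟩
  -- every nonzero isotropic vector is rational up to a scalar
  have hrat : ∀ v : Fin n → F, v ≠ 0 → B v v = 0 →
      ∃ a : F, a ≠ 0 ∧ a • v ∈ ratV F₀ (P : Matrix (Fin n) (Fin n) F) := by
    intro v hv0 hv
    have hv' : Cfsg.hermForm n F q v v = 0 := hv
    obtain ⟨y, -, hy⟩ := hN v trivial hv0
    have hy' : B y v ≠ 0 := herm_ne_zero hσ hB hy
    refine exists_smul_mem_ratV_of_rankOne (by omega) F₀ P (τ := T v c hv') (φ := hermL q v c)
      (fun x => by rw [T_mulVec, hermL_apply]) (by rw [hermL_apply, hv', mul_zero]) ⟨y, ?_⟩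
      (hle (T_mem σ hσq hσ v c hv' (by rw [← hσq, hc])))
    rw [hermL_apply]
    intro h
    rcases smul_eq_zero.mp h with h | h
    · rcases mul_eq_zero.mp h with h | h
      · exact hc0 h
      · exact hy' h
    · exact hv0 h
  have ha₁0 : a₁ ≠ 0 := by
    intro h
    have := hind 1 0 (by rw [h]; simp)
    exact one_ne_zero this.1
  have hb₁0 : b₁ ≠ 0 := by
    intro h
    have := hind 0 1 (by rw [h]; simp)
    exact one_ne_zero this.2
  obtain ⟨α, hα0, hα⟩ := hrat a₁ ha₁0 haa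
  obtain ⟨β, hβ0, hβ⟩ := hrat b₁ hb₁0 hbb
  have hind2 : ∀ s t : F, s • (α • a₁) + t • (β • b₁) = 0 → s = 0 ∧ t = 0 := by
    intro s t hst
    rw [smul_smul, smul_smul] at hst
    obtain ⟨h1, h2⟩ := hind _ _ hst
    exact ⟨(mul_eq_zero.mp h1).resolve_right hα0, (mul_eq_zero.mp h2).resolve_right hβ0⟩
  apply hF₀
  rw [eq_top_iff]
  intro l _
  have hv : α • a₁ + l • (β • b₁) = α • a₁ + (l * β) • b₁ := by rw [smul_smul]
  have hv0 : α • a₁ + l • (β • b₁) ≠ 0 := by
    intro h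
    have := hind2 1 l (by rw [one_smul]; exact h)
    exact one_ne_zero this.1
  obtain ⟨γ, hγ0, hγ⟩ := hrat _ hv0 (by rw [hv]; exact hTI _ _)
  exact mem_subfield_of_smul_add_mem F₀ P hα hβ hind2 hγ0 hγ


/-! ### arithmetic of the class data -/

lemma card_eq_of_symplecticType (hn : 1 ≤ n) {r : ℕ} {R : Subgroup (GL (Fin n) F)}
    (hsymp : IsSymplecticTypeGroup r R) (hirr : ActsAbsolutelyIrreducibly (matrixSet R)) :
    Nat.card R = Nat.card (Subgroup.center R) * n ^ 2 := by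
  have : Nonempty (Fin n) := ⟨⟨0, by omega⟩⟩
  have hfin : Finite (GL (Fin n) F) := inferInstance
  have hpk := Cfsg.Agent.Lib.Helper52_Asch_PK7.PK7 R
    (Cfsg.Agent.Lib.Helper97_AschC6.spanAlg_eq_top_of_absIrred hirr)
    (Cfsg.Agent.Lib.Helper97_AschC6.commutator_le_scalars hsymp hirr)
  rw [Cfsg.Agent.Lib.Helper97_AschC6.card_inf_scalars_eq_card_center hirr, Fintype.card_fin] at hpk
  exact hpk

/-- the dimension of a class-6 datum of the unitary case -/
lemma dim_eq_pow_of_class6 (hn : 1 ≤ n) {r k : ℕ} {R : Subgroup (GL (Fin n) F)}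
    (hsymp : IsSymplecticTypeGroup r R) (hirr : ActsAbsolutelyIrreducibly (matrixSet R))
    (hcase : (Odd r ∧ Nat.card (Subgroup.center R) = r ∧ 1 ≤ k ∧ Nat.card R = r ^ (1 + 2 * k)) ∨
      (r = 2 ∧ Nat.card (Subgroup.center R) = 4 ∧ Nat.card R = 2 ^ (2 + 2 * k))) :
    n = r ^ k := by
  have hcard := card_eq_of_symplecticType hn hsymp hirr
  have hr := hsymp.prime
  have key : n ^ 2 = r ^ (2 * k) → n = r ^ k := by
    intro hm
    rw [mul_comm, pow_mul] at hm
    exact Nat.pow_left_injective (n := 2) (by norm_num) hm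
  rcases hcase with ⟨-, hZ, -, hR⟩ | ⟨h2, hZ, hR⟩
  · apply key
    rw [hZ, hR, pow_add, pow_one] at hcard
    exact (Nat.eq_of_mul_eq_mul_left hr.pos hcard).symm
  · subst h2
    apply key
    rw [hZ, hR, pow_add] at hcard
    have : (2 : ℕ) ^ 2 = 4 := by norm_num
    rw [this] at hcard
    exact (Nat.eq_of_mul_eq_mul_left (by norm_num) hcard).symm

lemma not_totallySingular_top (hF : Fintype.card F = q ^ 2) (hn : 1 ≤ n) :
    ¬ IsTotallySingularFor (Cfsg.hermForm n F q) (⊤ : Submodule F (Fin n → F)) := by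
  intro h
  have hq : q ≠ 0 := by
    rintro rfl
    have h1 : 1 < Fintype.card F := Fintype.one_lt_card
    rw [hF] at h1
    simp at h1
  have := h (Pi.single ⟨0, by omega⟩ 1) trivial (Pi.single ⟨0, by omega⟩ 1) trivial
  rw [hermForm_single_single hq, if_pos rfl] at this
  exact one_ne_zero this

/-- the statement of the frozen S5663 for fixed `n`, `F`, `q` -/
def SUAschHyp (n : ℕ) (F : Type*) [Field F] [Fintype F] (q : ℕ) : Prop :=
  ∀ H : Subgroup (GL (Fin n) F), H ≤ Cfsg.GU n F q ⊓ specialLinear (Fin n) F →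
    H ⊔ (scalars (Fin n) F ⊓ (Cfsg.GU n F q ⊓ specialLinear (Fin n) F)) ≠
      Cfsg.GU n F q ⊓ specialLinear (Fin n) F →
    (∃ M : Subgroup (GL (Fin n) F), InUnitaryClass n F q M ∧ H ≤ M) ∨ InUnitaryResidualClass H

/-- maximal subgroups of `SU_n(q)`, `n ≥ 5` prime -/
theorem prime_cases (hF : Fintype.card F = q ^ 2) (hnp : n.Prime) (hn : 5 ≤ n)
    (hA : SUAschHyp n F q) (H : Subgroup (GL (Fin n) F))
    (hH : IsMaximalIn (Cfsg.GU n F q ⊓ specialLinear (Fin n) F) H) :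
    (∃ W : Submodule F (Fin n → F), W ≠ ⊥ ∧ IsTotallySingularFor (Cfsg.hermForm n F q) W ∧
      H = subspaceStabilizer W ⊓ (Cfsg.GU n F q ⊓ specialLinear (Fin n) F)) ∨
    (∃ W : Submodule F (Fin n → F), W ≠ ⊥ ∧ IsNondegenerateOn (Cfsg.hermForm n F q) W ∧
      2 * Module.finrank F W < n ∧
      H = subspaceStabilizer W ⊓ (Cfsg.GU n F q ⊓ specialLinear (Fin n) F)) ∨
    (∃ D : Fin n → Submodule F (Fin n → F), IsNondegenerateMDecomposition (Cfsg.hermForm n F q) 1 D ∧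
      H = decompositionStabilizer D ⊓ (Cfsg.GU n F q ⊓ specialLinear (Fin n) F)) ∨
    (∃ K : Subalgebra F (Matrix (Fin n) (Fin n) F), IsFieldSubalgebra n K ∧
      IsAdjointClosedFor (Cfsg.hermForm n F q) K ∧
      H = subalgebraNormalizer K ⊓ (Cfsg.GU n F q ⊓ specialLinear (Fin n) F)) ∨
    (∃ (F₀ : Subfield F) (r : ℕ) (P : GL (Fin n) F), r.Prime ∧ Odd r ∧
      Fintype.card F = Nat.card F₀ ^ r ∧ IsFormRationalStructure (Cfsg.hermForm n F q) F₀ 1 P ∧
      H = subfieldSubgroup F₀ P ⊓ (Cfsg.GU n F q ⊓ specialLinear (Fin n) F)) ∨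
    (Odd q ∧ ∃ (F₀ : Subfield F) (P : GL (Fin n) F), Fintype.card F = Nat.card F₀ ^ 2 ∧
      IsFormRationalStructure (Cfsg.hermForm n F q) F₀ 1 P ∧
      H = subfieldSubgroup F₀ P ⊓ (Cfsg.GU n F q ⊓ specialLinear (Fin n) F)) ∨
    (∃ (p e : ℕ) (R : Subgroup (GL (Fin n) F)), IsSymplecticTypeGroup n R ∧
      ActsAbsolutelyIrreducibly (matrixSet R) ∧ R ≤ similarityGroup (Cfsg.hermForm n F q) ∧ n ≠ p ∧
      IsMinimalFieldFor n p e F ∧ Nat.card R = n ^ 3 ∧ Nat.card (Subgroup.center R) = n ∧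
      H = subgroupNormalizer R ⊓ (Cfsg.GU n F q ⊓ specialLinear (Fin n) F)) ∨
    InUnitaryResidualClass H := by
  have hn3 : 3 ≤ n := by omega
  have hex : ¬ (n = 3 ∧ q = 2) := by omega
  rcases hA H hH.1.le (sup_scalars_ne hF hn3 hex hH) with ⟨M, hM, hHM⟩ | hres
  swap
  · exact Or.inr (Or.inr (Or.inr (Or.inr (Or.inr (Or.inr (Or.inr hres))))))
  have hodd : Odd n := hnp.odd_of_ne_two (by omega)
  rcases hM with hM | ⟨r, K, hr, hro, hK, hadj, rfl⟩ | ⟨n₁, n₂, e, P, f₁, f₂, h1, h2, -, -, -, rfl⟩ |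
    ⟨k, t, e, P, f₁, hk, ht, -, -, -, rfl⟩
  · rcases hM with ⟨W, hW0, hW, rfl⟩ | ⟨W, hW0, hW, hdim, rfl⟩ | ⟨t, k, D, hD, rfl⟩ |
      ⟨k, D, hk, -, -, rfl⟩ | ⟨F₀, r, P, hr, hro, hcard, hP, rfl⟩ | ⟨F₀, P, hqo, hcard, hP, rfl⟩ |
      ⟨F₀, P, ζ, heven, -, -, -, -, -, rfl⟩ | ⟨r, R, p, e, k, hsymp, hirr, hsim, hrp, hmin, hcase, rfl⟩
    · -- totally singular subspace
      refine Or.inl ⟨W, hW0, hW, eq_inf_of_le hH hHM (not_le_subspaceStabilizer hF hn3 W hW0 ?_)⟩
      rintro rfl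
      exact not_totallySingular_top hF (by omega) hW
    · -- nondegenerate subspace
      refine Or.inr (Or.inl ⟨W, hW0, hW, hdim, eq_inf_of_le hH hHM
        (not_le_subspaceStabilizer hF hn3 W hW0 ?_)⟩)
      rintro rfl
      rw [finrank_top, Module.finrank_fin_fun] at hdim
      omega
    · -- nondegenerate decomposition
      have htk : t * k = n := Cfsg.Agent.Lib.Helper98_Decomp.card_eq hD.decomp
      have ht2 := hD.decomp.two_le
      have htn : t = n := by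
        rcases (Nat.dvd_prime hnp).mp ⟨k, htk.symm⟩ with h | h
        · omega
        · exact h
      subst htn
      have hk1 : k = 1 := by
        have : t * k = t * 1 := by rw [htk, mul_one]
        exact Nat.eq_of_mul_eq_mul_left (by omega) this
      subst hk1
      exact Or.inr (Or.inr (Or.inl ⟨D, hD, eq_inf_of_le hH hHM
        (not_le_decompositionStabilizer hF hn3 hex hD.decomp)⟩))
    · -- totally singular pair: impossible
      exfalso
      rcases hodd with ⟨m, hm⟩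
      omega
    · -- subfield, odd degree
      exact Or.inr (Or.inr (Or.inr (Or.inr (Or.inl ⟨F₀, r, P, hr, hro, hcard, hP,
        eq_inf_of_le hH hHM (not_le_subfieldSubgroup hF (by omega) F₀
          (Cfsg.Agent.Lib.Helper30_AschMax.subfield_ne_top hr hcard) P)⟩))))
    · -- subfield, degree two
      exact Or.inr (Or.inr (Or.inr (Or.inr (Or.inr (Or.inl ⟨hqo, F₀, P, hcard, hP,
        eq_inf_of_le hH hHM (not_le_subfieldSubgroup hF (by omega) F₀
          (Cfsg.Agent.Lib.Helper30_AschMax.subfield_ne_top Nat.prime_two hcard) P)⟩)))))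
    · -- symplectic-type subfield: impossible
      exfalso
      rcases hodd with ⟨m, hm⟩
      rcases heven with ⟨m', hm'⟩
      omega
    · -- class 6
      have hdim : n = r ^ k := dim_eq_pow_of_class6 (by omega) hsymp hirr (by
        rcases hcase with h | ⟨h1, -, h3, h4⟩
        · exact Or.inl h
        · exact Or.inr ⟨h1, h3, h4⟩)
      obtain ⟨hrn, hk1⟩ := (Nat.Prime.pow_eq_iff hnp).mp hdim.symm
      subst hrn
      subst hk1
      rcases hcase with ⟨-, hZ, -, hR⟩ | ⟨h2, -⟩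
      · exact Or.inr (Or.inr (Or.inr (Or.inr (Or.inr (Or.inr (Or.inl ⟨p, e, R, hsymp, hirr, hsim,
          hrp, by rw [← hZ]; exact hmin, by rw [hR], hZ, eq_inf_of_le hH hHM
            (not_le_subgroupNormalizer hF hn hsymp hirr)⟩))))))
      · omega
  · -- field extension
    have hrn : r = n := by
      rcases (Nat.dvd_prime hnp).mp
        (Cfsg.Agent.Lib.Helper30_AschMax.dvd_of_isFieldSubalgebra (by omega) hK) with h | h
      · have := hr.two_le; omega
      · exact h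
    subst hrn
    exact Or.inr (Or.inr (Or.inr (Or.inl ⟨K, hK, hadj, eq_inf_of_le hH hHM
      (not_le_subalgebraNormalizer hF hn3 (by omega) hK)⟩)))
  · -- tensor product: impossible
    exfalso
    have hcard : n = n₁ * n₂ := by
      have := Fintype.card_congr e
      simpa using this
    rcases (Nat.dvd_prime hnp).mp ⟨n₂, hcard⟩ with h | h
    · omega
    · subst h
      have : n₁ * n₂ = n₁ * 1 := by rw [← hcard, mul_one]
      have := Nat.eq_of_mul_eq_mul_left (by omega) this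
      omega
  · -- tensor power: impossible
    exfalso
    have hcard : n = k ^ t := by
      have := Fintype.card_congr e
      simpa using this
    obtain ⟨-, ht1⟩ := (Nat.Prime.pow_eq_iff hnp).mp hcard.symm
    omega


/-- the minimal field of a class-6 datum when `|F| = q ^ 2` -/
lemma minimalField_sq {r p e : ℕ} (hr : r.Prime) (hrp : r ≠ p) (hmin : IsMinimalFieldFor r p e F)
    (hF : Fintype.card F = q ^ 2) :
    ∃ a : ℕ, 0 < a ∧ q = p ^ a ∧ e = 2 * a ∧ 2 * a ∣ r - 1 ∧ ((p : ZMod r) ^ (2 * a) = 1) ∧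
      ∀ d, 0 < d → d < 2 * a → (p : ZMod r) ^ d ≠ 1 := by
  obtain ⟨he, hdvd, h1, h2⟩ := Cfsg.Agent.Lib.Helper30_AschMax.minimalField_order hr hrp hmin
  obtain ⟨hp, -, hcard, -, -⟩ := hmin
  have hqe : q ^ 2 = p ^ e := by rw [← hF, hcard]
  have hqdvd : q ∣ p ^ e := ⟨q, by rw [← hqe, sq]⟩
  obtain ⟨a, -, rfl⟩ := (Nat.dvd_prime_pow hp).mp hqdvd
  have hea : e = 2 * a := by
    rw [← pow_mul] at hqe
    have := Nat.pow_right_injective hp.two_le hqe
    omega
  have ha : 0 < a := by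
    rcases Nat.eq_zero_or_pos a with h | h
    · subst h
      rw [pow_zero, one_pow] at hF
      have := Fintype.one_lt_card (α := F)
      omega
    · exact h
  subst hea
  exact ⟨a, ha, rfl, rfl, hdvd, h1, h2⟩

end Cfsg.Agent.Lib.Helper27_SUAschMax
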