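import Mathlib
import Cfsg.Prelude.Def_GeometricClasses
import Cfsg.Agent.Lib.Helper27_SUAschMax

set_option autoImplicit false
set_option linter.unusedSectionVars false

namespace Cfsg.Agent.Lib.Helper27_SUAschRows

open Matrix Cfsg.Geo Cfsg.Agent.Lib.Helper27_SUAschMax

variable {F : Type*} [Field F] [Fintype F] {q : ℕ}

/-- the similarity multiplier of an element of an `r`-subgroup of the similarity group of the
hermitian form is trivial when `r` does not divide `q - 1` -/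
lemma le_GU_of_isPGroup {n : ℕ} (hF : Fintype.card F = q ^ 2) (hn : 1 ≤ n) {r : ℕ} (hr : r.Prime)
    (hrq : ¬ r ∣ q - 1) {R : Subgroup (GL (Fin n) F)} (hR : IsPGroup r R)
    (hsim : R ≤ similarityGroup (Cfsg.hermForm n F q)) : R ≤ Cfsg.GU n F q := by
  intro g hg
  obtain ⟨c, hc⟩ := hsim hg
  have hq : q ≠ 0 := by
    rintro rfl
    have h1 : 1 < Fintype.card F := Fintype.one_lt_card
    rw [hF] at h1
    simp at h1
  set e₀ : Fin n → F := Pi.single ⟨0, by omega⟩ 1 with he₀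
  have he : Cfsg.hermForm n F q e₀ e₀ = 1 := by
    rw [he₀, hermForm_single_single hq, if_pos rfl]
  -- `c` is fixed by the involution
  have hcq : (c : F) ^ q = c := by
    have h1 := hc e₀ e₀
    rw [he, mul_one] at h1
    rw [← h1, Cfsg.Agent.Lib.Helper13_Herm.hermForm_pow_q n hF]
  have hcq1 : c ^ (q - 1) = 1 := by
    apply Units.ext
    rw [Units.val_pow_eq_pow_val, Units.val_one]
    have h3 : (c : F) ^ (q - 1) * (c : F) = (c : F) := by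
      rw [← pow_succ, Nat.sub_add_cancel (by omega), hcq]
    exact mul_right_cancel₀ c.ne_zero (by rw [h3, one_mul])
  -- powers
  have hpow : ∀ j : ℕ, ∀ u v, Cfsg.hermForm n F q (((g ^ j : GL (Fin n) F) : Matrix (Fin n) (Fin n) F) *ᵥ u)
      (((g ^ j : GL (Fin n) F) : Matrix (Fin n) (Fin n) F) *ᵥ v) = ((c ^ j : Fˣ) : F) * Cfsg.hermForm n F q u v := by
    intro j
    induction j with
    | zero => intro u v; simp
    | succ j ih =>
      intro u v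
      rw [pow_succ, Units.val_mul, ← Matrix.mulVec_mulVec, ← Matrix.mulVec_mulVec, ih, hc, pow_succ,
        Units.val_mul, mul_assoc]
  obtain ⟨m, hm⟩ := hR ⟨g, hg⟩
  have hgm : g ^ r ^ m = 1 := by
    have := congrArg (Subtype.val : R → GL (Fin n) F) hm
    simpa using this
  have hcm : c ^ r ^ m = 1 := by
    have h1 := hpow (r ^ m) e₀ e₀
    rw [hgm, Units.val_one, Matrix.one_mulVec, he, mul_one] at h1
    apply Units.ext
    rw [Units.val_one]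
    exact h1.symm
  have hc1 : c = 1 := by
    have h1 : orderOf c ∣ r ^ m := orderOf_dvd_of_pow_eq_one hcm
    have h2 : orderOf c ∣ q - 1 := orderOf_dvd_of_pow_eq_one hcq1
    have hcop : Nat.Coprime (r ^ m) (q - 1) :=
      Nat.Coprime.pow_left m ((Nat.Prime.coprime_iff_not_dvd hr).mpr hrq)
    exact orderOf_eq_one_iff.mp (Nat.eq_one_of_dvd_coprimes hcop h1 h2)
  intro u v
  have := hc u v
  rw [hc1, Units.val_one, one_mul] at this
  exact this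

theorem su7_cases (hF : Fintype.card F = q ^ 2) (hA : SUAschHyp 7 F q)
    (H : Subgroup (Matrix.GeneralLinearGroup (Fin 7) F)) (hH : Cfsg.Geo.IsMaximalIn (Cfsg.GU 7 F q ⊓ Cfsg.Geo.specialLinear (Fin 7) F) H) :
    (∃ W : Submodule F (Fin 7 → F), W ≠ ⊥ ∧ Cfsg.Geo.IsTotallySingularFor (Cfsg.hermForm 7 F q) W ∧ H = Cfsg.Geo.subspaceStabilizer W ⊓ (Cfsg.GU 7 F q ⊓ Cfsg.Geo.specialLinear (Fin 7) F)) ∨
    (∃ W : Submodule F (Fin 7 → F), W ≠ ⊥ ∧ Cfsg.Geo.IsNondegenerateOn (Cfsg.hermForm 7 F q) W ∧ 2 * Module.finrank F W < 7 ∧ H = Cfsg.Geo.subspaceStabilizer W ⊓ (Cfsg.GU 7 F q ⊓ Cfsg.Geo.specialLinear (Fin 7) F)) ∨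
    (∃ D : Fin 7 → Submodule F (Fin 7 → F), Cfsg.Geo.IsNondegenerateMDecomposition (Cfsg.hermForm 7 F q) 1 D ∧ H = Cfsg.Geo.decompositionStabilizer D ⊓ (Cfsg.GU 7 F q ⊓ Cfsg.Geo.specialLinear (Fin 7) F)) ∨
    (∃ K : Subalgebra F (Matrix (Fin 7) (Fin 7) F), Cfsg.Geo.IsFieldSubalgebra 7 K ∧ Cfsg.Geo.IsAdjointClosedFor (Cfsg.hermForm 7 F q) K ∧ H = Cfsg.Geo.subalgebraNormalizer K ⊓ (Cfsg.GU 7 F q ⊓ Cfsg.Geo.specialLinear (Fin 7) F)) ∨
    (∃ (F₀ : Subfield F) (r : ℕ) (P : Matrix.GeneralLinearGroup (Fin 7) F), r.Prime ∧ Odd r ∧ Fintype.card F = Nat.card F₀ ^ r ∧ Cfsg.Geo.IsFormRationalStructure (Cfsg.hermForm 7 F q) F₀ 1 P ∧ H = Cfsg.Geo.subfieldSubgroup F₀ P ⊓ (Cfsg.GU 7 F q ⊓ Cfsg.Geo.specialLinear (Fin 7) F)) ∨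
    (Odd q ∧ ∃ (F₀ : Subfield F) (P : Matrix.GeneralLinearGroup (Fin 7) F), Fintype.card F = Nat.card F₀ ^ 2 ∧ Cfsg.Geo.IsFormRationalStructure (Cfsg.hermForm 7 F q) F₀ 1 P ∧ H = Cfsg.Geo.subfieldSubgroup F₀ P ⊓ (Cfsg.GU 7 F q ⊓ Cfsg.Geo.specialLinear (Fin 7) F)) ∨
    (∃ (p : ℕ) (R : Subgroup (Matrix.GeneralLinearGroup (Fin 7) F)), p.Prime ∧ CharP F p ∧ ((q = p ∧ p % 7 = 6) ∨ (q = p ^ 3 ∧ (p % 7 = 3 ∨ p % 7 = 5))) ∧ Cfsg.Geo.IsSymplecticTypeGroup 7 R ∧ Cfsg.Geo.ActsAbsolutelyIrreducibly (Cfsg.Geo.matrixSet R) ∧ R ≤ Cfsg.Geo.similarityGroup (Cfsg.hermForm 7 F q) ∧ Nat.card R = 343 ∧ Nat.card (Subgroup.center R) = 7 ∧ H = Cfsg.Geo.subgroupNormalizer R ⊓ (Cfsg.GU 7 F q ⊓ Cfsg.Geo.specialLinear (Fin 7) F)) ∨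
    Cfsg.Geo.InUnitaryResidualClass H := by
  rcases prime_cases hF (by norm_num) (by norm_num) hA H hH with h | h | h | h | h | h | h | h
  · exact Or.inl h
  · exact Or.inr (Or.inl h)
  · exact Or.inr (Or.inr (Or.inl h))
  · exact Or.inr (Or.inr (Or.inr (Or.inl h)))
  · exact Or.inr (Or.inr (Or.inr (Or.inr (Or.inl h))))
  · exact Or.inr (Or.inr (Or.inr (Or.inr (Or.inr (Or.inl h)))))
  · obtain ⟨p, e, R, hsymp, hirr, hsim, hne, hmin, hcard, hZ, hHeq⟩ := h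
    refine Or.inr (Or.inr (Or.inr (Or.inr (Or.inr (Or.inr (Or.inl
      ⟨p, R, hmin.1, hmin.2.1, ?_, hsymp, hirr, hsim, by rw [hcard]; norm_num, hZ, hHeq⟩))))))
    obtain ⟨a, ha, hq, -, hdvd, h1, h2⟩ := minimalField_sq (by norm_num) hne hmin hF
    have ha6 : 2 * a ∣ 6 := hdvd
    have hale : 2 * a ≤ 6 := Nat.le_of_dvd (by norm_num) ha6
    have ha13 : a = 1 ∨ a = 3 := by
      have ha3 : a ≤ 3 := by omega
      interval_cases a
      · left; rfl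
      · exfalso; revert ha6; decide
      · right; rfl
    rcases ha13 with rfl | rfl
    · left
      refine ⟨by rw [hq, pow_one], ?_⟩
      have hne1 : (p : ZMod 7) ^ 1 ≠ 1 := h2 1 (by norm_num) (by norm_num)
      have key : ∀ x : ZMod 7, x ^ 2 = 1 → x ^ 1 ≠ 1 → x = 6 := by decide
      have h3 : ((p : ℕ) : ZMod 7) = ((6 : ℕ) : ZMod 7) := by simpa using key _ h1 hne1
      exact (ZMod.natCast_eq_natCast_iff' p 6 7).mp h3
    · right
      refine ⟨hq, ?_⟩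
      have hne1 : (p : ZMod 7) ^ 1 ≠ 1 := h2 1 (by norm_num) (by norm_num)
      have hne2 : (p : ZMod 7) ^ 2 ≠ 1 := h2 2 (by norm_num) (by norm_num)
      have hne3 : (p : ZMod 7) ^ 3 ≠ 1 := h2 3 (by norm_num) (by norm_num)
      have key : ∀ x : ZMod 7, x ^ 6 = 1 → x ^ 1 ≠ 1 → x ^ 2 ≠ 1 → x ^ 3 ≠ 1 → x = 3 ∨ x = 5 := by decide
      rcases key _ h1 hne1 hne2 hne3 with h | h
      · left
        have h3 : ((p : ℕ) : ZMod 7) = ((3 : ℕ) : ZMod 7) := by simpa using h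
        exact (ZMod.natCast_eq_natCast_iff' p 3 7).mp h3
      · right
        have h3 : ((p : ℕ) : ZMod 7) = ((5 : ℕ) : ZMod 7) := by simpa using h
        exact (ZMod.natCast_eq_natCast_iff' p 5 7).mp h3
  · exact Or.inr (Or.inr (Or.inr (Or.inr (Or.inr (Or.inr (Or.inr h))))))


theorem su11_cases (hF : Fintype.card F = q ^ 2) (hA : SUAschHyp 11 F q)
    (H : Subgroup (Matrix.GeneralLinearGroup (Fin 11) F)) (hH : Cfsg.Geo.IsMaximalIn (Cfsg.GU 11 F q ⊓ Cfsg.Geo.specialLinear (Fin 11) F) H) :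
    (∃ W : Submodule F (Fin 11 → F), W ≠ ⊥ ∧ Cfsg.Geo.IsTotallySingularFor (Cfsg.hermForm 11 F q) W ∧ H = Cfsg.Geo.subspaceStabilizer W ⊓ (Cfsg.GU 11 F q ⊓ Cfsg.Geo.specialLinear (Fin 11) F)) ∨
    (∃ W : Submodule F (Fin 11 → F), W ≠ ⊥ ∧ Cfsg.Geo.IsNondegenerateOn (Cfsg.hermForm 11 F q) W ∧ 2 * Module.finrank F W < 11 ∧ H = Cfsg.Geo.subspaceStabilizer W ⊓ (Cfsg.GU 11 F q ⊓ Cfsg.Geo.specialLinear (Fin 11) F)) ∨
    (∃ D : Fin 11 → Submodule F (Fin 11 → F), Cfsg.Geo.IsNondegenerateMDecomposition (Cfsg.hermForm 11 F q) 1 D ∧ H = Cfsg.Geo.decompositionStabilizer D ⊓ (Cfsg.GU 11 F q ⊓ Cfsg.Geo.specialLinear (Fin 11) F)) ∨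
    (∃ K : Subalgebra F (Matrix (Fin 11) (Fin 11) F), Cfsg.Geo.IsFieldSubalgebra 11 K ∧ Cfsg.Geo.IsAdjointClosedFor (Cfsg.hermForm 11 F q) K ∧ H = Cfsg.Geo.subalgebraNormalizer K ⊓ (Cfsg.GU 11 F q ⊓ Cfsg.Geo.specialLinear (Fin 11) F)) ∨
    (∃ (F₀ : Subfield F) (r : ℕ) (P : Matrix.GeneralLinearGroup (Fin 11) F), r.Prime ∧ Odd r ∧ Fintype.card F = Nat.card F₀ ^ r ∧ Cfsg.Geo.IsFormRationalStructure (Cfsg.hermForm 11 F q) F₀ 1 P ∧ H = Cfsg.Geo.subfieldSubgroup F₀ P ⊓ (Cfsg.GU 11 F q ⊓ Cfsg.Geo.specialLinear (Fin 11) F)) ∨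
    (Odd q ∧ ∃ (F₀ : Subfield F) (P : Matrix.GeneralLinearGroup (Fin 11) F), Fintype.card F = Nat.card F₀ ^ 2 ∧ Cfsg.Geo.IsFormRationalStructure (Cfsg.hermForm 11 F q) F₀ 1 P ∧ H = Cfsg.Geo.subfieldSubgroup F₀ P ⊓ (Cfsg.GU 11 F q ⊓ Cfsg.Geo.specialLinear (Fin 11) F)) ∨
    (∃ (p : ℕ) (R : Subgroup (Matrix.GeneralLinearGroup (Fin 11) F)), p.Prime ∧ CharP F p ∧ ((q = p ∧ p % 11 = 10) ∨ (q = p ^ 5 ∧ (p % 11 = 2 ∨ p % 11 = 6 ∨ p % 11 = 7 ∨ p % 11 = 8))) ∧ Cfsg.Geo.IsSymplecticTypeGroup 11 R ∧ Cfsg.Geo.ActsAbsolutelyIrreducibly (Cfsg.Geo.matrixSet R) ∧ R ≤ Cfsg.GU 11 F q ∧ Nat.card R = 1331 ∧ Nat.card (Subgroup.center R) = 11 ∧ H = Cfsg.Geo.subgroupNormalizer R ⊓ (Cfsg.GU 11 F q ⊓ Cfsg.Geo.specialLinear (Fin 11) F)) ∨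
    Cfsg.Geo.InUnitaryResidualClass H := by
  rcases prime_cases hF (by norm_num) (by norm_num) hA H hH with h | h | h | h | h | h | h | h
  · exact Or.inl h
  · exact Or.inr (Or.inl h)
  · exact Or.inr (Or.inr (Or.inl h))
  · exact Or.inr (Or.inr (Or.inr (Or.inl h)))
  · exact Or.inr (Or.inr (Or.inr (Or.inr (Or.inl h))))
  · exact Or.inr (Or.inr (Or.inr (Or.inr (Or.inr (Or.inl h)))))
  · obtain ⟨p, e, R, hsymp, hirr, hsim, hne, hmin, hcard, hZ, hHeq⟩ := h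
    obtain ⟨a, ha, hq, -, hdvd, h1, h2⟩ := minimalField_sq (by norm_num) hne hmin hF
    have ha10 : 2 * a ∣ 10 := hdvd
    have hale : 2 * a ≤ 10 := Nat.le_of_dvd (by norm_num) ha10
    have ha15 : a = 1 ∨ a = 5 := by
      have ha5 : a ≤ 5 := by omega
      interval_cases a
      · left; rfl
      · exfalso; revert ha10; decide
      · exfalso; revert ha10; decide
      · exfalso; revert ha10; decide
      · right; rfl
    have hp1 : 1 ≤ p := hmin.1.one_lt.le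
    -- in both cases `q ≡ -1 mod 11`
    have hcong : ((q = p ∧ p % 11 = 10) ∨ (q = p ^ 5 ∧ (p % 11 = 2 ∨ p % 11 = 6 ∨ p % 11 = 7 ∨ p % 11 = 8))) := by
      rcases ha15 with rfl | rfl
      · left
        refine ⟨by rw [hq, pow_one], ?_⟩
        have hne1 : (p : ZMod 11) ^ 1 ≠ 1 := h2 1 (by norm_num) (by norm_num)
        have key : ∀ x : ZMod 11, x ^ 2 = 1 → x ^ 1 ≠ 1 → x = 10 := by decide
        have h3 : ((p : ℕ) : ZMod 11) = ((10 : ℕ) : ZMod 11) := by simpa using key _ h1 hne1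
        exact (ZMod.natCast_eq_natCast_iff' p 10 11).mp h3
      · right
        refine ⟨hq, ?_⟩
        have hne1 : (p : ZMod 11) ^ 1 ≠ 1 := h2 1 (by norm_num) (by norm_num)
        have hne2 : (p : ZMod 11) ^ 2 ≠ 1 := h2 2 (by norm_num) (by norm_num)
        have hne5 : (p : ZMod 11) ^ 5 ≠ 1 := h2 5 (by norm_num) (by norm_num)
        have key : ∀ x : ZMod 11, x ^ 10 = 1 → x ^ 1 ≠ 1 → x ^ 2 ≠ 1 → x ^ 5 ≠ 1 →
            x = 2 ∨ x = 6 ∨ x = 7 ∨ x = 8 := by decide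
        rcases key _ h1 hne1 hne2 hne5 with h | h | h | h
        · left
          have h3 : ((p : ℕ) : ZMod 11) = ((2 : ℕ) : ZMod 11) := by simpa using h
          exact (ZMod.natCast_eq_natCast_iff' p 2 11).mp h3
        · right; left
          have h3 : ((p : ℕ) : ZMod 11) = ((6 : ℕ) : ZMod 11) := by simpa using h
          exact (ZMod.natCast_eq_natCast_iff' p 6 11).mp h3
        · right; right; left
          have h3 : ((p : ℕ) : ZMod 11) = ((7 : ℕ) : ZMod 11) := by simpa using h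
          exact (ZMod.natCast_eq_natCast_iff' p 7 11).mp h3
        · right; right; right
          have h3 : ((p : ℕ) : ZMod 11) = ((8 : ℕ) : ZMod 11) := by simpa using h
          exact (ZMod.natCast_eq_natCast_iff' p 8 11).mp h3
    have hq10 : q % 11 = 10 := by
      rcases hcong with ⟨rfl, h⟩ | ⟨rfl, h⟩
      · exact h
      · rw [Nat.pow_mod]
        rcases h with h | h | h | h <;> rw [h]
    have hq1 : 1 ≤ q := by
      rcases Nat.eq_zero_or_pos q with h | h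
      · rw [h] at hq10; omega
      · exact h
    have hrq : ¬ 11 ∣ q - 1 := by omega
    refine Or.inr (Or.inr (Or.inr (Or.inr (Or.inr (Or.inr (Or.inl
      ⟨p, R, hmin.1, hmin.2.1, hcong, hsymp, hirr,
        le_GU_of_isPGroup hF (by norm_num) (by norm_num) hrq hsymp.pGroup hsim,
        by rw [hcard]; norm_num, hZ, hHeq⟩))))))
  · exact Or.inr (Or.inr (Or.inr (Or.inr (Or.inr (Or.inr (Or.inr h))))))

end Cfsg.Agent.Lib.Helper27_SUAschRows
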