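import Mathlib
import Cfsg.Prelude.Def_GeometricClasses
import Cfsg.Prelude.Def_LieClassical
import Cfsg.Agent.Lib.Helper39_QSDefs

/-!
helper32: package SUG-G3 of helper39's market (unitary / symplectic / orthogonal glue rows):
a `QS` subgroup `N ≤ GL(ι, F)` of order larger than `|scalars| * t!` is contained in no stabilizer of a
decomposition into `t` subspaces (order argument: the subgroup of `N` fixing every member of the decomposition
is `N`-normalized, hence scalar, and `N` modulo it embeds in the permutations of the `t` members).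
-/

set_option autoImplicit false

namespace Cfsg.Agent.Lib.Helper32_SUG_G3

open Matrix Cfsg.Geo Cfsg.Agent.Lib.Helper39_QSDefs

variable {ι : Type} [Fintype ι] [DecidableEq ι] {F : Type*} [Field F]

lemma map_mul_eq (a b : GL ι F) (W : Submodule F (ι → F)) :
    W.map (Matrix.toLin' ((a * b : GL ι F) : Matrix ι ι F)) =
      (W.map (Matrix.toLin' (b : Matrix ι ι F))).map (Matrix.toLin' (a : Matrix ι ι F)) := by
  rw [Units.val_mul, Matrix.toLin'_mul, Submodule.map_comp]

lemma map_inv_map (g : GL ι F) (W : Submodule F (ι → F)) :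
    (W.map (Matrix.toLin' (g : Matrix ι ι F))).map (Matrix.toLin' ((g⁻¹ : GL ι F) : Matrix ι ι F)) = W := by
  rw [← map_mul_eq, inv_mul_cancel, Units.val_one, Matrix.toLin'_one, Submodule.map_id]

/-- the elements of `N` fixing every member of the family `D` -/
def fixer (N : Subgroup (GL ι F)) {t : ℕ} (D : Fin t → Submodule F (ι → F)) : Subgroup (GL ι F) where
  carrier := {g | g ∈ N ∧ ∀ i, (D i).map (Matrix.toLin' (g : Matrix ι ι F)) = D i}
  mul_mem' {a b} ha hb := ⟨N.mul_mem ha.1 hb.1, fun i => by rw [map_mul_eq, hb.2, ha.2]⟩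
  one_mem' := ⟨N.one_mem, fun i => by simp⟩
  inv_mem' {a} ha := ⟨N.inv_mem ha.1, fun i => by
    have h := map_inv_map a (D i)
    rwa [ha.2] at h⟩

lemma mem_fixer {N : Subgroup (GL ι F)} {t : ℕ} {D : Fin t → Submodule F (ι → F)} {g : GL ι F} :
    g ∈ fixer N D ↔ g ∈ N ∧ ∀ i, (D i).map (Matrix.toLin' (g : Matrix ι ι F)) = D i := Iff.rfl

lemma fixer_le (N : Subgroup (GL ι F)) {t : ℕ} (D : Fin t → Submodule F (ι → F)) : fixer N D ≤ N :=
  fun _ hg => hg.1

/-- two elements inducing the same permutation differ by an element of the fixer -/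
lemma inv_mul_mem_fixer {N : Subgroup (GL ι F)} {t : ℕ} {D : Fin t → Submodule F (ι → F)}
    {s₀ s : GL ι F} (hs₀ : s₀ ∈ N) (hs : s ∈ N) (σ : Equiv.Perm (Fin t))
    (h₀ : ∀ i, (D i).map (Matrix.toLin' (s₀ : Matrix ι ι F)) = D (σ i))
    (h : ∀ i, (D i).map (Matrix.toLin' (s : Matrix ι ι F)) = D (σ i)) : s₀⁻¹ * s ∈ fixer N D := by
  refine ⟨N.mul_mem (N.inv_mem hs₀) hs, fun i => ?_⟩
  rw [map_mul_eq, h, ← h₀, map_inv_map]

/-- the fixer is normalized by every element of `N` stabilizing the decomposition -/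
lemma conj_mem_fixer {N : Subgroup (GL ι F)} {t : ℕ} {D : Fin t → Submodule F (ι → F)}
    {s x : GL ι F} (hs : s ∈ N) (hsD : s ∈ decompositionStabilizer D) (hx : x ∈ fixer N D) :
    s * x * s⁻¹ ∈ fixer N D := by
  obtain ⟨σ, hσ⟩ := hsD
  refine ⟨N.mul_mem (N.mul_mem hs hx.1) (N.inv_mem hs), fun i => ?_⟩
  have h1 : (D i).map (Matrix.toLin' ((s⁻¹ : GL ι F) : Matrix ι ι F)) = D (σ.symm i) := by
    have h2 := map_inv_map s (D (σ.symm i))
    rwa [hσ, Equiv.apply_symm_apply] at h2
  rw [map_mul_eq, map_mul_eq, h1, hx.2, hσ, Equiv.apply_symm_apply]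

/-- order bound: `|N| ≤ t! * |fixer|` -/
lemma card_le [Fintype F] {N : Subgroup (GL ι F)} {t : ℕ} {D : Fin t → Submodule F (ι → F)}
    (hle : N ≤ decompositionStabilizer D) : Nat.card N ≤ t.factorial * Nat.card (fixer N D) := by
  classical
  have hfin : Finite (GL ι F) := inferInstance
  -- a permutation for every element
  have hex : ∀ s : N, ∃ σ : Equiv.Perm (Fin t),
      ∀ i, (D i).map (Matrix.toLin' ((s : GL ι F) : Matrix ι ι F)) = D (σ i) := fun s => hle s.2
  choose σ hσ using hex
  -- a representative for every permutation in the image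
  let rep : Equiv.Perm (Fin t) → N := fun τ => if h : ∃ s : N, σ s = τ then Classical.choose h else 1
  have hrep : ∀ s : N, σ (rep (σ s)) = σ s := by
    intro s
    have h : ∃ s' : N, σ s' = σ s := ⟨s, rfl⟩
    simp only [rep, dif_pos h]
    exact Classical.choose_spec h
  have hmem : ∀ s : N, ((rep (σ s) : N) : GL ι F)⁻¹ * (s : GL ι F) ∈ fixer N D := by
    intro s
    refine inv_mul_mem_fixer (rep (σ s)).2 s.2 (σ s) ?_ (hσ s)
    intro i
    rw [hσ (rep (σ s)), hrep]
  let j : N → Equiv.Perm (Fin t) × fixer N D := fun s => (σ s, ⟨_, hmem s⟩)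
  have hj : Function.Injective j := by
    intro s s' h
    have h1 : σ s = σ s' := congrArg Prod.fst h
    have h2 : ((rep (σ s) : N) : GL ι F)⁻¹ * (s : GL ι F) = ((rep (σ s') : N) : GL ι F)⁻¹ * (s' : GL ι F) :=
      congrArg (fun p => ((p.2 : fixer N D) : GL ι F)) h
    rw [h1] at h2
    exact Subtype.ext (mul_left_cancel h2)
  have h3 := Nat.card_le_card_of_injective j hj
  rwa [Nat.card_prod, Nat.card_eq_fintype_card (α := Equiv.Perm (Fin t)), Fintype.card_perm,
    Fintype.card_fin] at h3

/-- G3 : decomposition stabilizers, by orders -/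
theorem G3 [Fintype F] {N : Subgroup (GL ι F)} (hN : QS N) {t m : ℕ} {D : Fin t → Submodule F (ι → F)}
    (hD : IsMDecomposition m D) (hcard : Nat.card (scalars ι F) * t.factorial < Nat.card N) :
    ¬ N ≤ decompositionStabilizer D := by
  intro hle
  have hfin : Finite (GL ι F) := inferInstance
  have ht := hD.two_le
  rcases hN.dich (fixer N D) (fixer_le N D) (fun s hs x hx => conj_mem_fixer hs (hle hs) hx) with h | h
  · -- the fixer is scalar: order bound
    have h1 := card_le (D := D) hle
    have h2 : Nat.card (fixer N D) ≤ Nat.card (scalars ι F) := Subgroup.card_le_of_le h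
    have h3 : Nat.card N ≤ Nat.card (scalars ι F) * t.factorial := by
      calc Nat.card N ≤ t.factorial * Nat.card (fixer N D) := h1
        _ ≤ t.factorial * Nat.card (scalars ι F) := Nat.mul_le_mul_left _ h2
        _ = Nat.card (scalars ι F) * t.factorial := Nat.mul_comm _ _
    omega
  · -- `N` fixes the first member, contradicting irreducibility
    let i₀ : Fin t := ⟨0, by omega⟩
    let i₁ : Fin t := ⟨1, by omega⟩
    have h01 : i₀ ≠ i₁ := by simp [i₀, i₁, Fin.ext_iff]
    have hne : ∀ i, D i ≠ ⊥ := by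
      intro i h0
      have := hD.finrank_eq i
      rw [h0, finrank_bot] at this
      have := hD.pos
      omega
    rcases hN.irr (D i₀) (fun s hs w hw => by
        have hs' : s ∈ fixer N D := by rw [h]; exact hs
        have h4 := hs'.2 i₀
        rw [← h4]
        rw [← Matrix.toLin'_apply]
        exact Submodule.mem_map_of_mem hw) with h0 | h0
    · exact hne i₀ h0
    · have hdis : Disjoint (D i₀) (D i₁) := hD.indep.pairwiseDisjoint h01
      rw [h0, top_disjoint] at hdis
      exact hne i₁ hdis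

end Cfsg.Agent.Lib.Helper32_SUG_G3
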