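import Mathlib
import Cfsg.Prelude.Def_GeometricClasses
import Cfsg.Prelude.Def_LieClassical
import Cfsg.Agent.Lib.Helper39_QSDefs

/-!
helper32: package SUG-G8 of helper39's market (unitary / symplectic / orthogonal glue rows):
a perfect subgroup `N ≤ GL(ι, F)` containing an element whose trace lies outside the subfield `F₀`
is contained in no subfield group `subfieldSubgroup F₀ P`.
-/

set_option autoImplicit false

namespace Cfsg.Agent.Lib.Helper32_SUG_G8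

open Matrix Cfsg.Geo Cfsg.Agent.Lib.Helper39_QSDefs
open scoped commutatorElement

variable {ι : Type} [Fintype ι] [DecidableEq ι] {F : Type*} [Field F]

/-- scalars are central in `GL` -/
lemma scalar_comm {z : GL ι F} (hz : z ∈ scalars ι F) (g : GL ι F) : z * g = g * z := by
  obtain ⟨c, hc⟩ := (mem_scalars_iff z).mp hz
  apply Units.ext
  rw [Units.val_mul, Units.val_mul, hc]
  simp

/-- in any group: if `S ≤ H ⊔ Z` with `Z` central then `⁅S, S⁆ ≤ H` -/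
lemma commutator_le_of_central {G : Type*} [Group G] {H Z S : Subgroup G}
    (hZ : ∀ z ∈ Z, ∀ g : G, z * g = g * z) (hS : S ≤ H ⊔ Z) : ⁅S, S⁆ ≤ H := by
  have hZn : Z.Normal := ⟨fun z hz g => by rw [← hZ z hz g, mul_inv_cancel_right]; exact hz⟩
  rw [Subgroup.commutator_le]
  intro a ha b hb
  obtain ⟨h₁, hh₁, z₁, hz₁, rfl⟩ := Subgroup.mem_sup_of_normal_right.mp (hS ha)
  obtain ⟨h₂, hh₂, z₂, hz₂, rfl⟩ := Subgroup.mem_sup_of_normal_right.mp (hS hb)
  have e : ⁅h₁ * z₁, h₂ * z₂⁆ = ⁅h₁, h₂⁆ := by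
    have c1 := hZ z₁ hz₁
    have c2 := hZ z₂ hz₂
    rw [commutatorElement_def, commutatorElement_def, _root_.mul_inv_rev, _root_.mul_inv_rev]
    calc h₁ * z₁ * (h₂ * z₂) * (z₁⁻¹ * h₁⁻¹) * (z₂⁻¹ * h₂⁻¹)
        = h₁ * (z₁ * (h₂ * z₂ * z₁⁻¹)) * h₁⁻¹ * (z₂⁻¹ * h₂⁻¹) := by group
      _ = h₁ * (h₂ * z₂) * h₁⁻¹ * (z₂⁻¹ * h₂⁻¹) := by
          rw [c1 (h₂ * z₂ * z₁⁻¹), inv_mul_cancel_right]
      _ = h₁ * h₂ * (z₂ * (h₁⁻¹ * z₂⁻¹)) * h₂⁻¹ := by group
      _ = h₁ * h₂ * h₁⁻¹ * h₂⁻¹ := by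
          rw [c2 (h₁⁻¹ * z₂⁻¹), inv_mul_cancel_right]
  rw [e, commutatorElement_def]
  exact H.mul_mem (H.mul_mem (H.mul_mem hh₁ hh₂) (H.inv_mem hh₁)) (H.inv_mem hh₂)

/-- a perfect subgroup of a subfield group lies in the conjugate of `GL(ι, F₀)` -/
theorem le_map_range_of_perfect {N : Subgroup (GL ι F)} (hperf : ⁅N, N⁆ = N) (F₀ : Subfield F) (P : GL ι F)
    (hle : N ≤ subfieldSubgroup F₀ P) :
    N ≤ ((Matrix.GeneralLinearGroup.map (F₀.subtype : F₀ →+* F)).range).map (MulAut.conj P).toMonoidHom := by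
  have h1 : ⁅N, N⁆ ≤ ⁅subfieldSubgroup F₀ P, subfieldSubgroup F₀ P⁆ := Subgroup.commutator_mono hle hle
  rw [hperf] at h1
  refine h1.trans ?_
  rw [subfieldSubgroup, ← Subgroup.map_commutator]
  exact Subgroup.map_mono
    (commutator_le_of_central (Z := scalars ι F) (fun z hz g => scalar_comm hz g) le_rfl)

/-- the trace of a conjugate of a matrix with entries in `F₀` lies in `F₀` -/
lemma trace_mem_of_mem_map (F₀ : Subfield F) (P : GL ι F) {g : GL ι F}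
    (hg : g ∈ ((Matrix.GeneralLinearGroup.map (F₀.subtype : F₀ →+* F)).range).map
      (MulAut.conj P).toMonoidHom) : Matrix.trace (g : Matrix ι ι F) ∈ F₀ := by
  obtain ⟨x, ⟨y, rfl⟩, rfl⟩ := Subgroup.mem_map.mp hg
  have h1 : (((MulAut.conj P).toMonoidHom (Matrix.GeneralLinearGroup.map (F₀.subtype : F₀ →+* F) y) :
      GL ι F) : Matrix ι ι F) = (P : Matrix ι ι F) *
        ((Matrix.GeneralLinearGroup.map (F₀.subtype : F₀ →+* F) y : GL ι F) : Matrix ι ι F) *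
        ((P⁻¹ : GL ι F) : Matrix ι ι F) := by
    simp [MulAut.conj_apply]
  rw [h1, Matrix.trace_mul_comm, ← mul_assoc, ← Units.val_mul, inv_mul_cancel, Units.val_one, one_mul]
  rw [Matrix.trace]
  refine F₀.sum_mem fun i _ => ?_
  rw [Matrix.diag_apply]
  exact SetLike.coe_mem ((y : Matrix ι ι F₀) i i)

/-- G8 : subfield groups, via traces -/
theorem G8 {N : Subgroup (GL ι F)} (hN : QS N) (F₀ : Subfield F) (P : GL ι F)
    (htr : ∃ g ∈ N, Matrix.trace (g : Matrix ι ι F) ∉ F₀) :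
    ¬ N ≤ subfieldSubgroup F₀ P := by
  intro hle
  obtain ⟨g, hg, hgt⟩ := htr
  exact hgt (trace_mem_of_mem_map F₀ P (le_map_range_of_perfect hN.perf F₀ P hle hg))

end Cfsg.Agent.Lib.Helper32_SUG_G8
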