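import Mathlib
import Cfsg.Prelude.Def_GeometricClasses
import Cfsg.Prelude.Def_LieClassical

/-!
helper39: the generic reduction for the rows "maximal subgroups of `SU_n(q)` lie in the classes of
Aschbacher's theorem": from the frozen statement S5663 (as a hypothesis `SUAschHyp`) and the exclusion
facts `Excl` (`SU_n(q)` is contained in no member of a geometric class) a maximal subgroup `H` of
`SU_n(q)` equals `M ⊓ SL_n` for a member `M` of a class, or is residual.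
-/

set_option autoImplicit false

namespace Cfsg.Agent.Lib.Helper39_SUAschMax

open Matrix Cfsg.Geo

variable {F : Type*} [Field F] [Fintype F] {n q : ℕ}

/-- `SU_n(q)` inside `GL_n(F)` -/
abbrev SUg (n : ℕ) (F : Type*) [Field F] (q : ℕ) : Subgroup (GL (Fin n) F) :=
  Cfsg.GU n F q ⊓ specialLinear (Fin n) F

/-- the statement of Aschbacher's theorem for subgroups of `SU_n(q)` (frozen S5663) -/
def SUAschHyp (n : ℕ) (F : Type*) [Field F] [Fintype F] (q : ℕ) : Prop :=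
  ∀ H : Subgroup (GL (Fin n) F), H ≤ SUg n F q →
    H ⊔ (scalars (Fin n) F ⊓ SUg n F q) ≠ SUg n F q →
    (∃ M : Subgroup (GL (Fin n) F), InUnitaryClass n F q M ∧ H ≤ M) ∨ InUnitaryResidualClass H

/-- the exclusion facts: `N = SU_n(q)` lies in no member of a geometric class -/
structure Excl (n : ℕ) (F : Type*) [Field F] [Fintype F] (q : ℕ) : Prop where
  sub : ∀ W : Submodule F (Fin n → F), W ≠ ⊥ → W ≠ ⊤ → ¬ SUg n F q ≤ subspaceStabilizer W
  dec : ∀ {t m : ℕ} {D : Fin t → Submodule F (Fin n → F)}, IsMDecomposition m D →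
    ¬ SUg n F q ≤ decompositionStabilizer D
  fld : ∀ {r : ℕ} {K : Subalgebra F (Matrix (Fin n) (Fin n) F)}, 1 < r → IsFieldSubalgebra r K →
    ¬ SUg n F q ≤ subalgebraNormalizer K
  ten : ∀ (n₁ n₂ : ℕ), 2 ≤ n₁ → 2 ≤ n₂ → ∀ (e : Fin n ≃ Fin n₁ × Fin n₂) (P : GL (Fin n) F),
    ¬ SUg n F q ≤ tensorProductSubgroup n₁ n₂ e P
  wre : ∀ (m t : ℕ), 3 ≤ m → 2 ≤ t → ∀ (e : Fin n ≃ (Fin t → Fin m)) (P : GL (Fin n) F),
    ¬ SUg n F q ≤ tensorWreathSubgroup m t e P
  nor : ∀ {r : ℕ} {R : Subgroup (GL (Fin n) F)}, IsSymplecticTypeGroup r R →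
    ActsAbsolutelyIrreducibly (matrixSet R) → R ≤ similarityGroup (Cfsg.hermForm n F q) →
    ¬ SUg n F q ≤ subgroupNormalizer R
  subf : ∀ (F₀ : Subfield F), F₀ ≠ ⊤ → ∀ P : GL (Fin n) F, ¬ SUg n F q ≤ subfieldSubgroup F₀ P
  proper : ∀ H : Subgroup (GL (Fin n) F), IsMaximalIn (SUg n F q) H →
    H ⊔ (scalars (Fin n) F ⊓ SUg n F q) ≠ SUg n F q

/-! ### small facts -/

lemma hermForm_single_self (hn : 0 < n) :
    Cfsg.hermForm n F q (Pi.single ⟨0, hn⟩ 1) (Pi.single ⟨0, hn⟩ 1) = 1 := by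
  unfold Cfsg.hermForm
  rw [Finset.sum_eq_single ⟨0, hn⟩]
  · simp
  · intro b _ hb
    simp [Pi.single_eq_of_ne hb]
  · intro h
    exact absurd (Finset.mem_univ _) h

lemma ne_top_of_totallySingular (hn : 0 < n) {W : Submodule F (Fin n → F)}
    (hW : IsTotallySingularFor (Cfsg.hermForm n F q) W) : W ≠ ⊤ := by
  rintro rfl
  have := hW (Pi.single ⟨0, hn⟩ 1) Submodule.mem_top (Pi.single ⟨0, hn⟩ 1) Submodule.mem_top
  rw [hermForm_single_self hn] at this
  exact one_ne_zero this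

lemma ne_top_of_finrank_lt {W : Submodule F (Fin n → F)} (h : 2 * Module.finrank F W < n) : W ≠ ⊤ := by
  rintro rfl
  rw [finrank_top, Module.finrank_fin_fun] at h
  omega

lemma subfield_ne_top {F₀ : Subfield F} {r : ℕ} (hr : 2 ≤ r)
    (hcard : Fintype.card F = Nat.card F₀ ^ r) : F₀ ≠ ⊤ := by
  rintro rfl
  have h1 : Nat.card (⊤ : Subfield F) = Fintype.card F := by
    rw [← Nat.card_eq_fintype_card]
    exact Nat.card_congr (Subfield.topEquiv (K := F)).toEquiv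
  rw [h1] at hcard
  have h2 : 1 < Fintype.card F := Fintype.one_lt_card
  have h3 : Fintype.card F ^ 1 < Fintype.card F ^ r := Nat.pow_lt_pow_right h2 (by omega)
  rw [pow_one] at h3
  omega

/-- the glue: a maximal subgroup of `N` contained in `X ⊓ I` with `N ≤ I`, `¬ N ≤ X` is `(X ⊓ I) ⊓ SL` -/
lemma eq_inf_of_le {H X : Subgroup (GL (Fin n) F)}
    (hH : IsMaximalIn (SUg n F q) H) (hHM : H ≤ X ⊓ Cfsg.GU n F q) (hX : ¬ SUg n F q ≤ X) :
    H = (X ⊓ Cfsg.GU n F q) ⊓ specialLinear (Fin n) F := by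
  have h1 : (X ⊓ Cfsg.GU n F q) ⊓ specialLinear (Fin n) F ≤ SUg n F q :=
    le_inf (inf_le_left.trans inf_le_right) inf_le_right
  have h2 : H ≤ (X ⊓ Cfsg.GU n F q) ⊓ specialLinear (Fin n) F :=
    le_inf hHM (hH.1.le.trans inf_le_right)
  rcases hH.2 _ h2 h1 with h | h
  · exact h.symm
  · exact absurd (h ▸ (inf_le_left.trans inf_le_left)) hX

/-- **generic normal form** of a maximal subgroup of `SU_n(q)` -/
theorem normal_form (hn : 0 < n) (hE : Excl n F q) (hA : SUAschHyp n F q)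
    (H : Subgroup (GL (Fin n) F)) (hH : IsMaximalIn (SUg n F q) H) :
    (∃ M : Subgroup (GL (Fin n) F), InUnitaryClass n F q M ∧ H = M ⊓ specialLinear (Fin n) F) ∨
      InUnitaryResidualClass H := by
  rcases hA H hH.1.le (hE.proper H hH) with ⟨M, hM, hHM⟩ | hres
  · left
    refine ⟨M, hM, ?_⟩
    have hM' := hM
    simp only [InUnitaryClass, InUnitaryPartialClass] at hM'
    rcases hM' with (⟨W, hW0, hWts, rfl⟩ | ⟨W, hW0, -, hWlt, rfl⟩ | ⟨t, k, D, hD, rfl⟩ |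
        ⟨k, D, -, hD, -, rfl⟩ | ⟨F₀, r, P, hr, -, hcard, -, rfl⟩ | ⟨F₀, P, -, hcard, -, rfl⟩ |
        ⟨F₀, P, ζ, -, hcard, -, -, -, -, rfl⟩ | ⟨r, R, p, e, k, hR, hirr, hsim, -, -, -, rfl⟩) |
      ⟨r, K, hr, hodd, hK, -, rfl⟩ | ⟨n₁, n₂, e, P, f₁, f₂, h1, h2, -, -, -, rfl⟩ |
      ⟨k, t, e, P, f₁, hk, ht, -, -, -, rfl⟩
    · exact eq_inf_of_le hH hHM (hE.sub W hW0 (ne_top_of_totallySingular hn hWts))
    · exact eq_inf_of_le hH hHM (hE.sub W hW0 (ne_top_of_finrank_lt hWlt))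
    · exact eq_inf_of_le hH hHM (hE.dec hD.decomp)
    · exact eq_inf_of_le hH hHM (hE.dec hD)
    · exact eq_inf_of_le hH hHM (hE.subf F₀ (subfield_ne_top hr.two_le hcard) P)
    · exact eq_inf_of_le hH hHM (hE.subf F₀ (subfield_ne_top le_rfl hcard) P)
    · exact eq_inf_of_le hH hHM (hE.subf F₀ (subfield_ne_top le_rfl hcard) P)
    · exact eq_inf_of_le hH hHM (hE.nor hR hirr hsim)
    · exact eq_inf_of_le hH hHM (hE.fld hr.one_lt hK)
    · exact eq_inf_of_le hH hHM (hE.ten n₁ n₂ h1 (by omega) e P)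
    · exact eq_inf_of_le hH hHM (hE.wre k t hk ht e P)
  · exact Or.inr hres

end Cfsg.Agent.Lib.Helper39_SUAschMax
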