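import Mathlib
import Cfsg.Prelude.Def_GeometricClasses

/-!
# Tensor classes never contain the special linear group (helper97)

Tools for the rows "maximal subgroups of `SL_n(q)`" in composite dimension (S5829, S5838, S5862):
`SL` is not contained in a tensor product subgroup (class 4) nor in a tensor wreath subgroup (class 7).
-/

set_option autoImplicit false

namespace Cfsg.Agent.Lib.Helper97_AschMaxC

open Cfsg Cfsg.Geo Matrix
open scoped Kronecker

variable {F : Type*} [Field F]

section General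

variable {ι κ : Type} [Fintype ι] [DecidableEq ι] [Fintype κ] [DecidableEq κ]

lemma mem_sl_iff (g : GL ι F) :
    g ∈ specialLinear ι F ↔ (g : Matrix ι ι F).det = 1 := by
  unfold specialLinear
  rw [MonoidHom.mem_ker]
  constructor
  · intro h
    have := congrArg (fun u : Fˣ => (u : F)) h
    simpa using this
  · intro h
    apply Units.ext
    simpa using h

lemma glReindex_val (e : κ ≃ ι) (g : GL κ F) :
    ((glReindex e g : GL ι F) : Matrix ι ι F) = Matrix.reindex e e (g : Matrix κ κ F) := rfl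

lemma det_glReindex_val (e : κ ≃ ι) (g : GL κ F) :
    ((glReindex e g : GL ι F) : Matrix ι ι F).det = (g : Matrix κ κ F).det := by
  rw [glReindex_val, Matrix.det_reindex_self]

/-- the special linear group is normal in `GL` -/
lemma conj_mem_sl (P g : GL ι F) (hg : g ∈ specialLinear ι F) : P * g * P⁻¹ ∈ specialLinear ι F := by
  unfold specialLinear at hg ⊢
  rw [MonoidHom.mem_ker] at hg ⊢
  rw [map_mul, map_mul, hg, mul_one, map_inv, mul_inv_cancel]

/-- reduction of `SL ≤ conjugate of a reindexed subgroup` to the standard situation -/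
lemma sl_le_of_le_conj_reindex (S : Subgroup (GL κ F)) (e : ι ≃ κ) (P : GL ι F)
    (h : specialLinear ι F ≤ (S.map (glReindex e.symm).toMonoidHom).map (MulAut.conj P).toMonoidHom) :
    specialLinear κ F ≤ S := by
  intro T hT
  have h1 : P * glReindex e.symm T * P⁻¹ ∈ specialLinear ι F := by
    apply conj_mem_sl
    rw [mem_sl_iff, det_glReindex_val]
    exact (mem_sl_iff T).1 hT
  obtain ⟨y, ⟨s, hs, rfl⟩, hy⟩ := h h1
  have h2 : P * glReindex e.symm s * P⁻¹ = P * glReindex e.symm T * P⁻¹ := hy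
  have h3 : glReindex e.symm s = glReindex e.symm T := by
    have := congrArg (fun x => P⁻¹ * x * P) h2
    simpa [mul_assoc] using this
  have h4 : s = T := (glReindex (F := F) e.symm).injective h3
  rw [← h4]; exact hs

/-- the transvection `1 + E_{ij}` as an element of `GL` -/
noncomputable def tvGL (i j : ι) (hij : i ≠ j) : GL ι F :=
  Matrix.GeneralLinearGroup.mkOfDetNeZero (Matrix.transvection i j (1 : F))
    (by rw [Matrix.det_transvection_of_ne _ _ hij]; exact one_ne_zero)

lemma tvGL_val (i j : ι) (hij : i ≠ j) :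
    ((tvGL i j hij : GL ι F) : Matrix ι ι F) = 1 + Matrix.single i j (1 : F) := rfl

lemma tvGL_mem_sl (i j : ι) (hij : i ≠ j) : (tvGL i j hij : GL ι F) ∈ specialLinear ι F := by
  rw [mem_sl_iff]
  exact Matrix.det_transvection_of_ne _ _ hij _

end General

/-! ### class 4 -/

lemma not_sl_le_kronecker (n₁ n₂ : ℕ) (h1 : 2 ≤ n₁) (h2 : 2 ≤ n₂) :
    ¬ specialLinear (Fin n₁ × Fin n₂) F ≤ kroneckerSubgroup n₁ n₂ F := by
  intro h
  let a₀ : Fin n₁ := ⟨0, by omega⟩
  let a₁ : Fin n₁ := ⟨1, by omega⟩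
  let b₀ : Fin n₂ := ⟨0, by omega⟩
  let b₁ : Fin n₂ := ⟨1, by omega⟩
  have ha : a₀ ≠ a₁ := by intro h; simp [a₀, a₁, Fin.ext_iff] at h
  have hb : b₀ ≠ b₁ := by intro h; simp [b₀, b₁, Fin.ext_iff] at h
  have hne : ((a₀, b₀) : Fin n₁ × Fin n₂) ≠ (a₁, b₁) := by
    intro h; exact ha (Prod.ext_iff.1 h).1
  obtain ⟨A, B, hAB⟩ := h (tvGL_mem_sl (F := F) (a₀, b₀) (a₁, b₁) hne)
  rw [tvGL_val] at hAB
  have e1 := congrFun (congrFun hAB (a₀, b₀)) (a₁, b₁)
  have e2 := congrFun (congrFun hAB (a₀, b₀)) (a₀, b₀)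
  have e3 := congrFun (congrFun hAB (a₀, b₀)) (a₁, b₀)
  simp only [Matrix.add_apply, Matrix.kroneckerMap_apply, Matrix.one_apply, Matrix.single_apply] at e1 e2 e3
  simp [ha, hb, ha.symm, hb.symm] at e1 e2 e3
  rcases e3 with h0 | h0
  · rw [h0, zero_mul] at e1; exact one_ne_zero e1
  · rw [h0, mul_zero] at e2; exact one_ne_zero e2

theorem not_sl_le_tensorProduct {ι : Type} [Fintype ι] [DecidableEq ι] (n₁ n₂ : ℕ) (h1 : 2 ≤ n₁) (h2 : 2 ≤ n₂)
    (e : ι ≃ Fin n₁ × Fin n₂) (P : GL ι F) :
    ¬ specialLinear ι F ≤ tensorProductSubgroup n₁ n₂ e P := fun h =>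
  not_sl_le_kronecker n₁ n₂ h1 h2 (sl_le_of_le_conj_reindex _ e P h)

/-! ### class 7 -/

section Wreath

variable {m t : ℕ}

/-- a vector of the tensor power is pure: a product of one function per factor -/
def IsPureVec (v : (Fin t → Fin m) → F) : Prop :=
  ∃ vs : Fin t → Fin m → F, ∀ x, v x = ∏ i, vs i (x i)

/-- the matrix maps pure vectors to pure vectors -/
def PreservesPure (A : Matrix (Fin t → Fin m) (Fin t → Fin m) F) : Prop :=
  ∀ v, IsPureVec v → IsPureVec (A *ᵥ v)

lemma preservesPure_one : PreservesPure (1 : Matrix (Fin t → Fin m) (Fin t → Fin m) F) := by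
  intro v hv; rwa [Matrix.one_mulVec]

lemma preservesPure_mul {A B : Matrix (Fin t → Fin m) (Fin t → Fin m) F}
    (hA : PreservesPure A) (hB : PreservesPure B) : PreservesPure (A * B) := by
  intro v hv
  rw [← Matrix.mulVec_mulVec]
  exact hA _ (hB _ hv)

lemma preservesPure_pow {A : Matrix (Fin t → Fin m) (Fin t → Fin m) F}
    (hA : PreservesPure A) (k : ℕ) : PreservesPure (A ^ k) := by
  induction k with
  | zero => rw [pow_zero]; exact preservesPure_one
  | succ k ih => rw [pow_succ]; exact preservesPure_mul ih hA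

lemma preservesPure_of_isPureTensor {g : GL (Fin t → Fin m) F} (hg : IsPureTensor m t g) :
    PreservesPure (g : Matrix (Fin t → Fin m) (Fin t → Fin m) F) := by
  obtain ⟨gs, hgs⟩ := hg
  rintro v ⟨vs, hvs⟩
  refine ⟨fun i a => ∑ b, (gs i : Matrix (Fin m) (Fin m) F) a b * vs i b, fun x => ?_⟩
  rw [Matrix.mulVec, dotProduct]
  simp only [hgs, hvs]
  rw [Finset.prod_univ_sum]
  rw [Fintype.piFinset_univ]
  apply Finset.sum_congr rfl
  intro y _
  rw [Finset.prod_mul_distrib]

lemma preservesPure_of_isFactorPermutation {g : GL (Fin t → Fin m) F} (hg : IsFactorPermutation m t g) :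
    PreservesPure (g : Matrix (Fin t → Fin m) (Fin t → Fin m) F) := by
  obtain ⟨σ, hσ⟩ := hg
  rintro v ⟨vs, hvs⟩
  refine ⟨fun i a => vs (σ.symm i) a, fun x => ?_⟩
  rw [Matrix.mulVec, dotProduct]
  simp only [hσ]
  rw [Finset.sum_eq_single (x ∘ σ)]
  · rw [if_pos rfl, one_mul, hvs]
    rw [← Equiv.prod_comp σ (fun i => vs (σ.symm i) (x i))]
    simp
  · intro y _ hy
    rw [if_neg hy, zero_mul]
  · intro h; exact absurd (Finset.mem_univ _) h

lemma preservesPure_of_mem_standard [Finite F] {g : GL (Fin t → Fin m) F}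
    (hg : g ∈ tensorWreathStandard m t F) :
    PreservesPure (g : Matrix (Fin t → Fin m) (Fin t → Fin m) F) := by
  unfold tensorWreathStandard at hg
  induction hg using Subgroup.closure_induction with
  | mem x hx =>
    rcases hx with hx | hx
    · exact preservesPure_of_isPureTensor hx
    · exact preservesPure_of_isFactorPermutation hx
  | one => exact preservesPure_one
  | mul x y _ _ hx hy => rw [Units.val_mul]; exact preservesPure_mul hx hy
  | inv x _ hx =>
    have hfin : Finite (GL (Fin t → Fin m) F) := inferInstance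
    have hpos : 0 < orderOf x := orderOf_pos x
    have h1 : x⁻¹ = x ^ (orderOf x - 1) := by
      rw [inv_eq_iff_mul_eq_one, ← pow_succ', Nat.sub_add_cancel hpos, pow_orderOf_eq_one]
    rw [h1, Units.val_pow_eq_pow_val]
    exact preservesPure_pow hx _

theorem not_sl_le_tensorWreathStandard [Finite F] (hm : 2 ≤ m) (ht : 2 ≤ t) :
    ¬ specialLinear (Fin t → Fin m) F ≤ tensorWreathStandard m t F := by
  intro h
  let a : Fin m := ⟨0, by omega⟩
  let b : Fin m := ⟨1, by omega⟩
  let i₀ : Fin t := ⟨0, by omega⟩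
  let i₁ : Fin t := ⟨1, by omega⟩
  have hab : a ≠ b := by intro h; simp [a, b, Fin.ext_iff] at h
  have hi : i₀ ≠ i₁ := by intro h; simp [i₀, i₁, Fin.ext_iff] at h
  let x₀ : Fin t → Fin m := fun _ => a
  let x₁ : Fin t → Fin m := fun i => if i = i₀ ∨ i = i₁ then b else a
  let y : Fin t → Fin m := fun i => if i = i₀ then b else a
  have h01 : x₁ ≠ x₀ := by
    intro h
    have := congrFun h i₀
    simp [x₀, x₁] at this
    exact hab this.symm
  have hy0 : y ≠ x₀ := by
    intro h
    have := congrFun h i₀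
    simp [x₀, y] at this
    exact hab this.symm
  have hy1 : y ≠ x₁ := by
    intro h
    have := congrFun h i₁
    simp [x₁, y, hi.symm] at this
    exact hab this
  have hT := preservesPure_of_mem_standard (h (tvGL_mem_sl (F := F) x₁ x₀ h01))
  rw [tvGL_val] at hT
  obtain ⟨ws, hws⟩ := hT (fun x => if x = x₀ then 1 else 0) ⟨fun i c => if c = a then 1 else 0, fun x => by
    show (if x = x₀ then (1 : F) else 0) = ∏ i, (if x i = a then (1 : F) else 0)
    by_cases hx : x = x₀
    · subst hx; simp [x₀]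
    · rw [if_neg hx]
      have : ∃ i, x i ≠ a := by
        by_contra hcon
        push Not at hcon
        exact hx (funext hcon)
      obtain ⟨i, hi⟩ := this
      exact (Finset.prod_eq_zero (Finset.mem_univ i) (by rw [if_neg hi])).symm⟩
  have hval : ∀ x, ((1 + Matrix.single x₁ x₀ (1 : F)) *ᵥ (fun x => if x = x₀ then (1 : F) else 0)) x
      = (if x = x₀ then 1 else 0) + (if x = x₁ then 1 else 0) := by
    intro x
    rw [Matrix.add_mulVec, Matrix.one_mulVec, Pi.add_apply]
    congr 1
    rw [Matrix.mulVec, dotProduct]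
    simp [Matrix.single_apply, eq_comm]
  have e0 := hws x₀
  have e1 := hws x₁
  have ey := hws y
  rw [hval] at e0 e1 ey
  rw [if_pos rfl, if_neg h01.symm, add_zero] at e0
  rw [if_neg h01, if_pos rfl, zero_add] at e1
  rw [if_neg hy0, if_neg hy1, add_zero] at ey
  have hne0 : ∀ i, ws i (x₀ i) ≠ 0 := by
    intro i hz
    rw [Finset.prod_eq_zero (Finset.mem_univ i) hz] at e0
    exact one_ne_zero e0
  have hne1 : ∀ i, ws i (x₁ i) ≠ 0 := by
    intro i hz
    rw [Finset.prod_eq_zero (Finset.mem_univ i) hz] at e1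
    exact one_ne_zero e1
  have : ∏ i, ws i (y i) ≠ 0 := by
    rw [Finset.prod_ne_zero_iff]
    intro i _
    by_cases hi0 : i = i₀
    · have : y i = x₁ i := by simp [y, x₁, hi0]
      rw [this]; exact hne1 i
    · have : y i = x₀ i := by simp [y, x₀, hi0]
      rw [this]; exact hne0 i
  exact this ey.symm

theorem not_sl_le_tensorWreath [Finite F] {ι : Type} [Fintype ι] [DecidableEq ι] (hm : 2 ≤ m) (ht : 2 ≤ t)
    (e : ι ≃ (Fin t → Fin m)) (P : GL ι F) :
    ¬ specialLinear ι F ≤ tensorWreathSubgroup m t e P := fun h =>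
  not_sl_le_tensorWreathStandard hm ht (sl_le_of_le_conj_reindex _ e P h)

end Wreath

end Cfsg.Agent.Lib.Helper97_AschMaxC
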