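import Mathlib
import Cfsg.Prelude.Def_GeometricClasses
import Cfsg.Prelude.Def_LieClassical
import Cfsg.Agent.Lib.Helper39_QSDefs
import Cfsg.Agent.Lib.Helper97_AschMaxC

set_option autoImplicit false

namespace Cfsg.Agent.Lib.Helper52_SUG_G6

open Matrix Cfsg.Geo Cfsg.Agent.Lib.Helper39_QSDefs Cfsg.Agent.Lib.Helper97_AschMaxC

variable {F : Type*} [Field F]

section pure
variable {m t : ℕ}

/-- the exchange identity satisfied by pure vectors -/
lemma exchange {u : (Fin t → Fin m) → F} (hu : IsPureVec u) (i : Fin t) (x y : Fin t → Fin m) :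
    u x * u y = u (Function.update x i (y i)) * u (Function.update y i (x i)) := by
  obtain ⟨us, hus⟩ := hu
  simp only [hus]
  have key : ∀ (x : Fin t → Fin m) (c : Fin m), ∏ j, us j (Function.update x i c j) =
      us i c * ∏ j ∈ Finset.univ.erase i, us j (x j) := by
    intro x c
    rw [← Finset.mul_prod_erase Finset.univ _ (Finset.mem_univ i)]
    rw [Function.update_self]
    congr 1
    apply Finset.prod_congr rfl
    intro j hj
    rw [Function.update_of_ne (Finset.ne_of_mem_erase hj)]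
  have key0 : ∀ x : Fin t → Fin m, ∏ j, us j (x j) =
      us i (x i) * ∏ j ∈ Finset.univ.erase i, us j (x j) := by
    intro x
    rw [Finset.mul_prod_erase Finset.univ (fun j => us j (x j)) (Finset.mem_univ i)]
  rw [key, key, key0 x, key0 y]
  ring

/-- the vector with entries `α` along the line through `z` in direction of the slot `i` -/
def col (z : Fin t → Fin m) (i : Fin t) (α : Fin m → F) : (Fin t → Fin m) → F :=
  fun x => if ∀ j, j ≠ i → x j = z j then α (x i) else 0

lemma col_pure (z : Fin t → Fin m) (i : Fin t) (α : Fin m → F) : IsPureVec (col z i α) := by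
  refine ⟨fun j c => if j = i then α c else (if c = z j then 1 else 0), fun x => ?_⟩
  unfold col
  rw [← Finset.mul_prod_erase Finset.univ _ (Finset.mem_univ i)]
  simp only [if_true]
  split_ifs with h
  · rw [Finset.prod_eq_one, mul_one]
    intro j hj
    have hji := Finset.ne_of_mem_erase hj
    simp [hji, h j hji]
  · push Not at h
    obtain ⟨j, hji, hj⟩ := h
    rw [Finset.prod_eq_zero (Finset.mem_erase.2 ⟨hji, Finset.mem_univ j⟩), mul_zero]
    simp [hji, hj]

lemma col_add (z : Fin t → Fin m) (i : Fin t) (α β : Fin m → F) :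
    col z i (α + β) = col z i α + col z i β := by
  ext x
  unfold col
  simp only [Pi.add_apply]
  split_ifs <;> simp

lemma col_smul (z : Fin t → Fin m) (i : Fin t) (c : F) (α : Fin m → F) :
    col z i (c • α) = c • col z i α := by
  ext x
  unfold col
  simp only [Pi.smul_apply, smul_eq_mul]
  split_ifs <;> simp

lemma col_single (z : Fin t → Fin m) (i : Fin t) :
    col z i (Pi.single (z i) (1 : F)) = Pi.single z 1 := by
  ext x
  unfold col
  by_cases hx : x = z
  · subst hx; simp
  · rw [Pi.single_eq_of_ne hx]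
    split_ifs with h
    · have hxi : x i ≠ z i := by
        intro hi
        apply hx
        ext j
        by_cases hj : j = i
        · subst hj; rw [hi]
        · rw [h j hj]
      rw [Pi.single_eq_of_ne hxi]
    · rfl

end pure

section main
variable {m t : ℕ}

/-- Lemma A: if `ψ (e_z) ≠ 0` then `v` vanishes outside the line through `z` in the direction of the slot `i` -/
lemma lemmaA (hm : 3 ≤ m) (ψ : ((Fin t → Fin m) → F) →ₗ[F] F) (v : (Fin t → Fin m) → F)
    (hP : ∀ w, IsPureVec w → IsPureVec (w + ψ w • v))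
    (z : Fin t → Fin m) (hz : ψ (Pi.single z 1) ≠ 0) (i : Fin t) (x : Fin t → Fin m)
    (hx : ∃ j, j ≠ i ∧ x j ≠ z j) : v x = 0 := by
  classical
  -- the functional `π`
  set π : (Fin m → F) → F := fun α => ψ (col z i α) with hπ
  have hπadd : ∀ α β, π (α + β) = π α + π β := by
    intro α β; simp only [hπ]; rw [col_add, map_add]
  have hπsmul : ∀ (c : F) α, π (c • α) = c * π α := by
    intro c α; simp only [hπ]; rw [col_smul, map_smul, smul_eq_mul]
  set a₁ : Fin m := z i with ha₁
  set π₁ : F := π (Pi.single a₁ 1) with hπ₁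
  have hπ₁0 : π₁ ≠ 0 := by
    simp only [hπ₁, hπ, ha₁]
    rw [col_single]
    exact hz
  set α₀ : Fin m → F := π₁⁻¹ • Pi.single a₁ 1 with hα₀
  have hα₀1 : π α₀ = 1 := by
    rw [hα₀, hπsmul, ← hπ₁, inv_mul_cancel₀ hπ₁0]
  -- the key identity (E)
  set n : Fin m → F := fun a => v (Function.update x i a) with hn
  set ν : Fin m → F := fun a => v (Function.update z i a) with hν
  have hE : ∀ α : Fin m → F, π α = 1 → ∀ a b, n a * (α b + ν b) = n b * (α a + ν a) := by
    intro α hα a b
    have hpure := hP _ (col_pure z i α)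
    have hπα : ψ (col z i α) = 1 := hα
    rw [hπα, one_smul] at hpure
    have hex := exchange hpure i (Function.update x i a) (Function.update z i b)
    simp only [Function.update_self, Function.update_idem, Pi.add_apply] at hex
    obtain ⟨j, hji, hj⟩ := hx
    have h1 : ∀ c, col z i α (Function.update x i c) = 0 := by
      intro c
      unfold col
      rw [if_neg]
      intro hall
      have := hall j hji
      rw [Function.update_of_ne hji] at this
      exact hj this
    have h2 : ∀ c, col z i α (Function.update z i c) = α c := by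
      intro c
      unfold col
      rw [if_pos, Function.update_self]
      intro j' hj'
      rw [Function.update_of_ne hj']
    rw [h1, h1, h2, h2, zero_add, zero_add] at hex
    exact hex
  have hE' : ∀ δ : Fin m → F, π δ = 0 → ∀ a b, n a * δ b = n b * δ a := by
    intro δ hδ a b
    have e1 := hE (α₀ + δ) (by rw [hπadd, hα₀1, hδ, add_zero]) a b
    have e2 := hE α₀ hα₀1 a b
    simp only [Pi.add_apply] at e1
    linear_combination e1 - e2
  -- the vectors `δ_b`
  have hδ : ∀ b : Fin m, b ≠ a₁ → ∀ a, a ≠ b → a ≠ a₁ → n a = 0 := by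
    intro b hb a hab haa
    set δ : Fin m → F := π₁ • Pi.single b 1 - π (Pi.single b 1) • Pi.single a₁ 1 with hδdef
    have hδ0 : π δ = 0 := by
      have : δ = π₁ • Pi.single b 1 + (-(π (Pi.single b 1))) • Pi.single a₁ 1 := by
        rw [hδdef, neg_smul, sub_eq_add_neg]
      rw [this, hπadd, hπsmul, hπsmul, ← hπ₁]
      ring
    have e := hE' δ hδ0 a b
    have hδb : δ b = π₁ := by
      simp [hδdef, Pi.single_eq_of_ne hb]
    have hδa : δ a = 0 := by
      simp [hδdef, Pi.single_eq_of_ne hab, Pi.single_eq_of_ne haa]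
    rw [hδb, hδa, mul_zero] at e
    exact (mul_eq_zero.1 e).resolve_right hπ₁0
  have hthird : ∀ a : Fin m, ∃ b, b ≠ a ∧ b ≠ a₁ := by
    intro a
    have hcard : 0 < ((Finset.univ.erase a).erase a₁).card := by
      have h1 : (Finset.univ.erase a : Finset (Fin m)).card = m - 1 := by
        rw [Finset.card_erase_of_mem (Finset.mem_univ a), Finset.card_univ, Fintype.card_fin]
      have h2 := Finset.pred_card_le_card_erase (s := (Finset.univ.erase a : Finset (Fin m))) (a := a₁)
      omega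
    obtain ⟨b, hb⟩ := Finset.card_pos.1 hcard
    rw [Finset.mem_erase, Finset.mem_erase] at hb
    exact ⟨b, hb.2.1, hb.1⟩
  have hn0 : ∀ a, a ≠ a₁ → n a = 0 := by
    intro a ha
    obtain ⟨b, hba, hb1⟩ := hthird a
    exact hδ b hb1 a hba.symm ha
  have hn1 : n a₁ = 0 := by
    obtain ⟨b, -, hb1⟩ := hthird a₁
    set δ : Fin m → F := π₁ • Pi.single b 1 - π (Pi.single b 1) • Pi.single a₁ 1 with hδdef
    have hδ0 : π δ = 0 := by
      have : δ = π₁ • Pi.single b 1 + (-(π (Pi.single b 1))) • Pi.single a₁ 1 := by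
        rw [hδdef, neg_smul, sub_eq_add_neg]
      rw [this, hπadd, hπsmul, hπsmul, ← hπ₁]
      ring
    have e := hE' δ hδ0 a₁ b
    have hδb : δ b = π₁ := by
      simp [hδdef, Pi.single_eq_of_ne hb1]
    rw [hδb, hn0 b hb1, zero_mul] at e
    exact (mul_eq_zero.1 e).resolve_right hπ₁0
  have hnall : ∀ a, n a = 0 := by
    intro a
    by_cases ha : a = a₁
    · rw [ha]; exact hn1
    · exact hn0 a ha
  have := hnall (x i)
  simp only [hn, Function.update_eq_self] at this
  exact this

lemma apply_eq_sum {κ : Type*} [Fintype κ] [DecidableEq κ] (ψ : (κ → F) →ₗ[F] F) (w : κ → F) :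
    ψ w = ∑ x, w x * ψ (Pi.single x 1) := by
  have hw : w = ∑ x, w x • Pi.single x (1 : F) := by
    ext i; simp [Finset.sum_apply, Pi.single_apply]
  conv_lhs => rw [hw]
  rw [map_sum]
  apply Finset.sum_congr rfl
  intro x _
  rw [map_smul, smul_eq_mul]

/-- a map `x ↦ x + ψ x • v` with `ψ ≠ 0`, `v ≠ 0` does not preserve pure vectors (`m ≥ 3`, `t ≥ 2`) -/
theorem not_pure_of_rank_one (hm : 3 ≤ m) (ht : 2 ≤ t) (ψ : ((Fin t → Fin m) → F) →ₗ[F] F)
    (v : (Fin t → Fin m) → F) (hψ : ψ ≠ 0) (hv : v ≠ 0)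
    (hP : ∀ w, IsPureVec w → IsPureVec (w + ψ w • v)) : False := by
  classical
  -- step 2
  have step2 : ∀ z, ψ (Pi.single z 1) ≠ 0 → ∀ x, x ≠ z → v x = 0 := by
    intro z hz x hxz
    obtain ⟨j, hj⟩ := Function.ne_iff.1 hxz
    have : ∃ i : Fin t, i ≠ j := by
      by_cases hj0 : (j : ℕ) = 0
      · exact ⟨⟨1, by omega⟩, fun h => by rw [← h] at hj0; simp at hj0⟩
      · exact ⟨⟨0, by omega⟩, fun h => by rw [← h] at hj0; simp at hj0⟩
    obtain ⟨i, hij⟩ := this
    exact lemmaA hm ψ v hP z hz i x ⟨j, hij.symm, hj⟩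
  -- step 3
  have hz : ∃ z, ψ (Pi.single z 1) ≠ 0 := by
    by_contra hcon
    push Not at hcon
    apply hψ
    apply LinearMap.ext
    intro w
    rw [apply_eq_sum ψ w]
    simp [hcon]
  obtain ⟨z, hz⟩ := hz
  have hvz : v z ≠ 0 := by
    intro h0
    apply hv
    ext x
    by_cases hx : x = z
    · rw [hx, h0]; rfl
    · exact step2 z hz x hx
  have hsupp : ∀ z', z' ≠ z → ψ (Pi.single z' 1) = 0 := by
    intro z' hz'
    by_contra hne
    exact hvz (step2 z' hne z (Ne.symm hz'))
  -- step 4: the all-ones vector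
  set w : (Fin t → Fin m) → F := fun _ => 1 with hw
  have hwp : IsPureVec w := ⟨fun _ _ => 1, fun x => by simp [hw]⟩
  have hψw : ψ w = ψ (Pi.single z 1) := by
    rw [apply_eq_sum ψ w, Finset.sum_eq_single z]
    · simp [hw]
    · intro b _ hb; rw [hsupp b hb, mul_zero]
    · intro h; exact absurd (Finset.mem_univ z) h
  have hpure := hP w hwp
  rw [hψw] at hpure
  set i₀ : Fin t := ⟨0, by omega⟩ with hi₀
  set i₁ : Fin t := ⟨1, by omega⟩ with hi₁
  have hi01 : i₀ ≠ i₁ := by simp [hi₀, hi₁, Fin.ext_iff]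
  have hother : ∀ a : Fin m, ∃ b, b ≠ a := by
    intro a
    by_cases ha0 : (a : ℕ) = 0
    · exact ⟨⟨1, by omega⟩, fun h => by rw [← h] at ha0; simp at ha0⟩
    · exact ⟨⟨0, by omega⟩, fun h => by rw [← h] at ha0; simp at ha0⟩
  obtain ⟨a', ha'⟩ := hother (z i₀)
  obtain ⟨b', hb'⟩ := hother (z i₁)
  set y : Fin t → Fin m := Function.update (Function.update z i₀ a') i₁ b' with hy
  have hyi₀ : y i₀ = a' := by
    rw [hy, Function.update_of_ne hi01, Function.update_self]
  have hyi₁ : y i₁ = b' := by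
    rw [hy, Function.update_self]
  have hex := exchange hpure i₀ z y
  have hyz : y ≠ z := by
    intro h
    have := congrFun h i₁
    rw [hyi₁] at this
    exact hb' this
  have hxt : Function.update z i₀ (y i₀) ≠ z := by
    intro h
    have := congrFun h i₀
    rw [Function.update_self, hyi₀] at this
    exact ha' this
  have hyt : Function.update y i₀ (z i₀) ≠ z := by
    intro h
    have := congrFun h i₁
    rw [Function.update_of_ne hi01.symm, hyi₁] at this
    exact hb' this
  simp only [Pi.add_apply, Pi.smul_apply, smul_eq_mul, hw] at hex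
  rw [step2 z hz _ hyz, step2 z hz _ hxt, step2 z hz _ hyt] at hex
  simp only [mul_zero, add_zero, mul_one] at hex
  have : ψ (Pi.single z 1) * v z = 0 := by linear_combination hex
  rcases mul_eq_zero.1 this with h | h
  · exact hz h
  · exact hvz h

/-- hyperplane-fixing normal form -/
lemma exists_rank_one {κ : Type*} [Fintype κ] [DecidableEq κ] (M : Matrix κ κ F) (φ : (κ → F) →ₗ[F] F)
    (hfix : ∀ x, φ x = 0 → M *ᵥ x = x) (hM : M ≠ 1) :
    ∃ (ψ : (κ → F) →ₗ[F] F) (v : κ → F), ψ ≠ 0 ∧ v ≠ 0 ∧ ∀ x, M *ᵥ x = x + ψ x • v := by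
  have hex : ∃ x0, M *ᵥ x0 ≠ x0 := by
    by_contra hcon
    push Not at hcon
    apply hM
    apply Matrix.toLin'.injective
    apply LinearMap.ext
    intro x
    rw [Matrix.toLin'_apply, hcon x]
    simp
  obtain ⟨x0, hx0⟩ := hex
  have hφx0 : φ x0 ≠ 0 := fun h => hx0 (hfix x0 h)
  refine ⟨(φ x0)⁻¹ • φ, M *ᵥ x0 - x0, ?_, fun h => hx0 (sub_eq_zero.1 h), ?_⟩
  · intro h
    have := congrArg (fun f : (κ → F) →ₗ[F] F => f x0) h
    simp only [LinearMap.smul_apply, smul_eq_mul, LinearMap.zero_apply] at this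
    rw [inv_mul_cancel₀ hφx0] at this
    exact one_ne_zero this
  · intro x
    have h1 : φ (x - ((φ x0)⁻¹ * φ x) • x0) = 0 := by
      rw [map_sub, map_smul, smul_eq_mul, mul_assoc, mul_comm (φ x), ← mul_assoc,
        inv_mul_cancel₀ hφx0, one_mul, sub_self]
    have h2 := hfix _ h1
    rw [Matrix.mulVec_sub, Matrix.mulVec_smul] at h2
    have h3 : M *ᵥ x = x - ((φ x0)⁻¹ * φ x) • x0 + ((φ x0)⁻¹ * φ x) • M *ᵥ x0 :=
      (sub_eq_iff_eq_add.1 h2)
    rw [h3, LinearMap.smul_apply, smul_eq_mul, smul_sub]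
    abel

variable {ι : Type} [Fintype ι] [DecidableEq ι]

/-- G6 : tensor wreath -/
theorem G6 [Finite F] {N : Subgroup (GL ι F)} (hN : QS N) (m t : ℕ) (hm : 3 ≤ m) (ht : 2 ≤ t)
    (e : ι ≃ (Fin t → Fin m)) (P : GL ι F) :
    ¬ N ≤ tensorWreathSubgroup m t e P := by
  classical
  intro hle
  obtain ⟨g, hgN, hgs, φ, hφ0, hφ⟩ := hN.tv
  obtain ⟨y, ⟨T, hT, rfl⟩, hy⟩ := hle hgN
  have hg : g = P * glReindex e.symm T * P⁻¹ := hy.symm
  have hPP := preservesPure_of_mem_standard hT
  set M : Matrix (Fin t → Fin m) (Fin t → Fin m) F := (T : Matrix (Fin t → Fin m) (Fin t → Fin m) F) with hMdef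
  set L : ((Fin t → Fin m) → F) →ₗ[F] (ι → F) :=
    (Matrix.toLin' (P : Matrix ι ι F)).comp (LinearMap.funLeft F F e) with hL
  have hLapp : ∀ x, L x = (P : Matrix ι ι F) *ᵥ (x ∘ e) := by
    intro x
    simp only [hL, LinearMap.comp_apply, Matrix.toLin'_apply]
    rfl
  have hPinvP : ((P⁻¹ : GL ι F) : Matrix ι ι F) * (P : Matrix ι ι F) = 1 := by
    rw [← Units.val_mul, inv_mul_cancel]; rfl
  have hPPinv : (P : Matrix ι ι F) * ((P⁻¹ : GL ι F) : Matrix ι ι F) = 1 := by
    rw [← Units.val_mul, mul_inv_cancel]; rfl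
  have hLsurj : ∀ u : ι → F, L ((((P⁻¹ : GL ι F) : Matrix ι ι F) *ᵥ u) ∘ e.symm) = u := by
    intro u
    rw [hLapp]
    have : ((((P⁻¹ : GL ι F) : Matrix ι ι F) *ᵥ u) ∘ e.symm) ∘ e = ((P⁻¹ : GL ι F) : Matrix ι ι F) *ᵥ u := by
      ext i; simp
    rw [this, Matrix.mulVec_mulVec, hPPinv, Matrix.one_mulVec]
  have hLinj : ∀ x, L x = 0 → x = 0 := by
    intro x hx
    have h1 : ((P⁻¹ : GL ι F) : Matrix ι ι F) *ᵥ L x = x ∘ e := by
      rw [hLapp, Matrix.mulVec_mulVec, hPinvP, Matrix.one_mulVec]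
    rw [hx, Matrix.mulVec_zero] at h1
    ext k
    have := congrFun h1 (e.symm k)
    simpa using this.symm
  have hkey : ∀ x, (g : Matrix ι ι F) *ᵥ L x = L (M *ᵥ x) := by
    intro x
    rw [hLapp, hLapp, hg, Units.val_mul, Units.val_mul, Matrix.mulVec_mulVec, Matrix.mul_assoc,
      Matrix.mul_assoc, hPinvP, Matrix.mul_one, ← Matrix.mulVec_mulVec]
    congr 1
    ext i
    rw [Cfsg.Agent.Lib.Helper97_AschMaxC.glReindex_val]
    simp only [Matrix.reindex_apply, Equiv.symm_symm, Matrix.mulVec, dotProduct, Matrix.submatrix_apply,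
      Function.comp_apply]
    exact Equiv.sum_comp e (fun k => M (e i) k * x k)
  have hfix : ∀ x, (φ.comp L) x = 0 → M *ᵥ x = x := by
    intro x hx
    have h1 := hφ (L x) hx
    rw [hkey] at h1
    have h2 : L (M *ᵥ x - x) = 0 := by rw [map_sub, h1, sub_self]
    exact sub_eq_zero.1 (hLinj _ h2)
  have hM1 : M ≠ 1 := by
    intro h1
    apply hgs
    have hT1 : T = 1 := Units.ext h1
    rw [hg, hT1, map_one, mul_one, mul_inv_cancel]
    exact Subgroup.one_mem _
  obtain ⟨ψ, v, hψ, hv, hMv⟩ := exists_rank_one M (φ.comp L) hfix hM1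
  apply not_pure_of_rank_one hm ht ψ v hψ hv
  intro w hw
  have := hPP w hw
  rwa [hMv] at this

end main

end Cfsg.Agent.Lib.Helper52_SUG_G6
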