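import Mathlib
import Cfsg.Prelude.Def_GeometricClasses
import Cfsg.Prelude.Def_LieClassical
import Cfsg.Agent.Lib.Helper39_QSDefs
import Cfsg.Agent.Lib.Helper5_SUOrder
import Cfsg.Agent.Lib.Helper94_HermBridge

/-!
# SUG package U3 (helper58, for helper39)

`SU_n(q)`, `n ≥ 3`, contains an element whose trace lies outside a given proper subfield of
`F_{q²}`.  The norm-one elements do not all lie in a proper subfield `F₀`; for a norm-one `l ∉ F₀`
either `diag(l, l⁻¹, 1, ..)` or `diag(l, l, l⁻², 1, ..)` works.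
-/

set_option autoImplicit false
set_option linter.unusedVariables false
set_option linter.style.haveILetI false

namespace Cfsg.Agent.Lib.Helper58_SUG_U3

open Matrix Cfsg.Geo Cfsg.Agent.Lib.Helper39_QSDefs

variable {F : Type*} [Field F]

section SU
variable [Fintype F]

/-- a subfield containing all elements of norm one is everything -/
theorem eq_top_of_norm_one_mem {q : ℕ} (hF : Fintype.card F = q ^ 2) (F₀ : Subfield F)
    (hC : ∀ l : F, l * l ^ q = 1 → l ∈ F₀) : F₀ = ⊤ := by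
  by_contra hne
  have hq : 2 ≤ q := Cfsg.Agent.Lib.Helper13_Herm.two_le_q hF
  obtain ⟨x, hx⟩ : ∃ x : F, x ∉ F₀ := by
    by_contra h
    apply hne
    rw [eq_top_iff]
    intro x _
    by_contra hx
    exact h ⟨x, hx⟩
  -- every element outside `F₀` is fixed by the Frobenius
  have hfix : ∀ y : F, y ∉ F₀ → y ^ q = y := by
    intro y hy
    have hy0 : y ≠ 0 := by
      intro h
      exact hy (h ▸ F₀.zero_mem)
    have hy1 : 1 + y ∉ F₀ := by
      intro h
      apply hy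
      have : y = (1 + y) - 1 := by ring
      rw [this]
      exact F₀.sub_mem h F₀.one_mem
    have hy10 : 1 + y ≠ 0 := by
      intro h
      exact hy1 (h ▸ F₀.zero_mem)
    have hnorm : ∀ w : F, w ≠ 0 → (w ^ q / w) * (w ^ q / w) ^ q = 1 := by
      intro w hw
      rw [div_pow, Cfsg.Agent.Lib.Helper13_Herm.pow_q_pow_q hF]
      field_simp
    have hc : y ^ q / y ∈ F₀ := hC _ (hnorm y hy0)
    have hc' : (1 + y) ^ q / (1 + y) ∈ F₀ := hC _ (hnorm _ hy10)
    obtain ⟨c, hcdef⟩ : ∃ c : F, c = y ^ q / y := ⟨_, rfl⟩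
    obtain ⟨c', hc'def⟩ : ∃ c' : F, c' = (1 + y) ^ q / (1 + y) := ⟨_, rfl⟩
    rw [← hcdef] at hc
    rw [← hc'def] at hc'
    have h1 : y ^ q = c * y := by
      rw [hcdef]; field_simp
    have h2 : (1 + y) ^ q = c' * (1 + y) := by
      rw [hc'def]; field_simp
    rw [Cfsg.Agent.Lib.Helper13_Herm.add_pow_q hF, one_pow, h1] at h2
    -- 1 + c y = c' + c' y
    have h3 : (c' - c) * y = 1 - c' := by linear_combination -h2
    by_cases hcc : c' = c
    · rw [hcc, sub_self, zero_mul] at h3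
      have : c = 1 := by linear_combination h3
      rw [h1, this, one_mul]
    · exfalso
      apply hy
      have hne' : c' - c ≠ 0 := sub_ne_zero.2 hcc
      have : y = (c' - c)⁻¹ * (1 - c') := by
        rw [← h3, ← mul_assoc, inv_mul_cancel₀ hne', one_mul]
      rw [this]
      exact F₀.mul_mem (F₀.inv_mem (F₀.sub_mem hc' hc)) (F₀.sub_mem F₀.one_mem hc')
  -- the Frobenius is not the identity
  obtain ⟨θ, hθ⟩ : ∃ θ : F, θ ^ q ≠ θ := by
    obtain ⟨σ, hσq, hσ⟩ := Cfsg.Agent.Lib.Helper94_HermBridge.exists_frob hF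
    obtain ⟨θ, hθ⟩ := hσ.ne_id
    rw [hσq] at hθ
    exact ⟨θ, hθ⟩
  have hθ0 : θ ∈ F₀ := by
    by_contra h
    exact hθ (hfix θ h)
  have hθx : θ + x ∉ F₀ := by
    intro h
    apply hx
    have : x = (θ + x) - θ := by ring
    rw [this]
    exact F₀.sub_mem h hθ0
  have h1 := hfix _ hθx
  rw [Cfsg.Agent.Lib.Helper13_Herm.add_pow_q hF, hfix x hx] at h1
  exact hθ (by linear_combination h1)


/-- diagonal elements `diag(a, b, c, 1, .., 1)` of `SU_{m+3}(q)` -/
theorem exists_diag {q : ℕ} (hF : Fintype.card F = q ^ 2) (m : ℕ) (a b c : F)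
    (ha : a * a ^ q = 1) (hb : b * b ^ q = 1) (hc : c * c ^ q = 1) (habc : a * b * c = 1) :
    ∃ g ∈ (Cfsg.GU (m + 3) F q ⊓ specialLinear (Fin (m + 3)) F),
      Matrix.trace (g : Matrix (Fin (m + 3)) (Fin (m + 3)) F) = a + b + c + (m : F) := by
  have hq : 2 ≤ q := Cfsg.Agent.Lib.Helper13_Herm.two_le_q hF
  have hq0 : q ≠ 0 := by omega
  obtain ⟨d, hd⟩ : ∃ d : Fin (m + 3) → F,
      d = Fin.cons a (Fin.cons b (Fin.cons c (fun _ => (1 : F)))) := ⟨_, rfl⟩
  have hdn : ∀ i, d i * d i ^ q = 1 := by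
    intro i
    rw [hd]
    refine Fin.cases ?_ (fun i => ?_) i
    · simp only [Fin.cons_zero]; exact ha
    · refine Fin.cases ?_ (fun i => ?_) i
      · simp only [Fin.cons_succ, Fin.cons_zero]; exact hb
      · refine Fin.cases ?_ (fun i => ?_) i
        · simp only [Fin.cons_succ, Fin.cons_zero]; exact hc
        · simp only [Fin.cons_succ, one_pow, mul_one]
  have hprod : ∏ i, d i = 1 := by
    rw [hd, Fin.prod_univ_succ, Fin.prod_univ_succ, Fin.prod_univ_succ]
    simp only [Fin.cons_zero, Fin.cons_succ, Finset.prod_const_one, mul_one]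
    rw [← mul_assoc]
    exact habc
  have hsum : ∑ i, d i = a + b + c + (m : F) := by
    rw [hd, Fin.sum_univ_succ, Fin.sum_univ_succ, Fin.sum_univ_succ]
    simp only [Fin.cons_zero, Fin.cons_succ, Finset.sum_const, Finset.card_univ, Fintype.card_fin,
      nsmul_eq_mul, mul_one]
    ring
  refine ⟨((Cfsg.Agent.Lib.Helper5_GUOrder.mkGU hq0 (Matrix.diagonal d)
    (Cfsg.Agent.Lib.Helper5_SUOrder.isU_diagonal d hdn) : Cfsg.GU (m + 3) F q) :
      GL (Fin (m + 3)) F), Subgroup.mem_inf.2 ⟨Subtype.property _, ?_⟩, ?_⟩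
  · show _ ∈ (Matrix.GeneralLinearGroup.det : GL (Fin (m + 3)) F →* Fˣ).ker
    rw [MonoidHom.mem_ker]
    apply Units.ext
    rw [Matrix.GeneralLinearGroup.val_det_apply, Cfsg.Agent.Lib.Helper5_GUOrder.mkGU_val,
      Matrix.det_diagonal, hprod]
    rfl
  · rw [Cfsg.Agent.Lib.Helper5_GUOrder.mkGU_val, Matrix.trace_diagonal, hsum]

theorem U3 {q : ℕ} (hF : Fintype.card F = q ^ 2) (n : ℕ) (hn : 3 ≤ n) (F₀ : Subfield F)
    (hF₀ : F₀ ≠ ⊤) :
    ∃ g ∈ (Cfsg.GU n F q ⊓ specialLinear (Fin n) F),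
      Matrix.trace (g : Matrix (Fin n) (Fin n) F) ∉ F₀ := by
  obtain ⟨m, rfl⟩ : ∃ m, n = m + 3 := ⟨n - 3, by omega⟩
  obtain ⟨l, hl, hlF⟩ : ∃ l : F, l * l ^ q = 1 ∧ l ∉ F₀ := by
    by_contra h
    apply hF₀
    apply eq_top_of_norm_one_mem hF
    intro l hl
    by_contra hl'
    exact h ⟨l, hl, hl'⟩
  have hl0 : l ≠ 0 := by
    intro h
    rw [h, zero_mul] at hl
    exact zero_ne_one hl
  have hlinv : l⁻¹ * l⁻¹ ^ q = 1 := by
    rw [inv_pow, ← mul_inv, hl, inv_one]
  have hmF : (m : F) ∈ F₀ := natCast_mem F₀ m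
  by_cases hs : l + l⁻¹ ∈ F₀
  · -- `diag(l, l, l⁻², 1, ..)`
    obtain ⟨g, hg, htr⟩ := exists_diag hF m l l (l⁻¹ ^ 2) hl hl
      (by rw [← pow_mul, mul_comm 2 q, pow_mul, ← mul_pow, hlinv, one_pow])
      (by field_simp)
    refine ⟨g, hg, ?_⟩
    rw [htr]
    intro h
    obtain ⟨s, hsdef⟩ : ∃ s : F, s = l + l⁻¹ := ⟨_, rfl⟩
    rw [← hsdef] at hs
    have hinv : l⁻¹ = s - l := by rw [hsdef]; ring
    have hsq : l ^ 2 = s * l - 1 := by
      have h1 : l * l⁻¹ = 1 := mul_inv_cancel₀ hl0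
      rw [hinv] at h1
      linear_combination -h1
    have h2 : (2 - s) * l ∈ F₀ := by
      have : (2 - s) * l = (l + l + l⁻¹ ^ 2 + (m : F)) - (m : F) - s ^ 2 + 1 := by
        rw [hinv]
        linear_combination -hsq
      rw [this]
      exact F₀.add_mem (F₀.sub_mem (F₀.sub_mem h hmF) (F₀.pow_mem hs 2)) F₀.one_mem
    by_cases h2s : (2 : F) - s = 0
    · apply hlF
      have h3 : (l - 1) ^ 2 = 0 := by linear_combination hsq - l * h2s
      have h4 : l = 1 := by
        have := pow_eq_zero_iff (two_ne_zero) |>.1 h3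
        exact sub_eq_zero.1 this
      rw [h4]
      exact F₀.one_mem
    · apply hlF
      have : l = (2 - s)⁻¹ * ((2 - s) * l) := by
        rw [← mul_assoc, inv_mul_cancel₀ h2s, one_mul]
      rw [this]
      exact F₀.mul_mem (F₀.inv_mem (F₀.sub_mem (ofNat_mem F₀ 2) hs)) h2
  · -- `diag(l, l⁻¹, 1, 1, ..)`
    obtain ⟨g, hg, htr⟩ := exists_diag hF m l l⁻¹ 1 hl hlinv (by rw [one_pow, one_mul])
      (by rw [mul_inv_cancel₀ hl0, one_mul])
    refine ⟨g, hg, ?_⟩
    rw [htr]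
    intro h
    apply hs
    have : l + l⁻¹ = (l + l⁻¹ + 1 + (m : F)) - (m : F) - 1 := by ring
    rw [this]
    exact F₀.sub_mem (F₀.sub_mem h hmF) F₀.one_mem

end SU

end Cfsg.Agent.Lib.Helper58_SUG_U3
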