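import Mathlib
import Cfsg.Prelude.Def_GeometricClasses
import Cfsg.Prelude.Def_LieClassical
import Cfsg.Agent.Lib.Helper39_QSDefs
import Cfsg.Agent.Lib.Helper5_GUOrder

/-!
# SUG package U4 (helper58, for helper39): similarities of the hermitian form normalize `SU_n(q)`.
-/

set_option autoImplicit false
set_option linter.unusedVariables false

namespace Cfsg.Agent.Lib.Helper58_SUG_U4

open Matrix Cfsg.Geo Cfsg.Agent.Lib.Helper39_QSDefs

variable {F : Type*} [Field F]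

section SU
variable [Fintype F]

/-- similarities of an arbitrary form normalize its isometries -/
theorem conj_isU {q : ℕ} (n : ℕ) (x : GL (Fin n) F)
    (hx : x ∈ similarityGroup (Cfsg.hermForm n F q)) (s : GL (Fin n) F)
    (hs : s ∈ Cfsg.GU n F q) : x * s * x⁻¹ ∈ Cfsg.GU n F q := by
  obtain ⟨c, hc⟩ := hx
  rw [Cfsg.Agent.Lib.Helper5_GUOrder.mem_GU_iff] at hs ⊢
  intro u v
  have h1 : ((x * s * x⁻¹ : GL (Fin n) F) : Matrix (Fin n) (Fin n) F) =
      (x : Matrix (Fin n) (Fin n) F) * ((s : Matrix (Fin n) (Fin n) F) *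
        ((x⁻¹ : GL (Fin n) F) : Matrix (Fin n) (Fin n) F)) := by
    rw [Units.val_mul, Units.val_mul, Matrix.mul_assoc]
  have h2 : ∀ w : Fin n → F, (x : Matrix (Fin n) (Fin n) F) *ᵥ
      (((x⁻¹ : GL (Fin n) F) : Matrix (Fin n) (Fin n) F) *ᵥ w) = w := by
    intro w
    rw [Matrix.mulVec_mulVec, ← Units.val_mul, mul_inv_cancel, Units.val_one, Matrix.one_mulVec]
  rw [h1, ← Matrix.mulVec_mulVec, ← Matrix.mulVec_mulVec, ← Matrix.mulVec_mulVec,
    ← Matrix.mulVec_mulVec, hc, hs]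
  conv_rhs => rw [← h2 u, ← h2 v, hc]

theorem U4 {q : ℕ} (hF : Fintype.card F = q ^ 2) (n : ℕ) (x : GL (Fin n) F)
    (hx : x ∈ similarityGroup (Cfsg.hermForm n F q)) (s : GL (Fin n) F)
    (hs : s ∈ Cfsg.GU n F q ⊓ specialLinear (Fin n) F) :
    x * s * x⁻¹ ∈ Cfsg.GU n F q ⊓ specialLinear (Fin n) F := by
  obtain ⟨hs1, hs2⟩ := Subgroup.mem_inf.1 hs
  refine Subgroup.mem_inf.2 ⟨conj_isU n x hx s hs1, ?_⟩
  exact (MonoidHom.normal_ker (Matrix.GeneralLinearGroup.det : GL (Fin n) F →* Fˣ)).conj_mem s hs2 x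

end SU

end Cfsg.Agent.Lib.Helper58_SUG_U4
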