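import Mathlib
import Cfsg.Prelude.Def_GeometricClasses
import Cfsg.Prelude.Def_LieClassical
import Cfsg.Agent.Lib.Helper39_QSDefs
import Cfsg.Agent.Lib.Helper39_SUAschMax
import Cfsg.Agent.Lib.Helper39_SUG_U1
import Cfsg.Agent.Lib.Helper32_SUG_G3
import Cfsg.Agent.Lib.Helper32_SUG_G4
import Cfsg.Agent.Lib.Helper32_SUG_G5
import Cfsg.Agent.Lib.Helper32_SUG_G8
import Cfsg.Agent.Lib.Helper52_SUG_G6
import Cfsg.Agent.Lib.Helper52_SUG_G7
import Cfsg.Agent.Lib.Helper58_SUG_U2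
import Cfsg.Agent.Lib.Helper58_SUG_U3
import Cfsg.Agent.Lib.Helper58_SUG_U4
import Cfsg.Agent.Lib.Helper98_Decomp
import Cfsg.Agent.Lib.Helper30_AschMax

/-!
helper39: `SU_n(q)` (`n ≥ 3`, `(n, q) ≠ (3, 2)`) lies in no member of a geometric class of the unitary
group: the structure `Excl n F q` of `Helper39_SUAschMax`, assembled from the SUG packages
(thanks helper32, helper52, helper58, helper8).
-/

set_option autoImplicit false

namespace Cfsg.Agent.Lib.Helper39_SUExcl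

open Matrix Cfsg.Geo Cfsg.Agent.Lib.Helper39_QSDefs Cfsg.Agent.Lib.Helper39_SUAschMax

variable {F : Type*} [Field F] [Fintype F] {n q : ℕ}

/-- G2: an irreducible group stabilizes no proper non-zero subspace -/
theorem not_le_subspaceStabilizer {ι : Type} [Fintype ι] [DecidableEq ι] {N : Subgroup (GL ι F)}
    (hN : QS N) (W : Submodule F (ι → F)) (hW0 : W ≠ ⊥) (hW1 : W ≠ ⊤) :
    ¬ N ≤ subspaceStabilizer W := by
  intro hle
  rcases hN.irr W (fun s hs w hw => ((hle hs) w).mp hw) with h | h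
  · exact hW0 h
  · exact hW1 h

/-- a perfect non-trivial group is not a `p`-group -/
lemma not_le_of_isPGroup {ι : Type} [Fintype ι] [DecidableEq ι] {N R : Subgroup (GL ι F)} (hN : QS N)
    {r : ℕ} (hr : r.Prime) (hR : IsPGroup r R) : ¬ N ≤ R := by
  intro hle
  have hfin : Finite (GL ι F) := inferInstance
  have : Fact r.Prime := ⟨hr⟩
  have hNp : IsPGroup r N := hR.to_le hle
  have hnil : Group.IsNilpotent N := hNp.isNilpotent
  have hperf : Group.IsPerfect N := Subgroup.isPerfect_iff.mpr hN.perf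
  have hnt : Nontrivial N := by
    obtain ⟨g, hg, hgs, -⟩ := hN.tv
    refine ⟨⟨⟨g, hg⟩, 1, ?_⟩⟩
    intro h1
    apply hgs
    have : g = 1 := congrArg Subtype.val h1
    rw [this]
    exact Subgroup.one_mem _
  exact Group.IsPerfect.not_isSolvable N inferInstance

/-- the exclusion facts for `SU_n(q)` -/
theorem excl (hF : Fintype.card F = q ^ 2) (hn : 3 ≤ n) (hex : ¬ (n = 3 ∧ q = 2)) : Excl n F q := by
  have hN : QS (SUg n F q) := Cfsg.Agent.Lib.Helper39_SUG_U1.U1 hF n hn hex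
  refine ⟨?_, ?_, ?_, ?_, ?_, ?_, ?_, ?_⟩
  · exact fun W hW0 hW1 => not_le_subspaceStabilizer hN W hW0 hW1
  · intro t m D hD
    apply Cfsg.Agent.Lib.Helper32_SUG_G3.G3 hN hD
    have htm : t * m = n := Cfsg.Agent.Lib.Helper98_Decomp.card_eq hD
    have htn : t ≤ n := by
      have := hD.pos
      nlinarith
    exact lt_of_le_of_lt (Nat.mul_le_mul_left _ (Nat.factorial_le htn))
      (Cfsg.Agent.Lib.Helper58_SUG_U2.U2 hF n hn)
  · exact fun hr hK => Cfsg.Agent.Lib.Helper32_SUG_G4.G4 hN hr hK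
  · exact fun n₁ n₂ h1 h2 e P => Cfsg.Agent.Lib.Helper32_SUG_G5.G5 hN n₁ n₂ h1 h2 e P
  · exact fun m t hm ht e P => Cfsg.Agent.Lib.Helper52_SUG_G6.G6 hN m t hm ht e P
  · intro r R hR hirr hsim
    exact Cfsg.Agent.Lib.Helper52_SUG_G7.G7 hN hirr.1
      (fun x hx s hs => Cfsg.Agent.Lib.Helper58_SUG_U4.U4 hF n x (hsim hx) s hs)
      (not_le_of_isPGroup hN hR.prime hR.pGroup)
  · exact fun F₀ hF₀ P => Cfsg.Agent.Lib.Helper32_SUG_G8.G8 hN F₀ P
      (Cfsg.Agent.Lib.Helper58_SUG_U3.U3 hF n hn F₀ hF₀)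
  · intro H hH heq
    have h1 : ⁅SUg n F q, SUg n F q⁆ ≤ H :=
      Cfsg.Agent.Lib.Helper30_AschMax.commutator_le_of_le_sup_central
        (Z := scalars (Fin n) F ⊓ SUg n F q)
        (fun z hz g => Cfsg.Agent.Lib.Helper30_AschMax.scalars_comm hz.1 g) heq.ge
    rw [hN.perf] at h1
    exact (not_le_of_gt hH.1) h1

end Cfsg.Agent.Lib.Helper39_SUExcl
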