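import Mathlib
import Cfsg.Prelude.Def_GeometricClasses
import Cfsg.Prelude.Def_LieClassical
import Cfsg.Agent.Lib.Helper39_SUAschMax
import Cfsg.Agent.Lib.Helper30_AschMax
import Cfsg.Agent.Lib.Helper97_AschC6
import Cfsg.Agent.Lib.Helper98_Decomp
import Cfsg.Agent.Lib.Helper13_Herm

/-!
helper39: class arithmetic for the rows "maximal subgroups of `SU_n(q)`" (on top of
`Helper39_SUAschMax.normal_form`): class 6 order, the minimal field in the unitary case, similarities of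
`r`-power order are isometries, and the case list in odd prime dimension.
-/

set_option autoImplicit false

namespace Cfsg.Agent.Lib.Helper39_SURows

open Matrix Cfsg.Geo Cfsg.Agent.Lib.Helper39_SUAschMax

variable {F : Type*} [Field F] [Fintype F] {n q : ℕ}

/-! ### arithmetic -/

lemma sq_eq_prime_pow {q p e : ℕ} (hp : p.Prime) (h : q ^ 2 = p ^ e) : ∃ k, e = 2 * k ∧ q = p ^ k := by
  have hdvd : q ∣ p ^ e := by
    rw [← h]
    exact dvd_pow_self q two_ne_zero
  obtain ⟨k, _, hk⟩ := (Nat.dvd_prime_pow hp).mp hdvd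
  refine ⟨k, ?_, hk⟩
  rw [hk, ← pow_mul] at h
  have := Nat.pow_right_injective hp.two_le h
  omega

lemma eq_of_prime_dvd_prime {a b : ℕ} (ha : 2 ≤ a) (hb : b.Prime) (h : a ∣ b) : a = b := by
  rcases (Nat.dvd_prime hb).mp h with h1 | h1
  · omega
  · exact h1

/-- the minimal field of a class 6 group with centre of odd prime order `r` in the unitary case -/
lemma unitary_minimalField (hF : Fintype.card F = q ^ 2) {r p e : ℕ} (hr : r.Prime) (hrp : r ≠ p)
    (h : IsMinimalFieldFor r p e F) :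
    ∃ k : ℕ, 0 < k ∧ e = 2 * k ∧ q = p ^ k ∧ 2 * k ∣ r - 1 ∧ ((p : ZMod r) ^ (2 * k) = 1) ∧
      ∀ d, 0 < d → d < 2 * k → (p : ZMod r) ^ d ≠ 1 := by
  obtain ⟨he, hdvd, h1, h2⟩ := Cfsg.Agent.Lib.Helper30_AschMax.minimalField_order hr hrp h
  obtain ⟨hp, -, hcard, -, -⟩ := h
  rw [hF] at hcard
  obtain ⟨k, hk, hq⟩ := sq_eq_prime_pow hp hcard
  subst hk
  exact ⟨k, by omega, rfl, hq, hdvd, h1, h2⟩

/-! ### class 6 -/

/-- the order of an absolutely irreducible group of symplectic type -/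
lemma c6_card (hn : 0 < n) {r : ℕ} {R : Subgroup (GL (Fin n) F)} (hR : IsSymplecticTypeGroup r R)
    (hirr : ActsAbsolutelyIrreducibly (matrixSet R)) :
    Nat.card R = Nat.card (Subgroup.center R) * n ^ 2 := by
  have : Nonempty (Fin n) := ⟨⟨0, hn⟩⟩
  have hfin : Finite (GL (Fin n) F) := inferInstance
  have hspan := Cfsg.Agent.Lib.Helper97_AschC6.spanAlg_eq_top_of_absIrred hirr
  have hcomm := Cfsg.Agent.Lib.Helper97_AschC6.commutator_le_scalars hR hirr
  have hpk := Cfsg.Agent.Lib.Helper52_Asch_PK7.PK7 R hspan hcomm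
  rw [Cfsg.Agent.Lib.Helper97_AschC6.card_inf_scalars_eq_card_center hirr, Fintype.card_fin] at hpk
  exact hpk

/-- the multiplier of a similarity of the hermitian form lies in the fixed field -/
lemma multiplier_pow_q (hF : Fintype.card F = q ^ 2) (hn : 0 < n) {g : GL (Fin n) F} {c : Fˣ}
    (hc : ∀ u v, Cfsg.hermForm n F q ((g : Matrix (Fin n) (Fin n) F) *ᵥ u)
      ((g : Matrix (Fin n) (Fin n) F) *ᵥ v) = (c : F) * Cfsg.hermForm n F q u v) :
    (c : F) ^ q = c := by
  have h1 := hc (Pi.single ⟨0, hn⟩ 1) (Pi.single ⟨0, hn⟩ 1)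
  rw [hermForm_single_self hn, mul_one] at h1
  rw [← h1, Cfsg.Agent.Lib.Helper13_Herm.hermForm_pow_q n hF]

/-- a subgroup of `r`-power order of the similarity group consists of isometries when `r ∤ q - 1` -/
lemma le_GU_of_isPGroup (hF : Fintype.card F = q ^ 2) (hn : 0 < n) {r : ℕ} (hr : r.Prime)
    (hrq : ¬ r ∣ q - 1) {R : Subgroup (GL (Fin n) F)} (hR : IsPGroup r R)
    (hsim : R ≤ similarityGroup (Cfsg.hermForm n F q)) : R ≤ Cfsg.GU n F q := by
  intro g hg
  obtain ⟨c, hc⟩ := hsim hg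
  obtain ⟨k, hk⟩ := hR ⟨g, hg⟩
  have hk' : g ^ r ^ k = 1 := by
    have := congrArg (Subtype.val : R → GL (Fin n) F) hk
    simpa using this
  -- the multiplier of `g ^ m` is `c ^ m`
  have hpow : ∀ m : ℕ, ∀ u v, Cfsg.hermForm n F q (((g ^ m : GL (Fin n) F) : Matrix (Fin n) (Fin n) F) *ᵥ u)
      (((g ^ m : GL (Fin n) F) : Matrix (Fin n) (Fin n) F) *ᵥ v) = (c : F) ^ m * Cfsg.hermForm n F q u v := by
    intro m
    induction m with
    | zero => intro u v; simp
    | succ m ih =>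
      intro u v
      rw [pow_succ, Units.val_mul, ← Matrix.mulVec_mulVec, ← Matrix.mulVec_mulVec, ih, hc, pow_succ, mul_assoc]
  have h1 : (c : F) ^ (r ^ k) = 1 := by
    have := hpow (r ^ k) (Pi.single ⟨0, hn⟩ 1) (Pi.single ⟨0, hn⟩ 1)
    rw [hk', Units.val_one, Matrix.one_mulVec, hermForm_single_self hn, mul_one] at this
    exact this.symm
  have h2 : (c : F) ^ (q - 1) = 1 := by
    have hq := multiplier_pow_q hF hn hc
    have hq1 : 1 ≤ q := by
      have := Cfsg.Agent.Lib.Helper13_Herm.two_le_q hF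
      omega
    have h3 : (c : F) ^ (q - 1) * c = 1 * c := by
      rw [← pow_succ, Nat.sub_add_cancel hq1, hq, one_mul]
    exact mul_right_cancel₀ c.ne_zero h3
  have h3 : (c : F) = 1 := by
    have hcop : Nat.Coprime (r ^ k) (q - 1) := Nat.Coprime.pow_left k ((Nat.Prime.coprime_iff_not_dvd hr).mpr hrq)
    have h4 : orderOf (c : F) ∣ r ^ k := orderOf_dvd_of_pow_eq_one h1
    have h5 : orderOf (c : F) ∣ q - 1 := orderOf_dvd_of_pow_eq_one h2
    have h6 : orderOf (c : F) = 1 := Nat.eq_one_of_dvd_coprimes hcop h4 h5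
    exact orderOf_eq_one_iff.mp h6
  intro u v
  have := hc u v
  rw [h3, one_mul] at this
  exact this


/-! ### odd prime dimension -/

/-- the list of cases for a maximal subgroup of `SU_n(q)`, `n` an odd prime -/
theorem prime_cases (hnp : n.Prime) (hn : 3 ≤ n) (hF : Fintype.card F = q ^ 2) (hE : Excl n F q)
    (hA : SUAschHyp n F q) (H : Subgroup (GL (Fin n) F)) (hH : IsMaximalIn (SUg n F q) H) :
    (∃ W : Submodule F (Fin n → F), W ≠ ⊥ ∧ IsTotallySingularFor (Cfsg.hermForm n F q) W ∧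
      H = subspaceStabilizer W ⊓ SUg n F q) ∨
    (∃ W : Submodule F (Fin n → F), W ≠ ⊥ ∧ IsNondegenerateOn (Cfsg.hermForm n F q) W ∧
      2 * Module.finrank F W < n ∧ H = subspaceStabilizer W ⊓ SUg n F q) ∨
    (∃ D : Fin n → Submodule F (Fin n → F), IsNondegenerateMDecomposition (Cfsg.hermForm n F q) 1 D ∧
      H = decompositionStabilizer D ⊓ SUg n F q) ∨
    (∃ K : Subalgebra F (Matrix (Fin n) (Fin n) F), IsFieldSubalgebra n K ∧
      IsAdjointClosedFor (Cfsg.hermForm n F q) K ∧ H = subalgebraNormalizer K ⊓ SUg n F q) ∨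
    (∃ (F₀ : Subfield F) (r : ℕ) (P : GL (Fin n) F), r.Prime ∧ Odd r ∧ Fintype.card F = Nat.card F₀ ^ r ∧
      IsFormRationalStructure (Cfsg.hermForm n F q) F₀ 1 P ∧ H = subfieldSubgroup F₀ P ⊓ SUg n F q) ∨
    (Odd q ∧ ∃ (F₀ : Subfield F) (P : GL (Fin n) F), Fintype.card F = Nat.card F₀ ^ 2 ∧
      IsFormRationalStructure (Cfsg.hermForm n F q) F₀ 1 P ∧ H = subfieldSubgroup F₀ P ⊓ SUg n F q) ∨
    (∃ (p k : ℕ) (R : Subgroup (GL (Fin n) F)), p.Prime ∧ CharP F p ∧ 0 < k ∧ q = p ^ k ∧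
      2 * k ∣ n - 1 ∧ ((p : ZMod n) ^ (2 * k) = 1) ∧ (∀ d, 0 < d → d < 2 * k → (p : ZMod n) ^ d ≠ 1) ∧
      IsSymplecticTypeGroup n R ∧ ActsAbsolutelyIrreducibly (matrixSet R) ∧
      R ≤ similarityGroup (Cfsg.hermForm n F q) ∧ Nat.card R = n ^ 3 ∧ Nat.card (Subgroup.center R) = n ∧
      H = subgroupNormalizer R ⊓ SUg n F q) ∨
    InUnitaryResidualClass H := by
  have hn0 : 0 < n := by omega
  have hnodd : Odd n := hnp.odd_of_ne_two (by omega)
  rcases normal_form hn0 hE hA H hH with ⟨M, hM, hHM⟩ | hres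
  swap
  · exact Or.inr (Or.inr (Or.inr (Or.inr (Or.inr (Or.inr (Or.inr hres))))))
  simp only [InUnitaryClass, InUnitaryPartialClass] at hM
  rcases hM with (⟨W, hW0, hWts, rfl⟩ | ⟨W, hW0, hWnd, hWlt, rfl⟩ | ⟨t, k, D, hD, rfl⟩ |
      ⟨k, D, hk, -, -, rfl⟩ | ⟨F₀, r, P, hr, hodd, hcard, hfrs, rfl⟩ | ⟨F₀, P, hq, hcard, hfrs, rfl⟩ |
      ⟨F₀, P, ζ, heven, -, -, -, -, -, rfl⟩ | ⟨r, R, p, e, k, hR, hirr, hsim, hrp, hmin, hcase, rfl⟩) |
    ⟨r, K, hr, hodd, hK, hadj, rfl⟩ | ⟨n₁, n₂, e, P, f₁, f₂, h1, h2, -, -, -, rfl⟩ |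
    ⟨k, t, e, P, f₁, hk, ht, -, -, -, rfl⟩
  · exact Or.inl ⟨W, hW0, hWts, by rw [hHM, inf_assoc]⟩
  · exact Or.inr (Or.inl ⟨W, hW0, hWnd, hWlt, by rw [hHM, inf_assoc]⟩)
  · -- nondegenerate decomposition
    have htm : t * k = n := Cfsg.Agent.Lib.Helper98_Decomp.card_eq hD.decomp
    have ht2 := hD.decomp.two_le
    have htn : t = n := eq_of_prime_dvd_prime ht2 hnp ⟨k, htm.symm⟩
    subst htn
    have hk1 : k = 1 := by
      have : t * k = t * 1 := by rw [htm, mul_one]
      exact Nat.eq_of_mul_eq_mul_left (by omega) this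
    subst hk1
    exact Or.inr (Or.inr (Or.inl ⟨D, hD, by rw [hHM, inf_assoc]⟩))
  · -- totally singular pair: `n` even
    exfalso
    rw [Nat.odd_iff] at hnodd
    omega
  · exact Or.inr (Or.inr (Or.inr (Or.inr (Or.inl ⟨F₀, r, P, hr, hodd, hcard, hfrs, by rw [hHM, inf_assoc]⟩))))
  · exact Or.inr (Or.inr (Or.inr (Or.inr (Or.inr (Or.inl ⟨hq, F₀, P, hcard, hfrs, by rw [hHM, inf_assoc]⟩)))))
  · exfalso
    rw [Nat.odd_iff] at hnodd
    rw [Nat.even_iff] at heven
    omega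
  · -- class 6
    have hcard := c6_card hn0 hR hirr
    have hrpr := hR.prime
    rcases hcase with ⟨hrodd, hZ, hk1, hRc⟩ | ⟨h2, -, hZ, hRc⟩
    · -- `r` odd
      rw [hZ, hRc, pow_add, pow_one] at hcard
      have h3 : r ^ (2 * k) = n ^ 2 := Nat.eq_of_mul_eq_mul_left hrpr.pos hcard
      have hrn : r = n := by
        have h4 : r ∣ n ^ 2 := by
          rw [← h3]
          exact dvd_pow_self r (by omega)
        exact (Nat.prime_dvd_prime_iff_eq hrpr hnp).1 (hrpr.dvd_of_dvd_pow h4)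
      subst hrn
      have hk : k = 1 := by
        have := Nat.pow_right_injective hrpr.two_le h3
        omega
      subst hk
      rw [hZ] at hmin
      obtain ⟨j, hj0, -, hqj, hdvd, hone, hminj⟩ := unitary_minimalField hF hrpr hrp hmin
      refine Or.inr (Or.inr (Or.inr (Or.inr (Or.inr (Or.inr (Or.inl
        ⟨p, j, R, hmin.1, hmin.2.1, hj0, hqj, hdvd, hone, hminj, hR, hirr, hsim, ?_, hZ, ?_⟩))))))
      · rw [hRc]
      · rw [hHM, inf_assoc]
    · -- `r = 2`: impossible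
      exfalso
      subst h2
      rw [hZ, hRc, pow_add] at hcard
      have h3 : 2 ^ (2 * k) = n ^ 2 := Nat.eq_of_mul_eq_mul_left (by norm_num) hcard
      have h4 : ¬ 2 ∣ n := by
        rw [Nat.odd_iff] at hnodd
        omega
      have h5 : k ≠ 0 := by
        rintro rfl
        rw [mul_zero, pow_zero] at h3
        have : 1 < n ^ 2 := Nat.one_lt_pow (by norm_num) (by omega)
        omega
      have h6 : 2 ∣ n ^ 2 := by
        rw [← h3]
        exact dvd_pow_self 2 (by omega)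
      exact h4 (Nat.prime_two.dvd_of_dvd_pow h6)
  · -- extension field
    have hrn : r = n := eq_of_prime_dvd_prime hr.two_le hnp
      (Cfsg.Agent.Lib.Helper30_AschMax.dvd_of_isFieldSubalgebra hn0 hK)
    subst hrn
    exact Or.inr (Or.inr (Or.inr (Or.inl ⟨K, hK, hadj, by rw [hHM, inf_assoc]⟩)))
  · -- tensor product: impossible
    exfalso
    have hcard : n = n₁ * n₂ := by
      have := Fintype.card_congr e
      simpa using this
    have : n₁ = n := eq_of_prime_dvd_prime h1 hnp ⟨n₂, hcard⟩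
    subst this
    have : n₁ * n₂ = n₁ * 1 := by rw [← hcard, mul_one]
    have := Nat.eq_of_mul_eq_mul_left (by omega) this
    omega
  · -- tensor wreath: impossible
    exfalso
    have hcard : n = k ^ t := by
      have := Fintype.card_congr e
      simpa using this
    have hmn : k = n := eq_of_prime_dvd_prime (by omega) hnp ⟨k ^ (t - 1), by
      rw [hcard, ← pow_succ']; congr 1; omega⟩
    subst hmn
    have : k ^ t = k ^ 1 := by rw [← hcard, pow_one]
    have := Nat.pow_right_injective (by omega : 2 ≤ k) this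
    omega

end Cfsg.Agent.Lib.Helper39_SURows
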