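import Mathlib
import Cfsg.Prelude.Def_GeometricClasses
import Cfsg.Prelude.Def_LieClassical
import Cfsg.Agent.Lib.Helper39_SURows
import Cfsg.Agent.Lib.Helper39_SUExcl

/-!
helper27: the row "maximal subgroups of `SU_3(q)`, `q ≥ 3`" from helper39's `prime_cases`, the frozen
statement S5663 taken as a hypothesis, and the small-field non-maximality facts for `q = 3` and `q = 5`
(packages E3a, E3b, E5a, E5b, E5c, E5d) taken as hypotheses.
-/

set_option autoImplicit false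
set_option linter.unusedSectionVars false

namespace Cfsg.Agent.Lib.Helper27_SURow3

open Matrix Cfsg.Geo Cfsg.Agent.Lib.Helper39_SUAschMax Cfsg.Agent.Lib.Helper39_SURows

variable {F : Type*} [Field F] [Fintype F] {q : ℕ}

/-- package E5a: the stabilizer in `SU_3(5)` of a frame of three nondegenerate lines is not maximal -/
def FrameHyp (F : Type*) [Field F] [Fintype F] (q : ℕ) : Prop :=
  ∀ D : Fin 3 → Submodule F (Fin 3 → F), IsNondegenerateMDecomposition (Cfsg.hermForm 3 F q) 1 D →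
    ¬ IsMaximalIn (Cfsg.GU 3 F q ⊓ specialLinear (Fin 3) F)
      (decompositionStabilizer D ⊓ (Cfsg.GU 3 F q ⊓ specialLinear (Fin 3) F))

/-- packages E3a (`q = 3`), E5b (`q = 5`): the normalizer in `SU_3(q)` of an adjoint-closed cubic field is
not maximal -/
def FieldHyp (F : Type*) [Field F] [Fintype F] (q : ℕ) : Prop :=
  ∀ K : Subalgebra F (Matrix (Fin 3) (Fin 3) F), IsFieldSubalgebra 3 K →
    IsAdjointClosedFor (Cfsg.hermForm 3 F q) K →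
    ¬ IsMaximalIn (Cfsg.GU 3 F q ⊓ specialLinear (Fin 3) F)
      (subalgebraNormalizer K ⊓ (Cfsg.GU 3 F q ⊓ specialLinear (Fin 3) F))

/-- packages E3b (`q = 3`), E5c (`q = 5`): the orthogonal-type subfield group of index two is not maximal in
`SU_3(q)` -/
def OrthHyp (F : Type*) [Field F] [Fintype F] (q : ℕ) : Prop :=
  ∀ (F₀ : Subfield F) (P : GL (Fin 3) F), Fintype.card F = Nat.card F₀ ^ 2 →
    IsFormRationalStructure (Cfsg.hermForm 3 F q) F₀ 1 P →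
    ¬ IsMaximalIn (Cfsg.GU 3 F q ⊓ specialLinear (Fin 3) F)
      (subfieldSubgroup F₀ P ⊓ (Cfsg.GU 3 F q ⊓ specialLinear (Fin 3) F))

/-- package E5d (`q = 5`): the normalizer in `SU_3(5)` of an absolutely irreducible `3^(1+2)` is not maximal -/
def ExtraHyp (F : Type*) [Field F] [Fintype F] (q : ℕ) : Prop :=
  ∀ R : Subgroup (GL (Fin 3) F), IsSymplecticTypeGroup 3 R → ActsAbsolutelyIrreducibly (matrixSet R) →
    R ≤ similarityGroup (Cfsg.hermForm 3 F q) → Nat.card R = 27 → Nat.card (Subgroup.center R) = 3 →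
    ¬ IsMaximalIn (Cfsg.GU 3 F q ⊓ specialLinear (Fin 3) F)
      (subgroupNormalizer R ⊓ (Cfsg.GU 3 F q ⊓ specialLinear (Fin 3) F))

lemma natCast_zmod_eq {m : ℕ} [NeZero m] {p a : ℕ} (ha : a < m) (h : (p : ZMod m) = (a : ZMod m)) :
    p % m = a := by
  have := (ZMod.natCast_eq_natCast_iff' p a m).mp h
  rw [this, Nat.mod_eq_of_lt ha]

theorem su3_cases (hF : Fintype.card F = q ^ 2) (hq : 3 ≤ q) (hE : Excl 3 F q) (hA : SUAschHyp 3 F q)
    (hE5a : q = 5 → FrameHyp F q) (hE3a : q = 3 → FieldHyp F q) (hE5b : q = 5 → FieldHyp F q)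
    (hE3b : q = 3 → OrthHyp F q) (hE5c : q = 5 → OrthHyp F q) (hE5d : q = 5 → ExtraHyp F q)
    (H : Subgroup (Matrix.GeneralLinearGroup (Fin 3) F)) (hH : Cfsg.Geo.IsMaximalIn (Cfsg.GU 3 F q ⊓ Cfsg.Geo.specialLinear (Fin 3) F) H) :
    (∃ W : Submodule F (Fin 3 → F), W ≠ ⊥ ∧ Cfsg.Geo.IsTotallySingularFor (Cfsg.hermForm 3 F q) W ∧ H = Cfsg.Geo.subspaceStabilizer W ⊓ (Cfsg.GU 3 F q ⊓ Cfsg.Geo.specialLinear (Fin 3) F)) ∨
    (∃ W : Submodule F (Fin 3 → F), W ≠ ⊥ ∧ Cfsg.Geo.IsNondegenerateOn (Cfsg.hermForm 3 F q) W ∧ 2 * Module.finrank F W < 3 ∧ H = Cfsg.Geo.subspaceStabilizer W ⊓ (Cfsg.GU 3 F q ⊓ Cfsg.Geo.specialLinear (Fin 3) F)) ∨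
    (q ≠ 5 ∧ ∃ D : Fin 3 → Submodule F (Fin 3 → F), Cfsg.Geo.IsNondegenerateMDecomposition (Cfsg.hermForm 3 F q) 1 D ∧ H = Cfsg.Geo.decompositionStabilizer D ⊓ (Cfsg.GU 3 F q ⊓ Cfsg.Geo.specialLinear (Fin 3) F)) ∨
    (q ≠ 3 ∧ q ≠ 5 ∧ ∃ K : Subalgebra F (Matrix (Fin 3) (Fin 3) F), Cfsg.Geo.IsFieldSubalgebra 3 K ∧ Cfsg.Geo.IsAdjointClosedFor (Cfsg.hermForm 3 F q) K ∧ H = Cfsg.Geo.subalgebraNormalizer K ⊓ (Cfsg.GU 3 F q ⊓ Cfsg.Geo.specialLinear (Fin 3) F)) ∨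
    (∃ (F₀ : Subfield F) (r : ℕ) (P : Matrix.GeneralLinearGroup (Fin 3) F), r.Prime ∧ Odd r ∧ Fintype.card F = Nat.card F₀ ^ r ∧ Cfsg.Geo.IsFormRationalStructure (Cfsg.hermForm 3 F q) F₀ 1 P ∧ H = Cfsg.Geo.subfieldSubgroup F₀ P ⊓ (Cfsg.GU 3 F q ⊓ Cfsg.Geo.specialLinear (Fin 3) F)) ∨
    (Odd q ∧ 7 ≤ q ∧ ∃ (F₀ : Subfield F) (P : Matrix.GeneralLinearGroup (Fin 3) F), Fintype.card F = Nat.card F₀ ^ 2 ∧ Cfsg.Geo.IsFormRationalStructure (Cfsg.hermForm 3 F q) F₀ 1 P ∧ H = Cfsg.Geo.subfieldSubgroup F₀ P ⊓ (Cfsg.GU 3 F q ⊓ Cfsg.Geo.specialLinear (Fin 3) F)) ∨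
    (∃ (p : ℕ) (R : Subgroup (Matrix.GeneralLinearGroup (Fin 3) F)), p.Prime ∧ q = p ∧ p % 3 = 2 ∧ 11 ≤ p ∧ Cfsg.Geo.IsSymplecticTypeGroup 3 R ∧ Cfsg.Geo.ActsAbsolutelyIrreducibly (Cfsg.Geo.matrixSet R) ∧ R ≤ Cfsg.Geo.similarityGroup (Cfsg.hermForm 3 F q) ∧ Nat.card R = 27 ∧ Nat.card (Subgroup.center R) = 3 ∧ H = Cfsg.Geo.subgroupNormalizer R ⊓ (Cfsg.GU 3 F q ⊓ Cfsg.Geo.specialLinear (Fin 3) F)) ∨
    Cfsg.Geo.InUnitaryResidualClass H := by
  rcases prime_cases (by norm_num) (by norm_num) hF hE hA H hH with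
    h | h | ⟨D, hD, hHD⟩ | ⟨K, hK, hadj, hHK⟩ | h | ⟨hodd, F₀, P, hcard, hfrs, hHP⟩ |
    ⟨p, k, R, hp, hchar, hk0, hqk, hdvd, hone, hmin, hR, hirr, hsim, hRc, hZ, hHR⟩ | h
  · exact Or.inl h
  · exact Or.inr (Or.inl h)
  · by_cases h5 : q = 5
    · exfalso
      apply hE5a h5 D hD
      rw [← hHD]
      exact hH
    · exact Or.inr (Or.inr (Or.inl ⟨h5, D, hD, hHD⟩))
  · by_cases h3 : q = 3
    · exfalso
      apply hE3a h3 K hK hadj
      rw [← hHK]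
      exact hH
    · by_cases h5 : q = 5
      · exfalso
        apply hE5b h5 K hK hadj
        rw [← hHK]
        exact hH
      · exact Or.inr (Or.inr (Or.inr (Or.inl ⟨h3, h5, K, hK, hadj, hHK⟩)))
  · exact Or.inr (Or.inr (Or.inr (Or.inr (Or.inl h))))
  · by_cases h3 : q = 3
    · exfalso
      apply hE3b h3 F₀ P hcard hfrs
      rw [← hHP]
      exact hH
    · by_cases h5 : q = 5
      · exfalso
        apply hE5c h5 F₀ P hcard hfrs
        rw [← hHP]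
        exact hH
      · have h7 : 7 ≤ q := by
          rcases hodd with ⟨m, hm⟩
          omega
        exact Or.inr (Or.inr (Or.inr (Or.inr (Or.inr (Or.inl ⟨hodd, h7, F₀, P, hcard, hfrs, hHP⟩)))))
  · have hle : 2 * k ≤ 2 := Nat.le_of_dvd (by norm_num) hdvd
    obtain rfl : k = 1 := by omega
    rw [pow_one] at hqk
    have hne : (p : ZMod 3) ^ 1 ≠ 1 := hmin 1 (by norm_num) (by norm_num)
    have key : ∀ x : ZMod 3, x ^ (2 * 1) = 1 → x ^ 1 ≠ 1 → x = ((2 : ℕ) : ZMod 3) := by decide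
    have hp3 : p % 3 = 2 := natCast_zmod_eq (by norm_num) (key _ hone hne)
    by_cases h5 : q = 5
    · exfalso
      apply hE5d h5 R hR hirr hsim (by rw [hRc]; norm_num) hZ
      rw [← hHR]
      exact hH
    · have h11 : 11 ≤ p := by
        by_contra hcon
        have hp3' : 3 ≤ p := by omega
        have hp5 : p ≠ 5 := by omega
        have hlt : p < 11 := by omega
        interval_cases p <;> first | omega | (revert hp; norm_num)
      exact Or.inr (Or.inr (Or.inr (Or.inr (Or.inr (Or.inr (Or.inl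
        ⟨p, R, hp, hqk, hp3, h11, hR, hirr, hsim, by rw [hRc]; norm_num, hZ, hHR⟩))))))
  · exact Or.inr (Or.inr (Or.inr (Or.inr (Or.inr (Or.inr (Or.inr h))))))

end Cfsg.Agent.Lib.Helper27_SURow3
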