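import Mathlib
import Cfsg.Agent.Lib.Helper94_Herm

set_option autoImplicit false

/-!
Over the field with four elements, the stabiliser in the special unitary group of a decomposition
into pairwise orthogonal nondegenerate planes is not maximal: it is properly contained in the
stabiliser of the frame of all anisotropic points of the planes.
-/

namespace Cfsg.Agent.Lib.Helper94_HermDecomp

open Module Cfsg.Agent.Lib.Helper94_Symp Cfsg.Agent.Lib.Helper94_Herm

variable {F V : Type*} [Field F] [AddCommGroup V] [Module F V]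
variable {σ : F →+* F} {B : V →ₗ[F] V →ₛₗ[σ] F}

/-- The setwise stabiliser of a set of vectors. -/
def setStab (Φ : Set V) : Subgroup (V ≃ₗ[F] V) where
  carrier := {g | ∀ v, v ∈ Φ ↔ g v ∈ Φ}
  mul_mem' := by
    intro a b ha hb v
    rw [LinearEquiv.mul_apply, ← ha, ← hb]
  one_mem' := fun v => Iff.rfl
  inv_mem' := by
    intro g hg v
    have := hg (g⁻¹ v)
    rw [apply_inv_apply'] at this
    exact this.symm

lemma mem_setStab {Φ : Set V} {g : V ≃ₗ[F] V} : g ∈ setStab Φ ↔ ∀ v, v ∈ Φ ↔ g v ∈ Φ := Iff.rfl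

lemma utv_one_invol (h2 : (2 : F) = 0) {a : V} (ha : B a a = 0) (v : V) :
    utv B a 1 (utv B a 1 v) = v := by
  rw [utv_apply B ha, utv_apply B ha]
  simp only [one_mul, map_add, map_smul, LinearMap.add_apply, LinearMap.smul_apply, smul_eq_mul,
    ha, mul_zero, add_zero]
  have : v + B v a • a + B v a • a = v + (2 : F) • (B v a • a) := by module
  rw [this, h2, zero_smul, add_zero]

theorem not_maximal_udstab [FiniteDimensional F V] (hσ : Invol σ) (hB : IsHerm B)
    (h2 : (2 : F) = 0) (hnorm : ∀ c : F, c ≠ 0 → c * σ c = 1)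
    {t : ℕ} (ht : 2 ≤ t) (D : Fin t → Submodule F V) (hfr : ∀ i, finrank F (D i) = 2)
    (hnd : ∀ i, NondegOn B (D i)) (horth : ∀ i j, i ≠ j → ∀ u ∈ D i, ∀ v ∈ D j, B u v = 0)
    (S K0 : Subgroup (V ≃ₗ[F] V))
    (hS : ∀ g, g ∈ S ↔ ∃ π : Equiv.Perm (Fin t), ∀ i, (D i).map (g : V →ₗ[F] V) = D (π i))
    (hK1 : ∀ (φ : Dual F V) (v : V) (h : φ v = 0), LinearEquiv.transvection h ∈ K0) :
    ∃ K : Subgroup (V ≃ₗ[F] V), S ⊓ (uG B ⊓ K0) < K ∧ K < uG B ⊓ K0 := by
  have hneg : ∀ c : F, -c = c := by
    intro c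
    have : c + c = 0 := by linear_combination c * h2
    exact neg_eq_of_add_eq_zero_left this
  -- anisotropic vectors have norm one
  have hN1 : ∀ x : V, B x x ≠ 0 → B x x = 1 := by
    intro x hx
    have h1 := hnorm _ hx
    rw [herm_self hB] at h1
    have : (B x x - 1) * (B x x - 1) = 0 := by linear_combination h1 + (1 - B x x) * h2
    exact sub_eq_zero.mp (mul_self_eq_zero.mp this)
  have hutvG : ∀ a : V, utv B a 1 ∈ uG B ⊓ K0 := by
    intro a
    refine ⟨utv_mem_uG hB a (by rw [map_one, hneg]), ?_⟩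
    unfold utv
    split_ifs with h
    · exact hK1 _ _ _
    · exact K0.one_mem
  -- orthonormal bases of the planes
  have hbasis : ∀ i, ∃ x y : V, x ∈ D i ∧ y ∈ D i ∧ B x x = 1 ∧ B y y = 1 ∧ B x y = 0 ∧
      ∀ v ∈ D i, ∃ α β : F, v = α • x + β • y := by
    intro i
    have hpos : 0 < finrank F (D i) := by rw [hfr]; omega
    have hne : D i ≠ ⊥ := by
      intro h
      rw [h, finrank_bot] at hpos
      exact lt_irrefl _ hpos
    obtain ⟨z, hzD, hz0⟩ := Submodule.exists_mem_ne_zero_of_ne_bot hne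
    obtain ⟨x, hxD, hx⟩ := exists_aniso hσ hB (hnd i) hzD hz0
    have hx1 := hN1 x hx
    have hx0 : x ≠ 0 := by
      rintro rfl
      simp at hx
    -- a vector outside the line
    have hlt : Submodule.span F {x} < D i := by
      refine lt_of_le_of_ne ((Submodule.span_singleton_le_iff_mem _ _).mpr hxD) ?_
      intro heq
      have := finrank_span_singleton (K := F) hx0
      rw [heq, hfr] at this
      omega
    obtain ⟨z', hz'D, hz'⟩ := SetLike.exists_of_lt hlt
    have hmem : z' - B z' x • x ∈ D i ⊓ orthV B x := by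
      refine Submodule.mem_inf.mpr ⟨(D i).sub_mem hz'D ((D i).smul_mem _ hxD), mem_orthV.mpr ?_⟩
      rw [map_sub, map_smul, LinearMap.sub_apply, LinearMap.smul_apply, hx1, smul_eq_mul, mul_one,
        sub_self]
    have hne0 : z' - B z' x • x ≠ 0 := by
      intro h0
      apply hz'
      rw [sub_eq_zero.mp h0]
      exact Submodule.smul_mem _ _ (Submodule.mem_span_singleton_self x)
    obtain ⟨y, hyU, hy⟩ := exists_aniso hσ hB (nondegOn_orthV hB (hnd i) hxD hx) hmem hne0
    have hyD : y ∈ D i := hyU.1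
    have hyx : B y x = 0 := mem_orthV.mp hyU.2
    have hxy : B x y = 0 := herm_eq_zero hB hyx
    have hy1 := hN1 y hy
    refine ⟨x, y, hxD, hyD, hx1, hy1, hxy, ?_⟩
    have hli : LinearIndependent F ![x, y] := by
      rw [LinearIndependent.pair_iff]
      intro a b hab
      have ha : B (a • x + b • y) x = 0 := by rw [hab]; simp
      have hb : B (a • x + b • y) y = 0 := by rw [hab]; simp
      simp only [map_add, map_smul, LinearMap.add_apply, LinearMap.smul_apply, smul_eq_mul, hx1,
        hy1, hxy, hyx, mul_one, mul_zero, add_zero, zero_add] at ha hb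
      exact ⟨ha, hb⟩
    have hspan : Submodule.span F (Set.range ![x, y]) = D i := by
      apply Submodule.eq_of_le_of_finrank_le
      · rw [Submodule.span_le]
        rintro _ ⟨j, rfl⟩
        fin_cases j
        · exact hxD
        · exact hyD
      · rw [finrank_span_eq_card hli, hfr]
        simp
    intro v hv
    rw [← hspan] at hv
    have hr : Set.range ![x, y] = {x, y} := by
      simp [Matrix.range_cons, Set.pair_comm]
    rw [hr, Submodule.mem_span_pair] at hv
    obtain ⟨a, b, hab⟩ := hv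
    exact ⟨a, b, hab.symm⟩
  choose X Y hXD hYD hX1 hY1 hXY hXYspan using hbasis
  have hYX : ∀ i, B (Y i) (X i) = 0 := fun i => herm_eq_zero hB (hXY i)
  -- classification of anisotropic vectors of a plane
  have hclass : ∀ i, ∀ v ∈ D i, B v v ≠ 0 → ∃ c : F, c ≠ 0 ∧ (v = c • X i ∨ v = c • Y i) := by
    intro i v hv hvN
    obtain ⟨α, β, rfl⟩ := hXYspan i v hv
    have hNv : B (α • X i + β • Y i) (α • X i + β • Y i) = α * σ α + β * σ β := by
      simp only [map_add, map_smul, map_smulₛₗ, LinearMap.add_apply, LinearMap.smul_apply,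
        smul_eq_mul, hX1, hY1, hXY, hYX]
      ring
    by_cases hα : α = 0
    · subst hα
      by_cases hβ : β = 0
      · subst hβ
        simp at hvN
      · exact ⟨β, hβ, Or.inr (by simp)⟩
    · by_cases hβ : β = 0
      · subst hβ
        exact ⟨α, hα, Or.inl (by simp)⟩
      · exfalso
        apply hvN
        rw [hNv, hnorm α hα, hnorm β hβ]
        linear_combination h2
  -- the frame
  let Φ : Set V := {v | ∃ i, v ∈ D i ∧ B v v ≠ 0}
  have hΦ : ∀ v, v ∈ Φ ↔ ∃ i, v ∈ D i ∧ B v v ≠ 0 := fun v => Iff.rfl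
  have hsmulΦ : ∀ i (c : F), c ≠ 0 → c • X i ∈ Φ ∧ c • Y i ∈ Φ := by
    intro i c hc
    have hσc : σ c ≠ 0 := (map_ne_zero σ).mpr hc
    refine ⟨⟨i, (D i).smul_mem _ (hXD i), ?_⟩, ⟨i, (D i).smul_mem _ (hYD i), ?_⟩⟩
    · rw [self_smul, hX1, mul_one]; exact mul_ne_zero hc hσc
    · rw [self_smul, hY1, mul_one]; exact mul_ne_zero hc hσc
  -- two indices
  let i1 : Fin t := ⟨0, by omega⟩
  let i2 : Fin t := ⟨1, by omega⟩
  have hi12 : i1 ≠ i2 := by
    intro h
    have := congrArg Fin.val h
    simp [i1, i2] at this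
  have hi21 : i2 ≠ i1 := fun h => hi12 h.symm
  have hXX : ∀ i j, i ≠ j → B (X i) (X j) = 0 := fun i j hij => horth i j hij _ (hXD i) _ (hXD j)
  have hXYo : ∀ i j, i ≠ j → B (X i) (Y j) = 0 := fun i j hij => horth i j hij _ (hXD i) _ (hYD j)
  have hYXo : ∀ i j, i ≠ j → B (Y i) (X j) = 0 := fun i j hij => horth i j hij _ (hYD i) _ (hXD j)
  have hYY : ∀ i j, i ≠ j → B (Y i) (Y j) = 0 := fun i j hij => horth i j hij _ (hYD i) _ (hYD j)
  have h4 : (4 : F) = 0 := by linear_combination 2 * h2
  have hdouble : ∀ v : V, v + v = 0 := by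
    intro v
    have : v + v = (2 : F) • v := by rw [two_smul]
    rw [this, h2, zero_smul]
  refine ⟨(uG B ⊓ K0) ⊓ setStab Φ, ?_, ?_⟩
  · -- H < K
    have hle : S ⊓ (uG B ⊓ K0) ≤ (uG B ⊓ K0) ⊓ setStab Φ := by
      intro g hg
      refine ⟨hg.2, ?_⟩
      have hfwd : ∀ g : V ≃ₗ[F] V, g ∈ S → g ∈ uG B → ∀ v, v ∈ Φ → g v ∈ Φ := by
        intro g hgS hgU v hv
        obtain ⟨i, hvD, hvN⟩ := hv
        obtain ⟨π, hπ⟩ := (hS g).mp hgS
        refine ⟨π i, ?_, ?_⟩
        · rw [← hπ i]
          exact Submodule.mem_map_of_mem hvD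
        · rw [hgU]; exact hvN
      intro v
      constructor
      · exact hfwd g hg.1 hg.2.1 v
      · intro hgv
        have := hfwd g⁻¹ (S.inv_mem hg.1) ((uG B).inv_mem hg.2.1) (g v) hgv
        rwa [inv_apply_apply'] at this
    refine lt_of_le_of_ne hle ?_
    intro heq
    have haN : B (X i1 + Y i2) (X i1 + Y i2) = 0 := by
      simp only [map_add, LinearMap.add_apply, hX1, hY1, hXYo i1 i2 hi12, hYXo i2 i1 hi21]
      linear_combination h2
    have hinvol : ∀ v, utv B (X i1 + Y i2) 1 (utv B (X i1 + Y i2) 1 v) = v :=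
      utv_one_invol h2 haN
    have hc1 : ∀ p r : V, p + (p + r) = r := by
      intro p r
      rw [← add_assoc, hdouble, zero_add]
    have hc2 : ∀ p r : V, p + (r + p) = r := by
      intro p r
      rw [add_comm r p]; exact hc1 p r
    have hfwd : ∀ v ∈ Φ, utv B (X i1 + Y i2) 1 v ∈ Φ := by
      rintro v ⟨k, hvD, hvN⟩
      rw [utv_apply B haN, one_mul]
      obtain ⟨c, hc0, hv | hv⟩ := hclass k v hvD hvN
      · rw [hv]
        by_cases hk1 : k = i1
        · rw [hk1]
          have hs : B (c • X i1) (X i1 + Y i2) = c := by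
            rw [map_smul, LinearMap.smul_apply, map_add, hX1, hXYo i1 i2 hi12, add_zero,
              smul_eq_mul, mul_one]
          rw [hs, smul_add, hc1]
          exact (hsmulΦ i2 c hc0).2
        · by_cases hk2 : k = i2
          · rw [hk2]
            have hs : B (c • X i2) (X i1 + Y i2) = 0 := by
              rw [map_smul, LinearMap.smul_apply, map_add, hXX i2 i1 hi21, hXY i2, add_zero,
                smul_zero]
            rw [hs, zero_smul, add_zero]
            exact (hsmulΦ i2 c hc0).1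
          · have hs : B (c • X k) (X i1 + Y i2) = 0 := by
              rw [map_smul, LinearMap.smul_apply, map_add, hXX k i1 hk1, hXYo k i2 hk2, add_zero,
                smul_zero]
            rw [hs, zero_smul, add_zero]
            exact (hsmulΦ k c hc0).1
      · rw [hv]
        by_cases hk2 : k = i2
        · rw [hk2]
          have hs : B (c • Y i2) (X i1 + Y i2) = c := by
            rw [map_smul, LinearMap.smul_apply, map_add, hY1, hYXo i2 i1 hi21, zero_add,
              smul_eq_mul, mul_one]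
          rw [hs, smul_add, hc2]
          exact (hsmulΦ i1 c hc0).1
        · by_cases hk1 : k = i1
          · rw [hk1]
            have hs : B (c • Y i1) (X i1 + Y i2) = 0 := by
              rw [map_smul, LinearMap.smul_apply, map_add, hYX i1, hYY i1 i2 hi12, add_zero,
                smul_zero]
            rw [hs, zero_smul, add_zero]
            exact (hsmulΦ i1 c hc0).2
          · have hs : B (c • Y k) (X i1 + Y i2) = 0 := by
              rw [map_smul, LinearMap.smul_apply, map_add, hYXo k i1 hk1, hYY k i2 hk2, add_zero,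
                smul_zero]
            rw [hs, zero_smul, add_zero]
            exact (hsmulΦ k c hc0).2
    have htK : utv B (X i1 + Y i2) 1 ∈ (uG B ⊓ K0) ⊓ setStab Φ := by
      refine ⟨hutvG _, ?_⟩
      intro v
      constructor
      · exact hfwd v
      · intro h
        have := hfwd _ h
        rwa [hinvol] at this
    rw [← heq] at htK
    obtain ⟨π, hπ⟩ := (hS _).mp htK.1
    have h1 : utv B (X i1 + Y i2) 1 (X i1) ∈ D (π i1) := by
      rw [← hπ i1]
      exact Submodule.mem_map_of_mem (hXD i1)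
    have h2' : utv B (X i1 + Y i2) 1 (Y i1) ∈ D (π i1) := by
      rw [← hπ i1]
      exact Submodule.mem_map_of_mem (hYD i1)
    have e1 : utv B (X i1 + Y i2) 1 (X i1) = Y i2 := by
      rw [utv_apply B haN, one_mul, map_add, hX1, hXYo i1 i2 hi12, add_zero, one_smul, hc1]
    have e2 : utv B (X i1 + Y i2) 1 (Y i1) = Y i1 := by
      apply utv_fix
      rw [map_add, hYX i1, hYY i1 i2 hi12, add_zero]
    rw [e1] at h1
    rw [e2] at h2'
    by_cases hp : π i1 = i1
    · rw [hp] at h1
      have := horth i1 i2 hi12 _ h1 _ (hYD i2)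
      rw [hY1] at this
      exact one_ne_zero this
    · have := horth (π i1) i1 hp _ h2' _ (hYD i1)
      rw [hY1] at this
      exact one_ne_zero this
  · -- K < G
    refine lt_of_le_of_ne inf_le_left ?_
    intro heq
    have haN : B (X i1 + Y i1 + X i2 + Y i2) (X i1 + Y i1 + X i2 + Y i2) = 0 := by
      simp only [map_add, LinearMap.add_apply, hX1, hY1, hXY, hYX, hXX i1 i2 hi12, hXX i2 i1 hi21,
        hXYo i1 i2 hi12, hXYo i2 i1 hi21, hYXo i1 i2 hi12, hYXo i2 i1 hi21, hYY i1 i2 hi12,
        hYY i2 i1 hi21]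
      linear_combination h4
    have htG : utv B (X i1 + Y i1 + X i2 + Y i2) 1 ∈ uG B ⊓ K0 := hutvG _
    rw [← heq] at htG
    have hX1Φ : X i1 ∈ Φ := by
      have := (hsmulΦ i1 1 one_ne_zero).1
      rwa [one_smul] at this
    have hw := (mem_setStab.mp htG.2 (X i1)).mp hX1Φ
    have e : utv B (X i1 + Y i1 + X i2 + Y i2) 1 (X i1) = Y i1 + X i2 + Y i2 := by
      have hs : B (X i1) (X i1 + Y i1 + X i2 + Y i2) = 1 := by
        simp only [map_add, hX1, hXY, hXX i1 i2 hi12, hXYo i1 i2 hi12, add_zero]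
      rw [utv_apply B haN, one_mul, hs, one_smul, add_assoc (X i1), add_assoc (X i1),
        ← add_assoc (X i1) (X i1), hdouble, zero_add, add_assoc]
    rw [e] at hw
    obtain ⟨k, hkD, -⟩ := hw
    by_cases hk : k = i1
    · rw [hk] at hkD
      have := horth i1 i2 hi12 _ hkD _ (hXD i2)
      simp only [map_add, LinearMap.add_apply, hX1, hYXo i1 i2 hi12, hYX i2, zero_add,
        add_zero] at this
      exact one_ne_zero this
    · have := horth k i1 hk _ hkD _ (hYD i1)
      simp only [map_add, LinearMap.add_apply, hY1, hXYo i2 i1 hi21, hYY i2 i1 hi21,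
        add_zero] at this
      exact one_ne_zero this

end Cfsg.Agent.Lib.Helper94_HermDecomp
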