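import Mathlib
import Cfsg.Agent.Lib.Helper94_Symp
import Cfsg.Agent.Lib.Helper94_OrthSmall
import Cfsg.Agent.Lib.Helper94_OrthSiegel
import Cfsg.Agent.Lib.Helper94_OrthSiegel2
import Cfsg.Agent.Lib.Helper94_OrthPara
import Cfsg.Agent.Lib.Helper94_OrthVec
import Cfsg.Agent.Lib.Helper94_OrthNondeg

set_option autoImplicit false

/-!
Orthogonal groups: the stabiliser of a pair `{U, U'}` of complementary totally singular subspaces
of even dimension at least eight is maximal in any group `G` of isometries containing, and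
generated by, the Siegel elements (helper94).
-/

namespace Cfsg.Agent.Lib.Helper94_OrthTS

open Module Cfsg.Agent.Lib.Helper94_Symp Cfsg.Agent.Lib.Helper94_OrthSmall
  Cfsg.Agent.Lib.Helper94_OrthSiegel Cfsg.Agent.Lib.Helper94_OrthSiegel2
  Cfsg.Agent.Lib.Helper94_OrthPara Cfsg.Agent.Lib.Helper94_OrthVec
  Cfsg.Agent.Lib.Helper94_OrthNondeg

variable {F V : Type*} [Field F] [AddCommGroup V] [Module F V]

section

variable [FiniteDimensional F V] (Q : V → F) (B : LinearMap.BilinForm F V)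
  (hQs : ∀ (c : F) (v : V), Q (c • v) = c * c * Q v)
  (hQp : ∀ u v : V, Q (u + v) = Q u + Q v + B u v)

/-- A pair of totally singular subspaces spanning a nondegenerate quadratic space. -/
structure TSPair (U U' : Submodule F V) : Prop where
  qU : ∀ u ∈ U, Q u = 0
  qU' : ∀ u ∈ U', Q u = 0
  sup : U ⊔ U' = ⊤
  nd : B.Nondegenerate

variable {Q B}

lemma TSPair.symm {U U' : Submodule F V} (P : TSPair Q B U U') : TSPair Q B U' U :=
  ⟨P.qU', P.qU, by rw [sup_comm]; exact P.sup, P.nd⟩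

include hQp in
lemma TSPair.tiU {U U' : Submodule F V} (P : TSPair Q B U U') :
    ∀ u ∈ U, ∀ v ∈ U, B u v = 0 := by
  intro u hu v hv
  have := hQp u v
  rw [P.qU u hu, P.qU v hv, P.qU _ (U.add_mem hu hv)] at this
  linear_combination -this

include hQp in
lemma TSPair.tiU' {U U' : Submodule F V} (P : TSPair Q B U U') :
    ∀ u ∈ U', ∀ v ∈ U', B u v = 0 := P.symm.tiU hQp

lemma TSPair.dec {U U' : Submodule F V} (P : TSPair Q B U U') (x : V) :
    ∃ a ∈ U, ∃ a' ∈ U', a + a' = x :=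
  Submodule.mem_sup.mp (P.sup ▸ Submodule.mem_top)

include hQp in
lemma TSPair.pairU {U U' : Submodule F V} (P : TSPair Q B U U') :
    ∀ u ∈ U, (∀ y ∈ U', B y u = 0) → u = 0 := by
  intro u hu hyp
  apply P.nd.2 u
  intro x
  obtain ⟨a, ha, a', ha', rfl⟩ := P.dec x
  rw [map_add, LinearMap.add_apply, P.tiU hQp a ha u hu, hyp a' ha', add_zero]

include hQp in
lemma TSPair.inf_eq_bot {U U' : Submodule F V} (P : TSPair Q B U U') : U ⊓ U' = ⊥ := by
  rw [eq_bot_iff]
  rintro x ⟨hx, hx'⟩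
  exact P.pairU hQp x hx (fun y hy => P.tiU' hQp y hy x hx')

include hQp in
/-- Annihilator fact: a vector of `U` outside a subspace `E ≤ U` is separated from `E` by a vector
of `U'`. -/
lemma TSPair.sep {U U' : Submodule F V} (P : TSPair Q B U U') (E : Submodule F V) (hE : E ≤ U)
    {c : V} (hc : c ∈ U) (hcE : c ∉ E) :
    ∃ d ∈ U', (∀ e ∈ E, B e d = 0) ∧ B c d ≠ 0 := by
  have hsymm := B_symm Q B hQp
  have hR := B_isRefl Q B hQp
  by_contra hcon
  push Not at hcon
  apply hcE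
  rw [← LinearMap.BilinForm.orthogonal_orthogonal P.nd hR E, mem_orth]
  intro v hv
  rw [mem_orth] at hv
  obtain ⟨v1, hv1, v2, hv2, rfl⟩ := P.dec v
  have h2 : ∀ e ∈ E, B e v2 = 0 := by
    intro e he
    have := hv e he
    rw [map_add, P.tiU hQp e (hE he) v1 hv1, zero_add] at this
    exact this
  rw [map_add, LinearMap.add_apply, P.tiU hQp v1 hv1 c hc, zero_add, hsymm]
  exact hcon v2 hv2 h2

/-- `z ∈ F c + (Uo ∩ c^⊥)`. -/
def InT (B : LinearMap.BilinForm F V) (Uo : Submodule F V) (c z : V) : Prop :=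
  ∃ α : F, ∃ y ∈ Uo, B y c = 0 ∧ z = α • c + y

include hQs hQp in
/-- Siegel elements of the pair lie in the stabilisers of `U` and `U'`. -/
lemma sieg_pair_mem {U U' : Submodule F V} (P : TSPair Q B U U') {c d : V} (hc : c ∈ U)
    (hd : d ∈ U') (hcd : B c d = 0) :
    (∀ x ∈ U, sieg Q B c d x ∈ U) ∧ (∀ x ∈ U', sieg Q B c d x ∈ U') := by
  have hsymm := B_symm Q B hQp
  constructor
  · intro x hx
    rw [sieg_apply Q B hQs hQp (P.qU c hc) hcd, P.tiU hQp x hx c hc, P.qU' d hd]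
    simp only [zero_smul, add_zero, mul_zero, sub_zero]
    exact U.sub_mem hx (U.smul_mem _ hc)
  · intro x hx
    rw [sieg_apply Q B hQs hQp (P.qU c hc) hcd, P.tiU' hQp x hx d hd, P.qU' d hd]
    simp only [zero_smul, sub_zero, zero_mul]
    exact U'.add_mem hx (U'.smul_mem _ hd)

end

section Core

variable [Finite F] [FiniteDimensional F V] {Q : V → F} {B : LinearMap.BilinForm F V}
  (hQs : ∀ (c : F) (v : V), Q (c • v) = c * c * Q v)
  (hQp : ∀ u v : V, Q (u + v) = Q u + Q v + B u v)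

variable (Q B) in
/-- The Siegel elements of the pair lie in `M`. -/
def HE (M : Subgroup (V ≃ₗ[F] V)) (U U' : Submodule F V) : Prop :=
  ∀ c ∈ U, ∀ d ∈ U', B c d = 0 → sieg Q B c d ∈ M

include hQs hQp in
lemma sieg_swap {c d : V} (hc : Q c = 0) (hd : Q d = 0) (hcd : B c d = 0) :
    sieg Q B d c = sieg Q B c (-d) := by
  have hsymm := B_symm Q B hQp
  ext x
  rw [sieg_apply Q B hQs hQp hd (by rw [hsymm, hcd]),
    sieg_apply Q B hQs hQp hc (by rw [map_neg, hcd, neg_zero]), hc]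
  have : Q (-d) = 0 := by
    have := hQs (-1) d
    rw [neg_one_smul, hd, mul_zero] at this
    exact this
  rw [this, map_neg]
  module

include hQs hQp in
lemma HE.symm {M : Subgroup (V ≃ₗ[F] V)} {U U' : Submodule F V} (P : TSPair Q B U U')
    (h : HE Q B M U U') : HE Q B M U' U := by
  have hsymm := B_symm Q B hQp
  intro c hc d hd hcd
  rw [sieg_swap hQs hQp (P.qU d hd) (P.qU' c hc) (by rw [hsymm, hcd])]
  exact h d hd (-c) (U'.neg_mem hc) (by rw [map_neg, hsymm, hcd, neg_zero])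

include hQs hQp in
lemma InZ_self {M : Subgroup (V ≃ₗ[F] V)} {a : V} (ha : Q a = 0) : InZ Q B M a a := by
  have haa : B a a = 0 := by rw [B_self Q B hQs hQp, ha, mul_zero]
  refine ⟨haa, fun t => ?_⟩
  have h1 := sieg_add_smul Q B hQs hQp ha (z := 0) (by simp) t
  rw [zero_add, sieg_zero_right Q B hQs hQp ha] at h1
  rw [h1]
  exact M.one_mem

include hQs hQp in
/-- If the part of the Siegel group at `a ∈ U` contained in `M` is larger than the part coming from
the stabiliser of the pair, it is everything. -/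
lemma full_of_notInT {U U' : Submodule F V} (P : TSPair Q B U U') {M : Subgroup (V ≃ₗ[F] V)}
    (hHE : HE Q B M U U') (hMO : M ≤ oG Q) {a : V} (ha : a ∈ U) {z : V}
    (hz : InZ Q B M a z) (hzT : ¬ InT B U' a z) : ∀ z, B a z = 0 → sieg Q B a z ∈ M := by
  have hsymm := B_symm Q B hQp
  have hQa : Q a = 0 := P.qU a ha
  obtain ⟨u, hu, y, hy, huy⟩ := P.dec z
  have hau : B a u = 0 := P.tiU hQp a ha u hu
  have hay : B a y = 0 := by
    have := hz.1
    rw [← huy, map_add, hau, zero_add] at this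
    exact this
  have hY : ∀ y ∈ U', B a y = 0 → InZ Q B M a y := fun y hy hay =>
    ⟨hay, fun t => hHE a ha (t • y) (U'.smul_mem t hy) (by rw [map_smul, hay, smul_zero])⟩
  have huZ : InZ Q B M a u := by
    have := InZ_sub hQs hQp hQa hz (hY y hy hay)
    rwa [← huy, add_sub_cancel_right] at this
  have hua : u ∉ Submodule.span F {a} := by
    intro h
    obtain ⟨α, rfl⟩ := Submodule.mem_span_singleton.mp h
    exact hzT ⟨α, y, hy, by rw [hsymm, hay], huy.symm⟩
  have haZ : InZ Q B M a a := InZ_self hQs hQp hQa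
  have key : ∀ c' ∈ U, InZ Q B M a c' := by
    intro c' hc'
    by_cases hc'E : c' ∈ Submodule.span F {a, u}
    · obtain ⟨α, β, rfl⟩ := Submodule.mem_span_pair.mp hc'E
      exact InZ_add hQs hQp hQa (InZ_smul α haZ) (InZ_smul β huZ)
    · have huE : u ∉ Submodule.span F {a, c'} := by
        intro h
        obtain ⟨α, γ, hαγ⟩ := Submodule.mem_span_pair.mp h
        by_cases hγ : γ = 0
        · apply hua
          rw [Submodule.mem_span_singleton]
          exact ⟨α, by rw [← hαγ, hγ, zero_smul, add_zero]⟩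
        · apply hc'E
          rw [Submodule.mem_span_pair]
          refine ⟨-(γ⁻¹ * α), γ⁻¹, ?_⟩
          rw [← hαγ, smul_add, smul_smul, smul_smul, inv_mul_cancel₀ hγ, one_smul]
          module
      have hEU : Submodule.span F {a, c'} ≤ U := by
        rw [Submodule.span_le]
        intro x hx
        rcases hx with rfl | rfl
        · exact ha
        · exact hc'
      obtain ⟨d, hd, hdE, hud⟩ := P.sep hQp _ hEU hu huE
      have had : B a d = 0 := hdE a (Submodule.subset_span (by simp))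
      have hc'd : B c' d = 0 := hdE c' (Submodule.subset_span (by simp))
      have hgM : sieg Q B c' d ∈ M := hHE c' hc' d hd hc'd
      have hgO := hMO hgM
      have hga : sieg Q B c' d a = a := by
        rw [sieg_apply Q B hQs hQp (P.qU c' hc') hc'd, P.tiU hQp a ha c' hc', had]
        simp
      have hgu : sieg Q B c' d u = u - B u d • c' := by
        rw [sieg_apply Q B hQs hQp (P.qU c' hc') hc'd, P.tiU hQp u hu c' hc']
        simp
      have h1 := InZ_map hQs hQp hgM hgO hQa huZ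
      rw [hga, hgu] at h1
      have h2 := InZ_sub hQs hQp hQa huZ h1
      have h3 := InZ_smul (B u d)⁻¹ h2
      have e : (B u d)⁻¹ • (u - (u - B u d • c')) = c' := by
        rw [sub_sub_cancel, smul_smul, inv_mul_cancel₀ hud, one_smul]
      rwa [e] at h3
  intro z' haz'
  obtain ⟨u2, hu2, y2, hy2, rfl⟩ := P.dec z'
  have hay2 : B a y2 = 0 := by
    have := haz'
    rw [map_add, P.tiU hQp a ha u2 hu2, zero_add] at this
    exact this
  have h1 := InZ_add hQs hQp hQa (key u2 hu2) (hY y2 hy2 hay2)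
  have h2 := h1.2 1
  rwa [one_smul] at h2

variable (Q B) in
/-- The full Siegel group at `v` lies in `M`. -/
def Full (M : Subgroup (V ≃ₗ[F] V)) (v : V) : Prop :=
  Q v = 0 ∧ ∀ z, B v z = 0 → sieg Q B v z ∈ M

include hQs hQp in
lemma Full_map {M : Subgroup (V ≃ₗ[F] V)} {g : V ≃ₗ[F] V} (hgM : g ∈ M) (hgO : g ∈ oG Q) {v : V}
    (h : Full Q B M v) : Full Q B M (g v) := by
  refine ⟨by rw [hgO, h.1], ?_⟩
  intro z hz
  have h1 : B v (g⁻¹ z) = 0 := by
    have := oG_B Q B hQp hgO v (g⁻¹ z)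
    rw [apply_inv_apply'] at this
    rw [← this]
    exact hz
  have h2 := conj_sieg Q B hQs hQp hgO h.1 h1
  rw [apply_inv_apply'] at h2
  rw [← h2]
  exact M.mul_mem (M.mul_mem hgM (h.2 _ h1)) (M.inv_mem hgM)

include hQs hQp in
lemma Full_smul {M : Subgroup (V ≃ₗ[F] V)} {v : V} (μ : F) (h : Full Q B M v) :
    Full Q B M (μ • v) := by
  refine ⟨by rw [hQs, h.1, mul_zero], ?_⟩
  intro z hz
  by_cases hμ : μ = 0
  · rw [hμ, zero_smul, sieg_zero_left Q B hQs hQp]
    exact M.one_mem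
  have hvz : B v z = 0 := by
    rw [map_smul, LinearMap.smul_apply, smul_eq_mul] at hz
    exact (mul_eq_zero.mp hz).resolve_left hμ
  rw [sieg_smul_left Q B hQs hQp h.1 hvz]
  exact h.2 _ (by rw [map_smul, hvz, smul_zero])

include hQs hQp in
lemma spread {U U' : Submodule F V} (P : TSPair Q B U U') {M : Subgroup (V ≃ₗ[F] V)}
    (hHE : HE Q B M U U') (hMO : M ≤ oG Q) {a : V} (ha : a ∈ U) (ha0 : a ≠ 0)
    (haF : Full Q B M a) : ∀ a1 ∈ U, Full Q B M a1 := by
  have hsymm := B_symm Q B hQp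
  intro a1 ha1
  by_cases ha10 : a1 = 0
  · have := Full_smul hQs hQp (0 : F) haF
    rwa [zero_smul, ← ha10] at this
  have hx : ∀ v ∈ U, v ≠ 0 → ∃ x ∈ U', B x v ≠ 0 := by
    intro v hv hv0
    by_contra hcon
    push Not at hcon
    exact hv0 (P.pairU hQp v hv hcon)
  obtain ⟨b, hb, hba, hba1⟩ := exists_both_ne_zero B U' (hx a ha ha0) (hx a1 ha1 ha10)
  have hab : B a b ≠ 0 := by rw [hsymm]; exact hba
  have ha1b : B a1 b ≠ 0 := by rw [hsymm]; exact hba1
  obtain ⟨μ, hμdef⟩ : ∃ μ : F, μ = B a b / B a1 b := ⟨_, rfl⟩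
  have hμ : μ ≠ 0 := by rw [hμdef]; exact div_ne_zero hab ha1b
  have hcU : μ • a1 - a ∈ U := U.sub_mem (U.smul_mem _ ha1) ha
  have hcy : B (μ • a1 - a) ((-(B a b)⁻¹) • b) = 0 := by
    simp only [map_sub, map_smul, LinearMap.sub_apply, LinearMap.smul_apply, smul_eq_mul]
    rw [hμdef]
    field_simp
    ring
  have hgM := hHE _ hcU _ (U'.smul_mem (-(B a b)⁻¹) hb) hcy
  have hgO := hMO hgM
  have hmove : sieg Q B (μ • a1 - a) ((-(B a b)⁻¹) • b) a = μ • a1 := by
    rw [sieg_apply Q B hQs hQp (P.qU _ hcU) hcy, P.tiU hQp a ha _ hcU]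
    have e1 : B a ((-(B a b)⁻¹) • b) = -1 := by
      rw [map_smul, smul_eq_mul, neg_mul, inv_mul_cancel₀ hab]
    rw [e1]
    simp
  have h3 := Full_map hQs hQp hgM hgO haF
  rw [hmove] at h3
  have h4 := Full_smul hQs hQp μ⁻¹ h3
  rwa [smul_smul, inv_mul_cancel₀ hμ, one_smul] at h4

include hQs hQp in
/-- From one full Siegel group at a point of `U` to all Siegel elements. -/
lemma all_of_full' {U U' : Submodule F V} (P : TSPair Q B U U') {M : Subgroup (V ≃ₗ[F] V)}
    (hHE : HE Q B M U U') (hMO : M ≤ oG Q) {s : V ≃ₗ[F] V} (hsM : s ∈ M)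
    (hsU : ∀ u ∈ U, s u ∈ U') (hsU' : ∀ u ∈ U', s u ∈ U)
    {a : V} (ha : a ∈ U) (ha0 : a ≠ 0) (haF : Full Q B M a) :
    ∀ u z, Q u = 0 → B u z = 0 → sieg Q B u z ∈ M := by
  have hsO := hMO hsM
  have h1 := spread hQs hQp P hHE hMO ha ha0 haF
  have h2 : ∀ b ∈ U', Full Q B M b := by
    intro b hb
    have := Full_map hQs hQp (M.inv_mem hsM) ((oG Q).inv_mem hsO) (h1 _ (hsU' b hb))
    rwa [inv_apply_apply'] at this
  obtain ⟨b, hb, hba⟩ : ∃ b ∈ U', B b a ≠ 0 := by
    by_contra hcon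
    push Not at hcon
    exact ha0 (P.pairU hQp a ha hcon)
  exact all_of_pair Q B hQs hQp P.nd M hMO (h2 b hb) haF hba

end Core


section Key

variable [Finite F] [FiniteDimensional F V] {Q : V → F} {B : LinearMap.BilinForm F V}
  (hQs : ∀ (c : F) (v : V), Q (c • v) = c * c * Q v)
  (hQp : ∀ u v : V, Q (u + v) = Q u + Q v + B u v)

lemma finrank_span_three_le (x y z : V) : finrank F (Submodule.span F ({x, y, z} : Set V)) ≤ 3 := by
  classical
  have h6 := finrank_span_finset_le_card (R := F) ({x, y, z} : Finset V)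
  have h7 : (({x, y, z} : Finset V) : Set V) = {x, y, z} := by simp
  rw [h7, Set.finrank] at h6
  have := Finset.card_le_three (a := x) (b := y) (c := z)
  omega

lemma finrank_span_two_le (x y : V) : finrank F (Submodule.span F ({x, y} : Set V)) ≤ 2 := by
  classical
  have h6 := finrank_span_finset_le_card (R := F) ({x, y} : Finset V)
  have h7 : (({x, y} : Finset V) : Set V) = {x, y} := by simp
  rw [h7, Set.finrank] at h6
  have := Finset.card_le_two (a := x) (b := y)
  omega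

include hQs hQp in
/-- A totally isotropic subspace containing `u ∈ U`, `u' ∈ U'` and invariant under the Siegel
elements of the pair fixing `u` and `u'` lies in `F u + U'` or in `F u' + U`. -/
lemma key_claim {U U' : Submodule F V} (P : TSPair Q B U U') (h7 : 7 ≤ finrank F U)
    (T : Submodule F V) (hT : ∀ t1 ∈ T, ∀ t2 ∈ T, B t1 t2 = 0)
    {u u' : V} (hu : u ∈ U) (hu' : u' ∈ U') (huT : u ∈ T) (hu'T : u' ∈ T)
    (hinv : ∀ c ∈ U, ∀ d ∈ U', B c d = 0 → B c u' = 0 → B u d = 0 →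
      ∀ t ∈ T, sieg Q B c d t ∈ T) :
    (∀ t ∈ T, InT B U' u t) ∨ (∀ t ∈ T, InT B U u' t) := by
  have hsymm := B_symm Q B hQp
  by_contra hcon
  push Not at hcon
  obtain ⟨⟨t1, ht1, hn1⟩, ⟨t2, ht2, hn2⟩⟩ := hcon
  obtain ⟨x1, hx1, x1', hx1', ht1e⟩ := P.dec t1
  obtain ⟨x2, hx2, x2', hx2', ht2e⟩ := P.dec t2
  have h1 : B x1' u = 0 := by
    have := hT t1 ht1 u huT
    rw [← ht1e, map_add, LinearMap.add_apply, P.tiU hQp x1 hx1 u hu, zero_add] at this
    exact this
  have h2 : B x2 u' = 0 := by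
    have := hT t2 ht2 u' hu'T
    rw [← ht2e, map_add, LinearMap.add_apply, P.tiU' hQp x2' hx2' u' hu', add_zero] at this
    exact this
  have hx1u : x1 ∉ Submodule.span F {u} := by
    intro h
    obtain ⟨α, rfl⟩ := Submodule.mem_span_singleton.mp h
    exact hn1 ⟨α, x1', hx1', h1, ht1e.symm⟩
  have hx2u' : x2' ∉ Submodule.span F {u'} := by
    intro h
    obtain ⟨α, rfl⟩ := Submodule.mem_span_singleton.mp h
    exact hn2 ⟨α, x2, hx2, h2, by rw [← ht2e, add_comm]⟩
  obtain ⟨d1, hd1, hd1E, hx1d1⟩ := P.sep hQp (Submodule.span F {u})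
    (by rw [Submodule.span_le]; intro x hx; rw [Set.mem_singleton_iff.mp hx]; exact hu) hx1 hx1u
  have hud1 : B u d1 = 0 := hd1E u (Submodule.mem_span_singleton_self u)
  obtain ⟨c2, hc2, hc2E, hx2c2⟩ := P.symm.sep hQp (Submodule.span F {u'})
    (by rw [Submodule.span_le]; intro x hx; rw [Set.mem_singleton_iff.mp hx]; exact hu') hx2' hx2u'
  have hu'c2 : B u' c2 = 0 := hc2E u' (Submodule.mem_span_singleton_self u')
  have hC1 : ∀ c ∈ U, B c u' = 0 → B c d1 = 0 → B c x1' = 0 → c ∈ T := by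
    intro c hc hcu' hcd1 hcx1'
    have h3 := hinv c hc d1 hd1 hcd1 hcu' hud1 _ ht1
    rw [sieg_apply Q B hQs hQp (P.qU c hc) hcd1, P.qU' d1 hd1] at h3
    have e1 : B t1 c = 0 := by
      rw [← ht1e, map_add, LinearMap.add_apply, P.tiU hQp x1 hx1 c hc, zero_add, hsymm, hcx1']
    have e2 : B t1 d1 = B x1 d1 := by
      rw [← ht1e, map_add, LinearMap.add_apply, P.tiU' hQp x1' hx1' d1 hd1, add_zero]
    rw [e1, e2] at h3
    have h4 := T.sub_mem ht1 h3
    have e3 : t1 - (t1 + (0 : F) • d1 - B x1 d1 • c - (0 * 0 : F) • c) = B x1 d1 • c := by module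
    rw [e3] at h4
    have h5 := T.smul_mem (B x1 d1)⁻¹ h4
    rwa [smul_smul, inv_mul_cancel₀ hx1d1, one_smul] at h5
  have hC2 : ∀ d ∈ U', B u d = 0 → B c2 d = 0 → B x2 d = 0 → d ∈ T := by
    intro d hd hud hc2d hx2d
    have h3 := hinv c2 hc2 d hd hc2d (by rw [hsymm, hu'c2]) hud _ ht2
    rw [sieg_apply Q B hQs hQp (P.qU c2 hc2) hc2d, P.qU' d hd] at h3
    have e1 : B t2 c2 = B x2' c2 := by
      rw [← ht2e, map_add, LinearMap.add_apply, P.tiU hQp x2 hx2 c2 hc2, zero_add]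
    have e2 : B t2 d = 0 := by
      rw [← ht2e, map_add, LinearMap.add_apply, P.tiU' hQp x2' hx2' d hd, add_zero, hx2d]
    rw [e1, e2] at h3
    have h4 := T.sub_mem h3 ht2
    have e3 : t2 + B x2' c2 • d - (0 : F) • c2 - (0 * B x2' c2 : F) • c2 - t2 = B x2' c2 • d := by
      module
    rw [e3] at h4
    have h5 := T.smul_mem (B x2' c2)⁻¹ h4
    rwa [smul_smul, inv_mul_cancel₀ hx2c2, one_smul] at h5
  -- a vector of `C1` outside `span {u, c2, x2}`
  have hf1 := finrank_le_inf_ker_add_one U (B.flip u')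
  have hf2 := finrank_le_inf_ker_add_one (U ⊓ LinearMap.ker (B.flip u')) (B.flip d1)
  have hf3 := finrank_le_inf_ker_add_one
    (U ⊓ LinearMap.ker (B.flip u') ⊓ LinearMap.ker (B.flip d1)) (B.flip x1')
  have hf4 := finrank_span_three_le (F := F) u c2 x2
  obtain ⟨c, hcC, hcE⟩ : ∃ c ∈ (U ⊓ LinearMap.ker (B.flip u') ⊓ LinearMap.ker (B.flip d1) ⊓
      LinearMap.ker (B.flip x1') : Submodule F V), c ∉ Submodule.span F {u, c2, x2} := by
    by_contra hcon
    push Not at hcon
    have := Submodule.finrank_mono (show (U ⊓ LinearMap.ker (B.flip u') ⊓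
      LinearMap.ker (B.flip d1) ⊓ LinearMap.ker (B.flip x1') : Submodule F V) ≤
        Submodule.span F {u, c2, x2} from hcon)
    omega
  have hcU : c ∈ U := hcC.1.1.1
  have hE2 : Submodule.span F {u, c2, x2} ≤ U := by
    rw [Submodule.span_le]
    intro x hx
    rcases hx with rfl | rfl | rfl
    · exact hu
    · exact hc2
    · exact hx2
  obtain ⟨d, hd, hdE, hcd⟩ := P.sep hQp _ hE2 hcU hcE
  have hcT : c ∈ T := hC1 c hcU (mem_ker_flip.mp hcC.1.1.2) (mem_ker_flip.mp hcC.1.2)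
    (mem_ker_flip.mp hcC.2)
  have hdT : d ∈ T := hC2 d hd (hdE u (Submodule.subset_span (by simp)))
    (hdE c2 (Submodule.subset_span (by simp))) (hdE x2 (Submodule.subset_span (by simp)))
  exact hcd (hT c hcT d hdT)

end Key


section Like

variable [Finite F] [FiniteDimensional F V] {Q : V → F} {B : LinearMap.BilinForm F V}
  (hQs : ∀ (c : F) (v : V), Q (c • v) = c * c * Q v)
  (hQp : ∀ u v : V, Q (u + v) = Q u + Q v + B u v)

include hQs hQp in
/-- The sets `F c + (Uo ∩ c^⊥)` are totally isotropic. -/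
lemma InT_iso {Uo : Submodule F V} (hUo : ∀ u ∈ Uo, ∀ v ∈ Uo, B u v = 0) {c : V} (hc : Q c = 0)
    {z1 z2 : V} (h1 : InT B Uo c z1) (h2 : InT B Uo c z2) : B z1 z2 = 0 := by
  have hsymm := B_symm Q B hQp
  obtain ⟨α, y, hy, hyc, rfl⟩ := h1
  obtain ⟨β, y', hy', hy'c, rfl⟩ := h2
  have hcc : B c c = 0 := by rw [B_self Q B hQs hQp, hc, mul_zero]
  simp only [map_add, map_smul, LinearMap.add_apply, LinearMap.smul_apply, smul_eq_mul]
  rw [hcc, hyc, hsymm c y', hy'c, hUo y hy y' hy']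
  ring

/-- `a` is `W`-like for `m`: the image of `F a + (U' ∩ a^⊥)` lies in `F c + (W' ∩ c^⊥)` for some
nonzero `c ∈ W`. -/
def LikeW (B : LinearMap.BilinForm F V) (U' W W' : Submodule F V) (m : V ≃ₗ[F] V) (a : V) : Prop :=
  ∃ c ∈ W, c ≠ 0 ∧ ∀ t, InT B U' a t → InT B W' c (m t)

include hQs hQp in
/-- Step A: every nonzero vector of `U` is `U`-like or `U'`-like. -/
lemma like_cases {U U' : Submodule F V} (P : TSPair Q B U U') (h7 : 7 ≤ finrank F U)
    {M : Subgroup (V ≃ₗ[F] V)} (hHE : HE Q B M U U') (hMO : M ≤ oG Q)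
    (hZU : ∀ a ∈ U, a ≠ 0 → ∀ z, InZ Q B M a z → InT B U' a z)
    (hZU' : ∀ b ∈ U', b ≠ 0 → ∀ z, InZ Q B M b z → InT B U b z)
    {m : V ≃ₗ[F] V} (hmM : m ∈ M) {a : V} (ha : a ∈ U) (ha0 : a ≠ 0) :
    LikeW B U' U U' m a ∨ LikeW B U' U' U m a := by
  have hsymm := B_symm Q B hQp
  have hmO := hMO hmM
  have hQa := P.qU a ha
  have hTZ : ∀ t, InT B U' a t → InZ Q B M a t := by
    rintro t ⟨α, y, hy, hya, rfl⟩
    have hay : B a y = 0 := by rw [hsymm, hya]
    exact InZ_add hQs hQp hQa (InZ_smul α (InZ_self hQs hQp hQa))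
      ⟨hay, fun s => hHE a ha (s • y) (U'.smul_mem s hy) (by rw [map_smul, hay, smul_zero])⟩
  obtain ⟨p, hpm⟩ : ∃ p, m a = p := ⟨_, rfl⟩
  have hmT : ∀ t, InT B U' a t → InZ Q B M p (m t) := fun t ht => by
    have := InZ_map hQs hQp hmM hmO hQa (hTZ t ht)
    rwa [hpm] at this
  have hQp' : Q p = 0 := by rw [← hpm, hmO, hQa]
  have hp0 : p ≠ 0 := by
    intro h
    apply ha0
    rw [h] at hpm
    exact (LinearEquiv.map_eq_zero_iff m).mp hpm
  have hap : m⁻¹ p = a := by rw [← hpm, inv_apply_apply']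
  obtain ⟨u, hu, u', hu', hp⟩ := P.dec p
  by_cases hu'0 : u' = 0
  · left
    have hpu : p = u := by rw [← hp, hu'0, add_zero]
    exact ⟨p, hpu ▸ hu, hp0, fun t ht => hZU p (hpu ▸ hu) hp0 _ (hmT t ht)⟩
  by_cases hu0 : u = 0
  · right
    have hpu : p = u' := by rw [← hp, hu0, zero_add]
    exact ⟨p, hpu ▸ hu', hp0, fun t ht => hZU' p (hpu ▸ hu') hp0 _ (hmT t ht)⟩
  have huu' : B u u' = 0 := by
    have := hQp u u'
    rw [hp, hQp', P.qU u hu, P.qU' u' hu'] at this
    linear_combination -this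
  have hu'u : B u' u = 0 := by rw [hsymm, huu']
  let T : Submodule F V :=
    { carrier := {z | InZ Q B M p z}
      add_mem' := fun h1 h2 => InZ_add hQs hQp hQp' h1 h2
      zero_mem' := InZ_zero hQs hQp hQp'
      smul_mem' := fun c _ h => InZ_smul c h }
  have hTmem : ∀ z, z ∈ T ↔ InZ Q B M p z := fun z => Iff.rfl
  have hTiso : ∀ t1 ∈ T, ∀ t2 ∈ T, B t1 t2 = 0 := by
    intro t1 ht1 t2 ht2
    have hiO : m⁻¹ ∈ oG Q := (oG Q).inv_mem hmO
    have h1 := InZ_map hQs hQp (M.inv_mem hmM) hiO hQp' ((hTmem t1).mp ht1)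
    have h2 := InZ_map hQs hQp (M.inv_mem hmM) hiO hQp' ((hTmem t2).mp ht2)
    rw [hap] at h1 h2
    have h3 := hZU a ha ha0 _ h1
    have h4 := hZU a ha ha0 _ h2
    have h5 := InT_iso hQs hQp (P.tiU' hQp) hQa h3 h4
    rwa [oG_B Q B hQp hiO] at h5
  have hpu : B p u = 0 := by
    rw [← hp, map_add, LinearMap.add_apply, P.tiU hQp u hu u hu, zero_add, hu'u]
  have hpu' : B p u' = 0 := by
    rw [← hp, map_add, LinearMap.add_apply, P.tiU' hQp u' hu' u' hu', add_zero, huu']
  have huT : u ∈ T := by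
    rw [hTmem]
    refine ⟨hpu, fun t => ?_⟩
    have e : sieg Q B p (t • u) = sieg Q B u' (t • u) := by
      ext x
      rw [sieg_apply Q B hQs hQp hQp' (by rw [map_smul, hpu, smul_zero]),
        sieg_apply Q B hQs hQp (P.qU' u' hu') (by rw [map_smul, hu'u, smul_zero]),
        hQs, P.qU u hu, ← hp]
      simp only [map_add, map_smul, smul_eq_mul]
      module
    rw [e]
    exact (HE.symm hQs hQp P hHE) u' hu' (t • u) (U.smul_mem t hu)
      (by rw [map_smul, hu'u, smul_zero])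
  have hu'T : u' ∈ T := by
    rw [hTmem]
    refine ⟨hpu', fun t => ?_⟩
    have e : sieg Q B p (t • u') = sieg Q B u (t • u') := by
      ext x
      rw [sieg_apply Q B hQs hQp hQp' (by rw [map_smul, hpu', smul_zero]),
        sieg_apply Q B hQs hQp (P.qU u hu) (by rw [map_smul, huu', smul_zero]),
        hQs, P.qU' u' hu', ← hp]
      simp only [map_add, map_smul, smul_eq_mul]
      module
    rw [e]
    exact hHE u hu (t • u') (U'.smul_mem t hu') (by rw [map_smul, huu', smul_zero])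
  have hinv : ∀ c ∈ U, ∀ d ∈ U', B c d = 0 → B c u' = 0 → B u d = 0 →
      ∀ t ∈ T, sieg Q B c d t ∈ T := by
    intro c hc d hd hcd hcu' hud t ht
    have hgM := hHE c hc d hd hcd
    have hgO := hMO hgM
    have e1 : B p c = 0 := by
      rw [← hp, map_add, LinearMap.add_apply, P.tiU hQp u hu c hc, hsymm u' c, hcu', add_zero]
    have e2 : B p d = 0 := by
      rw [← hp, map_add, LinearMap.add_apply, hud, P.tiU' hQp u' hu' d hd, add_zero]
    have hfix : sieg Q B c d p = p := by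
      rw [sieg_apply Q B hQs hQp (P.qU c hc) hcd, e1, e2]
      simp
    have := InZ_map hQs hQp hgM hgO hQp' ((hTmem t).mp ht)
    rw [hfix] at this
    exact (hTmem _).mpr this
  rcases key_claim hQs hQp P h7 T hTiso hu hu' huT hu'T hinv with h | h
  · left
    exact ⟨u, hu, hu0, fun t ht => h _ ((hTmem _).mpr (hmT t ht))⟩
  · right
    exact ⟨u', hu', hu'0, fun t ht => h _ ((hTmem _).mpr (hmT t ht))⟩

include hQp in
/-- Step B: a `U`-like and a `U'`-like vector cannot coexist. -/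
lemma not_mixed {U U' : Submodule F V} (P : TSPair Q B U U') (h5 : 5 ≤ finrank F U')
    {m : V ≃ₗ[F] V} {a1 a2 c1 c2 : V} (hc1 : c1 ∈ U) (hc2 : c2 ∈ U')
    (h1 : ∀ t, InT B U' a1 t → InT B U' c1 (m t))
    (h2 : ∀ t, InT B U' a2 t → InT B U c2 (m t)) : False := by
  have hf1 := finrank_le_inf_ker_add_one U' (B.flip a1)
  have hf2 := finrank_le_inf_ker_add_one (U' ⊓ LinearMap.ker (B.flip a1)) (B.flip a2)
  have hY : ∀ y ∈ (U' ⊓ LinearMap.ker (B.flip a1) ⊓ LinearMap.ker (B.flip a2) : Submodule F V),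
      m y ∈ Submodule.span F {c1, c2} := by
    intro y hy
    have hyU' : y ∈ U' := hy.1.1
    have hya1 : B y a1 = 0 := mem_ker_flip.mp hy.1.2
    have hya2 : B y a2 = 0 := mem_ker_flip.mp hy.2
    obtain ⟨α, y1, hy1, -, e1⟩ := h1 y ⟨0, y, hyU', hya1, by simp⟩
    obtain ⟨β, x2, hx2, -, e2⟩ := h2 y ⟨0, y, hyU', hya2, by simp⟩
    have h3 : α • c1 - x2 = β • c2 - y1 := by
      rw [sub_eq_sub_iff_add_eq_add]
      exact e1.symm.trans e2
    have h4 : α • c1 - x2 ∈ (U ⊓ U' : Submodule F V) :=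
      ⟨U.sub_mem (U.smul_mem _ hc1) hx2, h3 ▸ U'.sub_mem (U'.smul_mem _ hc2) hy1⟩
    rw [P.inf_eq_bot hQp, Submodule.mem_bot, sub_eq_zero] at h4
    rw [e2, ← h4, Submodule.mem_span_pair]
    exact ⟨α, β, by rw [add_comm]⟩
  have hle : (U' ⊓ LinearMap.ker (B.flip a1) ⊓ LinearMap.ker (B.flip a2) : Submodule F V).map
      (m : V →ₗ[F] V) ≤ Submodule.span F {c1, c2} := by
    rintro _ ⟨y, hy, rfl⟩
    exact hY y hy
  have h6 := Submodule.finrank_mono hle
  rw [LinearEquiv.finrank_map_eq m] at h6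
  have h7 := finrank_span_two_le (F := F) c1 c2
  omega

include hQs hQp in
/-- Step C: if every nonzero vector of `U` is `W`-like then `m` maps `U'` into `W'`. -/
lemma map_mem_of_like {U U' W W' : Submodule F V} (P : TSPair Q B U U') (P2 : TSPair Q B W W')
    (h3 : 3 ≤ finrank F U) {m : V ≃ₗ[F] V} (hmO : m ∈ oG Q)
    (hlike : ∀ a ∈ U, a ≠ 0 → LikeW B U' W W' m a) : ∀ y ∈ U', m y ∈ W' := by
  have hsymm := B_symm Q B hQp
  intro y hy
  obtain ⟨v, hv, v', hv', hvv'⟩ := P2.dec (m y)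
  by_contra hcon
  have hv0 : v ≠ 0 := by
    intro h
    apply hcon
    rw [← hvv', h, zero_add]
    exact hv'
  have hkey : ∀ a ∈ U, a ≠ 0 → B y a = 0 → ∀ t, InT B U' a t → InT B W' v (m t) := by
    intro a ha ha0 hya t ht
    obtain ⟨c, hc, hc0, hct⟩ := hlike a ha ha0
    obtain ⟨α, y1, hy1, hy1c, e1⟩ := hct y ⟨0, y, hy, hya, by simp⟩
    have h3 : α • c - v = v' - y1 := by
      rw [sub_eq_sub_iff_add_eq_add, ← e1, add_comm v' v]
      exact hvv'.symm
    have h4 : α • c - v ∈ (W ⊓ W' : Submodule F V) :=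
      ⟨W.sub_mem (W.smul_mem _ hc) hv, h3 ▸ W'.sub_mem hv' hy1⟩
    rw [P2.inf_eq_bot hQp, Submodule.mem_bot, sub_eq_zero] at h4
    have hα : α ≠ 0 := by
      intro h
      rw [h, zero_smul] at h4
      exact hv0 h4.symm
    obtain ⟨β, y2, hy2, hy2c, e2⟩ := hct t ht
    refine ⟨β * α⁻¹, y2, hy2, ?_, ?_⟩
    · rw [← h4, map_smul, smul_eq_mul, hy2c, mul_zero]
    · rw [e2, ← h4, smul_smul, mul_assoc, inv_mul_cancel₀ hα, mul_one]
  have hf1 := finrank_le_inf_ker_add_one U (B.flip y)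
  obtain ⟨a1, ha1X, ha10⟩ : ∃ a1 ∈ (U ⊓ LinearMap.ker (B.flip y) : Submodule F V), a1 ≠ 0 := by
    apply Submodule.exists_mem_ne_zero_of_ne_bot
    intro h
    rw [h, finrank_bot] at hf1
    omega
  obtain ⟨a2, ha2X, ha2n⟩ : ∃ a2 ∈ (U ⊓ LinearMap.ker (B.flip y) : Submodule F V),
      a2 ∉ Submodule.span F {a1} := by
    by_contra hcon2
    push Not at hcon2
    have h8 := Submodule.finrank_mono (show (U ⊓ LinearMap.ker (B.flip y) : Submodule F V) ≤
      Submodule.span F {a1} from hcon2)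
    have h9 := finrank_span_singleton (K := F) ha10
    omega
  obtain ⟨y2, hy2, hy2E, ha2y2⟩ := P.sep hQp (Submodule.span F {a1})
    (by rw [Submodule.span_le]; intro x hx; rw [Set.mem_singleton_iff.mp hx]; exact ha1X.1)
    ha2X.1 ha2n
  have hB1 : B a1 y2 = 0 := hy2E a1 (Submodule.mem_span_singleton_self a1)
  have hya1 : B y a1 = 0 := by rw [hsymm]; exact mem_ker_flip.mp ha1X.2
  have hya2 : B y a2 = 0 := by rw [hsymm]; exact mem_ker_flip.mp ha2X.2
  have ha20 : a2 ≠ 0 := fun h => ha2n (h ▸ Submodule.zero_mem _)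
  have ht1 := hkey a1 ha1X.1 ha10 hya1 y2 ⟨0, y2, hy2, by rw [hsymm, hB1], by simp⟩
  have ht2 := hkey a2 ha2X.1 ha20 hya2 a2 ⟨1, 0, U'.zero_mem, by simp, by simp⟩
  have h5 := InT_iso hQs hQp (P2.tiU' hQp) (P2.qU v hv) ht2 ht1
  rw [oG_B Q B hQp hmO] at h5
  exact ha2y2 h5

include hQs hQp in
/-- In the small case every element of `M` maps `U'` into `U'` or into `U`. -/
lemma map_U'_of_small {U U' : Submodule F V} (P : TSPair Q B U U') (h7 : 7 ≤ finrank F U)
    (h7' : 7 ≤ finrank F U')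
    {M : Subgroup (V ≃ₗ[F] V)} (hHE : HE Q B M U U') (hMO : M ≤ oG Q)
    (hZU : ∀ a ∈ U, a ≠ 0 → ∀ z, InZ Q B M a z → InT B U' a z)
    (hZU' : ∀ b ∈ U', b ≠ 0 → ∀ z, InZ Q B M b z → InT B U b z)
    {m : V ≃ₗ[F] V} (hmM : m ∈ M) :
    (∀ y ∈ U', m y ∈ U') ∨ (∀ y ∈ U', m y ∈ U) := by
  have hmO := hMO hmM
  have hA : ∀ a ∈ U, a ≠ 0 → LikeW B U' U U' m a ∨ LikeW B U' U' U m a := fun a ha ha0 =>
    like_cases hQs hQp P h7 hHE hMO hZU hZU' hmM ha ha0
  by_cases hall : ∀ a ∈ U, a ≠ 0 → LikeW B U' U U' m a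
  · left
    exact map_mem_of_like hQs hQp P P (by omega) hmO hall
  · right
    push Not at hall
    obtain ⟨a1, ha1, ha10, hna1⟩ := hall
    apply map_mem_of_like hQs hQp P P.symm (by omega) hmO
    intro a ha ha0
    rcases hA a ha ha0 with h | h
    · exfalso
      obtain ⟨c1, hc1, -, h1⟩ := h
      rcases hA a1 ha1 ha10 with h' | h'
      · exact hna1 h'
      · obtain ⟨c2, hc2, -, h2⟩ := h'
        exact not_mixed hQp P (by omega) hc1 hc2 h1 h2
    · exact h

end Like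

section Swap

variable [FiniteDimensional F V] {Q : V → F} {B : LinearMap.BilinForm F V}
  (hQs : ∀ (c : F) (v : V), Q (c • v) = c * c * Q v)
  (hQp : ∀ u v : V, Q (u + v) = Q u + Q v + B u v)

lemma finrank_inf_ker_add_one (X : Submodule F V) (φ : V →ₗ[F] F) {e : V} (he : e ∈ X)
    (hφ : φ e ≠ 0) : finrank F (X ⊓ LinearMap.ker φ : Submodule F V) + 1 = finrank F X := by
  have h1 := finrank_le_inf_ker_add_one X φ
  have h2 : finrank F (X ⊓ LinearMap.ker φ : Submodule F V) < finrank F X := by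
    apply Submodule.finrank_lt_finrank_of_lt
    refine lt_of_le_of_ne inf_le_left ?_
    intro h
    have : e ∈ (X ⊓ LinearMap.ker φ : Submodule F V) := by rw [h]; exact he
    exact hφ (LinearMap.mem_ker.mp this.2)
  omega

include hQp in
/-- The pairing passes to the complements of a hyperbolic pair. -/
lemma pair_step {U U' : Submodule F V}
    (hp : ∀ u ∈ U, (∀ y ∈ U', B y u = 0) → u = 0) {e f : V} (hf : f ∈ U')
    (hef : B e f = 1) :
    ∀ u ∈ (U ⊓ LinearMap.ker (B.flip f) : Submodule F V),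
      (∀ y ∈ (U' ⊓ LinearMap.ker (B.flip e) : Submodule F V), B y u = 0) → u = 0 := by
  have hsymm := B_symm Q B hQp
  intro u hu hyp
  apply hp u hu.1
  intro y hy
  have hmem : y - B y e • f ∈ (U' ⊓ LinearMap.ker (B.flip e) : Submodule F V) := by
    refine ⟨U'.sub_mem hy (U'.smul_mem _ hf), mem_ker_flip.mpr ?_⟩
    rw [map_sub, map_smul, LinearMap.sub_apply, LinearMap.smul_apply, smul_eq_mul, hsymm f e, hef,
      mul_one, sub_self]
  have h0 := hyp _ hmem
  have huf : B f u = 0 := by rw [hsymm]; exact mem_ker_flip.mp hu.2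
  rw [map_sub, map_smul, LinearMap.sub_apply, LinearMap.smul_apply, smul_eq_mul, huf, mul_zero,
    sub_zero] at h0
  exact h0

include hQp in
lemma exists_dual {U U' : Submodule F V} (hp : ∀ u ∈ U, (∀ y ∈ U', B y u = 0) → u = 0) {e : V}
    (he : e ∈ U) (he0 : e ≠ 0) : ∃ f ∈ U', B e f = 1 := by
  have hsymm := B_symm Q B hQp
  by_contra hcon
  push Not at hcon
  apply he0
  apply hp e he
  intro y hy
  by_contra hne
  have hne' : B e y ≠ 0 := by rwa [hsymm]
  exact hcon ((B e y)⁻¹ • y) (U'.smul_mem _ hy)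
    (by rw [map_smul, smul_eq_mul, inv_mul_cancel₀ hne'])

include hQs hQp in
/-- A product of Siegel elements interchanging two dually paired totally singular subspaces of even
dimension. -/
theorem exists_swap_aux : ∀ (n : ℕ) (U U' : Submodule F V), finrank F U = 2 * n →
    (∀ u ∈ U, Q u = 0) → (∀ u ∈ U', Q u = 0) →
    (∀ u ∈ U, (∀ y ∈ U', B y u = 0) → u = 0) → (∀ u ∈ U', (∀ y ∈ U, B y u = 0) → u = 0) →
    ∃ g : V ≃ₗ[F] V,
      (∀ M : Subgroup (V ≃ₗ[F] V), (∀ u z, Q u = 0 → B u z = 0 → sieg Q B u z ∈ M) → g ∈ M) ∧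
      (∀ u ∈ U, g u ∈ U') ∧ (∀ u ∈ U', g u ∈ U) ∧
      ∀ x, (∀ y ∈ U, B y x = 0) → (∀ y ∈ U', B y x = 0) → g x = x := by
  intro n
  induction n with
  | zero =>
    intro U U' hfr hqU hqU' hp hp'
    have hU0 : U = ⊥ := Submodule.finrank_eq_zero.mp (by omega)
    refine ⟨1, fun M _ => M.one_mem, ?_, ?_, fun x _ _ => rfl⟩
    · intro u hu
      rw [hU0, Submodule.mem_bot] at hu
      rw [hu, map_zero]
      exact U'.zero_mem
    · intro u hu
      have : u = 0 := hp' u hu (fun y hy => by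
        rw [hU0, Submodule.mem_bot] at hy
        rw [hy, map_zero, LinearMap.zero_apply])
      rw [this, map_zero]
      exact U.zero_mem
  | succ n ih =>
    intro U U' hfr hqU hqU' hp hp'
    have hsymm := B_symm Q B hQp
    have htiU : ∀ u ∈ U, ∀ v ∈ U, B u v = 0 := by
      intro u hu v hv
      have := hQp u v
      rw [hqU u hu, hqU v hv, hqU _ (U.add_mem hu hv)] at this
      linear_combination -this
    have htiU' : ∀ u ∈ U', ∀ v ∈ U', B u v = 0 := by
      intro u hu v hv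
      have := hQp u v
      rw [hqU' u hu, hqU' v hv, hqU' _ (U'.add_mem hu hv)] at this
      linear_combination -this
    have hU0 : U ≠ ⊥ := by
      intro h
      rw [h, finrank_bot] at hfr
      omega
    obtain ⟨e1, he1, he10⟩ := Submodule.exists_mem_ne_zero_of_ne_bot hU0
    obtain ⟨f1, hf1, hef1⟩ := exists_dual hQp hp he1 he10
    have hfe1 : B f1 e1 = 1 := by rw [hsymm, hef1]
    have hfr1 := finrank_inf_ker_add_one U (B.flip f1) he1
      (by show B e1 f1 ≠ 0; rw [hef1]; exact one_ne_zero)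
    have hp1 := pair_step hQp hp hf1 hef1
    have hp1' := pair_step hQp hp' he1 hfe1
    have hU10 : (U ⊓ LinearMap.ker (B.flip f1) : Submodule F V) ≠ ⊥ := by
      intro h
      rw [h, finrank_bot] at hfr1
      omega
    obtain ⟨e2, he2, he20⟩ := Submodule.exists_mem_ne_zero_of_ne_bot hU10
    obtain ⟨f2, hf2, hef2⟩ := exists_dual hQp hp1 he2 he20
    have hfe2 : B f2 e2 = 1 := by rw [hsymm, hef2]
    have hfr2 := finrank_inf_ker_add_one (U ⊓ LinearMap.ker (B.flip f1)) (B.flip f2) he2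
      (by show B e2 f2 ≠ 0; rw [hef2]; exact one_ne_zero)
    have hp2 := pair_step hQp hp1 hf2 hef2
    have hp2' := pair_step hQp hp1' he2 hfe2
    obtain ⟨g1, hg1M, hg1U, hg1U', hg1fix⟩ :=
      ih (U ⊓ LinearMap.ker (B.flip f1) ⊓ LinearMap.ker (B.flip f2))
        (U' ⊓ LinearMap.ker (B.flip e1) ⊓ LinearMap.ker (B.flip e2)) (by omega)
        (fun u hu => hqU u hu.1.1) (fun u hu => hqU' u hu.1.1) hp2 hp2'
    -- relations
    have he2U : e2 ∈ U := he2.1
    have hf2U' : f2 ∈ U' := hf2.1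
    have r11 : B e1 e1 = 0 := htiU e1 he1 e1 he1
    have r12 : B e1 e2 = 0 := htiU e1 he1 e2 he2U
    have r21 : B e2 e1 = 0 := htiU e2 he2U e1 he1
    have r22 : B e2 e2 = 0 := htiU e2 he2U e2 he2U
    have s11 : B f1 f1 = 0 := htiU' f1 hf1 f1 hf1
    have s12 : B f1 f2 = 0 := htiU' f1 hf1 f2 hf2U'
    have s21 : B f2 f1 = 0 := htiU' f2 hf2U' f1 hf1
    have s22 : B f2 f2 = 0 := htiU' f2 hf2U' f2 hf2U'
    have he2f1 : B e2 f1 = 0 := mem_ker_flip.mp he2.2
    have hf1e2 : B f1 e2 = 0 := by rw [hsymm, he2f1]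
    have hf2e1 : B f2 e1 = 0 := mem_ker_flip.mp hf2.2
    have he1f2 : B e1 f2 = 0 := by rw [hsymm, hf2e1]
    have hA : ∀ x, sieg Q B e1 e2 x = x + B x e1 • e2 - B x e2 • e1 := by
      intro x
      rw [sieg_apply Q B hQs hQp (hqU e1 he1) r12, hqU e2 he2U]
      simp
    have hBm : ∀ x, sieg Q B f1 f2 x = x + B x f1 • f2 - B x f2 • f1 := by
      intro x
      rw [sieg_apply Q B hQs hQp (hqU' f1 hf1) s12, hqU' f2 hf2U']
      simp
    have hwe1 : (sieg Q B f1 f2 * sieg Q B e1 e2 * sieg Q B f1 f2) e1 = f2 := by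
      simp only [LinearEquiv.mul_apply, hA, hBm, map_add, map_sub, map_smul, LinearMap.add_apply,
        LinearMap.sub_apply, LinearMap.smul_apply, smul_eq_mul, r11, r12, r21, r22, s11, s12, s21,
        s22, hef1, hfe1, hef2, hfe2, he2f1, hf1e2, hf2e1, he1f2]
      module
    have hwe2 : (sieg Q B f1 f2 * sieg Q B e1 e2 * sieg Q B f1 f2) e2 = -f1 := by
      simp only [LinearEquiv.mul_apply, hA, hBm, map_add, map_sub, map_smul, LinearMap.add_apply,
        LinearMap.sub_apply, LinearMap.smul_apply, smul_eq_mul, r11, r12, r21, r22, s11, s12, s21,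
        s22, hef1, hfe1, hef2, hfe2, he2f1, hf1e2, hf2e1, he1f2]
      module
    have hwf1 : (sieg Q B f1 f2 * sieg Q B e1 e2 * sieg Q B f1 f2) f1 = e2 := by
      simp only [LinearEquiv.mul_apply, hA, hBm, map_add, map_sub, map_smul, LinearMap.add_apply,
        LinearMap.sub_apply, LinearMap.smul_apply, smul_eq_mul, r11, r12, r21, r22, s11, s12, s21,
        s22, hef1, hfe1, hef2, hfe2, he2f1, hf1e2, hf2e1, he1f2]
      module
    have hwf2 : (sieg Q B f1 f2 * sieg Q B e1 e2 * sieg Q B f1 f2) f2 = -e1 := by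
      simp only [LinearEquiv.mul_apply, hA, hBm, map_add, map_sub, map_smul, LinearMap.add_apply,
        LinearMap.sub_apply, LinearMap.smul_apply, smul_eq_mul, r11, r12, r21, r22, s11, s12, s21,
        s22, hef1, hfe1, hef2, hfe2, he2f1, hf1e2, hf2e1, he1f2]
      module
    have hwfix : ∀ x, B x e1 = 0 → B x e2 = 0 → B x f1 = 0 → B x f2 = 0 →
        (sieg Q B f1 f2 * sieg Q B e1 e2 * sieg Q B f1 f2) x = x := by
      intro x h1 h2 h3 h4
      have hBx : sieg Q B f1 f2 x = x := by rw [hBm, h3, h4]; simp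
      have hAx : sieg Q B e1 e2 x = x := by rw [hA, h1, h2]; simp
      rw [LinearEquiv.mul_apply, LinearEquiv.mul_apply, hBx, hAx, hBx]
    have hg1e1 : g1 e1 = e1 := hg1fix e1 (fun y hy => htiU y hy.1.1 e1 he1)
      (fun y hy => mem_ker_flip.mp hy.1.2)
    have hg1e2 : g1 e2 = e2 := hg1fix e2 (fun y hy => htiU y hy.1.1 e2 he2U)
      (fun y hy => mem_ker_flip.mp hy.2)
    have hg1f1 : g1 f1 = f1 := hg1fix f1 (fun y hy => mem_ker_flip.mp hy.1.2)
      (fun y hy => htiU' y hy.1.1 f1 hf1)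
    have hg1f2 : g1 f2 = f2 := hg1fix f2 (fun y hy => mem_ker_flip.mp hy.2)
      (fun y hy => htiU' y hy.1.1 f2 hf2U')
    refine ⟨g1 * (sieg Q B f1 f2 * sieg Q B e1 e2 * sieg Q B f1 f2), ?_, ?_, ?_, ?_⟩
    · intro M hM
      exact M.mul_mem (hg1M M hM) (M.mul_mem (M.mul_mem (hM f1 f2 (hqU' f1 hf1) s12)
        (hM e1 e2 (hqU e1 he1) r12)) (hM f1 f2 (hqU' f1 hf1) s12))
    · intro u hu
      have hu2 : u - B u f1 • e1 - B u f2 • e2 ∈
          (U ⊓ LinearMap.ker (B.flip f1) ⊓ LinearMap.ker (B.flip f2) : Submodule F V) := by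
        refine ⟨⟨U.sub_mem (U.sub_mem hu (U.smul_mem _ he1)) (U.smul_mem _ he2U),
          mem_ker_flip.mpr ?_⟩, mem_ker_flip.mpr ?_⟩
        · simp only [map_sub, map_smul, LinearMap.sub_apply, LinearMap.smul_apply, smul_eq_mul,
            hef1, he2f1]
          ring
        · simp only [map_sub, map_smul, LinearMap.sub_apply, LinearMap.smul_apply, smul_eq_mul,
            hef2, he1f2]
          ring
      have hw2 := hwfix _ (htiU _ hu2.1.1 e1 he1) (htiU _ hu2.1.1 e2 he2U)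
        (mem_ker_flip.mp hu2.1.2) (mem_ker_flip.mp hu2.2)
      have hdec : u = B u f1 • e1 + B u f2 • e2 + (u - B u f1 • e1 - B u f2 • e2) := by abel
      have : (g1 * (sieg Q B f1 f2 * sieg Q B e1 e2 * sieg Q B f1 f2)) u =
          B u f1 • f2 + B u f2 • (-f1) + g1 (u - B u f1 • e1 - B u f2 • e2) := by
        conv_lhs => rw [hdec]
        rw [LinearEquiv.mul_apply]
        simp only [map_add, map_smul, map_neg, hwe1, hwe2, hw2, hg1f1, hg1f2]
      rw [this]
      exact U'.add_mem (U'.add_mem (U'.smul_mem _ hf2U') (U'.smul_mem _ (U'.neg_mem hf1)))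
        (hg1U _ hu2).1.1
    · intro u hu
      have hu2 : u - B u e1 • f1 - B u e2 • f2 ∈
          (U' ⊓ LinearMap.ker (B.flip e1) ⊓ LinearMap.ker (B.flip e2) : Submodule F V) := by
        refine ⟨⟨U'.sub_mem (U'.sub_mem hu (U'.smul_mem _ hf1)) (U'.smul_mem _ hf2U'),
          mem_ker_flip.mpr ?_⟩, mem_ker_flip.mpr ?_⟩
        · simp only [map_sub, map_smul, LinearMap.sub_apply, LinearMap.smul_apply, smul_eq_mul,
            hfe1, hf2e1]
          ring
        · simp only [map_sub, map_smul, LinearMap.sub_apply, LinearMap.smul_apply, smul_eq_mul,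
            hfe2, hf1e2]
          ring
      have hw2 := hwfix _ (mem_ker_flip.mp hu2.1.2) (mem_ker_flip.mp hu2.2)
        (htiU' _ hu2.1.1 f1 hf1) (htiU' _ hu2.1.1 f2 hf2U')
      have hdec : u = B u e1 • f1 + B u e2 • f2 + (u - B u e1 • f1 - B u e2 • f2) := by abel
      have : (g1 * (sieg Q B f1 f2 * sieg Q B e1 e2 * sieg Q B f1 f2)) u =
          B u e1 • e2 + B u e2 • (-e1) + g1 (u - B u e1 • f1 - B u e2 • f2) := by
        conv_lhs => rw [hdec]
        rw [LinearEquiv.mul_apply]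
        simp only [map_add, map_smul, map_neg, hwf1, hwf2, hw2, hg1e1, hg1e2]
      rw [this]
      exact U.add_mem (U.add_mem (U.smul_mem _ he2U) (U.smul_mem _ (U.neg_mem he1)))
        (hg1U' _ hu2).1.1
    · intro x hxU hxU'
      rw [LinearEquiv.mul_apply, hwfix x (by rw [hsymm]; exact hxU e1 he1)
        (by rw [hsymm]; exact hxU e2 he2U) (by rw [hsymm]; exact hxU' f1 hf1)
        (by rw [hsymm]; exact hxU' f2 hf2U')]
      exact hg1fix x (fun y hy => hxU y hy.1.1) (fun y hy => hxU' y hy.1.1)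

end Swap


section Final

variable [Finite F] [FiniteDimensional F V] {Q : V → F} {B : LinearMap.BilinForm F V}
  (hQs : ∀ (c : F) (v : V), Q (c • v) = c * c * Q v)
  (hQp : ∀ u v : V, Q (u + v) = Q u + Q v + B u v)

include hQs hQp in
/-- **Maximality of the stabiliser of a pair of complementary totally singular subspaces** of even
dimension at least eight, in a group `G` of isometries containing and generated by the Siegel
elements. -/
theorem maximal_tspair (hN : B.Nondegenerate) (G : Subgroup (V ≃ₗ[F] V)) (hG1 : G ≤ oG Q)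
    (hG2 : ∀ u z, Q u = 0 → B u z = 0 → sieg Q B u z ∈ G)
    (hG3 : ∀ M : Subgroup (V ≃ₗ[F] V),
      (∀ u z, Q u = 0 → B u z = 0 → sieg Q B u z ∈ M) → G ≤ M)
    (k : ℕ) (hk : 7 ≤ k) (hke : Even k) (D : Fin 2 → Submodule F V)
    (hfr : ∀ i, finrank F (D i) = k) (hsup : iSup D = ⊤) (hts : ∀ i, ∀ u ∈ D i, Q u = 0)
    (S : Subgroup (V ≃ₗ[F] V))
    (hS : ∀ g, g ∈ S ↔ ∃ σ : Equiv.Perm (Fin 2), ∀ i, (D i).map (g : V →ₗ[F] V) = D (σ i)) :
    (S ⊓ G < G) ∧
      ∀ M : Subgroup (V ≃ₗ[F] V), S ⊓ G ≤ M → M ≤ G → M = S ⊓ G ∨ M = G := by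
  classical
  have hsymm := B_symm Q B hQp
  have hsup' : D 0 ⊔ D 1 = ⊤ := by
    rw [eq_top_iff, ← hsup]
    apply iSup_le
    intro i
    fin_cases i
    · exact le_sup_left
    · exact le_sup_right
  have P : TSPair Q B (D 0) (D 1) := ⟨hts 0, hts 1, hsup', hN⟩
  have hbot := P.inf_eq_bot hQp
  have hkU : 7 ≤ finrank F (D 0) := by rw [hfr]; exact hk
  have hkU' : 7 ≤ finrank F (D 1) := by rw [hfr]; exact hk
  have hmapeq : ∀ (g : V ≃ₗ[F] V) (W W' : Submodule F V), finrank F W = finrank F W' →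
      (∀ v ∈ W, g v ∈ W') → W.map (g : V →ₗ[F] V) = W' := by
    intro g W W' hf h
    apply Submodule.eq_of_le_of_finrank_eq
    · rintro _ ⟨v, hv, rfl⟩
      exact h v hv
    · rw [LinearEquiv.finrank_map_eq g W]
      exact hf
  have hS0 : ∀ g : V ≃ₗ[F] V, (∀ u ∈ D 0, g u ∈ D 0) → (∀ y ∈ D 1, g y ∈ D 1) → g ∈ S := by
    intro g h h'
    rw [hS]
    refine ⟨1, ?_⟩
    intro i
    fin_cases i
    · exact hmapeq g _ _ rfl h
    · exact hmapeq g _ _ rfl h'
  have hS1 : ∀ g : V ≃ₗ[F] V, (∀ u ∈ D 0, g u ∈ D 1) → (∀ y ∈ D 1, g y ∈ D 0) → g ∈ S := by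
    intro g h h'
    rw [hS]
    refine ⟨Equiv.swap 0 1, ?_⟩
    intro i
    fin_cases i
    · simp only [Fin.zero_eta, Equiv.swap_apply_left]
      exact hmapeq g _ _ (by rw [hfr, hfr]) h
    · simp only [Fin.mk_one, Equiv.swap_apply_right]
      exact hmapeq g _ _ (by rw [hfr, hfr]) h'
  obtain ⟨r, hr⟩ := hke
  obtain ⟨s, hsall, hsU, hsU', -⟩ := exists_swap_aux hQs hQp r (D 0) (D 1)
    (by rw [hfr, hr]; ring) (hts 0) (hts 1) (P.pairU hQp) (P.symm.pairU hQp)
  have hsS : s ∈ S := hS1 s hsU hsU'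
  have hsG : s ∈ G := hsall G hG2
  have hHEall : ∀ M : Subgroup (V ≃ₗ[F] V), S ⊓ G ≤ M → HE Q B M (D 0) (D 1) := by
    intro M hM c hc d hd hcd
    apply hM
    obtain ⟨h1, h2⟩ := sieg_pair_mem hQs hQp P hc hd hcd
    exact ⟨hS0 _ h1 h2, hG2 c d (P.qU c hc) hcd⟩
  constructor
  · refine lt_of_le_of_ne inf_le_right ?_
    intro heq
    obtain ⟨c, hc, hc0⟩ : ∃ c ∈ D 1, c ≠ 0 := by
      apply Submodule.exists_mem_ne_zero_of_ne_bot
      intro h
      rw [h, finrank_bot] at hkU'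
      omega
    obtain ⟨d, hd, hdn⟩ : ∃ d ∈ D 1, d ∉ Submodule.span F {c} := by
      by_contra hcon2
      push Not at hcon2
      have h8 := Submodule.finrank_mono (show D 1 ≤ Submodule.span F {c} from hcon2)
      have h9 := finrank_span_singleton (K := F) hc0
      omega
    obtain ⟨x, hx, hxE, hdx⟩ := P.symm.sep hQp (Submodule.span F {c})
      (by rw [Submodule.span_le]; intro x hx; rw [Set.mem_singleton_iff.mp hx]; exact hc) hd hdn
    have hcx : B c x = 0 := hxE c (Submodule.mem_span_singleton_self c)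
    have hcd : B c d = 0 := P.tiU' hQp c hc d hd
    have hx0 : x ≠ 0 := by
      intro h
      apply hdx
      rw [h, map_zero]
    have hg : sieg Q B c d ∈ S := by
      have : sieg Q B c d ∈ S ⊓ G := by
        rw [heq]
        exact hG2 c d (P.qU' c hc) hcd
      exact this.1
    rw [hS] at hg
    obtain ⟨σ, hσ⟩ := hg
    have hmem : sieg Q B c d x ∈ D (σ 0) := by
      rw [← hσ 0]
      exact ⟨x, hx, rfl⟩
    rw [sieg_apply Q B hQs hQp (P.qU' c hc) hcd, hsymm x c, hcx] at hmem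
    have e : x + (0 : F) • d - B x d • c - (Q d * 0) • c = x - B x d • c := by
      rw [zero_smul, mul_zero, zero_smul, add_zero, sub_zero]
    rw [e] at hmem
    have hxd : B x d ≠ 0 := by rw [hsymm]; exact hdx
    have h01 : ∀ j : Fin 2, j = 0 ∨ j = 1 := by decide
    rcases h01 (σ 0) with h | h
    · rw [h] at hmem
      have h1 : B x d • c ∈ D 0 := by
        have := (D 0).sub_mem hx hmem
        rwa [sub_sub_cancel] at this
      have h3 : c ∈ D 0 := by
        have := (D 0).smul_mem (B x d)⁻¹ h1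
        rwa [smul_smul, inv_mul_cancel₀ hxd, one_smul] at this
      have : c ∈ (D 0 ⊓ D 1 : Submodule F V) := ⟨h3, hc⟩
      rw [hbot, Submodule.mem_bot] at this
      exact hc0 this
    · rw [h] at hmem
      have h1 : x ∈ D 1 := by
        have := (D 1).add_mem hmem ((D 1).smul_mem (B x d) hc)
        rwa [sub_add_cancel] at this
      have : x ∈ (D 0 ⊓ D 1 : Submodule F V) := ⟨hx, h1⟩
      rw [hbot, Submodule.mem_bot] at this
      exact hx0 this
  · intro M hSM hMG
    have hMO : M ≤ oG Q := hMG.trans hG1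
    have hHE := hHEall M hSM
    have hsM : s ∈ M := hSM ⟨hsS, hsG⟩
    by_cases hZ : (∀ a ∈ D 0, a ≠ 0 → ∀ z, InZ Q B M a z → InT B (D 1) a z) ∧
        (∀ b ∈ D 1, b ≠ 0 → ∀ z, InZ Q B M b z → InT B (D 0) b z)
    · left
      obtain ⟨hZU, hZU'⟩ := hZ
      apply le_antisymm _ hSM
      intro m hmM
      refine ⟨?_, hMG hmM⟩
      have hsurj : ∀ x : V, ∃ a ∈ D 0, ∃ a' ∈ D 1, m a + m a' = x := by
        intro x
        obtain ⟨a, ha, a', ha', haa'⟩ := P.dec (m⁻¹ x)
        refine ⟨a, ha, a', ha', ?_⟩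
        rw [← map_add, haa', apply_inv_apply']
      obtain ⟨c, hc, hc0⟩ : ∃ c ∈ D 1, c ≠ 0 := by
        apply Submodule.exists_mem_ne_zero_of_ne_bot
        intro h
        rw [h, finrank_bot] at hkU'
        omega
      obtain ⟨c', hc', hc'0⟩ : ∃ c ∈ D 0, c ≠ 0 := by
        apply Submodule.exists_mem_ne_zero_of_ne_bot
        intro h
        rw [h, finrank_bot] at hkU
        omega
      rcases map_U'_of_small hQs hQp P hkU hkU' hHE hMO hZU hZU' hmM with h1 | h1
      · rcases map_U'_of_small hQs hQp P.symm hkU' hkU (HE.symm hQs hQp P hHE) hMO hZU' hZU hmM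
          with h2 | h2
        · exact hS0 m h2 h1
        · exfalso
          obtain ⟨a, ha, a', ha', haa'⟩ := hsurj c'
          have : c' ∈ (D 0 ⊓ D 1 : Submodule F V) :=
            ⟨hc', haa' ▸ (D 1).add_mem (h2 a ha) (h1 a' ha')⟩
          rw [hbot, Submodule.mem_bot] at this
          exact hc'0 this
      · rcases map_U'_of_small hQs hQp P.symm hkU' hkU (HE.symm hQs hQp P hHE) hMO hZU' hZU hmM
          with h2 | h2
        · exfalso
          obtain ⟨a, ha, a', ha', haa'⟩ := hsurj c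
          have : c ∈ (D 0 ⊓ D 1 : Submodule F V) :=
            ⟨haa' ▸ (D 0).add_mem (h2 a ha) (h1 a' ha'), hc⟩
          rw [hbot, Submodule.mem_bot] at this
          exact hc0 this
        · exact hS1 m h2 h1
    · right
      apply le_antisymm hMG
      apply hG3
      rw [not_and_or] at hZ
      rcases hZ with h | h
      · push Not at h
        obtain ⟨a, ha, ha0, z, hz, hzT⟩ := h
        have hfull := full_of_notInT hQs hQp P hHE hMO ha hz hzT
        exact all_of_full' hQs hQp P hHE hMO hsM hsU hsU' ha ha0 ⟨P.qU a ha, hfull⟩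
      · push Not at h
        obtain ⟨b, hb, hb0, z, hz, hzT⟩ := h
        have hHE' := HE.symm hQs hQp P hHE
        have hfull := full_of_notInT hQs hQp P.symm hHE' hMO hb hz hzT
        exact all_of_full' hQs hQp P.symm hHE' hMO hsM hsU' hsU hb hb0 ⟨P.qU' b hb, hfull⟩

end Final

end Cfsg.Agent.Lib.Helper94_OrthTS
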