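import Mathlib
import Cfsg.Agent.Lib.Helper94_Symp
import Cfsg.Agent.Lib.Helper94_OrthSmall
import Cfsg.Agent.Lib.Helper94_OrthNondeg
import Cfsg.Agent.Lib.Helper94_OrthTS

set_option autoImplicit false

/-!
Orthogonal geometry over a finite field: if a nondegenerate subspace `A` of even dimension is
mapped by an isometry `g` into its orthogonal complement, then `A + g A` contains a totally
singular subspace of dimension `dim A` (helper94).
-/

namespace Cfsg.Agent.Lib.Helper94_OrthDouble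

open Module Polynomial Cfsg.Agent.Lib.Helper94_Symp Cfsg.Agent.Lib.Helper94_OrthSmall
  Cfsg.Agent.Lib.Helper94_OrthNondeg Cfsg.Agent.Lib.Helper94_OrthTS

variable {F V : Type*} [Field F] [AddCommGroup V] [Module F V]

/-- Binary forms over a finite field of odd order represent every value. -/
lemma exists_binary [Fintype F] (h2 : (2 : F) ≠ 0) {a b : F} (ha : a ≠ 0) (hb : b ≠ 0) :
    ∃ x y : F, a * (x * x) + b * (y * y) + a = 0 := by
  have hodd : Fintype.card F % 2 = 1 := by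
    rcases Nat.even_or_odd (Fintype.card F) with h | h
    · exfalso
      have hc : ringChar F = 2 := (FiniteField.even_card_iff_char_two).mpr (Nat.even_iff.mp h)
      have h3 := ringChar.Nat.cast_ringChar (R := F)
      rw [hc] at h3
      apply h2
      exact_mod_cast h3
    · exact Nat.odd_iff.mp h
  obtain ⟨x, y, hxy⟩ := FiniteField.exists_root_sum_quadratic
    (f := C a * X ^ 2 + C 0 * X + C a) (g := C b * X ^ 2 + C 0 * X + C 0)
    (degree_quadratic ha) (degree_quadratic hb) hodd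
  refine ⟨x, y, ?_⟩
  simp only [eval_add, eval_mul, eval_C, eval_pow, eval_X] at hxy
  linear_combination hxy

section

variable [Fintype F] [FiniteDimensional F V] {Q : V → F} {B : LinearMap.BilinForm F V}
  (hQs : ∀ (c : F) (v : V), Q (c • v) = c * c * Q v)
  (hQp : ∀ u v : V, Q (u + v) = Q u + Q v + B u v)

include hQs hQp in
lemma exists_nonsing_in (h2 : (2 : F) ≠ 0) (A : Submodule F V)
    (hAnd : ∀ a ∈ A, a ≠ 0 → ∃ x ∈ A, B x a ≠ 0) (hA0 : A ≠ ⊥) : ∃ e ∈ A, Q e ≠ 0 := by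
  by_contra hcon
  push Not at hcon
  obtain ⟨a, ha, ha0⟩ := Submodule.exists_mem_ne_zero_of_ne_bot hA0
  obtain ⟨x, hx, hxa⟩ := hAnd a ha ha0
  apply hxa
  have := hQp x a
  rw [hcon x hx, hcon a ha, hcon _ (A.add_mem hx ha)] at this
  linear_combination -this

include hQs hQp in
/-- Passing to the orthogonal complement of a nonsingular vector inside a nondegenerate subspace. -/
lemma nondeg_step (h2 : (2 : F) ≠ 0) (A : Submodule F V)
    (hAnd : ∀ a ∈ A, a ≠ 0 → ∃ x ∈ A, B x a ≠ 0) {e : V} (he : e ∈ A) (hQe : Q e ≠ 0) :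
    (∀ a ∈ (A ⊓ LinearMap.ker (B.flip e) : Submodule F V), a ≠ 0 →
      ∃ x ∈ (A ⊓ LinearMap.ker (B.flip e) : Submodule F V), B x a ≠ 0) ∧
    finrank F (A ⊓ LinearMap.ker (B.flip e) : Submodule F V) + 1 = finrank F A := by
  have hsymm := B_symm Q B hQp
  have hee : B e e ≠ 0 := by
    rw [B_self Q B hQs hQp]
    exact mul_ne_zero h2 hQe
  constructor
  · intro a ha ha0
    obtain ⟨x, hx, hxa⟩ := hAnd a ha.1 ha0
    have hae : B a e = 0 := mem_ker_flip.mp ha.2
    refine ⟨x - (B x e / B e e) • e, ⟨A.sub_mem hx (A.smul_mem _ he), mem_ker_flip.mpr ?_⟩, ?_⟩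
    · rw [map_sub, map_smul, LinearMap.sub_apply, LinearMap.smul_apply, smul_eq_mul,
        div_mul_cancel₀ _ hee, sub_self]
    · rw [map_sub, map_smul, LinearMap.sub_apply, LinearMap.smul_apply, hsymm e a, hae, smul_zero,
        sub_zero]
      exact hxa
  · exact finrank_inf_ker_add_one A (B.flip e) he hee

include hQs hQp in
/-- Odd characteristic: the doubling construction, by induction on half the dimension. -/
theorem exists_ts_double_odd (h2 : (2 : F) ≠ 0) {g : V ≃ₗ[F] V} (hg : g ∈ oG Q) :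
    ∀ (n : ℕ) (A : Submodule F V), finrank F A = 2 * n →
      (∀ a ∈ A, a ≠ 0 → ∃ x ∈ A, B x a ≠ 0) → (∀ a ∈ A, ∀ a' ∈ A, B a (g a') = 0) →
      ∃ T : Submodule F V, (∀ t ∈ T, Q t = 0) ∧ finrank F T = 2 * n ∧
        ∀ t ∈ T, ∃ p ∈ A, ∃ p' ∈ A, t = p + g p' := by
  intro n
  induction n with
  | zero =>
    intro A _ _ _
    refine ⟨⊥, ?_, by simp, ?_⟩
    · intro t ht
      rw [Submodule.mem_bot] at ht
      rw [ht]
      exact Q_zero Q hQs
    · intro t ht
      rw [Submodule.mem_bot] at ht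
      exact ⟨0, A.zero_mem, 0, A.zero_mem, by rw [ht, map_zero, add_zero]⟩
  | succ n ih =>
    intro A hfr hAnd hAg
    have hsymm := B_symm Q B hQp
    have hA0 : A ≠ ⊥ := by
      intro h
      rw [h, finrank_bot] at hfr
      omega
    -- `A ∩ g A = 0`
    have hcap : ∀ p ∈ A, ∀ p' ∈ A, p = g p' → p = 0 := by
      intro p hp p' hp' h
      by_contra hne
      obtain ⟨x, hx, hxp⟩ := hAnd p hp hne
      apply hxp
      rw [h]
      exact hAg x hx p' hp'
    obtain ⟨e1, he1, hQe1⟩ := exists_nonsing_in hQs hQp h2 A hAnd hA0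
    obtain ⟨hA1nd, hfr1⟩ := nondeg_step hQs hQp h2 A hAnd he1 hQe1
    have hA10 : (A ⊓ LinearMap.ker (B.flip e1) : Submodule F V) ≠ ⊥ := by
      intro h
      rw [h, finrank_bot] at hfr1
      omega
    obtain ⟨e2, he2, hQe2⟩ := exists_nonsing_in hQs hQp h2 _ hA1nd hA10
    obtain ⟨hA2nd, hfr2⟩ := nondeg_step hQs hQp h2 _ hA1nd he2 hQe2
    have he2A : e2 ∈ A := he2.1
    have he21 : B e2 e1 = 0 := mem_ker_flip.mp he2.2
    have he12 : B e1 e2 = 0 := by rw [hsymm, he21]
    have hb11 : B e1 e1 = 2 * Q e1 := B_self Q B hQs hQp e1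
    have hb22 : B e2 e2 = 2 * Q e2 := B_self Q B hQs hQp e2
    obtain ⟨T2, hT2s, hT2fr, hT2A⟩ := ih
      (A ⊓ LinearMap.ker (B.flip e1) ⊓ LinearMap.ker (B.flip e2)) (by omega) hA2nd
      (fun a ha a' ha' => hAg a ha.1.1 a' ha'.1.1)
    have hA2 : ∀ p ∈ (A ⊓ LinearMap.ker (B.flip e1) ⊓ LinearMap.ker (B.flip e2) :
        Submodule F V), p ∈ A ∧ B p e1 = 0 ∧ B p e2 = 0 := fun p hp =>
      ⟨hp.1.1, mem_ker_flip.mp hp.1.2, mem_ker_flip.mp hp.2⟩
    obtain ⟨x, y, hxy⟩ := exists_binary h2 hQe1 hQe2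
    obtain ⟨v, hv⟩ : ∃ v : V, v = x • e1 + y • e2 := ⟨_, rfl⟩
    obtain ⟨v', hv'⟩ : ∃ v' : V, v' = (-(Q e2 * y)) • e1 + (Q e1 * x) • e2 := ⟨_, rfl⟩
    have hvA : v ∈ A := by rw [hv]; exact A.add_mem (A.smul_mem _ he1) (A.smul_mem _ he2A)
    have hv'A : v' ∈ A := by rw [hv']; exact A.add_mem (A.smul_mem _ he1) (A.smul_mem _ he2A)
    have hQv : Q v = -Q e1 := by
      rw [hv, hQp, hQs, hQs]
      simp only [map_smul, LinearMap.smul_apply, smul_eq_mul, he12, mul_zero, add_zero]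
      linear_combination hxy
    have hQv' : Q v' = -(Q e1 * Q e1 * Q e2) := by
      rw [hv', hQp, hQs, hQs]
      simp only [map_smul, LinearMap.smul_apply, smul_eq_mul, he12, mul_zero, add_zero]
      linear_combination (Q e1 * Q e2) * hxy
    have hvv' : B v v' = 0 := by
      rw [hv, hv']
      simp only [map_add, map_smul, LinearMap.add_apply, LinearMap.smul_apply, smul_eq_mul, he12,
        he21, hb11, hb22, mul_zero, add_zero, zero_add]
      ring
    obtain ⟨t1, ht1⟩ : ∃ t1 : V, t1 = e1 + g v := ⟨_, rfl⟩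
    obtain ⟨t2, ht2⟩ : ∃ t2 : V, t2 = Q e1 • e2 + g v' := ⟨_, rfl⟩
    have hQt1 : Q t1 = 0 := by
      rw [ht1, hQp, hg, hQv, hAg e1 he1 v hvA]
      ring
    have hQt2 : Q t2 = 0 := by
      rw [ht2, hQp, hQs, hg, hQv', map_smul, LinearMap.smul_apply, hAg e2 he2A v' hv'A, smul_zero]
      ring
    have hgA : ∀ a ∈ A, ∀ a' ∈ A, B (g a) a' = 0 := fun a ha a' ha' => by
      rw [hsymm]
      exact hAg a' ha' a ha
    have ht12 : B t1 t2 = 0 := by
      rw [ht1, ht2]
      simp only [map_add, map_smul, LinearMap.add_apply, smul_eq_mul]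
      rw [he12, hAg e1 he1 v' hv'A, hgA v hvA e2 he2A, oG_B Q B hQp hg, hvv']
      ring
    -- orthogonality of `T2` with `t1`, `t2`
    have hv1 : ∀ p' ∈ (A ⊓ LinearMap.ker (B.flip e1) ⊓ LinearMap.ker (B.flip e2) :
        Submodule F V), B p' v = 0 ∧ B p' v' = 0 := by
      intro p' hp'
      obtain ⟨-, h1, h2'⟩ := hA2 p' hp'
      constructor
      · rw [hv, map_add, map_smul, map_smul, h1, h2', smul_zero, smul_zero, add_zero]
      · rw [hv', map_add, map_smul, map_smul, h1, h2', smul_zero, smul_zero, add_zero]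
    have hT2t : ∀ τ ∈ T2, B τ t1 = 0 ∧ B τ t2 = 0 := by
      intro τ hτ
      obtain ⟨p, hp, p', hp', rfl⟩ := hT2A τ hτ
      obtain ⟨hpA, hp1, hp2⟩ := hA2 p hp
      obtain ⟨hp'A, -, -⟩ := hA2 p' hp'
      constructor
      · rw [ht1]
        simp only [map_add, LinearMap.add_apply]
        rw [hp1, hAg p hpA v hvA, hgA p' hp'A e1 he1, oG_B Q B hQp hg, (hv1 p' hp').1]
        ring
      · rw [ht2]
        simp only [map_add, map_smul, LinearMap.add_apply, smul_eq_mul]
        rw [hp2, hAg p hpA v' hv'A, hgA p' hp'A e2 he2A, oG_B Q B hQp hg, (hv1 p' hp').2]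
        ring
    have ht1T2 : t1 ∉ T2 := by
      intro h
      obtain ⟨p, hp, p', hp', e⟩ := hT2A t1 h
      obtain ⟨hpA, hp1, -⟩ := hA2 p hp
      obtain ⟨hp'A, -, -⟩ := hA2 p' hp'
      have h3 : e1 - p = g (p' - v) := by
        rw [map_sub, sub_eq_sub_iff_add_eq_add, ← ht1, e, add_comm]
      have h4 := hcap _ (A.sub_mem he1 hpA) _ (A.sub_mem hp'A hvA) h3
      have h5 : e1 = p := sub_eq_zero.mp h4
      rw [← h5, hb11] at hp1
      exact mul_ne_zero h2 hQe1 hp1
    have ht2T : t2 ∉ (T2 ⊔ Submodule.span F {t1} : Submodule F V) := by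
      intro h
      obtain ⟨τ, hτ, s, hs, e⟩ := Submodule.mem_sup.mp h
      obtain ⟨α, rfl⟩ := Submodule.mem_span_singleton.mp hs
      obtain ⟨p, hp, p', hp', rfl⟩ := hT2A τ hτ
      obtain ⟨hpA, -, hp2⟩ := hA2 p hp
      obtain ⟨hp'A, -, -⟩ := hA2 p' hp'
      have h3 : Q e1 • e2 - p - α • e1 = g (p' + α • v - v') := by
        rw [map_sub, map_add, map_smul]
        have e' : Q e1 • e2 + g v' = p + g p' + α • (e1 + g v) := by
          rw [← ht2, ← ht1]
          exact e.symm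
        rw [smul_add] at e'
        have e'' : Q e1 • e2 = p + g p' + (α • e1 + α • g v) - g v' := eq_sub_of_add_eq e'
        rw [e'']
        abel
      have h4 := hcap _ (A.sub_mem (A.sub_mem (A.smul_mem _ he2A) hpA) (A.smul_mem _ he1)) _
        (A.sub_mem (A.add_mem hp'A (A.smul_mem _ hvA)) hv'A) h3
      have h5 : B (Q e1 • e2 - p - α • e1) e2 = 0 := by rw [h4, map_zero, LinearMap.zero_apply]
      rw [map_sub, map_sub, map_smul, map_smul, LinearMap.sub_apply, LinearMap.sub_apply,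
        LinearMap.smul_apply, LinearMap.smul_apply, hb22, hp2, he12, smul_zero, sub_zero,
        sub_zero, smul_eq_mul] at h5
      exact mul_ne_zero hQe1 (mul_ne_zero h2 hQe2) h5
    refine ⟨T2 ⊔ Submodule.span F {t1} ⊔ Submodule.span F {t2}, ?_, ?_, ?_⟩
    · intro t ht
      obtain ⟨s, hs, r, hr, rfl⟩ := Submodule.mem_sup.mp ht
      obtain ⟨τ, hτ, r1, hr1, rfl⟩ := Submodule.mem_sup.mp hs
      obtain ⟨α, rfl⟩ := Submodule.mem_span_singleton.mp hr1
      obtain ⟨β, rfl⟩ := Submodule.mem_span_singleton.mp hr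
      obtain ⟨h1, h2'⟩ := hT2t τ hτ
      rw [hQp, hQp, hQs, hQs, hT2s τ hτ, hQt1, hQt2]
      simp only [map_add, map_smul, LinearMap.add_apply, LinearMap.smul_apply, smul_eq_mul, h1,
        h2', ht12]
      ring
    · rw [Submodule.finrank_sup_span_singleton ht2T, Submodule.finrank_sup_span_singleton ht1T2,
        hT2fr]
      ring
    · intro t ht
      obtain ⟨s, hs, r, hr, rfl⟩ := Submodule.mem_sup.mp ht
      obtain ⟨τ, hτ, r1, hr1, rfl⟩ := Submodule.mem_sup.mp hs
      obtain ⟨α, rfl⟩ := Submodule.mem_span_singleton.mp hr1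
      obtain ⟨β, rfl⟩ := Submodule.mem_span_singleton.mp hr
      obtain ⟨p, hp, p', hp', rfl⟩ := hT2A τ hτ
      refine ⟨p + α • e1 + (β * Q e1) • e2,
        A.add_mem (A.add_mem (hA2 p hp).1 (A.smul_mem _ he1)) (A.smul_mem _ he2A),
        p' + α • v + β • v',
        A.add_mem (A.add_mem (hA2 p' hp').1 (A.smul_mem _ hvA)) (A.smul_mem _ hv'A), ?_⟩
      rw [ht1, ht2]
      simp only [map_add, map_smul, smul_add, smul_smul]
      abel

include hQs hQp in
/-- If an isometry maps a nondegenerate subspace `A` of even dimension into its orthogonal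
complement, there is a totally singular subspace of dimension `dim A`. -/
theorem exists_ts_double {g : V ≃ₗ[F] V} (hg : g ∈ oG Q) (A : Submodule F V)
    (hev : Even (finrank F A)) (hAnd : ∀ a ∈ A, a ≠ 0 → ∃ x ∈ A, B x a ≠ 0)
    (hAg : ∀ a ∈ A, ∀ a' ∈ A, B a (g a') = 0) :
    ∃ T : Submodule F V, (∀ t ∈ T, Q t = 0) ∧ finrank F T = finrank F A := by
  by_cases h2 : (2 : F) = 0
  · refine ⟨A.map (LinearMap.id + (g : V →ₗ[F] V)), ?_, ?_⟩
    · rintro _ ⟨a, ha, rfl⟩
      simp only [LinearMap.add_apply, LinearMap.id_coe, id_eq, LinearEquiv.coe_coe]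
      rw [hQp, hg, hAg a ha a ha, add_zero, ← two_mul, h2, zero_mul]
    · have hinj : Function.Injective ((LinearMap.id + (g : V →ₗ[F] V)).domRestrict A) := by
        rw [← LinearMap.ker_eq_bot, LinearMap.ker_eq_bot']
        intro a ha
        have h3 : (a : V) + g (a : V) = 0 := ha
        by_contra hne
        have hne' : (a : V) ≠ 0 := fun h => hne (Subtype.ext h)
        obtain ⟨x, hx, hxa⟩ := hAnd a a.2 hne'
        apply hxa
        have h4 : (a : V) = g (-(a : V)) := by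
          rw [map_neg]
          exact eq_neg_of_add_eq_zero_left h3
        rw [h4]
        exact hAg x hx _ (A.neg_mem a.2)
      have h5 := LinearMap.finrank_range_of_inj hinj
      rw [LinearMap.range_domRestrict] at h5
      exact h5
  · obtain ⟨n, hn⟩ := hev
    obtain ⟨T, hT1, hT2, -⟩ := exists_ts_double_odd hQs hQp h2 hg n A (by rw [hn]; ring) hAnd hAg
    exact ⟨T, hT1, by rw [hT2, hn]; ring⟩

end

end Cfsg.Agent.Lib.Helper94_OrthDouble
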