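import Mathlib
import Cfsg.Agent.Lib.Helper94_Symp
import Cfsg.Agent.Lib.Helper94_OrthSmall
import Cfsg.Agent.Lib.Helper94_OrthSiegel
import Cfsg.Agent.Lib.Helper94_OrthSiegel2
import Cfsg.Agent.Lib.Helper94_OrthNondeg

set_option autoImplicit false

/-!
Orthogonal groups in odd characteristic: the stabiliser of an orthogonal decomposition whose
blocks carry a canonical frame of vectors of one norm (as happens for small blocks over the field
of order three) is not maximal: it lies in the stabiliser of the set of frame vectors (helper94).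
-/

namespace Cfsg.Agent.Lib.Helper94_OrthFrame

open Module Cfsg.Agent.Lib.Helper94_Symp Cfsg.Agent.Lib.Helper94_OrthSmall
  Cfsg.Agent.Lib.Helper94_OrthSiegel Cfsg.Agent.Lib.Helper94_OrthSiegel2
  Cfsg.Agent.Lib.Helper94_OrthNondeg
open scoped commutatorElement

variable {F V : Type*} [Field F] [AddCommGroup V] [Module F V]

section

variable [Finite F] [FiniteDimensional F V] {Q : V → F} {B : LinearMap.BilinForm F V}
  (hQs : ∀ (c : F) (v : V), Q (c • v) = c * c * Q v)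
  (hQp : ∀ u v : V, Q (u + v) = Q u + Q v + B u v)

include hQs hQp in
lemma Q_sub (a b : V) : Q (a - b) = Q a + Q b - B a b := by
  have := Q_add_smul Q B hQs hQp a b (-1)
  rw [neg_one_smul, ← sub_eq_add_neg] at this
  rw [this]
  ring

/-- The reflection in `a - b` interchanges two orthogonal vectors of the same nonzero norm. -/
lemma refl_swap (h2 : (2 : F) ≠ 0) {a b : V} (ha : Q a ≠ 0) (hb : Q b = Q a) (hab : B a b = 0)
    (hd : Q (a - b) ≠ 0) :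
    refl Q B hQs hQp hd a = b ∧ refl Q B hQs hQp hd b = a ∧
      ∀ x, B x a = 0 → B x b = 0 → refl Q B hQs hQp hd x = x := by
  have hsymm := B_symm Q B hQp
  have hQd : Q (a - b) = 2 * Q a := by
    rw [Q_sub hQs hQp, hb, hab]
    ring
  have h2a : 2 * Q a ≠ 0 := mul_ne_zero h2 ha
  refine ⟨?_, ?_, ?_⟩
  · rw [refl_apply, hQd, map_sub, B_self Q B hQs hQp, hab, sub_zero, inv_mul_cancel₀ h2a, one_smul,
      sub_sub_cancel]
  · rw [refl_apply, hQd, map_sub, B_self Q B hQs hQp, hsymm b a, hab, hb, zero_sub, mul_neg,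
      inv_mul_cancel₀ h2a, neg_one_smul]
    abel
  · intro x hxa hxb
    rw [refl_apply, map_sub, hxa, hxb, sub_zero, mul_zero, zero_smul, sub_zero]

include hQs hQp in
/-- **Non-maximality via a frame**: see the file header. -/
theorem not_maximal_frame (h2 : (2 : F) ≠ 0) (G : Subgroup (V ≃ₗ[F] V)) (hG1 : G ≤ oG Q)
    (hG2 : ∀ u z, Q u = 0 → B u z = 0 → sieg Q B u z ∈ G)
    (hGc : ∀ (a b : V) (ha : Q a ≠ 0) (hb : Q b ≠ 0),
      ⁅refl Q B hQs hQp ha, refl Q B hQs hQp hb⁆ ∈ G)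
    {t : ℕ} (D : Fin t → Submodule F V)
    (horth : ∀ i j, i ≠ j → ∀ x ∈ D i, ∀ y ∈ D j, B x y = 0)
    (hnd : ∀ i, ∀ a ∈ D i, a ≠ 0 → ∃ x ∈ D i, B x a ≠ 0)
    (S : Subgroup (V ≃ₗ[F] V))
    (hS : ∀ g, g ∈ S ↔ ∃ σ : Equiv.Perm (Fin t), ∀ i, (D i).map (g : V →ₗ[F] V) = D (σ i))
    (i1 i2 i3 : Fin t) (h12 : i1 ≠ i2) (h13 : i1 ≠ i3) (h23 : i2 ≠ i3)
    (c : F) (hc : c ≠ 0) (e1 e2 e3 : V) (he1 : e1 ∈ D i1) (he2 : e2 ∈ D i2) (he3 : e3 ∈ D i3)
    (hQ1 : Q e1 = c) (hQ2 : Q e2 = c) (hQ3 : Q e3 = c)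
    (hk1 : 2 ≤ finrank F (D i1)) (hk2 : 2 ≤ finrank F (D i2)) (hk3 : 2 ≤ finrank F (D i3))
    (hP1 : ∀ v ∈ D i1, Q v = c → (∃ l : F, v = l • e1) ∨ B v e1 = 0)
    (hP2 : ∀ v ∈ D i2, Q v = c → (∃ l : F, v = l • e2) ∨ B v e2 = 0)
    (hP3 : ∀ v ∈ D i3, Q v = c → (∃ l : F, v = l • e3) ∨ B v e3 = 0) :
    ∃ K : Subgroup (V ≃ₗ[F] V), S ⊓ G < K ∧ K < G := by
  classical
  have hsymm := B_symm Q B hQp
  have hdisj : ∀ i j, i ≠ j → ∀ x, x ∈ D i → x ∈ D j → x = 0 := by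
    intro i j hij x hxi hxj
    by_contra hx0
    obtain ⟨y, hy, hyx⟩ := hnd i x hxi hx0
    exact hyx (horth i j hij y hy x hxj)
  -- the three reflections
  have hQ12 : Q (e1 - e2) ≠ 0 := by
    rw [Q_sub hQs hQp, hQ1, hQ2, horth i1 i2 h12 e1 he1 e2 he2, sub_zero, ← two_mul]
    exact mul_ne_zero h2 hc
  have hQ13 : Q (e1 - e3) ≠ 0 := by
    rw [Q_sub hQs hQp, hQ1, hQ3, horth i1 i3 h13 e1 he1 e3 he3, sub_zero, ← two_mul]
    exact mul_ne_zero h2 hc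
  have hc1 : Q e1 ≠ 0 := by rw [hQ1]; exact hc
  have b12 : B e1 e2 = 0 := horth i1 i2 h12 e1 he1 e2 he2
  have b13 : B e1 e3 = 0 := horth i1 i3 h13 e1 he1 e3 he3
  have b23 : B e2 e3 = 0 := horth i2 i3 h23 e2 he2 e3 he3
  obtain ⟨s1, s2, s3⟩ := refl_swap hQs hQp h2 hc1 (hQ2.trans hQ1.symm) b12 hQ12
  obtain ⟨t1, t2, t3⟩ := refl_swap hQs hQp h2 hc1 (hQ3.trans hQ1.symm) b13 hQ13
  -- the two three-cycles
  have hcyc : ∀ x, ⁅refl Q B hQs hQp hQ12, refl Q B hQs hQp hQ13⁆ x =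
      refl Q B hQs hQp hQ12 (refl Q B hQs hQp hQ13 (refl Q B hQs hQp hQ12
        (refl Q B hQs hQp hQ13 x))) := by
    intro x
    rw [commutatorElement_def, refl_inv, refl_inv]
    rfl
  have hcyc' : ∀ x, ⁅refl Q B hQs hQp hQ13, refl Q B hQs hQp hQ12⁆ x =
      refl Q B hQs hQp hQ13 (refl Q B hQs hQp hQ12 (refl Q B hQs hQp hQ13
        (refl Q B hQs hQp hQ12 x))) := by
    intro x
    rw [commutatorElement_def, refl_inv, refl_inv]
    rfl
  have s3' : refl Q B hQs hQp hQ12 e3 = e3 := s3 e3 (by rw [hsymm]; exact b13)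
    (by rw [hsymm]; exact b23)
  have t3' : refl Q B hQs hQp hQ13 e2 = e2 := t3 e2 (by rw [hsymm]; exact b12) b23
  have g1 : ⁅refl Q B hQs hQp hQ12, refl Q B hQs hQp hQ13⁆ e1 = e2 := by
    rw [hcyc, t1, s3', t2, s1]
  have g2 : ⁅refl Q B hQs hQp hQ12, refl Q B hQs hQp hQ13⁆ e2 = e3 := by
    rw [hcyc, t3', s2, t1, s3']
  have g3 : ⁅refl Q B hQs hQp hQ12, refl Q B hQs hQp hQ13⁆ e3 = e1 := by
    rw [hcyc, t2, s1, t3', s2]
  have g1' : ⁅refl Q B hQs hQp hQ13, refl Q B hQs hQp hQ12⁆ e1 = e3 := by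
    rw [hcyc', s1, t3', s2, t1]
  have g2' : ⁅refl Q B hQs hQp hQ13, refl Q B hQs hQp hQ12⁆ e2 = e1 := by
    rw [hcyc', s2, t1, s3', t2]
  have g3' : ⁅refl Q B hQs hQp hQ13, refl Q B hQs hQp hQ12⁆ e3 = e2 := by
    rw [hcyc', s3', t2, s1, t3']
  have gfix : ∀ x, B x e1 = 0 → B x e2 = 0 → B x e3 = 0 →
      ⁅refl Q B hQs hQp hQ12, refl Q B hQs hQp hQ13⁆ x = x := by
    intro x h1 h2' h3
    rw [hcyc, t3 x h1 h3, s3 x h1 h2', t3 x h1 h3, s3 x h1 h2']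
  have gfix' : ∀ x, B x e1 = 0 → B x e2 = 0 → B x e3 = 0 →
      ⁅refl Q B hQs hQp hQ13, refl Q B hQs hQp hQ12⁆ x = x := by
    intro x h1 h2' h3
    rw [hcyc', s3 x h1 h2', t3 x h1 h3, s3 x h1 h2', t3 x h1 h3]
  have hginv : (⁅refl Q B hQs hQp hQ12, refl Q B hQs hQp hQ13⁆)⁻¹ =
      ⁅refl Q B hQs hQp hQ13, refl Q B hQs hQp hQ12⁆ := commutatorElement_inv _ _
  have hgG := hGc _ _ hQ12 hQ13
  have hgO := hG1 hgG
  -- frame vectors
  have hInV : ∀ i, ∀ v ∈ D i, Q v = c →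
      (∃ l : F, v = l • e1) ∨ (∃ l : F, v = l • e2) ∨ (∃ l : F, v = l • e3) ∨
        (B v e1 = 0 ∧ B v e2 = 0 ∧ B v e3 = 0) := by
    intro i v hv hQv
    by_cases hi1 : i = i1
    · subst hi1
      rcases hP1 v hv hQv with h | h
      · exact Or.inl h
      · exact Or.inr (Or.inr (Or.inr ⟨h, horth i i2 h12 v hv e2 he2, horth i i3 h13 v hv e3 he3⟩))
    by_cases hi2 : i = i2
    · subst hi2
      rcases hP2 v hv hQv with h | h
      · exact Or.inr (Or.inl h)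
      · exact Or.inr (Or.inr (Or.inr ⟨horth i i1 hi1 v hv e1 he1, h, horth i i3 h23 v hv e3 he3⟩))
    by_cases hi3 : i = i3
    · subst hi3
      rcases hP3 v hv hQv with h | h
      · exact Or.inr (Or.inr (Or.inl h))
      · exact Or.inr (Or.inr (Or.inr ⟨horth i i1 hi1 v hv e1 he1, horth i i2 hi2 v hv e2 he2, h⟩))
    · exact Or.inr (Or.inr (Or.inr ⟨horth i i1 hi1 v hv e1 he1, horth i i2 hi2 v hv e2 he2,
        horth i i3 hi3 v hv e3 he3⟩))
  have hfwd : ∀ v, (∃ i, v ∈ D i ∧ Q v = c) →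
      (∃ i, ⁅refl Q B hQs hQp hQ12, refl Q B hQs hQp hQ13⁆ v ∈ D i ∧
        Q (⁅refl Q B hQs hQp hQ12, refl Q B hQs hQp hQ13⁆ v) = c) := by
    rintro v ⟨i, hv, hQv⟩
    rcases hInV i v hv hQv with ⟨l, rfl⟩ | ⟨l, rfl⟩ | ⟨l, rfl⟩ | ⟨h1, h2', h3⟩
    · exact ⟨i2, by rw [map_smul, g1]; exact (D i2).smul_mem _ he2, by rw [hgO, hQv]⟩
    · exact ⟨i3, by rw [map_smul, g2]; exact (D i3).smul_mem _ he3, by rw [hgO, hQv]⟩
    · exact ⟨i1, by rw [map_smul, g3]; exact (D i1).smul_mem _ he1, by rw [hgO, hQv]⟩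
    · exact ⟨i, by rw [gfix v h1 h2' h3]; exact hv, by rw [hgO, hQv]⟩
  have hgO' : ⁅refl Q B hQs hQp hQ13, refl Q B hQs hQp hQ12⁆ ∈ oG Q := hG1 (hGc _ _ hQ13 hQ12)
  have hbwd : ∀ v, (∃ i, v ∈ D i ∧ Q v = c) →
      (∃ i, ⁅refl Q B hQs hQp hQ13, refl Q B hQs hQp hQ12⁆ v ∈ D i ∧
        Q (⁅refl Q B hQs hQp hQ13, refl Q B hQs hQp hQ12⁆ v) = c) := by
    rintro v ⟨i, hv, hQv⟩
    rcases hInV i v hv hQv with ⟨l, rfl⟩ | ⟨l, rfl⟩ | ⟨l, rfl⟩ | ⟨h1, h2', h3⟩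
    · exact ⟨i3, by rw [map_smul, g1']; exact (D i3).smul_mem _ he3, by rw [hgO', hQv]⟩
    · exact ⟨i1, by rw [map_smul, g2']; exact (D i1).smul_mem _ he1, by rw [hgO', hQv]⟩
    · exact ⟨i2, by rw [map_smul, g3']; exact (D i2).smul_mem _ he2, by rw [hgO', hQv]⟩
    · exact ⟨i, by rw [gfix' v h1 h2' h3]; exact hv, by rw [hgO', hQv]⟩
  -- the overgroup
  let K : Subgroup (V ≃ₗ[F] V) :=
    { carrier := {g | g ∈ G ∧ ∀ v, (∃ i, v ∈ D i ∧ Q v = c) ↔ (∃ i, g v ∈ D i ∧ Q (g v) = c)}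
      mul_mem' := by
        rintro a b ⟨haG, ha⟩ ⟨hbG, hb⟩
        refine ⟨G.mul_mem haG hbG, fun v => ?_⟩
        rw [hb v, ha (b v)]
        rfl
      one_mem' := ⟨G.one_mem, fun v => Iff.rfl⟩
      inv_mem' := by
        rintro a ⟨haG, ha⟩
        refine ⟨G.inv_mem haG, fun v => ?_⟩
        have := ha (a⁻¹ v)
        rw [apply_inv_apply'] at this
        exact this.symm }
  have hKmem : ∀ g, g ∈ K ↔ g ∈ G ∧
      ∀ v, (∃ i, v ∈ D i ∧ Q v = c) ↔ (∃ i, g v ∈ D i ∧ Q (g v) = c) := fun g => Iff.rfl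
  refine ⟨K, ?_, ?_⟩
  · refine lt_of_le_of_ne ?_ ?_
    · rintro g ⟨hgS, hgG'⟩
      rw [hKmem]
      refine ⟨hgG', fun v => ?_⟩
      obtain ⟨σ, hσ⟩ := (hS g).mp hgS
      have hgQ := hG1 hgG'
      constructor
      · rintro ⟨i, hv, hQv⟩
        refine ⟨σ i, ?_, by rw [hgQ, hQv]⟩
        rw [← hσ i]
        exact ⟨v, hv, rfl⟩
      · rintro ⟨j, hv, hQv⟩
        refine ⟨σ.symm j, ?_, by rw [← hgQ v, hQv]⟩
        have h3 := hσ (σ.symm j)
        rw [Equiv.apply_symm_apply] at h3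
        rw [← h3] at hv
        obtain ⟨v', hv', e⟩ := hv
        have : v' = v := g.injective e
        rw [← this]
        exact hv'
    · intro heq
      have hgK : ⁅refl Q B hQs hQp hQ12, refl Q B hQs hQp hQ13⁆ ∈ K := by
        rw [hKmem]
        refine ⟨hgG, fun v => ⟨hfwd v, fun h => ?_⟩⟩
        have h3 := hbwd _ h
        rw [← hginv, inv_apply_apply'] at h3
        exact h3
      rw [← heq] at hgK
      obtain ⟨σ, hσ⟩ := (hS _).mp hgK.1
      have h4 : e2 ∈ D (σ i1) := by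
        have h40 : ⁅refl Q B hQs hQp hQ12, refl Q B hQs hQp hQ13⁆ e1 ∈ D (σ i1) := by
          rw [← hσ i1]
          exact ⟨e1, he1, rfl⟩
        rwa [g1] at h40
      have he20 : e2 ≠ 0 := by
        rintro rfl
        apply hc
        rw [← hQ2]
        exact Q_zero Q hQs
      have hσ1 : σ i1 = i2 := by
        by_contra hne
        exact he20 (hdisj _ _ hne e2 h4 he2)
      have h5 := finrank_le_inf_ker_add_one (D i1) (B.flip e1)
      obtain ⟨x, hx, hx0⟩ : ∃ x ∈ (D i1 ⊓ LinearMap.ker (B.flip e1) : Submodule F V), x ≠ 0 := by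
        apply Submodule.exists_mem_ne_zero_of_ne_bot
        intro h
        rw [h, finrank_bot] at h5
        omega
      have hx1 : B x e1 = 0 := mem_ker_flip.mp hx.2
      have hxg := gfix x hx1 (horth i1 i2 h12 x hx.1 e2 he2) (horth i1 i3 h13 x hx.1 e3 he3)
      have h6 : x ∈ D (σ i1) := by
        have h60 : ⁅refl Q B hQs hQp hQ12, refl Q B hQs hQp hQ13⁆ x ∈ D (σ i1) := by
          rw [← hσ i1]
          exact ⟨x, hx.1, rfl⟩
        rwa [hxg] at h60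
      rw [hσ1] at h6
      exact hx0 (hdisj i1 i2 h12 x hx.1 h6)
  · refine lt_of_le_of_ne (fun g hg => ((hKmem g).mp hg).1) ?_
    intro heq
    have hinf : D i2 ⊓ D i3 = ⊥ := by
      rw [eq_bot_iff]
      rintro x ⟨hx2, hx3⟩
      exact hdisj i2 i3 h23 x hx2 hx3
    have h7 := Submodule.finrank_sup_add_finrank_inf_eq (D i2) (D i3)
    rw [hinf, finrank_bot] at h7
    obtain ⟨u, hu, hu0, hQu⟩ := exists_singular_in Q B hQs hQp (D i2 ⊔ D i3) (by omega)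
    obtain ⟨u2, hu2, u3, hu3, hu23⟩ := Submodule.mem_sup.mp hu
    have hue : B u e1 = 0 := by
      rw [← hu23, map_add, LinearMap.add_apply, horth i2 i1 h12.symm u2 hu2 e1 he1,
        horth i3 i1 h13.symm u3 hu3 e1 he1, add_zero]
    have hhG : sieg Q B u e1 ∈ G := hG2 u e1 hQu hue
    have hhK : sieg Q B u e1 ∈ K := by rw [heq]; exact hhG
    obtain ⟨j, hj, -⟩ := (((hKmem _).mp hhK).2 e1).mp ⟨i1, he1, hQ1⟩
    rw [sieg_apply Q B hQs hQp hQu hue, hsymm e1 u, hue, B_self Q B hQs hQp, hQ1] at hj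
    have e : e1 + (0 : F) • e1 - (2 * c) • u - (c * 0) • u = e1 - (2 * c) • u := by module
    rw [e] at hj
    have h2c : 2 * c ≠ 0 := mul_ne_zero h2 hc
    have hperp : ∀ y ∈ D i1, B u y = 0 := by
      intro y hy
      rw [← hu23, map_add, LinearMap.add_apply, horth i2 i1 h12.symm u2 hu2 y hy,
        horth i3 i1 h13.symm u3 hu3 y hy, add_zero]
    by_cases hj1 : j = i1
    · rw [hj1] at hj
      have h8 : (2 * c) • u ∈ D i1 := by
        have := (D i1).sub_mem he1 hj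
        rwa [sub_sub_cancel] at this
      have h9 : u ∈ D i1 := by
        have := (D i1).smul_mem (2 * c)⁻¹ h8
        rwa [smul_smul, inv_mul_cancel₀ h2c, one_smul] at this
      obtain ⟨y, hy, hyu⟩ := hnd i1 u h9 hu0
      apply hyu
      rw [hsymm]
      exact hperp y hy
    · have h8 : B (e1 - (2 * c) • u) e1 = 0 := horth j i1 hj1 _ hj e1 he1
      rw [map_sub, map_smul, LinearMap.sub_apply, LinearMap.smul_apply, hue, smul_zero, sub_zero,
        B_self Q B hQs hQp, hQ1] at h8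
      exact h2c h8

end

end Cfsg.Agent.Lib.Helper94_OrthFrame
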