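import Mathlib
import Cfsg.Agent.Lib.Helper94_Symp
import Cfsg.Agent.Lib.Helper94_OrthSmall
import Cfsg.Agent.Lib.Helper94_OrthNondeg
import Cfsg.Agent.Lib.Helper94_OrthDouble
import Cfsg.Agent.Lib.Helper94_OrthFrame

set_option autoImplicit false

/-!
Small nondegenerate quadratic spaces over the field of order three carry a canonical frame: the
vectors of one suitable norm form an orthogonal basis up to sign.  Together with
`Helper94_OrthFrame.not_maximal_frame` this shows that stabilisers of orthogonal decompositions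
into such blocks are not maximal (helper94).
-/

namespace Cfsg.Agent.Lib.Helper94_OrthFrame3

open Module Cfsg.Agent.Lib.Helper94_Symp Cfsg.Agent.Lib.Helper94_OrthSmall
  Cfsg.Agent.Lib.Helper94_OrthSiegel
  Cfsg.Agent.Lib.Helper94_OrthNondeg Cfsg.Agent.Lib.Helper94_OrthDouble
  Cfsg.Agent.Lib.Helper94_OrthFrame
open scoped commutatorElement

variable {F V : Type*} [Field F] [AddCommGroup V] [Module F V]

/-- A family of subspaces of dimension at most `k` spanning the space. -/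
lemma finrank_le_mul [FiniteDimensional F V] {t : ℕ} (D : Fin t → Submodule F V) (k : ℕ)
    (hk : ∀ i, finrank F (D i) ≤ k) (htop : iSup D = ⊤) : finrank F V ≤ t * k := by
  classical
  have key : ∀ s : Finset (Fin t), finrank F (s.sup D : Submodule F V) ≤ s.card * k := by
    intro s
    induction s using Finset.induction_on with
    | empty => simp
    | insert a s ha ih =>
      rw [Finset.sup_insert, Finset.card_insert_of_notMem ha]
      have := Submodule.finrank_add_le_finrank_add_finrank (D a) (s.sup D)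
      have := hk a
      nlinarith
  have h := key Finset.univ
  rw [Finset.sup_univ_eq_iSup, htop, finrank_top, Finset.card_univ, Fintype.card_fin] at h
  exact h

section

variable [Fintype F] [FiniteDimensional F V] {Q : V → F} {B : LinearMap.BilinForm F V}
  (hQs : ∀ (c : F) (v : V), Q (c • v) = c * c * Q v)
  (hQp : ∀ u v : V, Q (u + v) = Q u + Q v + B u v)

/-- The defining property of a frame vector `e` of norm `c` in the subspace `A`. -/
def IsFrameVec (Q : V → F) (B : LinearMap.BilinForm F V) (A : Submodule F V) (c : F) (e : V) :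
    Prop :=
  e ∈ A ∧ Q e = c ∧ ∀ v ∈ A, Q v = c → (∃ l : F, v = l • e) ∨ B v e = 0

include hQs hQp in
lemma Q_comb3 {a1 a2 a3 : V} (h12 : B a1 a2 = 0) (h13 : B a1 a3 = 0) (h23 : B a2 a3 = 0)
    (x y z : F) :
    Q (x • a1 + y • a2 + z • a3) = x * x * Q a1 + y * y * Q a2 + z * z * Q a3 := by
  rw [hQp, hQp, hQs, hQs, hQs]
  simp only [map_add, map_smul, LinearMap.add_apply, LinearMap.smul_apply, smul_eq_mul, h12, h13,
    h23]
  ring

include hQs hQp in
lemma Q_comb2 {a1 a2 : V} (h12 : B a1 a2 = 0) (x y : F) :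
    Q (x • a1 + y • a2) = x * x * Q a1 + y * y * Q a2 := by
  rw [hQp, hQs, hQs]
  simp only [map_smul, LinearMap.smul_apply, smul_eq_mul, h12]
  ring

include hQs hQp in
/-- An orthogonal basis of a nondegenerate space of dimension three. -/
lemma exists_orth3 (h2 : (2 : F) ≠ 0) (A : Submodule F V)
    (hAnd : ∀ a ∈ A, a ≠ 0 → ∃ x ∈ A, B x a ≠ 0) (hA : finrank F A = 3) :
    ∃ a1 ∈ A, ∃ a2 ∈ A, ∃ a3 ∈ A, Q a1 ≠ 0 ∧ Q a2 ≠ 0 ∧ Q a3 ≠ 0 ∧
      B a1 a2 = 0 ∧ B a1 a3 = 0 ∧ B a2 a3 = 0 ∧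
      ∀ v ∈ A, B v a1 = 0 → B v a2 = 0 → B v a3 = 0 → v = 0 := by
  have hsymm := B_symm Q B hQp
  have hA0 : A ≠ ⊥ := by
    intro h
    rw [h, finrank_bot] at hA
    omega
  obtain ⟨a1, ha1, hq1⟩ := exists_nonsing_in hQs hQp h2 A hAnd hA0
  obtain ⟨hnd1, hf1⟩ := nondeg_step hQs hQp h2 A hAnd ha1 hq1
  have hA1 : (A ⊓ LinearMap.ker (B.flip a1) : Submodule F V) ≠ ⊥ := by
    intro h
    rw [h, finrank_bot] at hf1
    omega
  obtain ⟨a2, ha2, hq2⟩ := exists_nonsing_in hQs hQp h2 _ hnd1 hA1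
  obtain ⟨hnd2, hf2⟩ := nondeg_step hQs hQp h2 _ hnd1 ha2 hq2
  have hA2 : ((A ⊓ LinearMap.ker (B.flip a1)) ⊓ LinearMap.ker (B.flip a2) : Submodule F V) ≠ ⊥ := by
    intro h
    rw [h, finrank_bot] at hf2
    omega
  obtain ⟨a3, ha3, hq3⟩ := exists_nonsing_in hQs hQp h2 _ hnd2 hA2
  obtain ⟨-, hf3⟩ := nondeg_step hQs hQp h2 _ hnd2 ha3 hq3
  have hbot : (((A ⊓ LinearMap.ker (B.flip a1)) ⊓ LinearMap.ker (B.flip a2)) ⊓
      LinearMap.ker (B.flip a3) : Submodule F V) = ⊥ := by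
    apply Submodule.finrank_eq_zero.mp
    omega
  refine ⟨a1, ha1, a2, ha2.1, a3, ha3.1.1, hq1, hq2, hq3, ?_, ?_, ?_, ?_⟩
  · rw [hsymm]
    exact mem_ker_flip.mp ha2.2
  · rw [hsymm]
    exact mem_ker_flip.mp ha3.1.2
  · rw [hsymm]
    exact mem_ker_flip.mp ha3.2
  · intro v hv h1 h2' h3
    have : v ∈ (((A ⊓ LinearMap.ker (B.flip a1)) ⊓ LinearMap.ker (B.flip a2)) ⊓
        LinearMap.ker (B.flip a3) : Submodule F V) :=
      ⟨⟨⟨hv, mem_ker_flip.mpr h1⟩, mem_ker_flip.mpr h2'⟩, mem_ker_flip.mpr h3⟩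
    rw [hbot] at this
    exact (Submodule.mem_bot F).mp this

include hQs hQp in
/-- An orthogonal basis of a nondegenerate space of dimension two. -/
lemma exists_orth2 (h2 : (2 : F) ≠ 0) (A : Submodule F V)
    (hAnd : ∀ a ∈ A, a ≠ 0 → ∃ x ∈ A, B x a ≠ 0) (hA : finrank F A = 2) :
    ∃ a1 ∈ A, ∃ a2 ∈ A, Q a1 ≠ 0 ∧ Q a2 ≠ 0 ∧ B a1 a2 = 0 ∧
      ∀ v ∈ A, B v a1 = 0 → B v a2 = 0 → v = 0 := by
  have hsymm := B_symm Q B hQp
  have hA0 : A ≠ ⊥ := by
    intro h
    rw [h, finrank_bot] at hA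
    omega
  obtain ⟨a1, ha1, hq1⟩ := exists_nonsing_in hQs hQp h2 A hAnd hA0
  obtain ⟨hnd1, hf1⟩ := nondeg_step hQs hQp h2 A hAnd ha1 hq1
  have hA1 : (A ⊓ LinearMap.ker (B.flip a1) : Submodule F V) ≠ ⊥ := by
    intro h
    rw [h, finrank_bot] at hf1
    omega
  obtain ⟨a2, ha2, hq2⟩ := exists_nonsing_in hQs hQp h2 _ hnd1 hA1
  obtain ⟨-, hf2⟩ := nondeg_step hQs hQp h2 _ hnd1 ha2 hq2
  have hbot : ((A ⊓ LinearMap.ker (B.flip a1)) ⊓ LinearMap.ker (B.flip a2) : Submodule F V) = ⊥ := by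
    apply Submodule.finrank_eq_zero.mp
    omega
  refine ⟨a1, ha1, a2, ha2.1, hq1, hq2, ?_, ?_⟩
  · rw [hsymm]
    exact mem_ker_flip.mp ha2.2
  · intro v hv h1 h2'
    have : v ∈ ((A ⊓ LinearMap.ker (B.flip a1)) ⊓ LinearMap.ker (B.flip a2) : Submodule F V) :=
      ⟨⟨hv, mem_ker_flip.mpr h1⟩, mem_ker_flip.mpr h2'⟩
    rw [hbot] at this
    exact (Submodule.mem_bot F).mp this

include hQs hQp in
/-- Coordinates with respect to an orthogonal basis. -/
lemma span_orth3 (h2 : (2 : F) ≠ 0) (A : Submodule F V) {a1 a2 a3 : V}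
    (ha1 : a1 ∈ A) (ha2 : a2 ∈ A) (ha3 : a3 ∈ A) (hq1 : Q a1 ≠ 0) (hq2 : Q a2 ≠ 0)
    (hq3 : Q a3 ≠ 0) (h12 : B a1 a2 = 0) (h13 : B a1 a3 = 0) (h23 : B a2 a3 = 0)
    (hcompl : ∀ v ∈ A, B v a1 = 0 → B v a2 = 0 → B v a3 = 0 → v = 0) :
    ∀ v ∈ A, ∃ x y z : F, v = x • a1 + y • a2 + z • a3 := by
  have hsymm := B_symm Q B hQp
  intro v hv
  have hb1 : B a1 a1 ≠ 0 := by rw [B_self Q B hQs hQp]; exact mul_ne_zero h2 hq1
  have hb2 : B a2 a2 ≠ 0 := by rw [B_self Q B hQs hQp]; exact mul_ne_zero h2 hq2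
  have hb3 : B a3 a3 ≠ 0 := by rw [B_self Q B hQs hQp]; exact mul_ne_zero h2 hq3
  refine ⟨B v a1 / B a1 a1, B v a2 / B a2 a2, B v a3 / B a3 a3, ?_⟩
  have hw : v - ((B v a1 / B a1 a1) • a1 + (B v a2 / B a2 a2) • a2 + (B v a3 / B a3 a3) • a3) = 0 := by
    apply hcompl
    · exact A.sub_mem hv (A.add_mem (A.add_mem (A.smul_mem _ ha1) (A.smul_mem _ ha2))
        (A.smul_mem _ ha3))
    · simp only [map_sub, map_add, map_smul, LinearMap.sub_apply, LinearMap.add_apply,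
        LinearMap.smul_apply, smul_eq_mul, hsymm a2 a1, hsymm a3 a1, h12, h13]
      field_simp
      ring
    · simp only [map_sub, map_add, map_smul, LinearMap.sub_apply, LinearMap.add_apply,
        LinearMap.smul_apply, smul_eq_mul, hsymm a3 a2, h12, h23]
      field_simp
      ring
    · simp only [map_sub, map_add, map_smul, LinearMap.sub_apply, LinearMap.add_apply,
        LinearMap.smul_apply, smul_eq_mul, h13, h23]
      field_simp
      ring
  exact sub_eq_zero.mp hw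

include hQs hQp in
lemma span_orth2 (h2 : (2 : F) ≠ 0) (A : Submodule F V) {a1 a2 : V}
    (ha1 : a1 ∈ A) (ha2 : a2 ∈ A) (hq1 : Q a1 ≠ 0) (hq2 : Q a2 ≠ 0)
    (h12 : B a1 a2 = 0)
    (hcompl : ∀ v ∈ A, B v a1 = 0 → B v a2 = 0 → v = 0) :
    ∀ v ∈ A, ∃ x y : F, v = x • a1 + y • a2 := by
  have hsymm := B_symm Q B hQp
  intro v hv
  have hb1 : B a1 a1 ≠ 0 := by rw [B_self Q B hQs hQp]; exact mul_ne_zero h2 hq1
  have hb2 : B a2 a2 ≠ 0 := by rw [B_self Q B hQs hQp]; exact mul_ne_zero h2 hq2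
  refine ⟨B v a1 / B a1 a1, B v a2 / B a2 a2, ?_⟩
  have hw : v - ((B v a1 / B a1 a1) • a1 + (B v a2 / B a2 a2) • a2) = 0 := by
    apply hcompl
    · exact A.sub_mem hv (A.add_mem (A.smul_mem _ ha1) (A.smul_mem _ ha2))
    · simp only [map_sub, map_add, map_smul, LinearMap.sub_apply, LinearMap.add_apply,
        LinearMap.smul_apply, smul_eq_mul, hsymm a2 a1, h12]
      field_simp
      ring
    · simp only [map_sub, map_add, map_smul, LinearMap.sub_apply, LinearMap.add_apply,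
        LinearMap.smul_apply, smul_eq_mul, h12]
      field_simp
      ring
  exact sub_eq_zero.mp hw

include hQs hQp in
/-- An orthogonal basis with all norms equal gives a frame vector (field of order three). -/
lemma frameVec_of_equal3 (h2 : (2 : F) ≠ 0) (hsm : ∀ x : F, x = 0 ∨ x = 1 ∨ x = -1)
    (A : Submodule F V) {a1 a2 a3 : V} {c : F} (hc : c ≠ 0)
    (ha1 : a1 ∈ A) (ha2 : a2 ∈ A) (ha3 : a3 ∈ A) (hq1 : Q a1 = c) (hq2 : Q a2 = c)
    (hq3 : Q a3 = c) (h12 : B a1 a2 = 0) (h13 : B a1 a3 = 0) (h23 : B a2 a3 = 0)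
    (hcompl : ∀ v ∈ A, B v a1 = 0 → B v a2 = 0 → B v a3 = 0 → v = 0) :
    IsFrameVec Q B A c a1 := by
  have hsymm := B_symm Q B hQp
  have h1 : (1 : F) ≠ 0 := one_ne_zero
  refine ⟨ha1, hq1, fun v hv hQv => ?_⟩
  obtain ⟨x, y, z, rfl⟩ := span_orth3 hQs hQp h2 A ha1 ha2 ha3 (by rw [hq1]; exact hc)
    (by rw [hq2]; exact hc) (by rw [hq3]; exact hc) h12 h13 h23 hcompl v hv
  rw [Q_comb3 hQs hQp h12 h13 h23, hq1, hq2, hq3] at hQv
  have hsum : x * x + y * y + z * z = 1 := by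
    apply mul_left_cancel₀ hc
    linear_combination hQv
  rcases hsm x with rfl | hx | hx
  · right
    simp only [map_add, map_smul, LinearMap.add_apply, LinearMap.smul_apply, smul_eq_mul,
      hsymm a2 a1, hsymm a3 a1, h12, h13]
    ring
  all_goals
    left
    have hxx : x * x = 1 := by rw [hx]; ring
    have hyz : y * y + z * z = 0 := by linear_combination hsum - hxx
    have hy0 : y = 0 := by
      rcases hsm y with rfl | hy | hy
      · rfl
      all_goals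
        exfalso
        have hyy : y * y = 1 := by rw [hy]; ring
        rcases hsm z with rfl | hz | hz
        · apply h1
          linear_combination hyz - hyy
        all_goals
          have hzz : z * z = 1 := by rw [hz]; ring
          apply h2
          linear_combination hyz - hyy - hzz + 2 * 1
    have hz0 : z = 0 := by
      rw [hy0] at hyz
      rcases hsm z with rfl | hz | hz
      · rfl
      all_goals
        exfalso
        have hzz : z * z = 1 := by rw [hz]; ring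
        apply h1
        linear_combination hyz - hzz
    exact ⟨x, by rw [hy0, hz0, zero_smul, zero_smul, add_zero, add_zero]⟩

include hQs hQp in
/-- Two equal norms and one opposite norm: pass to the sum and difference of the equal pair. -/
lemma frameVec_of_two_equal (h2 : (2 : F) ≠ 0) (hsm : ∀ x : F, x = 0 ∨ x = 1 ∨ x = -1)
    (A : Submodule F V) {a1 a2 a3 : V} {c : F} (hc : c ≠ 0)
    (ha1 : a1 ∈ A) (ha2 : a2 ∈ A) (ha3 : a3 ∈ A) (hq1 : Q a1 = -c) (hq2 : Q a2 = -c)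
    (hq3 : Q a3 = c) (h12 : B a1 a2 = 0) (h13 : B a1 a3 = 0) (h23 : B a2 a3 = 0)
    (hcompl : ∀ v ∈ A, B v a1 = 0 → B v a2 = 0 → B v a3 = 0 → v = 0) :
    IsFrameVec Q B A c a3 := by
  have hsymm := B_symm Q B hQp
  have h3 : (2 : F) = -1 := by
    rcases hsm 2 with h | h | h
    · exact absurd h h2
    · exfalso
      have : (1 : F) = 0 := by linear_combination h
      exact one_ne_zero this
    · exact h
  have hqs : Q (a1 + a2) = c := by
    rw [hQp, hq1, hq2, h12]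
    linear_combination (-c) * h3
  have hqd : Q (a1 - a2) = c := by
    rw [Q_sub hQs hQp, hq1, hq2, h12]
    linear_combination (-c) * h3
  have hsd : B (a1 + a2) (a1 - a2) = 0 := by
    simp only [map_add, map_sub, LinearMap.add_apply, LinearMap.sub_apply, hsymm a2 a1, h12,
      B_self Q B hQs hQp, hq1, hq2]
    ring
  have hs3 : B (a1 + a2) a3 = 0 := by
    simp only [map_add, LinearMap.add_apply, h13, h23, add_zero]
  have hd3 : B (a1 - a2) a3 = 0 := by
    simp only [map_sub, LinearMap.sub_apply, h13, h23, sub_zero]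
  have key := frameVec_of_equal3 hQs hQp h2 hsm A hc ha3 (A.add_mem ha1 ha2) (A.sub_mem ha1 ha2)
    hq3 hqs hqd (by rw [hsymm]; exact hs3) (by rw [hsymm]; exact hd3) hsd ?_
  · exact key
  · intro v hv hv3 hvs hvd
    simp only [map_add, map_sub] at hvs hvd
    have hv1 : B v a1 = 0 := by
      have : 2 * B v a1 = 0 := by linear_combination hvs + hvd
      rcases mul_eq_zero.mp this with h | h
      · exact absurd h h2
      · exact h
    have hv2 : B v a2 = 0 := by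
      have : 2 * B v a2 = 0 := by linear_combination hvs - hvd
      rcases mul_eq_zero.mp this with h | h
      · exact absurd h h2
      · exact h
    exact hcompl v hv hv1 hv2 hv3

include hQs hQp in
/-- **Frame vectors in dimension three** over the field of order three. -/
theorem exists_frameVec3 (h2 : (2 : F) ≠ 0) (hsm : ∀ x : F, x = 0 ∨ x = 1 ∨ x = -1)
    (A : Submodule F V) (hAnd : ∀ a ∈ A, a ≠ 0 → ∃ x ∈ A, B x a ≠ 0) (hA : finrank F A = 3) :
    ∃ c : F, c ≠ 0 ∧ ∃ e : V, IsFrameVec Q B A c e := by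
  have hsymm := B_symm Q B hQp
  obtain ⟨a1, ha1, a2, ha2, a3, ha3, hq1, hq2, hq3, h12, h13, h23, hcompl⟩ :=
    exists_orth3 hQs hQp h2 A hAnd hA
  have h21 : B a2 a1 = 0 := by rw [hsymm]; exact h12
  have h31 : B a3 a1 = 0 := by rw [hsymm]; exact h13
  have h32 : B a3 a2 = 0 := by rw [hsymm]; exact h23
  have hone : (1 : F) ≠ 0 := one_ne_zero
  have hmone : (-1 : F) ≠ 0 := neg_ne_zero.mpr one_ne_zero
  have hv : ∀ x : F, x ≠ 0 → x = 1 ∨ x = -1 := fun x hx => (hsm x).resolve_left hx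
  rcases hv _ hq1 with e1 | e1 <;> rcases hv _ hq2 with e2 | e2 <;> rcases hv _ hq3 with e3 | e3
  · exact ⟨1, hone, a1, frameVec_of_equal3 hQs hQp h2 hsm A hone ha1 ha2 ha3 e1 e2 e3 h12 h13 h23
      hcompl⟩
  · exact ⟨-1, hmone, a3, frameVec_of_two_equal hQs hQp h2 hsm A hmone ha1 ha2 ha3
      (by rw [e1, neg_neg]) (by rw [e2, neg_neg]) e3 h12 h13 h23 hcompl⟩
  · exact ⟨-1, hmone, a2, frameVec_of_two_equal hQs hQp h2 hsm A hmone ha1 ha3 ha2
      (by rw [e1, neg_neg]) (by rw [e3, neg_neg]) e2 h13 h12 h32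
      (fun v hv h1 h3 h2' => hcompl v hv h1 h2' h3)⟩
  · exact ⟨1, hone, a1, frameVec_of_two_equal hQs hQp h2 hsm A hone ha2 ha3 ha1 e2 e3 e1 h23 h21
      h31 (fun v hv h2' h3 h1 => hcompl v hv h1 h2' h3)⟩
  · exact ⟨-1, hmone, a1, frameVec_of_two_equal hQs hQp h2 hsm A hmone ha2 ha3 ha1
      (by rw [e2, neg_neg]) (by rw [e3, neg_neg]) e1 h23 h21 h31
      (fun v hv h2' h3 h1 => hcompl v hv h1 h2' h3)⟩
  · exact ⟨1, hone, a2, frameVec_of_two_equal hQs hQp h2 hsm A hone ha1 ha3 ha2 e1 e3 e2 h13 h12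
      h32 (fun v hv h1 h3 h2' => hcompl v hv h1 h2' h3)⟩
  · exact ⟨1, hone, a3, frameVec_of_two_equal hQs hQp h2 hsm A hone ha1 ha2 ha3 e1 e2 e3 h12 h13
      h23 hcompl⟩
  · exact ⟨-1, hmone, a1, frameVec_of_equal3 hQs hQp h2 hsm A hmone ha1 ha2 ha3 e1 e2 e3 h12 h13
      h23 hcompl⟩

include hQs hQp in
/-- **Frame vectors in anisotropic planes** over the field of order three. -/
theorem exists_frameVec2 (h2 : (2 : F) ≠ 0) (hsm : ∀ x : F, x = 0 ∨ x = 1 ∨ x = -1)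
    (A : Submodule F V) (hAnd : ∀ a ∈ A, a ≠ 0 → ∃ x ∈ A, B x a ≠ 0) (hA : finrank F A = 2)
    (hani : ∀ u ∈ A, Q u = 0 → u = 0) :
    ∃ c : F, c ≠ 0 ∧ ∃ e : V, IsFrameVec Q B A c e := by
  have hsymm := B_symm Q B hQp
  obtain ⟨a1, ha1, a2, ha2, hq1, hq2, h12, hcompl⟩ := exists_orth2 hQs hQp h2 A hAnd hA
  have hone : (1 : F) ≠ 0 := one_ne_zero
  have hv : ∀ x : F, x ≠ 0 → x = 1 ∨ x = -1 := fun x hx => (hsm x).resolve_left hx
  have hne : Q a2 ≠ -Q a1 := by
    intro h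
    have h0 : Q (a1 + a2) = 0 := by
      rw [hQp, h, h12]
      ring
    have h1 := hani _ (A.add_mem ha1 ha2) h0
    have h3 : B a1 (a1 + a2) = 0 := by rw [h1, map_zero]
    rw [map_add, h12, add_zero, B_self Q B hQs hQp] at h3
    exact mul_ne_zero h2 hq1 h3
  have heq : Q a2 = Q a1 := by
    rcases hv _ hq1 with e1 | e1 <;> rcases hv _ hq2 with e2 | e2
    · rw [e1, e2]
    · exfalso; apply hne; rw [e1, e2]
    · exfalso; apply hne; rw [e1, e2, neg_neg]
    · rw [e1, e2]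
  refine ⟨Q a1, hq1, a1, ha1, rfl, fun v hv' hQv => ?_⟩
  obtain ⟨x, y, rfl⟩ := span_orth2 hQs hQp h2 A ha1 ha2 hq1 hq2 h12 hcompl v hv'
  rw [Q_comb2 hQs hQp h12, heq] at hQv
  have hsum : x * x + y * y = 1 := by
    apply mul_left_cancel₀ hq1
    linear_combination hQv
  rcases hsm x with rfl | hx | hx
  · right
    simp only [map_add, map_smul, LinearMap.add_apply, LinearMap.smul_apply, smul_eq_mul,
      hsymm a2 a1, h12]
    ring
  all_goals
    left
    have hxx : x * x = 1 := by rw [hx]; ring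
    have hyy : y * y = 0 := by linear_combination hsum - hxx
    have hy0 : y = 0 := mul_self_eq_zero.mp hyy
    exact ⟨x, by rw [hy0, zero_smul, add_zero]⟩

include hQp in
/-- Frame vectors are transported by isometries. -/
lemma IsFrameVec.transport {A A' : Submodule F V} {c : F} {e : V}
    (h : IsFrameVec Q B A c e) (φ : A ≃ₗ[F] A') (hφ : ∀ w : A, Q ((φ w : A') : V) = Q (w : V)) :
    IsFrameVec Q B A' c ((φ ⟨e, h.1⟩ : A') : V) := by
  have hB : ∀ x y : A, B ((φ x : A') : V) ((φ y : A') : V) = B (x : V) (y : V) := by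
    intro x y
    have h1 := hQp ((φ x : A') : V) ((φ y : A') : V)
    have h2 := hQp (x : V) (y : V)
    have h3 : ((φ x : A') : V) + ((φ y : A') : V) = ((φ (x + y) : A') : V) := by
      rw [map_add]
      rfl
    have h4 : (x : V) + (y : V) = ((x + y : A) : V) := rfl
    rw [h3, hφ, hφ, hφ, ← h4] at h1
    linear_combination h2 - h1
  refine ⟨(φ ⟨e, h.1⟩).2, ?_, fun v hv hQv => ?_⟩
  · rw [hφ]
    exact h.2.1
  · have h5 : ((φ (φ.symm ⟨v, hv⟩) : A') : V) = v := by rw [LinearEquiv.apply_symm_apply]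
    have h6 : Q ((φ.symm ⟨v, hv⟩ : A) : V) = c := by rw [← hφ, h5, hQv]
    rcases h.2.2 _ (φ.symm ⟨v, hv⟩).2 h6 with ⟨l, hl⟩ | h7
    · left
      refine ⟨l, ?_⟩
      have h8 : φ.symm ⟨v, hv⟩ = l • (⟨e, h.1⟩ : A) := Subtype.ext hl
      rw [← h5, h8, map_smul]
      rfl
    · right
      rw [← h5]
      have := hB (φ.symm ⟨v, hv⟩) ⟨e, h.1⟩
      rw [this]
      exact h7

include hQs hQp in
/-- **Non-maximality via a frame**, for pairwise isometric blocks. -/
theorem not_maximal_frame_iso (h2 : (2 : F) ≠ 0) (G : Subgroup (V ≃ₗ[F] V)) (hG1 : G ≤ oG Q)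
    (hG2 : ∀ u z, Q u = 0 → B u z = 0 → sieg Q B u z ∈ G)
    (hGc : ∀ (a b : V) (ha : Q a ≠ 0) (hb : Q b ≠ 0),
      ⁅refl Q B hQs hQp ha, refl Q B hQs hQp hb⁆ ∈ G)
    {t : ℕ} (D : Fin t → Submodule F V)
    (horth : ∀ i j, i ≠ j → ∀ x ∈ D i, ∀ y ∈ D j, B x y = 0)
    (hnd : ∀ i, ∀ a ∈ D i, a ≠ 0 → ∃ x ∈ D i, B x a ≠ 0)
    (S : Subgroup (V ≃ₗ[F] V))
    (hS : ∀ g, g ∈ S ↔ ∃ σ : Equiv.Perm (Fin t), ∀ i, (D i).map (g : V →ₗ[F] V) = D (σ i))
    (hiso : ∀ i j, ∃ φ : D i ≃ₗ[F] D j, ∀ w : D i, Q ((φ w : D j) : V) = Q (w : V))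
    (ht : 3 ≤ t) (hk : ∀ i, 2 ≤ finrank F (D i))
    (i1 : Fin t) (c : F) (hc : c ≠ 0) (e1 : V) (hfr : IsFrameVec Q B (D i1) c e1) :
    ∃ K : Subgroup (V ≃ₗ[F] V), S ⊓ G < K ∧ K < G := by
  obtain ⟨i2, i3, h12, h13, h23⟩ : ∃ i2 i3 : Fin t, i1 ≠ i2 ∧ i1 ≠ i3 ∧ i2 ≠ i3 := by
    classical
    have hcard : 1 < (Finset.univ.erase i1).card := by
      rw [Finset.card_erase_of_mem (Finset.mem_univ _), Finset.card_univ, Fintype.card_fin]
      omega
    obtain ⟨i2, hi2, i3, hi3, h23⟩ := Finset.one_lt_card.mp hcard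
    exact ⟨i2, i3, (Finset.ne_of_mem_erase hi2).symm, (Finset.ne_of_mem_erase hi3).symm, h23⟩
  obtain ⟨φ2, hφ2⟩ := hiso i1 i2
  obtain ⟨φ3, hφ3⟩ := hiso i1 i3
  have f2 := hfr.transport hQp φ2 hφ2
  have f3 := hfr.transport hQp φ3 hφ3
  exact not_maximal_frame hQs hQp h2 G hG1 hG2 hGc D horth hnd S hS i1 i2 i3 h12 h13 h23 c hc
    e1 _ _ hfr.1 f2.1 f3.1 hfr.2.1 f2.2.1 f3.2.1 (hk i1) (hk i2) (hk i3) hfr.2.2 f2.2.2 f3.2.2

end

end Cfsg.Agent.Lib.Helper94_OrthFrame3
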