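import Mathlib
import Cfsg.Prelude.Def_GeometricClasses
import Cfsg.Agent.Lib.Helper94_Bridge
import Cfsg.Agent.Lib.Helper94_SLBridge
import Cfsg.Agent.Lib.Helper94_OrthSmall
import Cfsg.Agent.Lib.Helper94_OrthBridge
import Cfsg.Agent.Lib.Helper94_OrthSiegel
import Cfsg.Agent.Lib.Helper94_OrthSiegel2
import Cfsg.Agent.Lib.Helper94_OrthGenBridge
import Cfsg.Agent.Lib.Helper94_OrthFrame
import Cfsg.Agent.Lib.Helper94_OrthFrame3

set_option autoImplicit false

/-!
Prelude vocabulary: over the field of order three, the stabiliser in `Ω` of an orthogonal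
decomposition into isometric blocks of dimension three, or into anisotropic planes, is not maximal
(helper94).
-/

namespace Cfsg.Agent.Lib.Helper94_OrthFrameBridge

open Matrix Module Cfsg.Agent.Lib.Helper94_Symp Cfsg.Agent.Lib.Helper94_Bridge
  Cfsg.Agent.Lib.Helper94_SLBridge
  Cfsg.Agent.Lib.Helper94_OrthSmall Cfsg.Agent.Lib.Helper94_OrthBridge
  Cfsg.Agent.Lib.Helper94_OrthSiegel Cfsg.Agent.Lib.Helper94_OrthSiegel2
  Cfsg.Agent.Lib.Helper94_OrthGenBridge Cfsg.Agent.Lib.Helper94_OrthFrame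
  Cfsg.Agent.Lib.Helper94_OrthFrame3
open scoped commutatorElement

variable {ι : Type} [Fintype ι] [DecidableEq ι] {F : Type*} [Field F] [Fintype F]

/-- The field of order three: `2 ≠ 0`. -/
lemma two_ne_zero_of_card (hq : Fintype.card F = 3) : (2 : F) ≠ 0 := by
  intro h2
  have hc : ringChar F = 2 := by
    have : ringChar F ∣ 2 := by
      apply ringChar.dvd
      exact_mod_cast h2
    rcases (Nat.dvd_prime Nat.prime_two).mp this with h | h
    · exfalso
      have := CharP.ringChar_ne_one (R := F)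
      exact this h
    · exact h
  have heven : Even (Fintype.card F) := by
    have := (FiniteField.even_card_iff_char_two (F := F)).mp hc
    exact Nat.even_iff.mpr this
  rw [hq] at heven
  revert heven
  decide

/-- **Non-maximality of decomposition stabilisers with frame blocks** (field of order three). -/
theorem frame_not_maximal (Q : (ι → F) → F) (hQ : Cfsg.Geo.IsNondegenerateQuadraticForm Q)
    (hq : Fintype.card F = 3) (hn : 7 ≤ Fintype.card ι) {t : ℕ} (k : ℕ)
    (D : Fin t → Submodule F (ι → F)) (hD : Cfsg.Geo.IsOrthogonalMDecomposition Q k D)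
    (hk2 : 2 ≤ k) (ht : 3 ≤ t) (i1 : Fin t) (c : F) (hc : c ≠ 0) (e1 : ι → F)
    (hfr : IsFrameVec Q (polarForm Q hQ) (D i1) c e1) :
    ∃ K : Subgroup (GL ι F),
      Cfsg.Geo.decompositionStabilizer D ⊓ Cfsg.Geo.omegaGL Q < K ∧ K < Cfsg.Geo.omegaGL Q := by
  classical
  have h2 : (2 : F) ≠ 0 := two_ne_zero_of_card hq
  have hfrV : finrank F (ι → F) = Fintype.card ι := by simp
  let S : Subgroup ((ι → F) ≃ₗ[F] (ι → F)) :=
    (Cfsg.Geo.decompositionStabilizer D).comap (glEquiv ι F).symm.toMonoidHom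
  have hSeq : Cfsg.Geo.decompositionStabilizer D = S.comap (glEquiv ι F).toMonoidHom :=
    (comap_symm_comap (glEquiv ι F) _).symm
  have hSchar : ∀ g, g ∈ S ↔ ∃ π : Equiv.Perm (Fin t),
      ∀ i, (D i).map (g : (ι → F) →ₗ[F] (ι → F)) = D (π i) := by
    intro g
    have key : Matrix.toLin' (((glEquiv ι F).symm g :
        Matrix.GeneralLinearGroup ι F) : Matrix ι ι F) =
        (g : (ι → F) →ₗ[F] (ι → F)) := by
      refine LinearMap.ext fun x => ?_
      rw [Matrix.toLin'_apply, ← glEquiv_apply, MulEquiv.apply_symm_apply]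
      rfl
    constructor
    · rintro ⟨π, hπ⟩
      refine ⟨π, fun i => ?_⟩
      have := hπ i
      simp only [MulEquiv.toMonoidHom_eq_coe, MonoidHom.coe_coe] at this
      rw [key] at this
      exact this
    · rintro ⟨π, hπ⟩
      refine ⟨π, fun i => ?_⟩
      simp only [MulEquiv.toMonoidHom_eq_coe, MonoidHom.coe_coe]
      rw [key]
      exact hπ i
  have horth : ∀ i j, i ≠ j → ∀ x ∈ D i, ∀ y ∈ D j, polarForm Q hQ x y = 0 := by
    intro i j hij x hx y hy
    rw [polarForm_apply]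
    exact hD.decomp.orthogonal i j hij x hx y hy
  have hnd : ∀ i, ∀ a ∈ D i, a ≠ 0 → ∃ x ∈ D i, polarForm Q hQ x a ≠ 0 := by
    intro i a ha ha0
    obtain ⟨x, hx, hxa⟩ := (hD.decomp.nondegenerate i a ha ha0).1
    exact ⟨x, hx, by rw [polarForm_apply]; exact hxa⟩
  have key := not_maximal_frame_iso (gen_hQs Q hQ) (gen_hQp Q hQ) h2 ⁅oG Q, oG Q⁆
    (Subgroup.commutator_le_self _)
    (fun u z hu huz => sieg_mem_commutator' Q _ (gen_hQs Q hQ) (gen_hQp Q hQ) (gen_hN Q hQ)
      (by rw [hfrV]; omega) hu huz)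
    (fun a b ha hb => Subgroup.commutator_mem_commutator
      (refl_mem Q _ (gen_hQs Q hQ) (gen_hQp Q hQ) ha) (refl_mem Q _ (gen_hQs Q hQ) (gen_hQp Q hQ) hb))
    D horth hnd S hSchar hD.isometric ht
    (fun i => by rw [hD.decomp.decomp.finrank_eq]; exact hk2) i1 c hc e1 hfr
  obtain ⟨K, h1, h2'⟩ := key
  have hsurj : Function.Surjective (glEquiv ι F).toMonoidHom := (glEquiv ι F).surjective
  refine ⟨K.comap (glEquiv ι F).toMonoidHom, ?_, ?_⟩
  · rw [hSeq, omegaGL_eq, ← Subgroup.comap_inf]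
    exact (Subgroup.comap_lt_comap_of_surjective hsurj).mpr h1
  · rw [omegaGL_eq]
    exact (Subgroup.comap_lt_comap_of_surjective hsurj).mpr h2'

/-- Blocks of dimension three. -/
theorem frame_not_maximal_three (Q : (ι → F) → F) (hQ : Cfsg.Geo.IsNondegenerateQuadraticForm Q)
    (hq : Fintype.card F = 3) (hn : 7 ≤ Fintype.card ι) {t : ℕ}
    (D : Fin t → Submodule F (ι → F)) (hD : Cfsg.Geo.IsOrthogonalMDecomposition Q 3 D) :
    ∃ K : Subgroup (GL ι F),
      Cfsg.Geo.decompositionStabilizer D ⊓ Cfsg.Geo.omegaGL Q < K ∧ K < Cfsg.Geo.omegaGL Q := by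
  have h2 : (2 : F) ≠ 0 := two_ne_zero_of_card hq
  have hsm : ∀ x : F, x = 0 ∨ x = 1 ∨ x = -1 := small_field (by rw [hq])
  have hfrV : finrank F (ι → F) = Fintype.card ι := by simp
  have ht : 3 ≤ t := by
    have := finrank_le_mul D 3 (fun i => by rw [hD.decomp.decomp.finrank_eq])
      hD.decomp.decomp.iSup_eq_top
    rw [hfrV] at this
    omega
  have hnd : ∀ i, ∀ a ∈ D i, a ≠ 0 → ∃ x ∈ D i, polarForm Q hQ x a ≠ 0 := by
    intro i a ha ha0
    obtain ⟨x, hx, hxa⟩ := (hD.decomp.nondegenerate i a ha ha0).1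
    exact ⟨x, hx, by rw [polarForm_apply]; exact hxa⟩
  obtain ⟨c, hc, e, he⟩ := exists_frameVec3 (gen_hQs Q hQ) (gen_hQp Q hQ) h2 hsm
    (D ⟨0, by omega⟩) (hnd _) (hD.decomp.decomp.finrank_eq _)
  exact frame_not_maximal Q hQ hq hn 3 D hD (by omega) ht ⟨0, by omega⟩ c hc e he

/-- Anisotropic blocks of dimension two. -/
theorem frame_not_maximal_two (Q : (ι → F) → F) (hQ : Cfsg.Geo.IsNondegenerateQuadraticForm Q)
    (hq : Fintype.card F = 3) (hn : 7 ≤ Fintype.card ι) {t : ℕ}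
    (D : Fin t → Submodule F (ι → F)) (hD : Cfsg.Geo.IsOrthogonalMDecomposition Q 2 D)
    (hani : ∀ i, ¬ Cfsg.Geo.IsPlusTypeOn Q (D i)) :
    ∃ K : Subgroup (GL ι F),
      Cfsg.Geo.decompositionStabilizer D ⊓ Cfsg.Geo.omegaGL Q < K ∧ K < Cfsg.Geo.omegaGL Q := by
  have h2 : (2 : F) ≠ 0 := two_ne_zero_of_card hq
  have hsm : ∀ x : F, x = 0 ∨ x = 1 ∨ x = -1 := small_field (by rw [hq])
  have hfrV : finrank F (ι → F) = Fintype.card ι := by simp
  have ht : 3 ≤ t := by
    have := finrank_le_mul D 2 (fun i => by rw [hD.decomp.decomp.finrank_eq])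
      hD.decomp.decomp.iSup_eq_top
    rw [hfrV] at this
    omega
  have hnd : ∀ i, ∀ a ∈ D i, a ≠ 0 → ∃ x ∈ D i, polarForm Q hQ x a ≠ 0 := by
    intro i a ha ha0
    obtain ⟨x, hx, hxa⟩ := (hD.decomp.nondegenerate i a ha ha0).1
    exact ⟨x, hx, by rw [polarForm_apply]; exact hxa⟩
  have hani' : ∀ u ∈ D ⟨0, by omega⟩, Q u = 0 → u = 0 := by
    intro u hu hQu
    by_contra hu0
    apply hani ⟨0, by omega⟩
    refine ⟨Submodule.span F {u}, ?_, ?_, ?_⟩
    · rw [Submodule.span_le]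
      intro x hx
      rw [Set.mem_singleton_iff.mp hx]
      exact hu
    · intro w hw
      obtain ⟨l, rfl⟩ := Submodule.mem_span_singleton.mp hw
      rw [gen_hQs Q hQ, hQu, mul_zero]
    · rw [finrank_span_singleton hu0, hD.decomp.decomp.finrank_eq]
  obtain ⟨c, hc, e, he⟩ := exists_frameVec2 (gen_hQs Q hQ) (gen_hQp Q hQ) h2 hsm
    (D ⟨0, by omega⟩) (hnd _) (hD.decomp.decomp.finrank_eq _) hani'
  exact frame_not_maximal Q hQ hq hn 2 D hD (by omega) ht ⟨0, by omega⟩ c hc e he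

end Cfsg.Agent.Lib.Helper94_OrthFrameBridge
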