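import Mathlib
import Cfsg.Agent.Lib.Helper94_Symp
import Cfsg.Agent.Lib.Helper94_OrthSmall
import Cfsg.Agent.Lib.Helper94_OrthNondeg
import Cfsg.Agent.Lib.Helper94_OrthDouble
import Cfsg.Agent.Lib.Helper94_OrthFrame
import Cfsg.Agent.Lib.Helper94_OrthFrame3

set_option autoImplicit false

/-!
Nondegenerate quadratic spaces of dimension three over the field of order three: there is an
orthogonal basis of vectors of one norm `c`, the vectors of norm `c` are exactly the multiples of
the basis vectors, and every similitude permutes the basis vectors up to scalars (helper94).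
-/

namespace Cfsg.Agent.Lib.Helper94_OrthFrameSim

open Module Cfsg.Agent.Lib.Helper94_Symp Cfsg.Agent.Lib.Helper94_OrthSmall
  Cfsg.Agent.Lib.Helper94_OrthNondeg Cfsg.Agent.Lib.Helper94_OrthDouble
  Cfsg.Agent.Lib.Helper94_OrthFrame Cfsg.Agent.Lib.Helper94_OrthFrame3

variable {F V : Type*} [Field F] [AddCommGroup V] [Module F V]

section

variable [Fintype F] [FiniteDimensional F V] {Q : V → F} {B : LinearMap.BilinForm F V}
  (hQs : ∀ (c : F) (v : V), Q (c • v) = c * c * Q v)
  (hQp : ∀ u v : V, Q (u + v) = Q u + Q v + B u v)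

/-- An orthogonal basis of the subspace `A` consisting of vectors of norm `c`. -/
structure IsFrame3 (Q : V → F) (B : LinearMap.BilinForm F V) (A : Submodule F V) (c : F)
    (b1 b2 b3 : V) : Prop where
  mem1 : b1 ∈ A
  mem2 : b2 ∈ A
  mem3 : b3 ∈ A
  q1 : Q b1 = c
  q2 : Q b2 = c
  q3 : Q b3 = c
  o12 : B b1 b2 = 0
  o13 : B b1 b3 = 0
  o23 : B b2 b3 = 0
  compl : ∀ v ∈ A, B v b1 = 0 → B v b2 = 0 → B v b3 = 0 → v = 0

include hQs hQp in
/-- Existence of a frame (field of order three, dimension three). -/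
theorem exists_frame3 (h2 : (2 : F) ≠ 0) (hsm : ∀ x : F, x = 0 ∨ x = 1 ∨ x = -1)
    (A : Submodule F V) (hAnd : ∀ a ∈ A, a ≠ 0 → ∃ x ∈ A, B x a ≠ 0) (hA : finrank F A = 3) :
    ∃ c : F, c ≠ 0 ∧ ∃ b1 b2 b3 : V, IsFrame3 Q B A c b1 b2 b3 := by
  have hsymm := B_symm Q B hQp
  obtain ⟨a1, ha1, a2, ha2, a3, ha3, hq1, hq2, hq3, h12, h13, h23, hcompl⟩ :=
    exists_orth3 hQs hQp h2 A hAnd hA
  have h3 : (2 : F) = -1 := by
    rcases hsm 2 with h | h | h
    · exact absurd h h2
    · exfalso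
      have : (1 : F) = 0 := by linear_combination h
      exact one_ne_zero this
    · exact h
  have hone : (1 : F) ≠ 0 := one_ne_zero
  have hmone : (-1 : F) ≠ 0 := neg_ne_zero.mpr one_ne_zero
  have hv : ∀ x : F, x ≠ 0 → x = 1 ∨ x = -1 := fun x hx => (hsm x).resolve_left hx
  -- the step: two equal norms `-c` and one norm `c`
  have step : ∀ (c : F) (x y z : V), x ∈ A → y ∈ A → z ∈ A → Q x = -c → Q y = -c → Q z = c →
      B x y = 0 → B x z = 0 → B y z = 0 →
      (∀ v ∈ A, B v x = 0 → B v y = 0 → B v z = 0 → v = 0) →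
      IsFrame3 Q B A c (x + y) (x - y) z := by
    intro c x y z hx hy hz qx qy qz oxy oxz oyz hc
    refine ⟨A.add_mem hx hy, A.sub_mem hx hy, hz, ?_, ?_, qz, ?_, ?_, ?_, ?_⟩
    · rw [hQp, qx, qy, oxy]
      linear_combination (-c) * h3
    · rw [Q_sub hQs hQp, qx, qy, oxy]
      linear_combination (-c) * h3
    · simp only [map_add, map_sub, LinearMap.add_apply, LinearMap.sub_apply, hsymm y x, oxy,
        B_self Q B hQs hQp, qx, qy]
      ring
    · simp only [map_add, LinearMap.add_apply, oxz, oyz, add_zero]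
    · simp only [map_sub, LinearMap.sub_apply, oxz, oyz, sub_zero]
    · intro v hv hvs hvd hvz
      simp only [map_add, map_sub] at hvs hvd
      have hv1 : B v x = 0 := by
        have : 2 * B v x = 0 := by linear_combination hvs + hvd
        rcases mul_eq_zero.mp this with h | h
        · exact absurd h h2
        · exact h
      have hv2 : B v y = 0 := by
        have : 2 * B v y = 0 := by linear_combination hvs - hvd
        rcases mul_eq_zero.mp this with h | h
        · exact absurd h h2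
        · exact h
      exact hc v hv hv1 hv2 hvz
  have h21 : B a2 a1 = 0 := by rw [hsymm]; exact h12
  have h31 : B a3 a1 = 0 := by rw [hsymm]; exact h13
  have h32 : B a3 a2 = 0 := by rw [hsymm]; exact h23
  rcases hv _ hq1 with e1 | e1 <;> rcases hv _ hq2 with e2 | e2 <;> rcases hv _ hq3 with e3 | e3
  · exact ⟨1, hone, a1, a2, a3, ⟨ha1, ha2, ha3, e1, e2, e3, h12, h13, h23, hcompl⟩⟩
  · exact ⟨-1, hmone, _, _, _, step (-1) a1 a2 a3 ha1 ha2 ha3 (by rw [e1, neg_neg])
      (by rw [e2, neg_neg]) e3 h12 h13 h23 hcompl⟩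
  · exact ⟨-1, hmone, _, _, _, step (-1) a1 a3 a2 ha1 ha3 ha2 (by rw [e1, neg_neg])
      (by rw [e3, neg_neg]) e2 h13 h12 h32 (fun v hv h1 h3' h2' => hcompl v hv h1 h2' h3')⟩
  · exact ⟨1, hone, _, _, _, step 1 a2 a3 a1 ha2 ha3 ha1 e2 e3 e1 h23 h21 h31
      (fun v hv h2' h3' h1 => hcompl v hv h1 h2' h3')⟩
  · exact ⟨-1, hmone, _, _, _, step (-1) a2 a3 a1 ha2 ha3 ha1 (by rw [e2, neg_neg])
      (by rw [e3, neg_neg]) e1 h23 h21 h31 (fun v hv h2' h3' h1 => hcompl v hv h1 h2' h3')⟩
  · exact ⟨1, hone, _, _, _, step 1 a1 a3 a2 ha1 ha3 ha2 e1 e3 e2 h13 h12 h32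
      (fun v hv h1 h3' h2' => hcompl v hv h1 h2' h3')⟩
  · exact ⟨1, hone, _, _, _, step 1 a1 a2 a3 ha1 ha2 ha3 e1 e2 e3 h12 h13 h23 hcompl⟩
  · exact ⟨-1, hmone, a1, a2, a3, ⟨ha1, ha2, ha3, e1, e2, e3, h12, h13, h23, hcompl⟩⟩

include hQs hQp in
/-- The vectors of norm `c` are the multiples of the frame vectors. -/
theorem IsFrame3.norm_c (h2 : (2 : F) ≠ 0) (hsm : ∀ x : F, x = 0 ∨ x = 1 ∨ x = -1)
    {A : Submodule F V} {c : F} {b1 b2 b3 : V} (hc : c ≠ 0) (h : IsFrame3 Q B A c b1 b2 b3)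
    {v : V} (hv : v ∈ A) (hQv : Q v = c) :
    (∃ l : F, v = l • b1) ∨ (∃ l : F, v = l • b2) ∨ (∃ l : F, v = l • b3) := by
  have hsymm := B_symm Q B hQp
  have f1 := frameVec_of_equal3 hQs hQp h2 hsm A hc h.mem1 h.mem2 h.mem3 h.q1 h.q2 h.q3 h.o12 h.o13
    h.o23 h.compl
  have f2 := frameVec_of_equal3 hQs hQp h2 hsm A hc h.mem2 h.mem1 h.mem3 h.q2 h.q1 h.q3
    (by rw [hsymm]; exact h.o12) h.o23 h.o13 (fun v hv h2' h1 h3 => h.compl v hv h1 h2' h3)
  have f3 := frameVec_of_equal3 hQs hQp h2 hsm A hc h.mem3 h.mem1 h.mem2 h.q3 h.q1 h.q2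
    (by rw [hsymm]; exact h.o13) (by rw [hsymm]; exact h.o23) h.o12
    (fun v hv h3 h1 h2' => h.compl v hv h1 h2' h3)
  rcases f1.2.2 v hv hQv with h1 | h1
  · exact Or.inl h1
  rcases f2.2.2 v hv hQv with h2' | h2'
  · exact Or.inr (Or.inl h2')
  rcases f3.2.2 v hv hQv with h3 | h3
  · exact Or.inr (Or.inr h3)
  exfalso
  have := h.compl v hv h1 h2' h3
  rw [this, Q_zero Q hQs] at hQv
  exact hc hQv.symm

include hQs hQp in
/-- Coordinates in a frame. -/
lemma IsFrame3.coords (h2 : (2 : F) ≠ 0) {A : Submodule F V} {c : F} {b1 b2 b3 : V} (hc : c ≠ 0)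
    (h : IsFrame3 Q B A c b1 b2 b3) :
    ∀ v ∈ A, ∃ x y z : F, v = x • b1 + y • b2 + z • b3 :=
  span_orth3 hQs hQp h2 A h.mem1 h.mem2 h.mem3 (by rw [h.q1]; exact hc) (by rw [h.q2]; exact hc)
    (by rw [h.q3]; exact hc) h.o12 h.o13 h.o23 h.compl

include hQs hQp in
/-- **Similitudes permute the frame**: a linear map of `A` multiplying the form by a nonzero scalar
maps each frame vector to a multiple of a frame vector. -/
theorem IsFrame3.similitude (h2 : (2 : F) ≠ 0) (hsm : ∀ x : F, x = 0 ∨ x = 1 ∨ x = -1)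
    {A : Submodule F V} {c : F} {b1 b2 b3 : V} (hc : c ≠ 0) (h : IsFrame3 Q B A c b1 b2 b3)
    (α : V →ₗ[F] V) (hαA : ∀ v ∈ A, α v ∈ A) (μ : F) (hμ : μ ≠ 0)
    (hα : ∀ x ∈ A, ∀ y ∈ A, B (α x) (α y) = μ * B x y) :
    ∀ v ∈ A, Q v = c →
      (∃ l : F, α v = l • b1) ∨ (∃ l : F, α v = l • b2) ∨ (∃ l : F, α v = l • b3) := by
  classical
  have hsymm := B_symm Q B hQp
  have hQα : ∀ x ∈ A, Q (α x) = μ * Q x := by
    intro x hx
    have h1 := hα x hx x hx
    rw [B_self Q B hQs hQp, B_self Q B hQs hQp] at h1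
    apply mul_left_cancel₀ h2
    linear_combination h1
  rcases (hsm μ).resolve_left hμ with rfl | rfl
  · intro v hv hQv
    exact h.norm_c hQs hQp h2 hsm hc (hαA v hv) (by rw [hQα v hv, hQv, one_mul])
  · exfalso
    obtain ⟨x1, y1, z1, e1⟩ := h.coords hQs hQp h2 hc _ (hαA b1 h.mem1)
    obtain ⟨x2, y2, z2, e2⟩ := h.coords hQs hQp h2 hc _ (hαA b2 h.mem2)
    obtain ⟨x3, y3, z3, e3⟩ := h.coords hQs hQp h2 hc _ (hαA b3 h.mem3)
    have h2c : 2 * c ≠ 0 := mul_ne_zero h2 hc
    have gram : ∀ (x y z x' y' z' : F),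
        B (x • b1 + y • b2 + z • b3) (x' • b1 + y' • b2 + z' • b3) =
          (2 * c) * (x * x' + y * y' + z * z') := by
      intro x y z x' y' z'
      simp only [map_add, map_smul, LinearMap.add_apply, LinearMap.smul_apply, smul_eq_mul,
        hsymm b2 b1, hsymm b3 b1, hsymm b3 b2, h.o12, h.o13, h.o23, B_self Q B hQs hQp, h.q1, h.q2,
        h.q3]
      ring
    have r11 : x1 * x1 + y1 * y1 + z1 * z1 = -1 := by
      have := hα b1 h.mem1 b1 h.mem1
      rw [e1, gram, B_self Q B hQs hQp, h.q1] at this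
      apply mul_left_cancel₀ h2c
      linear_combination this
    have r22 : x2 * x2 + y2 * y2 + z2 * z2 = -1 := by
      have := hα b2 h.mem2 b2 h.mem2
      rw [e2, gram, B_self Q B hQs hQp, h.q2] at this
      apply mul_left_cancel₀ h2c
      linear_combination this
    have r33 : x3 * x3 + y3 * y3 + z3 * z3 = -1 := by
      have := hα b3 h.mem3 b3 h.mem3
      rw [e3, gram, B_self Q B hQs hQp, h.q3] at this
      apply mul_left_cancel₀ h2c
      linear_combination this
    have r12 : x1 * x2 + y1 * y2 + z1 * z2 = 0 := by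
      have := hα b1 h.mem1 b2 h.mem2
      rw [e1, e2, gram, h.o12, mul_zero] at this
      exact (mul_eq_zero.mp this).resolve_left h2c
    have r13 : x1 * x3 + y1 * y3 + z1 * z3 = 0 := by
      have := hα b1 h.mem1 b3 h.mem3
      rw [e1, e3, gram, h.o13, mul_zero] at this
      exact (mul_eq_zero.mp this).resolve_left h2c
    have r23 : x2 * x3 + y2 * y3 + z2 * z3 = 0 := by
      have := hα b2 h.mem2 b3 h.mem3
      rw [e2, e3, gram, h.o23, mul_zero] at this
      exact (mul_eq_zero.mp this).resolve_left h2c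
    -- the determinant of the coordinate matrix squares to `-1`
    let M : Matrix (Fin 3) (Fin 3) F := !![x1, y1, z1; x2, y2, z2; x3, y3, z3]
    have hMM : M * M.transpose = -1 := by
      ext i j
      fin_cases i <;> fin_cases j <;>
        simp [M, Matrix.mul_apply, Fin.sum_univ_three] <;>
        first
          | linear_combination r11 | linear_combination r22 | linear_combination r33
          | linear_combination r12 | linear_combination r13 | linear_combination r23
    have hdet : M.det * M.det = -1 := by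
      have := congrArg Matrix.det hMM
      rw [Matrix.det_mul, Matrix.det_transpose, Matrix.det_neg, Matrix.det_one, Fintype.card_fin]
        at this
      rw [this]
      ring
    rcases hsm M.det with h0 | h1 | h1
    · rw [h0] at hdet
      have : (1 : F) = 0 := by linear_combination hdet
      exact one_ne_zero this
    · rw [h1] at hdet
      apply h2
      linear_combination hdet
    · rw [h1] at hdet
      apply h2
      linear_combination hdet

end

end Cfsg.Agent.Lib.Helper94_OrthFrameSim
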