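import Mathlib
import Cfsg.Prelude.Def_GeometricClasses
import Cfsg.Agent.Lib.Helper94_Bridge
import Cfsg.Agent.Lib.Helper94_SLBridge
import Cfsg.Agent.Lib.Helper94_OrthSmall
import Cfsg.Agent.Lib.Helper94_OrthBridge
import Cfsg.Agent.Lib.Helper94_OrthSiegel
import Cfsg.Agent.Lib.Helper94_OrthSiegel2
import Cfsg.Agent.Lib.Helper94_OrthGenBridge
import Cfsg.Agent.Lib.Helper94_OrthFrame3
import Cfsg.Agent.Lib.Helper94_OrthFrameBridge
import Cfsg.Agent.Lib.Helper94_OrthFrameSim
import Cfsg.Agent.Lib.Helper94_TensorVec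

set_option autoImplicit false

/-!
Over the field of order three, the stabiliser in `Ω` of a tensor decomposition `O_3 ⊗ O_{n₂}` is
not maximal: the three-dimensional factor has a frame, so the tensor group permutes the three
blocks `b_i ⊗ F^{n₂}` (helper94).
-/

namespace Cfsg.Agent.Lib.Helper94_TensorFrame

open Matrix Module Cfsg.Agent.Lib.Helper94_Symp Cfsg.Agent.Lib.Helper94_Bridge
  Cfsg.Agent.Lib.Helper94_SLBridge
  Cfsg.Agent.Lib.Helper94_OrthSmall Cfsg.Agent.Lib.Helper94_OrthBridge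
  Cfsg.Agent.Lib.Helper94_OrthSiegel Cfsg.Agent.Lib.Helper94_OrthSiegel2
  Cfsg.Agent.Lib.Helper94_OrthGenBridge Cfsg.Agent.Lib.Helper94_OrthFrame3
  Cfsg.Agent.Lib.Helper94_OrthFrameBridge Cfsg.Agent.Lib.Helper94_OrthFrameSim
  Cfsg.Agent.Lib.Helper94_TensorVec
open scoped Kronecker

variable {F : Type*} [Field F] {ι : Type} [Fintype ι] [DecidableEq ι] {n₁ n₂ : ℕ}

/-- The linear map `y ↦ P ((b ⊗ y) ∘ e)`. -/
noncomputable def tauLin (e : ι ≃ Fin n₁ × Fin n₂) (P : GL ι F) (b : Fin n₁ → F) :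
    (Fin n₂ → F) →ₗ[F] (ι → F) where
  toFun y := phi e P (ten b y)
  map_add' y y' := by rw [ten_add_right, map_add]
  map_smul' c y := by rw [ten_smul_right, map_smul]; rfl

lemma tauLin_apply (e : ι ≃ Fin n₁ × Fin n₂) (P : GL ι F) (b : Fin n₁ → F) (y : Fin n₂ → F) :
    tauLin e P b y = phi e P (ten b y) := rfl

lemma tauLin_injective (e : ι ≃ Fin n₁ × Fin n₂) (P : GL ι F) {b : Fin n₁ → F} (hb : b ≠ 0) :
    Function.Injective (tauLin e P b) := by
  intro y y' h
  rw [tauLin_apply, tauLin_apply] at h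
  have h1 := (phi e P).injective h
  obtain ⟨i₀, hi₀⟩ : ∃ i, b i ≠ 0 := by
    by_contra hcon
    push Not at hcon
    exact hb (funext hcon)
  ext j
  have h2 := congrFun h1 (i₀, j)
  simp only [ten_apply] at h2
  exact mul_left_cancel₀ hi₀ h2

/-- The two-argument form of the prelude as a bilinear form. -/
def bilinOf {κ : Type} [Fintype κ] [DecidableEq κ] (f : (κ → F) → (κ → F) → F)
    (hf : Cfsg.Geo.IsBilinearForm f) : LinearMap.BilinForm F (κ → F) :=
  LinearMap.mk₂ F f hf.add_left hf.smul_left hf.add_right hf.smul_right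

lemma bilinOf_apply {κ : Type} [Fintype κ] [DecidableEq κ] (f : (κ → F) → (κ → F) → F)
    (hf : Cfsg.Geo.IsBilinearForm f) (u v : κ → F) : bilinOf f hf u v = f u v := rfl

variable [Fintype F]

/-- **Tensor decompositions `O_3 ⊗ O_{n₂}` over the field of order three are not maximal.** -/
theorem tensor3_not_maximal (Q : (ι → F) → F) (hQ : Cfsg.Geo.IsNondegenerateQuadraticForm Q)
    (hq : Fintype.card F = 3) (hn : 7 ≤ Fintype.card ι) (hn₂ : 3 ≤ n₂)
    (e : ι ≃ Fin 3 × Fin n₂) (P : GL ι F)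
    (f₁ : (Fin 3 → F) → (Fin 3 → F) → F) (f₂ : (Fin n₂ → F) → (Fin n₂ → F) → F)
    (hf₁ : Cfsg.Geo.IsSymmetricForm f₁) (hf₂ : Cfsg.Geo.IsSymmetricForm f₂)
    (hT : Cfsg.Geo.IsTensorFormStructure id (QuadraticMap.polar Q) f₁ f₂ e P) :
    ∃ K : Subgroup (GL ι F),
      Cfsg.Geo.tensorProductSubgroup 3 n₂ e P ⊓ Cfsg.Geo.omegaGL Q < K ∧
        K < Cfsg.Geo.omegaGL Q := by
  classical
  have h2 : (2 : F) ≠ 0 := two_ne_zero_of_card hq
  have hsm : ∀ x : F, x = 0 ∨ x = 1 ∨ x = -1 := small_field (by rw [hq])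
  have h3 : (2 : F) = -1 := by
    rcases hsm 2 with h | h | h
    · exact absurd h h2
    · exfalso
      have : (1 : F) = 0 := by linear_combination h
      exact one_ne_zero this
    · exact h
  have hfrV : finrank F (ι → F) = Fintype.card ι := by simp
  have hQs := gen_hQs Q hQ
  have hQp := gen_hQp Q hQ
  have hsymm := B_symm Q (polarForm Q hQ) hQp
  obtain ⟨c, hc, hform⟩ := hT
  -- the form on pure tensors
  have hτB : ∀ (a a' : Fin 3 → F) (y y' : Fin n₂ → F),
      polarForm Q hQ (phi e P (ten a y)) (phi e P (ten a' y')) = c * (f₁ a a' * f₂ y y') := by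
    intro a a' y y'
    rw [polarForm_apply, phi_apply, phi_apply, hform,
      formOfGram_ten f₁ f₂ hf₁.bilinear hf₂.bilinear]
  -- the quadratic form on the first factor
  have hQs₁ : ∀ (l : F) (v : Fin 3 → F), -(f₁ (l • v) (l • v)) = l * l * -(f₁ v v) := by
    intro l v
    rw [hf₁.bilinear.smul_left, hf₁.bilinear.smul_right]
    ring
  have hQp₁ : ∀ u v : Fin 3 → F, -(f₁ (u + v) (u + v)) =
      -(f₁ u u) + -(f₁ v v) + bilinOf f₁ hf₁.bilinear u v := by
    intro u v
    rw [bilinOf_apply, hf₁.bilinear.add_left, hf₁.bilinear.add_right, hf₁.bilinear.add_right,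
      hf₁.symm v u]
    linear_combination (-(f₁ u v)) * h3
  have hnd₁ : ∀ a ∈ (⊤ : Submodule F (Fin 3 → F)), a ≠ 0 →
      ∃ x ∈ (⊤ : Submodule F (Fin 3 → F)), bilinOf f₁ hf₁.bilinear x a ≠ 0 := by
    intro a _ ha
    obtain ⟨x, hx⟩ := (hf₁.nondegenerate a ha).1
    exact ⟨x, Submodule.mem_top, hx⟩
  obtain ⟨c₁, hc₁, b1, b2, b3, hfr⟩ := exists_frame3 (Q := fun v : Fin 3 → F => -(f₁ v v))
    hQs₁ hQp₁ h2 hsm ⊤ hnd₁ (by rw [finrank_top]; simp)
  have hbb : ∀ b : Fin 3 → F, -(f₁ b b) = c₁ → f₁ b b ≠ 0 := by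
    intro b hb h0
    rw [h0, neg_zero] at hb
    exact hc₁ hb.symm
  have hb1 : f₁ b1 b1 ≠ 0 := hbb b1 hfr.q1
  have hb2 : f₁ b2 b2 ≠ 0 := hbb b2 hfr.q2
  have hb3 : f₁ b3 b3 ≠ 0 := hbb b3 hfr.q3
  have hne : ∀ b : Fin 3 → F, f₁ b b ≠ 0 → b ≠ 0 := by
    rintro b hb rfl
    apply hb
    have := hf₁.bilinear.smul_left 0 0 0
    simpa using this
  have o12 : f₁ b1 b2 = 0 := hfr.o12
  have o13 : f₁ b1 b3 = 0 := hfr.o13
  have o23 : f₁ b2 b3 = 0 := hfr.o23
  -- the blocks
  let D1 : Submodule F (ι → F) := LinearMap.range (tauLin e P b1)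
  let D2 : Submodule F (ι → F) := LinearMap.range (tauLin e P b2)
  let D3 : Submodule F (ι → F) := LinearMap.range (tauLin e P b3)
  have horth : ∀ (b b' : Fin 3 → F), f₁ b b' = 0 →
      ∀ x ∈ LinearMap.range (tauLin e P b), ∀ x' ∈ LinearMap.range (tauLin e P b'),
        polarForm Q hQ x x' = 0 := by
    rintro b b' hbb' _ ⟨y, rfl⟩ _ ⟨y', rfl⟩
    rw [tauLin_apply, tauLin_apply, hτB, hbb', zero_mul, mul_zero]
  have hndD : ∀ b : Fin 3 → F, f₁ b b ≠ 0 → ∀ v ∈ LinearMap.range (tauLin e P b), v ≠ 0 →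
      ∃ w ∈ LinearMap.range (tauLin e P b), polarForm Q hQ w v ≠ 0 := by
    rintro b hb _ ⟨y, rfl⟩ hv
    have hy : y ≠ 0 := by
      rintro rfl
      exact hv (map_zero _)
    obtain ⟨y', hy'⟩ := (hf₂.nondegenerate y hy).1
    refine ⟨tauLin e P b y', ⟨y', rfl⟩, ?_⟩
    rw [tauLin_apply, tauLin_apply, hτB]
    exact mul_ne_zero hc (mul_ne_zero hb hy')
  have o21 : f₁ b2 b1 = 0 := by rw [hf₁.symm]; exact o12
  have o31 : f₁ b3 b1 = 0 := by rw [hf₁.symm]; exact o13
  have o32 : f₁ b3 b2 = 0 := by rw [hf₁.symm]; exact o23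
  have hfD1 : finrank F D1 = n₂ := by
    rw [LinearMap.finrank_range_of_inj (tauLin_injective e P (hne b1 hb1))]
    simp
  -- the ambient groups
  let G : Subgroup ((ι → F) ≃ₗ[F] (ι → F)) := ⁅oG Q, oG Q⁆
  have hG1 : G ≤ oG Q := Subgroup.commutator_le_self _
  have hG2 : ∀ u z, Q u = 0 → polarForm Q hQ u z = 0 → sieg Q (polarForm Q hQ) u z ∈ G :=
    fun u z hu huz => sieg_mem_commutator' Q _ hQs hQp (gen_hN Q hQ) (by rw [hfrV]; omega) hu huz
  let T' : Subgroup ((ι → F) ≃ₗ[F] (ι → F)) :=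
    (Cfsg.Geo.tensorProductSubgroup 3 n₂ e P).comap (glEquiv ι F).symm.toMonoidHom
  have hTeq : Cfsg.Geo.tensorProductSubgroup 3 n₂ e P = T'.comap (glEquiv ι F).toMonoidHom :=
    (comap_symm_comap (glEquiv ι F) _).symm
  have hTfac : ∀ g ∈ T', ∃ (A : Matrix (Fin 3) (Fin 3) F) (B' : Matrix (Fin n₂) (Fin n₂) F),
      ∀ (a : Fin 3 → F) (y : Fin n₂ → F),
        g (phi e P (ten a y)) = phi e P (ten (A *ᵥ a) (B' *ᵥ y)) := by
    intro g hg
    obtain ⟨A, B', hAB⟩ := exists_factors e P (Subgroup.mem_comap.mp hg)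
    refine ⟨A, B', fun a y => ?_⟩
    have := hAB a y
    simp only [MulEquiv.toMonoidHom_eq_coe, MonoidHom.coe_coe, MulEquiv.apply_symm_apply] at this
    exact this
  -- membership in the union of the blocks
  let InU : (ι → F) → Prop := fun v => v ∈ D1 ∨ v ∈ D2 ∨ v ∈ D3
  -- tensor elements that are isometries preserve the union of the blocks
  have hfwd : ∀ g ∈ T', g ∈ oG Q → ∀ v, InU v → InU (g v) := by
    intro g hgT hgO v hv
    obtain ⟨A, B', hAB⟩ := hTfac g hgT
    -- the similitude factor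
    obtain ⟨j₀⟩ : Nonempty (Fin n₂) := ⟨⟨0, by omega⟩⟩
    have hy₀ : (Pi.single j₀ (1 : F) : Fin n₂ → F) ≠ 0 := by
      intro h
      have := congrFun h j₀
      simp at this
    obtain ⟨y₁, hy₁⟩ := (hf₂.nondegenerate _ hy₀).1
    have hrel : ∀ a a' : Fin 3 → F,
        f₁ (A *ᵥ a) (A *ᵥ a') * f₂ (B' *ᵥ y₁) (B' *ᵥ Pi.single j₀ 1) =
          f₁ a a' * f₂ y₁ (Pi.single j₀ 1) := by
      intro a a'
      have h5 := oG_B Q (polarForm Q hQ) hQp hgO (phi e P (ten a y₁))
        (phi e P (ten a' (Pi.single j₀ 1)))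
      rw [hAB, hAB, hτB, hτB] at h5
      exact mul_left_cancel₀ hc h5
    have hl' : f₂ (B' *ᵥ y₁) (B' *ᵥ Pi.single j₀ 1) ≠ 0 := by
      intro h0
      have := hrel b1 b1
      rw [h0, mul_zero] at this
      exact mul_ne_zero hb1 hy₁ this.symm
    have hμ : f₂ y₁ (Pi.single j₀ 1) / f₂ (B' *ᵥ y₁) (B' *ᵥ Pi.single j₀ 1) ≠ 0 :=
      div_ne_zero hy₁ hl'
    have hsim := hfr.similitude hQs₁ hQp₁ h2 hsm hc₁ (Matrix.mulVecLin A)
      (fun v _ => Submodule.mem_top) _ hμ (by
        intro x _ y _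
        rw [bilinOf_apply, bilinOf_apply, Matrix.mulVecLin_apply, Matrix.mulVecLin_apply]
        have := hrel x y
        field_simp
        linear_combination this)
    have hmove : ∀ b : Fin 3 → F, -(f₁ b b) = c₁ → ∀ x ∈ LinearMap.range (tauLin e P b),
        InU (g x) := by
      rintro b hb _ ⟨y, rfl⟩
      rw [tauLin_apply, hAB]
      rcases hsim b Submodule.mem_top hb with ⟨l, hl⟩ | ⟨l, hl⟩ | ⟨l, hl⟩
      · left
        rw [Matrix.mulVecLin_apply] at hl
        rw [hl, ten_smul_left, ← ten_smul_right]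
        exact ⟨_, rfl⟩
      · right; left
        rw [Matrix.mulVecLin_apply] at hl
        rw [hl, ten_smul_left, ← ten_smul_right]
        exact ⟨_, rfl⟩
      · right; right
        rw [Matrix.mulVecLin_apply] at hl
        rw [hl, ten_smul_left, ← ten_smul_right]
        exact ⟨_, rfl⟩
    rcases hv with hv | hv | hv
    · exact hmove b1 hfr.q1 v hv
    · exact hmove b2 hfr.q2 v hv
    · exact hmove b3 hfr.q3 v hv
  -- the overgroup
  let K : Subgroup ((ι → F) ≃ₗ[F] (ι → F)) :=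
    { carrier := {g | g ∈ G ∧ (∀ v, InU v → InU (g v)) ∧ (∀ v, InU v → InU (g⁻¹ v))}
      mul_mem' := by
        rintro a b ⟨haG, ha1, ha2⟩ ⟨hbG, hb1', hb2'⟩
        refine ⟨G.mul_mem haG hbG, fun v hv => ha1 _ (hb1' v hv), fun v hv => ?_⟩
        rw [_root_.mul_inv_rev]
        exact hb2' _ (ha2 v hv)
      one_mem' := ⟨G.one_mem, fun v hv => hv, fun v hv => by rw [inv_one]; exact hv⟩
      inv_mem' := by
        rintro a ⟨haG, ha1, ha2⟩
        refine ⟨G.inv_mem haG, ha2, fun v hv => ?_⟩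
        rw [inv_inv]
        exact ha1 v hv }
  have hKmem : ∀ g, g ∈ K ↔ g ∈ G ∧ (∀ v, InU v → InU (g v)) ∧ (∀ v, InU v → InU (g⁻¹ v)) :=
    fun g => Iff.rfl
  -- a singular vector of the first block and companions
  obtain ⟨u, hu, hu0, hQu⟩ := exists_singular_in Q (polarForm Q hQ) hQs hQp D1
    (by rw [hfD1]; exact hn₂)
  have huu : polarForm Q hQ u u = 0 := by rw [B_self Q _ hQs hQp, hQu, mul_zero]
  obtain ⟨x, hx, hxu⟩ := hndD b1 hb1 u hu hu0
  obtain ⟨z, hz, hzu⟩ : ∃ z ∈ (D1 ⊓ LinearMap.ker ((polarForm Q hQ).flip u) : Submodule F (ι → F)),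
      z ∉ Submodule.span F {u} := by
    by_contra hcon
    push Not at hcon
    have hle : (D1 ⊓ LinearMap.ker ((polarForm Q hQ).flip u) : Submodule F (ι → F)) ≤
        Submodule.span F {u} := fun z hz => hcon z hz
    have h5 := Cfsg.Agent.Lib.Helper94_OrthNondeg.finrank_le_inf_ker_add_one D1
      ((polarForm Q hQ).flip u)
    have h6 := Submodule.finrank_mono hle
    have h7 := finrank_span_singleton (K := F) hu0
    omega
  have hzD : z ∈ D1 := hz.1
  have hzu' : polarForm Q hQ u z = 0 := by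
    rw [hsymm]
    exact Cfsg.Agent.Lib.Helper94_OrthNondeg.mem_ker_flip.mp hz.2
  refine ⟨K.comap (glEquiv ι F).toMonoidHom, ?_, ?_⟩
  · -- the tensor group lies strictly inside
    rw [hTeq, omegaGL_eq, ← Subgroup.comap_inf]
    apply (Subgroup.comap_lt_comap_of_surjective (glEquiv ι F).surjective).mpr
    refine lt_of_le_of_ne ?_ ?_
    · rintro g ⟨hgT, hgG⟩
      rw [hKmem]
      exact ⟨hgG, hfwd g hgT (hG1 hgG), hfwd g⁻¹ (T'.inv_mem hgT) (hG1 (G.inv_mem hgG))⟩
    · intro heq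
      have hg₀G : sieg Q (polarForm Q hQ) u z ∈ G := hG2 u z hQu hzu'
      have hstab : ∀ (w : ι → F), polarForm Q hQ u w = 0 → ∀ (b : Fin 3 → F),
          (u ∈ LinearMap.range (tauLin e P b) ∧ w ∈ LinearMap.range (tauLin e P b)) ∨
          (∀ v ∈ LinearMap.range (tauLin e P b), polarForm Q hQ v u = 0 ∧
            polarForm Q hQ v w = 0) →
          ∀ v ∈ LinearMap.range (tauLin e P b),
            sieg Q (polarForm Q hQ) u w v ∈ LinearMap.range (tauLin e P b) := by
        intro w huw b hcase v hv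
        rw [sieg_apply Q _ hQs hQp hQu huw]
        rcases hcase with ⟨hub, hwb⟩ | hperp
        · exact Submodule.sub_mem _ (Submodule.sub_mem _ (Submodule.add_mem _ hv
            (Submodule.smul_mem _ _ hwb)) (Submodule.smul_mem _ _ hub))
            (Submodule.smul_mem _ _ hub)
        · rw [(hperp v hv).1, (hperp v hv).2, zero_smul, zero_smul, mul_zero, zero_smul,
            add_zero, sub_zero, sub_zero]
          exact hv
      have hperp2 : ∀ w ∈ D1, ∀ v ∈ D2, polarForm Q hQ v u = 0 ∧ polarForm Q hQ v w = 0 :=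
        fun w hw v hv => ⟨horth b2 b1 o21 v hv u hu, horth b2 b1 o21 v hv w hw⟩
      have hperp3 : ∀ w ∈ D1, ∀ v ∈ D3, polarForm Q hQ v u = 0 ∧ polarForm Q hQ v w = 0 :=
        fun w hw v hv => ⟨horth b3 b1 o31 v hv u hu, horth b3 b1 o31 v hv w hw⟩
      have hInU : ∀ w ∈ D1, polarForm Q hQ u w = 0 →
          ∀ v, InU v → InU (sieg Q (polarForm Q hQ) u w v) := by
        intro w hw huw v hv
        rcases hv with hv | hv | hv
        · exact Or.inl (hstab w huw b1 (Or.inl ⟨hu, hw⟩) v hv)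
        · exact Or.inr (Or.inl (hstab w huw b2 (Or.inr (hperp2 w hw)) v hv))
        · exact Or.inr (Or.inr (hstab w huw b3 (Or.inr (hperp3 w hw)) v hv))
      have hg₀K : sieg Q (polarForm Q hQ) u z ∈ K := by
        rw [hKmem]
        refine ⟨hg₀G, hInU z hzD hzu', ?_⟩
        rw [sieg_inv Q _ hQs hQp hQu hzu']
        exact hInU (-z) (D1.neg_mem hzD) (by rw [map_neg, hzu', neg_zero])
      rw [← heq] at hg₀K
      obtain ⟨A, B', hAB⟩ := hTfac _ hg₀K.1
      -- the second factor is a scalar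
      obtain ⟨i₂, hi₂⟩ : ∃ i, b2 i ≠ 0 := by
        by_contra hcon
        push Not at hcon
        exact hne b2 hb2 (funext hcon)
      have hfix2 : ∀ y : Fin n₂ → F, ten (A *ᵥ b2) (B' *ᵥ y) = ten b2 y := by
        intro y
        apply (phi e P).injective
        rw [← hAB, sieg_apply Q _ hQs hQp hQu hzu']
        have hv : phi e P (ten b2 y) ∈ D2 := ⟨y, rfl⟩
        rw [(hperp2 z hzD _ hv).1, (hperp2 z hzD _ hv).2, zero_smul, zero_smul, mul_zero,
          zero_smul, add_zero, sub_zero, sub_zero]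
      obtain ⟨j₀⟩ : Nonempty (Fin n₂) := ⟨⟨0, by omega⟩⟩
      have hd : (A *ᵥ b2) i₂ ≠ 0 := by
        intro h0
        have := congrFun (hfix2 (Pi.single j₀ 1)) (i₂, j₀)
        simp only [ten_apply, h0, zero_mul, Pi.single_eq_same, mul_one] at this
        exact hi₂ this.symm
      have hscal : ∀ y : Fin n₂ → F, B' *ᵥ y = (b2 i₂ / (A *ᵥ b2) i₂) • y := by
        intro y
        ext j
        have := congrFun (hfix2 y) (i₂, j)
        simp only [ten_apply] at this
        rw [Pi.smul_apply, smul_eq_mul]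
        field_simp
        linear_combination this
      -- the first factor fixes the line of `b1`
      obtain ⟨i₁, hi₁⟩ : ∃ i, b1 i ≠ 0 := by
        by_contra hcon
        push Not at hcon
        exact hne b1 hb1 (funext hcon)
      have hD1 : ∀ y : Fin n₂ → F, sieg Q (polarForm Q hQ) u z (phi e P (ten b1 y)) ∈ D1 :=
        fun y => hstab z hzu' b1 (Or.inl ⟨hu, hzD⟩) _ ⟨y, rfl⟩
      obtain ⟨y', hy'⟩ := hD1 (Pi.single j₀ 1)
      rw [hAB, tauLin_apply] at hy'
      have hy'' := (phi e P).injective hy'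
      have hline : A *ᵥ b1 = (y' j₀ / (B' *ᵥ Pi.single j₀ 1) j₀) • b1 ∨
          (B' *ᵥ Pi.single j₀ 1) j₀ = 0 := by
        by_cases h0 : (B' *ᵥ Pi.single j₀ 1) j₀ = 0
        · exact Or.inr h0
        · left
          ext i
          have := congrFun hy'' (i, j₀)
          simp only [ten_apply] at this
          rw [Pi.smul_apply, smul_eq_mul]
          field_simp
          linear_combination -this
      have hB0 : (B' *ᵥ Pi.single j₀ 1) j₀ ≠ 0 := by
        rw [hscal, Pi.smul_apply, Pi.single_eq_same, smul_eq_mul, mul_one]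
        exact div_ne_zero hi₂ hd
      have hline' := hline.resolve_right hB0
      -- the element acts on the first block as a scalar, hence trivially
      obtain ⟨ν, hν⟩ : ∃ ν : F, ∀ y : Fin n₂ → F, B' *ᵥ y = ν • y := ⟨_, hscal⟩
      obtain ⟨ρ, hρ'⟩ : ∃ ρ : F, A *ᵥ b1 = ρ • b1 := ⟨_, hline'⟩
      have hact : ∀ v ∈ D1, sieg Q (polarForm Q hQ) u z v = (ρ * ν) • v := by
        rintro _ ⟨y, rfl⟩
        rw [tauLin_apply, hAB, hρ', hν, ten_smul_left, ten_smul_right, map_smul, map_smul,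
          smul_smul]
      have hfixu : sieg Q (polarForm Q hQ) u z u = u := by
        rw [sieg_apply Q _ hQs hQp hQu hzu', huu, hzu', zero_smul, zero_smul, mul_zero, zero_smul,
          add_zero, sub_zero, sub_zero]
      have hρ : ρ * ν = 1 := by
        have h5 := hact u hu
        rw [hfixu] at h5
        by_contra hne1
        have h6 : (ρ * ν - 1) • u = 0 := by
          rw [sub_smul, one_smul, ← h5, sub_self]
        rcases smul_eq_zero.mp h6 with h7 | h7
        · exact hne1 (sub_eq_zero.mp h7)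
        · exact hu0 h7
      have h8 := hact x hx
      rw [hρ, one_smul, sieg_apply Q _ hQs hQp hQu hzu'] at h8
      apply hzu
      rw [Submodule.mem_span_singleton]
      refine ⟨(polarForm Q hQ x z + Q z * polarForm Q hQ x u) / polarForm Q hQ x u, ?_⟩
      have h9 : polarForm Q hQ x u • z =
          (polarForm Q hQ x z + Q z * polarForm Q hQ x u) • u := by
        have : x + polarForm Q hQ x u • z - polarForm Q hQ x z • u -
            (Q z * polarForm Q hQ x u) • u - x = 0 := by rw [h8, sub_self]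
        rw [add_smul]
        linear_combination (exp := 1) this
      rw [div_eq_inv_mul, mul_smul, ← h9, smul_smul, inv_mul_cancel₀ hxu, one_smul]
  · -- the overgroup is proper
    rw [omegaGL_eq]
    apply (Subgroup.comap_lt_comap_of_surjective (glEquiv ι F).surjective).mpr
    refine lt_of_le_of_ne (fun g hg => ((hKmem g).mp hg).1) ?_
    intro heq
    obtain ⟨j₀⟩ : Nonempty (Fin n₂) := ⟨⟨0, by omega⟩⟩
    have hy₀ : (Pi.single j₀ (1 : F) : Fin n₂ → F) ≠ 0 := by
      intro h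
      have := congrFun h j₀
      simp at this
    let z₂ : ι → F := tauLin e P b2 (Pi.single j₀ 1)
    have hz₂ : z₂ ∈ D2 := ⟨_, rfl⟩
    have hz₂0 : z₂ ≠ 0 := by
      intro h
      apply hy₀
      apply tauLin_injective e P (hne b2 hb2)
      rw [map_zero]
      exact h
    have huz₂ : polarForm Q hQ u z₂ = 0 := horth b1 b2 o12 u hu z₂ hz₂
    have hg₁G : sieg Q (polarForm Q hQ) u z₂ ∈ G := hG2 u z₂ hQu huz₂
    have hg₁K : sieg Q (polarForm Q hQ) u z₂ ∈ K := by rw [heq]; exact hg₁G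
    have h5 := ((hKmem _).mp hg₁K).2.1 x (Or.inl hx)
    rw [sieg_apply Q _ hQs hQp hQu huz₂, horth b1 b2 o12 x hx z₂ hz₂, zero_smul, sub_zero] at h5
    -- the image has nonzero components in the first two blocks
    have hx₁ : x - (Q z₂ * polarForm Q hQ x u) • u ∈ D1 :=
      D1.sub_mem hx (D1.smul_mem _ hu)
    have hx₂ : polarForm Q hQ x u • z₂ ∈ D2 := D2.smul_mem _ hz₂
    have hx₂0 : polarForm Q hQ x u • z₂ ≠ 0 := smul_ne_zero hxu hz₂0
    have hsum : x + polarForm Q hQ x u • z₂ - (Q z₂ * polarForm Q hQ x u) • u =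
        (x - (Q z₂ * polarForm Q hQ x u) • u) + polarForm Q hQ x u • z₂ := by abel
    rw [hsum] at h5
    have hBx₁ : polarForm Q hQ (x - (Q z₂ * polarForm Q hQ x u) • u) u ≠ 0 := by
      rw [map_sub, map_smul, LinearMap.sub_apply, LinearMap.smul_apply, huu, smul_zero, sub_zero]
      exact hxu
    rcases h5 with h5 | h5 | h5
    · -- in `D1`: the second component lies in `D1 ∩ D2`
      have h6 : polarForm Q hQ x u • z₂ ∈ D1 := by
        have := D1.sub_mem h5 hx₁
        rwa [add_sub_cancel_left] at this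
      obtain ⟨w, hw, hw'⟩ := hndD b2 hb2 _ hx₂ hx₂0
      exact hw' (horth b2 b1 o21 w hw _ h6)
    · -- in `D2`: the first component lies in `D1 ∩ D2`
      have h6 : x - (Q z₂ * polarForm Q hQ x u) • u ∈ D2 := by
        have := D2.sub_mem h5 hx₂
        rwa [add_sub_cancel_right] at this
      exact hBx₁ (horth b2 b1 o21 _ h6 u hu)
    · -- in `D3`: orthogonal to `u`
      have h6 := horth b3 b1 o31 _ h5 u hu
      rw [map_add, LinearMap.add_apply, horth b2 b1 o21 _ hx₂ u hu, add_zero] at h6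
      exact hBx₁ h6

end Cfsg.Agent.Lib.Helper94_TensorFrame
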