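import Mathlib
import Cfsg.Prelude.Def_GeometricClasses
import Cfsg.Agent.Lib.Helper94_Symp
import Cfsg.Agent.Lib.Helper94_Bridge
import Cfsg.Agent.Lib.Helper94_SLBridge
import Cfsg.Agent.Lib.Helper94_Herm
import Cfsg.Agent.Lib.Helper94_HermBridge
import Cfsg.Agent.Lib.Helper94_HermDecomp
import Cfsg.Agent.Lib.Helper94_TensorVec
import Cfsg.Agent.Lib.Helper94_TensorFrame

set_option autoImplicit false

/-!
Over the field of order four, the stabiliser in `SU` of a tensor decomposition `GU_2 ⊗ GU_{n₂}`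
is not maximal: the two-dimensional factor has an orthonormal frame which is unique up to scalars,
so the tensor group permutes the two blocks `b_i ⊗ F^{n₂}` (helper94).
-/

namespace Cfsg.Agent.Lib.Helper94_TensorFrameU

open Matrix Module Cfsg.Agent.Lib.Helper94_Symp Cfsg.Agent.Lib.Helper94_Bridge
  Cfsg.Agent.Lib.Helper94_SLBridge Cfsg.Agent.Lib.Helper94_Herm
  Cfsg.Agent.Lib.Helper94_HermBridge Cfsg.Agent.Lib.Helper94_HermDecomp
  Cfsg.Agent.Lib.Helper94_TensorVec Cfsg.Agent.Lib.Helper94_TensorFrame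
open scoped Kronecker

section abstract

variable {F V : Type*} [Field F] [AddCommGroup V] [Module F V]
variable {σ : F →+* F} {B : V →ₗ[F] V →ₛₗ[σ] F}

/-- Orthonormal bases of nondegenerate planes over the field of order four, and the classification
of the anisotropic vectors of the plane. -/
theorem exists_orthonormal2 [FiniteDimensional F V] (hσ : Invol σ) (hB : IsHerm B)
    (h2 : (2 : F) = 0) (hnorm : ∀ c : F, c ≠ 0 → c * σ c = 1)
    (U : Submodule F V) (hfr : finrank F U = 2) (hnd : NondegOn B U) :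
    ∃ x y : V, x ∈ U ∧ y ∈ U ∧ B x x = 1 ∧ B y y = 1 ∧ B x y = 0 ∧ B y x = 0 ∧
      ∀ v ∈ U, B v v ≠ 0 → ∃ c : F, c ≠ 0 ∧ (v = c • x ∨ v = c • y) := by
  have hN1 : ∀ x : V, B x x ≠ 0 → B x x = 1 := by
    intro x hx
    have h1 := hnorm _ hx
    rw [herm_self hB] at h1
    have : (B x x - 1) * (B x x - 1) = 0 := by linear_combination h1 + (1 - B x x) * h2
    exact sub_eq_zero.mp (mul_self_eq_zero.mp this)
  have hpos : 0 < finrank F U := by rw [hfr]; omega
  have hne : U ≠ ⊥ := by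
    intro h
    rw [h, finrank_bot] at hpos
    exact lt_irrefl _ hpos
  obtain ⟨z, hzD, hz0⟩ := Submodule.exists_mem_ne_zero_of_ne_bot hne
  obtain ⟨x, hxD, hx⟩ := exists_aniso hσ hB hnd hzD hz0
  have hx1 := hN1 x hx
  have hx0 : x ≠ 0 := by
    rintro rfl
    simp at hx
  have hlt : Submodule.span F {x} < U := by
    refine lt_of_le_of_ne ((Submodule.span_singleton_le_iff_mem _ _).mpr hxD) ?_
    intro heq
    have := finrank_span_singleton (K := F) hx0
    rw [heq, hfr] at this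
    omega
  obtain ⟨z', hz'D, hz'⟩ := SetLike.exists_of_lt hlt
  have hmem : z' - B z' x • x ∈ U ⊓ orthV B x := by
    refine Submodule.mem_inf.mpr ⟨U.sub_mem hz'D (U.smul_mem _ hxD), mem_orthV.mpr ?_⟩
    rw [map_sub, map_smul, LinearMap.sub_apply, LinearMap.smul_apply, hx1, smul_eq_mul, mul_one,
      sub_self]
  have hne0 : z' - B z' x • x ≠ 0 := by
    intro h0
    apply hz'
    rw [sub_eq_zero.mp h0]
    exact Submodule.smul_mem _ _ (Submodule.mem_span_singleton_self x)
  obtain ⟨y, hyU, hy⟩ := exists_aniso hσ hB (nondegOn_orthV hB hnd hxD hx) hmem hne0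
  have hyD : y ∈ U := hyU.1
  have hyx : B y x = 0 := mem_orthV.mp hyU.2
  have hxy : B x y = 0 := herm_eq_zero hB hyx
  have hy1 := hN1 y hy
  refine ⟨x, y, hxD, hyD, hx1, hy1, hxy, hyx, ?_⟩
  have hli : LinearIndependent F ![x, y] := by
    rw [LinearIndependent.pair_iff]
    intro a b hab
    have ha : B (a • x + b • y) x = 0 := by rw [hab]; simp
    have hb : B (a • x + b • y) y = 0 := by rw [hab]; simp
    simp only [map_add, map_smul, LinearMap.add_apply, LinearMap.smul_apply, smul_eq_mul, hx1,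
      hy1, hxy, hyx, mul_one, mul_zero, add_zero, zero_add] at ha hb
    exact ⟨ha, hb⟩
  have hspan : Submodule.span F (Set.range ![x, y]) = U := by
    apply Submodule.eq_of_le_of_finrank_le
    · rw [Submodule.span_le]
      rintro _ ⟨j, rfl⟩
      fin_cases j
      · exact hxD
      · exact hyD
    · rw [finrank_span_eq_card hli, hfr]
      simp
  intro v hv hvN
  rw [← hspan] at hv
  have hr : Set.range ![x, y] = {x, y} := by
    simp [Matrix.range_cons, Set.pair_comm]
  rw [hr, Submodule.mem_span_pair] at hv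
  obtain ⟨α, β, rfl⟩ := hv
  have hNv : B (α • x + β • y) (α • x + β • y) = α * σ α + β * σ β := by
    simp only [map_add, map_smul, map_smulₛₗ, LinearMap.add_apply, LinearMap.smul_apply,
      smul_eq_mul, hx1, hy1, hxy, hyx]
    ring
  by_cases hα : α = 0
  · subst hα
    by_cases hβ : β = 0
    · subst hβ
      simp at hvN
    · exact ⟨β, hβ, Or.inr (by simp)⟩
  · by_cases hβ : β = 0
    · subst hβ
      exact ⟨α, hα, Or.inl (by simp)⟩
    · exfalso
      apply hvN
      rw [hNv, hnorm α hα, hnorm β hβ]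
      linear_combination h2

end abstract

section sesq

variable {F : Type*} [Field F] {κ : Type} [Fintype κ] [DecidableEq κ] {q : ℕ}

/-- The prelude's unitary form as a sesquilinear map. -/
def sesqOf (σ : F →+* F) (hσq : ∀ x, σ x = x ^ q) (f : (κ → F) → (κ → F) → F)
    (hf : Cfsg.Geo.IsUnitaryFormPow q f) : (κ → F) →ₗ[F] (κ → F) →ₛₗ[σ] F :=
  LinearMap.mk₂'ₛₗ (RingHom.id F) σ f hf.add_left
    (fun c x v => by rw [hf.smul_left]; rfl)
    (fun v x y => by
      rw [hf.herm v (x + y), hf.add_left, ← hσq, map_add, hσq, hσq, ← hf.herm, ← hf.herm])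
    (fun c v x => by
      rw [hf.herm v (c • x), hf.smul_left, ← hσq, map_mul, hσq (f x v), ← hf.herm]
      rfl)

lemma sesqOf_apply (σ : F →+* F) (hσq : ∀ x, σ x = x ^ q) (f : (κ → F) → (κ → F) → F)
    (hf : Cfsg.Geo.IsUnitaryFormPow q f) (u v : κ → F) : sesqOf σ hσq f hf u v = f u v := rfl

lemma sesqOf_isHerm (σ : F →+* F) (hσq : ∀ x, σ x = x ^ q) (f : (κ → F) → (κ → F) → F)
    (hf : Cfsg.Geo.IsUnitaryFormPow q f) : IsHerm (sesqOf σ hσq f hf) := by
  intro x y
  rw [sesqOf_apply, sesqOf_apply, hσq]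
  exact hf.herm y x

/-- A unitary form is given by its Gram matrix. -/
lemma form_eq_gram_pow (σ : F →+* F) (hσq : ∀ x, σ x = x ^ q) (f : (κ → F) → (κ → F) → F)
    (hf : Cfsg.Geo.IsUnitaryFormPow q f) (a a' : κ → F) :
    f a a' = ∑ i, ∑ i', a i * Cfsg.Geo.gramMatrix f i i' * (a' i') ^ q := by
  have ha : a = ∑ i, a i • (Pi.single i (1 : F) : κ → F) := by
    ext k
    simp [Finset.sum_apply, Pi.single_apply]
  have ha' : a' = ∑ i, a' i • (Pi.single i (1 : F) : κ → F) := by
    ext k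
    simp [Finset.sum_apply, Pi.single_apply]
  rw [← sesqOf_apply σ hσq f hf]
  conv_lhs => rw [ha, ha']
  rw [map_sum]
  have key : ∀ x : κ, (sesqOf σ hσq f hf) (∑ i, a i • (Pi.single i (1 : F) : κ → F))
      (a' x • (Pi.single x (1 : F) : κ → F)) =
      ∑ i, a i * Cfsg.Geo.gramMatrix f i x * (a' x) ^ q := by
    intro x
    rw [map_sum, LinearMap.sum_apply]
    refine Finset.sum_congr rfl fun i _ => ?_
    rw [sesqOf_apply, hf.smul_left, hf.herm _ (a' x • _), hf.smul_left, mul_pow, ← hf.herm]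
    unfold Cfsg.Geo.gramMatrix
    ring
  rw [Finset.sum_congr rfl fun x _ => key x]
  exact Finset.sum_comm

variable {κ' : Type} [Fintype κ'] [DecidableEq κ']

/-- The Gram form of a Kronecker product on pure tensors (sesquilinear case). -/
lemma formOfGram_ten_pow (σ : F →+* F) (hσq : ∀ x, σ x = x ^ q)
    (f₁ : (κ → F) → (κ → F) → F) (f₂ : (κ' → F) → (κ' → F) → F)
    (hf₁ : Cfsg.Geo.IsUnitaryFormPow q f₁) (hf₂ : Cfsg.Geo.IsUnitaryFormPow q f₂)
    (a a' : κ → F) (y y' : κ' → F) :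
    Cfsg.Geo.formOfGram (fun x : F => x ^ q)
      (Cfsg.Geo.gramMatrix f₁ ⊗ₖ Cfsg.Geo.gramMatrix f₂) (ten a y) (ten a' y') =
        f₁ a a' * f₂ y y' := by
  rw [form_eq_gram_pow σ hσq f₁ hf₁, form_eq_gram_pow σ hσq f₂ hf₂]
  unfold Cfsg.Geo.formOfGram
  simp only [Fintype.sum_prod_type, Matrix.kroneckerMap_apply, ten_apply, Finset.sum_mul_sum,
    mul_pow]
  refine Finset.sum_congr rfl fun i _ => ?_
  refine Finset.sum_congr rfl fun j _ => ?_
  refine Finset.sum_congr rfl fun i' _ => ?_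
  refine Finset.sum_congr rfl fun j' _ => ?_
  ring

end sesq

section main

variable {F : Type*} [Field F] [Fintype F] {n n₂ : ℕ}

/-- **Tensor decompositions `GU_2 ⊗ GU_{n₂}` over the field of order four are not maximal.** -/
theorem tensor2_su_not_maximal (hF : Fintype.card F = 4) (hn₂ : 2 ≤ n₂)
    (e : Fin n ≃ Fin 2 × Fin n₂) (P : GL (Fin n) F)
    (f₁ : (Fin 2 → F) → (Fin 2 → F) → F) (f₂ : (Fin n₂ → F) → (Fin n₂ → F) → F)
    (hf₁ : Cfsg.Geo.IsUnitaryFormPow 2 f₁) (hf₂ : Cfsg.Geo.IsUnitaryFormPow 2 f₂)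
    (hT : Cfsg.Geo.IsTensorFormStructure (fun x : F => x ^ 2) (Cfsg.hermForm n F 2) f₁ f₂ e P) :
    ∃ K : Subgroup (GL (Fin n) F),
      Cfsg.Geo.tensorProductSubgroup 2 n₂ e P ⊓
          (Cfsg.GU n F 2 ⊓ Cfsg.Geo.specialLinear (Fin n) F) < K ∧
        K < Cfsg.GU n F 2 ⊓ Cfsg.Geo.specialLinear (Fin n) F := by
  classical
  have hF' : Fintype.card F = 2 ^ 2 := by rw [hF]; norm_num
  obtain ⟨σ, hσq, hσ⟩ := exists_frob hF'
  have h2 : (2 : F) = 0 := by
    have h4 : ((Fintype.card F : ℕ) : F) = 0 := Nat.cast_card_eq_zero F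
    rw [hF] at h4
    have h4' : (2 : F) * 2 = 0 := by
      have : ((4 : ℕ) : F) = 2 * 2 := by norm_num
      rw [← this]; exact h4
    exact mul_self_eq_zero.mp h4'
  have hnorm : ∀ c : F, c ≠ 0 → c * σ c = 1 := by
    intro c hc
    have := FiniteField.pow_card_sub_one_eq_one c hc
    rw [hF] at this
    rw [hσq]
    calc c * c ^ 2 = c ^ (4 - 1) := by ring
      _ = 1 := this
  have hneg : ∀ c : F, -c = c := by
    intro c
    have : c + c = 0 := by linear_combination c * h2
    exact neg_eq_of_add_eq_zero_left this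
  have hβ := hermB_isHerm (n := n) σ hσq hσ
  obtain ⟨c, hc, hform⟩ := hT
  have hτB : ∀ (a a' : Fin 2 → F) (y y' : Fin n₂ → F),
      hermB n σ hσq (phi e P (ten a y)) (phi e P (ten a' y')) = c * (f₁ a a' * f₂ y y') := by
    intro a a' y y'
    rw [hermB_apply, phi_apply, phi_apply, hform, formOfGram_ten_pow σ hσq f₁ f₂ hf₁ hf₂]
  -- the frame of the first factor
  have hnd₁ : NondegOn (sesqOf σ hσq f₁ hf₁) ⊤ := by
    intro x _ hx
    obtain ⟨y, hy⟩ := (hf₁.nondegenerate x hx).2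
    exact ⟨y, Submodule.mem_top, hy⟩
  obtain ⟨b1, b2, -, -, hb1, hb2, o12, o21, hclass⟩ := exists_orthonormal2 hσ
    (sesqOf_isHerm σ hσq f₁ hf₁) h2 hnorm ⊤ (by rw [finrank_top]; simp) hnd₁
  rw [sesqOf_apply] at hb1 hb2 o12 o21
  have hne : ∀ b : Fin 2 → F, f₁ b b = 1 → b ≠ 0 := by
    rintro b hb rfl
    have := hf₁.smul_left 0 0 0
    rw [zero_smul, zero_mul] at this
    rw [this] at hb
    exact zero_ne_one hb
  -- the blocks
  let D1 : Submodule F (Fin n → F) := LinearMap.range (tauLin e P b1)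
  let D2 : Submodule F (Fin n → F) := LinearMap.range (tauLin e P b2)
  have horth : ∀ (b b' : Fin 2 → F), f₁ b b' = 0 →
      ∀ x ∈ LinearMap.range (tauLin e P b), ∀ x' ∈ LinearMap.range (tauLin e P b'),
        hermB n σ hσq x x' = 0 := by
    rintro b b' hbb' _ ⟨y, rfl⟩ _ ⟨y', rfl⟩
    rw [tauLin_apply, tauLin_apply, hτB, hbb', zero_mul, mul_zero]
  have hndD : ∀ b : Fin 2 → F, f₁ b b = 1 → ∀ v ∈ LinearMap.range (tauLin e P b), v ≠ 0 →
      ∃ w ∈ LinearMap.range (tauLin e P b), hermB n σ hσq w v ≠ 0 := by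
    rintro b hb _ ⟨y, rfl⟩ hv
    have hy : y ≠ 0 := by
      rintro rfl
      exact hv (map_zero _)
    obtain ⟨y', hy'⟩ := (hf₂.nondegenerate y hy).1
    refine ⟨tauLin e P b y', ⟨y', rfl⟩, ?_⟩
    rw [tauLin_apply, tauLin_apply, hτB, hb, one_mul]
    exact mul_ne_zero hc hy'
  -- the ambient groups
  let G : Subgroup ((Fin n → F) ≃ₗ[F] (Fin n → F)) := uG (hermB n σ hσq) ⊓ slK (Fin n) F
  let T' : Subgroup ((Fin n → F) ≃ₗ[F] (Fin n → F)) :=
    (Cfsg.Geo.tensorProductSubgroup 2 n₂ e P).comap (glEquiv (Fin n) F).symm.toMonoidHom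
  have hTeq : Cfsg.Geo.tensorProductSubgroup 2 n₂ e P =
      T'.comap (glEquiv (Fin n) F).toMonoidHom :=
    (comap_symm_comap (glEquiv (Fin n) F) _).symm
  have hTfac : ∀ g ∈ T', ∃ (A : Matrix (Fin 2) (Fin 2) F) (B' : Matrix (Fin n₂) (Fin n₂) F),
      ∀ (a : Fin 2 → F) (y : Fin n₂ → F),
        g (phi e P (ten a y)) = phi e P (ten (A *ᵥ a) (B' *ᵥ y)) := by
    intro g hg
    obtain ⟨A, B', hAB⟩ := exists_factors e P (Subgroup.mem_comap.mp hg)
    refine ⟨A, B', fun a y => ?_⟩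
    have := hAB a y
    simp only [MulEquiv.toMonoidHom_eq_coe, MonoidHom.coe_coe, MulEquiv.apply_symm_apply] at this
    exact this
  let InU : (Fin n → F) → Prop := fun v => v ∈ D1 ∨ v ∈ D2
  let j₀ : Fin n₂ := ⟨0, by omega⟩
  let j₁ : Fin n₂ := ⟨1, by omega⟩
  have hj01 : j₀ ≠ j₁ := by
    intro h
    have := congrArg Fin.val h
    simp [j₀, j₁] at this
  have hy₀ : (Pi.single j₀ (1 : F) : Fin n₂ → F) ≠ 0 := by
    intro h
    have := congrFun h j₀
    simp at this
  obtain ⟨y₁, hy₁⟩ := (hf₂.nondegenerate _ hy₀).1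
  -- tensor elements that are isometries preserve the union of the blocks
  have hfwd : ∀ g ∈ T', g ∈ uG (hermB n σ hσq) → ∀ v, InU v → InU (g v) := by
    intro g hgT hgO v hv
    obtain ⟨A, B', hAB⟩ := hTfac g hgT
    have haniso : ∀ b : Fin 2 → F, f₁ b b = 1 → f₁ (A *ᵥ b) (A *ᵥ b) ≠ 0 := by
      intro b hb h0
      have h5 := (mem_uG _).mp hgO (phi e P (ten b y₁)) (phi e P (ten b (Pi.single j₀ 1)))
      rw [hAB, hAB, hτB, hτB, h0, zero_mul, mul_zero, hb, one_mul] at h5
      exact mul_ne_zero hc hy₁ h5.symm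
    have hmove : ∀ b : Fin 2 → F, f₁ b b = 1 → ∀ x ∈ LinearMap.range (tauLin e P b),
        InU (g x) := by
      rintro b hb _ ⟨y, rfl⟩
      rw [tauLin_apply, hAB]
      obtain ⟨l, -, hl | hl⟩ := hclass (A *ᵥ b) Submodule.mem_top
        (by rw [sesqOf_apply]; exact haniso b hb)
      · left
        rw [hl, ten_smul_left, ← ten_smul_right]
        exact ⟨_, rfl⟩
      · right
        rw [hl, ten_smul_left, ← ten_smul_right]
        exact ⟨_, rfl⟩
    rcases hv with hv | hv
    · exact hmove b1 hb1 v hv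
    · exact hmove b2 hb2 v hv
  -- the overgroup
  let K : Subgroup ((Fin n → F) ≃ₗ[F] (Fin n → F)) :=
    { carrier := {g | g ∈ G ∧ (∀ v, InU v → InU (g v)) ∧ (∀ v, InU v → InU (g⁻¹ v))}
      mul_mem' := by
        rintro a b ⟨haG, ha1, ha2⟩ ⟨hbG, hb1', hb2'⟩
        refine ⟨G.mul_mem haG hbG, fun v hv => ha1 _ (hb1' v hv), fun v hv => ?_⟩
        rw [_root_.mul_inv_rev]
        exact hb2' _ (ha2 v hv)
      one_mem' := ⟨G.one_mem, fun v hv => hv, fun v hv => by rw [inv_one]; exact hv⟩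
      inv_mem' := by
        rintro a ⟨haG, ha1, ha2⟩
        refine ⟨G.inv_mem haG, ha2, fun v hv => ?_⟩
        rw [inv_inv]
        exact ha1 v hv }
  have hKmem : ∀ g, g ∈ K ↔ g ∈ G ∧ (∀ v, InU v → InU (g v)) ∧ (∀ v, InU v → InU (g⁻¹ v)) :=
    fun g => Iff.rfl
  -- an isotropic vector of the second factor
  obtain ⟨α, α', hyu0, hyu⟩ := exists_iso (B := sesqOf σ hσq f₂ hf₂) hσ
    (sesqOf_isHerm σ hσq f₂ hf₂) hy₀ (y := Pi.single j₁ 1) (by
      intro hmem
      obtain ⟨l, hl⟩ := Submodule.mem_span_singleton.mp hmem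
      have := congrFun hl j₁
      simp [Pi.single_eq_of_ne hj01.symm] at this)
  rw [sesqOf_apply] at hyu
  obtain ⟨yx, hyx⟩ := (hf₂.nondegenerate _ hyu0).1
  let u : Fin n → F := tauLin e P b1 (α • Pi.single j₀ 1 + α' • Pi.single j₁ 1)
  let u₂ : Fin n → F := tauLin e P b2 (α • Pi.single j₀ 1 + α' • Pi.single j₁ 1)
  let x : Fin n → F := tauLin e P b1 yx
  have hu : u ∈ D1 := ⟨_, rfl⟩
  have hu₂ : u₂ ∈ D2 := ⟨_, rfl⟩
  have hx : x ∈ D1 := ⟨_, rfl⟩
  have hu0 : u ≠ 0 := by
    intro h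
    apply hyu0
    apply tauLin_injective e P (hne b1 hb1)
    rw [map_zero]
    exact h
  have hu₂0 : u₂ ≠ 0 := by
    intro h
    apply hyu0
    apply tauLin_injective e P (hne b2 hb2)
    rw [map_zero]
    exact h
  have huu : hermB n σ hσq u u = 0 := by
    show hermB n σ hσq (tauLin e P b1 _) (tauLin e P b1 _) = 0
    rw [tauLin_apply, hτB, hyu, mul_zero, mul_zero]
  have hu₂u₂ : hermB n σ hσq u₂ u₂ = 0 := by
    show hermB n σ hσq (tauLin e P b2 _) (tauLin e P b2 _) = 0
    rw [tauLin_apply, hτB, hyu, mul_zero, mul_zero]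
  have hxu : hermB n σ hσq x u ≠ 0 := by
    show hermB n σ hσq (tauLin e P b1 yx) (tauLin e P b1 _) ≠ 0
    rw [tauLin_apply, tauLin_apply, hτB, hb1, one_mul]
    exact mul_ne_zero hc hyx
  have hutvG : ∀ a : Fin n → F, utv (hermB n σ hσq) a 1 ∈ G := by
    intro a
    refine ⟨utv_mem_uG hβ a (by rw [map_one, hneg]), ?_⟩
    unfold utv
    split_ifs with h
    · exact transvection_mem_slK _ _ _
    · exact (slK (Fin n) F).one_mem
  have hutvinv : ∀ a : Fin n → F, hermB n σ hσq a a = 0 →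
      (utv (hermB n σ hσq) a 1)⁻¹ = utv (hermB n σ hσq) a 1 := by
    intro a ha
    apply inv_eq_of_mul_eq_one_right
    ext v : 1
    rw [LinearEquiv.mul_apply, utv_one_invol h2 ha]
    rfl
  have hsurj : Function.Surjective (glEquiv (Fin n) F).toMonoidHom :=
    (glEquiv (Fin n) F).surjective
  refine ⟨K.comap (glEquiv (Fin n) F).toMonoidHom, ?_, ?_⟩
  · rw [hTeq, GU_eq σ hσq, specialLinear_eq, ← Subgroup.comap_inf, ← Subgroup.comap_inf]
    apply (Subgroup.comap_lt_comap_of_surjective hsurj).mpr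
    refine lt_of_le_of_ne ?_ ?_
    · rintro g ⟨hgT, hgG⟩
      rw [hKmem]
      exact ⟨hgG, hfwd g hgT hgG.1, hfwd g⁻¹ (T'.inv_mem hgT) (G.inv_mem hgG).1⟩
    · intro heq
      have hInU : ∀ v, InU v → InU (utv (hermB n σ hσq) u 1 v) := by
        intro v hv
        rw [utv_apply _ huu]
        rcases hv with hv | hv
        · exact Or.inl (D1.add_mem hv (D1.smul_mem _ hu))
        · rw [horth b2 b1 o21 v hv u hu, mul_zero, zero_smul, add_zero]
          exact Or.inr hv
      have hg₀K : utv (hermB n σ hσq) u 1 ∈ K := by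
        rw [hKmem]
        refine ⟨hutvG u, hInU, ?_⟩
        rw [hutvinv u huu]
        exact hInU
      rw [← heq] at hg₀K
      obtain ⟨A, B', hAB⟩ := hTfac _ hg₀K.1
      obtain ⟨i₂, hi₂⟩ : ∃ i, b2 i ≠ 0 := by
        by_contra hcon
        push Not at hcon
        exact hne b2 hb2 (funext hcon)
      have hfix2 : ∀ y : Fin n₂ → F, ten (A *ᵥ b2) (B' *ᵥ y) = ten b2 y := by
        intro y
        apply (phi e P).injective
        rw [← hAB, utv_apply _ huu]
        have hv : phi e P (ten b2 y) ∈ D2 := ⟨y, rfl⟩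
        rw [horth b2 b1 o21 _ hv u hu, mul_zero, zero_smul, add_zero]
      have hd : (A *ᵥ b2) i₂ ≠ 0 := by
        intro h0
        have := congrFun (hfix2 (Pi.single j₀ 1)) (i₂, j₀)
        simp only [ten_apply, h0, zero_mul, Pi.single_eq_same, mul_one] at this
        exact hi₂ this.symm
      have hscal : ∀ y : Fin n₂ → F, B' *ᵥ y = (b2 i₂ / (A *ᵥ b2) i₂) • y := by
        intro y
        ext j
        have := congrFun (hfix2 y) (i₂, j)
        simp only [ten_apply] at this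
        rw [Pi.smul_apply, smul_eq_mul]
        field_simp
        linear_combination this
      obtain ⟨ν, hν⟩ : ∃ ν : F, ∀ y : Fin n₂ → F, B' *ᵥ y = ν • y := ⟨_, hscal⟩
      have hν0 : ν ≠ 0 := by
        rintro rfl
        have := hfix2 (Pi.single j₀ 1)
        rw [hν, zero_smul, ten_zero_right] at this
        have h5 := congrFun this (i₂, j₀)
        simp only [Pi.zero_apply, ten_apply, Pi.single_eq_same, mul_one] at h5
        exact hi₂ h5.symm
      have hD1 : utv (hermB n σ hσq) u 1 (phi e P (ten b1 (Pi.single j₀ 1))) ∈ D1 := by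
        rw [utv_apply _ huu]
        exact D1.add_mem ⟨_, rfl⟩ (D1.smul_mem _ hu)
      obtain ⟨y', hy'⟩ := hD1
      rw [hAB, tauLin_apply, hν] at hy'
      have hy'' := (phi e P).injective hy'
      have hline : A *ᵥ b1 = (y' j₀ / ν) • b1 := by
        ext i
        have := congrFun hy'' (i, j₀)
        simp only [ten_apply, Pi.smul_apply, Pi.single_eq_same, smul_eq_mul, mul_one] at this
        rw [Pi.smul_apply, smul_eq_mul]
        field_simp
        linear_combination -this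
      obtain ⟨ρ, hρ'⟩ : ∃ ρ : F, A *ᵥ b1 = ρ • b1 := ⟨_, hline⟩
      have hact : ∀ v ∈ D1, utv (hermB n σ hσq) u 1 v = (ρ * ν) • v := by
        rintro _ ⟨y, rfl⟩
        rw [tauLin_apply, hAB, hρ', hν, ten_smul_left, ten_smul_right, map_smul, map_smul,
          smul_smul]
      have hfixu : utv (hermB n σ hσq) u 1 u = u := utv_self _ u 1
      have hρ : ρ * ν = 1 := by
        have h5 := hact u hu
        rw [hfixu] at h5
        by_contra hne1
        have h6 : (ρ * ν - 1) • u = 0 := by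
          rw [sub_smul, one_smul, ← h5, sub_self]
        rcases smul_eq_zero.mp h6 with h7 | h7
        · exact hne1 (sub_eq_zero.mp h7)
        · exact hu0 h7
      have h8 := hact x hx
      rw [hρ, one_smul, utv_apply _ huu, one_mul] at h8
      have h9 : hermB n σ hσq x u • u = 0 := by
        have : x + hermB n σ hσq x u • u - x = 0 := by rw [h8, sub_self]
        rwa [add_sub_cancel_left] at this
      rcases smul_eq_zero.mp h9 with h10 | h10
      · exact hxu h10
      · exact hu0 h10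
  · rw [GU_eq σ hσq, specialLinear_eq, ← Subgroup.comap_inf]
    apply (Subgroup.comap_lt_comap_of_surjective hsurj).mpr
    refine lt_of_le_of_ne (fun g hg => ((hKmem g).mp hg).1) ?_
    intro heq
    have huu₂ : hermB n σ hσq u u₂ = 0 := horth b1 b2 o12 u hu u₂ hu₂
    have hu₂u : hermB n σ hσq u₂ u = 0 := horth b2 b1 o21 u₂ hu₂ u hu
    have hss : hermB n σ hσq (u + u₂) (u + u₂) = 0 := by
      simp only [map_add, LinearMap.add_apply, huu, huu₂, hu₂u, hu₂u₂, add_zero]
    have hg₁K : utv (hermB n σ hσq) (u + u₂) 1 ∈ K := by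
      rw [heq]
      exact hutvG _
    have h5 := ((hKmem _).mp hg₁K).2.1 x (Or.inl hx)
    rw [utv_apply _ hss, one_mul, map_add, horth b1 b2 o12 x hx u₂ hu₂, add_zero] at h5
    have hx₁ : x + hermB n σ hσq x u • u ∈ D1 := D1.add_mem hx (D1.smul_mem _ hu)
    have hx₂ : hermB n σ hσq x u • u₂ ∈ D2 := D2.smul_mem _ hu₂
    have hx₂0 : hermB n σ hσq x u • u₂ ≠ 0 := smul_ne_zero hxu hu₂0
    have hsum : x + hermB n σ hσq x u • (u + u₂) =
        (x + hermB n σ hσq x u • u) + hermB n σ hσq x u • u₂ := by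
      rw [smul_add, add_assoc]
    rw [hsum] at h5
    have hBx₁ : hermB n σ hσq (x + hermB n σ hσq x u • u) u ≠ 0 := by
      rw [map_add, map_smul, LinearMap.add_apply, LinearMap.smul_apply, huu, smul_zero, add_zero]
      exact hxu
    rcases h5 with h5 | h5
    · have h6 : hermB n σ hσq x u • u₂ ∈ D1 := by
        have := D1.sub_mem h5 hx₁
        rwa [add_sub_cancel_left] at this
      obtain ⟨w, hw, hw'⟩ := hndD b2 hb2 _ hx₂ hx₂0
      exact hw' (horth b2 b1 o21 w hw _ h6)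
    · have h6 : x + hermB n σ hσq x u • u ∈ D2 := by
        have := D2.sub_mem h5 hx₂
        rwa [add_sub_cancel_right] at this
      exact hBx₁ (horth b2 b1 o21 _ h6 u hu)

end main

end Cfsg.Agent.Lib.Helper94_TensorFrameU
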