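import Mathlib
import Cfsg.Prelude.Def_GeometricClasses
import Cfsg.Prelude.Def_LieClassical
import Cfsg.Agent.Lib.Helper39_SURows
import Cfsg.Agent.Lib.Helper39_SUExcl
import Cfsg.Agent.Lib.Helper4_SUFrameTwo
import Cfsg.Agent.Lib.Helper94_TensorFrameU

/-!
helper27: the row "maximal subgroups of `SU_6(q)`" from helper39's generic normal form
(`Helper39_SUAschMax.normal_form`, exclusion facts `Excl`), the frozen statement S5663 taken as a hypothesis,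
and the `q = 2` non-maximality facts: decompositions into planes (helper4's `refine_planes`), tensor
products `2 ⊗ 3` (helper94's `tensor2_su_not_maximal`), frames of six nondegenerate lines (`FrameTwoHyp`,
package E6a) and normalizers of cubic fields (`FieldTwoHyp`, package E6c), the last two as hypotheses.
-/

set_option autoImplicit false
set_option linter.unusedSectionVars false

namespace Cfsg.Agent.Lib.Helper27_SURow6

open Matrix Cfsg.Geo Cfsg.Agent.Lib.Helper39_SUAschMax Cfsg.Agent.Lib.Helper39_SURows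

variable {F : Type*} [Field F] [Fintype F] {q : ℕ}

/-- package E6a: over the field with four elements the stabilizer in `SU_6(2)` of a frame of six nondegenerate
lines is not maximal -/
def FrameTwoHyp (F : Type*) [Field F] [Fintype F] : Prop :=
  ∀ D : Fin 6 → Submodule F (Fin 6 → F), IsNondegenerateMDecomposition (Cfsg.hermForm 6 F 2) 1 D →
    ¬ IsMaximalIn (Cfsg.GU 6 F 2 ⊓ specialLinear (Fin 6) F)
      (decompositionStabilizer D ⊓ (Cfsg.GU 6 F 2 ⊓ specialLinear (Fin 6) F))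

/-- package E6c: over the field with four elements the normalizer in `SU_6(2)` of an adjoint-closed cubic field
is not maximal -/
def FieldTwoHyp (F : Type*) [Field F] [Fintype F] : Prop :=
  ∀ K : Subalgebra F (Matrix (Fin 6) (Fin 6) F), IsFieldSubalgebra 3 K →
    IsAdjointClosedFor (Cfsg.hermForm 6 F 2) K →
    ¬ IsMaximalIn (Cfsg.GU 6 F 2 ⊓ specialLinear (Fin 6) F)
      (subalgebraNormalizer K ⊓ (Cfsg.GU 6 F 2 ⊓ specialLinear (Fin 6) F))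

/-- `q = 2`: a maximal subgroup stabilizing a decomposition into nondegenerate planes stabilizes a
decomposition into nondegenerate lines -/
lemma decomp_two_refine {n t : ℕ} (hF : Fintype.card F = 2 ^ 2) (hE : Excl n F 2)
    {H : Subgroup (GL (Fin n) F)} (hH : IsMaximalIn (SUg n F 2) H)
    {D : Fin t → Submodule F (Fin n → F)}
    (hD : IsNondegenerateMDecomposition (Cfsg.hermForm n F 2) 2 D)
    (hHM : H = (decompositionStabilizer D ⊓ Cfsg.GU n F 2) ⊓ specialLinear (Fin n) F) :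
    ∃ D' : Fin (t * 2) → Submodule F (Fin n → F),
      IsNondegenerateMDecomposition (Cfsg.hermForm n F 2) 1 D' ∧
        H = decompositionStabilizer D' ⊓ (Cfsg.GU n F 2 ⊓ specialLinear (Fin n) F) := by
  obtain ⟨D', hD', hle⟩ := Cfsg.Agent.Lib.Helper4_SUFrameTwo.refine_planes hF hD
  refine ⟨D', hD', ?_⟩
  have h1 : H ≤ decompositionStabilizer D' ⊓ Cfsg.GU n F 2 := by
    rw [hHM]
    exact le_inf (inf_le_left.trans hle) (inf_le_left.trans inf_le_right)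
  rw [eq_inf_of_le hH h1 (hE.dec hD'.decomp), inf_assoc]

/-- `q = 2`: the stabilizer of a tensor decomposition with a factor of dimension two is not maximal -/
lemma tensor_two_false {n n₂ : ℕ} (hF : Fintype.card F = 2 ^ 2) (hn₂ : 2 ≤ n₂)
    {H : Subgroup (GL (Fin n) F)} (hH : IsMaximalIn (SUg n F 2) H)
    (e : Fin n ≃ Fin 2 × Fin n₂) (P : GL (Fin n) F)
    (f₁ : (Fin 2 → F) → (Fin 2 → F) → F) (f₂ : (Fin n₂ → F) → (Fin n₂ → F) → F)
    (hf₁ : IsUnitaryFormPow 2 f₁) (hf₂ : IsUnitaryFormPow 2 f₂)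
    (hT : IsTensorFormStructure (fun x : F => x ^ 2) (Cfsg.hermForm n F 2) f₁ f₂ e P)
    (hHM : H = (tensorProductSubgroup 2 n₂ e P ⊓ Cfsg.GU n F 2) ⊓ specialLinear (Fin n) F) : False := by
  obtain ⟨K, hK1, hK2⟩ := Cfsg.Agent.Lib.Helper94_TensorFrameU.tensor2_su_not_maximal
    (by rw [hF]; norm_num) hn₂ e P f₁ f₂ hf₁ hf₂ hT
  rw [← inf_assoc, ← hHM] at hK1
  rcases hH.2 K hK1.le hK2.le with h | h
  · exact hK1.ne h.symm
  · exact hK2.ne h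

lemma q_eq_two (hF : Fintype.card F = q ^ 2) (h : ¬ 3 ≤ q) : q = 2 := by
  have := Cfsg.Agent.Lib.Helper13_Herm.two_le_q hF
  omega

lemma mul_eq_six {t k : ℕ} (ht : 2 ≤ t) (h : t * k = 6) :
    (t = 6 ∧ k = 1) ∨ (t = 3 ∧ k = 2) ∨ (t = 2 ∧ k = 3) := by
  have ht8 : t ≤ 6 := Nat.le_of_dvd (by norm_num) ⟨k, h.symm⟩
  interval_cases t <;> omega

/-- a class-6 datum forces the dimension to be a prime power -/
lemma c6_dim_pow {n : ℕ} (hn : 0 < n) {r k e : ℕ} {R : Subgroup (GL (Fin n) F)}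
    (hR : IsSymplecticTypeGroup r R) (hirr : ActsAbsolutelyIrreducibly (matrixSet R))
    (hcase : (Odd r ∧ Nat.card (Subgroup.center R) = r ∧ 1 ≤ k ∧ Nat.card R = r ^ (1 + 2 * k)) ∨
       (r = 2 ∧ e = 2 ∧ Nat.card (Subgroup.center R) = 4 ∧ Nat.card R = 2 ^ (2 + 2 * k))) :
    n = r ^ k := by
  have hcard := c6_card hn hR hirr
  have hrpr := hR.prime
  have key : n ^ 2 = r ^ (2 * k) → n = r ^ k := by
    intro hm
    rw [mul_comm, pow_mul] at hm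
    exact Nat.pow_left_injective (n := 2) (by norm_num) hm
  rcases hcase with ⟨-, hZ, -, hRc⟩ | ⟨h2, -, hZ, hRc⟩
  · apply key
    rw [hZ, hRc, pow_add, pow_one] at hcard
    exact (Nat.eq_of_mul_eq_mul_left hrpr.pos hcard).symm
  · subst h2
    apply key
    rw [hZ, hRc, pow_add] at hcard
    exact (Nat.eq_of_mul_eq_mul_left (by norm_num) hcard).symm

lemma not_prime_pow {n r k a b : ℕ} (hr : r.Prime) (h : n = r ^ k) (ha : a.Prime) (hb : b.Prime)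
    (hab : a ≠ b) (han : a ∣ n) (hbn : b ∣ n) : False := by
  subst h
  have h1 := (Nat.prime_dvd_prime_iff_eq ha hr).1 (ha.dvd_of_dvd_pow han)
  have h2 := (Nat.prime_dvd_prime_iff_eq hb hr).1 (hb.dvd_of_dvd_pow hbn)
  exact hab (h1.trans h2.symm)

theorem su6_cases (hF : Fintype.card F = q ^ 2) (hE : Excl 6 F q) (hA : SUAschHyp 6 F q)
    (hE6a : q = 2 → FrameTwoHyp F) (hE6c : q = 2 → FieldTwoHyp F)
    (H : Subgroup (Matrix.GeneralLinearGroup (Fin 6) F)) (hH : Cfsg.Geo.IsMaximalIn (Cfsg.GU 6 F q ⊓ Cfsg.Geo.specialLinear (Fin 6) F) H) :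
    (∃ W : Submodule F (Fin 6 → F), W ≠ ⊥ ∧ Cfsg.Geo.IsTotallySingularFor (Cfsg.hermForm 6 F q) W ∧ H = Cfsg.Geo.subspaceStabilizer W ⊓ (Cfsg.GU 6 F q ⊓ Cfsg.Geo.specialLinear (Fin 6) F)) ∨
    (∃ W : Submodule F (Fin 6 → F), W ≠ ⊥ ∧ Cfsg.Geo.IsNondegenerateOn (Cfsg.hermForm 6 F q) W ∧ 2 * Module.finrank F W < 6 ∧ H = Cfsg.Geo.subspaceStabilizer W ⊓ (Cfsg.GU 6 F q ⊓ Cfsg.Geo.specialLinear (Fin 6) F)) ∨
    (3 ≤ q ∧ ∃ D : Fin 6 → Submodule F (Fin 6 → F), Cfsg.Geo.IsNondegenerateMDecomposition (Cfsg.hermForm 6 F q) 1 D ∧ H = Cfsg.Geo.decompositionStabilizer D ⊓ (Cfsg.GU 6 F q ⊓ Cfsg.Geo.specialLinear (Fin 6) F)) ∨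
    (3 ≤ q ∧ ∃ D : Fin 3 → Submodule F (Fin 6 → F), Cfsg.Geo.IsNondegenerateMDecomposition (Cfsg.hermForm 6 F q) 2 D ∧ H = Cfsg.Geo.decompositionStabilizer D ⊓ (Cfsg.GU 6 F q ⊓ Cfsg.Geo.specialLinear (Fin 6) F)) ∨
    (∃ D : Fin 2 → Submodule F (Fin 6 → F), Cfsg.Geo.IsNondegenerateMDecomposition (Cfsg.hermForm 6 F q) 3 D ∧ H = Cfsg.Geo.decompositionStabilizer D ⊓ (Cfsg.GU 6 F q ⊓ Cfsg.Geo.specialLinear (Fin 6) F)) ∨
    (∃ D : Fin 2 → Submodule F (Fin 6 → F), Cfsg.Geo.IsMDecomposition 3 D ∧ (∀ i, Cfsg.Geo.IsTotallySingularFor (Cfsg.hermForm 6 F q) (D i)) ∧ H = Cfsg.Geo.decompositionStabilizer D ⊓ (Cfsg.GU 6 F q ⊓ Cfsg.Geo.specialLinear (Fin 6) F)) ∨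
    (3 ≤ q ∧ ∃ K : Subalgebra F (Matrix (Fin 6) (Fin 6) F), Cfsg.Geo.IsFieldSubalgebra 3 K ∧ Cfsg.Geo.IsAdjointClosedFor (Cfsg.hermForm 6 F q) K ∧ H = Cfsg.Geo.subalgebraNormalizer K ⊓ (Cfsg.GU 6 F q ⊓ Cfsg.Geo.specialLinear (Fin 6) F)) ∨
    (3 ≤ q ∧ ∃ (e : Fin 6 ≃ Fin 2 × Fin 3) (P : Matrix.GeneralLinearGroup (Fin 6) F) (f₁ : (Fin 2 → F) → (Fin 2 → F) → F) (f₂ : (Fin 3 → F) → (Fin 3 → F) → F), Cfsg.Geo.IsUnitaryFormPow q f₁ ∧ Cfsg.Geo.IsUnitaryFormPow q f₂ ∧ Cfsg.Geo.IsTensorFormStructure (fun x : F => x ^ q) (Cfsg.hermForm 6 F q) f₁ f₂ e P ∧ H = Cfsg.Geo.tensorProductSubgroup 2 3 e P ⊓ (Cfsg.GU 6 F q ⊓ Cfsg.Geo.specialLinear (Fin 6) F)) ∨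
    (∃ (F₀ : Subfield F) (r : ℕ) (P : Matrix.GeneralLinearGroup (Fin 6) F), r.Prime ∧ Odd r ∧ Fintype.card F = Nat.card F₀ ^ r ∧ Cfsg.Geo.IsFormRationalStructure (Cfsg.hermForm 6 F q) F₀ 1 P ∧ H = Cfsg.Geo.subfieldSubgroup F₀ P ⊓ (Cfsg.GU 6 F q ⊓ Cfsg.Geo.specialLinear (Fin 6) F)) ∨
    (∃ (F₀ : Subfield F) (P : Matrix.GeneralLinearGroup (Fin 6) F) (ζ : F), Fintype.card F = Nat.card F₀ ^ 2 ∧ ζ ≠ 0 ∧ ζ + ζ ^ q = 0 ∧ Cfsg.Geo.IsFormRationalStructure (Cfsg.hermForm 6 F q) F₀ ζ P ∧ (∀ u : Fin 6 → F, (∀ i, u i ∈ F₀) → (Cfsg.hermForm 6 F q) (Matrix.mulVec (P : Matrix (Fin 6) (Fin 6) F) u) (Matrix.mulVec (P : Matrix (Fin 6) (Fin 6) F) u) = 0) ∧ H = Cfsg.Geo.subfieldSubgroup F₀ P ⊓ (Cfsg.GU 6 F q ⊓ Cfsg.Geo.specialLinear (Fin 6) F)) ∨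
    (Odd q ∧ ∃ (F₀ : Subfield F) (P : Matrix.GeneralLinearGroup (Fin 6) F), Fintype.card F = Nat.card F₀ ^ 2 ∧ Cfsg.Geo.IsFormRationalStructure (Cfsg.hermForm 6 F q) F₀ 1 P ∧ H = Cfsg.Geo.subfieldSubgroup F₀ P ⊓ (Cfsg.GU 6 F q ⊓ Cfsg.Geo.specialLinear (Fin 6) F)) ∨
    Cfsg.Geo.InUnitaryResidualClass H := by
  rcases normal_form (by norm_num) hE hA H hH with ⟨M, hM, hHM⟩ | hres
  swap
  · exact Or.inr (Or.inr (Or.inr (Or.inr (Or.inr (Or.inr (Or.inr (Or.inr (Or.inr (Or.inr (Or.inr hres))))))))))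
  simp only [InUnitaryClass, InUnitaryPartialClass] at hM
  rcases hM with (⟨W, hW0, hWts, rfl⟩ | ⟨W, hW0, hWnd, hWlt, rfl⟩ | ⟨t, k, D, hD, rfl⟩ |
      ⟨k, D, hk, hD, hts, rfl⟩ | ⟨F₀, r, P, hr, hodd, hcard, hfrs, rfl⟩ | ⟨F₀, P, hq, hcard, hfrs, rfl⟩ |
      ⟨F₀, P, ζ, heven, hcard, hζ0, hζ, hfrs, halt, rfl⟩ |
      ⟨r, R, p, e, k, hR, hirr, hsim, hrp, hmin, hcase, rfl⟩) |
    ⟨r, K, hr, hodd, hK, hadj, rfl⟩ | ⟨n₁, n₂, e, P, f₁, f₂, h1, h2, hf₁, hf₂, hT, rfl⟩ |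
    ⟨k, t, e, P, f₁, hk, ht, hqk, hf₁, hstr, rfl⟩
  · exact Or.inl ⟨W, hW0, hWts, by rw [hHM, inf_assoc]⟩
  · exact Or.inr (Or.inl ⟨W, hW0, hWnd, hWlt, by rw [hHM, inf_assoc]⟩)
  · -- nondegenerate decomposition
    have htm : t * k = 6 := Cfsg.Agent.Lib.Helper98_Decomp.card_eq hD.decomp
    rcases mul_eq_six hD.decomp.two_le htm with ⟨rfl, rfl⟩ | ⟨rfl, rfl⟩ | ⟨rfl, rfl⟩
    · by_cases hq3 : 3 ≤ q
      · exact Or.inr (Or.inr (Or.inl ⟨hq3, D, hD, by rw [hHM, inf_assoc]⟩))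
      · exfalso
        obtain rfl := q_eq_two hF hq3
        apply hE6a rfl D hD
        have : H = decompositionStabilizer D ⊓ (Cfsg.GU 6 F 2 ⊓ specialLinear (Fin 6) F) := by
          rw [hHM, inf_assoc]
        rw [← this]
        exact hH
    · by_cases hq3 : 3 ≤ q
      · exact Or.inr (Or.inr (Or.inr (Or.inl ⟨hq3, D, hD, by rw [hHM, inf_assoc]⟩)))
      · exfalso
        obtain rfl := q_eq_two hF hq3
        obtain ⟨D', hD', hH'⟩ := decomp_two_refine hF hE hH hD hHM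
        apply hE6a rfl D' hD'
        rw [← hH']
        exact hH
    · exact Or.inr (Or.inr (Or.inr (Or.inr (Or.inl ⟨D, hD, by rw [hHM, inf_assoc]⟩))))
  · -- totally singular pair
    obtain rfl : k = 3 := by omega
    exact Or.inr (Or.inr (Or.inr (Or.inr (Or.inr (Or.inl ⟨D, hD, hts, by rw [hHM, inf_assoc]⟩)))))
  · exact Or.inr (Or.inr (Or.inr (Or.inr (Or.inr (Or.inr (Or.inr (Or.inr (Or.inl
      ⟨F₀, r, P, hr, hodd, hcard, hfrs, by rw [hHM, inf_assoc]⟩))))))))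
  · exact Or.inr (Or.inr (Or.inr (Or.inr (Or.inr (Or.inr (Or.inr (Or.inr (Or.inr (Or.inr (Or.inl
      ⟨hq, F₀, P, hcard, hfrs, by rw [hHM, inf_assoc]⟩))))))))))
  · exact Or.inr (Or.inr (Or.inr (Or.inr (Or.inr (Or.inr (Or.inr (Or.inr (Or.inr (Or.inl
      ⟨F₀, P, ζ, hcard, hζ0, hζ, hfrs, halt, by rw [hHM, inf_assoc]⟩)))))))))
  · -- class 6: impossible
    exfalso
    have hdim := c6_dim_pow (by norm_num : 0 < 6) hR hirr hcase
    exact not_prime_pow hR.prime hdim Nat.prime_two Nat.prime_three (by norm_num) (by norm_num) (by norm_num)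
  · -- extension field
    have hr6 : r ∣ 6 := Cfsg.Agent.Lib.Helper30_AschMax.dvd_of_isFieldSubalgebra (by norm_num) hK
    have hr3 : r = 3 := by
      have h4 : r ∣ 2 * 3 := hr6
      rcases (Nat.Prime.dvd_mul hr).mp h4 with h | h
      · have := (Nat.prime_dvd_prime_iff_eq hr Nat.prime_two).1 h
        subst this
        exact absurd hodd (by decide)
      · exact (Nat.prime_dvd_prime_iff_eq hr Nat.prime_three).1 h
    subst hr3
    by_cases hq3 : 3 ≤ q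
    · exact Or.inr (Or.inr (Or.inr (Or.inr (Or.inr (Or.inr (Or.inl ⟨hq3, K, hK, hadj, by rw [hHM, inf_assoc]⟩))))))
    · exfalso
      obtain rfl := q_eq_two hF hq3
      apply hE6c rfl K hK hadj
      have : H = subalgebraNormalizer K ⊓ (Cfsg.GU 6 F 2 ⊓ specialLinear (Fin 6) F) := by
        rw [hHM, inf_assoc]
      rw [← this]
      exact hH
  · -- tensor product
    have hcard : 6 = n₁ * n₂ := by
      have := Fintype.card_congr e
      simpa using this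
    obtain ⟨rfl, rfl⟩ : n₁ = 2 ∧ n₂ = 3 := by
      have h3 : n₁ ≤ 6 := Nat.le_of_dvd (by norm_num) ⟨n₂, hcard⟩
      have h4 : n₂ ≤ 6 := Nat.le_of_dvd (by norm_num) ⟨n₁, by rw [hcard, mul_comm]⟩
      interval_cases n₁ <;> interval_cases n₂ <;> omega
    by_cases hq3 : 3 ≤ q
    · exact Or.inr (Or.inr (Or.inr (Or.inr (Or.inr (Or.inr (Or.inr (Or.inl
        ⟨hq3, e, P, f₁, f₂, hf₁, hf₂, hT, by rw [hHM, inf_assoc]⟩)))))))
    · exfalso
      obtain rfl := q_eq_two hF hq3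
      exact tensor_two_false hF (by norm_num) hH e P f₁ f₂ hf₁ hf₂ hT hHM
  · -- tensor wreath: impossible
    exfalso
    have hcard : 6 = k ^ t := by
      have := Fintype.card_congr e
      simpa using this
    have h1 : k ^ 2 ≤ k ^ t := Nat.pow_le_pow_right (by omega) ht
    nlinarith

end Cfsg.Agent.Lib.Helper27_SURow6
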