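import Mathlib
import Cfsg.Prelude.Def_GeometricClasses
import Cfsg.Agent.Lib.Helper98_Decomp

/-!
# Stabilisers of decompositions into lines over very small fields (helper4, for S5781 and siblings)

For a decomposition `D` of `F^n` into `t` lines the stabiliser consists of monomial maps in an
adapted basis.  Over `F_2` it fixes the vector `∑ b i`, over `F_3` it preserves `∑ x_i²`, over
`F_4` it preserves the hermitian form `∑ x_i y_i²`.  All statements are for general `n`.
-/

set_option autoImplicit false

namespace Cfsg.Agent.Lib.Helper4_SL4Mono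

open Matrix Cfsg.Agent.Lib.Helper98_Decomp

variable {F : Type*} [Field F] {n t : ℕ} {D : Fin t → Submodule F (Fin n → F)}
  (hD : Cfsg.Geo.IsMDecomposition 1 D)

/-- the adapted basis vector of the line `D i` -/
noncomputable def bv (i : Fin t) : Fin n → F := bas hD ⟨i, 0⟩

/-- the coordinate along the line `D i` -/
noncomputable def cv (i : Fin t) : (Fin n → F) →ₗ[F] F := co hD i 0

lemma bv_mem (i : Fin t) : bv hD i ∈ D i := bas_mem hD i 0

lemma cv_bv (i k : Fin t) : cv hD i (bv hD k) = if k = i then 1 else 0 := by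
  unfold cv bv
  rw [co_bas]
  simp

lemma sum_cv_smul (x : Fin n → F) : ∑ i, cv hD i x • bv hD i = x := by
  conv_rhs => rw [← sum_part hD x]
  apply Finset.sum_congr rfl
  intro i _
  unfold part cv bv
  rw [Fin.sum_univ_one]

lemma eq_smul_of_mem {i : Fin t} {x : Fin n → F} (hx : x ∈ D i) : x = cv hD i x • bv hD i := by
  conv_lhs => rw [← sum_cv_smul hD x]
  rw [Finset.sum_eq_single i]
  · intro k _ hki
    have : cv hD k x = 0 := co_of_mem_ne hD hx (Ne.symm hki) 0
    rw [this, zero_smul]
  · intro h; exact absurd (Finset.mem_univ i) h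

lemma bv_ne_zero (i : Fin t) : bv hD i ≠ 0 := (bas hD).ne_zero _

lemma ext_cv {x y : Fin n → F} (h : ∀ i, cv hD i x = cv hD i y) : x = y := by
  rw [← sum_cv_smul hD x, ← sum_cv_smul hD y]
  apply Finset.sum_congr rfl
  intro i _
  rw [h i]

/-- elements of the stabiliser of a decomposition into lines are monomial in the adapted basis -/
theorem mono_desc {g : GL (Fin n) F} (hg : g ∈ Cfsg.Geo.decompositionStabilizer D) :
    ∃ (σ : Equiv.Perm (Fin t)) (c : Fin t → F), (∀ i, c i ≠ 0) ∧
      (∀ i, (g : Matrix (Fin n) (Fin n) F) *ᵥ bv hD i = c i • bv hD (σ i)) ∧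
      (∀ i x, cv hD (σ i) ((g : Matrix (Fin n) (Fin n) F) *ᵥ x) = c i * cv hD i x) := by
  obtain ⟨σ, hσ⟩ := hg
  have hmem : ∀ i, (g : Matrix (Fin n) (Fin n) F) *ᵥ bv hD i ∈ D (σ i) :=
    fun i => stab_mulVec_mem hσ (bv_mem hD i)
  set c : Fin t → F := fun i => cv hD (σ i) ((g : Matrix (Fin n) (Fin n) F) *ᵥ bv hD i) with hc
  have hgb : ∀ i, (g : Matrix (Fin n) (Fin n) F) *ᵥ bv hD i = c i • bv hD (σ i) :=
    fun i => eq_smul_of_mem hD (hmem i)
  refine ⟨σ, c, ?_, hgb, ?_⟩
  · intro i hci
    have h0 : (g : Matrix (Fin n) (Fin n) F) *ᵥ bv hD i = 0 := by rw [hgb i, hci, zero_smul]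
    have := congrArg (fun w => ((g⁻¹ : GL (Fin n) F) : Matrix (Fin n) (Fin n) F) *ᵥ w) h0
    simp only [Matrix.mulVec_mulVec, Matrix.mulVec_zero] at this
    rw [← Units.val_mul, inv_mul_cancel, Units.val_one, Matrix.one_mulVec] at this
    exact bv_ne_zero hD i this
  · intro i x
    have hx : (g : Matrix (Fin n) (Fin n) F) *ᵥ x = ∑ k, (cv hD k x * c k) • bv hD (σ k) := by
      conv_lhs => rw [← sum_cv_smul hD x]
      rw [Matrix.mulVec_sum]
      apply Finset.sum_congr rfl
      intro k _
      rw [Matrix.mulVec_smul, hgb k, smul_smul]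
    rw [hx, map_sum, Finset.sum_eq_single i]
    · rw [map_smul, cv_bv, if_pos rfl, smul_eq_mul, mul_one, mul_comm]
    · intro k _ hki
      rw [map_smul, cv_bv, if_neg, smul_zero]
      intro h
      exact hki (σ.injective h)
    · intro h; exact absurd (Finset.mem_univ i) h

/-! ### `q = 2`: a fixed vector -/

section Two

variable [Fintype F]

include hD in
/-- over the field with two elements the stabiliser of a decomposition into lines fixes the
sum of the adapted basis vectors, hence stabilises a line -/
theorem le_subspaceStabilizer_of_card_two (hq : Fintype.card F = 2) :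
    ∃ W : Submodule F (Fin n → F), W ≠ ⊥ ∧ W ≠ ⊤ ∧
      Cfsg.Geo.decompositionStabilizer D ≤ Cfsg.Geo.subspaceStabilizer W := by
  classical
  have hone : ∀ a : F, a ≠ 0 → a = 1 := by
    intro a ha
    have := FiniteField.pow_card_sub_one_eq_one a ha
    rw [hq] at this
    simpa using this
  set v : Fin n → F := ∑ i, bv hD i with hv
  have hcv : ∀ i, cv hD i v = 1 := by
    intro i
    rw [hv, map_sum, Finset.sum_eq_single i]
    · rw [cv_bv, if_pos rfl]
    · intro k _ hki; rw [cv_bv, if_neg hki]
    · intro h; exact absurd (Finset.mem_univ i) h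
  have ht2 : 2 ≤ t := hD.two_le
  have hv0 : v ≠ 0 := by
    intro h
    have := hcv ⟨0, by omega⟩
    rw [h, map_zero] at this
    exact zero_ne_one this
  have hfix : ∀ g ∈ Cfsg.Geo.decompositionStabilizer D,
      (g : Matrix (Fin n) (Fin n) F) *ᵥ v = v := by
    intro g hg
    obtain ⟨σ, c, hc0, hgb, hgc⟩ := mono_desc hD hg
    apply ext_cv hD
    intro k
    have := hgc (σ.symm k) v
    rw [Equiv.apply_symm_apply] at this
    rw [this, hcv, hcv, mul_one, hone _ (hc0 _)]
  refine ⟨Submodule.span F {v}, ?_, ?_, ?_⟩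
  · intro h
    have : v ∈ (⊥ : Submodule F (Fin n → F)) := h ▸ Submodule.mem_span_singleton_self v
    exact hv0 ((Submodule.mem_bot F).1 this)
  · intro h
    -- `bv 0` is not a multiple of `v`
    have hmem : bv hD ⟨0, by omega⟩ ∈ Submodule.span F {v} := h ▸ Submodule.mem_top
    obtain ⟨a, ha⟩ := Submodule.mem_span_singleton.1 hmem
    have h1 := congrArg (cv hD ⟨1, by omega⟩) ha
    rw [map_smul, hcv, cv_bv, if_neg (by intro h; simp [Fin.ext_iff] at h), smul_eq_mul,
      mul_one] at h1
    have h0 := congrArg (cv hD ⟨0, by omega⟩) ha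
    rw [map_smul, hcv, cv_bv, if_pos rfl, smul_eq_mul, mul_one, h1] at h0
    exact zero_ne_one h0
  · intro g hg
    have hgv := hfix g hg
    have hgv' : ((g⁻¹ : GL (Fin n) F) : Matrix (Fin n) (Fin n) F) *ᵥ v = v :=
      hfix g⁻¹ (inv_mem hg)
    show g ∈ Cfsg.stabilizing (Cfsg.glToMat (Fin n) F) _
    intro x
    show x ∈ Submodule.span F {v} ↔ (g : Matrix (Fin n) (Fin n) F) *ᵥ x ∈ Submodule.span F {v}
    constructor
    · intro hx
      obtain ⟨a, rfl⟩ := Submodule.mem_span_singleton.1 hx
      rw [Matrix.mulVec_smul, hgv]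
      exact Submodule.smul_mem _ _ (Submodule.mem_span_singleton_self v)
    · intro hx
      obtain ⟨a, ha⟩ := Submodule.mem_span_singleton.1 hx
      have := congrArg (fun w => ((g⁻¹ : GL (Fin n) F) : Matrix (Fin n) (Fin n) F) *ᵥ w) ha
      simp only [Matrix.mulVec_mulVec, Matrix.mulVec_smul] at this
      rw [← Units.val_mul, inv_mul_cancel, Units.val_one, Matrix.one_mulVec, hgv'] at this
      rw [← this]
      exact Submodule.smul_mem _ _ (Submodule.mem_span_singleton_self v)

end Two

/-! ### `q = 3`: the sum of squares -/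

section Three

variable [Fintype F]

/-- the sum of the squares of the adapted coordinates -/
noncomputable def sumSq (x : Fin n → F) : F := ∑ i, cv hD i x ^ 2

lemma polar_sumSq (x y : Fin n → F) :
    QuadraticMap.polar (sumSq hD) x y = 2 * ∑ i, cv hD i x * cv hD i y := by
  unfold QuadraticMap.polar sumSq
  rw [Finset.mul_sum, ← Finset.sum_sub_distrib, ← Finset.sum_sub_distrib]
  apply Finset.sum_congr rfl
  intro i _
  rw [map_add]
  ring

include hD in
/-- over the field with three elements the stabiliser of a decomposition into lines preserves the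
non-degenerate quadratic form `∑ x_i²` -/
theorem le_quadSimilarityGroup_of_card_three (hq : Fintype.card F = 3) :
    ∃ Q : (Fin n → F) → F, Cfsg.Geo.IsNondegenerateQuadraticForm Q ∧
      Cfsg.Geo.decompositionStabilizer D ≤ Cfsg.Geo.quadSimilarityGroup Q := by
  classical
  have hsq : ∀ a : F, a ≠ 0 → a ^ 2 = 1 := by
    intro a ha
    have := FiniteField.pow_card_sub_one_eq_one a ha
    rw [hq] at this
    simpa using this
  have h3 : (3 : F) = 0 := by
    have := FiniteField.cast_card_eq_zero F
    rw [hq] at this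
    exact_mod_cast this
  have h2 : (2 : F) ≠ 0 := by
    intro h
    apply one_ne_zero (α := F)
    linear_combination h3 - h
  refine ⟨sumSq hD, ⟨?_, ⟨?_, ?_, ?_, ?_⟩, ?_⟩, ?_⟩
  · intro c v
    unfold sumSq
    rw [Finset.mul_sum]
    apply Finset.sum_congr rfl
    intro i _
    rw [map_smul, smul_eq_mul]; ring
  · intro x y v
    rw [polar_sumSq, polar_sumSq, polar_sumSq, ← mul_add, ← Finset.sum_add_distrib]
    congr 1
    apply Finset.sum_congr rfl
    intro i _
    rw [map_add]; ring
  · intro c x v
    rw [polar_sumSq, polar_sumSq, Finset.mul_sum, Finset.mul_sum, Finset.mul_sum]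
    apply Finset.sum_congr rfl
    intro i _
    rw [map_smul, smul_eq_mul]; ring
  · intro v x y
    rw [polar_sumSq, polar_sumSq, polar_sumSq, ← mul_add, ← Finset.sum_add_distrib]
    congr 1
    apply Finset.sum_congr rfl
    intro i _
    rw [map_add]; ring
  · intro c v x
    rw [polar_sumSq, polar_sumSq, Finset.mul_sum, Finset.mul_sum, Finset.mul_sum]
    apply Finset.sum_congr rfl
    intro i _
    rw [map_smul, smul_eq_mul]; ring
  · intro v hv
    have : ∃ i, cv hD i v ≠ 0 := by
      by_contra h
      push Not at h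
      apply hv
      apply ext_cv hD
      intro i
      rw [h i, map_zero]
    obtain ⟨i, hi⟩ := this
    have hval : ∑ k, cv hD k (bv hD i) * cv hD k v = cv hD i v := by
      rw [Finset.sum_eq_single i]
      · rw [cv_bv, if_pos rfl, one_mul]
      · intro k _ hki; rw [cv_bv, if_neg (Ne.symm hki), zero_mul]
      · intro h; exact absurd (Finset.mem_univ i) h
    have hval' : ∑ k, cv hD k v * cv hD k (bv hD i) = cv hD i v := by
      rw [← hval]
      apply Finset.sum_congr rfl
      intro k _
      ring
    refine ⟨⟨bv hD i, ?_⟩, ⟨bv hD i, ?_⟩⟩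
    · rw [polar_sumSq, hval]
      exact mul_ne_zero h2 hi
    · rw [polar_sumSq, hval']
      exact mul_ne_zero h2 hi
  · intro g hg
    obtain ⟨σ, c, hc0, hgb, hgc⟩ := mono_desc hD hg
    refine ⟨1, fun v => ?_⟩
    rw [Units.val_one, one_mul]
    unfold sumSq
    rw [← Equiv.sum_comp σ]
    apply Finset.sum_congr rfl
    intro i _
    rw [hgc, mul_pow, hsq _ (hc0 i), one_mul]

end Three

/-! ### `q = 4`: the standard hermitian form -/

section Four

variable [Fintype F]

/-- the standard hermitian form in the adapted coordinates, for the squaring automorphism -/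
noncomputable def herm4 (x y : Fin n → F) : F := ∑ i, cv hD i x * cv hD i y ^ 2

include hD in
/-- over the field with four elements the stabiliser of a decomposition into lines preserves the
hermitian form `∑ x_i y_i²` -/
theorem le_similarityGroup_of_card_four (hq : Fintype.card F = 4) :
    ∃ (σ : F ≃+* F) (f : (Fin n → F) → (Fin n → F) → F), Cfsg.Geo.IsUnitaryForm σ f ∧
      Cfsg.Geo.decompositionStabilizer D ≤ Cfsg.Geo.similarityGroup f := by
  classical
  have h4 : (4 : F) = 0 := by
    have := FiniteField.cast_card_eq_zero F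
    rw [hq] at this
    exact_mod_cast this
  have h2 : (2 : F) = 0 := by
    have : (2 : F) * 2 = 0 := by linear_combination h4
    exact mul_self_eq_zero.mp this
  have hchar : CharP F 2 := CharTwo.of_one_ne_zero_of_two_eq_zero one_ne_zero h2
  have hfact : Fact (Nat.Prime 2) := ⟨Nat.prime_two⟩
  have hcube : ∀ a : F, a ≠ 0 → a ^ 3 = 1 := by
    intro a ha
    have := FiniteField.pow_card_sub_one_eq_one a ha
    rw [hq] at this
    simpa using this
  have hpow4 : ∀ a : F, a ^ 4 = a := by
    intro a
    have := FiniteField.pow_card a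
    rw [hq] at this
    exact this
  -- the squaring automorphism
  let τ : F ≃+* F := frobeniusEquiv F 2
  have hτ : ∀ a : F, τ a = a ^ 2 := fun a => frobeniusEquiv_apply F 2 a
  have hττ : ∀ a : F, τ (τ a) = a := by
    intro a
    rw [hτ, hτ, ← pow_mul]
    exact hpow4 a
  have hτne : τ ≠ RingEquiv.refl F := by
    intro h
    -- then every element satisfies `a² = a`, so `F` has at most two elements
    have hall : ∀ a : F, a = 0 ∨ a = 1 := by
      intro a
      have h1 : τ a = a := by rw [h]; rfl
      rw [hτ] at h1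
      have : a * (a - 1) = 0 := by linear_combination h1
      rcases mul_eq_zero.1 this with h0 | h0
      · exact Or.inl h0
      · exact Or.inr (sub_eq_zero.1 h0)
    have hle : Fintype.card F ≤ 2 := by
      have hsub : (Finset.univ : Finset F) ⊆ {0, 1} := by
        intro a _
        rcases hall a with h0 | h0 <;> simp [h0]
      calc Fintype.card F = (Finset.univ : Finset F).card := rfl
        _ ≤ ({0, 1} : Finset F).card := Finset.card_le_card hsub
        _ ≤ 2 := Finset.card_le_two
    omega
  have hf : ∀ x y, herm4 hD x y = ∑ i, cv hD i x * τ (cv hD i y) := by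
    intro x y
    unfold herm4
    apply Finset.sum_congr rfl
    intro i _
    rw [hτ]
  refine ⟨τ, herm4 hD, ⟨hτne, hττ, ?_, ?_, ?_, ?_⟩, ?_⟩
  · intro x y v
    unfold herm4
    rw [← Finset.sum_add_distrib]
    apply Finset.sum_congr rfl
    intro i _
    rw [map_add]; ring
  · intro c x v
    unfold herm4
    rw [Finset.mul_sum]
    apply Finset.sum_congr rfl
    intro i _
    rw [map_smul, smul_eq_mul]; ring
  · intro v w
    rw [hf, hf, map_sum]
    apply Finset.sum_congr rfl
    intro i _
    rw [map_mul, hττ, mul_comm]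
  · intro v hv
    have : ∃ i, cv hD i v ≠ 0 := by
      by_contra h
      push Not at h
      apply hv
      apply ext_cv hD
      intro i
      rw [h i, map_zero]
    obtain ⟨i, hi⟩ := this
    refine ⟨⟨bv hD i, ?_⟩, ⟨bv hD i, ?_⟩⟩
    · unfold herm4
      rw [Finset.sum_eq_single i]
      · rw [cv_bv, if_pos rfl, one_mul]
        exact pow_ne_zero 2 hi
      · intro k _ hki; rw [cv_bv, if_neg (Ne.symm hki), zero_mul]
      · intro h; exact absurd (Finset.mem_univ i) h
    · unfold herm4
      rw [Finset.sum_eq_single i]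
      · rw [cv_bv, if_pos rfl, one_pow, mul_one]
        exact hi
      · intro k _ hki; rw [cv_bv, if_neg (Ne.symm hki)]; simp
      · intro h; exact absurd (Finset.mem_univ i) h
  · intro g hg
    obtain ⟨σ, c, hc0, hgb, hgc⟩ := mono_desc hD hg
    refine ⟨1, fun u v => ?_⟩
    rw [Units.val_one, one_mul]
    unfold herm4
    rw [← Equiv.sum_comp σ]
    apply Finset.sum_congr rfl
    intro i _
    rw [hgc, hgc]
    have := hcube _ (hc0 i)
    linear_combination (cv hD i u * cv hD i v ^ 2) * this

end Four

end Cfsg.Agent.Lib.Helper4_SL4Mono
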