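import Mathlib
import Cfsg.Prelude.Def_GeometricClasses
import Cfsg.Prelude.Def_LieClassical
import Cfsg.Agent.Lib.Helper4_SL4Mono
import Cfsg.Agent.Lib.Helper4_SUFrameTwo
import Cfsg.Agent.Lib.Helper13_HermBridge
import Cfsg.Agent.Lib.Helper97_AschMaxC
import Cfsg.Agent.Lib.Helper61_F4

/-!
# The monomial subgroup of `SU_6(2)` is not maximal (helper4, for the row `su6`)

Over the field `F` with four elements the determinant-one unitary part of the stabiliser of a
decomposition of `F^6` into six mutually orthogonal nondegenerate lines (for the standard hermitian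
form) is properly contained in the determinant-one unitary part of the stabiliser (in an orthonormal
adapted basis) of the set of `378` vectors which either have exactly two nonzero coordinates or
have all coordinates nonzero with product one; the latter group is a proper subgroup of `SU_6(2)`.
-/

set_option autoImplicit false

namespace Cfsg.Agent.Lib.Helper4_SU6Two

open Matrix Cfsg.Geo Cfsg.Agent.Lib.Helper13_Herm
  Cfsg.Agent.Lib.Helper13_HermBridge Cfsg.Agent.Lib.Helper13_GU
  Cfsg.Agent.Lib.Helper98_Decomp Cfsg.Agent.Lib.Helper4_SL4Mono Cfsg.Agent.Lib.Helper97_AschMaxC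
  Cfsg.Agent.Lib.Helper4_SUFrameTwo Cfsg.Agent.Lib.Helper61_F4

/-! ### the set of root vectors -/

section Root

variable {K : Type*} [Field K] [DecidableEq K]

/-- the root vectors: two nonzero coordinates, or all coordinates nonzero with product one -/
def inR (v : Fin 6 → K) : Prop :=
  ((Finset.univ.filter fun i => v i ≠ 0).card = 2) ∨ ((∀ i, v i ≠ 0) ∧ ∏ i, v i = 1)

instance (v : Fin 6 → K) : Decidable (inR v) := by unfold inR; infer_instance

/-- the transvection along the all-ones vector -/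
def tv (v : Fin 6 → K) : Fin 6 → K := fun i => v i + ∑ j, v j

variable {K' : Type*} [Field K'] [DecidableEq K']

lemma inR_map (φ : K ≃+* K') (v : Fin 6 → K) : inR (fun i => φ (v i)) ↔ inR v := by
  unfold inR
  have h1 : (Finset.univ.filter fun i => φ (v i) ≠ 0) = Finset.univ.filter fun i => v i ≠ 0 := by
    apply Finset.filter_congr
    intro i _
    rw [Ne, Ne, map_eq_zero_iff φ φ.injective]
  have h2 : (∀ i, φ (v i) ≠ 0) ↔ ∀ i, v i ≠ 0 := by
    apply forall_congr'
    intro i
    rw [Ne, Ne, map_eq_zero_iff φ φ.injective]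
  have h3 : ∏ i, φ (v i) = 1 ↔ ∏ i, v i = 1 := by
    rw [← map_prod, map_eq_one_iff φ φ.injective]
  rw [h1, h2, h3]

omit [DecidableEq K] [DecidableEq K'] in
lemma tv_map (φ : K ≃+* K') (v : Fin 6 → K) :
    tv (fun i => φ (v i)) = fun i => φ (tv v i) := by
  funext i
  unfold tv
  rw [map_add, map_sum]

end Root

set_option maxRecDepth 100000 in
/-- the kernel of the argument, checked on the concrete field with four elements -/
theorem tv_inR_F4 : ∀ v : Fin 6 → F4, inR v → inR (tv v) := by decide +kernel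

section Abstract

variable {F : Type*} [Field F] [Fintype F] [DecidableEq F]

theorem tv_inR (hF : Fintype.card F = 2 ^ 2) (v : Fin 6 → F) (hv : inR v) : inR (tv v) := by
  have hF4 : Fintype.card F = 4 := by rw [hF]; norm_num
  set φ : F ≃+* F4 := ringEquivF4 hF4
  have h := tv_inR_F4 (fun i => φ (v i)) ((inR_map φ v).2 hv)
  rw [tv_map] at h
  exact (inR_map φ (tv v)).1 h

end Abstract

/-! ### monomial matrices -/

section Mono

variable {F : Type*} [Field F] {n : ℕ}

/-- the monomial matrix `e_j ↦ c j • e_(σ j)` -/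
def mono (σ : Equiv.Perm (Fin n)) (c : Fin n → F) : Matrix (Fin n) (Fin n) F :=
  fun i j => if i = σ j then c j else 0

lemma mono_mulVec (σ : Equiv.Perm (Fin n)) (c v : Fin n → F) (i : Fin n) :
    (mono σ c *ᵥ v) i = c (σ.symm i) * v (σ.symm i) := by
  show ∑ j, mono σ c i j * v j = _
  rw [Finset.sum_eq_single (σ.symm i)]
  · unfold mono
    rw [if_pos (σ.apply_symm_apply i).symm]
  · intro j _ hj
    unfold mono
    rw [if_neg, zero_mul]
    intro h
    apply hj
    rw [h, Equiv.symm_apply_apply]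
  · intro h; exact absurd (Finset.mem_univ _) h

lemma mono_single (σ : Equiv.Perm (Fin n)) (c : Fin n → F) (j : Fin n) :
    mono σ c *ᵥ Pi.single j 1 = c j • Pi.single (σ j) 1 := by
  rw [Matrix.mulVec_single_one]
  funext i
  show mono σ c i j = _
  unfold mono
  rw [Pi.smul_apply, Pi.single_apply, smul_eq_mul]
  split_ifs <;> simp

lemma det_mono (σ : Equiv.Perm (Fin n)) (c : Fin n → F) :
    (mono σ c).det = ((Equiv.Perm.sign σ : ℤ) : F) * ∏ j, c j := by
  have h : mono σ c = (σ⁻¹).permMatrix F * Matrix.diagonal c := by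
    ext i j
    rw [Matrix.mul_diagonal]
    unfold mono
    rw [Equiv.Perm.permMatrix, PEquiv.toMatrix_apply]
    simp only [Equiv.toPEquiv_apply, Option.mem_def, Option.some.injEq]
    by_cases hij : i = σ j
    · rw [if_pos hij, if_pos, one_mul]
      rw [hij]
      exact Equiv.Perm.inv_eq_iff_eq.mpr rfl
    · rw [if_neg hij, if_neg, zero_mul]
      intro h'
      apply hij
      rw [← h']
      exact ((Equiv.eq_symm_apply σ).mp rfl).symm
  rw [h, Matrix.det_mul, Matrix.det_permutation, Matrix.det_diagonal, Equiv.Perm.sign_inv]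

/-- in characteristic two the determinant of a monomial matrix is the product of its entries -/
lemma det_mono_two (h2 : (2 : F) = 0) (σ : Equiv.Perm (Fin n)) (c : Fin n → F) :
    (mono σ c).det = ∏ j, c j := by
  rw [det_mono]
  rcases Int.units_eq_one_or (Equiv.Perm.sign σ) with h | h
  · rw [h]; simp
  · rw [h]
    simp only [Units.val_neg, Units.val_one, Int.cast_neg, Int.cast_one, neg_mul, one_mul]
    linear_combination (-(∏ j, c j)) * h2

variable [DecidableEq F]

/-- monomial matrices with nonzero entries of product one preserve the root vectors -/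
lemma mono_inR (σ : Equiv.Perm (Fin 6)) (c : Fin 6 → F) (hc : ∀ j, c j ≠ 0)
    (hprod : ∏ j, c j = 1) (v : Fin 6 → F) : inR (mono σ c *ᵥ v) ↔ inR v := by
  unfold inR
  have h1 : (Finset.univ.filter fun i => (mono σ c *ᵥ v) i ≠ 0) =
      (Finset.univ.filter fun j => v j ≠ 0).map σ.toEmbedding := by
    ext i
    simp only [Finset.mem_filter, Finset.mem_univ, true_and, Finset.mem_map,
      Equiv.coe_toEmbedding]
    rw [mono_mulVec]
    constructor
    · intro h
      refine ⟨σ.symm i, right_ne_zero_of_mul h, σ.apply_symm_apply i⟩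
    · rintro ⟨j, hj, rfl⟩
      rw [Equiv.symm_apply_apply]
      exact mul_ne_zero (hc j) hj
  have h2 : (∀ i, (mono σ c *ᵥ v) i ≠ 0) ↔ ∀ j, v j ≠ 0 := by
    constructor
    · intro h j
      have := h (σ j)
      rw [mono_mulVec, Equiv.symm_apply_apply] at this
      exact right_ne_zero_of_mul this
    · intro h i
      rw [mono_mulVec]
      exact mul_ne_zero (hc _) (h _)
  have h3 : ∏ i, (mono σ c *ᵥ v) i = ∏ j, v j := by
    have e : ∀ i, (mono σ c *ᵥ v) i = (fun j => c j * v j) (σ.symm i) := fun i => mono_mulVec σ c v i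
    rw [Finset.prod_congr rfl (fun i _ => e i), Equiv.prod_comp σ.symm (fun j => c j * v j),
      Finset.prod_mul_distrib, hprod, one_mul]
  rw [h1, Finset.card_map, h2, h3]

end Mono

/-! ### block transvections -/

section Transv

variable {F : Type*} [Field F]

/-- the all-ones matrix on the block `S` -/
def JS (S : Finset (Fin 6)) : Matrix (Fin 6) (Fin 6) F :=
  Matrix.of fun i j => if i ∈ S ∧ j ∈ S then 1 else 0

lemma JS_apply (S : Finset (Fin 6)) (i j : Fin 6) :
    (JS S : Matrix (Fin 6) (Fin 6) F) i j = if i ∈ S ∧ j ∈ S then 1 else 0 := rfl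

/-- the transvection along the all-ones vector of the block `S` -/
def tS (S : Finset (Fin 6)) : Matrix (Fin 6) (Fin 6) F := 1 + JS S

lemma JS_mulVec (S : Finset (Fin 6)) (v : Fin 6 → F) (i : Fin 6) :
    (JS S *ᵥ v) i = if i ∈ S then ∑ j ∈ S, v j else 0 := by
  show ∑ j, JS S i j * v j = _
  by_cases hi : i ∈ S
  · rw [if_pos hi, ← Finset.sum_subset (Finset.subset_univ S)]
    · apply Finset.sum_congr rfl
      intro j hj
      rw [JS_apply, if_pos ⟨hi, hj⟩, one_mul]
    · intro j _ hj
      rw [JS_apply, if_neg (fun h => hj h.2), zero_mul]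
  · rw [if_neg hi]
    apply Finset.sum_eq_zero
    intro j _
    rw [JS_apply, if_neg (fun h => hi h.1), zero_mul]

lemma tS_mulVec (S : Finset (Fin 6)) (v : Fin 6 → F) (i : Fin 6) :
    (tS S *ᵥ v) i = v i + if i ∈ S then ∑ j ∈ S, v j else 0 := by
  unfold tS
  rw [Matrix.add_mulVec, Matrix.one_mulVec, Pi.add_apply, JS_mulVec]

lemma JS_transpose (S : Finset (Fin 6)) : (JS S : Matrix (Fin 6) (Fin 6) F)ᵀ = JS S := by
  ext i j
  rw [Matrix.transpose_apply, JS_apply, JS_apply]
  simp only [and_comm]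

lemma JS_mul_self (S : Finset (Fin 6)) :
    (JS S : Matrix (Fin 6) (Fin 6) F) * JS S = (S.card : F) • JS S := by
  ext i k
  rw [Matrix.mul_apply, Matrix.smul_apply, smul_eq_mul]
  by_cases hi : i ∈ S
  · by_cases hk : k ∈ S
    · have : ∀ j, (JS S : Matrix (Fin 6) (Fin 6) F) i j * JS S j k = if j ∈ S then 1 else 0 := by
        intro j
        rw [JS_apply, JS_apply]
        by_cases hj : j ∈ S
        · rw [if_pos ⟨hi, hj⟩, if_pos ⟨hj, hk⟩, if_pos hj, one_mul]
        · rw [if_neg (fun h => hj h.2), if_neg hj, zero_mul]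
      rw [Finset.sum_congr rfl (fun j _ => this j), Finset.sum_ite_mem, Finset.univ_inter,
        Finset.sum_const, nsmul_eq_mul, mul_one, JS_apply, if_pos ⟨hi, hk⟩, mul_one]
    · rw [JS_apply S i k, if_neg (fun h => hk h.2), mul_zero]
      apply Finset.sum_eq_zero
      intro j _
      rw [JS_apply S j k, if_neg (fun h => hk h.2), mul_zero]
  · rw [JS_apply S i k, if_neg (fun h => hi h.1), mul_zero]
    apply Finset.sum_eq_zero
    intro j _
    rw [JS_apply S i j, if_neg (fun h => hi h.1), zero_mul]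

lemma tS_transpose (S : Finset (Fin 6)) : (tS S : Matrix (Fin 6) (Fin 6) F)ᵀ = tS S := by
  unfold tS
  rw [Matrix.transpose_add, Matrix.transpose_one, JS_transpose]

lemma tS_map (h2 : (2 : F) = 0) (S : Finset (Fin 6)) :
    (tS S : Matrix (Fin 6) (Fin 6) F).map (fun x => x ^ 2) = tS S := by
  ext i j
  unfold tS
  rw [Matrix.map_apply, Matrix.add_apply, Matrix.one_apply, JS_apply]
  split_ifs
  · linear_combination (1 : F) * h2
  · ring
  · ring
  · ring

lemma tS_mul_self (h2 : (2 : F) = 0) (S : Finset (Fin 6)) (hS : (S.card : F) = 0) :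
    (tS S : Matrix (Fin 6) (Fin 6) F) * tS S = 1 := by
  unfold tS
  rw [Matrix.add_mul, Matrix.mul_add, Matrix.mul_add, Matrix.one_mul, Matrix.mul_one, Matrix.one_mul,
    JS_mul_self, hS, zero_smul, add_zero, add_assoc, ← two_smul F (JS S), h2, zero_smul, add_zero]

lemma tS_gram (h2 : (2 : F) = 0) (S : Finset (Fin 6)) (hS : (S.card : F) = 0) :
    (tS S : Matrix (Fin 6) (Fin 6) F)ᵀ * (tS S).map (fun x => x ^ 2) = 1 := by
  rw [tS_transpose, tS_map h2, tS_mul_self h2 S hS]

lemma tS_det (h2 : (2 : F) = 0) (S : Finset (Fin 6)) (hS : (S.card : F) = 0) :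
    (tS S : Matrix (Fin 6) (Fin 6) F).det = 1 := by
  have h := congrArg Matrix.det (tS_mul_self h2 S hS)
  rw [Matrix.det_mul, Matrix.det_one] at h
  have h' : ((tS S : Matrix (Fin 6) (Fin 6) F).det - 1) ^ 2 = 0 := by
    linear_combination h - (tS S : Matrix (Fin 6) (Fin 6) F).det * h2 + h2
  have := pow_eq_zero_iff (two_ne_zero) |>.1 h'
  linear_combination this

end Transv

/-! ### the orthonormal adapted basis -/

section Main

variable {F : Type*} [Field F]
variable {D : Fin 6 → Submodule F (Fin 6 → F)}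
  (hD : IsNondegenerateMDecomposition (Cfsg.hermForm 6 F 2) 1 D)

lemma herm_bv_ne {i j : Fin 6} (hij : i ≠ j) :
    Cfsg.hermForm 6 F 2 (bv hD.decomp i) (bv hD.decomp j) = 0 :=
  hD.orthogonal i j hij _ (bv_mem hD.decomp i) _ (bv_mem hD.decomp j)

lemma herm_bv_self [Fintype F] (hF : Fintype.card F = 2 ^ 2) (j : Fin 6) :
    Cfsg.hermForm 6 F 2 (bv hD.decomp j) (bv hD.decomp j) = 1 := by
  have h0 : nm (bv hD.decomp j) ≠ 0 := by
    obtain ⟨⟨x, hx, hne⟩, -⟩ := hD.nondegenerate j _ (bv_mem hD.decomp j) (bv_ne_zero hD.decomp j)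
    intro h0
    apply hne
    rw [eq_smul_of_mem hD.decomp hx, hermForm_smul_left]
    unfold nm at h0
    rw [h0, mul_zero]
  exact nm_eq_one hF h0

/-- the matrix whose columns are the adapted basis vectors -/
noncomputable def Pn : Matrix (Fin 6) (Fin 6) F := fun i j => bv hD.decomp j i

lemma Pn_single (j : Fin 6) : Pn hD *ᵥ Pi.single j 1 = bv hD.decomp j := by
  rw [Matrix.mulVec_single_one]
  rfl

lemma Pn_gram [Fintype F] (hF : Fintype.card F = 2 ^ 2) :
    (Pn hD)ᵀ * (Pn hD).map (fun x => x ^ 2) = 1 := by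
  ext i j
  rw [Matrix.mul_apply]
  have h1 : ∑ l, (Pn hD)ᵀ i l * ((Pn hD).map (fun x => x ^ 2)) l j =
      Cfsg.hermForm 6 F 2 (bv hD.decomp i) (bv hD.decomp j) := by
    unfold Cfsg.hermForm
    rfl
  rw [h1, Matrix.one_apply]
  by_cases hij : i = j
  · subst hij
    rw [if_pos rfl, herm_bv_self hD hF]
  · rw [if_neg hij, herm_bv_ne hD hij]

/-- the base change to the orthonormal adapted basis, an element of `GU_6(2)` -/
noncomputable def PG [Fintype F] (hF : Fintype.card F = 2 ^ 2) : GL (Fin 6) F :=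
  gramGL (Pn hD) (Pn_gram hD hF)

lemma PG_val [Fintype F] (hF : Fintype.card F = 2 ^ 2) :
    ((PG hD hF : GL (Fin 6) F) : Matrix (Fin 6) (Fin 6) F) = Pn hD := rfl

lemma PG_mem [Fintype F] (hF : Fintype.card F = 2 ^ 2) : PG hD hF ∈ Cfsg.GU 6 F 2 :=
  gramGL_mem hF _ _

/-- in the orthonormal adapted basis the elements of the stabiliser are monomial matrices -/
lemma conj_eq_mono [Fintype F] (hF : Fintype.card F = 2 ^ 2)
    {g : GL (Fin 6) F} (hg : g ∈ decompositionStabilizer D) :
    ∃ (σ : Equiv.Perm (Fin 6)) (c : Fin 6 → F), (∀ j, c j ≠ 0) ∧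
      (((PG hD hF)⁻¹ * g * PG hD hF : GL (Fin 6) F) : Matrix (Fin 6) (Fin 6) F) =
        mono σ c := by
  obtain ⟨σ, c, hc, hgb, -⟩ := mono_desc hD.decomp hg
  refine ⟨σ, c, hc, ?_⟩
  have key : (g : Matrix (Fin 6) (Fin 6) F) * Pn hD = Pn hD * mono σ c := by
    ext i j
    have e1 : ((g : Matrix (Fin 6) (Fin 6) F) * Pn hD) i j =
        (((g : Matrix (Fin 6) (Fin 6) F) * Pn hD) *ᵥ Pi.single j 1) i := by
      rw [Matrix.mulVec_single_one]; rfl
    have e2 : (Pn hD * mono σ c) i j = ((Pn hD * mono σ c) *ᵥ Pi.single j 1) i := by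
      rw [Matrix.mulVec_single_one]; rfl
    rw [e1, e2, ← Matrix.mulVec_mulVec, ← Matrix.mulVec_mulVec, Pn_single, mono_single,
      Matrix.mulVec_smul, hgb, Pn_single]
  rw [Units.val_mul, Units.val_mul, Matrix.mul_assoc, PG_val, key, ← PG_val hD hF,
    ← Matrix.mul_assoc, ← Units.val_mul, inv_mul_cancel, Units.val_one, Matrix.one_mul]

end Main

/-! ### the theorem -/

section Thm

variable {F : Type*} [Field F] [Fintype F]

section Dec

variable [DecidableEq F]

omit [Fintype F] [DecidableEq F] in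
lemma tv_tv (h2 : (2 : F) = 0) (x : Fin 6 → F) : tv (tv x) = x := by
  funext i
  unfold tv
  rw [Finset.sum_add_distrib, Finset.sum_const, Finset.card_univ, Fintype.card_fin, nsmul_eq_mul]
  push_cast
  linear_combination (4 * ∑ j, x j) * h2

omit [Fintype F] [DecidableEq F] in
lemma tS_univ_mulVec (x : Fin 6 → F) : tS Finset.univ *ᵥ x = tv x := by
  funext i
  rw [tS_mulVec, if_pos (Finset.mem_univ i)]
  rfl

/-- the transvection along the all-ones vector preserves the root vectors -/
lemma tS_univ_inR (hF : Fintype.card F = 2 ^ 2) (x : Fin 6 → F) :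
    inR (tS Finset.univ *ᵥ x) = inR x := by
  have h2 := two_eq_zero hF
  rw [tS_univ_mulVec]
  apply propext
  constructor
  · intro h
    have := tv_inR hF _ h
    rwa [tv_tv h2] at this
  · exact tv_inR hF x

/-- the block of the first four coordinates -/
def S4 : Finset (Fin 6) := {0, 1, 2, 3}

omit [Fintype F] [DecidableEq F] in
lemma S4_mulVec (h2 : (2 : F) = 0) :
    (tS S4 : Matrix (Fin 6) (Fin 6) F) *ᵥ ![1, 0, 0, 0, 1, 0] = ![0, 1, 1, 1, 1, 0] := by
  have hs : ∑ j ∈ S4, (![1, 0, 0, 0, 1, 0] : Fin 6 → F) j = 1 := by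
    unfold S4
    simp
  funext i
  rw [tS_mulVec, hs]
  fin_cases i
  · show (1 : F) + 1 = 0
    linear_combination h2
  · show (0 : F) + 1 = 1
    ring
  · show (0 : F) + 1 = 1
    ring
  · show (0 : F) + 1 = 1
    ring
  · show (1 : F) + 0 = 1
    ring
  · show (0 : F) + 0 = 0
    ring

omit [Fintype F] in
lemma inR_x0 : inR (![1, 0, 0, 0, 1, 0] : Fin 6 → F) := by
  left
  have : (Finset.univ.filter fun i => (![1, 0, 0, 0, 1, 0] : Fin 6 → F) i ≠ 0) = {0, 4} := by
    ext i
    fin_cases i <;> simp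
  rw [this]
  rfl

omit [Fintype F] in
lemma not_inR_y0 : ¬ inR (![0, 1, 1, 1, 1, 0] : Fin 6 → F) := by
  rintro (h | ⟨h, -⟩)
  · have : (Finset.univ.filter fun i => (![0, 1, 1, 1, 1, 0] : Fin 6 → F) i ≠ 0) = {1, 2, 3, 4} := by
      ext i
      fin_cases i <;> simp
    rw [this] at h
    revert h
    decide
  · exact h 0 rfl

end Dec

variable {D : Fin 6 → Submodule F (Fin 6 → F)}
  (hD : IsNondegenerateMDecomposition (Cfsg.hermForm 6 F 2) 1 D)

include hD in
/-- over the field with four elements the determinant-one unitary part of the stabiliser of a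
decomposition of `F^6` into six mutually orthogonal nondegenerate lines is not maximal in
`SU_6(2)` -/
theorem not_maximal_of_q_two (hF : Fintype.card F = 2 ^ 2) :
    ∃ K : Subgroup (GL (Fin 6) F),
      decompositionStabilizer D ⊓ Cfsg.GU 6 F 2 ⊓ specialLinear (Fin 6) F < K ∧
        K < Cfsg.GU 6 F 2 ⊓ specialLinear (Fin 6) F := by
  classical
  have h2 := two_eq_zero hF
  have h6 : (((Finset.univ : Finset (Fin 6)).card : ℕ) : F) = 0 := by
    rw [Finset.card_univ, Fintype.card_fin]
    push_cast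
    linear_combination (3 : F) * h2
  have h4 : ((S4.card : ℕ) : F) = 0 := by
    have : S4.card = 4 := rfl
    rw [this]
    push_cast
    linear_combination (2 : F) * h2
  set P : GL (Fin 6) F := PG hD hF with hP
  have hPU : P ∈ Cfsg.GU 6 F 2 := PG_mem hD hF
  set SU : Subgroup (GL (Fin 6) F) := Cfsg.GU 6 F 2 ⊓ specialLinear (Fin 6) F with hSU
  set N : Subgroup (GL (Fin 6) F) := preserver (fun v : Fin 6 → F => inR v) with hN
  -- conjugation by `P` preserves `SU`
  have hconjSU : ∀ g : GL (Fin 6) F, g ∈ SU → P⁻¹ * g * P ∈ SU := by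
    intro g hg
    refine Subgroup.mem_inf.2 ⟨?_, ?_⟩
    · exact mul_mem (mul_mem (inv_mem hPU) (Subgroup.mem_inf.1 hg).1) hPU
    · have := conj_mem_sl P⁻¹ g (Subgroup.mem_inf.1 hg).2
      rwa [inv_inv] at this
  have hconjSU' : ∀ g : GL (Fin 6) F, g ∈ SU → P * g * P⁻¹ ∈ SU := by
    intro g hg
    refine Subgroup.mem_inf.2 ⟨?_, ?_⟩
    · exact mul_mem (mul_mem hPU (Subgroup.mem_inf.1 hg).1) (inv_mem hPU)
    · exact conj_mem_sl P g (Subgroup.mem_inf.1 hg).2
  set K : Subgroup (GL (Fin 6) F) := (N ⊓ SU).comap (MulAut.conj P⁻¹).toMonoidHom with hK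
  have hmemK : ∀ g : GL (Fin 6) F, g ∈ K ↔ (P⁻¹ * g * P ∈ N ∧ P⁻¹ * g * P ∈ SU) := by
    intro g
    rw [hK, Subgroup.mem_comap, Subgroup.mem_inf]
    have : (MulAut.conj P⁻¹).toMonoidHom g = P⁻¹ * g * P := by
      show P⁻¹ * g * (P⁻¹)⁻¹ = _
      rw [inv_inv]
    rw [this]
  have hback : ∀ g : GL (Fin 6) F, P⁻¹ * (P * g * P⁻¹) * P = g := by
    intro g; group
  have hback' : ∀ g : GL (Fin 6) F, P * (P⁻¹ * g * P) * P⁻¹ = g := by
    intro g; group
  -- the two transvections
  set T : GL (Fin 6) F := gramGL (tS Finset.univ) (tS_gram h2 Finset.univ h6) with hT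
  have hTSU : T ∈ SU :=
    Subgroup.mem_inf.2 ⟨gramGL_mem hF _ _, (mem_sl_iff _).2 (tS_det h2 Finset.univ h6)⟩
  set T4 : GL (Fin 6) F := gramGL (tS S4) (tS_gram h2 S4 h4) with hT4
  have hT4SU : T4 ∈ SU :=
    Subgroup.mem_inf.2 ⟨gramGL_mem hF _ _, (mem_sl_iff _).2 (tS_det h2 S4 h4)⟩
  refine ⟨K, ?_, ?_⟩
  · rw [SetLike.lt_iff_le_and_exists]
    refine ⟨?_, ?_⟩
    · intro g hg
      obtain ⟨hg1, hgS⟩ := Subgroup.mem_inf.1 hg
      obtain ⟨hgD, hgU⟩ := Subgroup.mem_inf.1 hg1
      have hgSU : g ∈ SU := Subgroup.mem_inf.2 ⟨hgU, hgS⟩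
      obtain ⟨σ, c, hc, hval⟩ := conj_eq_mono hD hF hgD
      have hS := hconjSU g hgSU
      rw [hmemK]
      refine ⟨?_, hS⟩
      have hdet := (mem_sl_iff _).1 (Subgroup.mem_inf.1 hS).2
      rw [hval, det_mono_two h2] at hdet
      rw [hN, mem_preserver]
      intro x
      rw [hval]
      exact propext (mono_inR σ c hc hdet x)
    · refine ⟨P * T * P⁻¹, ?_, ?_⟩
      · rw [hmemK, hback]
        refine ⟨?_, hTSU⟩
        rw [hN, mem_preserver]
        intro x
        exact tS_univ_inR hF x
      · intro hmem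
        have hv : ((P * T * P⁻¹ : GL (Fin 6) F) : Matrix (Fin 6) (Fin 6) F) *ᵥ
            (bv hD.decomp 0) = bv hD.decomp 0 + ∑ j, bv hD.decomp j := by
          rw [← Pn_single hD 0, ← PG_val hD hF, Matrix.mulVec_mulVec, ← Units.val_mul]
          have e : P * T * P⁻¹ * P = P * T := by group
          rw [← hP, e, Units.val_mul, ← Matrix.mulVec_mulVec]
          have hcol : (T : Matrix (Fin 6) (Fin 6) F) *ᵥ Pi.single 0 1 =
              Pi.single 0 1 + ∑ j, Pi.single j 1 := by
            show tS Finset.univ *ᵥ _ = _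
            rw [tS_univ_mulVec]
            funext i
            unfold tv
            rw [Pi.add_apply, Finset.sum_apply]
            have s1 : ∑ j, (Pi.single (0 : Fin 6) (1 : F) : Fin 6 → F) j = 1 := by
              rw [Finset.sum_eq_single (0 : Fin 6), Pi.single_eq_same]
              · intro l _ hl; rw [Pi.single_eq_of_ne hl]
              · intro h; exact absurd (Finset.mem_univ _) h
            have s2 : ∑ c, (Pi.single c (1 : F) : Fin 6 → F) i = 1 := by
              rw [Finset.sum_eq_single i, Pi.single_eq_same]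
              · intro l _ hl; rw [Pi.single_eq_of_ne (Ne.symm hl)]
              · intro h; exact absurd (Finset.mem_univ _) h
            rw [s1, s2]
          rw [hcol, Matrix.mulVec_add, Matrix.mulVec_sum, hP, PG_val, Pn_single]
          congr 1
          apply Finset.sum_congr rfl
          intro j _
          rw [Pn_single]
        have hco : ∀ i : Fin 6, i ≠ 0 →
            co hD.decomp i 0 (bv hD.decomp 0 + ∑ j, bv hD.decomp j) = 1 := by
          intro i hi
          show cv hD.decomp i (bv hD.decomp 0 + ∑ j, bv hD.decomp j) = 1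
          rw [map_add, cv_bv, if_neg (Ne.symm hi), zero_add, map_sum, Finset.sum_eq_single i]
          · rw [cv_bv, if_pos rfl]
          · intro j _ hji; rw [cv_bv, if_neg hji]
          · intro h; exact absurd (Finset.mem_univ i) h
        refine not_mem_stab hD.decomp (bv_mem hD.decomp 0)
          (i₁ := 1) (i₂ := 2) (j₁ := 0) (j₂ := 0) (by decide) ?_ ?_
          (Subgroup.mem_inf.1 (Subgroup.mem_inf.1 hmem).1).1
        · rw [hv, hco 1 (by decide)]; exact one_ne_zero
        · rw [hv, hco 2 (by decide)]; exact one_ne_zero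
  · rw [SetLike.lt_iff_le_and_exists]
    refine ⟨?_, ?_⟩
    · intro g hg
      rw [hmemK] at hg
      have := hconjSU' _ hg.2
      rwa [hback'] at this
    · refine ⟨P * T4 * P⁻¹, hconjSU' _ hT4SU, ?_⟩
      intro hmem
      rw [hmemK, hback] at hmem
      have h1 := hmem.1
      rw [hN, mem_preserver] at h1
      have h3 := h1 ![1, 0, 0, 0, 1, 0]
      have h5 : (T4 : Matrix (Fin 6) (Fin 6) F) *ᵥ ![1, 0, 0, 0, 1, 0] = ![0, 1, 1, 1, 1, 0] :=
        S4_mulVec h2
      rw [h5] at h3
      exact not_inR_y0 (h3.symm ▸ inR_x0)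

end Thm

end Cfsg.Agent.Lib.Helper4_SU6Two
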