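import Mathlib
import Cfsg.Prelude.Def_GeometricClasses
import Cfsg.Prelude.Def_LieClassical
import Cfsg.Agent.Lib.Helper27_SURow6
import Cfsg.Agent.Lib.Helper4_SU6Two

/-!
helper27: the row "maximal subgroups of `SU_6(q)`" once more, with the two `q = 2` packages in the shapes
in which they were proved: E6a = helper4's `Helper4_SU6Two.not_maximal_of_q_two` (`frameTwoHyp`), and E6c in
the REFINE shape (`FieldTwoRefine`: the normalizer of an adjoint-closed cubic field lies in a subfield group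
of symplectic type, so a maximal one IS that subfield group: the disjunct with `ζ = 1`).
-/

set_option autoImplicit false
set_option linter.unusedSectionVars false

namespace Cfsg.Agent.Lib.Helper27_SURow6b

open Matrix Cfsg.Geo Cfsg.Agent.Lib.Helper39_SUAschMax Cfsg.Agent.Lib.Helper39_SURows
  Cfsg.Agent.Lib.Helper27_SURow6

variable {F : Type*} [Field F] [Fintype F] {q : ℕ}

/-- package E6a from helper4's `not_maximal_of_q_two` -/
theorem frameTwoHyp (hF : Fintype.card F = 2 ^ 2) : FrameTwoHyp F := by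
  intro D hD hmax
  obtain ⟨K, h1, h2⟩ := Cfsg.Agent.Lib.Helper4_SU6Two.not_maximal_of_q_two hD hF
  rw [inf_assoc] at h1
  rcases hmax.2 K h1.le h2.le with h | h
  · exact h1.ne' h
  · exact h2.ne h

/-- package E6c, refine shape: over the field with four elements the normalizer in `SU_6(2)` of an
adjoint-closed cubic field lies in a subfield group over the prime field on whose rational vectors the form is
rational and alternating -/
def FieldTwoRefine (F : Type*) [Field F] [Fintype F] : Prop :=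
  ∀ K : Subalgebra F (Matrix (Fin 6) (Fin 6) F), IsFieldSubalgebra 3 K →
    IsAdjointClosedFor (Cfsg.hermForm 6 F 2) K →
    ∃ (F₀ : Subfield F) (P : GL (Fin 6) F), Fintype.card F = Nat.card F₀ ^ 2 ∧
      IsFormRationalStructure (Cfsg.hermForm 6 F 2) F₀ 1 P ∧
      (∀ u : Fin 6 → F, (∀ i, u i ∈ F₀) →
        Cfsg.hermForm 6 F 2 ((P : Matrix (Fin 6) (Fin 6) F) *ᵥ u) ((P : Matrix (Fin 6) (Fin 6) F) *ᵥ u) = 0) ∧
      subalgebraNormalizer K ⊓ (Cfsg.GU 6 F 2 ⊓ specialLinear (Fin 6) F) ≤ subfieldSubgroup F₀ P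

/-- the prime field of a field with four elements has two elements -/
lemma card_bot_two (hF : Fintype.card F = 2 ^ 2) : Nat.card (⊥ : Subfield F) = 2 := by
  have h2 : (2 : F) = 0 := Cfsg.Agent.Lib.Helper4_SUFrameTwo.two_eq_zero hF
  have : CharP F 2 := CharTwo.of_one_ne_zero_of_two_eq_zero one_ne_zero h2
  have : Fact (Nat.Prime 2) := ⟨Nat.prime_two⟩
  let _ : Algebra (ZMod 2) F := ZMod.algebra F 2
  rw [Subfield.bot_eq_of_zMod_algebra 2]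
  have e : ZMod 2 ≃ (algebraMap (ZMod 2) F).fieldRange :=
    Equiv.ofInjective _ (algebraMap (ZMod 2) F).injective |>.trans (Equiv.setCongr (by ext; simp))
  rw [← Nat.card_congr e]
  simp

/-- package E6cA in the shape of `pending/helper27/SU36_packages.lean.txt` -/
def E6cAStmt (F : Type*) [Field F] [Fintype F] : Prop :=
  ∀ K : Subalgebra F (Matrix (Fin 6) (Fin 6) F), IsFieldSubalgebra 3 K →
    IsAdjointClosedFor (Cfsg.hermForm 6 F 2) K →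
    ∃ P : GL (Fin 6) F,
      (∀ u v : Fin 6 → F, (∀ i, u i ∈ (⊥ : Subfield F)) → (∀ i, v i ∈ (⊥ : Subfield F)) →
        Cfsg.hermForm 6 F 2 ((P : Matrix (Fin 6) (Fin 6) F) *ᵥ u) ((P : Matrix (Fin 6) (Fin 6) F) *ᵥ v) ∈ (⊥ : Subfield F)) ∧
      (∀ u : Fin 6 → F, (∀ i, u i ∈ (⊥ : Subfield F)) →
        Cfsg.hermForm 6 F 2 ((P : Matrix (Fin 6) (Fin 6) F) *ᵥ u) ((P : Matrix (Fin 6) (Fin 6) F) *ᵥ u) = 0) ∧
      subalgebraNormalizer K ⊓ (Cfsg.GU 6 F 2 ⊓ specialLinear (Fin 6) F) ≤ subfieldSubgroup (⊥ : Subfield F) P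

theorem fieldTwoRefine_of_E6cA (hF : Fintype.card F = 2 ^ 2) (hA : E6cAStmt F) : FieldTwoRefine F := by
  intro K hK hadj
  obtain ⟨P, h1, h2, h3⟩ := hA K hK hadj
  refine ⟨⊥, P, ?_, ?_, h2, h3⟩
  · rw [card_bot_two hF, hF]
  · intro u v hu hv
    rw [one_mul]
    exact h1 u v hu hv


theorem su6_cases_refine (hF : Fintype.card F = q ^ 2) (hE : Excl 6 F q) (hA : SUAschHyp 6 F q)
    (hE6a : q = 2 → FrameTwoHyp F) (hE6c : q = 2 → FieldTwoRefine F)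
    (H : Subgroup (Matrix.GeneralLinearGroup (Fin 6) F)) (hH : Cfsg.Geo.IsMaximalIn (Cfsg.GU 6 F q ⊓ Cfsg.Geo.specialLinear (Fin 6) F) H) :
    (∃ W : Submodule F (Fin 6 → F), W ≠ ⊥ ∧ Cfsg.Geo.IsTotallySingularFor (Cfsg.hermForm 6 F q) W ∧ H = Cfsg.Geo.subspaceStabilizer W ⊓ (Cfsg.GU 6 F q ⊓ Cfsg.Geo.specialLinear (Fin 6) F)) ∨
    (∃ W : Submodule F (Fin 6 → F), W ≠ ⊥ ∧ Cfsg.Geo.IsNondegenerateOn (Cfsg.hermForm 6 F q) W ∧ 2 * Module.finrank F W < 6 ∧ H = Cfsg.Geo.subspaceStabilizer W ⊓ (Cfsg.GU 6 F q ⊓ Cfsg.Geo.specialLinear (Fin 6) F)) ∨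
    (3 ≤ q ∧ ∃ D : Fin 6 → Submodule F (Fin 6 → F), Cfsg.Geo.IsNondegenerateMDecomposition (Cfsg.hermForm 6 F q) 1 D ∧ H = Cfsg.Geo.decompositionStabilizer D ⊓ (Cfsg.GU 6 F q ⊓ Cfsg.Geo.specialLinear (Fin 6) F)) ∨
    (3 ≤ q ∧ ∃ D : Fin 3 → Submodule F (Fin 6 → F), Cfsg.Geo.IsNondegenerateMDecomposition (Cfsg.hermForm 6 F q) 2 D ∧ H = Cfsg.Geo.decompositionStabilizer D ⊓ (Cfsg.GU 6 F q ⊓ Cfsg.Geo.specialLinear (Fin 6) F)) ∨
    (∃ D : Fin 2 → Submodule F (Fin 6 → F), Cfsg.Geo.IsNondegenerateMDecomposition (Cfsg.hermForm 6 F q) 3 D ∧ H = Cfsg.Geo.decompositionStabilizer D ⊓ (Cfsg.GU 6 F q ⊓ Cfsg.Geo.specialLinear (Fin 6) F)) ∨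
    (∃ D : Fin 2 → Submodule F (Fin 6 → F), Cfsg.Geo.IsMDecomposition 3 D ∧ (∀ i, Cfsg.Geo.IsTotallySingularFor (Cfsg.hermForm 6 F q) (D i)) ∧ H = Cfsg.Geo.decompositionStabilizer D ⊓ (Cfsg.GU 6 F q ⊓ Cfsg.Geo.specialLinear (Fin 6) F)) ∨
    (3 ≤ q ∧ ∃ K : Subalgebra F (Matrix (Fin 6) (Fin 6) F), Cfsg.Geo.IsFieldSubalgebra 3 K ∧ Cfsg.Geo.IsAdjointClosedFor (Cfsg.hermForm 6 F q) K ∧ H = Cfsg.Geo.subalgebraNormalizer K ⊓ (Cfsg.GU 6 F q ⊓ Cfsg.Geo.specialLinear (Fin 6) F)) ∨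
    (3 ≤ q ∧ ∃ (e : Fin 6 ≃ Fin 2 × Fin 3) (P : Matrix.GeneralLinearGroup (Fin 6) F) (f₁ : (Fin 2 → F) → (Fin 2 → F) → F) (f₂ : (Fin 3 → F) → (Fin 3 → F) → F), Cfsg.Geo.IsUnitaryFormPow q f₁ ∧ Cfsg.Geo.IsUnitaryFormPow q f₂ ∧ Cfsg.Geo.IsTensorFormStructure (fun x : F => x ^ q) (Cfsg.hermForm 6 F q) f₁ f₂ e P ∧ H = Cfsg.Geo.tensorProductSubgroup 2 3 e P ⊓ (Cfsg.GU 6 F q ⊓ Cfsg.Geo.specialLinear (Fin 6) F)) ∨
    (∃ (F₀ : Subfield F) (r : ℕ) (P : Matrix.GeneralLinearGroup (Fin 6) F), r.Prime ∧ Odd r ∧ Fintype.card F = Nat.card F₀ ^ r ∧ Cfsg.Geo.IsFormRationalStructure (Cfsg.hermForm 6 F q) F₀ 1 P ∧ H = Cfsg.Geo.subfieldSubgroup F₀ P ⊓ (Cfsg.GU 6 F q ⊓ Cfsg.Geo.specialLinear (Fin 6) F)) ∨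
    (∃ (F₀ : Subfield F) (P : Matrix.GeneralLinearGroup (Fin 6) F) (ζ : F), Fintype.card F = Nat.card F₀ ^ 2 ∧ ζ ≠ 0 ∧ ζ + ζ ^ q = 0 ∧ Cfsg.Geo.IsFormRationalStructure (Cfsg.hermForm 6 F q) F₀ ζ P ∧ (∀ u : Fin 6 → F, (∀ i, u i ∈ F₀) → (Cfsg.hermForm 6 F q) (Matrix.mulVec (P : Matrix (Fin 6) (Fin 6) F) u) (Matrix.mulVec (P : Matrix (Fin 6) (Fin 6) F) u) = 0) ∧ H = Cfsg.Geo.subfieldSubgroup F₀ P ⊓ (Cfsg.GU 6 F q ⊓ Cfsg.Geo.specialLinear (Fin 6) F)) ∨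
    (Odd q ∧ ∃ (F₀ : Subfield F) (P : Matrix.GeneralLinearGroup (Fin 6) F), Fintype.card F = Nat.card F₀ ^ 2 ∧ Cfsg.Geo.IsFormRationalStructure (Cfsg.hermForm 6 F q) F₀ 1 P ∧ H = Cfsg.Geo.subfieldSubgroup F₀ P ⊓ (Cfsg.GU 6 F q ⊓ Cfsg.Geo.specialLinear (Fin 6) F)) ∨
    Cfsg.Geo.InUnitaryResidualClass H := by
  rcases normal_form (by norm_num) hE hA H hH with ⟨M, hM, hHM⟩ | hres
  swap
  · exact Or.inr (Or.inr (Or.inr (Or.inr (Or.inr (Or.inr (Or.inr (Or.inr (Or.inr (Or.inr (Or.inr hres))))))))))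
  simp only [InUnitaryClass, InUnitaryPartialClass] at hM
  rcases hM with (⟨W, hW0, hWts, rfl⟩ | ⟨W, hW0, hWnd, hWlt, rfl⟩ | ⟨t, k, D, hD, rfl⟩ |
      ⟨k, D, hk, hD, hts, rfl⟩ | ⟨F₀, r, P, hr, hodd, hcard, hfrs, rfl⟩ | ⟨F₀, P, hq, hcard, hfrs, rfl⟩ |
      ⟨F₀, P, ζ, heven, hcard, hζ0, hζ, hfrs, halt, rfl⟩ |
      ⟨r, R, p, e, k, hR, hirr, hsim, hrp, hmin, hcase, rfl⟩) |
    ⟨r, K, hr, hodd, hK, hadj, rfl⟩ | ⟨n₁, n₂, e, P, f₁, f₂, h1, h2, hf₁, hf₂, hT, rfl⟩ |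
    ⟨k, t, e, P, f₁, hk, ht, hqk, hf₁, hstr, rfl⟩
  · exact Or.inl ⟨W, hW0, hWts, by rw [hHM, inf_assoc]⟩
  · exact Or.inr (Or.inl ⟨W, hW0, hWnd, hWlt, by rw [hHM, inf_assoc]⟩)
  · -- nondegenerate decomposition
    have htm : t * k = 6 := Cfsg.Agent.Lib.Helper98_Decomp.card_eq hD.decomp
    rcases mul_eq_six hD.decomp.two_le htm with ⟨rfl, rfl⟩ | ⟨rfl, rfl⟩ | ⟨rfl, rfl⟩
    · by_cases hq3 : 3 ≤ q
      · exact Or.inr (Or.inr (Or.inl ⟨hq3, D, hD, by rw [hHM, inf_assoc]⟩))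
      · exfalso
        obtain rfl := q_eq_two hF hq3
        apply hE6a rfl D hD
        have : H = decompositionStabilizer D ⊓ (Cfsg.GU 6 F 2 ⊓ specialLinear (Fin 6) F) := by
          rw [hHM, inf_assoc]
        rw [← this]
        exact hH
    · by_cases hq3 : 3 ≤ q
      · exact Or.inr (Or.inr (Or.inr (Or.inl ⟨hq3, D, hD, by rw [hHM, inf_assoc]⟩)))
      · exfalso
        obtain rfl := q_eq_two hF hq3
        obtain ⟨D', hD', hH'⟩ := decomp_two_refine hF hE hH hD hHM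
        apply hE6a rfl D' hD'
        rw [← hH']
        exact hH
    · exact Or.inr (Or.inr (Or.inr (Or.inr (Or.inl ⟨D, hD, by rw [hHM, inf_assoc]⟩))))
  · -- totally singular pair
    obtain rfl : k = 3 := by omega
    exact Or.inr (Or.inr (Or.inr (Or.inr (Or.inr (Or.inl ⟨D, hD, hts, by rw [hHM, inf_assoc]⟩)))))
  · exact Or.inr (Or.inr (Or.inr (Or.inr (Or.inr (Or.inr (Or.inr (Or.inr (Or.inl
      ⟨F₀, r, P, hr, hodd, hcard, hfrs, by rw [hHM, inf_assoc]⟩))))))))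
  · exact Or.inr (Or.inr (Or.inr (Or.inr (Or.inr (Or.inr (Or.inr (Or.inr (Or.inr (Or.inr (Or.inl
      ⟨hq, F₀, P, hcard, hfrs, by rw [hHM, inf_assoc]⟩))))))))))
  · exact Or.inr (Or.inr (Or.inr (Or.inr (Or.inr (Or.inr (Or.inr (Or.inr (Or.inr (Or.inl
      ⟨F₀, P, ζ, hcard, hζ0, hζ, hfrs, halt, by rw [hHM, inf_assoc]⟩)))))))))
  · -- class 6: impossible
    exfalso
    have hdim := c6_dim_pow (by norm_num : 0 < 6) hR hirr hcase
    exact not_prime_pow hR.prime hdim Nat.prime_two Nat.prime_three (by norm_num) (by norm_num) (by norm_num)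
  · -- extension field
    have hr6 : r ∣ 6 := Cfsg.Agent.Lib.Helper30_AschMax.dvd_of_isFieldSubalgebra (by norm_num) hK
    have hr3 : r = 3 := by
      have h4 : r ∣ 2 * 3 := hr6
      rcases (Nat.Prime.dvd_mul hr).mp h4 with h | h
      · have := (Nat.prime_dvd_prime_iff_eq hr Nat.prime_two).1 h
        subst this
        exact absurd hodd (by decide)
      · exact (Nat.prime_dvd_prime_iff_eq hr Nat.prime_three).1 h
    subst hr3
    by_cases hq3 : 3 ≤ q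
    · exact Or.inr (Or.inr (Or.inr (Or.inr (Or.inr (Or.inr (Or.inl ⟨hq3, K, hK, hadj, by rw [hHM, inf_assoc]⟩))))))
    · obtain rfl := q_eq_two hF hq3
      obtain ⟨F₀, P, hcard, hfrs, halt, hle⟩ := hE6c rfl K hK hadj
      have hF₀ : F₀ ≠ ⊤ := by
        rintro rfl
        have h1 : Nat.card (⊤ : Subfield F) = Fintype.card F := by
          rw [← Nat.card_eq_fintype_card]
          exact Nat.card_congr Subfield.topEquiv.toEquiv
        rw [h1, hF] at hcard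
        norm_num at hcard
      have hHP : H = subfieldSubgroup F₀ P ⊓ (Cfsg.GU 6 F 2 ⊓ specialLinear (Fin 6) F) := by
        rw [← inf_assoc]
        apply eq_inf_of_le hH _ (hE.subf F₀ hF₀ P)
        rw [hHM]
        refine le_inf ?_ (inf_le_left.trans inf_le_right)
        refine le_trans ?_ hle
        rw [← inf_assoc]
      have h2 : (2 : F) = 0 := Cfsg.Agent.Lib.Helper4_SUFrameTwo.two_eq_zero hF
      exact Or.inr (Or.inr (Or.inr (Or.inr (Or.inr (Or.inr (Or.inr (Or.inr (Or.inr (Or.inl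
        ⟨F₀, P, 1, hcard, one_ne_zero, by rw [one_pow]; linear_combination h2, hfrs, halt, hHP⟩)))))))))
  · -- tensor product
    have hcard : 6 = n₁ * n₂ := by
      have := Fintype.card_congr e
      simpa using this
    obtain ⟨rfl, rfl⟩ : n₁ = 2 ∧ n₂ = 3 := by
      have h3 : n₁ ≤ 6 := Nat.le_of_dvd (by norm_num) ⟨n₂, hcard⟩
      have h4 : n₂ ≤ 6 := Nat.le_of_dvd (by norm_num) ⟨n₁, by rw [hcard, mul_comm]⟩
      interval_cases n₁ <;> interval_cases n₂ <;> omega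
    by_cases hq3 : 3 ≤ q
    · exact Or.inr (Or.inr (Or.inr (Or.inr (Or.inr (Or.inr (Or.inr (Or.inl
        ⟨hq3, e, P, f₁, f₂, hf₁, hf₂, hT, by rw [hHM, inf_assoc]⟩)))))))
    · exfalso
      obtain rfl := q_eq_two hF hq3
      exact tensor_two_false hF (by norm_num) hH e P f₁ f₂ hf₁ hf₂ hT hHM
  · -- tensor wreath: impossible
    exfalso
    have hcard : 6 = k ^ t := by
      have := Fintype.card_congr e
      simpa using this
    have h1 : k ^ 2 ≤ k ^ t := Nat.pow_le_pow_right (by omega) ht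
    nlinarith


end Cfsg.Agent.Lib.Helper27_SURow6b
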