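import Mathlib
import Cfsg.Agent.Lib.Helper85_Sp2Defs
import Cfsg.Agent.Lib.Helper85_Sp2Basic
import Cfsg.Prelude.Def_Classical

set_option autoImplicit false
set_option linter.unusedSectionVars false

/-!
# S2142 package FIXF (architect helper85): every element of a group acting on a symplectic
`F₂`-space fixes a quadratic form polarizing to `β`.
-/

namespace Cfsg.Agent.Lib.Helper27_Sp2_FIXF

open Cfsg.Agent.Lib.Helper85_Sp2Defs Cfsg.Agent.Lib.Helper85_Sp2Basic

variable {𝒢 : Type*} {F : Type*} {U : Type*} [Group 𝒢] [Field F] [Fintype F]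
  [AddCommGroup U] [Module F U] [Fintype U]

/-- the linear map `u ↦ u + g u` -/
noncomputable def onePlus (hF : Fintype.card F = 2) (D : SpAct 𝒢 F U) (g : 𝒢) : U →ₗ[F] U where
  toFun u := u + D.ρ g u
  map_add' x y := by
    rw [map_add]; abel
  map_smul' a x := by
    rw [RingHom.id_apply, rho_smul hF D g a x, smul_add]

theorem onePlus_apply (hF : Fintype.card F = 2) (D : SpAct 𝒢 F U) (g : 𝒢) (u : U) :
    onePlus hF D g u = u + D.ρ g u := rfl

theorem nondeg_beta (hF : Fintype.card F = 2) (D : SpAct 𝒢 F U) : D.β.Nondegenerate := by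
  refine ⟨fun x hx => D.nondeg x hx, fun y hy => D.nondeg y (fun x => ?_)⟩
  rw [beta_symm hF D y x]
  exact hy x

theorem isRefl_beta (hF : Fintype.card F = 2) (D : SpAct 𝒢 F U) : D.β.IsRefl := by
  intro x y h
  rw [beta_symm hF D y x]
  exact h

theorem exists_fixed_form (hF : Fintype.card F = 2) (D : SpAct 𝒢 F U)
    (hdiff : ∀ Q Q' : QF D.β, ∃ u : U, ∀ x, Q'.1 x = Q.1 x + D.β x u)
    (hQF : Nonempty (QF D.β)) (g : 𝒢) :
    ∃ Q : QF D.β, D.FixesQ g Q := by
  classical
  obtain ⟨Q₀⟩ := hQF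
  have : FiniteDimensional F U := Module.Finite.of_finite
  -- the moved form
  let Q₁ : QF D.β := (letI := D.qfAct; g • Q₀)
  have hQ₁ : ∀ x, Q₁.1 x = Q₀.1 (D.ρ g⁻¹ x) := fun x => rfl
  obtain ⟨c, hc⟩ := hdiff Q₀ Q₁
  -- key: Q₀ (g x) = Q₀ x + β (g x) c
  have hkey : ∀ x, Q₀.1 (D.ρ g x) = Q₀.1 x + D.β (D.ρ g x) c := by
    intro x
    have h1 := hc (D.ρ g x)
    rw [hQ₁, D.rho_inv_apply] at h1
    -- h1 : Q₀ x = Q₀ (g x) + β (g x) c
    rw [h1, add_assoc, F2_add_self hF, add_zero]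
  let T := onePlus hF D g
  let R : Submodule F U := LinearMap.range T
  -- c ∈ R^⊥⊥
  have hcmem : c ∈ D.β.orthogonal (D.β.orthogonal R) := by
    rw [LinearMap.BilinForm.mem_orthogonal_iff]
    intro n hn
    -- n is fixed by g
    have hnfix : D.ρ g n = n := by
      have h0 : ∀ u, D.β u (n + D.ρ g⁻¹ n) = 0 := by
        intro u
        have h2 : D.β (T u) n = 0 := by
          have := (LinearMap.BilinForm.mem_orthogonal_iff.mp hn) (T u) ⟨u, rfl⟩
          exact this
        have h3 : D.β (D.ρ g u) n = D.β u (D.ρ g⁻¹ n) := by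
          have := D.pres g u (D.ρ g⁻¹ n)
          rw [D.rho_apply_inv] at this
          exact this
        rw [map_add, ← h3]
        have : D.β (T u) n = D.β u n + D.β (D.ρ g u) n := by
          show D.β (u + D.ρ g u) n = _
          rw [map_add, LinearMap.add_apply]
        rw [← this, h2]
      have h4 : n + D.ρ g⁻¹ n = 0 := by
        apply D.nondeg
        intro y
        rw [beta_symm hF D]
        exact h0 y
      have h5 : D.ρ g⁻¹ n = n := by
        have : D.ρ g⁻¹ n = -n := eq_neg_of_add_eq_zero_right h4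
        rw [this]
        exact neg_eq_of_add_eq_zero_left (D.two n)
      calc D.ρ g n = D.ρ g (D.ρ g⁻¹ n) := by rw [h5]
        _ = n := D.rho_apply_inv g n
    show D.β n c = 0
    have h6 := hkey n
    rw [hnfix] at h6
    -- Q₀ n = Q₀ n + β n c
    have : Q₀.1 n + D.β n c = Q₀.1 n + 0 := by rw [← h6, add_zero]
    exact add_left_cancel this
  rw [LinearMap.BilinForm.orthogonal_orthogonal (nondeg_beta hF D) (isRefl_beta hF D)] at hcmem
  obtain ⟨u, hu⟩ := hcmem
  have hu' : u + D.ρ g u = c := hu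
  refine ⟨translate D Q₀ u, ?_⟩
  intro x
  rw [Helper85_Sp2Basic.translate_apply, Helper85_Sp2Basic.translate_apply, hkey x, ← hu']
  have h7 : D.β (D.ρ g x) (D.ρ g u) = D.β x u := D.pres g x u
  rw [map_add, h7]
  -- Q₀ x + (β (g x) u + β x u) + β (g x) u = Q₀ x + β x u
  have h8 := F2_add_self hF (D.β (D.ρ g x) u)
  calc Q₀.1 x + (D.β (D.ρ g x) u + D.β x u) + D.β (D.ρ g x) u
      = Q₀.1 x + D.β x u + (D.β (D.ρ g x) u + D.β (D.ρ g x) u) := by ring
    _ = Q₀.1 x + D.β x u := by rw [h8, add_zero]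

end Cfsg.Agent.Lib.Helper27_Sp2_FIXF
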