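import Mathlib
import Cfsg.Agent.Lib.Helper85_Sp2Defs
import Cfsg.Agent.Lib.Helper85_Sp2Basic
import Cfsg.Prelude.Def_Classical

set_option autoImplicit false
set_option linter.unusedSectionVars false
set_option linter.unusedSimpArgs false

/-!
# S2142 package PAR1 (architect helper85): Heisenberg parametrization of `Qrad v`.
-/

namespace Cfsg.Agent.Lib.Helper27_Sp2_PAR1

open Cfsg.Agent.Lib.Helper85_Sp2Defs Cfsg.Agent.Lib.Helper85_Sp2Basic

variable {𝒢 : Type*} {F : Type*} {U : Type*} [Group 𝒢] [Field F] [Fintype F]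
  [AddCommGroup U] [Module F U] [Fintype U]

/-- the element with parameters `(w, 1)` -/
theorem exists_elt_one (hF : Fintype.card F = 2) (D : SpAct 𝒢 F U) (htr : D.HasTransv)
    (v vs : U) (w : ↥(D.WSub v vs)) :
    ∃ g : 𝒢, ∀ x, D.ρ g x = x + D.β x v • (w : U) + D.β x (w : U) • v + D.β x v • v := by
  obtain ⟨t₁, ht₁⟩ := htr (w : U)
  obtain ⟨t₂, ht₂⟩ := htr ((w : U) + v)
  have hwv : D.β (w : U) v = 0 := w.2.1
  have hvw : D.β v (w : U) = 0 := by rw [beta_symm hF D]; exact hwv
  refine ⟨t₁ * t₂, fun x => ?_⟩
  rw [D.rho_mul_apply, ht₂ x, ht₁]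
  simp only [map_add, LinearMap.add_apply, map_smul, LinearMap.smul_apply, smul_eq_mul, D.alt,
    hvw, add_zero, mul_zero]
  linear_combination (norm := module) (D.β x (w : U)) • D.two (w : U)

/-- the element with parameters `(w, t)` -/
theorem exists_elt (hF : Fintype.card F = 2) (D : SpAct 𝒢 F U) (htr : D.HasTransv)
    (v vs : U) (w : ↥(D.WSub v vs)) (t : F) :
    ∃ g : 𝒢, ∀ x, D.ρ g x = x + D.β x v • (w : U) + D.β x (w : U) • v + (t * D.β x v) • v := by
  obtain ⟨g₁, hg₁⟩ := exists_elt_one hF D htr v vs w
  have hwv : D.β (w : U) v = 0 := w.2.1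
  have hvw : D.β v (w : U) = 0 := by rw [beta_symm hF D]; exact hwv
  rcases F2_cases hF t with rfl | rfl
  · obtain ⟨t₃, ht₃⟩ := htr v
    refine ⟨g₁ * t₃, fun x => ?_⟩
    rw [D.rho_mul_apply, ht₃ x, hg₁]
    simp only [map_add, LinearMap.add_apply, map_smul, LinearMap.smul_apply, smul_eq_mul, D.alt,
      hvw, add_zero, mul_zero, zero_mul, zero_smul]
    linear_combination (norm := module) (D.β x v) • D.two v
  · refine ⟨g₁, fun x => ?_⟩
    rw [hg₁, one_mul]

theorem exists_param (hF : Fintype.card F = 2) (D : SpAct 𝒢 F U)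
    (hinj : Function.Injective D.ρ) (htr : D.HasTransv) (v vs : U) (hvs : D.β v vs = 1) :
    ∃ γ : ↥(D.WSub v vs) × F → 𝒢, D.IsParam v vs γ := by
  classical
  have hsv : D.β vs v = 1 := by rw [beta_symm hF D]; exact hvs
  let γ : ↥(D.WSub v vs) × F → 𝒢 := fun p => Classical.choose (exists_elt hF D htr v vs p.1 p.2)
  have hγ : ∀ (w : ↥(D.WSub v vs)) (t : F) (x : U),
      D.ρ (γ (w, t)) x = x + D.β x v • (w : U) + D.β x (w : U) • v + (t * D.β x v) • v :=
    fun w t => Classical.choose_spec (exists_elt hF D htr v vs w t)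
  refine ⟨γ, hγ, fun g => ⟨fun hg => ?_, ?_⟩⟩
  · -- every element of Qrad v is some γ (w, t)
    rw [D.mem_Qrad] at hg
    obtain ⟨hgv, hgx⟩ := hg
    set y : U := D.ρ g vs + vs with hy
    have hyv : D.β y v = 0 := by
      have h1 : D.β (D.ρ g vs) v = 1 := by
        have := D.pres g vs v
        rw [hgv] at this
        rw [this, hsv]
      rw [hy, map_add, LinearMap.add_apply, h1, hsv]
      exact F2_add_self hF 1
    set a : F := D.β y vs with ha
    have hwmem : y + a • v ∈ D.WSub v vs := by
      rw [D.mem_WSub]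
      refine ⟨?_, ?_⟩
      · rw [map_add, LinearMap.add_apply, hyv, map_smul, LinearMap.smul_apply, D.alt, smul_zero,
          add_zero]
      · rw [map_add, LinearMap.add_apply, map_smul, LinearMap.smul_apply, hvs, smul_eq_mul,
          mul_one, ← ha]
        exact F2_add_self hF a
    let w : ↥(D.WSub v vs) := ⟨y + a • v, hwmem⟩
    have hwv : D.β (w : U) v = 0 := w.2.1
    have hws : D.β (w : U) vs = 0 := w.2.2
    have hvw : D.β v (w : U) = 0 := by rw [beta_symm hF D]; exact hwv
    have hsw : D.β vs (w : U) = 0 := by rw [beta_symm hF D]; exact hws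
    -- g vs = vs + w + a v
    have hgvs : D.ρ g vs = vs + (w : U) + a • v := by
      show D.ρ g vs = vs + (y + a • v) + a • v
      have h2 : a • v + a • v = 0 := D.two (a • v)
      have h3 : vs + vs = 0 := D.two vs
      rw [hy]
      linear_combination (norm := module) (-1 : F) • h2 - (1 : F) • h3
    refine ⟨w, a, hinj ?_⟩
    -- the two endomorphisms agree
    have hagree : ∀ x, D.ρ g x = D.ρ (γ (w, a)) x := by
      -- on W
      have hW : ∀ x' : U, D.β x' v = 0 → D.β x' vs = 0 →
          D.ρ g x' = x' + D.β x' (w : U) • v := by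
        intro x' hx'v hx's
        have hpres : D.β (D.ρ g x') (D.ρ g vs) = 0 := by rw [D.pres, hx's]
        rcases hgx x' hx'v with h | h
        · rw [h, hgvs] at hpres
          simp only [map_add, LinearMap.add_apply, map_smul, LinearMap.smul_apply, smul_eq_mul,
            hx's, hx'v, mul_zero, add_zero, zero_add] at hpres
          rw [h, hpres, zero_smul, add_zero]
        · rw [h, hgvs] at hpres
          simp only [map_add, LinearMap.add_apply, map_smul, LinearMap.smul_apply, smul_eq_mul,
            hx's, hx'v, mul_zero, add_zero, zero_add, hvs, hvw, D.alt] at hpres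
          -- hpres : β x' w + 1 = 0
          have : D.β x' (w : U) = 1 := by
            have h4 : D.β x' (w : U) = -1 := eq_neg_of_add_eq_zero_right hpres
            rw [h4]; exact F2_neg hF 1
          rw [h, this, one_smul]
      intro x
      -- decompose x
      set b : F := D.β x vs with hb
      set c : F := D.β x v with hc
      set x' : U := x + b • v + c • vs with hx'
      have hx'v : D.β x' v = 0 := by
        rw [hx', map_add, map_add, LinearMap.add_apply, LinearMap.add_apply, map_smul, map_smul,
          LinearMap.smul_apply, LinearMap.smul_apply, D.alt, hsv, smul_zero, add_zero, smul_eq_mul,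
          mul_one, ← hc]
        exact F2_add_self hF c
      have hx's : D.β x' vs = 0 := by
        rw [hx', map_add, map_add, LinearMap.add_apply, LinearMap.add_apply, map_smul, map_smul,
          LinearMap.smul_apply, LinearMap.smul_apply, D.alt, hvs, smul_zero, add_zero, smul_eq_mul,
          mul_one, ← hb]
        exact F2_add_self hF b
      have hxdec : x = x' + b • v + c • vs := by
        rw [hx']
        have h5 := D.two (b • v)
        have h6 := D.two (c • vs)
        linear_combination (norm := module) (-1 : F) • h5 - (1 : F) • h6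
      have hlin : ∀ (f : AddMonoid.End U), (∀ (r : F) (z : U), f (r • z) = r • f z) →
          f x = f x' + b • f v + c • f vs := by
        intro f hf
        conv_lhs => rw [hxdec]
        rw [map_add, map_add, hf, hf]
      rw [hlin (D.ρ g) (fun r z => rho_smul hF D g r z),
        hlin (D.ρ (γ (w, a))) (fun r z => rho_smul hF D _ r z)]
      rw [hW x' hx'v hx's, hgv, hgvs, hγ, hγ, hγ]
      simp only [hx'v, hvw, hsw, hsv, D.alt, zero_smul, add_zero, mul_zero, mul_one, one_smul]
    exact DFunLike.ext _ _ hagree
  · rintro ⟨w, t, rfl⟩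
    have hwv : D.β (w : U) v = 0 := w.2.1
    have hvw : D.β v (w : U) = 0 := by rw [beta_symm hF D]; exact hwv
    rw [D.mem_Qrad]
    refine ⟨?_, fun x hx => ?_⟩
    · rw [hγ]
      simp only [D.alt, hvw, zero_smul, add_zero, mul_zero]
    · rw [hγ, hx]
      simp only [zero_smul, add_zero, mul_zero]
      rcases F2_cases hF (D.β x (w : U)) with h | h
      · left; rw [h, zero_smul, add_zero]
      · right; rw [h, one_smul]

end Cfsg.Agent.Lib.Helper27_Sp2_PAR1
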