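import Mathlib
import Cfsg.Agent.Lib.Helper40_Semisimple

/-!
# Dimension of the `w`-primary part of a semisimple endomorphism (package P2 of helper99, S5955)

If `φ` is semisimple with characteristic polynomial `w ^ a * g`, `w` irreducible and coprime to
`g`, then `ker w(φ)` has dimension at most `deg w * a`.
-/

set_option autoImplicit false

namespace Cfsg.Agent.Lib.Helper78_KerAevalDim

open Polynomial Module

/-- restriction commutes with polynomial evaluation -/
theorem aeval_restrict_apply {F : Type*} [Field F] {V : Type*} [AddCommGroup V] [Module F V]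
    (φ : Module.End F V) {K : Submodule F V} (hK : ∀ x ∈ K, φ x ∈ K) (f : F[X]) (v : K) :
    ((aeval (φ.restrict hK) f v : K) : V) = aeval φ f (v : V) := by
  induction f using Polynomial.induction_on' with
  | add p q hp hq => simp only [map_add, LinearMap.add_apply, Submodule.coe_add, hp, hq]
  | monomial n c =>
    simp only [aeval_monomial, Module.algebraMap_end_apply, Module.End.mul_apply,
      LinearMap.smul_apply, Module.algebraMap_end_eq_smul_id, LinearMap.id_coe, id_eq,
      Submodule.coe_smul]
    congr 1
    induction n generalizing v with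
    | zero => simp
    | succ n ih =>
      rw [pow_succ, pow_succ, Module.End.mul_apply, Module.End.mul_apply, ih]
      rfl

theorem finrank_ker_aeval_le {F : Type*} [Field F] {V : Type*} [AddCommGroup V] [Module F V]
    [FiniteDimensional F V] (φ : Module.End F V) (hss : φ.IsSemisimple)
    (w g : F[X]) (hw : Irreducible w) (a : ℕ) (hcop : IsCoprime w g)
    (hχ : φ.charpoly = w ^ a * g) :
    finrank F (LinearMap.ker (aeval φ w)) ≤ w.natDegree * a := by
  classical
  set K : Submodule F V := LinearMap.ker (aeval φ w) with hK
  have hKinv : ∀ x ∈ K, φ x ∈ K := by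
    intro x hx
    rw [hK, LinearMap.mem_ker] at hx ⊢
    have h1 : aeval φ w (φ x) = (aeval φ (w * X)) x := by
      rw [map_mul, aeval_X, Module.End.mul_apply]
    have h2 : (aeval φ (w * X)) x = φ (aeval φ w x) := by
      rw [mul_comm, map_mul, aeval_X, Module.End.mul_apply]
    rw [h1, h2, hx, map_zero]
  have hKmem : K ∈ φ.invtSubmodule := by
    rw [Module.End.mem_invtSubmodule]
    intro x hx
    exact hKinv x hx
  obtain ⟨K', hK'mem, hcompl⟩ := Module.End.isSemisimple_iff.1 hss K hKmem
  have hK'inv : ∀ x ∈ K', φ x ∈ K' := by
    intro x hx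
    exact (Module.End.mem_invtSubmodule φ).1 hK'mem hx
  have hchar := Cfsg.Agent.Lib.Helper40_Semisimple.charpoly_eq_mul_of_isCompl φ K K' hKinv hK'inv
    hcompl
  set ψ : Module.End F K := φ.restrict hKinv with hψ
  -- every irreducible factor of `ψ.charpoly` is associated to `w`
  have key : ∀ f : F[X], Irreducible f → f ∣ ψ.charpoly → Associated f w := by
    intro f hf hfd
    obtain ⟨v, hv0, hv⟩ :=
      Cfsg.Agent.Lib.Helper40_Semisimple.exists_ne_zero_aeval_eq_zero ψ f hf hfd
    have hwv : aeval ψ w v = 0 := by
      apply Subtype.ext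
      rw [aeval_restrict_apply φ hKinv w v]
      have h0 : (v : V) ∈ LinearMap.ker (aeval φ w) := v.2
      rw [LinearMap.mem_ker] at h0
      rw [h0]
      rfl
    by_contra hna
    have hcop' : IsCoprime f w :=
      (hf.coprime_iff_not_dvd).2 (fun hdvd => hna (hf.associated_of_dvd hw hdvd))
    obtain ⟨a', b', hab⟩ := hcop'
    have h1 : aeval ψ (a' * f + b' * w) v = v := by
      rw [hab, map_one, Module.End.one_apply]
    rw [map_add, map_mul, map_mul, LinearMap.add_apply, Module.End.mul_apply,
      Module.End.mul_apply, hv, hwv, map_zero, map_zero, add_zero] at h1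
    exact hv0 h1.symm
  have hψ0 : ψ.charpoly ≠ 0 := (LinearMap.charpoly_monic ψ).ne_zero
  set s := UniqueFactorizationMonoid.normalizedFactors ψ.charpoly with hs
  have hsrep : s = Multiset.replicate (Multiset.card s) (normalize w) := by
    rw [Multiset.eq_replicate]
    refine ⟨rfl, ?_⟩
    intro b hb
    have hbirr := UniqueFactorizationMonoid.irreducible_of_normalized_factor b hb
    have hbd := UniqueFactorizationMonoid.dvd_of_mem_normalizedFactors hb
    have hbn := UniqueFactorizationMonoid.normalize_normalized_factor b hb
    rw [← hbn]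
    exact normalize_eq_normalize_iff.2 ⟨(key b hbirr hbd).dvd, (key b hbirr hbd).symm.dvd⟩
  set j := Multiset.card s with hj
  have hassoc : Associated ((normalize w) ^ j) ψ.charpoly := by
    have := UniqueFactorizationMonoid.prod_normalizedFactors hψ0
    rw [← hs, hsrep, Multiset.prod_replicate] at this
    exact this
  have hassoc' : Associated (w ^ j) ψ.charpoly :=
    ((normalize_associated w).symm.pow_pow).trans hassoc
  have hdeg : finrank F K = j * w.natDegree := by
    have h1 : ψ.charpoly.natDegree = finrank F K := LinearMap.charpoly_natDegree ψ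
    have h2 : (w ^ j).natDegree = ψ.charpoly.natDegree :=
      natDegree_eq_of_degree_eq (degree_eq_degree_of_associated hassoc')
    rw [← h1, ← h2, natDegree_pow]
  have hjle : j ≤ a := by
    have h1 : w ^ j ∣ w ^ a * g := by
      rw [← hχ, hchar]
      exact hassoc'.dvd.trans (dvd_mul_right _ _)
    have h2 : w ^ j ∣ w ^ a := (hcop.pow_left).dvd_of_dvd_mul_right h1
    exact (pow_dvd_pow_iff hw.ne_zero hw.not_isUnit).1 h2
  rw [hdeg, mul_comm]
  exact Nat.mul_le_mul_left _ hjle

end Cfsg.Agent.Lib.Helper78_KerAevalDim
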