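import Mathlib
import Cfsg.Agent.Lib.Helper99_SpTI
import Cfsg.Agent.Lib.Helper78_KerAevalDim

set_option autoImplicit false

/-!
Package P4 for S5955 (helper99): the dimension of an invariant totally isotropic subspace of an
isometry of odd prime order `r` (with `ord_r(q)` even) is bounded in terms of the characteristic
polynomial.
-/

namespace Cfsg.Agent.Lib.Helper75_SpTIBound

open Polynomial Module Cfsg.Agent.Lib.Helper40_SpBasic

section General

variable {F : Type*} [Field F] {V : Type*} [AddCommGroup V] [Module F V]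

/-- kernels of polynomials in `T` are invariant -/
theorem inv_ker_aeval (T : Module.End F V) (f : F[X]) : Inv T (LinearMap.ker (aeval T f)) := by
  intro x hx
  rw [LinearMap.mem_ker] at hx ⊢
  have h1 : aeval T f (T x) = (aeval T (f * X)) x := by
    rw [map_mul, aeval_X, Module.End.mul_apply]
  have h2 : (aeval T (f * X)) x = T (aeval T f x) := by
    rw [mul_comm, map_mul, aeval_X, Module.End.mul_apply]
  rw [h1, h2, hx, map_zero]

theorem isCoprime_of_irreducible_ne {f g : F[X]} (hf : Irreducible f) (hfm : f.Monic)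
    (hg : Irreducible g) (hgm : g.Monic) (hne : f ≠ g) : IsCoprime f g := by
  rw [hf.coprime_iff_not_dvd]
  intro hdvd
  exact hne (eq_of_monic_of_associated hfm hgm (hf.associated_of_dvd hg hdvd))

/-- Bezout splitting inside an invariant subspace -/
theorem mem_sup_of_coprime {T : Module.End F V} {W : Submodule F V} (hW : Inv T W) {f g : F[X]}
    (hfg : IsCoprime f g) {x : V} (hxW : x ∈ W) (hx : aeval T (f * g) x = 0) :
    x ∈ (W ⊓ LinearMap.ker (aeval T f)) ⊔ (W ⊓ LinearMap.ker (aeval T g)) := by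
  obtain ⟨a, b, hab⟩ := hfg
  have h1 : x = aeval T (b * g) x + aeval T (a * f) x := by
    rw [← LinearMap.add_apply, ← map_add, add_comm, hab, map_one, Module.End.one_apply]
  rw [h1]
  refine Submodule.add_mem_sup (Submodule.mem_inf.2 ⟨hW.aeval_mem _ hxW, ?_⟩)
    (Submodule.mem_inf.2 ⟨hW.aeval_mem _ hxW, ?_⟩)
  · rw [LinearMap.mem_ker, ← Module.End.mul_apply, ← map_mul]
    have h2 : f * (b * g) = b * (f * g) := by ring
    rw [h2, map_mul, Module.End.mul_apply, hx, map_zero]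
  · rw [LinearMap.mem_ker, ← Module.End.mul_apply, ← map_mul]
    have h2 : g * (a * f) = a * (f * g) := by ring
    rw [h2, map_mul, Module.End.mul_apply, hx, map_zero]

/-- a vector killed by a product of polynomials yields a nonzero vector killed by one factor -/
theorem exists_factor_vec (T : Module.End F V) {W : Submodule F V} (hW : Inv T W)
    (S : Finset F[X]) : ∀ v ∈ W, v ≠ 0 → aeval T (∏ w ∈ S, w) v = 0 →
      ∃ w ∈ S, ∃ v' ∈ W, v' ≠ 0 ∧ aeval T w v' = 0 := by
  classical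
  induction S using Finset.induction_on with
  | empty =>
    intro v _ hv0 h
    rw [Finset.prod_empty, map_one, Module.End.one_apply] at h
    exact absurd h hv0
  | insert a S ha ih =>
    intro v hvW hv0 h
    rw [Finset.prod_insert ha, map_mul, Module.End.mul_apply] at h
    by_cases h0 : aeval T (∏ w ∈ S, w) v = 0
    · obtain ⟨w, hw, v', hv', h1, h2⟩ := ih v hvW hv0 h0
      exact ⟨w, Finset.mem_insert_of_mem hw, v', hv', h1, h2⟩
    · exact ⟨a, Finset.mem_insert_self a S, _, hW.aeval_mem _ hvW, h0, h⟩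

/-- the kernel of a self-reciprocal irreducible factor of `X ^ r - 1` is nondegenerate -/
theorem ndOn_ker_aeval {B : LinearMap.BilinForm F V} {T : Module.End F V} {r : ℕ}
    (hiso : IsoData B T r) (hB : B.Nondegenerate) (hrF : ((r : ℕ) : F) ≠ 0) {w : F[X]}
    (hwi : Irreducible w) (hwd : w ∣ X ^ r - 1) (hexp : w ∣ expand F (r - 1) w) :
    NDOn B (LinearMap.ker (aeval T w)) := by
  obtain ⟨g, hg⟩ := hwd
  have hsq : Squarefree (X ^ r - 1 : F[X]) := (X_pow_sub_one_separable_iff.2 hrF).squarefree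
  have hcop : IsCoprime w g := by
    rw [hwi.coprime_iff_not_dvd]
    rintro ⟨k, rfl⟩
    have h1 : w * w ∣ X ^ r - 1 := ⟨k, by rw [hg]; ring⟩
    exact hwi.not_isUnit (hsq w h1)
  obtain ⟨a, b, hab⟩ := hcop
  have hann : aeval T (w * g) = 0 := by
    rw [← hg, map_sub, map_pow, aeval_X, map_one, hiso.pow, sub_self]
  obtain ⟨k, hk⟩ := hexp
  intro x hx hxy
  rw [LinearMap.mem_ker] at hx
  apply hB.1 x
  intro v
  have hv : v = aeval T (b * g) v + aeval T (w * a) v := by
    have h1 : b * g + w * a = 1 := by rw [← hab]; ring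
    rw [← LinearMap.add_apply, ← map_add, h1, map_one, Module.End.one_apply]
  rw [hv, map_add]
  have h1 : B x (aeval T (b * g) v) = 0 := by
    apply hxy
    rw [LinearMap.mem_ker, ← Module.End.mul_apply, ← map_mul]
    have h2 : w * (b * g) = b * (w * g) := by ring
    rw [h2, map_mul, hann, mul_zero, LinearMap.zero_apply]
  have h2 : B x (aeval T (w * a) v) = 0 := by
    rw [map_mul, Module.End.mul_apply, hiso.adj', IsoData.aeval_ad, hk, mul_comm w k, map_mul,
      Module.End.mul_apply, hx, map_zero, map_zero, LinearMap.zero_apply]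
  rw [h1, h2, add_zero]

end General

/-- **Package P4 (helper99, S5955).** -/
theorem finrank_ti_le_of_charpoly {F : Type*} [Field F] [Fintype F] {p : ℕ} [Fact p.Prime]
    [CharP F p] {r : ℕ} (hr : r.Prime) (hr2 : r ≠ 2) (hrp : r ≠ p)
    (hie : Even (orderOf ((Fintype.card F : ℕ) : ZMod r)))
    {V : Type*} [AddCommGroup V] [Module F V] [FiniteDimensional F V]
    {B : LinearMap.BilinForm F V} {T : Module.End F V} (hiso : IsoData B T r)
    (hB : B.Nondegenerate) (w₀ : F[X]) (S : Finset F[X])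
    (hw₀ : w₀.Monic ∧ Irreducible w₀ ∧ w₀ ≠ X - 1 ∧ w₀ ∣ X ^ r - 1)
    (hS : ∀ w ∈ S, w.Monic ∧ Irreducible w ∧ w ≠ X - 1 ∧ w ∣ X ^ r - 1) (hw₀S : w₀ ∉ S)
    (e₀ a₀ : ℕ) (hχ : T.charpoly = (X - 1) ^ e₀ * w₀ ^ a₀ * ∏ w ∈ S, w)
    {W : Submodule F V} (hW : Inv T W) (hWti : IsoOn B W) :
    finrank F W ≤ e₀ / 2 + orderOf ((Fintype.card F : ℕ) : ZMod r) * (a₀ / 2) := by
  classical
  have hrF : ((r : ℕ) : F) ≠ 0 := Cfsg.Agent.Lib.Helper99_PrimeOrderSL.natCast_ne_zero (p := p) hr hrp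
  have hss : T.IsSemisimple :=
    Cfsg.Agent.Lib.Helper99_PrimeOrderSL.isSemisimple_of_pow_eq_one T r hrF hiso.pow
  have H := Cfsg.Agent.Lib.Helper99_PrimeOrderSL.hasBlocks_of_pow_eq_one (p := p) T hr hrp hiso.pow
  have hipos := Cfsg.Agent.Lib.Helper99_SpTI.ord_pos (F := F) (p := p) hr hrp
  obtain ⟨-, Wc, -, hWc1, hWc2⟩ :=
    Cfsg.Agent.Lib.Helper40_PrimeOrderClasses.exists_cyclotomic_factors (F := F) p r hr hrp
  set i := orderOf ((Fintype.card F : ℕ) : ZMod r) with hidef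
  -- degree and self-reciprocity of the factors
  have hfac : ∀ w : F[X], w.Monic → Irreducible w → w ≠ X - 1 → w ∣ X ^ r - 1 →
      w.natDegree = i ∧ w ∣ expand F (r - 1) w := by
    intro w hwm hwi hw1 hwd
    constructor
    · rcases hWc2 w hwm hwi hwd with h | h
      · exact absurd h hw1
      · exact (hWc1 w h).2.2.2.2
    · rw [Cfsg.Agent.Lib.Helper99_SpAtoms.dvd_expand_iff_recip_eq r hr.pos w hwm hwi hwd]
      exact Cfsg.Agent.Lib.Helper40_SpPrimeOrder.recip_eq_of_even p r i hr hidef hipos hie w hwm hwi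
        hw1 hwd
  obtain ⟨hw₀m, hw₀i, hw₀1, hw₀d⟩ := hw₀
  -- the polynomial `X - 1`
  have hX1 : (X - 1 : F[X]) = X - C 1 := by rw [C_1]
  have hX1i : Irreducible (X - 1 : F[X]) := by rw [hX1]; exact irreducible_X_sub_C 1
  have hX1m : (X - 1 : F[X]).Monic := by rw [hX1]; exact monic_X_sub_C 1
  set g : F[X] := ∏ w ∈ S, w with hg
  -- coprimality
  have c10 : IsCoprime (X - 1 : F[X]) w₀ :=
    isCoprime_of_irreducible_ne hX1i hX1m hw₀i hw₀m (Ne.symm hw₀1)
  have c1S : ∀ w ∈ S, IsCoprime (X - 1 : F[X]) w := fun w hw =>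
    isCoprime_of_irreducible_ne hX1i hX1m (hS w hw).2.1 (hS w hw).1 (Ne.symm (hS w hw).2.2.1)
  have c0S : ∀ w ∈ S, IsCoprime w₀ w := fun w hw =>
    isCoprime_of_irreducible_ne hw₀i hw₀m (hS w hw).2.1 (hS w hw).1
      (fun h => hw₀S (h ▸ hw))
  have c1g : IsCoprime (X - 1 : F[X]) g := IsCoprime.prod_right c1S
  have c0g : IsCoprime w₀ g := IsCoprime.prod_right c0S
  have c1 : IsCoprime (X - 1 : F[X]) (w₀ * g) := IsCoprime.mul_right c10 c1g
  -- the annihilating polynomial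
  have hann : aeval T ((X - 1) * (w₀ * g)) = 0 := by
    have hsq : Squarefree (minpoly F T) := by
      have h1 : minpoly F T ∣ X ^ r - 1 := by
        apply minpoly.dvd
        rw [map_sub, map_pow, aeval_X, map_one, hiso.pow, sub_self]
      exact ((X_pow_sub_one_separable_iff.2 hrF).squarefree).squarefree_of_dvd h1
    have h2 : minpoly F T ∣ ((X - 1) * (w₀ * g)) ^ (e₀ + a₀ + 1) := by
      refine (LinearMap.minpoly_dvd_charpoly T).trans ?_
      rw [hχ, mul_pow, mul_pow, mul_assoc]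
      exact mul_dvd_mul (pow_dvd_pow _ (by omega))
        (mul_dvd_mul (pow_dvd_pow _ (by omega)) (dvd_pow_self g (by omega)))
    have h3 : minpoly F T ∣ (X - 1) * (w₀ * g) :=
      (hsq.dvd_pow_iff_dvd (by omega)).1 h2
    obtain ⟨k, hk⟩ := h3
    rw [hk, map_mul, minpoly.aeval, zero_mul]
  -- the three pieces
  set E := LinearMap.ker (aeval T (X - 1 : F[X])) with hE
  set K₀ := LinearMap.ker (aeval T w₀) with hK₀
  set D := LinearMap.ker (aeval T g) with hD
  have hsplit : W ≤ (W ⊓ E) ⊔ ((W ⊓ K₀) ⊔ (W ⊓ D)) := by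
    intro x hxW
    have h1 := mem_sup_of_coprime hW c1 hxW (by rw [hann, LinearMap.zero_apply])
    obtain ⟨x1, hx1, y, hy, rfl⟩ := Submodule.mem_sup.1 h1
    refine Submodule.add_mem_sup hx1 ?_
    exact mem_sup_of_coprime hW c0g hy.1 (LinearMap.mem_ker.1 hy.2)
  have hEeq : E = Module.End.eigenspace T 1 := by
    ext x
    rw [hE, LinearMap.mem_ker, Module.End.mem_eigenspace_iff, one_smul, map_sub, aeval_X, map_one,
      LinearMap.sub_apply, Module.End.one_apply, sub_eq_zero]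
  -- the fixed part
  have hEnd : NDOn B E := by
    rw [hEeq]
    exact Cfsg.Agent.Lib.Helper99_SpTI.ndOn_eigenspace (p := p) hiso hB hr hrp
  have hEdim : finrank F E ≤ e₀ := by
    have h1 := Cfsg.Agent.Lib.Helper78_KerAevalDim.finrank_ker_aeval_le T hss (X - 1) (w₀ ^ a₀ * g)
      hX1i e₀ (IsCoprime.mul_right (IsCoprime.pow_right c10) c1g) (by rw [hχ, mul_assoc])
    have h2 : (X - 1 : F[X]).natDegree = 1 := by rw [hX1]; exact natDegree_X_sub_C 1
    rw [h2, one_mul] at h1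
    exact h1
  have hWE : 2 * finrank F ↥(W ⊓ E) ≤ e₀ := by
    have h1 := Cfsg.Agent.Lib.Helper99_SpTI.two_mul_finrank_le hiso.alt hEnd
      (inf_le_right : W ⊓ E ≤ E) (fun x hx y hy => hWti x hx.1 y hy.1)
    omega
  -- the `w₀` part
  have hK₀nd : NDOn B K₀ :=
    ndOn_ker_aeval hiso hB hrF hw₀i hw₀d (hfac w₀ hw₀m hw₀i hw₀1 hw₀d).2
  have hK₀dim : finrank F K₀ ≤ i * a₀ := by
    have h1 := Cfsg.Agent.Lib.Helper78_KerAevalDim.finrank_ker_aeval_le T hss w₀ ((X - 1) ^ e₀ * g)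
      hw₀i a₀ (IsCoprime.mul_right (IsCoprime.pow_right c10.symm) c0g) (by rw [hχ]; ring)
    rw [(hfac w₀ hw₀m hw₀i hw₀1 hw₀d).1] at h1
    exact h1
  have hdisjE : ∀ w : F[X], IsCoprime w (X - 1 : F[X]) →
      Disjoint (W ⊓ LinearMap.ker (aeval T w)) (Module.End.eigenspace T 1) := by
    intro w hw
    rw [← hEeq]
    exact (disjoint_ker_aeval_of_isCoprime T hw).mono_left inf_le_right
  have hinvinf : ∀ w : F[X], (W ⊓ LinearMap.ker (aeval T w)) ∈ T.invtSubmodule := by
    intro w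
    rw [← Cfsg.Agent.Lib.Helper99_SpTI.inv_iff_mem]
    intro x hx
    exact ⟨hW x hx.1, inv_ker_aeval T w x hx.2⟩
  have hWK₀ : finrank F ↥(W ⊓ K₀) ≤ i * (a₀ / 2) := by
    obtain ⟨s, hs⟩ := Cfsg.Agent.Lib.Helper99_InvSub.dvd_finrank_of_disjoint hss hipos H _
      (W ⊓ K₀) rfl (hinvinf w₀) (hdisjE w₀ c10.symm)
    have h1 := Cfsg.Agent.Lib.Helper99_SpTI.two_mul_finrank_le hiso.alt hK₀nd
      (inf_le_right : W ⊓ K₀ ≤ K₀) (fun x hx y hy => hWti x hx.1 y hy.1)
    rw [hs]
    apply Nat.mul_le_mul_left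
    have h2 : i * (2 * s) ≤ i * a₀ := by
      calc i * (2 * s) = 2 * (i * s) := by ring
        _ ≤ finrank F K₀ := by rw [← hs]; exact h1
        _ ≤ i * a₀ := hK₀dim
    have h3 := Nat.le_of_mul_le_mul_left h2 hipos
    omega
  -- the remaining part is trivial
  have hWD : W ⊓ D = ⊥ := by
    by_contra hne
    obtain ⟨v, hv, hv0⟩ := Submodule.exists_mem_ne_zero_of_ne_bot hne
    obtain ⟨w, hwS, v', hv'W, hv'0, hv'⟩ :=
      exists_factor_vec T hW S v hv.1 hv0 (LinearMap.mem_ker.1 hv.2)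
    obtain ⟨hwm, hwi, hw1, hwd⟩ := hS w hwS
    set Kw := LinearMap.ker (aeval T w) with hKw
    have hZ0 : W ⊓ Kw ≠ ⊥ := by
      intro h0
      have : v' ∈ W ⊓ Kw := ⟨hv'W, LinearMap.mem_ker.2 hv'⟩
      rw [h0, Submodule.mem_bot] at this
      exact hv'0 this
    obtain ⟨U, hU, hUZ, hUd⟩ := H (W ⊓ Kw) (hinvinf w) hZ0 (hdisjE w (c1S w hwS).symm)
    have hKwdim : finrank F Kw ≤ i := by
      have hprod : w * ∏ x ∈ S.erase w, x = g := Finset.mul_prod_erase S (fun x => x) hwS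
      have hcopw : IsCoprime w ((X - 1) ^ e₀ * w₀ ^ a₀ * ∏ x ∈ S.erase w, x) := by
        refine IsCoprime.mul_right (IsCoprime.mul_right (IsCoprime.pow_right (c1S w hwS).symm)
          (IsCoprime.pow_right (c0S w hwS).symm)) (IsCoprime.prod_right ?_)
        intro x hx
        exact isCoprime_of_irreducible_ne hwi hwm (hS x (Finset.mem_of_mem_erase hx)).2.1
          (hS x (Finset.mem_of_mem_erase hx)).1 (Ne.symm (Finset.ne_of_mem_erase hx))
      have h1 := Cfsg.Agent.Lib.Helper78_KerAevalDim.finrank_ker_aeval_le T hss w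
        ((X - 1) ^ e₀ * w₀ ^ a₀ * ∏ x ∈ S.erase w, x) hwi 1 hcopw
        (by rw [hχ, ← hprod]; ring)
      rw [(hfac w hwm hwi hw1 hwd).1, mul_one] at h1
      exact h1
    have hUK : U = Kw :=
      Submodule.eq_of_le_of_finrank_le (hUZ.trans inf_le_right) (by rw [hUd]; exact hKwdim)
    have hKwW : Kw ≤ W := by
      rw [← hUK]
      exact hUZ.trans inf_le_left
    have hKwnd : NDOn B Kw := ndOn_ker_aeval hiso hB hrF hwi hwd (hfac w hwm hwi hw1 hwd).2
    exact hv'0 (hKwnd v' (LinearMap.mem_ker.2 hv') (fun y hy => hWti v' hv'W y (hKwW hy)))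
  -- conclusion
  have h1 : finrank F W ≤ finrank F ↥((W ⊓ E) ⊔ ((W ⊓ K₀) ⊔ (W ⊓ D))) :=
    Submodule.finrank_mono hsplit
  have h2 := Submodule.finrank_add_le_finrank_add_finrank (W ⊓ E) ((W ⊓ K₀) ⊔ (W ⊓ D))
  have h3 := Submodule.finrank_add_le_finrank_add_finrank (W ⊓ K₀) (W ⊓ D)
  rw [hWD, finrank_bot] at h3
  rw [hWD] at h1 h2
  omega

end Cfsg.Agent.Lib.Helper75_SpTIBound
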