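import Mathlib
import Cfsg.Agent.Lib.Helper99_SpAtoms
import Cfsg.Agent.Lib.Helper40_SpExistMatrix

set_option autoImplicit false
set_option linter.unusedSectionVars false

/-!
Symplectic matrices of odd prime order `r` with a prescribed number of minimal nondegenerate
blocks.
-/

namespace Cfsg.Agent.Lib.Helper99_SpElt

open Module Polynomial
open Cfsg.Agent.Lib.Helper40_Palindromic Cfsg.Agent.Lib.Helper40_SpExist
  Cfsg.Agent.Lib.Helper40_SpPrimeOrder Cfsg.Agent.Lib.Helper40_PolyFactors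
  Cfsg.Agent.Lib.Helper40_SpExistMatrix Cfsg.Agent.Lib.Helper40_PrimeOrderClasses
  Cfsg.Agent.Lib.Helper99_SpAtoms Cfsg.Agent.Lib.Helper99_PrimeOrderSL

universe v

variable {F : Type v} [Field F] [Fintype F] {p : ℕ} [Fact p.Prime] [CharP F p] {r : ℕ}

/-- a self-reciprocal factor of `X ^ r - 1` of degree `atomDim`. -/
theorem exists_atom_poly (hr : r.Prime) (hr2 : r ≠ 2) (hrp : r ≠ p) :
    ∃ α : F[X], α.Monic ∧ α.natDegree = atomDim F r ∧ α.reverse = α ∧ α ∣ X ^ r - 1 ∧
      α.eval 1 ≠ 0 := by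
  classical
  have hrodd : Odd r := hr.odd_of_ne_two hr2
  obtain ⟨hipos, W, hWcard, hW1, -⟩ := exists_cyclotomic_factors (F := F) p r hr hrp
  set i := orderOf ((Fintype.card F : ℕ) : ZMod r) with hi
  have hq0 : ((Fintype.card F : ℕ) : ZMod r) ≠ 0 := by
    rw [Ne, ZMod.natCast_eq_zero_iff]
    intro h
    have hp : p.Prime := Fact.out
    obtain ⟨k, -, hk⟩ := FiniteField.card F p
    rw [hk] at h
    exact hrp ((Nat.prime_dvd_prime_iff_eq hr hp).1 (hr.dvd_of_dvd_pow h))
  have : Fact r.Prime := ⟨hr⟩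
  have hedvd : i ∣ r - 1 := ZMod.orderOf_dvd_card_sub_one hq0
  have hpos : 0 < r - 1 := by have := hr.two_le; omega
  have hWpos : 0 < W.card := by
    rw [hWcard]
    exact Nat.div_pos (Nat.le_of_dvd hpos hedvd) hipos
  obtain ⟨w, hwW⟩ := Finset.card_pos.1 hWpos
  obtain ⟨hwm, hwi, hw1, hwd, hwdeg⟩ := hW1 w hwW
  have hw0 : w.coeff 0 ≠ 0 := coeff_zero_ne_zero_of_dvd r hr.pos w hwd
  have hw11 : w.eval 1 ≠ 0 := eval_one_ne_zero w hwm hwi hw1
  by_cases hie : Even i
  · have hrec : recip w = w := recip_eq_of_even p r i hr hi hipos hie w hwm hwi hw1 hwd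
    have hc0 : w.coeff 0 = 1 := coeff_zero_eq_one_of_recip_eq w hw0 hrec hw11
    refine ⟨w, hwm, ?_, reverse_eq_of_recip_eq w hc0 hrec, hwd, hw11⟩
    unfold atomDim
    rw [if_pos hie, hwdeg]
  · have hio : Odd i := Nat.not_even_iff_odd.1 hie
    have hne : recip w ≠ w :=
      recip_ne_of_odd r hrodd w hwm hwi hw0 hw1 hwd (by rw [hwdeg]; exact hio)
    have hrm : (recip w).Monic := recip_monic w hw0
    have hri : Irreducible (recip w) := irreducible_recip w hwi hw0
    have hrd : recip w ∣ X ^ r - 1 := by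
      have := recip_dvd hwd
      rwa [recip_X_pow_sub_one r hr.pos] at this
    have hcop : IsCoprime w (recip w) :=
      isCoprime_of_monic_irreducible_ne hwi hwm hri hrm (Ne.symm hne)
    have hr1 : recip w ≠ X - 1 := by
      intro h
      apply hw1
      have h2 := congrArg recip h
      rwa [recip_recip w hwm hw0, recip_X_sub_one] at h2
    refine ⟨w * recip w, hwm.mul hrm, ?_, reverse_mul_recip w hwm hw0, hcop.mul_dvd hwd hrd, ?_⟩
    · rw [hwm.natDegree_mul hrm, recip_natDegree w hw0, hwdeg]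
      unfold atomDim
      rw [if_neg hie, two_mul]
    · rw [eval_mul]
      exact mul_ne_zero hw11 (eval_one_ne_zero (recip w) hrm hri hr1)

/-- symplectic matrices of order `r` with `s` minimal blocks. -/
theorem exists_elt (d : ℕ) (hr : r.Prime) (hr2 : r ≠ 2) (hrp : r ≠ p) (s : ℕ)
    (hs : s * atomDim F r ≤ 2 * d) :
    ∃ A : Matrix (Fin d ⊕ Fin d) (Fin d ⊕ Fin d) F, A ∈ Matrix.symplecticGroup (Fin d) F ∧
      A ^ r = 1 ∧
      finrank F (Module.End.eigenspace (Matrix.toLin' A : Module.End F (Fin d ⊕ Fin d → F)) 1) =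
        2 * d - s * atomDim F r := by
  classical
  obtain ⟨α, hαm, hαdeg, hαrev, hαd, hα1⟩ := exists_atom_poly (F := F) hr hr2 hrp
  set c := atomDim F r with hc
  have hce : Even c := by
    rw [hc]; unfold atomDim
    split_ifs with h
    · exact h
    · exact even_two_mul _
  set m := 2 * d - s * c with hm
  have hme : Even m := by
    rw [hm, Nat.even_sub hs]
    exact ⟨fun _ => hce.mul_left s, fun _ => even_two_mul d⟩
  have hX1 : ((X : F[X]) - 1) = X - C 1 := by rw [map_one]
  have hX1m : ((X : F[X]) - 1).Monic := by rw [hX1]; exact monic_X_sub_C 1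
  set f : F[X] := (X - 1) ^ m * α ^ s with hf
  have hfm : f.Monic := (hX1m.pow m).mul (hαm.pow s)
  have hfdeg : f.natDegree = 2 * d := by
    rw [hf, (hX1m.pow m).natDegree_mul (hαm.pow s), hX1m.natDegree_pow, hαm.natDegree_pow, hX1,
      natDegree_X_sub_C, hαdeg, mul_one]
    omega
  have hfrev : f.reverse = f := by
    rw [hf, reverse_mul_of_domain, reverse_X_sub_one_pow m hme, reverse_pow', hαrev]
  obtain ⟨A, hA, hch, hk⟩ := exists_sp_matrix d f hfm hfdeg hfrev
  have hX1d : ((X : F[X]) - 1) ∣ X ^ r - 1 := by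
    have := sub_dvd_pow_sub_pow (X : F[X]) 1 r
    rwa [one_pow] at this
  have hAr : A ^ r = 1 := by
    have h1 := hk (X ^ r - 1) (by
      intro g hg hgf
      rw [hf] at hgf
      rcases hg.prime.dvd_or_dvd hgf with h | h
      · exact (hg.prime.dvd_of_dvd_pow h).trans hX1d
      · exact (hg.prime.dvd_of_dvd_pow h).trans hαd)
    rw [map_sub, map_pow, aeval_X, map_one, sub_eq_zero] at h1
    exact h1
  refine ⟨A, hA, hAr, ?_⟩
  set T : Module.End F (Fin d ⊕ Fin d → F) := Matrix.toLin' A with hT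
  have hTr : T ^ r = 1 := by
    rw [hT, ← Matrix.toLin'_pow, hAr, Matrix.toLin'_one]
    rfl
  have hrF : ((r : ℕ) : F) ≠ 0 := natCast_ne_zero hr hrp
  have hss : T.IsSemisimple := isSemisimple_of_pow_eq_one T r hrF hTr
  rw [← hss.isFinitelySemisimple.maxGenEigenspace_eq_eigenspace,
    LinearMap.finrank_maxGenEigenspace_eq, hT, Matrix.charpoly_toLin', hch, hf,
    rootMultiplicity_mul (by rw [← hf]; exact hfm.ne_zero), hX1, rootMultiplicity_X_sub_C_pow,
    rootMultiplicity_eq_zero, add_zero]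
  rw [IsRoot.def, eval_pow]
  exact pow_ne_zero _ hα1

end Cfsg.Agent.Lib.Helper99_SpElt
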