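import Mathlib
import Cfsg.Agent.Lib.Helper99_SpOrth
import Cfsg.Agent.Lib.Helper99_SpBridge
import Cfsg.Agent.Lib.Helper40_SpExistMatrix
import Cfsg.Agent.Lib.Helper5_SpOrder

set_option autoImplicit false
set_option linter.unusedSectionVars false

/-!
Counting orthogonal decompositions of a symplectic space into nondegenerate subspaces of equal
dimension: their number is divisible by `t!` and divides the order of the symplectic group.
-/

namespace Cfsg.Agent.Lib.Helper99_SpDecCount

open Module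
open Cfsg.Agent.Lib.Helper40_SpBasic Cfsg.Agent.Lib.Helper99_DecompCount
  Cfsg.Agent.Lib.Helper99_DecompBasic Cfsg.Agent.Lib.Helper94_Symp
  Cfsg.Agent.Lib.Helper94_Bridge Cfsg.Agent.Lib.Helper99_SpBridge
  Cfsg.Agent.Lib.Helper99_SpAtoms

section defs

variable {F V : Type*} [Field F] [AddCommGroup V] [Module F V]

/-- orthogonal decompositions into nondegenerate subspaces of dimension `a`. -/
def IsODec (B : LinearMap.BilinForm F V) {t : ℕ} (a : ℕ) (D : Fin t → Submodule F V) : Prop :=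
  IsDec a D ∧ (∀ j, NDOn B (D j)) ∧ ∀ j j', j ≠ j' → ∀ u ∈ D j, ∀ v ∈ D j', B u v = 0

variable {B : LinearMap.BilinForm F V} {t a : ℕ}

theorem IsODec.comp_equiv {D : Fin t → Submodule F V} (h : IsODec B a D)
    (e : Equiv.Perm (Fin t)) : IsODec B a (D ∘ e) :=
  ⟨h.1.comp_equiv e, fun j => h.2.1 (e j),
    fun j j' hjj' => h.2.2 (e j) (e j') (e.injective.ne hjj')⟩

theorem IsODec.map_iso {D : Fin t → Submodule F V} (h : IsODec B a D) (g : V ≃ₗ[F] V)
    (hg : g ∈ isoGroup B) : IsODec B a (fun j => (D j).map (g : V →ₗ[F] V)) := by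
  refine ⟨h.1.map_equiv g, ?_, ?_⟩
  · rintro j _ ⟨z, hz, rfl⟩ hxy
    have : z = 0 := h.2.1 j z hz (fun z' hz' => by
      have := hxy (g z') ⟨z', hz', rfl⟩
      rwa [LinearEquiv.coe_coe, hg] at this)
    rw [this, map_zero]
  · rintro j j' hjj' _ ⟨u, hu, rfl⟩ _ ⟨v, hv, rfl⟩
    have := mem_isoGroup.1 hg u v
    rw [LinearEquiv.coe_coe, this]
    exact h.2.2 j j' hjj' u hu v hv

variable (B t a)

/-- the set of ordered orthogonal decompositions. -/
abbrev ODecs := {D : Fin t → Submodule F V // IsODec B a D}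

instance : MulAction (Equiv.Perm (Fin t)) (ODecs B t a) where
  smul σ D := ⟨D.1 ∘ σ.symm, D.2.comp_equiv σ.symm⟩
  one_smul D := by
    apply Subtype.ext
    rfl
  mul_smul σ τ D := by
    apply Subtype.ext
    rfl

instance : MulAction (isoGroup B) (ODecs B t a) where
  smul g D := ⟨fun j => (D.1 j).map ((g : V ≃ₗ[F] V) : V →ₗ[F] V), D.2.map_iso g.1 g.2⟩
  one_smul D := by
    apply Subtype.ext
    funext j
    exact Submodule.map_id _
  mul_smul g h D := by
    apply Subtype.ext
    funext j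
    show (D.1 j).map (((g * h : isoGroup B) : V ≃ₗ[F] V) : V →ₗ[F] V) =
      ((D.1 j).map ((h : V ≃ₗ[F] V) : V →ₗ[F] V)).map ((g : V ≃ₗ[F] V) : V →ₗ[F] V)
    rw [← Submodule.map_comp]
    rfl

theorem iso_smul_val (g : isoGroup B) (D : ODecs B t a) (j : Fin t) :
    (g • D).1 j = (D.1 j).map ((g : V ≃ₗ[F] V) : V →ₗ[F] V) := rfl

end defs

section count

variable {F V : Type*} [Field F] [AddCommGroup V] [Module F V] [FiniteDimensional F V]
variable (B : LinearMap.BilinForm F V) (t a : ℕ)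

theorem perm_stabilizer_eq_bot' (ha : 0 < a) (D : ODecs B t a) :
    MulAction.stabilizer (Equiv.Perm (Fin t)) D = ⊥ := by
  rw [Subgroup.eq_bot_iff_forall]
  intro σ hσ
  rw [MulAction.mem_stabilizer_iff] at hσ
  have h1 : D.1 ∘ σ.symm = D.1 := congrArg Subtype.val hσ
  have h2 : σ ∈ MulAction.stabilizer (Equiv.Perm (Fin t)) (⟨D.1, D.2.1⟩ : Decs F V t a) := by
    rw [MulAction.mem_stabilizer_iff]
    apply Subtype.ext
    exact h1
  rw [perm_stabilizer_eq_bot t a ha] at h2
  exact Subgroup.mem_bot.1 h2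

/-- the number of ordered orthogonal decompositions is divisible by `t!`. -/
theorem factorial_dvd_card' [Finite (ODecs B t a)] (ha : 0 < a) :
    Nat.factorial t ∣ Nat.card (ODecs B t a) := by
  have e := MulAction.selfEquivOrbitsQuotientProd
    (perm_stabilizer_eq_bot' (F := F) (V := V) B t a ha)
  rw [Nat.card_congr e, Nat.card_prod, Nat.card_perm, Nat.card_eq_fintype_card (α := Fin t),
    Fintype.card_fin]
  exact dvd_mul_left _ _

/-- the isometry group is transitive on the ordered orthogonal decompositions. -/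
theorem exists_iso_smul_eq (hA : B.IsAlt) (a' : ℕ) (D D' : ODecs B t (2 * a')) :
    ∃ g : isoGroup B, g • D = D' := by
  have hI : DirectSum.IsInternal D.1 :=
    DirectSum.isInternal_submodule_of_iSupIndep_of_iSup_eq_top D.2.1.2.1 D.2.1.2.2
  have hI' : DirectSum.IsInternal D'.1 :=
    DirectSum.isInternal_submodule_of_iSupIndep_of_iSup_eq_top D'.2.1.2.1 D'.2.1.2.2
  have hiso1 : IsoData B (1 : Module.End F V) 1 :=
    Cfsg.Agent.Lib.Helper40_SpExistMatrix.isoData_one B hA
  have hstd : ∀ j, ∃ e : ↥(D.1 j) ≃ₗ[F] (Fin a' ⊕ Fin a' → F),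
      ∀ x y, Bsymp a' F (e x) (e y) = B x y := fun j =>
    exists_isometry_standard (B.restrict (D.1 j)) (fun x => hA x)
      (nondegenerate_restrict hiso1 (D.2.2.1 j)) a' (D.2.1.1 j)
  have hstd' : ∀ j, ∃ e : ↥(D'.1 j) ≃ₗ[F] (Fin a' ⊕ Fin a' → F),
      ∀ x y, Bsymp a' F (e x) (e y) = B x y := fun j =>
    exists_isometry_standard (B.restrict (D'.1 j)) (fun x => hA x)
      (nondegenerate_restrict hiso1 (D'.2.2.1 j)) a' (D'.2.1.1 j)
  choose e he using hstd
  choose e' he' using hstd'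
  let φ : ∀ j, ↥(D.1 j) ≃ₗ[F] ↥(D'.1 j) := fun j => (e j).trans (e' j).symm
  have hφ : ∀ j (x y : ↥(D.1 j)), B (φ j x : V) (φ j y : V) = B x y := by
    intro j x y
    rw [← he' j, ← he j]
    simp only [φ, LinearEquiv.trans_apply, LinearEquiv.apply_symm_apply]
  let v : ∀ j, Basis (Fin (2 * a')) F (D.1 j) := fun j =>
    finBasisOfFinrankEq F (D.1 j) (D.2.1.1 j)
  let v' : ∀ j, Basis (Fin (2 * a')) F (D'.1 j) := fun j => (v j).map (φ j)
  let b := hI.collectedBasis v
  let b' := hI'.collectedBasis v'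
  let g : V ≃ₗ[F] V := b.equiv b' (Equiv.refl _)
  have hg : g ∈ isoGroup B := by
    have key : B.comp (g : V →ₗ[F] V) (g : V →ₗ[F] V) = B := by
      refine LinearMap.BilinForm.ext_basis b ?_
      rintro ⟨j, l⟩ ⟨j', l'⟩
      rw [LinearMap.BilinForm.comp_apply]
      simp only [LinearEquiv.coe_coe]
      rw [Basis.equiv_apply, Basis.equiv_apply, Equiv.refl_apply, Equiv.refl_apply]
      simp only [b, b', DirectSum.IsInternal.collectedBasis_coe]
      by_cases hjj' : j = j'
      · subst hjj'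
        simp only [v', Basis.map_apply]
        exact hφ j _ _
      · rw [D'.2.2.2 j j' hjj' _ (v' j l).2 _ (v' j' l').2,
          D.2.2.2 j j' hjj' _ (v j l).2 _ (v j' l').2]
    intro x y
    have := congrArg (fun C : LinearMap.BilinForm F V => C x y) key
    simpa [LinearMap.BilinForm.comp_apply] using this
  refine ⟨⟨g, hg⟩, ?_⟩
  apply Subtype.ext
  funext j
  rw [iso_smul_val]
  apply Submodule.eq_of_le_of_finrank_eq
  · rintro _ ⟨x, hx, rfl⟩
    have hx' : x = ∑ l, (v j).repr ⟨x, hx⟩ l • ((v j l : D.1 j) : V) := by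
      have := (v j).sum_repr ⟨x, hx⟩
      have h2 := congrArg (Submodule.subtype (D.1 j)) this
      rw [map_sum] at h2
      simpa using h2.symm
    rw [hx']
    simp only [LinearEquiv.coe_coe, map_sum, map_smul]
    apply Submodule.sum_mem
    intro l _
    apply Submodule.smul_mem
    have hb : ((v j l : D.1 j) : V) = b ⟨j, l⟩ := by
      simp only [b, DirectSum.IsInternal.collectedBasis_coe]
    rw [hb, Basis.equiv_apply, Equiv.refl_apply]
    exact hI'.collectedBasis_mem v' ⟨j, l⟩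
  · rw [D'.2.1.1 j]
    exact (LinearEquiv.finrank_map_eq g (D.1 j)).trans (D.2.1.1 j)

/-- the number of ordered orthogonal decompositions divides the order of the isometry group. -/
theorem card_dvd_card_iso [Finite (ODecs B t a)] (hA : B.IsAlt) (a' : ℕ) (ha : a = 2 * a')
    (D₀ : ODecs B t a) : Nat.card (ODecs B t a) ∣ Nat.card (isoGroup B) := by
  subst ha
  have : MulAction.IsPretransitive (isoGroup B) (ODecs B t (2 * a')) :=
    ⟨fun D D' => exists_iso_smul_eq B t hA a' D D'⟩
  rw [← MulAction.index_stabilizer_of_transitive (isoGroup B) D₀]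
  exact Subgroup.index_dvd_card _

end count

section field

variable {K : Type*} [Field K] [Fintype K] {p : ℕ} [Fact p.Prime] [CharP K p]

/-- if a prime `r ≠ p` divides the number of (unordered) orthogonal decompositions then the
minimal block dimension is at most `2 d`. -/
theorem atomDim_le_of_dvd (d t a a' : ℕ) (ha : a = 2 * a') (ha0 : 0 < a)
    (D₀ : ODecs (Bsymp d K) t a) {r : ℕ} (hr : r.Prime) (hrp : r ≠ p)
    (h : r ∣ Nat.card (ODecs (Bsymp d K) t a) / Nat.factorial t) :
    atomDim K r ≤ 2 * d := by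
  unfold atomDim
  have hp : p.Prime := Fact.out
  have h1 : r ∣ Nat.card (ODecs (Bsymp d K) t a) := by
    obtain ⟨m, hm⟩ := factorial_dvd_card' (Bsymp d K) t a ha0
    rw [hm, Nat.mul_div_cancel_left _ (Nat.factorial_pos t)] at h
    rw [hm]
    exact h.mul_left _
  have h2 := h1.trans (card_dvd_card_iso (Bsymp d K) t a (Bsymp_isAlt d) a' ha D₀)
  rw [← Nat.card_congr (Cfsg.Agent.Lib.Helper94_SpMatBridge.spEquiv d (F := K)).toEquiv,
    Cfsg.Agent.Lib.Helper5_SpOrder.card_sp rfl d] at h2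
  set q := Fintype.card K with hq
  have hrq : ¬ r ∣ q := by
    intro hrq
    obtain ⟨k, -, hk⟩ := FiniteField.card K p
    rw [hq, hk] at hrq
    exact hrp ((Nat.prime_dvd_prime_iff_eq hr hp).1 (hr.dvd_of_dvd_pow hrq))
  have h3 : r ∣ ∏ i ∈ Finset.range d, (q ^ (2 * (i + 1)) - 1) := by
    rcases (Nat.Prime.dvd_mul hr).1 h2 with h | h
    · exact absurd (hr.dvd_of_dvd_pow h) hrq
    · exact h
  rw [Prime.dvd_finsetProd_iff (Nat.prime_iff.1 hr)] at h3
  obtain ⟨j, hj, hjd⟩ := h3
  rw [Finset.mem_range] at hj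
  have hq1 : 1 ≤ q ^ (2 * (j + 1)) := Nat.one_le_pow _ _ Fintype.card_pos
  have h4 : ((q : ℕ) : ZMod r) ^ (2 * (j + 1)) = 1 := by
    have := (ZMod.natCast_eq_zero_iff _ _).2 hjd
    rw [Nat.cast_sub hq1, Nat.cast_one, sub_eq_zero, Nat.cast_pow] at this
    exact this
  have h5 := orderOf_dvd_of_pow_eq_one h4
  split_ifs with hie
  · have := Nat.le_of_dvd (by omega) h5
    omega
  · have hodd : Odd (orderOf ((q : ℕ) : ZMod r)) := Nat.not_even_iff_odd.1 hie
    have h6 : orderOf ((q : ℕ) : ZMod r) ∣ j + 1 :=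
      (Nat.Coprime.dvd_mul_left (Nat.coprime_two_right.2 hodd)).1 h5
    have := Nat.le_of_dvd (by omega) h6
    omega

end field

end Cfsg.Agent.Lib.Helper99_SpDecCount
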