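import Mathlib

set_option autoImplicit false

namespace Cfsg.Agent.Lib.Helper99_Monomial

section comb
variable {ι : Type*} [DecidableEq ι] (τ : ι → ι) (hτ : Function.Involutive τ)
include hτ

/-- partial transversals of a free involution -/
lemma exists_transversal (S : Finset ι) (hfree : ∀ i ∈ S, τ i ≠ i) :
    ∀ k, 2 * k ≤ S.card → ∃ B : Finset ι, B ⊆ S ∧ B.card = k ∧ Disjoint B (B.image τ) := by
  intro k
  induction k with
  | zero =>
    intro _
    refine ⟨∅, ?_, ?_, ?_⟩
    · simp
    · simp
    · simp
  | succ k ih =>
    intro hk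
    obtain ⟨B, hBS, hBc, hBd⟩ := ih (by omega)
    have hC : (B ∪ B.image τ).card < S.card := by
      calc (B ∪ B.image τ).card ≤ B.card + (B.image τ).card := Finset.card_union_le _ _
        _ ≤ B.card + B.card := Nat.add_le_add_left (Finset.card_image_le (s := B) (f := τ)) _
        _ < S.card := by omega
    obtain ⟨i, hiS, hiC⟩ := Finset.exists_mem_notMem_of_card_lt_card hC
    rw [Finset.mem_union, not_or] at hiC
    obtain ⟨hiB, hiτB⟩ := hiC
    have hτiB : τ i ∉ B := by
      intro h
      apply hiτB
      rw [Finset.mem_image]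
      exact ⟨τ i, h, hτ i⟩
    refine ⟨insert i B, ?_, ?_, ?_⟩
    · intro j hj
      rw [Finset.mem_insert] at hj
      rcases hj with rfl | hj
      · exact hiS
      · exact hBS hj
    · rw [Finset.card_insert_of_notMem hiB, hBc]
    · rw [Finset.image_insert, Finset.disjoint_insert_left, Finset.disjoint_insert_right]
      refine ⟨?_, ?_, ?_⟩
      · rw [Finset.mem_insert, not_or]
        exact ⟨fun h => hfree i hiS h.symm, hiτB⟩
      · exact hτiB
      · exact hBd


/-- an invariant subset of prescribed size -/
lemma exists_invariant_subset (S : Finset ι) (hS : ∀ i ∈ S, τ i ∈ S) (a : ℕ) (haS' : a ≤ S.card)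
    (hfix : (∃ i ∈ S, τ i = i) ∨ Even a) :
    ∃ B : Finset ι, B ⊆ S ∧ B.card = a ∧ ∀ i ∈ B, τ i ∈ B := by
  rcases Nat.eq_or_lt_of_le haS' with haS | haS
  · exact ⟨S, Finset.Subset.refl S, haS.symm, hS⟩
  set Fx := S.filter (fun i => τ i = i) with hFx
  set Mv := S.filter (fun i => τ i ≠ i) with hMv
  have hcard : Fx.card + Mv.card = S.card := Finset.card_filter_add_card_filter_not _ 
  obtain ⟨T, hTM, hTc, hTd⟩ := exists_transversal τ hτ Mv
    (fun i hi => (Finset.mem_filter.mp hi).2) (Mv.card / 2) (by omega)
  set l := min (Mv.card / 2) (a / 2) with hl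
  set k := a - 2 * l with hk
  have hm : (∃ i ∈ S, τ i = i) → 1 ≤ Fx.card := by
    rintro ⟨i, hi, hi'⟩
    exact Finset.card_pos.mpr ⟨i, Finset.mem_filter.mpr ⟨hi, hi'⟩⟩
  have hkm : k ≤ Fx.card := by
    rcases hfix with h | h
    · have := hm h
      omega
    · obtain ⟨c, hc⟩ := h
      omega
  have hlT : l ≤ T.card := by rw [hTc]; exact min_le_left _ _
  have hkl : k + 2 * l = a := by omega
  obtain ⟨T', hT'T, hT'c⟩ := Finset.exists_subset_card_eq hlT
  obtain ⟨F', hF'F, hF'c⟩ := Finset.exists_subset_card_eq hkm
  have hT'd : Disjoint T' (T'.image τ) :=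
    Finset.disjoint_of_subset_left hT'T
      (Finset.disjoint_of_subset_right (Finset.image_subset_image hT'T) hTd)
  have hT'Mv : ∀ i ∈ T', i ∈ S ∧ τ i ≠ i := by
    intro i hi
    have := hTM (hT'T hi)
    rw [hMv, Finset.mem_filter] at this
    exact this
  have hF'Fx : ∀ i ∈ F', i ∈ S ∧ τ i = i := by
    intro i hi
    have := hF'F hi
    rw [hFx, Finset.mem_filter] at this
    exact this
  have hinjτ : Function.Injective τ := hτ.injective
  refine ⟨F' ∪ (T' ∪ T'.image τ), ?_, ?_, ?_⟩
  · intro i hi
    rw [Finset.mem_union, Finset.mem_union, Finset.mem_image] at hi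
    rcases hi with hi | hi | ⟨j, hj, rfl⟩
    · exact (hF'Fx i hi).1
    · exact (hT'Mv i hi).1
    · exact hS j (hT'Mv j hj).1
  · rw [Finset.card_union_of_disjoint, Finset.card_union_of_disjoint hT'd,
      Finset.card_image_of_injective _ hinjτ, hT'c, hF'c]
    · omega
    · rw [Finset.disjoint_union_right]
      constructor
      · rw [Finset.disjoint_left]
        intro i hiF hiT
        exact (hT'Mv i hiT).2 (hF'Fx i hiF).2
      · rw [Finset.disjoint_left]
        intro i hiF hiT
        rw [Finset.mem_image] at hiT
        obtain ⟨j, hj, rfl⟩ := hiT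
        have h1 := (hF'Fx _ hiF).2
        rw [hτ j] at h1
        exact (hT'Mv j hj).2 h1.symm
  · intro i hi
    rw [Finset.mem_union, Finset.mem_union, Finset.mem_image] at hi ⊢
    rcases hi with hi | hi | ⟨j, hj, rfl⟩
    · left
      rw [(hF'Fx i hi).2]; exact hi
    · right; right
      exact ⟨i, hi, rfl⟩
    · right; left
      rw [hτ j]; exact hj


omit [DecidableEq ι] in
/-- a finite set with a free involution has even cardinality -/
lemma even_card_of_free (S : Finset ι) (hS : ∀ i ∈ S, τ i ∈ S) (hfree : ∀ i ∈ S, τ i ≠ i) :
    Even S.card := by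
  have h : ∑ _i ∈ S, (1 : ZMod 2) = 0 := by
    apply Finset.sum_involution (fun i _ => τ i)
    · intro i hi; exact (by decide : (1 : ZMod 2) + 1 = 0)
    · intro i hi _; exact hfree i hi
    · intro i hi; exact hS i hi
    · intro i hi; exact hτ i
  rw [Finset.sum_const, nsmul_one] at h
  exact (ZMod.natCast_eq_zero_iff_even).mp h

/-- any involution on a set of size `a * t` permutes the blocks of some partition into `t` blocks
of size `a`. -/
theorem exists_blocks (a : ℕ) :
    ∀ (t : ℕ) (S : Finset ι), (∀ i ∈ S, τ i ∈ S) → S.card = a * t →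
      ∃ (J : Type) (_ : Fintype J) (P : J → Finset ι) (σ : Equiv.Perm J),
        Fintype.card J = t ∧ (∀ j, (P j).card = a) ∧ (∀ j, P j ⊆ S) ∧
        (∀ j j', j ≠ j' → Disjoint (P j) (P j')) ∧ (∀ j, (P j).image τ = P (σ j)) := by
  intro t
  induction t using Nat.strong_induction_on with
  | _ t ih =>
  intro S hS hcard
  rcases Nat.eq_zero_or_pos t with ht0 | htpos
  · subst ht0
    exact ⟨Empty, inferInstance, fun e => e.elim, 1, by simp, fun e => e.elim, fun e => e.elim,
      fun e => e.elim, fun e => e.elim⟩
  by_cases hfix : (∃ i ∈ S, τ i = i) ∨ Even a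
  · -- split off an invariant block
    obtain ⟨B, hBS, hBc, hBinv⟩ := exists_invariant_subset τ hτ S hS a
      (by rw [hcard]; exact Nat.le_mul_of_pos_right a htpos) hfix
    have hS' : ∀ i ∈ S \ B, τ i ∈ S \ B := by
      intro i hi
      rw [Finset.mem_sdiff] at hi ⊢
      refine ⟨hS i hi.1, fun h => hi.2 ?_⟩
      have := hBinv _ h
      rwa [hτ i] at this
    have hcard' : (S \ B).card = a * (t - 1) := by
      rw [Finset.card_sdiff_of_subset hBS, hcard, hBc, Nat.mul_sub, mul_one]
    obtain ⟨J', hJ', P', σ', hJc, hPc, hPS, hPd, hPσ⟩ := ih (t - 1) (by omega) (S \ B) hS' hcard'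
    refine ⟨Unit ⊕ J', inferInstance, Sum.elim (fun _ => B) P',
      Equiv.sumCongr (Equiv.refl Unit) σ', ?_, ?_, ?_, ?_, ?_⟩
    · rw [Fintype.card_sum, hJc, Fintype.card_unit]; omega
    · rintro (j | j)
      · exact hBc
      · exact hPc j
    · rintro (j | j)
      · exact hBS
      · exact (hPS j).trans Finset.sdiff_subset
    · rintro (j | j) (j' | j') hjj'
      · exact absurd rfl hjj'
      · exact Finset.disjoint_of_subset_right (hPS j') Finset.disjoint_sdiff
      · exact Finset.disjoint_of_subset_left (hPS j) Finset.sdiff_disjoint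
      · exact hPd j j' (fun h => hjj' (by rw [h]))
    · rintro (j | j)
      · change B.image τ = B
        apply Finset.Subset.antisymm
        · intro i hi
          rw [Finset.mem_image] at hi
          obtain ⟨k, hk, rfl⟩ := hi
          exact hBinv k hk
        · intro i hi
          rw [Finset.mem_image]
          exact ⟨τ i, hBinv i hi, hτ i⟩
      · exact hPσ j
  · -- no fixed points and `a` odd: split off a swapped pair of blocks
    rw [not_or] at hfix
    obtain ⟨hfree, hodd⟩ := hfix
    have hfree' : ∀ i ∈ S, τ i ≠ i := fun i hi h => hfree ⟨i, hi, h⟩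
    have heven := even_card_of_free τ hτ S hS hfree'
    have ht2 : 2 ≤ t := by
      rcases Nat.lt_or_ge t 2 with h | h
      · exfalso
        have : t = 1 := by omega
        rw [hcard, this, mul_one] at heven
        exact hodd heven
      · exact h
    obtain ⟨B, hBS, hBc, hBd⟩ := exists_transversal τ hτ S hfree' a (by
      rw [hcard]
      calc 2 * a = a * 2 := mul_comm _ _
        _ ≤ a * t := Nat.mul_le_mul_left a ht2)
    have hτBS : B.image τ ⊆ S := by
      intro i hi
      rw [Finset.mem_image] at hi
      obtain ⟨k, hk, rfl⟩ := hi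
      exact hS k (hBS hk)
    have hτBc : (B.image τ).card = a := by
      rw [Finset.card_image_of_injective _ hτ.injective, hBc]
    have hS' : ∀ i ∈ S \ (B ∪ B.image τ), τ i ∈ S \ (B ∪ B.image τ) := by
      intro i hi
      rw [Finset.mem_sdiff, Finset.mem_union, not_or] at hi ⊢
      refine ⟨hS i hi.1, fun h => hi.2.2 ?_, fun h => hi.2.1 ?_⟩
      · rw [Finset.mem_image]; exact ⟨τ i, h, hτ i⟩
      · rw [Finset.mem_image] at h
        obtain ⟨k, hk, hk'⟩ := h
        rw [← hτ.injective hk']; exact hk
    have hcard' : (S \ (B ∪ B.image τ)).card = a * (t - 2) := by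
      rw [Finset.card_sdiff_of_subset (Finset.union_subset hBS hτBS), hcard,
        Finset.card_union_of_disjoint hBd, hBc, hτBc, Nat.mul_sub]
      omega
    obtain ⟨J', hJ', P', σ', hJc, hPc, hPS, hPd, hPσ⟩ :=
      ih (t - 2) (by omega) (S \ (B ∪ B.image τ)) hS' hcard'
    refine ⟨Bool ⊕ J', inferInstance, Sum.elim (fun b => cond b (B.image τ) B) P',
      Equiv.sumCongr (Equiv.swap true false) σ', ?_, ?_, ?_, ?_, ?_⟩
    · rw [Fintype.card_sum, hJc, Fintype.card_bool]; omega
    · rintro (j | j)
      · cases j
        · exact hBc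
        · exact hτBc
      · exact hPc j
    · rintro (j | j)
      · cases j
        · exact hBS
        · exact hτBS
      · exact (hPS j).trans Finset.sdiff_subset
    · have hBsub : B ⊆ B ∪ B.image τ := Finset.subset_union_left
      have hτBsub : B.image τ ⊆ B ∪ B.image τ := Finset.subset_union_right
      rintro (j | j) (j' | j') hjj'
      · cases j <;> cases j'
        · exact absurd rfl hjj'
        · exact hBd
        · exact hBd.symm
        · exact absurd rfl hjj'
      · cases j
        · exact Finset.disjoint_of_subset_left hBsub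
            (Finset.disjoint_of_subset_right (hPS j') Finset.disjoint_sdiff)
        · exact Finset.disjoint_of_subset_left hτBsub
            (Finset.disjoint_of_subset_right (hPS j') Finset.disjoint_sdiff)
      · cases j'
        · exact Finset.disjoint_of_subset_right hBsub
            (Finset.disjoint_of_subset_left (hPS j) Finset.sdiff_disjoint)
        · exact Finset.disjoint_of_subset_right hτBsub
            (Finset.disjoint_of_subset_left (hPS j) Finset.sdiff_disjoint)
      · exact hPd j j' (fun h => hjj' (by rw [h]))
    · rintro (j | j)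
      · cases j
        · change B.image τ = B.image τ
          rfl
        · change (B.image τ).image τ = B
          rw [Finset.image_image, hτ.comp_self, Finset.image_id]
      · exact hPσ j

end comb

section lin
variable {F V : Type*} [Field F] [AddCommGroup V] [Module F V]

/-- the data of a family of vectors spanning `W`, linearly independent, permuted up to non-zero
scalars by `X` according to an involution. -/
def HasMonomialFamily (X : Module.End F V) (W : Submodule F V) : Prop :=
  ∃ (ι : Type) (_ : Fintype ι) (b : ι → V) (τ : ι → ι) (c : ι → F),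
    LinearIndependent F b ∧ Submodule.span F (Set.range b) = W ∧ Function.Involutive τ ∧
      (∀ i, c i ≠ 0) ∧ ∀ i, X (b i) = c i • b (τ i)

variable [FiniteDimensional F V]

theorem hasMonomialFamily (X : Module.End F V) (z : F) (hz : z ≠ 0) (hX : ∀ v, X (X v) = z • v) :
    ∀ (k : ℕ) (W : Submodule F V), Module.finrank F W = k → (∀ w ∈ W, X w ∈ W) →
      HasMonomialFamily X W := by
  intro k
  induction k using Nat.strong_induction_on with
  | _ k ih =>
  intro W hk hW
  by_cases hall : ∀ w ∈ W, ∃ μ : F, X w = μ • w
  · -- every vector of `W` is an eigenvector: any basis works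
    classical
    let B := Module.finBasis F W
    choose! μ hμ using hall
    refine ⟨Fin (Module.finrank F W), inferInstance, fun i => (B i : V), id,
      fun i => μ (B i : V), ?_, ?_, (fun _ => rfl), ?_, ?_⟩
    · have := B.linearIndependent
      exact this.map' W.subtype (Submodule.ker_subtype W)
    · have h1 : Set.range (fun i => (B i : V)) = W.subtype '' Set.range B := by
        rw [← Set.range_comp]; rfl
      rw [h1, Submodule.span_image, B.span_eq, Submodule.map_top, Submodule.range_subtype]
    · intro i h0
      change μ (B i : V) = 0 at h0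
      have h1 := hμ (B i : V) (B i).2
      rw [h0, zero_smul] at h1
      have h2 := hX (B i : V)
      rw [h1, map_zero] at h2
      have h3 : (B i : V) ≠ 0 := by
        intro h
        exact B.ne_zero i (Subtype.ext h)
      exact (smul_ne_zero hz h3) h2.symm
    · intro i
      exact hμ (B i : V) (B i).2
  · -- some vector `w` of `W` with `w`, `X w` independent
    rw [not_forall] at hall
    obtain ⟨w, hall⟩ := hall
    rw [Classical.not_imp] at hall
    obtain ⟨hwW, hw⟩ := hall
    rw [not_exists] at hw
    have hXw : X w ∉ Submodule.span F {w} := by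
      rw [Submodule.mem_span_singleton]
      rintro ⟨a, ha⟩
      exact hw a ha.symm
    obtain ⟨f, hf1, hf2⟩ := Submodule.exists_dual_map_eq_bot_of_notMem hXw inferInstance
    have hfw : f w = 0 := by
      have : f w ∈ (Submodule.span F {w}).map f :=
        Submodule.mem_map_of_mem (Submodule.mem_span_singleton_self w)
      rw [hf2] at this
      exact this
    set φ : Module.Dual F V := (f (X w))⁻¹ • f with hφ
    have hφw : φ w = 0 := by simp [hφ, hfw]
    have hφXw : φ (X w) = 1 := by simp [hφ, hf1]
    -- the invariant complement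
    set W' : Submodule F V := W ⊓ LinearMap.ker φ ⊓ LinearMap.ker (φ.comp X) with hW'
    have hmemW' : ∀ u, u ∈ W' ↔ u ∈ W ∧ φ u = 0 ∧ φ (X u) = 0 := by
      intro u
      rw [hW', Submodule.mem_inf, Submodule.mem_inf, LinearMap.mem_ker, LinearMap.mem_ker,
        LinearMap.comp_apply, and_assoc]
    have hW'inv : ∀ u ∈ W', X u ∈ W' := by
      intro u hu
      rw [hmemW'] at hu ⊢
      refine ⟨hW u hu.1, hu.2.2, ?_⟩
      rw [hX, map_smul, hu.2.1, smul_zero]
    have hW'le : W' ≤ W := fun u hu => ((hmemW' u).mp hu).1
    have hW'lt : W' < W := by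
      refine lt_of_le_of_ne hW'le ?_
      intro h
      have : w ∈ W' := by rw [h]; exact hwW
      rw [hmemW', hφXw] at this
      exact one_ne_zero this.2.2
    have hlt : Module.finrank F W' < k := by
      rw [← hk]; exact Submodule.finrank_lt_finrank_of_lt hW'lt
    obtain ⟨ι', hι'f, b', τ', c', hb'li, hb'span, hτ', hc', hXb'⟩ := ih _ hlt W' rfl hW'inv
    -- the two new vectors
    let b₂ : Bool → V := fun β => cond β (X w) w
    have hcomb : ∀ g : Bool → F, φ (∑ i, g i • b₂ i) = g true ∧
        φ (X (∑ i, g i • b₂ i)) = g false := by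
      intro g
      rw [Fintype.sum_bool]
      simp only [b₂, cond_true, cond_false, map_add, map_smul, hX, hφw, hφXw, smul_eq_mul,
        mul_one, mul_zero, add_zero, zero_add]
      exact ⟨trivial, trivial⟩
    have hb₂li : LinearIndependent F b₂ := by
      rw [Fintype.linearIndependent_iff]
      intro g hg
      have h := hcomb g
      rw [hg, map_zero, map_zero, map_zero] at h
      have h1 : g true = 0 := h.1.symm
      have h2 : g false = 0 := h.2.symm
      intro i
      cases i
      · exact h2
      · exact h1
    have hdisj : Disjoint (Submodule.span F (Set.range b')) (Submodule.span F (Set.range b₂)) := by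
      rw [hb'span, Submodule.disjoint_def]
      intro u hu hu2
      rw [Submodule.mem_span_range_iff_exists_fun] at hu2
      obtain ⟨g, rfl⟩ := hu2
      rw [hmemW'] at hu
      have h := hcomb g
      rw [hu.2.1, hu.2.2] at h
      have h1 : g true = 0 := h.1.symm
      have h2 : g false = 0 := h.2.symm
      rw [Fintype.sum_bool, h1, h2, zero_smul, zero_smul, add_zero]
    have hspan : Submodule.span F (Set.range (Sum.elim b' b₂)) = W := by
      rw [Set.Sum.elim_range, Submodule.span_union, hb'span]
      apply le_antisymm
      · apply sup_le hW'le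
        rw [Submodule.span_le]
        rintro _ ⟨β, rfl⟩
        cases β
        · exact hwW
        · exact hW w hwW
      · intro u hu
        rw [Submodule.mem_sup]
        let g : Bool → F := fun β => cond β (φ u) (φ (X u))
        have hg := hcomb g
        refine ⟨u - ∑ i, g i • b₂ i, ?_, ∑ i, g i • b₂ i, ?_, sub_add_cancel _ _⟩
        · rw [hmemW']
          refine ⟨?_, ?_, ?_⟩
          · apply W.sub_mem hu
            apply W.sum_mem
            intro β _
            apply W.smul_mem
            cases β
            · exact hwW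
            · exact hW w hwW
          · rw [map_sub, hg.1]
            exact sub_self _
          · rw [map_sub, map_sub, hg.2]
            exact sub_self _
        · rw [Submodule.mem_span_range_iff_exists_fun]
          exact ⟨g, rfl⟩
    refine ⟨ι' ⊕ Bool, inferInstance, Sum.elim b' b₂, Sum.map τ' not,
      Sum.elim c' (fun β => cond β z 1), hb'li.sum_type hb₂li hdisj, hspan, ?_, ?_, ?_⟩
    · rintro (i | β)
      · simp [hτ' i]
      · simp
    · rintro (i | β)
      · exact hc' i
      · cases β
        · exact one_ne_zero
        · exact hz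
    · rintro (i | β)
      · exact hXb' i
      · cases β
        · simp [b₂]
        · simp [b₂, hX]

end lin

end Cfsg.Agent.Lib.Helper99_Monomial
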