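import Mathlib
import Cfsg.Agent.Lib.Helper99_Monomial

set_option autoImplicit false

namespace Cfsg.Agent.Lib.Helper99_SympPlanes

variable {F V : Type*} [Field F] [AddCommGroup V] [Module F V]

/-- nondegeneracy of the restriction of `B` to `W` -/
def NonDeg (B : LinearMap.BilinForm F V) (W : Submodule F V) : Prop :=
  ∀ w ∈ W, w ≠ 0 → ∃ w' ∈ W, B w w' ≠ 0

/-- the part of `W` orthogonal to `u` and `v` -/
def perpIn (B : LinearMap.BilinForm F V) (W : Submodule F V) (u v : V) : Submodule F V :=
  W ⊓ LinearMap.ker (B.flip u) ⊓ LinearMap.ker (B.flip v)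

lemma mem_perpIn (B : LinearMap.BilinForm F V) (W : Submodule F V) (u v w : V) :
    w ∈ perpIn B W u v ↔ w ∈ W ∧ B w u = 0 ∧ B w v = 0 := by
  simp only [perpIn, Submodule.mem_inf, LinearMap.mem_ker, LinearMap.BilinForm.flip_apply,
    and_assoc]

lemma perpIn_le (B : LinearMap.BilinForm F V) (W : Submodule F V) (u v : V) :
    perpIn B W u v ≤ W := fun w hw => ((mem_perpIn B W u v w).mp hw).1

section alt
variable (B : LinearMap.BilinForm F V) (halt : ∀ v, B v v = 0)
include halt

lemma skew (u v : V) : B u v = - B v u := by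
  have h := halt (u + v)
  simp only [map_add, LinearMap.add_apply, halt u, halt v, zero_add, add_zero] at h
  linear_combination h

lemma sub_proj_mem (W : Submodule F V) {u v : V} (hu : u ∈ W) (hv : v ∈ W) (hβ : B u v ≠ 0)
    {w : V} (hw : w ∈ W) :
    w - ((B w v / B u v) • u - (B w u / B u v) • v) ∈ perpIn B W u v := by
  rw [mem_perpIn]
  refine ⟨W.sub_mem hw (W.sub_mem (W.smul_mem _ hu) (W.smul_mem _ hv)), ?_, ?_⟩
  · simp only [map_sub, map_smul, LinearMap.sub_apply, LinearMap.smul_apply, smul_eq_mul, halt u]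
    rw [skew B halt v u]
    field_simp
    ring
  · simp only [map_sub, map_smul, LinearMap.sub_apply, LinearMap.smul_apply, smul_eq_mul, halt v]
    field_simp
    ring

lemma perpIn_nonDeg (W : Submodule F V) {u v : V} (hu : u ∈ W) (hv : v ∈ W) (hβ : B u v ≠ 0)
    (hnd : NonDeg B W) : NonDeg B (perpIn B W u v) := by
  intro w hw hw0
  obtain ⟨hwW, hwu, hwv⟩ := (mem_perpIn B W u v w).mp hw
  obtain ⟨y, hy, hwy⟩ := hnd w hwW hw0
  refine ⟨_, sub_proj_mem B halt W hu hv hβ hy, ?_⟩
  simp only [map_sub, map_smul, smul_eq_mul, hwu, hwv, mul_zero, sub_zero]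
  exact hwy

omit halt in
lemma perpIn_lt (W : Submodule F V) {u v : V} (hu : u ∈ W) (hβ : B u v ≠ 0) :
    perpIn B W u v < W := by
  refine lt_of_le_of_ne (perpIn_le B W u v) ?_
  intro h
  have : u ∈ perpIn B W u v := by rw [h]; exact hu
  rw [mem_perpIn] at this
  exact hβ this.2.2

lemma span_pair_sup_perpIn (W : Submodule F V) {u v : V} (hu : u ∈ W) (hv : v ∈ W)
    (hβ : B u v ≠ 0) : Submodule.span F {u, v} ⊔ perpIn B W u v = W := by
  apply le_antisymm
  · apply sup_le _ (perpIn_le B W u v)
    rw [Submodule.span_le]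
    intro x hx
    rcases hx with rfl | rfl
    · exact hu
    · exact hv
  · intro w hw
    rw [Submodule.mem_sup]
    refine ⟨(B w v / B u v) • u - (B w u / B u v) • v, ?_, _, sub_proj_mem B halt W hu hv hβ hw, ?_⟩
    · apply Submodule.sub_mem
      · exact Submodule.smul_mem _ _ (Submodule.subset_span (by simp))
      · exact Submodule.smul_mem _ _ (Submodule.subset_span (by simp))
    · abel

end alt


/-- `W` is an orthogonal sum of hyperbolic planes permuted by `X` -/
def HasPlanes (B : LinearMap.BilinForm F V) (X : Module.End F V) (W : Submodule F V) : Prop :=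
  ∃ (ι : Type) (_ : Fintype ι) (u v : ι → V) (τ : ι → ι), Function.Involutive τ ∧
    (∀ i, B (u i) (v i) ≠ 0) ∧
    (∀ i j, i ≠ j → B (u i) (u j) = 0 ∧ B (u i) (v j) = 0 ∧ B (v i) (u j) = 0 ∧
      B (v i) (v j) = 0) ∧
    Submodule.span F (Set.range u ∪ Set.range v) = W ∧
    (∀ i, X (u i) ∈ Submodule.span F {u (τ i), v (τ i)} ∧
      X (v i) ∈ Submodule.span F {u (τ i), v (τ i)})

/-- if `B w ·` vanishes on `u, v` then it vanishes on their span -/
lemma B_eq_zero_of_mem_span_pair (B : LinearMap.BilinForm F V) {w u v y : V} (hu : B w u = 0)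
    (hv : B w v = 0) (hy : y ∈ Submodule.span F {u, v}) : B w y = 0 := by
  rw [Submodule.mem_span_pair] at hy
  obtain ⟨a, b, rfl⟩ := hy
  rw [map_add, map_smul, map_smul, hu, hv, smul_zero, smul_zero, add_zero]

section steps
variable (B : LinearMap.BilinForm F V) (halt : ∀ v, B v v = 0) (X : Module.End F V) (z : F)
  (hz : z ≠ 0) (hX : ∀ v, X (X v) = z • v) (hB : ∀ u v, B (X u) (X v) = B u v)
include halt hz hX hB

omit halt in
lemma B_X_left (w y : V) : B (X w) y = z⁻¹ * B w (X y) := by
  have h1 : y = X (z⁻¹ • X y) := by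
    rw [map_smul, hX, smul_smul, inv_mul_cancel₀ hz, one_smul]
  conv_lhs => rw [h1]
  rw [hB, map_smul, smul_eq_mul]

omit hB hX hz halt in
lemma step_empty (X : Module.End F V) : HasPlanes B X ⊥ := by
  refine ⟨Empty, inferInstance, fun e => e.elim, fun e => e.elim, id, fun _ => rfl,
    fun e => e.elim, fun e => e.elim, ?_, fun e => e.elim⟩
  simp

/-- splitting off one invariant hyperbolic plane -/
lemma step_single (W : Submodule F V) (hW : ∀ w ∈ W, X w ∈ W) (hnd : NonDeg B W)
    {u₀ v₀ : V} (hu₀ : u₀ ∈ W) (hv₀ : v₀ ∈ W) (hβ : B u₀ v₀ ≠ 0)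
    (hXu : X u₀ ∈ Submodule.span F {u₀, v₀}) (hXv : X v₀ ∈ Submodule.span F {u₀, v₀})
    (ih : ∀ W' : Submodule F V, W' < W → (∀ w ∈ W', X w ∈ W') → NonDeg B W' →
      HasPlanes B X W') : HasPlanes B X W := by
  have hW'inv : ∀ w ∈ perpIn B W u₀ v₀, X w ∈ perpIn B W u₀ v₀ := by
    intro w hw
    rw [mem_perpIn] at hw ⊢
    refine ⟨hW w hw.1, ?_, ?_⟩
    · rw [B_X_left B X z hz hX hB, B_eq_zero_of_mem_span_pair B hw.2.1 hw.2.2 hXu, mul_zero]
    · rw [B_X_left B X z hz hX hB, B_eq_zero_of_mem_span_pair B hw.2.1 hw.2.2 hXv, mul_zero]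
  obtain ⟨ι', hι', u', v', τ', hτ', hne', horth', hspan', hXmap'⟩ :=
    ih _ (perpIn_lt B W hu₀ hβ) hW'inv (perpIn_nonDeg B halt W hu₀ hv₀ hβ hnd)
  have hu'mem : ∀ i, u' i ∈ perpIn B W u₀ v₀ := by
    intro i
    rw [← hspan']
    exact Submodule.subset_span (Or.inl ⟨i, rfl⟩)
  have hv'mem : ∀ i, v' i ∈ perpIn B W u₀ v₀ := by
    intro i
    rw [← hspan']
    exact Submodule.subset_span (Or.inr ⟨i, rfl⟩)
  refine ⟨ι' ⊕ Unit, inferInstance, Sum.elim u' (fun _ => u₀), Sum.elim v' (fun _ => v₀),
    Sum.map τ' id, ?_, ?_, ?_, ?_, ?_⟩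
  · rintro (i | i)
    · simp [hτ' i]
    · rfl
  · rintro (i | i)
    · exact hne' i
    · exact hβ
  · rintro (i | i) (j | j) hij
    · exact horth' i j (fun h => hij (by rw [h]))
    · have h1 := (mem_perpIn B W u₀ v₀ _).mp (hu'mem i)
      have h2 := (mem_perpIn B W u₀ v₀ _).mp (hv'mem i)
      exact ⟨h1.2.1, h1.2.2, h2.2.1, h2.2.2⟩
    · have h1 := (mem_perpIn B W u₀ v₀ _).mp (hu'mem j)
      have h2 := (mem_perpIn B W u₀ v₀ _).mp (hv'mem j)
      refine ⟨?_, ?_, ?_, ?_⟩
      · change B u₀ (u' j) = 0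
        rw [skew B halt, h1.2.1, neg_zero]
      · change B u₀ (v' j) = 0
        rw [skew B halt, h2.2.1, neg_zero]
      · change B v₀ (u' j) = 0
        rw [skew B halt, h1.2.2, neg_zero]
      · change B v₀ (v' j) = 0
        rw [skew B halt, h2.2.2, neg_zero]
    · exact absurd rfl hij
  · apply le_antisymm
    · rw [Submodule.span_le]
      rintro x (⟨i | i, rfl⟩ | ⟨i | i, rfl⟩)
      · exact perpIn_le B W u₀ v₀ (hu'mem i)
      · exact hu₀
      · exact perpIn_le B W u₀ v₀ (hv'mem i)
      · exact hv₀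
    · rw [← span_pair_sup_perpIn B halt W hu₀ hv₀ hβ, ← hspan']
      apply sup_le
      · apply Submodule.span_mono
        intro x hx
        rcases hx with rfl | rfl
        · exact Or.inl ⟨Sum.inr (), rfl⟩
        · exact Or.inr ⟨Sum.inr (), rfl⟩
      · apply Submodule.span_mono
        rintro x (⟨i, rfl⟩ | ⟨i, rfl⟩)
        · exact Or.inl ⟨Sum.inl i, rfl⟩
        · exact Or.inr ⟨Sum.inl i, rfl⟩
  · rintro (i | i)
    · exact hXmap' i
    · exact ⟨hXu, hXv⟩

/-- splitting off two orthogonal hyperbolic planes swapped by `X` -/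
lemma step_pair (W : Submodule F V) (hW : ∀ w ∈ W, X w ∈ W) (hnd : NonDeg B W)
    {u₀ v₀ : V} (hu₀ : u₀ ∈ W) (hv₀ : v₀ ∈ W) (hβ : B u₀ v₀ ≠ 0)
    (h1 : B u₀ (X u₀) = 0) (h2 : B u₀ (X v₀) = 0) (h3 : B v₀ (X u₀) = 0) (h4 : B v₀ (X v₀) = 0)
    (ih : ∀ W' : Submodule F V, W' < W → (∀ w ∈ W', X w ∈ W') → NonDeg B W' →
      HasPlanes B X W') : HasPlanes B X W := by
  set W₁ := perpIn B W u₀ v₀ with hW₁
  have hXu₀ : X u₀ ∈ W₁ := by
    rw [hW₁, mem_perpIn]
    refine ⟨hW _ hu₀, ?_, ?_⟩
    · rw [skew B halt, h1, neg_zero]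
    · rw [skew B halt, h3, neg_zero]
  have hXv₀ : X v₀ ∈ W₁ := by
    rw [hW₁, mem_perpIn]
    refine ⟨hW _ hv₀, ?_, ?_⟩
    · rw [skew B halt, h2, neg_zero]
    · rw [skew B halt, h4, neg_zero]
  have hβ' : B (X u₀) (X v₀) ≠ 0 := by rw [hB]; exact hβ
  have hnd₁ : NonDeg B W₁ := perpIn_nonDeg B halt W hu₀ hv₀ hβ hnd
  set W₂ := perpIn B W₁ (X u₀) (X v₀) with hW₂
  have hnd₂ : NonDeg B W₂ := perpIn_nonDeg B halt W₁ hXu₀ hXv₀ hβ' hnd₁
  have hlt : W₂ < W := lt_trans (perpIn_lt B W₁ hXu₀ hβ') (perpIn_lt B W hu₀ hβ)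
  have hmem₂ : ∀ w, w ∈ W₂ ↔ w ∈ W ∧ B w u₀ = 0 ∧ B w v₀ = 0 ∧ B w (X u₀) = 0 ∧
      B w (X v₀) = 0 := by
    intro w
    rw [hW₂, mem_perpIn, hW₁, mem_perpIn]
    tauto
  have hW₂inv : ∀ w ∈ W₂, X w ∈ W₂ := by
    intro w hw
    rw [hmem₂] at hw ⊢
    obtain ⟨hw0, hw1, hw2, hw3, hw4⟩ := hw
    refine ⟨hW w hw0, ?_, ?_, ?_, ?_⟩
    · rw [B_X_left B X z hz hX hB, hw3, mul_zero]
    · rw [B_X_left B X z hz hX hB, hw4, mul_zero]
    · rw [hB, hw1]
    · rw [hB, hw2]
  obtain ⟨ι', hι', u', v', τ', hτ', hne', horth', hspan', hXmap'⟩ := ih _ hlt hW₂inv hnd₂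
  have hu'mem : ∀ i, u' i ∈ W₂ := by
    intro i
    rw [← hspan']
    exact Submodule.subset_span (Or.inl ⟨i, rfl⟩)
  have hv'mem : ∀ i, v' i ∈ W₂ := by
    intro i
    rw [← hspan']
    exact Submodule.subset_span (Or.inr ⟨i, rfl⟩)
  refine ⟨ι' ⊕ Bool, inferInstance, Sum.elim u' (fun β => cond β (X u₀) u₀),
    Sum.elim v' (fun β => cond β (X v₀) v₀), Sum.map τ' not, ?_, ?_, ?_, ?_, ?_⟩
  · rintro (i | i)
    · simp [hτ' i]
    · simp
  · rintro (i | i)
    · exact hne' i
    · cases i
      · exact hβ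
      · exact hβ'
  · rintro (i | i) (j | j) hij
    · exact horth' i j (fun h => hij (by rw [h]))
    · have hu := (hmem₂ _).mp (hu'mem i)
      have hv := (hmem₂ _).mp (hv'mem i)
      cases j
      · exact ⟨hu.2.1, hu.2.2.1, hv.2.1, hv.2.2.1⟩
      · exact ⟨hu.2.2.2.1, hu.2.2.2.2, hv.2.2.2.1, hv.2.2.2.2⟩
    · have hu := (hmem₂ _).mp (hu'mem j)
      have hv := (hmem₂ _).mp (hv'mem j)
      cases i
      · refine ⟨?_, ?_, ?_, ?_⟩
        · change B u₀ (u' j) = 0
          rw [skew B halt, hu.2.1, neg_zero]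
        · change B u₀ (v' j) = 0
          rw [skew B halt, hv.2.1, neg_zero]
        · change B v₀ (u' j) = 0
          rw [skew B halt, hu.2.2.1, neg_zero]
        · change B v₀ (v' j) = 0
          rw [skew B halt, hv.2.2.1, neg_zero]
      · refine ⟨?_, ?_, ?_, ?_⟩
        · change B (X u₀) (u' j) = 0
          rw [skew B halt, hu.2.2.2.1, neg_zero]
        · change B (X u₀) (v' j) = 0
          rw [skew B halt, hv.2.2.2.1, neg_zero]
        · change B (X v₀) (u' j) = 0
          rw [skew B halt, hu.2.2.2.2, neg_zero]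
        · change B (X v₀) (v' j) = 0
          rw [skew B halt, hv.2.2.2.2, neg_zero]
    · cases i <;> cases j
      · exact absurd rfl hij
      · exact ⟨h1, h2, h3, h4⟩
      · refine ⟨?_, ?_, ?_, ?_⟩
        · change B (X u₀) u₀ = 0
          rw [skew B halt, h1, neg_zero]
        · change B (X u₀) v₀ = 0
          rw [skew B halt, h3, neg_zero]
        · change B (X v₀) u₀ = 0
          rw [skew B halt, h2, neg_zero]
        · change B (X v₀) v₀ = 0
          rw [skew B halt, h4, neg_zero]
      · exact absurd rfl hij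
  · apply le_antisymm
    · rw [Submodule.span_le]
      rintro x (⟨i | i, rfl⟩ | ⟨i | i, rfl⟩)
      · exact ((hmem₂ _).mp (hu'mem i)).1
      · cases i
        · exact hu₀
        · exact hW _ hu₀
      · exact ((hmem₂ _).mp (hv'mem i)).1
      · cases i
        · exact hv₀
        · exact hW _ hv₀
    · rw [← span_pair_sup_perpIn B halt W hu₀ hv₀ hβ, ← hW₁,
        ← span_pair_sup_perpIn B halt W₁ hXu₀ hXv₀ hβ', ← hW₂, ← hspan']
      refine sup_le ?_ (sup_le ?_ ?_)
      · apply Submodule.span_mono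
        intro x hx
        rcases hx with rfl | rfl
        · exact Or.inl ⟨Sum.inr false, rfl⟩
        · exact Or.inr ⟨Sum.inr false, rfl⟩
      · apply Submodule.span_mono
        intro x hx
        rcases hx with rfl | rfl
        · exact Or.inl ⟨Sum.inr true, rfl⟩
        · exact Or.inr ⟨Sum.inr true, rfl⟩
      · apply Submodule.span_mono
        rintro x (⟨i, rfl⟩ | ⟨i, rfl⟩)
        · exact Or.inl ⟨Sum.inl i, rfl⟩
        · exact Or.inr ⟨Sum.inl i, rfl⟩
  · rintro (i | i)
    · exact hXmap' i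
    · cases i
      · constructor
        · exact Submodule.subset_span (by simp)
        · exact Submodule.subset_span (by simp)
      · constructor
        · change X (X u₀) ∈ Submodule.span F {u₀, v₀}
          rw [hX]
          exact Submodule.smul_mem _ _ (Submodule.subset_span (by simp))
        · change X (X v₀) ∈ Submodule.span F {u₀, v₀}
          rw [hX]
          exact Submodule.smul_mem _ _ (Submodule.subset_span (by simp))

end steps

section main
variable [FiniteDimensional F V] (B : LinearMap.BilinForm F V) (halt : ∀ v, B v v = 0)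
  (X : Module.End F V) (z : F) (hz : z ≠ 0) (hX : ∀ v, X (X v) = z • v)
  (hB : ∀ u v, B (X u) (X v) = B u v)
include halt hz hX hB

/-- every nondegenerate `X`-invariant subspace is an orthogonal sum of hyperbolic planes permuted
by `X`, when `X` is an isometry whose square is a scalar. -/
theorem hasPlanes :
    ∀ (k : ℕ) (W : Submodule F V), Module.finrank F W = k → (∀ w ∈ W, X w ∈ W) → NonDeg B W →
      HasPlanes B X W := by
  intro k
  induction k using Nat.strong_induction_on with
  | _ k ih =>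
  intro W hk hW hnd
  have ih' : ∀ W' : Submodule F V, W' < W → (∀ w ∈ W', X w ∈ W') → NonDeg B W' →
      HasPlanes B X W' := by
    intro W' hlt hinv hnd'
    exact ih _ (by rw [← hk]; exact Submodule.finrank_lt_finrank_of_lt hlt) W' rfl hinv hnd'
  by_cases hW0 : W = ⊥
  · rw [hW0]; exact step_empty B X
  by_cases hA : ∃ w ∈ W, B w (X w) ≠ 0
  · obtain ⟨w, hw, hne⟩ := hA
    apply step_single B halt X z hz hX hB W hW hnd hw (hW w hw) hne _ _ ih'
    · exact Submodule.subset_span (by simp)
    · rw [hX]; exact Submodule.smul_mem _ _ (Submodule.subset_span (by simp))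
  · have hB0 : ∀ w ∈ W, B w (X w) = 0 := by
      intro w hw
      by_contra h
      exact hA ⟨w, hw, h⟩
    have hpol : ∀ a ∈ W, ∀ b ∈ W, B a (X b) + B b (X a) = 0 := by
      intro a ha b hb
      have h := hB0 (a + b) (W.add_mem ha hb)
      simp only [map_add, LinearMap.add_apply, hB0 a ha, hB0 b hb, zero_add, add_zero] at h
      linear_combination h
    by_cases hall : ∀ w ∈ W, ∃ μ : F, X w = μ • w
    · obtain ⟨w, hw, hw0⟩ := (Submodule.ne_bot_iff W).mp hW0
      obtain ⟨w', hw', hne⟩ := hnd w hw hw0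
      obtain ⟨μ, hμ⟩ := hall w hw
      obtain ⟨μ', hμ'⟩ := hall w' hw'
      apply step_single B halt X z hz hX hB W hW hnd hw hw' hne _ _ ih'
      · rw [hμ]; exact Submodule.smul_mem _ _ (Submodule.subset_span (by simp))
      · rw [hμ']; exact Submodule.smul_mem _ _ (Submodule.subset_span (by simp))
    · rw [not_forall] at hall
      obtain ⟨w, hall⟩ := hall
      rw [Classical.not_imp] at hall
      obtain ⟨hwW, hw⟩ := hall
      rw [not_exists] at hw
      have hXw0 : X w ≠ 0 := by
        intro h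
        exact hw 0 (by rw [h, zero_smul])
      obtain ⟨y, hy, hXwy⟩ := hnd (X w) (hW w hwW) hXw0
      have hclaim : ∃ a ∈ W, B a (X w) = 0 ∧ B a w ≠ 0 := by
        by_contra hcon
        have hcon' : ∀ a ∈ W, B a (X w) = 0 → B a w = 0 := by
          intro a ha h1
          by_contra h2
          exact hcon ⟨a, ha, h1, h2⟩
        have hyXw : B y (X w) ≠ 0 := by
          rw [skew B halt]; exact neg_ne_zero.mpr hXwy
        set y' := (B y (X w))⁻¹ • y with hy'
        have hy'1 : B y' (X w) = 1 := by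
          rw [hy', map_smul, LinearMap.smul_apply, smul_eq_mul, inv_mul_cancel₀ hyXw]
        have hy'W : y' ∈ W := W.smul_mem _ hy
        set κ := B y' w with hκ
        have h3 : ∀ a ∈ W, B a (w - κ • X w) = 0 := by
          intro a ha
          have h4 := hcon' (a - B a (X w) • y') (W.sub_mem ha (W.smul_mem _ hy'W)) (by
            rw [map_sub, LinearMap.sub_apply, map_smul, LinearMap.smul_apply, hy'1, smul_eq_mul,
              mul_one, sub_self])
          rw [map_sub, LinearMap.sub_apply, map_smul, LinearMap.smul_apply, smul_eq_mul] at h4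
          rw [map_sub, map_smul, smul_eq_mul]
          linear_combination h4
        have h5 : w - κ • X w = 0 := by
          by_contra hne
          obtain ⟨a, ha, hne'⟩ := hnd _ (W.sub_mem hwW (W.smul_mem _ (hW w hwW))) hne
          apply hne'
          rw [skew B halt, h3 a ha, neg_zero]
        have h6 : X w = (κ * z) • w := by
          have h7 : w = κ • X w := sub_eq_zero.mp h5
          conv_lhs => rw [h7]
          rw [map_smul, hX, smul_smul]
        exact hw _ h6
      obtain ⟨a, ha, ha1, ha2⟩ := hclaim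
      apply step_pair B halt X z hz hX hB W hW hnd ha hwW ha2 (hB0 a ha) ha1 _ (hB0 w hwW) ih'
      have := hpol a ha w hwW
      rw [ha1, zero_add] at this
      exact this

end main

open Cfsg.Agent.Lib.Helper99_Monomial


/-- a family of hyperbolic pairs that are pairwise orthogonal is linearly independent -/
lemma linearIndependent_of_planes (B : LinearMap.BilinForm F V) (halt : ∀ v, B v v = 0)
    {ι : Type} [Fintype ι] (u v : ι → V) (hne : ∀ i, B (u i) (v i) ≠ 0)
    (horth : ∀ i j, i ≠ j → B (u i) (u j) = 0 ∧ B (u i) (v j) = 0 ∧ B (v i) (u j) = 0 ∧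
      B (v i) (v j) = 0) : LinearIndependent F (Sum.elim u v) := by
  classical
  rw [Fintype.linearIndependent_iff]
  intro g hg
  rw [Fintype.sum_sum_type] at hg
  simp only [Sum.elim_inl, Sum.elim_inr] at hg
  have key : ∀ y : V, ∑ i, g (Sum.inl i) * B (u i) y + ∑ i, g (Sum.inr i) * B (v i) y = 0 := by
    intro y
    have := congrArg (fun x => B x y) hg
    simpa [map_sum, LinearMap.sum_apply] using this
  rintro (i₀ | i₀)
  · have h := key (v i₀)
    rw [Finset.sum_eq_single i₀, Finset.sum_eq_zero, add_zero] at h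
    · rcases mul_eq_zero.mp h with h | h
      · exact h
      · exact absurd h (hne i₀)
    · intro i _
      by_cases hi : i = i₀
      · rw [hi, halt, mul_zero]
      · rw [(horth i i₀ hi).2.2.2, mul_zero]
    · intro i _ hi
      rw [(horth i i₀ hi).2.1, mul_zero]
    · intro h; exact absurd (Finset.mem_univ _) h
  · have h := key (u i₀)
    rw [Finset.sum_eq_zero, zero_add, Finset.sum_eq_single i₀] at h
    · rcases mul_eq_zero.mp h with h | h
      · exact h
      · exfalso
        apply hne i₀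
        rw [skew B halt, h, neg_zero]
    · intro i _ hi
      rw [(horth i i₀ hi).2.2.1, mul_zero]
    · intro h; exact absurd (Finset.mem_univ _) h
    · intro i _
      by_cases hi : i = i₀
      · rw [hi, halt, mul_zero]
      · rw [(horth i i₀ hi).1, mul_zero]

/-- if `B w ·` vanishes on a set then it vanishes on its span -/
lemma B_eq_zero_of_mem_span (B : LinearMap.BilinForm F V) {w : V} {S : Set V}
    (hS : ∀ s ∈ S, B w s = 0) {y : V} (hy : y ∈ Submodule.span F S) : B w y = 0 := by
  have : Submodule.span F S ≤ LinearMap.ker (B w) := by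
    rw [Submodule.span_le]
    intro s hs
    exact hS s hs
  exact this hy

/-- if `B · y` vanishes on a set then it vanishes on its span -/
lemma B_eq_zero_of_mem_span_left (B : LinearMap.BilinForm F V) {y : V} {S : Set V}
    (hS : ∀ s ∈ S, B s y = 0) {w : V} (hw : w ∈ Submodule.span F S) : B w y = 0 := by
  have : Submodule.span F S ≤ LinearMap.ker (B.flip y) := by
    rw [Submodule.span_le]
    intro s hs
    exact hS s hs
  exact this hw

/-- An isometry `X` of a nondegenerate alternating space of dimension `2 a' t` whose square is a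
non-zero scalar permutes the summands of an orthogonal decomposition into `t` nondegenerate
subspaces of dimension `2 a'`. -/
theorem exists_orthogonal_decomposition [FiniteDimensional F V] (B : LinearMap.BilinForm F V)
    (halt : ∀ v, B v v = 0) (hnd : NonDeg B ⊤)
    (X : Module.End F V) (z : F) (hz : z ≠ 0) (hX : ∀ v, X (X v) = z • v)
    (hB : ∀ u v, B (X u) (X v) = B u v) (a' t : ℕ) (hdim : Module.finrank F V = 2 * a' * t) :
    ∃ D : Fin t → Submodule F V, (∀ j, Module.finrank F (D j) = 2 * a') ∧ iSupIndep D ∧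
      iSup D = ⊤ ∧ (∀ j, NonDeg B (D j)) ∧
      (∀ j j', j ≠ j' → ∀ u ∈ D j, ∀ v ∈ D j', B u v = 0) ∧
      ∃ σ : Equiv.Perm (Fin t), ∀ j, (D j).map X = D (σ j) := by
  classical
  obtain ⟨ι, hι, u, v, τ, hτ, hne, horth, hspan, hXmap⟩ :=
    hasPlanes B halt X z hz hX hB _ ⊤ rfl (fun _ _ => trivial) hnd
  set e : ι ⊕ ι → V := Sum.elim u v with he
  have hli : LinearIndependent F e := linearIndependent_of_planes B halt u v hne horth
  have hspan' : Submodule.span F (Set.range e) = ⊤ := by
    rw [he, Set.Sum.elim_range]; exact hspan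
  have hcardι : Fintype.card ι = a' * t := by
    have := finrank_span_eq_card hli
    rw [hspan', finrank_top, hdim, Fintype.card_sum] at this
    have h2 : 2 * (a' * t) = 2 * Fintype.card ι := by rw [← mul_assoc, this]; ring
    omega
  obtain ⟨J, hJf, P, σ, hJc, hPc, -, hPd, hPσ⟩ := exists_blocks τ hτ a' t Finset.univ
    (fun _ _ => Finset.mem_univ _) (by rw [Finset.card_univ, hcardι])
  have hcover : ∀ i : ι, ∃ j, i ∈ P j := by
    have h1 : (Finset.univ.biUnion P).card = Fintype.card ι := by
      rw [Finset.card_biUnion (fun j _ j' _ hjj' => hPd j j' hjj')]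
      simp only [hPc, Finset.sum_const, Finset.card_univ, smul_eq_mul, hJc, hcardι]
      exact mul_comm _ _
    have h2 := Finset.eq_univ_of_card _ h1
    intro i
    have : i ∈ Finset.univ.biUnion P := by rw [h2]; exact Finset.mem_univ i
    rw [Finset.mem_biUnion] at this
    obtain ⟨j, -, hj⟩ := this
    exact ⟨j, hj⟩
  let eJ : J ≃ Fin t := Fintype.equivFinOfCardEq hJc
  let pr : ι ⊕ ι → ι := Sum.elim id id
  let Q : Fin t → Set (ι ⊕ ι) := fun j => {k | pr k ∈ P (eJ.symm j)}
  let D : Fin t → Submodule F V := fun j => Submodule.span F (e '' Q j)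
  have hplane : ∀ i (j : Fin t), i ∈ P (eJ.symm j) →
      Submodule.span F {u i, v i} ≤ D j := by
    intro i j hi
    apply Submodule.span_mono
    intro x hx
    rcases hx with rfl | rfl
    · exact ⟨Sum.inl i, hi, rfl⟩
    · exact ⟨Sum.inr i, hi, rfl⟩
  have heorth : ∀ k l : ι ⊕ ι, pr k ≠ pr l → B (e k) (e l) = 0 := by
    rintro (k | k) (l | l) hkl
    · exact (horth k l hkl).1
    · exact (horth k l hkl).2.1
    · exact (horth k l hkl).2.2.1
    · exact (horth k l hkl).2.2.2
  have hDorth : ∀ j j', j ≠ j' → ∀ x ∈ D j, ∀ y ∈ D j', B x y = 0 := by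
    intro j j' hjj' x hx y hy
    apply B_eq_zero_of_mem_span_left B _ hx
    rintro _ ⟨k, hk, rfl⟩
    apply B_eq_zero_of_mem_span B _ hy
    rintro _ ⟨l, hl, rfl⟩
    apply heorth
    intro hkl
    have hne' : eJ.symm j ≠ eJ.symm j' := fun h => hjj' (eJ.symm.injective h)
    have hl' : pr k ∈ P (eJ.symm j') := by rw [hkl]; exact hl
    exact Finset.disjoint_left.mp (hPd _ _ hne') hk hl'
  have htop : iSup D = ⊤ := by
    rw [eq_top_iff, ← hspan', Submodule.span_le]
    rintro _ ⟨k, rfl⟩
    obtain ⟨j, hj⟩ := hcover (pr k)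
    apply Submodule.mem_iSup_of_mem (eJ j)
    apply Submodule.subset_span
    refine ⟨k, ?_, rfl⟩
    change pr k ∈ P (eJ.symm (eJ j))
    rw [Equiv.symm_apply_apply]
    exact hj
  refine ⟨D, ?_, ?_, htop, ?_, hDorth, eJ.permCongr σ, ?_⟩
  · -- dimensions
    intro j
    let f : {i // i ∈ P (eJ.symm j)} ⊕ {i // i ∈ P (eJ.symm j)} → ι ⊕ ι :=
      Sum.map Subtype.val Subtype.val
    have hf : Function.Injective f :=
      Sum.map_injective.mpr ⟨Subtype.val_injective, Subtype.val_injective⟩
    have hli' : LinearIndependent F (e ∘ f) := hli.comp f hf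
    have hrange : Set.range (e ∘ f) = e '' Q j := by
      rw [Set.range_comp]
      congr 1
      ext k
      constructor
      · rintro ⟨(i | i), rfl⟩
        · exact i.2
        · exact i.2
      · intro hk
        rcases k with k | k
        · exact ⟨Sum.inl ⟨k, hk⟩, rfl⟩
        · exact ⟨Sum.inr ⟨k, hk⟩, rfl⟩
    have := finrank_span_eq_card hli'
    rw [hrange, Fintype.card_sum, Fintype.card_coe, hPc] at this
    rw [this]; ring
  · -- independence
    rw [iSupIndep_def]
    intro j
    have hle : (⨆ (k) (_ : k ≠ j), D k) ≤ Submodule.span F (e '' (Q j)ᶜ) := by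
      apply iSup₂_le
      intro k hk
      apply Submodule.span_mono
      apply Set.image_mono
      intro l hl hlj
      have hne' : eJ.symm k ≠ eJ.symm j := fun h => hk (eJ.symm.injective h)
      exact Finset.disjoint_left.mp (hPd _ _ hne') hl hlj
    exact (hli.disjoint_span_image disjoint_compl_right).mono_right hle
  · -- nondegeneracy of the summands
    intro j w hw hw0
    by_contra hcon
    have hcon' : ∀ w' ∈ D j, B w w' = 0 := by
      intro w' hw'
      by_contra h
      exact hcon ⟨w', hw', h⟩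
    have hall : ∀ y : V, B w y = 0 := by
      intro y
      have hy : y ∈ iSup D := by rw [htop]; trivial
      have hle : iSup D ≤ LinearMap.ker (B w) := by
        apply iSup_le
        intro j' y' hy'
        rw [LinearMap.mem_ker]
        by_cases hjj' : j = j'
        · subst hjj'
          exact hcon' y' hy'
        · exact hDorth j j' hjj' w hw y' hy'
      exact hle hy
    obtain ⟨y, -, hy⟩ := hnd w trivial hw0
    exact hy (hall y)
  · -- the permutation
    intro j
    have hσj : P (eJ.symm (eJ.permCongr σ j)) = (P (eJ.symm j)).image τ := by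
      rw [Equiv.permCongr_apply, Equiv.symm_apply_apply, hPσ]
    apply le_antisymm
    · change (Submodule.span F (e '' Q j)).map X ≤ _
      rw [Submodule.map_span, Submodule.span_le]
      rintro _ ⟨_, ⟨k, hk, rfl⟩, rfl⟩
      have hτk : τ (pr k) ∈ P (eJ.symm (eJ.permCongr σ j)) := by
        rw [hσj, Finset.mem_image]
        exact ⟨pr k, hk, rfl⟩
      rcases k with k | k
      · exact hplane _ _ hτk (hXmap k).1
      · exact hplane _ _ hτk (hXmap k).2
    · change Submodule.span F (e '' Q (eJ.permCongr σ j)) ≤ _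
      rw [Submodule.span_le]
      rintro _ ⟨l, hl, rfl⟩
      change pr l ∈ P (eJ.symm (eJ.permCongr σ j)) at hl
      rw [hσj, Finset.mem_image] at hl
      obtain ⟨i, hi, hil⟩ := hl
      have hτl : τ (pr l) = i := by rw [← hil, hτ i]
      have h1 : X (e l) ∈ D j := by
        rcases l with l | l
        · have := (hXmap l).1
          change τ l = i at hτl
          rw [hτl] at this
          exact hplane i j hi this
        · have := (hXmap l).2
          change τ l = i at hτl
          rw [hτl] at this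
          exact hplane i j hi this
      have h2 : e l = X (z⁻¹ • X (e l)) := by
        rw [map_smul, hX, smul_smul, inv_mul_cancel₀ hz, one_smul]
      rw [h2]
      exact Submodule.mem_map_of_mem ((D j).smul_mem _ h1)

end Cfsg.Agent.Lib.Helper99_SympPlanes
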