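import Mathlib
import Cfsg.Agent.Lib.Helper99_SpTI
import Cfsg.Agent.Lib.Helper99_SpElt
import Cfsg.Agent.S5961
import Cfsg.Agent.Lib.Helper75_SpTIBound

set_option autoImplicit false

/-!
Package P5 for S5955 (helper99): a symplectic matrix of odd prime order `r` (with `ord_r(q)` even)
none of whose invariant totally isotropic subspaces has dimension `m`, when
`¬ (t + 2 (m / i) ≤ 2 d / i)`.
-/

namespace Cfsg.Agent.Lib.Helper27_SpSpecialElt

open Polynomial Module Cfsg.Agent.Lib.Helper40_SpBasic Cfsg.Agent.Lib.Helper94_Bridge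
open Cfsg.Agent.Lib.Helper40_Palindromic Cfsg.Agent.Lib.Helper40_SpExist
  Cfsg.Agent.Lib.Helper40_SpPrimeOrder Cfsg.Agent.Lib.Helper40_PolyFactors
  Cfsg.Agent.Lib.Helper40_SpExistMatrix Cfsg.Agent.Lib.Helper40_PrimeOrderClasses
  Cfsg.Agent.Lib.Helper99_SpAtoms Cfsg.Agent.Lib.Helper99_PrimeOrderSL

theorem exists_of_data {F : Type*} [Field F] [Fintype F] {p : ℕ} [Fact p.Prime]
    [CharP F p] {r : ℕ} (hr : r.Prime) (hr2 : r ≠ 2) (hrp : r ≠ p)
    (hie : Even (orderOf ((Fintype.card F : ℕ) : ZMod r))) (d : ℕ)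
    (w₀ : F[X]) (S : Finset F[X])
    (hw₀ : w₀.Monic ∧ Irreducible w₀ ∧ w₀ ≠ X - 1 ∧ w₀ ∣ X ^ r - 1 ∧
      w₀.natDegree = orderOf ((Fintype.card F : ℕ) : ZMod r))
    (hS : ∀ w ∈ S, w.Monic ∧ Irreducible w ∧ w ≠ X - 1 ∧ w ∣ X ^ r - 1 ∧
      w.natDegree = orderOf ((Fintype.card F : ℕ) : ZMod r)) (hw₀S : w₀ ∉ S)
    (e₀ a₀ : ℕ) (he₀ : Even e₀)
    (hdeg : e₀ + orderOf ((Fintype.card F : ℕ) : ZMod r) * a₀ +
      orderOf ((Fintype.card F : ℕ) : ZMod r) * S.card = 2 * d) :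
    ∃ A : Matrix (Fin d ⊕ Fin d) (Fin d ⊕ Fin d) F, A ∈ Matrix.symplecticGroup (Fin d) F ∧
      A ^ r = 1 ∧
      ∀ W : Submodule F (Fin d ⊕ Fin d → F), W.map (Matrix.toLin' A) ≤ W →
        (∀ u ∈ W, ∀ v ∈ W, Bsymp d F u v = 0) →
        finrank F W ≤ e₀ / 2 + orderOf ((Fintype.card F : ℕ) : ZMod r) * (a₀ / 2) := by
  classical
  set i := orderOf ((Fintype.card F : ℕ) : ZMod r) with hi
  have hipos : 0 < i := (exists_cyclotomic_factors (F := F) p r hr hrp).1
  have hrev : ∀ w : F[X], w.Monic → Irreducible w → w ≠ X - 1 → w ∣ X ^ r - 1 →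
      w.reverse = w := by
    intro w hwm hwi hw1 hwd
    have hw0 : w.coeff 0 ≠ 0 := coeff_zero_ne_zero_of_dvd r hr.pos w hwd
    have hw11 : w.eval 1 ≠ 0 := eval_one_ne_zero w hwm hwi hw1
    have hrec : recip w = w := recip_eq_of_even p r i hr hi hipos hie w hwm hwi hw1 hwd
    have hc0 : w.coeff 0 = 1 := coeff_zero_eq_one_of_recip_eq w hw0 hrec hw11
    exact reverse_eq_of_recip_eq w hc0 hrec
  have hX1 : ((X : F[X]) - 1) = X - C 1 := by rw [map_one]
  have hX1m : ((X : F[X]) - 1).Monic := by rw [hX1]; exact monic_X_sub_C 1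
  set f : F[X] := (X - 1) ^ e₀ * w₀ ^ a₀ * ∏ w ∈ S, w with hf
  have hSm : (∏ w ∈ S, w).Monic := monic_prod_of_monic S _ (fun w hw => (hS w hw).1)
  have hfm : f.Monic := ((hX1m.pow e₀).mul (hw₀.1.pow a₀)).mul hSm
  have hSdeg : (∏ w ∈ S, w).natDegree = i * S.card := by
    rw [natDegree_prod_of_monic S _ (fun w hw => (hS w hw).1),
      Finset.sum_congr rfl (fun w hw => (hS w hw).2.2.2.2), Finset.sum_const, smul_eq_mul,
      mul_comm]
  have hfdeg : f.natDegree = 2 * d := by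
    rw [hf, ((hX1m.pow e₀).mul (hw₀.1.pow a₀)).natDegree_mul hSm,
      (hX1m.pow e₀).natDegree_mul (hw₀.1.pow a₀), hX1m.natDegree_pow, hw₀.1.natDegree_pow, hX1,
      natDegree_X_sub_C, hw₀.2.2.2.2, hSdeg, mul_one, ← hdeg]
    ring
  have hfrev : f.reverse = f := by
    rw [hf, reverse_mul_of_domain, reverse_mul_of_domain, reverse_X_sub_one_pow e₀ he₀,
      reverse_pow', hrev w₀ hw₀.1 hw₀.2.1 hw₀.2.2.1 hw₀.2.2.2.1, reverse_prod']
    congr 1
    exact Finset.prod_congr rfl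
      (fun w hw => hrev w (hS w hw).1 (hS w hw).2.1 (hS w hw).2.2.1 (hS w hw).2.2.2.1)
  obtain ⟨A, hA, hch, hk⟩ := exists_sp_matrix d f hfm hfdeg hfrev
  have hX1d : ((X : F[X]) - 1) ∣ X ^ r - 1 := by
    have := sub_dvd_pow_sub_pow (X : F[X]) 1 r
    rwa [one_pow] at this
  have hAr : A ^ r = 1 := by
    have h1 := hk (X ^ r - 1) (by
      intro g hg hgf
      rw [hf] at hgf
      rcases hg.prime.dvd_or_dvd hgf with h | h
      · rcases hg.prime.dvd_or_dvd h with h | h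
        · exact (hg.prime.dvd_of_dvd_pow h).trans hX1d
        · exact (hg.prime.dvd_of_dvd_pow h).trans hw₀.2.2.2.1
      · obtain ⟨w, hwS, hgw⟩ := (Prime.dvd_finsetProd_iff hg.prime _).1 h
        exact hgw.trans (hS w hwS).2.2.2.1)
    rw [map_sub, map_pow, aeval_X, map_one, sub_eq_zero] at h1
    exact h1
  refine ⟨A, hA, hAr, ?_⟩
  intro W hWinv hWti
  set T : Module.End F (Fin d ⊕ Fin d → F) := Matrix.toLin' A with hT
  have hTr : T ^ r = 1 := by
    rw [hT, ← Matrix.toLin'_pow, hAr, Matrix.toLin'_one]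
    rfl
  have hiso : IsoData (Bsymp d F) T r :=
    ⟨Bsymp_isAlt d, fun u v => Cfsg.Agent.S5961.Bsymp_iso hA u v, hTr, hr.pos⟩
  have hχ : T.charpoly = (X - 1) ^ e₀ * w₀ ^ a₀ * ∏ w ∈ S, w := by
    rw [hT, Matrix.charpoly_toLin', hch]
  have hInv : Inv T W := by
    intro x hx
    exact hWinv (Submodule.mem_map_of_mem hx)
  exact Cfsg.Agent.Lib.Helper75_SpTIBound.finrank_ti_le_of_charpoly hr hr2 hrp hie hiso (Bsymp_nondegenerate d) w₀ S
    ⟨hw₀.1, hw₀.2.1, hw₀.2.2.1, hw₀.2.2.2.1⟩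
    (fun w hw => ⟨(hS w hw).1, (hS w hw).2.1, (hS w hw).2.2.1, (hS w hw).2.2.2.1⟩) hw₀S e₀ a₀ hχ
    hInv hWti

theorem exists_special_elt {F : Type*} [Field F] [Fintype F] {p : ℕ} [Fact p.Prime]
    [CharP F p] {r : ℕ} (hr : r.Prime) (hr2 : r ≠ 2) (hrp : r ≠ p)
    (hie : Even (orderOf ((Fintype.card F : ℕ) : ZMod r))) (d m : ℕ) (hmd : m ≤ d)
    (him : orderOf ((Fintype.card F : ℕ) : ZMod r) ≤ m)
    (hneg : ¬ ((r - 1) / orderOf ((Fintype.card F : ℕ) : ZMod r) +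
      2 * (m / orderOf ((Fintype.card F : ℕ) : ZMod r)) ≤
        (2 * d) / orderOf ((Fintype.card F : ℕ) : ZMod r))) :
    ∃ A : Matrix (Fin d ⊕ Fin d) (Fin d ⊕ Fin d) F, A ∈ Matrix.symplecticGroup (Fin d) F ∧
      A ^ r = 1 ∧
      ∀ W : Submodule F (Fin d ⊕ Fin d → F), W.map (Matrix.toLin' A) ≤ W →
        (∀ u ∈ W, ∀ v ∈ W, Bsymp d F u v = 0) → finrank F W ≠ m := by
  classical
  obtain ⟨hipos, Wset, hWcard, hW1, -⟩ := exists_cyclotomic_factors (F := F) p r hr hrp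
  set i := orderOf ((Fintype.card F : ℕ) : ZMod r) with hi
  set t := (r - 1) / i with ht
  set n' := (2 * d) / i with hn'
  set m' := m / i with hm'
  have hq0 : ((Fintype.card F : ℕ) : ZMod r) ≠ 0 := by
    rw [Ne, ZMod.natCast_eq_zero_iff]
    intro h
    have hp : p.Prime := Fact.out
    obtain ⟨k, -, hk⟩ := FiniteField.card F p
    rw [hk] at h
    exact hrp ((Nat.prime_dvd_prime_iff_eq hr hp).1 (hr.dvd_of_dvd_pow h))
  have : Fact r.Prime := ⟨hr⟩
  have hedvd : i ∣ r - 1 := ZMod.orderOf_dvd_card_sub_one hq0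
  have hpos : 0 < r - 1 := by have := hr.two_le; omega
  have htpos : 0 < t := Nat.div_pos (Nat.le_of_dvd hpos hedvd) hipos
  have hWpos : 0 < Wset.card := by rw [hWcard]; exact htpos
  obtain ⟨w₀, hw₀W⟩ := Finset.card_pos.1 hWpos
  have hErase : (Wset.erase w₀).card = t - 1 := by
    rw [Finset.card_erase_of_mem hw₀W, hWcard]
  -- arithmetic facts
  have hdm : i * n' + (2 * d) % i = 2 * d := Nat.div_add_mod (2 * d) i
  have hklt : (2 * d) % i < i := Nat.mod_lt _ hipos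
  have hmm : i * m' ≤ m := Nat.mul_div_le m i
  have hn'pos : 0 < n' := Nat.div_pos (by omega) hipos
  have hneg' : n' + 1 ≤ t + 2 * m' := by omega
  have h2i : 2 ∣ i := hie.two_dvd
  by_cases hcase : n' ≤ t
  · -- few blocks
    obtain ⟨S, hSsub, hScard⟩ :=
      Finset.exists_subset_card_eq (s := Wset.erase w₀) (n := n' - 1) (by rw [hErase]; omega)
    have hke : Even ((2 * d) % i) := by
      rw [Nat.even_iff, Nat.mod_mod_of_dvd _ h2i]
      omega
    obtain ⟨A, hA, hAr, hbd⟩ := exists_of_data hr hr2 hrp hie d w₀ S (hW1 w₀ hw₀W)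
      (fun w hw => hW1 w (Finset.mem_of_mem_erase (hSsub hw)))
      (fun h => (Finset.notMem_erase w₀ Wset) (hSsub h)) ((2 * d) % i) 1 hke (by
        rw [hScard, ← hi, mul_one]
        have : i * (n' - 1) + i = i * n' := by
          rw [← Nat.mul_succ]
          congr 1
          omega
        omega)
    refine ⟨A, hA, hAr, ?_⟩
    intro W hWinv hWti hWm
    have := hbd W hWinv hWti
    rw [← hi, hWm] at this
    have h0 : (1 : ℕ) / 2 = 0 := by norm_num
    rw [h0, mul_zero, add_zero] at this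
    omega
  · -- many blocks
    rw [not_le] at hcase
    set c := (n' - t) / 2 with hc
    have hN1 : t + 2 * c ≤ n' := by omega
    have hN2 : n' ≤ t + 2 * c + 1 := by omega
    have hiN : i * (t + 2 * c) ≤ 2 * d := by
      calc i * (t + 2 * c) ≤ i * n' := Nat.mul_le_mul_left i hN1
        _ ≤ 2 * d := by omega
    have hee : Even (2 * d - i * (t + 2 * c)) := by
      rw [Nat.even_sub hiN]
      exact ⟨fun _ => hie.mul_right _, fun _ => even_two_mul d⟩
    obtain ⟨A, hA, hAr, hbd⟩ := exists_of_data hr hr2 hrp hie d w₀ (Wset.erase w₀) (hW1 w₀ hw₀W)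
      (fun w hw => hW1 w (Finset.mem_of_mem_erase hw))
      (Finset.notMem_erase w₀ Wset) (2 * d - i * (t + 2 * c)) (2 * c + 1) hee (by
        rw [hErase, ← hi]
        have h1 : i * (2 * c + 1) + i * (t - 1) = i * (t + 2 * c) := by
          rw [← Nat.mul_add]
          congr 1
          omega
        omega)
    refine ⟨A, hA, hAr, ?_⟩
    intro W hWinv hWti hWm
    have := hbd W hWinv hWti
    rw [← hi, hWm] at this
    have h0 : (2 * c + 1) / 2 = c := by omega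
    rw [h0] at this
    obtain ⟨e', he'⟩ := hee
    have h3 : (2 * d - i * (t + 2 * c)) / 2 = e' := by omega
    rw [h3] at this
    -- 2 m ≤ 2 d - i t
    have h4 : i * (t + 2 * c) = i * t + 2 * (i * c) := by ring
    have h5 : i * (n' + 1) ≤ i * (t + 2 * m') := Nat.mul_le_mul_left i hneg'
    have h6 : i * (n' + 1) = i * n' + i := by ring
    have h7 : i * (t + 2 * m') = i * t + 2 * (i * m') := by ring
    omega

end Cfsg.Agent.Lib.Helper27_SpSpecialElt
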