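import Mathlib
import Cfsg.Agent.Lib.Helper68_StOpDefs

/-!
# S2548 (Steinberg character of `PΩ⁺_{2m}(q)`), package R1D (architect helper27)

`r1D` : (R1) for the last simple root `ε_{m-2} + ε_{m-1}`.  By-products (general, reusable): `wl_mono` (MONOW),
`mul_lxM_apply`, `lx_mem` (XB), `conj_inv_mem_Boo`, `col_QP`, `mid_zero'`.
-/

set_option autoImplicit false
set_option linter.unusedSectionVars false
set_option linter.unusedSimpArgs false
set_option linter.unusedVariables false

namespace Cfsg.Agent.Lib.Helper27_StOp_R1D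

open Matrix Cfsg.Agent.Lib.Helper68_MatGrp Cfsg.Agent.Lib.Helper68_StOpDefs

variable {m : ℕ} {F : Type*} [Field F] [Fintype F]

/-- the Weyl representative is monomial (local copy of MONOW) -/
theorem wl_mono (hm : 3 ≤ m) {a c : I m} (h : LxOK a c) :
    IsMono (φ m F) (wl a c) (Equiv.swap a c * Equiv.swap (op a) (op c)) := by
  obtain ⟨hca, hca'⟩ := h
  have h1 : a ≠ op a := fun e => op_ne_self a e.symm
  have h2 : c ≠ op c := fun e => op_ne_self c e.symm
  have h3 : op a ≠ c := fun e => hca' e.symm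
  have h4 : a ≠ c := fun e => hca e.symm
  have h5 : op c ≠ op a := fun e => hca (op_injective e)
  have h6 : op c ≠ a := fun e => hca' (by rw [← e, op_op])
  intro x y hxy
  rw [wl_val hm ⟨hca, hca'⟩]
  unfold wlM
  simp only [Matrix.sub_apply, Matrix.add_apply, Matrix.one_apply, Matrix.single_apply]
  rw [Equiv.Perm.mul_apply] at hxy
  by_cases hy1 : y = a
  · subst hy1
    rw [Equiv.swap_apply_of_ne_of_ne h1 h6.symm, Equiv.swap_apply_left] at hxy
    by_cases hx : x = y
    · subst hx
      simp [h1, h1.symm, h4, h4.symm, h6, h6.symm, h3, h3.symm, h5, h5.symm, h2, h2.symm]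
    · simp [hx, Ne.symm hx, hxy, Ne.symm hxy, h1, h1.symm, h4, h4.symm, h6, h6.symm, h3, h3.symm,
        h5, h5.symm, h2, h2.symm]
  by_cases hy2 : y = c
  · subst hy2
    rw [Equiv.swap_apply_of_ne_of_ne h3.symm h2, Equiv.swap_apply_right] at hxy
    by_cases hx : x = y
    · subst hx
      simp [h1, h1.symm, h4, h4.symm, h6, h6.symm, h3, h3.symm, h5, h5.symm, h2, h2.symm]
    · simp [hx, Ne.symm hx, hxy, Ne.symm hxy, h1, h1.symm, h4, h4.symm, h6, h6.symm, h3, h3.symm,
        h5, h5.symm, h2, h2.symm]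
  by_cases hy3 : y = op a
  · subst hy3
    rw [Equiv.swap_apply_left, Equiv.swap_apply_of_ne_of_ne h6 h2.symm] at hxy
    by_cases hx : x = op a
    · subst hx
      simp [h1, h1.symm, h4, h4.symm, h6, h6.symm, h3, h3.symm, h5, h5.symm, h2, h2.symm]
    · simp [hx, Ne.symm hx, hxy, Ne.symm hxy, h1, h1.symm, h4, h4.symm, h6, h6.symm, h3, h3.symm,
        h5, h5.symm, h2, h2.symm]
  by_cases hy4 : y = op c
  · subst hy4
    rw [Equiv.swap_apply_right, Equiv.swap_apply_of_ne_of_ne h1.symm h3] at hxy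
    by_cases hx : x = op c
    · subst hx
      simp [h1, h1.symm, h4, h4.symm, h6, h6.symm, h3, h3.symm, h5, h5.symm, h2, h2.symm]
    · simp [hx, Ne.symm hx, hxy, Ne.symm hxy, h1, h1.symm, h4, h4.symm, h6, h6.symm, h3, h3.symm,
        h5, h5.symm, h2, h2.symm]
  rw [Equiv.swap_apply_of_ne_of_ne hy3 hy4, Equiv.swap_apply_of_ne_of_ne hy1 hy2] at hxy
  simp [hxy, Ne.symm hy1, Ne.symm hy2, Ne.symm hy3, Ne.symm hy4]

/-- the entries of a product with a root matrix -/
theorem mul_lxM_apply (M : Matrix (I m) (I m) F) (a c : I m) (s : F) (x y : I m) :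
    (M * lxM a c s) x y = M x y + (if y = c then M x a * s else 0)
      - (if y = op a then M x (op c) * s else 0) := by
  unfold lxM
  simp only [Matrix.mul_add, Matrix.mul_sub, Matrix.mul_one, Matrix.add_apply, Matrix.sub_apply]
  congr 1
  · congr 1
    by_cases h : y = c
    · rw [if_pos h, h, Matrix.mul_single_apply_same]
    · rw [if_neg h, Matrix.mul_single_apply_of_ne _ _ _ _ _ h]
  · by_cases h : y = op a
    · rw [if_pos h, h, Matrix.mul_single_apply_same]
    · rw [if_neg h, Matrix.mul_single_apply_of_ne _ _ _ _ _ h]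

/-- positive root elements are upper triangular (local copy of XB) -/
theorem lx_mem (hm : 3 ≤ m) {a c : I m} (h : LxOK a c) (hlt : ht m a < ht m c) (t : F) :
    lx a c t ∈ Boo m F := by
  rw [mem_Boo]
  intro x y hxy
  rw [lx_val hm h]
  have h0 := mul_lxM_apply (1 : Matrix (I m) (I m) F) a c t x y
  rw [Matrix.one_mul] at h0
  rw [h0]
  have hxy' : x ≠ y := fun e => by rw [e] at hxy; exact lt_irrefl _ hxy
  rw [Matrix.one_apply_ne hxy']
  have e1 : (if y = c then (1 : Matrix (I m) (I m) F) x a * t else 0) = 0 := by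
    split_ifs with h1
    · have hx : x ≠ a := by
        intro e
        rw [e, h1] at hxy
        omega
      rw [Matrix.one_apply_ne hx, zero_mul]
    · rfl
  have e2 : (if y = op a then (1 : Matrix (I m) (I m) F) x (op c) * t else 0) = 0 := by
    split_ifs with h1
    · have hx : x ≠ op c := by
        intro e
        rw [e, h1, ht_op, ht_op] at hxy
        have := ht_lt a
        have := ht_lt c
        omega
      rw [Matrix.one_apply_ne hx, zero_mul]
    · rfl
  rw [e1, e2]
  simp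

/-- conjugation `n g n⁻¹` by a monomial element into `B` -/
theorem conj_inv_mem_Boo {n : GO m F} {σ : Equiv.Perm (I m)}
    (hn : IsMono (φ m F) n σ) (g : GO m F)
    (h : ∀ a b, ht m b < ht m a → φ m F g (σ⁻¹ a) (σ⁻¹ b) = 0) : n * g * n⁻¹ ∈ Boo m F := by
  rw [mem_Boo]
  intro a b hab
  have e : n * g * n⁻¹ = (n⁻¹)⁻¹ * g * n⁻¹ := by rw [inv_inv]
  rw [e, hn.inv.conj_apply g a b, h a b hab, mul_zero, zero_mul]

/-- the columns of an isometry are singular vectors -/
theorem col_QP (g : OO m F) (y : I m) :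
    ∑ l : Fin m, φO m F g (ie l) y * φO m F g (jf l) y = 0 := by
  have h1 := (Cfsg.Agent.Lib.Helper44_Orth.mem_isometryGroup_iff _ g.1).mp g.2 (Pi.single y 1)
  have h2 : (QP m F) (φO m F g *ᵥ Pi.single y 1) = 0 := by
    have : (QP m F) (φO m F g *ᵥ Pi.single y 1) = (QP m F) (Pi.single y 1) := h1
    rw [this, QP_single]
  rw [QP_apply] at h2
  simpa [Matrix.mulVec_single_one] using h2

/-- `c (e_l) (f_l) * c (f_l) (f_l) = 0`-type consequence: if the column `jf l₀` of an upper triangular isometry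
vanishes at `ie l` for all `l > l₀`, then it vanishes at `ie l₀` -/
theorem col_zero {g : OO m F} (hg : g ∈ BO m F) (l₀ : Fin m)
    (h : ∀ l : Fin m, l₀ < l → φO m F g (ie l) (jf l₀) = 0) : φO m F g (ie l₀) (jf l₀) = 0 := by
  have h1 := col_QP g (jf l₀)
  rw [Finset.sum_eq_single l₀] at h1
  · have hd : φO m F g (jf l₀) (jf l₀) ≠ 0 :=
      UT_diag_ne_zero (φO m F) (ht m) (ht_injective m) hg _
    exact (mul_eq_zero.mp h1).resolve_right hd
  · intro l _ hl
    rcases lt_or_gt_of_ne hl with h2 | h2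
    · have : φO m F g (jf l) (jf l₀) = 0 := by
        apply mem_BO.mp hg
        rw [ht_jf, ht_jf]
        have := l.2
        have := l₀.2
        have : l.val < l₀.val := h2
        omega
      rw [this, mul_zero]
    · rw [h l h2, zero_mul]
  · intro h; exact absurd (Finset.mem_univ _) h

/-- MID: the middle entry of an upper triangular isometry vanishes -/
theorem mid_zero' (i : Fin m) (hi : i.val + 1 = m) (b : OO m F) (hb : b ∈ BO m F) :
    φO m F b (ie i) (jf i) = 0 := by
  apply col_zero hb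
  intro l hl
  have : i.val < l.val := hl
  have := l.2
  omega

/-- the values of the permutation `(e_i f_k)(f_i e_k)` and the heights (`k = i + 1 = m - 1`) -/
theorem tauD_cases (i k : Fin m) (hk : i.val + 1 = k.val) (hkm : k.val + 1 = m) (x : I m) :
    ((Equiv.swap (jf i) (ie k) * Equiv.swap (ie i) (jf k)) x = jf k ∧ ht m x = i.val) ∨
    ((Equiv.swap (jf i) (ie k) * Equiv.swap (ie i) (jf k)) x = ie i ∧ ht m x = i.val + 2) ∨
    ((Equiv.swap (jf i) (ie k) * Equiv.swap (ie i) (jf k)) x = ie k ∧ ht m x = i.val + 3) ∨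
    ((Equiv.swap (jf i) (ie k) * Equiv.swap (ie i) (jf k)) x = jf i ∧ ht m x = i.val + 1) ∨
    ((Equiv.swap (jf i) (ie k) * Equiv.swap (ie i) (jf k)) x = x ∧ ht m x ≠ i.val ∧
      ht m x ≠ i.val + 1 ∧ ht m x ≠ i.val + 2 ∧ ht m x ≠ i.val + 3) := by
  have hi' := i.2
  have hk' := k.2
  have hik : i ≠ k := fun e => by rw [e] at hk; omega
  rw [Equiv.Perm.mul_apply]
  by_cases h1 : x = ie i
  · left
    refine ⟨?_, by rw [h1, ht_ie]⟩
    rw [h1, Equiv.swap_apply_left,
      Equiv.swap_apply_of_ne_of_ne (fun e => hik (jf_injective e).symm) (ie_ne_jf k k).symm]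
  by_cases h2 : x = jf k
  · right; left
    refine ⟨?_, by rw [h2, ht_jf]; omega⟩
    rw [h2, Equiv.swap_apply_right,
      Equiv.swap_apply_of_ne_of_ne (ie_ne_jf i i) (fun e => hik (ie_injective e))]
  by_cases h3 : x = jf i
  · right; right; left
    refine ⟨?_, by rw [h3, ht_jf]; omega⟩
    rw [h3, Equiv.swap_apply_of_ne_of_ne (ie_ne_jf i i).symm (fun e => hik (jf_injective e)),
      Equiv.swap_apply_left]
  by_cases h4 : x = ie k
  · right; right; right; left
    refine ⟨?_, by rw [h4, ht_ie]; omega⟩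
    rw [h4, Equiv.swap_apply_of_ne_of_ne (fun e => hik (ie_injective e).symm) (ie_ne_jf k k),
      Equiv.swap_apply_right]
  right; right; right; right
  refine ⟨?_, ?_, ?_, ?_, ?_⟩
  · rw [Equiv.swap_apply_of_ne_of_ne h1 h2, Equiv.swap_apply_of_ne_of_ne h3 h4]
  · intro h
    apply h1
    apply ht_injective m
    rw [ht_ie]; exact h
  · intro h
    apply h4
    apply ht_injective m
    rw [ht_ie]; omega
  · intro h
    apply h2
    apply ht_injective m
    rw [ht_jf]; omega
  · intro h
    apply h3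
    apply ht_injective m
    rw [ht_jf]; omega

/-- the height combinatorics for the last simple root -/
theorem last_heights (i k : Fin m) (hk : i.val + 1 = k.val) (hkm : k.val + 1 = m) {c : GO m F}
    (hc : c ∈ Boo m F) (h1 : φ m F c (ie i) (jf k) = 0) (h2 : φ m F c (ie k) (jf i) = 0)
    (h3 : φ m F c (ie i) (jf i) = 0) (h4 : φ m F c (ie k) (jf k) = 0)
    (a b : I m) (hab : ht m b < ht m a) :
    φ m F c ((Equiv.swap (jf i) (ie k) * Equiv.swap (ie i) (jf k)) a)
      ((Equiv.swap (jf i) (ie k) * Equiv.swap (ie i) (jf k)) b) = 0 := by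
  have hc' := mem_Boo.mp hc
  have hi' := i.2
  have hk' := k.2
  rcases tauD_cases i k hk hkm a with ⟨ha1, ha2⟩ | ⟨ha1, ha2⟩ | ⟨ha1, ha2⟩ | ⟨ha1, ha2⟩ |
      ⟨ha1, ha2, ha3, ha4, ha5⟩ <;>
    rcases tauD_cases i k hk hkm b with ⟨hb1, hb2⟩ | ⟨hb1, hb2⟩ | ⟨hb1, hb2⟩ | ⟨hb1, hb2⟩ |
      ⟨hb1, hb2, hb3, hb4, hb5⟩ <;>
    rw [ha1, hb1] <;>
    first
      | exact h1
      | exact h2
      | exact h3
      | exact h4
      | (exfalso; omega)
      | (apply hc'; (try simp only [ht_ie, ht_jf]); omega)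

/-- **R1D** -/
theorem r1D (hm : 3 ≤ m) (i k : Fin m) (hk : i.val + 1 = k.val) (hkm : k.val + 1 = m)
    (b : GO m F) (hb : b ∈ Boo m F) :
    ∃ t : F, wl (ie i) (jf k) * (b * (lx (ie i) (jf k) t)⁻¹) * (wl (ie i) (jf k))⁻¹ ∈ Boo m F := by
  have hi' := i.2
  have hk' := k.2
  have hik : i ≠ k := fun e => by rw [e] at hk; omega
  have hOK : LxOK (ie i) (jf k) := lxOK_ie_jf hik
  have hlt : ht m (ie i) < ht m (jf k) := by rw [ht_ie, ht_jf]; omega
  have hii : φ m F b (ie i) (ie i) ≠ 0 := UT_diag_ne_zero (φ m F) (ht m) (ht_injective m) hb _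
  set t : F := φ m F b (ie i) (jf k) / φ m F b (ie i) (ie i) with ht'
  refine ⟨t, ?_⟩
  rw [lx_inv]
  set c : GO m F := b * lx (ie i) (jf k) (-t) with hcdef
  have hc : c ∈ Boo m F := (Boo m F).mul_mem hb (lx_mem hm hOK hlt (-t))
  have hc' := mem_Boo.mp hc
  have hcinv : c⁻¹ ∈ Boo m F := (Boo m F).inv_mem hc
  have hcinv' := mem_Boo.mp hcinv
  have hne : (ie i : I m) ≠ jf k := ie_ne_jf i k
  -- the entry `(e_i, f_k)` of `c` vanishes
  have h1 : φ m F c (ie i) (jf k) = 0 := by
    rw [hcdef, map_mul, lx_val hm hOK, mul_lxM_apply]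
    have e1 : ¬ ((jf k : I m) = op (ie i)) := by
      rw [op_ie]; exact fun e => hik (jf_injective e).symm
    rw [if_pos rfl, if_neg e1, ht']
    field_simp
    ring
  -- the middle entry `(e_k, f_k)` of `c` vanishes
  have h4 : φ m F c (ie k) (jf k) = 0 := mid_zero' k hkm c.1 hc
  -- the entry `(e_k, f_i)` of `c` vanishes
  have hcii : φ m F c (ie i) (ie i) ≠ 0 := UT_diag_ne_zero (φ m F) (ht m) (ht_injective m) hc _
  have h5 : φ m F c⁻¹ (ie i) (jf k) = 0 := by
    have e1 : (φ m F c * φ m F c⁻¹) (ie i) (jf k) = 0 := by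
      rw [map_mul_inv (φ m F) c]
      exact Matrix.one_apply_ne hne
    rw [Matrix.mul_apply, Finset.sum_eq_single (ie i)] at e1
    · exact (mul_eq_zero.mp e1).resolve_left hcii
    · intro d _ hd
      by_cases hd1 : ht m d < ht m (ie i)
      · rw [hc' _ _ hd1, zero_mul]
      by_cases hd2 : ht m (jf k) < ht m d
      · rw [hcinv' _ _ hd2, mul_zero]
      have hne1 : ht m d ≠ ht m (ie i) := fun h => hd (ht_injective m h)
      rw [ht_ie] at hd1 hne1
      rw [ht_jf] at hd2
      by_cases hd3 : d = jf k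
      · rw [hd3, h1, zero_mul]
      · have hd4 : d = ie k := by
          apply ht_injective m
          have hne2 : ht m d ≠ ht m (jf k) := fun h => hd3 (ht_injective m h)
          rw [ht_jf] at hne2
          rw [ht_ie]
          omega
        rw [hd4, φ_inv_apply, op_jf, op_ie, h4, mul_zero]
    · intro h; exact absurd (Finset.mem_univ _) h
  have h2 : φ m F c (ie k) (jf i) = 0 := by
    have e : φ m F c⁻¹ (ie i) (jf k) = φ m F c (ie k) (jf i) := by
      rw [φ_inv_apply, op_ie, op_jf]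
    rw [← e, h5]
  -- the entry `(e_i, f_i)` of `c` vanishes
  have h3 : φ m F c (ie i) (jf i) = 0 := by
    apply col_zero (g := c.1) hc i
    intro l hl
    have hl1 : i.val < l.val := hl
    have hl2 := l.2
    have : l = k := Fin.ext (by omega)
    rw [this]
    exact h2
  -- conjugation by `wl (ie i) (jf k)`
  have hmono := wl_mono (F := F) hm hOK
  rw [op_ie, op_jf] at hmono
  apply conj_inv_mem_Boo hmono c
  intro a b' hab
  have hσ : (Equiv.swap (ie i) (jf k) * Equiv.swap (jf i) (ie k) : Equiv.Perm (I m))⁻¹ =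
      Equiv.swap (jf i) (ie k) * Equiv.swap (ie i) (jf k) := by
    rw [_root_.mul_inv_rev, Equiv.swap_inv, Equiv.swap_inv]
  rw [hσ]
  exact last_heights i k hk hkm hc h1 h2 h3 h4 a b' hab

end Cfsg.Agent.Lib.Helper27_StOp_R1D
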