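import Mathlib
import Cfsg.Agent.Lib.Helper75_TZDefs
import Cfsg.Agent.Lib.Helper81_TZW_W1

set_option autoImplicit false
set_option linter.unusedSectionVars false

namespace Cfsg.Agent.Lib.Helper75_TZ

open Matrix Module
open Cfsg.Agent.Lib.Helper5_SpPerfect Cfsg.Agent.Lib.Helper81_SpWeights
  Cfsg.Agent.Lib.Helper81_JointEigen Cfsg.Agent.Lib.Helper81_Heis Cfsg.Agent.Lib.Helper81_WeilLin
  Cfsg.Agent.Lib.Helper81_Schrodinger
open Cfsg.Agent.Lib.Helper81_TZW

section W

variable {F : Type*} [Field F] [Fintype F] [DecidableEq F] {K : Type*} [Field K] [IsAlgClosed K]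
  [CharZero K] {k : ℕ}

namespace W5aux

/-- the sign of the parity `p` -/
def sgn (K : Type*) [Field K] (p : Bool) : K := if p then -1 else 1

theorem mem_funP_iff (p : Bool) (f : (Fin k → F) → K) :
    f ∈ funP k F K p ↔ ∀ t, f (-t) = sgn K p * f t := by
  cases p
  · rw [mem_funP_false]
    simp [sgn]
  · rw [mem_funP_true]
    simp [sgn]

theorem sgn_mul_sgn (p : Bool) : sgn K p * sgn K p = 1 := by
  cases p <;> simp [sgn]

/-- `δ_s + sgn δ_{-s}` -/
def bas (K : Type*) [Field K] (p : Bool) (s : Fin k → F) : (Fin k → F) → K :=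
  Pi.single s 1 + sgn K p • Pi.single (-s) 1

theorem bas_mem (p : Bool) (s : Fin k → F) : bas K p s ∈ funP k F K p := by
  rw [mem_funP_iff]
  intro t
  unfold bas
  simp only [Pi.add_apply, Pi.smul_apply, smul_eq_mul, Pi.single_apply]
  have h1 : (-t = s) ↔ (t = -s) := by
    constructor
    · intro h; rw [← h, neg_neg]
    · intro h; rw [h, neg_neg]
  have h2 : (-t = -s) ↔ (t = s) := neg_inj
  simp only [h1, h2]
  rw [mul_add, ← mul_assoc, W5aux.sgn_mul_sgn, one_mul, add_comm]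

theorem bas_apply_self (h2 : (2 : F) ≠ 0) (p : Bool) (s : Fin k → F) (hs : s ≠ 0) :
    bas K p s s = 1 := by
  unfold bas
  have hne : s ≠ -s := by
    intro h
    apply hs
    funext i
    have h' := congrFun h i
    rw [Pi.neg_apply] at h'
    have h3 : (2 : F) * s i = 0 := by linear_combination h'
    rcases mul_eq_zero.mp h3 with h4 | h4
    · exact absurd h4 h2
    · exact h4
  simp only [Pi.add_apply, Pi.smul_apply, smul_eq_mul, Pi.single_eq_same, Pi.single_eq_of_ne hne,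
    mul_zero, add_zero]

theorem bas_supp (p : Bool) (s t : Fin k → F) (h : bas K p s t ≠ 0) : t = s ∨ t = -s := by
  by_contra hcon
  rw [not_or] at hcon
  apply h
  unfold bas
  simp only [Pi.add_apply, Pi.smul_apply, smul_eq_mul, Pi.single_eq_of_ne hcon.1,
    Pi.single_eq_of_ne hcon.2, mul_zero, add_zero]

theorem rk1S_eq_zero {a : F} (ha : a ≠ 0) (s : Fin k → F) (h : (0 : symSub k F) = rk1S a s) :
    s = 0 := by
  funext i
  have h1 : ((0 : symSub k F)).1 i i = (rk1S a s).1 i i := by rw [← h]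
  have h2 : (0 : F) = a * (s i * s i) := by
    simpa [rk1S, Matrix.smul_apply, vecMulVec_apply] using h1
  rcases mul_eq_zero.mp h2.symm with h3 | h3
  · exact absurd h3 ha
  · rcases mul_eq_zero.mp h3 with h4 | h4 <;> exact h4

theorem rk1S_zero (a : F) : rk1S a (0 : Fin k → F) = 0 := by
  apply Subtype.ext
  show a • vecMulVec (0 : Fin k → F) 0 = 0
  ext i j
  simp

end W5aux

theorem weilP_wsp (ψ₀ : AddChar F K) (hψ₀ : ψ₀ ≠ 1) (h2 : (2 : F) ≠ 0) {a : F} (ha : a ≠ 0)
    (p : Bool) (T : symSub k F) (f : funP k F K p) :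
    f ∈ wsp (weilP ψ₀ hψ₀ h2 a ha k p) ψ₀ T ↔ ∀ s : Fin k → F, f.1 s ≠ 0 → T = rk1S a s := by
  rw [mem_wsp, ← mS_weight_iff h2 hψ₀ a T f.1]
  constructor
  · intro h S
    have h1 := congrArg Subtype.val (h S)
    rw [weilP_apply_coe, weilA_xs_op ψ₀ hψ₀ h2 ha] at h1
    exact h1
  · intro h S
    apply Subtype.ext
    rw [weilP_apply_coe, weilA_xs_op ψ₀ hψ₀ h2 ha]
    exact h S

theorem weilP_rankLeOne (ψ₀ : AddChar F K) (hψ₀ : ψ₀ ≠ 1) (h2 : (2 : F) ≠ 0) {a : F} (ha : a ≠ 0)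
    (p : Bool) : RankLeOne (weilP ψ₀ hψ₀ h2 a ha k p) ψ₀ := by
  intro T hT
  obtain ⟨f, hf, hf0⟩ := (Submodule.ne_bot_iff _).mp hT
  have hex : ∃ s, f.1 s ≠ 0 := by
    by_contra hcon
    simp only [not_exists, not_not] at hcon
    exact hf0 (Subtype.ext (funext hcon))
  obtain ⟨s, hs⟩ := hex
  have := (weilP_wsp ψ₀ hψ₀ h2 ha p T f).mp hf s hs
  exact ⟨a, s, by rw [this]; rfl⟩

theorem weilP_finrank_wsp_le (ψ₀ : AddChar F K) (hψ₀ : ψ₀ ≠ 1) (h2 : (2 : F) ≠ 0) {a : F} (ha : a ≠ 0)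
    (p : Bool) (T : symSub k F) : finrank K (wsp (weilP ψ₀ hψ₀ h2 a ha k p) ψ₀ T) ≤ 1 := by
  by_cases hT : wsp (weilP ψ₀ hψ₀ h2 a ha k p) ψ₀ T = ⊥
  · rw [hT, finrank_bot]
    exact Nat.zero_le 1
  · obtain ⟨f, hf, hf0⟩ := (Submodule.ne_bot_iff _).mp hT
    have hex : ∃ s, f.1 s ≠ 0 := by
      by_contra hcon
      simp only [not_exists, not_not] at hcon
      exact hf0 (Subtype.ext (funext hcon))
    obtain ⟨x, hx⟩ := hex
    have hTx := (weilP_wsp ψ₀ hψ₀ h2 ha p T f).mp hf x hx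
    have hfp := (W5aux.mem_funP_iff p f.1).mp f.2
    apply finrank_le_one (⟨f, hf⟩ : wsp (weilP ψ₀ hψ₀ h2 a ha k p) ψ₀ T)
    rintro ⟨g, hg⟩
    have hgp := (W5aux.mem_funP_iff p g.1).mp g.2
    refine ⟨g.1 x / f.1 x, ?_⟩
    apply Subtype.ext
    apply Subtype.ext
    funext t
    show (g.1 x / f.1 x) * f.1 t = g.1 t
    by_cases hgt : g.1 t = 0
    · by_cases hft : f.1 t = 0
      · rw [hgt, hft, mul_zero]
      · -- `t = ±x`
        have hTt := (weilP_wsp ψ₀ hψ₀ h2 ha p T f).mp hf t hft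
        rcases rk1S_inj h2 ha (hTx.symm.trans hTt) with h | h
        · subst h
          rw [div_mul_cancel₀ _ hx]
        · subst h
          rw [hgp, hfp] at *
          have : g.1 x = 0 := by
            rcases mul_eq_zero.mp hgt with h3 | h3
            · exfalso
              have := W5aux.sgn_mul_sgn (K := K) p
              rw [h3, zero_mul] at this
              exact zero_ne_one this
            · exact h3
          rw [this, zero_div, zero_mul, mul_zero]
    · have hTt := (weilP_wsp ψ₀ hψ₀ h2 ha p T g).mp hg t hgt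
      rcases rk1S_inj h2 ha (hTx.symm.trans hTt) with h | h
      · subst h
        rw [div_mul_cancel₀ _ hx]
      · subst h
        rw [hgp, hfp]
        field_simp

theorem weilP_wsp_ne_bot (ψ₀ : AddChar F K) (hψ₀ : ψ₀ ≠ 1) (h2 : (2 : F) ≠ 0) {a : F} (ha : a ≠ 0)
    (p : Bool) (s : Fin k → F) (hs : s ≠ 0) : wsp (weilP ψ₀ hψ₀ h2 a ha k p) ψ₀ (rk1S a s) ≠ ⊥ := by
  rw [Submodule.ne_bot_iff]
  refine ⟨⟨W5aux.bas K p s, W5aux.bas_mem p s⟩, ?_, ?_⟩
  · rw [weilP_wsp]
    intro t ht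
    rcases W5aux.bas_supp p s t ht with h | h
    · rw [h]
    · rw [h, rk1S_neg]
  · intro h
    have h1 : W5aux.bas K p s s = 0 := congrFun (congrArg Subtype.val h) s
    rw [W5aux.bas_apply_self h2 p s hs] at h1
    exact one_ne_zero h1

theorem weilP_wsp_zero (ψ₀ : AddChar F K) (hψ₀ : ψ₀ ≠ 1) (h2 : (2 : F) ≠ 0) {a : F} (ha : a ≠ 0)
    (p : Bool) : wsp (weilP ψ₀ hψ₀ h2 a ha k p) ψ₀ 0 ≠ ⊥ ↔ p = false := by
  constructor
  · intro h
    obtain ⟨f, hf, hf0⟩ := (Submodule.ne_bot_iff _).mp h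
    cases p
    · rfl
    · exfalso
      apply hf0
      apply Subtype.ext
      funext t
      by_contra hft
      have ht0 := W5aux.rk1S_eq_zero ha t ((weilP_wsp ψ₀ hψ₀ h2 ha true 0 f).mp hf t hft)
      subst ht0
      have hodd := (mem_funP_true f.1).mp f.2 0
      rw [neg_zero] at hodd
      have h3 : (2 : K) * f.1 0 = 0 := by linear_combination hodd
      rcases mul_eq_zero.mp h3 with h4 | h4
      · exact two_ne_zero h4
      · exact hft h4
  · rintro rfl
    rw [Submodule.ne_bot_iff]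
    refine ⟨⟨Pi.single 0 1, ?_⟩, ?_, ?_⟩
    · rw [mem_funP_false]
      intro t
      by_cases ht : t = 0
      · rw [ht, neg_zero]
      · rw [Pi.single_eq_of_ne ht, Pi.single_eq_of_ne (by rwa [ne_eq, neg_eq_zero])]
    · rw [weilP_wsp]
      intro t ht
      have ht0 : t = 0 := by
        by_contra hne
        exact ht (Pi.single_eq_of_ne hne _)
      rw [ht0, W5aux.rk1S_zero]
    · intro h
      have h1 := congrFun (congrArg Subtype.val h) 0
      simp at h1

theorem weilP_centralSign (ψ₀ : AddChar F K) (hψ₀ : ψ₀ ≠ 1) (h2 : (2 : F) ≠ 0) {a : F} (ha : a ≠ 0)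
    (p : Bool) : CentralSign (weilP ψ₀ hψ₀ h2 a ha k p) (if p then -kap ψ₀ a k else kap ψ₀ a k) := by
  intro v
  apply Subtype.ext
  rw [weilP_apply_coe, weilA_negOne ψ₀ hψ₀ h2 ha]
  funext t
  cases p
  · have := (mem_funP_false v.1).mp v.2 t
    simp only [Bool.false_eq_true, if_false]
    show kap ψ₀ a k * par k F K v.1 t = kap ψ₀ a k * v.1 t
    rw [par_apply, this]
  · have := (mem_funP_true v.1).mp v.2 t
    simp only [if_true]
    show kap ψ₀ a k * par k F K v.1 t = -kap ψ₀ a k * v.1 t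
    rw [par_apply, this]
    ring

end W

end Cfsg.Agent.Lib.Helper75_TZ
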