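import Mathlib
import Cfsg.Agent.Lib.Helper75_TZDefs
import Cfsg.Agent.Lib.Helper26_TZ_S8a
import Cfsg.Agent.Lib.Helper26_TZ_S8c
import Cfsg.Agent.Lib.Helper27_TZ_W5
import Cfsg.Agent.Lib.Helper10_TZ_SISO
import Cfsg.Agent.Lib.Helper63_TZ_SRES
import Cfsg.Agent.Lib.Helper85_TZ_SZDEC
import Cfsg.Agent.Lib.Helper31_TZ_GRP_COMM

set_option autoImplicit false
set_option linter.unusedSectionVars false

namespace Cfsg.Agent.Lib.Helper75_TZ

open Matrix Module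
open Cfsg.Agent.Lib.Helper5_SpPerfect Cfsg.Agent.Lib.Helper81_SpWeights
  Cfsg.Agent.Lib.Helper81_JointEigen Cfsg.Agent.Lib.Helper81_Heis Cfsg.Agent.Lib.Helper81_WeilLin
  Cfsg.Agent.Lib.Helper81_Schrodinger

section S2

variable {F : Type*} [Field F] [Fintype F] [DecidableEq F] {m : ℕ} {K : Type*} [Field K]
  [IsAlgClosed K] [CharZero K] {M : Type*} [AddCommGroup M] [Module K M] [FiniteDimensional K M]

namespace S8eaux

omit [Fintype F] [DecidableEq F] in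
/-- `a x xᵀ = a' s sᵀ`, `a ≠ 0`, `x ≠ 0`: then `a = t⁻² a'` for a unit `t` -/
theorem rk1S_eq {k : ℕ} {a a' : F} (ha : a ≠ 0) (x s : Fin k → F) (hx : x ≠ 0)
    (h : rk1S a x = rk1S a' s) : ∃ t : Fˣ, ((t⁻¹ : Fˣ) : F) ^ 2 * a' = a := by
  obtain ⟨i, hi⟩ : ∃ i, x i ≠ 0 := by
    by_contra hcon
    simp only [not_exists, not_not] at hcon
    exact hx (funext hcon)
  have h1 : (rk1S a x).1 i i = (rk1S a' s).1 i i := by rw [h]
  have h2 : a * (x i * x i) = a' * (s i * s i) := by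
    simpa [rk1S, Matrix.smul_apply, vecMulVec_apply] using h1
  have hsi : s i ≠ 0 := by
    intro h0
    rw [h0, mul_zero, mul_zero] at h2
    exact (mul_ne_zero ha (mul_ne_zero hi hi)) h2
  refine ⟨Units.mk0 (x i) hi * (Units.mk0 (s i) hsi)⁻¹, ?_⟩
  rw [mul_inv, inv_inv, Units.val_mul, Units.val_inv_eq_inv_val, Units.val_mk0, Units.val_mk0]
  field_simp
  linear_combination -h2

end S8eaux

/-- every irreducible `G₂`-submodule of `M^Z` is a Weil module -/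
theorem constituent_weil (ψ₀ : AddChar F K) (hψ₀ : ψ₀ ≠ 1) (h2 : (2 : F) ≠ 0)
    (hodd : Odd (Fintype.card F)) (R : SpG (m + 1) F →* Module.End K M) (hrk : RankLeOne R ψ₀)
    (hm : 1 ≤ m) (hirr : IrrRep R) (hnt : ∃ g, R g ≠ 1) (D : Submodule K M)
    (hD0 : D ≤ zsp R ψ₀ 0) (hD : ∀ g : SpG m F, ∀ v ∈ D, (R.comp emb) g v ∈ D)
    (hDirr : IrrRep (subRep (R.comp emb) D hD)) :
    ∃ (a : F) (ha : a ≠ 0) (p : Bool),
      IsoRep (weilP ψ₀ hψ₀ h2 a ha m p) (subRep (R.comp emb) D hD) := by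
  obtain ⟨a, f, ha, hf, hfa, hfg⟩ := exists_embed ψ₀ hψ₀ hodd R hrk hm hirr hnt D hD0 hD hDirr
  obtain ⟨p, hp⟩ := embed_iso ψ₀ hψ₀ h2 hodd R hrk hm ha (subRep (R.comp emb) D hD) hDirr f hf
    hfa hfg
  exact ⟨a, ha, p, hp⟩

theorem constituent_type (ψ₀ : AddChar F K) (hψ₀ : ψ₀ ≠ 1) (h2 : (2 : F) ≠ 0)
    (hodd : Odd (Fintype.card F)) (R : SpG (m + 1) F →* Module.End K M) (hrk : RankLeOne R ψ₀)
    (hm : 1 ≤ m) (hirr : IrrRep R) (hnt : ∃ g, R g ≠ 1) (D : Submodule K M)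
    (hD0 : D ≤ zsp R ψ₀ 0) (hD : ∀ g : SpG m F, ∀ v ∈ D, (R.comp emb) g v ∈ D)
    (hDirr : IrrRep (subRep (R.comp emb) D hD)) {a : F} (ha : a ≠ 0) (x : Fin m → F) (hx : x ≠ 0)
    (d : M) (hd : d ∈ D) (hd0 : d ≠ 0) (hdw : d ∈ wsp R ψ₀ (emS (rk1S a x))) :
    ∃ p : Bool, IsoRep (weilP ψ₀ hψ₀ h2 a ha m p) (subRep (R.comp emb) D hD) := by
  obtain ⟨a', f, ha', hf, hfa, hfg⟩ := exists_embed ψ₀ hψ₀ hodd R hrk hm hirr hnt D hD0 hD hDirr
  obtain ⟨p', hp'⟩ := embed_iso ψ₀ hψ₀ h2 hodd R hrk hm ha' (subRep (R.comp emb) D hD) hDirr f hf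
    hfa hfg
  -- the weight `rk1S a x` occurs in `D`
  have hw1 : (⟨d, hd⟩ : D) ∈ wsp (subRep (R.comp emb) D hD) ψ₀ (rk1S a x) := by
    rw [mem_wsp_subRep]
    exact wsp_res ψ₀ R (rk1S a x) d hdw
  have hne : wsp (subRep (R.comp emb) D hD) ψ₀ (rk1S a x) ≠ ⊥ := by
    intro hbot
    rw [hbot, Submodule.mem_bot] at hw1
    exact hd0 (congrArg Subtype.val hw1)
  -- hence in the Weil module
  have hne' := (isoRep_wsp_ne_bot ψ₀ hp' (rk1S a x)).mpr hne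
  obtain ⟨f₀, hf₀, hf₀ne⟩ := (Submodule.ne_bot_iff _).mp hne'
  have hex : ∃ s, f₀.1 s ≠ 0 := by
    by_contra hcon
    simp only [not_exists, not_not] at hcon
    exact hf₀ne (Subtype.ext (funext hcon))
  obtain ⟨s, hs⟩ := hex
  have hTs := (weilP_wsp ψ₀ hψ₀ h2 ha' p' (rk1S a x) f₀).mp hf₀ s hs
  obtain ⟨t, ht⟩ := S8eaux.rk1S_eq ha x s hx hTs
  -- twist the embedding by `d(t)`
  let f' : D →ₗ[K] M := (R (ds t)).comp f
  have hf' : Function.Injective f' := by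
    intro u u' huu
    apply hf
    have h1 : R (ds t)⁻¹ (R (ds t) (f u)) = R (ds t)⁻¹ (R (ds t) (f u')) := congrArg _ huu
    rwa [← Module.End.mul_apply, ← Module.End.mul_apply, ← map_mul, inv_mul_cancel, map_one] at h1
  have hfa' : ∀ u, f' u ∈ zsp R ψ₀ a := by
    intro u
    have := ds_zsp ψ₀ R t a' (f u) (hfa u)
    rwa [ht] at this
  have hfg' : ∀ g u, f' (subRep (R.comp emb) D hD g u) = R (emb g) (f' u) := by
    intro g u
    show R (ds t) (f (subRep (R.comp emb) D hD g u)) = R (emb g) (R (ds t) (f u))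
    rw [hfg, ← Module.End.mul_apply, ← Module.End.mul_apply, ← map_mul, ← map_mul, ds_comm_emb]
  exact embed_iso ψ₀ hψ₀ h2 hodd R hrk hm ha (subRep (R.comp emb) D hD) hDirr f' hf' hfa' hfg'

end S2

end Cfsg.Agent.Lib.Helper75_TZ
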