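import Mathlib
import Cfsg.Prelude.Def_SporadicCombinatorics

set_option autoImplicit false
open Cfsg

namespace Cfsg.Agent.Lib.Helper27_TernaryGolay

/-- first spanning word of the tetracode -/
def tu : Fin 4 → ZMod 3 := ![0, 1, 1, 1]
/-- second spanning word of the tetracode -/
def tv : Fin 4 → ZMod 3 := ![1, 0, 1, 2]

theorem tetracode_eq : tetracode = Submodule.span (ZMod 3) {tu, tv} := rfl

theorem mem_tetracode_iff (t : Fin 4 → ZMod 3) :
    t ∈ tetracode ↔ ∃ a b : ZMod 3, a • tu + b • tv = t := by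
  rw [tetracode_eq, Submodule.mem_span_pair]

/-- decidable form of the defining condition -/
def IsTG (x : ArrayPt → ZMod 3) : Prop :=
  ∃ s : ZMod 3, (∀ i : Fin 4, ∑ r : ZMod 3, x (i, r) = -s) ∧
    ∀ a b : ZMod 3, ∑ i : Fin 4, x (i, (a • tu + b • tv) i) = s

instance (x : ArrayPt → ZMod 3) : Decidable (IsTG x) := by
  unfold IsTG; infer_instance

theorem isTG_iff (x : ArrayPt → ZMod 3) : IsTernaryGolayWord x ↔ IsTG x := by
  unfold IsTernaryGolayWord IsTG
  constructor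
  · rintro ⟨s, h1, h2⟩
    exact ⟨s, h1, fun a b => h2 _ ((mem_tetracode_iff _).2 ⟨a, b, rfl⟩)⟩
  · rintro ⟨s, h1, h2⟩
    refine ⟨s, h1, fun t ht => ?_⟩
    obtain ⟨a, b, rfl⟩ := (mem_tetracode_iff _).1 ht
    exact h2 a b

theorem mem_code_iff (x : ArrayPt → ZMod 3) : x ∈ ternaryGolayCode ↔ IsTG x :=
  isTG_iff x

/-- a word given by a 4 × 3 array of entries -/
def ofArr (A : Fin 4 → Fin 3 → ZMod 3) : ArrayPt → ZMod 3 := fun p => A p.1 p.2

/-- the systematic generator words -/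
def gen : Fin 6 → ArrayPt → ZMod 3 :=
  ![ofArr ![![1, 0, 0], ![0, 0, 1], ![0, 0, 1], ![1, 1, 2]],
    ofArr ![![0, 1, 0], ![0, 0, 1], ![0, 2, 2], ![2, 0, 2]],
    ofArr ![![0, 0, 1], ![0, 0, 1], ![0, 1, 0], ![2, 1, 1]],
    ofArr ![![0, 0, 0], ![1, 0, 2], ![0, 2, 1], ![2, 1, 0]],
    ofArr ![![0, 0, 0], ![0, 1, 2], ![0, 1, 2], ![0, 1, 2]],
    ofArr ![![0, 0, 0], ![0, 0, 0], ![1, 1, 1], ![2, 2, 2]]]

theorem gen_mem : ∀ j : Fin 6, gen j ∈ ternaryGolayCode := by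
  intro j
  rw [mem_code_iff]
  revert j
  decide


/-- the codeword with given information symbols -/
def cw (a : Fin 6 → ZMod 3) : ArrayPt → ZMod 3 := ∑ j, a j • gen j

/-- the information symbols of a word -/
def info (x : ArrayPt → ZMod 3) : Fin 6 → ZMod 3 :=
  ![x (0, 0), x (0, 1), x (0, 2), x (1, 0), x (1, 1), x (2, 0)]

theorem cw_mem (a : Fin 6 → ZMod 3) : cw a ∈ ternaryGolayCode :=
  Submodule.sum_mem _ fun j _ => Submodule.smul_mem _ _ (gen_mem j)

theorem cw_eq (a : Fin 6 → ZMod 3) : cw a =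
    ofArr ![![a 0, a 1, a 2],
      ![a 3, a 4, a 0 + a 1 + a 2 + 2 * a 3 + 2 * a 4],
      ![a 5, 2 * a 1 + a 2 + 2 * a 3 + a 4 + a 5, a 0 + 2 * a 1 + a 3 + 2 * a 4 + a 5],
      ![a 0 + 2 * a 1 + 2 * a 2 + 2 * a 3 + 2 * a 5, a 0 + a 2 + a 3 + a 4 + 2 * a 5,
        2 * a 0 + 2 * a 1 + a 2 + 2 * a 4 + 2 * a 5]] := by
  funext p
  obtain ⟨i, r⟩ := p
  fin_cases i <;> fin_cases r <;>
    simp [cw, gen, ofArr, Fin.sum_univ_succ] <;> ring

theorem sum3 (f : ZMod 3 → ZMod 3) : ∑ r : ZMod 3, f r = f 0 + f 1 + f 2 :=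
  Fin.sum_univ_three f

theorem eq_cw_info (x : ArrayPt → ZMod 3) (h : x ∈ ternaryGolayCode) : x = cw (info x) := by
  rw [mem_code_iff] at h
  obtain ⟨s, h1, h2⟩ := h
  have h3 : (3 : ZMod 3) = 0 := by decide
  have hc0 := h1 0; rw [sum3] at hc0
  have hc1 := h1 1; rw [sum3] at hc1
  have hc2 := h1 2; rw [sum3] at hc2
  have hc3 := h1 3; rw [sum3] at hc3
  have ht00 := h2 0 0
  rw [show (0 : ZMod 3) • tu + (0 : ZMod 3) • tv = ![0, 0, 0, 0] by decide, Fin.sum_univ_four] at ht00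
  simp only [Matrix.cons_val_zero, Matrix.cons_val_one, Matrix.cons_val] at ht00
  have ht01 := h2 0 1
  rw [show (0 : ZMod 3) • tu + (1 : ZMod 3) • tv = ![1, 0, 1, 2] by decide, Fin.sum_univ_four] at ht01
  simp only [Matrix.cons_val_zero, Matrix.cons_val_one, Matrix.cons_val] at ht01
  have ht02 := h2 0 2
  rw [show (0 : ZMod 3) • tu + (2 : ZMod 3) • tv = ![2, 0, 2, 1] by decide, Fin.sum_univ_four] at ht02
  simp only [Matrix.cons_val_zero, Matrix.cons_val_one, Matrix.cons_val] at ht02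
  have ht10 := h2 1 0
  rw [show (1 : ZMod 3) • tu + (0 : ZMod 3) • tv = ![0, 1, 1, 1] by decide, Fin.sum_univ_four] at ht10
  simp only [Matrix.cons_val_zero, Matrix.cons_val_one, Matrix.cons_val] at ht10
  have ht11 := h2 1 1
  rw [show (1 : ZMod 3) • tu + (1 : ZMod 3) • tv = ![1, 1, 2, 0] by decide, Fin.sum_univ_four] at ht11
  simp only [Matrix.cons_val_zero, Matrix.cons_val_one, Matrix.cons_val] at ht11
  have ht12 := h2 1 2
  rw [show (1 : ZMod 3) • tu + (2 : ZMod 3) • tv = ![2, 1, 0, 2] by decide, Fin.sum_univ_four] at ht12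
  simp only [Matrix.cons_val_zero, Matrix.cons_val_one, Matrix.cons_val] at ht12
  have ht20 := h2 2 0
  rw [show (2 : ZMod 3) • tu + (0 : ZMod 3) • tv = ![0, 2, 2, 2] by decide, Fin.sum_univ_four] at ht20
  simp only [Matrix.cons_val_zero, Matrix.cons_val_one, Matrix.cons_val] at ht20
  have ht21 := h2 2 1
  rw [show (2 : ZMod 3) • tu + (1 : ZMod 3) • tv = ![1, 2, 0, 1] by decide, Fin.sum_univ_four] at ht21
  simp only [Matrix.cons_val_zero, Matrix.cons_val_one, Matrix.cons_val] at ht21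
  have ht22 := h2 2 2
  rw [show (2 : ZMod 3) • tu + (2 : ZMod 3) • tv = ![2, 2, 1, 0] by decide, Fin.sum_univ_four] at ht22
  simp only [Matrix.cons_val_zero, Matrix.cons_val_one, Matrix.cons_val] at ht22
  have e0 : x (0, 0) = 1 * x (0, 0) := by ring
  have e1 : x (0, 1) = 1 * x (0, 1) := by ring
  have e2 : x (0, 2) = 1 * x (0, 2) := by ring
  have e3 : x (1, 0) = 1 * x (1, 0) := by ring
  have e4 : x (1, 1) = 1 * x (1, 1) := by ring
  have e5 : x (1, 2) = 1 * x (0, 0) + 1 * x (0, 1) + 1 * x (0, 2) + 2 * x (1, 0) + 2 * x (1, 1) := by linear_combination (-1) * hc0 + (1) * hc1 + ((-1) * x (1, 0) + (-1) * x (1, 1)) * h3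
  have e6 : x (2, 0) = 1 * x (2, 0) := by ring
  have e7 : x (2, 1) = 2 * x (0, 1) + 1 * x (0, 2) + 2 * x (1, 0) + 1 * x (1, 1) + 1 * x (2, 0) := by linear_combination (-1) * hc0 + (1) * hc3 + (-1) * ht00 + (-1) * ht01 + (-1) * ht10 + ((1) * x (0, 0) + (1) * x (2, 1) + (-1) * s) * h3
  have e8 : x (2, 2) = 1 * x (0, 0) + 2 * x (0, 1) + 1 * x (1, 0) + 2 * x (1, 1) + 1 * x (2, 0) := by linear_combination (1) * hc2 + (-1) * hc3 + (1) * ht00 + (1) * ht01 + (1) * ht10 + ((-1) * x (0, 0) + (-1) * x (0, 1) + (-1) * x (1, 0) + (-1) * x (1, 1) + (-1) * x (2, 0) + (-1) * x (2, 1) + (1) * s) * h3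
  have e9 : x (3, 0) = 1 * x (0, 0) + 2 * x (0, 1) + 2 * x (0, 2) + 2 * x (1, 0) + 2 * x (2, 0) := by linear_combination (1) * hc0 + (1) * ht00 + ((-1) * x (0, 0) + (-1) * x (0, 1) + (-1) * x (0, 2) + (-1) * x (1, 0) + (-1) * x (2, 0)) * h3
  have e10 : x (3, 1) = 1 * x (0, 0) + 1 * x (0, 2) + 1 * x (1, 0) + 1 * x (1, 1) + 2 * x (2, 0) := by linear_combination (-1) * hc0 + (-1) * hc3 + (1) * ht00 + (1) * ht01 + (-1) * ht10 + ((-1) * x (1, 0) + (-1) * x (2, 0) + (1) * x (3, 1) + (1) * s) * h3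
  have e11 : x (3, 2) = 2 * x (0, 0) + 2 * x (0, 1) + 1 * x (0, 2) + 2 * x (1, 1) + 2 * x (2, 0) := by linear_combination (-1) * hc0 + (-1) * hc3 + (1) * ht00 + (-1) * ht01 + (1) * ht10 + ((-1) * x (0, 0) + (-1) * x (1, 1) + (-1) * x (2, 0) + (1) * x (3, 2) + (1) * s) * h3

  rw [cw_eq]
  funext p
  obtain ⟨i, r⟩ := p
  fin_cases i <;> fin_cases r <;> simp [ofArr, info]
  all_goals first
    | rfl
    | linear_combination e5
    | linear_combination e7
    | linear_combination e8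
    | linear_combination e9
    | linear_combination e10
    | linear_combination e11

theorem mem_iff_exists (x : ArrayPt → ZMod 3) : x ∈ ternaryGolayCode ↔ ∃ a, x = cw a :=
  ⟨fun h => ⟨info x, eq_cw_info x h⟩, fun ⟨a, ha⟩ => ha ▸ cw_mem a⟩

theorem info_cw (a : Fin 6 → ZMod 3) : info (cw a) = a := by
  rw [cw_eq]
  funext j
  fin_cases j <;> rfl

theorem cw_injective : Function.Injective cw := fun a b h => by
  rw [← info_cw a, ← info_cw b, h]

theorem gen_dot : ∀ j k : Fin 6, gen j ⬝ᵥ gen k = 0 := by decide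

theorem cw_dot (a b : Fin 6 → ZMod 3) : cw a ⬝ᵥ cw b = 0 := by
  unfold cw
  rw [sum_dotProduct]
  refine Finset.sum_eq_zero fun j _ => ?_
  rw [dotProduct_sum]
  refine Finset.sum_eq_zero fun k _ => ?_
  rw [smul_dotProduct, dotProduct_smul, gen_dot, smul_zero, smul_zero]

/-- explicit form of `cw` (good for kernel evaluation) -/
def cwx (a : Fin 6 → ZMod 3) : ArrayPt → ZMod 3 :=
    ofArr ![![a 0, a 1, a 2],
      ![a 3, a 4, a 0 + a 1 + a 2 + 2 * a 3 + 2 * a 4],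
      ![a 5, 2 * a 1 + a 2 + 2 * a 3 + a 4 + a 5, a 0 + 2 * a 1 + a 3 + 2 * a 4 + a 5],
      ![a 0 + 2 * a 1 + 2 * a 2 + 2 * a 3 + 2 * a 5, a 0 + a 2 + a 3 + a 4 + 2 * a 5,
        2 * a 0 + 2 * a 1 + a 2 + 2 * a 4 + 2 * a 5]]

theorem cw_eq_cwx : cw = cwx := funext cw_eq

/-- weight of the codeword with information symbols `a` -/
def wt (a : Fin 6 → ZMod 3) : ℕ := (ternarySupport (cwx a)).card

theorem card_code : Nat.card ↥ternaryGolayCode = 729 := by
  have e : (Fin 6 → ZMod 3) ≃ ↥ternaryGolayCode :=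
    Equiv.ofBijective (fun a => ⟨cw a, cw_mem a⟩)
      ⟨fun a b h => cw_injective (Subtype.ext_iff.1 h),
       fun ⟨x, hx⟩ => ⟨info x, Subtype.ext (eq_cw_info x hx).symm⟩⟩
  rw [← Nat.card_congr e, Nat.card_eq_fintype_card, Fintype.card_fun, ZMod.card, Fintype.card_fin]
  norm_num

/-- transfer of counting problems to the information symbols -/
theorem ncard_code_filter (P : (ArrayPt → ZMod 3) → Prop) [DecidablePred P] :
    {x : ArrayPt → ZMod 3 | x ∈ ternaryGolayCode ∧ P x}.ncard =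
      (Finset.univ.filter (fun a : Fin 6 → ZMod 3 => P (cwx a))).card := by
  have : {x : ArrayPt → ZMod 3 | x ∈ ternaryGolayCode ∧ P x} =
      cwx '' ↑(Finset.univ.filter (fun a : Fin 6 → ZMod 3 => P (cwx a))) := by
    ext x
    simp only [Set.mem_ofPred_eq, Set.mem_image, Finset.coe_filter, Finset.mem_univ, true_and]
    constructor
    · rintro ⟨hx, hP⟩
      obtain ⟨a, rfl⟩ := (mem_iff_exists x).1 hx
      rw [cw_eq_cwx] at hP ⊢
      exact ⟨a, hP, rfl⟩
    · rintro ⟨a, hP, rfl⟩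
      exact ⟨cw_eq_cwx ▸ cw_mem a, hP⟩
  rw [this, Set.ncard_image_of_injective _ (cw_eq_cwx ▸ cw_injective), Set.ncard_coe_finset]

set_option maxRecDepth 100000 in
theorem wt_cases : ∀ a : Fin 6 → ZMod 3, wt a = 0 ∨ wt a = 6 ∨ wt a = 9 ∨ wt a = 12 := by
  unfold wt; decide

set_option maxRecDepth 100000 in
theorem count_wt6 : (Finset.univ.filter (fun a : Fin 6 → ZMod 3 => (ternarySupport (cwx a)).card = 6)).card = 264 := by
  decide

set_option maxRecDepth 100000 in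
theorem count_wt9 : (Finset.univ.filter (fun a : Fin 6 → ZMod 3 => (ternarySupport (cwx a)).card = 9)).card = 440 := by
  decide

set_option maxRecDepth 100000 in
theorem count_wt12 : (Finset.univ.filter (fun a : Fin 6 → ZMod 3 => (ternarySupport (cwx a)).card = 12)).card = 24 := by
  decide

theorem support_card_eq_zero {x : ArrayPt → ZMod 3} (h : (ternarySupport x).card = 0) : x = 0 := by
  funext p
  by_contra hp
  have : p ∈ ternarySupport x := by
    simp only [ternarySupport, Finset.mem_filter, Finset.mem_univ, true_and]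
    exact hp
  rw [Finset.card_eq_zero] at h
  simp [h] at this

theorem dot_eq_zero {x y : ArrayPt → ZMod 3} (hx : x ∈ ternaryGolayCode) (hy : y ∈ ternaryGolayCode) :
    x ⬝ᵥ y = 0 := by
  obtain ⟨a, rfl⟩ := (mem_iff_exists x).1 hx
  obtain ⟨b, rfl⟩ := (mem_iff_exists y).1 hy
  exact cw_dot a b

theorem sum12 (f : ArrayPt → ZMod 3) : ∑ p, f p =
    f (0, 0) + f (0, 1) + f (0, 2) + (f (1, 0) + f (1, 1) + f (1, 2)) +
    (f (2, 0) + f (2, 1) + f (2, 2)) + (f (3, 0) + f (3, 1) + f (3, 2)) := by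
  rw [Fintype.sum_prod_type, Fin.sum_univ_four]
  simp only [sum3]

end Cfsg.Agent.Lib.Helper27_TernaryGolay
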