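import Mathlib
import Cfsg.Agent.Lib.Helper27_Bitmask
import Cfsg.Agent.Lib.Helper27_TernaryGolay

set_option autoImplicit false
open Cfsg

/-!
The hexads (supports of the weight-6 words) of the ternary code of length 12, as bitmasks.
-/

namespace Cfsg.Agent.Lib.Helper27_TernaryHexads

open Cfsg.Agent.Lib.Helper27_Bitmask Cfsg.Agent.Lib.Helper27_TernaryGolay

/-- numbering of the twelve array positions -/
def ptNum (p : ArrayPt) : ℕ := 3 * p.1.val + (p.2 : ZMod 3).val

theorem ptNum_lt (p : ArrayPt) : ptNum p < 12 := by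
  revert p; decide

theorem ptNum_injective : Function.Injective ptNum := by
  intro p q; revert p q; decide

theorem ptNum_surj : ∀ i < 12, ∃ p, ptNum p = i := by decide

/-- numbering as an embedding -/
def ePt : ArrayPt ↪ ℕ := ⟨ptNum, ptNum_injective⟩

/-- mask of the support of the codeword with information symbols `a` -/
def hmask (a : Fin 6 → ZMod 3) : ℕ := mask ePt (ternarySupport (cwx a))

/-- decode a base-3 number into information symbols -/
def dec (c : ℕ) : Fin 6 → ZMod 3 := fun j => ((c / 3 ^ j.val % 3 : ℕ) : ZMod 3)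

/-- table of the 132 hexads: (mask, code of a word with that support) -/
def hexTable : List (ℕ × ℕ) :=
    [(63, 229), (222, 696), (237, 289), (243, 574), (347, 439), (366, 318), (373, 667), (413, 154),
    (427, 61), (438, 102), (455, 499), (504, 594), (591, 565), (630, 579), (633, 379), (667, 112),
    (679, 22), (700, 117), (725, 415), (746, 543), (791, 97), (813, 37), (826, 192), (860, 711),
    (867, 247), (910, 66), (945, 163), (969, 514), (978, 327), (996, 252), (1117, 604), (1127, 259),
    (1146, 354), (1175, 187), (1198, 39), (1209, 190), (1227, 301), (1268, 657), (1295, 49), (1331,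
    85), (1340, 144), (1366, 417), (1385, 541), (1434, 219), (1445, 10), (1484, 279), (1489, 325),
    (1506, 489), (1566, 156), (1579, 34), (1589, 100), (1619, 652), (1644, 306), (1677, 64), (1714,
    165), (1734, 264), (1752, 432), (1761, 487), (1817, 217), (1830, 12), (1861, 262), (1866, 516),
    (1904, 567), (1923, 7), (1940, 90), (1960, 27), (2135, 346), (2155, 517), (2172, 441), (2191,
    43), (2229, 91), (2234, 138), (2265, 703), (2278, 255), (2334, 120), (2343, 25), (2361, 109),
    (2381, 307), (2418, 651), (2451, 166), (2476, 63), (2506, 273), (2516, 576), (2529, 244), (2589,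
    208), (2606, 48), (2611, 169), (2650, 462), (2661, 496), (2710, 174), (2729, 55), (2755, 250),
    (2764, 522), (2800, 324), (2827, 58), (2868, 171), (2886, 507), (2897, 568), (2920, 270), (2949,
    19), (2968, 189), (2978, 3), (3099, 142), (3117, 73), (3126, 183), (3150, 552), (3185, 406),
    (3228, 225), (3235, 4), (3269, 505), (3282, 570), (3304, 513), (3349, 172), (3370, 57), (3395,
    493), (3416, 675), (3428, 495), (3462, 21), (3465, 28), (3504, 81), (3591, 13), (3640, 108),
    (3657, 271), (3668, 333), (3682, 246), (3722, 30), (3729, 82), (3748, 9), (3852, 36), (3858,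
    84), (3873, 1), (4032, 243)]

/-- the masks of the 132 hexads -/
def hexMasks : List ℕ := hexTable.map Prod.fst

set_option maxRecDepth 100000 in
theorem check_fwd : ∀ a : Fin 6 → ZMod 3, (ternarySupport (cwx a)).card = 6 → hmask a ∈ hexMasks := by
  decide

set_option maxRecDepth 100000 in
theorem check_bwd : ∀ t ∈ hexTable, hmask (dec t.2) = t.1 ∧ popc 12 t.1 = 6 := by
  decide

set_option maxRecDepth 100000 in
theorem check_exists : ∀ n ∈ List.range 4096, popc 12 n = 5 → ∃ m ∈ hexMasks, n &&& m = n := by
  decide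

set_option maxRecDepth 100000 in
theorem check_unique : ∀ m ∈ hexMasks, ∀ m' ∈ hexMasks, 5 ≤ popc 12 (m &&& m') → m = m' := by
  decide

set_option maxRecDepth 100000 in
theorem check_nodup : hexMasks.Nodup ∧ hexMasks.length = 132 := by
  decide

/-- the family of hexads: supports of the weight-6 codewords -/
def hexads : Set (Finset ArrayPt) :=
  {h | ∃ x ∈ ternaryGolayCode, ternarySupport x = h ∧ h.card = 6}

/-- every mask in the table is the mask of the support of a weight-6 codeword -/
theorem exists_of_mem_hexMasks {m : ℕ} (hm : m ∈ hexMasks) :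
    ∃ b : Finset ArrayPt, b ∈ hexads ∧ mask ePt b = m := by
  obtain ⟨t, ht, rfl⟩ := List.mem_map.1 hm
  obtain ⟨h1, h2⟩ := check_bwd t ht
  refine ⟨ternarySupport (cwx (dec t.2)), ⟨cwx (dec t.2), cw_eq_cwx ▸ cw_mem _, rfl, ?_⟩, h1⟩
  rw [← popc_mask ePt 12 ptNum_lt, ← h2]
  exact congrArg (popc 12) h1

theorem mem_hexads_iff (b : Finset ArrayPt) : b ∈ hexads ↔ mask ePt b ∈ hexMasks := by
  constructor
  · rintro ⟨x, hx, rfl, hcard⟩
    obtain ⟨a, rfl⟩ := (mem_iff_exists x).1 hx
    rw [cw_eq_cwx] at hcard ⊢
    exact check_fwd a hcard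
  · intro hm
    obtain ⟨b', hb', hmask⟩ := exists_of_mem_hexMasks hm
    rwa [← mask_injective ePt hmask]

theorem hexads_steiner : IsSteinerSystem 5 6 hexads := by
  refine ⟨fun b hb => ?_, fun s hs => ?_⟩
  · obtain ⟨x, _, _, h⟩ := hb; exact h
  · have hlt := mask_lt ePt 12 ptNum_lt s
    have hpop : popc 12 (mask ePt s) = 5 := by rw [popc_mask ePt 12 ptNum_lt, hs]
    obtain ⟨m, hm, hsm⟩ := check_exists (mask ePt s) (List.mem_range.2 hlt) hpop
    obtain ⟨b, hb, rfl⟩ := exists_of_mem_hexMasks hm
    have hsb : s ⊆ b := (mask_subset_iff ePt s b).2 hsm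
    refine ⟨b, ⟨hb, hsb⟩, ?_⟩
    rintro b' ⟨hb', hsb'⟩
    have hm' := (mem_hexads_iff b').1 hb'
    apply mask_injective ePt
    apply check_unique _ hm' _ hm
    rw [← mask_inter, popc_mask ePt 12 ptNum_lt, ← hs]
    exact Finset.card_le_card (Finset.subset_inter hsb' hsb)

theorem hexads_ncard : hexads.ncard = 132 := by
  have himg : mask ePt '' hexads = ↑hexMasks.toFinset := by
    ext n
    simp only [Set.mem_image, Finset.mem_coe, List.mem_toFinset]
    constructor
    · rintro ⟨b, hb, rfl⟩
      exact (mem_hexads_iff b).1 hb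
    · intro hn
      obtain ⟨b, hb, rfl⟩ := exists_of_mem_hexMasks hn
      exact ⟨b, hb, rfl⟩
  rw [← Set.ncard_image_of_injective _ (mask_injective ePt), himg, Set.ncard_coe_finset,
    List.toFinset_card_of_nodup check_nodup.1, check_nodup.2]

end Cfsg.Agent.Lib.Helper27_TernaryHexads
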