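import Mathlib
import Cfsg.Agent.Lib.Helper27_TernaryGolay
import Cfsg.Agent.Lib.Helper27_TernaryHexads

set_option autoImplicit false
open Cfsg

/-! Monomial automorphisms of the ternary code of length 12: group structure and an explicit
stabilizer chain. -/

namespace Cfsg.Agent.Lib.Helper27_TernaryAut

open Cfsg.Agent.Lib.Helper27_TernaryGolay Cfsg.Agent.Lib.Helper27_TernaryHexads
  Cfsg.Agent.Lib.Helper27_Bitmask

section generic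
variable {α F : Type*} [Field F]

/-- the monomial map as a linear map -/
def monoL (σ : Equiv.Perm α) (c : α → Fˣ) : (α → F) →ₗ[F] (α → F) where
  toFun := monomialMap σ c
  map_add' x y := by funext i; simp only [monomialMap, Pi.add_apply, mul_add]
  map_smul' r x := by
    funext i
    simp only [monomialMap, Pi.smul_apply, smul_eq_mul, RingHom.id_apply]
    ring

theorem monoL_apply (σ : Equiv.Perm α) (c : α → Fˣ) (x : α → F) :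
    monoL σ c x = monomialMap σ c x := rfl

theorem monomialMap_comp (σ τ : Equiv.Perm α) (c d : α → Fˣ) (x : α → F) :
    monomialMap σ c (monomialMap τ d x) =
      monomialMap (σ * τ) (fun i => c i * d (σ.symm i)) x := by
  funext i
  simp only [monomialMap, Units.val_mul, mul_assoc]
  rfl

theorem monomialMap_one (x : α → F) :
    monomialMap (1 : Equiv.Perm α) (fun _ => (1 : Fˣ)) x = x := by
  funext i
  simp only [monomialMap, Units.val_one, one_mul]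
  rfl

/-- the inverse coefficient vector -/
def invCoef (σ : Equiv.Perm α) (c : α → Fˣ) : α → Fˣ := fun i => (c (σ i))⁻¹

theorem monomialMap_inv_comp (σ : Equiv.Perm α) (c : α → Fˣ) (x : α → F) :
    monomialMap σ⁻¹ (invCoef σ c) (monomialMap σ c x) = x := by
  rw [monomialMap_comp]
  have h1 : σ⁻¹ * σ = 1 := inv_mul_cancel σ
  have h2 : (fun i => invCoef σ c i * c ((σ⁻¹ : Equiv.Perm α).symm i)) = fun _ => (1 : Fˣ) := by
    funext i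
    simp only [invCoef]
    have : (σ⁻¹ : Equiv.Perm α).symm i = σ i := rfl
    rw [this, inv_mul_cancel]
  rw [h1, h2, monomialMap_one]

end generic

/-- the monomial map preserves the ternary code -/
def Pres (σ : Equiv.Perm ArrayPt) (c : ArrayPt → (ZMod 3)ˣ) : Prop :=
  ∀ x ∈ ternaryGolayCode, monomialMap σ c x ∈ ternaryGolayCode

theorem pres_one : Pres 1 (fun _ => 1) := by
  intro x hx
  rw [monomialMap_one]; exact hx

theorem pres_mul {σ τ : Equiv.Perm ArrayPt} {c d : ArrayPt → (ZMod 3)ˣ} (h1 : Pres σ c)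
    (h2 : Pres τ d) : Pres (σ * τ) (fun i => c i * d (σ.symm i)) := by
  intro x hx
  rw [← monomialMap_comp]
  exact h1 _ (h2 x hx)

theorem pres_surj {σ : Equiv.Perm ArrayPt} {c : ArrayPt → (ZMod 3)ˣ} (h : Pres σ c)
    (y : ArrayPt → ZMod 3) (hy : y ∈ ternaryGolayCode) :
    ∃ x ∈ ternaryGolayCode, monomialMap σ c x = y := by
  let f : ↥ternaryGolayCode → ↥ternaryGolayCode := fun x => ⟨monomialMap σ c x.1, h x.1 x.2⟩
  have hinj : Function.Injective f := by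
    intro x y hxy
    have := congrArg (fun z : ↥ternaryGolayCode => monomialMap σ⁻¹ (invCoef σ c) z.1) hxy
    simp only [f, monomialMap_inv_comp] at this
    exact Subtype.ext this
  have hsurj : Function.Surjective f := Finite.injective_iff_surjective.1 hinj
  obtain ⟨x, hx⟩ := hsurj ⟨y, hy⟩
  exact ⟨x.1, x.2, congrArg Subtype.val hx⟩

theorem pres_inv {σ : Equiv.Perm ArrayPt} {c : ArrayPt → (ZMod 3)ˣ} (h : Pres σ c) :
    Pres σ⁻¹ (invCoef σ c) := by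
  intro y hy
  obtain ⟨x, hx, rfl⟩ := pres_surj h y hy
  rw [monomialMap_inv_comp]
  exact hx

theorem pres_neg {σ : Equiv.Perm ArrayPt} {c : ArrayPt → (ZMod 3)ˣ} (h : Pres σ c) :
    Pres σ (fun i => -c i) := by
  intro x hx
  have : monomialMap σ (fun i => -c i) x = -monomialMap σ c x := by
    funext i
    simp only [monomialMap, Units.val_neg, Pi.neg_apply, neg_mul]
  rw [this]
  exact Submodule.neg_mem _ (h x hx)

theorem pres_iff_gens (σ : Equiv.Perm ArrayPt) (c : ArrayPt → (ZMod 3)ˣ) :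
    Pres σ c ↔ ∀ j : Fin 6, monomialMap σ c (gen j) ∈ ternaryGolayCode := by
  constructor
  · intro h j
    exact h _ (gen_mem j)
  · intro h x hx
    rw [eq_cw_info x hx, cw, ← monoL_apply, map_sum]
    refine Submodule.sum_mem _ fun j _ => ?_
    rw [map_smul]
    exact Submodule.smul_mem _ _ (h j)

/-- the group of permutations underlying the monomial automorphisms of the code -/
def Hgrp : Subgroup (Equiv.Perm ArrayPt) where
  carrier := {σ | ∃ c, Pres σ c}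
  mul_mem' := by
    rintro σ τ ⟨c, hc⟩ ⟨d, hd⟩
    exact ⟨_, pres_mul hc hd⟩
  one_mem' := ⟨_, pres_one⟩
  inv_mem' := by
    rintro σ ⟨c, hc⟩
    exact ⟨_, pres_inv hc⟩

theorem mem_Hgrp (σ : Equiv.Perm ArrayPt) : σ ∈ Hgrp ↔ ∃ c, Pres σ c := Iff.rfl


/-! ### Explicit elements -/

/-- decode a point number -/
def ptOf (n : ℕ) : ArrayPt := (⟨n / 3 % 4, Nat.mod_lt _ (by norm_num)⟩, ((n % 3 : ℕ) : ZMod 3))

theorem ptOf_ptNum : ∀ p : ArrayPt, ptOf (ptNum p) = p := by decide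

theorem ptNum_ptOf : ∀ n < 12, ptNum (ptOf n) = n := by decide

/-- the function on points given by a list of images -/
def fnOf (l : List ℕ) : ArrayPt → ArrayPt := fun p => ptOf (l.getD (ptNum p) 0)

/-- the sign vector given by a list (entry `1` is `1`, anything else is `-1`), as residues -/
def sgnZ (l : List ℕ) : ArrayPt → ZMod 3 := fun p => if l.getD (ptNum p) 1 = 1 then 1 else -1

/-- the sign vector given by a list, as units -/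
def sgnOf (l : List ℕ) : ArrayPt → (ZMod 3)ˣ := fun p => if l.getD (ptNum p) 1 = 1 then 1 else -1

theorem sgnOf_val (l : List ℕ) (p : ArrayPt) : ((sgnOf l p : (ZMod 3)ˣ) : ZMod 3) = sgnZ l p := by
  unfold sgnOf sgnZ
  split <;> simp

/-- the two lists are mutually inverse tables -/
def goodPerm (l li : List ℕ) : Prop := ∀ p, fnOf li (fnOf l p) = p ∧ fnOf l (fnOf li p) = p

instance instDecidableGoodPerm (l li : List ℕ) : Decidable (goodPerm l li) := by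
  unfold goodPerm; infer_instance

/-- the permutation given by a pair of mutually inverse tables -/
def mkPerm (l li : List ℕ) (h : goodPerm l li) : Equiv.Perm ArrayPt :=
  ⟨fnOf l, fnOf li, fun p => (h p).1, fun p => (h p).2⟩

/-- the signed permutation given by the lists maps the generators into the code -/
def presB (li s : List ℕ) : Prop :=
  ∀ j : Fin 6, IsTG (fun i => sgnZ s i * gen j (fnOf li i))

instance instDecidablePresB (li s : List ℕ) : Decidable (presB li s) := by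
  unfold presB; infer_instance

theorem pres_of_presB (l li s : List ℕ) (h : goodPerm l li) (hp : presB li s) :
    Pres (mkPerm l li h) (sgnOf s) := by
  rw [pres_iff_gens]
  intro j
  rw [mem_code_iff]
  have : monomialMap (mkPerm l li h) (sgnOf s) (gen j) = fun i => sgnZ s i * gen j (fnOf li i) := by
    funext i
    simp only [monomialMap, sgnOf_val]
    rfl
  rw [this]
  exact hp j

/-- the transversal elements of the stabilizer chain: entry `(j, k)` fixes the points `0, …, j-1`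
and maps the point `j` to the point `k`. -/
def table : List (List (List ℕ × List ℕ × List ℕ)) :=
 [  [([0, 1, 2, 3, 4, 5, 6, 7, 8, 9, 10, 11],[0, 1, 2, 3, 4, 5, 6, 7, 8, 9, 10, 11],[1, 1, 1, 1, 1, 1, 1, 1, 1, 1, 1, 1]),
   ([1, 0, 2, 3, 4, 5, 11, 9, 10, 7, 8, 6],[1, 0, 2, 3, 4, 5, 11, 9, 10, 7, 8, 6],[1, 1, 1, 1, 1, 1, 1, 1, 1, 1, 1, 1]),
   ([2, 0, 1, 3, 4, 5, 8, 6, 7, 10, 11, 9],[1, 2, 0, 3, 4, 5, 7, 8, 6, 11, 9, 10],[1, 1, 1, 1, 1, 1, 1, 1, 1, 1, 1, 1]),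
   ([3, 0, 1, 2, 4, 5, 10, 7, 6, 8, 9, 11],[1, 2, 3, 0, 4, 5, 8, 7, 9, 10, 6, 11],[1, 1, 2, 2, 1, 1, 2, 2, 1, 2, 1, 2]),
   ([4, 0, 1, 2, 3, 5, 6, 9, 10, 11, 7, 8],[1, 2, 3, 4, 0, 5, 6, 10, 11, 7, 8, 9],[1, 1, 2, 1, 2, 1, 1, 2, 2, 2, 2, 1]),
   ([5, 0, 1, 2, 3, 4, 9, 6, 8, 7, 11, 10],[1, 2, 3, 4, 5, 0, 7, 9, 8, 6, 11, 10],[1, 1, 2, 1, 1, 2, 2, 1, 2, 1, 2, 2]),
   ([6, 0, 1, 2, 3, 9, 5, 4, 7, 10, 8, 11],[1, 2, 3, 4, 7, 6, 0, 8, 10, 5, 9, 11],[1, 2, 1, 1, 2, 1, 2, 2, 2, 1, 1, 2]),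
   ([7, 0, 1, 2, 3, 11, 10, 8, 9, 4, 5, 6],[1, 2, 3, 4, 9, 10, 11, 0, 7, 8, 6, 5],[1, 2, 2, 2, 2, 1, 1, 1, 1, 1, 2, 2]),
   ([8, 0, 1, 2, 3, 10, 7, 11, 4, 6, 9, 5],[1, 2, 3, 4, 8, 11, 9, 6, 0, 10, 5, 7],[1, 1, 1, 2, 1, 1, 2, 2, 1, 1, 2, 1]),
   ([9, 0, 1, 2, 3, 6, 4, 5, 11, 8, 10, 7],[1, 2, 3, 4, 6, 7, 5, 11, 9, 0, 10, 8],[1, 2, 1, 1, 1, 2, 1, 2, 1, 2, 2, 2]),
   ([10, 0, 1, 2, 3, 8, 11, 7, 5, 9, 6, 4],[1, 2, 3, 4, 11, 8, 10, 7, 5, 9, 0, 6],[1, 1, 1, 2, 1, 1, 1, 1, 2, 2, 1, 2]),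
   ([11, 0, 1, 2, 3, 7, 8, 10, 6, 5, 4, 9],[1, 2, 3, 4, 10, 9, 8, 5, 6, 11, 7, 0],[1, 2, 2, 2, 1, 2, 1, 2, 2, 1, 1, 1])],
  [([],[],[]),
   ([0, 1, 2, 3, 4, 5, 6, 7, 8, 9, 10, 11],[0, 1, 2, 3, 4, 5, 6, 7, 8, 9, 10, 11],[1, 1, 1, 1, 1, 1, 1, 1, 1, 1, 1, 1]),
   ([0, 2, 1, 3, 4, 5, 9, 10, 11, 6, 7, 8],[0, 2, 1, 3, 4, 5, 9, 10, 11, 6, 7, 8],[1, 1, 1, 1, 1, 1, 1, 1, 1, 1, 1, 1]),
   ([0, 3, 1, 2, 4, 5, 11, 8, 9, 7, 6, 10],[0, 2, 3, 1, 4, 5, 10, 9, 7, 8, 11, 6],[1, 1, 2, 2, 1, 1, 2, 2, 1, 2, 1, 2]),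
   ([0, 4, 1, 2, 3, 5, 8, 11, 7, 9, 10, 6],[0, 2, 3, 4, 1, 5, 11, 8, 6, 9, 10, 7],[1, 1, 2, 1, 2, 1, 1, 2, 2, 2, 2, 1]),
   ([0, 5, 1, 2, 3, 4, 10, 7, 11, 6, 8, 9],[0, 2, 3, 4, 5, 1, 9, 7, 10, 11, 6, 8],[1, 1, 2, 1, 1, 2, 2, 1, 2, 1, 2, 2]),
   ([0, 6, 1, 2, 3, 9, 11, 10, 8, 4, 7, 5],[0, 2, 3, 4, 9, 11, 1, 10, 8, 5, 7, 6],[1, 2, 1, 1, 2, 1, 2, 2, 2, 1, 1, 2]),
   ([0, 7, 1, 2, 3, 11, 6, 4, 5, 8, 9, 10],[0, 2, 3, 4, 7, 8, 6, 1, 9, 10, 11, 5],[1, 2, 2, 2, 2, 1, 1, 1, 1, 1, 2, 2]),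
   ([0, 8, 1, 2, 3, 10, 5, 6, 9, 11, 4, 7],[0, 2, 3, 4, 10, 6, 7, 11, 1, 8, 5, 9],[1, 1, 1, 2, 1, 1, 2, 2, 1, 1, 2, 1]),
   ([0, 9, 1, 2, 3, 6, 7, 8, 10, 5, 11, 4],[0, 2, 3, 4, 11, 9, 5, 6, 7, 1, 8, 10],[1, 2, 1, 1, 1, 2, 1, 2, 1, 2, 2, 2]),
   ([0, 10, 1, 2, 3, 8, 4, 9, 6, 7, 5, 11],[0, 2, 3, 4, 6, 10, 8, 9, 5, 7, 1, 11],[1, 1, 1, 2, 1, 1, 1, 1, 2, 2, 1, 2]),
   ([0, 11, 1, 2, 3, 7, 9, 5, 4, 10, 6, 8],[0, 2, 3, 4, 8, 7, 10, 5, 11, 6, 9, 1],[1, 2, 2, 2, 1, 2, 1, 2, 2, 1, 1, 1])],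
  [([],[],[]),
   ([],[],[]),
   ([0, 1, 2, 3, 4, 5, 6, 7, 8, 9, 10, 11],[0, 1, 2, 3, 4, 5, 6, 7, 8, 9, 10, 11],[1, 1, 1, 1, 1, 1, 1, 1, 1, 1, 1, 1]),
   ([0, 1, 3, 2, 4, 5, 7, 6, 10, 11, 8, 9],[0, 1, 3, 2, 4, 5, 7, 6, 10, 11, 8, 9],[1, 1, 2, 2, 1, 1, 2, 2, 1, 2, 1, 2]),
   ([0, 1, 4, 2, 3, 5, 9, 10, 6, 8, 11, 7],[0, 1, 3, 4, 2, 5, 8, 11, 9, 6, 7, 10],[1, 1, 2, 1, 2, 1, 1, 2, 2, 2, 2, 1]),
   ([0, 1, 5, 2, 3, 4, 6, 8, 9, 10, 7, 11],[0, 1, 3, 4, 5, 2, 6, 10, 7, 8, 9, 11],[1, 1, 2, 1, 1, 2, 2, 1, 2, 1, 2, 2]),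
   ([0, 1, 6, 2, 3, 9, 4, 7, 5, 11, 10, 8],[0, 1, 3, 4, 6, 8, 2, 7, 11, 5, 10, 9],[1, 2, 1, 1, 2, 1, 2, 2, 2, 1, 1, 2]),
   ([0, 1, 7, 2, 3, 11, 8, 9, 10, 6, 4, 5],[0, 1, 3, 4, 10, 11, 9, 2, 6, 7, 8, 5],[1, 2, 2, 2, 2, 1, 1, 1, 1, 1, 2, 2]),
   ([0, 1, 8, 2, 3, 10, 11, 4, 7, 5, 6, 9],[0, 1, 3, 4, 7, 9, 10, 8, 2, 11, 5, 6],[1, 1, 1, 2, 1, 1, 2, 2, 1, 1, 2, 1]),
   ([0, 1, 9, 2, 3, 6, 5, 11, 4, 7, 8, 10],[0, 1, 3, 4, 8, 6, 5, 9, 10, 2, 11, 7],[1, 2, 1, 1, 1, 2, 1, 2, 1, 2, 2, 2]),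
   ([0, 1, 10, 2, 3, 8, 7, 5, 11, 4, 9, 6],[0, 1, 3, 4, 9, 7, 11, 6, 5, 10, 2, 8],[1, 1, 1, 2, 1, 1, 1, 1, 2, 2, 1, 2]),
   ([0, 1, 11, 2, 3, 7, 10, 6, 8, 9, 5, 4],[0, 1, 3, 4, 11, 10, 7, 5, 8, 9, 6, 2],[1, 2, 2, 2, 1, 2, 1, 2, 2, 1, 1, 1])],
  [([],[],[]),
   ([],[],[]),
   ([],[],[]),
   ([0, 1, 2, 3, 4, 5, 6, 7, 8, 9, 10, 11],[0, 1, 2, 3, 4, 5, 6, 7, 8, 9, 10, 11],[1, 1, 1, 1, 1, 1, 1, 1, 1, 1, 1, 1]),
   ([0, 1, 2, 4, 3, 5, 10, 9, 11, 7, 6, 8],[0, 1, 2, 4, 3, 5, 10, 9, 11, 7, 6, 8],[1, 1, 1, 1, 1, 1, 1, 1, 1, 1, 1, 1]),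
   ([0, 1, 2, 5, 3, 4, 8, 6, 7, 11, 9, 10],[0, 1, 2, 4, 5, 3, 7, 8, 6, 10, 11, 9],[1, 1, 1, 1, 1, 1, 1, 1, 1, 1, 1, 1]),
   ([0, 1, 2, 6, 3, 9, 7, 4, 10, 8, 5, 11],[0, 1, 2, 4, 7, 10, 3, 6, 9, 5, 8, 11],[1, 2, 2, 1, 1, 1, 1, 1, 1, 1, 1, 1]),
   ([0, 1, 2, 7, 3, 11, 9, 8, 4, 5, 10, 6],[0, 1, 2, 4, 8, 9, 11, 3, 7, 6, 10, 5],[1, 2, 1, 2, 2, 2, 2, 2, 2, 2, 2, 2]),
   ([0, 1, 2, 8, 3, 10, 4, 11, 6, 9, 7, 5],[0, 1, 2, 4, 6, 11, 8, 10, 3, 9, 5, 7],[1, 1, 2, 2, 2, 2, 2, 2, 2, 2, 2, 2]),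
   ([0, 1, 2, 9, 3, 6, 11, 5, 8, 10, 4, 7],[0, 1, 2, 4, 10, 7, 5, 11, 8, 3, 9, 6],[1, 2, 2, 1, 1, 1, 1, 1, 1, 1, 1, 1]),
   ([0, 1, 2, 10, 3, 8, 5, 7, 9, 6, 11, 4],[0, 1, 2, 4, 11, 6, 9, 7, 5, 8, 3, 10],[1, 1, 2, 2, 2, 2, 2, 2, 2, 2, 2, 2]),
   ([0, 1, 2, 11, 3, 7, 6, 10, 5, 4, 8, 9],[0, 1, 2, 4, 9, 8, 6, 5, 10, 11, 7, 3],[1, 2, 1, 2, 2, 2, 2, 2, 2, 2, 2, 2])],
  [([],[],[]),
   ([],[],[]),
   ([],[],[]),
   ([],[],[]),
   ([0, 1, 2, 3, 4, 5, 6, 7, 8, 9, 10, 11],[0, 1, 2, 3, 4, 5, 6, 7, 8, 9, 10, 11],[1, 1, 1, 1, 1, 1, 1, 1, 1, 1, 1, 1]),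
   ([0, 1, 2, 3, 5, 4, 9, 11, 10, 6, 8, 7],[0, 1, 2, 3, 5, 4, 9, 11, 10, 6, 8, 7],[1, 1, 1, 1, 1, 1, 1, 1, 1, 1, 1, 1]),
   ([0, 1, 2, 3, 6, 9, 5, 8, 11, 4, 7, 10],[0, 1, 2, 3, 9, 6, 4, 10, 7, 5, 11, 8],[1, 2, 2, 1, 1, 1, 1, 1, 1, 1, 1, 1]),
   ([0, 1, 2, 3, 7, 11, 10, 5, 6, 8, 9, 4],[0, 1, 2, 3, 11, 7, 8, 4, 9, 10, 6, 5],[1, 2, 1, 2, 2, 2, 2, 2, 2, 2, 2, 2]),
   ([0, 1, 2, 3, 8, 10, 7, 9, 5, 11, 4, 6],[0, 1, 2, 3, 10, 8, 11, 6, 4, 7, 5, 9],[1, 1, 2, 2, 2, 2, 2, 2, 2, 2, 2, 2]),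
   ([0, 1, 2, 3, 9, 6, 4, 10, 7, 5, 11, 8],[0, 1, 2, 3, 6, 9, 5, 8, 11, 4, 7, 10],[1, 2, 2, 1, 1, 1, 1, 1, 1, 1, 1, 1]),
   ([0, 1, 2, 3, 10, 8, 11, 6, 4, 7, 5, 9],[0, 1, 2, 3, 8, 10, 7, 9, 5, 11, 4, 6],[1, 1, 2, 2, 2, 2, 2, 2, 2, 2, 2, 2]),
   ([0, 1, 2, 3, 11, 7, 8, 4, 9, 10, 6, 5],[0, 1, 2, 3, 7, 11, 10, 5, 6, 8, 9, 4],[1, 2, 1, 2, 2, 2, 2, 2, 2, 2, 2, 2])]]

/-- the test for one table entry -/
def goodEntry (j k : ℕ) (e : List ℕ × List ℕ × List ℕ) : Prop :=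
  goodPerm e.1 e.2.1 ∧ presB e.2.1 e.2.2 ∧ (∀ i ∈ List.range j, e.1.getD i 0 = i) ∧ e.1.getD j 0 = k

instance instDecidableGoodEntry (j k : ℕ) (e : List ℕ × List ℕ × List ℕ) :
    Decidable (goodEntry j k e) := by
  unfold goodEntry; infer_instance

/-- the test for the whole table -/
def checkTable : Prop :=
  ∀ j ∈ List.range 5, ∀ k ∈ List.range 12, k < j ∨ goodEntry j k ((table.getD j []).getD k ([], [], []))

instance instDecidableCheckTable : Decidable checkTable := by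
  unfold checkTable; infer_instance

set_option maxRecDepth 100000 in
theorem checkTable_true : checkTable := by decide +kernel

/-- the base points as an embedding -/
def baseEmb : Fin 5 ↪ ArrayPt where
  toFun i := ptOf i.val
  inj' := by decide

theorem ptNum_baseEmb (i : Fin 5) : ptNum (baseEmb i) = i.val := by
  revert i; decide

theorem chainH (j : Fin 5) (p : ArrayPt) (hp : ∀ i, i < j → p ≠ baseEmb i) :
    ∃ g ∈ Hgrp, (∀ i, i < j → g (baseEmb i) = baseEmb i) ∧ g (baseEmb j) = p := by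
  have h := checkTable_true j.val (List.mem_range.2 j.isLt) (ptNum p) (List.mem_range.2 (ptNum_lt p))
  rcases h with h | h
  · exfalso
    have h5 : ptNum p < 5 := lt_trans h j.isLt
    apply hp ⟨ptNum p, h5⟩ h
    apply ptNum_injective
    rw [ptNum_baseEmb]
  · obtain ⟨h1, h2, h3, h4⟩ := h
    refine ⟨mkPerm _ _ h1, ⟨_, pres_of_presB _ _ _ h1 h2⟩, fun i hi => ?_, ?_⟩
    · show ptOf (List.getD _ (ptNum (baseEmb i)) 0) = baseEmb i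
      rw [ptNum_baseEmb, h3 i.val (List.mem_range.2 hi)]
      rfl
    · show ptOf (List.getD _ (ptNum (baseEmb j)) 0) = p
      rw [ptNum_baseEmb, h4, ptOf_ptNum]


/-! ### The automorphism group of the hexad system -/

open scoped Pointwise

/-- the automorphism group of the hexad system -/
abbrev Agrp : Subgroup (Equiv.Perm ArrayPt) := setSystemAut hexads

theorem mem_Agrp (σ : Equiv.Perm ArrayPt) : σ ∈ Agrp ↔ σ • hexads = hexads :=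
  MulAction.mem_stabilizer_iff

theorem support_monomialMap (σ : Equiv.Perm ArrayPt) (c : ArrayPt → (ZMod 3)ˣ)
    (x : ArrayPt → ZMod 3) : ternarySupport (monomialMap σ c x) = σ • ternarySupport x := by
  ext i
  rw [← Finset.inv_smul_mem_iff]
  simp only [ternarySupport, monomialMap, Finset.mem_filter, Finset.mem_univ, true_and, ne_eq,
    mul_eq_zero, Units.ne_zero, false_or]
  rfl

theorem smul_mem_hexads_of_pres {σ : Equiv.Perm ArrayPt} {c : ArrayPt → (ZMod 3)ˣ}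
    (h : Pres σ c) {b : Finset ArrayPt} (hb : b ∈ hexads) : σ • b ∈ hexads := by
  obtain ⟨x, hx, rfl, hcard⟩ := hb
  refine ⟨monomialMap σ c x, h x hx, support_monomialMap σ c x, ?_⟩
  rw [Finset.card_smul_finset]; exact hcard

theorem Hgrp_le_Agrp : Hgrp ≤ Agrp := by
  intro σ hσ
  rw [mem_Agrp]
  apply Set.Subset.antisymm
  · rintro _ ⟨b, hb, rfl⟩
    obtain ⟨c, hc⟩ := hσ
    exact smul_mem_hexads_of_pres hc hb
  · rw [Set.subset_smul_set_iff]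
    rintro _ ⟨b, hb, rfl⟩
    obtain ⟨c, hc⟩ := Hgrp.inv_mem hσ
    exact smul_mem_hexads_of_pres hc hb

theorem smul_mem_hexads {σ : Equiv.Perm ArrayPt} (hσ : σ ∈ Agrp) {b : Finset ArrayPt}
    (hb : b ∈ hexads) : σ • b ∈ hexads := by
  have := (mem_Agrp σ).1 hσ
  rw [← this]
  exact Set.smul_mem_smul_set hb

theorem uniq5 {b b' : Finset ArrayPt} (hb : b ∈ hexads) (hb' : b' ∈ hexads)
    (h : 5 ≤ (b ∩ b').card) : b = b' := by
  apply mask_injective ePt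
  apply check_unique _ ((mem_hexads_iff b).1 hb) _ ((mem_hexads_iff b').1 hb')
  rw [← mask_inter, popc_mask ePt 12 ptNum_lt]
  exact h

theorem card_of_mem_hexads {b : Finset ArrayPt} (hb : b ∈ hexads) : b.card = 6 := by
  obtain ⟨x, _, _, h⟩ := hb; exact h

theorem perm_smul_mem {σ : Equiv.Perm ArrayPt} {b : Finset ArrayPt} {x : ArrayPt} (hx : x ∈ b) :
    σ x ∈ σ • b := Finset.smul_mem_smul_finset (a := σ) hx

theorem fix_of_five (σ : Equiv.Perm ArrayPt) (hσ : σ ∈ Agrp) (F : Finset ArrayPt)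
    (hF : ∀ p ∈ F, σ p = p) (b : Finset ArrayPt) (hb : b ∈ hexads) (h5 : 5 ≤ (b ∩ F).card) :
    ∀ x ∈ b, σ x = x := by
  have h1 : σ • b ∈ hexads := smul_mem_hexads hσ hb
  have h2 : b ∩ F ⊆ σ • b ∩ b := by
    intro p hp
    rw [Finset.mem_inter] at hp ⊢
    refine ⟨?_, hp.1⟩
    have := perm_smul_mem (σ := σ) hp.1
    rwa [hF p hp.2] at this
  have h3 : σ • b = b := uniq5 h1 hb (le_trans h5 (Finset.card_le_card h2))
  intro x hx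
  by_contra hne
  have hxb : σ x ∈ b := by
    have := perm_smul_mem (σ := σ) hx
    rwa [h3] at this
  have hxF : x ∉ F := fun hxF => hne (hF x hxF)
  have hsxF : σ x ∉ F := fun hsF => hne (σ.injective (hF _ hsF))
  have hsub : ({x, σ x} : Finset ArrayPt) ⊆ b \ F := by
    intro p hp
    rw [Finset.mem_insert, Finset.mem_singleton] at hp
    rcases hp with rfl | rfl
    · exact Finset.mem_sdiff.2 ⟨hx, hxF⟩
    · exact Finset.mem_sdiff.2 ⟨hxb, hsxF⟩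
  have hc2 : 2 ≤ (b \ F).card := by
    have := Finset.card_le_card hsub
    rwa [Finset.card_pair (Ne.symm hne)] at this
  have := Finset.card_inter_add_card_sdiff b F
  rw [card_of_mem_hexads hb] at this
  omega

theorem ne_of_two (σ : Equiv.Perm ArrayPt) (hσ : σ ∈ Agrp) (F : Finset ArrayPt)
    (hF : ∀ p ∈ F, σ p = p) (h1 h2 k1 k2 : Finset ArrayPt) (hh1 : h1 ∈ hexads)
    (hh2 : h2 ∈ hexads) (hk1 : k1 ∈ hexads) (hk2 : k2 ∈ hexads) (x z y : ArrayPt)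
    (hx1 : x ∈ h1) (hx2 : x ∈ h2) (hz1 : z ∈ h1) (hz2 : z ∈ h2) (hxz : x ≠ z) (hzF : z ∉ F)
    (hyF : y ∉ F) (c1 : 4 ≤ (h1 ∩ F).card) (c2 : 4 ≤ (h2 ∩ F).card) (s1 : h1 ∩ F ⊆ k1)
    (s2 : h2 ∩ F ⊆ k2) (y1 : y ∈ k1) (y2 : y ∈ k2) (hk : k1 ∩ k2 ⊆ insert y F) : σ x ≠ y := by
  intro hxy
  have key : ∀ h k : Finset ArrayPt, h ∈ hexads → k ∈ hexads → x ∈ h → 4 ≤ (h ∩ F).card →
      h ∩ F ⊆ k → y ∈ k → σ • h = k := by
    intro h k hh hkk hxh c s yk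
    apply uniq5 (smul_mem_hexads hσ hh) hkk
    have hsub : insert y (h ∩ F) ⊆ σ • h ∩ k := by
      intro p hp
      rw [Finset.mem_insert] at hp
      rw [Finset.mem_inter]
      rcases hp with rfl | hp
      · refine ⟨?_, yk⟩
        rw [← hxy]; exact perm_smul_mem hxh
      · refine ⟨?_, s hp⟩
        rw [Finset.mem_inter] at hp
        have := perm_smul_mem (σ := σ) hp.1
        rwa [hF p hp.2] at this
    have hynot : y ∉ h ∩ F := fun hy => hyF (Finset.mem_inter.1 hy).2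
    have := Finset.card_le_card hsub
    rw [Finset.card_insert_of_notMem hynot] at this
    omega
  have e1 := key h1 k1 hh1 hk1 hx1 c1 s1 y1
  have e2 := key h2 k2 hh2 hk2 hx2 c2 s2 y2
  have hz : σ z ∈ k1 ∩ k2 := by
    rw [Finset.mem_inter, ← e1, ← e2]
    exact ⟨perm_smul_mem hz1, perm_smul_mem hz2⟩
  have := hk hz
  rw [Finset.mem_insert] at this
  rcases this with h | h
  · rw [← hxy] at h
    exact hxz (σ.injective h).symm
  · have := hF _ h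
    exact hzF (by rw [σ.injective this] at h; exact h)

/-- the finset with a given mask -/
def unmask (m : ℕ) : Finset ArrayPt := Finset.univ.filter fun p => m.testBit (ptNum p) = true

theorem mem_unmask (m : ℕ) (p : ArrayPt) : p ∈ unmask m ↔ m.testBit (ptNum p) = true := by
  simp [unmask]

theorem unmask_mem_hexads {m : ℕ} (hm : m ∈ hexMasks) : unmask m ∈ hexads := by
  obtain ⟨b, hb, rfl⟩ := exists_of_mem_hexMasks hm
  have : unmask (mask ePt b) = b := by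
    ext p
    rw [mem_unmask]
    exact testBit_mask ePt b p
  rwa [this]

/-- certificates for the sixth base point: `(y, z, h1, h2, k1, k2)` -/
def cert6 : List (ℕ × ℕ × ℕ × ℕ × ℕ × ℕ) :=
  [(7, 8, 347, 366, 667, 1198), (8, 7, 222, 237, 2334, 813), (9, 7, 222, 237, 1566, 813),
   (10, 7, 222, 237, 1566, 3117), (11, 7, 222, 237, 2334, 3117)]

/-- the test for one certificate -/
def goodCert (y : ArrayPt) (e : ℕ × ℕ × ℕ × ℕ × ℕ × ℕ) : Prop :=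
  ptOf e.1 = y ∧ e.2.2.1 ∈ hexMasks ∧ e.2.2.2.1 ∈ hexMasks ∧ e.2.2.2.2.1 ∈ hexMasks ∧
  e.2.2.2.2.2 ∈ hexMasks ∧
  ptOf 6 ∈ unmask e.2.2.1 ∧ ptOf 6 ∈ unmask e.2.2.2.1 ∧
  ptOf e.2.1 ∈ unmask e.2.2.1 ∧ ptOf e.2.1 ∈ unmask e.2.2.2.1 ∧
  ptOf 6 ≠ ptOf e.2.1 ∧ ptOf e.2.1 ∉ unmask 63 ∧
  4 ≤ (unmask e.2.2.1 ∩ unmask 63).card ∧ 4 ≤ (unmask e.2.2.2.1 ∩ unmask 63).card ∧
  unmask e.2.2.1 ∩ unmask 63 ⊆ unmask e.2.2.2.2.1 ∧
  unmask e.2.2.2.1 ∩ unmask 63 ⊆ unmask e.2.2.2.2.2 ∧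
  y ∈ unmask e.2.2.2.2.1 ∧ y ∈ unmask e.2.2.2.2.2 ∧
  unmask e.2.2.2.2.1 ∩ unmask e.2.2.2.2.2 ⊆ insert y (unmask 63)

instance instDecidableGoodCert (y : ArrayPt) (e : ℕ × ℕ × ℕ × ℕ × ℕ × ℕ) :
    Decidable (goodCert y e) := by
  unfold goodCert; infer_instance

set_option maxRecDepth 100000 in
theorem cert6_ok : ∀ y : ArrayPt, y ∉ unmask 63 → y ≠ ptOf 6 → ∃ e ∈ cert6, goodCert y e := by
  decide +kernel

set_option maxRecDepth 100000 in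
theorem base_cases : ∀ p : ArrayPt, p ∈ unmask 31 → ∃ i : Fin 5, baseEmb i = p := by
  decide +kernel

set_option maxRecDepth 100000 in
theorem seven_cases : ∀ p : ArrayPt, p ∈ unmask 127 → p ∈ unmask 63 ∨ p = ptOf 6 := by
  decide +kernel

set_option maxRecDepth 100000 in
theorem all_cases : ∀ p : ArrayPt, ∃ m ∈ hexMasks, p ∈ unmask m ∧
    5 ≤ (unmask m ∩ unmask 127).card := by
  decide +kernel

set_option maxRecDepth 100000 in
theorem first_hexad : (63 : ℕ) ∈ hexMasks ∧ 5 ≤ (unmask 63 ∩ unmask 31).card ∧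
    ptOf 6 ∉ unmask 63 := by
  decide +kernel

/-- the pointwise stabilizer of the five base points in the automorphism group of the hexad
system is trivial -/
theorem stab_trivial (σ : Equiv.Perm ArrayPt) (hσ : σ ∈ Agrp)
    (h : ∀ i : Fin 5, σ (baseEmb i) = baseEmb i) : σ = 1 := by
  have step1 : ∀ p ∈ unmask 31, σ p = p := by
    intro p hp
    obtain ⟨i, rfl⟩ := base_cases p hp
    exact h i
  have step2 : ∀ p ∈ unmask 63, σ p = p :=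
    fix_of_five σ hσ _ step1 _ (unmask_mem_hexads first_hexad.1) first_hexad.2.1
  have step3 : σ (ptOf 6) = ptOf 6 := by
    by_contra hne
    have hy : σ (ptOf 6) ∉ unmask 63 := by
      intro hy
      have := step2 _ hy
      exact first_hexad.2.2 (by rw [σ.injective this] at hy; exact hy)
    obtain ⟨e, _, he⟩ := cert6_ok _ hy hne
    obtain ⟨e1, m1, m2, m3, m4, a1, a2, a3, a4, a5, a6, a7, a8, a9, a10, a11, a12, a13⟩ := he
    exact ne_of_two σ hσ (unmask 63) step2 _ _ _ _ (unmask_mem_hexads m1) (unmask_mem_hexads m2)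
      (unmask_mem_hexads m3) (unmask_mem_hexads m4) (ptOf 6) (ptOf e.2.1) _ a1 a2 a3 a4 a5 a6 hy
      a7 a8 a9 a10 a11 a12 a13 rfl
  have step4 : ∀ p ∈ unmask 127, σ p = p := by
    intro p hp
    rcases seven_cases p hp with hp | rfl
    · exact step2 p hp
    · exact step3
  refine Equiv.ext fun p => ?_
  obtain ⟨m, hm, hpm, h5⟩ := all_cases p
  exact fix_of_five σ hσ _ step4 _ (unmask_mem_hexads hm) h5 p hpm


/-! ### The order of the group -/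

/-- stepwise extension along a stabilizer chain with full orbits (the argument of
`Cfsg.Agent.S0366.chain_exists`, restated here to keep this file light) -/
theorem chain_exists {X : Type*} (G : Subgroup (Equiv.Perm X)) (k : ℕ) (a : Fin k ↪ X)
    (h : ∀ (j : Fin k) (p : X), (∀ i, i < j → p ≠ a i) →
      ∃ g ∈ G, (∀ i, i < j → g (a i) = a i) ∧ g (a j) = p)
    (x : Fin k ↪ X) (j : ℕ) (hj : j ≤ k) :
    ∃ g ∈ G, ∀ i : Fin k, i.val < j → g (a i) = x i := by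
  induction j with
  | zero => exact ⟨1, G.one_mem, fun i hi => absurd hi (Nat.not_lt_zero _)⟩
  | succ j ih =>
    obtain ⟨g, hg, hgx⟩ := ih (Nat.le_of_succ_le hj)
    have hjk : j < k := hj
    obtain ⟨u, hu, hufix, hua⟩ := h ⟨j, hjk⟩ (g⁻¹ (x ⟨j, hjk⟩)) (by
      intro i hi heq
      have h1 : g (a i) = x i := hgx i hi
      have h2 : x ⟨j, hjk⟩ = x i := by
        rw [← h1, ← heq]; simp
      have := x.injective h2
      rw [← this] at hi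
      exact lt_irrefl _ hi)
    refine ⟨g * u, G.mul_mem hg hu, fun i hi => ?_⟩
    rcases Nat.lt_succ_iff_lt_or_eq.mp hi with hi' | hi'
    · rw [Equiv.Perm.mul_apply, hufix i hi', hgx i hi']
    · have : i = ⟨j, hjk⟩ := Fin.ext hi'
      subst this
      rw [Equiv.Perm.mul_apply, hua]; simp

theorem exists_H_of_emb (x : Fin 5 ↪ ArrayPt) : ∃ g ∈ Hgrp, ∀ i, g (baseEmb i) = x i := by
  obtain ⟨g, hg, h⟩ := chain_exists Hgrp 5 baseEmb chainH x 5 le_rfl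
  exact ⟨g, hg, fun i => h i i.isLt⟩

theorem Agrp_le_Hgrp : Agrp ≤ Hgrp := by
  intro σ hσ
  obtain ⟨g, hg, hgx⟩ := exists_H_of_emb (baseEmb.trans σ.toEmbedding)
  have h1 : g⁻¹ * σ = 1 := by
    apply stab_trivial _ (Agrp.mul_mem (Agrp.inv_mem (Hgrp_le_Agrp hg)) hσ)
    intro i
    have := hgx i
    rw [Function.Embedding.trans_apply] at this
    show g⁻¹ (σ (baseEmb i)) = baseEmb i
    rw [Equiv.Perm.inv_eq_iff_eq]
    exact this.symm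
  have h2 : σ = g := by
    rw [inv_mul_eq_one] at h1; exact h1.symm
  rw [h2]; exact hg

theorem Hgrp_eq_Agrp : Hgrp = Agrp := le_antisymm Hgrp_le_Agrp Agrp_le_Hgrp

/-- the images of the base points under an element of the group -/
def evalEmb (g : Agrp) : Fin 5 ↪ ArrayPt := baseEmb.trans (g : Equiv.Perm ArrayPt).toEmbedding

theorem evalEmb_bijective : Function.Bijective evalEmb := by
  constructor
  · intro g g' hgg
    have h1 : (g'⁻¹ * g : Agrp) = 1 := by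
      apply Subtype.ext
      apply stab_trivial _ (g'⁻¹ * g : Agrp).2
      intro i
      have := congrArg (fun e : Fin 5 ↪ ArrayPt => e i) hgg
      simp only [evalEmb, Function.Embedding.trans_apply, Equiv.coe_toEmbedding] at this
      show (g' : Equiv.Perm ArrayPt)⁻¹ ((g : Equiv.Perm ArrayPt) (baseEmb i)) = baseEmb i
      rw [Equiv.Perm.inv_eq_iff_eq]
      exact this
    rw [inv_mul_eq_one] at h1
    exact h1.symm
  · intro x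
    obtain ⟨g, hg, hgx⟩ := exists_H_of_emb x
    refine ⟨⟨g, Hgrp_le_Agrp hg⟩, ?_⟩
    apply DFunLike.ext
    intro i
    exact hgx i

theorem card_Agrp : Nat.card Agrp = 95040 := by
  rw [Nat.card_congr (Equiv.ofBijective _ evalEmb_bijective), Nat.card_eq_fintype_card,
    Fintype.card_embedding_eq]
  have : Fintype.card ArrayPt = 12 := by
    rw [Fintype.card_prod, Fintype.card_fin, ZMod.card]
  rw [this, Fintype.card_fin]
  rfl

theorem card_Hgrp : Nat.card Hgrp = 95040 := by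
  rw [Hgrp_eq_Agrp]; exact card_Agrp

theorem pres_smul {σ : Equiv.Perm ArrayPt} {c : ArrayPt → (ZMod 3)ˣ} (h : Pres σ c)
    (l : (ZMod 3)ˣ) : Pres σ (fun i => l * c i) := by
  intro x hx
  have : monomialMap σ (fun i => l * c i) x = (l : ZMod 3) • monomialMap σ c x := by
    funext i
    simp only [monomialMap, Units.val_mul, Pi.smul_apply, smul_eq_mul, mul_assoc]
  rw [this]
  exact Submodule.smul_mem _ _ (h x hx)

end Cfsg.Agent.Lib.Helper27_TernaryAut
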