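import Mathlib

/-!
# Two primes between `n` and `2n` (helper95)

A variant of Bertrand's postulate: for `6 ≤ n` there are two distinct primes in `(n, 2n]`.
The proof follows Mathlib's proof of Bertrand's postulate; one extra prime factor `≤ 2n` of the
central binomial coefficient is absorbed by counting the primes `≤ √(2n)` as at most `√(2n) - 1`.
-/

set_option autoImplicit false

namespace Cfsg.Agent.Helper95TwoPrimes

open Nat

theorem centralBinom_le_of_one_prime (n : ℕ) (n_large : 2 < n) (p0 : ℕ)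
    (h : ∀ p : ℕ, p.Prime → n < p → p ≤ 2 * n → p = p0) :
    centralBinom n ≤ (2 * n) ^ sqrt (2 * n) * 4 ^ (2 * n / 3) := by
  have n_pos : 0 < n := by omega
  have n2_pos : 1 ≤ 2 * n := by omega
  have hs1 : 1 ≤ sqrt (2 * n) := Nat.sqrt_pos.mpr (by omega)
  let f : ℕ → ℕ := fun x => x ^ n.centralBinom.factorization x
  have hfull : centralBinom n = ∏ x ∈ Finset.range (2 * n + 1), f x :=
    (n.prod_pow_factorization_centralBinom).symm
  have hsub : Finset.range (2 * n / 3 + 1) ⊆ Finset.range (2 * n + 1) := by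
    intro x hx
    rw [Finset.mem_range] at hx ⊢
    have := Nat.div_le_self (2 * n) 3
    omega
  rw [hfull, ← Finset.prod_sdiff hsub]
  -- the primes above `2n/3`
  have hbig : ∏ x ∈ Finset.range (2 * n + 1) \ Finset.range (2 * n / 3 + 1), f x ≤ 2 * n := by
    have hone : ∀ x ∈ (Finset.range (2 * n + 1) \ Finset.range (2 * n / 3 + 1)),
        x ≠ p0 → f x = 1 := by
      intro x hx hxp
      rw [Finset.mem_sdiff, Finset.mem_range, Finset.mem_range] at hx
      obtain ⟨hx1, hx2⟩ := hx
      by_cases hxprime : x.Prime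
      · by_cases hxn : x ≤ n
        · have h3 : 2 * n < 3 * x := by
            have := Nat.lt_div_mul_add (a := 2 * n) (b := 3) (by norm_num)
            omega
          show x ^ _ = 1
          rw [factorization_centralBinom_of_two_mul_self_lt_three_mul n_large hxn h3, pow_zero]
        · exact absurd (h x hxprime (by omega) (by omega)) hxp
      · show x ^ _ = 1
        rw [factorization_eq_zero_of_not_prime _ hxprime, pow_zero]
    by_cases hp0 : p0 ∈ (Finset.range (2 * n + 1) \ Finset.range (2 * n / 3 + 1))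
    · rw [Finset.prod_eq_single_of_mem p0 hp0 (fun x hx hxp => hone x hx hxp)]
      exact pow_factorization_choose_le (by omega)
    · rw [Finset.prod_eq_one (fun x hx => hone x hx (fun hh => hp0 (hh ▸ hx)))]
      omega
  -- the primes up to `2n/3`
  have hsmall : ∏ x ∈ Finset.range (2 * n / 3 + 1), f x ≤
      (2 * n) ^ (sqrt (2 * n) - 1) * 4 ^ (2 * n / 3) := by
    let S := {p ∈ Finset.range (2 * n / 3 + 1) | Nat.Prime p}
    have : ∏ x ∈ S, f x = ∏ x ∈ Finset.range (2 * n / 3 + 1), f x := by
      refine Finset.prod_filter_of_ne fun p _ h => ?_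
      contrapose h; dsimp only [f]
      rw [factorization_eq_zero_of_not_prime n.centralBinom h, _root_.pow_zero]
    rw [← this, ← Finset.prod_filter_mul_prod_filter_not S (· ≤ sqrt (2 * n))]
    apply mul_le_mul'
    · refine (Finset.prod_le_prod' fun p _ => (?_ : f p ≤ 2 * n)).trans ?_
      · exact pow_factorization_choose_le (mul_pos two_pos n_pos)
      have : (Finset.Icc 2 (sqrt (2 * n))).card = sqrt (2 * n) - 1 := by
        rw [card_Icc]; omega
      rw [Finset.prod_const]
      refine pow_right_mono₀ n2_pos ((Finset.card_le_card fun x hx => ?_).trans this.le)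
      obtain ⟨h1, h2⟩ := Finset.mem_filter.1 hx
      exact Finset.mem_Icc.mpr ⟨(Finset.mem_filter.1 h1).2.two_le, h2⟩
    · refine le_trans ?_ (primorial_le_four_pow (2 * n / 3))
      refine (Finset.prod_le_prod' fun p hp => (?_ : f p ≤ p)).trans ?_
      · obtain ⟨h1, h2⟩ := Finset.mem_filter.1 hp
        refine (pow_right_mono₀ (Finset.mem_filter.1 h1).2.one_lt.le ?_).trans (pow_one p).le
        exact Nat.factorization_choose_le_one (sqrt_lt'.mp <| not_le.1 h2)
      refine Finset.prod_le_prod_of_subset_of_one_le' (Finset.filter_subset _ _) ?_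
      exact fun p hp _ => (Finset.mem_filter.1 hp).2.one_lt.le
  calc (∏ x ∈ Finset.range (2 * n + 1) \ Finset.range (2 * n / 3 + 1), f x) *
        ∏ x ∈ Finset.range (2 * n / 3 + 1), f x
      ≤ (2 * n) * ((2 * n) ^ (sqrt (2 * n) - 1) * 4 ^ (2 * n / 3)) := Nat.mul_le_mul hbig hsmall
    _ = (2 * n) ^ (sqrt (2 * n) - 1 + 1) * 4 ^ (2 * n / 3) := by ring
    _ = (2 * n) ^ sqrt (2 * n) * 4 ^ (2 * n / 3) := by rw [Nat.sub_add_cancel hs1]

/-- The property we prove. -/
def TwoPrimes (n : ℕ) : Prop := ∃ p q : ℕ, p.Prime ∧ q.Prime ∧ n < q ∧ q < p ∧ p ≤ 2 * n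

theorem twoPrimes_eventually (n : ℕ) (n_large : 512 ≤ n) : TwoPrimes n := by
  obtain ⟨p1, hp1, hn1, h2n1⟩ := Nat.exists_prime_lt_and_le_two_mul n (by omega)
  by_contra hcon
  have hall : ∀ p : ℕ, p.Prime → n < p → p ≤ 2 * n → p = p1 := by
    intro p hp hnp hp2
    by_contra hne
    rcases Nat.lt_or_gt_of_ne hne with hlt | hgt
    · exact hcon ⟨p1, p, hp1, hp, hnp, hlt, h2n1⟩
    · exact hcon ⟨p, p1, hp, hp1, hn1, hgt, hp2⟩
  have h1 : 4 ^ n < n * n.centralBinom :=
    Nat.four_pow_lt_mul_centralBinom n (le_trans (by norm_num1) n_large)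
  have h2 := centralBinom_le_of_one_prime n (by omega) p1 hall
  have h3 := bertrand_main_inequality n_large
  have h4 : n * n.centralBinom ≤ 4 ^ n := by
    calc n * n.centralBinom ≤ n * ((2 * n) ^ sqrt (2 * n) * 4 ^ (2 * n / 3)) :=
          Nat.mul_le_mul_left _ h2
      _ = n * (2 * n) ^ sqrt (2 * n) * 4 ^ (2 * n / 3) := by ring
      _ ≤ 4 ^ n := h3
  omega

theorem twoPrimes_succ {n : ℕ} (q : ℕ) {p p' : ℕ} (pp : p.Prime) (pp' : p'.Prime) (hlt : p < p')
    (covering : p' ≤ 2 * q) (H : n < q → TwoPrimes n) (hn : n < p) : TwoPrimes n := by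
  by_cases hq : n < q
  · exact H hq
  · exact ⟨p', p, pp', pp, hn, hlt, by omega⟩

/-- For `6 ≤ n` there are two distinct primes in `(n, 2n]`. -/
theorem twoPrimes (n : ℕ) (hn : 6 ≤ n) : TwoPrimes n := by
  rcases lt_or_ge 511 n with h | h
  · exact twoPrimes_eventually n h
  refine twoPrimes_succ 262 (p := 521) (p' := 523) (by norm_num1) (by norm_num1) (by norm_num1)
    (by norm_num1) ?_ (by omega)
  intro h1
  refine twoPrimes_succ 135 (p := 263) (p' := 269) (by norm_num1) (by norm_num1) (by norm_num1)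
    (by norm_num1) ?_ (by omega)
  intro h2
  refine twoPrimes_succ 70 (p := 137) (p' := 139) (by norm_num1) (by norm_num1) (by norm_num1)
    (by norm_num1) ?_ (by omega)
  intro h3
  refine twoPrimes_succ 37 (p := 71) (p' := 73) (by norm_num1) (by norm_num1) (by norm_num1)
    (by norm_num1) ?_ (by omega)
  intro h4
  refine twoPrimes_succ 21 (p := 37) (p' := 41) (by norm_num1) (by norm_num1) (by norm_num1)
    (by norm_num1) ?_ (by omega)
  intro h5
  refine twoPrimes_succ 15 (p := 23) (p' := 29) (by norm_num1) (by norm_num1) (by norm_num1)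
    (by norm_num1) ?_ (by omega)
  intro h6
  refine twoPrimes_succ 10 (p := 17) (p' := 19) (by norm_num1) (by norm_num1) (by norm_num1)
    (by norm_num1) ?_ (by omega)
  intro h7
  refine twoPrimes_succ 7 (p := 11) (p' := 13) (by norm_num1) (by norm_num1) (by norm_num1)
    (by norm_num1) ?_ (by omega)
  intro h8
  refine twoPrimes_succ 6 (p := 7) (p' := 11) (by norm_num1) (by norm_num1) (by norm_num1)
    (by norm_num1) ?_ (by omega)
  intro h9
  omega

/-- For `11 ≤ n` there are two distinct primes `q < p` with `n < 2q` and `p ≤ n`. -/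
theorem two_primes_upper_half (n : ℕ) (hn : 11 ≤ n) :
    ∃ p q : ℕ, p.Prime ∧ q.Prime ∧ n < 2 * q ∧ q < p ∧ p ≤ n := by
  by_cases h11 : n = 11
  · subst h11
    exact ⟨11, 7, by norm_num1, by norm_num1, by norm_num1, by norm_num1, le_refl _⟩
  obtain ⟨p, q, hp, hq, h1, h2, h3⟩ := twoPrimes (n / 2) (by omega)
  exact ⟨p, q, hp, hq, by omega, h2, by omega⟩

end Cfsg.Agent.Helper95TwoPrimes
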