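import Mathlib
import Cfsg.Agent.Lib.Helper95_TwoPrimes

/-!
# Three primes between `n` and `2n` (helper27)

For `9 ≤ n` there are three primes in `(n, 2n]`, after helper95's two primes and Mathlib's proof of
Bertrand's postulate; and the pairs of primes used for the generation of alternating groups by two
elements of prime orders (S4150).
-/

set_option autoImplicit false

namespace Cfsg.Agent.Lib.Helper27_ThreePrimes

open Nat Cfsg.Agent.Helper95TwoPrimes

theorem centralBinom_le_of_two_primes (n : ℕ) (n_large : 8 ≤ n) (p0 p1 : ℕ)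
    (h : ∀ p : ℕ, p.Prime → n < p → p ≤ 2 * n → p = p0 ∨ p = p1) :
    centralBinom n ≤ (2 * n) ^ sqrt (2 * n) * 4 ^ (2 * n / 3) := by
  have n_pos : 0 < n := by omega
  have n2_pos : 1 ≤ 2 * n := by omega
  have hs4 : 4 ≤ sqrt (2 * n) := by
    rw [Nat.le_sqrt]
    omega
  let f : ℕ → ℕ := fun x => x ^ n.centralBinom.factorization x
  have hfull : centralBinom n = ∏ x ∈ Finset.range (2 * n + 1), f x :=
    (n.prod_pow_factorization_centralBinom).symm
  have hsub : Finset.range (2 * n / 3 + 1) ⊆ Finset.range (2 * n + 1) := by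
    intro x hx
    rw [Finset.mem_range] at hx ⊢
    have := Nat.div_le_self (2 * n) 3
    omega
  rw [hfull, ← Finset.prod_sdiff hsub]
  -- the primes above `2n/3`
  have hbig : ∏ x ∈ Finset.range (2 * n + 1) \ Finset.range (2 * n / 3 + 1), f x ≤
      (2 * n) ^ 2 := by
    have hone : ∀ x ∈ (Finset.range (2 * n + 1) \ Finset.range (2 * n / 3 + 1)),
        ¬ (x = p0 ∨ x = p1) → f x = 1 := by
      intro x hx hxp
      rw [Finset.mem_sdiff, Finset.mem_range, Finset.mem_range] at hx
      obtain ⟨hx1, hx2⟩ := hx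
      by_cases hxprime : x.Prime
      · by_cases hxn : x ≤ n
        · have h3 : 2 * n < 3 * x := by
            have := Nat.lt_div_mul_add (a := 2 * n) (b := 3) (by norm_num)
            omega
          show x ^ _ = 1
          rw [factorization_centralBinom_of_two_mul_self_lt_three_mul (by omega) hxn h3, pow_zero]
        · exact absurd (h x hxprime (by omega) (by omega)) hxp
      · show x ^ _ = 1
        rw [factorization_eq_zero_of_not_prime _ hxprime, pow_zero]
    have h1 : ∏ x ∈ (Finset.range (2 * n + 1) \ Finset.range (2 * n / 3 + 1)).filter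
        (fun x => x = p0 ∨ x = p1), f x =
        ∏ x ∈ Finset.range (2 * n + 1) \ Finset.range (2 * n / 3 + 1), f x := by
      refine Finset.prod_filter_of_ne fun x hx hne => ?_
      by_contra hcon
      exact hne (hone x hx hcon)
    rw [← h1]
    refine (Finset.prod_le_pow_card _ _ (2 * n) fun x _ => ?_).trans ?_
    · exact pow_factorization_choose_le (by omega)
    · apply pow_right_mono₀ n2_pos
      refine (Finset.card_le_card (t := {p0, p1}) fun x hx => ?_).trans (Finset.card_le_two)
      rw [Finset.mem_filter] at hx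
      rw [Finset.mem_insert, Finset.mem_singleton]
      exact hx.2
  -- the primes up to `2n/3`
  have hsmall : ∏ x ∈ Finset.range (2 * n / 3 + 1), f x ≤
      (2 * n) ^ (sqrt (2 * n) - 2) * 4 ^ (2 * n / 3) := by
    let S := {p ∈ Finset.range (2 * n / 3 + 1) | Nat.Prime p}
    have : ∏ x ∈ S, f x = ∏ x ∈ Finset.range (2 * n / 3 + 1), f x := by
      refine Finset.prod_filter_of_ne fun p _ h => ?_
      contrapose h; dsimp only [f]
      rw [factorization_eq_zero_of_not_prime n.centralBinom h, _root_.pow_zero]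
    rw [← this, ← Finset.prod_filter_mul_prod_filter_not S (· ≤ sqrt (2 * n))]
    apply mul_le_mul'
    · refine (Finset.prod_le_prod' fun p _ => (?_ : f p ≤ 2 * n)).trans ?_
      · exact pow_factorization_choose_le (mul_pos two_pos n_pos)
      have : ((Finset.Icc 2 (sqrt (2 * n))).erase 4).card = sqrt (2 * n) - 2 := by
        rw [Finset.card_erase_of_mem (Finset.mem_Icc.2 ⟨by norm_num, hs4⟩), card_Icc]; omega
      rw [Finset.prod_const]
      refine pow_right_mono₀ n2_pos ((Finset.card_le_card fun x hx => ?_).trans this.le)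
      obtain ⟨h1, h2⟩ := Finset.mem_filter.1 hx
      have hxp : x.Prime := (Finset.mem_filter.1 h1).2
      refine Finset.mem_erase.2 ⟨?_, Finset.mem_Icc.mpr ⟨hxp.two_le, h2⟩⟩
      rintro rfl
      exact absurd hxp (by norm_num)
    · refine le_trans ?_ (primorial_le_four_pow (2 * n / 3))
      refine (Finset.prod_le_prod' fun p hp => (?_ : f p ≤ p)).trans ?_
      · obtain ⟨h1, h2⟩ := Finset.mem_filter.1 hp
        refine (pow_right_mono₀ (Finset.mem_filter.1 h1).2.one_lt.le ?_).trans (pow_one p).le
        exact Nat.factorization_choose_le_one (sqrt_lt'.mp <| not_le.1 h2)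
      refine Finset.prod_le_prod_of_subset_of_one_le' (Finset.filter_subset _ _) ?_
      exact fun p hp _ => (Finset.mem_filter.1 hp).2.one_lt.le
  calc (∏ x ∈ Finset.range (2 * n + 1) \ Finset.range (2 * n / 3 + 1), f x) *
        ∏ x ∈ Finset.range (2 * n / 3 + 1), f x
      ≤ (2 * n) ^ 2 * ((2 * n) ^ (sqrt (2 * n) - 2) * 4 ^ (2 * n / 3)) := Nat.mul_le_mul hbig hsmall
    _ = (2 * n) ^ (sqrt (2 * n) - 2 + 2) * 4 ^ (2 * n / 3) := by ring
    _ = (2 * n) ^ sqrt (2 * n) * 4 ^ (2 * n / 3) := by rw [Nat.sub_add_cancel (by omega)]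

/-- The property we prove. -/
def ThreePrimes (n : ℕ) : Prop :=
  ∃ p q r : ℕ, p.Prime ∧ q.Prime ∧ r.Prime ∧ n < p ∧ p < q ∧ q < r ∧ r ≤ 2 * n

theorem threePrimes_eventually (n : ℕ) (n_large : 512 ≤ n) : ThreePrimes n := by
  obtain ⟨p1, p0, hp1, hp0, hn0, h01, h2n1⟩ := twoPrimes n (by omega)
  by_contra hcon
  have hall : ∀ p : ℕ, p.Prime → n < p → p ≤ 2 * n → p = p0 ∨ p = p1 := by
    intro p hp hnp hp2
    by_contra hne
    rw [not_or] at hne
    rcases Nat.lt_or_gt_of_ne hne.1 with hlt | hgt
    · exact hcon ⟨p, p0, p1, hp, hp0, hp1, hnp, hlt, h01, h2n1⟩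
    · rcases Nat.lt_or_gt_of_ne hne.2 with hlt' | hgt'
      · exact hcon ⟨p0, p, p1, hp0, hp, hp1, hn0, hgt, hlt', h2n1⟩
      · exact hcon ⟨p0, p1, p, hp0, hp1, hp, hn0, h01, hgt', hp2⟩
  have h1 : 4 ^ n < n * n.centralBinom :=
    Nat.four_pow_lt_mul_centralBinom n (le_trans (by norm_num1) n_large)
  have h2 := centralBinom_le_of_two_primes n (by omega) p0 p1 hall
  have h3 := bertrand_main_inequality n_large
  have h4 : n * n.centralBinom ≤ 4 ^ n := by
    calc n * n.centralBinom ≤ n * ((2 * n) ^ sqrt (2 * n) * 4 ^ (2 * n / 3)) :=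
          Nat.mul_le_mul_left _ h2
      _ = n * (2 * n) ^ sqrt (2 * n) * 4 ^ (2 * n / 3) := by ring
      _ ≤ 4 ^ n := h3
  omega

theorem threePrimes_succ {n : ℕ} (b : ℕ) {p q r : ℕ} (pp : p.Prime) (pq : q.Prime)
    (pr : r.Prime) (hpq : p < q) (hqr : q < r)
    (covering : r ≤ 2 * b) (H : n < b → ThreePrimes n) (hn : n < p) : ThreePrimes n := by
  by_cases hb : n < b
  · exact H hb
  · exact ⟨p, q, r, pp, pq, pr, hn, hpq, hqr, by omega⟩

/-- For `9 ≤ n` there are three distinct primes in `(n, 2n]`. -/
theorem threePrimes (n : ℕ) (hn : 9 ≤ n) : ThreePrimes n := by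
  rcases lt_or_ge 520 n with h | h
  · exact threePrimes_eventually n (by omega)
  refine threePrimes_succ 271 (p := 521) (q := 523) (r := 541) (by norm_num1) (by norm_num1)
    (by norm_num1) (by norm_num1) (by norm_num1) (by norm_num1) ?_ (by omega)
  intro h1
  refine threePrimes_succ 141 (p := 271) (q := 277) (r := 281) (by norm_num1) (by norm_num1)
    (by norm_num1) (by norm_num1) (by norm_num1) (by norm_num1) ?_ (by omega)
  intro h2
  refine threePrimes_succ 79 (p := 149) (q := 151) (r := 157) (by norm_num1) (by norm_num1)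
    (by norm_num1) (by norm_num1) (by norm_num1) (by norm_num1) ?_ (by omega)
  intro h3
  refine threePrimes_succ 45 (p := 79) (q := 83) (r := 89) (by norm_num1) (by norm_num1)
    (by norm_num1) (by norm_num1) (by norm_num1) (by norm_num1) ?_ (by omega)
  intro h4
  refine threePrimes_succ 30 (p := 47) (q := 53) (r := 59) (by norm_num1) (by norm_num1)
    (by norm_num1) (by norm_num1) (by norm_num1) (by norm_num1) ?_ (by omega)
  intro h5
  refine threePrimes_succ 21 (p := 31) (q := 37) (r := 41) (by norm_num1) (by norm_num1)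
    (by norm_num1) (by norm_num1) (by norm_num1) (by norm_num1) ?_ (by omega)
  intro h6
  refine threePrimes_succ 16 (p := 23) (q := 29) (r := 31) (by norm_num1) (by norm_num1)
    (by norm_num1) (by norm_num1) (by norm_num1) (by norm_num1) ?_ (by omega)
  intro h7
  refine threePrimes_succ 12 (p := 17) (q := 19) (r := 23) (by norm_num1) (by norm_num1)
    (by norm_num1) (by norm_num1) (by norm_num1) (by norm_num1) ?_ (by omega)
  intro h8
  refine threePrimes_succ 10 (p := 13) (q := 17) (r := 19) (by norm_num1) (by norm_num1)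
    (by norm_num1) (by norm_num1) (by norm_num1) (by norm_num1) ?_ (by omega)
  intro h9
  refine threePrimes_succ 9 (p := 11) (q := 13) (r := 17) (by norm_num1) (by norm_num1)
    (by norm_num1) (by norm_num1) (by norm_num1) (by norm_num1) ?_ (by omega)
  intro h10
  omega


/-- the pairs of primes that we use for the degree `m` -/
def Good (m p q : ℕ) : Prop :=
  p.Prime ∧ q.Prime ∧ m ≤ 2 * p ∧ p < q ∧ q ≤ m ∧
    (q = p + 2 → (p = 3 ∧ q = 5) ∨ (p = 5 ∧ q = 7) ∨ (p = 11 ∧ q = 13)) ∧
    (m = 2 * p → q + 3 ≤ m ∨ (m = 6 ∧ p = 3 ∧ q = 5))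

theorem exists_good (m : ℕ) (hm : 5 ≤ m) : ∃ p q : ℕ, Good m p q := by
  rcases lt_or_ge m 18 with h | h
  · have key : ∀ p q : ℕ, p.Prime → q.Prime → m ≤ 2 * p → p < q → q ≤ m →
        (q = p + 2 → (p = 3 ∧ q = 5) ∨ (p = 5 ∧ q = 7) ∨ (p = 11 ∧ q = 13)) →
        (m = 2 * p → q + 3 ≤ m ∨ (m = 6 ∧ p = 3 ∧ q = 5)) → ∃ p q : ℕ, Good m p q :=
      fun p q h1 h2 h3 h4 h5 h6 h7 => ⟨p, q, h1, h2, h3, h4, h5, h6, h7⟩
    interval_cases m
    · exact key 3 5 (by norm_num1) (by norm_num1) (by omega) (by omega) (by omega) (by omega)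
        (by omega)
    · exact key 3 5 (by norm_num1) (by norm_num1) (by omega) (by omega) (by omega) (by omega)
        (by omega)
    · exact key 5 7 (by norm_num1) (by norm_num1) (by omega) (by omega) (by omega) (by omega)
        (by omega)
    · exact key 5 7 (by norm_num1) (by norm_num1) (by omega) (by omega) (by omega) (by omega)
        (by omega)
    · exact key 5 7 (by norm_num1) (by norm_num1) (by omega) (by omega) (by omega) (by omega)
        (by omega)
    · exact key 5 7 (by norm_num1) (by norm_num1) (by omega) (by omega) (by omega) (by omega)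
        (by omega)
    · exact key 7 11 (by norm_num1) (by norm_num1) (by omega) (by omega) (by omega) (by omega)
        (by omega)
    · exact key 7 11 (by norm_num1) (by norm_num1) (by omega) (by omega) (by omega) (by omega)
        (by omega)
    · exact key 7 11 (by norm_num1) (by norm_num1) (by omega) (by omega) (by omega) (by omega)
        (by omega)
    · exact key 7 11 (by norm_num1) (by norm_num1) (by omega) (by omega) (by omega) (by omega)
        (by omega)
    · exact key 11 13 (by norm_num1) (by norm_num1) (by omega) (by omega) (by omega) (by omega)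
        (by omega)
    · exact key 11 13 (by norm_num1) (by norm_num1) (by omega) (by omega) (by omega) (by omega)
        (by omega)
    · exact key 13 17 (by norm_num1) (by norm_num1) (by omega) (by omega) (by omega) (by omega)
        (by omega)
  · obtain ⟨p, r, q, hp, hr, hq, h1, h2, h3, h4⟩ := threePrimes (m / 2) (by omega)
    have hpo := hp.eq_two_or_odd
    have hro := hr.eq_two_or_odd
    have hqo := hq.eq_two_or_odd
    exact ⟨p, q, hp, hq, by omega, by omega, by omega, by omega, by omega⟩

end Cfsg.Agent.Lib.Helper27_ThreePrimes
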