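import Mathlib
import Cfsg.Agent.S0713
import Cfsg.Agent.S3377
import Cfsg.Agent.Lib.Helper27_ThreePrimes
import Cfsg.Agent.Lib.Helper27_TwinEnumSound

/-!
# Two elements of prime orders generating an alternating group (helper27, S4150)

For `5 ≤ m` there are primes `p < q` with `m ≤ 2p` and `q ≤ m` such that any two elements of orders `p`
and `q` of the alternating group of degree `m` generate an alternating group: the group induced on the
union of the supports is primitive, and Jordan's theorems apply, except in a few small cases, which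
are settled by enumeration.
-/

set_option autoImplicit false

namespace Cfsg.Agent.Lib.Helper27_TwoCycles

open Equiv Equiv.Perm MulAction Cfsg.Agent.Lib.Helper27_ThreePrimes
  Cfsg.Agent.Lib.Helper27_TwinEnum

section

variable {β : Type*} [Fintype β] [DecidableEq β]

/-- A transitive group containing a cycle of prime length `q` with `card β < 2 q` is primitive. -/
theorem isPreprimitive_of_cycle_mem (K : Subgroup (Perm β)) (hK : IsPretransitive K β)
    {g : Perm β} (hgc : g.IsCycle) (hg : g ∈ K) (hq : g.support.card.Prime)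
    (h2 : Fintype.card β < 2 * g.support.card) : IsPreprimitive K β := by
  classical
  have htr := Equiv.Perm.isPretransitive_of_isCycle_mem hgc hg
  have hcard : Nat.card (SubMulAction.ofFixingSubgroup K ((g.support : Set β)ᶜ)) =
      g.support.card := by
    rw [Nat.card_eq_fintype_card, Fintype.card_subtype]
    apply congr_arg
    ext x
    simp [SubMulAction.mem_ofFixingSubgroup_iff]
  have hprim : IsPreprimitive (fixingSubgroup K ((g.support : Set β)ᶜ))
      (SubMulAction.ofFixingSubgroup K ((g.support : Set β)ᶜ)) := by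
    apply IsPreprimitive.of_prime_card
    rw [hcard]
    exact hq
  refine IsPreprimitive.of_card_lt
    (f := SubMulAction.ofFixingSubgroup_equivariantMap K ((g.support : Set β)ᶜ)) ?_
  have hr : Set.range (SubMulAction.ofFixingSubgroup_equivariantMap K ((g.support : Set β)ᶜ)) =
      (g.support : Set β) := by
    ext x
    constructor
    · rintro ⟨⟨y, hy⟩, rfl⟩
      rw [SubMulAction.mem_ofFixingSubgroup_iff] at hy
      show y ∈ (g.support : Set β)
      simpa using hy
    · intro hx
      refine ⟨⟨x, ?_⟩, rfl⟩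
      rw [SubMulAction.mem_ofFixingSubgroup_iff]
      simpa using hx
  rw [hr, Set.ncard_coe_finset, Nat.card_eq_fintype_card]
  exact h2

/-- the orbit of a moved point under a permutation of prime order has that many elements -/
theorem card_support_cycleOf_of_prime {X : Perm β} {p : ℕ} (hp : p.Prime) (hX : orderOf X = p)
    {b : β} (hb : b ∈ X.support) : (X.cycleOf b).support.card = p := by
  have hc : (X.cycleOf b).IsCycle := isCycle_cycleOf X (mem_support.1 hb)
  rw [← hc.orderOf]
  have hdvd : orderOf (X.cycleOf b) ∣ p := hX ▸ orderOf_cycleOf_dvd_orderOf X b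
  rcases (Nat.dvd_prime hp).1 hdvd with h1 | h1
  · exfalso
    rw [orderOf_eq_one_iff] at h1
    exact hc.ne_one h1
  · exact h1

/-- the group generated by a permutation of prime order `p` and a cycle, whose supports cover
everything, is transitive as soon as `card β < p + q` -/
theorem isPretransitive_closure_pair (X Y : Perm β) {p : ℕ} (hp : p.Prime) (hX : orderOf X = p)
    (hYc : Y.IsCycle) (hcov : ∀ b, b ∈ X.support ∨ b ∈ Y.support)
    (hpq : Fintype.card β < p + Y.support.card) :
    IsPretransitive (Subgroup.closure ({X, Y} : Set (Perm β))) β := by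
  have hXm : X ∈ Subgroup.closure ({X, Y} : Set (Perm β)) :=
    Subgroup.subset_closure (Set.mem_insert _ _)
  have hYm : Y ∈ Subgroup.closure ({X, Y} : Set (Perm β)) :=
    Subgroup.subset_closure (Set.mem_insert_of_mem _ rfl)
  obtain ⟨y0, hy0, hY0⟩ := hYc
  have key : ∀ b : β, ∃ g ∈ Subgroup.closure ({X, Y} : Set (Perm β)), g b = y0 := by
    have keyY : ∀ b ∈ Y.support, ∃ g ∈ Subgroup.closure ({X, Y} : Set (Perm β)), g b = y0 := by
      intro b hb
      obtain ⟨i, hi⟩ := hY0 (mem_support.1 hb)
      refine ⟨(Y ^ i)⁻¹, Subgroup.inv_mem _ (Subgroup.zpow_mem _ hYm i), ?_⟩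
      rw [← hi, Equiv.Perm.coe_inv, Equiv.symm_apply_apply]
    intro b
    rcases hcov b with hb | hb
    · have hcard := card_support_cycleOf_of_prime hp hX hb
      have hne : ((X.cycleOf b).support ∩ Y.support).Nonempty := by
        apply Finset.inter_nonempty_of_card_lt_card_add_card (Finset.subset_univ _)
          (Finset.subset_univ _)
        rw [hcard, Finset.card_univ]
        exact hpq
      obtain ⟨z, hz⟩ := hne
      rw [Finset.mem_inter, mem_support_cycleOf_iff] at hz
      obtain ⟨⟨hsc, _⟩, hzY⟩ := hz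
      obtain ⟨i, hi⟩ := hsc
      obtain ⟨g, hg, hgz⟩ := keyY z hzY
      refine ⟨g * X ^ i, Subgroup.mul_mem _ hg (Subgroup.zpow_mem _ hXm i), ?_⟩
      rw [Perm.mul_apply, hi, hgz]
    · exact keyY b hb
  refine ⟨fun a b => ?_⟩
  obtain ⟨g, hg, hga⟩ := key a
  obtain ⟨h, hh, hhb⟩ := key b
  refine ⟨⟨h⁻¹ * g, Subgroup.mul_mem _ (Subgroup.inv_mem _ hh) hg⟩, ?_⟩
  show (h⁻¹ * g) a = b
  rw [Perm.mul_apply, hga, ← hhb, Equiv.Perm.coe_inv, Equiv.symm_apply_apply]

/-- primitivity of the group generated by a permutation of prime order and a cycle of prime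
length `q` with `card β < 2 q` -/
theorem isPreprimitive_closure_pair (X Y : Perm β) {p q : ℕ} (hp : p.Prime) (hq : q.Prime)
    (hX : orderOf X = p) (hYc : Y.IsCycle) (hYs : Y.support.card = q)
    (hcov : ∀ b, b ∈ X.support ∨ b ∈ Y.support)
    (hpq : Fintype.card β < p + q) (h2q : Fintype.card β < 2 * q) :
    IsPreprimitive (Subgroup.closure ({X, Y} : Set (Perm β))) β := by
  have htr := isPretransitive_closure_pair X Y hp hX hYc hcov (by rw [hYs]; exact hpq)
  exact isPreprimitive_of_cycle_mem _ htr hYc
    (Subgroup.subset_closure (Set.mem_insert_of_mem _ rfl)) (by rw [hYs]; exact hq)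
    (by rw [hYs]; exact h2q)

end

section

variable {α : Type*} [Fintype α] [DecidableEq α]

theorem mem_iff_apply_mem_of_support_subset {X : Perm α} {Δ : Finset α} (h : X.support ⊆ Δ)
    (a : α) : X a ∈ Δ ↔ a ∈ Δ := by
  by_cases ha : a ∈ X.support
  · exact ⟨fun _ => h ha, fun _ => h (apply_mem_support.2 ha)⟩
  · rw [notMem_support.1 ha]

/-- restriction of a permutation to a finset containing its support -/
def restr (X : Perm α) (Δ : Finset α) (h : X.support ⊆ Δ) : Perm {a // a ∈ Δ} :=
  X.subtypePerm (mem_iff_apply_mem_of_support_subset h)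

theorem ofSubtype_restr (X : Perm α) (Δ : Finset α) (h : X.support ⊆ Δ) :
    Perm.ofSubtype (restr X Δ h) = X :=
  ofSubtype_subtypePerm _ (fun _ hx => h (mem_support.2 hx))

theorem sign_restr (X : Perm α) (Δ : Finset α) (h : X.support ⊆ Δ) :
    Perm.sign (restr X Δ h) = Perm.sign X := by
  have := sign_subtypePerm X (mem_iff_apply_mem_of_support_subset h)
    (fun _ hx => h (mem_support.2 hx))
  convert this
  rfl

theorem cycleType_restr (X : Perm α) (Δ : Finset α) (h : X.support ⊆ Δ) :
    (restr X Δ h).cycleType = X.cycleType := by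
  rw [← cycleType_ofSubtype (g := restr X Δ h), ofSubtype_restr]

theorem orderOf_restr (X : Perm α) (Δ : Finset α) (h : X.support ⊆ Δ) :
    orderOf (restr X Δ h) = orderOf X := by
  rw [← orderOf_injective _ Perm.ofSubtype_injective (restr X Δ h), ofSubtype_restr]

theorem mem_support_restr (X : Perm α) (Δ : Finset α) (h : X.support ⊆ Δ) (b : {a // a ∈ Δ}) :
    b ∈ (restr X Δ h).support ↔ (b : α) ∈ X.support := by
  rw [mem_support, mem_support, restr, Ne, ← Subtype.coe_inj, subtypePerm_apply]

/-- the transport: if the restrictions generate the alternating group of the union of the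
supports, then the subgroup generated is an alternating group of that degree -/
theorem iso_of_alt_le (x y : alternatingGroup α)
    (hle : alternatingGroup {a // a ∈ (x : Perm α).support ∪ (y : Perm α).support} ≤
      Subgroup.closure {restr (x : Perm α) _ Finset.subset_union_left,
        restr (y : Perm α) _ Finset.subset_union_right}) :
    Nonempty (Subgroup.closure ({x, y} : Set (alternatingGroup α)) ≃*
      alternatingGroup (Fin ((x : Perm α).support ∪ (y : Perm α).support).card)) := by
  set Δ := (x : Perm α).support ∪ (y : Perm α).support with hΔ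
  set X' := restr (x : Perm α) Δ Finset.subset_union_left with hX'
  set Y' := restr (y : Perm α) Δ Finset.subset_union_right with hY'
  set K := Subgroup.closure ({X', Y'} : Set (Perm {a // a ∈ Δ})) with hK
  have hKeq : K = alternatingGroup {a // a ∈ Δ} := by
    apply le_antisymm _ hle
    rw [hK, Subgroup.closure_le]
    rintro z (rfl | rfl)
    · show X' ∈ alternatingGroup _
      rw [mem_alternatingGroup, hX', sign_restr]
      exact mem_alternatingGroup.1 x.2
    · show Y' ∈ alternatingGroup _
      rw [mem_alternatingGroup, hY', sign_restr]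
      exact mem_alternatingGroup.1 y.2
  -- the chain of isomorphisms
  let e1 := (Subgroup.closure ({x, y} : Set (alternatingGroup α))).equivMapOfInjective
    (alternatingGroup α).subtype (Subgroup.subtype_injective _)
  have h1 : (Subgroup.closure ({x, y} : Set (alternatingGroup α))).map (alternatingGroup α).subtype
      = Subgroup.closure ({(x : Perm α), (y : Perm α)} : Set (Perm α)) := by
    rw [MonoidHom.map_closure, Set.image_pair]
    rfl
  let e2 := K.equivMapOfInjective Perm.ofSubtype Perm.ofSubtype_injective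
  have h2 : K.map Perm.ofSubtype = Subgroup.closure ({(x : Perm α), (y : Perm α)} : Set (Perm α)) := by
    rw [hK, MonoidHom.map_closure, Set.image_pair, hX', hY', ofSubtype_restr, ofSubtype_restr]
  let e3 : K ≃* alternatingGroup {a // a ∈ Δ} := MulEquiv.subgroupCongr hKeq
  let e4 : alternatingGroup {a // a ∈ Δ} ≃* alternatingGroup (Fin Δ.card) :=
    Equiv.altCongrHom Δ.equivFin
  exact ⟨(e1.trans (MulEquiv.subgroupCongr (h1.trans h2.symm))).trans
    (e2.symm.trans (e3.trans e4))⟩

end

section

variable {α : Type*} [Fintype α] [DecidableEq α]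

/-- the union of the supports -/
abbrev supp2 (x y : alternatingGroup α) : Finset α := (x : Perm α).support ∪ (y : Perm α).support

/-- the restrictions of the two generators to the union of their supports -/
abbrev resX (x y : alternatingGroup α) : Perm {a // a ∈ supp2 x y} :=
  restr (x : Perm α) _ Finset.subset_union_left

abbrev resY (x y : alternatingGroup α) : Perm {a // a ∈ supp2 x y} :=
  restr (y : Perm α) _ Finset.subset_union_right

theorem isCycle_of_cycleType_eq_singleton {β : Type*} [Fintype β] [DecidableEq β] {σ : Perm β}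
    {n : ℕ} (h : σ.cycleType = {n}) : σ.IsCycle ∧ σ.support.card = n := by
  constructor
  · rw [← card_cycleType_eq_one, h, Multiset.card_singleton]
  · rw [← sum_cycleType, h, Multiset.sum_singleton]

theorem card_le_supp2 (x y : alternatingGroup α) {q : ℕ} (hy : (y : Perm α).cycleType = {q}) :
    q ≤ (supp2 x y).card := by
  rw [← (isCycle_of_cycleType_eq_singleton hy).2]
  exact Finset.card_le_card Finset.subset_union_right

theorem isPreprimitive_res (x y : alternatingGroup α) {p q : ℕ} (hp : p.Prime) (hq : q.Prime)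
    (hpq : p < q) (hx : orderOf (x : Perm α) = p) (hy : (y : Perm α).cycleType = {q})
    (hm : Fintype.card α ≤ 2 * p) :
    IsPreprimitive (Subgroup.closure ({resX x y, resY x y} : Set (Perm {a // a ∈ supp2 x y})))
      {a // a ∈ supp2 x y} := by
  have hY' : (resY x y).cycleType = {q} := by rw [resY, cycleType_restr, hy]
  obtain ⟨hYc, hYs⟩ := isCycle_of_cycleType_eq_singleton hY'
  have hcard : Fintype.card {a // a ∈ supp2 x y} ≤ Fintype.card α := by
    rw [Fintype.card_coe]
    exact Finset.card_le_univ _
  apply isPreprimitive_closure_pair (resX x y) (resY x y) hp hq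
    (by rw [resX, orderOf_restr, hx]) hYc hYs
  · intro b
    rw [mem_support_restr, mem_support_restr, ← Finset.mem_union]
    exact b.2
  · omega
  · omega

/-- the conclusion of the statement -/
def Concl (x y : alternatingGroup α) : Prop :=
  ∃ d : ℕ, 5 ≤ d ∧ Nonempty (Subgroup.closure ({x, y} : Set (alternatingGroup α)) ≃*
    alternatingGroup (Fin d))

theorem concl_of_alt_le (x y : alternatingGroup α) {q : ℕ} (hq5 : 5 ≤ q)
    (hy : (y : Perm α).cycleType = {q})
    (hle : alternatingGroup {a // a ∈ supp2 x y} ≤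
      Subgroup.closure {resX x y, resY x y}) : Concl x y :=
  ⟨_, hq5.trans (card_le_supp2 x y hy), iso_of_alt_le x y hle⟩

/-- case (a): `x` is a `p`-cycle and `p + 3 ≤ d` -/
theorem concl_via_x (x y : alternatingGroup α) {p q : ℕ} (hp : p.Prime) (hq : q.Prime)
    (hpq : p < q) (hq5 : 5 ≤ q) (hx : (x : Perm α).cycleType = {p})
    (hy : (y : Perm α).cycleType = {q})
    (hm : Fintype.card α ≤ 2 * p) (hd : p + 3 ≤ (supp2 x y).card) : Concl x y := by
  have hxo : orderOf (x : Perm α) = p := by
    rw [← lcm_cycleType, hx, Multiset.lcm_singleton, normalize_eq]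
  have hprim := isPreprimitive_res x y hp hq hpq hxo hy hm
  have hX' : (resX x y).cycleType = {p} := by rw [resX, cycleType_restr, hx]
  obtain ⟨hXc, hXs⟩ := isCycle_of_cycleType_eq_singleton hX'
  apply concl_of_alt_le x y hq5 hy
  have hc : Fintype.card {a // a ∈ supp2 x y} = (supp2 x y).card := Fintype.card_coe _
  have h5 := card_le_supp2 x y hy
  exact Cfsg.Agent.S0713.result _ hprim hp (by omega) (by omega) hXc hXs
    (Subgroup.subset_closure (Set.mem_insert _ _))

/-- case (b): `q + 3 ≤ d` -/
theorem concl_via_y (x y : alternatingGroup α) {p q : ℕ} (hp : p.Prime) (hq : q.Prime)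
    (hpq : p < q) (hq5 : 5 ≤ q) (hx : orderOf (x : Perm α) = p)
    (hy : (y : Perm α).cycleType = {q})
    (hm : Fintype.card α ≤ 2 * p) (hd : q + 3 ≤ (supp2 x y).card) : Concl x y := by
  have hprim := isPreprimitive_res x y hp hq hpq hx hy hm
  have hY' : (resY x y).cycleType = {q} := by rw [resY, cycleType_restr, hy]
  obtain ⟨hYc, hYs⟩ := isCycle_of_cycleType_eq_singleton hY'
  apply concl_of_alt_le x y hq5 hy
  have hc : Fintype.card {a // a ∈ supp2 x y} = (supp2 x y).card := Fintype.card_coe _
  exact Cfsg.Agent.S0713.result _ hprim hq (by omega) (by omega) hYc hYs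
    (Subgroup.subset_closure (Set.mem_insert_of_mem _ rfl))

/-- case (c): `x` is a `3`-cycle -/
theorem concl_three (x y : alternatingGroup α) {q : ℕ} (hq : q.Prime)
    (hq5 : 5 ≤ q) (hx : (x : Perm α).cycleType = {3})
    (hy : (y : Perm α).cycleType = {q})
    (hm : Fintype.card α ≤ 6) : Concl x y := by
  have hxo : orderOf (x : Perm α) = 3 := by
    rw [← lcm_cycleType, hx, Multiset.lcm_singleton, normalize_eq]
  have hprim := isPreprimitive_res x y Nat.prime_three hq (by omega) hxo hy (by omega)
  have hX' : (resX x y).IsThreeCycle := by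
    show (resX x y).cycleType = {3}
    rw [resX, cycleType_restr, hx]
  apply concl_of_alt_le x y hq5 hy
  exact alternatingGroup_le_of_isPreprimitive_of_isThreeCycle_mem hprim hX'
    (Subgroup.subset_closure (Set.mem_insert _ _))

end

/-- the standard cycle of length five on six points -/
def c5 : Perm (Fin 6) := ⟨![1, 2, 3, 4, 0, 5], ![4, 0, 1, 2, 3, 5], by decide, by decide⟩

/-- the certificate for the permutations of type `3 3` -/
def Cert6 (X : Perm (Fin 6)) : Prop :=
  (∃ g ∈ [X * c5, X * c5 ^ 2, X ^ 2 * c5, X ^ 2 * c5 ^ 2], g.support.card = 3) ∨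
  (∃ g ∈ [X, X ^ 2, X * c5 ^ 4 * X, X ^ 2 * c5 ^ 4 * X ^ 2],
    g ^ 3 = 1 ∧ (g * c5) ^ 2 = 1 ∧
      X ∈ [g, g ^ 2, g ^ 2 * c5 ^ 2 * g ^ 2, g * c5 ^ 3 * g])

instance decidableCert6 (X : Perm (Fin 6)) : Decidable (Cert6 X) := by
  unfold Cert6
  infer_instance

set_option maxRecDepth 1000000 in
theorem cert6_all : ∀ X : Perm (Fin 6), X ^ 3 = 1 → (∀ i, X i ≠ i) → Cert6 X := by
  decide +kernel

/-- von Dyck: two elements satisfying the `(3,5,2)` relations, the second one not trivial,
generate a copy of the alternating group of degree five -/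
theorem closure_iso_A5 {G : Type*} [Group G] (g₀ g₁ : G) (r0 : g₀ ^ 3 = 1) (r1 : g₁ ^ 5 = 1)
    (r2 : (g₀ * g₁) ^ 2 = 1) (hne : g₁ ≠ 1) :
    Nonempty (Subgroup.closure ({g₀, g₁} : Set G) ≃* alternatingGroup (Fin 5)) := by
  obtain ⟨e⟩ := Cfsg.Agent.S3377.result
  let f : Fin 2 → G := ![g₀, g₁]
  have hrel : ∀ r ∈ ({FreeGroup.of (0 : Fin 2) ^ 3, FreeGroup.of (1 : Fin 2) ^ 5,
      (FreeGroup.of (0 : Fin 2) * FreeGroup.of 1) ^ 2} : Set (FreeGroup (Fin 2))),
      FreeGroup.lift f r = 1 := by
    intro r hr
    simp only [Set.mem_insert_iff, Set.mem_singleton_iff] at hr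
    rcases hr with rfl | rfl | rfl
    · rw [map_pow, FreeGroup.lift_apply_of]; exact r0
    · rw [map_pow, FreeGroup.lift_apply_of]; exact r1
    · rw [map_pow, map_mul, FreeGroup.lift_apply_of, FreeGroup.lift_apply_of]; exact r2
  let ψ := PresentedGroup.toGroup hrel
  let φ : alternatingGroup (Fin 5) →* G := ψ.comp e.symm.toMonoidHom
  have hψof : ∀ i : Fin 2, ψ (PresentedGroup.of i) = f i := fun i => PresentedGroup.toGroup.of hrel
  have h1 : φ (e (PresentedGroup.of (1 : Fin 2))) = g₁ := by
    show ψ (e.symm (e (PresentedGroup.of (1 : Fin 2)))) = g₁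
    rw [MulEquiv.symm_apply_apply, hψof]
    rfl
  have hinj : Function.Injective φ := by
    rw [← MonoidHom.ker_eq_bot_iff]
    have : IsSimpleGroup (alternatingGroup (Fin 5)) := alternatingGroup.isSimpleGroup (by simp)
    rcases (MonoidHom.normal_ker φ).eq_bot_or_eq_top with h | h
    · exact h
    · exfalso
      apply hne
      have hx : e (PresentedGroup.of (1 : Fin 2)) ∈ φ.ker := by rw [h]; trivial
      rw [MonoidHom.mem_ker] at hx
      rw [← h1, hx]
  have hrange : φ.range = Subgroup.closure ({g₀, g₁} : Set G) := by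
    have hφψ : φ.range = ψ.range := by
      apply le_antisymm
      · rintro _ ⟨a, rfl⟩
        exact ⟨e.symm a, rfl⟩
      · rintro _ ⟨a, rfl⟩
        exact ⟨e a, by show ψ (e.symm (e a)) = ψ a; rw [MulEquiv.symm_apply_apply]⟩
    rw [hφψ, MonoidHom.range_eq_map, ← PresentedGroup.closure_range_of, MonoidHom.map_closure]
    apply le_antisymm
    · rw [Subgroup.closure_le]
      rintro _ ⟨_, ⟨i, rfl⟩, rfl⟩
      rw [hψof]
      apply Subgroup.subset_closure
      fin_cases i
      · exact Set.mem_insert _ _
      · exact Set.mem_insert_of_mem _ rfl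
    · rw [Subgroup.closure_le]
      rintro z (rfl | rfl)
      · exact Subgroup.subset_closure ⟨_, ⟨0, rfl⟩, hψof 0⟩
      · exact Subgroup.subset_closure ⟨_, ⟨1, rfl⟩, hψof 1⟩
  exact ⟨((MonoidHom.ofInjective hinj).trans (MulEquiv.subgroupCongr hrange)).symm⟩

theorem c5_pow : c5 ^ 5 = 1 := by decide

theorem c5_ne_one : c5 ≠ 1 := by decide

theorem c5_cycleType : c5.cycleType = {5} :=
  cycleType_of_prime_pow (by norm_num) c5_pow c5_ne_one (by rw [Fintype.card_fin]; norm_num)

theorem c5_isCycle : c5.IsCycle := (isCycle_of_cycleType_eq_singleton c5_cycleType).1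

theorem c5_card_support : c5.support.card = 5 := (isCycle_of_cycleType_eq_singleton c5_cycleType).2

theorem sign_c5 : Perm.sign c5 = 1 := by
  rw [c5_isCycle.sign, c5_card_support]
  norm_num

/-- the conclusion from an isomorphism of the subgroup of the symmetric group -/
theorem concl_of_perm_iso {α : Type*} [Fintype α] [DecidableEq α] (x y : alternatingGroup α)
    {d : ℕ} (hd : 5 ≤ d)
    (h : Nonempty (Subgroup.closure ({(x : Perm α), (y : Perm α)} : Set (Perm α)) ≃*
      alternatingGroup (Fin d))) : Concl x y := by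
  obtain ⟨e⟩ := h
  let e1 := (Subgroup.closure ({x, y} : Set (alternatingGroup α))).equivMapOfInjective
    (alternatingGroup α).subtype (Subgroup.subtype_injective _)
  have h1 : (Subgroup.closure ({x, y} : Set (alternatingGroup α))).map (alternatingGroup α).subtype
      = Subgroup.closure ({(x : Perm α), (y : Perm α)} : Set (Perm α)) := by
    rw [MonoidHom.map_closure, Set.image_pair]
    rfl
  exact ⟨d, hd, ⟨(e1.trans (MulEquiv.subgroupCongr h1)).trans e⟩⟩

theorem special6 (x y : alternatingGroup (Fin 6)) (hx : (x : Perm (Fin 6)).cycleType = {3, 3})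
    (hy : (y : Perm (Fin 6)).cycleType = {5}) : Concl x y := by
  set X := (x : Perm (Fin 6)) with hXdef
  set Y := (y : Perm (Fin 6)) with hYdef
  have hXo : orderOf X = 3 := by
    rw [← lcm_cycleType, hx]
    rfl
  have hXs : X.support.card = 6 := by
    rw [← sum_cycleType, hx]
    rfl
  obtain ⟨g, hg⟩ := isConj_iff.1 ((isConj_iff_cycleType_eq).2 (hy.trans c5_cycleType.symm))
  set X' := g * X * g⁻¹ with hX'
  have hX'3 : X' ^ 3 = 1 := by
    rw [hX', conj_pow, ← hXo, pow_orderOf_eq_one, mul_one, mul_inv_cancel]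
  have hX'ne : X' ≠ 1 := by
    intro h
    have : X = 1 := by
      have h2 : X = g⁻¹ * X' * g := by rw [hX']; group
      rw [h2, h, mul_one, inv_mul_cancel]
    rw [this, orderOf_one] at hXo
    omega
  have hX'o : orderOf X' = 3 := by
    have : Fact (Nat.Prime 3) := ⟨Nat.prime_three⟩
    exact orderOf_eq_prime hX'3 hX'ne
  have hX'supp : X'.support = Finset.univ := by
    apply Finset.eq_univ_of_card
    rw [hX', card_support_conj, hXs, Fintype.card_fin]
  have hX'fix : ∀ i, X' i ≠ i := by
    intro i
    rw [← mem_support, hX'supp]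
    exact Finset.mem_univ i
  have hX'sign : Perm.sign X' = 1 := by
    have h1 : Perm.sign X = 1 := mem_alternatingGroup.1 x.2
    rw [hX', Perm.sign_mul, Perm.sign_mul, Perm.sign_inv, h1, mul_one, Int.units_mul_self]
  -- the conjugation
  have hconj : Nonempty (Subgroup.closure ({X, Y} : Set (Perm (Fin 6))) ≃*
      Subgroup.closure ({X', c5} : Set (Perm (Fin 6)))) := by
    let ψ : Perm (Fin 6) ≃* Perm (Fin 6) := MulAut.conj g
    let e := (Subgroup.closure ({X, Y} : Set (Perm (Fin 6)))).equivMapOfInjective
      ψ.toMonoidHom ψ.injective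
    have h2 : (Subgroup.closure ({X, Y} : Set (Perm (Fin 6)))).map ψ.toMonoidHom =
        Subgroup.closure ({X', c5} : Set (Perm (Fin 6))) := by
      rw [MonoidHom.map_closure, Set.image_pair]
      show Subgroup.closure {g * X * g⁻¹, g * Y * g⁻¹} = _
      rw [hg]
    exact ⟨e.trans (MulEquiv.subgroupCongr h2)⟩
  obtain ⟨econj⟩ := hconj
  have hXm : X' ∈ Subgroup.closure ({X', c5} : Set (Perm (Fin 6))) :=
    Subgroup.subset_closure (Set.mem_insert _ _)
  have hcm : c5 ∈ Subgroup.closure ({X', c5} : Set (Perm (Fin 6))) :=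
    Subgroup.subset_closure (Set.mem_insert_of_mem _ rfl)
  rcases cert6_all X' hX'3 hX'fix with ⟨t, ht, ht3⟩ | ⟨g0, hg0, r0, r2, hrec⟩
  · -- a cycle of length three
    have htm : t ∈ Subgroup.closure ({X', c5} : Set (Perm (Fin 6))) := by
      simp only [List.mem_cons, List.not_mem_nil, or_false] at ht
      rcases ht with rfl | rfl | rfl | rfl
      · exact Subgroup.mul_mem _ hXm hcm
      · exact Subgroup.mul_mem _ hXm (Subgroup.pow_mem _ hcm 2)
      · exact Subgroup.mul_mem _ (Subgroup.pow_mem _ hXm 2) hcm
      · exact Subgroup.mul_mem _ (Subgroup.pow_mem _ hXm 2) (Subgroup.pow_mem _ hcm 2)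
    have hprim := isPreprimitive_closure_pair X' c5 Nat.prime_three (by norm_num : Nat.Prime 5)
      hX'o c5_isCycle c5_card_support
      (fun b => Or.inl (by rw [hX'supp]; exact Finset.mem_univ b))
      (by rw [Fintype.card_fin]; norm_num) (by rw [Fintype.card_fin]; norm_num)
    have hle := alternatingGroup_le_of_isPreprimitive_of_isThreeCycle_mem hprim
      (card_support_eq_three_iff.1 ht3) htm
    have heq : Subgroup.closure ({X', c5} : Set (Perm (Fin 6))) = alternatingGroup (Fin 6) := by
      apply le_antisymm _ hle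
      rw [Subgroup.closure_le]
      rintro z (rfl | rfl)
      · exact mem_alternatingGroup.2 hX'sign
      · exact mem_alternatingGroup.2 sign_c5
    exact concl_of_perm_iso x y (le_refl _ |>.trans (by norm_num : 5 ≤ 6))
      ⟨econj.trans (MulEquiv.subgroupCongr heq)⟩
  · -- a copy of the alternating group of degree five
    have hg0m : g0 ∈ Subgroup.closure ({X', c5} : Set (Perm (Fin 6))) := by
      simp only [List.mem_cons, List.not_mem_nil, or_false] at hg0
      rcases hg0 with rfl | rfl | rfl | rfl
      · exact hXm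
      · exact Subgroup.pow_mem _ hXm 2
      · exact Subgroup.mul_mem _ (Subgroup.mul_mem _ hXm (Subgroup.pow_mem _ hcm 4)) hXm
      · exact Subgroup.mul_mem _ (Subgroup.mul_mem _ (Subgroup.pow_mem _ hXm 2)
          (Subgroup.pow_mem _ hcm 4)) (Subgroup.pow_mem _ hXm 2)
    have hg0' : g0 ∈ Subgroup.closure ({g0, c5} : Set (Perm (Fin 6))) :=
      Subgroup.subset_closure (Set.mem_insert _ _)
    have hc' : c5 ∈ Subgroup.closure ({g0, c5} : Set (Perm (Fin 6))) :=
      Subgroup.subset_closure (Set.mem_insert_of_mem _ rfl)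
    have hX'm : X' ∈ Subgroup.closure ({g0, c5} : Set (Perm (Fin 6))) := by
      simp only [List.mem_cons, List.not_mem_nil, or_false] at hrec
      rcases hrec with h | h | h | h <;> rw [h]
      · exact hg0'
      · exact Subgroup.pow_mem _ hg0' 2
      · exact Subgroup.mul_mem _ (Subgroup.mul_mem _ (Subgroup.pow_mem _ hg0' 2)
          (Subgroup.pow_mem _ hc' 2)) (Subgroup.pow_mem _ hg0' 2)
      · exact Subgroup.mul_mem _ (Subgroup.mul_mem _ hg0' (Subgroup.pow_mem _ hc' 3)) hg0'
    have heq : Subgroup.closure ({X', c5} : Set (Perm (Fin 6))) =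
        Subgroup.closure ({g0, c5} : Set (Perm (Fin 6))) := by
      apply le_antisymm
      · rw [Subgroup.closure_le]
        rintro z (rfl | rfl)
        · exact hX'm
        · exact hc'
      · rw [Subgroup.closure_le]
        rintro z (rfl | rfl)
        · exact hg0m
        · exact hcm
    obtain ⟨e5⟩ := closure_iso_A5 g0 c5 r0 c5_pow r2 c5_ne_one
    exact concl_of_perm_iso x y (le_refl 5)
      ⟨econj.trans ((MulEquiv.subgroupCongr heq).trans e5)⟩

theorem cycleType_of_prime_order {α : Type*} [Fintype α] [DecidableEq α] {X : Perm α} {p : ℕ}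
    (hp : p.Prime) (hX : orderOf X = p) :
    ∃ n : ℕ, X.cycleType = Multiset.replicate (n + 1) p ∧ (n + 1) * p ≤ Fintype.card α ∧
      X.support.card = (n + 1) * p := by
  obtain ⟨n, hn⟩ := cycleType_prime_order (σ := X) (by rw [hX]; exact hp)
  rw [hX] at hn
  have hs : X.support.card = (n + 1) * p := by
    rw [← sum_cycleType, hn, Multiset.sum_replicate, smul_eq_mul]
  refine ⟨n, hn, ?_, hs⟩
  rw [← hs]
  exact X.support.card_le_univ

theorem main (m : ℕ) (hm : 5 ≤ m) :
    ∃ p q : ℕ, p.Prime ∧ q.Prime ∧ m ≤ 2 * p ∧ p < q ∧ q ≤ m ∧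
      ∀ x y : alternatingGroup (Fin m), orderOf x = p → orderOf y = q → Concl x y := by
  obtain ⟨p, q, hp, hq, h1, h2, h3, htwin, hdouble⟩ := exists_good m hm
  refine ⟨p, q, hp, hq, h1, h2, h3, ?_⟩
  intro x y hx hy
  have hX : orderOf (x : Perm (Fin m)) = p := by rw [Subgroup.orderOf_coe, hx]
  have hY : orderOf (y : Perm (Fin m)) = q := by rw [Subgroup.orderOf_coe, hy]
  have hcard : Fintype.card (Fin m) = m := Fintype.card_fin m
  have hp3 : 3 ≤ p := by
    have := hp.two_le
    omega
  have hpo := hp.eq_two_or_odd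
  have hqo := hq.eq_two_or_odd
  have hq5 : 5 ≤ q := by omega
  -- the cycle type of `y`
  obtain ⟨k, hk, hk1, _⟩ := cycleType_of_prime_order hq hY
  have hk0 : k = 0 := by
    rw [hcard] at hk1
    by_contra hne
    have : 2 * q ≤ (k + 1) * q := Nat.mul_le_mul_right q (by omega)
    omega
  subst hk0
  have hYt : (y : Perm (Fin m)).cycleType = {q} := by
    rw [hk]
    rfl
  -- the cycle type of `x`
  obtain ⟨n, hn, hn1, hn2⟩ := cycleType_of_prime_order hp hX
  rw [hcard] at hn1
  have hn01 : n = 0 ∨ n = 1 := by
    by_contra hne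
    have : 3 * p ≤ (n + 1) * p := Nat.mul_le_mul_right p (by omega)
    omega
  have hdq := card_le_supp2 x y hYt
  have hdm : (supp2 x y).card ≤ m := by
    have := Finset.card_le_univ (supp2 x y)
    omega
  rcases hn01 with rfl | rfl
  · have hXt : (x : Perm (Fin m)).cycleType = {p} := by
      rw [hn]
      rfl
    by_cases hd : p + 3 ≤ (supp2 x y).card
    · exact concl_via_x x y hp hq h2 hq5 hXt hYt (by omega) hd
    · have hqp : q = p + 2 := by omega
      have hdq' : (supp2 x y).card = q := by omega
      have hc : Fintype.card {a // a ∈ supp2 x y} = q := by rw [Fintype.card_coe, hdq']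
      rcases htwin hqp with ⟨rfl, rfl⟩ | ⟨rfl, rfl⟩ | ⟨rfl, rfl⟩
      · exact concl_three x y hq hq5 hXt hYt (by omega)
      · apply concl_of_alt_le x y hq5 hYt
        exact twin7 hc _ _ (by rw [resX, cycleType_restr, hXt])
          (by rw [resY, cycleType_restr, hYt])
      · apply concl_of_alt_le x y hq5 hYt
        exact twin13 hc _ _ (by rw [resX, cycleType_restr, hXt])
          (by rw [resY, cycleType_restr, hYt])
  · have hm2 : m = 2 * p := by omega
    have hsupp : (x : Perm (Fin m)).support = Finset.univ := by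
      apply Finset.eq_univ_of_card
      rw [hn2, hcard]
      omega
    have hd : (supp2 x y).card = m := by
      have : supp2 x y = Finset.univ := by
        rw [supp2, hsupp]
        exact Finset.eq_univ_iff_forall.2 fun a => Finset.mem_union_left _ (Finset.mem_univ a)
      rw [this, Finset.card_univ, hcard]
    rcases hdouble hm2 with h | ⟨rfl, rfl, rfl⟩
    · exact concl_via_y x y hp hq h2 hq5 hX hYt (by omega) (by omega)
    · exact special6 x y (by rw [hn]; rfl) hYt

end Cfsg.Agent.Lib.Helper27_TwoCycles
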