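import Mathlib

set_option autoImplicit false
set_option linter.unusedVariables false
set_option linter.unusedSimpArgs false
set_option linter.unusedSectionVars false

/-!
# S2148 (min index of PSU_3(q)), abstract half, package FLD-A (architect helper65):
pure finite-field counting: trace-zero elements, fixed elements, norm-one units.
-/

namespace Cfsg.Agent.Lib.Helper58_U3A_FLDA

open Polynomial

section

variable {F : Type*} [Field F] [Finite F] {p q k : ℕ} [Fact p.Prime] [CharP F p]

/-- the number of zeros of a nonzero polynomial of degree `≤ n` is at most `n` -/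
theorem card_zeros_le (P : F[X]) (n : ℕ) (hP : P ≠ 0) (hn : P.natDegree ≤ n) :
    Nat.card {b : F // P.eval b = 0} ≤ n := by
  classical
  have : Fintype F := Fintype.ofFinite F
  rw [Nat.card_eq_fintype_card, Fintype.card_subtype]
  refine le_trans (Polynomial.card_le_degree_of_subset_roots ?_) hn
  intro b hb
  simp only [Finset.filter_val, Multiset.mem_filter, Finset.mem_val, Finset.mem_univ,
    true_and] at hb
  rw [Polynomial.mem_roots hP]
  exact hb

theorem pow_q_sq (hF : Nat.card F = q ^ 2) (b : F) : (b ^ q) ^ q = b := by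
  have : Fintype F := Fintype.ofFinite F
  rw [← pow_mul, ← sq, ← hF, Nat.card_eq_fintype_card, FiniteField.pow_card]

theorem one_lt_q (hk : 0 < k) (hq : q = p ^ k) : 1 < q := by
  rw [hq]
  exact Nat.one_lt_pow hk.ne' (Fact.out : p.Prime).one_lt

theorem card_trace_zero (hk : 0 < k) (hq : q = p ^ k) (hF : Nat.card F = q ^ 2) :
    Nat.card {b : F // b + b ^ q = 0} = q ∧ Nat.card {c : F // c ^ q = c} = q := by
  classical
  have hq1 : 1 < q := one_lt_q hk hq
  have hq0 : q ≠ 0 := by omega
  have hadd : ∀ a b : F, (a + b) ^ q = a ^ q + b ^ q := by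
    intro a b
    rw [hq]
    exact add_pow_char_pow a b p k
  -- the trace map
  let φ : F →+ F :=
    { toFun := fun b => b + b ^ q
      map_zero' := by simp [hq0]
      map_add' := by
        intro a b
        simp only [hadd]
        ring }
  have hφ : ∀ b, φ b = b + b ^ q := fun b => rfl
  have hprod : Nat.card φ.ker * Nat.card φ.range = q ^ 2 := by
    rw [← AddSubgroup.index_ker, AddSubgroup.card_mul_index, hF]
  -- kernel bound
  have hK : Nat.card φ.ker = Nat.card {b : F // b + b ^ q = 0} :=
    Nat.card_congr (Equiv.subtypeEquivRight (fun b => by rw [AddMonoidHom.mem_ker, hφ]))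
  have hdeg1 : (X ^ q + X : F[X]).natDegree = q := by
    rw [Polynomial.natDegree_add_eq_left_of_natDegree_lt] <;> simp [hq1]
  have hP1 : (X ^ q + X : F[X]) ≠ 0 := by
    intro h
    rw [h, Polynomial.natDegree_zero] at hdeg1
    omega
  have hK' : Nat.card {b : F // b + b ^ q = 0} ≤ q := by
    have := card_zeros_le (X ^ q + X : F[X]) q hP1 hdeg1.le
    refine le_trans (le_of_eq ?_) this
    exact Nat.card_congr (Equiv.subtypeEquivRight (fun b => by
      simp only [eval_add, eval_pow, eval_X]
      rw [add_comm]))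
  -- fixed bound
  have hdeg2 : (X ^ q - X : F[X]).natDegree = q := by
    rw [Polynomial.natDegree_sub_eq_left_of_natDegree_lt] <;> simp [hq1]
  have hP2 : (X ^ q - X : F[X]) ≠ 0 := by
    intro h
    rw [h, Polynomial.natDegree_zero] at hdeg2
    omega
  have hFx : Nat.card {c : F // c ^ q = c} ≤ q := by
    have := card_zeros_le (X ^ q - X : F[X]) q hP2 hdeg2.le
    refine le_trans (le_of_eq ?_) this
    exact Nat.card_congr (Equiv.subtypeEquivRight (fun b => by
      simp only [eval_sub, eval_pow, eval_X]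
      rw [sub_eq_zero]))
  -- range inside fixed
  have hR : Nat.card φ.range ≤ Nat.card {c : F // c ^ q = c} := by
    have hsub : (φ.range : Set F) ⊆ {c : F | c ^ q = c} := by
      rintro c ⟨b, rfl⟩
      show (φ b) ^ q = φ b
      rw [hφ, hadd, pow_q_sq hF, add_comm]
    exact Nat.card_mono (Set.toFinite _) hsub
  rw [hK] at hprod
  set K := Nat.card {b : F // b + b ^ q = 0}
  set Fx := Nat.card {c : F // c ^ q = c}
  set R := Nat.card φ.range
  have hKq : K = q := by
    by_contra hne
    have hlt : K < q := lt_of_le_of_ne hK' hne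
    have : K * R < q * q := by
      calc K * R ≤ K * q := Nat.mul_le_mul_left K (hR.trans hFx)
        _ < q * q := Nat.mul_lt_mul_of_pos_right hlt (by omega)
    rw [hprod, sq] at this
    omega
  refine ⟨hKq, ?_⟩
  rw [hKq, sq] at hprod
  have hRq : R = q := Nat.eq_of_mul_eq_mul_left (by omega : 0 < q) hprod
  omega

/-- in a finite cyclic commutative group, `#{g | g^d = 1} = d` when `d ∣ |G|` -/
theorem card_pow_eq_one_of_dvd (G : Type*) [CommGroup G] [IsCyclic G] [Finite G] (d : ℕ)
    (hd : d ∣ Nat.card G) : Nat.card {g : G // g ^ d = 1} = d := by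
  have h1 := IsCyclic.card_powMonoidHom_ker G d
  rw [Nat.gcd_eq_right hd] at h1
  refine Eq.trans (Nat.card_congr (Equiv.subtypeEquivRight (fun g => ?_))) h1
  rw [MonoidHom.mem_ker, powMonoidHom_apply]

theorem card_units (hk : 0 < k) (hq : q = p ^ k) (hF : Nat.card F = q ^ 2) :
    Nat.card Fˣ = (q - 1) * (q + 1) := by
  have h1 : 1 < q := one_lt_q hk hq
  rw [Nat.card_units, hF]
  have : q ^ 2 = (q - 1) * (q + 1) + 1 := by
    obtain ⟨r, rfl⟩ : ∃ r, q = r + 1 := ⟨q - 1, by omega⟩
    simp only [Nat.add_sub_cancel]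
    ring
  omega

theorem card_norm_one (hk : 0 < k) (hq : q = p ^ k) (hF : Nat.card F = q ^ 2) :
    Nat.card {l : Fˣ // l ^ (q + 1) = 1} = q + 1 ∧
    Nat.card {l : Fˣ // l ^ (q + 1) = 1 ∧ l ^ 3 = 1} = Nat.gcd 3 (q + 1) := by
  have hU := card_units hk hq hF
  constructor
  · exact card_pow_eq_one_of_dvd Fˣ (q + 1) (by rw [hU]; exact Dvd.intro_left _ rfl)
  · have h3 : Nat.gcd 3 (q + 1) ∣ Nat.card Fˣ := by
      rw [hU]
      exact Dvd.dvd.mul_left (Nat.gcd_dvd_right 3 (q + 1)) _
    rw [← card_pow_eq_one_of_dvd Fˣ (Nat.gcd 3 (q + 1)) h3]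
    refine Nat.card_congr (Equiv.subtypeEquivRight (fun l => ?_))
    rw [pow_gcd_eq_one, and_comm]

end

end Cfsg.Agent.Lib.Helper58_U3A_FLDA
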