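import Mathlib

set_option autoImplicit false
set_option linter.unusedSectionVars false

/-!
# S2148, abstract half: the data `U3Data` (architect helper65; paper proof = lead's finding 170)

`U3Data p q F G U` axiomatises `G = PSU_3(q)` acting on the `q^3+1` isotropic points `U`:
2-transitivity, the point stabiliser `B = Q ⋊ T` with the explicit parametrisation
`x a b` (`b + b^q + a a^q = 0`) of the Sylow `p`-subgroup `Q` and the torus `t l` (`l : Fˣ`),
uniqueness of the block through `u, u'`, simplicity, and a fixed point for every involution (`p` odd).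
The two Dickson inputs are the separate propositions `Dickson1 D`, `Dickson2 D`.
-/

namespace Cfsg.Agent.Lib.Helper65_U3Defs

/-- `b + b^q + a a^q = 0`: the pair `(a,b)` parametrises an element of `Q`. -/
def Rel {F : Type*} [Field F] (q : ℕ) (a b : F) : Prop := b + b ^ q + a * a ^ q = 0

/-- The block through `u` and `u'`: `u` together with the `Z`-orbit of `u'`. -/
def InBlk {F G U : Type*} [Field F] [Group G] [MulAction G U] (q : ℕ) (x : F → F → G)
    (u u' : U) (w : U) : Prop :=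
  w = u ∨ ∃ b : F, b + b ^ q = 0 ∧ w = x 0 b • u'

structure U3Data (p q : ℕ) (F G U : Type*) [Field F] [Group G] [MulAction G U] where
  hp : p.Prime
  k : ℕ
  hk : 0 < k
  hq : q = p ^ k
  charF : CharP F p
  cardF : Nat.card F = q ^ 2
  finG : Finite G
  cardU : Nat.card U = q ^ 3 + 1
  two_trans : ∀ a b c d : U, a ≠ b → c ≠ d → ∃ g : G, g • a = c ∧ g • b = d
  simple : IsSimpleGroup G
  u : U
  u' : U
  huu' : u ≠ u'
  x : F → F → G
  t : Fˣ →* G
  x_mul : ∀ a b a' b' : F, Rel q a b → Rel q a' b' →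
    x a b * x a' b' = x (a + a') (b + b' - a ^ q * a')
  t_conj : ∀ (l : Fˣ) (a b : F), Rel q a b →
    t l * x a b * (t l)⁻¹ = x ((l : F) ^ (2 * q - 1) * a) ((l : F) ^ (q + 1) * b)
  t_ker : ∀ l : Fˣ, t l = 1 ↔ l ^ (q + 1) = 1 ∧ l ^ 3 = 1
  x_fix : ∀ a b : F, Rel q a b → x a b • u = u
  t_fix : ∀ l : Fˣ, t l • u = u ∧ t l • u' = u'
  stab_u : ∀ g : G, g • u = u → ∃ (a b : F) (l : Fˣ), Rel q a b ∧ g = x a b * t l
  x_free : ∀ a b : F, Rel q a b → x a b • u' = u' → a = 0 ∧ b = 0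
  blk_unique : ∀ g : G, InBlk q x u u' (g • u) → InBlk q x u u' (g • u') →
    ∀ w, InBlk q x u u' w → InBlk q x u u' (g • w)
  inv_fix : p ≠ 2 → ∀ g : G, orderOf g = 2 → ∃ w : U, g • w = w

variable {p q : ℕ} {F G U : Type*} [Field F] [Group G] [MulAction G U]

namespace U3Data

variable (D : U3Data p q F G U)

include D

theorem q_pos : 0 < q := by
  rw [D.hq]; exact pow_pos D.hp.pos _

theorem two_le_q : 2 ≤ q := by
  rw [D.hq]
  calc 2 ≤ p := D.hp.two_le
    _ = p ^ 1 := (pow_one p).symm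
    _ ≤ p ^ D.k := Nat.pow_le_pow_right D.hp.pos D.hk

theorem finiteF : Finite F := by
  apply Nat.finite_of_card_ne_zero
  rw [D.cardF]
  exact pow_ne_zero _ D.q_pos.ne'

theorem finiteU : Finite U := by
  apply Nat.finite_of_card_ne_zero
  rw [D.cardU]
  exact Nat.succ_ne_zero _

/-- `c ^ (q^2) = c` in `F`. -/
theorem frob_sq (c : F) : (c ^ q) ^ q = c := by
  have := D.finiteF
  have := Fintype.ofFinite F
  have h := FiniteField.pow_card c
  rw [← Nat.card_eq_fintype_card (α := F), D.cardF, sq, pow_mul] at h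
  exact h

theorem neg_one_pow_succ : (-1 : F) ^ (q + 1) = 1 := by
  have := D.charF
  rcases D.hp.eq_two_or_odd' with h2 | hodd
  · subst h2
    rw [CharTwo.neg_eq]
    exact one_pow _
  · have hqodd : Odd q := by rw [D.hq]; exact hodd.pow
    exact (hqodd.add_odd odd_one).neg_one_pow

theorem rel_zero_iff (b : F) : Rel q 0 b ↔ b + b ^ q = 0 := by
  unfold Rel
  rw [zero_mul, add_zero]

theorem rel_zero_zero : Rel q (0 : F) 0 := by
  unfold Rel
  rw [zero_pow D.q_pos.ne', zero_mul, add_zero, add_zero]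

theorem rel_mul {a b a' b' : F} (h : Rel q a b) (h' : Rel q a' b') :
    Rel q (a + a') (b + b' - a ^ q * a') := by
  have := D.charF
  have hpp : Fact p.Prime := ⟨D.hp⟩
  unfold Rel at *
  have hadd : ∀ c d : F, (c + d) ^ q = c ^ q + d ^ q := by
    intro c d
    rw [D.hq]
    exact add_pow_char_pow c d p D.k
  have hsub : ∀ c d : F, (c - d) ^ q = c ^ q - d ^ q := by
    intro c d
    rw [D.hq]
    exact sub_pow_char_pow c d D.k
  rw [hsub, hadd, hadd, mul_pow, D.frob_sq]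
  linear_combination h + h'

theorem rel_inv {a b : F} (h : Rel q a b) : Rel q (-a) (b ^ q) := by
  unfold Rel at *
  rw [D.frob_sq]
  have : (-a) * (-a) ^ q = a * a ^ q := by
    rw [← pow_succ', ← pow_succ', neg_pow, D.neg_one_pow_succ, one_mul]
  rw [this]
  linear_combination h

theorem x_zero_zero : D.x 0 0 = 1 := by
  have h := D.x_mul 0 0 0 0 D.rel_zero_zero D.rel_zero_zero
  rw [add_zero, mul_zero, sub_zero] at h
  exact mul_eq_left.mp h

theorem x_inv {a b : F} (h : Rel q a b) : (D.x a b)⁻¹ = D.x (-a) (b ^ q) := by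
  have h1 := D.x_mul a b (-a) (b ^ q) h (D.rel_inv h)
  have h2 : b + b ^ q - a ^ q * -a = 0 := by
    unfold Rel at h
    linear_combination h
  rw [add_neg_cancel, h2, D.x_zero_zero] at h1
  exact inv_eq_of_mul_eq_one_right h1

/-- The Sylow `p`-subgroup `Q` of the stabiliser of `u`. -/
def Q : Subgroup G where
  carrier := {g | ∃ a b : F, Rel q a b ∧ g = D.x a b}
  mul_mem' := by
    rintro _ _ ⟨a, b, h, rfl⟩ ⟨a', b', h', rfl⟩
    exact ⟨_, _, D.rel_mul h h', D.x_mul a b a' b' h h'⟩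
  one_mem' := ⟨0, 0, D.rel_zero_zero, D.x_zero_zero.symm⟩
  inv_mem' := by
    rintro _ ⟨a, b, h, rfl⟩
    exact ⟨_, _, D.rel_inv h, D.x_inv h⟩

/-- The root group `Z = Z(Q)`. -/
def Z : Subgroup G where
  carrier := {g | ∃ b : F, b + b ^ q = 0 ∧ g = D.x 0 b}
  mul_mem' := by
    rintro _ _ ⟨b, h, rfl⟩ ⟨b', h', rfl⟩
    refine ⟨b + b', ?_, ?_⟩
    · have := D.rel_mul ((D.rel_zero_iff b).mpr h) ((D.rel_zero_iff b').mpr h')
      rw [add_zero, zero_pow D.q_pos.ne', zero_mul, sub_zero] at this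
      exact (D.rel_zero_iff _).mp this
    · have := D.x_mul 0 b 0 b' ((D.rel_zero_iff b).mpr h) ((D.rel_zero_iff b').mpr h')
      rw [add_zero, zero_pow D.q_pos.ne', zero_mul, sub_zero] at this
      exact this
  one_mem' := ⟨0, by rw [zero_pow D.q_pos.ne', add_zero], D.x_zero_zero.symm⟩
  inv_mem' := by
    rintro _ ⟨b, h, rfl⟩
    refine ⟨b ^ q, ?_, ?_⟩
    · rw [D.frob_sq]; linear_combination h
    · have := D.x_inv ((D.rel_zero_iff b).mpr h)
      rwa [neg_zero] at this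

/-- The torus `T = G_{u,u'}`. -/
def T : Subgroup G := D.t.range

/-- The homology group `T1`: torus elements with `l^(q+1) = 1`. -/
def T1 : Subgroup G := ((powMonoidHom (q + 1) : Fˣ →* Fˣ).ker).map D.t

/-- The Borel subgroup `B = G_u`. -/
def B : Subgroup G := MulAction.stabilizer G D.u

/-- The block through `u, u'`. -/
def Blk : Set U := {w | InBlk q D.x D.u D.u' w}

/-- The pointwise stabiliser of the block. -/
def blkFix : Subgroup G where
  carrier := {g | ∀ w ∈ D.Blk, g • w = w}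
  mul_mem' := by
    intro a b ha hb w hw
    rw [mul_smul, hb w hw, ha w hw]
  one_mem' := fun w _ => one_smul _ _
  inv_mem' := by
    intro a ha w hw
    rw [inv_smul_eq_iff, ha w hw]

/-- The conjugate `g Q g⁻¹ = Q_{g u}`. -/
def Qat (g : G) : Subgroup G := D.Q.map (MulAut.conj g).toMonoidHom

/-- The conjugate `g Z g⁻¹ = Z_{g u}`. -/
def Zat (g : G) : Subgroup G := D.Z.map (MulAut.conj g).toMonoidHom

theorem mem_Q {g : G} : g ∈ D.Q ↔ ∃ a b : F, Rel q a b ∧ g = D.x a b := Iff.rfl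

theorem mem_Z {g : G} : g ∈ D.Z ↔ ∃ b : F, b + b ^ q = 0 ∧ g = D.x 0 b := Iff.rfl

theorem mem_T {g : G} : g ∈ D.T ↔ ∃ l : Fˣ, D.t l = g := MonoidHom.mem_range

theorem mem_T1 {g : G} : g ∈ D.T1 ↔ ∃ l : Fˣ, l ^ (q + 1) = 1 ∧ D.t l = g := by
  unfold T1
  rw [Subgroup.mem_map]
  constructor
  · rintro ⟨l, hl, rfl⟩
    exact ⟨l, by simpa [MonoidHom.mem_ker] using hl, rfl⟩
  · rintro ⟨l, hl, rfl⟩
    exact ⟨l, by simpa [MonoidHom.mem_ker] using hl, rfl⟩

theorem mem_B {g : G} : g ∈ D.B ↔ g • D.u = D.u := MulAction.mem_stabilizer_iff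

theorem mem_Blk {w : U} : w ∈ D.Blk ↔ w = D.u ∨ ∃ b : F, b + b ^ q = 0 ∧ w = D.x 0 b • D.u' :=
  Iff.rfl

theorem mem_blkFix {g : G} : g ∈ D.blkFix ↔ ∀ w ∈ D.Blk, g • w = w := Iff.rfl

theorem mem_Qat {g z : G} : z ∈ D.Qat g ↔ g⁻¹ * z * g ∈ D.Q := by
  unfold Qat
  rw [Subgroup.mem_map]
  constructor
  · rintro ⟨y, hy, rfl⟩
    simpa [MulAut.conj_apply, mul_assoc] using hy
  · intro h
    exact ⟨g⁻¹ * z * g, h, by simp [MulAut.conj_apply, mul_assoc]⟩

theorem mem_Zat {g z : G} : z ∈ D.Zat g ↔ g⁻¹ * z * g ∈ D.Z := by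
  unfold Zat
  rw [Subgroup.mem_map]
  constructor
  · rintro ⟨y, hy, rfl⟩
    simpa [MulAut.conj_apply, mul_assoc] using hy
  · intro h
    exact ⟨g⁻¹ * z * g, h, by simp [MulAut.conj_apply, mul_assoc]⟩

theorem Z_le_Q : D.Z ≤ D.Q := by
  rintro _ ⟨b, h, rfl⟩
  exact ⟨0, b, (D.rel_zero_iff b).mpr h, rfl⟩

theorem T1_le_T : D.T1 ≤ D.T := by
  intro g hg
  obtain ⟨l, -, rfl⟩ := D.mem_T1.mp hg
  exact D.mem_T.mpr ⟨l, rfl⟩

theorem Q_le_B : D.Q ≤ D.B := by
  rintro _ ⟨a, b, h, rfl⟩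
  exact D.mem_B.mpr (D.x_fix a b h)

theorem T_le_B : D.T ≤ D.B := by
  intro g hg
  obtain ⟨l, rfl⟩ := D.mem_T.mp hg
  exact D.mem_B.mpr (D.t_fix l).1

end U3Data

/-- **Dickson input 1** (concrete half, from S0799): a subgroup meeting every root group `Z_v`, `v` on the
block through `u, u'`, in a subgroup of the same order `y` with `1 < y < q` forces `(p, y) = (2, 2)` or
`(q, y) = (9, 3)`. -/
def Dickson1 (D : U3Data p q F G U) : Prop :=
  ∀ (H' : Subgroup G) (y : ℕ),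
    (∀ g : G, g • D.u ∈ D.Blk → Nat.card ↥(H' ⊓ D.Zat g) = y) → 1 < y → y < q →
    (p = 2 ∧ y = 2) ∨ (q = 9 ∧ y = 3)

/-- **Dickson input 2** (concrete half, from S0799): a `p'`-subgroup `C` stabilising the block, transitive on
its `q+1` points, with cyclic point stabiliser `C_u` of order `e * |C ∩ blkFix|`: the group induced on the
block is cyclic (`e = 1`), dihedral (`e ≤ 2`), `A4`, `S4` or `A5`. -/
def Dickson2 (D : U3Data p q F G U) : Prop :=
  ∀ (C : Subgroup G) (e : ℕ),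
    (∀ c ∈ C, ∀ w ∈ D.Blk, c • w ∈ D.Blk) → (Nat.card ↥C).Coprime p →
    (∀ w ∈ D.Blk, ∃ c ∈ C, c • D.u = w) → IsCyclic ↥(C ⊓ D.B) →
    Nat.card ↥(C ⊓ D.B) = e * Nat.card ↥(C ⊓ D.blkFix) →
    e ≤ 2 ∨ (q + 1) * e = 12 ∨ (q + 1) * e = 24 ∨ (q + 1) * e = 60

/-- The configuration of Steps 2-6: `H` is transitive on `U`, has index at most `q^3`, and its point
stabiliser splits as `(H ∩ Q)(H ∩ T)` (after conjugating by an element of `Q`). -/
structure Good (D : U3Data p q F G U) (H : Subgroup G) : Prop where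
  trans : ∀ a b : U, ∃ h ∈ H, h • a = b
  le : H.index ≤ q ^ 3
  split : Nat.card ↥(H ⊓ D.B) = Nat.card ↥(H ⊓ D.Q) * Nat.card ↥(H ⊓ D.T)

end Cfsg.Agent.Lib.Helper65_U3Defs
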