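import Mathlib
import Cfsg.Agent.Lib.Helper65_U3Defs

set_option autoImplicit false
set_option linter.unusedSectionVars false
set_option linter.unusedVariables false

/-! S2148 abstract half, package BAS1: the `x`-calculus. -/

namespace Cfsg.Agent.Lib.Helper65_U3A_BAS1

open Cfsg.Agent.Lib.Helper65_U3Defs

variable {p q : ℕ} {F G U : Type*} [Field F] [Group G] [MulAction G U]

theorem x_inj (D : U3Data p q F G U) {a b a' b' : F} (h : Rel q a b) (h' : Rel q a' b')
    (e : D.x a b = D.x a' b') : a = a' ∧ b = b' := by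
  have h1 : (D.x a b)⁻¹ * D.x a' b' = 1 := by rw [e, inv_mul_cancel]
  rw [D.x_inv h, D.x_mul _ _ _ _ (D.rel_inv h) h'] at h1
  have hrel := D.rel_mul (D.rel_inv h) h'
  have hfix : D.x (-a + a') (b ^ q + b' - (-a) ^ q * a') • D.u' = D.u' := by
    rw [h1, one_smul]
  obtain ⟨e1, e2⟩ := D.x_free _ _ hrel hfix
  have ha : a = a' := by linear_combination -e1
  refine ⟨ha, ?_⟩
  subst ha
  have hneg : (-a) ^ q * a = - (a * a ^ q) := by
    have h3 : (-a) * (-a) ^ q = a * a ^ q := by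
      rw [← pow_succ', ← pow_succ', neg_pow, D.neg_one_pow_succ, one_mul]
    linear_combination -h3
  rw [hneg] at e2
  unfold Helper65_U3Defs.Rel at h h'
  linear_combination h - e2

theorem x_comm (D : U3Data p q F G U) {a b a' b' : F} (h : Rel q a b) (h' : Rel q a' b') :
    D.x a b * D.x a' b' = D.x a' b' * D.x a b * D.x 0 (a * a' ^ q - a ^ q * a') := by
  have hc : Rel q 0 (a * a' ^ q - a ^ q * a') := by
    have := D.charF
    have hpp : Fact p.Prime := ⟨D.hp⟩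
    rw [D.rel_zero_iff]
    have hsub : ∀ c d : F, (c - d) ^ q = c ^ q - d ^ q := by
      intro c d
      rw [D.hq]
      exact sub_pow_char_pow c d D.k
    rw [hsub, mul_pow, mul_pow, D.frob_sq, D.frob_sq]
    ring
  rw [D.x_mul _ _ _ _ h h', D.x_mul _ _ _ _ h' h, D.x_mul _ _ _ _ (D.rel_mul h' h) hc]
  congr 1
  · ring
  · ring

theorem x_mul_Z (D : U3Data p q F G U) {a b c : F} (h : Rel q a b) (hc : c + c ^ q = 0) :
    D.x a b * D.x 0 c = D.x a (b + c) ∧ D.x 0 c * D.x a b = D.x a (b + c) := by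
  have hc' : Rel q 0 c := (D.rel_zero_iff c).mpr hc
  constructor
  · rw [D.x_mul _ _ _ _ h hc', add_zero, mul_zero, sub_zero]
  · rw [D.x_mul _ _ _ _ hc' h, zero_add, zero_pow D.q_pos.ne', zero_mul, sub_zero, add_comm]

theorem Z_central (D : U3Data p q F G U) : ∀ z ∈ D.Z, ∀ g ∈ D.Q, z * g = g * z := by
  rintro _ ⟨c, hc, rfl⟩ _ ⟨a, b, h, rfl⟩
  rw [(x_mul_Z D h hc).1, (x_mul_Z D h hc).2]

theorem x_sq_of_two (D : U3Data p q F G U) (h2 : p = 2) {a b : F} (h : Rel q a b) :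
    D.x a b * D.x a b = D.x 0 (a * a ^ q) := by
  have := D.charF
  subst h2
  rw [D.x_mul _ _ _ _ h h, CharTwo.add_self_eq_zero, CharTwo.add_self_eq_zero, zero_sub,
    CharTwo.neg_eq, mul_comm]

theorem Q_inf_T (D : U3Data p q F G U) : D.Q ⊓ D.T = ⊥ := by
  rw [eq_bot_iff]
  rintro g ⟨hQ, hT⟩
  obtain ⟨a, b, h, rfl⟩ := hQ
  obtain ⟨l, hl⟩ := D.mem_T.mp hT
  have hfix : D.x a b • D.u' = D.u' := by rw [← hl]; exact (D.t_fix l).2
  obtain ⟨rfl, rfl⟩ := D.x_free a b h hfix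
  exact D.x_zero_zero

end Cfsg.Agent.Lib.Helper65_U3A_BAS1
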