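import Mathlib
import Cfsg.Agent.Lib.Helper65_U3Defs
import Cfsg.Agent.Lib.Helper65_U3A_BAS1

set_option autoImplicit false
set_option linter.unusedSectionVars false
set_option linter.unusedVariables false

/-! S2148 abstract half, package BAS2: the Borel subgroup `B = Q T`. -/

namespace Cfsg.Agent.Lib.Helper65_U3A_BAS2

open Cfsg.Agent.Lib.Helper65_U3Defs Cfsg.Agent.Lib.Helper65_U3A_BAS1

variable {p q : ℕ} {F G U : Type*} [Field F] [Group G] [MulAction G U]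

theorem pow_q_sq (D : U3Data p q F G U) (c : F) : c ^ (q * q) = c := by
  rw [pow_mul]; exact D.frob_sq c

/-- `N(l)^q = N(l)`. -/
theorem norm_frob (D : U3Data p q F G U) (c : F) : (c ^ (q + 1)) ^ q = c ^ (q + 1) := by
  rw [← pow_mul, add_mul, one_mul, pow_add, pow_q_sq D, pow_succ, mul_comm]

/-- `nu(l) nu(l)^q = N(l)`. -/
theorem nu_norm (D : U3Data p q F G U) {c : F} (hc : c ≠ 0) :
    c ^ (2 * q - 1) * (c ^ (2 * q - 1)) ^ q = c ^ (q + 1) := by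
  have hq := D.q_pos
  have h2 : c ^ (2 * q - 1) * (c ^ (2 * q - 1)) ^ q * c ^ 2 = c ^ (q + 1) * c ^ 2 := by
    rw [← pow_mul, ← pow_add, ← pow_add, ← pow_add]
    have e : 2 * q - 1 + (2 * q - 1) * q + 2 = q * q + q * q + (q + 1 + 2) - 2 := by
      obtain ⟨m, rfl⟩ : ∃ m, q = m + 1 := ⟨q - 1, by omega⟩
      have : 2 * (m + 1) - 1 = 2 * m + 1 := by omega
      rw [this]
      have h3 : (m + 1) * (m + 1) + (m + 1) * (m + 1) + (m + 1 + 1 + 2) - 2 =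
          (m + 1) * (m + 1) + (m + 1) * (m + 1) + (m + 1 + 1) := by omega
      rw [h3]
      ring
    have e2 : q * q + q * q + (q + 1 + 2) - 2 = q * q + q * q + (q + 1) := by omega
    rw [e, e2, pow_add, pow_add, pow_q_sq D, pow_add]
    ring
  exact mul_right_cancel₀ (pow_ne_zero 2 hc) h2

theorem rel_torus (D : U3Data p q F G U) (l : Fˣ) {a b : F} (h : Rel q a b) :
    Rel q ((l : F) ^ (2 * q - 1) * a) ((l : F) ^ (q + 1) * b) := by
  unfold Helper65_U3Defs.Rel at *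
  have h1 := norm_frob D (l : F)
  have h2 := nu_norm D (l.ne_zero)
  rw [mul_pow, mul_pow, h1]
  linear_combination (l : F) ^ (q + 1) * h + a * a ^ q * h2

theorem t_conj_mem_Q (D : U3Data p q F G U) (l : Fˣ) {z : G} (hz : z ∈ D.Q) :
    D.t l * z * (D.t l)⁻¹ ∈ D.Q := by
  obtain ⟨a, b, h, rfl⟩ := hz
  rw [D.t_conj l a b h]
  exact ⟨_, _, rel_torus D l h, rfl⟩

theorem t_conj_mem_Z (D : U3Data p q F G U) (l : Fˣ) {z : G} (hz : z ∈ D.Z) :
    D.t l * z * (D.t l)⁻¹ ∈ D.Z := by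
  obtain ⟨b, h, rfl⟩ := hz
  rw [D.t_conj l 0 b ((D.rel_zero_iff b).mpr h), mul_zero]
  refine ⟨_, ?_, rfl⟩
  have := rel_torus D l ((D.rel_zero_iff b).mpr h)
  rw [mul_zero] at this
  exact (D.rel_zero_iff _).mp this

theorem mem_B_iff (D : U3Data p q F G U) {g : G} :
    g ∈ D.B ↔ ∃ z ∈ D.Q, ∃ s ∈ D.T, g = z * s := by
  constructor
  · intro hg
    obtain ⟨a, b, l, h, rfl⟩ := D.stab_u g (D.mem_B.mp hg)
    exact ⟨_, ⟨a, b, h, rfl⟩, _, D.mem_T.mpr ⟨l, rfl⟩, rfl⟩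
  · rintro ⟨z, hz, s, hs, rfl⟩
    exact D.B.mul_mem (D.Q_le_B hz) (D.T_le_B hs)

theorem conj_Q_of_mem_B (D : U3Data p q F G U) {g : G} (hg : g ∈ D.B) {z : G} (hz : z ∈ D.Q) :
    g * z * g⁻¹ ∈ D.Q := by
  obtain ⟨w, hw, s, hs, rfl⟩ := (mem_B_iff D).mp hg
  obtain ⟨l, rfl⟩ := D.mem_T.mp hs
  have h1 := t_conj_mem_Q D l hz
  have e : w * D.t l * z * (w * D.t l)⁻¹ = w * (D.t l * z * (D.t l)⁻¹) * w⁻¹ := by group
  rw [e]
  exact D.Q.mul_mem (D.Q.mul_mem hw h1) (D.Q.inv_mem hw)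

theorem conj_Z_of_mem_B (D : U3Data p q F G U) {g : G} (hg : g ∈ D.B) {z : G} (hz : z ∈ D.Z) :
    g * z * g⁻¹ ∈ D.Z := by
  obtain ⟨w, hw, s, hs, rfl⟩ := (mem_B_iff D).mp hg
  obtain ⟨l, rfl⟩ := D.mem_T.mp hs
  have h1 := t_conj_mem_Z D l hz
  have e : w * D.t l * z * (w * D.t l)⁻¹ = w * (D.t l * z * (D.t l)⁻¹) * w⁻¹ := by group
  rw [e, ← Z_central D _ h1 w hw, mul_assoc, mul_inv_cancel, mul_one]
  exact h1

theorem mem_T_of_fix (D : U3Data p q F G U) {g : G} (h1 : g • D.u = D.u) (h2 : g • D.u' = D.u') :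
    g ∈ D.T := by
  obtain ⟨a, b, l, h, rfl⟩ := D.stab_u g h1
  rw [mul_smul, (D.t_fix l).2] at h2
  obtain ⟨rfl, rfl⟩ := D.x_free a b h h2
  rw [D.x_zero_zero, one_mul]
  exact D.mem_T.mpr ⟨l, rfl⟩

/-- `Zat` depends only on the point `g • u`. -/
theorem Zat_eq_of_smul_eq (D : U3Data p q F G U) {g h : G} (e : g • D.u = h • D.u) :
    D.Zat g = D.Zat h := by
  have hb : h⁻¹ * g ∈ D.B := by
    rw [D.mem_B, mul_smul, e, inv_smul_smul]
  have key : ∀ {g h : G}, h⁻¹ * g ∈ D.B → D.Zat g ≤ D.Zat h := by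
    intro g h hb z hz
    rw [D.mem_Zat] at hz ⊢
    have := conj_Z_of_mem_B D hb hz
    have e2 : h⁻¹ * g * (g⁻¹ * z * g) * (h⁻¹ * g)⁻¹ = h⁻¹ * z * h := by group
    rwa [e2] at this
  apply le_antisymm (key hb)
  apply key
  have : g⁻¹ * h = (h⁻¹ * g)⁻¹ := by group
  rw [this]
  exact D.B.inv_mem hb

/-- `Qat` depends only on the point `g • u`. -/
theorem Qat_eq_of_smul_eq (D : U3Data p q F G U) {g h : G} (e : g • D.u = h • D.u) :
    D.Qat g = D.Qat h := by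
  have hb : h⁻¹ * g ∈ D.B := by
    rw [D.mem_B, mul_smul, e, inv_smul_smul]
  have key : ∀ {g h : G}, h⁻¹ * g ∈ D.B → D.Qat g ≤ D.Qat h := by
    intro g h hb z hz
    rw [D.mem_Qat] at hz ⊢
    have := conj_Q_of_mem_B D hb hz
    have e2 : h⁻¹ * g * (g⁻¹ * z * g) * (h⁻¹ * g)⁻¹ = h⁻¹ * z * h := by group
    rwa [e2] at this
  apply le_antisymm (key hb)
  apply key
  have : g⁻¹ * h = (h⁻¹ * g)⁻¹ := by group
  rw [this]
  exact D.B.inv_mem hb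

end Cfsg.Agent.Lib.Helper65_U3A_BAS2
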