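import Mathlib
import Cfsg.Agent.Lib.Helper65_U3Defs
import Cfsg.Agent.Lib.Helper65_U3A_BAS1
import Cfsg.Agent.Lib.Helper65_U3A_BAS2

set_option autoImplicit false
set_option linter.unusedSectionVars false
set_option linter.unusedVariables false

/-! S2148 abstract half, package BAS3: `Q` is regular on `U \ {u}` (F1). -/

namespace Cfsg.Agent.Lib.Helper65_U3A_BAS3

open Cfsg.Agent.Lib.Helper65_U3Defs Cfsg.Agent.Lib.Helper65_U3A_BAS1
  Cfsg.Agent.Lib.Helper65_U3A_BAS2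

variable {p q : ℕ} {F G U : Type*} [Field F] [Group G] [MulAction G U]

theorem trans_G (D : U3Data p q F G U) : ∀ a b : U, ∃ g : G, g • a = b := by
  intro a b
  by_cases h : a = b
  · exact ⟨1, by rw [one_smul, h]⟩
  · obtain ⟨g, hg, -⟩ := D.two_trans a b b a h (Ne.symm h)
    exact ⟨g, hg⟩

theorem Q_trans (D : U3Data p q F G U) : ∀ w : U, w ≠ D.u → ∃ z ∈ D.Q, z • D.u' = w := by
  intro w hw
  obtain ⟨g, hg1, hg2⟩ := D.two_trans D.u D.u' D.u w D.huu' (Ne.symm hw)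
  obtain ⟨z, hz, s, hs, rfl⟩ := (mem_B_iff D).mp (D.mem_B.mpr hg1)
  obtain ⟨l, rfl⟩ := D.mem_T.mp hs
  refine ⟨z, hz, ?_⟩
  rw [mul_smul, (D.t_fix l).2] at hg2
  exact hg2

theorem eq_one_of_fix_u' (D : U3Data p q F G U) {z : G} (hz : z ∈ D.Q) (h : z • D.u' = D.u') :
    z = 1 := by
  obtain ⟨a, b, hr, rfl⟩ := hz
  obtain ⟨rfl, rfl⟩ := D.x_free a b hr h
  exact D.x_zero_zero

theorem Q_fix (D : U3Data p q F G U) {z : G} (hz : z ∈ D.Q) (h1 : z ≠ 1) {w : U}
    (hw : z • w = w) : w = D.u := by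
  by_contra hne
  obtain ⟨z', hz', rfl⟩ := Q_trans D w hne
  apply h1
  have h2 : (z'⁻¹ * z * z') • D.u' = D.u' := by
    rw [mul_smul, mul_smul, hw, inv_smul_smul]
  have h3 := eq_one_of_fix_u' D (D.Q.mul_mem (D.Q.mul_mem (D.Q.inv_mem hz') hz) hz') h2
  have : z = z' * (z'⁻¹ * z * z') * z'⁻¹ := by group
  rw [this, h3, mul_one, mul_inv_cancel]

theorem card_Q (D : U3Data p q F G U) : Nat.card ↥D.Q = q ^ 3 := by
  have := D.finiteU
  have hne : ∀ z : ↥D.Q, (z : G) • D.u' ≠ D.u := by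
    intro z h
    have h1 : (z : G) • D.u = D.u := D.mem_B.mp (D.Q_le_B z.2)
    have : (z : G) • D.u' = (z : G) • D.u := by rw [h, h1]
    exact D.huu' (MulAction.injective (z : G) this).symm
  let f : ↥D.Q → {w : U // w ≠ D.u} := fun z => ⟨(z : G) • D.u', hne z⟩
  have hbij : Function.Bijective f := by
    constructor
    · intro z z' hzz'
      have h1 : (z : G) • D.u' = (z' : G) • D.u' := congrArg Subtype.val hzz'
      have h2 : ((z' : G)⁻¹ * (z : G)) • D.u' = D.u' := by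
        rw [mul_smul, h1, inv_smul_smul]
      have h3 := eq_one_of_fix_u' D (D.Q.mul_mem (D.Q.inv_mem z'.2) z.2) h2
      apply Subtype.ext
      exact (inv_mul_eq_one.mp h3).symm
    · rintro ⟨w, hw⟩
      obtain ⟨z, hz, hzw⟩ := Q_trans D w hw
      exact ⟨⟨z, hz⟩, Subtype.ext hzw⟩
  rw [Nat.card_eq_of_bijective f hbij]
  have h1 : Nat.card {w : U // w ≠ D.u} = Nat.card U - 1 := by
    have := Fintype.ofFinite U
    classical
    rw [Nat.card_eq_fintype_card, Nat.card_eq_fintype_card, Fintype.card_subtype_compl,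
      Fintype.card_subtype_eq]
  rw [h1, D.cardU, Nat.add_sub_cancel]

end Cfsg.Agent.Lib.Helper65_U3A_BAS3
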