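import Mathlib
import Cfsg.Agent.Lib.Helper65_U3Defs
import Cfsg.Agent.Lib.Helper65_U3A_BAS1
import Cfsg.Agent.Lib.Helper65_U3A_BAS2
import Cfsg.Agent.Lib.Helper65_U3A_BAS3
import Cfsg.Agent.Lib.Helper58_U3A_FLDA

set_option autoImplicit false
set_option linter.unusedSectionVars false
set_option linter.unusedVariables false

/-!
# U3A package BAS4 (helper65's S2148 abstract-half market; formalizer helper27)

`card_Z`, `card_T`, `card_T1`, `isCyclic_T`, `card_B`, `card_G` for `U3Data`, statements verbatim from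
`pending/helper65/S2148_abstract.lean.txt`.  Uses FLD-A (helper58), BAS1-3 (helper65).
-/

open Cfsg.Agent.Lib.Helper65_U3Defs

namespace Cfsg.Agent.Lib.Helper27_U3A_BAS4

variable {p q : ℕ} {F G U : Type*} [Field F] [Group G] [MulAction G U]
variable (D : U3Data p q F G U)

include D

theorem fact_p : Fact p.Prime := ⟨D.hp⟩

theorem card_Z : Nat.card ↥D.Z = q := by
  have := D.finiteF
  have := fact_p D
  have := D.charF
  refine Eq.trans ?_ (Cfsg.Agent.Lib.Helper58_U3A_FLDA.card_trace_zero D.hk D.hq D.cardF).1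
  symm
  refine Nat.card_congr (Equiv.ofBijective
    (fun b : {b : F // b + b ^ q = 0} => (⟨D.x 0 b.1, D.mem_Z.mpr ⟨b.1, b.2, rfl⟩⟩ : D.Z)) ⟨?_, ?_⟩)
  · rintro ⟨b, hb⟩ ⟨b', hb'⟩ h
    have h' : D.x 0 b = D.x 0 b' := congrArg Subtype.val h
    have := Cfsg.Agent.Lib.Helper65_U3A_BAS1.x_inj D ((D.rel_zero_iff b).mpr hb) ((D.rel_zero_iff b').mpr hb') h'
    exact Subtype.ext this.2
  · rintro ⟨z, hz⟩
    obtain ⟨b, hb, rfl⟩ := D.mem_Z.mp hz
    exact ⟨⟨b, hb⟩, rfl⟩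

theorem card_units : Nat.card Fˣ = q ^ 2 - 1 := by
  have := D.finiteF
  rw [Nat.card_units, D.cardF]

theorem ker_t_eq : ∀ l : Fˣ, l ∈ D.t.ker ↔ l ^ (q + 1) = 1 ∧ l ^ 3 = 1 := by
  intro l
  rw [MonoidHom.mem_ker]
  exact D.t_ker l

theorem card_ker_t : Nat.card ↥D.t.ker = Nat.gcd 3 (q + 1) := by
  have := D.finiteF
  have := fact_p D
  have := D.charF
  refine Eq.trans ?_ (Cfsg.Agent.Lib.Helper58_U3A_FLDA.card_norm_one D.hk D.hq D.cardF).2
  refine Nat.card_congr (Equiv.subtypeEquivRight ?_)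
  intro l
  exact ker_t_eq D l

theorem card_T : Nat.card ↥D.T * Nat.gcd 3 (q + 1) = q ^ 2 - 1 := by
  have h1 : Nat.card ↥D.T = D.t.ker.index := (Subgroup.index_ker D.t).symm
  rw [h1, ← card_ker_t D, ← card_units D, mul_comm]
  exact Subgroup.card_mul_index _

theorem ker_t_le : D.t.ker ≤ (powMonoidHom (q + 1) : Fˣ →* Fˣ).ker := by
  intro l hl
  rw [MonoidHom.mem_ker, powMonoidHom_apply]
  exact ((ker_t_eq D l).mp hl).1

theorem card_N1 : Nat.card ↥(powMonoidHom (q + 1) : Fˣ →* Fˣ).ker = q + 1 := by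
  have := D.finiteF
  have := fact_p D
  have := D.charF
  refine Eq.trans ?_ (Cfsg.Agent.Lib.Helper58_U3A_FLDA.card_norm_one D.hk D.hq D.cardF).1
  refine Nat.card_congr (Equiv.subtypeEquivRight ?_)
  intro l
  rw [MonoidHom.mem_ker, powMonoidHom_apply]

theorem card_T1 : Nat.card ↥D.T1 * Nat.gcd 3 (q + 1) = q + 1 := by
  set N1 : Subgroup Fˣ := (powMonoidHom (q + 1) : Fˣ →* Fˣ).ker with hN1
  have hT1 : D.T1 = (D.t.domRestrict N1).range := by
    rw [MonoidHom.domRestrict_range]; rfl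
  have h1 : Nat.card ↥D.T1 = (D.t.domRestrict N1).ker.index := by
    rw [hT1]; exact (Subgroup.index_ker _).symm
  have h2 : (D.t.domRestrict N1).ker = D.t.ker.subgroupOf N1 := MonoidHom.ker_domRestrict _ _
  have h3 : Nat.card ↥(D.t.ker.subgroupOf N1) = Nat.card ↥D.t.ker :=
    Nat.card_congr (Subgroup.subgroupOfEquivOfLe (ker_t_le D)).toEquiv
  rw [h1, ← card_ker_t D, ← card_N1 D, ← h3, ← h2, mul_comm]
  exact Subgroup.card_mul_index _

theorem isCyclic_T : IsCyclic ↥D.T := by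
  have := D.finiteF
  exact isCyclic_of_surjective D.t.rangeRestrict D.t.rangeRestrict_surjective

theorem card_B : Nat.card ↥D.B = q ^ 3 * Nat.card ↥D.T := by
  rw [← Cfsg.Agent.Lib.Helper65_U3A_BAS3.card_Q D, ← Nat.card_prod]
  symm
  refine Nat.card_congr (Equiv.ofBijective
    (fun zs : D.Q × D.T => (⟨zs.1.1 * zs.2.1,
      (Cfsg.Agent.Lib.Helper65_U3A_BAS2.mem_B_iff D).mpr ⟨zs.1.1, zs.1.2, zs.2.1, zs.2.2, rfl⟩⟩ : D.B)) ⟨?_, ?_⟩)
  · rintro ⟨⟨z, hz⟩, ⟨s, hs⟩⟩ ⟨⟨z', hz'⟩, ⟨s', hs'⟩⟩ h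
    have h' : z * s = z' * s' := congrArg Subtype.val h
    have h1 : z'⁻¹ * z = s' * s⁻¹ := by
      calc z'⁻¹ * z = z'⁻¹ * (z * s) * s⁻¹ := by group
        _ = s' * s⁻¹ := by rw [h']; group
    have h2 : z'⁻¹ * z ∈ D.Q ⊓ D.T := by
      refine ⟨D.Q.mul_mem (D.Q.inv_mem hz') hz, ?_⟩
      rw [h1]
      exact D.T.mul_mem hs' (D.T.inv_mem hs)
    rw [Cfsg.Agent.Lib.Helper65_U3A_BAS1.Q_inf_T D, Subgroup.mem_bot] at h2
    have hz_eq : z = z' := by
      have := inv_mul_eq_one.mp h2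
      exact this.symm
    subst hz_eq
    have hs_eq : s = s' := mul_left_cancel h'
    subst hs_eq
    rfl
  · rintro ⟨g, hg⟩
    obtain ⟨z, hz, s, hs, rfl⟩ := (Cfsg.Agent.Lib.Helper65_U3A_BAS2.mem_B_iff D).mp hg
    exact ⟨⟨⟨z, hz⟩, ⟨s, hs⟩⟩, rfl⟩

theorem card_G : Nat.card G = (q ^ 3 + 1) * (q ^ 3 * Nat.card ↥D.T) := by
  have htr : MulAction.IsPretransitive G U := ⟨Cfsg.Agent.Lib.Helper65_U3A_BAS3.trans_G D⟩
  have h1 : D.B.index = Nat.card U := MulAction.index_stabilizer_of_transitive G D.u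
  rw [← card_B D, ← D.cardU, ← h1, mul_comm]
  exact (Subgroup.card_mul_index _).symm

end Cfsg.Agent.Lib.Helper27_U3A_BAS4
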