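import Mathlib

set_option autoImplicit false
set_option linter.unusedVariables false
set_option linter.unusedSimpArgs false
set_option linter.unusedSectionVars false

/-!
# S2148 (min index of PSU_3(q)), abstract half, package FLD-B (architect helper65):
pure finite-field lemmas: `nu_eq_one`, `comm_zero_iff`, `homology_pow_six`.
-/

namespace Cfsg.Agent.Lib.Helper58_U3A_FLDB

section

variable {F : Type*} [Field F] [Finite F] {p q k : ℕ} [Fact p.Prime] [CharP F p]

theorem one_lt_q (hk : 0 < k) (hq : q = p ^ k) : 1 < q := by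
  rw [hq]
  exact Nat.one_lt_pow hk.ne' (Fact.out : p.Prime).one_lt

/-- every unit has `l^(q^2-1) = 1` -/
theorem units_pow_card (hF : Nat.card F = q ^ 2) (l : Fˣ) : l ^ (q ^ 2 - 1) = 1 := by
  have h : Nat.card Fˣ = q ^ 2 - 1 := by rw [Nat.card_units, hF]
  rw [← h]
  exact pow_card_eq_one'

theorem nu_eq_one (hk : 0 < k) (hq : q = p ^ k) (hF : Nat.card F = q ^ 2) (l : Fˣ)
    (h : l ^ (2 * q - 1) = 1) : l ^ (q + 1) = 1 ∧ l ^ 3 = 1 := by
  have hq1 : 1 < q := one_lt_q hk hq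
  have hc := units_pow_card hF l
  have h3 : l ^ 3 = 1 := by
    have e : (2 * q - 1) * (2 * q + 1) = (q ^ 2 - 1) * 4 + 3 := by
      obtain ⟨r, rfl⟩ : ∃ r, q = r + 1 := ⟨q - 1, by omega⟩
      have e1 : 2 * (r + 1) - 1 = 2 * r + 1 := by omega
      have e2 : (r + 1) ^ 2 - 1 = r ^ 2 + 2 * r := by
        have : (r + 1) ^ 2 = r ^ 2 + 2 * r + 1 := by ring
        omega
      rw [e1, e2]
      ring
    have h1 : l ^ ((2 * q - 1) * (2 * q + 1)) = 1 := by rw [pow_mul, h, one_pow]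
    rw [e, pow_add, pow_mul, hc, one_pow, one_mul] at h1
    exact h1
  refine ⟨?_, h3⟩
  have h2 : l ^ (2 * (q + 1)) = 1 := by
    have e : 2 * (q + 1) = (2 * q - 1) + 3 := by omega
    rw [e, pow_add, h, h3, one_mul]
  have h4 : l ^ (3 * (q + 1)) = 1 := by rw [pow_mul, h3, one_pow]
  have e : 3 * (q + 1) = 2 * (q + 1) + (q + 1) := by ring
  rw [e, pow_add, h2, one_mul] at h4
  exact h4

theorem comm_zero_iff (hk : 0 < k) (hq : q = p ^ k) (hF : Nat.card F = q ^ 2) {a a' : F}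
    (ha : a ≠ 0) : a * a' ^ q - a ^ q * a' = 0 ↔ ∃ c : F, c ^ q = c ∧ a' = c * a := by
  have haq : a ^ q ≠ 0 := pow_ne_zero _ ha
  constructor
  · intro h
    refine ⟨a' / a, ?_, ?_⟩
    · rw [div_pow, div_eq_div_iff haq ha]
      rw [sub_eq_zero] at h
      rw [mul_comm, h, mul_comm]
    · field_simp
  · rintro ⟨c, hc, rfl⟩
    rw [mul_pow, hc]
    ring

theorem homology_pow_six (hk : 0 < k) (hq : q = p ^ k) (hF : Nat.card F = q ^ 2) (hp2 : p ≠ 2)
    (l : Fˣ) (h1 : l ^ (q + 1) = 1) (h2 : ((l : F) ^ (2 * q - 1)) ^ q = (l : F) ^ (2 * q - 1)) :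
    l ^ 6 = 1 := by
  have hq1 : 1 < q := one_lt_q hk hq
  -- `nu := l^(2q-1)` as a unit
  set nu : Fˣ := l ^ (2 * q - 1) with hnu
  have hnuq : nu ^ q = nu := by
    apply Units.ext
    rw [Units.val_pow_eq_pow_val, hnu, Units.val_pow_eq_pow_val]
    exact h2
  have hnu1 : nu ^ (q - 1) = 1 := by
    have e : q = (q - 1) + 1 := by omega
    rw [e, pow_succ] at hnuq
    simpa using hnuq
  have hnu2 : nu ^ (q + 1) = 1 := by
    rw [hnu, ← pow_mul, mul_comm, pow_mul, h1, one_pow]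
  have hnu3 : nu ^ 2 = 1 := by
    have e : q + 1 = (q - 1) + 2 := by omega
    rw [e, pow_add, hnu1, one_mul] at hnu2
    exact hnu2
  -- `nu * l^3 = 1`
  have h3 : nu * l ^ 3 = 1 := by
    have e : (2 * q - 1) + 3 = (q + 1) * 2 := by omega
    rw [hnu, ← pow_add, e, pow_mul, h1, one_pow]
  have h4 : (nu * l ^ 3) ^ 2 = 1 := by rw [h3, one_pow]
  rw [mul_pow, hnu3, one_mul, ← pow_mul] at h4
  exact h4

end

end Cfsg.Agent.Lib.Helper58_U3A_FLDB
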