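import Mathlib
import Cfsg.Agent.Lib.Helper65_U3Defs
import Cfsg.Agent.Lib.Helper65_U3A_BAS1
import Cfsg.Agent.Lib.Helper58_U3A_FLDB

set_option autoImplicit false
set_option linter.unusedSectionVars false
set_option linter.unusedVariables false

/-!
# U3A package BAS5 (helper65's S2148 abstract-half market; formalizer helper27)

`T_semireg`, `T_stab_Z`, `T1_centralizes_Z` for `U3Data`, statements verbatim from
`pending/helper65/S2148_abstract.lean.txt`.  Uses BAS1 `x_inj` (helper65) and FLD-B `nu_eq_one` (helper58).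
-/

open Cfsg.Agent.Lib.Helper65_U3Defs

namespace Cfsg.Agent.Lib.Helper27_U3A_BAS5

variable {p q : ℕ} {F G U : Type*} [Field F] [Group G] [MulAction G U]
variable (D : U3Data p q F G U)

include D

/-- `N(l)^q = N(l)` where `N(l) = l^(q+1)`. -/
theorem norm_pow_q (l : F) : (l ^ (q + 1)) ^ q = l ^ (q + 1) := by
  have h := D.frob_sq l
  calc (l ^ (q + 1)) ^ q = (l ^ q) ^ q * l ^ q := by
        rw [← pow_mul, ← pow_mul, ← pow_add]; congr 1; ring
    _ = l * l ^ q := by rw [h]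
    _ = l ^ (q + 1) := by rw [pow_succ, mul_comm]

/-- `nu(l) nu(l)^q = N(l)` where `nu(l) = l^(2q-1)`. -/
theorem nu_mul_nu_pow (l : F) : l ^ (2 * q - 1) * (l ^ (2 * q - 1)) ^ q = l ^ (q + 1) := by
  have h := D.frob_sq l
  have hq := D.q_pos
  have h2 : (l ^ (2 * q - 1)) ^ q * l ^ q = l ^ 2 := by
    calc (l ^ (2 * q - 1)) ^ q * l ^ q = ((l ^ q) ^ q) ^ 2 := by
          rw [← pow_mul, ← pow_mul, ← pow_mul, ← pow_add]; congr 1
          obtain ⟨m, rfl⟩ : ∃ m, q = m + 1 := ⟨q - 1, by omega⟩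
          have : 2 * (m + 1) - 1 = 2 * m + 1 := by omega
          rw [this]; ring
      _ = l ^ 2 := by rw [h]
  have h3 : l ^ (2 * q - 1) * l = l ^ q * l ^ q := by
    rw [← pow_succ, ← pow_add]; congr 1; omega
  by_cases hl : l = 0
  · subst hl
    rw [zero_pow (by omega : 2 * q - 1 ≠ 0), zero_mul, zero_pow (by omega)]
  · have hlq : l ^ q ≠ 0 := pow_ne_zero _ hl
    apply mul_right_cancel₀ hlq
    apply mul_right_cancel₀ hl
    calc l ^ (2 * q - 1) * (l ^ (2 * q - 1)) ^ q * l ^ q * l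
        = ((l ^ (2 * q - 1)) ^ q * l ^ q) * (l ^ (2 * q - 1) * l) := by ring
      _ = l ^ 2 * (l ^ q * l ^ q) := by rw [h2, h3]
      _ = l ^ (q + 1) * l ^ q * l := by rw [pow_succ]; ring

/-- The pair `(nu a, N b)` satisfies `Rel`. -/
theorem rel_conj (l : F) {a b : F} (h : Helper65_U3Defs.Rel q a b) :
    Helper65_U3Defs.Rel q (l ^ (2 * q - 1) * a) (l ^ (q + 1) * b) := by
  unfold Helper65_U3Defs.Rel at *
  rw [mul_pow, mul_pow, norm_pow_q D l]
  have h1 := nu_mul_nu_pow D l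
  calc l ^ (q + 1) * b + l ^ (q + 1) * b ^ q + l ^ (2 * q - 1) * a * ((l ^ (2 * q - 1)) ^ q * a ^ q)
      = l ^ (q + 1) * (b + b ^ q) + (l ^ (2 * q - 1) * (l ^ (2 * q - 1)) ^ q) * (a * a ^ q) := by ring
    _ = l ^ (q + 1) * (b + b ^ q + a * a ^ q) := by rw [h1]; ring
    _ = 0 := by rw [h, mul_zero]

theorem fact_p : Fact p.Prime := ⟨D.hp⟩

theorem T_semireg {s : G} (hs : s ∈ D.T) (h1 : s ≠ 1) {z : G} (hz : z ∈ D.Q)
    (hc : s * z * s⁻¹ * z⁻¹ ∈ D.Z) : z ∈ D.Z := by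
  obtain ⟨l, rfl⟩ := D.mem_T.mp hs
  obtain ⟨a, b, hab, rfl⟩ := D.mem_Q.mp hz
  have hconj := D.t_conj l a b hab
  have hrel' := rel_conj D (l : F) hab
  have hinv := D.x_inv hab
  have hrelinv := D.rel_inv hab
  rw [hconj, hinv, D.x_mul _ _ _ _ hrel' hrelinv] at hc
  obtain ⟨c, hc0, hc1⟩ := D.mem_Z.mp hc
  have hrelprod := D.rel_mul hrel' hrelinv
  have hinj := Cfsg.Agent.Lib.Helper65_U3A_BAS1.x_inj D hrelprod ((D.rel_zero_iff c).mpr hc0) hc1
  have ha : ((l : F) ^ (2 * q - 1) - 1) * a = 0 := by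
    have := hinj.1
    linear_combination this
  rcases mul_eq_zero.mp ha with hnu | ha0
  · exfalso
    apply h1
    have hnu1 : l ^ (2 * q - 1) = 1 := by
      apply Units.ext
      rw [Units.val_pow_eq_pow_val, Units.val_one]
      exact sub_eq_zero.mp hnu
    have := D.finiteF
    have := fact_p D
    have := D.charF
    have hz := Cfsg.Agent.Lib.Helper58_U3A_FLDB.nu_eq_one D.hk D.hq D.cardF l hnu1
    exact (D.t_ker l).mpr hz
  · subst ha0
    exact D.mem_Z.mpr ⟨b, (D.rel_zero_iff b).mp hab, rfl⟩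

theorem T_stab_Z {s : G} (hs : s ∈ D.T) {z : G} (hz : z ∈ D.Z) (h1 : z ≠ 1)
    (hc : s * z * s⁻¹ = z) : s ∈ D.T1 := by
  obtain ⟨l, rfl⟩ := D.mem_T.mp hs
  obtain ⟨b, hb, rfl⟩ := D.mem_Z.mp hz
  have hab : Rel q (0 : F) b := (D.rel_zero_iff b).mpr hb
  have hconj := D.t_conj l 0 b hab
  have hrel' := rel_conj D (l : F) hab
  rw [hconj] at hc
  have hinj := Cfsg.Agent.Lib.Helper65_U3A_BAS1.x_inj D hrel' hab hc
  have hb0 : b ≠ 0 := by
    rintro rfl
    exact h1 D.x_zero_zero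
  have hN : (l : F) ^ (q + 1) = 1 := by
    have := hinj.2
    have h2 : ((l : F) ^ (q + 1) - 1) * b = 0 := by linear_combination this
    rcases mul_eq_zero.mp h2 with h | h
    · exact sub_eq_zero.mp h
    · exact absurd h hb0
  refine D.mem_T1.mpr ⟨l, ?_, rfl⟩
  apply Units.ext
  rw [Units.val_pow_eq_pow_val, Units.val_one]
  exact hN

theorem T1_centralizes_Z : ∀ s ∈ D.T1, ∀ z ∈ D.Z, s * z = z * s := by
  intro s hs z hz
  obtain ⟨l, hl, rfl⟩ := D.mem_T1.mp hs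
  obtain ⟨b, hb, rfl⟩ := D.mem_Z.mp hz
  have hab : Rel q (0 : F) b := (D.rel_zero_iff b).mpr hb
  have hconj := D.t_conj l 0 b hab
  have hN : (l : F) ^ (q + 1) = 1 := by
    rw [← Units.val_pow_eq_pow_val, hl, Units.val_one]
  rw [hN, mul_zero, one_mul] at hconj
  calc D.t l * D.x 0 b = D.t l * D.x 0 b * (D.t l)⁻¹ * D.t l := by group
    _ = D.x 0 b * D.t l := by rw [hconj]

end Cfsg.Agent.Lib.Helper27_U3A_BAS5
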