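import Mathlib
import Cfsg.Agent.Lib.Helper94_UQInst
import Cfsg.Agent.Lib.Helper11_UQ_TOR2EVEN

set_option autoImplicit false
set_option linter.unusedSectionVars false
set_option linter.unusedVariables false

/-!
# U4-ICOORD (S2150 local side, helper27): coordinates of an all-isotropic non-collinear additive subgroup of the
hermitian plane `W`.
-/

open Module Cfsg.Agent.Lib.Helper94_Symp Cfsg.Agent.Lib.Helper94_Herm
  Cfsg.Agent.Lib.Helper94_HermEich Cfsg.Agent.Lib.Helper94_HermPara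
  Cfsg.Agent.Lib.Helper94_HermTrans
  Cfsg.Agent.Lib.Helper13_SUGen Cfsg.Agent.Lib.Helper13_PSUSimple
  Cfsg.Agent.Lib.Helper46_U3TI Cfsg.Agent.Lib.Helper14_PSULocal1
  Cfsg.Agent.Lib.Helper27_UQDefs Cfsg.Agent.Lib.Helper50_UQAbsDefs
  Cfsg.Agent.Lib.Helper94_UQInst

namespace Cfsg.Agent.Lib.Helper27_U4_ICOORD

variable {F V : Type*} [Field F] [AddCommGroup V] [Module F V] {σ : F →+* F}
variable {B : V →ₗ[F] V →ₛₗ[σ] F}

/-- polarisation: in an all-isotropic additive subgroup, `B w w'` is skew -/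
theorem polar (hB : IsHerm B) {v v' : V} (I : AddSubgroup ↥(Wsub B v v'))
    (hIiso : ∀ w ∈ I, B (w : V) (w : V) = 0) {w w' : ↥(Wsub B v v')} (hw : w ∈ I) (hw' : w' ∈ I) :
    σ (B (w : V) (w' : V)) = -(B (w : V) (w' : V)) := by
  have h1 := hIiso (w + w') (I.add_mem hw hw')
  rw [Submodule.coe_add, self_add hB, hIiso w hw, hIiso w' hw', zero_add, zero_add] at h1
  linear_combination h1

/-- **U4-ICOORD.** -/
theorem ICOORD [FiniteDimensional F V] (hσ : Invol σ) (hB : IsHerm B) (hN : NondegOn B ⊤)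
    {v v' : V} (h : HypPair B v v') (h4 : finrank F V = 4)
    (I : AddSubgroup ↥(Wsub B v v')) (hIiso : ∀ w ∈ I, B (w : V) (w : V) = 0)
    (u b : ↥(Wsub B v v')) (hu : u ∈ I) (hb : b ∈ I) (hu0 : u ≠ 0)
    (hnc : ¬ ∃ c : F, (b : V) = c • (u : V)) :
    B (u : V) (b : V) ≠ 0 ∧ σ (B (u : V) (b : V)) = -(B (u : V) (b : V)) ∧
      ∀ w ∈ I, ∃ x y : F, σ x = x ∧ σ y = y ∧ w = x • u + y • b := by
  have huu := hIiso u hu
  have hbb := hIiso b hb
  set η := B (u : V) (b : V) with hη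
  have hηs : σ η = -η := polar hB I hIiso hu hb
  have hbu : B (b : V) (u : V) = -η := by rw [hB (u : V) (b : V), ← hη, hηs]
  have hη0 : η ≠ 0 := by
    intro h0
    have hWN : NondegOn B (Wsub B v v') := by
      rw [Wsub_eq_Wp]; exact nondegOn_Wp hB hN h
    obtain ⟨y, hy, hy0⟩ := hWN (u : V) u.2 (fun h0 => hu0 (Subtype.ext h0))
    obtain ⟨x1, y1, hxy⟩ :=
      Cfsg.Agent.Lib.Helper11_UQ_TOR2EVEN.exists_coord h h4 u b hu0 hnc ⟨y, hy⟩
    apply hy0
    have h5 : y = x1 • (u : V) + y1 • (b : V) := congrArg Subtype.val hxy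
    rw [h5, map_add, map_smulₛₗ, map_smulₛₗ, huu, ← hη, h0, smul_zero, smul_zero, add_zero]
  refine ⟨hη0, hηs, ?_⟩
  intro w hw
  obtain ⟨x, y, hxy⟩ := Cfsg.Agent.Lib.Helper11_UQ_TOR2EVEN.exists_coord h h4 u b hu0 hnc w
  have hwV : (w : V) = x • (u : V) + y • (b : V) := congrArg Subtype.val hxy
  refine ⟨x, y, ?_, ?_, hxy⟩
  · -- `B w b = x η` is skew
    have h1 := polar hB I hIiso hw hb
    have h3 : B (w : V) (b : V) = x * η := by
      rw [hwV, map_add, LinearMap.add_apply, map_smul, map_smul, LinearMap.smul_apply,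
        LinearMap.smul_apply, hbb, ← hη, smul_eq_mul, smul_eq_mul, mul_zero, add_zero]
    rw [h3, map_mul, hηs] at h1
    have h5 : (σ x - x) * η = 0 := by linear_combination -h1
    rcases mul_eq_zero.mp h5 with h6 | h6
    · exact sub_eq_zero.mp h6
    · exact absurd h6 hη0
  · -- `B w u = -y η` is skew
    have h1 := polar hB I hIiso hw hu
    have h3 : B (w : V) (u : V) = -(y * η) := by
      rw [hwV, map_add, LinearMap.add_apply, map_smul, map_smul, LinearMap.smul_apply,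
        LinearMap.smul_apply, huu, hbu, smul_eq_mul, smul_eq_mul, mul_zero, zero_add]
      ring
    rw [h3, map_neg, map_mul, hηs] at h1
    have h5 : (σ y - y) * η = 0 := by linear_combination h1
    rcases mul_eq_zero.mp h5 with h6 | h6
    · exact sub_eq_zero.mp h6
    · exact absurd h6 hη0

end Cfsg.Agent.Lib.Helper27_U4_ICOORD
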