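import Mathlib
import Cfsg.Agent.Lib.Helper50_UQAbsDefs

/-!
# S2152 package UQ-CARDQ (helper61, for architect helper50): `|Q| = |W| |A|`.
-/

set_option autoImplicit false

namespace Cfsg.Agent.Lib.Helper61_UQ_CARDQ

open Cfsg.Agent.Lib.Helper50_UQAbsDefs

theorem x_zero {G : Type*} [Group G] {W : Type*} [AddCommGroup W]
    {A : Type*} [AddCommGroup A] (D : UDat G W A) (hD : D.Ok) : D.x 0 = 1 := by
  have h := hD.x_add 0 0
  rw [add_zero] at h
  exact (mul_eq_left.mp h.symm)

theorem x_injective {G : Type*} [Group G] {W : Type*} [AddCommGroup W]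
    {A : Type*} [AddCommGroup A] (D : UDat G W A) (hD : D.Ok) : Function.Injective D.x := by
  intro a b hab
  have h1 : D.x (a - b) * D.x b = D.x a := by rw [← hD.x_add, sub_add_cancel]
  rw [hab] at h1
  have h2 : D.x (a - b) = 1 := mul_eq_right.mp h1
  exact sub_eq_zero.mp (hD.x_inj _ h2)

/-- the quotient map `Q → W` as a homomorphism -/
def piHom {G : Type*} [Group G] {W : Type*} [AddCommGroup W]
    {A : Type*} [AddCommGroup A] (D : UDat G W A) (hD : D.Ok) : ↥D.Q →* Multiplicative W where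
  toFun g := Multiplicative.ofAdd (D.π g.1)
  map_one' := by
    have h := hD.π_mul 1 D.Q.one_mem 1 D.Q.one_mem
    rw [mul_one] at h
    have h0 : D.π (1 : G) = 0 := by
      have : D.π (1 : G) + D.π (1 : G) = D.π (1 : G) + 0 := by rw [add_zero]; exact h.symm
      exact add_left_cancel this
    show Multiplicative.ofAdd (D.π (1 : G)) = 1
    rw [h0]
    rfl
  map_mul' g g' := by
    show Multiplicative.ofAdd (D.π (g.1 * g'.1)) = _
    rw [hD.π_mul g.1 g.2 g'.1 g'.2]
    rfl

/-- UQ-CARDQ (S). -/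
theorem cardQ {G : Type*} [Group G] {W : Type*} [AddCommGroup W] [Finite W]
    {A : Type*} [AddCommGroup A] [Finite A] (D : UDat G W A) (hD : D.Ok) :
    Nat.card D.Q = Nat.card W * Nat.card A := by
  have hsurj : Function.Surjective (piHom D hD) := by
    intro w
    obtain ⟨g, hg, hgw⟩ := hD.π_surj (Multiplicative.toAdd w)
    refine ⟨⟨g, hg⟩, ?_⟩
    show Multiplicative.ofAdd (D.π g) = w
    rw [hgw]
    rfl
  have h1 := Subgroup.card_mul_index (piHom D hD).ker
  rw [Subgroup.index_ker, MonoidHom.range_eq_top.mpr hsurj, Subgroup.card_top] at h1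
  have hW : Nat.card (Multiplicative W) = Nat.card W := rfl
  rw [hW] at h1
  have hker : Nat.card ↥(piHom D hD).ker = Nat.card A := by
    symm
    refine Nat.card_congr (Equiv.ofBijective
      (fun a : A => (⟨⟨D.x a, hD.x_mem a⟩, ?_⟩ : ↥(piHom D hD).ker)) ⟨?_, ?_⟩)
    · rw [MonoidHom.mem_ker]
      show Multiplicative.ofAdd (D.π (D.x a)) = 1
      rw [hD.π_x]
      rfl
    · intro a b hab
      have : D.x a = D.x b := congrArg (fun z : ↥(piHom D hD).ker => (z.1.1 : G)) hab
      exact x_injective D hD this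
    · rintro ⟨⟨g, hg⟩, hk⟩
      rw [MonoidHom.mem_ker] at hk
      have h0 : D.π g = 0 := by
        have : Multiplicative.ofAdd (D.π g) = Multiplicative.ofAdd (0 : W) := hk
        exact Multiplicative.ofAdd.injective this
      obtain ⟨a, rfl⟩ := hD.π_ker g hg h0
      exact ⟨a, rfl⟩
  rw [← h1, hker, mul_comm]

end Cfsg.Agent.Lib.Helper61_UQ_CARDQ
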