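import Mathlib
import Cfsg.Agent.Lib.Helper50_UQAbsDefs

set_option autoImplicit false

open Cfsg.Agent.Lib.Helper50_UQAbsDefs

/-!
UQ-BINJ (architect helper50, S2152 abstract core): covering count on `Fix(X)`.
-/

namespace Cfsg.Agent.Lib.Helper79_UQ_BINJ

section basic

variable {G : Type*} [Group G] {W : Type*} [AddCommGroup W] {A : Type*} [AddCommGroup A]
  {D : UDat G W A}

theorem x_zero (hD : D.Ok) : D.x 0 = 1 := by
  have h := hD.x_add 0 0
  rw [add_zero] at h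
  exact (mul_eq_left (a := D.x 0)).mp h.symm

theorem β_zero_right (hD : D.Ok) (w : W) : D.β w 0 = 0 := by
  have h := hD.β_add_right w 0 0
  rw [add_zero] at h
  exact add_eq_left.mp h.symm

theorem x_comm (hD : D.Ok) (g : G) (hg : g ∈ D.Q) (a : A) : g * D.x a = D.x a * g := by
  have h := hD.comm g hg (D.x a) (hD.x_mem a)
  rw [hD.π_x, β_zero_right hD, x_zero hD, one_mul] at h
  exact h

theorem π_one (hD : D.Ok) : D.π 1 = 0 := by
  have h := hD.π_mul 1 (one_mem _) 1 (one_mem _)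
  rw [one_mul] at h
  exact add_eq_left.mp h.symm

theorem π_inv (hD : D.Ok) (g : G) (hg : g ∈ D.Q) : D.π g⁻¹ = -D.π g := by
  have h := hD.π_mul g hg g⁻¹ (inv_mem hg)
  rw [mul_inv_cancel, π_one hD] at h
  exact (neg_eq_of_add_eq_zero_right h.symm).symm

theorem ρ_mul (hD : D.Ok) (k k' : G) (hk : k ∈ D.L) (hk' : k' ∈ D.L) (w : W) :
    D.ρ (k * k') w = D.ρ k (D.ρ k' w) := by
  obtain ⟨g, hg, rfl⟩ := hD.π_surj w
  rw [← hD.L_conj_π (k * k') (mul_mem hk hk') g hg, ← hD.L_conj_π k' hk' g hg,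
    ← hD.L_conj_π k hk _ (hD.L_conj_mem k' hk' g hg)]
  congr 1; group

theorem ρ_one (hD : D.Ok) (w : W) : D.ρ 1 w = w := by
  obtain ⟨g, hg, rfl⟩ := hD.π_surj w
  rw [← hD.L_conj_π 1 (one_mem _) g hg]; simp

theorem ρ_inv_ρ (hD : D.Ok) (k : G) (hk : k ∈ D.L) (w : W) : D.ρ k⁻¹ (D.ρ k w) = w := by
  rw [← ρ_mul hD _ _ (inv_mem hk) hk, inv_mul_cancel, ρ_one hD]

theorem ρ_inj (hD : D.Ok) (k : G) (hk : k ∈ D.L) : Function.Injective (D.ρ k) :=
  Function.LeftInverse.injective (ρ_inv_ρ hD k hk)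

end basic

section stab

variable {G : Type*} [Group G] {W : Type*} [AddCommGroup W] {A : Type*} [AddCommGroup A]
  {D : UDat G W A} {Ω : Type*} [MulAction G Ω]

/-- Image in `W` of the stabiliser of `ω` in `Q`. -/
def Jsub (hD : D.Ok) (ω : Ω) : AddSubgroup W where
  carrier := {w | ∃ g ∈ D.Q, g • ω = ω ∧ D.π g = w}
  zero_mem' := ⟨1, one_mem _, one_smul _ _, π_one hD⟩
  add_mem' := by
    rintro _ _ ⟨g, hg, hgω, rfl⟩ ⟨g', hg', hg'ω, rfl⟩
    exact ⟨g * g', mul_mem hg hg', by rw [mul_smul, hg'ω, hgω], hD.π_mul g hg g' hg'⟩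
  neg_mem' := by
    rintro _ ⟨g, hg, hgω, rfl⟩
    refine ⟨g⁻¹, inv_mem hg, ?_, π_inv hD g hg⟩
    rw [inv_smul_eq_iff, hgω]

theorem mem_Jsub (hD : D.Ok) (ω : Ω) (w : W) :
    w ∈ Jsub hD ω ↔ ∃ g ∈ D.Q, g • ω = ω ∧ D.π g = w := Iff.rfl

theorem mem_Jsub_iff (hD : D.Ok) {ω : Ω} (hω : ∀ a, D.x a • ω = ω) (g : G) (hg : g ∈ D.Q) :
    D.π g ∈ Jsub hD ω ↔ g • ω = ω := by
  constructor
  · rintro ⟨h, hh, hhω, hπ⟩
    have h0 : D.π (g * h⁻¹) = 0 := by
      rw [hD.π_mul g hg _ (inv_mem hh), π_inv hD h hh, hπ, add_neg_cancel]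
    obtain ⟨a, ha⟩ := hD.π_ker _ (mul_mem hg (inv_mem hh)) h0
    have : g = D.x a * h := by rw [← ha]; group
    rw [this, mul_smul, hhω, hω]
  · intro h; exact ⟨g, hg, h, rfl⟩

theorem Jsub_smul_Q (hD : D.Ok) (ω : Ω) (g : G) (hg : g ∈ D.Q) :
    Jsub hD (g • ω) = Jsub hD ω := by
  ext w
  constructor
  · rintro ⟨h, hh, hhω, rfl⟩
    refine ⟨g⁻¹ * h * g, mul_mem (mul_mem (inv_mem hg) hh) hg, ?_, ?_⟩
    · rw [mul_smul, mul_smul, hhω, inv_smul_smul]
    · rw [hD.π_mul _ (mul_mem (inv_mem hg) hh) g hg, hD.π_mul _ (inv_mem hg) h hh, π_inv hD g hg]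
      abel
  · rintro ⟨h, hh, hhω, rfl⟩
    refine ⟨g * h * g⁻¹, mul_mem (mul_mem hg hh) (inv_mem hg), ?_, ?_⟩
    · rw [mul_smul, mul_smul, inv_smul_smul, hhω]
    · rw [hD.π_mul _ (mul_mem hg hh) _ (inv_mem hg), hD.π_mul _ hg h hh, π_inv hD g hg]
      abel

theorem fix_smul_Q (hD : D.Ok) {ω : Ω} (hω : ∀ a, D.x a • ω = ω) (g : G) (hg : g ∈ D.Q) (a : A) :
    D.x a • (g • ω) = g • ω := by
  rw [← mul_smul, ← x_comm hD g hg, mul_smul, hω]

theorem fix_smul_K (hD : D.Ok) {ω : Ω} (hω : ∀ a, D.x a • ω = ω) (k : G) (hk : k ∈ D.K) (a : A) :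
    D.x a • (k • ω) = k • ω := by
  rw [← mul_smul, ← hD.K_x k hk, mul_smul, hω]

theorem mem_Jsub_smul_L (hD : D.Ok) (ω : Ω) (k : G) (hk : k ∈ D.L) (w : W) :
    w ∈ Jsub hD (k • ω) ↔ ∃ j ∈ Jsub hD ω, D.ρ k j = w := by
  constructor
  · rintro ⟨h, hh, hhω, rfl⟩
    have hmem : k⁻¹ * h * k ∈ D.Q := by
      have := hD.L_conj_mem k⁻¹ (inv_mem hk) h hh
      rwa [inv_inv] at this
    refine ⟨D.π (k⁻¹ * h * k), ⟨k⁻¹ * h * k, hmem, ?_, rfl⟩, ?_⟩
    · rw [mul_smul, mul_smul, hhω, inv_smul_smul]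
    · rw [← hD.L_conj_π k hk _ hmem]
      congr 1; group
  · rintro ⟨_, ⟨g, hg, hgω, rfl⟩, rfl⟩
    refine ⟨k * g * k⁻¹, hD.L_conj_mem k hk g hg, ?_, hD.L_conj_π k hk g hg⟩
    rw [mul_smul, mul_smul, inv_smul_smul, hgω]

theorem fiber_card (hD : D.Ok) [Finite W] [Finite Ω] (ω : Ω) (hω : ∀ a, D.x a • ω = ω) :
    Nat.card W ≤
      Nat.card {ω' : Ω // (∀ a, D.x a • ω' = ω') ∧ Jsub hD ω' = Jsub hD ω} *
        Nat.card (Jsub hD ω) := by
  classical
  let _ : Fintype W := Fintype.ofFinite W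
  let _ : Fintype Ω := Fintype.ofFinite Ω
  choose gf hgQ hgπ using hD.π_surj
  set φ : W → Ω := fun w => gf w • ω with hφ
  have hfib : ∀ b ∈ (Finset.univ : Finset W).image φ,
      ((Finset.univ : Finset W).filter (fun w => φ w = b)).card ≤ Nat.card (Jsub hD ω) := by
    intro b hb
    obtain ⟨w₀, -, rfl⟩ := Finset.mem_image.1 hb
    have hsub : (Finset.univ : Finset W).filter (fun w => φ w = φ w₀)
        ⊆ ((Finset.univ : Finset W).filter (· ∈ Jsub hD ω)).image (fun j => w₀ + j) := by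
      intro w hw
      rw [Finset.mem_filter] at hw
      have h1 : ((gf w₀)⁻¹ * gf w) • ω = ω := by
        rw [mul_smul]
        have : gf w • ω = gf w₀ • ω := hw.2
        rw [this, inv_smul_smul]
      have h2 : D.π ((gf w₀)⁻¹ * gf w) = -w₀ + w := by
        rw [hD.π_mul _ (inv_mem (hgQ w₀)) _ (hgQ w), π_inv hD _ (hgQ w₀), hgπ, hgπ]
      rw [Finset.mem_image]
      refine ⟨-w₀ + w, ?_, ?_⟩
      · rw [Finset.mem_filter]
        refine ⟨Finset.mem_univ _, ?_⟩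
        rw [← h2]
        exact ⟨_, mul_mem (inv_mem (hgQ w₀)) (hgQ w), h1, rfl⟩
      · abel
    calc _ ≤ (((Finset.univ : Finset W).filter (· ∈ Jsub hD ω)).image (fun j => w₀ + j)).card :=
          Finset.card_le_card hsub
      _ ≤ ((Finset.univ : Finset W).filter (· ∈ Jsub hD ω)).card := Finset.card_image_le
      _ = Nat.card (Jsub hD ω) :=
          (Nat.subtype_card (Finset.univ.filter (· ∈ Jsub hD ω)) (by simp)).symm
  have h1 := Finset.card_le_mul_card_image (Finset.univ : Finset W) _ hfib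
  have h2 : ((Finset.univ : Finset W).image φ).card
      ≤ Nat.card {ω' : Ω // (∀ a, D.x a • ω' = ω') ∧ Jsub hD ω' = Jsub hD ω} := by
    rw [Nat.subtype_card (Finset.univ.filter
      (fun ω' : Ω => (∀ a, D.x a • ω' = ω') ∧ Jsub hD ω' = Jsub hD ω)) (by simp)]
    apply Finset.card_le_card
    intro b hb
    obtain ⟨w, -, rfl⟩ := Finset.mem_image.1 hb
    rw [Finset.mem_filter]
    exact ⟨Finset.mem_univ _, fix_smul_Q hD hω _ (hgQ w), Jsub_smul_Q hD ω _ (hgQ w)⟩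
  rw [Finset.card_univ, ← Nat.card_eq_fintype_card] at h1
  calc Nat.card W ≤ Nat.card (Jsub hD ω) * ((Finset.univ : Finset W).image φ).card := h1
    _ ≤ Nat.card (Jsub hD ω) *
          Nat.card {ω' : Ω // (∀ a, D.x a • ω' = ω') ∧ Jsub hD ω' = Jsub hD ω} :=
        Nat.mul_le_mul_left _ h2
    _ = _ := Nat.mul_comm _ _

theorem index_le (hD : D.Ok) [Finite W] [Finite Ω] (ω : Ω) (hω : ∀ a, D.x a • ω = ω) :
    (Jsub hD ω).index ≤
      Nat.card {ω' : Ω // (∀ a, D.x a • ω' = ω') ∧ Jsub hD ω' = Jsub hD ω} := by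
  have h1 := fiber_card hD ω hω
  rw [← (Jsub hD ω).card_mul_index, mul_comm] at h1
  have hpos : 0 < Nat.card (Jsub hD ω) := Nat.card_pos
  exact Nat.le_of_mul_le_mul_right h1 hpos

/-- UQ-BINJ (M).  Covering count: the `Q K`-orbit of a fixed point `ω` of `X` lies in `Fix(X)` and
has at least `|W : J| · #{K-translates of J}` points, `J = π(Q_ω)`. -/
theorem Binj [Finite G] [Finite W] [Finite A] [Finite Ω]
    (D : UDat G W A) (hD : D.Ok) (ω : Ω) (hω : ∀ a, D.x a • ω = ω) :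
    ∃ J : AddSubgroup W, (∀ w, w ∈ J ↔ ∃ g ∈ D.Q, g • ω = ω ∧ D.π g = w) ∧
      J.index * Nat.card {S : Set W // ∃ k ∈ D.K, S = D.ρ k '' (J : Set W)} ≤
        Nat.card {ω' : Ω // ∀ a, D.x a • ω' = ω'} := by
  classical
  refine ⟨Jsub hD ω, fun w => Iff.rfl, ?_⟩
  let _ : Fintype W := Fintype.ofFinite W
  let _ : Fintype Ω := Fintype.ofFinite Ω
  set J := Jsub hD ω with hJ
  set Nfam : Finset (Set W) :=
    Finset.univ.filter (fun S => ∃ k ∈ D.K, S = D.ρ k '' (J : Set W)) with hNfam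
  set Ffin : Finset Ω := Finset.univ.filter (fun ω' => ∀ a, D.x a • ω' = ω') with hFfin
  rw [Nat.subtype_card Nfam (by simp [hNfam]), Nat.subtype_card Ffin (by simp [hFfin])]
  set Φ : Ω → Set W := fun ω' => (Jsub hD ω' : Set W) with hΦ
  have h1 : ∀ S ∈ Nfam, J.index ≤ (Ffin.filter (fun ω' => Φ ω' = S)).card := by
    intro S hS
    rw [hNfam, Finset.mem_filter] at hS
    obtain ⟨-, k, hk, rfl⟩ := hS
    have hkL : k ∈ D.L := hD.K_le hk
    have hω₁ := fix_smul_K hD hω k hk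
    have hΦ₁ : Φ (k • ω) = D.ρ k '' (J : Set W) := by
      ext w
      simp only [hΦ, SetLike.mem_coe, Set.mem_image]
      exact mem_Jsub_smul_L hD ω k hkL w
    have hidx : (Jsub hD (k • ω)).index = J.index := by
      have e1 := (Jsub hD (k • ω)).card_mul_index
      have e2 := J.card_mul_index
      have e3 : Nat.card (Jsub hD (k • ω)) = Nat.card J := by
        have : ((Jsub hD (k • ω) : AddSubgroup W) : Set W) = D.ρ k '' (J : Set W) := hΦ₁
        calc Nat.card (Jsub hD (k • ω))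
            = Nat.card ((Jsub hD (k • ω) : AddSubgroup W) : Set W) := rfl
          _ = Nat.card (D.ρ k '' (J : Set W)) := by rw [this]
          _ = Nat.card (J : Set W) := Nat.card_image_of_injective (ρ_inj hD k hkL) _
          _ = Nat.card J := rfl
      rw [e3, ← e2] at e1
      have hpos : 0 < Nat.card J := Nat.card_pos
      exact Nat.eq_of_mul_eq_mul_left hpos e1
    have h2 := index_le hD (k • ω) hω₁
    rw [hidx] at h2
    refine h2.trans ?_
    rw [Nat.subtype_card (Ffin.filter (fun ω' => Jsub hD ω' = Jsub hD (k • ω)))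
      (by simp [hFfin])]
    apply Finset.card_le_card
    intro ω' hω'
    rw [Finset.mem_filter] at hω' ⊢
    refine ⟨hω'.1, ?_⟩
    rw [← hΦ₁]
    simp only [hΦ]
    rw [hω'.2]
  calc J.index * Nfam.card = ∑ _S ∈ Nfam, J.index := by
        rw [Finset.sum_const, smul_eq_mul, mul_comm]
    _ ≤ ∑ S ∈ Nfam, (Ffin.filter (fun ω' => Φ ω' = S)).card := Finset.sum_le_sum h1
    _ = (Ffin.filter (fun ω' => Φ ω' ∈ Nfam)).card :=
        Finset.sum_card_fiberwise_eq_card_filter _ _ _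
    _ ≤ Ffin.card := Finset.card_filter_le _ _

end stab

end Cfsg.Agent.Lib.Helper79_UQ_BINJ
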