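import Mathlib
import Cfsg.Agent.Lib.Helper50_UQAbsDefs
import Cfsg.Agent.Lib.Helper95_UQ_A1
import Cfsg.Agent.Lib.Helper25_UQ_A2
import Cfsg.Agent.Lib.Helper61_UQ_CARDQ
import Cfsg.Agent.Lib.Helper79_UQ_BINJ

/-!
UQ-W4CORE (helper50's S2152 market, part B): the orbit bound for `n = 4` by pure counting.  helper3.
-/

set_option autoImplicit false

open Cfsg.Agent.Lib.Helper50_UQAbsDefs

namespace Cfsg.Agent.Lib.Helper3_UQ_W4CORE

open Cfsg.Agent.Lib.Helper79_UQ_BINJ

section orbits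

variable {G : Type*} [Group G] {W : Type*} [AddCommGroup W] {A : Type*} [AddCommGroup A]
  {D : UDat G W A}

theorem ρ_zero (hD : D.Ok) (k : G) (hk : k ∈ D.L) : D.ρ k 0 = 0 := by
  have h := hD.L_conj_π k hk 1 (one_mem _)
  rw [mul_one, mul_inv_cancel, π_one hD] at h
  exact h.symm

theorem ρ_ne_zero (hD : D.Ok) (k : G) (hk : k ∈ D.L) {w : W} (hw : w ≠ 0) : D.ρ k w ≠ 0 := by
  intro h
  apply hw
  apply ρ_inj hD k hk
  rw [h, ρ_zero hD k hk]

/-- the orbit of `u` under a subgroup `E` acting through `ρ` -/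
def orb (D : UDat G W A) (E : Subgroup G) (u : W) : Set W :=
  Set.range (fun k : E => D.ρ (k : G) u)

theorem mem_orb {E : Subgroup G} {u w : W} : w ∈ orb D E u ↔ ∃ k ∈ E, D.ρ k u = w := by
  unfold orb
  constructor
  · rintro ⟨k, rfl⟩
    exact ⟨k.1, k.2, rfl⟩
  · rintro ⟨k, hk, rfl⟩
    exact ⟨⟨k, hk⟩, rfl⟩

/-- a free orbit has as many points as the group -/
theorem ncard_orb_of_free (hD : D.Ok) [Finite G] (E : Subgroup G) (hE : E ≤ D.L) (u : W)
    (hfree : ∀ k ∈ E, D.ρ k u = u → k = 1) : (orb D E u).ncard = Nat.card E := by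
  unfold orb
  rw [← Set.image_univ, Set.ncard_image_of_injective, Set.ncard_univ]
  intro k k' h
  have h1 : D.ρ ((k' : G)⁻¹ * (k : G)) u = u := by
    rw [ρ_mul hD _ _ (inv_mem (hE k'.2)) (hE k.2)]
    show D.ρ (k' : G)⁻¹ (D.ρ (k : G) u) = u
    have h' : D.ρ (k : G) u = D.ρ (k' : G) u := h
    rw [h', ρ_inv_ρ hD _ (hE k'.2)]
  have h2 := hfree _ (mul_mem (inv_mem k'.2) k.2) h1
  apply Subtype.ext
  have h3 : (k : G) = (k' : G) := by
    have := congrArg (fun z => (k' : G) * z) h2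
    simpa using this
  exact h3

/-- orbit-stabiliser inequality: `|E| ≤ q |E u|` when the stabiliser of `u` in `K` has at most `q`
elements -/
theorem card_le_mul_orb (hD : D.Ok) [Finite G] [Finite W] (E : Subgroup G) (hE : E ≤ D.K) (u : W)
    (q : ℕ) (hstab : Nat.card {k : G // k ∈ D.K ∧ D.ρ k u = u} ≤ q) :
    Nat.card E ≤ q * (orb D E u).ncard := by
  classical
  have : Fintype E := Fintype.ofFinite E
  have : Fintype W := Fintype.ofFinite W
  have hEL : E ≤ D.L := hE.trans hD.K_le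
  have h1 := Finset.card_le_mul_card_image (s := (Finset.univ : Finset E))
    (f := fun k : E => D.ρ (k : G) u) q ?_
  · rw [Finset.card_univ, ← Nat.card_eq_fintype_card] at h1
    have h2 : (orb D E u).ncard = (Finset.univ.image (fun k : E => D.ρ (k : G) u)).card := by
      unfold orb
      rw [← Set.image_univ, ← Finset.coe_univ, ← Finset.coe_image, Set.ncard_coe_finset]
    rw [h2]
    exact h1
  · intro a ha
    obtain ⟨k0, -, rfl⟩ := Finset.mem_image.mp ha
    have e1 : (Finset.univ.filter fun x : E => D.ρ (x : G) u = D.ρ (k0 : G) u).card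
        = Nat.card {x : E // D.ρ (x : G) u = D.ρ (k0 : G) u} := by
      rw [Nat.card_eq_fintype_card, Fintype.card_subtype]
    rw [e1]
    refine le_trans ?_ hstab
    have hmem : ∀ x : {x : E // D.ρ (x : G) u = D.ρ (k0 : G) u},
        ((k0 : G)⁻¹ * (x.1 : G)) ∈ D.K ∧ D.ρ ((k0 : G)⁻¹ * (x.1 : G)) u = u := by
      intro x
      refine ⟨mul_mem (inv_mem (hE k0.2)) (hE x.1.2), ?_⟩
      rw [ρ_mul hD _ _ (inv_mem (hEL k0.2)) (hEL x.1.2), x.2, ρ_inv_ρ hD _ (hEL k0.2)]
    apply Nat.card_le_card_of_injective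
      (fun x : {x : E // D.ρ (x : G) u = D.ρ (k0 : G) u} =>
        (⟨(k0 : G)⁻¹ * (x.1 : G), hmem x⟩ : {k : G // k ∈ D.K ∧ D.ρ k u = u}))
    intro x y hxy
    have h3 : (k0 : G)⁻¹ * (x.1 : G) = (k0 : G)⁻¹ * (y.1 : G) := congrArg Subtype.val hxy
    apply Subtype.ext
    apply Subtype.ext
    exact mul_left_cancel h3

/-- an orbit inside an invariant additive subgroup, away from `0` -/
theorem orb_subset (hD : D.Ok) (E : Subgroup G) (hE : E ≤ D.L) (I : AddSubgroup W)
    (hI : ∀ k ∈ E, ∀ w ∈ I, D.ρ k w ∈ I) {u : W} (hu : u ∈ I) (hu0 : u ≠ 0) :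
    orb D E u ⊆ {w : W | w ∈ I ∧ w ≠ 0} := by
  intro w hw
  obtain ⟨k, hk, rfl⟩ := mem_orb.mp hw
  exact ⟨hI k hk u hu, ρ_ne_zero hD k (hE hk) hu0⟩

/-- two orbits are disjoint if a point of one is not in the other -/
theorem orb_disjoint (hD : D.Ok) (E : Subgroup G) (hE : E ≤ D.L) {w w2 : W}
    (h : w2 ∉ orb D E w) : Disjoint (orb D E w) (orb D E w2) := by
  rw [Set.disjoint_left]
  intro x hx hx2
  apply h
  obtain ⟨k, hk, rfl⟩ := mem_orb.mp hx
  obtain ⟨k', hk', h'⟩ := mem_orb.mp hx2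
  refine mem_orb.mpr ⟨k'⁻¹ * k, mul_mem (inv_mem hk') hk, ?_⟩
  rw [ρ_mul hD _ _ (inv_mem (hE hk')) (hE hk), ← h', ρ_inv_ρ hD _ (hE hk')]

/-- the number of nonzero elements of an additive subgroup -/
theorem ncard_nonzero [Finite W] (I : AddSubgroup W) :
    ({w : W | w ∈ I ∧ w ≠ 0} : Set W).ncard + 1 = Nat.card I := by
  have h1 : ({w : W | w ∈ I ∧ w ≠ 0} : Set W) = (I : Set W) \ {0} := by
    ext w
    simp
  rw [h1, Set.ncard_sdiff_singleton_add_one (I.zero_mem) (Set.toFinite _)]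
  rfl

end orbits

section main

/-- a proper additive subgroup of a group of odd order `q` has at most `q / 3` elements -/
theorem three_mul_card_le {A : Type*} [AddCommGroup A] [Finite A] (q : ℕ) (hA : Nat.card A = q)
    (hodd : Odd q) (Y : AddSubgroup A) (hY : Y ≠ ⊤) : 3 * Nat.card Y ≤ q := by
  obtain ⟨m, hm⟩ : Nat.card Y ∣ q := hA ▸ AddSubgroup.card_addSubgroup_dvd_card Y
  have hYpos : 0 < Nat.card Y := Nat.card_pos
  have hm1 : m ≠ 1 := by
    intro h1
    apply hY
    apply (AddSubgroup.card_eq_iff_eq_top Y).mp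
    rw [hA, hm, h1, mul_one]
  have hm0 : m ≠ 0 := by
    intro h0
    rw [h0, mul_zero] at hm
    rw [hm] at hodd
    exact (Nat.not_odd_iff_even.mpr (by decide)) hodd
  have hm2 : m ≠ 2 := by
    intro h2
    rw [h2] at hm
    rw [hm] at hodd
    exact (Nat.not_odd_iff_even.mpr ⟨Nat.card Y, by ring⟩) hodd
  have hm3 : 3 ≤ m := by omega
  calc 3 * Nat.card Y ≤ m * Nat.card Y := Nat.mul_le_mul_right _ hm3
    _ = q := by rw [hm, mul_comm]

/-- **UQ-W4CORE** -/
theorem W4core {G : Type*} [Group G] [Finite G] {W : Type*} [AddCommGroup W] [Finite W]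
    {A : Type*} [AddCommGroup A] [Finite A] {Ω : Type*} [MulAction G Ω] [Finite Ω]
    (D : UDat G W A) (hD : D.Ok) {R : Type*} [Zero R] (nm : W → R) (col : W → W → Prop)
    (q : ℕ) (hq : 3 ≤ q) (hA : Nat.card A = q) (hW : Nat.card W = q ^ 4)
    (hK : Nat.card D.K = q * (q ^ 2 - 1))
    (htorus : ∀ (S : Subgroup G) (Y : AddSubgroup A), S ≤ D.L → Y ≠ ⊥ → Y ≠ ⊤ →
        (∀ s ∈ S, ∀ a ∈ Y, D.ν s a ∈ Y) → Nat.card Y + 1 ≤ (S ⊔ D.K).relIndex D.L)
    (hnm : ∀ k ∈ D.K, ∀ w : W, nm (D.ρ k w) = nm w)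
    (hfree : ∀ k ∈ D.K, ∀ w : W, nm w ≠ 0 → D.ρ k w = w → k = 1)
    (hstab : ∀ u : W, u ≠ 0 → Nat.card {k : G // k ∈ D.K ∧ D.ρ k u = u} ≤ q)
    (hnorm1 : ∀ I : AddSubgroup W, (∃ c : R, c ≠ 0 ∧ ∀ w ∈ I, w ≠ 0 → nm w = c) → Nat.card I ≤ 4)
    (hborel : ∀ E : Subgroup G, E ≤ D.K → ∀ u : W, u ≠ 0 → nm u = 0 →
        (∀ k ∈ E, col (D.ρ k u) u) → q + 1 ≤ E.relIndex D.K)
    (hγodd : Odd q → ∀ (I : AddSubgroup W) (Y : AddSubgroup A), (∀ w ∈ I, nm w = 0) →
        (∃ u ∈ I, ∃ b ∈ I, u ≠ 0 ∧ ¬ col b u) → (∀ w ∈ I, ∀ w' ∈ I, D.β w w' ∈ Y) →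
        Nat.card I ≤ Nat.card Y ^ 2)
    (htorus2 : Even q → ∀ (S : Subgroup G) (I : AddSubgroup W) (Y : AddSubgroup A),
        S ≤ D.L → D.K ≤ S → Y ≠ ⊤ → Nat.card I ≤ q ^ 2 → (∀ w ∈ I, nm w = 0) →
        (∃ u ∈ I, ∃ b ∈ I, u ≠ 0 ∧ ¬ col b u) →
        (∀ s ∈ S, ∀ w ∈ I, D.ρ s w ∈ I) → (∀ s ∈ S, ∀ a ∈ Y, D.ν s a ∈ Y) →
        (q + 1) * Nat.card Y ≤ (S ⊔ D.K).relIndex D.L)
    (hμK : q ∉ ({3, 5, 7, 9, 11} : Finset ℕ) →
        ∀ E : Subgroup G, E ≤ D.K → E ≠ D.K → q + 1 ≤ E.relIndex D.K)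
    (ω : Ω) (hω : ∃ a, D.x a • ω ≠ ω) :
    (q + 1) * q ^ 3 ≤ Nat.card Ω := by
  obtain ⟨Y, I, S, hY, hI, hS, hβ, hSI, hSY, hcount⟩ := Cfsg.Agent.Lib.Helper95_UQ_A1.A1 D hD ω
  have hSL : S ≤ D.L := fun l hl => ((hS l).mp hl).1
  have hKL : D.K ≤ D.L := hD.K_le
  have hq2 : 1 ≤ q ^ 2 := Nat.one_le_pow _ _ (by omega)
  -- `Y` is proper
  have hYtop : Y ≠ ⊤ := by
    intro h
    obtain ⟨a, ha⟩ := hω
    apply ha
    rw [← hY a, h]
    exact AddSubgroup.mem_top a
  -- `|I| ≤ q^2`
  have hIq : Nat.card I ≤ q ^ 2 := by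
    have h := Cfsg.Agent.Lib.Helper25_UQ_A2.A2 D.β hD.β_add_left hD.β_add_right hD.β_surj Y hYtop I hβ
    rw [hW, show q ^ 4 = (q ^ 2) ^ 2 by ring] at h
    exact (Nat.pow_le_pow_iff_left (by norm_num)).mp h
  have hIpos : 0 < Nat.card I := Nat.card_pos
  have hYpos : 0 < Nat.card Y := Nat.card_pos
  -- abbreviations
  set t := (S ⊔ D.K).relIndex D.L with ht
  set e := (S ⊓ D.K).relIndex D.K with he
  have htpos : 0 < t := by
    rw [ht, Subgroup.relIndex]
    exact Nat.pos_of_ne_zero Subgroup.index_ne_zero_of_finite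
  have hepos : 0 < e := by
    rw [he, Subgroup.relIndex]
    exact Nat.pos_of_ne_zero Subgroup.index_ne_zero_of_finite
  have heE : e * Nat.card ↥(S ⊓ D.K) = q * (q ^ 2 - 1) := by
    rw [he, Subgroup.inf_relIndex_right, Cfsg.Agent.Lib.Helper95_UQ_A1.relIndex_mul_card_inf, hK]
  -- the torus inequality
  have htY : Nat.card Y ≤ t := by
    by_cases hYbot : Y = ⊥
    · rw [hYbot, AddSubgroup.card_bot]
      exact htpos
    · have := htorus S Y hSL hYbot hYtop hSY
      omega
  -- the action of `E = S ⊓ K` on `I`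
  have hEK : S ⊓ D.K ≤ D.K := inf_le_right
  have hEL : S ⊓ D.K ≤ D.L := hEK.trans hKL
  have hEI : ∀ k ∈ S ⊓ D.K, ∀ w ∈ I, D.ρ k w ∈ I := fun k hk w hw => hSI k hk.1 w hw
  -- `nm 0 = 0`
  have hnm0 : nm 0 = 0 := by
    by_contra h0
    have h1 : ∀ k ∈ D.K, k = 1 := fun k hk => hfree k hk 0 h0 (ρ_zero hD k (hKL hk))
    have h2 : D.K = ⊥ := (Subgroup.eq_bot_iff_forall _).mpr h1
    rw [h2, Subgroup.card_bot] at hK
    have : 8 ≤ q ^ 2 - 1 := by
      have : 9 ≤ q ^ 2 := by nlinarith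
      omega
    nlinarith
  -- the main inequality
  have hmain : (q + 1) * (Nat.card Y * Nat.card I) ≤ q ^ 2 * (t * e) := by
    by_cases heq : q + 1 ≤ e
    · calc (q + 1) * (Nat.card Y * Nat.card I) ≤ e * (t * q ^ 2) :=
            Nat.mul_le_mul heq (Nat.mul_le_mul htY hIq)
        _ = q ^ 2 * (t * e) := by ring
    push Not at heq
    have heq' : e ≤ q := by omega
    by_cases hIbot : I = ⊥
    · rw [hIbot, AddSubgroup.card_bot, mul_one]
      calc (q + 1) * Nat.card Y ≤ q ^ 2 * t := by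
            apply Nat.mul_le_mul _ htY
            nlinarith
        _ ≤ q ^ 2 * (t * e) := by
            apply Nat.mul_le_mul_left
            exact Nat.le_mul_of_pos_right _ hepos
    -- a nonzero element of `I`
    obtain ⟨u0, hu0I, hu00⟩ : ∃ u ∈ I, u ≠ 0 := by
      by_contra hcon
      push Not at hcon
      exact hIbot ((AddSubgroup.eq_bot_iff_forall _).mpr hcon)
    have hX := ncard_nonzero I
    by_cases hα : ∃ w ∈ I, nm w ≠ 0
    · -- (α)
      exfalso
      obtain ⟨w, hwI, hw⟩ := hα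
      have hw0 : w ≠ 0 := fun h => hw (h ▸ hnm0)
      have hfr : ∀ k ∈ S ⊓ D.K, D.ρ k w = w → k = 1 := fun k hk h => hfree k hk.2 w hw h
      have hO1 := ncard_orb_of_free hD (S ⊓ D.K) hEL w hfr
      have hsub1 := orb_subset hD (S ⊓ D.K) hEL I hEI hwI hw0
      by_cases hall : ∀ i ∈ I, i ≠ 0 → i ∈ orb D (S ⊓ D.K) w
      · -- (α1)
        have h4 : Nat.card I ≤ 4 := by
          apply hnorm1 I
          refine ⟨nm w, hw, ?_⟩
          intro i hi hi0
          obtain ⟨k, hk, rfl⟩ := mem_orb.mp (hall i hi hi0)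
          exact hnm k hk.2 w
        have h5 : (orb D (S ⊓ D.K) w).ncard ≤ ({w : W | w ∈ I ∧ w ≠ 0} : Set W).ncard :=
          Set.ncard_le_ncard hsub1 (Set.toFinite _)
        have h6 : Nat.card ↥(S ⊓ D.K) ≤ 3 := by omega
        have h7 : q * (q ^ 2 - 1) ≤ q * 3 := by
          rw [← heE]
          exact Nat.mul_le_mul heq' h6
        have h8 : q ^ 2 - 1 ≤ 3 := Nat.le_of_mul_le_mul_left h7 (by omega)
        have : 9 ≤ q ^ 2 := by nlinarith
        omega
      · -- (α2)
        push Not at hall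
        obtain ⟨w2, hw2I, hw20, hw2⟩ := hall
        have hdis := orb_disjoint hD (S ⊓ D.K) hEL hw2
        have hsub2 := orb_subset hD (S ⊓ D.K) hEL I hEI hw2I hw20
        have hO2 := card_le_mul_orb hD (S ⊓ D.K) hEK w2 q (hstab w2 hw20)
        have h5 : (orb D (S ⊓ D.K) w ∪ orb D (S ⊓ D.K) w2).ncard
            ≤ ({w : W | w ∈ I ∧ w ≠ 0} : Set W).ncard :=
          Set.ncard_le_ncard (Set.union_subset hsub1 hsub2) (Set.toFinite _)
        rw [Set.ncard_union_eq hdis (Set.toFinite _) (Set.toFinite _), hO1] at h5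
        -- `(q+1)|E| ≤ q (|I| - 1)`
        set cE := Nat.card ↥(S ⊓ D.K) with hcE
        set o2 := (orb D (S ⊓ D.K) w2).ncard with ho2
        have h6 : (q + 1) * cE ≤ q * (Nat.card I - 1) := by
          have : cE + o2 ≤ Nat.card I - 1 := by omega
          calc (q + 1) * cE = q * cE + cE := by ring
            _ ≤ q * cE + q * o2 := Nat.add_le_add_left hO2 _
            _ = q * (cE + o2) := by ring
            _ ≤ q * (Nat.card I - 1) := Nat.mul_le_mul_left _ this
        have h7 : (q + 1) * (q * (q ^ 2 - 1)) ≤ q * (q * (q ^ 2 - 1)) := by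
          calc (q + 1) * (q * (q ^ 2 - 1)) = e * ((q + 1) * cE) := by rw [← heE]; ring
            _ ≤ e * (q * (Nat.card I - 1)) := Nat.mul_le_mul_left _ h6
            _ ≤ q * (q * (q ^ 2 - 1)) := by
                apply Nat.mul_le_mul heq'
                apply Nat.mul_le_mul_left
                omega
        have h8 : 0 < q * (q ^ 2 - 1) := by
          apply Nat.mul_pos (by omega)
          have : 9 ≤ q ^ 2 := by nlinarith
          omega
        have h9 : q + 1 ≤ q := Nat.le_of_mul_le_mul_right h7 h8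
        omega
    · -- all of `I` is isotropic
      push Not at hα
      by_cases hβc : ∃ u ∈ I, u ≠ 0 ∧ ∀ b ∈ I, col b u
      · -- (β)
        exfalso
        obtain ⟨u, huI, hu0, hcol⟩ := hβc
        have := hborel (S ⊓ D.K) hEK u hu0 (hα u huI) (fun k hk => hcol _ (hEI k hk u huI))
        omega
      · -- (γ)
        push Not at hβc
        obtain ⟨b, hbI, hb⟩ := hβc u0 hu0I hu00
        have hnc : ∃ u ∈ I, ∃ b ∈ I, u ≠ 0 ∧ ¬ col b u := ⟨u0, hu0I, b, hbI, hu00, hb⟩
        rcases Nat.even_or_odd q with heven | hodd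
        · -- `q` even
          have hq5 : q ∉ ({3, 5, 7, 9, 11} : Finset ℕ) := by
            intro hmem
            simp only [Finset.mem_insert, Finset.mem_singleton] at hmem
            have := Nat.even_iff.mp heven
            omega
          have hEeq : S ⊓ D.K = D.K := by
            by_contra hne
            have := hμK hq5 (S ⊓ D.K) hEK hne
            omega
          have hKS : D.K ≤ S := inf_eq_right.mp hEeq
          have h1 := htorus2 heven S I Y hSL hKS hYtop hIq hα hnc hSI hSY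
          calc (q + 1) * (Nat.card Y * Nat.card I) = ((q + 1) * Nat.card Y) * Nat.card I := by ring
            _ ≤ t * q ^ 2 := Nat.mul_le_mul h1 hIq
            _ ≤ q ^ 2 * (t * e) := by
                rw [mul_comm t (q ^ 2)]
                apply Nat.mul_le_mul_left
                exact Nat.le_mul_of_pos_right _ hepos
        · -- `q` odd
          have hIY := hγodd hodd I Y hα hnc hβ
          have h3Y := three_mul_card_le q hA hodd Y hYtop
          have h9 : 9 * Nat.card I ≤ q ^ 2 := by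
            calc 9 * Nat.card I ≤ 9 * Nat.card Y ^ 2 := Nat.mul_le_mul_left _ hIY
              _ = (3 * Nat.card Y) ^ 2 := by ring
              _ ≤ q ^ 2 := Nat.pow_le_pow_left h3Y 2
          by_cases hEeq : S ⊓ D.K = D.K
          · -- impossible: the `K`-orbit of `u0` is too large
            exfalso
            have hKS : D.K ≤ S := inf_eq_right.mp hEeq
            have hKI : ∀ k ∈ D.K, ∀ w ∈ I, D.ρ k w ∈ I := fun k hk w hw => hSI k (hKS hk) w hw
            have hsub := orb_subset hD D.K hKL I hKI hu0I hu00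
            have hO := card_le_mul_orb hD D.K le_rfl u0 q (hstab u0 hu00)
            have h5 : (orb D D.K u0).ncard ≤ ({w : W | w ∈ I ∧ w ≠ 0} : Set W).ncard :=
              Set.ncard_le_ncard hsub (Set.toFinite _)
            rw [hK] at hO
            have h6 : q * (q ^ 2 - 1) ≤ q * (Nat.card I - 1) :=
              hO.trans (Nat.mul_le_mul_left _ (by omega))
            have h7 : q ^ 2 - 1 ≤ Nat.card I - 1 := Nat.le_of_mul_le_mul_left h6 (by omega)
            have : 9 ≤ q ^ 2 := by nlinarith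
            omega
          · -- `E ≠ K`
            have hq5 : q ∈ ({3, 5, 7, 9, 11} : Finset ℕ) := by
              by_contra hmem
              have := hμK hmem (S ⊓ D.K) hEK hEeq
              omega
            have hq11 : q ≤ 11 := by
              simp only [Finset.mem_insert, Finset.mem_singleton] at hq5
              omega
            have he2 : 2 ≤ e := by
              have hne1 : e ≠ 1 := by
                intro h1
                apply hEeq
                apply le_antisymm hEK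
                have := Subgroup.relIndex_eq_one.mp (he ▸ h1)
                exact this
              omega
            have h10 : (q + 1) * Nat.card I ≤ 2 * q ^ 2 := by
              have h11 : 9 * ((q + 1) * Nat.card I) ≤ 9 * (2 * q ^ 2) := by
                calc 9 * ((q + 1) * Nat.card I) = (q + 1) * (9 * Nat.card I) := by ring
                  _ ≤ (q + 1) * q ^ 2 := Nat.mul_le_mul_left _ h9
                  _ ≤ 18 * q ^ 2 := Nat.mul_le_mul_right _ (by omega)
                  _ = 9 * (2 * q ^ 2) := by ring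
              exact Nat.le_of_mul_le_mul_left h11 (by norm_num)
            calc (q + 1) * (Nat.card Y * Nat.card I) = Nat.card Y * ((q + 1) * Nat.card I) := by ring
              _ ≤ t * (2 * q ^ 2) := Nat.mul_le_mul htY h10
              _ = q ^ 2 * (t * 2) := by ring
              _ ≤ q ^ 2 * (t * e) := by
                  apply Nat.mul_le_mul_left
                  exact Nat.mul_le_mul_left _ he2
  -- the conclusion
  have hQ : Nat.card D.Q = q ^ 5 := by
    rw [Cfsg.Agent.Lib.Helper61_UQ_CARDQ.cardQ D hD, hW, hA]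
    ring
  rw [hQ] at hcount
  have hO : (q + 1) * q ^ 3 ≤ Nat.card (MulAction.orbit ↥(D.Q ⊔ D.L) ω) := by
    have hpos : 0 < Nat.card Y * Nat.card I := Nat.mul_pos hYpos hIpos
    apply Nat.le_of_mul_le_mul_right _ hpos
    rw [hcount]
    calc (q + 1) * q ^ 3 * (Nat.card Y * Nat.card I)
        = q ^ 3 * ((q + 1) * (Nat.card Y * Nat.card I)) := by ring
      _ ≤ q ^ 3 * (q ^ 2 * (t * e)) := Nat.mul_le_mul_left _ hmain
      _ = q ^ 5 * (t * e) := by ring
  refine hO.trans ?_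
  exact Nat.card_le_card_of_injective Subtype.val Subtype.val_injective

end main

end Cfsg.Agent.Lib.Helper3_UQ_W4CORE
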