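import Mathlib
import Cfsg.Agent.Lib.Helper50_UQAbsDefs
import Cfsg.Agent.Lib.Helper94_UQInst
import Cfsg.Agent.Lib.Helper27_UQ_CARD
import Cfsg.Agent.Lib.Helper95_UQ_FLD
import Cfsg.Agent.Lib.Helper26_UQ_HPFREE

set_option autoImplicit false

/-!
UQ-HPSTAB (helper50's S2152 market, part B): `dim V = 4`; the stabiliser in `K = SU(W)` of a nonzero vector
`u` of the hyperbolic plane `W` has at most `q` elements.
-/

open Cfsg.Agent.Lib.Helper50_UQAbsDefs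
open Module Cfsg.Agent.Lib.Helper94_Symp Cfsg.Agent.Lib.Helper94_Herm
  Cfsg.Agent.Lib.Helper13_SUGen Cfsg.Agent.Lib.Helper13_PSUSimple Cfsg.Agent.Lib.Helper14_PSULocal1
  Cfsg.Agent.Lib.Helper27_UQDefs Cfsg.Agent.Lib.Helper94_UQInst

namespace Cfsg.Agent.Lib.Helper42_UQ_HPSTAB

variable {F V : Type*} [Field F] [AddCommGroup V] [Module F V] {σ : F →+* F}
  {B : V →ₗ[F] V →ₛₗ[σ] F}

/-- elements of `K` act through `ρ` as themselves -/
theorem ρ_K (hσ : Invol σ) (hB : IsHerm B) {v v' : V} (h : HypPair B v v') {k : ↥(SUg B)}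
    (hk : k ∈ (udat hσ hB h).K) (w : ↥(Wsub B v v')) :
    (((udat hσ hB h).ρ k w : ↥(Wsub B v v')) : V) = (k : V ≃ₗ[F] V) (w : V) := by
  have hk' : (k : V ≃ₗ[F] V) ∈ Kv B v v' := (mem_K hσ hB h).mp hk
  have := ρ_of_mem (hσ := hσ) (hB := hB) (h := h) (Kv_le_Lv B v v' hk') (lam := 1)
    (by rw [hk'.2.1, one_smul]) w
  rw [this, map_one, one_smul]

/-- in a hyperbolic plane `W` (`dim V = 4`) with hyperbolic pair `u, u'`, only `0` is orthogonal to both -/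
theorem zero_of_orth [FiniteDimensional F V] {v v' : V} (h : HypPair B v v') (h4 : finrank F V = 4)
    {u u' : V} (huW : u ∈ Wsub B v v') (hu'W : u' ∈ Wsub B v v') (hp : HypPair B u u')
    {x : V} (hxW : x ∈ Wsub B v v') (hxu : B x u = 0) (hxu' : B x u' = 0) : x = 0 := by
  have hfW : finrank F ↥(Wsub B v v') = 2 := by
    have := Cfsg.Agent.Lib.Helper27_UQ_CARD.finrank_Wsub h
    omega
  have hp' : HypPair (Cfsg.Agent.Lib.Helper27_UQ_KISO.Bw B (Wsub B v v')) ⟨u, huW⟩ ⟨u', hu'W⟩ :=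
    ⟨hp.ee, hp.ff, hp.ef, hp.fe⟩
  have h2 := Cfsg.Agent.Lib.Helper27_UQ_CARD.finrank_Wsub hp'
  have h0 : finrank F ↥(Wsub (Cfsg.Agent.Lib.Helper27_UQ_KISO.Bw B (Wsub B v v')) ⟨u, huW⟩ ⟨u', hu'W⟩) = 0 := by
    omega
  have hbot := Submodule.finrank_eq_zero.mp h0
  have hx : (⟨x, hxW⟩ : ↥(Wsub B v v')) ∈
      Wsub (Cfsg.Agent.Lib.Helper27_UQ_KISO.Bw B (Wsub B v v')) ⟨u, huW⟩ ⟨u', hu'W⟩ := ⟨hxu, hxu'⟩
  rw [hbot] at hx
  have := (Submodule.mem_bot F).mp hx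
  exact congrArg Subtype.val this

/-- the isotropic case of HPSTAB -/
theorem stab_iso_le [Finite F] [FiniteDimensional F V] (hσ : Invol σ) (hB : IsHerm B)
    (hN : NondegOn B ⊤) {q : ℕ} (hF : Nat.card F = q ^ 2)
    {v v' : V} (h : HypPair B v v') (h4 : finrank F V = 4) (u : ↥(Wsub B v v')) (hu0 : u ≠ 0)
    (hiso : B (u : V) (u : V) = 0) :
    Nat.card {k : ↥(SUg B) // k ∈ (udat hσ hB h).K ∧ (udat hσ hB h).ρ k u = u} ≤ q := by
  have hWnd : NondegOn B (Wsub B v v') := by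
    rw [Wsub_eq_Wp]; exact nondegOn_Wp hB hN h
  obtain ⟨u', hu'W, hu'u', huu'⟩ :=
    exists_partner hσ hB hWnd u.2 (fun h0 => hu0 (Subtype.ext h0)) hiso
  have hp : HypPair B (u : V) u' := hypPair_mk hB hiso hu'u' huu'
  have hstep : ∀ k : ↥(SUg B), k ∈ (udat hσ hB h).K → (udat hσ hB h).ρ k u = u →
      (k : V ≃ₗ[F] V) (u : V) = (u : V) ∧
      (k : V ≃ₗ[F] V) u' = u' + B ((k : V ≃ₗ[F] V) u') u' • (u : V) ∧
        σ (B ((k : V ≃ₗ[F] V) u') u') = -(B ((k : V ≃ₗ[F] V) u') u') := by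
    intro k hk hku
    have hk' : (k : V ≃ₗ[F] V) ∈ Kv B v v' := (mem_K hσ hB h).mp hk
    have hkU : (k : V ≃ₗ[F] V) ∈ uG B := (mem_SUg.mp hk'.1).1
    have hku' : (k : V ≃ₗ[F] V) (u : V) = (u : V) := by
      have := congrArg Subtype.val hku
      rwa [ρ_K hσ hB h hk u] at this
    have hkW : (k : V ≃ₗ[F] V) u' ∈ Wsub B v v' :=
      Cfsg.Agent.Lib.Helper27_UQ_KISO.Kv_map_mem hk' hu'W
    have hx : (k : V ≃ₗ[F] V) u' - u' - B ((k : V ≃ₗ[F] V) u') u' • (u : V) = 0 := by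
      apply zero_of_orth h h4 u.2 hu'W hp
      · exact (Wsub B v v').sub_mem ((Wsub B v v').sub_mem hkW hu'W) ((Wsub B v v').smul_mem _ u.2)
      · have h1 : B ((k : V ≃ₗ[F] V) u') (u : V) = B u' (u : V) := by
          have := hkU u' (u : V)
          rwa [hku'] at this
        rw [map_sub, map_sub, map_smul, LinearMap.sub_apply, LinearMap.sub_apply,
          LinearMap.smul_apply, h1, hiso, smul_zero]
        ring
      · rw [map_sub, map_sub, map_smul, LinearMap.sub_apply, LinearMap.sub_apply,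
          LinearMap.smul_apply, hu'u', huu', smul_eq_mul]
        ring
    have e1 : (k : V ≃ₗ[F] V) u' = u' + B ((k : V ≃ₗ[F] V) u') u' • (u : V) := by
      exact eq_add_of_sub_eq' (sub_eq_zero.mp hx)
    refine ⟨hku', e1, ?_⟩
    have hn := hkU u' u'
    rw [hu'u'] at hn
    set α := B ((k : V ≃ₗ[F] V) u') u' with hα
    rw [e1] at hn
    simp only [map_add, LinearMap.add_apply, map_smul, LinearMap.smul_apply, map_smulₛₗ,
      smul_eq_mul, hu'u', hiso, huu', hp.fe, mul_zero, mul_one, zero_add, add_zero] at hn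
    linear_combination hn
  -- the injection into the skew elements
  have hq : Nat.card {c : F // σ c = -c} = q := Cfsg.Agent.Lib.Helper95_UQ_FLD.card_skew hσ hF
  rw [← hq]
  apply Nat.card_le_card_of_injective
    (fun k : {k : ↥(SUg B) // k ∈ (udat hσ hB h).K ∧ (udat hσ hB h).ρ k u = u} =>
      (⟨B ((k.1 : V ≃ₗ[F] V) u') u', (hstep k.1 k.2.1 k.2.2).2.2⟩ : {c : F // σ c = -c}))
  intro k₁ k₂ h12
  have hα : B ((k₁.1 : V ≃ₗ[F] V) u') u' = B ((k₂.1 : V ≃ₗ[F] V) u') u' :=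
    congrArg Subtype.val h12
  obtain ⟨a1, b1, -⟩ := hstep k₁.1 k₁.2.1 k₁.2.2
  obtain ⟨a2, b2, -⟩ := hstep k₂.1 k₂.2.1 k₂.2.2
  have hz : (k₁.1 : V ≃ₗ[F] V) u' = (k₂.1 : V ≃ₗ[F] V) u' := by rw [b1, b2, hα]
  have hk1 : (k₁.1 : V ≃ₗ[F] V) ∈ Kv B v v' := (mem_K hσ hB h).mp k₁.2.1
  have hk2 : (k₂.1 : V ≃ₗ[F] V) ∈ Kv B v v' := (mem_K hσ hB h).mp k₂.2.1
  have hU1 : (k₁.1 : V ≃ₗ[F] V) ∈ uG B := (mem_SUg.mp hk1.1).1
  have hU2 : (k₂.1 : V ≃ₗ[F] V) ∈ uG B := (mem_SUg.mp hk2.1).1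
  apply Subtype.ext
  apply Subtype.ext
  apply LinearEquiv.ext
  intro x
  apply sub_eq_zero.mp
  -- `y = k₁ x - k₂ x` is orthogonal to `v, v', u, u'`
  have hyv : B ((k₁.1 : V ≃ₗ[F] V) x - (k₂.1 : V ≃ₗ[F] V) x) v = 0 := by
    have e1 := hU1 x v
    have e2 := hU2 x v
    rw [hk1.2.1] at e1
    rw [hk2.2.1] at e2
    rw [map_sub, LinearMap.sub_apply, e1, e2, sub_self]
  have hyv' : B ((k₁.1 : V ≃ₗ[F] V) x - (k₂.1 : V ≃ₗ[F] V) x) v' = 0 := by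
    have e1 := hU1 x v'
    have e2 := hU2 x v'
    rw [hk1.2.2] at e1
    rw [hk2.2.2] at e2
    rw [map_sub, LinearMap.sub_apply, e1, e2, sub_self]
  have hyu : B ((k₁.1 : V ≃ₗ[F] V) x - (k₂.1 : V ≃ₗ[F] V) x) (u : V) = 0 := by
    have e1 := hU1 x (u : V)
    have e2 := hU2 x (u : V)
    rw [a1] at e1
    rw [a2] at e2
    rw [map_sub, LinearMap.sub_apply, e1, e2, sub_self]
  have hyz : B ((k₁.1 : V ≃ₗ[F] V) x - (k₂.1 : V ≃ₗ[F] V) x) ((k₁.1 : V ≃ₗ[F] V) u') = 0 := by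
    have e1 := hU1 x u'
    have e2 := hU2 x u'
    rw [← hz] at e2
    rw [map_sub, LinearMap.sub_apply, e1, e2, sub_self]
  have hyu' : B ((k₁.1 : V ≃ₗ[F] V) x - (k₂.1 : V ≃ₗ[F] V) x) u' = 0 := by
    rw [b1, map_add, map_smulₛₗ, hyu, smul_zero, add_zero] at hyz
    exact hyz
  exact zero_of_orth h h4 u.2 hu'W hp ⟨hyv, hyv'⟩ hyu hyu'

/-- UQ-HPSTAB -/
theorem HPSTAB [Finite F] [FiniteDimensional F V] (hσ : Invol σ) (hB : IsHerm B)
    (hN : NondegOn B ⊤) {q : ℕ} (hF : Nat.card F = q ^ 2)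
    {v v' : V} (h : HypPair B v v') (h4 : finrank F V = 4) :
    ∀ u : ↥(Wsub B v v'), u ≠ 0 →
      Nat.card {k : ↥(SUg B) // k ∈ (udat hσ hB h).K ∧ (udat hσ hB h).ρ k u = u} ≤ q := by
  intro u hu0
  by_cases hiso : B (u : V) (u : V) = 0
  · exact stab_iso_le hσ hB hN hF h h4 u hu0 hiso
  · -- anisotropic: the stabiliser is trivial (HPFREE)
    have hfree := (Cfsg.Agent.Lib.Helper26_UQ_HPFREE.HPFREE hσ hB hN h h4).2
    have hsub : Subsingleton {k : ↥(SUg B) // k ∈ (udat hσ hB h).K ∧ (udat hσ hB h).ρ k u = u} := by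
      constructor
      intro a b
      apply Subtype.ext
      rw [hfree a.1 a.2.1 u hiso a.2.2, hfree b.1 b.2.1 u hiso b.2.2]
    have h1 : Nat.card {k : ↥(SUg B) // k ∈ (udat hσ hB h).K ∧ (udat hσ hB h).ρ k u = u} ≤ 1 :=
      Finite.card_le_one_iff_subsingleton.mpr hsub
    have hq : 1 ≤ q := by
      rcases Nat.eq_zero_or_pos q with h0 | h0
      · subst h0
        have : 0 < Nat.card F := Nat.card_pos
        rw [hF] at this
        simp at this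
      · exact h0
    omega

end Cfsg.Agent.Lib.Helper42_UQ_HPSTAB
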