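import Mathlib
import Cfsg.Agent.Lib.Helper50_UQAbsDefs
import Cfsg.Agent.Lib.Helper94_UQInst
import Cfsg.Agent.Lib.Helper27_UQ_TOR2
import Cfsg.Agent.Lib.Helper27_UQ_CARD
import Cfsg.Agent.Lib.Helper27_UQ_GEN
import Cfsg.Agent.Lib.Helper50_UQNumDefs
import Cfsg.Agent.Lib.Helper95_UQ_FLD

/-!
# UQ package HPBOREL (architect helper50): in dimension 4 a subgroup of `K` stabilising an isotropic point of the
hyperbolic plane `W` has index at least `q + 1` in `K`.
-/

set_option autoImplicit false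

open Cfsg.Agent.Lib.Helper50_UQAbsDefs

open Module Cfsg.Agent.Lib.Helper94_Symp Cfsg.Agent.Lib.Helper94_Herm
  Cfsg.Agent.Lib.Helper13_SUGen Cfsg.Agent.Lib.Helper13_PSUSimple Cfsg.Agent.Lib.Helper14_PSULocal1
  Cfsg.Agent.Lib.Helper27_UQDefs Cfsg.Agent.Lib.Helper94_UQInst

namespace Cfsg.Agent.Lib.Helper55_UQ_HPBOREL

variable {F V : Type*} [Field F] [AddCommGroup V] [Module F V] {σ : F →+* F}
  {B : V →ₗ[F] V →ₛₗ[σ] F}

theorem HPBOREL [Finite F] [FiniteDimensional F V] (hσ : Invol σ) (hB : IsHerm B)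
    (hN : NondegOn B ⊤) {q : ℕ} (hF : Nat.card F = q ^ 2)
    {v v' : V} (h : HypPair B v v') (h4 : finrank F V = 4) :
    ∀ E : Subgroup ↥(SUg B), E ≤ (udat hσ hB h).K → ∀ u : ↥(Wsub B v v'), u ≠ 0 →
      B (u : V) (u : V) = 0 →
      (∀ k ∈ E, ∃ c : F, (((udat hσ hB h).ρ k u : ↥(Wsub B v v')) : V) = c • (u : V)) →
      q + 1 ≤ E.relIndex (udat hσ hB h).K := by
  intro E hEK u hu0 huu hE
  classical
  have hVfin : Finite V := Module.finite_of_finite F
  have hGfin : Finite (V ≃ₗ[F] V) :=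
    Finite.of_injective (fun e : V ≃ₗ[F] V => (e : V → V)) DFunLike.coe_injective
  have hW : NondegOn B (Wsub B v v') := by
    rw [Wsub_eq_Wp]; exact nondegOn_Wp hB hN h
  have hu0' : (u : V) ≠ 0 := fun h0 => hu0 (Subtype.ext h0)
  obtain ⟨u', hu'W, hu'u', huu'⟩ := exists_partner hσ hB hW u.2 hu0' huu
  have hu'u : B u' (u : V) = 1 := by rw [hB (u : V) u', huu', map_one]
  obtain ⟨ζ, hζ0, hζ⟩ := exists_skew hσ
  have hζi : σ ζ⁻¹ = -ζ⁻¹ := by rw [map_inv₀, hζ, inv_neg]
  have hζn : σ (-ζ) = - -ζ := by rw [map_neg, hζ]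
  -- transvections with centre in `W` lie in `K`
  have hKmem : ∀ a : V, a ∈ Wsub B v v' → ∀ c : F, σ c = -c → utv B a c ∈ Kv B v v' := by
    intro a ha c hc
    exact ⟨utv_mem_SUg hB a hc, utv_fix B a c (herm_eq_zero hB ha.1),
      utv_fix B a c (herm_eq_zero hB ha.2)⟩
  -- `ρ k w = k w` for `k ∈ K`
  have hρ : ∀ k : ↥(SUg B), (k : V ≃ₗ[F] V) ∈ Kv B v v' → ∀ w : ↥(Wsub B v v'),
      (((udat hσ hB h).ρ k w : ↥(Wsub B v v')) : V) = (k : V ≃ₗ[F] V) (w : V) := by
    intro k hk w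
    have h1 := ρ_of_mem hσ hB h (Kv_le_Lv B v v' hk) (lam := 1) (by rw [hk.2.1, one_smul]) w
    rw [h1, map_one, one_smul]
  -- same coset of `E` ⇒ same point
  have hcoset : ∀ k k' : ↥(SUg B), k⁻¹ * k' ∈ E →
      ∃ a : F, a • (k : V ≃ₗ[F] V) (u : V) = (k' : V ≃ₗ[F] V) (u : V) := by
    intro k k' he
    obtain ⟨c, hc⟩ := hE _ he
    rw [hρ _ ((mem_K hσ hB h).mp (hEK he))] at hc
    refine ⟨c, ?_⟩
    have h1 : (k' : V ≃ₗ[F] V) (u : V) = (k : V ≃ₗ[F] V) (((k⁻¹ * k' : ↥(SUg B)) : V ≃ₗ[F] V) (u : V)) := by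
      rw [← LinearEquiv.mul_apply, ← Subgroup.coe_mul, mul_inv_cancel_left]
    rw [h1, hc, map_smul]
  -- the representatives
  let g : Option {c : F // σ c = -c} → ↥(udat hσ hB h).K := fun o =>
    match o with
    | some c => ⟨⟨utv B u' c.1, utv_mem_SUg hB u' c.2⟩,
        (mem_K hσ hB h).mpr (hKmem u' hu'W c.1 c.2)⟩
    | none => ⟨⟨utv B (u : V) (-ζ) * utv B u' ζ⁻¹,
        (SUg B).mul_mem (utv_mem_SUg hB (u : V) hζn) (utv_mem_SUg hB u' hζi)⟩,
        (mem_K hσ hB h).mpr ((Kv B v v').mul_mem (hKmem (u : V) u.2 (-ζ) hζn)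
          (hKmem u' hu'W ζ⁻¹ hζi))⟩
  have hgs : ∀ c : {c : F // σ c = -c},
      (((g (some c) : ↥(udat hσ hB h).K) : ↥(SUg B)) : V ≃ₗ[F] V) (u : V) = (u : V) + c.1 • u' := by
    intro c
    show utv B u' c.1 (u : V) = _
    rw [utv_apply B hu'u', huu', mul_one]
  have hgn : (((g none : ↥(udat hσ hB h).K) : ↥(SUg B)) : V ≃ₗ[F] V) (u : V) = ζ⁻¹ • u' := by
    show (utv B (u : V) (-ζ) * utv B u' ζ⁻¹) (u : V) = _
    rw [LinearEquiv.mul_apply, utv_apply B hu'u', huu', mul_one, utv_apply B huu]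
    simp only [map_add, map_smul, LinearMap.add_apply, LinearMap.smul_apply, smul_eq_mul, huu, hu'u]
    rw [zero_add, mul_one, neg_mul, mul_inv_cancel₀ hζ0]
    module
  have hinj : Function.Injective
      (fun o => (QuotientGroup.mk (g o) : ↥(udat hσ hB h).K ⧸ E.subgroupOf (udat hσ hB h).K)) := by
    intro o o' hoo
    have h1 : (g o)⁻¹ * g o' ∈ E.subgroupOf (udat hσ hB h).K := QuotientGroup.eq.mp hoo
    rw [Subgroup.mem_subgroupOf] at h1
    obtain ⟨a, ha⟩ := hcoset _ _ (by simpa using h1)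
    rcases o with _ | c <;> rcases o' with _ | d
    · rfl
    · exfalso
      rw [hgn, hgs] at ha
      have h2 := congrArg (fun x => B x u') ha
      simp only [map_add, map_smul, LinearMap.add_apply, LinearMap.smul_apply, smul_eq_mul, hu'u',
        huu', mul_zero, add_zero] at h2
      exact zero_ne_one h2
    · exfalso
      rw [hgn, hgs] at ha
      have h2 := congrArg (fun x => B x u') ha
      simp only [map_add, map_smul, LinearMap.add_apply, LinearMap.smul_apply, smul_eq_mul, hu'u',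
        huu', mul_zero, add_zero, mul_one] at h2
      have h3 := congrArg (fun x => B x (u : V)) ha
      simp only [map_add, map_smul, LinearMap.add_apply, LinearMap.smul_apply, smul_eq_mul, hu'u,
        huu, mul_one, h2, zero_mul] at h3
      exact inv_ne_zero hζ0 h3.symm
    · rw [hgs, hgs] at ha
      have h2 := congrArg (fun x => B x u') ha
      simp only [map_add, map_smul, LinearMap.add_apply, LinearMap.smul_apply, smul_eq_mul, hu'u',
        huu', mul_zero, add_zero, mul_one] at h2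
      have h3 := congrArg (fun x => B x (u : V)) ha
      simp only [map_add, map_smul, LinearMap.add_apply, LinearMap.smul_apply, smul_eq_mul, hu'u,
        huu, mul_one, h2, zero_add, one_mul] at h3
      exact congrArg some (Subtype.ext h3)
  have hcard := Nat.card_le_card_of_injective _ hinj
  rw [Finite.card_option, Cfsg.Agent.Lib.Helper95_UQ_FLD.card_skew hσ hF] at hcard
  exact hcard

end Cfsg.Agent.Lib.Helper55_UQ_HPBOREL
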