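import Mathlib
import Cfsg.Agent.Lib.Helper50_UQAbsDefs
import Cfsg.Agent.Lib.Helper94_UQInst
import Cfsg.Agent.Lib.Helper27_UQ_CARD

set_option autoImplicit false
set_option linter.unusedVariables false
set_option linter.unusedSimpArgs false
set_option linter.unusedSectionVars false

/-!
# S2152 part B (architect helper50), package UQ-GAMMAODD:
an all-isotropic non-collinear additive subgroup `I` of the hyperbolic plane with `β(I,I) ⊆ Y`
has `|I| ≤ |Y|^2` (characteristic not two).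
-/

open Cfsg.Agent.Lib.Helper50_UQAbsDefs

open Module Cfsg.Agent.Lib.Helper94_Symp Cfsg.Agent.Lib.Helper94_Herm
  Cfsg.Agent.Lib.Helper13_SUGen Cfsg.Agent.Lib.Helper13_PSUSimple Cfsg.Agent.Lib.Helper14_PSULocal1
  Cfsg.Agent.Lib.Helper27_UQDefs Cfsg.Agent.Lib.Helper94_UQInst

namespace Cfsg.Agent.Lib.Helper58_UQ_GAMMAODD

variable {F V : Type*} [Field F] [AddCommGroup V] [Module F V] {σ : F →+* F}
  {B : V →ₗ[F] V →ₛₗ[σ] F}

/-- In the hyperbolic plane `W`, the perp of a nonzero isotropic `u` is the line `⟨u⟩`. -/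
theorem perp_iso_plane [FiniteDimensional F V] (hB : IsHerm B)
    (hN : NondegOn B ⊤) {v v' : V} (h : HypPair B v v') (h4 : finrank F V = 4)
    (u d : ↥(Wsub B v v')) (hu : u ≠ 0) (huu : B (u : V) (u : V) = 0)
    (hdu : B (d : V) (u : V) = 0) : ∃ c : F, d = c • u := by
  have hfr : finrank F ↥(Wsub B v v') = 2 := by
    have := Cfsg.Agent.Lib.Helper27_UQ_CARD.finrank_Wsub (B := B) h
    omega
  -- the functional `x ↦ B x u` on `W`
  let f : ↥(Wsub B v v') →ₗ[F] F :=
    { toFun := fun x => B (x : V) (u : V)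
      map_add' := by
        intro x y
        show B ((x + y : ↥(Wsub B v v')) : V) (u : V) = _
        rw [Submodule.coe_add, map_add, LinearMap.add_apply]
      map_smul' := by
        intro c x
        show B ((c • x : ↥(Wsub B v v')) : V) (u : V) = _
        rw [Submodule.coe_smul, map_smul, LinearMap.smul_apply]
        rfl }
  have hf : ∀ x : ↥(Wsub B v v'), f x = B (x : V) (u : V) := fun x => rfl
  -- `f` is onto
  have hW : NondegOn B (Wsub B v v') := by
    rw [Wsub_eq_Wp]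
    exact nondegOn_Wp hB hN h
  have hu0 : (u : V) ≠ 0 := fun h0 => hu (Subtype.ext h0)
  obtain ⟨t, ht, hut⟩ := hW (u : V) u.2 hu0
  have htu : B t (u : V) ≠ 0 := by
    rw [hB (u : V) t]
    exact (map_ne_zero σ).mpr hut
  have hsurj : Function.Surjective f := by
    intro a
    refine ⟨(a / B t (u : V)) • (⟨t, ht⟩ : ↥(Wsub B v v')), ?_⟩
    rw [map_smul, hf, smul_eq_mul]
    exact div_mul_cancel₀ a htu
  have hker : finrank F ↥(LinearMap.ker f) = 1 := by
    have h1 := LinearMap.finrank_range_add_finrank_ker f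
    rw [LinearMap.range_eq_top.mpr hsurj, finrank_top, Module.finrank_self, hfr] at h1
    omega
  have hmem : u ∈ LinearMap.ker f := by
    rw [LinearMap.mem_ker, hf]
    exact huu
  have hdmem : d ∈ LinearMap.ker f := by
    rw [LinearMap.mem_ker, hf]
    exact hdu
  have hne : (⟨u, hmem⟩ : ↥(LinearMap.ker f)) ≠ 0 := by
    intro h0
    exact hu (congrArg Subtype.val h0)
  obtain ⟨c, hc⟩ := (finrank_eq_one_iff_of_nonzero' _ hne).mp hker ⟨d, hdmem⟩
  exact ⟨c, (congrArg Subtype.val hc).symm⟩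

theorem GAMMAODD [Finite F] [FiniteDimensional F V] (hσ : Invol σ) (hB : IsHerm B)
    (hN : NondegOn B ⊤) {v v' : V} (h : HypPair B v v') (h4 : finrank F V = 4)
    (h2 : (2 : F) ≠ 0) :
    ∀ (I : AddSubgroup ↥(Wsub B v v')) (Y : AddSubgroup ↥(skewA σ)),
      (∀ w ∈ I, B (w : V) (w : V) = 0) →
      (∃ u ∈ I, ∃ b ∈ I, u ≠ 0 ∧ ¬ ∃ c : F, (b : V) = c • (u : V)) →
      (∀ w ∈ I, ∀ w' ∈ I, (udat hσ hB h).β w w' ∈ Y) →
      Nat.card I ≤ Nat.card Y ^ 2 := by
  intro I Y hiso hex hβ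
  obtain ⟨u, huI, b, hbI, hu0, hcol⟩ := hex
  have hanti : ∀ w ∈ I, ∀ w' ∈ I, B (w' : V) (w : V) = - B (w : V) (w' : V) := by
    intro w hw w' hw'
    have h1 := hiso (w + w') (I.add_mem hw hw')
    have h3 := hiso w hw
    have h4 := hiso w' hw'
    rw [Submodule.coe_add] at h1
    simp only [map_add, LinearMap.add_apply] at h1
    rw [h3, h4] at h1
    linear_combination h1
  have hβ2 : ∀ w ∈ I, ∀ w' ∈ I,
      (((udat hσ hB h).β w w' : ↥(skewA σ)) : F) = 2 * B (w : V) (w' : V) := by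
    intro w hw w' hw'
    rw [β_coe, hanti w hw w' hw']
    ring
  have hub : B (u : V) (b : V) ≠ 0 := by
    intro h0
    apply hcol
    have h1 : B (b : V) (u : V) = 0 := by rw [hanti u huI b hbI, h0, neg_zero]
    obtain ⟨c, hc⟩ := perp_iso_plane hB hN h h4 u b hu0 (hiso u huI) h1
    exact ⟨c, by rw [hc]; rfl⟩
  let Φ : ↥I → ↥Y × ↥Y := fun w =>
    (⟨(udat hσ hB h).β w u, hβ w w.2 u huI⟩, ⟨(udat hσ hB h).β w b, hβ w w.2 b hbI⟩)
  have hinj : Function.Injective Φ := by
    intro w w' hww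
    have e1 : (udat hσ hB h).β w u = (udat hσ hB h).β w' u :=
      congrArg (fun p : ↥Y × ↥Y => (p.1 : ↥(skewA σ))) hww
    have e2 : (udat hσ hB h).β w b = (udat hσ hB h).β w' b :=
      congrArg (fun p : ↥Y × ↥Y => (p.2 : ↥(skewA σ))) hww
    have e1' : B ((w : ↥(Wsub B v v')) : V) (u : V) = B ((w' : ↥(Wsub B v v')) : V) (u : V) := by
      have h5 : (((udat hσ hB h).β w u : ↥(skewA σ)) : F) = (((udat hσ hB h).β w' u : ↥(skewA σ)) : F) := by
        rw [e1]
      rw [hβ2 w w.2 u huI, hβ2 w' w'.2 u huI] at h5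
      exact mul_left_cancel₀ h2 h5
    have e2' : B ((w : ↥(Wsub B v v')) : V) (b : V) = B ((w' : ↥(Wsub B v v')) : V) (b : V) := by
      have h5 : (((udat hσ hB h).β w b : ↥(skewA σ)) : F) = (((udat hσ hB h).β w' b : ↥(skewA σ)) : F) := by
        rw [e2]
      rw [hβ2 w w.2 b hbI, hβ2 w' w'.2 b hbI] at h5
      exact mul_left_cancel₀ h2 h5
    obtain ⟨d, hd⟩ : ∃ d : ↥(Wsub B v v'), d = (w : ↥(Wsub B v v')) - (w' : ↥(Wsub B v v')) :=
      ⟨_, rfl⟩
    have hdu : B (d : V) (u : V) = 0 := by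
      rw [hd, Submodule.coe_sub, map_sub, LinearMap.sub_apply, e1', sub_self]
    have hdb : B (d : V) (b : V) = 0 := by
      rw [hd, Submodule.coe_sub, map_sub, LinearMap.sub_apply, e2', sub_self]
    obtain ⟨c, hc⟩ := perp_iso_plane hB hN h h4 u d hu0 (hiso u huI) hdu
    have hc0 : c = 0 := by
      rw [hc, Submodule.coe_smul, map_smul, LinearMap.smul_apply, smul_eq_mul] at hdb
      rcases mul_eq_zero.mp hdb with h6 | h6
      · exact h6
      · exact absurd h6 hub
    have hd0 : d = 0 := by rw [hc, hc0, zero_smul]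
    rw [hd] at hd0
    exact Subtype.ext (sub_eq_zero.mp hd0)
  have hfin : Finite (↥Y × ↥Y) := inferInstance
  calc Nat.card I ≤ Nat.card (↥Y × ↥Y) := Nat.card_le_card_of_injective Φ hinj
    _ = Nat.card Y ^ 2 := by rw [Nat.card_prod, sq]

end Cfsg.Agent.Lib.Helper58_UQ_GAMMAODD
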