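import Mathlib
import Cfsg.Agent.S0283

set_option autoImplicit false

/-!
# Bridge for the unitary minimal-index rows (S2148, S2150 - S2153)

A lower bound for the index of proper subgroups of the abstract special unitary group
`SUg (hermB n σ hσq)` (stated with `relIndex` inside `V ≃ₗ[F] V`, or with `index` in the
subtype) gives the same lower bound for proper subgroups of `Cfsg.PSU n F q`.
-/

namespace Cfsg.Agent.Lib.Helper94_UQBridge

open Cfsg.Agent.Lib.Helper94_Herm Cfsg.Agent.Lib.Helper94_HermBridge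
  Cfsg.Agent.Lib.Helper13_PSUSimple

/-- index bounds pass to quotients -/
theorem quot_bound {G : Type*} [Group G] (Z : Subgroup G) [Z.Normal] (N : ℕ)
    (h : ∀ H : Subgroup G, H ≠ ⊤ → N ≤ H.index) :
    ∀ H : Subgroup (G ⧸ Z), H ≠ ⊤ → N ≤ H.index := by
  intro H hH
  have hsurj : Function.Surjective (QuotientGroup.mk' Z) := QuotientGroup.mk'_surjective Z
  have h1 : (H.comap (QuotientGroup.mk' Z)).index = H.index :=
    Subgroup.index_comap_of_surjective H hsurj
  have h2 : H.comap (QuotientGroup.mk' Z) ≠ ⊤ := by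
    intro htop
    apply hH
    have : H.comap (QuotientGroup.mk' Z) = (⊤ : Subgroup (G ⧸ Z)).comap (QuotientGroup.mk' Z) := by
      rw [htop, Subgroup.comap_top]
    exact Subgroup.comap_injective hsurj this
  rw [← h1]
  exact h _ h2

/-- index bounds pass along isomorphisms -/
theorem equiv_bound {G G' : Type*} [Group G] [Group G'] (e : G ≃* G') (N : ℕ)
    (h : ∀ H : Subgroup G', H ≠ ⊤ → N ≤ H.index) :
    ∀ H : Subgroup G, H ≠ ⊤ → N ≤ H.index := by
  intro H hH
  have h1 : (H.map e.toMonoidHom).index = H.index :=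
    Subgroup.index_map_of_bijective e.bijective H
  have h2 : H.map e.toMonoidHom ≠ ⊤ := by
    intro htop
    apply hH
    rw [eq_top_iff]
    intro x _
    have hx : e x ∈ H.map e.toMonoidHom := by rw [htop]; trivial
    obtain ⟨y, hy, hyx⟩ := hx
    have : y = x := e.injective hyx
    rw [← this]; exact hy
  rw [← h1]
  exact h _ h2

/-- from `relIndex` bounds in an ambient group to `index` bounds in the subtype -/
theorem subtype_bound {G : Type*} [Group G] (S : Subgroup G) (N : ℕ)
    (h : ∀ H : Subgroup G, H ≤ S → H ≠ S → N ≤ H.relIndex S) :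
    ∀ H : Subgroup ↥S, H ≠ ⊤ → N ≤ H.index := by
  intro H hH
  have hle : H.map S.subtype ≤ S := by
    rintro _ ⟨y, -, rfl⟩
    exact y.2
  have hsub : (H.map S.subtype).subgroupOf S = H := by
    ext x
    rw [Subgroup.mem_subgroupOf]
    constructor
    · rintro ⟨y, hy, hyx⟩
      have : y = x := Subtype.ext hyx
      rw [← this]; exact hy
    · intro hx
      exact ⟨x, hx, rfl⟩
  have hne : H.map S.subtype ≠ S := by
    intro heq
    apply hH
    rw [eq_top_iff]
    intro x _
    have hx : (x : G) ∈ H.map S.subtype := by rw [heq]; exact x.2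
    obtain ⟨y, hy, hyx⟩ := hx
    have : y = x := Subtype.ext hyx
    rw [← this]; exact hy
  have := h _ hle hne
  rw [Subgroup.relIndex, hsub] at this
  exact this

variable {F : Type*} [Field F] [Fintype F] {q : ℕ} {n : ℕ}

/-- **bridge**: a `relIndex` lower bound in `SUg (hermB n σ hσq)` gives the index lower bound in
`Cfsg.PSU n F q`. -/
theorem psu_bound (σ : F →+* F) (hσq : ∀ x, σ x = x ^ q) (N : ℕ)
    (h : ∀ H : Subgroup ((Fin n → F) ≃ₗ[F] (Fin n → F)), H ≤ SUg (hermB n σ hσq) →
      H ≠ SUg (hermB n σ hσq) → N ≤ H.relIndex (SUg (hermB n σ hσq))) :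
    ∀ H : Subgroup (Cfsg.PSU n F q), H ≠ ⊤ → N ≤ H.index :=
  quot_bound _ N (equiv_bound (Cfsg.Agent.S0283.suEquiv σ hσq) N
    (subtype_bound (SUg (hermB n σ hσq)) N h))

/-- the same with `index` in the subtype -/
theorem psu_bound' (σ : F →+* F) (hσq : ∀ x, σ x = x ^ q) (N : ℕ)
    (h : ∀ H : Subgroup ↥(SUg (hermB n σ hσq)), H ≠ ⊤ → N ≤ H.index) :
    ∀ H : Subgroup (Cfsg.PSU n F q), H ≠ ⊤ → N ≤ H.index :=
  quot_bound _ N (equiv_bound (Cfsg.Agent.S0283.suEquiv σ hσq) N h)

end Cfsg.Agent.Lib.Helper94_UQBridge
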