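import Mathlib
import Cfsg.Agent.Lib.Helper50_UQAbsDefs
import Cfsg.Agent.Lib.Helper94_UQInst
import Cfsg.Agent.Lib.Helper27_UQ_TOR2
import Cfsg.Agent.Lib.Helper27_UQ_CARD
import Cfsg.Agent.Lib.Helper27_UQ_GEN
import Cfsg.Agent.Lib.Helper27_UQ_KISO
import Cfsg.Agent.Lib.Helper50_UQNumDefs
import Cfsg.Agent.Lib.Helper44_HermOrtho
import Cfsg.Agent.Lib.Helper94_HermBridge
import Cfsg.Agent.Lib.Helper94_UQBridge
import Cfsg.Agent.Lib.Helper5_SUOrder
import Cfsg.Agent.Lib.Helper5_SpPerfect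
import Cfsg.Agent.S0283
import Cfsg.Agent.S0281
import Cfsg.Agent.S0806

set_option autoImplicit false

/-!
# UQ-HPBRIDGE (helper5; S2152 part B, architect helper50)

`dim V = 4`: `K = K_v ≅ SU(W) ≅ SU_2(q) ≅ SL_2(q)`, so `|K| = q (q^2 - 1)` and for
`q ∉ {2,3,5,7,9,11}` every proper subgroup of `K` has index at least `q + 1`.
-/

open Cfsg.Agent.Lib.Helper50_UQAbsDefs

open Module Cfsg.Agent.Lib.Helper94_Symp Cfsg.Agent.Lib.Helper94_Herm
  Cfsg.Agent.Lib.Helper13_SUGen Cfsg.Agent.Lib.Helper13_PSUSimple Cfsg.Agent.Lib.Helper14_PSULocal1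
  Cfsg.Agent.Lib.Helper27_UQDefs Cfsg.Agent.Lib.Helper94_UQInst

namespace Cfsg.Agent.Lib.Helper5_UQ_HPBRIDGE

variable {F V : Type*} [Field F] [AddCommGroup V] [Module F V] {σ : F →+* F}
  {B : V →ₗ[F] V →ₛₗ[σ] F}

section transfer

variable {V' : Type*} [AddCommGroup V'] [Module F V'] {B' : V' →ₗ[F] V' →ₛₗ[σ] F}

/-- conjugation by a linear equivalence, as a group isomorphism of the automorphism groups -/
def conjAut (φ : V ≃ₗ[F] V') : (V ≃ₗ[F] V) ≃* (V' ≃ₗ[F] V') where
  toFun g := (φ.symm.trans g).trans φ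
  invFun g := (φ.trans g).trans φ.symm
  left_inv g := by
    apply LinearEquiv.ext
    intro x
    simp
  right_inv g := by
    apply LinearEquiv.ext
    intro x
    simp
  map_mul' g g' := by
    apply LinearEquiv.ext
    intro x
    simp [LinearEquiv.mul_apply]

theorem conjAut_apply (φ : V ≃ₗ[F] V') (g : V ≃ₗ[F] V) (x : V') :
    conjAut φ g x = φ (g (φ.symm x)) := rfl

theorem conjAut_symm_apply (φ : V ≃ₗ[F] V') (g : V' ≃ₗ[F] V') (x : V) :
    (conjAut φ).symm g x = φ.symm (g (φ x)) := rfl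

/-- an isometry induces an isomorphism of the special unitary groups -/
theorem exists_sugEquiv (φ : V ≃ₗ[F] V') (hφ : ∀ x y, B' (φ x) (φ y) = B x y) :
    Nonempty (↥(SUg B) ≃* ↥(SUg B')) := by
  have hφ' : ∀ x y, B (φ.symm x) (φ.symm y) = B' x y := by
    intro x y
    rw [← hφ, LinearEquiv.apply_symm_apply, LinearEquiv.apply_symm_apply]
  have hmap : (SUg B).map (conjAut φ).toMonoidHom = SUg B' := by
    ext g
    constructor
    · rintro ⟨g₀, hg₀, rfl⟩
      obtain ⟨h1, h2⟩ := mem_SUg.mp hg₀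
      refine mem_SUg.mpr ⟨?_, ?_⟩
      · intro x y
        show B' (conjAut φ g₀ x) (conjAut φ g₀ y) = _
        rw [conjAut_apply, conjAut_apply, hφ, h1, hφ']
      · show LinearEquiv.det ((φ.symm.trans g₀).trans φ) = 1
        rw [LinearEquiv.det_conj, h2]
    · intro hg
      obtain ⟨h1, h2⟩ := mem_SUg.mp hg
      refine ⟨(conjAut φ).symm g, mem_SUg.mpr ⟨?_, ?_⟩, ?_⟩
      · intro x y
        rw [conjAut_symm_apply, conjAut_symm_apply, hφ', h1, hφ]
      · show LinearEquiv.det ((φ.trans g).trans φ.symm) = 1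
        have := LinearEquiv.det_conj g φ.symm
        rw [LinearEquiv.symm_symm] at this
        rw [this, h2]
      · exact (conjAut φ).apply_symm_apply g
  exact ⟨((conjAut φ).subgroupMap (SUg B)).trans (MulEquiv.subgroupCongr hmap)⟩

end transfer

section ortho

open Cfsg.Agent.Lib.Helper94_HermBridge Cfsg.Agent.Lib.Helper27_UQ_KISO

/-- the form on a linear combination of an orthonormal family -/
theorem B_lincomb {k : ℕ} (w : Fin k → V)
    (hw : ∀ i j, B (w i) (w j) = if i = j then 1 else 0) (c d : Fin k → F) :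
    B (∑ i, c i • w i) (∑ j, d j • w j) = ∑ i, c i * σ (d i) := by
  have h1 : ∀ x : V, B x (∑ j, d j • w j) = ∑ j, σ (d j) * B x (w j) := by
    intro x
    rw [map_sum]
    apply Finset.sum_congr rfl
    intro j _
    rw [map_smulₛₗ, smul_eq_mul]
  have h2 : ∀ y : V, B (∑ i, c i • w i) y = ∑ i, c i * B (w i) y := by
    intro y
    rw [map_sum, LinearMap.sum_apply]
    apply Finset.sum_congr rfl
    intro i _
    rw [map_smul, LinearMap.smul_apply, smul_eq_mul]
  rw [h2]
  apply Finset.sum_congr rfl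
  intro i _
  rw [h1]
  congr 1
  rw [Finset.sum_eq_single i]
  · rw [hw, if_pos rfl, mul_one]
  · intro j _ hji
    rw [hw, if_neg (Ne.symm hji), mul_zero]
  · intro h
    exact absurd (Finset.mem_univ i) h

/-- a nondegenerate hermitian space of dimension `k` over the field with `q^2` elements is isometric to the
standard one, so its special unitary group is the standard one -/
theorem exists_sug_std [Fintype F] [FiniteDimensional F V] (hσ : Invol σ) (hB : IsHerm B) {q : ℕ}
    (hσq : ∀ x, σ x = x ^ q) (U : Submodule F V) (hU : NondegOn B U) (k : ℕ)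
    (hk : finrank F U = k) :
    Nonempty (↥(SUg (hermB k σ hσq)) ≃* ↥(SUg (Bw B U))) := by
  obtain ⟨w, hwU, hw⟩ := Cfsg.Agent.Lib.Helper44_HermOrtho.exists_orthonormal hσ hB k U hU hk
  have hmem : ∀ c : Fin k → F, Fintype.linearCombination F w c ∈ U := by
    intro c
    rw [Fintype.linearCombination_apply]
    exact U.sum_mem (fun i _ => U.smul_mem _ (hwU i))
  let ψ : (Fin k → F) →ₗ[F] ↥U := LinearMap.codRestrict U (Fintype.linearCombination F w) hmem
  have hψ : ∀ c d, Bw B U (ψ c) (ψ d) = hermB k σ hσq c d := by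
    intro c d
    rw [Bw_apply, hermB_apply]
    show B (Fintype.linearCombination F w c) (Fintype.linearCombination F w d) = _
    rw [Fintype.linearCombination_apply, Fintype.linearCombination_apply, B_lincomb w hw]
    simp only [Cfsg.hermForm, hσq]
  have hinj : Function.Injective ψ := by
    rw [← LinearMap.ker_eq_bot, LinearMap.ker_eq_bot']
    intro c hc
    by_contra hc0
    obtain ⟨d, -, hd⟩ := hermB_nondeg (n := k) σ hσq c trivial hc0
    apply hd
    rw [← hψ, hc, map_zero, LinearMap.zero_apply]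
  have hfr : finrank F (Fin k → F) = finrank F ↥U := by rw [Module.finrank_fin_fun, hk]
  exact exists_sugEquiv (LinearEquiv.ofInjectiveOfFinrankEq ψ hinj hfr) (fun x y => hψ x y)

end ortho

section sl2

open scoped commutatorElement

theorem comm_mul_center {G : Type*} [Group G] (a b z : G) (hz : z ∈ Subgroup.center G) :
    ⁅a * z, b⁆ = ⁅a, b⁆ := by
  rw [commutatorElement_def, commutatorElement_def, mul_inv_rev]
  have hzb : z * b * z⁻¹ = b := by
    rw [← (Subgroup.mem_center_iff.mp hz b), mul_inv_cancel_right]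
  calc a * z * b * (z⁻¹ * a⁻¹) * b⁻¹ = a * (z * b * z⁻¹) * a⁻¹ * b⁻¹ := by group
    _ = a * b * a⁻¹ * b⁻¹ := by rw [hzb]

/-- a subgroup of a perfect group covering the central quotient is everything -/
theorem eq_top_of_map_mk_eq_top {G : Type*} [Group G] (hperf : commutator G = ⊤)
    (E : Subgroup G)
    (hE : E.map (QuotientGroup.mk' (Subgroup.center G)) = ⊤) : E = ⊤ := by
  have hdec : ∀ a : G, ∃ e ∈ E, ∃ z ∈ Subgroup.center G, a = e * z := by
    intro a
    have ha : QuotientGroup.mk' (Subgroup.center G) a ∈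
        E.map (QuotientGroup.mk' (Subgroup.center G)) := by rw [hE]; trivial
    obtain ⟨e, he, hea⟩ := ha
    refine ⟨e, he, e⁻¹ * a, ?_, by group⟩
    exact QuotientGroup.eq.mp hea
  have key : ∀ a b : G, ⁅a, b⁆ ∈ E := by
    intro a b
    obtain ⟨e₁, he₁, z₁, hz₁, rfl⟩ := hdec a
    obtain ⟨e₂, he₂, z₂, hz₂, rfl⟩ := hdec b
    have h1 : ⁅e₁ * z₁, e₂ * z₂⁆ = ⁅e₁, e₂⁆ := by
      rw [comm_mul_center _ _ _ hz₁, ← commutatorElement_inv, comm_mul_center _ _ _ hz₂,
        commutatorElement_inv]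
    rw [h1, commutatorElement_def]
    exact E.mul_mem (E.mul_mem (E.mul_mem he₁ he₂) (E.inv_mem he₁)) (E.inv_mem he₂)
  rw [eq_top_iff, ← hperf, commutator_eq_closure, Subgroup.closure_le]
  rintro g ⟨a, b, rfl⟩
  exact key a b

/-- proper subgroups of `SL_2(q)`, `q ∉ {2,3,5,7,9,11}`, have index at least `q + 1` -/
theorem sl2_bound {K' : Type*} [Field K'] [Fintype K'] {q : ℕ} (hK : Fintype.card K' = q)
    (hq : q ∉ ({2, 3, 5, 7, 9, 11} : Finset ℕ)) :
    ∀ E : Subgroup (Matrix.SpecialLinearGroup (Fin 2) K'), E ≠ ⊤ → q + 1 ≤ E.index := by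
  intro E hE
  have h4 : 4 ≤ Fintype.card K' := by
    have h2 : 1 < Fintype.card K' := Fintype.one_lt_card
    rw [hK] at h2 ⊢
    simp only [Finset.mem_insert, Finset.mem_singleton, not_or] at hq
    omega
  obtain ⟨a, ha, hasq⟩ := Cfsg.Agent.Lib.Helper5_SpPerfect.exists_sq_ne_one (F := K') h4
  have hperf : commutator (Matrix.SpecialLinearGroup (Fin 2) K') = ⊤ :=
    Matrix.SL2.commutator_eq_top ha hasq
  have hne : E.map (QuotientGroup.mk' (Subgroup.center (Matrix.SpecialLinearGroup (Fin 2) K')))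
      ≠ ⊤ := fun htop => hE (eq_top_of_map_mk_eq_top hperf E htop)
  have h1 := (Cfsg.Agent.S0806.result hK hq).1 _ hne
  have h2 : (E.map (QuotientGroup.mk'
      (Subgroup.center (Matrix.SpecialLinearGroup (Fin 2) K')))).index ∣ E.index :=
    Subgroup.index_map_dvd E (QuotientGroup.mk'_surjective _)
  have h3 : E.index ≠ 0 := Subgroup.index_ne_zero_of_finite
  exact h1.trans (Nat.le_of_dvd (Nat.pos_of_ne_zero h3) h2)

end sl2

section main

open Cfsg.Agent.Lib.Helper94_HermBridge Cfsg.Agent.Lib.Helper27_UQ_KISO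

/-- a field with `q` elements exists when a field with `q ^ 2` elements does -/
theorem exists_field_card [Fintype F] {q : ℕ} (hF : Fintype.card F = q ^ 2) :
    ∃ (K' : Type) (_ : Field K') (_ : Fintype K'), Fintype.card K' = q := by
  obtain ⟨p, hchar⟩ := CharP.exists F
  obtain ⟨e, hp, he⟩ := FiniteField.card F p
  have hdvd : q ∣ p ^ (e : ℕ) := by
    rw [← he, hF]
    exact dvd_pow_self q two_ne_zero
  obtain ⟨k, -, hk⟩ := (Nat.dvd_prime_pow hp).mp hdvd
  have hq2 : 2 ≤ q := by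
    have h1 : 1 < Fintype.card F := Fintype.one_lt_card
    rw [hF] at h1
    by_contra hlt
    push Not at hlt
    interval_cases q <;> simp at h1
  have hk0 : k ≠ 0 := by
    rintro rfl
    rw [pow_zero] at hk
    omega
  have : Fact p.Prime := ⟨hp⟩
  let _ : Fintype (GaloisField p k) := Fintype.ofFinite _
  refine ⟨GaloisField p k, inferInstance, inferInstance, ?_⟩
  rw [← Nat.card_eq_fintype_card, GaloisField.card p k hk0, hk]

/-- the chain of isomorphisms `K ≃* SL_2(q)` -/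
theorem exists_K_equiv [Fintype F] [FiniteDimensional F V] (hσ : Invol σ) (hB : IsHerm B)
    (hN : NondegOn B ⊤) {q : ℕ} (hσq : ∀ x, σ x = x ^ q)
    {v v' : V} (h : HypPair B v v') (h4 : finrank F V = 4) :
    Nonempty (↥(udat hσ hB h).K ≃* ↥(Cfsg.SU 2 F q)) := by
  have hW2 : finrank F ↥(Wsub B v v') = 2 := by
    have := Cfsg.Agent.Lib.Helper27_UQ_CARD.finrank_Wsub h
    omega
  have hWN : NondegOn B (Wsub B v v') := by
    rw [Wsub_eq_Wp]
    exact nondegOn_Wp hB hN h
  obtain ⟨e1⟩ := exists_sug_std hσ hB hσq (Wsub B v v') hWN 2 hW2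
  obtain ⟨e2, -⟩ := exists_KvEquiv hB h
  have hle : Kv B v v' ≤ SUg B := fun g hg => hg.1
  have e3 : ↥(udat hσ hB h).K ≃* ↥(Kv B v v') := Subgroup.subgroupOfEquivOfLe hle
  have e4 : ↥(Cfsg.SU 2 F q) ≃* ↥(SUg (hermB 2 σ hσq)) := Cfsg.Agent.S0283.suEquiv σ hσq
  exact ⟨e3.trans (e2.trans (e1.symm.trans e4.symm))⟩

theorem HPBRIDGE [Fintype F] [FiniteDimensional F V] (hσ : Invol σ) (hB : IsHerm B)
    (hN : NondegOn B ⊤) {q : ℕ} (hF : Fintype.card F = q ^ 2) (hσq : ∀ x, σ x = x ^ q)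
    {v v' : V} (h : HypPair B v v') (h4 : finrank F V = 4) :
    Nat.card (udat hσ hB h).K = q * (q ^ 2 - 1) ∧
    (q ∉ ({2, 3, 5, 7, 9, 11} : Finset ℕ) →
      ∀ E : Subgroup ↥(SUg B), E ≤ (udat hσ hB h).K → E ≠ (udat hσ hB h).K →
        q + 1 ≤ E.relIndex (udat hσ hB h).K) := by
  obtain ⟨eK⟩ := exists_K_equiv hσ hB hN hσq h h4
  refine ⟨?_, ?_⟩
  · rw [Nat.card_congr eK.toEquiv]
    have h1 := Cfsg.Agent.Lib.Helper5_SUOrder.card_SU hF 2 (by norm_num)
    have h2 : q ^ (2 * (2 - 1) / 2) * ∏ i ∈ Finset.range 2,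
        (if Even i then q ^ (i + 1) + 1 else q ^ (i + 1) - 1) =
        (q + 1) * (q * (q ^ 2 - 1)) := by
      rw [Finset.prod_range_succ, Finset.prod_range_one]
      norm_num
      ring
    rw [h2] at h1
    exact Nat.eq_of_mul_eq_mul_left (Nat.succ_pos q) h1
  · intro hq E hEK hne
    obtain ⟨K', _, _, hK'⟩ := exists_field_card hF
    obtain ⟨eS⟩ := Cfsg.Agent.S0281.result (F := F) (K := K') hF hK'
    have hb := Cfsg.Agent.Lib.Helper94_UQBridge.equiv_bound (eK.trans eS) (q + 1)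
      (sl2_bound hK' hq)
    have hne' : E.subgroupOf (udat hσ hB h).K ≠ ⊤ := by
      intro htop
      exact hne (le_antisymm hEK (Subgroup.subgroupOf_eq_top.mp htop))
    exact hb _ hne'

end main

end Cfsg.Agent.Lib.Helper5_UQ_HPBRIDGE
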