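import Mathlib
import Cfsg.Agent.Lib.Helper50_UQAbsDefs
import Cfsg.Agent.Lib.Helper94_UQInst
import Cfsg.Agent.Lib.Helper27_UQ_HYP
import Cfsg.Agent.Lib.Helper27_UQ_CARD
import Cfsg.Agent.Lib.Helper27_UQ_GEN
import Cfsg.Agent.Lib.Helper27_UQ_GEO3
import Cfsg.Agent.Lib.Helper95_UQ_FLD
import Cfsg.Agent.Lib.Helper9_S2151_CNT
import Cfsg.Agent.Lib.Helper11_UQ_TOR2EVEN
import Cfsg.Agent.Lib.Helper5_UQ_HPBRIDGE
import Cfsg.Agent.Lib.Helper42_UQ_HPSTAB
import Cfsg.Agent.Lib.Helper42_UQ_NORM1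
import Cfsg.Agent.Lib.Helper3_UQ_W4CORE
import Cfsg.Agent.Lib.Helper58_UQ_GAMMAODD
import Cfsg.Agent.Lib.Helper55_UQ_HPBOREL
import Cfsg.Agent.Lib.Helper26_UQ_HPFREE
import Cfsg.Agent.Lib.Helper91_UQ_FROB

set_option autoImplicit false

/-!
# S2152: the base of the induction, `μ(SU_4(q)) ≥ (q+1) q^3` for all `q ≥ 3` (helper50)

Assembly of `W4core` (abstract orbit count) with the hermitian-geometry packages for the hyperbolic plane.
-/

open Cfsg.Agent.Lib.Helper50_UQAbsDefs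

namespace Cfsg.Agent.Lib.Helper50_UQW4


open Module Cfsg.Agent.Lib.Helper94_Symp Cfsg.Agent.Lib.Helper94_Herm
  Cfsg.Agent.Lib.Helper13_SUGen Cfsg.Agent.Lib.Helper13_PSUSimple Cfsg.Agent.Lib.Helper14_PSULocal1
  Cfsg.Agent.Lib.Helper27_UQDefs Cfsg.Agent.Lib.Helper94_UQInst

variable {F V : Type*} [Field F] [AddCommGroup V] [Module F V] {σ : F →+* F}
  {B : V →ₗ[F] V →ₛₗ[σ] F}

/-- in a field with `q^2` elements, `2 = 0` iff `q` is even -/
theorem two_eq_zero_iff_even [Finite F] {q : ℕ} (hF : Nat.card F = q ^ 2) :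
    (2 : F) = 0 ↔ Even q := by
  have _ : Fintype F := Fintype.ofFinite F
  obtain ⟨p, hp⟩ := CharP.exists F
  obtain ⟨n, hpp, hcard⟩ := FiniteField.card F p
  rw [← Nat.card_eq_fintype_card, hF] at hcard
  have h2 : (2 : F) = 0 ↔ p = 2 := by
    have h := CharP.cast_eq_zero_iff F p 2
    rw [Nat.cast_ofNat] at h
    rw [h]
    constructor
    · intro hd
      exact ((Nat.prime_dvd_prime_iff_eq hpp Nat.prime_two).mp hd)
    · rintro rfl
      exact dvd_rfl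
  rw [h2]
  constructor
  · rintro rfl
    have h3 : 2 ∣ q ^ 2 := by
      rw [hcard]
      exact dvd_pow_self 2 n.ne_zero
    exact even_iff_two_dvd.mpr (Nat.Prime.dvd_of_dvd_pow Nat.prime_two h3)
  · intro he
    have h3 : 2 ∣ p ^ (n : ℕ) := by
      rw [← hcard]
      exact dvd_pow (even_iff_two_dvd.mp he) (by norm_num)
    exact ((Nat.prime_dvd_prime_iff_eq Nat.prime_two hpp).mp
      (Nat.Prime.dvd_of_dvd_pow Nat.prime_two h3)).symm

/-- **W4**: every proper subgroup of `SU_4(q)`, `q ≥ 3`, has index at least `(q+1) q^3`. -/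
theorem W4 [Finite F] [FiniteDimensional F V] (hσ : Invol σ) (hB : IsHerm B)
    (hN : NondegOn B ⊤) {q : ℕ} (hF : Nat.card F = q ^ 2) (hq3 : 3 ≤ q)
    (h4 : finrank F V = 4) :
    ∀ H : Subgroup ↥(SUg B), H ≠ ⊤ → (q + 1) * q ^ 3 ≤ H.index := by
  intro H hH
  have hV : Finite V := Module.finite_of_finite F
  have hfin : Finite ↥(SUg B) := by
    have : Finite (V ≃ₗ[F] V) := Finite.of_injective (fun e => (e : V → V)) DFunLike.coe_injective
    exact Subtype.finite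
  obtain ⟨v, v', h⟩ := Cfsg.Agent.Lib.Helper9_S2151_CNT.exists_hypPair B hσ hB hN (by omega)
  have hD := udat_ok hσ hB hN h
  have hW2 : finrank F ↥(Wsub B v v') = 2 := by
    have := Cfsg.Agent.Lib.Helper27_UQ_CARD.finrank_Wsub h
    omega
  have hcardW : Nat.card ↥(Wsub B v v') = q ^ 4 := by
    rw [Cfsg.Agent.Lib.Helper27_UQ_CARD.card_Wsub hF h, h4]
  have hAcard : Nat.card ↥(skewA σ) = q := Cfsg.Agent.Lib.Helper95_UQ_FLD.card_skew hσ hF
  have hFinA : Finite ↥(skewA σ) := Subtype.finite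
  -- a coset moved by the root group
  have hHV : ¬ SUg B ≤ H.map (SUg B).subtype := by
    intro hle
    apply hH
    rw [eq_top_iff]
    intro g _
    obtain ⟨g', hg', hgg'⟩ := Subgroup.mem_map.mp (hle g.2)
    have : g' = g := Subtype.ext hgg'
    rwa [this] at hg'
  obtain ⟨u, hu0, hu, g, hgX, hgH⟩ :=
    Cfsg.Agent.Lib.Helper27_UQ_GEO3.exists_Xv_not_le hσ hB hN (by omega) hHV
  obtain ⟨g0, hg0, hg0v⟩ := Cfsg.Agent.Lib.Helper27_UQ_GEN.SUg_trans_iso hσ hB hN (by omega)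
    (Cfsg.Agent.Lib.Helper27_UQ_CARD.hyp_ne_zero h) hu0 h.ee hu
  have hg0U : g0 ∈ uG B := (mem_SUg.mp hg0).1
  have hconj := Cfsg.Agent.Lib.Helper27_UQ_GEN.conj_Xv hg0U v
  rw [hg0v] at hconj
  rw [← hconj] at hgX
  obtain ⟨x, ⟨a, ha, rfl⟩, hxg⟩ := Subgroup.mem_map.mp hgX
  -- the moved point
  let G0 : ↥(SUg B) := ⟨g0, hg0⟩
  let aa : ↥(skewA σ) := ⟨a, ha⟩
  have hω : ∃ a', (udat hσ hB h).x a' • (G0⁻¹ • ((1 : ↥(SUg B)) : ↥(SUg B) ⧸ H)) ≠
      G0⁻¹ • ((1 : ↥(SUg B)) : ↥(SUg B) ⧸ H) := by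
    refine ⟨aa, ?_⟩
    intro hfix
    apply hgH
    have h1 : (G0 * (udat hσ hB h).x aa * G0⁻¹) • ((1 : ↥(SUg B)) : ↥(SUg B) ⧸ H) =
        ((1 : ↥(SUg B)) : ↥(SUg B) ⧸ H) := by
      rw [mul_smul, mul_smul, hfix, smul_inv_smul]
    have h2 : G0 * (udat hσ hB h).x aa * G0⁻¹ ∈ H := by
      have := (QuotientGroup.eq (s := H) (a := G0 * (udat hσ hB h).x aa * G0⁻¹) (b := 1)).mp (by
        have h3 := h1
        rw [MulAction.Quotient.smul_coe, smul_eq_mul, mul_one] at h3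
        exact h3)
      rw [mul_one] at this
      exact H.inv_mem_iff.mp this
    refine Subgroup.mem_map.mpr ⟨_, h2, ?_⟩
    rw [← hxg]
    rfl
  -- geometric packages
  have hfrob := Cfsg.Agent.Lib.Helper91_UQ_FROB.FROB hσ hF
  have _ : Fintype F := Fintype.ofFinite F
  have hFq : Fintype.card F = q ^ 2 := by rw [← Nat.card_eq_fintype_card]; exact hF
  obtain ⟨hKcard, hμK⟩ := Cfsg.Agent.Lib.Helper5_UQ_HPBRIDGE.HPBRIDGE hσ hB hN hFq hfrob h h4
  obtain ⟨hnm, hfree⟩ := Cfsg.Agent.Lib.Helper26_UQ_HPFREE.HPFREE hσ hB hN h h4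
  have hstab := Cfsg.Agent.Lib.Helper42_UQ_HPSTAB.HPSTAB hσ hB hN hF h h4
  have hborel := Cfsg.Agent.Lib.Helper55_UQ_HPBOREL.HPBOREL hσ hB hN hF h h4
  have htorus := Cfsg.Agent.Lib.Helper27_UQ_HYP.htorus_udat hσ hB hN hF h (by omega)
  have h2iff := two_eq_zero_iff_even (F := F) hF
  have key := Cfsg.Agent.Lib.Helper3_UQ_W4CORE.W4core (udat hσ hB h) hD (fun w : ↥(Wsub B v v') => B (w : V) (w : V))
    (fun w u : ↥(Wsub B v v') => ∃ c : F, (w : V) = c • (u : V)) q hq3 hAcard hcardW hKcard htorus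
    hnm hfree hstab ?_ hborel ?_ ?_ ?_ (G0⁻¹ • ((1 : ↥(SUg B)) : ↥(SUg B) ⧸ H)) hω
  · rw [Subgroup.index_eq_card]
    exact key
  · -- hnorm1
    intro I hI
    obtain ⟨c, hc, hIc⟩ := hI
    have hle := Cfsg.Agent.Lib.Helper42_UQ_NORM1.NORM1 hB (I.map (Wsub B v v').subtype.toAddMonoidHom) c hc (by
      intro w hw hw0
      obtain ⟨w', hw', rfl⟩ := AddSubgroup.mem_map.mp hw
      have hw'0 : w' ≠ 0 := by
        intro h0
        apply hw0
        rw [h0]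
        simp
      exact hIc w' hw' hw'0)
    have hcard : Nat.card (I.map (Wsub B v v').subtype.toAddMonoidHom) = Nat.card I := by
      symm
      apply Nat.card_congr
      exact (I.equivMapOfInjective _ (Wsub B v v').injective_subtype).toEquiv
    rw [hcard] at hle
    exact hle
  · -- hγodd
    intro hodd
    have h2ne : (2 : F) ≠ 0 := by
      intro h2
      exact (Nat.not_even_iff_odd.mpr hodd) (h2iff.mp h2)
    exact Cfsg.Agent.Lib.Helper58_UQ_GAMMAODD.GAMMAODD hσ hB hN h h4 h2ne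
  · -- htorus2
    intro heven
    exact Cfsg.Agent.Lib.Helper11_UQ_TOR2EVEN.TOR2EVEN hσ hB hN hF h h4 (h2iff.mpr heven)
  · -- hμK
    intro hq
    apply hμK
    simp only [Finset.mem_insert, Finset.mem_singleton, not_or] at hq ⊢
    obtain ⟨a1, a2, a3, a4, a5⟩ := hq
    exact ⟨by omega, a1, a2, a3, a4, a5⟩

end Cfsg.Agent.Lib.Helper50_UQW4
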