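import Mathlib
import Cfsg.Agent.Lib.Helper94_UQInst
import Cfsg.Agent.Lib.Helper95_UQ_A1
import Cfsg.Agent.Lib.Helper95_UQ_FLD
import Cfsg.Agent.Lib.Helper27_U4_ICOORD

set_option autoImplicit false
set_option linter.unusedSectionVars false
set_option linter.unusedVariables false

/-!
# U4-EVENI (S2150 local side, architect helper27): in characteristic 2 an all-isotropic non-collinear additive
subgroup `I` of the hermitian plane `W` with `q^2` elements is the `Fix σ`-form on a hyperbolic pair.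
-/

open Module Cfsg.Agent.Lib.Helper94_Symp Cfsg.Agent.Lib.Helper94_Herm
  Cfsg.Agent.Lib.Helper94_HermEich Cfsg.Agent.Lib.Helper94_HermPara
  Cfsg.Agent.Lib.Helper94_HermTrans
  Cfsg.Agent.Lib.Helper13_SUGen Cfsg.Agent.Lib.Helper13_PSUSimple
  Cfsg.Agent.Lib.Helper46_U3TI Cfsg.Agent.Lib.Helper14_PSULocal1
  Cfsg.Agent.Lib.Helper27_UQDefs Cfsg.Agent.Lib.Helper50_UQAbsDefs
  Cfsg.Agent.Lib.Helper94_UQInst

namespace Cfsg.Agent.Lib.Helper91_U4_EVENI

variable {F V : Type*} [Field F] [AddCommGroup V] [Module F V] {σ : F →+* F}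
variable {B : V →ₗ[F] V →ₛₗ[σ] F}

/-- coordinates with respect to two non-collinear vectors are unique -/
theorem coord_inj {M : Type*} [AddCommGroup M] [Module F M] {u b : M} (hu0 : u ≠ 0)
    (hnc : ¬ ∃ c : F, b = c • u) {x y x' y' : F} (h1 : x • u + y • b = x' • u + y' • b) :
    x = x' ∧ y = y' := by
  have h3 : (y - y') • b = (x' - x) • u := by
    rw [sub_smul, sub_smul, sub_eq_sub_iff_add_eq_add, add_comm (y • b)]
    exact h1
  have hyy : y = y' := by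
    by_contra hne
    have hne' : y - y' ≠ 0 := sub_ne_zero.mpr hne
    apply hnc
    refine ⟨(y - y')⁻¹ * (x' - x), ?_⟩
    rw [mul_smul, ← h3, smul_smul, inv_mul_cancel₀ hne', one_smul]
  have hxx : x = x' := by
    rw [hyy, sub_self, zero_smul] at h3
    rcases smul_eq_zero.mp h3.symm with h5 | h5
    · exact (sub_eq_zero.mp h5).symm
    · exact absurd h5 hu0
  exact ⟨hxx, hyy⟩

/-- non-collinearity in `V` gives non-collinearity in the submodule -/
theorem hnc_sub {U : Submodule F V} {u b : ↥U} (hnc : ¬ ∃ c : F, (b : V) = c • (u : V)) :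
    ¬ ∃ c : F, b = c • u := by
  rintro ⟨c, hc⟩
  exact hnc ⟨c, by rw [hc]; rfl⟩

/-- an all-isotropic non-collinear `I` with `q^2` elements is the full `Fix σ`-form on `u, b` -/
theorem mem_iff_coord [Finite F] [FiniteDimensional F V] (hσ : Invol σ) (hB : IsHerm B)
    (hN : NondegOn B ⊤) {q : ℕ} (hF : Nat.card F = q ^ 2) {v v' : V} (h : HypPair B v v')
    (h4 : finrank F V = 4)
    (I : AddSubgroup ↥(Wsub B v v'))
    (hIiso : ∀ w ∈ I, B (w : V) (w : V) = 0)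
    (u b : ↥(Wsub B v v')) (hu : u ∈ I) (hb : b ∈ I) (hu0 : u ≠ 0)
    (hnc : ¬ ∃ c : F, (b : V) = c • (u : V))
    (hI : Nat.card I = q ^ 2) :
    ∀ w, w ∈ I ↔ ∃ x y : F, σ x = x ∧ σ y = y ∧ w = x • u + y • b := by
  classical
  obtain ⟨hη0, hηs, hco⟩ :=
    Cfsg.Agent.Lib.Helper27_U4_ICOORD.ICOORD hσ hB hN h h4 I hIiso u b hu hb hu0 hnc
  have hnc' := hnc_sub hnc
  choose X Y hX hY hXY using hco
  let ψ : ↥I → {a : F // σ a = a} × {a : F // σ a = a} := fun w =>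
    (⟨X w.1 w.2, hX w.1 w.2⟩, ⟨Y w.1 w.2, hY w.1 w.2⟩)
  have hψ : Function.Injective ψ := by
    intro w w' hww
    have h1 : X w.1 w.2 = X w'.1 w'.2 := congrArg (fun p => (p.1 : F)) hww
    have h2 : Y w.1 w.2 = Y w'.1 w'.2 := congrArg (fun p => (p.2 : F)) hww
    apply Subtype.ext
    rw [hXY w.1 w.2, hXY w'.1 w'.2, h1, h2]
  have hfinV : Finite V := Module.finite_of_finite F
  have hcard : Nat.card ({a : F // σ a = a} × {a : F // σ a = a}) ≤ Nat.card ↥I := by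
    rw [Nat.card_prod, Cfsg.Agent.Lib.Helper95_UQ_FLD.card_fixed hσ hF, hI]
    exact le_of_eq (by ring)
  have hbij := hψ.bijective_of_nat_card_le hcard
  intro w
  constructor
  · intro hw
    exact ⟨X w hw, Y w hw, hX w hw, hY w hw, hXY w hw⟩
  · rintro ⟨x, y, hx, hy, hxy⟩
    obtain ⟨w', hw'⟩ := hbij.2 (⟨x, hx⟩, ⟨y, hy⟩)
    have h1 : X w'.1 w'.2 = x := congrArg (fun p => (p.1 : F)) hw'
    have h2 : Y w'.1 w'.2 = y := congrArg (fun p => (p.2 : F)) hw'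
    have h3 : (w' : ↥(Wsub B v v')) = w := by
      rw [hxy, hXY w'.1 w'.2, h1, h2]
    rw [← h3]
    exact w'.2

/-- **U4-EVENI.** -/
theorem EVENI [Finite F] [FiniteDimensional F V] (hσ : Invol σ) (hB : IsHerm B)
    (hN : NondegOn B ⊤) {q : ℕ} (hF : Nat.card F = q ^ 2) {v v' : V} (h : HypPair B v v')
    (h4 : finrank F V = 4) (h2 : (2 : F) = 0)
    (I : AddSubgroup ↥(Wsub B v v'))
    (hIiso : ∀ w ∈ I, B (w : V) (w : V) = 0)
    (hnc : ∃ u ∈ I, ∃ b ∈ I, u ≠ 0 ∧ ¬ ∃ c : F, (b : V) = c • (u : V))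
    (hI : Nat.card I = q ^ 2) :
    ∃ x y : ↥(Wsub B v v'), B (x : V) (x : V) = 0 ∧ B (y : V) (y : V) = 0 ∧
      B (x : V) (y : V) = 1 ∧
      ∀ w, w ∈ I ↔ ∃ a b : F, σ a = a ∧ σ b = b ∧ w = a • x + b • y := by
  obtain ⟨u, hu, b, hb, hu0, hnc'⟩ := hnc
  obtain ⟨hη0, hηs, -⟩ :=
    Cfsg.Agent.Lib.Helper27_U4_ICOORD.ICOORD hσ hB hN h h4 I hIiso u b hu hb hu0 hnc'
  have hmem := mem_iff_coord hσ hB hN hF h h4 I hIiso u b hu hb hu0 hnc' hI
  set η := B (u : V) (b : V) with hη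
  have hneg : ∀ a : F, -a = a := by
    intro a
    linear_combination (-a) * h2
  have hηf : σ η = η := by rw [hηs, hneg]
  refine ⟨u, η⁻¹ • b, hIiso u hu, ?_, ?_, ?_⟩
  · have hbb := hIiso b hb
    simp only [Submodule.coe_smul, map_smulₛₗ, LinearMap.smul_apply,
      smul_eq_mul, hbb, mul_zero]
  · rw [Submodule.coe_smul, map_smulₛₗ, ← hη, map_inv₀, hηf, smul_eq_mul, inv_mul_cancel₀ hη0]
  · intro w
    rw [hmem w]
    constructor
    · rintro ⟨x, y, hx, hy, hxy⟩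
      refine ⟨x, y * η, hx, ?_, ?_⟩
      · rw [map_mul, hy, hηf]
      · rw [hxy, smul_smul, mul_assoc, mul_inv_cancel₀ hη0, mul_one]
    · rintro ⟨a, c, ha, hc, hac⟩
      refine ⟨a, c * η⁻¹, ha, ?_, ?_⟩
      · rw [map_mul, map_inv₀, hc, hηf]
      · rw [hac, smul_smul]

end Cfsg.Agent.Lib.Helper91_U4_EVENI
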