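import Mathlib
import Cfsg.Agent.Lib.Helper94_UQInst
import Cfsg.Agent.Lib.Helper95_UQ_A1
import Cfsg.Agent.Lib.Helper95_UQ_FLD
import Cfsg.Agent.Lib.Helper25_UQ_A2
import Cfsg.Agent.Lib.Helper27_U4_ICOORD
import Cfsg.Agent.Lib.Helper91_U4_EVENI

set_option autoImplicit false
set_option linter.unusedSectionVars false
set_option linter.unusedVariables false

/-!
# U4-ODDI (S2150 local side, architect helper27): for `q` odd an all-isotropic non-collinear additive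
subgroup `I` of the hermitian plane `W` with `β(I, I) ≤ Y ≠ ⊤` has at most `q` elements.
-/

open Module Cfsg.Agent.Lib.Helper94_Symp Cfsg.Agent.Lib.Helper94_Herm
  Cfsg.Agent.Lib.Helper94_HermEich Cfsg.Agent.Lib.Helper94_HermPara
  Cfsg.Agent.Lib.Helper94_HermTrans
  Cfsg.Agent.Lib.Helper13_SUGen Cfsg.Agent.Lib.Helper13_PSUSimple
  Cfsg.Agent.Lib.Helper46_U3TI Cfsg.Agent.Lib.Helper14_PSULocal1
  Cfsg.Agent.Lib.Helper27_UQDefs Cfsg.Agent.Lib.Helper50_UQAbsDefs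
  Cfsg.Agent.Lib.Helper94_UQInst

namespace Cfsg.Agent.Lib.Helper91_U4_ODDI

variable {F V : Type*} [Field F] [AddCommGroup V] [Module F V] {σ : F →+* F}
variable {B : V →ₗ[F] V →ₛₗ[σ] F}

/-- the fixed elements `{c | σ c = c}` as an additive subgroup of `F` -/
def fixA (σ : F →+* F) : AddSubgroup F where
  carrier := {c | σ c = c}
  add_mem' := by
    intro a b ha hb
    show σ (a + b) = a + b
    rw [map_add, ha, hb]
  zero_mem' := by
    show σ 0 = 0
    simp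
  neg_mem' := by
    intro a ha
    show σ (-a) = -a
    rw [map_neg, ha]

theorem mem_fixA {c : F} : c ∈ fixA σ ↔ σ c = c := Iff.rfl

theorem card_fixA [Finite F] (hσ : Invol σ) {q : ℕ} (hF : Nat.card F = q ^ 2) :
    Nat.card ↥(fixA σ) = q := by
  rw [← Cfsg.Agent.Lib.Helper95_UQ_FLD.card_fixed hσ hF]
  rfl

/-- the symplectic form `2 η (x y' - y x')` on `Fix × Fix` with values in the skew elements -/
def bet (η : F) (hη : σ η = -η) (p p' : ↥(fixA σ) × ↥(fixA σ)) : ↥(skewA σ) :=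
  ⟨2 * η * ((p.1 : F) * (p'.2 : F) - (p.2 : F) * (p'.1 : F)), by
    show σ _ = -_
    rw [map_mul, map_mul, map_sub, map_mul, map_mul, hη, p.1.2, p.2.2, p'.1.2, p'.2.2,
      map_ofNat]
    ring⟩

theorem bet_coe (η : F) (hη : σ η = -η) (p p' : ↥(fixA σ) × ↥(fixA σ)) :
    ((bet η hη p p' : ↥(skewA σ)) : F) =
      2 * η * ((p.1 : F) * (p'.2 : F) - (p.2 : F) * (p'.1 : F)) := rfl

/-- **U4-ODDI.** -/
theorem ODDI [Finite F] [FiniteDimensional F V] (hσ : Invol σ) (hB : IsHerm B)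
    (hN : NondegOn B ⊤) {q : ℕ} (hF : Nat.card F = q ^ 2) {v v' : V} (h : HypPair B v v')
    (h4 : finrank F V = 4) (h2 : (2 : F) ≠ 0)
    (I : AddSubgroup ↥(Wsub B v v')) (Y : AddSubgroup ↥(skewA σ)) (hY : Y ≠ ⊤)
    (hIiso : ∀ w ∈ I, B (w : V) (w : V) = 0)
    (hnc : ∃ u ∈ I, ∃ b ∈ I, u ≠ 0 ∧ ¬ ∃ c : F, (b : V) = c • (u : V))
    (hβ : ∀ w ∈ I, ∀ w' ∈ I, (udat hσ hB h).β w w' ∈ Y) :
    Nat.card I ≤ q := by
  classical
  obtain ⟨u, hu, b, hb, hu0, hnc'⟩ := hnc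
  obtain ⟨hη0, hηs, hco⟩ :=
    Cfsg.Agent.Lib.Helper27_U4_ICOORD.ICOORD hσ hB hN h h4 I hIiso u b hu hb hu0 hnc'
  have hncW := Cfsg.Agent.Lib.Helper91_U4_EVENI.hnc_sub hnc'
  set η := B (u : V) (b : V) with hη
  have huu := hIiso u hu
  have hbb := hIiso b hb
  have hbu : B (b : V) (u : V) = -η := by rw [hB (u : V) (b : V), ← hη, hηs]
  -- the coordinate map
  let f : ↥(fixA σ) × ↥(fixA σ) →+ ↥(Wsub B v v') :=
    { toFun := fun p => (p.1 : F) • u + (p.2 : F) • b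
      map_zero' := by simp
      map_add' := by
        intro p p'
        simp only [Prod.fst_add, Prod.snd_add, AddSubgroup.coe_add, add_smul]
        abel }
  have hfapp : ∀ p, f p = (p.1 : F) • u + (p.2 : F) • b := fun p => rfl
  have hfinj : Function.Injective f := by
    rintro ⟨⟨x, hx⟩, ⟨y, hy⟩⟩ ⟨⟨x', hx'⟩, ⟨y', hy'⟩⟩ hxy
    rw [hfapp, hfapp] at hxy
    obtain ⟨h1, h3⟩ := Cfsg.Agent.Lib.Helper91_U4_EVENI.coord_inj hu0 hncW hxy
    subst h1
    subst h3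
    rfl
  -- the form
  have hBf : ∀ p p' : ↥(fixA σ) × ↥(fixA σ),
      B ((f p : ↥(Wsub B v v')) : V) ((f p' : ↥(Wsub B v v')) : V) =
        η * ((p.1 : F) * (p'.2 : F) - (p.2 : F) * (p'.1 : F)) := by
    intro p p'
    have e1 : ((f p : ↥(Wsub B v v')) : V) = (p.1 : F) • (u : V) + (p.2 : F) • (b : V) := rfl
    have e2 : ((f p' : ↥(Wsub B v v')) : V) = (p'.1 : F) • (u : V) + (p'.2 : F) • (b : V) := rfl
    rw [e1, e2]
    simp only [map_add, LinearMap.add_apply, map_smulₛₗ,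
      LinearMap.smul_apply, smul_eq_mul, huu, hbb, hbu, ← hη, RingHom.id_apply]
    rw [p'.1.2, p'.2.2]
    ring
  have hβf : ∀ p p' : ↥(fixA σ) × ↥(fixA σ),
      (udat hσ hB h).β (f p) (f p') = bet η hηs p p' := by
    intro p p'
    apply Subtype.ext
    rw [β_coe, bet_coe, hBf, hBf]
    ring
  -- the preimage of `I`
  let I' : AddSubgroup (↥(fixA σ) × ↥(fixA σ)) := I.comap f
  have hI' : ∀ p ∈ I', ∀ p' ∈ I', bet η hηs p p' ∈ Y := by
    intro p hp p' hp'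
    rw [← hβf]
    exact hβ _ hp _ hp'
  have hl : ∀ p p' r : ↥(fixA σ) × ↥(fixA σ),
      bet η hηs (p + p') r = bet η hηs p r + bet η hηs p' r := by
    intro p p' r
    apply Subtype.ext
    rw [AddSubgroup.coe_add, bet_coe, bet_coe, bet_coe]
    simp only [Prod.fst_add, Prod.snd_add, AddSubgroup.coe_add]
    ring
  have hr : ∀ p r r' : ↥(fixA σ) × ↥(fixA σ),
      bet η hηs p (r + r') = bet η hηs p r + bet η hηs p r' := by
    intro p r r'
    apply Subtype.ext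
    rw [AddSubgroup.coe_add, bet_coe, bet_coe, bet_coe]
    simp only [Prod.fst_add, Prod.snd_add, AddSubgroup.coe_add]
    ring
  have hsurj : ∀ p : ↥(fixA σ) × ↥(fixA σ), p ≠ 0 → ∀ a : ↥(skewA σ),
      ∃ r : ↥(fixA σ) × ↥(fixA σ), bet η hηs p r = a := by
    rintro ⟨⟨x, hx⟩, ⟨y, hy⟩⟩ hp ⟨a, ha⟩
    have hx' : σ x = x := hx
    have hy' : σ y = y := hy
    have ha' : σ a = -a := ha
    by_cases hx0 : x = 0
    · have hy0 : y ≠ 0 := by
        intro hy0
        apply hp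
        subst hx0
        subst hy0
        rfl
      have hfix : σ (-(a / (2 * η * y))) = -(a / (2 * η * y)) := by
        rw [map_neg, map_div₀, map_mul, map_mul, ha', hηs, hy', map_ofNat]
        field_simp
      refine ⟨(⟨-(a / (2 * η * y)), hfix⟩, 0), ?_⟩
      apply Subtype.ext
      rw [bet_coe]
      show 2 * η * (x * ((0 : ↥(fixA σ)) : F) - y * (-(a / (2 * η * y)))) = a
      rw [AddSubgroup.coe_zero]
      field_simp
      ring
    · have hfix : σ (a / (2 * η * x)) = a / (2 * η * x) := by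
        rw [map_div₀, map_mul, map_mul, ha', hηs, hx', map_ofNat]
        field_simp
      refine ⟨(0, ⟨a / (2 * η * x), hfix⟩), ?_⟩
      apply Subtype.ext
      rw [bet_coe]
      show 2 * η * (x * (a / (2 * η * x)) - y * ((0 : ↥(fixA σ)) : F)) = a
      rw [AddSubgroup.coe_zero]
      field_simp
      ring
  have hA2 := Cfsg.Agent.Lib.Helper25_UQ_A2.A2 (bet η hηs) hl hr hsurj Y hY I' hI'
  rw [Nat.card_prod, card_fixA hσ hF] at hA2
  -- `|I'| = |I|`
  have hcard : Nat.card ↥I' = Nat.card ↥I := by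
    apply Nat.card_congr
    refine Equiv.ofBijective (fun p : ↥I' => (⟨f p.1, p.2⟩ : ↥I)) ⟨?_, ?_⟩
    · intro p p' hpp
      apply Subtype.ext
      apply hfinj
      exact congrArg Subtype.val hpp
    · rintro ⟨w, hw⟩
      obtain ⟨x, y, hx, hy, hxy⟩ := hco w hw
      have hmem : ((⟨x, hx⟩, ⟨y, hy⟩) : ↥(fixA σ) × ↥(fixA σ)) ∈ I' := by
        show f (⟨x, hx⟩, ⟨y, hy⟩) ∈ I
        rw [hfapp, ← hxy]
        exact hw
      refine ⟨⟨_, hmem⟩, ?_⟩
      apply Subtype.ext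
      show f (⟨x, hx⟩, ⟨y, hy⟩) = w
      rw [hfapp, ← hxy]
  rw [hcard] at hA2
  have h5 : Nat.card ↥I ^ 2 ≤ q ^ 2 := by
    calc Nat.card ↥I ^ 2 ≤ q * q := hA2
      _ = q ^ 2 := by ring
  exact (Nat.pow_le_pow_iff_left (by norm_num : (2 : ℕ) ≠ 0)).mp h5

end Cfsg.Agent.Lib.Helper91_U4_ODDI
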