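import Mathlib
import Cfsg.Agent.Lib.Helper94_UQInst
import Cfsg.Agent.Lib.Helper95_UQ_A1
import Cfsg.Agent.Lib.Helper25_UQ_A2
import Cfsg.Agent.Lib.Helper27_UQ_HYP
import Cfsg.Agent.Lib.Helper27_UQ_CARD
import Cfsg.Agent.Lib.Helper95_UQ_FLD
import Cfsg.Agent.Lib.Helper5_UQ_HPBRIDGE
import Cfsg.Agent.Lib.Helper42_UQ_HPSTAB
import Cfsg.Agent.Lib.Helper3_UQ_W4CORE
import Cfsg.Agent.Lib.Helper55_UQ_HPBOREL
import Cfsg.Agent.Lib.Helper26_UQ_HPFREE
import Cfsg.Agent.Lib.Helper91_UQ_FROB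
import Cfsg.Agent.Lib.Helper50_UQW4
import Cfsg.Agent.Lib.Helper11_UQ_TOR2EVEN
import Cfsg.Agent.Lib.Helper61_UQ_CARDQ
import Cfsg.Agent.Lib.Helper27_U4_ICOORD
import Cfsg.Agent.Lib.Helper10_U4_COLLI
import Cfsg.Agent.Lib.Helper91_U4_EVENI
import Cfsg.Agent.Lib.Helper91_U4_ODDI
import Cfsg.Agent.Lib.Helper11_U4_TFES
import Cfsg.Agent.Lib.Helper27_UQ_TOR2
import Cfsg.Agent.Lib.Helper79_UQ_BINJ

set_option autoImplicit false
set_option linter.unusedSectionVars false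
set_option linter.unusedVariables false

/-!
# S2150 local side (helper27): the LOCAL THEOREM `LOC` for `SU_4(q)` on helper94's datum `udat`, and its orbit form
`LOC_orbit` (= LOC + helper95's UQ-A1).  Paper proof: helper39, pending/helper39/S2150_proof.md, section 1
(case tree T0 / T1 / T2a / T2b-odd / T2b-even).  Packages: ICOORD, STABL, CARDL (helper27, inline), COLLI (helper10),
EVENI, ODDI (helper91), TFES (helper11); reused from S2152 part B: HPBRIDGE, HPSTAB, HPBOREL, W4CORE orbit tools,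
htorus_udat, UQ-A2, FROB, helper11's lam_fixed / torus_field_even.
-/

open Module Cfsg.Agent.Lib.Helper94_Symp Cfsg.Agent.Lib.Helper94_Herm
  Cfsg.Agent.Lib.Helper94_HermEich Cfsg.Agent.Lib.Helper94_HermPara
  Cfsg.Agent.Lib.Helper94_HermTrans
  Cfsg.Agent.Lib.Helper13_SUGen Cfsg.Agent.Lib.Helper13_PSUSimple
  Cfsg.Agent.Lib.Helper46_U3TI Cfsg.Agent.Lib.Helper14_PSULocal1
  Cfsg.Agent.Lib.Helper27_UQDefs Cfsg.Agent.Lib.Helper50_UQAbsDefs
  Cfsg.Agent.Lib.Helper94_UQInst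

namespace Cfsg.Agent.Lib.Helper27_U4_LOC

open Cfsg.Agent.Lib.Helper3_UQ_W4CORE Cfsg.Agent.Lib.Helper79_UQ_BINJ
open Cfsg.Agent.Lib.Helper10_U4_COLLI Cfsg.Agent.Lib.Helper91_U4_EVENI Cfsg.Agent.Lib.Helper91_U4_ODDI
  Cfsg.Agent.Lib.Helper11_U4_TFES

section arith

/-- the generic end-game arithmetic of LOC (cases T2a and T2b-even) -/
theorem ari_main {q n cI cY : ℕ} (hq : 2 ≤ q) (hcY1 : 1 ≤ cY) (hcYq : cY ≤ q) (hcI : cI ≤ q ^ 2)
    (hcI2 : cI < q ^ 2 → 2 * cI ≤ q ^ 2)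
    (hn : (q + 1) * cY ≤ n) (hn' : cY ≠ 1 → (q + 1) * (cY + 1) ≤ n) :
    (q + 1) * q ^ 3 * (cI * cY) ≤ n * q ^ 5 ∧
    (n * q ^ 5 < (q + 1) * (q ^ 3 + 1) * (cI * cY) → cY = 1 ∧ cI = q ^ 2 ∧ n = q + 1) := by
  have hq3 : 8 ≤ q ^ 3 := by
    calc 8 = 2 ^ 3 := by norm_num
      _ ≤ q ^ 3 := Nat.pow_le_pow_left hq 3
  constructor
  · calc (q + 1) * q ^ 3 * (cI * cY) = ((q + 1) * cY) * (q ^ 3 * cI) := by ring
      _ ≤ n * (q ^ 3 * q ^ 2) := Nat.mul_le_mul hn (Nat.mul_le_mul_left _ hcI)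
      _ = n * q ^ 5 := by ring
  · intro hlt
    -- cI = q^2
    have h1 : cI = q ^ 2 := by
      by_contra hne
      have hlt' : cI < q ^ 2 := lt_of_le_of_ne hcI hne
      have h2 := hcI2 hlt'
      have h3 : 2 * (n * q ^ 5) < (q + 1) * (q ^ 3 + 1) * (q ^ 2 * cY) := by
        calc 2 * (n * q ^ 5) < 2 * ((q + 1) * (q ^ 3 + 1) * (cI * cY)) := by omega
          _ = (q + 1) * (q ^ 3 + 1) * ((2 * cI) * cY) := by ring
          _ ≤ (q + 1) * (q ^ 3 + 1) * (q ^ 2 * cY) :=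
            Nat.mul_le_mul_left _ (Nat.mul_le_mul_right _ h2)
      have h4 : 2 * (((q + 1) * cY) * q ^ 5) ≤ 2 * (n * q ^ 5) :=
        Nat.mul_le_mul_left _ (Nat.mul_le_mul_right _ hn)
      have h5 : ((q + 1) * cY * q ^ 2) * (2 * q ^ 3) < ((q + 1) * cY * q ^ 2) * (q ^ 3 + 1) := by
        calc ((q + 1) * cY * q ^ 2) * (2 * q ^ 3) = 2 * (((q + 1) * cY) * q ^ 5) := by ring
          _ ≤ 2 * (n * q ^ 5) := h4
          _ < (q + 1) * (q ^ 3 + 1) * (q ^ 2 * cY) := h3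
          _ = ((q + 1) * cY * q ^ 2) * (q ^ 3 + 1) := by ring
      have h6 := Nat.lt_of_mul_lt_mul_left h5
      omega
    subst h1
    -- cY = 1
    have h2 : cY = 1 := by
      by_contra hne
      have h3 := hn' hne
      have h4 : ((q + 1) * (cY + 1)) * q ^ 5 ≤ n * q ^ 5 := Nat.mul_le_mul_right _ h3
      have h5 : ((q + 1) * q ^ 2) * ((cY + 1) * q ^ 3) < ((q + 1) * q ^ 2) * ((q ^ 3 + 1) * cY) := by
        calc ((q + 1) * q ^ 2) * ((cY + 1) * q ^ 3) = ((q + 1) * (cY + 1)) * q ^ 5 := by ring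
          _ ≤ n * q ^ 5 := h4
          _ < (q + 1) * (q ^ 3 + 1) * (q ^ 2 * cY) := hlt
          _ = ((q + 1) * q ^ 2) * ((q ^ 3 + 1) * cY) := by ring
      have h6 := Nat.lt_of_mul_lt_mul_left h5
      have h7 : q ^ 3 < cY := by
        have e1 : (cY + 1) * q ^ 3 = cY * q ^ 3 + q ^ 3 := by ring
        have e2 : (q ^ 3 + 1) * cY = cY * q ^ 3 + cY := by ring
        rw [e1, e2] at h6
        omega
      have h8 : q ≤ q ^ 3 := Nat.le_self_pow (by norm_num) q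
      omega
    subst h2
    refine ⟨rfl, rfl, ?_⟩
    have h3 : n * q ^ 5 < (q + 2) * q ^ 5 := by
      calc n * q ^ 5 < (q + 1) * (q ^ 3 + 1) * (q ^ 2 * 1) := hlt
        _ ≤ (q + 2) * q ^ 5 := by
          have h8 : q + 1 ≤ q ^ 3 := by nlinarith
          calc (q + 1) * (q ^ 3 + 1) * (q ^ 2 * 1) = ((q + 1) * q ^ 3 + (q + 1)) * q ^ 2 := by ring
            _ ≤ ((q + 1) * q ^ 3 + q ^ 3) * q ^ 2 :=
              Nat.mul_le_mul_right _ (Nat.add_le_add_left h8 _)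
            _ = (q + 2) * q ^ 5 := by ring
    have h4 : n < q + 2 := Nat.lt_of_mul_lt_mul_right h3
    omega

/-- T0 arithmetic -/
theorem ari_T0 {q n cY : ℕ} (hq : 2 ≤ q) (hn : 1 ≤ n) (hcY : 2 * cY ≤ q) :
    (q + 1) * (q ^ 3 + 1) * (1 * cY) ≤ n * q ^ 5 := by
  have h1 : q ^ 3 + q + 1 ≤ q ^ 4 := by
    have h2 : 2 * q ^ 3 ≤ q ^ 4 := by
      calc 2 * q ^ 3 ≤ q * q ^ 3 := Nat.mul_le_mul_right _ hq
        _ = q ^ 4 := by ring
    have h3 : 4 * q ≤ q ^ 3 := by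
      calc 4 * q = 2 * 2 * q := by ring
        _ ≤ q * q * q := Nat.mul_le_mul_right _ (Nat.mul_le_mul hq hq)
        _ = q ^ 3 := by ring
    omega
  have h2 : 2 * ((q + 1) * (q ^ 3 + 1) * (1 * cY)) ≤ 2 * (n * q ^ 5) := by
    calc 2 * ((q + 1) * (q ^ 3 + 1) * (1 * cY)) = (q + 1) * (q ^ 3 + 1) * (2 * cY) := by ring
      _ ≤ (q + 1) * (q ^ 3 + 1) * q := Nat.mul_le_mul_left _ hcY
      _ = (q ^ 4 + (q ^ 3 + q + 1)) * q := by ring
      _ ≤ (q ^ 4 + q ^ 4) * q := Nat.mul_le_mul_right _ (Nat.add_le_add_left h1 _)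
      _ = 2 * (1 * q ^ 5) := by ring
      _ ≤ 2 * (n * q ^ 5) := Nat.mul_le_mul_left _ (Nat.mul_le_mul_right _ hn)
  omega

/-- T1 arithmetic: `p' = 2` (`q ≥ 4`) or `p' = 3` (`q ≥ 3`) -/
theorem ari_T1 {q n cI cY cS p' : ℕ} (hq : 3 ≤ q) (hp : (p' = 2 ∧ 4 ≤ q) ∨ p' = 3)
    (hcI1 : 1 ≤ cI) (hcI : cI ≤ q ^ 2) (hcY : p' * cY ≤ q)
    (hS : cS ≤ (q + 1) * (cI - 1)) (hL : n * cS = q * (q ^ 2 - 1) * (q ^ 2 - 1)) :
    (q + 1) * (q ^ 3 + 1) * (cI * cY) ≤ n * q ^ 5 := by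
  obtain ⟨m, rfl⟩ : ∃ m, q = m + 3 := ⟨q - 3, by omega⟩
  have hq2 : (m + 3) ^ 2 - 1 = (m + 2) * (m + 4) := by
    have : (m + 3) ^ 2 = (m + 2) * (m + 4) + 1 := by ring
    omega
  rw [hq2] at hL
  -- n ≥ q (q - 1)
  have h1 : cS ≤ (m + 3 + 1) * ((m + 2) * (m + 4)) := by
    refine hS.trans (Nat.mul_le_mul_left _ ?_)
    have : cI - 1 ≤ (m + 3) ^ 2 - 1 := Nat.sub_le_sub_right hcI 1
    rw [hq2] at this
    exact this
  have h2 : (m + 3) * (m + 2) ≤ n := by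
    have h3 : ((m + 4) * ((m + 2) * (m + 4))) * ((m + 3) * (m + 2)) ≤
        ((m + 4) * ((m + 2) * (m + 4))) * n := by
      calc ((m + 4) * ((m + 2) * (m + 4))) * ((m + 3) * (m + 2))
          = (m + 3) * ((m + 2) * (m + 4)) * ((m + 2) * (m + 4)) := by ring
        _ = n * cS := hL.symm
        _ ≤ n * ((m + 3 + 1) * ((m + 2) * (m + 4))) := Nat.mul_le_mul_left _ h1
        _ = ((m + 4) * ((m + 2) * (m + 4))) * n := by ring
    exact Nat.le_of_mul_le_mul_left h3 (by positivity)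
  -- the estimate
  have h4 : p' * ((m + 3 + 1) * ((m + 3) ^ 3 + 1) * (cI * cY)) ≤ p' * (n * (m + 3) ^ 5) := by
    calc p' * ((m + 3 + 1) * ((m + 3) ^ 3 + 1) * (cI * cY))
        = (m + 3 + 1) * ((m + 3) ^ 3 + 1) * (cI * (p' * cY)) := by ring
      _ ≤ (m + 3 + 1) * ((m + 3) ^ 3 + 1) * ((m + 3) ^ 2 * (m + 3)) :=
          Nat.mul_le_mul_left _ (Nat.mul_le_mul hcI hcY)
      _ ≤ p' * (((m + 3) * (m + 2)) * (m + 3) ^ 5) := by
          rcases hp with ⟨rfl, h4q⟩ | rfl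
          · obtain ⟨k, rfl⟩ : ∃ k, m = k + 1 := ⟨m - 1, by omega⟩
            ring_nf
            omega
          · ring_nf
            omega
      _ ≤ p' * (n * (m + 3) ^ 5) :=
          Nat.mul_le_mul_left _ (Nat.mul_le_mul_right _ h2)
  have hp0 : 0 < p' := by rcases hp with ⟨rfl, -⟩ | rfl <;> norm_num
  exact Nat.le_of_mul_le_mul_left h4 hp0

/-- T2b-odd arithmetic -/
theorem ari_T2bo {q t e cI cY cE : ℕ} (hq : 2 ≤ q) (hcI1 : 1 ≤ cI) (hcI : cI ≤ q)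
    (htY : cY ≤ t) (hE : cE ≤ q * (cI - 1)) (heE : e * cE = q * (q ^ 2 - 1)) :
    (q + 1) * (q ^ 3 + 1) * (cI * cY) ≤ t * e * q ^ 5 := by
  obtain ⟨m, rfl⟩ : ∃ m, q = m + 2 := ⟨q - 2, by omega⟩
  have hq2 : (m + 2) ^ 2 - 1 = (m + 1) * (m + 3) := by
    have : (m + 2) ^ 2 = (m + 1) * (m + 3) + 1 := by ring
    omega
  rw [hq2] at heE
  have h1 : cE ≤ (m + 2) * (m + 1) := by
    refine hE.trans (Nat.mul_le_mul_left _ ?_)
    omega
  have h2 : m + 3 ≤ e := by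
    have h3 : ((m + 2) * (m + 1)) * (m + 3) ≤ ((m + 2) * (m + 1)) * e := by
      calc ((m + 2) * (m + 1)) * (m + 3) = (m + 2) * ((m + 1) * (m + 3)) := by ring
        _ = e * cE := heE.symm
        _ ≤ e * ((m + 2) * (m + 1)) := Nat.mul_le_mul_left _ h1
        _ = ((m + 2) * (m + 1)) * e := by ring
    exact Nat.le_of_mul_le_mul_left h3 (by positivity)
  have h5 : (m + 2) ^ 3 + 1 ≤ (m + 2) ^ 4 := by
    have : 2 * (m + 2) ^ 3 ≤ (m + 2) ^ 4 := by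
      calc 2 * (m + 2) ^ 3 ≤ (m + 2) * (m + 2) ^ 3 := Nat.mul_le_mul_right _ (by omega)
        _ = (m + 2) ^ 4 := by ring
    have : 1 ≤ (m + 2) ^ 3 := Nat.one_le_pow _ _ (by omega)
    omega
  calc (m + 2 + 1) * ((m + 2) ^ 3 + 1) * (cI * cY)
      ≤ (m + 3) * ((m + 2) ^ 4) * ((m + 2) * t) := by
        apply Nat.mul_le_mul (Nat.mul_le_mul_left _ h5) (Nat.mul_le_mul hcI htY)
    _ = t * (m + 3) * (m + 2) ^ 5 := by ring
    _ ≤ t * e * (m + 2) ^ 5 := Nat.mul_le_mul_right _ (Nat.mul_le_mul_left _ h2)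

end arith

section abs

variable {G : Type*} [Group G] {W : Type*} [AddCommGroup W] {A : Type*} [AddCommGroup A]
  {D : UDat G W A}

/-- orbit-stabiliser inequality for subgroups of `L` -/
theorem card_le_mul_orb_L (hD : D.Ok) [Finite G] [Finite W] (E : Subgroup G) (hE : E ≤ D.L) (u : W)
    (m : ℕ) (hstab : Nat.card {l : G // l ∈ D.L ∧ D.ρ l u = u} ≤ m) :
    Nat.card E ≤ m * (orb D E u).ncard := by
  classical
  have : Fintype E := Fintype.ofFinite E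
  have : Fintype W := Fintype.ofFinite W
  have h1 := Finset.card_le_mul_card_image (s := (Finset.univ : Finset E))
    (f := fun k : E => D.ρ (k : G) u) m ?_
  · rw [Finset.card_univ, ← Nat.card_eq_fintype_card] at h1
    have h2 : (orb D E u).ncard = (Finset.univ.image (fun k : E => D.ρ (k : G) u)).card := by
      unfold orb
      rw [← Set.image_univ, ← Finset.coe_univ, ← Finset.coe_image, Set.ncard_coe_finset]
    rw [h2]
    exact h1
  · intro a ha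
    obtain ⟨k0, -, rfl⟩ := Finset.mem_image.mp ha
    have e1 : (Finset.univ.filter fun x : E => D.ρ (x : G) u = D.ρ (k0 : G) u).card
        = Nat.card {x : E // D.ρ (x : G) u = D.ρ (k0 : G) u} := by
      rw [Nat.card_eq_fintype_card, Fintype.card_subtype]
    rw [e1]
    refine le_trans ?_ hstab
    have hmem : ∀ x : {x : E // D.ρ (x : G) u = D.ρ (k0 : G) u},
        ((k0 : G)⁻¹ * (x.1 : G)) ∈ D.L ∧ D.ρ ((k0 : G)⁻¹ * (x.1 : G)) u = u := by
      intro x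
      refine ⟨mul_mem (inv_mem (hE k0.2)) (hE x.1.2), ?_⟩
      rw [ρ_mul hD _ _ (inv_mem (hE k0.2)) (hE x.1.2), x.2, ρ_inv_ρ hD _ (hE k0.2)]
    apply Nat.card_le_card_of_injective
      (fun x : {x : E // D.ρ (x : G) u = D.ρ (k0 : G) u} =>
        (⟨(k0 : G)⁻¹ * (x.1 : G), hmem x⟩ : {l : G // l ∈ D.L ∧ D.ρ l u = u}))
    intro x y hxy
    have h3 : (k0 : G)⁻¹ * (x.1 : G) = (k0 : G)⁻¹ * (y.1 : G) := congrArg Subtype.val hxy
    apply Subtype.ext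
    apply Subtype.ext
    exact mul_left_cancel h3

end abs

variable {F V : Type*} [Field F] [AddCommGroup V] [Module F V] {σ : F →+* F}
variable {B : V →ₗ[F] V →ₛₗ[σ] F}

theorem two_mul_le_of_dvd [Finite F] {q : ℕ} (hF : Nat.card F = q ^ 2) {n : ℕ}
    (hn : n ∣ q ^ 4) (hlt : n < q ^ 2) : 2 * n ≤ q ^ 2 := by
  have _ : Fintype F := Fintype.ofFinite F
  obtain ⟨p, hp⟩ := CharP.exists F
  obtain ⟨k, hpp, hcard⟩ := FiniteField.card F p
  rw [← Nat.card_eq_fintype_card, hF] at hcard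
  have h4 : q ^ 4 = p ^ (2 * (k : ℕ)) := by
    calc q ^ 4 = (q ^ 2) ^ 2 := by ring
      _ = (p ^ (k : ℕ)) ^ 2 := by rw [hcard]
      _ = p ^ (2 * (k : ℕ)) := by rw [← pow_mul, mul_comm]
  rw [h4] at hn
  obtain ⟨j, -, rfl⟩ := (Nat.dvd_prime_pow hpp).mp hn
  rw [hcard] at hlt ⊢
  have hjk : j < (k : ℕ) := (Nat.pow_lt_pow_iff_right hpp.one_lt).mp hlt
  calc 2 * p ^ j ≤ p * p ^ j := Nat.mul_le_mul_right _ hpp.two_le
    _ = p ^ (j + 1) := by ring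
    _ ≤ p ^ (k : ℕ) := Nat.pow_le_pow_right hpp.pos hjk

/-- **U4-STABL**: the stabiliser in `L` of an anisotropic vector of `W` has at most `q + 1` elements. -/
theorem STABL [Finite F] [FiniteDimensional F V] (hσ : Invol σ) (hB : IsHerm B)
    (hN : NondegOn B ⊤) {q : ℕ} (hF : Nat.card F = q ^ 2) {v v' : V} (h : HypPair B v v')
    (h4 : finrank F V = 4) (w : ↥(Wsub B v v')) (hw : B (w : V) (w : V) ≠ 0) :
    Nat.card {l : ↥(SUg B) // l ∈ (udat hσ hB h).L ∧ (udat hσ hB h).ρ l w = w} ≤ q + 1 := by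
  classical
  have hD := udat_ok hσ hB hN h
  have hfrob := Cfsg.Agent.Lib.Helper91_UQ_FROB.FROB hσ hF
  obtain ⟨-, hfree⟩ := Cfsg.Agent.Lib.Helper26_UQ_HPFREE.HPFREE hσ hB hN h h4
  -- the multiplier of a stabilising element has norm one
  have hnorm : ∀ l : {l : ↥(SUg B) // l ∈ (udat hσ hB h).L ∧ (udat hσ hB h).ρ l w = w},
      Cfsg.Agent.Lib.Helper27_UQ_TOR2.lamOf B v v' ((l : ↥(SUg B)) : V ≃ₗ[F] V) ^ (q + 1) = 1 := by
    intro l
    have hl : ((l : ↥(SUg B)) : V ≃ₗ[F] V) ∈ Lv B v v' := (mem_L hσ hB h).mp l.2.1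
    set lam := Cfsg.Agent.Lib.Helper27_UQ_TOR2.lamOf B v v' ((l : ↥(SUg B)) : V ≃ₗ[F] V) with hlam
    have hlv := Cfsg.Agent.Lib.Helper27_UQ_TOR2.Lv_apply_v h hl
    have hρ := ρ_of_mem hσ hB h hl hlv w
    rw [l.2.2] at hρ
    have hU : ((l : ↥(SUg B)) : V ≃ₗ[F] V) ∈ uG B := (mem_SUg.mp (l : ↥(SUg B)).2).1
    have h1 : B (w : V) (w : V) = σ lam * σ (σ lam) * B (w : V) (w : V) := by
      conv_lhs => rw [hρ]
      rw [self_smul, hU (w : V) (w : V)]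
    rw [hσ.invol] at h1
    have h3 : σ lam * lam = 1 := by
      have h5 : (σ lam * lam - 1) * B (w : V) (w : V) = 0 := by linear_combination -h1
      rcases mul_eq_zero.mp h5 with h6 | h6
      · exact sub_eq_zero.mp h6
      · exact absurd h6 hw
    rw [pow_succ, ← hfrob lam]
    exact h3
  -- the map to the roots of unity
  have hq1 : NeZero (q + 1) := ⟨by omega⟩
  let φ : {l : ↥(SUg B) // l ∈ (udat hσ hB h).L ∧ (udat hσ hB h).ρ l w = w} →
      rootsOfUnity (q + 1) F := fun l =>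
    ⟨Cfsg.Agent.Lib.Helper27_UQ_TOR2.lamHom h ⟨((l : ↥(SUg B)) : V ≃ₗ[F] V),
        (mem_L hσ hB h).mp l.2.1⟩, by
      rw [mem_rootsOfUnity]
      apply Units.ext
      rw [Units.val_pow_eq_pow_val, Cfsg.Agent.Lib.Helper27_UQ_TOR2.lamHom_apply, Units.val_one]
      exact hnorm l⟩
  have hφ : Function.Injective φ := by
    intro l l' hll
    have h1 : Cfsg.Agent.Lib.Helper27_UQ_TOR2.lamHom h ⟨((l : ↥(SUg B)) : V ≃ₗ[F] V),
        (mem_L hσ hB h).mp l.2.1⟩ = Cfsg.Agent.Lib.Helper27_UQ_TOR2.lamHom h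
          ⟨((l' : ↥(SUg B)) : V ≃ₗ[F] V), (mem_L hσ hB h).mp l'.2.1⟩ :=
      congrArg Subtype.val hll
    -- `k = l⁻¹ l'`
    set k : ↥(SUg B) := (l : ↥(SUg B))⁻¹ * (l' : ↥(SUg B)) with hk
    have hkL : k ∈ (udat hσ hB h).L := mul_mem (inv_mem l.2.1) l'.2.1
    have hkρ : (udat hσ hB h).ρ k w = w := by
      rw [hk, ρ_mul hD _ _ (inv_mem l.2.1) l'.2.1, l'.2.2]
      have h7 := ρ_inv_ρ hD _ l.2.1 w
      rw [l.2.2] at h7
      exact h7
    have hkK : k ∈ (udat hσ hB h).K := by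
      rw [mem_K]
      have hkLv : (k : V ≃ₗ[F] V) ∈ Lv B v v' := (mem_L hσ hB h).mp hkL
      rw [← Cfsg.Agent.Lib.Helper27_UQ_TOR2.lamOf_eq_one_iff hσ hB h hkLv]
      have h3 : Cfsg.Agent.Lib.Helper27_UQ_TOR2.lamHom h ⟨(k : V ≃ₗ[F] V), hkLv⟩ = 1 := by
        have h4 : (⟨(k : V ≃ₗ[F] V), hkLv⟩ : ↥(Lv B v v')) =
            (⟨((l : ↥(SUg B)) : V ≃ₗ[F] V), (mem_L hσ hB h).mp l.2.1⟩ : ↥(Lv B v v'))⁻¹ *
              ⟨((l' : ↥(SUg B)) : V ≃ₗ[F] V), (mem_L hσ hB h).mp l'.2.1⟩ := by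
          apply Subtype.ext
          rfl
        rw [h4, map_mul, map_inv, h1, inv_mul_cancel]
      have h5 := congrArg (fun u : Fˣ => (u : F)) h3
      simpa [Cfsg.Agent.Lib.Helper27_UQ_TOR2.lamHom_apply] using h5
    have hk1 : k = 1 := hfree k hkK w hw hkρ
    apply Subtype.ext
    have h6 : (l : ↥(SUg B)) * k = (l : ↥(SUg B)) := by rw [hk1, mul_one]
    rw [hk, mul_inv_cancel_left] at h6
    exact h6.symm
  calc Nat.card {l : ↥(SUg B) // l ∈ (udat hσ hB h).L ∧ (udat hσ hB h).ρ l w = w}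
      ≤ Nat.card (rootsOfUnity (q + 1) F) := Nat.card_le_card_of_injective φ hφ
    _ ≤ q + 1 := card_rootsOfUnity F (q + 1)

/-- **U4-CARDL**: `|L| = q (q^2 - 1)^2`. -/
theorem CARDL [Finite F] [FiniteDimensional F V] (hσ : Invol σ) (hB : IsHerm B)
    (hN : NondegOn B ⊤) {q : ℕ} (hF : Nat.card F = q ^ 2) {v v' : V} (h : HypPair B v v')
    (h4 : finrank F V = 4) :
    Nat.card (udat hσ hB h).L = q * (q ^ 2 - 1) * (q ^ 2 - 1) := by
  classical
  have hV : Finite V := Module.finite_of_finite F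
  have hfinE : Finite (V ≃ₗ[F] V) :=
    Finite.of_injective (fun e => (e : V → V)) DFunLike.coe_injective
  have hfrob := Cfsg.Agent.Lib.Helper91_UQ_FROB.FROB hσ hF
  have _ : Fintype F := Fintype.ofFinite F
  have hFq : Fintype.card F = q ^ 2 := by rw [← Nat.card_eq_fintype_card]; exact hF
  obtain ⟨hKcard, -⟩ := Cfsg.Agent.Lib.Helper5_UQ_HPBRIDGE.HPBRIDGE hσ hB hN hFq hfrob h h4
  have hfr := Cfsg.Agent.Lib.Helper27_UQ_CARD.finrank_Wsub h
  obtain ⟨x, hx, hxx⟩ := Cfsg.Agent.Lib.Helper27_UQ_TOR2.exists_aniso_Wsub hσ hB hN h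
    (by omega)
  -- `|D.L| = |Lv|`, `|D.K| = |Kv|`
  have hL : Nat.card (udat hσ hB h).L = Nat.card (Lv B v v') :=
    Nat.card_congr (Subgroup.subgroupOfEquivOfLe (Lv_le B v v')).toEquiv
  have hK : Nat.card (udat hσ hB h).K = Nat.card (Kv B v v') :=
    Nat.card_congr (Subgroup.subgroupOfEquivOfLe (Kv_le B v v')).toEquiv
  -- `[Lv : Kv] = |Fˣ|`
  have hrel := Cfsg.Agent.Lib.Helper27_UQ_TOR2.relIndex_sup_Kv hσ hB hN h hx hxx ⊥ bot_le
  rw [bot_sup_eq, Subgroup.bot_subgroupOf, Subgroup.map_bot, Subgroup.index_bot, Nat.card_units,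
    hF] at hrel
  have h1 := Cfsg.Agent.Lib.Helper95_UQ_A1.relIndex_mul_card_inf (Kv B v v') (Lv B v v')
  rw [inf_eq_left.mpr (Kv_le_Lv B v v'), hrel, ← hK, hKcard] at h1
  rw [hL, ← h1]
  ring

/-- **U4-EVENT**: characteristic 2 torus inequality for an all-isotropic non-collinear `I`, strict form, no `K ≤ S`. -/
theorem EVENT [Finite F] [FiniteDimensional F V] (hσ : Invol σ) (hB : IsHerm B)
    (hN : NondegOn B ⊤) {q : ℕ} (hF : Nat.card F = q ^ 2) {v v' : V} (h : HypPair B v v')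
    (h4 : finrank F V = 4) (h2 : (2 : F) = 0)
    (S : Subgroup ↥(SUg B)) (I : AddSubgroup ↥(Wsub B v v')) (Y : AddSubgroup ↥(skewA σ))
    (hS : S ≤ (udat hσ hB h).L) (hY : Y ≠ ⊤)
    (hIiso : ∀ w ∈ I, B (w : V) (w : V) = 0)
    (hnc : ∃ u ∈ I, ∃ b ∈ I, u ≠ 0 ∧ ¬ ∃ c : F, (b : V) = c • (u : V))
    (hSI : ∀ s ∈ S, ∀ w ∈ I, (udat hσ hB h).ρ s w ∈ I)
    (hSY : ∀ s ∈ S, ∀ a ∈ Y, (udat hσ hB h).ν s a ∈ Y) :
    (q + 1) * Nat.card Y ≤ (S ⊔ (udat hσ hB h).K).relIndex (udat hσ hB h).L ∧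
    (Y ≠ ⊥ → (q + 1) * (Nat.card Y + 1) ≤ (S ⊔ (udat hσ hB h).K).relIndex (udat hσ hB h).L) := by
  obtain ⟨u, hu, b, hb, hu0, hnc'⟩ := hnc
  obtain ⟨hβ0, hβs, hco⟩ :=
    Cfsg.Agent.Lib.Helper27_U4_ICOORD.ICOORD hσ hB hN h h4 I hIiso u b hu hb hu0 hnc'
  have hneg : ∀ a : F, -a = a := by
    intro a
    linear_combination (-a) * h2
  have hβ : σ (B (u : V) (b : V)) = B (u : V) (b : V) := by rw [hβs, hneg]
  have hfr := Cfsg.Agent.Lib.Helper27_UQ_CARD.finrank_Wsub h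
  obtain ⟨x, hx, hxx⟩ := Cfsg.Agent.Lib.Helper27_UQ_TOR2.exists_aniso_Wsub hσ hB hN h
    (by omega)
  -- multipliers of `S` are fixed
  have hfixS : ∀ s ∈ S, σ (Cfsg.Agent.Lib.Helper27_UQ_TOR2.lamOf B v v' (s : V ≃ₗ[F] V)) =
      Cfsg.Agent.Lib.Helper27_UQ_TOR2.lamOf B v v' (s : V ≃ₗ[F] V) := by
    intro s hs
    have hl : (s : V ≃ₗ[F] V) ∈ Lv B v v' := (mem_L hσ hB h).mp (hS hs)
    set lam := Cfsg.Agent.Lib.Helper27_UQ_TOR2.lamOf B v v' (s : V ≃ₗ[F] V) with hlam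
    have hlv := Cfsg.Agent.Lib.Helper27_UQ_TOR2.Lv_apply_v h hl
    have hlv' := Cfsg.Agent.Lib.Helper27_UQ_TOR2.Lv_apply_v' hσ hB h hl
    have hlam0 := Cfsg.Agent.Lib.Helper27_UQ_TOR2.lamOf_ne_zero h hl
    obtain ⟨a, c, ha, hc, hac⟩ := hco _ (hSI s hs u hu)
    obtain ⟨d, e, hd, he, hde⟩ := hco _ (hSI s hs b hb)
    have hρu := ρ_of_mem hσ hB h hl hlv u
    have hρb := ρ_of_mem hσ hB h hl hlv b
    rw [hac] at hρu
    rw [hde] at hρb
    exact Cfsg.Agent.Lib.Helper11_UQ_TOR2EVEN.lam_fixed hσ hB h h4 h2 u b hu0 hnc' (hIiso u hu)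
      (hIiso b hb) hβ0 hβ (s : V ≃ₗ[F] V)
      s.2 lam hlam0 hlv hlv' a c d e ha hc hd he hρu.symm hρb.symm
  -- transport to `V ≃ₗ V` and `F`
  set S' : Subgroup (V ≃ₗ[F] V) := S.map (SUg B).subtype with hS'
  set Y' : AddSubgroup F := Y.map (skewA σ).subtype with hY'
  have hmemY' : ∀ c : F, c ∈ Y' ↔ ∃ a ∈ Y, (a : F) = c := by
    intro c
    rw [hY', AddSubgroup.mem_map]
    rfl
  have hS'L : S' ≤ Lv B v v' := by
    rintro _ ⟨s, hs, rfl⟩
    exact (mem_L hσ hB h).mp (hS hs)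
  have hcard : Nat.card ↥Y' = Nat.card ↥Y :=
    (Nat.card_congr (Y.equivMapOfInjective (skewA σ).subtype
      (skewA σ).subtype_injective).toEquiv).symm
  have hrel : (S ⊔ (udat hσ hB h).K).relIndex (udat hσ hB h).L =
      (S' ⊔ Kv B v v').relIndex (Lv B v v') := by
    rw [← Subgroup.relIndex_map_map_of_injective _ _ (SUg B).subtype_injective, Subgroup.map_sup]
    have hK : ((udat hσ hB h).K).map (SUg B).subtype = Kv B v v' := by
      show ((Kv B v v').subgroupOf (SUg B)).map (SUg B).subtype = Kv B v v'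
      rw [Subgroup.subgroupOf_map_subtype, inf_eq_left.mpr (Kv_le B v v')]
    have hL : ((udat hσ hB h).L).map (SUg B).subtype = Lv B v v' := by
      show ((Lv B v v').subgroupOf (SUg B)).map (SUg B).subtype = Lv B v v'
      rw [Subgroup.subgroupOf_map_subtype, inf_eq_left.mpr (Lv_le B v v')]
    rw [hK, hL]
  rw [hrel, Cfsg.Agent.Lib.Helper27_UQ_TOR2.relIndex_sup_Kv hσ hB hN h hx hxx S' hS'L, ← hcard]
  have hY'skew : ∀ c ∈ Y', σ c = -c := by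
    intro c hc
    obtain ⟨a, -, rfl⟩ := (hmemY' c).mp hc
    exact a.2
  have hY'ne : ∃ c : F, σ c = -c ∧ c ∉ Y' := by
    by_contra hcon
    push Not at hcon
    apply hY
    rw [eq_top_iff]
    intro a _
    obtain ⟨a', ha', haa'⟩ := (hmemY' _).mp (hcon (a : F) a.2)
    have : a' = a := Subtype.ext haa'
    rw [← this]; exact ha'
  have hΛfix : ∀ t ∈ ((S'.subgroupOf (Lv B v v')).map (Cfsg.Agent.Lib.Helper27_UQ_TOR2.lamHom h)),
      σ (t : F) = (t : F) := by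
    rintro t ⟨l, hl, rfl⟩
    rw [Cfsg.Agent.Lib.Helper27_UQ_TOR2.lamHom_apply]
    obtain ⟨s, hs, hsl⟩ := Subgroup.mem_subgroupOf.mp hl
    rw [← hsl]
    exact hfixS s hs
  have hΛY : ∀ t ∈ ((S'.subgroupOf (Lv B v v')).map (Cfsg.Agent.Lib.Helper27_UQ_TOR2.lamHom h)),
      ∀ c ∈ Y', (t : F) * σ (t : F) * c ∈ Y' := by
    rintro t ⟨l, hl, rfl⟩ c hc
    rw [Cfsg.Agent.Lib.Helper27_UQ_TOR2.lamHom_apply]
    obtain ⟨s, hs, hsl⟩ := Subgroup.mem_subgroupOf.mp hl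
    obtain ⟨a, ha, rfl⟩ := (hmemY' c).mp hc
    rw [hmemY']
    refine ⟨(udat hσ hB h).ν s a, hSY s hs a ha, ?_⟩
    rw [ν_coe, ← hsl]
    rfl
  refine ⟨Cfsg.Agent.Lib.Helper11_UQ_TOR2EVEN.torus_field_even hσ hF h2 Y' hY'skew hY'ne _ hΛfix hΛY,
    fun hYb => ?_⟩
  apply TFES hσ hF h2 Y' hY'skew ?_ hY'ne _ hΛfix hΛY
  intro hb'
  apply hYb
  rw [eq_bot_iff]
  intro a ha
  have : (a : F) ∈ Y' := (hmemY' _).mpr ⟨a, ha, rfl⟩
  rw [hb', AddSubgroup.mem_bot] at this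
  exact Subtype.ext this

/-- **LOC** (local theorem, udat form). -/
theorem LOC [Finite F] [FiniteDimensional F V] (hσ : Invol σ) (hB : IsHerm B)
    (hN : NondegOn B ⊤) {q : ℕ} (hF : Nat.card F = q ^ 2) {v v' : V} (h : HypPair B v v')
    (h4 : finrank F V = 4)
    (S : Subgroup ↥(SUg B)) (I : AddSubgroup ↥(Wsub B v v')) (Y : AddSubgroup ↥(skewA σ))
    (hS : S ≤ (udat hσ hB h).L) (hY : Y ≠ ⊤)
    (hβ : ∀ w ∈ I, ∀ w' ∈ I, (udat hσ hB h).β w w' ∈ Y)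
    (h2 : (2 : F) = 0 → ∀ w ∈ I, ∃ a ∈ Y, (a : F) = B (w : V) (w : V))
    (hSI : ∀ s ∈ S, ∀ w ∈ I, (udat hσ hB h).ρ s w ∈ I)
    (hSY : ∀ s ∈ S, ∀ a ∈ Y, (udat hσ hB h).ν s a ∈ Y) :
    (q + 1) * q ^ 3 * (Nat.card I * Nat.card Y) ≤
      (S ⊔ (udat hσ hB h).K).relIndex (udat hσ hB h).L *
        (S ⊓ (udat hσ hB h).K).relIndex (udat hσ hB h).K * q ^ 5 ∧
    ((S ⊔ (udat hσ hB h).K).relIndex (udat hσ hB h).L *
        (S ⊓ (udat hσ hB h).K).relIndex (udat hσ hB h).K * q ^ 5 <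
          (q + 1) * (q ^ 3 + 1) * (Nat.card I * Nat.card Y) →
      Y = ⊥ ∧ Nat.card I = q ^ 2 ∧
      (S ⊔ (udat hσ hB h).K).relIndex (udat hσ hB h).L *
        (S ⊓ (udat hσ hB h).K).relIndex (udat hσ hB h).K = q + 1 ∧
      ((∃ w0 : ↥(Wsub B v v'), w0 ≠ 0 ∧ B (w0 : V) (w0 : V) = 0 ∧
          ∀ w, w ∈ I ↔ ∃ c : F, w = c • w0) ∨
       ((2 : F) = 0 ∧ ∃ x y : ↥(Wsub B v v'), B (x : V) (x : V) = 0 ∧ B (y : V) (y : V) = 0 ∧
          B (x : V) (y : V) = 1 ∧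
          ∀ w, w ∈ I ↔ ∃ a b : F, σ a = a ∧ σ b = b ∧ w = a • x + b • y))) := by
  classical
  have hV : Finite V := Module.finite_of_finite F
  have hfin : Finite ↥(SUg B) := by
    have : Finite (V ≃ₗ[F] V) := Finite.of_injective (fun e => (e : V → V)) DFunLike.coe_injective
    exact Subtype.finite
  have hD := udat_ok hσ hB hN h
  have hcardW : Nat.card ↥(Wsub B v v') = q ^ 4 := by
    rw [Cfsg.Agent.Lib.Helper27_UQ_CARD.card_Wsub hF h, h4]
  have hAcard : Nat.card ↥(skewA σ) = q := Cfsg.Agent.Lib.Helper95_UQ_FLD.card_skew hσ hF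
  have hFinA : Finite ↥(skewA σ) := Subtype.finite
  have hfrob := Cfsg.Agent.Lib.Helper91_UQ_FROB.FROB hσ hF
  have _ : Fintype F := Fintype.ofFinite F
  have hFq : Fintype.card F = q ^ 2 := by rw [← Nat.card_eq_fintype_card]; exact hF
  obtain ⟨hKcard, -⟩ := Cfsg.Agent.Lib.Helper5_UQ_HPBRIDGE.HPBRIDGE hσ hB hN hFq hfrob h h4
  have hstab := Cfsg.Agent.Lib.Helper42_UQ_HPSTAB.HPSTAB hσ hB hN hF h h4
  have hborel := Cfsg.Agent.Lib.Helper55_UQ_HPBOREL.HPBOREL hσ hB hN hF h h4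
  have hfr := Cfsg.Agent.Lib.Helper27_UQ_CARD.finrank_Wsub h
  have htorus := Cfsg.Agent.Lib.Helper27_UQ_HYP.htorus_udat hσ hB hN hF h (by omega)
  have h2iff := Cfsg.Agent.Lib.Helper50_UQW4.two_eq_zero_iff_even (F := F) hF
  have hLcard := CARDL hσ hB hN hF h h4
  -- notation
  set D := udat hσ hB h with hDdef
  set t := (S ⊔ D.K).relIndex D.L with ht
  set e := (S ⊓ D.K).relIndex D.K with he
  have hKL : D.K ≤ D.L := hD.K_le
  have htpos : 0 < t := by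
    rw [ht, Subgroup.relIndex]
    exact Nat.pos_of_ne_zero Subgroup.index_ne_zero_of_finite
  have hepos : 0 < e := by
    rw [he, Subgroup.relIndex]
    exact Nat.pos_of_ne_zero Subgroup.index_ne_zero_of_finite
  have hprod : t * e * Nat.card S = Nat.card D.L :=
    Cfsg.Agent.Lib.Helper95_UQ_A1.relIndex_prod D.L D.K S hD.K_le hS hD.K_normal
  have heE : e * Nat.card ↥(S ⊓ D.K) = q * (q ^ 2 - 1) := by
    rw [he, Subgroup.inf_relIndex_right, Cfsg.Agent.Lib.Helper95_UQ_A1.relIndex_mul_card_inf, hKcard]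
  have hIq : Nat.card I ≤ q ^ 2 := by
    have h' := Cfsg.Agent.Lib.Helper25_UQ_A2.A2 D.β hD.β_add_left hD.β_add_right hD.β_surj Y hY I hβ
    rw [hcardW, show q ^ 4 = (q ^ 2) ^ 2 by ring] at h'
    exact (Nat.pow_le_pow_iff_left (by norm_num)).mp h'
  have hIpos : 0 < Nat.card I := Nat.card_pos
  have hYpos : 0 < Nat.card Y := Nat.card_pos
  have hq2 : 2 ≤ q := by
    have h1 : 1 < Nat.card F := Finite.one_lt_card
    rw [hF] at h1
    by_contra hlt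
    have : q = 0 ∨ q = 1 := by omega
    rcases this with rfl | rfl <;> simp at h1
  have hY2 : 2 * Nat.card Y ≤ q := by
    obtain ⟨m, hm⟩ : Nat.card Y ∣ q := hAcard ▸ AddSubgroup.card_addSubgroup_dvd_card Y
    have hm1 : m ≠ 1 := by
      intro h1
      apply hY
      apply (AddSubgroup.card_eq_iff_eq_top Y).mp
      rw [hAcard, hm, h1, mul_one]
    have hm0 : m ≠ 0 := by
      intro h0
      rw [h0, mul_zero] at hm
      omega
    calc 2 * Nat.card Y ≤ m * Nat.card Y := Nat.mul_le_mul_right _ (by omega)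
      _ = q := by rw [hm, mul_comm]
  have hYq : Nat.card Y ≤ q := by omega
  have htY' : Y ≠ ⊥ → Nat.card Y + 1 ≤ t := fun hb => htorus S Y hS hb hY hSY
  have htY : Nat.card Y ≤ t := by
    by_cases hYbot : Y = ⊥
    · rw [hYbot, AddSubgroup.card_bot]
      exact htpos
    · have := htY' hYbot
      omega
  have hYbot : Nat.card Y = 1 → Y = ⊥ := fun h1 => AddSubgroup.eq_bot_of_card_eq Y h1
  have hYne : Nat.card Y ≠ 1 → Y ≠ ⊥ := fun hne hb => hne (by rw [hb, AddSubgroup.card_bot])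
  have hI2 : Nat.card I < q ^ 2 → 2 * Nat.card I ≤ q ^ 2 :=
    two_mul_le_of_dvd hF (hcardW ▸ AddSubgroup.card_addSubgroup_dvd_card I)
  -- the "big" cases
  have big : (q + 1) * (q ^ 3 + 1) * (Nat.card I * Nat.card Y) ≤ t * e * q ^ 5 →
      ((q + 1) * q ^ 3 * (Nat.card I * Nat.card Y) ≤ t * e * q ^ 5 ∧
      (t * e * q ^ 5 < (q + 1) * (q ^ 3 + 1) * (Nat.card I * Nat.card Y) →
        Y = ⊥ ∧ Nat.card I = q ^ 2 ∧ t * e = q + 1 ∧
        ((∃ w0 : ↥(Wsub B v v'), w0 ≠ 0 ∧ B (w0 : V) (w0 : V) = 0 ∧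
            ∀ w, w ∈ I ↔ ∃ c : F, w = c • w0) ∨
         ((2 : F) = 0 ∧ ∃ x y : ↥(Wsub B v v'), B (x : V) (x : V) = 0 ∧
            B (y : V) (y : V) = 0 ∧ B (x : V) (y : V) = 1 ∧
            ∀ w, w ∈ I ↔ ∃ a b : F, σ a = a ∧ σ b = b ∧ w = a • x + b • y)))) := by
    intro hbig
    refine ⟨le_trans ?_ hbig, fun hlt => absurd hbig (not_le.mpr hlt)⟩
    apply Nat.mul_le_mul_right
    apply Nat.mul_le_mul_left
    omega
  -- the generic endgame
  have endgame : (q + 1) * Nat.card Y ≤ t * e →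
      (Nat.card Y ≠ 1 → (q + 1) * (Nat.card Y + 1) ≤ t * e) →
      (Nat.card I = q ^ 2 →
        ((∃ w0 : ↥(Wsub B v v'), w0 ≠ 0 ∧ B (w0 : V) (w0 : V) = 0 ∧
            ∀ w, w ∈ I ↔ ∃ c : F, w = c • w0) ∨
         ((2 : F) = 0 ∧ ∃ x y : ↥(Wsub B v v'), B (x : V) (x : V) = 0 ∧
            B (y : V) (y : V) = 0 ∧ B (x : V) (y : V) = 1 ∧
            ∀ w, w ∈ I ↔ ∃ a b : F, σ a = a ∧ σ b = b ∧ w = a • x + b • y))) →
      ((q + 1) * q ^ 3 * (Nat.card I * Nat.card Y) ≤ t * e * q ^ 5 ∧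
      (t * e * q ^ 5 < (q + 1) * (q ^ 3 + 1) * (Nat.card I * Nat.card Y) →
        Y = ⊥ ∧ Nat.card I = q ^ 2 ∧ t * e = q + 1 ∧
        ((∃ w0 : ↥(Wsub B v v'), w0 ≠ 0 ∧ B (w0 : V) (w0 : V) = 0 ∧
            ∀ w, w ∈ I ↔ ∃ c : F, w = c • w0) ∨
         ((2 : F) = 0 ∧ ∃ x y : ↥(Wsub B v v'), B (x : V) (x : V) = 0 ∧
            B (y : V) (y : V) = 0 ∧ B (x : V) (y : V) = 1 ∧
            ∀ w, w ∈ I ↔ ∃ a b : F, σ a = a ∧ σ b = b ∧ w = a • x + b • y)))) := by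
    intro h1 h1' htype
    obtain ⟨hA, hB'⟩ := ari_main hq2 hYpos hYq hIq hI2 h1 h1'
    refine ⟨hA, fun hlt => ?_⟩
    obtain ⟨hc1, hc2, hc3⟩ := hB' hlt
    exact ⟨hYbot hc1, hc2, hc3, htype hc2⟩
  have hX := ncard_nonzero I
  by_cases hIbot : I = ⊥
  · -- T0
    apply big
    rw [hIbot, AddSubgroup.card_bot]
    exact ari_T0 hq2 (Nat.mul_pos htpos hepos) hY2
  obtain ⟨u0, hu0I, hu00⟩ : ∃ u ∈ I, u ≠ 0 := by
    by_contra hcon
    push Not at hcon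
    exact hIbot ((AddSubgroup.eq_bot_iff_forall _).mpr hcon)
  by_cases hα : ∃ w ∈ I, B (w : V) (w : V) ≠ 0
  · -- T1
    apply big
    obtain ⟨w, hwI, hw⟩ := hα
    have hw0 : w ≠ 0 := by
      rintro rfl
      apply hw
      simp
    have hst := STABL hσ hB hN hF h h4 w hw
    have hO := card_le_mul_orb_L hD S hS w (q + 1) hst
    have hsub := orb_subset hD S hS I hSI hwI hw0
    have h5 : (orb D S w).ncard ≤ Nat.card I - 1 := by
      have := Set.ncard_le_ncard hsub (Set.toFinite _)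
      omega
    have hScard : Nat.card S ≤ (q + 1) * (Nat.card I - 1) :=
      hO.trans (Nat.mul_le_mul_left _ h5)
    rcases Nat.even_or_odd q with heven | hodd
    · have h2F : (2 : F) = 0 := h2iff.mpr heven
      have hq4 : 4 ≤ q := by
        by_contra hlt
        have hq2' : q = 2 := by
          obtain ⟨r, hr⟩ := heven
          omega
        have hcY1 : Nat.card Y = 1 := by omega
        have hYb := hYbot hcY1
        obtain ⟨a, haY, haw⟩ := h2 h2F w hwI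
        rw [hYb, AddSubgroup.mem_bot] at haY
        apply hw
        rw [← haw, haY]
        rfl
      exact ari_T1 (by omega) (Or.inl ⟨rfl, hq4⟩) hIpos hIq hY2 hScard (by rw [hprod, hLcard])
    · have h3Y := three_mul_card_le q hAcard hodd Y hY
      have hq3 : 3 ≤ q := by
        obtain ⟨r, hr⟩ := hodd
        omega
      exact ari_T1 hq3 (Or.inr rfl) hIpos hIq h3Y hScard (by rw [hprod, hLcard])
  push Not at hα
  by_cases hcol : ∀ b ∈ I, ∃ c : F, (b : V) = c • (u0 : V)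
  · -- T2a
    have hE : q + 1 ≤ e :=
      hborel (S ⊓ D.K) inf_le_right u0 hu00 (hα u0 hu0I)
        (fun k hk => hcol _ (hSI k hk.1 u0 hu0I))
    apply endgame
    · calc (q + 1) * Nat.card Y ≤ e * t := Nat.mul_le_mul hE htY
        _ = t * e := mul_comm _ _
    · intro hne
      calc (q + 1) * (Nat.card Y + 1) ≤ e * t := Nat.mul_le_mul hE (htY' (hYne hne))
        _ = t * e := mul_comm _ _
    · intro hc
      left
      exact ⟨u0, hu00, hα u0 hu0I, COLLI hF I u0 hu00 hcol hc⟩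
  · -- T2b
    push Not at hcol
    obtain ⟨b, hbI, hb⟩ := hcol
    have hnc : ∃ u ∈ I, ∃ b ∈ I, u ≠ 0 ∧ ¬ ∃ c : F, (b : V) = c • (u : V) :=
      ⟨u0, hu0I, b, hbI, hu00, fun ⟨c, hc⟩ => hb c hc⟩
    rcases Nat.even_or_odd q with heven | hodd
    · have h2F : (2 : F) = 0 := h2iff.mpr heven
      obtain ⟨hT, hT'⟩ := EVENT hσ hB hN hF h h4 h2F S I Y hS hY hα hnc hSI hSY
      apply endgame
      · exact hT.trans (Nat.le_mul_of_pos_right _ hepos)
      · intro hne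
        exact (hT' (hYne hne)).trans (Nat.le_mul_of_pos_right _ hepos)
      · intro hc
        right
        exact ⟨h2F, EVENI hσ hB hN hF h h4 h2F I hα hnc hc⟩
    · have h2F : (2 : F) ≠ 0 := fun h2' => (Nat.not_even_iff_odd.mpr hodd) (h2iff.mp h2')
      apply big
      have hIq' := ODDI hσ hB hN hF h h4 h2F I Y hY hα hnc hβ
      have hO := card_le_mul_orb hD (S ⊓ D.K) inf_le_right u0 q (hstab u0 hu00)
      have hsub := orb_subset hD (S ⊓ D.K) (inf_le_right.trans hKL) I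
        (fun k hk w hw => hSI k hk.1 w hw) hu0I hu00
      have h5 : (orb D (S ⊓ D.K) u0).ncard ≤ Nat.card I - 1 := by
        have := Set.ncard_le_ncard hsub (Set.toFinite _)
        omega
      have hEcard : Nat.card ↥(S ⊓ D.K) ≤ q * (Nat.card I - 1) :=
        hO.trans (Nat.mul_le_mul_left _ h5)
      exact ari_T2bo hq2 hIpos hIq' htY hEcard heE

/-- characteristic 2: the square of an Eichler element is the root element `t_v(B w w)` -/
theorem eich_sq (hB : IsHerm B) (h2 : (2 : F) = 0) {v w : V} (hv : B v v = 0) (hwv : B w v = 0)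
    (c : F) : eich B v w c * eich B v w c = utv B v (B w w) := by
  rw [eich_mul' hB hv hwv hwv]
  have h1 : w + w = 0 := by
    have : w + w = (2 : F) • w := by rw [two_smul]
    rw [this, h2, zero_smul]
  have h3 : c + c - B w w = B w w := by linear_combination (c - B w w) * h2
  rw [h1, h3, eich_zero hv]

/-- **LOC, orbit form** (LOC + UQ-A1). -/
theorem LOC_orbit [Finite F] [FiniteDimensional F V] (hσ : Invol σ) (hB : IsHerm B)
    (hN : NondegOn B ⊤) {q : ℕ} (hF : Nat.card F = q ^ 2) {v v' : V} (h : HypPair B v v')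
    (h4 : finrank F V = 4) {Ω : Type*} [MulAction ↥(SUg B) Ω] [Finite Ω] (ω : Ω)
    (hω : ∃ a, (udat hσ hB h).x a • ω ≠ ω) :
    (q + 1) * q ^ 3 ≤ Nat.card (MulAction.orbit ↥((udat hσ hB h).Q ⊔ (udat hσ hB h).L) ω) ∧
    (Nat.card (MulAction.orbit ↥((udat hσ hB h).Q ⊔ (udat hσ hB h).L) ω) < (q + 1) * (q ^ 3 + 1) →
      Nat.card (MulAction.orbit ↥((udat hσ hB h).Q ⊔ (udat hσ hB h).L) ω) = (q + 1) * q ^ 3 ∧
      (∀ a, (udat hσ hB h).x a • ω = ω → a = 0) ∧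
      ((∃ w0 : ↥(Wsub B v v'), w0 ≠ 0 ∧ B (w0 : V) (w0 : V) = 0 ∧
          ∀ w, (∃ g ∈ (udat hσ hB h).Q, g • ω = ω ∧ (udat hσ hB h).π g = w) ↔
            ∃ c : F, w = c • w0) ∨
       ((2 : F) = 0 ∧ ∃ x y : ↥(Wsub B v v'), B (x : V) (x : V) = 0 ∧ B (y : V) (y : V) = 0 ∧
          B (x : V) (y : V) = 1 ∧
          ∀ w, (∃ g ∈ (udat hσ hB h).Q, g • ω = ω ∧ (udat hσ hB h).π g = w) ↔
            ∃ a b : F, σ a = a ∧ σ b = b ∧ w = a • x + b • y))) := by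
  classical
  have hV : Finite V := Module.finite_of_finite F
  have hfin : Finite ↥(SUg B) := by
    have : Finite (V ≃ₗ[F] V) := Finite.of_injective (fun e => (e : V → V)) DFunLike.coe_injective
    exact Subtype.finite
  have hD := udat_ok hσ hB hN h
  have hcardW : Nat.card ↥(Wsub B v v') = q ^ 4 := by
    rw [Cfsg.Agent.Lib.Helper27_UQ_CARD.card_Wsub hF h, h4]
  have hAcard : Nat.card ↥(skewA σ) = q := Cfsg.Agent.Lib.Helper95_UQ_FLD.card_skew hσ hF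
  have hFinA : Finite ↥(skewA σ) := Subtype.finite
  obtain ⟨Y, I, S, hYm, hIm, hSm, hβ, hSI, hSY, hcount⟩ :=
    Cfsg.Agent.Lib.Helper95_UQ_A1.A1 (udat hσ hB h) hD ω
  have hSL : S ≤ (udat hσ hB h).L := fun l hl => ((hSm l).mp hl).1
  have hYtop : Y ≠ ⊤ := by
    intro htop
    obtain ⟨a, ha⟩ := hω
    apply ha
    rw [← hYm a, htop]
    exact AddSubgroup.mem_top a
  have h2' : (2 : F) = 0 → ∀ w ∈ I, ∃ a ∈ Y, (a : F) = B (w : V) (w : V) := by
    intro h2 w hw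
    obtain ⟨g, hgQ, hgω, hgπ⟩ := (hIm w).mp hw
    obtain ⟨w', c, hw', hc, rfl⟩ := Q_cases hσ hB h hgQ
    rw [π_eich hσ hB h hw' hc] at hgπ
    have hskew : σ (B w' w') = -(B w' w') := by
      rw [herm_self hB]
      linear_combination (B w' w') * h2
    refine ⟨⟨B w' w', hskew⟩, ?_, ?_⟩
    · rw [hYm]
      have hsq : (udat hσ hB h).x ⟨B w' w', hskew⟩ =
          (⟨eich B v w' c, eich_mem_SUg hB hc⟩ : ↥(SUg B)) * ⟨eich B v w' c, eich_mem_SUg hB hc⟩ := by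
        apply Subtype.ext
        rw [Subgroup.coe_mul, x_coe]
        exact (eich_sq hB h2 h.ee hw'.1 c).symm
      rw [hsq, mul_smul, hgω, hgω]
    · rw [← hgπ]
  obtain ⟨k1, k2⟩ := LOC hσ hB hN hF h h4 S I Y hSL hYtop hβ h2' hSI hSY
  have hQ : Nat.card (udat hσ hB h).Q = q ^ 5 := by
    rw [Cfsg.Agent.Lib.Helper61_UQ_CARDQ.cardQ (udat hσ hB h) hD, hcardW, hAcard]
    ring
  rw [hQ] at hcount
  have hIpos : 0 < Nat.card I := Nat.card_pos
  have hYpos : 0 < Nat.card Y := Nat.card_pos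
  have hpos : 0 < Nat.card Y * Nat.card I := Nat.mul_pos hYpos hIpos
  set O := Nat.card (MulAction.orbit ↥((udat hσ hB h).Q ⊔ (udat hσ hB h).L) ω) with hO
  set te := (S ⊔ (udat hσ hB h).K).relIndex (udat hσ hB h).L *
        (S ⊓ (udat hσ hB h).K).relIndex (udat hσ hB h).K with hte
  have hcount' : O * (Nat.card I * Nat.card Y) = te * q ^ 5 := by
    rw [mul_comm (Nat.card I), hcount]
    ring
  constructor
  · apply Nat.le_of_mul_le_mul_right _ (show 0 < Nat.card I * Nat.card Y by rw [mul_comm]; exact hpos)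
    rw [hcount']
    exact k1
  · intro hlt
    have hlt' : te * q ^ 5 < (q + 1) * (q ^ 3 + 1) * (Nat.card I * Nat.card Y) := by
      rw [← hcount']
      exact Nat.mul_lt_mul_of_pos_right hlt (by rw [mul_comm]; exact hpos)
    obtain ⟨hYb, hcI, hte', htype⟩ := k2 hlt'
    refine ⟨?_, ?_, ?_⟩
    · rw [hYb, AddSubgroup.card_bot, hcI, hte', mul_one] at hcount'
      have hq2pos : 0 < q ^ 2 := by
        rw [← hcI]; exact hIpos
      apply Nat.eq_of_mul_eq_mul_right hq2pos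
      rw [hcount']
      ring
    · intro a ha
      have : a ∈ Y := (hYm a).mpr ha
      rw [hYb, AddSubgroup.mem_bot] at this
      exact this
    · rcases htype with ⟨w0, h0, h1, hI'⟩ | ⟨h2F, x, y, hx, hy, hxy, hI'⟩
      · left
        exact ⟨w0, h0, h1, fun w => by rw [← hIm w]; exact hI' w⟩
      · right
        exact ⟨h2F, x, y, hx, hy, hxy, fun w => by rw [← hIm w]; exact hI' w⟩

end Cfsg.Agent.Lib.Helper27_U4_LOC
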