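import Mathlib
import Cfsg.Agent.Lib.Helper37_UTDefs
import Cfsg.Agent.Lib.Helper37_UTPairDefs
import Cfsg.Agent.Lib.Helper17_UT_BAS1
import Cfsg.Agent.Lib.Helper44_UT_BAS4

set_option autoImplicit false
set_option linter.unusedSectionVars false
set_option linter.unusedVariables false

/-!
# UTENS market (architect helper37), package UT-STABA (`stab_a`), formalised by helper27

A Kronecker isometry `P ⊗ Q` with the same action as `g` on the layers of the flag
`x ⊗ B < x^⊥ ⊗ B < V` (pure linear algebra, `a ≥ 3`).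
Paper proof: `pending/helper37/UTENS_part2.md`, STABA.
-/

namespace Cfsg.Agent.Lib.Helper27_UT_STABA

open Matrix Module
open Cfsg.Agent.Lib.Helper98_ExtDefs Cfsg.Agent.Lib.Helper97_TensDefs
open Cfsg.Agent.Lib.Helper94_Herm Cfsg.Agent.Lib.Helper13_PSUSimple
open Cfsg.Agent.Lib.Helper94_HermEich
open Cfsg.Agent.Lib.Helper67_UT2Defs Cfsg.Agent.Lib.Helper37_UTDefs
open Cfsg.Agent.Lib.Helper37_UTPairDefs
open Cfsg.Agent.Lib.Helper17_UT_BAS1 Cfsg.Agent.Lib.Helper44_UT_BAS4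

variable {F : Type*} [Field F] {ι κ : Type*} [Fintype ι] [Fintype κ] [DecidableEq ι]
  [DecidableEq κ] {σ : F →+* F}
variable {α : (ι → F) →ₗ[F] (ι → F) →ₛₗ[σ] F} {β : (κ → F) →ₗ[F] (κ → F) →ₛₗ[σ] F}

/-- the isometry `P` of `A` : `x ↦ σ ν x`, `x* ↦ ν⁻¹ x*`, `c ↦ ν⁻¹ pr_C (φ c)` on `C` -/
theorem exists_P (hσ : Invol σ) (hα : IsHerm α) (hαN : NondegOn α ⊤) {x xs : ι → F}
    (hx : α x x = 0) (hxs : α xs xs = 0) (hxxs : α x xs = 1) (φ : (ι → F) →ₗ[F] (ι → F))
    {ν μ : F} (hν : ν * σ ν * μ = 1)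
    (h2 : ∀ c, α c x = 0 → α (φ c) x = 0)
    (hφ : ∀ c c', α c x = 0 → α c' x = 0 → μ * α (φ c) (φ c') = α c c') :
    ∃ P : (ι → F) ≃ₗ[F] (ι → F), P ∈ uG α ∧ P x = σ ν • x ∧
      ∀ c, α c x = 0 → α c xs = 0 → ∃ t : F, ν • P c = φ c + t • x := by
  have hxsx : α xs x = 1 := by rw [hα x xs, hxxs, map_one]
  have hν0 : ν ≠ 0 := by
    rintro rfl
    simp at hν
  have hσν0 : σ ν ≠ 0 := (map_ne_zero σ).mpr hν0
  have hμ0 : μ ≠ 0 := by
    rintro rfl
    simp at hν
  set prC : (ι → F) →ₗ[F] (ι → F) :=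
    LinearMap.id - (α.flip xs).smulRight x - (α.flip x).smulRight xs with hprC
  have prC_apply : ∀ a, prC a = a - α a xs • x - α a x • xs := by
    intro a
    simp [hprC]
  have prC_x : ∀ a, α (prC a) x = 0 := by
    intro a
    rw [prC_apply]
    simp only [map_sub, map_smul, LinearMap.sub_apply, LinearMap.smul_apply, smul_eq_mul, hx, hxsx]
    ring
  have prC_xs : ∀ a, α (prC a) xs = 0 := by
    intro a
    rw [prC_apply]
    simp only [map_sub, map_smul, LinearMap.sub_apply, LinearMap.smul_apply, smul_eq_mul, hxs,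
      hxxs]
    ring
  have x_prC : ∀ a, α x (prC a) = 0 := fun a => herm_eq_zero hα (prC_x a)
  have xs_prC : ∀ a, α xs (prC a) = 0 := fun a => herm_eq_zero hα (prC_xs a)
  have key2 : ∀ a a', α (prC a) (prC a') =
      α a a' - α a x * σ (α a' xs) - α a xs * σ (α a' x) := by
    intro a a'
    have h : α (prC a) (prC a') = α a (prC a') := by
      rw [prC_apply a]
      simp only [map_sub, map_smul, LinearMap.sub_apply, LinearMap.smul_apply, smul_eq_mul,
        x_prC, xs_prC]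
      ring
    rw [h, prC_apply a']
    simp only [map_sub, map_smulₛₗ, smul_eq_mul]
    ring
  have key1 : ∀ u u', α u x = 0 → α u' x = 0 → α (prC u) (prC u') = α u u' := by
    intro u u' hu hu'
    rw [key2, hu, hu']
    simp
  set P₀ : (ι → F) →ₗ[F] (ι → F) :=
    (σ ν) • (α.flip xs).smulRight x + ν⁻¹ • (α.flip x).smulRight xs
      + ν⁻¹ • (prC ∘ₗ φ ∘ₗ prC) with hP₀
  have P₀_apply : ∀ a, P₀ a =
      (σ ν * α a xs) • x + (ν⁻¹ * α a x) • xs + ν⁻¹ • prC (φ (prC a)) := by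
    intro a
    simp [hP₀, smul_smul]
  have iso : ∀ a a', α (P₀ a) (P₀ a') = α a a' := by
    intro a a'
    rw [P₀_apply, P₀_apply]
    simp only [map_add, map_smul, map_smulₛₗ, LinearMap.add_apply, LinearMap.smul_apply,
      smul_eq_mul, hx, hxs, hxxs, hxsx, prC_x, prC_xs, x_prC, xs_prC, map_mul, hσ.invol,
      map_inv₀]
    rw [key1 _ _ (h2 _ (prC_x a)) (h2 _ (prC_x a'))]
    have h5 := hφ _ _ (prC_x a) (prC_x a')
    rw [key2] at h5
    field_simp
    linear_combination (ν * σ ν) * h5 - α (φ (prC a)) (φ (prC a')) * hν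
  have hinj : Function.Injective P₀ := by
    rw [injective_iff_map_eq_zero]
    intro a ha
    by_contra ha0
    obtain ⟨y, -, hy⟩ := hαN a trivial ha0
    apply hy
    rw [← iso a y, ha, map_zero, LinearMap.zero_apply]
  refine ⟨LinearEquiv.ofInjectiveEndo P₀ hinj, ?_, ?_, ?_⟩
  · intro a a'
    rw [LinearEquiv.coe_ofInjectiveEndo]
    exact iso a a'
  · rw [LinearEquiv.coe_ofInjectiveEndo, P₀_apply]
    have h0 : prC x = 0 := by
      rw [prC_apply, hx, hxxs]
      simp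
    rw [h0, hx, hxxs]
    simp
  · intro c hc hcs
    rw [LinearEquiv.coe_ofInjectiveEndo, P₀_apply]
    have h0 : prC c = c := by
      rw [prC_apply, hc, hcs]
      simp
    refine ⟨-(α (φ c) xs), ?_⟩
    rw [h0, hc, hcs, prC_apply, h2 c hc]
    simp only [mul_zero, zero_smul, zero_add, sub_zero, smul_smul]
    rw [mul_inv_cancel₀ hν0, one_smul, neg_smul, sub_eq_add_neg]

/-- a matrix is the sum of its columns tensor the standard basis vectors -/
theorem eq_sum_cols (Y : Matrix ι κ F) :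
    Y = ∑ j, vecMulVec (colv Y j) (Pi.single j (1 : F) : κ → F) := by
  ext i l
  rw [Matrix.sum_apply]
  simp [vecMulVec_apply, colv, Pi.single_apply]

theorem stab_a [Finite F] (hσ : Invol σ) (hα : IsHerm α) (hαN : NondegOn α ⊤) (hβ : IsHerm β)
    (hβN : NondegOn β ⊤) (h3 : 3 ≤ Fintype.card ι) {x : ι → F} (hx0 : x ≠ 0) (hx : α x x = 0)
    {g : Matrix ι κ F ≃ₗ[F] Matrix ι κ F} (hg : g ∈ uG (tf α β))
    (hst : ∀ w : κ → F, ∃ w' : κ → F, g (vecMulVec x w) = vecMulVec x w')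
    (g₃ : (κ → F) →ₗ[F] (κ → F)) (φ : (ι → F) →ₗ[F] (ι → F))
    (h1 : ∀ X, ctrA α x (g X) = g₃ (ctrA α x X))
    (h2 : ∀ c, α c x = 0 → α (φ c) x = 0)
    (h3' : ∀ c w, α c x = 0 → g (vecMulVec c w) - vecMulVec (φ c) (g₃ w) ∈ fibB (κ := κ) x) :
    ∃ (P : (ι → F) ≃ₗ[F] (ι → F)) (Q : (κ → F) ≃ₗ[F] (κ → F)), P ∈ uG α ∧ Q ∈ uG β ∧
      InQ α x (g * (tmE P Q)⁻¹) := by
  classical
  rcases isEmpty_or_nonempty κ with hκ | hκ
  · refine ⟨1, 1, Subgroup.one_mem _, Subgroup.one_mem _, ?_, ?_⟩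
    · intro w
      exact Subsingleton.elim _ _
    · intro X _
      have : (g * (tmE (1 : (ι → F) ≃ₗ[F] (ι → F)) (1 : (κ → F) ≃ₗ[F] (κ → F)))⁻¹) X - X = 0 :=
        Subsingleton.elim _ _
      rw [this]
      exact Submodule.zero_mem _
  obtain ⟨j₀⟩ := hκ
  -- the partner of `x`
  obtain ⟨xs, -, hxs, hxxs⟩ := exists_partner hσ hα hαN (Submodule.mem_top) hx0 hx
  have hxsx : α xs x = 1 := by rw [hα x xs, hxxs, map_one]
  -- the action `g₁` on `x ⊗ B`
  set g₁ : (κ → F) →ₗ[F] (κ → F) := ctrA α xs ∘ₗ g.toLinearMap ∘ₗ vmR x with hg₁def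
  have hg₁ : ∀ w, g (vecMulVec x w) = vecMulVec x (g₁ w) := by
    intro w
    obtain ⟨w', hw'⟩ := hst w
    have : g₁ w = w' := by
      simp only [hg₁def, LinearMap.comp_apply, vmR_apply, LinearEquiv.coe_coe]
      rw [hw', ctrA_pure, hxxs, one_smul]
    rw [this, hw']
  -- (E1)
  have E1 : ∀ w w', β (g₃ w') (g₁ w) = β w' w := by
    intro w w'
    have h := hg (vecMulVec xs w') (vecMulVec x w)
    rw [hg₁ w, tf_right_pure', h1, ctrA_pure, hxsx, one_smul, tf_pure, hxsx, one_mul] at h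
    exact h
  -- (E2)
  have E2 : ∀ c c' w w', α c x = 0 → α c' x = 0 →
      α (φ c) (φ c') * β (g₃ w) (g₃ w') = α c c' * β w w' := by
    intro c c' w w' hc hc'
    obtain ⟨u, hu⟩ := h3' c w hc
    obtain ⟨u', hu'⟩ := h3' c' w' hc'
    have e : g (vecMulVec c w) = vecMulVec (φ c) (g₃ w) + vecMulVec x u := by
      rw [← hu]; abel
    have e' : g (vecMulVec c' w') = vecMulVec (φ c') (g₃ w') + vecMulVec x u' := by
      rw [← hu']; abel
    have h := hg (vecMulVec c w) (vecMulVec c' w')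
    rw [e, e'] at h
    simp only [map_add, LinearMap.add_apply, tf_pure, hx, h2 c hc,
      herm_eq_zero hα (h2 c' hc'), zero_mul, add_zero] at h
    exact h
  -- an anisotropic vector of `C = ⟨x, x*⟩^⊥`
  obtain ⟨c₀, hc₀x, hc₀xs, hc₀⟩ : ∃ c₀, α c₀ x = 0 ∧ α c₀ xs = 0 ∧ α c₀ c₀ ≠ 0 := by
    have hC := nondegOn_pair hα hαN (Submodule.mem_top : x ∈ (⊤ : Submodule F (ι → F)))
      (Submodule.mem_top : xs ∈ (⊤ : Submodule F (ι → F))) hx hxs hxxs
    obtain ⟨a₀, ha₀⟩ : ∃ a₀ : ι → F, a₀ ∉ Submodule.span F (({x, xs} : Finset (ι → F)) : Set (ι → F)) := by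
      by_contra hcon
      push Not at hcon
      have htop : Submodule.span F (({x, xs} : Finset (ι → F)) : Set (ι → F)) = ⊤ :=
        Submodule.eq_top_iff'.mpr hcon
      have h4 : finrank F (Submodule.span F (({x, xs} : Finset (ι → F)) : Set (ι → F))) ≤
          ({x, xs} : Finset (ι → F)).card := finrank_span_finset_le_card (R := F) _
      rw [htop, finrank_top, Module.finrank_fintype_fun_eq_card] at h4
      have h5 : ({x, xs} : Finset (ι → F)).card ≤ 2 := Finset.card_le_two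
      omega
    set c₁ := a₀ - α a₀ xs • x - α a₀ x • xs with hc₁
    have hc₁x : α c₁ x = 0 := by
      rw [hc₁]
      simp only [map_sub, map_smul, LinearMap.sub_apply, LinearMap.smul_apply, smul_eq_mul, hx,
        hxsx]
      ring
    have hc₁xs : α c₁ xs = 0 := by
      rw [hc₁]
      simp only [map_sub, map_smul, LinearMap.sub_apply, LinearMap.smul_apply, smul_eq_mul, hxs,
        hxxs]
      ring
    have hc₁0 : c₁ ≠ 0 := by
      intro h0
      apply ha₀
      have : a₀ = α a₀ xs • x + α a₀ x • xs := by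
        rw [hc₁] at h0
        rw [sub_sub, sub_eq_zero] at h0
        exact h0
      rw [this]
      refine Submodule.add_mem _ (Submodule.smul_mem _ _ (Submodule.subset_span ?_))
        (Submodule.smul_mem _ _ (Submodule.subset_span ?_))
      · simp
      · simp
    have hc₁C : c₁ ∈ (⊤ : Submodule F (ι → F)) ⊓ orthV α x ⊓ orthV α xs :=
      Submodule.mem_inf.mpr ⟨Submodule.mem_inf.mpr ⟨Submodule.mem_top, mem_orthV.mpr hc₁x⟩,
        mem_orthV.mpr hc₁xs⟩
    obtain ⟨d, hdC, hd⟩ := exists_aniso hσ hα hC hc₁C hc₁0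
    exact ⟨d, mem_orthV.mp hdC.1.2, mem_orthV.mp hdC.2, hd⟩
  -- `β ≠ 0`
  obtain ⟨w₀, w₀', hw₀⟩ : ∃ w₀ w₀' : κ → F, β w₀ w₀' ≠ 0 := by
    have hne : (Pi.single j₀ (1 : F) : κ → F) ≠ 0 := by
      intro h
      have := congrFun h j₀
      simp at this
    obtain ⟨y, -, hy⟩ := hβN _ Submodule.mem_top hne
    exact ⟨_, y, hy⟩
  -- the multiplier
  set n₀ := α c₀ c₀ with hn₀
  set m₀ := α (φ c₀) (φ c₀) with hm₀
  have hm₀0 : m₀ ≠ 0 := by
    intro h0
    have h := E2 c₀ c₀ w₀ w₀' hc₀x hc₀x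
    rw [← hm₀, h0, zero_mul] at h
    exact (mul_ne_zero hc₀ hw₀) h.symm
  have hσn₀ : σ n₀ = n₀ := herm_self hα c₀
  have hσm₀ : σ m₀ = m₀ := herm_self hα (φ c₀)
  set μ := n₀ / m₀ with hμ
  have hμ0 : μ ≠ 0 := div_ne_zero hc₀ hm₀0
  have hσμ : σ μ = μ := by rw [hμ, map_div₀, hσn₀, hσm₀]
  have hsim : ∀ w w', β (g₃ w) (g₃ w') = μ * β w w' := by
    intro w w'
    have h := E2 c₀ c₀ w w' hc₀x hc₀x
    rw [← hm₀, ← hn₀] at h
    rw [hμ]
    field_simp
    linear_combination h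
  have hφ : ∀ c c', α c x = 0 → α c' x = 0 → μ * α (φ c) (φ c') = α c c' := by
    intro c c' hc hc'
    have h := E2 c c' w₀ w₀' hc hc'
    rw [hsim] at h
    have : (μ * α (φ c) (φ c') - α c c') * β w₀ w₀' = 0 := by linear_combination h
    rcases mul_eq_zero.mp this with h' | h'
    · exact sub_eq_zero.mp h'
    · exact absurd h' hw₀
  have hg₃inj : Function.Injective g₃ := by
    rw [injective_iff_map_eq_zero]
    intro w hw
    by_contra hw0
    obtain ⟨y, -, hy⟩ := hβN w Submodule.mem_top hw0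
    have h := hsim w y
    rw [hw, map_zero, LinearMap.zero_apply] at h
    exact (mul_ne_zero hμ0 hy) h.symm
  have hg₃surj : Function.Surjective g₃ := LinearMap.injective_iff_surjective.mp hg₃inj
  have hg₁eq : ∀ w, g₁ w = μ⁻¹ • g₃ w := by
    intro w
    by_contra hne
    have hne' : g₁ w - μ⁻¹ • g₃ w ≠ 0 := sub_ne_zero.mpr hne
    obtain ⟨y, -, hy⟩ := hβN _ Submodule.mem_top hne'
    obtain ⟨w', rfl⟩ := hg₃surj y
    apply hy
    apply herm_eq_zero hβ
    rw [map_sub, map_smulₛₗ, E1, hsim, smul_eq_mul, map_inv₀, hσμ]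
    field_simp
    ring
  -- `ν`
  obtain ⟨ν, hν⟩ := norm_surj hσ μ⁻¹ (by rw [map_inv₀, hσμ])
  have hνμ : ν * σ ν * μ = 1 := by rw [hν, inv_mul_cancel₀ hμ0]
  have hν0 : ν ≠ 0 := by
    rintro rfl
    simp at hνμ
  -- `Q`
  have hQinj : Function.Injective (ν • g₃) := by
    intro w w' h
    apply hg₃inj
    have h' : ν • g₃ w = ν • g₃ w' := h
    exact smul_right_injective _ hν0 h'
  set Q : (κ → F) ≃ₗ[F] (κ → F) := LinearEquiv.ofInjectiveEndo (ν • g₃) hQinj with hQdef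
  have hQ : ∀ w, Q w = ν • g₃ w := by
    intro w
    rw [hQdef, LinearEquiv.coe_ofInjectiveEndo]
    rfl
  have hQu : Q ∈ uG β := by
    intro w w'
    rw [hQ, hQ]
    simp only [map_smul, map_smulₛₗ, LinearMap.smul_apply, smul_eq_mul, hsim]
    linear_combination β w w' * hνμ
  -- `P`
  obtain ⟨P, hPu, hPx, hPC⟩ := exists_P hσ hα hαN hx hxs hxxs φ hνμ h2 hφ
  refine ⟨P, Q, hPu, hQu, ?_⟩
  -- `k = P ⊗ Q`
  have hk1 : ∀ w, tmE P Q (vecMulVec x w) = g (vecMulVec x w) := by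
    intro w
    rw [tmE_pure, hg₁, hPx, hQ, hg₁eq, ← hν]
    ext i l
    simp only [vecMulVec_apply, Pi.smul_apply, smul_eq_mul]
    ring
  have hPax : ∀ a, α (P a) x = ν⁻¹ * α a x := by
    intro a
    have h := hPu a x
    rw [hPx, map_smulₛₗ, hσ.invol, smul_eq_mul] at h
    rw [← h]
    field_simp
  have hk2 : ∀ X, ctrA α x (tmE P Q X) = g₃ (ctrA α x X) := by
    intro X
    refine h44_induction (p := fun X => ctrA α x (tmE P Q X) = g₃ (ctrA α x X)) ?_ ?_ ?_ X
    · simp only [map_zero]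
    · intro X Y hX hY
      simp only [map_add, hX, hY]
    · intro a b
      rw [tmE_pure, ctrA_pure, ctrA_pure, hPax, hQ, map_smul, smul_smul]
      congr 1
      field_simp
  have hk3C : ∀ c w, α c x = 0 → α c xs = 0 →
      g (vecMulVec c w) - tmE P Q (vecMulVec c w) ∈ fibB (κ := κ) x := by
    intro c w hc hcs
    obtain ⟨u, hu⟩ := h3' c w hc
    obtain ⟨t, ht⟩ := hPC c hc hcs
    refine ⟨u - t • g₃ w, ?_⟩
    have e : g (vecMulVec c w) = vecMulVec (φ c) (g₃ w) + vecMulVec x u := by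
      rw [← hu]; abel
    have e2 : tmE P Q (vecMulVec c w) = vecMulVec (φ c) (g₃ w) + vecMulVec x (t • g₃ w) := by
      rw [tmE_pure, hQ, Matrix.vecMulVec_smul, ← Matrix.smul_vecMulVec, ht, Matrix.add_vecMulVec,
        Matrix.smul_vecMulVec, Matrix.vecMulVec_smul]
    rw [e, e2, Matrix.vecMulVec_sub]
    abel
  have hk3 : ∀ c w, α c x = 0 →
      g (vecMulVec c w) - tmE P Q (vecMulVec c w) ∈ fibB (κ := κ) x := by
    intro c w hc
    have hc' : c = α c xs • x + (c - α c xs • x) := by abel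
    have h5 : α (c - α c xs • x) x = 0 := by
      rw [map_sub, map_smul, LinearMap.sub_apply, LinearMap.smul_apply, hc, hx, smul_zero,
        sub_zero]
    have h6 : α (c - α c xs • x) xs = 0 := by
      rw [map_sub, map_smul, LinearMap.sub_apply, LinearMap.smul_apply, hxxs, smul_eq_mul,
        mul_one, sub_self]
    have h7 := hk3C (c - α c xs • x) w h5 h6
    have h8 : vecMulVec c w = vecMulVec x (α c xs • w) + vecMulVec (c - α c xs • x) w := by
      conv_lhs => rw [hc']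
      rw [Matrix.add_vecMulVec, Matrix.smul_vecMulVec, Matrix.vecMulVec_smul]
    rw [h8, map_add, map_add, hk1]
    have : g (vecMulVec x (α c xs • w)) + g (vecMulVec (c - α c xs • x) w) -
        (g (vecMulVec x (α c xs • w)) + tmE P Q (vecMulVec (c - α c xs • x) w)) =
        g (vecMulVec (c - α c xs • x) w) - tmE P Q (vecMulVec (c - α c xs • x) w) := by abel
    rw [this]
    exact h7
  have hk4 : ∀ Y, ctrA α x Y = 0 → g Y - tmE P Q Y ∈ fibB (κ := κ) x := by
    intro Y hY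
    have hY' : ∀ j, α (colv Y j) x = 0 := by
      intro j
      have := congrFun hY j
      rwa [ctrA_apply] at this
    rw [eq_sum_cols Y, map_sum, map_sum, ← Finset.sum_sub_distrib]
    refine Submodule.sum_mem _ fun j _ => ?_
    exact hk3 _ _ (hY' j)
  have hinv : ∀ X, ((tmE P Q)⁻¹ : Matrix ι κ F ≃ₗ[F] Matrix ι κ F) X = (tmE P Q).symm X :=
    fun X => rfl
  constructor
  · intro w
    obtain ⟨w'', hw''⟩ := hg₃surj (μ • w)
    have hw1 : g₁ w'' = w := by
      rw [hg₁eq, hw'', smul_smul, inv_mul_cancel₀ hμ0, one_smul]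
    have h9 : tmE P Q (vecMulVec x w'') = vecMulVec x w := by
      rw [hk1, hg₁, hw1]
    rw [LinearEquiv.mul_apply, hinv, ← h9, LinearEquiv.symm_apply_apply, ← hk1]
  · intro X hX
    rw [LinearEquiv.mul_apply, hinv]
    set Y := (tmE P Q).symm X with hYdef
    have hXY : X = tmE P Q Y := by
      rw [hYdef, LinearEquiv.apply_symm_apply]
    have hY0 : ctrA α x Y = 0 := by
      apply hg₃inj
      rw [← hk2, ← hXY, hX, map_zero]
    have := hk4 Y hY0
    rw [← hXY] at this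
    exact this

end Cfsg.Agent.Lib.Helper27_UT_STABA
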