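import Mathlib

/-!
A verified checker for large coset enumerations with proof traces (Todd-Coxeter with coincidences),
engineered for kernel evaluation on packed data.  By helper19.

Setting: a group `G`, letters `0, …, k-1` mapped to `S : ℕ → G`, with an inverse map on letters, a
subgroup `H`.  Right cosets `H * g`.  Names `0, …, M-1` with `rep 0 = 1`,
`rep z = rep (par z) * S (gen z)`.  A fact `(a, l, b)` says `rep a * L l * (rep b)⁻¹ ∈ H`
(`L l = S l` for letters, `1` for `l ≥ k`).  Facts `0, …, M-2` are the definitions of the names;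
every further fact is justified by a closed walk through earlier facts spelling a relator (from any
name) or a subgroup word (from name `0`).

The evaluation functions are written with explicit recursors, raw `Nat` operations and strict
application (`force`), because this is what the kernel evaluates fastest.
-/

set_option autoImplicit false

namespace Cfsg.Agent.Lib.helper19_TC2

universe u

/-- strict application: evaluates `n` before calling `f` (for kernel evaluation). -/
@[inline] def force {α : Sort u} (n : ℕ) (f : ℕ → α) : α :=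
  Nat.rec (motive := fun _ => α) (f (nat_lit 0)) (fun a _ => f a) (Nat.add n (nat_lit 1))

@[simp] theorem force_eq {α : Sort u} (n : ℕ) (f : ℕ → α) : force n f = f n := rfl

/-- `if b then t else e` by the recursor. -/
@[inline] def bsel {α : Sort u} (b : Bool) (t e : α) : α := Bool.rec (motive := fun _ => α) e t b

@[simp] theorem bsel_true {α : Sort u} (t e : α) : bsel true t e = t := rfl
@[simp] theorem bsel_false {α : Sort u} (t e : α) : bsel false t e = e := rfl

theorem lt_of_ble_false {a b : ℕ} (h : Nat.ble a b = false) : b < a := by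
  by_contra hh
  rw [Nat.ble_eq_true_of_le (by omega)] at h
  cases h

theorem le_of_ble_true {a b : ℕ} (h : Nat.ble a b = true) : a ≤ b := Nat.le_of_ble_eq_true h

/-- binary trie of packed leaves; index bits are consumed lowest first. -/
inductive Tr where
  | leaf (v : ℕ) : Tr
  | node (l r : Tr) : Tr

/-- lookup of a leaf in a trie. -/
noncomputable def Tr.get (t : Tr) : ℕ → ℕ :=
  Tr.rec (motive := fun _ => ℕ → ℕ) (fun v _ => v)
    (fun _ _ ihl ihr i => force (Nat.shiftRight i (nat_lit 1)) fun i' =>
      Nat.rec (motive := fun _ => ℕ) (ihl i') (fun _ _ => ihr i') (Nat.land i (nat_lit 1))) t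

/-- `n`-th element of a list of lists. -/
noncomputable def nthL (l : List (List ℕ)) : ℕ → List ℕ :=
  List.rec (motive := fun _ => ℕ → List ℕ) (fun _ => [])
    (fun w _ ih n => Nat.rec (motive := fun _ => List ℕ) w (fun m _ => ih m) n) l

/-- static data of a certificate. -/
structure Params where
  /-- number of letters -/
  k : ℕ
  /-- packed inverse letters, 8 bits each -/
  invTab : ℕ
  /-- number of words -/
  nwords : ℕ
  /-- relators and subgroup words -/
  words : List (List ℕ)
  /-- bit `wid` is set iff word `wid` is a subgroup word -/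
  subMask : ℕ
  /-- bits per name -/
  wn : ℕ
  /-- `2 * wn` -/
  wn2 : ℕ
  /-- `2 ^ wn - 1` -/
  nmask : ℕ
  /-- log₂ of the number of facts per leaf -/
  cb : ℕ
  /-- `2 ^ cb - 1` -/
  cmask : ℕ
  /-- bits per fact -/
  wF : ℕ
  /-- `2 ^ wF - 1` -/
  fmask : ℕ
  /-- bits per record field -/
  ws : ℕ
  /-- `2 ^ ws - 1` -/
  smask : ℕ
  /-- number of names -/
  M : ℕ
  /-- number of facts -/
  Fn : ℕ
  /-- the facts -/
  F : Tr
  /-- log₂ of the number of rows per leaf -/
  rcb : ℕ
  /-- `2 ^ rcb - 1` -/
  rcmask : ℕ
  /-- bits per row -/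
  wR : ℕ
  /-- the final rows, indexed by names -/
  R : Tr
  /-- the live names -/
  live : ℕ

namespace Params
variable (P : Params)

noncomputable def inv (l : ℕ) : ℕ :=
  Nat.land (Nat.shiftRight P.invTab (Nat.mul (nat_lit 8) l)) (nat_lit 255)
noncomputable def word (wid : ℕ) : List ℕ := nthL P.words wid
noncomputable def isSub (wid : ℕ) : Bool :=
  Nat.beq (Nat.land (Nat.shiftRight P.subMask wid) (nat_lit 1)) (nat_lit 1)
noncomputable def fact (id : ℕ) : ℕ :=
  Nat.land (Nat.shiftRight (P.F.get (Nat.shiftRight id P.cb)) (Nat.mul P.wF (Nat.land id P.cmask)))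
    P.fmask
noncomputable def fa (id : ℕ) : ℕ := Nat.land (P.fact id) P.nmask
noncomputable def fb (id : ℕ) : ℕ := Nat.land (Nat.shiftRight (P.fact id) P.wn) P.nmask
noncomputable def fl (id : ℕ) : ℕ := Nat.shiftRight (P.fact id) P.wn2
noncomputable def row (z : ℕ) : ℕ :=
  Nat.shiftRight (P.R.get (Nat.shiftRight z P.rcb)) (Nat.mul P.wR (Nat.land z P.rcmask))
noncomputable def isLive (z : ℕ) : Bool :=
  Nat.beq (Nat.land (Nat.shiftRight P.live z) (nat_lit 1)) (nat_lit 1)

end Params

/-- one step of a walk: from `cur` along the fact `f = (a, l, b)`; the continuation receives the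
next name and the remaining letters. -/
noncomputable def stepW (P : Params) (f cur : ℕ) (letters : List ℕ) (kont : ℕ → List ℕ → Bool) :
    Bool :=
  force (Nat.land f P.nmask) fun a =>
  force (Nat.land (Nat.shiftRight f P.wn) P.nmask) fun b =>
  force (Nat.shiftRight f P.wn2) fun l =>
  bsel (Nat.ble P.k l)
    (bsel (Nat.beq cur a) (kont b letters) (bsel (Nat.beq cur b) (kont a letters) false))
    (List.rec (motive := fun _ => Bool) false
      (fun c cs _ =>
        bsel (Nat.beq cur a && Nat.beq l c) (kont b cs)
          (bsel (Nat.beq cur b && Nat.beq (P.inv l) c) (kont a cs) false))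
      letters)

/-- follow `n` steps (packed in `v`) from the name `cur`, consuming letters; continuation-passing. -/
noncomputable def walk (P : Params) (j : ℕ) (n : ℕ) :
    ℕ → List ℕ → ℕ → (ℕ → List ℕ → ℕ → Bool) → Bool :=
  Nat.rec (motive := fun _ => ℕ → List ℕ → ℕ → (ℕ → List ℕ → ℕ → Bool) → Bool)
    (fun v letters cur kont => kont cur letters v)
    (fun _ ih v letters cur kont =>
      force (Nat.land v P.smask) fun id =>
      force (Nat.shiftRight v P.ws) fun v' =>
      bsel (Nat.ble j id) false
        (force (P.fact id) fun f =>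
          stepW P f cur letters fun cur' letters' => ih v' letters' cur' kont))
    n

/-- check of the record at the head of `r` justifying the derived fact `j`; the continuation
receives the rest of `r`. -/
noncomputable def checkRec (P : Params) (j r : ℕ) (kont : ℕ → Bool) : Bool :=
  force (Nat.land r P.smask) fun wid =>
  force (Nat.shiftRight r P.ws) fun r1 =>
  force (Nat.land r1 P.smask) fun u0 =>
  force (Nat.shiftRight r1 P.ws) fun r2 =>
  force (Nat.land r2 P.smask) fun np =>
  force (Nat.shiftRight r2 P.ws) fun r3 =>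
  force (Nat.land r3 P.smask) fun ns =>
  force (Nat.shiftRight r3 P.ws) fun r4 =>
  force (P.fact j) fun f =>
  force (Nat.land f P.nmask) fun a =>
  force (Nat.land (Nat.shiftRight f P.wn) P.nmask) fun b =>
  force (Nat.shiftRight f P.wn2) fun l =>
  bsel (Nat.ble P.nwords wid) false <|
  bsel (P.isSub wid && !(Nat.beq u0 (nat_lit 0))) false <|
  walk P j np r4 (P.word wid) u0 fun a' rest v =>
    bsel (Nat.beq a' a)
      (bsel (Nat.ble P.k l)
        (walk P j ns v rest b fun u fin v' => bsel (Nat.beq u u0 && fin.isEmpty) (kont v') false)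
        (List.rec (motive := fun _ => Bool) false
          (fun c rest' _ =>
            bsel (Nat.beq c l)
              (walk P j ns v rest' b fun u fin v' =>
                bsel (Nat.beq u u0 && fin.isEmpty) (kont v') false)
              false)
          rest))
      false

/-- check of `c` consecutive records packed in `v`, for the facts `j, j+1, …`. -/
noncomputable def checkMany (P : Params) (c : ℕ) : ℕ → ℕ → Bool :=
  Nat.rec (motive := fun _ => ℕ → ℕ → Bool) (fun _ _ => true)
    (fun _ ih j v => checkRec P j v fun v' => force (Nat.add j (nat_lit 1)) fun j' => ih j' v')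
    c

/-- check of a list of chunks; each chunk starts with its number of records.  Returns the index
of the next fact, or `0` on failure. -/
noncomputable def checkChunks (P : Params) (chunks : List ℕ) : ℕ → ℕ :=
  List.rec (motive := fun _ => ℕ → ℕ) (fun j => j)
    (fun ch _ ih j =>
      force (Nat.land ch P.smask) fun c =>
      bsel (checkMany P c j (Nat.shiftRight ch P.ws))
        (force (Nat.add j c) fun j' => ih j') (nat_lit 0))
    chunks

/-- check of the definitions of the names `z, z+1, …` (`n` of them). -/
noncomputable def checkDefs (P : Params) (n : ℕ) : ℕ → Bool :=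
  Nat.rec (motive := fun _ => ℕ → Bool) (fun _ => true)
    (fun _ ih z =>
      force (P.fact (Nat.sub z (nat_lit 1))) fun f =>
      bsel (Nat.ble z (Nat.land f P.nmask)) false <|
      bsel (Nat.beq (Nat.land (Nat.shiftRight f P.wn) P.nmask) z)
        (bsel (Nat.ble P.k (Nat.shiftRight f P.wn2)) false
          (force (Nat.add z (nat_lit 1)) fun z' => ih z'))
        false)
    n

section sound
variable {G : Type*} [Group G]

/-- product of a word. -/
def wprod (S : ℕ → G) : List ℕ → G
  | [] => 1
  | c :: w => S c * wprod S w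

theorem wprod_append (S : ℕ → G) (w1 w2 : List ℕ) :
    wprod S (w1 ++ w2) = wprod S w1 * wprod S w2 := by
  induction w1 with
  | nil => simp [wprod]
  | cons c w ih => simp [wprod, ih, mul_assoc]

/-- the group-side hypotheses. -/
structure Model (P : Params) (G : Type*) [Group G] where
  S : ℕ → G
  H : Subgroup G
  hinv : ∀ l < P.k, S (P.inv l) = (S l)⁻¹
  hrel : ∀ wid < P.nwords, P.isSub wid = false → wprod S (P.word wid) = 1
  hsub : ∀ wid < P.nwords, P.isSub wid = true → wprod S (P.word wid) ∈ H

variable {P : Params} (Mo : Model P G)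

/-- coset representatives. -/
noncomputable def rep (P : Params) (S : ℕ → G) (z : ℕ) : G :=
  if h : 0 < z ∧ P.fa (z - 1) < z then rep P S (P.fa (z - 1)) * S (P.fl (z - 1)) else 1
termination_by z
decreasing_by exact h.2

theorem rep_zero (S : ℕ → G) : rep P S 0 = 1 := by
  rw [rep]; simp

theorem rep_succ (S : ℕ → G) (z : ℕ) (h : P.fa z < z + 1) :
    rep P S (z + 1) = rep P S (P.fa z) * S (P.fl z) := by
  rw [rep]; simp [h]

/-- the value of a label. -/
def L (P : Params) (S : ℕ → G) (l : ℕ) : G := if l < P.k then S l else 1

/-- the fact `id` holds. -/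
def Good (id : ℕ) : Prop :=
  rep P Mo.S (P.fa id) * L P Mo.S (P.fl id) * (rep P Mo.S (P.fb id))⁻¹ ∈ Mo.H

theorem good_unfold (id : ℕ) (h : Good Mo id) :
    rep P Mo.S (Nat.land (P.fact id) P.nmask) * L P Mo.S (Nat.shiftRight (P.fact id) P.wn2) *
      (rep P Mo.S (Nat.land (Nat.shiftRight (P.fact id) P.wn) P.nmask))⁻¹ ∈ Mo.H := h

theorem stepW_sound (f cur : ℕ) (letters : List ℕ) (kont : ℕ → List ℕ → Bool)
    (hg : rep P Mo.S (Nat.land f P.nmask) * L P Mo.S (Nat.shiftRight f P.wn2) *
      (rep P Mo.S (Nat.land (Nat.shiftRight f P.wn) P.nmask))⁻¹ ∈ Mo.H)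
    (h : stepW P f cur letters kont = true) :
    ∃ cur' used rest, letters = used ++ rest ∧ kont cur' rest = true ∧
      rep P Mo.S cur * wprod Mo.S used * (rep P Mo.S cur')⁻¹ ∈ Mo.H := by
  simp only [stepW, force_eq] at h
  generalize Nat.land f P.nmask = a at h hg
  generalize Nat.land (Nat.shiftRight f P.wn) P.nmask = b at h hg
  generalize Nat.shiftRight f P.wn2 = l at h hg
  cases hl : Nat.ble P.k l with
  | false =>
    rw [hl, bsel_false] at h
    have hlk : l < P.k := lt_of_ble_false hl
    simp only [L, hlk, if_true] at hg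
    cases letters with
    | nil => simp at h
    | cons c cs =>
      simp only at h
      cases h1 : (Nat.beq cur a && Nat.beq l c) with
      | true =>
        rw [h1, bsel_true] at h
        simp only [Bool.and_eq_true, Nat.beq_eq] at h1
        obtain ⟨rfl, rfl⟩ := h1
        exact ⟨b, [l], cs, by simp, h, by simpa [wprod] using hg⟩
      | false =>
        rw [h1, bsel_false] at h
        cases h2 : (Nat.beq cur b && Nat.beq (P.inv l) c) with
        | true =>
          rw [h2, bsel_true] at h
          simp only [Bool.and_eq_true, Nat.beq_eq] at h2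
          obtain ⟨rfl, rfl⟩ := h2
          refine ⟨a, [P.inv l], cs, by simp, h, ?_⟩
          have := Mo.H.inv_mem hg
          simpa [wprod, mul_assoc, Mo.hinv l hlk] using this
        | false => simp [h2] at h
  | true =>
    rw [hl, bsel_true] at h
    have hlk : ¬ l < P.k := by
      have := le_of_ble_true hl; omega
    simp only [L, hlk, if_false, mul_one] at hg
    cases h1 : Nat.beq cur a with
    | true =>
      rw [h1, bsel_true] at h
      simp only [Nat.beq_eq] at h1
      subst h1
      exact ⟨b, [], letters, by simp, h, by simpa [wprod] using hg⟩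
    | false =>
      rw [h1, bsel_false] at h
      cases h2 : Nat.beq cur b with
      | true =>
        rw [h2, bsel_true] at h
        simp only [Nat.beq_eq] at h2
        subst h2
        refine ⟨a, [], letters, by simp, h, ?_⟩
        have := Mo.H.inv_mem hg
        simpa [wprod, mul_assoc] using this
      | false => simp [h2] at h

theorem walk_sound (j : ℕ) (hj : ∀ id < j, Good Mo id) :
    ∀ (n v : ℕ) (letters : List ℕ) (cur : ℕ) (kont : ℕ → List ℕ → ℕ → Bool),
      walk P j n v letters cur kont = true →
      ∃ cur' used rest v', letters = used ++ rest ∧ kont cur' rest v' = true ∧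
        rep P Mo.S cur * wprod Mo.S used * (rep P Mo.S cur')⁻¹ ∈ Mo.H := by
  intro n
  induction n with
  | zero =>
    intro v letters cur kont h
    refine ⟨cur, [], letters, v, by simp, h, ?_⟩
    simp [wprod, Mo.H.one_mem]
  | succ n ih =>
    intro v letters cur kont h
    change bsel (Nat.ble j (Nat.land v P.smask)) false
      (stepW P (P.fact (Nat.land v P.smask)) cur letters fun cur' letters' =>
        walk P j n (Nat.shiftRight v P.ws) letters' cur' kont) = true at h
    cases hlt : Nat.ble j (Nat.land v P.smask) with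
    | true => rw [hlt, bsel_true] at h; cases h
    | false =>
      rw [hlt, bsel_false] at h
      have hid := lt_of_ble_false hlt
      obtain ⟨c1, used1, rest1, he1, hk1, hm1⟩ :=
        stepW_sound Mo _ _ _ _ (good_unfold Mo _ (hj _ hid)) h
      obtain ⟨cur', used, rest, v', he, hk, hm⟩ := ih _ _ _ _ hk1
      refine ⟨cur', used1 ++ used, rest, v', by simp [he1, he], hk, ?_⟩
      have := Mo.H.mul_mem hm1 hm
      rw [wprod_append]
      simpa [mul_assoc] using this

theorem checkRec_sound (j r : ℕ) (kont : ℕ → Bool) (hj : ∀ id < j, Good Mo id)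
    (h : checkRec P j r kont = true) : Good Mo j ∧ ∃ v', kont v' = true := by
  simp only [checkRec, force_eq] at h
  generalize Nat.land r P.smask = wid at h
  generalize Nat.land (Nat.shiftRight r P.ws) P.smask = u0 at h
  generalize Nat.land (Nat.shiftRight (Nat.shiftRight r P.ws) P.ws) P.smask = np at h
  generalize Nat.land (Nat.shiftRight (Nat.shiftRight (Nat.shiftRight r P.ws) P.ws) P.ws) P.smask
    = ns at h
  generalize Nat.shiftRight (Nat.shiftRight (Nat.shiftRight (Nat.shiftRight r P.ws) P.ws) P.ws) P.ws
    = r4 at h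
  change rep P Mo.S (Nat.land (P.fact j) P.nmask) * L P Mo.S (Nat.shiftRight (P.fact j) P.wn2) *
    (rep P Mo.S (Nat.land (Nat.shiftRight (P.fact j) P.wn) P.nmask))⁻¹ ∈ Mo.H ∧ _
  generalize Nat.land (P.fact j) P.nmask = a at h
  generalize Nat.land (Nat.shiftRight (P.fact j) P.wn) P.nmask = b at h
  generalize Nat.shiftRight (P.fact j) P.wn2 = l at h
  cases hw : Nat.ble P.nwords wid with
  | true => simp [hw] at h
  | false =>
  rw [hw, bsel_false] at h
  have hwid : wid < P.nwords := lt_of_ble_false hw
  cases hs : (P.isSub wid && !(Nat.beq u0 0)) with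
  | true =>
    have : (P.isSub wid && !(Nat.beq u0 (nat_lit 0))) = true := hs
    simp [this] at h
  | false =>
  have hs' : (P.isSub wid && !(Nat.beq u0 (nat_lit 0))) = false := hs
  rw [hs', bsel_false] at h
  -- the conjugate of the word lies in H
  have hconj : rep P Mo.S u0 * wprod Mo.S (P.word wid) * (rep P Mo.S u0)⁻¹ ∈ Mo.H := by
    cases hsub : P.isSub wid with
    | false => rw [Mo.hrel wid hwid hsub]; simp [Mo.H.one_mem]
    | true =>
      rw [hsub] at hs
      have : u0 = 0 := by simpa using hs
      subst this
      rw [rep_zero]; simpa using Mo.hsub wid hwid hsub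
  obtain ⟨a', used, rest, v, hword, hk, hX1⟩ := walk_sound Mo j hj _ _ _ _ _ h
  cases ha : Nat.beq a' a with
  | false => simp [ha] at hk
  | true =>
  rw [ha, bsel_true] at hk
  simp only [Nat.beq_eq] at ha
  subst ha
  rw [hword, wprod_append] at hconj
  cases hl : Nat.ble P.k l with
  | false =>
    rw [hl, bsel_false] at hk
    have hlk : l < P.k := lt_of_ble_false hl
    simp only [L, hlk, if_true]
    cases rest with
    | nil => simp at hk
    | cons c rest' =>
      simp only at hk
      cases hc : Nat.beq c l with
      | false => simp [hc] at hk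
      | true =>
      rw [hc, bsel_true] at hk
      simp only [Nat.beq_eq] at hc
      subst hc
      obtain ⟨u, used2, fin, v2, hrest, hk2, hX2⟩ := walk_sound Mo j hj _ _ _ _ _ hk
      cases hu : (Nat.beq u u0 && fin.isEmpty) with
      | false => simp [hu] at hk2
      | true =>
      rw [hu, bsel_true] at hk2
      refine ⟨?_, v2, hk2⟩
      simp only [Bool.and_eq_true, Nat.beq_eq, List.isEmpty_iff] at hu
      obtain ⟨rfl, rfl⟩ := hu
      rw [List.append_nil] at hrest
      subst hrest
      have key : rep P Mo.S a' * Mo.S c * (rep P Mo.S b)⁻¹ =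
          (rep P Mo.S u * wprod Mo.S used * (rep P Mo.S a')⁻¹)⁻¹ *
          (rep P Mo.S u * (wprod Mo.S used * wprod Mo.S (c :: rest')) * (rep P Mo.S u)⁻¹) *
          (rep P Mo.S b * wprod Mo.S rest' * (rep P Mo.S u)⁻¹)⁻¹ := by
        simp only [wprod]; group
      rw [key]
      exact Mo.H.mul_mem (Mo.H.mul_mem (Mo.H.inv_mem hX1) hconj) (Mo.H.inv_mem hX2)
  | true =>
    rw [hl, bsel_true] at hk
    have hlk : ¬ l < P.k := by
      have := le_of_ble_true hl; omega
    simp only [L, hlk, if_false, mul_one]
    obtain ⟨u, used2, fin, v2, hrest, hk2, hX2⟩ := walk_sound Mo j hj _ _ _ _ _ hk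
    cases hu : (Nat.beq u u0 && fin.isEmpty) with
    | false => simp [hu] at hk2
    | true =>
    rw [hu, bsel_true] at hk2
    refine ⟨?_, v2, hk2⟩
    simp only [Bool.and_eq_true, Nat.beq_eq, List.isEmpty_iff] at hu
    obtain ⟨rfl, rfl⟩ := hu
    rw [List.append_nil] at hrest
    subst hrest
    have key : rep P Mo.S a' * (rep P Mo.S b)⁻¹ =
        (rep P Mo.S u * wprod Mo.S used * (rep P Mo.S a')⁻¹)⁻¹ *
        (rep P Mo.S u * (wprod Mo.S used * wprod Mo.S rest) * (rep P Mo.S u)⁻¹) *
        (rep P Mo.S b * wprod Mo.S rest * (rep P Mo.S u)⁻¹)⁻¹ := by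
      group
    rw [key]
    exact Mo.H.mul_mem (Mo.H.mul_mem (Mo.H.inv_mem hX1) hconj) (Mo.H.inv_mem hX2)

theorem checkMany_sound : ∀ (c j v : ℕ), (∀ id < j, Good Mo id) → checkMany P c j v = true →
    ∀ id < j + c, Good Mo id := by
  intro c
  induction c with
  | zero => intro j v hj _ id hid; exact hj id (by omega)
  | succ c ih =>
    intro j v hj h id hid
    change checkRec P j v (fun v' => force (Nat.add j (nat_lit 1)) fun j' => checkMany P c j' v')
      = true at h
    obtain ⟨hg, v', hk⟩ := checkRec_sound Mo j v _ hj h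
    change checkMany P c (j + 1) v' = true at hk
    have hj' : ∀ id < j + 1, Good Mo id := by
      intro id' hid'
      rcases Nat.lt_succ_iff_lt_or_eq.mp hid' with h1 | h1
      · exact hj id' h1
      · rw [h1]; exact hg
    exact ih (j + 1) v' hj' hk id (by omega)

theorem checkChunks_sound : ∀ (chunks : List ℕ) (j : ℕ), (∀ id < j, Good Mo id) →
    checkChunks P chunks j ≠ 0 → ∀ id < checkChunks P chunks j, Good Mo id := by
  intro chunks
  induction chunks with
  | nil => intro j hj _ id hid; exact hj id hid
  | cons ch rest ih =>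
    intro j hj hne
    change bsel (checkMany P (Nat.land ch P.smask) j (Nat.shiftRight ch P.ws))
      (checkChunks P rest (Nat.add j (Nat.land ch P.smask))) 0 ≠ 0 at hne
    change ∀ id < bsel (checkMany P (Nat.land ch P.smask) j (Nat.shiftRight ch P.ws))
      (checkChunks P rest (Nat.add j (Nat.land ch P.smask))) 0, Good Mo id
    cases hm : checkMany P (Nat.land ch P.smask) j (Nat.shiftRight ch P.ws) with
    | false => rw [hm, bsel_false] at hne; exact absurd rfl hne
    | true =>
      rw [hm, bsel_true] at hne
      rw [bsel_true]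
      exact ih _ (checkMany_sound Mo _ _ _ hj hm) hne

theorem checkDefs_sound : ∀ (n z : ℕ), checkDefs P n z = true →
    ∀ i < n, P.fa (z + i - 1) < z + i ∧ P.fb (z + i - 1) = z + i ∧ P.fl (z + i - 1) < P.k := by
  intro n
  induction n with
  | zero => intro z _ i hi; omega
  | succ n ih =>
    intro z h i hi
    change bsel (Nat.ble z (Nat.land (P.fact (Nat.sub z 1)) P.nmask)) false
      (bsel (Nat.beq (Nat.land (Nat.shiftRight (P.fact (Nat.sub z 1)) P.wn) P.nmask) z)
        (bsel (Nat.ble P.k (Nat.shiftRight (P.fact (Nat.sub z 1)) P.wn2)) false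
          (checkDefs P n (Nat.add z 1))) false) = true at h
    cases h1 : Nat.ble z (Nat.land (P.fact (Nat.sub z 1)) P.nmask) with
    | true => rw [h1, bsel_true] at h; cases h
    | false =>
    rw [h1, bsel_false] at h
    cases h2 : Nat.beq (Nat.land (Nat.shiftRight (P.fact (Nat.sub z 1)) P.wn) P.nmask) z with
    | false => rw [h2, bsel_false] at h; cases h
    | true =>
    rw [h2, bsel_true] at h
    cases h3 : Nat.ble P.k (Nat.shiftRight (P.fact (Nat.sub z 1)) P.wn2) with
    | true => rw [h3, bsel_true] at h; cases h
    | false =>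
    rw [h3, bsel_false] at h
    cases i with
    | zero =>
      exact ⟨lt_of_ble_false h1, Nat.eq_of_beq_eq_true h2, lt_of_ble_false h3⟩
    | succ i =>
      have := ih (z + 1) h i (by omega)
      rwa [show z + (i + 1) = z + 1 + i by omega]

/-- the definition facts hold. -/
theorem good_of_checkDefs (hdefs : checkDefs P (P.M - 1) 1 = true) :
    ∀ j < P.M - 1, Good Mo j := by
  intro j hjM
  obtain ⟨h1, h2, h3⟩ := checkDefs_sound _ _ hdefs j hjM
  rw [show 1 + j - 1 = j by omega] at h1 h2 h3
  rw [show 1 + j = j + 1 by omega] at h1 h2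
  unfold Good
  rw [h2, rep_succ Mo.S j h1]
  simp only [L, h3, if_true]
  have : rep P Mo.S (P.fa j) * Mo.S (P.fl j) * (rep P Mo.S (P.fa j) * Mo.S (P.fl j))⁻¹ = 1 := by
    group
  rw [this]; exact Mo.H.one_mem

/-- one more block of chunks. -/
theorem good_step {j j' : ℕ} (chunks : List ℕ) (hj : ∀ id < j, Good Mo id)
    (h : checkChunks P chunks j = j') (hj' : j' ≠ 0) : ∀ id < j', Good Mo id := by
  subst h
  exact checkChunks_sound Mo chunks j hj hj'

/-! ### the final table -/

/-- `y` is linked to `z` by the letter `s`. -/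
def Edge (z s y : ℕ) : Prop := rep P Mo.S z * Mo.S s * (rep P Mo.S y)⁻¹ ∈ Mo.H

end sound

/-- check of the row of the live name `z`: for each of the next `n` letters, starting with `s`,
a fact linking `z` to a live name. -/
noncomputable def checkRow (P : Params) (z : ℕ) (n : ℕ) : ℕ → ℕ → Bool :=
  Nat.rec (motive := fun _ => ℕ → ℕ → Bool) (fun _ _ => true)
    (fun _ ih s v =>
      force (Nat.land v P.smask) fun id =>
      bsel (Nat.ble P.Fn id) false <|
      force (P.fact id) fun f =>
      force (Nat.land f P.nmask) fun a =>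
      force (Nat.land (Nat.shiftRight f P.wn) P.nmask) fun b =>
      force (Nat.shiftRight f P.wn2) fun l =>
      bsel ((Nat.beq a z && Nat.beq l s && P.isLive b) ||
          (Nat.beq b z && !(Nat.ble P.k l) && Nat.beq (P.inv l) s && P.isLive a))
        (force (Nat.add s (nat_lit 1)) fun s' => ih s' (Nat.shiftRight v P.ws)) false)
    n

/-- check of the rows of the live names among `z, z+1, …` (`n` names). -/
noncomputable def checkRows (P : Params) (n : ℕ) : ℕ → Bool :=
  Nat.rec (motive := fun _ => ℕ → Bool) (fun _ => true)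
    (fun _ ih z =>
      bsel (P.isLive z)
        (bsel (checkRow P z P.k (nat_lit 0) (P.row z))
          (force (Nat.add z (nat_lit 1)) fun z' => ih z') false)
        (force (Nat.add z (nat_lit 1)) fun z' => ih z'))
    n

/-- the number of live names among `z, z+1, …` (`n` names), plus `acc`. -/
noncomputable def countLive (P : Params) (n : ℕ) : ℕ → ℕ → ℕ :=
  Nat.rec (motive := fun _ => ℕ → ℕ → ℕ) (fun _ acc => acc)
    (fun _ ih z acc =>
      force (Nat.add z (nat_lit 1)) fun z' =>
      force (Nat.add acc (Nat.land (Nat.shiftRight P.live z) (nat_lit 1))) fun acc' => ih z' acc')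
    n

section sound2
variable {G : Type*} [Group G] {P : Params} (Mo : Model P G)

theorem checkRow_sound (hgood : ∀ id < P.Fn, Good Mo id) (z : ℕ) :
    ∀ (n s v : ℕ), s + n ≤ P.k → checkRow P z n s v = true →
      ∀ i < n, ∃ y, P.isLive y = true ∧ Edge Mo z (s + i) y := by
  intro n
  induction n with
  | zero => intro s v _ _ i hi; omega
  | succ n ih =>
    intro s v hsn h i hi
    change bsel (Nat.ble P.Fn (Nat.land v P.smask)) false
      (bsel ((Nat.beq (Nat.land (P.fact (Nat.land v P.smask)) P.nmask) z &&
            Nat.beq (Nat.shiftRight (P.fact (Nat.land v P.smask)) P.wn2) s &&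
            P.isLive (Nat.land (Nat.shiftRight (P.fact (Nat.land v P.smask)) P.wn) P.nmask)) ||
          (Nat.beq (Nat.land (Nat.shiftRight (P.fact (Nat.land v P.smask)) P.wn) P.nmask) z &&
            !(Nat.ble P.k (Nat.shiftRight (P.fact (Nat.land v P.smask)) P.wn2)) &&
            Nat.beq (P.inv (Nat.shiftRight (P.fact (Nat.land v P.smask)) P.wn2)) s &&
            P.isLive (Nat.land (P.fact (Nat.land v P.smask)) P.nmask)))
        (checkRow P z n (Nat.add s 1) (Nat.shiftRight v P.ws)) false) = true at h
    cases h1 : Nat.ble P.Fn (Nat.land v P.smask) with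
    | true => rw [h1, bsel_true] at h; cases h
    | false =>
    rw [h1, bsel_false] at h
    have hg := good_unfold Mo _ (hgood _ (lt_of_ble_false h1))
    generalize Nat.land (P.fact (Nat.land v P.smask)) P.nmask = a at h hg
    generalize Nat.land (Nat.shiftRight (P.fact (Nat.land v P.smask)) P.wn) P.nmask = b at h hg
    generalize Nat.shiftRight (P.fact (Nat.land v P.smask)) P.wn2 = l at h hg
    cases h2 : ((Nat.beq a z && Nat.beq l s && P.isLive b) ||
          (Nat.beq b z && !(Nat.ble P.k l) && Nat.beq (P.inv l) s && P.isLive a)) with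
    | false => rw [h2, bsel_false] at h; cases h
    | true =>
    rw [h2, bsel_true] at h
    cases i with
    | zero =>
      simp only [Bool.or_eq_true, Bool.and_eq_true, Nat.beq_eq, Bool.not_eq_true'] at h2
      rcases h2 with ⟨⟨rfl, rfl⟩, hb⟩ | ⟨⟨⟨rfl, hl⟩, rfl⟩, ha⟩
      · refine ⟨b, hb, ?_⟩
        have hlk : l < P.k := by omega
        simpa [Edge, L, hlk] using hg
      · refine ⟨a, ha, ?_⟩
        have hlk : l < P.k := lt_of_ble_false hl
        simp only [L, hlk, if_true] at hg
        have := Mo.H.inv_mem hg
        simpa [Edge, mul_assoc, Mo.hinv l hlk] using this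
    | succ i =>
      obtain ⟨y, hy, he⟩ := ih (s + 1) _ (by omega) h i (by omega)
      exact ⟨y, hy, by rwa [show s + (i + 1) = s + 1 + i by omega]⟩

theorem checkRows_sound (hgood : ∀ id < P.Fn, Good Mo id) :
    ∀ (n z : ℕ), checkRows P n z = true →
      ∀ i < n, P.isLive (z + i) = true → ∀ s < P.k, ∃ y, P.isLive y = true ∧ Edge Mo (z + i) s y := by
  intro n
  induction n with
  | zero => intro z _ i hi; omega
  | succ n ih =>
    intro z h i hi hlive s hs
    change bsel (P.isLive z)
        (bsel (checkRow P z P.k 0 (P.row z)) (checkRows P n (Nat.add z 1)) false)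
        (checkRows P n (Nat.add z 1)) = true at h
    cases i with
    | zero =>
      rw [Nat.add_zero] at hlive ⊢
      rw [hlive, bsel_true] at h
      cases h1 : checkRow P z P.k 0 (P.row z) with
      | false => rw [h1, bsel_false] at h; cases h
      | true =>
        obtain ⟨y, hy, he⟩ := checkRow_sound Mo hgood z P.k 0 _ (by omega) h1 s hs
        exact ⟨y, hy, by simpa using he⟩
    | succ i =>
      have h' : checkRows P n (z + 1) = true := by
        cases h0 : P.isLive z with
        | false => rw [h0, bsel_false] at h; exact h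
        | true =>
          rw [h0, bsel_true] at h
          cases h1 : checkRow P z P.k 0 (P.row z) with
          | false => rw [h1, bsel_false] at h; cases h
          | true => rw [h1, bsel_true] at h; exact h
      have := ih (z + 1) h' i (by omega) (by rwa [show z + 1 + i = z + (i + 1) by omega]) s hs
      rwa [show z + 1 + i = z + (i + 1) by omega] at this

theorem countLive_eq : ∀ (n z acc : ℕ), countLive P n z acc =
    acc + ((Finset.Ico z (z + n)).filter fun y => P.isLive y = true).card := by
  intro n
  induction n with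
  | zero => intro z acc; simp [countLive]
  | succ n ih =>
    intro z acc
    change countLive P n (z + 1) (acc + Nat.land (Nat.shiftRight P.live z) 1) = _
    rw [ih]
    have hbit : Nat.land (Nat.shiftRight P.live z) 1 = if P.isLive z = true then 1 else 0 := by
      have h2 : Nat.land (Nat.shiftRight P.live z) 1 = (P.live >>> z) % 2 := by
        change (P.live >>> z) &&& 1 = _
        exact Nat.and_one_is_mod _
      unfold Params.isLive
      rw [h2]
      change _ = if Nat.beq ((P.live >>> z) % 2) 1 = true then 1 else 0
      rcases Nat.mod_two_eq_zero_or_one (P.live >>> z) with h | h <;> rw [h] <;> rfl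
    rw [hbit]
    have hI : Finset.Ico z (z + (n + 1)) = insert z (Finset.Ico (z + 1) (z + 1 + n)) := by
      ext x; simp only [Finset.mem_Ico, Finset.mem_insert]; omega
    rw [hI, Finset.filter_insert]
    by_cases hl : P.isLive z = true
    · rw [if_pos hl, if_pos hl, Finset.card_insert_of_notMem (by simp)]
      omega
    · rw [if_neg hl, if_neg hl]
      omega

/-- the edges out of the live names in a checked range. -/
theorem edge_of_rows (hgood : ∀ id < P.Fn, Good Mo id) {n z0 : ℕ} (h : checkRows P n z0 = true)
    (z : ℕ) (h1 : z0 ≤ z) (h2 : z < z0 + n) (hz : P.isLive z = true) (s : ℕ) (hs : s < P.k) :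
    ∃ y, P.isLive y = true ∧ Edge Mo z s y := by
  have := checkRows_sound Mo hgood n z0 h (z - z0) (by omega)
    (by rwa [show z0 + (z - z0) = z by omega]) s hs
  rwa [show z0 + (z - z0) = z by omega] at this

theorem lt_of_isLive (hM : Nat.shiftRight P.live P.M = 0) {y : ℕ} (hy : P.isLive y = true) :
    y < P.M := by
  by_contra hh
  have hle : P.M ≤ y := by omega
  have h0 : Nat.shiftRight P.live y = 0 := by
    change P.live >>> y = 0
    rw [show y = P.M + (y - P.M) by omega, Nat.shiftRight_add]
    change (Nat.shiftRight P.live P.M) >>> (y - P.M) = 0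
    rw [hM]; simp
  unfold Params.isLive at hy
  rw [h0] at hy
  exact absurd hy (by decide)

/-- the upper bound for the index. -/
theorem index_le (hgen : Subgroup.closure (Mo.S '' {s | s < P.k}) = ⊤)
    (hinvk : ∀ s < P.k, P.inv s < P.k)
    (hedge : ∀ z, P.isLive z = true → ∀ s < P.k, ∃ y, P.isLive y = true ∧ Edge Mo z s y)
    (h0 : P.isLive 0 = true)
    (hM : Nat.shiftRight P.live P.M = 0)
    (N : ℕ) (hcount : countLive P P.M 0 0 = N) :
    Mo.H.index ≠ 0 ∧ Mo.H.index ≤ N := by
  classical
  set X : Finset ℕ := (Finset.range P.M).filter fun z => P.isLive z = true with hX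
  have hXcard : X.card = N := by
    rw [← hcount, countLive_eq, Nat.zero_add, Nat.zero_add, ← Finset.range_eq_Ico]
  -- every element lies in some coset `H * rep z` with `z` live
  have key : ∀ g : G, ∃ z, P.isLive z = true ∧ g * (rep P Mo.S z)⁻¹ ∈ Mo.H := by
    intro g
    have hg : g ∈ Subgroup.closure (Mo.S '' {s | s < P.k}) := by rw [hgen]; trivial
    induction hg using Subgroup.closure_induction_right with
    | one => exact ⟨0, h0, by simp [rep_zero, Mo.H.one_mem]⟩
    | mul_right x hx y hy ih =>
      obtain ⟨s, hs, rfl⟩ := hy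
      obtain ⟨z, hz, hm⟩ := ih
      obtain ⟨y, hy, he⟩ := hedge z hz s hs
      refine ⟨y, hy, ?_⟩
      have := Mo.H.mul_mem hm he
      simpa [Edge, mul_assoc] using this
    | mul_inv_cancel x hx y hy ih =>
      obtain ⟨s, hs, rfl⟩ := hy
      obtain ⟨z, hz, hm⟩ := ih
      obtain ⟨y, hy, he⟩ := hedge z hz (P.inv s) (hinvk s hs)
      refine ⟨y, hy, ?_⟩
      have := Mo.H.mul_mem hm he
      rw [Mo.hinv s hs] at this
      simpa [Edge, mul_assoc] using this
  let f : X → G ⧸ Mo.H := fun z => QuotientGroup.mk ((rep P Mo.S z.1)⁻¹)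
  have hf : Function.Surjective f := by
    intro q
    induction q using QuotientGroup.induction_on with
    | H g =>
      obtain ⟨z, hz, hm⟩ := key g⁻¹
      have hzX : z ∈ X := by
        rw [hX, Finset.mem_filter, Finset.mem_range]
        exact ⟨lt_of_isLive hM hz, hz⟩
      refine ⟨⟨z, hzX⟩, ?_⟩
      change QuotientGroup.mk ((rep P Mo.S z)⁻¹) = QuotientGroup.mk g
      rw [QuotientGroup.eq]
      have := Mo.H.inv_mem hm
      simpa using this
  have : Finite (G ⧸ Mo.H) := Finite.of_surjective f hf
  have hcard : Nat.card (G ⧸ Mo.H) ≤ Nat.card X := Nat.card_le_card_of_surjective f hf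
  have hXc : Nat.card X = N := by
    rw [Nat.card_eq_fintype_card, Fintype.card_coe, hXcard]
  rw [hXc] at hcard
  refine ⟨?_, hcard⟩
  rw [Subgroup.index]
  exact Nat.card_pos.ne'

end sound2

end Cfsg.Agent.Lib.helper19_TC2
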