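import Mathlib
import Cfsg.Agent.Lib.helper19_TC2

/-!
Lower bounds for the index of a subgroup from a verified permutation representation on the points
`0, …, N-1` (the final coset table of an enumeration), with packed columns evaluated by the kernel.
By helper19.
-/

set_option autoImplicit false

namespace Cfsg.Agent.Lib.helper19_TC2L

open Cfsg.Agent.Lib.helper19_TC2

/-- entry lookup in a packed column: descend by the low bits of `x`, then extract the slot. -/
noncomputable def look (w emask : ℕ) (t : Tr) : ℕ → ℕ :=
  Tr.rec (motive := fun _ => ℕ → ℕ)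
    (fun v x => Nat.land (Nat.shiftRight v (Nat.mul w x)) emask)
    (fun _ _ ihl ihr x => force (Nat.shiftRight x (nat_lit 1)) fun x' =>
      Nat.rec (motive := fun _ => ℕ) (ihl x') (fun _ _ => ihr x') (Nat.land x (nat_lit 1))) t

/-- `n`-th trie of a list. -/
noncomputable def nthT (l : List Tr) : ℕ → Tr :=
  List.rec (motive := fun _ => ℕ → Tr) (fun _ => Tr.leaf 0)
    (fun t _ ih n => Nat.rec (motive := fun _ => Tr) t (fun m _ => ih m) n) l

/-- the columns of a word. -/
noncomputable def colsOf (cols : List Tr) (word : List ℕ) : List Tr :=
  List.rec (motive := fun _ => List Tr) [] (fun s _ ih => nthT cols s :: ih) word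

/-- trace a list of columns from the point `x`. -/
noncomputable def trace (w emask : ℕ) (cs : List Tr) : ℕ → ℕ :=
  List.rec (motive := fun _ => ℕ → ℕ) (fun x => x)
    (fun c _ ih x => force (look w emask c x) fun y => ih y) cs

/-- all points `x, x+1, …` (`n` of them) return to themselves along the columns `cs`. -/
noncomputable def checkFix (w emask : ℕ) (cs : List Tr) (n : ℕ) : ℕ → Bool :=
  Nat.rec (motive := fun _ => ℕ → Bool) (fun _ => true)
    (fun _ ih x => bsel (Nat.beq (trace w emask cs x) x)
      (force (Nat.add x (nat_lit 1)) fun x' => ih x') false) n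

/-- all points `x, x+1, …` (`n` of them) are mapped below `N` by the column `c`. -/
noncomputable def checkLt (w emask N : ℕ) (c : Tr) (n : ℕ) : ℕ → Bool :=
  Nat.rec (motive := fun _ => ℕ → Bool) (fun _ => true)
    (fun _ ih x => bsel (Nat.ble N (look w emask c x)) false
      (force (Nat.add x (nat_lit 1)) fun x' => ih x')) n

/-- the spanning tree: the entry of `x` in `t` is `par + (gen <<< w)` with `par < x` and
`gen`-image of `par` equal to `x`; for the points `x, x+1, …` (`n` of them). -/
noncomputable def checkTree (w emask wt tmask k : ℕ) (cols : List Tr) (t : Tr) (n : ℕ) :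
    ℕ → Bool :=
  Nat.rec (motive := fun _ => ℕ → Bool) (fun _ => true)
    (fun _ ih x =>
      force (look wt tmask t x) fun e =>
      force (Nat.land e emask) fun p =>
      force (Nat.shiftRight e w) fun s =>
      bsel (Nat.ble x p) false
        (bsel (Nat.ble k s) false
          (bsel (Nat.beq (look w emask (nthT cols s) p) x)
            (force (Nat.add x (nat_lit 1)) fun x' => ih x') false))) n

/-! ### soundness of the evaluation functions -/

/-- the action of the letter `s`. -/
noncomputable def act (w emask : ℕ) (cols : List Tr) (s x : ℕ) : ℕ := look w emask (nthT cols s) x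

/-- abstract trace of a word. -/
def tr (a : ℕ → ℕ → ℕ) : List ℕ → ℕ → ℕ
  | [], x => x
  | s :: word, x => tr a word (a s x)

theorem trace_colsOf (w emask : ℕ) (cols : List Tr) (word : List ℕ) (x : ℕ) :
    trace w emask (colsOf cols word) x = tr (act w emask cols) word x := by
  induction word generalizing x with
  | nil => rfl
  | cons s word ih =>
    change trace w emask (colsOf cols word) (look w emask (nthT cols s) x) = _
    rw [ih]; rfl

theorem checkFix_sound (w emask : ℕ) (cs : List Tr) : ∀ (n x : ℕ), checkFix w emask cs n x = true →
    ∀ i < n, trace w emask cs (x + i) = x + i := by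
  intro n
  induction n with
  | zero => intro x _ i hi; omega
  | succ n ih =>
    intro x h i hi
    change bsel (Nat.beq (trace w emask cs x) x) (checkFix w emask cs n (Nat.add x 1)) false = true
      at h
    cases h1 : Nat.beq (trace w emask cs x) x with
    | false => rw [h1, bsel_false] at h; cases h
    | true =>
      rw [h1, bsel_true] at h
      cases i with
      | zero => exact Nat.eq_of_beq_eq_true h1
      | succ i =>
        have := ih (x + 1) h i (by omega)
        rwa [show x + 1 + i = x + (i + 1) by omega] at this

theorem checkLt_sound (w emask N : ℕ) (c : Tr) : ∀ (n x : ℕ), checkLt w emask N c n x = true →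
    ∀ i < n, look w emask c (x + i) < N := by
  intro n
  induction n with
  | zero => intro x _ i hi; omega
  | succ n ih =>
    intro x h i hi
    change bsel (Nat.ble N (look w emask c x)) false (checkLt w emask N c n (Nat.add x 1)) = true
      at h
    cases h1 : Nat.ble N (look w emask c x) with
    | true => rw [h1, bsel_true] at h; cases h
    | false =>
      rw [h1, bsel_false] at h
      cases i with
      | zero => exact lt_of_ble_false h1
      | succ i =>
        have := ih (x + 1) h i (by omega)
        rwa [show x + 1 + i = x + (i + 1) by omega] at this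

theorem checkTree_sound (w emask wt tmask k : ℕ) (cols : List Tr) (t : Tr) :
    ∀ (n x : ℕ), checkTree w emask wt tmask k cols t n x = true →
    ∀ i < n, ∃ p s, p < x + i ∧ s < k ∧ act w emask cols s p = x + i := by
  intro n
  induction n with
  | zero => intro x _ i hi; omega
  | succ n ih =>
    intro x h i hi
    change bsel (Nat.ble x (Nat.land (look wt tmask t x) emask)) false
      (bsel (Nat.ble k (Nat.shiftRight (look wt tmask t x) w)) false
        (bsel (Nat.beq (look w emask (nthT cols (Nat.shiftRight (look wt tmask t x) w))
            (Nat.land (look wt tmask t x) emask)) x)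
          (checkTree w emask wt tmask k cols t n (Nat.add x 1)) false)) = true at h
    cases h1 : Nat.ble x (Nat.land (look wt tmask t x) emask) with
    | true => rw [h1, bsel_true] at h; cases h
    | false =>
      rw [h1, bsel_false] at h
      cases h3 : Nat.ble k (Nat.shiftRight (look wt tmask t x) w) with
      | true => rw [h3, bsel_true] at h; cases h
      | false =>
      rw [h3, bsel_false] at h
      cases h2 : Nat.beq (look w emask (nthT cols (Nat.shiftRight (look wt tmask t x) w))
          (Nat.land (look wt tmask t x) emask)) x with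
      | false => rw [h2, bsel_false] at h; cases h
      | true =>
        rw [h2, bsel_true] at h
        cases i with
        | zero => exact ⟨_, _, lt_of_ble_false h1, lt_of_ble_false h3, Nat.eq_of_beq_eq_true h2⟩
        | succ i =>
          have := ih (x + 1) h i (by omega)
          rwa [show x + 1 + i = x + (i + 1) by omega] at this

/-- fixed points on a checked range, in terms of the abstract trace. -/
theorem fix_of_part (w emask : ℕ) (cols : List Tr) (word : List ℕ) {n x0 : ℕ}
    (h : checkFix w emask (colsOf cols word) n x0 = true) (x : ℕ) (h1 : x0 ≤ x) (h2 : x < x0 + n) :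
    tr (act w emask cols) word x = x := by
  have := checkFix_sound w emask _ n x0 h (x - x0) (by omega)
  rw [show x0 + (x - x0) = x by omega, trace_colsOf] at this
  exact this

theorem lt_of_part (w emask N : ℕ) (cols : List Tr) (s : ℕ) {n x0 : ℕ}
    (h : checkLt w emask N (nthT cols s) n x0 = true) (x : ℕ) (h1 : x0 ≤ x) (h2 : x < x0 + n) :
    act w emask cols s x < N := by
  have := checkLt_sound w emask N _ n x0 h (x - x0) (by omega)
  rwa [show x0 + (x - x0) = x by omega] at this

theorem tree_of_part (w emask wt tmask k : ℕ) (cols : List Tr) (t : Tr) {n x0 : ℕ}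
    (h : checkTree w emask wt tmask k cols t n x0 = true) (x : ℕ) (h1 : x0 ≤ x) (h2 : x < x0 + n) :
    ∃ p s, p < x ∧ s < k ∧ act w emask cols s p = x := by
  have := checkTree_sound w emask wt tmask k cols t n x0 h (x - x0) (by omega)
  rwa [show x0 + (x - x0) = x by omega] at this

/-! ### the permutation representation -/

section perm
variable {N k : ℕ} {a : ℕ → ℕ → ℕ} {inv : ℕ → ℕ}

/-- the hypotheses making `a` a family of permutations of `Fin N`. -/
structure IsAction (N k : ℕ) (a : ℕ → ℕ → ℕ) (inv : ℕ → ℕ) : Prop where
  lt : ∀ s < k, ∀ x < N, a s x < N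
  invk : ∀ s < k, inv s < k
  invinv : ∀ s < k, inv (inv s) = s
  cancel : ∀ s < k, ∀ x < N, a (inv s) (a s x) = x

/-- the permutation of the letter `s` (the identity for `s ≥ k`). -/
noncomputable def perm (h : IsAction N k a inv) (s : ℕ) : Equiv.Perm (Fin N) :=
  if hs : s < k then
    { toFun := fun x => ⟨a s x, h.lt s hs x x.2⟩
      invFun := fun x => ⟨a (inv s) x, h.lt (inv s) (h.invk s hs) x x.2⟩
      left_inv := fun x => Fin.ext (h.cancel s hs x x.2)
      right_inv := fun x => Fin.ext (by
        have := h.cancel (inv s) (h.invk s hs) x x.2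
        rwa [h.invinv s hs] at this) }
  else 1

theorem perm_apply (h : IsAction N k a inv) {s : ℕ} (hs : s < k) (x : Fin N) :
    (perm h s x : ℕ) = a s x := by
  simp [perm, hs]

/-- the product of the inverses of the permutations of a word. -/
noncomputable def pword (h : IsAction N k a inv) (word : List ℕ) : Equiv.Perm (Fin N) :=
  (word.map fun s => (perm h s)⁻¹).prod

theorem pword_nil (h : IsAction N k a inv) : pword h [] = 1 := rfl

theorem pword_cons (h : IsAction N k a inv) (s : ℕ) (word : List ℕ) :
    pword h (s :: word) = (perm h s)⁻¹ * pword h word := by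
  simp [pword]

theorem pword_append (h : IsAction N k a inv) (w1 w2 : List ℕ) :
    pword h (w1 ++ w2) = pword h w1 * pword h w2 := by
  simp [pword]

theorem tr_lt (h : IsAction N k a inv) : ∀ (word : List ℕ), (∀ s ∈ word, s < k) → ∀ x < N,
    tr a word x < N := by
  intro word
  induction word with
  | nil => intro _ x hx; exact hx
  | cons s word ih =>
    intro hw x hx
    exact ih (fun t ht => hw t (by simp [ht])) _ (h.lt s (hw s (by simp)) x hx)

theorem pword_inv_apply (h : IsAction N k a inv) : ∀ (word : List ℕ), (∀ s ∈ word, s < k) →
    ∀ x : Fin N, (((pword h word)⁻¹ x : Fin N) : ℕ) = tr a word x := by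
  intro word
  induction word with
  | nil => intro _ x; simp [pword_nil, tr]
  | cons s word ih =>
    intro hw x
    have hs : s < k := hw s (by simp)
    rw [pword_cons, mul_inv_rev, inv_inv, Equiv.Perm.mul_apply,
      ih (fun t ht => hw t (by simp [ht]))]
    simp only [tr]
    rw [perm_apply h hs]

/-- a word all of whose traces close gives the trivial permutation. -/
theorem pword_eq_one (h : IsAction N k a inv) (word : List ℕ) (hw : ∀ s ∈ word, s < k)
    (hfix : ∀ x < N, tr a word x = x) : pword h word = 1 := by
  have : (pword h word)⁻¹ = 1 := by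
    ext x
    rw [pword_inv_apply h word hw x, hfix x x.2]
    simp
  simpa using this

end perm

/-- the lower bound: a homomorphism to the permutations of `Fin N` under which `H` fixes `0`, with
a spanning tree reaching every point from `0`. -/
theorem le_index {G : Type*} [Group G] (H : Subgroup G) [Finite (G ⧸ H)] {N k : ℕ}
    {a : ℕ → ℕ → ℕ} {inv : ℕ → ℕ} (hN : 0 < N)
    (h : IsAction N k a inv) (S : ℕ → G) (ψ : G →* Equiv.Perm (Fin N))
    (hψ : ∀ s < k, ψ (S s) = (perm h s)⁻¹)
    (hH : ∀ g ∈ H, ψ g ⟨0, hN⟩ = ⟨0, hN⟩)
    (htree : ∀ x, 0 < x → x < N → ∃ p s, p < x ∧ s < k ∧ a s p = x) :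
    N ≤ H.index := by
  classical
  have hreach : ∀ x (hx : x < N), ∃ g : G, ψ g ⟨0, hN⟩ = ⟨x, hx⟩ := by
    intro x
    induction x using Nat.strong_induction_on with
    | _ x ih =>
      intro hx
      rcases Nat.eq_zero_or_pos x with h0 | hpos
      · subst h0; exact ⟨1, by simp⟩
      · obtain ⟨p, s, hp, hs, hps⟩ := htree x hpos hx
        obtain ⟨g, hg⟩ := ih p hp (by omega)
        refine ⟨(S s)⁻¹ * g, ?_⟩
        rw [map_mul, map_inv, hψ s hs, inv_inv, Equiv.Perm.mul_apply, hg]
        apply Fin.ext
        rw [perm_apply h hs]
        exact hps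
  choose g hg using hreach
  let f : Fin N → G ⧸ H := fun x => QuotientGroup.mk (g x.1 x.2)
  have hf : Function.Injective f := by
    intro x y hxy
    change (QuotientGroup.mk (g x.1 x.2) : G ⧸ H) = QuotientGroup.mk (g y.1 y.2) at hxy
    rw [QuotientGroup.eq] at hxy
    have := hH _ hxy
    rw [map_mul, map_inv, Equiv.Perm.mul_apply, hg y.1 y.2] at this
    have h2 : ψ (g x.1 x.2) ⟨0, hN⟩ = ⟨y.1, y.2⟩ := by
      rw [← this]; simp
    rw [hg x.1 x.2] at h2
    exact Fin.ext (by simpa using congrArg Fin.val h2)
  have := Nat.card_le_card_of_injective f hf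
  rwa [Nat.card_eq_fintype_card, Fintype.card_fin] at this

end Cfsg.Agent.Lib.helper19_TC2L
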