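import Mathlib
import Cfsg.Agent.Lib.helper19_TC2
import Cfsg.Agent.Lib.helper19_TC2L

/-!
Permutation representations given by switching networks (Beneš networks) on bit vectors, so that the
kernel can check a relator on all points at once with a few hundred big-number operations instead
of tracing every point through a table.  By helper19.

A stage `(M, d)` exchanges the positions `x` and `x + d` for the bits `x` of `M`; a network is a list
of stages.  A network acts on a bit vector `A : ℕ` by `(net L A).testBit x = A.testBit (swN L x)`: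
the point map `swN L` is never evaluated, only the bit vectors are.  A word fixes all points as
soon as it fixes the `n` vectors `plane j n` (the positions whose `j`-th binary digit is 1).
-/

set_option autoImplicit false

namespace Cfsg.Agent.Lib.helper19_Benes

open Cfsg.Agent.Lib.helper19_TC2 Cfsg.Agent.Lib.helper19_TC2L

/-- a switching network: stages `(M, d)`, first stage first. -/
inductive Net where
  | nil : Net
  | cons (M d : ℕ) (rest : Net) : Net

/-- one stage applied to the bits of `A`: positions `x` and `x + d` are exchanged for `x` in `M`. -/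
noncomputable def stage (M d A : ℕ) : ℕ :=
  let t := Nat.land (Nat.xor (Nat.shiftRight A d) A) M
  Nat.xor (Nat.xor A t) (Nat.shiftLeft t d)

theorem stage_eq (M d A : ℕ) :
    stage M d A = (A ^^^ (((A >>> d) ^^^ A) &&& M)) ^^^ ((((A >>> d) ^^^ A) &&& M) <<< d) := rfl

/-- the point map of a stage. -/
def sw (M d x : ℕ) : ℕ :=
  if M.testBit x then x + d else if d ≤ x ∧ M.testBit (x - d) then x - d else x

theorem xor_xor_self_right (a b : Bool) : (a ^^ (b ^^ a)) = b := by cases a <;> cases b <;> rfl

theorem testBit_stage {M d : ℕ} (hd : M &&& (M <<< d) = 0) (A x : ℕ) :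
    (stage M d A).testBit x = A.testBit (sw M d x) := by
  have key : ¬ (M.testBit x = true ∧ d ≤ x ∧ M.testBit (x - d) = true) := by
    rintro ⟨h1, h2, h3⟩
    have := congrArg (fun z => Nat.testBit z x) hd
    simp only [Nat.testBit_and, Nat.testBit_shiftLeft, Nat.zero_testBit] at this
    simp [h1, h2, h3] at this
  rw [stage_eq]
  simp only [Nat.testBit_xor, Nat.testBit_and, Nat.testBit_shiftLeft, Nat.testBit_shiftRight, sw]
  by_cases h1 : M.testBit x = true
  · have h3 : ¬ (d ≤ x ∧ M.testBit (x - d) = true) := fun h => key ⟨h1, h.1, h.2⟩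
    by_cases h2 : d ≤ x
    · have h4 : M.testBit (x - d) = false := by
        by_contra h; exact h3 ⟨h2, by simpa using h⟩
      simp [h1, h4, Nat.add_comm, xor_xor_self_right]
    · simp [h1, h2, Nat.add_comm, xor_xor_self_right]
  · have h1' : M.testBit x = false := by simpa using h1
    by_cases h2 : d ≤ x
    · by_cases h4 : M.testBit (x - d) = true
      · have : d + (x - d) = x := by omega
        simp [h1', h2, h4, this]
      · have h4' : M.testBit (x - d) = false := by simpa using h4
        simp [h1', h4']
    · simp [h1', h2]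

/-- a network applied to the bits of `A`. -/
noncomputable def net (L : Net) : ℕ → ℕ :=
  Net.rec (motive := fun _ => ℕ → ℕ) (fun A => A) (fun M d _ ih A => ih (stage M d A)) L

theorem net_nil (A : ℕ) : net .nil A = A := rfl
theorem net_cons (M d : ℕ) (rest : Net) (A : ℕ) : net (.cons M d rest) A = net rest (stage M d A) :=
  rfl

/-- the point map of a network. -/
def swN : Net → ℕ → ℕ
  | .nil, x => x
  | .cons M d rest, x => sw M d (swN rest x)

/-- all stages exchange disjoint pairs. -/
def Net.Ok : Net → Prop
  | .nil => True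
  | .cons M d rest => M &&& (M <<< d) = 0 ∧ rest.Ok

/-- evaluation of `Net.Ok`. -/
noncomputable def okNet (L : Net) : Bool :=
  Net.rec (motive := fun _ => Bool) true
    (fun M d _ ih => bsel (Nat.beq (Nat.land M (Nat.shiftLeft M d)) (nat_lit 0)) ih false) L

theorem okNet_sound : ∀ L : Net, okNet L = true → L.Ok
  | .nil, _ => trivial
  | .cons M d rest, h => by
    change bsel (Nat.beq (Nat.land M (Nat.shiftLeft M d)) 0) (okNet rest) false = true at h
    cases hb : Nat.beq (Nat.land M (Nat.shiftLeft M d)) 0 with
    | false => rw [hb] at h; cases h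
    | true =>
      rw [hb] at h
      exact ⟨Nat.eq_of_beq_eq_true hb, okNet_sound rest h⟩

theorem testBit_net : ∀ L : Net, L.Ok → ∀ A x : ℕ, (net L A).testBit x = A.testBit (swN L x)
  | .nil, _, _, _ => rfl
  | .cons M d rest, h, A, x => by
    rw [net_cons, testBit_net rest h.2, testBit_stage h.1]
    rfl

/-- `n`-th network of a list. -/
noncomputable def nthN (l : List Net) : ℕ → Net :=
  List.rec (motive := fun _ => ℕ → Net) (fun _ => Net.nil)
    (fun t _ ih n => Nat.rec (motive := fun _ => Net) t (fun m _ => ih m) n) l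

theorem nthN_nil (n : ℕ) : nthN [] n = .nil := rfl
theorem nthN_cons_zero (t : Net) (l : List Net) : nthN (t :: l) 0 = t := rfl
theorem nthN_cons_succ (t : Net) (l : List Net) (n : ℕ) : nthN (t :: l) (n + 1) = nthN l n := rfl

/-- evaluation of "all networks of the list are proper". -/
noncomputable def okNets (l : List Net) : Bool :=
  List.rec (motive := fun _ => Bool) true (fun t _ ih => bsel (okNet t) ih false) l

theorem okNets_sound : ∀ l : List Net, okNets l = true → ∀ s, (nthN l s).Ok
  | [], _, _ => trivial
  | t :: l, h, s => by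
    change bsel (okNet t) (okNets l) false = true at h
    cases hb : okNet t with
    | false => rw [hb] at h; cases h
    | true =>
      rw [hb] at h
      cases s with
      | zero => exact okNet_sound t hb
      | succ s => exact okNets_sound l h s

/-- the action of the letter `s` on the points. -/
noncomputable def act (nets : List Net) (s x : ℕ) : ℕ := swN (nthN nets s) x

/-- apply the networks of a word to the bits of `A`: the last letter's network first. -/
noncomputable def applyW (nets : List Net) (word : List ℕ) (A : ℕ) : ℕ :=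
  List.rec (motive := fun _ => ℕ) A (fun s _ ih => force ih fun B => net (nthN nets s) B) word

theorem applyW_nil (nets : List Net) (A : ℕ) : applyW nets [] A = A := rfl
theorem applyW_cons (nets : List Net) (s : ℕ) (word : List ℕ) (A : ℕ) :
    applyW nets (s :: word) A = net (nthN nets s) (applyW nets word A) := rfl

theorem testBit_applyW {nets : List Net} (hok : ∀ s, (nthN nets s).Ok) (A : ℕ) :
    ∀ (word : List ℕ) (x : ℕ), (applyW nets word A).testBit x = A.testBit (tr (act nets) word x)
  | [], _ => rfl
  | s :: word, x => by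
    rw [applyW_cons, testBit_net _ (hok s), testBit_applyW hok A word]
    rfl

/-! ### the coordinate vectors -/

/-- the positions `x < 2 ^ n` whose `j`-th binary digit is 1. -/
noncomputable def plane (j : ℕ) : ℕ → ℕ :=
  Nat.rec (motive := fun _ => ℕ) (nat_lit 0)
    (fun m ih => bsel (Nat.ble j m)
      (bsel (Nat.beq m j)
        (Nat.shiftLeft (Nat.sub (Nat.pow (nat_lit 2) (Nat.pow (nat_lit 2) j)) (nat_lit 1))
          (Nat.pow (nat_lit 2) j))
        (Nat.lor ih (Nat.shiftLeft ih (Nat.pow (nat_lit 2) m))))
      (nat_lit 0))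

theorem plane_zero (j : ℕ) : plane j 0 = 0 := rfl

theorem plane_succ (j m : ℕ) : plane j (m + 1) =
    bsel (Nat.ble j m) (bsel (Nat.beq m j) ((2 ^ 2 ^ j - 1) <<< 2 ^ j)
      (plane j m ||| (plane j m <<< 2 ^ m))) 0 := rfl

theorem testBit_plane (j : ℕ) : ∀ n x : ℕ,
    (plane j n).testBit x = (decide (x < 2 ^ n) && x.testBit j)
  | 0, x => by
    rw [plane_zero, Nat.zero_testBit]
    rcases Nat.eq_zero_or_pos x with rfl | hx
    · simp
    · have : ¬ x < 2 ^ 0 := by simp; omega
      simp only [this, decide_false, Bool.false_and]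
  | m + 1, x => by
    rw [plane_succ]
    have hpow : 2 ^ (m + 1) = 2 * 2 ^ m := by rw [pow_succ]; ring
    cases hjm : Nat.ble j m with
    | false =>
      have hlt : m < j := lt_of_ble_false hjm
      rw [bsel_false, Nat.zero_testBit]
      by_cases hx : x < 2 ^ (m + 1)
      · have : x < 2 ^ j := lt_of_lt_of_le hx (Nat.pow_le_pow_right (by norm_num) hlt)
        rw [Nat.testBit_lt_two_pow this]; simp
      · simp [hx]
    | true =>
      have hle : j ≤ m := le_of_ble_true hjm
      rw [bsel_true]
      cases hmj : Nat.beq m j with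
      | true =>
        have hmj' : m = j := Nat.eq_of_beq_eq_true hmj
        subst hmj'
        rw [bsel_true, Nat.testBit_shiftLeft, Nat.testBit_two_pow_sub_one]
        by_cases h1 : 2 ^ m ≤ x
        · by_cases h2 : x < 2 ^ (m + 1)
          · have h3 : x - 2 ^ m < 2 ^ m := by omega
            have h4 : x.testBit m = true := by
              rw [Nat.testBit_eq_decide_div_mod_eq]
              have : x / 2 ^ m = 1 := by
                apply Nat.div_eq_of_lt_le <;> omega
              simp [this]
            simp [h1, h2, h3, h4]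
          · have h3 : ¬ x - 2 ^ m < 2 ^ m := by omega
            simp [h2, h3]
        · have h1' : x < 2 ^ m := by omega
          rw [Nat.testBit_lt_two_pow h1']
          simp [h1]
      | false =>
        have hne : m ≠ j := fun h => by rw [h, Nat.beq_refl] at hmj; cases hmj
        have hlt : j < m := by omega
        rw [bsel_false, Nat.testBit_or, Nat.testBit_shiftLeft, testBit_plane j m, testBit_plane j m]
        by_cases h1 : 2 ^ m ≤ x
        · have hx : x = 2 ^ m + (x - 2 ^ m) := by omega
          have h5 : (x - 2 ^ m).testBit j = x.testBit j := by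
            conv_rhs => rw [hx]
            rw [Nat.testBit_two_pow_add_gt hlt]
          have h6 : ¬ x < 2 ^ m := by omega
          by_cases h2 : x < 2 ^ (m + 1)
          · have h3 : x - 2 ^ m < 2 ^ m := by omega
            simp [h1, h2, h3, h5, h6]
          · have h3 : ¬ x - 2 ^ m < 2 ^ m := by omega
            simp [h2, h3, h6]
        · have h1' : x < 2 ^ m := by omega
          have h2 : x < 2 ^ (m + 1) := by omega
          simp [h1, h1', h2]

/-- the planes `j, j+1, …` (`c` of them) are fixed by the word. -/
noncomputable def checkPlanes (nets : List Net) (n : ℕ) (word : List ℕ) (c : ℕ) : ℕ → Bool :=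
  Nat.rec (motive := fun _ => ℕ → Bool) (fun _ => true)
    (fun _ ih j => force (plane j n) fun P =>
      bsel (Nat.beq (applyW nets word P) P) (ih (Nat.add j (nat_lit 1))) false) c

theorem checkPlanes_sound (nets : List Net) (n : ℕ) (word : List ℕ) : ∀ (c j0 : ℕ),
    checkPlanes nets n word c j0 = true →
    ∀ j, j0 ≤ j → j < j0 + c → applyW nets word (plane j n) = plane j n
  | 0, _, _, j, h1, h2 => by omega
  | c + 1, j0, h, j, h1, h2 => by
    change bsel (Nat.beq (applyW nets word (plane j0 n)) (plane j0 n))
      (checkPlanes nets n word c (j0 + 1)) false = true at h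
    cases hb : Nat.beq (applyW nets word (plane j0 n)) (plane j0 n) with
    | false => rw [hb] at h; cases h
    | true =>
      rw [hb] at h
      rcases Nat.eq_or_lt_of_le h1 with rfl | hlt
      · exact Nat.eq_of_beq_eq_true hb
      · exact checkPlanes_sound nets n word c (j0 + 1) h j hlt (by omega)

/-- the range `[0, N)` is preserved by the network. -/
noncomputable def checkRange (nets : List Net) (N : ℕ) (k : ℕ) : ℕ → Bool :=
  Nat.rec (motive := fun _ => ℕ → Bool) (fun _ => true)
    (fun _ ih s => force (Nat.sub (Nat.pow (nat_lit 2) N) (nat_lit 1)) fun R =>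
      bsel (Nat.beq (net (nthN nets s) R) R) (ih (Nat.add s (nat_lit 1))) false) k

theorem checkRange_sound (nets : List Net) (N : ℕ) : ∀ (k s0 : ℕ),
    checkRange nets N k s0 = true →
    ∀ s, s0 ≤ s → s < s0 + k → net (nthN nets s) (2 ^ N - 1) = 2 ^ N - 1
  | 0, _, _, s, h1, h2 => by omega
  | k + 1, s0, h, s, h1, h2 => by
    change bsel (Nat.beq (net (nthN nets s0) (2 ^ N - 1)) (2 ^ N - 1))
      (checkRange nets N k (s0 + 1)) false = true at h
    cases hb : Nat.beq (net (nthN nets s0) (2 ^ N - 1)) (2 ^ N - 1) with
    | false => rw [hb] at h; cases h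
    | true =>
      rw [hb] at h
      rcases Nat.eq_or_lt_of_le h1 with rfl | hlt
      · exact Nat.eq_of_beq_eq_true hb
      · exact checkRange_sound nets N k (s0 + 1) h s hlt (by omega)

theorem act_lt {nets : List Net} (hok : ∀ s, (nthN nets s).Ok) {N s : ℕ}
    (h : net (nthN nets s) (2 ^ N - 1) = 2 ^ N - 1) {x : ℕ} (hx : x < N) : act nets s x < N := by
  have := congrArg (fun z => Nat.testBit z x) h
  simp only [testBit_net _ (hok s), Nat.testBit_two_pow_sub_one] at this
  show swN (nthN nets s) x < N
  simpa [hx] using this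

theorem tr_act_lt {nets : List Net} {N k : ℕ} (hlt : ∀ s < k, ∀ x < N, act nets s x < N) :
    ∀ (word : List ℕ), (∀ s ∈ word, s < k) → ∀ x < N, tr (act nets) word x < N
  | [], _, x, hx => hx
  | s :: word, hw, x, hx =>
    tr_act_lt hlt word (fun t ht => hw t (by simp [ht])) _ (hlt s (hw s (by simp)) x hx)

/-- a word fixing all coordinate vectors fixes all points. -/
theorem fix_of_planes {nets : List Net} (hok : ∀ s, (nthN nets s).Ok) {N k n : ℕ} (hN : N ≤ 2 ^ n)
    (hlt : ∀ s < k, ∀ x < N, act nets s x < N) (word : List ℕ) (hw : ∀ s ∈ word, s < k)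
    (hpl : ∀ j < n, applyW nets word (plane j n) = plane j n) :
    ∀ x < N, tr (act nets) word x = x := by
  intro x hx
  have hy : tr (act nets) word x < N := tr_act_lt hlt word hw x hx
  have hx2 : x < 2 ^ n := lt_of_lt_of_le hx hN
  have hy2 : tr (act nets) word x < 2 ^ n := lt_of_lt_of_le hy hN
  apply Nat.eq_of_testBit_eq
  intro j
  by_cases hj : j < n
  · have := congrArg (fun z => Nat.testBit z x) (hpl j hj)
    simp only [testBit_applyW hok, testBit_plane] at this
    simpa [hx2, hy2] using this
  · have hj' : n ≤ j := by omega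
    rw [Nat.testBit_lt_two_pow (lt_of_lt_of_le hy2 (Nat.pow_le_pow_right (by norm_num) hj')),
      Nat.testBit_lt_two_pow (lt_of_lt_of_le hx2 (Nat.pow_le_pow_right (by norm_num) hj'))]

/-- the letter `s` fixes the point `0`. -/
theorem act_zero {nets : List Net} (hok : ∀ s, (nthN nets s).Ok) {s : ℕ}
    (h : net (nthN nets s) 1 = 1) : act nets s 0 = 0 := by
  have := congrArg (fun z => Nat.testBit z 0) h
  simp only [testBit_net _ (hok s)] at this
  have h1 : Nat.testBit 1 (swN (nthN nets s) 0) = true := by simpa using this
  exact Nat.testBit_one_eq_true_iff_self_eq_zero.mp h1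

/-! ### reachability -/

/-- the points reachable from `0`. -/
inductive Reach (a : ℕ → ℕ → ℕ) (k : ℕ) : ℕ → Prop
  | zero : Reach a k 0
  | step (s : ℕ) (hs : s < k) (y : ℕ) : Reach a k y → Reach a k (a s y)

/-- one sweep: for the letters `s, s+1, …` (`c` of them) add the points mapped into `R`. -/
noncomputable def sweep (nets : List Net) (c : ℕ) : ℕ → ℕ → ℕ :=
  Nat.rec (motive := fun _ => ℕ → ℕ → ℕ) (fun _ R => R)
    (fun _ ih s R => force (Nat.lor R (net (nthN nets s) R)) fun R' => ih (Nat.add s (nat_lit 1)) R') c

/-- `r` sweeps over all `k` letters. -/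
noncomputable def sweeps (nets : List Net) (k r : ℕ) : ℕ → ℕ :=
  Nat.rec (motive := fun _ => ℕ → ℕ) (fun R => R)
    (fun _ ih R => force (sweep nets k (nat_lit 0) R) fun R' => ih R') r

/-- after `r` sweeps from the point `0` all of `[0, N)` is reached. -/
noncomputable def checkReach (nets : List Net) (N k r : ℕ) : Bool :=
  force (Nat.sub (Nat.pow (nat_lit 2) N) (nat_lit 1)) fun F =>
    Nat.beq (Nat.land (sweeps nets k r (nat_lit 1)) F) F

section reach
variable {nets : List Net} {N k : ℕ} {inv : ℕ → ℕ}

theorem sweep_sound (hok : ∀ s, (nthN nets s).Ok) (h : IsAction N k (act nets) inv) :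
    ∀ (c s0 R : ℕ), s0 + c ≤ k → (∀ x < N, R.testBit x = true → Reach (act nets) k x) →
    ∀ x < N, (sweep nets c s0 R).testBit x = true → Reach (act nets) k x
  | 0, _, _, _, hR, x, hx, hb => hR x hx hb
  | c + 1, s0, R, hk, hR, x, hx, hb => by
    change (sweep nets c (s0 + 1) (R ||| net (nthN nets s0) R)).testBit x = true at hb
    refine sweep_sound hok h c (s0 + 1) _ (by omega) ?_ x hx hb
    intro y hy hby
    rw [Nat.testBit_or, testBit_net _ (hok s0), Bool.or_eq_true] at hby
    rcases hby with hby | hby
    · exact hR y hy hby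
    · have hs0 : s0 < k := by omega
      have hz : act nets s0 y < N := h.lt s0 hs0 y hy
      have := Reach.step (a := act nets) (inv s0) (h.invk s0 hs0) _ (hR _ hz hby)
      rwa [h.cancel s0 hs0 y hy] at this

theorem sweeps_sound (hok : ∀ s, (nthN nets s).Ok) (h : IsAction N k (act nets) inv) :
    ∀ (r R : ℕ), (∀ x < N, R.testBit x = true → Reach (act nets) k x) →
    ∀ x < N, (sweeps nets k r R).testBit x = true → Reach (act nets) k x
  | 0, _, hR, x, hx, hb => hR x hx hb
  | r + 1, R, hR, x, hx, hb => by
    change (sweeps nets k r (sweep nets k 0 R)).testBit x = true at hb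
    exact sweeps_sound hok h r _ (sweep_sound hok h k 0 R (by omega) hR) x hx hb

theorem reach_of_check (hok : ∀ s, (nthN nets s).Ok) (h : IsAction N k (act nets) inv) {r : ℕ}
    (hc : checkReach nets N k r = true) : ∀ x < N, Reach (act nets) k x := by
  change Nat.beq (Nat.land (sweeps nets k r 1) (2 ^ N - 1)) (2 ^ N - 1) = true at hc
  have hc' := Nat.eq_of_beq_eq_true hc
  intro x hx
  refine sweeps_sound hok h r 1 ?_ x hx ?_
  · intro y _ hy
    rw [Nat.testBit_one_eq_true_iff_self_eq_zero.mp hy]
    exact Reach.zero
  · have := congrArg (fun z => Nat.testBit z x) hc'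
    simp only [Nat.testBit_two_pow_sub_one] at this
    simpa [hx] using this

end reach

/-- the lower bound: a homomorphism to the permutations of `Fin N` under which `H` fixes `0` and
every point is reachable from `0`. -/
theorem le_index_of_reach {G : Type*} [Group G] (H : Subgroup G) [Finite (G ⧸ H)] {N k : ℕ}
    {a : ℕ → ℕ → ℕ} {inv : ℕ → ℕ} (hN : 0 < N)
    (h : IsAction N k a inv) (S : ℕ → G) (ψ : G →* Equiv.Perm (Fin N))
    (hψ : ∀ s < k, ψ (S s) = (perm h s)⁻¹)
    (hH : ∀ g ∈ H, ψ g ⟨0, hN⟩ = ⟨0, hN⟩)
    (hreach : ∀ x < N, Reach a k x) :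
    N ≤ H.index := by
  classical
  have hr : ∀ x, Reach a k x → ∃ hx : x < N, ∃ g : G, ψ g ⟨0, hN⟩ = ⟨x, hx⟩ := by
    intro x hx
    induction hx with
    | zero => exact ⟨hN, 1, by simp⟩
    | step s hs y _ ih =>
      obtain ⟨hy, g, hg⟩ := ih
      refine ⟨h.lt s hs y hy, (S s)⁻¹ * g, ?_⟩
      rw [map_mul, map_inv, hψ s hs, inv_inv, Equiv.Perm.mul_apply, hg]
      apply Fin.ext
      rw [perm_apply h hs]
  have hreach' : ∀ x (hx : x < N), ∃ g : G, ψ g ⟨0, hN⟩ = ⟨x, hx⟩ := fun x hx =>
    (hr x (hreach x hx)).2
  choose g hg using hreach'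
  let f : Fin N → G ⧸ H := fun x => QuotientGroup.mk (g x.1 x.2)
  have hf : Function.Injective f := by
    intro x y hxy
    change (QuotientGroup.mk (g x.1 x.2) : G ⧸ H) = QuotientGroup.mk (g y.1 y.2) at hxy
    rw [QuotientGroup.eq] at hxy
    have := hH _ hxy
    rw [map_mul, map_inv, Equiv.Perm.mul_apply, hg y.1 y.2] at this
    have h2 : ψ (g x.1 x.2) ⟨0, hN⟩ = ⟨y.1, y.2⟩ := by
      rw [← this]; simp
    rw [hg x.1 x.2] at h2
    exact Fin.ext (by simpa using congrArg Fin.val h2)
  have := Nat.card_le_card_of_injective f hf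
  rwa [Nat.card_eq_fintype_card, Fintype.card_fin] at this

end Cfsg.Agent.Lib.helper19_Benes
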