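import Mathlib
import Cfsg.Agent.Lib.helper19_Benes

/-!
# Suborbits on Beneš-network permutation models, and maximality of a point stabiliser of a
rank 3 action (helper28; on top of helper19's `helper19_Benes`)
-/

set_option autoImplicit false

namespace Cfsg.Agent.Lib.Helper28_BenesOrb

open Cfsg.Agent.Lib.helper19_TC2 Cfsg.Agent.Lib.helper19_TC2L Cfsg.Agent.Lib.helper19_Benes

/-- the points that a word in the letters `ls` moves to `r`. -/
inductive Conn (a : ℕ → ℕ → ℕ) (ls : List ℕ) (r : ℕ) : ℕ → Prop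
  | base : Conn a ls r r
  | step (s : ℕ) (hs : s ∈ ls) (y : ℕ) : Conn a ls r (a s y) → Conn a ls r y

theorem conn_of_tr {a : ℕ → ℕ → ℕ} {ls : List ℕ} {r : ℕ} :
    ∀ (word : List ℕ), (∀ s ∈ word, s ∈ ls) → ∀ x, tr a word x = r → Conn a ls r x
  | [], _, x, h => by
    have : x = r := h
    rw [this]; exact Conn.base
  | s :: word, hw, x, h =>
    Conn.step s (hw s (by simp)) x
      (conn_of_tr word (fun t ht => hw t (by simp [ht])) (a s x) h)

/-- one sweep with the letters of the list. -/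
noncomputable def sweepL (nets : List Net) (ls : List ℕ) : ℕ → ℕ :=
  List.rec (motive := fun _ => ℕ → ℕ) (fun R => R)
    (fun s _ ih R => force (Nat.lor R (net (nthN nets s) R)) fun R' => ih R') ls

theorem sweepL_nil (nets : List Net) (R : ℕ) : sweepL nets [] R = R := rfl
theorem sweepL_cons (nets : List Net) (s : ℕ) (ls : List ℕ) (R : ℕ) :
    sweepL nets (s :: ls) R = sweepL nets ls (R ||| net (nthN nets s) R) := rfl

/-- `n` sweeps. -/
noncomputable def sweepsL (nets : List Net) (ls : List ℕ) (n : ℕ) : ℕ → ℕ :=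
  Nat.rec (motive := fun _ => ℕ → ℕ) (fun R => R)
    (fun _ ih R => force (sweepL nets ls R) fun R' => ih R') n

theorem sweepsL_zero (nets : List Net) (ls : List ℕ) (R : ℕ) : sweepsL nets ls 0 R = R := rfl
theorem sweepsL_succ (nets : List Net) (ls : List ℕ) (n R : ℕ) :
    sweepsL nets ls (n + 1) R = sweepsL nets ls n (sweepL nets ls R) := rfl

/-- the points found from `root` after `n` sweeps, as a bit vector. -/
noncomputable def orbBits (nets : List Net) (ls : List ℕ) (n root : ℕ) : ℕ :=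
  sweepsL nets ls n (Nat.shiftLeft (nat_lit 1) root)

section sound
variable {nets : List Net} {ls : List ℕ} {r : ℕ}

theorem sweepL_sound (hok : ∀ s, (nthN nets s).Ok) :
    ∀ (ls' : List ℕ), (∀ s ∈ ls', s ∈ ls) → ∀ R : ℕ,
    (∀ x, R.testBit x = true → Conn (act nets) ls r x) →
    ∀ x, (sweepL nets ls' R).testBit x = true → Conn (act nets) ls r x
  | [], _, _, hR, x, hb => hR x hb
  | s :: ls', hsub, R, hR, x, hb => by
    rw [sweepL_cons] at hb
    refine sweepL_sound hok ls' (fun t ht => hsub t (by simp [ht])) _ ?_ x hb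
    intro y hby
    rw [Nat.testBit_or, testBit_net _ (hok s), Bool.or_eq_true] at hby
    rcases hby with hby | hby
    · exact hR y hby
    · exact Conn.step s (hsub s (by simp)) y (hR _ hby)

theorem sweepsL_sound (hok : ∀ s, (nthN nets s).Ok) :
    ∀ (n R : ℕ), (∀ x, R.testBit x = true → Conn (act nets) ls r x) →
    ∀ x, (sweepsL nets ls n R).testBit x = true → Conn (act nets) ls r x
  | 0, _, hR, x, hb => hR x hb
  | n + 1, R, hR, x, hb => by
    rw [sweepsL_succ] at hb
    exact sweepsL_sound hok n _ (sweepL_sound hok ls (fun _ h => h) R hR) x hb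

theorem conn_of_orbBits (hok : ∀ s, (nthN nets s).Ok) (n : ℕ) :
    ∀ x, (orbBits nets ls n r).testBit x = true → Conn (act nets) ls r x := by
  apply sweepsL_sound hok n
  intro x hx
  have h1 : Nat.shiftLeft 1 r = 2 ^ r := by
    show 1 <<< r = 2 ^ r
    rw [Nat.one_shiftLeft]
  rw [h1, Nat.testBit_two_pow] at hx
  have : r = x := by simpa using hx
  rw [← this]; exact Conn.base

end sound

/-- the two classes found from `r1`, `r2` cover all points but `0`. -/
noncomputable def checkCover (nets : List Net) (ls : List ℕ) (N n1 r1 n2 r2 : ℕ) : Bool :=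
  force (orbBits nets ls n1 r1) fun c1 => force (orbBits nets ls n2 r2) fun c2 =>
    force (Nat.sub (Nat.pow (nat_lit 2) N) (nat_lit 1)) fun F =>
      Nat.beq (Nat.land (Nat.lor (Nat.lor c1 c2) (nat_lit 1)) F) F

theorem cover_sound {nets : List Net} {ls : List ℕ} (hok : ∀ s, (nthN nets s).Ok)
    {N n1 r1 n2 r2 : ℕ} (h : checkCover nets ls N n1 r1 n2 r2 = true) :
    ∀ x < N, x = 0 ∨ Conn (act nets) ls r1 x ∨ Conn (act nets) ls r2 x := by
  change Nat.beq (Nat.land (Nat.lor (Nat.lor (orbBits nets ls n1 r1) (orbBits nets ls n2 r2)) 1)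
    (2 ^ N - 1)) (2 ^ N - 1) = true at h
  have h' := Nat.eq_of_beq_eq_true h
  intro x hx
  have := congrArg (fun z => Nat.testBit z x) h'
  simp only [Nat.testBit_two_pow_sub_one] at this
  have h2 : (Nat.land (Nat.lor (Nat.lor (orbBits nets ls n1 r1) (orbBits nets ls n2 r2)) 1)
      (2 ^ N - 1)).testBit x = true := by rw [this]; simpa using hx
  change (((orbBits nets ls n1 r1 ||| orbBits nets ls n2 r2) ||| 1) &&& (2 ^ N - 1)).testBit x
    = true at h2
  rw [Nat.testBit_and, Nat.testBit_or, Nat.testBit_or, Bool.and_eq_true, Bool.or_eq_true,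
    Bool.or_eq_true] at h2
  rcases h2.1 with (h3 | h3) | h3
  · exact Or.inr (Or.inl (conn_of_orbBits hok n1 x h3))
  · exact Or.inr (Or.inr (conn_of_orbBits hok n2 x h3))
  · exact Or.inl (Nat.testBit_one_eq_true_iff_self_eq_zero.mp h3)

/-- the word moves the point `x` to the point `y`. -/
noncomputable def checkTr (nets : List Net) (word : List ℕ) (x y : ℕ) : Bool :=
  Nat.beq (applyW nets word (Nat.shiftLeft (nat_lit 1) y)) (Nat.shiftLeft (nat_lit 1) x)

theorem tr_of_check {nets : List Net} (hok : ∀ s, (nthN nets s).Ok) {word : List ℕ} {x y : ℕ}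
    (h : checkTr nets word x y = true) : tr (act nets) word x = y := by
  have h' : applyW nets word (1 <<< y) = 1 <<< x := Nat.eq_of_beq_eq_true h
  have := congrArg (fun z => Nat.testBit z x) h'
  simp only [testBit_applyW hok, Nat.one_shiftLeft, Nat.testBit_two_pow] at this
  have h2 : y = tr (act nets) word x := by simpa using this
  exact h2.symm

/-! ### maximality of the point stabiliser -/

/-- A point stabiliser `H` of a transitive action with two further `H`-classes `C1`, `C2` is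
maximal as soon as `G` is generated by `H` and an element `k` moving the base point into `C2`, and
some element moves the base point into `C1` and a point of `C1` into `C2`. -/
theorem maximal_of_rank3 {G X : Type*} [Group G] (ψ : G →* Equiv.Perm X) (H : Subgroup G) (x0 : X)
    (hstab : ∀ g : G, ψ g x0 = x0 → g ∈ H)
    (k : G) (hgen : ∀ K : Subgroup G, H ≤ K → k ∈ K → K = ⊤)
    (r1 r2 : X)
    (hcover : ∀ x, x = x0 ∨ (∃ h ∈ H, ψ h x = r1) ∨ (∃ h ∈ H, ψ h x = r2))
    (hk : ψ k x0 = r2)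
    (g1 : G) (hg1 : ψ g1 x0 = r1)
    (x1 : X) (hx1 : ∃ h ∈ H, ψ h x1 = r1)
    (hx1' : ∃ h ∈ H, ψ h (ψ g1 x1) = r2) :
    ∀ K : Subgroup G, H ≤ K → K = H ∨ K = ⊤ := by
  intro K hHK
  by_cases hKH : K ≤ H
  · exact Or.inl (le_antisymm hKH hHK)
  right
  -- an element of `K` outside `H`
  obtain ⟨κ, hκK, hκH⟩ : ∃ κ ∈ K, κ ∉ H := by
    by_contra hcon
    apply hKH
    intro z hz
    by_contra hzH
    exact hcon ⟨z, hz, hzH⟩
  -- membership in `K` from the image of the base point
  have hmemK : ∀ g : G, (∃ κ' ∈ K, ψ κ' x0 = ψ g x0) → g ∈ K := by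
    rintro g ⟨κ', hκ', he⟩
    have h1 : ψ (κ'⁻¹ * g) x0 = x0 := by
      rw [map_mul, Equiv.Perm.mul_apply, ← he, ← Equiv.Perm.mul_apply, ← map_mul]
      simp
    have h2 : κ'⁻¹ * g ∈ K := hHK (hstab _ h1)
    have : g = κ' * (κ'⁻¹ * g) := by group
    rw [this]; exact K.mul_mem hκ' h2
  -- if the block meets `C2` then `K = ⊤`
  have hC2 : ∀ y : X, (∃ κ' ∈ K, ψ κ' x0 = y) → (∃ h ∈ H, ψ h y = r2) → K = ⊤ := by
    rintro y ⟨κ', hκ', rfl⟩ ⟨h, hh, hy⟩
    apply hgen K hHK
    apply hmemK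
    refine ⟨h * κ', K.mul_mem (hHK hh) hκ', ?_⟩
    rw [map_mul, Equiv.Perm.mul_apply, hy, hk]
  have hy0 : ψ κ x0 ≠ x0 := fun h => hκH (hstab κ h)
  rcases hcover (ψ κ x0) with h0 | hc1 | hc2
  · exact absurd h0 hy0
  · -- the block contains `C1`
    obtain ⟨h, hh, hy⟩ := hc1
    have hr1 : ∃ κ' ∈ K, ψ κ' x0 = r1 :=
      ⟨h * κ, K.mul_mem (hHK hh) hκK, by rw [map_mul, Equiv.Perm.mul_apply, hy]⟩
    have hg1K : g1 ∈ K := by
      apply hmemK
      obtain ⟨κ', hκ', he⟩ := hr1
      exact ⟨κ', hκ', by rw [he, hg1]⟩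
    obtain ⟨h1, hh1, hx1e⟩ := hx1
    obtain ⟨κ', hκ', he⟩ := hr1
    have hx1B : ψ (h1⁻¹ * κ') x0 = x1 := by
      rw [map_mul, Equiv.Perm.mul_apply, he, ← hx1e, ← Equiv.Perm.mul_apply, ← map_mul]
      simp
    refine hC2 (ψ g1 x1) ⟨g1 * (h1⁻¹ * κ'), K.mul_mem hg1K (K.mul_mem (K.inv_mem (hHK hh1)) hκ'), ?_⟩
      hx1'
    rw [map_mul, Equiv.Perm.mul_apply, hx1B]
  · exact hC2 _ ⟨κ, hκK, rfl⟩ hc2

/-- a subgroup of the stabiliser of the same finite index is the stabiliser. -/
theorem mem_of_fix_of_index {G X : Type*} [Group G] (ψ : G →* Equiv.Perm X) (H : Subgroup G) (x0 : X)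
    (hfix : ∀ g ∈ H, ψ g x0 = x0) {N : ℕ} (hN : 0 < N) (hidx : H.index = N)
    (hle : ∀ St : Subgroup G, (∀ g, g ∈ St ↔ ψ g x0 = x0) → N ≤ St.index) :
    ∀ g : G, ψ g x0 = x0 → g ∈ H := by
  let St : Subgroup G :=
    { carrier := {g | ψ g x0 = x0}
      mul_mem' := by
        intro a b ha hb
        show ψ (a * b) x0 = x0
        rw [map_mul, Equiv.Perm.mul_apply, hb, ha]
      one_mem' := by show ψ 1 x0 = x0; simp
      inv_mem' := by
        intro a ha
        show ψ a⁻¹ x0 = x0
        rw [map_inv, Equiv.Perm.inv_eq_iff_eq]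
        exact ha.symm }
  have hHSt : H ≤ St := fun g hg => hfix g hg
  have h1 : N ≤ St.index := hle St (fun g => Iff.rfl)
  have h2 := Subgroup.relIndex_mul_index hHSt
  rw [hidx] at h2
  have h3 : St.index ∣ N := Dvd.intro_left _ h2
  have h4 : St.index = N := le_antisymm (Nat.le_of_dvd hN h3) h1
  rw [h4] at h2
  have h5 : H.relIndex St = 1 := by
    have : H.relIndex St * N = 1 * N := by rw [h2, one_mul]
    exact Nat.eq_of_mul_eq_mul_right hN this
  have h6 : St ≤ H := Subgroup.relIndex_eq_one.mp h5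
  intro g hg
  exact h6 hg

end Cfsg.Agent.Lib.Helper28_BenesOrb
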