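import Cfsg.Agent.Lib.Helper28_CosetPerm

/-!
Splitting the kernel-friendly counter `cntB` into chunks: a single `decide +kernel` over a long range
keeps every intermediate number of the evaluation alive until the declaration is finished, so long
counts are done chunk by chunk.  By helper28.
-/

set_option autoImplicit false

namespace Cfsg.Agent.Lib.Helper28_CntSplit

open Cfsg.Agent.Lib.Helper28_CosetPerm

theorem cntB_succ (p : ℕ → Bool) (n : ℕ) :
    cntB p (n + 1) = cond (p n) (Nat.succ (cntB p n)) (cntB p n) := rfl

theorem cntB_add (p : ℕ → Bool) (a : ℕ) : ∀ b, cntB p (a + b) = cntB p a + cntB (fun k => p (a + k)) b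
  | 0 => rfl
  | b + 1 => by
    rw [← Nat.add_assoc, cntB_succ, cntB_succ, cntB_add p a b]
    cases p (a + b) <;> simp [Nat.succ_eq_add_one, Nat.add_assoc]

/-- the count over `m` chunks of length `c` -/
theorem cntB_chunks (p : ℕ → Bool) (c : ℕ) (w : ℕ → ℕ) : ∀ m,
    (∀ i < m, cntB (fun j => p (i * c + j)) c = w i) → cntB p (m * c) = ((List.range m).map w).sum
  | 0, _ => by simp [cntB]
  | m + 1, h => by
    rw [Nat.succ_mul, cntB_add, cntB_chunks p c w m (fun i hi => h i (Nat.lt_succ_of_lt hi)),
      h m (Nat.lt_succ_self m), List.range_succ, List.map_append, List.sum_append]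
    simp

end Cfsg.Agent.Lib.Helper28_CntSplit
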