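import Mathlib
import Cfsg.Prelude.Def_SporadicB

/-!
# Restricting permutation actions, and double covers from a common action

helper28.  `restr` restricts a permutation representation to an invariant subset given by an
injection.  `nonsplit_of_common_action`: if `H` and `S` act on the same set `X` with the same
image, the kernel on the `S` side is the centre, `S / Z(S)` has trivial centre and
`|H| = 2 |S / Z(S)|`, then `H` is a double cover of `S / Z(S)`, non-split as soon as the
central involution lies in every subgroup of index two.
-/

set_option autoImplicit false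

namespace Cfsg.Agent.Lib.Helper28_CommonAct

open Equiv

section restr

variable {A X Y : Type*} [Group A]

/-- the restricted action, as endomorphisms -/
noncomputable def restrEnd (f : A →* Perm Y) (e : X → Y) (he : Function.Injective e)
    (hinv : ∀ a x, ∃ x', f a (e x) = e x') : A →* Function.End X where
  toFun a := fun x => Classical.choose (hinv a x)
  map_one' := by
    funext x
    apply he
    rw [← Classical.choose_spec (hinv 1 x), map_one]
    rfl
  map_mul' := by
    intro a b
    funext x
    apply he
    show e (Classical.choose (hinv (a * b) x)) =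
      e (Classical.choose (hinv a (Classical.choose (hinv b x))))
    rw [← Classical.choose_spec (hinv (a * b) x), ← Classical.choose_spec (hinv a _),
      ← Classical.choose_spec (hinv b x), map_mul, Perm.mul_apply]

/-- the restriction of a permutation representation to an invariant subset -/
noncomputable def restr (f : A →* Perm Y) (e : X → Y) (he : Function.Injective e)
    (hinv : ∀ a x, ∃ x', f a (e x) = e x') : A →* Perm X :=
  MonoidHom.toHomPerm (restrEnd f e he hinv)

theorem restr_spec (f : A →* Perm Y) (e : X → Y) (he : Function.Injective e)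
    (hinv : ∀ a x, ∃ x', f a (e x) = e x') (a : A) (x : X) :
    e (restr f e he hinv a x) = f a (e x) :=
  (Classical.choose_spec (hinv a x)).symm

end restr

/-- Double cover from a common action. -/
theorem nonsplit_of_common_action {H S X : Type*} [Group H] [Group S] [Finite H]
    (ρ : H →* Perm X) (θ : S →* Perm X)
    (hrange : ρ.range = θ.range) (hker : θ.ker = Subgroup.center S)
    (hcenter : Subgroup.center (S ⧸ Subgroup.center S) = ⊥)
    (hcard : Nat.card H = 2 * Nat.card (S ⧸ Subgroup.center S))
    (a : H) (ha : a ∈ ρ.ker) (ha1 : a ≠ 1) (hac : a ∈ Subgroup.center H)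
    (hns : ∀ L : Subgroup H, L.index = 2 → a ∈ L) :
    Cfsg.IsNonsplitDoubleCover H (S ⧸ Subgroup.center S) := by
  -- the isomorphism of the quotients
  let e : H ⧸ ρ.ker ≃* S ⧸ Subgroup.center S :=
    (QuotientGroup.quotientKerEquivRange ρ).trans
      ((MulEquiv.subgroupCongr hrange).trans
        ((QuotientGroup.quotientKerEquivRange θ).symm.trans
          (QuotientGroup.quotientMulEquivOfEq hker)))
  have hfinQ : Finite (S ⧸ Subgroup.center S) := Finite.of_equiv _ e.toEquiv
  have hposQ : 0 < Nat.card (S ⧸ Subgroup.center S) := Nat.card_pos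
  -- the kernel has order two
  have hk2 : Nat.card ρ.ker = 2 := by
    have h1 := Subgroup.card_eq_card_quotient_mul_card_subgroup ρ.ker
    rw [Nat.card_congr e.toEquiv, hcard] at h1
    have h2 : Nat.card (S ⧸ Subgroup.center S) * 2 =
        Nat.card (S ⧸ Subgroup.center S) * Nat.card ρ.ker := by rw [← h1]; ring
    exact (Nat.eq_of_mul_eq_mul_left hposQ h2).symm
  -- the kernel is generated by `a`
  have hord : orderOf a = 2 := by
    have hdvd : orderOf (⟨a, ha⟩ : ρ.ker) ∣ 2 := hk2 ▸ orderOf_dvd_natCard _
    have hsub : orderOf (⟨a, ha⟩ : ρ.ker) = orderOf a := by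
      rw [← Subgroup.orderOf_coe]
    rw [hsub] at hdvd
    rcases (Nat.dvd_prime Nat.prime_two).mp hdvd with h | h
    · exact absurd (orderOf_eq_one_iff.mp h) ha1
    · exact h
  have hkz : Subgroup.zpowers a = ρ.ker := by
    apply Subgroup.eq_of_le_of_card_ge
    · rw [Subgroup.zpowers_le]; exact ha
    · rw [Nat.card_zpowers, hord, hk2]
  -- the centre is the kernel
  have hcen : Subgroup.center H = ρ.ker := by
    apply le_antisymm
    · intro z hz
      have hq : e (QuotientGroup.mk z) ∈ Subgroup.center (S ⧸ Subgroup.center S) := by
        rw [Subgroup.mem_center_iff]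
        intro y
        obtain ⟨y', rfl⟩ := e.surjective y
        obtain ⟨h, rfl⟩ := QuotientGroup.mk_surjective y'
        rw [← map_mul, ← map_mul, ← QuotientGroup.mk_mul, ← QuotientGroup.mk_mul,
          (Subgroup.mem_center_iff.mp hz) h]
      rw [hcenter, Subgroup.mem_bot] at hq
      have h1 : (QuotientGroup.mk z : H ⧸ ρ.ker) = 1 := by
        apply e.injective
        rw [hq, map_one]
      exact (QuotientGroup.eq_one_iff z).mp h1
    · rw [← hkz, Subgroup.zpowers_le]
      exact hac
  refine ⟨by rw [hcen]; exact hk2, ⟨(QuotientGroup.quotientMulEquivOfEq hcen).trans e⟩, ?_⟩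
  intro L hL
  have hidx : L.index = 2 := by
    rw [hL.index_eq_card, hcen]
    exact hk2
  have haL := hns L hidx
  have hdisj := hL.disjoint
  have : a ∈ Subgroup.center H ⊓ L := ⟨hac, haL⟩
  rw [hdisj.eq_bot, Subgroup.mem_bot] at this
  exact ha1 this

end Cfsg.Agent.Lib.Helper28_CommonAct
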