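import Cfsg.Agent.Lib.Helper28_CosetPerm
import Cfsg.Prelude.Def_SporCoxeter

/-!
# Glue between verified coset tables and the Coxeter-style presentations of `Def_SporCoxeter`
(helper28)
-/

set_option autoImplicit false
set_option linter.unusedSectionVars false

namespace Cfsg.Agent.Lib.Helper28_CosetCox

open Cfsg.Spor Cfsg.Agent.Lib.Helper28_CosetPerm

section

variable {α : Type} [DecidableEq α]

/-- The word `(x y)^m` as a list of letters. -/
def pairWord (x y : α) (m : ℕ) : List (α × Bool) :=
  (List.replicate m [(x, true), (y, true)]).flatten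

theorem mk_pairWord (x y : α) (m : ℕ) :
    FreeGroup.mk (pairWord x y m) = (FreeGroup.of x * FreeGroup.of y) ^ m := by
  induction m with
  | zero => rfl
  | succ m ih =>
    rw [pow_succ', ← ih]
    rfl

theorem pow_swap_eq_one {G : Type*} [Group G] (a b : G) (m : ℕ) (h : (a * b) ^ m = 1) :
    (b * a) ^ m = 1 := by
  have : b * a = a⁻¹ * (a * b) * a⁻¹⁻¹ := by group
  rw [this, conj_pow, h]
  group

/-- The Coxeter relators are killed by `f` as soon as the pair relations hold. -/
theorem cox_lift_eq_one {G : Type*} [Group G] (edges : List (α × ℕ × α)) (f : α → G)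
    (h : ∀ x ∈ coxNodes edges, ∀ y ∈ coxNodes edges, (f x * f y) ^ coxLabel edges x y = 1) :
    ∀ r ∈ coxRelators edges, FreeGroup.lift f r = 1 := by
  rintro r ⟨x, hx, y, hy, rfl⟩
  rw [map_pow, map_mul, FreeGroup.lift_apply_of, FreeGroup.lift_apply_of]
  exact h x hx y hy

/-- Decidable coverage condition: every Coxeter relator, in one of the two orders, is in the
list of checked words. -/
def CoxCovered (edges : List (α × ℕ × α)) (words : List (List (α × Bool))) : Prop :=
  ∀ x ∈ coxNodes edges, ∀ y ∈ coxNodes edges,
    pairWord x y (coxLabel edges x y) ∈ words ∨ pairWord y x (coxLabel edges x y) ∈ words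

instance (edges : List (α × ℕ × α)) (words : List (List (α × Bool))) :
    Decidable (CoxCovered edges words) := by
  unfold CoxCovered; infer_instance

theorem cox_of_words {G : Type*} [Group G] (edges : List (α × ℕ × α)) (f : α → G)
    (words : List (List (α × Bool)))
    (hw : ∀ u ∈ words, FreeGroup.lift f (FreeGroup.mk u) = 1)
    (hc : CoxCovered edges words) :
    ∀ r ∈ coxRelators edges, FreeGroup.lift f r = 1 := by
  apply cox_lift_eq_one
  intro x hx y hy
  rcases hc x hx y hy with h | h
  · have := hw _ h
    rwa [mk_pairWord, map_pow, map_mul, FreeGroup.lift_apply_of, FreeGroup.lift_apply_of] at this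
  · have := hw _ h
    rw [mk_pairWord, map_pow, map_mul, FreeGroup.lift_apply_of, FreeGroup.lift_apply_of] at this
    exact pow_swap_eq_one _ _ _ this

/-- Coverage of the extra relators. -/
def ExtraCovered (extra : List (FreeGroup α)) (words : List (List (α × Bool))) : Prop :=
  ∀ r ∈ extra, ∃ u ∈ words, FreeGroup.mk u = r

theorem rels_of_words {G : Type*} [Group G] (edges : List (α × ℕ × α)) (extra : List (FreeGroup α))
    (f : α → G) (words : List (List (α × Bool)))
    (hw : ∀ u ∈ words, FreeGroup.lift f (FreeGroup.mk u) = 1)
    (hc : CoxCovered edges words) (he : ExtraCovered extra words) :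
    ∀ r ∈ coxRelators edges ∪ {r | r ∈ extra}, FreeGroup.lift f r = 1 := by
  rintro r (hr | hr)
  · exact cox_of_words edges f words hw hc r hr
  · obtain ⟨u, hu, rfl⟩ := he r hr
    exact hw u hu

end

section Main

variable {α : Type} [DecidableEq α] {n w mask : ℕ} {col : α → Bool → ℕ} [NeZero n]

/-- Main assembly: a table passing the complete pointwise check, whose subgroup generators
fix `0`, is a verified permutation representation. -/
theorem verified_of_table (nw : ℕ) (hw0 : 0 < w) (hnw : nw = n * w)
    (letters : List (α × Bool)) (hall : ∀ a b, (a, b) ∈ letters)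
    (edges : List (α × ℕ × α)) (extra : List (FreeGroup α))
    (words : List (List (α × Bool)))
    (hchk : ∀ k < n, pchk nw w mask col letters words (k * w) = true)
    (hc : CoxCovered edges words) (he : ExtraCovered extra words)
    (S : Set (FreeGroup α))
    (hS : ∀ s ∈ S, ∃ u : List (α × Bool), FreeGroup.mk u = s ∧ walk mask col u 0 = 0) :
    Verified n w mask col (coxRelators edges ∪ {r | r ∈ extra}) S := by
  obtain ⟨hv, hwalk, hconn⟩ := pchk_spec n nw w mask col letters words hw0 hnw hall hchk
  have hw : ∀ u ∈ words, FreeGroup.lift (perm hv) (FreeGroup.mk u) = 1 := by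
    intro u hu
    apply lift_eq_one_of_walk hv u
    intro k hk
    exact walk_of_rchk mask col words _ (hwalk k hk) u hu
  have hrel := rels_of_words edges extra (perm hv) words hw hc he
  have hsub : ∀ s ∈ S, FreeGroup.lift (perm hv) s 0 = 0 := by
    intro s hs
    obtain ⟨u, rfl, hu⟩ := hS s hs
    exact lift_zero_of_walk hv u hu
  exact ⟨hv, hrel, hsub, trans_of_cchk hv letters hconn⟩

end Main

end Cfsg.Agent.Lib.Helper28_CosetCox
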