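import Mathlib

/-!
# Lower bounds for indices of subgroups of presented groups from a verified coset table

Helper library (helper28).  Abstract part: a transitive permutation representation of a
presented group on `Fin n` in which the subgroup generators fix the point `0` shows that `n`
divides the index of the subgroup; together with an upper bound `index ≤ n` one gets
`index = n` and can read off the orbits of the subgroup on its cosets from the orbits of the
generator permutations on `Fin n`.
-/

set_option autoImplicit false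
set_option linter.unusedSectionVars false
set_option linter.style.haveILetI false

namespace Cfsg.Agent.Lib.Helper28_CosetPerm

open MulAction

section Abstract

variable {α : Type*} {rels : Set (FreeGroup α)} {n : ℕ} [NeZero n]

/-- The permutation representation of the presented group. -/
def psi (f : α → Equiv.Perm (Fin n)) (hrel : ∀ r ∈ rels, FreeGroup.lift f r = 1) :
    PresentedGroup rels →* Equiv.Perm (Fin n) :=
  PresentedGroup.toGroup hrel

theorem psi_mk (f : α → Equiv.Perm (Fin n)) (hrel : ∀ r ∈ rels, FreeGroup.lift f r = 1)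
    (w : FreeGroup α) : psi f hrel (PresentedGroup.mk rels w) = FreeGroup.lift f w := rfl

/-- The action of the presented group on `Fin n` through `psi`. -/
@[reducible] def act (f : α → Equiv.Perm (Fin n)) (hrel : ∀ r ∈ rels, FreeGroup.lift f r = 1) :
    MulAction (PresentedGroup rels) (Fin n) :=
  MulAction.compHom (Fin n) (psi f hrel)

theorem act_smul (f : α → Equiv.Perm (Fin n)) (hrel : ∀ r ∈ rels, FreeGroup.lift f r = 1)
    (g : PresentedGroup rels) (x : Fin n) :
    (letI := act f hrel; g • x) = psi f hrel g x := rfl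

theorem map_closure_le_stabilizer (f : α → Equiv.Perm (Fin n))
    (hrel : ∀ r ∈ rels, FreeGroup.lift f r = 1) (S : Set (FreeGroup α))
    (hsub : ∀ s ∈ S, FreeGroup.lift f s 0 = 0) :
    (Subgroup.closure S).map (PresentedGroup.mk rels) ≤
      (letI := act f hrel; stabilizer (PresentedGroup rels) (0 : Fin n)) := by
  letI := act f hrel
  rw [Subgroup.map_le_iff_le_comap, Subgroup.closure_le]
  intro s hs
  show PresentedGroup.mk rels s ∈ stabilizer (PresentedGroup rels) (0 : Fin n)
  rw [mem_stabilizer_iff]
  show psi f hrel (PresentedGroup.mk rels s) 0 = 0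
  rw [psi_mk]
  exact hsub s hs

theorem isPretransitive_act (f : α → Equiv.Perm (Fin n))
    (hrel : ∀ r ∈ rels, FreeGroup.lift f r = 1)
    (htrans : ∀ x : Fin n, ∃ w : FreeGroup α, FreeGroup.lift f w 0 = x) :
    (letI := act f hrel; IsPretransitive (PresentedGroup rels) (Fin n)) := by
  letI := act f hrel
  refine ⟨fun x y => ?_⟩
  obtain ⟨u, hu⟩ := htrans x
  obtain ⟨v, hv⟩ := htrans y
  refine ⟨PresentedGroup.mk rels (v * u⁻¹), ?_⟩
  show psi f hrel (PresentedGroup.mk rels (v * u⁻¹)) x = y
  rw [psi_mk, map_mul, map_inv, Equiv.Perm.mul_apply, ← hu, Equiv.Perm.inv_def, Equiv.symm_apply_apply, hv]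

theorem index_stabilizer_act (f : α → Equiv.Perm (Fin n))
    (hrel : ∀ r ∈ rels, FreeGroup.lift f r = 1)
    (htrans : ∀ x : Fin n, ∃ w : FreeGroup α, FreeGroup.lift f w 0 = x) :
    (letI := act f hrel; (stabilizer (PresentedGroup rels) (0 : Fin n)).index) = n := by
  letI := act f hrel
  haveI := isPretransitive_act f hrel htrans
  rw [index_stabilizer_of_transitive, Nat.card_eq_fintype_card, Fintype.card_fin]

/-- `n` divides the index. -/
theorem dvd_index (f : α → Equiv.Perm (Fin n))
    (hrel : ∀ r ∈ rels, FreeGroup.lift f r = 1) (S : Set (FreeGroup α))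
    (hsub : ∀ s ∈ S, FreeGroup.lift f s 0 = 0)
    (htrans : ∀ x : Fin n, ∃ w : FreeGroup α, FreeGroup.lift f w 0 = x) :
    n ∣ ((Subgroup.closure S).map (PresentedGroup.mk rels)).index := by
  have h := Subgroup.index_dvd_of_le (map_closure_le_stabilizer f hrel S hsub)
  rwa [index_stabilizer_act f hrel htrans] at h

/-- Index equals `n` given the upper bound. -/
theorem index_eq (f : α → Equiv.Perm (Fin n))
    (hrel : ∀ r ∈ rels, FreeGroup.lift f r = 1) (S : Set (FreeGroup α))
    (hsub : ∀ s ∈ S, FreeGroup.lift f s 0 = 0)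
    (htrans : ∀ x : Fin n, ∃ w : FreeGroup α, FreeGroup.lift f w 0 = x)
    (hfin : ((Subgroup.closure S).map (PresentedGroup.mk rels)).index ≠ 0)
    (hle : ((Subgroup.closure S).map (PresentedGroup.mk rels)).index ≤ n) :
    ((Subgroup.closure S).map (PresentedGroup.mk rels)).index = n :=
  Nat.le_antisymm hle (Nat.le_of_dvd (Nat.pos_of_ne_zero hfin) (dvd_index f hrel S hsub htrans))

/-- The subgroup is the full stabilizer, given the upper bound. -/
theorem eq_stabilizer (f : α → Equiv.Perm (Fin n))
    (hrel : ∀ r ∈ rels, FreeGroup.lift f r = 1) (S : Set (FreeGroup α))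
    (hsub : ∀ s ∈ S, FreeGroup.lift f s 0 = 0)
    (htrans : ∀ x : Fin n, ∃ w : FreeGroup α, FreeGroup.lift f w 0 = x)
    (hfin : ((Subgroup.closure S).map (PresentedGroup.mk rels)).index ≠ 0)
    (hle : ((Subgroup.closure S).map (PresentedGroup.mk rels)).index ≤ n) :
    (Subgroup.closure S).map (PresentedGroup.mk rels) =
      (letI := act f hrel; stabilizer (PresentedGroup rels) (0 : Fin n)) := by
  letI := act f hrel
  have hle' := map_closure_le_stabilizer f hrel S hsub
  refine le_antisymm hle' ?_
  have h1 := Subgroup.relIndex_mul_index hle'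
  rw [index_stabilizer_act f hrel htrans, index_eq f hrel S hsub htrans hfin hle] at h1
  have hn : n ≠ 0 := NeZero.ne n
  have h2 : ((Subgroup.closure S).map (PresentedGroup.mk rels)).relIndex
      (stabilizer (PresentedGroup rels) (0 : Fin n)) = 1 := by
    have : ((Subgroup.closure S).map (PresentedGroup.mk rels)).relIndex
      (stabilizer (PresentedGroup rels) (0 : Fin n)) * n = 1 * n := by rw [h1, one_mul]
    exact Nat.eq_of_mul_eq_mul_right (Nat.pos_of_ne_zero hn) this
  exact Subgroup.relIndex_eq_one.mp h2

/-! ### Orbits of the subgroup on its cosets -/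

/-- The equivariant map from the cosets of the subgroup to `Fin n`. -/
def theta (f : α → Equiv.Perm (Fin n)) (hrel : ∀ r ∈ rels, FreeGroup.lift f r = 1)
    (S : Set (FreeGroup α)) (hsub : ∀ s ∈ S, FreeGroup.lift f s 0 = 0)
    (q : PresentedGroup rels ⧸ (Subgroup.closure S).map (PresentedGroup.mk rels)) : Fin n :=
  Quotient.liftOn' q (fun g => psi f hrel g 0) (by
    intro a b hab
    rw [QuotientGroup.leftRel_apply] at hab
    have h := map_closure_le_stabilizer f hrel S hsub hab
    letI := act f hrel
    rw [mem_stabilizer_iff] at h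
    change psi f hrel (a⁻¹ * b) 0 = 0 at h
    rw [map_mul, map_inv, Equiv.Perm.mul_apply, Equiv.Perm.inv_def, Equiv.symm_apply_eq] at h
    exact h.symm)

theorem theta_mk (f : α → Equiv.Perm (Fin n)) (hrel : ∀ r ∈ rels, FreeGroup.lift f r = 1)
    (S : Set (FreeGroup α)) (hsub : ∀ s ∈ S, FreeGroup.lift f s 0 = 0)
    (g : PresentedGroup rels) :
    theta f hrel S hsub (QuotientGroup.mk g) = psi f hrel g 0 := rfl

theorem theta_smul (f : α → Equiv.Perm (Fin n)) (hrel : ∀ r ∈ rels, FreeGroup.lift f r = 1)
    (S : Set (FreeGroup α)) (hsub : ∀ s ∈ S, FreeGroup.lift f s 0 = 0)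
    (g : PresentedGroup rels)
    (q : PresentedGroup rels ⧸ (Subgroup.closure S).map (PresentedGroup.mk rels)) :
    theta f hrel S hsub (g • q) = psi f hrel g (theta f hrel S hsub q) := by
  induction q using QuotientGroup.induction_on with
  | H a =>
    rw [MulAction.Quotient.smul_mk, theta_mk, theta_mk, smul_eq_mul, map_mul, Equiv.Perm.mul_apply]

theorem theta_surjective (f : α → Equiv.Perm (Fin n)) (hrel : ∀ r ∈ rels, FreeGroup.lift f r = 1)
    (S : Set (FreeGroup α)) (hsub : ∀ s ∈ S, FreeGroup.lift f s 0 = 0)
    (htrans : ∀ x : Fin n, ∃ w : FreeGroup α, FreeGroup.lift f w 0 = x) :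
    Function.Surjective (theta f hrel S hsub) := by
  intro x
  obtain ⟨w, hw⟩ := htrans x
  exact ⟨QuotientGroup.mk (PresentedGroup.mk rels w), by rw [theta_mk, psi_mk, hw]⟩

theorem theta_injective (f : α → Equiv.Perm (Fin n)) (hrel : ∀ r ∈ rels, FreeGroup.lift f r = 1)
    (S : Set (FreeGroup α)) (hsub : ∀ s ∈ S, FreeGroup.lift f s 0 = 0)
    (htrans : ∀ x : Fin n, ∃ w : FreeGroup α, FreeGroup.lift f w 0 = x)
    (hfin : ((Subgroup.closure S).map (PresentedGroup.mk rels)).index ≠ 0)
    (hle : ((Subgroup.closure S).map (PresentedGroup.mk rels)).index ≤ n) :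
    Function.Injective (theta f hrel S hsub) := by
  intro q₁ q₂
  induction q₁ using QuotientGroup.induction_on with
  | H a =>
  induction q₂ using QuotientGroup.induction_on with
  | H b =>
  intro h
  rw [theta_mk, theta_mk] at h
  rw [QuotientGroup.eq, eq_stabilizer f hrel S hsub htrans hfin hle]
  letI := act f hrel
  rw [mem_stabilizer_iff]
  change psi f hrel (a⁻¹ * b) 0 = 0
  rw [map_mul, map_inv, Equiv.Perm.mul_apply, Equiv.Perm.inv_def, Equiv.symm_apply_eq]
  exact h.symm

/-- A permutation mapping a finite set into itself maps it onto itself. -/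
theorem perm_mem_iff_of_maps (τ : Equiv.Perm (Fin n)) (O : Finset (Fin n))
    (h : ∀ y ∈ O, τ y ∈ O) : ∀ y, τ y ∈ O ↔ y ∈ O := by
  have himg : O.image τ = O := by
    apply Finset.eq_of_subset_of_card_le
    · intro z hz
      obtain ⟨y, hy, rfl⟩ := Finset.mem_image.mp hz
      exact h y hy
    · rw [Finset.card_image_of_injective _ τ.injective]
  intro y
  constructor
  · intro hy
    rw [← himg] at hy
    obtain ⟨z, hz, hzy⟩ := Finset.mem_image.mp hy
    rwa [← τ.injective hzy]
  · exact h y

/-- The subgroup of permutations preserving a finite set. -/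
def setStab (O : Finset (Fin n)) : Subgroup (Equiv.Perm (Fin n)) where
  carrier := {τ | ∀ y, τ y ∈ O ↔ y ∈ O}
  one_mem' := fun _ => Iff.rfl
  mul_mem' := by
    intro a b ha hb y
    rw [Equiv.Perm.mul_apply, ha, hb]
  inv_mem' := by
    intro a ha y
    rw [← ha (a⁻¹ y), Equiv.Perm.inv_def, Equiv.apply_symm_apply]

theorem lift_mem_setStab (f : α → Equiv.Perm (Fin n)) (S : Set (FreeGroup α)) (O : Finset (Fin n))
    (hS : ∀ s ∈ S, ∀ y, FreeGroup.lift f s y ∈ O ↔ y ∈ O) :
    ∀ w ∈ Subgroup.closure S, ∀ y, FreeGroup.lift f w y ∈ O ↔ y ∈ O := by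
  have : Subgroup.closure S ≤ (setStab O).comap (FreeGroup.lift f) := by
    rw [Subgroup.closure_le]
    intro s hs
    exact hS s hs
  intro w hw
  exact this hw

/-- The image under `theta` of an orbit of the subgroup. -/
theorem theta_image_orbit (f : α → Equiv.Perm (Fin n)) (hrel : ∀ r ∈ rels, FreeGroup.lift f r = 1)
    (S : Set (FreeGroup α)) (hsub : ∀ s ∈ S, FreeGroup.lift f s 0 = 0)
    (q : PresentedGroup rels ⧸ (Subgroup.closure S).map (PresentedGroup.mk rels)) :
    theta f hrel S hsub ''
      (orbit ((Subgroup.closure S).map (PresentedGroup.mk rels)) q) =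
      {y | ∃ w ∈ Subgroup.closure S, FreeGroup.lift f w (theta f hrel S hsub q) = y} := by
  ext y
  constructor
  · rintro ⟨_, ⟨⟨k, hk⟩, rfl⟩, rfl⟩
    obtain ⟨w, hw, rfl⟩ := Subgroup.mem_map.mp hk
    refine ⟨w, hw, ?_⟩
    show _ = theta f hrel S hsub ((PresentedGroup.mk rels w) • q)
    rw [theta_smul, psi_mk]
  · rintro ⟨w, hw, rfl⟩
    refine ⟨(⟨PresentedGroup.mk rels w, Subgroup.mem_map_of_mem _ hw⟩ :
      (Subgroup.closure S).map (PresentedGroup.mk rels)) • q, ⟨_, rfl⟩, ?_⟩
    show theta f hrel S hsub ((PresentedGroup.mk rels w) • q) = _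
    rw [theta_smul, psi_mk]

/-- Orbit certificate: a finite set `O` containing `x`, preserved by the generators, all of
whose points are reachable from `x`, is the `theta`-image of the orbit of `theta⁻¹ x`. -/
theorem orbit_of_certificate (f : α → Equiv.Perm (Fin n))
    (hrel : ∀ r ∈ rels, FreeGroup.lift f r = 1)
    (S : Set (FreeGroup α)) (hsub : ∀ s ∈ S, FreeGroup.lift f s 0 = 0)
    (htrans : ∀ x : Fin n, ∃ w : FreeGroup α, FreeGroup.lift f w 0 = x)
    (hfin : ((Subgroup.closure S).map (PresentedGroup.mk rels)).index ≠ 0)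
    (hle : ((Subgroup.closure S).map (PresentedGroup.mk rels)).index ≤ n)
    (O : Finset (Fin n)) (x : Fin n) (hx : x ∈ O)
    (hS : ∀ s ∈ S, ∀ y, FreeGroup.lift f s y ∈ O ↔ y ∈ O)
    (hreach : ∀ y ∈ O, ∃ w ∈ Subgroup.closure S, FreeGroup.lift f w x = y) :
    ∃ q : PresentedGroup rels ⧸ (Subgroup.closure S).map (PresentedGroup.mk rels),
      theta f hrel S hsub q = x ∧
      theta f hrel S hsub ''
        (orbit ((Subgroup.closure S).map (PresentedGroup.mk rels)) q) = (O : Set (Fin n)) ∧
      (orbit ((Subgroup.closure S).map (PresentedGroup.mk rels)) q).ncard = O.card := by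
  obtain ⟨q, hq⟩ := theta_surjective f hrel S hsub htrans x
  have himg : theta f hrel S hsub ''
        (orbit ((Subgroup.closure S).map (PresentedGroup.mk rels)) q) = (O : Set (Fin n)) := by
    rw [theta_image_orbit, hq]
    ext y
    constructor
    · rintro ⟨w, hw, rfl⟩
      exact (lift_mem_setStab f S O hS w hw x).mpr hx
    · intro hy
      exact hreach y hy
  refine ⟨q, hq, himg, ?_⟩
  rw [← Set.ncard_image_of_injective _ (theta_injective f hrel S hsub htrans hfin hle), himg,
    Set.ncard_coe_finset]

end Abstract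

/-! ## Packed coset tables -/

section Table

variable {α : Type}

/-- One lookup in a packed column: the entry at bit offset `off`. -/
def nxt (mask col off : ℕ) : ℕ := Nat.land (Nat.shiftRight col off) mask

/-- Walk along a word (a list of letters, `(a, true)` the generator `a` and `(a, false)` its
inverse, as in `FreeGroup`), starting from the offset `x`. -/
def walk (mask : ℕ) (col : α → Bool → ℕ) : List (α × Bool) → ℕ → ℕ
  | [], x => x
  | (a, b) :: ls, x => walk mask col ls (nxt mask (col a b) x)

theorem walk_append (mask : ℕ) (col : α → Bool → ℕ) (u v : List (α × Bool)) (x : ℕ) :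
    walk mask col (u ++ v) x = walk mask col v (walk mask col u x) := by
  induction u generalizing x with
  | nil => rfl
  | cons l ls ih =>
    obtain ⟨a, b⟩ := l
    simp only [List.cons_append, walk]
    exact ih _

/-- The table is valid: every column maps the `n` offsets `k * w` to such offsets, and the
columns of a letter and of its inverse are mutually inverse. -/
def Valid (n w mask : ℕ) (col : α → Bool → ℕ) : Prop :=
  0 < w ∧ ∀ a b, ∀ k < n, ∃ k' < n,
    nxt mask (col a b) (k * w) = k' * w ∧ nxt mask (col a (!b)) (k' * w) = k * w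

/-- Boolean check of validity of the letter `(a, b)` at the offset `x`
(`nw` is the literal `n * w`). -/
def vchk (nw w mask : ℕ) (col : α → Bool → ℕ) (a : α) (b : Bool) (x : ℕ) : Bool :=
  and (Nat.beq (Nat.mod (nxt mask (col a b) x) w) 0)
    (and (Nat.blt (nxt mask (col a b) x) nw)
      (Nat.beq (nxt mask (col a (!b)) (nxt mask (col a b) x)) x))

theorem valid_of_vchk (n nw w mask : ℕ) (col : α → Bool → ℕ) (hw : 0 < w) (hnw : nw = n * w)
    (h : ∀ a b, ∀ k < n, vchk nw w mask col a b (k * w) = true) : Valid n w mask col := by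
  refine ⟨hw, fun a b k hk => ?_⟩
  have h1 := h a b k hk
  simp only [vchk, Bool.and_eq_true, Nat.blt_eq] at h1
  obtain ⟨hmod, hlt, hinv⟩ := h1
  have hmod' : nxt mask (col a b) (k * w) % w = 0 := Nat.eq_of_beq_eq_true hmod
  have hlt' : nxt mask (col a b) (k * w) < n * w := hnw ▸ hlt
  have hinv' := Nat.eq_of_beq_eq_true hinv
  refine ⟨nxt mask (col a b) (k * w) / w, ?_, ?_, ?_⟩
  · exact Nat.div_lt_of_lt_mul (by rw [Nat.mul_comm w n]; exact hlt')
  · exact (Nat.div_mul_cancel (Nat.dvd_of_mod_eq_zero hmod')).symm
  · rw [Nat.div_mul_cancel (Nat.dvd_of_mod_eq_zero hmod')]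
    exact hinv'

variable {n w mask : ℕ} {col : α → Bool → ℕ}

/-- The step function on `Fin n` of the letter `(a, b)`. -/
def stepFin (hv : Valid n w mask col) (a : α) (b : Bool) (k : Fin n) : Fin n :=
  ⟨nxt mask (col a b) (k * w) / w, by
    obtain ⟨k', hk', h1, _⟩ := hv.2 a b k k.2
    rw [h1, Nat.mul_div_cancel _ hv.1]
    exact hk'⟩

theorem stepFin_spec (hv : Valid n w mask col) (a : α) (b : Bool) (k : Fin n) :
    nxt mask (col a b) (k * w) = (stepFin hv a b k : ℕ) * w := by
  obtain ⟨k', hk', h1, _⟩ := hv.2 a b k k.2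
  simp only [stepFin]
  rw [h1, Nat.mul_div_cancel _ hv.1]

theorem stepFin_stepFin (hv : Valid n w mask col) (a : α) (b : Bool) (k : Fin n) :
    stepFin hv a (!b) (stepFin hv a b k) = k := by
  obtain ⟨k', hk', h1, h2⟩ := hv.2 a b k k.2
  have e1 : (stepFin hv a b k : ℕ) = k' := by
    have := stepFin_spec hv a b k
    rw [h1] at this
    exact (Nat.eq_of_mul_eq_mul_right hv.1 this).symm
  apply Fin.ext
  have h3 := stepFin_spec hv a (!b) (stepFin hv a b k)
  rw [e1, h2] at h3
  exact (Nat.eq_of_mul_eq_mul_right hv.1 h3).symm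

/-- The permutation attached to a generator: it is given by the column of the *inverse*
letter, so that `FreeGroup.lift (perm hv) (mk u)` undoes the walk along `u`. -/
def perm (hv : Valid n w mask col) (a : α) : Equiv.Perm (Fin n) where
  toFun := stepFin hv a false
  invFun := stepFin hv a true
  left_inv k := by simpa using stepFin_stepFin hv a false k
  right_inv k := by simpa using stepFin_stepFin hv a true k

theorem walk_spec (hv : Valid n w mask col) (u : List (α × Bool)) (k : Fin n) :
    ∃ k' : Fin n, walk mask col u (k * w) = k' * w ∧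
      FreeGroup.lift (perm hv) (FreeGroup.mk u) k' = k := by
  induction u generalizing k with
  | nil => exact ⟨k, rfl, by simp [FreeGroup.lift_mk]⟩
  | cons l ls ih =>
    obtain ⟨a, b⟩ := l
    obtain ⟨k', h1, h2⟩ := ih (stepFin hv a b k)
    refine ⟨k', ?_, ?_⟩
    · simp only [walk]
      rw [stepFin_spec hv a b k]
      exact h1
    · rw [FreeGroup.lift_mk] at h2 ⊢
      rw [List.map_cons, List.prod_cons, Equiv.Perm.mul_apply, h2]
      cases b with
      | true =>
        show perm hv a (stepFin hv a true k) = k
        exact stepFin_stepFin hv a true k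
      | false =>
        show (perm hv a)⁻¹ (stepFin hv a false k) = k
        rw [Equiv.Perm.inv_def]
        exact stepFin_stepFin hv a false k

theorem lift_eq_one_of_walk (hv : Valid n w mask col) (u : List (α × Bool))
    (h : ∀ k < n, walk mask col u (k * w) = k * w) :
    FreeGroup.lift (perm hv) (FreeGroup.mk u) = 1 := by
  ext k
  obtain ⟨k', h1, h2⟩ := walk_spec hv u k
  rw [h k k.2] at h1
  have : (k : ℕ) = k' := Nat.eq_of_mul_eq_mul_right hv.1 h1
  have hk : k' = k := Fin.ext this.symm
  rw [hk] at h2
  rw [h2]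
  rfl

theorem lift_zero_of_walk [NeZero n] (hv : Valid n w mask col) (u : List (α × Bool))
    (h : walk mask col u 0 = 0) :
    FreeGroup.lift (perm hv) (FreeGroup.mk u) 0 = 0 := by
  obtain ⟨k', h1, h2⟩ := walk_spec hv u 0
  simp only [Fin.val_zero, Nat.zero_mul] at h1
  rw [h] at h1
  have : (k' : ℕ) = 0 := by
    rcases Nat.eq_zero_or_pos (k' : ℕ) with h0 | h0
    · exact h0
    · exact absurd h1 (Nat.ne_of_lt (Nat.mul_pos h0 hv.1))
  have hk : k' = 0 := Fin.ext this
  rw [hk] at h2
  exact h2

/-- Connectivity check at the offset `x`: some letter of the list leads to a smaller offset. -/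
def cchk (mask : ℕ) (col : α → Bool → ℕ) : List (α × Bool) → ℕ → Bool
  | [], _ => false
  | (a, b) :: ls, x => or (Nat.blt (nxt mask (col a b) x) x) (cchk mask col ls x)

theorem exists_of_cchk (mask : ℕ) (col : α → Bool → ℕ) (ls : List (α × Bool)) (x : ℕ)
    (h : cchk mask col ls x = true) : ∃ a b, nxt mask (col a b) x < x := by
  induction ls with
  | nil => simp [cchk] at h
  | cons l ls ih =>
    obtain ⟨a, b⟩ := l
    simp only [cchk, Bool.or_eq_true, Nat.blt_eq] at h
    rcases h with h | h
    · exact ⟨a, b, h⟩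
    · exact ih h

theorem exists_walk_of_cchk (hv : Valid n w mask col) (ls : List (α × Bool))
    (h : ∀ k < n, 0 < k → cchk mask col ls (k * w) = true) :
    ∀ k < n, ∃ u : List (α × Bool), walk mask col u 0 = k * w := by
  intro k
  induction k using Nat.strong_induction_on with
  | _ k ih =>
    intro hk
    rcases Nat.eq_zero_or_pos k with h0 | h0
    · exact ⟨[], by simp [walk, h0]⟩
    · obtain ⟨a, b, hab⟩ := exists_of_cchk mask col ls _ (h k hk h0)
      obtain ⟨j, hj, h1, h2⟩ := hv.2 a b k hk
      rw [h1] at hab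
      have hjk : j < k := Nat.lt_of_mul_lt_mul_right hab
      obtain ⟨u, hu⟩ := ih j hjk hj
      refine ⟨u ++ [(a, !b)], ?_⟩
      rw [walk_append, hu]
      simp only [walk]
      exact h2

theorem trans_of_cchk [NeZero n] (hv : Valid n w mask col) (ls : List (α × Bool))
    (h : ∀ k < n, 0 < k → cchk mask col ls (k * w) = true) :
    ∀ x : Fin n, ∃ g : FreeGroup α, FreeGroup.lift (perm hv) g 0 = x := by
  intro x
  obtain ⟨u, hu⟩ := exists_walk_of_cchk hv ls h x x.2
  obtain ⟨k', h1, h2⟩ := walk_spec hv u 0
  simp only [Fin.val_zero, Nat.zero_mul] at h1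
  rw [hu] at h1
  have hk : k' = x := Fin.ext (Nat.eq_of_mul_eq_mul_right hv.1 h1).symm
  rw [hk] at h2
  refine ⟨(FreeGroup.mk u)⁻¹, ?_⟩
  rw [map_inv, Equiv.Perm.inv_def, Equiv.symm_apply_eq]
  exact h2.symm

/-- Relator check at the offset `x`: every word of the list walks from `x` back to `x`. -/
def rchk (mask : ℕ) (col : α → Bool → ℕ) : List (List (α × Bool)) → ℕ → Bool
  | [], _ => true
  | u :: us, x => and (Nat.beq (walk mask col u x) x) (rchk mask col us x)

theorem walk_of_rchk (mask : ℕ) (col : α → Bool → ℕ) (us : List (List (α × Bool))) (x : ℕ)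
    (h : rchk mask col us x = true) : ∀ u ∈ us, walk mask col u x = x := by
  induction us with
  | nil => intro u hu; simp at hu
  | cons v vs ih =>
    simp only [rchk, Bool.and_eq_true] at h
    intro u hu
    rcases List.mem_cons.mp hu with rfl | hu
    · exact Nat.eq_of_beq_eq_true h.1
    · exact ih h.2 u hu

/-- Validity check at the offset `x` for a list of letters. -/
def vchks (nw w mask : ℕ) (col : α → Bool → ℕ) : List (α × Bool) → ℕ → Bool
  | [], _ => true
  | (a, b) :: ls, x => and (vchk nw w mask col a b x) (vchks nw w mask col ls x)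

theorem vchk_of_vchks (nw w mask : ℕ) (col : α → Bool → ℕ) (ls : List (α × Bool)) (x : ℕ)
    (h : vchks nw w mask col ls x = true) : ∀ l ∈ ls, vchk nw w mask col l.1 l.2 x = true := by
  induction ls with
  | nil => intro l hl; simp at hl
  | cons v vs ih =>
    obtain ⟨a, b⟩ := v
    simp only [vchks, Bool.and_eq_true] at h
    intro l hl
    rcases List.mem_cons.mp hl with rfl | hl
    · exact h.1
    · exact ih h.2 l hl

/-- The complete check at the offset `x`: validity of all letters, all words walk back to `x`,
and (unless `x = 0`) some letter leads to a smaller offset. -/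
def pchk (nw w mask : ℕ) (col : α → Bool → ℕ) (letters : List (α × Bool))
    (words : List (List (α × Bool))) (x : ℕ) : Bool :=
  and (vchks nw w mask col letters x)
    (and (rchk mask col words x) (or (Nat.beq x 0) (cchk mask col letters x)))

theorem pchk_spec (n nw w mask : ℕ) (col : α → Bool → ℕ) (letters : List (α × Bool))
    (words : List (List (α × Bool))) (hw : 0 < w) (hnw : nw = n * w)
    (hall : ∀ a b, (a, b) ∈ letters)
    (h : ∀ k < n, pchk nw w mask col letters words (k * w) = true) :
    Valid n w mask col ∧ (∀ k < n, rchk mask col words (k * w) = true) ∧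
      (∀ k < n, 0 < k → cchk mask col letters (k * w) = true) := by
  refine ⟨?_, ?_, ?_⟩
  · apply valid_of_vchk n nw w mask col hw hnw
    intro a b k hk
    have := h k hk
    simp only [pchk, Bool.and_eq_true] at this
    exact vchk_of_vchks nw w mask col letters _ this.1 (a, b) (hall a b)
  · intro k hk
    have := h k hk
    simp only [pchk, Bool.and_eq_true] at this
    exact this.2.1
  · intro k hk hk0
    have := h k hk
    simp only [pchk, Bool.and_eq_true, Bool.or_eq_true] at this
    rcases this.2.2 with h0 | h0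
    · have h1 := Nat.eq_of_beq_eq_true h0
      exact absurd h1 (Nat.ne_of_gt (Nat.mul_pos hk0 hw))
    · exact h0

/-- Check a predicate at all offsets `(lo + i) * w`, `i < len`; written with `Nat.rec` so that
the kernel evaluates it quickly. -/
def allRange (p : ℕ → Bool) (w lo len : ℕ) : Bool :=
  Nat.rec true (fun i ih => and (p (Nat.mul (Nat.add lo i) w)) ih) len

theorem allRange_iff (p : ℕ → Bool) (w lo len : ℕ) :
    allRange p w lo len = true ↔ ∀ i < len, p ((lo + i) * w) = true := by
  induction len with
  | zero => simp [allRange]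
  | succ m ih =>
    have : allRange p w lo (m + 1) = and (p ((lo + m) * w)) (allRange p w lo m) := rfl
    rw [this, Bool.and_eq_true, ih]
    constructor
    · rintro ⟨h1, h2⟩ i hi
      rcases Nat.lt_succ_iff_lt_or_eq.mp hi with hi | rfl
      · exact h2 i hi
      · exact h1
    · intro h
      exact ⟨h m (Nat.lt_succ_self m), fun i hi => h i (Nat.lt_succ_of_lt hi)⟩

theorem of_allRange (p : ℕ → Bool) (w lo len : ℕ) (h : allRange p w lo len = true) :
    ∀ k, lo ≤ k → k < lo + len → p (k * w) = true := by
  intro k h1 h2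
  have := (allRange_iff p w lo len).mp h (k - lo) (by omega)
  rwa [Nat.add_sub_cancel' h1] at this

theorem allRange_extend (p : ℕ → Bool) (w lo len : ℕ) (h : ∀ k < lo, p (k * w) = true)
    (hr : allRange p w lo len = true) : ∀ k < lo + len, p (k * w) = true := by
  intro k hk
  by_cases h1 : k < lo
  · exact h k h1
  · exact of_allRange p w lo len hr k (Nat.le_of_not_lt h1) hk

theorem allRange_start (p : ℕ → Bool) (w : ℕ) : ∀ k < 0, p (k * w) = true :=
  fun k hk => absurd hk (Nat.not_lt_zero k)

theorem between_start (p : ℕ → Bool) (w lo : ℕ) : ∀ k, lo ≤ k → k < lo → p (k * w) = true :=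
  fun _ h1 h2 => absurd (Nat.lt_of_le_of_lt h1 h2) (Nat.lt_irrefl _)

theorem between_extend (p : ℕ → Bool) (w lo0 lo len : ℕ)
    (h : ∀ k, lo0 ≤ k → k < lo → p (k * w) = true)
    (hr : allRange p w lo len = true) : ∀ k, lo0 ≤ k → k < lo + len → p (k * w) = true := by
  intro k hk0 hk
  by_cases h1 : k < lo
  · exact h k hk0 h1
  · exact of_allRange p w lo len hr k (Nat.le_of_not_lt h1) hk

theorem between_trans (p : ℕ → Bool) (w a b c : ℕ)
    (h1 : ∀ k, a ≤ k → k < b → p (k * w) = true) (h2 : ∀ k, b ≤ k → k < c → p (k * w) = true) :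
    ∀ k, a ≤ k → k < c → p (k * w) = true := by
  intro k ha hc
  by_cases h : k < b
  · exact h1 k ha h
  · exact h2 k (Nat.le_of_not_lt h) hc

theorem between_all (p : ℕ → Bool) (w n : ℕ)
    (h : ∀ k, 0 ≤ k → k < n → p (k * w) = true) : ∀ k < n, p (k * w) = true :=
  fun k hk => h k (Nat.zero_le k) hk

end Table

/-! ## Verified tables and orbit certificates -/

section Verified

variable {α : Type} {n w mask : ℕ} {col : α → Bool → ℕ} [NeZero n]

/-- A verified permutation representation read off a packed table. -/
structure Verified (n w mask : ℕ) [NeZero n] (col : α → Bool → ℕ) (rels : Set (FreeGroup α))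
    (S : Set (FreeGroup α)) : Prop where
  hv : Valid n w mask col
  hrel : ∀ r ∈ rels, FreeGroup.lift (perm hv) r = 1
  hsub : ∀ s ∈ S, FreeGroup.lift (perm hv) s 0 = 0
  htrans : ∀ x : Fin n, ∃ g : FreeGroup α, FreeGroup.lift (perm hv) g 0 = x

variable {rels : Set (FreeGroup α)} {S : Set (FreeGroup α)}

theorem Verified.index_eq (V : Verified n w mask col rels S)
    (hfin : ((Subgroup.closure S).map (PresentedGroup.mk rels)).index ≠ 0)
    (hle : ((Subgroup.closure S).map (PresentedGroup.mk rels)).index ≤ n) :
    ((Subgroup.closure S).map (PresentedGroup.mk rels)).index = n :=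
  Helper28_CosetPerm.index_eq (perm V.hv) V.hrel S V.hsub V.htrans hfin hle

/-- Count the `k < n` with `p k = true` (kernel friendly). -/
def cntB (p : ℕ → Bool) (n : ℕ) : ℕ :=
  Nat.rec 0 (fun k ih => cond (p k) (Nat.succ ih) ih) n

omit [NeZero n] in
theorem card_filter_fin (n : ℕ) (q : ℕ → Prop) [DecidablePred q] :
    (Finset.univ.filter (fun k : Fin n => q k)).card = ((Finset.range n).filter q).card := by
  rw [← Finset.card_map Fin.valEmbedding]
  congr 1
  ext x
  simp only [Finset.mem_map, Finset.mem_filter, Finset.mem_univ, true_and,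
    Fin.valEmbedding_apply, Finset.mem_range]
  constructor
  · rintro ⟨k, hk, rfl⟩; exact ⟨k.2, hk⟩
  · rintro ⟨hx, hq⟩; exact ⟨⟨x, hx⟩, hq, rfl⟩

omit [NeZero n] in
theorem card_filter_range_eq_cntB (p : ℕ → Bool) (n : ℕ) :
    ((Finset.range n).filter (fun k => p k = true)).card = cntB p n := by
  induction n with
  | zero => rfl
  | succ m ih =>
    have hrec : cntB p (m + 1) = cond (p m) (Nat.succ (cntB p m)) (cntB p m) := rfl
    rw [Finset.range_add_one, Finset.filter_insert, hrec]
    by_cases hp : p m = true
    · rw [if_pos hp, Finset.card_insert_of_notMem, ih, hp]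
      · rfl
      · simp
    · rw [if_neg hp, ih]
      have : p m = false := by simpa using hp
      rw [this]
      rfl

/-- The orbit-certificate check at the offset `x`: all words of `cl` preserve the orbit label,
and either `x` is the base point of its orbit (rank `0`) or some word of `cl` decreases the rank. -/
def oclosed (mask : ℕ) (col : α → Bool → ℕ) (oid : ℕ) : List (List (α × Bool)) → ℕ → Bool
  | [], _ => true
  | u :: us, x => and (Nat.beq (nxt mask oid (walk mask col u x)) (nxt mask oid x))
      (oclosed mask col oid us x)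

/-- Some word of the list decreases the rank. -/
def odesc (mask : ℕ) (col : α → Bool → ℕ) (rnk : ℕ) : List (List (α × Bool)) → ℕ → Bool
  | [], _ => false
  | u :: us, x => or (Nat.blt (nxt mask rnk (walk mask col u x)) (nxt mask rnk x))
      (odesc mask col rnk us x)

/-- The full orbit check at `x`. -/
def ochk (mask : ℕ) (col : α → Bool → ℕ) (oid rnk : ℕ) (bases : List ℕ)
    (cl : List (List (α × Bool))) (x : ℕ) : Bool :=
  and (oclosed mask col oid cl x)
    (or (and (Nat.beq (nxt mask rnk x) 0) (Nat.beq x (bases.getD (nxt mask oid x) 0)))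
      (odesc mask col rnk cl x))

omit [NeZero n] in
theorem oclosed_spec (oid : ℕ) (cl : List (List (α × Bool))) (x : ℕ)
    (h : oclosed mask col oid cl x = true) :
    ∀ u ∈ cl, nxt mask oid (walk mask col u x) = nxt mask oid x := by
  induction cl with
  | nil => intro u hu; simp at hu
  | cons v vs ih =>
    simp only [oclosed, Bool.and_eq_true] at h
    intro u hu
    rcases List.mem_cons.mp hu with rfl | hu
    · exact Nat.eq_of_beq_eq_true h.1
    · exact ih h.2 u hu

omit [NeZero n] in
theorem odesc_spec (rnk : ℕ) (cl : List (List (α × Bool))) (x : ℕ)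
    (h : odesc mask col rnk cl x = true) :
    ∃ u ∈ cl, nxt mask rnk (walk mask col u x) < nxt mask rnk x := by
  induction cl with
  | nil => simp [odesc] at h
  | cons v vs ih =>
    simp only [odesc, Bool.or_eq_true, Nat.blt_eq] at h
    rcases h with h | h
    · exact ⟨v, List.mem_cons_self, h⟩
    · obtain ⟨u, hu, hlt⟩ := ih h
      exact ⟨u, List.mem_cons_of_mem _ hu, hlt⟩

/-- The `j`-th orbit as a finite set. -/
def orbSet (n w mask oid j : ℕ) : Finset (Fin n) :=
  Finset.univ.filter (fun k : Fin n => nxt mask oid (k * w) = j)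

omit [NeZero n] in
theorem card_orbSet (n w mask oid j : ℕ) :
    (orbSet n w mask oid j).card = cntB (fun k => Nat.beq (nxt mask oid (Nat.mul k w)) j) n := by
  rw [← card_filter_range_eq_cntB]
  unfold orbSet
  rw [card_filter_fin n (fun k => nxt mask oid (k * w) = j)]
  congr 1
  ext k
  simp only [Finset.mem_filter, Finset.mem_range, and_congr_right_iff]
  intro _
  constructor
  · intro h
    show Nat.beq _ _ = true
    rw [show Nat.mul k w = k * w from rfl, h]
    exact Nat.beq_refl j
  · intro h
    exact Nat.eq_of_beq_eq_true h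

/-- Walking along a word, as a map on `Fin n`, is inverse to the lifted permutation. -/
theorem walk_fin (hv : Valid n w mask col) (u : List (α × Bool)) (k : Fin n) :
    walk mask col u (k * w) =
      (((FreeGroup.lift (perm hv) (FreeGroup.mk u))⁻¹ k : Fin n) : ℕ) * w := by
  obtain ⟨k', h1, h2⟩ := walk_spec hv u k
  rw [h1, ← h2, Equiv.Perm.inv_def, Equiv.symm_apply_apply]

/-- Main orbit theorem: the orbit certificate identifies the orbit of the coset attached to the
base point `b` (an index `< n` with label `j` and rank `0`) with `orbSet … j`. -/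
theorem Verified.orbit (V : Verified n w mask col rels S)
    (hfin : ((Subgroup.closure S).map (PresentedGroup.mk rels)).index ≠ 0)
    (hle : ((Subgroup.closure S).map (PresentedGroup.mk rels)).index ≤ n)
    (oid rnk : ℕ) (bases : List ℕ) (cl : List (List (α × Bool)))
    (hcl : ∀ u ∈ cl, FreeGroup.mk u ∈ Subgroup.closure S)
    (hScl : ∀ s ∈ S, ∃ u ∈ cl, FreeGroup.mk u = s)
    (hchk : ∀ k < n, ochk mask col oid rnk bases cl (k * w) = true)
    (j : ℕ) (b : Fin n) (hb : bases.getD j 0 = b * w) (hbj : nxt mask oid (b * w) = j) :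
    ∃ q : PresentedGroup rels ⧸ (Subgroup.closure S).map (PresentedGroup.mk rels),
      theta (perm V.hv) V.hrel S V.hsub q = b ∧
      theta (perm V.hv) V.hrel S V.hsub ''
        (MulAction.orbit ((Subgroup.closure S).map (PresentedGroup.mk rels)) q) =
          (orbSet n w mask oid j : Set (Fin n)) ∧
      (MulAction.orbit ((Subgroup.closure S).map (PresentedGroup.mk rels)) q).ncard =
        (orbSet n w mask oid j).card := by
  have hv := V.hv
  -- closure of the labels under the words of `cl`
  have hlab : ∀ u ∈ cl, ∀ y : Fin n,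
      nxt mask oid ((((FreeGroup.lift (perm hv) (FreeGroup.mk u))⁻¹ y : Fin n) : ℕ) * w) =
        nxt mask oid (y * w) := by
    intro u hu y
    have h := hchk y y.2
    simp only [ochk, Bool.and_eq_true] at h
    have := oclosed_spec oid cl _ h.1 u hu
    rwa [walk_fin hv u y] at this
  apply orbit_of_certificate (perm hv) V.hrel S V.hsub V.htrans hfin hle (orbSet n w mask oid j) b
  · simp only [orbSet, Finset.mem_filter, Finset.mem_univ, true_and]
    exact hbj
  · intro s hs y
    obtain ⟨u, hu, rfl⟩ := hScl s hs
    simp only [orbSet, Finset.mem_filter, Finset.mem_univ, true_and]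
    have := hlab u hu (FreeGroup.lift (perm hv) (FreeGroup.mk u) y)
    rw [Equiv.Perm.inv_def, Equiv.symm_apply_apply] at this
    rw [this]
  · -- reachability, by induction on the rank
    intro y hy
    simp only [orbSet, Finset.mem_filter, Finset.mem_univ, true_and] at hy
    generalize hr : nxt mask rnk (y * w) = r
    induction r using Nat.strong_induction_on generalizing y with
    | _ r ih =>
      have h := hchk y y.2
      simp only [ochk, Bool.and_eq_true, Bool.or_eq_true] at h
      rcases h.2 with ⟨h0, hbase⟩ | hd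
      · have hbase' := Nat.eq_of_beq_eq_true hbase
        rw [hy, hb] at hbase'
        have : y = b := Fin.ext (Nat.eq_of_mul_eq_mul_right hv.1 hbase')
        exact ⟨1, Subgroup.one_mem _, by rw [this]; simp⟩
      · obtain ⟨u, hu, hlt⟩ := odesc_spec rnk cl _ hd
        rw [walk_fin hv u y, hr] at hlt
        set y' : Fin n := (FreeGroup.lift (perm hv) (FreeGroup.mk u))⁻¹ y with hy'
        have hy'j : nxt mask oid (y' * w) = j := by rw [hlab u hu y, hy]
        obtain ⟨g, hg, hgy⟩ := ih _ hlt y' hy'j rfl
        refine ⟨FreeGroup.mk u * g, Subgroup.mul_mem _ (hcl u hu) hg, ?_⟩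
        rw [map_mul, Equiv.Perm.mul_apply, hgy, hy', Equiv.Perm.inv_def, Equiv.apply_symm_apply]

end Verified

end Cfsg.Agent.Lib.Helper28_CosetPerm
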