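import Mathlib

/-!
# Upper bounds for subgroup indices from Todd–Coxeter proof traces (helper28)

A *certificate* consists of
* a parent table `par, plet` describing coset representatives `rep v = rep (par v) * letter`,
* a list of *facts* `(a, l, b)` meaning `K * rep a * gen l = K * rep b` (`l = 0` : no letter),
* for every fact either a definition check or a relator scan all of whose other edges are
  earlier facts,
* a set of final cosets closed under all generators.

Everything is evaluated by the kernel on packed natural numbers.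
-/

set_option autoImplicit false
set_option linter.unusedSectionVars false
set_option linter.unusedVariables false
set_option linter.unusedSimpArgs false

namespace Cfsg.Agent.Lib.Helper28_CosetUp

/-! ## Right coset relation -/

section RC

variable {G : Type*} [Group G] (K : Subgroup G)

/-- `a` and `b` lie in the same right coset of `K`. -/
def RC (a b : G) : Prop := a * b⁻¹ ∈ K

theorem RC.refl (a : G) : RC K a a := by simp [RC]

theorem RC.symm {a b : G} (h : RC K a b) : RC K b a := by
  have := K.inv_mem h
  simpa [RC, mul_inv_rev] using this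

theorem RC.trans {a b c : G} (h1 : RC K a b) (h2 : RC K b c) : RC K a c := by
  have := K.mul_mem h1 h2
  simpa [RC, mul_assoc] using this

theorem RC.mul_right {a b : G} (h : RC K a b) (g : G) : RC K (a * g) (b * g) := by
  simpa [RC, mul_assoc] using h

theorem RC.of_eq {a b : G} (h : a = b) : RC K a b := h ▸ RC.refl K a

/-- Abstract index bound: a finite family of right cosets containing `K` and closed under
right multiplication by generators and their inverses exhausts the group. -/
theorem index_le_of_reps (X : Set G) (hX : Subgroup.closure X = ⊤) (F : Finset ℕ) (r : ℕ → G)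
    (h0 : ∃ i ∈ F, r i ∈ K)
    (hstep : ∀ i ∈ F, ∀ x ∈ X, (∃ j ∈ F, RC K (r i * x) (r j)) ∧
      (∃ j ∈ F, RC K (r i * x⁻¹) (r j))) :
    K.index ≠ 0 ∧ K.index ≤ F.card := by
  have hall : ∀ g : G, ∃ i ∈ F, RC K g (r i) := by
    intro g
    have hg : g ∈ Subgroup.closure X := by rw [hX]; trivial
    induction hg using Subgroup.closure_induction_right with
    | one =>
      obtain ⟨i, hi, hri⟩ := h0
      exact ⟨i, hi, by simpa [RC] using K.inv_mem hri⟩
    | mul_right g hg x hx ih =>
      obtain ⟨i, hi, hgi⟩ := ih
      obtain ⟨j, hj, hij⟩ := (hstep i hi x hx).1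
      exact ⟨j, hj, (hgi.mul_right K x).trans K hij⟩
    | mul_inv_cancel g hg x hx ih =>
      obtain ⟨i, hi, hgi⟩ := ih
      obtain ⟨j, hj, hij⟩ := (hstep i hi x hx).2
      exact ⟨j, hj, (hgi.mul_right K x⁻¹).trans K hij⟩
  let φ : F → G ⧸ K := fun i => (((r i.1)⁻¹ : G) : G ⧸ K)
  have hφ : Function.Surjective φ := by
    intro q
    obtain ⟨g, rfl⟩ := QuotientGroup.mk_surjective q
    obtain ⟨i, hi, hgi⟩ := hall g⁻¹
    refine ⟨⟨i, hi⟩, ?_⟩
    show (((r i)⁻¹ : G) : G ⧸ K) = (g : G ⧸ K)
    rw [QuotientGroup.eq]
    have := K.inv_mem hgi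
    simpa [RC, mul_inv_rev] using this
  have hfin : Finite (G ⧸ K) := Finite.of_surjective φ hφ
  have hle : Nat.card (G ⧸ K) ≤ Nat.card F := Nat.card_le_card_of_surjective φ hφ
  have hF : Nat.card F = F.card := by rw [Nat.card_eq_fintype_card, Fintype.card_coe]
  rw [hF] at hle
  refine ⟨?_, ?_⟩
  · rw [Subgroup.index_eq_card]
    exact Nat.card_pos.ne'
  · rw [Subgroup.index_eq_card]
    exact hle

end RC


/-! ## Words and coset representatives -/

section Checker

variable {G : Type*} [Group G] (K : Subgroup G) (gen : ℕ → G)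

/-- Value of a column code `2 g + sign`. -/
def colVal (col : ℕ) : G := if col % 2 = 0 then gen (col / 2) else (gen (col / 2))⁻¹

/-- Value of a word of column codes. -/
def wordVal : List ℕ → G
  | [] => 1
  | c :: w => colVal gen c * wordVal w

theorem wordVal_append (u v : List ℕ) :
    wordVal gen (u ++ v) = wordVal gen u * wordVal gen v := by
  induction u with
  | nil => simp [wordVal]
  | cons c u ih => simp [wordVal, ih, mul_assoc]

/-- Value of a fact letter: `0` is the empty word, `g + 1` the generator `g`. -/
def lval (l : ℕ) : G := if l = 0 then 1 else gen (l - 1)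

variable (par plet : ℕ → ℕ)

/-- Coset representatives by fuel recursion along the parent table. -/
def repF : ℕ → ℕ → G
  | 0, _ => 1
  | f + 1, v => if v = 0 then 1 else repF f (par v) * colVal gen (plet v)

/-- The coset representative of `v`. -/
def rep (v : ℕ) : G := repF gen par plet v v

theorem repF_stable (N : ℕ) (hpar : ∀ v, 0 < v → v < N → par v < v) :
    ∀ v, v < N → ∀ f, v ≤ f → repF gen par plet f v = repF gen par plet v v := by
  intro v
  induction v using Nat.strong_induction_on with
  | _ v ih =>
    intro hv f hf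
    rcases Nat.eq_zero_or_pos v with rfl | hpos
    · cases f with
      | zero => rfl
      | succ f => simp [repF]
    · obtain ⟨f', rfl⟩ : ∃ f', f = f' + 1 := ⟨f - 1, by omega⟩
      obtain ⟨v', rfl⟩ : ∃ v', v = v' + 1 := ⟨v - 1, by omega⟩
      have hp := hpar (v' + 1) hpos hv
      simp only [repF, Nat.succ_ne_zero, if_false]
      rw [ih (par (v' + 1)) hp (by omega) f' (by omega), ih (par (v' + 1)) hp (by omega) v' (by omega)]

theorem rep_zero : rep gen par plet 0 = 1 := rfl

theorem rep_succ (N : ℕ) (hpar : ∀ v, 0 < v → v < N → par v < v) (v : ℕ) (h0 : 0 < v)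
    (hv : v < N) :
    rep gen par plet v = rep gen par plet (par v) * colVal gen (plet v) := by
  obtain ⟨v', rfl⟩ : ∃ v', v = v' + 1 := ⟨v - 1, by omega⟩
  have hp := hpar (v' + 1) h0 hv
  unfold rep
  simp only [repF, Nat.succ_ne_zero, if_false]
  rw [repF_stable gen par plet N hpar (par (v' + 1)) (by omega) v' (by omega)]

/-! ## Facts -/

/-- First coset of a packed fact. -/
def fa (F : ℕ) : ℕ := Nat.land F 0xFFFFF
/-- Second coset of a packed fact. -/
def fb (F : ℕ) : ℕ := Nat.land (Nat.shiftRight F 20) 0xFFFFF
/-- Letter of a packed fact. -/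
def fl (F : ℕ) : ℕ := Nat.shiftRight F 40

/-- Meaning of a packed fact. -/
def Holds (F : ℕ) : Prop :=
  RC K (rep gen par plet (fa F) * lval gen (fl F)) (rep gen par plet (fb F))

variable (fact : ℕ → ℕ) (inv : ℕ → Bool)

/-- Fact index of a step code. -/
def sf (z : ℕ) : ℕ := Nat.shiftRight (Nat.land z 0xFFFFFF) 1

/-- Source coset of a step. -/
def ssrc (z : ℕ) : ℕ := cond (Nat.beq (Nat.land z 1) 0) (fa (fact (sf z))) (fb (fact (sf z)))

/-- Target coset of a step. -/
def sdst (z : ℕ) : ℕ := cond (Nat.beq (Nat.land z 1) 0) (fb (fact (sf z))) (fa (fact (sf z)))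

/-- One step of a walk (continuation passing style). -/
def stepB (k : ℕ) (ih : ℕ → ℕ → List ℕ → Bool) (z cur : ℕ) (ls : List ℕ) : Bool :=
  and (Nat.blt (sf z) k)
    (and (Nat.beq cur (ssrc fact z))
      (cond (Nat.beq (fl (fact (sf z))) 0)
        (ih (Nat.shiftRight z 24) (sdst fact z) ls)
        (match ls with
          | [] => false
          | X :: rest =>
            and (Nat.beq (Nat.shiftRight X 1) (Nat.pred (fl (fact (sf z)))))
              (and (or (inv (Nat.pred (fl (fact (sf z))))) (Nat.beq (Nat.land X 1) (Nat.land z 1)))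
                (ih (Nat.shiftRight z 24) (sdst fact z) rest)))))

/-- Walk `ns` steps, then continue with `kont`. -/
def walkB (k : ℕ) (ns : ℕ) (kont : ℕ → ℕ → List ℕ → Bool) : ℕ → ℕ → List ℕ → Bool :=
  Nat.rec kont (fun _ ih => stepB fact inv k ih) ns

theorem walkB_zero (k : ℕ) (kont : ℕ → ℕ → List ℕ → Bool) :
    walkB fact inv k 0 kont = kont := rfl

theorem walkB_succ (k ns : ℕ) (kont : ℕ → ℕ → List ℕ → Bool) :
    walkB fact inv k (ns + 1) kont = stepB fact inv k (walkB fact inv k ns kont) := rfl

theorem land_one_cases (z : ℕ) : Nat.land z 1 = 0 ∨ Nat.land z 1 = 1 := by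
  show z &&& 1 = 0 ∨ z &&& 1 = 1
  rw [Nat.and_one_is_mod]
  omega

theorem colVal_even (X g : ℕ) (h1 : Nat.shiftRight X 1 = g) (h2 : Nat.land X 1 = 0) :
    colVal gen X = gen g := by
  have h1' : X / 2 = g := by
    have : X >>> 1 = g := h1
    rwa [Nat.shiftRight_eq_div_pow, pow_one] at this
  have h2' : X % 2 = 0 := by
    have : X &&& 1 = 0 := h2
    rwa [Nat.and_one_is_mod] at this
  simp [colVal, h1', h2']

theorem colVal_odd (X g : ℕ) (h1 : Nat.shiftRight X 1 = g) (h2 : Nat.land X 1 = 1) :
    colVal gen X = (gen g)⁻¹ := by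
  have h1' : X / 2 = g := by
    have : X >>> 1 = g := h1
    rwa [Nat.shiftRight_eq_div_pow, pow_one] at this
  have h2' : X % 2 = 1 := by
    have : X &&& 1 = 1 := h2
    rwa [Nat.and_one_is_mod] at this
  simp [colVal, h1', h2']

theorem inv_eq_self_of_sq (g : G) (h : g * g = 1) : g⁻¹ = g := by
  rw [inv_eq_iff_mul_eq_one]; exact h

theorem stepB_spec (hinv : ∀ g, inv g = true → gen g * gen g = 1) (k : ℕ)
    (hk : ∀ f, f < k → Holds K gen par plet (fact f))
    (ih : ℕ → ℕ → List ℕ → Bool) (z cur : ℕ) (ls : List ℕ)
    (h : stepB fact inv k ih z cur ls = true) :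
    ∃ cur' used ls', ls = used ++ ls' ∧ ih (Nat.shiftRight z 24) cur' ls' = true ∧
      RC K (rep gen par plet cur * wordVal gen used) (rep gen par plet cur') := by
  unfold stepB ssrc sdst at h
  set f := sf z with hf
  simp only [Bool.and_eq_true] at h
  obtain ⟨h1, h2, h3⟩ := h
  have hfk : f < k := by
    have : (f + 1).ble k = true := h1
    exact Nat.le_of_ble_eq_true this
  have hH := hk f hfk
  unfold Holds at hH
  have hcur := Nat.eq_of_beq_eq_true h2
  by_cases hl : fl (fact f) = 0
  · -- epsilon fact
    have hl' : Nat.beq (fl (fact f)) 0 = true := by rw [hl]; rfl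
    rw [hl', cond_true] at h3
    rw [hl] at hH
    simp only [lval, if_true, mul_one] at hH
    rcases land_one_cases z with hb | hb
    · rw [hb] at h3 hcur
      simp only [Nat.beq_refl, cond_true] at h3 hcur
      exact ⟨_, [], ls, rfl, h3, by rw [hcur]; simpa [wordVal] using hH⟩
    · rw [hb] at h3 hcur
      have h10 : Nat.beq 1 0 = false := rfl
      simp only [h10, cond_false] at h3 hcur
      exact ⟨_, [], ls, rfl, h3, by rw [hcur]; simpa [wordVal] using hH.symm K⟩
  · have hl' : Nat.beq (fl (fact f)) 0 = false := by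
      cases hq : Nat.beq (fl (fact f)) 0
      · rfl
      · exact absurd (Nat.eq_of_beq_eq_true hq) hl
    rw [hl', cond_false] at h3
    cases ls with
    | nil => simp at h3
    | cons X rest =>
      simp only [Bool.and_eq_true, Bool.or_eq_true] at h3
      obtain ⟨hX1, hX2, hX3⟩ := h3
      have hg := Nat.eq_of_beq_eq_true hX1
      simp only [lval, hl, if_false] at hH
      have hpred : Nat.pred (fl (fact f)) = fl (fact f) - 1 := rfl
      rw [hpred] at hg hX2
      set g := fl (fact f) - 1 with hgdef
      rcases land_one_cases z with hb | hb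
      · rw [hb] at hX3 hcur hX2
        simp only [Nat.beq_refl, cond_true] at hX3 hcur
        refine ⟨_, [X], rest, rfl, hX3, ?_⟩
        rw [hcur]
        have hv : colVal gen X = gen g := by
          rcases hX2 with hi | hs
          · rcases land_one_cases X with hx | hx
            · exact colVal_even gen X g hg hx
            · rw [colVal_odd gen X g hg hx, inv_eq_self_of_sq _ (hinv g hi)]
          · exact colVal_even gen X g hg (Nat.eq_of_beq_eq_true hs)
        simpa [wordVal, hv] using hH
      · rw [hb] at hX3 hcur hX2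
        have h10 : Nat.beq 1 0 = false := rfl
        simp only [h10, cond_false] at hX3 hcur
        refine ⟨_, [X], rest, rfl, hX3, ?_⟩
        rw [hcur]
        have hv : colVal gen X = (gen g)⁻¹ := by
          rcases hX2 with hi | hs
          · rcases land_one_cases X with hx | hx
            · rw [colVal_even gen X g hg hx, inv_eq_self_of_sq _ (hinv g hi)]
            · exact colVal_odd gen X g hg hx
          · exact colVal_odd gen X g hg (Nat.eq_of_beq_eq_true hs)
        have := (hH.mul_right K (gen g)⁻¹).symm K
        simpa [wordVal, hv, mul_assoc] using this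

theorem walkB_spec (hinv : ∀ g, inv g = true → gen g * gen g = 1) (k : ℕ)
    (hk : ∀ f, f < k → Holds K gen par plet (fact f)) (ns : ℕ) :
    ∀ (kont : ℕ → ℕ → List ℕ → Bool) (z cur : ℕ) (ls : List ℕ),
      walkB fact inv k ns kont z cur ls = true →
      ∃ z' cur' used ls', ls = used ++ ls' ∧ kont z' cur' ls' = true ∧
        RC K (rep gen par plet cur * wordVal gen used) (rep gen par plet cur') := by
  induction ns with
  | zero =>
    intro kont z cur ls h
    exact ⟨z, cur, [], ls, rfl, h, by simpa [wordVal] using RC.refl K _⟩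
  | succ ns ih =>
    intro kont z cur ls h
    rw [walkB_succ] at h
    obtain ⟨c1, u1, l1, e1, h1, r1⟩ := stepB_spec K gen par plet fact inv hinv k hk _ z cur ls h
    obtain ⟨z', c2, u2, l2, e2, h2, r2⟩ := ih kont _ c1 l1 h1
    refine ⟨z', c2, u1 ++ u2, l2, by rw [e1, e2, List.append_assoc], h2, ?_⟩
    rw [wordVal_append, ← mul_assoc]
    exact (r1.mul_right K _).trans K r2


/-! ## Checking one fact -/

variable (word : ℕ → List ℕ) (nfree nwords N : ℕ)

/-- Definition fact check. -/
def defB (a l b : ℕ) : Bool :=
  and (not (Nat.beq l 0))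
    (or (and (Nat.blt 0 b) (and (Nat.blt b N) (and (Nat.beq (par b) a)
          (Nat.beq (plet b) (Nat.mul 2 (Nat.pred l))))))
        (and (Nat.blt 0 a) (and (Nat.blt a N) (and (Nat.beq (par a) b)
          (Nat.beq (plet a) (Nat.succ (Nat.mul 2 (Nat.pred l))))))))

theorem lt_of_blt {a b : ℕ} (h : Nat.blt a b = true) : a < b := by
  have : (a + 1).ble b = true := h
  exact Nat.le_of_ble_eq_true this

theorem colVal_two_mul (g : ℕ) : colVal gen (Nat.mul 2 g) = gen g := by
  have h1 : Nat.mul 2 g % 2 = 0 := by show 2 * g % 2 = 0; omega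
  have h2 : Nat.mul 2 g / 2 = g := by show 2 * g / 2 = g; omega
  unfold colVal
  rw [if_pos h1, h2]

theorem colVal_two_mul_succ (g : ℕ) : colVal gen (Nat.succ (Nat.mul 2 g)) = (gen g)⁻¹ := by
  have h1 : Nat.succ (Nat.mul 2 g) % 2 = 1 := by show (2 * g + 1) % 2 = 1; omega
  have h2 : Nat.succ (Nat.mul 2 g) / 2 = g := by show (2 * g + 1) / 2 = g; omega
  unfold colVal
  rw [if_neg (by omega), h2]

theorem defB_spec (hpar : ∀ v, 0 < v → v < N → par v < v) (a l b : ℕ)
    (h : defB par plet N a l b = true) :
    RC K (rep gen par plet a * lval gen l) (rep gen par plet b) := by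
  unfold defB at h
  simp only [Bool.and_eq_true, Bool.or_eq_true, Bool.not_eq_true'] at h
  obtain ⟨hl, h⟩ := h
  have hl0 : l ≠ 0 := by
    intro h0; rw [h0] at hl; exact absurd hl (by decide)
  have hlv : lval gen l = gen (l - 1) := by simp [lval, hl0]
  have hpred : Nat.pred l = l - 1 := rfl
  rcases h with ⟨h1, h2, h3, h4⟩ | ⟨h1, h2, h3, h4⟩
  · have e := rep_succ gen par plet N hpar b (lt_of_blt h1) (lt_of_blt h2)
    rw [Nat.eq_of_beq_eq_true h3, Nat.eq_of_beq_eq_true h4, colVal_two_mul, hpred] at e
    rw [e, hlv]
    exact RC.refl K _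
  · have e := rep_succ gen par plet N hpar a (lt_of_blt h1) (lt_of_blt h2)
    rw [Nat.eq_of_beq_eq_true h3, Nat.eq_of_beq_eq_true h4, colVal_two_mul_succ, hpred] at e
    rw [e, hlv]
    apply RC.of_eq
    group

/-- Final continuation of the suffix walk. -/
def endB (c : ℕ) (kont : ℕ → Bool) (z cur : ℕ) (ls : List ℕ) : Bool :=
  and (Nat.beq cur c) (and (List.isEmpty ls) (kont z))

/-- Continuation after the prefix walk. -/
def midB (k F c gapEps n2 : ℕ) (kont : ℕ → Bool) (z u : ℕ) (ls1 : List ℕ) : Bool :=
  cond (Nat.beq gapEps 1)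
    (and (Nat.beq (fl F) 0) (and (Nat.beq u (fa F))
       (walkB fact inv k n2 (endB c kont) z (fb F) ls1)))
    (match ls1 with
      | [] => false
      | X :: ls2 =>
        and (not (Nat.beq (fl F) 0)) (and (Nat.beq (Nat.shiftRight X 1) (Nat.pred (fl F)))
          (cond (and (Nat.beq (Nat.land X 1) 1) (not (inv (Nat.pred (fl F)))))
            (and (Nat.beq u (fb F)) (walkB fact inv k n2 (endB c kont) z (fa F) ls2))
            (and (Nat.beq u (fa F)) (walkB fact inv k n2 (endB c kont) z (fb F) ls2)))))

/-- Header fields. -/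
def hwid (h : ℕ) : ℕ := Nat.land (Nat.shiftRight h 1) 0x3FF
/-- Header fields. -/
def hc (h : ℕ) : ℕ := Nat.land (Nat.shiftRight h 11) 0xFFFFF
/-- Header fields. -/
def hge (h : ℕ) : ℕ := Nat.land (Nat.shiftRight h 31) 1
/-- Header fields. -/
def hn1 (h : ℕ) : ℕ := Nat.land (Nat.shiftRight h 32) 0xFF
/-- Header fields. -/
def hn2 (h : ℕ) : ℕ := Nat.shiftRight h 40

/-- Derived fact check; `h` is the 48-bit header and `z` the remaining stream. -/
def derB (k : ℕ) (kont : ℕ → Bool) (h z : ℕ) : Bool :=
  and (or (Nat.blt (hwid h) nfree) (and (Nat.beq (hc h) 0) (Nat.blt (hwid h) nwords)))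
    (walkB fact inv k (hn1 h) (midB fact inv k (fact k) (hc h) (hge h) (hn2 h) kont) z (hc h)
      (word (hwid h)))

/-- Check fact `k`, reading its certificate from the stream `z`. -/
def factB (k : ℕ) (kont : ℕ → Bool) (z : ℕ) : Bool :=
  cond (Nat.beq (Nat.land z 1) 0)
    (and (defB par plet N (fa (fact k)) (fl (fact k)) (fb (fact k))) (kont (Nat.shiftRight z 1)))
    (derB fact inv word nfree nwords k kont (Nat.land z 0xFFFFFFFFFFFF) (Nat.shiftRight z 48))

theorem endB_spec (c : ℕ) (kont : ℕ → Bool) (z cur : ℕ) (ls : List ℕ)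
    (h : endB c kont z cur ls = true) : cur = c ∧ ls = [] ∧ kont z = true := by
  unfold endB at h
  simp only [Bool.and_eq_true, List.isEmpty_iff] at h
  exact ⟨Nat.eq_of_beq_eq_true h.1, h.2.1, h.2.2⟩

/-- The algebra behind a relator scan. -/
theorem scan_algebra (rc ru rv P x Q : G) (h1 : RC K (rc * P) ru) (h2 : RC K (rc * (P * x * Q)) rc)
    (h3 : RC K (rv * Q) rc) : RC K (ru * x) rv := by
  have a1 : RC K (ru * (x * Q)) (rc * (P * x * Q)) := by
    have := (h1.symm K).mul_right K (x * Q)
    simpa [mul_assoc] using this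
  have a2 : RC K (ru * (x * Q)) (rv * Q) := (a1.trans K h2).trans K (h3.symm K)
  have a3 := a2.mul_right K Q⁻¹
  simpa [mul_assoc] using a3

theorem derB_spec (hinv : ∀ g, inv g = true → gen g * gen g = 1)
    (hfree : ∀ wid, wid < nfree → wordVal gen (word wid) = 1)
    (hsub : ∀ wid, wid < nwords → wordVal gen (word wid) ∈ K)
    (k : ℕ) (hk : ∀ f, f < k → Holds K gen par plet (fact f)) (kont : ℕ → Bool) (h z : ℕ)
    (hd : derB fact inv word nfree nwords k kont h z = true) :
    Holds K gen par plet (fact k) ∧ ∃ z', kont z' = true := by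
  unfold derB at hd
  simp only [Bool.and_eq_true, Bool.or_eq_true] at hd
  obtain ⟨hanch, hw⟩ := hd
  set c := hc h with hcdef
  set W := word (hwid h) with hW
  -- anchor property
  have hA : RC K (rep gen par plet c * wordVal gen W) (rep gen par plet c) := by
    rcases hanch with h1 | h1
    · rw [hW, hfree _ (lt_of_blt h1), mul_one]; exact RC.refl K _
    · have hc0 : c = 0 := Nat.eq_of_beq_eq_true h1.1
      rw [hc0, rep_zero]
      have := hsub (hwid h) (lt_of_blt h1.2)
      simpa [RC] using this
  obtain ⟨z1, u, used1, ls1, e1, hm, r1⟩ :=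
    walkB_spec K gen par plet fact inv hinv k hk _ _ _ _ _ hw
  unfold midB at hm
  by_cases hge1 : hge h = 1
  · have : Nat.beq (hge h) 1 = true := by rw [hge1]; rfl
    rw [this, cond_true] at hm
    simp only [Bool.and_eq_true] at hm
    obtain ⟨hl0, hu, hw2⟩ := hm
    obtain ⟨z2, c', used2, ls3, e2, hend, r2⟩ :=
      walkB_spec K gen par plet fact inv hinv k hk _ _ _ _ _ hw2
    obtain ⟨hc', hl3, hk'⟩ := endB_spec _ _ _ _ _ hend
    refine ⟨?_, z2, hk'⟩
    unfold Holds
    rw [Nat.eq_of_beq_eq_true hl0]
    simp only [lval, if_true]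
    rw [hl3, List.append_nil] at e2
    rw [e1, e2, wordVal_append] at hA
    rw [hc'] at r2
    rw [Nat.eq_of_beq_eq_true hu] at r1
    have := scan_algebra K _ _ _ (wordVal gen used1) 1 (wordVal gen used2) r1
      (by simpa using hA) r2
    exact this
  · have : Nat.beq (hge h) 1 = false := by
      cases hq : Nat.beq (hge h) 1
      · rfl
      · exact absurd (Nat.eq_of_beq_eq_true hq) hge1
    rw [this, cond_false] at hm
    cases ls1 with
    | nil => simp at hm
    | cons X ls2 =>
      simp only [Bool.and_eq_true, Bool.not_eq_true'] at hm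
      obtain ⟨hl0, hg, hm⟩ := hm
      have hl0' : fl (fact k) ≠ 0 := by
        intro h0; rw [h0] at hl0; exact absurd hl0 (by decide)
      have hgg := Nat.eq_of_beq_eq_true hg
      have hpred : Nat.pred (fl (fact k)) = fl (fact k) - 1 := rfl
      rw [hpred] at hgg hm
      set g := fl (fact k) - 1 with hgdef
      have hlv : lval gen (fl (fact k)) = gen g := by
        unfold lval
        rw [if_neg hl0']
      by_cases hswap : (Nat.beq (Nat.land X 1) 1 && !inv g) = true
      · rw [hswap, cond_true] at hm
        simp only [Bool.and_eq_true] at hm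
        obtain ⟨hu, hw2⟩ := hm
        obtain ⟨z2, c', used2, ls3, e2, hend, r2⟩ :=
          walkB_spec K gen par plet fact inv hinv k hk _ _ _ _ _ hw2
        obtain ⟨hc', hl3, hk'⟩ := endB_spec _ _ _ _ _ hend
        refine ⟨?_, z2, hk'⟩
        simp only [Bool.and_eq_true, Bool.not_eq_true'] at hswap
        have hX : colVal gen X = (gen g)⁻¹ :=
          colVal_odd gen X g hgg (Nat.eq_of_beq_eq_true hswap.1)
        rw [hl3, List.append_nil] at e2
        rw [e1, e2, wordVal_append] at hA
        rw [hc'] at r2
        rw [Nat.eq_of_beq_eq_true hu] at r1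
        have hx := scan_algebra K _ _ _ (wordVal gen used1) (colVal gen X) (wordVal gen used2) r1
          (by simpa [wordVal, mul_assoc] using hA) r2
        rw [hX] at hx
        unfold Holds
        rw [hlv]
        have := (hx.mul_right K (gen g)).symm K
        simpa [mul_assoc] using this
      · have hswap' : (Nat.beq (Nat.land X 1) 1 && !inv g) = false := by
          simpa using hswap
        rw [hswap', cond_false] at hm
        simp only [Bool.and_eq_true] at hm
        obtain ⟨hu, hw2⟩ := hm
        obtain ⟨z2, c', used2, ls3, e2, hend, r2⟩ :=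
          walkB_spec K gen par plet fact inv hinv k hk _ _ _ _ _ hw2
        obtain ⟨hc', hl3, hk'⟩ := endB_spec _ _ _ _ _ hend
        refine ⟨?_, z2, hk'⟩
        have hX : colVal gen X = gen g := by
          rcases land_one_cases X with hx | hx
          · exact colVal_even gen X g hgg hx
          · have hi : inv g = true := by
              rw [hx] at hswap'
              simpa using hswap'
            rw [colVal_odd gen X g hgg hx, inv_eq_self_of_sq _ (hinv g hi)]
        rw [hl3, List.append_nil] at e2
        rw [e1, e2, wordVal_append] at hA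
        rw [hc'] at r2
        rw [Nat.eq_of_beq_eq_true hu] at r1
        have hx := scan_algebra K _ _ _ (wordVal gen used1) (colVal gen X) (wordVal gen used2) r1
          (by simpa [wordVal, mul_assoc] using hA) r2
        rw [hX] at hx
        unfold Holds
        rw [hlv]
        exact hx

theorem factB_spec (hinv : ∀ g, inv g = true → gen g * gen g = 1)
    (hfree : ∀ wid, wid < nfree → wordVal gen (word wid) = 1)
    (hsub : ∀ wid, wid < nwords → wordVal gen (word wid) ∈ K)
    (hpar : ∀ v, 0 < v → v < N → par v < v)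
    (k : ℕ) (hk : ∀ f, f < k → Holds K gen par plet (fact f)) (kont : ℕ → Bool) (z : ℕ)
    (h : factB par plet fact inv word nfree nwords N k kont z = true) :
    Holds K gen par plet (fact k) ∧ ∃ z', kont z' = true := by
  unfold factB at h
  cases hq : Nat.beq (Nat.land z 1) 0
  · rw [hq, cond_false] at h
    exact derB_spec K gen par plet fact inv word nfree nwords hinv hfree hsub k hk kont _ _ h
  · rw [hq, cond_true] at h
    simp only [Bool.and_eq_true] at h
    exact ⟨defB_spec K gen par plet N hpar _ _ _ h.1, _, h.2⟩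

/-! ## Blocks of facts -/

/-- Check the facts `k0 + i, k0 + i + 1, …` (`cnt` of them) against the stream. -/
def blockB (k0 cnt : ℕ) : ℕ → ℕ → Bool :=
  Nat.rec (fun _ _ => true)
    (fun _ ih i z => factB par plet fact inv word nfree nwords N (Nat.add k0 i) (ih (Nat.succ i)) z) cnt

theorem blockB_spec (hinv : ∀ g, inv g = true → gen g * gen g = 1)
    (hfree : ∀ wid, wid < nfree → wordVal gen (word wid) = 1)
    (hsub : ∀ wid, wid < nwords → wordVal gen (word wid) ∈ K)
    (hpar : ∀ v, 0 < v → v < N → par v < v) (k0 cnt : ℕ) :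
    ∀ i z, blockB par plet fact inv word nfree nwords N k0 cnt i z = true →
      (∀ f, f < k0 + i → Holds K gen par plet (fact f)) →
      ∀ f, f < k0 + i + cnt → Holds K gen par plet (fact f) := by
  induction cnt with
  | zero => intro i z _ h f hf; exact h f hf
  | succ cnt ih =>
    intro i z hb h f hf
    have hb' : factB par plet fact inv word nfree nwords N (Nat.add k0 i)
        (blockB par plet fact inv word nfree nwords N k0 cnt (Nat.succ i)) z = true := hb
    obtain ⟨hH, z', hz'⟩ :=
      factB_spec K gen par plet fact inv word nfree nwords N hinv hfree hsub hpar _ h _ _ hb'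
    have h' : ∀ f, f < k0 + (i + 1) → Holds K gen par plet (fact f) := by
      intro f hf
      rcases Nat.lt_or_ge f (k0 + i) with h1 | h1
      · exact h f h1
      · have : f = k0 + i := by omega
        rw [this]; exact hH
    exact ih (i + 1) z' hz' h' f (by omega)


/-! ## Final cosets -/

variable (isFin : ℕ → Bool) (row : ℕ → ℕ) (M : ℕ)

/-- The end of a one-step walk from a final coset: we must land on a final coset. -/
def finEnd (z cur : ℕ) (ls : List ℕ) : Bool :=
  and (isFin cur) (and (Nat.blt cur N) (List.isEmpty ls))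

/-- Column `col` of the final coset `v`. -/
def colB (v col : ℕ) : Bool :=
  walkB fact inv M 1 (finEnd N isFin) (Nat.shiftRight (row v) (Nat.mul 24 col)) v [col]

/-- All columns below `ncols`. -/
def colsB (v ncols : ℕ) : Bool :=
  Nat.rec true (fun col ih => and (colB fact inv N isFin row M v col) ih) ncols

/-- The row check at `v`. -/
def rowB (ncols v : ℕ) : Bool :=
  or (not (isFin v)) (colsB fact inv N isFin row M v ncols)

theorem colsB_spec (v ncols : ℕ) (h : colsB fact inv N isFin row M v ncols = true) :
    ∀ col, col < ncols → colB fact inv N isFin row M v col = true := by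
  induction ncols with
  | zero => intro col hcol; omega
  | succ n ih =>
    have h' : (colB fact inv N isFin row M v n && colsB fact inv N isFin row M v n) = true := h
    rw [Bool.and_eq_true] at h'
    intro col hcol
    rcases Nat.lt_succ_iff_lt_or_eq.mp hcol with hc | rfl
    · exact ih h'.2 col hc
    · exact h'.1

theorem colB_spec (hinv : ∀ g, inv g = true → gen g * gen g = 1)
    (hM : ∀ f, f < M → Holds K gen par plet (fact f)) (v col : ℕ)
    (h : colB fact inv N isFin row M v col = true) :
    ∃ j, isFin j = true ∧ j < N ∧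
      RC K (rep gen par plet v * colVal gen col) (rep gen par plet j) := by
  unfold colB at h
  obtain ⟨z', j, used, ls', e, hend, r⟩ :=
    walkB_spec K gen par plet fact inv hinv M hM 1 _ _ _ _ h
  unfold finEnd at hend
  simp only [Bool.and_eq_true, List.isEmpty_iff] at hend
  obtain ⟨h1, h2, h3⟩ := hend
  rw [h3, List.append_nil] at e
  rw [← e] at r
  refine ⟨j, h1, lt_of_blt h2, ?_⟩
  simpa [wordVal] using r

/-- Main theorem: a checked certificate bounds the index. -/
theorem index_le_of_cert (hinv : ∀ g, inv g = true → gen g * gen g = 1)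
    (hfree : ∀ wid, wid < nfree → wordVal gen (word wid) = 1)
    (hsub : ∀ wid, wid < nwords → wordVal gen (word wid) ∈ K)
    (hpar : ∀ v, 0 < v → v < N → par v < v)
    (hM : ∀ f, f < M → Holds K gen par plet (fact f))
    (ng : ℕ) (hrows : ∀ v, v < N → rowB fact inv N isFin row M (2 * ng) v = true)
    (h0 : isFin 0 = true) (hN : 0 < N)
    (hgen : Subgroup.closure (Set.range fun g : Fin ng => gen g) = ⊤) :
    K.index ≠ 0 ∧ K.index ≤ ((Finset.range N).filter (fun v => isFin v = true)).card := by
  apply index_le_of_reps K _ hgen _ (rep gen par plet)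
  · refine ⟨0, ?_, ?_⟩
    · simp [h0, hN]
    · rw [rep_zero]; exact K.one_mem
  · intro i hi x hx
    rw [Finset.mem_filter, Finset.mem_range] at hi
    obtain ⟨g, rfl⟩ := hx
    have hr := hrows i hi.1
    unfold rowB at hr
    rw [Bool.or_eq_true, Bool.not_eq_true', hi.2] at hr
    have hcols := colsB_spec fact inv N isFin row M i (2 * ng) (by simpa using hr)
    constructor
    · obtain ⟨j, hj1, hj2, hj3⟩ := colB_spec K gen par plet fact inv N isFin row M hinv hM i
        (Nat.mul 2 g) (hcols _ (by show 2 * (g : ℕ) < 2 * ng; omega))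
      rw [colVal_two_mul] at hj3
      exact ⟨j, by simp [hj1, hj2], hj3⟩
    · obtain ⟨j, hj1, hj2, hj3⟩ := colB_spec K gen par plet fact inv N isFin row M hinv hM i
        (Nat.succ (Nat.mul 2 g)) (hcols _ (by show 2 * (g : ℕ) + 1 < 2 * ng; omega))
      rw [colVal_two_mul_succ] at hj3
      exact ⟨j, by simp [hj1, hj2], hj3⟩

/-- All facts hold once all blocks check. -/
theorem holds_of_blocks (hinv : ∀ g, inv g = true → gen g * gen g = 1)
    (hfree : ∀ wid, wid < nfree → wordVal gen (word wid) = 1)
    (hsub : ∀ wid, wid < nwords → wordVal gen (word wid) ∈ K)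
    (hpar : ∀ v, 0 < v → v < N → par v < v)
    (bsz : ℕ) (cert : ℕ → ℕ) (nb : ℕ)
    (hb : ∀ j, j < nb → blockB par plet fact inv word nfree nwords N (Nat.mul j bsz) bsz 0 (cert j) = true) :
    ∀ f, f < nb * bsz → Holds K gen par plet (fact f) := by
  induction nb with
  | zero => intro f hf; simp at hf
  | succ nb ih =>
    have ih' := ih (fun j hj => hb j (Nat.lt_succ_of_lt hj))
    have := blockB_spec K gen par plet fact inv word nfree nwords N hinv hfree hsub hpar (Nat.mul nb bsz) bsz
      0 (cert nb) (hb nb (Nat.lt_succ_self nb)) (by simpa using ih')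
    intro f hf
    apply this f
    have e : (nb + 1) * bsz = Nat.mul nb bsz + 0 + bsz := by
      show (nb + 1) * bsz = nb * bsz + 0 + bsz
      ring
    omega


/-! ## Fast versions

The same functions written with raw recursors and raw literals, which the kernel evaluates several
times faster; they are definitionally equal to the versions above. -/

section Fast

local notation "band(" a ", " b ")" => @Bool.rec (fun _ => Bool) false b a
local notation "bor(" a ", " b ")" => @Bool.rec (fun _ => Bool) b true a
local notation "bcond(" c ", " a ", " b ")" => @Bool.rec (fun _ => _) b a c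
local notation "blt(" a ", " b ")" => Nat.ble (Nat.succ a) b

/-- Fast `stepB`. -/
def stepF (k : ℕ) (ih : ℕ → ℕ → List ℕ → Bool) (z cur : ℕ) (ls : List ℕ) : Bool :=
  band(blt(Nat.shiftRight (Nat.land z (nat_lit 16777215)) (nat_lit 1), k),
    band(Nat.beq cur (bcond(Nat.beq (Nat.land z (nat_lit 1)) (nat_lit 0),
        Nat.land (fact (Nat.shiftRight (Nat.land z (nat_lit 16777215)) (nat_lit 1))) (nat_lit 1048575),
        Nat.land (Nat.shiftRight (fact (Nat.shiftRight (Nat.land z (nat_lit 16777215)) (nat_lit 1)))
          (nat_lit 20)) (nat_lit 1048575))),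
      bcond(Nat.beq (Nat.shiftRight (fact (Nat.shiftRight (Nat.land z (nat_lit 16777215)) (nat_lit 1)))
          (nat_lit 40)) (nat_lit 0),
        ih (Nat.shiftRight z (nat_lit 24)) (bcond(Nat.beq (Nat.land z (nat_lit 1)) (nat_lit 0),
          Nat.land (Nat.shiftRight (fact (Nat.shiftRight (Nat.land z (nat_lit 16777215)) (nat_lit 1)))
            (nat_lit 20)) (nat_lit 1048575),
          Nat.land (fact (Nat.shiftRight (Nat.land z (nat_lit 16777215)) (nat_lit 1)))
            (nat_lit 1048575))) ls,
        @List.rec ℕ (fun _ => Bool) false (fun X rest _ =>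
          band(Nat.beq (Nat.shiftRight X (nat_lit 1))
              (Nat.pred (Nat.shiftRight (fact (Nat.shiftRight (Nat.land z (nat_lit 16777215))
                (nat_lit 1))) (nat_lit 40))),
            band(bor(inv (Nat.pred (Nat.shiftRight (fact (Nat.shiftRight (Nat.land z
                  (nat_lit 16777215)) (nat_lit 1))) (nat_lit 40))),
                Nat.beq (Nat.land X (nat_lit 1)) (Nat.land z (nat_lit 1))),
              ih (Nat.shiftRight z (nat_lit 24)) (bcond(Nat.beq (Nat.land z (nat_lit 1)) (nat_lit 0),
                Nat.land (Nat.shiftRight (fact (Nat.shiftRight (Nat.land z (nat_lit 16777215))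
                  (nat_lit 1))) (nat_lit 20)) (nat_lit 1048575),
                Nat.land (fact (Nat.shiftRight (Nat.land z (nat_lit 16777215)) (nat_lit 1)))
                  (nat_lit 1048575))) rest))) ls)))

theorem band_eq (a b : Bool) : @Bool.rec (fun _ => Bool) false b a = (a && b) := by
  cases a <;> rfl

theorem bor_eq (a b : Bool) : @Bool.rec (fun _ => Bool) b true a = (a || b) := by
  cases a <;> rfl

theorem bcond_eq {β : Type} (c : Bool) (a b : β) : @Bool.rec (fun _ => β) b a c = cond c a b := by
  cases c <;> rfl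

theorem stepF_eq : @stepF = @stepB := by
  funext fact inv k ih z cur ls
  unfold stepF stepB ssrc sdst sf fa fb fl
  simp only [bcond_eq, Bool.cond_false_right, Bool.cond_true_left]
  cases ls <;> rfl

theorem cond_ft (c : Bool) : cond c false true = !c := by cases c <;> rfl

local notation "bnot(" a ")" => @Bool.rec (fun _ => Bool) true false a

/-- Fast `walkB`. -/
def walkF (k : ℕ) (ns : ℕ) (kont : ℕ → ℕ → List ℕ → Bool) : ℕ → ℕ → List ℕ → Bool :=
  Nat.rec kont (fun _ ih => stepF fact inv k ih) ns

theorem walkF_eq : @walkF = @walkB := by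
  funext fact inv k ns kont
  unfold walkF walkB
  rw [stepF_eq]

/-- Fast `defB`. -/
def defF (a l b : ℕ) : Bool :=
  band(bnot(Nat.beq l (nat_lit 0)),
    bor(band(blt(nat_lit 0, b), band(blt(b, N), band(Nat.beq (par b) a,
          Nat.beq (plet b) (Nat.mul (nat_lit 2) (Nat.pred l))))),
        band(blt(nat_lit 0, a), band(blt(a, N), band(Nat.beq (par a) b,
          Nat.beq (plet a) (Nat.succ (Nat.mul (nat_lit 2) (Nat.pred l))))))))

theorem defF_eq : @defF = @defB := by
  funext par plet N a l b
  unfold defF defB
  simp only [bcond_eq, Bool.cond_false_right, Bool.cond_true_left, cond_ft]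
  rfl

/-- Fast `endB`. -/
def endF (c : ℕ) (kont : ℕ → Bool) (z cur : ℕ) (ls : List ℕ) : Bool :=
  band(Nat.beq cur c, band(@List.rec ℕ (fun _ => Bool) true (fun _ _ _ => false) ls, kont z))

theorem endF_eq : @endF = @endB := by
  funext c kont z cur ls
  unfold endF endB
  simp only [bcond_eq, Bool.cond_false_right, Bool.cond_true_left, cond_ft]
  cases ls <;> rfl

/-- Fast `midB`. -/
def midF (k F c gapEps n2 : ℕ) (kont : ℕ → Bool) (z u : ℕ) (ls1 : List ℕ) : Bool :=
  bcond(Nat.beq gapEps (nat_lit 1),
    band(Nat.beq (Nat.shiftRight F (nat_lit 40)) (nat_lit 0),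
      band(Nat.beq u (Nat.land F (nat_lit 1048575)),
        walkF fact inv k n2 (endF c kont) z
          (Nat.land (Nat.shiftRight F (nat_lit 20)) (nat_lit 1048575)) ls1)),
    @List.rec ℕ (fun _ => Bool) false (fun X ls2 _ =>
      band(bnot(Nat.beq (Nat.shiftRight F (nat_lit 40)) (nat_lit 0)),
        band(Nat.beq (Nat.shiftRight X (nat_lit 1)) (Nat.pred (Nat.shiftRight F (nat_lit 40))),
          bcond(band(Nat.beq (Nat.land X (nat_lit 1)) (nat_lit 1),
              bnot(inv (Nat.pred (Nat.shiftRight F (nat_lit 40))))),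
            band(Nat.beq u (Nat.land (Nat.shiftRight F (nat_lit 20)) (nat_lit 1048575)),
              walkF fact inv k n2 (endF c kont) z (Nat.land F (nat_lit 1048575)) ls2),
            band(Nat.beq u (Nat.land F (nat_lit 1048575)),
              walkF fact inv k n2 (endF c kont) z
                (Nat.land (Nat.shiftRight F (nat_lit 20)) (nat_lit 1048575)) ls2))))) ls1)

theorem midF_eq : @midF = @midB := by
  funext fact inv k F c gapEps n2 kont z u ls1
  unfold midF midB fa fb fl
  rw [walkF_eq, endF_eq]
  simp only [bcond_eq, Bool.cond_false_right, Bool.cond_true_left, cond_ft]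
  cases ls1 <;> rfl

/-- Fast `derB`. -/
def derF (k : ℕ) (kont : ℕ → Bool) (h z : ℕ) : Bool :=
  band(bor(blt(Nat.land (Nat.shiftRight h (nat_lit 1)) (nat_lit 1023), nfree),
      band(Nat.beq (Nat.land (Nat.shiftRight h (nat_lit 11)) (nat_lit 1048575)) (nat_lit 0),
        blt(Nat.land (Nat.shiftRight h (nat_lit 1)) (nat_lit 1023), nwords))),
    walkF fact inv k (Nat.land (Nat.shiftRight h (nat_lit 32)) (nat_lit 255))
      (midF fact inv k (fact k) (Nat.land (Nat.shiftRight h (nat_lit 11)) (nat_lit 1048575))
        (Nat.land (Nat.shiftRight h (nat_lit 31)) (nat_lit 1)) (Nat.shiftRight h (nat_lit 40)) kont)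
      z (Nat.land (Nat.shiftRight h (nat_lit 11)) (nat_lit 1048575))
      (word (Nat.land (Nat.shiftRight h (nat_lit 1)) (nat_lit 1023))))

theorem derF_eq : @derF = @derB := by
  funext fact inv word nfree nwords k kont h z
  unfold derF derB hwid hc hge hn1 hn2
  rw [walkF_eq, midF_eq]
  simp only [bcond_eq, Bool.cond_false_right, Bool.cond_true_left, cond_ft]
  rfl

/-- Fast `factB`. -/
def factF (k : ℕ) (kont : ℕ → Bool) (z : ℕ) : Bool :=
  bcond(Nat.beq (Nat.land z (nat_lit 1)) (nat_lit 0),
    band(defF par plet N (Nat.land (fact k) (nat_lit 1048575)) (Nat.shiftRight (fact k) (nat_lit 40))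
        (Nat.land (Nat.shiftRight (fact k) (nat_lit 20)) (nat_lit 1048575)),
      kont (Nat.shiftRight z (nat_lit 1))),
    derF fact inv word nfree nwords k kont (Nat.land z (nat_lit 281474976710655))
      (Nat.shiftRight z (nat_lit 48)))

theorem factF_eq : @factF = @factB := by
  funext par plet fact inv word nfree nwords N k kont z
  unfold factF factB fa fb fl
  rw [defF_eq, derF_eq]
  simp only [bcond_eq, Bool.cond_false_right]

/-- Fast `blockB`. -/
def blockF (k0 cnt : ℕ) : ℕ → ℕ → Bool :=
  Nat.rec (fun _ _ => true)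
    (fun _ ih i z => factF par plet fact inv word nfree nwords N (Nat.add k0 i) (ih (Nat.succ i)) z)
    cnt

theorem blockF_eq : @blockF = @blockB := by
  funext par plet fact inv word nfree nwords N k0 cnt
  unfold blockF blockB
  rw [factF_eq]

/-- Fast `finEnd`. -/
def finEndF (z cur : ℕ) (ls : List ℕ) : Bool :=
  band(isFin cur, band(blt(cur, N), @List.rec ℕ (fun _ => Bool) true (fun _ _ _ => false) ls))

theorem finEndF_eq : @finEndF = @finEnd := by
  funext N isFin z cur ls
  unfold finEndF finEnd
  simp only [bcond_eq, Bool.cond_false_right, Bool.cond_true_left, cond_ft]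
  cases ls <;> rfl

/-- Fast `colB`. -/
def colF (v col : ℕ) : Bool :=
  walkF fact inv M (nat_lit 1) (finEndF N isFin)
    (Nat.shiftRight (row v) (Nat.mul (nat_lit 24) col)) v [col]

theorem colF_eq : @colF = @colB := by
  funext fact inv N isFin row M v col
  unfold colF colB
  rw [walkF_eq, finEndF_eq]

/-- Fast `rowB`. -/
def rowF (ncols v : ℕ) : Bool :=
  bor(bnot(isFin v), Nat.rec true (fun col ih => band(colF fact inv N isFin row M v col, ih)) ncols)

theorem rowF_eq : @rowF = @rowB := by
  funext fact inv N isFin row M ncols v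
  unfold rowF rowB colsB
  rw [colF_eq]
  simp only [bcond_eq, Bool.cond_false_right, Bool.cond_true_left, cond_ft]

end Fast

end Checker

end Cfsg.Agent.Lib.Helper28_CosetUp
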