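import Cfsg.Agent.Lib.Helper28_CosetUp
import Cfsg.Agent.Lib.Helper28_CosetCox

/-!
# Glue: Todd–Coxeter proof traces for the Coxeter-style presentations of `Def_SporCoxeter`
(helper28)
-/

set_option autoImplicit false
set_option linter.unusedSectionVars false
set_option linter.unusedVariables false

namespace Cfsg.Agent.Lib.Helper28_CosetUpCox

open Cfsg.Spor Cfsg.Agent.Lib.Helper28_CosetUp Cfsg.Agent.Lib.Helper28_CosetCox

section

variable {α : Type} [DecidableEq α] (gname : ℕ → α)

/-- Typed letter of a column code. -/
def toLetter (col : ℕ) : α × Bool := (gname (col / 2), decide (col % 2 = 0))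

/-- Typed word of a list of column codes. -/
def toWord (w : List ℕ) : List (α × Bool) := w.map (toLetter gname)

variable (rels : Set (FreeGroup α))

/-- The generators of the presented group, indexed by `ℕ`. -/
def genP (g : ℕ) : PresentedGroup rels := PresentedGroup.of (gname g)

theorem mk_cons (x : α × Bool) (l : List (α × Bool)) :
    (FreeGroup.mk (x :: l) : FreeGroup α) = FreeGroup.mk [x] * FreeGroup.mk l := by
  rw [FreeGroup.mul_mk]; rfl

theorem wordVal_eq (w : List ℕ) :
    wordVal (genP gname rels) w = PresentedGroup.mk rels (FreeGroup.mk (toWord gname w)) := by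
  induction w with
  | nil => simp [wordVal, toWord]; rfl
  | cons c w ih =>
    have : toWord gname (c :: w) = toLetter gname c :: toWord gname w := rfl
    rw [this, mk_cons, map_mul, ← ih]
    show colVal (genP gname rels) c * _ = _
    congr 1
    unfold colVal toLetter genP
    by_cases h : c % 2 = 0
    · simp only [h, if_true, decide_true]
      rfl
    · simp only [h, if_false, decide_false]
      rw [show (FreeGroup.mk [(gname (c / 2), false)] : FreeGroup α) = (FreeGroup.of (gname (c / 2)))⁻¹ from rfl,
        map_inv]
      rfl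

variable (edges : List (α × ℕ × α)) (extra : List (FreeGroup α))

/-- Decidable description of the words that are trivially relators. -/
def RelWordT (u : List (α × Bool)) : Prop :=
  (∃ x ∈ coxNodes edges, ∃ y ∈ coxNodes edges, u = pairWord x y (coxLabel edges x y)) ∨
    (FreeGroup.mk u ∈ extra) ∨ (FreeGroup.mk u : FreeGroup α) = 1

instance (u : List (α × Bool)) : Decidable (RelWordT edges extra u) := by
  unfold RelWordT; infer_instance

theorem mk_eq_one_of_relWordT (u : List (α × Bool)) (h : RelWordT edges extra u) :
    PresentedGroup.mk (coxRelators edges ∪ {r | r ∈ extra}) (FreeGroup.mk u) = 1 := by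
  rcases h with ⟨x, hx, y, hy, rfl⟩ | h | h
  · apply PresentedGroup.one_of_mem
    left
    exact ⟨x, hx, y, hy, mk_pairWord x y _⟩
  · apply PresentedGroup.one_of_mem
    right
    exact h
  · rw [h, map_one]

theorem gen_sq_of_node (x : α) (hx : x ∈ coxNodes edges) :
    (PresentedGroup.of x : PresentedGroup (coxRelators edges ∪ {r | r ∈ extra})) *
      PresentedGroup.of x = 1 := by
  have hmem : (FreeGroup.of x * FreeGroup.of x) ^ coxLabel edges x x ∈
      coxRelators edges ∪ {r | r ∈ extra} := Or.inl ⟨x, hx, x, hx, rfl⟩
  have := PresentedGroup.one_of_mem hmem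
  have hl : coxLabel edges x x = 1 := by simp [coxLabel]
  rw [hl, pow_one, map_mul] at this
  exact this

theorem closure_genP (ng : ℕ) (hsurj : ∀ a : α, ∃ g, g < ng ∧ gname g = a) :
    Subgroup.closure (Set.range fun g : Fin ng => genP gname rels g) = ⊤ := by
  rw [eq_top_iff, ← PresentedGroup.closure_range_of rels]
  apply Subgroup.closure_mono
  rintro _ ⟨a, rfl⟩
  obtain ⟨g, hg, rfl⟩ := hsurj a
  exact ⟨⟨g, hg⟩, rfl⟩

end

end Cfsg.Agent.Lib.Helper28_CosetUpCox
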