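import Cfsg.Agent.Lib.Helper28_CosetUpCox

/-!
# Squares of generators from explicit extra relators (helper28)

A complement to `Helper28_CosetUpCox.gen_sq_of_node` for generators that are not nodes of the
Coxeter graph of a sub-presentation but whose square is listed among the extra relators.
-/

set_option autoImplicit false

namespace Cfsg.Agent.Lib.Helper28_CosetUpCox2

open Cfsg.Spor

variable {α : Type*} [DecidableEq α]

theorem gen_sq_of_mem (edges : List (α × ℕ × α)) (extra : List (FreeGroup α)) (x : α)
    (h : FreeGroup.mk [(x, true), (x, true)] ∈ extra) :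
    (PresentedGroup.of x : PresentedGroup (coxRelators edges ∪ {r | r ∈ extra})) *
      PresentedGroup.of x = 1 := by
  have hmem : (FreeGroup.mk [(x, true), (x, true)] : FreeGroup α) ∈
      coxRelators edges ∪ {r | r ∈ extra} := Or.inr h
  have h1 := PresentedGroup.one_of_mem hmem
  have h2 : (FreeGroup.mk [(x, true), (x, true)] : FreeGroup α) =
      FreeGroup.of x * FreeGroup.of x := rfl
  rw [h2, map_mul] at h1
  exact h1

end Cfsg.Agent.Lib.Helper28_CosetUpCox2
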