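import Cfsg.Prelude.Def_SporadicB

/-!
# Recognising a non-split double cover of a simple group (helper28)
-/

set_option autoImplicit false

namespace Cfsg.Agent.Lib.Helper28_DoubleCover

open Cfsg

/-- A finite perfect group `Hs` with a central involution `z` such that a finite simple
non-abelian group `K` with `2 |K| = |Hs|` maps onto `Hs ⧸ ⟨z⟩` is a non-split double cover of
`K`. -/
theorem nonsplit_double_cover {Hs K : Type*} [Group Hs] [Group K] [Finite Hs] [Finite K]
    (z : Hs) (hz1 : z ≠ 1) (hz2 : z * z = 1) (hzc : ∀ h : Hs, h * z = z * h)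
    (hK : IsSimpleGroup K) (hKcard : Nat.card K * 2 = Nat.card Hs) (hKnp : ¬ (Nat.card K).Prime)
    (Z : Subgroup Hs) [hZn : Z.Normal] (hZ : Z = Subgroup.zpowers z)
    (φ : K →* Hs ⧸ Z) (hφ : Function.Surjective φ) (hperf : commutator Hs = ⊤) :
    IsNonsplitDoubleCover Hs K := by
  classical
  -- the order of `Z`
  have hord : orderOf z = 2 := by
    have : Fact (Nat.Prime 2) := ⟨Nat.prime_two⟩
    apply orderOf_eq_prime
    · rw [pow_two]; exact hz2
    · exact hz1
  have hZcard : Nat.card Z = 2 := by
    rw [hZ, Nat.card_zpowers, hord]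
  -- the order of the quotient
  have hQcard : Nat.card (Hs ⧸ Z) = Nat.card K := by
    have h1 := Subgroup.card_eq_card_quotient_mul_card_subgroup Z
    rw [hZcard, ← hKcard] at h1
    exact (Nat.eq_of_mul_eq_mul_right (by norm_num) h1).symm
  -- `φ` is bijective
  have hbij : Function.Bijective φ :=
    (Nat.bijective_iff_surjective_and_card φ).mpr ⟨hφ, hQcard.symm⟩
  let e : K ≃* Hs ⧸ Z := MulEquiv.ofBijective φ hbij
  have hQsimple : IsSimpleGroup (Hs ⧸ Z) := e.symm.isSimpleGroup
  -- `Z` is central
  have hZle : Z ≤ Subgroup.center Hs := by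
    rw [hZ, Subgroup.zpowers_le]
    rw [Subgroup.mem_center_iff]
    exact hzc
  -- the centre is `Z`
  have hcenter : Subgroup.center Hs = Z := by
    apply le_antisymm _ hZle
    -- the image of the centre in the quotient is a normal subgroup
    have hn : ((Subgroup.center Hs).map (QuotientGroup.mk' Z)).Normal :=
      Subgroup.Normal.map inferInstance _ (QuotientGroup.mk'_surjective Z)
    rcases hQsimple.eq_bot_or_eq_top_of_normal _ hn with h | h
    · intro x hx
      have : QuotientGroup.mk' Z x ∈ (Subgroup.center Hs).map (QuotientGroup.mk' Z) :=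
        Subgroup.mem_map_of_mem _ hx
      rw [h, Subgroup.mem_bot] at this
      exact (QuotientGroup.eq_one_iff x).mp this
    · -- then the quotient is commutative, hence of prime order
      exfalso
      have hcomm : ∀ a b : Hs ⧸ Z, a * b = b * a := by
        intro a b
        have ha : a ∈ (Subgroup.center Hs).map (QuotientGroup.mk' Z) := by
          rw [h]; exact Subgroup.mem_top a
        obtain ⟨x, hx, rfl⟩ := ha
        obtain ⟨y, rfl⟩ := QuotientGroup.mk'_surjective Z b
        rw [← map_mul, ← map_mul]
        congr 1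
        exact ((Subgroup.mem_center_iff.mp hx) y).symm
      let _ : CommGroup (Hs ⧸ Z) := { (inferInstance : Group (Hs ⧸ Z)) with mul_comm := hcomm }
      have hp := IsSimpleGroup.prime_card (α := Hs ⧸ Z)
      rw [hQcard] at hp
      exact hKnp hp
  refine ⟨?_, ?_, ?_⟩
  · rw [hcenter, hZcard]
  · exact ⟨(QuotientGroup.quotientMulEquivOfEq hcenter).trans e.symm⟩
  · intro L hL
    have hcard := hL.card_mul_card
    rw [hcenter, hZcard] at hcard
    -- `L` has index `2`
    have hidx : L.index = 2 := by
      have h1 := L.card_mul_index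
      rw [← hcard] at h1
      have hLpos : 0 < Nat.card L := Nat.card_pos
      have : Nat.card L * L.index = Nat.card L * 2 := by rw [h1, Nat.mul_comm]
      exact Nat.eq_of_mul_eq_mul_left hLpos this
    have hLn : L.Normal := Subgroup.normal_of_index_eq_two hidx
    -- the quotient by `L` is commutative, so `L` contains the commutator subgroup
    have hcomm : commutator Hs ≤ L := by
      have hc2 : Nat.card (Hs ⧸ L) = 2 := by rw [← Subgroup.index_eq_card]; exact hidx
      have : Fact (Nat.Prime 2) := ⟨Nat.prime_two⟩
      have hcyc : IsCyclic (Hs ⧸ L) := isCyclic_of_prime_card hc2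
      let _ : CommGroup (Hs ⧸ L) := IsCyclic.commGroup
      exact (Subgroup.Normal.quotient_commutative_iff_commutator_le (N := L)).mp
        ⟨⟨fun a b => mul_comm a b⟩⟩
    rw [hperf] at hcomm
    have hLtop : L = ⊤ := top_le_iff.mp hcomm
    have hdisj := hL.disjoint
    rw [hLtop, disjoint_top, hcenter] at hdisj
    rw [hdisj, Subgroup.card_bot] at hZcard
    norm_num at hZcard

end Cfsg.Agent.Lib.Helper28_DoubleCover
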