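import Cfsg.Agent.Lib.Helper28_OrbitLB2

/-!
# Fast lookups in block-assembled packed columns (helper28)

The coset-table machinery of `Helper28_CosetPerm` looks an entry up in a packed column `col : ℕ`
by `nxt mask col off = (col >>> off) &&& mask`; for the kernel this costs time proportional to the
size of the whole column.  Here a column is *defined* as the assembly `asmF S blk nb` of `nb` blocks
of `S` bits each (`blk : ℕ → ℕ`), and `nxt` of it is proved equal to `fnxt`, which only touches one
block (two if the entry straddles a block boundary).  All the boolean checkers get a version taking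
abstract lookup functions, with equality theorems, so that the `decide +kernel` range checks run on
the fast versions.
-/

set_option autoImplicit false

namespace Cfsg.Agent.Lib.Helper28_FastCol

open Cfsg.Agent.Lib.Helper28_CosetPerm Cfsg.Agent.Lib.Helper28_OrbitLB


/-- block accessor, zero beyond `nb` -/
def gb (blk : ℕ → ℕ) (nb j : ℕ) : ℕ := cond (Nat.blt j nb) (blk j) 0

/-- the assembled column -/
def asmF (S : ℕ) (blk : ℕ → ℕ) : ℕ → ℕ
  | 0 => 0
  | k + 1 => Nat.lor (asmF S blk k) (Nat.shiftLeft (blk k) (k * S))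

/-- fast lookup -/
def fnxt (S w mask : ℕ) (blk : ℕ → ℕ) (nb x : ℕ) : ℕ :=
  cond (Nat.ble (Nat.add (Nat.mod x S) w) S)
    (Nat.land (Nat.shiftRight (gb blk nb (Nat.div x S)) (Nat.mod x S)) mask)
    (Nat.land (Nat.lor (Nat.shiftRight (gb blk nb (Nat.div x S)) (Nat.mod x S))
        (Nat.shiftLeft (gb blk nb (Nat.succ (Nat.div x S))) (Nat.sub S (Nat.mod x S)))) mask)

theorem gb_lt (S : ℕ) (blk : ℕ → ℕ) (nb : ℕ) (hb : ∀ j < nb, blk j < 2 ^ S) (j : ℕ) :
    gb blk nb j < 2 ^ S := by
  unfold gb
  by_cases h : j < nb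
  · have : Nat.blt j nb = true := by simpa [Nat.blt_eq] using h
    rw [this]; exact hb j h
  · have : Nat.blt j nb = false := by
      rw [Bool.eq_false_iff]; intro h'; exact h (by simpa [Nat.blt_eq] using h')
    rw [this]; exact Nat.two_pow_pos S

theorem testBit_asmF (S : ℕ) (hS : 0 < S) (blk : ℕ → ℕ) (nb : ℕ)
    (hb : ∀ j < nb, blk j < 2 ^ S) (p : ℕ) :
    (asmF S blk nb).testBit p = (gb blk nb (p / S)).testBit (p % S) := by
  induction nb with
  | zero =>
    have h : Nat.blt (p / S) 0 = false := by
      rw [Bool.eq_false_iff]; intro h'; exact absurd ((Nat.blt_eq).mp h') (Nat.not_lt_zero _)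
    unfold gb
    rw [h]
    simp [asmF]
  | succ k ih =>
    have ih' := ih (fun j hj => hb j (Nat.lt_succ_of_lt hj))
    show (asmF S blk k ||| blk k <<< (k * S)).testBit p = _
    rw [Nat.testBit_lor, ih', Nat.testBit_shiftLeft]
    unfold gb
    rcases Nat.lt_trichotomy (p / S) k with h | h | h
    · have h1 : Nat.blt (p / S) k = true := by simpa [Nat.blt_eq] using h
      have h2 : Nat.blt (p / S) (k + 1) = true := by simpa [Nat.blt_eq] using Nat.lt_succ_of_lt h
      have h3 : ¬ (k * S ≤ p) := by
        intro hle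
        have := Nat.le_div_iff_mul_le hS |>.mpr hle
        omega
      rw [h1, h2]
      simp [h3]
    · have h1 : Nat.blt (p / S) k = false := by
        rw [Bool.eq_false_iff]; intro h'; have := (Nat.blt_eq).mp h'; omega
      have h2 : Nat.blt (p / S) (k + 1) = true := by simp [Nat.blt_eq]; omega
      have h3 : k * S ≤ p := by
        rw [← h]; exact Nat.div_mul_le_self p S
      have h4 : p - k * S = p % S := by
        have := Nat.div_add_mod p S
        rw [h] at this
        have h5 : S * k = k * S := Nat.mul_comm _ _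
        omega
      rw [h1, h2]
      simp [h3, h4, h]
    · have h1 : Nat.blt (p / S) k = false := by
        rw [Bool.eq_false_iff]; intro h'; have := (Nat.blt_eq).mp h'; omega
      have h2 : Nat.blt (p / S) (k + 1) = false := by
        rw [Bool.eq_false_iff]; intro h'; have := (Nat.blt_eq).mp h'; omega
      rw [h1, h2]
      have h3 : (blk k).testBit (p - k * S) = false := by
        apply Nat.testBit_lt_two_pow
        calc blk k < 2 ^ S := hb k (Nat.lt_succ_self k)
          _ ≤ 2 ^ (p - k * S) := by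
            apply Nat.pow_le_pow_right (by norm_num)
            have h5 : (k + 1) * S ≤ p := by
              have : k + 1 ≤ p / S := h
              calc (k + 1) * S ≤ (p / S) * S := Nat.mul_le_mul_right _ this
                _ ≤ p := Nat.div_mul_le_self p S
            have h6 : (k + 1) * S = k * S + S := by ring
            omega
      simp [h3]


theorem div_mod_add (S : ℕ) (hS : 0 < S) (x i : ℕ) (h : x % S + i < S) :
    (x + i) / S = x / S ∧ (x + i) % S = x % S + i := by
  have h1 := Nat.div_add_mod x S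
  have h2 : x + i = S * (x / S) + (x % S + i) := by omega
  constructor
  · rw [h2, Nat.mul_add_div hS, Nat.div_eq_of_lt h, Nat.add_zero]
  · rw [h2, Nat.mul_add_mod, Nat.mod_eq_of_lt h]

theorem div_mod_add' (S : ℕ) (hS : 0 < S) (x i : ℕ) (h : S ≤ x % S + i) (h' : x % S + i < 2 * S) :
    (x + i) / S = x / S + 1 ∧ (x + i) % S = x % S + i - S := by
  have h1 := Nat.div_add_mod x S
  have h2 : x + i = S * (x / S + 1) + (x % S + i - S) := by
    rw [Nat.mul_add, Nat.mul_one]; omega
  have h3 : x % S + i - S < S := by omega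
  constructor
  · rw [h2, Nat.mul_add_div hS, Nat.div_eq_of_lt h3, Nat.add_zero]
  · rw [h2, Nat.mul_add_mod, Nat.mod_eq_of_lt h3]

theorem nxt_asmF (S w : ℕ) (hS : 0 < S) (hw : w ≤ S) (blk : ℕ → ℕ) (nb : ℕ)
    (hb : ∀ j < nb, blk j < 2 ^ S) (x : ℕ) :
    nxt (2 ^ w - 1) (asmF S blk nb) x = fnxt S w (2 ^ w - 1) blk nb x := by
  have hr : x % S < S := Nat.mod_lt _ hS
  apply Nat.eq_of_testBit_eq
  intro i
  unfold nxt fnxt
  show ((asmF S blk nb >>> x) &&& (2 ^ w - 1)).testBit i = _
  rw [Nat.testBit_and, Nat.testBit_shiftRight, Nat.testBit_two_pow_sub_one,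
    testBit_asmF S hS blk nb hb]
  by_cases hc : x % S + w ≤ S
  · have hc' : Nat.ble (Nat.add (Nat.mod x S) w) S = true := by
      rw [Nat.ble_eq]; exact hc
    rw [hc']
    show _ = ((gb blk nb (x / S) >>> (x % S)) &&& (2 ^ w - 1)).testBit i
    rw [Nat.testBit_and, Nat.testBit_shiftRight, Nat.testBit_two_pow_sub_one]
    by_cases hi : i < w
    · obtain ⟨e1, e2⟩ := div_mod_add S hS x i (by omega)
      rw [e1, e2]
    · simp [hi]
  · have hc' : Nat.ble (Nat.add (Nat.mod x S) w) S = false := by
      rw [Bool.eq_false_iff]; intro h'; exact hc ((Nat.ble_eq).mp h')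
    rw [hc']
    show _ = (((gb blk nb (x / S) >>> (x % S)) ||| (gb blk nb (x / S + 1) <<< (S - x % S))) &&&
      (2 ^ w - 1)).testBit i
    rw [Nat.testBit_and, Nat.testBit_lor, Nat.testBit_shiftRight, Nat.testBit_shiftLeft,
      Nat.testBit_two_pow_sub_one]
    by_cases hi : i < w
    · by_cases hs : x % S + i < S
      · obtain ⟨e1, e2⟩ := div_mod_add S hS x i hs
        rw [e1, e2]
        have : ¬ (S - x % S ≤ i) := by omega
        simp [this]
      · obtain ⟨e1, e2⟩ := div_mod_add' S hS x i (by omega) (by omega)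
        rw [e1, e2]
        have h1 : (gb blk nb (x / S)).testBit (x % S + i) = false := by
          apply Nat.testBit_lt_two_pow
          calc gb blk nb (x / S) < 2 ^ S := gb_lt S blk nb hb _
            _ ≤ 2 ^ (x % S + i) := Nat.pow_le_pow_right (by norm_num) (by omega)
        have h2 : S - x % S ≤ i := by omega
        have h3 : i - (S - x % S) = x % S + i - S := by omega
        simp [h1, h2, h3]
    · simp [hi]


/-! ### checkers over abstract lookup functions -/

variable {α : Type}

/-- walk with an abstract lookup function -/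
def walkF (nx : α → Bool → ℕ → ℕ) : List (α × Bool) → ℕ → ℕ
  | [], x => x
  | (a, b) :: ls, x => walkF nx ls (nx a b x)

theorem walk_eq (mask : ℕ) (col : α → Bool → ℕ) (nx : α → Bool → ℕ → ℕ)
    (hc : ∀ a b x, nxt mask (col a b) x = nx a b x) (u : List (α × Bool)) (x : ℕ) :
    walk mask col u x = walkF nx u x := by
  induction u generalizing x with
  | nil => rfl
  | cons l ls ih =>
    obtain ⟨a, b⟩ := l
    simp only [walk, walkF, hc]
    exact ih _

def vchkF (nw w : ℕ) (nx : α → Bool → ℕ → ℕ) (a : α) (b : Bool) (x : ℕ) : Bool :=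
  and (Nat.beq (Nat.mod (nx a b x) w) 0)
    (and (Nat.blt (nx a b x) nw) (Nat.beq (nx a (!b) (nx a b x)) x))

def vchksF (nw w : ℕ) (nx : α → Bool → ℕ → ℕ) : List (α × Bool) → ℕ → Bool
  | [], _ => true
  | (a, b) :: ls, x => and (vchkF nw w nx a b x) (vchksF nw w nx ls x)

def cchkF (nx : α → Bool → ℕ → ℕ) : List (α × Bool) → ℕ → Bool
  | [], _ => false
  | (a, b) :: ls, x => or (Nat.blt (nx a b x) x) (cchkF nx ls x)

def rchkF (nx : α → Bool → ℕ → ℕ) : List (List (α × Bool)) → ℕ → Bool
  | [], _ => true
  | u :: us, x => and (Nat.beq (walkF nx u x) x) (rchkF nx us x)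

def pchkF (nw w : ℕ) (nx : α → Bool → ℕ → ℕ) (letters : List (α × Bool))
    (words : List (List (α × Bool))) (x : ℕ) : Bool :=
  and (vchksF nw w nx letters x)
    (and (rchkF nx words x) (or (Nat.beq x 0) (cchkF nx letters x)))

theorem pchk_eq (nw w mask : ℕ) (col : α → Bool → ℕ) (nx : α → Bool → ℕ → ℕ)
    (hc : ∀ a b x, nxt mask (col a b) x = nx a b x) (letters : List (α × Bool))
    (words : List (List (α × Bool))) (x : ℕ) :
    pchk nw w mask col letters words x = pchkF nw w nx letters words x := by
  have h1 : ∀ ls : List (α × Bool), vchks nw w mask col ls x = vchksF nw w nx ls x := by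
    intro ls
    induction ls with
    | nil => rfl
    | cons l ls ih =>
      obtain ⟨a, b⟩ := l
      simp only [vchks, vchksF, vchk, vchkF, hc, ih]
  have h2 : ∀ us : List (List (α × Bool)), rchk mask col us x = rchkF nx us x := by
    intro us
    induction us with
    | nil => rfl
    | cons u us ih =>
      simp only [rchk, rchkF, walk_eq mask col nx hc, ih]
  have h3 : ∀ ls : List (α × Bool), cchk mask col ls x = cchkF nx ls x := by
    intro ls
    induction ls with
    | nil => rfl
    | cons l ls ih =>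
      obtain ⟨a, b⟩ := l
      simp only [cchk, cchkF, hc, ih]
  unfold pchk pchkF
  rw [h1, h2, h3]

/-- label descent with abstract lookups -/
def ldescF (nx : α → Bool → ℕ → ℕ) (lb : ℕ → ℕ) : List (α × Bool) → ℕ → Bool
  | [], _ => false
  | (a, b) :: ls, x =>
    or (and (Nat.blt 0 (lb (nx a b x))) (Nat.blt (lb (nx a b x)) (lb x))) (ldescF nx lb ls x)

def lchkF (nx : α → Bool → ℕ → ℕ) (lb : ℕ → ℕ) (base : ℕ) (ls : List (α × Bool)) (x : ℕ) : Bool :=
  or (Nat.beq (lb x) 0) (or (Nat.beq x base) (ldescF nx lb ls x))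

theorem lchk_eq (mask : ℕ) (col : α → Bool → ℕ) (nx : α → Bool → ℕ → ℕ)
    (hc : ∀ a b x, nxt mask (col a b) x = nx a b x) (lab : ℕ) (lb : ℕ → ℕ)
    (hl : ∀ x, nxt mask lab x = lb x) (base : ℕ) (ls : List (α × Bool)) (x : ℕ) :
    lchk mask col lab base ls x = lchkF nx lb base ls x := by
  have h1 : ∀ ls : List (α × Bool), ldesc mask col lab ls x = ldescF nx lb ls x := by
    intro ls
    induction ls with
    | nil => rfl
    | cons l ls ih =>
      obtain ⟨a, b⟩ := l
      simp only [ldesc, ldescF, hc, hl, ih]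
  unfold lchk lchkF
  rw [h1, hl]

def oclosedF (nx : α → Bool → ℕ → ℕ) (oi : ℕ → ℕ) : List (List (α × Bool)) → ℕ → Bool
  | [], _ => true
  | u :: us, x => and (Nat.beq (oi (walkF nx u x)) (oi x)) (oclosedF nx oi us x)

def odescF (nx : α → Bool → ℕ → ℕ) (rk : ℕ → ℕ) : List (List (α × Bool)) → ℕ → Bool
  | [], _ => false
  | u :: us, x => or (Nat.blt (rk (walkF nx u x)) (rk x)) (odescF nx rk us x)

def ochkF (nx : α → Bool → ℕ → ℕ) (oi rk : ℕ → ℕ) (bases : List ℕ)
    (cl : List (List (α × Bool))) (x : ℕ) : Bool :=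
  and (oclosedF nx oi cl x)
    (or (and (Nat.beq (rk x) 0) (Nat.beq x (bases.getD (oi x) 0))) (odescF nx rk cl x))

theorem ochk_eq (mask : ℕ) (col : α → Bool → ℕ) (nx : α → Bool → ℕ → ℕ)
    (hc : ∀ a b x, nxt mask (col a b) x = nx a b x) (oid rnk : ℕ) (oi rk : ℕ → ℕ)
    (ho : ∀ x, nxt mask oid x = oi x) (hr : ∀ x, nxt mask rnk x = rk x) (bases : List ℕ)
    (cl : List (List (α × Bool))) (x : ℕ) :
    ochk mask col oid rnk bases cl x = ochkF nx oi rk bases cl x := by
  have h1 : ∀ us : List (List (α × Bool)), oclosed mask col oid us x = oclosedF nx oi us x := by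
    intro us
    induction us with
    | nil => rfl
    | cons u us ih =>
      simp only [oclosed, oclosedF, walk_eq mask col nx hc, ho, ih]
  have h2 : ∀ us : List (List (α × Bool)), odesc mask col rnk us x = odescF nx rk us x := by
    intro us
    induction us with
    | nil => rfl
    | cons u us ih =>
      simp only [odesc, odescF, walk_eq mask col nx hc, hr, ih]
  unfold ochk ochkF
  rw [h1, h2, ho, hr]

/-- the block bound check -/
def blkLt (S : ℕ) (blk : ℕ → ℕ) : ℕ → Bool
  | 0 => true
  | k + 1 => and (Nat.blt (blk k) (Nat.pow 2 S)) (blkLt S blk k)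

theorem lt_of_blkLt (S : ℕ) (blk : ℕ → ℕ) (nb : ℕ) (h : blkLt S blk nb = true) :
    ∀ j < nb, blk j < 2 ^ S := by
  induction nb with
  | zero => intro j hj; exact absurd hj (Nat.not_lt_zero _)
  | succ k ih =>
    simp only [blkLt, Bool.and_eq_true] at h
    intro j hj
    rcases Nat.lt_succ_iff_lt_or_eq.mp hj with hj | rfl
    · exact ih h.2 j hj
    · exact (Nat.blt_eq).mp h.1

end Cfsg.Agent.Lib.Helper28_FastCol
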