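import Cfsg.Agent.Lib.Helper28_S1685

set_option autoImplicit false
set_option linter.constructorNameAsVariable false
set_option Elab.async false

namespace Cfsg.Agent.Lib.Helper28_Fi22Fix

open Cfsg.Spor Cfsg.Agent.Lib.Helper28_CosetPerm

def ls : List Cfsg.Spor.Fi22.Gen := [.b, .c, .d, .e, .f, .g, .h, .i]

/-- some letter moves the offset `x` -/
def moved : List Cfsg.Spor.Fi22.Gen → ℕ → Bool
  | [], _ => false
  | a :: l, x => or (not (Nat.beq (nxt 262143 (Cfsg.Agent.Lib.Helper28_S1685.col a true) x) x)) (moved l x)

theorem moved_spec (l : List Cfsg.Spor.Fi22.Gen) (x : ℕ) (h : moved l x = true) : ∃ a ∈ l, nxt 262143 (Cfsg.Agent.Lib.Helper28_S1685.col a true) x ≠ x := by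
  induction l with
  | nil => simp [moved] at h
  | cons a l ih =>
    simp only [moved, Bool.or_eq_true, Bool.not_eq_true'] at h
    rcases h with h | h
    · refine ⟨a, List.mem_cons_self, ?_⟩
      intro he
      rw [he, Nat.beq_refl] at h
      exact Bool.noConfusion h
    · obtain ⟨b, hb, hne⟩ := ih h
      exact ⟨b, List.mem_cons_of_mem _ hb, hne⟩

def chk (x : ℕ) : Bool := or (Nat.beq x 0) (moved ls x)

theorem r0 : allRange chk 18 0 1052 = true := by decide +kernel
theorem u0 : ∀ k, 0 ≤ k → k < 1052 → chk (k * 18) = true := between_extend chk 18 0 0 1052 (between_start chk 18 0) r0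

theorem r1 : allRange chk 18 1052 1052 = true := by decide +kernel
theorem u1 : ∀ k, 0 ≤ k → k < 2104 → chk (k * 18) = true := between_extend chk 18 0 1052 1052 (u0) r1

theorem r2 : allRange chk 18 2104 1052 = true := by decide +kernel
theorem u2 : ∀ k, 0 ≤ k → k < 3156 → chk (k * 18) = true := between_extend chk 18 0 2104 1052 (u1) r2

theorem r3 : allRange chk 18 3156 1052 = true := by decide +kernel
theorem u3 : ∀ k, 0 ≤ k → k < 4208 → chk (k * 18) = true := between_extend chk 18 0 3156 1052 (u2) r3

theorem r4 : allRange chk 18 4208 1052 = true := by decide +kernel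
theorem u4 : ∀ k, 0 ≤ k → k < 5260 → chk (k * 18) = true := between_extend chk 18 0 4208 1052 (u3) r4

theorem r5 : allRange chk 18 5260 1052 = true := by decide +kernel
theorem u5 : ∀ k, 0 ≤ k → k < 6312 → chk (k * 18) = true := between_extend chk 18 0 5260 1052 (u4) r5

theorem r6 : allRange chk 18 6312 1052 = true := by decide +kernel
theorem u6 : ∀ k, 0 ≤ k → k < 7364 → chk (k * 18) = true := between_extend chk 18 0 6312 1052 (u5) r6

theorem r7 : allRange chk 18 7364 1052 = true := by decide +kernel
theorem u7 : ∀ k, 0 ≤ k → k < 8416 → chk (k * 18) = true := between_extend chk 18 0 7364 1052 (u6) r7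

theorem r8 : allRange chk 18 8416 1052 = true := by decide +kernel
theorem u8 : ∀ k, 0 ≤ k → k < 9468 → chk (k * 18) = true := between_extend chk 18 0 8416 1052 (u7) r8

theorem r9 : allRange chk 18 9468 1052 = true := by decide +kernel
theorem u9 : ∀ k, 0 ≤ k → k < 10520 → chk (k * 18) = true := between_extend chk 18 0 9468 1052 (u8) r9

theorem r10 : allRange chk 18 10520 1052 = true := by decide +kernel
theorem u10 : ∀ k, 0 ≤ k → k < 11572 → chk (k * 18) = true := between_extend chk 18 0 10520 1052 (u9) r10

theorem r11 : allRange chk 18 11572 1052 = true := by decide +kernel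
theorem u11 : ∀ k, 0 ≤ k → k < 12624 → chk (k * 18) = true := between_extend chk 18 0 11572 1052 (u10) r11

theorem r12 : allRange chk 18 12624 1052 = true := by decide +kernel
theorem u12 : ∀ k, 0 ≤ k → k < 13676 → chk (k * 18) = true := between_extend chk 18 0 12624 1052 (u11) r12

theorem r13 : allRange chk 18 13676 404 = true := by decide +kernel
theorem u13 : ∀ k, 0 ≤ k → k < 14080 → chk (k * 18) = true := between_extend chk 18 0 13676 404 (u12) r13

/-- `0` is the only point fixed by all the letters -/
theorem unique_fixed : ∀ k < 14080, (∀ a ∈ ls, nxt 262143 (Cfsg.Agent.Lib.Helper28_S1685.col a true) (k * 18) = k * 18) → k = 0 := by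
  intro k hk hfix
  have h := between_all chk 18 14080 u13 k hk
  unfold chk at h
  rw [Bool.or_eq_true] at h
  rcases h with h | h
  · have := Nat.eq_of_beq_eq_true h
    rcases Nat.eq_zero_or_pos k with h0 | h0
    · exact h0
    · exact absurd this (Nat.ne_of_gt (Nat.mul_pos h0 (by norm_num)))
  · obtain ⟨a, ha, hne⟩ := moved_spec ls _ h
    exact absurd (hfix a ha) hne

end Cfsg.Agent.Lib.Helper28_Fi22Fix
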