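import Cfsg.Agent.Lib.Helper28_CosetPerm

/-!
# Lower bounds for the order of a presented group from orbits in verified coset tables
(helper28)

One step: `L ≤ K` subgroups of `G`, `L` fixes the point `x` of a `G`-set, and the `K`-orbit of
`x` has at least `m` points; then `m * |L| ≤ |K|`.  Everything is stated for the subgroups
`K ⊔ Z`, where `Z` acts trivially, so that the chain of steps bounds `|G| / |Z|` from below and
gives faithfulness once `|G|` is known.
-/

set_option autoImplicit false
set_option linter.unusedSectionVars false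
set_option linter.unusedVariables false

namespace Cfsg.Agent.Lib.Helper28_OrbitLB

open Cfsg.Agent.Lib.Helper28_CosetPerm

section Abstract

/-- The abstract step. -/
theorem card_step {G : Type*} [Group G] [Finite G] {n : ℕ} (ρ : G →* Equiv.Perm (Fin n))
    (K L : Subgroup G) (hLK : L ≤ K) (x : Fin n) (hL : ∀ g ∈ L, ρ g x = x)
    (O : Finset (Fin n)) (hO : ∀ y ∈ O, ∃ g ∈ K, ρ g x = y) :
    O.card * Nat.card L ≤ Nat.card K := by
  classical
  let _ : MulAction K (Fin n) := MulAction.compHom (Fin n) (ρ.comp K.subtype)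
  have hsm : ∀ (k : K) (y : Fin n), k • y = ρ (k : G) y := fun _ _ => rfl
  have h1 : Nat.card (MulAction.stabilizer K x) * (MulAction.orbit K x).ncard = Nat.card K := by
    rw [← MulAction.index_stabilizer]
    exact (MulAction.stabilizer K x).card_mul_index
  have h2 : O.card ≤ (MulAction.orbit K x).ncard := by
    have hsub : (O : Set (Fin n)) ⊆ MulAction.orbit K x := by
      intro y hy
      obtain ⟨g, hg, hgy⟩ := hO y hy
      exact ⟨⟨g, hg⟩, hgy⟩
    have := Set.ncard_le_ncard hsub (Set.toFinite _)
    rwa [Set.ncard_coe_finset] at this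
  have h3 : Nat.card L ≤ Nat.card (MulAction.stabilizer K x) := by
    have hle : L.subgroupOf K ≤ MulAction.stabilizer K x := by
      intro k hk
      rw [MulAction.mem_stabilizer_iff, hsm]
      exact hL k hk
    have e : Nat.card (L.subgroupOf K) = Nat.card L :=
      Nat.card_congr (Subgroup.subgroupOfEquivOfLe hLK).toEquiv
    rw [← e]
    exact Nat.card_le_card_of_injective (Subgroup.inclusion hle) (Subgroup.inclusion_injective hle)
  rw [← h1, Nat.mul_comm]
  exact Nat.mul_le_mul h3 h2

/-- The step with a subgroup `Z` acting trivially adjoined. -/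
theorem card_step_sup {G : Type*} [Group G] [Finite G] {n : ℕ} (ρ : G →* Equiv.Perm (Fin n))
    (K L Z : Subgroup G) (hZ : ∀ z ∈ Z, ρ z = 1) (hLK : L ≤ K) (x : Fin n)
    (hL : ∀ g ∈ L, ρ g x = x)
    (O : Finset (Fin n)) (hO : ∀ y ∈ O, ∃ g ∈ K, ρ g x = y) :
    O.card * Nat.card (L ⊔ Z : Subgroup G) ≤ Nat.card (K ⊔ Z : Subgroup G) := by
  apply card_step ρ (K ⊔ Z) (L ⊔ Z) (sup_le_sup_right hLK Z) x
  · have hle : L ⊔ Z ≤ (MulAction.stabilizer (Equiv.Perm (Fin n)) x).comap ρ := by
      apply sup_le
      · intro g hg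
        rw [Subgroup.mem_comap, MulAction.mem_stabilizer_iff]
        exact hL g hg
      · intro z hz
        rw [Subgroup.mem_comap, MulAction.mem_stabilizer_iff, hZ z hz]
        rfl
    intro g hg
    have := hle hg
    rwa [Subgroup.mem_comap, MulAction.mem_stabilizer_iff] at this
  · intro y hy
    obtain ⟨g, hg, hgy⟩ := hO y hy
    exact ⟨g, Subgroup.mem_sup_left hg, hgy⟩

end Abstract

section Table

variable {α : Type} {n w mask : ℕ} {col : α → Bool → ℕ} [NeZero n]

/-- Some letter of the list leads to a point of the orbit with smaller (nonzero) label. -/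
def ldesc (mask : ℕ) (col : α → Bool → ℕ) (lab : ℕ) : List (α × Bool) → ℕ → Bool
  | [], _ => false
  | (a, b) :: ls, x =>
    or (and (Nat.blt 0 (nxt mask lab (nxt mask (col a b) x)))
        (Nat.blt (nxt mask lab (nxt mask (col a b) x)) (nxt mask lab x)))
      (ldesc mask col lab ls x)

/-- The orbit lower bound check at the offset `x`: the label is `0` (not claimed to be in the
orbit), or `x` is the base point, or some letter decreases the label within the orbit. -/
def lchk (mask : ℕ) (col : α → Bool → ℕ) (lab base : ℕ) (ls : List (α × Bool)) (x : ℕ) : Bool :=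
  or (Nat.beq (nxt mask lab x) 0) (or (Nat.beq x base) (ldesc mask col lab ls x))

theorem ldesc_spec (lab : ℕ) (ls : List (α × Bool)) (x : ℕ)
    (h : ldesc mask col lab ls x = true) :
    ∃ l ∈ ls, 0 < nxt mask lab (nxt mask (col l.1 l.2) x) ∧
      nxt mask lab (nxt mask (col l.1 l.2) x) < nxt mask lab x := by
  induction ls with
  | nil => simp [ldesc] at h
  | cons v vs ih =>
    obtain ⟨a, b⟩ := v
    simp only [ldesc, Bool.or_eq_true, Bool.and_eq_true, Nat.blt_eq] at h
    rcases h with h | h
    · exact ⟨(a, b), List.mem_cons_self, h.1, h.2⟩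
    · obtain ⟨l, hl, h1⟩ := ih h
      exact ⟨l, List.mem_cons_of_mem _ hl, h1⟩

theorem lift_fix_of_walk (hv : Valid n w mask col) (u : List (α × Bool)) (x : Fin n)
    (h : walk mask col u (x * w) = x * w) :
    FreeGroup.lift (perm hv) (FreeGroup.mk u) x = x := by
  obtain ⟨k', h1, h2⟩ := walk_spec hv u x
  rw [h] at h1
  have : (x : ℕ) = k' := Nat.eq_of_mul_eq_mul_right hv.1 h1
  have hk : k' = x := Fin.ext this.symm
  rw [hk] at h2
  exact h2

/-- The points with nonzero label. -/
def labSet (n w mask lab : ℕ) : Finset (Fin n) :=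
  Finset.univ.filter (fun k : Fin n => nxt mask lab (k * w) ≠ 0)

theorem card_labSet (n w mask lab : ℕ) :
    (labSet n w mask lab).card =
      cntB (fun k => Nat.blt 0 (nxt mask lab (Nat.mul k w))) n := by
  rw [← card_filter_range_eq_cntB]
  unfold labSet
  rw [card_filter_fin n (fun k => nxt mask lab (k * w) ≠ 0)]
  congr 1
  ext k
  simp only [Finset.mem_filter, Finset.mem_range, and_congr_right_iff]
  intro _
  rw [show Nat.mul k w = k * w from rfl, Nat.blt_eq]
  exact Nat.pos_iff_ne_zero.symm

/-- Reachability of all labelled points from the base point by words in the letters `ls`. -/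
theorem reach_of_lchk (hv : Valid n w mask col) (lab : ℕ) (base : Fin n) (ls : List (α × Bool))
    (hchk : ∀ k < n, lchk mask col lab (base * w) ls (k * w) = true) :
    ∀ y ∈ labSet n w mask lab,
      ∃ g ∈ Subgroup.closure {s : FreeGroup α | ∃ l ∈ ls, s = FreeGroup.of l.1},
        FreeGroup.lift (perm hv) g base = y := by
  intro y hy
  simp only [labSet, Finset.mem_filter, Finset.mem_univ, true_and] at hy
  generalize hr : nxt mask lab (y * w) = r
  induction r using Nat.strong_induction_on generalizing y with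
  | _ r ih =>
    have h := hchk y y.2
    simp only [lchk, Bool.or_eq_true] at h
    rcases h with h0 | hb | hd
    · exact absurd (Nat.eq_of_beq_eq_true h0) hy
    · have hb' := Nat.eq_of_beq_eq_true hb
      have : y = base := Fin.ext (Nat.eq_of_mul_eq_mul_right hv.1 hb')
      exact ⟨1, Subgroup.one_mem _, by rw [this]; simp⟩
    · obtain ⟨l, hl, hpos, hlt⟩ := ldesc_spec lab ls _ hd
      obtain ⟨a, b⟩ := l
      have hw : nxt mask (col a b) (y * w) = walk mask col [(a, b)] (y * w) := rfl
      rw [hw, walk_fin hv [(a, b)] y] at hpos hlt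
      rw [hr] at hlt
      set y' : Fin n := (FreeGroup.lift (perm hv) (FreeGroup.mk [(a, b)]))⁻¹ y with hy'
      obtain ⟨g, hg, hgy⟩ := ih _ hlt y' (Nat.pos_iff_ne_zero.mp hpos) rfl
      refine ⟨FreeGroup.mk [(a, b)] * g, Subgroup.mul_mem _ ?_ hg, ?_⟩
      · cases b with
        | true => exact Subgroup.subset_closure ⟨(a, true), hl, rfl⟩
        | false =>
          have : (FreeGroup.mk [(a, false)] : FreeGroup α) = (FreeGroup.of a)⁻¹ := rfl
          rw [this]
          exact Subgroup.inv_mem _ (Subgroup.subset_closure ⟨(a, false), hl, rfl⟩)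
      · rw [map_mul, Equiv.Perm.mul_apply, hgy, hy', Equiv.Perm.inv_def,
          Equiv.apply_symm_apply]

end Table

section Main

variable {α : Type} {n w mask : ℕ} {col : α → Bool → ℕ} [NeZero n]
variable {rels : Set (FreeGroup α)} {S : Set (FreeGroup α)}

/-- The subgroup of the presented group generated by a list of generators. -/
def SG (rels : Set (FreeGroup α)) (l : List α) : Subgroup (PresentedGroup rels) :=
  Subgroup.closure {x | ∃ a ∈ l, x = PresentedGroup.of a}

theorem SG_mono (rels : Set (FreeGroup α)) {l l' : List α} (h : ∀ a ∈ l, a ∈ l') :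
    SG rels l ≤ SG rels l' := by
  apply Subgroup.closure_mono
  rintro x ⟨a, ha, rfl⟩
  exact ⟨a, h a ha, rfl⟩

theorem SG_nil (rels : Set (FreeGroup α)) : SG rels [] = ⊥ := by
  unfold SG
  rw [Subgroup.closure_eq_bot_iff]
  rintro x ⟨a, ha, rfl⟩
  simp at ha

theorem SG_top (rels : Set (FreeGroup α)) (l : List α) (h : ∀ a, a ∈ l) : SG rels l = ⊤ := by
  rw [eq_top_iff, ← PresentedGroup.closure_range_of rels]
  apply Subgroup.closure_mono
  rintro _ ⟨a, rfl⟩
  exact ⟨a, h a, rfl⟩

/-- One verified step of the lower bound chain, in a verified table. -/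
theorem Verified.step [Finite (PresentedGroup rels)] (V : Verified n w mask col rels S)
    (Z : Subgroup (PresentedGroup rels)) (hZ : ∀ z ∈ Z, psi (perm V.hv) V.hrel z = 1)
    (lK lL : List α) (hLK : ∀ a ∈ lL, a ∈ lK)
    (lab : ℕ) (base : Fin n) (ls : List (α × Bool)) (hls : ∀ l ∈ ls, l.1 ∈ lK)
    (hfix : ∀ a ∈ lL, walk mask col [(a, true)] (base * w) = base * w)
    (hchk : ∀ k < n, lchk mask col lab (base * w) ls (k * w) = true)
    (m : ℕ) (hm : cntB (fun k => Nat.blt 0 (nxt mask lab (Nat.mul k w))) n = m) :
    m * Nat.card (SG rels lL ⊔ Z : Subgroup (PresentedGroup rels)) ≤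
      Nat.card (SG rels lK ⊔ Z : Subgroup (PresentedGroup rels)) := by
  have hv := V.hv
  rw [← hm, ← card_labSet]
  apply card_step_sup (psi (perm hv) V.hrel) (SG rels lK) (SG rels lL) Z hZ
    (SG_mono rels hLK) base
  · have hle : SG rels lL ≤
        (MulAction.stabilizer (Equiv.Perm (Fin n)) base).comap (psi (perm hv) V.hrel) := by
      unfold SG
      rw [Subgroup.closure_le]
      rintro x ⟨a, ha, rfl⟩
      show psi (perm hv) V.hrel (PresentedGroup.of a) ∈
        MulAction.stabilizer (Equiv.Perm (Fin n)) base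
      rw [MulAction.mem_stabilizer_iff]
      have := lift_fix_of_walk hv [(a, true)] base (hfix a ha)
      have e : (FreeGroup.mk [(a, true)] : FreeGroup α) = FreeGroup.of a := rfl
      rw [e] at this
      exact this
    intro g hg
    have := hle hg
    rwa [Subgroup.mem_comap, MulAction.mem_stabilizer_iff] at this
  · intro y hy
    obtain ⟨g, hg, hgy⟩ := reach_of_lchk hv lab base ls hchk y hy
    refine ⟨PresentedGroup.mk rels g, ?_, ?_⟩
    · have hle : Subgroup.closure {s : FreeGroup α | ∃ l ∈ ls, s = FreeGroup.of l.1} ≤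
          (SG rels lK).comap (PresentedGroup.mk rels) := by
        rw [Subgroup.closure_le]
        rintro s ⟨l, hl, rfl⟩
        exact Subgroup.subset_closure ⟨l.1, hls l hl, rfl⟩
      exact hle hg
    · rw [psi_mk]; exact hgy

end Main

end Cfsg.Agent.Lib.Helper28_OrbitLB
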