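import Cfsg.Agent.Lib.Helper28_S1687
import Cfsg.Agent.Lib.Helper28_OrbitLB

set_option autoImplicit false
set_option linter.constructorNameAsVariable false
set_option Elab.async false

namespace Cfsg.Agent.Lib.Helper28_Fi22LB5

open Cfsg.Spor Cfsg.Agent.Lib.Helper28_CosetPerm Cfsg.Agent.Lib.Helper28_OrbitLB Cfsg.Agent.Lib.Helper28_S1687 Cfsg.Agent.Lib.Helper28_S1687Tab

def lab : Nat := 0x200000000000000000000000000000000000000000000000000000000000000000000000000000000000000000000000000000001000000000000000000000000000000000000000000000000000000000000000000000000000000000000000000000000000000000000000000000000000000000000000000000000000000000000000000000000000000000000000000000000000000000000000000000000000000000000000000000000000000000000000000000000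

def ls : List (Cfsg.Spor.Fi22.Gen × Bool) := [(.e, true), (.f, true), (.g, true), (.h, true)]

def chk (x : ℕ) : Bool := lchk 65535 col lab 1056 ls x

theorem r0 : allRange chk 16 0 3510 = true := by decide +kernel
theorem u0 : ∀ k, 0 ≤ k → k < 3510 → chk (k * 16) = true := between_extend chk 16 0 0 3510 (between_start chk 16 0) r0

theorem chk_all : ∀ k < 3510, lchk 65535 col lab 1056 ls (k * 16) = true := between_all chk 16 3510 u0

theorem cnt : cntB (fun k => Nat.blt 0 (nxt 65535 lab (Nat.mul k 16))) 3510 = 2 := by decide +kernel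

theorem fix : ∀ a ∈ ([.e, .f, .g] : List Cfsg.Spor.Fi22.Gen), walk 65535 col [(a, true)] (66 * 16) = 66 * 16 := by decide +kernel

theorem step [Finite (PresentedGroup (Cfsg.Spor.coxRelators Cfsg.Spor.Fi22.edges ∪ {r | r ∈ Cfsg.Spor.Fi22.extra}))] (Z : Subgroup (PresentedGroup (Cfsg.Spor.coxRelators Cfsg.Spor.Fi22.edges ∪ {r | r ∈ Cfsg.Spor.Fi22.extra}))) (hZ : ∀ z ∈ Z, psi (perm Cfsg.Agent.Lib.Helper28_S1687.verified.hv) Cfsg.Agent.Lib.Helper28_S1687.verified.hrel z = 1) :
    2 * Nat.card (SG (Cfsg.Spor.coxRelators Cfsg.Spor.Fi22.edges ∪ {r | r ∈ Cfsg.Spor.Fi22.extra}) [.e, .f, .g] ⊔ Z : Subgroup (PresentedGroup (Cfsg.Spor.coxRelators Cfsg.Spor.Fi22.edges ∪ {r | r ∈ Cfsg.Spor.Fi22.extra}))) ≤ Nat.card (SG (Cfsg.Spor.coxRelators Cfsg.Spor.Fi22.edges ∪ {r | r ∈ Cfsg.Spor.Fi22.extra}) [.e, .f, .g, .h] ⊔ Z : Subgroup (PresentedGroup (Cfsg.Spor.coxRelators Cfsg.Spor.Fi22.edges ∪ {r | r ∈ Cfsg.Spor.Fi22.extra}))) :=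
  Verified.step Cfsg.Agent.Lib.Helper28_S1687.verified Z hZ [.e, .f, .g, .h] [.e, .f, .g] (by decide) lab (⟨66, by norm_num⟩ : Fin 3510) ls (by decide) fix chk_all 2 cnt

end Cfsg.Agent.Lib.Helper28_Fi22LB5
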