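import Cfsg.Agent.Lib.Helper28_Fi22OrderU
import Cfsg.Agent.Lib.Helper28_Fi22LB0
import Cfsg.Agent.Lib.Helper28_Fi22LB1
import Cfsg.Agent.Lib.Helper28_Fi22LB2
import Cfsg.Agent.Lib.Helper28_Fi22LB3
import Cfsg.Agent.Lib.Helper28_Fi22LB4
import Cfsg.Agent.Lib.Helper28_Fi22LB5
import Cfsg.Agent.Lib.Helper28_Fi22LB6
import Cfsg.Agent.Lib.Helper28_Fi22LB7
import Cfsg.Agent.Lib.Helper28_Fi22LB8

/-!
# The order of the presented Fischer group `Fi22`, and faithfulness of its two coset actions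
(helper28)
-/

set_option autoImplicit false

namespace Cfsg.Agent.Lib.Helper28_Fi22Order

open Cfsg.Spor Cfsg.Agent.Lib.Helper28_CosetPerm Cfsg.Agent.Lib.Helper28_OrbitLB

/-- the relators -/
abbrev RELS : Set (FreeGroup Cfsg.Spor.Fi22.Gen) :=
  Cfsg.Spor.coxRelators Cfsg.Spor.Fi22.edges ∪ {r | r ∈ Cfsg.Spor.Fi22.extra}

instance finiteFi22 : Finite (PresentedGroup RELS) := card_le.1

/-- the action on the 3510 cosets of `2.U6(2)` -/
noncomputable def rhoX : PresentedGroup RELS →* Equiv.Perm (Fin 3510) :=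
  psi (perm Cfsg.Agent.Lib.Helper28_S1687.verified.hv) Cfsg.Agent.Lib.Helper28_S1687.verified.hrel

/-- the action on the 14080 cosets of `O7(3)` -/
noncomputable def rhoY : PresentedGroup RELS →* Equiv.Perm (Fin 14080) :=
  psi (perm Cfsg.Agent.Lib.Helper28_S1685.verified.hv) Cfsg.Agent.Lib.Helper28_S1685.verified.hrel

/-- the common kernel -/
noncomputable def Z : Subgroup (PresentedGroup RELS) := rhoX.ker ⊓ rhoY.ker

theorem hZX : ∀ z ∈ Z, rhoX z = 1 := fun _ hz => MonoidHom.mem_ker.mp hz.1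
theorem hZY : ∀ z ∈ Z, rhoY z = 1 := fun _ hz => MonoidHom.mem_ker.mp hz.2

theorem chain : 64561751654400 * Nat.card Z ≤ Nat.card (PresentedGroup RELS) := by
  have h0 := Cfsg.Agent.Lib.Helper28_Fi22LB0.step Z hZY
  have h1 := Cfsg.Agent.Lib.Helper28_Fi22LB1.step Z hZX
  have h2 := Cfsg.Agent.Lib.Helper28_Fi22LB2.step Z hZX
  have h3 := Cfsg.Agent.Lib.Helper28_Fi22LB3.step Z hZX
  have h4 := Cfsg.Agent.Lib.Helper28_Fi22LB4.step Z hZX
  have h5 := Cfsg.Agent.Lib.Helper28_Fi22LB5.step Z hZX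
  have h6 := Cfsg.Agent.Lib.Helper28_Fi22LB6.step Z hZX
  have h7 := Cfsg.Agent.Lib.Helper28_Fi22LB7.step Z hZX
  have h8 := Cfsg.Agent.Lib.Helper28_Fi22LB8.step Z hZX
  have c7 := le_trans (Nat.mul_le_mul_left 3 h8) h7
  have c6 := le_trans (Nat.mul_le_mul_left 4 c7) h6
  have c5 := le_trans (Nat.mul_le_mul_left 2 c6) h5
  have c4 := le_trans (Nat.mul_le_mul_left 3 c5) h4
  have c3 := le_trans (Nat.mul_le_mul_left 35 c4) h3
  have c2 := le_trans (Nat.mul_le_mul_left 288 c3) h2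
  have c1 := le_trans (Nat.mul_le_mul_left 3159 c2) h1
  have c0 := le_trans (Nat.mul_le_mul_left 14080 c1) h0
  have htop : SG RELS [.a, .b, .c, .d, .e, .f, .g, .h, .i] = ⊤ :=
    SG_top RELS _ (by intro x; cases x <;> decide)
  rw [htop, top_sup_eq, Subgroup.card_top, SG_nil, bot_sup_eq] at c0
  calc 64561751654400 * Nat.card Z
      = 14080 * (3159 * (288 * (35 * (3 * (2 * (4 * (3 * (2 * Nat.card Z)))))))) := by ring
    _ ≤ _ := c0

/-- the order -/
theorem card_eq : Nat.card (PresentedGroup RELS) = 64561751654400 := by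
  have h1 := chain
  have h2 := card_le.2
  have hZ : 1 ≤ Nat.card Z := Nat.card_pos
  apply le_antisymm h2
  calc 64561751654400 = 64561751654400 * 1 := by norm_num
    _ ≤ 64561751654400 * Nat.card Z := Nat.mul_le_mul_left _ hZ
    _ ≤ _ := h1

/-- faithfulness: an element acting trivially on both coset spaces is trivial -/
theorem Z_eq_bot : Z = ⊥ := by
  have h1 := chain
  have h2 := card_le.2
  have h3 : 64561751654400 * Nat.card Z ≤ 64561751654400 * 1 := by
    rw [Nat.mul_one]; exact le_trans h1 h2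
  have h4 : Nat.card Z ≤ 1 := Nat.le_of_mul_le_mul_left h3 (by norm_num)
  exact Z.eq_bot_of_card_le h4

theorem eq_one_of_act (g : PresentedGroup RELS) (hX : rhoX g = 1) (hY : rhoY g = 1) : g = 1 := by
  have : g ∈ Z := ⟨MonoidHom.mem_ker.mpr hX, MonoidHom.mem_ker.mpr hY⟩
  rw [Z_eq_bot] at this
  exact Subgroup.mem_bot.mp this

end Cfsg.Agent.Lib.Helper28_Fi22Order
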