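import Cfsg.Agent.Lib.Helper28_Fi22c7UF0
import Cfsg.Agent.Lib.Helper28_Fi22c7UR0
import Cfsg.Agent.Lib.Helper28_Fi22c7UQ0

set_option autoImplicit false
set_option linter.constructorNameAsVariable false
set_option Elab.async false

namespace Cfsg.Agent.Lib.Helper28_Fi22c7.U

open Cfsg.Spor Cfsg.Agent.Lib.Helper28_CosetUp Cfsg.Agent.Lib.Helper28_CosetUpCox Cfsg.Agent.Lib.Helper28_CosetPerm Cfsg.Agent.Lib.Helper28_CosetCox

theorem blocks_ok : ∀ j, j < 1 → blockB par plet fact inv word 29 29 48 (Nat.mul j 256) 256 0 (certBlk j) = true := by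
  intro j hj
  have h := between_all blockOk 1 1 f0 j hj
  rw [Nat.mul_one] at h
  rw [← blockF_eq]
  exact h

theorem rows_ok : ∀ v, v < 48 → rowB fact inv 48 isFin row 256 (2 * 9) v = true := by
  intro v hv
  have h := between_all rowOk 1 48 r0 v hv
  rw [Nat.mul_one] at h
  rw [← rowF_eq]
  exact h

theorem par_ok : ∀ v, 0 < v → v < 48 → par v < v := by
  intro v h0 hv
  have h := between_all parOk 1 48 q0 v hv
  rw [Nat.mul_one] at h
  unfold parOk at h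
  rw [Bool.or_eq_true] at h
  rcases h with h | h
  · exact absurd (Nat.eq_of_beq_eq_true h) (Nat.ne_of_gt h0)
  · exact lt_of_blt h

theorem inv_ok : ∀ g, inv g = true → genP gname (Cfsg.Spor.coxRelators Cfsg.Agent.Lib.Helper28_Fi22Chain.edges7 ∪ {r | r ∈ Cfsg.Agent.Lib.Helper28_Fi22Chain.extra7}) g * genP gname (Cfsg.Spor.coxRelators Cfsg.Agent.Lib.Helper28_Fi22Chain.edges7 ∪ {r | r ∈ Cfsg.Agent.Lib.Helper28_Fi22Chain.extra7}) g = 1 := by
  intro g hg
  apply gen_sq_of_node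
  have h1 : g < 9 := by
    unfold inv at hg
    rw [Bool.and_eq_true] at hg
    exact lt_of_blt hg.1
  interval_cases g <;> first | (exact absurd hg (by decide)) | decide

set_option maxRecDepth 100000 in
theorem relwords_ok : ∀ wid, wid < 29 → RelWordT Cfsg.Agent.Lib.Helper28_Fi22Chain.edges7 Cfsg.Agent.Lib.Helper28_Fi22Chain.extra7 (toWord gname (word wid)) := by decide

theorem free_ok : ∀ wid, wid < 29 → wordVal (genP gname (Cfsg.Spor.coxRelators Cfsg.Agent.Lib.Helper28_Fi22Chain.edges7 ∪ {r | r ∈ Cfsg.Agent.Lib.Helper28_Fi22Chain.extra7})) (word wid) = 1 := by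
  intro wid h
  rw [wordVal_eq]
  exact mk_eq_one_of_relWordT _ _ _ (relwords_ok wid h)

theorem sub_ok : ∀ wid, wid < 29 → wordVal (genP gname (Cfsg.Spor.coxRelators Cfsg.Agent.Lib.Helper28_Fi22Chain.edges7 ∪ {r | r ∈ Cfsg.Agent.Lib.Helper28_Fi22Chain.extra7})) (word wid) ∈ ((Subgroup.closure (∅ : Set (FreeGroup Cfsg.Spor.Fi22.Gen))).map (PresentedGroup.mk (Cfsg.Spor.coxRelators Cfsg.Agent.Lib.Helper28_Fi22Chain.edges7 ∪ {r | r ∈ Cfsg.Agent.Lib.Helper28_Fi22Chain.extra7}))) := by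
  intro wid h
  rw [free_ok wid h]; exact Subgroup.one_mem _

theorem holds_all : ∀ f, f < 256 → Holds ((Subgroup.closure (∅ : Set (FreeGroup Cfsg.Spor.Fi22.Gen))).map (PresentedGroup.mk (Cfsg.Spor.coxRelators Cfsg.Agent.Lib.Helper28_Fi22Chain.edges7 ∪ {r | r ∈ Cfsg.Agent.Lib.Helper28_Fi22Chain.extra7}))) (genP gname (Cfsg.Spor.coxRelators Cfsg.Agent.Lib.Helper28_Fi22Chain.edges7 ∪ {r | r ∈ Cfsg.Agent.Lib.Helper28_Fi22Chain.extra7})) par plet (fact f) := by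
  have h := holds_of_blocks ((Subgroup.closure (∅ : Set (FreeGroup Cfsg.Spor.Fi22.Gen))).map (PresentedGroup.mk (Cfsg.Spor.coxRelators Cfsg.Agent.Lib.Helper28_Fi22Chain.edges7 ∪ {r | r ∈ Cfsg.Agent.Lib.Helper28_Fi22Chain.extra7}))) (genP gname (Cfsg.Spor.coxRelators Cfsg.Agent.Lib.Helper28_Fi22Chain.edges7 ∪ {r | r ∈ Cfsg.Agent.Lib.Helper28_Fi22Chain.extra7})) par plet fact inv word 29 29 48 inv_ok free_ok sub_ok par_ok 256 certBlk 1 blocks_ok
  intro f hf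
  exact h f (by norm_num; exact hf)

theorem gen_top : Subgroup.closure (Set.range fun g : Fin 9 => genP gname (Cfsg.Spor.coxRelators Cfsg.Agent.Lib.Helper28_Fi22Chain.edges7 ∪ {r | r ∈ Cfsg.Agent.Lib.Helper28_Fi22Chain.extra7}) g) = ⊤ := by
  apply closure_genP
  intro a
  cases a
  · exact ⟨0, by decide, rfl⟩
  · exact ⟨1, by decide, rfl⟩
  · exact ⟨2, by decide, rfl⟩
  · exact ⟨3, by decide, rfl⟩
  · exact ⟨4, by decide, rfl⟩
  · exact ⟨5, by decide, rfl⟩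
  · exact ⟨6, by decide, rfl⟩
  · exact ⟨7, by decide, rfl⟩
  · exact ⟨8, by decide, rfl⟩

theorem cnt_fin : cntB isFin 48 = 6 := by decide +kernel

/-- the upper bound -/
theorem upper : ((Subgroup.closure (∅ : Set (FreeGroup Cfsg.Spor.Fi22.Gen))).map (PresentedGroup.mk (Cfsg.Spor.coxRelators Cfsg.Agent.Lib.Helper28_Fi22Chain.edges7 ∪ {r | r ∈ Cfsg.Agent.Lib.Helper28_Fi22Chain.extra7}))).index ≠ 0 ∧ ((Subgroup.closure (∅ : Set (FreeGroup Cfsg.Spor.Fi22.Gen))).map (PresentedGroup.mk (Cfsg.Spor.coxRelators Cfsg.Agent.Lib.Helper28_Fi22Chain.edges7 ∪ {r | r ∈ Cfsg.Agent.Lib.Helper28_Fi22Chain.extra7}))).index ≤ 6 := by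
  have h := index_le_of_cert ((Subgroup.closure (∅ : Set (FreeGroup Cfsg.Spor.Fi22.Gen))).map (PresentedGroup.mk (Cfsg.Spor.coxRelators Cfsg.Agent.Lib.Helper28_Fi22Chain.edges7 ∪ {r | r ∈ Cfsg.Agent.Lib.Helper28_Fi22Chain.extra7}))) (genP gname (Cfsg.Spor.coxRelators Cfsg.Agent.Lib.Helper28_Fi22Chain.edges7 ∪ {r | r ∈ Cfsg.Agent.Lib.Helper28_Fi22Chain.extra7})) par plet fact inv word 29 29 48 isFin row 256 inv_ok free_ok sub_ok par_ok holds_all 9 rows_ok (by decide +kernel) (by norm_num) gen_top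
  rw [card_filter_range_eq_cntB, cnt_fin] at h
  exact h

end Cfsg.Agent.Lib.Helper28_Fi22c7.U
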