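import Cfsg.Agent.Lib.Helper28_S1685U
import Cfsg.Agent.Lib.Helper28_Fi22c1U
import Cfsg.Agent.Lib.Helper28_Fi22c2U
import Cfsg.Agent.Lib.Helper28_Fi22c3U
import Cfsg.Agent.Lib.Helper28_Fi22c4U
import Cfsg.Agent.Lib.Helper28_Fi22c5U
import Cfsg.Agent.Lib.Helper28_Fi22c6U
import Cfsg.Agent.Lib.Helper28_Fi22c7U

set_option autoImplicit false

namespace Cfsg.Agent.Lib.Helper28_Fi22Order

open Cfsg.Spor Cfsg.Agent.Lib.Helper28_OrderChain Cfsg.Agent.Lib.Helper28_Fi22Chain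

theorem card7 : Finite (PresentedGroup (coxRelators edges7 ∪ {r | r ∈ extra7})) ∧ Nat.card (PresentedGroup (coxRelators edges7 ∪ {r | r ∈ extra7})) ≤ 6 :=
  card_le_empty _ 6 Cfsg.Agent.Lib.Helper28_Fi22c7.U.upper

theorem hS6 : ∀ s ∈ ({Cfsg.Spor.Fi22.c, Cfsg.Spor.Fi22.d} : Set (FreeGroup Cfsg.Spor.Fi22.Gen)), ∃ x, x ∉ dropped7 ∧ s = FreeGroup.of x := by
  intro s hs
  simp only [Set.mem_insert_iff, Set.mem_singleton_iff] at hs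
  rcases hs with rfl | rfl
  · exact ⟨.c, by decide, rfl⟩
  · exact ⟨.d, by decide, rfl⟩

theorem card6 : Finite (PresentedGroup (coxRelators edges6 ∪ {r | r ∈ extra6})) ∧ Nat.card (PresentedGroup (coxRelators edges6 ∪ {r | r ∈ extra6})) ≤ 4 * 6 :=
  card_le_sub edges6 edges7 extra6 kept7 dropped7 h1_7 h2_7 h3_7 ({Cfsg.Spor.Fi22.c, Cfsg.Spor.Fi22.d} : Set (FreeGroup Cfsg.Spor.Fi22.Gen)) hS6 4 6 Cfsg.Agent.Lib.Helper28_Fi22c6.U.upper (by have := card7; norm_num at this ⊢; exact this)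

theorem hS5 : ∀ s ∈ ({Cfsg.Spor.Fi22.c, Cfsg.Spor.Fi22.d, Cfsg.Spor.Fi22.e} : Set (FreeGroup Cfsg.Spor.Fi22.Gen)), ∃ x, x ∉ dropped6 ∧ s = FreeGroup.of x := by
  intro s hs
  simp only [Set.mem_insert_iff, Set.mem_singleton_iff] at hs
  rcases hs with rfl | rfl | rfl
  · exact ⟨.c, by decide, rfl⟩
  · exact ⟨.d, by decide, rfl⟩
  · exact ⟨.e, by decide, rfl⟩

theorem card5 : Finite (PresentedGroup (coxRelators edges5 ∪ {r | r ∈ extra5})) ∧ Nat.card (PresentedGroup (coxRelators edges5 ∪ {r | r ∈ extra5})) ≤ 5 * 24 :=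
  card_le_sub edges5 edges6 extra5 kept6 dropped6 h1_6 h2_6 h3_6 ({Cfsg.Spor.Fi22.c, Cfsg.Spor.Fi22.d, Cfsg.Spor.Fi22.e} : Set (FreeGroup Cfsg.Spor.Fi22.Gen)) hS5 5 24 Cfsg.Agent.Lib.Helper28_Fi22c5.U.upper (by have := card6; norm_num at this ⊢; exact this)

theorem hS4 : ∀ s ∈ ({Cfsg.Spor.Fi22.c, Cfsg.Spor.Fi22.d, Cfsg.Spor.Fi22.e, Cfsg.Spor.Fi22.f} : Set (FreeGroup Cfsg.Spor.Fi22.Gen)), ∃ x, x ∉ dropped5 ∧ s = FreeGroup.of x := by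
  intro s hs
  simp only [Set.mem_insert_iff, Set.mem_singleton_iff] at hs
  rcases hs with rfl | rfl | rfl | rfl
  · exact ⟨.c, by decide, rfl⟩
  · exact ⟨.d, by decide, rfl⟩
  · exact ⟨.e, by decide, rfl⟩
  · exact ⟨.f, by decide, rfl⟩

theorem card4 : Finite (PresentedGroup (coxRelators edges4 ∪ {r | r ∈ extra4})) ∧ Nat.card (PresentedGroup (coxRelators edges4 ∪ {r | r ∈ extra4})) ≤ 16 * 120 :=
  card_le_sub edges4 edges5 extra4 kept5 dropped5 h1_5 h2_5 h3_5 ({Cfsg.Spor.Fi22.c, Cfsg.Spor.Fi22.d, Cfsg.Spor.Fi22.e, Cfsg.Spor.Fi22.f} : Set (FreeGroup Cfsg.Spor.Fi22.Gen)) hS4 16 120 Cfsg.Agent.Lib.Helper28_Fi22c4.U.upper (by have := card5; norm_num at this ⊢; exact this)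

theorem hS3 : ∀ s ∈ ({Cfsg.Spor.Fi22.c, Cfsg.Spor.Fi22.d, Cfsg.Spor.Fi22.e, Cfsg.Spor.Fi22.f, Cfsg.Spor.Fi22.h} : Set (FreeGroup Cfsg.Spor.Fi22.Gen)), ∃ x, x ∉ dropped4 ∧ s = FreeGroup.of x := by
  intro s hs
  simp only [Set.mem_insert_iff, Set.mem_singleton_iff] at hs
  rcases hs with rfl | rfl | rfl | rfl | rfl
  · exact ⟨.c, by decide, rfl⟩
  · exact ⟨.d, by decide, rfl⟩
  · exact ⟨.e, by decide, rfl⟩
  · exact ⟨.f, by decide, rfl⟩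
  · exact ⟨.h, by decide, rfl⟩

theorem card3 : Finite (PresentedGroup (coxRelators edges3 ∪ {r | r ∈ extra3})) ∧ Nat.card (PresentedGroup (coxRelators edges3 ∪ {r | r ∈ extra3})) ≤ 27 * 1920 :=
  card_le_sub edges3 edges4 extra3 kept4 dropped4 h1_4 h2_4 h3_4 ({Cfsg.Spor.Fi22.c, Cfsg.Spor.Fi22.d, Cfsg.Spor.Fi22.e, Cfsg.Spor.Fi22.f, Cfsg.Spor.Fi22.h} : Set (FreeGroup Cfsg.Spor.Fi22.Gen)) hS3 27 1920 Cfsg.Agent.Lib.Helper28_Fi22c3.U.upper (by have := card4; norm_num at this ⊢; exact this)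

theorem hS2 : ∀ s ∈ ({Cfsg.Spor.Fi22.b, Cfsg.Spor.Fi22.c, Cfsg.Spor.Fi22.d, Cfsg.Spor.Fi22.e, Cfsg.Spor.Fi22.f, Cfsg.Spor.Fi22.h} : Set (FreeGroup Cfsg.Spor.Fi22.Gen)), ∃ x, x ∉ dropped3 ∧ s = FreeGroup.of x := by
  intro s hs
  simp only [Set.mem_insert_iff, Set.mem_singleton_iff] at hs
  rcases hs with rfl | rfl | rfl | rfl | rfl | rfl
  · exact ⟨.b, by decide, rfl⟩
  · exact ⟨.c, by decide, rfl⟩
  · exact ⟨.d, by decide, rfl⟩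
  · exact ⟨.e, by decide, rfl⟩
  · exact ⟨.f, by decide, rfl⟩
  · exact ⟨.h, by decide, rfl⟩

theorem card2 : Finite (PresentedGroup (coxRelators edges2 ∪ {r | r ∈ extra2})) ∧ Nat.card (PresentedGroup (coxRelators edges2 ∪ {r | r ∈ extra2})) ≤ 28 * 51840 :=
  card_le_sub edges2 edges3 extra2 kept3 dropped3 h1_3 h2_3 h3_3 ({Cfsg.Spor.Fi22.b, Cfsg.Spor.Fi22.c, Cfsg.Spor.Fi22.d, Cfsg.Spor.Fi22.e, Cfsg.Spor.Fi22.f, Cfsg.Spor.Fi22.h} : Set (FreeGroup Cfsg.Spor.Fi22.Gen)) hS2 28 51840 Cfsg.Agent.Lib.Helper28_Fi22c2.U.upper (by have := card3; norm_num at this ⊢; exact this)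

theorem hS1 : ∀ s ∈ ({Cfsg.Spor.Fi22.b, Cfsg.Spor.Fi22.c, Cfsg.Spor.Fi22.d, Cfsg.Spor.Fi22.e, Cfsg.Spor.Fi22.f, Cfsg.Spor.Fi22.g, Cfsg.Spor.Fi22.h} : Set (FreeGroup Cfsg.Spor.Fi22.Gen)), ∃ x, x ∉ dropped2 ∧ s = FreeGroup.of x := by
  intro s hs
  simp only [Set.mem_insert_iff, Set.mem_singleton_iff] at hs
  rcases hs with rfl | rfl | rfl | rfl | rfl | rfl | rfl
  · exact ⟨.b, by decide, rfl⟩
  · exact ⟨.c, by decide, rfl⟩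
  · exact ⟨.d, by decide, rfl⟩
  · exact ⟨.e, by decide, rfl⟩
  · exact ⟨.f, by decide, rfl⟩
  · exact ⟨.g, by decide, rfl⟩
  · exact ⟨.h, by decide, rfl⟩

theorem card1 : Finite (PresentedGroup (coxRelators edges1 ∪ {r | r ∈ extra1})) ∧ Nat.card (PresentedGroup (coxRelators edges1 ∪ {r | r ∈ extra1})) ≤ 3159 * 1451520 :=
  card_le_sub edges1 edges2 extra1 kept2 dropped2 h1_2 h2_2 h3_2 ({Cfsg.Spor.Fi22.b, Cfsg.Spor.Fi22.c, Cfsg.Spor.Fi22.d, Cfsg.Spor.Fi22.e, Cfsg.Spor.Fi22.f, Cfsg.Spor.Fi22.g, Cfsg.Spor.Fi22.h} : Set (FreeGroup Cfsg.Spor.Fi22.Gen)) hS1 3159 1451520 Cfsg.Agent.Lib.Helper28_Fi22c1.U.upper (by have := card2; norm_num at this ⊢; exact this)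

theorem hS0 : ∀ s ∈ ({Cfsg.Spor.Fi22.b, Cfsg.Spor.Fi22.c, Cfsg.Spor.Fi22.d, Cfsg.Spor.Fi22.e, Cfsg.Spor.Fi22.f, Cfsg.Spor.Fi22.g, Cfsg.Spor.Fi22.h, Cfsg.Spor.Fi22.i} : Set (FreeGroup Cfsg.Spor.Fi22.Gen)), ∃ x, x ∉ dropped1 ∧ s = FreeGroup.of x := by
  intro s hs
  simp only [Set.mem_insert_iff, Set.mem_singleton_iff] at hs
  rcases hs with rfl | rfl | rfl | rfl | rfl | rfl | rfl | rfl
  · exact ⟨.b, by decide, rfl⟩
  · exact ⟨.c, by decide, rfl⟩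
  · exact ⟨.d, by decide, rfl⟩
  · exact ⟨.e, by decide, rfl⟩
  · exact ⟨.f, by decide, rfl⟩
  · exact ⟨.g, by decide, rfl⟩
  · exact ⟨.h, by decide, rfl⟩
  · exact ⟨.i, by decide, rfl⟩

theorem card0 : Finite (PresentedGroup (coxRelators Cfsg.Spor.Fi22.edges ∪ {r | r ∈ Cfsg.Spor.Fi22.extra})) ∧ Nat.card (PresentedGroup (coxRelators Cfsg.Spor.Fi22.edges ∪ {r | r ∈ Cfsg.Spor.Fi22.extra})) ≤ 14080 * 4585351680 :=
  card_le_sub Cfsg.Spor.Fi22.edges edges1 Cfsg.Spor.Fi22.extra kept1 dropped1 h1_1 h2_1 h3_1 ({Cfsg.Spor.Fi22.b, Cfsg.Spor.Fi22.c, Cfsg.Spor.Fi22.d, Cfsg.Spor.Fi22.e, Cfsg.Spor.Fi22.f, Cfsg.Spor.Fi22.g, Cfsg.Spor.Fi22.h, Cfsg.Spor.Fi22.i} : Set (FreeGroup Cfsg.Spor.Fi22.Gen)) hS0 14080 4585351680 Cfsg.Agent.Lib.Helper28_S1685.U.upper (by have := card1; norm_num at this ⊢; exact this)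

/-- the upper bound for the order -/
theorem card_le : Finite (Cfsg.Spor.Fi22) ∧ Nat.card (Cfsg.Spor.Fi22) ≤ 64561751654400 := by
  have := card0
  norm_num at this ⊢
  exact this

end Cfsg.Agent.Lib.Helper28_Fi22Order
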