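import Mathlib
import Cfsg.Prelude.Def_Spor_Fi22
import Cfsg.Agent.Lib.Helper28_Fi22Rep78Data

/-!
# Nine matrices of size 78 over `ZMod 13` for the generators of `Fi22`: the relator words

helper28.  Generated file.
-/

set_option autoImplicit false

namespace Cfsg.Agent.Lib.Helper28_Fi22Rep78W

open Cfsg.Spor.Fi22 (Gen)
open Cfsg.Agent.Lib.Helper28_MatPack Cfsg.Agent.Lib.Helper28_Fi22Rep78Data

/-- the word `aa` -/
def W0 : List Gen := [.a, .a]

/-- the word `bb` -/
def W1 : List Gen := [.b, .b]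

/-- the word `cc` -/
def W2 : List Gen := [.c, .c]

/-- the word `dd` -/
def W3 : List Gen := [.d, .d]

/-- the word `ee` -/
def W4 : List Gen := [.e, .e]

/-- the word `ff` -/
def W5 : List Gen := [.f, .f]

/-- the word `gg` -/
def W6 : List Gen := [.g, .g]

/-- the word `hh` -/
def W7 : List Gen := [.h, .h]

/-- the word `ii` -/
def W8 : List Gen := [.i, .i]

/-- the word `ababab` -/
def W9 : List Gen := [.a, .b, .a, .b, .a, .b]

/-- the word `acac` -/
def W10 : List Gen := [.a, .c, .a, .c]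

/-- the word `adad` -/
def W11 : List Gen := [.a, .d, .a, .d]

/-- the word `aeae` -/
def W12 : List Gen := [.a, .e, .a, .e]

/-- the word `afaf` -/
def W13 : List Gen := [.a, .f, .a, .f]

/-- the word `agag` -/
def W14 : List Gen := [.a, .g, .a, .g]

/-- the word `ahah` -/
def W15 : List Gen := [.a, .h, .a, .h]

/-- the word `aiai` -/
def W16 : List Gen := [.a, .i, .a, .i]

/-- the word `bcbcbc` -/
def W17 : List Gen := [.b, .c, .b, .c, .b, .c]

/-- the word `bdbd` -/
def W18 : List Gen := [.b, .d, .b, .d]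

/-- the word `bebe` -/
def W19 : List Gen := [.b, .e, .b, .e]

/-- the word `bfbf` -/
def W20 : List Gen := [.b, .f, .b, .f]

/-- the word `bgbg` -/
def W21 : List Gen := [.b, .g, .b, .g]

/-- the word `bhbh` -/
def W22 : List Gen := [.b, .h, .b, .h]

/-- the word `bibi` -/
def W23 : List Gen := [.b, .i, .b, .i]

/-- the word `cdcdcd` -/
def W24 : List Gen := [.c, .d, .c, .d, .c, .d]

/-- the word `cece` -/
def W25 : List Gen := [.c, .e, .c, .e]

/-- the word `cfcf` -/
def W26 : List Gen := [.c, .f, .c, .f]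

/-- the word `cgcg` -/
def W27 : List Gen := [.c, .g, .c, .g]

/-- the word `chch` -/
def W28 : List Gen := [.c, .h, .c, .h]

/-- the word `cici` -/
def W29 : List Gen := [.c, .i, .c, .i]

/-- the word `dedede` -/
def W30 : List Gen := [.d, .e, .d, .e, .d, .e]

/-- the word `dfdf` -/
def W31 : List Gen := [.d, .f, .d, .f]

/-- the word `dgdg` -/
def W32 : List Gen := [.d, .g, .d, .g]

/-- the word `dhdhdh` -/
def W33 : List Gen := [.d, .h, .d, .h, .d, .h]

/-- the word `didi` -/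
def W34 : List Gen := [.d, .i, .d, .i]

/-- the word `efefef` -/
def W35 : List Gen := [.e, .f, .e, .f, .e, .f]

/-- the word `egeg` -/
def W36 : List Gen := [.e, .g, .e, .g]

/-- the word `eheh` -/
def W37 : List Gen := [.e, .h, .e, .h]

/-- the word `eiei` -/
def W38 : List Gen := [.e, .i, .e, .i]

/-- the word `fgfgfg` -/
def W39 : List Gen := [.f, .g, .f, .g, .f, .g]

/-- the word `fhfh` -/
def W40 : List Gen := [.f, .h, .f, .h]

/-- the word `fifi` -/
def W41 : List Gen := [.f, .i, .f, .i]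

/-- the word `ghgh` -/
def W42 : List Gen := [.g, .h, .g, .h]

/-- the word `gigi` -/
def W43 : List Gen := [.g, .i, .g, .i]

/-- the word `hihihi` -/
def W44 : List Gen := [.h, .i, .h, .i, .h, .i]

/-- the word `dcbdefdhi...` -/
def W45 : List Gen := [.d, .c, .b, .d, .e, .f, .d, .h, .i, .d, .c, .b, .d, .e, .f, .d, .h, .i, .d, .c, .b, .d, .e, .f, .d, .h, .i, .d, .c, .b, .d, .e, .f, .d, .h, .i, .d, .c, .b, .d, .e, .f, .d, .h, .i, .d, .c, .b, .d, .e, .f, .d, .h, .i, .d, .c, .b, .d, .e, .f, .d, .h, .i, .d, .c, .b, .d, .e, .f, .d, .h, .i, .d, .c, .b, .d, .e, .f, .d, .h, .i, .d, .c, .b, .d, .e, .f, .d, .h, .i]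

/-- the word `abcdefhab...` -/
def W46 : List Gen := [.a, .b, .c, .d, .e, .f, .h, .a, .b, .c, .d, .e, .f, .h, .a, .b, .c, .d, .e, .f, .h, .a, .b, .c, .d, .e, .f, .h, .a, .b, .c, .d, .e, .f, .h, .a, .b, .c, .d, .e, .f, .h, .a, .b, .c, .d, .e, .f, .h, .a, .b, .c, .d, .e, .f, .h, .a, .b, .c, .d, .e, .f, .h]

/-- the word `bcdefghbc...` -/
def W47 : List Gen := [.b, .c, .d, .e, .f, .g, .h, .b, .c, .d, .e, .f, .g, .h, .b, .c, .d, .e, .f, .g, .h, .b, .c, .d, .e, .f, .g, .h, .b, .c, .d, .e, .f, .g, .h, .b, .c, .d, .e, .f, .g, .h, .b, .c, .d, .e, .f, .g, .h, .b, .c, .d, .e, .f, .g, .h, .b, .c, .d, .e, .f, .g, .h]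

/-- the checked words -/
def wordsG : List (List Gen) := [W0, W1, W2, W3, W4, W5, W6, W7, W8, W9, W10, W11, W12, W13, W14, W15, W16, W17, W18, W19, W20, W21, W22, W23, W24, W25, W26, W27, W28, W29, W30, W31, W32, W33, W34, W35, W36, W37, W38, W39, W40, W41, W42, W43, W44, W45, W46, W47]

end Cfsg.Agent.Lib.Helper28_Fi22Rep78W
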