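import Mathlib
import Cfsg.Prelude.Def_Spor_Fi22
import Cfsg.Agent.Lib.Helper28_Fi22Rep78W

/-!
# Nine matrices of size 78 over `ZMod 13` for the generators of `Fi22`: the checks of the Coxeter relators

helper28.  Generated file.
-/

set_option autoImplicit false

namespace Cfsg.Agent.Lib.Helper28_Fi22Rep78C0

open Cfsg.Spor.Fi22 (Gen)
open Cfsg.Agent.Lib.Helper28_MatPack Cfsg.Agent.Lib.Helper28_Fi22Rep78Data

open Cfsg.Agent.Lib.Helper28_Fi22Rep78W

set_option maxRecDepth 100000 in
theorem c0 : checkWord tabs 13 78 W0 = true := by decide +kernel

set_option maxRecDepth 100000 in
theorem c1 : checkWord tabs 13 78 W1 = true := by decide +kernel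

set_option maxRecDepth 100000 in
theorem c2 : checkWord tabs 13 78 W2 = true := by decide +kernel

set_option maxRecDepth 100000 in
theorem c3 : checkWord tabs 13 78 W3 = true := by decide +kernel

set_option maxRecDepth 100000 in
theorem c4 : checkWord tabs 13 78 W4 = true := by decide +kernel

set_option maxRecDepth 100000 in
theorem c5 : checkWord tabs 13 78 W5 = true := by decide +kernel

set_option maxRecDepth 100000 in
theorem c6 : checkWord tabs 13 78 W6 = true := by decide +kernel

set_option maxRecDepth 100000 in
theorem c7 : checkWord tabs 13 78 W7 = true := by decide +kernel

set_option maxRecDepth 100000 in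
theorem c8 : checkWord tabs 13 78 W8 = true := by decide +kernel

set_option maxRecDepth 100000 in
theorem c9 : checkWord tabs 13 78 W9 = true := by decide +kernel

set_option maxRecDepth 100000 in
theorem c10 : checkWord tabs 13 78 W10 = true := by decide +kernel

set_option maxRecDepth 100000 in
theorem c11 : checkWord tabs 13 78 W11 = true := by decide +kernel

set_option maxRecDepth 100000 in
theorem c12 : checkWord tabs 13 78 W12 = true := by decide +kernel

set_option maxRecDepth 100000 in
theorem c13 : checkWord tabs 13 78 W13 = true := by decide +kernel

set_option maxRecDepth 100000 in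
theorem c14 : checkWord tabs 13 78 W14 = true := by decide +kernel

set_option maxRecDepth 100000 in
theorem c15 : checkWord tabs 13 78 W15 = true := by decide +kernel

set_option maxRecDepth 100000 in
theorem c16 : checkWord tabs 13 78 W16 = true := by decide +kernel

set_option maxRecDepth 100000 in
theorem c17 : checkWord tabs 13 78 W17 = true := by decide +kernel

set_option maxRecDepth 100000 in
theorem c18 : checkWord tabs 13 78 W18 = true := by decide +kernel

set_option maxRecDepth 100000 in
theorem c19 : checkWord tabs 13 78 W19 = true := by decide +kernel

set_option maxRecDepth 100000 in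
theorem c20 : checkWord tabs 13 78 W20 = true := by decide +kernel

set_option maxRecDepth 100000 in
theorem c21 : checkWord tabs 13 78 W21 = true := by decide +kernel

set_option maxRecDepth 100000 in
theorem c22 : checkWord tabs 13 78 W22 = true := by decide +kernel

set_option maxRecDepth 100000 in
theorem c23 : checkWord tabs 13 78 W23 = true := by decide +kernel

set_option maxRecDepth 100000 in
theorem c24 : checkWord tabs 13 78 W24 = true := by decide +kernel

set_option maxRecDepth 100000 in
theorem c25 : checkWord tabs 13 78 W25 = true := by decide +kernel

set_option maxRecDepth 100000 in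
theorem c26 : checkWord tabs 13 78 W26 = true := by decide +kernel

set_option maxRecDepth 100000 in
theorem c27 : checkWord tabs 13 78 W27 = true := by decide +kernel

set_option maxRecDepth 100000 in
theorem c28 : checkWord tabs 13 78 W28 = true := by decide +kernel

set_option maxRecDepth 100000 in
theorem c29 : checkWord tabs 13 78 W29 = true := by decide +kernel

set_option maxRecDepth 100000 in
theorem c30 : checkWord tabs 13 78 W30 = true := by decide +kernel

set_option maxRecDepth 100000 in
theorem c31 : checkWord tabs 13 78 W31 = true := by decide +kernel

set_option maxRecDepth 100000 in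
theorem c32 : checkWord tabs 13 78 W32 = true := by decide +kernel

set_option maxRecDepth 100000 in
theorem c33 : checkWord tabs 13 78 W33 = true := by decide +kernel

set_option maxRecDepth 100000 in
theorem c34 : checkWord tabs 13 78 W34 = true := by decide +kernel

set_option maxRecDepth 100000 in
theorem c35 : checkWord tabs 13 78 W35 = true := by decide +kernel

set_option maxRecDepth 100000 in
theorem c36 : checkWord tabs 13 78 W36 = true := by decide +kernel

set_option maxRecDepth 100000 in
theorem c37 : checkWord tabs 13 78 W37 = true := by decide +kernel

set_option maxRecDepth 100000 in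
theorem c38 : checkWord tabs 13 78 W38 = true := by decide +kernel

set_option maxRecDepth 100000 in
theorem c39 : checkWord tabs 13 78 W39 = true := by decide +kernel

set_option maxRecDepth 100000 in
theorem c40 : checkWord tabs 13 78 W40 = true := by decide +kernel

set_option maxRecDepth 100000 in
theorem c41 : checkWord tabs 13 78 W41 = true := by decide +kernel

set_option maxRecDepth 100000 in
theorem c42 : checkWord tabs 13 78 W42 = true := by decide +kernel

set_option maxRecDepth 100000 in
theorem c43 : checkWord tabs 13 78 W43 = true := by decide +kernel

set_option maxRecDepth 100000 in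
theorem c44 : checkWord tabs 13 78 W44 = true := by decide +kernel

end Cfsg.Agent.Lib.Helper28_Fi22Rep78C0
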