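import Mathlib
import Cfsg.Prelude.Def_Spor_Fi22
import Cfsg.Agent.Lib.Helper28_Fi22Rep78W

/-!
# Nine matrices of size 78 over `ZMod 13` for the generators of `Fi22`: the checks of the two relators of type E7

helper28.  Generated file.
-/

set_option autoImplicit false

namespace Cfsg.Agent.Lib.Helper28_Fi22Rep78C2

open Cfsg.Spor.Fi22 (Gen)
open Cfsg.Agent.Lib.Helper28_MatPack Cfsg.Agent.Lib.Helper28_Fi22Rep78Data

open Cfsg.Agent.Lib.Helper28_Fi22Rep78W

set_option maxRecDepth 100000 in
theorem c46 : checkWord tabs 13 78 W46 = true := by decide +kernel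

set_option maxRecDepth 100000 in
theorem c47 : checkWord tabs 13 78 W47 = true := by decide +kernel

end Cfsg.Agent.Lib.Helper28_Fi22Rep78C2
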