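import Mathlib
import Cfsg.Prelude.Def_Spor_Fi22
import Cfsg.Agent.Lib.Helper28_CosetCox
import Cfsg.Agent.Lib.Helper28_Fi22Rep78C0
import Cfsg.Agent.Lib.Helper28_Fi22Rep78C1
import Cfsg.Agent.Lib.Helper28_Fi22Rep78C2

/-!
# A nontrivial representation of `Fi22` of degree 78 over `ZMod 13`

helper28.  The nine matrices of `Helper28_Fi22Rep78Data` satisfy the relators of the
presentation of `Fi22` (checked in `Helper28_Fi22Rep78C0`, `C1`, `C2` with the packed
arithmetic of `Helper28_MatPack`), so they define `rep : Fi22 →* GL (Fin 78) (ZMod 13)`, and the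
image of the generator `a` is not the identity.
-/

set_option autoImplicit false
set_option linter.constructorNameAsVariable false

namespace Cfsg.Agent.Lib.Helper28_Fi22Rep78

open Cfsg.Spor
open Cfsg.Spor.Fi22 (Gen)
open Cfsg.Agent.Lib.Helper28_MatPack Cfsg.Agent.Lib.Helper28_Fi22Rep78Data
  Cfsg.Agent.Lib.Helper28_Fi22Rep78W Cfsg.Agent.Lib.Helper28_CosetCox

set_option maxRecDepth 100000 in
theorem valid : Valid tabs 13 78 :=
  ⟨by norm_num, by decide, by decide, fun g => by cases g <;> decide +kernel⟩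

/-- the matrix of a generator -/
def M (g : Gen) : Matrix (Fin 78) (Fin 78) (ZMod 13) := mat 13 78 (tabs g)

open Cfsg.Agent.Lib.Helper28_Fi22Rep78C0 Cfsg.Agent.Lib.Helper28_Fi22Rep78C1
  Cfsg.Agent.Lib.Helper28_Fi22Rep78C2 in
theorem all_checked : ∀ w ∈ wordsG, checkWord tabs 13 78 w = true := by
  intro w hw
  simp only [wordsG, List.mem_cons, List.not_mem_nil, or_false] at hw
  rcases hw with rfl | rfl | rfl | rfl | rfl | rfl | rfl | rfl | rfl | rfl | rfl | rfl | rfl | rfl |
    rfl | rfl | rfl | rfl | rfl | rfl | rfl | rfl | rfl | rfl | rfl | rfl | rfl | rfl | rfl | rfl |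
    rfl | rfl | rfl | rfl | rfl | rfl | rfl | rfl | rfl | rfl | rfl | rfl | rfl | rfl | rfl | rfl |
    rfl | rfl
  exacts [c0, c1, c2, c3, c4, c5, c6, c7, c8, c9, c10, c11, c12, c13, c14, c15, c16, c17, c18,
    c19, c20, c21, c22, c23, c24, c25, c26, c27, c28, c29, c30, c31, c32, c33, c34, c35, c36,
    c37, c38, c39, c40, c41, c42, c43, c44, c45, c46, c47]

theorem M_word (w : List Gen) (hw : w ∈ wordsG) : (w.map M).prod = 1 :=
  prod_eq_one_of_check valid w (all_checked w hw)

theorem M_sq (g : Gen) : M g * M g = 1 := by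
  have h := M_word [g, g] (by cases g <;> decide)
  simpa using h

/-- the matrix of a generator, as an element of the general linear group -/
def U (g : Gen) : GL (Fin 78) (ZMod 13) := ⟨M g, M g, M_sq g, M_sq g⟩

theorem U_word (w : List Gen) (hw : w ∈ wordsG) : (w.map U).prod = 1 := by
  apply Units.ext
  have h := map_list_prod (Units.coeHom (Matrix (Fin 78) (Fin 78) (ZMod 13))) (w.map U)
  rw [List.map_map] at h
  change ((w.map U).prod : Matrix (Fin 78) (Fin 78) (ZMod 13)) = _ at h
  rw [h]
  exact M_word w hw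

/-- the checked words, in the format of `Helper28_CosetCox` -/
def words : List (List (Gen × Bool)) := wordsG.map fun w => w.map fun x => (x, true)

theorem lift_word (u : List (Gen × Bool)) (hu : u ∈ words) :
    FreeGroup.lift U (FreeGroup.mk u) = 1 := by
  obtain ⟨w, hw, rfl⟩ := List.mem_map.mp hu
  rw [FreeGroup.lift_mk, List.map_map]
  exact U_word w hw

theorem cox_covered : CoxCovered Fi22.edges words := by decide

theorem extra_covered : ExtraCovered Fi22.extra words := by
  unfold ExtraCovered; decide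

/-- the representation -/
noncomputable def rep : Cfsg.Spor.Fi22 →* GL (Fin 78) (ZMod 13) :=
  PresentedGroup.toGroup (f := U)
    (rels_of_words Fi22.edges Fi22.extra U words lift_word cox_covered extra_covered)

theorem rep_of (g : Gen) : rep (PresentedGroup.of g) = U g := PresentedGroup.toGroup.of _

set_option maxRecDepth 100000 in
theorem dig_a : dig (row Ta 78 1) 0 = 12 := by decide +kernel

theorem rep_a_ne_one : rep (PresentedGroup.of Gen.a) ≠ 1 := by
  rw [rep_of]
  intro h
  have h1 : M Gen.a 1 0 = (1 : Matrix (Fin 78) (Fin 78) (ZMod 13)) 1 0 := by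
    have := congrArg (fun u : GL (Fin 78) (ZMod 13) =>
      (u : Matrix (Fin 78) (Fin 78) (ZMod 13)) 1 0) h
    exact this
  have h2 : M Gen.a 1 0 = ((12 : ℕ) : ZMod 13) := by
    show ((dig (row Ta 78 ((1 : Fin 78) : ℕ)) ((0 : Fin 78) : ℕ) : ℕ) : ZMod 13) = _
    have e1 : ((1 : Fin 78) : ℕ) = 1 := rfl
    have e0 : ((0 : Fin 78) : ℕ) = 0 := rfl
    rw [e1, e0, dig_a]
  rw [h2, Matrix.one_apply_ne (by decide)] at h1
  exact absurd h1 (by decide)

end Cfsg.Agent.Lib.Helper28_Fi22Rep78
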