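import Cfsg.Agent.Lib.Helper28_S1687

set_option autoImplicit false
set_option linter.constructorNameAsVariable false
set_option Elab.async false

namespace Cfsg.Agent.Lib.Helper28_Fi22U6R1

open Cfsg.Spor Cfsg.Agent.Lib.Helper28_CosetPerm

/-- the word `(c*d*e*f*g*h*i)^9` -/
def u : List (Cfsg.Spor.Fi22.Gen × Bool) := [(.c, true), (.d, true), (.e, true), (.f, true), (.g, true), (.h, true), (.i, true), (.c, true), (.d, true), (.e, true), (.f, true), (.g, true), (.h, true), (.i, true), (.c, true), (.d, true), (.e, true), (.f, true), (.g, true), (.h, true), (.i, true), (.c, true), (.d, true), (.e, true), (.f, true), (.g, true), (.h, true), (.i, true), (.c, true), (.d, true), (.e, true), (.f, true), (.g, true), (.h, true), (.i, true), (.c, true), (.d, true), (.e, true), (.f, true), (.g, true), (.h, true), (.i, true), (.c, true), (.d, true), (.e, true), (.f, true), (.g, true), (.h, true), (.i, true), (.c, true), (.d, true), (.e, true), (.f, true), (.g, true), (.h, true), (.i, true), (.c, true), (.d, true), (.e, true), (.f, true), (.g, true), (.h, true),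 (.i, true)]

def chkS1687 (x : ℕ) : Bool := Nat.beq (walk 65535 Cfsg.Agent.Lib.Helper28_S1687.col u x) x

theorem rS1687_0 : allRange chkS1687 16 0 678 = true := by decide +kernel
theorem uS1687_0 : ∀ k, 0 ≤ k → k < 678 → chkS1687 (k * 16) = true := between_extend chkS1687 16 0 0 678 (between_start chkS1687 16 0) rS1687_0

theorem rS1687_1 : allRange chkS1687 16 678 678 = true := by decide +kernel
theorem uS1687_1 : ∀ k, 0 ≤ k → k < 1356 → chkS1687 (k * 16) = true := between_extend chkS1687 16 0 678 678 (uS1687_0) rS1687_1

theorem rS1687_2 : allRange chkS1687 16 1356 678 = true := by decide +kernel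
theorem uS1687_2 : ∀ k, 0 ≤ k → k < 2034 → chkS1687 (k * 16) = true := between_extend chkS1687 16 0 1356 678 (uS1687_1) rS1687_2

theorem rS1687_3 : allRange chkS1687 16 2034 678 = true := by decide +kernel
theorem uS1687_3 : ∀ k, 0 ≤ k → k < 2712 → chkS1687 (k * 16) = true := between_extend chkS1687 16 0 2034 678 (uS1687_2) rS1687_3

theorem rS1687_4 : allRange chkS1687 16 2712 678 = true := by decide +kernel
theorem uS1687_4 : ∀ k, 0 ≤ k → k < 3390 → chkS1687 (k * 16) = true := between_extend chkS1687 16 0 2712 678 (uS1687_3) rS1687_4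

theorem rS1687_5 : allRange chkS1687 16 3390 120 = true := by decide +kernel
theorem uS1687_5 : ∀ k, 0 ≤ k → k < 3510 → chkS1687 (k * 16) = true := between_extend chkS1687 16 0 3390 120 (uS1687_4) rS1687_5

theorem trivS1687 : FreeGroup.lift (perm Cfsg.Agent.Lib.Helper28_S1687.verified.hv) (FreeGroup.mk u) = 1 := by
  apply lift_eq_one_of_walk
  intro k hk
  exact Nat.eq_of_beq_eq_true (between_all chkS1687 16 3510 uS1687_5 k hk)

end Cfsg.Agent.Lib.Helper28_Fi22U6R1
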