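import Cfsg.Agent.Lib.Helper28_S1687

set_option autoImplicit false
set_option linter.constructorNameAsVariable false
set_option Elab.async false

namespace Cfsg.Agent.Lib.Helper28_Fi22U6R3

open Cfsg.Spor Cfsg.Agent.Lib.Helper28_CosetPerm

/-- the word `(c*d*e*h*i*(a*b*c*d*e*h)^5)^5*a^-1` -/
def u : List (Cfsg.Spor.Fi22.Gen × Bool) := [(.c, true), (.d, true), (.e, true), (.h, true), (.i, true), (.a, true), (.b, true), (.c, true), (.d, true), (.e, true), (.h, true), (.a, true), (.b, true), (.c, true), (.d, true), (.e, true), (.h, true), (.a, true), (.b, true), (.c, true), (.d, true), (.e, true), (.h, true), (.a, true), (.b, true), (.c, true), (.d, true), (.e, true), (.h, true), (.a, true), (.b, true), (.c, true), (.d, true), (.e, true), (.h, true), (.c, true), (.d, true), (.e, true), (.h, true), (.i, true), (.a, true), (.b, true), (.c, true), (.d, true), (.e, true), (.h, true), (.a, true), (.b, true), (.c, true), (.d, true), (.e, true), (.h, true), (.a, true), (.b, true), (.c, true), (.d, true), (.e, true), (.h, true), (.a, true), (.b, true), (.c, true), (.d, true), (.e,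 true), (.h, true), (.a, true), (.b, true), (.c, true), (.d, true), (.e, true), (.h, true), (.c, true), (.d, true), (.e, true), (.h, true), (.i, true), (.a, true), (.b, true), (.c, true), (.d, true), (.e, true), (.h, true), (.a, true), (.b, true), (.c, true), (.d, true), (.e, true), (.h, true), (.a, true), (.b, true), (.c, true), (.d, true), (.e, true), (.h, true), (.a, true), (.b, true), (.c, true), (.d, true), (.e, true), (.h, true), (.a, true), (.b, true), (.c, true), (.d, true), (.e, true), (.h, true), (.c, true), (.d, true), (.e, true), (.h, true), (.i, true), (.a, true), (.b, true), (.c, true), (.d, true), (.e, true), (.h, true), (.a, true), (.b, true), (.c, true), (.d, true), (.e, true), (.h, true), (.a, true), (.b, true), (.c, true), (.d, true), (.e, true), (.h, true), (.a, true), (.b, true), (.c, true), (.d, true), (.e, true), (.h, true), (.a, true), (.b, true), (.c, true), (.d, true), (.e, true), (.h, true), (.c, true), (.d, true), (.e, true), (.h, true), (.i, true), (.a, true), (.b, true), (.c, true), (.d, true), (.e, true), (.h, true), (.a, true), (.b, true),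 (.c, true), (.d, true), (.e, true), (.h, true), (.a, true), (.b, true), (.c, true), (.d, true), (.e, true), (.h, true), (.a, true), (.b, true), (.c, true), (.d, true), (.e, true), (.h, true), (.a, true), (.b, true), (.c, true), (.d, true), (.e, true), (.h, true), (.a, false)]

def chkS1687 (x : ℕ) : Bool := Nat.beq (walk 65535 Cfsg.Agent.Lib.Helper28_S1687.col u x) x

theorem rS1687_0 : allRange chkS1687 16 0 242 = true := by decide +kernel
theorem uS1687_0 : ∀ k, 0 ≤ k → k < 242 → chkS1687 (k * 16) = true := between_extend chkS1687 16 0 0 242 (between_start chkS1687 16 0) rS1687_0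

theorem rS1687_1 : allRange chkS1687 16 242 242 = true := by decide +kernel
theorem uS1687_1 : ∀ k, 0 ≤ k → k < 484 → chkS1687 (k * 16) = true := between_extend chkS1687 16 0 242 242 (uS1687_0) rS1687_1

theorem rS1687_2 : allRange chkS1687 16 484 242 = true := by decide +kernel
theorem uS1687_2 : ∀ k, 0 ≤ k → k < 726 → chkS1687 (k * 16) = true := between_extend chkS1687 16 0 484 242 (uS1687_1) rS1687_2

theorem rS1687_3 : allRange chkS1687 16 726 242 = true := by decide +kernel
theorem uS1687_3 : ∀ k, 0 ≤ k → k < 968 → chkS1687 (k * 16) = true := between_extend chkS1687 16 0 726 242 (uS1687_2) rS1687_3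

theorem rS1687_4 : allRange chkS1687 16 968 242 = true := by decide +kernel
theorem uS1687_4 : ∀ k, 0 ≤ k → k < 1210 → chkS1687 (k * 16) = true := between_extend chkS1687 16 0 968 242 (uS1687_3) rS1687_4

theorem rS1687_5 : allRange chkS1687 16 1210 242 = true := by decide +kernel
theorem uS1687_5 : ∀ k, 0 ≤ k → k < 1452 → chkS1687 (k * 16) = true := between_extend chkS1687 16 0 1210 242 (uS1687_4) rS1687_5

theorem rS1687_6 : allRange chkS1687 16 1452 242 = true := by decide +kernel
theorem uS1687_6 : ∀ k, 0 ≤ k → k < 1694 → chkS1687 (k * 16) = true := between_extend chkS1687 16 0 1452 242 (uS1687_5) rS1687_6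

theorem rS1687_7 : allRange chkS1687 16 1694 242 = true := by decide +kernel
theorem uS1687_7 : ∀ k, 0 ≤ k → k < 1936 → chkS1687 (k * 16) = true := between_extend chkS1687 16 0 1694 242 (uS1687_6) rS1687_7

theorem rS1687_8 : allRange chkS1687 16 1936 242 = true := by decide +kernel
theorem uS1687_8 : ∀ k, 0 ≤ k → k < 2178 → chkS1687 (k * 16) = true := between_extend chkS1687 16 0 1936 242 (uS1687_7) rS1687_8

theorem rS1687_9 : allRange chkS1687 16 2178 242 = true := by decide +kernel
theorem uS1687_9 : ∀ k, 0 ≤ k → k < 2420 → chkS1687 (k * 16) = true := between_extend chkS1687 16 0 2178 242 (uS1687_8) rS1687_9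

theorem rS1687_10 : allRange chkS1687 16 2420 242 = true := by decide +kernel
theorem uS1687_10 : ∀ k, 0 ≤ k → k < 2662 → chkS1687 (k * 16) = true := between_extend chkS1687 16 0 2420 242 (uS1687_9) rS1687_10

theorem rS1687_11 : allRange chkS1687 16 2662 242 = true := by decide +kernel
theorem uS1687_11 : ∀ k, 0 ≤ k → k < 2904 → chkS1687 (k * 16) = true := between_extend chkS1687 16 0 2662 242 (uS1687_10) rS1687_11

theorem rS1687_12 : allRange chkS1687 16 2904 242 = true := by decide +kernel
theorem uS1687_12 : ∀ k, 0 ≤ k → k < 3146 → chkS1687 (k * 16) = true := between_extend chkS1687 16 0 2904 242 (uS1687_11) rS1687_12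

theorem rS1687_13 : allRange chkS1687 16 3146 242 = true := by decide +kernel
theorem uS1687_13 : ∀ k, 0 ≤ k → k < 3388 → chkS1687 (k * 16) = true := between_extend chkS1687 16 0 3146 242 (uS1687_12) rS1687_13

theorem rS1687_14 : allRange chkS1687 16 3388 122 = true := by decide +kernel
theorem uS1687_14 : ∀ k, 0 ≤ k → k < 3510 → chkS1687 (k * 16) = true := between_extend chkS1687 16 0 3388 122 (uS1687_13) rS1687_14

theorem trivS1687 : FreeGroup.lift (perm Cfsg.Agent.Lib.Helper28_S1687.verified.hv) (FreeGroup.mk u) = 1 := by
  apply lift_eq_one_of_walk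
  intro k hk
  exact Nat.eq_of_beq_eq_true (between_all chkS1687 16 3510 uS1687_14 k hk)

end Cfsg.Agent.Lib.Helper28_Fi22U6R3
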