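import Cfsg.Agent.Lib.Helper28_S1685Def

set_option autoImplicit false
set_option linter.constructorNameAsVariable false
set_option Elab.async false

namespace Cfsg.Agent.Lib.Helper28_S1685

open Cfsg.Agent.Lib.Helper28_CosetPerm

theorem p1r0 : allRange pointOk 18 3520 52 = true := by decide +kernel
theorem p1u0 : ∀ k, 3520 ≤ k → k < 3572 → pointOk (k * 18) = true := between_extend pointOk 18 3520 3520 52 (between_start pointOk 18 3520) p1r0

theorem p1r1 : allRange pointOk 18 3572 52 = true := by decide +kernel
theorem p1u1 : ∀ k, 3520 ≤ k → k < 3624 → pointOk (k * 18) = true := between_extend pointOk 18 3520 3572 52 (p1u0) p1r1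

theorem p1r2 : allRange pointOk 18 3624 52 = true := by decide +kernel
theorem p1u2 : ∀ k, 3520 ≤ k → k < 3676 → pointOk (k * 18) = true := between_extend pointOk 18 3520 3624 52 (p1u1) p1r2

theorem p1r3 : allRange pointOk 18 3676 52 = true := by decide +kernel
theorem p1u3 : ∀ k, 3520 ≤ k → k < 3728 → pointOk (k * 18) = true := between_extend pointOk 18 3520 3676 52 (p1u2) p1r3

theorem p1r4 : allRange pointOk 18 3728 52 = true := by decide +kernel
theorem p1u4 : ∀ k, 3520 ≤ k → k < 3780 → pointOk (k * 18) = true := between_extend pointOk 18 3520 3728 52 (p1u3) p1r4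

theorem p1r5 : allRange pointOk 18 3780 52 = true := by decide +kernel
theorem p1u5 : ∀ k, 3520 ≤ k → k < 3832 → pointOk (k * 18) = true := between_extend pointOk 18 3520 3780 52 (p1u4) p1r5

theorem p1r6 : allRange pointOk 18 3832 52 = true := by decide +kernel
theorem p1u6 : ∀ k, 3520 ≤ k → k < 3884 → pointOk (k * 18) = true := between_extend pointOk 18 3520 3832 52 (p1u5) p1r6

theorem p1r7 : allRange pointOk 18 3884 52 = true := by decide +kernel
theorem p1u7 : ∀ k, 3520 ≤ k → k < 3936 → pointOk (k * 18) = true := between_extend pointOk 18 3520 3884 52 (p1u6) p1r7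

theorem p1r8 : allRange pointOk 18 3936 52 = true := by decide +kernel
theorem p1u8 : ∀ k, 3520 ≤ k → k < 3988 → pointOk (k * 18) = true := between_extend pointOk 18 3520 3936 52 (p1u7) p1r8

theorem p1r9 : allRange pointOk 18 3988 52 = true := by decide +kernel
theorem p1u9 : ∀ k, 3520 ≤ k → k < 4040 → pointOk (k * 18) = true := between_extend pointOk 18 3520 3988 52 (p1u8) p1r9

theorem p1r10 : allRange pointOk 18 4040 52 = true := by decide +kernel
theorem p1u10 : ∀ k, 3520 ≤ k → k < 4092 → pointOk (k * 18) = true := between_extend pointOk 18 3520 4040 52 (p1u9) p1r10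

theorem p1r11 : allRange pointOk 18 4092 52 = true := by decide +kernel
theorem p1u11 : ∀ k, 3520 ≤ k → k < 4144 → pointOk (k * 18) = true := between_extend pointOk 18 3520 4092 52 (p1u10) p1r11

theorem p1r12 : allRange pointOk 18 4144 52 = true := by decide +kernel
theorem p1u12 : ∀ k, 3520 ≤ k → k < 4196 → pointOk (k * 18) = true := between_extend pointOk 18 3520 4144 52 (p1u11) p1r12

theorem p1r13 : allRange pointOk 18 4196 52 = true := by decide +kernel
theorem p1u13 : ∀ k, 3520 ≤ k → k < 4248 → pointOk (k * 18) = true := between_extend pointOk 18 3520 4196 52 (p1u12) p1r13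

theorem p1r14 : allRange pointOk 18 4248 52 = true := by decide +kernel
theorem p1u14 : ∀ k, 3520 ≤ k → k < 4300 → pointOk (k * 18) = true := between_extend pointOk 18 3520 4248 52 (p1u13) p1r14

theorem p1r15 : allRange pointOk 18 4300 52 = true := by decide +kernel
theorem p1u15 : ∀ k, 3520 ≤ k → k < 4352 → pointOk (k * 18) = true := between_extend pointOk 18 3520 4300 52 (p1u14) p1r15

theorem p1r16 : allRange pointOk 18 4352 52 = true := by decide +kernel
theorem p1u16 : ∀ k, 3520 ≤ k → k < 4404 → pointOk (k * 18) = true := between_extend pointOk 18 3520 4352 52 (p1u15) p1r16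

theorem p1r17 : allRange pointOk 18 4404 52 = true := by decide +kernel
theorem p1u17 : ∀ k, 3520 ≤ k → k < 4456 → pointOk (k * 18) = true := between_extend pointOk 18 3520 4404 52 (p1u16) p1r17

theorem p1r18 : allRange pointOk 18 4456 52 = true := by decide +kernel
theorem p1u18 : ∀ k, 3520 ≤ k → k < 4508 → pointOk (k * 18) = true := between_extend pointOk 18 3520 4456 52 (p1u17) p1r18

theorem p1r19 : allRange pointOk 18 4508 52 = true := by decide +kernel
theorem p1u19 : ∀ k, 3520 ≤ k → k < 4560 → pointOk (k * 18) = true := between_extend pointOk 18 3520 4508 52 (p1u18) p1r19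

theorem p1r20 : allRange pointOk 18 4560 52 = true := by decide +kernel
theorem p1u20 : ∀ k, 3520 ≤ k → k < 4612 → pointOk (k * 18) = true := between_extend pointOk 18 3520 4560 52 (p1u19) p1r20

theorem p1r21 : allRange pointOk 18 4612 52 = true := by decide +kernel
theorem p1u21 : ∀ k, 3520 ≤ k → k < 4664 → pointOk (k * 18) = true := between_extend pointOk 18 3520 4612 52 (p1u20) p1r21

theorem p1r22 : allRange pointOk 18 4664 52 = true := by decide +kernel
theorem p1u22 : ∀ k, 3520 ≤ k → k < 4716 → pointOk (k * 18) = true := between_extend pointOk 18 3520 4664 52 (p1u21) p1r22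

theorem p1r23 : allRange pointOk 18 4716 52 = true := by decide +kernel
theorem p1u23 : ∀ k, 3520 ≤ k → k < 4768 → pointOk (k * 18) = true := between_extend pointOk 18 3520 4716 52 (p1u22) p1r23

theorem p1r24 : allRange pointOk 18 4768 52 = true := by decide +kernel
theorem p1u24 : ∀ k, 3520 ≤ k → k < 4820 → pointOk (k * 18) = true := between_extend pointOk 18 3520 4768 52 (p1u23) p1r24

theorem p1r25 : allRange pointOk 18 4820 52 = true := by decide +kernel
theorem p1u25 : ∀ k, 3520 ≤ k → k < 4872 → pointOk (k * 18) = true := between_extend pointOk 18 3520 4820 52 (p1u24) p1r25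

theorem p1r26 : allRange pointOk 18 4872 52 = true := by decide +kernel
theorem p1u26 : ∀ k, 3520 ≤ k → k < 4924 → pointOk (k * 18) = true := between_extend pointOk 18 3520 4872 52 (p1u25) p1r26

theorem p1r27 : allRange pointOk 18 4924 52 = true := by decide +kernel
theorem p1u27 : ∀ k, 3520 ≤ k → k < 4976 → pointOk (k * 18) = true := between_extend pointOk 18 3520 4924 52 (p1u26) p1r27

theorem p1r28 : allRange pointOk 18 4976 52 = true := by decide +kernel
theorem p1u28 : ∀ k, 3520 ≤ k → k < 5028 → pointOk (k * 18) = true := between_extend pointOk 18 3520 4976 52 (p1u27) p1r28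

theorem p1r29 : allRange pointOk 18 5028 52 = true := by decide +kernel
theorem p1u29 : ∀ k, 3520 ≤ k → k < 5080 → pointOk (k * 18) = true := between_extend pointOk 18 3520 5028 52 (p1u28) p1r29

theorem p1r30 : allRange pointOk 18 5080 52 = true := by decide +kernel
theorem p1u30 : ∀ k, 3520 ≤ k → k < 5132 → pointOk (k * 18) = true := between_extend pointOk 18 3520 5080 52 (p1u29) p1r30

theorem p1r31 : allRange pointOk 18 5132 52 = true := by decide +kernel
theorem p1u31 : ∀ k, 3520 ≤ k → k < 5184 → pointOk (k * 18) = true := between_extend pointOk 18 3520 5132 52 (p1u30) p1r31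

theorem p1r32 : allRange pointOk 18 5184 52 = true := by decide +kernel
theorem p1u32 : ∀ k, 3520 ≤ k → k < 5236 → pointOk (k * 18) = true := between_extend pointOk 18 3520 5184 52 (p1u31) p1r32

theorem p1r33 : allRange pointOk 18 5236 52 = true := by decide +kernel
theorem p1u33 : ∀ k, 3520 ≤ k → k < 5288 → pointOk (k * 18) = true := between_extend pointOk 18 3520 5236 52 (p1u32) p1r33

theorem p1r34 : allRange pointOk 18 5288 52 = true := by decide +kernel
theorem p1u34 : ∀ k, 3520 ≤ k → k < 5340 → pointOk (k * 18) = true := between_extend pointOk 18 3520 5288 52 (p1u33) p1r34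

theorem p1r35 : allRange pointOk 18 5340 52 = true := by decide +kernel
theorem p1u35 : ∀ k, 3520 ≤ k → k < 5392 → pointOk (k * 18) = true := between_extend pointOk 18 3520 5340 52 (p1u34) p1r35

theorem p1r36 : allRange pointOk 18 5392 52 = true := by decide +kernel
theorem p1u36 : ∀ k, 3520 ≤ k → k < 5444 → pointOk (k * 18) = true := between_extend pointOk 18 3520 5392 52 (p1u35) p1r36

theorem p1r37 : allRange pointOk 18 5444 52 = true := by decide +kernel
theorem p1u37 : ∀ k, 3520 ≤ k → k < 5496 → pointOk (k * 18) = true := between_extend pointOk 18 3520 5444 52 (p1u36) p1r37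

theorem p1r38 : allRange pointOk 18 5496 52 = true := by decide +kernel
theorem p1u38 : ∀ k, 3520 ≤ k → k < 5548 → pointOk (k * 18) = true := between_extend pointOk 18 3520 5496 52 (p1u37) p1r38

theorem p1r39 : allRange pointOk 18 5548 52 = true := by decide +kernel
theorem p1u39 : ∀ k, 3520 ≤ k → k < 5600 → pointOk (k * 18) = true := between_extend pointOk 18 3520 5548 52 (p1u38) p1r39

theorem p1r40 : allRange pointOk 18 5600 52 = true := by decide +kernel
theorem p1u40 : ∀ k, 3520 ≤ k → k < 5652 → pointOk (k * 18) = true := between_extend pointOk 18 3520 5600 52 (p1u39) p1r40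

theorem p1r41 : allRange pointOk 18 5652 52 = true := by decide +kernel
theorem p1u41 : ∀ k, 3520 ≤ k → k < 5704 → pointOk (k * 18) = true := between_extend pointOk 18 3520 5652 52 (p1u40) p1r41

theorem p1r42 : allRange pointOk 18 5704 52 = true := by decide +kernel
theorem p1u42 : ∀ k, 3520 ≤ k → k < 5756 → pointOk (k * 18) = true := between_extend pointOk 18 3520 5704 52 (p1u41) p1r42

theorem p1r43 : allRange pointOk 18 5756 52 = true := by decide +kernel
theorem p1u43 : ∀ k, 3520 ≤ k → k < 5808 → pointOk (k * 18) = true := between_extend pointOk 18 3520 5756 52 (p1u42) p1r43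

theorem p1r44 : allRange pointOk 18 5808 52 = true := by decide +kernel
theorem p1u44 : ∀ k, 3520 ≤ k → k < 5860 → pointOk (k * 18) = true := between_extend pointOk 18 3520 5808 52 (p1u43) p1r44

theorem p1r45 : allRange pointOk 18 5860 52 = true := by decide +kernel
theorem p1u45 : ∀ k, 3520 ≤ k → k < 5912 → pointOk (k * 18) = true := between_extend pointOk 18 3520 5860 52 (p1u44) p1r45

theorem p1r46 : allRange pointOk 18 5912 52 = true := by decide +kernel
theorem p1u46 : ∀ k, 3520 ≤ k → k < 5964 → pointOk (k * 18) = true := between_extend pointOk 18 3520 5912 52 (p1u45) p1r46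

theorem p1r47 : allRange pointOk 18 5964 52 = true := by decide +kernel
theorem p1u47 : ∀ k, 3520 ≤ k → k < 6016 → pointOk (k * 18) = true := between_extend pointOk 18 3520 5964 52 (p1u46) p1r47

theorem p1r48 : allRange pointOk 18 6016 52 = true := by decide +kernel
theorem p1u48 : ∀ k, 3520 ≤ k → k < 6068 → pointOk (k * 18) = true := between_extend pointOk 18 3520 6016 52 (p1u47) p1r48

theorem p1r49 : allRange pointOk 18 6068 52 = true := by decide +kernel
theorem p1u49 : ∀ k, 3520 ≤ k → k < 6120 → pointOk (k * 18) = true := between_extend pointOk 18 3520 6068 52 (p1u48) p1r49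

theorem p1r50 : allRange pointOk 18 6120 52 = true := by decide +kernel
theorem p1u50 : ∀ k, 3520 ≤ k → k < 6172 → pointOk (k * 18) = true := between_extend pointOk 18 3520 6120 52 (p1u49) p1r50

theorem p1r51 : allRange pointOk 18 6172 52 = true := by decide +kernel
theorem p1u51 : ∀ k, 3520 ≤ k → k < 6224 → pointOk (k * 18) = true := between_extend pointOk 18 3520 6172 52 (p1u50) p1r51

theorem p1r52 : allRange pointOk 18 6224 52 = true := by decide +kernel
theorem p1u52 : ∀ k, 3520 ≤ k → k < 6276 → pointOk (k * 18) = true := between_extend pointOk 18 3520 6224 52 (p1u51) p1r52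

theorem p1r53 : allRange pointOk 18 6276 52 = true := by decide +kernel
theorem p1u53 : ∀ k, 3520 ≤ k → k < 6328 → pointOk (k * 18) = true := between_extend pointOk 18 3520 6276 52 (p1u52) p1r53

theorem p1r54 : allRange pointOk 18 6328 52 = true := by decide +kernel
theorem p1u54 : ∀ k, 3520 ≤ k → k < 6380 → pointOk (k * 18) = true := between_extend pointOk 18 3520 6328 52 (p1u53) p1r54

theorem p1r55 : allRange pointOk 18 6380 52 = true := by decide +kernel
theorem p1u55 : ∀ k, 3520 ≤ k → k < 6432 → pointOk (k * 18) = true := between_extend pointOk 18 3520 6380 52 (p1u54) p1r55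

theorem p1r56 : allRange pointOk 18 6432 52 = true := by decide +kernel
theorem p1u56 : ∀ k, 3520 ≤ k → k < 6484 → pointOk (k * 18) = true := between_extend pointOk 18 3520 6432 52 (p1u55) p1r56

theorem p1r57 : allRange pointOk 18 6484 52 = true := by decide +kernel
theorem p1u57 : ∀ k, 3520 ≤ k → k < 6536 → pointOk (k * 18) = true := between_extend pointOk 18 3520 6484 52 (p1u56) p1r57

theorem p1r58 : allRange pointOk 18 6536 52 = true := by decide +kernel
theorem p1u58 : ∀ k, 3520 ≤ k → k < 6588 → pointOk (k * 18) = true := between_extend pointOk 18 3520 6536 52 (p1u57) p1r58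

theorem p1r59 : allRange pointOk 18 6588 52 = true := by decide +kernel
theorem p1u59 : ∀ k, 3520 ≤ k → k < 6640 → pointOk (k * 18) = true := between_extend pointOk 18 3520 6588 52 (p1u58) p1r59

theorem p1r60 : allRange pointOk 18 6640 52 = true := by decide +kernel
theorem p1u60 : ∀ k, 3520 ≤ k → k < 6692 → pointOk (k * 18) = true := between_extend pointOk 18 3520 6640 52 (p1u59) p1r60

theorem p1r61 : allRange pointOk 18 6692 52 = true := by decide +kernel
theorem p1u61 : ∀ k, 3520 ≤ k → k < 6744 → pointOk (k * 18) = true := between_extend pointOk 18 3520 6692 52 (p1u60) p1r61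

theorem p1r62 : allRange pointOk 18 6744 52 = true := by decide +kernel
theorem p1u62 : ∀ k, 3520 ≤ k → k < 6796 → pointOk (k * 18) = true := between_extend pointOk 18 3520 6744 52 (p1u61) p1r62

theorem p1r63 : allRange pointOk 18 6796 52 = true := by decide +kernel
theorem p1u63 : ∀ k, 3520 ≤ k → k < 6848 → pointOk (k * 18) = true := between_extend pointOk 18 3520 6796 52 (p1u62) p1r63

theorem p1r64 : allRange pointOk 18 6848 52 = true := by decide +kernel
theorem p1u64 : ∀ k, 3520 ≤ k → k < 6900 → pointOk (k * 18) = true := between_extend pointOk 18 3520 6848 52 (p1u63) p1r64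

theorem p1r65 : allRange pointOk 18 6900 52 = true := by decide +kernel
theorem p1u65 : ∀ k, 3520 ≤ k → k < 6952 → pointOk (k * 18) = true := between_extend pointOk 18 3520 6900 52 (p1u64) p1r65

theorem p1r66 : allRange pointOk 18 6952 52 = true := by decide +kernel
theorem p1u66 : ∀ k, 3520 ≤ k → k < 7004 → pointOk (k * 18) = true := between_extend pointOk 18 3520 6952 52 (p1u65) p1r66

theorem p1r67 : allRange pointOk 18 7004 36 = true := by decide +kernel
theorem p1u67 : ∀ k, 3520 ≤ k → k < 7040 → pointOk (k * 18) = true := between_extend pointOk 18 3520 7004 36 (p1u66) p1r67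

theorem p1 : ∀ k, 3520 ≤ k → k < 7040 → pointOk (k * 18) = true := p1u67

end Cfsg.Agent.Lib.Helper28_S1685
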