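import Cfsg.Agent.Lib.Helper28_S1685Def

set_option autoImplicit false
set_option linter.constructorNameAsVariable false
set_option Elab.async false

namespace Cfsg.Agent.Lib.Helper28_S1685

open Cfsg.Agent.Lib.Helper28_CosetPerm

theorem p2r0 : allRange pointOk 18 7040 52 = true := by decide +kernel
theorem p2u0 : ∀ k, 7040 ≤ k → k < 7092 → pointOk (k * 18) = true := between_extend pointOk 18 7040 7040 52 (between_start pointOk 18 7040) p2r0

theorem p2r1 : allRange pointOk 18 7092 52 = true := by decide +kernel
theorem p2u1 : ∀ k, 7040 ≤ k → k < 7144 → pointOk (k * 18) = true := between_extend pointOk 18 7040 7092 52 (p2u0) p2r1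

theorem p2r2 : allRange pointOk 18 7144 52 = true := by decide +kernel
theorem p2u2 : ∀ k, 7040 ≤ k → k < 7196 → pointOk (k * 18) = true := between_extend pointOk 18 7040 7144 52 (p2u1) p2r2

theorem p2r3 : allRange pointOk 18 7196 52 = true := by decide +kernel
theorem p2u3 : ∀ k, 7040 ≤ k → k < 7248 → pointOk (k * 18) = true := between_extend pointOk 18 7040 7196 52 (p2u2) p2r3

theorem p2r4 : allRange pointOk 18 7248 52 = true := by decide +kernel
theorem p2u4 : ∀ k, 7040 ≤ k → k < 7300 → pointOk (k * 18) = true := between_extend pointOk 18 7040 7248 52 (p2u3) p2r4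

theorem p2r5 : allRange pointOk 18 7300 52 = true := by decide +kernel
theorem p2u5 : ∀ k, 7040 ≤ k → k < 7352 → pointOk (k * 18) = true := between_extend pointOk 18 7040 7300 52 (p2u4) p2r5

theorem p2r6 : allRange pointOk 18 7352 52 = true := by decide +kernel
theorem p2u6 : ∀ k, 7040 ≤ k → k < 7404 → pointOk (k * 18) = true := between_extend pointOk 18 7040 7352 52 (p2u5) p2r6

theorem p2r7 : allRange pointOk 18 7404 52 = true := by decide +kernel
theorem p2u7 : ∀ k, 7040 ≤ k → k < 7456 → pointOk (k * 18) = true := between_extend pointOk 18 7040 7404 52 (p2u6) p2r7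

theorem p2r8 : allRange pointOk 18 7456 52 = true := by decide +kernel
theorem p2u8 : ∀ k, 7040 ≤ k → k < 7508 → pointOk (k * 18) = true := between_extend pointOk 18 7040 7456 52 (p2u7) p2r8

theorem p2r9 : allRange pointOk 18 7508 52 = true := by decide +kernel
theorem p2u9 : ∀ k, 7040 ≤ k → k < 7560 → pointOk (k * 18) = true := between_extend pointOk 18 7040 7508 52 (p2u8) p2r9

theorem p2r10 : allRange pointOk 18 7560 52 = true := by decide +kernel
theorem p2u10 : ∀ k, 7040 ≤ k → k < 7612 → pointOk (k * 18) = true := between_extend pointOk 18 7040 7560 52 (p2u9) p2r10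

theorem p2r11 : allRange pointOk 18 7612 52 = true := by decide +kernel
theorem p2u11 : ∀ k, 7040 ≤ k → k < 7664 → pointOk (k * 18) = true := between_extend pointOk 18 7040 7612 52 (p2u10) p2r11

theorem p2r12 : allRange pointOk 18 7664 52 = true := by decide +kernel
theorem p2u12 : ∀ k, 7040 ≤ k → k < 7716 → pointOk (k * 18) = true := between_extend pointOk 18 7040 7664 52 (p2u11) p2r12

theorem p2r13 : allRange pointOk 18 7716 52 = true := by decide +kernel
theorem p2u13 : ∀ k, 7040 ≤ k → k < 7768 → pointOk (k * 18) = true := between_extend pointOk 18 7040 7716 52 (p2u12) p2r13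

theorem p2r14 : allRange pointOk 18 7768 52 = true := by decide +kernel
theorem p2u14 : ∀ k, 7040 ≤ k → k < 7820 → pointOk (k * 18) = true := between_extend pointOk 18 7040 7768 52 (p2u13) p2r14

theorem p2r15 : allRange pointOk 18 7820 52 = true := by decide +kernel
theorem p2u15 : ∀ k, 7040 ≤ k → k < 7872 → pointOk (k * 18) = true := between_extend pointOk 18 7040 7820 52 (p2u14) p2r15

theorem p2r16 : allRange pointOk 18 7872 52 = true := by decide +kernel
theorem p2u16 : ∀ k, 7040 ≤ k → k < 7924 → pointOk (k * 18) = true := between_extend pointOk 18 7040 7872 52 (p2u15) p2r16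

theorem p2r17 : allRange pointOk 18 7924 52 = true := by decide +kernel
theorem p2u17 : ∀ k, 7040 ≤ k → k < 7976 → pointOk (k * 18) = true := between_extend pointOk 18 7040 7924 52 (p2u16) p2r17

theorem p2r18 : allRange pointOk 18 7976 52 = true := by decide +kernel
theorem p2u18 : ∀ k, 7040 ≤ k → k < 8028 → pointOk (k * 18) = true := between_extend pointOk 18 7040 7976 52 (p2u17) p2r18

theorem p2r19 : allRange pointOk 18 8028 52 = true := by decide +kernel
theorem p2u19 : ∀ k, 7040 ≤ k → k < 8080 → pointOk (k * 18) = true := between_extend pointOk 18 7040 8028 52 (p2u18) p2r19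

theorem p2r20 : allRange pointOk 18 8080 52 = true := by decide +kernel
theorem p2u20 : ∀ k, 7040 ≤ k → k < 8132 → pointOk (k * 18) = true := between_extend pointOk 18 7040 8080 52 (p2u19) p2r20

theorem p2r21 : allRange pointOk 18 8132 52 = true := by decide +kernel
theorem p2u21 : ∀ k, 7040 ≤ k → k < 8184 → pointOk (k * 18) = true := between_extend pointOk 18 7040 8132 52 (p2u20) p2r21

theorem p2r22 : allRange pointOk 18 8184 52 = true := by decide +kernel
theorem p2u22 : ∀ k, 7040 ≤ k → k < 8236 → pointOk (k * 18) = true := between_extend pointOk 18 7040 8184 52 (p2u21) p2r22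

theorem p2r23 : allRange pointOk 18 8236 52 = true := by decide +kernel
theorem p2u23 : ∀ k, 7040 ≤ k → k < 8288 → pointOk (k * 18) = true := between_extend pointOk 18 7040 8236 52 (p2u22) p2r23

theorem p2r24 : allRange pointOk 18 8288 52 = true := by decide +kernel
theorem p2u24 : ∀ k, 7040 ≤ k → k < 8340 → pointOk (k * 18) = true := between_extend pointOk 18 7040 8288 52 (p2u23) p2r24

theorem p2r25 : allRange pointOk 18 8340 52 = true := by decide +kernel
theorem p2u25 : ∀ k, 7040 ≤ k → k < 8392 → pointOk (k * 18) = true := between_extend pointOk 18 7040 8340 52 (p2u24) p2r25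

theorem p2r26 : allRange pointOk 18 8392 52 = true := by decide +kernel
theorem p2u26 : ∀ k, 7040 ≤ k → k < 8444 → pointOk (k * 18) = true := between_extend pointOk 18 7040 8392 52 (p2u25) p2r26

theorem p2r27 : allRange pointOk 18 8444 52 = true := by decide +kernel
theorem p2u27 : ∀ k, 7040 ≤ k → k < 8496 → pointOk (k * 18) = true := between_extend pointOk 18 7040 8444 52 (p2u26) p2r27

theorem p2r28 : allRange pointOk 18 8496 52 = true := by decide +kernel
theorem p2u28 : ∀ k, 7040 ≤ k → k < 8548 → pointOk (k * 18) = true := between_extend pointOk 18 7040 8496 52 (p2u27) p2r28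

theorem p2r29 : allRange pointOk 18 8548 52 = true := by decide +kernel
theorem p2u29 : ∀ k, 7040 ≤ k → k < 8600 → pointOk (k * 18) = true := between_extend pointOk 18 7040 8548 52 (p2u28) p2r29

theorem p2r30 : allRange pointOk 18 8600 52 = true := by decide +kernel
theorem p2u30 : ∀ k, 7040 ≤ k → k < 8652 → pointOk (k * 18) = true := between_extend pointOk 18 7040 8600 52 (p2u29) p2r30

theorem p2r31 : allRange pointOk 18 8652 52 = true := by decide +kernel
theorem p2u31 : ∀ k, 7040 ≤ k → k < 8704 → pointOk (k * 18) = true := between_extend pointOk 18 7040 8652 52 (p2u30) p2r31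

theorem p2r32 : allRange pointOk 18 8704 52 = true := by decide +kernel
theorem p2u32 : ∀ k, 7040 ≤ k → k < 8756 → pointOk (k * 18) = true := between_extend pointOk 18 7040 8704 52 (p2u31) p2r32

theorem p2r33 : allRange pointOk 18 8756 52 = true := by decide +kernel
theorem p2u33 : ∀ k, 7040 ≤ k → k < 8808 → pointOk (k * 18) = true := between_extend pointOk 18 7040 8756 52 (p2u32) p2r33

theorem p2r34 : allRange pointOk 18 8808 52 = true := by decide +kernel
theorem p2u34 : ∀ k, 7040 ≤ k → k < 8860 → pointOk (k * 18) = true := between_extend pointOk 18 7040 8808 52 (p2u33) p2r34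

theorem p2r35 : allRange pointOk 18 8860 52 = true := by decide +kernel
theorem p2u35 : ∀ k, 7040 ≤ k → k < 8912 → pointOk (k * 18) = true := between_extend pointOk 18 7040 8860 52 (p2u34) p2r35

theorem p2r36 : allRange pointOk 18 8912 52 = true := by decide +kernel
theorem p2u36 : ∀ k, 7040 ≤ k → k < 8964 → pointOk (k * 18) = true := between_extend pointOk 18 7040 8912 52 (p2u35) p2r36

theorem p2r37 : allRange pointOk 18 8964 52 = true := by decide +kernel
theorem p2u37 : ∀ k, 7040 ≤ k → k < 9016 → pointOk (k * 18) = true := between_extend pointOk 18 7040 8964 52 (p2u36) p2r37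

theorem p2r38 : allRange pointOk 18 9016 52 = true := by decide +kernel
theorem p2u38 : ∀ k, 7040 ≤ k → k < 9068 → pointOk (k * 18) = true := between_extend pointOk 18 7040 9016 52 (p2u37) p2r38

theorem p2r39 : allRange pointOk 18 9068 52 = true := by decide +kernel
theorem p2u39 : ∀ k, 7040 ≤ k → k < 9120 → pointOk (k * 18) = true := between_extend pointOk 18 7040 9068 52 (p2u38) p2r39

theorem p2r40 : allRange pointOk 18 9120 52 = true := by decide +kernel
theorem p2u40 : ∀ k, 7040 ≤ k → k < 9172 → pointOk (k * 18) = true := between_extend pointOk 18 7040 9120 52 (p2u39) p2r40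

theorem p2r41 : allRange pointOk 18 9172 52 = true := by decide +kernel
theorem p2u41 : ∀ k, 7040 ≤ k → k < 9224 → pointOk (k * 18) = true := between_extend pointOk 18 7040 9172 52 (p2u40) p2r41

theorem p2r42 : allRange pointOk 18 9224 52 = true := by decide +kernel
theorem p2u42 : ∀ k, 7040 ≤ k → k < 9276 → pointOk (k * 18) = true := between_extend pointOk 18 7040 9224 52 (p2u41) p2r42

theorem p2r43 : allRange pointOk 18 9276 52 = true := by decide +kernel
theorem p2u43 : ∀ k, 7040 ≤ k → k < 9328 → pointOk (k * 18) = true := between_extend pointOk 18 7040 9276 52 (p2u42) p2r43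

theorem p2r44 : allRange pointOk 18 9328 52 = true := by decide +kernel
theorem p2u44 : ∀ k, 7040 ≤ k → k < 9380 → pointOk (k * 18) = true := between_extend pointOk 18 7040 9328 52 (p2u43) p2r44

theorem p2r45 : allRange pointOk 18 9380 52 = true := by decide +kernel
theorem p2u45 : ∀ k, 7040 ≤ k → k < 9432 → pointOk (k * 18) = true := between_extend pointOk 18 7040 9380 52 (p2u44) p2r45

theorem p2r46 : allRange pointOk 18 9432 52 = true := by decide +kernel
theorem p2u46 : ∀ k, 7040 ≤ k → k < 9484 → pointOk (k * 18) = true := between_extend pointOk 18 7040 9432 52 (p2u45) p2r46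

theorem p2r47 : allRange pointOk 18 9484 52 = true := by decide +kernel
theorem p2u47 : ∀ k, 7040 ≤ k → k < 9536 → pointOk (k * 18) = true := between_extend pointOk 18 7040 9484 52 (p2u46) p2r47

theorem p2r48 : allRange pointOk 18 9536 52 = true := by decide +kernel
theorem p2u48 : ∀ k, 7040 ≤ k → k < 9588 → pointOk (k * 18) = true := between_extend pointOk 18 7040 9536 52 (p2u47) p2r48

theorem p2r49 : allRange pointOk 18 9588 52 = true := by decide +kernel
theorem p2u49 : ∀ k, 7040 ≤ k → k < 9640 → pointOk (k * 18) = true := between_extend pointOk 18 7040 9588 52 (p2u48) p2r49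

theorem p2r50 : allRange pointOk 18 9640 52 = true := by decide +kernel
theorem p2u50 : ∀ k, 7040 ≤ k → k < 9692 → pointOk (k * 18) = true := between_extend pointOk 18 7040 9640 52 (p2u49) p2r50

theorem p2r51 : allRange pointOk 18 9692 52 = true := by decide +kernel
theorem p2u51 : ∀ k, 7040 ≤ k → k < 9744 → pointOk (k * 18) = true := between_extend pointOk 18 7040 9692 52 (p2u50) p2r51

theorem p2r52 : allRange pointOk 18 9744 52 = true := by decide +kernel
theorem p2u52 : ∀ k, 7040 ≤ k → k < 9796 → pointOk (k * 18) = true := between_extend pointOk 18 7040 9744 52 (p2u51) p2r52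

theorem p2r53 : allRange pointOk 18 9796 52 = true := by decide +kernel
theorem p2u53 : ∀ k, 7040 ≤ k → k < 9848 → pointOk (k * 18) = true := between_extend pointOk 18 7040 9796 52 (p2u52) p2r53

theorem p2r54 : allRange pointOk 18 9848 52 = true := by decide +kernel
theorem p2u54 : ∀ k, 7040 ≤ k → k < 9900 → pointOk (k * 18) = true := between_extend pointOk 18 7040 9848 52 (p2u53) p2r54

theorem p2r55 : allRange pointOk 18 9900 52 = true := by decide +kernel
theorem p2u55 : ∀ k, 7040 ≤ k → k < 9952 → pointOk (k * 18) = true := between_extend pointOk 18 7040 9900 52 (p2u54) p2r55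

theorem p2r56 : allRange pointOk 18 9952 52 = true := by decide +kernel
theorem p2u56 : ∀ k, 7040 ≤ k → k < 10004 → pointOk (k * 18) = true := between_extend pointOk 18 7040 9952 52 (p2u55) p2r56

theorem p2r57 : allRange pointOk 18 10004 52 = true := by decide +kernel
theorem p2u57 : ∀ k, 7040 ≤ k → k < 10056 → pointOk (k * 18) = true := between_extend pointOk 18 7040 10004 52 (p2u56) p2r57

theorem p2r58 : allRange pointOk 18 10056 52 = true := by decide +kernel
theorem p2u58 : ∀ k, 7040 ≤ k → k < 10108 → pointOk (k * 18) = true := between_extend pointOk 18 7040 10056 52 (p2u57) p2r58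

theorem p2r59 : allRange pointOk 18 10108 52 = true := by decide +kernel
theorem p2u59 : ∀ k, 7040 ≤ k → k < 10160 → pointOk (k * 18) = true := between_extend pointOk 18 7040 10108 52 (p2u58) p2r59

theorem p2r60 : allRange pointOk 18 10160 52 = true := by decide +kernel
theorem p2u60 : ∀ k, 7040 ≤ k → k < 10212 → pointOk (k * 18) = true := between_extend pointOk 18 7040 10160 52 (p2u59) p2r60

theorem p2r61 : allRange pointOk 18 10212 52 = true := by decide +kernel
theorem p2u61 : ∀ k, 7040 ≤ k → k < 10264 → pointOk (k * 18) = true := between_extend pointOk 18 7040 10212 52 (p2u60) p2r61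

theorem p2r62 : allRange pointOk 18 10264 52 = true := by decide +kernel
theorem p2u62 : ∀ k, 7040 ≤ k → k < 10316 → pointOk (k * 18) = true := between_extend pointOk 18 7040 10264 52 (p2u61) p2r62

theorem p2r63 : allRange pointOk 18 10316 52 = true := by decide +kernel
theorem p2u63 : ∀ k, 7040 ≤ k → k < 10368 → pointOk (k * 18) = true := between_extend pointOk 18 7040 10316 52 (p2u62) p2r63

theorem p2r64 : allRange pointOk 18 10368 52 = true := by decide +kernel
theorem p2u64 : ∀ k, 7040 ≤ k → k < 10420 → pointOk (k * 18) = true := between_extend pointOk 18 7040 10368 52 (p2u63) p2r64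

theorem p2r65 : allRange pointOk 18 10420 52 = true := by decide +kernel
theorem p2u65 : ∀ k, 7040 ≤ k → k < 10472 → pointOk (k * 18) = true := between_extend pointOk 18 7040 10420 52 (p2u64) p2r65

theorem p2r66 : allRange pointOk 18 10472 52 = true := by decide +kernel
theorem p2u66 : ∀ k, 7040 ≤ k → k < 10524 → pointOk (k * 18) = true := between_extend pointOk 18 7040 10472 52 (p2u65) p2r66

theorem p2r67 : allRange pointOk 18 10524 36 = true := by decide +kernel
theorem p2u67 : ∀ k, 7040 ≤ k → k < 10560 → pointOk (k * 18) = true := between_extend pointOk 18 7040 10524 36 (p2u66) p2r67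

theorem p2 : ∀ k, 7040 ≤ k → k < 10560 → pointOk (k * 18) = true := p2u67

end Cfsg.Agent.Lib.Helper28_S1685
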