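import Cfsg.Agent.Lib.Helper28_S1685Def

set_option autoImplicit false
set_option linter.constructorNameAsVariable false
set_option Elab.async false

namespace Cfsg.Agent.Lib.Helper28_S1685

open Cfsg.Agent.Lib.Helper28_CosetPerm

theorem p3r0 : allRange pointOk 18 10560 52 = true := by decide +kernel
theorem p3u0 : ∀ k, 10560 ≤ k → k < 10612 → pointOk (k * 18) = true := between_extend pointOk 18 10560 10560 52 (between_start pointOk 18 10560) p3r0

theorem p3r1 : allRange pointOk 18 10612 52 = true := by decide +kernel
theorem p3u1 : ∀ k, 10560 ≤ k → k < 10664 → pointOk (k * 18) = true := between_extend pointOk 18 10560 10612 52 (p3u0) p3r1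

theorem p3r2 : allRange pointOk 18 10664 52 = true := by decide +kernel
theorem p3u2 : ∀ k, 10560 ≤ k → k < 10716 → pointOk (k * 18) = true := between_extend pointOk 18 10560 10664 52 (p3u1) p3r2

theorem p3r3 : allRange pointOk 18 10716 52 = true := by decide +kernel
theorem p3u3 : ∀ k, 10560 ≤ k → k < 10768 → pointOk (k * 18) = true := between_extend pointOk 18 10560 10716 52 (p3u2) p3r3

theorem p3r4 : allRange pointOk 18 10768 52 = true := by decide +kernel
theorem p3u4 : ∀ k, 10560 ≤ k → k < 10820 → pointOk (k * 18) = true := between_extend pointOk 18 10560 10768 52 (p3u3) p3r4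

theorem p3r5 : allRange pointOk 18 10820 52 = true := by decide +kernel
theorem p3u5 : ∀ k, 10560 ≤ k → k < 10872 → pointOk (k * 18) = true := between_extend pointOk 18 10560 10820 52 (p3u4) p3r5

theorem p3r6 : allRange pointOk 18 10872 52 = true := by decide +kernel
theorem p3u6 : ∀ k, 10560 ≤ k → k < 10924 → pointOk (k * 18) = true := between_extend pointOk 18 10560 10872 52 (p3u5) p3r6

theorem p3r7 : allRange pointOk 18 10924 52 = true := by decide +kernel
theorem p3u7 : ∀ k, 10560 ≤ k → k < 10976 → pointOk (k * 18) = true := between_extend pointOk 18 10560 10924 52 (p3u6) p3r7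

theorem p3r8 : allRange pointOk 18 10976 52 = true := by decide +kernel
theorem p3u8 : ∀ k, 10560 ≤ k → k < 11028 → pointOk (k * 18) = true := between_extend pointOk 18 10560 10976 52 (p3u7) p3r8

theorem p3r9 : allRange pointOk 18 11028 52 = true := by decide +kernel
theorem p3u9 : ∀ k, 10560 ≤ k → k < 11080 → pointOk (k * 18) = true := between_extend pointOk 18 10560 11028 52 (p3u8) p3r9

theorem p3r10 : allRange pointOk 18 11080 52 = true := by decide +kernel
theorem p3u10 : ∀ k, 10560 ≤ k → k < 11132 → pointOk (k * 18) = true := between_extend pointOk 18 10560 11080 52 (p3u9) p3r10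

theorem p3r11 : allRange pointOk 18 11132 52 = true := by decide +kernel
theorem p3u11 : ∀ k, 10560 ≤ k → k < 11184 → pointOk (k * 18) = true := between_extend pointOk 18 10560 11132 52 (p3u10) p3r11

theorem p3r12 : allRange pointOk 18 11184 52 = true := by decide +kernel
theorem p3u12 : ∀ k, 10560 ≤ k → k < 11236 → pointOk (k * 18) = true := between_extend pointOk 18 10560 11184 52 (p3u11) p3r12

theorem p3r13 : allRange pointOk 18 11236 52 = true := by decide +kernel
theorem p3u13 : ∀ k, 10560 ≤ k → k < 11288 → pointOk (k * 18) = true := between_extend pointOk 18 10560 11236 52 (p3u12) p3r13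

theorem p3r14 : allRange pointOk 18 11288 52 = true := by decide +kernel
theorem p3u14 : ∀ k, 10560 ≤ k → k < 11340 → pointOk (k * 18) = true := between_extend pointOk 18 10560 11288 52 (p3u13) p3r14

theorem p3r15 : allRange pointOk 18 11340 52 = true := by decide +kernel
theorem p3u15 : ∀ k, 10560 ≤ k → k < 11392 → pointOk (k * 18) = true := between_extend pointOk 18 10560 11340 52 (p3u14) p3r15

theorem p3r16 : allRange pointOk 18 11392 52 = true := by decide +kernel
theorem p3u16 : ∀ k, 10560 ≤ k → k < 11444 → pointOk (k * 18) = true := between_extend pointOk 18 10560 11392 52 (p3u15) p3r16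

theorem p3r17 : allRange pointOk 18 11444 52 = true := by decide +kernel
theorem p3u17 : ∀ k, 10560 ≤ k → k < 11496 → pointOk (k * 18) = true := between_extend pointOk 18 10560 11444 52 (p3u16) p3r17

theorem p3r18 : allRange pointOk 18 11496 52 = true := by decide +kernel
theorem p3u18 : ∀ k, 10560 ≤ k → k < 11548 → pointOk (k * 18) = true := between_extend pointOk 18 10560 11496 52 (p3u17) p3r18

theorem p3r19 : allRange pointOk 18 11548 52 = true := by decide +kernel
theorem p3u19 : ∀ k, 10560 ≤ k → k < 11600 → pointOk (k * 18) = true := between_extend pointOk 18 10560 11548 52 (p3u18) p3r19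

theorem p3r20 : allRange pointOk 18 11600 52 = true := by decide +kernel
theorem p3u20 : ∀ k, 10560 ≤ k → k < 11652 → pointOk (k * 18) = true := between_extend pointOk 18 10560 11600 52 (p3u19) p3r20

theorem p3r21 : allRange pointOk 18 11652 52 = true := by decide +kernel
theorem p3u21 : ∀ k, 10560 ≤ k → k < 11704 → pointOk (k * 18) = true := between_extend pointOk 18 10560 11652 52 (p3u20) p3r21

theorem p3r22 : allRange pointOk 18 11704 52 = true := by decide +kernel
theorem p3u22 : ∀ k, 10560 ≤ k → k < 11756 → pointOk (k * 18) = true := between_extend pointOk 18 10560 11704 52 (p3u21) p3r22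

theorem p3r23 : allRange pointOk 18 11756 52 = true := by decide +kernel
theorem p3u23 : ∀ k, 10560 ≤ k → k < 11808 → pointOk (k * 18) = true := between_extend pointOk 18 10560 11756 52 (p3u22) p3r23

theorem p3r24 : allRange pointOk 18 11808 52 = true := by decide +kernel
theorem p3u24 : ∀ k, 10560 ≤ k → k < 11860 → pointOk (k * 18) = true := between_extend pointOk 18 10560 11808 52 (p3u23) p3r24

theorem p3r25 : allRange pointOk 18 11860 52 = true := by decide +kernel
theorem p3u25 : ∀ k, 10560 ≤ k → k < 11912 → pointOk (k * 18) = true := between_extend pointOk 18 10560 11860 52 (p3u24) p3r25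

theorem p3r26 : allRange pointOk 18 11912 52 = true := by decide +kernel
theorem p3u26 : ∀ k, 10560 ≤ k → k < 11964 → pointOk (k * 18) = true := between_extend pointOk 18 10560 11912 52 (p3u25) p3r26

theorem p3r27 : allRange pointOk 18 11964 52 = true := by decide +kernel
theorem p3u27 : ∀ k, 10560 ≤ k → k < 12016 → pointOk (k * 18) = true := between_extend pointOk 18 10560 11964 52 (p3u26) p3r27

theorem p3r28 : allRange pointOk 18 12016 52 = true := by decide +kernel
theorem p3u28 : ∀ k, 10560 ≤ k → k < 12068 → pointOk (k * 18) = true := between_extend pointOk 18 10560 12016 52 (p3u27) p3r28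

theorem p3r29 : allRange pointOk 18 12068 52 = true := by decide +kernel
theorem p3u29 : ∀ k, 10560 ≤ k → k < 12120 → pointOk (k * 18) = true := between_extend pointOk 18 10560 12068 52 (p3u28) p3r29

theorem p3r30 : allRange pointOk 18 12120 52 = true := by decide +kernel
theorem p3u30 : ∀ k, 10560 ≤ k → k < 12172 → pointOk (k * 18) = true := between_extend pointOk 18 10560 12120 52 (p3u29) p3r30

theorem p3r31 : allRange pointOk 18 12172 52 = true := by decide +kernel
theorem p3u31 : ∀ k, 10560 ≤ k → k < 12224 → pointOk (k * 18) = true := between_extend pointOk 18 10560 12172 52 (p3u30) p3r31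

theorem p3r32 : allRange pointOk 18 12224 52 = true := by decide +kernel
theorem p3u32 : ∀ k, 10560 ≤ k → k < 12276 → pointOk (k * 18) = true := between_extend pointOk 18 10560 12224 52 (p3u31) p3r32

theorem p3r33 : allRange pointOk 18 12276 52 = true := by decide +kernel
theorem p3u33 : ∀ k, 10560 ≤ k → k < 12328 → pointOk (k * 18) = true := between_extend pointOk 18 10560 12276 52 (p3u32) p3r33

theorem p3r34 : allRange pointOk 18 12328 52 = true := by decide +kernel
theorem p3u34 : ∀ k, 10560 ≤ k → k < 12380 → pointOk (k * 18) = true := between_extend pointOk 18 10560 12328 52 (p3u33) p3r34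

theorem p3r35 : allRange pointOk 18 12380 52 = true := by decide +kernel
theorem p3u35 : ∀ k, 10560 ≤ k → k < 12432 → pointOk (k * 18) = true := between_extend pointOk 18 10560 12380 52 (p3u34) p3r35

theorem p3r36 : allRange pointOk 18 12432 52 = true := by decide +kernel
theorem p3u36 : ∀ k, 10560 ≤ k → k < 12484 → pointOk (k * 18) = true := between_extend pointOk 18 10560 12432 52 (p3u35) p3r36

theorem p3r37 : allRange pointOk 18 12484 52 = true := by decide +kernel
theorem p3u37 : ∀ k, 10560 ≤ k → k < 12536 → pointOk (k * 18) = true := between_extend pointOk 18 10560 12484 52 (p3u36) p3r37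

theorem p3r38 : allRange pointOk 18 12536 52 = true := by decide +kernel
theorem p3u38 : ∀ k, 10560 ≤ k → k < 12588 → pointOk (k * 18) = true := between_extend pointOk 18 10560 12536 52 (p3u37) p3r38

theorem p3r39 : allRange pointOk 18 12588 52 = true := by decide +kernel
theorem p3u39 : ∀ k, 10560 ≤ k → k < 12640 → pointOk (k * 18) = true := between_extend pointOk 18 10560 12588 52 (p3u38) p3r39

theorem p3r40 : allRange pointOk 18 12640 52 = true := by decide +kernel
theorem p3u40 : ∀ k, 10560 ≤ k → k < 12692 → pointOk (k * 18) = true := between_extend pointOk 18 10560 12640 52 (p3u39) p3r40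

theorem p3r41 : allRange pointOk 18 12692 52 = true := by decide +kernel
theorem p3u41 : ∀ k, 10560 ≤ k → k < 12744 → pointOk (k * 18) = true := between_extend pointOk 18 10560 12692 52 (p3u40) p3r41

theorem p3r42 : allRange pointOk 18 12744 52 = true := by decide +kernel
theorem p3u42 : ∀ k, 10560 ≤ k → k < 12796 → pointOk (k * 18) = true := between_extend pointOk 18 10560 12744 52 (p3u41) p3r42

theorem p3r43 : allRange pointOk 18 12796 52 = true := by decide +kernel
theorem p3u43 : ∀ k, 10560 ≤ k → k < 12848 → pointOk (k * 18) = true := between_extend pointOk 18 10560 12796 52 (p3u42) p3r43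

theorem p3r44 : allRange pointOk 18 12848 52 = true := by decide +kernel
theorem p3u44 : ∀ k, 10560 ≤ k → k < 12900 → pointOk (k * 18) = true := between_extend pointOk 18 10560 12848 52 (p3u43) p3r44

theorem p3r45 : allRange pointOk 18 12900 52 = true := by decide +kernel
theorem p3u45 : ∀ k, 10560 ≤ k → k < 12952 → pointOk (k * 18) = true := between_extend pointOk 18 10560 12900 52 (p3u44) p3r45

theorem p3r46 : allRange pointOk 18 12952 52 = true := by decide +kernel
theorem p3u46 : ∀ k, 10560 ≤ k → k < 13004 → pointOk (k * 18) = true := between_extend pointOk 18 10560 12952 52 (p3u45) p3r46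

theorem p3r47 : allRange pointOk 18 13004 52 = true := by decide +kernel
theorem p3u47 : ∀ k, 10560 ≤ k → k < 13056 → pointOk (k * 18) = true := between_extend pointOk 18 10560 13004 52 (p3u46) p3r47

theorem p3r48 : allRange pointOk 18 13056 52 = true := by decide +kernel
theorem p3u48 : ∀ k, 10560 ≤ k → k < 13108 → pointOk (k * 18) = true := between_extend pointOk 18 10560 13056 52 (p3u47) p3r48

theorem p3r49 : allRange pointOk 18 13108 52 = true := by decide +kernel
theorem p3u49 : ∀ k, 10560 ≤ k → k < 13160 → pointOk (k * 18) = true := between_extend pointOk 18 10560 13108 52 (p3u48) p3r49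

theorem p3r50 : allRange pointOk 18 13160 52 = true := by decide +kernel
theorem p3u50 : ∀ k, 10560 ≤ k → k < 13212 → pointOk (k * 18) = true := between_extend pointOk 18 10560 13160 52 (p3u49) p3r50

theorem p3r51 : allRange pointOk 18 13212 52 = true := by decide +kernel
theorem p3u51 : ∀ k, 10560 ≤ k → k < 13264 → pointOk (k * 18) = true := between_extend pointOk 18 10560 13212 52 (p3u50) p3r51

theorem p3r52 : allRange pointOk 18 13264 52 = true := by decide +kernel
theorem p3u52 : ∀ k, 10560 ≤ k → k < 13316 → pointOk (k * 18) = true := between_extend pointOk 18 10560 13264 52 (p3u51) p3r52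

theorem p3r53 : allRange pointOk 18 13316 52 = true := by decide +kernel
theorem p3u53 : ∀ k, 10560 ≤ k → k < 13368 → pointOk (k * 18) = true := between_extend pointOk 18 10560 13316 52 (p3u52) p3r53

theorem p3r54 : allRange pointOk 18 13368 52 = true := by decide +kernel
theorem p3u54 : ∀ k, 10560 ≤ k → k < 13420 → pointOk (k * 18) = true := between_extend pointOk 18 10560 13368 52 (p3u53) p3r54

theorem p3r55 : allRange pointOk 18 13420 52 = true := by decide +kernel
theorem p3u55 : ∀ k, 10560 ≤ k → k < 13472 → pointOk (k * 18) = true := between_extend pointOk 18 10560 13420 52 (p3u54) p3r55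

theorem p3r56 : allRange pointOk 18 13472 52 = true := by decide +kernel
theorem p3u56 : ∀ k, 10560 ≤ k → k < 13524 → pointOk (k * 18) = true := between_extend pointOk 18 10560 13472 52 (p3u55) p3r56

theorem p3r57 : allRange pointOk 18 13524 52 = true := by decide +kernel
theorem p3u57 : ∀ k, 10560 ≤ k → k < 13576 → pointOk (k * 18) = true := between_extend pointOk 18 10560 13524 52 (p3u56) p3r57

theorem p3r58 : allRange pointOk 18 13576 52 = true := by decide +kernel
theorem p3u58 : ∀ k, 10560 ≤ k → k < 13628 → pointOk (k * 18) = true := between_extend pointOk 18 10560 13576 52 (p3u57) p3r58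

theorem p3r59 : allRange pointOk 18 13628 52 = true := by decide +kernel
theorem p3u59 : ∀ k, 10560 ≤ k → k < 13680 → pointOk (k * 18) = true := between_extend pointOk 18 10560 13628 52 (p3u58) p3r59

theorem p3r60 : allRange pointOk 18 13680 52 = true := by decide +kernel
theorem p3u60 : ∀ k, 10560 ≤ k → k < 13732 → pointOk (k * 18) = true := between_extend pointOk 18 10560 13680 52 (p3u59) p3r60

theorem p3r61 : allRange pointOk 18 13732 52 = true := by decide +kernel
theorem p3u61 : ∀ k, 10560 ≤ k → k < 13784 → pointOk (k * 18) = true := between_extend pointOk 18 10560 13732 52 (p3u60) p3r61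

theorem p3r62 : allRange pointOk 18 13784 52 = true := by decide +kernel
theorem p3u62 : ∀ k, 10560 ≤ k → k < 13836 → pointOk (k * 18) = true := between_extend pointOk 18 10560 13784 52 (p3u61) p3r62

theorem p3r63 : allRange pointOk 18 13836 52 = true := by decide +kernel
theorem p3u63 : ∀ k, 10560 ≤ k → k < 13888 → pointOk (k * 18) = true := between_extend pointOk 18 10560 13836 52 (p3u62) p3r63

theorem p3r64 : allRange pointOk 18 13888 52 = true := by decide +kernel
theorem p3u64 : ∀ k, 10560 ≤ k → k < 13940 → pointOk (k * 18) = true := between_extend pointOk 18 10560 13888 52 (p3u63) p3r64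

theorem p3r65 : allRange pointOk 18 13940 52 = true := by decide +kernel
theorem p3u65 : ∀ k, 10560 ≤ k → k < 13992 → pointOk (k * 18) = true := between_extend pointOk 18 10560 13940 52 (p3u64) p3r65

theorem p3r66 : allRange pointOk 18 13992 52 = true := by decide +kernel
theorem p3u66 : ∀ k, 10560 ≤ k → k < 14044 → pointOk (k * 18) = true := between_extend pointOk 18 10560 13992 52 (p3u65) p3r66

theorem p3r67 : allRange pointOk 18 14044 36 = true := by decide +kernel
theorem p3u67 : ∀ k, 10560 ≤ k → k < 14080 → pointOk (k * 18) = true := between_extend pointOk 18 10560 14044 36 (p3u66) p3r67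

theorem p3 : ∀ k, 10560 ≤ k → k < 14080 → pointOk (k * 18) = true := p3u67

end Cfsg.Agent.Lib.Helper28_S1685
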