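import Cfsg.Agent.Lib.Helper28_S1685P0
import Cfsg.Agent.Lib.Helper28_S1685P1
import Cfsg.Agent.Lib.Helper28_S1685P2
import Cfsg.Agent.Lib.Helper28_S1685P3

set_option autoImplicit false
set_option linter.constructorNameAsVariable false
set_option Elab.async false

namespace Cfsg.Agent.Lib.Helper28_S1685

open Cfsg.Spor Cfsg.Agent.Lib.Helper28_CosetPerm Cfsg.Agent.Lib.Helper28_CosetCox Cfsg.Agent.Lib.Helper28_S1685Tab

theorem all_ok : ∀ k < 14080, pchk 253440 18 262143 col letters words (k * 18) = true := by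
  intro k hk
  rw [← pointOk_eq]
  exact between_all pointOk 18 14080 (between_trans pointOk 18 0 10560 14080 (between_trans pointOk 18 0 7040 10560 (between_trans pointOk 18 0 3520 7040 p0 p1) p2) p3) k hk

theorem all_letters : ∀ (a : Cfsg.Spor.Fi22.Gen) (b : Bool), (a, b) ∈ letters := by
  intro a b; cases a <;> cases b <;> decide

theorem cox_covered : CoxCovered Fi22.edges words := by decide

theorem extra_covered : ExtraCovered Fi22.extra words := by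
  unfold ExtraCovered; decide

theorem sub_fix : ∀ s ∈ ({Cfsg.Spor.Fi22.b, Cfsg.Spor.Fi22.c, Cfsg.Spor.Fi22.d, Cfsg.Spor.Fi22.e, Cfsg.Spor.Fi22.f, Cfsg.Spor.Fi22.g, Cfsg.Spor.Fi22.h, Cfsg.Spor.Fi22.i} : Set (FreeGroup Cfsg.Spor.Fi22.Gen)), ∃ u : List (Cfsg.Spor.Fi22.Gen × Bool), FreeGroup.mk u = s ∧ walk 262143 col u 0 = 0 := by
  intro s hs
  simp only [Set.mem_insert_iff, Set.mem_singleton_iff] at hs
  rcases hs with rfl | rfl | rfl | rfl | rfl | rfl | rfl | rfl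
  · exact ⟨[(.b, true)], by decide, by decide +kernel⟩
  · exact ⟨[(.c, true)], by decide, by decide +kernel⟩
  · exact ⟨[(.d, true)], by decide, by decide +kernel⟩
  · exact ⟨[(.e, true)], by decide, by decide +kernel⟩
  · exact ⟨[(.f, true)], by decide, by decide +kernel⟩
  · exact ⟨[(.g, true)], by decide, by decide +kernel⟩
  · exact ⟨[(.h, true)], by decide, by decide +kernel⟩
  · exact ⟨[(.i, true)], by decide, by decide +kernel⟩

instance : NeZero (14080 : ℕ) := ⟨by norm_num⟩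

theorem verified : Verified 14080 18 262143 col (Cfsg.Spor.coxRelators Cfsg.Spor.Fi22.edges ∪ {r | r ∈ Cfsg.Spor.Fi22.extra}) ({Cfsg.Spor.Fi22.b, Cfsg.Spor.Fi22.c, Cfsg.Spor.Fi22.d, Cfsg.Spor.Fi22.e, Cfsg.Spor.Fi22.f, Cfsg.Spor.Fi22.g, Cfsg.Spor.Fi22.h, Cfsg.Spor.Fi22.i} : Set (FreeGroup Cfsg.Spor.Fi22.Gen)) :=
  verified_of_table (n := 14080) (w := 18) (mask := 262143) (col := col) 253440 (by norm_num) (by norm_num) letters all_letters Fi22.edges Fi22.extra words all_ok cox_covered extra_covered _ sub_fix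

/-- the lower bound, index part -/
theorem lower_index (hfin : ((Subgroup.closure ({Cfsg.Spor.Fi22.b, Cfsg.Spor.Fi22.c, Cfsg.Spor.Fi22.d, Cfsg.Spor.Fi22.e, Cfsg.Spor.Fi22.f, Cfsg.Spor.Fi22.g, Cfsg.Spor.Fi22.h, Cfsg.Spor.Fi22.i} : Set (FreeGroup Cfsg.Spor.Fi22.Gen))).map (PresentedGroup.mk (Cfsg.Spor.coxRelators Cfsg.Spor.Fi22.edges ∪ {r | r ∈ Cfsg.Spor.Fi22.extra}))).index ≠ 0) (hle : ((Subgroup.closure ({Cfsg.Spor.Fi22.b, Cfsg.Spor.Fi22.c, Cfsg.Spor.Fi22.d, Cfsg.Spor.Fi22.e, Cfsg.Spor.Fi22.f, Cfsg.Spor.Fi22.g, Cfsg.Spor.Fi22.h, Cfsg.Spor.Fi22.i} : Set (FreeGroup Cfsg.Spor.Fi22.Gen))).map (PresentedGroup.mk (Cfsg.Spor.coxRelators Cfsg.Spor.Fi22.edges ∪ {r | r ∈ Cfsg.Spor.Fi22.extra}))).index ≤ 14080) : ((Subgroup.closure ({Cfsg.Spor.Fi22.b, Cfsg.Spor.Fi22.c, Cfsg.Spor.Fi22.d, Cfsg.Spor.Fi22.e, Cfsg.Spor.Fi22.f, Cfsg.Spor.Fi22.g, Cfsg.Spor.Fi22.h, Cfsg.Spor.Fi22.i} : Set (FreeGroup Cfsg.Spor.Fi22.Gen))).map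 (PresentedGroup.mk (Cfsg.Spor.coxRelators Cfsg.Spor.Fi22.edges ∪ {r | r ∈ Cfsg.Spor.Fi22.extra}))).index = 14080 :=
  verified.index_eq hfin hle

end Cfsg.Agent.Lib.Helper28_S1685
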