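import Cfsg.Agent.Lib.Helper28_S1687
import Cfsg.Agent.Lib.Helper28_S1685

set_option autoImplicit false
set_option linter.constructorNameAsVariable false
set_option Elab.async false

namespace Cfsg.Agent.Lib.Helper28_Fi22W0

open Cfsg.Spor Cfsg.Agent.Lib.Helper28_CosetPerm

/-- the word `(a*b*c*d*e*h)^5*a*((a*b*c*d*e*h)^5)^-1*a^-1` -/
def u : List (Cfsg.Spor.Fi22.Gen × Bool) := [(.a, true), (.b, true), (.c, true), (.d, true), (.e, true), (.h, true), (.a, true), (.b, true), (.c, true), (.d, true), (.e, true), (.h, true), (.a, true), (.b, true), (.c, true), (.d, true), (.e, true), (.h, true), (.a, true), (.b, true), (.c, true), (.d, true), (.e, true), (.h, true), (.a, true), (.b, true), (.c, true), (.d, true), (.e, true), (.h, true), (.a, true), (.h, false), (.e, false), (.d, false), (.c, false), (.b, false), (.a, false), (.h, false), (.e, false), (.d, false), (.c, false), (.b, false), (.a, false), (.h, false), (.e, false), (.d, false), (.c, false), (.b, false), (.a, false), (.h, false), (.e, false), (.d, false), (.c, false), (.b, false), (.a,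 false), (.h, false), (.e, false), (.d, false), (.c, false), (.b, false), (.a, false), (.a, false)]

def chkS1687 (x : ℕ) : Bool := Nat.beq (walk 65535 Cfsg.Agent.Lib.Helper28_S1687.col u x) x

theorem rS1687_0 : allRange chkS1687 16 0 689 = true := by decide +kernel
theorem uS1687_0 : ∀ k, 0 ≤ k → k < 689 → chkS1687 (k * 16) = true := between_extend chkS1687 16 0 0 689 (between_start chkS1687 16 0) rS1687_0

theorem rS1687_1 : allRange chkS1687 16 689 689 = true := by decide +kernel
theorem uS1687_1 : ∀ k, 0 ≤ k → k < 1378 → chkS1687 (k * 16) = true := between_extend chkS1687 16 0 689 689 (uS1687_0) rS1687_1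

theorem rS1687_2 : allRange chkS1687 16 1378 689 = true := by decide +kernel
theorem uS1687_2 : ∀ k, 0 ≤ k → k < 2067 → chkS1687 (k * 16) = true := between_extend chkS1687 16 0 1378 689 (uS1687_1) rS1687_2

theorem rS1687_3 : allRange chkS1687 16 2067 689 = true := by decide +kernel
theorem uS1687_3 : ∀ k, 0 ≤ k → k < 2756 → chkS1687 (k * 16) = true := between_extend chkS1687 16 0 2067 689 (uS1687_2) rS1687_3

theorem rS1687_4 : allRange chkS1687 16 2756 689 = true := by decide +kernel
theorem uS1687_4 : ∀ k, 0 ≤ k → k < 3445 → chkS1687 (k * 16) = true := between_extend chkS1687 16 0 2756 689 (uS1687_3) rS1687_4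

theorem rS1687_5 : allRange chkS1687 16 3445 65 = true := by decide +kernel
theorem uS1687_5 : ∀ k, 0 ≤ k → k < 3510 → chkS1687 (k * 16) = true := between_extend chkS1687 16 0 3445 65 (uS1687_4) rS1687_5

theorem trivS1687 : FreeGroup.lift (perm Cfsg.Agent.Lib.Helper28_S1687.verified.hv) (FreeGroup.mk u) = 1 := by
  apply lift_eq_one_of_walk
  intro k hk
  exact Nat.eq_of_beq_eq_true (between_all chkS1687 16 3510 uS1687_5 k hk)

def chkS1685 (x : ℕ) : Bool := Nat.beq (walk 262143 Cfsg.Agent.Lib.Helper28_S1685.col u x) x

theorem rS1685_0 : allRange chkS1685 18 0 152 = true := by decide +kernel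
theorem uS1685_0 : ∀ k, 0 ≤ k → k < 152 → chkS1685 (k * 18) = true := between_extend chkS1685 18 0 0 152 (between_start chkS1685 18 0) rS1685_0

theorem rS1685_1 : allRange chkS1685 18 152 152 = true := by decide +kernel
theorem uS1685_1 : ∀ k, 0 ≤ k → k < 304 → chkS1685 (k * 18) = true := between_extend chkS1685 18 0 152 152 (uS1685_0) rS1685_1

theorem rS1685_2 : allRange chkS1685 18 304 152 = true := by decide +kernel
theorem uS1685_2 : ∀ k, 0 ≤ k → k < 456 → chkS1685 (k * 18) = true := between_extend chkS1685 18 0 304 152 (uS1685_1) rS1685_2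

theorem rS1685_3 : allRange chkS1685 18 456 152 = true := by decide +kernel
theorem uS1685_3 : ∀ k, 0 ≤ k → k < 608 → chkS1685 (k * 18) = true := between_extend chkS1685 18 0 456 152 (uS1685_2) rS1685_3

theorem rS1685_4 : allRange chkS1685 18 608 152 = true := by decide +kernel
theorem uS1685_4 : ∀ k, 0 ≤ k → k < 760 → chkS1685 (k * 18) = true := between_extend chkS1685 18 0 608 152 (uS1685_3) rS1685_4

theorem rS1685_5 : allRange chkS1685 18 760 152 = true := by decide +kernel
theorem uS1685_5 : ∀ k, 0 ≤ k → k < 912 → chkS1685 (k * 18) = true := between_extend chkS1685 18 0 760 152 (uS1685_4) rS1685_5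

theorem rS1685_6 : allRange chkS1685 18 912 152 = true := by decide +kernel
theorem uS1685_6 : ∀ k, 0 ≤ k → k < 1064 → chkS1685 (k * 18) = true := between_extend chkS1685 18 0 912 152 (uS1685_5) rS1685_6

theorem rS1685_7 : allRange chkS1685 18 1064 152 = true := by decide +kernel
theorem uS1685_7 : ∀ k, 0 ≤ k → k < 1216 → chkS1685 (k * 18) = true := between_extend chkS1685 18 0 1064 152 (uS1685_6) rS1685_7

theorem rS1685_8 : allRange chkS1685 18 1216 152 = true := by decide +kernel
theorem uS1685_8 : ∀ k, 0 ≤ k → k < 1368 → chkS1685 (k * 18) = true := between_extend chkS1685 18 0 1216 152 (uS1685_7) rS1685_8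

theorem rS1685_9 : allRange chkS1685 18 1368 152 = true := by decide +kernel
theorem uS1685_9 : ∀ k, 0 ≤ k → k < 1520 → chkS1685 (k * 18) = true := between_extend chkS1685 18 0 1368 152 (uS1685_8) rS1685_9

theorem rS1685_10 : allRange chkS1685 18 1520 152 = true := by decide +kernel
theorem uS1685_10 : ∀ k, 0 ≤ k → k < 1672 → chkS1685 (k * 18) = true := between_extend chkS1685 18 0 1520 152 (uS1685_9) rS1685_10

theorem rS1685_11 : allRange chkS1685 18 1672 152 = true := by decide +kernel
theorem uS1685_11 : ∀ k, 0 ≤ k → k < 1824 → chkS1685 (k * 18) = true := between_extend chkS1685 18 0 1672 152 (uS1685_10) rS1685_11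

theorem rS1685_12 : allRange chkS1685 18 1824 152 = true := by decide +kernel
theorem uS1685_12 : ∀ k, 0 ≤ k → k < 1976 → chkS1685 (k * 18) = true := between_extend chkS1685 18 0 1824 152 (uS1685_11) rS1685_12

theorem rS1685_13 : allRange chkS1685 18 1976 152 = true := by decide +kernel
theorem uS1685_13 : ∀ k, 0 ≤ k → k < 2128 → chkS1685 (k * 18) = true := between_extend chkS1685 18 0 1976 152 (uS1685_12) rS1685_13

theorem rS1685_14 : allRange chkS1685 18 2128 152 = true := by decide +kernel
theorem uS1685_14 : ∀ k, 0 ≤ k → k < 2280 → chkS1685 (k * 18) = true := between_extend chkS1685 18 0 2128 152 (uS1685_13) rS1685_14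

theorem rS1685_15 : allRange chkS1685 18 2280 152 = true := by decide +kernel
theorem uS1685_15 : ∀ k, 0 ≤ k → k < 2432 → chkS1685 (k * 18) = true := between_extend chkS1685 18 0 2280 152 (uS1685_14) rS1685_15

theorem rS1685_16 : allRange chkS1685 18 2432 152 = true := by decide +kernel
theorem uS1685_16 : ∀ k, 0 ≤ k → k < 2584 → chkS1685 (k * 18) = true := between_extend chkS1685 18 0 2432 152 (uS1685_15) rS1685_16

theorem rS1685_17 : allRange chkS1685 18 2584 152 = true := by decide +kernel
theorem uS1685_17 : ∀ k, 0 ≤ k → k < 2736 → chkS1685 (k * 18) = true := between_extend chkS1685 18 0 2584 152 (uS1685_16) rS1685_17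

theorem rS1685_18 : allRange chkS1685 18 2736 152 = true := by decide +kernel
theorem uS1685_18 : ∀ k, 0 ≤ k → k < 2888 → chkS1685 (k * 18) = true := between_extend chkS1685 18 0 2736 152 (uS1685_17) rS1685_18

theorem rS1685_19 : allRange chkS1685 18 2888 152 = true := by decide +kernel
theorem uS1685_19 : ∀ k, 0 ≤ k → k < 3040 → chkS1685 (k * 18) = true := between_extend chkS1685 18 0 2888 152 (uS1685_18) rS1685_19

theorem rS1685_20 : allRange chkS1685 18 3040 152 = true := by decide +kernel
theorem uS1685_20 : ∀ k, 0 ≤ k → k < 3192 → chkS1685 (k * 18) = true := between_extend chkS1685 18 0 3040 152 (uS1685_19) rS1685_20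

theorem rS1685_21 : allRange chkS1685 18 3192 152 = true := by decide +kernel
theorem uS1685_21 : ∀ k, 0 ≤ k → k < 3344 → chkS1685 (k * 18) = true := between_extend chkS1685 18 0 3192 152 (uS1685_20) rS1685_21

theorem rS1685_22 : allRange chkS1685 18 3344 152 = true := by decide +kernel
theorem uS1685_22 : ∀ k, 0 ≤ k → k < 3496 → chkS1685 (k * 18) = true := between_extend chkS1685 18 0 3344 152 (uS1685_21) rS1685_22

theorem rS1685_23 : allRange chkS1685 18 3496 152 = true := by decide +kernel
theorem uS1685_23 : ∀ k, 0 ≤ k → k < 3648 → chkS1685 (k * 18) = true := between_extend chkS1685 18 0 3496 152 (uS1685_22) rS1685_23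

theorem rS1685_24 : allRange chkS1685 18 3648 152 = true := by decide +kernel
theorem uS1685_24 : ∀ k, 0 ≤ k → k < 3800 → chkS1685 (k * 18) = true := between_extend chkS1685 18 0 3648 152 (uS1685_23) rS1685_24

theorem rS1685_25 : allRange chkS1685 18 3800 152 = true := by decide +kernel
theorem uS1685_25 : ∀ k, 0 ≤ k → k < 3952 → chkS1685 (k * 18) = true := between_extend chkS1685 18 0 3800 152 (uS1685_24) rS1685_25

theorem rS1685_26 : allRange chkS1685 18 3952 152 = true := by decide +kernel
theorem uS1685_26 : ∀ k, 0 ≤ k → k < 4104 → chkS1685 (k * 18) = true := between_extend chkS1685 18 0 3952 152 (uS1685_25) rS1685_26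

theorem rS1685_27 : allRange chkS1685 18 4104 152 = true := by decide +kernel
theorem uS1685_27 : ∀ k, 0 ≤ k → k < 4256 → chkS1685 (k * 18) = true := between_extend chkS1685 18 0 4104 152 (uS1685_26) rS1685_27

theorem rS1685_28 : allRange chkS1685 18 4256 152 = true := by decide +kernel
theorem uS1685_28 : ∀ k, 0 ≤ k → k < 4408 → chkS1685 (k * 18) = true := between_extend chkS1685 18 0 4256 152 (uS1685_27) rS1685_28

theorem rS1685_29 : allRange chkS1685 18 4408 152 = true := by decide +kernel
theorem uS1685_29 : ∀ k, 0 ≤ k → k < 4560 → chkS1685 (k * 18) = true := between_extend chkS1685 18 0 4408 152 (uS1685_28) rS1685_29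

theorem rS1685_30 : allRange chkS1685 18 4560 152 = true := by decide +kernel
theorem uS1685_30 : ∀ k, 0 ≤ k → k < 4712 → chkS1685 (k * 18) = true := between_extend chkS1685 18 0 4560 152 (uS1685_29) rS1685_30

theorem rS1685_31 : allRange chkS1685 18 4712 152 = true := by decide +kernel
theorem uS1685_31 : ∀ k, 0 ≤ k → k < 4864 → chkS1685 (k * 18) = true := between_extend chkS1685 18 0 4712 152 (uS1685_30) rS1685_31

theorem rS1685_32 : allRange chkS1685 18 4864 152 = true := by decide +kernel
theorem uS1685_32 : ∀ k, 0 ≤ k → k < 5016 → chkS1685 (k * 18) = true := between_extend chkS1685 18 0 4864 152 (uS1685_31) rS1685_32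

theorem rS1685_33 : allRange chkS1685 18 5016 152 = true := by decide +kernel
theorem uS1685_33 : ∀ k, 0 ≤ k → k < 5168 → chkS1685 (k * 18) = true := between_extend chkS1685 18 0 5016 152 (uS1685_32) rS1685_33

theorem rS1685_34 : allRange chkS1685 18 5168 152 = true := by decide +kernel
theorem uS1685_34 : ∀ k, 0 ≤ k → k < 5320 → chkS1685 (k * 18) = true := between_extend chkS1685 18 0 5168 152 (uS1685_33) rS1685_34

theorem rS1685_35 : allRange chkS1685 18 5320 152 = true := by decide +kernel
theorem uS1685_35 : ∀ k, 0 ≤ k → k < 5472 → chkS1685 (k * 18) = true := between_extend chkS1685 18 0 5320 152 (uS1685_34) rS1685_35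

theorem rS1685_36 : allRange chkS1685 18 5472 152 = true := by decide +kernel
theorem uS1685_36 : ∀ k, 0 ≤ k → k < 5624 → chkS1685 (k * 18) = true := between_extend chkS1685 18 0 5472 152 (uS1685_35) rS1685_36

theorem rS1685_37 : allRange chkS1685 18 5624 152 = true := by decide +kernel
theorem uS1685_37 : ∀ k, 0 ≤ k → k < 5776 → chkS1685 (k * 18) = true := between_extend chkS1685 18 0 5624 152 (uS1685_36) rS1685_37

theorem rS1685_38 : allRange chkS1685 18 5776 152 = true := by decide +kernel
theorem uS1685_38 : ∀ k, 0 ≤ k → k < 5928 → chkS1685 (k * 18) = true := between_extend chkS1685 18 0 5776 152 (uS1685_37) rS1685_38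

theorem rS1685_39 : allRange chkS1685 18 5928 152 = true := by decide +kernel
theorem uS1685_39 : ∀ k, 0 ≤ k → k < 6080 → chkS1685 (k * 18) = true := between_extend chkS1685 18 0 5928 152 (uS1685_38) rS1685_39

theorem rS1685_40 : allRange chkS1685 18 6080 152 = true := by decide +kernel
theorem uS1685_40 : ∀ k, 0 ≤ k → k < 6232 → chkS1685 (k * 18) = true := between_extend chkS1685 18 0 6080 152 (uS1685_39) rS1685_40

theorem rS1685_41 : allRange chkS1685 18 6232 152 = true := by decide +kernel
theorem uS1685_41 : ∀ k, 0 ≤ k → k < 6384 → chkS1685 (k * 18) = true := between_extend chkS1685 18 0 6232 152 (uS1685_40) rS1685_41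

theorem rS1685_42 : allRange chkS1685 18 6384 152 = true := by decide +kernel
theorem uS1685_42 : ∀ k, 0 ≤ k → k < 6536 → chkS1685 (k * 18) = true := between_extend chkS1685 18 0 6384 152 (uS1685_41) rS1685_42

theorem rS1685_43 : allRange chkS1685 18 6536 152 = true := by decide +kernel
theorem uS1685_43 : ∀ k, 0 ≤ k → k < 6688 → chkS1685 (k * 18) = true := between_extend chkS1685 18 0 6536 152 (uS1685_42) rS1685_43

theorem rS1685_44 : allRange chkS1685 18 6688 152 = true := by decide +kernel
theorem uS1685_44 : ∀ k, 0 ≤ k → k < 6840 → chkS1685 (k * 18) = true := between_extend chkS1685 18 0 6688 152 (uS1685_43) rS1685_44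

theorem rS1685_45 : allRange chkS1685 18 6840 152 = true := by decide +kernel
theorem uS1685_45 : ∀ k, 0 ≤ k → k < 6992 → chkS1685 (k * 18) = true := between_extend chkS1685 18 0 6840 152 (uS1685_44) rS1685_45

theorem rS1685_46 : allRange chkS1685 18 6992 152 = true := by decide +kernel
theorem uS1685_46 : ∀ k, 0 ≤ k → k < 7144 → chkS1685 (k * 18) = true := between_extend chkS1685 18 0 6992 152 (uS1685_45) rS1685_46

theorem rS1685_47 : allRange chkS1685 18 7144 152 = true := by decide +kernel
theorem uS1685_47 : ∀ k, 0 ≤ k → k < 7296 → chkS1685 (k * 18) = true := between_extend chkS1685 18 0 7144 152 (uS1685_46) rS1685_47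

theorem rS1685_48 : allRange chkS1685 18 7296 152 = true := by decide +kernel
theorem uS1685_48 : ∀ k, 0 ≤ k → k < 7448 → chkS1685 (k * 18) = true := between_extend chkS1685 18 0 7296 152 (uS1685_47) rS1685_48

theorem rS1685_49 : allRange chkS1685 18 7448 152 = true := by decide +kernel
theorem uS1685_49 : ∀ k, 0 ≤ k → k < 7600 → chkS1685 (k * 18) = true := between_extend chkS1685 18 0 7448 152 (uS1685_48) rS1685_49

theorem rS1685_50 : allRange chkS1685 18 7600 152 = true := by decide +kernel
theorem uS1685_50 : ∀ k, 0 ≤ k → k < 7752 → chkS1685 (k * 18) = true := between_extend chkS1685 18 0 7600 152 (uS1685_49) rS1685_50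

theorem rS1685_51 : allRange chkS1685 18 7752 152 = true := by decide +kernel
theorem uS1685_51 : ∀ k, 0 ≤ k → k < 7904 → chkS1685 (k * 18) = true := between_extend chkS1685 18 0 7752 152 (uS1685_50) rS1685_51

theorem rS1685_52 : allRange chkS1685 18 7904 152 = true := by decide +kernel
theorem uS1685_52 : ∀ k, 0 ≤ k → k < 8056 → chkS1685 (k * 18) = true := between_extend chkS1685 18 0 7904 152 (uS1685_51) rS1685_52

theorem rS1685_53 : allRange chkS1685 18 8056 152 = true := by decide +kernel
theorem uS1685_53 : ∀ k, 0 ≤ k → k < 8208 → chkS1685 (k * 18) = true := between_extend chkS1685 18 0 8056 152 (uS1685_52) rS1685_53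

theorem rS1685_54 : allRange chkS1685 18 8208 152 = true := by decide +kernel
theorem uS1685_54 : ∀ k, 0 ≤ k → k < 8360 → chkS1685 (k * 18) = true := between_extend chkS1685 18 0 8208 152 (uS1685_53) rS1685_54

theorem rS1685_55 : allRange chkS1685 18 8360 152 = true := by decide +kernel
theorem uS1685_55 : ∀ k, 0 ≤ k → k < 8512 → chkS1685 (k * 18) = true := between_extend chkS1685 18 0 8360 152 (uS1685_54) rS1685_55

theorem rS1685_56 : allRange chkS1685 18 8512 152 = true := by decide +kernel
theorem uS1685_56 : ∀ k, 0 ≤ k → k < 8664 → chkS1685 (k * 18) = true := between_extend chkS1685 18 0 8512 152 (uS1685_55) rS1685_56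

theorem rS1685_57 : allRange chkS1685 18 8664 152 = true := by decide +kernel
theorem uS1685_57 : ∀ k, 0 ≤ k → k < 8816 → chkS1685 (k * 18) = true := between_extend chkS1685 18 0 8664 152 (uS1685_56) rS1685_57

theorem rS1685_58 : allRange chkS1685 18 8816 152 = true := by decide +kernel
theorem uS1685_58 : ∀ k, 0 ≤ k → k < 8968 → chkS1685 (k * 18) = true := between_extend chkS1685 18 0 8816 152 (uS1685_57) rS1685_58

theorem rS1685_59 : allRange chkS1685 18 8968 152 = true := by decide +kernel
theorem uS1685_59 : ∀ k, 0 ≤ k → k < 9120 → chkS1685 (k * 18) = true := between_extend chkS1685 18 0 8968 152 (uS1685_58) rS1685_59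

theorem rS1685_60 : allRange chkS1685 18 9120 152 = true := by decide +kernel
theorem uS1685_60 : ∀ k, 0 ≤ k → k < 9272 → chkS1685 (k * 18) = true := between_extend chkS1685 18 0 9120 152 (uS1685_59) rS1685_60

theorem rS1685_61 : allRange chkS1685 18 9272 152 = true := by decide +kernel
theorem uS1685_61 : ∀ k, 0 ≤ k → k < 9424 → chkS1685 (k * 18) = true := between_extend chkS1685 18 0 9272 152 (uS1685_60) rS1685_61

theorem rS1685_62 : allRange chkS1685 18 9424 152 = true := by decide +kernel
theorem uS1685_62 : ∀ k, 0 ≤ k → k < 9576 → chkS1685 (k * 18) = true := between_extend chkS1685 18 0 9424 152 (uS1685_61) rS1685_62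

theorem rS1685_63 : allRange chkS1685 18 9576 152 = true := by decide +kernel
theorem uS1685_63 : ∀ k, 0 ≤ k → k < 9728 → chkS1685 (k * 18) = true := between_extend chkS1685 18 0 9576 152 (uS1685_62) rS1685_63

theorem rS1685_64 : allRange chkS1685 18 9728 152 = true := by decide +kernel
theorem uS1685_64 : ∀ k, 0 ≤ k → k < 9880 → chkS1685 (k * 18) = true := between_extend chkS1685 18 0 9728 152 (uS1685_63) rS1685_64

theorem rS1685_65 : allRange chkS1685 18 9880 152 = true := by decide +kernel
theorem uS1685_65 : ∀ k, 0 ≤ k → k < 10032 → chkS1685 (k * 18) = true := between_extend chkS1685 18 0 9880 152 (uS1685_64) rS1685_65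

theorem rS1685_66 : allRange chkS1685 18 10032 152 = true := by decide +kernel
theorem uS1685_66 : ∀ k, 0 ≤ k → k < 10184 → chkS1685 (k * 18) = true := between_extend chkS1685 18 0 10032 152 (uS1685_65) rS1685_66

theorem rS1685_67 : allRange chkS1685 18 10184 152 = true := by decide +kernel
theorem uS1685_67 : ∀ k, 0 ≤ k → k < 10336 → chkS1685 (k * 18) = true := between_extend chkS1685 18 0 10184 152 (uS1685_66) rS1685_67

theorem rS1685_68 : allRange chkS1685 18 10336 152 = true := by decide +kernel
theorem uS1685_68 : ∀ k, 0 ≤ k → k < 10488 → chkS1685 (k * 18) = true := between_extend chkS1685 18 0 10336 152 (uS1685_67) rS1685_68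

theorem rS1685_69 : allRange chkS1685 18 10488 152 = true := by decide +kernel
theorem uS1685_69 : ∀ k, 0 ≤ k → k < 10640 → chkS1685 (k * 18) = true := between_extend chkS1685 18 0 10488 152 (uS1685_68) rS1685_69

theorem rS1685_70 : allRange chkS1685 18 10640 152 = true := by decide +kernel
theorem uS1685_70 : ∀ k, 0 ≤ k → k < 10792 → chkS1685 (k * 18) = true := between_extend chkS1685 18 0 10640 152 (uS1685_69) rS1685_70

theorem rS1685_71 : allRange chkS1685 18 10792 152 = true := by decide +kernel
theorem uS1685_71 : ∀ k, 0 ≤ k → k < 10944 → chkS1685 (k * 18) = true := between_extend chkS1685 18 0 10792 152 (uS1685_70) rS1685_71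

theorem rS1685_72 : allRange chkS1685 18 10944 152 = true := by decide +kernel
theorem uS1685_72 : ∀ k, 0 ≤ k → k < 11096 → chkS1685 (k * 18) = true := between_extend chkS1685 18 0 10944 152 (uS1685_71) rS1685_72

theorem rS1685_73 : allRange chkS1685 18 11096 152 = true := by decide +kernel
theorem uS1685_73 : ∀ k, 0 ≤ k → k < 11248 → chkS1685 (k * 18) = true := between_extend chkS1685 18 0 11096 152 (uS1685_72) rS1685_73

theorem rS1685_74 : allRange chkS1685 18 11248 152 = true := by decide +kernel
theorem uS1685_74 : ∀ k, 0 ≤ k → k < 11400 → chkS1685 (k * 18) = true := between_extend chkS1685 18 0 11248 152 (uS1685_73) rS1685_74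

theorem rS1685_75 : allRange chkS1685 18 11400 152 = true := by decide +kernel
theorem uS1685_75 : ∀ k, 0 ≤ k → k < 11552 → chkS1685 (k * 18) = true := between_extend chkS1685 18 0 11400 152 (uS1685_74) rS1685_75

theorem rS1685_76 : allRange chkS1685 18 11552 152 = true := by decide +kernel
theorem uS1685_76 : ∀ k, 0 ≤ k → k < 11704 → chkS1685 (k * 18) = true := between_extend chkS1685 18 0 11552 152 (uS1685_75) rS1685_76

theorem rS1685_77 : allRange chkS1685 18 11704 152 = true := by decide +kernel
theorem uS1685_77 : ∀ k, 0 ≤ k → k < 11856 → chkS1685 (k * 18) = true := between_extend chkS1685 18 0 11704 152 (uS1685_76) rS1685_77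

theorem rS1685_78 : allRange chkS1685 18 11856 152 = true := by decide +kernel
theorem uS1685_78 : ∀ k, 0 ≤ k → k < 12008 → chkS1685 (k * 18) = true := between_extend chkS1685 18 0 11856 152 (uS1685_77) rS1685_78

theorem rS1685_79 : allRange chkS1685 18 12008 152 = true := by decide +kernel
theorem uS1685_79 : ∀ k, 0 ≤ k → k < 12160 → chkS1685 (k * 18) = true := between_extend chkS1685 18 0 12008 152 (uS1685_78) rS1685_79

theorem rS1685_80 : allRange chkS1685 18 12160 152 = true := by decide +kernel
theorem uS1685_80 : ∀ k, 0 ≤ k → k < 12312 → chkS1685 (k * 18) = true := between_extend chkS1685 18 0 12160 152 (uS1685_79) rS1685_80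

theorem rS1685_81 : allRange chkS1685 18 12312 152 = true := by decide +kernel
theorem uS1685_81 : ∀ k, 0 ≤ k → k < 12464 → chkS1685 (k * 18) = true := between_extend chkS1685 18 0 12312 152 (uS1685_80) rS1685_81

theorem rS1685_82 : allRange chkS1685 18 12464 152 = true := by decide +kernel
theorem uS1685_82 : ∀ k, 0 ≤ k → k < 12616 → chkS1685 (k * 18) = true := between_extend chkS1685 18 0 12464 152 (uS1685_81) rS1685_82

theorem rS1685_83 : allRange chkS1685 18 12616 152 = true := by decide +kernel
theorem uS1685_83 : ∀ k, 0 ≤ k → k < 12768 → chkS1685 (k * 18) = true := between_extend chkS1685 18 0 12616 152 (uS1685_82) rS1685_83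

theorem rS1685_84 : allRange chkS1685 18 12768 152 = true := by decide +kernel
theorem uS1685_84 : ∀ k, 0 ≤ k → k < 12920 → chkS1685 (k * 18) = true := between_extend chkS1685 18 0 12768 152 (uS1685_83) rS1685_84

theorem rS1685_85 : allRange chkS1685 18 12920 152 = true := by decide +kernel
theorem uS1685_85 : ∀ k, 0 ≤ k → k < 13072 → chkS1685 (k * 18) = true := between_extend chkS1685 18 0 12920 152 (uS1685_84) rS1685_85

theorem rS1685_86 : allRange chkS1685 18 13072 152 = true := by decide +kernel
theorem uS1685_86 : ∀ k, 0 ≤ k → k < 13224 → chkS1685 (k * 18) = true := between_extend chkS1685 18 0 13072 152 (uS1685_85) rS1685_86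

theorem rS1685_87 : allRange chkS1685 18 13224 152 = true := by decide +kernel
theorem uS1685_87 : ∀ k, 0 ≤ k → k < 13376 → chkS1685 (k * 18) = true := between_extend chkS1685 18 0 13224 152 (uS1685_86) rS1685_87

theorem rS1685_88 : allRange chkS1685 18 13376 152 = true := by decide +kernel
theorem uS1685_88 : ∀ k, 0 ≤ k → k < 13528 → chkS1685 (k * 18) = true := between_extend chkS1685 18 0 13376 152 (uS1685_87) rS1685_88

theorem rS1685_89 : allRange chkS1685 18 13528 152 = true := by decide +kernel
theorem uS1685_89 : ∀ k, 0 ≤ k → k < 13680 → chkS1685 (k * 18) = true := between_extend chkS1685 18 0 13528 152 (uS1685_88) rS1685_89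

theorem rS1685_90 : allRange chkS1685 18 13680 152 = true := by decide +kernel
theorem uS1685_90 : ∀ k, 0 ≤ k → k < 13832 → chkS1685 (k * 18) = true := between_extend chkS1685 18 0 13680 152 (uS1685_89) rS1685_90

theorem rS1685_91 : allRange chkS1685 18 13832 152 = true := by decide +kernel
theorem uS1685_91 : ∀ k, 0 ≤ k → k < 13984 → chkS1685 (k * 18) = true := between_extend chkS1685 18 0 13832 152 (uS1685_90) rS1685_91

theorem rS1685_92 : allRange chkS1685 18 13984 96 = true := by decide +kernel
theorem uS1685_92 : ∀ k, 0 ≤ k → k < 14080 → chkS1685 (k * 18) = true := between_extend chkS1685 18 0 13984 96 (uS1685_91) rS1685_92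

theorem trivS1685 : FreeGroup.lift (perm Cfsg.Agent.Lib.Helper28_S1685.verified.hv) (FreeGroup.mk u) = 1 := by
  apply lift_eq_one_of_walk
  intro k hk
  exact Nat.eq_of_beq_eq_true (between_all chkS1685 18 14080 uS1685_92 k hk)

end Cfsg.Agent.Lib.Helper28_Fi22W0
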