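import Cfsg.Agent.Lib.Helper28_CosetUpCox
import Cfsg.Agent.Lib.Helper28_CosetPerm
import Cfsg.Agent.Lib.Helper28_Fi22c1UTab0
import Cfsg.Agent.Lib.Helper28_Fi22Chain

set_option autoImplicit false
set_option linter.constructorNameAsVariable false
set_option Elab.async false

namespace Cfsg.Agent.Lib.Helper28_Fi22c1.U

open Cfsg.Spor Cfsg.Agent.Lib.Helper28_CosetUp Cfsg.Agent.Lib.Helper28_CosetUpCox Cfsg.Agent.Lib.Helper28_Fi22c1UTab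

def factBlk_n0_0 (i : ℕ) : ℕ := (@Bool.rec (fun _ => ℕ) (@Bool.rec (fun _ => ℕ) (@Bool.rec (fun _ => ℕ) (@Bool.rec (fun _ => ℕ) (@Bool.rec (fun _ => ℕ) fb0 fb1 (Nat.ble (nat_lit 1) i)) (@Bool.rec (fun _ => ℕ) fb2 fb3 (Nat.ble (nat_lit 3) i)) (Nat.ble (nat_lit 2) i)) (@Bool.rec (fun _ => ℕ) (@Bool.rec (fun _ => ℕ) fb4 fb5 (Nat.ble (nat_lit 5) i)) (@Bool.rec (fun _ => ℕ) fb6 fb7 (Nat.ble (nat_lit 7) i)) (Nat.ble (nat_lit 6) i)) (Nat.ble (nat_lit 4) i)) (@Bool.rec (fun _ => ℕ) (@Bool.rec (fun _ => ℕ) (@Bool.rec (fun _ => ℕ) fb8 fb9 (Nat.ble (nat_lit 9) i)) (@Bool.rec (fun _ => ℕ) fb10 fb11 (Nat.ble (nat_lit 11) i)) (Nat.ble (nat_lit 10) i)) (@Bool.rec (fun _ => ℕ) (@Bool.rec (fun _ => ℕ) fb12 fb13 (Nat.ble (nat_lit 13) i)) (@Bool.rec (fun _ => ℕ) fb14 fb15 (Nat.ble (nat_lit 15) i)) (Nat.ble (nat_lit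 14) i)) (Nat.ble (nat_lit 12) i)) (Nat.ble (nat_lit 8) i)) (@Bool.rec (fun _ => ℕ) (@Bool.rec (fun _ => ℕ) (@Bool.rec (fun _ => ℕ) (@Bool.rec (fun _ => ℕ) fb16 fb17 (Nat.ble (nat_lit 17) i)) (@Bool.rec (fun _ => ℕ) fb18 fb19 (Nat.ble (nat_lit 19) i)) (Nat.ble (nat_lit 18) i)) (@Bool.rec (fun _ => ℕ) (@Bool.rec (fun _ => ℕ) fb20 fb21 (Nat.ble (nat_lit 21) i)) (@Bool.rec (fun _ => ℕ) fb22 fb23 (Nat.ble (nat_lit 23) i)) (Nat.ble (nat_lit 22) i)) (Nat.ble (nat_lit 20) i)) (@Bool.rec (fun _ => ℕ) (@Bool.rec (fun _ => ℕ) (@Bool.rec (fun _ => ℕ) fb24 fb25 (Nat.ble (nat_lit 25) i)) (@Bool.rec (fun _ => ℕ) fb26 fb27 (Nat.ble (nat_lit 27) i)) (Nat.ble (nat_lit 26) i)) (@Bool.rec (fun _ => ℕ) (@Bool.rec (fun _ => ℕ) fb28 fb29 (Nat.ble (nat_lit 29) i)) (@Bool.rec (fun _ => ℕ) fb30 fb31 (Nat.ble (nat_lit 31)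 i)) (Nat.ble (nat_lit 30) i)) (Nat.ble (nat_lit 28) i)) (Nat.ble (nat_lit 24) i)) (Nat.ble (nat_lit 16) i))

def factBlk_n0_1 (i : ℕ) : ℕ := (@Bool.rec (fun _ => ℕ) (@Bool.rec (fun _ => ℕ) (@Bool.rec (fun _ => ℕ) (@Bool.rec (fun _ => ℕ) (@Bool.rec (fun _ => ℕ) fb32 fb33 (Nat.ble (nat_lit 33) i)) (@Bool.rec (fun _ => ℕ) fb34 fb35 (Nat.ble (nat_lit 35) i)) (Nat.ble (nat_lit 34) i)) (@Bool.rec (fun _ => ℕ) (@Bool.rec (fun _ => ℕ) fb36 fb37 (Nat.ble (nat_lit 37) i)) (@Bool.rec (fun _ => ℕ) fb38 fb39 (Nat.ble (nat_lit 39) i)) (Nat.ble (nat_lit 38) i)) (Nat.ble (nat_lit 36) i)) (@Bool.rec (fun _ => ℕ) (@Bool.rec (fun _ => ℕ) (@Bool.rec (fun _ => ℕ) fb40 fb41 (Nat.ble (nat_lit 41) i)) (@Bool.rec (fun _ => ℕ) fb42 fb43 (Nat.ble (nat_lit 43) i)) (Nat.ble (nat_lit 42) i)) (@Bool.rec (fun _ => ℕ) (@Bool.rec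 (fun _ => ℕ) fb44 fb45 (Nat.ble (nat_lit 45) i)) (@Bool.rec (fun _ => ℕ) fb46 fb47 (Nat.ble (nat_lit 47) i)) (Nat.ble (nat_lit 46) i)) (Nat.ble (nat_lit 44) i)) (Nat.ble (nat_lit 40) i)) (@Bool.rec (fun _ => ℕ) (@Bool.rec (fun _ => ℕ) (@Bool.rec (fun _ => ℕ) (@Bool.rec (fun _ => ℕ) fb48 fb49 (Nat.ble (nat_lit 49) i)) (@Bool.rec (fun _ => ℕ) fb50 fb51 (Nat.ble (nat_lit 51) i)) (Nat.ble (nat_lit 50) i)) (@Bool.rec (fun _ => ℕ) (@Bool.rec (fun _ => ℕ) fb52 fb53 (Nat.ble (nat_lit 53) i)) (@Bool.rec (fun _ => ℕ) fb54 fb55 (Nat.ble (nat_lit 55) i)) (Nat.ble (nat_lit 54) i)) (Nat.ble (nat_lit 52) i)) (@Bool.rec (fun _ => ℕ) (@Bool.rec (fun _ => ℕ) (@Bool.rec (fun _ => ℕ) fb56 fb57 (Nat.ble (nat_lit 57) i)) (@Bool.rec (fun _ => ℕ) fb58 fb59 (Nat.ble (nat_lit 59) i)) (Nat.ble (nat_lit 58) i)) (@Bool.rec (fun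 _ => ℕ) (@Bool.rec (fun _ => ℕ) fb60 fb61 (Nat.ble (nat_lit 61) i)) (@Bool.rec (fun _ => ℕ) fb62 fb63 (Nat.ble (nat_lit 63) i)) (Nat.ble (nat_lit 62) i)) (Nat.ble (nat_lit 60) i)) (Nat.ble (nat_lit 56) i)) (Nat.ble (nat_lit 48) i))

def factBlk_n0_2 (i : ℕ) : ℕ := (@Bool.rec (fun _ => ℕ) (@Bool.rec (fun _ => ℕ) (@Bool.rec (fun _ => ℕ) (@Bool.rec (fun _ => ℕ) (@Bool.rec (fun _ => ℕ) fb64 fb65 (Nat.ble (nat_lit 65) i)) (@Bool.rec (fun _ => ℕ) fb66 fb67 (Nat.ble (nat_lit 67) i)) (Nat.ble (nat_lit 66) i)) (@Bool.rec (fun _ => ℕ) (@Bool.rec (fun _ => ℕ) fb68 fb69 (Nat.ble (nat_lit 69) i)) (@Bool.rec (fun _ => ℕ) fb70 fb71 (Nat.ble (nat_lit 71) i)) (Nat.ble (nat_lit 70) i)) (Nat.ble (nat_lit 68) i)) (@Bool.rec (fun _ => ℕ) (@Bool.rec (fun _ => ℕ) (@Bool.rec (fun _ => ℕ) fb72 fb73 (Nat.ble (nat_lit 73)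 i)) (@Bool.rec (fun _ => ℕ) fb74 fb75 (Nat.ble (nat_lit 75) i)) (Nat.ble (nat_lit 74) i)) (@Bool.rec (fun _ => ℕ) (@Bool.rec (fun _ => ℕ) fb76 fb77 (Nat.ble (nat_lit 77) i)) (@Bool.rec (fun _ => ℕ) fb78 fb79 (Nat.ble (nat_lit 79) i)) (Nat.ble (nat_lit 78) i)) (Nat.ble (nat_lit 76) i)) (Nat.ble (nat_lit 72) i)) (@Bool.rec (fun _ => ℕ) (@Bool.rec (fun _ => ℕ) (@Bool.rec (fun _ => ℕ) (@Bool.rec (fun _ => ℕ) fb80 fb81 (Nat.ble (nat_lit 81) i)) (@Bool.rec (fun _ => ℕ) fb82 fb83 (Nat.ble (nat_lit 83) i)) (Nat.ble (nat_lit 82) i)) (@Bool.rec (fun _ => ℕ) (@Bool.rec (fun _ => ℕ) fb84 fb85 (Nat.ble (nat_lit 85) i)) (@Bool.rec (fun _ => ℕ) fb86 fb87 (Nat.ble (nat_lit 87) i)) (Nat.ble (nat_lit 86) i)) (Nat.ble (nat_lit 84) i)) (@Bool.rec (fun _ => ℕ) (@Bool.rec (fun _ => ℕ) (@Bool.rec (fun _ => ℕ) fb88 fb89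 (Nat.ble (nat_lit 89) i)) (@Bool.rec (fun _ => ℕ) fb90 fb91 (Nat.ble (nat_lit 91) i)) (Nat.ble (nat_lit 90) i)) (@Bool.rec (fun _ => ℕ) (@Bool.rec (fun _ => ℕ) fb92 fb93 (Nat.ble (nat_lit 93) i)) (@Bool.rec (fun _ => ℕ) fb94 fb95 (Nat.ble (nat_lit 95) i)) (Nat.ble (nat_lit 94) i)) (Nat.ble (nat_lit 92) i)) (Nat.ble (nat_lit 88) i)) (Nat.ble (nat_lit 80) i))

def factBlk_n0_3 (i : ℕ) : ℕ := (@Bool.rec (fun _ => ℕ) (@Bool.rec (fun _ => ℕ) (@Bool.rec (fun _ => ℕ) (@Bool.rec (fun _ => ℕ) (@Bool.rec (fun _ => ℕ) fb96 fb97 (Nat.ble (nat_lit 97) i)) (@Bool.rec (fun _ => ℕ) fb98 fb99 (Nat.ble (nat_lit 99) i)) (Nat.ble (nat_lit 98) i)) (@Bool.rec (fun _ => ℕ) (@Bool.rec (fun _ => ℕ) fb100 fb101 (Nat.ble (nat_lit 101) i)) (@Bool.rec (fun _ => ℕ) fb102 fb103 (Nat.ble (nat_lit 103) i)) (Nat.ble (nat_lit 102)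 i)) (Nat.ble (nat_lit 100) i)) (@Bool.rec (fun _ => ℕ) (@Bool.rec (fun _ => ℕ) (@Bool.rec (fun _ => ℕ) fb104 fb105 (Nat.ble (nat_lit 105) i)) (@Bool.rec (fun _ => ℕ) fb106 fb107 (Nat.ble (nat_lit 107) i)) (Nat.ble (nat_lit 106) i)) (@Bool.rec (fun _ => ℕ) (@Bool.rec (fun _ => ℕ) fb108 fb109 (Nat.ble (nat_lit 109) i)) (@Bool.rec (fun _ => ℕ) fb110 fb111 (Nat.ble (nat_lit 111) i)) (Nat.ble (nat_lit 110) i)) (Nat.ble (nat_lit 108) i)) (Nat.ble (nat_lit 104) i)) (@Bool.rec (fun _ => ℕ) (@Bool.rec (fun _ => ℕ) (@Bool.rec (fun _ => ℕ) (@Bool.rec (fun _ => ℕ) fb112 fb113 (Nat.ble (nat_lit 113) i)) (@Bool.rec (fun _ => ℕ) fb114 fb115 (Nat.ble (nat_lit 115) i)) (Nat.ble (nat_lit 114) i)) (@Bool.rec (fun _ => ℕ) (@Bool.rec (fun _ => ℕ) fb116 fb117 (Nat.ble (nat_lit 117) i)) (@Bool.rec (fun _ => ℕ) fb118 fb119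 (Nat.ble (nat_lit 119) i)) (Nat.ble (nat_lit 118) i)) (Nat.ble (nat_lit 116) i)) (@Bool.rec (fun _ => ℕ) (@Bool.rec (fun _ => ℕ) (@Bool.rec (fun _ => ℕ) fb120 fb121 (Nat.ble (nat_lit 121) i)) (@Bool.rec (fun _ => ℕ) fb122 fb123 (Nat.ble (nat_lit 123) i)) (Nat.ble (nat_lit 122) i)) (@Bool.rec (fun _ => ℕ) (@Bool.rec (fun _ => ℕ) fb124 fb125 (Nat.ble (nat_lit 125) i)) (@Bool.rec (fun _ => ℕ) fb126 fb127 (Nat.ble (nat_lit 127) i)) (Nat.ble (nat_lit 126) i)) (Nat.ble (nat_lit 124) i)) (Nat.ble (nat_lit 120) i)) (Nat.ble (nat_lit 112) i))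

def factBlk_n0_4 (i : ℕ) : ℕ := (@Bool.rec (fun _ => ℕ) (@Bool.rec (fun _ => ℕ) (@Bool.rec (fun _ => ℕ) fb128 fb129 (Nat.ble (nat_lit 129) i)) (@Bool.rec (fun _ => ℕ) fb130 fb131 (Nat.ble (nat_lit 131) i)) (Nat.ble (nat_lit 130) i)) (@Bool.rec (fun _ => ℕ) (@Bool.rec (fun _ => ℕ) fb132 fb133 (Nat.ble (nat_lit 133) i)) (@Bool.rec (fun _ => ℕ) fb134 (@Bool.rec (fun _ => ℕ) fb135 fb136 (Nat.ble (nat_lit 136) i)) (Nat.ble (nat_lit 135) i)) (Nat.ble (nat_lit 134) i)) (Nat.ble (nat_lit 132) i))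

def factBlk (i : ℕ) : ℕ := (@Bool.rec (fun _ => ℕ) (@Bool.rec (fun _ => ℕ) (factBlk_n0_0 i) (factBlk_n0_1 i) (Nat.ble (nat_lit 32) i)) (@Bool.rec (fun _ => ℕ) (factBlk_n0_2 i) (@Bool.rec (fun _ => ℕ) (factBlk_n0_3 i) (factBlk_n0_4 i) (Nat.ble (nat_lit 128) i)) (Nat.ble (nat_lit 96) i)) (Nat.ble (nat_lit 64) i))

def certBlk_n0_0 (i : ℕ) : ℕ := (@Bool.rec (fun _ => ℕ) (@Bool.rec (fun _ => ℕ) (@Bool.rec (fun _ => ℕ) (@Bool.rec (fun _ => ℕ) (@Bool.rec (fun _ => ℕ) cb0 cb1 (Nat.ble (nat_lit 1) i)) (@Bool.rec (fun _ => ℕ) cb2 cb3 (Nat.ble (nat_lit 3) i)) (Nat.ble (nat_lit 2) i)) (@Bool.rec (fun _ => ℕ) (@Bool.rec (fun _ => ℕ) cb4 cb5 (Nat.ble (nat_lit 5) i)) (@Bool.rec (fun _ => ℕ) cb6 cb7 (Nat.ble (nat_lit 7) i)) (Nat.ble (nat_lit 6) i)) (Nat.ble (nat_lit 4) i)) (@Bool.rec (fun _ => ℕ) (@Bool.rec (fun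 _ => ℕ) (@Bool.rec (fun _ => ℕ) cb8 cb9 (Nat.ble (nat_lit 9) i)) (@Bool.rec (fun _ => ℕ) cb10 cb11 (Nat.ble (nat_lit 11) i)) (Nat.ble (nat_lit 10) i)) (@Bool.rec (fun _ => ℕ) (@Bool.rec (fun _ => ℕ) cb12 cb13 (Nat.ble (nat_lit 13) i)) (@Bool.rec (fun _ => ℕ) cb14 cb15 (Nat.ble (nat_lit 15) i)) (Nat.ble (nat_lit 14) i)) (Nat.ble (nat_lit 12) i)) (Nat.ble (nat_lit 8) i)) (@Bool.rec (fun _ => ℕ) (@Bool.rec (fun _ => ℕ) (@Bool.rec (fun _ => ℕ) (@Bool.rec (fun _ => ℕ) cb16 cb17 (Nat.ble (nat_lit 17) i)) (@Bool.rec (fun _ => ℕ) cb18 cb19 (Nat.ble (nat_lit 19) i)) (Nat.ble (nat_lit 18) i)) (@Bool.rec (fun _ => ℕ) (@Bool.rec (fun _ => ℕ) cb20 cb21 (Nat.ble (nat_lit 21) i)) (@Bool.rec (fun _ => ℕ) cb22 cb23 (Nat.ble (nat_lit 23) i)) (Nat.ble (nat_lit 22) i)) (Nat.ble (nat_lit 20) i)) (@Bool.rec (fun _ =>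 ℕ) (@Bool.rec (fun _ => ℕ) (@Bool.rec (fun _ => ℕ) cb24 cb25 (Nat.ble (nat_lit 25) i)) (@Bool.rec (fun _ => ℕ) cb26 cb27 (Nat.ble (nat_lit 27) i)) (Nat.ble (nat_lit 26) i)) (@Bool.rec (fun _ => ℕ) (@Bool.rec (fun _ => ℕ) cb28 cb29 (Nat.ble (nat_lit 29) i)) (@Bool.rec (fun _ => ℕ) cb30 cb31 (Nat.ble (nat_lit 31) i)) (Nat.ble (nat_lit 30) i)) (Nat.ble (nat_lit 28) i)) (Nat.ble (nat_lit 24) i)) (Nat.ble (nat_lit 16) i))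

def certBlk_n0_1 (i : ℕ) : ℕ := (@Bool.rec (fun _ => ℕ) (@Bool.rec (fun _ => ℕ) (@Bool.rec (fun _ => ℕ) (@Bool.rec (fun _ => ℕ) (@Bool.rec (fun _ => ℕ) cb32 cb33 (Nat.ble (nat_lit 33) i)) (@Bool.rec (fun _ => ℕ) cb34 cb35 (Nat.ble (nat_lit 35) i)) (Nat.ble (nat_lit 34) i)) (@Bool.rec (fun _ => ℕ) (@Bool.rec (fun _ => ℕ) cb36 cb37 (Nat.ble (nat_lit 37) i)) (@Bool.rec (fun _ => ℕ) cb38 cb39 (Nat.ble (nat_lit 39) i)) (Nat.ble (nat_lit 38) i)) (Nat.ble (nat_lit 36) i)) (@Bool.rec (fun _ => ℕ) (@Bool.rec (fun _ => ℕ) (@Bool.rec (fun _ => ℕ) cb40 cb41 (Nat.ble (nat_lit 41) i)) (@Bool.rec (fun _ => ℕ) cb42 cb43 (Nat.ble (nat_lit 43) i)) (Nat.ble (nat_lit 42) i)) (@Bool.rec (fun _ => ℕ) (@Bool.rec (fun _ => ℕ) cb44 cb45 (Nat.ble (nat_lit 45) i)) (@Bool.rec (fun _ => ℕ) cb46 cb47 (Nat.ble (nat_lit 47) i))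 (Nat.ble (nat_lit 46) i)) (Nat.ble (nat_lit 44) i)) (Nat.ble (nat_lit 40) i)) (@Bool.rec (fun _ => ℕ) (@Bool.rec (fun _ => ℕ) (@Bool.rec (fun _ => ℕ) (@Bool.rec (fun _ => ℕ) cb48 cb49 (Nat.ble (nat_lit 49) i)) (@Bool.rec (fun _ => ℕ) cb50 cb51 (Nat.ble (nat_lit 51) i)) (Nat.ble (nat_lit 50) i)) (@Bool.rec (fun _ => ℕ) (@Bool.rec (fun _ => ℕ) cb52 cb53 (Nat.ble (nat_lit 53) i)) (@Bool.rec (fun _ => ℕ) cb54 cb55 (Nat.ble (nat_lit 55) i)) (Nat.ble (nat_lit 54) i)) (Nat.ble (nat_lit 52) i)) (@Bool.rec (fun _ => ℕ) (@Bool.rec (fun _ => ℕ) (@Bool.rec (fun _ => ℕ) cb56 cb57 (Nat.ble (nat_lit 57) i)) (@Bool.rec (fun _ => ℕ) cb58 cb59 (Nat.ble (nat_lit 59) i)) (Nat.ble (nat_lit 58) i)) (@Bool.rec (fun _ => ℕ) (@Bool.rec (fun _ => ℕ) cb60 cb61 (Nat.ble (nat_lit 61) i)) (@Bool.rec (fun _ => ℕ) cb62 cb63 (Nat.ble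 (nat_lit 63) i)) (Nat.ble (nat_lit 62) i)) (Nat.ble (nat_lit 60) i)) (Nat.ble (nat_lit 56) i)) (Nat.ble (nat_lit 48) i))

def certBlk_n0_2 (i : ℕ) : ℕ := (@Bool.rec (fun _ => ℕ) (@Bool.rec (fun _ => ℕ) (@Bool.rec (fun _ => ℕ) (@Bool.rec (fun _ => ℕ) (@Bool.rec (fun _ => ℕ) cb64 cb65 (Nat.ble (nat_lit 65) i)) (@Bool.rec (fun _ => ℕ) cb66 cb67 (Nat.ble (nat_lit 67) i)) (Nat.ble (nat_lit 66) i)) (@Bool.rec (fun _ => ℕ) (@Bool.rec (fun _ => ℕ) cb68 cb69 (Nat.ble (nat_lit 69) i)) (@Bool.rec (fun _ => ℕ) cb70 cb71 (Nat.ble (nat_lit 71) i)) (Nat.ble (nat_lit 70) i)) (Nat.ble (nat_lit 68) i)) (@Bool.rec (fun _ => ℕ) (@Bool.rec (fun _ => ℕ) (@Bool.rec (fun _ => ℕ) cb72 cb73 (Nat.ble (nat_lit 73) i)) (@Bool.rec (fun _ => ℕ) cb74 cb75 (Nat.ble (nat_lit 75) i)) (Nat.ble (nat_lit 74) i)) (@Bool.rec (fun _ =>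 ℕ) (@Bool.rec (fun _ => ℕ) cb76 cb77 (Nat.ble (nat_lit 77) i)) (@Bool.rec (fun _ => ℕ) cb78 cb79 (Nat.ble (nat_lit 79) i)) (Nat.ble (nat_lit 78) i)) (Nat.ble (nat_lit 76) i)) (Nat.ble (nat_lit 72) i)) (@Bool.rec (fun _ => ℕ) (@Bool.rec (fun _ => ℕ) (@Bool.rec (fun _ => ℕ) (@Bool.rec (fun _ => ℕ) cb80 cb81 (Nat.ble (nat_lit 81) i)) (@Bool.rec (fun _ => ℕ) cb82 cb83 (Nat.ble (nat_lit 83) i)) (Nat.ble (nat_lit 82) i)) (@Bool.rec (fun _ => ℕ) (@Bool.rec (fun _ => ℕ) cb84 cb85 (Nat.ble (nat_lit 85) i)) (@Bool.rec (fun _ => ℕ) cb86 cb87 (Nat.ble (nat_lit 87) i)) (Nat.ble (nat_lit 86) i)) (Nat.ble (nat_lit 84) i)) (@Bool.rec (fun _ => ℕ) (@Bool.rec (fun _ => ℕ) (@Bool.rec (fun _ => ℕ) cb88 cb89 (Nat.ble (nat_lit 89) i)) (@Bool.rec (fun _ => ℕ) cb90 cb91 (Nat.ble (nat_lit 91) i)) (Nat.ble (nat_lit 90) i))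 (@Bool.rec (fun _ => ℕ) (@Bool.rec (fun _ => ℕ) cb92 cb93 (Nat.ble (nat_lit 93) i)) (@Bool.rec (fun _ => ℕ) cb94 cb95 (Nat.ble (nat_lit 95) i)) (Nat.ble (nat_lit 94) i)) (Nat.ble (nat_lit 92) i)) (Nat.ble (nat_lit 88) i)) (Nat.ble (nat_lit 80) i))

def certBlk_n0_3 (i : ℕ) : ℕ := (@Bool.rec (fun _ => ℕ) (@Bool.rec (fun _ => ℕ) (@Bool.rec (fun _ => ℕ) (@Bool.rec (fun _ => ℕ) (@Bool.rec (fun _ => ℕ) cb96 cb97 (Nat.ble (nat_lit 97) i)) (@Bool.rec (fun _ => ℕ) cb98 cb99 (Nat.ble (nat_lit 99) i)) (Nat.ble (nat_lit 98) i)) (@Bool.rec (fun _ => ℕ) (@Bool.rec (fun _ => ℕ) cb100 cb101 (Nat.ble (nat_lit 101) i)) (@Bool.rec (fun _ => ℕ) cb102 cb103 (Nat.ble (nat_lit 103) i)) (Nat.ble (nat_lit 102) i)) (Nat.ble (nat_lit 100) i)) (@Bool.rec (fun _ => ℕ) (@Bool.rec (fun _ => ℕ) (@Bool.rec (fun _ => ℕ) cb104 cb105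 (Nat.ble (nat_lit 105) i)) (@Bool.rec (fun _ => ℕ) cb106 cb107 (Nat.ble (nat_lit 107) i)) (Nat.ble (nat_lit 106) i)) (@Bool.rec (fun _ => ℕ) (@Bool.rec (fun _ => ℕ) cb108 cb109 (Nat.ble (nat_lit 109) i)) (@Bool.rec (fun _ => ℕ) cb110 cb111 (Nat.ble (nat_lit 111) i)) (Nat.ble (nat_lit 110) i)) (Nat.ble (nat_lit 108) i)) (Nat.ble (nat_lit 104) i)) (@Bool.rec (fun _ => ℕ) (@Bool.rec (fun _ => ℕ) (@Bool.rec (fun _ => ℕ) (@Bool.rec (fun _ => ℕ) cb112 cb113 (Nat.ble (nat_lit 113) i)) (@Bool.rec (fun _ => ℕ) cb114 cb115 (Nat.ble (nat_lit 115) i)) (Nat.ble (nat_lit 114) i)) (@Bool.rec (fun _ => ℕ) (@Bool.rec (fun _ => ℕ) cb116 cb117 (Nat.ble (nat_lit 117) i)) (@Bool.rec (fun _ => ℕ) cb118 cb119 (Nat.ble (nat_lit 119) i)) (Nat.ble (nat_lit 118) i)) (Nat.ble (nat_lit 116) i)) (@Bool.rec (fun _ => ℕ) (@Bool.rec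 (fun _ => ℕ) (@Bool.rec (fun _ => ℕ) cb120 cb121 (Nat.ble (nat_lit 121) i)) (@Bool.rec (fun _ => ℕ) cb122 cb123 (Nat.ble (nat_lit 123) i)) (Nat.ble (nat_lit 122) i)) (@Bool.rec (fun _ => ℕ) (@Bool.rec (fun _ => ℕ) cb124 cb125 (Nat.ble (nat_lit 125) i)) (@Bool.rec (fun _ => ℕ) cb126 cb127 (Nat.ble (nat_lit 127) i)) (Nat.ble (nat_lit 126) i)) (Nat.ble (nat_lit 124) i)) (Nat.ble (nat_lit 120) i)) (Nat.ble (nat_lit 112) i))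

def certBlk_n0_4 (i : ℕ) : ℕ := (@Bool.rec (fun _ => ℕ) (@Bool.rec (fun _ => ℕ) (@Bool.rec (fun _ => ℕ) cb128 cb129 (Nat.ble (nat_lit 129) i)) (@Bool.rec (fun _ => ℕ) cb130 cb131 (Nat.ble (nat_lit 131) i)) (Nat.ble (nat_lit 130) i)) (@Bool.rec (fun _ => ℕ) (@Bool.rec (fun _ => ℕ) cb132 cb133 (Nat.ble (nat_lit 133) i)) (@Bool.rec (fun _ => ℕ) cb134 (@Bool.rec (fun _ => ℕ) cb135 cb136 (Nat.ble (nat_lit 136) i)) (Nat.ble (nat_lit 135) i)) (Nat.ble (nat_lit 134) i)) (Nat.ble (nat_lit 132) i))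

def certBlk (i : ℕ) : ℕ := (@Bool.rec (fun _ => ℕ) (@Bool.rec (fun _ => ℕ) (certBlk_n0_0 i) (certBlk_n0_1 i) (Nat.ble (nat_lit 32) i)) (@Bool.rec (fun _ => ℕ) (certBlk_n0_2 i) (@Bool.rec (fun _ => ℕ) (certBlk_n0_3 i) (certBlk_n0_4 i) (Nat.ble (nat_lit 128) i)) (Nat.ble (nat_lit 96) i)) (Nat.ble (nat_lit 64) i))

def parBlk_n0_0 (i : ℕ) : ℕ := (@Bool.rec (fun _ => ℕ) (@Bool.rec (fun _ => ℕ) (@Bool.rec (fun _ => ℕ) (@Bool.rec (fun _ => ℕ) (@Bool.rec (fun _ => ℕ) pb0 pb1 (Nat.ble (nat_lit 1) i)) (@Bool.rec (fun _ => ℕ) pb2 pb3 (Nat.ble (nat_lit 3) i)) (Nat.ble (nat_lit 2) i)) (@Bool.rec (fun _ => ℕ) (@Bool.rec (fun _ => ℕ) pb4 pb5 (Nat.ble (nat_lit 5) i)) (@Bool.rec (fun _ => ℕ) pb6 pb7 (Nat.ble (nat_lit 7) i)) (Nat.ble (nat_lit 6) i)) (Nat.ble (nat_lit 4) i)) (@Bool.rec (fun _ => ℕ) (@Bool.rec (fun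 _ => ℕ) (@Bool.rec (fun _ => ℕ) pb8 pb9 (Nat.ble (nat_lit 9) i)) (@Bool.rec (fun _ => ℕ) pb10 pb11 (Nat.ble (nat_lit 11) i)) (Nat.ble (nat_lit 10) i)) (@Bool.rec (fun _ => ℕ) (@Bool.rec (fun _ => ℕ) pb12 pb13 (Nat.ble (nat_lit 13) i)) (@Bool.rec (fun _ => ℕ) pb14 pb15 (Nat.ble (nat_lit 15) i)) (Nat.ble (nat_lit 14) i)) (Nat.ble (nat_lit 12) i)) (Nat.ble (nat_lit 8) i)) (@Bool.rec (fun _ => ℕ) (@Bool.rec (fun _ => ℕ) (@Bool.rec (fun _ => ℕ) (@Bool.rec (fun _ => ℕ) pb16 pb17 (Nat.ble (nat_lit 17) i)) (@Bool.rec (fun _ => ℕ) pb18 pb19 (Nat.ble (nat_lit 19) i)) (Nat.ble (nat_lit 18) i)) (@Bool.rec (fun _ => ℕ) (@Bool.rec (fun _ => ℕ) pb20 pb21 (Nat.ble (nat_lit 21) i)) (@Bool.rec (fun _ => ℕ) pb22 pb23 (Nat.ble (nat_lit 23) i)) (Nat.ble (nat_lit 22) i)) (Nat.ble (nat_lit 20) i)) (@Bool.rec (fun _ =>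 ℕ) (@Bool.rec (fun _ => ℕ) (@Bool.rec (fun _ => ℕ) pb24 pb25 (Nat.ble (nat_lit 25) i)) (@Bool.rec (fun _ => ℕ) pb26 pb27 (Nat.ble (nat_lit 27) i)) (Nat.ble (nat_lit 26) i)) (@Bool.rec (fun _ => ℕ) (@Bool.rec (fun _ => ℕ) pb28 pb29 (Nat.ble (nat_lit 29) i)) (@Bool.rec (fun _ => ℕ) pb30 pb31 (Nat.ble (nat_lit 31) i)) (Nat.ble (nat_lit 30) i)) (Nat.ble (nat_lit 28) i)) (Nat.ble (nat_lit 24) i)) (Nat.ble (nat_lit 16) i))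

def parBlk_n0_1 (i : ℕ) : ℕ := (@Bool.rec (fun _ => ℕ) (@Bool.rec (fun _ => ℕ) pb32 (@Bool.rec (fun _ => ℕ) pb33 pb34 (Nat.ble (nat_lit 34) i)) (Nat.ble (nat_lit 33) i)) (@Bool.rec (fun _ => ℕ) (@Bool.rec (fun _ => ℕ) pb35 pb36 (Nat.ble (nat_lit 36) i)) (@Bool.rec (fun _ => ℕ) pb37 pb38 (Nat.ble (nat_lit 38) i)) (Nat.ble (nat_lit 37) i)) (Nat.ble (nat_lit 35) i))

def parBlk (i : ℕ) : ℕ := (@Bool.rec (fun _ => ℕ) (parBlk_n0_0 i) (parBlk_n0_1 i) (Nat.ble (nat_lit 32) i))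

def finBlk (i : ℕ) : ℕ := (@Bool.rec (fun _ => ℕ) nb0 (@Bool.rec (fun _ => ℕ) nb1 nb2 (Nat.ble (nat_lit 2) i)) (Nat.ble (nat_lit 1) i))

def rowBlk_n0_0 (i : ℕ) : ℕ := (@Bool.rec (fun _ => ℕ) (@Bool.rec (fun _ => ℕ) (@Bool.rec (fun _ => ℕ) (@Bool.rec (fun _ => ℕ) (@Bool.rec (fun _ => ℕ) rb0 rb1 (Nat.ble (nat_lit 1) i)) (@Bool.rec (fun _ => ℕ) rb2 rb3 (Nat.ble (nat_lit 3) i)) (Nat.ble (nat_lit 2) i)) (@Bool.rec (fun _ => ℕ) (@Bool.rec (fun _ => ℕ) rb4 rb5 (Nat.ble (nat_lit 5) i)) (@Bool.rec (fun _ => ℕ) rb6 rb7 (Nat.ble (nat_lit 7) i)) (Nat.ble (nat_lit 6) i)) (Nat.ble (nat_lit 4) i)) (@Bool.rec (fun _ => ℕ) (@Bool.rec (fun _ => ℕ) (@Bool.rec (fun _ => ℕ) rb8 rb9 (Nat.ble (nat_lit 9) i)) (@Bool.rec (fun _ => ℕ) rb10 rb11 (Nat.ble (nat_lit 11) i)) (Nat.ble (nat_lit 10) i)) (@Bool.rec (fun _ => ℕ)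 (@Bool.rec (fun _ => ℕ) rb12 rb13 (Nat.ble (nat_lit 13) i)) (@Bool.rec (fun _ => ℕ) rb14 rb15 (Nat.ble (nat_lit 15) i)) (Nat.ble (nat_lit 14) i)) (Nat.ble (nat_lit 12) i)) (Nat.ble (nat_lit 8) i)) (@Bool.rec (fun _ => ℕ) (@Bool.rec (fun _ => ℕ) (@Bool.rec (fun _ => ℕ) (@Bool.rec (fun _ => ℕ) rb16 rb17 (Nat.ble (nat_lit 17) i)) (@Bool.rec (fun _ => ℕ) rb18 rb19 (Nat.ble (nat_lit 19) i)) (Nat.ble (nat_lit 18) i)) (@Bool.rec (fun _ => ℕ) (@Bool.rec (fun _ => ℕ) rb20 rb21 (Nat.ble (nat_lit 21) i)) (@Bool.rec (fun _ => ℕ) rb22 rb23 (Nat.ble (nat_lit 23) i)) (Nat.ble (nat_lit 22) i)) (Nat.ble (nat_lit 20) i)) (@Bool.rec (fun _ => ℕ) (@Bool.rec (fun _ => ℕ) (@Bool.rec (fun _ => ℕ) rb24 rb25 (Nat.ble (nat_lit 25) i)) (@Bool.rec (fun _ => ℕ) rb26 rb27 (Nat.ble (nat_lit 27) i)) (Nat.ble (nat_lit 26) i)) (@Bool.rec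 (fun _ => ℕ) (@Bool.rec (fun _ => ℕ) rb28 rb29 (Nat.ble (nat_lit 29) i)) (@Bool.rec (fun _ => ℕ) rb30 rb31 (Nat.ble (nat_lit 31) i)) (Nat.ble (nat_lit 30) i)) (Nat.ble (nat_lit 28) i)) (Nat.ble (nat_lit 24) i)) (Nat.ble (nat_lit 16) i))

def rowBlk_n0_1 (i : ℕ) : ℕ := (@Bool.rec (fun _ => ℕ) (@Bool.rec (fun _ => ℕ) (@Bool.rec (fun _ => ℕ) (@Bool.rec (fun _ => ℕ) (@Bool.rec (fun _ => ℕ) rb32 rb33 (Nat.ble (nat_lit 33) i)) (@Bool.rec (fun _ => ℕ) rb34 rb35 (Nat.ble (nat_lit 35) i)) (Nat.ble (nat_lit 34) i)) (@Bool.rec (fun _ => ℕ) (@Bool.rec (fun _ => ℕ) rb36 rb37 (Nat.ble (nat_lit 37) i)) (@Bool.rec (fun _ => ℕ) rb38 rb39 (Nat.ble (nat_lit 39) i)) (Nat.ble (nat_lit 38) i)) (Nat.ble (nat_lit 36) i)) (@Bool.rec (fun _ => ℕ) (@Bool.rec (fun _ => ℕ) (@Bool.rec (fun _ => ℕ) rb40 rb41 (Nat.ble (nat_lit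 41) i)) (@Bool.rec (fun _ => ℕ) rb42 rb43 (Nat.ble (nat_lit 43) i)) (Nat.ble (nat_lit 42) i)) (@Bool.rec (fun _ => ℕ) (@Bool.rec (fun _ => ℕ) rb44 rb45 (Nat.ble (nat_lit 45) i)) (@Bool.rec (fun _ => ℕ) rb46 rb47 (Nat.ble (nat_lit 47) i)) (Nat.ble (nat_lit 46) i)) (Nat.ble (nat_lit 44) i)) (Nat.ble (nat_lit 40) i)) (@Bool.rec (fun _ => ℕ) (@Bool.rec (fun _ => ℕ) (@Bool.rec (fun _ => ℕ) (@Bool.rec (fun _ => ℕ) rb48 rb49 (Nat.ble (nat_lit 49) i)) (@Bool.rec (fun _ => ℕ) rb50 rb51 (Nat.ble (nat_lit 51) i)) (Nat.ble (nat_lit 50) i)) (@Bool.rec (fun _ => ℕ) (@Bool.rec (fun _ => ℕ) rb52 rb53 (Nat.ble (nat_lit 53) i)) (@Bool.rec (fun _ => ℕ) rb54 rb55 (Nat.ble (nat_lit 55) i)) (Nat.ble (nat_lit 54) i)) (Nat.ble (nat_lit 52) i)) (@Bool.rec (fun _ => ℕ) (@Bool.rec (fun _ => ℕ) (@Bool.rec (fun _ => ℕ) rb56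 rb57 (Nat.ble (nat_lit 57) i)) (@Bool.rec (fun _ => ℕ) rb58 rb59 (Nat.ble (nat_lit 59) i)) (Nat.ble (nat_lit 58) i)) (@Bool.rec (fun _ => ℕ) (@Bool.rec (fun _ => ℕ) rb60 rb61 (Nat.ble (nat_lit 61) i)) (@Bool.rec (fun _ => ℕ) rb62 rb63 (Nat.ble (nat_lit 63) i)) (Nat.ble (nat_lit 62) i)) (Nat.ble (nat_lit 60) i)) (Nat.ble (nat_lit 56) i)) (Nat.ble (nat_lit 48) i))

def rowBlk_n0_2 (i : ℕ) : ℕ := (@Bool.rec (fun _ => ℕ) (@Bool.rec (fun _ => ℕ) (@Bool.rec (fun _ => ℕ) (@Bool.rec (fun _ => ℕ) (@Bool.rec (fun _ => ℕ) rb64 rb65 (Nat.ble (nat_lit 65) i)) (@Bool.rec (fun _ => ℕ) rb66 rb67 (Nat.ble (nat_lit 67) i)) (Nat.ble (nat_lit 66) i)) (@Bool.rec (fun _ => ℕ) (@Bool.rec (fun _ => ℕ) rb68 rb69 (Nat.ble (nat_lit 69) i)) (@Bool.rec (fun _ => ℕ) rb70 rb71 (Nat.ble (nat_lit 71) i)) (Nat.ble (nat_lit 70) i))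 (Nat.ble (nat_lit 68) i)) (@Bool.rec (fun _ => ℕ) (@Bool.rec (fun _ => ℕ) (@Bool.rec (fun _ => ℕ) rb72 rb73 (Nat.ble (nat_lit 73) i)) (@Bool.rec (fun _ => ℕ) rb74 rb75 (Nat.ble (nat_lit 75) i)) (Nat.ble (nat_lit 74) i)) (@Bool.rec (fun _ => ℕ) (@Bool.rec (fun _ => ℕ) rb76 rb77 (Nat.ble (nat_lit 77) i)) (@Bool.rec (fun _ => ℕ) rb78 rb79 (Nat.ble (nat_lit 79) i)) (Nat.ble (nat_lit 78) i)) (Nat.ble (nat_lit 76) i)) (Nat.ble (nat_lit 72) i)) (@Bool.rec (fun _ => ℕ) (@Bool.rec (fun _ => ℕ) (@Bool.rec (fun _ => ℕ) (@Bool.rec (fun _ => ℕ) rb80 rb81 (Nat.ble (nat_lit 81) i)) (@Bool.rec (fun _ => ℕ) rb82 rb83 (Nat.ble (nat_lit 83) i)) (Nat.ble (nat_lit 82) i)) (@Bool.rec (fun _ => ℕ) (@Bool.rec (fun _ => ℕ) rb84 rb85 (Nat.ble (nat_lit 85) i)) (@Bool.rec (fun _ => ℕ) rb86 rb87 (Nat.ble (nat_lit 87) i)) (Nat.ble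 (nat_lit 86) i)) (Nat.ble (nat_lit 84) i)) (@Bool.rec (fun _ => ℕ) (@Bool.rec (fun _ => ℕ) (@Bool.rec (fun _ => ℕ) rb88 rb89 (Nat.ble (nat_lit 89) i)) (@Bool.rec (fun _ => ℕ) rb90 rb91 (Nat.ble (nat_lit 91) i)) (Nat.ble (nat_lit 90) i)) (@Bool.rec (fun _ => ℕ) (@Bool.rec (fun _ => ℕ) rb92 rb93 (Nat.ble (nat_lit 93) i)) (@Bool.rec (fun _ => ℕ) rb94 rb95 (Nat.ble (nat_lit 95) i)) (Nat.ble (nat_lit 94) i)) (Nat.ble (nat_lit 92) i)) (Nat.ble (nat_lit 88) i)) (Nat.ble (nat_lit 80) i))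

def rowBlk_n0_3 (i : ℕ) : ℕ := (@Bool.rec (fun _ => ℕ) (@Bool.rec (fun _ => ℕ) (@Bool.rec (fun _ => ℕ) (@Bool.rec (fun _ => ℕ) (@Bool.rec (fun _ => ℕ) rb96 rb97 (Nat.ble (nat_lit 97) i)) (@Bool.rec (fun _ => ℕ) rb98 rb99 (Nat.ble (nat_lit 99) i)) (Nat.ble (nat_lit 98) i)) (@Bool.rec (fun _ => ℕ) (@Bool.rec (fun _ => ℕ) rb100 rb101 (Nat.ble (nat_lit 101) i)) (@Bool.rec (fun _ => ℕ) rb102 rb103 (Nat.ble (nat_lit 103) i)) (Nat.ble (nat_lit 102) i)) (Nat.ble (nat_lit 100) i)) (@Bool.rec (fun _ => ℕ) (@Bool.rec (fun _ => ℕ) (@Bool.rec (fun _ => ℕ) rb104 rb105 (Nat.ble (nat_lit 105) i)) (@Bool.rec (fun _ => ℕ) rb106 rb107 (Nat.ble (nat_lit 107) i)) (Nat.ble (nat_lit 106) i)) (@Bool.rec (fun _ => ℕ) (@Bool.rec (fun _ => ℕ) rb108 rb109 (Nat.ble (nat_lit 109) i)) (@Bool.rec (fun _ => ℕ) rb110 rb111 (Nat.ble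 (nat_lit 111) i)) (Nat.ble (nat_lit 110) i)) (Nat.ble (nat_lit 108) i)) (Nat.ble (nat_lit 104) i)) (@Bool.rec (fun _ => ℕ) (@Bool.rec (fun _ => ℕ) (@Bool.rec (fun _ => ℕ) (@Bool.rec (fun _ => ℕ) rb112 rb113 (Nat.ble (nat_lit 113) i)) (@Bool.rec (fun _ => ℕ) rb114 rb115 (Nat.ble (nat_lit 115) i)) (Nat.ble (nat_lit 114) i)) (@Bool.rec (fun _ => ℕ) (@Bool.rec (fun _ => ℕ) rb116 rb117 (Nat.ble (nat_lit 117) i)) (@Bool.rec (fun _ => ℕ) rb118 rb119 (Nat.ble (nat_lit 119) i)) (Nat.ble (nat_lit 118) i)) (Nat.ble (nat_lit 116) i)) (@Bool.rec (fun _ => ℕ) (@Bool.rec (fun _ => ℕ) (@Bool.rec (fun _ => ℕ) rb120 rb121 (Nat.ble (nat_lit 121) i)) (@Bool.rec (fun _ => ℕ) rb122 rb123 (Nat.ble (nat_lit 123) i)) (Nat.ble (nat_lit 122) i)) (@Bool.rec (fun _ => ℕ) (@Bool.rec (fun _ => ℕ) rb124 rb125 (Nat.ble (nat_lit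 125) i)) (@Bool.rec (fun _ => ℕ) rb126 rb127 (Nat.ble (nat_lit 127) i)) (Nat.ble (nat_lit 126) i)) (Nat.ble (nat_lit 124) i)) (Nat.ble (nat_lit 120) i)) (Nat.ble (nat_lit 112) i))

def rowBlk_n0_4 (i : ℕ) : ℕ := (@Bool.rec (fun _ => ℕ) (@Bool.rec (fun _ => ℕ) (@Bool.rec (fun _ => ℕ) (@Bool.rec (fun _ => ℕ) (@Bool.rec (fun _ => ℕ) rb128 rb129 (Nat.ble (nat_lit 129) i)) (@Bool.rec (fun _ => ℕ) rb130 rb131 (Nat.ble (nat_lit 131) i)) (Nat.ble (nat_lit 130) i)) (@Bool.rec (fun _ => ℕ) (@Bool.rec (fun _ => ℕ) rb132 rb133 (Nat.ble (nat_lit 133) i)) (@Bool.rec (fun _ => ℕ) rb134 rb135 (Nat.ble (nat_lit 135) i)) (Nat.ble (nat_lit 134) i)) (Nat.ble (nat_lit 132) i)) (@Bool.rec (fun _ => ℕ) (@Bool.rec (fun _ => ℕ) (@Bool.rec (fun _ => ℕ) rb136 rb137 (Nat.ble (nat_lit 137) i)) (@Bool.rec (fun _ => ℕ) rb138 rb139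 (Nat.ble (nat_lit 139) i)) (Nat.ble (nat_lit 138) i)) (@Bool.rec (fun _ => ℕ) (@Bool.rec (fun _ => ℕ) rb140 rb141 (Nat.ble (nat_lit 141) i)) (@Bool.rec (fun _ => ℕ) rb142 rb143 (Nat.ble (nat_lit 143) i)) (Nat.ble (nat_lit 142) i)) (Nat.ble (nat_lit 140) i)) (Nat.ble (nat_lit 136) i)) (@Bool.rec (fun _ => ℕ) (@Bool.rec (fun _ => ℕ) (@Bool.rec (fun _ => ℕ) (@Bool.rec (fun _ => ℕ) rb144 rb145 (Nat.ble (nat_lit 145) i)) (@Bool.rec (fun _ => ℕ) rb146 rb147 (Nat.ble (nat_lit 147) i)) (Nat.ble (nat_lit 146) i)) (@Bool.rec (fun _ => ℕ) (@Bool.rec (fun _ => ℕ) rb148 rb149 (Nat.ble (nat_lit 149) i)) (@Bool.rec (fun _ => ℕ) rb150 rb151 (Nat.ble (nat_lit 151) i)) (Nat.ble (nat_lit 150) i)) (Nat.ble (nat_lit 148) i)) (@Bool.rec (fun _ => ℕ) (@Bool.rec (fun _ => ℕ) (@Bool.rec (fun _ => ℕ) rb152 rb153 (Nat.ble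 (nat_lit 153) i)) (@Bool.rec (fun _ => ℕ) rb154 rb155 (Nat.ble (nat_lit 155) i)) (Nat.ble (nat_lit 154) i)) (@Bool.rec (fun _ => ℕ) (@Bool.rec (fun _ => ℕ) rb156 rb157 (Nat.ble (nat_lit 157) i)) (@Bool.rec (fun _ => ℕ) rb158 rb159 (Nat.ble (nat_lit 159) i)) (Nat.ble (nat_lit 158) i)) (Nat.ble (nat_lit 156) i)) (Nat.ble (nat_lit 152) i)) (Nat.ble (nat_lit 144) i))

def rowBlk_n0_5 (i : ℕ) : ℕ := (@Bool.rec (fun _ => ℕ) (@Bool.rec (fun _ => ℕ) (@Bool.rec (fun _ => ℕ) (@Bool.rec (fun _ => ℕ) (@Bool.rec (fun _ => ℕ) rb160 rb161 (Nat.ble (nat_lit 161) i)) (@Bool.rec (fun _ => ℕ) rb162 rb163 (Nat.ble (nat_lit 163) i)) (Nat.ble (nat_lit 162) i)) (@Bool.rec (fun _ => ℕ) (@Bool.rec (fun _ => ℕ) rb164 rb165 (Nat.ble (nat_lit 165) i)) (@Bool.rec (fun _ => ℕ) rb166 rb167 (Nat.ble (nat_lit 167) i)) (Nat.ble (nat_lit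 166) i)) (Nat.ble (nat_lit 164) i)) (@Bool.rec (fun _ => ℕ) (@Bool.rec (fun _ => ℕ) (@Bool.rec (fun _ => ℕ) rb168 rb169 (Nat.ble (nat_lit 169) i)) (@Bool.rec (fun _ => ℕ) rb170 rb171 (Nat.ble (nat_lit 171) i)) (Nat.ble (nat_lit 170) i)) (@Bool.rec (fun _ => ℕ) (@Bool.rec (fun _ => ℕ) rb172 rb173 (Nat.ble (nat_lit 173) i)) (@Bool.rec (fun _ => ℕ) rb174 rb175 (Nat.ble (nat_lit 175) i)) (Nat.ble (nat_lit 174) i)) (Nat.ble (nat_lit 172) i)) (Nat.ble (nat_lit 168) i)) (@Bool.rec (fun _ => ℕ) (@Bool.rec (fun _ => ℕ) (@Bool.rec (fun _ => ℕ) (@Bool.rec (fun _ => ℕ) rb176 rb177 (Nat.ble (nat_lit 177) i)) (@Bool.rec (fun _ => ℕ) rb178 rb179 (Nat.ble (nat_lit 179) i)) (Nat.ble (nat_lit 178) i)) (@Bool.rec (fun _ => ℕ) (@Bool.rec (fun _ => ℕ) rb180 rb181 (Nat.ble (nat_lit 181) i)) (@Bool.rec (fun _ => ℕ) rb182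 rb183 (Nat.ble (nat_lit 183) i)) (Nat.ble (nat_lit 182) i)) (Nat.ble (nat_lit 180) i)) (@Bool.rec (fun _ => ℕ) (@Bool.rec (fun _ => ℕ) (@Bool.rec (fun _ => ℕ) rb184 rb185 (Nat.ble (nat_lit 185) i)) (@Bool.rec (fun _ => ℕ) rb186 rb187 (Nat.ble (nat_lit 187) i)) (Nat.ble (nat_lit 186) i)) (@Bool.rec (fun _ => ℕ) (@Bool.rec (fun _ => ℕ) rb188 rb189 (Nat.ble (nat_lit 189) i)) (@Bool.rec (fun _ => ℕ) rb190 rb191 (Nat.ble (nat_lit 191) i)) (Nat.ble (nat_lit 190) i)) (Nat.ble (nat_lit 188) i)) (Nat.ble (nat_lit 184) i)) (Nat.ble (nat_lit 176) i))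

def rowBlk_n0_6 (i : ℕ) : ℕ := (@Bool.rec (fun _ => ℕ) (@Bool.rec (fun _ => ℕ) (@Bool.rec (fun _ => ℕ) (@Bool.rec (fun _ => ℕ) (@Bool.rec (fun _ => ℕ) rb192 rb193 (Nat.ble (nat_lit 193) i)) (@Bool.rec (fun _ => ℕ) rb194 rb195 (Nat.ble (nat_lit 195) i)) (Nat.ble (nat_lit 194) i)) (@Bool.rec (fun _ => ℕ) (@Bool.rec (fun _ => ℕ) rb196 rb197 (Nat.ble (nat_lit 197) i)) (@Bool.rec (fun _ => ℕ) rb198 rb199 (Nat.ble (nat_lit 199) i)) (Nat.ble (nat_lit 198) i)) (Nat.ble (nat_lit 196) i)) (@Bool.rec (fun _ => ℕ) (@Bool.rec (fun _ => ℕ) (@Bool.rec (fun _ => ℕ) rb200 rb201 (Nat.ble (nat_lit 201) i)) (@Bool.rec (fun _ => ℕ) rb202 rb203 (Nat.ble (nat_lit 203) i)) (Nat.ble (nat_lit 202) i)) (@Bool.rec (fun _ => ℕ) (@Bool.rec (fun _ => ℕ) rb204 rb205 (Nat.ble (nat_lit 205) i)) (@Bool.rec (fun _ => ℕ) rb206 rb207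 (Nat.ble (nat_lit 207) i)) (Nat.ble (nat_lit 206) i)) (Nat.ble (nat_lit 204) i)) (Nat.ble (nat_lit 200) i)) (@Bool.rec (fun _ => ℕ) (@Bool.rec (fun _ => ℕ) (@Bool.rec (fun _ => ℕ) (@Bool.rec (fun _ => ℕ) rb208 rb209 (Nat.ble (nat_lit 209) i)) (@Bool.rec (fun _ => ℕ) rb210 rb211 (Nat.ble (nat_lit 211) i)) (Nat.ble (nat_lit 210) i)) (@Bool.rec (fun _ => ℕ) (@Bool.rec (fun _ => ℕ) rb212 rb213 (Nat.ble (nat_lit 213) i)) (@Bool.rec (fun _ => ℕ) rb214 rb215 (Nat.ble (nat_lit 215) i)) (Nat.ble (nat_lit 214) i)) (Nat.ble (nat_lit 212) i)) (@Bool.rec (fun _ => ℕ) (@Bool.rec (fun _ => ℕ) (@Bool.rec (fun _ => ℕ) rb216 rb217 (Nat.ble (nat_lit 217) i)) (@Bool.rec (fun _ => ℕ) rb218 rb219 (Nat.ble (nat_lit 219) i)) (Nat.ble (nat_lit 218) i)) (@Bool.rec (fun _ => ℕ) (@Bool.rec (fun _ => ℕ) rb220 rb221 (Nat.ble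 (nat_lit 221) i)) (@Bool.rec (fun _ => ℕ) rb222 rb223 (Nat.ble (nat_lit 223) i)) (Nat.ble (nat_lit 222) i)) (Nat.ble (nat_lit 220) i)) (Nat.ble (nat_lit 216) i)) (Nat.ble (nat_lit 208) i))

def rowBlk_n0_7 (i : ℕ) : ℕ := (@Bool.rec (fun _ => ℕ) (@Bool.rec (fun _ => ℕ) (@Bool.rec (fun _ => ℕ) (@Bool.rec (fun _ => ℕ) (@Bool.rec (fun _ => ℕ) rb224 rb225 (Nat.ble (nat_lit 225) i)) (@Bool.rec (fun _ => ℕ) rb226 rb227 (Nat.ble (nat_lit 227) i)) (Nat.ble (nat_lit 226) i)) (@Bool.rec (fun _ => ℕ) (@Bool.rec (fun _ => ℕ) rb228 rb229 (Nat.ble (nat_lit 229) i)) (@Bool.rec (fun _ => ℕ) rb230 rb231 (Nat.ble (nat_lit 231) i)) (Nat.ble (nat_lit 230) i)) (Nat.ble (nat_lit 228) i)) (@Bool.rec (fun _ => ℕ) (@Bool.rec (fun _ => ℕ) (@Bool.rec (fun _ => ℕ) rb232 rb233 (Nat.ble (nat_lit 233) i)) (@Bool.rec (fun _ => ℕ)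 rb234 rb235 (Nat.ble (nat_lit 235) i)) (Nat.ble (nat_lit 234) i)) (@Bool.rec (fun _ => ℕ) (@Bool.rec (fun _ => ℕ) rb236 rb237 (Nat.ble (nat_lit 237) i)) (@Bool.rec (fun _ => ℕ) rb238 rb239 (Nat.ble (nat_lit 239) i)) (Nat.ble (nat_lit 238) i)) (Nat.ble (nat_lit 236) i)) (Nat.ble (nat_lit 232) i)) (@Bool.rec (fun _ => ℕ) (@Bool.rec (fun _ => ℕ) (@Bool.rec (fun _ => ℕ) (@Bool.rec (fun _ => ℕ) rb240 rb241 (Nat.ble (nat_lit 241) i)) (@Bool.rec (fun _ => ℕ) rb242 rb243 (Nat.ble (nat_lit 243) i)) (Nat.ble (nat_lit 242) i)) (@Bool.rec (fun _ => ℕ) (@Bool.rec (fun _ => ℕ) rb244 rb245 (Nat.ble (nat_lit 245) i)) (@Bool.rec (fun _ => ℕ) rb246 rb247 (Nat.ble (nat_lit 247) i)) (Nat.ble (nat_lit 246) i)) (Nat.ble (nat_lit 244) i)) (@Bool.rec (fun _ => ℕ) (@Bool.rec (fun _ => ℕ) (@Bool.rec (fun _ => ℕ) rb248 rb249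 (Nat.ble (nat_lit 249) i)) (@Bool.rec (fun _ => ℕ) rb250 rb251 (Nat.ble (nat_lit 251) i)) (Nat.ble (nat_lit 250) i)) (@Bool.rec (fun _ => ℕ) (@Bool.rec (fun _ => ℕ) rb252 rb253 (Nat.ble (nat_lit 253) i)) (@Bool.rec (fun _ => ℕ) rb254 rb255 (Nat.ble (nat_lit 255) i)) (Nat.ble (nat_lit 254) i)) (Nat.ble (nat_lit 252) i)) (Nat.ble (nat_lit 248) i)) (Nat.ble (nat_lit 240) i))

def rowBlk_n0_8 (i : ℕ) : ℕ := (@Bool.rec (fun _ => ℕ) (@Bool.rec (fun _ => ℕ) (@Bool.rec (fun _ => ℕ) (@Bool.rec (fun _ => ℕ) (@Bool.rec (fun _ => ℕ) rb256 rb257 (Nat.ble (nat_lit 257) i)) (@Bool.rec (fun _ => ℕ) rb258 rb259 (Nat.ble (nat_lit 259) i)) (Nat.ble (nat_lit 258) i)) (@Bool.rec (fun _ => ℕ) (@Bool.rec (fun _ => ℕ) rb260 rb261 (Nat.ble (nat_lit 261) i)) (@Bool.rec (fun _ => ℕ) rb262 rb263 (Nat.ble (nat_lit 263) i)) (Nat.ble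 (nat_lit 262) i)) (Nat.ble (nat_lit 260) i)) (@Bool.rec (fun _ => ℕ) (@Bool.rec (fun _ => ℕ) (@Bool.rec (fun _ => ℕ) rb264 rb265 (Nat.ble (nat_lit 265) i)) (@Bool.rec (fun _ => ℕ) rb266 rb267 (Nat.ble (nat_lit 267) i)) (Nat.ble (nat_lit 266) i)) (@Bool.rec (fun _ => ℕ) (@Bool.rec (fun _ => ℕ) rb268 rb269 (Nat.ble (nat_lit 269) i)) (@Bool.rec (fun _ => ℕ) rb270 rb271 (Nat.ble (nat_lit 271) i)) (Nat.ble (nat_lit 270) i)) (Nat.ble (nat_lit 268) i)) (Nat.ble (nat_lit 264) i)) (@Bool.rec (fun _ => ℕ) (@Bool.rec (fun _ => ℕ) (@Bool.rec (fun _ => ℕ) (@Bool.rec (fun _ => ℕ) rb272 rb273 (Nat.ble (nat_lit 273) i)) (@Bool.rec (fun _ => ℕ) rb274 rb275 (Nat.ble (nat_lit 275) i)) (Nat.ble (nat_lit 274) i)) (@Bool.rec (fun _ => ℕ) (@Bool.rec (fun _ => ℕ) rb276 rb277 (Nat.ble (nat_lit 277) i)) (@Bool.rec (fun _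 => ℕ) rb278 rb279 (Nat.ble (nat_lit 279) i)) (Nat.ble (nat_lit 278) i)) (Nat.ble (nat_lit 276) i)) (@Bool.rec (fun _ => ℕ) (@Bool.rec (fun _ => ℕ) (@Bool.rec (fun _ => ℕ) rb280 rb281 (Nat.ble (nat_lit 281) i)) (@Bool.rec (fun _ => ℕ) rb282 rb283 (Nat.ble (nat_lit 283) i)) (Nat.ble (nat_lit 282) i)) (@Bool.rec (fun _ => ℕ) (@Bool.rec (fun _ => ℕ) rb284 rb285 (Nat.ble (nat_lit 285) i)) (@Bool.rec (fun _ => ℕ) rb286 rb287 (Nat.ble (nat_lit 287) i)) (Nat.ble (nat_lit 286) i)) (Nat.ble (nat_lit 284) i)) (Nat.ble (nat_lit 280) i)) (Nat.ble (nat_lit 272) i))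

def rowBlk_n0_9 (i : ℕ) : ℕ := (@Bool.rec (fun _ => ℕ) (@Bool.rec (fun _ => ℕ) (@Bool.rec (fun _ => ℕ) (@Bool.rec (fun _ => ℕ) (@Bool.rec (fun _ => ℕ) rb288 rb289 (Nat.ble (nat_lit 289) i)) (@Bool.rec (fun _ => ℕ) rb290 rb291 (Nat.ble (nat_lit 291) i)) (Nat.ble (nat_lit 290) i)) (@Bool.rec (fun _ => ℕ) (@Bool.rec (fun _ => ℕ) rb292 rb293 (Nat.ble (nat_lit 293) i)) (@Bool.rec (fun _ => ℕ) rb294 rb295 (Nat.ble (nat_lit 295) i)) (Nat.ble (nat_lit 294) i)) (Nat.ble (nat_lit 292) i)) (@Bool.rec (fun _ => ℕ) (@Bool.rec (fun _ => ℕ) (@Bool.rec (fun _ => ℕ) rb296 rb297 (Nat.ble (nat_lit 297) i)) (@Bool.rec (fun _ => ℕ) rb298 rb299 (Nat.ble (nat_lit 299) i)) (Nat.ble (nat_lit 298) i)) (@Bool.rec (fun _ => ℕ) (@Bool.rec (fun _ => ℕ) rb300 rb301 (Nat.ble (nat_lit 301) i)) (@Bool.rec (fun _ => ℕ) rb302 rb303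 (Nat.ble (nat_lit 303) i)) (Nat.ble (nat_lit 302) i)) (Nat.ble (nat_lit 300) i)) (Nat.ble (nat_lit 296) i)) (@Bool.rec (fun _ => ℕ) (@Bool.rec (fun _ => ℕ) (@Bool.rec (fun _ => ℕ) (@Bool.rec (fun _ => ℕ) rb304 rb305 (Nat.ble (nat_lit 305) i)) (@Bool.rec (fun _ => ℕ) rb306 rb307 (Nat.ble (nat_lit 307) i)) (Nat.ble (nat_lit 306) i)) (@Bool.rec (fun _ => ℕ) (@Bool.rec (fun _ => ℕ) rb308 rb309 (Nat.ble (nat_lit 309) i)) (@Bool.rec (fun _ => ℕ) rb310 rb311 (Nat.ble (nat_lit 311) i)) (Nat.ble (nat_lit 310) i)) (Nat.ble (nat_lit 308) i)) (@Bool.rec (fun _ => ℕ) (@Bool.rec (fun _ => ℕ) (@Bool.rec (fun _ => ℕ) rb312 rb313 (Nat.ble (nat_lit 313) i)) (@Bool.rec (fun _ => ℕ) rb314 rb315 (Nat.ble (nat_lit 315) i)) (Nat.ble (nat_lit 314) i)) (@Bool.rec (fun _ => ℕ) (@Bool.rec (fun _ => ℕ) rb316 rb317 (Nat.ble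 (nat_lit 317) i)) (@Bool.rec (fun _ => ℕ) rb318 rb319 (Nat.ble (nat_lit 319) i)) (Nat.ble (nat_lit 318) i)) (Nat.ble (nat_lit 316) i)) (Nat.ble (nat_lit 312) i)) (Nat.ble (nat_lit 304) i))

def rowBlk_n0_10 (i : ℕ) : ℕ := (@Bool.rec (fun _ => ℕ) (@Bool.rec (fun _ => ℕ) (@Bool.rec (fun _ => ℕ) (@Bool.rec (fun _ => ℕ) (@Bool.rec (fun _ => ℕ) rb320 rb321 (Nat.ble (nat_lit 321) i)) (@Bool.rec (fun _ => ℕ) rb322 rb323 (Nat.ble (nat_lit 323) i)) (Nat.ble (nat_lit 322) i)) (@Bool.rec (fun _ => ℕ) (@Bool.rec (fun _ => ℕ) rb324 rb325 (Nat.ble (nat_lit 325) i)) (@Bool.rec (fun _ => ℕ) rb326 rb327 (Nat.ble (nat_lit 327) i)) (Nat.ble (nat_lit 326) i)) (Nat.ble (nat_lit 324) i)) (@Bool.rec (fun _ => ℕ) (@Bool.rec (fun _ => ℕ) (@Bool.rec (fun _ => ℕ) rb328 rb329 (Nat.ble (nat_lit 329) i)) (@Bool.rec (fun _ =>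 ℕ) rb330 rb331 (Nat.ble (nat_lit 331) i)) (Nat.ble (nat_lit 330) i)) (@Bool.rec (fun _ => ℕ) (@Bool.rec (fun _ => ℕ) rb332 rb333 (Nat.ble (nat_lit 333) i)) (@Bool.rec (fun _ => ℕ) rb334 rb335 (Nat.ble (nat_lit 335) i)) (Nat.ble (nat_lit 334) i)) (Nat.ble (nat_lit 332) i)) (Nat.ble (nat_lit 328) i)) (@Bool.rec (fun _ => ℕ) (@Bool.rec (fun _ => ℕ) (@Bool.rec (fun _ => ℕ) (@Bool.rec (fun _ => ℕ) rb336 rb337 (Nat.ble (nat_lit 337) i)) (@Bool.rec (fun _ => ℕ) rb338 rb339 (Nat.ble (nat_lit 339) i)) (Nat.ble (nat_lit 338) i)) (@Bool.rec (fun _ => ℕ) (@Bool.rec (fun _ => ℕ) rb340 rb341 (Nat.ble (nat_lit 341) i)) (@Bool.rec (fun _ => ℕ) rb342 rb343 (Nat.ble (nat_lit 343) i)) (Nat.ble (nat_lit 342) i)) (Nat.ble (nat_lit 340) i)) (@Bool.rec (fun _ => ℕ) (@Bool.rec (fun _ => ℕ) (@Bool.rec (fun _ => ℕ) rb344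 rb345 (Nat.ble (nat_lit 345) i)) (@Bool.rec (fun _ => ℕ) rb346 rb347 (Nat.ble (nat_lit 347) i)) (Nat.ble (nat_lit 346) i)) (@Bool.rec (fun _ => ℕ) (@Bool.rec (fun _ => ℕ) rb348 rb349 (Nat.ble (nat_lit 349) i)) (@Bool.rec (fun _ => ℕ) rb350 rb351 (Nat.ble (nat_lit 351) i)) (Nat.ble (nat_lit 350) i)) (Nat.ble (nat_lit 348) i)) (Nat.ble (nat_lit 344) i)) (Nat.ble (nat_lit 336) i))

def rowBlk_n0_11 (i : ℕ) : ℕ := (@Bool.rec (fun _ => ℕ) (@Bool.rec (fun _ => ℕ) (@Bool.rec (fun _ => ℕ) (@Bool.rec (fun _ => ℕ) (@Bool.rec (fun _ => ℕ) rb352 rb353 (Nat.ble (nat_lit 353) i)) (@Bool.rec (fun _ => ℕ) rb354 rb355 (Nat.ble (nat_lit 355) i)) (Nat.ble (nat_lit 354) i)) (@Bool.rec (fun _ => ℕ) (@Bool.rec (fun _ => ℕ) rb356 rb357 (Nat.ble (nat_lit 357) i)) (@Bool.rec (fun _ => ℕ) rb358 rb359 (Nat.ble (nat_lit 359)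 i)) (Nat.ble (nat_lit 358) i)) (Nat.ble (nat_lit 356) i)) (@Bool.rec (fun _ => ℕ) (@Bool.rec (fun _ => ℕ) (@Bool.rec (fun _ => ℕ) rb360 rb361 (Nat.ble (nat_lit 361) i)) (@Bool.rec (fun _ => ℕ) rb362 rb363 (Nat.ble (nat_lit 363) i)) (Nat.ble (nat_lit 362) i)) (@Bool.rec (fun _ => ℕ) (@Bool.rec (fun _ => ℕ) rb364 rb365 (Nat.ble (nat_lit 365) i)) (@Bool.rec (fun _ => ℕ) rb366 rb367 (Nat.ble (nat_lit 367) i)) (Nat.ble (nat_lit 366) i)) (Nat.ble (nat_lit 364) i)) (Nat.ble (nat_lit 360) i)) (@Bool.rec (fun _ => ℕ) (@Bool.rec (fun _ => ℕ) (@Bool.rec (fun _ => ℕ) (@Bool.rec (fun _ => ℕ) rb368 rb369 (Nat.ble (nat_lit 369) i)) (@Bool.rec (fun _ => ℕ) rb370 rb371 (Nat.ble (nat_lit 371) i)) (Nat.ble (nat_lit 370) i)) (@Bool.rec (fun _ => ℕ) (@Bool.rec (fun _ => ℕ) rb372 rb373 (Nat.ble (nat_lit 373) i)) (@Bool.rec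 (fun _ => ℕ) rb374 rb375 (Nat.ble (nat_lit 375) i)) (Nat.ble (nat_lit 374) i)) (Nat.ble (nat_lit 372) i)) (@Bool.rec (fun _ => ℕ) (@Bool.rec (fun _ => ℕ) (@Bool.rec (fun _ => ℕ) rb376 rb377 (Nat.ble (nat_lit 377) i)) (@Bool.rec (fun _ => ℕ) rb378 rb379 (Nat.ble (nat_lit 379) i)) (Nat.ble (nat_lit 378) i)) (@Bool.rec (fun _ => ℕ) (@Bool.rec (fun _ => ℕ) rb380 rb381 (Nat.ble (nat_lit 381) i)) (@Bool.rec (fun _ => ℕ) rb382 rb383 (Nat.ble (nat_lit 383) i)) (Nat.ble (nat_lit 382) i)) (Nat.ble (nat_lit 380) i)) (Nat.ble (nat_lit 376) i)) (Nat.ble (nat_lit 368) i))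

def rowBlk_n0_12 (i : ℕ) : ℕ := (@Bool.rec (fun _ => ℕ) (@Bool.rec (fun _ => ℕ) (@Bool.rec (fun _ => ℕ) (@Bool.rec (fun _ => ℕ) (@Bool.rec (fun _ => ℕ) rb384 rb385 (Nat.ble (nat_lit 385) i)) (@Bool.rec (fun _ => ℕ) rb386 rb387 (Nat.ble (nat_lit 387) i)) (Nat.ble (nat_lit 386) i)) (@Bool.rec (fun _ => ℕ) (@Bool.rec (fun _ => ℕ) rb388 rb389 (Nat.ble (nat_lit 389) i)) (@Bool.rec (fun _ => ℕ) rb390 rb391 (Nat.ble (nat_lit 391) i)) (Nat.ble (nat_lit 390) i)) (Nat.ble (nat_lit 388) i)) (@Bool.rec (fun _ => ℕ) (@Bool.rec (fun _ => ℕ) (@Bool.rec (fun _ => ℕ) rb392 rb393 (Nat.ble (nat_lit 393) i)) (@Bool.rec (fun _ => ℕ) rb394 rb395 (Nat.ble (nat_lit 395) i)) (Nat.ble (nat_lit 394) i)) (@Bool.rec (fun _ => ℕ) (@Bool.rec (fun _ => ℕ) rb396 rb397 (Nat.ble (nat_lit 397) i)) (@Bool.rec (fun _ => ℕ) rb398 rb399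 (Nat.ble (nat_lit 399) i)) (Nat.ble (nat_lit 398) i)) (Nat.ble (nat_lit 396) i)) (Nat.ble (nat_lit 392) i)) (@Bool.rec (fun _ => ℕ) (@Bool.rec (fun _ => ℕ) (@Bool.rec (fun _ => ℕ) (@Bool.rec (fun _ => ℕ) rb400 rb401 (Nat.ble (nat_lit 401) i)) (@Bool.rec (fun _ => ℕ) rb402 rb403 (Nat.ble (nat_lit 403) i)) (Nat.ble (nat_lit 402) i)) (@Bool.rec (fun _ => ℕ) (@Bool.rec (fun _ => ℕ) rb404 rb405 (Nat.ble (nat_lit 405) i)) (@Bool.rec (fun _ => ℕ) rb406 rb407 (Nat.ble (nat_lit 407) i)) (Nat.ble (nat_lit 406) i)) (Nat.ble (nat_lit 404) i)) (@Bool.rec (fun _ => ℕ) (@Bool.rec (fun _ => ℕ) (@Bool.rec (fun _ => ℕ) rb408 rb409 (Nat.ble (nat_lit 409) i)) (@Bool.rec (fun _ => ℕ) rb410 rb411 (Nat.ble (nat_lit 411) i)) (Nat.ble (nat_lit 410) i)) (@Bool.rec (fun _ => ℕ) (@Bool.rec (fun _ => ℕ) rb412 rb413 (Nat.ble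 (nat_lit 413) i)) (@Bool.rec (fun _ => ℕ) rb414 rb415 (Nat.ble (nat_lit 415) i)) (Nat.ble (nat_lit 414) i)) (Nat.ble (nat_lit 412) i)) (Nat.ble (nat_lit 408) i)) (Nat.ble (nat_lit 400) i))

def rowBlk_n0_13 (i : ℕ) : ℕ := (@Bool.rec (fun _ => ℕ) (@Bool.rec (fun _ => ℕ) (@Bool.rec (fun _ => ℕ) (@Bool.rec (fun _ => ℕ) (@Bool.rec (fun _ => ℕ) rb416 rb417 (Nat.ble (nat_lit 417) i)) (@Bool.rec (fun _ => ℕ) rb418 rb419 (Nat.ble (nat_lit 419) i)) (Nat.ble (nat_lit 418) i)) (@Bool.rec (fun _ => ℕ) (@Bool.rec (fun _ => ℕ) rb420 rb421 (Nat.ble (nat_lit 421) i)) (@Bool.rec (fun _ => ℕ) rb422 rb423 (Nat.ble (nat_lit 423) i)) (Nat.ble (nat_lit 422) i)) (Nat.ble (nat_lit 420) i)) (@Bool.rec (fun _ => ℕ) (@Bool.rec (fun _ => ℕ) (@Bool.rec (fun _ => ℕ) rb424 rb425 (Nat.ble (nat_lit 425) i)) (@Bool.rec (fun _ =>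 ℕ) rb426 rb427 (Nat.ble (nat_lit 427) i)) (Nat.ble (nat_lit 426) i)) (@Bool.rec (fun _ => ℕ) (@Bool.rec (fun _ => ℕ) rb428 rb429 (Nat.ble (nat_lit 429) i)) (@Bool.rec (fun _ => ℕ) rb430 rb431 (Nat.ble (nat_lit 431) i)) (Nat.ble (nat_lit 430) i)) (Nat.ble (nat_lit 428) i)) (Nat.ble (nat_lit 424) i)) (@Bool.rec (fun _ => ℕ) (@Bool.rec (fun _ => ℕ) (@Bool.rec (fun _ => ℕ) (@Bool.rec (fun _ => ℕ) rb432 rb433 (Nat.ble (nat_lit 433) i)) (@Bool.rec (fun _ => ℕ) rb434 rb435 (Nat.ble (nat_lit 435) i)) (Nat.ble (nat_lit 434) i)) (@Bool.rec (fun _ => ℕ) (@Bool.rec (fun _ => ℕ) rb436 rb437 (Nat.ble (nat_lit 437) i)) (@Bool.rec (fun _ => ℕ) rb438 rb439 (Nat.ble (nat_lit 439) i)) (Nat.ble (nat_lit 438) i)) (Nat.ble (nat_lit 436) i)) (@Bool.rec (fun _ => ℕ) (@Bool.rec (fun _ => ℕ) (@Bool.rec (fun _ => ℕ) rb440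 rb441 (Nat.ble (nat_lit 441) i)) (@Bool.rec (fun _ => ℕ) rb442 rb443 (Nat.ble (nat_lit 443) i)) (Nat.ble (nat_lit 442) i)) (@Bool.rec (fun _ => ℕ) (@Bool.rec (fun _ => ℕ) rb444 rb445 (Nat.ble (nat_lit 445) i)) (@Bool.rec (fun _ => ℕ) rb446 rb447 (Nat.ble (nat_lit 447) i)) (Nat.ble (nat_lit 446) i)) (Nat.ble (nat_lit 444) i)) (Nat.ble (nat_lit 440) i)) (Nat.ble (nat_lit 432) i))

def rowBlk_n0_14 (i : ℕ) : ℕ := (@Bool.rec (fun _ => ℕ) (@Bool.rec (fun _ => ℕ) (@Bool.rec (fun _ => ℕ) (@Bool.rec (fun _ => ℕ) (@Bool.rec (fun _ => ℕ) rb448 rb449 (Nat.ble (nat_lit 449) i)) (@Bool.rec (fun _ => ℕ) rb450 rb451 (Nat.ble (nat_lit 451) i)) (Nat.ble (nat_lit 450) i)) (@Bool.rec (fun _ => ℕ) (@Bool.rec (fun _ => ℕ) rb452 rb453 (Nat.ble (nat_lit 453) i)) (@Bool.rec (fun _ => ℕ) rb454 rb455 (Nat.ble (nat_lit 455)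 i)) (Nat.ble (nat_lit 454) i)) (Nat.ble (nat_lit 452) i)) (@Bool.rec (fun _ => ℕ) (@Bool.rec (fun _ => ℕ) (@Bool.rec (fun _ => ℕ) rb456 rb457 (Nat.ble (nat_lit 457) i)) (@Bool.rec (fun _ => ℕ) rb458 rb459 (Nat.ble (nat_lit 459) i)) (Nat.ble (nat_lit 458) i)) (@Bool.rec (fun _ => ℕ) (@Bool.rec (fun _ => ℕ) rb460 rb461 (Nat.ble (nat_lit 461) i)) (@Bool.rec (fun _ => ℕ) rb462 rb463 (Nat.ble (nat_lit 463) i)) (Nat.ble (nat_lit 462) i)) (Nat.ble (nat_lit 460) i)) (Nat.ble (nat_lit 456) i)) (@Bool.rec (fun _ => ℕ) (@Bool.rec (fun _ => ℕ) (@Bool.rec (fun _ => ℕ) (@Bool.rec (fun _ => ℕ) rb464 rb465 (Nat.ble (nat_lit 465) i)) (@Bool.rec (fun _ => ℕ) rb466 rb467 (Nat.ble (nat_lit 467) i)) (Nat.ble (nat_lit 466) i)) (@Bool.rec (fun _ => ℕ) (@Bool.rec (fun _ => ℕ) rb468 rb469 (Nat.ble (nat_lit 469) i)) (@Bool.rec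 (fun _ => ℕ) rb470 rb471 (Nat.ble (nat_lit 471) i)) (Nat.ble (nat_lit 470) i)) (Nat.ble (nat_lit 468) i)) (@Bool.rec (fun _ => ℕ) (@Bool.rec (fun _ => ℕ) (@Bool.rec (fun _ => ℕ) rb472 rb473 (Nat.ble (nat_lit 473) i)) (@Bool.rec (fun _ => ℕ) rb474 rb475 (Nat.ble (nat_lit 475) i)) (Nat.ble (nat_lit 474) i)) (@Bool.rec (fun _ => ℕ) (@Bool.rec (fun _ => ℕ) rb476 rb477 (Nat.ble (nat_lit 477) i)) (@Bool.rec (fun _ => ℕ) rb478 rb479 (Nat.ble (nat_lit 479) i)) (Nat.ble (nat_lit 478) i)) (Nat.ble (nat_lit 476) i)) (Nat.ble (nat_lit 472) i)) (Nat.ble (nat_lit 464) i))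

def rowBlk_n0_15 (i : ℕ) : ℕ := (@Bool.rec (fun _ => ℕ) (@Bool.rec (fun _ => ℕ) (@Bool.rec (fun _ => ℕ) (@Bool.rec (fun _ => ℕ) (@Bool.rec (fun _ => ℕ) rb480 rb481 (Nat.ble (nat_lit 481) i)) (@Bool.rec (fun _ => ℕ) rb482 rb483 (Nat.ble (nat_lit 483) i)) (Nat.ble (nat_lit 482) i)) (@Bool.rec (fun _ => ℕ) (@Bool.rec (fun _ => ℕ) rb484 rb485 (Nat.ble (nat_lit 485) i)) (@Bool.rec (fun _ => ℕ) rb486 rb487 (Nat.ble (nat_lit 487) i)) (Nat.ble (nat_lit 486) i)) (Nat.ble (nat_lit 484) i)) (@Bool.rec (fun _ => ℕ) (@Bool.rec (fun _ => ℕ) (@Bool.rec (fun _ => ℕ) rb488 rb489 (Nat.ble (nat_lit 489) i)) (@Bool.rec (fun _ => ℕ) rb490 rb491 (Nat.ble (nat_lit 491) i)) (Nat.ble (nat_lit 490) i)) (@Bool.rec (fun _ => ℕ) (@Bool.rec (fun _ => ℕ) rb492 rb493 (Nat.ble (nat_lit 493) i)) (@Bool.rec (fun _ => ℕ) rb494 rb495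 (Nat.ble (nat_lit 495) i)) (Nat.ble (nat_lit 494) i)) (Nat.ble (nat_lit 492) i)) (Nat.ble (nat_lit 488) i)) (@Bool.rec (fun _ => ℕ) (@Bool.rec (fun _ => ℕ) (@Bool.rec (fun _ => ℕ) (@Bool.rec (fun _ => ℕ) rb496 rb497 (Nat.ble (nat_lit 497) i)) (@Bool.rec (fun _ => ℕ) rb498 rb499 (Nat.ble (nat_lit 499) i)) (Nat.ble (nat_lit 498) i)) (@Bool.rec (fun _ => ℕ) (@Bool.rec (fun _ => ℕ) rb500 rb501 (Nat.ble (nat_lit 501) i)) (@Bool.rec (fun _ => ℕ) rb502 rb503 (Nat.ble (nat_lit 503) i)) (Nat.ble (nat_lit 502) i)) (Nat.ble (nat_lit 500) i)) (@Bool.rec (fun _ => ℕ) (@Bool.rec (fun _ => ℕ) (@Bool.rec (fun _ => ℕ) rb504 rb505 (Nat.ble (nat_lit 505) i)) (@Bool.rec (fun _ => ℕ) rb506 rb507 (Nat.ble (nat_lit 507) i)) (Nat.ble (nat_lit 506) i)) (@Bool.rec (fun _ => ℕ) (@Bool.rec (fun _ => ℕ) rb508 rb509 (Nat.ble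 (nat_lit 509) i)) (@Bool.rec (fun _ => ℕ) rb510 rb511 (Nat.ble (nat_lit 511) i)) (Nat.ble (nat_lit 510) i)) (Nat.ble (nat_lit 508) i)) (Nat.ble (nat_lit 504) i)) (Nat.ble (nat_lit 496) i))

def rowBlk_n0_16 (i : ℕ) : ℕ := (@Bool.rec (fun _ => ℕ) (@Bool.rec (fun _ => ℕ) (@Bool.rec (fun _ => ℕ) (@Bool.rec (fun _ => ℕ) (@Bool.rec (fun _ => ℕ) rb512 rb513 (Nat.ble (nat_lit 513) i)) (@Bool.rec (fun _ => ℕ) rb514 rb515 (Nat.ble (nat_lit 515) i)) (Nat.ble (nat_lit 514) i)) (@Bool.rec (fun _ => ℕ) (@Bool.rec (fun _ => ℕ) rb516 rb517 (Nat.ble (nat_lit 517) i)) (@Bool.rec (fun _ => ℕ) rb518 rb519 (Nat.ble (nat_lit 519) i)) (Nat.ble (nat_lit 518) i)) (Nat.ble (nat_lit 516) i)) (@Bool.rec (fun _ => ℕ) (@Bool.rec (fun _ => ℕ) (@Bool.rec (fun _ => ℕ) rb520 rb521 (Nat.ble (nat_lit 521) i)) (@Bool.rec (fun _ =>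 ℕ) rb522 rb523 (Nat.ble (nat_lit 523) i)) (Nat.ble (nat_lit 522) i)) (@Bool.rec (fun _ => ℕ) (@Bool.rec (fun _ => ℕ) rb524 rb525 (Nat.ble (nat_lit 525) i)) (@Bool.rec (fun _ => ℕ) rb526 rb527 (Nat.ble (nat_lit 527) i)) (Nat.ble (nat_lit 526) i)) (Nat.ble (nat_lit 524) i)) (Nat.ble (nat_lit 520) i)) (@Bool.rec (fun _ => ℕ) (@Bool.rec (fun _ => ℕ) (@Bool.rec (fun _ => ℕ) (@Bool.rec (fun _ => ℕ) rb528 rb529 (Nat.ble (nat_lit 529) i)) (@Bool.rec (fun _ => ℕ) rb530 rb531 (Nat.ble (nat_lit 531) i)) (Nat.ble (nat_lit 530) i)) (@Bool.rec (fun _ => ℕ) (@Bool.rec (fun _ => ℕ) rb532 rb533 (Nat.ble (nat_lit 533) i)) (@Bool.rec (fun _ => ℕ) rb534 rb535 (Nat.ble (nat_lit 535) i)) (Nat.ble (nat_lit 534) i)) (Nat.ble (nat_lit 532) i)) (@Bool.rec (fun _ => ℕ) (@Bool.rec (fun _ => ℕ) (@Bool.rec (fun _ => ℕ) rb536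 rb537 (Nat.ble (nat_lit 537) i)) (@Bool.rec (fun _ => ℕ) rb538 rb539 (Nat.ble (nat_lit 539) i)) (Nat.ble (nat_lit 538) i)) (@Bool.rec (fun _ => ℕ) (@Bool.rec (fun _ => ℕ) rb540 rb541 (Nat.ble (nat_lit 541) i)) (@Bool.rec (fun _ => ℕ) rb542 rb543 (Nat.ble (nat_lit 543) i)) (Nat.ble (nat_lit 542) i)) (Nat.ble (nat_lit 540) i)) (Nat.ble (nat_lit 536) i)) (Nat.ble (nat_lit 528) i))

def rowBlk_n0_17 (i : ℕ) : ℕ := (@Bool.rec (fun _ => ℕ) (@Bool.rec (fun _ => ℕ) (@Bool.rec (fun _ => ℕ) (@Bool.rec (fun _ => ℕ) (@Bool.rec (fun _ => ℕ) rb544 rb545 (Nat.ble (nat_lit 545) i)) (@Bool.rec (fun _ => ℕ) rb546 rb547 (Nat.ble (nat_lit 547) i)) (Nat.ble (nat_lit 546) i)) (@Bool.rec (fun _ => ℕ) (@Bool.rec (fun _ => ℕ) rb548 rb549 (Nat.ble (nat_lit 549) i)) (@Bool.rec (fun _ => ℕ) rb550 rb551 (Nat.ble (nat_lit 551)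 i)) (Nat.ble (nat_lit 550) i)) (Nat.ble (nat_lit 548) i)) (@Bool.rec (fun _ => ℕ) (@Bool.rec (fun _ => ℕ) (@Bool.rec (fun _ => ℕ) rb552 rb553 (Nat.ble (nat_lit 553) i)) (@Bool.rec (fun _ => ℕ) rb554 rb555 (Nat.ble (nat_lit 555) i)) (Nat.ble (nat_lit 554) i)) (@Bool.rec (fun _ => ℕ) (@Bool.rec (fun _ => ℕ) rb556 rb557 (Nat.ble (nat_lit 557) i)) (@Bool.rec (fun _ => ℕ) rb558 rb559 (Nat.ble (nat_lit 559) i)) (Nat.ble (nat_lit 558) i)) (Nat.ble (nat_lit 556) i)) (Nat.ble (nat_lit 552) i)) (@Bool.rec (fun _ => ℕ) (@Bool.rec (fun _ => ℕ) (@Bool.rec (fun _ => ℕ) (@Bool.rec (fun _ => ℕ) rb560 rb561 (Nat.ble (nat_lit 561) i)) (@Bool.rec (fun _ => ℕ) rb562 rb563 (Nat.ble (nat_lit 563) i)) (Nat.ble (nat_lit 562) i)) (@Bool.rec (fun _ => ℕ) (@Bool.rec (fun _ => ℕ) rb564 rb565 (Nat.ble (nat_lit 565) i)) (@Bool.rec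 (fun _ => ℕ) rb566 rb567 (Nat.ble (nat_lit 567) i)) (Nat.ble (nat_lit 566) i)) (Nat.ble (nat_lit 564) i)) (@Bool.rec (fun _ => ℕ) (@Bool.rec (fun _ => ℕ) (@Bool.rec (fun _ => ℕ) rb568 rb569 (Nat.ble (nat_lit 569) i)) (@Bool.rec (fun _ => ℕ) rb570 rb571 (Nat.ble (nat_lit 571) i)) (Nat.ble (nat_lit 570) i)) (@Bool.rec (fun _ => ℕ) (@Bool.rec (fun _ => ℕ) rb572 rb573 (Nat.ble (nat_lit 573) i)) (@Bool.rec (fun _ => ℕ) rb574 rb575 (Nat.ble (nat_lit 575) i)) (Nat.ble (nat_lit 574) i)) (Nat.ble (nat_lit 572) i)) (Nat.ble (nat_lit 568) i)) (Nat.ble (nat_lit 560) i))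

def rowBlk_n0_18 (i : ℕ) : ℕ := (@Bool.rec (fun _ => ℕ) (@Bool.rec (fun _ => ℕ) (@Bool.rec (fun _ => ℕ) (@Bool.rec (fun _ => ℕ) (@Bool.rec (fun _ => ℕ) rb576 rb577 (Nat.ble (nat_lit 577) i)) (@Bool.rec (fun _ => ℕ) rb578 rb579 (Nat.ble (nat_lit 579) i)) (Nat.ble (nat_lit 578) i)) (@Bool.rec (fun _ => ℕ) (@Bool.rec (fun _ => ℕ) rb580 rb581 (Nat.ble (nat_lit 581) i)) (@Bool.rec (fun _ => ℕ) rb582 rb583 (Nat.ble (nat_lit 583) i)) (Nat.ble (nat_lit 582) i)) (Nat.ble (nat_lit 580) i)) (@Bool.rec (fun _ => ℕ) (@Bool.rec (fun _ => ℕ) (@Bool.rec (fun _ => ℕ) rb584 rb585 (Nat.ble (nat_lit 585) i)) (@Bool.rec (fun _ => ℕ) rb586 rb587 (Nat.ble (nat_lit 587) i)) (Nat.ble (nat_lit 586) i)) (@Bool.rec (fun _ => ℕ) (@Bool.rec (fun _ => ℕ) rb588 rb589 (Nat.ble (nat_lit 589) i)) (@Bool.rec (fun _ => ℕ) rb590 rb591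 (Nat.ble (nat_lit 591) i)) (Nat.ble (nat_lit 590) i)) (Nat.ble (nat_lit 588) i)) (Nat.ble (nat_lit 584) i)) (@Bool.rec (fun _ => ℕ) (@Bool.rec (fun _ => ℕ) (@Bool.rec (fun _ => ℕ) (@Bool.rec (fun _ => ℕ) rb592 rb593 (Nat.ble (nat_lit 593) i)) (@Bool.rec (fun _ => ℕ) rb594 rb595 (Nat.ble (nat_lit 595) i)) (Nat.ble (nat_lit 594) i)) (@Bool.rec (fun _ => ℕ) (@Bool.rec (fun _ => ℕ) rb596 rb597 (Nat.ble (nat_lit 597) i)) (@Bool.rec (fun _ => ℕ) rb598 rb599 (Nat.ble (nat_lit 599) i)) (Nat.ble (nat_lit 598) i)) (Nat.ble (nat_lit 596) i)) (@Bool.rec (fun _ => ℕ) (@Bool.rec (fun _ => ℕ) (@Bool.rec (fun _ => ℕ) rb600 rb601 (Nat.ble (nat_lit 601) i)) (@Bool.rec (fun _ => ℕ) rb602 rb603 (Nat.ble (nat_lit 603) i)) (Nat.ble (nat_lit 602) i)) (@Bool.rec (fun _ => ℕ) (@Bool.rec (fun _ => ℕ) rb604 rb605 (Nat.ble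 (nat_lit 605) i)) (@Bool.rec (fun _ => ℕ) rb606 rb607 (Nat.ble (nat_lit 607) i)) (Nat.ble (nat_lit 606) i)) (Nat.ble (nat_lit 604) i)) (Nat.ble (nat_lit 600) i)) (Nat.ble (nat_lit 592) i))

def rowBlk_n0_19 (i : ℕ) : ℕ := (@Bool.rec (fun _ => ℕ) (@Bool.rec (fun _ => ℕ) (@Bool.rec (fun _ => ℕ) rb608 rb609 (Nat.ble (nat_lit 609) i)) (@Bool.rec (fun _ => ℕ) rb610 (@Bool.rec (fun _ => ℕ) rb611 rb612 (Nat.ble (nat_lit 612) i)) (Nat.ble (nat_lit 611) i)) (Nat.ble (nat_lit 610) i)) (@Bool.rec (fun _ => ℕ) (@Bool.rec (fun _ => ℕ) rb613 rb614 (Nat.ble (nat_lit 614) i)) (@Bool.rec (fun _ => ℕ) rb615 (@Bool.rec (fun _ => ℕ) rb616 rb617 (Nat.ble (nat_lit 617) i)) (Nat.ble (nat_lit 616) i)) (Nat.ble (nat_lit 615) i)) (Nat.ble (nat_lit 613) i))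

def rowBlk (i : ℕ) : ℕ := (@Bool.rec (fun _ => ℕ) (@Bool.rec (fun _ => ℕ) (@Bool.rec (fun _ => ℕ) (@Bool.rec (fun _ => ℕ) (rowBlk_n0_0 i) (rowBlk_n0_1 i) (Nat.ble (nat_lit 32) i)) (@Bool.rec (fun _ => ℕ) (rowBlk_n0_2 i) (@Bool.rec (fun _ => ℕ) (rowBlk_n0_3 i) (rowBlk_n0_4 i) (Nat.ble (nat_lit 128) i)) (Nat.ble (nat_lit 96) i)) (Nat.ble (nat_lit 64) i)) (@Bool.rec (fun _ => ℕ) (@Bool.rec (fun _ => ℕ) (rowBlk_n0_5 i) (rowBlk_n0_6 i) (Nat.ble (nat_lit 192) i)) (@Bool.rec (fun _ => ℕ) (rowBlk_n0_7 i) (@Bool.rec (fun _ => ℕ) (rowBlk_n0_8 i) (rowBlk_n0_9 i) (Nat.ble (nat_lit 288) i)) (Nat.ble (nat_lit 256) i)) (Nat.ble (nat_lit 224) i)) (Nat.ble (nat_lit 160) i)) (@Bool.rec (fun _ => ℕ) (@Bool.rec (fun _ => ℕ) (@Bool.rec (fun _ => ℕ) (rowBlk_n0_10 i) (rowBlk_n0_11 i) (Nat.ble (nat_lit 352) i)) (@Bool.rec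 (fun _ => ℕ) (rowBlk_n0_12 i) (@Bool.rec (fun _ => ℕ) (rowBlk_n0_13 i) (rowBlk_n0_14 i) (Nat.ble (nat_lit 448) i)) (Nat.ble (nat_lit 416) i)) (Nat.ble (nat_lit 384) i)) (@Bool.rec (fun _ => ℕ) (@Bool.rec (fun _ => ℕ) (rowBlk_n0_15 i) (rowBlk_n0_16 i) (Nat.ble (nat_lit 512) i)) (@Bool.rec (fun _ => ℕ) (rowBlk_n0_17 i) (@Bool.rec (fun _ => ℕ) (rowBlk_n0_18 i) (rowBlk_n0_19 i) (Nat.ble (nat_lit 608) i)) (Nat.ble (nat_lit 576) i)) (Nat.ble (nat_lit 544) i)) (Nat.ble (nat_lit 480) i)) (Nat.ble (nat_lit 320) i))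

def word_n0_0 (i : ℕ) : List ℕ := (@Bool.rec (fun _ => List ℕ) (@Bool.rec (fun _ => List ℕ) (@Bool.rec (fun _ => List ℕ) (@Bool.rec (fun _ => List ℕ) (@Bool.rec (fun _ => List ℕ) [2, 2] [2, 4, 2, 4, 2, 4] (Nat.ble (nat_lit 1) i)) (@Bool.rec (fun _ => List ℕ) [2, 6, 2, 6] [2, 8, 2, 8] (Nat.ble (nat_lit 3) i)) (Nat.ble (nat_lit 2) i)) (@Bool.rec (fun _ => List ℕ) (@Bool.rec (fun _ => List ℕ) [2, 10, 2, 10] [2, 14, 2, 14] (Nat.ble (nat_lit 5) i)) (@Bool.rec (fun _ => List ℕ) [2, 12, 2, 12] [2, 16, 2, 16] (Nat.ble (nat_lit 7) i)) (Nat.ble (nat_lit 6) i)) (Nat.ble (nat_lit 4) i)) (@Bool.rec (fun _ => List ℕ) (@Bool.rec (fun _ => List ℕ) (@Bool.rec (fun _ => List ℕ) [4, 4] [4, 6, 4, 6, 4, 6] (Nat.ble (nat_lit 9) i)) (@Bool.rec (fun _ => List ℕ) [4, 8, 4, 8] [4, 10, 4, 10] (Nat.ble (nat_lit 11) i)) (Nat.ble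 (nat_lit 10) i)) (@Bool.rec (fun _ => List ℕ) (@Bool.rec (fun _ => List ℕ) [4, 14, 4, 14] [4, 12, 4, 12] (Nat.ble (nat_lit 13) i)) (@Bool.rec (fun _ => List ℕ) [4, 16, 4, 16] [6, 6] (Nat.ble (nat_lit 15) i)) (Nat.ble (nat_lit 14) i)) (Nat.ble (nat_lit 12) i)) (Nat.ble (nat_lit 8) i)) (@Bool.rec (fun _ => List ℕ) (@Bool.rec (fun _ => List ℕ) (@Bool.rec (fun _ => List ℕ) (@Bool.rec (fun _ => List ℕ) [6, 8, 6, 8, 6, 8] [6, 10, 6, 10] (Nat.ble (nat_lit 17) i)) (@Bool.rec (fun _ => List ℕ) [6, 14, 6, 14, 6, 14] [6, 12, 6, 12] (Nat.ble (nat_lit 19) i)) (Nat.ble (nat_lit 18) i)) (@Bool.rec (fun _ => List ℕ) (@Bool.rec (fun _ => List ℕ) [6, 16, 6, 16] [8, 8] (Nat.ble (nat_lit 21) i)) (@Bool.rec (fun _ => List ℕ) [8, 10, 8, 10, 8, 10] [8, 14, 8, 14] (Nat.ble (nat_lit 23) i)) (Nat.ble (nat_lit 22) i)) (Nat.ble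 (nat_lit 20) i)) (@Bool.rec (fun _ => List ℕ) (@Bool.rec (fun _ => List ℕ) (@Bool.rec (fun _ => List ℕ) [8, 12, 8, 12] [8, 16, 8, 16] (Nat.ble (nat_lit 25) i)) (@Bool.rec (fun _ => List ℕ) [10, 10] [10, 14, 10, 14] (Nat.ble (nat_lit 27) i)) (Nat.ble (nat_lit 26) i)) (@Bool.rec (fun _ => List ℕ) (@Bool.rec (fun _ => List ℕ) [10, 12, 10, 12, 10, 12] [10, 16, 10, 16] (Nat.ble (nat_lit 29) i)) (@Bool.rec (fun _ => List ℕ) [14, 14] [14, 16, 14, 16, 14, 16] (Nat.ble (nat_lit 31) i)) (Nat.ble (nat_lit 30) i)) (Nat.ble (nat_lit 28) i)) (Nat.ble (nat_lit 24) i)) (Nat.ble (nat_lit 16) i))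

def word_n0_1 (i : ℕ) : List ℕ := (@Bool.rec (fun _ => List ℕ) (@Bool.rec (fun _ => List ℕ) (@Bool.rec (fun _ => List ℕ) (@Bool.rec (fun _ => List ℕ) (@Bool.rec (fun _ => List ℕ) [12, 14, 12, 14] [12, 12] (Nat.ble (nat_lit 33) i)) (@Bool.rec (fun _ => List ℕ) [12, 16, 12, 16] [16, 16] (Nat.ble (nat_lit 35) i)) (Nat.ble (nat_lit 34) i)) (@Bool.rec (fun _ => List ℕ) (@Bool.rec (fun _ => List ℕ) [6, 4, 2, 6, 8, 10, 6, 14, 16, 6, 4, 2, 6, 8, 10, 6, 14, 16, 6, 4, 2, 6, 8, 10, 6, 14, 16, 6, 4, 2, 6, 8, 10, 6, 14, 16, 6, 4, 2, 6, 8, 10, 6, 14, 16, 6, 4, 2, 6, 8, 10, 6, 14, 16, 6, 4, 2, 6, 8, 10, 6, 14, 16, 6, 4, 2, 6, 8, 10, 6, 14, 16, 6, 4, 2, 6, 8, 10, 6, 14, 16, 6, 4, 2, 6, 8, 10, 6, 14, 16] [2, 4, 6, 8, 10, 12, 14, 2, 4, 6, 8, 10, 12, 14, 2, 4, 6, 8, 10, 12, 14, 2, 4, 6, 8, 10, 12, 14, 2, 4, 6, 8,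 10, 12, 14, 2, 4, 6, 8, 10, 12, 14, 2, 4, 6, 8, 10, 12, 14, 2, 4, 6, 8, 10, 12, 14, 2, 4, 6, 8, 10, 12, 14] (Nat.ble (nat_lit 37) i)) (@Bool.rec (fun _ => List ℕ) [0] ([] : List ℕ) (Nat.ble (nat_lit 39) i)) (Nat.ble (nat_lit 38) i)) (Nat.ble (nat_lit 36) i)) (@Bool.rec (fun _ => List ℕ) (@Bool.rec (fun _ => List ℕ) (@Bool.rec (fun _ => List ℕ) [0, 1] [1, 0] (Nat.ble (nat_lit 41) i)) (@Bool.rec (fun _ => List ℕ) [2, 3] [3, 2] (Nat.ble (nat_lit 43) i)) (Nat.ble (nat_lit 42) i)) (@Bool.rec (fun _ => List ℕ) (@Bool.rec (fun _ => List ℕ) [4, 5] [5, 4] (Nat.ble (nat_lit 45) i)) (@Bool.rec (fun _ => List ℕ) [6, 7] [7, 6] (Nat.ble (nat_lit 47) i)) (Nat.ble (nat_lit 46) i)) (Nat.ble (nat_lit 44) i)) (Nat.ble (nat_lit 40) i)) (@Bool.rec (fun _ => List ℕ) (@Bool.rec (fun _ => List ℕ) (@Bool.rec (fun _ => List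 ℕ) (@Bool.rec (fun _ => List ℕ) [8, 9] [9, 8] (Nat.ble (nat_lit 49) i)) (@Bool.rec (fun _ => List ℕ) [10, 11] [11, 10] (Nat.ble (nat_lit 51) i)) (Nat.ble (nat_lit 50) i)) (@Bool.rec (fun _ => List ℕ) (@Bool.rec (fun _ => List ℕ) [12, 13] [13, 12] (Nat.ble (nat_lit 53) i)) (@Bool.rec (fun _ => List ℕ) [14, 15] [15, 14] (Nat.ble (nat_lit 55) i)) (Nat.ble (nat_lit 54) i)) (Nat.ble (nat_lit 52) i)) (@Bool.rec (fun _ => List ℕ) (@Bool.rec (fun _ => List ℕ) (@Bool.rec (fun _ => List ℕ) [16, 17] [17, 16] (Nat.ble (nat_lit 57) i)) (@Bool.rec (fun _ => List ℕ) [2] [4] (Nat.ble (nat_lit 59) i)) (Nat.ble (nat_lit 58) i)) (@Bool.rec (fun _ => List ℕ) (@Bool.rec (fun _ => List ℕ) [6] [8] (Nat.ble (nat_lit 61) i)) (@Bool.rec (fun _ => List ℕ) [10] [12] (Nat.ble (nat_lit 63) i)) (Nat.ble (nat_lit 62) i)) (Nat.ble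 (nat_lit 60) i)) (Nat.ble (nat_lit 56) i)) (Nat.ble (nat_lit 48) i))

def word_n0_2 (i : ℕ) : List ℕ := [14]

def word (i : ℕ) : List ℕ := (@Bool.rec (fun _ => List ℕ) (word_n0_0 i) (@Bool.rec (fun _ => List ℕ) (word_n0_1 i) (word_n0_2 i) (Nat.ble (nat_lit 64) i)) (Nat.ble (nat_lit 32) i))

def fact (k : ℕ) : ℕ := Nat.land (Nat.shiftRight (factBlk (Nat.shiftRight k (nat_lit 8))) (Nat.mul (Nat.land k (nat_lit 255)) (nat_lit 48))) (nat_lit 281474976710655)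

def slot (v : ℕ) : ℕ := Nat.land (Nat.shiftRight (parBlk (Nat.shiftRight v (nat_lit 8))) (Nat.mul (Nat.land v (nat_lit 255)) (nat_lit 32))) (nat_lit 4294967295)

def par (v : ℕ) : ℕ := Nat.land (slot v) (nat_lit 1048575)

def plet (v : ℕ) : ℕ := Nat.shiftRight (slot v) (nat_lit 20)

def isFin (v : ℕ) : Bool := Nat.beq (Nat.land (Nat.shiftRight (finBlk (Nat.shiftRight v (nat_lit 12))) (Nat.land v (nat_lit 4095))) (nat_lit 1)) (nat_lit 1)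

def row (v : ℕ) : ℕ := Nat.land (Nat.shiftRight (rowBlk (Nat.shiftRight v (nat_lit 4))) (Nat.mul (Nat.land v (nat_lit 15)) (nat_lit 432))) (nat_lit 11090678776483259438313656736572334813745748301503266300681918322458485231222502492159897624416558312389564843845614287315896631295)

def inv (g : ℕ) : Bool := and (Nat.blt g 9) (Nat.beq (Nat.land (Nat.shiftRight (nat_lit 510) g) (nat_lit 1)) (nat_lit 1))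

def blockOk (j : ℕ) : Bool := blockF par plet fact inv word (nat_lit 58) (nat_lit 65) (nat_lit 9879) (Nat.mul j (nat_lit 256)) (nat_lit 256) (nat_lit 0) (certBlk j)

def rowOk (v : ℕ) : Bool := rowF fact inv (nat_lit 9879) isFin row (nat_lit 35072) (nat_lit 18) v

def parOk (v : ℕ) : Bool := or (Nat.beq v 0) (Nat.blt (par v) v)

def gname : ℕ → Cfsg.Spor.Fi22.Gen
  | 0 => .a
  | 1 => .b
  | 2 => .c
  | 3 => .d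
  | 4 => .e
  | 5 => .f
  | 6 => .g
  | 7 => .h
  | 8 => .i
  | _ => .a

end Cfsg.Agent.Lib.Helper28_Fi22c1.U
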