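import Cfsg.Agent.Lib.Helper28_CosetUpCox
import Cfsg.Agent.Lib.Helper28_CosetPerm
import Cfsg.Agent.Lib.Helper28_Fi22c3UTab0
import Cfsg.Agent.Lib.Helper28_Fi22Chain

set_option autoImplicit false
set_option linter.constructorNameAsVariable false
set_option Elab.async false

namespace Cfsg.Agent.Lib.Helper28_Fi22c3.U

open Cfsg.Spor Cfsg.Agent.Lib.Helper28_CosetUp Cfsg.Agent.Lib.Helper28_CosetUpCox Cfsg.Agent.Lib.Helper28_Fi22c3UTab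

def factBlk (i : ℕ) : ℕ := (@Bool.rec (fun _ => ℕ) fb0 fb1 (Nat.ble (nat_lit 1) i))

def certBlk (i : ℕ) : ℕ := (@Bool.rec (fun _ => ℕ) cb0 cb1 (Nat.ble (nat_lit 1) i))

def parBlk (i : ℕ) : ℕ := pb0

def finBlk (i : ℕ) : ℕ := nb0

def rowBlk (i : ℕ) : ℕ := (@Bool.rec (fun _ => ℕ) (@Bool.rec (fun _ => ℕ) rb0 (@Bool.rec (fun _ => ℕ) rb1 rb2 (Nat.ble (nat_lit 2) i)) (Nat.ble (nat_lit 1) i)) (@Bool.rec (fun _ => ℕ) (@Bool.rec (fun _ => ℕ) rb3 rb4 (Nat.ble (nat_lit 4) i)) (@Bool.rec (fun _ => ℕ) rb5 rb6 (Nat.ble (nat_lit 6) i)) (Nat.ble (nat_lit 5) i)) (Nat.ble (nat_lit 3) i))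

def word_n0_0 (i : ℕ) : List ℕ := (@Bool.rec (fun _ => List ℕ) (@Bool.rec (fun _ => List ℕ) (@Bool.rec (fun _ => List ℕ) (@Bool.rec (fun _ => List ℕ) (@Bool.rec (fun _ => List ℕ) [2, 2] [2, 4, 2, 4, 2, 4] (Nat.ble (nat_lit 1) i)) (@Bool.rec (fun _ => List ℕ) [2, 6, 2, 6] [2, 8, 2, 8] (Nat.ble (nat_lit 3) i)) (Nat.ble (nat_lit 2) i)) (@Bool.rec (fun _ => List ℕ) (@Bool.rec (fun _ => List ℕ) [2, 14, 2, 14] [2, 10, 2, 10] (Nat.ble (nat_lit 5) i)) (@Bool.rec (fun _ => List ℕ) [4, 4] [4, 6, 4, 6, 4, 6] (Nat.ble (nat_lit 7) i)) (Nat.ble (nat_lit 6) i)) (Nat.ble (nat_lit 4) i)) (@Bool.rec (fun _ => List ℕ) (@Bool.rec (fun _ => List ℕ) (@Bool.rec (fun _ => List ℕ) [4, 8, 4, 8] [4, 14, 4, 14] (Nat.ble (nat_lit 9) i)) (@Bool.rec (fun _ => List ℕ) [4, 10, 4, 10] [6, 6] (Nat.ble (nat_lit 11) i)) (Nat.ble (nat_lit 10) i)) (@Bool.rec (fun _ => List ℕ) (@Bool.rec (fun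 _ => List ℕ) [6, 8, 6, 8, 6, 8] [6, 14, 6, 14, 6, 14] (Nat.ble (nat_lit 13) i)) (@Bool.rec (fun _ => List ℕ) [6, 10, 6, 10] [8, 8] (Nat.ble (nat_lit 15) i)) (Nat.ble (nat_lit 14) i)) (Nat.ble (nat_lit 12) i)) (Nat.ble (nat_lit 8) i)) (@Bool.rec (fun _ => List ℕ) (@Bool.rec (fun _ => List ℕ) (@Bool.rec (fun _ => List ℕ) (@Bool.rec (fun _ => List ℕ) [8, 14, 8, 14] [8, 10, 8, 10, 8, 10] (Nat.ble (nat_lit 17) i)) (@Bool.rec (fun _ => List ℕ) [14, 14] [10, 14, 10, 14] (Nat.ble (nat_lit 19) i)) (Nat.ble (nat_lit 18) i)) (@Bool.rec (fun _ => List ℕ) (@Bool.rec (fun _ => List ℕ) [10, 10] [0] (Nat.ble (nat_lit 21) i)) (@Bool.rec (fun _ => List ℕ) [12] [16] (Nat.ble (nat_lit 23) i)) (Nat.ble (nat_lit 22) i)) (Nat.ble (nat_lit 20) i)) (@Bool.rec (fun _ => List ℕ) (@Bool.rec (fun _ => List ℕ) (@Bool.rec (fun _ => List ℕ) ([] : List ℕ) [0, 1] (Nat.ble (nat_lit 25)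 i)) (@Bool.rec (fun _ => List ℕ) [1, 0] [2, 3] (Nat.ble (nat_lit 27) i)) (Nat.ble (nat_lit 26) i)) (@Bool.rec (fun _ => List ℕ) (@Bool.rec (fun _ => List ℕ) [3, 2] [4, 5] (Nat.ble (nat_lit 29) i)) (@Bool.rec (fun _ => List ℕ) [5, 4] [6, 7] (Nat.ble (nat_lit 31) i)) (Nat.ble (nat_lit 30) i)) (Nat.ble (nat_lit 28) i)) (Nat.ble (nat_lit 24) i)) (Nat.ble (nat_lit 16) i))

def word_n0_1 (i : ℕ) : List ℕ := (@Bool.rec (fun _ => List ℕ) (@Bool.rec (fun _ => List ℕ) (@Bool.rec (fun _ => List ℕ) (@Bool.rec (fun _ => List ℕ) [7, 6] [8, 9] (Nat.ble (nat_lit 33) i)) (@Bool.rec (fun _ => List ℕ) [9, 8] [10, 11] (Nat.ble (nat_lit 35) i)) (Nat.ble (nat_lit 34) i)) (@Bool.rec (fun _ => List ℕ) (@Bool.rec (fun _ => List ℕ) [11, 10] [12, 13] (Nat.ble (nat_lit 37) i)) (@Bool.rec (fun _ => List ℕ) [13, 12] [14, 15] (Nat.ble (nat_lit 39) i)) (Nat.ble (nat_lit 38) i)) (Nat.ble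 (nat_lit 36) i)) (@Bool.rec (fun _ => List ℕ) (@Bool.rec (fun _ => List ℕ) (@Bool.rec (fun _ => List ℕ) [15, 14] [16, 17] (Nat.ble (nat_lit 41) i)) (@Bool.rec (fun _ => List ℕ) [17, 16] [4] (Nat.ble (nat_lit 43) i)) (Nat.ble (nat_lit 42) i)) (@Bool.rec (fun _ => List ℕ) (@Bool.rec (fun _ => List ℕ) [6] [8] (Nat.ble (nat_lit 45) i)) (@Bool.rec (fun _ => List ℕ) [10] [14] (Nat.ble (nat_lit 47) i)) (Nat.ble (nat_lit 46) i)) (Nat.ble (nat_lit 44) i)) (Nat.ble (nat_lit 40) i))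

def word (i : ℕ) : List ℕ := (@Bool.rec (fun _ => List ℕ) (word_n0_0 i) (word_n0_1 i) (Nat.ble (nat_lit 32) i))

def fact (k : ℕ) : ℕ := Nat.land (Nat.shiftRight (factBlk (Nat.shiftRight k (nat_lit 8))) (Nat.mul (Nat.land k (nat_lit 255)) (nat_lit 48))) (nat_lit 281474976710655)

def slot (v : ℕ) : ℕ := Nat.land (Nat.shiftRight (parBlk (Nat.shiftRight v (nat_lit 8))) (Nat.mul (Nat.land v (nat_lit 255)) (nat_lit 32))) (nat_lit 4294967295)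

def par (v : ℕ) : ℕ := Nat.land (slot v) (nat_lit 1048575)

def plet (v : ℕ) : ℕ := Nat.shiftRight (slot v) (nat_lit 20)

def isFin (v : ℕ) : Bool := Nat.beq (Nat.land (Nat.shiftRight (finBlk (Nat.shiftRight v (nat_lit 12))) (Nat.land v (nat_lit 4095))) (nat_lit 1)) (nat_lit 1)

def row (v : ℕ) : ℕ := Nat.land (Nat.shiftRight (rowBlk (Nat.shiftRight v (nat_lit 4))) (Nat.mul (Nat.land v (nat_lit 15)) (nat_lit 432))) (nat_lit 11090678776483259438313656736572334813745748301503266300681918322458485231222502492159897624416558312389564843845614287315896631295)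

def inv (g : ℕ) : Bool := and (Nat.blt g 9) (Nat.beq (Nat.land (Nat.shiftRight (nat_lit 190) g) (nat_lit 1)) (nat_lit 1))

def blockOk (j : ℕ) : Bool := blockF par plet fact inv word (nat_lit 43) (nat_lit 48) (nat_lit 108) (Nat.mul j (nat_lit 256)) (nat_lit 256) (nat_lit 0) (certBlk j)

def rowOk (v : ℕ) : Bool := rowF fact inv (nat_lit 108) isFin row (nat_lit 512) (nat_lit 18) v

def parOk (v : ℕ) : Bool := or (Nat.beq v 0) (Nat.blt (par v) v)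

def gname : ℕ → Cfsg.Spor.Fi22.Gen
  | 0 => .a
  | 1 => .b
  | 2 => .c
  | 3 => .d
  | 4 => .e
  | 5 => .f
  | 6 => .g
  | 7 => .h
  | 8 => .i
  | _ => .a

end Cfsg.Agent.Lib.Helper28_Fi22c3.U
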