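import Cfsg.Agent.Lib.Helper28_Fi22c5UDef

set_option autoImplicit false
set_option linter.constructorNameAsVariable false
set_option Elab.async false

namespace Cfsg.Agent.Lib.Helper28_Fi22c5.U

open Cfsg.Agent.Lib.Helper28_CosetPerm

theorem f0r0 : allRange blockOk 1 0 1 = true := by decide +kernel
theorem f0u0 : ∀ k, 0 ≤ k → k < 1 → blockOk (k * 1) = true := between_extend blockOk 1 0 0 1 (between_start blockOk 1 0) f0r0

theorem f0 : ∀ k, 0 ≤ k → k < 1 → blockOk (k * 1) = true := f0u0

end Cfsg.Agent.Lib.Helper28_Fi22c5.U
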