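import Cfsg.Agent.Lib.Helper28_OrderChain
import Cfsg.Prelude.Def_Spor_Fi23

set_option autoImplicit false

namespace Cfsg.Agent.Lib.Helper28_Fi23Chain

open Cfsg.Spor Cfsg.Agent.Lib.Helper28_OrderChain

def edges1 : List (Cfsg.Spor.Fi23.Gen × ℕ × Cfsg.Spor.Fi23.Gen) := [(.a, 3, .b), (.b, 3, .c), (.c, 3, .d), (.d, 3, .e), (.d, 3, .h), (.e, 3, .f), (.f, 3, .g), (.h, 3, .i)]
def kept1 : List (List (Cfsg.Spor.Fi23.Gen × Bool)) := [[(.d, true), (.c, true), (.b, true), (.d, true), (.e, true), (.f, true), (.d, true), (.h, true), (.i, true), (.d, true), (.c, true), (.b, true), (.d, true), (.e, true), (.f, true), (.d, true), (.h, true), (.i, true), (.d, true), (.c, true), (.b, true), (.d, true), (.e, true), (.f, true), (.d, true), (.h, true), (.i, true), (.d, true), (.c, true), (.b, true), (.d, true), (.e, true), (.f, true), (.d, true), (.h, true), (.i, true), (.d, true), (.c, true), (.b, true), (.d, true), (.e, true), (.f, true), (.d, true), (.h, true), (.i,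 true), (.d, true), (.c, true), (.b, true), (.d, true), (.e, true), (.f, true), (.d, true), (.h, true), (.i, true), (.d, true), (.c, true), (.b, true), (.d, true), (.e, true), (.f, true), (.d, true), (.h, true), (.i, true), (.d, true), (.c, true), (.b, true), (.d, true), (.e, true), (.f, true), (.d, true), (.h, true), (.i, true), (.d, true), (.c, true), (.b, true), (.d, true), (.e, true), (.f, true), (.d, true), (.h, true), (.i, true), (.d, true), (.c, true), (.b, true), (.d, true), (.e, true), (.f, true), (.d, true), (.h, true), (.i, true)], [(.a, true), (.b, true), (.c, true), (.d, true), (.e, true), (.f, true), (.h, true), (.a, true), (.b, true), (.c, true), (.d, true), (.e, true), (.f, true), (.h, true), (.a, true), (.b, true), (.c, true), (.d, true), (.e, true), (.f, true), (.h, true), (.a, true), (.b, true), (.c, true), (.d, true), (.e, true), (.f, true), (.h, true), (.a, true), (.b, true), (.c, true), (.d, true), (.e, true), (.f, true), (.h, true),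 (.a, true), (.b, true), (.c, true), (.d, true), (.e, true), (.f, true), (.h, true), (.a, true), (.b, true), (.c, true), (.d, true), (.e, true), (.f, true), (.h, true), (.a, true), (.b, true), (.c, true), (.d, true), (.e, true), (.f, true), (.h, true), (.a, true), (.b, true), (.c, true), (.d, true), (.e, true), (.f, true), (.h, true)]]
def dropped1 : List Cfsg.Spor.Fi23.Gen := [.j]
def extra1 : List (FreeGroup Cfsg.Spor.Fi23.Gen) := subExtra kept1 dropped1
theorem h1_1 : ∀ x ∈ coxNodes edges1, x ∈ coxNodes Cfsg.Spor.Fi23.edges ∧ x ∉ dropped1 := by decide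
theorem h2_1 : ∀ x ∈ coxNodes edges1, ∀ y ∈ coxNodes edges1, coxLabel edges1 x y = coxLabel Cfsg.Spor.Fi23.edges x y := by decide
set_option maxRecDepth 100000 in
theorem h3_1 : ∀ u ∈ kept1, InRels Cfsg.Spor.Fi23.edges Cfsg.Spor.Fi23.extra (FreeGroup.mk u) ∧ ∀ l ∈ u, l.1 ∉ dropped1 := by decide

def edges2 : List (Cfsg.Spor.Fi23.Gen × ℕ × Cfsg.Spor.Fi23.Gen) := [(.b, 3, .c), (.c, 3, .d), (.d, 3, .e), (.d, 3, .h), (.e, 3, .f), (.f, 3, .g), (.h, 3, .i)]
def kept2 : List (List (Cfsg.Spor.Fi23.Gen × Bool)) := [[(.d, true), (.c, true), (.b, true), (.d, true), (.e, true), (.f, true), (.d, true), (.h, true), (.i, true), (.d, true), (.c, true), (.b, true), (.d, true), (.e, true), (.f, true), (.d, true), (.h, true), (.i, true), (.d, true), (.c, true), (.b, true), (.d, true), (.e, true), (.f, true), (.d, true), (.h, true), (.i, true), (.d, true), (.c, true), (.b, true), (.d, true), (.e, true), (.f, true), (.d, true), (.h, true), (.i, true), (.d, true), (.c, true),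 (.b, true), (.d, true), (.e, true), (.f, true), (.d, true), (.h, true), (.i, true), (.d, true), (.c, true), (.b, true), (.d, true), (.e, true), (.f, true), (.d, true), (.h, true), (.i, true), (.d, true), (.c, true), (.b, true), (.d, true), (.e, true), (.f, true), (.d, true), (.h, true), (.i, true), (.d, true), (.c, true), (.b, true), (.d, true), (.e, true), (.f, true), (.d, true), (.h, true), (.i, true), (.d, true), (.c, true), (.b, true), (.d, true), (.e, true), (.f, true), (.d, true), (.h, true), (.i, true), (.d, true), (.c, true), (.b, true), (.d, true), (.e, true), (.f, true), (.d, true), (.h, true), (.i, true)]]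
def dropped2 : List Cfsg.Spor.Fi23.Gen := [.a, .j]
def extra2 : List (FreeGroup Cfsg.Spor.Fi23.Gen) := subExtra kept2 dropped2
theorem h1_2 : ∀ x ∈ coxNodes edges2, x ∈ coxNodes edges1 ∧ x ∉ dropped2 := by decide
theorem h2_2 : ∀ x ∈ coxNodes edges2, ∀ y ∈ coxNodes edges2, coxLabel edges2 x y = coxLabel edges1 x y := by decide
set_option maxRecDepth 100000 in
theorem h3_2 : ∀ u ∈ kept2, InRels edges1 extra1 (FreeGroup.mk u) ∧ ∀ l ∈ u, l.1 ∉ dropped2 := by decide

def edges3 : List (Cfsg.Spor.Fi23.Gen × ℕ × Cfsg.Spor.Fi23.Gen) := [(.b, 3, .c), (.c, 3, .d), (.d, 3, .e), (.d, 3, .h), (.e, 3, .f), (.f, 3, .g)]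
def kept3 : List (List (Cfsg.Spor.Fi23.Gen × Bool)) := []
def dropped3 : List Cfsg.Spor.Fi23.Gen := [.a, .j, .i]
def extra3 : List (FreeGroup Cfsg.Spor.Fi23.Gen) := subExtra kept3 dropped3
theorem h1_3 : ∀ x ∈ coxNodes edges3, x ∈ coxNodes edges2 ∧ x ∉ dropped3 := by decide
theorem h2_3 : ∀ x ∈ coxNodes edges3, ∀ y ∈ coxNodes edges3, coxLabel edges3 x y = coxLabel edges2 x y := by decide
set_option maxRecDepth 100000 in
theorem h3_3 : ∀ u ∈ kept3, InRels edges2 extra2 (FreeGroup.mk u) ∧ ∀ l ∈ u, l.1 ∉ dropped3 := by decide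

def edges4 : List (Cfsg.Spor.Fi23.Gen × ℕ × Cfsg.Spor.Fi23.Gen) := [(.b, 3, .c), (.c, 3, .d), (.d, 3, .e), (.d, 3, .h), (.e, 3, .f)]
def kept4 : List (List (Cfsg.Spor.Fi23.Gen × Bool)) := []
def dropped4 : List Cfsg.Spor.Fi23.Gen := [.a, .g, .j, .i]
def extra4 : List (FreeGroup Cfsg.Spor.Fi23.Gen) := subExtra kept4 dropped4
theorem h1_4 : ∀ x ∈ coxNodes edges4, x ∈ coxNodes edges3 ∧ x ∉ dropped4 := by decide
theorem h2_4 : ∀ x ∈ coxNodes edges4, ∀ y ∈ coxNodes edges4, coxLabel edges4 x y = coxLabel edges3 x y := by decide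
set_option maxRecDepth 100000 in
theorem h3_4 : ∀ u ∈ kept4, InRels edges3 extra3 (FreeGroup.mk u) ∧ ∀ l ∈ u, l.1 ∉ dropped4 := by decide

def edges5 : List (Cfsg.Spor.Fi23.Gen × ℕ × Cfsg.Spor.Fi23.Gen) := [(.c, 3, .d), (.d, 3, .e), (.d, 3, .h), (.e, 3, .f)]
def kept5 : List (List (Cfsg.Spor.Fi23.Gen × Bool)) := []
def dropped5 : List Cfsg.Spor.Fi23.Gen := [.a, .b, .g, .j, .i]
def extra5 : List (FreeGroup Cfsg.Spor.Fi23.Gen) := subExtra kept5 dropped5
theorem h1_5 : ∀ x ∈ coxNodes edges5, x ∈ coxNodes edges4 ∧ x ∉ dropped5 := by decide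
theorem h2_5 : ∀ x ∈ coxNodes edges5, ∀ y ∈ coxNodes edges5, coxLabel edges5 x y = coxLabel edges4 x y := by decide
set_option maxRecDepth 100000 in
theorem h3_5 : ∀ u ∈ kept5, InRels edges4 extra4 (FreeGroup.mk u) ∧ ∀ l ∈ u, l.1 ∉ dropped5 := by decide

def edges6 : List (Cfsg.Spor.Fi23.Gen × ℕ × Cfsg.Spor.Fi23.Gen) := [(.c, 3, .d), (.d, 3, .e), (.e, 3, .f)]
def kept6 : List (List (Cfsg.Spor.Fi23.Gen × Bool)) := []
def dropped6 : List Cfsg.Spor.Fi23.Gen := [.a, .b, .g, .j, .h, .i]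
def extra6 : List (FreeGroup Cfsg.Spor.Fi23.Gen) := subExtra kept6 dropped6
theorem h1_6 : ∀ x ∈ coxNodes edges6, x ∈ coxNodes edges5 ∧ x ∉ dropped6 := by decide
theorem h2_6 : ∀ x ∈ coxNodes edges6, ∀ y ∈ coxNodes edges6, coxLabel edges6 x y = coxLabel edges5 x y := by decide
set_option maxRecDepth 100000 in
theorem h3_6 : ∀ u ∈ kept6, InRels edges5 extra5 (FreeGroup.mk u) ∧ ∀ l ∈ u, l.1 ∉ dropped6 := by decide

def edges7 : List (Cfsg.Spor.Fi23.Gen × ℕ × Cfsg.Spor.Fi23.Gen) := [(.c, 3, .d), (.d, 3, .e)]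
def kept7 : List (List (Cfsg.Spor.Fi23.Gen × Bool)) := []
def dropped7 : List Cfsg.Spor.Fi23.Gen := [.a, .b, .f, .g, .j, .h, .i]
def extra7 : List (FreeGroup Cfsg.Spor.Fi23.Gen) := subExtra kept7 dropped7
theorem h1_7 : ∀ x ∈ coxNodes edges7, x ∈ coxNodes edges6 ∧ x ∉ dropped7 := by decide
theorem h2_7 : ∀ x ∈ coxNodes edges7, ∀ y ∈ coxNodes edges7, coxLabel edges7 x y = coxLabel edges6 x y := by decide
set_option maxRecDepth 100000 in
theorem h3_7 : ∀ u ∈ kept7, InRels edges6 extra6 (FreeGroup.mk u) ∧ ∀ l ∈ u, l.1 ∉ dropped7 := by decide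

def edges8 : List (Cfsg.Spor.Fi23.Gen × ℕ × Cfsg.Spor.Fi23.Gen) := [(.c, 3, .d)]
def kept8 : List (List (Cfsg.Spor.Fi23.Gen × Bool)) := []
def dropped8 : List Cfsg.Spor.Fi23.Gen := [.a, .b, .e, .f, .g, .j, .h, .i]
def extra8 : List (FreeGroup Cfsg.Spor.Fi23.Gen) := subExtra kept8 dropped8
theorem h1_8 : ∀ x ∈ coxNodes edges8, x ∈ coxNodes edges7 ∧ x ∉ dropped8 := by decide
theorem h2_8 : ∀ x ∈ coxNodes edges8, ∀ y ∈ coxNodes edges8, coxLabel edges8 x y = coxLabel edges7 x y := by decide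
set_option maxRecDepth 100000 in
theorem h3_8 : ∀ u ∈ kept8, InRels edges7 extra7 (FreeGroup.mk u) ∧ ∀ l ∈ u, l.1 ∉ dropped8 := by decide

end Cfsg.Agent.Lib.Helper28_Fi23Chain
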