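import Cfsg.Agent.Lib.Helper28_OrbitLB

/-!
# Tight orbit chains: the pointwise stabiliser of the base points is trivial (helper28)

When the lower bound chain of `Helper28_OrbitLB` is tight (the orders are known), every step
`L ≤ K` satisfies `Stab_K(x) = L`; so an element fixing all base points is trivial, and word
identities in the presented group can be checked on the base points only.
-/

set_option autoImplicit false
set_option linter.unusedSectionVars false
set_option linter.unusedVariables false

namespace Cfsg.Agent.Lib.Helper28_OrbitLB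

open Cfsg.Agent.Lib.Helper28_CosetPerm

section Abstract

/-- In a tight step the stabiliser of the base point in `K` is `L`. -/
theorem stab_le_of_tight {G : Type*} [Group G] [Finite G] {n : ℕ} (ρ : G →* Equiv.Perm (Fin n))
    (K L : Subgroup G) (hLK : L ≤ K) (x : Fin n) (hL : ∀ g ∈ L, ρ g x = x)
    (O : Finset (Fin n)) (hO : ∀ y ∈ O, ∃ g ∈ K, ρ g x = y) (hpos : 0 < O.card)
    (htight : Nat.card K ≤ O.card * Nat.card L) :
    ∀ g ∈ K, ρ g x = x → g ∈ L := by
  classical
  let _ : MulAction K (Fin n) := MulAction.compHom (Fin n) (ρ.comp K.subtype)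
  have hsm : ∀ (k : K) (y : Fin n), k • y = ρ (k : G) y := fun _ _ => rfl
  have h1 : Nat.card (MulAction.stabilizer K x) * (MulAction.orbit K x).ncard = Nat.card K := by
    rw [← MulAction.index_stabilizer]
    exact (MulAction.stabilizer K x).card_mul_index
  have h2 : O.card ≤ (MulAction.orbit K x).ncard := by
    have hsub : (O : Set (Fin n)) ⊆ MulAction.orbit K x := by
      intro y hy
      obtain ⟨g, hg, hgy⟩ := hO y hy
      exact ⟨⟨g, hg⟩, hgy⟩
    have := Set.ncard_le_ncard hsub (Set.toFinite _)
    rwa [Set.ncard_coe_finset] at this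
  have hle : L.subgroupOf K ≤ MulAction.stabilizer K x := by
    intro k hk
    rw [MulAction.mem_stabilizer_iff, hsm]
    exact hL k hk
  have e : Nat.card (L.subgroupOf K) = Nat.card L :=
    Nat.card_congr (Subgroup.subgroupOfEquivOfLe hLK).toEquiv
  -- |stab| ≤ |L|
  have h3 : Nat.card (MulAction.stabilizer K x) ≤ Nat.card (L.subgroupOf K) := by
    rw [e]
    have h4 : Nat.card (MulAction.stabilizer K x) * O.card ≤ Nat.card L * O.card := by
      calc Nat.card (MulAction.stabilizer K x) * O.card
          ≤ Nat.card (MulAction.stabilizer K x) * (MulAction.orbit K x).ncard :=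
            Nat.mul_le_mul_left _ h2
        _ = Nat.card K := h1
        _ ≤ O.card * Nat.card L := htight
        _ = Nat.card L * O.card := Nat.mul_comm _ _
    exact Nat.le_of_mul_le_mul_right h4 hpos
  have heq : L.subgroupOf K = MulAction.stabilizer K x :=
    Subgroup.eq_of_le_of_card_ge hle h3
  intro g hg hgx
  have : (⟨g, hg⟩ : K) ∈ MulAction.stabilizer K x := by
    rw [MulAction.mem_stabilizer_iff, hsm]; exact hgx
  rw [← heq] at this
  exact this

end Abstract

section Main

variable {α : Type} {n w mask : ℕ} {col : α → Bool → ℕ} [NeZero n]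
variable {rels : Set (FreeGroup α)} {S : Set (FreeGroup α)}

/-- The tight version of `Verified.step`: elements of `⟨lK⟩` fixing the base point lie in
`⟨lL⟩`. -/
theorem Verified.stab_step [Finite (PresentedGroup rels)] (V : Verified n w mask col rels S)
    (lK lL : List α) (hLK : ∀ a ∈ lL, a ∈ lK)
    (lab : ℕ) (base : Fin n) (ls : List (α × Bool)) (hls : ∀ l ∈ ls, l.1 ∈ lK)
    (hfix : ∀ a ∈ lL, walk mask col [(a, true)] (base * w) = base * w)
    (hchk : ∀ k < n, lchk mask col lab (base * w) ls (k * w) = true)
    (m : ℕ) (hm : cntB (fun k => Nat.blt 0 (nxt mask lab (Nat.mul k w))) n = m) (hpos : 0 < m)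
    (htight : Nat.card (SG rels lK) ≤ m * Nat.card (SG rels lL)) :
    ∀ g ∈ SG rels lK, psi (perm V.hv) V.hrel g base = base → g ∈ SG rels lL := by
  have hv := V.hv
  rw [← hm, ← card_labSet] at htight hpos
  apply stab_le_of_tight (psi (perm hv) V.hrel) (SG rels lK) (SG rels lL)
    (SG_mono rels hLK) base ?_ (labSet n w mask lab) ?_ hpos htight
  · have hle : SG rels lL ≤
        (MulAction.stabilizer (Equiv.Perm (Fin n)) base).comap (psi (perm hv) V.hrel) := by
      unfold SG
      rw [Subgroup.closure_le]
      rintro x ⟨a, ha, rfl⟩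
      show psi (perm hv) V.hrel (PresentedGroup.of a) ∈
        MulAction.stabilizer (Equiv.Perm (Fin n)) base
      rw [MulAction.mem_stabilizer_iff]
      have := lift_fix_of_walk hv [(a, true)] base (hfix a ha)
      have e : (FreeGroup.mk [(a, true)] : FreeGroup α) = FreeGroup.of a := rfl
      rw [e] at this
      exact this
    intro g hg
    have := hle hg
    rwa [Subgroup.mem_comap, MulAction.mem_stabilizer_iff] at this
  · intro y hy
    obtain ⟨g, hg, hgy⟩ := reach_of_lchk hv lab base ls hchk y hy
    refine ⟨PresentedGroup.mk rels g, ?_, ?_⟩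
    · have hle : Subgroup.closure {s : FreeGroup α | ∃ l ∈ ls, s = FreeGroup.of l.1} ≤
          (SG rels lK).comap (PresentedGroup.mk rels) := by
        rw [Subgroup.closure_le]
        rintro s ⟨l, hl, rfl⟩
        exact Subgroup.subset_closure ⟨l.1, hls l hl, rfl⟩
      exact hle hg
    · rw [psi_mk]; exact hgy

/-- A word walking from the base offset back to it fixes the base point. -/
theorem psi_fix_of_walk (V : Verified n w mask col rels S) (u : List (α × Bool)) (x : Fin n)
    (h : walk mask col u (x * w) = x * w) :
    psi (perm V.hv) V.hrel (PresentedGroup.mk rels (FreeGroup.mk u)) x = x := by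
  rw [psi_mk]
  exact lift_fix_of_walk V.hv u x h

end Main

end Cfsg.Agent.Lib.Helper28_OrbitLB
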