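import Cfsg.Agent.Lib.Helper28_S1689
import Cfsg.Agent.Lib.Helper28_OrbitLB2

set_option autoImplicit false
set_option linter.constructorNameAsVariable false
set_option Elab.async false

namespace Cfsg.Agent.Lib.Helper28_Fi23LB4

open Cfsg.Spor Cfsg.Agent.Lib.Helper28_CosetPerm Cfsg.Agent.Lib.Helper28_OrbitLB Cfsg.Agent.Lib.Helper28_S1689 Cfsg.Agent.Lib.Helper28_S1689Tab

def lab : Nat := 0x100000000000000000000000000000000000000000000000000000000000000000000000000000000000000000000000000000000000000000000000000000000000000000000000000000000000000000000000000000000000000000000000000000000000000000000000000000000000000000000000000000000000000000000000000000000000000020000000000000000000000000000000000000000000000000000000000000000000000000000000000000000000000000000000000000000000000000000000000000000000000000000000000000003000000000000000000000000000000000030000000000000000000000000000000000000000000000000000000000040000000000000000000000000000000000000000000000000400000000000000000004000000000000000000000000000000000000000000005000000000000000000050000000000000050000000005000000000000000000060000000000000060000000006000000000600007000000000000007000000000700007000070000800000000080000800008000090000900009000090000a0000a0000a0000b0000b0000c0000d00000000000000000000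

def ls : List (Cfsg.Spor.Fi23.Gen × Bool) := [(.a, true), (.b, true), (.c, true), (.d, true), (.h, true), (.i, true)]

def chk (x : ℕ) : Bool := lchk 1048575 col lab 3560 ls x

theorem r0 : allRange chk 20 0 3158 = true := by decide +kernel
theorem u0 : ∀ k, 0 ≤ k → k < 3158 → chk (k * 20) = true := between_extend chk 20 0 0 3158 (between_start chk 20 0) r0

theorem r1 : allRange chk 20 3158 3788 = true := by decide +kernel
theorem u1 : ∀ k, 0 ≤ k → k < 6946 → chk (k * 20) = true := between_extend chk 20 0 3158 3788 (u0) r1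

theorem r2 : allRange chk 20 6946 3788 = true := by decide +kernel
theorem u2 : ∀ k, 0 ≤ k → k < 10734 → chk (k * 20) = true := between_extend chk 20 0 6946 3788 (u1) r2

theorem r3 : allRange chk 20 10734 3788 = true := by decide +kernel
theorem u3 : ∀ k, 0 ≤ k → k < 14522 → chk (k * 20) = true := between_extend chk 20 0 10734 3788 (u2) r3

theorem r4 : allRange chk 20 14522 3788 = true := by decide +kernel
theorem u4 : ∀ k, 0 ≤ k → k < 18310 → chk (k * 20) = true := between_extend chk 20 0 14522 3788 (u3) r4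

theorem r5 : allRange chk 20 18310 3788 = true := by decide +kernel
theorem u5 : ∀ k, 0 ≤ k → k < 22098 → chk (k * 20) = true := between_extend chk 20 0 18310 3788 (u4) r5

theorem r6 : allRange chk 20 22098 3788 = true := by decide +kernel
theorem u6 : ∀ k, 0 ≤ k → k < 25886 → chk (k * 20) = true := between_extend chk 20 0 22098 3788 (u5) r6

theorem r7 : allRange chk 20 25886 3788 = true := by decide +kernel
theorem u7 : ∀ k, 0 ≤ k → k < 29674 → chk (k * 20) = true := between_extend chk 20 0 25886 3788 (u6) r7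

theorem r8 : allRange chk 20 29674 1997 = true := by decide +kernel
theorem u8 : ∀ k, 0 ≤ k → k < 31671 → chk (k * 20) = true := between_extend chk 20 0 29674 1997 (u7) r8

theorem chk_all : ∀ k < 31671, lchk 1048575 col lab 3560 ls (k * 20) = true := between_all chk 20 31671 u8

theorem cnt : cntB (fun k => Nat.blt 0 (nxt 1048575 lab (Nat.mul k 20))) 31671 = 35 := by decide +kernel

theorem fix : ∀ a ∈ ([.a, .b, .d, .h, .i] : List Cfsg.Spor.Fi23.Gen), walk 1048575 col [(a, true)] (178 * 20) = 178 * 20 := by decide +kernel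

theorem step [Finite (PresentedGroup (Cfsg.Spor.coxRelators Cfsg.Spor.Fi23.edges ∪ {r | r ∈ Cfsg.Spor.Fi23.extra}))] (Z : Subgroup (PresentedGroup (Cfsg.Spor.coxRelators Cfsg.Spor.Fi23.edges ∪ {r | r ∈ Cfsg.Spor.Fi23.extra}))) (hZ : ∀ z ∈ Z, psi (perm Cfsg.Agent.Lib.Helper28_S1689.verified.hv) Cfsg.Agent.Lib.Helper28_S1689.verified.hrel z = 1) :
    35 * Nat.card (SG (Cfsg.Spor.coxRelators Cfsg.Spor.Fi23.edges ∪ {r | r ∈ Cfsg.Spor.Fi23.extra}) [.a, .b, .d, .h, .i] ⊔ Z : Subgroup (PresentedGroup (Cfsg.Spor.coxRelators Cfsg.Spor.Fi23.edges ∪ {r | r ∈ Cfsg.Spor.Fi23.extra}))) ≤ Nat.card (SG (Cfsg.Spor.coxRelators Cfsg.Spor.Fi23.edges ∪ {r | r ∈ Cfsg.Spor.Fi23.extra}) [.a, .b, .c, .d, .h, .i] ⊔ Z : Subgroup (PresentedGroup (Cfsg.Spor.coxRelators Cfsg.Spor.Fi23.edges ∪ {r | r ∈ Cfsg.Spor.Fi23.extra}))) :=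
  Verified.step Cfsg.Agent.Lib.Helper28_S1689.verified Z hZ [.a, .b, .c, .d, .h, .i] [.a, .b, .d, .h, .i] (by decide) lab (⟨178, by norm_num⟩ : Fin 31671) ls (by decide) fix chk_all 35 cnt

theorem stab [Finite (PresentedGroup (Cfsg.Spor.coxRelators Cfsg.Spor.Fi23.edges ∪ {r | r ∈ Cfsg.Spor.Fi23.extra}))] (htight : Nat.card (SG (Cfsg.Spor.coxRelators Cfsg.Spor.Fi23.edges ∪ {r | r ∈ Cfsg.Spor.Fi23.extra}) [.a, .b, .c, .d, .h, .i]) ≤ 35 * Nat.card (SG (Cfsg.Spor.coxRelators Cfsg.Spor.Fi23.edges ∪ {r | r ∈ Cfsg.Spor.Fi23.extra}) [.a, .b, .d, .h, .i])) :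
    ∀ g ∈ SG (Cfsg.Spor.coxRelators Cfsg.Spor.Fi23.edges ∪ {r | r ∈ Cfsg.Spor.Fi23.extra}) [.a, .b, .c, .d, .h, .i], psi (perm Cfsg.Agent.Lib.Helper28_S1689.verified.hv) Cfsg.Agent.Lib.Helper28_S1689.verified.hrel g (⟨178, by norm_num⟩ : Fin 31671) = (⟨178, by norm_num⟩ : Fin 31671) → g ∈ SG (Cfsg.Spor.coxRelators Cfsg.Spor.Fi23.edges ∪ {r | r ∈ Cfsg.Spor.Fi23.extra}) [.a, .b, .d, .h, .i] :=
  Verified.stab_step Cfsg.Agent.Lib.Helper28_S1689.verified [.a, .b, .c, .d, .h, .i] [.a, .b, .d, .h, .i] (by decide) lab (⟨178, by norm_num⟩ : Fin 31671) ls (by decide) fix chk_all 35 cnt (by norm_num) htight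

end Cfsg.Agent.Lib.Helper28_Fi23LB4
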