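import Cfsg.Agent.Lib.Helper28_S1689
import Cfsg.Agent.Lib.Helper28_OrbitLB2

set_option autoImplicit false
set_option linter.constructorNameAsVariable false
set_option Elab.async false

namespace Cfsg.Agent.Lib.Helper28_Fi23LB7

open Cfsg.Spor Cfsg.Agent.Lib.Helper28_CosetPerm Cfsg.Agent.Lib.Helper28_OrbitLB Cfsg.Agent.Lib.Helper28_S1689 Cfsg.Agent.Lib.Helper28_S1689Tab

def lab : Nat := 0x20000000001000000000000000000000000000000

def ls : List (Cfsg.Spor.Fi23.Gen × Bool) := [(.b, true), (.d, true), (.i, true)]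

def chk (x : ℕ) : Bool := lchk 1048575 col lab 120 ls x

theorem r0 : allRange chk 20 0 3770 = true := by decide +kernel
theorem u0 : ∀ k, 0 ≤ k → k < 3770 → chk (k * 20) = true := between_extend chk 20 0 0 3770 (between_start chk 20 0) r0

theorem r1 : allRange chk 20 3770 3788 = true := by decide +kernel
theorem u1 : ∀ k, 0 ≤ k → k < 7558 → chk (k * 20) = true := between_extend chk 20 0 3770 3788 (u0) r1

theorem r2 : allRange chk 20 7558 3788 = true := by decide +kernel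
theorem u2 : ∀ k, 0 ≤ k → k < 11346 → chk (k * 20) = true := between_extend chk 20 0 7558 3788 (u1) r2

theorem r3 : allRange chk 20 11346 3788 = true := by decide +kernel
theorem u3 : ∀ k, 0 ≤ k → k < 15134 → chk (k * 20) = true := between_extend chk 20 0 11346 3788 (u2) r3

theorem r4 : allRange chk 20 15134 3788 = true := by decide +kernel
theorem u4 : ∀ k, 0 ≤ k → k < 18922 → chk (k * 20) = true := between_extend chk 20 0 15134 3788 (u3) r4

theorem r5 : allRange chk 20 18922 3788 = true := by decide +kernel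
theorem u5 : ∀ k, 0 ≤ k → k < 22710 → chk (k * 20) = true := between_extend chk 20 0 18922 3788 (u4) r5

theorem r6 : allRange chk 20 22710 3788 = true := by decide +kernel
theorem u6 : ∀ k, 0 ≤ k → k < 26498 → chk (k * 20) = true := between_extend chk 20 0 22710 3788 (u5) r6

theorem r7 : allRange chk 20 26498 3788 = true := by decide +kernel
theorem u7 : ∀ k, 0 ≤ k → k < 30286 → chk (k * 20) = true := between_extend chk 20 0 26498 3788 (u6) r7

theorem r8 : allRange chk 20 30286 1385 = true := by decide +kernel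
theorem u8 : ∀ k, 0 ≤ k → k < 31671 → chk (k * 20) = true := between_extend chk 20 0 30286 1385 (u7) r8

theorem chk_all : ∀ k < 31671, lchk 1048575 col lab 120 ls (k * 20) = true := between_all chk 20 31671 u8

theorem cnt : cntB (fun k => Nat.blt 0 (nxt 1048575 lab (Nat.mul k 20))) 31671 = 2 := by decide +kernel

theorem fix : ∀ a ∈ ([.d, .i] : List Cfsg.Spor.Fi23.Gen), walk 1048575 col [(a, true)] (6 * 20) = 6 * 20 := by decide +kernel

theorem step [Finite (PresentedGroup (Cfsg.Spor.coxRelators Cfsg.Spor.Fi23.edges ∪ {r | r ∈ Cfsg.Spor.Fi23.extra}))] (Z : Subgroup (PresentedGroup (Cfsg.Spor.coxRelators Cfsg.Spor.Fi23.edges ∪ {r | r ∈ Cfsg.Spor.Fi23.extra}))) (hZ : ∀ z ∈ Z, psi (perm Cfsg.Agent.Lib.Helper28_S1689.verified.hv) Cfsg.Agent.Lib.Helper28_S1689.verified.hrel z = 1) :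
    2 * Nat.card (SG (Cfsg.Spor.coxRelators Cfsg.Spor.Fi23.edges ∪ {r | r ∈ Cfsg.Spor.Fi23.extra}) [.d, .i] ⊔ Z : Subgroup (PresentedGroup (Cfsg.Spor.coxRelators Cfsg.Spor.Fi23.edges ∪ {r | r ∈ Cfsg.Spor.Fi23.extra}))) ≤ Nat.card (SG (Cfsg.Spor.coxRelators Cfsg.Spor.Fi23.edges ∪ {r | r ∈ Cfsg.Spor.Fi23.extra}) [.b, .d, .i] ⊔ Z : Subgroup (PresentedGroup (Cfsg.Spor.coxRelators Cfsg.Spor.Fi23.edges ∪ {r | r ∈ Cfsg.Spor.Fi23.extra}))) :=
  Verified.step Cfsg.Agent.Lib.Helper28_S1689.verified Z hZ [.b, .d, .i] [.d, .i] (by decide) lab (⟨6, by norm_num⟩ : Fin 31671) ls (by decide) fix chk_all 2 cnt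

theorem stab [Finite (PresentedGroup (Cfsg.Spor.coxRelators Cfsg.Spor.Fi23.edges ∪ {r | r ∈ Cfsg.Spor.Fi23.extra}))] (htight : Nat.card (SG (Cfsg.Spor.coxRelators Cfsg.Spor.Fi23.edges ∪ {r | r ∈ Cfsg.Spor.Fi23.extra}) [.b, .d, .i]) ≤ 2 * Nat.card (SG (Cfsg.Spor.coxRelators Cfsg.Spor.Fi23.edges ∪ {r | r ∈ Cfsg.Spor.Fi23.extra}) [.d, .i])) :
    ∀ g ∈ SG (Cfsg.Spor.coxRelators Cfsg.Spor.Fi23.edges ∪ {r | r ∈ Cfsg.Spor.Fi23.extra}) [.b, .d, .i], psi (perm Cfsg.Agent.Lib.Helper28_S1689.verified.hv) Cfsg.Agent.Lib.Helper28_S1689.verified.hrel g (⟨6, by norm_num⟩ : Fin 31671) = (⟨6, by norm_num⟩ : Fin 31671) → g ∈ SG (Cfsg.Spor.coxRelators Cfsg.Spor.Fi23.edges ∪ {r | r ∈ Cfsg.Spor.Fi23.extra}) [.d, .i] :=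
  Verified.stab_step Cfsg.Agent.Lib.Helper28_S1689.verified [.b, .d, .i] [.d, .i] (by decide) lab (⟨6, by norm_num⟩ : Fin 31671) ls (by decide) fix chk_all 2 cnt (by norm_num) htight

end Cfsg.Agent.Lib.Helper28_Fi23LB7
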