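import Cfsg.Agent.Lib.Helper28_Fi23OrderU
import Cfsg.Agent.Lib.Helper28_Fi23LB0
import Cfsg.Agent.Lib.Helper28_Fi23LB1
import Cfsg.Agent.Lib.Helper28_Fi23LB2
import Cfsg.Agent.Lib.Helper28_Fi23LB3
import Cfsg.Agent.Lib.Helper28_Fi23LB4
import Cfsg.Agent.Lib.Helper28_Fi23LB5
import Cfsg.Agent.Lib.Helper28_Fi23LB6
import Cfsg.Agent.Lib.Helper28_Fi23LB7
import Cfsg.Agent.Lib.Helper28_Fi23LB8
import Cfsg.Agent.Lib.Helper28_Fi23LB9

/-!
# The order of the presented group `Fi23`, faithfulness of its coset actions, and the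
triviality of the pointwise stabiliser of the base points (helper28; generated by tools/helper28/gen_lbchain.py)
-/

set_option autoImplicit false
set_option linter.constructorNameAsVariable false
set_option linter.unusedVariables false

namespace Cfsg.Agent.Lib.Helper28_Fi23Order

open Cfsg.Spor Cfsg.Agent.Lib.Helper28_CosetPerm Cfsg.Agent.Lib.Helper28_OrbitLB

/-- the relators -/
abbrev RELS : Set (FreeGroup Cfsg.Spor.Fi23.Gen) :=
  Cfsg.Spor.coxRelators Cfsg.Spor.Fi23.edges ∪ {r | r ∈ Cfsg.Spor.Fi23.extra}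

instance finiteG : Finite (PresentedGroup RELS) := card_le.1

/-- the action on the 31671 cosets of the table S1689 -/
noncomputable def rhoS1689 : PresentedGroup RELS →* Equiv.Perm (Fin 31671) :=
  psi (perm Cfsg.Agent.Lib.Helper28_S1689.verified.hv) Cfsg.Agent.Lib.Helper28_S1689.verified.hrel

/-- the common kernel -/
noncomputable def Z : Subgroup (PresentedGroup RELS) := rhoS1689.ker

theorem hZS1689 : ∀ z ∈ Z, rhoS1689 z = 1 := fun _ hz => MonoidHom.mem_ker.mp hz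

theorem top_eq : SG RELS [.a, .b, .c, .d, .e, .f, .g, .j, .h, .i] = ⊤ :=
  SG_top RELS _ (by intro x; cases x <;> decide)

theorem chain : 4089470473293004800 * Nat.card Z ≤ Nat.card (PresentedGroup RELS) := by
  have h0 := Cfsg.Agent.Lib.Helper28_Fi23LB0.step Z hZS1689
  have h1 := Cfsg.Agent.Lib.Helper28_Fi23LB1.step Z hZS1689
  have h2 := Cfsg.Agent.Lib.Helper28_Fi23LB2.step Z hZS1689
  have h3 := Cfsg.Agent.Lib.Helper28_Fi23LB3.step Z hZS1689
  have h4 := Cfsg.Agent.Lib.Helper28_Fi23LB4.step Z hZS1689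
  have h5 := Cfsg.Agent.Lib.Helper28_Fi23LB5.step Z hZS1689
  have h6 := Cfsg.Agent.Lib.Helper28_Fi23LB6.step Z hZS1689
  have h7 := Cfsg.Agent.Lib.Helper28_Fi23LB7.step Z hZS1689
  have h8 := Cfsg.Agent.Lib.Helper28_Fi23LB8.step Z hZS1689
  have h9 := Cfsg.Agent.Lib.Helper28_Fi23LB9.step Z hZS1689
  have c8 := le_trans (Nat.mul_le_mul_left 2 h9) h8
  have c7 := le_trans (Nat.mul_le_mul_left 2 c8) h7
  have c6 := le_trans (Nat.mul_le_mul_left 3 c7) h6
  have c5 := le_trans (Nat.mul_le_mul_left 6 c6) h5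
  have c4 := le_trans (Nat.mul_le_mul_left 35 c5) h4
  have c3 := le_trans (Nat.mul_le_mul_left 288 c4) h3
  have c2 := le_trans (Nat.mul_le_mul_left 3159 c3) h2
  have c1 := le_trans (Nat.mul_le_mul_left 28160 c2) h1
  have c0 := le_trans (Nat.mul_le_mul_left 31671 c1) h0
  rw [top_eq, top_sup_eq, Subgroup.card_top, SG_nil, bot_sup_eq] at c0
  calc 4089470473293004800 * Nat.card Z = 31671 * (28160 * (3159 * (288 * (35 * (6 * (3 * (2 * (2 * (2 * (Nat.card Z)))))))))) := by ring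
    _ ≤ _ := c0

/-- the order -/
theorem card_eq : Nat.card (PresentedGroup RELS) = 4089470473293004800 := by
  have h1 := chain
  have h2 := card_le.2
  have hZ : 1 ≤ Nat.card Z := Nat.card_pos
  apply le_antisymm h2
  calc 4089470473293004800 = 4089470473293004800 * 1 := by norm_num
    _ ≤ 4089470473293004800 * Nat.card Z := Nat.mul_le_mul_left _ hZ
    _ ≤ _ := h1

theorem Z_eq_bot : Z = ⊥ := by
  have h1 := chain
  have h2 := card_le.2
  have h3 : 4089470473293004800 * Nat.card Z ≤ 4089470473293004800 * 1 := by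
    rw [Nat.mul_one]; exact le_trans h1 h2
  have h4 : Nat.card Z ≤ 1 := Nat.le_of_mul_le_mul_left h3 (by norm_num)
  exact Z.eq_bot_of_card_le h4

/-- faithfulness: an element acting trivially on the coset spaces is trivial -/
theorem eq_one_of_act (g : PresentedGroup RELS) (hS1689 : rhoS1689 g = 1) : g = 1 := by
  have : g ∈ Z := MonoidHom.mem_ker.mpr hS1689
  rw [Z_eq_bot] at this
  exact Subgroup.mem_bot.mp this

theorem s0 : 31671 * Nat.card (SG RELS [.a, .b, .c, .d, .e, .f, .g, .h, .i]) ≤ Nat.card (SG RELS [.a, .b, .c, .d, .e, .f, .g, .j, .h, .i]) := by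
  have h := Cfsg.Agent.Lib.Helper28_Fi23LB0.step ⊥ (fun z hz => by rw [Subgroup.mem_bot.mp hz, map_one])
  rwa [sup_bot_eq, sup_bot_eq] at h

theorem s1 : 28160 * Nat.card (SG RELS [.a, .b, .c, .d, .e, .f, .h, .i]) ≤ Nat.card (SG RELS [.a, .b, .c, .d, .e, .f, .g, .h, .i]) := by
  have h := Cfsg.Agent.Lib.Helper28_Fi23LB1.step ⊥ (fun z hz => by rw [Subgroup.mem_bot.mp hz, map_one])
  rwa [sup_bot_eq, sup_bot_eq] at h

theorem s2 : 3159 * Nat.card (SG RELS [.a, .b, .c, .d, .e, .h, .i]) ≤ Nat.card (SG RELS [.a, .b, .c, .d, .e, .f, .h, .i]) := by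
  have h := Cfsg.Agent.Lib.Helper28_Fi23LB2.step ⊥ (fun z hz => by rw [Subgroup.mem_bot.mp hz, map_one])
  rwa [sup_bot_eq, sup_bot_eq] at h

theorem s3 : 288 * Nat.card (SG RELS [.a, .b, .c, .d, .h, .i]) ≤ Nat.card (SG RELS [.a, .b, .c, .d, .e, .h, .i]) := by
  have h := Cfsg.Agent.Lib.Helper28_Fi23LB3.step ⊥ (fun z hz => by rw [Subgroup.mem_bot.mp hz, map_one])
  rwa [sup_bot_eq, sup_bot_eq] at h

theorem s4 : 35 * Nat.card (SG RELS [.a, .b, .d, .h, .i]) ≤ Nat.card (SG RELS [.a, .b, .c, .d, .h, .i]) := by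
  have h := Cfsg.Agent.Lib.Helper28_Fi23LB4.step ⊥ (fun z hz => by rw [Subgroup.mem_bot.mp hz, map_one])
  rwa [sup_bot_eq, sup_bot_eq] at h

theorem s5 : 6 * Nat.card (SG RELS [.a, .b, .d, .i]) ≤ Nat.card (SG RELS [.a, .b, .d, .h, .i]) := by
  have h := Cfsg.Agent.Lib.Helper28_Fi23LB5.step ⊥ (fun z hz => by rw [Subgroup.mem_bot.mp hz, map_one])
  rwa [sup_bot_eq, sup_bot_eq] at h

theorem s6 : 3 * Nat.card (SG RELS [.b, .d, .i]) ≤ Nat.card (SG RELS [.a, .b, .d, .i]) := by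
  have h := Cfsg.Agent.Lib.Helper28_Fi23LB6.step ⊥ (fun z hz => by rw [Subgroup.mem_bot.mp hz, map_one])
  rwa [sup_bot_eq, sup_bot_eq] at h

theorem s7 : 2 * Nat.card (SG RELS [.d, .i]) ≤ Nat.card (SG RELS [.b, .d, .i]) := by
  have h := Cfsg.Agent.Lib.Helper28_Fi23LB7.step ⊥ (fun z hz => by rw [Subgroup.mem_bot.mp hz, map_one])
  rwa [sup_bot_eq, sup_bot_eq] at h

theorem s8 : 2 * Nat.card (SG RELS [.i]) ≤ Nat.card (SG RELS [.d, .i]) := by
  have h := Cfsg.Agent.Lib.Helper28_Fi23LB8.step ⊥ (fun z hz => by rw [Subgroup.mem_bot.mp hz, map_one])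
  rwa [sup_bot_eq, sup_bot_eq] at h

theorem s9 : 2 * Nat.card (SG RELS []) ≤ Nat.card (SG RELS [.i]) := by
  have h := Cfsg.Agent.Lib.Helper28_Fi23LB9.step ⊥ (fun z hz => by rw [Subgroup.mem_bot.mp hz, map_one])
  rwa [sup_bot_eq, sup_bot_eq] at h

theorem lo10 : 1 ≤ Nat.card (SG RELS ([] : List Cfsg.Spor.Fi23.Gen)) := Nat.card_pos

theorem lo9 : 2 ≤ Nat.card (SG RELS [.i]) :=
  calc 2 = 2 * 1 := by norm_num
    _ ≤ 2 * Nat.card (SG RELS []) := Nat.mul_le_mul_left _ lo10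
    _ ≤ _ := s9

theorem lo8 : 4 ≤ Nat.card (SG RELS [.d, .i]) :=
  calc 4 = 2 * 2 := by norm_num
    _ ≤ 2 * Nat.card (SG RELS [.i]) := Nat.mul_le_mul_left _ lo9
    _ ≤ _ := s8

theorem lo7 : 8 ≤ Nat.card (SG RELS [.b, .d, .i]) :=
  calc 8 = 2 * 4 := by norm_num
    _ ≤ 2 * Nat.card (SG RELS [.d, .i]) := Nat.mul_le_mul_left _ lo8
    _ ≤ _ := s7

theorem lo6 : 24 ≤ Nat.card (SG RELS [.a, .b, .d, .i]) :=
  calc 24 = 3 * 8 := by norm_num
    _ ≤ 3 * Nat.card (SG RELS [.b, .d, .i]) := Nat.mul_le_mul_left _ lo7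
    _ ≤ _ := s6

theorem lo5 : 144 ≤ Nat.card (SG RELS [.a, .b, .d, .h, .i]) :=
  calc 144 = 6 * 24 := by norm_num
    _ ≤ 6 * Nat.card (SG RELS [.a, .b, .d, .i]) := Nat.mul_le_mul_left _ lo6
    _ ≤ _ := s5

theorem lo4 : 5040 ≤ Nat.card (SG RELS [.a, .b, .c, .d, .h, .i]) :=
  calc 5040 = 35 * 144 := by norm_num
    _ ≤ 35 * Nat.card (SG RELS [.a, .b, .d, .h, .i]) := Nat.mul_le_mul_left _ lo5
    _ ≤ _ := s4

theorem lo3 : 1451520 ≤ Nat.card (SG RELS [.a, .b, .c, .d, .e, .h, .i]) :=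
  calc 1451520 = 288 * 5040 := by norm_num
    _ ≤ 288 * Nat.card (SG RELS [.a, .b, .c, .d, .h, .i]) := Nat.mul_le_mul_left _ lo4
    _ ≤ _ := s3

theorem lo2 : 4585351680 ≤ Nat.card (SG RELS [.a, .b, .c, .d, .e, .f, .h, .i]) :=
  calc 4585351680 = 3159 * 1451520 := by norm_num
    _ ≤ 3159 * Nat.card (SG RELS [.a, .b, .c, .d, .e, .h, .i]) := Nat.mul_le_mul_left _ lo3
    _ ≤ _ := s2

theorem lo1 : 129123503308800 ≤ Nat.card (SG RELS [.a, .b, .c, .d, .e, .f, .g, .h, .i]) :=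
  calc 129123503308800 = 28160 * 4585351680 := by norm_num
    _ ≤ 28160 * Nat.card (SG RELS [.a, .b, .c, .d, .e, .f, .h, .i]) := Nat.mul_le_mul_left _ lo2
    _ ≤ _ := s1

theorem lo0 : 4089470473293004800 ≤ Nat.card (SG RELS [.a, .b, .c, .d, .e, .f, .g, .j, .h, .i]) :=
  calc 4089470473293004800 = 31671 * 129123503308800 := by norm_num
    _ ≤ 31671 * Nat.card (SG RELS [.a, .b, .c, .d, .e, .f, .g, .h, .i]) := Nat.mul_le_mul_left _ lo1
    _ ≤ _ := s0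

theorem hi0 : Nat.card (SG RELS [.a, .b, .c, .d, .e, .f, .g, .j, .h, .i]) ≤ 4089470473293004800 := by
  rw [top_eq, Subgroup.card_top]; exact card_le.2

theorem hi1 : Nat.card (SG RELS [.a, .b, .c, .d, .e, .f, .g, .h, .i]) ≤ 129123503308800 := by
  have h1 : 31671 * Nat.card (SG RELS [.a, .b, .c, .d, .e, .f, .g, .h, .i]) ≤ 31671 * 129123503308800 :=
    le_trans s0 (le_trans hi0 (by norm_num))
  exact Nat.le_of_mul_le_mul_left h1 (by norm_num)

theorem hi2 : Nat.card (SG RELS [.a, .b, .c, .d, .e, .f, .h, .i]) ≤ 4585351680 := by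
  have h1 : 28160 * Nat.card (SG RELS [.a, .b, .c, .d, .e, .f, .h, .i]) ≤ 28160 * 4585351680 :=
    le_trans s1 (le_trans hi1 (by norm_num))
  exact Nat.le_of_mul_le_mul_left h1 (by norm_num)

theorem hi3 : Nat.card (SG RELS [.a, .b, .c, .d, .e, .h, .i]) ≤ 1451520 := by
  have h1 : 3159 * Nat.card (SG RELS [.a, .b, .c, .d, .e, .h, .i]) ≤ 3159 * 1451520 :=
    le_trans s2 (le_trans hi2 (by norm_num))
  exact Nat.le_of_mul_le_mul_left h1 (by norm_num)

theorem hi4 : Nat.card (SG RELS [.a, .b, .c, .d, .h, .i]) ≤ 5040 := by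
  have h1 : 288 * Nat.card (SG RELS [.a, .b, .c, .d, .h, .i]) ≤ 288 * 5040 :=
    le_trans s3 (le_trans hi3 (by norm_num))
  exact Nat.le_of_mul_le_mul_left h1 (by norm_num)

theorem hi5 : Nat.card (SG RELS [.a, .b, .d, .h, .i]) ≤ 144 := by
  have h1 : 35 * Nat.card (SG RELS [.a, .b, .d, .h, .i]) ≤ 35 * 144 :=
    le_trans s4 (le_trans hi4 (by norm_num))
  exact Nat.le_of_mul_le_mul_left h1 (by norm_num)

theorem hi6 : Nat.card (SG RELS [.a, .b, .d, .i]) ≤ 24 := by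
  have h1 : 6 * Nat.card (SG RELS [.a, .b, .d, .i]) ≤ 6 * 24 :=
    le_trans s5 (le_trans hi5 (by norm_num))
  exact Nat.le_of_mul_le_mul_left h1 (by norm_num)

theorem hi7 : Nat.card (SG RELS [.b, .d, .i]) ≤ 8 := by
  have h1 : 3 * Nat.card (SG RELS [.b, .d, .i]) ≤ 3 * 8 :=
    le_trans s6 (le_trans hi6 (by norm_num))
  exact Nat.le_of_mul_le_mul_left h1 (by norm_num)

theorem hi8 : Nat.card (SG RELS [.d, .i]) ≤ 4 := by
  have h1 : 2 * Nat.card (SG RELS [.d, .i]) ≤ 2 * 4 :=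
    le_trans s7 (le_trans hi7 (by norm_num))
  exact Nat.le_of_mul_le_mul_left h1 (by norm_num)

theorem hi9 : Nat.card (SG RELS [.i]) ≤ 2 := by
  have h1 : 2 * Nat.card (SG RELS [.i]) ≤ 2 * 2 :=
    le_trans s8 (le_trans hi8 (by norm_num))
  exact Nat.le_of_mul_le_mul_left h1 (by norm_num)

theorem hi10 : Nat.card (SG RELS []) ≤ 1 := by
  have h1 : 2 * Nat.card (SG RELS []) ≤ 2 * 1 :=
    le_trans s9 (le_trans hi9 (by norm_num))
  exact Nat.le_of_mul_le_mul_left h1 (by norm_num)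

theorem tight0 : Nat.card (SG RELS [.a, .b, .c, .d, .e, .f, .g, .j, .h, .i]) ≤ 31671 * Nat.card (SG RELS [.a, .b, .c, .d, .e, .f, .g, .h, .i]) :=
  le_trans hi0 (le_trans (by norm_num : 4089470473293004800 ≤ 31671 * 129123503308800) (Nat.mul_le_mul_left _ lo1))

theorem tight1 : Nat.card (SG RELS [.a, .b, .c, .d, .e, .f, .g, .h, .i]) ≤ 28160 * Nat.card (SG RELS [.a, .b, .c, .d, .e, .f, .h, .i]) :=
  le_trans hi1 (le_trans (by norm_num : 129123503308800 ≤ 28160 * 4585351680) (Nat.mul_le_mul_left _ lo2))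

theorem tight2 : Nat.card (SG RELS [.a, .b, .c, .d, .e, .f, .h, .i]) ≤ 3159 * Nat.card (SG RELS [.a, .b, .c, .d, .e, .h, .i]) :=
  le_trans hi2 (le_trans (by norm_num : 4585351680 ≤ 3159 * 1451520) (Nat.mul_le_mul_left _ lo3))

theorem tight3 : Nat.card (SG RELS [.a, .b, .c, .d, .e, .h, .i]) ≤ 288 * Nat.card (SG RELS [.a, .b, .c, .d, .h, .i]) :=
  le_trans hi3 (le_trans (by norm_num : 1451520 ≤ 288 * 5040) (Nat.mul_le_mul_left _ lo4))

theorem tight4 : Nat.card (SG RELS [.a, .b, .c, .d, .h, .i]) ≤ 35 * Nat.card (SG RELS [.a, .b, .d, .h, .i]) :=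
  le_trans hi4 (le_trans (by norm_num : 5040 ≤ 35 * 144) (Nat.mul_le_mul_left _ lo5))

theorem tight5 : Nat.card (SG RELS [.a, .b, .d, .h, .i]) ≤ 6 * Nat.card (SG RELS [.a, .b, .d, .i]) :=
  le_trans hi5 (le_trans (by norm_num : 144 ≤ 6 * 24) (Nat.mul_le_mul_left _ lo6))

theorem tight6 : Nat.card (SG RELS [.a, .b, .d, .i]) ≤ 3 * Nat.card (SG RELS [.b, .d, .i]) :=
  le_trans hi6 (le_trans (by norm_num : 24 ≤ 3 * 8) (Nat.mul_le_mul_left _ lo7))

theorem tight7 : Nat.card (SG RELS [.b, .d, .i]) ≤ 2 * Nat.card (SG RELS [.d, .i]) :=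
  le_trans hi7 (le_trans (by norm_num : 8 ≤ 2 * 4) (Nat.mul_le_mul_left _ lo8))

theorem tight8 : Nat.card (SG RELS [.d, .i]) ≤ 2 * Nat.card (SG RELS [.i]) :=
  le_trans hi8 (le_trans (by norm_num : 4 ≤ 2 * 2) (Nat.mul_le_mul_left _ lo9))

theorem tight9 : Nat.card (SG RELS [.i]) ≤ 2 * Nat.card (SG RELS []) :=
  le_trans hi9 (le_trans (by norm_num : 2 ≤ 2 * 1) (Nat.mul_le_mul_left _ lo10))

/-- an element fixing all the base points is trivial -/
theorem eq_one_of_fix (g : PresentedGroup RELS) (h0 : rhoS1689 g (⟨0, by norm_num⟩ : Fin 31671) = (⟨0, by norm_num⟩ : Fin 31671)) (h1 : rhoS1689 g (⟨1, by norm_num⟩ : Fin 31671) = (⟨1, by norm_num⟩ : Fin 31671)) (h2 : rhoS1689 g (⟨2, by norm_num⟩ : Fin 31671) = (⟨2, by norm_num⟩ : Fin 31671)) (h3 : rhoS1689 g (⟨3, by norm_num⟩ : Fin 31671) = (⟨3, by norm_num⟩ : Fin 31671)) (h4 : rhoS1689 g (⟨178, by norm_num⟩ : Fin 31671) = (⟨178, by norm_num⟩ : Fin 31671)) (h5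 : rhoS1689 g (⟨794, by norm_num⟩ : Fin 31671) = (⟨794, by norm_num⟩ : Fin 31671)) (h6 : rhoS1689 g (⟨11, by norm_num⟩ : Fin 31671) = (⟨11, by norm_num⟩ : Fin 31671)) (h7 : rhoS1689 g (⟨6, by norm_num⟩ : Fin 31671) = (⟨6, by norm_num⟩ : Fin 31671)) (h8 : rhoS1689 g (⟨4, by norm_num⟩ : Fin 31671) = (⟨4, by norm_num⟩ : Fin 31671)) (h9 : rhoS1689 g (⟨7, by norm_num⟩ : Fin 31671) = (⟨7, by norm_num⟩ : Fin 31671)) : g = 1 := by
  have m0 : g ∈ SG RELS [.a, .b, .c, .d, .e, .f, .g, .j, .h, .i] := by rw [top_eq]; exact Subgroup.mem_top g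
  have m1 := Cfsg.Agent.Lib.Helper28_Fi23LB0.stab tight0 g m0 h0
  have m2 := Cfsg.Agent.Lib.Helper28_Fi23LB1.stab tight1 g m1 h1
  have m3 := Cfsg.Agent.Lib.Helper28_Fi23LB2.stab tight2 g m2 h2
  have m4 := Cfsg.Agent.Lib.Helper28_Fi23LB3.stab tight3 g m3 h3
  have m5 := Cfsg.Agent.Lib.Helper28_Fi23LB4.stab tight4 g m4 h4
  have m6 := Cfsg.Agent.Lib.Helper28_Fi23LB5.stab tight5 g m5 h5
  have m7 := Cfsg.Agent.Lib.Helper28_Fi23LB6.stab tight6 g m6 h6
  have m8 := Cfsg.Agent.Lib.Helper28_Fi23LB7.stab tight7 g m7 h7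
  have m9 := Cfsg.Agent.Lib.Helper28_Fi23LB8.stab tight8 g m8 h8
  have m10 := Cfsg.Agent.Lib.Helper28_Fi23LB9.stab tight9 g m9 h9
  rw [SG_nil] at m10
  exact Subgroup.mem_bot.mp m10

/-- the base offsets in the table S1689 -/
def offsS1689 : List ℕ := [0, 20, 40, 60, 3560, 15880, 220, 120, 80, 140]

/-- a word walking back to every base offset is trivial in the presented group -/
theorem mk_eq_one_of_walk (u : List (Cfsg.Spor.Fi23.Gen × Bool)) (hS1689 : ∀ x ∈ offsS1689, walk 1048575 Cfsg.Agent.Lib.Helper28_S1689.col u x = x) :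
    PresentedGroup.mk RELS (FreeGroup.mk u) = 1 := by
  apply eq_one_of_fix
  · exact psi_fix_of_walk Cfsg.Agent.Lib.Helper28_S1689.verified u (⟨0, by norm_num⟩ : Fin 31671) (hS1689 0 (by decide))
  · exact psi_fix_of_walk Cfsg.Agent.Lib.Helper28_S1689.verified u (⟨1, by norm_num⟩ : Fin 31671) (hS1689 20 (by decide))
  · exact psi_fix_of_walk Cfsg.Agent.Lib.Helper28_S1689.verified u (⟨2, by norm_num⟩ : Fin 31671) (hS1689 40 (by decide))
  · exact psi_fix_of_walk Cfsg.Agent.Lib.Helper28_S1689.verified u (⟨3, by norm_num⟩ : Fin 31671) (hS1689 60 (by decide))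
  · exact psi_fix_of_walk Cfsg.Agent.Lib.Helper28_S1689.verified u (⟨178, by norm_num⟩ : Fin 31671) (hS1689 3560 (by decide))
  · exact psi_fix_of_walk Cfsg.Agent.Lib.Helper28_S1689.verified u (⟨794, by norm_num⟩ : Fin 31671) (hS1689 15880 (by decide))
  · exact psi_fix_of_walk Cfsg.Agent.Lib.Helper28_S1689.verified u (⟨11, by norm_num⟩ : Fin 31671) (hS1689 220 (by decide))
  · exact psi_fix_of_walk Cfsg.Agent.Lib.Helper28_S1689.verified u (⟨6, by norm_num⟩ : Fin 31671) (hS1689 120 (by decide))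
  · exact psi_fix_of_walk Cfsg.Agent.Lib.Helper28_S1689.verified u (⟨4, by norm_num⟩ : Fin 31671) (hS1689 80 (by decide))
  · exact psi_fix_of_walk Cfsg.Agent.Lib.Helper28_S1689.verified u (⟨7, by norm_num⟩ : Fin 31671) (hS1689 140 (by decide))

end Cfsg.Agent.Lib.Helper28_Fi23Order
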