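import Cfsg.Agent.Lib.Helper28_Fi23c8UDef

set_option autoImplicit false
set_option linter.constructorNameAsVariable false
set_option linter.unusedVariables false
set_option Elab.async false

namespace Cfsg.Agent.Lib.Helper28_Fi23c8.U

open Cfsg.Agent.Lib.Helper28_CosetPerm

theorem r0r0 : allRange rowOk 1 0 54 = true := by decide +kernel
theorem r0u0 : ∀ k, 0 ≤ k → k < 54 → rowOk (k * 1) = true := between_extend rowOk 1 0 0 54 (between_start rowOk 1 0) r0r0

theorem r0 : ∀ k, 0 ≤ k → k < 54 → rowOk (k * 1) = true := r0u0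

end Cfsg.Agent.Lib.Helper28_Fi23c8.U
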