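import Cfsg.Agent.Lib.Helper28_S1689U
import Cfsg.Agent.Lib.Helper28_Fi23c1U
import Cfsg.Agent.Lib.Helper28_Fi23c2U
import Cfsg.Agent.Lib.Helper28_Fi23c3U
import Cfsg.Agent.Lib.Helper28_Fi23c4U
import Cfsg.Agent.Lib.Helper28_Fi23c5U
import Cfsg.Agent.Lib.Helper28_Fi23c6U
import Cfsg.Agent.Lib.Helper28_Fi23c7U
import Cfsg.Agent.Lib.Helper28_Fi23c8U

set_option autoImplicit false

namespace Cfsg.Agent.Lib.Helper28_Fi23Order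

open Cfsg.Spor Cfsg.Agent.Lib.Helper28_OrderChain Cfsg.Agent.Lib.Helper28_Fi23Chain

theorem card8 : Finite (PresentedGroup (coxRelators edges8 ∪ {r | r ∈ extra8})) ∧ Nat.card (PresentedGroup (coxRelators edges8 ∪ {r | r ∈ extra8})) ≤ 6 :=
  card_le_empty _ 6 Cfsg.Agent.Lib.Helper28_Fi23c8.U.upper

theorem hS7 : ∀ s ∈ ({Cfsg.Spor.Fi23.c, Cfsg.Spor.Fi23.d} : Set (FreeGroup Cfsg.Spor.Fi23.Gen)), ∃ x, x ∉ dropped8 ∧ s = FreeGroup.of x := by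
  intro s hs
  simp only [Set.mem_insert_iff, Set.mem_singleton_iff] at hs
  rcases hs with rfl | rfl
  · exact ⟨.c, by decide, rfl⟩
  · exact ⟨.d, by decide, rfl⟩

theorem card7 : Finite (PresentedGroup (coxRelators edges7 ∪ {r | r ∈ extra7})) ∧ Nat.card (PresentedGroup (coxRelators edges7 ∪ {r | r ∈ extra7})) ≤ 4 * 6 :=
  card_le_sub edges7 edges8 extra7 kept8 dropped8 h1_8 h2_8 h3_8 ({Cfsg.Spor.Fi23.c, Cfsg.Spor.Fi23.d} : Set (FreeGroup Cfsg.Spor.Fi23.Gen)) hS7 4 6 Cfsg.Agent.Lib.Helper28_Fi23c7.U.upper (by have := card8; norm_num at this ⊢; exact this)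

theorem hS6 : ∀ s ∈ ({Cfsg.Spor.Fi23.c, Cfsg.Spor.Fi23.d, Cfsg.Spor.Fi23.e} : Set (FreeGroup Cfsg.Spor.Fi23.Gen)), ∃ x, x ∉ dropped7 ∧ s = FreeGroup.of x := by
  intro s hs
  simp only [Set.mem_insert_iff, Set.mem_singleton_iff] at hs
  rcases hs with rfl | rfl | rfl
  · exact ⟨.c, by decide, rfl⟩
  · exact ⟨.d, by decide, rfl⟩
  · exact ⟨.e, by decide, rfl⟩

theorem card6 : Finite (PresentedGroup (coxRelators edges6 ∪ {r | r ∈ extra6})) ∧ Nat.card (PresentedGroup (coxRelators edges6 ∪ {r | r ∈ extra6})) ≤ 5 * 24 :=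
  card_le_sub edges6 edges7 extra6 kept7 dropped7 h1_7 h2_7 h3_7 ({Cfsg.Spor.Fi23.c, Cfsg.Spor.Fi23.d, Cfsg.Spor.Fi23.e} : Set (FreeGroup Cfsg.Spor.Fi23.Gen)) hS6 5 24 Cfsg.Agent.Lib.Helper28_Fi23c6.U.upper (by have := card7; norm_num at this ⊢; exact this)

theorem hS5 : ∀ s ∈ ({Cfsg.Spor.Fi23.c, Cfsg.Spor.Fi23.d, Cfsg.Spor.Fi23.e, Cfsg.Spor.Fi23.f} : Set (FreeGroup Cfsg.Spor.Fi23.Gen)), ∃ x, x ∉ dropped6 ∧ s = FreeGroup.of x := by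
  intro s hs
  simp only [Set.mem_insert_iff, Set.mem_singleton_iff] at hs
  rcases hs with rfl | rfl | rfl | rfl
  · exact ⟨.c, by decide, rfl⟩
  · exact ⟨.d, by decide, rfl⟩
  · exact ⟨.e, by decide, rfl⟩
  · exact ⟨.f, by decide, rfl⟩

theorem card5 : Finite (PresentedGroup (coxRelators edges5 ∪ {r | r ∈ extra5})) ∧ Nat.card (PresentedGroup (coxRelators edges5 ∪ {r | r ∈ extra5})) ≤ 16 * 120 :=
  card_le_sub edges5 edges6 extra5 kept6 dropped6 h1_6 h2_6 h3_6 ({Cfsg.Spor.Fi23.c, Cfsg.Spor.Fi23.d, Cfsg.Spor.Fi23.e, Cfsg.Spor.Fi23.f} : Set (FreeGroup Cfsg.Spor.Fi23.Gen)) hS5 16 120 Cfsg.Agent.Lib.Helper28_Fi23c5.U.upper (by have := card6; norm_num at this ⊢; exact this)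

theorem hS4 : ∀ s ∈ ({Cfsg.Spor.Fi23.c, Cfsg.Spor.Fi23.d, Cfsg.Spor.Fi23.e, Cfsg.Spor.Fi23.f, Cfsg.Spor.Fi23.h} : Set (FreeGroup Cfsg.Spor.Fi23.Gen)), ∃ x, x ∉ dropped5 ∧ s = FreeGroup.of x := by
  intro s hs
  simp only [Set.mem_insert_iff, Set.mem_singleton_iff] at hs
  rcases hs with rfl | rfl | rfl | rfl | rfl
  · exact ⟨.c, by decide, rfl⟩
  · exact ⟨.d, by decide, rfl⟩
  · exact ⟨.e, by decide, rfl⟩
  · exact ⟨.f, by decide, rfl⟩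
  · exact ⟨.h, by decide, rfl⟩

theorem card4 : Finite (PresentedGroup (coxRelators edges4 ∪ {r | r ∈ extra4})) ∧ Nat.card (PresentedGroup (coxRelators edges4 ∪ {r | r ∈ extra4})) ≤ 27 * 1920 :=
  card_le_sub edges4 edges5 extra4 kept5 dropped5 h1_5 h2_5 h3_5 ({Cfsg.Spor.Fi23.c, Cfsg.Spor.Fi23.d, Cfsg.Spor.Fi23.e, Cfsg.Spor.Fi23.f, Cfsg.Spor.Fi23.h} : Set (FreeGroup Cfsg.Spor.Fi23.Gen)) hS4 27 1920 Cfsg.Agent.Lib.Helper28_Fi23c4.U.upper (by have := card5; norm_num at this ⊢; exact this)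

theorem hS3 : ∀ s ∈ ({Cfsg.Spor.Fi23.b, Cfsg.Spor.Fi23.c, Cfsg.Spor.Fi23.d, Cfsg.Spor.Fi23.e, Cfsg.Spor.Fi23.f, Cfsg.Spor.Fi23.h} : Set (FreeGroup Cfsg.Spor.Fi23.Gen)), ∃ x, x ∉ dropped4 ∧ s = FreeGroup.of x := by
  intro s hs
  simp only [Set.mem_insert_iff, Set.mem_singleton_iff] at hs
  rcases hs with rfl | rfl | rfl | rfl | rfl | rfl
  · exact ⟨.b, by decide, rfl⟩
  · exact ⟨.c, by decide, rfl⟩
  · exact ⟨.d, by decide, rfl⟩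
  · exact ⟨.e, by decide, rfl⟩
  · exact ⟨.f, by decide, rfl⟩
  · exact ⟨.h, by decide, rfl⟩

theorem card3 : Finite (PresentedGroup (coxRelators edges3 ∪ {r | r ∈ extra3})) ∧ Nat.card (PresentedGroup (coxRelators edges3 ∪ {r | r ∈ extra3})) ≤ 56 * 51840 :=
  card_le_sub edges3 edges4 extra3 kept4 dropped4 h1_4 h2_4 h3_4 ({Cfsg.Spor.Fi23.b, Cfsg.Spor.Fi23.c, Cfsg.Spor.Fi23.d, Cfsg.Spor.Fi23.e, Cfsg.Spor.Fi23.f, Cfsg.Spor.Fi23.h} : Set (FreeGroup Cfsg.Spor.Fi23.Gen)) hS3 56 51840 Cfsg.Agent.Lib.Helper28_Fi23c3.U.upper (by have := card4; norm_num at this ⊢; exact this)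

theorem hS2 : ∀ s ∈ ({Cfsg.Spor.Fi23.b, Cfsg.Spor.Fi23.c, Cfsg.Spor.Fi23.d, Cfsg.Spor.Fi23.e, Cfsg.Spor.Fi23.f, Cfsg.Spor.Fi23.g, Cfsg.Spor.Fi23.h} : Set (FreeGroup Cfsg.Spor.Fi23.Gen)), ∃ x, x ∉ dropped3 ∧ s = FreeGroup.of x := by
  intro s hs
  simp only [Set.mem_insert_iff, Set.mem_singleton_iff] at hs
  rcases hs with rfl | rfl | rfl | rfl | rfl | rfl | rfl
  · exact ⟨.b, by decide, rfl⟩
  · exact ⟨.c, by decide, rfl⟩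
  · exact ⟨.d, by decide, rfl⟩
  · exact ⟨.e, by decide, rfl⟩
  · exact ⟨.f, by decide, rfl⟩
  · exact ⟨.g, by decide, rfl⟩
  · exact ⟨.h, by decide, rfl⟩

theorem card2 : Finite (PresentedGroup (coxRelators edges2 ∪ {r | r ∈ extra2})) ∧ Nat.card (PresentedGroup (coxRelators edges2 ∪ {r | r ∈ extra2})) ≤ 3159 * 2903040 :=
  card_le_sub edges2 edges3 extra2 kept3 dropped3 h1_3 h2_3 h3_3 ({Cfsg.Spor.Fi23.b, Cfsg.Spor.Fi23.c, Cfsg.Spor.Fi23.d, Cfsg.Spor.Fi23.e, Cfsg.Spor.Fi23.f, Cfsg.Spor.Fi23.g, Cfsg.Spor.Fi23.h} : Set (FreeGroup Cfsg.Spor.Fi23.Gen)) hS2 3159 2903040 Cfsg.Agent.Lib.Helper28_Fi23c2.U.upper (by have := card3; norm_num at this ⊢; exact this)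

theorem hS1 : ∀ s ∈ ({Cfsg.Spor.Fi23.b, Cfsg.Spor.Fi23.c, Cfsg.Spor.Fi23.d, Cfsg.Spor.Fi23.e, Cfsg.Spor.Fi23.f, Cfsg.Spor.Fi23.g, Cfsg.Spor.Fi23.h, Cfsg.Spor.Fi23.i} : Set (FreeGroup Cfsg.Spor.Fi23.Gen)), ∃ x, x ∉ dropped2 ∧ s = FreeGroup.of x := by
  intro s hs
  simp only [Set.mem_insert_iff, Set.mem_singleton_iff] at hs
  rcases hs with rfl | rfl | rfl | rfl | rfl | rfl | rfl | rfl
  · exact ⟨.b, by decide, rfl⟩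
  · exact ⟨.c, by decide, rfl⟩
  · exact ⟨.d, by decide, rfl⟩
  · exact ⟨.e, by decide, rfl⟩
  · exact ⟨.f, by decide, rfl⟩
  · exact ⟨.g, by decide, rfl⟩
  · exact ⟨.h, by decide, rfl⟩
  · exact ⟨.i, by decide, rfl⟩

theorem card1 : Finite (PresentedGroup (coxRelators edges1 ∪ {r | r ∈ extra1})) ∧ Nat.card (PresentedGroup (coxRelators edges1 ∪ {r | r ∈ extra1})) ≤ 14080 * 9170703360 :=
  card_le_sub edges1 edges2 extra1 kept2 dropped2 h1_2 h2_2 h3_2 ({Cfsg.Spor.Fi23.b, Cfsg.Spor.Fi23.c, Cfsg.Spor.Fi23.d, Cfsg.Spor.Fi23.e, Cfsg.Spor.Fi23.f, Cfsg.Spor.Fi23.g, Cfsg.Spor.Fi23.h, Cfsg.Spor.Fi23.i} : Set (FreeGroup Cfsg.Spor.Fi23.Gen)) hS1 14080 9170703360 Cfsg.Agent.Lib.Helper28_Fi23c1.U.upper (by have := card2; norm_num at this ⊢; exact this)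

theorem hS0 : ∀ s ∈ ({Cfsg.Spor.Fi23.a, Cfsg.Spor.Fi23.b, Cfsg.Spor.Fi23.c, Cfsg.Spor.Fi23.d, Cfsg.Spor.Fi23.e, Cfsg.Spor.Fi23.f, Cfsg.Spor.Fi23.g, Cfsg.Spor.Fi23.h, Cfsg.Spor.Fi23.i} : Set (FreeGroup Cfsg.Spor.Fi23.Gen)), ∃ x, x ∉ dropped1 ∧ s = FreeGroup.of x := by
  intro s hs
  simp only [Set.mem_insert_iff, Set.mem_singleton_iff] at hs
  rcases hs with rfl | rfl | rfl | rfl | rfl | rfl | rfl | rfl | rfl
  · exact ⟨.a, by decide, rfl⟩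
  · exact ⟨.b, by decide, rfl⟩
  · exact ⟨.c, by decide, rfl⟩
  · exact ⟨.d, by decide, rfl⟩
  · exact ⟨.e, by decide, rfl⟩
  · exact ⟨.f, by decide, rfl⟩
  · exact ⟨.g, by decide, rfl⟩
  · exact ⟨.h, by decide, rfl⟩
  · exact ⟨.i, by decide, rfl⟩

theorem card0 : Finite (PresentedGroup (coxRelators Cfsg.Spor.Fi23.edges ∪ {r | r ∈ Cfsg.Spor.Fi23.extra})) ∧ Nat.card (PresentedGroup (coxRelators Cfsg.Spor.Fi23.edges ∪ {r | r ∈ Cfsg.Spor.Fi23.extra})) ≤ 31671 * 129123503308800 :=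
  card_le_sub Cfsg.Spor.Fi23.edges edges1 Cfsg.Spor.Fi23.extra kept1 dropped1 h1_1 h2_1 h3_1 ({Cfsg.Spor.Fi23.a, Cfsg.Spor.Fi23.b, Cfsg.Spor.Fi23.c, Cfsg.Spor.Fi23.d, Cfsg.Spor.Fi23.e, Cfsg.Spor.Fi23.f, Cfsg.Spor.Fi23.g, Cfsg.Spor.Fi23.h, Cfsg.Spor.Fi23.i} : Set (FreeGroup Cfsg.Spor.Fi23.Gen)) hS0 31671 129123503308800 Cfsg.Agent.Lib.Helper28_S1689.U.upper (by have := card1; norm_num at this ⊢; exact this)

/-- the upper bound for the order -/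
theorem card_le : Finite (Cfsg.Spor.Fi23) ∧ Nat.card (Cfsg.Spor.Fi23) ≤ 4089470473293004800 := by
  have := card0
  norm_num at this ⊢
  exact this

end Cfsg.Agent.Lib.Helper28_Fi23Order
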