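import Cfsg.Agent.Lib.Helper28_CosetUpCox
import Cfsg.Agent.Lib.Helper28_CosetPerm
import Cfsg.Agent.Lib.Helper28_Fi23c2UTab0
import Cfsg.Agent.Lib.Helper28_Fi23Chain

set_option autoImplicit false
set_option linter.constructorNameAsVariable false
set_option linter.unusedVariables false
set_option Elab.async false

namespace Cfsg.Agent.Lib.Helper28_Fi23c2.U

open Cfsg.Spor Cfsg.Agent.Lib.Helper28_CosetUp Cfsg.Agent.Lib.Helper28_CosetUpCox Cfsg.Agent.Lib.Helper28_Fi23c2UTab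

def factBlk_n0_0 (i : ℕ) : ℕ := (@Bool.rec (fun _ => ℕ) (@Bool.rec (fun _ => ℕ) (@Bool.rec (fun _ => ℕ) (@Bool.rec (fun _ => ℕ) (@Bool.rec (fun _ => ℕ) fb0 fb1 (Nat.ble (nat_lit 1) i)) (@Bool.rec (fun _ => ℕ) fb2 fb3 (Nat.ble (nat_lit 3) i)) (Nat.ble (nat_lit 2) i)) (@Bool.rec (fun _ => ℕ) (@Bool.rec (fun _ => ℕ) fb4 fb5 (Nat.ble (nat_lit 5) i)) (@Bool.rec (fun _ => ℕ) fb6 fb7 (Nat.ble (nat_lit 7) i)) (Nat.ble (nat_lit 6) i)) (Nat.ble (nat_lit 4) i)) (@Bool.rec (fun _ => ℕ) (@Bool.rec (fun _ => ℕ) (@Bool.rec (fun _ => ℕ) fb8 fb9 (Nat.ble (nat_lit 9) i)) (@Bool.rec (fun _ => ℕ) fb10 fb11 (Nat.ble (nat_lit 11) i)) (Nat.ble (nat_lit 10) i)) (@Bool.rec (fun _ => ℕ) (@Bool.rec (fun _ => ℕ) fb12 fb13 (Nat.ble (nat_lit 13) i)) (@Bool.rec (fun _ => ℕ) fb14 fb15 (Nat.ble (nat_lit 15) i)) (Nat.ble (nat_lit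 14) i)) (Nat.ble (nat_lit 12) i)) (Nat.ble (nat_lit 8) i)) (@Bool.rec (fun _ => ℕ) (@Bool.rec (fun _ => ℕ) (@Bool.rec (fun _ => ℕ) (@Bool.rec (fun _ => ℕ) fb16 fb17 (Nat.ble (nat_lit 17) i)) (@Bool.rec (fun _ => ℕ) fb18 fb19 (Nat.ble (nat_lit 19) i)) (Nat.ble (nat_lit 18) i)) (@Bool.rec (fun _ => ℕ) (@Bool.rec (fun _ => ℕ) fb20 fb21 (Nat.ble (nat_lit 21) i)) (@Bool.rec (fun _ => ℕ) fb22 fb23 (Nat.ble (nat_lit 23) i)) (Nat.ble (nat_lit 22) i)) (Nat.ble (nat_lit 20) i)) (@Bool.rec (fun _ => ℕ) (@Bool.rec (fun _ => ℕ) (@Bool.rec (fun _ => ℕ) fb24 fb25 (Nat.ble (nat_lit 25) i)) (@Bool.rec (fun _ => ℕ) fb26 fb27 (Nat.ble (nat_lit 27) i)) (Nat.ble (nat_lit 26) i)) (@Bool.rec (fun _ => ℕ) (@Bool.rec (fun _ => ℕ) fb28 fb29 (Nat.ble (nat_lit 29) i)) (@Bool.rec (fun _ => ℕ) fb30 fb31 (Nat.ble (nat_lit 31) i))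 (Nat.ble (nat_lit 30) i)) (Nat.ble (nat_lit 28) i)) (Nat.ble (nat_lit 24) i)) (Nat.ble (nat_lit 16) i))

def factBlk_n0_1 (i : ℕ) : ℕ := (@Bool.rec (fun _ => ℕ) (@Bool.rec (fun _ => ℕ) (@Bool.rec (fun _ => ℕ) (@Bool.rec (fun _ => ℕ) (@Bool.rec (fun _ => ℕ) fb32 fb33 (Nat.ble (nat_lit 33) i)) (@Bool.rec (fun _ => ℕ) fb34 fb35 (Nat.ble (nat_lit 35) i)) (Nat.ble (nat_lit 34) i)) (@Bool.rec (fun _ => ℕ) (@Bool.rec (fun _ => ℕ) fb36 fb37 (Nat.ble (nat_lit 37) i)) (@Bool.rec (fun _ => ℕ) fb38 fb39 (Nat.ble (nat_lit 39) i)) (Nat.ble (nat_lit 38) i)) (Nat.ble (nat_lit 36) i)) (@Bool.rec (fun _ => ℕ) (@Bool.rec (fun _ => ℕ) (@Bool.rec (fun _ => ℕ) fb40 fb41 (Nat.ble (nat_lit 41) i)) (@Bool.rec (fun _ => ℕ) fb42 fb43 (Nat.ble (nat_lit 43) i)) (Nat.ble (nat_lit 42) i)) (@Bool.rec (fun _ => ℕ) (@Bool.rec (fun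 _ => ℕ) fb44 fb45 (Nat.ble (nat_lit 45) i)) (@Bool.rec (fun _ => ℕ) fb46 fb47 (Nat.ble (nat_lit 47) i)) (Nat.ble (nat_lit 46) i)) (Nat.ble (nat_lit 44) i)) (Nat.ble (nat_lit 40) i)) (@Bool.rec (fun _ => ℕ) (@Bool.rec (fun _ => ℕ) (@Bool.rec (fun _ => ℕ) (@Bool.rec (fun _ => ℕ) fb48 fb49 (Nat.ble (nat_lit 49) i)) (@Bool.rec (fun _ => ℕ) fb50 fb51 (Nat.ble (nat_lit 51) i)) (Nat.ble (nat_lit 50) i)) (@Bool.rec (fun _ => ℕ) (@Bool.rec (fun _ => ℕ) fb52 fb53 (Nat.ble (nat_lit 53) i)) (@Bool.rec (fun _ => ℕ) fb54 fb55 (Nat.ble (nat_lit 55) i)) (Nat.ble (nat_lit 54) i)) (Nat.ble (nat_lit 52) i)) (@Bool.rec (fun _ => ℕ) (@Bool.rec (fun _ => ℕ) (@Bool.rec (fun _ => ℕ) fb56 fb57 (Nat.ble (nat_lit 57) i)) (@Bool.rec (fun _ => ℕ) fb58 fb59 (Nat.ble (nat_lit 59) i)) (Nat.ble (nat_lit 58) i)) (@Bool.rec (fun _ =>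 ℕ) (@Bool.rec (fun _ => ℕ) fb60 fb61 (Nat.ble (nat_lit 61) i)) (@Bool.rec (fun _ => ℕ) fb62 fb63 (Nat.ble (nat_lit 63) i)) (Nat.ble (nat_lit 62) i)) (Nat.ble (nat_lit 60) i)) (Nat.ble (nat_lit 56) i)) (Nat.ble (nat_lit 48) i))

def factBlk_n0_2 (i : ℕ) : ℕ := (@Bool.rec (fun _ => ℕ) (@Bool.rec (fun _ => ℕ) (@Bool.rec (fun _ => ℕ) (@Bool.rec (fun _ => ℕ) (@Bool.rec (fun _ => ℕ) fb64 fb65 (Nat.ble (nat_lit 65) i)) (@Bool.rec (fun _ => ℕ) fb66 fb67 (Nat.ble (nat_lit 67) i)) (Nat.ble (nat_lit 66) i)) (@Bool.rec (fun _ => ℕ) (@Bool.rec (fun _ => ℕ) fb68 fb69 (Nat.ble (nat_lit 69) i)) (@Bool.rec (fun _ => ℕ) fb70 fb71 (Nat.ble (nat_lit 71) i)) (Nat.ble (nat_lit 70) i)) (Nat.ble (nat_lit 68) i)) (@Bool.rec (fun _ => ℕ) (@Bool.rec (fun _ => ℕ) (@Bool.rec (fun _ => ℕ) fb72 fb73 (Nat.ble (nat_lit 73) i)) (@Bool.rec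 (fun _ => ℕ) fb74 fb75 (Nat.ble (nat_lit 75) i)) (Nat.ble (nat_lit 74) i)) (@Bool.rec (fun _ => ℕ) (@Bool.rec (fun _ => ℕ) fb76 fb77 (Nat.ble (nat_lit 77) i)) (@Bool.rec (fun _ => ℕ) fb78 fb79 (Nat.ble (nat_lit 79) i)) (Nat.ble (nat_lit 78) i)) (Nat.ble (nat_lit 76) i)) (Nat.ble (nat_lit 72) i)) (@Bool.rec (fun _ => ℕ) (@Bool.rec (fun _ => ℕ) (@Bool.rec (fun _ => ℕ) (@Bool.rec (fun _ => ℕ) fb80 fb81 (Nat.ble (nat_lit 81) i)) (@Bool.rec (fun _ => ℕ) fb82 fb83 (Nat.ble (nat_lit 83) i)) (Nat.ble (nat_lit 82) i)) (@Bool.rec (fun _ => ℕ) (@Bool.rec (fun _ => ℕ) fb84 fb85 (Nat.ble (nat_lit 85) i)) (@Bool.rec (fun _ => ℕ) fb86 fb87 (Nat.ble (nat_lit 87) i)) (Nat.ble (nat_lit 86) i)) (Nat.ble (nat_lit 84) i)) (@Bool.rec (fun _ => ℕ) (@Bool.rec (fun _ => ℕ) (@Bool.rec (fun _ => ℕ) fb88 fb89 (Nat.ble (nat_lit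 89) i)) (@Bool.rec (fun _ => ℕ) fb90 fb91 (Nat.ble (nat_lit 91) i)) (Nat.ble (nat_lit 90) i)) (@Bool.rec (fun _ => ℕ) (@Bool.rec (fun _ => ℕ) fb92 fb93 (Nat.ble (nat_lit 93) i)) (@Bool.rec (fun _ => ℕ) fb94 fb95 (Nat.ble (nat_lit 95) i)) (Nat.ble (nat_lit 94) i)) (Nat.ble (nat_lit 92) i)) (Nat.ble (nat_lit 88) i)) (Nat.ble (nat_lit 80) i))

def factBlk_n0_3 (i : ℕ) : ℕ := (@Bool.rec (fun _ => ℕ) (@Bool.rec (fun _ => ℕ) (@Bool.rec (fun _ => ℕ) (@Bool.rec (fun _ => ℕ) (@Bool.rec (fun _ => ℕ) fb96 fb97 (Nat.ble (nat_lit 97) i)) (@Bool.rec (fun _ => ℕ) fb98 fb99 (Nat.ble (nat_lit 99) i)) (Nat.ble (nat_lit 98) i)) (@Bool.rec (fun _ => ℕ) (@Bool.rec (fun _ => ℕ) fb100 fb101 (Nat.ble (nat_lit 101) i)) (@Bool.rec (fun _ => ℕ) fb102 fb103 (Nat.ble (nat_lit 103) i)) (Nat.ble (nat_lit 102) i)) (Nat.ble (nat_lit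 100) i)) (@Bool.rec (fun _ => ℕ) (@Bool.rec (fun _ => ℕ) (@Bool.rec (fun _ => ℕ) fb104 fb105 (Nat.ble (nat_lit 105) i)) (@Bool.rec (fun _ => ℕ) fb106 fb107 (Nat.ble (nat_lit 107) i)) (Nat.ble (nat_lit 106) i)) (@Bool.rec (fun _ => ℕ) (@Bool.rec (fun _ => ℕ) fb108 fb109 (Nat.ble (nat_lit 109) i)) (@Bool.rec (fun _ => ℕ) fb110 fb111 (Nat.ble (nat_lit 111) i)) (Nat.ble (nat_lit 110) i)) (Nat.ble (nat_lit 108) i)) (Nat.ble (nat_lit 104) i)) (@Bool.rec (fun _ => ℕ) (@Bool.rec (fun _ => ℕ) (@Bool.rec (fun _ => ℕ) (@Bool.rec (fun _ => ℕ) fb112 fb113 (Nat.ble (nat_lit 113) i)) (@Bool.rec (fun _ => ℕ) fb114 fb115 (Nat.ble (nat_lit 115) i)) (Nat.ble (nat_lit 114) i)) (@Bool.rec (fun _ => ℕ) (@Bool.rec (fun _ => ℕ) fb116 fb117 (Nat.ble (nat_lit 117) i)) (@Bool.rec (fun _ => ℕ) fb118 fb119 (Nat.ble (nat_lit 119)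 i)) (Nat.ble (nat_lit 118) i)) (Nat.ble (nat_lit 116) i)) (@Bool.rec (fun _ => ℕ) (@Bool.rec (fun _ => ℕ) (@Bool.rec (fun _ => ℕ) fb120 fb121 (Nat.ble (nat_lit 121) i)) (@Bool.rec (fun _ => ℕ) fb122 fb123 (Nat.ble (nat_lit 123) i)) (Nat.ble (nat_lit 122) i)) (@Bool.rec (fun _ => ℕ) (@Bool.rec (fun _ => ℕ) fb124 fb125 (Nat.ble (nat_lit 125) i)) (@Bool.rec (fun _ => ℕ) fb126 fb127 (Nat.ble (nat_lit 127) i)) (Nat.ble (nat_lit 126) i)) (Nat.ble (nat_lit 124) i)) (Nat.ble (nat_lit 120) i)) (Nat.ble (nat_lit 112) i))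

def factBlk_n0_4 (i : ℕ) : ℕ := (@Bool.rec (fun _ => ℕ) (@Bool.rec (fun _ => ℕ) (@Bool.rec (fun _ => ℕ) (@Bool.rec (fun _ => ℕ) (@Bool.rec (fun _ => ℕ) fb128 fb129 (Nat.ble (nat_lit 129) i)) (@Bool.rec (fun _ => ℕ) fb130 fb131 (Nat.ble (nat_lit 131) i)) (Nat.ble (nat_lit 130) i)) (@Bool.rec (fun _ => ℕ) (@Bool.rec (fun _ => ℕ) fb132 fb133 (Nat.ble (nat_lit 133) i)) (@Bool.rec (fun _ => ℕ) fb134 fb135 (Nat.ble (nat_lit 135) i)) (Nat.ble (nat_lit 134) i)) (Nat.ble (nat_lit 132) i)) (@Bool.rec (fun _ => ℕ) (@Bool.rec (fun _ => ℕ) (@Bool.rec (fun _ => ℕ) fb136 fb137 (Nat.ble (nat_lit 137) i)) (@Bool.rec (fun _ => ℕ) fb138 fb139 (Nat.ble (nat_lit 139) i)) (Nat.ble (nat_lit 138) i)) (@Bool.rec (fun _ => ℕ) (@Bool.rec (fun _ => ℕ) fb140 fb141 (Nat.ble (nat_lit 141) i)) (@Bool.rec (fun _ => ℕ) fb142 fb143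 (Nat.ble (nat_lit 143) i)) (Nat.ble (nat_lit 142) i)) (Nat.ble (nat_lit 140) i)) (Nat.ble (nat_lit 136) i)) (@Bool.rec (fun _ => ℕ) (@Bool.rec (fun _ => ℕ) (@Bool.rec (fun _ => ℕ) (@Bool.rec (fun _ => ℕ) fb144 fb145 (Nat.ble (nat_lit 145) i)) (@Bool.rec (fun _ => ℕ) fb146 fb147 (Nat.ble (nat_lit 147) i)) (Nat.ble (nat_lit 146) i)) (@Bool.rec (fun _ => ℕ) (@Bool.rec (fun _ => ℕ) fb148 fb149 (Nat.ble (nat_lit 149) i)) (@Bool.rec (fun _ => ℕ) fb150 fb151 (Nat.ble (nat_lit 151) i)) (Nat.ble (nat_lit 150) i)) (Nat.ble (nat_lit 148) i)) (@Bool.rec (fun _ => ℕ) (@Bool.rec (fun _ => ℕ) (@Bool.rec (fun _ => ℕ) fb152 fb153 (Nat.ble (nat_lit 153) i)) (@Bool.rec (fun _ => ℕ) fb154 fb155 (Nat.ble (nat_lit 155) i)) (Nat.ble (nat_lit 154) i)) (@Bool.rec (fun _ => ℕ) (@Bool.rec (fun _ => ℕ) fb156 fb157 (Nat.ble (nat_lit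 157) i)) (@Bool.rec (fun _ => ℕ) fb158 fb159 (Nat.ble (nat_lit 159) i)) (Nat.ble (nat_lit 158) i)) (Nat.ble (nat_lit 156) i)) (Nat.ble (nat_lit 152) i)) (Nat.ble (nat_lit 144) i))

def factBlk_n0_5 (i : ℕ) : ℕ := (@Bool.rec (fun _ => ℕ) (@Bool.rec (fun _ => ℕ) (@Bool.rec (fun _ => ℕ) (@Bool.rec (fun _ => ℕ) fb160 (@Bool.rec (fun _ => ℕ) fb161 fb162 (Nat.ble (nat_lit 162) i)) (Nat.ble (nat_lit 161) i)) (@Bool.rec (fun _ => ℕ) fb163 (@Bool.rec (fun _ => ℕ) fb164 fb165 (Nat.ble (nat_lit 165) i)) (Nat.ble (nat_lit 164) i)) (Nat.ble (nat_lit 163) i)) (@Bool.rec (fun _ => ℕ) (@Bool.rec (fun _ => ℕ) fb166 (@Bool.rec (fun _ => ℕ) fb167 fb168 (Nat.ble (nat_lit 168) i)) (Nat.ble (nat_lit 167) i)) (@Bool.rec (fun _ => ℕ) fb169 (@Bool.rec (fun _ => ℕ) fb170 fb171 (Nat.ble (nat_lit 171) i)) (Nat.ble (nat_lit 170)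 i)) (Nat.ble (nat_lit 169) i)) (Nat.ble (nat_lit 166) i)) (@Bool.rec (fun _ => ℕ) (@Bool.rec (fun _ => ℕ) (@Bool.rec (fun _ => ℕ) fb172 (@Bool.rec (fun _ => ℕ) fb173 fb174 (Nat.ble (nat_lit 174) i)) (Nat.ble (nat_lit 173) i)) (@Bool.rec (fun _ => ℕ) fb175 (@Bool.rec (fun _ => ℕ) fb176 fb177 (Nat.ble (nat_lit 177) i)) (Nat.ble (nat_lit 176) i)) (Nat.ble (nat_lit 175) i)) (@Bool.rec (fun _ => ℕ) (@Bool.rec (fun _ => ℕ) fb178 (@Bool.rec (fun _ => ℕ) fb179 fb180 (Nat.ble (nat_lit 180) i)) (Nat.ble (nat_lit 179) i)) (@Bool.rec (fun _ => ℕ) (@Bool.rec (fun _ => ℕ) fb181 fb182 (Nat.ble (nat_lit 182) i)) (@Bool.rec (fun _ => ℕ) fb183 fb184 (Nat.ble (nat_lit 184) i)) (Nat.ble (nat_lit 183) i)) (Nat.ble (nat_lit 181) i)) (Nat.ble (nat_lit 178) i)) (Nat.ble (nat_lit 172) i))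

def factBlk (i : ℕ) : ℕ := (@Bool.rec (fun _ => ℕ) (@Bool.rec (fun _ => ℕ) (factBlk_n0_0 i) (@Bool.rec (fun _ => ℕ) (factBlk_n0_1 i) (factBlk_n0_2 i) (Nat.ble (nat_lit 64) i)) (Nat.ble (nat_lit 32) i)) (@Bool.rec (fun _ => ℕ) (factBlk_n0_3 i) (@Bool.rec (fun _ => ℕ) (factBlk_n0_4 i) (factBlk_n0_5 i) (Nat.ble (nat_lit 160) i)) (Nat.ble (nat_lit 128) i)) (Nat.ble (nat_lit 96) i))

def certBlk_n0_0 (i : ℕ) : ℕ := (@Bool.rec (fun _ => ℕ) (@Bool.rec (fun _ => ℕ) (@Bool.rec (fun _ => ℕ) (@Bool.rec (fun _ => ℕ) (@Bool.rec (fun _ => ℕ) cb0 cb1 (Nat.ble (nat_lit 1) i)) (@Bool.rec (fun _ => ℕ) cb2 cb3 (Nat.ble (nat_lit 3) i)) (Nat.ble (nat_lit 2) i)) (@Bool.rec (fun _ => ℕ) (@Bool.rec (fun _ => ℕ) cb4 cb5 (Nat.ble (nat_lit 5) i)) (@Bool.rec (fun _ => ℕ) cb6 cb7 (Nat.ble (nat_lit 7) i)) (Nat.ble (nat_lit 6)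 i)) (Nat.ble (nat_lit 4) i)) (@Bool.rec (fun _ => ℕ) (@Bool.rec (fun _ => ℕ) (@Bool.rec (fun _ => ℕ) cb8 cb9 (Nat.ble (nat_lit 9) i)) (@Bool.rec (fun _ => ℕ) cb10 cb11 (Nat.ble (nat_lit 11) i)) (Nat.ble (nat_lit 10) i)) (@Bool.rec (fun _ => ℕ) (@Bool.rec (fun _ => ℕ) cb12 cb13 (Nat.ble (nat_lit 13) i)) (@Bool.rec (fun _ => ℕ) cb14 cb15 (Nat.ble (nat_lit 15) i)) (Nat.ble (nat_lit 14) i)) (Nat.ble (nat_lit 12) i)) (Nat.ble (nat_lit 8) i)) (@Bool.rec (fun _ => ℕ) (@Bool.rec (fun _ => ℕ) (@Bool.rec (fun _ => ℕ) (@Bool.rec (fun _ => ℕ) cb16 cb17 (Nat.ble (nat_lit 17) i)) (@Bool.rec (fun _ => ℕ) cb18 cb19 (Nat.ble (nat_lit 19) i)) (Nat.ble (nat_lit 18) i)) (@Bool.rec (fun _ => ℕ) (@Bool.rec (fun _ => ℕ) cb20 cb21 (Nat.ble (nat_lit 21) i)) (@Bool.rec (fun _ => ℕ) cb22 cb23 (Nat.ble (nat_lit 23) i)) (Nat.ble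 (nat_lit 22) i)) (Nat.ble (nat_lit 20) i)) (@Bool.rec (fun _ => ℕ) (@Bool.rec (fun _ => ℕ) (@Bool.rec (fun _ => ℕ) cb24 cb25 (Nat.ble (nat_lit 25) i)) (@Bool.rec (fun _ => ℕ) cb26 cb27 (Nat.ble (nat_lit 27) i)) (Nat.ble (nat_lit 26) i)) (@Bool.rec (fun _ => ℕ) (@Bool.rec (fun _ => ℕ) cb28 cb29 (Nat.ble (nat_lit 29) i)) (@Bool.rec (fun _ => ℕ) cb30 cb31 (Nat.ble (nat_lit 31) i)) (Nat.ble (nat_lit 30) i)) (Nat.ble (nat_lit 28) i)) (Nat.ble (nat_lit 24) i)) (Nat.ble (nat_lit 16) i))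

def certBlk_n0_1 (i : ℕ) : ℕ := (@Bool.rec (fun _ => ℕ) (@Bool.rec (fun _ => ℕ) (@Bool.rec (fun _ => ℕ) (@Bool.rec (fun _ => ℕ) (@Bool.rec (fun _ => ℕ) cb32 cb33 (Nat.ble (nat_lit 33) i)) (@Bool.rec (fun _ => ℕ) cb34 cb35 (Nat.ble (nat_lit 35) i)) (Nat.ble (nat_lit 34) i)) (@Bool.rec (fun _ => ℕ) (@Bool.rec (fun _ => ℕ) cb36 cb37 (Nat.ble (nat_lit 37) i)) (@Bool.rec (fun _ => ℕ) cb38 cb39 (Nat.ble (nat_lit 39) i)) (Nat.ble (nat_lit 38) i)) (Nat.ble (nat_lit 36) i)) (@Bool.rec (fun _ => ℕ) (@Bool.rec (fun _ => ℕ) (@Bool.rec (fun _ => ℕ) cb40 cb41 (Nat.ble (nat_lit 41) i)) (@Bool.rec (fun _ => ℕ) cb42 cb43 (Nat.ble (nat_lit 43) i)) (Nat.ble (nat_lit 42) i)) (@Bool.rec (fun _ => ℕ) (@Bool.rec (fun _ => ℕ) cb44 cb45 (Nat.ble (nat_lit 45) i)) (@Bool.rec (fun _ => ℕ) cb46 cb47 (Nat.ble (nat_lit 47) i))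 (Nat.ble (nat_lit 46) i)) (Nat.ble (nat_lit 44) i)) (Nat.ble (nat_lit 40) i)) (@Bool.rec (fun _ => ℕ) (@Bool.rec (fun _ => ℕ) (@Bool.rec (fun _ => ℕ) (@Bool.rec (fun _ => ℕ) cb48 cb49 (Nat.ble (nat_lit 49) i)) (@Bool.rec (fun _ => ℕ) cb50 cb51 (Nat.ble (nat_lit 51) i)) (Nat.ble (nat_lit 50) i)) (@Bool.rec (fun _ => ℕ) (@Bool.rec (fun _ => ℕ) cb52 cb53 (Nat.ble (nat_lit 53) i)) (@Bool.rec (fun _ => ℕ) cb54 cb55 (Nat.ble (nat_lit 55) i)) (Nat.ble (nat_lit 54) i)) (Nat.ble (nat_lit 52) i)) (@Bool.rec (fun _ => ℕ) (@Bool.rec (fun _ => ℕ) (@Bool.rec (fun _ => ℕ) cb56 cb57 (Nat.ble (nat_lit 57) i)) (@Bool.rec (fun _ => ℕ) cb58 cb59 (Nat.ble (nat_lit 59) i)) (Nat.ble (nat_lit 58) i)) (@Bool.rec (fun _ => ℕ) (@Bool.rec (fun _ => ℕ) cb60 cb61 (Nat.ble (nat_lit 61) i)) (@Bool.rec (fun _ => ℕ) cb62 cb63 (Nat.ble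 (nat_lit 63) i)) (Nat.ble (nat_lit 62) i)) (Nat.ble (nat_lit 60) i)) (Nat.ble (nat_lit 56) i)) (Nat.ble (nat_lit 48) i))

def certBlk_n0_2 (i : ℕ) : ℕ := (@Bool.rec (fun _ => ℕ) (@Bool.rec (fun _ => ℕ) (@Bool.rec (fun _ => ℕ) (@Bool.rec (fun _ => ℕ) (@Bool.rec (fun _ => ℕ) cb64 cb65 (Nat.ble (nat_lit 65) i)) (@Bool.rec (fun _ => ℕ) cb66 cb67 (Nat.ble (nat_lit 67) i)) (Nat.ble (nat_lit 66) i)) (@Bool.rec (fun _ => ℕ) (@Bool.rec (fun _ => ℕ) cb68 cb69 (Nat.ble (nat_lit 69) i)) (@Bool.rec (fun _ => ℕ) cb70 cb71 (Nat.ble (nat_lit 71) i)) (Nat.ble (nat_lit 70) i)) (Nat.ble (nat_lit 68) i)) (@Bool.rec (fun _ => ℕ) (@Bool.rec (fun _ => ℕ) (@Bool.rec (fun _ => ℕ) cb72 cb73 (Nat.ble (nat_lit 73) i)) (@Bool.rec (fun _ => ℕ) cb74 cb75 (Nat.ble (nat_lit 75) i)) (Nat.ble (nat_lit 74) i)) (@Bool.rec (fun _ => ℕ)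 (@Bool.rec (fun _ => ℕ) cb76 cb77 (Nat.ble (nat_lit 77) i)) (@Bool.rec (fun _ => ℕ) cb78 cb79 (Nat.ble (nat_lit 79) i)) (Nat.ble (nat_lit 78) i)) (Nat.ble (nat_lit 76) i)) (Nat.ble (nat_lit 72) i)) (@Bool.rec (fun _ => ℕ) (@Bool.rec (fun _ => ℕ) (@Bool.rec (fun _ => ℕ) (@Bool.rec (fun _ => ℕ) cb80 cb81 (Nat.ble (nat_lit 81) i)) (@Bool.rec (fun _ => ℕ) cb82 cb83 (Nat.ble (nat_lit 83) i)) (Nat.ble (nat_lit 82) i)) (@Bool.rec (fun _ => ℕ) (@Bool.rec (fun _ => ℕ) cb84 cb85 (Nat.ble (nat_lit 85) i)) (@Bool.rec (fun _ => ℕ) cb86 cb87 (Nat.ble (nat_lit 87) i)) (Nat.ble (nat_lit 86) i)) (Nat.ble (nat_lit 84) i)) (@Bool.rec (fun _ => ℕ) (@Bool.rec (fun _ => ℕ) (@Bool.rec (fun _ => ℕ) cb88 cb89 (Nat.ble (nat_lit 89) i)) (@Bool.rec (fun _ => ℕ) cb90 cb91 (Nat.ble (nat_lit 91) i)) (Nat.ble (nat_lit 90) i)) (@Bool.rec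 (fun _ => ℕ) (@Bool.rec (fun _ => ℕ) cb92 cb93 (Nat.ble (nat_lit 93) i)) (@Bool.rec (fun _ => ℕ) cb94 cb95 (Nat.ble (nat_lit 95) i)) (Nat.ble (nat_lit 94) i)) (Nat.ble (nat_lit 92) i)) (Nat.ble (nat_lit 88) i)) (Nat.ble (nat_lit 80) i))

def certBlk_n0_3 (i : ℕ) : ℕ := (@Bool.rec (fun _ => ℕ) (@Bool.rec (fun _ => ℕ) (@Bool.rec (fun _ => ℕ) (@Bool.rec (fun _ => ℕ) (@Bool.rec (fun _ => ℕ) cb96 cb97 (Nat.ble (nat_lit 97) i)) (@Bool.rec (fun _ => ℕ) cb98 cb99 (Nat.ble (nat_lit 99) i)) (Nat.ble (nat_lit 98) i)) (@Bool.rec (fun _ => ℕ) (@Bool.rec (fun _ => ℕ) cb100 cb101 (Nat.ble (nat_lit 101) i)) (@Bool.rec (fun _ => ℕ) cb102 cb103 (Nat.ble (nat_lit 103) i)) (Nat.ble (nat_lit 102) i)) (Nat.ble (nat_lit 100) i)) (@Bool.rec (fun _ => ℕ) (@Bool.rec (fun _ => ℕ) (@Bool.rec (fun _ => ℕ) cb104 cb105 (Nat.ble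 (nat_lit 105) i)) (@Bool.rec (fun _ => ℕ) cb106 cb107 (Nat.ble (nat_lit 107) i)) (Nat.ble (nat_lit 106) i)) (@Bool.rec (fun _ => ℕ) (@Bool.rec (fun _ => ℕ) cb108 cb109 (Nat.ble (nat_lit 109) i)) (@Bool.rec (fun _ => ℕ) cb110 cb111 (Nat.ble (nat_lit 111) i)) (Nat.ble (nat_lit 110) i)) (Nat.ble (nat_lit 108) i)) (Nat.ble (nat_lit 104) i)) (@Bool.rec (fun _ => ℕ) (@Bool.rec (fun _ => ℕ) (@Bool.rec (fun _ => ℕ) (@Bool.rec (fun _ => ℕ) cb112 cb113 (Nat.ble (nat_lit 113) i)) (@Bool.rec (fun _ => ℕ) cb114 cb115 (Nat.ble (nat_lit 115) i)) (Nat.ble (nat_lit 114) i)) (@Bool.rec (fun _ => ℕ) (@Bool.rec (fun _ => ℕ) cb116 cb117 (Nat.ble (nat_lit 117) i)) (@Bool.rec (fun _ => ℕ) cb118 cb119 (Nat.ble (nat_lit 119) i)) (Nat.ble (nat_lit 118) i)) (Nat.ble (nat_lit 116) i)) (@Bool.rec (fun _ => ℕ) (@Bool.rec (fun _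 => ℕ) (@Bool.rec (fun _ => ℕ) cb120 cb121 (Nat.ble (nat_lit 121) i)) (@Bool.rec (fun _ => ℕ) cb122 cb123 (Nat.ble (nat_lit 123) i)) (Nat.ble (nat_lit 122) i)) (@Bool.rec (fun _ => ℕ) (@Bool.rec (fun _ => ℕ) cb124 cb125 (Nat.ble (nat_lit 125) i)) (@Bool.rec (fun _ => ℕ) cb126 cb127 (Nat.ble (nat_lit 127) i)) (Nat.ble (nat_lit 126) i)) (Nat.ble (nat_lit 124) i)) (Nat.ble (nat_lit 120) i)) (Nat.ble (nat_lit 112) i))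

def certBlk_n0_4 (i : ℕ) : ℕ := (@Bool.rec (fun _ => ℕ) (@Bool.rec (fun _ => ℕ) (@Bool.rec (fun _ => ℕ) (@Bool.rec (fun _ => ℕ) (@Bool.rec (fun _ => ℕ) cb128 cb129 (Nat.ble (nat_lit 129) i)) (@Bool.rec (fun _ => ℕ) cb130 cb131 (Nat.ble (nat_lit 131) i)) (Nat.ble (nat_lit 130) i)) (@Bool.rec (fun _ => ℕ) (@Bool.rec (fun _ => ℕ) cb132 cb133 (Nat.ble (nat_lit 133) i)) (@Bool.rec (fun _ => ℕ) cb134 cb135 (Nat.ble (nat_lit 135) i)) (Nat.ble (nat_lit 134) i)) (Nat.ble (nat_lit 132) i)) (@Bool.rec (fun _ => ℕ) (@Bool.rec (fun _ => ℕ) (@Bool.rec (fun _ => ℕ) cb136 cb137 (Nat.ble (nat_lit 137) i)) (@Bool.rec (fun _ => ℕ) cb138 cb139 (Nat.ble (nat_lit 139) i)) (Nat.ble (nat_lit 138) i)) (@Bool.rec (fun _ => ℕ) (@Bool.rec (fun _ => ℕ) cb140 cb141 (Nat.ble (nat_lit 141) i)) (@Bool.rec (fun _ => ℕ) cb142 cb143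 (Nat.ble (nat_lit 143) i)) (Nat.ble (nat_lit 142) i)) (Nat.ble (nat_lit 140) i)) (Nat.ble (nat_lit 136) i)) (@Bool.rec (fun _ => ℕ) (@Bool.rec (fun _ => ℕ) (@Bool.rec (fun _ => ℕ) (@Bool.rec (fun _ => ℕ) cb144 cb145 (Nat.ble (nat_lit 145) i)) (@Bool.rec (fun _ => ℕ) cb146 cb147 (Nat.ble (nat_lit 147) i)) (Nat.ble (nat_lit 146) i)) (@Bool.rec (fun _ => ℕ) (@Bool.rec (fun _ => ℕ) cb148 cb149 (Nat.ble (nat_lit 149) i)) (@Bool.rec (fun _ => ℕ) cb150 cb151 (Nat.ble (nat_lit 151) i)) (Nat.ble (nat_lit 150) i)) (Nat.ble (nat_lit 148) i)) (@Bool.rec (fun _ => ℕ) (@Bool.rec (fun _ => ℕ) (@Bool.rec (fun _ => ℕ) cb152 cb153 (Nat.ble (nat_lit 153) i)) (@Bool.rec (fun _ => ℕ) cb154 cb155 (Nat.ble (nat_lit 155) i)) (Nat.ble (nat_lit 154) i)) (@Bool.rec (fun _ => ℕ) (@Bool.rec (fun _ => ℕ) cb156 cb157 (Nat.ble (nat_lit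 157) i)) (@Bool.rec (fun _ => ℕ) cb158 cb159 (Nat.ble (nat_lit 159) i)) (Nat.ble (nat_lit 158) i)) (Nat.ble (nat_lit 156) i)) (Nat.ble (nat_lit 152) i)) (Nat.ble (nat_lit 144) i))

def certBlk_n0_5 (i : ℕ) : ℕ := (@Bool.rec (fun _ => ℕ) (@Bool.rec (fun _ => ℕ) (@Bool.rec (fun _ => ℕ) (@Bool.rec (fun _ => ℕ) cb160 (@Bool.rec (fun _ => ℕ) cb161 cb162 (Nat.ble (nat_lit 162) i)) (Nat.ble (nat_lit 161) i)) (@Bool.rec (fun _ => ℕ) cb163 (@Bool.rec (fun _ => ℕ) cb164 cb165 (Nat.ble (nat_lit 165) i)) (Nat.ble (nat_lit 164) i)) (Nat.ble (nat_lit 163) i)) (@Bool.rec (fun _ => ℕ) (@Bool.rec (fun _ => ℕ) cb166 (@Bool.rec (fun _ => ℕ) cb167 cb168 (Nat.ble (nat_lit 168) i)) (Nat.ble (nat_lit 167) i)) (@Bool.rec (fun _ => ℕ) cb169 (@Bool.rec (fun _ => ℕ) cb170 cb171 (Nat.ble (nat_lit 171) i)) (Nat.ble (nat_lit 170)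 i)) (Nat.ble (nat_lit 169) i)) (Nat.ble (nat_lit 166) i)) (@Bool.rec (fun _ => ℕ) (@Bool.rec (fun _ => ℕ) (@Bool.rec (fun _ => ℕ) cb172 (@Bool.rec (fun _ => ℕ) cb173 cb174 (Nat.ble (nat_lit 174) i)) (Nat.ble (nat_lit 173) i)) (@Bool.rec (fun _ => ℕ) cb175 (@Bool.rec (fun _ => ℕ) cb176 cb177 (Nat.ble (nat_lit 177) i)) (Nat.ble (nat_lit 176) i)) (Nat.ble (nat_lit 175) i)) (@Bool.rec (fun _ => ℕ) (@Bool.rec (fun _ => ℕ) cb178 (@Bool.rec (fun _ => ℕ) cb179 cb180 (Nat.ble (nat_lit 180) i)) (Nat.ble (nat_lit 179) i)) (@Bool.rec (fun _ => ℕ) (@Bool.rec (fun _ => ℕ) cb181 cb182 (Nat.ble (nat_lit 182) i)) (@Bool.rec (fun _ => ℕ) cb183 cb184 (Nat.ble (nat_lit 184) i)) (Nat.ble (nat_lit 183) i)) (Nat.ble (nat_lit 181) i)) (Nat.ble (nat_lit 178) i)) (Nat.ble (nat_lit 172) i))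

def certBlk (i : ℕ) : ℕ := (@Bool.rec (fun _ => ℕ) (@Bool.rec (fun _ => ℕ) (certBlk_n0_0 i) (@Bool.rec (fun _ => ℕ) (certBlk_n0_1 i) (certBlk_n0_2 i) (Nat.ble (nat_lit 64) i)) (Nat.ble (nat_lit 32) i)) (@Bool.rec (fun _ => ℕ) (certBlk_n0_3 i) (@Bool.rec (fun _ => ℕ) (certBlk_n0_4 i) (certBlk_n0_5 i) (Nat.ble (nat_lit 160) i)) (Nat.ble (nat_lit 128) i)) (Nat.ble (nat_lit 96) i))

def parBlk_n0_0 (i : ℕ) : ℕ := (@Bool.rec (fun _ => ℕ) (@Bool.rec (fun _ => ℕ) (@Bool.rec (fun _ => ℕ) (@Bool.rec (fun _ => ℕ) (@Bool.rec (fun _ => ℕ) pb0 pb1 (Nat.ble (nat_lit 1) i)) (@Bool.rec (fun _ => ℕ) pb2 pb3 (Nat.ble (nat_lit 3) i)) (Nat.ble (nat_lit 2) i)) (@Bool.rec (fun _ => ℕ) (@Bool.rec (fun _ => ℕ) pb4 pb5 (Nat.ble (nat_lit 5) i)) (@Bool.rec (fun _ => ℕ) pb6 pb7 (Nat.ble (nat_lit 7) i)) (Nat.ble (nat_lit 6) i))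 (Nat.ble (nat_lit 4) i)) (@Bool.rec (fun _ => ℕ) (@Bool.rec (fun _ => ℕ) (@Bool.rec (fun _ => ℕ) pb8 pb9 (Nat.ble (nat_lit 9) i)) (@Bool.rec (fun _ => ℕ) pb10 pb11 (Nat.ble (nat_lit 11) i)) (Nat.ble (nat_lit 10) i)) (@Bool.rec (fun _ => ℕ) (@Bool.rec (fun _ => ℕ) pb12 pb13 (Nat.ble (nat_lit 13) i)) (@Bool.rec (fun _ => ℕ) pb14 pb15 (Nat.ble (nat_lit 15) i)) (Nat.ble (nat_lit 14) i)) (Nat.ble (nat_lit 12) i)) (Nat.ble (nat_lit 8) i)) (@Bool.rec (fun _ => ℕ) (@Bool.rec (fun _ => ℕ) (@Bool.rec (fun _ => ℕ) (@Bool.rec (fun _ => ℕ) pb16 pb17 (Nat.ble (nat_lit 17) i)) (@Bool.rec (fun _ => ℕ) pb18 pb19 (Nat.ble (nat_lit 19) i)) (Nat.ble (nat_lit 18) i)) (@Bool.rec (fun _ => ℕ) (@Bool.rec (fun _ => ℕ) pb20 pb21 (Nat.ble (nat_lit 21) i)) (@Bool.rec (fun _ => ℕ) pb22 pb23 (Nat.ble (nat_lit 23) i)) (Nat.ble (nat_lit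 22) i)) (Nat.ble (nat_lit 20) i)) (@Bool.rec (fun _ => ℕ) (@Bool.rec (fun _ => ℕ) (@Bool.rec (fun _ => ℕ) pb24 pb25 (Nat.ble (nat_lit 25) i)) (@Bool.rec (fun _ => ℕ) pb26 pb27 (Nat.ble (nat_lit 27) i)) (Nat.ble (nat_lit 26) i)) (@Bool.rec (fun _ => ℕ) (@Bool.rec (fun _ => ℕ) pb28 pb29 (Nat.ble (nat_lit 29) i)) (@Bool.rec (fun _ => ℕ) pb30 pb31 (Nat.ble (nat_lit 31) i)) (Nat.ble (nat_lit 30) i)) (Nat.ble (nat_lit 28) i)) (Nat.ble (nat_lit 24) i)) (Nat.ble (nat_lit 16) i))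

def parBlk_n0_1 (i : ℕ) : ℕ := (@Bool.rec (fun _ => ℕ) (@Bool.rec (fun _ => ℕ) (@Bool.rec (fun _ => ℕ) (@Bool.rec (fun _ => ℕ) pb32 pb33 (Nat.ble (nat_lit 33) i)) (@Bool.rec (fun _ => ℕ) pb34 (@Bool.rec (fun _ => ℕ) pb35 pb36 (Nat.ble (nat_lit 36) i)) (Nat.ble (nat_lit 35) i)) (Nat.ble (nat_lit 34) i)) (@Bool.rec (fun _ => ℕ) (@Bool.rec (fun _ => ℕ) pb37 (@Bool.rec (fun _ => ℕ) pb38 pb39 (Nat.ble (nat_lit 39) i)) (Nat.ble (nat_lit 38) i)) (@Bool.rec (fun _ => ℕ) pb40 (@Bool.rec (fun _ => ℕ) pb41 pb42 (Nat.ble (nat_lit 42) i)) (Nat.ble (nat_lit 41) i)) (Nat.ble (nat_lit 40) i)) (Nat.ble (nat_lit 37) i)) (@Bool.rec (fun _ => ℕ) (@Bool.rec (fun _ => ℕ) (@Bool.rec (fun _ => ℕ) pb43 (@Bool.rec (fun _ => ℕ) pb44 pb45 (Nat.ble (nat_lit 45) i)) (Nat.ble (nat_lit 44) i)) (@Bool.rec (fun _ => ℕ) pb46 (@Bool.rec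 (fun _ => ℕ) pb47 pb48 (Nat.ble (nat_lit 48) i)) (Nat.ble (nat_lit 47) i)) (Nat.ble (nat_lit 46) i)) (@Bool.rec (fun _ => ℕ) (@Bool.rec (fun _ => ℕ) pb49 (@Bool.rec (fun _ => ℕ) pb50 pb51 (Nat.ble (nat_lit 51) i)) (Nat.ble (nat_lit 50) i)) (@Bool.rec (fun _ => ℕ) pb52 (@Bool.rec (fun _ => ℕ) pb53 pb54 (Nat.ble (nat_lit 54) i)) (Nat.ble (nat_lit 53) i)) (Nat.ble (nat_lit 52) i)) (Nat.ble (nat_lit 49) i)) (Nat.ble (nat_lit 43) i))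

def parBlk (i : ℕ) : ℕ := (@Bool.rec (fun _ => ℕ) (parBlk_n0_0 i) (parBlk_n0_1 i) (Nat.ble (nat_lit 32) i))

def finBlk (i : ℕ) : ℕ := (@Bool.rec (fun _ => ℕ) (@Bool.rec (fun _ => ℕ) nb0 nb1 (Nat.ble (nat_lit 1) i)) (@Bool.rec (fun _ => ℕ) nb2 nb3 (Nat.ble (nat_lit 3) i)) (Nat.ble (nat_lit 2) i))

def rowBlk_n0_0 (i : ℕ) : ℕ := (@Bool.rec (fun _ => ℕ) (@Bool.rec (fun _ => ℕ) (@Bool.rec (fun _ => ℕ) (@Bool.rec (fun _ => ℕ) (@Bool.rec (fun _ => ℕ) rb0 rb1 (Nat.ble (nat_lit 1) i)) (@Bool.rec (fun _ => ℕ) rb2 rb3 (Nat.ble (nat_lit 3) i)) (Nat.ble (nat_lit 2) i)) (@Bool.rec (fun _ => ℕ) (@Bool.rec (fun _ => ℕ) rb4 rb5 (Nat.ble (nat_lit 5) i)) (@Bool.rec (fun _ => ℕ) rb6 rb7 (Nat.ble (nat_lit 7) i)) (Nat.ble (nat_lit 6) i)) (Nat.ble (nat_lit 4) i)) (@Bool.rec (fun _ => ℕ) (@Bool.rec (fun _ => ℕ) (@Bool.rec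 (fun _ => ℕ) rb8 rb9 (Nat.ble (nat_lit 9) i)) (@Bool.rec (fun _ => ℕ) rb10 rb11 (Nat.ble (nat_lit 11) i)) (Nat.ble (nat_lit 10) i)) (@Bool.rec (fun _ => ℕ) (@Bool.rec (fun _ => ℕ) rb12 rb13 (Nat.ble (nat_lit 13) i)) (@Bool.rec (fun _ => ℕ) rb14 rb15 (Nat.ble (nat_lit 15) i)) (Nat.ble (nat_lit 14) i)) (Nat.ble (nat_lit 12) i)) (Nat.ble (nat_lit 8) i)) (@Bool.rec (fun _ => ℕ) (@Bool.rec (fun _ => ℕ) (@Bool.rec (fun _ => ℕ) (@Bool.rec (fun _ => ℕ) rb16 rb17 (Nat.ble (nat_lit 17) i)) (@Bool.rec (fun _ => ℕ) rb18 rb19 (Nat.ble (nat_lit 19) i)) (Nat.ble (nat_lit 18) i)) (@Bool.rec (fun _ => ℕ) (@Bool.rec (fun _ => ℕ) rb20 rb21 (Nat.ble (nat_lit 21) i)) (@Bool.rec (fun _ => ℕ) rb22 rb23 (Nat.ble (nat_lit 23) i)) (Nat.ble (nat_lit 22) i)) (Nat.ble (nat_lit 20) i)) (@Bool.rec (fun _ => ℕ) (@Bool.rec (fun _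 => ℕ) (@Bool.rec (fun _ => ℕ) rb24 rb25 (Nat.ble (nat_lit 25) i)) (@Bool.rec (fun _ => ℕ) rb26 rb27 (Nat.ble (nat_lit 27) i)) (Nat.ble (nat_lit 26) i)) (@Bool.rec (fun _ => ℕ) (@Bool.rec (fun _ => ℕ) rb28 rb29 (Nat.ble (nat_lit 29) i)) (@Bool.rec (fun _ => ℕ) rb30 rb31 (Nat.ble (nat_lit 31) i)) (Nat.ble (nat_lit 30) i)) (Nat.ble (nat_lit 28) i)) (Nat.ble (nat_lit 24) i)) (Nat.ble (nat_lit 16) i))

def rowBlk_n0_1 (i : ℕ) : ℕ := (@Bool.rec (fun _ => ℕ) (@Bool.rec (fun _ => ℕ) (@Bool.rec (fun _ => ℕ) (@Bool.rec (fun _ => ℕ) (@Bool.rec (fun _ => ℕ) rb32 rb33 (Nat.ble (nat_lit 33) i)) (@Bool.rec (fun _ => ℕ) rb34 rb35 (Nat.ble (nat_lit 35) i)) (Nat.ble (nat_lit 34) i)) (@Bool.rec (fun _ => ℕ) (@Bool.rec (fun _ => ℕ) rb36 rb37 (Nat.ble (nat_lit 37) i)) (@Bool.rec (fun _ => ℕ) rb38 rb39 (Nat.ble (nat_lit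 39) i)) (Nat.ble (nat_lit 38) i)) (Nat.ble (nat_lit 36) i)) (@Bool.rec (fun _ => ℕ) (@Bool.rec (fun _ => ℕ) (@Bool.rec (fun _ => ℕ) rb40 rb41 (Nat.ble (nat_lit 41) i)) (@Bool.rec (fun _ => ℕ) rb42 rb43 (Nat.ble (nat_lit 43) i)) (Nat.ble (nat_lit 42) i)) (@Bool.rec (fun _ => ℕ) (@Bool.rec (fun _ => ℕ) rb44 rb45 (Nat.ble (nat_lit 45) i)) (@Bool.rec (fun _ => ℕ) rb46 rb47 (Nat.ble (nat_lit 47) i)) (Nat.ble (nat_lit 46) i)) (Nat.ble (nat_lit 44) i)) (Nat.ble (nat_lit 40) i)) (@Bool.rec (fun _ => ℕ) (@Bool.rec (fun _ => ℕ) (@Bool.rec (fun _ => ℕ) (@Bool.rec (fun _ => ℕ) rb48 rb49 (Nat.ble (nat_lit 49) i)) (@Bool.rec (fun _ => ℕ) rb50 rb51 (Nat.ble (nat_lit 51) i)) (Nat.ble (nat_lit 50) i)) (@Bool.rec (fun _ => ℕ) (@Bool.rec (fun _ => ℕ) rb52 rb53 (Nat.ble (nat_lit 53) i)) (@Bool.rec (fun _ => ℕ) rb54 rb55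 (Nat.ble (nat_lit 55) i)) (Nat.ble (nat_lit 54) i)) (Nat.ble (nat_lit 52) i)) (@Bool.rec (fun _ => ℕ) (@Bool.rec (fun _ => ℕ) (@Bool.rec (fun _ => ℕ) rb56 rb57 (Nat.ble (nat_lit 57) i)) (@Bool.rec (fun _ => ℕ) rb58 rb59 (Nat.ble (nat_lit 59) i)) (Nat.ble (nat_lit 58) i)) (@Bool.rec (fun _ => ℕ) (@Bool.rec (fun _ => ℕ) rb60 rb61 (Nat.ble (nat_lit 61) i)) (@Bool.rec (fun _ => ℕ) rb62 rb63 (Nat.ble (nat_lit 63) i)) (Nat.ble (nat_lit 62) i)) (Nat.ble (nat_lit 60) i)) (Nat.ble (nat_lit 56) i)) (Nat.ble (nat_lit 48) i))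

def rowBlk_n0_2 (i : ℕ) : ℕ := (@Bool.rec (fun _ => ℕ) (@Bool.rec (fun _ => ℕ) (@Bool.rec (fun _ => ℕ) (@Bool.rec (fun _ => ℕ) (@Bool.rec (fun _ => ℕ) rb64 rb65 (Nat.ble (nat_lit 65) i)) (@Bool.rec (fun _ => ℕ) rb66 rb67 (Nat.ble (nat_lit 67) i)) (Nat.ble (nat_lit 66) i)) (@Bool.rec (fun _ => ℕ) (@Bool.rec (fun _ => ℕ) rb68 rb69 (Nat.ble (nat_lit 69) i)) (@Bool.rec (fun _ => ℕ) rb70 rb71 (Nat.ble (nat_lit 71) i)) (Nat.ble (nat_lit 70) i)) (Nat.ble (nat_lit 68) i)) (@Bool.rec (fun _ => ℕ) (@Bool.rec (fun _ => ℕ) (@Bool.rec (fun _ => ℕ) rb72 rb73 (Nat.ble (nat_lit 73) i)) (@Bool.rec (fun _ => ℕ) rb74 rb75 (Nat.ble (nat_lit 75) i)) (Nat.ble (nat_lit 74) i)) (@Bool.rec (fun _ => ℕ) (@Bool.rec (fun _ => ℕ) rb76 rb77 (Nat.ble (nat_lit 77) i)) (@Bool.rec (fun _ => ℕ) rb78 rb79 (Nat.ble (nat_lit 79) i)) (Nat.ble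 (nat_lit 78) i)) (Nat.ble (nat_lit 76) i)) (Nat.ble (nat_lit 72) i)) (@Bool.rec (fun _ => ℕ) (@Bool.rec (fun _ => ℕ) (@Bool.rec (fun _ => ℕ) (@Bool.rec (fun _ => ℕ) rb80 rb81 (Nat.ble (nat_lit 81) i)) (@Bool.rec (fun _ => ℕ) rb82 rb83 (Nat.ble (nat_lit 83) i)) (Nat.ble (nat_lit 82) i)) (@Bool.rec (fun _ => ℕ) (@Bool.rec (fun _ => ℕ) rb84 rb85 (Nat.ble (nat_lit 85) i)) (@Bool.rec (fun _ => ℕ) rb86 rb87 (Nat.ble (nat_lit 87) i)) (Nat.ble (nat_lit 86) i)) (Nat.ble (nat_lit 84) i)) (@Bool.rec (fun _ => ℕ) (@Bool.rec (fun _ => ℕ) (@Bool.rec (fun _ => ℕ) rb88 rb89 (Nat.ble (nat_lit 89) i)) (@Bool.rec (fun _ => ℕ) rb90 rb91 (Nat.ble (nat_lit 91) i)) (Nat.ble (nat_lit 90) i)) (@Bool.rec (fun _ => ℕ) (@Bool.rec (fun _ => ℕ) rb92 rb93 (Nat.ble (nat_lit 93) i)) (@Bool.rec (fun _ => ℕ) rb94 rb95 (Nat.ble (nat_lit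 95) i)) (Nat.ble (nat_lit 94) i)) (Nat.ble (nat_lit 92) i)) (Nat.ble (nat_lit 88) i)) (Nat.ble (nat_lit 80) i))

def rowBlk_n0_3 (i : ℕ) : ℕ := (@Bool.rec (fun _ => ℕ) (@Bool.rec (fun _ => ℕ) (@Bool.rec (fun _ => ℕ) (@Bool.rec (fun _ => ℕ) (@Bool.rec (fun _ => ℕ) rb96 rb97 (Nat.ble (nat_lit 97) i)) (@Bool.rec (fun _ => ℕ) rb98 rb99 (Nat.ble (nat_lit 99) i)) (Nat.ble (nat_lit 98) i)) (@Bool.rec (fun _ => ℕ) (@Bool.rec (fun _ => ℕ) rb100 rb101 (Nat.ble (nat_lit 101) i)) (@Bool.rec (fun _ => ℕ) rb102 rb103 (Nat.ble (nat_lit 103) i)) (Nat.ble (nat_lit 102) i)) (Nat.ble (nat_lit 100) i)) (@Bool.rec (fun _ => ℕ) (@Bool.rec (fun _ => ℕ) (@Bool.rec (fun _ => ℕ) rb104 rb105 (Nat.ble (nat_lit 105) i)) (@Bool.rec (fun _ => ℕ) rb106 rb107 (Nat.ble (nat_lit 107) i)) (Nat.ble (nat_lit 106) i)) (@Bool.rec (fun _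 => ℕ) (@Bool.rec (fun _ => ℕ) rb108 rb109 (Nat.ble (nat_lit 109) i)) (@Bool.rec (fun _ => ℕ) rb110 rb111 (Nat.ble (nat_lit 111) i)) (Nat.ble (nat_lit 110) i)) (Nat.ble (nat_lit 108) i)) (Nat.ble (nat_lit 104) i)) (@Bool.rec (fun _ => ℕ) (@Bool.rec (fun _ => ℕ) (@Bool.rec (fun _ => ℕ) (@Bool.rec (fun _ => ℕ) rb112 rb113 (Nat.ble (nat_lit 113) i)) (@Bool.rec (fun _ => ℕ) rb114 rb115 (Nat.ble (nat_lit 115) i)) (Nat.ble (nat_lit 114) i)) (@Bool.rec (fun _ => ℕ) (@Bool.rec (fun _ => ℕ) rb116 rb117 (Nat.ble (nat_lit 117) i)) (@Bool.rec (fun _ => ℕ) rb118 rb119 (Nat.ble (nat_lit 119) i)) (Nat.ble (nat_lit 118) i)) (Nat.ble (nat_lit 116) i)) (@Bool.rec (fun _ => ℕ) (@Bool.rec (fun _ => ℕ) (@Bool.rec (fun _ => ℕ) rb120 rb121 (Nat.ble (nat_lit 121) i)) (@Bool.rec (fun _ => ℕ) rb122 rb123 (Nat.ble (nat_lit 123)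 i)) (Nat.ble (nat_lit 122) i)) (@Bool.rec (fun _ => ℕ) (@Bool.rec (fun _ => ℕ) rb124 rb125 (Nat.ble (nat_lit 125) i)) (@Bool.rec (fun _ => ℕ) rb126 rb127 (Nat.ble (nat_lit 127) i)) (Nat.ble (nat_lit 126) i)) (Nat.ble (nat_lit 124) i)) (Nat.ble (nat_lit 120) i)) (Nat.ble (nat_lit 112) i))

def rowBlk_n0_4 (i : ℕ) : ℕ := (@Bool.rec (fun _ => ℕ) (@Bool.rec (fun _ => ℕ) (@Bool.rec (fun _ => ℕ) (@Bool.rec (fun _ => ℕ) (@Bool.rec (fun _ => ℕ) rb128 rb129 (Nat.ble (nat_lit 129) i)) (@Bool.rec (fun _ => ℕ) rb130 rb131 (Nat.ble (nat_lit 131) i)) (Nat.ble (nat_lit 130) i)) (@Bool.rec (fun _ => ℕ) (@Bool.rec (fun _ => ℕ) rb132 rb133 (Nat.ble (nat_lit 133) i)) (@Bool.rec (fun _ => ℕ) rb134 rb135 (Nat.ble (nat_lit 135) i)) (Nat.ble (nat_lit 134) i)) (Nat.ble (nat_lit 132) i)) (@Bool.rec (fun _ => ℕ) (@Bool.rec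 (fun _ => ℕ) (@Bool.rec (fun _ => ℕ) rb136 rb137 (Nat.ble (nat_lit 137) i)) (@Bool.rec (fun _ => ℕ) rb138 rb139 (Nat.ble (nat_lit 139) i)) (Nat.ble (nat_lit 138) i)) (@Bool.rec (fun _ => ℕ) (@Bool.rec (fun _ => ℕ) rb140 rb141 (Nat.ble (nat_lit 141) i)) (@Bool.rec (fun _ => ℕ) rb142 rb143 (Nat.ble (nat_lit 143) i)) (Nat.ble (nat_lit 142) i)) (Nat.ble (nat_lit 140) i)) (Nat.ble (nat_lit 136) i)) (@Bool.rec (fun _ => ℕ) (@Bool.rec (fun _ => ℕ) (@Bool.rec (fun _ => ℕ) (@Bool.rec (fun _ => ℕ) rb144 rb145 (Nat.ble (nat_lit 145) i)) (@Bool.rec (fun _ => ℕ) rb146 rb147 (Nat.ble (nat_lit 147) i)) (Nat.ble (nat_lit 146) i)) (@Bool.rec (fun _ => ℕ) (@Bool.rec (fun _ => ℕ) rb148 rb149 (Nat.ble (nat_lit 149) i)) (@Bool.rec (fun _ => ℕ) rb150 rb151 (Nat.ble (nat_lit 151) i)) (Nat.ble (nat_lit 150) i)) (Nat.ble (nat_lit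 148) i)) (@Bool.rec (fun _ => ℕ) (@Bool.rec (fun _ => ℕ) (@Bool.rec (fun _ => ℕ) rb152 rb153 (Nat.ble (nat_lit 153) i)) (@Bool.rec (fun _ => ℕ) rb154 rb155 (Nat.ble (nat_lit 155) i)) (Nat.ble (nat_lit 154) i)) (@Bool.rec (fun _ => ℕ) (@Bool.rec (fun _ => ℕ) rb156 rb157 (Nat.ble (nat_lit 157) i)) (@Bool.rec (fun _ => ℕ) rb158 rb159 (Nat.ble (nat_lit 159) i)) (Nat.ble (nat_lit 158) i)) (Nat.ble (nat_lit 156) i)) (Nat.ble (nat_lit 152) i)) (Nat.ble (nat_lit 144) i))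

def rowBlk_n0_5 (i : ℕ) : ℕ := (@Bool.rec (fun _ => ℕ) (@Bool.rec (fun _ => ℕ) (@Bool.rec (fun _ => ℕ) (@Bool.rec (fun _ => ℕ) (@Bool.rec (fun _ => ℕ) rb160 rb161 (Nat.ble (nat_lit 161) i)) (@Bool.rec (fun _ => ℕ) rb162 rb163 (Nat.ble (nat_lit 163) i)) (Nat.ble (nat_lit 162) i)) (@Bool.rec (fun _ => ℕ) (@Bool.rec (fun _ => ℕ) rb164 rb165 (Nat.ble (nat_lit 165) i)) (@Bool.rec (fun _ => ℕ) rb166 rb167 (Nat.ble (nat_lit 167) i)) (Nat.ble (nat_lit 166) i)) (Nat.ble (nat_lit 164) i)) (@Bool.rec (fun _ => ℕ) (@Bool.rec (fun _ => ℕ) (@Bool.rec (fun _ => ℕ) rb168 rb169 (Nat.ble (nat_lit 169) i)) (@Bool.rec (fun _ => ℕ) rb170 rb171 (Nat.ble (nat_lit 171) i)) (Nat.ble (nat_lit 170) i)) (@Bool.rec (fun _ => ℕ) (@Bool.rec (fun _ => ℕ) rb172 rb173 (Nat.ble (nat_lit 173) i)) (@Bool.rec (fun _ => ℕ) rb174 rb175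 (Nat.ble (nat_lit 175) i)) (Nat.ble (nat_lit 174) i)) (Nat.ble (nat_lit 172) i)) (Nat.ble (nat_lit 168) i)) (@Bool.rec (fun _ => ℕ) (@Bool.rec (fun _ => ℕ) (@Bool.rec (fun _ => ℕ) (@Bool.rec (fun _ => ℕ) rb176 rb177 (Nat.ble (nat_lit 177) i)) (@Bool.rec (fun _ => ℕ) rb178 rb179 (Nat.ble (nat_lit 179) i)) (Nat.ble (nat_lit 178) i)) (@Bool.rec (fun _ => ℕ) (@Bool.rec (fun _ => ℕ) rb180 rb181 (Nat.ble (nat_lit 181) i)) (@Bool.rec (fun _ => ℕ) rb182 rb183 (Nat.ble (nat_lit 183) i)) (Nat.ble (nat_lit 182) i)) (Nat.ble (nat_lit 180) i)) (@Bool.rec (fun _ => ℕ) (@Bool.rec (fun _ => ℕ) (@Bool.rec (fun _ => ℕ) rb184 rb185 (Nat.ble (nat_lit 185) i)) (@Bool.rec (fun _ => ℕ) rb186 rb187 (Nat.ble (nat_lit 187) i)) (Nat.ble (nat_lit 186) i)) (@Bool.rec (fun _ => ℕ) (@Bool.rec (fun _ => ℕ) rb188 rb189 (Nat.ble (nat_lit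 189) i)) (@Bool.rec (fun _ => ℕ) rb190 rb191 (Nat.ble (nat_lit 191) i)) (Nat.ble (nat_lit 190) i)) (Nat.ble (nat_lit 188) i)) (Nat.ble (nat_lit 184) i)) (Nat.ble (nat_lit 176) i))

def rowBlk_n0_6 (i : ℕ) : ℕ := (@Bool.rec (fun _ => ℕ) (@Bool.rec (fun _ => ℕ) (@Bool.rec (fun _ => ℕ) (@Bool.rec (fun _ => ℕ) (@Bool.rec (fun _ => ℕ) rb192 rb193 (Nat.ble (nat_lit 193) i)) (@Bool.rec (fun _ => ℕ) rb194 rb195 (Nat.ble (nat_lit 195) i)) (Nat.ble (nat_lit 194) i)) (@Bool.rec (fun _ => ℕ) (@Bool.rec (fun _ => ℕ) rb196 rb197 (Nat.ble (nat_lit 197) i)) (@Bool.rec (fun _ => ℕ) rb198 rb199 (Nat.ble (nat_lit 199) i)) (Nat.ble (nat_lit 198) i)) (Nat.ble (nat_lit 196) i)) (@Bool.rec (fun _ => ℕ) (@Bool.rec (fun _ => ℕ) (@Bool.rec (fun _ => ℕ) rb200 rb201 (Nat.ble (nat_lit 201) i)) (@Bool.rec (fun _ => ℕ) rb202 rb203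 (Nat.ble (nat_lit 203) i)) (Nat.ble (nat_lit 202) i)) (@Bool.rec (fun _ => ℕ) (@Bool.rec (fun _ => ℕ) rb204 rb205 (Nat.ble (nat_lit 205) i)) (@Bool.rec (fun _ => ℕ) rb206 rb207 (Nat.ble (nat_lit 207) i)) (Nat.ble (nat_lit 206) i)) (Nat.ble (nat_lit 204) i)) (Nat.ble (nat_lit 200) i)) (@Bool.rec (fun _ => ℕ) (@Bool.rec (fun _ => ℕ) (@Bool.rec (fun _ => ℕ) (@Bool.rec (fun _ => ℕ) rb208 rb209 (Nat.ble (nat_lit 209) i)) (@Bool.rec (fun _ => ℕ) rb210 rb211 (Nat.ble (nat_lit 211) i)) (Nat.ble (nat_lit 210) i)) (@Bool.rec (fun _ => ℕ) (@Bool.rec (fun _ => ℕ) rb212 rb213 (Nat.ble (nat_lit 213) i)) (@Bool.rec (fun _ => ℕ) rb214 rb215 (Nat.ble (nat_lit 215) i)) (Nat.ble (nat_lit 214) i)) (Nat.ble (nat_lit 212) i)) (@Bool.rec (fun _ => ℕ) (@Bool.rec (fun _ => ℕ) (@Bool.rec (fun _ => ℕ) rb216 rb217 (Nat.ble (nat_lit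 217) i)) (@Bool.rec (fun _ => ℕ) rb218 rb219 (Nat.ble (nat_lit 219) i)) (Nat.ble (nat_lit 218) i)) (@Bool.rec (fun _ => ℕ) (@Bool.rec (fun _ => ℕ) rb220 rb221 (Nat.ble (nat_lit 221) i)) (@Bool.rec (fun _ => ℕ) rb222 rb223 (Nat.ble (nat_lit 223) i)) (Nat.ble (nat_lit 222) i)) (Nat.ble (nat_lit 220) i)) (Nat.ble (nat_lit 216) i)) (Nat.ble (nat_lit 208) i))

def rowBlk_n0_7 (i : ℕ) : ℕ := (@Bool.rec (fun _ => ℕ) (@Bool.rec (fun _ => ℕ) (@Bool.rec (fun _ => ℕ) (@Bool.rec (fun _ => ℕ) (@Bool.rec (fun _ => ℕ) rb224 rb225 (Nat.ble (nat_lit 225) i)) (@Bool.rec (fun _ => ℕ) rb226 rb227 (Nat.ble (nat_lit 227) i)) (Nat.ble (nat_lit 226) i)) (@Bool.rec (fun _ => ℕ) (@Bool.rec (fun _ => ℕ) rb228 rb229 (Nat.ble (nat_lit 229) i)) (@Bool.rec (fun _ => ℕ) rb230 rb231 (Nat.ble (nat_lit 231) i)) (Nat.ble (nat_lit 230)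 i)) (Nat.ble (nat_lit 228) i)) (@Bool.rec (fun _ => ℕ) (@Bool.rec (fun _ => ℕ) (@Bool.rec (fun _ => ℕ) rb232 rb233 (Nat.ble (nat_lit 233) i)) (@Bool.rec (fun _ => ℕ) rb234 rb235 (Nat.ble (nat_lit 235) i)) (Nat.ble (nat_lit 234) i)) (@Bool.rec (fun _ => ℕ) (@Bool.rec (fun _ => ℕ) rb236 rb237 (Nat.ble (nat_lit 237) i)) (@Bool.rec (fun _ => ℕ) rb238 rb239 (Nat.ble (nat_lit 239) i)) (Nat.ble (nat_lit 238) i)) (Nat.ble (nat_lit 236) i)) (Nat.ble (nat_lit 232) i)) (@Bool.rec (fun _ => ℕ) (@Bool.rec (fun _ => ℕ) (@Bool.rec (fun _ => ℕ) (@Bool.rec (fun _ => ℕ) rb240 rb241 (Nat.ble (nat_lit 241) i)) (@Bool.rec (fun _ => ℕ) rb242 rb243 (Nat.ble (nat_lit 243) i)) (Nat.ble (nat_lit 242) i)) (@Bool.rec (fun _ => ℕ) (@Bool.rec (fun _ => ℕ) rb244 rb245 (Nat.ble (nat_lit 245) i)) (@Bool.rec (fun _ => ℕ) rb246 rb247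 (Nat.ble (nat_lit 247) i)) (Nat.ble (nat_lit 246) i)) (Nat.ble (nat_lit 244) i)) (@Bool.rec (fun _ => ℕ) (@Bool.rec (fun _ => ℕ) (@Bool.rec (fun _ => ℕ) rb248 rb249 (Nat.ble (nat_lit 249) i)) (@Bool.rec (fun _ => ℕ) rb250 rb251 (Nat.ble (nat_lit 251) i)) (Nat.ble (nat_lit 250) i)) (@Bool.rec (fun _ => ℕ) (@Bool.rec (fun _ => ℕ) rb252 rb253 (Nat.ble (nat_lit 253) i)) (@Bool.rec (fun _ => ℕ) rb254 rb255 (Nat.ble (nat_lit 255) i)) (Nat.ble (nat_lit 254) i)) (Nat.ble (nat_lit 252) i)) (Nat.ble (nat_lit 248) i)) (Nat.ble (nat_lit 240) i))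

def rowBlk_n0_8 (i : ℕ) : ℕ := (@Bool.rec (fun _ => ℕ) (@Bool.rec (fun _ => ℕ) (@Bool.rec (fun _ => ℕ) (@Bool.rec (fun _ => ℕ) (@Bool.rec (fun _ => ℕ) rb256 rb257 (Nat.ble (nat_lit 257) i)) (@Bool.rec (fun _ => ℕ) rb258 rb259 (Nat.ble (nat_lit 259) i)) (Nat.ble (nat_lit 258) i)) (@Bool.rec (fun _ => ℕ) (@Bool.rec (fun _ => ℕ) rb260 rb261 (Nat.ble (nat_lit 261) i)) (@Bool.rec (fun _ => ℕ) rb262 rb263 (Nat.ble (nat_lit 263) i)) (Nat.ble (nat_lit 262) i)) (Nat.ble (nat_lit 260) i)) (@Bool.rec (fun _ => ℕ) (@Bool.rec (fun _ => ℕ) (@Bool.rec (fun _ => ℕ) rb264 rb265 (Nat.ble (nat_lit 265) i)) (@Bool.rec (fun _ => ℕ) rb266 rb267 (Nat.ble (nat_lit 267) i)) (Nat.ble (nat_lit 266) i)) (@Bool.rec (fun _ => ℕ) (@Bool.rec (fun _ => ℕ) rb268 rb269 (Nat.ble (nat_lit 269) i)) (@Bool.rec (fun _ => ℕ) rb270 rb271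 (Nat.ble (nat_lit 271) i)) (Nat.ble (nat_lit 270) i)) (Nat.ble (nat_lit 268) i)) (Nat.ble (nat_lit 264) i)) (@Bool.rec (fun _ => ℕ) (@Bool.rec (fun _ => ℕ) (@Bool.rec (fun _ => ℕ) (@Bool.rec (fun _ => ℕ) rb272 rb273 (Nat.ble (nat_lit 273) i)) (@Bool.rec (fun _ => ℕ) rb274 rb275 (Nat.ble (nat_lit 275) i)) (Nat.ble (nat_lit 274) i)) (@Bool.rec (fun _ => ℕ) (@Bool.rec (fun _ => ℕ) rb276 rb277 (Nat.ble (nat_lit 277) i)) (@Bool.rec (fun _ => ℕ) rb278 rb279 (Nat.ble (nat_lit 279) i)) (Nat.ble (nat_lit 278) i)) (Nat.ble (nat_lit 276) i)) (@Bool.rec (fun _ => ℕ) (@Bool.rec (fun _ => ℕ) (@Bool.rec (fun _ => ℕ) rb280 rb281 (Nat.ble (nat_lit 281) i)) (@Bool.rec (fun _ => ℕ) rb282 rb283 (Nat.ble (nat_lit 283) i)) (Nat.ble (nat_lit 282) i)) (@Bool.rec (fun _ => ℕ) (@Bool.rec (fun _ => ℕ) rb284 rb285 (Nat.ble (nat_lit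 285) i)) (@Bool.rec (fun _ => ℕ) rb286 rb287 (Nat.ble (nat_lit 287) i)) (Nat.ble (nat_lit 286) i)) (Nat.ble (nat_lit 284) i)) (Nat.ble (nat_lit 280) i)) (Nat.ble (nat_lit 272) i))

def rowBlk_n0_9 (i : ℕ) : ℕ := (@Bool.rec (fun _ => ℕ) (@Bool.rec (fun _ => ℕ) (@Bool.rec (fun _ => ℕ) (@Bool.rec (fun _ => ℕ) (@Bool.rec (fun _ => ℕ) rb288 rb289 (Nat.ble (nat_lit 289) i)) (@Bool.rec (fun _ => ℕ) rb290 rb291 (Nat.ble (nat_lit 291) i)) (Nat.ble (nat_lit 290) i)) (@Bool.rec (fun _ => ℕ) (@Bool.rec (fun _ => ℕ) rb292 rb293 (Nat.ble (nat_lit 293) i)) (@Bool.rec (fun _ => ℕ) rb294 rb295 (Nat.ble (nat_lit 295) i)) (Nat.ble (nat_lit 294) i)) (Nat.ble (nat_lit 292) i)) (@Bool.rec (fun _ => ℕ) (@Bool.rec (fun _ => ℕ) (@Bool.rec (fun _ => ℕ) rb296 rb297 (Nat.ble (nat_lit 297) i)) (@Bool.rec (fun _ => ℕ) rb298 rb299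 (Nat.ble (nat_lit 299) i)) (Nat.ble (nat_lit 298) i)) (@Bool.rec (fun _ => ℕ) (@Bool.rec (fun _ => ℕ) rb300 rb301 (Nat.ble (nat_lit 301) i)) (@Bool.rec (fun _ => ℕ) rb302 rb303 (Nat.ble (nat_lit 303) i)) (Nat.ble (nat_lit 302) i)) (Nat.ble (nat_lit 300) i)) (Nat.ble (nat_lit 296) i)) (@Bool.rec (fun _ => ℕ) (@Bool.rec (fun _ => ℕ) (@Bool.rec (fun _ => ℕ) (@Bool.rec (fun _ => ℕ) rb304 rb305 (Nat.ble (nat_lit 305) i)) (@Bool.rec (fun _ => ℕ) rb306 rb307 (Nat.ble (nat_lit 307) i)) (Nat.ble (nat_lit 306) i)) (@Bool.rec (fun _ => ℕ) (@Bool.rec (fun _ => ℕ) rb308 rb309 (Nat.ble (nat_lit 309) i)) (@Bool.rec (fun _ => ℕ) rb310 rb311 (Nat.ble (nat_lit 311) i)) (Nat.ble (nat_lit 310) i)) (Nat.ble (nat_lit 308) i)) (@Bool.rec (fun _ => ℕ) (@Bool.rec (fun _ => ℕ) (@Bool.rec (fun _ => ℕ) rb312 rb313 (Nat.ble (nat_lit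 313) i)) (@Bool.rec (fun _ => ℕ) rb314 rb315 (Nat.ble (nat_lit 315) i)) (Nat.ble (nat_lit 314) i)) (@Bool.rec (fun _ => ℕ) (@Bool.rec (fun _ => ℕ) rb316 rb317 (Nat.ble (nat_lit 317) i)) (@Bool.rec (fun _ => ℕ) rb318 rb319 (Nat.ble (nat_lit 319) i)) (Nat.ble (nat_lit 318) i)) (Nat.ble (nat_lit 316) i)) (Nat.ble (nat_lit 312) i)) (Nat.ble (nat_lit 304) i))

def rowBlk_n0_10 (i : ℕ) : ℕ := (@Bool.rec (fun _ => ℕ) (@Bool.rec (fun _ => ℕ) (@Bool.rec (fun _ => ℕ) (@Bool.rec (fun _ => ℕ) (@Bool.rec (fun _ => ℕ) rb320 rb321 (Nat.ble (nat_lit 321) i)) (@Bool.rec (fun _ => ℕ) rb322 rb323 (Nat.ble (nat_lit 323) i)) (Nat.ble (nat_lit 322) i)) (@Bool.rec (fun _ => ℕ) (@Bool.rec (fun _ => ℕ) rb324 rb325 (Nat.ble (nat_lit 325) i)) (@Bool.rec (fun _ => ℕ) rb326 rb327 (Nat.ble (nat_lit 327) i)) (Nat.ble (nat_lit 326)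 i)) (Nat.ble (nat_lit 324) i)) (@Bool.rec (fun _ => ℕ) (@Bool.rec (fun _ => ℕ) (@Bool.rec (fun _ => ℕ) rb328 rb329 (Nat.ble (nat_lit 329) i)) (@Bool.rec (fun _ => ℕ) rb330 rb331 (Nat.ble (nat_lit 331) i)) (Nat.ble (nat_lit 330) i)) (@Bool.rec (fun _ => ℕ) (@Bool.rec (fun _ => ℕ) rb332 rb333 (Nat.ble (nat_lit 333) i)) (@Bool.rec (fun _ => ℕ) rb334 rb335 (Nat.ble (nat_lit 335) i)) (Nat.ble (nat_lit 334) i)) (Nat.ble (nat_lit 332) i)) (Nat.ble (nat_lit 328) i)) (@Bool.rec (fun _ => ℕ) (@Bool.rec (fun _ => ℕ) (@Bool.rec (fun _ => ℕ) (@Bool.rec (fun _ => ℕ) rb336 rb337 (Nat.ble (nat_lit 337) i)) (@Bool.rec (fun _ => ℕ) rb338 rb339 (Nat.ble (nat_lit 339) i)) (Nat.ble (nat_lit 338) i)) (@Bool.rec (fun _ => ℕ) (@Bool.rec (fun _ => ℕ) rb340 rb341 (Nat.ble (nat_lit 341) i)) (@Bool.rec (fun _ => ℕ) rb342 rb343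 (Nat.ble (nat_lit 343) i)) (Nat.ble (nat_lit 342) i)) (Nat.ble (nat_lit 340) i)) (@Bool.rec (fun _ => ℕ) (@Bool.rec (fun _ => ℕ) (@Bool.rec (fun _ => ℕ) rb344 rb345 (Nat.ble (nat_lit 345) i)) (@Bool.rec (fun _ => ℕ) rb346 rb347 (Nat.ble (nat_lit 347) i)) (Nat.ble (nat_lit 346) i)) (@Bool.rec (fun _ => ℕ) (@Bool.rec (fun _ => ℕ) rb348 rb349 (Nat.ble (nat_lit 349) i)) (@Bool.rec (fun _ => ℕ) rb350 rb351 (Nat.ble (nat_lit 351) i)) (Nat.ble (nat_lit 350) i)) (Nat.ble (nat_lit 348) i)) (Nat.ble (nat_lit 344) i)) (Nat.ble (nat_lit 336) i))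

def rowBlk_n0_11 (i : ℕ) : ℕ := (@Bool.rec (fun _ => ℕ) (@Bool.rec (fun _ => ℕ) (@Bool.rec (fun _ => ℕ) (@Bool.rec (fun _ => ℕ) (@Bool.rec (fun _ => ℕ) rb352 rb353 (Nat.ble (nat_lit 353) i)) (@Bool.rec (fun _ => ℕ) rb354 rb355 (Nat.ble (nat_lit 355) i)) (Nat.ble (nat_lit 354) i)) (@Bool.rec (fun _ => ℕ) (@Bool.rec (fun _ => ℕ) rb356 rb357 (Nat.ble (nat_lit 357) i)) (@Bool.rec (fun _ => ℕ) rb358 rb359 (Nat.ble (nat_lit 359) i)) (Nat.ble (nat_lit 358) i)) (Nat.ble (nat_lit 356) i)) (@Bool.rec (fun _ => ℕ) (@Bool.rec (fun _ => ℕ) (@Bool.rec (fun _ => ℕ) rb360 rb361 (Nat.ble (nat_lit 361) i)) (@Bool.rec (fun _ => ℕ) rb362 rb363 (Nat.ble (nat_lit 363) i)) (Nat.ble (nat_lit 362) i)) (@Bool.rec (fun _ => ℕ) (@Bool.rec (fun _ => ℕ) rb364 rb365 (Nat.ble (nat_lit 365) i)) (@Bool.rec (fun _ => ℕ) rb366 rb367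 (Nat.ble (nat_lit 367) i)) (Nat.ble (nat_lit 366) i)) (Nat.ble (nat_lit 364) i)) (Nat.ble (nat_lit 360) i)) (@Bool.rec (fun _ => ℕ) (@Bool.rec (fun _ => ℕ) (@Bool.rec (fun _ => ℕ) (@Bool.rec (fun _ => ℕ) rb368 rb369 (Nat.ble (nat_lit 369) i)) (@Bool.rec (fun _ => ℕ) rb370 rb371 (Nat.ble (nat_lit 371) i)) (Nat.ble (nat_lit 370) i)) (@Bool.rec (fun _ => ℕ) (@Bool.rec (fun _ => ℕ) rb372 rb373 (Nat.ble (nat_lit 373) i)) (@Bool.rec (fun _ => ℕ) rb374 rb375 (Nat.ble (nat_lit 375) i)) (Nat.ble (nat_lit 374) i)) (Nat.ble (nat_lit 372) i)) (@Bool.rec (fun _ => ℕ) (@Bool.rec (fun _ => ℕ) (@Bool.rec (fun _ => ℕ) rb376 rb377 (Nat.ble (nat_lit 377) i)) (@Bool.rec (fun _ => ℕ) rb378 rb379 (Nat.ble (nat_lit 379) i)) (Nat.ble (nat_lit 378) i)) (@Bool.rec (fun _ => ℕ) (@Bool.rec (fun _ => ℕ) rb380 rb381 (Nat.ble (nat_lit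 381) i)) (@Bool.rec (fun _ => ℕ) rb382 rb383 (Nat.ble (nat_lit 383) i)) (Nat.ble (nat_lit 382) i)) (Nat.ble (nat_lit 380) i)) (Nat.ble (nat_lit 376) i)) (Nat.ble (nat_lit 368) i))

def rowBlk_n0_12 (i : ℕ) : ℕ := (@Bool.rec (fun _ => ℕ) (@Bool.rec (fun _ => ℕ) (@Bool.rec (fun _ => ℕ) (@Bool.rec (fun _ => ℕ) (@Bool.rec (fun _ => ℕ) rb384 rb385 (Nat.ble (nat_lit 385) i)) (@Bool.rec (fun _ => ℕ) rb386 rb387 (Nat.ble (nat_lit 387) i)) (Nat.ble (nat_lit 386) i)) (@Bool.rec (fun _ => ℕ) (@Bool.rec (fun _ => ℕ) rb388 rb389 (Nat.ble (nat_lit 389) i)) (@Bool.rec (fun _ => ℕ) rb390 rb391 (Nat.ble (nat_lit 391) i)) (Nat.ble (nat_lit 390) i)) (Nat.ble (nat_lit 388) i)) (@Bool.rec (fun _ => ℕ) (@Bool.rec (fun _ => ℕ) (@Bool.rec (fun _ => ℕ) rb392 rb393 (Nat.ble (nat_lit 393) i)) (@Bool.rec (fun _ => ℕ) rb394 rb395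 (Nat.ble (nat_lit 395) i)) (Nat.ble (nat_lit 394) i)) (@Bool.rec (fun _ => ℕ) (@Bool.rec (fun _ => ℕ) rb396 rb397 (Nat.ble (nat_lit 397) i)) (@Bool.rec (fun _ => ℕ) rb398 rb399 (Nat.ble (nat_lit 399) i)) (Nat.ble (nat_lit 398) i)) (Nat.ble (nat_lit 396) i)) (Nat.ble (nat_lit 392) i)) (@Bool.rec (fun _ => ℕ) (@Bool.rec (fun _ => ℕ) (@Bool.rec (fun _ => ℕ) (@Bool.rec (fun _ => ℕ) rb400 rb401 (Nat.ble (nat_lit 401) i)) (@Bool.rec (fun _ => ℕ) rb402 rb403 (Nat.ble (nat_lit 403) i)) (Nat.ble (nat_lit 402) i)) (@Bool.rec (fun _ => ℕ) (@Bool.rec (fun _ => ℕ) rb404 rb405 (Nat.ble (nat_lit 405) i)) (@Bool.rec (fun _ => ℕ) rb406 rb407 (Nat.ble (nat_lit 407) i)) (Nat.ble (nat_lit 406) i)) (Nat.ble (nat_lit 404) i)) (@Bool.rec (fun _ => ℕ) (@Bool.rec (fun _ => ℕ) (@Bool.rec (fun _ => ℕ) rb408 rb409 (Nat.ble (nat_lit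 409) i)) (@Bool.rec (fun _ => ℕ) rb410 rb411 (Nat.ble (nat_lit 411) i)) (Nat.ble (nat_lit 410) i)) (@Bool.rec (fun _ => ℕ) (@Bool.rec (fun _ => ℕ) rb412 rb413 (Nat.ble (nat_lit 413) i)) (@Bool.rec (fun _ => ℕ) rb414 rb415 (Nat.ble (nat_lit 415) i)) (Nat.ble (nat_lit 414) i)) (Nat.ble (nat_lit 412) i)) (Nat.ble (nat_lit 408) i)) (Nat.ble (nat_lit 400) i))

def rowBlk_n0_13 (i : ℕ) : ℕ := (@Bool.rec (fun _ => ℕ) (@Bool.rec (fun _ => ℕ) (@Bool.rec (fun _ => ℕ) (@Bool.rec (fun _ => ℕ) (@Bool.rec (fun _ => ℕ) rb416 rb417 (Nat.ble (nat_lit 417) i)) (@Bool.rec (fun _ => ℕ) rb418 rb419 (Nat.ble (nat_lit 419) i)) (Nat.ble (nat_lit 418) i)) (@Bool.rec (fun _ => ℕ) (@Bool.rec (fun _ => ℕ) rb420 rb421 (Nat.ble (nat_lit 421) i)) (@Bool.rec (fun _ => ℕ) rb422 rb423 (Nat.ble (nat_lit 423) i)) (Nat.ble (nat_lit 422)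 i)) (Nat.ble (nat_lit 420) i)) (@Bool.rec (fun _ => ℕ) (@Bool.rec (fun _ => ℕ) (@Bool.rec (fun _ => ℕ) rb424 rb425 (Nat.ble (nat_lit 425) i)) (@Bool.rec (fun _ => ℕ) rb426 rb427 (Nat.ble (nat_lit 427) i)) (Nat.ble (nat_lit 426) i)) (@Bool.rec (fun _ => ℕ) (@Bool.rec (fun _ => ℕ) rb428 rb429 (Nat.ble (nat_lit 429) i)) (@Bool.rec (fun _ => ℕ) rb430 rb431 (Nat.ble (nat_lit 431) i)) (Nat.ble (nat_lit 430) i)) (Nat.ble (nat_lit 428) i)) (Nat.ble (nat_lit 424) i)) (@Bool.rec (fun _ => ℕ) (@Bool.rec (fun _ => ℕ) (@Bool.rec (fun _ => ℕ) (@Bool.rec (fun _ => ℕ) rb432 rb433 (Nat.ble (nat_lit 433) i)) (@Bool.rec (fun _ => ℕ) rb434 rb435 (Nat.ble (nat_lit 435) i)) (Nat.ble (nat_lit 434) i)) (@Bool.rec (fun _ => ℕ) (@Bool.rec (fun _ => ℕ) rb436 rb437 (Nat.ble (nat_lit 437) i)) (@Bool.rec (fun _ => ℕ) rb438 rb439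 (Nat.ble (nat_lit 439) i)) (Nat.ble (nat_lit 438) i)) (Nat.ble (nat_lit 436) i)) (@Bool.rec (fun _ => ℕ) (@Bool.rec (fun _ => ℕ) (@Bool.rec (fun _ => ℕ) rb440 rb441 (Nat.ble (nat_lit 441) i)) (@Bool.rec (fun _ => ℕ) rb442 rb443 (Nat.ble (nat_lit 443) i)) (Nat.ble (nat_lit 442) i)) (@Bool.rec (fun _ => ℕ) (@Bool.rec (fun _ => ℕ) rb444 rb445 (Nat.ble (nat_lit 445) i)) (@Bool.rec (fun _ => ℕ) rb446 rb447 (Nat.ble (nat_lit 447) i)) (Nat.ble (nat_lit 446) i)) (Nat.ble (nat_lit 444) i)) (Nat.ble (nat_lit 440) i)) (Nat.ble (nat_lit 432) i))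

def rowBlk_n0_14 (i : ℕ) : ℕ := (@Bool.rec (fun _ => ℕ) (@Bool.rec (fun _ => ℕ) (@Bool.rec (fun _ => ℕ) (@Bool.rec (fun _ => ℕ) (@Bool.rec (fun _ => ℕ) rb448 rb449 (Nat.ble (nat_lit 449) i)) (@Bool.rec (fun _ => ℕ) rb450 rb451 (Nat.ble (nat_lit 451) i)) (Nat.ble (nat_lit 450) i)) (@Bool.rec (fun _ => ℕ) (@Bool.rec (fun _ => ℕ) rb452 rb453 (Nat.ble (nat_lit 453) i)) (@Bool.rec (fun _ => ℕ) rb454 rb455 (Nat.ble (nat_lit 455) i)) (Nat.ble (nat_lit 454) i)) (Nat.ble (nat_lit 452) i)) (@Bool.rec (fun _ => ℕ) (@Bool.rec (fun _ => ℕ) (@Bool.rec (fun _ => ℕ) rb456 rb457 (Nat.ble (nat_lit 457) i)) (@Bool.rec (fun _ => ℕ) rb458 rb459 (Nat.ble (nat_lit 459) i)) (Nat.ble (nat_lit 458) i)) (@Bool.rec (fun _ => ℕ) (@Bool.rec (fun _ => ℕ) rb460 rb461 (Nat.ble (nat_lit 461) i)) (@Bool.rec (fun _ => ℕ) rb462 rb463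 (Nat.ble (nat_lit 463) i)) (Nat.ble (nat_lit 462) i)) (Nat.ble (nat_lit 460) i)) (Nat.ble (nat_lit 456) i)) (@Bool.rec (fun _ => ℕ) (@Bool.rec (fun _ => ℕ) (@Bool.rec (fun _ => ℕ) (@Bool.rec (fun _ => ℕ) rb464 rb465 (Nat.ble (nat_lit 465) i)) (@Bool.rec (fun _ => ℕ) rb466 rb467 (Nat.ble (nat_lit 467) i)) (Nat.ble (nat_lit 466) i)) (@Bool.rec (fun _ => ℕ) (@Bool.rec (fun _ => ℕ) rb468 rb469 (Nat.ble (nat_lit 469) i)) (@Bool.rec (fun _ => ℕ) rb470 rb471 (Nat.ble (nat_lit 471) i)) (Nat.ble (nat_lit 470) i)) (Nat.ble (nat_lit 468) i)) (@Bool.rec (fun _ => ℕ) (@Bool.rec (fun _ => ℕ) (@Bool.rec (fun _ => ℕ) rb472 rb473 (Nat.ble (nat_lit 473) i)) (@Bool.rec (fun _ => ℕ) rb474 rb475 (Nat.ble (nat_lit 475) i)) (Nat.ble (nat_lit 474) i)) (@Bool.rec (fun _ => ℕ) (@Bool.rec (fun _ => ℕ) rb476 rb477 (Nat.ble (nat_lit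 477) i)) (@Bool.rec (fun _ => ℕ) rb478 rb479 (Nat.ble (nat_lit 479) i)) (Nat.ble (nat_lit 478) i)) (Nat.ble (nat_lit 476) i)) (Nat.ble (nat_lit 472) i)) (Nat.ble (nat_lit 464) i))

def rowBlk_n0_15 (i : ℕ) : ℕ := (@Bool.rec (fun _ => ℕ) (@Bool.rec (fun _ => ℕ) (@Bool.rec (fun _ => ℕ) (@Bool.rec (fun _ => ℕ) (@Bool.rec (fun _ => ℕ) rb480 rb481 (Nat.ble (nat_lit 481) i)) (@Bool.rec (fun _ => ℕ) rb482 rb483 (Nat.ble (nat_lit 483) i)) (Nat.ble (nat_lit 482) i)) (@Bool.rec (fun _ => ℕ) (@Bool.rec (fun _ => ℕ) rb484 rb485 (Nat.ble (nat_lit 485) i)) (@Bool.rec (fun _ => ℕ) rb486 rb487 (Nat.ble (nat_lit 487) i)) (Nat.ble (nat_lit 486) i)) (Nat.ble (nat_lit 484) i)) (@Bool.rec (fun _ => ℕ) (@Bool.rec (fun _ => ℕ) (@Bool.rec (fun _ => ℕ) rb488 rb489 (Nat.ble (nat_lit 489) i)) (@Bool.rec (fun _ => ℕ) rb490 rb491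 (Nat.ble (nat_lit 491) i)) (Nat.ble (nat_lit 490) i)) (@Bool.rec (fun _ => ℕ) (@Bool.rec (fun _ => ℕ) rb492 rb493 (Nat.ble (nat_lit 493) i)) (@Bool.rec (fun _ => ℕ) rb494 rb495 (Nat.ble (nat_lit 495) i)) (Nat.ble (nat_lit 494) i)) (Nat.ble (nat_lit 492) i)) (Nat.ble (nat_lit 488) i)) (@Bool.rec (fun _ => ℕ) (@Bool.rec (fun _ => ℕ) (@Bool.rec (fun _ => ℕ) (@Bool.rec (fun _ => ℕ) rb496 rb497 (Nat.ble (nat_lit 497) i)) (@Bool.rec (fun _ => ℕ) rb498 rb499 (Nat.ble (nat_lit 499) i)) (Nat.ble (nat_lit 498) i)) (@Bool.rec (fun _ => ℕ) (@Bool.rec (fun _ => ℕ) rb500 rb501 (Nat.ble (nat_lit 501) i)) (@Bool.rec (fun _ => ℕ) rb502 rb503 (Nat.ble (nat_lit 503) i)) (Nat.ble (nat_lit 502) i)) (Nat.ble (nat_lit 500) i)) (@Bool.rec (fun _ => ℕ) (@Bool.rec (fun _ => ℕ) (@Bool.rec (fun _ => ℕ) rb504 rb505 (Nat.ble (nat_lit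 505) i)) (@Bool.rec (fun _ => ℕ) rb506 rb507 (Nat.ble (nat_lit 507) i)) (Nat.ble (nat_lit 506) i)) (@Bool.rec (fun _ => ℕ) (@Bool.rec (fun _ => ℕ) rb508 rb509 (Nat.ble (nat_lit 509) i)) (@Bool.rec (fun _ => ℕ) rb510 rb511 (Nat.ble (nat_lit 511) i)) (Nat.ble (nat_lit 510) i)) (Nat.ble (nat_lit 508) i)) (Nat.ble (nat_lit 504) i)) (Nat.ble (nat_lit 496) i))

def rowBlk_n0_16 (i : ℕ) : ℕ := (@Bool.rec (fun _ => ℕ) (@Bool.rec (fun _ => ℕ) (@Bool.rec (fun _ => ℕ) (@Bool.rec (fun _ => ℕ) (@Bool.rec (fun _ => ℕ) rb512 rb513 (Nat.ble (nat_lit 513) i)) (@Bool.rec (fun _ => ℕ) rb514 rb515 (Nat.ble (nat_lit 515) i)) (Nat.ble (nat_lit 514) i)) (@Bool.rec (fun _ => ℕ) (@Bool.rec (fun _ => ℕ) rb516 rb517 (Nat.ble (nat_lit 517) i)) (@Bool.rec (fun _ => ℕ) rb518 rb519 (Nat.ble (nat_lit 519) i)) (Nat.ble (nat_lit 518)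 i)) (Nat.ble (nat_lit 516) i)) (@Bool.rec (fun _ => ℕ) (@Bool.rec (fun _ => ℕ) (@Bool.rec (fun _ => ℕ) rb520 rb521 (Nat.ble (nat_lit 521) i)) (@Bool.rec (fun _ => ℕ) rb522 rb523 (Nat.ble (nat_lit 523) i)) (Nat.ble (nat_lit 522) i)) (@Bool.rec (fun _ => ℕ) (@Bool.rec (fun _ => ℕ) rb524 rb525 (Nat.ble (nat_lit 525) i)) (@Bool.rec (fun _ => ℕ) rb526 rb527 (Nat.ble (nat_lit 527) i)) (Nat.ble (nat_lit 526) i)) (Nat.ble (nat_lit 524) i)) (Nat.ble (nat_lit 520) i)) (@Bool.rec (fun _ => ℕ) (@Bool.rec (fun _ => ℕ) (@Bool.rec (fun _ => ℕ) (@Bool.rec (fun _ => ℕ) rb528 rb529 (Nat.ble (nat_lit 529) i)) (@Bool.rec (fun _ => ℕ) rb530 rb531 (Nat.ble (nat_lit 531) i)) (Nat.ble (nat_lit 530) i)) (@Bool.rec (fun _ => ℕ) (@Bool.rec (fun _ => ℕ) rb532 rb533 (Nat.ble (nat_lit 533) i)) (@Bool.rec (fun _ => ℕ) rb534 rb535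 (Nat.ble (nat_lit 535) i)) (Nat.ble (nat_lit 534) i)) (Nat.ble (nat_lit 532) i)) (@Bool.rec (fun _ => ℕ) (@Bool.rec (fun _ => ℕ) (@Bool.rec (fun _ => ℕ) rb536 rb537 (Nat.ble (nat_lit 537) i)) (@Bool.rec (fun _ => ℕ) rb538 rb539 (Nat.ble (nat_lit 539) i)) (Nat.ble (nat_lit 538) i)) (@Bool.rec (fun _ => ℕ) (@Bool.rec (fun _ => ℕ) rb540 rb541 (Nat.ble (nat_lit 541) i)) (@Bool.rec (fun _ => ℕ) rb542 rb543 (Nat.ble (nat_lit 543) i)) (Nat.ble (nat_lit 542) i)) (Nat.ble (nat_lit 540) i)) (Nat.ble (nat_lit 536) i)) (Nat.ble (nat_lit 528) i))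

def rowBlk_n0_17 (i : ℕ) : ℕ := (@Bool.rec (fun _ => ℕ) (@Bool.rec (fun _ => ℕ) (@Bool.rec (fun _ => ℕ) (@Bool.rec (fun _ => ℕ) (@Bool.rec (fun _ => ℕ) rb544 rb545 (Nat.ble (nat_lit 545) i)) (@Bool.rec (fun _ => ℕ) rb546 rb547 (Nat.ble (nat_lit 547) i)) (Nat.ble (nat_lit 546) i)) (@Bool.rec (fun _ => ℕ) (@Bool.rec (fun _ => ℕ) rb548 rb549 (Nat.ble (nat_lit 549) i)) (@Bool.rec (fun _ => ℕ) rb550 rb551 (Nat.ble (nat_lit 551) i)) (Nat.ble (nat_lit 550) i)) (Nat.ble (nat_lit 548) i)) (@Bool.rec (fun _ => ℕ) (@Bool.rec (fun _ => ℕ) (@Bool.rec (fun _ => ℕ) rb552 rb553 (Nat.ble (nat_lit 553) i)) (@Bool.rec (fun _ => ℕ) rb554 rb555 (Nat.ble (nat_lit 555) i)) (Nat.ble (nat_lit 554) i)) (@Bool.rec (fun _ => ℕ) (@Bool.rec (fun _ => ℕ) rb556 rb557 (Nat.ble (nat_lit 557) i)) (@Bool.rec (fun _ => ℕ) rb558 rb559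 (Nat.ble (nat_lit 559) i)) (Nat.ble (nat_lit 558) i)) (Nat.ble (nat_lit 556) i)) (Nat.ble (nat_lit 552) i)) (@Bool.rec (fun _ => ℕ) (@Bool.rec (fun _ => ℕ) (@Bool.rec (fun _ => ℕ) (@Bool.rec (fun _ => ℕ) rb560 rb561 (Nat.ble (nat_lit 561) i)) (@Bool.rec (fun _ => ℕ) rb562 rb563 (Nat.ble (nat_lit 563) i)) (Nat.ble (nat_lit 562) i)) (@Bool.rec (fun _ => ℕ) (@Bool.rec (fun _ => ℕ) rb564 rb565 (Nat.ble (nat_lit 565) i)) (@Bool.rec (fun _ => ℕ) rb566 rb567 (Nat.ble (nat_lit 567) i)) (Nat.ble (nat_lit 566) i)) (Nat.ble (nat_lit 564) i)) (@Bool.rec (fun _ => ℕ) (@Bool.rec (fun _ => ℕ) (@Bool.rec (fun _ => ℕ) rb568 rb569 (Nat.ble (nat_lit 569) i)) (@Bool.rec (fun _ => ℕ) rb570 rb571 (Nat.ble (nat_lit 571) i)) (Nat.ble (nat_lit 570) i)) (@Bool.rec (fun _ => ℕ) (@Bool.rec (fun _ => ℕ) rb572 rb573 (Nat.ble (nat_lit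 573) i)) (@Bool.rec (fun _ => ℕ) rb574 rb575 (Nat.ble (nat_lit 575) i)) (Nat.ble (nat_lit 574) i)) (Nat.ble (nat_lit 572) i)) (Nat.ble (nat_lit 568) i)) (Nat.ble (nat_lit 560) i))

def rowBlk_n0_18 (i : ℕ) : ℕ := (@Bool.rec (fun _ => ℕ) (@Bool.rec (fun _ => ℕ) (@Bool.rec (fun _ => ℕ) (@Bool.rec (fun _ => ℕ) (@Bool.rec (fun _ => ℕ) rb576 rb577 (Nat.ble (nat_lit 577) i)) (@Bool.rec (fun _ => ℕ) rb578 rb579 (Nat.ble (nat_lit 579) i)) (Nat.ble (nat_lit 578) i)) (@Bool.rec (fun _ => ℕ) (@Bool.rec (fun _ => ℕ) rb580 rb581 (Nat.ble (nat_lit 581) i)) (@Bool.rec (fun _ => ℕ) rb582 rb583 (Nat.ble (nat_lit 583) i)) (Nat.ble (nat_lit 582) i)) (Nat.ble (nat_lit 580) i)) (@Bool.rec (fun _ => ℕ) (@Bool.rec (fun _ => ℕ) (@Bool.rec (fun _ => ℕ) rb584 rb585 (Nat.ble (nat_lit 585) i)) (@Bool.rec (fun _ => ℕ) rb586 rb587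 (Nat.ble (nat_lit 587) i)) (Nat.ble (nat_lit 586) i)) (@Bool.rec (fun _ => ℕ) (@Bool.rec (fun _ => ℕ) rb588 rb589 (Nat.ble (nat_lit 589) i)) (@Bool.rec (fun _ => ℕ) rb590 rb591 (Nat.ble (nat_lit 591) i)) (Nat.ble (nat_lit 590) i)) (Nat.ble (nat_lit 588) i)) (Nat.ble (nat_lit 584) i)) (@Bool.rec (fun _ => ℕ) (@Bool.rec (fun _ => ℕ) (@Bool.rec (fun _ => ℕ) (@Bool.rec (fun _ => ℕ) rb592 rb593 (Nat.ble (nat_lit 593) i)) (@Bool.rec (fun _ => ℕ) rb594 rb595 (Nat.ble (nat_lit 595) i)) (Nat.ble (nat_lit 594) i)) (@Bool.rec (fun _ => ℕ) (@Bool.rec (fun _ => ℕ) rb596 rb597 (Nat.ble (nat_lit 597) i)) (@Bool.rec (fun _ => ℕ) rb598 rb599 (Nat.ble (nat_lit 599) i)) (Nat.ble (nat_lit 598) i)) (Nat.ble (nat_lit 596) i)) (@Bool.rec (fun _ => ℕ) (@Bool.rec (fun _ => ℕ) (@Bool.rec (fun _ => ℕ) rb600 rb601 (Nat.ble (nat_lit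 601) i)) (@Bool.rec (fun _ => ℕ) rb602 rb603 (Nat.ble (nat_lit 603) i)) (Nat.ble (nat_lit 602) i)) (@Bool.rec (fun _ => ℕ) (@Bool.rec (fun _ => ℕ) rb604 rb605 (Nat.ble (nat_lit 605) i)) (@Bool.rec (fun _ => ℕ) rb606 rb607 (Nat.ble (nat_lit 607) i)) (Nat.ble (nat_lit 606) i)) (Nat.ble (nat_lit 604) i)) (Nat.ble (nat_lit 600) i)) (Nat.ble (nat_lit 592) i))

def rowBlk_n0_19 (i : ℕ) : ℕ := (@Bool.rec (fun _ => ℕ) (@Bool.rec (fun _ => ℕ) (@Bool.rec (fun _ => ℕ) (@Bool.rec (fun _ => ℕ) (@Bool.rec (fun _ => ℕ) rb608 rb609 (Nat.ble (nat_lit 609) i)) (@Bool.rec (fun _ => ℕ) rb610 rb611 (Nat.ble (nat_lit 611) i)) (Nat.ble (nat_lit 610) i)) (@Bool.rec (fun _ => ℕ) (@Bool.rec (fun _ => ℕ) rb612 rb613 (Nat.ble (nat_lit 613) i)) (@Bool.rec (fun _ => ℕ) rb614 rb615 (Nat.ble (nat_lit 615) i)) (Nat.ble (nat_lit 614)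 i)) (Nat.ble (nat_lit 612) i)) (@Bool.rec (fun _ => ℕ) (@Bool.rec (fun _ => ℕ) (@Bool.rec (fun _ => ℕ) rb616 rb617 (Nat.ble (nat_lit 617) i)) (@Bool.rec (fun _ => ℕ) rb618 rb619 (Nat.ble (nat_lit 619) i)) (Nat.ble (nat_lit 618) i)) (@Bool.rec (fun _ => ℕ) (@Bool.rec (fun _ => ℕ) rb620 rb621 (Nat.ble (nat_lit 621) i)) (@Bool.rec (fun _ => ℕ) rb622 rb623 (Nat.ble (nat_lit 623) i)) (Nat.ble (nat_lit 622) i)) (Nat.ble (nat_lit 620) i)) (Nat.ble (nat_lit 616) i)) (@Bool.rec (fun _ => ℕ) (@Bool.rec (fun _ => ℕ) (@Bool.rec (fun _ => ℕ) (@Bool.rec (fun _ => ℕ) rb624 rb625 (Nat.ble (nat_lit 625) i)) (@Bool.rec (fun _ => ℕ) rb626 rb627 (Nat.ble (nat_lit 627) i)) (Nat.ble (nat_lit 626) i)) (@Bool.rec (fun _ => ℕ) (@Bool.rec (fun _ => ℕ) rb628 rb629 (Nat.ble (nat_lit 629) i)) (@Bool.rec (fun _ => ℕ) rb630 rb631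 (Nat.ble (nat_lit 631) i)) (Nat.ble (nat_lit 630) i)) (Nat.ble (nat_lit 628) i)) (@Bool.rec (fun _ => ℕ) (@Bool.rec (fun _ => ℕ) (@Bool.rec (fun _ => ℕ) rb632 rb633 (Nat.ble (nat_lit 633) i)) (@Bool.rec (fun _ => ℕ) rb634 rb635 (Nat.ble (nat_lit 635) i)) (Nat.ble (nat_lit 634) i)) (@Bool.rec (fun _ => ℕ) (@Bool.rec (fun _ => ℕ) rb636 rb637 (Nat.ble (nat_lit 637) i)) (@Bool.rec (fun _ => ℕ) rb638 rb639 (Nat.ble (nat_lit 639) i)) (Nat.ble (nat_lit 638) i)) (Nat.ble (nat_lit 636) i)) (Nat.ble (nat_lit 632) i)) (Nat.ble (nat_lit 624) i))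

def rowBlk_n0_20 (i : ℕ) : ℕ := (@Bool.rec (fun _ => ℕ) (@Bool.rec (fun _ => ℕ) (@Bool.rec (fun _ => ℕ) (@Bool.rec (fun _ => ℕ) (@Bool.rec (fun _ => ℕ) rb640 rb641 (Nat.ble (nat_lit 641) i)) (@Bool.rec (fun _ => ℕ) rb642 rb643 (Nat.ble (nat_lit 643) i)) (Nat.ble (nat_lit 642) i)) (@Bool.rec (fun _ => ℕ) (@Bool.rec (fun _ => ℕ) rb644 rb645 (Nat.ble (nat_lit 645) i)) (@Bool.rec (fun _ => ℕ) rb646 rb647 (Nat.ble (nat_lit 647) i)) (Nat.ble (nat_lit 646) i)) (Nat.ble (nat_lit 644) i)) (@Bool.rec (fun _ => ℕ) (@Bool.rec (fun _ => ℕ) (@Bool.rec (fun _ => ℕ) rb648 rb649 (Nat.ble (nat_lit 649) i)) (@Bool.rec (fun _ => ℕ) rb650 rb651 (Nat.ble (nat_lit 651) i)) (Nat.ble (nat_lit 650) i)) (@Bool.rec (fun _ => ℕ) (@Bool.rec (fun _ => ℕ) rb652 rb653 (Nat.ble (nat_lit 653) i)) (@Bool.rec (fun _ => ℕ) rb654 rb655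 (Nat.ble (nat_lit 655) i)) (Nat.ble (nat_lit 654) i)) (Nat.ble (nat_lit 652) i)) (Nat.ble (nat_lit 648) i)) (@Bool.rec (fun _ => ℕ) (@Bool.rec (fun _ => ℕ) (@Bool.rec (fun _ => ℕ) (@Bool.rec (fun _ => ℕ) rb656 rb657 (Nat.ble (nat_lit 657) i)) (@Bool.rec (fun _ => ℕ) rb658 rb659 (Nat.ble (nat_lit 659) i)) (Nat.ble (nat_lit 658) i)) (@Bool.rec (fun _ => ℕ) (@Bool.rec (fun _ => ℕ) rb660 rb661 (Nat.ble (nat_lit 661) i)) (@Bool.rec (fun _ => ℕ) rb662 rb663 (Nat.ble (nat_lit 663) i)) (Nat.ble (nat_lit 662) i)) (Nat.ble (nat_lit 660) i)) (@Bool.rec (fun _ => ℕ) (@Bool.rec (fun _ => ℕ) (@Bool.rec (fun _ => ℕ) rb664 rb665 (Nat.ble (nat_lit 665) i)) (@Bool.rec (fun _ => ℕ) rb666 rb667 (Nat.ble (nat_lit 667) i)) (Nat.ble (nat_lit 666) i)) (@Bool.rec (fun _ => ℕ) (@Bool.rec (fun _ => ℕ) rb668 rb669 (Nat.ble (nat_lit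 669) i)) (@Bool.rec (fun _ => ℕ) rb670 rb671 (Nat.ble (nat_lit 671) i)) (Nat.ble (nat_lit 670) i)) (Nat.ble (nat_lit 668) i)) (Nat.ble (nat_lit 664) i)) (Nat.ble (nat_lit 656) i))

def rowBlk_n0_21 (i : ℕ) : ℕ := (@Bool.rec (fun _ => ℕ) (@Bool.rec (fun _ => ℕ) (@Bool.rec (fun _ => ℕ) (@Bool.rec (fun _ => ℕ) (@Bool.rec (fun _ => ℕ) rb672 rb673 (Nat.ble (nat_lit 673) i)) (@Bool.rec (fun _ => ℕ) rb674 rb675 (Nat.ble (nat_lit 675) i)) (Nat.ble (nat_lit 674) i)) (@Bool.rec (fun _ => ℕ) (@Bool.rec (fun _ => ℕ) rb676 rb677 (Nat.ble (nat_lit 677) i)) (@Bool.rec (fun _ => ℕ) rb678 rb679 (Nat.ble (nat_lit 679) i)) (Nat.ble (nat_lit 678) i)) (Nat.ble (nat_lit 676) i)) (@Bool.rec (fun _ => ℕ) (@Bool.rec (fun _ => ℕ) (@Bool.rec (fun _ => ℕ) rb680 rb681 (Nat.ble (nat_lit 681) i)) (@Bool.rec (fun _ => ℕ) rb682 rb683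 (Nat.ble (nat_lit 683) i)) (Nat.ble (nat_lit 682) i)) (@Bool.rec (fun _ => ℕ) (@Bool.rec (fun _ => ℕ) rb684 rb685 (Nat.ble (nat_lit 685) i)) (@Bool.rec (fun _ => ℕ) rb686 rb687 (Nat.ble (nat_lit 687) i)) (Nat.ble (nat_lit 686) i)) (Nat.ble (nat_lit 684) i)) (Nat.ble (nat_lit 680) i)) (@Bool.rec (fun _ => ℕ) (@Bool.rec (fun _ => ℕ) (@Bool.rec (fun _ => ℕ) (@Bool.rec (fun _ => ℕ) rb688 rb689 (Nat.ble (nat_lit 689) i)) (@Bool.rec (fun _ => ℕ) rb690 rb691 (Nat.ble (nat_lit 691) i)) (Nat.ble (nat_lit 690) i)) (@Bool.rec (fun _ => ℕ) (@Bool.rec (fun _ => ℕ) rb692 rb693 (Nat.ble (nat_lit 693) i)) (@Bool.rec (fun _ => ℕ) rb694 rb695 (Nat.ble (nat_lit 695) i)) (Nat.ble (nat_lit 694) i)) (Nat.ble (nat_lit 692) i)) (@Bool.rec (fun _ => ℕ) (@Bool.rec (fun _ => ℕ) (@Bool.rec (fun _ => ℕ) rb696 rb697 (Nat.ble (nat_lit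 697) i)) (@Bool.rec (fun _ => ℕ) rb698 rb699 (Nat.ble (nat_lit 699) i)) (Nat.ble (nat_lit 698) i)) (@Bool.rec (fun _ => ℕ) (@Bool.rec (fun _ => ℕ) rb700 rb701 (Nat.ble (nat_lit 701) i)) (@Bool.rec (fun _ => ℕ) rb702 rb703 (Nat.ble (nat_lit 703) i)) (Nat.ble (nat_lit 702) i)) (Nat.ble (nat_lit 700) i)) (Nat.ble (nat_lit 696) i)) (Nat.ble (nat_lit 688) i))

def rowBlk_n0_22 (i : ℕ) : ℕ := (@Bool.rec (fun _ => ℕ) (@Bool.rec (fun _ => ℕ) (@Bool.rec (fun _ => ℕ) (@Bool.rec (fun _ => ℕ) (@Bool.rec (fun _ => ℕ) rb704 rb705 (Nat.ble (nat_lit 705) i)) (@Bool.rec (fun _ => ℕ) rb706 rb707 (Nat.ble (nat_lit 707) i)) (Nat.ble (nat_lit 706) i)) (@Bool.rec (fun _ => ℕ) (@Bool.rec (fun _ => ℕ) rb708 rb709 (Nat.ble (nat_lit 709) i)) (@Bool.rec (fun _ => ℕ) rb710 rb711 (Nat.ble (nat_lit 711) i)) (Nat.ble (nat_lit 710)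 i)) (Nat.ble (nat_lit 708) i)) (@Bool.rec (fun _ => ℕ) (@Bool.rec (fun _ => ℕ) (@Bool.rec (fun _ => ℕ) rb712 rb713 (Nat.ble (nat_lit 713) i)) (@Bool.rec (fun _ => ℕ) rb714 rb715 (Nat.ble (nat_lit 715) i)) (Nat.ble (nat_lit 714) i)) (@Bool.rec (fun _ => ℕ) (@Bool.rec (fun _ => ℕ) rb716 rb717 (Nat.ble (nat_lit 717) i)) (@Bool.rec (fun _ => ℕ) rb718 rb719 (Nat.ble (nat_lit 719) i)) (Nat.ble (nat_lit 718) i)) (Nat.ble (nat_lit 716) i)) (Nat.ble (nat_lit 712) i)) (@Bool.rec (fun _ => ℕ) (@Bool.rec (fun _ => ℕ) (@Bool.rec (fun _ => ℕ) (@Bool.rec (fun _ => ℕ) rb720 rb721 (Nat.ble (nat_lit 721) i)) (@Bool.rec (fun _ => ℕ) rb722 rb723 (Nat.ble (nat_lit 723) i)) (Nat.ble (nat_lit 722) i)) (@Bool.rec (fun _ => ℕ) (@Bool.rec (fun _ => ℕ) rb724 rb725 (Nat.ble (nat_lit 725) i)) (@Bool.rec (fun _ => ℕ) rb726 rb727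 (Nat.ble (nat_lit 727) i)) (Nat.ble (nat_lit 726) i)) (Nat.ble (nat_lit 724) i)) (@Bool.rec (fun _ => ℕ) (@Bool.rec (fun _ => ℕ) (@Bool.rec (fun _ => ℕ) rb728 rb729 (Nat.ble (nat_lit 729) i)) (@Bool.rec (fun _ => ℕ) rb730 rb731 (Nat.ble (nat_lit 731) i)) (Nat.ble (nat_lit 730) i)) (@Bool.rec (fun _ => ℕ) (@Bool.rec (fun _ => ℕ) rb732 rb733 (Nat.ble (nat_lit 733) i)) (@Bool.rec (fun _ => ℕ) rb734 rb735 (Nat.ble (nat_lit 735) i)) (Nat.ble (nat_lit 734) i)) (Nat.ble (nat_lit 732) i)) (Nat.ble (nat_lit 728) i)) (Nat.ble (nat_lit 720) i))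

def rowBlk_n0_23 (i : ℕ) : ℕ := (@Bool.rec (fun _ => ℕ) (@Bool.rec (fun _ => ℕ) (@Bool.rec (fun _ => ℕ) (@Bool.rec (fun _ => ℕ) (@Bool.rec (fun _ => ℕ) rb736 rb737 (Nat.ble (nat_lit 737) i)) (@Bool.rec (fun _ => ℕ) rb738 rb739 (Nat.ble (nat_lit 739) i)) (Nat.ble (nat_lit 738) i)) (@Bool.rec (fun _ => ℕ) (@Bool.rec (fun _ => ℕ) rb740 rb741 (Nat.ble (nat_lit 741) i)) (@Bool.rec (fun _ => ℕ) rb742 rb743 (Nat.ble (nat_lit 743) i)) (Nat.ble (nat_lit 742) i)) (Nat.ble (nat_lit 740) i)) (@Bool.rec (fun _ => ℕ) (@Bool.rec (fun _ => ℕ) (@Bool.rec (fun _ => ℕ) rb744 rb745 (Nat.ble (nat_lit 745) i)) (@Bool.rec (fun _ => ℕ) rb746 rb747 (Nat.ble (nat_lit 747) i)) (Nat.ble (nat_lit 746) i)) (@Bool.rec (fun _ => ℕ) (@Bool.rec (fun _ => ℕ) rb748 rb749 (Nat.ble (nat_lit 749) i)) (@Bool.rec (fun _ => ℕ) rb750 rb751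 (Nat.ble (nat_lit 751) i)) (Nat.ble (nat_lit 750) i)) (Nat.ble (nat_lit 748) i)) (Nat.ble (nat_lit 744) i)) (@Bool.rec (fun _ => ℕ) (@Bool.rec (fun _ => ℕ) (@Bool.rec (fun _ => ℕ) (@Bool.rec (fun _ => ℕ) rb752 rb753 (Nat.ble (nat_lit 753) i)) (@Bool.rec (fun _ => ℕ) rb754 rb755 (Nat.ble (nat_lit 755) i)) (Nat.ble (nat_lit 754) i)) (@Bool.rec (fun _ => ℕ) (@Bool.rec (fun _ => ℕ) rb756 rb757 (Nat.ble (nat_lit 757) i)) (@Bool.rec (fun _ => ℕ) rb758 rb759 (Nat.ble (nat_lit 759) i)) (Nat.ble (nat_lit 758) i)) (Nat.ble (nat_lit 756) i)) (@Bool.rec (fun _ => ℕ) (@Bool.rec (fun _ => ℕ) (@Bool.rec (fun _ => ℕ) rb760 rb761 (Nat.ble (nat_lit 761) i)) (@Bool.rec (fun _ => ℕ) rb762 rb763 (Nat.ble (nat_lit 763) i)) (Nat.ble (nat_lit 762) i)) (@Bool.rec (fun _ => ℕ) (@Bool.rec (fun _ => ℕ) rb764 rb765 (Nat.ble (nat_lit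 765) i)) (@Bool.rec (fun _ => ℕ) rb766 rb767 (Nat.ble (nat_lit 767) i)) (Nat.ble (nat_lit 766) i)) (Nat.ble (nat_lit 764) i)) (Nat.ble (nat_lit 760) i)) (Nat.ble (nat_lit 752) i))

def rowBlk_n0_24 (i : ℕ) : ℕ := (@Bool.rec (fun _ => ℕ) (@Bool.rec (fun _ => ℕ) (@Bool.rec (fun _ => ℕ) (@Bool.rec (fun _ => ℕ) (@Bool.rec (fun _ => ℕ) rb768 rb769 (Nat.ble (nat_lit 769) i)) (@Bool.rec (fun _ => ℕ) rb770 rb771 (Nat.ble (nat_lit 771) i)) (Nat.ble (nat_lit 770) i)) (@Bool.rec (fun _ => ℕ) (@Bool.rec (fun _ => ℕ) rb772 rb773 (Nat.ble (nat_lit 773) i)) (@Bool.rec (fun _ => ℕ) rb774 rb775 (Nat.ble (nat_lit 775) i)) (Nat.ble (nat_lit 774) i)) (Nat.ble (nat_lit 772) i)) (@Bool.rec (fun _ => ℕ) (@Bool.rec (fun _ => ℕ) (@Bool.rec (fun _ => ℕ) rb776 rb777 (Nat.ble (nat_lit 777) i)) (@Bool.rec (fun _ => ℕ) rb778 rb779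 (Nat.ble (nat_lit 779) i)) (Nat.ble (nat_lit 778) i)) (@Bool.rec (fun _ => ℕ) (@Bool.rec (fun _ => ℕ) rb780 rb781 (Nat.ble (nat_lit 781) i)) (@Bool.rec (fun _ => ℕ) rb782 rb783 (Nat.ble (nat_lit 783) i)) (Nat.ble (nat_lit 782) i)) (Nat.ble (nat_lit 780) i)) (Nat.ble (nat_lit 776) i)) (@Bool.rec (fun _ => ℕ) (@Bool.rec (fun _ => ℕ) (@Bool.rec (fun _ => ℕ) (@Bool.rec (fun _ => ℕ) rb784 rb785 (Nat.ble (nat_lit 785) i)) (@Bool.rec (fun _ => ℕ) rb786 rb787 (Nat.ble (nat_lit 787) i)) (Nat.ble (nat_lit 786) i)) (@Bool.rec (fun _ => ℕ) (@Bool.rec (fun _ => ℕ) rb788 rb789 (Nat.ble (nat_lit 789) i)) (@Bool.rec (fun _ => ℕ) rb790 rb791 (Nat.ble (nat_lit 791) i)) (Nat.ble (nat_lit 790) i)) (Nat.ble (nat_lit 788) i)) (@Bool.rec (fun _ => ℕ) (@Bool.rec (fun _ => ℕ) (@Bool.rec (fun _ => ℕ) rb792 rb793 (Nat.ble (nat_lit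 793) i)) (@Bool.rec (fun _ => ℕ) rb794 rb795 (Nat.ble (nat_lit 795) i)) (Nat.ble (nat_lit 794) i)) (@Bool.rec (fun _ => ℕ) (@Bool.rec (fun _ => ℕ) rb796 rb797 (Nat.ble (nat_lit 797) i)) (@Bool.rec (fun _ => ℕ) rb798 rb799 (Nat.ble (nat_lit 799) i)) (Nat.ble (nat_lit 798) i)) (Nat.ble (nat_lit 796) i)) (Nat.ble (nat_lit 792) i)) (Nat.ble (nat_lit 784) i))

def rowBlk_n0_25 (i : ℕ) : ℕ := (@Bool.rec (fun _ => ℕ) (@Bool.rec (fun _ => ℕ) (@Bool.rec (fun _ => ℕ) (@Bool.rec (fun _ => ℕ) (@Bool.rec (fun _ => ℕ) rb800 rb801 (Nat.ble (nat_lit 801) i)) (@Bool.rec (fun _ => ℕ) rb802 rb803 (Nat.ble (nat_lit 803) i)) (Nat.ble (nat_lit 802) i)) (@Bool.rec (fun _ => ℕ) (@Bool.rec (fun _ => ℕ) rb804 rb805 (Nat.ble (nat_lit 805) i)) (@Bool.rec (fun _ => ℕ) rb806 rb807 (Nat.ble (nat_lit 807) i)) (Nat.ble (nat_lit 806)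 i)) (Nat.ble (nat_lit 804) i)) (@Bool.rec (fun _ => ℕ) (@Bool.rec (fun _ => ℕ) (@Bool.rec (fun _ => ℕ) rb808 rb809 (Nat.ble (nat_lit 809) i)) (@Bool.rec (fun _ => ℕ) rb810 rb811 (Nat.ble (nat_lit 811) i)) (Nat.ble (nat_lit 810) i)) (@Bool.rec (fun _ => ℕ) (@Bool.rec (fun _ => ℕ) rb812 rb813 (Nat.ble (nat_lit 813) i)) (@Bool.rec (fun _ => ℕ) rb814 rb815 (Nat.ble (nat_lit 815) i)) (Nat.ble (nat_lit 814) i)) (Nat.ble (nat_lit 812) i)) (Nat.ble (nat_lit 808) i)) (@Bool.rec (fun _ => ℕ) (@Bool.rec (fun _ => ℕ) (@Bool.rec (fun _ => ℕ) (@Bool.rec (fun _ => ℕ) rb816 rb817 (Nat.ble (nat_lit 817) i)) (@Bool.rec (fun _ => ℕ) rb818 rb819 (Nat.ble (nat_lit 819) i)) (Nat.ble (nat_lit 818) i)) (@Bool.rec (fun _ => ℕ) (@Bool.rec (fun _ => ℕ) rb820 rb821 (Nat.ble (nat_lit 821) i)) (@Bool.rec (fun _ => ℕ) rb822 rb823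 (Nat.ble (nat_lit 823) i)) (Nat.ble (nat_lit 822) i)) (Nat.ble (nat_lit 820) i)) (@Bool.rec (fun _ => ℕ) (@Bool.rec (fun _ => ℕ) (@Bool.rec (fun _ => ℕ) rb824 rb825 (Nat.ble (nat_lit 825) i)) (@Bool.rec (fun _ => ℕ) rb826 rb827 (Nat.ble (nat_lit 827) i)) (Nat.ble (nat_lit 826) i)) (@Bool.rec (fun _ => ℕ) (@Bool.rec (fun _ => ℕ) rb828 rb829 (Nat.ble (nat_lit 829) i)) (@Bool.rec (fun _ => ℕ) rb830 rb831 (Nat.ble (nat_lit 831) i)) (Nat.ble (nat_lit 830) i)) (Nat.ble (nat_lit 828) i)) (Nat.ble (nat_lit 824) i)) (Nat.ble (nat_lit 816) i))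

def rowBlk_n0_26 (i : ℕ) : ℕ := (@Bool.rec (fun _ => ℕ) (@Bool.rec (fun _ => ℕ) (@Bool.rec (fun _ => ℕ) (@Bool.rec (fun _ => ℕ) (@Bool.rec (fun _ => ℕ) rb832 rb833 (Nat.ble (nat_lit 833) i)) (@Bool.rec (fun _ => ℕ) rb834 rb835 (Nat.ble (nat_lit 835) i)) (Nat.ble (nat_lit 834) i)) (@Bool.rec (fun _ => ℕ) (@Bool.rec (fun _ => ℕ) rb836 rb837 (Nat.ble (nat_lit 837) i)) (@Bool.rec (fun _ => ℕ) rb838 rb839 (Nat.ble (nat_lit 839) i)) (Nat.ble (nat_lit 838) i)) (Nat.ble (nat_lit 836) i)) (@Bool.rec (fun _ => ℕ) (@Bool.rec (fun _ => ℕ) (@Bool.rec (fun _ => ℕ) rb840 rb841 (Nat.ble (nat_lit 841) i)) (@Bool.rec (fun _ => ℕ) rb842 rb843 (Nat.ble (nat_lit 843) i)) (Nat.ble (nat_lit 842) i)) (@Bool.rec (fun _ => ℕ) (@Bool.rec (fun _ => ℕ) rb844 rb845 (Nat.ble (nat_lit 845) i)) (@Bool.rec (fun _ => ℕ) rb846 rb847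 (Nat.ble (nat_lit 847) i)) (Nat.ble (nat_lit 846) i)) (Nat.ble (nat_lit 844) i)) (Nat.ble (nat_lit 840) i)) (@Bool.rec (fun _ => ℕ) (@Bool.rec (fun _ => ℕ) (@Bool.rec (fun _ => ℕ) (@Bool.rec (fun _ => ℕ) rb848 rb849 (Nat.ble (nat_lit 849) i)) (@Bool.rec (fun _ => ℕ) rb850 rb851 (Nat.ble (nat_lit 851) i)) (Nat.ble (nat_lit 850) i)) (@Bool.rec (fun _ => ℕ) (@Bool.rec (fun _ => ℕ) rb852 rb853 (Nat.ble (nat_lit 853) i)) (@Bool.rec (fun _ => ℕ) rb854 rb855 (Nat.ble (nat_lit 855) i)) (Nat.ble (nat_lit 854) i)) (Nat.ble (nat_lit 852) i)) (@Bool.rec (fun _ => ℕ) (@Bool.rec (fun _ => ℕ) (@Bool.rec (fun _ => ℕ) rb856 rb857 (Nat.ble (nat_lit 857) i)) (@Bool.rec (fun _ => ℕ) rb858 rb859 (Nat.ble (nat_lit 859) i)) (Nat.ble (nat_lit 858) i)) (@Bool.rec (fun _ => ℕ) (@Bool.rec (fun _ => ℕ) rb860 rb861 (Nat.ble (nat_lit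 861) i)) (@Bool.rec (fun _ => ℕ) rb862 rb863 (Nat.ble (nat_lit 863) i)) (Nat.ble (nat_lit 862) i)) (Nat.ble (nat_lit 860) i)) (Nat.ble (nat_lit 856) i)) (Nat.ble (nat_lit 848) i))

def rowBlk_n0_27 (i : ℕ) : ℕ := (@Bool.rec (fun _ => ℕ) rb864 rb865 (Nat.ble (nat_lit 865) i))

def rowBlk (i : ℕ) : ℕ := (@Bool.rec (fun _ => ℕ) (@Bool.rec (fun _ => ℕ) (@Bool.rec (fun _ => ℕ) (@Bool.rec (fun _ => ℕ) (rowBlk_n0_0 i) (@Bool.rec (fun _ => ℕ) (rowBlk_n0_1 i) (rowBlk_n0_2 i) (Nat.ble (nat_lit 64) i)) (Nat.ble (nat_lit 32) i)) (@Bool.rec (fun _ => ℕ) (@Bool.rec (fun _ => ℕ) (rowBlk_n0_3 i) (rowBlk_n0_4 i) (Nat.ble (nat_lit 128) i)) (@Bool.rec (fun _ => ℕ) (rowBlk_n0_5 i) (rowBlk_n0_6 i) (Nat.ble (nat_lit 192) i)) (Nat.ble (nat_lit 160) i)) (Nat.ble (nat_lit 96) i)) (@Bool.rec (fun _ => ℕ) (@Bool.rec (fun _ =>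 ℕ) (rowBlk_n0_7 i) (@Bool.rec (fun _ => ℕ) (rowBlk_n0_8 i) (rowBlk_n0_9 i) (Nat.ble (nat_lit 288) i)) (Nat.ble (nat_lit 256) i)) (@Bool.rec (fun _ => ℕ) (@Bool.rec (fun _ => ℕ) (rowBlk_n0_10 i) (rowBlk_n0_11 i) (Nat.ble (nat_lit 352) i)) (@Bool.rec (fun _ => ℕ) (rowBlk_n0_12 i) (rowBlk_n0_13 i) (Nat.ble (nat_lit 416) i)) (Nat.ble (nat_lit 384) i)) (Nat.ble (nat_lit 320) i)) (Nat.ble (nat_lit 224) i)) (@Bool.rec (fun _ => ℕ) (@Bool.rec (fun _ => ℕ) (@Bool.rec (fun _ => ℕ) (rowBlk_n0_14 i) (@Bool.rec (fun _ => ℕ) (rowBlk_n0_15 i) (rowBlk_n0_16 i) (Nat.ble (nat_lit 512) i)) (Nat.ble (nat_lit 480) i)) (@Bool.rec (fun _ => ℕ) (@Bool.rec (fun _ => ℕ) (rowBlk_n0_17 i) (rowBlk_n0_18 i) (Nat.ble (nat_lit 576) i)) (@Bool.rec (fun _ => ℕ) (rowBlk_n0_19 i) (rowBlk_n0_20 i) (Nat.ble (nat_lit 640) i)) (Nat.ble (nat_lit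 608) i)) (Nat.ble (nat_lit 544) i)) (@Bool.rec (fun _ => ℕ) (@Bool.rec (fun _ => ℕ) (rowBlk_n0_21 i) (@Bool.rec (fun _ => ℕ) (rowBlk_n0_22 i) (rowBlk_n0_23 i) (Nat.ble (nat_lit 736) i)) (Nat.ble (nat_lit 704) i)) (@Bool.rec (fun _ => ℕ) (@Bool.rec (fun _ => ℕ) (rowBlk_n0_24 i) (rowBlk_n0_25 i) (Nat.ble (nat_lit 800) i)) (@Bool.rec (fun _ => ℕ) (rowBlk_n0_26 i) (rowBlk_n0_27 i) (Nat.ble (nat_lit 864) i)) (Nat.ble (nat_lit 832) i)) (Nat.ble (nat_lit 768) i)) (Nat.ble (nat_lit 672) i)) (Nat.ble (nat_lit 448) i))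

def word_n0_0 (i : ℕ) : List ℕ := (@Bool.rec (fun _ => List ℕ) (@Bool.rec (fun _ => List ℕ) (@Bool.rec (fun _ => List ℕ) (@Bool.rec (fun _ => List ℕ) (@Bool.rec (fun _ => List ℕ) [2, 2] [2, 4, 2, 4, 2, 4] (Nat.ble (nat_lit 1) i)) (@Bool.rec (fun _ => List ℕ) [2, 6, 2, 6] [2, 8, 2, 8] (Nat.ble (nat_lit 3) i)) (Nat.ble (nat_lit 2) i)) (@Bool.rec (fun _ => List ℕ) (@Bool.rec (fun _ => List ℕ) [2, 10, 2, 10] [2, 16, 2, 16] (Nat.ble (nat_lit 5) i)) (@Bool.rec (fun _ => List ℕ) [2, 12, 2, 12] [2, 18, 2, 18] (Nat.ble (nat_lit 7) i)) (Nat.ble (nat_lit 6) i)) (Nat.ble (nat_lit 4) i)) (@Bool.rec (fun _ => List ℕ) (@Bool.rec (fun _ => List ℕ) (@Bool.rec (fun _ => List ℕ) [4, 4] [4, 6, 4, 6, 4, 6] (Nat.ble (nat_lit 9) i)) (@Bool.rec (fun _ => List ℕ) [4, 8, 4, 8] [4, 10, 4, 10] (Nat.ble (nat_lit 11) i)) (Nat.ble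 (nat_lit 10) i)) (@Bool.rec (fun _ => List ℕ) (@Bool.rec (fun _ => List ℕ) [4, 16, 4, 16] [4, 12, 4, 12] (Nat.ble (nat_lit 13) i)) (@Bool.rec (fun _ => List ℕ) [4, 18, 4, 18] [6, 6] (Nat.ble (nat_lit 15) i)) (Nat.ble (nat_lit 14) i)) (Nat.ble (nat_lit 12) i)) (Nat.ble (nat_lit 8) i)) (@Bool.rec (fun _ => List ℕ) (@Bool.rec (fun _ => List ℕ) (@Bool.rec (fun _ => List ℕ) (@Bool.rec (fun _ => List ℕ) [6, 8, 6, 8, 6, 8] [6, 10, 6, 10] (Nat.ble (nat_lit 17) i)) (@Bool.rec (fun _ => List ℕ) [6, 16, 6, 16, 6, 16] [6, 12, 6, 12] (Nat.ble (nat_lit 19) i)) (Nat.ble (nat_lit 18) i)) (@Bool.rec (fun _ => List ℕ) (@Bool.rec (fun _ => List ℕ) [6, 18, 6, 18] [8, 8] (Nat.ble (nat_lit 21) i)) (@Bool.rec (fun _ => List ℕ) [8, 10, 8, 10, 8, 10] [8, 16, 8, 16] (Nat.ble (nat_lit 23) i)) (Nat.ble (nat_lit 22) i)) (Nat.ble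 (nat_lit 20) i)) (@Bool.rec (fun _ => List ℕ) (@Bool.rec (fun _ => List ℕ) (@Bool.rec (fun _ => List ℕ) [8, 12, 8, 12] [8, 18, 8, 18] (Nat.ble (nat_lit 25) i)) (@Bool.rec (fun _ => List ℕ) [10, 10] [10, 16, 10, 16] (Nat.ble (nat_lit 27) i)) (Nat.ble (nat_lit 26) i)) (@Bool.rec (fun _ => List ℕ) (@Bool.rec (fun _ => List ℕ) [10, 12, 10, 12, 10, 12] [10, 18, 10, 18] (Nat.ble (nat_lit 29) i)) (@Bool.rec (fun _ => List ℕ) [16, 16] [16, 18, 16, 18, 16, 18] (Nat.ble (nat_lit 31) i)) (Nat.ble (nat_lit 30) i)) (Nat.ble (nat_lit 28) i)) (Nat.ble (nat_lit 24) i)) (Nat.ble (nat_lit 16) i))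

def word_n0_1 (i : ℕ) : List ℕ := (@Bool.rec (fun _ => List ℕ) (@Bool.rec (fun _ => List ℕ) (@Bool.rec (fun _ => List ℕ) (@Bool.rec (fun _ => List ℕ) (@Bool.rec (fun _ => List ℕ) [12, 16, 12, 16] [12, 12] (Nat.ble (nat_lit 33) i)) (@Bool.rec (fun _ => List ℕ) [12, 18, 12, 18] [18, 18] (Nat.ble (nat_lit 35) i)) (Nat.ble (nat_lit 34) i)) (@Bool.rec (fun _ => List ℕ) (@Bool.rec (fun _ => List ℕ) [6, 4, 2, 6, 8, 10, 6, 16, 18, 6, 4, 2, 6, 8, 10, 6, 16, 18, 6, 4, 2, 6, 8, 10, 6, 16, 18, 6, 4, 2, 6, 8, 10, 6, 16, 18, 6, 4, 2, 6, 8, 10, 6, 16, 18, 6, 4, 2, 6, 8, 10, 6, 16, 18, 6, 4, 2, 6, 8, 10, 6, 16, 18, 6, 4, 2, 6, 8, 10, 6, 16, 18, 6, 4, 2, 6, 8, 10, 6, 16, 18, 6, 4, 2, 6, 8, 10, 6, 16, 18] [0] (Nat.ble (nat_lit 37) i)) (@Bool.rec (fun _ => List ℕ) [14] ([] : List ℕ) (Nat.ble (nat_lit 39) i)) (Nat.ble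 (nat_lit 38) i)) (Nat.ble (nat_lit 36) i)) (@Bool.rec (fun _ => List ℕ) (@Bool.rec (fun _ => List ℕ) (@Bool.rec (fun _ => List ℕ) [0, 1] [1, 0] (Nat.ble (nat_lit 41) i)) (@Bool.rec (fun _ => List ℕ) [2, 3] [3, 2] (Nat.ble (nat_lit 43) i)) (Nat.ble (nat_lit 42) i)) (@Bool.rec (fun _ => List ℕ) (@Bool.rec (fun _ => List ℕ) [4, 5] [5, 4] (Nat.ble (nat_lit 45) i)) (@Bool.rec (fun _ => List ℕ) [6, 7] [7, 6] (Nat.ble (nat_lit 47) i)) (Nat.ble (nat_lit 46) i)) (Nat.ble (nat_lit 44) i)) (Nat.ble (nat_lit 40) i)) (@Bool.rec (fun _ => List ℕ) (@Bool.rec (fun _ => List ℕ) (@Bool.rec (fun _ => List ℕ) (@Bool.rec (fun _ => List ℕ) [8, 9] [9, 8] (Nat.ble (nat_lit 49) i)) (@Bool.rec (fun _ => List ℕ) [10, 11] [11, 10] (Nat.ble (nat_lit 51) i)) (Nat.ble (nat_lit 50) i)) (@Bool.rec (fun _ => List ℕ) (@Bool.rec (fun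 _ => List ℕ) [12, 13] [13, 12] (Nat.ble (nat_lit 53) i)) (@Bool.rec (fun _ => List ℕ) [14, 15] [15, 14] (Nat.ble (nat_lit 55) i)) (Nat.ble (nat_lit 54) i)) (Nat.ble (nat_lit 52) i)) (@Bool.rec (fun _ => List ℕ) (@Bool.rec (fun _ => List ℕ) (@Bool.rec (fun _ => List ℕ) [16, 17] [17, 16] (Nat.ble (nat_lit 57) i)) (@Bool.rec (fun _ => List ℕ) [18, 19] [19, 18] (Nat.ble (nat_lit 59) i)) (Nat.ble (nat_lit 58) i)) (@Bool.rec (fun _ => List ℕ) (@Bool.rec (fun _ => List ℕ) [2] [4] (Nat.ble (nat_lit 61) i)) (@Bool.rec (fun _ => List ℕ) [6] [8] (Nat.ble (nat_lit 63) i)) (Nat.ble (nat_lit 62) i)) (Nat.ble (nat_lit 60) i)) (Nat.ble (nat_lit 56) i)) (Nat.ble (nat_lit 48) i))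

def word_n0_2 (i : ℕ) : List ℕ := (@Bool.rec (fun _ => List ℕ) [10] (@Bool.rec (fun _ => List ℕ) [12] [16] (Nat.ble (nat_lit 66) i)) (Nat.ble (nat_lit 65) i))

def word (i : ℕ) : List ℕ := (@Bool.rec (fun _ => List ℕ) (word_n0_0 i) (@Bool.rec (fun _ => List ℕ) (word_n0_1 i) (word_n0_2 i) (Nat.ble (nat_lit 64) i)) (Nat.ble (nat_lit 32) i))

def fact (k : ℕ) : ℕ := Nat.land (Nat.shiftRight (factBlk (Nat.shiftRight k (nat_lit 8))) (Nat.mul (Nat.land k (nat_lit 255)) (nat_lit 48))) (nat_lit 281474976710655)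

def slot (v : ℕ) : ℕ := Nat.land (Nat.shiftRight (parBlk (Nat.shiftRight v (nat_lit 8))) (Nat.mul (Nat.land v (nat_lit 255)) (nat_lit 32))) (nat_lit 4294967295)

def par (v : ℕ) : ℕ := Nat.land (slot v) (nat_lit 1048575)

def plet (v : ℕ) : ℕ := Nat.shiftRight (slot v) (nat_lit 20)

def isFin (v : ℕ) : Bool := Nat.beq (Nat.land (Nat.shiftRight (finBlk (Nat.shiftRight v (nat_lit 12))) (Nat.land v (nat_lit 4095))) (nat_lit 1)) (nat_lit 1)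

def row (v : ℕ) : ℕ := Nat.land (Nat.shiftRight (rowBlk (Nat.shiftRight v (nat_lit 4))) (Nat.mul (Nat.land v (nat_lit 15)) (nat_lit 480))) (nat_lit 3121748550315992231381597229793166305748598142664971150859156959625371738819765620120306103063491971159826931121406622895447975679288285306290175)

def inv (g : ℕ) : Bool := and (Nat.blt g 10) (Nat.beq (Nat.land (Nat.shiftRight (nat_lit 894) g) (nat_lit 1)) (nat_lit 1))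

def blockOk (j : ℕ) : Bool := blockF par plet fact inv word (nat_lit 60) (nat_lit 67) (nat_lit 13846) (Nat.mul j (nat_lit 256)) (nat_lit 256) (nat_lit 0) (certBlk j)

def rowOk (v : ℕ) : Bool := rowF fact inv (nat_lit 13846) isFin row (nat_lit 47360) (nat_lit 20) v

def parOk (v : ℕ) : Bool := or (Nat.beq v 0) (Nat.blt (par v) v)

def gname : ℕ → Cfsg.Spor.Fi23.Gen
  | 0 => .a
  | 1 => .b
  | 2 => .c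
  | 3 => .d
  | 4 => .e
  | 5 => .f
  | 6 => .g
  | 7 => .j
  | 8 => .h
  | 9 => .i
  | _ => .a

end Cfsg.Agent.Lib.Helper28_Fi23c2.U
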