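import Cfsg.Agent.Lib.Helper28_Fi24HeL

/-! Generated: the relators of `He` on the letters `12..18`, file 0; by helper28. -/

set_option autoImplicit false
set_option maxRecDepth 1000000
set_option Elab.async false

namespace Cfsg.Agent.Lib.Helper28_Fi24TT
open Cfsg.Agent.Lib.helper19_TC2 Cfsg.Agent.Lib.helper19_TC2L Cfsg.Agent.Lib.helper19_Benes
open Cfsg.Agent.Lib.helper19_Fi24L Cfsg.Agent.Lib.helper19_Fi24A

theorem rpl_cd_0 : checkPlanes hnets 19 (pw [14, 15] 10) 16 0 = true := by decide +kernel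

theorem rpl_cd_16 : checkPlanes hnets 19 (pw [14, 15] 10) 3 16 = true := by decide +kernel

theorem rfix_cd : ∀ x < 306936, tr A2 (pw [14, 15] 10) x = x := by
  apply fix2 (pw [14, 15] 10) (by decide)
  intro j hj
  rcases Nat.lt_or_ge j 16 with h0 | h0
  · exact checkPlanes_sound hnets 19 _ 16 0 rpl_cd_0 j (by omega) (by omega)
  exact checkPlanes_sound hnets 19 _ 3 16 rpl_cd_16 j (by omega) (by omega)

theorem rpl_x2_0 : checkPlanes hnets 19 ([16] ++ pw [14, 13, 12] 3) 19 0 = true := by decide +kernel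

theorem rfix_x2 : ∀ x < 306936, tr A2 ([16] ++ pw [14, 13, 12] 3) x = x := by
  apply fix2 ([16] ++ pw [14, 13, 12] 3) (by decide)
  intro j hj
  exact checkPlanes_sound hnets 19 _ 19 0 rpl_x2_0 j (by omega) (by omega)

theorem rpl_fg_0 : checkPlanes hnets 19 (pw [17, 18] 4) 19 0 = true := by decide +kernel

theorem rfix_fg : ∀ x < 306936, tr A2 (pw [17, 18] 4) x = x := by
  apply fix2 (pw [17, 18] 4) (by decide)
  intro j hj
  exact checkPlanes_sound hnets 19 _ 19 0 rpl_fg_0 j (by omega) (by omega)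

theorem rpl_de_0 : checkPlanes hnets 19 (pw [15, 16] 3) 19 0 = true := by decide +kernel

theorem rfix_de : ∀ x < 306936, tr A2 (pw [15, 16] 3) x = x := by
  apply fix2 (pw [15, 16] 3) (by decide)
  intro j hj
  exact checkPlanes_sound hnets 19 _ 19 0 rpl_de_0 j (by omega) (by omega)

theorem rpl_dg_0 : checkPlanes hnets 19 (pw [15, 18] 3) 19 0 = true := by decide +kernel

theorem rfix_dg : ∀ x < 306936, tr A2 (pw [15, 18] 3) x = x := by
  apply fix2 (pw [15, 18] 3) (by decide)
  intro j hj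
  exact checkPlanes_sound hnets 19 _ 19 0 rpl_dg_0 j (by omega) (by omega)

theorem rpl_ac_0 : checkPlanes hnets 19 (pw [12, 14] 2) 19 0 = true := by decide +kernel

theorem rfix_ac : ∀ x < 306936, tr A2 (pw [12, 14] 2) x = x := by
  apply fix2 (pw [12, 14] 2) (by decide)
  intro j hj
  exact checkPlanes_sound hnets 19 _ 19 0 rpl_ac_0 j (by omega) (by omega)

theorem rpl_ae_0 : checkPlanes hnets 19 (pw [12, 16] 2) 19 0 = true := by decide +kernel

theorem rfix_ae : ∀ x < 306936, tr A2 (pw [12, 16] 2) x = x := by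
  apply fix2 (pw [12, 16] 2) (by decide)
  intro j hj
  exact checkPlanes_sound hnets 19 _ 19 0 rpl_ae_0 j (by omega) (by omega)

theorem rpl_ag_0 : checkPlanes hnets 19 (pw [12, 18] 2) 19 0 = true := by decide +kernel

theorem rfix_ag : ∀ x < 306936, tr A2 (pw [12, 18] 2) x = x := by
  apply fix2 (pw [12, 18] 2) (by decide)
  intro j hj
  exact checkPlanes_sound hnets 19 _ 19 0 rpl_ag_0 j (by omega) (by omega)

theorem rpl_be_0 : checkPlanes hnets 19 (pw [13, 16] 2) 19 0 = true := by decide +kernel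

theorem rfix_be : ∀ x < 306936, tr A2 (pw [13, 16] 2) x = x := by
  apply fix2 (pw [13, 16] 2) (by decide)
  intro j hj
  exact checkPlanes_sound hnets 19 _ 19 0 rpl_be_0 j (by omega) (by omega)

theorem rpl_bg_0 : checkPlanes hnets 19 (pw [13, 18] 2) 19 0 = true := by decide +kernel

theorem rfix_bg : ∀ x < 306936, tr A2 (pw [13, 18] 2) x = x := by
  apply fix2 (pw [13, 18] 2) (by decide)
  intro j hj
  exact checkPlanes_sound hnets 19 _ 19 0 rpl_bg_0 j (by omega) (by omega)

theorem rpl_cf_0 : checkPlanes hnets 19 (pw [14, 17] 2) 19 0 = true := by decide +kernel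

theorem rfix_cf : ∀ x < 306936, tr A2 (pw [14, 17] 2) x = x := by
  apply fix2 (pw [14, 17] 2) (by decide)
  intro j hj
  exact checkPlanes_sound hnets 19 _ 19 0 rpl_cf_0 j (by omega) (by omega)

theorem rpl_ef_0 : checkPlanes hnets 19 (pw [16, 17] 2) 19 0 = true := by decide +kernel

theorem rfix_ef : ∀ x < 306936, tr A2 (pw [16, 17] 2) x = x := by
  apply fix2 (pw [16, 17] 2) (by decide)
  intro j hj
  exact checkPlanes_sound hnets 19 _ 19 0 rpl_ef_0 j (by omega) (by omega)

theorem rpl_aa_0 : checkPlanes hnets 19 ([12, 12]) 19 0 = true := by decide +kernel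

theorem rfix_aa : ∀ x < 306936, tr A2 ([12, 12]) x = x := by
  apply fix2 ([12, 12]) (by decide)
  intro j hj
  exact checkPlanes_sound hnets 19 _ 19 0 rpl_aa_0 j (by omega) (by omega)

theorem rpl_bb_0 : checkPlanes hnets 19 ([13, 13]) 19 0 = true := by decide +kernel

theorem rfix_bb : ∀ x < 306936, tr A2 ([13, 13]) x = x := by
  apply fix2 ([13, 13]) (by decide)
  intro j hj
  exact checkPlanes_sound hnets 19 _ 19 0 rpl_bb_0 j (by omega) (by omega)

theorem rpl_dd_0 : checkPlanes hnets 19 ([15, 15]) 19 0 = true := by decide +kernel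

theorem rfix_dd : ∀ x < 306936, tr A2 ([15, 15]) x = x := by
  apply fix2 ([15, 15]) (by decide)
  intro j hj
  exact checkPlanes_sound hnets 19 _ 19 0 rpl_dd_0 j (by omega) (by omega)

theorem rpl_ff_0 : checkPlanes hnets 19 ([17, 17]) 19 0 = true := by decide +kernel

theorem rfix_ff : ∀ x < 306936, tr A2 ([17, 17]) x = x := by
  apply fix2 ([17, 17]) (by decide)
  intro j hj
  exact checkPlanes_sound hnets 19 _ 19 0 rpl_ff_0 j (by omega) (by omega)

end Cfsg.Agent.Lib.Helper28_Fi24TT
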