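import Cfsg.Agent.Lib.Helper28_Fi24HeL

/-! Generated: the relators of `He` on the letters `12..18`, file 1; by helper28. -/

set_option autoImplicit false
set_option maxRecDepth 1000000
set_option Elab.async false

namespace Cfsg.Agent.Lib.Helper28_Fi24TT
open Cfsg.Agent.Lib.helper19_TC2 Cfsg.Agent.Lib.helper19_TC2L Cfsg.Agent.Lib.helper19_Benes
open Cfsg.Agent.Lib.helper19_Fi24L Cfsg.Agent.Lib.helper19_Fi24A

theorem rpl_x4_0 : checkPlanes hnets 19 (pw [14, 15, 17, 18] 4) 19 0 = true := by decide +kernel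

theorem rfix_x4 : ∀ x < 306936, tr A2 (pw [14, 15, 17, 18] 4) x = x := by
  apply fix2 (pw [14, 15, 17, 18] 4) (by decide)
  intro j hj
  exact checkPlanes_sound hnets 19 _ 19 0 rpl_x4_0 j (by omega) (by omega)

theorem rpl_x3_0 : checkPlanes hnets 19 ([12] ++ pw [15, 14] 5) 19 0 = true := by decide +kernel

theorem rfix_x3 : ∀ x < 306936, tr A2 ([12] ++ pw [15, 14] 5) x = x := by
  apply fix2 ([12] ++ pw [15, 14] 5) (by decide)
  intro j hj
  exact checkPlanes_sound hnets 19 _ 19 0 rpl_x3_0 j (by omega) (by omega)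

theorem rpl_ab_0 : checkPlanes hnets 19 (pw [12, 13] 4) 19 0 = true := by decide +kernel

theorem rfix_ab : ∀ x < 306936, tr A2 (pw [12, 13] 4) x = x := by
  apply fix2 (pw [12, 13] 4) (by decide)
  intro j hj
  exact checkPlanes_sound hnets 19 _ 19 0 rpl_ab_0 j (by omega) (by omega)

theorem rpl_bc_0 : checkPlanes hnets 19 (pw [13, 14] 3) 19 0 = true := by decide +kernel

theorem rfix_bc : ∀ x < 306936, tr A2 (pw [13, 14] 3) x = x := by
  apply fix2 (pw [13, 14] 3) (by decide)
  intro j hj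
  exact checkPlanes_sound hnets 19 _ 19 0 rpl_bc_0 j (by omega) (by omega)

theorem rpl_df_0 : checkPlanes hnets 19 (pw [15, 17] 3) 19 0 = true := by decide +kernel

theorem rfix_df : ∀ x < 306936, tr A2 (pw [15, 17] 3) x = x := by
  apply fix2 (pw [15, 17] 3) (by decide)
  intro j hj
  exact checkPlanes_sound hnets 19 _ 19 0 rpl_df_0 j (by omega) (by omega)

theorem rpl_x1_0 : checkPlanes hnets 19 ([16] ++ pw [18, 17] 2) 19 0 = true := by decide +kernel

theorem rfix_x1 : ∀ x < 306936, tr A2 ([16] ++ pw [18, 17] 2) x = x := by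
  apply fix2 ([16] ++ pw [18, 17] 2) (by decide)
  intro j hj
  exact checkPlanes_sound hnets 19 _ 19 0 rpl_x1_0 j (by omega) (by omega)

theorem rpl_ad_0 : checkPlanes hnets 19 (pw [12, 15] 2) 19 0 = true := by decide +kernel

theorem rfix_ad : ∀ x < 306936, tr A2 (pw [12, 15] 2) x = x := by
  apply fix2 (pw [12, 15] 2) (by decide)
  intro j hj
  exact checkPlanes_sound hnets 19 _ 19 0 rpl_ad_0 j (by omega) (by omega)

theorem rpl_af_0 : checkPlanes hnets 19 (pw [12, 17] 2) 19 0 = true := by decide +kernel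

theorem rfix_af : ∀ x < 306936, tr A2 (pw [12, 17] 2) x = x := by
  apply fix2 (pw [12, 17] 2) (by decide)
  intro j hj
  exact checkPlanes_sound hnets 19 _ 19 0 rpl_af_0 j (by omega) (by omega)

theorem rpl_bd_0 : checkPlanes hnets 19 (pw [13, 15] 2) 19 0 = true := by decide +kernel

theorem rfix_bd : ∀ x < 306936, tr A2 (pw [13, 15] 2) x = x := by
  apply fix2 (pw [13, 15] 2) (by decide)
  intro j hj
  exact checkPlanes_sound hnets 19 _ 19 0 rpl_bd_0 j (by omega) (by omega)

theorem rpl_bf_0 : checkPlanes hnets 19 (pw [13, 17] 2) 19 0 = true := by decide +kernel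

theorem rfix_bf : ∀ x < 306936, tr A2 (pw [13, 17] 2) x = x := by
  apply fix2 (pw [13, 17] 2) (by decide)
  intro j hj
  exact checkPlanes_sound hnets 19 _ 19 0 rpl_bf_0 j (by omega) (by omega)

theorem rpl_ce_0 : checkPlanes hnets 19 (pw [14, 16] 2) 19 0 = true := by decide +kernel

theorem rfix_ce : ∀ x < 306936, tr A2 (pw [14, 16] 2) x = x := by
  apply fix2 (pw [14, 16] 2) (by decide)
  intro j hj
  exact checkPlanes_sound hnets 19 _ 19 0 rpl_ce_0 j (by omega) (by omega)

theorem rpl_cg_0 : checkPlanes hnets 19 (pw [14, 18] 2) 19 0 = true := by decide +kernel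

theorem rfix_cg : ∀ x < 306936, tr A2 (pw [14, 18] 2) x = x := by
  apply fix2 (pw [14, 18] 2) (by decide)
  intro j hj
  exact checkPlanes_sound hnets 19 _ 19 0 rpl_cg_0 j (by omega) (by omega)

theorem rpl_eg_0 : checkPlanes hnets 19 (pw [16, 18] 2) 19 0 = true := by decide +kernel

theorem rfix_eg : ∀ x < 306936, tr A2 (pw [16, 18] 2) x = x := by
  apply fix2 (pw [16, 18] 2) (by decide)
  intro j hj
  exact checkPlanes_sound hnets 19 _ 19 0 rpl_eg_0 j (by omega) (by omega)

theorem rpl_cc_0 : checkPlanes hnets 19 ([14, 14]) 19 0 = true := by decide +kernel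

theorem rfix_cc : ∀ x < 306936, tr A2 ([14, 14]) x = x := by
  apply fix2 ([14, 14]) (by decide)
  intro j hj
  exact checkPlanes_sound hnets 19 _ 19 0 rpl_cc_0 j (by omega) (by omega)

theorem rpl_ee_0 : checkPlanes hnets 19 ([16, 16]) 19 0 = true := by decide +kernel

theorem rfix_ee : ∀ x < 306936, tr A2 ([16, 16]) x = x := by
  apply fix2 ([16, 16]) (by decide)
  intro j hj
  exact checkPlanes_sound hnets 19 _ 19 0 rpl_ee_0 j (by omega) (by omega)

theorem rpl_gg_0 : checkPlanes hnets 19 ([18, 18]) 19 0 = true := by decide +kernel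

theorem rfix_gg : ∀ x < 306936, tr A2 ([18, 18]) x = x := by
  apply fix2 ([18, 18]) (by decide)
  intro j hj
  exact checkPlanes_sound hnets 19 _ 19 0 rpl_gg_0 j (by omega) (by omega)

end Cfsg.Agent.Lib.Helper28_Fi24TT
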