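import Cfsg.Agent.Lib.Helper28_Fi24HeM
import Cfsg.Agent.Lib.Helper28_Fi24HeR0
import Cfsg.Agent.Lib.Helper28_Fi24HeR1

/-! The Held group inside `Fi₂₄'`: seven explicit words in the generators of `Fi₂₄` satisfy the
relations of Soicher's presentation of `He` (checked on the 306936 points); by helper28. -/

set_option autoImplicit false
set_option maxRecDepth 1000000

namespace Cfsg.Agent.Lib.Helper28_Fi24TT

open Cfsg Cfsg.Spor
open Cfsg.Agent.Lib.helper19_TC2
open Cfsg.Agent.Lib.Helper28_Fi24Max
open Cfsg.Agent.S1690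

/-- the images of the generators of `He` -/
noncomputable def heGen : He.Gen → G
  | .a => T 12
  | .b => T 13
  | .c => T 14
  | .d => T 15
  | .e => T 16
  | .f => T 17
  | .g => T 18

theorem heGen_sq_a : heGen .a * heGen .a = 1 := by
  have h := rel_of_fix _ (by decide) rfix_aa
  simpa [wprod, heGen] using h

theorem heGen_sq_b : heGen .b * heGen .b = 1 := by
  have h := rel_of_fix _ (by decide) rfix_bb
  simpa [wprod, heGen] using h

theorem heGen_sq_c : heGen .c * heGen .c = 1 := by
  have h := rel_of_fix _ (by decide) rfix_cc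
  simpa [wprod, heGen] using h

theorem heGen_sq_d : heGen .d * heGen .d = 1 := by
  have h := rel_of_fix _ (by decide) rfix_dd
  simpa [wprod, heGen] using h

theorem heGen_sq_e : heGen .e * heGen .e = 1 := by
  have h := rel_of_fix _ (by decide) rfix_ee
  simpa [wprod, heGen] using h

theorem heGen_sq_f : heGen .f * heGen .f = 1 := by
  have h := rel_of_fix _ (by decide) rfix_ff
  simpa [wprod, heGen] using h

theorem heGen_sq_g : heGen .g * heGen .g = 1 := by
  have h := rel_of_fix _ (by decide) rfix_gg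
  simpa [wprod, heGen] using h

theorem heGen_sq (x : He.Gen) : heGen x * heGen x = 1 := by
  cases x
  · exact heGen_sq_a
  · exact heGen_sq_b
  · exact heGen_sq_c
  · exact heGen_sq_d
  · exact heGen_sq_e
  · exact heGen_sq_f
  · exact heGen_sq_g

theorem heGen_ab : (heGen .a * heGen .b) ^ 4 = 1 := by
  have h := rel_of_fix _ (by decide) rfix_ab
  rw [wprod_pw_gen] at h
  simpa [wprod, heGen] using h

theorem heGen_ac : (heGen .a * heGen .c) ^ 2 = 1 := by
  have h := rel_of_fix _ (by decide) rfix_ac
  rw [wprod_pw_gen] at h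
  simpa [wprod, heGen] using h

theorem heGen_ad : (heGen .a * heGen .d) ^ 2 = 1 := by
  have h := rel_of_fix _ (by decide) rfix_ad
  rw [wprod_pw_gen] at h
  simpa [wprod, heGen] using h

theorem heGen_ae : (heGen .a * heGen .e) ^ 2 = 1 := by
  have h := rel_of_fix _ (by decide) rfix_ae
  rw [wprod_pw_gen] at h
  simpa [wprod, heGen] using h

theorem heGen_af : (heGen .a * heGen .f) ^ 2 = 1 := by
  have h := rel_of_fix _ (by decide) rfix_af
  rw [wprod_pw_gen] at h
  simpa [wprod, heGen] using h

theorem heGen_ag : (heGen .a * heGen .g) ^ 2 = 1 := by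
  have h := rel_of_fix _ (by decide) rfix_ag
  rw [wprod_pw_gen] at h
  simpa [wprod, heGen] using h

theorem heGen_bc : (heGen .b * heGen .c) ^ 3 = 1 := by
  have h := rel_of_fix _ (by decide) rfix_bc
  rw [wprod_pw_gen] at h
  simpa [wprod, heGen] using h

theorem heGen_bd : (heGen .b * heGen .d) ^ 2 = 1 := by
  have h := rel_of_fix _ (by decide) rfix_bd
  rw [wprod_pw_gen] at h
  simpa [wprod, heGen] using h

theorem heGen_be : (heGen .b * heGen .e) ^ 2 = 1 := by
  have h := rel_of_fix _ (by decide) rfix_be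
  rw [wprod_pw_gen] at h
  simpa [wprod, heGen] using h

theorem heGen_bf : (heGen .b * heGen .f) ^ 2 = 1 := by
  have h := rel_of_fix _ (by decide) rfix_bf
  rw [wprod_pw_gen] at h
  simpa [wprod, heGen] using h

theorem heGen_bg : (heGen .b * heGen .g) ^ 2 = 1 := by
  have h := rel_of_fix _ (by decide) rfix_bg
  rw [wprod_pw_gen] at h
  simpa [wprod, heGen] using h

theorem heGen_cd : (heGen .c * heGen .d) ^ 10 = 1 := by
  have h := rel_of_fix _ (by decide) rfix_cd
  rw [wprod_pw_gen] at h
  simpa [wprod, heGen] using h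

theorem heGen_ce : (heGen .c * heGen .e) ^ 2 = 1 := by
  have h := rel_of_fix _ (by decide) rfix_ce
  rw [wprod_pw_gen] at h
  simpa [wprod, heGen] using h

theorem heGen_cf : (heGen .c * heGen .f) ^ 2 = 1 := by
  have h := rel_of_fix _ (by decide) rfix_cf
  rw [wprod_pw_gen] at h
  simpa [wprod, heGen] using h

theorem heGen_cg : (heGen .c * heGen .g) ^ 2 = 1 := by
  have h := rel_of_fix _ (by decide) rfix_cg
  rw [wprod_pw_gen] at h
  simpa [wprod, heGen] using h

theorem heGen_de : (heGen .d * heGen .e) ^ 3 = 1 := by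
  have h := rel_of_fix _ (by decide) rfix_de
  rw [wprod_pw_gen] at h
  simpa [wprod, heGen] using h

theorem heGen_df : (heGen .d * heGen .f) ^ 3 = 1 := by
  have h := rel_of_fix _ (by decide) rfix_df
  rw [wprod_pw_gen] at h
  simpa [wprod, heGen] using h

theorem heGen_dg : (heGen .d * heGen .g) ^ 3 = 1 := by
  have h := rel_of_fix _ (by decide) rfix_dg
  rw [wprod_pw_gen] at h
  simpa [wprod, heGen] using h

theorem heGen_ef : (heGen .e * heGen .f) ^ 2 = 1 := by
  have h := rel_of_fix _ (by decide) rfix_ef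
  rw [wprod_pw_gen] at h
  simpa [wprod, heGen] using h

theorem heGen_eg : (heGen .e * heGen .g) ^ 2 = 1 := by
  have h := rel_of_fix _ (by decide) rfix_eg
  rw [wprod_pw_gen] at h
  simpa [wprod, heGen] using h

theorem heGen_fg : (heGen .f * heGen .g) ^ 4 = 1 := by
  have h := rel_of_fix _ (by decide) rfix_fg
  rw [wprod_pw_gen] at h
  simpa [wprod, heGen] using h

theorem heGen_cox : ∀ x y, (heGen x * heGen y) ^ coxLabel He.edges x y = 1 := by
  apply he_cox heGen heGen_sq
  intro x y hxy
  cases x <;> cases y <;> first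
    | exact absurd hxy (by decide)
    | exact heGen_ab
    | exact heGen_ac
    | exact heGen_ad
    | exact heGen_ae
    | exact heGen_af
    | exact heGen_ag
    | exact heGen_bc
    | exact heGen_bd
    | exact heGen_be
    | exact heGen_bf
    | exact heGen_bg
    | exact heGen_cd
    | exact heGen_ce
    | exact heGen_cf
    | exact heGen_cg
    | exact heGen_de
    | exact heGen_df
    | exact heGen_dg
    | exact heGen_ef
    | exact heGen_eg
    | exact heGen_fg

theorem heGen_inv (x : He.Gen) : (heGen x)⁻¹ = heGen x := inv_eq_of_mul_eq_one_right (heGen_sq x)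

theorem heGen_x1 : heGen .e * ((heGen .f * heGen .g) ^ 2)⁻¹ = 1 := by
  have h := rel_of_fix _ (by decide) rfix_x1
  rw [wprod_append_gen, wprod_pw_gen] at h
  rw [← inv_pow, mul_inv_rev, heGen_inv, heGen_inv]
  simpa [wprod, heGen] using h

theorem heGen_x2 : heGen .e * ((heGen .a * heGen .b * heGen .c) ^ 3)⁻¹ = 1 := by
  have h := rel_of_fix _ (by decide) rfix_x2
  rw [wprod_append_gen, wprod_pw_gen] at h
  rw [← inv_pow, mul_inv_rev, mul_inv_rev, heGen_inv, heGen_inv, heGen_inv]
  simpa [wprod, heGen, mul_assoc] using h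

theorem heGen_x3 : heGen .a * ((heGen .c * heGen .d) ^ 5)⁻¹ = 1 := by
  have h := rel_of_fix _ (by decide) rfix_x3
  rw [wprod_append_gen, wprod_pw_gen] at h
  rw [← inv_pow, mul_inv_rev, heGen_inv, heGen_inv]
  simpa [wprod, heGen] using h

theorem heGen_x4 : (heGen .c * heGen .d * heGen .f * heGen .g) ^ 4 = 1 := by
  have h := rel_of_fix _ (by decide) rfix_x4
  rw [wprod_pw_gen] at h
  simpa [wprod, heGen, mul_assoc] using h

theorem heGen_rels : ∀ r ∈ HeRels, FreeGroup.lift heGen r = 1 :=
  he_rels heGen heGen_cox heGen_x1 heGen_x2 heGen_x3 heGen_x4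

theorem trOKhe : Cfsg.Agent.Lib.Helper28_BenesOrb.checkTr Cfsg.Agent.Lib.helper19_Fi24L.nets Wa 0 172142 = true := by
  decide +kernel

theorem heGen_a_ne_one : heGen .a ≠ 1 := by
  apply wprod_ne_one Wa (by decide) 0 172142 (by decide)
    (Cfsg.Agent.Lib.Helper28_BenesOrb.tr_of_check Cfsg.Agent.Lib.Helper28_Fi24Orb.hok trOKhe) (by decide)

/-- the Held group inside the commutator subgroup of `Fi₂₄` -/
theorem exists_He_comm (hHe : Cfsg.IsHe Cfsg.Spor.He) : ∃ K : Subgroup (commutator G), Cfsg.IsHe K :=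
  exists_He hHe heGen heGen_rels ⟨.a, heGen_a_ne_one⟩

end Cfsg.Agent.Lib.Helper28_Fi24TT
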