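import Cfsg.Agent.Lib.Helper28_Fi24HeL

/-! Generated: the letter 14 acts as the word `Wc`; by helper28. -/

set_option autoImplicit false
set_option maxRecDepth 1000000
set_option Elab.async false

namespace Cfsg.Agent.Lib.Helper28_Fi24TT
open Cfsg.Agent.Lib.helper19_TC2 Cfsg.Agent.Lib.helper19_TC2L Cfsg.Agent.Lib.helper19_Benes
open Cfsg.Agent.Lib.helper19_Fi24L Cfsg.Agent.Lib.helper19_Fi24A

theorem inv2 : checkPlanes hnets 19 [14, 14] 19 0 = true := by decide +kernel

theorem gpl2_0 : checkPlanes hnets 19 (Wc ++ [14]) 2 0 = true := by decide +kernel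

theorem gpl2_2 : checkPlanes hnets 19 (Wc ++ [14]) 2 2 = true := by decide +kernel

theorem gpl2_4 : checkPlanes hnets 19 (Wc ++ [14]) 2 4 = true := by decide +kernel

theorem gpl2_6 : checkPlanes hnets 19 (Wc ++ [14]) 2 6 = true := by decide +kernel

theorem gpl2_8 : checkPlanes hnets 19 (Wc ++ [14]) 2 8 = true := by decide +kernel

theorem gpl2_10 : checkPlanes hnets 19 (Wc ++ [14]) 2 10 = true := by decide +kernel

theorem gpl2_12 : checkPlanes hnets 19 (Wc ++ [14]) 2 12 = true := by decide +kernel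

theorem gpl2_14 : checkPlanes hnets 19 (Wc ++ [14]) 2 14 = true := by decide +kernel

theorem gpl2_16 : checkPlanes hnets 19 (Wc ++ [14]) 2 16 = true := by decide +kernel

theorem gpl2_18 : checkPlanes hnets 19 (Wc ++ [14]) 1 18 = true := by decide +kernel

theorem gen2_act : ∀ x < 306936, tr A Wc x = A2 14 x := by
  apply tr_eq_letter Wc (by decide) 14
  · apply fix2 [14, 14] (by decide)
    intro j hj
    exact checkPlanes_sound hnets 19 _ 19 0 inv2 j (by omega) (by omega)
  · apply fix2 (Wc ++ [14]) (by decide)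
    intro j hj
    rcases Nat.lt_or_ge j 2 with h0 | h0
    · exact checkPlanes_sound hnets 19 _ 2 0 gpl2_0 j (by omega) (by omega)
    rcases Nat.lt_or_ge j 4 with h1 | h1
    · exact checkPlanes_sound hnets 19 _ 2 2 gpl2_2 j (by omega) (by omega)
    rcases Nat.lt_or_ge j 6 with h2 | h2
    · exact checkPlanes_sound hnets 19 _ 2 4 gpl2_4 j (by omega) (by omega)
    rcases Nat.lt_or_ge j 8 with h3 | h3
    · exact checkPlanes_sound hnets 19 _ 2 6 gpl2_6 j (by omega) (by omega)
    rcases Nat.lt_or_ge j 10 with h4 | h4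
    · exact checkPlanes_sound hnets 19 _ 2 8 gpl2_8 j (by omega) (by omega)
    rcases Nat.lt_or_ge j 12 with h5 | h5
    · exact checkPlanes_sound hnets 19 _ 2 10 gpl2_10 j (by omega) (by omega)
    rcases Nat.lt_or_ge j 14 with h6 | h6
    · exact checkPlanes_sound hnets 19 _ 2 12 gpl2_12 j (by omega) (by omega)
    rcases Nat.lt_or_ge j 16 with h7 | h7
    · exact checkPlanes_sound hnets 19 _ 2 14 gpl2_14 j (by omega) (by omega)
    rcases Nat.lt_or_ge j 18 with h8 | h8
    · exact checkPlanes_sound hnets 19 _ 2 16 gpl2_16 j (by omega) (by omega)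
    exact checkPlanes_sound hnets 19 _ 1 18 gpl2_18 j (by omega) (by omega)

end Cfsg.Agent.Lib.Helper28_Fi24TT
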