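import Cfsg.Agent.Lib.Helper28_Fi24HeL

/-! Generated: the letter 16 acts as the word `We`; by helper28. -/

set_option autoImplicit false
set_option maxRecDepth 1000000
set_option Elab.async false

namespace Cfsg.Agent.Lib.Helper28_Fi24TT
open Cfsg.Agent.Lib.helper19_TC2 Cfsg.Agent.Lib.helper19_TC2L Cfsg.Agent.Lib.helper19_Benes
open Cfsg.Agent.Lib.helper19_Fi24L Cfsg.Agent.Lib.helper19_Fi24A

theorem inv4 : checkPlanes hnets 19 [16, 16] 19 0 = true := by decide +kernel

theorem gpl4_0 : checkPlanes hnets 19 (We ++ [16]) 1 0 = true := by decide +kernel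

theorem gpl4_1 : checkPlanes hnets 19 (We ++ [16]) 1 1 = true := by decide +kernel

theorem gpl4_2 : checkPlanes hnets 19 (We ++ [16]) 1 2 = true := by decide +kernel

theorem gpl4_3 : checkPlanes hnets 19 (We ++ [16]) 1 3 = true := by decide +kernel

theorem gpl4_4 : checkPlanes hnets 19 (We ++ [16]) 1 4 = true := by decide +kernel

theorem gpl4_5 : checkPlanes hnets 19 (We ++ [16]) 1 5 = true := by decide +kernel

theorem gpl4_6 : checkPlanes hnets 19 (We ++ [16]) 1 6 = true := by decide +kernel

theorem gpl4_7 : checkPlanes hnets 19 (We ++ [16]) 1 7 = true := by decide +kernel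

theorem gpl4_8 : checkPlanes hnets 19 (We ++ [16]) 1 8 = true := by decide +kernel

theorem gpl4_9 : checkPlanes hnets 19 (We ++ [16]) 1 9 = true := by decide +kernel

theorem gpl4_10 : checkPlanes hnets 19 (We ++ [16]) 1 10 = true := by decide +kernel

theorem gpl4_11 : checkPlanes hnets 19 (We ++ [16]) 1 11 = true := by decide +kernel

theorem gpl4_12 : checkPlanes hnets 19 (We ++ [16]) 1 12 = true := by decide +kernel

theorem gpl4_13 : checkPlanes hnets 19 (We ++ [16]) 1 13 = true := by decide +kernel

theorem gpl4_14 : checkPlanes hnets 19 (We ++ [16]) 1 14 = true := by decide +kernel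

theorem gpl4_15 : checkPlanes hnets 19 (We ++ [16]) 1 15 = true := by decide +kernel

theorem gpl4_16 : checkPlanes hnets 19 (We ++ [16]) 1 16 = true := by decide +kernel

theorem gpl4_17 : checkPlanes hnets 19 (We ++ [16]) 1 17 = true := by decide +kernel

theorem gpl4_18 : checkPlanes hnets 19 (We ++ [16]) 1 18 = true := by decide +kernel

theorem gen4_act : ∀ x < 306936, tr A We x = A2 16 x := by
  apply tr_eq_letter We (by decide) 16
  · apply fix2 [16, 16] (by decide)
    intro j hj
    exact checkPlanes_sound hnets 19 _ 19 0 inv4 j (by omega) (by omega)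
  · apply fix2 (We ++ [16]) (by decide)
    intro j hj
    rcases Nat.lt_or_ge j 1 with h0 | h0
    · exact checkPlanes_sound hnets 19 _ 1 0 gpl4_0 j (by omega) (by omega)
    rcases Nat.lt_or_ge j 2 with h1 | h1
    · exact checkPlanes_sound hnets 19 _ 1 1 gpl4_1 j (by omega) (by omega)
    rcases Nat.lt_or_ge j 3 with h2 | h2
    · exact checkPlanes_sound hnets 19 _ 1 2 gpl4_2 j (by omega) (by omega)
    rcases Nat.lt_or_ge j 4 with h3 | h3
    · exact checkPlanes_sound hnets 19 _ 1 3 gpl4_3 j (by omega) (by omega)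
    rcases Nat.lt_or_ge j 5 with h4 | h4
    · exact checkPlanes_sound hnets 19 _ 1 4 gpl4_4 j (by omega) (by omega)
    rcases Nat.lt_or_ge j 6 with h5 | h5
    · exact checkPlanes_sound hnets 19 _ 1 5 gpl4_5 j (by omega) (by omega)
    rcases Nat.lt_or_ge j 7 with h6 | h6
    · exact checkPlanes_sound hnets 19 _ 1 6 gpl4_6 j (by omega) (by omega)
    rcases Nat.lt_or_ge j 8 with h7 | h7
    · exact checkPlanes_sound hnets 19 _ 1 7 gpl4_7 j (by omega) (by omega)
    rcases Nat.lt_or_ge j 9 with h8 | h8
    · exact checkPlanes_sound hnets 19 _ 1 8 gpl4_8 j (by omega) (by omega)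
    rcases Nat.lt_or_ge j 10 with h9 | h9
    · exact checkPlanes_sound hnets 19 _ 1 9 gpl4_9 j (by omega) (by omega)
    rcases Nat.lt_or_ge j 11 with h10 | h10
    · exact checkPlanes_sound hnets 19 _ 1 10 gpl4_10 j (by omega) (by omega)
    rcases Nat.lt_or_ge j 12 with h11 | h11
    · exact checkPlanes_sound hnets 19 _ 1 11 gpl4_11 j (by omega) (by omega)
    rcases Nat.lt_or_ge j 13 with h12 | h12
    · exact checkPlanes_sound hnets 19 _ 1 12 gpl4_12 j (by omega) (by omega)
    rcases Nat.lt_or_ge j 14 with h13 | h13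
    · exact checkPlanes_sound hnets 19 _ 1 13 gpl4_13 j (by omega) (by omega)
    rcases Nat.lt_or_ge j 15 with h14 | h14
    · exact checkPlanes_sound hnets 19 _ 1 14 gpl4_14 j (by omega) (by omega)
    rcases Nat.lt_or_ge j 16 with h15 | h15
    · exact checkPlanes_sound hnets 19 _ 1 15 gpl4_15 j (by omega) (by omega)
    rcases Nat.lt_or_ge j 17 with h16 | h16
    · exact checkPlanes_sound hnets 19 _ 1 16 gpl4_16 j (by omega) (by omega)
    rcases Nat.lt_or_ge j 18 with h17 | h17
    · exact checkPlanes_sound hnets 19 _ 1 17 gpl4_17 j (by omega) (by omega)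
    exact checkPlanes_sound hnets 19 _ 1 18 gpl4_18 j (by omega) (by omega)

end Cfsg.Agent.Lib.Helper28_Fi24TT
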