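import Cfsg.Agent.Lib.Helper28_Fi24HeL

/-! Generated: the letter 18 acts as the word `Wg`; by helper28. -/

set_option autoImplicit false
set_option maxRecDepth 1000000
set_option Elab.async false

namespace Cfsg.Agent.Lib.Helper28_Fi24TT
open Cfsg.Agent.Lib.helper19_TC2 Cfsg.Agent.Lib.helper19_TC2L Cfsg.Agent.Lib.helper19_Benes
open Cfsg.Agent.Lib.helper19_Fi24L Cfsg.Agent.Lib.helper19_Fi24A

theorem inv6 : checkPlanes hnets 19 [18, 18] 19 0 = true := by decide +kernel

theorem gpl6_0 : checkPlanes hnets 19 (Wg ++ [18]) 1 0 = true := by decide +kernel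

theorem gpl6_1 : checkPlanes hnets 19 (Wg ++ [18]) 1 1 = true := by decide +kernel

theorem gpl6_2 : checkPlanes hnets 19 (Wg ++ [18]) 1 2 = true := by decide +kernel

theorem gpl6_3 : checkPlanes hnets 19 (Wg ++ [18]) 1 3 = true := by decide +kernel

theorem gpl6_4 : checkPlanes hnets 19 (Wg ++ [18]) 1 4 = true := by decide +kernel

theorem gpl6_5 : checkPlanes hnets 19 (Wg ++ [18]) 1 5 = true := by decide +kernel

theorem gpl6_6 : checkPlanes hnets 19 (Wg ++ [18]) 1 6 = true := by decide +kernel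

theorem gpl6_7 : checkPlanes hnets 19 (Wg ++ [18]) 1 7 = true := by decide +kernel

theorem gpl6_8 : checkPlanes hnets 19 (Wg ++ [18]) 1 8 = true := by decide +kernel

theorem gpl6_9 : checkPlanes hnets 19 (Wg ++ [18]) 1 9 = true := by decide +kernel

theorem gpl6_10 : checkPlanes hnets 19 (Wg ++ [18]) 1 10 = true := by decide +kernel

theorem gpl6_11 : checkPlanes hnets 19 (Wg ++ [18]) 1 11 = true := by decide +kernel

theorem gpl6_12 : checkPlanes hnets 19 (Wg ++ [18]) 1 12 = true := by decide +kernel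

theorem gpl6_13 : checkPlanes hnets 19 (Wg ++ [18]) 1 13 = true := by decide +kernel

theorem gpl6_14 : checkPlanes hnets 19 (Wg ++ [18]) 1 14 = true := by decide +kernel

theorem gpl6_15 : checkPlanes hnets 19 (Wg ++ [18]) 1 15 = true := by decide +kernel

theorem gpl6_16 : checkPlanes hnets 19 (Wg ++ [18]) 1 16 = true := by decide +kernel

theorem gpl6_17 : checkPlanes hnets 19 (Wg ++ [18]) 1 17 = true := by decide +kernel

theorem gpl6_18 : checkPlanes hnets 19 (Wg ++ [18]) 1 18 = true := by decide +kernel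

theorem gen6_act : ∀ x < 306936, tr A Wg x = A2 18 x := by
  apply tr_eq_letter Wg (by decide) 18
  · apply fix2 [18, 18] (by decide)
    intro j hj
    exact checkPlanes_sound hnets 19 _ 19 0 inv6 j (by omega) (by omega)
  · apply fix2 (Wg ++ [18]) (by decide)
    intro j hj
    rcases Nat.lt_or_ge j 1 with h0 | h0
    · exact checkPlanes_sound hnets 19 _ 1 0 gpl6_0 j (by omega) (by omega)
    rcases Nat.lt_or_ge j 2 with h1 | h1
    · exact checkPlanes_sound hnets 19 _ 1 1 gpl6_1 j (by omega) (by omega)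
    rcases Nat.lt_or_ge j 3 with h2 | h2
    · exact checkPlanes_sound hnets 19 _ 1 2 gpl6_2 j (by omega) (by omega)
    rcases Nat.lt_or_ge j 4 with h3 | h3
    · exact checkPlanes_sound hnets 19 _ 1 3 gpl6_3 j (by omega) (by omega)
    rcases Nat.lt_or_ge j 5 with h4 | h4
    · exact checkPlanes_sound hnets 19 _ 1 4 gpl6_4 j (by omega) (by omega)
    rcases Nat.lt_or_ge j 6 with h5 | h5
    · exact checkPlanes_sound hnets 19 _ 1 5 gpl6_5 j (by omega) (by omega)
    rcases Nat.lt_or_ge j 7 with h6 | h6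
    · exact checkPlanes_sound hnets 19 _ 1 6 gpl6_6 j (by omega) (by omega)
    rcases Nat.lt_or_ge j 8 with h7 | h7
    · exact checkPlanes_sound hnets 19 _ 1 7 gpl6_7 j (by omega) (by omega)
    rcases Nat.lt_or_ge j 9 with h8 | h8
    · exact checkPlanes_sound hnets 19 _ 1 8 gpl6_8 j (by omega) (by omega)
    rcases Nat.lt_or_ge j 10 with h9 | h9
    · exact checkPlanes_sound hnets 19 _ 1 9 gpl6_9 j (by omega) (by omega)
    rcases Nat.lt_or_ge j 11 with h10 | h10
    · exact checkPlanes_sound hnets 19 _ 1 10 gpl6_10 j (by omega) (by omega)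
    rcases Nat.lt_or_ge j 12 with h11 | h11
    · exact checkPlanes_sound hnets 19 _ 1 11 gpl6_11 j (by omega) (by omega)
    rcases Nat.lt_or_ge j 13 with h12 | h12
    · exact checkPlanes_sound hnets 19 _ 1 12 gpl6_12 j (by omega) (by omega)
    rcases Nat.lt_or_ge j 14 with h13 | h13
    · exact checkPlanes_sound hnets 19 _ 1 13 gpl6_13 j (by omega) (by omega)
    rcases Nat.lt_or_ge j 15 with h14 | h14
    · exact checkPlanes_sound hnets 19 _ 1 14 gpl6_14 j (by omega) (by omega)
    rcases Nat.lt_or_ge j 16 with h15 | h15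
    · exact checkPlanes_sound hnets 19 _ 1 15 gpl6_15 j (by omega) (by omega)
    rcases Nat.lt_or_ge j 17 with h16 | h16
    · exact checkPlanes_sound hnets 19 _ 1 16 gpl6_16 j (by omega) (by omega)
    rcases Nat.lt_or_ge j 18 with h17 | h17
    · exact checkPlanes_sound hnets 19 _ 1 17 gpl6_17 j (by omega) (by omega)
    exact checkPlanes_sound hnets 19 _ 1 18 gpl6_18 j (by omega) (by omega)

end Cfsg.Agent.Lib.Helper28_Fi24TT
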