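import Cfsg.Agent.Lib.Helper28_Fi24TT

/-! Generated: seven words in the generators of `Fi₂₄` satisfying the relations of the Held group; by helper28. -/

set_option autoImplicit false
set_option maxRecDepth 1000000

namespace Cfsg.Agent.Lib.Helper28_Fi24TT

/-- the image of the generator `a` of `He` -/
def Wa : List ℕ := [3, 4, 5, 10, 11, 6, 4, 5, 10, 5, 6, 7, 3, 4, 5, 6, 2, 3, 4, 5, 10, 11, 7, 4, 5, 6, 3, 4, 5, 10, 9, 8, 7, 6, 5, 4, 3, 2, 1, 0, 1, 2, 3, 4, 5, 6, 7, 8, 9, 10, 5, 4, 3, 6, 5, 4, 7, 11, 10, 5, 4, 3, 2, 6, 5, 4, 3, 7, 6, 5, 10, 5, 4, 6, 11, 10, 5, 4, 3, 5, 10, 6, 7, 5, 6, 3, 4, 5, 10, 8, 7, 6, 5, 4, 3, 2, 1, 0, 1, 2, 3, 4, 5, 6, 7, 8, 10, 5, 4, 3, 6, 5,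 7, 6, 10, 5]

/-- the image of the generator `b` of `He` -/
def Wb : List ℕ := [6, 4, 5, 10, 11, 10, 5, 6, 3, 4, 5, 10, 7, 8, 6, 7, 5, 6, 2, 3, 4, 5, 10, 11, 6, 7, 4, 5, 6, 3, 4, 5, 10, 9, 8, 7, 6, 5, 4, 3, 2, 0, 1, 0, 1, 0, 2, 3, 4, 5, 6, 7, 8, 9, 10, 5, 4, 3, 6, 5, 4, 7, 6, 11, 10, 5, 4, 3, 2, 6, 5, 7, 6, 8, 7, 10, 5, 4, 3, 6, 5, 10, 11, 10, 5, 4, 6, 6, 1, 2, 3, 4, 5, 10, 6, 7, 8, 5, 6, 7, 2, 3, 4, 5, 6, 1, 2, 3, 4, 5, 10, 11, 7, 5, 6, 2, 3, 4, 5, 10, 9, 8, 7, 6, 5, 4, 3, 2, 0, 1, 0, 1, 0, 2, 3, 4, 5, 6, 7, 8, 9, 10, 5, 4, 3, 2, 6, 5, 7, 11, 10, 5, 4, 3, 2, 1, 6, 5, 4, 3, 2, 7, 6, 5, 8, 7, 6, 10, 5, 4, 3, 2, 1, 6]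

/-- the image of the generator `c` of `He` -/
def Wc : List ℕ := [10, 11, 7, 6, 5, 10, 8, 7, 4, 5, 6, 3, 4, 5, 10, 11, 8, 7, 6, 1, 2, 3, 4, 5, 10, 9, 8, 7, 6, 5, 4, 3, 2, 1, 0, 1, 2, 3, 4, 5, 6, 7, 8, 9, 10, 5, 4, 3, 2, 1, 6, 7, 8, 11, 10, 5, 4, 3, 6, 5, 4, 7, 8, 10, 5, 6, 7, 11, 10, 8, 7, 6, 5, 10, 11, 4, 5, 10, 7, 8, 6, 7, 4, 5, 6, 3, 4, 5, 10, 11, 10, 8, 7, 5, 6, 3, 4, 5, 10, 9, 8, 7, 6, 5, 4, 3, 2, 0, 1, 0, 1, 0, 2, 3, 4, 5, 6, 7, 8, 9, 10, 5, 4, 3, 6, 5, 7, 8, 10, 11, 10, 5, 4, 3, 6, 5, 4, 7, 6, 8, 7, 10, 5, 4, 11, 10, 5, 6, 7, 8]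

/-- the image of the generator `d` of `He` -/
def Wd : List ℕ := [5, 6, 4, 5, 10, 11, 2, 3, 4, 5, 10, 5, 6, 7, 3, 4, 5, 6, 2, 3, 4, 5, 10, 11, 8, 7, 5, 6, 3, 4, 5, 10, 9, 8, 7, 6, 5, 4, 3, 2, 1, 0, 1, 2, 3, 4, 5, 6, 7, 8, 9, 10, 5, 4, 3, 6, 5, 7, 8, 11, 10, 5, 4, 3, 2, 6, 5, 4, 3, 7, 6, 5, 10, 5, 4, 3, 2, 11, 10, 5, 4, 6, 5, 6, 2, 3, 4, 5, 10, 11, 10, 5, 6, 4, 5, 10, 6, 7, 3, 4, 5, 6, 1, 2, 3, 4, 5, 10, 11, 7, 4, 5, 6, 3, 4, 5, 10, 9, 8, 7, 6, 5, 4, 3, 2, 1, 0, 1, 2, 3, 4, 5, 6, 7, 8, 9, 10, 5, 4, 3, 6, 5, 4, 7, 11, 10, 5, 4, 3, 2, 1, 6, 5, 4, 3, 7, 6, 10, 5, 4, 6, 5, 10, 11, 10, 5, 4, 3, 2, 6, 11, 5, 6, 1, 2, 3, 4, 5, 10, 7, 8, 6, 7, 5, 6, 4, 5, 10, 11, 8, 7, 5,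 6, 3, 4, 5, 10, 9, 8, 7, 6, 5, 4, 3, 2, 0, 1, 0, 1, 0, 2, 3, 4, 5, 6, 7, 8, 9, 10, 5, 4, 3, 6, 5, 7, 8, 11, 10, 5, 4, 6, 5, 7, 6, 8, 7, 10, 5, 4, 3, 2, 1, 6, 5, 11, 5, 10, 11, 6, 4, 5, 10, 9, 7, 8, 6, 7, 4, 5, 6, 1, 2, 3, 4, 5, 10, 11, 8, 6, 7, 5, 6, 3, 4, 5, 10, 9, 8, 7, 6, 5, 4, 3, 2, 1, 0, 1, 2, 3, 4, 5, 6, 7, 8, 9, 10, 5, 4, 3, 6, 5, 7, 6, 8, 11, 10, 5, 4, 3, 2, 1, 6, 5, 4, 7, 6, 8, 7, 9, 10, 5, 4, 6, 11, 10, 5]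

/-- the image of the generator `e` of `He` -/
def We : List ℕ := [3, 4, 5, 10, 8, 6, 7, 5, 6, 1, 2, 3, 4, 5, 10, 11, 8, 7, 4, 5, 6, 3, 4, 5, 10, 9, 8, 7, 6, 5, 4, 3, 2, 1, 0, 1, 2, 3, 4, 5, 6, 7, 8, 9, 10, 5, 4, 3, 6, 5, 4, 7, 8, 11, 10, 5, 4, 3, 2, 1, 6, 5, 7, 6, 8, 10, 5, 4, 3, 11, 10, 7, 5, 6, 4, 5, 10, 11, 10, 7, 5, 6, 4, 5, 10, 9, 8, 7, 6, 5, 4, 3, 1, 2, 0, 1, 0, 1, 0, 2, 1, 3, 4, 5, 6, 7, 8, 9, 10, 5, 4, 6, 5, 7, 10, 11, 10, 5, 4, 6, 5, 7, 10, 11, 11, 9, 8, 7, 6, 5, 10, 7, 8, 5, 6, 7, 4, 5, 6, 2, 3, 4, 5, 10, 11, 7, 5, 6, 4, 5, 10, 9, 8, 7, 6, 5, 4, 3, 2, 1, 0, 1, 2, 3, 4, 5, 6, 7, 8, 9, 10, 5, 4, 6, 5, 7, 11, 10, 5, 4, 3, 2, 6, 5, 4, 7, 6, 5, 8, 7, 10, 5, 6,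 7, 8, 9, 11, 8, 7, 6, 4, 5, 10, 5, 6, 7, 3, 4, 5, 6, 1, 2, 3, 4, 5, 10, 11, 6, 7, 5, 6, 3, 4, 5, 10, 9, 8, 7, 6, 5, 4, 3, 2, 1, 0, 1, 2, 3, 4, 5, 6, 7, 8, 9, 10, 5, 4, 3, 6, 5, 7, 6, 11, 10, 5, 4, 3, 2, 1, 6, 5, 4, 3, 7, 6, 5, 10, 5, 4, 6, 7, 8]

/-- the image of the generator `f` of `He` -/
def Wf : List ℕ := [10, 11, 10, 7, 4, 5, 6, 3, 4, 5, 10, 7, 8, 5, 6, 7, 4, 5, 6, 2, 3, 4, 5, 10, 11, 7, 5, 6, 3, 4, 5, 10, 9, 8, 7, 6, 5, 4, 3, 2, 0, 1, 0, 1, 0, 2, 3, 4, 5, 6, 7, 8, 9, 10, 5, 4, 3, 6, 5, 7, 11, 10, 5, 4, 3, 2, 6, 5, 4, 7, 6, 5, 8, 7, 10, 5, 4, 3, 6, 5, 4, 7, 10, 11, 10, 10, 7, 5, 6, 3, 4, 5, 10, 11, 10, 5, 6, 3, 4, 5, 10, 8, 7, 6, 5, 4, 3, 1, 2, 0, 1, 0, 1, 0,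 2, 1, 3, 4, 5, 6, 7, 8, 10, 5, 4, 3, 6, 5, 10, 11, 10, 5, 4, 3, 6, 5, 7, 10, 5, 10, 11, 2, 3, 4, 5, 10, 6, 7, 4, 5, 6, 0, 1, 2, 3, 4, 5, 10, 11, 8, 7, 5, 6, 3, 4, 5, 10, 9, 8, 7, 6, 5, 4, 3, 2, 0, 1, 0, 1, 0, 2, 3, 4, 5, 6, 7, 8, 9, 10, 5, 4, 3, 6, 5, 7, 8, 11, 10, 5, 4, 3, 2, 1, 0, 6, 5, 4, 7, 6, 10, 5, 4, 3, 2, 11, 10, 5, 5, 10, 11, 6, 2, 3, 4, 5, 10, 7, 8, 6, 7, 4, 5, 6, 3, 4, 5, 10, 11, 6, 7, 5, 6, 3, 4, 5, 10, 9, 8, 7, 6, 5, 4, 3, 2, 0, 1, 0, 1, 0, 2, 3, 4, 5, 6, 7, 8, 9, 10, 5, 4, 3, 6, 5, 7, 6, 11, 10, 5, 4, 3, 6, 5, 4, 7, 6, 8, 7, 10, 5, 4, 3, 2, 6, 11, 10, 5]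

/-- the image of the generator `g` of `He` -/
def Wg : List ℕ := [10, 6, 7, 8, 5, 6, 7, 4, 5, 6, 2, 3, 4, 5, 10, 11, 10, 8, 6, 7, 5, 6, 3, 4, 5, 10, 9, 8, 7, 6, 5, 4, 3, 2, 1, 0, 1, 2, 3, 4, 5, 6, 7, 8, 9, 10, 5, 4, 3, 6, 5, 7, 6, 8, 10, 11, 10, 5, 4, 3, 2, 6, 5, 4, 7, 6, 5, 8, 7, 6, 10, 7, 8, 6, 7, 5, 6, 2, 3, 4, 5, 10, 11, 8, 7, 5, 6, 4, 5, 10, 9, 8, 7, 6, 5, 4, 3, 2, 0, 1, 0, 1, 0, 2, 3, 4, 5, 6, 7, 8, 9, 10, 5, 4, 6, 5, 7, 8, 11, 10, 5, 4, 3, 2, 6, 5, 7, 6, 8, 7, 11, 6, 2, 3, 4, 5, 10, 7, 8, 6, 7, 3, 4, 5, 6, 2, 3, 4, 5, 10, 11, 6, 7, 4, 5, 6, 3, 4, 5, 10, 9, 8, 7, 6, 5, 4, 3, 2, 0, 1, 0, 1, 0, 2, 3, 4, 5, 6, 7, 8, 9, 10, 5, 4, 3, 6, 5, 4, 7, 6, 11, 10, 5, 4,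 3, 2, 6, 5, 4, 3, 7, 6, 8, 7, 10, 5, 4, 3, 2, 6, 11, 8, 5, 6, 7, 4, 5, 6, 2, 3, 4, 5, 10, 11, 6, 7, 5, 6, 4, 5, 10, 9, 8, 7, 6, 5, 4, 3, 2, 1, 0, 1, 2, 3, 4, 5, 6, 7, 8, 9, 10, 5, 4, 6, 5, 7, 6, 11, 10, 5, 4, 3, 2, 6, 5, 4, 7, 6, 5, 8]

end Cfsg.Agent.Lib.Helper28_Fi24TT
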