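import Cfsg.Agent.Lib.Helper28_Fi24TT
import Cfsg.Agent.Lib.Helper28_Fi24HeW
import Cfsg.Agent.Lib.Helper28_Fi24HeN0
import Cfsg.Agent.Lib.Helper28_Fi24HeN1
import Cfsg.Agent.Lib.Helper28_Fi24HeN2
import Cfsg.Agent.Lib.Helper28_Fi24HeN3
import Cfsg.Agent.Lib.Helper28_Fi24HeN4
import Cfsg.Agent.Lib.Helper28_Fi24HeN5
import Cfsg.Agent.Lib.Helper28_Fi24HeN6

/-!
The letter system of nineteen switching networks on the 306936 points: the twelve generators of
`Fi₂₄` (letters `0..11`, networks of helper19) and the images of the seven generators of `He`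
(letters `12..18`).  A relator of `He` is checked on the short words in the letters `12..18`; each
of these letters is checked against its word in the letters `0..11`.  By helper28.
-/

set_option autoImplicit false
set_option maxRecDepth 1000000

namespace Cfsg.Agent.Lib.Helper28_Fi24TT

open Cfsg Cfsg.Spor
open Cfsg.Agent.Lib.helper19_TC2 Cfsg.Agent.Lib.helper19_TC2L Cfsg.Agent.Lib.helper19_TC2P
open Cfsg.Agent.Lib.helper19_Benes Cfsg.Agent.Lib.helper19_Fi24L Cfsg.Agent.Lib.helper19_Fi24A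
open Cfsg.Agent.Lib.Helper28_Fi24Max
open Cfsg.Agent.S1690

/-- the nineteen networks -/
def hnets : List Net := [net0, net1, net2, net3, net4, net5, net6, net7, net8, net9, net10, net11,
  hnet0, hnet1, hnet2, hnet3, hnet4, hnet5, hnet6]

/-- the action of the nineteen letters -/
noncomputable abbrev A2 : ℕ → ℕ → ℕ := act hnets

theorem hnetsOK : okNets hnets = true := by decide +kernel

theorem hok2 : ∀ s, (nthN hnets s).Ok := okNets_sound hnets hnetsOK

theorem hrangeOK : checkRange hnets 306936 19 0 = true := by decide +kernel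

theorem hlt2 : ∀ s < 19, ∀ x < 306936, A2 s x < 306936 := fun s hs x hx =>
  act_lt hok2 (checkRange_sound hnets 306936 19 0 hrangeOK s (by omega) (by omega)) hx

theorem A2_eq (s : ℕ) (hs : s < 12) (x : ℕ) : A2 s x = A s x := by
  interval_cases s <;> rfl

theorem tr_A2 : ∀ (W : List ℕ), (∀ s ∈ W, s < 12) → ∀ x, tr A2 W x = tr A W x
  | [], _, _ => rfl
  | s :: W, hW, x => by
    show tr A2 W (A2 s x) = tr A W (A s x)
    rw [A2_eq s (hW s (by simp)), tr_A2 W (fun t ht => hW t (by simp [ht]))]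

theorem tr_append' (a : ℕ → ℕ → ℕ) : ∀ (w1 w2 : List ℕ) (x : ℕ),
    tr a (w1 ++ w2) x = tr a w2 (tr a w1 x)
  | [], _, _ => rfl
  | s :: w1, w2, x => by
    show tr a (w1 ++ w2) (a s x) = tr a w2 (tr a w1 (a s x))
    exact tr_append' a w1 w2 (a s x)

/-- a word in the old letters acts as the new letter `u` -/
theorem tr_eq_letter (W : List ℕ) (hW : ∀ s ∈ W, s < 12) (u : ℕ)
    (hinv : ∀ x < 306936, tr A2 [u, u] x = x)
    (hcomb : ∀ x < 306936, tr A2 (W ++ [u]) x = x) :
    ∀ x < 306936, tr A W x = A2 u x := by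
  intro x hx
  have h1 : A2 u (tr A2 W x) = x := by
    have := hcomb x hx
    rwa [tr_append'] at this
  have hlt : tr A2 W x < 306936 :=
    tr_act_lt hlt2 W (fun s hs => lt_trans (hW s hs) (by norm_num)) x hx
  have h2 : A2 u (A2 u (tr A2 W x)) = tr A2 W x := hinv _ hlt
  rw [h1] at h2
  rw [← tr_A2 W hW]
  exact h2.symm

/-- fixing all planes, for the nineteen letters -/
theorem fix2 (R : List ℕ) (hR : ∀ u ∈ R, u < 19)
    (hpl : ∀ j < 19, applyW hnets R (plane j 19) = plane j 19) :
    ∀ x < 306936, tr A2 R x = x :=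
  fix_of_planes hok2 (n := 19) (by norm_num) hlt2 R hR hpl

/-- the words of the letters `12..18` -/
def Wof : ℕ → List ℕ
  | 12 => Wa
  | 13 => Wb
  | 14 => Wc
  | 15 => Wd
  | 16 => We
  | 17 => Wf
  | 18 => Wg
  | _ => []

/-- the elements of the letters `12..18` -/
noncomputable def T (u : ℕ) : G := wprod S (Wof u)

theorem Wof_lt (u : ℕ) (hu1 : 12 ≤ u) (hu2 : u < 19) : ∀ s ∈ Wof u, s < 12 := by
  interval_cases u <;> decide

theorem wprod_flat (R : List ℕ) : wprod S (R.flatMap Wof) = wprod T R := by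
  induction R with
  | nil => rfl
  | cons u R ih => rw [List.flatMap_cons, wprod_append, ih]; rfl

theorem wprod_append_gen {Γ : Type*} [Group Γ] (t : ℕ → Γ) (w1 w2 : List ℕ) :
    wprod t (w1 ++ w2) = wprod t w1 * wprod t w2 := wprod_append t w1 w2

theorem wprod_pw_gen {Γ : Type*} [Group Γ] (t : ℕ → Γ) (W : List ℕ) :
    ∀ m, wprod t (pw W m) = (wprod t W) ^ m
  | 0 => by simp [pw, wprod]
  | m + 1 => by rw [pw, wprod_append, wprod_pw_gen t W m, pow_succ']

end Cfsg.Agent.Lib.Helper28_Fi24TT
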