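import Cfsg.Agent.Lib.Helper28_Fi24HeG0
import Cfsg.Agent.Lib.Helper28_Fi24HeG1
import Cfsg.Agent.Lib.Helper28_Fi24HeG2
import Cfsg.Agent.Lib.Helper28_Fi24HeG3
import Cfsg.Agent.Lib.Helper28_Fi24HeG4
import Cfsg.Agent.Lib.Helper28_Fi24HeG5
import Cfsg.Agent.Lib.Helper28_Fi24HeG6

/-! Relators in the letters `12..18` give relations between the seven elements of `Fi₂₄`; by helper28. -/

set_option autoImplicit false
set_option maxRecDepth 1000000

namespace Cfsg.Agent.Lib.Helper28_Fi24TT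

open Cfsg Cfsg.Spor
open Cfsg.Agent.Lib.helper19_TC2 Cfsg.Agent.Lib.helper19_TC2L Cfsg.Agent.Lib.helper19_TC2P
open Cfsg.Agent.Lib.helper19_Benes Cfsg.Agent.Lib.helper19_Fi24L Cfsg.Agent.Lib.helper19_Fi24A
open Cfsg.Agent.Lib.Helper28_Fi24Max
open Cfsg.Agent.S1690

theorem Wof_act (u : ℕ) (hu1 : 12 ≤ u) (hu2 : u < 19) : ∀ x < 306936, tr A (Wof u) x = A2 u x := by
  interval_cases u
  · exact gen0_act
  · exact gen1_act
  · exact gen2_act
  · exact gen3_act
  · exact gen4_act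
  · exact gen5_act
  · exact gen6_act

theorem tr_flat : ∀ (R : List ℕ), (∀ u ∈ R, 12 ≤ u ∧ u < 19) → ∀ x < 306936,
    tr A (R.flatMap Wof) x = tr A2 R x
  | [], _, _, _ => rfl
  | u :: R, hR, x, hx => by
    have hu := hR u (by simp)
    rw [List.flatMap_cons, tr_append', Wof_act u hu.1 hu.2 x hx]
    exact tr_flat R (fun v hv => hR v (by simp [hv])) (A2 u x) (hlt2 u hu.2 x hx)

/-- a relator in the letters `12..18` fixing all points gives a relation in `Fi₂₄` -/
theorem rel_of_fix (R : List ℕ) (hR : R.all (fun u => decide (12 ≤ u) && decide (u < 19)) = true)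
    (hfix : ∀ x < 306936, tr A2 R x = x) : wprod T R = 1 := by
  have hR' : ∀ u ∈ R, 12 ≤ u ∧ u < 19 := by
    intro u hu
    have := List.all_eq_true.mp hR u hu
    rw [Bool.and_eq_true] at this
    exact ⟨of_decide_eq_true this.1, of_decide_eq_true this.2⟩
  rw [← wprod_flat]
  apply wprod_eq_one_of_fix
  · intro s hs
    rw [List.mem_flatMap] at hs
    obtain ⟨u, hu, hsu⟩ := hs
    exact Wof_lt u (hR' u hu).1 (hR' u hu).2 s hsu
  · intro x hx
    rw [tr_flat R hR' x hx]
    exact hfix x hx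

end Cfsg.Agent.Lib.Helper28_Fi24TT
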