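import Cfsg.Agent.Lib.helper19_Benes
import Cfsg.Agent.Lib.helper19_Fi24LN0
import Cfsg.Agent.Lib.helper19_Fi24LN1
import Cfsg.Agent.Lib.helper19_Fi24LN2
import Cfsg.Agent.Lib.helper19_Fi24LN3
import Cfsg.Agent.Lib.helper19_Fi24LN4
import Cfsg.Agent.Lib.helper19_Fi24LN5
import Cfsg.Agent.Lib.helper19_Fi24LN6
import Cfsg.Agent.Lib.helper19_Fi24LN7
import Cfsg.Agent.Lib.helper19_Fi24LN8
import Cfsg.Agent.Lib.helper19_Fi24LN9
import Cfsg.Agent.Lib.helper19_Fi24LN10
import Cfsg.Agent.Lib.helper19_Fi24LN11

/-! Generated certificate data (lower bound) for the presentation `fi24`; by helper19. -/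

set_option autoImplicit false
set_option maxRecDepth 1000000
set_option Elab.async false

namespace Cfsg.Agent.Lib.helper19_Fi24L
open Cfsg.Agent.Lib.helper19_TC2 Cfsg.Agent.Lib.helper19_TC2L Cfsg.Agent.Lib.helper19_Benes

/-- the networks -/
def nets : List Net := [net0, net1, net2, net3, net4, net5, net6, net7, net8, net9, net10, net11]

/-- the action -/
noncomputable abbrev A : ℕ → ℕ → ℕ := act nets

theorem netsOK : okNets nets = true := by decide +kernel

theorem rangeOK : checkRange nets 306936 12 0 = true := by decide +kernel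

theorem zero2 : Nat.beq (net (nthN nets 2) 1) 1 = true := by decide +kernel

theorem zero3 : Nat.beq (net (nthN nets 3) 1) 1 = true := by decide +kernel

theorem zero4 : Nat.beq (net (nthN nets 4) 1) 1 = true := by decide +kernel

theorem zero5 : Nat.beq (net (nthN nets 5) 1) 1 = true := by decide +kernel

theorem zero6 : Nat.beq (net (nthN nets 6) 1) 1 = true := by decide +kernel

theorem zero7 : Nat.beq (net (nthN nets 7) 1) 1 = true := by decide +kernel

theorem zero8 : Nat.beq (net (nthN nets 8) 1) 1 = true := by decide +kernel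

theorem zero10 : Nat.beq (net (nthN nets 10) 1) 1 = true := by decide +kernel

theorem zero11 : Nat.beq (net (nthN nets 11) 1) 1 = true := by decide +kernel

theorem zero9 : Nat.beq (net (nthN nets 9) 1) 1 = true := by decide +kernel

theorem zero0 : Nat.beq (net (nthN nets 0) 1) 1 = true := by decide +kernel

theorem reachOK : checkReach nets 306936 12 9 = true := by decide +kernel

end Cfsg.Agent.Lib.helper19_Fi24L
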