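import Mathlib
import Cfsg.Agent.Lib.helper19_Fi24L
import Cfsg.Agent.Lib.Helper28_BenesOrb

/-!
# The point stabiliser of helper19's 306936-point model of the presented `Fi24` is maximal
(helper28).  The stabiliser of the point `0` has the orbits `{0}`, `C1` (31671 points) and `C2`
(275264 points) under the eleven letters other than `1`.
-/

set_option autoImplicit false
set_option maxRecDepth 1000000

namespace Cfsg.Agent.Lib.Helper28_Fi24Orb

open Cfsg.Agent.Lib.helper19_TC2 Cfsg.Agent.Lib.helper19_TC2L Cfsg.Agent.Lib.helper19_Benes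
open Cfsg.Agent.Lib.helper19_Fi24L Cfsg.Agent.Lib.Helper28_BenesOrb

/-- the letters of the point stabiliser -/
def ls : List ℕ := [0, 2, 3, 4, 5, 6, 7, 8, 9, 10, 11]

theorem hok : ∀ s, (nthN nets s).Ok := okNets_sound nets netsOK

theorem coverOK : checkCover nets ls 306936 10 6 9 1 = true := by decide +kernel

theorem trOK1 : checkTr nets [1] 0 1 = true := by decide +kernel

theorem trOK2 : checkTr nets [1, 0, 2, 1] 0 6 = true := by decide +kernel

theorem trOK3 : checkTr nets [2, 3] 12 6 = true := by decide +kernel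

theorem trOK4 : checkTr nets [1, 0, 2, 1] 12 7 = true := by decide +kernel

theorem trOK5 : checkTr nets [0, 3, 2] 7 1 = true := by decide +kernel

theorem cover : ∀ x < 306936, x = 0 ∨ Conn A ls 6 x ∨ Conn A ls 1 x := cover_sound hok coverOK

theorem tr1 : tr A [1] 0 = 1 := tr_of_check hok trOK1
theorem tr2 : tr A [1, 0, 2, 1] 0 = 6 := tr_of_check hok trOK2
theorem tr3 : tr A [2, 3] 12 = 6 := tr_of_check hok trOK3
theorem tr4 : tr A [1, 0, 2, 1] 12 = 7 := tr_of_check hok trOK4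
theorem tr5 : tr A [0, 3, 2] 7 = 1 := tr_of_check hok trOK5

section model

variable {G : Type*} [Group G] (Hs : Subgroup G) (S : ℕ → G) {inv : ℕ → ℕ}
  (isAct : IsAction 306936 12 A inv) (ψ : G →* Equiv.Perm (Fin 306936))
  (hψ : ∀ s < 12, ψ (S s) = (perm isAct s)⁻¹)

include hψ in
theorem psi_inv_apply {s : ℕ} (hs : s < 12) {x : ℕ} (hx : x < 306936) :
    ψ (S s)⁻¹ ⟨x, hx⟩ = ⟨A s x, isAct.lt s hs x hx⟩ := by
  rw [map_inv, hψ s hs, inv_inv]
  exact Fin.ext (perm_apply isAct hs _)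

/-- the element of a word -/
def wordElt (S : ℕ → G) (w : List ℕ) : G := ((w.map S).prod)⁻¹

include hψ in
theorem psi_wordElt : ∀ (w : List ℕ) (hw : ∀ s ∈ w, s < 12) {x : ℕ} (hx : x < 306936),
    ψ (wordElt S w) ⟨x, hx⟩ = ⟨tr A w x, tr_lt isAct w hw x hx⟩
  | [], _, x, hx => by simp [wordElt, tr]
  | s :: w, hw, x, hx => by
    have hs : s < 12 := hw s (by simp)
    have e : wordElt S (s :: w) = wordElt S w * (S s)⁻¹ := by
      simp [wordElt, mul_inv_rev]
    rw [e, map_mul, Equiv.Perm.mul_apply, psi_inv_apply S isAct ψ hψ hs hx,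
      psi_wordElt w (fun t ht => hw t (by simp [ht]))]
    rfl

include hψ in
theorem exists_of_conn (hmem : ∀ s ∈ ls, S s ∈ Hs) {r x : ℕ} (hc : Conn A ls r x) :
    ∀ hx : x < 306936, ∃ hr : r < 306936, ∃ h ∈ Hs, ψ h ⟨x, hx⟩ = ⟨r, hr⟩ := by
  induction hc with
  | base => intro hx; exact ⟨hx, 1, Hs.one_mem, by simp⟩
  | step s hs y _ ih =>
    intro hy
    have hs12 : s < 12 := by
      simp only [ls, List.mem_cons, List.not_mem_nil, or_false] at hs
      omega
    obtain ⟨hr, h, hh, he⟩ := ih (isAct.lt s hs12 y hy)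
    refine ⟨hr, h * (S s)⁻¹, Hs.mul_mem hh (Hs.inv_mem (hmem s hs)), ?_⟩
    rw [map_mul, Equiv.Perm.mul_apply, psi_inv_apply S isAct ψ hψ hs12 hy, he]

include hψ in
/-- the point stabiliser is a maximal subgroup. -/
theorem hs_maximal (hfix : ∀ g ∈ Hs, ψ g ⟨0, by decide⟩ = ⟨0, by decide⟩)
    (hidx : Hs.index = 306936) (hmem : ∀ s ∈ ls, S s ∈ Hs)
    (hgen : Subgroup.closure (S '' {s | s < 12}) = ⊤)
    (hreach : ∀ x < 306936, Reach A 12 x) :
    ∀ K : Subgroup G, Hs ≤ K → K = Hs ∨ K = ⊤ := by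
  have hstab : ∀ g : G, ψ g ⟨0, by decide⟩ = ⟨0, by decide⟩ → g ∈ Hs := by
    apply mem_of_fix_of_index ψ Hs _ hfix (by decide) hidx
    intro St hiff
    have hle : Hs ≤ St := fun g hg => (hiff g).mpr (hfix g hg)
    have hSt : ∀ g ∈ St, ψ g ⟨0, by decide⟩ = ⟨0, by decide⟩ := fun g hg => (hiff g).mp hg
    have hfi : Hs.FiniteIndex := ⟨by rw [hidx]; decide⟩
    have : St.FiniteIndex := Subgroup.finiteIndex_of_le hle
    have : Finite (G ⧸ St) := Subgroup.finite_quotient_of_finiteIndex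
    exact le_index_of_reach St (by decide) isAct S ψ hψ hSt hreach
  have h6 : (6 : ℕ) < 306936 := by decide
  have h1 : (1 : ℕ) < 306936 := by decide
  have h12 : (12 : ℕ) < 306936 := by decide
  have h7 : (7 : ℕ) < 306936 := by decide
  have h0 : (0 : ℕ) < 306936 := by decide
  refine maximal_of_rank3 ψ Hs ⟨0, h0⟩ hstab (S 1)⁻¹ ?_ ⟨6, h6⟩ ⟨1, h1⟩ ?_ ?_
    (wordElt S [1, 0, 2, 1]) ?_ ⟨12, h12⟩ ?_ ?_
  · -- generation
    intro K hK hk
    rw [eq_top_iff, ← hgen, Subgroup.closure_le]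
    rintro _ ⟨s, hs, rfl⟩
    have hs' : s < 12 := hs
    by_cases h1 : s = 1
    · subst h1
      simpa using K.inv_mem hk
    · apply hK
      apply hmem
      simp only [ls, List.mem_cons, List.not_mem_nil, or_false]
      omega
  · -- cover
    intro x
    rcases cover x.1 x.2 with h | h | h
    · left; exact Fin.ext h
    · right; left
      obtain ⟨_, g, hg, he⟩ := exists_of_conn Hs S isAct ψ hψ hmem h x.2
      exact ⟨g, hg, he⟩
    · right; right
      obtain ⟨_, g, hg, he⟩ := exists_of_conn Hs S isAct ψ hψ hmem h x.2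
      exact ⟨g, hg, he⟩
  · -- `k` moves `0` to `1`
    rw [psi_inv_apply S isAct ψ hψ (by decide) h0]
    exact Fin.ext tr1
  · -- `g1` moves `0` to `6`
    rw [psi_wordElt S isAct ψ hψ _ (by decide) h0]
    exact Fin.ext tr2
  · -- `12` is in `C1`
    have hc : Conn A ls 6 12 := conn_of_tr [2, 3] (by decide) 12 tr3
    obtain ⟨_, g, hg, he⟩ := exists_of_conn Hs S isAct ψ hψ hmem hc h12
    exact ⟨g, hg, he⟩
  · -- `g1` moves `12` to `7`, which is in `C2`
    have hc : Conn A ls 1 7 := conn_of_tr [0, 3, 2] (by decide) 7 tr5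
    obtain ⟨_, g, hg, he⟩ := exists_of_conn Hs S isAct ψ hψ hmem hc h7
    refine ⟨g, hg, ?_⟩
    rw [psi_wordElt S isAct ψ hψ _ (by decide) h12]
    have : (⟨tr A [1, 0, 2, 1] 12, tr_lt isAct _ (by decide) 12 h12⟩ : Fin 306936) = ⟨7, h7⟩ :=
      Fin.ext tr4
    rw [this]; exact he

end model

end Cfsg.Agent.Lib.Helper28_Fi24Orb
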