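import Cfsg.Agent.S1690
import Cfsg.Agent.Lib.Helper28_Fi24Orb

/-!
# Facts about the 306936-point model of the presented `Fi24` for S1698 (helper28)
-/

set_option autoImplicit false
set_option maxRecDepth 100000

namespace Cfsg.Agent.Lib.Helper28_Fi24Max

open Cfsg Cfsg.Spor
open Cfsg.Agent.Lib.helper19_TC2 Cfsg.Agent.Lib.helper19_TC2L Cfsg.Agent.Lib.helper19_TC2P
open Cfsg.Agent.Lib.helper19_Benes Cfsg.Agent.Lib.helper19_Fi24L Cfsg.Agent.Lib.helper19_Fi24A
open Cfsg.Agent.Lib.Helper28_BenesOrb Cfsg.Agent.Lib.Helper28_Fi24Orb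
open Cfsg.Agent.S1690

/-- the presented group -/
abbrev G : Type := PresentedGroup Rels

theorem hmem : ∀ s ∈ ls, S s ∈ Hs := by
  intro s hs
  apply S_mem_Hs
  simp only [ls, List.mem_cons, List.not_mem_nil, or_false] at hs ⊢
  omega

/-- the subgroup `⟨a, …, j, l⟩` is maximal. -/
theorem hs_max : ∀ K : Subgroup G, Hs ≤ K → K = Hs ∨ K = ⊤ :=
  hs_maximal Hs S isAction psi psi_S psi_fix index_eq hmem hgen reach_ok

/-- the action is transitive. -/
theorem exists_of_reach {x : ℕ} (hr : Reach A 12 x) :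
    ∃ (hx : x < 306936) (g : G), psi g ⟨0, by decide⟩ = ⟨x, hx⟩ := by
  induction hr with
  | zero => exact ⟨by decide, 1, by simp⟩
  | step s hs y _ ih =>
    obtain ⟨hy, g, hg⟩ := ih
    refine ⟨isAction.lt s hs y hy, (S s)⁻¹ * g, ?_⟩
    rw [map_mul, Equiv.Perm.mul_apply, hg, psi_inv_apply S isAction psi psi_S hs hy]

/-- a normal subgroup inside the point stabiliser acts trivially. -/
theorem acts_trivially (N : Subgroup G) (hN : N.Normal) (hNH : N ≤ Hs) : ∀ x ∈ N, psi x = 1 := by
  intro x hx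
  ext p
  obtain ⟨hp, g, hg⟩ := exists_of_reach (reach_ok p.1 p.2)
  have h1 : g⁻¹ * x * g ∈ N := by
    have := hN.conj_mem x hx g⁻¹
    simpa using this
  have h2 := psi_fix _ (hNH h1)
  rw [map_mul, map_mul, Equiv.Perm.mul_apply, Equiv.Perm.mul_apply, hg, map_inv,
    Equiv.Perm.inv_eq_iff_eq, ← hg] at h2
  have hpe : (⟨p.1, hp⟩ : Fin 306936) = p := Fin.ext rfl
  rw [hg, hpe] at h2
  rw [h2]; rfl

theorem trOKl : checkTr nets [0] 1 2 = true := by decide +kernel

theorem trOKa : checkTr nets [2] 1 3 = true := by decide +kernel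

theorem A_l : A 0 1 = 2 := tr_of_check Cfsg.Agent.Lib.Helper28_Fi24Orb.hok trOKl

theorem A_a : A 2 1 = 3 := tr_of_check Cfsg.Agent.Lib.Helper28_Fi24Orb.hok trOKa

theorem psi_inv_one (s : ℕ) (hs : s < 12) :
    psi (S s)⁻¹ ⟨1, by decide⟩ = ⟨A s 1, isAction.lt s hs 1 (by decide)⟩ :=
  psi_inv_apply S isAction psi psi_S hs (by decide)

theorem psi_l_ne_one : psi (S 0) ≠ 1 := by
  intro h
  have h1 := psi_inv_one 0 (by decide)
  rw [map_inv, h, inv_one] at h1
  have h2 := congrArg Fin.val h1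
  simp only [Equiv.Perm.coe_one, id_eq] at h2
  rw [A_l] at h2
  exact absurd h2 (by decide)

theorem psi_a_ne_one : psi (S 2) ≠ 1 := by
  intro h
  have h1 := psi_inv_one 2 (by decide)
  rw [map_inv, h, inv_one] at h1
  have h2 := congrArg Fin.val h1
  simp only [Equiv.Perm.coe_one, id_eq] at h2
  rw [A_a] at h2
  exact absurd h2 (by decide)

theorem psi_a_ne_l : psi (S 2) ≠ psi (S 0) := by
  intro h
  have h1 := psi_inv_one 2 (by decide)
  have h0 := psi_inv_one 0 (by decide)
  rw [map_inv, h, ← map_inv, h0] at h1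
  have h2 := congrArg Fin.val h1
  simp only at h2
  rw [A_l, A_a] at h2
  exact absurd h2 (by decide)

/-! ### all generators are conjugate -/

theorem braid_conj (i j : ℕ) (h3 : (S i * S j) ^ 3 = 1) :
    S j = (S i * S j) * S i * (S i * S j)⁻¹ := by
  have hi : (S i)⁻¹ = S i := S_inv i
  have hj : (S j)⁻¹ = S j := S_inv j
  have h : S i * S j * S i * S j * S i * S j = 1 := by
    simpa [pow_succ, mul_assoc] using h3
  have h' : S i * S j * S i * S j * S i = (S j)⁻¹ := mul_eq_one_iff_eq_inv.mp h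
  rw [mul_inv_rev, hi, hj, ← mul_assoc, h', hj]

theorem braid (i j : ℕ) (hm : coxLabel Fi24.edges (gen i) (gen j) = 3) : (S i * S j) ^ 3 = 1 := by
  rw [← wprod_altWord]; exact cox_rel i j 3 hm

theorem normalClosure_l :
    Subgroup.normalClosure ((Subgroup.zpowers (S 0) : Subgroup G) : Set G) = ⊤ := by
  set N : Subgroup G := Subgroup.normalClosure ((Subgroup.zpowers (S 0) : Subgroup G) : Set G)
    with hN
  have hn : N.Normal := Subgroup.normalClosure_normal
  have step : ∀ i j : ℕ, coxLabel Fi24.edges (gen i) (gen j) = 3 → S i ∈ N → S j ∈ N := by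
    intro i j hm hi
    rw [braid_conj i j (braid i j hm)]
    exact hn.conj_mem _ hi _
  have h0 : S 0 ∈ N := Subgroup.subset_normalClosure (Subgroup.mem_zpowers _)
  have h1 := step 0 1 (by decide) h0
  have h2 := step 1 2 (by decide) h1
  have h3 := step 2 3 (by decide) h2
  have h4 := step 3 4 (by decide) h3
  have h5 := step 4 5 (by decide) h4
  have h6 := step 5 6 (by decide) h5
  have h7 := step 6 7 (by decide) h6
  have h8 := step 7 8 (by decide) h7
  have h9 := step 8 9 (by decide) h8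
  have h10 := step 5 10 (by decide) h5
  have h11 := step 10 11 (by decide) h10
  rw [eq_top_iff, ← hgen, Subgroup.closure_le]
  rintro _ ⟨s, hs, rfl⟩
  have hs' : s < 12 := hs
  interval_cases s <;> assumption

end Cfsg.Agent.Lib.Helper28_Fi24Max
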