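import Mathlib
import Cfsg.Prelude.Def_SporadicB

/-!
# Classes of 3-transpositions from a rank 3 action (helper96)

Let `t` be an involution of `G` centralised by a subgroup `H` which has exactly three orbits on `G ⧸ H`.  If the
products `t * t^g` take the orders `1`, `2`, `3` at three elements `g`, these three elements represent the three
double cosets of `H`, and every product of two conjugates of `t` has order `1`, `2` or `3`.
Also: the size of a conjugacy class, transport of non-split double covers along isomorphisms, centralisers of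
conjugates.
-/

set_option autoImplicit false

namespace Cfsg.Agent.Lib.Helper96_ThreeTrans

open MulAction

section Orbits

variable {G : Type*} [Group G]

/-- Orbits of `H` on `G ⧸ H` with distinct representatives whose sizes add up to the index cover everything. -/
theorem orbits_cover (H : Subgroup G) {r : ℕ} (q : Fin (r + 1) → G ⧸ H) (m : Fin (r + 1) → ℕ)
    (hm : ∀ i, (orbit H (q i)).ncard = m i)
    (hdist : ∀ i j, i ≠ j → orbit H (q i) ≠ orbit H (q j))
    (hsum : ∑ i, m i = H.index) (hidx : H.index ≠ 0) :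
    ∀ x : G ⧸ H, ∃ i, x ∈ orbit H (q i) := by
  classical
  have hfin : Finite (G ⧸ H) := @Subgroup.finite_quotient_of_finiteIndex _ _ H ⟨hidx⟩
  have := Fintype.ofFinite (G ⧸ H)
  let t : Fin (r + 1) → Finset (G ⧸ H) := fun i => (orbit H (q i)).toFinset
  have ht : ∀ i, (t i).card = m i := by
    intro i
    rw [← hm i, Set.ncard_eq_toFinset_card']
  have hdisj : ∀ i ∈ (Finset.univ : Finset (Fin (r + 1))), ∀ j ∈ (Finset.univ : Finset (Fin (r + 1))),
      i ≠ j → Disjoint (t i) (t j) := by
    intro i _ j _ hij
    rw [Finset.disjoint_left]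
    intro x hxi hxj
    simp only [t, Set.mem_toFinset] at hxi hxj
    apply hdist i j hij
    rw [← orbit_eq_iff.mpr hxi, ← orbit_eq_iff.mpr hxj]
  have hcover : Finset.univ.biUnion t = (Finset.univ : Finset (G ⧸ H)) := by
    apply Finset.eq_univ_of_card
    rw [Finset.card_biUnion hdisj]
    simp only [ht]
    rw [hsum, Subgroup.index_eq_card, Nat.card_eq_fintype_card]
  intro x
  have hx : x ∈ Finset.univ.biUnion t := by rw [hcover]; exact Finset.mem_univ x
  obtain ⟨i, _, hi⟩ := Finset.mem_biUnion.mp hx
  exact ⟨i, by simpa [t] using hi⟩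

/-- cosets in the same `H`-orbit differ by elements of `H` on both sides -/
theorem exists_mul_of_orbit (H : Subgroup G) (g g' : G) (q : G ⧸ H)
    (h1 : ((g : G) : G ⧸ H) ∈ orbit H q) (h2 : ((g' : G) : G ⧸ H) ∈ orbit H q) :
    ∃ a ∈ H, ∃ b ∈ H, g' = a * g * b := by
  have h3 : ((g' : G) : G ⧸ H) ∈ orbit H ((g : G) : G ⧸ H) := by
    rw [orbit_eq_iff.mpr h1]; exact h2
  obtain ⟨a, ha⟩ := h3
  have ha' : (((a : G) * g : G) : G ⧸ H) = ((g' : G) : G ⧸ H) := ha
  rw [QuotientGroup.eq] at ha'
  refine ⟨a, a.2, _, ha', ?_⟩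
  group

end Orbits

section Three

variable {G : Type*} [Group G]

/-- the product of `t` and its conjugate by `g` -/
def prodConj (t g : G) : G := t * (g * t * g⁻¹)

theorem prodConj_mul (t : G) (H : Subgroup G) (hHt : ∀ h ∈ H, h * t = t * h) (a b g : G)
    (ha : a ∈ H) (hb : b ∈ H) : prodConj t (a * g * b) = a * prodConj t g * a⁻¹ := by
  unfold prodConj
  have h1 : b * t * b⁻¹ = t := by rw [hHt b hb]; group
  have h2 : a * t * a⁻¹ = t := by rw [hHt a ha]; group
  calc t * (a * g * b * t * (a * g * b)⁻¹) = t * (a * (g * (b * t * b⁻¹) * g⁻¹) * a⁻¹) := by group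
    _ = (a * t * a⁻¹) * (a * (g * t * g⁻¹) * a⁻¹) := by rw [h1, h2]
    _ = a * (t * (g * t * g⁻¹)) * a⁻¹ := by group

theorem orderOf_conj' (a x : G) : orderOf (a * x * a⁻¹) = orderOf x := by
  have := orderOf_injective (MulAut.conj a).toMonoidHom (MulAut.conj a).injective x
  simpa using this

/-- **Rank 3 criterion** for 3-transpositions. -/
theorem three_of_rank3 (t : G) (H : Subgroup G) (hHt : ∀ h ∈ H, h * t = t * h)
    (q : Fin 3 → G ⧸ H) (m : Fin 3 → ℕ) (hm : ∀ i, (orbit H (q i)).ncard = m i)
    (hdist : ∀ i j, i ≠ j → orbit H (q i) ≠ orbit H (q j))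
    (hsum : ∑ i, m i = H.index) (hidx : H.index ≠ 0)
    (g1 g2 : G) (ht : t * t = 1) (h1 : orderOf (prodConj t g1) = 2) (h2 : orderOf (prodConj t g2) = 3) :
    ∀ g : G, (prodConj t g) ^ 2 = 1 ∨ (prodConj t g) ^ 3 = 1 := by
  classical
  have hcov := orbits_cover H q m hm hdist hsum hidx
  -- the three representatives
  let rep : Fin 3 → G := ![1, g1, g2]
  let o : Fin 3 → ℕ := ![1, 2, 3]
  have ho : ∀ k, orderOf (prodConj t (rep k)) = o k := by
    intro k
    fin_cases k
    · show orderOf (prodConj t 1) = 1
      unfold prodConj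
      rw [orderOf_eq_one_iff]
      simp [ht]
    · exact h1
    · exact h2
  have hoinj : Function.Injective o := by decide
  -- orders agree on an orbit
  have hsame : ∀ (g g' : G) (i : Fin 3), ((g : G) : G ⧸ H) ∈ orbit H (q i) →
      ((g' : G) : G ⧸ H) ∈ orbit H (q i) → orderOf (prodConj t g') = orderOf (prodConj t g) := by
    intro g g' i hg hg'
    obtain ⟨a, ha, b, hb, rfl⟩ := exists_mul_of_orbit H g g' (q i) hg hg'
    rw [prodConj_mul t H hHt a b g ha hb, orderOf_conj']
  -- the orbit index of a representative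
  let idx : Fin 3 → Fin 3 := fun k => Classical.choose (hcov ((rep k : G) : G ⧸ H))
  have hidx' : ∀ k, ((rep k : G) : G ⧸ H) ∈ orbit H (q (idx k)) :=
    fun k => Classical.choose_spec (hcov ((rep k : G) : G ⧸ H))
  have hinj : Function.Injective idx := by
    intro k k' hkk
    apply hoinj
    rw [← ho k, ← ho k']
    have hk' := hidx' k'
    rw [← hkk] at hk'
    exact (hsame (rep k') (rep k) (idx k) hk' (hidx' k))
  have hsurj : Function.Surjective idx := Finite.injective_iff_surjective.mp hinj
  intro g
  obtain ⟨i, hi⟩ := hcov ((g : G) : G ⧸ H)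
  obtain ⟨k, rfl⟩ := hsurj i
  have hord : orderOf (prodConj t g) = o k := by
    rw [← ho k]
    exact hsame (rep k) g (idx k) (hidx' k) hi
  fin_cases k
  · left
    have : orderOf (prodConj t g) = 1 := hord
    rw [orderOf_eq_one_iff] at this
    rw [this, one_pow]
  · left
    have : orderOf (prodConj t g) = 2 := hord
    rw [← this]
    exact pow_orderOf_eq_one _
  · right
    have : orderOf (prodConj t g) = 3 := hord
    rw [← this]
    exact pow_orderOf_eq_one _

/-- the set of conjugates of `t` is a set of 3-transpositions -/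
theorem isThreeTranspositionSet_conjugatesOf (t : G) (ht2 : orderOf t = 2)
    (h3 : ∀ g : G, (prodConj t g) ^ 2 = 1 ∨ (prodConj t g) ^ 3 = 1) :
    Cfsg.IsThreeTranspositionSet (conjugatesOf t) := by
  refine ⟨?_, ?_⟩
  · intro d hd
    have hd' : IsConj t d := hd
    rw [isConj_iff] at hd'
    obtain ⟨c, rfl⟩ := hd'
    rw [orderOf_conj', ht2]
  · intro d hd e he
    have hd' : IsConj t d := hd
    have he' : IsConj t e := he
    rw [isConj_iff] at hd' he'
    obtain ⟨x, rfl⟩ := hd'
    obtain ⟨y, rfl⟩ := he'
    have key : x * t * x⁻¹ * (y * t * y⁻¹) = x * prodConj t (x⁻¹ * y) * x⁻¹ := by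
      unfold prodConj
      group
    rw [key, conj_pow, conj_pow]
    rcases h3 (x⁻¹ * y) with h | h
    · left; rw [h]; group
    · right; rw [h]; group

end Three

section Class

variable {G : Type*} [Group G]

/-- the size of a conjugacy class is the index of the centraliser -/
theorem card_conjugatesOf (t : G) : Nat.card (conjugatesOf t) = (Subgroup.centralizer {t}).index := by
  rw [Subgroup.index_eq_card]
  symm
  let f : G ⧸ Subgroup.centralizer {t} → conjugatesOf t :=
    Quotient.lift (s := QuotientGroup.leftRel (Subgroup.centralizer {t}))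
      (fun g => (⟨g * t * g⁻¹, isConj_iff.mpr ⟨g, rfl⟩⟩ : conjugatesOf t)) (by
        intro a b hab
        have hab' := QuotientGroup.leftRel_apply.mp hab
        rw [Subgroup.mem_centralizer_iff] at hab'
        have h := hab' t rfl
        apply Subtype.ext
        show a * t * a⁻¹ = b * t * b⁻¹
        have h2 : t * (a⁻¹ * b) = a⁻¹ * b * t := h
        calc a * t * a⁻¹ = a * (t * (a⁻¹ * b)) * b⁻¹ := by group
          _ = a * (a⁻¹ * b * t) * b⁻¹ := by rw [h2]
          _ = b * t * b⁻¹ := by group)
  apply Nat.card_congr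
  refine Equiv.ofBijective f ⟨?_, ?_⟩
  · intro x y
    induction x using QuotientGroup.induction_on with
    | H a =>
    induction y using QuotientGroup.induction_on with
    | H b =>
    intro hxy
    have h : a * t * a⁻¹ = b * t * b⁻¹ := congrArg Subtype.val hxy
    rw [QuotientGroup.eq, Subgroup.mem_centralizer_iff]
    intro x hx
    rw [Set.mem_singleton_iff] at hx
    subst hx
    calc x * (a⁻¹ * b) = a⁻¹ * (a * x * a⁻¹) * b := by group
      _ = a⁻¹ * (b * x * b⁻¹) * b := by rw [h]
      _ = a⁻¹ * b * x := by group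
  · rintro ⟨d, hd⟩
    have hd' : IsConj t d := hd
    rw [isConj_iff] at hd'
    obtain ⟨c, rfl⟩ := hd'
    exact ⟨QuotientGroup.mk c, rfl⟩

/-- the conjugates of an element whose normal closure is everything generate the group -/
theorem closure_conjugatesOf_eq_top (t : G)
    (h : Subgroup.normalClosure ((Subgroup.zpowers t : Subgroup G) : Set G) = ⊤) :
    Subgroup.closure (conjugatesOf t) = ⊤ := by
  have h1 : Subgroup.closure (conjugatesOf t) = Subgroup.normalClosure {t} := by
    unfold Subgroup.normalClosure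
    rw [Group.conjugatesOfSet, Set.biUnion_singleton]
  rw [h1, eq_top_iff, ← h]
  apply Subgroup.normalClosure_le_normal
  intro x hx
  have hx' : x ∈ Subgroup.zpowers t := hx
  exact Subgroup.zpowers_le.mpr (Subgroup.subset_normalClosure (Set.mem_singleton t)) hx'

/-- the centraliser of a conjugate is isomorphic to the centraliser -/
noncomputable def centralizerConj (c t : G) :
    Subgroup.centralizer {t} ≃* Subgroup.centralizer {c * t * c⁻¹} :=
  (MulEquiv.subgroupMap (MulAut.conj c) (Subgroup.centralizer {t})).trans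
    (MulEquiv.subgroupCongr (by
      ext x
      constructor
      · rintro ⟨y, hy, rfl⟩
        rw [SetLike.mem_coe, Subgroup.mem_centralizer_iff] at hy
        rw [Subgroup.mem_centralizer_iff]
        intro z hz
        rw [Set.mem_singleton_iff] at hz
        subst hz
        have hy' : t * y = y * t := hy t rfl
        show c * t * c⁻¹ * (c * y * c⁻¹) = c * y * c⁻¹ * (c * t * c⁻¹)
        calc c * t * c⁻¹ * (c * y * c⁻¹) = c * (t * y) * c⁻¹ := by group
          _ = c * (y * t) * c⁻¹ := by rw [hy']
          _ = c * y * c⁻¹ * (c * t * c⁻¹) := by group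
      · intro hx
        rw [Subgroup.mem_centralizer_iff] at hx
        have hx' : c * t * c⁻¹ * x = x * (c * t * c⁻¹) := hx _ rfl
        refine ⟨c⁻¹ * x * c, ?_, ?_⟩
        · rw [SetLike.mem_coe, Subgroup.mem_centralizer_iff]
          intro z hz
          rw [Set.mem_singleton_iff] at hz
          subst hz
          calc z * (c⁻¹ * x * c) = c⁻¹ * (c * z * c⁻¹ * x) * c := by group
            _ = c⁻¹ * (x * (c * z * c⁻¹)) * c := by rw [hx']
            _ = c⁻¹ * x * c * z := by group
        · show c * (c⁻¹ * x * c) * c⁻¹ = x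
          group))

end Class

section Cover

variable {H₁ H₂ K : Type*} [Group H₁] [Group H₂] [Group K]

/-- the image of the centre under an isomorphism -/
theorem map_center (e : H₁ ≃* H₂) : (Subgroup.center H₁).map e.toMonoidHom = Subgroup.center H₂ := by
  ext x
  simp only [Subgroup.mem_map, Subgroup.mem_center_iff, MulEquiv.coe_toMonoidHom]
  constructor
  · rintro ⟨y, hy, rfl⟩ z
    obtain ⟨w, rfl⟩ := e.surjective z
    rw [← map_mul, ← map_mul, hy w]
  · intro hx
    refine ⟨e.symm x, fun z => ?_, e.apply_symm_apply x⟩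
    apply e.injective
    rw [map_mul, map_mul, e.apply_symm_apply]
    exact hx (e z)

/-- non-split double covers are transported along isomorphisms of the covering group -/
theorem nonsplit_of_equiv (e : H₁ ≃* H₂) (h : Cfsg.IsNonsplitDoubleCover H₁ K) :
    Cfsg.IsNonsplitDoubleCover H₂ K := by
  obtain ⟨h1, ⟨φ⟩, h3⟩ := h
  have hc := map_center e
  refine ⟨?_, ?_, ?_⟩
  · rw [← hc]
    rw [← h1]
    exact (Nat.card_congr (MulEquiv.subgroupMap e (Subgroup.center H₁)).toEquiv).symm
  · have e2 : H₁ ⧸ Subgroup.center H₁ ≃* H₂ ⧸ Subgroup.center H₂ :=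
      QuotientGroup.congr (Subgroup.center H₁) (Subgroup.center H₂) e hc
    exact ⟨e2.symm.trans φ⟩
  · intro L hL
    apply h3 (L.comap e.toMonoidHom)
    -- transport the complement
    rw [Subgroup.isComplement'_def] at hL ⊢
    rw [Subgroup.isComplement_iff_existsUnique] at hL ⊢
    intro g
    obtain ⟨⟨⟨a, ha⟩, ⟨b, hb⟩⟩, hab, huniq⟩ := hL (e g)
    have hab' : a * b = e g := hab
    have ha' : e.symm a ∈ Subgroup.center H₁ := by
      rw [← hc] at ha
      obtain ⟨y, hy, rfl⟩ := ha
      simpa using hy
    have hb' : e.symm b ∈ L.comap e.toMonoidHom := by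
      show e (e.symm b) ∈ L
      rw [e.apply_symm_apply]; exact hb
    refine ⟨(⟨e.symm a, ha'⟩, ⟨e.symm b, hb'⟩), ?_, ?_⟩
    · show e.symm a * e.symm b = g
      rw [← map_mul, hab', e.symm_apply_apply]
    · rintro ⟨⟨a', ha''⟩, ⟨b', hb''⟩⟩ hab''
      have hab3 : a' * b' = g := hab''
      have hea : e a' ∈ Subgroup.center H₂ := by
        rw [← hc]; exact ⟨a', ha'', rfl⟩
      have heb : e b' ∈ L := hb''
      have := huniq (⟨e a', hea⟩, ⟨e b', heb⟩) (by
        show e a' * e b' = e g
        rw [← map_mul, hab3])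
      have h1' : e a' = a := congrArg (fun p => (p.1 : H₂)) this
      have h2' : e b' = b := congrArg (fun p => (p.2 : H₂)) this
      apply Prod.ext
      · apply Subtype.ext
        show a' = e.symm a
        rw [← h1', e.symm_apply_apply]
      · apply Subtype.ext
        show b' = e.symm b
        rw [← h2', e.symm_apply_apply]

end Cover

end Cfsg.Agent.Lib.Helper96_ThreeTrans
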