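import Cfsg.Agent.S1698
import Cfsg.Agent.Lib.Helper96_ThreeTrans
import Cfsg.Prelude.Def_Spor_He

/-!
The presented group `Fi₂₄` as a 3-transposition group (for S0473); by helper28.

* the class of the generator `l` is a class of 306936 3-transpositions (the point stabiliser `Hs`
  of the action on 306936 points has three double cosets, with representatives `1`, `k l a k`
  and `k`);
* the centraliser of `l` is `Hs = 2 × Fi₂₃`, and `Hs ∩ Fi₂₄'` is a copy of `Fi₂₃`;
* tools to verify that words in the generators are trivial (on the 306936 points, with the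
  switching networks of helper19) and to build a copy of the Held group from seven such words.
-/

set_option autoImplicit false
set_option maxRecDepth 100000

namespace Cfsg.Agent.Lib.Helper28_Fi24TT

open Cfsg Cfsg.Spor
open Cfsg.Agent.Lib.helper19_TC2 Cfsg.Agent.Lib.helper19_TC2L Cfsg.Agent.Lib.helper19_TC2P
open Cfsg.Agent.Lib.helper19_Benes Cfsg.Agent.Lib.helper19_Fi24L Cfsg.Agent.Lib.helper19_Fi24A
open Cfsg.Agent.Lib.Helper28_BenesOrb Cfsg.Agent.Lib.Helper28_Fi24Orb
open Cfsg.Agent.Lib.Helper28_Fi24Max Cfsg.Agent.Lib.Helper96_ThreeTrans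
open Cfsg.Agent.S1690
open Cfsg.Agent.Lib.Helper96_Fi24H (Z lH mem_Z φ φ_bijective)

/-- `Fi23` is simple of the right order -/
theorem h23 : Cfsg.IsFi23 Cfsg.Spor.Fi23 := Cfsg.Agent.S1697.result

theorem S0_ne_one : S 0 ≠ 1 := fun h => psi_l_ne_one (by rw [h, map_one])
theorem S2_ne_one : S 2 ≠ 1 := fun h => psi_a_ne_one (by rw [h, map_one])
theorem S2_ne_S0 : S 2 ≠ S 0 := fun h => psi_a_ne_l (by rw [h])

theorem hstab : ∀ g : G, psi g ⟨0, by decide⟩ = ⟨0, by decide⟩ → g ∈ Hs := by
  apply mem_of_fix_of_index psi Hs _ psi_fix (by decide) index_eq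
  intro St hiff
  have hle : Hs ≤ St := fun g hg => (hiff g).mpr (psi_fix g hg)
  have hSt : ∀ g ∈ St, psi g ⟨0, by decide⟩ = ⟨0, by decide⟩ := fun g hg => (hiff g).mp hg
  have hfi : Hs.FiniteIndex := ⟨by rw [index_eq]; decide⟩
  have : St.FiniteIndex := Subgroup.finiteIndex_of_le hle
  have : Finite (G ⧸ St) := Subgroup.finite_quotient_of_finiteIndex
  exact le_index_of_reach St (by decide) isAction S psi psi_S hSt reach_ok

/-- the permutation representation is faithful -/
theorem psi_injective : Function.Injective psi := by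
  rw [← MonoidHom.ker_eq_bot_iff]
  apply Cfsg.Agent.Lib.Helper96_Fi24Final.core_trivial h23 psi psi_l_ne_one psi_a_ne_one psi_a_ne_l
    psi.ker inferInstance
  · intro g hg
    apply hstab
    rw [MonoidHom.mem_ker.mp hg]; rfl
  · intro n hn
    exact MonoidHom.mem_ker.mp hn

/-- the transposition -/
noncomputable abbrev tG : G := S 0

theorem tG_sq : tG * tG = 1 := by
  have := sq_word 0
  simpa [wprod] using this

theorem orderOf_tG : orderOf tG = 2 := by
  have : Fact (Nat.Prime 2) := ⟨Nat.prime_two⟩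
  apply orderOf_eq_prime
  · rw [pow_two]; exact tG_sq
  · exact S0_ne_one

theorem Hs_comm : ∀ h ∈ Hs, h * tG = tG * h := fun h hh =>
  Cfsg.Agent.Lib.Helper96_Fi24Final.l_comm_of_mem h hh

/-- double coset decomposition -/
theorem dcoset (g : G) : g ∈ Hs ∨ (∃ a ∈ Hs, ∃ b ∈ Hs, g = a * wordElt S [1, 0, 2, 1] * b) ∨
    (∃ a ∈ Hs, ∃ b ∈ Hs, g = a * (S 1)⁻¹ * b) := by
  have h0 : (0 : ℕ) < 306936 := by decide
  have key : ∀ (r : ℕ) (hr : r < 306936) (g1 : G), psi g1 ⟨0, h0⟩ = ⟨r, hr⟩ →
      (∃ h ∈ Hs, psi h (psi g ⟨0, h0⟩) = ⟨r, hr⟩) → ∃ a ∈ Hs, ∃ b ∈ Hs, g = a * g1 * b := by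
    rintro r hr g1 hg1 ⟨h, hh, he⟩
    have h1 : psi (g1⁻¹ * (h * g)) ⟨0, h0⟩ = ⟨0, h0⟩ := by
      rw [map_mul, map_mul, Equiv.Perm.mul_apply, Equiv.Perm.mul_apply, he, ← hg1,
        ← Equiv.Perm.mul_apply, ← map_mul]
      simp
    refine ⟨h⁻¹, Hs.inv_mem hh, _, hstab _ h1, ?_⟩
    group
  rcases cover (psi g ⟨0, h0⟩).1 (psi g ⟨0, h0⟩).2 with h | h | h
  · left
    apply hstab
    exact Fin.ext h
  · right; left
    obtain ⟨hr, a, ha, he⟩ := exists_of_conn Hs S isAction psi psi_S hmem h (psi g ⟨0, h0⟩).2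
    apply key 6 hr (wordElt S [1, 0, 2, 1])
    · rw [psi_wordElt S isAction psi psi_S [1, 0, 2, 1] (by decide) h0]
      exact Fin.ext tr2
    · exact ⟨a, ha, he⟩
  · right; right
    obtain ⟨hr, a, ha, he⟩ := exists_of_conn Hs S isAction psi psi_S hmem h (psi g ⟨0, h0⟩).2
    apply key 1 hr ((S 1)⁻¹)
    · rw [psi_inv_apply S isAction psi psi_S (by decide : (1 : ℕ) < 12) h0]
      exact Fin.ext tr1
    · exact ⟨a, ha, he⟩

theorem S_sq (s : ℕ) : S s * S s = 1 := by
  have := sq_word s
  simpa [wprod] using this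

theorem S_comm (i j : ℕ) (hm : coxLabel Fi24.edges (gen i) (gen j) = 2) : S i * S j = S j * S i := by
  have h := cox_rel i j 2 hm
  rw [wprod_altWord, pow_two] at h
  have h3 : S i * S j = (S i * S j)⁻¹ := eq_inv_of_mul_eq_one_left h
  rw [h3, mul_inv_rev, S_inv, S_inv]

theorem wordElt_g1 : wordElt S [1, 0, 2, 1] = (S 1 * S 2) * (S 0 * S 1) := by
  simp only [wordElt, List.map_cons, List.map_nil, List.prod_cons, List.prod_nil, mul_one, mul_inv_rev,
    S_inv, mul_assoc]

theorem conj_g1 : wordElt S [1, 0, 2, 1] * tG * (wordElt S [1, 0, 2, 1])⁻¹ = S 2 := by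
  rw [wordElt_g1]
  have h1 := braid_conj 0 1 (braid 0 1 (by decide))
  have h2 := braid_conj 1 2 (braid 1 2 (by decide))
  calc (S 1 * S 2) * (S 0 * S 1) * tG * ((S 1 * S 2) * (S 0 * S 1))⁻¹
      = (S 1 * S 2) * ((S 0 * S 1) * S 0 * (S 0 * S 1)⁻¹) * (S 1 * S 2)⁻¹ := by group
    _ = (S 1 * S 2) * S 1 * (S 1 * S 2)⁻¹ := by rw [← h1]
    _ = S 2 := h2.symm

theorem prodConj_g1 : prodConj tG (wordElt S [1, 0, 2, 1]) = S 0 * S 2 := by
  unfold prodConj
  rw [conj_g1]

theorem prodConj_g1_sq : (prodConj tG (wordElt S [1, 0, 2, 1])) ^ 2 = 1 := by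
  rw [prodConj_g1, ← wprod_altWord]
  exact cox_rel 0 2 2 (by decide)

theorem prodConj_g2 : prodConj tG ((S 1)⁻¹) = (S 0 * S 1) ^ 2 := by
  unfold prodConj
  rw [inv_inv, S_inv, pow_two]
  group

theorem prodConj_g2_cube : (prodConj tG ((S 1)⁻¹)) ^ 3 = 1 := by
  rw [prodConj_g2, ← pow_mul, mul_comm, pow_mul, braid 0 1 (by decide), one_pow]

/-- products of two conjugates of `l` have order 1, 2 or 3 -/
theorem three : ∀ g : G, (prodConj tG g) ^ 2 = 1 ∨ (prodConj tG g) ^ 3 = 1 := by
  intro g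
  rcases dcoset g with h | ⟨a, ha, b, hb, rfl⟩ | ⟨a, ha, b, hb, rfl⟩
  · left
    have : prodConj tG g = 1 := by
      unfold prodConj
      rw [Hs_comm g h]
      calc tG * (tG * g * g⁻¹) = tG * tG := by group
        _ = 1 := tG_sq
    rw [this, one_pow]
  · left
    rw [prodConj_mul tG Hs Hs_comm a b _ ha hb, conj_pow, prodConj_g1_sq]
    group
  · right
    rw [prodConj_mul tG Hs Hs_comm a b _ ha hb, conj_pow, prodConj_g2_cube]
    group

theorem S1_not_comm : S 1 * S 0 ≠ S 0 * S 1 := by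
  intro h
  -- then `(S 0 * S 1)^2 = 1`, so `S 0 * S 1 = 1`
  have h2 : (S 0 * S 1) ^ 2 = 1 := by
    rw [pow_two]
    calc S 0 * S 1 * (S 0 * S 1) = S 0 * (S 1 * S 0) * S 1 := by group
      _ = S 0 * (S 0 * S 1) * S 1 := by rw [h]
      _ = (S 0 * S 0) * (S 1 * S 1) := by group
      _ = 1 := by rw [S_sq, S_sq, one_mul]
  have h3 := braid 0 1 (by decide)
  have h1 : S 0 * S 1 = 1 := by
    rw [pow_succ, h2, one_mul] at h3
    exact h3
  have h01 : S 1 = S 0 := by
    calc S 1 = (S 0)⁻¹ * (S 0 * S 1) := by group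
      _ = S 0 := by rw [h1, mul_one, S_inv]
  -- but `S 1` moves the base point
  have h0 : (0 : ℕ) < 306936 := by decide
  have e1 := psi_inv_apply S isAction psi psi_S (by decide : (1 : ℕ) < 12) h0
  rw [S_inv, h01] at e1
  have e2 := psi_fix (S 0) (S_mem_Hs 0 (by decide))
  rw [e2] at e1
  have := congrArg Fin.val e1
  simp only at this
  rw [tr1'] at this
  exact absurd this (by decide)
where
  tr1' : A 1 0 = 1 := tr1

theorem centralizer_eq : Subgroup.centralizer {tG} = Hs := by
  have hle : Hs ≤ Subgroup.centralizer {tG} := by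
    intro h hh
    rw [Subgroup.mem_centralizer_iff]
    intro y hy
    rw [Set.mem_singleton_iff.mp hy]
    exact (Hs_comm h hh).symm
  rcases hs_max _ hle with h | h
  · exact h
  · exfalso
    have hg : S 1 ∈ Subgroup.centralizer {tG} := by rw [h]; exact Subgroup.mem_top _
    rw [Subgroup.mem_centralizer_iff] at hg
    exact S1_not_comm (hg tG rfl).symm

theorem card_D : Nat.card (conjugatesOf tG) = 306936 := by
  rw [card_conjugatesOf, centralizer_eq]
  exact index_eq

theorem card_Hs : Nat.card Hs = 2 * 4089470473293004800 :=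
  Cfsg.Agent.Lib.Helper96_Fi24H.card_Hs h23 S0_ne_one S2_ne_one S2_ne_S0

theorem card_G : Nat.card G = 2 * 1255205709190661721292800 := by
  rw [← Subgroup.card_mul_index Hs, card_Hs, index_eq]

theorem finite_G : Finite G := Nat.finite_of_card_ne_zero (by rw [card_G]; norm_num)

theorem tG_not_mem : tG ∉ commutator G := by
  intro h
  have hk : commutator G ≤ (Cfsg.Agent.S1691.sgn).ker := Abelianization.commutator_subset_ker _
  have h1 := hk h
  rw [MonoidHom.mem_ker] at h1
  have h2 : Cfsg.Agent.S1691.sgn tG = Multiplicative.ofAdd 1 := Cfsg.Agent.S1691.sgn_of _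
  rw [h2] at h1
  exact absurd h1 (by decide)

theorem index_comm : (commutator G).index = 2 := Cfsg.Agent.S1691.result

theorem mul_tG_mem (g : G) (hg : g ∉ commutator G) : g * tG ∈ commutator G := by
  rw [Subgroup.mul_mem_iff_of_index_two index_comm]
  exact ⟨fun h => absurd h hg, fun h => absurd h tG_not_mem⟩

/-- the simple subgroup `Fi₂₃` of the transposition centraliser -/
noncomputable def K0 : Subgroup G := Hs ⊓ commutator G

noncomputable def rho : K0 →* Hs ⧸ Z :=
  (QuotientGroup.mk' Z).comp (Subgroup.inclusion (inf_le_left : K0 ≤ Hs))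

theorem rho_injective : Function.Injective rho := by
  rw [← MonoidHom.ker_eq_bot_iff, eq_bot_iff]
  intro k hk
  rw [MonoidHom.mem_ker] at hk
  have h2 : Subgroup.inclusion (inf_le_left : K0 ≤ Hs) k ∈ Z := (QuotientGroup.eq_one_iff _).mp hk
  rw [Subgroup.mem_bot]
  rcases mem_Z _ h2 with h3 | h3
  · apply Subtype.ext
    have h5 : ((Subgroup.inclusion (inf_le_left : K0 ≤ Hs) k : Hs) : G) = ((1 : Hs) : G) :=
      congrArg Subtype.val h3
    exact h5
  · exfalso
    have h4 : (k : G) = tG := congrArg Subtype.val h3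
    apply tG_not_mem
    rw [← h4]
    exact k.2.2

theorem rho_surjective : Function.Surjective rho := by
  intro q
  obtain ⟨h, rfl⟩ := QuotientGroup.mk_surjective q
  by_cases hc : (h : G) ∈ commutator G
  · exact ⟨⟨h.1, ⟨h.2, hc⟩⟩, rfl⟩
  · have hm : (h * lH : Hs).1 ∈ commutator G := mul_tG_mem _ hc
    refine ⟨⟨(h * lH : Hs).1, ⟨(h * lH : Hs).2, hm⟩⟩, ?_⟩
    show (QuotientGroup.mk (h * lH) : Hs ⧸ Z) = QuotientGroup.mk h
    rw [QuotientGroup.mk_mul]
    have : (QuotientGroup.mk lH : Hs ⧸ Z) = 1 := (QuotientGroup.eq_one_iff _).mpr (Subgroup.mem_zpowers lH)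
    rw [this, mul_one]

noncomputable def K0_equiv : K0 ≃* Cfsg.Spor.Fi23 :=
  (MulEquiv.ofBijective rho ⟨rho_injective, rho_surjective⟩).trans
    (MulEquiv.ofBijective φ (φ_bijective h23 S2_ne_one S2_ne_S0)).symm

theorem K0_isFi23 : Cfsg.IsFi23 K0 := by
  have : IsSimpleGroup Cfsg.Spor.Fi23 := h23.1
  exact ⟨K0_equiv.isSimpleGroup, (Nat.card_congr K0_equiv.toEquiv).trans h23.2⟩

/-- every transposition centraliser contains a copy of `Fi₂₃` -/
theorem exists_Fi23 (c : G) :
    ∃ K : Subgroup G, K ≤ Subgroup.centralizer ({c * tG * c⁻¹} : Set G) ∧ Cfsg.IsFi23 K := by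
  refine ⟨K0.map (MulAut.conj c).toMonoidHom, ?_, ?_⟩
  · rintro x ⟨k, hk, rfl⟩
    rw [Subgroup.mem_centralizer_iff]
    intro y hy
    rw [Set.mem_singleton_iff.mp hy]
    have hc := Hs_comm k hk.1
    show c * tG * c⁻¹ * (c * k * c⁻¹) = c * k * c⁻¹ * (c * tG * c⁻¹)
    calc c * tG * c⁻¹ * (c * k * c⁻¹) = c * (tG * k) * c⁻¹ := by group
      _ = c * (k * tG) * c⁻¹ := by rw [hc]
      _ = c * k * c⁻¹ * (c * tG * c⁻¹) := by group
  · have e : K0 ≃* K0.map (MulAut.conj c).toMonoidHom :=
      K0.equivMapOfInjective _ (MulAut.conj c).injective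
    have : IsSimpleGroup K0 := K0_isFi23.1
    exact ⟨e.symm.isSimpleGroup, (Nat.card_congr e.symm.toEquiv).trans K0_isFi23.2⟩

theorem card_centralizer (c : G) :
    Nat.card (Subgroup.centralizer ({c * tG * c⁻¹} : Set G)) = 2 * 4089470473293004800 := by
  rw [← Nat.card_congr (centralizerConj c tG).toEquiv, centralizer_eq]
  exact card_Hs

/-- `Fi₂₃` inside the commutator subgroup -/
theorem exists_Fi23_comm : ∃ K : Subgroup (commutator G), Cfsg.IsFi23 K := by
  refine ⟨K0.subgroupOf (commutator G), ?_⟩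
  have e : K0.subgroupOf (commutator G) ≃* K0 := Subgroup.subgroupOfEquivOfLe inf_le_right
  have : IsSimpleGroup K0 := K0_isFi23.1
  exact ⟨e.isSimpleGroup, (Nat.card_congr e.toEquiv).trans K0_isFi23.2⟩

theorem comm_isFi24' : Cfsg.IsFi24' (commutator G) := Cfsg.Agent.S1698.result

/-! ### words in the generators of `Fi₂₄` and their permutations -/

theorem psi_wprod : ∀ (W : List ℕ), (∀ s ∈ W, s < 12) → psi (wprod S W) = pword isAction W
  | [], _ => by simp [wprod, pword_nil]
  | s :: W, hW => by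
    rw [wprod, map_mul, psi_S s (hW s (by simp)), pword_cons,
      psi_wprod W (fun t ht => hW t (by simp [ht]))]

/-- a word acting trivially on the 306936 points is trivial in the presented group -/
theorem wprod_eq_one_of_fix (W : List ℕ) (hW : ∀ s ∈ W, s < 12)
    (hfix : ∀ x < 306936, tr A W x = x) : wprod S W = 1 := by
  apply psi_injective
  rw [map_one, psi_wprod W hW]
  exact pword_eq_one isAction W hW hfix

/-- the boolean test -/
noncomputable def wordOK (W : List ℕ) : Bool :=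
  W.all (fun s => decide (s < 12)) && checkPlanes nets 19 W 19 0

theorem wprod_eq_one (W : List ℕ) (h : wordOK W = true) : wprod S W = 1 := by
  unfold wordOK at h
  rw [Bool.and_eq_true, List.all_eq_true] at h
  obtain ⟨h1, h2⟩ := h
  have hW : ∀ s ∈ W, s < 12 := fun s hs => of_decide_eq_true (h1 s hs)
  apply wprod_eq_one_of_fix W hW
  apply fix_of_planes Cfsg.Agent.Lib.helper19_Fi24A.hok (n := 19) (by norm_num) hlt W hW
  intro j hj
  exact checkPlanes_sound nets 19 W 19 0 h2 j (Nat.zero_le _) (by omega)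

theorem wprod_reverse : ∀ (W : List ℕ), wprod S W.reverse = (wprod S W)⁻¹
  | [] => by simp [wprod]
  | s :: W => by
    rw [List.reverse_cons, wprod_append, wprod_reverse W, wprod, wprod, wprod, mul_one, mul_inv_rev, S_inv]

/-- the `m`-th power of a word -/
def pw (W : List ℕ) : ℕ → List ℕ
  | 0 => []
  | m + 1 => W ++ pw W m

theorem wprod_pw (W : List ℕ) : ∀ m, wprod S (pw W m) = (wprod S W) ^ m
  | 0 => by simp [pw, wprod]
  | m + 1 => by rw [pw, wprod_append, wprod_pw W m, pow_succ']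

/-- a word moving a point is not trivial -/
theorem wprod_ne_one (W : List ℕ) (hW : ∀ s ∈ W, s < 12) (x y : ℕ) (hx : x < 306936)
    (hxy : tr A W x = y) (hne : x ≠ y) : wprod S W ≠ 1 := by
  intro h
  have h1 := psi_wprod W hW
  rw [h, map_one] at h1
  have h2 := pword_inv_apply isAction W hW ⟨x, hx⟩
  rw [← h1] at h2
  simp only [inv_one, Equiv.Perm.coe_one, id_eq] at h2
  exact hne (h2.trans hxy)

/-! ### the sign -/

theorem sgn_eq_one_iff (g : G) : Cfsg.Agent.S1691.sgn g = 1 ↔ g ∈ commutator G := by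
  constructor
  · intro h
    by_contra hc
    have h1 := mul_tG_mem g hc
    have hk : commutator G ≤ (Cfsg.Agent.S1691.sgn).ker := Abelianization.commutator_subset_ker _
    have h2 := hk h1
    rw [MonoidHom.mem_ker, map_mul, h, one_mul] at h2
    have h3 : Cfsg.Agent.S1691.sgn tG = Multiplicative.ofAdd 1 := Cfsg.Agent.S1691.sgn_of _
    rw [h3] at h2
    exact absurd h2 (by decide)
  · intro h
    have hk : commutator G ≤ (Cfsg.Agent.S1691.sgn).ker := Abelianization.commutator_subset_ker _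
    exact MonoidHom.mem_ker.mp (hk h)

/-! ### a copy of the Held group -/

/-- the relators of `He` -/
abbrev HeRels : Set (FreeGroup He.Gen) := coxRelators He.edges ∪ {r | r ∈ He.extra}

def heIdx : He.Gen → ℕ
  | .a => 0
  | .b => 1
  | .c => 2
  | .d => 3
  | .e => 4
  | .f => 5
  | .g => 6

theorem heIdx_inj (x y : He.Gen) (h : heIdx x = heIdx y) : x = y := by
  cases x <;> cases y <;> first | rfl | (exact absurd h (by decide))

theorem he_cox {Γ : Type*} [Group Γ] (t : He.Gen → Γ) (hsq : ∀ x, t x * t x = 1)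
    (h : ∀ x y, heIdx x < heIdx y → (t x * t y) ^ coxLabel He.edges x y = 1) :
    ∀ x y, (t x * t y) ^ coxLabel He.edges x y = 1 := by
  intro x y
  rcases lt_trichotomy (heIdx x) (heIdx y) with hlt | heq | hgt
  · exact h x y hlt
  · have hxy : x = y := heIdx_inj x y heq
    subst hxy
    simp [coxLabel, hsq]
  · have hsymm : coxLabel He.edges x y = coxLabel He.edges y x := by
      cases x <;> cases y <;> rfl
    rw [hsymm]
    have h1 := h y x hgt
    have e : t x * t y = (t y * t x)⁻¹ := by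
      rw [mul_inv_rev, inv_eq_of_mul_eq_one_right (hsq x), inv_eq_of_mul_eq_one_right (hsq y)]
    rw [e, inv_pow, h1, inv_one]

theorem he_rels {Γ : Type*} [Group Γ] (t : He.Gen → Γ)
    (hcox : ∀ x y, (t x * t y) ^ coxLabel He.edges x y = 1)
    (h1 : t .e * ((t .f * t .g) ^ 2)⁻¹ = 1) (h2 : t .e * ((t .a * t .b * t .c) ^ 3)⁻¹ = 1)
    (h3 : t .a * ((t .c * t .d) ^ 5)⁻¹ = 1) (h4 : (t .c * t .d * t .f * t .g) ^ 4 = 1) :
    ∀ r ∈ HeRels, FreeGroup.lift t r = 1 := by
  intro r hr
  rcases hr with ⟨x, -, y, -, rfl⟩ | hr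
  · rw [map_pow, map_mul, FreeGroup.lift_apply_of, FreeGroup.lift_apply_of]
    exact hcox x y
  · simp only [He.extra, Set.mem_ofPred_eq, List.mem_cons, List.not_mem_nil, or_false] at hr
    rcases hr with rfl | rfl | rfl | rfl
    · simpa [He.e, He.f, He.g] using h1
    · simpa [He.e, He.a, He.b, He.c] using h2
    · simpa [He.a, He.c, He.d] using h3
    · simpa [He.c, He.d, He.f, He.g] using h4

/-- seven elements of `Fi₂₄` satisfying the relations of `He`, not all trivial, generate a copy of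
`He` inside the commutator subgroup. -/
theorem exists_He (hHe : Cfsg.IsHe Cfsg.Spor.He) (t : He.Gen → G)
    (hrel : ∀ r ∈ HeRels, FreeGroup.lift t r = 1)
    (hne : ∃ x, t x ≠ 1) : ∃ K : Subgroup (commutator G), Cfsg.IsHe K := by
  have hsimple : IsSimpleGroup (PresentedGroup HeRels) := hHe.1
  have hcard : Nat.card (PresentedGroup HeRels) = 4030387200 := hHe.2
  let θ : PresentedGroup HeRels →* G := PresentedGroup.toGroup hrel
  have hθ : ∀ x, θ (PresentedGroup.of x) = t x := fun x => PresentedGroup.toGroup.of hrel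
  have hinj : Function.Injective θ := by
    rw [← MonoidHom.ker_eq_bot_iff]
    rcases hsimple.eq_bot_or_eq_top_of_normal θ.ker inferInstance with h | h
    · exact h
    · exfalso
      obtain ⟨x, hx⟩ := hne
      apply hx
      rw [← hθ x]
      have : PresentedGroup.of x ∈ θ.ker := by rw [h]; exact Subgroup.mem_top _
      exact MonoidHom.mem_ker.mp this
  have hcomm : θ.range ≤ commutator G := by
    rintro _ ⟨y, rfl⟩
    rw [← sgn_eq_one_iff]
    rcases hsimple.eq_bot_or_eq_top_of_normal ((Cfsg.Agent.S1691.sgn).comp θ).ker inferInstance with h | h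
    · exfalso
      have hi : Function.Injective ((Cfsg.Agent.S1691.sgn).comp θ) := (MonoidHom.ker_eq_bot_iff _).mp h
      have : Finite (Multiplicative (ZMod 2)) := inferInstance
      have h2 := Nat.card_le_card_of_injective _ hi
      rw [hcard] at h2
      have h3 : Nat.card (Multiplicative (ZMod 2)) = 2 := by
        rw [Nat.card_eq_fintype_card]; rfl
      omega
    · have : y ∈ ((Cfsg.Agent.S1691.sgn).comp θ).ker := by rw [h]; exact Subgroup.mem_top _
      exact MonoidHom.mem_ker.mp this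
  refine ⟨θ.range.subgroupOf (commutator G), ?_⟩
  have e : θ.range.subgroupOf (commutator G) ≃* PresentedGroup HeRels :=
    (Subgroup.subgroupOfEquivOfLe hcomm).trans (MonoidHom.ofInjective hinj).symm
  exact ⟨e.isSimpleGroup, (Nat.card_congr e.toEquiv).trans hcard⟩

end Cfsg.Agent.Lib.Helper28_Fi24TT
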