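import Mathlib

/-!
# Maximal subgroups from suborbit sizes, and the Iwasawa argument (helper28)
-/

set_option autoImplicit false

namespace Cfsg.Agent.Lib.Helper28_Iwasawa

open MulAction

section Maximal

variable {G : Type*} [Group G]

/-- The orbit of the base coset under `H` is a singleton. -/
theorem orbit_base (H : Subgroup G) :
    orbit H ((1 : G) : G ⧸ H) = {((1 : G) : G ⧸ H)} := by
  ext x
  constructor
  · rintro ⟨h, rfl⟩
    show ((h : G) • ((1 : G) : G ⧸ H)) ∈ _
    rw [Set.mem_singleton_iff]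
    show (((h : G) * 1 : G) : G ⧸ H) = _
    rw [mul_one, QuotientGroup.eq]
    simp
  · rintro rfl
    exact mem_orbit_self _

/-- If the sizes of the `H`-orbits on `G ⧸ H` admit no proper partial sum (containing the
trivial orbit) dividing the index, then `H` is a maximal subgroup. -/
theorem maximal_of_suborbits (H : Subgroup G) {r : ℕ} (q : Fin (r + 1) → G ⧸ H)
    (hq0 : q 0 = ((1 : G) : G ⧸ H)) (m : Fin (r + 1) → ℕ)
    (hm : ∀ i, (orbit H (q i)).ncard = m i)
    (hdist : ∀ i j, i ≠ j → orbit H (q i) ≠ orbit H (q j))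
    (hsum : ∑ i, m i = H.index) (hidx : H.index ≠ 0)
    (harith : ∀ I : Finset (Fin (r + 1)), 0 ∈ I → (∑ i ∈ I, m i) ∣ H.index →
      I = {0} ∨ I = Finset.univ) :
    ∀ K : Subgroup G, H ≤ K → K = H ∨ K = ⊤ := by
  classical
  intro K hHK
  have hfin : Finite (G ⧸ H) := @Subgroup.finite_quotient_of_finiteIndex _ _ H ⟨hidx⟩
  have := Fintype.ofFinite (G ⧸ H)
  -- the orbits as finsets
  let t : Fin (r + 1) → Finset (G ⧸ H) := fun i => (orbit H (q i)).toFinset
  have ht : ∀ i, (t i).card = m i := by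
    intro i
    rw [← hm i, Set.ncard_eq_toFinset_card']
  have hdisj : ∀ i ∈ (Finset.univ : Finset (Fin (r + 1))), ∀ j ∈ (Finset.univ : Finset (Fin (r + 1))),
      i ≠ j → Disjoint (t i) (t j) := by
    intro i _ j _ hij
    rw [Finset.disjoint_left]
    intro x hxi hxj
    simp only [t, Set.mem_toFinset] at hxi hxj
    apply hdist i j hij
    rw [← orbit_eq_iff.mpr hxi, ← orbit_eq_iff.mpr hxj]
  -- the orbits cover everything
  have hcover : Finset.univ.biUnion t = (Finset.univ : Finset (G ⧸ H)) := by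
    apply Finset.eq_univ_of_card
    rw [Finset.card_biUnion hdisj]
    simp only [ht]
    rw [hsum, Subgroup.index_eq_card, Nat.card_eq_fintype_card]
  -- the block of `K`
  let B : Set (G ⧸ H) := {x | ∃ k ∈ K, x = ((k : G) : G ⧸ H)}
  have hBinv : ∀ x ∈ B, ∀ y ∈ orbit H x, y ∈ B := by
    rintro x ⟨k, hk, rfl⟩ y ⟨h, rfl⟩
    exact ⟨(h : G) * k, K.mul_mem (hHK h.2) hk, rfl⟩
  let I : Finset (Fin (r + 1)) := Finset.univ.filter (fun i => q i ∈ B)
  have h0I : (0 : Fin (r + 1)) ∈ I := by
    simp only [I, Finset.mem_filter, Finset.mem_univ, true_and]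
    exact ⟨1, K.one_mem, hq0⟩
  have hBeq : B.toFinset = I.biUnion t := by
    ext x
    simp only [Set.mem_toFinset, Finset.mem_biUnion]
    constructor
    · intro hx
      have : x ∈ Finset.univ.biUnion t := by rw [hcover]; exact Finset.mem_univ x
      obtain ⟨i, _, hi⟩ := Finset.mem_biUnion.mp this
      refine ⟨i, ?_, hi⟩
      simp only [I, Finset.mem_filter, Finset.mem_univ, true_and]
      simp only [t, Set.mem_toFinset] at hi
      -- q i ∈ orbit of x
      have : q i ∈ orbit H x := by
        rw [orbit_eq_iff.mpr hi]; exact mem_orbit_self _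
      exact hBinv x hx _ this
    · rintro ⟨i, hi, hx⟩
      simp only [I, Finset.mem_filter, Finset.mem_univ, true_and] at hi
      simp only [t, Set.mem_toFinset] at hx
      exact hBinv _ hi x hx
  have hBcard : B.ncard = ∑ i ∈ I, m i := by
    rw [Set.ncard_eq_toFinset_card', hBeq, Finset.card_biUnion]
    · simp only [ht]
    · intro i _ j _ hij
      exact hdisj i (Finset.mem_univ _) j (Finset.mem_univ _) hij
  -- `B` is the orbit of the base coset under `K`, of size `H.relIndex K`
  have hBrel : B.ncard = H.relIndex K := by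
    have hB : B = orbit K ((1 : G) : G ⧸ H) := by
      ext x
      constructor
      · rintro ⟨k, hk, rfl⟩
        refine ⟨⟨k, hk⟩, ?_⟩
        show ((k * 1 : G) : G ⧸ H) = _
        rw [mul_one]
      · rintro ⟨k, rfl⟩
        refine ⟨k, k.2, ?_⟩
        show (((k : G) * 1 : G) : G ⧸ H) = _
        rw [mul_one]
    rw [hB, ← index_stabilizer]
    have hst : stabilizer K ((1 : G) : G ⧸ H) = H.subgroupOf K := by
      ext k
      rw [mem_stabilizer_iff, Subgroup.mem_subgroupOf]
      show (((k : G) * 1 : G) : G ⧸ H) = _ ↔ _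
      rw [mul_one, eq_comm, QuotientGroup.eq]
      simp
    rw [hst]
    rfl
  have hdvd : (∑ i ∈ I, m i) ∣ H.index := by
    rw [← hBcard, hBrel]
    exact Dvd.intro _ (Subgroup.relIndex_mul_index hHK)
  rcases harith I h0I hdvd with hI | hI
  · left
    have h1 : H.relIndex K = 1 := by
      rw [← hBrel, hBcard, hI, Finset.sum_singleton]
      rw [← hm 0, hq0, orbit_base]
      exact Set.ncard_singleton _
    exact le_antisymm (Subgroup.relIndex_eq_one.mp h1) hHK
  · right
    have h1 : H.relIndex K = H.index := by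
      rw [← hBrel, hBcard, hI, hsum]
    have h2 := Subgroup.relIndex_mul_index hHK
    rw [h1] at h2
    have h3 : K.index = 1 := by
      have : H.index * K.index = H.index * 1 := by rw [h2, mul_one]
      exact Nat.eq_of_mul_eq_mul_left (Nat.pos_of_ne_zero hidx) this
    exact Subgroup.index_eq_one.mp h3

end Maximal

section Iwasawa

variable {G : Type*} [Group G]

/-- The Iwasawa argument: a normal subgroup lies in the maximal subgroup `H` or is everything. -/
theorem normal_le_or_eq_top (H A : Subgroup G)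
    (hmax : ∀ K : Subgroup G, H ≤ K → K = H ∨ K = ⊤) (hA : IsMulCommutative A)
    (hnorm : ∀ h ∈ H, ∀ a ∈ A, h * a * h⁻¹ ∈ A)
    (hgen : Subgroup.normalClosure (A : Set G) = ⊤) (hperf : commutator G = ⊤)
    (N : Subgroup G) [hN : N.Normal] : N ≤ H ∨ N = ⊤ := by
  by_cases hNH : N ≤ H
  · exact Or.inl hNH
  right
  have hHN : H ⊔ N = ⊤ := by
    rcases hmax (H ⊔ N) le_sup_left with h | h
    · exact absurd (h ▸ le_sup_right) hNH
    · exact h
  have hNH' : N ⊔ H = ⊤ := by rw [sup_comm]; exact hHN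
  -- all conjugates of `A` lie in `N ⊔ A`
  have hconj : ∀ g : G, ∀ a ∈ A, g * a * g⁻¹ ∈ N ⊔ A := by
    intro g a ha
    have hg : g ∈ (↑(N ⊔ H) : Set G) := by rw [hNH']; exact Subgroup.mem_top g
    rw [Subgroup.normal_mul] at hg
    obtain ⟨n, hn, h, hh, rfl⟩ := hg
    have ha' : h * a * h⁻¹ ∈ A := hnorm h hh a ha
    have e : n * h * a * (n * h)⁻¹ =
        (n * ((h * a * h⁻¹) * n⁻¹ * (h * a * h⁻¹)⁻¹)) * (h * a * h⁻¹) := by group
    rw [e]
    apply Subgroup.mul_mem
    · apply Subgroup.mem_sup_left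
      exact N.mul_mem hn (hN.conj_mem _ (N.inv_mem hn) _)
    · exact Subgroup.mem_sup_right ha'
  have htop : N ⊔ A = ⊤ := by
    rw [eq_top_iff, ← hgen]
    unfold Subgroup.normalClosure
    rw [Subgroup.closure_le]
    intro x hx
    rw [Group.mem_conjugatesOfSet_iff] at hx
    obtain ⟨a, ha, hax⟩ := hx
    rw [isConj_iff] at hax
    obtain ⟨c, rfl⟩ := hax
    exact hconj c a ha
  have hcomm := Subgroup.Normal.commutator_le_of_self_sup_commutative_eq_top htop hA
  rw [hperf] at hcomm
  exact top_le_iff.mp hcomm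

end Iwasawa

end Cfsg.Agent.Lib.Helper28_Iwasawa
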