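import Mathlib

/-!
# The Iwasawa argument without perfectness, and simplicity of a derived subgroup of index 2
(helper28)
-/

set_option autoImplicit false

namespace Cfsg.Agent.Lib.Helper28_Iwasawa2

variable {G : Type*} [Group G]

/-- The Iwasawa argument without perfectness: a normal subgroup lies in the maximal subgroup `H`
or contains the commutator subgroup. -/
theorem normal_le_or_commutator_le (H A : Subgroup G)
    (hmax : ∀ K : Subgroup G, H ≤ K → K = H ∨ K = ⊤) (hA : IsMulCommutative A)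
    (hnorm : ∀ h ∈ H, ∀ a ∈ A, h * a * h⁻¹ ∈ A)
    (hgen : Subgroup.normalClosure (A : Set G) = ⊤)
    (N : Subgroup G) [hN : N.Normal] : N ≤ H ∨ commutator G ≤ N := by
  by_cases hNH : N ≤ H
  · exact Or.inl hNH
  right
  have hHN : H ⊔ N = ⊤ := by
    rcases hmax (H ⊔ N) le_sup_left with h | h
    · exact absurd (h ▸ le_sup_right) hNH
    · exact h
  have hNH' : N ⊔ H = ⊤ := by rw [sup_comm]; exact hHN
  have hconj : ∀ g : G, ∀ a ∈ A, g * a * g⁻¹ ∈ N ⊔ A := by
    intro g a ha
    have hg : g ∈ (↑(N ⊔ H) : Set G) := by rw [hNH']; exact Subgroup.mem_top g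
    rw [Subgroup.normal_mul] at hg
    obtain ⟨n, hn, h, hh, rfl⟩ := hg
    have ha' : h * a * h⁻¹ ∈ A := hnorm h hh a ha
    have e : n * h * a * (n * h)⁻¹ =
        (n * ((h * a * h⁻¹) * n⁻¹ * (h * a * h⁻¹)⁻¹)) * (h * a * h⁻¹) := by group
    rw [e]
    apply Subgroup.mul_mem
    · apply Subgroup.mem_sup_left
      exact N.mul_mem hn (hN.conj_mem _ (N.inv_mem hn) _)
    · exact Subgroup.mem_sup_right ha'
  have htop : N ⊔ A = ⊤ := by
    rw [eq_top_iff, ← hgen]
    unfold Subgroup.normalClosure
    rw [Subgroup.closure_le]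
    intro x hx
    rw [Group.mem_conjugatesOfSet_iff] at hx
    obtain ⟨a, ha, hax⟩ := hx
    rw [isConj_iff] at hax
    obtain ⟨c, rfl⟩ := hax
    exact hconj c a ha
  exact Subgroup.Normal.commutator_le_of_self_sup_commutative_eq_top htop hA

/-- If two normal subgroups of a finite group meet trivially and generate it, the order of the
group is the product of their orders. -/
theorem card_eq_mul_of_inf_sup {Γ : Type*} [Group Γ] [Finite Γ] (N N' : Subgroup Γ) [N'.Normal]
    (hinf : N ⊓ N' = ⊥) (hsup : N ⊔ N' = ⊤) : Nat.card N * Nat.card N' = Nat.card Γ := by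
  have hc : Subgroup.IsComplement' N N' := by
    apply Subgroup.isComplement'_of_disjoint_and_mul_eq_univ
    · exact disjoint_iff.mpr hinf
    · rw [← Subgroup.mul_normal, hsup]; rfl
  exact hc.card_mul_card

/-- Simplicity of the commutator subgroup of index 2 by the Iwasawa argument, when its order is
not a square. -/
theorem derived_simple [Finite G] (H A : Subgroup G)
    (hmax : ∀ K : Subgroup G, H ≤ K → K = H ∨ K = ⊤) (hA : IsMulCommutative A)
    (hnorm : ∀ h ∈ H, ∀ a ∈ A, h * a * h⁻¹ ∈ A)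
    (hgen : Subgroup.normalClosure (A : Set G) = ⊤)
    (hcore : ∀ N : Subgroup G, N.Normal → N ≤ H → N = ⊥)
    (hidx : (commutator G).index = 2)
    (hsq : ∀ m : ℕ, m * m ≠ Nat.card (commutator G)) :
    IsSimpleGroup (commutator G) := by
  classical
  set D : Subgroup G := commutator G with hD
  have hDn : D.Normal := by rw [hD]; infer_instance
  -- an element outside `D`
  obtain ⟨x, hx⟩ : ∃ x : G, x ∉ D := by
    by_contra hcon
    push Not at hcon
    have : D = ⊤ := eq_top_iff.mpr fun g _ => hcon g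
    rw [this, Subgroup.index_top] at hidx
    omega
  have hsqx : ∀ g : G, g ∉ D → ∀ g' : G, g' ∉ D → g * g' ∈ D := by
    intro g hg g' hg'
    exact (Subgroup.mul_mem_iff_of_index_two hidx).mpr ⟨fun h => absurd h hg, fun h => absurd h hg'⟩
  -- every element is in `D` or in `x D`
  have hcos : ∀ g : G, g ∈ D ∨ ∃ d ∈ D, g = x * d := by
    intro g
    by_cases hg : g ∈ D
    · exact Or.inl hg
    · right
      refine ⟨x⁻¹ * g, ?_, by group⟩
      have hxi : x⁻¹ ∉ D := fun h => hx (by simpa using D.inv_mem h)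
      exact hsqx _ hxi _ hg
  have hnt : Nontrivial D := by
    rw [← Finite.one_lt_card_iff_nontrivial]
    by_contra hcon
    have hpos : 0 < Nat.card D := Nat.card_pos
    have : Nat.card D = 1 := by omega
    exact hsq 1 (by rw [this])
  refine { exists_pair_ne := hnt.exists_pair_ne, eq_bot_or_eq_top_of_normal := ?_ }
  intro N hN
  by_contra hcon
  push Not at hcon
  obtain ⟨hNbot, hNtop⟩ := hcon
  -- the image of `N` in `G`
  set M : Subgroup G := N.map D.subtype with hM
  have hMD : M ≤ D := by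
    rw [hM]; intro y hy
    obtain ⟨z, _, rfl⟩ := hy
    exact z.2
  have hMconj : ∀ d ∈ D, ∀ m ∈ M, d * m * d⁻¹ ∈ M := by
    intro d hd m hm
    obtain ⟨z, hz, rfl⟩ := hm
    exact ⟨⟨d, hd⟩ * z * ⟨d, hd⟩⁻¹, hN.conj_mem z hz ⟨d, hd⟩, rfl⟩
  -- the conjugate of `M` by `x`
  set M' : Subgroup G := M.map (MulAut.conj x).toMonoidHom with hM'
  have hM'mem : ∀ y : G, y ∈ M' ↔ x⁻¹ * y * x ∈ M := by
    intro y
    rw [hM', Subgroup.mem_map_equiv]
    simp [MulAut.conj_symm_apply]
  have hM'D : M' ≤ D := by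
    intro y hy
    rw [hM'mem] at hy
    have := hDn.conj_mem _ (hMD hy) x
    simpa [mul_assoc] using this
  have hM'conj : ∀ d ∈ D, ∀ m ∈ M', d * m * d⁻¹ ∈ M' := by
    intro d hd m hm
    rw [hM'mem] at hm ⊢
    have hd' : x⁻¹ * d * x ∈ D := by
      have := hDn.conj_mem d hd x⁻¹
      simpa using this
    have := hMconj _ hd' _ hm
    have e : x⁻¹ * (d * m * d⁻¹) * x = x⁻¹ * d * x * (x⁻¹ * m * x) * (x⁻¹ * d * x)⁻¹ := by group
    rw [e]; exact this
  have hxx : x * x ∈ D := hsqx x hx x hx
  -- conjugation by `x` exchanges `M` and `M'`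
  have hxM : ∀ m ∈ M, x * m * x⁻¹ ∈ M' := by
    intro m hm
    rw [hM'mem]
    have e : x⁻¹ * (x * m * x⁻¹) * x = m := by group
    rw [e]; exact hm
  have hxM' : ∀ m ∈ M', x * m * x⁻¹ ∈ M := by
    intro m hm
    rw [hM'mem] at hm
    have := hMconj _ hxx _ hm
    have e : x * x * (x⁻¹ * m * x) * (x * x)⁻¹ = x * m * x⁻¹ := by group
    rw [e] at this; exact this
  -- the intersection and the join are normal in `G`
  have hIn : (M ⊓ M').Normal := by
    constructor
    intro n hn g
    rcases hcos g with hg | ⟨d, hd, rfl⟩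
    · exact ⟨hMconj g hg n hn.1, hM'conj g hg n hn.2⟩
    · have e : x * d * n * (x * d)⁻¹ = x * (d * n * d⁻¹) * x⁻¹ := by group
      rw [e]
      exact ⟨hxM' _ (hM'conj d hd n hn.2), hxM _ (hMconj d hd n hn.1)⟩
  have hJn : (M ⊔ M').Normal := by
    have hMle : ∀ g : G, ∀ m ∈ M, g * m * g⁻¹ ∈ M ⊔ M' := by
      intro g m hm
      rcases hcos g with hg | ⟨d, hd, rfl⟩
      · exact Subgroup.mem_sup_left (hMconj g hg m hm)
      · have e : x * d * m * (x * d)⁻¹ = x * (d * m * d⁻¹) * x⁻¹ := by group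
        rw [e]
        exact Subgroup.mem_sup_right (hxM _ (hMconj d hd m hm))
    have hM'le : ∀ g : G, ∀ m ∈ M', g * m * g⁻¹ ∈ M ⊔ M' := by
      intro g m hm
      rcases hcos g with hg | ⟨d, hd, rfl⟩
      · exact Subgroup.mem_sup_right (hM'conj g hg m hm)
      · have e : x * d * m * (x * d)⁻¹ = x * (d * m * d⁻¹) * x⁻¹ := by group
        rw [e]
        exact Subgroup.mem_sup_left (hxM' _ (hM'conj d hd m hm))
    constructor
    intro n hn g
    have : M ⊔ M' ≤ (M ⊔ M').comap (MulAut.conj g).toMonoidHom := by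
      rw [sup_le_iff]
      exact ⟨fun m hm => by simpa using hMle g m hm, fun m hm => by simpa using hM'le g m hm⟩
    simpa using this hn
  -- the Iwasawa alternative
  have hI := @normal_le_or_commutator_le G _ H A hmax hA hnorm hgen (M ⊓ M') hIn
  have hJ := @normal_le_or_commutator_le G _ H A hmax hA hnorm hgen (M ⊔ M') hJn
  have hMne : M ≠ ⊥ := by
    intro h
    apply hNbot
    rw [hM, Subgroup.map_eq_bot_iff_of_injective _ D.subtype_injective] at h
    exact h
  have hI0 : M ⊓ M' = ⊥ := by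
    rcases hI with h | h
    · exact hcore _ hIn h
    · exfalso
      apply hNtop
      have hDM : D ≤ M := le_trans h inf_le_left
      rw [eq_top_iff]
      intro z _
      obtain ⟨w, hw, hwz⟩ := hDM z.2
      have : w = z := Subtype.ext hwz
      rw [← this]; exact hw
  have hJ1 : M ⊔ M' = D := by
    rcases hJ with h | h
    · exfalso
      have := hcore _ hJn h
      apply hMne
      rw [eq_bot_iff, ← this]
      exact le_sup_left
    · exact le_antisymm (sup_le hMD hM'D) h
  -- counting inside `D`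
  set N' : Subgroup D := M'.subgroupOf D with hN'
  have hNeq : N = M.subgroupOf D := by
    rw [hM]
    ext z
    rw [Subgroup.mem_subgroupOf]
    constructor
    · intro hz; exact ⟨z, hz, rfl⟩
    · rintro ⟨w, hw, hwz⟩
      have : w = z := Subtype.ext hwz
      rw [← this]; exact hw
  have hN'n : N'.Normal := by
    constructor
    intro n hn g
    rw [hN', Subgroup.mem_subgroupOf] at hn ⊢
    exact hM'conj g g.2 n hn
  have hinf : N ⊓ N' = ⊥ := by
    rw [eq_bot_iff]
    intro z hz
    rw [Subgroup.mem_inf] at hz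
    have h1 : (z : G) ∈ M := by
      have := hz.1; rw [hNeq, Subgroup.mem_subgroupOf] at this; exact this
    have h2 : (z : G) ∈ M' := by
      have := hz.2; rw [hN', Subgroup.mem_subgroupOf] at this; exact this
    have h3 : (z : G) ∈ M ⊓ M' := ⟨h1, h2⟩
    rw [hI0, Subgroup.mem_bot] at h3
    rw [Subgroup.mem_bot]
    exact Subtype.ext h3
  have hsup : N ⊔ N' = ⊤ := by
    rw [hNeq, hN', ← Subgroup.subgroupOf_sup hMD hM'D, hJ1, Subgroup.subgroupOf_self]
  have hcard := card_eq_mul_of_inf_sup N N' hinf hsup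
  have hcN' : Nat.card N' = Nat.card N := by
    have e1 : Nat.card N' = Nat.card M' := Nat.card_congr (Subgroup.subgroupOfEquivOfLe hM'D).toEquiv
    have e2 : Nat.card M = Nat.card M' :=
      Nat.card_congr ((MulAut.conj x).subgroupMap M).toEquiv
    have e3 : Nat.card N = Nat.card M :=
      Nat.card_congr (Subgroup.equivMapOfInjective N D.subtype D.subtype_injective).toEquiv
    rw [e1, ← e2, e3]
  rw [hcN'] at hcard
  exact hsq _ hcard

end Cfsg.Agent.Lib.Helper28_Iwasawa2
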