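import Mathlib

/-!
# S4274 (groups of order 175560): definitions (helper49)

`Hyp X` : the hypothesis on a minimal simple section `X`;
`ecount X r` : the number of elements of `X` of order divisible by `r`;
`ccard X r` : the order of the centralizer of a Sylow `r`-subgroup of `X`.
-/

set_option autoImplicit false

namespace Cfsg.Agent.Lib.Helper49_J1Defs

open Subgroup

/-- The standing hypothesis: `X` is a nonabelian simple group whose order is a proper divisor of
`175560 = 2^3 * 3 * 5 * 7 * 11 * 19`, divisible by `19`, and a proper subgroup of `X` contains at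
most one Sylow `19`-subgroup of `X`. -/
structure Hyp (X : Type*) [Group X] [Finite X] : Prop where
  simple : IsSimpleGroup X
  nonab : ¬ IsMulCommutative X
  dvd : Nat.card X ∣ 175560
  lt : Nat.card X < 175560
  d19 : 19 ∣ Nat.card X
  uniq : ∀ Y : Subgroup X, Y ≠ ⊤ → ∀ P Q : Sylow 19 X,
    (P : Subgroup X) ≤ Y → (Q : Subgroup X) ≤ Y → P = Q

/-- The number of elements of `X` whose order is divisible by `r`. -/
noncomputable def ecount (X : Type*) [Group X] (r : ℕ) : ℕ :=
  Nat.card {g : X // r ∣ orderOf g}

/-- The order of the centralizer of a Sylow `r`-subgroup of `X`. -/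
noncomputable def ccard (X : Type*) [Group X] (r : ℕ) [Fact r.Prime] : ℕ :=
  Nat.card (centralizer (((Classical.arbitrary (Sylow r X) : Sylow r X) : Subgroup X) : Set X))

end Cfsg.Agent.Lib.Helper49_J1Defs
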