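import Mathlib
import Cfsg.Agent.Lib.Helper17_Sylow
import Cfsg.Agent.Lib.Helper49_J1Defs

/-!
# S4274 package LOC (helper43 for helper49): local data of a Sylow subgroup of prime order in a nonabelian
simple group.
-/

set_option autoImplicit false

namespace Cfsg.Agent.Lib.Helper43_J1_LOC

open Subgroup Cfsg.Agent.Lib.Helper49_J1Defs Cfsg.Agent.Lib.Helper17_Sylow
universe u
variable {X : Type*} [Group X] [Finite X]

theorem loc [IsSimpleGroup X] (hna : ¬ IsMulCommutative X) (r m : ℕ) [Fact r.Prime]
    (hc : Nat.card X = r * m) (hm : ¬ r ∣ m) :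
    ∃ k, k ∣ r - 1 ∧ k ≠ 1 ∧ r ∣ ccard X r ∧
      ccard X r * k * Nat.card (Sylow r X) = Nat.card X ∧
      Nat.card (Sylow r X) % r = 1 ∧ 1 < Nat.card (Sylow r X) := by
  have hr : r.Prime := Fact.out
  set R : Sylow r X := Classical.arbitrary (Sylow r X) with hRdef
  have hc1 : Nat.card X = r ^ 1 * m := by rw [pow_one]; exact hc
  have hR : Nat.card (R : Subgroup X) = r := by
    have := card_sylow_eq_pow hc1 hm R
    rwa [pow_one] at this
  have hcyc : IsCyclic (R : Subgroup X) := isCyclic_of_prime_card hR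
  have hle : (R : Subgroup X) ≤ centralizer ((R : Subgroup X) : Set X) :=
    le_centralizer_of_isCyclic _
  have hcc : ccard X r = Nat.card (centralizer ((R : Subgroup X) : Set X)) := rfl
  have hRbot : (R : Subgroup X) ≠ ⊥ := by
    intro h
    rw [h, Subgroup.card_bot] at hR
    exact hr.one_lt.ne hR
  have hXna : ¬ ∀ a b : X, a * b = b * a := by
    intro h
    exact hna ⟨⟨h⟩⟩
  have hRtop : (R : Subgroup X) ≠ ⊤ := by
    intro h
    rw [h, Subgroup.card_top] at hR
    have hcX : IsCyclic X := isCyclic_of_prime_card hR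
    exact hXna (fun a b => (IsCyclic.commGroup (α := X)).mul_comm a b)
  refine ⟨(centralizer ((R : Subgroup X) : Set X)).relIndex (normalizer ((R : Subgroup X) : Set X)),
    relIndex_centralizer_normalizer_dvd_pred _ hR, ?_, ?_, ?_, ?_, ?_⟩
  · intro h1
    rw [Subgroup.relIndex_eq_one] at h1
    rcases sylow_eq_bot_or_top_of_normalizer_le_centralizer R h1 with h | h
    · exact hRbot h
    · exact hRtop h
  · rw [hcc]
    have := Subgroup.card_dvd_of_le hle
    rwa [hR] at this
  · rw [hcc, card_mul_relIndex_of_le (Subgroup.centralizer_le_normalizer _)]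
    exact card_normalizer_mul_card_sylow R
  · have h := card_sylow_modEq_one r X
    have h2 : Nat.card (Sylow r X) % r = 1 % r := h
    rw [h2]
    exact Nat.mod_eq_of_lt hr.one_lt
  · exact one_lt_card_sylow R hRbot hRtop

end Cfsg.Agent.Lib.Helper43_J1_LOC
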