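import Mathlib
import Cfsg.Agent.Lib.Helper17_Sylow
import Cfsg.Agent.Lib.Helper49_J1Defs

/-!
# S4274 market, package MIX (helper74)

`no_mix`: if `s ∤ |C(R)|` for a Sylow `r`-subgroup `R` of order `r`, no element has order
divisible by both `r` and `s`.
`sum_ecount_le`: pairwise disjoint "order divisible by `r`" sets have total size at most `|X|`.
-/

set_option autoImplicit false
open Subgroup Cfsg.Agent.Lib.Helper49_J1Defs
universe u

namespace Cfsg.Agent.Lib.Helper74_J1_MIX

variable {X : Type*} [Group X] [Finite X]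

omit [Finite X] in
open scoped Pointwise in
/-- The centralizer of a conjugate Sylow subgroup is the conjugate centralizer; cards agree. -/
theorem card_centralizer_smul (r : ℕ) [Fact r.Prime] (g : X) (R : Sylow r X) :
    Nat.card (centralizer (((g • R : Sylow r X) : Subgroup X) : Set X)) =
      Nat.card (centralizer ((R : Subgroup X) : Set X)) := by
  have e : centralizer ((R : Subgroup X) : Set X) ≃
      centralizer (((g • R : Sylow r X) : Subgroup X) : Set X) :=
    { toFun := fun x => ⟨g * x.1 * g⁻¹, by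
        rw [mem_centralizer_iff]
        intro y hy
        have hy' : g⁻¹ * y * g ∈ (R : Subgroup X) :=
          (Cfsg.Agent.Lib.Helper17_Sylow.mem_smul_sylow g y R).mp hy
        have hx := mem_centralizer_iff.mp x.2 _ hy'
        calc y * (g * x.1 * g⁻¹) = g * ((g⁻¹ * y * g) * x.1) * g⁻¹ := by group
          _ = g * (x.1 * (g⁻¹ * y * g)) * g⁻¹ := by rw [hx]
          _ = g * x.1 * g⁻¹ * y := by group⟩
      invFun := fun x => ⟨g⁻¹ * x.1 * g, by
        rw [mem_centralizer_iff]
        intro y hy
        have hy' : g * y * g⁻¹ ∈ ((g • R : Sylow r X) : Subgroup X) := by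
          rw [Cfsg.Agent.Lib.Helper17_Sylow.mem_smul_sylow]
          have : g⁻¹ * (g * y * g⁻¹) * g = y := by group
          rw [this]; exact hy
        have hx := mem_centralizer_iff.mp x.2 _ hy'
        calc y * (g⁻¹ * x.1 * g) = g⁻¹ * ((g * y * g⁻¹) * x.1) * g := by group
          _ = g⁻¹ * (x.1 * (g * y * g⁻¹)) * g := by rw [hx]
          _ = g⁻¹ * x.1 * g * y := by group⟩
      left_inv := fun x => by ext; simp only; group
      right_inv := fun x => by ext; simp only; group }
  exact (Nat.card_congr e).symm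

/-- Package CCE, proved inline: `|C(R)| = ccard X r` for every Sylow `r`-subgroup `R`. -/
theorem ccard_eq' (r : ℕ) [Fact r.Prime] (R : Sylow r X) :
    Nat.card (centralizer ((R : Subgroup X) : Set X)) = ccard X r := by
  unfold ccard
  obtain ⟨g, hg⟩ := MulAction.exists_smul_eq X (Classical.arbitrary (Sylow r X)) R
  rw [← hg, card_centralizer_smul]

theorem no_mix (r s m : ℕ) [Fact r.Prime] [Fact s.Prime] (hc : Nat.card X = r * m) (hm : ¬ r ∣ m)
    (hs : ¬ s ∣ ccard X r) (g : X) (hr : r ∣ orderOf g) : ¬ s ∣ orderOf g := by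
  intro hsg
  have hrp : r.Prime := Fact.out
  have hsp : s.Prime := Fact.out
  have hcard : ∀ P : Sylow r X, Nat.card (P : Subgroup X) = r := by
    intro P
    have := Cfsg.Agent.Lib.Helper17_Sylow.card_sylow_eq_pow (k := 1) (by rw [hc, pow_one]) hm P
    simpa using this
  have hy : orderOf (g ^ (orderOf g / r)) = r :=
    orderOf_pow_orderOf_div (orderOf_pos g).ne' hr
  have hw : orderOf (g ^ (orderOf g / s)) = s :=
    orderOf_pow_orderOf_div (orderOf_pos g).ne' hsg
  obtain ⟨R, hR⟩ := Cfsg.Agent.Lib.Helper17_Sylow.exists_sylow_eq_zpowers hcard _ hy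
  have hwC : g ^ (orderOf g / s) ∈ centralizer ((R : Subgroup X) : Set X) := by
    rw [mem_centralizer_iff]
    intro z hz
    have hz' : z ∈ zpowers (g ^ (orderOf g / r)) := by rw [← hR]; exact hz
    obtain ⟨k, rfl⟩ := mem_zpowers_iff.mp hz'
    have h1 : Commute g g := Commute.refl g
    exact ((h1.pow_left _).pow_right _).zpow_left k |>.eq
  have h1 : orderOf (⟨_, hwC⟩ : centralizer ((R : Subgroup X) : Set X)) = s := by
    rw [← Subgroup.orderOf_coe]; exact hw
  have h2 := orderOf_dvd_natCard (⟨_, hwC⟩ : centralizer ((R : Subgroup X) : Set X))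
  rw [h1, ccard_eq'] at h2
  exact hs h2

theorem sum_ecount_le (S : Finset ℕ)
    (hS : ∀ g : X, ∀ r ∈ S, ∀ s ∈ S, r ∣ orderOf g → s ∣ orderOf g → r = s) :
    ∑ r ∈ S, ecount X r ≤ Nat.card X := by
  classical
  have : Fintype X := Fintype.ofFinite X
  have hcard : ∀ r, ecount X r = (Finset.univ.filter (fun g : X => r ∣ orderOf g)).card := by
    intro r
    unfold ecount
    rw [Nat.card_eq_fintype_card, Fintype.card_subtype]
  simp_rw [hcard]
  rw [← Finset.card_biUnion]
  · rw [Nat.card_eq_fintype_card]
    exact Finset.card_le_univ _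
  · intro r hr s hs hne
    rw [Function.onFun, Finset.disjoint_left]
    intro g hg1 hg2
    simp only [Finset.mem_filter, Finset.mem_univ, true_and] at hg1 hg2
    exact hne (hS g r hr s hs hg1 hg2)

end Cfsg.Agent.Lib.Helper74_J1_MIX
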