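import Mathlib
import Cfsg.Agent.Lib.Helper17_Sylow
import Cfsg.Agent.Lib.Helper49_J1Defs

/-!
# S4274 market, package UNQ (helper74)

`uniq_dvd`: under `Hyp X`, a proper subgroup `Y` of order divisible by `19` satisfies
`|Y| * n_19 ∣ |X|` (it normalizes its unique Sylow `19`-subgroup).
`uniq_loc`: the same for `Y = N(R)`, `R` a Sylow `r`-subgroup, stated numerically.
-/

set_option autoImplicit false
open Subgroup Cfsg.Agent.Lib.Helper49_J1Defs
universe u

namespace Cfsg.Agent.Lib.Helper74_J1_UNQ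

variable {X : Type*} [Group X] [Finite X]

/-- `|X| = 19 * m` with `19 ∤ m`. -/
theorem card_eq_mul (h : Hyp X) : ∃ m, Nat.card X = 19 * m ∧ ¬ 19 ∣ m := by
  obtain ⟨m, hm⟩ := h.d19
  refine ⟨m, hm, ?_⟩
  rintro ⟨m', rfl⟩
  have h1 := h.dvd
  rw [hm] at h1
  have h2 : 361 ∣ 175560 := dvd_trans ⟨m', by ring⟩ h1
  norm_num at h2

/-- Sylow `19`-subgroups of `X` have order `19`. -/
theorem card_sylow19 (h : Hyp X) [Fact (Nat.Prime 19)] (P : Sylow 19 X) :
    Nat.card (P : Subgroup X) = 19 := by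
  obtain ⟨m, hm, hm19⟩ := card_eq_mul h
  have := Cfsg.Agent.Lib.Helper17_Sylow.card_sylow_eq_pow (k := 1) (by rw [hm, pow_one]) hm19 P
  simpa using this

theorem uniq_dvd (h : Hyp X) (Y : Subgroup X) (hY : Y ≠ ⊤) (h19 : 19 ∣ Nat.card Y) :
    Nat.card Y * Nat.card (Sylow 19 X) ∣ Nat.card X := by
  have : Fact (Nat.Prime 19) := ⟨by norm_num⟩
  obtain ⟨y, hy⟩ := exists_prime_orderOf_dvd_card' 19 h19
  have hy' : orderOf (y : X) = 19 := by rw [Subgroup.orderOf_coe]; exact hy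
  obtain ⟨P, hP⟩ := Cfsg.Agent.Lib.Helper17_Sylow.exists_sylow_eq_zpowers
    (fun P => card_sylow19 h P) (y : X) hy'
  have hPY : (P : Subgroup X) ≤ Y := by
    rw [hP, zpowers_le]; exact y.2
  have hYN : Y ≤ normalizer ((P : Subgroup X) : Set X) := by
    intro g hg
    rw [← Cfsg.Agent.Lib.Helper17_Sylow.smul_eq_iff_mem_normalizer']
    apply h.uniq Y hY _ _ _ hPY
    intro x hx
    rw [Cfsg.Agent.Lib.Helper17_Sylow.mem_smul_sylow] at hx
    have h1 : g⁻¹ * x * g ∈ Y := hPY hx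
    have h2 : x = g * (g⁻¹ * x * g) * g⁻¹ := by group
    rw [h2]
    exact Y.mul_mem (Y.mul_mem hg h1) (Y.inv_mem hg)
  have h1 := Subgroup.card_dvd_of_le hYN
  have h2 := Cfsg.Agent.Lib.Helper17_Sylow.card_normalizer_mul_card_sylow P
  rw [← h2]
  exact Nat.mul_dvd_mul_right h1 _

theorem uniq_loc (h : Hyp X) (r : ℕ) [Fact r.Prime] (hr : r ≠ 19) (hrX : r ∣ Nat.card X) (N : ℕ)
    (hN : N * Nat.card (Sylow r X) = Nat.card X) (h19 : 19 ∣ N) :
    N * Nat.card (Sylow 19 X) ∣ Nat.card X := by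
  have : Fact (Nat.Prime 19) := ⟨by norm_num⟩
  have := h.simple
  obtain ⟨R⟩ : Nonempty (Sylow r X) := inferInstance
  have h2 := Cfsg.Agent.Lib.Helper17_Sylow.card_normalizer_mul_card_sylow R
  have hpos : 0 < Nat.card (Sylow r X) := Nat.card_pos
  have hNeq : Nat.card (normalizer ((R : Subgroup X) : Set X)) = N := by
    apply Nat.eq_of_mul_eq_mul_right hpos
    rw [h2, hN]
  have hRbot : (R : Subgroup X) ≠ ⊥ := by
    intro hb
    have h3 := Sylow.card_eq_multiplicity R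
    rw [hb, Subgroup.card_bot] at h3
    have hfac : 0 < (Nat.card X).factorization r :=
      (Nat.Prime.factorization_pos_of_dvd (Fact.out) (Nat.card_pos).ne' hrX)
    have : 1 < r ^ (Nat.card X).factorization r :=
      Nat.one_lt_pow hfac.ne' (Fact.out : r.Prime).one_lt
    omega
  have hRtop : (R : Subgroup X) ≠ ⊤ := by
    intro ht
    have hpg : IsPGroup r X := by
      have := R.isPGroup'
      rw [ht] at this
      exact IsPGroup.of_equiv this Subgroup.topEquiv
    obtain ⟨n, hn⟩ := IsPGroup.iff_card.mp hpg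
    have h19X := h.d19
    rw [hn] at h19X
    have := (Nat.Prime.dvd_of_dvd_pow (by norm_num : Nat.Prime 19) h19X)
    have := (Nat.prime_dvd_prime_iff_eq (by norm_num : Nat.Prime 19) (Fact.out : r.Prime)).mp this
    exact hr this.symm
  have hn1 : 1 < Nat.card (Sylow r X) :=
    Cfsg.Agent.Lib.Helper17_Sylow.one_lt_card_sylow R hRbot hRtop
  have hNtop := Cfsg.Agent.Lib.Helper17_Sylow.normalizer_sylow_ne_top R hn1
  have := uniq_dvd h _ hNtop (by rw [hNeq]; exact h19)
  rwa [hNeq] at this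

end Cfsg.Agent.Lib.Helper74_J1_UNQ
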