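import Mathlib
import Cfsg.Agent.Lib.Helper17_Sylow
import Cfsg.Agent.Lib.Helper49_J1Defs

/-!
# S4274 package CCE (architect helper49): the centralizer order of a Sylow `r`-subgroup is `ccard X r`
-/

set_option autoImplicit false

namespace Cfsg.Agent.Lib.Helper82_J1_CCE

open Subgroup Cfsg.Agent.Lib.Helper49_J1Defs
open scoped Pointwise

variable {X : Type*} [Group X] [Finite X]

/-- conjugate subgroups have centralizers of the same order -/
theorem card_centralizer_conj {G : Type*} [Group G] (H : Subgroup G) (g : G) :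
    Nat.card (centralizer ((MulAut.conj g • H : Subgroup G) : Set G)) =
      Nat.card (centralizer (H : Set G)) := by
  symm
  refine Nat.card_congr
    { toFun := fun x => ⟨g * x.1 * g⁻¹, ?_⟩
      invFun := fun y => ⟨g⁻¹ * y.1 * g, ?_⟩
      left_inv := fun x => Subtype.ext (by simp [mul_assoc])
      right_inv := fun y => Subtype.ext (by simp [mul_assoc]) }
  · rw [mem_centralizer_iff]
    intro h hh
    obtain ⟨k, hk, rfl⟩ := (Subgroup.mem_smul_pointwise_iff_exists _ _ _).mp hh
    have hx := (mem_centralizer_iff.mp x.2) k hk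
    rw [MulAut.smul_def, MulAut.conj_apply]
    calc g * k * g⁻¹ * (g * x.1 * g⁻¹) = g * (k * x.1) * g⁻¹ := by group
      _ = g * (x.1 * k) * g⁻¹ := by rw [hx]
      _ = g * x.1 * g⁻¹ * (g * k * g⁻¹) := by group
  · rw [mem_centralizer_iff]
    intro h hh
    have hgh : g * h * g⁻¹ ∈ (MulAut.conj g • H : Subgroup G) := by
      rw [Subgroup.mem_smul_pointwise_iff_exists]
      exact ⟨h, hh, by rw [MulAut.smul_def, MulAut.conj_apply]⟩
    have hy := (mem_centralizer_iff.mp y.2) _ hgh
    have : h * (g⁻¹ * y.1 * g) = g⁻¹ * (g * h * g⁻¹ * y.1) * g := by group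
    rw [this, hy]
    group

/-- **CCE**. -/
theorem ccard_eq (r : ℕ) [Fact r.Prime] (R : Sylow r X) :
    Nat.card (centralizer ((R : Subgroup X) : Set X)) = ccard X r := by
  unfold ccard
  obtain ⟨g, hg⟩ := MulAction.exists_smul_eq X R (Classical.arbitrary (Sylow r X))
  rw [← hg, Sylow.coe_subgroup_smul, card_centralizer_conj]

end Cfsg.Agent.Lib.Helper82_J1_CCE
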