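import Mathlib
import Cfsg.Agent.Lib.Helper17_Sylow
import Cfsg.Agent.Lib.Helper49_J1Defs
import Cfsg.Agent.Lib.Helper82_J1_CCE

/-!
# S4274 package CRS (architect helper49): `s ∣ c_r → r ∣ c_s`
-/

set_option autoImplicit false

namespace Cfsg.Agent.Lib.Helper82_J1_CRS

open Subgroup Cfsg.Agent.Lib.Helper49_J1Defs Cfsg.Agent.Lib.Helper17_Sylow
  Cfsg.Agent.Lib.Helper82_J1_CCE

variable {X : Type*} [Group X] [Finite X]

/-- **CRS**. -/
theorem cross (r s m m' : ℕ) [Fact r.Prime] [Fact s.Prime]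
    (hc : Nat.card X = r * m) (hm : ¬ r ∣ m) (hc' : Nat.card X = s * m') (hm' : ¬ s ∣ m')
    (h : s ∣ ccard X r) : r ∣ ccard X s := by
  obtain ⟨R, hR⟩ : ∃ R : Sylow r X, R = Classical.arbitrary (Sylow r X) := ⟨_, rfl⟩
  have hRc : Nat.card (R : Subgroup X) = r := by
    have := card_sylow_eq_pow (k := 1) (by rw [pow_one]; exact hc) hm R
    rwa [pow_one] at this
  have hS : ∀ P : Sylow s X, Nat.card (P : Subgroup X) = s := by
    intro P
    have := card_sylow_eq_pow (k := 1) (by rw [pow_one]; exact hc') hm' P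
    rwa [pow_one] at this
  rw [← ccard_eq r R] at h
  obtain ⟨y, hy⟩ := exists_prime_orderOf_dvd_card' s h
  have hy' : orderOf (y : X) = s := by rw [Subgroup.orderOf_coe]; exact hy
  obtain ⟨S', hS'⟩ := exists_sylow_eq_zpowers hS (y : X) hy'
  rw [← ccard_eq s S', ← hRc]
  apply Subgroup.card_dvd_of_le
  intro x hx
  rw [hS', mem_centralizer_iff]
  intro z hz
  obtain ⟨k, rfl⟩ := mem_zpowers_iff.mp hz
  have hcomm : Commute (y : X) x := by
    have := (mem_centralizer_iff.mp y.2) x hx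
    exact this.symm
  exact (hcomm.zpow_left k).eq

end Cfsg.Agent.Lib.Helper82_J1_CRS
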