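import Mathlib
import Cfsg.Agent.Lib.Helper17_Sylow
import Cfsg.Agent.Lib.Helper49_J1Defs

/-!
# S4274 package CNT (architect helper49): counting elements of order divisible by `r`

If the Sylow `r`-subgroups of `X` have order `r`, `n_r` is their number and `c_r` the order of the
centralizer of one of them, then at least `n_r * (r - 1) * (c_r / r)` elements of `X` have order
divisible by `r`.
-/

set_option autoImplicit false

open Subgroup Cfsg.Agent.Lib.Helper49_J1Defs Cfsg.Agent.Lib.Helper17_Sylow

namespace Cfsg.Agent.Lib.Helper89_J1_CNT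

variable {X : Type*} [Group X] [Finite X]

/-- all Sylow `r`-subgroups have centralizers of the same order `ccard X r` (conjugacy). -/
theorem ccard_eq' (r : ℕ) [Fact r.Prime] (R : Sylow r X) :
    Nat.card (centralizer ((R : Subgroup X) : Set X)) = ccard X r := by
  unfold ccard
  set R₀ : Sylow r X := Classical.arbitrary (Sylow r X) with hR₀
  obtain ⟨g, hg⟩ := MulAction.exists_smul_eq X R₀ R
  have hmem : ∀ x, x ∈ (R : Subgroup X) ↔ g⁻¹ * x * g ∈ (R₀ : Subgroup X) := by
    intro x
    rw [← hg, Sylow.coe_subgroup_smul, Subgroup.mem_smul_pointwise_iff_exists]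
    constructor
    · rintro ⟨s, hs, rfl⟩
      rw [MulAut.smul_def, MulAut.conj_apply]
      have : g⁻¹ * (g * s * g⁻¹) * g = s := by group
      rwa [this]
    · intro hx
      refine ⟨g⁻¹ * x * g, hx, ?_⟩
      rw [MulAut.smul_def, MulAut.conj_apply]
      group
  symm
  apply Nat.card_congr
  refine
    { toFun := fun c => ⟨g * c.1 * g⁻¹, ?_⟩
      invFun := fun c => ⟨g⁻¹ * c.1 * g, ?_⟩
      left_inv := fun c => by apply Subtype.ext; simp only; group
      right_inv := fun c => by apply Subtype.ext; simp only; group }
  · rw [Subgroup.mem_centralizer_iff]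
    intro x hx
    have hx' := (hmem x).mp hx
    have hc := (Subgroup.mem_centralizer_iff.mp c.2) _ hx'
    have e1 : x * (g * c.1 * g⁻¹) = g * ((g⁻¹ * x * g) * c.1) * g⁻¹ := by group
    rw [e1, hc]
    group
  · rw [Subgroup.mem_centralizer_iff]
    intro x hx
    have hx' : g * x * g⁻¹ ∈ (R : Subgroup X) := by
      rw [hmem]
      have : g⁻¹ * (g * x * g⁻¹) * g = x := by group
      rwa [this]
    have hc := (Subgroup.mem_centralizer_iff.mp c.2) _ hx'
    have e1 : x * (g⁻¹ * c.1 * g) = g⁻¹ * ((g * x * g⁻¹) * c.1) * g := by group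
    rw [e1, hc]
    group

omit [Finite X] in
/-- The key local estimate inside the centralizer of a subgroup `R` of prime order `r`. -/
theorem local_count [Fintype X] [DecidableEq X] (r : ℕ) [hr : Fact r.Prime] (R : Subgroup X)
    (hR : Nat.card R = r) [DecidablePred (· ∈ centralizer (R : Set X))] :
    (r - 1) * (Nat.card (centralizer (R : Set X)) / r) ≤
      ((Finset.univ.filter (fun g : X => g ∈ centralizer (R : Set X))).filter
        (fun g => r ∣ orderOf g)).card := by
  classical
  have hcyc : IsCyclic R := isCyclic_of_prime_card hR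
  have hRC : R ≤ centralizer (R : Set X) := le_centralizer_of_isCyclic R
  set CR : Finset X := Finset.univ.filter (fun g : X => g ∈ centralizer (R : Set X)) with hCR
  set A : Finset X := CR.filter (fun g => r ∣ orderOf g) with hA
  set B : Finset X := CR.filter (fun g => ¬ r ∣ orderOf g) with hB
  set Rf : Finset X := Finset.univ.filter (fun g : X => g ∈ R) with hRf
  have hCRcard : CR.card = Nat.card (centralizer (R : Set X)) := by
    rw [Nat.card_eq_fintype_card, Fintype.card_subtype]
  have hRfcard : Rf.card = r := by
    rw [← hR, Nat.card_eq_fintype_card, Fintype.card_subtype]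
  have hAB : A.card + B.card = CR.card := Finset.card_filter_add_card_filter_not _
  -- `r ∣ |C(R)|`
  obtain ⟨c', hc'⟩ : r ∣ Nat.card (centralizer (R : Set X)) := by
    have := Subgroup.card_dvd_of_le hRC
    rwa [hR] at this
  have hrpos : 0 < r := hr.out.pos
  have hdiv : Nat.card (centralizer (R : Set X)) / r = c' := by
    rw [hc', Nat.mul_div_cancel_left _ hrpos]
  -- the injection `B × R → C(R)`
  have hinj : (B ×ˢ Rf).card ≤ CR.card := by
    apply Finset.card_le_card_of_injOn (fun p : X × X => p.1 * p.2)
    · rintro ⟨g, z⟩ hp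
      rw [Finset.mem_coe, Finset.mem_product] at hp
      obtain ⟨hg, hz⟩ := hp
      simp only [hB, hCR, hRf, Finset.mem_filter, Finset.mem_univ, true_and] at hg hz
      simp only [hCR, Finset.coe_filter, Finset.mem_univ, true_and, Set.mem_ofPred_eq]
      exact Subgroup.mul_mem _ hg.1 (hRC hz)
    · rintro ⟨g, z⟩ hp ⟨g', z'⟩ hp' heq
      rw [Finset.mem_coe, Finset.mem_product] at hp hp'
      obtain ⟨hg, hz⟩ := hp
      obtain ⟨hg', hz'⟩ := hp'
      simp only [hB, hCR, hRf, Finset.mem_filter, Finset.mem_univ, true_and] at hg hz hg' hz'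
      simp only at heq
      -- `t = z * z'⁻¹ ∈ R`, `g' = g * t`
      set t : X := z * z'⁻¹ with ht
      have htR : t ∈ R := R.mul_mem hz (R.inv_mem hz')
      have hg't : g' = g * t := by
        rw [ht, ← mul_assoc, heq]
        group
      have hcomm : Commute g t := by
        have := (Subgroup.mem_centralizer_iff.mp hg.1) t htR
        exact this.symm
      have ht1 : t = 1 := by
        by_contra hne
        have hto : orderOf t = r := by
          have h1 : orderOf t ∣ r := by
            have := orderOf_dvd_natCard (⟨t, htR⟩ : R)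
            rwa [Subgroup.orderOf_mk, hR] at this
          rcases (Nat.dvd_prime hr.out).mp h1 with h | h
          · exact absurd (orderOf_eq_one_iff.mp h) hne
          · exact h
        set a := orderOf g with ha
        have hcop : Nat.Coprime (orderOf t) a := by
          rw [hto]
          exact (Nat.Prime.coprime_iff_not_dvd hr.out).mpr hg.2
        have hpow : g' ^ a = t ^ a := by
          rw [hg't, hcomm.mul_pow, ha, pow_orderOf_eq_one, one_mul]
        have h2 : orderOf (t ^ a) = r := by
          rw [Nat.Coprime.orderOf_pow hcop, hto]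
        have h3 : orderOf (g' ^ a) ∣ orderOf g' := orderOf_pow_dvd a
        rw [hpow, h2] at h3
        exact hg'.2 h3
      have hzz' : z = z' := by
        have : z * z'⁻¹ = 1 := ht1
        exact mul_inv_eq_one.mp this
      have hgg' : g = g' := by
        rw [hg't, ht1, mul_one]
      rw [hgg', hzz']
  rw [Finset.card_product, hRfcard, hCRcard, hc'] at hinj
  have hBle : B.card ≤ c' := by
    have : B.card * r ≤ c' * r := by rw [mul_comm c' r]; exact hinj
    exact Nat.le_of_mul_le_mul_right this hrpos
  rw [hdiv]
  rw [hCRcard, hc'] at hAB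
  have : (r - 1) * c' + c' = r * c' := by
    have h1 : r - 1 + 1 = r := Nat.sub_add_cancel hrpos
    calc (r - 1) * c' + c' = (r - 1 + 1) * c' := by ring
      _ = r * c' := by rw [h1]
  omega

/-- **CNT**. -/
theorem count (r m : ℕ) [Fact r.Prime] (hc : Nat.card X = r * m) (hm : ¬ r ∣ m) :
    Nat.card (Sylow r X) * ((r - 1) * (ccard X r / r)) ≤ ecount X r := by
  classical
  have hr : r.Prime := Fact.out
  have : Fintype X := Fintype.ofFinite X
  have : Fintype (Sylow r X) := Fintype.ofFinite _
  have hc1 : Nat.card X = r ^ 1 * m := by rw [pow_one]; exact hc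
  have hR : ∀ R : Sylow r X, Nat.card (R : Subgroup X) = r := by
    intro R
    have := card_sylow_eq_pow hc1 hm R
    rwa [pow_one] at this
  -- the sets `A R`
  let A : Sylow r X → Finset X := fun R =>
    (Finset.univ.filter (fun g : X => g ∈ centralizer ((R : Subgroup X) : Set X))).filter
      (fun g => r ∣ orderOf g)
  have hAcard : ∀ R : Sylow r X, (r - 1) * (ccard X r / r) ≤ (A R).card := by
    intro R
    have := local_count r (R : Subgroup X) (hR R)
    rwa [ccard_eq' r R] at this
  -- disjointness
  have hdisj : ∀ R ∈ (Finset.univ : Finset (Sylow r X)), ∀ R' ∈ (Finset.univ : Finset (Sylow r X)),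
      R ≠ R' → Disjoint (A R) (A R') := by
    intro R _ R' _ hne
    rw [Finset.disjoint_left]
    intro g hg hg'
    apply hne
    simp only [A, Finset.mem_filter, Finset.mem_univ, true_and] at hg hg'
    have hpos : orderOf g ≠ 0 := (orderOf_pos g).ne'
    set w := g ^ (orderOf g / r) with hw
    have hwo : orderOf w = r := orderOf_pow_orderOf_div hpos hg.2
    have key : ∀ Q : Sylow r X, g ∈ centralizer ((Q : Subgroup X) : Set X) →
        (Q : Subgroup X) = zpowers w := by
      intro Q hQ
      have hwC : w ∈ centralizer ((Q : Subgroup X) : Set X) := Subgroup.pow_mem _ hQ _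
      have hwN : w ∈ normalizer ((Q : Subgroup X) : Set X) := centralizer_le_normalizer _ hwC
      have hwQ := mem_sylow_of_mem_normalizer Q w hwo hwN
      exact sylow_eq_zpowers Q (hR Q) w hwQ hwo
    exact Sylow.ext ((key R hg.1).trans (key R' hg'.1).symm)
  -- the union sits inside the set of elements of order divisible by `r`
  have hsub : (Finset.univ : Finset (Sylow r X)).biUnion A ⊆
      Finset.univ.filter (fun g : X => r ∣ orderOf g) := by
    intro g hg
    rw [Finset.mem_biUnion] at hg
    obtain ⟨R, _, hgR⟩ := hg
    simp only [A, Finset.mem_filter, Finset.mem_univ, true_and] at hgR ⊢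
    exact hgR.2
  have hE : ecount X r = (Finset.univ.filter (fun g : X => r ∣ orderOf g)).card := by
    unfold ecount
    rw [Nat.card_eq_fintype_card, Fintype.card_subtype]
  rw [hE]
  calc Nat.card (Sylow r X) * ((r - 1) * (ccard X r / r))
      = ∑ _R : Sylow r X, (r - 1) * (ccard X r / r) := by
        rw [Finset.sum_const, Finset.card_univ, Nat.card_eq_fintype_card, smul_eq_mul]
    _ ≤ ∑ R : Sylow r X, (A R).card := Finset.sum_le_sum (fun R _ => hAcard R)
    _ = ((Finset.univ : Finset (Sylow r X)).biUnion A).card := (Finset.card_biUnion hdisj).symm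
    _ ≤ _ := Finset.card_le_card hsub

end Cfsg.Agent.Lib.Helper89_J1_CNT
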