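import Mathlib
import Cfsg.Agent.Lib.Helper17_Sylow
import Cfsg.Agent.Lib.Helper49_J1Defs
import Cfsg.Agent.Lib.Helper82_J1_CCE
import Cfsg.Agent.Lib.Helper43_J1_LOC
import Cfsg.Agent.Lib.Helper82_J1_CRS
import Cfsg.Agent.Lib.Helper74_J1_UNQ
import Cfsg.Agent.Lib.Helper89_J1_CNT
import Cfsg.Agent.Lib.Helper74_J1_MIX

/-!
# S4274: local-analysis API (helper49) -- re-exports the API packages of the market:
CCE, CRS (helper82), LOC (helper43), UNQ, MIX (helper74), CNT (helper89).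
-/

set_option autoImplicit false

namespace Cfsg.Agent.Lib.Helper49_J1Tools

open Subgroup Cfsg.Agent.Lib.Helper49_J1Defs

variable {X : Type*} [Group X] [Finite X]

/-- (CCE) all Sylow `r`-subgroups have centralizers of the same order `ccard X r`. -/
theorem ccard_eq (r : ℕ) [Fact r.Prime] (R : Sylow r X) :
    Nat.card (centralizer ((R : Subgroup X) : Set X)) = ccard X r :=
  Cfsg.Agent.Lib.Helper82_J1_CCE.ccard_eq r R

/-- (LOC) local structure at a prime `r` exactly dividing the order of a nonabelian simple group: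
`|X| = c_r * k * n_r` with `r ∣ c_r`, `k ∣ r - 1`, `k ≠ 1` (Burnside), `n_r ≡ 1 mod r`, `n_r > 1`. -/
theorem loc [IsSimpleGroup X] (hna : ¬ IsMulCommutative X) (r m : ℕ) [Fact r.Prime]
    (hc : Nat.card X = r * m) (hm : ¬ r ∣ m) :
    ∃ k, k ∣ r - 1 ∧ k ≠ 1 ∧ r ∣ ccard X r ∧
      ccard X r * k * Nat.card (Sylow r X) = Nat.card X ∧
      Nat.card (Sylow r X) % r = 1 ∧ 1 < Nat.card (Sylow r X) :=
  Cfsg.Agent.Lib.Helper43_J1_LOC.loc hna r m hc hm

/-- (CRS) if `s` divides the order of the centralizer of a Sylow `r`-subgroup then `r` divides the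
order of the centralizer of a Sylow `s`-subgroup (both Sylow subgroups of prime order). -/
theorem cross (r s m m' : ℕ) [Fact r.Prime] [Fact s.Prime]
    (hc : Nat.card X = r * m) (hm : ¬ r ∣ m) (hc' : Nat.card X = s * m') (hm' : ¬ s ∣ m')
    (h : s ∣ ccard X r) : r ∣ ccard X s :=
  Cfsg.Agent.Lib.Helper82_J1_CRS.cross r s m m' hc hm hc' hm' h

/-- (UNQ) a proper subgroup of order divisible by `19` lies in a Sylow `19`-normalizer. -/
theorem uniq_dvd (h : Hyp X) (Y : Subgroup X) (hY : Y ≠ ⊤) (h19 : 19 ∣ Nat.card Y) :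
    Nat.card Y * Nat.card (Sylow 19 X) ∣ Nat.card X :=
  Cfsg.Agent.Lib.Helper74_J1_UNQ.uniq_dvd h Y hY h19

/-- (UNQ) arithmetic form for a Sylow `r`-normalizer, `N = |N_X(R)|`. -/
theorem uniq_loc (h : Hyp X) (r : ℕ) [Fact r.Prime] (hr : r ≠ 19) (hrX : r ∣ Nat.card X) (N : ℕ)
    (hN : N * Nat.card (Sylow r X) = Nat.card X) (h19 : 19 ∣ N) :
    N * Nat.card (Sylow 19 X) ∣ Nat.card X :=
  Cfsg.Agent.Lib.Helper74_J1_UNQ.uniq_loc h r hr hrX N hN h19

/-- (CNT) at least `n_r * (r - 1) * (c_r / r)` elements have order divisible by `r`. -/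
theorem count (r m : ℕ) [Fact r.Prime] (hc : Nat.card X = r * m) (hm : ¬ r ∣ m) :
    Nat.card (Sylow r X) * ((r - 1) * (ccard X r / r)) ≤ ecount X r :=
  Cfsg.Agent.Lib.Helper89_J1_CNT.count r m hc hm

/-- (MIX) if `s ∤ c_r` no element has order divisible by `r` and by `s`. -/
theorem no_mix (r s m : ℕ) [Fact r.Prime] [Fact s.Prime] (hc : Nat.card X = r * m) (hm : ¬ r ∣ m)
    (hs : ¬ s ∣ ccard X r) (g : X) (hr : r ∣ orderOf g) : ¬ s ∣ orderOf g :=
  Cfsg.Agent.Lib.Helper74_J1_MIX.no_mix r s m hc hm hs g hr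

/-- (MIX) the sets of elements of order divisible by `r`, for `r` in a set of pairwise
"non-commuting" numbers, are disjoint. -/
theorem sum_ecount_le (S : Finset ℕ)
    (hS : ∀ g : X, ∀ r ∈ S, ∀ s ∈ S, r ∣ orderOf g → s ∣ orderOf g → r = s) :
    ∑ r ∈ S, ecount X r ≤ Nat.card X :=
  Cfsg.Agent.Lib.Helper74_J1_MIX.sum_ecount_le S hS

end Cfsg.Agent.Lib.Helper49_J1Tools
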