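import Mathlib
import Cfsg.Agent.Lib.Helper17_Sylow
import Cfsg.Agent.Lib.Helper49_J1Defs
import Cfsg.Agent.Lib.Helper49_J1Tools

/-!
# S4274 market (helper49): shared arithmetic engine for the `kill*` packages (helper28)

`Loc N r c k n` is the local data at a prime `r` given by `Tools.loc`; `opts_of_check` turns it into
membership of `(c, k, n)` in an explicit finite list, by a kernel-checked search over the divisors of
`N` (only `√N` candidates are visited); `Cross`, `NoMix`, `Lb` package the `cross`, `no_mix`, `count`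
and `sum_ecount_le` constraints as decidable arithmetic statements.
-/

set_option autoImplicit false

namespace Cfsg.Agent.Lib.Helper28_J1Arith

open Subgroup Cfsg.Agent.Lib.Helper49_J1Defs

/-- Every divisor `n` of `N` is `d` or `N / d` for a divisor `d < B`, when `N < B * B`. -/
theorem forall_dvd_of_small (N B : ℕ) (hN : 0 < N) (hB : N < B * B) (P : ℕ → Prop)
    (h : ∀ d < B, d ∣ N → P d ∧ P (N / d)) : ∀ n, n ∣ N → P n := by
  intro n hn
  by_cases hlt : n < B
  · exact (h n hlt hn).1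
  · have hn0 : 0 < n := Nat.pos_of_dvd_of_pos hn hN
    have hq : N / n ∣ N := Nat.div_dvd_of_dvd hn
    have hqlt : N / n < B := by
      rw [Nat.div_lt_iff_lt_mul hn0]
      calc N < B * B := hB
        _ ≤ B * n := Nat.mul_le_mul_left _ (not_lt.mp hlt)
    have := (h (N / n) hqlt hq).2
    rwa [Nat.div_div_self hn hN.ne'] at this

/-- The local data at a prime `r` exactly dividing `N = |X|`. -/
def Loc (N r c k n : ℕ) : Prop :=
  k ∣ r - 1 ∧ k ≠ 1 ∧ r ∣ c ∧ c * k * n = N ∧ n % r = 1 ∧ 1 < n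

/-- The local constraints on `(k, n)` (with `c = N / (k * n)`), as one decidable statement. -/
def T (N r n19 n k : ℕ) : Prop :=
  k ∣ r - 1 ∧ k ≠ 1 ∧ k * n ∣ N ∧ r ∣ N / (k * n) ∧ n % r = 1 ∧ 1 < n ∧
    (19 ∣ N / (k * n) * k → N / (k * n) * k * n19 ∣ N)

instance (N r n19 n k : ℕ) : Decidable (T N r n19 n k) := by unfold T; infer_instance

/-- The decidable test run on each candidate `n`. -/
def Q (N r n19 : ℕ) (L : List (ℕ × ℕ × ℕ)) (n : ℕ) : Prop :=
  ∀ k < r, T N r n19 n k → (N / (k * n), k, n) ∈ L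

instance (N r n19 : ℕ) (L : List (ℕ × ℕ × ℕ)) (n : ℕ) : Decidable (Q N r n19 L n) := by
  unfold Q; infer_instance

/-- The options for `(c, k, n)` at the prime `r`, from a finite check. -/
theorem opts_of_check (N r n19 B : ℕ) (L : List (ℕ × ℕ × ℕ)) (hN : 0 < N) (hB : N < B * B)
    (hr : 0 < r - 1)
    (check : ∀ d < B, d ∣ N → Q N r n19 L d ∧ Q N r n19 L (N / d)) :
    ∀ c k n, Loc N r c k n → (19 ∣ c * k → c * k * n19 ∣ N) → (c, k, n) ∈ L := by
  intro c k n hl hu
  obtain ⟨hk, hk1, hrc, hckn, hnr, hn1⟩ := hl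
  have hnd : n ∣ N := ⟨c * k, by rw [← hckn]; ring⟩
  have key := forall_dvd_of_small N B hN hB (Q N r n19 L) check n hnd
  have hkn : 0 < k * n := by
    rcases Nat.eq_zero_or_pos (k * n) with h0 | h0
    · rw [mul_assoc, h0, mul_zero] at hckn; omega
    · exact h0
  have hc : N / (k * n) = c := by
    apply Nat.div_eq_of_eq_mul_left hkn
    rw [← hckn]; ring
  have hklt : k < r := by
    have := Nat.le_of_dvd hr hk
    omega
  have := key k hklt ⟨hk, hk1, ⟨c, by rw [← hckn]; ring⟩, by rw [hc]; exact hrc, hnr, hn1,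
    by rw [hc]; exact hu⟩
  rwa [hc] at this

/-- `cross` in both directions. -/
abbrev Cross (r s cr cs : ℕ) : Prop := (s ∣ cr → r ∣ cs) ∧ (r ∣ cs → s ∣ cr)

/-- Elements of order divisible by `r` and `s` do not exist. -/
abbrev NoMix (r s cr cs : ℕ) : Prop := ¬ s ∣ cr ∨ ¬ r ∣ cs

/-- The lower bound of `count`. -/
abbrev Lb (r c n : ℕ) : ℕ := n * ((r - 1) * (c / r))

section group

variable {X : Type*} [Group X] [Finite X]

theorem loc_data (h : Hyp X) {N : ℕ} (hc : Nat.card X = N) (r m : ℕ) [Fact r.Prime]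
    (hN : N = r * m) (hm : ¬ r ∣ m) :
    ∃ k, Loc N r (ccard X r) k (Nat.card (Sylow r X)) := by
  have := h.simple
  obtain ⟨k, h1, h2, h3, h4, h5, h6⟩ := Helper49_J1Tools.loc h.nonab r m (hc.trans hN) hm
  exact ⟨k, h1, h2, h3, by rw [h4, hc], h5, h6⟩

theorem uniq_data (h : Hyp X) {N : ℕ} (hc : Nat.card X = N) (r : ℕ) [Fact r.Prime]
    (hr : r ≠ 19) (k : ℕ) (hl : Loc N r (ccard X r) k (Nat.card (Sylow r X))) :
    19 ∣ ccard X r * k → ccard X r * k * Nat.card (Sylow 19 X) ∣ N := by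
  intro h19
  obtain ⟨_, _, h3, h4, _, _⟩ := hl
  have hrX : r ∣ Nat.card X := by
    rw [hc, ← h4]; exact Dvd.dvd.mul_right (Dvd.dvd.mul_right h3 _) _
  have := Helper49_J1Tools.uniq_loc h r hr hrX (ccard X r * k) (by rw [h4, hc]) h19
  rwa [hc] at this

omit [Finite X] in
theorem uniq_self {N : ℕ} [Fact (Nat.Prime 19)] (k : ℕ)
    (hl : Loc N 19 (ccard X 19) k (Nat.card (Sylow 19 X))) :
    19 ∣ ccard X 19 * k → ccard X 19 * k * Nat.card (Sylow 19 X) ∣ N := by
  intro _
  obtain ⟨_, _, _, h4, _, _⟩ := hl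
  rw [h4]

theorem cross_data {N : ℕ} (hc : Nat.card X = N) (r s m m' : ℕ) [Fact r.Prime] [Fact s.Prime]
    (hN : N = r * m) (hm : ¬ r ∣ m) (hN' : N = s * m') (hm' : ¬ s ∣ m') :
    Cross r s (ccard X r) (ccard X s) :=
  ⟨Helper49_J1Tools.cross r s m m' (hc.trans hN) hm (hc.trans hN') hm',
   Helper49_J1Tools.cross s r m' m (hc.trans hN') hm' (hc.trans hN) hm⟩

theorem nomix_pair {N : ℕ} (hc : Nat.card X = N) (r s m m' : ℕ) [Fact r.Prime] [Fact s.Prime]
    (hN : N = r * m) (hm : ¬ r ∣ m) (hN' : N = s * m') (hm' : ¬ s ∣ m')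
    (hmix : NoMix r s (ccard X r) (ccard X s)) (g : X) (hr : r ∣ orderOf g)
    (hs : s ∣ orderOf g) : False := by
  rcases hmix with h1 | h1
  · exact Helper49_J1Tools.no_mix r s m (hc.trans hN) hm h1 g hr hs
  · exact Helper49_J1Tools.no_mix s r m' (hc.trans hN') hm' h1 g hs hr

theorem sum3_data {N : ℕ} (hc : Nat.card X = N) (a b c ma mb mc : ℕ)
    [Fact a.Prime] [Fact b.Prime] [Fact c.Prime]
    (hab : a ≠ b) (hac : a ≠ c) (hbc : b ≠ c)
    (hNa : N = a * ma) (hma : ¬ a ∣ ma) (hNb : N = b * mb) (hmb : ¬ b ∣ mb)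
    (hNc : N = c * mc) (hmc : ¬ c ∣ mc)
    (mab : NoMix a b (ccard X a) (ccard X b)) (mac : NoMix a c (ccard X a) (ccard X c))
    (mbc : NoMix b c (ccard X b) (ccard X c)) :
    Lb a (ccard X a) (Nat.card (Sylow a X)) + Lb b (ccard X b) (Nat.card (Sylow b X)) +
      Lb c (ccard X c) (Nat.card (Sylow c X)) ≤ N := by
  have hS := Helper49_J1Tools.sum_ecount_le (X := X) {a, b, c} (by
    intro g r hr s hs hrg hsg
    simp only [Finset.mem_insert, Finset.mem_singleton] at hr hs
    rcases hr with rfl | rfl | rfl <;> rcases hs with rfl | rfl | rfl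
    · rfl
    · exact (nomix_pair hc _ _ ma mb hNa hma hNb hmb mab g hrg hsg).elim
    · exact (nomix_pair hc _ _ ma mc hNa hma hNc hmc mac g hrg hsg).elim
    · exact (nomix_pair hc _ _ ma mb hNa hma hNb hmb mab g hsg hrg).elim
    · rfl
    · exact (nomix_pair hc _ _ mb mc hNb hmb hNc hmc mbc g hrg hsg).elim
    · exact (nomix_pair hc _ _ ma mc hNa hma hNc hmc mac g hsg hrg).elim
    · exact (nomix_pair hc _ _ mb mc hNb hmb hNc hmc mbc g hsg hrg).elim
    · rfl)
  rw [Finset.sum_insert (by simp [hab, hac]), Finset.sum_insert (by simp [hbc]),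
    Finset.sum_singleton, hc] at hS
  have ca := Helper49_J1Tools.count a ma (hc.trans hNa) hma
  have cb := Helper49_J1Tools.count b mb (hc.trans hNb) hmb
  have cc := Helper49_J1Tools.count c mc (hc.trans hNc) hmc
  show Nat.card (Sylow a X) * ((a - 1) * (ccard X a / a)) +
    Nat.card (Sylow b X) * ((b - 1) * (ccard X b / b)) +
    Nat.card (Sylow c X) * ((c - 1) * (ccard X c / c)) ≤ N
  omega

theorem sum4_data {N : ℕ} (hc : Nat.card X = N) (a b c d ma mb mc md : ℕ)
    [Fact a.Prime] [Fact b.Prime] [Fact c.Prime] [Fact d.Prime]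
    (hab : a ≠ b) (hac : a ≠ c) (had : a ≠ d) (hbc : b ≠ c) (hbd : b ≠ d) (hcd : c ≠ d)
    (hNa : N = a * ma) (hma : ¬ a ∣ ma) (hNb : N = b * mb) (hmb : ¬ b ∣ mb)
    (hNc : N = c * mc) (hmc : ¬ c ∣ mc) (hNd : N = d * md) (hmd : ¬ d ∣ md)
    (mab : NoMix a b (ccard X a) (ccard X b)) (mac : NoMix a c (ccard X a) (ccard X c))
    (mad : NoMix a d (ccard X a) (ccard X d)) (mbc : NoMix b c (ccard X b) (ccard X c))
    (mbd : NoMix b d (ccard X b) (ccard X d)) (mcd : NoMix c d (ccard X c) (ccard X d)) :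
    Lb a (ccard X a) (Nat.card (Sylow a X)) + Lb b (ccard X b) (Nat.card (Sylow b X)) +
      Lb c (ccard X c) (Nat.card (Sylow c X)) + Lb d (ccard X d) (Nat.card (Sylow d X)) ≤ N := by
  have hS := Helper49_J1Tools.sum_ecount_le (X := X) {a, b, c, d} (by
    intro g r hr s hs hrg hsg
    simp only [Finset.mem_insert, Finset.mem_singleton] at hr hs
    rcases hr with rfl | rfl | rfl | rfl <;> rcases hs with rfl | rfl | rfl | rfl
    · rfl
    · exact (nomix_pair hc _ _ ma mb hNa hma hNb hmb mab g hrg hsg).elim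
    · exact (nomix_pair hc _ _ ma mc hNa hma hNc hmc mac g hrg hsg).elim
    · exact (nomix_pair hc _ _ ma md hNa hma hNd hmd mad g hrg hsg).elim
    · exact (nomix_pair hc _ _ ma mb hNa hma hNb hmb mab g hsg hrg).elim
    · rfl
    · exact (nomix_pair hc _ _ mb mc hNb hmb hNc hmc mbc g hrg hsg).elim
    · exact (nomix_pair hc _ _ mb md hNb hmb hNd hmd mbd g hrg hsg).elim
    · exact (nomix_pair hc _ _ ma mc hNa hma hNc hmc mac g hsg hrg).elim
    · exact (nomix_pair hc _ _ mb mc hNb hmb hNc hmc mbc g hsg hrg).elim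
    · rfl
    · exact (nomix_pair hc _ _ mc md hNc hmc hNd hmd mcd g hrg hsg).elim
    · exact (nomix_pair hc _ _ ma md hNa hma hNd hmd mad g hsg hrg).elim
    · exact (nomix_pair hc _ _ mb md hNb hmb hNd hmd mbd g hsg hrg).elim
    · exact (nomix_pair hc _ _ mc md hNc hmc hNd hmd mcd g hsg hrg).elim
    · rfl)
  rw [Finset.sum_insert (by simp [hab, hac, had]), Finset.sum_insert (by simp [hbc, hbd]),
    Finset.sum_insert (by simp [hcd]), Finset.sum_singleton, hc] at hS
  have ca := Helper49_J1Tools.count a ma (hc.trans hNa) hma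
  have cb := Helper49_J1Tools.count b mb (hc.trans hNb) hmb
  have cc := Helper49_J1Tools.count c mc (hc.trans hNc) hmc
  have cd := Helper49_J1Tools.count d md (hc.trans hNd) hmd
  show Nat.card (Sylow a X) * ((a - 1) * (ccard X a / a)) +
    Nat.card (Sylow b X) * ((b - 1) * (ccard X b / b)) +
    Nat.card (Sylow c X) * ((c - 1) * (ccard X c / c)) +
    Nat.card (Sylow d X) * ((d - 1) * (ccard X d / d)) ≤ N
  omega

end group

end Cfsg.Agent.Lib.Helper28_J1Arith
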