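import Mathlib
import Cfsg.Agent.Lib.Helper17_Sylow
import Cfsg.Agent.Lib.Helper49_J1Defs
import Cfsg.Agent.Lib.Helper49_J1Tools
import Cfsg.Agent.Lib.Helper28_J1Arith

/-!
# S4274 market (helper49), package KC1: `|X| = 87780`, `n_19 = 210` is impossible (helper28)
-/

set_option autoImplicit false

namespace Cfsg.Agent.Lib.Helper28_J1_KC1

open Subgroup Cfsg.Agent.Lib.Helper49_J1Defs Cfsg.Agent.Lib.Helper28_J1Arith

/-- The possible `(c_5, k_5, n_5)`. -/
def L5 : List (ℕ × ℕ × ℕ) := [(165, 2, 266), (15, 2, 2926)]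
/-- The possible `(c_7, k_7, n_7)`. -/
def L7 : List (ℕ × ℕ × ℕ) :=
  [(770, 2, 57), (231, 2, 190), (154, 3, 190), (77, 6, 190), (35, 2, 1254), (7, 3, 4180)]
/-- The possible `(c_11, k_11, n_11)`. -/
def L11 : List (ℕ × ℕ × ℕ) :=
  [(330, 2, 133), (132, 5, 133), (66, 10, 133), (209, 2, 210), (11, 5, 1596)]
/-- The possible `(c_19, k_19, n_19)` with `n_19 = 210`. -/
def L19 : List (ℕ × ℕ × ℕ) := [(209, 2, 210)]

theorem opts5 : ∀ c k n, Loc 87780 5 c k n → (19 ∣ c * k → c * k * 210 ∣ 87780) → (c, k, n) ∈ L5 :=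
  opts_of_check 87780 5 210 297 L5 (by norm_num) (by norm_num) (by norm_num) (by decide +kernel)

theorem opts7 : ∀ c k n, Loc 87780 7 c k n → (19 ∣ c * k → c * k * 210 ∣ 87780) → (c, k, n) ∈ L7 :=
  opts_of_check 87780 7 210 297 L7 (by norm_num) (by norm_num) (by norm_num) (by decide +kernel)

theorem opts11 :
    ∀ c k n, Loc 87780 11 c k n → (19 ∣ c * k → c * k * 210 ∣ 87780) → (c, k, n) ∈ L11 :=
  opts_of_check 87780 11 210 297 L11 (by norm_num) (by norm_num) (by norm_num) (by decide +kernel)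

theorem opts19 :
    ∀ c k n, Loc 87780 19 c k n → (19 ∣ c * k → c * k * 210 ∣ 87780) → (c, k, n) ∈ L19 :=
  opts_of_check 87780 19 210 297 L19 (by norm_num) (by norm_num) (by norm_num) (by decide +kernel)

/-- The global constraints: the cross relations and the counting bound for `{5, 7, 19}`. -/
def Bad (t5 t7 t11 t19 : ℕ × ℕ × ℕ) : Prop :=
  Cross 5 7 t5.1 t7.1 ∧ Cross 5 11 t5.1 t11.1 ∧ Cross 5 19 t5.1 t19.1 ∧
  Cross 7 11 t7.1 t11.1 ∧ Cross 7 19 t7.1 t19.1 ∧ Cross 11 19 t11.1 t19.1 ∧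
  (NoMix 5 7 t5.1 t7.1 ∧ NoMix 5 19 t5.1 t19.1 ∧ NoMix 7 19 t7.1 t19.1 →
    Lb 5 t5.1 t5.2.2 + Lb 7 t7.1 t7.2.2 + Lb 19 t19.1 t19.2.2 ≤ 87780)

instance (t5 t7 t11 t19 : ℕ × ℕ × ℕ) : Decidable (Bad t5 t7 t11 t19) := by
  unfold Bad; infer_instance

/-- The final finite check: the global constraints are inconsistent with the local options. -/
theorem final : ∀ t5 ∈ L5, ∀ t7 ∈ L7, ∀ t11 ∈ L11, ∀ t19 ∈ L19, ¬ Bad t5 t7 t11 t19 := by
  decide +kernel

variable {X : Type*} [Group X] [Finite X]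

theorem killC1 (h : Hyp X) (hc : Nat.card X = 87780) (hn : Nat.card (Sylow 19 X) = 210) :
    False := by
  have : Fact (Nat.Prime 5) := ⟨by norm_num⟩
  have : Fact (Nat.Prime 7) := ⟨by norm_num⟩
  have : Fact (Nat.Prime 11) := ⟨by norm_num⟩
  have : Fact (Nat.Prime 19) := ⟨by norm_num⟩
  obtain ⟨k5, l5⟩ := loc_data h hc 5 17556 (by norm_num) (by norm_num)
  obtain ⟨k7, l7⟩ := loc_data h hc 7 12540 (by norm_num) (by norm_num)
  obtain ⟨k11, l11⟩ := loc_data h hc 11 7980 (by norm_num) (by norm_num)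
  obtain ⟨k19, l19⟩ := loc_data h hc 19 4620 (by norm_num) (by norm_num)
  have u5 := uniq_data h hc 5 (by norm_num) k5 l5
  have u7 := uniq_data h hc 7 (by norm_num) k7 l7
  have u11 := uniq_data h hc 11 (by norm_num) k11 l11
  have u19 := uniq_self k19 l19
  rw [hn] at u5 u7 u11 u19
  have o5 := opts5 _ _ _ l5 u5
  have o7 := opts7 _ _ _ l7 u7
  have o11 := opts11 _ _ _ l11 u11
  have o19 := opts19 _ _ _ l19 u19
  have x57 := cross_data hc 5 7 17556 12540 (by norm_num) (by norm_num) (by norm_num) (by norm_num)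
  have x511 := cross_data hc 5 11 17556 7980 (by norm_num) (by norm_num) (by norm_num) (by norm_num)
  have x519 := cross_data hc 5 19 17556 4620 (by norm_num) (by norm_num) (by norm_num) (by norm_num)
  have x711 := cross_data hc 7 11 12540 7980 (by norm_num) (by norm_num) (by norm_num) (by norm_num)
  have x719 := cross_data hc 7 19 12540 4620 (by norm_num) (by norm_num) (by norm_num) (by norm_num)
  have x1119 :=
    cross_data hc 11 19 7980 4620 (by norm_num) (by norm_num) (by norm_num) (by norm_num)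
  have s := sum3_data hc 5 7 19 17556 12540 4620 (by norm_num) (by norm_num) (by norm_num)
    (by norm_num) (by norm_num) (by norm_num) (by norm_num) (by norm_num) (by norm_num)
  exact final _ o5 _ o7 _ o11 _ o19
    ⟨x57, x511, x519, x711, x719, x1119, fun m => s m.1 m.2.1 m.2.2⟩

end Cfsg.Agent.Lib.Helper28_J1_KC1
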