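import Mathlib
import Cfsg.Agent.Lib.Helper75_MI3MDefs

set_option autoImplicit false

/-!
# MI3M market (architect helper75), package MI3M-ARITH (helper28): the arithmetic of `Nsing3`.

With `3 ^ (k - 1) = 2 y + 1` everything is a polynomial in `y`:
`Nsing3 k = 2 y (3 y + 2)`, `Nsing3 (k + 1) = 2 (9 y + 5) (3 y + 1)`, `3 ^ (2 k) = 9 (2 y + 1) ^ 2`.
-/

namespace Cfsg.Agent.Lib.Helper28_MI3M_ARITH

open Module Cfsg.Agent.Lib.Helper14_OmegaSimple Cfsg.Agent.Lib.Helper22_MI2Defs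
  Cfsg.Agent.Lib.Helper44_MI3Defs Cfsg.Agent.Lib.Helper75_MI3MDefs

theorem Nsing3_arith (k : ℕ) (hk : 2 ≤ k) :
    Nsing3 (k + 1) = 1 + 3 * Nsing3 k + 3 ^ (2 * k) ∧
    Nsing3 (k + 1) < 2 * 3 ^ (2 * k) ∧
    2 * Nsing3 (k + 1) = (3 ^ (k + 1) + 1) * (3 ^ k - 1) ∧
    (∀ n : ℕ, n + 1 = Nsing3 (k + 1) → ¬ n ∣ (3 ^ (k + 1) + 1) * (3 ^ k - 1) * 3 ^ (2 * k)) := by
  obtain ⟨j, rfl⟩ : ∃ j, k = j + 2 := ⟨k - 2, by omega⟩
  obtain ⟨y, hy⟩ : ∃ y, 3 ^ (j + 1) = 2 * y + 1 := by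
    have h : Odd (3 ^ (j + 1)) := Odd.pow (by decide)
    obtain ⟨y, hy⟩ := h
    exact ⟨y, hy⟩
  have hy1 : 1 ≤ y := by
    have h3 : 3 ^ 1 ≤ 3 ^ (j + 1) := Nat.pow_le_pow_right (by norm_num) (by omega)
    omega
  have p1 : 3 ^ (j + 2) = 3 * (2 * y + 1) := by
    rw [pow_succ, hy]; ring
  have p2 : 3 ^ (j + 2 + 1) = 9 * (2 * y + 1) := by
    rw [pow_succ, p1]; ring
  have p3 : 3 ^ (2 * (j + 2)) = 9 * (2 * y + 1) * (2 * y + 1) := by
    rw [show 2 * (j + 2) = (j + 1) + (j + 1) + 1 + 1 by omega, pow_succ, pow_succ, pow_add, hy]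
    ring
  have hsub : 3 * (2 * y + 1) - 1 = 2 * (3 * y + 1) := by omega
  have n1 : Nsing3 (j + 2) = 2 * y * (3 * y + 2) := by
    unfold Nsing3
    rw [show j + 2 - 1 = j + 1 by omega, p1, hy, Nat.add_sub_cancel]
    have h : (3 * (2 * y + 1) + 1) * (2 * y) = 2 * (2 * y * (3 * y + 2)) := by ring
    rw [h, Nat.mul_div_cancel_left _ (by norm_num)]
  have n2 : Nsing3 (j + 2 + 1) = 2 * (9 * y + 5) * (3 * y + 1) := by
    unfold Nsing3
    rw [show j + 2 + 1 - 1 = j + 2 by omega, p2, p1, hsub]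
    have h : (9 * (2 * y + 1) + 1) * (2 * (3 * y + 1)) =
        2 * (2 * (9 * y + 5) * (3 * y + 1)) := by ring
    rw [h, Nat.mul_div_cancel_left _ (by norm_num)]
  refine ⟨?_, ?_, ?_, ?_⟩
  · rw [n2, n1, p3]; ring
  · rw [n2, p3]
    have e1 : 2 * (9 * y + 5) * (3 * y + 1) = 54 * (y * y) + 48 * y + 10 := by ring
    have e2 : 2 * (9 * (2 * y + 1) * (2 * y + 1)) = 72 * (y * y) + 72 * y + 18 := by ring
    rw [e1, e2]
    omega
  · rw [n2, p2, p1, hsub]; ring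
  · intro n hn hdvd
    rw [n2] at hn
    rw [p2, p1, p3, hsub] at hdvd
    have hcop : Nat.Coprime n (n + 1) := by simp
    have h2 : (9 * (2 * y + 1) + 1) * (2 * (3 * y + 1)) * (9 * (2 * y + 1) * (2 * y + 1)) =
        (18 * (2 * y + 1) * (2 * y + 1)) * (n + 1) := by
      rw [hn]; ring
    rw [h2] at hdvd
    have h3 : n ∣ 18 * (2 * y + 1) * (2 * y + 1) := hcop.dvd_of_dvd_mul_right hdvd
    obtain ⟨m, hm⟩ := h3
    have e1 : n = 54 * (y * y) + 48 * y + 9 := by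
      have : 2 * (9 * y + 5) * (3 * y + 1) = 54 * (y * y) + 48 * y + 10 := by ring
      omega
    have e2 : 18 * (2 * y + 1) * (2 * y + 1) = 72 * (y * y) + 72 * y + 18 := by ring
    rw [e2] at hm
    rcases m with _ | _ | m
    · omega
    · omega
    · have e3 : n * (m + 1 + 1) = 2 * n + n * m := by ring
      have : 0 ≤ n * m := Nat.zero_le _
      have hyy : 1 ≤ y * y := Nat.mul_pos hy1 hy1
      omega

end Cfsg.Agent.Lib.Helper28_MI3M_ARITH
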