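import Mathlib
import Cfsg.Agent.Lib.Helper75_MI3MDefs

set_option autoImplicit false

/-!
# MI3M market (architect helper75), package MI3M-HALFTURN (helper28): the half-turn in an anisotropic
plane `<x, y>` lies in `T Q`.

`h := E a x * E a' (ζ • x) * E a x` with `a = -(y + f)`, `a' = -ζ • (y - f)`.  On `p • x + q • y + s • f`
each factor acts by an explicit polynomial formula in `p, q, s, ζ` (`E1`, `E2`); the composite is
`(-p, -q, s)` modulo `3 = 0`, `ζ² = 1` (certificates for `linear_combination` computed by a script).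
-/

namespace Cfsg.Agent.Lib.Helper28_MI3M_HALFTURN

open Module Cfsg.Agent.Lib.Helper14_OmegaSimple Cfsg.Agent.Lib.Helper22_MI2Defs
  Cfsg.Agent.Lib.Helper44_MI3Defs Cfsg.Agent.Lib.Helper75_MI3MDefs

variable {F V : Type*} [Field F] [AddCommGroup V] [Module F V]

theorem E_fix (Q : QuadraticForm F V) {u z w : V} (hu : Q u = 0)
    (huz : QuadraticMap.polar (⇑Q) u z = 0) (hwu : QuadraticMap.polar (⇑Q) w u = 0)
    (hwz : QuadraticMap.polar (⇑Q) w z = 0) : E Q u z w = w := by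
  rw [E_apply Q hu huz, hwu, hwz]
  simp

theorem exists_halfturn [Finite F] [FiniteDimensional F V] (Q : QuadraticForm F V)
    (f3 : ∀ c : F, c = 0 ∨ c = 1 ∨ c = -1) (h2 : (2 : F) ≠ 0)
    (hQ : (QuadraticMap.polarBilin Q).Nondegenerate) (hdim : 5 ≤ finrank F V)
    {x y f : V} (hx : Q x ≠ 0) (hy : Q y = Q x) (hf : Q f = -Q x)
    (hxy : QuadraticMap.polar (⇑Q) x y = 0) (hxf : QuadraticMap.polar (⇑Q) x f = 0)
    (hyf : QuadraticMap.polar (⇑Q) y f = 0) :
    ∃ h ∈ T Q, h x = -x ∧ h y = -y ∧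
      ∀ t : V, QuadraticMap.polar (⇑Q) t x = 0 → QuadraticMap.polar (⇑Q) t y = 0 → h t = t := by
  obtain ⟨ζ, hζ⟩ : ∃ ζ, Q x = ζ := ⟨_, rfl⟩
  rw [hζ] at hy hf hx
  have h3 : (3 : F) = 0 := by
    rcases f3 2 with h | h | h
    · exact absurd h h2
    · exfalso
      have h1 : (1 : F) = 0 := by linear_combination h
      exact one_ne_zero h1
    · linear_combination h
  have hζ2 : ζ * ζ = 1 := by
    rcases f3 ζ with h | h | h
    · exact absurd h hx
    · rw [h]; ring
    · rw [h]; ring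
  have bxx : QuadraticMap.polar (⇑Q) x x = 2 * ζ := by
    rw [QuadraticMap.polar_self, hζ, two_smul, two_mul]
  have byy : QuadraticMap.polar (⇑Q) y y = 2 * ζ := by
    rw [QuadraticMap.polar_self, hy, two_smul, two_mul]
  have bff : QuadraticMap.polar (⇑Q) f f = -(2 * ζ) := by
    rw [QuadraticMap.polar_self, hf, two_smul, two_mul]; ring
  have byx : QuadraticMap.polar (⇑Q) y x = 0 := by rw [QuadraticMap.polar_comm]; exact hxy
  have bfx : QuadraticMap.polar (⇑Q) f x = 0 := by rw [QuadraticMap.polar_comm]; exact hxf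
  have bfy : QuadraticMap.polar (⇑Q) f y = 0 := by rw [QuadraticMap.polar_comm]; exact hyf
  obtain ⟨a, ha⟩ : ∃ a : V, a = -(y + f) := ⟨_, rfl⟩
  obtain ⟨a', ha'⟩ : ∃ a' : V, a' = (-ζ) • (y - f) := ⟨_, rfl⟩
  have hQa : Q a = 0 := by
    rw [ha, QuadraticMap.map_neg, QuadraticMap.map_add (⇑Q) y f, hy, hf, hyf]; ring
  have hQa' : Q a' = 0 := by
    rw [ha', QuadraticMap.map_smul, Cfsg.Agent.Lib.Helper14_OmegaSimple.map_sub', hy, hf, hyf]; simp
  have hax : QuadraticMap.polar (⇑Q) a x = 0 := by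
    rw [ha, QuadraticMap.polar_neg_left, QuadraticMap.polar_add_left, byx, bfx]; simp
  have ha'x : QuadraticMap.polar (⇑Q) a' (ζ • x) = 0 := by
    rw [ha', QuadraticMap.polar_smul_left, QuadraticMap.polar_smul_right,
      QuadraticMap.polar_sub_left, byx, bfx]; simp
  have hQzx : Q (ζ • x) = ζ * ζ * ζ := by
    rw [QuadraticMap.map_smul, hζ, smul_eq_mul]
  -- the polar form on `p • x + q • y + s • f`
  have pw : ∀ p q s : F,
      QuadraticMap.polar (⇑Q) (p • x + q • y + s • f) x = 2 * ζ * p ∧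
      QuadraticMap.polar (⇑Q) (p • x + q • y + s • f) y = 2 * ζ * q ∧
      QuadraticMap.polar (⇑Q) (p • x + q • y + s • f) f = -(2 * ζ * s) := by
    intro p q s
    refine ⟨?_, ?_, ?_⟩
    · rw [QuadraticMap.polar_add_left, QuadraticMap.polar_add_left,
        QuadraticMap.polar_smul_left, QuadraticMap.polar_smul_left,
        QuadraticMap.polar_smul_left, bxx, byx, bfx]
      simp only [smul_eq_mul]; ring
    · rw [QuadraticMap.polar_add_left, QuadraticMap.polar_add_left,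
        QuadraticMap.polar_smul_left, QuadraticMap.polar_smul_left,
        QuadraticMap.polar_smul_left, hxy, byy, bfy]
      simp only [smul_eq_mul]; ring
    · rw [QuadraticMap.polar_add_left, QuadraticMap.polar_add_left,
        QuadraticMap.polar_smul_left, QuadraticMap.polar_smul_left,
        QuadraticMap.polar_smul_left, hxf, hyf, bff]
      simp only [smul_eq_mul]; ring
  have E1 : ∀ p q s : F, E Q a x (p • x + q • y + s • f) =
      (p - 2 * ζ * (q - s)) • x + (q - (2 * ζ * ζ * (q - s) - 2 * ζ * p)) • y +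
        (s - (2 * ζ * ζ * (q - s) - 2 * ζ * p)) • f := by
    intro p q s
    obtain ⟨w1, w2, w3⟩ := pw p q s
    have hwa : QuadraticMap.polar (⇑Q) (p • x + q • y + s • f) a = -(2 * ζ * (q - s)) := by
      rw [ha, QuadraticMap.polar_neg_right, QuadraticMap.polar_add_right, w2, w3]; ring
    rw [E_apply Q hQa hax, hwa, w1, hζ, ha]
    module
  have E2 : ∀ p q s : F, E Q a' (ζ • x) (p • x + q • y + s • f) =
      (p - 2 * ζ ^ 3 * (q + s)) • x + (q - ζ * (2 * ζ ^ 5 * (q + s) - 2 * ζ ^ 2 * p)) • y +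
        (s + ζ * (2 * ζ ^ 5 * (q + s) - 2 * ζ ^ 2 * p)) • f := by
    intro p q s
    obtain ⟨w1, w2, w3⟩ := pw p q s
    have hwa : QuadraticMap.polar (⇑Q) (p • x + q • y + s • f) a' =
        -(2 * ζ ^ 2 * (q + s)) := by
      rw [ha', QuadraticMap.polar_smul_right, QuadraticMap.polar_sub_right, w2, w3]
      simp only [smul_eq_mul]; ring
    have hwz : QuadraticMap.polar (⇑Q) (p • x + q • y + s • f) (ζ • x) = 2 * ζ ^ 2 * p := by
      rw [QuadraticMap.polar_smul_right, w1]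
      simp only [smul_eq_mul]; ring
    rw [E_apply Q hQa' ha'x, hwa, hwz, hQzx, ha']
    module
  have key : ∀ p q s : F, (E Q a x * E Q a' (ζ • x) * E Q a x) (p • x + q • y + s • f) =
      (-p) • x + (-q) • y + s • f := by
    intro p q s
    rw [LinearEquiv.mul_apply, LinearEquiv.mul_apply, E1, E2, E1]
    refine congrArg₂ (· + ·) (congrArg₂ (· + ·) (congrArg (· • x) ?_) (congrArg (· • y) ?_))
      (congrArg (· • f) ?_)
    · linear_combination (exp := 1) (-2 * q * ζ + 6 * s * ζ + 6 * p) * h3 +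
        (-32 * q * ζ^7 + 32 * s * ζ^7 + 32 * p * ζ^6 + -24 * q * ζ^5 + 40 * s * ζ^5 +
          32 * p * ζ^4 + 16 * s * ζ^3 + 16 * p * ζ^2 + -2 * q * ζ + 14 * s * ζ + 16 * p) * hζ2
    · linear_combination (exp := 1) (2 * p * ζ + 2 * s) * h3 +
        (-32 * q * ζ^8 + 32 * s * ζ^8 + 32 * p * ζ^7 + -16 * q * ζ^6 + 32 * s * ζ^6 +
          24 * p * ζ^5 + 14 * q * ζ^4 + -2 * s * ζ^4 + 6 * q * ζ^2 + -2 * s * ζ^2 + 2 * p * ζ +
          -2 * q + 6 * s) * hζ2
    · linear_combination (exp := 1) (6 * p * ζ + -2 * q + 6 * s) * h3 +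
        (-32 * q * ζ^8 + 32 * s * ζ^8 + 32 * p * ζ^7 + -32 * q * ζ^6 + 48 * s * ζ^6 +
          40 * p * ζ^5 + 2 * q * ζ^4 + 18 * s * ζ^4 + 16 * p * ζ^3 + 2 * q * ζ^2 + 10 * s * ζ^2 +
          14 * p * ζ + -6 * q + 18 * s) * hζ2
  refine ⟨E Q a x * E Q a' (ζ • x) * E Q a x, ?_, ?_, ?_, ?_⟩
  · exact Subgroup.mul_mem _ (Subgroup.mul_mem _ (E_mem_T Q hQ hdim hQa hax)
      (E_mem_T Q hQ hdim hQa' ha'x)) (E_mem_T Q hQ hdim hQa hax)
  · have := key 1 0 0
    simpa using this
  · have := key 0 1 0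
    simpa using this
  · intro t htx hty
    have hff0 : QuadraticMap.polar (⇑Q) f f ≠ 0 := by
      rw [bff]
      exact neg_ne_zero.mpr (mul_ne_zero h2 hx)
    obtain ⟨c, hc⟩ : ∃ c : F, c = QuadraticMap.polar (⇑Q) t f / QuadraticMap.polar (⇑Q) f f :=
      ⟨_, rfl⟩
    obtain ⟨t0, ht0⟩ : ∃ t0 : V, t0 = t - c • f := ⟨_, rfl⟩
    have t0x : QuadraticMap.polar (⇑Q) t0 x = 0 := by
      rw [ht0, QuadraticMap.polar_sub_left, QuadraticMap.polar_smul_left, htx, bfx]; simp
    have t0y : QuadraticMap.polar (⇑Q) t0 y = 0 := by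
      rw [ht0, QuadraticMap.polar_sub_left, QuadraticMap.polar_smul_left, hty, bfy]; simp
    have t0f : QuadraticMap.polar (⇑Q) t0 f = 0 := by
      rw [ht0, QuadraticMap.polar_sub_left, QuadraticMap.polar_smul_left, hc, smul_eq_mul,
        div_mul_cancel₀ _ hff0, sub_self]
    have t0a : QuadraticMap.polar (⇑Q) t0 a = 0 := by
      rw [ha, QuadraticMap.polar_neg_right, QuadraticMap.polar_add_right, t0y, t0f]; simp
    have t0a' : QuadraticMap.polar (⇑Q) t0 a' = 0 := by
      rw [ha', QuadraticMap.polar_smul_right, QuadraticMap.polar_sub_right, t0y, t0f]; simp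
    have t0zx : QuadraticMap.polar (⇑Q) t0 (ζ • x) = 0 := by
      rw [QuadraticMap.polar_smul_right, t0x]; simp
    have hdec : t = t0 + ((0 : F) • x + (0 : F) • y + c • f) := by
      rw [ht0]; module
    have hfix0 : (E Q a x * E Q a' (ζ • x) * E Q a x) t0 = t0 := by
      rw [LinearEquiv.mul_apply, LinearEquiv.mul_apply, E_fix Q hQa hax t0a t0x,
        E_fix Q hQa' ha'x t0a' t0zx, E_fix Q hQa hax t0a t0x]
    conv_lhs => rw [hdec]
    rw [map_add, hfix0, key 0 0 c]
    rw [ht0]; module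

end Cfsg.Agent.Lib.Helper28_MI3M_HALFTURN
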