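import Mathlib
import Cfsg.Agent.Lib.Helper38_MIODefs

set_option autoImplicit false
set_option linter.unusedVariables false

/-!
# MIO market (architect helper38), wave 3, package MIO-NUMMINUS (helper28):
the numerical hypotheses `Num` for the even-dimensional orthogonal case of minus type.

Method: with `q = r + 1`, `q ^ (k - 1) = r * M + 1` every quantity is a polynomial in `r, M`; each inequality
`L ≤ R` is proved as `L + D = R` (`ring`) for an explicit polynomial `D` with non-negative coefficients in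
the shifted variables (`r = a + 3`, `M = b + r + 2`, ...), generated by a script.
-/

namespace Cfsg.Agent.Lib.Helper28_MIO_NUMMINUS

open Cfsg.Agent.Lib.Helper38_MIODefs

/-- The arithmetic core in the variables `r = q - 1` and `M = (q ^ (k - 1) - 1) / (q - 1)`. -/
theorem core (r M κ p d : ℕ) (hr : 3 ≤ r) (hM : r + 2 ≤ M)
    (hpκ : (r = 2 * κ ∧ ((5 ≤ p ∧ 4 ≤ r) ∨ (3 ≤ p ∧ 8 ≤ r))) ∨ (κ = r ∧ 2 ≤ p))
    (hd : (r + 1) ^ d = (r + 1) * (r + 1) * (r * M + 1) * (r * M + 1))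
    (hd1 : (r + 1) ^ (d - 1) = (r + 1) * (r * M + 1) * (r * M + 1)) :
    Num (r + 1) p d (((r + 1) * (r * M + 1) + 1) * r * M) ((r * M + 1) * ((r + 1) * (r * M + 1) + 1)) κ
      (((r + 1) * (r * M + 1) + 1) * M)
      (((r + 1) * (r + 1) * (r * M + 1) + 1) * ((r + 1) * M + 1)) := by
  refine ⟨?_, ?_, ?_, ?_, ?_, ?_, ?_, ?_⟩
  · rw [Nat.add_sub_cancel]
    ring
  · rw [hd]
    ring
  all_goals (try rw [hd]); (try rw [hd1])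
  all_goals clear hd hd1
  all_goals
    rcases hpκ with ⟨hrκ, ⟨hp, hr4⟩ | ⟨hp, hr8⟩⟩ | ⟨hκ, hp⟩
  · -- n0, case oddA
    subst hrκ
    obtain ⟨c, rfl⟩ : ∃ c, κ = c + 2 := ⟨κ - 2, by omega⟩
    obtain ⟨b, rfl⟩ : ∃ b, M = b + 2 * c + 6 := ⟨M - (2 * c + 6), by omega⟩
    obtain ⟨t, rfl⟩ : ∃ t, p = t + 5 := ⟨p - 5, by omega⟩
    refine Nat.le.intro (k := 64 * b * c^5 + 16 * b^2 * c^4 + 64 * c^6 + 736 * b * c^4 + 136 * b^2 * c^3 + 928 * c^5 + 3360 * b * c^3 + 428 * b^2 * c^2 + 5584 * c^4 + 7604 * b * c^2 + 590 * b^2 * c + 17840 * c^3 + 8518 * b * c + 300 * b^2 + 31896 * c^2 + 3770 * b + 30228 * c + 11844) ?_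
    ring
  · -- n0, case oddB
    subst hrκ
    obtain ⟨c, rfl⟩ : ∃ c, κ = c + 4 := ⟨κ - 4, by omega⟩
    obtain ⟨b, rfl⟩ : ∃ b, M = b + 2 * c + 10 := ⟨M - (2 * c + 10), by omega⟩
    obtain ⟨t, rfl⟩ : ∃ t, p = t + 3 := ⟨p - 3, by omega⟩
    refine Nat.le.intro (k := 64 * b * c^5 + 16 * b^2 * c^4 + 64 * c^6 + 1376 * b * c^4 + 264 * b^2 * c^3 + 1696 * c^5 + 11808 * b * c^3 + 1628 * b^2 * c^2 + 18704 * c^4 + 50548 * b * c^2 + 4446 * b^2 * c + 109872 * c^3 + 107926 * b * c + 4536 * b^2 + 362552 * c^2 + 91926 * b + 637108 * c + 465740) ?_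
    ring
  · -- n0, case even
    subst hκ
    obtain ⟨a, rfl⟩ : ∃ a, κ = a + 3 := ⟨κ - 3, by omega⟩
    obtain ⟨b, rfl⟩ : ∃ b, M = b + a + 5 := ⟨M - (a + 5), by omega⟩
    obtain ⟨t, rfl⟩ : ∃ t, p = t + 2 := ⟨p - 2, by omega⟩
    refine Nat.le.intro (k := a^4 * b^2 + 2 * a^5 * b + a^6 + 13 * a^3 * b^2 + 36 * a^4 * b + 23 * a^5 + 62 * a^2 * b^2 + 256 * a^3 * b + 219 * a^4 + 128 * a * b^2 + 897 * a^2 * b + 1104 * a^3 + 1543 * a * b + 3103 * a^2 + 96 * b^2 + 4599 * a + 1036 * b + 2795) ?_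
    ring
  · -- n1, case oddA
    subst hrκ
    obtain ⟨c, rfl⟩ : ∃ c, κ = c + 2 := ⟨κ - 2, by omega⟩
    obtain ⟨b, rfl⟩ : ∃ b, M = b + 2 * c + 6 := ⟨M - (2 * c + 6), by omega⟩
    obtain ⟨t, rfl⟩ : ∃ t, p = t + 5 := ⟨p - 5, by omega⟩
    refine Nat.le.intro (k := 32 * b * c^5 + 8 * b^2 * c^4 + 32 * c^6 + 336 * b * c^4 + 60 * b^2 * c^3 + 432 * c^5 + 1368 * b * c^3 + 160 * b^2 * c^2 + 2384 * c^4 + 2666 * b * c^2 + 174 * b^2 * c + 6844 * c^3 + 2426 * b * c + 60 * b^2 + 10674 * c^2 + 778 * b + 8418 * c + 2519) ?_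
    ring
  · -- n1, case oddB
    subst hrκ
    obtain ⟨c, rfl⟩ : ∃ c, κ = c + 4 := ⟨κ - 4, by omega⟩
    obtain ⟨b, rfl⟩ : ∃ b, M = b + 2 * c + 10 := ⟨M - (2 * c + 10), by omega⟩
    obtain ⟨t, rfl⟩ : ∃ t, p = t + 3 := ⟨p - 3, by omega⟩
    refine Nat.le.intro (k := 32 * b * c^5 + 8 * b^2 * c^4 + 32 * c^6 + 656 * b * c^4 + 124 * b^2 * c^3 + 816 * c^5 + 5336 * b * c^3 + 712 * b^2 * c^2 + 8624 * c^4 + 21498 * b * c^2 + 1790 * b^2 * c + 48316 * c^3 + 42818 * b * c + 1656 * b^2 + 151194 * c^2 + 33638 * b + 250234 * c + 170819) ?_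
    ring
  · -- n1, case even
    subst hκ
    obtain ⟨a, rfl⟩ : ∃ a, κ = a + 3 := ⟨κ - 3, by omega⟩
    obtain ⟨b, rfl⟩ : ∃ b, M = b + a + 5 := ⟨M - (a + 5), by omega⟩
    obtain ⟨t, rfl⟩ : ∃ t, p = t + 2 := ⟨p - 2, by omega⟩
    refine Nat.le.intro (k := a^4 * b^2 + 2 * a^5 * b + a^6 + 12 * a^3 * b^2 + 34 * a^4 * b + 22 * a^5 + 52 * a^2 * b^2 + 226 * a^3 * b + 199 * a^4 + 95 * a * b^2 + 730 * a^2 * b + 945 * a^3 + 1133 * a * b + 2474 * a^2 + 60 * b^2 + 3359 * a + 661 * b + 1819) ?_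
    ring
  · -- n2, case oddA
    subst hrκ
    obtain ⟨c, rfl⟩ : ∃ c, κ = c + 2 := ⟨κ - 2, by omega⟩
    obtain ⟨b, rfl⟩ : ∃ b, M = b + 2 * c + 6 := ⟨M - (2 * c + 6), by omega⟩
    obtain ⟨t, rfl⟩ : ∃ t, p = t + 5 := ⟨p - 5, by omega⟩
    refine Nat.le.intro (k := 32 * b * c^4 + 8 * b^2 * c^3 + 32 * c^5 + 288 * b * c^3 + 48 * b^2 * c^2 + 384 * c^4 + 956 * b * c^2 + 94 * b^2 * c + 1824 * c^3 + 1386 * b * c + 60 * b^2 + 4284 * c^2 + 738 * b + 4968 * c + 2267) ?_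
    ring
  · -- n2, case oddB
    subst hrκ
    obtain ⟨c, rfl⟩ : ∃ c, κ = c + 4 := ⟨κ - 4, by omega⟩
    obtain ⟨b, rfl⟩ : ∃ b, M = b + 2 * c + 10 := ⟨M - (2 * c + 10), by omega⟩
    obtain ⟨t, rfl⟩ : ∃ t, p = t + 3 := ⟨p - 3, by omega⟩
    refine Nat.le.intro (k := 32 * b * c^4 + 8 * b^2 * c^3 + 32 * c^5 + 544 * b * c^3 + 96 * b^2 * c^2 + 704 * c^4 + 3452 * b * c^2 + 382 * b^2 * c + 6176 * c^3 + 9690 * b * c + 504 * b^2 + 27004 * c^2 + 10150 * b + 58840 * c + 51099) ?_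
    ring
  · -- n2, case even
    subst hκ
    obtain ⟨a, rfl⟩ : ∃ a, κ = a + 3 := ⟨κ - 3, by omega⟩
    obtain ⟨b, rfl⟩ : ∃ b, M = b + a + 5 := ⟨M - (a + 5), by omega⟩
    obtain ⟨t, rfl⟩ : ∃ t, p = t + 2 := ⟨p - 2, by omega⟩
    refine Nat.le.intro (k := a^3 * b^2 + 2 * a^4 * b + a^5 + 9 * a^2 * b^2 + 28 * a^3 * b + 19 * a^4 + 26 * a * b^2 + 143 * a^2 * b + 142 * a^3 + 315 * a * b + 521 * a^2 + 24 * b^2 + 935 * a + 250 * b + 649) ?_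
    ring
  · -- n3, case oddA
    subst hrκ
    obtain ⟨c, rfl⟩ : ∃ c, κ = c + 2 := ⟨κ - 2, by omega⟩
    obtain ⟨b, rfl⟩ : ∃ b, M = b + 2 * c + 6 := ⟨M - (2 * c + 6), by omega⟩
    obtain ⟨t, rfl⟩ : ∃ t, p = t + 5 := ⟨p - 5, by omega⟩
    refine Nat.le.intro (k := 32 * b * c^5 * t + 8 * b^2 * c^4 * t + 32 * c^6 * t + 368 * b * c^4 * t + 96 * b * c^5 + 68 * b^2 * c^3 * t + 24 * b^2 * c^4 + 464 * c^5 * t + 96 * c^6 + 1688 * b * c^3 * t + 1040 * b * c^4 + 216 * b^2 * c^2 * t + 188 * b^2 * c^3 + 2800 * c^4 * t + 1328 * c^5 + 3862 * b * c^2 * t + 4440 * b * c^3 + 304 * b^2 * c * t + 540 * b^2 * c^2 + 9004 * c^3 * t + 7584 * c^4 + 4408 * b * c * t + 9314 * b * c^2 + 670 * b^2 * c + 160 * b^2 * t + 16278 * c^2 * t + 22860 * c^3 + 9558 * b * c + 2008 * b * t + 300 * b^2 + 15690 * c * t + 38286 * c^2 + 3810 * b + 33678 * c + 6300 * t + 12094) ?_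
    ring
  · -- n3, case oddB
    subst hrκ
    obtain ⟨c, rfl⟩ : ∃ c, κ = c + 4 := ⟨κ - 4, by omega⟩
    obtain ⟨b, rfl⟩ : ∃ b, M = b + 2 * c + 10 := ⟨M - (2 * c + 10), by omega⟩
    obtain ⟨t, rfl⟩ : ∃ t, p = t + 3 := ⟨p - 3, by omega⟩
    refine Nat.le.intro (k := 32 * b * c^5 * t + 8 * b^2 * c^4 * t + 32 * c^6 * t + 688 * b * c^4 * t + 32 * b * c^5 + 132 * b^2 * c^3 * t + 8 * b^2 * c^4 + 848 * c^5 * t + 32 * c^6 + 5912 * b * c^3 * t + 624 * b * c^4 + 816 * b^2 * c^2 * t + 116 * b^2 * c^3 + 9360 * c^4 * t + 784 * c^5 + 25382 * b * c^2 * t + 4776 * b * c^3 + 2240 * b^2 * c * t + 612 * b^2 * c^2 + 55084 * c^3 * t + 7904 * c^4 + 54448 * b * c * t + 17830 * b * c^2 + 1374 * b^2 * c + 2304 * b^2 * t + 182302 * c^2 * t + 41844 * c^3 + 32158 * b * c + 46688 * b * t + 1080 * b^2 + 321714 * c * t + 122138 * c^2 + 22038 * b + 185074 * c + 236520 * t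 + 112418) ?_
    ring
  · -- n3, case even
    subst hκ
    obtain ⟨a, rfl⟩ : ∃ a, κ = a + 3 := ⟨κ - 3, by omega⟩
    obtain ⟨b, rfl⟩ : ∃ b, M = b + a + 5 := ⟨M - (a + 5), by omega⟩
    obtain ⟨t, rfl⟩ : ∃ t, p = t + 2 := ⟨p - 2, by omega⟩
    refine Nat.le.intro (k := a^4 * b^2 * t + 2 * a^5 * b * t + a^6 * t + 13 * a^3 * b^2 * t + 36 * a^4 * b * t + a^4 * b^2 + 2 * a^5 * b + 23 * a^5 * t + a^6 + 63 * a^2 * b^2 * t + 258 * a^3 * b * t + 11 * a^3 * b^2 + 32 * a^4 * b + 220 * a^4 * t + 21 * a^5 + 135 * a * b^2 * t + 921 * a^2 * b * t + 42 * a^2 * b^2 + 196 * a^3 * b + 1121 * a^3 * t + 179 * a^4 + 1638 * a * b * t + 62 * a * b^2 + 563 * a^2 * b + 3211 * a^2 * t + 786 * a^3 + 108 * b^2 * t + 723 * a * b + 4904 * a * t + 1845 * a^2 + 1161 * b * t + 24 * b^2 + 2119 * a + 286 * b + 3120 * t + 843) ?_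
    ring
  · -- n4, case oddA
    subst hrκ
    obtain ⟨c, rfl⟩ : ∃ c, κ = c + 2 := ⟨κ - 2, by omega⟩
    obtain ⟨b, rfl⟩ : ∃ b, M = b + 2 * c + 6 := ⟨M - (2 * c + 6), by omega⟩
    obtain ⟨t, rfl⟩ : ∃ t, p = t + 5 := ⟨p - 5, by omega⟩
    refine Nat.le.intro (k := 2048 * b * c^9 + 1536 * b^2 * c^8 + 512 * b^3 * c^7 + 64 * b^4 * c^6 + 1024 * c^10 + 45056 * b * c^8 + 29184 * b^2 * c^7 + 8192 * b^3 * c^6 + 832 * b^4 * c^5 + 25600 * c^9 + 440320 * b * c^7 + 242304 * b^2 * c^6 + 56064 * b^3 * c^5 + 4496 * b^4 * c^4 + 288000 * c^8 + 2508992 * b * c^6 + 1148256 * b^2 * c^5 + 212752 * b^3 * c^4 + 12928 * b^4 * c^3 + 1920128 * c^7 + 9186656 * b * c^5 + 3397072 * b^2 * c^4 + 483496 * b^3 * c^3 + 20864 * b^4 * c^2 + 8402112 * c^6 + 22415200 * b * c^4 + 6424760 * b^2 * c^3 + 658032 * b^3 * c^2 + 17920 * b^4 * c + 25214816 * c^5 + 36446000 * b * c^3 + 7585500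 * b^2 * c^2 + 496608 * b^3 * c + 6400 * b^4 + 52557168 * c^4 + 38077508 * b * c^2 + 5111500 * b^2 * c + 160320 * b^3 + 75130680 * c^3 + 23193786 * b * c + 1505000 * b^2 + 70488792 * c^2 + 6275040 * b + 39191706 * c + 9804938) ?_
    ring
  · -- n4, case oddB
    subst hrκ
    obtain ⟨c, rfl⟩ : ∃ c, κ = c + 4 := ⟨κ - 4, by omega⟩
    obtain ⟨b, rfl⟩ : ∃ b, M = b + 2 * c + 10 := ⟨M - (2 * c + 10), by omega⟩
    obtain ⟨t, rfl⟩ : ∃ t, p = t + 3 := ⟨p - 3, by omega⟩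
    refine Nat.le.intro (k := 2048 * b * c^9 + 1536 * b^2 * c^8 + 512 * b^3 * c^7 + 64 * b^4 * c^6 + 1024 * c^10 + 81920 * b * c^8 + 53760 * b^2 * c^7 + 15360 * b^3 * c^6 + 1600 * b^4 * c^5 + 46080 * c^9 + 1456128 * b * c^7 + 822912 * b^2 * c^6 + 197376 * b^3 * c^5 + 16656 * b^4 * c^4 + 933120 * c^8 + 15096000 * b * c^6 + 7195488 * b^2 * c^5 + 1408272 * b^3 * c^4 + 92416 * b^4 * c^3 + 11197568 * c^7 + 100595296 * b * c^5 + 39309712 * b^2 * c^4 + 6025512 * b^3 * c^3 + 288256 * b^4 * c^2 + 88183744 * c^6 + 446831136 * b * c^4 + 137395768 * b^2 * c^3 + 15460320 * b^3 * c^2 + 479232 * b^4 * c + 476222048 * c^5 + 1323002160 * b * c^3 + 300041388 * b^2 * c^2 + 22026112 * b^3 * c + 331776 * b^4 + 1786009648 * c^4 + 2517881444 * b * c^2 + 374287068 * b^2 * c + 13441536 * b^3 + 4593240504 * c^3 + 2794920458 * b * c + 204201648 * b^2 + 7752520360 * c^2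 + 1378676196 * b + 7754289818 * c + 3490373086) ?_
    ring
  · -- n4, case even
    subst hκ
    obtain ⟨a, rfl⟩ : ∃ a, κ = a + 3 := ⟨κ - 3, by omega⟩
    obtain ⟨b, rfl⟩ : ∃ b, M = b + a + 5 := ⟨M - (a + 5), by omega⟩
    obtain ⟨t, rfl⟩ : ∃ t, p = t + 2 := ⟨p - 2, by omega⟩
    refine Nat.le.intro (k := a^6 * b^4 + 4 * a^7 * b^3 + 6 * a^8 * b^2 + 4 * a^9 * b + a^10 + 20 * a^5 * b^4 + 100 * a^6 * b^3 + 180 * a^7 * b^2 + 140 * a^8 * b + 40 * a^9 + 166 * a^4 * b^4 + 1068 * a^5 * b^3 + 2358 * a^6 * b^2 + 2176 * a^7 * b + 720 * a^8 + 732 * a^3 * b^4 + 6317 * a^4 * b^3 + 17619 * a^5 * b^2 + 19715 * a^6 * b + 7681 * a^7 + 1809 * a^2 * b^4 + 22349 * a^3 * b^3 + 82132 * a^4 * b^2 + 114753 * a^5 * b + 53786 * a^6 + 2376 * a * b^4 + 47295 * a^2 * b^3 + 244581 * a^3 * b^2 + 444996 * a^4 * b + 258334 * a^5 + 55431 * a * b^3 + 454332 * a^2 * b^2 + 1149600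 * a^3 * b + 861878 * a^4 + 1296 * b^4 + 481264 * a * b^2 + 1907586 * a^2 * b + 1972128 * a^3 + 27756 * b^3 + 1844494 * a * b + 2961470 * a^2 + 222528 * b^2 + 2634734 * a + 791576 * b + 1054166) ?_
    ring
  · -- n5, case oddA
    subst hrκ
    obtain ⟨c, rfl⟩ : ∃ c, κ = c + 2 := ⟨κ - 2, by omega⟩
    obtain ⟨b, rfl⟩ : ∃ b, M = b + 2 * c + 6 := ⟨M - (2 * c + 6), by omega⟩
    obtain ⟨t, rfl⟩ : ∃ t, p = t + 5 := ⟨p - 5, by omega⟩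
    refine Nat.le.intro (k := 32 * b * c^4 + 8 * b^2 * c^3 + 32 * c^5 + 280 * b * c^3 + 48 * b^2 * c^2 + 368 * c^4 + 904 * b * c^2 + 94 * b^2 * c + 1672 * c^3 + 1274 * b * c + 60 * b^2 + 3744 * c^2 + 658 * b + 4116 * c + 1762) ?_
    ring
  · -- n5, case oddB
    subst hrκ
    obtain ⟨c, rfl⟩ : ∃ c, κ = c + 4 := ⟨κ - 4, by omega⟩
    obtain ⟨b, rfl⟩ : ∃ b, M = b + 2 * c + 10 := ⟨M - (2 * c + 10), by omega⟩
    obtain ⟨t, rfl⟩ : ∃ t, p = t + 3 := ⟨p - 3, by omega⟩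
    refine Nat.le.intro (k := 32 * b * c^4 + 8 * b^2 * c^3 + 32 * c^5 + 536 * b * c^3 + 96 * b^2 * c^2 + 688 * c^4 + 3352 * b * c^2 + 382 * b^2 * c + 5896 * c^3 + 9274 * b * c + 504 * b^2 + 25168 * c^2 + 9574 * b + 53492 * c + 45258) ?_
    ring
  · -- n5, case even
    subst hκ
    obtain ⟨a, rfl⟩ : ∃ a, κ = a + 3 := ⟨κ - 3, by omega⟩
    obtain ⟨b, rfl⟩ : ∃ b, M = b + a + 5 := ⟨M - (a + 5), by omega⟩
    obtain ⟨t, rfl⟩ : ∃ t, p = t + 2 := ⟨p - 2, by omega⟩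
    refine Nat.le.intro (k := a^3 * b^2 + 2 * a^4 * b + a^5 + 9 * a^2 * b^2 + 27 * a^3 * b + 18 * a^4 + 26 * a * b^2 + 133 * a^2 * b + 127 * a^3 + 282 * a * b + 437 * a^2 + 24 * b^2 + 726 * a + 214 * b + 453) ?_
    ring

theorem num_minus (q p k κ : ℕ) (hq : 4 ≤ q) (hk : 3 ≤ k)
    (hpκ : (Odd q ∧ κ = (q - 1) / 2 ∧ (5 ≤ p ∨ (3 ≤ p ∧ 9 ≤ q))) ∨ (Even q ∧ κ = q - 1 ∧ 2 ≤ p)) :
    Num q p (2 * k) (q ^ (2 * k - 1) - q ^ k + q ^ (k - 1) - 1) (q ^ (2 * k - 1) + q ^ (k - 1)) κ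
      ((q ^ (2 * k - 1) - q ^ k + q ^ (k - 1) - 1) / (q - 1))
      ((q ^ (k + 1) + 1) * (q ^ k - 1) / (q - 1)) := by
  obtain ⟨r, rfl⟩ : ∃ r, q = r + 1 := ⟨q - 1, by omega⟩
  obtain ⟨j, rfl⟩ : ∃ j, k = j + 3 := ⟨k - 3, by omega⟩
  have hr : 3 ≤ r := by omega
  obtain ⟨M, hM⟩ : ∃ M, (r + 1) ^ (j + 2) = r * M + 1 := by
    have h := Nat.sub_dvd_pow_sub_pow (r + 1) 1 (j + 2)
    rw [one_pow, Nat.add_sub_cancel] at h
    obtain ⟨M, hM⟩ := h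
    refine ⟨M, ?_⟩
    have : 1 ≤ (r + 1) ^ (j + 2) := Nat.one_le_pow _ _ (by omega)
    omega
  have hMge : r + 2 ≤ M := by
    have h1 : (r + 1) ^ 2 ≤ (r + 1) ^ (j + 2) := Nat.pow_le_pow_right (by omega) (by omega)
    rw [hM] at h1
    have h2 : (r + 1) ^ 2 = r * (r + 2) + 1 := by ring
    rw [h2] at h1
    have h3 : r * (r + 2) ≤ r * M := by omega
    exact Nat.le_of_mul_le_mul_left h3 (by omega)
  have e1 : (r + 1) ^ (j + 3 - 1) = r * M + 1 := by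
    rw [show j + 3 - 1 = j + 2 by omega, hM]
  have e2 : (r + 1) ^ (j + 3) = (r + 1) * (r * M + 1) := by
    rw [pow_succ, hM]; ring
  have e3 : (r + 1) ^ (j + 3 + 1) = (r + 1) * (r + 1) * (r * M + 1) := by
    rw [pow_succ, e2]; ring
  have e4 : (r + 1) ^ (2 * (j + 3) - 1) = (r + 1) * (r * M + 1) * (r * M + 1) := by
    rw [show 2 * (j + 3) - 1 = (j + 2) + (j + 2) + 1 by omega, pow_succ, pow_add, hM]; ring
  have e5 : (r + 1) ^ (2 * (j + 3)) = (r + 1) * (r + 1) * (r * M + 1) * (r * M + 1) := by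
    rw [show 2 * (j + 3) = (j + 2) + (j + 2) + 1 + 1 by omega, pow_succ, pow_succ, pow_add, hM]
    ring
  rw [e1, e2, e3, e4, Nat.add_sub_cancel]
  have hs : (r + 1) * (r * M + 1) * (r * M + 1) - (r + 1) * (r * M + 1) + (r * M + 1) - 1 =
      ((r + 1) * (r * M + 1) + 1) * r * M := by
    have : (r + 1) * (r * M + 1) * (r * M + 1) =
        (r + 1) * (r * M + 1) + (r + 1) * (r * M + 1) * (r * M) := by ring
    rw [this, Nat.add_sub_cancel_left, Nat.add_sub_assoc (by omega), Nat.add_sub_cancel]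
    ring
  have hN : (r + 1) * (r * M + 1) - 1 = r * ((r + 1) * M + 1) := by
    have : (r + 1) * (r * M + 1) = r * ((r + 1) * M + 1) + 1 := by ring
    rw [this, Nat.add_sub_cancel]
  rw [hs, hN]
  have hdiv1 : ((r + 1) * (r * M + 1) + 1) * r * M / r = ((r + 1) * (r * M + 1) + 1) * M := by
    apply Nat.div_eq_of_eq_mul_left (by omega); ring
  have hdiv2 : ((r + 1) * (r + 1) * (r * M + 1) + 1) * (r * ((r + 1) * M + 1)) / r =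
      ((r + 1) * (r + 1) * (r * M + 1) + 1) * ((r + 1) * M + 1) := by
    apply Nat.div_eq_of_eq_mul_left (by omega); ring
  rw [hdiv1, hdiv2]
  have hℓ : (r + 1) * (r * M + 1) * (r * M + 1) + (r * M + 1) =
      (r * M + 1) * ((r + 1) * (r * M + 1) + 1) := by ring
  rw [hℓ]
  apply core r M κ p (2 * (j + 3)) hr hMge ?_ e5 e4
  rcases hpκ with ⟨hodd, hκ, hp⟩ | ⟨heven, hκ, hp⟩
  · left
    obtain ⟨u, hu⟩ := hodd
    refine ⟨by omega, ?_⟩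
    rcases hp with h5 | ⟨h3, h9⟩
    · left; exact ⟨h5, by omega⟩
    · right; exact ⟨h3, by omega⟩
  · right
    exact ⟨by omega, hp⟩

end Cfsg.Agent.Lib.Helper28_MIO_NUMMINUS
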