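import Mathlib
import Cfsg.Agent.Lib.Helper38_MIODefs

set_option autoImplicit false
set_option linter.unusedVariables false

/-!
# MIO market (architect helper38), wave 3, package MIO-NUMPLUS (helper28):
the numerical hypotheses `Num` for the even-dimensional orthogonal case of plus type.

Method: with `q = r + 1`, `q ^ (k - 1) = r * M + 1` every quantity is a polynomial in `r, M`; each inequality
`L ≤ R` is proved as `L + D = R` (`ring`) for an explicit polynomial `D` with non-negative coefficients in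
the shifted variables (`r = a + 3`, `M = b + r + 2`, ...), generated by a script.
-/

namespace Cfsg.Agent.Lib.Helper28_MIO_NUMPLUS

open Cfsg.Agent.Lib.Helper38_MIODefs

/-- The arithmetic core in the variables `r = q - 1` and `M = (q ^ (k - 1) - 1) / (q - 1)`. -/
theorem core (r M κ p d : ℕ) (hr : 3 ≤ r) (hM : r + 2 ≤ M)
    (hpκ : (r = 2 * κ ∧ ((5 ≤ p ∧ 4 ≤ r) ∨ (3 ≤ p ∧ 8 ≤ r))) ∨ (κ = r ∧ 2 ≤ p))
    (hd : (r + 1) ^ d = (r + 1) * (r + 1) * (r * M + 1) * (r * M + 1))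
    (hd1 : (r + 1) ^ (d - 1) = (r + 1) * (r * M + 1) * (r * M + 1)) :
    Num (r + 1) p d ((r * M + 1 + 1) * r * ((r + 1) * M + 1)) ((r * M + 1) * r * ((r + 1) * M + 1)) κ
      ((r * M + 1 + 1) * ((r + 1) * M + 1))
      (((r + 1) * ((r + 1) * M + 1) + 1) * ((r + 1) * (r * M + 1) + 1)) := by
  refine ⟨?_, ?_, ?_, ?_, ?_, ?_, ?_, ?_⟩
  · rw [Nat.add_sub_cancel]
    ring
  · rw [hd]
    ring
  all_goals (try rw [hd]); (try rw [hd1])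
  all_goals clear hd hd1
  all_goals
    rcases hpκ with ⟨hrκ, ⟨hp, hr4⟩ | ⟨hp, hr8⟩⟩ | ⟨hκ, hp⟩
  · -- n0, case oddA
    subst hrκ
    obtain ⟨c, rfl⟩ : ∃ c, κ = c + 2 := ⟨κ - 2, by omega⟩
    obtain ⟨b, rfl⟩ : ∃ b, M = b + 2 * c + 6 := ⟨M - (2 * c + 6), by omega⟩
    obtain ⟨t, rfl⟩ : ∃ t, p = t + 5 := ⟨p - 5, by omega⟩
    refine Nat.le.intro (k := 64 * b * c^5 + 16 * b^2 * c^4 + 64 * c^6 + 736 * b * c^4 + 136 * b^2 * c^3 + 928 * c^5 + 3360 * b * c^3 + 428 * b^2 * c^2 + 5584 * c^4 + 7596 * b * c^2 + 590 * b^2 * c + 17824 * c^3 + 8482 * b * c + 300 * b^2 + 31776 * c^2 + 3730 * b + 29928 * c + 11594) ?_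
    ring
  · -- n0, case oddB
    subst hrκ
    obtain ⟨c, rfl⟩ : ∃ c, κ = c + 4 := ⟨κ - 4, by omega⟩
    obtain ⟨b, rfl⟩ : ∃ b, M = b + 2 * c + 10 := ⟨M - (2 * c + 10), by omega⟩
    obtain ⟨t, rfl⟩ : ∃ t, p = t + 3 := ⟨p - 3, by omega⟩
    refine Nat.le.intro (k := 64 * b * c^5 + 16 * b^2 * c^4 + 64 * c^6 + 1376 * b * c^4 + 264 * b^2 * c^3 + 1696 * c^5 + 11808 * b * c^3 + 1628 * b^2 * c^2 + 18704 * c^4 + 50540 * b * c^2 + 4446 * b^2 * c + 109856 * c^3 + 107858 * b * c + 4536 * b^2 + 362336 * c^2 + 91782 * b + 636136 * c + 464282) ?_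
    ring
  · -- n0, case even
    subst hκ
    obtain ⟨a, rfl⟩ : ∃ a, κ = a + 3 := ⟨κ - 3, by omega⟩
    obtain ⟨b, rfl⟩ : ∃ b, M = b + a + 5 := ⟨M - (a + 5), by omega⟩
    obtain ⟨t, rfl⟩ : ∃ t, p = t + 2 := ⟨p - 2, by omega⟩
    refine Nat.le.intro (k := a^4 * b^2 + 2 * a^5 * b + a^6 + 13 * a^3 * b^2 + 36 * a^4 * b + 23 * a^5 + 62 * a^2 * b^2 + 256 * a^3 * b + 219 * a^4 + 128 * a * b^2 + 895 * a^2 * b + 1102 * a^3 + 1529 * a * b + 3079 * a^2 + 96 * b^2 + 4503 * a + 1012 * b + 2667) ?_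
    ring
  · -- n1, case oddA
    subst hrκ
    obtain ⟨c, rfl⟩ : ∃ c, κ = c + 2 := ⟨κ - 2, by omega⟩
    obtain ⟨b, rfl⟩ : ∃ b, M = b + 2 * c + 6 := ⟨M - (2 * c + 6), by omega⟩
    obtain ⟨t, rfl⟩ : ∃ t, p = t + 5 := ⟨p - 5, by omega⟩
    refine Nat.le.intro (k := 32 * b * c^5 + 8 * b^2 * c^4 + 32 * c^6 + 336 * b * c^4 + 60 * b^2 * c^3 + 432 * c^5 + 1368 * b * c^3 + 160 * b^2 * c^2 + 2384 * c^4 + 2654 * b * c^2 + 174 * b^2 * c + 6820 * c^3 + 2374 * b * c + 60 * b^2 + 10498 * c^2 + 722 * b + 7988 * c + 2169) ?_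
    ring
  · -- n1, case oddB
    subst hrκ
    obtain ⟨c, rfl⟩ : ∃ c, κ = c + 4 := ⟨κ - 4, by omega⟩
    obtain ⟨b, rfl⟩ : ∃ b, M = b + 2 * c + 10 := ⟨M - (2 * c + 10), by omega⟩
    obtain ⟨t, rfl⟩ : ∃ t, p = t + 3 := ⟨p - 3, by omega⟩
    refine Nat.le.intro (k := 32 * b * c^5 + 8 * b^2 * c^4 + 32 * c^6 + 656 * b * c^4 + 124 * b^2 * c^3 + 816 * c^5 + 5336 * b * c^3 + 712 * b^2 * c^2 + 8624 * c^4 + 21486 * b * c^2 + 1790 * b^2 * c + 48292 * c^3 + 42718 * b * c + 1656 * b^2 + 150874 * c^2 + 33430 * b + 248812 * c + 168713) ?_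
    ring
  · -- n1, case even
    subst hκ
    obtain ⟨a, rfl⟩ : ∃ a, κ = a + 3 := ⟨κ - 3, by omega⟩
    obtain ⟨b, rfl⟩ : ∃ b, M = b + a + 5 := ⟨M - (a + 5), by omega⟩
    obtain ⟨t, rfl⟩ : ∃ t, p = t + 2 := ⟨p - 2, by omega⟩
    refine Nat.le.intro (k := a^4 * b^2 + 2 * a^5 * b + a^6 + 12 * a^3 * b^2 + 34 * a^4 * b + 22 * a^5 + 52 * a^2 * b^2 + 226 * a^3 * b + 199 * a^4 + 95 * a * b^2 + 726 * a^2 * b + 941 * a^3 + 1107 * a * b + 2428 * a^2 + 60 * b^2 + 3183 * a + 619 * b + 1595) ?_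
    ring
  · -- n2, case oddA
    subst hrκ
    obtain ⟨c, rfl⟩ : ∃ c, κ = c + 2 := ⟨κ - 2, by omega⟩
    obtain ⟨b, rfl⟩ : ∃ b, M = b + 2 * c + 6 := ⟨M - (2 * c + 6), by omega⟩
    obtain ⟨t, rfl⟩ : ∃ t, p = t + 5 := ⟨p - 5, by omega⟩
    refine Nat.le.intro (k := 32 * b * c^4 + 8 * b^2 * c^3 + 32 * c^5 + 288 * b * c^3 + 48 * b^2 * c^2 + 384 * c^4 + 964 * b * c^2 + 94 * b^2 * c + 1840 * c^3 + 1414 * b * c + 60 * b^2 + 4388 * c^2 + 762 * b + 5188 * c + 2417) ?_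
    ring
  · -- n2, case oddB
    subst hrκ
    obtain ⟨c, rfl⟩ : ∃ c, κ = c + 4 := ⟨κ - 4, by omega⟩
    obtain ⟨b, rfl⟩ : ∃ b, M = b + 2 * c + 10 := ⟨M - (2 * c + 10), by omega⟩
    obtain ⟨t, rfl⟩ : ∃ t, p = t + 3 := ⟨p - 3, by omega⟩
    refine Nat.le.intro (k := 32 * b * c^4 + 8 * b^2 * c^3 + 32 * c^5 + 544 * b * c^3 + 96 * b^2 * c^2 + 704 * c^4 + 3460 * b * c^2 + 382 * b^2 * c + 6192 * c^3 + 9750 * b * c + 504 * b^2 + 27204 * c^2 + 10262 * b + 59668 * c + 52233) ?_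
    ring
  · -- n2, case even
    subst hκ
    obtain ⟨a, rfl⟩ : ∃ a, κ = a + 3 := ⟨κ - 3, by omega⟩
    obtain ⟨b, rfl⟩ : ∃ b, M = b + a + 5 := ⟨M - (a + 5), by omega⟩
    obtain ⟨t, rfl⟩ : ∃ t, p = t + 2 := ⟨p - 2, by omega⟩
    refine Nat.le.intro (k := a^3 * b^2 + 2 * a^4 * b + a^5 + 9 * a^2 * b^2 + 28 * a^3 * b + 19 * a^4 + 26 * a * b^2 + 145 * a^2 * b + 144 * a^3 + 325 * a * b + 541 * a^2 + 24 * b^2 + 999 * a + 262 * b + 713) ?_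
    ring
  · -- n3, case oddA
    subst hrκ
    obtain ⟨c, rfl⟩ : ∃ c, κ = c + 2 := ⟨κ - 2, by omega⟩
    obtain ⟨b, rfl⟩ : ∃ b, M = b + 2 * c + 6 := ⟨M - (2 * c + 6), by omega⟩
    obtain ⟨t, rfl⟩ : ∃ t, p = t + 5 := ⟨p - 5, by omega⟩
    refine Nat.le.intro (k := 32 * b * c^5 * t + 8 * b^2 * c^4 * t + 32 * c^6 * t + 368 * b * c^4 * t + 96 * b * c^5 + 68 * b^2 * c^3 * t + 24 * b^2 * c^4 + 464 * c^5 * t + 96 * c^6 + 1688 * b * c^3 * t + 1040 * b * c^4 + 216 * b^2 * c^2 * t + 188 * b^2 * c^3 + 2800 * c^4 * t + 1328 * c^5 + 3858 * b * c^2 * t + 4440 * b * c^3 + 304 * b^2 * c * t + 540 * b^2 * c^2 + 8996 * c^3 * t + 7584 * c^4 + 4392 * b * c * t + 9286 * b * c^2 + 670 * b^2 * c + 160 * b^2 * t + 16222 * c^2 * t + 22804 * c^3 + 9442 * b * c + 1992 * b * t + 300 * b^2 + 15560 * c * t + 37886 * c^2 + 3690 * b + 32728 * c + 6200 * t + 11344) ?_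
    ring
  · -- n3, case oddB
    subst hrκ
    obtain ⟨c, rfl⟩ : ∃ c, κ = c + 4 := ⟨κ - 4, by omega⟩
    obtain ⟨b, rfl⟩ : ∃ b, M = b + 2 * c + 10 := ⟨M - (2 * c + 10), by omega⟩
    obtain ⟨t, rfl⟩ : ∃ t, p = t + 3 := ⟨p - 3, by omega⟩
    refine Nat.le.intro (k := 32 * b * c^5 * t + 8 * b^2 * c^4 * t + 32 * c^6 * t + 688 * b * c^4 * t + 32 * b * c^5 + 132 * b^2 * c^3 * t + 8 * b^2 * c^4 + 848 * c^5 * t + 32 * c^6 + 5912 * b * c^3 * t + 624 * b * c^4 + 816 * b^2 * c^2 * t + 116 * b^2 * c^3 + 9360 * c^4 * t + 784 * c^5 + 25378 * b * c^2 * t + 4776 * b * c^3 + 2240 * b^2 * c * t + 612 * b^2 * c^2 + 55076 * c^3 * t + 7904 * c^4 + 54416 * b * c * t + 17810 * b * c^2 + 1374 * b^2 * c + 2304 * b^2 * t + 182198 * c^2 * t + 41804 * c^3 + 31994 * b * c + 46624 * b * t + 1080 * b^2 + 321264 * c * t + 121610 * c^2 + 21702 * b + 182752 * c + 235872 * t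 + 109016) ?_
    ring
  · -- n3, case even
    subst hκ
    obtain ⟨a, rfl⟩ : ∃ a, κ = a + 3 := ⟨κ - 3, by omega⟩
    obtain ⟨b, rfl⟩ : ∃ b, M = b + a + 5 := ⟨M - (a + 5), by omega⟩
    obtain ⟨t, rfl⟩ : ∃ t, p = t + 2 := ⟨p - 2, by omega⟩
    refine Nat.le.intro (k := a^4 * b^2 * t + 2 * a^5 * b * t + a^6 * t + 13 * a^3 * b^2 * t + 36 * a^4 * b * t + a^4 * b^2 + 2 * a^5 * b + 23 * a^5 * t + a^6 + 63 * a^2 * b^2 * t + 258 * a^3 * b * t + 11 * a^3 * b^2 + 32 * a^4 * b + 220 * a^4 * t + 21 * a^5 + 135 * a * b^2 * t + 919 * a^2 * b * t + 42 * a^2 * b^2 + 196 * a^3 * b + 1119 * a^3 * t + 179 * a^4 + 1626 * a * b * t + 62 * a * b^2 + 557 * a^2 * b + 3189 * a^2 * t + 780 * a^3 + 108 * b^2 * t + 685 * a * b + 4824 * a * t + 1777 * a^2 + 1143 * b * t + 24 * b^2 + 1863 * a + 226 * b + 3024 * t + 523) ?_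
    ring
  · -- n4, case oddA
    subst hrκ
    obtain ⟨c, rfl⟩ : ∃ c, κ = c + 2 := ⟨κ - 2, by omega⟩
    obtain ⟨b, rfl⟩ : ∃ b, M = b + 2 * c + 6 := ⟨M - (2 * c + 6), by omega⟩
    obtain ⟨t, rfl⟩ : ∃ t, p = t + 5 := ⟨p - 5, by omega⟩
    refine Nat.le.intro (k := 2048 * b * c^9 + 1536 * b^2 * c^8 + 512 * b^3 * c^7 + 64 * b^4 * c^6 + 1024 * c^10 + 45056 * b * c^8 + 29184 * b^2 * c^7 + 8192 * b^3 * c^6 + 832 * b^4 * c^5 + 25600 * c^9 + 440320 * b * c^7 + 242304 * b^2 * c^6 + 56064 * b^3 * c^5 + 4496 * b^4 * c^4 + 288000 * c^8 + 2508608 * b * c^6 + 1148064 * b^2 * c^5 + 212720 * b^3 * c^4 + 12928 * b^4 * c^3 + 1919872 * c^7 + 9181088 * b * c^5 + 3394864 * b^2 * c^4 + 483224 * b^3 * c^3 + 20864 * b^4 * c^2 + 8397632 * c^6 + 22381600 * b * c^4 + 6414632 * b^2 * c^3 + 657168 * b^3 * c^2 + 17920 * b^4 * c + 25181216 * c^5 + 36338000 * b * c^3 + 7562340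 * b^2 * c^2 + 495392 * b^3 * c + 6400 * b^4 + 52417168 * c^4 + 37882492 * b * c^2 + 5085100 * b^2 * c + 159680 * b^3 + 74780648 * c^3 + 23006214 * b * c + 1493000 * b^2 + 69963552 * c^2 + 6199960 * b + 38753606 * c + 9648188) ?_
    ring
  · -- n4, case oddB
    subst hrκ
    obtain ⟨c, rfl⟩ : ∃ c, κ = c + 4 := ⟨κ - 4, by omega⟩
    obtain ⟨b, rfl⟩ : ∃ b, M = b + 2 * c + 10 := ⟨M - (2 * c + 10), by omega⟩
    obtain ⟨t, rfl⟩ : ∃ t, p = t + 3 := ⟨p - 3, by omega⟩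
    refine Nat.le.intro (k := 2048 * b * c^9 + 1536 * b^2 * c^8 + 512 * b^3 * c^7 + 64 * b^4 * c^6 + 1024 * c^10 + 81920 * b * c^8 + 53760 * b^2 * c^7 + 15360 * b^3 * c^6 + 1600 * b^4 * c^5 + 46080 * c^9 + 1456128 * b * c^7 + 822912 * b^2 * c^6 + 197376 * b^3 * c^5 + 16656 * b^4 * c^4 + 933120 * c^8 + 15095616 * b * c^6 + 7195296 * b^2 * c^5 + 1408240 * b^3 * c^4 + 92416 * b^4 * c^3 + 11197312 * c^7 + 100585120 * b * c^5 + 39305584 * b^2 * c^4 + 6024984 * b^3 * c^3 + 288256 * b^4 * c^2 + 88175680 * c^6 + 446718816 * b * c^4 + 137360296 * b^2 * c^3 + 15457056 * b^3 * c^2 + 479232 * b^4 * c + 476113184 * c^5 + 1322341200 * b * c^3 + 299889108 * b^2 * c^2 + 22017152 * b^3 * c + 331776 * b^4 + 1785193168 * c^4 + 2515694428 * b * c^2 + 373960476 * b^2 * c + 13432320 * b^3 + 4589566312 * c^3 + 2791062454 * b * c + 203921712 * b^2 + 7742599696 * c^2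 + 1375841556 * b + 7739407526 * c + 3480804232) ?_
    ring
  · -- n4, case even
    subst hκ
    obtain ⟨a, rfl⟩ : ∃ a, κ = a + 3 := ⟨κ - 3, by omega⟩
    obtain ⟨b, rfl⟩ : ∃ b, M = b + a + 5 := ⟨M - (a + 5), by omega⟩
    obtain ⟨t, rfl⟩ : ∃ t, p = t + 2 := ⟨p - 2, by omega⟩
    refine Nat.le.intro (k := a^6 * b^4 + 4 * a^7 * b^3 + 6 * a^8 * b^2 + 4 * a^9 * b + a^10 + 20 * a^5 * b^4 + 100 * a^6 * b^3 + 180 * a^7 * b^2 + 140 * a^8 * b + 40 * a^9 + 166 * a^4 * b^4 + 1068 * a^5 * b^3 + 2358 * a^6 * b^2 + 2176 * a^7 * b + 720 * a^8 + 732 * a^3 * b^4 + 6315 * a^4 * b^3 + 17613 * a^5 * b^2 + 19709 * a^6 * b + 7679 * a^7 + 1809 * a^2 * b^4 + 22323 * a^3 * b^3 + 82024 * a^4 * b^2 + 114615 * a^5 * b + 53730 * a^6 + 2376 * a * b^4 + 47169 * a^2 * b^3 + 243807 * a^3 * b^2 + 443676 * a^4 * b + 257662 * a^5 + 55161 * a * b^3 + 451572 * a^2 * b^2 + 1142880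 * a^3 * b + 857398 * a^4 + 1296 * b^4 + 476368 * a * b^2 + 1888382 * a^2 * b + 1954204 * a^3 + 27540 * b^3 + 1815282 * a * b + 2918414 * a^2 + 219072 * b^2 + 2577198 * a + 773096 * b + 1021142) ?_
    ring
  · -- n5, case oddA
    subst hrκ
    obtain ⟨c, rfl⟩ : ∃ c, κ = c + 2 := ⟨κ - 2, by omega⟩
    obtain ⟨b, rfl⟩ : ∃ b, M = b + 2 * c + 6 := ⟨M - (2 * c + 6), by omega⟩
    obtain ⟨t, rfl⟩ : ∃ t, p = t + 5 := ⟨p - 5, by omega⟩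
    refine Nat.le.intro (k := 32 * b * c^4 + 8 * b^2 * c^3 + 32 * c^5 + 296 * b * c^3 + 48 * b^2 * c^2 + 400 * c^4 + 1016 * b * c^2 + 94 * b^2 * c + 1992 * c^3 + 1526 * b * c + 60 * b^2 + 4928 * c^2 + 842 * b + 6036 * c + 2912) ?_
    ring
  · -- n5, case oddB
    subst hrκ
    obtain ⟨c, rfl⟩ : ∃ c, κ = c + 4 := ⟨κ - 4, by omega⟩
    obtain ⟨b, rfl⟩ : ∃ b, M = b + 2 * c + 10 := ⟨M - (2 * c + 10), by omega⟩
    obtain ⟨t, rfl⟩ : ∃ t, p = t + 3 := ⟨p - 3, by omega⟩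
    refine Nat.le.intro (k := 32 * b * c^4 + 8 * b^2 * c^3 + 32 * c^5 + 552 * b * c^3 + 96 * b^2 * c^2 + 720 * c^4 + 3560 * b * c^2 + 382 * b^2 * c + 6472 * c^3 + 10166 * b * c + 504 * b^2 + 29040 * c^2 + 10838 * b + 65012 * c + 58056) ?_
    ring
  · -- n5, case even
    subst hκ
    obtain ⟨a, rfl⟩ : ∃ a, κ = a + 3 := ⟨κ - 3, by omega⟩
    obtain ⟨b, rfl⟩ : ∃ b, M = b + a + 5 := ⟨M - (a + 5), by omega⟩
    obtain ⟨t, rfl⟩ : ∃ t, p = t + 2 := ⟨p - 2, by omega⟩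
    refine Nat.le.intro (k := a^3 * b^2 + 2 * a^4 * b + a^5 + 9 * a^2 * b^2 + 29 * a^3 * b + 20 * a^4 + 26 * a * b^2 + 155 * a^2 * b + 159 * a^3 + 358 * a * b + 625 * a^2 + 24 * b^2 + 1206 * a + 298 * b + 901) ?_
    ring

theorem num_plus (q p k κ : ℕ) (hq : 4 ≤ q) (hk : 3 ≤ k)
    (hpκ : (Odd q ∧ κ = (q - 1) / 2 ∧ (5 ≤ p ∨ (3 ≤ p ∧ 9 ≤ q))) ∨ (Even q ∧ κ = q - 1 ∧ 2 ≤ p)) :
    Num q p (2 * k) (q ^ (2 * k - 1) + q ^ k - q ^ (k - 1) - 1) (q ^ (2 * k - 1) - q ^ (k - 1)) κ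
      ((q ^ (2 * k - 1) + q ^ k - q ^ (k - 1) - 1) / (q - 1))
      ((q ^ (k + 1) - 1) * (q ^ k + 1) / (q - 1)) := by
  obtain ⟨r, rfl⟩ : ∃ r, q = r + 1 := ⟨q - 1, by omega⟩
  obtain ⟨j, rfl⟩ : ∃ j, k = j + 3 := ⟨k - 3, by omega⟩
  have hr : 3 ≤ r := by omega
  obtain ⟨M, hM⟩ : ∃ M, (r + 1) ^ (j + 2) = r * M + 1 := by
    have h := Nat.sub_dvd_pow_sub_pow (r + 1) 1 (j + 2)
    rw [one_pow, Nat.add_sub_cancel] at h
    obtain ⟨M, hM⟩ := h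
    refine ⟨M, ?_⟩
    have : 1 ≤ (r + 1) ^ (j + 2) := Nat.one_le_pow _ _ (by omega)
    omega
  have hMge : r + 2 ≤ M := by
    have h1 : (r + 1) ^ 2 ≤ (r + 1) ^ (j + 2) := Nat.pow_le_pow_right (by omega) (by omega)
    rw [hM] at h1
    have h2 : (r + 1) ^ 2 = r * (r + 2) + 1 := by ring
    rw [h2] at h1
    have h3 : r * (r + 2) ≤ r * M := by omega
    exact Nat.le_of_mul_le_mul_left h3 (by omega)
  have e1 : (r + 1) ^ (j + 3 - 1) = r * M + 1 := by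
    rw [show j + 3 - 1 = j + 2 by omega, hM]
  have e2 : (r + 1) ^ (j + 3) = (r + 1) * (r * M + 1) := by
    rw [pow_succ, hM]; ring
  have e3 : (r + 1) ^ (j + 3 + 1) = (r + 1) * (r + 1) * (r * M + 1) := by
    rw [pow_succ, e2]; ring
  have e4 : (r + 1) ^ (2 * (j + 3) - 1) = (r + 1) * (r * M + 1) * (r * M + 1) := by
    rw [show 2 * (j + 3) - 1 = (j + 2) + (j + 2) + 1 by omega, pow_succ, pow_add, hM]; ring
  have e5 : (r + 1) ^ (2 * (j + 3)) = (r + 1) * (r + 1) * (r * M + 1) * (r * M + 1) := by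
    rw [show 2 * (j + 3) = (j + 2) + (j + 2) + 1 + 1 by omega, pow_succ, pow_succ, pow_add, hM]
    ring
  rw [e1, e2, e3, e4, Nat.add_sub_cancel]
  have hs : (r + 1) * (r * M + 1) * (r * M + 1) + (r + 1) * (r * M + 1) - (r * M + 1) - 1 =
      (r * M + 1 + 1) * r * ((r + 1) * M + 1) := by
    have : (r + 1) * (r * M + 1) * (r * M + 1) + (r + 1) * (r * M + 1) =
        (r * M + 1 + 1) * r * ((r + 1) * M + 1) + 1 + (r * M + 1) := by ring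
    rw [this, Nat.add_sub_cancel, Nat.add_sub_cancel]
  have hℓ : (r + 1) * (r * M + 1) * (r * M + 1) - (r * M + 1) =
      (r * M + 1) * r * ((r + 1) * M + 1) := by
    have : (r + 1) * (r * M + 1) * (r * M + 1) =
        (r * M + 1) * r * ((r + 1) * M + 1) + (r * M + 1) := by ring
    rw [this, Nat.add_sub_cancel]
  have hN : (r + 1) * (r + 1) * (r * M + 1) - 1 = r * ((r + 1) * ((r + 1) * M + 1) + 1) := by
    have : (r + 1) * (r + 1) * (r * M + 1) = r * ((r + 1) * ((r + 1) * M + 1) + 1) + 1 := by ring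
    rw [this, Nat.add_sub_cancel]
  rw [hs, hℓ, hN]
  have hdiv1 : (r * M + 1 + 1) * r * ((r + 1) * M + 1) / r =
      (r * M + 1 + 1) * ((r + 1) * M + 1) := by
    apply Nat.div_eq_of_eq_mul_left (by omega); ring
  have hdiv2 : r * ((r + 1) * ((r + 1) * M + 1) + 1) * ((r + 1) * (r * M + 1) + 1) / r =
      ((r + 1) * ((r + 1) * M + 1) + 1) * ((r + 1) * (r * M + 1) + 1) := by
    apply Nat.div_eq_of_eq_mul_left (by omega); ring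
  rw [hdiv1, hdiv2]
  apply core r M κ p (2 * (j + 3)) hr hMge ?_ e5 e4
  rcases hpκ with ⟨hodd, hκ, hp⟩ | ⟨heven, hκ, hp⟩
  · left
    obtain ⟨u, hu⟩ := hodd
    refine ⟨by omega, ?_⟩
    rcases hp with h5 | ⟨h3, h9⟩
    · left; exact ⟨h5, by omega⟩
    · right; exact ⟨h3, by omega⟩
  · right
    exact ⟨by omega, hp⟩

end Cfsg.Agent.Lib.Helper28_MIO_NUMPLUS
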