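import Mathlib

/-!
# Checking relations between matrices over `ZMod p` with packed rows

helper28.  A square matrix of size `n` over `ZMod p` is stored as one natural number: the rows
one after the other, each row `n` digits in base `B = 2^16`.  A row vector is stored in the same
way, and `v ᵥ* M` is computed as `∑ i, v i * (row i)` on natural numbers (no carries as long as
`n * p * p ≤ B`), followed by a reduction of the digits modulo `p`.  `checkWord` applies a word
in the matrices to the `n` unit vectors; `prod_eq_one_of_check` is its soundness.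
-/

set_option autoImplicit false

namespace Cfsg.Agent.Lib.Helper28_MatPack

open Matrix

/-- the base of the digits -/
def B : ℕ := 65536

theorem B_pos : 0 < B := by decide

theorem one_lt_B : 1 < B := by decide

/-- the `j`-th digit of `x` -/
def dig (x j : ℕ) : ℕ := Nat.land (Nat.shiftRight x (Nat.mul 16 j)) 65535

theorem dig_eq (x j : ℕ) : dig x j = x / B ^ j % B := by
  show (x >>> (16 * j)) &&& 65535 = _
  rw [Nat.shiftRight_eq_div_pow, show (65535 : ℕ) = 2 ^ 16 - 1 by norm_num,
    Nat.and_two_pow_sub_one_eq_mod, pow_mul]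
  norm_num [B]

theorem dig_lt (x j : ℕ) : dig x j < B := by
  rw [dig_eq]
  exact Nat.mod_lt _ B_pos

/-- the number with digits `a 0, ..., a (n-1)` (no carries if these are below `B`) -/
def packF (a : ℕ → ℕ) (n : ℕ) : ℕ := ∑ j ∈ Finset.range n, a j * B ^ j

theorem packF_succ (a : ℕ → ℕ) (n : ℕ) : packF a (n + 1) = packF a n + a n * B ^ n :=
  Finset.sum_range_succ _ _

theorem packF_lt (a : ℕ → ℕ) (n : ℕ) (h : ∀ j < n, a j < B) : packF a n < B ^ n := by
  induction n with
  | zero => simp [packF]
  | succ n ih =>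
    rw [packF_succ, pow_succ]
    have h1 := ih fun j hj => h j (Nat.lt_succ_of_lt hj)
    have h2 : a n + 1 ≤ B := h n (Nat.lt_succ_self n)
    calc packF a n + a n * B ^ n < B ^ n + a n * B ^ n := by omega
      _ = (a n + 1) * B ^ n := by ring
      _ ≤ B * B ^ n := Nat.mul_le_mul_right _ h2
      _ = B ^ n * B := by ring

theorem dig_packF (a : ℕ → ℕ) (n : ℕ) (h : ∀ j < n, a j < B) (k : ℕ) (hk : k < n) :
    dig (packF a n) k = a k := by
  induction n with
  | zero => omega
  | succ n ih =>
    have h1 : ∀ j < n, a j < B := fun j hj => h j (Nat.lt_succ_of_lt hj)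
    have hlt := packF_lt a n h1
    rw [packF_succ]
    rcases Nat.lt_succ_iff_lt_or_eq.mp hk with hk' | rfl
    · rw [← ih h1 hk']
      rw [dig_eq, dig_eq]
      obtain ⟨d, rfl⟩ : ∃ d, n = k + d + 1 := ⟨n - k - 1, by omega⟩
      have e : a (k + d + 1) * B ^ (k + d + 1) = (a (k + d + 1) * B ^ d * B) * B ^ k := by ring
      rw [e, Nat.add_mul_div_right _ _ (pow_pos B_pos _), Nat.add_mul_mod_self_right]
    · rw [dig_eq]
      rw [Nat.add_mul_div_right _ _ (pow_pos B_pos _), Nat.div_eq_of_lt hlt, zero_add,
        Nat.mod_eq_of_lt (h k (Nat.lt_succ_self k))]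

theorem packF_dig (x n : ℕ) : packF (dig x) n = x % B ^ n := by
  induction n with
  | zero => simp [packF, Nat.mod_one]
  | succ n ih =>
    rw [packF_succ, ih, Nat.mod_pow_succ, mul_comm (B ^ n), dig_eq]

theorem packF_dig_of_lt (x n : ℕ) (h : x < B ^ n) : packF (dig x) n = x := by
  rw [packF_dig, Nat.mod_eq_of_lt h]

/-! ### the functions evaluated by the kernel -/

/-- evaluate the number first, then apply the function -/
def strict {α : Type} (n : ℕ) (f : ℕ → α) : α := Nat.rec (f 0) (fun m _ => f (Nat.succ m)) n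

theorem strict_eq {α : Type} (n : ℕ) (f : ℕ → α) : strict n f = f n := by
  cases n <;> rfl

/-- the `i`-th row of the table `T` -/
def row (T n i : ℕ) : ℕ :=
  Nat.land (Nat.shiftRight T (Nat.mul (Nat.mul 16 n) i)) (Nat.sub (Nat.pow 2 (Nat.mul 16 n)) 1)

theorem row_eq (T n i : ℕ) : row T n i = T / (B ^ n) ^ i % B ^ n := by
  show (T >>> (16 * n * i)) &&& (2 ^ (16 * n) - 1) = _
  rw [Nat.shiftRight_eq_div_pow, Nat.and_two_pow_sub_one_eq_mod, pow_mul, pow_mul]
  norm_num [B]

theorem row_lt (T n i : ℕ) : row T n i < B ^ n := by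
  rw [row_eq]
  exact Nat.mod_lt _ (pow_pos B_pos _)

/-- `∑ i < n, dig x i * R i` -/
def lin (R : ℕ → ℕ) (n x : ℕ) : ℕ :=
  Nat.rec 0 (fun i acc => Nat.add acc (Nat.mul (dig x i) (R i))) n

theorem lin_eq (R : ℕ → ℕ) (n x : ℕ) :
    lin R n x = ∑ i ∈ Finset.range n, dig x i * R i := by
  induction n with
  | zero => rfl
  | succ n ih => rw [Finset.sum_range_succ, ← ih]; rfl

/-- reduce the first `n` digits modulo `p` (and forget the others) -/
def red (p n y : ℕ) : ℕ :=
  Nat.rec 0 (fun j acc => Nat.add acc (Nat.shiftLeft (Nat.mod (dig y j) p) (Nat.mul 16 j))) n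

theorem red_eq (p n y : ℕ) : red p n y = packF (fun j => dig y j % p) n := by
  induction n with
  | zero => rfl
  | succ n ih =>
    rw [packF_succ, ← ih]
    show red p n y + (dig y n % p) <<< (16 * n) = _
    rw [Nat.shiftLeft_eq, pow_mul]
    norm_num [B]

/-- one step: the packed vector `x` times the matrix with table `T` -/
def step (T p n x : ℕ) : ℕ := red p n (lin (row T n) n x)

theorem step_eq (T p n x : ℕ) : step T p n x = red p n (lin (row T n) n x) := rfl

/-- all digits of the `n` rows of `T` are below `p` -/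
def rowsOK (T p n : ℕ) : Bool :=
  Nat.rec true (fun i acc => acc && strict (row T n i) fun r =>
    Nat.rec true (fun j acc' => acc' && Nat.blt (dig r j) p) n) n

theorem rowsOK_spec (T p n : ℕ) (h : rowsOK T p n = true) :
    ∀ i < n, ∀ j < n, dig (row T n i) j < p := by
  have inner : ∀ (r m : ℕ),
      (Nat.rec true (fun j acc' => acc' && Nat.blt (dig r j) p) m : Bool) = true →
        ∀ j < m, dig r j < p := by
    intro r m
    induction m with
    | zero => intro _ j hj; omega
    | succ m ih =>
      intro hm j hj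
      have hm' : ((Nat.rec true (fun j acc' => acc' && Nat.blt (dig r j) p) m : Bool)
          && Nat.blt (dig r m) p) = true := hm
      rw [Bool.and_eq_true] at hm'
      rcases Nat.lt_succ_iff_lt_or_eq.mp hj with hj' | rfl
      · exact ih hm'.1 j hj'
      · exact Nat.blt_eq.mp hm'.2
  have outer : ∀ m : ℕ,
      (Nat.rec true (fun i acc => acc && strict (row T n i) fun r =>
        Nat.rec true (fun j acc' => acc' && Nat.blt (dig r j) p) n) m : Bool) = true →
        ∀ i < m, ∀ j < n, dig (row T n i) j < p := by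
    intro m
    induction m with
    | zero => intro _ i hi; omega
    | succ m ih =>
      intro hm i hi
      have hm' : ((Nat.rec true (fun i acc => acc && strict (row T n i) fun r =>
          Nat.rec true (fun j acc' => acc' && Nat.blt (dig r j) p) n) m : Bool)
          && strict (row T n m) fun r =>
            Nat.rec true (fun j acc' => acc' && Nat.blt (dig r j) p) n) = true := hm
      rw [Bool.and_eq_true, strict_eq] at hm'
      rcases Nat.lt_succ_iff_lt_or_eq.mp hi with hi' | rfl
      · exact ih hm'.1 i hi'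
      · exact inner _ _ hm'.2
  exact outer n h

/-! ### the matrices and the soundness of one step -/

section sound

variable (p n : ℕ)

/-- the vector over `ZMod p` stored in `x` -/
def val (x : ℕ) : Fin n → ZMod p := fun j => (dig x j : ZMod p)

/-- the matrix over `ZMod p` stored in the table `T` -/
def mat (T : ℕ) : Matrix (Fin n) (Fin n) (ZMod p) := fun i j => (dig (row T n i) j : ZMod p)

theorem dig_red (y k : ℕ) (hp : p ≤ B) (hp0 : 0 < p) (hk : k < n) :
    dig (red p n y) k = dig y k % p := by
  rw [red_eq]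
  exact dig_packF _ n (fun j _ => lt_of_lt_of_le (Nat.mod_lt _ hp0) hp) k hk

theorem dig_red_lt (y k : ℕ) (hp : p ≤ B) (hp0 : 0 < p) (hk : k < n) :
    dig (red p n y) k < p := by
  rw [dig_red p n y k hp hp0 hk]
  exact Nat.mod_lt _ hp0

theorem dig_lin (T x : ℕ) (hT : ∀ i < n, ∀ j < n, dig (row T n i) j < p)
    (hx : ∀ i < n, dig x i < p) (hB : n * (p * p) ≤ B) (k : ℕ) (hk : k < n) :
    dig (lin (row T n) n x) k = ∑ i ∈ Finset.range n, dig x i * dig (row T n i) k := by
  have e : lin (row T n) n x
      = packF (fun j => ∑ i ∈ Finset.range n, dig x i * dig (row T n i) j) n := by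
    rw [lin_eq]
    unfold packF
    simp only [Finset.sum_mul]
    rw [Finset.sum_comm]
    apply Finset.sum_congr rfl
    intro i _
    conv_lhs => rw [← packF_dig_of_lt (row T n i) n (row_lt T n i)]
    unfold packF
    rw [Finset.mul_sum]
    apply Finset.sum_congr rfl
    intro j _
    ring
  rw [e]
  apply dig_packF _ n _ k hk
  intro j hj
  have hb : ∀ i ∈ Finset.range n, dig x i * dig (row T n i) j ≤ p * p := by
    intro i hi
    have hi' := Finset.mem_range.mp hi
    exact Nat.mul_le_mul (hx i hi').le (hT i hi' j hj).le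
  have hp0 : 0 < p := lt_of_le_of_lt (Nat.zero_le _) (hx k hk)
  -- a strict bound: each term is below `p * p` when `p > 0`
  have hb' : ∀ i ∈ Finset.range n, dig x i * dig (row T n i) j < p * p := by
    intro i hi
    have hi' := Finset.mem_range.mp hi
    exact Nat.mul_lt_mul'' (hx i hi') (hT i hi' j hj)
  have hn0 : 0 < n := lt_of_le_of_lt (Nat.zero_le _) hk
  calc ∑ i ∈ Finset.range n, dig x i * dig (row T n i) j
      < ∑ _i ∈ Finset.range n, p * p :=
        Finset.sum_lt_sum_of_nonempty (Finset.nonempty_range_iff.mpr hn0.ne') hb'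
    _ = n * (p * p) := by simp
    _ ≤ B := hB

theorem val_step (T x : ℕ) (hT : ∀ i < n, ∀ j < n, dig (row T n i) j < p)
    (hx : ∀ i < n, dig x i < p) (hB : n * (p * p) ≤ B) (hp0 : 0 < p) (hp : p ≤ B) :
    val p n (step T p n x) = val p n x ᵥ* mat p n T := by
  funext j
  unfold val
  rw [step_eq, dig_red p n _ j hp hp0 j.2, dig_lin p n T x hT hx hB j j.2]
  rw [ZMod.natCast_mod, Nat.cast_sum]
  unfold Matrix.vecMul dotProduct mat
  rw [← Fin.sum_univ_eq_sum_range (fun i => ((dig x i * dig (row T n i) j : ℕ) : ZMod p)) n]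
  apply Finset.sum_congr rfl
  intro i _
  push_cast
  rfl

end sound

/-! ### words -/

section words

variable {ι : Type} (tabs : ι → ℕ) (p n : ℕ)

/-- apply the matrices of the word `w`, from left to right, to the packed row vector `x` -/
def run (w : List ι) (x : ℕ) : ℕ :=
  w.foldl (fun x g => step (tabs g) p n x) x

theorem run_nil (x : ℕ) : run tabs p n [] x = x := rfl

theorem run_cons (g : ι) (w : List ι) (x : ℕ) :
    run tabs p n (g :: w) x = run tabs p n w (step (tabs g) p n x) := by
  unfold run
  rw [List.foldl_cons]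

/-- the word `w` fixes the `n` unit vectors -/
def checkWord (w : List ι) : Bool :=
  Nat.rec true (fun k acc => acc && Nat.beq (run tabs p n w (B ^ k)) (B ^ k)) n

theorem checkWord_spec (w : List ι) (h : checkWord tabs p n w = true) :
    ∀ k < n, run tabs p n w (B ^ k) = B ^ k := by
  have aux : ∀ m : ℕ,
      (Nat.rec true (fun k acc => acc && Nat.beq (run tabs p n w (B ^ k)) (B ^ k)) m : Bool)
        = true → ∀ k < m, run tabs p n w (B ^ k) = B ^ k := by
    intro m
    induction m with
    | zero => intro _ k hk; omega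
    | succ m ih =>
      intro hm k hk
      have hm' : ((Nat.rec true (fun k acc => acc && Nat.beq (run tabs p n w (B ^ k)) (B ^ k)) m
          : Bool) && Nat.beq (run tabs p n w (B ^ m)) (B ^ m)) = true := hm
      rw [Bool.and_eq_true] at hm'
      rcases Nat.lt_succ_iff_lt_or_eq.mp hk with hk' | rfl
      · exact ih hm'.1 k hk'
      · exact Nat.eq_of_beq_eq_true hm'.2
  exact aux n h

/-- the conditions under which the packed computation is sound -/
structure Valid : Prop where
  one_lt : 1 < p
  le_B : p ≤ B
  bound : n * (p * p) ≤ B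
  rows : ∀ g, rowsOK (tabs g) p n = true

variable {tabs p n}

theorem dig_pow (k j : ℕ) : dig (B ^ k) j = if j = k then 1 else 0 := by
  rw [dig_eq]
  rcases lt_trichotomy j k with h | h | h
  · rw [if_neg h.ne]
    obtain ⟨d, rfl⟩ : ∃ d, k = j + d + 1 := ⟨k - j - 1, by omega⟩
    have e : B ^ (j + d + 1) = (B ^ d * B) * B ^ j := by ring
    rw [e, Nat.mul_div_cancel _ (pow_pos B_pos _), Nat.mul_mod_left]
  · subst h
    rw [if_pos rfl, Nat.div_self (pow_pos B_pos _), Nat.mod_eq_of_lt one_lt_B]
  · rw [if_neg h.ne', Nat.div_eq_of_lt (Nat.pow_lt_pow_right one_lt_B h), Nat.zero_mod]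

theorem val_pow (k : Fin n) :
    val p n (B ^ (k : ℕ)) = Pi.single k 1 := by
  funext j
  unfold val
  rw [dig_pow]
  by_cases h : j = k
  · subst h; simp
  · have h' : (j : ℕ) ≠ (k : ℕ) := fun e => h (Fin.ext e)
    rw [if_neg h', Pi.single_eq_of_ne h]
    simp

theorem dig_pow_lt (hv : Valid tabs p n) (k j : ℕ) : dig (B ^ k) j < p := by
  rw [dig_pow]
  have := hv.one_lt
  split_ifs <;> omega

theorem val_run (hv : Valid tabs p n) (w : List ι) :
    ∀ x : ℕ, (∀ i < n, dig x i < p) →
      val p n (run tabs p n w x) = val p n x ᵥ* (w.map fun g => mat p n (tabs g)).prod := by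
  induction w with
  | nil => intro x _; rw [run_nil, List.map_nil, List.prod_nil, Matrix.vecMul_one]
  | cons g w ih =>
    intro x hx
    have hp0 : 0 < p := lt_trans Nat.zero_lt_one hv.one_lt
    rw [run_cons, ih _ (fun i hi => by
        rw [step_eq]; exact dig_red_lt p n _ i hv.le_B hp0 hi),
      val_step p n (tabs g) x (rowsOK_spec _ _ _ (hv.rows g)) hx hv.bound hp0 hv.le_B,
      Matrix.vecMul_vecMul, List.map_cons, List.prod_cons]

/-- soundness of `checkWord` -/
theorem prod_eq_one_of_check (hv : Valid tabs p n) (w : List ι)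
    (h : checkWord tabs p n w = true) :
    (w.map fun g => mat p n (tabs g)).prod = 1 := by
  have hk := checkWord_spec tabs p n w h
  ext i j
  have h1 := val_run hv w (B ^ (i : ℕ)) (fun l _ => dig_pow_lt hv _ l)
  rw [hk i i.2, val_pow (p := p) i, Matrix.single_one_vecMul] at h1
  have h2 := congrFun h1 j
  rw [Matrix.row] at h2
  rw [← h2, Matrix.one_apply, Pi.single_apply]
  by_cases e : i = j
  · subst e; simp
  · rw [if_neg e, if_neg (fun e' => e e'.symm)]

end words

end Cfsg.Agent.Lib.Helper28_MatPack
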