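import Cfsg.Agent.Lib.Helper28_OrderChain
import Cfsg.Prelude.Def_Spor_ON

set_option autoImplicit false

namespace Cfsg.Agent.Lib.Helper28_ONChain

open Cfsg.Spor Cfsg.Agent.Lib.Helper28_OrderChain

def edges1 : List (Cfsg.Spor.ON.Gen × ℕ × Cfsg.Spor.ON.Gen) := [(.a, 3, .b), (.b, 3, .c), (.c, 8, .d), (.d, 3, .e), (.e, 3, .f)]
def kept1 : List (List (Cfsg.Spor.ON.Gen × Bool)) := [[(.a, true), (.f, true), (.d, false), (.c, false), (.d, false), (.c, false), (.d, false), (.c, false), (.d, false), (.c, false)]]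
def dropped1 : List Cfsg.Spor.ON.Gen := [.g]
def extra1 : List (FreeGroup Cfsg.Spor.ON.Gen) := subExtra kept1 dropped1
theorem h1_1 : ∀ x ∈ coxNodes edges1, x ∈ coxNodes Cfsg.Spor.ON.edges ∧ x ∉ dropped1 := by decide
theorem h2_1 : ∀ x ∈ coxNodes edges1, ∀ y ∈ coxNodes edges1, coxLabel edges1 x y = coxLabel Cfsg.Spor.ON.edges x y := by decide
set_option maxRecDepth 100000 in
theorem h3_1 : ∀ u ∈ kept1, InRels Cfsg.Spor.ON.edges Cfsg.Spor.ON.extra (FreeGroup.mk u) ∧ ∀ l ∈ u, l.1 ∉ dropped1 := by decide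

def edges2 : List (Cfsg.Spor.ON.Gen × ℕ × Cfsg.Spor.ON.Gen) := [(.a, 3, .b), (.b, 3, .c), (.c, 8, .d)]
def kept2 : List (List (Cfsg.Spor.ON.Gen × Bool)) := [[(.a, true), (.f, true), (.d, false), (.c, false), (.d, false), (.c, false), (.d, false), (.c, false), (.d, false), (.c, false)], [(.f, true), (.f, true)], [(.a, true), (.f, true), (.a, true), (.f, true)], [(.b, true), (.f, true), (.b, true), (.f, true)], [(.c, true), (.f, true), (.c, true), (.f, true)], [(.d, true), (.f, true), (.d, true), (.f, true)]]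
def dropped2 : List Cfsg.Spor.ON.Gen := [.g, .e]
def extra2 : List (FreeGroup Cfsg.Spor.ON.Gen) := subExtra kept2 dropped2
theorem h1_2 : ∀ x ∈ coxNodes edges2, x ∈ coxNodes edges1 ∧ x ∉ dropped2 := by decide
theorem h2_2 : ∀ x ∈ coxNodes edges2, ∀ y ∈ coxNodes edges2, coxLabel edges2 x y = coxLabel edges1 x y := by decide
set_option maxRecDepth 100000 in
theorem h3_2 : ∀ u ∈ kept2, InRels edges1 extra1 (FreeGroup.mk u) ∧ ∀ l ∈ u, l.1 ∉ dropped2 := by decide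

def edges3 : List (Cfsg.Spor.ON.Gen × ℕ × Cfsg.Spor.ON.Gen) := [(.a, 3, .b), (.b, 3, .c)]
def kept3 : List (List (Cfsg.Spor.ON.Gen × Bool)) := []
def dropped3 : List Cfsg.Spor.ON.Gen := [.g, .d, .e, .f]
def extra3 : List (FreeGroup Cfsg.Spor.ON.Gen) := subExtra kept3 dropped3
theorem h1_3 : ∀ x ∈ coxNodes edges3, x ∈ coxNodes edges2 ∧ x ∉ dropped3 := by decide
theorem h2_3 : ∀ x ∈ coxNodes edges3, ∀ y ∈ coxNodes edges3, coxLabel edges3 x y = coxLabel edges2 x y := by decide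
set_option maxRecDepth 100000 in
theorem h3_3 : ∀ u ∈ kept3, InRels edges2 extra2 (FreeGroup.mk u) ∧ ∀ l ∈ u, l.1 ∉ dropped3 := by decide

def edges4 : List (Cfsg.Spor.ON.Gen × ℕ × Cfsg.Spor.ON.Gen) := [(.a, 3, .b)]
def kept4 : List (List (Cfsg.Spor.ON.Gen × Bool)) := []
def dropped4 : List Cfsg.Spor.ON.Gen := [.g, .c, .d, .e, .f]
def extra4 : List (FreeGroup Cfsg.Spor.ON.Gen) := subExtra kept4 dropped4
theorem h1_4 : ∀ x ∈ coxNodes edges4, x ∈ coxNodes edges3 ∧ x ∉ dropped4 := by decide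
theorem h2_4 : ∀ x ∈ coxNodes edges4, ∀ y ∈ coxNodes edges4, coxLabel edges4 x y = coxLabel edges3 x y := by decide
set_option maxRecDepth 100000 in
theorem h3_4 : ∀ u ∈ kept4, InRels edges3 extra3 (FreeGroup.mk u) ∧ ∀ l ∈ u, l.1 ∉ dropped4 := by decide

end Cfsg.Agent.Lib.Helper28_ONChain
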