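import Cfsg.Agent.Lib.Helper28_ONLB0D

set_option autoImplicit false
set_option linter.constructorNameAsVariable false
set_option Elab.async false

namespace Cfsg.Agent.Lib.Helper28_ONLB0

open Cfsg.Spor Cfsg.Agent.Lib.Helper28_CosetPerm Cfsg.Agent.Lib.Helper28_OrbitLB Cfsg.Agent.Lib.Helper28_S1692 Cfsg.Agent.Lib.Helper28_S1692Tab

theorem r877 : allRange chk 22 30695 35 = true := by decide +kernel
theorem r878 : allRange chk 22 30730 35 = true := by decide +kernel
theorem r879 : allRange chk 22 30765 35 = true := by decide +kernel
theorem r880 : allRange chk 22 30800 35 = true := by decide +kernel
theorem r881 : allRange chk 22 30835 35 = true := by decide +kernel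
theorem r882 : allRange chk 22 30870 35 = true := by decide +kernel
theorem r883 : allRange chk 22 30905 35 = true := by decide +kernel
theorem r884 : allRange chk 22 30940 35 = true := by decide +kernel
theorem r885 : allRange chk 22 30975 35 = true := by decide +kernel
theorem r886 : allRange chk 22 31010 35 = true := by decide +kernel
theorem r887 : allRange chk 22 31045 35 = true := by decide +kernel
theorem r888 : allRange chk 22 31080 35 = true := by decide +kernel
theorem r889 : allRange chk 22 31115 35 = true := by decide +kernel
theorem r890 : allRange chk 22 31150 35 = true := by decide +kernel
theorem r891 : allRange chk 22 31185 35 = true := by decide +kernel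
theorem r892 : allRange chk 22 31220 35 = true := by decide +kernel
theorem r893 : allRange chk 22 31255 35 = true := by decide +kernel
theorem r894 : allRange chk 22 31290 35 = true := by decide +kernel
theorem r895 : allRange chk 22 31325 35 = true := by decide +kernel
theorem r896 : allRange chk 22 31360 35 = true := by decide +kernel
theorem r897 : allRange chk 22 31395 35 = true := by decide +kernel
theorem r898 : allRange chk 22 31430 35 = true := by decide +kernel
theorem r899 : allRange chk 22 31465 35 = true := by decide +kernel
theorem r900 : allRange chk 22 31500 35 = true := by decide +kernel
theorem r901 : allRange chk 22 31535 35 = true := by decide +kernel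
theorem r902 : allRange chk 22 31570 35 = true := by decide +kernel
theorem r903 : allRange chk 22 31605 35 = true := by decide +kernel
theorem r904 : allRange chk 22 31640 35 = true := by decide +kernel
theorem r905 : allRange chk 22 31675 35 = true := by decide +kernel
theorem r906 : allRange chk 22 31710 35 = true := by decide +kernel
theorem r907 : allRange chk 22 31745 35 = true := by decide +kernel
theorem r908 : allRange chk 22 31780 35 = true := by decide +kernel
theorem r909 : allRange chk 22 31815 35 = true := by decide +kernel
theorem r910 : allRange chk 22 31850 35 = true := by decide +kernel
theorem r911 : allRange chk 22 31885 35 = true := by decide +kernel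
theorem r912 : allRange chk 22 31920 35 = true := by decide +kernel
theorem r913 : allRange chk 22 31955 35 = true := by decide +kernel
theorem r914 : allRange chk 22 31990 35 = true := by decide +kernel
theorem r915 : allRange chk 22 32025 35 = true := by decide +kernel
theorem r916 : allRange chk 22 32060 35 = true := by decide +kernel
theorem r917 : allRange chk 22 32095 35 = true := by decide +kernel
theorem r918 : allRange chk 22 32130 35 = true := by decide +kernel
theorem r919 : allRange chk 22 32165 35 = true := by decide +kernel
theorem r920 : allRange chk 22 32200 35 = true := by decide +kernel
theorem r921 : allRange chk 22 32235 35 = true := by decide +kernel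
theorem r922 : allRange chk 22 32270 35 = true := by decide +kernel
theorem r923 : allRange chk 22 32305 35 = true := by decide +kernel
theorem r924 : allRange chk 22 32340 35 = true := by decide +kernel
theorem r925 : allRange chk 22 32375 35 = true := by decide +kernel
theorem r926 : allRange chk 22 32410 35 = true := by decide +kernel
theorem r927 : allRange chk 22 32445 35 = true := by decide +kernel
theorem r928 : allRange chk 22 32480 35 = true := by decide +kernel
theorem r929 : allRange chk 22 32515 35 = true := by decide +kernel
theorem r930 : allRange chk 22 32550 35 = true := by decide +kernel
theorem r931 : allRange chk 22 32585 35 = true := by decide +kernel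
theorem r932 : allRange chk 22 32620 35 = true := by decide +kernel
theorem r933 : allRange chk 22 32655 35 = true := by decide +kernel
theorem r934 : allRange chk 22 32690 35 = true := by decide +kernel
theorem r935 : allRange chk 22 32725 35 = true := by decide +kernel
theorem r936 : allRange chk 22 32760 35 = true := by decide +kernel
theorem r937 : allRange chk 22 32795 35 = true := by decide +kernel
theorem r938 : allRange chk 22 32830 35 = true := by decide +kernel
theorem r939 : allRange chk 22 32865 35 = true := by decide +kernel
theorem r940 : allRange chk 22 32900 35 = true := by decide +kernel
theorem r941 : allRange chk 22 32935 35 = true := by decide +kernel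
theorem r942 : allRange chk 22 32970 35 = true := by decide +kernel
theorem r943 : allRange chk 22 33005 35 = true := by decide +kernel
theorem r944 : allRange chk 22 33040 35 = true := by decide +kernel
theorem r945 : allRange chk 22 33075 35 = true := by decide +kernel
theorem r946 : allRange chk 22 33110 35 = true := by decide +kernel
theorem r947 : allRange chk 22 33145 35 = true := by decide +kernel
theorem r948 : allRange chk 22 33180 35 = true := by decide +kernel
theorem r949 : allRange chk 22 33215 35 = true := by decide +kernel
theorem r950 : allRange chk 22 33250 35 = true := by decide +kernel
theorem r951 : allRange chk 22 33285 35 = true := by decide +kernel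
theorem r952 : allRange chk 22 33320 35 = true := by decide +kernel
theorem r953 : allRange chk 22 33355 35 = true := by decide +kernel
theorem r954 : allRange chk 22 33390 35 = true := by decide +kernel
theorem r955 : allRange chk 22 33425 35 = true := by decide +kernel
theorem r956 : allRange chk 22 33460 35 = true := by decide +kernel
theorem r957 : allRange chk 22 33495 35 = true := by decide +kernel
theorem r958 : allRange chk 22 33530 35 = true := by decide +kernel
theorem r959 : allRange chk 22 33565 35 = true := by decide +kernel
theorem r960 : allRange chk 22 33600 35 = true := by decide +kernel
theorem r961 : allRange chk 22 33635 35 = true := by decide +kernel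
theorem r962 : allRange chk 22 33670 35 = true := by decide +kernel
theorem r963 : allRange chk 22 33705 35 = true := by decide +kernel
theorem r964 : allRange chk 22 33740 35 = true := by decide +kernel
theorem r965 : allRange chk 22 33775 35 = true := by decide +kernel
theorem r966 : allRange chk 22 33810 35 = true := by decide +kernel
theorem r967 : allRange chk 22 33845 35 = true := by decide +kernel
theorem r968 : allRange chk 22 33880 35 = true := by decide +kernel
theorem r969 : allRange chk 22 33915 35 = true := by decide +kernel
theorem r970 : allRange chk 22 33950 35 = true := by decide +kernel
theorem r971 : allRange chk 22 33985 35 = true := by decide +kernel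
theorem r972 : allRange chk 22 34020 35 = true := by decide +kernel
theorem r973 : allRange chk 22 34055 35 = true := by decide +kernel
theorem r974 : allRange chk 22 34090 35 = true := by decide +kernel
theorem r975 : allRange chk 22 34125 35 = true := by decide +kernel
theorem r976 : allRange chk 22 34160 35 = true := by decide +kernel
theorem r977 : allRange chk 22 34195 35 = true := by decide +kernel
theorem r978 : allRange chk 22 34230 35 = true := by decide +kernel
theorem r979 : allRange chk 22 34265 35 = true := by decide +kernel
theorem r980 : allRange chk 22 34300 35 = true := by decide +kernel
theorem r981 : allRange chk 22 34335 35 = true := by decide +kernel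
theorem r982 : allRange chk 22 34370 35 = true := by decide +kernel
theorem r983 : allRange chk 22 34405 35 = true := by decide +kernel
theorem r984 : allRange chk 22 34440 35 = true := by decide +kernel
theorem r985 : allRange chk 22 34475 35 = true := by decide +kernel
theorem r986 : allRange chk 22 34510 35 = true := by decide +kernel
theorem r987 : allRange chk 22 34545 35 = true := by decide +kernel
theorem r988 : allRange chk 22 34580 35 = true := by decide +kernel
theorem r989 : allRange chk 22 34615 35 = true := by decide +kernel
theorem r990 : allRange chk 22 34650 35 = true := by decide +kernel
theorem r991 : allRange chk 22 34685 35 = true := by decide +kernel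
theorem r992 : allRange chk 22 34720 35 = true := by decide +kernel
theorem r993 : allRange chk 22 34755 35 = true := by decide +kernel
theorem r994 : allRange chk 22 34790 35 = true := by decide +kernel
theorem r995 : allRange chk 22 34825 35 = true := by decide +kernel
theorem r996 : allRange chk 22 34860 35 = true := by decide +kernel
theorem r997 : allRange chk 22 34895 35 = true := by decide +kernel
theorem r998 : allRange chk 22 34930 35 = true := by decide +kernel
theorem r999 : allRange chk 22 34965 35 = true := by decide +kernel
theorem r1000 : allRange chk 22 35000 35 = true := by decide +kernel
theorem r1001 : allRange chk 22 35035 35 = true := by decide +kernel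
theorem r1002 : allRange chk 22 35070 35 = true := by decide +kernel
theorem r1003 : allRange chk 22 35105 35 = true := by decide +kernel
theorem r1004 : allRange chk 22 35140 35 = true := by decide +kernel
theorem r1005 : allRange chk 22 35175 35 = true := by decide +kernel
theorem r1006 : allRange chk 22 35210 35 = true := by decide +kernel
theorem r1007 : allRange chk 22 35245 35 = true := by decide +kernel
theorem r1008 : allRange chk 22 35280 35 = true := by decide +kernel
theorem r1009 : allRange chk 22 35315 35 = true := by decide +kernel
theorem r1010 : allRange chk 22 35350 35 = true := by decide +kernel
theorem r1011 : allRange chk 22 35385 35 = true := by decide +kernel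
theorem r1012 : allRange chk 22 35420 35 = true := by decide +kernel
theorem r1013 : allRange chk 22 35455 35 = true := by decide +kernel
theorem r1014 : allRange chk 22 35490 35 = true := by decide +kernel
theorem r1015 : allRange chk 22 35525 35 = true := by decide +kernel
theorem r1016 : allRange chk 22 35560 35 = true := by decide +kernel
theorem r1017 : allRange chk 22 35595 35 = true := by decide +kernel
theorem r1018 : allRange chk 22 35630 35 = true := by decide +kernel
theorem r1019 : allRange chk 22 35665 35 = true := by decide +kernel
theorem r1020 : allRange chk 22 35700 35 = true := by decide +kernel
theorem r1021 : allRange chk 22 35735 35 = true := by decide +kernel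
theorem r1022 : allRange chk 22 35770 35 = true := by decide +kernel
theorem r1023 : allRange chk 22 35805 35 = true := by decide +kernel
theorem r1024 : allRange chk 22 35840 35 = true := by decide +kernel
theorem r1025 : allRange chk 22 35875 35 = true := by decide +kernel
theorem r1026 : allRange chk 22 35910 35 = true := by decide +kernel
theorem r1027 : allRange chk 22 35945 35 = true := by decide +kernel
theorem r1028 : allRange chk 22 35980 35 = true := by decide +kernel
theorem r1029 : allRange chk 22 36015 35 = true := by decide +kernel
theorem r1030 : allRange chk 22 36050 35 = true := by decide +kernel
theorem r1031 : allRange chk 22 36085 35 = true := by decide +kernel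
theorem r1032 : allRange chk 22 36120 35 = true := by decide +kernel
theorem r1033 : allRange chk 22 36155 35 = true := by decide +kernel
theorem r1034 : allRange chk 22 36190 35 = true := by decide +kernel
theorem r1035 : allRange chk 22 36225 35 = true := by decide +kernel
theorem r1036 : allRange chk 22 36260 35 = true := by decide +kernel
theorem r1037 : allRange chk 22 36295 35 = true := by decide +kernel
theorem r1038 : allRange chk 22 36330 35 = true := by decide +kernel
theorem r1039 : allRange chk 22 36365 35 = true := by decide +kernel
theorem r1040 : allRange chk 22 36400 35 = true := by decide +kernel
theorem r1041 : allRange chk 22 36435 35 = true := by decide +kernel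
theorem r1042 : allRange chk 22 36470 35 = true := by decide +kernel
theorem r1043 : allRange chk 22 36505 35 = true := by decide +kernel
theorem r1044 : allRange chk 22 36540 35 = true := by decide +kernel
theorem r1045 : allRange chk 22 36575 35 = true := by decide +kernel
theorem r1046 : allRange chk 22 36610 35 = true := by decide +kernel
theorem r1047 : allRange chk 22 36645 35 = true := by decide +kernel
theorem r1048 : allRange chk 22 36680 35 = true := by decide +kernel
theorem r1049 : allRange chk 22 36715 35 = true := by decide +kernel
theorem r1050 : allRange chk 22 36750 35 = true := by decide +kernel
theorem r1051 : allRange chk 22 36785 35 = true := by decide +kernel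
theorem r1052 : allRange chk 22 36820 35 = true := by decide +kernel
theorem r1053 : allRange chk 22 36855 35 = true := by decide +kernel
theorem r1054 : allRange chk 22 36890 35 = true := by decide +kernel
theorem r1055 : allRange chk 22 36925 35 = true := by decide +kernel
theorem r1056 : allRange chk 22 36960 35 = true := by decide +kernel
theorem r1057 : allRange chk 22 36995 35 = true := by decide +kernel
theorem r1058 : allRange chk 22 37030 35 = true := by decide +kernel
theorem r1059 : allRange chk 22 37065 35 = true := by decide +kernel
theorem r1060 : allRange chk 22 37100 35 = true := by decide +kernel
theorem r1061 : allRange chk 22 37135 35 = true := by decide +kernel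
theorem r1062 : allRange chk 22 37170 35 = true := by decide +kernel
theorem r1063 : allRange chk 22 37205 35 = true := by decide +kernel
theorem r1064 : allRange chk 22 37240 35 = true := by decide +kernel
theorem r1065 : allRange chk 22 37275 35 = true := by decide +kernel
theorem r1066 : allRange chk 22 37310 35 = true := by decide +kernel
theorem r1067 : allRange chk 22 37345 35 = true := by decide +kernel
theorem r1068 : allRange chk 22 37380 35 = true := by decide +kernel
theorem r1069 : allRange chk 22 37415 35 = true := by decide +kernel
theorem r1070 : allRange chk 22 37450 35 = true := by decide +kernel
theorem r1071 : allRange chk 22 37485 35 = true := by decide +kernel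
theorem r1072 : allRange chk 22 37520 35 = true := by decide +kernel
theorem r1073 : allRange chk 22 37555 35 = true := by decide +kernel
theorem r1074 : allRange chk 22 37590 35 = true := by decide +kernel
theorem r1075 : allRange chk 22 37625 35 = true := by decide +kernel
theorem r1076 : allRange chk 22 37660 35 = true := by decide +kernel
theorem r1077 : allRange chk 22 37695 35 = true := by decide +kernel
theorem r1078 : allRange chk 22 37730 35 = true := by decide +kernel
theorem r1079 : allRange chk 22 37765 35 = true := by decide +kernel
theorem r1080 : allRange chk 22 37800 35 = true := by decide +kernel
theorem r1081 : allRange chk 22 37835 35 = true := by decide +kernel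
theorem r1082 : allRange chk 22 37870 35 = true := by decide +kernel
theorem r1083 : allRange chk 22 37905 35 = true := by decide +kernel
theorem r1084 : allRange chk 22 37940 35 = true := by decide +kernel
theorem r1085 : allRange chk 22 37975 35 = true := by decide +kernel
theorem r1086 : allRange chk 22 38010 35 = true := by decide +kernel
theorem r1087 : allRange chk 22 38045 35 = true := by decide +kernel
theorem r1088 : allRange chk 22 38080 35 = true := by decide +kernel
theorem r1089 : allRange chk 22 38115 35 = true := by decide +kernel
theorem r1090 : allRange chk 22 38150 35 = true := by decide +kernel
theorem r1091 : allRange chk 22 38185 35 = true := by decide +kernel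
theorem r1092 : allRange chk 22 38220 35 = true := by decide +kernel
theorem r1093 : allRange chk 22 38255 35 = true := by decide +kernel
theorem r1094 : allRange chk 22 38290 35 = true := by decide +kernel
theorem r1095 : allRange chk 22 38325 35 = true := by decide +kernel
theorem r1096 : allRange chk 22 38360 35 = true := by decide +kernel
theorem r1097 : allRange chk 22 38395 35 = true := by decide +kernel
theorem r1098 : allRange chk 22 38430 35 = true := by decide +kernel
theorem r1099 : allRange chk 22 38465 35 = true := by decide +kernel
theorem r1100 : allRange chk 22 38500 35 = true := by decide +kernel
theorem r1101 : allRange chk 22 38535 35 = true := by decide +kernel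
theorem r1102 : allRange chk 22 38570 35 = true := by decide +kernel
theorem r1103 : allRange chk 22 38605 35 = true := by decide +kernel
theorem r1104 : allRange chk 22 38640 35 = true := by decide +kernel
theorem r1105 : allRange chk 22 38675 35 = true := by decide +kernel
theorem r1106 : allRange chk 22 38710 35 = true := by decide +kernel
theorem r1107 : allRange chk 22 38745 35 = true := by decide +kernel
theorem r1108 : allRange chk 22 38780 35 = true := by decide +kernel
theorem r1109 : allRange chk 22 38815 35 = true := by decide +kernel
theorem r1110 : allRange chk 22 38850 35 = true := by decide +kernel
theorem r1111 : allRange chk 22 38885 35 = true := by decide +kernel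
theorem r1112 : allRange chk 22 38920 35 = true := by decide +kernel
theorem r1113 : allRange chk 22 38955 35 = true := by decide +kernel
theorem r1114 : allRange chk 22 38990 35 = true := by decide +kernel
theorem r1115 : allRange chk 22 39025 35 = true := by decide +kernel
theorem r1116 : allRange chk 22 39060 35 = true := by decide +kernel
theorem r1117 : allRange chk 22 39095 35 = true := by decide +kernel
theorem r1118 : allRange chk 22 39130 35 = true := by decide +kernel
theorem r1119 : allRange chk 22 39165 35 = true := by decide +kernel
theorem r1120 : allRange chk 22 39200 35 = true := by decide +kernel
theorem r1121 : allRange chk 22 39235 35 = true := by decide +kernel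
theorem r1122 : allRange chk 22 39270 35 = true := by decide +kernel
theorem r1123 : allRange chk 22 39305 35 = true := by decide +kernel
theorem r1124 : allRange chk 22 39340 35 = true := by decide +kernel
theorem r1125 : allRange chk 22 39375 35 = true := by decide +kernel
theorem r1126 : allRange chk 22 39410 35 = true := by decide +kernel
theorem r1127 : allRange chk 22 39445 35 = true := by decide +kernel
theorem r1128 : allRange chk 22 39480 35 = true := by decide +kernel
theorem r1129 : allRange chk 22 39515 35 = true := by decide +kernel
theorem r1130 : allRange chk 22 39550 35 = true := by decide +kernel
theorem r1131 : allRange chk 22 39585 35 = true := by decide +kernel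
theorem r1132 : allRange chk 22 39620 35 = true := by decide +kernel
theorem r1133 : allRange chk 22 39655 35 = true := by decide +kernel
theorem r1134 : allRange chk 22 39690 35 = true := by decide +kernel
theorem r1135 : allRange chk 22 39725 35 = true := by decide +kernel
theorem r1136 : allRange chk 22 39760 35 = true := by decide +kernel
theorem r1137 : allRange chk 22 39795 35 = true := by decide +kernel
theorem r1138 : allRange chk 22 39830 35 = true := by decide +kernel
theorem r1139 : allRange chk 22 39865 35 = true := by decide +kernel
theorem r1140 : allRange chk 22 39900 35 = true := by decide +kernel
theorem r1141 : allRange chk 22 39935 35 = true := by decide +kernel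
theorem r1142 : allRange chk 22 39970 35 = true := by decide +kernel
theorem r1143 : allRange chk 22 40005 35 = true := by decide +kernel
theorem r1144 : allRange chk 22 40040 35 = true := by decide +kernel
theorem r1145 : allRange chk 22 40075 35 = true := by decide +kernel
theorem r1146 : allRange chk 22 40110 35 = true := by decide +kernel
theorem r1147 : allRange chk 22 40145 35 = true := by decide +kernel
theorem r1148 : allRange chk 22 40180 35 = true := by decide +kernel
theorem r1149 : allRange chk 22 40215 35 = true := by decide +kernel
theorem r1150 : allRange chk 22 40250 35 = true := by decide +kernel
theorem r1151 : allRange chk 22 40285 35 = true := by decide +kernel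
theorem r1152 : allRange chk 22 40320 35 = true := by decide +kernel
theorem r1153 : allRange chk 22 40355 35 = true := by decide +kernel
theorem r1154 : allRange chk 22 40390 35 = true := by decide +kernel
theorem r1155 : allRange chk 22 40425 35 = true := by decide +kernel
theorem r1156 : allRange chk 22 40460 35 = true := by decide +kernel
theorem r1157 : allRange chk 22 40495 35 = true := by decide +kernel
theorem r1158 : allRange chk 22 40530 35 = true := by decide +kernel
theorem r1159 : allRange chk 22 40565 35 = true := by decide +kernel
theorem r1160 : allRange chk 22 40600 35 = true := by decide +kernel
theorem r1161 : allRange chk 22 40635 35 = true := by decide +kernel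
theorem r1162 : allRange chk 22 40670 35 = true := by decide +kernel
theorem r1163 : allRange chk 22 40705 35 = true := by decide +kernel
theorem r1164 : allRange chk 22 40740 35 = true := by decide +kernel
theorem r1165 : allRange chk 22 40775 35 = true := by decide +kernel
theorem r1166 : allRange chk 22 40810 35 = true := by decide +kernel
theorem r1167 : allRange chk 22 40845 35 = true := by decide +kernel
theorem r1168 : allRange chk 22 40880 35 = true := by decide +kernel
theorem r1169 : allRange chk 22 40915 35 = true := by decide +kernel
theorem r1170 : allRange chk 22 40950 35 = true := by decide +kernel
theorem r1171 : allRange chk 22 40985 35 = true := by decide +kernel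
theorem r1172 : allRange chk 22 41020 35 = true := by decide +kernel
theorem r1173 : allRange chk 22 41055 35 = true := by decide +kernel
theorem r1174 : allRange chk 22 41090 35 = true := by decide +kernel
theorem r1175 : allRange chk 22 41125 35 = true := by decide +kernel
theorem r1176 : allRange chk 22 41160 35 = true := by decide +kernel
theorem r1177 : allRange chk 22 41195 35 = true := by decide +kernel
theorem r1178 : allRange chk 22 41230 35 = true := by decide +kernel
theorem r1179 : allRange chk 22 41265 35 = true := by decide +kernel
theorem r1180 : allRange chk 22 41300 35 = true := by decide +kernel
theorem r1181 : allRange chk 22 41335 35 = true := by decide +kernel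
theorem r1182 : allRange chk 22 41370 35 = true := by decide +kernel
theorem r1183 : allRange chk 22 41405 35 = true := by decide +kernel
theorem r1184 : allRange chk 22 41440 35 = true := by decide +kernel
theorem r1185 : allRange chk 22 41475 35 = true := by decide +kernel
theorem r1186 : allRange chk 22 41510 35 = true := by decide +kernel
theorem r1187 : allRange chk 22 41545 35 = true := by decide +kernel
theorem r1188 : allRange chk 22 41580 35 = true := by decide +kernel
theorem r1189 : allRange chk 22 41615 35 = true := by decide +kernel
theorem r1190 : allRange chk 22 41650 35 = true := by decide +kernel
theorem r1191 : allRange chk 22 41685 35 = true := by decide +kernel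
theorem r1192 : allRange chk 22 41720 35 = true := by decide +kernel
theorem r1193 : allRange chk 22 41755 35 = true := by decide +kernel
theorem r1194 : allRange chk 22 41790 35 = true := by decide +kernel
theorem r1195 : allRange chk 22 41825 35 = true := by decide +kernel
theorem r1196 : allRange chk 22 41860 35 = true := by decide +kernel
theorem r1197 : allRange chk 22 41895 35 = true := by decide +kernel
theorem r1198 : allRange chk 22 41930 35 = true := by decide +kernel
theorem r1199 : allRange chk 22 41965 35 = true := by decide +kernel
theorem r1200 : allRange chk 22 42000 35 = true := by decide +kernel
theorem r1201 : allRange chk 22 42035 35 = true := by decide +kernel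
theorem r1202 : allRange chk 22 42070 35 = true := by decide +kernel
theorem r1203 : allRange chk 22 42105 35 = true := by decide +kernel
theorem r1204 : allRange chk 22 42140 35 = true := by decide +kernel
theorem r1205 : allRange chk 22 42175 35 = true := by decide +kernel
theorem r1206 : allRange chk 22 42210 35 = true := by decide +kernel
theorem r1207 : allRange chk 22 42245 35 = true := by decide +kernel
theorem r1208 : allRange chk 22 42280 35 = true := by decide +kernel
theorem r1209 : allRange chk 22 42315 35 = true := by decide +kernel
theorem r1210 : allRange chk 22 42350 35 = true := by decide +kernel
theorem r1211 : allRange chk 22 42385 35 = true := by decide +kernel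
theorem r1212 : allRange chk 22 42420 35 = true := by decide +kernel
theorem r1213 : allRange chk 22 42455 35 = true := by decide +kernel
theorem r1214 : allRange chk 22 42490 35 = true := by decide +kernel
theorem r1215 : allRange chk 22 42525 35 = true := by decide +kernel
theorem r1216 : allRange chk 22 42560 35 = true := by decide +kernel
theorem r1217 : allRange chk 22 42595 35 = true := by decide +kernel
theorem r1218 : allRange chk 22 42630 35 = true := by decide +kernel
theorem r1219 : allRange chk 22 42665 35 = true := by decide +kernel
theorem r1220 : allRange chk 22 42700 35 = true := by decide +kernel
theorem r1221 : allRange chk 22 42735 35 = true := by decide +kernel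
theorem r1222 : allRange chk 22 42770 35 = true := by decide +kernel
theorem r1223 : allRange chk 22 42805 35 = true := by decide +kernel
theorem r1224 : allRange chk 22 42840 35 = true := by decide +kernel
theorem r1225 : allRange chk 22 42875 35 = true := by decide +kernel
theorem r1226 : allRange chk 22 42910 35 = true := by decide +kernel
theorem r1227 : allRange chk 22 42945 35 = true := by decide +kernel
theorem r1228 : allRange chk 22 42980 35 = true := by decide +kernel
theorem r1229 : allRange chk 22 43015 35 = true := by decide +kernel
theorem r1230 : allRange chk 22 43050 35 = true := by decide +kernel
theorem r1231 : allRange chk 22 43085 35 = true := by decide +kernel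
theorem r1232 : allRange chk 22 43120 35 = true := by decide +kernel
theorem r1233 : allRange chk 22 43155 35 = true := by decide +kernel
theorem r1234 : allRange chk 22 43190 35 = true := by decide +kernel
theorem r1235 : allRange chk 22 43225 35 = true := by decide +kernel
theorem r1236 : allRange chk 22 43260 35 = true := by decide +kernel
theorem r1237 : allRange chk 22 43295 35 = true := by decide +kernel
theorem r1238 : allRange chk 22 43330 35 = true := by decide +kernel
theorem r1239 : allRange chk 22 43365 35 = true := by decide +kernel
theorem r1240 : allRange chk 22 43400 35 = true := by decide +kernel
theorem r1241 : allRange chk 22 43435 35 = true := by decide +kernel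
theorem r1242 : allRange chk 22 43470 35 = true := by decide +kernel
theorem r1243 : allRange chk 22 43505 35 = true := by decide +kernel
theorem r1244 : allRange chk 22 43540 35 = true := by decide +kernel
theorem r1245 : allRange chk 22 43575 35 = true := by decide +kernel
theorem r1246 : allRange chk 22 43610 35 = true := by decide +kernel
theorem r1247 : allRange chk 22 43645 35 = true := by decide +kernel
theorem r1248 : allRange chk 22 43680 35 = true := by decide +kernel
theorem r1249 : allRange chk 22 43715 35 = true := by decide +kernel
theorem r1250 : allRange chk 22 43750 35 = true := by decide +kernel
theorem r1251 : allRange chk 22 43785 35 = true := by decide +kernel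
theorem r1252 : allRange chk 22 43820 35 = true := by decide +kernel
theorem r1253 : allRange chk 22 43855 35 = true := by decide +kernel
theorem r1254 : allRange chk 22 43890 35 = true := by decide +kernel
theorem r1255 : allRange chk 22 43925 35 = true := by decide +kernel
theorem r1256 : allRange chk 22 43960 35 = true := by decide +kernel
theorem r1257 : allRange chk 22 43995 35 = true := by decide +kernel
theorem r1258 : allRange chk 22 44030 35 = true := by decide +kernel
theorem r1259 : allRange chk 22 44065 35 = true := by decide +kernel
theorem r1260 : allRange chk 22 44100 35 = true := by decide +kernel
theorem r1261 : allRange chk 22 44135 35 = true := by decide +kernel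
theorem r1262 : allRange chk 22 44170 35 = true := by decide +kernel
theorem r1263 : allRange chk 22 44205 35 = true := by decide +kernel
theorem r1264 : allRange chk 22 44240 35 = true := by decide +kernel
theorem r1265 : allRange chk 22 44275 35 = true := by decide +kernel
theorem r1266 : allRange chk 22 44310 35 = true := by decide +kernel
theorem r1267 : allRange chk 22 44345 35 = true := by decide +kernel
theorem r1268 : allRange chk 22 44380 35 = true := by decide +kernel
theorem r1269 : allRange chk 22 44415 35 = true := by decide +kernel
theorem r1270 : allRange chk 22 44450 35 = true := by decide +kernel
theorem r1271 : allRange chk 22 44485 35 = true := by decide +kernel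
theorem r1272 : allRange chk 22 44520 35 = true := by decide +kernel
theorem r1273 : allRange chk 22 44555 35 = true := by decide +kernel
theorem r1274 : allRange chk 22 44590 35 = true := by decide +kernel
theorem r1275 : allRange chk 22 44625 35 = true := by decide +kernel
theorem r1276 : allRange chk 22 44660 35 = true := by decide +kernel
theorem r1277 : allRange chk 22 44695 35 = true := by decide +kernel
theorem r1278 : allRange chk 22 44730 35 = true := by decide +kernel
theorem r1279 : allRange chk 22 44765 35 = true := by decide +kernel
theorem r1280 : allRange chk 22 44800 35 = true := by decide +kernel
theorem r1281 : allRange chk 22 44835 35 = true := by decide +kernel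
theorem r1282 : allRange chk 22 44870 35 = true := by decide +kernel
theorem r1283 : allRange chk 22 44905 35 = true := by decide +kernel
theorem r1284 : allRange chk 22 44940 35 = true := by decide +kernel
theorem r1285 : allRange chk 22 44975 35 = true := by decide +kernel
theorem r1286 : allRange chk 22 45010 35 = true := by decide +kernel
theorem r1287 : allRange chk 22 45045 35 = true := by decide +kernel
theorem r1288 : allRange chk 22 45080 35 = true := by decide +kernel
theorem r1289 : allRange chk 22 45115 35 = true := by decide +kernel
theorem r1290 : allRange chk 22 45150 35 = true := by decide +kernel
theorem r1291 : allRange chk 22 45185 35 = true := by decide +kernel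
theorem r1292 : allRange chk 22 45220 35 = true := by decide +kernel
theorem r1293 : allRange chk 22 45255 35 = true := by decide +kernel
theorem r1294 : allRange chk 22 45290 35 = true := by decide +kernel
theorem r1295 : allRange chk 22 45325 35 = true := by decide +kernel
theorem r1296 : allRange chk 22 45360 35 = true := by decide +kernel
theorem r1297 : allRange chk 22 45395 35 = true := by decide +kernel
theorem r1298 : allRange chk 22 45430 35 = true := by decide +kernel
theorem r1299 : allRange chk 22 45465 35 = true := by decide +kernel
theorem r1300 : allRange chk 22 45500 35 = true := by decide +kernel
theorem r1301 : allRange chk 22 45535 35 = true := by decide +kernel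
theorem r1302 : allRange chk 22 45570 35 = true := by decide +kernel
theorem r1303 : allRange chk 22 45605 35 = true := by decide +kernel
theorem r1304 : allRange chk 22 45640 35 = true := by decide +kernel
theorem r1305 : allRange chk 22 45675 35 = true := by decide +kernel
theorem r1306 : allRange chk 22 45710 35 = true := by decide +kernel
theorem r1307 : allRange chk 22 45745 35 = true := by decide +kernel
theorem r1308 : allRange chk 22 45780 35 = true := by decide +kernel
theorem r1309 : allRange chk 22 45815 35 = true := by decide +kernel
theorem r1310 : allRange chk 22 45850 35 = true := by decide +kernel
theorem r1311 : allRange chk 22 45885 35 = true := by decide +kernel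
theorem r1312 : allRange chk 22 45920 35 = true := by decide +kernel
theorem r1313 : allRange chk 22 45955 35 = true := by decide +kernel
theorem r1314 : allRange chk 22 45990 35 = true := by decide +kernel
theorem r1315 : allRange chk 22 46025 35 = true := by decide +kernel
theorem r1316 : allRange chk 22 46060 35 = true := by decide +kernel
theorem r1317 : allRange chk 22 46095 35 = true := by decide +kernel
theorem r1318 : allRange chk 22 46130 35 = true := by decide +kernel
theorem r1319 : allRange chk 22 46165 35 = true := by decide +kernel
theorem r1320 : allRange chk 22 46200 35 = true := by decide +kernel
theorem r1321 : allRange chk 22 46235 35 = true := by decide +kernel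
theorem r1322 : allRange chk 22 46270 35 = true := by decide +kernel
theorem r1323 : allRange chk 22 46305 35 = true := by decide +kernel
theorem r1324 : allRange chk 22 46340 35 = true := by decide +kernel
theorem r1325 : allRange chk 22 46375 35 = true := by decide +kernel
theorem r1326 : allRange chk 22 46410 35 = true := by decide +kernel
theorem r1327 : allRange chk 22 46445 35 = true := by decide +kernel
theorem r1328 : allRange chk 22 46480 35 = true := by decide +kernel
theorem r1329 : allRange chk 22 46515 35 = true := by decide +kernel
theorem r1330 : allRange chk 22 46550 35 = true := by decide +kernel
theorem r1331 : allRange chk 22 46585 35 = true := by decide +kernel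
theorem r1332 : allRange chk 22 46620 35 = true := by decide +kernel
theorem r1333 : allRange chk 22 46655 35 = true := by decide +kernel
theorem r1334 : allRange chk 22 46690 35 = true := by decide +kernel
theorem r1335 : allRange chk 22 46725 35 = true := by decide +kernel
theorem r1336 : allRange chk 22 46760 35 = true := by decide +kernel
theorem r1337 : allRange chk 22 46795 35 = true := by decide +kernel
theorem r1338 : allRange chk 22 46830 35 = true := by decide +kernel
theorem r1339 : allRange chk 22 46865 35 = true := by decide +kernel
theorem r1340 : allRange chk 22 46900 35 = true := by decide +kernel
theorem r1341 : allRange chk 22 46935 35 = true := by decide +kernel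
theorem r1342 : allRange chk 22 46970 35 = true := by decide +kernel
theorem r1343 : allRange chk 22 47005 35 = true := by decide +kernel
theorem r1344 : allRange chk 22 47040 35 = true := by decide +kernel
theorem r1345 : allRange chk 22 47075 35 = true := by decide +kernel
theorem r1346 : allRange chk 22 47110 35 = true := by decide +kernel
theorem r1347 : allRange chk 22 47145 35 = true := by decide +kernel
theorem r1348 : allRange chk 22 47180 35 = true := by decide +kernel
theorem r1349 : allRange chk 22 47215 35 = true := by decide +kernel
theorem r1350 : allRange chk 22 47250 35 = true := by decide +kernel
theorem r1351 : allRange chk 22 47285 35 = true := by decide +kernel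
theorem r1352 : allRange chk 22 47320 35 = true := by decide +kernel
theorem r1353 : allRange chk 22 47355 35 = true := by decide +kernel
theorem r1354 : allRange chk 22 47390 35 = true := by decide +kernel
theorem r1355 : allRange chk 22 47425 35 = true := by decide +kernel
theorem r1356 : allRange chk 22 47460 35 = true := by decide +kernel
theorem r1357 : allRange chk 22 47495 35 = true := by decide +kernel
theorem r1358 : allRange chk 22 47530 35 = true := by decide +kernel
theorem r1359 : allRange chk 22 47565 35 = true := by decide +kernel
theorem r1360 : allRange chk 22 47600 35 = true := by decide +kernel
theorem r1361 : allRange chk 22 47635 35 = true := by decide +kernel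
theorem r1362 : allRange chk 22 47670 35 = true := by decide +kernel
theorem r1363 : allRange chk 22 47705 35 = true := by decide +kernel
theorem r1364 : allRange chk 22 47740 35 = true := by decide +kernel
theorem r1365 : allRange chk 22 47775 35 = true := by decide +kernel
theorem r1366 : allRange chk 22 47810 35 = true := by decide +kernel
theorem r1367 : allRange chk 22 47845 35 = true := by decide +kernel
theorem r1368 : allRange chk 22 47880 35 = true := by decide +kernel
theorem r1369 : allRange chk 22 47915 35 = true := by decide +kernel
theorem r1370 : allRange chk 22 47950 35 = true := by decide +kernel
theorem r1371 : allRange chk 22 47985 35 = true := by decide +kernel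
theorem r1372 : allRange chk 22 48020 35 = true := by decide +kernel
theorem r1373 : allRange chk 22 48055 35 = true := by decide +kernel
theorem r1374 : allRange chk 22 48090 35 = true := by decide +kernel
theorem r1375 : allRange chk 22 48125 35 = true := by decide +kernel
theorem r1376 : allRange chk 22 48160 35 = true := by decide +kernel
theorem r1377 : allRange chk 22 48195 35 = true := by decide +kernel
theorem r1378 : allRange chk 22 48230 35 = true := by decide +kernel
theorem r1379 : allRange chk 22 48265 35 = true := by decide +kernel
theorem r1380 : allRange chk 22 48300 35 = true := by decide +kernel
theorem r1381 : allRange chk 22 48335 35 = true := by decide +kernel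
theorem r1382 : allRange chk 22 48370 35 = true := by decide +kernel
theorem r1383 : allRange chk 22 48405 35 = true := by decide +kernel
theorem r1384 : allRange chk 22 48440 35 = true := by decide +kernel
theorem r1385 : allRange chk 22 48475 35 = true := by decide +kernel
theorem r1386 : allRange chk 22 48510 35 = true := by decide +kernel
theorem r1387 : allRange chk 22 48545 35 = true := by decide +kernel
theorem r1388 : allRange chk 22 48580 35 = true := by decide +kernel
theorem r1389 : allRange chk 22 48615 35 = true := by decide +kernel
theorem r1390 : allRange chk 22 48650 35 = true := by decide +kernel
theorem r1391 : allRange chk 22 48685 35 = true := by decide +kernel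
theorem r1392 : allRange chk 22 48720 35 = true := by decide +kernel
theorem r1393 : allRange chk 22 48755 35 = true := by decide +kernel
theorem r1394 : allRange chk 22 48790 35 = true := by decide +kernel
theorem r1395 : allRange chk 22 48825 35 = true := by decide +kernel
theorem r1396 : allRange chk 22 48860 35 = true := by decide +kernel
theorem r1397 : allRange chk 22 48895 35 = true := by decide +kernel
theorem r1398 : allRange chk 22 48930 35 = true := by decide +kernel
theorem r1399 : allRange chk 22 48965 35 = true := by decide +kernel
theorem r1400 : allRange chk 22 49000 35 = true := by decide +kernel
theorem r1401 : allRange chk 22 49035 35 = true := by decide +kernel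
theorem r1402 : allRange chk 22 49070 35 = true := by decide +kernel
theorem r1403 : allRange chk 22 49105 35 = true := by decide +kernel
theorem r1404 : allRange chk 22 49140 35 = true := by decide +kernel
theorem r1405 : allRange chk 22 49175 35 = true := by decide +kernel
theorem r1406 : allRange chk 22 49210 35 = true := by decide +kernel
theorem r1407 : allRange chk 22 49245 35 = true := by decide +kernel
theorem r1408 : allRange chk 22 49280 35 = true := by decide +kernel
theorem r1409 : allRange chk 22 49315 35 = true := by decide +kernel
theorem r1410 : allRange chk 22 49350 35 = true := by decide +kernel
theorem r1411 : allRange chk 22 49385 35 = true := by decide +kernel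
theorem r1412 : allRange chk 22 49420 35 = true := by decide +kernel
theorem r1413 : allRange chk 22 49455 35 = true := by decide +kernel
theorem r1414 : allRange chk 22 49490 35 = true := by decide +kernel
theorem r1415 : allRange chk 22 49525 35 = true := by decide +kernel
theorem r1416 : allRange chk 22 49560 35 = true := by decide +kernel
theorem r1417 : allRange chk 22 49595 35 = true := by decide +kernel
theorem r1418 : allRange chk 22 49630 35 = true := by decide +kernel
theorem r1419 : allRange chk 22 49665 35 = true := by decide +kernel
theorem r1420 : allRange chk 22 49700 35 = true := by decide +kernel
theorem r1421 : allRange chk 22 49735 35 = true := by decide +kernel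
theorem r1422 : allRange chk 22 49770 35 = true := by decide +kernel
theorem r1423 : allRange chk 22 49805 35 = true := by decide +kernel
theorem r1424 : allRange chk 22 49840 35 = true := by decide +kernel
theorem r1425 : allRange chk 22 49875 35 = true := by decide +kernel
theorem r1426 : allRange chk 22 49910 35 = true := by decide +kernel
theorem r1427 : allRange chk 22 49945 35 = true := by decide +kernel
theorem r1428 : allRange chk 22 49980 35 = true := by decide +kernel
theorem r1429 : allRange chk 22 50015 35 = true := by decide +kernel
theorem r1430 : allRange chk 22 50050 35 = true := by decide +kernel
theorem r1431 : allRange chk 22 50085 35 = true := by decide +kernel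
theorem r1432 : allRange chk 22 50120 35 = true := by decide +kernel
theorem r1433 : allRange chk 22 50155 35 = true := by decide +kernel
theorem r1434 : allRange chk 22 50190 35 = true := by decide +kernel
theorem r1435 : allRange chk 22 50225 35 = true := by decide +kernel
theorem r1436 : allRange chk 22 50260 35 = true := by decide +kernel
theorem r1437 : allRange chk 22 50295 35 = true := by decide +kernel
theorem r1438 : allRange chk 22 50330 35 = true := by decide +kernel
theorem r1439 : allRange chk 22 50365 35 = true := by decide +kernel
theorem r1440 : allRange chk 22 50400 35 = true := by decide +kernel
theorem r1441 : allRange chk 22 50435 35 = true := by decide +kernel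
theorem r1442 : allRange chk 22 50470 35 = true := by decide +kernel
theorem r1443 : allRange chk 22 50505 35 = true := by decide +kernel
theorem r1444 : allRange chk 22 50540 35 = true := by decide +kernel
theorem r1445 : allRange chk 22 50575 35 = true := by decide +kernel
theorem r1446 : allRange chk 22 50610 35 = true := by decide +kernel
theorem r1447 : allRange chk 22 50645 35 = true := by decide +kernel
theorem r1448 : allRange chk 22 50680 35 = true := by decide +kernel
theorem r1449 : allRange chk 22 50715 35 = true := by decide +kernel
theorem r1450 : allRange chk 22 50750 35 = true := by decide +kernel
theorem r1451 : allRange chk 22 50785 35 = true := by decide +kernel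
theorem r1452 : allRange chk 22 50820 35 = true := by decide +kernel
theorem r1453 : allRange chk 22 50855 35 = true := by decide +kernel
theorem r1454 : allRange chk 22 50890 35 = true := by decide +kernel
theorem r1455 : allRange chk 22 50925 35 = true := by decide +kernel
theorem r1456 : allRange chk 22 50960 35 = true := by decide +kernel
theorem r1457 : allRange chk 22 50995 35 = true := by decide +kernel
theorem r1458 : allRange chk 22 51030 35 = true := by decide +kernel
theorem r1459 : allRange chk 22 51065 35 = true := by decide +kernel
theorem r1460 : allRange chk 22 51100 35 = true := by decide +kernel
theorem r1461 : allRange chk 22 51135 35 = true := by decide +kernel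
theorem r1462 : allRange chk 22 51170 35 = true := by decide +kernel
theorem r1463 : allRange chk 22 51205 35 = true := by decide +kernel
theorem r1464 : allRange chk 22 51240 35 = true := by decide +kernel
theorem r1465 : allRange chk 22 51275 35 = true := by decide +kernel
theorem r1466 : allRange chk 22 51310 35 = true := by decide +kernel
theorem r1467 : allRange chk 22 51345 35 = true := by decide +kernel
theorem r1468 : allRange chk 22 51380 35 = true := by decide +kernel
theorem r1469 : allRange chk 22 51415 35 = true := by decide +kernel
theorem r1470 : allRange chk 22 51450 35 = true := by decide +kernel
theorem r1471 : allRange chk 22 51485 35 = true := by decide +kernel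
theorem r1472 : allRange chk 22 51520 35 = true := by decide +kernel
theorem r1473 : allRange chk 22 51555 35 = true := by decide +kernel
theorem r1474 : allRange chk 22 51590 35 = true := by decide +kernel
theorem r1475 : allRange chk 22 51625 35 = true := by decide +kernel
theorem r1476 : allRange chk 22 51660 35 = true := by decide +kernel
theorem r1477 : allRange chk 22 51695 35 = true := by decide +kernel
theorem r1478 : allRange chk 22 51730 35 = true := by decide +kernel
theorem r1479 : allRange chk 22 51765 35 = true := by decide +kernel
theorem r1480 : allRange chk 22 51800 35 = true := by decide +kernel
theorem r1481 : allRange chk 22 51835 35 = true := by decide +kernel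
theorem r1482 : allRange chk 22 51870 35 = true := by decide +kernel
theorem r1483 : allRange chk 22 51905 35 = true := by decide +kernel
theorem r1484 : allRange chk 22 51940 35 = true := by decide +kernel
theorem r1485 : allRange chk 22 51975 35 = true := by decide +kernel
theorem r1486 : allRange chk 22 52010 35 = true := by decide +kernel
theorem r1487 : allRange chk 22 52045 35 = true := by decide +kernel
theorem r1488 : allRange chk 22 52080 35 = true := by decide +kernel
theorem r1489 : allRange chk 22 52115 35 = true := by decide +kernel
theorem r1490 : allRange chk 22 52150 35 = true := by decide +kernel
theorem r1491 : allRange chk 22 52185 35 = true := by decide +kernel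
theorem r1492 : allRange chk 22 52220 35 = true := by decide +kernel
theorem r1493 : allRange chk 22 52255 35 = true := by decide +kernel
theorem r1494 : allRange chk 22 52290 35 = true := by decide +kernel
theorem r1495 : allRange chk 22 52325 35 = true := by decide +kernel
theorem r1496 : allRange chk 22 52360 35 = true := by decide +kernel
theorem r1497 : allRange chk 22 52395 35 = true := by decide +kernel
theorem r1498 : allRange chk 22 52430 35 = true := by decide +kernel
theorem r1499 : allRange chk 22 52465 35 = true := by decide +kernel
theorem r1500 : allRange chk 22 52500 35 = true := by decide +kernel
theorem r1501 : allRange chk 22 52535 35 = true := by decide +kernel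
theorem r1502 : allRange chk 22 52570 35 = true := by decide +kernel
theorem r1503 : allRange chk 22 52605 35 = true := by decide +kernel
theorem r1504 : allRange chk 22 52640 35 = true := by decide +kernel
theorem r1505 : allRange chk 22 52675 35 = true := by decide +kernel
theorem r1506 : allRange chk 22 52710 35 = true := by decide +kernel
theorem r1507 : allRange chk 22 52745 35 = true := by decide +kernel
theorem r1508 : allRange chk 22 52780 35 = true := by decide +kernel
theorem r1509 : allRange chk 22 52815 35 = true := by decide +kernel
theorem r1510 : allRange chk 22 52850 35 = true := by decide +kernel
theorem r1511 : allRange chk 22 52885 35 = true := by decide +kernel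
theorem r1512 : allRange chk 22 52920 35 = true := by decide +kernel
theorem r1513 : allRange chk 22 52955 35 = true := by decide +kernel
theorem r1514 : allRange chk 22 52990 35 = true := by decide +kernel
theorem r1515 : allRange chk 22 53025 35 = true := by decide +kernel
theorem r1516 : allRange chk 22 53060 35 = true := by decide +kernel
theorem r1517 : allRange chk 22 53095 35 = true := by decide +kernel
theorem r1518 : allRange chk 22 53130 35 = true := by decide +kernel
theorem r1519 : allRange chk 22 53165 35 = true := by decide +kernel
theorem r1520 : allRange chk 22 53200 35 = true := by decide +kernel
theorem r1521 : allRange chk 22 53235 35 = true := by decide +kernel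
theorem r1522 : allRange chk 22 53270 35 = true := by decide +kernel
theorem r1523 : allRange chk 22 53305 35 = true := by decide +kernel
theorem r1524 : allRange chk 22 53340 35 = true := by decide +kernel
theorem r1525 : allRange chk 22 53375 35 = true := by decide +kernel
theorem r1526 : allRange chk 22 53410 35 = true := by decide +kernel
theorem r1527 : allRange chk 22 53445 35 = true := by decide +kernel
theorem r1528 : allRange chk 22 53480 35 = true := by decide +kernel
theorem r1529 : allRange chk 22 53515 35 = true := by decide +kernel
theorem r1530 : allRange chk 22 53550 35 = true := by decide +kernel
theorem r1531 : allRange chk 22 53585 35 = true := by decide +kernel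
theorem r1532 : allRange chk 22 53620 35 = true := by decide +kernel
theorem r1533 : allRange chk 22 53655 35 = true := by decide +kernel
theorem r1534 : allRange chk 22 53690 35 = true := by decide +kernel
theorem r1535 : allRange chk 22 53725 35 = true := by decide +kernel
theorem r1536 : allRange chk 22 53760 35 = true := by decide +kernel
theorem r1537 : allRange chk 22 53795 35 = true := by decide +kernel
theorem r1538 : allRange chk 22 53830 35 = true := by decide +kernel
theorem r1539 : allRange chk 22 53865 35 = true := by decide +kernel
theorem r1540 : allRange chk 22 53900 35 = true := by decide +kernel
theorem r1541 : allRange chk 22 53935 35 = true := by decide +kernel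
theorem r1542 : allRange chk 22 53970 35 = true := by decide +kernel
theorem r1543 : allRange chk 22 54005 35 = true := by decide +kernel
theorem r1544 : allRange chk 22 54040 35 = true := by decide +kernel
theorem r1545 : allRange chk 22 54075 35 = true := by decide +kernel
theorem r1546 : allRange chk 22 54110 35 = true := by decide +kernel
theorem r1547 : allRange chk 22 54145 35 = true := by decide +kernel
theorem r1548 : allRange chk 22 54180 35 = true := by decide +kernel
theorem r1549 : allRange chk 22 54215 35 = true := by decide +kernel
theorem r1550 : allRange chk 22 54250 35 = true := by decide +kernel
theorem r1551 : allRange chk 22 54285 35 = true := by decide +kernel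
theorem r1552 : allRange chk 22 54320 35 = true := by decide +kernel
theorem r1553 : allRange chk 22 54355 35 = true := by decide +kernel
theorem r1554 : allRange chk 22 54390 35 = true := by decide +kernel
theorem r1555 : allRange chk 22 54425 35 = true := by decide +kernel
theorem r1556 : allRange chk 22 54460 35 = true := by decide +kernel
theorem r1557 : allRange chk 22 54495 35 = true := by decide +kernel
theorem r1558 : allRange chk 22 54530 35 = true := by decide +kernel
theorem r1559 : allRange chk 22 54565 35 = true := by decide +kernel
theorem r1560 : allRange chk 22 54600 35 = true := by decide +kernel
theorem r1561 : allRange chk 22 54635 35 = true := by decide +kernel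
theorem r1562 : allRange chk 22 54670 35 = true := by decide +kernel
theorem r1563 : allRange chk 22 54705 35 = true := by decide +kernel
theorem r1564 : allRange chk 22 54740 35 = true := by decide +kernel
theorem r1565 : allRange chk 22 54775 35 = true := by decide +kernel
theorem r1566 : allRange chk 22 54810 35 = true := by decide +kernel
theorem r1567 : allRange chk 22 54845 35 = true := by decide +kernel
theorem r1568 : allRange chk 22 54880 35 = true := by decide +kernel
theorem r1569 : allRange chk 22 54915 35 = true := by decide +kernel
theorem r1570 : allRange chk 22 54950 35 = true := by decide +kernel
theorem r1571 : allRange chk 22 54985 35 = true := by decide +kernel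
theorem r1572 : allRange chk 22 55020 35 = true := by decide +kernel
theorem r1573 : allRange chk 22 55055 35 = true := by decide +kernel
theorem r1574 : allRange chk 22 55090 35 = true := by decide +kernel
theorem r1575 : allRange chk 22 55125 35 = true := by decide +kernel
theorem r1576 : allRange chk 22 55160 35 = true := by decide +kernel
theorem r1577 : allRange chk 22 55195 35 = true := by decide +kernel
theorem r1578 : allRange chk 22 55230 35 = true := by decide +kernel
theorem r1579 : allRange chk 22 55265 35 = true := by decide +kernel
theorem r1580 : allRange chk 22 55300 35 = true := by decide +kernel
theorem r1581 : allRange chk 22 55335 35 = true := by decide +kernel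
theorem r1582 : allRange chk 22 55370 35 = true := by decide +kernel
theorem r1583 : allRange chk 22 55405 35 = true := by decide +kernel
theorem r1584 : allRange chk 22 55440 35 = true := by decide +kernel
theorem r1585 : allRange chk 22 55475 35 = true := by decide +kernel
theorem r1586 : allRange chk 22 55510 35 = true := by decide +kernel
theorem r1587 : allRange chk 22 55545 35 = true := by decide +kernel
theorem r1588 : allRange chk 22 55580 35 = true := by decide +kernel
theorem r1589 : allRange chk 22 55615 35 = true := by decide +kernel
theorem r1590 : allRange chk 22 55650 35 = true := by decide +kernel
theorem r1591 : allRange chk 22 55685 35 = true := by decide +kernel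
theorem r1592 : allRange chk 22 55720 35 = true := by decide +kernel
theorem r1593 : allRange chk 22 55755 35 = true := by decide +kernel
theorem r1594 : allRange chk 22 55790 35 = true := by decide +kernel
theorem r1595 : allRange chk 22 55825 35 = true := by decide +kernel
theorem r1596 : allRange chk 22 55860 35 = true := by decide +kernel
theorem r1597 : allRange chk 22 55895 35 = true := by decide +kernel
theorem r1598 : allRange chk 22 55930 35 = true := by decide +kernel
theorem r1599 : allRange chk 22 55965 35 = true := by decide +kernel
theorem r1600 : allRange chk 22 56000 35 = true := by decide +kernel
theorem r1601 : allRange chk 22 56035 35 = true := by decide +kernel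
theorem r1602 : allRange chk 22 56070 35 = true := by decide +kernel
theorem r1603 : allRange chk 22 56105 35 = true := by decide +kernel
theorem r1604 : allRange chk 22 56140 35 = true := by decide +kernel
theorem r1605 : allRange chk 22 56175 35 = true := by decide +kernel
theorem r1606 : allRange chk 22 56210 35 = true := by decide +kernel
theorem r1607 : allRange chk 22 56245 35 = true := by decide +kernel
theorem r1608 : allRange chk 22 56280 35 = true := by decide +kernel
theorem r1609 : allRange chk 22 56315 35 = true := by decide +kernel
theorem r1610 : allRange chk 22 56350 35 = true := by decide +kernel
theorem r1611 : allRange chk 22 56385 35 = true := by decide +kernel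
theorem r1612 : allRange chk 22 56420 35 = true := by decide +kernel
theorem r1613 : allRange chk 22 56455 35 = true := by decide +kernel
theorem r1614 : allRange chk 22 56490 35 = true := by decide +kernel
theorem r1615 : allRange chk 22 56525 35 = true := by decide +kernel
theorem r1616 : allRange chk 22 56560 35 = true := by decide +kernel
theorem r1617 : allRange chk 22 56595 35 = true := by decide +kernel
theorem r1618 : allRange chk 22 56630 35 = true := by decide +kernel
theorem r1619 : allRange chk 22 56665 35 = true := by decide +kernel
theorem r1620 : allRange chk 22 56700 35 = true := by decide +kernel
theorem r1621 : allRange chk 22 56735 35 = true := by decide +kernel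
theorem r1622 : allRange chk 22 56770 35 = true := by decide +kernel
theorem r1623 : allRange chk 22 56805 35 = true := by decide +kernel
theorem r1624 : allRange chk 22 56840 35 = true := by decide +kernel
theorem r1625 : allRange chk 22 56875 35 = true := by decide +kernel
theorem r1626 : allRange chk 22 56910 35 = true := by decide +kernel
theorem r1627 : allRange chk 22 56945 35 = true := by decide +kernel
theorem r1628 : allRange chk 22 56980 35 = true := by decide +kernel
theorem r1629 : allRange chk 22 57015 35 = true := by decide +kernel
theorem r1630 : allRange chk 22 57050 35 = true := by decide +kernel
theorem r1631 : allRange chk 22 57085 35 = true := by decide +kernel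
theorem r1632 : allRange chk 22 57120 35 = true := by decide +kernel
theorem r1633 : allRange chk 22 57155 35 = true := by decide +kernel
theorem r1634 : allRange chk 22 57190 35 = true := by decide +kernel
theorem r1635 : allRange chk 22 57225 35 = true := by decide +kernel
theorem r1636 : allRange chk 22 57260 35 = true := by decide +kernel
theorem r1637 : allRange chk 22 57295 35 = true := by decide +kernel
theorem r1638 : allRange chk 22 57330 35 = true := by decide +kernel
theorem r1639 : allRange chk 22 57365 35 = true := by decide +kernel
theorem r1640 : allRange chk 22 57400 35 = true := by decide +kernel
theorem r1641 : allRange chk 22 57435 35 = true := by decide +kernel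
theorem r1642 : allRange chk 22 57470 35 = true := by decide +kernel
theorem r1643 : allRange chk 22 57505 35 = true := by decide +kernel
theorem r1644 : allRange chk 22 57540 35 = true := by decide +kernel
theorem r1645 : allRange chk 22 57575 35 = true := by decide +kernel
theorem r1646 : allRange chk 22 57610 35 = true := by decide +kernel
theorem r1647 : allRange chk 22 57645 35 = true := by decide +kernel
theorem r1648 : allRange chk 22 57680 35 = true := by decide +kernel
theorem r1649 : allRange chk 22 57715 35 = true := by decide +kernel
theorem r1650 : allRange chk 22 57750 35 = true := by decide +kernel
theorem r1651 : allRange chk 22 57785 35 = true := by decide +kernel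
theorem r1652 : allRange chk 22 57820 35 = true := by decide +kernel
theorem r1653 : allRange chk 22 57855 35 = true := by decide +kernel
theorem r1654 : allRange chk 22 57890 35 = true := by decide +kernel
theorem r1655 : allRange chk 22 57925 35 = true := by decide +kernel
theorem r1656 : allRange chk 22 57960 35 = true := by decide +kernel
theorem r1657 : allRange chk 22 57995 35 = true := by decide +kernel
theorem r1658 : allRange chk 22 58030 35 = true := by decide +kernel
theorem r1659 : allRange chk 22 58065 35 = true := by decide +kernel
theorem r1660 : allRange chk 22 58100 35 = true := by decide +kernel
theorem r1661 : allRange chk 22 58135 35 = true := by decide +kernel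
theorem r1662 : allRange chk 22 58170 35 = true := by decide +kernel
theorem r1663 : allRange chk 22 58205 35 = true := by decide +kernel
theorem r1664 : allRange chk 22 58240 35 = true := by decide +kernel
theorem r1665 : allRange chk 22 58275 35 = true := by decide +kernel
theorem r1666 : allRange chk 22 58310 35 = true := by decide +kernel
theorem r1667 : allRange chk 22 58345 35 = true := by decide +kernel
theorem r1668 : allRange chk 22 58380 35 = true := by decide +kernel
theorem r1669 : allRange chk 22 58415 35 = true := by decide +kernel
theorem r1670 : allRange chk 22 58450 35 = true := by decide +kernel
theorem r1671 : allRange chk 22 58485 35 = true := by decide +kernel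
theorem r1672 : allRange chk 22 58520 35 = true := by decide +kernel
theorem r1673 : allRange chk 22 58555 35 = true := by decide +kernel
theorem r1674 : allRange chk 22 58590 35 = true := by decide +kernel
theorem r1675 : allRange chk 22 58625 35 = true := by decide +kernel
theorem r1676 : allRange chk 22 58660 35 = true := by decide +kernel
theorem r1677 : allRange chk 22 58695 35 = true := by decide +kernel
theorem r1678 : allRange chk 22 58730 35 = true := by decide +kernel
theorem r1679 : allRange chk 22 58765 35 = true := by decide +kernel
theorem r1680 : allRange chk 22 58800 35 = true := by decide +kernel
theorem r1681 : allRange chk 22 58835 35 = true := by decide +kernel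
theorem r1682 : allRange chk 22 58870 35 = true := by decide +kernel
theorem r1683 : allRange chk 22 58905 35 = true := by decide +kernel
theorem r1684 : allRange chk 22 58940 35 = true := by decide +kernel
theorem r1685 : allRange chk 22 58975 35 = true := by decide +kernel
theorem r1686 : allRange chk 22 59010 35 = true := by decide +kernel
theorem r1687 : allRange chk 22 59045 35 = true := by decide +kernel
theorem r1688 : allRange chk 22 59080 35 = true := by decide +kernel
theorem r1689 : allRange chk 22 59115 35 = true := by decide +kernel
theorem r1690 : allRange chk 22 59150 35 = true := by decide +kernel
theorem r1691 : allRange chk 22 59185 35 = true := by decide +kernel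
theorem r1692 : allRange chk 22 59220 35 = true := by decide +kernel
theorem r1693 : allRange chk 22 59255 35 = true := by decide +kernel
theorem r1694 : allRange chk 22 59290 35 = true := by decide +kernel
theorem r1695 : allRange chk 22 59325 35 = true := by decide +kernel
theorem r1696 : allRange chk 22 59360 35 = true := by decide +kernel
theorem r1697 : allRange chk 22 59395 35 = true := by decide +kernel
theorem r1698 : allRange chk 22 59430 35 = true := by decide +kernel
theorem r1699 : allRange chk 22 59465 35 = true := by decide +kernel
theorem r1700 : allRange chk 22 59500 35 = true := by decide +kernel
theorem r1701 : allRange chk 22 59535 35 = true := by decide +kernel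
theorem r1702 : allRange chk 22 59570 35 = true := by decide +kernel
theorem r1703 : allRange chk 22 59605 35 = true := by decide +kernel
theorem r1704 : allRange chk 22 59640 35 = true := by decide +kernel
theorem r1705 : allRange chk 22 59675 35 = true := by decide +kernel
theorem r1706 : allRange chk 22 59710 35 = true := by decide +kernel
theorem r1707 : allRange chk 22 59745 35 = true := by decide +kernel
theorem r1708 : allRange chk 22 59780 35 = true := by decide +kernel
theorem r1709 : allRange chk 22 59815 35 = true := by decide +kernel
theorem r1710 : allRange chk 22 59850 35 = true := by decide +kernel
theorem r1711 : allRange chk 22 59885 35 = true := by decide +kernel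
theorem r1712 : allRange chk 22 59920 35 = true := by decide +kernel
theorem r1713 : allRange chk 22 59955 35 = true := by decide +kernel
theorem r1714 : allRange chk 22 59990 35 = true := by decide +kernel
theorem r1715 : allRange chk 22 60025 35 = true := by decide +kernel
theorem r1716 : allRange chk 22 60060 35 = true := by decide +kernel
theorem r1717 : allRange chk 22 60095 35 = true := by decide +kernel
theorem r1718 : allRange chk 22 60130 35 = true := by decide +kernel
theorem r1719 : allRange chk 22 60165 35 = true := by decide +kernel
theorem r1720 : allRange chk 22 60200 35 = true := by decide +kernel
theorem r1721 : allRange chk 22 60235 35 = true := by decide +kernel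
theorem r1722 : allRange chk 22 60270 35 = true := by decide +kernel
theorem r1723 : allRange chk 22 60305 35 = true := by decide +kernel
theorem r1724 : allRange chk 22 60340 35 = true := by decide +kernel
theorem r1725 : allRange chk 22 60375 35 = true := by decide +kernel
theorem r1726 : allRange chk 22 60410 35 = true := by decide +kernel
theorem r1727 : allRange chk 22 60445 35 = true := by decide +kernel
theorem r1728 : allRange chk 22 60480 35 = true := by decide +kernel
theorem r1729 : allRange chk 22 60515 35 = true := by decide +kernel
theorem r1730 : allRange chk 22 60550 35 = true := by decide +kernel
theorem r1731 : allRange chk 22 60585 35 = true := by decide +kernel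
theorem r1732 : allRange chk 22 60620 35 = true := by decide +kernel
theorem r1733 : allRange chk 22 60655 35 = true := by decide +kernel
theorem r1734 : allRange chk 22 60690 35 = true := by decide +kernel
theorem r1735 : allRange chk 22 60725 35 = true := by decide +kernel
theorem r1736 : allRange chk 22 60760 35 = true := by decide +kernel
theorem r1737 : allRange chk 22 60795 35 = true := by decide +kernel
theorem r1738 : allRange chk 22 60830 35 = true := by decide +kernel
theorem r1739 : allRange chk 22 60865 35 = true := by decide +kernel
theorem r1740 : allRange chk 22 60900 35 = true := by decide +kernel
theorem r1741 : allRange chk 22 60935 35 = true := by decide +kernel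
theorem r1742 : allRange chk 22 60970 35 = true := by decide +kernel
theorem r1743 : allRange chk 22 61005 35 = true := by decide +kernel
theorem r1744 : allRange chk 22 61040 35 = true := by decide +kernel
theorem r1745 : allRange chk 22 61075 35 = true := by decide +kernel
theorem r1746 : allRange chk 22 61110 35 = true := by decide +kernel
theorem r1747 : allRange chk 22 61145 35 = true := by decide +kernel
theorem r1748 : allRange chk 22 61180 35 = true := by decide +kernel
theorem r1749 : allRange chk 22 61215 35 = true := by decide +kernel
theorem r1750 : allRange chk 22 61250 35 = true := by decide +kernel
theorem r1751 : allRange chk 22 61285 35 = true := by decide +kernel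
theorem r1752 : allRange chk 22 61320 35 = true := by decide +kernel
theorem r1753 : allRange chk 22 61355 35 = true := by decide +kernel

end Cfsg.Agent.Lib.Helper28_ONLB0
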