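import Cfsg.Agent.Lib.Helper28_ONLB0D

set_option autoImplicit false
set_option linter.constructorNameAsVariable false
set_option Elab.async false

namespace Cfsg.Agent.Lib.Helper28_ONLB0

open Cfsg.Spor Cfsg.Agent.Lib.Helper28_CosetPerm Cfsg.Agent.Lib.Helper28_OrbitLB Cfsg.Agent.Lib.Helper28_S1692 Cfsg.Agent.Lib.Helper28_S1692Tab

theorem r1754 : allRange chk 22 61390 35 = true := by decide +kernel
theorem r1755 : allRange chk 22 61425 35 = true := by decide +kernel
theorem r1756 : allRange chk 22 61460 35 = true := by decide +kernel
theorem r1757 : allRange chk 22 61495 35 = true := by decide +kernel
theorem r1758 : allRange chk 22 61530 35 = true := by decide +kernel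
theorem r1759 : allRange chk 22 61565 35 = true := by decide +kernel
theorem r1760 : allRange chk 22 61600 35 = true := by decide +kernel
theorem r1761 : allRange chk 22 61635 35 = true := by decide +kernel
theorem r1762 : allRange chk 22 61670 35 = true := by decide +kernel
theorem r1763 : allRange chk 22 61705 35 = true := by decide +kernel
theorem r1764 : allRange chk 22 61740 35 = true := by decide +kernel
theorem r1765 : allRange chk 22 61775 35 = true := by decide +kernel
theorem r1766 : allRange chk 22 61810 35 = true := by decide +kernel
theorem r1767 : allRange chk 22 61845 35 = true := by decide +kernel
theorem r1768 : allRange chk 22 61880 35 = true := by decide +kernel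
theorem r1769 : allRange chk 22 61915 35 = true := by decide +kernel
theorem r1770 : allRange chk 22 61950 35 = true := by decide +kernel
theorem r1771 : allRange chk 22 61985 35 = true := by decide +kernel
theorem r1772 : allRange chk 22 62020 35 = true := by decide +kernel
theorem r1773 : allRange chk 22 62055 35 = true := by decide +kernel
theorem r1774 : allRange chk 22 62090 35 = true := by decide +kernel
theorem r1775 : allRange chk 22 62125 35 = true := by decide +kernel
theorem r1776 : allRange chk 22 62160 35 = true := by decide +kernel
theorem r1777 : allRange chk 22 62195 35 = true := by decide +kernel
theorem r1778 : allRange chk 22 62230 35 = true := by decide +kernel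
theorem r1779 : allRange chk 22 62265 35 = true := by decide +kernel
theorem r1780 : allRange chk 22 62300 35 = true := by decide +kernel
theorem r1781 : allRange chk 22 62335 35 = true := by decide +kernel
theorem r1782 : allRange chk 22 62370 35 = true := by decide +kernel
theorem r1783 : allRange chk 22 62405 35 = true := by decide +kernel
theorem r1784 : allRange chk 22 62440 35 = true := by decide +kernel
theorem r1785 : allRange chk 22 62475 35 = true := by decide +kernel
theorem r1786 : allRange chk 22 62510 35 = true := by decide +kernel
theorem r1787 : allRange chk 22 62545 35 = true := by decide +kernel
theorem r1788 : allRange chk 22 62580 35 = true := by decide +kernel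
theorem r1789 : allRange chk 22 62615 35 = true := by decide +kernel
theorem r1790 : allRange chk 22 62650 35 = true := by decide +kernel
theorem r1791 : allRange chk 22 62685 35 = true := by decide +kernel
theorem r1792 : allRange chk 22 62720 35 = true := by decide +kernel
theorem r1793 : allRange chk 22 62755 35 = true := by decide +kernel
theorem r1794 : allRange chk 22 62790 35 = true := by decide +kernel
theorem r1795 : allRange chk 22 62825 35 = true := by decide +kernel
theorem r1796 : allRange chk 22 62860 35 = true := by decide +kernel
theorem r1797 : allRange chk 22 62895 35 = true := by decide +kernel
theorem r1798 : allRange chk 22 62930 35 = true := by decide +kernel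
theorem r1799 : allRange chk 22 62965 35 = true := by decide +kernel
theorem r1800 : allRange chk 22 63000 35 = true := by decide +kernel
theorem r1801 : allRange chk 22 63035 35 = true := by decide +kernel
theorem r1802 : allRange chk 22 63070 35 = true := by decide +kernel
theorem r1803 : allRange chk 22 63105 35 = true := by decide +kernel
theorem r1804 : allRange chk 22 63140 35 = true := by decide +kernel
theorem r1805 : allRange chk 22 63175 35 = true := by decide +kernel
theorem r1806 : allRange chk 22 63210 35 = true := by decide +kernel
theorem r1807 : allRange chk 22 63245 35 = true := by decide +kernel
theorem r1808 : allRange chk 22 63280 35 = true := by decide +kernel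
theorem r1809 : allRange chk 22 63315 35 = true := by decide +kernel
theorem r1810 : allRange chk 22 63350 35 = true := by decide +kernel
theorem r1811 : allRange chk 22 63385 35 = true := by decide +kernel
theorem r1812 : allRange chk 22 63420 35 = true := by decide +kernel
theorem r1813 : allRange chk 22 63455 35 = true := by decide +kernel
theorem r1814 : allRange chk 22 63490 35 = true := by decide +kernel
theorem r1815 : allRange chk 22 63525 35 = true := by decide +kernel
theorem r1816 : allRange chk 22 63560 35 = true := by decide +kernel
theorem r1817 : allRange chk 22 63595 35 = true := by decide +kernel
theorem r1818 : allRange chk 22 63630 35 = true := by decide +kernel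
theorem r1819 : allRange chk 22 63665 35 = true := by decide +kernel
theorem r1820 : allRange chk 22 63700 35 = true := by decide +kernel
theorem r1821 : allRange chk 22 63735 35 = true := by decide +kernel
theorem r1822 : allRange chk 22 63770 35 = true := by decide +kernel
theorem r1823 : allRange chk 22 63805 35 = true := by decide +kernel
theorem r1824 : allRange chk 22 63840 35 = true := by decide +kernel
theorem r1825 : allRange chk 22 63875 35 = true := by decide +kernel
theorem r1826 : allRange chk 22 63910 35 = true := by decide +kernel
theorem r1827 : allRange chk 22 63945 35 = true := by decide +kernel
theorem r1828 : allRange chk 22 63980 35 = true := by decide +kernel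
theorem r1829 : allRange chk 22 64015 35 = true := by decide +kernel
theorem r1830 : allRange chk 22 64050 35 = true := by decide +kernel
theorem r1831 : allRange chk 22 64085 35 = true := by decide +kernel
theorem r1832 : allRange chk 22 64120 35 = true := by decide +kernel
theorem r1833 : allRange chk 22 64155 35 = true := by decide +kernel
theorem r1834 : allRange chk 22 64190 35 = true := by decide +kernel
theorem r1835 : allRange chk 22 64225 35 = true := by decide +kernel
theorem r1836 : allRange chk 22 64260 35 = true := by decide +kernel
theorem r1837 : allRange chk 22 64295 35 = true := by decide +kernel
theorem r1838 : allRange chk 22 64330 35 = true := by decide +kernel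
theorem r1839 : allRange chk 22 64365 35 = true := by decide +kernel
theorem r1840 : allRange chk 22 64400 35 = true := by decide +kernel
theorem r1841 : allRange chk 22 64435 35 = true := by decide +kernel
theorem r1842 : allRange chk 22 64470 35 = true := by decide +kernel
theorem r1843 : allRange chk 22 64505 35 = true := by decide +kernel
theorem r1844 : allRange chk 22 64540 35 = true := by decide +kernel
theorem r1845 : allRange chk 22 64575 35 = true := by decide +kernel
theorem r1846 : allRange chk 22 64610 35 = true := by decide +kernel
theorem r1847 : allRange chk 22 64645 35 = true := by decide +kernel
theorem r1848 : allRange chk 22 64680 35 = true := by decide +kernel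
theorem r1849 : allRange chk 22 64715 35 = true := by decide +kernel
theorem r1850 : allRange chk 22 64750 35 = true := by decide +kernel
theorem r1851 : allRange chk 22 64785 35 = true := by decide +kernel
theorem r1852 : allRange chk 22 64820 35 = true := by decide +kernel
theorem r1853 : allRange chk 22 64855 35 = true := by decide +kernel
theorem r1854 : allRange chk 22 64890 35 = true := by decide +kernel
theorem r1855 : allRange chk 22 64925 35 = true := by decide +kernel
theorem r1856 : allRange chk 22 64960 35 = true := by decide +kernel
theorem r1857 : allRange chk 22 64995 35 = true := by decide +kernel
theorem r1858 : allRange chk 22 65030 35 = true := by decide +kernel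
theorem r1859 : allRange chk 22 65065 35 = true := by decide +kernel
theorem r1860 : allRange chk 22 65100 35 = true := by decide +kernel
theorem r1861 : allRange chk 22 65135 35 = true := by decide +kernel
theorem r1862 : allRange chk 22 65170 35 = true := by decide +kernel
theorem r1863 : allRange chk 22 65205 35 = true := by decide +kernel
theorem r1864 : allRange chk 22 65240 35 = true := by decide +kernel
theorem r1865 : allRange chk 22 65275 35 = true := by decide +kernel
theorem r1866 : allRange chk 22 65310 35 = true := by decide +kernel
theorem r1867 : allRange chk 22 65345 35 = true := by decide +kernel
theorem r1868 : allRange chk 22 65380 35 = true := by decide +kernel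
theorem r1869 : allRange chk 22 65415 35 = true := by decide +kernel
theorem r1870 : allRange chk 22 65450 35 = true := by decide +kernel
theorem r1871 : allRange chk 22 65485 35 = true := by decide +kernel
theorem r1872 : allRange chk 22 65520 35 = true := by decide +kernel
theorem r1873 : allRange chk 22 65555 35 = true := by decide +kernel
theorem r1874 : allRange chk 22 65590 35 = true := by decide +kernel
theorem r1875 : allRange chk 22 65625 35 = true := by decide +kernel
theorem r1876 : allRange chk 22 65660 35 = true := by decide +kernel
theorem r1877 : allRange chk 22 65695 35 = true := by decide +kernel
theorem r1878 : allRange chk 22 65730 35 = true := by decide +kernel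
theorem r1879 : allRange chk 22 65765 35 = true := by decide +kernel
theorem r1880 : allRange chk 22 65800 35 = true := by decide +kernel
theorem r1881 : allRange chk 22 65835 35 = true := by decide +kernel
theorem r1882 : allRange chk 22 65870 35 = true := by decide +kernel
theorem r1883 : allRange chk 22 65905 35 = true := by decide +kernel
theorem r1884 : allRange chk 22 65940 35 = true := by decide +kernel
theorem r1885 : allRange chk 22 65975 35 = true := by decide +kernel
theorem r1886 : allRange chk 22 66010 35 = true := by decide +kernel
theorem r1887 : allRange chk 22 66045 35 = true := by decide +kernel
theorem r1888 : allRange chk 22 66080 35 = true := by decide +kernel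
theorem r1889 : allRange chk 22 66115 35 = true := by decide +kernel
theorem r1890 : allRange chk 22 66150 35 = true := by decide +kernel
theorem r1891 : allRange chk 22 66185 35 = true := by decide +kernel
theorem r1892 : allRange chk 22 66220 35 = true := by decide +kernel
theorem r1893 : allRange chk 22 66255 35 = true := by decide +kernel
theorem r1894 : allRange chk 22 66290 35 = true := by decide +kernel
theorem r1895 : allRange chk 22 66325 35 = true := by decide +kernel
theorem r1896 : allRange chk 22 66360 35 = true := by decide +kernel
theorem r1897 : allRange chk 22 66395 35 = true := by decide +kernel
theorem r1898 : allRange chk 22 66430 35 = true := by decide +kernel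
theorem r1899 : allRange chk 22 66465 35 = true := by decide +kernel
theorem r1900 : allRange chk 22 66500 35 = true := by decide +kernel
theorem r1901 : allRange chk 22 66535 35 = true := by decide +kernel
theorem r1902 : allRange chk 22 66570 35 = true := by decide +kernel
theorem r1903 : allRange chk 22 66605 35 = true := by decide +kernel
theorem r1904 : allRange chk 22 66640 35 = true := by decide +kernel
theorem r1905 : allRange chk 22 66675 35 = true := by decide +kernel
theorem r1906 : allRange chk 22 66710 35 = true := by decide +kernel
theorem r1907 : allRange chk 22 66745 35 = true := by decide +kernel
theorem r1908 : allRange chk 22 66780 35 = true := by decide +kernel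
theorem r1909 : allRange chk 22 66815 35 = true := by decide +kernel
theorem r1910 : allRange chk 22 66850 35 = true := by decide +kernel
theorem r1911 : allRange chk 22 66885 35 = true := by decide +kernel
theorem r1912 : allRange chk 22 66920 35 = true := by decide +kernel
theorem r1913 : allRange chk 22 66955 35 = true := by decide +kernel
theorem r1914 : allRange chk 22 66990 35 = true := by decide +kernel
theorem r1915 : allRange chk 22 67025 35 = true := by decide +kernel
theorem r1916 : allRange chk 22 67060 35 = true := by decide +kernel
theorem r1917 : allRange chk 22 67095 35 = true := by decide +kernel
theorem r1918 : allRange chk 22 67130 35 = true := by decide +kernel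
theorem r1919 : allRange chk 22 67165 35 = true := by decide +kernel
theorem r1920 : allRange chk 22 67200 35 = true := by decide +kernel
theorem r1921 : allRange chk 22 67235 35 = true := by decide +kernel
theorem r1922 : allRange chk 22 67270 35 = true := by decide +kernel
theorem r1923 : allRange chk 22 67305 35 = true := by decide +kernel
theorem r1924 : allRange chk 22 67340 35 = true := by decide +kernel
theorem r1925 : allRange chk 22 67375 35 = true := by decide +kernel
theorem r1926 : allRange chk 22 67410 35 = true := by decide +kernel
theorem r1927 : allRange chk 22 67445 35 = true := by decide +kernel
theorem r1928 : allRange chk 22 67480 35 = true := by decide +kernel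
theorem r1929 : allRange chk 22 67515 35 = true := by decide +kernel
theorem r1930 : allRange chk 22 67550 35 = true := by decide +kernel
theorem r1931 : allRange chk 22 67585 35 = true := by decide +kernel
theorem r1932 : allRange chk 22 67620 35 = true := by decide +kernel
theorem r1933 : allRange chk 22 67655 35 = true := by decide +kernel
theorem r1934 : allRange chk 22 67690 35 = true := by decide +kernel
theorem r1935 : allRange chk 22 67725 35 = true := by decide +kernel
theorem r1936 : allRange chk 22 67760 35 = true := by decide +kernel
theorem r1937 : allRange chk 22 67795 35 = true := by decide +kernel
theorem r1938 : allRange chk 22 67830 35 = true := by decide +kernel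
theorem r1939 : allRange chk 22 67865 35 = true := by decide +kernel
theorem r1940 : allRange chk 22 67900 35 = true := by decide +kernel
theorem r1941 : allRange chk 22 67935 35 = true := by decide +kernel
theorem r1942 : allRange chk 22 67970 35 = true := by decide +kernel
theorem r1943 : allRange chk 22 68005 35 = true := by decide +kernel
theorem r1944 : allRange chk 22 68040 35 = true := by decide +kernel
theorem r1945 : allRange chk 22 68075 35 = true := by decide +kernel
theorem r1946 : allRange chk 22 68110 35 = true := by decide +kernel
theorem r1947 : allRange chk 22 68145 35 = true := by decide +kernel
theorem r1948 : allRange chk 22 68180 35 = true := by decide +kernel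
theorem r1949 : allRange chk 22 68215 35 = true := by decide +kernel
theorem r1950 : allRange chk 22 68250 35 = true := by decide +kernel
theorem r1951 : allRange chk 22 68285 35 = true := by decide +kernel
theorem r1952 : allRange chk 22 68320 35 = true := by decide +kernel
theorem r1953 : allRange chk 22 68355 35 = true := by decide +kernel
theorem r1954 : allRange chk 22 68390 35 = true := by decide +kernel
theorem r1955 : allRange chk 22 68425 35 = true := by decide +kernel
theorem r1956 : allRange chk 22 68460 35 = true := by decide +kernel
theorem r1957 : allRange chk 22 68495 35 = true := by decide +kernel
theorem r1958 : allRange chk 22 68530 35 = true := by decide +kernel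
theorem r1959 : allRange chk 22 68565 35 = true := by decide +kernel
theorem r1960 : allRange chk 22 68600 35 = true := by decide +kernel
theorem r1961 : allRange chk 22 68635 35 = true := by decide +kernel
theorem r1962 : allRange chk 22 68670 35 = true := by decide +kernel
theorem r1963 : allRange chk 22 68705 35 = true := by decide +kernel
theorem r1964 : allRange chk 22 68740 35 = true := by decide +kernel
theorem r1965 : allRange chk 22 68775 35 = true := by decide +kernel
theorem r1966 : allRange chk 22 68810 35 = true := by decide +kernel
theorem r1967 : allRange chk 22 68845 35 = true := by decide +kernel
theorem r1968 : allRange chk 22 68880 35 = true := by decide +kernel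
theorem r1969 : allRange chk 22 68915 35 = true := by decide +kernel
theorem r1970 : allRange chk 22 68950 35 = true := by decide +kernel
theorem r1971 : allRange chk 22 68985 35 = true := by decide +kernel
theorem r1972 : allRange chk 22 69020 35 = true := by decide +kernel
theorem r1973 : allRange chk 22 69055 35 = true := by decide +kernel
theorem r1974 : allRange chk 22 69090 35 = true := by decide +kernel
theorem r1975 : allRange chk 22 69125 35 = true := by decide +kernel
theorem r1976 : allRange chk 22 69160 35 = true := by decide +kernel
theorem r1977 : allRange chk 22 69195 35 = true := by decide +kernel
theorem r1978 : allRange chk 22 69230 35 = true := by decide +kernel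
theorem r1979 : allRange chk 22 69265 35 = true := by decide +kernel
theorem r1980 : allRange chk 22 69300 35 = true := by decide +kernel
theorem r1981 : allRange chk 22 69335 35 = true := by decide +kernel
theorem r1982 : allRange chk 22 69370 35 = true := by decide +kernel
theorem r1983 : allRange chk 22 69405 35 = true := by decide +kernel
theorem r1984 : allRange chk 22 69440 35 = true := by decide +kernel
theorem r1985 : allRange chk 22 69475 35 = true := by decide +kernel
theorem r1986 : allRange chk 22 69510 35 = true := by decide +kernel
theorem r1987 : allRange chk 22 69545 35 = true := by decide +kernel
theorem r1988 : allRange chk 22 69580 35 = true := by decide +kernel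
theorem r1989 : allRange chk 22 69615 35 = true := by decide +kernel
theorem r1990 : allRange chk 22 69650 35 = true := by decide +kernel
theorem r1991 : allRange chk 22 69685 35 = true := by decide +kernel
theorem r1992 : allRange chk 22 69720 35 = true := by decide +kernel
theorem r1993 : allRange chk 22 69755 35 = true := by decide +kernel
theorem r1994 : allRange chk 22 69790 35 = true := by decide +kernel
theorem r1995 : allRange chk 22 69825 35 = true := by decide +kernel
theorem r1996 : allRange chk 22 69860 35 = true := by decide +kernel
theorem r1997 : allRange chk 22 69895 35 = true := by decide +kernel
theorem r1998 : allRange chk 22 69930 35 = true := by decide +kernel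
theorem r1999 : allRange chk 22 69965 35 = true := by decide +kernel
theorem r2000 : allRange chk 22 70000 35 = true := by decide +kernel
theorem r2001 : allRange chk 22 70035 35 = true := by decide +kernel
theorem r2002 : allRange chk 22 70070 35 = true := by decide +kernel
theorem r2003 : allRange chk 22 70105 35 = true := by decide +kernel
theorem r2004 : allRange chk 22 70140 35 = true := by decide +kernel
theorem r2005 : allRange chk 22 70175 35 = true := by decide +kernel
theorem r2006 : allRange chk 22 70210 35 = true := by decide +kernel
theorem r2007 : allRange chk 22 70245 35 = true := by decide +kernel
theorem r2008 : allRange chk 22 70280 35 = true := by decide +kernel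
theorem r2009 : allRange chk 22 70315 35 = true := by decide +kernel
theorem r2010 : allRange chk 22 70350 35 = true := by decide +kernel
theorem r2011 : allRange chk 22 70385 35 = true := by decide +kernel
theorem r2012 : allRange chk 22 70420 35 = true := by decide +kernel
theorem r2013 : allRange chk 22 70455 35 = true := by decide +kernel
theorem r2014 : allRange chk 22 70490 35 = true := by decide +kernel
theorem r2015 : allRange chk 22 70525 35 = true := by decide +kernel
theorem r2016 : allRange chk 22 70560 35 = true := by decide +kernel
theorem r2017 : allRange chk 22 70595 35 = true := by decide +kernel
theorem r2018 : allRange chk 22 70630 35 = true := by decide +kernel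
theorem r2019 : allRange chk 22 70665 35 = true := by decide +kernel
theorem r2020 : allRange chk 22 70700 35 = true := by decide +kernel
theorem r2021 : allRange chk 22 70735 35 = true := by decide +kernel
theorem r2022 : allRange chk 22 70770 35 = true := by decide +kernel
theorem r2023 : allRange chk 22 70805 35 = true := by decide +kernel
theorem r2024 : allRange chk 22 70840 35 = true := by decide +kernel
theorem r2025 : allRange chk 22 70875 35 = true := by decide +kernel
theorem r2026 : allRange chk 22 70910 35 = true := by decide +kernel
theorem r2027 : allRange chk 22 70945 35 = true := by decide +kernel
theorem r2028 : allRange chk 22 70980 35 = true := by decide +kernel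
theorem r2029 : allRange chk 22 71015 35 = true := by decide +kernel
theorem r2030 : allRange chk 22 71050 35 = true := by decide +kernel
theorem r2031 : allRange chk 22 71085 35 = true := by decide +kernel
theorem r2032 : allRange chk 22 71120 35 = true := by decide +kernel
theorem r2033 : allRange chk 22 71155 35 = true := by decide +kernel
theorem r2034 : allRange chk 22 71190 35 = true := by decide +kernel
theorem r2035 : allRange chk 22 71225 35 = true := by decide +kernel
theorem r2036 : allRange chk 22 71260 35 = true := by decide +kernel
theorem r2037 : allRange chk 22 71295 35 = true := by decide +kernel
theorem r2038 : allRange chk 22 71330 35 = true := by decide +kernel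
theorem r2039 : allRange chk 22 71365 35 = true := by decide +kernel
theorem r2040 : allRange chk 22 71400 35 = true := by decide +kernel
theorem r2041 : allRange chk 22 71435 35 = true := by decide +kernel
theorem r2042 : allRange chk 22 71470 35 = true := by decide +kernel
theorem r2043 : allRange chk 22 71505 35 = true := by decide +kernel
theorem r2044 : allRange chk 22 71540 35 = true := by decide +kernel
theorem r2045 : allRange chk 22 71575 35 = true := by decide +kernel
theorem r2046 : allRange chk 22 71610 35 = true := by decide +kernel
theorem r2047 : allRange chk 22 71645 35 = true := by decide +kernel
theorem r2048 : allRange chk 22 71680 35 = true := by decide +kernel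
theorem r2049 : allRange chk 22 71715 35 = true := by decide +kernel
theorem r2050 : allRange chk 22 71750 35 = true := by decide +kernel
theorem r2051 : allRange chk 22 71785 35 = true := by decide +kernel
theorem r2052 : allRange chk 22 71820 35 = true := by decide +kernel
theorem r2053 : allRange chk 22 71855 35 = true := by decide +kernel
theorem r2054 : allRange chk 22 71890 35 = true := by decide +kernel
theorem r2055 : allRange chk 22 71925 35 = true := by decide +kernel
theorem r2056 : allRange chk 22 71960 35 = true := by decide +kernel
theorem r2057 : allRange chk 22 71995 35 = true := by decide +kernel
theorem r2058 : allRange chk 22 72030 35 = true := by decide +kernel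
theorem r2059 : allRange chk 22 72065 35 = true := by decide +kernel
theorem r2060 : allRange chk 22 72100 35 = true := by decide +kernel
theorem r2061 : allRange chk 22 72135 35 = true := by decide +kernel
theorem r2062 : allRange chk 22 72170 35 = true := by decide +kernel
theorem r2063 : allRange chk 22 72205 35 = true := by decide +kernel
theorem r2064 : allRange chk 22 72240 35 = true := by decide +kernel
theorem r2065 : allRange chk 22 72275 35 = true := by decide +kernel
theorem r2066 : allRange chk 22 72310 35 = true := by decide +kernel
theorem r2067 : allRange chk 22 72345 35 = true := by decide +kernel
theorem r2068 : allRange chk 22 72380 35 = true := by decide +kernel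
theorem r2069 : allRange chk 22 72415 35 = true := by decide +kernel
theorem r2070 : allRange chk 22 72450 35 = true := by decide +kernel
theorem r2071 : allRange chk 22 72485 35 = true := by decide +kernel
theorem r2072 : allRange chk 22 72520 35 = true := by decide +kernel
theorem r2073 : allRange chk 22 72555 35 = true := by decide +kernel
theorem r2074 : allRange chk 22 72590 35 = true := by decide +kernel
theorem r2075 : allRange chk 22 72625 35 = true := by decide +kernel
theorem r2076 : allRange chk 22 72660 35 = true := by decide +kernel
theorem r2077 : allRange chk 22 72695 35 = true := by decide +kernel
theorem r2078 : allRange chk 22 72730 35 = true := by decide +kernel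
theorem r2079 : allRange chk 22 72765 35 = true := by decide +kernel
theorem r2080 : allRange chk 22 72800 35 = true := by decide +kernel
theorem r2081 : allRange chk 22 72835 35 = true := by decide +kernel
theorem r2082 : allRange chk 22 72870 35 = true := by decide +kernel
theorem r2083 : allRange chk 22 72905 35 = true := by decide +kernel
theorem r2084 : allRange chk 22 72940 35 = true := by decide +kernel
theorem r2085 : allRange chk 22 72975 35 = true := by decide +kernel
theorem r2086 : allRange chk 22 73010 35 = true := by decide +kernel
theorem r2087 : allRange chk 22 73045 35 = true := by decide +kernel
theorem r2088 : allRange chk 22 73080 35 = true := by decide +kernel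
theorem r2089 : allRange chk 22 73115 35 = true := by decide +kernel
theorem r2090 : allRange chk 22 73150 35 = true := by decide +kernel
theorem r2091 : allRange chk 22 73185 35 = true := by decide +kernel
theorem r2092 : allRange chk 22 73220 35 = true := by decide +kernel
theorem r2093 : allRange chk 22 73255 35 = true := by decide +kernel
theorem r2094 : allRange chk 22 73290 35 = true := by decide +kernel
theorem r2095 : allRange chk 22 73325 35 = true := by decide +kernel
theorem r2096 : allRange chk 22 73360 35 = true := by decide +kernel
theorem r2097 : allRange chk 22 73395 35 = true := by decide +kernel
theorem r2098 : allRange chk 22 73430 35 = true := by decide +kernel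
theorem r2099 : allRange chk 22 73465 35 = true := by decide +kernel
theorem r2100 : allRange chk 22 73500 35 = true := by decide +kernel
theorem r2101 : allRange chk 22 73535 35 = true := by decide +kernel
theorem r2102 : allRange chk 22 73570 35 = true := by decide +kernel
theorem r2103 : allRange chk 22 73605 35 = true := by decide +kernel
theorem r2104 : allRange chk 22 73640 35 = true := by decide +kernel
theorem r2105 : allRange chk 22 73675 35 = true := by decide +kernel
theorem r2106 : allRange chk 22 73710 35 = true := by decide +kernel
theorem r2107 : allRange chk 22 73745 35 = true := by decide +kernel
theorem r2108 : allRange chk 22 73780 35 = true := by decide +kernel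
theorem r2109 : allRange chk 22 73815 35 = true := by decide +kernel
theorem r2110 : allRange chk 22 73850 35 = true := by decide +kernel
theorem r2111 : allRange chk 22 73885 35 = true := by decide +kernel
theorem r2112 : allRange chk 22 73920 35 = true := by decide +kernel
theorem r2113 : allRange chk 22 73955 35 = true := by decide +kernel
theorem r2114 : allRange chk 22 73990 35 = true := by decide +kernel
theorem r2115 : allRange chk 22 74025 35 = true := by decide +kernel
theorem r2116 : allRange chk 22 74060 35 = true := by decide +kernel
theorem r2117 : allRange chk 22 74095 35 = true := by decide +kernel
theorem r2118 : allRange chk 22 74130 35 = true := by decide +kernel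
theorem r2119 : allRange chk 22 74165 35 = true := by decide +kernel
theorem r2120 : allRange chk 22 74200 35 = true := by decide +kernel
theorem r2121 : allRange chk 22 74235 35 = true := by decide +kernel
theorem r2122 : allRange chk 22 74270 35 = true := by decide +kernel
theorem r2123 : allRange chk 22 74305 35 = true := by decide +kernel
theorem r2124 : allRange chk 22 74340 35 = true := by decide +kernel
theorem r2125 : allRange chk 22 74375 35 = true := by decide +kernel
theorem r2126 : allRange chk 22 74410 35 = true := by decide +kernel
theorem r2127 : allRange chk 22 74445 35 = true := by decide +kernel
theorem r2128 : allRange chk 22 74480 35 = true := by decide +kernel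
theorem r2129 : allRange chk 22 74515 35 = true := by decide +kernel
theorem r2130 : allRange chk 22 74550 35 = true := by decide +kernel
theorem r2131 : allRange chk 22 74585 35 = true := by decide +kernel
theorem r2132 : allRange chk 22 74620 35 = true := by decide +kernel
theorem r2133 : allRange chk 22 74655 35 = true := by decide +kernel
theorem r2134 : allRange chk 22 74690 35 = true := by decide +kernel
theorem r2135 : allRange chk 22 74725 35 = true := by decide +kernel
theorem r2136 : allRange chk 22 74760 35 = true := by decide +kernel
theorem r2137 : allRange chk 22 74795 35 = true := by decide +kernel
theorem r2138 : allRange chk 22 74830 35 = true := by decide +kernel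
theorem r2139 : allRange chk 22 74865 35 = true := by decide +kernel
theorem r2140 : allRange chk 22 74900 35 = true := by decide +kernel
theorem r2141 : allRange chk 22 74935 35 = true := by decide +kernel
theorem r2142 : allRange chk 22 74970 35 = true := by decide +kernel
theorem r2143 : allRange chk 22 75005 35 = true := by decide +kernel
theorem r2144 : allRange chk 22 75040 35 = true := by decide +kernel
theorem r2145 : allRange chk 22 75075 35 = true := by decide +kernel
theorem r2146 : allRange chk 22 75110 35 = true := by decide +kernel
theorem r2147 : allRange chk 22 75145 35 = true := by decide +kernel
theorem r2148 : allRange chk 22 75180 35 = true := by decide +kernel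
theorem r2149 : allRange chk 22 75215 35 = true := by decide +kernel
theorem r2150 : allRange chk 22 75250 35 = true := by decide +kernel
theorem r2151 : allRange chk 22 75285 35 = true := by decide +kernel
theorem r2152 : allRange chk 22 75320 35 = true := by decide +kernel
theorem r2153 : allRange chk 22 75355 35 = true := by decide +kernel
theorem r2154 : allRange chk 22 75390 35 = true := by decide +kernel
theorem r2155 : allRange chk 22 75425 35 = true := by decide +kernel
theorem r2156 : allRange chk 22 75460 35 = true := by decide +kernel
theorem r2157 : allRange chk 22 75495 35 = true := by decide +kernel
theorem r2158 : allRange chk 22 75530 35 = true := by decide +kernel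
theorem r2159 : allRange chk 22 75565 35 = true := by decide +kernel
theorem r2160 : allRange chk 22 75600 35 = true := by decide +kernel
theorem r2161 : allRange chk 22 75635 35 = true := by decide +kernel
theorem r2162 : allRange chk 22 75670 35 = true := by decide +kernel
theorem r2163 : allRange chk 22 75705 35 = true := by decide +kernel
theorem r2164 : allRange chk 22 75740 35 = true := by decide +kernel
theorem r2165 : allRange chk 22 75775 35 = true := by decide +kernel
theorem r2166 : allRange chk 22 75810 35 = true := by decide +kernel
theorem r2167 : allRange chk 22 75845 35 = true := by decide +kernel
theorem r2168 : allRange chk 22 75880 35 = true := by decide +kernel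
theorem r2169 : allRange chk 22 75915 35 = true := by decide +kernel
theorem r2170 : allRange chk 22 75950 35 = true := by decide +kernel
theorem r2171 : allRange chk 22 75985 35 = true := by decide +kernel
theorem r2172 : allRange chk 22 76020 35 = true := by decide +kernel
theorem r2173 : allRange chk 22 76055 35 = true := by decide +kernel
theorem r2174 : allRange chk 22 76090 35 = true := by decide +kernel
theorem r2175 : allRange chk 22 76125 35 = true := by decide +kernel
theorem r2176 : allRange chk 22 76160 35 = true := by decide +kernel
theorem r2177 : allRange chk 22 76195 35 = true := by decide +kernel
theorem r2178 : allRange chk 22 76230 35 = true := by decide +kernel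
theorem r2179 : allRange chk 22 76265 35 = true := by decide +kernel
theorem r2180 : allRange chk 22 76300 35 = true := by decide +kernel
theorem r2181 : allRange chk 22 76335 35 = true := by decide +kernel
theorem r2182 : allRange chk 22 76370 35 = true := by decide +kernel
theorem r2183 : allRange chk 22 76405 35 = true := by decide +kernel
theorem r2184 : allRange chk 22 76440 35 = true := by decide +kernel
theorem r2185 : allRange chk 22 76475 35 = true := by decide +kernel
theorem r2186 : allRange chk 22 76510 35 = true := by decide +kernel
theorem r2187 : allRange chk 22 76545 35 = true := by decide +kernel
theorem r2188 : allRange chk 22 76580 35 = true := by decide +kernel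
theorem r2189 : allRange chk 22 76615 35 = true := by decide +kernel
theorem r2190 : allRange chk 22 76650 35 = true := by decide +kernel
theorem r2191 : allRange chk 22 76685 35 = true := by decide +kernel
theorem r2192 : allRange chk 22 76720 35 = true := by decide +kernel
theorem r2193 : allRange chk 22 76755 35 = true := by decide +kernel
theorem r2194 : allRange chk 22 76790 35 = true := by decide +kernel
theorem r2195 : allRange chk 22 76825 35 = true := by decide +kernel
theorem r2196 : allRange chk 22 76860 35 = true := by decide +kernel
theorem r2197 : allRange chk 22 76895 35 = true := by decide +kernel
theorem r2198 : allRange chk 22 76930 35 = true := by decide +kernel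
theorem r2199 : allRange chk 22 76965 35 = true := by decide +kernel
theorem r2200 : allRange chk 22 77000 35 = true := by decide +kernel
theorem r2201 : allRange chk 22 77035 35 = true := by decide +kernel
theorem r2202 : allRange chk 22 77070 35 = true := by decide +kernel
theorem r2203 : allRange chk 22 77105 35 = true := by decide +kernel
theorem r2204 : allRange chk 22 77140 35 = true := by decide +kernel
theorem r2205 : allRange chk 22 77175 35 = true := by decide +kernel
theorem r2206 : allRange chk 22 77210 35 = true := by decide +kernel
theorem r2207 : allRange chk 22 77245 35 = true := by decide +kernel
theorem r2208 : allRange chk 22 77280 35 = true := by decide +kernel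
theorem r2209 : allRange chk 22 77315 35 = true := by decide +kernel
theorem r2210 : allRange chk 22 77350 35 = true := by decide +kernel
theorem r2211 : allRange chk 22 77385 35 = true := by decide +kernel
theorem r2212 : allRange chk 22 77420 35 = true := by decide +kernel
theorem r2213 : allRange chk 22 77455 35 = true := by decide +kernel
theorem r2214 : allRange chk 22 77490 35 = true := by decide +kernel
theorem r2215 : allRange chk 22 77525 35 = true := by decide +kernel
theorem r2216 : allRange chk 22 77560 35 = true := by decide +kernel
theorem r2217 : allRange chk 22 77595 35 = true := by decide +kernel
theorem r2218 : allRange chk 22 77630 35 = true := by decide +kernel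
theorem r2219 : allRange chk 22 77665 35 = true := by decide +kernel
theorem r2220 : allRange chk 22 77700 35 = true := by decide +kernel
theorem r2221 : allRange chk 22 77735 35 = true := by decide +kernel
theorem r2222 : allRange chk 22 77770 35 = true := by decide +kernel
theorem r2223 : allRange chk 22 77805 35 = true := by decide +kernel
theorem r2224 : allRange chk 22 77840 35 = true := by decide +kernel
theorem r2225 : allRange chk 22 77875 35 = true := by decide +kernel
theorem r2226 : allRange chk 22 77910 35 = true := by decide +kernel
theorem r2227 : allRange chk 22 77945 35 = true := by decide +kernel
theorem r2228 : allRange chk 22 77980 35 = true := by decide +kernel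
theorem r2229 : allRange chk 22 78015 35 = true := by decide +kernel
theorem r2230 : allRange chk 22 78050 35 = true := by decide +kernel
theorem r2231 : allRange chk 22 78085 35 = true := by decide +kernel
theorem r2232 : allRange chk 22 78120 35 = true := by decide +kernel
theorem r2233 : allRange chk 22 78155 35 = true := by decide +kernel
theorem r2234 : allRange chk 22 78190 35 = true := by decide +kernel
theorem r2235 : allRange chk 22 78225 35 = true := by decide +kernel
theorem r2236 : allRange chk 22 78260 35 = true := by decide +kernel
theorem r2237 : allRange chk 22 78295 35 = true := by decide +kernel
theorem r2238 : allRange chk 22 78330 35 = true := by decide +kernel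
theorem r2239 : allRange chk 22 78365 35 = true := by decide +kernel
theorem r2240 : allRange chk 22 78400 35 = true := by decide +kernel
theorem r2241 : allRange chk 22 78435 35 = true := by decide +kernel
theorem r2242 : allRange chk 22 78470 35 = true := by decide +kernel
theorem r2243 : allRange chk 22 78505 35 = true := by decide +kernel
theorem r2244 : allRange chk 22 78540 35 = true := by decide +kernel
theorem r2245 : allRange chk 22 78575 35 = true := by decide +kernel
theorem r2246 : allRange chk 22 78610 35 = true := by decide +kernel
theorem r2247 : allRange chk 22 78645 35 = true := by decide +kernel
theorem r2248 : allRange chk 22 78680 35 = true := by decide +kernel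
theorem r2249 : allRange chk 22 78715 35 = true := by decide +kernel
theorem r2250 : allRange chk 22 78750 35 = true := by decide +kernel
theorem r2251 : allRange chk 22 78785 35 = true := by decide +kernel
theorem r2252 : allRange chk 22 78820 35 = true := by decide +kernel
theorem r2253 : allRange chk 22 78855 35 = true := by decide +kernel
theorem r2254 : allRange chk 22 78890 35 = true := by decide +kernel
theorem r2255 : allRange chk 22 78925 35 = true := by decide +kernel
theorem r2256 : allRange chk 22 78960 35 = true := by decide +kernel
theorem r2257 : allRange chk 22 78995 35 = true := by decide +kernel
theorem r2258 : allRange chk 22 79030 35 = true := by decide +kernel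
theorem r2259 : allRange chk 22 79065 35 = true := by decide +kernel
theorem r2260 : allRange chk 22 79100 35 = true := by decide +kernel
theorem r2261 : allRange chk 22 79135 35 = true := by decide +kernel
theorem r2262 : allRange chk 22 79170 35 = true := by decide +kernel
theorem r2263 : allRange chk 22 79205 35 = true := by decide +kernel
theorem r2264 : allRange chk 22 79240 35 = true := by decide +kernel
theorem r2265 : allRange chk 22 79275 35 = true := by decide +kernel
theorem r2266 : allRange chk 22 79310 35 = true := by decide +kernel
theorem r2267 : allRange chk 22 79345 35 = true := by decide +kernel
theorem r2268 : allRange chk 22 79380 35 = true := by decide +kernel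
theorem r2269 : allRange chk 22 79415 35 = true := by decide +kernel
theorem r2270 : allRange chk 22 79450 35 = true := by decide +kernel
theorem r2271 : allRange chk 22 79485 35 = true := by decide +kernel
theorem r2272 : allRange chk 22 79520 35 = true := by decide +kernel
theorem r2273 : allRange chk 22 79555 35 = true := by decide +kernel
theorem r2274 : allRange chk 22 79590 35 = true := by decide +kernel
theorem r2275 : allRange chk 22 79625 35 = true := by decide +kernel
theorem r2276 : allRange chk 22 79660 35 = true := by decide +kernel
theorem r2277 : allRange chk 22 79695 35 = true := by decide +kernel
theorem r2278 : allRange chk 22 79730 35 = true := by decide +kernel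
theorem r2279 : allRange chk 22 79765 35 = true := by decide +kernel
theorem r2280 : allRange chk 22 79800 35 = true := by decide +kernel
theorem r2281 : allRange chk 22 79835 35 = true := by decide +kernel
theorem r2282 : allRange chk 22 79870 35 = true := by decide +kernel
theorem r2283 : allRange chk 22 79905 35 = true := by decide +kernel
theorem r2284 : allRange chk 22 79940 35 = true := by decide +kernel
theorem r2285 : allRange chk 22 79975 35 = true := by decide +kernel
theorem r2286 : allRange chk 22 80010 35 = true := by decide +kernel
theorem r2287 : allRange chk 22 80045 35 = true := by decide +kernel
theorem r2288 : allRange chk 22 80080 35 = true := by decide +kernel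
theorem r2289 : allRange chk 22 80115 35 = true := by decide +kernel
theorem r2290 : allRange chk 22 80150 35 = true := by decide +kernel
theorem r2291 : allRange chk 22 80185 35 = true := by decide +kernel
theorem r2292 : allRange chk 22 80220 35 = true := by decide +kernel
theorem r2293 : allRange chk 22 80255 35 = true := by decide +kernel
theorem r2294 : allRange chk 22 80290 35 = true := by decide +kernel
theorem r2295 : allRange chk 22 80325 35 = true := by decide +kernel
theorem r2296 : allRange chk 22 80360 35 = true := by decide +kernel
theorem r2297 : allRange chk 22 80395 35 = true := by decide +kernel
theorem r2298 : allRange chk 22 80430 35 = true := by decide +kernel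
theorem r2299 : allRange chk 22 80465 35 = true := by decide +kernel
theorem r2300 : allRange chk 22 80500 35 = true := by decide +kernel
theorem r2301 : allRange chk 22 80535 35 = true := by decide +kernel
theorem r2302 : allRange chk 22 80570 35 = true := by decide +kernel
theorem r2303 : allRange chk 22 80605 35 = true := by decide +kernel
theorem r2304 : allRange chk 22 80640 35 = true := by decide +kernel
theorem r2305 : allRange chk 22 80675 35 = true := by decide +kernel
theorem r2306 : allRange chk 22 80710 35 = true := by decide +kernel
theorem r2307 : allRange chk 22 80745 35 = true := by decide +kernel
theorem r2308 : allRange chk 22 80780 35 = true := by decide +kernel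
theorem r2309 : allRange chk 22 80815 35 = true := by decide +kernel
theorem r2310 : allRange chk 22 80850 35 = true := by decide +kernel
theorem r2311 : allRange chk 22 80885 35 = true := by decide +kernel
theorem r2312 : allRange chk 22 80920 35 = true := by decide +kernel
theorem r2313 : allRange chk 22 80955 35 = true := by decide +kernel
theorem r2314 : allRange chk 22 80990 35 = true := by decide +kernel
theorem r2315 : allRange chk 22 81025 35 = true := by decide +kernel
theorem r2316 : allRange chk 22 81060 35 = true := by decide +kernel
theorem r2317 : allRange chk 22 81095 35 = true := by decide +kernel
theorem r2318 : allRange chk 22 81130 35 = true := by decide +kernel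
theorem r2319 : allRange chk 22 81165 35 = true := by decide +kernel
theorem r2320 : allRange chk 22 81200 35 = true := by decide +kernel
theorem r2321 : allRange chk 22 81235 35 = true := by decide +kernel
theorem r2322 : allRange chk 22 81270 35 = true := by decide +kernel
theorem r2323 : allRange chk 22 81305 35 = true := by decide +kernel
theorem r2324 : allRange chk 22 81340 35 = true := by decide +kernel
theorem r2325 : allRange chk 22 81375 35 = true := by decide +kernel
theorem r2326 : allRange chk 22 81410 35 = true := by decide +kernel
theorem r2327 : allRange chk 22 81445 35 = true := by decide +kernel
theorem r2328 : allRange chk 22 81480 35 = true := by decide +kernel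
theorem r2329 : allRange chk 22 81515 35 = true := by decide +kernel
theorem r2330 : allRange chk 22 81550 35 = true := by decide +kernel
theorem r2331 : allRange chk 22 81585 35 = true := by decide +kernel
theorem r2332 : allRange chk 22 81620 35 = true := by decide +kernel
theorem r2333 : allRange chk 22 81655 35 = true := by decide +kernel
theorem r2334 : allRange chk 22 81690 35 = true := by decide +kernel
theorem r2335 : allRange chk 22 81725 35 = true := by decide +kernel
theorem r2336 : allRange chk 22 81760 35 = true := by decide +kernel
theorem r2337 : allRange chk 22 81795 35 = true := by decide +kernel
theorem r2338 : allRange chk 22 81830 35 = true := by decide +kernel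
theorem r2339 : allRange chk 22 81865 35 = true := by decide +kernel
theorem r2340 : allRange chk 22 81900 35 = true := by decide +kernel
theorem r2341 : allRange chk 22 81935 35 = true := by decide +kernel
theorem r2342 : allRange chk 22 81970 35 = true := by decide +kernel
theorem r2343 : allRange chk 22 82005 35 = true := by decide +kernel
theorem r2344 : allRange chk 22 82040 35 = true := by decide +kernel
theorem r2345 : allRange chk 22 82075 35 = true := by decide +kernel
theorem r2346 : allRange chk 22 82110 35 = true := by decide +kernel
theorem r2347 : allRange chk 22 82145 35 = true := by decide +kernel
theorem r2348 : allRange chk 22 82180 35 = true := by decide +kernel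
theorem r2349 : allRange chk 22 82215 35 = true := by decide +kernel
theorem r2350 : allRange chk 22 82250 35 = true := by decide +kernel
theorem r2351 : allRange chk 22 82285 35 = true := by decide +kernel
theorem r2352 : allRange chk 22 82320 35 = true := by decide +kernel
theorem r2353 : allRange chk 22 82355 35 = true := by decide +kernel
theorem r2354 : allRange chk 22 82390 35 = true := by decide +kernel
theorem r2355 : allRange chk 22 82425 35 = true := by decide +kernel
theorem r2356 : allRange chk 22 82460 35 = true := by decide +kernel
theorem r2357 : allRange chk 22 82495 35 = true := by decide +kernel
theorem r2358 : allRange chk 22 82530 35 = true := by decide +kernel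
theorem r2359 : allRange chk 22 82565 35 = true := by decide +kernel
theorem r2360 : allRange chk 22 82600 35 = true := by decide +kernel
theorem r2361 : allRange chk 22 82635 35 = true := by decide +kernel
theorem r2362 : allRange chk 22 82670 35 = true := by decide +kernel
theorem r2363 : allRange chk 22 82705 35 = true := by decide +kernel
theorem r2364 : allRange chk 22 82740 35 = true := by decide +kernel
theorem r2365 : allRange chk 22 82775 35 = true := by decide +kernel
theorem r2366 : allRange chk 22 82810 35 = true := by decide +kernel
theorem r2367 : allRange chk 22 82845 35 = true := by decide +kernel
theorem r2368 : allRange chk 22 82880 35 = true := by decide +kernel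
theorem r2369 : allRange chk 22 82915 35 = true := by decide +kernel
theorem r2370 : allRange chk 22 82950 35 = true := by decide +kernel
theorem r2371 : allRange chk 22 82985 35 = true := by decide +kernel
theorem r2372 : allRange chk 22 83020 35 = true := by decide +kernel
theorem r2373 : allRange chk 22 83055 35 = true := by decide +kernel
theorem r2374 : allRange chk 22 83090 35 = true := by decide +kernel
theorem r2375 : allRange chk 22 83125 35 = true := by decide +kernel
theorem r2376 : allRange chk 22 83160 35 = true := by decide +kernel
theorem r2377 : allRange chk 22 83195 35 = true := by decide +kernel
theorem r2378 : allRange chk 22 83230 35 = true := by decide +kernel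
theorem r2379 : allRange chk 22 83265 35 = true := by decide +kernel
theorem r2380 : allRange chk 22 83300 35 = true := by decide +kernel
theorem r2381 : allRange chk 22 83335 35 = true := by decide +kernel
theorem r2382 : allRange chk 22 83370 35 = true := by decide +kernel
theorem r2383 : allRange chk 22 83405 35 = true := by decide +kernel
theorem r2384 : allRange chk 22 83440 35 = true := by decide +kernel
theorem r2385 : allRange chk 22 83475 35 = true := by decide +kernel
theorem r2386 : allRange chk 22 83510 35 = true := by decide +kernel
theorem r2387 : allRange chk 22 83545 35 = true := by decide +kernel
theorem r2388 : allRange chk 22 83580 35 = true := by decide +kernel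
theorem r2389 : allRange chk 22 83615 35 = true := by decide +kernel
theorem r2390 : allRange chk 22 83650 35 = true := by decide +kernel
theorem r2391 : allRange chk 22 83685 35 = true := by decide +kernel
theorem r2392 : allRange chk 22 83720 35 = true := by decide +kernel
theorem r2393 : allRange chk 22 83755 35 = true := by decide +kernel
theorem r2394 : allRange chk 22 83790 35 = true := by decide +kernel
theorem r2395 : allRange chk 22 83825 35 = true := by decide +kernel
theorem r2396 : allRange chk 22 83860 35 = true := by decide +kernel
theorem r2397 : allRange chk 22 83895 35 = true := by decide +kernel
theorem r2398 : allRange chk 22 83930 35 = true := by decide +kernel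
theorem r2399 : allRange chk 22 83965 35 = true := by decide +kernel
theorem r2400 : allRange chk 22 84000 35 = true := by decide +kernel
theorem r2401 : allRange chk 22 84035 35 = true := by decide +kernel
theorem r2402 : allRange chk 22 84070 35 = true := by decide +kernel
theorem r2403 : allRange chk 22 84105 35 = true := by decide +kernel
theorem r2404 : allRange chk 22 84140 35 = true := by decide +kernel
theorem r2405 : allRange chk 22 84175 35 = true := by decide +kernel
theorem r2406 : allRange chk 22 84210 35 = true := by decide +kernel
theorem r2407 : allRange chk 22 84245 35 = true := by decide +kernel
theorem r2408 : allRange chk 22 84280 35 = true := by decide +kernel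
theorem r2409 : allRange chk 22 84315 35 = true := by decide +kernel
theorem r2410 : allRange chk 22 84350 35 = true := by decide +kernel
theorem r2411 : allRange chk 22 84385 35 = true := by decide +kernel
theorem r2412 : allRange chk 22 84420 35 = true := by decide +kernel
theorem r2413 : allRange chk 22 84455 35 = true := by decide +kernel
theorem r2414 : allRange chk 22 84490 35 = true := by decide +kernel
theorem r2415 : allRange chk 22 84525 35 = true := by decide +kernel
theorem r2416 : allRange chk 22 84560 35 = true := by decide +kernel
theorem r2417 : allRange chk 22 84595 35 = true := by decide +kernel
theorem r2418 : allRange chk 22 84630 35 = true := by decide +kernel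
theorem r2419 : allRange chk 22 84665 35 = true := by decide +kernel
theorem r2420 : allRange chk 22 84700 35 = true := by decide +kernel
theorem r2421 : allRange chk 22 84735 35 = true := by decide +kernel
theorem r2422 : allRange chk 22 84770 35 = true := by decide +kernel
theorem r2423 : allRange chk 22 84805 35 = true := by decide +kernel
theorem r2424 : allRange chk 22 84840 35 = true := by decide +kernel
theorem r2425 : allRange chk 22 84875 35 = true := by decide +kernel
theorem r2426 : allRange chk 22 84910 35 = true := by decide +kernel
theorem r2427 : allRange chk 22 84945 35 = true := by decide +kernel
theorem r2428 : allRange chk 22 84980 35 = true := by decide +kernel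
theorem r2429 : allRange chk 22 85015 35 = true := by decide +kernel
theorem r2430 : allRange chk 22 85050 35 = true := by decide +kernel
theorem r2431 : allRange chk 22 85085 35 = true := by decide +kernel
theorem r2432 : allRange chk 22 85120 35 = true := by decide +kernel
theorem r2433 : allRange chk 22 85155 35 = true := by decide +kernel
theorem r2434 : allRange chk 22 85190 35 = true := by decide +kernel
theorem r2435 : allRange chk 22 85225 35 = true := by decide +kernel
theorem r2436 : allRange chk 22 85260 35 = true := by decide +kernel
theorem r2437 : allRange chk 22 85295 35 = true := by decide +kernel
theorem r2438 : allRange chk 22 85330 35 = true := by decide +kernel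
theorem r2439 : allRange chk 22 85365 35 = true := by decide +kernel
theorem r2440 : allRange chk 22 85400 35 = true := by decide +kernel
theorem r2441 : allRange chk 22 85435 35 = true := by decide +kernel
theorem r2442 : allRange chk 22 85470 35 = true := by decide +kernel
theorem r2443 : allRange chk 22 85505 35 = true := by decide +kernel
theorem r2444 : allRange chk 22 85540 35 = true := by decide +kernel
theorem r2445 : allRange chk 22 85575 35 = true := by decide +kernel
theorem r2446 : allRange chk 22 85610 35 = true := by decide +kernel
theorem r2447 : allRange chk 22 85645 35 = true := by decide +kernel
theorem r2448 : allRange chk 22 85680 35 = true := by decide +kernel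
theorem r2449 : allRange chk 22 85715 35 = true := by decide +kernel
theorem r2450 : allRange chk 22 85750 35 = true := by decide +kernel
theorem r2451 : allRange chk 22 85785 35 = true := by decide +kernel
theorem r2452 : allRange chk 22 85820 35 = true := by decide +kernel
theorem r2453 : allRange chk 22 85855 35 = true := by decide +kernel
theorem r2454 : allRange chk 22 85890 35 = true := by decide +kernel
theorem r2455 : allRange chk 22 85925 35 = true := by decide +kernel
theorem r2456 : allRange chk 22 85960 35 = true := by decide +kernel
theorem r2457 : allRange chk 22 85995 35 = true := by decide +kernel
theorem r2458 : allRange chk 22 86030 35 = true := by decide +kernel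
theorem r2459 : allRange chk 22 86065 35 = true := by decide +kernel
theorem r2460 : allRange chk 22 86100 35 = true := by decide +kernel
theorem r2461 : allRange chk 22 86135 35 = true := by decide +kernel
theorem r2462 : allRange chk 22 86170 35 = true := by decide +kernel
theorem r2463 : allRange chk 22 86205 35 = true := by decide +kernel
theorem r2464 : allRange chk 22 86240 35 = true := by decide +kernel
theorem r2465 : allRange chk 22 86275 35 = true := by decide +kernel
theorem r2466 : allRange chk 22 86310 35 = true := by decide +kernel
theorem r2467 : allRange chk 22 86345 35 = true := by decide +kernel
theorem r2468 : allRange chk 22 86380 35 = true := by decide +kernel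
theorem r2469 : allRange chk 22 86415 35 = true := by decide +kernel
theorem r2470 : allRange chk 22 86450 35 = true := by decide +kernel
theorem r2471 : allRange chk 22 86485 35 = true := by decide +kernel
theorem r2472 : allRange chk 22 86520 35 = true := by decide +kernel
theorem r2473 : allRange chk 22 86555 35 = true := by decide +kernel
theorem r2474 : allRange chk 22 86590 35 = true := by decide +kernel
theorem r2475 : allRange chk 22 86625 35 = true := by decide +kernel
theorem r2476 : allRange chk 22 86660 35 = true := by decide +kernel
theorem r2477 : allRange chk 22 86695 35 = true := by decide +kernel
theorem r2478 : allRange chk 22 86730 35 = true := by decide +kernel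
theorem r2479 : allRange chk 22 86765 35 = true := by decide +kernel
theorem r2480 : allRange chk 22 86800 35 = true := by decide +kernel
theorem r2481 : allRange chk 22 86835 35 = true := by decide +kernel
theorem r2482 : allRange chk 22 86870 35 = true := by decide +kernel
theorem r2483 : allRange chk 22 86905 35 = true := by decide +kernel
theorem r2484 : allRange chk 22 86940 35 = true := by decide +kernel
theorem r2485 : allRange chk 22 86975 35 = true := by decide +kernel
theorem r2486 : allRange chk 22 87010 35 = true := by decide +kernel
theorem r2487 : allRange chk 22 87045 35 = true := by decide +kernel
theorem r2488 : allRange chk 22 87080 35 = true := by decide +kernel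
theorem r2489 : allRange chk 22 87115 35 = true := by decide +kernel
theorem r2490 : allRange chk 22 87150 35 = true := by decide +kernel
theorem r2491 : allRange chk 22 87185 35 = true := by decide +kernel
theorem r2492 : allRange chk 22 87220 35 = true := by decide +kernel
theorem r2493 : allRange chk 22 87255 35 = true := by decide +kernel
theorem r2494 : allRange chk 22 87290 35 = true := by decide +kernel
theorem r2495 : allRange chk 22 87325 35 = true := by decide +kernel
theorem r2496 : allRange chk 22 87360 35 = true := by decide +kernel
theorem r2497 : allRange chk 22 87395 35 = true := by decide +kernel
theorem r2498 : allRange chk 22 87430 35 = true := by decide +kernel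
theorem r2499 : allRange chk 22 87465 35 = true := by decide +kernel
theorem r2500 : allRange chk 22 87500 35 = true := by decide +kernel
theorem r2501 : allRange chk 22 87535 35 = true := by decide +kernel
theorem r2502 : allRange chk 22 87570 35 = true := by decide +kernel
theorem r2503 : allRange chk 22 87605 35 = true := by decide +kernel
theorem r2504 : allRange chk 22 87640 35 = true := by decide +kernel
theorem r2505 : allRange chk 22 87675 35 = true := by decide +kernel
theorem r2506 : allRange chk 22 87710 35 = true := by decide +kernel
theorem r2507 : allRange chk 22 87745 35 = true := by decide +kernel
theorem r2508 : allRange chk 22 87780 35 = true := by decide +kernel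
theorem r2509 : allRange chk 22 87815 35 = true := by decide +kernel
theorem r2510 : allRange chk 22 87850 35 = true := by decide +kernel
theorem r2511 : allRange chk 22 87885 35 = true := by decide +kernel
theorem r2512 : allRange chk 22 87920 35 = true := by decide +kernel
theorem r2513 : allRange chk 22 87955 35 = true := by decide +kernel
theorem r2514 : allRange chk 22 87990 35 = true := by decide +kernel
theorem r2515 : allRange chk 22 88025 35 = true := by decide +kernel
theorem r2516 : allRange chk 22 88060 35 = true := by decide +kernel
theorem r2517 : allRange chk 22 88095 35 = true := by decide +kernel
theorem r2518 : allRange chk 22 88130 35 = true := by decide +kernel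
theorem r2519 : allRange chk 22 88165 35 = true := by decide +kernel
theorem r2520 : allRange chk 22 88200 35 = true := by decide +kernel
theorem r2521 : allRange chk 22 88235 35 = true := by decide +kernel
theorem r2522 : allRange chk 22 88270 35 = true := by decide +kernel
theorem r2523 : allRange chk 22 88305 35 = true := by decide +kernel
theorem r2524 : allRange chk 22 88340 35 = true := by decide +kernel
theorem r2525 : allRange chk 22 88375 35 = true := by decide +kernel
theorem r2526 : allRange chk 22 88410 35 = true := by decide +kernel
theorem r2527 : allRange chk 22 88445 35 = true := by decide +kernel
theorem r2528 : allRange chk 22 88480 35 = true := by decide +kernel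
theorem r2529 : allRange chk 22 88515 35 = true := by decide +kernel
theorem r2530 : allRange chk 22 88550 35 = true := by decide +kernel
theorem r2531 : allRange chk 22 88585 35 = true := by decide +kernel
theorem r2532 : allRange chk 22 88620 35 = true := by decide +kernel
theorem r2533 : allRange chk 22 88655 35 = true := by decide +kernel
theorem r2534 : allRange chk 22 88690 35 = true := by decide +kernel
theorem r2535 : allRange chk 22 88725 35 = true := by decide +kernel
theorem r2536 : allRange chk 22 88760 35 = true := by decide +kernel
theorem r2537 : allRange chk 22 88795 35 = true := by decide +kernel
theorem r2538 : allRange chk 22 88830 35 = true := by decide +kernel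
theorem r2539 : allRange chk 22 88865 35 = true := by decide +kernel
theorem r2540 : allRange chk 22 88900 35 = true := by decide +kernel
theorem r2541 : allRange chk 22 88935 35 = true := by decide +kernel
theorem r2542 : allRange chk 22 88970 35 = true := by decide +kernel
theorem r2543 : allRange chk 22 89005 35 = true := by decide +kernel
theorem r2544 : allRange chk 22 89040 35 = true := by decide +kernel
theorem r2545 : allRange chk 22 89075 35 = true := by decide +kernel
theorem r2546 : allRange chk 22 89110 35 = true := by decide +kernel
theorem r2547 : allRange chk 22 89145 35 = true := by decide +kernel
theorem r2548 : allRange chk 22 89180 35 = true := by decide +kernel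
theorem r2549 : allRange chk 22 89215 35 = true := by decide +kernel
theorem r2550 : allRange chk 22 89250 35 = true := by decide +kernel
theorem r2551 : allRange chk 22 89285 35 = true := by decide +kernel
theorem r2552 : allRange chk 22 89320 35 = true := by decide +kernel
theorem r2553 : allRange chk 22 89355 35 = true := by decide +kernel
theorem r2554 : allRange chk 22 89390 35 = true := by decide +kernel
theorem r2555 : allRange chk 22 89425 35 = true := by decide +kernel
theorem r2556 : allRange chk 22 89460 35 = true := by decide +kernel
theorem r2557 : allRange chk 22 89495 35 = true := by decide +kernel
theorem r2558 : allRange chk 22 89530 35 = true := by decide +kernel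
theorem r2559 : allRange chk 22 89565 35 = true := by decide +kernel
theorem r2560 : allRange chk 22 89600 35 = true := by decide +kernel
theorem r2561 : allRange chk 22 89635 35 = true := by decide +kernel
theorem r2562 : allRange chk 22 89670 35 = true := by decide +kernel
theorem r2563 : allRange chk 22 89705 35 = true := by decide +kernel
theorem r2564 : allRange chk 22 89740 35 = true := by decide +kernel
theorem r2565 : allRange chk 22 89775 35 = true := by decide +kernel
theorem r2566 : allRange chk 22 89810 35 = true := by decide +kernel
theorem r2567 : allRange chk 22 89845 35 = true := by decide +kernel
theorem r2568 : allRange chk 22 89880 35 = true := by decide +kernel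
theorem r2569 : allRange chk 22 89915 35 = true := by decide +kernel
theorem r2570 : allRange chk 22 89950 35 = true := by decide +kernel
theorem r2571 : allRange chk 22 89985 35 = true := by decide +kernel
theorem r2572 : allRange chk 22 90020 35 = true := by decide +kernel
theorem r2573 : allRange chk 22 90055 35 = true := by decide +kernel
theorem r2574 : allRange chk 22 90090 35 = true := by decide +kernel
theorem r2575 : allRange chk 22 90125 35 = true := by decide +kernel
theorem r2576 : allRange chk 22 90160 35 = true := by decide +kernel
theorem r2577 : allRange chk 22 90195 35 = true := by decide +kernel
theorem r2578 : allRange chk 22 90230 35 = true := by decide +kernel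
theorem r2579 : allRange chk 22 90265 35 = true := by decide +kernel
theorem r2580 : allRange chk 22 90300 35 = true := by decide +kernel
theorem r2581 : allRange chk 22 90335 35 = true := by decide +kernel
theorem r2582 : allRange chk 22 90370 35 = true := by decide +kernel
theorem r2583 : allRange chk 22 90405 35 = true := by decide +kernel
theorem r2584 : allRange chk 22 90440 35 = true := by decide +kernel
theorem r2585 : allRange chk 22 90475 35 = true := by decide +kernel
theorem r2586 : allRange chk 22 90510 35 = true := by decide +kernel
theorem r2587 : allRange chk 22 90545 35 = true := by decide +kernel
theorem r2588 : allRange chk 22 90580 35 = true := by decide +kernel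
theorem r2589 : allRange chk 22 90615 35 = true := by decide +kernel
theorem r2590 : allRange chk 22 90650 35 = true := by decide +kernel
theorem r2591 : allRange chk 22 90685 35 = true := by decide +kernel
theorem r2592 : allRange chk 22 90720 35 = true := by decide +kernel
theorem r2593 : allRange chk 22 90755 35 = true := by decide +kernel
theorem r2594 : allRange chk 22 90790 35 = true := by decide +kernel
theorem r2595 : allRange chk 22 90825 35 = true := by decide +kernel
theorem r2596 : allRange chk 22 90860 35 = true := by decide +kernel
theorem r2597 : allRange chk 22 90895 35 = true := by decide +kernel
theorem r2598 : allRange chk 22 90930 35 = true := by decide +kernel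
theorem r2599 : allRange chk 22 90965 35 = true := by decide +kernel
theorem r2600 : allRange chk 22 91000 35 = true := by decide +kernel
theorem r2601 : allRange chk 22 91035 35 = true := by decide +kernel
theorem r2602 : allRange chk 22 91070 35 = true := by decide +kernel
theorem r2603 : allRange chk 22 91105 35 = true := by decide +kernel
theorem r2604 : allRange chk 22 91140 35 = true := by decide +kernel
theorem r2605 : allRange chk 22 91175 35 = true := by decide +kernel
theorem r2606 : allRange chk 22 91210 35 = true := by decide +kernel
theorem r2607 : allRange chk 22 91245 35 = true := by decide +kernel
theorem r2608 : allRange chk 22 91280 35 = true := by decide +kernel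
theorem r2609 : allRange chk 22 91315 35 = true := by decide +kernel
theorem r2610 : allRange chk 22 91350 35 = true := by decide +kernel
theorem r2611 : allRange chk 22 91385 35 = true := by decide +kernel
theorem r2612 : allRange chk 22 91420 35 = true := by decide +kernel
theorem r2613 : allRange chk 22 91455 35 = true := by decide +kernel
theorem r2614 : allRange chk 22 91490 35 = true := by decide +kernel
theorem r2615 : allRange chk 22 91525 35 = true := by decide +kernel
theorem r2616 : allRange chk 22 91560 35 = true := by decide +kernel
theorem r2617 : allRange chk 22 91595 35 = true := by decide +kernel
theorem r2618 : allRange chk 22 91630 35 = true := by decide +kernel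
theorem r2619 : allRange chk 22 91665 35 = true := by decide +kernel
theorem r2620 : allRange chk 22 91700 35 = true := by decide +kernel
theorem r2621 : allRange chk 22 91735 35 = true := by decide +kernel
theorem r2622 : allRange chk 22 91770 35 = true := by decide +kernel
theorem r2623 : allRange chk 22 91805 35 = true := by decide +kernel
theorem r2624 : allRange chk 22 91840 35 = true := by decide +kernel
theorem r2625 : allRange chk 22 91875 35 = true := by decide +kernel
theorem r2626 : allRange chk 22 91910 35 = true := by decide +kernel
theorem r2627 : allRange chk 22 91945 35 = true := by decide +kernel
theorem r2628 : allRange chk 22 91980 35 = true := by decide +kernel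
theorem r2629 : allRange chk 22 92015 35 = true := by decide +kernel
theorem r2630 : allRange chk 22 92050 35 = true := by decide +kernel

end Cfsg.Agent.Lib.Helper28_ONLB0
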