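import Cfsg.Agent.Lib.Helper28_ONLB0D

set_option autoImplicit false
set_option linter.constructorNameAsVariable false
set_option Elab.async false

namespace Cfsg.Agent.Lib.Helper28_ONLB0

open Cfsg.Spor Cfsg.Agent.Lib.Helper28_CosetPerm Cfsg.Agent.Lib.Helper28_OrbitLB Cfsg.Agent.Lib.Helper28_S1692 Cfsg.Agent.Lib.Helper28_S1692Tab

theorem r2631 : allRange chk 22 92085 35 = true := by decide +kernel
theorem r2632 : allRange chk 22 92120 35 = true := by decide +kernel
theorem r2633 : allRange chk 22 92155 35 = true := by decide +kernel
theorem r2634 : allRange chk 22 92190 35 = true := by decide +kernel
theorem r2635 : allRange chk 22 92225 35 = true := by decide +kernel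
theorem r2636 : allRange chk 22 92260 35 = true := by decide +kernel
theorem r2637 : allRange chk 22 92295 35 = true := by decide +kernel
theorem r2638 : allRange chk 22 92330 35 = true := by decide +kernel
theorem r2639 : allRange chk 22 92365 35 = true := by decide +kernel
theorem r2640 : allRange chk 22 92400 35 = true := by decide +kernel
theorem r2641 : allRange chk 22 92435 35 = true := by decide +kernel
theorem r2642 : allRange chk 22 92470 35 = true := by decide +kernel
theorem r2643 : allRange chk 22 92505 35 = true := by decide +kernel
theorem r2644 : allRange chk 22 92540 35 = true := by decide +kernel
theorem r2645 : allRange chk 22 92575 35 = true := by decide +kernel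
theorem r2646 : allRange chk 22 92610 35 = true := by decide +kernel
theorem r2647 : allRange chk 22 92645 35 = true := by decide +kernel
theorem r2648 : allRange chk 22 92680 35 = true := by decide +kernel
theorem r2649 : allRange chk 22 92715 35 = true := by decide +kernel
theorem r2650 : allRange chk 22 92750 35 = true := by decide +kernel
theorem r2651 : allRange chk 22 92785 35 = true := by decide +kernel
theorem r2652 : allRange chk 22 92820 35 = true := by decide +kernel
theorem r2653 : allRange chk 22 92855 35 = true := by decide +kernel
theorem r2654 : allRange chk 22 92890 35 = true := by decide +kernel
theorem r2655 : allRange chk 22 92925 35 = true := by decide +kernel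
theorem r2656 : allRange chk 22 92960 35 = true := by decide +kernel
theorem r2657 : allRange chk 22 92995 35 = true := by decide +kernel
theorem r2658 : allRange chk 22 93030 35 = true := by decide +kernel
theorem r2659 : allRange chk 22 93065 35 = true := by decide +kernel
theorem r2660 : allRange chk 22 93100 35 = true := by decide +kernel
theorem r2661 : allRange chk 22 93135 35 = true := by decide +kernel
theorem r2662 : allRange chk 22 93170 35 = true := by decide +kernel
theorem r2663 : allRange chk 22 93205 35 = true := by decide +kernel
theorem r2664 : allRange chk 22 93240 35 = true := by decide +kernel
theorem r2665 : allRange chk 22 93275 35 = true := by decide +kernel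
theorem r2666 : allRange chk 22 93310 35 = true := by decide +kernel
theorem r2667 : allRange chk 22 93345 35 = true := by decide +kernel
theorem r2668 : allRange chk 22 93380 35 = true := by decide +kernel
theorem r2669 : allRange chk 22 93415 35 = true := by decide +kernel
theorem r2670 : allRange chk 22 93450 35 = true := by decide +kernel
theorem r2671 : allRange chk 22 93485 35 = true := by decide +kernel
theorem r2672 : allRange chk 22 93520 35 = true := by decide +kernel
theorem r2673 : allRange chk 22 93555 35 = true := by decide +kernel
theorem r2674 : allRange chk 22 93590 35 = true := by decide +kernel
theorem r2675 : allRange chk 22 93625 35 = true := by decide +kernel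
theorem r2676 : allRange chk 22 93660 35 = true := by decide +kernel
theorem r2677 : allRange chk 22 93695 35 = true := by decide +kernel
theorem r2678 : allRange chk 22 93730 35 = true := by decide +kernel
theorem r2679 : allRange chk 22 93765 35 = true := by decide +kernel
theorem r2680 : allRange chk 22 93800 35 = true := by decide +kernel
theorem r2681 : allRange chk 22 93835 35 = true := by decide +kernel
theorem r2682 : allRange chk 22 93870 35 = true := by decide +kernel
theorem r2683 : allRange chk 22 93905 35 = true := by decide +kernel
theorem r2684 : allRange chk 22 93940 35 = true := by decide +kernel
theorem r2685 : allRange chk 22 93975 35 = true := by decide +kernel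
theorem r2686 : allRange chk 22 94010 35 = true := by decide +kernel
theorem r2687 : allRange chk 22 94045 35 = true := by decide +kernel
theorem r2688 : allRange chk 22 94080 35 = true := by decide +kernel
theorem r2689 : allRange chk 22 94115 35 = true := by decide +kernel
theorem r2690 : allRange chk 22 94150 35 = true := by decide +kernel
theorem r2691 : allRange chk 22 94185 35 = true := by decide +kernel
theorem r2692 : allRange chk 22 94220 35 = true := by decide +kernel
theorem r2693 : allRange chk 22 94255 35 = true := by decide +kernel
theorem r2694 : allRange chk 22 94290 35 = true := by decide +kernel
theorem r2695 : allRange chk 22 94325 35 = true := by decide +kernel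
theorem r2696 : allRange chk 22 94360 35 = true := by decide +kernel
theorem r2697 : allRange chk 22 94395 35 = true := by decide +kernel
theorem r2698 : allRange chk 22 94430 35 = true := by decide +kernel
theorem r2699 : allRange chk 22 94465 35 = true := by decide +kernel
theorem r2700 : allRange chk 22 94500 35 = true := by decide +kernel
theorem r2701 : allRange chk 22 94535 35 = true := by decide +kernel
theorem r2702 : allRange chk 22 94570 35 = true := by decide +kernel
theorem r2703 : allRange chk 22 94605 35 = true := by decide +kernel
theorem r2704 : allRange chk 22 94640 35 = true := by decide +kernel
theorem r2705 : allRange chk 22 94675 35 = true := by decide +kernel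
theorem r2706 : allRange chk 22 94710 35 = true := by decide +kernel
theorem r2707 : allRange chk 22 94745 35 = true := by decide +kernel
theorem r2708 : allRange chk 22 94780 35 = true := by decide +kernel
theorem r2709 : allRange chk 22 94815 35 = true := by decide +kernel
theorem r2710 : allRange chk 22 94850 35 = true := by decide +kernel
theorem r2711 : allRange chk 22 94885 35 = true := by decide +kernel
theorem r2712 : allRange chk 22 94920 35 = true := by decide +kernel
theorem r2713 : allRange chk 22 94955 35 = true := by decide +kernel
theorem r2714 : allRange chk 22 94990 35 = true := by decide +kernel
theorem r2715 : allRange chk 22 95025 35 = true := by decide +kernel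
theorem r2716 : allRange chk 22 95060 35 = true := by decide +kernel
theorem r2717 : allRange chk 22 95095 35 = true := by decide +kernel
theorem r2718 : allRange chk 22 95130 35 = true := by decide +kernel
theorem r2719 : allRange chk 22 95165 35 = true := by decide +kernel
theorem r2720 : allRange chk 22 95200 35 = true := by decide +kernel
theorem r2721 : allRange chk 22 95235 35 = true := by decide +kernel
theorem r2722 : allRange chk 22 95270 35 = true := by decide +kernel
theorem r2723 : allRange chk 22 95305 35 = true := by decide +kernel
theorem r2724 : allRange chk 22 95340 35 = true := by decide +kernel
theorem r2725 : allRange chk 22 95375 35 = true := by decide +kernel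
theorem r2726 : allRange chk 22 95410 35 = true := by decide +kernel
theorem r2727 : allRange chk 22 95445 35 = true := by decide +kernel
theorem r2728 : allRange chk 22 95480 35 = true := by decide +kernel
theorem r2729 : allRange chk 22 95515 35 = true := by decide +kernel
theorem r2730 : allRange chk 22 95550 35 = true := by decide +kernel
theorem r2731 : allRange chk 22 95585 35 = true := by decide +kernel
theorem r2732 : allRange chk 22 95620 35 = true := by decide +kernel
theorem r2733 : allRange chk 22 95655 35 = true := by decide +kernel
theorem r2734 : allRange chk 22 95690 35 = true := by decide +kernel
theorem r2735 : allRange chk 22 95725 35 = true := by decide +kernel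
theorem r2736 : allRange chk 22 95760 35 = true := by decide +kernel
theorem r2737 : allRange chk 22 95795 35 = true := by decide +kernel
theorem r2738 : allRange chk 22 95830 35 = true := by decide +kernel
theorem r2739 : allRange chk 22 95865 35 = true := by decide +kernel
theorem r2740 : allRange chk 22 95900 35 = true := by decide +kernel
theorem r2741 : allRange chk 22 95935 35 = true := by decide +kernel
theorem r2742 : allRange chk 22 95970 35 = true := by decide +kernel
theorem r2743 : allRange chk 22 96005 35 = true := by decide +kernel
theorem r2744 : allRange chk 22 96040 35 = true := by decide +kernel
theorem r2745 : allRange chk 22 96075 35 = true := by decide +kernel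
theorem r2746 : allRange chk 22 96110 35 = true := by decide +kernel
theorem r2747 : allRange chk 22 96145 35 = true := by decide +kernel
theorem r2748 : allRange chk 22 96180 35 = true := by decide +kernel
theorem r2749 : allRange chk 22 96215 35 = true := by decide +kernel
theorem r2750 : allRange chk 22 96250 35 = true := by decide +kernel
theorem r2751 : allRange chk 22 96285 35 = true := by decide +kernel
theorem r2752 : allRange chk 22 96320 35 = true := by decide +kernel
theorem r2753 : allRange chk 22 96355 35 = true := by decide +kernel
theorem r2754 : allRange chk 22 96390 35 = true := by decide +kernel
theorem r2755 : allRange chk 22 96425 35 = true := by decide +kernel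
theorem r2756 : allRange chk 22 96460 35 = true := by decide +kernel
theorem r2757 : allRange chk 22 96495 35 = true := by decide +kernel
theorem r2758 : allRange chk 22 96530 35 = true := by decide +kernel
theorem r2759 : allRange chk 22 96565 35 = true := by decide +kernel
theorem r2760 : allRange chk 22 96600 35 = true := by decide +kernel
theorem r2761 : allRange chk 22 96635 35 = true := by decide +kernel
theorem r2762 : allRange chk 22 96670 35 = true := by decide +kernel
theorem r2763 : allRange chk 22 96705 35 = true := by decide +kernel
theorem r2764 : allRange chk 22 96740 35 = true := by decide +kernel
theorem r2765 : allRange chk 22 96775 35 = true := by decide +kernel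
theorem r2766 : allRange chk 22 96810 35 = true := by decide +kernel
theorem r2767 : allRange chk 22 96845 35 = true := by decide +kernel
theorem r2768 : allRange chk 22 96880 35 = true := by decide +kernel
theorem r2769 : allRange chk 22 96915 35 = true := by decide +kernel
theorem r2770 : allRange chk 22 96950 35 = true := by decide +kernel
theorem r2771 : allRange chk 22 96985 35 = true := by decide +kernel
theorem r2772 : allRange chk 22 97020 35 = true := by decide +kernel
theorem r2773 : allRange chk 22 97055 35 = true := by decide +kernel
theorem r2774 : allRange chk 22 97090 35 = true := by decide +kernel
theorem r2775 : allRange chk 22 97125 35 = true := by decide +kernel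
theorem r2776 : allRange chk 22 97160 35 = true := by decide +kernel
theorem r2777 : allRange chk 22 97195 35 = true := by decide +kernel
theorem r2778 : allRange chk 22 97230 35 = true := by decide +kernel
theorem r2779 : allRange chk 22 97265 35 = true := by decide +kernel
theorem r2780 : allRange chk 22 97300 35 = true := by decide +kernel
theorem r2781 : allRange chk 22 97335 35 = true := by decide +kernel
theorem r2782 : allRange chk 22 97370 35 = true := by decide +kernel
theorem r2783 : allRange chk 22 97405 35 = true := by decide +kernel
theorem r2784 : allRange chk 22 97440 35 = true := by decide +kernel
theorem r2785 : allRange chk 22 97475 35 = true := by decide +kernel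
theorem r2786 : allRange chk 22 97510 35 = true := by decide +kernel
theorem r2787 : allRange chk 22 97545 35 = true := by decide +kernel
theorem r2788 : allRange chk 22 97580 35 = true := by decide +kernel
theorem r2789 : allRange chk 22 97615 35 = true := by decide +kernel
theorem r2790 : allRange chk 22 97650 35 = true := by decide +kernel
theorem r2791 : allRange chk 22 97685 35 = true := by decide +kernel
theorem r2792 : allRange chk 22 97720 35 = true := by decide +kernel
theorem r2793 : allRange chk 22 97755 35 = true := by decide +kernel
theorem r2794 : allRange chk 22 97790 35 = true := by decide +kernel
theorem r2795 : allRange chk 22 97825 35 = true := by decide +kernel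
theorem r2796 : allRange chk 22 97860 35 = true := by decide +kernel
theorem r2797 : allRange chk 22 97895 35 = true := by decide +kernel
theorem r2798 : allRange chk 22 97930 35 = true := by decide +kernel
theorem r2799 : allRange chk 22 97965 35 = true := by decide +kernel
theorem r2800 : allRange chk 22 98000 35 = true := by decide +kernel
theorem r2801 : allRange chk 22 98035 35 = true := by decide +kernel
theorem r2802 : allRange chk 22 98070 35 = true := by decide +kernel
theorem r2803 : allRange chk 22 98105 35 = true := by decide +kernel
theorem r2804 : allRange chk 22 98140 35 = true := by decide +kernel
theorem r2805 : allRange chk 22 98175 35 = true := by decide +kernel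
theorem r2806 : allRange chk 22 98210 35 = true := by decide +kernel
theorem r2807 : allRange chk 22 98245 35 = true := by decide +kernel
theorem r2808 : allRange chk 22 98280 35 = true := by decide +kernel
theorem r2809 : allRange chk 22 98315 35 = true := by decide +kernel
theorem r2810 : allRange chk 22 98350 35 = true := by decide +kernel
theorem r2811 : allRange chk 22 98385 35 = true := by decide +kernel
theorem r2812 : allRange chk 22 98420 35 = true := by decide +kernel
theorem r2813 : allRange chk 22 98455 35 = true := by decide +kernel
theorem r2814 : allRange chk 22 98490 35 = true := by decide +kernel
theorem r2815 : allRange chk 22 98525 35 = true := by decide +kernel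
theorem r2816 : allRange chk 22 98560 35 = true := by decide +kernel
theorem r2817 : allRange chk 22 98595 35 = true := by decide +kernel
theorem r2818 : allRange chk 22 98630 35 = true := by decide +kernel
theorem r2819 : allRange chk 22 98665 35 = true := by decide +kernel
theorem r2820 : allRange chk 22 98700 35 = true := by decide +kernel
theorem r2821 : allRange chk 22 98735 35 = true := by decide +kernel
theorem r2822 : allRange chk 22 98770 35 = true := by decide +kernel
theorem r2823 : allRange chk 22 98805 35 = true := by decide +kernel
theorem r2824 : allRange chk 22 98840 35 = true := by decide +kernel
theorem r2825 : allRange chk 22 98875 35 = true := by decide +kernel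
theorem r2826 : allRange chk 22 98910 35 = true := by decide +kernel
theorem r2827 : allRange chk 22 98945 35 = true := by decide +kernel
theorem r2828 : allRange chk 22 98980 35 = true := by decide +kernel
theorem r2829 : allRange chk 22 99015 35 = true := by decide +kernel
theorem r2830 : allRange chk 22 99050 35 = true := by decide +kernel
theorem r2831 : allRange chk 22 99085 35 = true := by decide +kernel
theorem r2832 : allRange chk 22 99120 35 = true := by decide +kernel
theorem r2833 : allRange chk 22 99155 35 = true := by decide +kernel
theorem r2834 : allRange chk 22 99190 35 = true := by decide +kernel
theorem r2835 : allRange chk 22 99225 35 = true := by decide +kernel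
theorem r2836 : allRange chk 22 99260 35 = true := by decide +kernel
theorem r2837 : allRange chk 22 99295 35 = true := by decide +kernel
theorem r2838 : allRange chk 22 99330 35 = true := by decide +kernel
theorem r2839 : allRange chk 22 99365 35 = true := by decide +kernel
theorem r2840 : allRange chk 22 99400 35 = true := by decide +kernel
theorem r2841 : allRange chk 22 99435 35 = true := by decide +kernel
theorem r2842 : allRange chk 22 99470 35 = true := by decide +kernel
theorem r2843 : allRange chk 22 99505 35 = true := by decide +kernel
theorem r2844 : allRange chk 22 99540 35 = true := by decide +kernel
theorem r2845 : allRange chk 22 99575 35 = true := by decide +kernel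
theorem r2846 : allRange chk 22 99610 35 = true := by decide +kernel
theorem r2847 : allRange chk 22 99645 35 = true := by decide +kernel
theorem r2848 : allRange chk 22 99680 35 = true := by decide +kernel
theorem r2849 : allRange chk 22 99715 35 = true := by decide +kernel
theorem r2850 : allRange chk 22 99750 35 = true := by decide +kernel
theorem r2851 : allRange chk 22 99785 35 = true := by decide +kernel
theorem r2852 : allRange chk 22 99820 35 = true := by decide +kernel
theorem r2853 : allRange chk 22 99855 35 = true := by decide +kernel
theorem r2854 : allRange chk 22 99890 35 = true := by decide +kernel
theorem r2855 : allRange chk 22 99925 35 = true := by decide +kernel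
theorem r2856 : allRange chk 22 99960 35 = true := by decide +kernel
theorem r2857 : allRange chk 22 99995 35 = true := by decide +kernel
theorem r2858 : allRange chk 22 100030 35 = true := by decide +kernel
theorem r2859 : allRange chk 22 100065 35 = true := by decide +kernel
theorem r2860 : allRange chk 22 100100 35 = true := by decide +kernel
theorem r2861 : allRange chk 22 100135 35 = true := by decide +kernel
theorem r2862 : allRange chk 22 100170 35 = true := by decide +kernel
theorem r2863 : allRange chk 22 100205 35 = true := by decide +kernel
theorem r2864 : allRange chk 22 100240 35 = true := by decide +kernel
theorem r2865 : allRange chk 22 100275 35 = true := by decide +kernel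
theorem r2866 : allRange chk 22 100310 35 = true := by decide +kernel
theorem r2867 : allRange chk 22 100345 35 = true := by decide +kernel
theorem r2868 : allRange chk 22 100380 35 = true := by decide +kernel
theorem r2869 : allRange chk 22 100415 35 = true := by decide +kernel
theorem r2870 : allRange chk 22 100450 35 = true := by decide +kernel
theorem r2871 : allRange chk 22 100485 35 = true := by decide +kernel
theorem r2872 : allRange chk 22 100520 35 = true := by decide +kernel
theorem r2873 : allRange chk 22 100555 35 = true := by decide +kernel
theorem r2874 : allRange chk 22 100590 35 = true := by decide +kernel
theorem r2875 : allRange chk 22 100625 35 = true := by decide +kernel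
theorem r2876 : allRange chk 22 100660 35 = true := by decide +kernel
theorem r2877 : allRange chk 22 100695 35 = true := by decide +kernel
theorem r2878 : allRange chk 22 100730 35 = true := by decide +kernel
theorem r2879 : allRange chk 22 100765 35 = true := by decide +kernel
theorem r2880 : allRange chk 22 100800 35 = true := by decide +kernel
theorem r2881 : allRange chk 22 100835 35 = true := by decide +kernel
theorem r2882 : allRange chk 22 100870 35 = true := by decide +kernel
theorem r2883 : allRange chk 22 100905 35 = true := by decide +kernel
theorem r2884 : allRange chk 22 100940 35 = true := by decide +kernel
theorem r2885 : allRange chk 22 100975 35 = true := by decide +kernel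
theorem r2886 : allRange chk 22 101010 35 = true := by decide +kernel
theorem r2887 : allRange chk 22 101045 35 = true := by decide +kernel
theorem r2888 : allRange chk 22 101080 35 = true := by decide +kernel
theorem r2889 : allRange chk 22 101115 35 = true := by decide +kernel
theorem r2890 : allRange chk 22 101150 35 = true := by decide +kernel
theorem r2891 : allRange chk 22 101185 35 = true := by decide +kernel
theorem r2892 : allRange chk 22 101220 35 = true := by decide +kernel
theorem r2893 : allRange chk 22 101255 35 = true := by decide +kernel
theorem r2894 : allRange chk 22 101290 35 = true := by decide +kernel
theorem r2895 : allRange chk 22 101325 35 = true := by decide +kernel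
theorem r2896 : allRange chk 22 101360 35 = true := by decide +kernel
theorem r2897 : allRange chk 22 101395 35 = true := by decide +kernel
theorem r2898 : allRange chk 22 101430 35 = true := by decide +kernel
theorem r2899 : allRange chk 22 101465 35 = true := by decide +kernel
theorem r2900 : allRange chk 22 101500 35 = true := by decide +kernel
theorem r2901 : allRange chk 22 101535 35 = true := by decide +kernel
theorem r2902 : allRange chk 22 101570 35 = true := by decide +kernel
theorem r2903 : allRange chk 22 101605 35 = true := by decide +kernel
theorem r2904 : allRange chk 22 101640 35 = true := by decide +kernel
theorem r2905 : allRange chk 22 101675 35 = true := by decide +kernel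
theorem r2906 : allRange chk 22 101710 35 = true := by decide +kernel
theorem r2907 : allRange chk 22 101745 35 = true := by decide +kernel
theorem r2908 : allRange chk 22 101780 35 = true := by decide +kernel
theorem r2909 : allRange chk 22 101815 35 = true := by decide +kernel
theorem r2910 : allRange chk 22 101850 35 = true := by decide +kernel
theorem r2911 : allRange chk 22 101885 35 = true := by decide +kernel
theorem r2912 : allRange chk 22 101920 35 = true := by decide +kernel
theorem r2913 : allRange chk 22 101955 35 = true := by decide +kernel
theorem r2914 : allRange chk 22 101990 35 = true := by decide +kernel
theorem r2915 : allRange chk 22 102025 35 = true := by decide +kernel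
theorem r2916 : allRange chk 22 102060 35 = true := by decide +kernel
theorem r2917 : allRange chk 22 102095 35 = true := by decide +kernel
theorem r2918 : allRange chk 22 102130 35 = true := by decide +kernel
theorem r2919 : allRange chk 22 102165 35 = true := by decide +kernel
theorem r2920 : allRange chk 22 102200 35 = true := by decide +kernel
theorem r2921 : allRange chk 22 102235 35 = true := by decide +kernel
theorem r2922 : allRange chk 22 102270 35 = true := by decide +kernel
theorem r2923 : allRange chk 22 102305 35 = true := by decide +kernel
theorem r2924 : allRange chk 22 102340 35 = true := by decide +kernel
theorem r2925 : allRange chk 22 102375 35 = true := by decide +kernel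
theorem r2926 : allRange chk 22 102410 35 = true := by decide +kernel
theorem r2927 : allRange chk 22 102445 35 = true := by decide +kernel
theorem r2928 : allRange chk 22 102480 35 = true := by decide +kernel
theorem r2929 : allRange chk 22 102515 35 = true := by decide +kernel
theorem r2930 : allRange chk 22 102550 35 = true := by decide +kernel
theorem r2931 : allRange chk 22 102585 35 = true := by decide +kernel
theorem r2932 : allRange chk 22 102620 35 = true := by decide +kernel
theorem r2933 : allRange chk 22 102655 35 = true := by decide +kernel
theorem r2934 : allRange chk 22 102690 35 = true := by decide +kernel
theorem r2935 : allRange chk 22 102725 35 = true := by decide +kernel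
theorem r2936 : allRange chk 22 102760 35 = true := by decide +kernel
theorem r2937 : allRange chk 22 102795 35 = true := by decide +kernel
theorem r2938 : allRange chk 22 102830 35 = true := by decide +kernel
theorem r2939 : allRange chk 22 102865 35 = true := by decide +kernel
theorem r2940 : allRange chk 22 102900 35 = true := by decide +kernel
theorem r2941 : allRange chk 22 102935 35 = true := by decide +kernel
theorem r2942 : allRange chk 22 102970 35 = true := by decide +kernel
theorem r2943 : allRange chk 22 103005 35 = true := by decide +kernel
theorem r2944 : allRange chk 22 103040 35 = true := by decide +kernel
theorem r2945 : allRange chk 22 103075 35 = true := by decide +kernel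
theorem r2946 : allRange chk 22 103110 35 = true := by decide +kernel
theorem r2947 : allRange chk 22 103145 35 = true := by decide +kernel
theorem r2948 : allRange chk 22 103180 35 = true := by decide +kernel
theorem r2949 : allRange chk 22 103215 35 = true := by decide +kernel
theorem r2950 : allRange chk 22 103250 35 = true := by decide +kernel
theorem r2951 : allRange chk 22 103285 35 = true := by decide +kernel
theorem r2952 : allRange chk 22 103320 35 = true := by decide +kernel
theorem r2953 : allRange chk 22 103355 35 = true := by decide +kernel
theorem r2954 : allRange chk 22 103390 35 = true := by decide +kernel
theorem r2955 : allRange chk 22 103425 35 = true := by decide +kernel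
theorem r2956 : allRange chk 22 103460 35 = true := by decide +kernel
theorem r2957 : allRange chk 22 103495 35 = true := by decide +kernel
theorem r2958 : allRange chk 22 103530 35 = true := by decide +kernel
theorem r2959 : allRange chk 22 103565 35 = true := by decide +kernel
theorem r2960 : allRange chk 22 103600 35 = true := by decide +kernel
theorem r2961 : allRange chk 22 103635 35 = true := by decide +kernel
theorem r2962 : allRange chk 22 103670 35 = true := by decide +kernel
theorem r2963 : allRange chk 22 103705 35 = true := by decide +kernel
theorem r2964 : allRange chk 22 103740 35 = true := by decide +kernel
theorem r2965 : allRange chk 22 103775 35 = true := by decide +kernel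
theorem r2966 : allRange chk 22 103810 35 = true := by decide +kernel
theorem r2967 : allRange chk 22 103845 35 = true := by decide +kernel
theorem r2968 : allRange chk 22 103880 35 = true := by decide +kernel
theorem r2969 : allRange chk 22 103915 35 = true := by decide +kernel
theorem r2970 : allRange chk 22 103950 35 = true := by decide +kernel
theorem r2971 : allRange chk 22 103985 35 = true := by decide +kernel
theorem r2972 : allRange chk 22 104020 35 = true := by decide +kernel
theorem r2973 : allRange chk 22 104055 35 = true := by decide +kernel
theorem r2974 : allRange chk 22 104090 35 = true := by decide +kernel
theorem r2975 : allRange chk 22 104125 35 = true := by decide +kernel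
theorem r2976 : allRange chk 22 104160 35 = true := by decide +kernel
theorem r2977 : allRange chk 22 104195 35 = true := by decide +kernel
theorem r2978 : allRange chk 22 104230 35 = true := by decide +kernel
theorem r2979 : allRange chk 22 104265 35 = true := by decide +kernel
theorem r2980 : allRange chk 22 104300 35 = true := by decide +kernel
theorem r2981 : allRange chk 22 104335 35 = true := by decide +kernel
theorem r2982 : allRange chk 22 104370 35 = true := by decide +kernel
theorem r2983 : allRange chk 22 104405 35 = true := by decide +kernel
theorem r2984 : allRange chk 22 104440 35 = true := by decide +kernel
theorem r2985 : allRange chk 22 104475 35 = true := by decide +kernel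
theorem r2986 : allRange chk 22 104510 35 = true := by decide +kernel
theorem r2987 : allRange chk 22 104545 35 = true := by decide +kernel
theorem r2988 : allRange chk 22 104580 35 = true := by decide +kernel
theorem r2989 : allRange chk 22 104615 35 = true := by decide +kernel
theorem r2990 : allRange chk 22 104650 35 = true := by decide +kernel
theorem r2991 : allRange chk 22 104685 35 = true := by decide +kernel
theorem r2992 : allRange chk 22 104720 35 = true := by decide +kernel
theorem r2993 : allRange chk 22 104755 35 = true := by decide +kernel
theorem r2994 : allRange chk 22 104790 35 = true := by decide +kernel
theorem r2995 : allRange chk 22 104825 35 = true := by decide +kernel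
theorem r2996 : allRange chk 22 104860 35 = true := by decide +kernel
theorem r2997 : allRange chk 22 104895 35 = true := by decide +kernel
theorem r2998 : allRange chk 22 104930 35 = true := by decide +kernel
theorem r2999 : allRange chk 22 104965 35 = true := by decide +kernel
theorem r3000 : allRange chk 22 105000 35 = true := by decide +kernel
theorem r3001 : allRange chk 22 105035 35 = true := by decide +kernel
theorem r3002 : allRange chk 22 105070 35 = true := by decide +kernel
theorem r3003 : allRange chk 22 105105 35 = true := by decide +kernel
theorem r3004 : allRange chk 22 105140 35 = true := by decide +kernel
theorem r3005 : allRange chk 22 105175 35 = true := by decide +kernel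
theorem r3006 : allRange chk 22 105210 35 = true := by decide +kernel
theorem r3007 : allRange chk 22 105245 35 = true := by decide +kernel
theorem r3008 : allRange chk 22 105280 35 = true := by decide +kernel
theorem r3009 : allRange chk 22 105315 35 = true := by decide +kernel
theorem r3010 : allRange chk 22 105350 35 = true := by decide +kernel
theorem r3011 : allRange chk 22 105385 35 = true := by decide +kernel
theorem r3012 : allRange chk 22 105420 35 = true := by decide +kernel
theorem r3013 : allRange chk 22 105455 35 = true := by decide +kernel
theorem r3014 : allRange chk 22 105490 35 = true := by decide +kernel
theorem r3015 : allRange chk 22 105525 35 = true := by decide +kernel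
theorem r3016 : allRange chk 22 105560 35 = true := by decide +kernel
theorem r3017 : allRange chk 22 105595 35 = true := by decide +kernel
theorem r3018 : allRange chk 22 105630 35 = true := by decide +kernel
theorem r3019 : allRange chk 22 105665 35 = true := by decide +kernel
theorem r3020 : allRange chk 22 105700 35 = true := by decide +kernel
theorem r3021 : allRange chk 22 105735 35 = true := by decide +kernel
theorem r3022 : allRange chk 22 105770 35 = true := by decide +kernel
theorem r3023 : allRange chk 22 105805 35 = true := by decide +kernel
theorem r3024 : allRange chk 22 105840 35 = true := by decide +kernel
theorem r3025 : allRange chk 22 105875 35 = true := by decide +kernel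
theorem r3026 : allRange chk 22 105910 35 = true := by decide +kernel
theorem r3027 : allRange chk 22 105945 35 = true := by decide +kernel
theorem r3028 : allRange chk 22 105980 35 = true := by decide +kernel
theorem r3029 : allRange chk 22 106015 35 = true := by decide +kernel
theorem r3030 : allRange chk 22 106050 35 = true := by decide +kernel
theorem r3031 : allRange chk 22 106085 35 = true := by decide +kernel
theorem r3032 : allRange chk 22 106120 35 = true := by decide +kernel
theorem r3033 : allRange chk 22 106155 35 = true := by decide +kernel
theorem r3034 : allRange chk 22 106190 35 = true := by decide +kernel
theorem r3035 : allRange chk 22 106225 35 = true := by decide +kernel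
theorem r3036 : allRange chk 22 106260 35 = true := by decide +kernel
theorem r3037 : allRange chk 22 106295 35 = true := by decide +kernel
theorem r3038 : allRange chk 22 106330 35 = true := by decide +kernel
theorem r3039 : allRange chk 22 106365 35 = true := by decide +kernel
theorem r3040 : allRange chk 22 106400 35 = true := by decide +kernel
theorem r3041 : allRange chk 22 106435 35 = true := by decide +kernel
theorem r3042 : allRange chk 22 106470 35 = true := by decide +kernel
theorem r3043 : allRange chk 22 106505 35 = true := by decide +kernel
theorem r3044 : allRange chk 22 106540 35 = true := by decide +kernel
theorem r3045 : allRange chk 22 106575 35 = true := by decide +kernel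
theorem r3046 : allRange chk 22 106610 35 = true := by decide +kernel
theorem r3047 : allRange chk 22 106645 35 = true := by decide +kernel
theorem r3048 : allRange chk 22 106680 35 = true := by decide +kernel
theorem r3049 : allRange chk 22 106715 35 = true := by decide +kernel
theorem r3050 : allRange chk 22 106750 35 = true := by decide +kernel
theorem r3051 : allRange chk 22 106785 35 = true := by decide +kernel
theorem r3052 : allRange chk 22 106820 35 = true := by decide +kernel
theorem r3053 : allRange chk 22 106855 35 = true := by decide +kernel
theorem r3054 : allRange chk 22 106890 35 = true := by decide +kernel
theorem r3055 : allRange chk 22 106925 35 = true := by decide +kernel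
theorem r3056 : allRange chk 22 106960 35 = true := by decide +kernel
theorem r3057 : allRange chk 22 106995 35 = true := by decide +kernel
theorem r3058 : allRange chk 22 107030 35 = true := by decide +kernel
theorem r3059 : allRange chk 22 107065 35 = true := by decide +kernel
theorem r3060 : allRange chk 22 107100 35 = true := by decide +kernel
theorem r3061 : allRange chk 22 107135 35 = true := by decide +kernel
theorem r3062 : allRange chk 22 107170 35 = true := by decide +kernel
theorem r3063 : allRange chk 22 107205 35 = true := by decide +kernel
theorem r3064 : allRange chk 22 107240 35 = true := by decide +kernel
theorem r3065 : allRange chk 22 107275 35 = true := by decide +kernel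
theorem r3066 : allRange chk 22 107310 35 = true := by decide +kernel
theorem r3067 : allRange chk 22 107345 35 = true := by decide +kernel
theorem r3068 : allRange chk 22 107380 35 = true := by decide +kernel
theorem r3069 : allRange chk 22 107415 35 = true := by decide +kernel
theorem r3070 : allRange chk 22 107450 35 = true := by decide +kernel
theorem r3071 : allRange chk 22 107485 35 = true := by decide +kernel
theorem r3072 : allRange chk 22 107520 35 = true := by decide +kernel
theorem r3073 : allRange chk 22 107555 35 = true := by decide +kernel
theorem r3074 : allRange chk 22 107590 35 = true := by decide +kernel
theorem r3075 : allRange chk 22 107625 35 = true := by decide +kernel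
theorem r3076 : allRange chk 22 107660 35 = true := by decide +kernel
theorem r3077 : allRange chk 22 107695 35 = true := by decide +kernel
theorem r3078 : allRange chk 22 107730 35 = true := by decide +kernel
theorem r3079 : allRange chk 22 107765 35 = true := by decide +kernel
theorem r3080 : allRange chk 22 107800 35 = true := by decide +kernel
theorem r3081 : allRange chk 22 107835 35 = true := by decide +kernel
theorem r3082 : allRange chk 22 107870 35 = true := by decide +kernel
theorem r3083 : allRange chk 22 107905 35 = true := by decide +kernel
theorem r3084 : allRange chk 22 107940 35 = true := by decide +kernel
theorem r3085 : allRange chk 22 107975 35 = true := by decide +kernel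
theorem r3086 : allRange chk 22 108010 35 = true := by decide +kernel
theorem r3087 : allRange chk 22 108045 35 = true := by decide +kernel
theorem r3088 : allRange chk 22 108080 35 = true := by decide +kernel
theorem r3089 : allRange chk 22 108115 35 = true := by decide +kernel
theorem r3090 : allRange chk 22 108150 35 = true := by decide +kernel
theorem r3091 : allRange chk 22 108185 35 = true := by decide +kernel
theorem r3092 : allRange chk 22 108220 35 = true := by decide +kernel
theorem r3093 : allRange chk 22 108255 35 = true := by decide +kernel
theorem r3094 : allRange chk 22 108290 35 = true := by decide +kernel
theorem r3095 : allRange chk 22 108325 35 = true := by decide +kernel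
theorem r3096 : allRange chk 22 108360 35 = true := by decide +kernel
theorem r3097 : allRange chk 22 108395 35 = true := by decide +kernel
theorem r3098 : allRange chk 22 108430 35 = true := by decide +kernel
theorem r3099 : allRange chk 22 108465 35 = true := by decide +kernel
theorem r3100 : allRange chk 22 108500 35 = true := by decide +kernel
theorem r3101 : allRange chk 22 108535 35 = true := by decide +kernel
theorem r3102 : allRange chk 22 108570 35 = true := by decide +kernel
theorem r3103 : allRange chk 22 108605 35 = true := by decide +kernel
theorem r3104 : allRange chk 22 108640 35 = true := by decide +kernel
theorem r3105 : allRange chk 22 108675 35 = true := by decide +kernel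
theorem r3106 : allRange chk 22 108710 35 = true := by decide +kernel
theorem r3107 : allRange chk 22 108745 35 = true := by decide +kernel
theorem r3108 : allRange chk 22 108780 35 = true := by decide +kernel
theorem r3109 : allRange chk 22 108815 35 = true := by decide +kernel
theorem r3110 : allRange chk 22 108850 35 = true := by decide +kernel
theorem r3111 : allRange chk 22 108885 35 = true := by decide +kernel
theorem r3112 : allRange chk 22 108920 35 = true := by decide +kernel
theorem r3113 : allRange chk 22 108955 35 = true := by decide +kernel
theorem r3114 : allRange chk 22 108990 35 = true := by decide +kernel
theorem r3115 : allRange chk 22 109025 35 = true := by decide +kernel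
theorem r3116 : allRange chk 22 109060 35 = true := by decide +kernel
theorem r3117 : allRange chk 22 109095 35 = true := by decide +kernel
theorem r3118 : allRange chk 22 109130 35 = true := by decide +kernel
theorem r3119 : allRange chk 22 109165 35 = true := by decide +kernel
theorem r3120 : allRange chk 22 109200 35 = true := by decide +kernel
theorem r3121 : allRange chk 22 109235 35 = true := by decide +kernel
theorem r3122 : allRange chk 22 109270 35 = true := by decide +kernel
theorem r3123 : allRange chk 22 109305 35 = true := by decide +kernel
theorem r3124 : allRange chk 22 109340 35 = true := by decide +kernel
theorem r3125 : allRange chk 22 109375 35 = true := by decide +kernel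
theorem r3126 : allRange chk 22 109410 35 = true := by decide +kernel
theorem r3127 : allRange chk 22 109445 35 = true := by decide +kernel
theorem r3128 : allRange chk 22 109480 35 = true := by decide +kernel
theorem r3129 : allRange chk 22 109515 35 = true := by decide +kernel
theorem r3130 : allRange chk 22 109550 35 = true := by decide +kernel
theorem r3131 : allRange chk 22 109585 35 = true := by decide +kernel
theorem r3132 : allRange chk 22 109620 35 = true := by decide +kernel
theorem r3133 : allRange chk 22 109655 35 = true := by decide +kernel
theorem r3134 : allRange chk 22 109690 35 = true := by decide +kernel
theorem r3135 : allRange chk 22 109725 35 = true := by decide +kernel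
theorem r3136 : allRange chk 22 109760 35 = true := by decide +kernel
theorem r3137 : allRange chk 22 109795 35 = true := by decide +kernel
theorem r3138 : allRange chk 22 109830 35 = true := by decide +kernel
theorem r3139 : allRange chk 22 109865 35 = true := by decide +kernel
theorem r3140 : allRange chk 22 109900 35 = true := by decide +kernel
theorem r3141 : allRange chk 22 109935 35 = true := by decide +kernel
theorem r3142 : allRange chk 22 109970 35 = true := by decide +kernel
theorem r3143 : allRange chk 22 110005 35 = true := by decide +kernel
theorem r3144 : allRange chk 22 110040 35 = true := by decide +kernel
theorem r3145 : allRange chk 22 110075 35 = true := by decide +kernel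
theorem r3146 : allRange chk 22 110110 35 = true := by decide +kernel
theorem r3147 : allRange chk 22 110145 35 = true := by decide +kernel
theorem r3148 : allRange chk 22 110180 35 = true := by decide +kernel
theorem r3149 : allRange chk 22 110215 35 = true := by decide +kernel
theorem r3150 : allRange chk 22 110250 35 = true := by decide +kernel
theorem r3151 : allRange chk 22 110285 35 = true := by decide +kernel
theorem r3152 : allRange chk 22 110320 35 = true := by decide +kernel
theorem r3153 : allRange chk 22 110355 35 = true := by decide +kernel
theorem r3154 : allRange chk 22 110390 35 = true := by decide +kernel
theorem r3155 : allRange chk 22 110425 35 = true := by decide +kernel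
theorem r3156 : allRange chk 22 110460 35 = true := by decide +kernel
theorem r3157 : allRange chk 22 110495 35 = true := by decide +kernel
theorem r3158 : allRange chk 22 110530 35 = true := by decide +kernel
theorem r3159 : allRange chk 22 110565 35 = true := by decide +kernel
theorem r3160 : allRange chk 22 110600 35 = true := by decide +kernel
theorem r3161 : allRange chk 22 110635 35 = true := by decide +kernel
theorem r3162 : allRange chk 22 110670 35 = true := by decide +kernel
theorem r3163 : allRange chk 22 110705 35 = true := by decide +kernel
theorem r3164 : allRange chk 22 110740 35 = true := by decide +kernel
theorem r3165 : allRange chk 22 110775 35 = true := by decide +kernel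
theorem r3166 : allRange chk 22 110810 35 = true := by decide +kernel
theorem r3167 : allRange chk 22 110845 35 = true := by decide +kernel
theorem r3168 : allRange chk 22 110880 35 = true := by decide +kernel
theorem r3169 : allRange chk 22 110915 35 = true := by decide +kernel
theorem r3170 : allRange chk 22 110950 35 = true := by decide +kernel
theorem r3171 : allRange chk 22 110985 35 = true := by decide +kernel
theorem r3172 : allRange chk 22 111020 35 = true := by decide +kernel
theorem r3173 : allRange chk 22 111055 35 = true := by decide +kernel
theorem r3174 : allRange chk 22 111090 35 = true := by decide +kernel
theorem r3175 : allRange chk 22 111125 35 = true := by decide +kernel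
theorem r3176 : allRange chk 22 111160 35 = true := by decide +kernel
theorem r3177 : allRange chk 22 111195 35 = true := by decide +kernel
theorem r3178 : allRange chk 22 111230 35 = true := by decide +kernel
theorem r3179 : allRange chk 22 111265 35 = true := by decide +kernel
theorem r3180 : allRange chk 22 111300 35 = true := by decide +kernel
theorem r3181 : allRange chk 22 111335 35 = true := by decide +kernel
theorem r3182 : allRange chk 22 111370 35 = true := by decide +kernel
theorem r3183 : allRange chk 22 111405 35 = true := by decide +kernel
theorem r3184 : allRange chk 22 111440 35 = true := by decide +kernel
theorem r3185 : allRange chk 22 111475 35 = true := by decide +kernel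
theorem r3186 : allRange chk 22 111510 35 = true := by decide +kernel
theorem r3187 : allRange chk 22 111545 35 = true := by decide +kernel
theorem r3188 : allRange chk 22 111580 35 = true := by decide +kernel
theorem r3189 : allRange chk 22 111615 35 = true := by decide +kernel
theorem r3190 : allRange chk 22 111650 35 = true := by decide +kernel
theorem r3191 : allRange chk 22 111685 35 = true := by decide +kernel
theorem r3192 : allRange chk 22 111720 35 = true := by decide +kernel
theorem r3193 : allRange chk 22 111755 35 = true := by decide +kernel
theorem r3194 : allRange chk 22 111790 35 = true := by decide +kernel
theorem r3195 : allRange chk 22 111825 35 = true := by decide +kernel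
theorem r3196 : allRange chk 22 111860 35 = true := by decide +kernel
theorem r3197 : allRange chk 22 111895 35 = true := by decide +kernel
theorem r3198 : allRange chk 22 111930 35 = true := by decide +kernel
theorem r3199 : allRange chk 22 111965 35 = true := by decide +kernel
theorem r3200 : allRange chk 22 112000 35 = true := by decide +kernel
theorem r3201 : allRange chk 22 112035 35 = true := by decide +kernel
theorem r3202 : allRange chk 22 112070 35 = true := by decide +kernel
theorem r3203 : allRange chk 22 112105 35 = true := by decide +kernel
theorem r3204 : allRange chk 22 112140 35 = true := by decide +kernel
theorem r3205 : allRange chk 22 112175 35 = true := by decide +kernel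
theorem r3206 : allRange chk 22 112210 35 = true := by decide +kernel
theorem r3207 : allRange chk 22 112245 35 = true := by decide +kernel
theorem r3208 : allRange chk 22 112280 35 = true := by decide +kernel
theorem r3209 : allRange chk 22 112315 35 = true := by decide +kernel
theorem r3210 : allRange chk 22 112350 35 = true := by decide +kernel
theorem r3211 : allRange chk 22 112385 35 = true := by decide +kernel
theorem r3212 : allRange chk 22 112420 35 = true := by decide +kernel
theorem r3213 : allRange chk 22 112455 35 = true := by decide +kernel
theorem r3214 : allRange chk 22 112490 35 = true := by decide +kernel
theorem r3215 : allRange chk 22 112525 35 = true := by decide +kernel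
theorem r3216 : allRange chk 22 112560 35 = true := by decide +kernel
theorem r3217 : allRange chk 22 112595 35 = true := by decide +kernel
theorem r3218 : allRange chk 22 112630 35 = true := by decide +kernel
theorem r3219 : allRange chk 22 112665 35 = true := by decide +kernel
theorem r3220 : allRange chk 22 112700 35 = true := by decide +kernel
theorem r3221 : allRange chk 22 112735 35 = true := by decide +kernel
theorem r3222 : allRange chk 22 112770 35 = true := by decide +kernel
theorem r3223 : allRange chk 22 112805 35 = true := by decide +kernel
theorem r3224 : allRange chk 22 112840 35 = true := by decide +kernel
theorem r3225 : allRange chk 22 112875 35 = true := by decide +kernel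
theorem r3226 : allRange chk 22 112910 35 = true := by decide +kernel
theorem r3227 : allRange chk 22 112945 35 = true := by decide +kernel
theorem r3228 : allRange chk 22 112980 35 = true := by decide +kernel
theorem r3229 : allRange chk 22 113015 35 = true := by decide +kernel
theorem r3230 : allRange chk 22 113050 35 = true := by decide +kernel
theorem r3231 : allRange chk 22 113085 35 = true := by decide +kernel
theorem r3232 : allRange chk 22 113120 35 = true := by decide +kernel
theorem r3233 : allRange chk 22 113155 35 = true := by decide +kernel
theorem r3234 : allRange chk 22 113190 35 = true := by decide +kernel
theorem r3235 : allRange chk 22 113225 35 = true := by decide +kernel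
theorem r3236 : allRange chk 22 113260 35 = true := by decide +kernel
theorem r3237 : allRange chk 22 113295 35 = true := by decide +kernel
theorem r3238 : allRange chk 22 113330 35 = true := by decide +kernel
theorem r3239 : allRange chk 22 113365 35 = true := by decide +kernel
theorem r3240 : allRange chk 22 113400 35 = true := by decide +kernel
theorem r3241 : allRange chk 22 113435 35 = true := by decide +kernel
theorem r3242 : allRange chk 22 113470 35 = true := by decide +kernel
theorem r3243 : allRange chk 22 113505 35 = true := by decide +kernel
theorem r3244 : allRange chk 22 113540 35 = true := by decide +kernel
theorem r3245 : allRange chk 22 113575 35 = true := by decide +kernel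
theorem r3246 : allRange chk 22 113610 35 = true := by decide +kernel
theorem r3247 : allRange chk 22 113645 35 = true := by decide +kernel
theorem r3248 : allRange chk 22 113680 35 = true := by decide +kernel
theorem r3249 : allRange chk 22 113715 35 = true := by decide +kernel
theorem r3250 : allRange chk 22 113750 35 = true := by decide +kernel
theorem r3251 : allRange chk 22 113785 35 = true := by decide +kernel
theorem r3252 : allRange chk 22 113820 35 = true := by decide +kernel
theorem r3253 : allRange chk 22 113855 35 = true := by decide +kernel
theorem r3254 : allRange chk 22 113890 35 = true := by decide +kernel
theorem r3255 : allRange chk 22 113925 35 = true := by decide +kernel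
theorem r3256 : allRange chk 22 113960 35 = true := by decide +kernel
theorem r3257 : allRange chk 22 113995 35 = true := by decide +kernel
theorem r3258 : allRange chk 22 114030 35 = true := by decide +kernel
theorem r3259 : allRange chk 22 114065 35 = true := by decide +kernel
theorem r3260 : allRange chk 22 114100 35 = true := by decide +kernel
theorem r3261 : allRange chk 22 114135 35 = true := by decide +kernel
theorem r3262 : allRange chk 22 114170 35 = true := by decide +kernel
theorem r3263 : allRange chk 22 114205 35 = true := by decide +kernel
theorem r3264 : allRange chk 22 114240 35 = true := by decide +kernel
theorem r3265 : allRange chk 22 114275 35 = true := by decide +kernel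
theorem r3266 : allRange chk 22 114310 35 = true := by decide +kernel
theorem r3267 : allRange chk 22 114345 35 = true := by decide +kernel
theorem r3268 : allRange chk 22 114380 35 = true := by decide +kernel
theorem r3269 : allRange chk 22 114415 35 = true := by decide +kernel
theorem r3270 : allRange chk 22 114450 35 = true := by decide +kernel
theorem r3271 : allRange chk 22 114485 35 = true := by decide +kernel
theorem r3272 : allRange chk 22 114520 35 = true := by decide +kernel
theorem r3273 : allRange chk 22 114555 35 = true := by decide +kernel
theorem r3274 : allRange chk 22 114590 35 = true := by decide +kernel
theorem r3275 : allRange chk 22 114625 35 = true := by decide +kernel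
theorem r3276 : allRange chk 22 114660 35 = true := by decide +kernel
theorem r3277 : allRange chk 22 114695 35 = true := by decide +kernel
theorem r3278 : allRange chk 22 114730 35 = true := by decide +kernel
theorem r3279 : allRange chk 22 114765 35 = true := by decide +kernel
theorem r3280 : allRange chk 22 114800 35 = true := by decide +kernel
theorem r3281 : allRange chk 22 114835 35 = true := by decide +kernel
theorem r3282 : allRange chk 22 114870 35 = true := by decide +kernel
theorem r3283 : allRange chk 22 114905 35 = true := by decide +kernel
theorem r3284 : allRange chk 22 114940 35 = true := by decide +kernel
theorem r3285 : allRange chk 22 114975 35 = true := by decide +kernel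
theorem r3286 : allRange chk 22 115010 35 = true := by decide +kernel
theorem r3287 : allRange chk 22 115045 35 = true := by decide +kernel
theorem r3288 : allRange chk 22 115080 35 = true := by decide +kernel
theorem r3289 : allRange chk 22 115115 35 = true := by decide +kernel
theorem r3290 : allRange chk 22 115150 35 = true := by decide +kernel
theorem r3291 : allRange chk 22 115185 35 = true := by decide +kernel
theorem r3292 : allRange chk 22 115220 35 = true := by decide +kernel
theorem r3293 : allRange chk 22 115255 35 = true := by decide +kernel
theorem r3294 : allRange chk 22 115290 35 = true := by decide +kernel
theorem r3295 : allRange chk 22 115325 35 = true := by decide +kernel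
theorem r3296 : allRange chk 22 115360 35 = true := by decide +kernel
theorem r3297 : allRange chk 22 115395 35 = true := by decide +kernel
theorem r3298 : allRange chk 22 115430 35 = true := by decide +kernel
theorem r3299 : allRange chk 22 115465 35 = true := by decide +kernel
theorem r3300 : allRange chk 22 115500 35 = true := by decide +kernel
theorem r3301 : allRange chk 22 115535 35 = true := by decide +kernel
theorem r3302 : allRange chk 22 115570 35 = true := by decide +kernel
theorem r3303 : allRange chk 22 115605 35 = true := by decide +kernel
theorem r3304 : allRange chk 22 115640 35 = true := by decide +kernel
theorem r3305 : allRange chk 22 115675 35 = true := by decide +kernel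
theorem r3306 : allRange chk 22 115710 35 = true := by decide +kernel
theorem r3307 : allRange chk 22 115745 35 = true := by decide +kernel
theorem r3308 : allRange chk 22 115780 35 = true := by decide +kernel
theorem r3309 : allRange chk 22 115815 35 = true := by decide +kernel
theorem r3310 : allRange chk 22 115850 35 = true := by decide +kernel
theorem r3311 : allRange chk 22 115885 35 = true := by decide +kernel
theorem r3312 : allRange chk 22 115920 35 = true := by decide +kernel
theorem r3313 : allRange chk 22 115955 35 = true := by decide +kernel
theorem r3314 : allRange chk 22 115990 35 = true := by decide +kernel
theorem r3315 : allRange chk 22 116025 35 = true := by decide +kernel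
theorem r3316 : allRange chk 22 116060 35 = true := by decide +kernel
theorem r3317 : allRange chk 22 116095 35 = true := by decide +kernel
theorem r3318 : allRange chk 22 116130 35 = true := by decide +kernel
theorem r3319 : allRange chk 22 116165 35 = true := by decide +kernel
theorem r3320 : allRange chk 22 116200 35 = true := by decide +kernel
theorem r3321 : allRange chk 22 116235 35 = true := by decide +kernel
theorem r3322 : allRange chk 22 116270 35 = true := by decide +kernel
theorem r3323 : allRange chk 22 116305 35 = true := by decide +kernel
theorem r3324 : allRange chk 22 116340 35 = true := by decide +kernel
theorem r3325 : allRange chk 22 116375 35 = true := by decide +kernel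
theorem r3326 : allRange chk 22 116410 35 = true := by decide +kernel
theorem r3327 : allRange chk 22 116445 35 = true := by decide +kernel
theorem r3328 : allRange chk 22 116480 35 = true := by decide +kernel
theorem r3329 : allRange chk 22 116515 35 = true := by decide +kernel
theorem r3330 : allRange chk 22 116550 35 = true := by decide +kernel
theorem r3331 : allRange chk 22 116585 35 = true := by decide +kernel
theorem r3332 : allRange chk 22 116620 35 = true := by decide +kernel
theorem r3333 : allRange chk 22 116655 35 = true := by decide +kernel
theorem r3334 : allRange chk 22 116690 35 = true := by decide +kernel
theorem r3335 : allRange chk 22 116725 35 = true := by decide +kernel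
theorem r3336 : allRange chk 22 116760 35 = true := by decide +kernel
theorem r3337 : allRange chk 22 116795 35 = true := by decide +kernel
theorem r3338 : allRange chk 22 116830 35 = true := by decide +kernel
theorem r3339 : allRange chk 22 116865 35 = true := by decide +kernel
theorem r3340 : allRange chk 22 116900 35 = true := by decide +kernel
theorem r3341 : allRange chk 22 116935 35 = true := by decide +kernel
theorem r3342 : allRange chk 22 116970 35 = true := by decide +kernel
theorem r3343 : allRange chk 22 117005 35 = true := by decide +kernel
theorem r3344 : allRange chk 22 117040 35 = true := by decide +kernel
theorem r3345 : allRange chk 22 117075 35 = true := by decide +kernel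
theorem r3346 : allRange chk 22 117110 35 = true := by decide +kernel
theorem r3347 : allRange chk 22 117145 35 = true := by decide +kernel
theorem r3348 : allRange chk 22 117180 35 = true := by decide +kernel
theorem r3349 : allRange chk 22 117215 35 = true := by decide +kernel
theorem r3350 : allRange chk 22 117250 35 = true := by decide +kernel
theorem r3351 : allRange chk 22 117285 35 = true := by decide +kernel
theorem r3352 : allRange chk 22 117320 35 = true := by decide +kernel
theorem r3353 : allRange chk 22 117355 35 = true := by decide +kernel
theorem r3354 : allRange chk 22 117390 35 = true := by decide +kernel
theorem r3355 : allRange chk 22 117425 35 = true := by decide +kernel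
theorem r3356 : allRange chk 22 117460 35 = true := by decide +kernel
theorem r3357 : allRange chk 22 117495 35 = true := by decide +kernel
theorem r3358 : allRange chk 22 117530 35 = true := by decide +kernel
theorem r3359 : allRange chk 22 117565 35 = true := by decide +kernel
theorem r3360 : allRange chk 22 117600 35 = true := by decide +kernel
theorem r3361 : allRange chk 22 117635 35 = true := by decide +kernel
theorem r3362 : allRange chk 22 117670 35 = true := by decide +kernel
theorem r3363 : allRange chk 22 117705 35 = true := by decide +kernel
theorem r3364 : allRange chk 22 117740 35 = true := by decide +kernel
theorem r3365 : allRange chk 22 117775 35 = true := by decide +kernel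
theorem r3366 : allRange chk 22 117810 35 = true := by decide +kernel
theorem r3367 : allRange chk 22 117845 35 = true := by decide +kernel
theorem r3368 : allRange chk 22 117880 35 = true := by decide +kernel
theorem r3369 : allRange chk 22 117915 35 = true := by decide +kernel
theorem r3370 : allRange chk 22 117950 35 = true := by decide +kernel
theorem r3371 : allRange chk 22 117985 35 = true := by decide +kernel
theorem r3372 : allRange chk 22 118020 35 = true := by decide +kernel
theorem r3373 : allRange chk 22 118055 35 = true := by decide +kernel
theorem r3374 : allRange chk 22 118090 35 = true := by decide +kernel
theorem r3375 : allRange chk 22 118125 35 = true := by decide +kernel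
theorem r3376 : allRange chk 22 118160 35 = true := by decide +kernel
theorem r3377 : allRange chk 22 118195 35 = true := by decide +kernel
theorem r3378 : allRange chk 22 118230 35 = true := by decide +kernel
theorem r3379 : allRange chk 22 118265 35 = true := by decide +kernel
theorem r3380 : allRange chk 22 118300 35 = true := by decide +kernel
theorem r3381 : allRange chk 22 118335 35 = true := by decide +kernel
theorem r3382 : allRange chk 22 118370 35 = true := by decide +kernel
theorem r3383 : allRange chk 22 118405 35 = true := by decide +kernel
theorem r3384 : allRange chk 22 118440 35 = true := by decide +kernel
theorem r3385 : allRange chk 22 118475 35 = true := by decide +kernel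
theorem r3386 : allRange chk 22 118510 35 = true := by decide +kernel
theorem r3387 : allRange chk 22 118545 35 = true := by decide +kernel
theorem r3388 : allRange chk 22 118580 35 = true := by decide +kernel
theorem r3389 : allRange chk 22 118615 35 = true := by decide +kernel
theorem r3390 : allRange chk 22 118650 35 = true := by decide +kernel
theorem r3391 : allRange chk 22 118685 35 = true := by decide +kernel
theorem r3392 : allRange chk 22 118720 35 = true := by decide +kernel
theorem r3393 : allRange chk 22 118755 35 = true := by decide +kernel
theorem r3394 : allRange chk 22 118790 35 = true := by decide +kernel
theorem r3395 : allRange chk 22 118825 35 = true := by decide +kernel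
theorem r3396 : allRange chk 22 118860 35 = true := by decide +kernel
theorem r3397 : allRange chk 22 118895 35 = true := by decide +kernel
theorem r3398 : allRange chk 22 118930 35 = true := by decide +kernel
theorem r3399 : allRange chk 22 118965 35 = true := by decide +kernel
theorem r3400 : allRange chk 22 119000 35 = true := by decide +kernel
theorem r3401 : allRange chk 22 119035 35 = true := by decide +kernel
theorem r3402 : allRange chk 22 119070 35 = true := by decide +kernel
theorem r3403 : allRange chk 22 119105 35 = true := by decide +kernel
theorem r3404 : allRange chk 22 119140 35 = true := by decide +kernel
theorem r3405 : allRange chk 22 119175 35 = true := by decide +kernel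
theorem r3406 : allRange chk 22 119210 35 = true := by decide +kernel
theorem r3407 : allRange chk 22 119245 35 = true := by decide +kernel
theorem r3408 : allRange chk 22 119280 35 = true := by decide +kernel
theorem r3409 : allRange chk 22 119315 35 = true := by decide +kernel
theorem r3410 : allRange chk 22 119350 35 = true := by decide +kernel
theorem r3411 : allRange chk 22 119385 35 = true := by decide +kernel
theorem r3412 : allRange chk 22 119420 35 = true := by decide +kernel
theorem r3413 : allRange chk 22 119455 35 = true := by decide +kernel
theorem r3414 : allRange chk 22 119490 35 = true := by decide +kernel
theorem r3415 : allRange chk 22 119525 35 = true := by decide +kernel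
theorem r3416 : allRange chk 22 119560 35 = true := by decide +kernel
theorem r3417 : allRange chk 22 119595 35 = true := by decide +kernel
theorem r3418 : allRange chk 22 119630 35 = true := by decide +kernel
theorem r3419 : allRange chk 22 119665 35 = true := by decide +kernel
theorem r3420 : allRange chk 22 119700 35 = true := by decide +kernel
theorem r3421 : allRange chk 22 119735 35 = true := by decide +kernel
theorem r3422 : allRange chk 22 119770 35 = true := by decide +kernel
theorem r3423 : allRange chk 22 119805 35 = true := by decide +kernel
theorem r3424 : allRange chk 22 119840 35 = true := by decide +kernel
theorem r3425 : allRange chk 22 119875 35 = true := by decide +kernel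
theorem r3426 : allRange chk 22 119910 35 = true := by decide +kernel
theorem r3427 : allRange chk 22 119945 35 = true := by decide +kernel
theorem r3428 : allRange chk 22 119980 35 = true := by decide +kernel
theorem r3429 : allRange chk 22 120015 35 = true := by decide +kernel
theorem r3430 : allRange chk 22 120050 35 = true := by decide +kernel
theorem r3431 : allRange chk 22 120085 35 = true := by decide +kernel
theorem r3432 : allRange chk 22 120120 35 = true := by decide +kernel
theorem r3433 : allRange chk 22 120155 35 = true := by decide +kernel
theorem r3434 : allRange chk 22 120190 35 = true := by decide +kernel
theorem r3435 : allRange chk 22 120225 35 = true := by decide +kernel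
theorem r3436 : allRange chk 22 120260 35 = true := by decide +kernel
theorem r3437 : allRange chk 22 120295 35 = true := by decide +kernel
theorem r3438 : allRange chk 22 120330 35 = true := by decide +kernel
theorem r3439 : allRange chk 22 120365 35 = true := by decide +kernel
theorem r3440 : allRange chk 22 120400 35 = true := by decide +kernel
theorem r3441 : allRange chk 22 120435 35 = true := by decide +kernel
theorem r3442 : allRange chk 22 120470 35 = true := by decide +kernel
theorem r3443 : allRange chk 22 120505 35 = true := by decide +kernel
theorem r3444 : allRange chk 22 120540 35 = true := by decide +kernel
theorem r3445 : allRange chk 22 120575 35 = true := by decide +kernel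
theorem r3446 : allRange chk 22 120610 35 = true := by decide +kernel
theorem r3447 : allRange chk 22 120645 35 = true := by decide +kernel
theorem r3448 : allRange chk 22 120680 35 = true := by decide +kernel
theorem r3449 : allRange chk 22 120715 35 = true := by decide +kernel
theorem r3450 : allRange chk 22 120750 35 = true := by decide +kernel
theorem r3451 : allRange chk 22 120785 35 = true := by decide +kernel
theorem r3452 : allRange chk 22 120820 35 = true := by decide +kernel
theorem r3453 : allRange chk 22 120855 35 = true := by decide +kernel
theorem r3454 : allRange chk 22 120890 35 = true := by decide +kernel
theorem r3455 : allRange chk 22 120925 35 = true := by decide +kernel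
theorem r3456 : allRange chk 22 120960 35 = true := by decide +kernel
theorem r3457 : allRange chk 22 120995 35 = true := by decide +kernel
theorem r3458 : allRange chk 22 121030 35 = true := by decide +kernel
theorem r3459 : allRange chk 22 121065 35 = true := by decide +kernel
theorem r3460 : allRange chk 22 121100 35 = true := by decide +kernel
theorem r3461 : allRange chk 22 121135 35 = true := by decide +kernel
theorem r3462 : allRange chk 22 121170 35 = true := by decide +kernel
theorem r3463 : allRange chk 22 121205 35 = true := by decide +kernel
theorem r3464 : allRange chk 22 121240 35 = true := by decide +kernel
theorem r3465 : allRange chk 22 121275 35 = true := by decide +kernel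
theorem r3466 : allRange chk 22 121310 35 = true := by decide +kernel
theorem r3467 : allRange chk 22 121345 35 = true := by decide +kernel
theorem r3468 : allRange chk 22 121380 35 = true := by decide +kernel
theorem r3469 : allRange chk 22 121415 35 = true := by decide +kernel
theorem r3470 : allRange chk 22 121450 35 = true := by decide +kernel
theorem r3471 : allRange chk 22 121485 35 = true := by decide +kernel
theorem r3472 : allRange chk 22 121520 35 = true := by decide +kernel
theorem r3473 : allRange chk 22 121555 35 = true := by decide +kernel
theorem r3474 : allRange chk 22 121590 35 = true := by decide +kernel
theorem r3475 : allRange chk 22 121625 35 = true := by decide +kernel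
theorem r3476 : allRange chk 22 121660 35 = true := by decide +kernel
theorem r3477 : allRange chk 22 121695 35 = true := by decide +kernel
theorem r3478 : allRange chk 22 121730 35 = true := by decide +kernel
theorem r3479 : allRange chk 22 121765 35 = true := by decide +kernel
theorem r3480 : allRange chk 22 121800 35 = true := by decide +kernel
theorem r3481 : allRange chk 22 121835 35 = true := by decide +kernel
theorem r3482 : allRange chk 22 121870 35 = true := by decide +kernel
theorem r3483 : allRange chk 22 121905 35 = true := by decide +kernel
theorem r3484 : allRange chk 22 121940 35 = true := by decide +kernel
theorem r3485 : allRange chk 22 121975 35 = true := by decide +kernel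
theorem r3486 : allRange chk 22 122010 35 = true := by decide +kernel
theorem r3487 : allRange chk 22 122045 35 = true := by decide +kernel
theorem r3488 : allRange chk 22 122080 35 = true := by decide +kernel
theorem r3489 : allRange chk 22 122115 35 = true := by decide +kernel
theorem r3490 : allRange chk 22 122150 35 = true := by decide +kernel
theorem r3491 : allRange chk 22 122185 35 = true := by decide +kernel
theorem r3492 : allRange chk 22 122220 35 = true := by decide +kernel
theorem r3493 : allRange chk 22 122255 35 = true := by decide +kernel
theorem r3494 : allRange chk 22 122290 35 = true := by decide +kernel
theorem r3495 : allRange chk 22 122325 35 = true := by decide +kernel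
theorem r3496 : allRange chk 22 122360 35 = true := by decide +kernel
theorem r3497 : allRange chk 22 122395 35 = true := by decide +kernel
theorem r3498 : allRange chk 22 122430 35 = true := by decide +kernel
theorem r3499 : allRange chk 22 122465 35 = true := by decide +kernel
theorem r3500 : allRange chk 22 122500 35 = true := by decide +kernel
theorem r3501 : allRange chk 22 122535 35 = true := by decide +kernel
theorem r3502 : allRange chk 22 122570 35 = true := by decide +kernel
theorem r3503 : allRange chk 22 122605 35 = true := by decide +kernel
theorem r3504 : allRange chk 22 122640 35 = true := by decide +kernel
theorem r3505 : allRange chk 22 122675 35 = true := by decide +kernel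
theorem r3506 : allRange chk 22 122710 35 = true := by decide +kernel
theorem r3507 : allRange chk 22 122745 15 = true := by decide +kernel

end Cfsg.Agent.Lib.Helper28_ONLB0
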